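import Mathlib
import Cfsg.Prelude.Def_Local
import Cfsg.Agent.Lib.Helper2.Components3
import Cfsg.Agent.Lib.Helper2.Cores
import Cfsg.Agent.Lib.Helper1.SubnormalFitting

set_option autoImplicit false
set_option linter.style.haveILetI false

namespace Cfsg.Agent.Lib.Helper8

open Cfsg

variable {G : Type*} [Group G]

/-- A component centralizes every solvable subgroup which it normalizes. -/
theorem component_commutator_solvable {L H : Subgroup G} (hL : IsComponent L)
    (hsolv : Group.IsSolvable ↥H) (hinv : L ≤ Subgroup.normalizer (H : Set G)) : ⁅L, H⁆ = ⊥ := by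
  rcases Cfsg.Agent.Lib.Helper2.isComponent_le_or_commutator_eq_bot_of_le_normalizer hL hinv
    with h | h
  · exfalso
    have hs : Group.IsSolvable ↥L :=
      Group.isSolvable_of_isSolvable_injective (Subgroup.inclusion_injective h)
    have hp : Group.IsPerfect ↥L := hL.2.1
    have hne : Nontrivial ↥L :=
      (Subgroup.nontrivial_iff_ne_bot L).2 (Cfsg.Agent.Lib.Helper2.isComponent_ne_bot hL)
    exact Group.IsPerfect.not_isSolvable ↥L hs
  · rw [Subgroup.commutator_comm]; exact h

/-- The layer centralizes every solvable normal subgroup. -/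
theorem commutator_layer_solvable_normal (N : Subgroup G) [N.Normal]
    (hsolv : Group.IsSolvable ↥N) : ⁅layer G, N⁆ = ⊥ := by
  rw [eq_bot_iff]
  unfold layer
  apply Cfsg.Agent.Lib.Helper2.commutator_sSup_le
  intro L hL
  rw [component_commutator_solvable hL hsolv]
  rw [Subgroup.normalizer_eq_top]
  exact le_top

/-- The layer centralizes the Fitting subgroup. -/
theorem commutator_layer_fitting [Finite G] : ⁅layer G, fittingSubgroup G⁆ = ⊥ := by
  haveI : (fittingSubgroup G).Normal := Cfsg.Agent.Lib.Helper2.fittingSubgroup_normal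
  haveI : Group.IsNilpotent ↥(fittingSubgroup G) :=
    Cfsg.Agent.Lib.Helper2.fittingSubgroup_isNilpotent
  exact commutator_layer_solvable_normal (fittingSubgroup G) inferInstance

theorem generalizedFittingSubgroup_normal : (generalizedFittingSubgroup G).Normal := by
  haveI : (fittingSubgroup G).Normal := Cfsg.Agent.Lib.Helper2.fittingSubgroup_normal
  haveI : (layer G).Normal := Cfsg.Agent.Lib.Helper2.layer_normal
  unfold generalizedFittingSubgroup
  infer_instance

/-- A central extension of a quasisimple group has a quasisimple commutator subgroup. -/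
theorem isQuasisimple_commutator_of_central {X Q : Type*} [Group X] [Group Q] (f : X →* Q)
    (hf : Function.Surjective f) (hker : f.ker ≤ Subgroup.center X) (hQ : IsQuasisimple Q) :
    commutator X ⊔ f.ker = ⊤ ∧ IsQuasisimple ↥(commutator X) := by
  have hmap : (commutator X).map f = ⊤ := by
    have hc : commutator Q = ⊤ := hQ.1.commutator_eq_top
    rw [commutator_def]
    have h1 : (⊤ : Subgroup Q) = (⊤ : Subgroup X).map f :=
      (Subgroup.map_top_of_surjective _ hf).symm
    rw [Subgroup.map_commutator, ← h1]
    exact hc
  have hsup : commutator X ⊔ f.ker = ⊤ := by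
    have := congrArg (Subgroup.comap f) hmap
    rwa [Subgroup.comap_map_eq, Subgroup.comap_top] at this
  refine ⟨hsup, ?_⟩
  have hperf : ⁅commutator X, commutator X⁆ = commutator X := by
    apply le_antisymm (Subgroup.commutator_le_left _ _)
    have h1 : commutator X = ⁅commutator X ⊔ f.ker, commutator X ⊔ f.ker⁆ := by
      rw [hsup, commutator_def]
    conv_lhs => rw [h1]
    have : (⁅commutator X, commutator X⁆).Normal := Subgroup.commutator_normal _ _
    have hz1 : ∀ A : Subgroup X, ⁅A, f.ker⁆ = ⊥ := by
      intro A
      rw [eq_bot_iff]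
      refine (Subgroup.commutator_mono le_rfl hker).trans ?_
      rw [Subgroup.commutator_center_right]
    have hz2 : ∀ A : Subgroup X, ⁅f.ker, A⁆ = ⊥ := by
      intro A
      rw [Subgroup.commutator_comm]; exact hz1 A
    apply Cfsg.Agent.Lib.Helper2.commutator_sup_le
    · apply Cfsg.Agent.Lib.Helper2.commutator_sup_le'
      · exact le_rfl
      · rw [hz1]; exact bot_le
    · rw [hz2]; exact bot_le
  have hP : Group.IsPerfect ↥(commutator X) := Subgroup.isPerfect_iff.2 hperf
  let θ : ↥(commutator X) →* Q := f.comp (commutator X).subtype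
  have hθ : Function.Surjective θ := by
    intro y
    have : y ∈ (commutator X).map f := by rw [hmap]; trivial
    obtain ⟨x, hx, rfl⟩ := this
    exact ⟨⟨x, hx⟩, rfl⟩
  have hkerθ : θ.ker ≤ Subgroup.center ↥(commutator X) := by
    intro x hx
    have hx' : (x : X) ∈ Subgroup.center X := hker hx
    rw [Subgroup.mem_center_iff]
    intro g
    ext
    exact Subgroup.mem_center_iff.1 hx' g
  exact Cfsg.Agent.Lib.Helper2.isQuasisimple_of_surjective_central hP θ hθ hkerθ hQ

/-- A subnormal subgroup `S` with a central subgroup `Z` and `S/Z` simple non-abelian has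
`⁅S, S⁆` a component. Stated through a surjection of `S` onto a simple non-abelian group. -/
theorem isComponent_commutator_of_simple_quotient {S : Subgroup G} (hS : S.IsSubnormal)
    {Q : Type*} [Group Q] [IsSimpleGroup Q] (hna : ¬ ∀ a b : Q, a * b = b * a)
    (f : ↥S →* Q) (hf : Function.Surjective f) (hker : f.ker ≤ Subgroup.center ↥S) :
    IsComponent ((commutator ↥S).map S.subtype) := by
  have hQ : IsQuasisimple Q := Cfsg.Agent.Lib.Helper2.isQuasisimple_of_simple hna
  obtain ⟨-, hq⟩ := isQuasisimple_commutator_of_central f hf hker hQ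
  refine ⟨?_, ?_⟩
  · have : (commutator ↥S).Normal := inferInstance
    exact this.isSubnormal.trans' hS
  · exact Cfsg.Agent.Lib.Helper2.isQuasisimple_of_mulEquiv
      ((commutator ↥S).equivMapOfInjective S.subtype S.subtype_injective).symm hq

end Cfsg.Agent.Lib.Helper8
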