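import Mathlib
import Cfsg.Prelude.Def_Local
import Cfsg.Agent.Lib.Helper8.Layer

set_option autoImplicit false
set_option linter.style.haveILetI false

namespace Cfsg.Agent.Lib.Helper8

open Cfsg

variable {G : Type*} [Group G]

/-- Bender: the generalized Fitting subgroup contains its own centralizer. -/
theorem centralizer_generalizedFittingSubgroup_le [Finite G] :
    Subgroup.centralizer (generalizedFittingSubgroup G : Set G) ≤ generalizedFittingSubgroup G := by
  haveI hFn : (generalizedFittingSubgroup G).Normal := generalizedFittingSubgroup_normal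
  set F := generalizedFittingSubgroup G with hF
  set C := Subgroup.centralizer (F : Set G) with hC
  haveI hCn : C.Normal := Subgroup.normal_centralizer
  by_contra hcon
  set Z := C ⊓ F with hZ
  haveI hZn : Z.Normal := inferInstance
  -- `Z` is centralized by `C`
  have hZC : ∀ z ∈ Z, ∀ c ∈ C, c * z = z * c := by
    intro z hz c hc
    exact (Subgroup.mem_centralizer_iff.1 hc z hz.2).symm
  -- the image of `C` in `G ⧸ Z` is nontrivial
  have hCbar : C.map (QuotientGroup.mk' Z) ≠ ⊥ := by
    intro h
    rw [Subgroup.map_eq_bot_iff, QuotientGroup.ker_mk'] at h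
    exact hcon (h.trans inf_le_right)
  have hCbarn : (C.map (QuotientGroup.mk' Z)).Normal :=
    Subgroup.Normal.map hCn _ (QuotientGroup.mk'_surjective Z)
  obtain ⟨T, hTC, hTsn, hTs⟩ :=
    Cfsg.Agent.Lib.Helper2.exists_simple_subnormal_le _ hCbarn.isSubnormal hCbar
  set S := T.comap (QuotientGroup.mk' Z) with hSdef
  have hSsn : S.IsSubnormal := hTsn.comap _
  have hSC : S ≤ C := by
    have h1 : S ≤ (C.map (QuotientGroup.mk' Z)).comap (QuotientGroup.mk' Z) :=
      Subgroup.comap_mono hTC
    rw [Subgroup.comap_map_eq, QuotientGroup.ker_mk'] at h1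
    exact h1.trans (sup_le le_rfl inf_le_left)
  have hZS : Z ≤ S := by
    have := (QuotientGroup.mk' Z).ker_le_comap T
    rwa [QuotientGroup.ker_mk'] at this
  -- the restricted quotient map `S → T`
  let f : ↥S →* ↥T :=
    ((QuotientGroup.mk' Z).comp S.subtype).codRestrict T (fun x => x.2)
  have hf : Function.Surjective f := by
    rintro ⟨t, ht⟩
    obtain ⟨x, rfl⟩ := QuotientGroup.mk'_surjective Z t
    exact ⟨⟨x, ht⟩, rfl⟩
  have hker : f.ker ≤ Subgroup.center ↥S := by
    intro x hx
    have h1 : QuotientGroup.mk' Z (x : G) = 1 := congrArg Subtype.val hx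
    rw [QuotientGroup.mk'_apply, QuotientGroup.eq_one_iff] at h1
    rw [Subgroup.mem_center_iff]
    intro g
    ext
    exact hZC _ h1 _ (hSC g.2)
  have hZZ : ⁅Z, Z⁆ = ⊥ := by
    rw [Subgroup.commutator_eq_bot_iff_le_centralizer]
    intro z hz
    rw [Subgroup.mem_centralizer_iff]
    intro w hw
    exact hZC z hz w hw.1
  have hTne : Nontrivial ↥T := hTs.toNontrivial
  by_cases hab : ∀ a b : ↥T, a * b = b * a
  · -- abelian case: `S` is nilpotent, hence inside the Fitting subgroup
    have hTnil : Group.IsNilpotent ↥T := by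
      letI : CommGroup ↥T := { (inferInstance : Group ↥T) with mul_comm := hab }
      infer_instance
    have hSnil : Group.IsNilpotent ↥S := Subgroup.isNilpotent_of_ker_le_center f hker
    have hSF : S ≤ F := by
      refine (Cfsg.Agent.Lib.Helper1.le_fittingSubgroup_of_isSubnormal_of_isNilpotent hSsn
        hSnil).trans ?_
      rw [hF]; unfold generalizedFittingSubgroup; exact le_sup_right
    have hSZ : S ≤ Z := le_inf hSC hSF
    obtain ⟨t, ht⟩ := exists_ne (1 : ↥T)
    obtain ⟨x, hx⟩ := hf t
    have : f x = 1 := by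
      apply Subtype.ext
      show QuotientGroup.mk' Z (x : G) = 1
      rw [QuotientGroup.mk'_apply, QuotientGroup.eq_one_iff]
      exact hSZ x.2
    exact ht (hx ▸ this)
  · -- non-abelian case: the commutator subgroup of `S` is a component
    have hcomp := isComponent_commutator_of_simple_quotient hSsn hab f hf hker
    set D := (commutator ↥S).map S.subtype with hD
    have hDS : D ≤ S := Subgroup.map_subtype_le _
    have hDF : D ≤ F := by
      refine (Cfsg.Agent.Lib.Helper2.le_layer hcomp).trans ?_
      rw [hF]; unfold generalizedFittingSubgroup; exact le_sup_left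
    have hDZ : D ≤ Z := le_inf (hDS.trans hSC) hDF
    have h1 : ⁅D, D⁆ = D := Cfsg.Agent.Lib.Helper2.isComponent_perfect hcomp
    have h2 : ⁅D, D⁆ ≤ ⁅Z, Z⁆ := Subgroup.commutator_mono hDZ hDZ
    rw [h1, hZZ] at h2
    exact Cfsg.Agent.Lib.Helper2.isComponent_ne_bot hcomp (eq_bot_iff.2 h2)

end Cfsg.Agent.Lib.Helper8
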