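import Mathlib
import Cfsg.Agent.Lib.Helper1.AODefs
import Cfsg.Agent.Lib.Helper4.AOG1

/-!
# S3406 (ii-b), piece G11: `cnt G (a * b) = cnt G a * com b t` for coprime `a`, `b`
-/

set_option autoImplicit false
set_option linter.unusedSectionVars false
set_option linter.style.haveILetI false

open Cfsg.Agent.Lib.Helper1.AO

universe u

namespace Cfsg.Agent.Lib.Helper8.AO

variable {G : Type u} [Group G] [Finite G]

-- G11
theorem cnt_mul (h : AT G) {a b : ℕ} (hab : a.Coprime b) (t : G) (ht : orderOf t = a) :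
    cnt G (a * b) = cnt G a * com b t := by
  classical
  have ha0 : 0 < a := ht ▸ orderOf_pos t
  by_cases hb0 : b = 0
  · subst hb0
    have h1 : cnt G (a * 0) = 0 := by
      unfold cnt
      rw [mul_zero]
      haveI : IsEmpty {x : G // orderOf x = 0} :=
        ⟨fun x => (orderOf_pos x.1).ne' x.2⟩
      exact Nat.card_of_isEmpty
    have h2 : com 0 t = 0 := by
      unfold com
      haveI : IsEmpty {y : G // orderOf y = 0 ∧ y * t = t * y} :=
        ⟨fun x => (orderOf_pos x.1).ne' x.2.1⟩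
      exact Nat.card_of_isEmpty
    rw [h1, h2, mul_zero]
  have hb0' : 0 < b := Nat.pos_of_ne_zero hb0
  -- exponents
  obtain ⟨e, he1, he0⟩ := Nat.chineseRemainder hab 1 0
  obtain ⟨f, hf0, hf1⟩ := Nat.chineseRemainder hab 0 1
  have hbe : b ∣ e := (Nat.modEq_zero_iff_dvd).mp he0
  have haf : a ∣ f := (Nat.modEq_zero_iff_dvd).mp hf0
  have hef : e + f ≡ 1 [MOD a * b] := by
    rw [← Nat.modEq_and_modEq_iff_modEq_mul hab]
    constructor
    · have := he1.add hf0
      simpa using this
    · have := he0.add hf1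
      simpa using this
  -- key facts about a commuting pair
  have key : ∀ (t' x : G), orderOf t' = a → orderOf x = b → x * t' = t' * x →
      (t' * x) ^ e = t' ∧ (t' * x) ^ f = x := by
    intro t' x ht' hx hc
    have hcomm : Commute t' x := hc.symm
    constructor
    · rw [hcomm.mul_pow]
      have h1 : x ^ e = 1 := by
        obtain ⟨k, rfl⟩ := hbe
        rw [pow_mul, ← hx, pow_orderOf_eq_one, one_pow]
      have h2 : t' ^ e = t' ^ 1 := by
        rw [pow_eq_pow_iff_modEq, ht']; exact he1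
      rw [h1, h2, pow_one, mul_one]
    · rw [hcomm.mul_pow]
      have h1 : t' ^ f = 1 := by
        obtain ⟨k, rfl⟩ := haf
        rw [pow_mul, ← ht', pow_orderOf_eq_one, one_pow]
      have h2 : x ^ f = x ^ 1 := by
        rw [pow_eq_pow_iff_modEq, hx]; exact hf1
      rw [h1, h2, pow_one, one_mul]
  -- the map
  let F : (Σ t' : {t' : G // orderOf t' = a}, {x : G // orderOf x = b ∧ x * t'.1 = t'.1 * x}) →
      {w : G // orderOf w = a * b} := fun s =>
    ⟨s.1.1 * s.2.1, by
      have hc : Commute s.1.1 s.2.1 := s.2.2.2.symm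
      rw [hc.orderOf_mul_eq_mul_orderOf_of_coprime (by rw [s.1.2, s.2.2.1]; exact hab),
        s.1.2, s.2.2.1]⟩
  have hFinj : Function.Injective F := by
    rintro ⟨⟨t1, ht1⟩, ⟨x1, hx1, hc1⟩⟩ ⟨⟨t2, ht2⟩, ⟨x2, hx2, hc2⟩⟩ heq
    have heq' : t1 * x1 = t2 * x2 := congrArg Subtype.val heq
    have k1 := key t1 x1 ht1 hx1 hc1
    have k2 := key t2 x2 ht2 hx2 hc2
    have e1 : t1 = t2 := by rw [← k1.1, ← k2.1, heq']
    have e2 : x1 = x2 := by rw [← k1.2, ← k2.2, heq']
    subst e1
    subst e2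
    rfl
  have hFsurj : Function.Surjective F := by
    rintro ⟨w, hw⟩
    have hwe : (w ^ e) ^ a = 1 := by
      obtain ⟨k, rfl⟩ := hbe
      rw [← pow_mul, show b * k * a = a * b * k by ring, pow_mul, ← hw, pow_orderOf_eq_one, one_pow]
    have hwf : (w ^ f) ^ b = 1 := by
      obtain ⟨k, rfl⟩ := haf
      rw [← pow_mul, show a * k * b = a * b * k by ring, pow_mul, ← hw, pow_orderOf_eq_one, one_pow]
    have hmul : w ^ e * w ^ f = w := by
      rw [← pow_add]
      have : w ^ (e + f) = w ^ 1 := by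
        rw [pow_eq_pow_iff_modEq, hw]; exact hef
      rw [this, pow_one]
    have hd1 : orderOf (w ^ e) ∣ a := orderOf_dvd_of_pow_eq_one hwe
    have hd2 : orderOf (w ^ f) ∣ b := orderOf_dvd_of_pow_eq_one hwf
    have hcomm : Commute (w ^ e) (w ^ f) := (Commute.refl w).pow_pow e f
    have hcop : (orderOf (w ^ e)).Coprime (orderOf (w ^ f)) :=
      Nat.Coprime.coprime_dvd_left hd1 (Nat.Coprime.coprime_dvd_right hd2 hab)
    have hprod : orderOf (w ^ e) * orderOf (w ^ f) = a * b := by
      rw [← hcomm.orderOf_mul_eq_mul_orderOf_of_coprime hcop, hmul, hw]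
    have hle1 : orderOf (w ^ e) ≤ a := Nat.le_of_dvd ha0 hd1
    have hle2 : orderOf (w ^ f) ≤ b := Nat.le_of_dvd hb0' hd2
    have ho1 : orderOf (w ^ e) = a := by
      by_contra hne
      have hlt : orderOf (w ^ e) < a := lt_of_le_of_ne hle1 hne
      have : orderOf (w ^ e) * orderOf (w ^ f) < a * b := by
        calc orderOf (w ^ e) * orderOf (w ^ f) ≤ orderOf (w ^ e) * b := Nat.mul_le_mul_left _ hle2
          _ < a * b := Nat.mul_lt_mul_of_pos_right hlt hb0'
      omega
    have ho2 : orderOf (w ^ f) = b := by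
      rw [ho1] at hprod
      exact Nat.eq_of_mul_eq_mul_left ha0 hprod
    refine ⟨⟨⟨w ^ e, ho1⟩, ⟨w ^ f, ho2, hcomm.symm.eq⟩⟩, ?_⟩
    exact Subtype.ext hmul
  have hcard : Nat.card {w : G // orderOf w = a * b} =
      Nat.card (Σ t' : {t' : G // orderOf t' = a}, {x : G // orderOf x = b ∧ x * t'.1 = t'.1 * x}) :=
    (Nat.card_congr (Equiv.ofBijective F ⟨hFinj, hFsurj⟩)).symm
  unfold cnt
  rw [hcard]
  haveI : Fintype {t' : G // orderOf t' = a} := Fintype.ofFinite _
  rw [Nat.card_sigma]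
  have hconst : ∀ t' : {t' : G // orderOf t' = a},
      Nat.card {x : G // orderOf x = b ∧ x * t'.1 = t'.1 * x} = com b t := by
    intro t'
    exact Cfsg.Agent.Lib.Helper4.AO.com_eq h b (t'.2.trans ht.symm)
  rw [Finset.sum_congr rfl (fun t' _ => hconst t'), Finset.sum_const, Finset.card_univ,
    smul_eq_mul, Nat.card_eq_fintype_card]

end Cfsg.Agent.Lib.Helper8.AO
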