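import Mathlib
import Cfsg.Agent.Lib.Helper1.AODefs

/-!
# S3406 (ii-b), piece T19: `|S| - 1` is a power of `p`
-/

set_option autoImplicit false
set_option linter.unusedSectionVars false
set_option linter.style.haveILetI false

open Cfsg.Agent.Lib.Helper1.AO

universe u

namespace Cfsg.Agent.Lib.Helper8.AO

variable {G : Type u} [Group G] [Finite G] {p r : ℕ}

/-- a prime divisor of `|G|` is `2`, `p` or `r`. -/
theorem twoP_prime_mem (H : TwoP G p r) {d : ℕ} (hd : d.Prime) (hdG : d ∣ Nat.card G) :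
    d = 2 ∨ d = p ∨ d = r := by
  have : Fact d.Prime := ⟨hd⟩
  obtain ⟨g, hg⟩ := exists_prime_orderOf_dvd_card' d hdG
  rcases H.spec g with h | h | h | h | h
  · rw [hg] at h; exact absurd h hd.one_lt.ne'
  · left; rw [← hg, h]
  · right; left; rw [← hg, h]
  · exfalso
    rw [hg] at h
    rw [h] at hd
    exact Nat.not_prime_mul (by norm_num) (H.hp.one_lt.ne') hd
  · right; right; rw [← hg, h]

/-- `2 ∣ |G|`. -/
theorem twoP_two_dvd_card (H : TwoP G p r) : 2 ∣ Nat.card G := by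
  obtain ⟨w, hw⟩ := H.ex
  have h1 : orderOf w ∣ Nat.card G := orderOf_dvd_natCard w
  rw [hw] at h1
  exact (Dvd.intro _ rfl).trans h1

/-- the order of a Sylow 2-subgroup is `2 ^ a`, `a ≥ 1`. -/
theorem twoP_card_sylow2 (H : TwoP G p r) (S : Sylow 2 G) :
    ∃ a : ℕ, 1 ≤ a ∧ Nat.card (S : Subgroup G) = 2 ^ a := by
  haveI : Fact (Nat.Prime 2) := ⟨Nat.prime_two⟩
  obtain ⟨a, ha⟩ := (IsPGroup.iff_card).mp S.isPGroup'
  refine ⟨a, ?_, ha⟩
  rcases Nat.eq_zero_or_pos a with h0 | h0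
  · exfalso
    subst h0
    rw [pow_zero] at ha
    have hbot : (S : Subgroup G) = ⊥ := Subgroup.card_eq_one.mp ha
    exact S.ne_bot_of_dvd_card (twoP_two_dvd_card H) hbot
  · exact h0

-- T19
theorem case2_pow (H : TwoP G p r) (S : Sylow 2 G) (k : ℕ)
    (hk : (Nat.card (S : Subgroup G) - 1) * k = Nat.card (Subgroup.normalizer ((S : Subgroup G) : Set G)))
    (hr : ¬ r ∣ Nat.card (Subgroup.normalizer ((S : Subgroup G) : Set G))) :
    ∃ i : ℕ, Nat.card (S : Subgroup G) - 1 = p ^ i := by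
  obtain ⟨a, ha1, ha⟩ := twoP_card_sylow2 H S
  have h2a : 2 ≤ 2 ^ a := by
    calc 2 = 2 ^ 1 := by norm_num
      _ ≤ 2 ^ a := Nat.pow_le_pow_right (by norm_num) ha1
  have hn0 : Nat.card (S : Subgroup G) - 1 ≠ 0 := by rw [ha]; omega
  have hodd : ¬ 2 ∣ Nat.card (S : Subgroup G) - 1 := by
    rw [ha]
    have : 2 ∣ 2 ^ a := dvd_pow_self 2 (by omega)
    omega
  have hnN : Nat.card (S : Subgroup G) - 1 ∣
      Nat.card (Subgroup.normalizer ((S : Subgroup G) : Set G)) := Dvd.intro _ hk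
  have hNG : Nat.card (Subgroup.normalizer ((S : Subgroup G) : Set G)) ∣ Nat.card G :=
    Subgroup.card_subgroup_dvd_card _
  refine ⟨_, Nat.eq_prime_pow_of_unique_prime_dvd hn0 ?_⟩
  intro d hd hdn
  rcases twoP_prime_mem H hd ((hdn.trans hnN).trans hNG) with h | h | h
  · exact absurd (h ▸ hdn) hodd
  · exact h
  · exact absurd (h ▸ hdn.trans hnN) hr

end Cfsg.Agent.Lib.Helper8.AO
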