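import Mathlib
import Cfsg.Agent.Lib.Helper1.AODefs
import Cfsg.Agent.Lib.Helper4.AOG1
import Cfsg.Agent.Lib.Helper6.AOG8
import Cfsg.Agent.Lib.Helper9.AOT16
import Cfsg.Agent.Lib.Helper8.AOT19

/-!
# S3406 (ii-b), piece T18: `r ∤ |N(S)|` in CASE 2
-/

set_option autoImplicit false
set_option linter.unusedSectionVars false
set_option linter.style.haveILetI false
set_option linter.unusedVariables false

open Cfsg.Agent.Lib.Helper1.AO

universe u

namespace Cfsg.Agent.Lib.Helper8.AO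

variable {G : Type u} [Group G] [Finite G] {p r : ℕ}

/-- an element of order `p` commuting with a given involution (T7' in existential form). -/
theorem exists_order_p_comm (H : TwoP G p r) (t : G) (ht : orderOf t = 2) :
    ∃ x : G, orderOf x = p ∧ x * t = t * x := by
  obtain ⟨w, hw⟩ := H.ex
  have hp0 : 0 < p := H.hp.pos
  have ht0 : orderOf (w ^ p) = 2 := by
    rw [orderOf_pow' w hp0.ne', hw, Nat.gcd_eq_right (Dvd.intro_left 2 rfl)]
    exact Nat.mul_div_cancel 2 hp0
  have hx0 : orderOf (w ^ 2) = p := by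
    rw [orderOf_pow' w (by norm_num), hw, Nat.gcd_eq_right (Dvd.intro p rfl)]
    exact Nat.mul_div_cancel_left p (by norm_num)
  obtain ⟨α, hα⟩ := H.aut (w ^ p) t (ht0.trans ht.symm)
  refine ⟨α (w ^ 2), ?_, ?_⟩
  · rw [MulEquiv.orderOf_eq, hx0]
  · rw [← hα, ← map_mul, ← map_mul]
    congr 1
    exact ((Commute.refl w).pow_pow 2 p).eq

-- T18
theorem case2_not_dvd (H : TwoP G p r) (S : Sylow 2 G) (t : G) (ht : orderOf t = 2)
    (hts : t ∈ (S : Subgroup G))
    (hn : ∀ c : G, c * t = t * c → ∀ s ∈ (S : Subgroup G), c * s * c⁻¹ ∈ (S : Subgroup G)) :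
    ¬ r ∣ Nat.card (Subgroup.normalizer ((S : Subgroup G) : Set G)) := by
  haveI : Fact (Nat.Prime 2) := ⟨Nat.prime_two⟩
  intro hr
  haveI := H.simple
  set M := Subgroup.normalizer ((S : Subgroup G) : Set G) with hM
  have hSM : (S : Subgroup G) ≤ M := Subgroup.le_normalizer
  -- `C(t) ≤ M`
  have hCM : ∀ c : G, c * t = t * c → c ∈ M := fun c hc =>
    Cfsg.Agent.Lib.Helper9.AO.mem_normalizer_of_conj_mem _ c (hn c hc)
  apply Cfsg.Agent.Lib.Helper6.AO.toolU H.aut (S : Subgroup G)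
    (fun α => Cfsg.Agent.Lib.Helper4.AO.sylow_map_aut S α)
  · -- `N(S) ≠ ⊤`
    intro htop
    have hSn : (S : Subgroup G).Normal := Subgroup.normalizer_eq_top_iff.mp htop
    rcases hSn.eq_bot_or_eq_top with h | h
    · exact S.ne_bot_of_dvd_card (twoP_two_dvd_card H) h
    · obtain ⟨y, hy⟩ := H.exr
      have hyS : y ∈ (S : Subgroup G) := h ▸ Subgroup.mem_top y
      obtain ⟨k, hk⟩ := (IsPGroup.iff_orderOf.mp S.isPGroup') ⟨y, hyS⟩
      rw [Subgroup.orderOf_mk, hy] at hk
      have h2 : 2 ∣ r := by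
        rcases Nat.eq_zero_or_pos k with h0 | h0
        · subst h0
          rw [pow_zero] at hk
          exact absurd hk H.hr.one_lt.ne'
        · rw [hk]; exact dvd_pow_self 2 (by omega)
      exact H.hr2 ((Nat.prime_dvd_prime_iff_eq Nat.prime_two H.hr).mp h2).symm
  · -- all orders occur in `M`
    obtain ⟨x, hxo, hxt⟩ := exists_order_p_comm H t ht
    have hxM : x ∈ M := hCM x hxt
    have htM : t ∈ M := hSM hts
    intro w hw1
    rcases H.spec w with h | h | h | h | h
    · exact absurd (orderOf_eq_one_iff.mp h) hw1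
    · exact ⟨t, htM, by rw [ht, h]⟩
    · exact ⟨x, hxM, by rw [hxo, h]⟩
    · refine ⟨t * x, M.mul_mem htM hxM, ?_⟩
      have hc : Commute t x := hxt.symm
      rw [hc.orderOf_mul_eq_mul_orderOf_of_coprime, ht, hxo, h]
      rw [ht, hxo]
      exact (Nat.coprime_primes Nat.prime_two H.hp).mpr (Ne.symm H.hp2)
    · haveI : Fact r.Prime := ⟨H.hr⟩
      obtain ⟨m, hm⟩ := exists_prime_orderOf_dvd_card' (G := M) r hr
      exact ⟨(m : G), m.2, by rw [Subgroup.orderOf_coe, hm, h]⟩

end Cfsg.Agent.Lib.Helper8.AO
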