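import Mathlib
import Cfsg.Agent.Lib.Helper1.AODefs

/-!
# S3406 (ii-b), piece T20: `2 ^ a - 1 = p ^ i` forces `i = 1`
-/

set_option autoImplicit false

open Cfsg.Agent.Lib.Helper1.AO

universe u

namespace Cfsg.Agent.Lib.Helper8.AO

theorem sq_mod_four_of_odd {n : ℕ} (hn : n % 2 = 1) : n * n % 4 = 1 := by
  have h : n % 4 = 1 ∨ n % 4 = 3 := by omega
  rw [Nat.mul_mod]
  rcases h with h | h <;> rw [h]

-- T20
theorem two_pow_sub_one {a i p : ℕ} (ha : 2 ≤ a) (hp : p.Prime) (hp2 : p ≠ 2)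
    (h : 2 ^ a - 1 = p ^ i) : i = 1 := by
  have hpos : 1 ≤ 2 ^ a := Nat.one_le_two_pow
  have h' : 2 ^ a = p ^ i + 1 := by omega
  have hpodd : p % 2 = 1 := by
    rcases hp.eq_two_or_odd with h2 | h2
    · exact absurd h2 hp2
    · exact h2
  have h4 : 4 ∣ 2 ^ a := by
    have : (2 : ℕ) ^ 2 ∣ 2 ^ a := pow_dvd_pow 2 ha
    simpa using this
  rcases Nat.even_or_odd' i with ⟨k, hk | hk⟩
  · -- i even
    exfalso
    subst hk
    have hodd : (p ^ k) % 2 = 1 := by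
      rw [Nat.pow_mod, hpodd]; simp
    have h1 : p ^ (2 * k) = p ^ k * p ^ k := by rw [two_mul, pow_add]
    have h2 := sq_mod_four_of_odd hodd
    rw [h1] at h'
    omega
  · -- i odd
    subst hk
    -- p + 1 ∣ 2 ^ a
    have hdvd : p + 1 ∣ p ^ (2 * k + 1) + 1 := by
      have := Odd.nat_add_dvd_pow_add_pow p 1 (⟨k, rfl⟩ : Odd (2 * k + 1))
      simpa using this
    rw [← h'] at hdvd
    obtain ⟨b, hba, hb⟩ := (Nat.dvd_prime_pow Nat.prime_two).mp hdvd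
    have hb1 : 1 ≤ b := by
      rcases Nat.eq_zero_or_pos b with h0 | h0
      · subst h0
        have := hp.two_le
        simp at hb
        omega
      · exact h0
    -- p ^ 2 ≡ 1 mod 2 ^ (b + 1)
    have hsq : p ^ 2 ≡ 1 [MOD 2 ^ (b + 1)] := by
      obtain ⟨c, rfl⟩ : ∃ c, b = c + 1 := ⟨b - 1, by omega⟩
      have e1 : p ^ 2 + 2 ^ (c + 1 + 1) = 2 ^ (c + 1 + 1) * 2 ^ c + 1 := by
        have : (p + 1) ^ 2 = (2 ^ (c + 1)) ^ 2 := by rw [hb]
        have e2 : ((2:ℕ) ^ (c + 1)) ^ 2 = 2 ^ (c + 1 + 1) * 2 ^ c := by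
          rw [← pow_mul, ← pow_add]; congr 1; omega
        have e3 : (2 : ℕ) ^ (c + 1 + 1) = 2 * 2 ^ (c + 1) := by rw [pow_succ]; ring
        rw [e2] at this
        rw [e3] at this ⊢
        nlinarith
      have : p ^ 2 + 2 ^ (c + 1 + 1) ≡ 1 [MOD 2 ^ (c + 1 + 1)] := by
        rw [e1]
        exact (Nat.modEq_iff_dvd' (by omega)).mpr (by simp)  |>.symm
      have h0 : p ^ 2 + 2 ^ (c + 1 + 1) ≡ p ^ 2 [MOD 2 ^ (c + 1 + 1)] := by
        simp [Nat.ModEq]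
      exact h0.symm.trans this
    have hpow : p ^ (2 * k + 1) ≡ p [MOD 2 ^ (b + 1)] := by
      have h1 : (p ^ 2) ^ k ≡ 1 ^ k [MOD 2 ^ (b + 1)] := hsq.pow k
      rw [one_pow] at h1
      have h2 := h1.mul_right p
      rw [one_mul, ← pow_mul, ← pow_succ] at h2
      exact h2
    -- 2 ^ a ≡ 2 ^ b mod 2 ^ (b + 1)
    have h2a : 2 ^ a ≡ 2 ^ b [MOD 2 ^ (b + 1)] := by
      rw [h', ← hb]
      exact hpow.add_right 1
    have hab : a = b := by
      by_contra hne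
      have hlt : b + 1 ≤ a := by omega
      have hd : 2 ^ (b + 1) ∣ 2 ^ a := pow_dvd_pow 2 hlt
      have h0 : 2 ^ a ≡ 0 [MOD 2 ^ (b + 1)] := (Nat.modEq_zero_iff_dvd).mpr hd
      have h1 : 2 ^ b ≡ 0 [MOD 2 ^ (b + 1)] := h2a.symm.trans h0
      have h2 : 2 ^ (b + 1) ∣ 2 ^ b := (Nat.modEq_zero_iff_dvd).mp h1
      have h3 := Nat.le_of_dvd (by positivity) h2
      have h4 : 2 ^ b < 2 ^ (b + 1) := Nat.pow_lt_pow_right (by norm_num) (by omega)
      omega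
    subst hab
    have hpp : p ^ (2 * k + 1) = p ^ 1 := by
      rw [pow_one]; omega
    exact Nat.pow_right_injective hp.two_le hpp

end Cfsg.Agent.Lib.Helper8.AO
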