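import Mathlib
import Cfsg.Agent.Lib.Helper1.AODefs
import Cfsg.Agent.Lib.Helper9.AOT15
import Cfsg.Agent.Lib.Helper9.AOT16
import Cfsg.Agent.Lib.Helper9.AOT17
import Cfsg.Agent.Lib.Helper8.AOT18
import Cfsg.Agent.Lib.Helper8.AOT19

/-!
# S3406 (ii-b), piece T21: CASE 2 is impossible when `|S| - 1 = p`
-/

set_option autoImplicit false
set_option linter.unusedSectionVars false
set_option linter.style.haveILetI false
set_option linter.unusedVariables false

open Cfsg.Agent.Lib.Helper1.AO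

universe u

namespace Cfsg.Agent.Lib.Helper8.AO

variable {G : Type u} [Group G] [Finite G] {p r : ℕ}

/-- the conjugation orbit map `Q ⧸ C_Q(t) → {s // P s}`. -/
noncomputable def orbMap (Q : Subgroup G) (t : G) (P : G → Prop)
    (hX : ∀ y ∈ Q, P (y * t * y⁻¹)) :
    (↥Q ⧸ (Subgroup.centralizer ({t} : Set G)).subgroupOf Q) → {s : G // P s} :=
  fun q => Quotient.liftOn' q (fun y => (⟨(y : G) * t * (y : G)⁻¹, hX y y.2⟩ : {s : G // P s})) (by
    intro a b hab
    rw [QuotientGroup.leftRel_apply, Subgroup.mem_subgroupOf, Subgroup.mem_centralizer_iff] at hab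
    have h := hab t (Set.mem_singleton t)
    apply Subtype.ext
    show (a : G) * t * (a : G)⁻¹ = (b : G) * t * (b : G)⁻¹
    simp only [Subgroup.coe_mul, Subgroup.coe_inv] at h
    calc (a : G) * t * (a : G)⁻¹ = a * (t * ((a : G)⁻¹ * b)) * (b : G)⁻¹ := by group
      _ = a * ((a : G)⁻¹ * b * t) * (b : G)⁻¹ := by rw [h]
      _ = (b : G) * t * (b : G)⁻¹ := by group)

theorem orbMap_mk (Q : Subgroup G) (t : G) (P : G → Prop)
    (hX : ∀ y ∈ Q, P (y * t * y⁻¹)) (y : Q) :
    ((orbMap Q t P hX (QuotientGroup.mk y)) : G) = (y : G) * t * (y : G)⁻¹ := rfl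

theorem orbMap_injective (Q : Subgroup G) (t : G) (P : G → Prop)
    (hX : ∀ y ∈ Q, P (y * t * y⁻¹)) : Function.Injective (orbMap Q t P hX) := by
  intro q1 q2
  refine Quotient.inductionOn₂' q1 q2 ?_
  intro a b hab
  have h : (a : G) * t * (a : G)⁻¹ = (b : G) * t * (b : G)⁻¹ := congrArg Subtype.val hab
  apply Quotient.sound'
  rw [QuotientGroup.leftRel_apply, Subgroup.mem_subgroupOf, Subgroup.mem_centralizer_iff]
  intro z hz
  rw [Set.mem_singleton_iff] at hz
  rw [hz]
  simp only [Subgroup.coe_mul, Subgroup.coe_inv]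
  calc t * ((a : G)⁻¹ * b) = (a : G)⁻¹ * ((a : G) * t * (a : G)⁻¹) * a * ((a : G)⁻¹ * b) := by group
    _ = (a : G)⁻¹ * ((b : G) * t * (b : G)⁻¹) * a * ((a : G)⁻¹ * b) := by rw [h]
    _ = (a : G)⁻¹ * b * t := by group

-- T21
theorem case2_false (H : TwoP G p r) (S : Sylow 2 G) (t : G) (ht : orderOf t = 2)
    (hts : t ∈ (S : Subgroup G)) (h2 : Case2 p t)
    (hn : ∀ c : G, c * t = t * c → ∀ s ∈ (S : Subgroup G), c * s * c⁻¹ ∈ (S : Subgroup G))
    (htr : ∀ s ∈ (S : Subgroup G), s ≠ 1 → ∃ n ∈ Subgroup.normalizer ((S : Subgroup G) : Set G), n * t * n⁻¹ = s)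
    (hcard : Nat.card (Subgroup.normalizer ((S : Subgroup G) : Set G)) = (Nat.card (S : Subgroup G) - 1) * cz t)
    (hq : Nat.card (S : Subgroup G) - 1 = p) : False := by
  haveI : Fact (Nat.Prime 2) := ⟨Nat.prime_two⟩
  have hp := H.hp
  haveI : Fact p.Prime := ⟨hp⟩
  have ht1 : t ≠ 1 := by
    intro h
    rw [h, orderOf_one] at ht
    omega
  set C := Subgroup.centralizer ({t} : Set G) with hC
  set M := Subgroup.normalizer ((S : Subgroup G) : Set G) with hM
  have hexp := Cfsg.Agent.Lib.Helper9.AO.sylow2_exp H S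
  have hsq : ∀ x ∈ (S : Subgroup G), x * x = 1 := fun x hx => by
    rw [← pow_two]; exact hexp x hx
  have hab : ∀ x ∈ (S : Subgroup G), ∀ y ∈ (S : Subgroup G), x * y = y * x := by
    intro x hx y hy
    have hxi : x⁻¹ = x := inv_eq_of_mul_eq_one_right (hsq x hx)
    have hyi : y⁻¹ = y := inv_eq_of_mul_eq_one_right (hsq y hy)
    have hxyi : (x * y)⁻¹ = x * y :=
      inv_eq_of_mul_eq_one_right (hsq (x * y) ((S : Subgroup G).mul_mem hx hy))
    rw [← hxyi, mul_inv_rev, hxi, hyi]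
  have memC : ∀ c : G, c ∈ C ↔ c * t = t * c := by
    intro c
    rw [hC, Subgroup.mem_centralizer_iff]
    constructor
    · intro h; exact (h t (Set.mem_singleton t)).symm
    · intro h z hz
      rw [Set.mem_singleton_iff] at hz
      rw [hz]; exact h.symm
  have hSC : (S : Subgroup G) ≤ C := by
    intro s hs
    rw [memC]
    exact hab s hs t hts
  have hCM : C ≤ M := by
    intro c hc
    exact Cfsg.Agent.Lib.Helper9.AO.mem_normalizer_of_conj_mem _ c (hn c ((memC c).1 hc))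
  have hMS : ∀ m ∈ M, ∀ s ∈ (S : Subgroup G), m * s * m⁻¹ ∈ (S : Subgroup G) := by
    intro m hm s hs
    exact (Subgroup.mem_normalizer_iff.1 hm s).1 hs
  -- cardinalities
  have hG0 : Nat.card G ≠ 0 := Nat.card_pos.ne'
  have hC0 : Nat.card C ≠ 0 := Nat.card_pos.ne'
  have hS2 : Nat.card (S : Subgroup G) = 2 ^ (Nat.card G).factorization 2 := S.card_eq_multiplicity
  have hSpos : 0 < Nat.card (S : Subgroup G) := Nat.card_pos
  have hSp : Nat.card (S : Subgroup G) = p + 1 := by omega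
  have hcop : Nat.Coprime p (Nat.card (S : Subgroup G)) := by
    rw [hSp]
    refine (Nat.Prime.coprime_iff_not_dvd hp).2 (fun h => ?_)
    have h1 : p ∣ 1 := (Nat.dvd_add_right (dvd_refl p)).1 h
    exact hp.one_lt.ne' (Nat.dvd_one.1 h1)
  have hprimes : ∀ l : ℕ, l.Prime → l ∣ Nat.card C → l = 2 ∨ l = p := by
    intro l hl hd
    haveI : Fact l.Prime := ⟨hl⟩
    obtain ⟨c, hc⟩ := exists_prime_orderOf_dvd_card' l hd
    have hc' : orderOf (c : G) = l := by rw [Subgroup.orderOf_coe]; exact hc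
    have hd2 := Cfsg.Agent.Lib.Helper9.AO.orderOf_dvd_of_comm_invol H t ht (c : G) ((memC _).1 c.2)
    rw [hc'] at hd2
    rcases (Nat.Prime.dvd_mul hl).1 hd2 with h | h
    · left; exact (Nat.prime_dvd_prime_iff_eq hl Nat.prime_two).1 h
    · right; exact (Nat.prime_dvd_prime_iff_eq hl hp).1 h
  have hCfac := Cfsg.Agent.Lib.Helper9.AO.eq_two_pow_mul_pow (Nat.card C) p hC0 H.hp2 hprimes
  set i := (Nat.card C).factorization 2 with hi
  set b := (Nat.card C).factorization p with hb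
  set a := (Nat.card G).factorization 2 with ha
  have hia : i = a := by
    apply le_antisymm
    · have h1 : 2 ^ i ∣ Nat.card C := by rw [hCfac]; exact Dvd.intro _ rfl
      have h2' : Nat.card C ∣ Nat.card G := Subgroup.card_subgroup_dvd_card C
      exact (Nat.Prime.pow_dvd_iff_le_factorization Nat.prime_two hG0).1 (h1.trans h2')
    · have h1 : 2 ^ a ∣ Nat.card C := by rw [← hS2]; exact Subgroup.card_dvd_of_le hSC
      exact (Nat.Prime.pow_dvd_iff_le_factorization Nat.prime_two hC0).1 h1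
  have hCcard : Nat.card C = Nat.card (S : Subgroup G) * p ^ b := by
    rw [hS2, ← hia]; exact hCfac
  have hMcard : Nat.card M = p ^ (b + 1) * Nat.card (S : Subgroup G) := by
    rw [hcard, hq]
    show p * Nat.card C = _
    rw [hCcard, pow_succ]; ring
  -- a subgroup `Q ≤ M` of order `p^(b+1)`
  obtain ⟨K0, hK0⟩ := Sylow.exists_subgroup_card_pow_prime (G := ↥M) p (n := b + 1)
    (by rw [hMcard]; exact Dvd.intro _ rfl)
  set Q := K0.map M.subtype with hQ
  have hQcard : Nat.card Q = p ^ (b + 1) := by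
    rw [hQ, Subgroup.card_map_of_injective M.subtype_injective]; exact hK0
  have hQM : Q ≤ M := Subgroup.map_subtype_le K0
  have hQp : IsPGroup p Q := IsPGroup.of_card hQcard
  -- the orbit map
  have hX : ∀ y ∈ Q, (fun s : G => s ∈ (S : Subgroup G) ∧ s ≠ 1) (y * t * y⁻¹) := by
    intro y hy
    refine ⟨hMS y (hQM hy) t hts, ?_⟩
    intro h
    exact ht1 (conj_eq_one_iff.1 h)
  have hXcard : Nat.card {s : G // (fun s : G => s ∈ (S : Subgroup G) ∧ s ≠ 1) s} = p := by
    rw [← hq]; exact Cfsg.Agent.Lib.Helper9.AO.card_subgroup_ne_one (S : Subgroup G)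
  set P1' := C.subgroupOf Q with hP1'
  set f := orbMap Q t (fun s : G => s ∈ (S : Subgroup G) ∧ s ≠ 1) hX with hf
  have hfinj : Function.Injective f := orbMap_injective Q t _ hX
  have hidx_le : P1'.index ≤ p := by
    rw [← hXcard]
    exact Nat.card_le_card_of_injective f hfinj
  -- `P1 = Q ⊓ C`
  set P1 := Q ⊓ C with hP1
  have hP1p : IsPGroup p P1 := hQp.to_le inf_le_left
  obtain ⟨j, hj⟩ := (IsPGroup.iff_card).1 hP1p
  have hjb : j ≤ b := by
    have h1 : p ^ j ∣ Nat.card C := by rw [← hj]; exact Subgroup.card_dvd_of_le inf_le_right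
    rw [hCcard] at h1
    have h2' : Nat.Coprime (p ^ j) (Nat.card (S : Subgroup G)) := Nat.Coprime.pow_left j hcop
    exact (Nat.pow_dvd_pow_iff_le_right hp.one_lt).1 (h2'.dvd_of_dvd_mul_left h1)
  have hP1'card : Nat.card P1' = p ^ j := by
    rw [← hj, hP1', ← Subgroup.inf_subgroupOf_left C Q]
    exact Nat.card_congr (Subgroup.subgroupOfEquivOfLe (inf_le_left : Q ⊓ C ≤ Q)).toEquiv
  have hmul : P1'.index * p ^ j = p ^ (b + 1) := by
    rw [← hP1'card, Subgroup.index_mul_card, hQcard]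
  have hppos : 0 < p := hp.pos
  have hbj : b ≤ j := by
    have h1 : p ^ (b + 1) ≤ p ^ (j + 1) := by
      rw [← hmul, pow_succ p j, mul_comm (p ^ j) p]
      exact Nat.mul_le_mul_right _ hidx_le
    have := (Nat.pow_le_pow_iff_right hp.one_lt).1 h1
    omega
  have hjb' : j = b := le_antisymm hjb hbj
  have hidx : P1'.index = p := by
    rw [hjb', pow_succ, mul_comm (p ^ b) p] at hmul
    exact Nat.eq_of_mul_eq_mul_right (pow_pos hppos b) hmul
  have hP1'n : P1'.Normal := by
    apply Subgroup.normal_of_index_eq_minFac_card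
    rw [hidx, hQcard, Nat.Prime.pow_minFac hp (Nat.succ_ne_zero b)]
  have hfbij : Function.Bijective f :=
    hfinj.bijective_of_nat_card_le (by rw [hXcard]; exact hidx.ge)
  -- `P1` centralizes `S`
  have hcent : ∀ x ∈ P1, ∀ s ∈ (S : Subgroup G), x * s = s * x := by
    intro x hx s hs
    by_cases hs1 : s = 1
    · rw [hs1]; simp
    obtain ⟨q, hq'⟩ := hfbij.2 ⟨s, hs, hs1⟩
    obtain ⟨y, rfl⟩ := QuotientGroup.mk_surjective q
    have hys : (y : G) * t * (y : G)⁻¹ = s := congrArg Subtype.val hq'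
    have hxQ : x ∈ Q := hx.1
    have hxP : (⟨x, hxQ⟩ : Q) ∈ P1' := by
      rw [hP1', Subgroup.mem_subgroupOf]; exact hx.2
    have hconj := hP1'n.conj_mem _ hxP y⁻¹
    rw [hP1', Subgroup.mem_subgroupOf, memC] at hconj
    simp only [Subgroup.coe_mul, Subgroup.coe_inv, inv_inv] at hconj
    rw [← hys]
    calc x * ((y : G) * t * (y : G)⁻¹) = y * ((y : G)⁻¹ * x * y * t) * (y : G)⁻¹ := by group
      _ = y * (t * ((y : G)⁻¹ * x * y)) * (y : G)⁻¹ := by rw [hconj]
      _ = (y : G) * t * (y : G)⁻¹ * x := by group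
  -- `P1` is normal in `C`
  set N1 := Subgroup.normalizer (P1 : Set G) ⊓ C with hN1
  have hSN1 : (S : Subgroup G) ≤ N1 := by
    intro s hs
    refine ⟨?_, hSC hs⟩
    apply Cfsg.Agent.Lib.Helper9.AO.mem_normalizer_of_conj_mem
    intro x hx
    have : s * x * s⁻¹ = x := by rw [← hcent x hx s hs]; group
    rw [this]; exact hx
  have hPN1 : P1 ≤ N1 := le_inf Subgroup.le_normalizer inf_le_right
  have hN1C : N1 = C := by
    apply Subgroup.eq_of_le_of_card_ge inf_le_right
    apply Nat.le_of_dvd Nat.card_pos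
    rw [hCcard]
    refine Nat.Coprime.mul_dvd_of_dvd_of_dvd ?_ (Subgroup.card_dvd_of_le hSN1) ?_
    · exact (Nat.Coprime.pow_left b hcop).symm
    · rw [← hjb', ← hj]; exact Subgroup.card_dvd_of_le hPN1
  have hnorm : ∀ c ∈ C, ∀ x ∈ P1, c * x * c⁻¹ ∈ P1 := by
    intro c hc x hx
    have hcN : c ∈ Subgroup.normalizer (P1 : Set G) := by
      have : c ∈ N1 := by rw [hN1C]; exact hc
      exact this.1
    exact (Subgroup.mem_normalizer_iff.1 hcN x).1 hx
  have hbot := h2 P1 hP1p inf_le_right hnorm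
  -- `b = 0`
  have hb0 : b = 0 := by
    have h1 : Nat.card P1 = 1 := by rw [hbot]; exact Subgroup.card_bot
    rw [hj, hjb'] at h1
    by_contra hne
    have : 1 < p ^ b := Nat.one_lt_pow hne hp.one_lt
    omega
  obtain ⟨x, hxo, hxt⟩ := exists_order_p_comm H t ht
  have hxC : x ∈ C := (memC x).2 hxt
  have hd : p ∣ Nat.card C := by rw [← hxo]; exact Subgroup.orderOf_dvd_natCard C hxC
  rw [hCcard, hb0, pow_zero, mul_one] at hd
  exact (Nat.Prime.coprime_iff_not_dvd hp).1 hcop hd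

end Cfsg.Agent.Lib.Helper8.AO
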