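import Mathlib
import Cfsg.Agent.Lib.Helper1.AutDefs
import Cfsg.Agent.Lib.Helper5.ChevCharDiag2
import Cfsg.Agent.Lib.Helper5.ChevCore

set_option autoImplicit false

/-!
S2156 farm, unit A2: in a Chevalley group `G`, `B = N_G(U)` and `H = N_G(U) ∩ N_G(V)`; hence an
automorphism preserving `U` preserves `B`, and one preserving `U` and `V` preserves `H`.
-/

namespace Cfsg.Agent.Lib.Helper8.ChevAut

open Cfsg Cfsg.Lie Cfsg.Agent.Lib.Helper5.ChevStruct Cfsg.Agent.Lib.Helper5.ChevSym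
open Cfsg.Agent.Lib.Helper1.ChevAut

variable {F : Type*} [Field F]

/-- an element of `G` conjugating `U` into `U` lies in `B` -/
theorem mem_borel_of_conj_pos (D : ChevalleyDatum) (hD : D ∈ Seven) (g : GL D.Idx F)
    (hg : g ∈ D.group F)
    (hgU : ∀ u ∈ D.posUnipotent F, g * u * g⁻¹ ∈ D.posUnipotent F) :
    g ∈ D.borelSubgroup F := by
  obtain ⟨w, hw, b, hb, v, hv, e⟩ := bruhat_exists_word D hD g hg
  have hvU : v ∈ D.posUnipotent F := by
    unfold unegSub at hv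
    revert hv
    apply Subgroup.closure_mono
    rintro y ⟨r, t, hr, hy⟩
    exact ⟨r, t, hr.1, hy⟩
  have hBN := borel_le_normalizer_pos (F := F) D hD
  -- `n_w` conjugates `U` into `U`
  have hconj : ∀ u ∈ D.posUnipotent F, wGL D hD w * u * (wGL D hD w)⁻¹ ∈ D.posUnipotent F := by
    intro u hu
    have e' : (wGL D hD w : GL D.Idx F) = b⁻¹ * g * v⁻¹ := by rw [e]; group
    have h1 : v⁻¹ * u * v⁻¹⁻¹ ∈ D.posUnipotent F :=
      mul_mem (mul_mem (inv_mem hvU) hu) (inv_mem (inv_mem hvU))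
    have h2 := hgU _ h1
    have h3 := (Subgroup.mem_normalizer_iff.1 (hBN (inv_mem hb)) _).1 h2
    have e2 : wGL D hD w * u * (wGL D hD w)⁻¹
        = b⁻¹ * (g * (v⁻¹ * u * v⁻¹⁻¹) * g⁻¹) * b⁻¹⁻¹ := by rw [e']; group
    rw [e2]
    exact h3
  have hall : ∀ r, D.IsPosRoot r → D.IsPosRoot (wAct D w r) := by
    intro r hr
    obtain ⟨ε, hε, hc⟩ := wGL_conj (F := F) D hD w hw r hr.1
    have hε0 : ε * 1 ≠ (0 : F) := by
      rw [mul_one]
      rcases hε with rfl | rfl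
      · exact one_ne_zero
      · exact neg_ne_zero.2 one_ne_zero
    exact isPosRoot_of_x_mem_pos D hD _ (wAct_lt D hD w hw r hr.1) _ hε0 _
      (hc 1 _ (xGL_val D hD r 1)) (hconj _ (xGL_mem_pos D hD r hr 1))
  have hcard : (negSet D w).card = 0 := by
    rw [Finset.card_eq_zero, Finset.eq_empty_iff_forall_notMem]
    intro r hr
    rw [mem_negSet] at hr
    exact hr.2 (hall r hr.1)
  have hwH : (wGL D hD w : GL D.Idx F) ∈ D.diagonalSubgroup F := by
    have h1 := (wrel_nil_of_card_eq_zero D hD w hw hcard).hrel (F := F) hD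
    unfold HRel at h1
    rwa [wGL_nil, inv_one, mul_one] at h1
  rw [e]
  exact mul_mem (mul_mem hb (diagonal_le_borel D hwH)) (pos_le_borel D hvU)

/-- an element of `G` conjugating `V` into `V` lies in `V H` -/
theorem mem_negBorel_of_conj_neg (D : ChevalleyDatum) (hD : D ∈ Seven) (g : GL D.Idx F)
    (hg : g ∈ D.group F)
    (hgV : ∀ v ∈ D.negUnipotent F, g * v * g⁻¹ ∈ D.negUnipotent F) :
    g ∈ D.negUnipotent F ⊔ D.diagonalSubgroup F := by
  obtain ⟨w, hw⟩ := exists_w0 D hD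
  obtain ⟨n, hnN, hmap⟩ := conj_pos_eq_neg (F := F) D hD w hw
  have hnG : n ∈ D.group F := monomial_le_group D hD hnN
  have hc : n⁻¹ * g * n ∈ D.borelSubgroup F := by
    apply mem_borel_of_conj_pos D hD _ (mul_mem (mul_mem (inv_mem hnG) hg) hnG)
    intro u hu
    have h1 : n * u * n⁻¹ ∈ D.negUnipotent F := by
      rw [← hmap]
      exact ⟨u, hu, rfl⟩
    have h2 := hgV _ h1
    rw [← hmap] at h2
    obtain ⟨u', hu', e⟩ := h2
    have e' : n * u' * n⁻¹ = g * (n * u * n⁻¹) * g⁻¹ := e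
    have e2 : n⁻¹ * g * n * u * (n⁻¹ * g * n)⁻¹ = n⁻¹ * (g * (n * u * n⁻¹) * g⁻¹) * n := by group
    rw [e2, ← e']
    have e3 : n⁻¹ * (n * u' * n⁻¹) * n = u' := by group
    rw [e3]
    exact hu'
  have h2 : g ∈ (D.borelSubgroup F).map (MulAut.conj n).toMonoidHom := by
    refine ⟨n⁻¹ * g * n, hc, ?_⟩
    show n * (n⁻¹ * g * n) * n⁻¹ = g
    group
  have h3 : (D.borelSubgroup F).map (MulAut.conj n).toMonoidHom
      = D.negUnipotent F ⊔ D.diagonalSubgroup F := by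
    unfold ChevalleyDatum.borelSubgroup
    rw [Subgroup.map_sup, hmap, diagonal_map_conj D hD n hnN]
  rwa [h3] at h2

/-- `B ∩ G = N_G(U)` -/
theorem mem_borel_iff (D : ChevalleyDatum) (hD : D ∈ Seven) (g : GL D.Idx F)
    (hg : g ∈ D.group F) :
    g ∈ D.borelSubgroup F ↔ ∀ u ∈ D.posUnipotent F, g * u * g⁻¹ ∈ D.posUnipotent F :=
  ⟨fun hb u hu => (Subgroup.mem_normalizer_iff.1 (borel_le_normalizer_pos D hD hb) u).1 hu,
    mem_borel_of_conj_pos D hD g hg⟩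

/-- `H = N_G(U) ∩ N_G(V)` -/
theorem mem_diagonal_iff (D : ChevalleyDatum) (hD : D ∈ Seven) (g : GL D.Idx F)
    (hg : g ∈ D.group F) :
    g ∈ D.diagonalSubgroup F ↔
      (∀ u ∈ D.posUnipotent F, g * u * g⁻¹ ∈ D.posUnipotent F) ∧
      (∀ v ∈ D.negUnipotent F, g * v * g⁻¹ ∈ D.negUnipotent F) := by
  constructor
  · intro hh
    exact ⟨fun u hu => (Subgroup.mem_normalizer_iff.1 (diagonal_le_normalizer_pos D hD hh) u).1 hu,
      fun v hv => (Subgroup.mem_normalizer_iff.1 (diagonal_le_normalizer_neg D hD hh) v).1 hv⟩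
  · rintro ⟨h1, h2⟩
    have h3 : g ∈ D.borelSubgroup F ⊓ (D.negUnipotent F ⊔ D.diagonalSubgroup F) :=
      Subgroup.mem_inf.2 ⟨mem_borel_of_conj_pos D hD g hg h1, mem_negBorel_of_conj_neg D hD g hg h2⟩
    rwa [borel_inf_negBorel D hD] at h3

/-- if `θ` preserves `K ≤ G` then `θ g` conjugates `K` into `K` iff `g` does -/
theorem conj_mem_iff_of_maps (D : ChevalleyDatum) (θ : ↥(D.group F) ≃* ↥(D.group F))
    (K : Subgroup (GL D.Idx F)) (hK : K ≤ D.group F) (hθ : Maps D θ K K) (g : ↥(D.group F)) :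
    (∀ u ∈ K, ((θ g : ↥(D.group F)) : GL D.Idx F) * u * ((θ g : ↥(D.group F)) : GL D.Idx F)⁻¹ ∈ K)
      ↔ ∀ u ∈ K, (g : GL D.Idx F) * u * (g : GL D.Idx F)⁻¹ ∈ K := by
  constructor
  · intro h u hu
    have h1 : ((θ ⟨u, hK hu⟩ : ↥(D.group F)) : GL D.Idx F) ∈ K := (hθ ⟨u, hK hu⟩).2 hu
    have h2 := h _ h1
    have e : ((θ g : ↥(D.group F)) : GL D.Idx F) * ((θ ⟨u, hK hu⟩ : ↥(D.group F)) : GL D.Idx F)
        * ((θ g : ↥(D.group F)) : GL D.Idx F)⁻¹
        = ((θ (g * ⟨u, hK hu⟩ * g⁻¹) : ↥(D.group F)) : GL D.Idx F) := by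
      rw [map_mul, map_mul, map_inv]
      rfl
    rw [e] at h2
    exact (hθ _).1 h2
  · intro h u hu
    have h0 : θ (θ.symm ⟨u, hK hu⟩) = ⟨u, hK hu⟩ := θ.apply_symm_apply _
    have h1 : ((θ.symm ⟨u, hK hu⟩ : ↥(D.group F)) : GL D.Idx F) ∈ K := by
      apply (hθ _).1
      rw [h0]
      exact hu
    have h2 := h _ h1
    have h3 := (hθ (g * θ.symm ⟨u, hK hu⟩ * g⁻¹)).2 h2
    rw [map_mul, map_mul, map_inv, h0] at h3
    exact h3

/-- **A2a** `B ∩ G = N_G(U)`, so `θ(U) = U → θ(B) = B`. -/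
theorem maps_borel (D : ChevalleyDatum) (hD : D ∈ Seven) (θ : ↥(D.group F) ≃* ↥(D.group F))
    (hU : Maps D θ (D.posUnipotent F) (D.posUnipotent F)) :
    Maps D θ (D.borelSubgroup F) (D.borelSubgroup F) := fun g => by
  rw [mem_borel_iff D hD _ (θ g).2, mem_borel_iff D hD _ g.2,
    conj_mem_iff_of_maps D θ _ (pos_le_group D hD) hU g]

/-- **A2b** `H = N_G(U) ∩ N_G(V)`, so `θ(U) = U, θ(V) = V → θ(H) = H`. -/
theorem maps_diag (D : ChevalleyDatum) (hD : D ∈ Seven) (θ : ↥(D.group F) ≃* ↥(D.group F))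
    (hU : Maps D θ (D.posUnipotent F) (D.posUnipotent F))
    (hV : Maps D θ (D.negUnipotent F) (D.negUnipotent F)) :
    Maps D θ (D.diagonalSubgroup F) (D.diagonalSubgroup F) := fun g => by
  rw [mem_diagonal_iff D hD _ (θ g).2, mem_diagonal_iff D hD _ g.2,
    conj_mem_iff_of_maps D θ _ (pos_le_group D hD) hU g,
    conj_mem_iff_of_maps D θ _ (neg_le_group D hD) hV g]

end Cfsg.Agent.Lib.Helper8.ChevAut
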