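import Mathlib
import Cfsg.Agent.Lib.Helper1.AutDefs
import Cfsg.Agent.Lib.Helper1.WCU3
import Cfsg.Agent.Lib.Helper5.ChevXInj
import Cfsg.Agent.Lib.Helper5.ChevBnB
import Cfsg.Agent.Lib.Helper5.ChevConj
import Cfsg.Agent.Lib.Helper5.ChevNConj
import Cfsg.Agent.Lib.Helper5.ChevWRel

set_option autoImplicit false

/-!
S2156 farm, shared lemmas for B5 and B6: elementwise commutation of two root subgroups is
transported by an automorphism permuting them, and the `n_j`-trick showing that `X_r` cannot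
commute with both `X_{p_j}` and `X_{-p_j}` when `w_j r ≠ r`.
-/

namespace Cfsg.Agent.Lib.Helper8.ChevAut

open Cfsg Cfsg.Lie Cfsg.Agent.Lib.Helper5.ChevStruct Cfsg.Agent.Lib.Helper5.ChevSym
open Cfsg.Agent.Lib.Helper1.ChevAut

variable {F : Type*} [Field F]

/-- the root subgroups `X_r` and `X_s` commute elementwise (stated on the generators) -/
def XComm (D : ChevalleyDatum) (hD : D ∈ Seven) (F : Type*) [Field F] (r s : ℕ) : Prop :=
  ∀ t u : F, xGL D hD r t * xGL D hD s u = xGL D hD s u * xGL D hD r t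

theorem XComm.symm {D : ChevalleyDatum} {hD : D ∈ Seven} {r s : ℕ} (h : XComm D hD F r s) :
    XComm D hD F s r := fun t u => (h u t).symm

theorem xcomm_self (D : ChevalleyDatum) (hD : D ∈ Seven) (r : ℕ) : XComm D hD F r r := by
  intro t u
  apply Units.ext
  rw [Units.val_mul, Units.val_mul, xGL_val, xGL_val, x_add D hD, x_add D hD, add_comm]

theorem xGL_mem_rootSubgroup (D : ChevalleyDatum) (hD : D ∈ Seven) (r : ℕ) (t : F) :
    xGL D hD r t ∈ D.rootSubgroup F r :=
  Subgroup.subset_closure ⟨t, rfl⟩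

/-- an element of `G` in `X_r` is some `xG r t` -/
theorem exists_eq_xG (D : ChevalleyDatum) (hD : D ∈ Seven) (r : ℕ) (g : ↥(D.group F))
    (hg : (g : GL D.Idx F) ∈ D.rootSubgroup F r) : ∃ t : F, g = xG D hD r t := by
  obtain ⟨t, ht⟩ := mem_rootSubgroup D hD r _ hg
  exact ⟨t, eq_xG_of_val D hD r t g ht⟩

/-- commutation is transported by an automorphism mapping `X_r → X_r'`, `X_s → X_s'` -/
theorem xcomm_of_maps (D : ChevalleyDatum) (hD : D ∈ Seven) (θ : ↥(D.group F) ≃* ↥(D.group F))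
    (r s r' s' : ℕ) (h1 : Maps D θ (D.rootSubgroup F r) (D.rootSubgroup F r'))
    (h2 : Maps D θ (D.rootSubgroup F s) (D.rootSubgroup F s')) (h : XComm D hD F r s) :
    XComm D hD F r' s' := by
  intro t u
  have ha : ((θ.symm (xG D hD r' t) : ↥(D.group F)) : GL D.Idx F) ∈ D.rootSubgroup F r := by
    apply (h1 _).1
    rw [MulEquiv.apply_symm_apply]
    exact xGL_mem_rootSubgroup D hD r' t
  have hb : ((θ.symm (xG D hD s' u) : ↥(D.group F)) : GL D.Idx F) ∈ D.rootSubgroup F s := by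
    apply (h2 _).1
    rw [MulEquiv.apply_symm_apply]
    exact xGL_mem_rootSubgroup D hD s' u
  obtain ⟨t', ha'⟩ := exists_eq_xG D hD r _ ha
  obtain ⟨u', hb'⟩ := exists_eq_xG D hD s _ hb
  have hc : xG D hD r t' * xG D hD s u' = xG D hD s u' * xG D hD r t' :=
    Subtype.ext (h t' u')
  have hc' := congrArg θ hc
  rw [map_mul, map_mul, ← ha', ← hb', MulEquiv.apply_symm_apply, MulEquiv.apply_symm_apply] at hc'
  exact congrArg Subtype.val hc'

theorem xcomm_iff_of_maps (D : ChevalleyDatum) (hD : D ∈ Seven)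
    (θ : ↥(D.group F) ≃* ↥(D.group F))
    (r s r' s' : ℕ) (h1 : Maps D θ (D.rootSubgroup F r) (D.rootSubgroup F r'))
    (h2 : Maps D θ (D.rootSubgroup F s) (D.rootSubgroup F s')) :
    XComm D hD F r s ↔ XComm D hD F r' s' :=
  ⟨xcomm_of_maps D hD θ r s r' s' h1 h2, xcomm_of_maps D hD θ.symm r' s' r s h1.symm h2.symm⟩

/-- `X_r` cannot commute with both `X_{p_j}` and `X_{-p_j}` when `w_j r ≠ r` -/
theorem reflect_eq_of_xcomm (D : ChevalleyDatum) (hD : D ∈ Seven) (j : ℕ) (hj : j < D.rank)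
    (r : ℕ) (hr : r < D.nroots) (h1 : XComm D hD F r (D.simple j))
    (h2 : XComm D hD F r (D.neg (D.simple j))) : D.reflectRoot j r = r := by
  have hn : (nGL D hD j : GL D.Idx F)
      = xGL D hD (D.simple j) 1 * (xGL D hD (D.neg (D.simple j)) (-(1 : F)⁻¹)
        * xGL D hD (D.simple j) 1) := by
    simp [nGL, wordGL, ChevalleyDatum.nWord]
  have hcomm : nGL D hD j * xGL D hD r (1 : F) = xGL D hD r 1 * nGL D hD j := by
    rw [hn]
    have e1 := h1 (1 : F) 1
    have e2 := h2 (1 : F) (-(1 : F)⁻¹)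
    calc xGL D hD (D.simple j) 1 * (xGL D hD (D.neg (D.simple j)) (-(1 : F)⁻¹)
          * xGL D hD (D.simple j) 1) * xGL D hD r (1 : F)
        = xGL D hD (D.simple j) 1 * (xGL D hD (D.neg (D.simple j)) (-(1 : F)⁻¹)
          * (xGL D hD (D.simple j) 1 * xGL D hD r (1 : F))) := by group
      _ = xGL D hD (D.simple j) 1 * (xGL D hD (D.neg (D.simple j)) (-(1 : F)⁻¹)
          * (xGL D hD r (1 : F) * xGL D hD (D.simple j) 1)) := by rw [e1]
      _ = xGL D hD (D.simple j) 1 * ((xGL D hD (D.neg (D.simple j)) (-(1 : F)⁻¹)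
          * xGL D hD r (1 : F)) * xGL D hD (D.simple j) 1) := by group
      _ = xGL D hD (D.simple j) 1 * ((xGL D hD r (1 : F)
          * xGL D hD (D.neg (D.simple j)) (-(1 : F)⁻¹)) * xGL D hD (D.simple j) 1) := by rw [e2]
      _ = (xGL D hD (D.simple j) 1 * xGL D hD r (1 : F))
          * (xGL D hD (D.neg (D.simple j)) (-(1 : F)⁻¹) * xGL D hD (D.simple j) 1) := by group
      _ = (xGL D hD r (1 : F) * xGL D hD (D.simple j) 1)
          * (xGL D hD (D.neg (D.simple j)) (-(1 : F)⁻¹) * xGL D hD (D.simple j) 1) := by rw [e1]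
      _ = _ := by group
  have hconj : nGL D hD j * xGL D hD r (1 : F) * (nGL D hD j)⁻¹ = xGL D hD r 1 := by
    rw [hcomm]
    group
  have h3 := nGL_conj (F := F) D hD j hj r hr 1 (xGL D hD r 1) (xGL_val D hD r 1)
  rw [hconj, xGL_val] at h3
  have hη : (eta D j r : F) * 1 ≠ 0 := by
    rw [mul_one]
    rcases eta_sq D hD j hj r hr with h | h <;> rw [h] <;> simp
  exact x_root_inj D hD _ _ (reflectRoot_invol D hD j hj r hr).1 hr _ _ hη h3.symm

end Cfsg.Agent.Lib.Helper8.ChevAut
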