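import Mathlib
import Cfsg.Agent.Lib.Helper8.AutComm

set_option autoImplicit false

/-!
S2156 farm, unit B6: an automorphism permuting the fundamental root subgroups `X_{p_i}` induces a
symmetry of the Dynkin diagram (`X_{p_i}`, `X_{p_j}` commute iff there is no bond).
-/

namespace Cfsg.Agent.Lib.Helper8.ChevAut

open Cfsg Cfsg.Lie Cfsg.Agent.Lib.Helper5.ChevStruct Cfsg.Agent.Lib.Helper5.ChevSym
open Cfsg.Agent.Lib.Helper1.ChevAut

variable {F : Type*} [Field F]

/-- the table facts on pairs of distinct fundamental roots -/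
def PairFacts (D : ChevalleyDatum) : Prop :=
  ∀ i j : Fin D.rank, i ≠ j →
    D.simple j ≠ D.simple i ∧ D.simple j ≠ D.neg (D.simple i) ∧
    D.simple i ≠ D.neg (D.neg (D.simple j)) ∧
    (D.bonds i j = 0 → D.commTerms (D.simple i) (D.simple j) = []) ∧
    D.commTerms (D.neg (D.simple j)) (D.simple i) = [] ∧
    (D.bonds i j ≠ 0 → D.reflectRoot j (D.simple i) ≠ D.simple i)

instance (D : ChevalleyDatum) : Decidable (PairFacts D) := by
  unfold PairFacts
  infer_instance

theorem pairFacts_G2 : PairFacts chevG2 := by decide +kernel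
theorem pairFacts_B2 : PairFacts chevB2 := by decide +kernel
theorem pairFacts_D4 : PairFacts chevD4 := by decide +kernel
theorem pairFacts_F4 : PairFacts chevF4 := by decide +kernel
theorem pairFacts_E6 : PairFacts chevE6 := by decide +kernel
theorem pairFacts_E7 : PairFacts chevE7 := by decide +kernel
theorem pairFacts_E8 : PairFacts chevE8 := by decide +kernel

theorem pairFacts_all (D : ChevalleyDatum) (hD : D ∈ Seven) : PairFacts D := by
  simp only [Seven, List.mem_cons, List.not_mem_nil, or_false] at hD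
  rcases hD with rfl | rfl | rfl | rfl | rfl | rfl | rfl
  · exact pairFacts_G2
  · exact pairFacts_B2
  · exact pairFacts_D4
  · exact pairFacts_F4
  · exact pairFacts_E6
  · exact pairFacts_E7
  · exact pairFacts_E8

/-- `x_{p_i}` and `x_{-p_j}` commute for `i ≠ j` -/
theorem xcomm_simple_neg (D : ChevalleyDatum) (hD : D ∈ Seven) (i j : Fin D.rank) (hij : i ≠ j) :
    XComm D hD F (D.simple i) (D.neg (D.simple j)) := by
  obtain ⟨-, -, h3, -, h5, -⟩ := pairFacts_all D hD i j hij
  have hsi := simple_lt D hD i i.2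
  have hsj := simple_lt D hD j j.2
  have hnj := (Cfsg.Agent.Lib.Helper5.ChevStruct.neg_lt D hD _ hsj).1
  intro t u
  have hne : D.simple i ≠ D.neg (D.simple j) := by
    intro e
    apply (pairFacts_all D hD j i (Ne.symm hij)).2.1
    exact e
  exact Cfsg.Agent.Lib.Helper1.WC.xGL_comm_of_nil D hD _ _ hnj hsi hne h3 h5 u t

/-- the fundamental root subgroups `X_{p_i}`, `X_{p_j}` (`i ≠ j`) commute iff there is no bond -/
theorem xcomm_simple_iff (D : ChevalleyDatum) (hD : D ∈ Seven) (i j : Fin D.rank) (hij : i ≠ j) :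
    XComm D hD F (D.simple i) (D.simple j) ↔ D.bonds i j = 0 := by
  obtain ⟨h1, h2, -, h4, -, h6⟩ := pairFacts_all D hD i j hij
  have hsi := simple_lt D hD i i.2
  have hsj := simple_lt D hD j j.2
  constructor
  · intro h
    by_contra hb
    exact h6 hb (reflect_eq_of_xcomm D hD j j.2 _ hsi h (xcomm_simple_neg D hD i j hij))
  · intro hb t u
    exact (Cfsg.Agent.Lib.Helper1.WC.xGL_comm_of_nil D hD _ _ hsi hsj h1 h2 (h4 hb) t u).symm

/-- a permutation preserving the absence of bonds is a diagram symmetry: the combinatorial facts -/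
def SymFacts (D : ChevalleyDatum) : Prop :=
  (∀ i j : Fin D.rank, i ≠ j → D.bonds i j = 0 ∨ D.bonds i j = 1) ∨
  ∀ ρ : Equiv.Perm (Fin D.rank),
    (∀ i j : Fin D.rank, i ≠ j → (D.bonds (ρ i) (ρ j) = 0 ↔ D.bonds i j = 0)) →
    ∀ i j : Fin D.rank, i ≠ j → D.bonds (ρ i) (ρ j) = D.bonds i j

theorem symFacts_G2 : SymFacts chevG2 := Or.inr (by decide +kernel)
theorem symFacts_B2 : SymFacts chevB2 := Or.inr (by decide +kernel)
theorem symFacts_F4 : SymFacts chevF4 := Or.inr (by decide +kernel)
theorem symFacts_D4 : SymFacts chevD4 := Or.inl (by decide +kernel)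
theorem symFacts_E6 : SymFacts chevE6 := Or.inl (by decide +kernel)
theorem symFacts_E7 : SymFacts chevE7 := Or.inl (by decide +kernel)
theorem symFacts_E8 : SymFacts chevE8 := Or.inl (by decide +kernel)

theorem symFacts_all (D : ChevalleyDatum) (hD : D ∈ Seven) : SymFacts D := by
  simp only [Seven, List.mem_cons, List.not_mem_nil, or_false] at hD
  rcases hD with rfl | rfl | rfl | rfl | rfl | rfl | rfl
  · exact symFacts_G2
  · exact symFacts_B2
  · exact symFacts_D4
  · exact symFacts_F4
  · exact symFacts_E6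
  · exact symFacts_E7
  · exact symFacts_E8

theorem isDiagramSymmetry_of_zero_iff (D : ChevalleyDatum) (hD : D ∈ Seven)
    (ρ : Equiv.Perm (Fin D.rank))
    (h : ∀ i j : Fin D.rank, i ≠ j → (D.bonds (ρ i) (ρ j) = 0 ↔ D.bonds i j = 0)) :
    D.IsDiagramSymmetry ρ := by
  rcases symFacts_all D hD with h01 | hall
  · intro i j hij
    have hρ : ρ i ≠ ρ j := fun e => hij (ρ.injective e)
    rcases h01 i j hij with h0 | h1
    · rw [h0]
      exact (h i j hij).2 h0
    · rcases h01 (ρ i) (ρ j) hρ with h0' | h1'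
      · have := (h i j hij).1 h0'
        rw [h1] at this
        exact absurd this one_ne_zero
      · rw [h1, h1']
  · exact hall ρ h

/-- **B6** the permutation is a symmetry of the diagram
(`X_{p_i}`, `X_{p_j}` commute iff no bond). -/
theorem isDiagramSymmetry_of_maps (D : ChevalleyDatum) (hD : D ∈ Seven)
    (θ : ↥(D.group F) ≃* ↥(D.group F)) (ρ : Equiv.Perm (Fin D.rank))
    (hpos : ∀ i : Fin D.rank,
      Maps D θ (D.rootSubgroup F (D.simple i)) (D.rootSubgroup F (D.simple (ρ i)))) :
    D.IsDiagramSymmetry ρ := by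
  apply isDiagramSymmetry_of_zero_iff D hD ρ
  intro i j hij
  have hρ : ρ i ≠ ρ j := fun e => hij (ρ.injective e)
  rw [← xcomm_simple_iff (F := F) D hD i j hij, ← xcomm_simple_iff (F := F) D hD (ρ i) (ρ j) hρ]
  exact (xcomm_iff_of_maps D hD θ _ _ _ _ (hpos i) (hpos j)).symm

end Cfsg.Agent.Lib.Helper8.ChevAut
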