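import Mathlib
import Cfsg.Agent.Lib.Helper8.AutB6

set_option autoImplicit false

/-!
S2156 farm, unit B5: the permutations induced by an automorphism on the positive and on the
negative fundamental root subgroups agree (`X_{p_i}` commutes with `X_{-p_j}` iff `i ≠ j`).
-/

namespace Cfsg.Agent.Lib.Helper8.ChevAut

open Cfsg Cfsg.Lie Cfsg.Agent.Lib.Helper5.ChevStruct Cfsg.Agent.Lib.Helper5.ChevSym
open Cfsg.Agent.Lib.Helper1.ChevAut

variable {F : Type*} [Field F]

/-- `X_{p_m}` and `X_{-p_m}` do not commute -/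
theorem not_xcomm_simple_neg_self (D : ChevalleyDatum) (hD : D ∈ Seven) (m : Fin D.rank) :
    ¬ XComm D hD F (D.simple m) (D.neg (D.simple m)) := by
  intro h
  have hs := simple_lt D hD m m.2
  have h1 := reflect_eq_of_xcomm D hD m m.2 _ hs (xcomm_self D hD _) h
  rw [reflectRoot_simple] at h1
  exact (Cfsg.Agent.Lib.Helper5.ChevStruct.neg_lt D hD _ hs).2.1 h1

/-- **B5** the two permutations agree (`X_{p_i}` commutes with `X_{-p_j}` iff `i ≠ j`). -/
theorem perm_eq_of_maps (D : ChevalleyDatum) (hD : D ∈ Seven) (θ : ↥(D.group F) ≃* ↥(D.group F))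
    (ρ ρ' : Equiv.Perm (Fin D.rank))
    (hneg : ∀ i : Fin D.rank,
      Maps D θ (D.rootSubgroup F (D.neg (D.simple i))) (D.rootSubgroup F (D.neg (D.simple (ρ i)))))
    (hpos : ∀ i : Fin D.rank,
      Maps D θ (D.rootSubgroup F (D.simple i)) (D.rootSubgroup F (D.simple (ρ' i)))) :
    ρ' = ρ := by
  apply Equiv.ext
  intro i
  by_contra hne
  have hj : ρ.symm (ρ' i) ≠ i := by
    intro e
    apply hne
    rw [← e, Equiv.apply_symm_apply, e]
  have h1 : XComm D hD F (D.simple i) (D.neg (D.simple (ρ.symm (ρ' i)))) :=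
    xcomm_simple_neg D hD i _ (Ne.symm hj)
  have h2 := xcomm_of_maps D hD θ _ _ _ _ (hpos i) (hneg (ρ.symm (ρ' i))) h1
  rw [Equiv.apply_symm_apply] at h2
  exact not_xcomm_simple_neg_self D hD (ρ' i) h2

end Cfsg.Agent.Lib.Helper8.ChevAut
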