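import Mathlib
import Cfsg.Prelude.Def_ChevAutomorphisms
import Cfsg.Prelude.Def_KGroupFacts
import Cfsg.Agent.Lib.Helper5.ChevFieldMap
import Cfsg.Agent.Lib.Helper5.ChevSimpleGen
import Cfsg.Agent.Lib.Helper5.ChevNConj
import Cfsg.Agent.Lib.Helper5.ChevWRel

set_option autoImplicit false

/-!
Field automorphisms of the Chevalley groups of the seven exceptional data, as a homomorphism
`(F ≃+* F) →* MulAut ↥(D.group F)`; the number of automorphisms of a finite field.
-/

namespace Cfsg.Agent.Lib.Helper8.ChevOut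

open Cfsg Cfsg.Lie Cfsg.Agent.Lib.Helper5.ChevStruct Cfsg.Agent.Lib.Helper5.ChevSym

variable {F : Type*} [Field F]

/-- the field automorphisms of the Chevalley group -/
noncomputable def fieldAutHom (D : ChevalleyDatum) : (F ≃+* F) →* MulAut ↥(D.group F) where
  toFun σ := groupEquivOfRingEquiv D σ
  map_one' := by
    apply MulEquiv.ext
    intro g
    apply Subtype.ext
    apply Units.ext
    rw [groupEquivOfRingEquiv_val]
    ext i j
    rfl
  map_mul' σ τ := by
    apply MulEquiv.ext
    intro g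
    apply Subtype.ext
    apply Units.ext
    rw [MulAut.mul_apply, groupEquivOfRingEquiv_val, groupEquivOfRingEquiv_val,
      groupEquivOfRingEquiv_val]
    ext i j
    rfl

theorem fieldAutHom_val (D : ChevalleyDatum) (σ : F ≃+* F) (g : ↥(D.group F)) :
    ((fieldAutHom D σ g : GL D.Idx F) : Matrix D.Idx D.Idx F)
      = ((g : GL D.Idx F) : Matrix D.Idx D.Idx F).map σ := rfl

theorem fieldAutHom_x (D : ChevalleyDatum) (σ : F ≃+* F) (g : ↥(D.group F)) (r : ℕ) (t : F)
    (hg : ((g : GL D.Idx F) : Matrix D.Idx D.Idx F) = D.x F r t) :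
    ((fieldAutHom D σ g : GL D.Idx F) : Matrix D.Idx D.Idx F) = D.x F r (σ t) := by
  rw [fieldAutHom_val, hg]
  exact x_map D σ.toRingHom r t

theorem isFieldAut_fieldAutHom (D : ChevalleyDatum) (σ : F ≃+* F) :
    D.IsFieldAut (fieldAutHom D σ) :=
  ⟨σ, fun g r t _ hg => fieldAutHom_x D σ g r t hg⟩

/-- every field automorphism of the group comes from an automorphism of the field -/
theorem exists_eq_fieldAutHom (D : ChevalleyDatum) (hD : D ∈ Seven)
    (f : MulAut ↥(D.group F)) (hf : D.IsFieldAut f) : ∃ σ : F ≃+* F, f = fieldAutHom D σ := by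
  obtain ⟨σ, hσ⟩ := hf
  refine ⟨σ, MulEquiv.ext fun y => ?_⟩
  refine hom_ext_simple D hD f.toMonoidHom (fieldAutHom D σ).toMonoidHom ?_ y
  intro y i t hi hy
  apply Subtype.ext
  apply Units.ext
  rcases hy with hy | hy
  · show ((f y : GL D.Idx F) : Matrix D.Idx D.Idx F) = ((fieldAutHom D σ y : GL D.Idx F) : _)
    rw [hσ y _ t (simple_lt D hD i hi) hy, fieldAutHom_x D σ y _ t hy]
  · show ((f y : GL D.Idx F) : Matrix D.Idx D.Idx F) = ((fieldAutHom D σ y : GL D.Idx F) : _)
    rw [hσ y _ t (Cfsg.Agent.Lib.Helper5.ChevStruct.neg_lt D hD _ (simple_lt D hD i hi)).1 hy, fieldAutHom_x D σ y _ t hy]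

/-- a field with `p ^ f` elements has `f` automorphisms -/
theorem card_ringAut [Fintype F] (p f : ℕ) [Fact p.Prime] [CharP F p]
    (hF : Fintype.card F = p ^ f) : Nat.card (F ≃+* F) = f := by
  letI : Algebra (ZMod p) F := ZMod.algebra F p
  have e : (F ≃+* F) ≃ (F ≃ₐ[ZMod p] F) :=
    { toFun := fun σ => AlgEquiv.ofRingEquiv (f := σ) (fun r => by
        have h := Subsingleton.elim ((σ : F →+* F).comp (algebraMap (ZMod p) F))
          (algebraMap (ZMod p) F)
        exact RingHom.congr_fun h r)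
      invFun := fun τ => τ.toRingEquiv
      left_inv := fun σ => by
        ext x
        rfl
      right_inv := fun τ => by
        ext x
        rfl }
  rw [Nat.card_congr e, IsGalois.card_aut_eq_finrank]
  have h1 : Fintype.card F = Fintype.card (ZMod p) ^ Module.finrank (ZMod p) F :=
    Module.card_eq_pow_finrank (K := ZMod p) (V := F)
  rw [ZMod.card, hF] at h1
  exact (Nat.pow_right_injective (Fact.out : p.Prime).two_le h1).symm

end Cfsg.Agent.Lib.Helper8.ChevOut
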