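import Mathlib
import Cfsg.Agent.Lib.Helper1.AutDefs
import Cfsg.Agent.Lib.Helper8.ChevOutA

set_option autoImplicit false

/-!
S2156 farm, unit D1: the field automorphism of a Chevalley group attached to an automorphism of
the field.
-/

namespace Cfsg.Agent.Lib.Helper8.ChevAut

open Cfsg Cfsg.Lie Cfsg.Agent.Lib.Helper5.ChevStruct Cfsg.Agent.Lib.Helper5.ChevSym
open Cfsg.Agent.Lib.Helper1.ChevAut Cfsg.Agent.Lib.Helper8.ChevOut

variable {F : Type*} [Field F]

/-- **D1** the field automorphism attached to `τ`. -/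
theorem exists_fieldAut (D : ChevalleyDatum) (hD : D ∈ Seven) (τ : F ≃+* F) :
    ∃ f : ↥(D.group F) ≃* ↥(D.group F), D.IsFieldAut f ∧
      ∀ (r : ℕ) (t : F), f (xG D hD r t) = xG D hD r (τ t) :=
  ⟨fieldAutHom D τ, isFieldAut_fieldAutHom D τ, fun r t =>
    eq_xG_of_val D hD r (τ t) _ (fieldAutHom_x D τ (xG D hD r t) r t (xG_val D hD r t))⟩

end Cfsg.Agent.Lib.Helper8.ChevAut
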