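import Mathlib
import Cfsg.Prelude.Def_ChevStructure
import Cfsg.Prelude.Def_ChevAutomorphisms
import Cfsg.Agent.Lib.Helper5.ChevXGL

set_option autoImplicit false

/-!
Characters of the root lattice with a prescribed value at one fundamental root: `χ(r) = c ^ m_i(r)`,
where `m_i(r)` is the coordinate of the root `r` on the fundamental root `p_i`. The coordinates are
given by tables, verified against the chain tables of the seven Chevalley data.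
-/

namespace Cfsg.Agent.Lib.Helper8.ChevRootChar

open Cfsg Cfsg.Lie Cfsg.Agent.Lib.Helper5.ChevSym Cfsg.Agent.Lib.Helper5.ChevStruct

/-- lookup in a table of root coordinates -/
def rcGet (rc : List (List ℤ)) (r k : ℕ) : ℤ := (rc.getD r []).getD k 0

/-- the table `rc` lists the coordinates of the roots on the fundamental roots: odd under `r ↦ -r`,
additive along the first step of every chain, unit vectors at the fundamental roots -/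
def RCOK (D : ChevalleyDatum) (rc : List (List ℤ)) : Prop :=
  (∀ r ∈ List.range D.nroots, ∀ k ∈ List.range D.rank,
    rcGet rc (D.neg r) k = - rcGet rc r k) ∧
  (∀ r ∈ List.range D.nroots, ∀ e ∈ (D.chain.getD r #[]).toList, ∀ p ∈ e.2.toList.head?,
    ∀ k ∈ List.range D.rank, rcGet rc p.1 k = rcGet rc r k + rcGet rc e.1 k) ∧
  (∀ i ∈ List.range D.rank, ∀ k ∈ List.range D.rank,
    rcGet rc (D.simple i) k = if k = i then 1 else 0)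

instance (D : ChevalleyDatum) (rc : List (List ℤ)) : Decidable (RCOK D rc) := by
  unfold RCOK
  infer_instance

set_option maxHeartbeats 4000000 in
/-- the coordinates of the roots of type G2 on the fundamental roots -/
def h8rcG2 : List (List ℤ) :=
  [[-3, -2], [-3, -1], [-2, -1], [-1, -1], [-1, 0], [0, -1], [0, 1], [1, 0], [1, 1], [2, 1],
  [3, 1], [3, 2]]

set_option maxRecDepth 1000000 in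
theorem h8rcOK_G2 : RCOK chevG2 h8rcG2 := by decide +kernel

set_option maxHeartbeats 4000000 in
/-- the coordinates of the roots of type B2 on the fundamental roots -/
def h8rcB2 : List (List ℤ) :=
  [[-2, -1], [-1, -1], [-1, 0], [0, -1], [0, 1], [1, 0], [1, 1], [2, 1]]

set_option maxRecDepth 1000000 in
theorem h8rcOK_B2 : RCOK chevB2 h8rcB2 := by decide +kernel

set_option maxHeartbeats 4000000 in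
/-- the coordinates of the roots of type D4 on the fundamental roots -/
def h8rcD4 : List (List ℤ) :=
  [[-1, -2, -1, -1], [-1, -1, -1, -1], [-1, -1, -1, 0], [-1, -1, 0, -1], [-1, -1, 0, 0],
  [-1, 0, 0, 0], [0, -1, -1, -1], [0, -1, -1, 0], [0, -1, 0, -1], [0, -1, 0, 0], [0, 0, -1, 0],
  [0, 0, 0, -1], [0, 0, 0, 1], [0, 0, 1, 0], [0, 1, 0, 0], [0, 1, 0, 1], [0, 1, 1, 0],
  [0, 1, 1, 1], [1, 0, 0, 0], [1, 1, 0, 0], [1, 1, 0, 1], [1, 1, 1, 0], [1, 1, 1, 1],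
  [1, 2, 1, 1]]

set_option maxRecDepth 1000000 in
theorem h8rcOK_D4 : RCOK chevD4 h8rcD4 := by decide +kernel

set_option maxHeartbeats 4000000 in
/-- the coordinates of the roots of type F4 on the fundamental roots -/
def h8rcF4 : List (List ℤ) :=
  [[-2, -4, -3, -2], [-2, -4, -3, -1], [-2, -4, -2, -1], [-2, -3, -2, -1], [-2, -2, -2, -1],
  [-2, -2, -1, -1], [-2, -2, -1, 0], [-1, -3, -2, -1], [-1, -2, -2, -1], [-1, -2, -1, -1],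
  [-1, -2, -1, 0], [-1, -1, -1, -1], [-1, -1, -1, 0], [-1, -1, 0, 0], [-1, 0, 0, 0],
  [0, -2, -2, -1], [0, -2, -1, -1], [0, -2, -1, 0], [0, -1, -1, -1], [0, -1, -1, 0],
  [0, -1, 0, 0], [0, 0, -1, -1], [0, 0, -1, 0], [0, 0, 0, -1], [0, 0, 0, 1], [0, 0, 1, 0],
  [0, 0, 1, 1], [0, 1, 0, 0], [0, 1, 1, 0], [0, 1, 1, 1], [0, 2, 1, 0], [0, 2, 1, 1],
  [0, 2, 2, 1], [1, 0, 0, 0], [1, 1, 0, 0], [1, 1, 1, 0], [1, 1, 1, 1], [1, 2, 1, 0],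
  [1, 2, 1, 1], [1, 2, 2, 1], [1, 3, 2, 1], [2, 2, 1, 0], [2, 2, 1, 1], [2, 2, 2, 1],
  [2, 3, 2, 1], [2, 4, 2, 1], [2, 4, 3, 1], [2, 4, 3, 2]]

set_option maxRecDepth 1000000 in
theorem h8rcOK_F4 : RCOK chevF4 h8rcF4 := by decide +kernel

set_option maxHeartbeats 4000000 in
/-- the coordinates of the roots of type E6 on the fundamental roots -/
def h8rcE6 : List (List ℤ) :=
  [[-1, -2, -2, -3, -2, -1], [-1, -1, -2, -3, -2, -1], [-1, -1, -2, -2, -2, -1],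
  [-1, -1, -2, -2, -1, -1], [-1, -1, -2, -2, -1, 0], [-1, -1, -1, -2, -2, -1],
  [-1, -1, -1, -2, -1, -1], [-1, -1, -1, -2, -1, 0], [-1, -1, -1, -1, -1, -1],
  [-1, -1, -1, -1, -1, 0], [-1, -1, -1, -1, 0, 0], [-1, 0, -1, -1, -1, -1],
  [-1, 0, -1, -1, -1, 0], [-1, 0, -1, -1, 0, 0], [-1, 0, -1, 0, 0, 0], [-1, 0, 0, 0, 0, 0],
  [0, -1, -1, -2, -2, -1], [0, -1, -1, -2, -1, -1], [0, -1, -1, -2, -1, 0],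
  [0, -1, -1, -1, -1, -1], [0, -1, -1, -1, -1, 0], [0, -1, -1, -1, 0, 0], [0, -1, 0, -1, -1, -1],
  [0, -1, 0, -1, -1, 0], [0, -1, 0, -1, 0, 0], [0, -1, 0, 0, 0, 0], [0, 0, -1, -1, -1, -1],
  [0, 0, -1, -1, -1, 0], [0, 0, -1, -1, 0, 0], [0, 0, -1, 0, 0, 0], [0, 0, 0, -1, -1, -1],
  [0, 0, 0, -1, -1, 0], [0, 0, 0, -1, 0, 0], [0, 0, 0, 0, -1, -1], [0, 0, 0, 0, -1, 0],
  [0, 0, 0, 0, 0, -1], [0, 0, 0, 0, 0, 1], [0, 0, 0, 0, 1, 0], [0, 0, 0, 0, 1, 1],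
  [0, 0, 0, 1, 0, 0], [0, 0, 0, 1, 1, 0], [0, 0, 0, 1, 1, 1], [0, 0, 1, 0, 0, 0],
  [0, 0, 1, 1, 0, 0], [0, 0, 1, 1, 1, 0], [0, 0, 1, 1, 1, 1], [0, 1, 0, 0, 0, 0],
  [0, 1, 0, 1, 0, 0], [0, 1, 0, 1, 1, 0], [0, 1, 0, 1, 1, 1], [0, 1, 1, 1, 0, 0],
  [0, 1, 1, 1, 1, 0], [0, 1, 1, 1, 1, 1], [0, 1, 1, 2, 1, 0], [0, 1, 1, 2, 1, 1],
  [0, 1, 1, 2, 2, 1], [1, 0, 0, 0, 0, 0], [1, 0, 1, 0, 0, 0], [1, 0, 1, 1, 0, 0],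
  [1, 0, 1, 1, 1, 0], [1, 0, 1, 1, 1, 1], [1, 1, 1, 1, 0, 0], [1, 1, 1, 1, 1, 0],
  [1, 1, 1, 1, 1, 1], [1, 1, 1, 2, 1, 0], [1, 1, 1, 2, 1, 1], [1, 1, 1, 2, 2, 1],
  [1, 1, 2, 2, 1, 0], [1, 1, 2, 2, 1, 1], [1, 1, 2, 2, 2, 1], [1, 1, 2, 3, 2, 1],
  [1, 2, 2, 3, 2, 1]]

set_option maxRecDepth 1000000 in
theorem h8rcOK_E6 : RCOK chevE6 h8rcE6 := by decide +kernel

set_option maxHeartbeats 4000000 in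
/-- the coordinates of the roots of type E7 on the fundamental roots -/
def h8rcE7 : List (List ℤ) :=
  [[-2, -2, -3, -4, -3, -2, -1], [-1, -2, -3, -4, -3, -2, -1], [-1, -2, -2, -4, -3, -2, -1],
  [-1, -2, -2, -3, -3, -2, -1], [-1, -2, -2, -3, -2, -2, -1], [-1, -2, -2, -3, -2, -1, -1],
  [-1, -2, -2, -3, -2, -1, 0], [-1, -1, -2, -3, -3, -2, -1], [-1, -1, -2, -3, -2, -2, -1],
  [-1, -1, -2, -3, -2, -1, -1], [-1, -1, -2, -3, -2, -1, 0], [-1, -1, -2, -2, -2, -2, -1],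
  [-1, -1, -2, -2, -2, -1, -1], [-1, -1, -2, -2, -2, -1, 0], [-1, -1, -2, -2, -1, -1, -1],
  [-1, -1, -2, -2, -1, -1, 0], [-1, -1, -2, -2, -1, 0, 0], [-1, -1, -1, -2, -2, -2, -1],
  [-1, -1, -1, -2, -2, -1, -1], [-1, -1, -1, -2, -2, -1, 0], [-1, -1, -1, -2, -1, -1, -1],
  [-1, -1, -1, -2, -1, -1, 0], [-1, -1, -1, -2, -1, 0, 0], [-1, -1, -1, -1, -1, -1, -1],
  [-1, -1, -1, -1, -1, -1, 0], [-1, -1, -1, -1, -1, 0, 0], [-1, -1, -1, -1, 0, 0, 0],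
  [-1, 0, -1, -1, -1, -1, -1], [-1, 0, -1, -1, -1, -1, 0], [-1, 0, -1, -1, -1, 0, 0],
  [-1, 0, -1, -1, 0, 0, 0], [-1, 0, -1, 0, 0, 0, 0], [-1, 0, 0, 0, 0, 0, 0],
  [0, -1, -1, -2, -2, -2, -1], [0, -1, -1, -2, -2, -1, -1], [0, -1, -1, -2, -2, -1, 0],
  [0, -1, -1, -2, -1, -1, -1], [0, -1, -1, -2, -1, -1, 0], [0, -1, -1, -2, -1, 0, 0],
  [0, -1, -1, -1, -1, -1, -1], [0, -1, -1, -1, -1, -1, 0], [0, -1, -1, -1, -1, 0, 0],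
  [0, -1, -1, -1, 0, 0, 0], [0, -1, 0, -1, -1, -1, -1], [0, -1, 0, -1, -1, -1, 0],
  [0, -1, 0, -1, -1, 0, 0], [0, -1, 0, -1, 0, 0, 0], [0, -1, 0, 0, 0, 0, 0],
  [0, 0, -1, -1, -1, -1, -1], [0, 0, -1, -1, -1, -1, 0], [0, 0, -1, -1, -1, 0, 0],
  [0, 0, -1, -1, 0, 0, 0], [0, 0, -1, 0, 0, 0, 0], [0, 0, 0, -1, -1, -1, -1],
  [0, 0, 0, -1, -1, -1, 0], [0, 0, 0, -1, -1, 0, 0], [0, 0, 0, -1, 0, 0, 0],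
  [0, 0, 0, 0, -1, -1, -1], [0, 0, 0, 0, -1, -1, 0], [0, 0, 0, 0, -1, 0, 0],
  [0, 0, 0, 0, 0, -1, -1], [0, 0, 0, 0, 0, -1, 0], [0, 0, 0, 0, 0, 0, -1], [0, 0, 0, 0, 0, 0, 1],
  [0, 0, 0, 0, 0, 1, 0], [0, 0, 0, 0, 0, 1, 1], [0, 0, 0, 0, 1, 0, 0], [0, 0, 0, 0, 1, 1, 0],
  [0, 0, 0, 0, 1, 1, 1], [0, 0, 0, 1, 0, 0, 0], [0, 0, 0, 1, 1, 0, 0], [0, 0, 0, 1, 1, 1, 0],
  [0, 0, 0, 1, 1, 1, 1], [0, 0, 1, 0, 0, 0, 0], [0, 0, 1, 1, 0, 0, 0], [0, 0, 1, 1, 1, 0, 0],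
  [0, 0, 1, 1, 1, 1, 0], [0, 0, 1, 1, 1, 1, 1], [0, 1, 0, 0, 0, 0, 0], [0, 1, 0, 1, 0, 0, 0],
  [0, 1, 0, 1, 1, 0, 0], [0, 1, 0, 1, 1, 1, 0], [0, 1, 0, 1, 1, 1, 1], [0, 1, 1, 1, 0, 0, 0],
  [0, 1, 1, 1, 1, 0, 0], [0, 1, 1, 1, 1, 1, 0], [0, 1, 1, 1, 1, 1, 1], [0, 1, 1, 2, 1, 0, 0],
  [0, 1, 1, 2, 1, 1, 0], [0, 1, 1, 2, 1, 1, 1], [0, 1, 1, 2, 2, 1, 0], [0, 1, 1, 2, 2, 1, 1],
  [0, 1, 1, 2, 2, 2, 1], [1, 0, 0, 0, 0, 0, 0], [1, 0, 1, 0, 0, 0, 0], [1, 0, 1, 1, 0, 0, 0],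
  [1, 0, 1, 1, 1, 0, 0], [1, 0, 1, 1, 1, 1, 0], [1, 0, 1, 1, 1, 1, 1], [1, 1, 1, 1, 0, 0, 0],
  [1, 1, 1, 1, 1, 0, 0], [1, 1, 1, 1, 1, 1, 0], [1, 1, 1, 1, 1, 1, 1], [1, 1, 1, 2, 1, 0, 0],
  [1, 1, 1, 2, 1, 1, 0], [1, 1, 1, 2, 1, 1, 1], [1, 1, 1, 2, 2, 1, 0], [1, 1, 1, 2, 2, 1, 1],
  [1, 1, 1, 2, 2, 2, 1], [1, 1, 2, 2, 1, 0, 0], [1, 1, 2, 2, 1, 1, 0], [1, 1, 2, 2, 1, 1, 1],
  [1, 1, 2, 2, 2, 1, 0], [1, 1, 2, 2, 2, 1, 1], [1, 1, 2, 2, 2, 2, 1], [1, 1, 2, 3, 2, 1, 0],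
  [1, 1, 2, 3, 2, 1, 1], [1, 1, 2, 3, 2, 2, 1], [1, 1, 2, 3, 3, 2, 1], [1, 2, 2, 3, 2, 1, 0],
  [1, 2, 2, 3, 2, 1, 1], [1, 2, 2, 3, 2, 2, 1], [1, 2, 2, 3, 3, 2, 1], [1, 2, 2, 4, 3, 2, 1],
  [1, 2, 3, 4, 3, 2, 1], [2, 2, 3, 4, 3, 2, 1]]

set_option maxRecDepth 1000000 in
theorem h8rcOK_E7 : RCOK chevE7 h8rcE7 := by decide +kernel

set_option maxHeartbeats 4000000 in
/-- the coordinates of the roots of type E8 on the fundamental roots -/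
def h8rcE8 : List (List ℤ) :=
  [[-2, -3, -4, -6, -5, -4, -3, -2], [-2, -3, -4, -6, -5, -4, -3, -1],
  [-2, -3, -4, -6, -5, -4, -2, -1], [-2, -3, -4, -6, -5, -3, -2, -1],
  [-2, -3, -4, -6, -4, -3, -2, -1], [-2, -3, -4, -5, -4, -3, -2, -1],
  [-2, -3, -3, -5, -4, -3, -2, -1], [-2, -2, -4, -5, -4, -3, -2, -1],
  [-2, -2, -3, -5, -4, -3, -2, -1], [-2, -2, -3, -4, -4, -3, -2, -1],
  [-2, -2, -3, -4, -3, -3, -2, -1], [-2, -2, -3, -4, -3, -2, -2, -1],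
  [-2, -2, -3, -4, -3, -2, -1, -1], [-2, -2, -3, -4, -3, -2, -1, 0],
  [-1, -3, -3, -5, -4, -3, -2, -1], [-1, -2, -3, -5, -4, -3, -2, -1],
  [-1, -2, -3, -4, -4, -3, -2, -1], [-1, -2, -3, -4, -3, -3, -2, -1],
  [-1, -2, -3, -4, -3, -2, -2, -1], [-1, -2, -3, -4, -3, -2, -1, -1],
  [-1, -2, -3, -4, -3, -2, -1, 0], [-1, -2, -2, -4, -4, -3, -2, -1],
  [-1, -2, -2, -4, -3, -3, -2, -1], [-1, -2, -2, -4, -3, -2, -2, -1],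
  [-1, -2, -2, -4, -3, -2, -1, -1], [-1, -2, -2, -4, -3, -2, -1, 0],
  [-1, -2, -2, -3, -3, -3, -2, -1], [-1, -2, -2, -3, -3, -2, -2, -1],
  [-1, -2, -2, -3, -3, -2, -1, -1], [-1, -2, -2, -3, -3, -2, -1, 0],
  [-1, -2, -2, -3, -2, -2, -2, -1], [-1, -2, -2, -3, -2, -2, -1, -1],
  [-1, -2, -2, -3, -2, -2, -1, 0], [-1, -2, -2, -3, -2, -1, -1, -1],
  [-1, -2, -2, -3, -2, -1, -1, 0], [-1, -2, -2, -3, -2, -1, 0, 0],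
  [-1, -1, -2, -3, -3, -3, -2, -1], [-1, -1, -2, -3, -3, -2, -2, -1],
  [-1, -1, -2, -3, -3, -2, -1, -1], [-1, -1, -2, -3, -3, -2, -1, 0],
  [-1, -1, -2, -3, -2, -2, -2, -1], [-1, -1, -2, -3, -2, -2, -1, -1],
  [-1, -1, -2, -3, -2, -2, -1, 0], [-1, -1, -2, -3, -2, -1, -1, -1],
  [-1, -1, -2, -3, -2, -1, -1, 0], [-1, -1, -2, -3, -2, -1, 0, 0],
  [-1, -1, -2, -2, -2, -2, -2, -1], [-1, -1, -2, -2, -2, -2, -1, -1],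
  [-1, -1, -2, -2, -2, -2, -1, 0], [-1, -1, -2, -2, -2, -1, -1, -1],
  [-1, -1, -2, -2, -2, -1, -1, 0], [-1, -1, -2, -2, -2, -1, 0, 0],
  [-1, -1, -2, -2, -1, -1, -1, -1], [-1, -1, -2, -2, -1, -1, -1, 0],
  [-1, -1, -2, -2, -1, -1, 0, 0], [-1, -1, -2, -2, -1, 0, 0, 0],
  [-1, -1, -1, -2, -2, -2, -2, -1], [-1, -1, -1, -2, -2, -2, -1, -1],
  [-1, -1, -1, -2, -2, -2, -1, 0], [-1, -1, -1, -2, -2, -1, -1, -1],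
  [-1, -1, -1, -2, -2, -1, -1, 0], [-1, -1, -1, -2, -2, -1, 0, 0],
  [-1, -1, -1, -2, -1, -1, -1, -1], [-1, -1, -1, -2, -1, -1, -1, 0],
  [-1, -1, -1, -2, -1, -1, 0, 0], [-1, -1, -1, -2, -1, 0, 0, 0],
  [-1, -1, -1, -1, -1, -1, -1, -1], [-1, -1, -1, -1, -1, -1, -1, 0],
  [-1, -1, -1, -1, -1, -1, 0, 0], [-1, -1, -1, -1, -1, 0, 0, 0], [-1, -1, -1, -1, 0, 0, 0, 0],
  [-1, 0, -1, -1, -1, -1, -1, -1], [-1, 0, -1, -1, -1, -1, -1, 0], [-1, 0, -1, -1, -1, -1, 0, 0],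
  [-1, 0, -1, -1, -1, 0, 0, 0], [-1, 0, -1, -1, 0, 0, 0, 0], [-1, 0, -1, 0, 0, 0, 0, 0],
  [-1, 0, 0, 0, 0, 0, 0, 0], [0, -1, -1, -2, -2, -2, -2, -1], [0, -1, -1, -2, -2, -2, -1, -1],
  [0, -1, -1, -2, -2, -2, -1, 0], [0, -1, -1, -2, -2, -1, -1, -1],
  [0, -1, -1, -2, -2, -1, -1, 0], [0, -1, -1, -2, -2, -1, 0, 0], [0, -1, -1, -2, -1, -1, -1, -1],
  [0, -1, -1, -2, -1, -1, -1, 0], [0, -1, -1, -2, -1, -1, 0, 0], [0, -1, -1, -2, -1, 0, 0, 0],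
  [0, -1, -1, -1, -1, -1, -1, -1], [0, -1, -1, -1, -1, -1, -1, 0], [0, -1, -1, -1, -1, -1, 0, 0],
  [0, -1, -1, -1, -1, 0, 0, 0], [0, -1, -1, -1, 0, 0, 0, 0], [0, -1, 0, -1, -1, -1, -1, -1],
  [0, -1, 0, -1, -1, -1, -1, 0], [0, -1, 0, -1, -1, -1, 0, 0], [0, -1, 0, -1, -1, 0, 0, 0],
  [0, -1, 0, -1, 0, 0, 0, 0], [0, -1, 0, 0, 0, 0, 0, 0], [0, 0, -1, -1, -1, -1, -1, -1],
  [0, 0, -1, -1, -1, -1, -1, 0], [0, 0, -1, -1, -1, -1, 0, 0], [0, 0, -1, -1, -1, 0, 0, 0],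
  [0, 0, -1, -1, 0, 0, 0, 0], [0, 0, -1, 0, 0, 0, 0, 0], [0, 0, 0, -1, -1, -1, -1, -1],
  [0, 0, 0, -1, -1, -1, -1, 0], [0, 0, 0, -1, -1, -1, 0, 0], [0, 0, 0, -1, -1, 0, 0, 0],
  [0, 0, 0, -1, 0, 0, 0, 0], [0, 0, 0, 0, -1, -1, -1, -1], [0, 0, 0, 0, -1, -1, -1, 0],
  [0, 0, 0, 0, -1, -1, 0, 0], [0, 0, 0, 0, -1, 0, 0, 0], [0, 0, 0, 0, 0, -1, -1, -1],
  [0, 0, 0, 0, 0, -1, -1, 0], [0, 0, 0, 0, 0, -1, 0, 0], [0, 0, 0, 0, 0, 0, -1, -1],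
  [0, 0, 0, 0, 0, 0, -1, 0], [0, 0, 0, 0, 0, 0, 0, -1], [0, 0, 0, 0, 0, 0, 0, 1],
  [0, 0, 0, 0, 0, 0, 1, 0], [0, 0, 0, 0, 0, 0, 1, 1], [0, 0, 0, 0, 0, 1, 0, 0],
  [0, 0, 0, 0, 0, 1, 1, 0], [0, 0, 0, 0, 0, 1, 1, 1], [0, 0, 0, 0, 1, 0, 0, 0],
  [0, 0, 0, 0, 1, 1, 0, 0], [0, 0, 0, 0, 1, 1, 1, 0], [0, 0, 0, 0, 1, 1, 1, 1],
  [0, 0, 0, 1, 0, 0, 0, 0], [0, 0, 0, 1, 1, 0, 0, 0], [0, 0, 0, 1, 1, 1, 0, 0],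
  [0, 0, 0, 1, 1, 1, 1, 0], [0, 0, 0, 1, 1, 1, 1, 1], [0, 0, 1, 0, 0, 0, 0, 0],
  [0, 0, 1, 1, 0, 0, 0, 0], [0, 0, 1, 1, 1, 0, 0, 0], [0, 0, 1, 1, 1, 1, 0, 0],
  [0, 0, 1, 1, 1, 1, 1, 0], [0, 0, 1, 1, 1, 1, 1, 1], [0, 1, 0, 0, 0, 0, 0, 0],
  [0, 1, 0, 1, 0, 0, 0, 0], [0, 1, 0, 1, 1, 0, 0, 0], [0, 1, 0, 1, 1, 1, 0, 0],
  [0, 1, 0, 1, 1, 1, 1, 0], [0, 1, 0, 1, 1, 1, 1, 1], [0, 1, 1, 1, 0, 0, 0, 0],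
  [0, 1, 1, 1, 1, 0, 0, 0], [0, 1, 1, 1, 1, 1, 0, 0], [0, 1, 1, 1, 1, 1, 1, 0],
  [0, 1, 1, 1, 1, 1, 1, 1], [0, 1, 1, 2, 1, 0, 0, 0], [0, 1, 1, 2, 1, 1, 0, 0],
  [0, 1, 1, 2, 1, 1, 1, 0], [0, 1, 1, 2, 1, 1, 1, 1], [0, 1, 1, 2, 2, 1, 0, 0],
  [0, 1, 1, 2, 2, 1, 1, 0], [0, 1, 1, 2, 2, 1, 1, 1], [0, 1, 1, 2, 2, 2, 1, 0],
  [0, 1, 1, 2, 2, 2, 1, 1], [0, 1, 1, 2, 2, 2, 2, 1], [1, 0, 0, 0, 0, 0, 0, 0],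
  [1, 0, 1, 0, 0, 0, 0, 0], [1, 0, 1, 1, 0, 0, 0, 0], [1, 0, 1, 1, 1, 0, 0, 0],
  [1, 0, 1, 1, 1, 1, 0, 0], [1, 0, 1, 1, 1, 1, 1, 0], [1, 0, 1, 1, 1, 1, 1, 1],
  [1, 1, 1, 1, 0, 0, 0, 0], [1, 1, 1, 1, 1, 0, 0, 0], [1, 1, 1, 1, 1, 1, 0, 0],
  [1, 1, 1, 1, 1, 1, 1, 0], [1, 1, 1, 1, 1, 1, 1, 1], [1, 1, 1, 2, 1, 0, 0, 0],
  [1, 1, 1, 2, 1, 1, 0, 0], [1, 1, 1, 2, 1, 1, 1, 0], [1, 1, 1, 2, 1, 1, 1, 1],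
  [1, 1, 1, 2, 2, 1, 0, 0], [1, 1, 1, 2, 2, 1, 1, 0], [1, 1, 1, 2, 2, 1, 1, 1],
  [1, 1, 1, 2, 2, 2, 1, 0], [1, 1, 1, 2, 2, 2, 1, 1], [1, 1, 1, 2, 2, 2, 2, 1],
  [1, 1, 2, 2, 1, 0, 0, 0], [1, 1, 2, 2, 1, 1, 0, 0], [1, 1, 2, 2, 1, 1, 1, 0],
  [1, 1, 2, 2, 1, 1, 1, 1], [1, 1, 2, 2, 2, 1, 0, 0], [1, 1, 2, 2, 2, 1, 1, 0],
  [1, 1, 2, 2, 2, 1, 1, 1], [1, 1, 2, 2, 2, 2, 1, 0], [1, 1, 2, 2, 2, 2, 1, 1],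
  [1, 1, 2, 2, 2, 2, 2, 1], [1, 1, 2, 3, 2, 1, 0, 0], [1, 1, 2, 3, 2, 1, 1, 0],
  [1, 1, 2, 3, 2, 1, 1, 1], [1, 1, 2, 3, 2, 2, 1, 0], [1, 1, 2, 3, 2, 2, 1, 1],
  [1, 1, 2, 3, 2, 2, 2, 1], [1, 1, 2, 3, 3, 2, 1, 0], [1, 1, 2, 3, 3, 2, 1, 1],
  [1, 1, 2, 3, 3, 2, 2, 1], [1, 1, 2, 3, 3, 3, 2, 1], [1, 2, 2, 3, 2, 1, 0, 0],
  [1, 2, 2, 3, 2, 1, 1, 0], [1, 2, 2, 3, 2, 1, 1, 1], [1, 2, 2, 3, 2, 2, 1, 0],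
  [1, 2, 2, 3, 2, 2, 1, 1], [1, 2, 2, 3, 2, 2, 2, 1], [1, 2, 2, 3, 3, 2, 1, 0],
  [1, 2, 2, 3, 3, 2, 1, 1], [1, 2, 2, 3, 3, 2, 2, 1], [1, 2, 2, 3, 3, 3, 2, 1],
  [1, 2, 2, 4, 3, 2, 1, 0], [1, 2, 2, 4, 3, 2, 1, 1], [1, 2, 2, 4, 3, 2, 2, 1],
  [1, 2, 2, 4, 3, 3, 2, 1], [1, 2, 2, 4, 4, 3, 2, 1], [1, 2, 3, 4, 3, 2, 1, 0],
  [1, 2, 3, 4, 3, 2, 1, 1], [1, 2, 3, 4, 3, 2, 2, 1], [1, 2, 3, 4, 3, 3, 2, 1],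
  [1, 2, 3, 4, 4, 3, 2, 1], [1, 2, 3, 5, 4, 3, 2, 1], [1, 3, 3, 5, 4, 3, 2, 1],
  [2, 2, 3, 4, 3, 2, 1, 0], [2, 2, 3, 4, 3, 2, 1, 1], [2, 2, 3, 4, 3, 2, 2, 1],
  [2, 2, 3, 4, 3, 3, 2, 1], [2, 2, 3, 4, 4, 3, 2, 1], [2, 2, 3, 5, 4, 3, 2, 1],
  [2, 2, 4, 5, 4, 3, 2, 1], [2, 3, 3, 5, 4, 3, 2, 1], [2, 3, 4, 5, 4, 3, 2, 1],
  [2, 3, 4, 6, 4, 3, 2, 1], [2, 3, 4, 6, 5, 3, 2, 1], [2, 3, 4, 6, 5, 4, 2, 1],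
  [2, 3, 4, 6, 5, 4, 3, 1], [2, 3, 4, 6, 5, 4, 3, 2]]

set_option maxRecDepth 1000000 in
theorem h8rcOK_E8 : RCOK chevE8 h8rcE8 := by decide +kernel

/-- for each of the seven types there is a table of root coordinates -/
theorem exists_rcOK (D : ChevalleyDatum) (hD : D ∈ Seven) : ∃ rc : List (List ℤ), RCOK D rc := by
  simp only [Seven, List.mem_cons, List.not_mem_nil, or_false] at hD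
  rcases hD with rfl | rfl | rfl | rfl | rfl | rfl | rfl
  · exact ⟨_, h8rcOK_G2⟩
  · exact ⟨_, h8rcOK_B2⟩
  · exact ⟨_, h8rcOK_D4⟩
  · exact ⟨_, h8rcOK_F4⟩
  · exact ⟨_, h8rcOK_E6⟩
  · exact ⟨_, h8rcOK_E7⟩
  · exact ⟨_, h8rcOK_E8⟩

end Cfsg.Agent.Lib.Helper8.ChevRootChar
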