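import Mathlib
import Cfsg.Prelude.Def_ChevStructure
import Cfsg.Prelude.Def_ChevAutomorphisms
import Cfsg.Agent.Lib.Helper8.ChevRootChar1

set_option autoImplicit false

/-!
Characters of the root lattice with a prescribed value at one fundamental root.
-/

namespace Cfsg.Agent.Lib.Helper8.ChevRootChar

open Cfsg Cfsg.Lie Cfsg.Agent.Lib.Helper5.ChevSym Cfsg.Agent.Lib.Helper5.ChevStruct

theorem rcOK_neg (D : ChevalleyDatum) (rc : List (List ℤ)) (h : RCOK D rc) (r : ℕ)
    (hr : r < D.nroots) (k : ℕ) (hk : k < D.rank) :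
    rcGet rc (D.neg r) k = - rcGet rc r k :=
  h.1 r (List.mem_range.2 hr) k (List.mem_range.2 hk)

theorem rcOK_simple (D : ChevalleyDatum) (rc : List (List ℤ)) (h : RCOK D rc) (i : ℕ)
    (hi : i < D.rank) (k : ℕ) (hk : k < D.rank) :
    rcGet rc (D.simple i) k = if k = i then 1 else 0 :=
  h.2.2 i (List.mem_range.2 hi) k (List.mem_range.2 hk)

/-- additivity along the first step of a chain -/
theorem rcOK_chainRoot (D : ChevalleyDatum) (rc : List (List ℤ)) (h : RCOK D rc) (r s u : ℕ)
    (hr : r < D.nroots) (hu : D.chainRoot r s 1 = some u) (k : ℕ) (hk : k < D.rank) :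
    rcGet rc u k = rcGet rc r k + rcGet rc s k := by
  unfold ChevalleyDatum.chainRoot ChevalleyDatum.chainEntry at hu
  rw [Option.map_eq_some_iff] at hu
  obtain ⟨p, hp, rfl⟩ := hu
  cases hf : (D.chain.getD r #[]).toList.find? (fun e => e.1 = s) with
  | none =>
    rw [hf] at hp
    simp at hp
  | some e =>
    rw [hf] at hp
    have he := List.mem_of_find?_eq_some hf
    have hes : e.1 = s := by simpa using List.find?_some hf
    have hp' : p ∈ e.2.toList.head? := by
      rw [List.head?_eq_getElem?]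
      exact hp
    have := h.2.1 r (List.mem_range.2 hr) e he p hp' k (List.mem_range.2 hk)
    rw [hes] at this
    exact this

variable {F : Type*} [Field F]

/-- the character `r ↦ c ^ m_i(r)` of the root lattice -/
def rootChar (rc : List (List ℤ)) (i : ℕ) (c : Fˣ) : ℕ → Fˣ := fun r => c ^ rcGet rc r i

theorem rootChar_isRootCharacter (D : ChevalleyDatum) (rc : List (List ℤ)) (h : RCOK D rc)
    (i : ℕ) (hi : i < D.rank) (c : Fˣ) : D.IsRootCharacter (rootChar rc i c) := by
  refine ⟨fun r hr => ?_, fun r s k hr _ hk => ?_⟩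
  · show c ^ rcGet rc (D.neg r) i = (c ^ rcGet rc r i)⁻¹
    rw [rcOK_neg D rc h r hr i hi, zpow_neg]
  · show c ^ rcGet rc k i = c ^ rcGet rc r i * c ^ rcGet rc s i
    rw [rcOK_chainRoot D rc h r s k hr hk i hi, zpow_add]

/-- **m2**: a character of the root lattice with value `c` at the fundamental root `p_i` and `1` at
the other fundamental roots -/
theorem exists_rootChar (D : ChevalleyDatum) (hD : D ∈ Seven) (i : ℕ) (hi : i < D.rank) (c : Fˣ) :
    ∃ χ : ℕ → Fˣ, D.IsRootCharacter χ ∧ χ (D.simple i) = c ∧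
      ∀ j < D.rank, j ≠ i → χ (D.simple j) = 1 := by
  obtain ⟨rc, h⟩ := exists_rcOK D hD
  refine ⟨rootChar rc i c, rootChar_isRootCharacter D rc h i hi c, ?_, ?_⟩
  · show c ^ rcGet rc (D.simple i) i = c
    rw [rcOK_simple D rc h i hi i hi, if_pos rfl, zpow_one]
  · intro j hj hji
    show c ^ rcGet rc (D.simple j) i = 1
    rw [rcOK_simple D rc h j hj i hi, if_neg (Ne.symm hji), zpow_zero]

/-- **m2** in the shape used by the S2318 assembly -/
theorem hm2 {F : Type*} [Field F] (D : ChevalleyDatum) (hD : D ∈ Seven) :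
    ∀ i, i < D.rank → ∀ c : Fˣ, ∃ χ : ℕ → Fˣ, D.IsRootCharacter χ ∧ χ (D.simple i) = c := by
  intro i hi c
  obtain ⟨χ, h1, h2, -⟩ := exists_rootChar D hD i hi c
  exact ⟨χ, h1, h2⟩

/-- more generally: a character of the root lattice with arbitrary prescribed values at the
fundamental roots -/
theorem exists_rootChar_all (D : ChevalleyDatum) (hD : D ∈ Seven) (c : ℕ → Fˣ) :
    ∃ χ : ℕ → Fˣ, D.IsRootCharacter χ ∧ ∀ i < D.rank, χ (D.simple i) = c i := by
  obtain ⟨rc, h⟩ := exists_rcOK D hD
  refine ⟨fun r => ∏ i : Fin D.rank, rootChar rc i.val (c i.val) r, ⟨fun r hr => ?_,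
    fun r s k hr hs hk => ?_⟩, fun i hi => ?_⟩
  · show ∏ i : Fin D.rank, rootChar rc i.val (c i.val) (D.neg r)
      = (∏ i : Fin D.rank, rootChar rc i.val (c i.val) r)⁻¹
    rw [← Finset.prod_inv_distrib]
    apply Finset.prod_congr rfl
    intro i _
    exact (rootChar_isRootCharacter D rc h i.val i.2 (c i.val)).1 r hr
  · show ∏ i : Fin D.rank, rootChar rc i.val (c i.val) k
      = (∏ i : Fin D.rank, rootChar rc i.val (c i.val) r)
        * ∏ i : Fin D.rank, rootChar rc i.val (c i.val) s
    rw [← Finset.prod_mul_distrib]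
    apply Finset.prod_congr rfl
    intro i _
    exact (rootChar_isRootCharacter D rc h i.val i.2 (c i.val)).2 r s k hr hs hk
  · show ∏ j : Fin D.rank, rootChar rc j.val (c j.val) (D.simple i) = c i
    rw [Finset.prod_eq_single (⟨i, hi⟩ : Fin D.rank)]
    · show c i ^ rcGet rc (D.simple i) i = c i
      rw [rcOK_simple D rc h i hi i hi, if_pos rfl, zpow_one]
    · intro j _ hne
      show c j.val ^ rcGet rc (D.simple i) j.val = 1
      rw [rcOK_simple D rc h i hi j.val j.2, if_neg, zpow_zero]
      intro hji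
      exact hne (Fin.ext hji)
    · intro hh
      exact absurd (Finset.mem_univ _) hh

end Cfsg.Agent.Lib.Helper8.ChevRootChar
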