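import Mathlib
import Cfsg.Agent.Lib.Helper1.AutDefs
import Cfsg.Agent.Lib.Helper5.ChevCharDiag2
import Cfsg.Agent.Lib.Helper5.ChevWRel
import Cfsg.Agent.Lib.Helper5.ChevNConj
import Cfsg.Agent.Lib.Helper8.ChevRootChar2

set_option autoImplicit false

/-!
S2156 farm, unit D2: the diagonal automorphism of a Chevalley group attached to a character of the
root lattice, and the one with prescribed values at the fundamental roots.
-/

namespace Cfsg.Agent.Lib.Helper8.ChevAut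

open Cfsg Cfsg.Lie Cfsg.Agent.Lib.Helper5.ChevStruct Cfsg.Agent.Lib.Helper5.ChevSym
open Cfsg.Agent.Lib.Helper1.ChevAut

variable {F : Type*} [Field F]

theorem isRootCharacter_inv (D : ChevalleyDatum) (χ : ℕ → Fˣ) (hχ : D.IsRootCharacter χ) :
    D.IsRootCharacter (fun s => (χ s)⁻¹) := by
  refine ⟨fun r hr => ?_, fun r s k hr hs hk => ?_⟩
  · show (χ (D.neg r))⁻¹ = ((χ r)⁻¹)⁻¹
    rw [hχ.1 r hr]
  · show (χ k)⁻¹ = (χ r)⁻¹ * (χ s)⁻¹
    rw [hχ.2 r s k hr hs hk, mul_inv]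

/-- the matrix `ĥ(χ)` as an element of `GL` -/
noncomputable def charGL (D : ChevalleyDatum) (χ : ℕ → Fˣ) : GL D.Idx F where
  val := D.charDiag F χ
  inv := D.charDiag F (fun s => (χ s)⁻¹)
  val_inv := charDiag_mul_inv D χ
  inv_val := by
    have h := charDiag_mul_inv (F := F) D (fun s => (χ s)⁻¹)
    simpa only [inv_inv] using h

theorem charGL_val (D : ChevalleyDatum) (χ : ℕ → Fˣ) :
    ((charGL D χ : GL D.Idx F) : Matrix D.Idx D.Idx F) = D.charDiag F χ := rfl

theorem charGL_inv_val (D : ChevalleyDatum) (χ : ℕ → Fˣ) :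
    (((charGL D χ)⁻¹ : GL D.Idx F) : Matrix D.Idx D.Idx F)
      = D.charDiag F (fun s => (χ s)⁻¹) := rfl

theorem charGL_inv (D : ChevalleyDatum) (χ : ℕ → Fˣ) :
    (charGL D χ : GL D.Idx F)⁻¹ = charGL D (fun s => (χ s)⁻¹) := by
  apply Units.ext
  rfl

/-- `ĥ(χ) x_r(t) ĥ(χ)⁻¹ = x_r(χ(r) t)` in `GL` -/
theorem charGL_conj_x (D : ChevalleyDatum) (hD : D ∈ Seven) (χ : ℕ → Fˣ)
    (hχ : D.IsRootCharacter χ) (r : ℕ) (hr : r < D.nroots) (t : F) :
    charGL D χ * xGL D hD r t * (charGL D χ)⁻¹ = xGL D hD r ((χ r : F) * t) := by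
  apply Units.ext
  rw [Units.val_mul, Units.val_mul, charGL_val, charGL_inv_val, xGL_val, xGL_val]
  exact charDiag_conj D hD χ hχ r hr t

/-- conjugation by `ĥ(χ)` preserves the Chevalley group -/
theorem charGL_conj_mem (D : ChevalleyDatum) (hD : D ∈ Seven) (χ : ℕ → Fˣ)
    (hχ : D.IsRootCharacter χ) (g : GL D.Idx F) (hg : g ∈ D.group F) :
    charGL D χ * g * (charGL D χ)⁻¹ ∈ D.group F := by
  unfold ChevalleyDatum.group at hg
  induction hg using Subgroup.closure_induction with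
  | mem y hy =>
    obtain ⟨r, t, hy⟩ := hy
    have e : y = xGL D hD r.val t := by
      apply Units.ext
      rw [hy, xGL_val]
      unfold ChevalleyDatum.x
      rw [dif_pos r.2]
    rw [e, charGL_conj_x D hD χ hχ r.val r.2 t]
    exact xGL_mem_group D hD _ _
  | one =>
    simp only [mul_one, mul_inv_cancel]
    exact one_mem _
  | mul a b _ _ ha hb =>
    have e : charGL D χ * (a * b) * (charGL D χ)⁻¹
        = (charGL D χ * a * (charGL D χ)⁻¹) * (charGL D χ * b * (charGL D χ)⁻¹) := by group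
    rw [e]
    exact mul_mem ha hb
  | inv a _ ha =>
    have e : charGL D χ * a⁻¹ * (charGL D χ)⁻¹ = (charGL D χ * a * (charGL D χ)⁻¹)⁻¹ := by group
    rw [e]
    exact inv_mem ha

/-- the diagonal automorphism attached to a character of the root lattice -/
noncomputable def diagAutOf (D : ChevalleyDatum) (hD : D ∈ Seven) (χ : ℕ → Fˣ)
    (hχ : D.IsRootCharacter χ) : ↥(D.group F) ≃* ↥(D.group F) where
  toFun g := ⟨charGL D χ * g * (charGL D χ)⁻¹, charGL_conj_mem D hD χ hχ g g.2⟩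
  invFun g := ⟨(charGL D χ)⁻¹ * g * charGL D χ, by
    have h := charGL_conj_mem D hD _ (isRootCharacter_inv D χ hχ) g g.2
    rw [← charGL_inv, inv_inv] at h
    exact h⟩
  left_inv g := by
    apply Subtype.ext
    show (charGL D χ)⁻¹ * (charGL D χ * g * (charGL D χ)⁻¹) * charGL D χ = g
    group
  right_inv g := by
    apply Subtype.ext
    show charGL D χ * ((charGL D χ)⁻¹ * g * charGL D χ) * (charGL D χ)⁻¹ = g
    group
  map_mul' a b := by
    apply Subtype.ext
    show charGL D χ * ((a : GL D.Idx F) * b) * (charGL D χ)⁻¹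
      = (charGL D χ * a * (charGL D χ)⁻¹) * (charGL D χ * b * (charGL D χ)⁻¹)
    group

theorem diagAutOf_coe (D : ChevalleyDatum) (hD : D ∈ Seven) (χ : ℕ → Fˣ)
    (hχ : D.IsRootCharacter χ) (g : ↥(D.group F)) :
    ((diagAutOf D hD χ hχ g : ↥(D.group F)) : GL D.Idx F)
      = charGL D χ * g * (charGL D χ)⁻¹ := rfl

theorem isDiagonalAut_diagAutOf (D : ChevalleyDatum) (hD : D ∈ Seven) (χ : ℕ → Fˣ)
    (hχ : D.IsRootCharacter χ) : D.IsDiagonalAut (diagAutOf D hD χ hχ) :=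
  ⟨χ, hχ, fun g => by
    rw [diagAutOf_coe, Units.val_mul, Units.val_mul, charGL_val, charGL_inv_val]⟩

theorem diagAutOf_xG (D : ChevalleyDatum) (hD : D ∈ Seven) (χ : ℕ → Fˣ)
    (hχ : D.IsRootCharacter χ) (r : ℕ) (hr : r < D.nroots) (t : F) :
    diagAutOf D hD χ hχ (xG D hD r t) = xG D hD r ((χ r : F) * t) := by
  apply Subtype.ext
  rw [diagAutOf_coe, xG_coe, xG_coe]
  exact charGL_conj_x D hD χ hχ r hr t

/-- every diagonal automorphism is some `diagAutOf χ` -/
theorem exists_eq_diagAutOf (D : ChevalleyDatum) (hD : D ∈ Seven)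
    (d : ↥(D.group F) ≃* ↥(D.group F)) (hd : D.IsDiagonalAut d) :
    ∃ (χ : ℕ → Fˣ) (hχ : D.IsRootCharacter χ), d = diagAutOf D hD χ hχ := by
  obtain ⟨χ, hχ, h⟩ := hd
  refine ⟨χ, hχ, MulEquiv.ext fun g => ?_⟩
  apply Subtype.ext
  apply Units.ext
  rw [h g, diagAutOf_coe, Units.val_mul, Units.val_mul, charGL_val, charGL_inv_val]

/-- **D2** the diagonal automorphism with prescribed values at the fundamental roots. -/
theorem exists_diagAut (D : ChevalleyDatum) (hD : D ∈ Seven) (c : Fin D.rank → Fˣ) :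
    ∃ d : ↥(D.group F) ≃* ↥(D.group F), D.IsDiagonalAut d ∧
      ∀ (i : Fin D.rank) (t : F),
        d (xG D hD (D.simple i) t) = xG D hD (D.simple i) ((c i : F) * t) ∧
        d (xG D hD (D.neg (D.simple i)) t)
          = xG D hD (D.neg (D.simple i)) (((c i)⁻¹ : Fˣ) * t) := by
  obtain ⟨χ, hχ, hc⟩ := Cfsg.Agent.Lib.Helper8.ChevRootChar.exists_rootChar_all D hD
    (fun i => if h : i < D.rank then c ⟨i, h⟩ else 1)
  refine ⟨diagAutOf D hD χ hχ, isDiagonalAut_diagAutOf D hD χ hχ, fun i t => ?_⟩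
  have hs : D.simple i < D.nroots := simple_lt D hD i i.2
  have h1 : χ (D.simple i) = c i := by
    rw [hc i i.2, dif_pos i.2]
  constructor
  · rw [diagAutOf_xG D hD χ hχ _ hs, h1]
  · rw [diagAutOf_xG D hD χ hχ _ (Cfsg.Agent.Lib.Helper5.ChevStruct.neg_lt D hD _ hs).1,
      hχ.1 _ hs, h1]

end Cfsg.Agent.Lib.Helper8.ChevAut
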