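import Mathlib
import Cfsg.Prelude.Def_ChevStructure
import Cfsg.Agent.Lib.Helper5.ChevHeight
import Cfsg.Agent.Lib.Helper5.ChevXGL

set_option autoImplicit false

/-!
Height tables for the seven Chevalley data: the unipotent subgroup `U` is unitriangular for the
grading by root heights, and the negatives of the fundamental roots sit exactly one level below the
Cartan part.
-/

namespace Cfsg.Agent.Lib.Helper8.ChevPsi

open Cfsg Cfsg.Lie Cfsg.Agent.Lib.Helper5.UniTri Cfsg.Agent.Lib.Helper5.ChevPosUni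
  Cfsg.Agent.Lib.Helper5.ChevHeight Cfsg.Agent.Lib.Helper5.ChevSym Cfsg.Agent.Lib.Helper5.ChevStruct

/-- the negatives of the fundamental roots sit one level below the Cartan level `c`, and the
fundamental roots are positive roots with coroot coordinate `1` at their own place -/
def SimpleH (D : ChevalleyDatum) (ht : List ℕ) (c : ℕ) : Prop :=
  ∀ i ∈ List.range D.rank, ht.getD (D.neg (D.simple i)) 0 + 1 = c ∧
    D.neg (D.simple i) < D.nroots ∧ D.IsPosRoot (D.simple i) ∧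
    (D.coroot.getD (D.simple i) #[]).getD i 0 = 1 ∧
    (∀ r ∈ List.range D.nroots, D.neg r = D.neg (D.simple i) → r = D.simple i) ∧
    ∀ j ∈ List.range D.rank, D.simple j = D.simple i → j = i

instance (D : ChevalleyDatum) (ht : List ℕ) (c : ℕ) : Decidable (SimpleH D ht c) := by
  unfold SimpleH
  infer_instance

/-- the heights of the roots of type G2, shifted by `5` -/
def h8htG2 : List ℕ :=
  [0, 1, 2, 3, 4, 4, 6, 6, 7, 8, 9, 10]

set_option maxRecDepth 1000000 in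
theorem h8goodH_G2 : GoodH chevG2 h8htG2 5 := by decide +kernel

set_option maxRecDepth 1000000 in
theorem h8simpleH_G2 : SimpleH chevG2 h8htG2 5 := by decide +kernel

/-- the heights of the roots of type B2, shifted by `3` -/
def h8htB2 : List ℕ :=
  [0, 1, 2, 2, 4, 4, 5, 6]

set_option maxRecDepth 1000000 in
theorem h8goodH_B2 : GoodH chevB2 h8htB2 3 := by decide +kernel

set_option maxRecDepth 1000000 in
theorem h8simpleH_B2 : SimpleH chevB2 h8htB2 3 := by decide +kernel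

/-- the heights of the roots of type D4, shifted by `5` -/
def h8htD4 : List ℕ :=
  [0, 1, 2, 2, 3, 4, 2, 3, 3, 4, 4, 4, 6, 6, 6, 7, 7, 8, 6, 7, 8, 8, 9, 10]

set_option maxRecDepth 1000000 in
theorem h8goodH_D4 : GoodH chevD4 h8htD4 5 := by decide +kernel

set_option maxRecDepth 1000000 in
theorem h8simpleH_D4 : SimpleH chevD4 h8htD4 5 := by decide +kernel

/-- the heights of the roots of type F4, shifted by `11` -/
def h8htF4 : List ℕ :=
  [0, 1, 2, 3, 4, 5, 6, 4, 5, 6, 7, 7, 8, 9, 10, 6, 7, 8, 8, 9, 10, 9, 10, 10, 12, 12, 13, 12,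
  13, 14, 14, 15, 16, 12, 13, 14, 15, 15, 16, 17, 18, 16, 17, 18, 19, 20, 21, 22]

set_option maxRecDepth 1000000 in
theorem h8goodH_F4 : GoodH chevF4 h8htF4 11 := by decide +kernel

set_option maxRecDepth 1000000 in
theorem h8simpleH_F4 : SimpleH chevF4 h8htF4 11 := by decide +kernel

/-- the heights of the roots of type E6, shifted by `11` -/
def h8htE6 : List ℕ :=
  [0, 1, 2, 3, 4, 3, 4, 5, 5, 6, 7, 6, 7, 8, 9, 10, 4, 5, 6, 6, 7, 8, 7, 8, 9, 10, 7, 8, 9, 10,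
  8, 9, 10, 9, 10, 10, 12, 12, 13, 12, 13, 14, 12, 13, 14, 15, 12, 13, 14, 15, 14, 15, 16, 16,
  17, 18, 12, 13, 14, 15, 16, 15, 16, 17, 17, 18, 19, 18, 19, 20, 21, 22]

set_option maxRecDepth 1000000 in
theorem h8goodH_E6 : GoodH chevE6 h8htE6 11 := by decide +kernel

set_option maxRecDepth 1000000 in
theorem h8simpleH_E6 : SimpleH chevE6 h8htE6 11 := by decide +kernel

/-- the heights of the roots of type E7, shifted by `17` -/
def h8htE7 : List ℕ :=
  [0, 1, 2, 3, 4, 5, 6, 4, 5, 6, 7, 6, 7, 8, 8, 9, 10, 7, 8, 9, 9, 10, 11, 10, 11, 12, 13, 11,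
  12, 13, 14, 15, 16, 8, 9, 10, 10, 11, 12, 11, 12, 13, 14, 12, 13, 14, 15, 16, 12, 13, 14, 15,
  16, 13, 14, 15, 16, 14, 15, 16, 15, 16, 16, 18, 18, 19, 18, 19, 20, 18, 19, 20, 21, 18, 19, 20,
  21, 22, 18, 19, 20, 21, 22, 20, 21, 22, 23, 22, 23, 24, 24, 25, 26, 18, 19, 20, 21, 22, 23, 21,
  22, 23, 24, 23, 24, 25, 25, 26, 27, 24, 25, 26, 26, 27, 28, 27, 28, 29, 30, 28, 29, 30, 31, 32,
  33, 34]

set_option maxRecDepth 1000000 in
theorem h8goodH_E7 : GoodH chevE7 h8htE7 17 := by decide +kernel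

set_option maxRecDepth 1000000 in
theorem h8simpleH_E7 : SimpleH chevE7 h8htE7 17 := by decide +kernel

/-- the heights of the roots of type E8, shifted by `29` -/
def h8htE8 : List ℕ :=
  [0, 1, 2, 3, 4, 5, 6, 6, 7, 8, 9, 10, 11, 12, 7, 8, 9, 10, 11, 12, 13, 10, 11, 12, 13, 14, 12,
  13, 14, 15, 14, 15, 16, 16, 17, 18, 13, 14, 15, 16, 15, 16, 17, 17, 18, 19, 16, 17, 18, 18, 19,
  20, 19, 20, 21, 22, 17, 18, 19, 19, 20, 21, 20, 21, 22, 23, 21, 22, 23, 24, 25, 22, 23, 24, 25,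
  26, 27, 28, 18, 19, 20, 20, 21, 22, 21, 22, 23, 24, 22, 23, 24, 25, 26, 23, 24, 25, 26, 27, 28,
  23, 24, 25, 26, 27, 28, 24, 25, 26, 27, 28, 25, 26, 27, 28, 26, 27, 28, 27, 28, 28, 30, 30, 31,
  30, 31, 32, 30, 31, 32, 33, 30, 31, 32, 33, 34, 30, 31, 32, 33, 34, 35, 30, 31, 32, 33, 34, 35,
  32, 33, 34, 35, 36, 34, 35, 36, 37, 36, 37, 38, 38, 39, 40, 30, 31, 32, 33, 34, 35, 36, 33, 34,
  35, 36, 37, 35, 36, 37, 38, 37, 38, 39, 39, 40, 41, 36, 37, 38, 39, 38, 39, 40, 40, 41, 42, 39,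
  40, 41, 41, 42, 43, 42, 43, 44, 45, 40, 41, 42, 42, 43, 44, 43, 44, 45, 46, 44, 45, 46, 47, 48,
  45, 46, 47, 48, 49, 50, 51, 46, 47, 48, 49, 50, 51, 52, 52, 53, 54, 55, 56, 57, 58]

set_option maxRecDepth 1000000 in
theorem h8goodH_E8 : GoodH chevE8 h8htE8 29 := by decide +kernel

set_option maxRecDepth 1000000 in
theorem h8simpleH_E8 : SimpleH chevE8 h8htE8 29 := by decide +kernel

/-- for each of the seven types there is a height table -/
theorem exists_goodH (D : ChevalleyDatum) (hD : D ∈ Seven) :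
    ∃ (ht : List ℕ) (c : ℕ), GoodH D ht c ∧ SimpleH D ht c := by
  simp only [Seven, List.mem_cons, List.not_mem_nil, or_false] at hD
  rcases hD with rfl | rfl | rfl | rfl | rfl | rfl | rfl
  · exact ⟨_, _, h8goodH_G2, h8simpleH_G2⟩
  · exact ⟨_, _, h8goodH_B2, h8simpleH_B2⟩
  · exact ⟨_, _, h8goodH_D4, h8simpleH_D4⟩
  · exact ⟨_, _, h8goodH_F4, h8simpleH_F4⟩
  · exact ⟨_, _, h8goodH_E6, h8simpleH_E6⟩
  · exact ⟨_, _, h8goodH_E7, h8simpleH_E7⟩
  · exact ⟨_, _, h8goodH_E8, h8simpleH_E8⟩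

end Cfsg.Agent.Lib.Helper8.ChevPsi
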