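import Mathlib
import Cfsg.Prelude.Def_ChevStructure
import Cfsg.Agent.Lib.Helper8.ChevPsi1

set_option autoImplicit false

/-!
The additive homomorphisms `U → F` reading the coefficient of the fundamental root group `X_{p_i}`:
`u ↦` the matrix entry of `u` at (row `h_{p_i}`, column `e_{-p_i}`).
-/

namespace Cfsg.Agent.Lib.Helper8.ChevPsi

open Cfsg Cfsg.Lie Cfsg.Agent.Lib.Helper5.UniTri Cfsg.Agent.Lib.Helper5.ChevPosUni
  Cfsg.Agent.Lib.Helper5.ChevHeight Cfsg.Agent.Lib.Helper5.ChevSym Cfsg.Agent.Lib.Helper5.ChevStruct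

section abstract

variable {ι : Type*} [Fintype ι] [DecidableEq ι] {F : Type*} [Field F]

/-- an entry one level below the diagonal is additive on unitriangular matrices -/
theorem unitri_mul_entry (lvl : ι → ℕ) (a b : ι) (hab : lvl a = lvl b + 1) (g h : GL ι F)
    (hg : g ∈ unitri lvl F 0) (hh : h ∈ unitri lvl F 0) :
    ((g * h : GL ι F) : Matrix ι ι F) a b = (g : Matrix ι ι F) a b + (h : Matrix ι ι F) a b := by
  have hne : a ≠ b := by
    rintro rfl
    omega
  have key : ((g * h : GL ι F) : Matrix ι ι F) - 1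
        = ((g : Matrix ι ι F) - 1) * ((h : Matrix ι ι F) - 1) + ((g : Matrix ι ι F) - 1)
          + ((h : Matrix ι ι F) - 1) := by
    rw [Units.val_mul, sub_mul, mul_sub, mul_sub, mul_one, one_mul, one_mul]
    abel
  have h2 : (((g : Matrix ι ι F) - 1) * ((h : Matrix ι ι F) - 1)) a b = 0 := by
    by_contra hne0
    have := (Lower.mul (mem_unitri.1 hg) (mem_unitri.1 hh)) a b hne0
    omega
  have h3 := congrFun (congrFun key a) b
  simp only [Matrix.sub_apply, Matrix.add_apply, Matrix.one_apply_ne hne, sub_zero, h2,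
    zero_add] at h3
  exact h3

end abstract

variable {F : Type*} [Field F]

theorem neg_simple_lt (D : ChevalleyDatum) (hD : D ∈ Seven) (i : ℕ) (hi : i < D.rank) :
    D.neg (D.simple i) < D.nroots := by
  obtain ⟨ht, c, -, hS⟩ := exists_goodH D hD
  exact (hS i (List.mem_range.2 hi)).2.1

theorem simple_isPosRoot (D : ChevalleyDatum) (hD : D ∈ Seven) (i : ℕ) (hi : i < D.rank) :
    D.IsPosRoot (D.simple i) := by
  obtain ⟨ht, c, -, hS⟩ := exists_goodH D hD
  exact (hS i (List.mem_range.2 hi)).2.2.1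

theorem simple_injective (D : ChevalleyDatum) (hD : D ∈ Seven) (i j : ℕ) (hi : i < D.rank)
    (hj : j < D.rank) (h : D.simple j = D.simple i) : j = i := by
  obtain ⟨ht, c, -, hS⟩ := exists_goodH D hD
  exact (hS i (List.mem_range.2 hi)).2.2.2.2.2 j (List.mem_range.2 hj) h

/-- the coefficient function: entry (row `h_{p_i}`, column `e_{-p_i}`) -/
def coefEntry (D : ChevalleyDatum) (hD : D ∈ Seven) (i : ℕ) (hi : i < D.rank)
    (g : GL D.Idx F) : F :=
  (g : Matrix D.Idx D.Idx F) (Sum.inl ⟨i, hi⟩) (Sum.inr ⟨D.neg (D.simple i), neg_simple_lt D hD i hi⟩)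

theorem coefEntry_one (D : ChevalleyDatum) (hD : D ∈ Seven) (i : ℕ) (hi : i < D.rank) :
    coefEntry D hD i hi (1 : GL D.Idx F) = 0 := by
  unfold coefEntry
  rw [Units.val_one]
  exact Matrix.one_apply_ne (by simp)

theorem coefEntry_mul (D : ChevalleyDatum) (hD : D ∈ Seven) (i : ℕ) (hi : i < D.rank)
    (g h : GL D.Idx F) (hg : g ∈ D.posUnipotent F) (hh : h ∈ D.posUnipotent F) :
    coefEntry D hD i hi (g * h) = coefEntry D hD i hi g + coefEntry D hD i hi h := by
  obtain ⟨ht, c, hG, hS⟩ := exists_goodH D hD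
  unfold coefEntry
  apply unitri_mul_entry (lvlH D ht c) _ _ _ g h (posUnipotent_leH D ht c hG hg)
    (posUnipotent_leH D ht c hG hh)
  show c = ht.getD (D.neg (D.simple i)) 0 + 1
  exact (hS i (List.mem_range.2 hi)).1.symm

/-- value on the root elements of positive roots -/
theorem coefEntry_xGL (D : ChevalleyDatum) (hD : D ∈ Seven) (i : ℕ) (hi : i < D.rank)
    (r : ℕ) (hr : D.IsPosRoot r) (t : F) :
    coefEntry D hD i hi (xGL D hD r t) = if r = D.simple i then t else 0 := by
  obtain ⟨ht, c, hG, hS⟩ := exists_goodH D hD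
  obtain ⟨h1, h2, h3, h4, h5, -⟩ := hS i (List.mem_range.2 hi)
  obtain ⟨g1, g2, -⟩ := hG r (List.mem_range.2 hr.1) hr
  unfold coefEntry
  rw [xGL_val]
  unfold ChevalleyDatum.x
  rw [dif_pos hr.1]
  simp only [ChevalleyDatum.xMat, Matrix.of_apply]
  by_cases hsr : (⟨D.neg (D.simple i), h2⟩ : Fin D.nroots) = ⟨r, hr.1⟩
  · rw [if_pos hsr]
    have hv : D.neg (D.simple i) = r := congrArg Fin.val hsr
    rw [if_neg]
    rintro rfl
    rw [← hv] at g1
    omega
  · rw [if_neg hsr]
    by_cases hn : D.neg (D.simple i) = D.negIdx.getD r 0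
    · rw [if_pos hn]
      have hrs : r = D.simple i := h5 r (List.mem_range.2 hr.1) hn.symm
      rw [if_pos hrs]
      subst hrs
      rw [h4]
      simp
    · rw [if_neg hn, if_neg]
      rintro rfl
      exact hn rfl

/-- the additive coefficient homomorphism `U → F` of the fundamental root `p_i` -/
def coefHom (D : ChevalleyDatum) (hD : D ∈ Seven) (F : Type*) [Field F] (i : ℕ) (hi : i < D.rank) :
    ↥(D.posUnipotent F) →* Multiplicative F where
  toFun u := Multiplicative.ofAdd (coefEntry D hD i hi (u : GL D.Idx F))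
  map_one' := by
    show Multiplicative.ofAdd (coefEntry D hD i hi ((1 : GL D.Idx F))) = 1
    rw [coefEntry_one]
    rfl
  map_mul' u v := by
    show Multiplicative.ofAdd (coefEntry D hD i hi ((u : GL D.Idx F) * (v : GL D.Idx F))) = _
    rw [coefEntry_mul D hD i hi _ _ u.2 v.2]
    rfl

theorem coefHom_apply (D : ChevalleyDatum) (hD : D ∈ Seven) (i : ℕ) (hi : i < D.rank)
    (u : ↥(D.posUnipotent F)) :
    coefHom D hD F i hi u = Multiplicative.ofAdd (coefEntry D hD i hi (u : GL D.Idx F)) := rfl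

theorem xGL_mem_posUnipotent (D : ChevalleyDatum) (hD : D ∈ Seven) (r : ℕ) (hr : D.IsPosRoot r)
    (t : F) : xGL D hD r t ∈ D.posUnipotent F :=
  Subgroup.subset_closure ⟨r, t, hr, rfl⟩

theorem coefHom_xGL (D : ChevalleyDatum) (hD : D ∈ Seven) (i : ℕ) (hi : i < D.rank)
    (r : ℕ) (hr : D.IsPosRoot r) (t : F) :
    coefHom D hD F i hi ⟨xGL D hD r t, xGL_mem_posUnipotent D hD r hr t⟩
      = Multiplicative.ofAdd (if r = D.simple i then t else 0) := by
  rw [coefHom_apply, coefEntry_xGL D hD i hi r hr t]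

end Cfsg.Agent.Lib.Helper8.ChevPsi
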