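import Mathlib
import Cfsg.Agent.Lib.Helper1.AutDefs
import Cfsg.Agent.Lib.Helper5.FieldFix.Basic
import Cfsg.Agent.Lib.Helper8.ChevOutA
import Cfsg.Agent.Lib.Helper8.AutD2
import Cfsg.Agent.Lib.Helper8.AutA2
import Cfsg.Agent.Lib.Helper8.AutB6

set_option autoImplicit false

/-!
Normal forms of the diagonal, graph and field automorphisms of a Chevalley group on the root
elements; diagonal and field automorphisms preserve `U` and `V`; a graph automorphism is determined
by its diagram symmetry; uniqueness of the decomposition `d g f`.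
-/

namespace Cfsg.Agent.Lib.Helper8.ChevOut

open Cfsg Cfsg.Lie Cfsg.Agent.Lib.Helper5.ChevStruct Cfsg.Agent.Lib.Helper5.ChevSym
open Cfsg.Agent.Lib.Helper1.ChevAut Cfsg.Agent.Lib.Helper8.ChevAut

variable {F : Type*} [Field F]

/-- two automorphisms agreeing on the fundamental root elements and their negatives are equal -/
theorem mulEquiv_ext_xG (D : ChevalleyDatum) (hD : D ∈ Seven)
    (φ ψ : ↥(D.group F) ≃* ↥(D.group F))
    (h : ∀ (i : Fin D.rank) (t : F), φ (xG D hD (D.simple i) t) = ψ (xG D hD (D.simple i) t) ∧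
      φ (xG D hD (D.neg (D.simple i)) t) = ψ (xG D hD (D.neg (D.simple i)) t)) : φ = ψ := by
  apply MulEquiv.ext
  intro y
  refine hom_ext_simple D hD φ.toMonoidHom ψ.toMonoidHom ?_ y
  intro y i t hi hy
  rcases hy with hy | hy
  · rw [eq_xG_of_val D hD _ _ y hy]
    exact (h ⟨i, hi⟩ t).1
  · rw [eq_xG_of_val D hD _ _ y hy]
    exact (h ⟨i, hi⟩ t).2

theorem xG_injective (D : ChevalleyDatum) (hD : D ∈ Seven) (r : ℕ) (hr : r < D.nroots) (t u : F)
    (h : xG D hD r t = xG D hD r u) : t = u := by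
  have h1 := congrArg (fun g : ↥(D.group F) => ((g : GL D.Idx F) : Matrix D.Idx D.Idx F)) h
  simp only [xG_val] at h1
  exact Cfsg.Agent.Lib.Helper5.FieldFix.x_inj_param D hD r hr t u h1

theorem xG_root_inj (D : ChevalleyDatum) (hD : D ∈ Seven) (a b : ℕ) (ha : a < D.nroots)
    (hb : b < D.nroots) (t u : F) (ht : t ≠ 0) (h : xG D hD a t = xG D hD b u) : a = b := by
  have h1 := congrArg (fun g : ↥(D.group F) => ((g : GL D.Idx F) : Matrix D.Idx D.Idx F)) h
  simp only [xG_val] at h1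
  exact x_root_inj D hD a b ha hb t u ht h1

/-- `θ` maps every root element to a root element of the same root -/
def RootStable (D : ChevalleyDatum) (hD : D ∈ Seven) (θ : ↥(D.group F) ≃* ↥(D.group F)) : Prop :=
  ∀ r < D.nroots, ∀ t : F, ∃ t' : F, θ (xG D hD r t) = xG D hD r t'

theorem mem_closure_of_rootStable (D : ChevalleyDatum) (hD : D ∈ Seven)
    (θ : ↥(D.group F) ≃* ↥(D.group F)) (hθ : RootStable D hD θ) (P : ℕ → Prop)
    (hP : ∀ r, P r → r < D.nroots) (g : GL D.Idx F)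
    (hg : g ∈ Subgroup.closure {g : GL D.Idx F | ∃ (r : ℕ) (t : F), P r ∧
      (g : Matrix D.Idx D.Idx F) = D.x F r t}) :
    ∀ hG : g ∈ D.group F, ((θ ⟨g, hG⟩ : ↥(D.group F)) : GL D.Idx F)
      ∈ Subgroup.closure {g : GL D.Idx F | ∃ (r : ℕ) (t : F), P r ∧
        (g : Matrix D.Idx D.Idx F) = D.x F r t} := by
  induction hg using Subgroup.closure_induction with
  | mem y hy =>
    intro hG
    obtain ⟨r, t, hr, hy⟩ := hy
    have e : (⟨y, hG⟩ : ↥(D.group F)) = xG D hD r t := eq_xG_of_val D hD r t _ hy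
    obtain ⟨t', ht'⟩ := hθ r (hP r hr) t
    rw [e, ht']
    exact Subgroup.subset_closure ⟨r, t', hr, rfl⟩
  | one =>
    intro hG
    have e : (⟨1, hG⟩ : ↥(D.group F)) = 1 := rfl
    rw [e, map_one]
    exact one_mem _
  | mul a b ha' hb' ha hb =>
    intro hG
    have haG : a ∈ D.group F := by
      revert ha'
      apply (Subgroup.closure_le _).2
      rintro y ⟨r, t, -, hy⟩
      have : y = xGL D hD r t := Units.ext (by rw [hy, xGL_val])
      rw [this]
      exact xGL_mem_group D hD r t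
    have hbG : b ∈ D.group F := by
      revert hb'
      apply (Subgroup.closure_le _).2
      rintro y ⟨r, t, -, hy⟩
      have : y = xGL D hD r t := Units.ext (by rw [hy, xGL_val])
      rw [this]
      exact xGL_mem_group D hD r t
    have e : (⟨a * b, hG⟩ : ↥(D.group F)) = ⟨a, haG⟩ * ⟨b, hbG⟩ := rfl
    rw [e, map_mul]
    exact mul_mem (ha haG) (hb hbG)
  | inv a ha' ha =>
    intro hG
    have haG : a ∈ D.group F := by
      revert ha'
      apply (Subgroup.closure_le _).2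
      rintro y ⟨r, t, -, hy⟩
      have : y = xGL D hD r t := Units.ext (by rw [hy, xGL_val])
      rw [this]
      exact xGL_mem_group D hD r t
    have e : (⟨a⁻¹, hG⟩ : ↥(D.group F)) = (⟨a, haG⟩ : ↥(D.group F))⁻¹ := rfl
    rw [e, map_inv]
    exact inv_mem (ha haG)

theorem maps_closure_of_rootStable (D : ChevalleyDatum) (hD : D ∈ Seven)
    (θ : ↥(D.group F) ≃* ↥(D.group F)) (hθ : RootStable D hD θ) (hθ' : RootStable D hD θ.symm)
    (P : ℕ → Prop) (hP : ∀ r, P r → r < D.nroots) :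
    Maps D θ (Subgroup.closure {g : GL D.Idx F | ∃ (r : ℕ) (t : F), P r ∧
        (g : Matrix D.Idx D.Idx F) = D.x F r t})
      (Subgroup.closure {g : GL D.Idx F | ∃ (r : ℕ) (t : F), P r ∧
        (g : Matrix D.Idx D.Idx F) = D.x F r t}) := by
  intro g
  constructor
  · intro h
    have := mem_closure_of_rootStable D hD θ.symm hθ' P hP _ h (θ g).2
    simpa using this
  · intro h
    exact mem_closure_of_rootStable D hD θ hθ P hP _ h g.2

theorem maps_pos_of_rootStable (D : ChevalleyDatum) (hD : D ∈ Seven)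
    (θ : ↥(D.group F) ≃* ↥(D.group F)) (hθ : RootStable D hD θ) (hθ' : RootStable D hD θ.symm) :
    Maps D θ (D.posUnipotent F) (D.posUnipotent F) :=
  maps_closure_of_rootStable D hD θ hθ hθ' D.IsPosRoot (fun _ h => h.1)

theorem maps_neg_of_rootStable (D : ChevalleyDatum) (hD : D ∈ Seven)
    (θ : ↥(D.group F) ≃* ↥(D.group F)) (hθ : RootStable D hD θ) (hθ' : RootStable D hD θ.symm) :
    Maps D θ (D.negUnipotent F) (D.negUnipotent F) :=
  maps_closure_of_rootStable D hD θ hθ hθ' D.IsNegRoot (fun _ h => h.1)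

/-! ### normal forms -/

theorem diag_xG (D : ChevalleyDatum) (hD : D ∈ Seven) (d : ↥(D.group F) ≃* ↥(D.group F))
    (hd : D.IsDiagonalAut d) :
    ∃ χ : ℕ → Fˣ, D.IsRootCharacter χ ∧
      ∀ r < D.nroots, ∀ t : F, d (xG D hD r t) = xG D hD r ((χ r : F) * t) := by
  obtain ⟨χ, hχ, rfl⟩ := exists_eq_diagAutOf D hD d hd
  exact ⟨χ, hχ, fun r hr t => diagAutOf_xG D hD χ hχ r hr t⟩

theorem field_xG (D : ChevalleyDatum) (hD : D ∈ Seven) (f : ↥(D.group F) ≃* ↥(D.group F))
    (hf : D.IsFieldAut f) :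
    ∃ σ : F ≃+* F, f = fieldAutHom D σ ∧
      ∀ (r : ℕ) (t : F), f (xG D hD r t) = xG D hD r (σ t) := by
  obtain ⟨σ, rfl⟩ := exists_eq_fieldAutHom D hD f hf
  exact ⟨σ, rfl, fun r t =>
    eq_xG_of_val D hD r (σ t) _ (fieldAutHom_x D σ (xG D hD r t) r t (xG_val D hD r t))⟩

theorem graph_xG (D : ChevalleyDatum) (hD : D ∈ Seven) (g : ↥(D.group F) ≃* ↥(D.group F))
    (hg : D.IsGraphAut g) :
    ∃ π : Equiv.Perm (Fin D.rank), D.IsDiagramSymmetry π ∧ ∀ (i : Fin D.rank) (t : F),
      g (xG D hD (D.simple i) t)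
        = xG D hD (D.simple (π i)) (t ^ D.graphExp (ringChar F) i (π i)) ∧
      g (xG D hD (D.neg (D.simple i)) t)
        = xG D hD (D.neg (D.simple (π i))) (t ^ D.graphExp (ringChar F) i (π i)) := by
  obtain ⟨π, hπ, h⟩ := hg
  refine ⟨π, hπ, fun i t => ⟨?_, ?_⟩⟩
  · exact eq_xG_of_val D hD _ _ _ ((h _ i t).1 (xG_val D hD _ t))
  · exact eq_xG_of_val D hD _ _ _ ((h _ i t).2 (xG_val D hD _ t))

/-- a graph automorphism is determined by its diagram symmetry -/
theorem graphAut_ext (D : ChevalleyDatum) (hD : D ∈ Seven) (g g' : ↥(D.group F) ≃* ↥(D.group F))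
    (π : Equiv.Perm (Fin D.rank))
    (h : ∀ (i : Fin D.rank) (t : F),
      g (xG D hD (D.simple i) t)
        = xG D hD (D.simple (π i)) (t ^ D.graphExp (ringChar F) i (π i)) ∧
      g (xG D hD (D.neg (D.simple i)) t)
        = xG D hD (D.neg (D.simple (π i))) (t ^ D.graphExp (ringChar F) i (π i)))
    (h' : ∀ (i : Fin D.rank) (t : F),
      g' (xG D hD (D.simple i) t)
        = xG D hD (D.simple (π i)) (t ^ D.graphExp (ringChar F) i (π i)) ∧
      g' (xG D hD (D.neg (D.simple i)) t)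
        = xG D hD (D.neg (D.simple (π i))) (t ^ D.graphExp (ringChar F) i (π i))) : g = g' := by
  apply mulEquiv_ext_xG D hD
  intro i t
  rw [(h i t).1, (h i t).2, (h' i t).1, (h' i t).2]
  exact ⟨rfl, rfl⟩

/-! ### diagonal and field automorphisms preserve `U` and `V` -/

theorem rootStable_diag (D : ChevalleyDatum) (hD : D ∈ Seven) (d : ↥(D.group F) ≃* ↥(D.group F))
    (hd : D.IsDiagonalAut d) : RootStable D hD d ∧ RootStable D hD d.symm := by
  obtain ⟨χ, -, h⟩ := diag_xG D hD d hd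
  refine ⟨fun r hr t => ⟨_, h r hr t⟩, fun r hr t => ⟨((χ r)⁻¹ : Fˣ) * t, ?_⟩⟩
  rw [MulEquiv.symm_apply_eq, h r hr]
  congr 1
  rw [← mul_assoc, ← Units.val_mul, mul_inv_cancel, Units.val_one, one_mul]

theorem rootStable_field (D : ChevalleyDatum) (hD : D ∈ Seven)
    (f : ↥(D.group F) ≃* ↥(D.group F)) (hf : D.IsFieldAut f) :
    RootStable D hD f ∧ RootStable D hD f.symm := by
  obtain ⟨σ, -, h⟩ := field_xG D hD f hf
  refine ⟨fun r _ t => ⟨_, h r t⟩, fun r _ t => ⟨σ.symm t, ?_⟩⟩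
  rw [MulEquiv.symm_apply_eq, h r, RingEquiv.apply_symm_apply]

theorem maps_of_isDiagonalAut (D : ChevalleyDatum) (hD : D ∈ Seven)
    (d : ↥(D.group F) ≃* ↥(D.group F)) (hd : D.IsDiagonalAut d) :
    Maps D d (D.posUnipotent F) (D.posUnipotent F) ∧
      Maps D d (D.negUnipotent F) (D.negUnipotent F) :=
  ⟨maps_pos_of_rootStable D hD d (rootStable_diag D hD d hd).1 (rootStable_diag D hD d hd).2,
    maps_neg_of_rootStable D hD d (rootStable_diag D hD d hd).1 (rootStable_diag D hD d hd).2⟩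

theorem maps_of_isFieldAut (D : ChevalleyDatum) (hD : D ∈ Seven)
    (f : ↥(D.group F) ≃* ↥(D.group F)) (hf : D.IsFieldAut f) :
    Maps D f (D.posUnipotent F) (D.posUnipotent F) ∧
      Maps D f (D.negUnipotent F) (D.negUnipotent F) :=
  ⟨maps_pos_of_rootStable D hD f (rootStable_field D hD f hf).1 (rootStable_field D hD f hf).2,
    maps_neg_of_rootStable D hD f (rootStable_field D hD f hf).1 (rootStable_field D hD f hf).2⟩

end Cfsg.Agent.Lib.Helper8.ChevOut
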