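import Mathlib
import Cfsg.Agent.Lib.Helper1.AutOutDefs
import Cfsg.Agent.Lib.Helper8.ChevOutB

set_option autoImplicit false

/-!
S2159 farm, units T1 (diagonal automorphisms commute) and T6 (a graph automorphism is determined
by its permutation).
-/

namespace Cfsg.Agent.Lib.Helper8.ChevOut

open Cfsg Cfsg.Lie Cfsg.Agent.Lib.Helper5.ChevStruct Cfsg.Agent.Lib.Helper5.ChevSym
open Cfsg.Agent.Lib.Helper1.ChevAut Cfsg.Agent.Lib.Helper8.ChevAut

variable {F : Type*} [Field F]

/-- **T1** diagonal automorphisms commute. -/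
theorem diag_comm (D : ChevalleyDatum) (hD : D ∈ Seven) :
    ∀ d ∈ diagSet D F, ∀ d' ∈ diagSet D F, d * d' = d' * d := by
  intro d hd d' hd'
  obtain ⟨χ, -, h⟩ := diag_xG D hD d hd
  obtain ⟨χ', -, h'⟩ := diag_xG D hD d' hd'
  apply mulEquiv_ext_xG D hD
  intro i t
  have hs := simple_lt D hD i i.2
  have hn := (Cfsg.Agent.Lib.Helper5.ChevStruct.neg_lt D hD _ hs).1
  constructor
  · rw [MulAut.mul_apply, MulAut.mul_apply, h' _ hs, h _ hs, h _ hs, h' _ hs, mul_left_comm]
  · rw [MulAut.mul_apply, MulAut.mul_apply, h' _ hn, h _ hn, h _ hn, h' _ hn, mul_left_comm]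

/-- **T6** a graph automorphism is determined by its permutation. -/
theorem graphFor_unique (D : ChevalleyDatum) (hD : D ∈ Seven) (π : Equiv.Perm (Fin D.rank))
    (g g' : ↥(D.group F) ≃* ↥(D.group F)) (hg : GraphFor D π g) (hg' : GraphFor D π g') :
    g = g' := by
  apply graphAut_ext D hD g g' π
  · intro i t
    exact ⟨eq_xG_of_val D hD _ _ _ ((hg _ i t).1 (xG_val D hD _ t)),
      eq_xG_of_val D hD _ _ _ ((hg _ i t).2 (xG_val D hD _ t))⟩
  · intro i t
    exact ⟨eq_xG_of_val D hD _ _ _ ((hg' _ i t).1 (xG_val D hD _ t)),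
      eq_xG_of_val D hD _ _ _ ((hg' _ i t).2 (xG_val D hD _ t))⟩

end Cfsg.Agent.Lib.Helper8.ChevOut
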