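import Mathlib
import Cfsg.Agent.Lib.Helper1.AutOutDefs
import Cfsg.Agent.Lib.Helper8.ChevOutA

set_option autoImplicit false

/-!
S2159 farm, unit T2: the field automorphisms of a Chevalley group over a finite field generate a
cyclic group.
-/

namespace Cfsg.Agent.Lib.Helper8.ChevOut

open Cfsg Cfsg.Lie Cfsg.Agent.Lib.Helper5.ChevStruct Cfsg.Agent.Lib.Helper5.ChevSym
open Cfsg.Agent.Lib.Helper1.ChevAut

variable {F : Type*} [Field F]

/-- the automorphism group of a finite field is cyclic -/
theorem isCyclic_ringAut [Finite F] : IsCyclic (F ≃+* F) := by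
  obtain ⟨p, hp⟩ := CharP.exists F
  have hprime : p.Prime := by
    have := Fintype.ofFinite F
    exact CharP.char_is_prime F p
  have : Fact p.Prime := ⟨hprime⟩
  let _ : Algebra (ZMod p) F := ZMod.algebra F p
  let φ : (F ≃ₐ[ZMod p] F) →* (F ≃+* F) :=
    { toFun := fun τ => τ.toRingEquiv
      map_one' := rfl
      map_mul' := fun _ _ => rfl }
  apply isCyclic_of_surjective φ
  intro σ
  refine ⟨AlgEquiv.ofRingEquiv (f := σ) (fun r => ?_), ?_⟩
  · have h := Subsingleton.elim ((σ : F →+* F).comp (algebraMap (ZMod p) F))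
      (algebraMap (ZMod p) F)
    exact RingHom.congr_fun h r
  · ext x
    rfl

theorem fieldSet_eq_range (D : ChevalleyDatum) (hD : D ∈ Seven) :
    fieldSet D F = ((fieldAutHom D : (F ≃+* F) →* MulAut ↥(D.group F)).range : Set _) := by
  ext φ
  constructor
  · intro h
    obtain ⟨σ, rfl⟩ := exists_eq_fieldAutHom D hD φ h
    exact ⟨σ, rfl⟩
  · rintro ⟨σ, rfl⟩
    exact isFieldAut_fieldAutHom D σ

/-- **T2** the field automorphisms generate a cyclic group. -/
theorem field_closure_isCyclic [Finite F] (D : ChevalleyDatum) (hD : D ∈ Seven) :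
    IsCyclic ↥(Subgroup.closure (fieldSet D F)) := by
  rw [fieldSet_eq_range D hD, Subgroup.closure_eq]
  have := isCyclic_ringAut (F := F)
  exact isCyclic_of_surjective (fieldAutHom D : (F ≃+* F) →* MulAut ↥(D.group F)).rangeRestrict
    (MonoidHom.rangeRestrict_surjective _)

end Cfsg.Agent.Lib.Helper8.ChevOut
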