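import Mathlib
import Cfsg.Agent.Lib.Helper8.ChevOutB
import Cfsg.Agent.Lib.Helper5.ChevTorusX
import Cfsg.Agent.Lib.Helper5.ChevTorusAct
import Cfsg.Agent.Lib.Helper5.ChevTorus
import Cfsg.Agent.Lib.Helper5.ChevCore

set_option autoImplicit false

/-!
Uniqueness of the decomposition `d g f` of an automorphism of a Chevalley group into a diagonal, a
graph and a field automorphism, and the description of the triples giving the same outer class.
-/

namespace Cfsg.Agent.Lib.Helper8.ChevOut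

open Cfsg Cfsg.Lie Cfsg.Agent.Lib.Helper5.ChevStruct Cfsg.Agent.Lib.Helper5.ChevSym
open Cfsg.Agent.Lib.Helper1.ChevAut Cfsg.Agent.Lib.Helper8.ChevAut

variable {F : Type*} [Field F]

theorem simple_inj (D : ChevalleyDatum) (hD : D ∈ Seven) (i j : Fin D.rank)
    (h : D.simple i = D.simple j) : i = j := by
  by_contra hne
  exact (pairFacts_all D hD j i (Ne.symm hne)).1 h

/-- the decomposition `d g f` is unique -/
theorem decomp_unique (D : ChevalleyDatum) (hD : D ∈ Seven)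
    (d g f d' g' f' : ↥(D.group F) ≃* ↥(D.group F))
    (hd : D.IsDiagonalAut d) (hg : D.IsGraphAut g) (hf : D.IsFieldAut f)
    (hd' : D.IsDiagonalAut d') (hg' : D.IsGraphAut g') (hf' : D.IsFieldAut f')
    (h : ∀ y, d (g (f y)) = d' (g' (f' y))) : d = d' ∧ g = g' ∧ f = f' := by
  obtain ⟨χ, hχ, hdx⟩ := diag_xG D hD d hd
  obtain ⟨χ', hχ', hdx'⟩ := diag_xG D hD d' hd'
  obtain ⟨π, -, hgx⟩ := graph_xG D hD g hg
  obtain ⟨π', -, hgx'⟩ := graph_xG D hD g' hg'
  obtain ⟨σ, -, hfx⟩ := field_xG D hD f hf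
  obtain ⟨σ', -, hfx'⟩ := field_xG D hD f' hf'
  have hsl : ∀ i : Fin D.rank, D.simple i < D.nroots := fun i => simple_lt D hD i i.2
  have key : ∀ i : Fin D.rank,
      xG D hD (D.simple (π i)) ((χ (D.simple (π i)) : F) * 1)
        = xG D hD (D.simple (π' i)) ((χ' (D.simple (π' i)) : F) * 1) := by
    intro i
    have h1 := h (xG D hD (D.simple i) 1)
    rw [hfx, hfx', (hgx i _).1, (hgx' i _).1, hdx _ (hsl _), hdx' _ (hsl _), map_one, map_one,
      one_pow, one_pow] at h1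
    exact h1
  have hπ : π = π' := by
    apply Equiv.ext
    intro i
    apply simple_inj D hD
    refine xG_root_inj D hD _ _ (hsl _) (hsl _) _ _ ?_ (key i)
    rw [mul_one]
    exact Units.ne_zero _
  subst hπ
  have hg_eq : g = g' := graphAut_ext D hD g g' π hgx hgx'
  have hχeq : ∀ j : Fin D.rank, χ (D.simple j) = χ' (D.simple j) := by
    intro j
    have h1 := xG_injective D hD _ (hsl _) _ _ (key (π.symm j))
    rw [mul_one, mul_one, Equiv.apply_symm_apply] at h1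
    exact Units.ext h1
  have hd_eq : d = d' := by
    apply mulEquiv_ext_xG D hD
    intro j t
    have hn := (Cfsg.Agent.Lib.Helper5.ChevStruct.neg_lt D hD _ (hsl j)).1
    rw [hdx _ (hsl j), hdx' _ (hsl j), hdx _ hn, hdx' _ hn, hχ.1 _ (hsl j), hχ'.1 _ (hsl j),
      hχeq j]
    exact ⟨rfl, rfl⟩
  refine ⟨hd_eq, hg_eq, ?_⟩
  apply MulEquiv.ext
  intro y
  have h1 := h y
  rw [← hd_eq, ← hg_eq] at h1
  exact g.injective (d.injective h1)

/-- conjugation by a torus element on the root elements -/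
theorem torus_conj_xG (D : ChevalleyDatum) (hD : D ∈ Seven) (h : ↥(D.group F)) (c : ℕ → F)
    (hc : ∀ i, c i ≠ 0) (hhc : ((h : GL D.Idx F) : Matrix D.Idx D.Idx F) = torusMat D c)
    (r : ℕ) (t : F) : h * xG D hD r t * h⁻¹ = xG D hD r (chi D c r * t) := by
  apply eq_xG_of_val
  exact torus_conj_x D hD (h : GL D.Idx F) (xGL D hD r t) c hc hhc r t (xGL_val D hD r t)

/-- conjugation by an element of `H` composed with a diagonal automorphism is a diagonal
automorphism -/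
theorem exists_conj_mul_diag (D : ChevalleyDatum) (hD : D ∈ Seven) (h : ↥(D.group F))
    (hh : (h : GL D.Idx F) ∈ D.diagonalSubgroup F) (d₀ : ↥(D.group F) ≃* ↥(D.group F))
    (hd₀ : D.IsDiagonalAut d₀) :
    ∃ d₁ : ↥(D.group F) ≃* ↥(D.group F), D.IsDiagonalAut d₁ ∧ ∀ y, d₁ y = h * d₀ y * h⁻¹ := by
  obtain ⟨c, hc, hhc⟩ := exists_torusMat_of_mem D hD (h : GL D.Idx F) hh
  obtain ⟨χ₀, hχ₀, hd0x⟩ := diag_xG D hD d₀ hd₀
  obtain ⟨χ₁, hχ₁, h1⟩ := Cfsg.Agent.Lib.Helper8.ChevRootChar.exists_rootChar_all D hD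
    (fun i => Units.mk0 (chi D c (D.simple i)) (chi_ne_zero D c hc _) * χ₀ (D.simple i))
  have hsl : ∀ i : Fin D.rank, D.simple i < D.nroots := fun i => simple_lt D hD i i.2
  refine ⟨diagAutOf D hD χ₁ hχ₁, isDiagonalAut_diagAutOf D hD χ₁ hχ₁, ?_⟩
  have e : diagAutOf D hD χ₁ hχ₁ = d₀.trans (MulAut.conj h) := by
    apply mulEquiv_ext_xG D hD
    intro i t
    have hn := (Cfsg.Agent.Lib.Helper5.ChevStruct.neg_lt D hD _ (hsl i)).1
    have hneg : chi D c (D.neg (D.simple i)) = (chi D c (D.simple i))⁻¹ :=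
      eq_inv_of_mul_eq_one_left (chi_neg D (weightsOK_all D hD) c hc _ (hsl i))
    constructor
    · rw [diagAutOf_xG D hD χ₁ hχ₁ _ (hsl i), MulEquiv.trans_apply, hd0x _ (hsl i),
        MulAut.conj_apply, torus_conj_xG D hD h c hc hhc, h1 i i.2]
      congr 1
      rw [Units.val_mul, Units.val_mk0, mul_assoc]
    · rw [diagAutOf_xG D hD χ₁ hχ₁ _ hn, MulEquiv.trans_apply, hd0x _ hn,
        MulAut.conj_apply, torus_conj_xG D hD h c hc hhc, hχ₁.1 _ (hsl i), hχ₀.1 _ (hsl i),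
        h1 i i.2, hneg]
      congr 1
      rw [mul_inv, Units.val_mul, Units.val_inv_eq_inv_val, Units.val_mk0, mul_assoc]
  intro y
  rw [e, MulEquiv.trans_apply, MulAut.conj_apply]

/-- an element of `H` centralising the group is trivial -/
theorem eq_one_of_central (D : ChevalleyDatum) (hD : D ∈ Seven) (x : ↥(D.group F))
    (hx : (x : GL D.Idx F) ∈ D.borelSubgroup F) (h : ∀ y : ↥(D.group F), y * x * y⁻¹ = x) :
    x = 1 := by
  apply Subtype.ext
  apply core_eq_one D hD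
  intro g hg
  have := congrArg Subtype.val (h ⟨g, hg⟩)
  have e : g * (x : GL D.Idx F) * g⁻¹ = (x : GL D.Idx F) := this
  rw [e]
  exact hx

/-- the triples `(d, g, f)` in the outer class of `(d₀, g₀, f₀)` -/
theorem eq_of_conj_eq (D : ChevalleyDatum) (hD : D ∈ Seven)
    (hΓ : ∀ g : ↥(D.group F) ≃* ↥(D.group F), D.IsGraphAut g →
      Maps D g (D.posUnipotent F) (D.posUnipotent F) ∧
        Maps D g (D.negUnipotent F) (D.negUnipotent F))
    (x : ↥(D.group F)) (d g f d₀ g₀ f₀ : ↥(D.group F) ≃* ↥(D.group F))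
    (hd : D.IsDiagonalAut d) (hg : D.IsGraphAut g) (hf : D.IsFieldAut f)
    (hd₀ : D.IsDiagonalAut d₀) (hg₀ : D.IsGraphAut g₀) (hf₀ : D.IsFieldAut f₀)
    (h : ∀ y, d (g (f y)) = x * d₀ (g₀ (f₀ y)) * x⁻¹) :
    (x : GL D.Idx F) ∈ D.diagonalSubgroup F ∧ g = g₀ ∧ f = f₀ ∧ ∀ y, d y = x * d₀ y * x⁻¹ := by
  have hθU : Maps D (f.trans (g.trans d)) (D.posUnipotent F) (D.posUnipotent F) :=
    (maps_of_isFieldAut D hD f hf).1.trans ((hΓ g hg).1.trans (maps_of_isDiagonalAut D hD d hd).1)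
  have hθV : Maps D (f.trans (g.trans d)) (D.negUnipotent F) (D.negUnipotent F) :=
    (maps_of_isFieldAut D hD f hf).2.trans ((hΓ g hg).2.trans (maps_of_isDiagonalAut D hD d hd).2)
  have hθ₀U : Maps D (f₀.trans (g₀.trans d₀)) (D.posUnipotent F) (D.posUnipotent F) :=
    (maps_of_isFieldAut D hD f₀ hf₀).1.trans
      ((hΓ g₀ hg₀).1.trans (maps_of_isDiagonalAut D hD d₀ hd₀).1)
  have hθ₀V : Maps D (f₀.trans (g₀.trans d₀)) (D.negUnipotent F) (D.negUnipotent F) :=
    (maps_of_isFieldAut D hD f₀ hf₀).2.trans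
      ((hΓ g₀ hg₀).2.trans (maps_of_isDiagonalAut D hD d₀ hd₀).2)
  have hcU := hθ₀U.symm.trans hθU
  have hcV := hθ₀V.symm.trans hθV
  have hc : ∀ y : ↥(D.group F),
      ((f₀.trans (g₀.trans d₀)).symm.trans (f.trans (g.trans d))) y = x * y * x⁻¹ := by
    intro y
    have h1 := h ((f₀.trans (g₀.trans d₀)).symm y)
    have h2 : d₀ (g₀ (f₀ ((f₀.trans (g₀.trans d₀)).symm y))) = y :=
      (f₀.trans (g₀.trans d₀)).apply_symm_apply y
    rw [h2] at h1
    exact h1
  have hxH : (x : GL D.Idx F) ∈ D.diagonalSubgroup F := by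
    rw [mem_diagonal_iff D hD _ x.2]
    constructor
    · intro u hu
      have h1 := (hcU ⟨u, pos_le_group D hD hu⟩).2 hu
      rw [hc] at h1
      exact h1
    · intro v hv
      have h1 := (hcV ⟨v, neg_le_group D hD hv⟩).2 hv
      rw [hc] at h1
      exact h1
  obtain ⟨d₁, hd₁, hd₁x⟩ := exists_conj_mul_diag D hD x hxH d₀ hd₀
  obtain ⟨e1, e2, e3⟩ := decomp_unique D hD d g f d₁ g₀ f₀ hd hg hf hd₁ hg₀ hf₀
    (fun y => by rw [h y, hd₁x])
  refine ⟨hxH, e2, e3, fun y => ?_⟩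
  rw [e1, hd₁x]

end Cfsg.Agent.Lib.Helper8.ChevOut
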