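import Mathlib
import Cfsg.Prelude.Def_KGroupFacts
import Cfsg.Agent.Lib.Helper8.ChevOutC
import Cfsg.Agent.Lib.Helper5.ChevOrder

set_option autoImplicit false

/-!
The counting formula `|Out G| · |H| = (q - 1)^rank · |Γ| · f` for a Chevalley group `G` over the
field with `q = p ^ f` elements, where `Γ` is the set of graph automorphisms, from the
decomposition of the automorphisms into inner, diagonal, graph and field automorphisms.
-/

namespace Cfsg.Agent.Lib.Helper8.ChevOut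

open Cfsg Cfsg.Lie Cfsg.Agent.Lib.Helper5.ChevStruct Cfsg.Agent.Lib.Helper5.ChevSym
open Cfsg.Agent.Lib.Helper1.ChevAut Cfsg.Agent.Lib.Helper8.ChevAut

variable {F : Type*} [Field F]

theorem rank_pos (D : ChevalleyDatum) (hD : D ∈ Seven) : 0 < D.rank := by
  simp only [Seven, List.mem_cons, List.not_mem_nil, or_false] at hD
  rcases hD with rfl | rfl | rfl | rfl | rfl | rfl | rfl <;> decide

/-- automorphisms differing by an inner automorphism have the same outer class -/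
theorem mk_eq_of_conj {G : Type*} [Group G] (α β : MulAut G) (x : G)
    (h : ∀ y, α y = x * β y * x⁻¹) :
    (QuotientGroup.mk α : Cfsg.Out G) = QuotientGroup.mk β := by
  have e : α = MulAut.conj x * β := by
    apply MulEquiv.ext
    intro y
    rw [h y]
    rfl
  rw [e, QuotientGroup.mk_mul]
  have h1 : (QuotientGroup.mk (MulAut.conj x) : Cfsg.Out G) = 1 :=
    (QuotientGroup.eq_one_iff _).2 ⟨x, rfl⟩
  rw [h1, one_mul]

theorem exists_conj_of_mk_eq {G : Type*} [Group G] (α β : MulAut G)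
    (h : (QuotientGroup.mk α : Cfsg.Out G) = QuotientGroup.mk β) :
    ∃ x : G, ∀ y, α y = x * β y * x⁻¹ := by
  obtain ⟨z, hz⟩ := QuotientGroup.eq.1 h.symm
  refine ⟨β z, fun y => ?_⟩
  have e : α = β * MulAut.conj z := by
    rw [hz]
    group
  rw [e, MulAut.mul_apply, MulAut.conj_apply, map_mul, map_mul, map_inv]

/-- the diagonal automorphisms correspond to the families of values at the fundamental roots -/
theorem card_diagAut [Fintype F] (D : ChevalleyDatum) (hD : D ∈ Seven) :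
    Nat.card {d : ↥(D.group F) ≃* ↥(D.group F) // D.IsDiagonalAut d}
      = (Fintype.card F - 1) ^ D.rank := by
  have hex : ∀ c : Fin D.rank → Fˣ, ∃ χ : ℕ → Fˣ, D.IsRootCharacter χ ∧
      ∀ i : Fin D.rank, χ (D.simple i) = c i := by
    intro c
    obtain ⟨χ, hχ, hc⟩ := Cfsg.Agent.Lib.Helper8.ChevRootChar.exists_rootChar_all D hD
      (fun i => if h : i < D.rank then c ⟨i, h⟩ else 1)
    refine ⟨χ, hχ, fun i => ?_⟩
    rw [hc i i.2, dif_pos i.2]
  choose χ hχ hχc using hex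
  have hsl : ∀ i : Fin D.rank, D.simple i < D.nroots := fun i => simple_lt D hD i i.2
  have hbij : Function.Bijective (fun c : Fin D.rank → Fˣ =>
      (⟨diagAutOf D hD (χ c) (hχ c), isDiagonalAut_diagAutOf D hD _ _⟩ :
        {d : ↥(D.group F) ≃* ↥(D.group F) // D.IsDiagonalAut d})) := by
    constructor
    · intro c c' h
      have h1 : diagAutOf D hD (χ c) (hχ c) = diagAutOf D hD (χ c') (hχ c') :=
        congrArg Subtype.val h
      funext i
      have h2 := congrArg (fun d : ↥(D.group F) ≃* ↥(D.group F) => d (xG D hD (D.simple i) 1)) h1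
      simp only [diagAutOf_xG D hD _ _ _ (hsl i)] at h2
      have h3 := xG_injective D hD _ (hsl i) _ _ h2
      rw [mul_one, mul_one, hχc, hχc] at h3
      exact Units.ext h3
    · rintro ⟨d, hd⟩
      obtain ⟨ψ, hψ, rfl⟩ := exists_eq_diagAutOf D hD d hd
      refine ⟨fun i => ψ (D.simple i), ?_⟩
      apply Subtype.ext
      show diagAutOf D hD (χ _) (hχ _) = diagAutOf D hD ψ hψ
      apply mulEquiv_ext_xG D hD
      intro i t
      have hn := (Cfsg.Agent.Lib.Helper5.ChevStruct.neg_lt D hD _ (hsl i)).1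
      rw [diagAutOf_xG D hD _ _ _ (hsl i), diagAutOf_xG D hD _ _ _ (hsl i),
        diagAutOf_xG D hD _ _ _ hn, diagAutOf_xG D hD _ _ _ hn, (hχ _).1 _ (hsl i),
        hψ.1 _ (hsl i), hχc]
      exact ⟨rfl, rfl⟩
  rw [← Nat.card_eq_of_bijective _ hbij, Nat.card_fun, Nat.card_fin, card_units_eq]

/-- the field automorphisms correspond to the automorphisms of the field -/
theorem card_fieldAut [Fintype F] (D : ChevalleyDatum) (hD : D ∈ Seven) (p n : ℕ) [Fact p.Prime]
    [CharP F p] (hF : Fintype.card F = p ^ n) :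
    Nat.card {f : ↥(D.group F) ≃* ↥(D.group F) // D.IsFieldAut f} = n := by
  have hbij : Function.Bijective (fun σ : F ≃+* F =>
      (⟨fieldAutHom D σ, isFieldAut_fieldAutHom D σ⟩ :
        {f : ↥(D.group F) ≃* ↥(D.group F) // D.IsFieldAut f})) := by
    constructor
    · intro σ τ h
      have h1 : fieldAutHom D σ = fieldAutHom D τ := congrArg Subtype.val h
      have h0 : D.simple 0 < D.nroots := simple_lt D hD 0 (rank_pos D hD)
      apply RingEquiv.ext
      intro t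
      have h2 : fieldAutHom D σ (xG D hD (D.simple 0) t) = fieldAutHom D τ (xG D hD (D.simple 0) t) :=
        DFunLike.congr_fun h1 _
      have e : ∀ ρ : F ≃+* F, fieldAutHom D ρ (xG D hD (D.simple 0) t)
          = xG D hD (D.simple 0) (ρ t) := fun ρ =>
        eq_xG_of_val D hD _ _ _ (fieldAutHom_x D ρ _ _ t (xG_val D hD _ t))
      rw [e, e] at h2
      exact xG_injective D hD _ h0 _ _ h2
    · rintro ⟨f, hf⟩
      obtain ⟨σ, rfl⟩ := exists_eq_fieldAutHom D hD f hf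
      exact ⟨σ, rfl⟩
  rw [← Nat.card_eq_of_bijective _ hbij, card_ringAut p n hF]

theorem isDiagonalAut_trans_conj (D : ChevalleyDatum) (hD : D ∈ Seven) (h : ↥(D.group F))
    (hh : (h : GL D.Idx F) ∈ D.diagonalSubgroup F) (d₀ : ↥(D.group F) ≃* ↥(D.group F))
    (hd₀ : D.IsDiagonalAut d₀) : D.IsDiagonalAut (d₀.trans (MulAut.conj h)) := by
  obtain ⟨d₁, hd₁, h1⟩ := exists_conj_mul_diag D hD h hh d₀ hd₀
  have e : d₁ = d₀.trans (MulAut.conj h) := by
    apply MulEquiv.ext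
    intro y
    rw [h1 y, MulEquiv.trans_apply, MulAut.conj_apply]
  rw [← e]
  exact hd₁

/-- the triples `(d, g, f)` -/
abbrev Triple (D : ChevalleyDatum) (F : Type*) [Field F] : Type _ :=
  {d : ↥(D.group F) ≃* ↥(D.group F) // D.IsDiagonalAut d}
    × {g : ↥(D.group F) ≃* ↥(D.group F) // D.IsGraphAut g}
    × {f : ↥(D.group F) ≃* ↥(D.group F) // D.IsFieldAut f}

/-- the outer class of `d g f` -/
def outMap (D : ChevalleyDatum) (F : Type*) [Field F] (t : Triple D F) : Cfsg.Out ↥(D.group F) :=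
  QuotientGroup.mk ((t.1.1 : MulAut ↥(D.group F)) * t.2.1.1 * t.2.2.1)

theorem outMap_eq_iff (D : ChevalleyDatum) (t t' : Triple D F) :
    outMap D F t = outMap D F t' ↔
      ∃ x : ↥(D.group F), ∀ y, t.1.1 (t.2.1.1 (t.2.2.1 y)) = x * t'.1.1 (t'.2.1.1 (t'.2.2.1 y)) * x⁻¹ :=
  ⟨fun h => exists_conj_of_mk_eq _ _ h, fun ⟨x, hx⟩ => mk_eq_of_conj _ _ x hx⟩

/-- the triple `(conj(h) d₀, g₀, f₀)` -/
noncomputable def twist (D : ChevalleyDatum) (hD : D ∈ Seven) (t₀ : Triple D F)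
    (h : ↥(D.diagonalSubgroup F)) : Triple D F :=
  ⟨⟨t₀.1.1.trans (MulAut.conj (⟨(h : GL D.Idx F), diagonal_le_group D hD h.2⟩ : ↥(D.group F))),
    isDiagonalAut_trans_conj D hD ⟨(h : GL D.Idx F), diagonal_le_group D hD h.2⟩ h.2 t₀.1.1
      t₀.1.2⟩, t₀.2.1, t₀.2.2⟩

theorem outMap_twist (D : ChevalleyDatum) (hD : D ∈ Seven) (t₀ : Triple D F)
    (h : ↥(D.diagonalSubgroup F)) : outMap D F (twist D hD t₀ h) = outMap D F t₀ :=
  (outMap_eq_iff D _ _).2 ⟨⟨h, diagonal_le_group D hD h.2⟩, fun _ => rfl⟩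

theorem twist_injective (D : ChevalleyDatum) (hD : D ∈ Seven) (t₀ : Triple D F) :
    Function.Injective (twist D hD t₀) := by
  intro h h' e
  have hmem : ∀ h : ↥(D.diagonalSubgroup F), (h : GL D.Idx F) ∈ D.group F :=
    fun h => diagonal_le_group D hD h.2
  have e1 : t₀.1.1.trans (MulAut.conj ⟨h, hmem h⟩) = t₀.1.1.trans (MulAut.conj ⟨h', hmem h'⟩) :=
    congrArg (fun t : Triple D F => t.1.1) e
  have e2 : ∀ z : ↥(D.group F), (⟨h, hmem h⟩ : ↥(D.group F)) * z * ⟨h, hmem h⟩⁻¹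
      = ⟨h', hmem h'⟩ * z * ⟨h', hmem h'⟩⁻¹ := by
    intro z
    have := DFunLike.congr_fun e1 (t₀.1.1.symm z)
    simpa [MulEquiv.trans_apply, MulAut.conj_apply] using this
  have hc : (⟨h', hmem h'⟩ : ↥(D.group F))⁻¹ * ⟨h, hmem h⟩ = 1 := by
    apply eq_one_of_central D hD
    · exact diagonal_le_borel D (mul_mem (inv_mem h'.2) h.2)
    · intro z
      have h1 := e2 z
      have h2 : z * ((⟨h', hmem h'⟩ : ↥(D.group F))⁻¹ * ⟨h, hmem h⟩)
          = (⟨h', hmem h'⟩ : ↥(D.group F))⁻¹ * (⟨h', hmem h'⟩ * z * ⟨h', hmem h'⟩⁻¹)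
            * ⟨h, hmem h⟩ := by group
      rw [h2, ← h1]
      group
  have h3 : (⟨h, hmem h⟩ : ↥(D.group F)) = ⟨h', hmem h'⟩ := by
    have := congrArg (fun z => (⟨h', hmem h'⟩ : ↥(D.group F)) * z) hc
    simpa using this
  apply Subtype.ext
  exact congrArg (fun z : ↥(D.group F) => (z : GL D.Idx F)) h3

theorem exists_twist_eq (D : ChevalleyDatum) (hD : D ∈ Seven)
    (hΓ : ∀ g : ↥(D.group F) ≃* ↥(D.group F), D.IsGraphAut g →
      Maps D g (D.posUnipotent F) (D.posUnipotent F) ∧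
        Maps D g (D.negUnipotent F) (D.negUnipotent F))
    (t₀ t : Triple D F) (h : outMap D F t = outMap D F t₀) :
    ∃ h : ↥(D.diagonalSubgroup F), twist D hD t₀ h = t := by
  obtain ⟨⟨d, hd⟩, ⟨g, hg⟩, ⟨f, hf⟩⟩ := t
  obtain ⟨⟨d₀, hd₀⟩, ⟨g₀, hg₀⟩, ⟨f₀, hf₀⟩⟩ := t₀
  obtain ⟨z, hz⟩ := (outMap_eq_iff D _ _).1 h
  obtain ⟨hzH, e2, e3, e1⟩ := eq_of_conj_eq D hD hΓ z d g f d₀ g₀ f₀ hd hg hf hd₀ hg₀ hf₀ hz
  subst e2 e3
  have e1' : d₀.trans (MulAut.conj z) = d := MulEquiv.ext fun y => by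
    rw [MulEquiv.trans_apply, MulAut.conj_apply, e1 y]
  subst e1'
  exact ⟨⟨z, hzH⟩, rfl⟩

/-- **the counting formula** -/
theorem card_out_mul_card_diagonal [Fintype F] (D : ChevalleyDatum) (hD : D ∈ Seven) (p n : ℕ)
    [Fact p.Prime] [CharP F p] (hF : Fintype.card F = p ^ n)
    (hAut : ∀ θ : ↥(D.group F) ≃* ↥(D.group F),
      ∃ (x : ↥(D.group F)) (d g f : ↥(D.group F) ≃* ↥(D.group F)),
        D.IsDiagonalAut d ∧ D.IsGraphAut g ∧ D.IsFieldAut f ∧
          ∀ y : ↥(D.group F), θ y = x * d (g (f y)) * x⁻¹)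
    (hΓ : ∀ g : ↥(D.group F) ≃* ↥(D.group F), D.IsGraphAut g →
      Maps D g (D.posUnipotent F) (D.posUnipotent F) ∧
        Maps D g (D.negUnipotent F) (D.negUnipotent F)) :
    Nat.card (Cfsg.Out ↥(D.group F)) * Nat.card ↥(D.diagonalSubgroup F)
      = (Fintype.card F - 1) ^ D.rank
        * Nat.card {g : ↥(D.group F) ≃* ↥(D.group F) // D.IsGraphAut g} * n := by
  classical
  have hfib : ∀ o : Cfsg.Out ↥(D.group F),
      Nat.card {t : Triple D F // outMap D F t = o} = Nat.card ↥(D.diagonalSubgroup F) := by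
    intro o
    obtain ⟨θ, rfl⟩ := QuotientGroup.mk_surjective o
    obtain ⟨x, d₀, g₀, f₀, hd₀, hg₀, hf₀, hθ⟩ := hAut θ
    have hθ' : (QuotientGroup.mk θ : Cfsg.Out ↥(D.group F))
        = outMap D F (⟨d₀, hd₀⟩, ⟨g₀, hg₀⟩, ⟨f₀, hf₀⟩) :=
      mk_eq_of_conj θ _ x hθ
    rw [hθ']
    symm
    refine Nat.card_eq_of_bijective (fun h : ↥(D.diagonalSubgroup F) =>
      (⟨twist D hD _ h, outMap_twist D hD _ h⟩ :
        {t : Triple D F // outMap D F t = outMap D F (⟨d₀, hd₀⟩, ⟨g₀, hg₀⟩, ⟨f₀, hf₀⟩)})) ⟨?_, ?_⟩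
    · intro h h' e
      exact twist_injective D hD _ (congrArg Subtype.val e)
    · rintro ⟨t, ht⟩
      obtain ⟨h, hh⟩ := exists_twist_eq D hD hΓ _ t ht
      exact ⟨h, Subtype.ext hh⟩
  have hT : Nat.card (Triple D F)
      = Nat.card (Cfsg.Out ↥(D.group F)) * Nat.card ↥(D.diagonalSubgroup F) := by
    have : Fintype (Cfsg.Out ↥(D.group F)) := Fintype.ofFinite _
    rw [← Nat.card_congr (Equiv.sigmaFiberEquiv (outMap D F)), Nat.card_sigma,
      Finset.sum_congr rfl (fun o _ => hfib o), Finset.sum_const, Finset.card_univ, smul_eq_mul]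
    congr 1
    exact Nat.card_eq_fintype_card.symm
  rw [← hT, Nat.card_prod, Nat.card_prod, card_diagAut D hD, card_fieldAut D hD p n hF, mul_assoc]

end Cfsg.Agent.Lib.Helper8.ChevOut
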