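import Mathlib
import Cfsg.Agent.Lib.Helper8.ChevOutMain
import Cfsg.Agent.Lib.Helper5.ChevTorusKer

set_option autoImplicit false

/-!
Rigid Dynkin diagrams (walk counts), the graph automorphisms of the Chevalley groups of types
`E₇` and `E₈` are trivial, and the orders of their outer automorphism groups, given the
decomposition of the automorphisms.
-/

namespace Cfsg.Agent.Lib.Helper8.ChevOut

open Cfsg Cfsg.Lie Cfsg.Agent.Lib.Helper5.ChevStruct Cfsg.Agent.Lib.Helper5.ChevSym
open Cfsg.Agent.Lib.Helper1.ChevAut Cfsg.Agent.Lib.Helper8.ChevAut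

variable {F : Type*} [Field F]

/-- the number of walks of length `k` in the Dynkin diagram starting at the node `i` -/
def walks (D : ChevalleyDatum) : ℕ → Fin D.rank → ℕ
  | 0, _ => 1
  | k + 1, i => ∑ j : Fin D.rank, if i ≠ j ∧ D.bonds i j ≠ 0 then walks D k j else 0

theorem walks_perm (D : ChevalleyDatum) (π : Equiv.Perm (Fin D.rank))
    (hπ : D.IsDiagramSymmetry π) (k : ℕ) (i : Fin D.rank) : walks D k (π i) = walks D k i := by
  induction k generalizing i with
  | zero => rfl
  | succ k ih =>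
    show (∑ j : Fin D.rank, if π i ≠ j ∧ D.bonds (π i) j ≠ 0 then walks D k j else 0)
      = ∑ j : Fin D.rank, if i ≠ j ∧ D.bonds i j ≠ 0 then walks D k j else 0
    rw [← Equiv.sum_comp π]
    apply Finset.sum_congr rfl
    intro j _
    by_cases hij : i = j
    · subst hij
      rw [if_neg (fun h => h.1 rfl), if_neg (fun h => h.1 rfl)]
    · have h1 : π i ≠ π j := fun e => hij (π.injective e)
      rw [hπ i j hij, ih j]
      by_cases hb : D.bonds i j ≠ 0
      · rw [if_pos ⟨h1, hb⟩, if_pos ⟨hij, hb⟩]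
      · rw [if_neg (fun h => hb h.2), if_neg (fun h => hb h.2)]

/-- the nodes of the diagram are distinguished by their walk counts of length `< K` -/
def Rigid (D : ChevalleyDatum) (K : ℕ) : Prop :=
  ∀ i j : Fin D.rank, (∀ k < K, walks D k i = walks D k j) → i = j

instance (D : ChevalleyDatum) (K : ℕ) : Decidable (Rigid D K) := by
  unfold Rigid
  infer_instance

theorem sym_eq_one (D : ChevalleyDatum) (K : ℕ) (h : Rigid D K) (π : Equiv.Perm (Fin D.rank))
    (hπ : D.IsDiagramSymmetry π) : π = 1 := by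
  apply Equiv.ext
  intro i
  exact h _ _ (fun k _ => walks_perm D π hπ k i)

theorem rigid_E7 : Rigid chevE7 4 := by decide +kernel

theorem rigid_E8 : Rigid chevE8 4 := by decide +kernel

theorem graphExp_self (D : ChevalleyDatum) (c i : ℕ) : D.graphExp c i i = 1 := by
  unfold ChevalleyDatum.graphExp
  rw [Bool.and_not_self]
  rfl

theorem isGraphAut_refl (D : ChevalleyDatum) :
    D.IsGraphAut (MulEquiv.refl ↥(D.group F)) := by
  refine ⟨1, fun i j _ => rfl, fun g i t => ⟨fun h => ?_, fun h => ?_⟩⟩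
  · rw [Equiv.Perm.one_apply, graphExp_self, pow_one]
    exact h
  · rw [Equiv.Perm.one_apply, graphExp_self, pow_one]
    exact h

/-- over a rigid diagram the only graph automorphism is the identity -/
theorem graphAut_eq_refl (D : ChevalleyDatum) (hD : D ∈ Seven) (K : ℕ) (h : Rigid D K)
    (g : ↥(D.group F) ≃* ↥(D.group F)) (hg : D.IsGraphAut g) : g = MulEquiv.refl _ := by
  obtain ⟨π, hπ, hgx⟩ := graph_xG D hD g hg
  have h1 : π = 1 := sym_eq_one D K h π hπ
  subst h1
  apply mulEquiv_ext_xG D hD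
  intro i t
  have := hgx i t
  rw [Equiv.Perm.one_apply, graphExp_self, pow_one] at this
  exact this

theorem card_graphAut_of_rigid (D : ChevalleyDatum) (hD : D ∈ Seven) (K : ℕ) (h : Rigid D K) :
    Nat.card {g : ↥(D.group F) ≃* ↥(D.group F) // D.IsGraphAut g} = 1 := by
  rw [Nat.card_eq_one_iff_unique]
  refine ⟨⟨fun a b => ?_⟩, ⟨⟨MulEquiv.refl _, isGraphAut_refl D⟩⟩⟩
  apply Subtype.ext
  rw [graphAut_eq_refl D hD K h a.1 a.2, graphAut_eq_refl D hD K h b.1 b.2]

theorem maps_graphAut_of_rigid (D : ChevalleyDatum) (hD : D ∈ Seven) (K : ℕ) (h : Rigid D K)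
    (g : ↥(D.group F) ≃* ↥(D.group F)) (hg : D.IsGraphAut g) :
    Maps D g (D.posUnipotent F) (D.posUnipotent F) ∧
      Maps D g (D.negUnipotent F) (D.negUnipotent F) := by
  rw [graphAut_eq_refl D hD K h g hg]
  exact ⟨fun _ => Iff.rfl, fun _ => Iff.rfl⟩

/-- the order of `Out G` for a rigid diagram: `|Out G| · |H| = (q - 1)^rank · f` -/
theorem card_out_of_rigid [Fintype F] (D : ChevalleyDatum) (hD : D ∈ Seven) (K : ℕ)
    (h : Rigid D K) (p n : ℕ) [Fact p.Prime] [CharP F p] (hF : Fintype.card F = p ^ n)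
    (hAut : ∀ θ : ↥(D.group F) ≃* ↥(D.group F),
      ∃ (x : ↥(D.group F)) (d g f : ↥(D.group F) ≃* ↥(D.group F)),
        D.IsDiagonalAut d ∧ D.IsGraphAut g ∧ D.IsFieldAut f ∧
          ∀ y : ↥(D.group F), θ y = x * d (g (f y)) * x⁻¹) (d : ℕ)
    (hk : Nat.card (Cfsg.Agent.Lib.Helper5.MatPow.mpow
      (Cfsg.Agent.Lib.Helper5.MatPow.fmat (cartanFn D) D.rank) :
      (Fin D.rank → Fˣ) →* (Fin D.rank → Fˣ)).ker = d) :
    Nat.card (Cfsg.Out ↥(D.group F)) = d * n := by
  have h1 := card_out_mul_card_diagonal D hD p n hF hAut (maps_graphAut_of_rigid D hD K h)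
  rw [card_graphAut_of_rigid D hD K h, mul_one, ← card_diagonal_formula D hD d hk] at h1
  have hpos : 0 < Nat.card ↥(D.diagonalSubgroup F) := Nat.card_pos
  have h2 : Nat.card (Cfsg.Out ↥(D.group F)) * Nat.card ↥(D.diagonalSubgroup F)
      = d * n * Nat.card ↥(D.diagonalSubgroup F) := by
    rw [h1]
    ring
  exact Nat.eq_of_mul_eq_mul_right hpos h2

end Cfsg.Agent.Lib.Helper8.ChevOut

namespace Cfsg.Agent.Lib.Helper8.ChevOut

open Cfsg Cfsg.Lie Cfsg.Agent.Lib.Helper5.ChevStruct Cfsg.Agent.Lib.Helper5.ChevSym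

variable {F : Type*} [Field F]

/-- the decomposition of the automorphisms (the statement of S2156) -/
def AutDecomp (D : ChevalleyDatum) (F : Type*) [Field F] : Prop :=
  ∀ θ : ↥(D.group F) ≃* ↥(D.group F),
    ∃ (x : ↥(D.group F)) (d g f : ↥(D.group F) ≃* ↥(D.group F)),
      D.IsDiagonalAut d ∧ D.IsGraphAut g ∧ D.IsFieldAut f ∧
        ∀ y : ↥(D.group F), θ y = x * d (g (f y)) * x⁻¹

theorem memE7 : chevE7 ∈ Seven := by simp [Seven]

theorem memE8 : chevE8 ∈ Seven := by simp [Seven]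

/-- `|Out E₈(q)| = f`, given the decomposition of the automorphisms -/
theorem card_out_E8 [Fintype F] (p n : ℕ) [Fact p.Prime] [CharP F p]
    (hF : Fintype.card F = p ^ n) (hAut : AutDecomp chevE8 F) :
    Nat.card (Cfsg.Out ↥(chevE8.group F)) = n := by
  have h := card_out_of_rigid chevE8 memE8 4 rigid_E8 p n hF hAut 1 (card_ker_E8 Fˣ)
  rw [one_mul] at h
  exact h

/-- `|Out E₇(q)| = gcd(2, q - 1) f`, given the decomposition of the automorphisms -/
theorem card_out_E7 [Fintype F] (p n : ℕ) [Fact p.Prime] [CharP F p]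
    (hF : Fintype.card F = p ^ n) (hAut : AutDecomp chevE7 F) :
    Nat.card (Cfsg.Out ↥(chevE7.group F)) = Nat.gcd 2 (p ^ n - 1) * n := by
  have h := card_out_of_rigid chevE7 memE7 4 rigid_E7 p n hF hAut _ (card_ker_E7 Fˣ)
  rw [card_units_eq, hF] at h
  exact h

end Cfsg.Agent.Lib.Helper8.ChevOut
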