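import Mathlib
import Cfsg.Agent.Lib.Helper1.AutOutDefs
import Cfsg.Agent.Lib.Helper8.ChevOutE

set_option autoImplicit false

/-!
S2159 farm, unit T7: outside type `D₄` the Dynkin diagram has at most two symmetries.
-/

namespace Cfsg.Agent.Lib.Helper8.ChevOut

open Cfsg Cfsg.Lie Cfsg.Agent.Lib.Helper5.ChevStruct Cfsg.Agent.Lib.Helper5.ChevSym
open Cfsg.Agent.Lib.Helper1.ChevAut

instance instDecidablePredIsDiagramSymmetry (D : ChevalleyDatum) :
    DecidablePred D.IsDiagramSymmetry := fun π => by
  unfold ChevalleyDatum.IsDiagramSymmetry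
  infer_instance

/-- the flip of the diagram of type `E₆` -/
def flipE6 : Equiv.Perm (Fin chevE6.rank) :=
  Equiv.swap (⟨0, by decide⟩ : Fin chevE6.rank) ⟨5, by decide⟩
    * Equiv.swap (⟨2, by decide⟩ : Fin chevE6.rank) ⟨4, by decide⟩

/-- the flip of the diagram of type `F₄` -/
def flipF4 : Equiv.Perm (Fin chevF4.rank) :=
  Equiv.swap (⟨0, by decide⟩ : Fin chevF4.rank) ⟨3, by decide⟩
    * Equiv.swap (⟨1, by decide⟩ : Fin chevF4.rank) ⟨2, by decide⟩

set_option maxRecDepth 100000 in
theorem sym_E6 : ∀ π : Equiv.Perm (Fin chevE6.rank),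
    chevE6.IsDiagramSymmetry π → π = 1 ∨ π = flipE6 := by
  decide +kernel

set_option maxRecDepth 100000 in
theorem sym_F4 : ∀ π : Equiv.Perm (Fin chevF4.rank),
    chevF4.IsDiagramSymmetry π → π = 1 ∨ π = flipF4 := by
  decide +kernel

theorem card_le_two_of {r : ℕ} (P : Equiv.Perm (Fin r) → Prop) (a : Equiv.Perm (Fin r))
    (h : ∀ π, P π → π = 1 ∨ π = a) : Nat.card {π : Equiv.Perm (Fin r) // P π} ≤ 2 := by
  classical
  have hinj : Function.Injective (fun π : {π : Equiv.Perm (Fin r) // P π} =>
      decide (π.1 = 1)) := by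
    intro π π' e
    apply Subtype.ext
    by_cases h1 : π.1 = 1
    · have h2 : π'.1 = 1 := by
        have e' : decide (π.1 = 1) = decide (π'.1 = 1) := e
        rw [decide_eq_true h1] at e'
        exact of_decide_eq_true e'.symm
      rw [h1, h2]
    · have h2 : ¬ π'.1 = 1 := by
        intro h2
        have e' : decide (π.1 = 1) = decide (π'.1 = 1) := e
        rw [decide_eq_true h2] at e'
        exact h1 (of_decide_eq_true e')
      rcases h π.1 π.2 with h3 | h3
      · exact absurd h3 h1
      · rcases h π'.1 π'.2 with h4 | h4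
        · exact absurd h4 h2
        · rw [h3, h4]
  have := Nat.card_le_card_of_injective _ hinj
  rwa [Nat.card_eq_fintype_card (α := Bool), Fintype.card_bool] at this

/-- **T7** at most two diagram symmetries outside type `D₄`. -/
theorem card_symm_le (D : ChevalleyDatum) (hD : D ∈ Seven) (hD4 : D ≠ chevD4) :
    Nat.card {π : Equiv.Perm (Fin D.rank) // D.IsDiagramSymmetry π} ≤ 2 := by
  simp only [Seven, List.mem_cons, List.not_mem_nil, or_false] at hD
  rcases hD with rfl | rfl | rfl | rfl | rfl | rfl | rfl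
  · refine le_trans (Finite.card_subtype_le _) ?_
    rw [Nat.card_eq_fintype_card, Fintype.card_perm, Fintype.card_fin]
    decide
  · refine le_trans (Finite.card_subtype_le _) ?_
    rw [Nat.card_eq_fintype_card, Fintype.card_perm, Fintype.card_fin]
    decide
  · exact absurd rfl hD4
  · exact card_le_two_of _ flipF4 sym_F4
  · exact card_le_two_of _ flipE6 sym_E6
  · exact card_le_two_of _ 1 (fun π hπ => Or.inl (sym_eq_one chevE7 4 rigid_E7 π hπ))
  · exact card_le_two_of _ 1 (fun π hπ => Or.inl (sym_eq_one chevE8 4 rigid_E8 π hπ))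

end Cfsg.Agent.Lib.Helper8.ChevOut
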