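import Mathlib
import Cfsg.Agent.Lib.Helper7.Generation4
set_option autoImplicit false
set_option linter.style.haveILetI false

namespace Cfsg.Agent.Lib.Helper8.Hyperplane

variable {G : Type*} [Group G]

theorem relIndex_mul_card {V U : Subgroup G} (h : V ≤ U) :
    V.relIndex U * Nat.card ↥V = Nat.card ↥U := by
  have h1 := (V.subgroupOf U).index_mul_card
  have h2 : Nat.card ↥(V.subgroupOf U) = Nat.card ↥V :=
    Nat.card_congr (Subgroup.subgroupOfEquivOfLe h).toEquiv
  rw [h2] at h1
  exact h1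

theorem isPGroup_of_pow_eq_one {p : ℕ} {U : Subgroup G} (hUe : ∀ a ∈ U, a ^ p = 1) :
    IsPGroup p ↥U := by
  intro a
  refine ⟨1, Subtype.ext ?_⟩
  simpa using hUe a a.2

/-- A coatom of an elementary abelian `p`-group has index `p`. -/
theorem relIndex_eq_of_isCoatom [Finite G] {p : ℕ} [hp : Fact p.Prime] {U V : Subgroup G}
    (hUc : IsMulCommutative ↥U) (hUe : ∀ a ∈ U, a ^ p = 1) (hVU : V ≤ U)
    (hco : IsCoatom (V.subgroupOf U)) : V.relIndex U = p := by
  have hUp : IsPGroup p ↥U := isPGroup_of_pow_eq_one hUe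
  have hne : V ≠ U := by
    intro h
    apply hco.1
    rw [h]
    exact Subgroup.subgroupOf_self U
  have hlt : V < U := lt_of_le_of_ne hVU hne
  obtain ⟨t, htU, htV⟩ := SetLike.exists_of_lt hlt
  have hcomm : ∀ a ∈ U, ∀ b ∈ U, a * b = b * a := by
    intro a ha b hb
    have := hUc.is_comm.comm (⟨a, ha⟩ : U) ⟨b, hb⟩
    exact congrArg Subtype.val this
  have htn : t ∈ Subgroup.normalizer (V : Set G) := by
    rw [Subgroup.mem_normalizer_iff]
    intro v
    constructor
    · intro hv
      have : t * v * t⁻¹ = v := by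
        rw [hcomm t htU v (hVU hv)]; group
      rw [this]; exact hv
    · intro hv
      have h1 : t * v * t⁻¹ ∈ U := hVU hv
      have h2 : v = t⁻¹ * (t * v * t⁻¹) * t := by group
      have h3 : v ∈ U := by
        rw [h2]; exact U.mul_mem (U.mul_mem (U.inv_mem htU) h1) htU
      have : t * v * t⁻¹ = v := by
        rw [hcomm t htU v h3]; group
      rw [this] at hv; exact hv
  set W : Subgroup G := V ⊔ Subgroup.zpowers t with hW
  have hWU : W ≤ U := sup_le hVU (by rw [Subgroup.zpowers_le]; exact htU)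
  have hVW : V < W := by
    refine lt_of_le_of_ne le_sup_left ?_
    intro h
    apply htV
    rw [h]
    exact le_sup_right (a := V) (Subgroup.mem_zpowers t)
  have hWtop : W.subgroupOf U = ⊤ := by
    refine hco.2 _ ?_
    refine lt_of_le_of_ne (fun x hx => hVW.le (Subgroup.mem_subgroupOf.1 hx)) ?_
    intro h
    have h2 : V.subgroupOf U = W.subgroupOf U := h
    have h3 := congrArg (Subgroup.map U.subtype) h2
    rw [Subgroup.map_subgroupOf_eq_of_le hVU, Subgroup.map_subgroupOf_eq_of_le hWU] at h3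
    exact hVW.ne h3
  have hWeq : W = U := by
    have := congrArg (Subgroup.map U.subtype) hWtop
    rw [Subgroup.map_subgroupOf_eq_of_le hWU] at this
    rw [this, ← MonoidHom.range_eq_map, Subgroup.range_subtype]
  have h1 : Nat.card ↥U ≤ Nat.card ↥V * p := by
    rw [← hWeq]
    exact Cfsg.Agent.Lib.Helper7.card_sup_zpowers_le htn (hUe t htU)
  have h2 : p * Nat.card ↥V ≤ Nat.card ↥U :=
    Cfsg.Agent.Lib.Helper7.mul_card_le_of_lt_isPGroup hUp hlt
  have h3 : V.relIndex U * Nat.card ↥V = Nat.card ↥U := relIndex_mul_card hVU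
  have h4 : Nat.card ↥U = p * Nat.card ↥V := le_antisymm (by rw [mul_comm]; exact h1) h2
  rw [h4] at h3
  exact Nat.eq_of_mul_eq_mul_right Nat.card_pos h3

theorem ne_bot_of_sq_le_card [Finite G] {p : ℕ} [hp : Fact p.Prime] {U : Subgroup G}
    (h2 : p ^ 2 ≤ Nat.card ↥U) : U ≠ ⊥ := by
  intro h
  rw [h, Subgroup.card_bot] at h2
  have := hp.out.one_lt
  nlinarith

/-- Generation by centralizers of hyperplanes, as an equality with a supremum. -/
theorem eq_iSup_hyperplane_centralizers [Finite G] {p : ℕ} [hp : Fact p.Prime] (U K : Subgroup G)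
    (hUc : IsMulCommutative ↥U) (hUe : ∀ a ∈ U, a ^ p = 1) (hU1 : U ≠ ⊥)
    (hUK : U ≤ Subgroup.normalizer (K : Set G)) (hK : ¬ p ∣ Nat.card ↥K) :
    K = ⨆ B : {B : Subgroup G // B ≤ U ∧ B.relIndex U = p},
      K ⊓ Subgroup.centralizer ((B : Subgroup G) : Set G) := by
  apply le_antisymm
  · refine Cfsg.Agent.Lib.Helper7.le_of_coatom_centralizers_le U K _ hUc hUe hU1 hUK hK ?_
    intro V hVU hco
    exact le_iSup (fun B : {B : Subgroup G // B ≤ U ∧ B.relIndex U = p} =>
      K ⊓ Subgroup.centralizer ((B : Subgroup G) : Set G))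
      ⟨V, hVU, relIndex_eq_of_isCoatom hUc hUe hVU hco⟩
  · exact iSup_le fun B => inf_le_left

end Cfsg.Agent.Lib.Helper8.Hyperplane
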