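import Mathlib
import Cfsg.Prelude.Def_PLocal
import Cfsg.Agent.Lib.Helper1.ZJ4

/-! The ZJ-theorem for a family of "large abelian subgroups" that is only invariant under
conjugation by normalizers of subgroups of a fixed `p`-subgroup `P` (adapted from `Helper1.ZJ`). -/
set_option autoImplicit false
open scoped Pointwise commutatorElement
universe u
namespace Helper8.ZJOn

open Cfsg.Agent.Lib.Helper1.GlaubermanRepl Cfsg.Agent.Lib.Helper1.ZJ Cfsg.Agent.Lib.Helper1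

variable {G : Type u} [Group G]

structure ZJFamilyOn (p : ℕ) (P : Subgroup G) (F : Subgroup G → Set (Subgroup G)) : Prop where
  le : ∀ {X A : Subgroup G}, A ∈ F X → A ≤ X
  comm : ∀ {X A : Subgroup G}, A ∈ F X → ∀ x ∈ A, ∀ y ∈ A, x * y = y * x
  nonempty : ∀ X : Subgroup G, (F X).Nonempty
  conj_mem : ∀ {X A : Subgroup G} {g : G}, X ≤ P → g ∈ Subgroup.normalizer (X : Set G) →
    A ∈ F X → A.map (MulAut.conj g).toMonoidHom ∈ F X
  mono : ∀ {X R A₀ : Subgroup G}, R ≤ X → A₀ ∈ F X → A₀ ≤ R →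
    ∀ A : Subgroup G, A ∈ F R ↔ (A ∈ F X ∧ A ≤ R)
  repl : ∀ {A B : Subgroup G} {b : G}, A ∈ F P → b ∈ P → Setup A B b →
    (∃ m : ℕ, Odd m ∧ b ^ m = 1) → Astar A b ∈ F P

namespace ZJFamilyOn

variable {p : ℕ} {P : Subgroup G} {F : Subgroup G → Set (Subgroup G)}

theorem exists_replacement [Finite G] [hp : Fact p.Prime] (fam : ZJFamilyOn p P F) (hp2 : p ≠ 2)
    (hP : IsPGroup p P) {B : Subgroup G} [hBn : B.Normal] (hBP : B ≤ P)
    {A : Subgroup G} (hA : A ∈ F P) (hBA : ⁅B, B⁆ ≤ A)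
    (hnot : ¬ B ≤ Subgroup.normalizer (A : Set G)) :
    ∃ A' ∈ F P, A ⊓ B < A' ⊓ B ∧ ¬ B ≤ A' := by
  have hAP : A ≤ P := fam.le hA
  obtain ⟨N, hN⟩ : ∃ N, N = Subgroup.normalizer (A : Set G) := ⟨_, rfl⟩
  have hnot' : ¬ B.subgroupOf P ≤ N.subgroupOf P := by
    intro h
    apply hnot
    intro x hx
    have : (⟨x, hBP hx⟩ : P) ∈ B.subgroupOf P := by rw [Subgroup.mem_subgroupOf]; exact hx
    have := h this
    rw [Subgroup.mem_subgroupOf] at this
    rw [← hN]; exact this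
  obtain ⟨b', hb'B, hb'N, hb'not⟩ := exists_mem_normal_normalizer_not_mem hP (B.subgroupOf P)
    (N.subgroupOf P) hnot'
  rw [Subgroup.mem_subgroupOf] at hb'B hb'not
  obtain ⟨b, hbdef⟩ : ∃ b : G, b = (b' : G) := ⟨_, rfl⟩
  have hbP : b ∈ P := hbdef ▸ b'.2
  have hbB : b ∈ B := hbdef ▸ hb'B
  have hbA : b ∉ Subgroup.normalizer (A : Set G) := by rw [hbdef, ← hN]; exact hb'not
  have key : ∀ c : P, c ∈ Subgroup.normalizer ((N.subgroupOf P : Subgroup P) : Set P) → ∀ a ∈ A,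
      (c : G) * a * (c : G)⁻¹ ∈ N := by
    intro c hc a ha
    have h1 : (⟨a, hAP ha⟩ : P) ∈ N.subgroupOf P := by
      rw [Subgroup.mem_subgroupOf, hN]; exact Subgroup.le_normalizer ha
    have h2 := (Subgroup.mem_normalizer_iff.mp hc _).mp h1
    rw [Subgroup.mem_subgroupOf] at h2
    exact h2
  have s : Setup A B b :=
    { hA := fam.comm hA
      hBA := hBA
      hAB := by rw [Subgroup.normalizer_eq_top_iff.mpr hBn]; exact le_top
      hb := hbB
      h1 := by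
        intro a ha
        have := key b'⁻¹ (Subgroup.inv_mem _ hb'N) a ha
        rw [hN] at this
        rw [hbdef]
        simpa using this
      h2 := by
        intro a ha
        have := key b' hb'N a ha
        rw [hN] at this
        rw [hbdef]
        exact this }
  have hodd : ∃ m : ℕ, Odd m ∧ b ^ m = 1 := by
    obtain ⟨k, hk⟩ := hP b'
    refine ⟨p ^ k, (hp.out.odd_of_ne_two hp2).pow, ?_⟩
    rw [hbdef]
    have := congrArg Subtype.val hk
    simpa using this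
  refine ⟨Astar A b, fam.repl hA hbP s hodd, s.inf_B_lt hbA, ?_⟩
  intro hB
  exact (s.Astar_inf_B_lt hbA).ne (inf_eq_right.mpr hB)

theorem exists_normalized [Finite G] [hp : Fact p.Prime] (fam : ZJFamilyOn p P F) (hp2 : p ≠ 2)
    (hP : IsPGroup p P) {B : Subgroup G} [hBn : B.Normal] (hBP : B ≤ P)
    (hBA : ∀ A ∈ F P, ⁅B, B⁆ ≤ A) :
    ∃ A ∈ F P, B ≤ Subgroup.normalizer (A : Set G) := by
  obtain ⟨A, hAF, hmax⟩ := Set.exists_max_image (F P) (fun A => Nat.card (A ⊓ B : Subgroup G))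
    (Set.toFinite _) (fam.nonempty P)
  refine ⟨A, hAF, ?_⟩
  by_contra hnot
  obtain ⟨A', hA'F, hlt, -⟩ := fam.exists_replacement hp2 hP hBP hAF (hBA A hAF) hnot
  have h1 : Nat.card (A' ⊓ B : Subgroup G) ≤ Nat.card (A ⊓ B : Subgroup G) := hmax A' hA'F
  have h2 := card_lt_card_of_lt hlt
  omega

theorem sInf_le_self (fam : ZJFamilyOn p P F) (X : Subgroup G) : sInf (F X) ≤ X := by
  obtain ⟨A, hA⟩ := fam.nonempty X
  exact (sInf_le hA).trans (fam.le hA)

theorem sInf_comm (fam : ZJFamilyOn p P F) (X : Subgroup G) :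
    ∀ x ∈ sInf (F X), ∀ y ∈ sInf (F X), x * y = y * x := by
  obtain ⟨A, hA⟩ := fam.nonempty X
  intro x hx y hy
  exact fam.comm hA x (sInf_le hA hx) y (sInf_le hA hy)

theorem conj_mem_sInf (fam : ZJFamilyOn p P F) {X : Subgroup G} (hXP : X ≤ P) {g : G}
    (hg : g ∈ Subgroup.normalizer (X : Set G)) {x : G} (hx : x ∈ sInf (F X)) :
    g * x * g⁻¹ ∈ sInf (F X) := by
  rw [Subgroup.mem_sInf]
  intro A' hA'
  have h1 := fam.conj_mem hXP (Subgroup.inv_mem _ hg) hA'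
  have h2 : x ∈ A'.map (MulAut.conj g⁻¹).toMonoidHom := (sInf_le h1) hx
  obtain ⟨a, ha, hax⟩ := h2
  have : g * x * g⁻¹ = a := by
    rw [← hax]
    simp [MulAut.conj_apply]
    group
  rw [this]; exact ha

theorem inf_normal_step [Finite G] [hp : Fact p.Prime] (S : Sylow p G)
    (fam : ZJFamilyOn p (S : Subgroup G) F) (hp2 : p ≠ 2)
    (hst : ∀ (P : Subgroup G) [P.Normal], IsPGroup p P → Cfsg.IsPStableOn p P)
    (B : Subgroup G) [hBn : B.Normal] (hB : IsPGroup p B)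
    (IH : ∀ B' : Subgroup G, B'.Normal → B' < B → (sInf (F (S : Subgroup G)) ⊓ B').Normal) :
    (sInf (F (S : Subgroup G)) ⊓ B).Normal := by
  obtain ⟨P, hP⟩ : ∃ P : Subgroup G, P = ↑S := ⟨_, rfl⟩
  rw [← hP] at IH fam ⊢
  obtain ⟨Z, hZ⟩ : ∃ Z, Z = sInf (F P) := ⟨_, rfl⟩
  rw [← hZ] at IH ⊢
  have hPp : IsPGroup p P := hP ▸ S.2
  have hBP : B ≤ P := (le_pCore hBn hB).trans (hP ▸ pCore_le_sylow p S)
  have hZP : Z ≤ P := hZ ▸ fam.sInf_le_self P
  have hZc : ∀ x ∈ Z, ∀ y ∈ Z, x * y = y * x := hZ ▸ fam.sInf_comm P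
  have hPZ : ∀ g ∈ P, ∀ x ∈ Z, g * x * g⁻¹ ∈ Z := by
    intro g hg x hx
    rw [hZ] at hx ⊢
    exact fam.conj_mem_sInf le_rfl (Subgroup.le_normalizer hg) hx
  by_cases hcl : Subgroup.normalClosure ((Z ⊓ B : Subgroup G) : Set G) = B
  swap
  · have hle : Subgroup.normalClosure ((Z ⊓ B : Subgroup G) : Set G) ≤ B :=
      Subgroup.normalClosure_le_normal inf_le_right
    have hlt : Subgroup.normalClosure ((Z ⊓ B : Subgroup G) : Set G) < B := lt_of_le_of_ne hle hcl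
    have h1 := IH _ Subgroup.normalClosure_normal hlt
    have e : Z ⊓ Subgroup.normalClosure ((Z ⊓ B : Subgroup G) : Set G) = Z ⊓ B :=
      le_antisymm (inf_le_inf_left _ hle) (le_inf inf_le_left Subgroup.subset_normalClosure)
    rw [← e]; exact h1
  by_cases hbot : B = ⊥
  · subst hbot; rw [inf_bot_eq]; infer_instance
  have hB'lt : ⁅B, B⁆ < B := commutator_lt_of_isPGroup hB hbot
  have hN : (Z ⊓ ⁅B, B⁆).Normal := IH _ (Subgroup.commutator_normal B B) hB'lt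
  have h1 : ⁅Z ⊓ B, B⁆ ≤ Z ⊓ ⁅B, B⁆ := by
    apply le_inf _ (Subgroup.commutator_mono inf_le_right le_rfl)
    rw [Subgroup.commutator_le]
    intro z hz b hb
    rw [commutatorElement_def, mul_assoc, mul_assoc]
    apply Z.mul_mem hz.1
    rw [← mul_assoc]
    exact hPZ b (hBP hb) _ (Z.inv_mem hz.1)
  have h2 : ⁅B, B⁆ ≤ Z ⊓ ⁅B, B⁆ := commutator_le_of_normalClosure hcl h1
  have h3 : ∀ A ∈ F P, ⁅B, B⁆ ≤ A := fun A hA => (h2.trans inf_le_left).trans (hZ ▸ sInf_le hA)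
  obtain ⟨A₀, hA₀F, hBA₀⟩ := fam.exists_normalized hp2 hPp hBP h3
  obtain ⟨L, hL⟩ : ∃ L, L = (Cfsg.pCore p (G ⧸ Subgroup.centralizer (B : Set G))).comap
      (QuotientGroup.mk' (Subgroup.centralizer (B : Set G))) := ⟨_, rfl⟩
  obtain ⟨R, hR⟩ : ∃ R, R = P ⊓ L := ⟨_, rfl⟩
  have hAL : ∀ A ∈ F P, B ≤ Subgroup.normalizer (A : Set G) → A ≤ L := by
    intro A hA hBA
    rw [hL]
    exact le_comap_pCore_of_quadratic B (hst B hB) (fam.comm hA) hBA
  have htop : Subgroup.normalizer (R : Set G) ⊔ Subgroup.centralizer (B : Set G) = ⊤ := by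
    rw [hR, hP, hL]
    exact normalizer_inf_sup_eq_top S (Subgroup.centralizer (B : Set G))
  have hRP : R ≤ P := hR ▸ inf_le_left
  have hA₀R : A₀ ≤ R := hR ▸ le_inf (fam.le hA₀F) (hAL A₀ hA₀F hBA₀)
  have hFR := fam.mono hRP hA₀F hA₀R
  have hZR : Z ≤ sInf (F R) := le_sInf (fun A hA => hZ ▸ sInf_le ((hFR A).mp hA).1)
  have hZRn : (sInf (F R) ⊓ B).Normal := by
    rw [← Subgroup.normalizer_eq_top_iff, eq_top_iff, ← htop]
    apply sup_le
    · intro g hg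
      apply mem_normalizer_of_conj_mem_of_finite
      intro x hx
      exact ⟨fam.conj_mem_sInf hRP hg hx.1, hBn.conj_mem _ hx.2 g⟩
    · intro c hc
      apply mem_normalizer_of_conj_mem_of_finite
      intro x hx
      have := Subgroup.mem_centralizer_iff.mp hc x hx.2
      rw [← this, mul_inv_cancel_right]
      exact hx
  have hBZR : B ≤ sInf (F R) := by
    have : Subgroup.normalClosure ((Z ⊓ B : Subgroup G) : Set G) ≤ sInf (F R) ⊓ B :=
      Subgroup.normalClosure_le_normal (inf_le_inf_right _ hZR)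
    rw [hcl] at this; exact this.trans inf_le_left
  have hall : ∀ A ∈ F P, B ≤ A := by
    by_contra hne
    push Not at hne
    obtain ⟨A₁, hA₁F, hA₁B⟩ := hne
    obtain ⟨A, hAmem, hmax⟩ := Set.exists_max_image {A | A ∈ F P ∧ ¬ B ≤ A}
      (fun A => Nat.card (A ⊓ B : Subgroup G)) (Set.toFinite _) ⟨A₁, hA₁F, hA₁B⟩
    by_cases hBN : B ≤ Subgroup.normalizer (A : Set G)
    · have hAR : A ≤ R := hR ▸ le_inf (fam.le hAmem.1) (hAL A hAmem.1 hBN)
      have : A ∈ F R := (hFR A).mpr ⟨hAmem.1, hAR⟩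
      exact hAmem.2 (hBZR.trans (sInf_le this))
    · obtain ⟨A', hA'F, hlt, hnB⟩ :=
        fam.exists_replacement hp2 hPp hBP hAmem.1 (h3 A hAmem.1) hBN
      have h5 := hmax A' ⟨hA'F, hnB⟩
      have h6 := card_lt_card_of_lt hlt
      omega
  have : B ≤ Z := hZ ▸ le_sInf hall
  rw [inf_eq_right.mpr this]; exact hBn

theorem inf_normal [Finite G] [hp : Fact p.Prime] (S : Sylow p G)
    (fam : ZJFamilyOn p (S : Subgroup G) F) (hp2 : p ≠ 2)
    (hst : ∀ (P : Subgroup G) [P.Normal], IsPGroup p P → Cfsg.IsPStableOn p P)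
    (B : Subgroup G) [hBn : B.Normal] (hB : IsPGroup p B) :
    (sInf (F (S : Subgroup G)) ⊓ B).Normal := by
  induction' h : Nat.card B using Nat.strong_induction_on with n ih generalizing B
  apply fam.inf_normal_step S hp2 hst B hB
  intro B' hB'n hlt
  exact ih (Nat.card B') (h ▸ card_lt_card_of_lt hlt) B' (hB.to_le hlt.le) rfl

theorem sInf_le_pCore [Finite G] [hp : Fact p.Prime] (S : Sylow p G)
    (fam : ZJFamilyOn p (S : Subgroup G) F)
    (hc : Subgroup.centralizer (Cfsg.pCore p G : Set G) ≤ Cfsg.pCore p G)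
    (hst : ∀ (P : Subgroup G) [P.Normal], IsPGroup p P → Cfsg.IsPStableOn p P) :
    sInf (F (S : Subgroup G)) ≤ Cfsg.pCore p G := by
  obtain ⟨Q, hQ⟩ : ∃ Q, Q = Cfsg.pCore p G := ⟨_, rfl⟩
  rw [← hQ] at hc ⊢
  have hQn : Q.Normal := hQ ▸ pCore_normal p
  have hQp : IsPGroup p Q := hQ ▸ pCore_isPGroup p
  have hQS : Q ≤ S := hQ ▸ pCore_le_sylow p S
  obtain ⟨Z, hZ⟩ : ∃ Z, Z = sInf (F (S : Subgroup G)) := ⟨_, rfl⟩
  rw [← hZ]
  have hZc : ∀ x ∈ Z, ∀ y ∈ Z, x * y = y * x := hZ ▸ fam.sInf_comm _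
  have hPZ : ∀ g ∈ (S : Subgroup G), ∀ x ∈ Z, g * x * g⁻¹ ∈ Z := by
    intro g hg x hx
    rw [hZ] at hx ⊢
    exact fam.conj_mem_sInf le_rfl (Subgroup.le_normalizer hg) hx
  obtain ⟨D, hD⟩ : ∃ D, D = (Cfsg.pCore p (G ⧸ Subgroup.centralizer (Q : Set G))).comap
      (QuotientGroup.mk' (Subgroup.centralizer (Q : Set G))) := ⟨_, rfl⟩
  have hDn : D.Normal := hD ▸ Subgroup.Normal.comap (pCore_normal p) _
  have hDp : IsPGroup p D := by
    rw [hD]
    apply IsPGroup.comap_of_ker_isPGroup (pCore_isPGroup p)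
    rw [QuotientGroup.ker_mk']
    exact hQp.to_le hc
  have hDQ : D ≤ Q := hQ ▸ le_pCore hDn hDp
  intro z hz
  apply hDQ
  rw [hD, Subgroup.mem_comap]
  apply hst Q hQp z
  rw [eq_bot_iff, Subgroup.commutator_le]
  intro x hx y hy
  have hzZ : Subgroup.zpowers z ≤ Z := by
    rw [Subgroup.zpowers_le]; exact hz
  have h1 : ⁅Q, Subgroup.zpowers z⁆ ≤ Z := by
    rw [Subgroup.commutator_le]
    intro q hq t ht
    rw [commutatorElement_def]
    exact Z.mul_mem (hPZ q (hQS hq) t (hzZ ht)) (Z.inv_mem (hzZ ht))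
  rw [Subgroup.mem_bot, commutatorElement_eq_one_iff_commute]
  exact hZc x (h1 hx) y (hzZ hy)

theorem sInf_normal [Finite G] [hp : Fact p.Prime] (S : Sylow p G)
    (fam : ZJFamilyOn p (S : Subgroup G) F) (hp2 : p ≠ 2)
    (hc : Subgroup.centralizer (Cfsg.pCore p G : Set G) ≤ Cfsg.pCore p G)
    (hst : ∀ (P : Subgroup G) [P.Normal], IsPGroup p P → Cfsg.IsPStableOn p P) :
    (sInf (F (S : Subgroup G))).Normal := by
  have := pCore_normal (G := G) p
  have := fam.inf_normal S hp2 hst (Cfsg.pCore p G) (pCore_isPGroup p)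
  rwa [inf_eq_left.mpr (fam.sInf_le_pCore S hc hst)] at this

end ZJFamilyOn

end Helper8.ZJOn
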