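import Mathlib
import Cfsg.Prelude.Def_PLocal
import Cfsg.Prelude.Def_TwoFusion
import Cfsg.Prelude.Def_LocalEven
import Cfsg.Agent.Lib.Helper1.ZJ8
import Cfsg.Agent.Lib.Helper8.ZJOn1

/-! The ZJ-theorem for a strongly closed subgroup `D` of a Sylow `p`-subgroup. -/
set_option autoImplicit false
open scoped Pointwise commutatorElement
universe u
namespace Helper8.ZJOn

open Cfsg.Agent.Lib.Helper1.GlaubermanRepl Cfsg.Agent.Lib.Helper1.ZJ Cfsg.Agent.Lib.Helper1

variable {G : Type u} [Group G]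

theorem conj_mem_inf_of_stronglyClosed {D P X : Subgroup G} (hD : Cfsg.IsStronglyClosed D P)
    (hXP : X ≤ P) {g : G} (hg : g ∈ Subgroup.normalizer (X : Set G)) {x : G} (hx : x ∈ X ⊓ D) :
    g * x * g⁻¹ ∈ X ⊓ D := by
  have h1 : g * x * g⁻¹ ∈ X := (Subgroup.mem_normalizer_iff.1 hg x).1 hx.1
  exact ⟨h1, hD.2 x hx.2 g (hXP h1)⟩

theorem map_conj_inf_of_stronglyClosed {D P X : Subgroup G} (hD : Cfsg.IsStronglyClosed D P)
    (hXP : X ≤ P) {g : G} (hg : g ∈ Subgroup.normalizer (X : Set G)) :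
    (X ⊓ D).map (MulAut.conj g).toMonoidHom = X ⊓ D := by
  apply le_antisymm
  · rintro _ ⟨x, hx, rfl⟩
    have := conj_mem_inf_of_stronglyClosed hD hXP hg hx
    simpa [MulAut.conj_apply] using this
  · intro y hy
    refine ⟨g⁻¹ * y * g, ?_, ?_⟩
    · have := conj_mem_inf_of_stronglyClosed hD hXP (Subgroup.inv_mem _ hg) hy
      simpa using this
    · simp [MulAut.conj_apply]
      group

theorem Astar_le_of_normalizes {A Y : Subgroup G} (hAY : A ≤ Y) {b : G}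
    (hb : ∀ y ∈ Y, b⁻¹ * y * b ∈ Y) : Astar A b ≤ Y := by
  unfold Astar
  apply sup_le (inf_le_left.trans hAY)
  unfold commAb
  rw [Subgroup.closure_le]
  rintro _ ⟨a, ha, rfl⟩
  have h1 := hb a⁻¹ (Y.inv_mem (hAY ha))
  have e : a * b⁻¹ * a⁻¹ * b = a * (b⁻¹ * a⁻¹ * b) := by group
  rw [e]
  exact Y.mul_mem (hAY ha) h1

theorem zjFamilyOn_FPr [Finite G] (p : ℕ) (Pr : Subgroup G → Prop)
    (hcomm : ∀ A : Subgroup G, Pr A → ∀ x ∈ A, ∀ y ∈ A, x * y = y * x) (hbot : Pr ⊥)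
    (hmap : ∀ (φ : G ≃* G) (A : Subgroup G), Pr A → Pr (A.map φ.toMonoidHom))
    (hrepl : ∀ {A B : Subgroup G} {b : G}, Pr A → Setup A B b → (∃ m : ℕ, Odd m ∧ b ^ m = 1) →
      Pr (Astar A b)) {D P : Subgroup G} (hD : Cfsg.IsStronglyClosed D P) :
    ZJFamilyOn p P (fun X => FPr Pr (X ⊓ D)) where
  le := fun h => h.1.trans inf_le_left
  comm := fun h => hcomm _ h.2.1
  nonempty := fun X => FPr_nonempty hbot (X ⊓ D)
  conj_mem := by
    intro X A g hXP hg hA
    have fam0 := zjFamily_FPr p Pr hcomm hbot hmap hrepl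
    have h1 := fam0.map_mem (MulAut.conj g) hA
    rw [map_conj_inf_of_stronglyClosed hD hXP hg] at h1
    exact h1
  mono := by
    intro X R A₀ hRX hA₀ hA₀R A
    have fam0 := zjFamily_FPr p Pr hcomm hbot hmap hrepl
    have h1 := fam0.mono (inf_le_inf_right D hRX) hA₀ (le_inf hA₀R (hA₀.1.trans inf_le_right)) A
    change A ∈ FPr Pr (R ⊓ D) ↔ A ∈ FPr Pr (X ⊓ D) ∧ A ≤ R
    rw [h1]
    constructor
    · rintro ⟨h2, h3⟩
      exact ⟨h2, h3.trans inf_le_left⟩
    · rintro ⟨h2, h3⟩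
      exact ⟨h2, le_inf h3 (h2.1.trans inf_le_right)⟩
  repl := by
    intro A B b hA hb s hodd
    change Astar A b ∈ FPr Pr (P ⊓ D)
    refine ⟨?_, hrepl hA.2.1 s hodd, ?_⟩
    · apply Astar_le_of_normalizes hA.1
      intro y hy
      have h1 : b⁻¹ * y * b ∈ P := P.mul_mem (P.mul_mem (P.inv_mem hb) hy.1) hb
      have h2 := hD.2 y hy.2 b⁻¹
      rw [inv_inv] at h2
      exact ⟨h1, h2 h1⟩
    · intro B' hB' hPrB'
      rw [s.card_Astar]
      exact hA.2.2 B' hB' hPrB'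

theorem zjFamilyOn_A [Finite G] (p : ℕ) {D P : Subgroup G} (hD : Cfsg.IsStronglyClosed D P) :
    ZJFamilyOn p P (fun X => FPr (PrA (G := G)) (X ⊓ D)) := by
  apply zjFamilyOn_FPr p PrA (fun A h => h) _ _ _ hD
  · intro x hx y hy
    rw [Subgroup.mem_bot] at hx hy
    rw [hx, hy]
  · rintro φ A hA _ ⟨x, hx, rfl⟩ _ ⟨y, hy, rfl⟩
    simp only [MulEquiv.coe_toMonoidHom, ← map_mul]
    rw [hA x hx y hy]
  · intro A B b _ s hodd
    exact s.Astar_comm (Or.inr hodd)

theorem zjFamilyOn_E [Finite G] (p : ℕ) (hp : Odd p) {D P : Subgroup G}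
    (hD : Cfsg.IsStronglyClosed D P) :
    ZJFamilyOn p P (fun X => FPr (PrE (G := G) p) (X ⊓ D)) := by
  apply zjFamilyOn_FPr p (PrE p) (fun A h => h.1) _ _ _ hD
  · exact PrE_bot p
  · intro φ A hA
    constructor
    · rintro _ ⟨x, hx, rfl⟩ _ ⟨y, hy, rfl⟩
      simp only [MulEquiv.coe_toMonoidHom, ← map_mul]
      rw [hA.1 x hx y hy]
    · rintro _ ⟨x, hx, rfl⟩
      simp only [MulEquiv.coe_toMonoidHom, ← map_pow]
      rw [hA.2 x hx, map_one]
  · intro A B b hA s hodd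
    exact ⟨s.Astar_comm (Or.inr hodd), s.pow_eq_one_of_mem_Astar (Or.inr hodd) hp hA.2⟩

/-- normalizer form of `p`-stability gives `p`-stability on normal `p`-subgroups -/
theorem isPStableOn_of_isNormalizerPStable {p : ℕ} (hst : Cfsg.IsNormalizerPStable p G)
    (V : Subgroup G) [hVn : V.Normal] (hV : IsPGroup p V) : Cfsg.IsPStableOn p V := by
  intro a hquad
  have hVtop : Subgroup.normalizer (V : Set G) = ⊤ := Subgroup.normalizer_eq_top_iff.mpr hVn
  have ha : a ∈ Subgroup.normalizer (V : Set G) := by rw [hVtop]; trivial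
  have h1 := hst V hV a ha hquad
  exact mk_mem_pCore_of_normalizer hVtop ha h1

theorem omegaOne_centerThompsonOf_eq [Finite G] (p : ℕ) (X : Subgroup G) :
    Cfsg.omegaOne p (Cfsg.centerThompsonOf p X) = sInf (FPr (PrE (G := G) p) X) := by
  unfold Cfsg.centerThompsonOf Cfsg.thompsonSubgroupOf
  rw [thompsonSubgroupOf_eq, omegaOne_center_sSup_FE]

theorem zj_stronglyClosed [Finite G] {p : ℕ} [hp : Fact p.Prime] (hp2 : p ≠ 2) (P : Sylow p G)
    (D : Subgroup G) (hD : Cfsg.IsStronglyClosed D (P : Subgroup G))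
    (hst : Cfsg.IsNormalizerPStable p G)
    (hc : Subgroup.centralizer ((Cfsg.pCore p G : Subgroup G) : Set G) ≤ Cfsg.pCore p G) :
    (Cfsg.centerThompsonAOf D).Normal ∧
      (Cfsg.omegaOne p (Cfsg.centerThompsonOf p D)).Normal := by
  have hst' : ∀ (V : Subgroup G) [V.Normal], IsPGroup p V → Cfsg.IsPStableOn p V :=
    fun V _ hV => isPStableOn_of_isNormalizerPStable hst V hV
  have hPD : (P : Subgroup G) ⊓ D = D := inf_eq_right.2 hD.1
  constructor
  · rw [centerThompsonAOf_eq]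
    have h := (zjFamilyOn_A p hD).sInf_normal P hp2 hc hst'
    rw [hPD] at h
    exact h
  · rw [omegaOne_centerThompsonOf_eq]
    have h := (zjFamilyOn_E p (hp.out.odd_of_ne_two hp2) hD).sInf_normal P hp2 hc hst'
    rw [hPD] at h
    exact h

end Helper8.ZJOn
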