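import Mathlib
import Cfsg.Agent.Lib.Helper1.Coprime

set_option autoImplicit false
set_option linter.style.haveILetI false

namespace Cfsg.Agent.Lib.Helper8

variable {G : Type*} [Group G]

/-- If `g` normalizes `Q` and centralizes `A` then `g` normalizes `⁅Q, A⁆`. -/
theorem mem_normalizer_commutator_of {Q A : Subgroup G} {g : G}
    (hQ : g ∈ Subgroup.normalizer (Q : Set G)) (hA : g ∈ Subgroup.normalizer (A : Set G)) :
    g ∈ Subgroup.normalizer ((⁅Q, A⁆ : Subgroup G) : Set G) := by
  rw [Subgroup.mem_normalizer_iff_map_conj_eq] at hQ hA ⊢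
  rw [Subgroup.map_commutator, hQ, hA]

/-- In a nilpotent subgroup `Q ⊔ B`, a nontrivial `Q` normalized by `B` has `⁅Q, B⁆ ≠ Q`. -/
theorem commutator_ne_self_of_nilpotent {Q B : Subgroup G}
    (hnil : Group.IsNilpotent ↥(Q ⊔ B)) (hQ : Q ≠ ⊥) : ⁅Q, B⁆ ≠ Q := by
  intro h
  obtain ⟨n, hn⟩ := (Subgroup.isNilpotent_iff_lowerCentralSeries (Q ⊔ B)).1 hnil
  have key : ∀ k, Q ≤ (Q ⊔ B).lowerCentralSeries k := by
    intro k
    induction k with
    | zero => exact le_sup_left
    | succ k ih =>
      rw [Subgroup.lowerCentralSeries_succ]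
      calc Q = ⁅Q, B⁆ := h.symm
        _ ≤ ⁅(Q ⊔ B).lowerCentralSeries k, Q ⊔ B⁆ := Subgroup.commutator_mono ih le_sup_right
  apply hQ
  rw [eq_bot_iff, ← hn]
  exact key n

/-- **Thompson's `A × B` lemma.** -/
theorem thompson_AxB [Finite G] (p : ℕ) [hp : Fact p.Prime] (A B : Subgroup G)
    (hB : IsPGroup p ↥B) (hA : (Nat.card ↥A).Coprime p) (hAB : ⁅A, B⁆ = ⊥) :
    ∀ (n : ℕ) (Q : Subgroup G), Nat.card ↥Q = n → IsPGroup p ↥Q →
      A ≤ Subgroup.normalizer (Q : Set G) → B ≤ Subgroup.normalizer (Q : Set G) →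
      Q ⊓ Subgroup.centralizer (B : Set G) ≤ Subgroup.centralizer (A : Set G) → ⁅Q, A⁆ = ⊥ := by
  intro n
  induction n using Nat.strong_induction_on with
  | _ n ih =>
    intro Q hn hQ hAQ hBQ hC
    have hcop : (Nat.card ↥A).Coprime (Nat.card ↥Q) := by
      obtain ⟨k, hk⟩ := hQ.exists_card_eq
      rw [hk]; exact Nat.Coprime.pow_right k hA
    have hQsolv : Group.IsSolvable ↥Q := by
      haveI := hQ.isNilpotent
      infer_instance
    have hAcB : A ≤ Subgroup.centralizer (B : Set G) := by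
      rwa [← Subgroup.commutator_eq_bot_iff_le_centralizer]
    have hBcA : B ≤ Subgroup.centralizer (A : Set G) := by
      rw [Subgroup.commutator_comm] at hAB
      rwa [← Subgroup.commutator_eq_bot_iff_le_centralizer]
    have hPQ : ⁅Q, A⁆ ≤ Q := Subgroup.le_normalizer_iff_commutator_le_left.mp hAQ
    have hRQ : ⁅Q, B⁆ ≤ Q := Subgroup.le_normalizer_iff_commutator_le_left.mp hBQ
    by_cases hP : ⁅Q, A⁆ = Q
    · -- the case `⁅Q, A⁆ = Q`
      by_cases hQ1 : Q = ⊥
      · rw [hQ1]; exact Subgroup.commutator_bot_left A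
      · have hpg : IsPGroup p ↥(Q ⊔ B) := by
          rw [sup_comm]; exact hB.to_sup_of_normal_right' hQ hBQ
        have hRne : ⁅Q, B⁆ ≠ Q := commutator_ne_self_of_nilpotent hpg.isNilpotent hQ1
        have hRlt : Nat.card ↥(⁅Q, B⁆ : Subgroup G) < n := by
          rw [← hn]
          by_contra hcon
          apply hRne
          have h1 : (⁅Q, B⁆).subgroupOf Q = ⊤ := by
            apply Subgroup.eq_top_of_le_card
            rw [Nat.card_congr (Subgroup.subgroupOfEquivOfLe hRQ).toEquiv]
            exact not_lt.1 hcon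
          rw [Subgroup.subgroupOf_eq_top] at h1
          exact le_antisymm hRQ h1
        have h1 : ⁅⁅Q, B⁆, A⁆ = ⊥ := by
          apply ih _ hRlt ⁅Q, B⁆ rfl (hQ.to_le hRQ)
          · intro a ha
            exact mem_normalizer_commutator_of (hAQ ha)
              ((hAcB.trans (Subgroup.centralizer_le_normalizer _)) ha)
          · exact Subgroup.normalizer_commutator_ge_right Q B
          · exact (inf_le_inf_right _ hRQ).trans hC
        have h2 : ⁅⁅B, A⁆, Q⁆ = ⊥ := by
          rw [Subgroup.commutator_comm B A, hAB]; exact Subgroup.commutator_bot_left Q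
        have h3 : ⁅⁅A, Q⁆, B⁆ = ⊥ := Subgroup.commutator_commutator_eq_bot_of_rotate h1 h2
        rw [Subgroup.commutator_comm A Q, hP] at h3
        rw [Subgroup.commutator_eq_bot_iff_le_centralizer] at h3 ⊢
        exact (le_inf le_rfl h3).trans hC
    · -- the case `⁅Q, A⁆ < Q`
      have hPlt : Nat.card ↥(⁅Q, A⁆ : Subgroup G) < n := by
        rw [← hn]
        by_contra hcon
        apply hP
        have h1 : (⁅Q, A⁆).subgroupOf Q = ⊤ := by
          apply Subgroup.eq_top_of_le_card
          rw [Nat.card_congr (Subgroup.subgroupOfEquivOfLe hPQ).toEquiv]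
          exact not_lt.1 hcon
        rw [Subgroup.subgroupOf_eq_top] at h1
        exact le_antisymm hPQ h1
      have h1 : ⁅⁅Q, A⁆, A⁆ = ⊥ := by
        apply ih _ hPlt ⁅Q, A⁆ rfl (hQ.to_le hPQ)
        · exact Subgroup.normalizer_commutator_ge_right Q A
        · intro b hb
          exact mem_normalizer_commutator_of (hBQ hb)
            ((hBcA.trans (Subgroup.centralizer_le_normalizer _)) hb)
        · exact (inf_le_inf_right _ hPQ).trans hC
      rw [← Cfsg.Agent.Lib.Helper1.coprime_commutator_commutator A Q hAQ hcop (Or.inr hQsolv)]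
      exact h1

end Cfsg.Agent.Lib.Helper8
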