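import Mathlib
import Cfsg.Prelude.Def_Balance
import Cfsg.Agent.Lib.Helper1.Coprime
set_option autoImplicit false
set_option linter.style.haveILetI false
open Pointwise

namespace Cfsg.Agent.Lib.Helper8.SigFun

variable {G : Type*} [Group G]

theorem mem_sup_iff_of_le_normalizer {X Y : Subgroup G}
    (hn : Y ≤ Subgroup.normalizer (X : Set G)) {g : G} :
    g ∈ X ⊔ Y ↔ ∃ x ∈ X, ∃ y ∈ Y, g = x * y := by
  have h := Subgroup.coe_mul_of_right_le_normalizer_left X Y hn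
  constructor
  · intro hg
    have : g ∈ ((X ⊔ Y : Subgroup G) : Set G) := hg
    rw [h] at this
    obtain ⟨x, hx, y, hy, rfl⟩ := this
    exact ⟨x, hx, y, hy, rfl⟩
  · rintro ⟨x, hx, y, hy, rfl⟩
    exact Subgroup.mul_mem_sup hx hy

theorem sup_le_normalizer {X Y : Subgroup G}
    (hn : Y ≤ Subgroup.normalizer (X : Set G)) : X ⊔ Y ≤ Subgroup.normalizer (X : Set G) :=
  sup_le Subgroup.le_normalizer hn

theorem subgroupOf_sup_normal {X Y : Subgroup G}
    (hn : Y ≤ Subgroup.normalizer (X : Set G)) : (X.subgroupOf (X ⊔ Y)).Normal :=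
  (Subgroup.normal_subgroupOf_iff_le_normalizer le_sup_left).2 (sup_le_normalizer hn)

theorem quot_surjective {X Y : Subgroup G}
    (hn : Y ≤ Subgroup.normalizer (X : Set G)) :
    haveI := subgroupOf_sup_normal hn
    Function.Surjective ((QuotientGroup.mk' (X.subgroupOf (X ⊔ Y))).comp
      (Subgroup.inclusion (le_sup_right : Y ≤ X ⊔ Y))) := by
  haveI := subgroupOf_sup_normal hn
  intro q
  obtain ⟨⟨k, hk⟩, rfl⟩ := QuotientGroup.mk'_surjective _ q
  obtain ⟨x, hx, y, hy, rfl⟩ := (mem_sup_iff_of_le_normalizer hn).1 hk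
  refine ⟨⟨y, hy⟩, ?_⟩
  simp only [MonoidHom.comp_apply, QuotientGroup.mk'_apply]
  rw [QuotientGroup.eq]
  rw [Subgroup.mem_subgroupOf]
  simp only [Subgroup.coe_mul, Subgroup.coe_inv, Subgroup.coe_inclusion]
  have : y⁻¹ * (x * y) = y⁻¹ * x * y⁻¹⁻¹ := by group
  rw [this]
  exact (Subgroup.mem_normalizer_iff.1 (hn (Y.inv_mem hy)) x).1 hx

theorem isSolvable_sup_of_le_normalizer {X Y : Subgroup G}
    (hn : Y ≤ Subgroup.normalizer (X : Set G)) (hX : Group.IsSolvable ↥X)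
    (hY : Group.IsSolvable ↥Y) : Group.IsSolvable ↥(X ⊔ Y) := by
  haveI := subgroupOf_sup_normal hn
  have hq : Group.IsSolvable (↥(X ⊔ Y) ⧸ X.subgroupOf (X ⊔ Y)) :=
    Group.isSolvable_of_surjective (quot_surjective hn)
  refine Group.isSolvable_of_ker_le_range (Subgroup.inclusion (le_sup_left : X ≤ X ⊔ Y))
    (QuotientGroup.mk' (X.subgroupOf (X ⊔ Y))) ?_
  rw [QuotientGroup.ker_mk']
  intro k hk
  rw [Subgroup.mem_subgroupOf] at hk
  exact ⟨⟨k.1, hk⟩, rfl⟩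

theorem card_sup_dvd_of_le_normalizer [Finite G] {X Y : Subgroup G}
    (hn : Y ≤ Subgroup.normalizer (X : Set G)) :
    Nat.card ↥(X ⊔ Y) ∣ Nat.card ↥X * Nat.card ↥Y := by
  haveI := subgroupOf_sup_normal hn
  have h1 := Subgroup.card_eq_card_quotient_mul_card_subgroup (X.subgroupOf (X ⊔ Y))
  have h2 : Nat.card (↥(X ⊔ Y) ⧸ X.subgroupOf (X ⊔ Y)) ∣ Nat.card ↥Y :=
    Subgroup.card_dvd_of_surjective _ (quot_surjective hn)
  have h3 : Nat.card ↥(X.subgroupOf (X ⊔ Y)) = Nat.card ↥X :=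
    Nat.card_congr (Subgroup.subgroupOfEquivOfLe (le_sup_left : X ≤ X ⊔ Y)).toEquiv
  rw [h1, h3, mul_comm]
  exact Nat.mul_dvd_mul_left _ h2

theorem not_dvd_card_sup [Finite G] {p : ℕ} [hp : Fact p.Prime] {X Y : Subgroup G}
    (hn : Y ≤ Subgroup.normalizer (X : Set G)) (hX : ¬ p ∣ Nat.card ↥X)
    (hY : ¬ p ∣ Nat.card ↥Y) : ¬ p ∣ Nat.card ↥(X ⊔ Y) := by
  intro h
  rcases (Nat.Prime.dvd_mul hp.out).1 (h.trans (card_sup_dvd_of_le_normalizer hn)) with h | h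
  · exact hX h
  · exact hY h

theorem conj_mem_sup {X Y : Subgroup G} (hn : Y ≤ Subgroup.normalizer (X : Set G)) {b : G}
    (hX : ∀ u ∈ X, b * u * b⁻¹ ∈ X) (hY : ∀ u ∈ Y, b * u * b⁻¹ ∈ Y) :
    ∀ u ∈ X ⊔ Y, b * u * b⁻¹ ∈ X ⊔ Y := by
  intro u hu
  obtain ⟨x, hx, y, hy, rfl⟩ := (mem_sup_iff_of_le_normalizer hn).1 hu
  have : b * (x * y) * b⁻¹ = (b * x * b⁻¹) * (b * y * b⁻¹) := by group
  rw [this]
  exact Subgroup.mul_mem_sup (hX x hx) (hY y hy)

theorem zpowers_le_normalizer [Finite G] {a : G} {X : Subgroup G}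
    (h : ∀ u ∈ X, a * u * a⁻¹ ∈ X) : Subgroup.zpowers a ≤ Subgroup.normalizer (X : Set G) := by
  rw [Subgroup.zpowers_le]
  rw [Subgroup.mem_normalizer_iff_map_conj_eq]
  apply le_antisymm
  · rintro _ ⟨u, hu, rfl⟩
    exact h u hu
  · have hc : Nat.card ↥(X.map (MulAut.conj a).toMonoidHom) = Nat.card ↥X :=
      Subgroup.card_map_of_injective (MulAut.conj a).injective
    have hle : X.map (MulAut.conj a).toMonoidHom ≤ X := by
      rintro _ ⟨u, hu, rfl⟩
      exact h u hu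
    exact (Subgroup.eq_of_le_of_card_ge hle hc.ge).ge

theorem centralizer_singleton_le_zpowers (a : G) :
    Subgroup.centralizer ({a} : Set G) ≤ Subgroup.centralizer (Subgroup.zpowers a : Set G) := by
  intro g hg
  rw [Subgroup.mem_centralizer_singleton_iff] at hg
  refine Subgroup.mem_centralizer_iff.2 ?_
  rintro _ ⟨n, rfl⟩
  have : Commute (a ^ n) g := Commute.zpow_left hg.symm n
  exact this.eq

theorem centralizer_zpowers_le_singleton (a : G) :
    Subgroup.centralizer (Subgroup.zpowers a : Set G) ≤ Subgroup.centralizer ({a} : Set G) :=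
  Subgroup.centralizer_le (by simp)

/-- Coprime action: centralizer in a product of invariant subgroups. -/
theorem inf_centralizer_sup_le [Finite G] {p : ℕ} [hp : Fact p.Prime] {a : G} (ha : a ^ p = 1)
    {X Y : Subgroup G} (hn : Y ≤ Subgroup.normalizer (X : Set G))
    (hX : ¬ p ∣ Nat.card ↥X) (hY : ¬ p ∣ Nat.card ↥Y)
    (haX : ∀ u ∈ X, a * u * a⁻¹ ∈ X) (haY : ∀ u ∈ Y, a * u * a⁻¹ ∈ Y) :
    (X ⊔ Y) ⊓ Subgroup.centralizer ({a} : Set G) ≤
      (X ⊓ Subgroup.centralizer ({a} : Set G)) ⊔ (Y ⊓ Subgroup.centralizer ({a} : Set G)) := by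
  intro g hg
  obtain ⟨x, hx, y, hy, hxy⟩ := (mem_sup_iff_of_le_normalizer hn).1 hg.1
  have hK : ¬ p ∣ Nat.card ↥(X ⊔ Y) := not_dvd_card_sup hn hX hY
  have hAp : IsPGroup p ↥(Subgroup.zpowers a) := by
    rw [IsPGroup.iff_card]
    rw [Nat.card_zpowers]
    have : orderOf a ∣ p ^ 1 := by rw [pow_one]; exact orderOf_dvd_of_pow_eq_one ha
    obtain ⟨k, _, hk⟩ := (Nat.dvd_prime_pow hp.out).1 this
    exact ⟨k, hk⟩
  have hcop : (Nat.card ↥(Subgroup.zpowers a)).Coprime (Nat.card ↥(X ⊔ Y)) := by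
    obtain ⟨k, hk⟩ := IsPGroup.iff_card.1 hAp
    rw [hk]
    exact Nat.Coprime.pow_left k ((Nat.Prime.coprime_iff_not_dvd hp.out).2 hK)
  have hsolv : Group.IsSolvable ↥(Subgroup.zpowers a) := by
    haveI := hAp.isNilpotent
    infer_instance
  have hAK : Subgroup.zpowers a ≤ Subgroup.normalizer ((X ⊔ Y : Subgroup G) : Set G) :=
    zpowers_le_normalizer (conj_mem_sup hn haX haY)
  obtain ⟨x', hx', y', hy', e⟩ := Cfsg.Agent.Lib.Helper1.coprime_fixed_points_mul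
    (Subgroup.zpowers a) (X ⊔ Y) hAK hcop (Or.inl hsolv) X Y le_sup_left le_sup_right
    (zpowers_le_normalizer haX) (zpowers_le_normalizer haY) g
    (centralizer_singleton_le_zpowers a hg.2) x y hx hy hxy
  rw [e]
  exact Subgroup.mul_mem_sup ⟨hx'.1, centralizer_zpowers_le_singleton a hx'.2⟩
    ⟨hy'.1, centralizer_zpowers_le_singleton a hy'.2⟩

end Cfsg.Agent.Lib.Helper8.SigFun
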