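import Mathlib

/-! Sums of invariant functions over a set acted on by a `p`-group: congruence with the sum over
fixed points. -/
set_option autoImplicit false

namespace Cfsg.Agent.Lib.Helper8.GlauP

open MulAction

variable {S : Type*} [Group S] {X : Type*} [MulAction S X] {p : ℕ}

theorem fiber_eq_orbit (ω : orbitRel.Quotient S X) (x : X) :
    (Quotient.mk'' x : orbitRel.Quotient S X) = ω ↔ x ∈ orbit S ω.out := by
  constructor
  · intro h
    have h1 : (Quotient.mk'' x : orbitRel.Quotient S X) = Quotient.mk'' ω.out := by
      rw [h, Quotient.out_eq']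
    have h2 := Quotient.eq''.mp h1
    exact (orbitRel_apply).mp h2
  · intro h
    have h2 : (orbitRel S X) x ω.out := (orbitRel_apply).mpr h
    have h1 : (Quotient.mk'' x : orbitRel.Quotient S X) = Quotient.mk'' ω.out := Quotient.eq''.mpr h2
    rw [h1, Quotient.out_eq']

/-- Main congruence: the sum of an invariant function is the sum over the fixed points plus `p`
times a combination of values. -/
theorem sum_eq_sum_fixed_add [Finite S] [Fintype X] [hp : Fact p.Prime] (hS : IsPGroup p S)
    {A : Type*} [AddCommMonoid A] (f : X → A) (hf : ∀ (s : S) (x : X), f (s • x) = f x)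
    [DecidablePred (· ∈ fixedPoints S X)] :
    ∃ r : A, r ∈ AddSubmonoid.closure (Set.range f) ∧
      ∑ x, f x = ∑ x ∈ Finset.univ.filter (· ∈ fixedPoints S X), f x + p • r := by
  classical
  have hfix : ∀ (s : S) (x : X), s • x ∈ fixedPoints S X ↔ x ∈ fixedPoints S X := by
    intro s x
    constructor
    · intro h t
      have := h (s * t * s⁻¹)
      rw [mul_smul, mul_smul, inv_smul_smul] at this
      exact smul_left_cancel s this
    · intro h t
      have h1 := h (s⁻¹ * t * s)
      rw [mul_smul, mul_smul] at h1
      have := congrArg (fun y => s • y) h1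
      simpa using this
  set g : X → A := fun x => if x ∈ fixedPoints S X then 0 else f x with hg
  have hginv : ∀ (s : S) (x : X), g (s • x) = g x := by
    intro s x
    simp only [hg]
    by_cases hx : x ∈ fixedPoints S X
    · rw [if_pos hx, if_pos ((hfix s x).mpr hx)]
    · rw [if_neg hx, if_neg (fun h => hx ((hfix s x).mp h)), hf]
  have hsplit : ∑ x, f x = ∑ x ∈ Finset.univ.filter (· ∈ fixedPoints S X), f x + ∑ x, g x := by
    rw [Finset.sum_filter, ← Finset.sum_add_distrib]
    apply Finset.sum_congr rfl
    intro x _
    simp only [hg]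
    by_cases hx : x ∈ fixedPoints S X
    · rw [if_pos hx, if_pos hx, add_zero]
    · rw [if_neg hx, if_neg hx, zero_add]
  -- sum of g over orbits
  have hfib : ∑ x, g x = ∑ ω : orbitRel.Quotient S X,
      ∑ x ∈ Finset.univ.filter (fun x => (Quotient.mk'' x : orbitRel.Quotient S X) = ω), g x :=
    (Finset.sum_fiberwise Finset.univ (fun x => (Quotient.mk'' x : orbitRel.Quotient S X)) g).symm
  have hterm : ∀ ω : orbitRel.Quotient S X, ∃ c : ℕ,
      ∑ x ∈ Finset.univ.filter (fun x => (Quotient.mk'' x : orbitRel.Quotient S X) = ω), g x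
        = p • (c • f ω.out) := by
    intro ω
    have hconst : ∀ x ∈ Finset.univ.filter
        (fun x => (Quotient.mk'' x : orbitRel.Quotient S X) = ω), g x = g ω.out := by
      intro x hx
      rw [Finset.mem_filter] at hx
      obtain ⟨s, hs⟩ := (fiber_eq_orbit ω x).mp hx.2
      rw [← hs]
      exact hginv s _
    rw [Finset.sum_congr rfl hconst, Finset.sum_const]
    by_cases hout : ω.out ∈ fixedPoints S X
    · refine ⟨0, ?_⟩
      simp only [hg]
      rw [if_pos hout]
      simp
    · have hcard : (Finset.univ.filter
          (fun x => (Quotient.mk'' x : orbitRel.Quotient S X) = ω)).card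
          = Nat.card (orbit S ω.out) := by
        rw [Nat.card_eq_fintype_card, Fintype.card_subtype]
        congr 1
        ext x
        simp only [Finset.mem_filter, Finset.mem_univ, true_and]
        exact fiber_eq_orbit ω x
      obtain ⟨n, hn⟩ := hS.card_orbit ω.out
      have hn0 : n ≠ 0 := by
        rintro rfl
        apply hout
        rw [mem_fixedPoints_iff_card_orbit_eq_one, ← Nat.card_eq_fintype_card, hn, pow_zero]
      obtain ⟨k, rfl⟩ := Nat.exists_eq_succ_of_ne_zero hn0
      refine ⟨p ^ k, ?_⟩
      rw [hcard, hn]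
      simp only [hg]
      rw [if_neg hout, pow_succ, mul_comm, mul_smul]
  choose c hc using hterm
  refine ⟨∑ ω : orbitRel.Quotient S X, c ω • f ω.out, ?_, ?_⟩
  · apply AddSubmonoid.sum_mem
    intro ω _
    apply AddSubmonoid.nsmul_mem
    exact AddSubmonoid.subset_closure ⟨_, rfl⟩
  · rw [hsplit, hfib, Finset.sum_congr rfl (fun ω _ => hc ω), ← Finset.smul_sum]

end Cfsg.Agent.Lib.Helper8.GlauP
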