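import Mathlib
import Cfsg.Prelude.Def_Characters
import Cfsg.Prelude.Def_Blocks
import Cfsg.Agent.Lib.Helper6.BlkLocal
import Cfsg.Agent.Lib.Helper6.Auto
import Cfsg.Agent.Lib.Helper6.Regular
import Cfsg.Agent.Lib.Helper8.GlauP1

/-! Setup for the Glauberman correspondence for `p`-groups: a `p`-group `S` acting on `G` with
`p ∤ |G|`, fixed points `ι : C → G`. -/
set_option autoImplicit false

namespace Cfsg.Agent.Lib.Helper8.GlauP

open MulAction Cfsg.Agent.Lib.Helper6
open scoped ComplexConjugate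

/-- A `p`-group `S` acting on `G` (of order prime to `p`) with fixed-point subgroup `ι : C → G`. -/
structure PAct (p : ℕ) (G C S : Type*) [Group G] [Group C] [Group S] where
  φ : S →* MulAut G
  ι : C →* G
  inj : Function.Injective ι
  fix : ∀ g : G, (∀ s : S, φ s g = g) ↔ g ∈ Set.range ι
  pgroup : IsPGroup p S
  cop : ¬ p ∣ Nat.card G

variable {p : ℕ} {G C S : Type*} [Group G] [Group C] [Group S]

namespace PAct

variable (A : PAct p G C S)

/-- the action of `S` on `G` -/
@[reducible] def actG : MulAction S G := MulAction.compHom G A.φ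

theorem actG_smul (s : S) (g : G) : (letI := A.actG; s • g) = A.φ s g := rfl

theorem φ_ι (s : S) (c : C) : A.φ s (A.ι c) = A.ι c :=
  (A.fix (A.ι c)).mpr ⟨c, rfl⟩ s

theorem mem_fixedPoints_iff (g : G) :
    (letI := A.actG; g ∈ fixedPoints S G) ↔ g ∈ Set.range A.ι := by
  rw [← A.fix]
  rfl

/-- invariance of a function on `G` -/
def Inv (χ : G → ℂ) : Prop := ∀ (s : S) (g : G), χ (A.φ s g) = χ g

/-- the action of `S` on the irreducible characters of `G` -/
@[reducible] noncomputable def actIrr [Finite G] : MulAction S (Cfsg.IrrCharacter G) where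
  smul s χ := ⟨fun g => (χ : G → ℂ) ((A.φ s)⁻¹ g),
    IsIrrCharacter.comp_mulEquiv ((A.φ s)⁻¹ : MulAut G) χ.2⟩
  one_smul χ := by
    apply Subtype.ext
    funext g
    show (χ : G → ℂ) ((A.φ 1)⁻¹ g) = (χ : G → ℂ) g
    rw [map_one, inv_one, MulAut.one_apply]
  mul_smul s t χ := by
    apply Subtype.ext
    funext g
    show (χ : G → ℂ) ((A.φ (s * t))⁻¹ g) = (χ : G → ℂ) ((A.φ t)⁻¹ ((A.φ s)⁻¹ g))
    rw [map_mul, mul_inv_rev, MulAut.mul_apply]

theorem actIrr_apply [Finite G] (s : S) (χ : Cfsg.IrrCharacter G) (g : G) :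
    (((letI := A.actIrr; s • χ) : Cfsg.IrrCharacter G) : G → ℂ) g
      = (χ : G → ℂ) ((A.φ s)⁻¹ g) := rfl

theorem mem_fixedPoints_irr_iff [Finite G] (χ : Cfsg.IrrCharacter G) :
    (letI := A.actIrr; χ ∈ fixedPoints S (Cfsg.IrrCharacter G)) ↔ A.Inv (χ : G → ℂ) := by
  letI := A.actIrr
  constructor
  · intro h s g
    have h1 := h s⁻¹
    have h2 := congrFun (congrArg Subtype.val h1) g
    rw [A.actIrr_apply, map_inv, inv_inv] at h2
    exact h2
  · intro h s
    apply Subtype.ext
    funext g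
    rw [A.actIrr_apply]
    have := h s ((A.φ s)⁻¹ g)
    rw [MulAut.apply_inv_self] at this
    exact this.symm

/-- sums over the fixed points of `G` are sums over `C` -/
theorem sum_fixedPoints_eq [Fintype G] [Fintype C] {B : Type*} [AddCommMonoid B] (f : G → B)
    [DecidablePred (· ∈ (letI := A.actG; fixedPoints S G))] :
    ∑ x ∈ Finset.univ.filter (· ∈ (letI := A.actG; fixedPoints S G)), f x = ∑ c : C, f (A.ι c) := by
  classical
  have h : Finset.univ.filter (· ∈ (letI := A.actG; fixedPoints S G))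
      = Finset.univ.image A.ι := by
    ext x
    simp only [Finset.mem_filter, Finset.mem_univ, true_and, Finset.mem_image]
    rw [A.mem_fixedPoints_iff]
    rfl
  rw [h, Finset.sum_image (fun a _ b _ hab => A.inj hab)]

end PAct

end Cfsg.Agent.Lib.Helper8.GlauP
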