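import Mathlib
import Cfsg.Agent.Lib.Helper8.GlauP2
import Cfsg.Agent.Lib.Helper6.Mult
import Cfsg.Agent.Lib.Helper6.SecondOrth
import Cfsg.Agent.Lib.Helper6.Constituent

/-! Multiplicities, regular-character identity and orbit congruences. -/
set_option autoImplicit false

namespace Cfsg.Agent.Lib.Helper8.GlauP

open MulAction Cfsg.Agent.Lib.Helper6
open scoped ComplexConjugate

variable {p : ℕ} {M : Ideal Cfsg.AlgInt}

/-- local version of the fixed-point congruence -/
theorem memLocalIdeal_sum_sub (hM : Cfsg.IsPModular p M) {S X : Type*} [Group S] [Finite S]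
    [MulAction S X] [Fintype X] (hS : IsPGroup p S) (f : X → ℂ)
    (hf : ∀ (s : S) (x : X), f (s • x) = f x) (hloc : ∀ x, Cfsg.MemLocalRing M (f x))
    [DecidablePred (· ∈ fixedPoints S X)] :
    Cfsg.MemLocalIdeal M
      (∑ x, f x - ∑ x ∈ Finset.univ.filter (· ∈ fixedPoints S X), f x) := by
  haveI : Fact p.Prime := ⟨hM.1⟩
  have hcl : ∀ r ∈ AddSubmonoid.closure (Set.range f), Cfsg.MemLocalRing M r := by
    intro r hr
    induction hr using AddSubmonoid.closure_induction with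
    | mem x hx => obtain ⟨y, rfl⟩ := hx; exact hloc y
    | zero => exact memLocalRing_zero hM
    | add x y _ _ hx hy => exact MemLocalRing.add hM hx hy
  obtain ⟨r, hr, hsum⟩ := sum_eq_sum_fixed_add hS f hf
  rw [hsum, add_sub_cancel_left]
  have hr' : Cfsg.MemLocalRing M r := hcl r hr
  rw [nsmul_eq_mul]
  exact MemLocalIdeal.mul_right hM (memLocalIdeal_prime hM) hr'

/-- natural-number version of the fixed-point congruence -/
theorem sum_modEq_sum_fixed [hp : Fact p.Prime] {S X : Type*} [Group S] [Finite S]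
    [MulAction S X] [Fintype X] (hS : IsPGroup p S) (f : X → ℕ)
    (hf : ∀ (s : S) (x : X), f (s • x) = f x) [DecidablePred (· ∈ fixedPoints S X)] :
    ∑ x, f x ≡ ∑ x ∈ Finset.univ.filter (· ∈ fixedPoints S X), f x [MOD p] := by
  obtain ⟨r, _, hsum⟩ := sum_eq_sum_fixed_add hS f hf
  rw [hsum, smul_eq_mul]
  exact (Nat.modEq_iff_dvd' (Nat.le_add_right _ _)).mpr (by rw [Nat.add_sub_cancel_left]; exact dvd_mul_right _ _) |>.symm

variable {G C S : Type*} [Group G] [Group C] [Group S]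

namespace PAct

variable (A : PAct p G C S)

/-- the multiplicity of `β` in the restriction of `χ` to `C` -/
noncomputable def mult [Fintype C] (χ : G → ℂ) (β : C → ℂ) : ℕ :=
  ⌊(Cfsg.classInner (fun c => χ (A.ι c)) β).re⌋₊

theorem mult_spec [Fintype C] {χ : G → ℂ} (hχ : Cfsg.IsCharacter G χ) {β : C → ℂ}
    (hβ : Cfsg.IsIrrCharacter C β) :
    Cfsg.classInner (fun c => χ (A.ι c)) β = (A.mult χ β : ℂ) := by
  obtain ⟨n, hn⟩ := IsCharacter.classInner_irr_nat (IsCharacter.comp A.ι hχ) hβ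
  unfold mult
  rw [hn]
  simp

theorem sum_mul_conj [Fintype C] {χ : G → ℂ} (hχ : Cfsg.IsCharacter G χ) {β : C → ℂ}
    (hβ : Cfsg.IsIrrCharacter C β) :
    ∑ c : C, χ (A.ι c) * conj (β c) = (Nat.card C : ℂ) * (A.mult χ β : ℂ) := by
  rw [← A.mult_spec hχ hβ]
  unfold Cfsg.classInner
  rw [← mul_assoc, mul_inv_cancel₀ (card_ne_zero_complex C), one_mul]

theorem sum_conj_mul [Fintype C] {χ : G → ℂ} (hχ : Cfsg.IsCharacter G χ) {β : C → ℂ}
    (hβ : Cfsg.IsIrrCharacter C β) :
    ∑ c : C, conj (χ (A.ι c)) * β c = (Nat.card C : ℂ) * (A.mult χ β : ℂ) := by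
  have h := congrArg conj (A.sum_mul_conj hχ hβ)
  rw [map_sum, map_mul, Complex.conj_natCast, Complex.conj_natCast] at h
  rw [← h]
  apply Finset.sum_congr rfl
  intro c _
  rw [map_mul, Complex.conj_conj]

/-- `|G| ≡ |C| mod p` -/
theorem card_modEq [Fintype G] [Fintype C] [Finite S] [hp : Fact p.Prime]
    (A : PAct p G C S) : Nat.card G ≡ Nat.card C [MOD p] := by
  classical
  letI := A.actG
  have h := sum_modEq_sum_fixed A.pgroup (fun _ : G => 1) (fun _ _ => rfl)
  rw [A.sum_fixedPoints_eq (fun _ : G => 1)] at h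
  simpa [Nat.card_eq_fintype_card] using h

theorem not_dvd_card_C [Fintype G] [Fintype C] [Finite S] [hp : Fact p.Prime]
    (A : PAct p G C S) : ¬ p ∣ Nat.card C := by
  intro h
  apply A.cop
  exact (Nat.modEq_zero_iff_dvd.mp ((A.card_modEq).trans (Nat.modEq_zero_iff_dvd.mpr h)))

/-- regular character: `∑ χ(1) χ(g) = |G| [g = 1]` -/
theorem sum_degree_mul [Fintype G] [Fintype (Cfsg.IrrCharacter G)] (g : G) [Decidable (g = 1)] :
    ∑ χ : Cfsg.IrrCharacter G, (χ : G → ℂ) 1 * (χ : G → ℂ) g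
      = if g = 1 then (Nat.card G : ℂ) else 0 := by
  classical
  have h := congrFun (leftRegular_character_eq_sum (G := G)) g
  rw [leftRegular_character, Finset.sum_apply] at h
  simp only [Pi.smul_apply, smul_eq_mul] at h
  rw [← h]
  congr

/-- `|C| ∑_χ χ(1) m(χ,β) = |G| β(1)` -/
theorem card_mul_sum_degree_mult [Fintype G] [Fintype C] [Fintype (Cfsg.IrrCharacter G)]
    {β : C → ℂ} (hβ : Cfsg.IsIrrCharacter C β) :
    (Nat.card C : ℂ) * ∑ χ : Cfsg.IrrCharacter G, (χ : G → ℂ) 1 * (A.mult (χ : G → ℂ) β : ℂ)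
      = (Nat.card G : ℂ) * β 1 := by
  classical
  rw [Finset.mul_sum]
  have h1 : ∀ χ : Cfsg.IrrCharacter G,
      (Nat.card C : ℂ) * ((χ : G → ℂ) 1 * (A.mult (χ : G → ℂ) β : ℂ))
        = ∑ c : C, (χ : G → ℂ) 1 * (χ : G → ℂ) (A.ι c) * conj (β c) := by
    intro χ
    rw [mul_left_comm, ← A.sum_mul_conj (IsIrrCharacter.isCharacter χ.2) hβ, Finset.mul_sum]
    apply Finset.sum_congr rfl
    intro c _
    ring
  rw [Finset.sum_congr rfl (fun χ _ => h1 χ), Finset.sum_comm]
  have h2 : ∀ c : C, ∑ χ : Cfsg.IrrCharacter G,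
      (χ : G → ℂ) 1 * (χ : G → ℂ) (A.ι c) * conj (β c)
        = (if c = 1 then (Nat.card G : ℂ) else 0) * conj (β c) := by
    intro c
    rw [← Finset.sum_mul, sum_degree_mul]
    congr 1
    by_cases hc : c = 1
    · rw [if_pos hc, if_pos (by rw [hc, map_one])]
    · rw [if_neg hc, if_neg]
      intro h
      apply hc
      apply A.inj
      rw [h, map_one]
  rw [Finset.sum_congr rfl (fun c _ => h2 c)]
  simp only [ite_mul, zero_mul]
  rw [Finset.sum_ite_eq' Finset.univ (1 : C), if_pos (Finset.mem_univ _)]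
  congr 1
  have := IsCharacter.apply_one_eq_charDegree (IsIrrCharacter.isCharacter hβ)
  rw [this, Complex.conj_natCast]

end PAct

end Cfsg.Agent.Lib.Helper8.GlauP
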