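import Mathlib
import Cfsg.Agent.Lib.Helper8.GlauP3
import Cfsg.Agent.Lib.Helper6.BlkAlg
import Cfsg.Agent.Lib.Helper6.BlkDefect

/-! The product congruence (multiplicativity of the Brauer map on central idempotents). -/
set_option autoImplicit false

namespace Cfsg.Agent.Lib.Helper8.GlauP

open MulAction Cfsg.Agent.Lib.Helper6
open scoped ComplexConjugate

variable {p : ℕ} {M : Ideal Cfsg.AlgInt}

theorem isClassFunction_conj {G : Type*} [Group G] {χ : G → ℂ} (hχ : Cfsg.IsClassFunction G χ) :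
    Cfsg.IsClassFunction G (fun g => conj (χ g)) := by
  intro g h
  show conj (χ (h * g * h⁻¹)) = conj (χ g)
  rw [hχ g h]

/-- generalized orthogonality -/
theorem sum_conj_mul_shift {G : Type*} [Group G] [Fintype G] (χ χ' : Cfsg.IrrCharacter G) (k : G) :
    ∑ g : G, conj ((χ : G → ℂ) g) * (χ' : G → ℂ) (g * k)
      = (if χ = χ' then (Nat.card G : ℂ) else 0) * (χ' : G → ℂ) k / (χ' : G → ℂ) 1 := by
  classical
  rw [sum_classFunction_mul_shift χ'.2 (isClassFunction_conj (IsIrrCharacter.isClassFunction χ.2)) k]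
  congr 2
  have h := classInner_irrCharacter χ' χ
  unfold Cfsg.classInner at h
  have h2 : ∑ g : G, (χ' : G → ℂ) g * conj ((χ : G → ℂ) g)
      = (Nat.card G : ℂ) * (if χ' = χ then 1 else 0) := by
    rw [← h, ← mul_assoc, mul_inv_cancel₀ (card_ne_zero_complex G), one_mul]
  have h3 : ∑ g : G, conj ((χ : G → ℂ) g) * (χ' : G → ℂ) g
      = ∑ g : G, (χ' : G → ℂ) g * conj ((χ : G → ℂ) g) :=
    Finset.sum_congr rfl (fun g _ => mul_comm _ _)
  rw [h3, h2]
  by_cases hc : χ = χ'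
  · rw [if_pos hc, if_pos hc.symm, mul_one]
  · rw [if_neg hc, if_neg (fun h => hc h.symm), mul_zero]

variable {G C S : Type*} [Group G] [Group C] [Group S]

namespace PAct

variable (A : PAct p G C S)

/-- the double sum over `C` -/
theorem double_sum_C [Fintype C] {χ χ' : G → ℂ} (hχ : Cfsg.IsCharacter G χ)
    (hχ' : Cfsg.IsCharacter G χ') (β : Cfsg.IrrCharacter C) :
    ∑ c : C, (β : C → ℂ) c * ∑ x : C, conj (χ (A.ι x)) * χ' (A.ι x * (A.ι c)⁻¹)
      = (Nat.card C : ℂ) * (A.mult χ (β : C → ℂ) : ℂ)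
          * ((Nat.card C : ℂ) * (A.mult χ' (β : C → ℂ) : ℂ)) / (β : C → ℂ) 1 := by
  classical
  have hβc := IsIrrCharacter.isClassFunction β.2
  -- step 1: expand and swap
  have h1 : ∑ c : C, (β : C → ℂ) c * ∑ x : C, conj (χ (A.ι x)) * χ' (A.ι x * (A.ι c)⁻¹)
      = ∑ x : C, ∑ c : C, (β : C → ℂ) c * (conj (χ (A.ι x)) * χ' (A.ι x * (A.ι c)⁻¹)) := by
    simp_rw [Finset.mul_sum]
    exact Finset.sum_comm
  -- step 2: reindex the inner sum
  have h2 : ∀ x : C, ∑ c : C, (β : C → ℂ) c * (conj (χ (A.ι x)) * χ' (A.ι x * (A.ι c)⁻¹))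
      = ∑ y : C, (β : C → ℂ) (x * y⁻¹) * (conj (χ (A.ι x)) * χ' (A.ι y)) := by
    intro x
    let e : C ≃ C := (Equiv.inv C).trans (Equiv.mulRight x)
    rw [← Equiv.sum_comp e]
    apply Finset.sum_congr rfl
    intro y _
    have he : e y = y⁻¹ * x := rfl
    rw [he]
    have h3 : A.ι x * (A.ι (y⁻¹ * x))⁻¹ = A.ι y := by
      rw [← map_inv, ← map_mul]
      congr 1
      group
    rw [h3]
    have h4 : (β : C → ℂ) (y⁻¹ * x) = (β : C → ℂ) (x * y⁻¹) := by
      have := hβc (x * y⁻¹) y⁻¹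
      rw [← this]
      group
    rw [h4]
  rw [h1, Finset.sum_congr rfl (fun x _ => h2 x), Finset.sum_comm]
  -- step 3: shift lemma in C
  have h5 : ∀ y : C, ∑ x : C, (β : C → ℂ) (x * y⁻¹) * (conj (χ (A.ι x)) * χ' (A.ι y))
      = χ' (A.ι y) * ((Nat.card C : ℂ) * (A.mult χ (β : C → ℂ) : ℂ)) * conj ((β : C → ℂ) y)
          / (β : C → ℂ) 1 := by
    intro y
    have hcf : Cfsg.IsClassFunction C (fun x : C => conj (χ (A.ι x))) :=
      isClassFunction_conj (IsCharacter.isClassFunction (IsCharacter.comp A.ι hχ))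
    have h6 := sum_classFunction_mul_shift β.2 hcf y⁻¹
    rw [A.sum_conj_mul hχ β.2, IsCharacter.apply_inv (IsIrrCharacter.isCharacter β.2)] at h6
    have h7 : ∑ x : C, (β : C → ℂ) (x * y⁻¹) * (conj (χ (A.ι x)) * χ' (A.ι y))
        = χ' (A.ι y) * ∑ x : C, conj (χ (A.ι x)) * (β : C → ℂ) (x * y⁻¹) := by
      rw [Finset.mul_sum]
      apply Finset.sum_congr rfl
      intro x _
      ring
    rw [h7, h6]
    ring
  rw [Finset.sum_congr rfl (fun y _ => h5 y)]
  have h8 : ∀ y : C, χ' (A.ι y) * ((Nat.card C : ℂ) * (A.mult χ (β : C → ℂ) : ℂ))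
      * conj ((β : C → ℂ) y) / (β : C → ℂ) 1
      = ((Nat.card C : ℂ) * (A.mult χ (β : C → ℂ) : ℂ)) / (β : C → ℂ) 1
          * (χ' (A.ι y) * conj ((β : C → ℂ) y)) := by
    intro y
    ring
  rw [Finset.sum_congr rfl (fun y _ => h8 y), ← Finset.mul_sum, A.sum_mul_conj hχ' β.2]
  ring

end PAct

end Cfsg.Agent.Lib.Helper8.GlauP
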