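import Mathlib
import Cfsg.Agent.Lib.Helper8.GlauP4

/-! The product congruence `L3`. -/
set_option autoImplicit false

namespace Cfsg.Agent.Lib.Helper8.GlauP

open MulAction Cfsg.Agent.Lib.Helper6
open scoped ComplexConjugate

variable {p : ℕ} {M : Ideal Cfsg.AlgInt}
variable {G C S : Type*} [Group G] [Group C] [Group S]

namespace PAct

variable (A : PAct p G C S)

/-- congruence between the sum over `G` and the sum over `C` of an invariant function -/
theorem memLocalIdeal_sum_G_sub_sum_C [Fintype G] [Fintype C] [Finite S]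
    (hM : Cfsg.IsPModular p M) (f : G → ℂ) (hf : ∀ (s : S) (g : G), f (A.φ s g) = f g)
    (hloc : ∀ g, Cfsg.MemLocalRing M (f g)) :
    Cfsg.MemLocalIdeal M (∑ g : G, f g - ∑ c : C, f (A.ι c)) := by
  classical
  letI := A.actG
  have h := memLocalIdeal_sum_sub hM A.pgroup f hf hloc
  rw [A.sum_fixedPoints_eq f] at h
  exact h

theorem memLocalRing_char (hM : Cfsg.IsPModular p M) {H : Type*} [Group H] [Finite H]
    {χ : H → ℂ} (hχ : Cfsg.IsCharacter H χ) (g : H) : Cfsg.MemLocalRing M (χ g) :=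
  memLocalRing_of_isIntegral hM (IsCharacter.isIntegral_apply hχ g)

theorem memLocalRing_conj_char (hM : Cfsg.IsPModular p M) {H : Type*} [Group H] [Finite H]
    {χ : H → ℂ} (hχ : Cfsg.IsCharacter H χ) (g : H) : Cfsg.MemLocalRing M (conj (χ g)) := by
  rw [← IsCharacter.apply_inv hχ]
  exact memLocalRing_char hM hχ g⁻¹

/-- the product congruence -/
theorem product_congruence [Fintype G] [Fintype C] [Finite S] (hM : Cfsg.IsPModular p M)
    (χ χ' : Cfsg.IrrCharacter G) (hχ : A.Inv (χ : G → ℂ)) (hχ' : A.Inv (χ' : G → ℂ))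
    (β : Cfsg.IrrCharacter C) :
    (p : ℤ) ∣ (A.mult (χ : G → ℂ) (β : C → ℂ) : ℤ) * (A.mult (χ' : G → ℂ) (β : C → ℂ) : ℤ)
        * (Nat.card C : ℤ) * (Cfsg.charDegree (χ : G → ℂ) : ℤ)
      - (if χ = χ' then (Nat.card G : ℤ) * (Cfsg.charDegree (β : C → ℂ) : ℤ)
          * (A.mult (χ : G → ℂ) (β : C → ℂ) : ℤ) else 0) := by
  classical
  haveI : Fact p.Prime := ⟨hM.1⟩
  have hχc := IsIrrCharacter.isCharacter χ.2
  have hχ'c := IsIrrCharacter.isCharacter χ'.2
  have hβc := IsIrrCharacter.isCharacter β.2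
  set m := A.mult (χ : G → ℂ) (β : C → ℂ) with hm
  set m' := A.mult (χ' : G → ℂ) (β : C → ℂ) with hm'
  have hdχ := IsCharacter.apply_one_eq_charDegree hχc
  have hdχ' := IsCharacter.apply_one_eq_charDegree hχ'c
  have hdβ := IsCharacter.apply_one_eq_charDegree hβc
  have hdχ0 : ((Cfsg.charDegree (χ : G → ℂ) : ℕ) : ℂ) ≠ 0 := by
    rw [← hdχ]; exact IsIrrCharacter.apply_one_ne_zero χ.2
  have hdχ'0 : ((Cfsg.charDegree (χ' : G → ℂ) : ℕ) : ℂ) ≠ 0 := by
    rw [← hdχ']; exact IsIrrCharacter.apply_one_ne_zero χ'.2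
  have hdβ0 : ((Cfsg.charDegree (β : C → ℂ) : ℕ) : ℂ) ≠ 0 := by
    rw [← hdβ]; exact IsIrrCharacter.apply_one_ne_zero β.2
  -- the functions F_c
  set F : C → G → ℂ := fun c g => conj ((χ : G → ℂ) g) * (χ' : G → ℂ) (g * (A.ι c)⁻¹) with hF
  have hFinv : ∀ (c : C) (s : S) (g : G), F c (A.φ s g) = F c g := by
    intro c s g
    simp only [hF]
    rw [hχ s g]
    congr 1
    have : A.φ s g * (A.ι c)⁻¹ = A.φ s (g * (A.ι c)⁻¹) := by
      rw [map_mul, map_inv, A.φ_ι]
    rw [this, hχ' s]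
  have hFloc : ∀ (c : C) (g : G), Cfsg.MemLocalRing M (F c g) := by
    intro c g
    exact MemLocalRing.mul hM (memLocalRing_conj_char hM hχc g) (memLocalRing_char hM hχ'c _)
  have hdiff : ∀ c : C, Cfsg.MemLocalIdeal M (∑ g : G, F c g - ∑ x : C, F c (A.ι x)) :=
    fun c => A.memLocalIdeal_sum_G_sub_sum_C hM (F c) (hFinv c) (hFloc c)
  -- total difference
  have htot : Cfsg.MemLocalIdeal M
      (∑ c : C, (β : C → ℂ) c * ∑ g : G, F c g - ∑ c : C, (β : C → ℂ) c * ∑ x : C, F c (A.ι x)) := by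
    rw [← Finset.sum_sub_distrib]
    apply MemLocalIdeal.sum hM
    intro c _
    rw [← mul_sub]
    exact MemLocalIdeal.mul_left hM (memLocalRing_char hM hβc c) (hdiff c)
  -- the C side
  have hC : ∑ c : C, (β : C → ℂ) c * ∑ x : C, F c (A.ι x)
      = (Nat.card C : ℂ) * (m : ℂ) * ((Nat.card C : ℂ) * (m' : ℂ)) / (β : C → ℂ) 1 :=
    A.double_sum_C hχc hχ'c β
  -- the G side
  have hG : ∑ c : C, (β : C → ℂ) c * ∑ g : G, F c g
      = (if χ = χ' then (Nat.card G : ℂ) else 0) * ((Nat.card C : ℂ) * (m : ℂ))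
          / (χ : G → ℂ) 1 := by
    have h1 : ∀ c : C, (β : C → ℂ) c * ∑ g : G, F c g
        = (if χ = χ' then (Nat.card G : ℂ) else 0) / (χ : G → ℂ) 1
            * (conj ((χ : G → ℂ) (A.ι c)) * (β : C → ℂ) c) := by
      intro c
      simp only [hF]
      rw [sum_conj_mul_shift χ χ' (A.ι c)⁻¹]
      by_cases hc : χ = χ'
      · rw [if_pos hc, ← hc, IsCharacter.apply_inv hχc]
        ring
      · rw [if_neg hc]
        simp
    rw [Finset.sum_congr rfl (fun c _ => h1 c), ← Finset.mul_sum, A.sum_conj_mul hχc β.2]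
    ring
  rw [hC, hG, hdβ, hdχ] at htot
  -- clear denominators
  have hmul := MemLocalIdeal.mul_left hM
    (memLocalRing_intCast hM (-(Cfsg.charDegree (χ : G → ℂ) : ℤ) * (Cfsg.charDegree (β : C → ℂ) : ℤ)))
    htot
  have hval : ((-(Cfsg.charDegree (χ : G → ℂ) : ℤ) * (Cfsg.charDegree (β : C → ℂ) : ℤ) : ℤ) : ℂ)
      * ((if χ = χ' then (Nat.card G : ℂ) else 0) * ((Nat.card C : ℂ) * (m : ℂ))
          / ((Cfsg.charDegree (χ : G → ℂ) : ℕ) : ℂ)
        - (Nat.card C : ℂ) * (m : ℂ) * ((Nat.card C : ℂ) * (m' : ℂ))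
          / ((Cfsg.charDegree (β : C → ℂ) : ℕ) : ℂ))
      = (((Nat.card C : ℤ) * ((m : ℤ) * (m' : ℤ) * (Nat.card C : ℤ) * (Cfsg.charDegree (χ : G → ℂ) : ℤ)
          - (if χ = χ' then (Nat.card G : ℤ) * (Cfsg.charDegree (β : C → ℂ) : ℤ) * (m : ℤ) else 0)) : ℤ) : ℂ) := by
    by_cases hc : χ = χ'
    · simp only [if_pos hc]
      push_cast
      field_simp
      ring
    · simp only [if_neg hc]
      push_cast
      field_simp
      ring
  rw [hval, memLocalIdeal_intCast_iff hM] at hmul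
  have hcop : IsCoprime (p : ℤ) (Nat.card C : ℤ) := by
    rw [Int.isCoprime_iff_gcd_eq_one, Int.gcd_natCast_natCast]
    exact (Nat.Prime.coprime_iff_not_dvd hM.1).mpr A.not_dvd_card_C
  exact hcop.dvd_of_dvd_mul_left hmul

end PAct

end Cfsg.Agent.Lib.Helper8.GlauP
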