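import Mathlib
import Cfsg.Agent.Lib.Helper8.GlauP5

/-! Fusion lemma and the induced-value identity. -/
set_option autoImplicit false

namespace Cfsg.Agent.Lib.Helper8.GlauP

open MulAction Cfsg.Agent.Lib.Helper6
open scoped ComplexConjugate

variable {p : ℕ} {M : Ideal Cfsg.AlgInt}

theorem card_class_dvd {C : Type*} [Group C] [Fintype C] [DecidableEq C] (c : C)
    [DecidablePred (fun x : C => IsConj x c)] :
    (Finset.univ.filter (fun x : C => IsConj x c)).card ∣ Nat.card C := by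
  have h1 := MulAction.index_stabilizer (ConjAct C) c
  have h2 : (orbit (ConjAct C) c).ncard = (Finset.univ.filter (fun x : C => IsConj x c)).card := by
    have h3 : orbit (ConjAct C) c
        = ((Finset.univ.filter (fun x : C => IsConj x c) : Finset C) : Set C) := by
      ext x
      simp only [Finset.coe_filter, Finset.mem_univ, true_and, Set.mem_ofPred_eq]
      exact ConjAct.mem_orbit_conjAct
    rw [h3, Set.ncard_coe_finset]
  rw [← h2, ← h1]
  have h3 := Subgroup.index_dvd_card (stabilizer (ConjAct C) c)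
  have h4 : Nat.card (ConjAct C) = Nat.card C := Nat.card_congr ConjAct.ofConjAct.toEquiv
  rwa [h4] at h3

variable {G C S : Type*} [Group G] [Group C] [Group S]

namespace PAct

variable (A : PAct p G C S)

/-- Glauberman's lemma for `p`-groups: fusion in `C` is controlled by `C`. -/
theorem fusion [Fintype G] [Fintype C] [Finite S] [hp : Fact p.Prime] (c c' : C)
    (h : IsConj (A.ι c) (A.ι c')) : IsConj c c' := by
  classical
  letI := A.actG
  obtain ⟨g₀, hg₀⟩ := isConj_iff.mp h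
  set f : G → ℕ := fun g => if g * A.ι c * g⁻¹ = A.ι c' then 1 else 0 with hf
  have hinv : ∀ (s : S) (g : G), f (s • g) = f g := by
    intro s g
    show f (A.φ s g) = f g
    simp only [hf]
    have h1 : A.φ s g * A.ι c * (A.φ s g)⁻¹ = A.φ s (g * A.ι c * g⁻¹) := by
      rw [map_mul, map_mul, map_inv, A.φ_ι]
    rw [h1]
    have h2 : A.φ s (g * A.ι c * g⁻¹) = A.ι c' ↔ g * A.ι c * g⁻¹ = A.ι c' := by
      constructor
      · intro h3
        apply (A.φ s).injective
        rw [h3, A.φ_ι]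
      · intro h3
        rw [h3, A.φ_ι]
    simp only [h2]
  have h1 := sum_modEq_sum_fixed A.pgroup f hinv
  rw [A.sum_fixedPoints_eq f] at h1
  -- the left side is the size of a coset of the centralizer
  have hL : ∑ g : G, f g = Nat.card (Subgroup.centralizer ({A.ι c} : Set G)) := by
    simp only [hf]
    rw [Finset.sum_boole, Nat.cast_id, Nat.card_eq_fintype_card, ← Fintype.card_subtype]
    apply Fintype.card_congr
    refine ⟨fun g => ⟨g₀⁻¹ * g.1, ?_⟩, fun z => ⟨g₀ * z.1, ?_⟩, ?_, ?_⟩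
    · rw [Subgroup.mem_centralizer_iff]
      intro y hy
      rw [Set.mem_singleton_iff] at hy
      subst hy
      have h2 := g.2
      have : g₀⁻¹ * g.1 * A.ι c * (g₀⁻¹ * g.1)⁻¹ = A.ι c := by
        have h3 : g₀⁻¹ * g.1 * A.ι c * (g₀⁻¹ * g.1)⁻¹ = g₀⁻¹ * (g.1 * A.ι c * g.1⁻¹) * g₀ := by
          group
        rw [h3, h2, ← hg₀]
        group
      calc A.ι c * (g₀⁻¹ * g.1) = (g₀⁻¹ * g.1 * A.ι c * (g₀⁻¹ * g.1)⁻¹) * (g₀⁻¹ * g.1) := by
            rw [this]
        _ = g₀⁻¹ * g.1 * A.ι c := by group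
    · have hz := z.2
      rw [Subgroup.mem_centralizer_iff] at hz
      have h2 := hz (A.ι c) rfl
      have : g₀ * z.1 * A.ι c * (g₀ * z.1)⁻¹ = g₀ * (z.1 * A.ι c) * z.1⁻¹ * g₀⁻¹ := by group
      rw [this, ← h2, ← hg₀]
      group
    · intro g
      apply Subtype.ext
      simp
    · intro z
      apply Subtype.ext
      simp
  have hnd : ¬ p ∣ ∑ g : G, f g := by
    rw [hL]
    intro hd
    exact A.cop (hd.trans (Subgroup.card_subgroup_dvd_card _))
  have hR : ¬ p ∣ ∑ x : C, f (A.ι x) := by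
    intro hd
    apply hnd
    exact (Nat.modEq_zero_iff_dvd.mp (h1.trans (Nat.modEq_zero_iff_dvd.mpr hd)))
  have hex : ∃ x : C, f (A.ι x) ≠ 0 := by
    by_contra hcon
    push Not at hcon
    apply hR
    rw [Finset.sum_eq_zero (fun x _ => hcon x)]
    exact dvd_zero p
  obtain ⟨x, hx⟩ := hex
  simp only [hf] at hx
  have hx' : A.ι x * A.ι c * (A.ι x)⁻¹ = A.ι c' := by
    by_contra hcon
    rw [if_neg hcon] at hx
    exact hx rfl
  rw [isConj_iff]
  refine ⟨x, ?_⟩
  apply A.inj
  rw [map_mul, map_mul, map_inv, hx']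

theorem isConj_ι_iff [Fintype G] [Fintype C] [Finite S] [hp : Fact p.Prime] (c c' : C) :
    IsConj (A.ι c) (A.ι c') ↔ IsConj c c' := by
  constructor
  · exact A.fusion c c'
  · intro h
    obtain ⟨x, hx⟩ := isConj_iff.mp h
    rw [isConj_iff]
    refine ⟨A.ι x, ?_⟩
    rw [← hx, map_mul, map_mul, map_inv]

/-- the induced-value identity -/
theorem card_mul_sum_conj_mult [Fintype G] [Fintype C] [Finite S] [hp : Fact p.Prime]
    [Fintype (Cfsg.IrrCharacter G)] (β : Cfsg.IrrCharacter C) (c : C)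
    [DecidablePred (fun x : C => IsConj x c)] :
    (Nat.card C : ℂ) * ∑ χ' : Cfsg.IrrCharacter G,
        conj ((χ' : G → ℂ) (A.ι c)) * (A.mult (χ' : G → ℂ) (β : C → ℂ) : ℂ)
      = ((Nat.card (Subgroup.centralizer ({A.ι c} : Set G)) *
          (Finset.univ.filter (fun x : C => IsConj x c)).card : ℕ) : ℂ) * conj ((β : C → ℂ) c) := by
  classical
  rw [Finset.mul_sum]
  have h1 : ∀ χ' : Cfsg.IrrCharacter G,
      (Nat.card C : ℂ) * (conj ((χ' : G → ℂ) (A.ι c)) * (A.mult (χ' : G → ℂ) (β : C → ℂ) : ℂ))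
        = ∑ x : C, conj ((β : C → ℂ) x) * ((χ' : G → ℂ) (A.ι x) * conj ((χ' : G → ℂ) (A.ι c))) := by
    intro χ'
    rw [mul_left_comm, ← A.sum_mul_conj (IsIrrCharacter.isCharacter χ'.2) β.2, Finset.mul_sum]
    apply Finset.sum_congr rfl
    intro x _
    ring
  rw [Finset.sum_congr rfl (fun χ' _ => h1 χ'), Finset.sum_comm]
  have h2 : ∀ x : C, ∑ χ' : Cfsg.IrrCharacter G,
      conj ((β : C → ℂ) x) * ((χ' : G → ℂ) (A.ι x) * conj ((χ' : G → ℂ) (A.ι c)))
        = if IsConj x c then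
            (Nat.card (Subgroup.centralizer ({A.ι c} : Set G)) : ℂ) * conj ((β : C → ℂ) c)
          else 0 := by
    intro x
    rw [← Finset.mul_sum]
    by_cases hxc : IsConj x c
    · rw [if_pos hxc]
      have hG : IsConj (A.ι x) (A.ι c) := (A.isConj_ι_iff x c).mpr hxc
      have h3 : ∀ χ' : Cfsg.IrrCharacter G, (χ' : G → ℂ) (A.ι x) = (χ' : G → ℂ) (A.ι c) := by
        intro χ'
        obtain ⟨y, hy⟩ := isConj_iff.mp hG
        rw [← hy]
        exact (IsIrrCharacter.isClassFunction χ'.2 _ _).symm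
      simp_rw [h3]
      rw [(sum_irr_mul_conj (A.ι c) (A.ι c)).1 (IsConj.refl _)]
      have h4 : (β : C → ℂ) x = (β : C → ℂ) c := by
        obtain ⟨y, hy⟩ := isConj_iff.mp hxc
        rw [← hy]
        exact (IsIrrCharacter.isClassFunction β.2 _ _).symm
      rw [h4]
      ring
    · rw [if_neg hxc]
      have hG : ¬ IsConj (A.ι x) (A.ι c) := fun h => hxc ((A.isConj_ι_iff x c).mp h)
      rw [(sum_irr_mul_conj (A.ι x) (A.ι c)).2 hG, mul_zero]
  rw [Finset.sum_congr rfl (fun x _ => h2 x), Finset.sum_ite, Finset.sum_const_zero, add_zero,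
    Finset.sum_const, nsmul_eq_mul]
  push_cast
  ring

end PAct

end Cfsg.Agent.Lib.Helper8.GlauP
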