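import Mathlib
import Cfsg.Agent.Lib.Helper8.GlauP6
import Cfsg.Agent.Lib.Helper6.Multiplicity

/-! Uniqueness of the Glauberman correspondent. -/
set_option autoImplicit false

namespace Cfsg.Agent.Lib.Helper8.GlauP

open MulAction Cfsg.Agent.Lib.Helper6
open scoped ComplexConjugate

variable {p : ℕ} {M : Ideal Cfsg.AlgInt}
variable {G C S : Type*} [Group G] [Group C] [Group S]

namespace PAct

variable (A : PAct p G C S)

theorem φ_inv_ι (s : S) (c : C) : (A.φ s)⁻¹ (A.ι c) = A.ι c := by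
  have h := A.φ_ι s c
  rw [MulAut.inv_apply, MulEquiv.symm_apply_eq, h]

theorem actIrr_apply_ι [Finite G] (s : S) (χ : Cfsg.IrrCharacter G) (c : C) :
    (((letI := A.actIrr; s • χ) : Cfsg.IrrCharacter G) : G → ℂ) (A.ι c)
      = (χ : G → ℂ) (A.ι c) := by
  rw [A.actIrr_apply, A.φ_inv_ι]

theorem mult_smul [Finite G] [Fintype C] (s : S) (χ : Cfsg.IrrCharacter G) (β : C → ℂ) :
    A.mult (((letI := A.actIrr; s • χ) : Cfsg.IrrCharacter G) : G → ℂ) β
      = A.mult (χ : G → ℂ) β := by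
  unfold mult
  have : (fun c => (((letI := A.actIrr; s • χ) : Cfsg.IrrCharacter G) : G → ℂ) (A.ι c))
      = fun c => (χ : G → ℂ) (A.ι c) := by
    funext c
    exact A.actIrr_apply_ι s χ c
  rw [this]

theorem not_dvd_degree [Fintype G] (A : PAct p G C S) (χ : Cfsg.IrrCharacter G) :
    ¬ p ∣ Cfsg.charDegree (χ : G → ℂ) := fun h =>
  A.cop (h.trans (IsIrrCharacter.charDegree_dvd_card χ.2))

theorem not_dvd_degree_C [Fintype G] [Fintype C] [Finite S] [Fact p.Prime] (A : PAct p G C S)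
    (β : Cfsg.IrrCharacter C) : ¬ p ∣ Cfsg.charDegree (β : C → ℂ) := fun h =>
  A.not_dvd_card_C (h.trans (IsIrrCharacter.charDegree_dvd_card β.2))

/-- distinct invariant characters cannot both have `p'`-multiplicity of `β` -/
theorem dvd_mult_of_ne [Fintype G] [Fintype C] [Finite S] (hM : Cfsg.IsPModular p M)
    (χ χ' : Cfsg.IrrCharacter G) (hχ : A.Inv (χ : G → ℂ)) (hχ' : A.Inv (χ' : G → ℂ))
    (β : Cfsg.IrrCharacter C) (hne : χ ≠ χ') (hm : ¬ p ∣ A.mult (χ : G → ℂ) (β : C → ℂ)) :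
    p ∣ A.mult (χ' : G → ℂ) (β : C → ℂ) := by
  haveI : Fact p.Prime := ⟨hM.1⟩
  have h := A.product_congruence hM χ χ' hχ hχ' β
  rw [if_neg hne, sub_zero] at h
  have h' : p ∣ A.mult (χ : G → ℂ) (β : C → ℂ) * A.mult (χ' : G → ℂ) (β : C → ℂ)
      * Nat.card C * Cfsg.charDegree (χ : G → ℂ) := by
    exact_mod_cast h
  rcases (Nat.Prime.dvd_mul hM.1).mp h' with h1 | h1
  · rcases (Nat.Prime.dvd_mul hM.1).mp h1 with h2 | h2
    · rcases (Nat.Prime.dvd_mul hM.1).mp h2 with h3 | h3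
      · exact absurd h3 hm
      · exact h3
    · exact absurd h2 A.not_dvd_card_C
  · exact absurd h1 (A.not_dvd_degree χ)

/-- the self congruence -/
theorem self_congruence [Fintype G] [Fintype C] [Finite S] (hM : Cfsg.IsPModular p M)
    (χ : Cfsg.IrrCharacter G) (hχ : A.Inv (χ : G → ℂ))
    (β : Cfsg.IrrCharacter C) (hm : ¬ p ∣ A.mult (χ : G → ℂ) (β : C → ℂ)) :
    (p : ℤ) ∣ (A.mult (χ : G → ℂ) (β : C → ℂ) : ℤ) * (Nat.card C : ℤ)
        * (Cfsg.charDegree (χ : G → ℂ) : ℤ)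
      - (Nat.card G : ℤ) * (Cfsg.charDegree (β : C → ℂ) : ℤ) := by
  have h := A.product_congruence hM χ χ hχ hχ β
  rw [if_pos rfl] at h
  have h2 : (A.mult (χ : G → ℂ) (β : C → ℂ) : ℤ) * (A.mult (χ : G → ℂ) (β : C → ℂ) : ℤ)
        * (Nat.card C : ℤ) * (Cfsg.charDegree (χ : G → ℂ) : ℤ)
      - (Nat.card G : ℤ) * (Cfsg.charDegree (β : C → ℂ) : ℤ) * (A.mult (χ : G → ℂ) (β : C → ℂ) : ℤ)
      = (A.mult (χ : G → ℂ) (β : C → ℂ) : ℤ) * ((A.mult (χ : G → ℂ) (β : C → ℂ) : ℤ)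
          * (Nat.card C : ℤ) * (Cfsg.charDegree (χ : G → ℂ) : ℤ)
        - (Nat.card G : ℤ) * (Cfsg.charDegree (β : C → ℂ) : ℤ)) := by ring
  rw [h2] at h
  have hcop : IsCoprime (p : ℤ) (A.mult (χ : G → ℂ) (β : C → ℂ) : ℤ) := by
    rw [Int.isCoprime_iff_gcd_eq_one, Int.gcd_natCast_natCast]
    exact (Nat.Prime.coprime_iff_not_dvd hM.1).mpr hm
  exact hcop.dvd_of_dvd_mul_left h

/-- the key congruence for values -/
theorem value_congruence [Fintype G] [Fintype C] [Finite S] (hM : Cfsg.IsPModular p M)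
    (χ : Cfsg.IrrCharacter G) (hχ : A.Inv (χ : G → ℂ))
    (β : Cfsg.IrrCharacter C) (hm : ¬ p ∣ A.mult (χ : G → ℂ) (β : C → ℂ)) (c : C)
    [DecidablePred (fun x : C => IsConj x c)] :
    Cfsg.MemLocalIdeal M
      (((Nat.card (Subgroup.centralizer ({A.ι c} : Set G)) *
          (Finset.univ.filter (fun x : C => IsConj x c)).card : ℕ) : ℂ)
          * (Cfsg.charDegree (χ : G → ℂ) : ℂ) * conj ((β : C → ℂ) c)
        - (Nat.card G : ℂ) * conj ((χ : G → ℂ) (A.ι c)) * (Cfsg.charDegree (β : C → ℂ) : ℂ)) := by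
  classical
  haveI : Fact p.Prime := ⟨hM.1⟩
  haveI : Fintype (Cfsg.IrrCharacter G) := Fintype.ofFinite _
  letI := A.actIrr
  set m := A.mult (χ : G → ℂ) (β : C → ℂ) with hm_def
  set f : Cfsg.IrrCharacter G → ℂ := fun χ' =>
    conj ((χ' : G → ℂ) (A.ι c)) * (A.mult (χ' : G → ℂ) (β : C → ℂ) : ℂ) with hf
  have hfinv : ∀ (s : S) (χ' : Cfsg.IrrCharacter G), f (s • χ') = f χ' := by
    intro s χ'
    simp only [hf]
    rw [A.actIrr_apply_ι, A.mult_smul]
  have hfloc : ∀ χ' : Cfsg.IrrCharacter G, Cfsg.MemLocalRing M (f χ') := by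
    intro χ'
    exact MemLocalRing.mul hM (memLocalRing_conj_char hM (IsIrrCharacter.isCharacter χ'.2) _)
      (memLocalRing_natCast hM _)
  have h1 := memLocalIdeal_sum_sub hM A.pgroup f hfinv hfloc
  -- the fixed sum is congruent to `f χ`
  have hχmem : χ ∈ Finset.univ.filter (· ∈ fixedPoints S (Cfsg.IrrCharacter G)) := by
    rw [Finset.mem_filter]
    exact ⟨Finset.mem_univ _, (A.mem_fixedPoints_irr_iff χ).mpr hχ⟩
  have h2 : Cfsg.MemLocalIdeal M
      (∑ χ' ∈ Finset.univ.filter (· ∈ fixedPoints S (Cfsg.IrrCharacter G)), f χ' - f χ) := by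
    rw [← Finset.add_sum_erase _ f hχmem, add_sub_cancel_left]
    apply MemLocalIdeal.sum hM
    intro χ' hχ'
    rw [Finset.mem_erase, Finset.mem_filter] at hχ'
    have hinv' : A.Inv (χ' : G → ℂ) := (A.mem_fixedPoints_irr_iff χ').mp hχ'.2.2
    have hd := A.dvd_mult_of_ne hM χ χ' hχ hinv' β (fun h => hχ'.1 h.symm) hm
    simp only [hf]
    exact MemLocalIdeal.mul_left hM
      (memLocalRing_conj_char hM (IsIrrCharacter.isCharacter χ'.2) _)
      ((memLocalIdeal_natCast_iff hM _).mpr hd)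
  have h3 : Cfsg.MemLocalIdeal M (∑ χ', f χ' - f χ) := by
    have := MemLocalIdeal.add hM h1 h2
    rwa [sub_add_sub_cancel] at this
  -- multiply by |C| and use the induced value identity
  have h4 := MemLocalIdeal.mul_left hM (memLocalRing_natCast hM (Nat.card C)) h3
  rw [mul_sub, A.card_mul_sum_conj_mult β c] at h4
  -- self congruence
  have h5 := A.self_congruence hM χ hχ β hm
  have h6 : Cfsg.MemLocalIdeal M (((m : ℤ) * (Nat.card C : ℤ) * (Cfsg.charDegree (χ : G → ℂ) : ℤ)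
      - (Nat.card G : ℤ) * (Cfsg.charDegree (β : C → ℂ) : ℤ) : ℤ) : ℂ) :=
    (memLocalIdeal_intCast_iff hM _).mpr h5
  have h7 := MemLocalIdeal.mul_left hM
    (memLocalRing_natCast hM (Cfsg.charDegree (χ : G → ℂ))) h4
  have h8 := MemLocalIdeal.mul_left hM
    (memLocalRing_conj_char hM (IsIrrCharacter.isCharacter χ.2) (A.ι c)) h6
  have h9 := MemLocalIdeal.add hM h7 h8
  convert h9 using 1
  simp only [hf]
  push_cast
  ring

end PAct

end Cfsg.Agent.Lib.Helper8.GlauP
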