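import Mathlib
import Cfsg.Agent.Lib.Helper8.GlauP7
import Cfsg.Agent.Lib.Helper6.BlkVanish

/-! The Glauberman correspondence for `p`-groups, abstract form. -/
set_option autoImplicit false

namespace Cfsg.Agent.Lib.Helper8.GlauP

open MulAction Cfsg.Agent.Lib.Helper6
open scoped ComplexConjugate

variable {p : ℕ} {M : Ideal Cfsg.AlgInt}
variable {G C S : Type*} [Group G] [Group C] [Group S]

theorem sum_irr_mul_conj_irr {C : Type*} [Group C] [Fintype C] (β₁ β₂ : Cfsg.IrrCharacter C) :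
    ∑ c : C, (β₁ : C → ℂ) c * conj ((β₂ : C → ℂ) c)
      = (Nat.card C : ℂ) * (if β₁ = β₂ then 1 else 0) := by
  have h := classInner_irrCharacter β₁ β₂
  unfold Cfsg.classInner at h
  rw [← h, ← mul_assoc, mul_inv_cancel₀ (card_ne_zero_complex C), one_mul]

namespace PAct

variable (A : PAct p G C S)

/-- uniqueness of the correspondent -/
theorem unique_beta [Fintype G] [Fintype C] [Finite S] (hM : Cfsg.IsPModular p M)
    (χ : Cfsg.IrrCharacter G) (hχ : A.Inv (χ : G → ℂ)) (β₁ β₂ : Cfsg.IrrCharacter C)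
    (h1 : ¬ p ∣ A.mult (χ : G → ℂ) (β₁ : C → ℂ)) (h2 : ¬ p ∣ A.mult (χ : G → ℂ) (β₂ : C → ℂ)) :
    β₁ = β₂ := by
  classical
  haveI : Fact p.Prime := ⟨hM.1⟩
  by_contra hne
  have hW : ∀ c : C, Cfsg.MemLocalIdeal M
      ((Cfsg.charDegree (β₂ : C → ℂ) : ℂ) * conj ((β₁ : C → ℂ) c)
        - (Cfsg.charDegree (β₁ : C → ℂ) : ℂ) * conj ((β₂ : C → ℂ) c)) := by
    intro c
    have v1 := A.value_congruence hM χ hχ β₁ h1 c
    have v2 := A.value_congruence hM χ hχ β₂ h2 c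
    set n : ℕ := Nat.card (Subgroup.centralizer ({A.ι c} : Set G)) *
      (Finset.univ.filter (fun x : C => IsConj x c)).card with hn
    have hnp : ¬ p ∣ n * Cfsg.charDegree (χ : G → ℂ) := by
      intro hd
      rcases (Nat.Prime.dvd_mul hM.1).mp hd with h | h
      · rcases (Nat.Prime.dvd_mul hM.1).mp h with h' | h'
        · exact A.cop (h'.trans (Subgroup.card_subgroup_dvd_card _))
        · exact A.not_dvd_card_C (h'.trans (card_class_dvd c))
      · exact A.not_dvd_degree χ h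
    have w1 := MemLocalIdeal.mul_left hM (memLocalRing_natCast hM (Cfsg.charDegree (β₂ : C → ℂ))) v1
    have w2 := MemLocalIdeal.mul_left hM (memLocalRing_natCast hM (Cfsg.charDegree (β₁ : C → ℂ))) v2
    have w3 := MemLocalIdeal.sub hM w1 w2
    have hcalc : (Cfsg.charDegree (β₂ : C → ℂ) : ℂ) *
          ((n : ℂ) * (Cfsg.charDegree (χ : G → ℂ) : ℂ) * conj ((β₁ : C → ℂ) c)
            - (Nat.card G : ℂ) * conj ((χ : G → ℂ) (A.ι c)) * (Cfsg.charDegree (β₁ : C → ℂ) : ℂ))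
        - (Cfsg.charDegree (β₁ : C → ℂ) : ℂ) *
          ((n : ℂ) * (Cfsg.charDegree (χ : G → ℂ) : ℂ) * conj ((β₂ : C → ℂ) c)
            - (Nat.card G : ℂ) * conj ((χ : G → ℂ) (A.ι c)) * (Cfsg.charDegree (β₂ : C → ℂ) : ℂ))
        = ((n * Cfsg.charDegree (χ : G → ℂ) : ℕ) : ℂ) *
          ((Cfsg.charDegree (β₂ : C → ℂ) : ℂ) * conj ((β₁ : C → ℂ) c)
            - (Cfsg.charDegree (β₁ : C → ℂ) : ℂ) * conj ((β₂ : C → ℂ) c)) := by
      push_cast
      ring
    rw [hcalc] at w3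
    have hloc : Cfsg.MemLocalRing M ((Cfsg.charDegree (β₂ : C → ℂ) : ℂ) * conj ((β₁ : C → ℂ) c)
        - (Cfsg.charDegree (β₁ : C → ℂ) : ℂ) * conj ((β₂ : C → ℂ) c)) :=
      MemLocalRing.sub hM
        (MemLocalRing.mul hM (memLocalRing_natCast hM _)
          (memLocalRing_conj_char hM (IsIrrCharacter.isCharacter β₁.2) c))
        (MemLocalRing.mul hM (memLocalRing_natCast hM _)
          (memLocalRing_conj_char hM (IsIrrCharacter.isCharacter β₂.2) c))
    rcases memLocalIdeal_or_of_mul hM (memLocalRing_natCast hM _) hloc w3 with h | h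
    · exact absurd ((memLocalIdeal_natCast_iff hM _).mp h) hnp
    · exact h
  have hsum : Cfsg.MemLocalIdeal M (∑ c : C, (β₁ : C → ℂ) c *
      ((Cfsg.charDegree (β₂ : C → ℂ) : ℂ) * conj ((β₁ : C → ℂ) c)
        - (Cfsg.charDegree (β₁ : C → ℂ) : ℂ) * conj ((β₂ : C → ℂ) c))) := by
    apply MemLocalIdeal.sum hM
    intro c _
    exact MemLocalIdeal.mul_left hM (memLocalRing_char hM (IsIrrCharacter.isCharacter β₁.2) c) (hW c)
  have hval : ∑ c : C, (β₁ : C → ℂ) c *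
      ((Cfsg.charDegree (β₂ : C → ℂ) : ℂ) * conj ((β₁ : C → ℂ) c)
        - (Cfsg.charDegree (β₁ : C → ℂ) : ℂ) * conj ((β₂ : C → ℂ) c))
      = ((Cfsg.charDegree (β₂ : C → ℂ) * Nat.card C : ℕ) : ℂ) := by
    have h3 : ∀ c : C, (β₁ : C → ℂ) c *
        ((Cfsg.charDegree (β₂ : C → ℂ) : ℂ) * conj ((β₁ : C → ℂ) c)
          - (Cfsg.charDegree (β₁ : C → ℂ) : ℂ) * conj ((β₂ : C → ℂ) c))
        = (Cfsg.charDegree (β₂ : C → ℂ) : ℂ) * ((β₁ : C → ℂ) c * conj ((β₁ : C → ℂ) c))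
          - (Cfsg.charDegree (β₁ : C → ℂ) : ℂ) * ((β₁ : C → ℂ) c * conj ((β₂ : C → ℂ) c)) := by
      intro c
      ring
    rw [Finset.sum_congr rfl (fun c _ => h3 c), Finset.sum_sub_distrib, ← Finset.mul_sum,
      ← Finset.mul_sum, sum_irr_mul_conj_irr, sum_irr_mul_conj_irr, if_pos rfl, if_neg hne]
    push_cast
    ring
  rw [hval, memLocalIdeal_natCast_iff hM] at hsum
  rcases (Nat.Prime.dvd_mul hM.1).mp hsum with h | h
  · exact A.not_dvd_degree_C β₂ h
  · exact A.not_dvd_card_C h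

/-- the degree of `χ` is the sum of multiplicities times degrees -/
theorem degree_eq_sum [Fintype C] [Fintype (Cfsg.IrrCharacter C)] {χ : G → ℂ}
    (hχ : Cfsg.IsCharacter G χ) :
    Cfsg.charDegree χ
      = ∑ β : Cfsg.IrrCharacter C, A.mult χ (β : C → ℂ) * Cfsg.charDegree (β : C → ℂ) := by
  have hψ : Cfsg.IsCharacter C (fun c => χ (A.ι c)) := IsCharacter.comp A.ι hχ
  obtain ⟨m, hm, hm2⟩ := IsCharacter.exists_mult hψ
  have h1 := apply_eq_sum_mult hm 1
  simp only [map_one] at h1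
  have h2 : ∀ β : Cfsg.IrrCharacter C, m β = A.mult χ (β : C → ℂ) := by
    intro β
    have := hm2 β
    rw [A.mult_spec hχ β.2] at this
    exact_mod_cast this.symm
  have h3 : (Cfsg.charDegree χ : ℂ)
      = ((∑ β : Cfsg.IrrCharacter C, A.mult χ (β : C → ℂ) * Cfsg.charDegree (β : C → ℂ) : ℕ) : ℂ) := by
    rw [← IsCharacter.apply_one_eq_charDegree hχ, h1]
    push_cast
    apply Finset.sum_congr rfl
    intro β _
    rw [h2 β, IsCharacter.apply_one_eq_charDegree (IsIrrCharacter.isCharacter β.2)]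
  exact_mod_cast h3

end PAct

end Cfsg.Agent.Lib.Helper8.GlauP
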