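import Mathlib
import Cfsg.Agent.Lib.Helper8.GlauP8

/-! The Glauberman correspondence for `p`-groups, abstract form: main statements. -/
set_option autoImplicit false

namespace Cfsg.Agent.Lib.Helper8.GlauP

open MulAction Cfsg.Agent.Lib.Helper6
open scoped ComplexConjugate

variable {p : ℕ} {M : Ideal Cfsg.AlgInt}
variable {G C S : Type*} [Group G] [Group C] [Group S]

namespace PAct

variable (A : PAct p G C S)

theorem exists_beta [Fintype G] [Fintype C] (χ : Cfsg.IrrCharacter G) :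
    ∃ β : Cfsg.IrrCharacter C, ¬ p ∣ A.mult (χ : G → ℂ) (β : C → ℂ) := by
  classical
  haveI : Fintype (Cfsg.IrrCharacter C) := Fintype.ofFinite _
  by_contra hcon
  push Not at hcon
  apply A.not_dvd_degree χ
  rw [A.degree_eq_sum (IsIrrCharacter.isCharacter χ.2)]
  apply Finset.dvd_sum
  intro β _
  exact Dvd.dvd.mul_right (hcon β) _

theorem charDegree_smul [Finite G] (s : S) (χ : Cfsg.IrrCharacter G) :
    Cfsg.charDegree (((letI := A.actIrr; s • χ) : Cfsg.IrrCharacter G) : G → ℂ)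
      = Cfsg.charDegree (χ : G → ℂ) := by
  unfold Cfsg.charDegree
  rw [A.actIrr_apply, map_one]

theorem exists_chi [Fintype G] [Fintype C] [Finite S] [hp : Fact p.Prime]
    (β : Cfsg.IrrCharacter C) :
    ∃ χ : Cfsg.IrrCharacter G, A.Inv (χ : G → ℂ) ∧ ¬ p ∣ A.mult (χ : G → ℂ) (β : C → ℂ) := by
  classical
  haveI : Fintype (Cfsg.IrrCharacter G) := Fintype.ofFinite _
  letI := A.actIrr
  by_contra hcon
  push Not at hcon
  set f : Cfsg.IrrCharacter G → ℕ := fun χ =>
    Cfsg.charDegree (χ : G → ℂ) * A.mult (χ : G → ℂ) (β : C → ℂ) with hf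
  have hfinv : ∀ (s : S) (χ : Cfsg.IrrCharacter G), f (s • χ) = f χ := by
    intro s χ
    simp only [hf]
    rw [A.charDegree_smul, A.mult_smul]
  have h1 := sum_modEq_sum_fixed A.pgroup f hfinv
  have h2 : p ∣ ∑ χ ∈ Finset.univ.filter (· ∈ fixedPoints S (Cfsg.IrrCharacter G)), f χ := by
    apply Finset.dvd_sum
    intro χ hχ
    rw [Finset.mem_filter] at hχ
    have := hcon χ ((A.mem_fixedPoints_irr_iff χ).mp hχ.2)
    exact Dvd.dvd.mul_left this _
  have h3 : p ∣ ∑ χ, f χ :=
    (Nat.modEq_zero_iff_dvd.mp (h1.trans (Nat.modEq_zero_iff_dvd.mpr h2)))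
  have h4 := A.card_mul_sum_degree_mult β.2
  have h5 : Nat.card C * ∑ χ, f χ = Nat.card G * Cfsg.charDegree (β : C → ℂ) := by
    have h6 : ((Nat.card C * ∑ χ, f χ : ℕ) : ℂ)
        = ((Nat.card G * Cfsg.charDegree (β : C → ℂ) : ℕ) : ℂ) := by
      push_cast
      rw [← IsCharacter.apply_one_eq_charDegree (IsIrrCharacter.isCharacter β.2), ← h4]
      congr 1
      apply Finset.sum_congr rfl
      intro χ _
      simp only [hf]
      rw [IsCharacter.apply_one_eq_charDegree (IsIrrCharacter.isCharacter χ.2)]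
      push_cast
      rfl
    exact_mod_cast h6
  have h7 : p ∣ Nat.card G * Cfsg.charDegree (β : C → ℂ) := by
    rw [← h5]
    exact Dvd.dvd.mul_left h3 _
  rcases (Nat.Prime.dvd_mul hp.1).mp h7 with h | h
  · exact A.cop h
  · exact A.not_dvd_degree_C β h

theorem mult_modEq [Fintype G] [Fintype C] [Finite S] (hM : Cfsg.IsPModular p M)
    (χ : Cfsg.IrrCharacter G) (hχ : A.Inv (χ : G → ℂ)) (β : Cfsg.IrrCharacter C)
    (hm : ¬ p ∣ A.mult (χ : G → ℂ) (β : C → ℂ)) :
    (A.mult (χ : G → ℂ) (β : C → ℂ) : ℤ) ≡ 1 [ZMOD p] ∨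
      (A.mult (χ : G → ℂ) (β : C → ℂ) : ℤ) ≡ -1 [ZMOD p] := by
  classical
  haveI : Fact p.Prime := ⟨hM.1⟩
  haveI : Fintype (Cfsg.IrrCharacter C) := Fintype.ofFinite _
  set m := A.mult (χ : G → ℂ) (β : C → ℂ) with hm_def
  -- degree congruence
  have hdeg : (Cfsg.charDegree (χ : G → ℂ) : ZMod p)
      = (m : ZMod p) * (Cfsg.charDegree (β : C → ℂ) : ZMod p) := by
    rw [A.degree_eq_sum (IsIrrCharacter.isCharacter χ.2)]
    push_cast
    rw [Finset.sum_eq_single β]
    · intro β' _ hne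
      have hd : p ∣ A.mult (χ : G → ℂ) (β' : C → ℂ) := by
        by_contra hnd
        exact hne (A.unique_beta hM χ hχ β' β hnd hm)
      rw [(ZMod.natCast_eq_zero_iff _ _).mpr hd, zero_mul]
    · intro h
      exact absurd (Finset.mem_univ _) h
  have hself := A.self_congruence hM χ hχ β hm
  have hself' : (m : ZMod p) * (Nat.card C : ZMod p) * (Cfsg.charDegree (χ : G → ℂ) : ZMod p)
      = (Nat.card G : ZMod p) * (Cfsg.charDegree (β : C → ℂ) : ZMod p) := by
    have := (ZMod.intCast_zmod_eq_zero_iff_dvd _ p).mpr hself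
    push_cast at this
    exact sub_eq_zero.mp this
  have hcard : (Nat.card G : ZMod p) = (Nat.card C : ZMod p) :=
    (ZMod.natCast_eq_natCast_iff _ _ _).mpr A.card_modEq
  rw [hdeg, hcard] at hself'
  have hu : (Nat.card C : ZMod p) * (Cfsg.charDegree (β : C → ℂ) : ZMod p) ≠ 0 := by
    apply mul_ne_zero
    · intro h
      exact A.not_dvd_card_C ((ZMod.natCast_eq_zero_iff _ _).mp h)
    · intro h
      exact A.not_dvd_degree_C β ((ZMod.natCast_eq_zero_iff _ _).mp h)
  have hsq : ((m : ZMod p) - 1) * ((m : ZMod p) + 1) = 0 := by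
    have h1 : ((m : ZMod p) * (m : ZMod p) - 1)
        * ((Nat.card C : ZMod p) * (Cfsg.charDegree (β : C → ℂ) : ZMod p)) = 0 := by
      have : (m : ZMod p) * (m : ZMod p)
          * ((Nat.card C : ZMod p) * (Cfsg.charDegree (β : C → ℂ) : ZMod p))
          = (Nat.card C : ZMod p) * (Cfsg.charDegree (β : C → ℂ) : ZMod p) := by
        linear_combination hself'
      rw [sub_mul, this, one_mul, sub_self]
    rcases mul_eq_zero.mp h1 with h | h
    · rw [← h]; ring
    · exact absurd h hu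
  rcases mul_eq_zero.mp hsq with h | h
  · left
    rw [← ZMod.intCast_eq_intCast_iff]
    push_cast
    exact sub_eq_zero.mp h
  · right
    rw [← ZMod.intCast_eq_intCast_iff]
    push_cast
    exact eq_neg_of_add_eq_zero_left h

end PAct

end Cfsg.Agent.Lib.Helper8.GlauP
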