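import Mathlib
import Cfsg.Agent.Lib.Helper8.GlauP9

/-! Naturality of the `p`-group Glauberman correspondence: bijection between invariant characters
for a larger group `S` acting compatibly. -/
set_option autoImplicit false

namespace Cfsg.Agent.Lib.Helper8.GlauP

open MulAction Cfsg.Agent.Lib.Helper6
open scoped ComplexConjugate

variable {p : ℕ} {M : Ideal Cfsg.AlgInt}
variable {G C T : Type*} [Group G] [Group C] [Group T]

/-- invariance of a function under an action by automorphisms -/
def InvChar {S G : Type*} [Group S] [Group G] (φ : S →* MulAut G) (χ : G → ℂ) : Prop :=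
  ∀ (s : S) (g : G), χ (φ s g) = χ g

/-- invariance of a conjugacy class under an action by automorphisms -/
def InvClass {S G : Type*} [Group S] [Group G] (φ : S →* MulAut G) (K : ConjClasses G) : Prop :=
  ∀ (s : S) (g : G), ConjClasses.mk g = K → ConjClasses.mk (φ s g) = K

namespace PAct

variable (A : PAct p G C T)

/-- transport of multiplicities along compatible automorphisms -/
theorem mult_comp [Fintype C] (a : G ≃* G) (b : C ≃* C) (h : ∀ c, a (A.ι c) = A.ι (b c))
    (χ : G → ℂ) (β : C → ℂ) :
    A.mult (fun g => χ (a g)) (fun c => β (b c)) = A.mult χ β := by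
  unfold mult
  have h1 : (fun c => (fun g => χ (a g)) (A.ι c)) = fun c => (fun c' => χ (A.ι c')) (b c) := by
    funext c
    show χ (a (A.ι c)) = χ (A.ι (b c))
    rw [h]
  rw [h1, classInner_comp_mulEquiv b (fun c' => χ (A.ι c')) β]

variable {S : Type*} [Group S]

/-- data of a larger group acting compatibly -/
structure Ext (A : PAct p G C T) (S : Type*) [Group S] where
  φS : S →* MulAut G
  ψS : S →* MulAut C
  compat : ∀ (s : S) (c : C), φS s (A.ι c) = A.ι (ψS s c)
  through : ∀ t : T, ∃ s : S, A.φ t = φS s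
  norm : ∀ (s : S) (t : T), ∃ t' : T, ∀ g : G, A.φ t (φS s g) = φS s (A.φ t' g)

variable {A}

theorem Ext.inv_of_invChar (E : A.Ext S) {χ : G → ℂ} (h : InvChar E.φS χ) : A.Inv χ := by
  intro t g
  obtain ⟨s, hs⟩ := E.through t
  rw [hs]
  exact h s g

theorem Ext.inv_comp (E : A.Ext S) {χ : G → ℂ} (h : A.Inv χ) (s : S) :
    A.Inv (fun g => χ (E.φS s g)) := by
  intro t g
  show χ (E.φS s (A.φ t g)) = χ (E.φS s g)
  obtain ⟨t'', ht''⟩ := E.norm s⁻¹ t
  have h2 : E.φS s (A.φ t g) = E.φS s (A.φ t (E.φS s⁻¹ (E.φS s g))) := by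
    rw [map_inv, MulAut.inv_apply_self]
  rw [h2, ht'' (E.φS s g), map_inv, MulAut.apply_inv_self]
  exact h t'' _

end PAct

end Cfsg.Agent.Lib.Helper8.GlauP
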