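import Mathlib
import Cfsg.Agent.Lib.Helper8.GlauC1

/-! The bijection on invariant characters. -/
set_option autoImplicit false

namespace Cfsg.Agent.Lib.Helper8.GlauP

open MulAction Cfsg.Agent.Lib.Helper6
open scoped ComplexConjugate

variable {p : ℕ} {M : Ideal Cfsg.AlgInt}
variable {G C T : Type*} [Group G] [Group C] [Group T]
variable {A : PAct p G C T} {S : Type*} [Group S]

namespace PAct

theorem Ext.card_invChar_eq [Fintype G] [Fintype C] [Finite T] (E : A.Ext S)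
    (hM : Cfsg.IsPModular p M) :
    Nat.card {χ : Cfsg.IrrCharacter G // InvChar E.φS (χ : G → ℂ)}
      = Nat.card {β : Cfsg.IrrCharacter C // InvChar E.ψS (β : C → ℂ)} := by
  classical
  haveI : Fact p.Prime := ⟨hM.1⟩
  -- the correspondent
  have hex : ∀ χ : {χ : Cfsg.IrrCharacter G // InvChar E.φS (χ : G → ℂ)},
      ∃ β : Cfsg.IrrCharacter C, ¬ p ∣ A.mult (χ.1 : G → ℂ) (β : C → ℂ) := fun χ => A.exists_beta χ.1
  choose F hF using hex
  have hinvF : ∀ χ : {χ : Cfsg.IrrCharacter G // InvChar E.φS (χ : G → ℂ)},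
      InvChar E.ψS (F χ : C → ℂ) := by
    intro χ s c
    set β' : Cfsg.IrrCharacter C := ⟨fun c => (F χ : C → ℂ) (E.ψS s c),
      IsIrrCharacter.comp_mulEquiv (E.ψS s) (F χ).2⟩ with hβ'
    have h1 : A.mult (χ.1 : G → ℂ) (β' : C → ℂ) = A.mult (χ.1 : G → ℂ) (F χ : C → ℂ) := by
      have h2 := A.mult_comp (E.φS s) (E.ψS s) (E.compat s) (χ.1 : G → ℂ) (F χ : C → ℂ)
      have h3 : (fun g => (χ.1 : G → ℂ) (E.φS s g)) = (χ.1 : G → ℂ) := by
        funext g
        exact χ.2 s g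
      rw [h3] at h2
      exact h2
    have h4 : ¬ p ∣ A.mult (χ.1 : G → ℂ) (β' : C → ℂ) := by rw [h1]; exact hF χ
    have h5 := A.unique_beta hM χ.1 (E.inv_of_invChar χ.2) β' (F χ) h4 (hF χ)
    have := congrFun (congrArg Subtype.val h5) c
    exact this
  let Φ : {χ : Cfsg.IrrCharacter G // InvChar E.φS (χ : G → ℂ)} →
      {β : Cfsg.IrrCharacter C // InvChar E.ψS (β : C → ℂ)} := fun χ => ⟨F χ, hinvF χ⟩
  have hinj : Function.Injective Φ := by
    intro χ χ' h
    have h1 : F χ = F χ' := congrArg Subtype.val h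
    apply Subtype.ext
    by_contra hne
    have h2 := A.dvd_mult_of_ne hM χ.1 χ'.1 (E.inv_of_invChar χ.2) (E.inv_of_invChar χ'.2)
      (F χ) hne (hF χ)
    rw [h1] at h2
    exact hF χ' h2
  have hsurj : Function.Surjective Φ := by
    intro β
    obtain ⟨χ, hχ, hm⟩ := A.exists_chi β.1
    have hχS : InvChar E.φS (χ : G → ℂ) := by
      intro s g
      set χ' : Cfsg.IrrCharacter G := ⟨fun g => (χ : G → ℂ) (E.φS s g),
        IsIrrCharacter.comp_mulEquiv (E.φS s) χ.2⟩ with hχ'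
      have h1 : A.mult (χ' : G → ℂ) (β.1 : C → ℂ) = A.mult (χ : G → ℂ) (β.1 : C → ℂ) := by
        have h2 := A.mult_comp (E.φS s) (E.ψS s) (E.compat s) (χ : G → ℂ) (β.1 : C → ℂ)
        have h3 : (fun c => (β.1 : C → ℂ) (E.ψS s c)) = (β.1 : C → ℂ) := by
          funext c
          exact β.2 s c
        rw [h3] at h2
        exact h2
      have h4 : ¬ p ∣ A.mult (χ' : G → ℂ) (β.1 : C → ℂ) := by rw [h1]; exact hm
      have h5 : χ = χ' := by
        by_contra hne
        exact h4 (A.dvd_mult_of_ne hM χ χ' hχ (E.inv_comp hχ s) β.1 hne hm)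
      have := congrFun (congrArg Subtype.val h5) g
      exact this.symm
    refine ⟨⟨χ, hχS⟩, ?_⟩
    apply Subtype.ext
    show F ⟨χ, hχS⟩ = β.1
    exact A.unique_beta hM χ hχ (F ⟨χ, hχS⟩) β.1 (hF ⟨χ, hχS⟩) hm
  exact Nat.card_congr (Equiv.ofBijective Φ ⟨hinj, hsurj⟩)

end PAct

end Cfsg.Agent.Lib.Helper8.GlauP
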