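import Mathlib
import Cfsg.Agent.Lib.Helper8.GlauC2

/-! The bijection on invariant conjugacy classes. -/
set_option autoImplicit false

namespace Cfsg.Agent.Lib.Helper8.GlauP

open MulAction Cfsg.Agent.Lib.Helper6
open scoped ComplexConjugate

variable {p : ℕ}
variable {G C T : Type*} [Group G] [Group C] [Group T]
variable {A : PAct p G C T} {S : Type*} [Group S]

theorem isConj_mulEquiv {G : Type*} [Group G] (a : G ≃* G) {x y : G} (h : IsConj x y) :
    IsConj (a x) (a y) := by
  obtain ⟨g, hg⟩ := isConj_iff.mp h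
  rw [isConj_iff]
  refine ⟨a g, ?_⟩
  rw [← hg, map_mul, map_mul, map_inv]

namespace PAct

theorem Ext.isConj_φS_iff (E : A.Ext S) {K : ConjClasses G} (hK : InvClass E.φS K) (s : S) (g : G) :
    ConjClasses.mk (E.φS s g) = K ↔ ConjClasses.mk g = K := by
  constructor
  · intro h
    have := hK s⁻¹ _ h
    rwa [map_inv, MulAut.inv_apply_self] at this
  · exact hK s g

theorem Ext.card_invClass_eq [Fintype G] [Fintype C] [Finite T] [hp : Fact p.Prime] (E : A.Ext S) :
    Nat.card {K : ConjClasses G // InvClass E.φS K}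
      = Nat.card {L : ConjClasses C // InvClass E.ψS L} := by
  classical
  have hinvΦ : ∀ L : {L : ConjClasses C // InvClass E.ψS L},
      InvClass E.φS (ConjClasses.map A.ι L.1) := by
    intro L
    obtain ⟨c, hc⟩ := ConjClasses.exists_rep L.1
    rw [← hc]
    intro s g hg
    have h1 : IsConj g (A.ι c) := ConjClasses.mk_eq_mk_iff_isConj.mp hg
    have h2 : IsConj (E.φS s g) (E.φS s (A.ι c)) := isConj_mulEquiv _ h1
    rw [E.compat] at h2
    have h3 : ConjClasses.mk (E.ψS s c) = ConjClasses.mk c := by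
      have := L.2 s c hc
      rw [this, hc]
    have h4 : IsConj (E.ψS s c) c := ConjClasses.mk_eq_mk_iff_isConj.mp h3
    have h5 : IsConj (A.ι (E.ψS s c)) (A.ι c) := (A.isConj_ι_iff _ _).mpr h4
    exact ConjClasses.mk_eq_mk_iff_isConj.mpr (h2.trans h5)
  let Φ : {L : ConjClasses C // InvClass E.ψS L} → {K : ConjClasses G // InvClass E.φS K} :=
    fun L => ⟨ConjClasses.map A.ι L.1, hinvΦ L⟩
  have hinj : Function.Injective Φ := by
    intro L L' h
    have h1 : ConjClasses.map A.ι L.1 = ConjClasses.map A.ι L'.1 := congrArg Subtype.val h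
    obtain ⟨c, hc⟩ := ConjClasses.exists_rep L.1
    obtain ⟨c', hc'⟩ := ConjClasses.exists_rep L'.1
    apply Subtype.ext
    rw [← hc, ← hc'] at h1 ⊢
    have h2 : IsConj (A.ι c) (A.ι c') := ConjClasses.mk_eq_mk_iff_isConj.mp h1
    exact ConjClasses.mk_eq_mk_iff_isConj.mpr (A.fusion c c' h2)
  have hsurj : Function.Surjective Φ := by
    intro K
    obtain ⟨g₀, hg₀⟩ := ConjClasses.exists_rep K.1
    letI := A.actG
    set f : G → ℕ := fun g => if IsConj g g₀ then 1 else 0 with hf
    have hinv : ∀ (t : T) (g : G), f (t • g) = f g := by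
      intro t g
      show f (A.φ t g) = f g
      obtain ⟨s, hs⟩ := E.through t
      rw [hs]
      simp only [hf]
      have h1 : IsConj (E.φS s g) g₀ ↔ IsConj g g₀ := by
        rw [← ConjClasses.mk_eq_mk_iff_isConj, ← ConjClasses.mk_eq_mk_iff_isConj, hg₀]
        exact E.isConj_φS_iff K.2 s g
      simp only [h1]
    have h1 := sum_modEq_sum_fixed A.pgroup f hinv
    rw [A.sum_fixedPoints_eq f] at h1
    have hL : ∑ g : G, f g = (Finset.univ.filter (fun x : G => IsConj x g₀)).card := by
      simp only [hf]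
      rw [Finset.sum_boole, Nat.cast_id]
    have hnd : ¬ p ∣ ∑ g : G, f g := by
      rw [hL]
      intro hd
      exact A.cop (hd.trans (card_class_dvd g₀))
    have hR : ¬ p ∣ ∑ x : C, f (A.ι x) := by
      intro hd
      apply hnd
      exact (Nat.modEq_zero_iff_dvd.mp (h1.trans (Nat.modEq_zero_iff_dvd.mpr hd)))
    have hex : ∃ c : C, f (A.ι c) ≠ 0 := by
      by_contra hcon
      push Not at hcon
      apply hR
      rw [Finset.sum_eq_zero (fun x _ => hcon x)]
      exact dvd_zero p
    obtain ⟨c, hc⟩ := hex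
    have hc' : IsConj (A.ι c) g₀ := by
      by_contra hcon
      simp only [hf] at hc
      rw [if_neg hcon] at hc
      exact hc rfl
    have hKc : ConjClasses.mk (A.ι c) = K.1 := by
      rw [← hg₀]
      exact ConjClasses.mk_eq_mk_iff_isConj.mpr hc'
    have hLinv : InvClass E.ψS (ConjClasses.mk c) := by
      intro s c' hc''
      have h2 : IsConj c' c := ConjClasses.mk_eq_mk_iff_isConj.mp hc''
      have h3 : IsConj (A.ι c') (A.ι c) := (A.isConj_ι_iff _ _).mpr h2
      have h4 : ConjClasses.mk (A.ι c') = K.1 := by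
        rw [← hKc]
        exact ConjClasses.mk_eq_mk_iff_isConj.mpr h3
      have h5 := K.2 s _ h4
      rw [E.compat, ← hKc] at h5
      have h6 : IsConj (A.ι (E.ψS s c')) (A.ι c) := ConjClasses.mk_eq_mk_iff_isConj.mp h5
      exact ConjClasses.mk_eq_mk_iff_isConj.mpr (A.fusion _ _ h6)
    refine ⟨⟨ConjClasses.mk c, hLinv⟩, ?_⟩
    apply Subtype.ext
    exact hKc
  exact (Nat.card_congr (Equiv.ofBijective Φ ⟨hinj, hsurj⟩)).symm

end PAct

end Cfsg.Agent.Lib.Helper8.GlauP
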