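import Mathlib
import Cfsg.Agent.Lib.Helper8.GlauC3
import Cfsg.Agent.Lib.Helper6.ClassCount
import Cfsg.Agent.Lib.Helper1.MinimalNormal

/-! Counting invariant characters and invariant classes under a coprime solvable action. -/
set_option autoImplicit false

namespace Cfsg.Agent.Lib.Helper8.GlauP

open MulAction Cfsg.Agent.Lib.Helper6
open scoped ComplexConjugate

universe u v

/-- a nontrivial finite solvable group has a nontrivial normal `p`-subgroup -/
theorem exists_normal_pSubgroup (S : Type*) [Group S] [Finite S] [hsol : Group.IsSolvable S]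
    [Nontrivial S] :
    ∃ (p : ℕ) (T : Subgroup S), p.Prime ∧ T.Normal ∧ T ≠ ⊥ ∧ IsPGroup p T := by
  set 𝒩 : Set (Subgroup S) := {N | N.Normal ∧ N ≠ ⊥} with h𝒩
  have hne : 𝒩.Nonempty := ⟨⊤, inferInstance, top_ne_bot⟩
  obtain ⟨N, ⟨hNn, hNne⟩, hmin⟩ :=
    Set.exists_min_image 𝒩 (fun N => Nat.card N) (Set.toFinite _) hne
  haveI := hNn
  have hmin' : ∀ M : Subgroup S, M.Normal → M ≤ N → M = ⊥ ∨ M = N := by
    intro M hMn hMN
    by_cases hM : M = ⊥
    · exact Or.inl hM
    · right
      have := hmin M ⟨hMn, hM⟩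
      exact Subgroup.eq_of_le_of_card_ge hMN this
  obtain ⟨_, p, hp, hexp⟩ := Cfsg.Agent.Lib.Helper1.minimal_normal_of_solvable N hNne hmin'
  refine ⟨p, N, hp, hNn, hNne, ?_⟩
  intro x
  refine ⟨1, ?_⟩
  apply Subtype.ext
  rw [pow_one, Subgroup.coe_pow, Subgroup.coe_one]
  exact hexp x x.2

variable {S : Type*} {G : Type*} [Group S] [Group G]

/-- restriction of an automorphism to an invariant subgroup -/
def restrictAut (H : Subgroup G) (a : MulAut G) (h : ∀ x ∈ H, a x ∈ H)
    (h' : ∀ x ∈ H, a⁻¹ x ∈ H) : MulAut H where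
  toFun x := ⟨a x, h x x.2⟩
  invFun x := ⟨a⁻¹ x, h' x x.2⟩
  left_inv x := by
    apply Subtype.ext
    show a⁻¹ (a x) = x
    rw [MulAut.inv_apply_self]
  right_inv x := by
    apply Subtype.ext
    show a (a⁻¹ x) = x
    rw [MulAut.apply_inv_self]
  map_mul' x y := by
    apply Subtype.ext
    show a ((x : G) * y) = a x * a y
    rw [map_mul]

/-- restriction of an action to an invariant subgroup -/
def restrictHom (φ : S →* MulAut G) (H : Subgroup G) (h : ∀ (s : S), ∀ x ∈ H, φ s x ∈ H) :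
    S →* MulAut H where
  toFun s := restrictAut H (φ s) (h s) (fun x hx => by
    have := h s⁻¹ x hx
    rwa [map_inv] at this)
  map_one' := by
    apply MulEquiv.ext
    intro x
    apply Subtype.ext
    show φ 1 x = x
    rw [map_one, MulAut.one_apply]
  map_mul' s t := by
    apply MulEquiv.ext
    intro x
    apply Subtype.ext
    show φ (s * t) x = φ s (φ t x)
    rw [map_mul, MulAut.mul_apply]

theorem restrictHom_apply (φ : S →* MulAut G) (H : Subgroup G)
    (h : ∀ (s : S), ∀ x ∈ H, φ s x ∈ H) (s : S) (x : H) :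
    ((restrictHom φ H h s x : H) : G) = φ s x := rfl

/-- the fixed points of a subgroup `T` of `S` -/
def fixedSubgroup (φ : S →* MulAut G) (T : Subgroup S) : Subgroup G where
  carrier := {g | ∀ t : T, φ t g = g}
  mul_mem' := by
    intro a b ha hb t
    rw [map_mul, ha t, hb t]
  one_mem' := fun t => map_one _
  inv_mem' := by
    intro a ha t
    rw [map_inv, ha t]

theorem mem_fixedSubgroup (φ : S →* MulAut G) (T : Subgroup S) (g : G) :
    g ∈ fixedSubgroup φ T ↔ ∀ t : T, φ t g = g := Iff.rfl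

theorem fixedSubgroup_stable (φ : S →* MulAut G) (T : Subgroup S) [hT : T.Normal] (s : S) :
    ∀ x ∈ fixedSubgroup φ T, φ s x ∈ fixedSubgroup φ T := by
  intro x hx t
  have h1 : s⁻¹ * (t : S) * s ∈ T := by
    have := hT.conj_mem t.1 t.2 s⁻¹
    rwa [inv_inv] at this
  have h2 := hx ⟨_, h1⟩
  have h3 : φ (t : S) (φ s x) = φ s (φ (s⁻¹ * (t : S) * s) x) := by
    rw [← MulAut.mul_apply, ← MulAut.mul_apply, ← map_mul, ← map_mul]
    congr 2
    group
  rw [h3]
  exact congrArg (φ s) h2

end Cfsg.Agent.Lib.Helper8.GlauP
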