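import Mathlib
import Cfsg.Agent.Lib.Helper8.GlauC4

/-! Counting invariant characters and invariant classes under a coprime solvable action:
the induction. -/
set_option autoImplicit false

namespace Cfsg.Agent.Lib.Helper8.GlauP

open MulAction Cfsg.Agent.Lib.Helper6
open scoped ComplexConjugate

universe u v

/-- Isaacs 13.24: a solvable group acting coprimely fixes equally many irreducible characters and
conjugacy classes. -/
theorem card_invChar_eq_card_invClass (n : ℕ) :
    ∀ (S : Type u) [Group S] [Finite S] (G : Type v) [Group G] [Finite G] (φ : S →* MulAut G),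
      Nat.card S = n → Group.IsSolvable S → (Nat.card G).Coprime (Nat.card S) →
      Nat.card {χ : Cfsg.IrrCharacter G // InvChar φ (χ : G → ℂ)}
        = Nat.card {K : ConjClasses G // InvClass φ K} := by
  induction n using Nat.strong_induction_on with
  | _ n ih =>
  intro S _ _ G _ _ φ hn hsol hcop
  classical
  rcases subsingleton_or_nontrivial S with hS | hS
  · -- trivial group
    have h1 : ∀ s : S, φ s = 1 := by
      intro s
      rw [Subsingleton.elim s 1, map_one]
    have e1 : {χ : Cfsg.IrrCharacter G // InvChar φ (χ : G → ℂ)} ≃ Cfsg.IrrCharacter G :=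
      Equiv.subtypeUnivEquiv (fun χ s g => by rw [h1 s, MulAut.one_apply])
    have e2 : {K : ConjClasses G // InvClass φ K} ≃ ConjClasses G :=
      Equiv.subtypeUnivEquiv (fun K s g hg => by rw [h1 s, MulAut.one_apply]; exact hg)
    rw [Nat.card_congr e1, Nat.card_congr e2, card_irrCharacter]
  · -- nontrivial: pick a normal p-subgroup
    obtain ⟨p, T, hp, hTn, hTne, hTp⟩ := exists_normal_pSubgroup S
    haveI : Fact p.Prime := ⟨hp⟩
    haveI := hTn
    haveI : Fintype G := Fintype.ofFinite G
    have hpT : p ∣ Nat.card T := by
      rcases hTp.card_eq_or_dvd with h | h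
      · exact absurd (Subgroup.eq_bot_of_card_eq T h) hTne
      · exact h
    have hpS : p ∣ Nat.card S := hpT.trans (Subgroup.card_subgroup_dvd_card T)
    have hpG : ¬ p ∣ Nat.card G := by
      intro h
      have h2 := Nat.dvd_gcd h hpS
      rw [Nat.Coprime] at hcop
      rw [hcop] at h2
      exact hp.one_lt.ne' (Nat.dvd_one.mp h2)
    obtain ⟨M, hM⟩ := exists_isPModular p
    set C₁ : Subgroup G := fixedSubgroup φ T with hC₁
    haveI : Fintype C₁ := Fintype.ofFinite _
    let A : PAct p G ↥C₁ ↥T :=
      { φ := φ.comp T.subtype
        ι := C₁.subtype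
        inj := Subtype.val_injective
        fix := by
          intro g
          rw [Subgroup.coe_subtype, Subtype.range_coe]
          exact Iff.rfl
        pgroup := hTp
        cop := hpG }
    set ψ : S →* MulAut ↥C₁ := restrictHom φ C₁ (fixedSubgroup_stable φ T) with hψ
    let E : A.Ext S :=
      { φS := φ
        ψS := ψ
        compat := fun s c => rfl
        through := fun t => ⟨t.1, rfl⟩
        norm := by
          intro s t
          have h1 : s⁻¹ * (t : S) * s ∈ T := by
            have := hTn.conj_mem t.1 t.2 s⁻¹
            rwa [inv_inv] at this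
          refine ⟨⟨_, h1⟩, ?_⟩
          intro g
          show φ (t : S) (φ s g) = φ s (φ (s⁻¹ * (t : S) * s) g)
          rw [← MulAut.mul_apply, ← MulAut.mul_apply, ← map_mul, ← map_mul]
          congr 2
          group }
    have hker : T ≤ ψ.ker := by
      intro t ht
      rw [MonoidHom.mem_ker]
      apply MulEquiv.ext
      intro c
      apply Subtype.ext
      rw [hψ, restrictHom_apply, MulAut.one_apply]
      exact c.2 ⟨t, ht⟩
    set φbar : S ⧸ T →* MulAut ↥C₁ := QuotientGroup.lift T ψ hker with hφbar
    have hbar : ∀ s : S, φbar (QuotientGroup.mk s) = ψ s := fun s => rfl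
    have hchar : Nat.card {χ : Cfsg.IrrCharacter G // InvChar φ (χ : G → ℂ)}
        = Nat.card {β : Cfsg.IrrCharacter ↥C₁ // InvChar φbar (β : ↥C₁ → ℂ)} := by
      rw [E.card_invChar_eq hM]
      apply Nat.card_congr
      apply Equiv.subtypeEquivRight
      intro β
      constructor
      · intro h q c
        obtain ⟨s, rfl⟩ := QuotientGroup.mk_surjective q
        rw [hbar]
        exact h s c
      · intro h s c
        have := h (QuotientGroup.mk s) c
        rwa [hbar] at this
    have hclass : Nat.card {K : ConjClasses G // InvClass φ K}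
        = Nat.card {L : ConjClasses ↥C₁ // InvClass φbar L} := by
      rw [E.card_invClass_eq]
      apply Nat.card_congr
      apply Equiv.subtypeEquivRight
      intro L
      constructor
      · intro h q c hc
        obtain ⟨s, rfl⟩ := QuotientGroup.mk_surjective q
        rw [hbar]
        exact h s c hc
      · intro h s c hc
        have := h (QuotientGroup.mk s) c hc
        rwa [hbar] at this
    rw [hchar, hclass]
    have hcardlt : Nat.card (S ⧸ T) < n := by
      have h1 := Subgroup.card_eq_card_quotient_mul_card_subgroup T
      have h2 : 1 < Nat.card T := (Subgroup.one_lt_card_iff_ne_bot (H := T)).mpr hTne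
      have h3 : 0 < Nat.card (S ⧸ T) := Nat.card_pos
      rw [← hn, h1]
      nlinarith
    have hsolq : Group.IsSolvable (S ⧸ T) := by
      haveI := hsol
      infer_instance
    have hcopq : (Nat.card ↥C₁).Coprime (Nat.card (S ⧸ T)) := by
      apply Nat.Coprime.coprime_dvd_left (Subgroup.card_subgroup_dvd_card C₁)
      apply Nat.Coprime.coprime_dvd_right _ hcop
      rw [Subgroup.card_eq_card_quotient_mul_card_subgroup T]
      exact dvd_mul_right _ _
    exact ih _ hcardlt (S ⧸ T) ↥C₁ φbar rfl hsolq hcopq

end Cfsg.Agent.Lib.Helper8.GlauP
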