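import Mathlib
import Cfsg.Agent.Lib.Helper8.GlauP9

/-! Instantiating the abstract setting for subgroups `G`, `S` of an ambient group. -/
set_option autoImplicit false

namespace Cfsg.Agent.Lib.Helper8.GlauP

open MulAction Cfsg.Agent.Lib.Helper6
open scoped ComplexConjugate

variable {Γ : Type*} [Group Γ]

/-- conjugation by an element normalizing `G`, as an automorphism of `G` -/
def conjAut (G : Subgroup Γ) (s : Γ) (hs : ∀ g ∈ G, s * g * s⁻¹ ∈ G)
    (hs' : ∀ g ∈ G, s⁻¹ * g * s ∈ G) : ↥G ≃* ↥G where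
  toFun g := ⟨s * g * s⁻¹, hs g g.2⟩
  invFun g := ⟨s⁻¹ * g * s, hs' g g.2⟩
  left_inv g := by
    apply Subtype.ext
    show s⁻¹ * (s * g * s⁻¹) * s = g
    group
  right_inv g := by
    apply Subtype.ext
    show s * (s⁻¹ * g * s) * s⁻¹ = g
    group
  map_mul' a b := by
    apply Subtype.ext
    show s * (a * b : Γ) * s⁻¹ = (s * a * s⁻¹) * (s * b * s⁻¹)
    group

/-- the conjugation action of `S` on `G` -/
def conjHom (G S : Subgroup Γ) (hnorm : ∀ s ∈ S, ∀ g ∈ G, s * g * s⁻¹ ∈ G) : ↥S →* MulAut ↥G where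
  toFun s := conjAut G s (hnorm s s.2) (fun g hg => by
    have := hnorm s⁻¹ (S.inv_mem s.2) g hg
    rwa [inv_inv] at this)
  map_one' := by
    apply MulEquiv.ext
    intro g
    apply Subtype.ext
    show ((1 : S) : Γ) * g * ((1 : S) : Γ)⁻¹ = g
    simp
  map_mul' a b := by
    apply MulEquiv.ext
    intro g
    apply Subtype.ext
    show ((a * b : S) : Γ) * g * ((a * b : S) : Γ)⁻¹ = a * (b * g * (b : Γ)⁻¹) * (a : Γ)⁻¹
    rw [Subgroup.coe_mul]
    group

theorem conjHom_apply (G S : Subgroup Γ) (hnorm : ∀ s ∈ S, ∀ g ∈ G, s * g * s⁻¹ ∈ G) (s : S)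
    (g : G) : ((conjHom G S hnorm s g : G) : Γ) = s * g * (s : Γ)⁻¹ := rfl

/-- the `PAct` structure attached to subgroups `G`, `S`, `C` -/
def PAct.ofSubgroups {p : ℕ} (G S C : Subgroup Γ) (hnorm : ∀ s ∈ S, ∀ g ∈ G, s * g * s⁻¹ ∈ G)
    (hC : C = G ⊓ Subgroup.centralizer (S : Set Γ)) (hCG : C ≤ G) (hS : IsPGroup p S)
    (hpG : ¬ p ∣ Nat.card G) : PAct p ↥G ↥C ↥S where
  φ := conjHom G S hnorm
  ι := Subgroup.inclusion hCG
  inj := Subgroup.inclusion_injective hCG
  fix := by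
    intro g
    constructor
    · intro h
      have hgC : (g : Γ) ∈ C := by
        rw [hC, Subgroup.mem_inf]
        refine ⟨g.2, ?_⟩
        rw [Subgroup.mem_centralizer_iff]
        intro s hs
        have h1 := congrArg Subtype.val (h ⟨s, hs⟩)
        rw [conjHom_apply] at h1
        have h2 : s * (g : Γ) = s * (g : Γ) * s⁻¹ * s := by group
        rw [h2]
        exact congrArg (· * s) h1
      exact ⟨⟨g, hgC⟩, rfl⟩
    · rintro ⟨c, rfl⟩ s
      apply Subtype.ext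
      rw [conjHom_apply]
      have hc : (c : Γ) ∈ Subgroup.centralizer (S : Set Γ) := by
        have h0 : (c : Γ) ∈ G ⊓ Subgroup.centralizer (S : Set Γ) := hC ▸ c.2
        exact (Subgroup.mem_inf.mp h0).2
      rw [Subgroup.mem_centralizer_iff] at hc
      have h1 := hc s s.2
      show (s : Γ) * c * (s : Γ)⁻¹ = c
      rw [h1]
      group
  pgroup := hS
  cop := hpG

theorem PAct.ofSubgroups_inv_iff {p : ℕ} (G S C : Subgroup Γ)
    (hnorm : ∀ s ∈ S, ∀ g ∈ G, s * g * s⁻¹ ∈ G)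
    (hC : C = G ⊓ Subgroup.centralizer (S : Set Γ)) (hCG : C ≤ G) (hS : IsPGroup p S)
    (hpG : ¬ p ∣ Nat.card G) (χ : G → ℂ) :
    (PAct.ofSubgroups G S C hnorm hC hCG hS hpG).Inv χ ↔
      ∀ s ∈ S, ∀ g g' : G, (g' : Γ) = s * g * s⁻¹ → χ g' = χ g := by
  constructor
  · intro h s hs g g' hg'
    have := h ⟨s, hs⟩ g
    have h2 : (PAct.ofSubgroups G S C hnorm hC hCG hS hpG).φ ⟨s, hs⟩ g = g' := by
      apply Subtype.ext
      rw [hg']
      rfl
    rw [h2] at this
    exact this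
  · intro h s g
    exact h s s.2 g _ rfl

end Cfsg.Agent.Lib.Helper8.GlauP
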