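import Mathlib

/-! `π`-parts and `π'`-parts of elements of finite groups. -/
set_option autoImplicit false

namespace Cfsg.Agent.Lib.Helper8.KPi

/-- `x` is a `π`-element -/
def IsPi (π : Set ℕ) {G : Type*} [Monoid G] (x : G) : Prop :=
  ∀ q : ℕ, q.Prime → q ∣ orderOf x → q ∈ π

theorem exists_pi_factor (π : Set ℕ) : ∀ n : ℕ, 0 < n → ∃ a b : ℕ, n = a * b ∧
    (∀ q : ℕ, q.Prime → q ∣ a → q ∈ π) ∧ (∀ q : ℕ, q.Prime → q ∣ b → q ∉ π) := by
  intro n
  induction n using Nat.strong_induction_on with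
  | _ n ih =>
    intro hn
    by_cases h1 : n = 1
    · refine ⟨1, 1, by rw [h1], ?_, ?_⟩
      · intro q hq hd; exact absurd (Nat.dvd_one.mp hd) hq.ne_one
      · intro q hq hd; exact absurd (Nat.dvd_one.mp hd) hq.ne_one
    · obtain ⟨r, hr, hrn⟩ := Nat.exists_prime_and_dvd h1
      obtain ⟨k, n', hn', hnk⟩ := Nat.exists_eq_pow_mul_and_not_dvd hn.ne' r hr.ne_one
      have hk0 : k ≠ 0 := by
        rintro rfl
        rw [pow_zero, one_mul] at hnk
        exact hn' (hnk ▸ hrn)
      have hn'pos : 0 < n' := by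
        rcases Nat.eq_zero_or_pos n' with h | h
        · rw [h, mul_zero] at hnk; omega
        · exact h
      have hlt : n' < n := by
        rw [hnk]
        have : 2 ≤ r ^ k := by
          calc 2 ≤ r := hr.two_le
            _ = r ^ 1 := (pow_one r).symm
            _ ≤ r ^ k := Nat.pow_le_pow_right hr.pos (by omega)
        nlinarith
      obtain ⟨a, b, hab, ha, hb⟩ := ih n' hlt hn'pos
      by_cases hrπ : r ∈ π
      · refine ⟨r ^ k * a, b, by rw [hnk, hab]; ring, ?_, hb⟩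
        intro q hq hd
        rcases (Nat.Prime.dvd_mul hq).mp hd with h | h
        · rw [(Nat.prime_dvd_prime_iff_eq hq hr).mp (hq.dvd_of_dvd_pow h)]; exact hrπ
        · exact ha q hq h
      · refine ⟨a, r ^ k * b, by rw [hnk, hab]; ring, ha, ?_⟩
        intro q hq hd
        rcases (Nat.Prime.dvd_mul hq).mp hd with h | h
        · rw [(Nat.prime_dvd_prime_iff_eq hq hr).mp (hq.dvd_of_dvd_pow h)]; exact hrπ
        · exact hb q hq h

variable {G : Type*} [Group G]

theorem IsPi.mul {π : Set ℕ} {u v : G} (hu : IsPi π u) (hv : IsPi π v) (h : Commute u v) :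
    IsPi π (u * v) := by
  intro q hq hd
  have h1 : q ∣ orderOf u * orderOf v :=
    (hd.trans h.orderOf_mul_dvd_lcm).trans (Nat.lcm_dvd_mul _ _)
  rcases (Nat.Prime.dvd_mul hq).mp h1 with h2 | h2
  · exact hu q hq h2
  · exact hv q hq h2

theorem IsPi.inv {π : Set ℕ} {u : G} (hu : IsPi π u) : IsPi π u⁻¹ := by
  intro q hq hd
  rw [orderOf_inv] at hd
  exact hu q hq hd

theorem isPi_one (π : Set ℕ) : IsPi π (1 : G) := by
  intro q hq hd
  rw [orderOf_one] at hd
  exact absurd (Nat.dvd_one.mp hd) hq.ne_one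

theorem IsPi.eq_one_of_compl {π : Set ℕ} {z : G} (h1 : IsPi π z) (h2 : IsPi πᶜ z) : z = 1 := by
  rw [← orderOf_eq_one_iff]
  by_contra hne
  obtain ⟨q, hq, hd⟩ := Nat.exists_prime_and_dvd hne
  exact h2 q hq hd (h1 q hq hd)

theorem IsPi.pow {π : Set ℕ} {u : G} (hu : IsPi π u) (k : ℕ) : IsPi π (u ^ k) := by
  intro q hq hd
  exact hu q hq (hd.trans (orderOf_pow_dvd k))

theorem IsPi.zpow {π : Set ℕ} {u : G} (hu : IsPi π u) (k : ℤ) : IsPi π (u ^ k) := by
  obtain ⟨n, rfl | rfl⟩ := k.eq_nat_or_neg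
  · rw [zpow_natCast]; exact hu.pow n
  · rw [zpow_neg, zpow_natCast]; exact (hu.pow n).inv

theorem isPi_conj {π : Set ℕ} {u : G} (g : G) : IsPi π (g * u * g⁻¹) ↔ IsPi π u := by
  have : orderOf (g * u * g⁻¹) = orderOf u := (MulAut.conj g).orderOf_eq u
  unfold IsPi
  rw [this]

theorem exists_parts [Finite G] (π : Set ℕ) (x : G) : ∃ u v : G, u ∈ Subgroup.zpowers x ∧
    v ∈ Subgroup.zpowers x ∧ u * v = x ∧ IsPi π u ∧ IsPi πᶜ v := by
  obtain ⟨a, b, hab, ha, hb⟩ := exists_pi_factor π (orderOf x) (orderOf_pos x)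
  have co : Nat.Coprime a b := by
    by_contra hnc
    obtain ⟨q, hq, hqa, hqb⟩ := Nat.Prime.not_coprime_iff_dvd.mp hnc
    exact hb q hq hqb (ha q hq hqa)
  obtain ⟨e, he1, he0⟩ := Nat.chineseRemainder co 1 0
  obtain ⟨f, hf0, hf1⟩ := Nat.chineseRemainder co 0 1
  have hbe : b ∣ e := Nat.modEq_zero_iff_dvd.mp he0
  have haf : a ∣ f := Nat.modEq_zero_iff_dvd.mp hf0
  refine ⟨x ^ e, x ^ f, Subgroup.pow_mem _ (Subgroup.mem_zpowers x) _,
    Subgroup.pow_mem _ (Subgroup.mem_zpowers x) _, ?_, ?_, ?_⟩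
  · rw [← pow_add]
    have h1 : e + f ≡ 1 [MOD a * b] := by
      rw [← Nat.modEq_and_modEq_iff_modEq_mul co]
      exact ⟨by simpa using he1.add hf0, by simpa using he0.add hf1⟩
    rw [← hab] at h1
    have := (pow_eq_pow_iff_modEq (x := x)).mpr h1
    rw [this, pow_one]
  · have h1 : (x ^ e) ^ a = 1 := by
      rw [← pow_mul]
      obtain ⟨t, rfl⟩ := hbe
      have : b * t * a = orderOf x * t := by rw [hab]; ring
      rw [this, pow_mul, pow_orderOf_eq_one, one_pow]
    intro q hq hd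
    exact ha q hq (hd.trans (orderOf_dvd_of_pow_eq_one h1))
  · have h1 : (x ^ f) ^ b = 1 := by
      rw [← pow_mul]
      obtain ⟨t, rfl⟩ := haf
      have : a * t * b = orderOf x * t := by rw [hab]; ring
      rw [this, pow_mul, pow_orderOf_eq_one, one_pow]
    intro q hq hd
    exact hb q hq (hd.trans (orderOf_dvd_of_pow_eq_one h1))

/-- the `π`-part -/
noncomputable def pp [Finite G] (π : Set ℕ) (x : G) : G := (exists_parts π x).choose

/-- the `π'`-part -/
noncomputable def qp [Finite G] (π : Set ℕ) (x : G) : G := (exists_parts π x).choose_spec.choose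

theorem pp_mem [Finite G] (π : Set ℕ) (x : G) : pp π x ∈ Subgroup.zpowers x :=
  (exists_parts π x).choose_spec.choose_spec.1

theorem qp_mem [Finite G] (π : Set ℕ) (x : G) : qp π x ∈ Subgroup.zpowers x :=
  (exists_parts π x).choose_spec.choose_spec.2.1

theorem pp_mul_qp [Finite G] (π : Set ℕ) (x : G) : pp π x * qp π x = x :=
  (exists_parts π x).choose_spec.choose_spec.2.2.1

theorem isPi_pp [Finite G] (π : Set ℕ) (x : G) : IsPi π (pp π x) :=
  (exists_parts π x).choose_spec.choose_spec.2.2.2.1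

theorem isPi_qp [Finite G] (π : Set ℕ) (x : G) : IsPi πᶜ (qp π x) :=
  (exists_parts π x).choose_spec.choose_spec.2.2.2.2

theorem commute_of_mem_zpowers {x y a b : G} (h : Commute x y) (ha : a ∈ Subgroup.zpowers x)
    (hb : b ∈ Subgroup.zpowers y) : Commute a b := by
  obtain ⟨i, rfl⟩ := Subgroup.mem_zpowers_iff.mp ha
  obtain ⟨j, rfl⟩ := Subgroup.mem_zpowers_iff.mp hb
  exact (h.zpow_left i).zpow_right j

/-- uniqueness of the decomposition -/
theorem parts_unique [Finite G] (π : Set ℕ) {u v : G} (h : Commute u v) (hu : IsPi π u)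
    (hv : IsPi πᶜ v) : pp π (u * v) = u ∧ qp π (u * v) = v := by
  set x := u * v with hx
  have hux : Commute u x := by rw [hx]; exact (Commute.refl u).mul_right h
  have hvx : Commute v x := by rw [hx]; exact h.symm.mul_right (Commute.refl v)
  have hpq : Commute (pp π x) (qp π x) :=
    commute_of_mem_zpowers (Commute.refl x) (pp_mem π x) (qp_mem π x)
  have hup : Commute u (pp π x) :=
    commute_of_mem_zpowers hux (Subgroup.mem_zpowers u) (pp_mem π x)
  have huq : Commute u (qp π x) :=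
    commute_of_mem_zpowers hux (Subgroup.mem_zpowers u) (qp_mem π x)
  have hvp : Commute v (pp π x) :=
    commute_of_mem_zpowers hvx (Subgroup.mem_zpowers v) (pp_mem π x)
  have hvq : Commute v (qp π x) :=
    commute_of_mem_zpowers hvx (Subgroup.mem_zpowers v) (qp_mem π x)
  have hmul := pp_mul_qp π x
  -- `(pp x)⁻¹ * u = qp x * v⁻¹`
  have heq : (pp π x)⁻¹ * u = qp π x * v⁻¹ := by
    have h1 : pp π x * qp π x = u * v := hmul
    calc (pp π x)⁻¹ * u = (pp π x)⁻¹ * (u * v) * v⁻¹ := by group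
      _ = (pp π x)⁻¹ * (pp π x * qp π x) * v⁻¹ := by rw [h1]
      _ = qp π x * v⁻¹ := by group
  have h1 : IsPi π ((pp π x)⁻¹ * u) := (isPi_pp π x).inv.mul hu (hup.symm.inv_left)
  have h2 : IsPi πᶜ (qp π x * v⁻¹) := (isPi_qp π x).mul hv.inv (hvq.symm.inv_right)
  have h3 : (pp π x)⁻¹ * u = 1 := IsPi.eq_one_of_compl h1 (heq ▸ h2)
  have h4 : qp π x * v⁻¹ = 1 := by rw [← heq, h3]
  constructor
  · exact (inv_mul_eq_one.mp h3)
  · exact mul_inv_eq_one.mp h4

theorem isPi_iff_qp_eq_one [Finite G] (π : Set ℕ) (x : G) : IsPi π x ↔ qp π x = 1 := by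
  constructor
  · intro hx
    have := parts_unique π (Commute.one_right x) hx (isPi_one πᶜ)
    rw [mul_one] at this
    exact this.2
  · intro h
    have := pp_mul_qp π x
    rw [h, mul_one] at this
    rw [← this]
    exact isPi_pp π x

end Cfsg.Agent.Lib.Helper8.KPi
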