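import Mathlib
import Cfsg.Agent.Lib.Helper7.Generation
set_option autoImplicit false
set_option linter.style.haveILetI false

/-! The diagonal of a cyclic orbit of pairwise commuting conjugates of a subgroup. -/

namespace Cfsg.Agent.Lib.Helper8.CompCent

variable {G : Type*} [Group G]

/-- Reindexing a non-commutative product over a finite type by a permutation. -/
theorem noncommProd_univ_equiv {ι : Type*} [Fintype ι] (σ : ι ≃ ι) (f : ι → G)
    (comm : ((Finset.univ : Finset ι) : Set ι).Pairwise (Function.onFun Commute f))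
    (comm' : ((Finset.univ : Finset ι) : Set ι).Pairwise
      (Function.onFun Commute fun i => f (σ i))) :
    Finset.univ.noncommProd (fun i => f (σ i)) comm' = Finset.univ.noncommProd f comm := by
  unfold Finset.noncommProd
  have h : Multiset.map (fun i => f (σ i)) (Finset.univ : Finset ι).val =
      Multiset.map f (Finset.univ : Finset ι).val := by
    change Multiset.map (f ∘ σ) _ = _
    rw [← Multiset.map_map f σ, Multiset.map_univ_val_equiv]
  congr 1

variable {p : ℕ} [Fact p.Prime]

/-- Conjugation by `x ^ i` restricted to `L`. -/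
def cj (p : ℕ) (x : G) (L : Subgroup G) (i : ZMod p) : ↥L →* G :=
  (MulAut.conj (x ^ i.val)).toMonoidHom.comp L.subtype

omit [Fact p.Prime] in
theorem cj_apply (x : G) (L : Subgroup G) (i : ZMod p) (l : ↥L) :
    cj p x L i l = x ^ i.val * (l : G) * (x ^ i.val)⁻¹ := rfl

/-- The conjugates of `L` under different powers of `x` commute elementwise. -/
def Comm (p : ℕ) (x : G) (L : Subgroup G) : Prop :=
  ∀ i j : ZMod p, i ≠ j → ∀ a b : ↥L, Commute (cj p x L i a) (cj p x L j b)

omit [Fact p.Prime] in
theorem Comm.pairwise {x : G} {L : Subgroup G} (h : Comm p x L) :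
    Pairwise fun i j : ZMod p => ∀ a b : ↥L, Commute (cj p x L i a) (cj p x L j b) :=
  fun i j hij => h i j hij

omit [Fact p.Prime] in
theorem Comm.pw {x : G} {L : Subgroup G} (h : Comm p x L) (l : ↥L) (s : Finset (ZMod p)) :
    (s : Set (ZMod p)).Pairwise (Function.onFun Commute fun i => cj p x L i l) :=
  fun i _ j _ hij => h i j hij l l

/-- The diagonal homomorphism `l ↦ ∏ i, x ^ i * l * x ^ (-i)`. -/
noncomputable def diag {x : G} {L : Subgroup G} (h : Comm p x L) : ↥L →* G :=
  (MonoidHom.noncommPiCoprod (cj p x L) h.pairwise).comp (MonoidHom.pi fun _ => MonoidHom.id ↥L)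

theorem diag_apply {x : G} {L : Subgroup G} (h : Comm p x L) (l : ↥L) :
    diag h l = Finset.univ.noncommProd (fun i => cj p x L i l) (h.pw l _) := by
  unfold diag
  rw [MonoidHom.comp_apply]
  exact MonoidHom.noncommPiCoprod_apply (cj p x L) _

/-- The diagonal is centralized by `x`. -/
theorem conj_diag {x : G} {L : Subgroup G} (hx : x ^ p = 1) (h : Comm p x L) (l : ↥L) :
    x * diag h l * x⁻¹ = diag h l := by
  have e1 : x * diag h l * x⁻¹ = (MulAut.conj x).toMonoidHom (diag h l) := by
    simp [MulAut.conj_apply]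
  have e2 : ∀ i : ZMod p, (MulAut.conj x).toMonoidHom (cj p x L i l) = cj p x L (i + 1) l := by
    intro i
    rw [cj_apply, cj_apply, Cfsg.Agent.Lib.Helper7.pow_val_add hx,
      Cfsg.Agent.Lib.Helper7.pow_val_one]
    simp only [MulEquiv.coe_toMonoidHom, MulAut.conj_apply]
    have hc : Commute (x ^ i.val) x := (Commute.refl x).pow_left _
    rw [hc.eq]
    group
  rw [e1, diag_apply]
  refine (Finset.map_noncommProd Finset.univ (fun i => cj p x L i l) (h.pw l _)
    (MulAut.conj x).toMonoidHom).trans ?_
  refine (Finset.noncommProd_congr rfl (fun i _ => e2 i) _).trans ?_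
  exact noncommProd_univ_equiv (Equiv.addRight (1 : ZMod p)) (fun i => cj p x L i l) _ _

/-- Conjugation by an element commuting with `x` and normalizing `L`. -/
theorem conj_diag_of_commute {x : G} {L : Subgroup G} (h : Comm p x L) {g : G}
    (hgx : Commute g x) (l : ↥L) (hgl : g * (l : G) * g⁻¹ ∈ L) :
    g * diag h l * g⁻¹ = diag h ⟨g * (l : G) * g⁻¹, hgl⟩ := by
  have e1 : g * diag h l * g⁻¹ = (MulAut.conj g).toMonoidHom (diag h l) := by
    simp [MulAut.conj_apply]
  rw [e1, diag_apply, diag_apply]
  refine (Finset.map_noncommProd Finset.univ (fun i => cj p x L i l) (h.pw l _)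
    (MulAut.conj g).toMonoidHom).trans ?_
  apply Finset.noncommProd_congr rfl
  intro i _
  rw [cj_apply, cj_apply]
  simp only [MulEquiv.coe_toMonoidHom, MulAut.conj_apply]
  have hc : Commute g (x ^ i.val) := hgx.pow_right _
  have hc' : Commute g⁻¹ (x ^ i.val)⁻¹ := (hc.inv_left).inv_right
  calc g * (x ^ i.val * ↑l * (x ^ i.val)⁻¹) * g⁻¹
      = (g * x ^ i.val) * ↑l * ((x ^ i.val)⁻¹ * g⁻¹) := by group
    _ = (x ^ i.val * g) * ↑l * (g⁻¹ * (x ^ i.val)⁻¹) := by rw [hc.eq, hc'.eq]
    _ = x ^ i.val * (g * ↑l * g⁻¹) * (x ^ i.val)⁻¹ := by group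

/-- The diagonal element is `l` times something commuting with `L`. -/
theorem diag_eq_mul {x : G} {L : Subgroup G} (h : Comm p x L) (l : ↥L) :
    ∃ r : G, diag h l = (l : G) * r ∧ ∀ l' ∈ L, Commute l' r := by
  classical
  refine ⟨(Finset.univ.erase (0 : ZMod p)).noncommProd (fun i => cj p x L i l) (h.pw l _),
    ?_, ?_⟩
  · rw [diag_apply]
    have e := Finset.mul_noncommProd_erase Finset.univ (Finset.mem_univ (0 : ZMod p))
      (fun i => cj p x L i l) (h.pw l _)
    rw [← e]
    congr 1
    rw [cj_apply]
    simp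
  · intro l' hl'
    apply Finset.noncommProd_commute
    intro i hi
    have hi0 : (0 : ZMod p) ≠ i := (Finset.ne_of_mem_erase hi).symm
    have := h 0 i hi0 ⟨l', hl'⟩ l
    rw [cj_apply] at this
    simpa using this

/-- Anything commuting with all the conjugates commutes with the diagonal. -/
theorem commute_diag {x : G} {L : Subgroup G} (h : Comm p x L) (l : ↥L) {m : G}
    (hm : ∀ i : ZMod p, Commute m (cj p x L i l)) : Commute m (diag h l) := by
  rw [diag_apply]
  apply Finset.noncommProd_commute
  intro i _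
  exact hm i

end Cfsg.Agent.Lib.Helper8.CompCent
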