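import Mathlib
import Cfsg.Prelude.Def_Local
import Cfsg.Agent.Lib.Helper1.PLengthOne
set_option autoImplicit false
set_option linter.style.haveILetI false

namespace Cfsg.Agent.Lib.Helper8.CoreIn

open Cfsg

variable {G : Type*} [Group G]

/-- `O_{p'}(H)` as a subgroup of the ambient group. -/
def coreIn (p : ℕ) (H : Subgroup G) : Subgroup G := (pPrimeCore p ↥H).map H.subtype

theorem coreIn_le (p : ℕ) (H : Subgroup G) : coreIn p H ≤ H := by
  rintro _ ⟨z, _, rfl⟩
  exact z.2

theorem coreIn_card_coprime [Finite G] (p : ℕ) (H : Subgroup G) :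
    (Nat.card ↥(coreIn p H)).Coprime p := by
  unfold coreIn
  rw [Subgroup.card_map_of_injective (Subgroup.subtype_injective _)]
  exact Cfsg.Agent.Lib.Helper1.pPrimeCore_card_coprime p

theorem le_coreIn {p : ℕ} {H D : Subgroup G} (hDH : D ≤ H)
    (hn : H ≤ Subgroup.normalizer (D : Set G)) (hc : (Nat.card ↥D).Coprime p) :
    D ≤ coreIn p H := by
  have hnorm : (D.subgroupOf H).Normal := Subgroup.normal_subgroupOf_of_le_normalizer hn
  have hcard : (Nat.card ↥(D.subgroupOf H)).Coprime p := by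
    have : Nat.card ↥(D.subgroupOf H) = Nat.card ↥D :=
      Nat.card_congr (Subgroup.subgroupOfEquivOfLe hDH).toEquiv
    rw [this]; exact hc
  have h1 := Cfsg.Agent.Lib.Helper1.le_pPrimeCore hnorm hcard
  intro r hr
  exact ⟨⟨r, hDH hr⟩, h1 (Subgroup.mem_subgroupOf.mpr hr), rfl⟩

theorem le_normalizer_coreIn (p : ℕ) (H : Subgroup G) :
    H ≤ Subgroup.normalizer (coreIn p H : Set G) := by
  have key : ∀ g ∈ H, ∀ z ∈ coreIn p H, g * z * g⁻¹ ∈ coreIn p H := by
    intro g hg z hz
    obtain ⟨w, hw, rfl⟩ := hz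
    refine ⟨⟨g, hg⟩ * w * ⟨g, hg⟩⁻¹, ?_, rfl⟩
    exact (Cfsg.pPrimeCore_normal p ↥H).conj_mem w hw ⟨g, hg⟩
  intro g hg
  rw [Subgroup.mem_normalizer_iff]
  intro z
  constructor
  · exact key g hg z
  · intro h
    have := key g⁻¹ (H.inv_mem hg) _ h
    simpa [mul_assoc] using this

/-- Transport along an automorphism of the ambient group. -/
theorem coreIn_map_le [Finite G] (p : ℕ) (φ : G ≃* G) (H : Subgroup G) :
    (coreIn p H).map φ.toMonoidHom ≤ coreIn p (H.map φ.toMonoidHom) := by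
  apply le_coreIn
  · exact Subgroup.map_mono (coreIn_le p H)
  · rintro _ ⟨h, hh, rfl⟩
    exact Subgroup.le_normalizer_map _ ⟨h, le_normalizer_coreIn p H hh, rfl⟩
  · rw [Subgroup.card_map_of_injective φ.injective]
    exact coreIn_card_coprime p H

theorem coreIn_map [Finite G] (p : ℕ) (φ : G ≃* G) (H : Subgroup G) :
    coreIn p (H.map φ.toMonoidHom) = (coreIn p H).map φ.toMonoidHom := by
  apply le_antisymm _ (coreIn_map_le p φ H)
  have h := coreIn_map_le p φ.symm (H.map φ.toMonoidHom)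
  have h2 : (H.map φ.toMonoidHom).map φ.symm.toMonoidHom = H := by
    rw [Subgroup.map_map]
    have : φ.symm.toMonoidHom.comp φ.toMonoidHom = MonoidHom.id G := by
      ext x; simp
    rw [this, Subgroup.map_id]
  rw [h2] at h
  intro x hx
  refine ⟨φ.symm x, h ⟨x, hx, rfl⟩, ?_⟩
  simp

theorem normalizer_le_normalizer_coreIn [Finite G] (p : ℕ) (H : Subgroup G) :
    Subgroup.normalizer (H : Set G) ≤ Subgroup.normalizer (coreIn p H : Set G) := by
  intro g hg
  rw [Subgroup.mem_normalizer_iff_map_conj_eq] at hg ⊢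
  have h := coreIn_map p (MulAut.conj g) H
  have hg' : H.map (MulAut.conj g).toMonoidHom = H := hg
  rw [hg'] at h
  exact h.symm

end Cfsg.Agent.Lib.Helper8.CoreIn
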