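import Mathlib
import Cfsg.Prelude.Def_Local
import Cfsg.Agent.Lib.Helper2.Radical
import Cfsg.Agent.Lib.Helper2.Components3
import Cfsg.Agent.Lib.Helper1.PLengthOne
set_option autoImplicit false
set_option linter.style.haveILetI false

namespace Cfsg.Agent.Lib.Helper8.PComp

open Cfsg

universe u

/-- Subnormal `p'`-subgroups lie in `O_{p'}`. -/
theorem le_pPrimeCore_of_isSubnormal {X : Type u} [Group X] [Finite X] (p : ℕ) {H : Subgroup X}
    (hH : H.IsSubnormal) (hc : (Nat.card ↥H).Coprime p) : H ≤ pPrimeCore p X := by
  have := Cfsg.Agent.Lib.Helper2.subnormal_le_radical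
    (fun (Y : Type u) [Group Y] => (Nat.card Y).Coprime p)
    (fun Y Z _ _ e h => by rw [← Nat.card_congr e.toEquiv]; exact h)
    (fun Y _ _ A B hA hB hA' hB' => by
      haveI := hB
      exact Nat.Coprime.coprime_dvd_left (Cfsg.Agent.Lib.Helper2.card_sup_dvd A B)
        (Nat.Coprime.mul_left hA' hB'))
    (fun Y _ => by simp)
    H hH hc
  exact this

variable {X : Type*} [Group X]

/-- A finite perfect group whose centre has index prime to `p` has order prime to `p`. -/
theorem card_coprime_of_perfect_of_center_index [Finite X] (hperf : Group.IsPerfect X) (p : ℕ)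
    [hp : Fact p.Prime] (h : (Subgroup.center X).index.Coprime p) : (Nat.card X).Coprime p := by
  have h1 : ∀ g : X, g ^ (Subgroup.center X).index = 1 := by
    intro g
    have := Cfsg.Agent.Lib.Helper2.hom_eq_one_of_isPerfect hperf
      (fun a b : Subgroup.center X => Subtype.ext (b.2.comm a.1).symm)
      (MonoidHom.transferCenterPow X) g
    have h2 := congrArg Subtype.val this
    simpa using h2
  rw [Nat.coprime_comm, Nat.Prime.coprime_iff_not_dvd hp.out]
  intro hdvd
  obtain ⟨g, hg⟩ := exists_prime_orderOf_dvd_card' p hdvd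
  have h3 : orderOf g ∣ (Subgroup.center X).index := orderOf_dvd_of_pow_eq_one (h1 g)
  rw [hg] at h3
  have := Nat.eq_one_of_dvd_coprimes h h3 (dvd_refl p)
  exact hp.out.one_lt.ne' this

/-- A subnormal subgroup of a quasisimple group is everything or central. -/
theorem isSubnormal_eq_top_or_le_center {Q : Type*} [Group Q] (hQ : IsQuasisimple Q)
    {H : Subgroup Q} (hH : H.IsSubnormal) : H = ⊤ ∨ H ≤ Subgroup.center Q := by
  induction hH with
  | top => exact Or.inl rfl
  | step U K hUK hK hnorm ih =>
    rcases ih with h | h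
    · subst h
      have : U.Normal := by
        have h1 : Subgroup.normalizer (U : Set Q) = ⊤ := by
          rw [eq_top_iff]
          exact (Subgroup.normal_subgroupOf_iff_le_normalizer hUK).1 hnorm
        exact Subgroup.normalizer_eq_top_iff.1 h1
      exact Cfsg.Agent.Lib.Helper2.isQuasisimple_normal_eq_top_or_le_center hQ U
    · exact Or.inr (hUK.trans h)

/-- A perfect subgroup contained in the centre of an overgroup is trivial. -/
theorem eq_bot_of_perfect_of_commutator_eq_bot {H : Subgroup X} (hperf : ⁅H, H⁆ = H)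
    (h : ⁅H, H⁆ = ⊥) : H = ⊥ := by
  rw [← hperf, h]

end Cfsg.Agent.Lib.Helper8.PComp
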