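import Mathlib
import Cfsg.Prelude.Def_Local
import Cfsg.Agent.Lib.Helper8.Layer

set_option autoImplicit false
set_option linter.style.haveILetI false

namespace Cfsg.Agent.Lib.Helper8

open Cfsg

variable {G : Type*} [Group G]

/-- The derived series of a subgroup, computed inside the ambient group. -/
def dser (H : Subgroup G) : ℕ → Subgroup G
  | 0 => H
  | n + 1 => ⁅dser H n, dser H n⁆

@[simp] theorem dser_zero (H : Subgroup G) : dser H 0 = H := rfl

theorem dser_succ (H : Subgroup G) (n : ℕ) : dser H (n + 1) = ⁅dser H n, dser H n⁆ := rfl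

theorem map_derivedSeries (H : Subgroup G) (n : ℕ) :
    (derivedSeries ↥H n).map H.subtype = dser H n := by
  induction n with
  | zero =>
    rw [derivedSeries_zero, dser_zero, ← MonoidHom.range_eq_map, Subgroup.range_subtype]
  | succ n ih =>
    rw [derivedSeries_succ, Subgroup.map_commutator, ih, dser_succ]

theorem dser_mono {H K : Subgroup G} (h : H ≤ K) (n : ℕ) : dser H n ≤ dser K n := by
  induction n with
  | zero => exact h
  | succ n ih => exact Subgroup.commutator_mono ih ih

theorem dser_normal (H : Subgroup G) [hH : H.Normal] (n : ℕ) : (dser H n).Normal := by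
  induction n with
  | zero => exact hH
  | succ n ih =>
    haveI := ih
    rw [dser_succ]
    infer_instance

theorem dser_le (H : Subgroup G) [hH : H.Normal] (n : ℕ) : dser H n ≤ H := by
  induction n with
  | zero => exact le_rfl
  | succ n ih =>
    haveI := dser_normal H n
    rw [dser_succ]
    exact (Subgroup.commutator_le_left _ _).trans ih

theorem dser_perfect {H : Subgroup G} (h : ⁅H, H⁆ = H) (n : ℕ) : dser H n = H := by
  induction n with
  | zero => rfl
  | succ n ih => rw [dser_succ, ih, h]

theorem dser_sup_le (E A : Subgroup G) [hE : E.Normal] [hA : A.Normal] (n : ℕ) :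
    dser (E ⊔ A) n ≤ E ⊔ dser A n := by
  induction n with
  | zero => exact le_rfl
  | succ n ih =>
    haveI := dser_normal A n
    haveI := dser_normal A (n + 1)
    rw [dser_succ]
    refine (Subgroup.commutator_mono ih ih).trans ?_
    apply Cfsg.Agent.Lib.Helper2.commutator_sup_le
    · exact (Subgroup.commutator_le_left _ _).trans le_sup_left
    · apply Cfsg.Agent.Lib.Helper2.commutator_sup_le'
      · exact (Subgroup.commutator_le_right _ _).trans le_sup_left
      · rw [dser_succ]; exact le_sup_right

theorem exists_dser_eq_bot (H : Subgroup G) (hH : Group.IsSolvable ↥H) : ∃ n, dser H n = ⊥ := by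
  obtain ⟨n, hn⟩ := hH
  refine ⟨n, ?_⟩
  rw [← map_derivedSeries, hn, Subgroup.map_bot]

/-- The layer is perfect. -/
theorem layer_perfect : ⁅layer G, layer G⁆ = layer G := by
  haveI : (layer G).Normal := Cfsg.Agent.Lib.Helper2.layer_normal
  apply le_antisymm (Subgroup.commutator_le_left _ _)
  conv_lhs => unfold layer
  apply sSup_le
  intro L hL
  have h1 := Cfsg.Agent.Lib.Helper2.isComponent_perfect hL
  have h2 := Cfsg.Agent.Lib.Helper2.le_layer hL
  calc L = ⁅L, L⁆ := h1.symm
    _ ≤ ⁅layer G, layer G⁆ := Subgroup.commutator_mono h2 h2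

end Cfsg.Agent.Lib.Helper8
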