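import Mathlib

set_option autoImplicit false
set_option linter.style.haveILetI false

namespace Cfsg.Agent.Lib.Helper8

/-- A group in which all elements commute is nilpotent. -/
theorem isNilpotent_of_forall_comm {H : Type*} [Group H] (h : ∀ a b : H, a * b = b * a) :
    Group.IsNilpotent H := by
  letI : CommGroup H := { (inferInstance : Group H) with mul_comm := h }
  infer_instance

/-- A subgroup all of whose elements commute is nilpotent. -/
theorem isNilpotent_subgroup_of_comm {G : Type*} [Group G] (A : Subgroup G)
    (h : ∀ a ∈ A, ∀ b ∈ A, a * b = b * a) : Group.IsNilpotent ↥A :=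
  isNilpotent_of_forall_comm (fun a b => Subtype.ext (h a a.2 b b.2))

end Cfsg.Agent.Lib.Helper8
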