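import Mathlib
import Cfsg.Prelude.Def_Local
import Cfsg.Agent.Lib.Helper8.DSer
import Cfsg.Agent.Lib.Helper8.Misc

set_option autoImplicit false
set_option linter.style.haveILetI false

namespace Cfsg.Agent.Lib.Helper8

open Cfsg
open scoped commutatorElement

/-- A group whose commutator subgroup is central is nilpotent. -/
theorem isNilpotent_of_commutator_le_center {H : Type*} [Group H]
    (h : commutator H ≤ Subgroup.center H) : Group.IsNilpotent H := by
  have hab : ∀ a b : H ⧸ Subgroup.center H, a * b = b * a := by
    intro a b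
    obtain ⟨x, rfl⟩ := QuotientGroup.mk'_surjective (Subgroup.center H) a
    obtain ⟨y, rfl⟩ := QuotientGroup.mk'_surjective (Subgroup.center H) b
    rw [← map_mul, ← map_mul, QuotientGroup.mk'_apply, QuotientGroup.mk'_apply, QuotientGroup.eq]
    apply h
    have : (x * y)⁻¹ * (y * x) = ⁅y⁻¹, x⁻¹⁆ := by
      rw [commutatorElement_def]; group
    rw [this]
    exact Subgroup.commutator_mem_commutator (Subgroup.mem_top _) (Subgroup.mem_top _)
  haveI : Group.IsNilpotent (H ⧸ Subgroup.center H) := isNilpotent_of_forall_comm hab
  exact Subgroup.isNilpotent_of_ker_le_center (QuotientGroup.mk' (Subgroup.center H))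
    (by rw [QuotientGroup.ker_mk'])

variable {G : Type*} [Group G]

/-- A subgroup whose commutator subgroup commutes with it elementwise is nilpotent. -/
theorem isNilpotent_of_commutator_central (A : Subgroup G)
    (h : ∀ z ∈ ⁅A, A⁆, ∀ a ∈ A, a * z = z * a) : Group.IsNilpotent ↥A := by
  apply isNilpotent_of_commutator_le_center
  intro x hx
  have hx' : (x : G) ∈ ⁅A, A⁆ := by
    have h1 : (commutator ↥A).map A.subtype = ⁅A, A⁆ := by
      rw [commutator_def, Subgroup.map_commutator, ← MonoidHom.range_eq_map,
        Subgroup.range_subtype]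
    rw [← h1]
    exact ⟨x, hx, rfl⟩
  refine Subgroup.mem_center_iff.2 ?_
  intro g
  ext
  exact h _ hx' g g.2

theorem dser_map {G' : Type*} [Group G'] (f : G →* G') (H : Subgroup G) (n : ℕ) :
    (dser H n).map f = dser (H.map f) n := by
  induction n with
  | zero => rfl
  | succ n ih => rw [dser_succ, Subgroup.map_commutator, ih, dser_succ]

/-- Whatever normalizes `H` normalizes each term of its derived series. -/
theorem normalizer_le_normalizer_dser (H : Subgroup G) (n : ℕ) :
    Subgroup.normalizer (H : Set G) ≤ Subgroup.normalizer ((dser H n : Subgroup G) : Set G) := by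
  intro g hg
  rw [Subgroup.mem_normalizer_iff_map_conj_eq] at hg ⊢
  rw [dser_map, hg]

theorem dser_le_self (H : Subgroup G) (n : ℕ) : dser H n ≤ H := by
  induction n with
  | zero => exact le_rfl
  | succ n ih =>
    rw [dser_succ]
    refine (Subgroup.commutator_mono ih ih).trans ?_
    rw [Subgroup.commutator_le]
    intro a ha b hb
    exact H.mul_mem (H.mul_mem (H.mul_mem ha hb) (H.inv_mem ha)) (H.inv_mem hb)

end Cfsg.Agent.Lib.Helper8
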