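import Mathlib
import Cfsg.Agent.Lib.Helper8.PComp1
import Cfsg.Agent.Lib.Helper8.Hyperplane
set_option autoImplicit false
set_option linter.style.haveILetI false

namespace Cfsg.Agent.Lib.Helper8.PComp

open Cfsg

variable {X : Type*} [Group X]

/-- A `p`-element lies in every normal subgroup of index prime to `p`. -/
theorem mem_of_normal_of_index_coprime {Y : Type*} [Group Y] {p : ℕ} (N : Subgroup Y)
    [N.Normal] (h : N.index.Coprime p) {y : Y} {k : ℕ} (hy : y ^ (p ^ k) = 1) : y ∈ N := by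
  have h1 : (QuotientGroup.mk' N y) ^ (p ^ k) = 1 := by
    rw [← map_pow, hy, map_one]
  have h2 : (QuotientGroup.mk' N y) ^ N.index = 1 := by
    rw [← map_pow, QuotientGroup.mk'_apply, QuotientGroup.eq_one_iff]
    exact N.pow_index_mem y
  have h3 : orderOf (QuotientGroup.mk' N y) ∣ Nat.gcd (p ^ k) N.index :=
    Nat.dvd_gcd (orderOf_dvd_of_pow_eq_one h1) (orderOf_dvd_of_pow_eq_one h2)
  have h4 : Nat.gcd (p ^ k) N.index = 1 := Nat.Coprime.pow_left k h.symm
  rw [h4, Nat.dvd_one, orderOf_eq_one_iff, QuotientGroup.mk'_apply, QuotientGroup.eq_one_iff] at h3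
  exact h3

/-- A `p`-element lies in every subnormal subgroup of index prime to `p`. -/
theorem mem_of_isSubnormal_of_index_coprime {Y : Type*} [Group Y] {p : ℕ} {M : Subgroup Y}
    (hM : M.IsSubnormal) (h : M.index.Coprime p) {y : Y} {k : ℕ} (hy : y ^ (p ^ k) = 1) :
    y ∈ M := by
  induction hM with
  | top => exact Subgroup.mem_top y
  | step U K hUK hK hnorm ih =>
    have hidx := Subgroup.relIndex_mul_index hUK
    have h1 : K.index.Coprime p := Nat.Coprime.coprime_dvd_left (Dvd.intro_left _ hidx) h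
    have h2 : (U.relIndex K).Coprime p := Nat.Coprime.coprime_dvd_left (Dvd.intro _ hidx) h
    have hyK : y ∈ K := ih h1
    haveI := hnorm
    have : (⟨y, hyK⟩ : K) ∈ U.subgroupOf K :=
      mem_of_normal_of_index_coprime (U.subgroupOf K) h2 (k := k) (Subtype.ext (by simpa using hy))
    exact this

/-- Images do not increase relative indices. -/
theorem relIndex_map_dvd {G' : Type*} [Group G'] (f : X →* G') {M K : Subgroup X} (hMK : M ≤ K) :
    (M.map f).relIndex (K.map f) ∣ M.relIndex K := by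
  have h1 : ((M.subgroupOf K).map (f.subgroupMap K)).index ∣ (M.subgroupOf K).index :=
    Subgroup.index_map_dvd _ (f.subgroupMap_surjective K)
  have h2 : (M.subgroupOf K).map (f.subgroupMap K) = (M.map f).subgroupOf (K.map f) := by
    ext ⟨y, hy⟩
    constructor
    · rintro ⟨k, hk, hky⟩
      rw [Subgroup.mem_subgroupOf]
      have : f k.1 = y := congrArg Subtype.val hky
      exact ⟨k.1, hk, this⟩
    · intro hm
      rw [Subgroup.mem_subgroupOf] at hm
      obtain ⟨m, hm, hmy⟩ := hm
      exact ⟨⟨m, hMK hm⟩, hm, Subtype.ext hmy⟩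
  rw [h2] at h1
  exact h1

/-- `|HK : H|` divides `|K|` for normal `K`. -/
theorem relIndex_sup_dvd_card [Finite X] (H K : Subgroup X) [K.Normal] :
    H.relIndex (H ⊔ K) ∣ Nat.card ↥K := by
  have h1 := Cfsg.Agent.Lib.Helper2.card_sup_mul_card_inf H K
  have h2 := Cfsg.Agent.Lib.Helper8.Hyperplane.relIndex_mul_card (le_sup_left : H ≤ H ⊔ K)
  rw [← h2] at h1
  have h3 : H.relIndex (H ⊔ K) * Nat.card ↥(H ⊓ K : Subgroup X) = Nat.card ↥K := by
    have hpos : 0 < Nat.card ↥H := Nat.card_pos
    have : Nat.card ↥H * (H.relIndex (H ⊔ K) * Nat.card ↥(H ⊓ K : Subgroup X)) =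
        Nat.card ↥H * Nat.card ↥K := by rw [← h1]; ring
    exact Nat.eq_of_mul_eq_mul_left hpos this
  exact Dvd.intro _ h3

/-- The subgroup generated by the `p`-elements of `H`. -/
def pGen (p : ℕ) (H : Subgroup X) : Subgroup X :=
  Subgroup.closure {x | x ∈ H ∧ ∃ k : ℕ, x ^ (p ^ k) = 1}

theorem pGen_le (p : ℕ) (H : Subgroup X) : pGen p H ≤ H := by
  unfold pGen
  rw [Subgroup.closure_le]
  intro x hx
  exact hx.1

theorem pGen_mono (p : ℕ) {H K : Subgroup X} (h : H ≤ K) : pGen p H ≤ pGen p K := by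
  unfold pGen
  apply Subgroup.closure_mono
  intro x hx
  exact ⟨h hx.1, hx.2⟩

theorem mem_pGen {p : ℕ} {H : Subgroup X} {x : X} (hx : x ∈ H) {k : ℕ} (hk : x ^ (p ^ k) = 1) :
    x ∈ pGen p H :=
  Subgroup.subset_closure ⟨hx, k, hk⟩

theorem normalizer_le_normalizer_pGen (p : ℕ) (H : Subgroup X) :
    Subgroup.normalizer (H : Set X) ≤ Subgroup.normalizer (pGen p H : Set X) := by
  intro g hg
  have key : ∀ g ∈ Subgroup.normalizer (H : Set X),
      (pGen p H).map (MulAut.conj g).toMonoidHom ≤ pGen p H := by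
    intro g hg
    unfold pGen
    rw [MonoidHom.map_closure, Subgroup.closure_le]
    rintro _ ⟨x, ⟨hx, k, hk⟩, rfl⟩
    apply Subgroup.subset_closure
    refine ⟨?_, k, ?_⟩
    · exact (Subgroup.mem_normalizer_iff.1 hg x).1 hx
    · show (MulAut.conj g x) ^ (p ^ k) = 1
      rw [← map_pow, hk, map_one]
  rw [Subgroup.mem_normalizer_iff_map_conj_eq]
  apply le_antisymm (key g hg)
  have h2 := key g⁻¹ (Subgroup.inv_mem _ hg)
  intro x hx
  refine ⟨g⁻¹ * x * g, ?_, ?_⟩
  · have := h2 ⟨x, hx, rfl⟩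
    simpa [MulAut.conj_apply] using this
  · simp [MulAut.conj_apply, mul_assoc]

theorem pGen_subgroupOf_normal (p : ℕ) (H : Subgroup X) : ((pGen p H).subgroupOf H).Normal :=
  (Subgroup.normal_subgroupOf_iff_le_normalizer (pGen_le p H)).2
    (Subgroup.le_normalizer.trans (normalizer_le_normalizer_pGen p H))

theorem pGen_isSubnormal (p : ℕ) {H : Subgroup X} (hH : H.IsSubnormal) :
    (pGen p H).IsSubnormal :=
  Subgroup.IsSubnormal.trans (pGen_le p H) (pGen_subgroupOf_normal p H).isSubnormal hH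

/-- `H / O^{p'}(H)` has order prime to `p`. -/
theorem relIndex_pGen_coprime [Finite X] (p : ℕ) [hp : Fact p.Prime] (H : Subgroup X) :
    ((pGen p H).relIndex H).Coprime p := by
  obtain P : Sylow p ↥H := default
  have hle : (P : Subgroup ↥H) ≤ (pGen p H).subgroupOf H := by
    intro x hx
    rw [Subgroup.mem_subgroupOf]
    obtain ⟨k, hk⟩ := (P.2 ⟨x, hx⟩)
    refine mem_pGen x.2 (k := k) ?_
    have := congrArg (fun z : (P : Subgroup ↥H) => ((z : ↥H) : X)) hk
    simpa using this
  have h1 : ((pGen p H).subgroupOf H).index ∣ (P : Subgroup ↥H).index :=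
    Subgroup.index_dvd_of_le hle
  have h2 : ¬ p ∣ (P : Subgroup ↥H).index := P.not_dvd_index
  rw [Nat.coprime_comm, Nat.Prime.coprime_iff_not_dvd hp.out]
  intro h3
  exact h2 (h3.trans h1)

/-- `O^{p'}(H)` lies in every subnormal subgroup of `H` of index prime to `p`. -/
theorem pGen_le_of_isSubnormal {p : ℕ} {M H : Subgroup X} (hM : (M.subgroupOf H).IsSubnormal)
    (hidx : (M.relIndex H).Coprime p) : pGen p H ≤ M := by
  unfold pGen
  rw [Subgroup.closure_le]
  rintro x ⟨hx, k, hk⟩
  have : (⟨x, hx⟩ : H) ∈ M.subgroupOf H :=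
    mem_of_isSubnormal_of_index_coprime hM hidx (k := k) (Subtype.ext (by simpa using hk))
  exact this

/-- A component of a group with trivial `p'`-core has no proper normal subgroup of index prime
to `p`. -/
theorem component_eq_of_relIndex_coprime {Y : Type*} [Group Y] [Finite Y] {p : ℕ}
    [hp : Fact p.Prime] (hO : pPrimeCore p Y = ⊥) {L M : Subgroup Y} (hL : IsComponent L)
    (hML : M ≤ L) (hn : L ≤ Subgroup.normalizer (M : Set Y))
    (hidx : (M.relIndex L).Coprime p) : M = L := by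
  haveI : (M.subgroupOf L).Normal := (Subgroup.normal_subgroupOf_iff_le_normalizer hML).2 hn
  rcases Cfsg.Agent.Lib.Helper2.isQuasisimple_normal_eq_top_or_le_center hL.2 (M.subgroupOf L)
    with h | h
  · rw [Subgroup.subgroupOf_eq_top] at h
    exact le_antisymm hML h
  · exfalso
    have h1 : (Subgroup.center ↥L).index ∣ (M.subgroupOf L).index := Subgroup.index_dvd_of_le h
    have h2 : (Subgroup.center ↥L).index.Coprime p := Nat.Coprime.coprime_dvd_left h1 hidx
    have h3 : (Nat.card ↥L).Coprime p := card_coprime_of_perfect_of_center_index hL.2.1 p h2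
    have h4 : L ≤ pPrimeCore p Y := le_pPrimeCore_of_isSubnormal p hL.1 h3
    rw [hO] at h4
    exact Cfsg.Agent.Lib.Helper2.isComponent_ne_bot hL (le_bot_iff.1 h4)

end Cfsg.Agent.Lib.Helper8.PComp
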