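import Mathlib
import Cfsg.Agent.Lib.Helper8.PComp2
import Cfsg.Agent.Lib.Helper8.Nilp
set_option autoImplicit false
set_option linter.style.haveILetI false

namespace Cfsg.Agent.Lib.Helper8.PComp

open Cfsg

variable {X : Type*} [Group X]

theorem comap_map_mk (p : ℕ) (K : Subgroup X) :
    (K.map (QuotientGroup.mk' (pPrimeCore p X))).comap (QuotientGroup.mk' (pPrimeCore p X)) =
      K ⊔ pPrimeCore p X := by
  rw [Subgroup.comap_map_eq, QuotientGroup.ker_mk']

theorem relIndex_sup_pPrimeCore_coprime [Finite X] (p : ℕ) (K : Subgroup X) :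
    (K.relIndex (K ⊔ pPrimeCore p X)).Coprime p :=
  Nat.Coprime.coprime_dvd_left (relIndex_sup_dvd_card K (pPrimeCore p X))
    (Cfsg.Agent.Lib.Helper1.pPrimeCore_card_coprime p)

theorem commutator_self_le (K : Subgroup X) : ⁅K, K⁆ ≤ K :=
  Cfsg.Agent.Lib.Helper8.dser_le_self K 1

theorem commutator_self_isSubnormal {K : Subgroup X} (hK : K.IsSubnormal) :
    (⁅K, K⁆ : Subgroup X).IsSubnormal := by
  have hn : ((⁅K, K⁆ : Subgroup X).subgroupOf K).Normal :=
    (Subgroup.normal_subgroupOf_iff_le_normalizer (commutator_self_le K)).2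
      (Subgroup.le_normalizer.trans (Cfsg.Agent.Lib.Helper8.normalizer_le_normalizer_dser K 1))
  exact Subgroup.IsSubnormal.trans (commutator_self_le K) hn.isSubnormal hK

theorem isSubnormal_of_le_normalizer {M K : Subgroup X} (hK : K.IsSubnormal) (hMK : M ≤ K)
    (hn : K ≤ Subgroup.normalizer (M : Set X)) : M.IsSubnormal :=
  Subgroup.IsSubnormal.trans hMK
    ((Subgroup.normal_subgroupOf_iff_le_normalizer hMK).2 hn).isSubnormal hK

/-- `p`-components are perfect. -/
theorem isPComponent_perfect {p : ℕ} {K : Subgroup X} (hK : IsPComponent p K) : ⁅K, K⁆ = K := by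
  obtain ⟨hsn, hcomp, hmin⟩ := hK
  apply hmin _ (commutator_self_isSubnormal hsn) (commutator_self_le K)
  rw [Subgroup.map_commutator]
  exact Cfsg.Agent.Lib.Helper2.isComponent_perfect hcomp

theorem le_normalizer_map {G' : Type*} [Group G'] (f : X →* G') {M K : Subgroup X}
    (hn : K ≤ Subgroup.normalizer (M : Set X)) :
    K.map f ≤ Subgroup.normalizer ((M.map f : Subgroup G') : Set G') := by
  rintro _ ⟨k, hk, rfl⟩
  exact Subgroup.le_normalizer_map f ⟨k, hn hk, rfl⟩

/-- A `p`-component has no proper normal subgroup of index prime to `p`. -/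
theorem isPComponent_eq_of_relIndex_coprime [Finite X] {p : ℕ} [hp : Fact p.Prime]
    {K M : Subgroup X} (hK : IsPComponent p K) (hMK : M ≤ K)
    (hn : K ≤ Subgroup.normalizer (M : Set X)) (hidx : (M.relIndex K).Coprime p) : M = K := by
  obtain ⟨hsn, hcomp, hmin⟩ := hK
  apply hmin M (isSubnormal_of_le_normalizer hsn hMK hn) hMK
  apply component_eq_of_relIndex_coprime (Cfsg.Agent.Lib.Helper1.pPrimeCore_quotient_eq_bot p) hcomp
    (Subgroup.map_mono hMK) (le_normalizer_map _ hn)
  exact Nat.Coprime.coprime_dvd_left (relIndex_map_dvd _ hMK) hidx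

/-- A `p`-component is generated by the `p`-elements of the full preimage of its image. -/
theorem isPComponent_eq_pGen [Finite X] {p : ℕ} [hp : Fact p.Prime] {K : Subgroup X}
    (hK : IsPComponent p K) :
    K = pGen p ((K.map (QuotientGroup.mk' (pPrimeCore p X))).comap
      (QuotientGroup.mk' (pPrimeCore p X))) := by
  rw [comap_map_mk]
  set H₀ := K ⊔ pPrimeCore p X with hH₀
  have hle : pGen p H₀ ≤ K :=
    pGen_le_of_isSubnormal hK.1.subgroupOf (relIndex_sup_pPrimeCore_coprime p K)
  symm
  apply isPComponent_eq_of_relIndex_coprime hK hle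
  · exact (le_sup_left.trans Subgroup.le_normalizer).trans (normalizer_le_normalizer_pGen p H₀)
  · have h1 := Subgroup.relIndex_mul_relIndex (pGen p H₀) K H₀ hle le_sup_left
    exact Nat.Coprime.coprime_dvd_left (Dvd.intro _ h1) (relIndex_pGen_coprime p H₀)

/-- Two `p`-components with the same image coincide. -/
theorem isPComponent_ext [Finite X] {p : ℕ} [hp : Fact p.Prime] {K L : Subgroup X}
    (hK : IsPComponent p K) (hL : IsPComponent p L)
    (h : K.map (QuotientGroup.mk' (pPrimeCore p X)) = L.map (QuotientGroup.mk' (pPrimeCore p X))) :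
    K = L := by
  rw [isPComponent_eq_pGen hK, isPComponent_eq_pGen hL, h]

/-- Over every component of `X / O_{p'}(X)` there is a `p`-component. -/
theorem isPComponent_pGen_comap [Finite X] {p : ℕ} [hp : Fact p.Prime]
    {Kbar : Subgroup (X ⧸ pPrimeCore p X)} (hKbar : IsComponent Kbar) :
    IsPComponent p (pGen p (Kbar.comap (QuotientGroup.mk' (pPrimeCore p X)))) ∧
      (pGen p (Kbar.comap (QuotientGroup.mk' (pPrimeCore p X)))).map
        (QuotientGroup.mk' (pPrimeCore p X)) = Kbar := by
  set π := QuotientGroup.mk' (pPrimeCore p X) with hπ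
  set H₀ := Kbar.comap π with hH₀
  have hH₀sn : H₀.IsSubnormal := hKbar.1.comap π
  have hπH₀ : H₀.map π = Kbar :=
    Subgroup.map_comap_eq_self_of_surjective (QuotientGroup.mk'_surjective _) Kbar
  have hKsn : (pGen p H₀).IsSubnormal := pGen_isSubnormal p hH₀sn
  have hmap : (pGen p H₀).map π = Kbar := by
    have h1 : (pGen p H₀).map π ≤ Kbar := by
      rw [← hπH₀]; exact Subgroup.map_mono (pGen_le p H₀)
    apply component_eq_of_relIndex_coprime (Cfsg.Agent.Lib.Helper1.pPrimeCore_quotient_eq_bot p)
      hKbar h1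
    · rw [← hπH₀]
      exact le_normalizer_map _
        (Subgroup.le_normalizer.trans (normalizer_le_normalizer_pGen p H₀))
    · rw [← hπH₀]
      exact Nat.Coprime.coprime_dvd_left (relIndex_map_dvd _ (pGen_le p H₀))
        (relIndex_pGen_coprime p H₀)
  refine ⟨⟨hKsn, ?_, ?_⟩, hmap⟩
  · rw [hmap]; exact hKbar
  · intro H hHsn hHle hHmap
    apply le_antisymm hHle
    have h2 : H ⊔ pPrimeCore p X = H₀ := by
      rw [← comap_map_mk, hHmap, hmap]
    apply pGen_le_of_isSubnormal hHsn.subgroupOf
    rw [← h2]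
    exact relIndex_sup_pPrimeCore_coprime p H

/-- Characterization of `p`-components. -/
theorem isPComponent_iff [Finite X] {p : ℕ} [hp : Fact p.Prime] (K : Subgroup X) :
    IsPComponent p K ↔ IsComponent (K.map (QuotientGroup.mk' (pPrimeCore p X))) ∧
      K = pGen p ((K.map (QuotientGroup.mk' (pPrimeCore p X))).comap
        (QuotientGroup.mk' (pPrimeCore p X))) := by
  constructor
  · intro hK
    exact ⟨hK.2.1, isPComponent_eq_pGen hK⟩
  · rintro ⟨h1, h2⟩
    rw [h2]
    exact (isPComponent_pGen_comap h1).1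

/-- Elements normalizing the image of a `p`-component normalize the `p`-component. -/
theorem isPComponent_normalizer [Finite X] {p : ℕ} [hp : Fact p.Prime] {K : Subgroup X}
    (hK : IsPComponent p K) :
    (Subgroup.normalizer ((K.map (QuotientGroup.mk' (pPrimeCore p X)) :
      Subgroup (X ⧸ pPrimeCore p X)) : Set (X ⧸ pPrimeCore p X))).comap
        (QuotientGroup.mk' (pPrimeCore p X)) ≤ Subgroup.normalizer (K : Set X) := by
  have h1 := Subgroup.comap_normalizer_eq_of_surjective
    (K.map (QuotientGroup.mk' (pPrimeCore p X))) (QuotientGroup.mk'_surjective (pPrimeCore p X))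
  rw [h1]
  conv_rhs => rw [isPComponent_eq_pGen hK]
  exact normalizer_le_normalizer_pGen p _

end Cfsg.Agent.Lib.Helper8.PComp
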