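import Mathlib
import Cfsg.Agent.Lib.Helper8.PComp3
set_option autoImplicit false
set_option linter.style.haveILetI false

namespace Cfsg.Agent.Lib.Helper8.PComp

open Cfsg

variable {X : Type*} [Group X]

/-- A subgroup whose image normalizes the image of a `p`-component normalizes the `p`-component. -/
theorem le_normalizer_of_map_le [Finite X] {p : ℕ} [hp : Fact p.Prime] {K L : Subgroup X}
    (hK : IsPComponent p K)
    (h : L.map (QuotientGroup.mk' (pPrimeCore p X)) ≤
      Subgroup.normalizer ((K.map (QuotientGroup.mk' (pPrimeCore p X)) :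
        Subgroup (X ⧸ pPrimeCore p X)) : Set (X ⧸ pPrimeCore p X))) :
    L ≤ Subgroup.normalizer (K : Set X) :=
  (Subgroup.map_le_iff_le_comap.1 h).trans (isPComponent_normalizer hK)

/-- Distinct `p`-components have commuting images. -/
theorem isPComponent_commutator_map [Finite X] {p : ℕ} [hp : Fact p.Prime] {K L : Subgroup X}
    (hK : IsPComponent p K) (hL : IsPComponent p L) (hne : K ≠ L) :
    ⁅K.map (QuotientGroup.mk' (pPrimeCore p X)), L.map (QuotientGroup.mk' (pPrimeCore p X))⁆ = ⊥ := by
  rcases Cfsg.Agent.Lib.Helper2.isComponent_eq_or_commutator_eq_bot hK.2.1 hL.2.1 with h | h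
  · exact absurd (isPComponent_ext hK hL h) hne
  · exact h

/-- `p`-components normalize each other. -/
theorem isPComponent_le_normalizer [Finite X] {p : ℕ} [hp : Fact p.Prime] {K L : Subgroup X}
    (hK : IsPComponent p K) (hL : IsPComponent p L) : L ≤ Subgroup.normalizer (K : Set X) := by
  by_cases hne : K = L
  · rw [hne]; exact Subgroup.le_normalizer
  · apply le_normalizer_of_map_le hK
    have h := isPComponent_commutator_map hK hL hne
    rw [Subgroup.commutator_comm, Subgroup.commutator_eq_bot_iff_le_centralizer] at h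
    exact h.trans (Subgroup.centralizer_le_normalizer _)

theorem pLayer_le_normalizer [Finite X] {p : ℕ} [hp : Fact p.Prime] {K : Subgroup X}
    (hK : IsPComponent p K) : pLayer p X ≤ Subgroup.normalizer (K : Set X) := by
  unfold pLayer
  apply sSup_le
  intro L hL
  exact isPComponent_le_normalizer hK hL

theorem le_pLayer {p : ℕ} {K : Subgroup X} (hK : IsPComponent p K) : K ≤ pLayer p X :=
  le_sSup hK

/-- The commutator of distinct `p`-components lies in `O_{p'}`. -/
theorem isPComponent_commutator_le [Finite X] {p : ℕ} [hp : Fact p.Prime] {K L : Subgroup X}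
    (hK : IsPComponent p K) (hL : IsPComponent p L) (hne : K ≠ L) :
    ⁅K, L⁆ ≤ pPrimeCore p X := by
  have h := isPComponent_commutator_map hK hL hne
  rw [← Subgroup.map_commutator, Subgroup.map_eq_bot_iff, QuotientGroup.ker_mk'] at h
  exact h

/-- The `p'`-core of a subnormal subgroup. -/
theorem pPrimeCore_subgroupOf [Finite X] (p : ℕ) {K : Subgroup X} (hK : K.IsSubnormal) :
    pPrimeCore p ↥K = (pPrimeCore p X).subgroupOf K := by
  apply le_antisymm
  · intro x hx
    rw [Subgroup.mem_subgroupOf]
    have hsn : ((pPrimeCore p ↥K).map K.subtype).IsSubnormal :=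
      Subgroup.IsSubnormal.trans' (Subgroup.Normal.isSubnormal inferInstance) hK
    have hc : (Nat.card ↥((pPrimeCore p ↥K).map K.subtype)).Coprime p := by
      rw [Subgroup.card_map_of_injective K.subtype_injective]
      exact Cfsg.Agent.Lib.Helper1.pPrimeCore_card_coprime p
    exact le_pPrimeCore_of_isSubnormal p hsn hc ⟨x, hx, rfl⟩
  · apply Cfsg.Agent.Lib.Helper1.le_pPrimeCore inferInstance
    have h1 : Nat.card ↥((pPrimeCore p X).subgroupOf K) ∣ Nat.card ↥(pPrimeCore p X) := by
      have : Nat.card ↥((pPrimeCore p X).subgroupOf K) =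
          Nat.card ↥((pPrimeCore p X ⊓ K : Subgroup X)) := by
        rw [← Subgroup.subgroupOf_map_subtype,
          Subgroup.card_map_of_injective K.subtype_injective]
      rw [this]
      exact Subgroup.card_dvd_of_le inf_le_left
    exact Nat.Coprime.coprime_dvd_left h1 (Cfsg.Agent.Lib.Helper1.pPrimeCore_card_coprime p)

theorem map_pPrimeCore_subtype [Finite X] (p : ℕ) {K : Subgroup X} (hK : K.IsSubnormal) :
    (pPrimeCore p ↥K).map K.subtype = pPrimeCore p X ⊓ K := by
  rw [pPrimeCore_subgroupOf p hK, Subgroup.subgroupOf_map_subtype]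

/-- The quotient of a subnormal subgroup by its `p'`-core is its image modulo `O_{p'}`. -/
noncomputable def quotientCoreEquiv [Finite X] (p : ℕ) {K : Subgroup X} (hK : K.IsSubnormal) :
    (↥K ⧸ pPrimeCore p ↥K) ≃* ↥(K.map (QuotientGroup.mk' (pPrimeCore p X))) := by
  let f : ↥K →* X ⧸ pPrimeCore p X := (QuotientGroup.mk' (pPrimeCore p X)).comp K.subtype
  have hker : f.ker = pPrimeCore p ↥K := by
    rw [pPrimeCore_subgroupOf p hK]
    ext x
    simp only [f, MonoidHom.mem_ker, MonoidHom.coe_comp, Function.comp_apply,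
      QuotientGroup.mk'_apply, QuotientGroup.eq_one_iff, Subgroup.mem_subgroupOf,
      Subgroup.coe_subtype]
  have hrange : f.range = K.map (QuotientGroup.mk' (pPrimeCore p X)) := by
    simp only [f]
    rw [MonoidHom.range_comp, Subgroup.range_subtype]
  exact ((QuotientGroup.quotientMulEquivOfEq hker.symm).trans
    (QuotientGroup.quotientKerEquivRange f)).trans (MulEquiv.subgroupCongr hrange)

end Cfsg.Agent.Lib.Helper8.PComp
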