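import Mathlib
import Cfsg.Agent.Lib.Helper8.PComp4
set_option autoImplicit false
set_option linter.style.haveILetI false

namespace Cfsg.Agent.Lib.Helper8.PComp

open Cfsg

variable {X : Type*} [Group X]

theorem isPComponent_dvd_card [Finite X] {p : ℕ} [hp : Fact p.Prime] {K : Subgroup X}
    (hK : IsPComponent p K) : p ∣ Nat.card ↥K := by
  by_contra hnd
  have hc : (Nat.card ↥K).Coprime p := by
    rw [Nat.coprime_comm]; exact (Nat.Prime.coprime_iff_not_dvd hp.out).2 hnd
  have hle := le_pPrimeCore_of_isSubnormal p hK.1 hc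
  apply Cfsg.Agent.Lib.Helper2.isComponent_ne_bot hK.2.1
  rw [Subgroup.map_eq_bot_iff, QuotientGroup.ker_mk']
  exact hle

theorem isPComponent_isPerfect {p : ℕ} {K : Subgroup X} (hK : IsPComponent p K) :
    Group.IsPerfect ↥K :=
  Subgroup.isPerfect_iff.2 (isPComponent_perfect hK)

theorem isPComponent_quotient_isQuasisimple [Finite X] {p : ℕ} {K : Subgroup X}
    (hK : IsPComponent p K) : IsQuasisimple (↥K ⧸ pPrimeCore p ↥K) :=
  Cfsg.Agent.Lib.Helper2.isQuasisimple_of_mulEquiv (quotientCoreEquiv p hK.1) hK.2.1.2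

theorem commutator_map_subtype_eq_bot_iff {K : Subgroup X} (N : Subgroup ↥K) :
    ⁅K, N.map K.subtype⁆ = ⊥ ↔ N ≤ Subgroup.center ↥K := by
  rw [Subgroup.commutator_eq_bot_iff_le_centralizer]
  constructor
  · intro h n hn
    rw [Subgroup.mem_center_iff]
    intro k
    have h1 := h k.2
    rw [Subgroup.mem_centralizer_iff] at h1
    have h2 := h1 n.1 ⟨n, hn, rfl⟩
    exact Subtype.ext h2.symm
  · intro h k hk
    rw [Subgroup.mem_centralizer_iff]
    rintro _ ⟨n, hn, rfl⟩
    have h1 := Subgroup.mem_center_iff.1 (h hn) ⟨k, hk⟩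
    exact (congrArg Subtype.val h1).symm

/-- A `p`-component is quasisimple iff it centralizes its `p'`-core. -/
theorem isPComponent_isQuasisimple_iff [Finite X] {p : ℕ} [hp : Fact p.Prime] {K : Subgroup X}
    (hK : IsPComponent p K) :
    IsQuasisimple ↥K ↔ ⁅K, (pPrimeCore p ↥K).map K.subtype⁆ = ⊥ := by
  rw [commutator_map_subtype_eq_bot_iff]
  constructor
  · intro hq
    rcases Cfsg.Agent.Lib.Helper2.isQuasisimple_normal_eq_top_or_le_center hq (pPrimeCore p ↥K)
      with h | h
    · exfalso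
      have h1 : (Nat.card ↥(pPrimeCore p ↥K)).Coprime p :=
        Cfsg.Agent.Lib.Helper1.pPrimeCore_card_coprime p
      rw [h, Subgroup.card_top] at h1
      have h2 := isPComponent_dvd_card hK
      exact hp.out.one_lt.ne' (Nat.eq_one_of_dvd_coprimes h1.symm (dvd_refl p) h2)
    · exact h
  · intro h
    refine Cfsg.Agent.Lib.Helper2.isQuasisimple_of_surjective_central (isPComponent_isPerfect hK)
      (QuotientGroup.mk' (pPrimeCore p ↥K)) (QuotientGroup.mk'_surjective _) ?_
      (isPComponent_quotient_isQuasisimple hK)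
    rw [QuotientGroup.ker_mk']
    exact h

end Cfsg.Agent.Lib.Helper8.PComp
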