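import Mathlib
import Cfsg.Agent.Lib.Helper8.PComp5
set_option autoImplicit false
set_option linter.style.haveILetI false

namespace Cfsg.Agent.Lib.Helper8.PComp

open Cfsg

variable {X : Type*} [Group X]

theorem map_pLayer [Finite X] (p : ℕ) [hp : Fact p.Prime] :
    (pLayer p X).map (QuotientGroup.mk' (pPrimeCore p X)) = layer (X ⧸ pPrimeCore p X) := by
  apply le_antisymm
  · rw [Subgroup.map_le_iff_le_comap]
    unfold pLayer
    apply sSup_le
    intro K hK
    rw [← Subgroup.map_le_iff_le_comap]
    exact Cfsg.Agent.Lib.Helper2.le_layer hK.2.1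
  · unfold layer
    apply sSup_le
    intro Kbar hKbar
    obtain ⟨h1, h2⟩ := isPComponent_pGen_comap (p := p) hKbar
    rw [← h2]
    apply Subgroup.map_mono
    exact le_sSup h1

/-- Central quotients of quasisimple groups are quasisimple. -/
theorem isQuasisimple_of_surjective {D Q : Type*} [Group D] [Group Q] (hD : IsQuasisimple D)
    (θ : D →* Q) (hθ : Function.Surjective θ) (hker : θ.ker ≤ Subgroup.center D) :
    IsQuasisimple Q := by
  haveI := hD.1
  have hperf : Group.IsPerfect Q := Group.IsPerfect.ofSurjective hθ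
  refine ⟨hperf, ?_⟩
  have hc : (Subgroup.center D).map θ = Subgroup.center Q :=
    Cfsg.Agent.S3962.result hD.1 θ hθ hker
  let ψ : D →* Q ⧸ Subgroup.center Q := (QuotientGroup.mk' (Subgroup.center Q)).comp θ
  have hψ : Function.Surjective ψ :=
    (QuotientGroup.mk'_surjective (Subgroup.center Q)).comp hθ
  have hkerψ : ψ.ker = Subgroup.center D := by
    have : ψ.ker = (Subgroup.center Q).comap θ := by
      ext x
      simp only [ψ, MonoidHom.mem_ker, MonoidHom.coe_comp, Function.comp_apply,
        QuotientGroup.mk'_apply, QuotientGroup.eq_one_iff, Subgroup.mem_comap]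
    rw [this, ← hc, Subgroup.comap_map_eq, sup_eq_left]
    exact hker
  have e1 : D ⧸ ψ.ker ≃* Q ⧸ Subgroup.center Q :=
    QuotientGroup.quotientKerEquivOfSurjective ψ hψ
  have e2 : D ⧸ Subgroup.center D ≃* D ⧸ ψ.ker :=
    QuotientGroup.quotientMulEquivOfEq hkerψ.symm
  haveI : IsSimpleGroup (D ⧸ Subgroup.center D) := hD.2
  exact (e2.trans e1).symm.isSimpleGroup

/-- The image of a component under a surjective homomorphism is trivial or a component. -/
theorem isComponent_map_or_eq_bot {Y : Type*} [Group Y] (f : X →* Y) (hf : Function.Surjective f)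
    {L : Subgroup X} (hL : IsComponent L) : L.map f = ⊥ ∨ IsComponent (L.map f) := by
  let g : ↥L →* ↥(L.map f) := f.subgroupMap L
  have hg : Function.Surjective g := f.subgroupMap_surjective L
  rcases Cfsg.Agent.Lib.Helper2.isQuasisimple_normal_eq_top_or_le_center hL.2 g.ker with h | h
  · left
    rw [eq_bot_iff]
    rintro _ ⟨x, hx, rfl⟩
    have h1 : (⟨x, hx⟩ : L) ∈ g.ker := h ▸ Subgroup.mem_top _
    rw [MonoidHom.mem_ker] at h1
    have h2 := congrArg Subtype.val h1
    exact h2
  · right
    exact ⟨hL.1.map hf, isQuasisimple_of_surjective hL.2 g hg h⟩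

/-- A component contained in a join of components is one of them. -/
theorem isComponent_mem_of_le_sSup {Y : Type*} [Group Y] {S : Set (Subgroup Y)}
    (hS : ∀ L ∈ S, IsComponent L) {K : Subgroup Y} (hK : IsComponent K) (hle : K ≤ sSup S) :
    K ∈ S := by
  by_contra hn
  apply Cfsg.Agent.Lib.Helper2.isComponent_not_commutative hK
  rw [Subgroup.commutator_eq_bot_iff_le_centralizer]
  refine hle.trans (sSup_le ?_)
  intro L hLS
  rcases Cfsg.Agent.Lib.Helper2.isComponent_eq_or_commutator_eq_bot (hS L hLS) hK with h | h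
  · exact absurd (h ▸ hLS) hn
  · exact Subgroup.commutator_eq_bot_iff_le_centralizer.1 h

/-- A component of `X` with nontrivial image modulo `O_{p'}(X)` is a `p`-component. -/
theorem isPComponent_of_isComponent {p : ℕ} {L : Subgroup X}
    (hL : IsComponent L) (hne : L.map (QuotientGroup.mk' (pPrimeCore p X)) ≠ ⊥) :
    IsPComponent p L := by
  have hc : IsComponent (L.map (QuotientGroup.mk' (pPrimeCore p X))) :=
    (isComponent_map_or_eq_bot _ (QuotientGroup.mk'_surjective _) hL).resolve_left hne
  refine ⟨hL.1, hc, ?_⟩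
  intro H hHsn hHL hmap
  rcases isSubnormal_eq_top_or_le_center hL.2 (hHsn.subgroupOf (K := L)) with h | h
  · rw [Subgroup.subgroupOf_eq_top] at h
    exact le_antisymm hHL h
  · exfalso
    apply Cfsg.Agent.Lib.Helper2.isComponent_not_commutative hc
    rw [← hmap, ← Subgroup.map_commutator]
    have : ⁅H, H⁆ = ⊥ := by
      rw [Subgroup.commutator_eq_bot_iff_le_centralizer]
      intro x hx
      rw [Subgroup.mem_centralizer_iff]
      intro y hy
      have h1 : (⟨x, hHL hx⟩ : L) ∈ Subgroup.center ↥L := h (Subgroup.mem_subgroupOf.2 hx)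
      have h2 := Subgroup.mem_center_iff.1 h1 ⟨y, hHL hy⟩
      exact congrArg Subtype.val h2
    rw [this, Subgroup.map_bot]

end Cfsg.Agent.Lib.Helper8.PComp
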