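import Mathlib
import Cfsg.Prelude.Def_Balance
import Cfsg.Agent.Lib.Helper8.CompCent1
import Cfsg.Agent.Lib.Helper8.CoreIn
import Cfsg.Agent.Lib.Helper8.PComp1
import Cfsg.Agent.Lib.Helper8.PComp6
import Cfsg.Agent.Lib.Helper2.Components
import Cfsg.Agent.Lib.Helper2.Components2
import Cfsg.Agent.Lib.Helper2.Components3
set_option autoImplicit false
set_option linter.style.haveILetI false

/-! Components not moved onto themselves by an element of order `p` are centralized by
`O_{p'}(C_G(x))`. -/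

namespace Cfsg.Agent.Lib.Helper8.CompCent

open Cfsg

variable {G : Type*} [Group G]

/-- A component which is a `p'`-group is trivial when `O_{p'}(G) = 1`: contradiction. -/
theorem not_coprime_of_isComponent [Finite G] {p : ℕ} (hO : pPrimeCore p G = ⊥) {L : Subgroup G}
    (hL : IsComponent L) : ¬ (Nat.card ↥L).Coprime p := by
  intro hc
  have h1 := Cfsg.Agent.Lib.Helper8.PComp.le_pPrimeCore_of_isSubnormal p hL.1 hc
  rw [hO, le_bot_iff] at h1
  exact Cfsg.Agent.Lib.Helper2.isComponent_ne_bot hL h1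

/-- If a component normalizes a `p'`-subgroup `W`, it centralizes it (when `O_{p'}(G) = 1`). -/
theorem commutator_eq_bot_of_le_normalizer [Finite G] {p : ℕ} (hO : pPrimeCore p G = ⊥)
    {L W : Subgroup G} (hL : IsComponent L) (hW : (Nat.card ↥W).Coprime p)
    (hLW : L ≤ Subgroup.normalizer (W : Set G)) : ⁅L, W⁆ = ⊥ := by
  rcases Cfsg.Agent.Lib.Helper2.isComponent_le_or_commutator_eq_bot_of_le_normalizer hL hLW
    with h | h
  · exfalso
    apply not_coprime_of_isComponent hO hL
    exact Nat.Coprime.coprime_dvd_left (Subgroup.card_dvd_of_le h) hW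
  · rw [Subgroup.commutator_comm]
    exact h

/-- Case A: `x` normalizes `L` but `[L, x] ≠ L`. -/
theorem commutator_eq_bot_of_mem_normalizer [Finite G] {p : ℕ} (hO : pPrimeCore p G = ⊥)
    {x : G} {L : Subgroup G} (hL : IsComponent L)
    (hxL : x ∈ Subgroup.normalizer (L : Set G)) (hne : ⁅L, Subgroup.zpowers x⁆ ≠ L) :
    ⁅L, centralizerPPrimeCore p x⁆ = ⊥ := by
  have hX : Subgroup.zpowers x ≤ Subgroup.normalizer (L : Set G) := by
    rw [Subgroup.zpowers_le]; exact hxL
  have h1 : ⁅L, Subgroup.zpowers x⁆ ≤ L := Subgroup.le_normalizer_iff_commutator_le_left.1 hX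
  have h2 : L ≤ Subgroup.normalizer ((⁅L, Subgroup.zpowers x⁆ : Subgroup G) : Set G) :=
    Subgroup.normalizer_commutator_ge_left _ _
  have h3 : ⁅⁅L, Subgroup.zpowers x⁆, L⁆ = ⊥ := by
    rcases Cfsg.Agent.Lib.Helper2.isComponent_le_or_commutator_eq_bot_of_le_normalizer hL h2
      with h | h
    · exact absurd (le_antisymm h1 h) hne
    · exact h
  have h4 : ⁅⁅Subgroup.zpowers x, L⁆, L⁆ = ⊥ := by
    rw [Subgroup.commutator_comm (Subgroup.zpowers x) L]; exact h3
  have h5 : ⁅⁅L, L⁆, Subgroup.zpowers x⁆ = ⊥ :=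
    Subgroup.commutator_commutator_eq_bot_of_rotate h3 h4
  rw [Cfsg.Agent.Lib.Helper2.isComponent_perfect hL] at h5
  have h6 : L ≤ Subgroup.centralizer ({x} : Set G) := by
    have := Subgroup.commutator_eq_bot_iff_le_centralizer.1 h5
    intro l hl
    have h7 := this hl
    rw [Subgroup.mem_centralizer_iff] at h7
    exact Subgroup.mem_centralizer_singleton_iff.2 (h7 x (Subgroup.mem_zpowers x)).symm
  apply commutator_eq_bot_of_le_normalizer hO hL
  · exact Cfsg.Agent.Lib.Helper8.CoreIn.coreIn_card_coprime p _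
  · exact h6.trans (Cfsg.Agent.Lib.Helper8.CoreIn.le_normalizer_coreIn p _)

end Cfsg.Agent.Lib.Helper8.CompCent
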