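import Mathlib
import Cfsg.Agent.Lib.Helper1.BrandtBRL

set_option autoImplicit false
set_option linter.unusedSectionVars false
open Cfsg

namespace Cfsg.Agent.Lib.Helper1.Brandt

open Cfsg.Agent.Lib.Helper6

universe u

variable {p : ℕ} {M : Ideal Cfsg.AlgInt}
variable {G : Type u} [Group G] [Fintype G] [DecidableEq G]

/-- the primitive central idempotent of `χ` is idempotent -/
theorem h8_idem_mul_idem (χ : Cfsg.IrrCharacter G) :
    regMat (idemFun (χ : G → ℂ)) * regMat (idemFun (χ : G → ℂ)) = regMat (idemFun (χ : G → ℂ)) := by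
  classical
  have hc : regMat (idemFun (χ : G → ℂ)) ∈ centerAlg G :=
    regMat_mem_centerAlg (idemFun_isClassFunction (IsIrrCharacter.isClassFunction χ.2))
  apply eq_of_cOmega_eq ((centerAlg G).mul_mem hc hc) hc
  intro ψ
  rw [cOmega_mul ψ.2 hc hc.1, cOmega_idem]
  split_ifs <;> simp

/-- the primitive central idempotent of `χ ∈ B` is absorbed by the block idempotent -/
theorem h8_idem_mul_blockMat (B : Set (Cfsg.IrrCharacter G)) (χ : Cfsg.IrrCharacter G)
    (hχ : χ ∈ B) :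
    regMat (idemFun (χ : G → ℂ)) * blockMat B = regMat (idemFun (χ : G → ℂ)) := by
  classical
  have hc : regMat (idemFun (χ : G → ℂ)) ∈ centerAlg G :=
    regMat_mem_centerAlg (idemFun_isClassFunction (IsIrrCharacter.isClassFunction χ.2))
  have hb := blockMat_mem_centerAlg B
  apply eq_of_cOmega_eq ((centerAlg G).mul_mem hc hb) hc
  intro ψ
  rw [cOmega_mul ψ.2 hc hb.1, cOmega_idem, cOmega_blockMat]
  by_cases h : χ = ψ
  · subst h; simp [hχ]
  · simp [h]

/-- BR6a -/
theorem idealJ_twoSided (hM : Cfsg.IsPModular p M) (B : Set (Cfsg.IrrCharacter G))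
    (hBs : ∀ s t, Cfsg.MemLocalRing M (blockMat B s t)) (χ : Cfsg.IrrCharacter G) (hχ : χ ∈ B) :
    IsTwoSidedIn (ebar hM B) (idealJ hM (χ : G → ℂ)) := by
  classical
  have hc : regMat (idemFun (χ : G → ℂ)) ∈ centerAlg G :=
    regMat_mem_centerAlg (idemFun_isClassFunction (IsIrrCharacter.isClassFunction χ.2))
  refine ⟨?_, ?_⟩
  · intro b hb
    obtain ⟨W, hW1, hW2, hW3, hW4⟩ := hb
    apply Subtype.ext
    change b.1 * (ebar hM B).1 = b.1
    rw [ebar_val, hW4, ← redM_mul hM hW2 hBs]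
    congr 1
    rw [← hW3, Matrix.mul_assoc, h8_idem_mul_blockMat B χ hχ]
  · intro a b hb
    obtain ⟨W, hW1, hW2, hW3, hW4⟩ := hb
    obtain ⟨A, hA1, hA2, hA3⟩ := exists_lift_rInv hM a
    constructor
    · refine ⟨A * W, RInv.mul hA1 hW1, fun s t => memLocalRing_mul_apply hM hA2 hW2 s t, ?_, ?_⟩
      · rw [Matrix.mul_assoc, hW3]
      · change a.1 * b.1 = _
        rw [hA3, hW4, ← redM_mul hM hA2 hW2]
    · refine ⟨W * A, RInv.mul hW1 hA1, fun s t => memLocalRing_mul_apply hM hW2 hA2 s t, ?_, ?_⟩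
      · rw [Matrix.mul_assoc, ← centerAlg_comm_rInv hc hA1, ← Matrix.mul_assoc, hW3]
      · change b.1 * a.1 = _
        rw [hA3, hW4, ← redM_mul hM hW2 hA2]

end Cfsg.Agent.Lib.Helper1.Brandt
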