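import Mathlib
import Cfsg.Agent.Lib.Helper1.BrandtBRL
import Cfsg.Agent.Lib.Helper8.BrandtBR6a
import Cfsg.Agent.Lib.Helper6.Auto
import Cfsg.Agent.Lib.Helper6.BlkDefect

set_option autoImplicit false
set_option linter.unusedSectionVars false
open Cfsg

namespace Cfsg.Agent.Lib.Helper1.Brandt

open Cfsg.Agent.Lib.Helper6
open scoped ComplexConjugate

universe u

variable {p : ℕ} {M : Ideal Cfsg.AlgInt}
variable {G : Type u} [Group G] [Fintype G] [DecidableEq G]

/-- the matrix of the conjugate character is fixed by the idempotent of `χ` -/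
theorem h8_conjMat_mul_idem (χ : Cfsg.IrrCharacter G) :
    regMat (fun h => conj ((χ : G → ℂ) h)) * regMat (idemFun (χ : G → ℂ)) =
      regMat (fun h => conj ((χ : G → ℂ) h)) := by
  have hχ1 := IsIrrCharacter.apply_one_ne_zero χ.2
  have hG : (Nat.card G : ℂ) ≠ 0 := by
    exact_mod_cast (Nat.card_pos (α := G)).ne'
  have h1 : (fun h => conj ((χ : G → ℂ) h)) =
      ((Nat.card G : ℂ) / (χ : G → ℂ) 1) • idemFun (χ : G → ℂ) := by
    funext h
    simp only [Pi.smul_apply, smul_eq_mul, idemFun]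
    field_simp
  rw [h1, regMat_smul, Matrix.smul_mul, h8_idem_mul_idem]

theorem h8_conjMat_local (hM : Cfsg.IsPModular p M) (χ : Cfsg.IrrCharacter G) (s t : G) :
    Cfsg.MemLocalRing M (regMat (fun h => conj ((χ : G → ℂ) h)) s t) := by
  rw [regMat_apply]
  show Cfsg.MemLocalRing M (conj ((χ : G → ℂ) (s * t⁻¹)))
  rw [← IsCharacter.apply_inv (IsIrrCharacter.isCharacter χ.2)]
  exact memLocalRing_of_isIntegral hM
    (IsCharacter.isIntegral_apply (IsIrrCharacter.isCharacter χ.2) _)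

/-- BR6b -/
theorem idealJ_ne_bot (hM : Cfsg.IsPModular p M) (χ : Cfsg.IrrCharacter G) (g : G)
    (hg : ¬ Cfsg.MemLocalIdeal M ((χ : G → ℂ) g)) : idealJ hM (χ : G → ℂ) ≠ ⊥ := by
  classical
  intro hbot
  set W : Matrix G G ℂ := regMat (fun h => conj ((χ : G → ℂ) h)) with hW
  have hmem : redR hM W (regMat_rInv _) ∈ idealJ hM (χ : G → ℂ) :=
    ⟨W, regMat_rInv _, h8_conjMat_local hM χ, h8_conjMat_mul_idem χ, rfl⟩
  rw [hbot, Submodule.mem_bot] at hmem
  have h1 : (redR hM W (regMat_rInv _)).1 g⁻¹ 1 = 0 := by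
    rw [hmem]; rfl
  change redM hM W g⁻¹ 1 = 0 at h1
  rw [redM_apply, redC_eq_zero_iff hM (h8_conjMat_local hM χ _ _)] at h1
  apply hg
  have h2 : W g⁻¹ 1 = (χ : G → ℂ) g := by
    rw [hW, regMat_apply]
    show conj ((χ : G → ℂ) (g⁻¹ * 1⁻¹)) = _
    rw [inv_one, mul_one, IsCharacter.apply_inv (IsIrrCharacter.isCharacter χ.2), Complex.conj_conj]
  rw [hW] at h2
  rw [← h2]
  exact h1

end Cfsg.Agent.Lib.Helper1.Brandt
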