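import Mathlib
import Cfsg.Agent.Lib.Helper1.BrandtBRL
import Cfsg.Agent.Lib.Helper1.BrandtBR2
import Cfsg.Agent.Lib.Helper8.BrandtBR6a
import Cfsg.Agent.Lib.Helper6.Regular

set_option autoImplicit false
set_option linter.unusedSectionVars false
open Cfsg

namespace Cfsg.Agent.Lib.Helper1.Brandt

open Cfsg.Agent.Lib.Helper6
open scoped ComplexConjugate

universe u

variable {p : ℕ} {M : Ideal Cfsg.AlgInt}
variable {G : Type u} [Group G] [Fintype G] [DecidableEq G]

/-- rank of the primitive central idempotent of `χ` -/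
theorem h8_rank_idem (χ : Cfsg.IrrCharacter G) :
    (regMat (idemFun (χ : G → ℂ))).rank = Cfsg.charDegree (χ : G → ℂ) ^ 2 := by
  obtain ⟨n, hn⟩ := IsCharacter.apply_one_eq_natCast (IsIrrCharacter.isCharacter χ.2)
  have hdeg : Cfsg.charDegree (χ : G → ℂ) = n := by
    unfold Cfsg.charDegree
    rw [hn]
    simp
  have hG : (Nat.card G : ℂ) ≠ 0 := by
    exact_mod_cast (Nat.card_pos (α := G)).ne'
  have h1 := rank_eq_trace_of_idem (regMat (idemFun (χ : G → ℂ))) (h8_idem_mul_idem χ)
  have h2 : (regMat (idemFun (χ : G → ℂ))).trace = ((n ^ 2 : ℕ) : ℂ) := by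
    unfold Matrix.trace
    simp only [Matrix.diag_apply, regMat_apply, mul_inv_cancel]
    rw [Finset.sum_const, Finset.card_univ, nsmul_eq_mul, ← Nat.card_eq_fintype_card]
    unfold idemFun
    rw [hn, Complex.conj_natCast]
    push_cast
    field_simp
  rw [h2] at h1
  rw [hdeg]
  exact_mod_cast h1

/-- BR6c -/
theorem finrank_idealJ_le (hM : Cfsg.IsPModular p M) (χ : Cfsg.IrrCharacter G) :
    Module.finrank (ResField hM) (idealJ hM (χ : G → ℂ)) ≤ Cfsg.charDegree (χ : G → ℂ) ^ 2 := by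
  classical
  set E : Matrix G G ℂ := regMat (idemFun (χ : G → ℂ)) with hE
  obtain ⟨b, hbli⟩ := exists_linearIndependent_of_le_finrank
    (R := ResField hM) (M := idealJ hM (χ : G → ℂ)) (le_refl _)
  have hb : ∀ i, ∃ W : Matrix G G ℂ, RInv W ∧ (∀ s t, Cfsg.MemLocalRing M (W s t)) ∧
      W * E = W ∧ (b i).1.1 = redM hM W := fun i => (b i).2
  choose W hW1 hW2 hW3 hW4 using hb
  let f : idealJ hM (χ : G → ℂ) →ₗ[ResField hM] (G → ResField hM) :=
    (rowEquiv (ResField hM) G).toLinearMap ∘ₗ (idealJ hM (χ : G → ℂ)).subtype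
  have hfinj : Function.Injective f := by
    intro x y hxy
    have h1 : (rowEquiv (ResField hM) G) x.1 = (rowEquiv (ResField hM) G) y.1 := hxy
    exact Subtype.ext ((rowEquiv (ResField hM) G).injective h1)
  have hli1 : LinearIndependent (ResField hM) (f ∘ b) :=
    hbli.map_injOn f (hfinj.injOn)
  let v : Fin (Module.finrank (ResField hM) (idealJ hM (χ : G → ℂ))) → G → ℂ :=
    fun i t => W i 1 t
  have hli2 : LinearIndependent (ResField hM) (fun i => (fun t => redC hM (v i t))) := by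
    have heq : (fun i => (fun t => redC hM (v i t))) = f ∘ b := by
      funext i t
      show redC hM (W i 1 t) = (b i).1.1 1 t
      rw [hW4 i]; rfl
    rw [heq]; exact hli1
  have hli3 : LinearIndependent ℂ v :=
    linearIndependent_of_redC hM v (fun i t => hW2 i 1 t) hli2
  -- the complex side
  let e : rInvAlgF ℂ G := ⟨E, fun r s t => regMat_rInv _ r s t⟩
  let w : Fin (Module.finrank (ResField hM) (idealJ hM (χ : G → ℂ))) →
      LinearMap.range (LinearMap.mulRight ℂ e) := fun i =>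
    ⟨⟨W i, fun r s t => hW1 i r s t⟩, ⟨⟨W i, fun r s t => hW1 i r s t⟩, by
      apply Subtype.ext
      exact hW3 i⟩⟩
  let g : LinearMap.range (LinearMap.mulRight ℂ e) →ₗ[ℂ] (G → ℂ) :=
    (rowEquiv ℂ G).toLinearMap ∘ₗ (LinearMap.range (LinearMap.mulRight ℂ e)).subtype
  have hli4 : LinearIndependent ℂ w := by
    apply LinearIndependent.of_comp g
    exact hli3
  have h5 := hli4.fintype_card_le_finrank
  rw [Fintype.card_fin, finrank_range_mulRight] at h5
  calc Module.finrank (ResField hM) (idealJ hM (χ : G → ℂ)) ≤ e.1.rank := h5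
    _ = Cfsg.charDegree (χ : G → ℂ) ^ 2 := h8_rank_idem χ

end Cfsg.Agent.Lib.Helper1.Brandt
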