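import Mathlib
import Cfsg.Agent.Lib.Helper6.CL0
import Cfsg.Agent.Lib.Helper3.PU2770c
import Cfsg.Agent.Lib.Helper5.PU2770T
import Cfsg.Agent.Lib.Helper6.PUKP

/-!
# S2990 / S2989 farm (owner helper6): unit `omega_step`, verbatim from the stubs
-/

set_option autoImplicit false

namespace Cfsg.Agent.Lib.Helper8.CLP8

open Cfsg.Agent.Lib.Helper6.CLP

variable {G : Type*} [Group G] [Finite G] {p : ℕ} [Fact p.Prime]

omit [Finite G] [Fact p.Prime] in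
/-- `Z(X)` is abelian -/
theorem zc_comm (X : Subgroup G) : ∀ a ∈ zc X, ∀ b ∈ zc X, a * b = b * a := by
  intro a ha b hb
  have h1 : b ∈ Subgroup.centralizer (X : Set G) := hb.2
  exact (Subgroup.mem_centralizer_iff.mp h1) a ha.1

omit [Finite G] [Fact p.Prime] in
/-- membership in `Ω₁(Z(X))` -/
theorem mem_omegaOneCenter_iff (p : ℕ) (X : Subgroup G) (x : G) :
    x ∈ Cfsg.omegaOneCenter p X ↔ x ∈ zc X ∧ x ^ p = 1 :=
  Cfsg.Agent.Lib.Helper5.PU2770T.mem_omegaOne_iff (zc X) (zc_comm X) p x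

/-- arithmetic core of `omega_step` -/
theorem omega_arith {a1 b1 k1 k z zo q qo v cq r1 : ℕ} (hzo : 0 < zo) (hqo : 0 < qo) (hcq : 0 < cq)
    (ha1 : b1 * k1 = a1) (hk : k1 ≤ k) (hz : zo * k = z) (hidx : z * qo = zo * q)
    (e1 : q * cq = qo * v) (hr : b1 * v ≤ r1 * cq) : a1 ≤ r1 ∧ b1 * k ≤ r1 := by
  have h1 : k * qo = q := by
    apply Nat.eq_of_mul_eq_mul_left hzo
    rw [← hidx, ← hz]; ring
  have h2 : k * cq = v := by
    apply Nat.eq_of_mul_eq_mul_left hqo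
    rw [← e1, ← h1]; ring
  have h3 : b1 * k ≤ r1 := by
    apply Nat.le_of_mul_le_mul_right _ hcq
    calc b1 * k * cq = b1 * (k * cq) := by ring
      _ = b1 * v := by rw [h2]
      _ ≤ r1 * cq := hr
  refine ⟨?_, h3⟩
  calc a1 = b1 * k1 := ha1.symm
    _ ≤ b1 * k := Nat.mul_le_mul_left _ hk
    _ ≤ r1 := h3

/-- U-OMEGA : the `Ω₁(Z(·))` count (step 3 of S2989). -/
theorem omega_step (S O V Q : Subgroup G) (hS : IsPGroup p S) (hQS : Q ≤ S) (hOS : O ≤ S) [O.Normal]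
    (hVO : V ≤ O) [V.Normal] (hOV : O ≤ Subgroup.centralizer (V : Set G))
    (hVel : ∀ v ∈ V, v ^ p = 1)
    (hZR : S ⊓ Subgroup.centralizer (((Q ⊓ O) ⊔ V : Subgroup G) : Set G) = (zc Q ⊓ O) ⊔ V)
    (e1 : Nat.card Q * Nat.card (V ⊓ Subgroup.centralizer (Q : Set G) : Subgroup G) =
      Nat.card (Q ⊓ O : Subgroup G) * Nat.card V)
    (e3 : zc Q ⊓ V = V ⊓ Subgroup.centralizer (Q : Set G))
    (hidx : Nat.card (zc Q) * Nat.card (Q ⊓ O : Subgroup G) =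
      Nat.card (zc Q ⊓ O : Subgroup G) * Nat.card Q) :
    Nat.card (Cfsg.omegaOneCenter p Q) ≤ Nat.card (Cfsg.omegaOneCenter p ((Q ⊓ O) ⊔ V)) ∧
    (Nat.card (Cfsg.omegaOneCenter p ((Q ⊓ O) ⊔ V)) ≤ Nat.card (Cfsg.omegaOneCenter p Q) →
      (zc Q ⊓ O) ⊔ Cfsg.omegaOneCenter p Q = zc Q) := by
  have hRS : (Q ⊓ O) ⊔ V ≤ S := sup_le (inf_le_left.trans hQS) (hVO.trans hOS)
  have hCR : (zc Q ⊓ O) ⊔ V ≤ (Q ⊓ O) ⊔ V := sup_le_sup_right (inf_le_inf_right O inf_le_left) V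
  -- `Z(R) = (Z(Q) ∩ O) V`
  have hzR : zc ((Q ⊓ O) ⊔ V) = (zc Q ⊓ O) ⊔ V := by
    rw [← hZR]
    unfold zc
    apply le_antisymm
    · exact le_inf (inf_le_left.trans hRS) inf_le_right
    · refine le_inf ?_ inf_le_right
      rw [hZR]; exact hCR
  have hA1le : Cfsg.omegaOneCenter p Q ≤ zc Q := fun x hx => ((mem_omegaOneCenter_iff p Q x).1 hx).1
  -- `(Ω₁(Z(Q)) ∩ O) V ≤ Ω₁(Z(R))`
  have hB1V : (Cfsg.omegaOneCenter p Q ⊓ O) ⊔ V ≤ Cfsg.omegaOneCenter p ((Q ⊓ O) ⊔ V) := by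
    apply sup_le
    · intro x hx
      rw [mem_omegaOneCenter_iff, hzR]
      have hx1 := (mem_omegaOneCenter_iff p Q x).1 hx.1
      exact ⟨Subgroup.mem_sup_left (Subgroup.mem_inf.mpr ⟨hx1.1, hx.2⟩), hx1.2⟩
    · intro x hx
      rw [mem_omegaOneCenter_iff, hzR]
      exact ⟨Subgroup.mem_sup_right hx, hVel x hx⟩
  have c1 := Cfsg.Agent.Lib.Helper3.PU2770.card_mul_card_le_sup_inf
    (Cfsg.omegaOneCenter p Q ⊓ O) V
  have hinfle : Nat.card ((Cfsg.omegaOneCenter p Q ⊓ O) ⊓ V : Subgroup G) ≤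
      Nat.card (V ⊓ Subgroup.centralizer (Q : Set G) : Subgroup G) := by
    apply Subgroup.card_le_of_le
    intro x hx
    have hx1 : x ∈ zc Q := hA1le hx.1.1
    exact Subgroup.mem_inf.mpr ⟨hx.2, hx1.2⟩
  have hr : Nat.card (Cfsg.omegaOneCenter p Q ⊓ O : Subgroup G) * Nat.card V ≤
      Nat.card (Cfsg.omegaOneCenter p ((Q ⊓ O) ⊔ V)) *
        Nat.card (V ⊓ Subgroup.centralizer (Q : Set G) : Subgroup G) :=
    calc _ ≤ Nat.card ((Cfsg.omegaOneCenter p Q ⊓ O) ⊔ V : Subgroup G) *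
          Nat.card ((Cfsg.omegaOneCenter p Q ⊓ O) ⊓ V : Subgroup G) := c1
      _ ≤ _ := Nat.mul_le_mul (Subgroup.card_le_of_le hB1V) hinfle
  have ha1 := Cfsg.Agent.Lib.Helper6.PU.card_inf_mul_relIndex O (Cfsg.omegaOneCenter p Q)
  have hz := Cfsg.Agent.Lib.Helper6.PU.card_inf_mul_relIndex O (zc Q)
  have hk : O.relIndex (Cfsg.omegaOneCenter p Q) ≤ O.relIndex (zc Q) := by
    apply Subgroup.relIndex_le_of_le_right hA1le
    intro h0
    rw [h0, mul_zero] at hz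
    exact (Nat.card_pos (α := zc Q)).ne' hz.symm
  obtain ⟨k1, k2⟩ := omega_arith (Nat.card_pos (α := (zc Q ⊓ O : Subgroup G)))
    (Nat.card_pos (α := (Q ⊓ O : Subgroup G)))
    (Nat.card_pos (α := (V ⊓ Subgroup.centralizer (Q : Set G) : Subgroup G)))
    ha1 hk hz hidx e1 hr
  refine ⟨k1, ?_⟩
  intro hle
  -- equality case
  have hb1pos : 0 < Nat.card (Cfsg.omegaOneCenter p Q ⊓ O : Subgroup G) := Nat.card_pos
  have hkk : Nat.card (Cfsg.omegaOneCenter p Q ⊓ O : Subgroup G) * O.relIndex (zc Q) ≤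
      Nat.card (Cfsg.omegaOneCenter p Q) := k2.trans hle
  have hXle : (zc Q ⊓ O) ⊔ Cfsg.omegaOneCenter p Q ≤ zc Q := sup_le inf_le_left hA1le
  have c4 := Cfsg.Agent.Lib.Helper3.PU2770.card_mul_card_le_sup_inf (zc Q ⊓ O)
    (Cfsg.omegaOneCenter p Q)
  have hinf2 : (zc Q ⊓ O) ⊓ Cfsg.omegaOneCenter p Q = Cfsg.omegaOneCenter p Q ⊓ O := by
    apply le_antisymm
    · exact le_inf inf_le_right (inf_le_left.trans inf_le_right)
    · exact le_inf (le_inf (inf_le_left.trans hA1le) inf_le_right) inf_le_left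
  rw [hinf2] at c4
  have hXcard : Nat.card (zc Q) ≤ Nat.card ((zc Q ⊓ O) ⊔ Cfsg.omegaOneCenter p Q : Subgroup G) := by
    apply Nat.le_of_mul_le_mul_right _ hb1pos
    calc Nat.card (zc Q) * Nat.card (Cfsg.omegaOneCenter p Q ⊓ O : Subgroup G)
        = Nat.card (zc Q ⊓ O : Subgroup G) *
            (Nat.card (Cfsg.omegaOneCenter p Q ⊓ O : Subgroup G) * O.relIndex (zc Q)) := by
          rw [← hz]; ring
      _ ≤ Nat.card (zc Q ⊓ O : Subgroup G) * Nat.card (Cfsg.omegaOneCenter p Q) :=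
          Nat.mul_le_mul_left _ hkk
      _ ≤ _ := c4
  exact Subgroup.eq_of_le_of_card_ge hXle hXcard

end Cfsg.Agent.Lib.Helper8.CLP8
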