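import Mathlib
import Cfsg.Prelude.Def_Balance
import Cfsg.Agent.Lib.Helper8.CompCent2
set_option autoImplicit false
set_option linter.style.haveILetI false

/-! Case B: the component is moved by `x`. Orbit facts. -/

namespace Cfsg.Agent.Lib.Helper8.CompCent

open Cfsg

variable {G : Type*} [Group G] {p : ℕ} [Fact p.Prime]

/-- The conjugate of `L` by `x ^ i`. -/
abbrev Lc (p : ℕ) (x : G) (L : Subgroup G) (i : ZMod p) : Subgroup G :=
  L.map (MulAut.conj (x ^ i.val)).toMonoidHom

omit [Fact p.Prime] in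
theorem cj_mem_Lc (x : G) (L : Subgroup G) (i : ZMod p) (l : ↥L) : cj p x L i l ∈ Lc p x L i :=
  ⟨l, l.2, rfl⟩

theorem map_conj_mul (a b : G) (L : Subgroup G) :
    (L.map (MulAut.conj b).toMonoidHom).map (MulAut.conj a).toMonoidHom =
      L.map (MulAut.conj (a * b)).toMonoidHom := by
  rw [Subgroup.map_map]
  congr 1
  ext z
  simp [MulAut.conj_apply, mul_assoc]

theorem Lc_add {x : G} (hx : x ^ p = 1) (L : Subgroup G) (i j : ZMod p) :
    (Lc p x L i).map (MulAut.conj (x ^ j.val)).toMonoidHom = Lc p x L (i + j) := by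
  unfold Lc
  rw [map_conj_mul, add_comm i j, Cfsg.Agent.Lib.Helper7.pow_val_add hx]

theorem Lc_zero (x : G) (L : Subgroup G) : Lc p x L 0 = L := by
  unfold Lc
  rw [ZMod.val_zero, pow_zero]
  ext z
  simp [Subgroup.mem_map]

/-- If a nontrivial power of `x` normalizes `L` then so does `x`. -/
theorem mem_normalizer_of_pow {x : G} (hx : x ^ p = 1) {L : Subgroup G} {k : ZMod p}
    (hk : k ≠ 0) (h : x ^ k.val ∈ Subgroup.normalizer (L : Set G)) :
    x ∈ Subgroup.normalizer (L : Set G) := by
  have e : x = (x ^ k.val) ^ (k⁻¹).val := by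
    rw [← Cfsg.Agent.Lib.Helper7.pow_val_mul hx, mul_inv_cancel₀ hk,
      Cfsg.Agent.Lib.Helper7.pow_val_one]
  rw [e]
  exact Subgroup.pow_mem _ h _

theorem Lc_injective {x : G} (hx : x ^ p = 1) {L : Subgroup G}
    (hxL : x ∉ Subgroup.normalizer (L : Set G)) {i j : ZMod p} (h : Lc p x L i = Lc p x L j) :
    i = j := by
  by_contra hij
  apply hxL
  have hk : j - i ≠ 0 := sub_ne_zero.2 (Ne.symm hij)
  apply mem_normalizer_of_pow hx hk
  rw [Subgroup.mem_normalizer_iff_map_conj_eq]
  have h1 := congrArg (fun K : Subgroup G => K.map (MulAut.conj (x ^ (-i).val)).toMonoidHom) h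
  simp only [Lc_add hx] at h1
  rw [add_neg_cancel, Lc_zero] at h1
  rw [sub_eq_add_neg]
  exact h1.symm

/-- The conjugates of a component not normalized by `x` commute pairwise. -/
theorem comm_of_isComponent {x : G} (hx : x ^ p = 1) {L : Subgroup G} (hL : IsComponent L)
    (hxL : x ∉ Subgroup.normalizer (L : Set G)) : Comm p x L := by
  intro i j hij a b
  have hi : IsComponent (Lc p x L i) := Cfsg.Agent.Lib.Helper2.isComponent_conj _ hL
  have hj : IsComponent (Lc p x L j) := Cfsg.Agent.Lib.Helper2.isComponent_conj _ hL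
  rcases Cfsg.Agent.Lib.Helper2.isComponent_eq_or_commutator_eq_bot hi hj with h | h
  · exact absurd (Lc_injective hx hxL h) hij
  · have h1 := Subgroup.commutator_eq_bot_iff_le_centralizer.1 h (cj_mem_Lc x L i a)
    rw [Subgroup.mem_centralizer_iff] at h1
    exact (h1 _ (cj_mem_Lc x L j b)).symm

end Cfsg.Agent.Lib.Helper8.CompCent
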