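import Mathlib
import Cfsg.Prelude.Def_Balance
import Cfsg.Agent.Lib.Helper8.SigFun
import Cfsg.Agent.Lib.Helper8.Hyperplane
import Cfsg.Agent.Lib.Helper1.CoprimeSylow
set_option autoImplicit false
set_option linter.style.haveILetI false

namespace Cfsg.Agent.Lib.Helper8.SigFun

open Cfsg

variable {G : Type*} [Group G]

theorem le_normalizer_of_conj_mem' [Finite G] {A U : Subgroup G}
    (h : ∀ b ∈ A, ∀ u ∈ U, b * u * b⁻¹ ∈ U) : A ≤ Subgroup.normalizer (U : Set G) := by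
  intro a ha
  exact zpowers_le_normalizer (h a ha) (Subgroup.mem_zpowers a)

theorem conj_mem_of_le_normalizer {A U : Subgroup G}
    (h : A ≤ Subgroup.normalizer (U : Set G)) : ∀ b ∈ A, ∀ u ∈ U, b * u * b⁻¹ ∈ U :=
  fun b hb u hu => (Subgroup.mem_normalizer_iff.1 (h hb) u).1 hu

variable {p : ℕ} {A : Subgroup G} {θ : G → Subgroup G}

theorem fam_of_le {U V : Subgroup G} (hU : U ∈ signalizerFamily p A θ) (hVU : V ≤ U)
    (hV : ∀ b ∈ A, ∀ v ∈ V, b * v * b⁻¹ ∈ V) : V ∈ signalizerFamily p A θ := by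
  obtain ⟨hs, hp, _, hθ⟩ := hU
  refine ⟨?_, ?_, hV, ?_⟩
  · exact Group.isSolvable_of_isSolvable_injective (Subgroup.inclusion_injective hVU)
  · intro hd
    exact hp (hd.trans (Subgroup.card_dvd_of_le hVU))
  · intro a ha ha1
    exact (inf_le_inf_right _ hVU).trans (hθ a ha ha1)

theorem theta_mem_fam (hθ : IsSolvableSignalizerFunctor p A θ) {a : G} (ha : a ∈ A)
    (ha1 : a ≠ 1) : θ a ∈ signalizerFamily p A θ := by
  obtain ⟨⟨_, h2, h3, h4⟩, h5⟩ := hθ
  exact ⟨h5 a ha ha1, h2 a ha ha1, h3 a ha ha1, fun b hb hb1 => h4 a ha ha1 b hb hb1⟩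

theorem inf_centralizer_le_signalizerInf {U : Subgroup G} (hU : U ∈ signalizerFamily p A θ) :
    U ⊓ Subgroup.centralizer (A : Set G) ≤ signalizerInf A θ := by
  unfold signalizerInf
  refine le_iInf ?_
  rintro ⟨a, ha, ha1⟩
  refine le_trans ?_ (hU.2.2.2 a ha ha1)
  exact inf_le_inf_left _ (Subgroup.centralizer_le (by simpa using ha))

theorem mem_signalizerInf_iff {x : G} :
    x ∈ signalizerInf A θ ↔ ∀ a ∈ A, a ≠ 1 → x ∈ θ a := by
  unfold signalizerInf
  rw [Subgroup.mem_iInf]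
  constructor
  · intro h a ha ha1
    exact h ⟨a, ha, ha1⟩
  · rintro h ⟨a, ha, ha1⟩
    exact h a ha ha1

theorem signalizerInf_le_centralizer (hθ : IsSolvableSignalizerFunctor p A θ) :
    signalizerInf A θ ≤ Subgroup.centralizer (A : Set G) := by
  intro x hx
  rw [Subgroup.mem_centralizer_iff]
  intro b hb
  by_cases hb1 : b = 1
  · rw [hb1]; simp
  · have h1 := hθ.1.1 b hb hb1 (mem_signalizerInf_iff.1 hx b hb hb1)
    exact (Subgroup.mem_centralizer_singleton_iff.1 h1).symm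

/-- Conjugation by an element of `θ(C_G(A))` preserves the family. -/
theorem fam_conj (hθ : IsSolvableSignalizerFunctor p A θ) {U : Subgroup G}
    (hU : U ∈ signalizerFamily p A θ) {c : G} (hc : c ∈ signalizerInf A θ) :
    U.map (MulAut.conj c).toMonoidHom ∈ signalizerFamily p A θ := by
  obtain ⟨hs, hp, hinv, hUθ⟩ := hU
  have hcA := signalizerInf_le_centralizer hθ hc
  rw [Subgroup.mem_centralizer_iff] at hcA
  refine ⟨?_, ?_, ?_, ?_⟩
  · have e := (Subgroup.equivMapOfInjective U (MulAut.conj c).toMonoidHom (MulAut.conj c).injective)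
    exact Group.isSolvable_of_isSolvable_injective (f := e.symm.toMonoidHom) e.symm.injective
  · rw [Subgroup.card_map_of_injective (MulAut.conj c).injective]
    exact hp
  · rintro b hb _ ⟨u, hu, rfl⟩
    refine ⟨b * u * b⁻¹, hinv b hb u hu, ?_⟩
    simp only [MulEquiv.coe_toMonoidHom, MulAut.conj_apply]
    have h1 : b * c = c * b := hcA b hb
    have h2 : b⁻¹ * c⁻¹ = c⁻¹ * b⁻¹ := by
      rw [← mul_inv_rev, ← mul_inv_rev, h1]
    calc c * (b * u * b⁻¹) * c⁻¹ = (c * b) * u * (b⁻¹ * c⁻¹) := by group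
      _ = (b * c) * u * (c⁻¹ * b⁻¹) := by rw [h1, h2]
      _ = b * (c * u * c⁻¹) * b⁻¹ := by group
  · intro a ha ha1
    rintro x ⟨⟨u, hu, rfl⟩, hxa⟩
    have hca : c ∈ θ a := mem_signalizerInf_iff.1 hc a ha ha1
    have hcomm : a * c = c * a := hcA a ha
    have hua : u ∈ U ⊓ Subgroup.centralizer ({a} : Set G) := by
      refine ⟨hu, ?_⟩
      have hxa' := Subgroup.mem_centralizer_singleton_iff.1 hxa
      refine Subgroup.mem_centralizer_singleton_iff.2 ?_
      simp only [MulEquiv.coe_toMonoidHom, MulAut.conj_apply] at hxa'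
      have h3 : c * (u * a) * c⁻¹ = c * (a * u) * c⁻¹ := by
        calc c * (u * a) * c⁻¹ = (c * u * c⁻¹) * (c * a) * c⁻¹ := by group
          _ = (c * u * c⁻¹) * (a * c) * c⁻¹ := by rw [hcomm]
          _ = (c * u * c⁻¹) * a := by group
          _ = a * (c * u * c⁻¹) := hxa'
          _ = (a * c) * u * c⁻¹ := by group
          _ = (c * a) * u * c⁻¹ := by rw [hcomm]
          _ = c * (a * u) * c⁻¹ := by group
      exact mul_left_cancel (mul_right_cancel h3)
    have h4 : u ∈ θ a := hUθ a ha ha1 hua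
    simp only [MulEquiv.coe_toMonoidHom, MulAut.conj_apply]
    exact (θ a).mul_mem ((θ a).mul_mem hca h4) ((θ a).inv_mem hca)

/-- The product of two members of the family, one normalizing the other, is a member. -/
theorem fam_sup [Finite G] [hp : Fact p.Prime] (hAe : ∀ a ∈ A, a ^ p = 1) {X Y : Subgroup G}
    (hX : X ∈ signalizerFamily p A θ) (hY : Y ∈ signalizerFamily p A θ)
    (hn : Y ≤ Subgroup.normalizer (X : Set G)) : X ⊔ Y ∈ signalizerFamily p A θ := by
  obtain ⟨hXs, hXp, hXA, hXθ⟩ := hX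
  obtain ⟨hYs, hYp, hYA, hYθ⟩ := hY
  refine ⟨isSolvable_sup_of_le_normalizer hn hXs hYs, not_dvd_card_sup hn hXp hYp, ?_, ?_⟩
  · intro b hb
    exact conj_mem_sup hn (hXA b hb) (hYA b hb)
  · intro a ha ha1
    refine (inf_centralizer_sup_le (p := p) (hAe a ha) hn hXp hYp (hXA a ha) (hYA a ha)).trans ?_
    exact sup_le (hXθ a ha ha1) (hYθ a ha ha1)

/-- Maximal `q`-members of the family. -/
def IsMaxQ (p : ℕ) (A : Subgroup G) (θ : G → Subgroup G) (q : ℕ) (Q : Subgroup G) : Prop :=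
  Q ∈ signalizerFamily p A θ ∧ IsPGroup q ↥Q ∧
    ∀ R ∈ signalizerFamily p A θ, IsPGroup q ↥R → Q ≤ R → R = Q

theorem exists_isMaxQ_ge [Finite G] {q : ℕ} {R : Subgroup G} (hR : R ∈ signalizerFamily p A θ)
    (hRq : IsPGroup q ↥R) : ∃ Q, IsMaxQ p A θ q Q ∧ R ≤ Q := by
  let S : Set (Subgroup G) := {V | V ∈ signalizerFamily p A θ ∧ IsPGroup q ↥V}
  have hS : S.Finite := Set.toFinite S
  obtain ⟨Q, hRQ, hmax⟩ := hS.exists_le_maximal (show R ∈ S from ⟨hR, hRq⟩)
  refine ⟨Q, ⟨hmax.prop.1, hmax.prop.2, ?_⟩, hRQ⟩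
  intro R' hR' hR'q hQR'
  exact le_antisymm (hmax.le_of_ge ⟨hR', hR'q⟩ hQR') hQR'

theorem map_conj_inv_map_conj' (g : G) (K : Subgroup G) :
    (K.map (MulAut.conj g).toMonoidHom).map (MulAut.conj g⁻¹).toMonoidHom = K := by
  rw [Subgroup.map_map]
  have : (MulAut.conj g⁻¹).toMonoidHom.comp (MulAut.conj g).toMonoidHom = MonoidHom.id G := by
    ext x; simp [MulAut.conj_apply, mul_assoc]
  rw [this, Subgroup.map_id]

theorem isMaxQ_conj (hθ : IsSolvableSignalizerFunctor p A θ) {q : ℕ} {Q : Subgroup G}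
    (hQ : IsMaxQ p A θ q Q) {c : G} (hc : c ∈ signalizerInf A θ) :
    IsMaxQ p A θ q (Q.map (MulAut.conj c).toMonoidHom) := by
  obtain ⟨h1, h2, h3⟩ := hQ
  refine ⟨fam_conj hθ h1 hc, h2.map _, ?_⟩
  intro R hR hRq hle
  have hc' : c⁻¹ ∈ signalizerInf A θ := Subgroup.inv_mem _ hc
  have h4 := h3 _ (fam_conj hθ hR hc') (hRq.map _) (by
    have := Subgroup.map_mono (f := (MulAut.conj c⁻¹).toMonoidHom) hle
    rwa [map_conj_inv_map_conj'] at this)
  rw [← h4]
  have := map_conj_inv_map_conj' c⁻¹ R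
  rw [inv_inv] at this
  exact this.symm

end Cfsg.Agent.Lib.Helper8.SigFun
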