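import Mathlib
import Cfsg.Prelude.Def_Balance
import Cfsg.Agent.Lib.Helper8.CompCent3
import Cfsg.Agent.Lib.Helper8.SigFun2
set_option autoImplicit false
set_option linter.style.haveILetI false

/-! Case B: the diagonal is a component of `C_G(x)`, hence centralized by `O_{p'}(C_G(x))`. -/

namespace Cfsg.Agent.Lib.Helper8.CompCent

open Cfsg

variable {G : Type*} [Group G] {p : ℕ} [Fact p.Prime]

theorem diag_mem_centralizer {x : G} (hx : x ^ p = 1) {L : Subgroup G} (h : Comm p x L)
    (l : ↥L) : diag h l ∈ Subgroup.centralizer ({x} : Set G) := by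
  refine Subgroup.mem_centralizer_singleton_iff.2 ?_
  have := conj_diag hx h l
  calc diag h l * x = (x * diag h l * x⁻¹) * x := by rw [this]
    _ = x * diag h l := by group

theorem diag_mem_layer {x : G} {L : Subgroup G} (hL : IsComponent L) (h : Comm p x L)
    (l : ↥L) : diag h l ∈ layer G := by
  rw [diag_apply]
  apply Subgroup.noncommProd_mem
  intro i _
  exact Cfsg.Agent.Lib.Helper2.le_layer (Cfsg.Agent.Lib.Helper2.isComponent_conj _ hL)
    (cj_mem_Lc x L i l)

theorem ker_diag_le_center {x : G} {L : Subgroup G} (hL : IsComponent L) (h : Comm p x L) :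
    (diag h).ker ≤ Subgroup.center ↥L := by
  rcases Cfsg.Agent.Lib.Helper2.isQuasisimple_normal_eq_top_or_le_center hL.2 (diag h).ker
    with h1 | h1
  · exfalso
    apply Cfsg.Agent.Lib.Helper2.isComponent_not_commutative hL
    rw [Subgroup.commutator_eq_bot_iff_le_centralizer]
    intro l hl
    rw [Subgroup.mem_centralizer_iff]
    intro l' hl'
    obtain ⟨r, hr, hcomm⟩ := diag_eq_mul h ⟨l, hl⟩
    have h2 : diag h ⟨l, hl⟩ = 1 := by
      have : (⟨l, hl⟩ : ↥L) ∈ (diag h).ker := by rw [h1]; exact Subgroup.mem_top _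
      exact this
    rw [h2] at hr
    have h3 : l = r⁻¹ := eq_inv_of_mul_eq_one_left hr.symm
    have h4 : Commute l' r⁻¹ := (hcomm l' hl').inv_right
    rw [h3]
    exact h4.eq
  · exact h1

theorem isQuasisimple_range_diag {x : G} {L : Subgroup G} (hL : IsComponent L)
    (h : Comm p x L) : IsQuasisimple ↥(diag h).range := by
  apply Cfsg.Agent.Lib.Helper8.PComp.isQuasisimple_of_surjective hL.2 (diag h).rangeRestrict
    (diag h).rangeRestrict_surjective
  rw [MonoidHom.ker_rangeRestrict]
  exact ker_diag_le_center hL h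

theorem range_diag_le_centralizer {x : G} (hx : x ^ p = 1) {L : Subgroup G} (h : Comm p x L) :
    (diag h).range ≤ Subgroup.centralizer ({x} : Set G) := by
  rintro _ ⟨l, rfl⟩
  exact diag_mem_centralizer hx h l

theorem range_diag_le_layer {x : G} {L : Subgroup G} (hL : IsComponent L) (h : Comm p x L) :
    (diag h).range ≤ layer G := by
  rintro _ ⟨l, rfl⟩
  exact diag_mem_layer hL h l

theorem centralizer_le_normalizer' (L : Subgroup G) :
    Subgroup.centralizer (L : Set G) ≤ Subgroup.normalizer (L : Set G) := by
  intro g hg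
  rw [Subgroup.mem_centralizer_iff] at hg
  rw [Subgroup.mem_normalizer_iff]
  intro z
  constructor
  · intro hz
    have : g * z * g⁻¹ = z := by rw [← hg z hz]; group
    rw [this]; exact hz
  · intro hz
    have h1 := hg _ hz
    have : z = g * z * g⁻¹ := by
      calc z = g⁻¹ * (g * z * g⁻¹ * g) := by group
        _ = g⁻¹ * (g * (g * z * g⁻¹)) := by rw [h1]
        _ = g * z * g⁻¹ := by group
    rw [this]; exact hz

/-- The layer normalizes each component. -/
theorem layer_le_normalizer {L : Subgroup G} (hL : IsComponent L) :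
    layer G ≤ Subgroup.normalizer (L : Set G) := by
  unfold layer
  apply sSup_le
  intro K hK
  rcases Cfsg.Agent.Lib.Helper2.isComponent_eq_or_commutator_eq_bot hK hL with h | h
  · rw [h]; exact Subgroup.le_normalizer
  · exact (Subgroup.commutator_eq_bot_iff_le_centralizer.1 h).trans
      (centralizer_le_normalizer' L)

/-- The range of the diagonal is a component of `C_G(x)`. -/
theorem isComponent_range_diag [Finite G] {x : G} (hx : x ^ p = 1) {L : Subgroup G}
    (hL : IsComponent L) (h : Comm p x L) :
    IsComponent ((diag h).range.subgroupOf (Subgroup.centralizer ({x} : Set G))) := by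
  have hDC := range_diag_le_centralizer hx h
  have hDE := range_diag_le_layer hL h
  refine ⟨?_, ?_⟩
  · haveI : (layer G).Normal := Cfsg.Agent.Lib.Helper2.layer_normal
    have hEn : ((layer G).subgroupOf (Subgroup.centralizer ({x} : Set G))).Normal :=
      Subgroup.Normal.subgroupOf inferInstance _
    refine Subgroup.IsSubnormal.step _ ((layer G).subgroupOf (Subgroup.centralizer ({x} : Set G)))
      ?_ hEn.isSubnormal ?_
    · intro z hz
      exact Subgroup.mem_subgroupOf.2 (hDE (Subgroup.mem_subgroupOf.1 hz))
    · rw [Subgroup.normal_subgroupOf_iff_le_normalizer]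
      · apply Cfsg.Agent.Lib.Helper8.SigFun.le_normalizer_of_conj_mem'
        intro g hg z hz
        rw [Subgroup.mem_subgroupOf] at hg hz ⊢
        obtain ⟨l, hl⟩ := hz
        have hgL : (g : G) ∈ Subgroup.normalizer (L : Set G) := layer_le_normalizer hL hg
        have hgx : Commute (g : G) x :=
          Subgroup.mem_centralizer_singleton_iff.1 g.2
        have hgl : (g : G) * (l : G) * (g : G)⁻¹ ∈ L :=
          (Subgroup.mem_normalizer_iff.1 hgL _).1 l.2
        refine ⟨⟨_, hgl⟩, ?_⟩
        rw [← conj_diag_of_commute h hgx l hgl, hl]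
        simp
      · intro z hz
        exact Subgroup.mem_subgroupOf.2 (hDE (Subgroup.mem_subgroupOf.1 hz))
  · exact Cfsg.Agent.Lib.Helper2.isQuasisimple_of_mulEquiv
      (Subgroup.subgroupOfEquivOfLe hDC) (isQuasisimple_range_diag hL h)

end Cfsg.Agent.Lib.Helper8.CompCent
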