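import Mathlib
import Cfsg.Prelude.Def_Balance
import Cfsg.Agent.Lib.Helper8.CompCent4
set_option autoImplicit false
set_option linter.style.haveILetI false

/-! Case B concluded. -/

namespace Cfsg.Agent.Lib.Helper8.CompCent

open Cfsg

variable {G : Type*} [Group G] {p : ℕ} [hp : Fact p.Prime]

/-- `O_{p'}(C_G(x))` centralizes the diagonal. -/
theorem commute_diag_of_mem [Finite G] (hO : pPrimeCore p G = ⊥) {x : G} (hx : x ^ p = 1)
    {L : Subgroup G} (hL : IsComponent L) (h : Comm p x L) {w : G}
    (hw : w ∈ centralizerPPrimeCore p x) (l : ↥L) : Commute w (diag h l) := by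
  have hD := isComponent_range_diag hx hL h
  have hDC := range_diag_le_centralizer hx h
  have hWn : (pPrimeCore p ↥(Subgroup.centralizer ({x} : Set G))).Normal := inferInstance
  rcases Cfsg.Agent.Lib.Helper2.isComponent_le_or_commutator_eq_bot hD hWn.isSubnormal
    with h1 | h1
  · exfalso
    apply not_coprime_of_isComponent hO hL
    haveI := hL.2.1
    apply Cfsg.Agent.Lib.Helper8.PComp.card_coprime_of_perfect_of_center_index hL.2.1 p
    have h2 : (Nat.card ↥((diag h).range.subgroupOf
        (Subgroup.centralizer ({x} : Set G)))).Coprime p :=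
      Nat.Coprime.coprime_dvd_left (Subgroup.card_dvd_of_le h1)
        (Cfsg.Agent.Lib.Helper1.pPrimeCore_card_coprime p)
    rw [Nat.card_congr (Subgroup.subgroupOfEquivOfLe hDC).toEquiv, ← Subgroup.index_ker] at h2
    exact Nat.Coprime.coprime_dvd_left
      (Subgroup.index_dvd_of_le (ker_diag_le_center hL h)) h2
  · obtain ⟨w', hw', rfl⟩ := hw
    have h2 := Subgroup.commutator_eq_bot_iff_le_centralizer.1 h1 hw'
    rw [Subgroup.mem_centralizer_iff] at h2
    have hz : (⟨diag h l, hDC ⟨l, rfl⟩⟩ : ↥(Subgroup.centralizer ({x} : Set G))) ∈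
        (diag h).range.subgroupOf (Subgroup.centralizer ({x} : Set G)) :=
      Subgroup.mem_subgroupOf.2 ⟨l, rfl⟩
    have h3 := h2 _ hz
    have h4 := congrArg Subtype.val h3
    simp only [Subgroup.coe_mul] at h4
    exact h4.symm


/-- The conjugate of `L` by `w` is one of the `Lc i`. -/
theorem exists_map_conj_eq_Lc [Finite G] {x : G} {L : Subgroup G} (hL : IsComponent L)
    (h : Comm p x L) {w : G} (hw : ∀ l : ↥L, Commute w (diag h l)) :
    ∃ i : ZMod p, L.map (MulAut.conj w).toMonoidHom = Lc p x L i := by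
  by_contra hcon
  push Not at hcon
  have hLw : IsComponent (L.map (MulAut.conj w).toMonoidHom) :=
    Cfsg.Agent.Lib.Helper2.isComponent_conj _ hL
  apply Cfsg.Agent.Lib.Helper2.isComponent_not_commutative hL
  rw [Subgroup.commutator_eq_bot_iff_le_centralizer]
  intro l' hl'
  rw [Subgroup.mem_centralizer_iff]
  intro l hl
  -- `m = w l' w⁻¹` commutes with the diagonal of `l`
  have hm : Commute (w * l' * w⁻¹) (diag h ⟨l, hl⟩) := by
    apply commute_diag
    intro i
    have hi : IsComponent (Lc p x L i) := Cfsg.Agent.Lib.Helper2.isComponent_conj _ hL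
    rcases Cfsg.Agent.Lib.Helper2.isComponent_eq_or_commutator_eq_bot hLw hi with h1 | h1
    · exact absurd h1 (hcon i)
    · have h2 := Subgroup.commutator_eq_bot_iff_le_centralizer.1 h1
        (show w * l' * w⁻¹ ∈ L.map (MulAut.conj w).toMonoidHom from ⟨l', hl', rfl⟩)
      rw [Subgroup.mem_centralizer_iff] at h2
      exact (h2 _ (cj_mem_Lc x L i ⟨l, hl⟩)).symm
  have hwd := hw ⟨l, hl⟩
  have hl'd : Commute l' (diag h ⟨l, hl⟩) := by
    have e : l' = w⁻¹ * (w * l' * w⁻¹) * w := by group
    rw [e]
    exact (hwd.inv_left.mul_left hm).mul_left hwd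
  obtain ⟨r, hr, hcomm⟩ := diag_eq_mul h ⟨l, hl⟩
  rw [hr] at hl'd
  have h3 : l' * (l * r) = l * r * l' := hl'd.eq
  have h4 : r * l' = l' * r := (hcomm l' hl').eq.symm
  have h5 : l' * l * r = l * l' * r := by
    calc l' * l * r = l' * (l * r) := by group
      _ = l * r * l' := h3
      _ = l * (r * l') := by group
      _ = l * (l' * r) := by rw [h4]
      _ = l * l' * r := by group
  exact (mul_right_cancel h5).symm

theorem map_conj_one (L : Subgroup G) : L.map (MulAut.conj (1 : G)).toMonoidHom = L := by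
  ext z
  simp [Subgroup.mem_map]

/-- A `p'`-element centralizing `x` and the diagonal normalizes `L`. -/
theorem mem_normalizer_of_commute [Finite G] {x : G} (hx : x ^ p = 1) {L : Subgroup G}
    (hL : IsComponent L) (hxL : x ∉ Subgroup.normalizer (L : Set G)) (h : Comm p x L) {w : G}
    (hw : ∀ l : ↥L, Commute w (diag h l)) (hwx : Commute w x) {n : ℕ} (hwn : w ^ n = 1)
    (hn : n.Coprime p) : w ∈ Subgroup.normalizer (L : Set G) := by
  obtain ⟨i, hi⟩ := exists_map_conj_eq_Lc hL h hw
  have key : ∀ k : ℕ, L.map (MulAut.conj (w ^ k)).toMonoidHom = Lc p x L ((k : ZMod p) * i) := by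
    intro k
    induction k with
    | zero =>
      rw [pow_zero, Nat.cast_zero, zero_mul, Lc_zero, map_conj_one]
    | succ k ih =>
      have e1 : w ^ (k + 1) = w * w ^ k := pow_succ' w k
      rw [e1, ← map_conj_mul, ih]
      unfold Lc
      rw [map_conj_mul]
      have hc : Commute w (x ^ ((k : ZMod p) * i).val) := hwx.pow_right _
      rw [hc.eq, ← map_conj_mul, hi]
      have := Lc_add hx L i ((k : ZMod p) * i)
      rw [this]
      congr 1
      push_cast
      ring
  have h1 := key n
  rw [hwn, map_conj_one] at h1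
  have h2 : (0 : ZMod p) = (n : ZMod p) * i := by
    apply Lc_injective hx hxL
    rw [Lc_zero]
    exact h1
  have h3 : (n : ZMod p) ≠ 0 := by
    intro h0
    rw [ZMod.natCast_eq_zero_iff] at h0
    have := Nat.Coprime.eq_one_of_dvd hn.symm h0
    exact hp.out.one_lt.ne' this
  have h4 : i = 0 := by
    rcases mul_eq_zero.1 h2.symm with h5 | h5
    · exact absurd h5 h3
    · exact h5
  rw [h4, Lc_zero] at hi
  exact Subgroup.mem_normalizer_iff_map_conj_eq.2 hi

end Cfsg.Agent.Lib.Helper8.CompCent
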