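import Mathlib
import Cfsg.Prelude.Def_Balance
import Cfsg.Agent.Lib.Helper8.CompCent5
set_option autoImplicit false
set_option linter.style.haveILetI false

/-! Components `L` with `[L, x] ≠ L` are centralized by `O_{p'}(C_G(x))`. -/

namespace Cfsg.Agent.Lib.Helper8.CompCent

open Cfsg

variable {G : Type*} [Group G] {p : ℕ} [hp : Fact p.Prime]

/-- Three subgroups: if `[W, L]` centralizes the perfect group `L` then `[L, W] = 1`. -/
theorem commutator_eq_bot_of_commutator_le_centralizer {L W : Subgroup G} (hperf : ⁅L, L⁆ = L)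
    (h : ⁅W, L⁆ ≤ Subgroup.centralizer (L : Set G)) : ⁅L, W⁆ = ⊥ := by
  have h1 : ⁅⁅W, L⁆, L⁆ = ⊥ := Subgroup.commutator_eq_bot_iff_le_centralizer.2 h
  have h2 : ⁅⁅L, W⁆, L⁆ = ⊥ := by rw [Subgroup.commutator_comm L W]; exact h1
  have h3 : ⁅⁅L, L⁆, W⁆ = ⊥ := Subgroup.commutator_commutator_eq_bot_of_rotate h2 h1
  rw [hperf] at h3
  exact h3

/-- Case B: `x` does not normalize `L`. -/
theorem commutator_eq_bot_of_not_mem_normalizer [Finite G] (hO : pPrimeCore p G = ⊥) {x : G}
    (hx : x ^ p = 1) {L : Subgroup G} (hL : IsComponent L)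
    (hxL : x ∉ Subgroup.normalizer (L : Set G)) : ⁅L, centralizerPPrimeCore p x⁆ = ⊥ := by
  have h := comm_of_isComponent hx hL hxL
  have hWC : centralizerPPrimeCore p x ≤ Subgroup.centralizer ({x} : Set G) :=
    Cfsg.Agent.Lib.Helper8.CoreIn.coreIn_le p _
  have hWcard : (Nat.card ↥(centralizerPPrimeCore p x)).Coprime p :=
    Cfsg.Agent.Lib.Helper8.CoreIn.coreIn_card_coprime p _
  have hWd : ∀ w ∈ centralizerPPrimeCore p x, ∀ l : ↥L, Commute w (diag h l) :=
    fun w hw l => commute_diag_of_mem hO hx hL h hw l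
  have hWx : ∀ w ∈ centralizerPPrimeCore p x, Commute w x :=
    fun w hw => Subgroup.mem_centralizer_singleton_iff.1 (hWC hw)
  have hWn : ∀ w ∈ centralizerPPrimeCore p x, w ∈ Subgroup.normalizer (L : Set G) := by
    intro w hw
    have hpow : w ^ Nat.card ↥(centralizerPPrimeCore p x) = 1 := by
      have h2 : (⟨w, hw⟩ : ↥(centralizerPPrimeCore p x)) ^
          Nat.card ↥(centralizerPPrimeCore p x) = 1 := pow_card_eq_one'
      have h3 := congrArg Subtype.val h2
      rw [Subgroup.coe_pow, Subgroup.coe_one] at h3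
      exact h3
    exact mem_normalizer_of_commute hx hL hxL h (hWd w hw) (hWx w hw) hpow hWcard
  apply commutator_eq_bot_of_commutator_le_centralizer
    (Cfsg.Agent.Lib.Helper2.isComponent_perfect hL)
  rw [Subgroup.commutator_le]
  intro w hw l hl
  have hgl : w * l * w⁻¹ ∈ L := (Subgroup.mem_normalizer_iff.1 (hWn w hw) l).1 hl
  have e1 := conj_diag_of_commute h (hWx w hw) ⟨l, hl⟩ hgl
  have e2 : w * diag h ⟨l, hl⟩ * w⁻¹ = diag h ⟨l, hl⟩ := by
    rw [(hWd w hw ⟨l, hl⟩).eq]; group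
  rw [e2] at e1
  have hker : (⟨w * l * w⁻¹, hgl⟩ : ↥L) * (⟨l, hl⟩ : ↥L)⁻¹ ∈ (diag h).ker := by
    rw [MonoidHom.mem_ker, map_mul, map_inv, ← e1, mul_inv_cancel]
  have hcen := ker_diag_le_center hL h hker
  rw [Subgroup.mem_center_iff] at hcen
  rw [commutatorElement_def]
  refine Subgroup.mem_centralizer_iff.2 ?_
  intro l' hl'
  have := congrArg Subtype.val (hcen ⟨l', hl'⟩)
  simpa using this

/-- If `O_{p'}(G) = 1`, `x` has order `p` and `L` is a component with `[L, x] ≠ L`, then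
`O_{p'}(C_G(x))` centralizes `L`. -/
theorem commutator_centralizerPPrimeCore_eq_bot [Finite G] (hO : pPrimeCore p G = ⊥) {x : G}
    (hx : x ^ p = 1) {L : Subgroup G} (hL : IsComponent L)
    (hne : ⁅L, Subgroup.zpowers x⁆ ≠ L) : ⁅L, centralizerPPrimeCore p x⁆ = ⊥ := by
  by_cases hxL : x ∈ Subgroup.normalizer (L : Set G)
  · exact commutator_eq_bot_of_mem_normalizer hO hL hxL hne
  · exact commutator_eq_bot_of_not_mem_normalizer hO hx hL hxL

end Cfsg.Agent.Lib.Helper8.CompCent
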