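import Mathlib
import Cfsg.Prelude.Def_Local
import Cfsg.Agent.Lib.Helper1.FrattiniAction
import Cfsg.Agent.Lib.Helper1.FittingCentralizer
import Cfsg.Agent.Lib.Helper1.PLengthOne
import Cfsg.Agent.Lib.Helper2.Cores
import Cfsg.Agent.Lib.Helper7.Generation4
import Cfsg.Agent.Lib.Helper8.Hyperplane
set_option autoImplicit false
set_option linter.style.haveILetI false

namespace Cfsg.Agent.Lib.Helper8.QPrime

open Cfsg

variable {G : Type*} [Group G]

/-- The preimage of a characteristic subgroup of the quotient by a characteristic subgroup is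
characteristic. -/
theorem comap_mk_characteristic (N : Subgroup G) [N.Normal] (hN : N.Characteristic)
    (M : Subgroup (G ⧸ N)) (hM : M.Characteristic) :
    (M.comap (QuotientGroup.mk' N)).Characteristic := by
  rw [Subgroup.characteristic_iff_le_comap]
  intro φ x hx
  have hNφ : N.map φ.toMonoidHom = N := Subgroup.characteristic_iff_map_eq.1 hN φ
  have h1 : M ≤ M.comap (QuotientGroup.congr N N φ hNφ).toMonoidHom :=
    Subgroup.characteristic_iff_le_comap.1 hM _
  have h2 := h1 hx
  rw [Subgroup.mem_comap] at h2 ⊢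
  have e : (QuotientGroup.congr N N φ hNφ).toMonoidHom ((QuotientGroup.mk' N) x) =
      (QuotientGroup.mk' N) (φ.toMonoidHom x) := QuotientGroup.congr_mk N N φ hNφ x
  rw [e] at h2
  exact h2

theorem pPrimePCore_characteristic (p : ℕ) : (pPrimePCore p G).Characteristic := by
  unfold pPrimePCore
  exact comap_mk_characteristic _ (Cfsg.Agent.Lib.Helper2.pPrimeCore_characteristic p) _
    (Cfsg.Agent.Lib.Helper2.pCore_characteristic p)


/-- An element killed by two coprime exponents is trivial. -/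
theorem eq_one_of_pow_eq_one_of_coprime {M : Type*} [Group M] {g : M} {m n : ℕ}
    (hm : g ^ m = 1) (hn : g ^ n = 1) (h : m.Coprime n) : g = 1 := by
  rw [← orderOf_eq_one_iff]
  exact Nat.eq_one_of_dvd_coprimes h (orderOf_dvd_of_pow_eq_one hm) (orderOf_dvd_of_pow_eq_one hn)

section main

variable [Finite G] {q : ℕ} [hq : Fact q.Prime] {K : Subgroup G}

/-- An element of `O_{q',q}(K)` of order prime to `q` lies in `O_{q'}(K)`. -/
theorem mem_pPrimeCore_of_pow {z : ↥K} (hz : z ∈ pPrimePCore q ↥K) {n : ℕ} (hn : z ^ n = 1)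
    (hqn : ¬ q ∣ n) : z ∈ pPrimeCore q ↥K := by
  have hz' : (QuotientGroup.mk' (pPrimeCore q ↥K)) z ∈ pCore q (↥K ⧸ pPrimeCore q ↥K) := hz
  obtain ⟨k, hk⟩ := (Cfsg.Agent.Lib.Helper2.pCore_isPGroup (G := ↥K ⧸ pPrimeCore q ↥K) q)
    ⟨_, hz'⟩
  have hk' : ((QuotientGroup.mk' (pPrimeCore q ↥K)) z) ^ q ^ k = 1 := by
    have := congrArg Subtype.val hk
    simpa using this
  have hn' : ((QuotientGroup.mk' (pPrimeCore q ↥K)) z) ^ n = 1 := by
    rw [← map_pow, hn, map_one]
  have hcop : (q ^ k).Coprime n :=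
    Nat.Coprime.pow_left _ ((Nat.Prime.coprime_iff_not_dvd hq.out).2 hqn)
  have h1 := eq_one_of_pow_eq_one_of_coprime hk' hn' hcop
  exact (QuotientGroup.eq_one_iff z).1 h1

end main

end Cfsg.Agent.Lib.Helper8.QPrime
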