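import Mathlib
import Cfsg.Agent.Lib.Helper8.QPrime

set_option autoImplicit false
set_option linter.style.haveILetI false

/-! Key step for: `O_{p'}(C_G(x))` normalizes the components normalized by `x`. -/

namespace Cfsg.Agent.Lib.Helper8.CompNorm

variable {G : Type*} [Group G]

/-- `g` is a `p`-element. -/
def IsPElem (p : ℕ) (g : G) : Prop := ∃ k : ℕ, g ^ (p ^ k) = 1

theorem IsPElem.mul {p : ℕ} {a b : G} (ha : IsPElem p a) (hb : IsPElem p b) (h : Commute a b) :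
    IsPElem p (a * b) := by
  obtain ⟨i, hi⟩ := ha
  obtain ⟨j, hj⟩ := hb
  refine ⟨i + j, ?_⟩
  rw [h.mul_pow, pow_add, pow_mul, hi, one_pow, mul_comm (p ^ i), pow_mul, hj, one_pow, one_mul]

theorem IsPElem.inv {p : ℕ} {a : G} (ha : IsPElem p a) : IsPElem p a⁻¹ := by
  obtain ⟨i, hi⟩ := ha
  exact ⟨i, by rw [inv_pow, hi, inv_one]⟩

theorem IsPElem.conj {p : ℕ} {a : G} (g : G) (ha : IsPElem p a) : IsPElem p (g * a * g⁻¹) := by
  obtain ⟨i, hi⟩ := ha
  exact ⟨i, by rw [conj_pow, hi, mul_one, mul_inv_cancel]⟩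

theorem IsPElem.eq_one {p : ℕ} {W : Subgroup G} [Finite W] (hW : (Nat.card W).Coprime p) {v : G}
    (hv : v ∈ W) (h : IsPElem p v) : v = 1 := by
  obtain ⟨k, hk⟩ := h
  have h2 : v ^ Nat.card W = 1 := by
    have h3 : (⟨v, hv⟩ : ↥W) ^ Nat.card ↥W = 1 := pow_card_eq_one'
    have h4 := congrArg Subtype.val h3
    rw [Subgroup.coe_pow, Subgroup.coe_one] at h4
    exact h4
  exact Cfsg.Agent.Lib.Helper8.QPrime.eq_one_of_pow_eq_one_of_coprime hk h2
    (Nat.Coprime.pow_left k hW.symm)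

theorem pow_card_eq_one_of_mem {W : Subgroup G} [Finite W] {v : G} (hv : v ∈ W) :
    v ^ Nat.card W = 1 := by
  have h3 : (⟨v, hv⟩ : ↥W) ^ Nat.card ↥W = 1 := pow_card_eq_one'
  have h4 := congrArg Subtype.val h3
  rw [Subgroup.coe_pow, Subgroup.coe_one] at h4
  exact h4

theorem commute_conj {a b : G} (g : G) (h : Commute a b) :
    Commute (g * a * g⁻¹) (g * b * g⁻¹) := by
  show g * a * g⁻¹ * (g * b * g⁻¹) = g * b * g⁻¹ * (g * a * g⁻¹)
  calc g * a * g⁻¹ * (g * b * g⁻¹) = g * (a * b) * g⁻¹ := by group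
    _ = g * (b * a) * g⁻¹ := by rw [h.eq]
    _ = g * b * g⁻¹ * (g * a * g⁻¹) := by group

theorem commute_of_conj {a b : G} (g : G) (h : Commute (g * a * g⁻¹) (g * b * g⁻¹)) :
    Commute a b := by
  have := commute_conj g⁻¹ h
  have e1 : g⁻¹ * (g * a * g⁻¹) * g⁻¹⁻¹ = a := by group
  have e2 : g⁻¹ * (g * b * g⁻¹) * g⁻¹⁻¹ = b := by group
  rwa [e1, e2] at this

end Cfsg.Agent.Lib.Helper8.CompNorm
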