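import Mathlib
import Cfsg.Agent.Lib.Helper8.CompNorm1

set_option autoImplicit false
set_option linter.style.haveILetI false

namespace Cfsg.Agent.Lib.Helper8.CompNorm

variable {G : Type*} [Group G]

/-- Case B auxiliary: `s` commutes with `L`. -/
theorem commute_of_caseB [Finite G] {p : ℕ} [hp : Fact p.Prime] {L W : Subgroup G} {w : G}
    (hW : (Nat.card W).Coprime p)
    (h01 : ∀ a ∈ L, ∀ b ∈ L, Commute a (w * b * w⁻¹))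
    (hB : ∀ b ∈ L, w * (w * b * w⁻¹) * w⁻¹ ∈ L) (hp2 : p ≠ 2)
    {s : G} (hsL : s ∈ L) (hs : IsPElem p s)
    (hvW : (w * s * w⁻¹) * (w * (w * s * w⁻¹) * w⁻¹)⁻¹ * ((w * s * w⁻¹) * s⁻¹) ∈ W) :
    ∀ b ∈ L, Commute s b := by
  have hst : Commute s (w * s * w⁻¹) := h01 s hsL s hsL
  have htt' : Commute (w * s * w⁻¹) (w * (w * s * w⁻¹) * w⁻¹) := commute_conj w hst
  have ht'L : w * (w * s * w⁻¹) * w⁻¹ ∈ L := hB s hsL
  have hrL : (w * (w * s * w⁻¹) * w⁻¹)⁻¹ * s⁻¹ ∈ L := L.mul_mem (L.inv_mem ht'L) (L.inv_mem hsL)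
  have htr : Commute (w * s * w⁻¹) ((w * (w * s * w⁻¹) * w⁻¹)⁻¹ * s⁻¹) :=
    (h01 _ hrL s hsL).symm
  have hv_eq : (w * s * w⁻¹) * (w * (w * s * w⁻¹) * w⁻¹)⁻¹ * ((w * s * w⁻¹) * s⁻¹)
      = (w * s * w⁻¹) * (w * s * w⁻¹) * ((w * (w * s * w⁻¹) * w⁻¹)⁻¹ * s⁻¹) := by
    have := (htt'.inv_right).eq
    calc (w * s * w⁻¹) * (w * (w * s * w⁻¹) * w⁻¹)⁻¹ * ((w * s * w⁻¹) * s⁻¹)
        = (w * s * w⁻¹) * ((w * (w * s * w⁻¹) * w⁻¹)⁻¹ * (w * s * w⁻¹)) * s⁻¹ := by group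
      _ = (w * s * w⁻¹) * ((w * s * w⁻¹) * (w * (w * s * w⁻¹) * w⁻¹)⁻¹) * s⁻¹ := by rw [this]
      _ = _ := by group
  rw [hv_eq] at hvW
  have hpow := pow_card_eq_one_of_mem hvW
  have hcomm2 : Commute ((w * s * w⁻¹) * (w * s * w⁻¹))
      ((w * (w * s * w⁻¹) * w⁻¹)⁻¹ * s⁻¹) := htr.mul_left htr
  rw [hcomm2.mul_pow] at hpow
  have hz : ((w * s * w⁻¹) * (w * s * w⁻¹)) ^ Nat.card W ∈ L := by
    have : ((w * s * w⁻¹) * (w * s * w⁻¹)) ^ Nat.card W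
        = (((w * (w * s * w⁻¹) * w⁻¹)⁻¹ * s⁻¹) ^ Nat.card W)⁻¹ := eq_inv_of_mul_eq_one_left hpow
    rw [this]
    exact L.inv_mem (L.pow_mem hrL _)
  have hzz : ((w * s * w⁻¹) * (w * s * w⁻¹)) ^ Nat.card W
      = (w * s * w⁻¹) ^ (2 * Nat.card W) := by
    rw [← pow_two, ← pow_mul]
  rw [hzz] at hz
  have ht : IsPElem p (w * s * w⁻¹) := hs.conj w
  obtain ⟨k, hk⟩ := ht
  have hcop : (2 * Nat.card W).Coprime (orderOf (w * s * w⁻¹)) := by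
    obtain ⟨j, _, hj⟩ := (Nat.dvd_prime_pow hp.out).1 (orderOf_dvd_of_pow_eq_one hk)
    rw [hj]
    apply Nat.Coprime.pow_right
    apply Nat.Coprime.mul_left _ hW
    exact (Nat.coprime_primes Nat.prime_two hp.out).2 (Ne.symm hp2)
  obtain ⟨m, hm⟩ := exists_pow_eq_self_of_coprime hcop
  intro b hb
  apply commute_of_conj w
  rw [← hm]
  exact (h01 _ hz b hb).pow_left m

/-- Key step: a `p`-element `s` of `L` with `s⁻¹ s^x` fixed by `w` is fixed by `w`. -/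
theorem key_step [Finite G] {p : ℕ} [hp : Fact p.Prime] {L W : Subgroup G} {x w : G}
    (hW : (Nat.card W).Coprime p) (hwW : w ∈ W) (hwx : Commute w x)
    (hWn : ∀ u : G, Commute u x → ∀ g ∈ W, u * g * u⁻¹ ∈ W)
    (h01 : ∀ a ∈ L, ∀ b ∈ L, Commute a (w * b * w⁻¹))
    (hAB : (∀ a ∈ L, ∀ b ∈ L, Commute a (w * (w * b * w⁻¹) * w⁻¹)) ∨
      ((∀ b ∈ L, w * (w * b * w⁻¹) * w⁻¹ ∈ L) ∧ p ≠ 2))
    {s : G} (hsL : s ∈ L) (hs : IsPElem p s)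
    (hq : w * (s⁻¹ * (x * s * x⁻¹)) * w⁻¹ = s⁻¹ * (x * s * x⁻¹)) :
    w * s * w⁻¹ = s := by
  have hst : Commute s (w * s * w⁻¹) := h01 s hsL s hsL
  have htt' : Commute (w * s * w⁻¹) (w * (w * s * w⁻¹) * w⁻¹) := commute_conj w hst
  have ht : IsPElem p (w * s * w⁻¹) := hs.conj w
  have ht' : IsPElem p (w * (w * s * w⁻¹) * w⁻¹) := ht.conj w
  -- `x` acts on `s` and `t`
  have hxs : x * s * x⁻¹ = s * (s⁻¹ * (x * s * x⁻¹)) := by group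
  have hxw : x * w = w * x := hwx.eq.symm
  have hxt : x * (w * s * w⁻¹) * x⁻¹ = (w * s * w⁻¹) * (s⁻¹ * (x * s * x⁻¹)) := by
    calc x * (w * s * w⁻¹) * x⁻¹ = (x * w) * s * (x * w)⁻¹ := by group
      _ = w * (x * s * x⁻¹) * w⁻¹ := by rw [hxw]; group
      _ = (w * s * w⁻¹) * (w * (s⁻¹ * (x * s * x⁻¹)) * w⁻¹) := by group
      _ = _ := by rw [hq]
  have hux : Commute (s * (w * s * w⁻¹)⁻¹) x := by
    have h1 : x * (s * (w * s * w⁻¹)⁻¹) * x⁻¹ = s * (w * s * w⁻¹)⁻¹ := by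
      calc x * (s * (w * s * w⁻¹)⁻¹) * x⁻¹
          = (x * s * x⁻¹) * (x * (w * s * w⁻¹) * x⁻¹)⁻¹ := by group
        _ = s * (s⁻¹ * (x * s * x⁻¹)) * ((w * s * w⁻¹) * (s⁻¹ * (x * s * x⁻¹)))⁻¹ := by
            rw [hxt, ← hxs]
        _ = _ := by group
    show s * (w * s * w⁻¹)⁻¹ * x = x * (s * (w * s * w⁻¹)⁻¹)
    calc s * (w * s * w⁻¹)⁻¹ * x = (x * (s * (w * s * w⁻¹)⁻¹) * x⁻¹) * x := by rw [h1]
      _ = _ := by group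
  have hvW : w * ((s * (w * s * w⁻¹)⁻¹) * w⁻¹ * (s * (w * s * w⁻¹)⁻¹)⁻¹) ∈ W :=
    W.mul_mem hwW (hWn _ hux w⁻¹ (W.inv_mem hwW))
  have hv_eq : w * ((s * (w * s * w⁻¹)⁻¹) * w⁻¹ * (s * (w * s * w⁻¹)⁻¹)⁻¹)
      = (w * s * w⁻¹) * (w * (w * s * w⁻¹) * w⁻¹)⁻¹ * ((w * s * w⁻¹) * s⁻¹) := by group
  rw [hv_eq] at hvW
  have hst' : Commute s (w * (w * s * w⁻¹) * w⁻¹) := by
    rcases hAB with hA | ⟨hB, hp2⟩
    · exact hA s hsL s hsL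
    · exact commute_of_caseB hW h01 hB hp2 hsL hs hvW _ (hB s hsL)
  -- `v` is a `p`-element
  have hv : IsPElem p ((w * s * w⁻¹) * (w * (w * s * w⁻¹) * w⁻¹)⁻¹ * ((w * s * w⁻¹) * s⁻¹)) := by
    apply IsPElem.mul (IsPElem.mul ht ht'.inv htt'.inv_right)
      (IsPElem.mul ht hs.inv hst.symm.inv_right)
    apply Commute.mul_left
    · exact Commute.mul_right (Commute.refl _) hst.symm.inv_right
    · exact Commute.mul_right htt'.symm.inv_left hst'.symm.inv_left.inv_right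
  have hv1 := hv.eq_one hW hvW
  rw [← hv_eq] at hv1
  -- `u` is fixed by `w`
  have hu : w * (s * (w * s * w⁻¹)⁻¹) * w⁻¹ = s * (w * s * w⁻¹)⁻¹ := by
    calc w * (s * (w * s * w⁻¹)⁻¹) * w⁻¹
        = (w * ((s * (w * s * w⁻¹)⁻¹) * w⁻¹ * (s * (w * s * w⁻¹)⁻¹)⁻¹)) * (s * (w * s * w⁻¹)⁻¹) := by
          group
      _ = _ := by rw [hv1, one_mul]
  have hy : w * (s⁻¹ * (w * s * w⁻¹)) * w⁻¹ = s⁻¹ * (w * s * w⁻¹) := by
    have e1 : s⁻¹ * (w * s * w⁻¹) = (s * (w * s * w⁻¹)⁻¹)⁻¹ := by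
      rw [mul_inv_rev, inv_inv]
      exact (hst.inv_left).eq
    rw [e1]
    calc w * (s * (w * s * w⁻¹)⁻¹)⁻¹ * w⁻¹ = (w * (s * (w * s * w⁻¹)⁻¹) * w⁻¹)⁻¹ :=
          (conj_inv).symm
      _ = _ := by rw [hu]
  have hpow : ∀ k : ℕ, w ^ k * s * (w ^ k)⁻¹ = s * (s⁻¹ * (w * s * w⁻¹)) ^ k := by
    intro k
    induction k with
    | zero => simp
    | succ k ih =>
      calc w ^ (k + 1) * s * (w ^ (k + 1))⁻¹ = w * (w ^ k * s * (w ^ k)⁻¹) * w⁻¹ := by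
            rw [pow_succ']; group
        _ = w * (s * (s⁻¹ * (w * s * w⁻¹)) ^ k) * w⁻¹ := by rw [ih]
        _ = (w * s * w⁻¹) * (w * (s⁻¹ * (w * s * w⁻¹)) * w⁻¹) ^ k := by
            rw [conj_pow]; group
        _ = (w * s * w⁻¹) * (s⁻¹ * (w * s * w⁻¹)) ^ k := by rw [hy]
        _ = s * ((s⁻¹ * (w * s * w⁻¹)) * (s⁻¹ * (w * s * w⁻¹)) ^ k) := by
            rw [← mul_assoc s, mul_inv_cancel_left]
        _ = _ := by rw [← pow_succ']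
  have h1 := hpow (Nat.card W)
  rw [pow_card_eq_one_of_mem hwW, one_mul, inv_one, mul_one] at h1
  have h2 : (s⁻¹ * (w * s * w⁻¹)) ^ Nat.card W = 1 := by
    have := mul_left_cancel (a := s) (b := 1) (c := (s⁻¹ * (w * s * w⁻¹)) ^ Nat.card W)
      (by rw [mul_one]; exact h1)
    exact this.symm
  have hyp : IsPElem p (s⁻¹ * (w * s * w⁻¹)) := IsPElem.mul hs.inv ht hst.inv_left
  obtain ⟨k, hk⟩ := hyp
  have h3 := Cfsg.Agent.Lib.Helper8.QPrime.eq_one_of_pow_eq_one_of_coprime hk h2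
    (Nat.Coprime.pow_left k hW.symm)
  calc w * s * w⁻¹ = s * (s⁻¹ * (w * s * w⁻¹)) := by group
    _ = s := by rw [h3, mul_one]

end Cfsg.Agent.Lib.Helper8.CompNorm
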