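import Mathlib
import Cfsg.Prelude.Def_Balance
import Cfsg.Agent.Lib.Helper8.CompNorm2
import Cfsg.Agent.Lib.Helper8.CompCent6
import Cfsg.Agent.Lib.Helper7.SylowIn
import Cfsg.Agent.Lib.Helper2.Components2

set_option autoImplicit false
set_option linter.style.haveILetI false

namespace Cfsg.Agent.Lib.Helper8.CompNorm

open Cfsg
open Cfsg.Agent.Lib.Helper7 (IsSylowIn)

variable {G : Type*} [Group G]

theorem commute_of_commutator_eq_bot {L L' : Subgroup G} (h : ⁅L, L'⁆ = ⊥) {a b : G}
    (ha : a ∈ L) (hb : b ∈ L') : Commute a b := by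
  rw [Subgroup.commutator_eq_bot_iff_le_centralizer] at h
  exact ((Subgroup.mem_centralizer_iff.1 (h ha)) b hb).symm

/-- If all elements of a Sylow `p`-subgroup of a component `L` are central, contradiction. -/
theorem false_of_sylow_central [Finite G] {p : ℕ} [hp : Fact p.Prime] (hO : pPrimeCore p G = ⊥)
    {L S : Subgroup G} (hL : IsComponent L) (hS : IsSylowIn p S L)
    (hc : ∀ s ∈ S, ∀ a ∈ L, Commute a s) : False := by
  have hle : S.subgroupOf L ≤ Subgroup.center ↥L := by
    intro s hs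
    rw [Subgroup.mem_center_iff]
    intro a
    apply Subtype.ext
    exact (hc s.1 (Subgroup.mem_subgroupOf.1 hs) a.1 a.2).eq
  have h1 : ¬ p ∣ (S.subgroupOf L).index := hS.2.2
  have h2 : ¬ p ∣ (Subgroup.center ↥L).index :=
    fun h => h1 (h.trans (Subgroup.index_dvd_of_le hle))
  have h3 : ((Subgroup.center ↥L).index).Coprime p :=
    ((Nat.Prime.coprime_iff_not_dvd hp.out).2 h2).symm
  have h4 := Cfsg.Agent.Lib.Helper8.PComp.card_coprime_of_perfect_of_center_index hL.2.1 p h3
  exact Cfsg.Agent.Lib.Helper8.CompCent.not_coprime_of_isComponent hO hL h4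

/-- **(N')**: `O_{p'}(C_G(x))` normalizes every component normalized by `x`. -/
theorem mem_normalizer_of_mem_centralizerPPrimeCore [Finite G] {p : ℕ} [hp : Fact p.Prime]
    (hO : pPrimeCore p G = ⊥) {x : G} (hx : x ^ p = 1) {L : Subgroup G} (hL : IsComponent L)
    (hxL : x ∈ Subgroup.normalizer (L : Set G)) {w : G} (hw : w ∈ centralizerPPrimeCore p x) :
    w ∈ Subgroup.normalizer (L : Set G) := by
  by_contra hwL
  have hWC : centralizerPPrimeCore p x ≤ Subgroup.centralizer ({x} : Set G) :=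
    Cfsg.Agent.Lib.Helper8.CoreIn.coreIn_le p _
  have hWcard : (Nat.card ↥(centralizerPPrimeCore p x)).Coprime p :=
    Cfsg.Agent.Lib.Helper8.CoreIn.coreIn_card_coprime p _
  have hwx : Commute w x := Subgroup.mem_centralizer_singleton_iff.1 (hWC hw)
  have hWn : ∀ u : G, Commute u x → ∀ g ∈ centralizerPPrimeCore p x,
      u * g * u⁻¹ ∈ centralizerPPrimeCore p x := by
    intro u hu g hg
    have huC : u ∈ Subgroup.centralizer ({x} : Set G) :=
      Subgroup.mem_centralizer_singleton_iff.2 hu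
    have := Cfsg.Agent.Lib.Helper8.CoreIn.le_normalizer_coreIn p _ huC
    exact (Subgroup.mem_normalizer_iff.1 this g).1 hg
  -- the conjugates of `L`
  have hL' : IsComponent (L.map (MulAut.conj w).toMonoidHom) :=
    Cfsg.Agent.Lib.Helper2.isComponent_conj w hL
  have hne : L ≠ L.map (MulAut.conj w).toMonoidHom := by
    intro h
    exact hwL (Subgroup.mem_normalizer_iff_map_conj_eq.2 h.symm)
  have hcomm : ⁅L, L.map (MulAut.conj w).toMonoidHom⁆ = ⊥ :=
    (Cfsg.Agent.Lib.Helper2.isComponent_eq_or_commutator_eq_bot hL hL').resolve_left hne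
  have h01 : ∀ a ∈ L, ∀ b ∈ L, Commute a (w * b * w⁻¹) := by
    intro a ha b hb
    exact commute_of_commutator_eq_bot hcomm ha ⟨b, hb, by simp [MulAut.conj_apply]⟩
  have hAB : (∀ a ∈ L, ∀ b ∈ L, Commute a (w * (w * b * w⁻¹) * w⁻¹)) ∨
      ((∀ b ∈ L, w * (w * b * w⁻¹) * w⁻¹ ∈ L) ∧ p ≠ 2) := by
    have e : ∀ b : G, w * (w * b * w⁻¹) * w⁻¹ = (w * w) * b * (w * w)⁻¹ := fun b => by group
    by_cases hB : L.map (MulAut.conj (w * w)).toMonoidHom = L
    · right
      refine ⟨?_, ?_⟩
      · intro b hb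
        rw [e, ← hB]
        exact ⟨b, hb, by rw [MulEquiv.coe_toMonoidHom, MulAut.conj_apply]⟩
      · intro hp2
        subst hp2
        apply hwL
        have hww : w * w ∈ Subgroup.normalizer (L : Set G) :=
          Subgroup.mem_normalizer_iff_map_conj_eq.2 hB
        have hcop : (2 : ℕ).Coprime (orderOf w) := by
          have h1 : orderOf w ∣ Nat.card ↥(centralizerPPrimeCore 2 x) :=
            orderOf_dvd_of_pow_eq_one (pow_card_eq_one_of_mem hw)
          exact (Nat.Coprime.coprime_dvd_left h1 hWcard).symm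
        obtain ⟨m, hm⟩ := exists_pow_eq_self_of_coprime hcop
        rw [← hm, pow_two]
        exact Subgroup.pow_mem _ hww m
    · left
      have hL'' : IsComponent (L.map (MulAut.conj (w * w)).toMonoidHom) :=
        Cfsg.Agent.Lib.Helper2.isComponent_conj (w * w) hL
      have hcomm2 : ⁅L, L.map (MulAut.conj (w * w)).toMonoidHom⁆ = ⊥ :=
        (Cfsg.Agent.Lib.Helper2.isComponent_eq_or_commutator_eq_bot hL hL'').resolve_left
          (fun h => hB h.symm)
      intro a ha b hb
      rw [e]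
      exact commute_of_commutator_eq_bot hcomm2 ha
        ⟨b, hb, by rw [MulEquiv.coe_toMonoidHom, MulAut.conj_apply]⟩
  -- an `x`-invariant Sylow subgroup
  have hxp : IsPGroup p ↥(Subgroup.zpowers x) := by
    rintro ⟨g, hg⟩
    obtain ⟨k, rfl⟩ := Subgroup.mem_zpowers_iff.1 hg
    refine ⟨1, ?_⟩
    apply Subtype.ext
    rw [Subgroup.coe_pow, Subgroup.coe_one, pow_one]
    show (x ^ k) ^ p = 1
    rw [← zpow_natCast, ← zpow_mul, mul_comm, zpow_mul, zpow_natCast, hx, one_zpow]
  obtain ⟨R, hxR, hR⟩ := Cfsg.Agent.Lib.Helper7.exists_isSylowIn_ge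
    (le_sup_right : Subgroup.zpowers x ≤ L ⊔ Subgroup.zpowers x) hxp
  have hMn : L ⊔ Subgroup.zpowers x ≤ Subgroup.normalizer (L : Set G) :=
    sup_le Subgroup.le_normalizer ((Subgroup.zpowers_le).2 hxL)
  have hS : IsSylowIn p (R ⊓ L) L := hR.inf_normal le_sup_left hMn
  have hxR' : x ∈ R := hxR (Subgroup.mem_zpowers x)
  haveI : Group.IsNilpotent ↥R := hR.2.1.isNilpotent
  obtain ⟨n, hn⟩ := (Subgroup.isNilpotent_iff_lowerCentralSeries R).1 inferInstance
  have claim : ∀ j k : ℕ, k + j = n → ∀ s : G, s ∈ L → s ∈ R.lowerCentralSeries k →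
      w * s * w⁻¹ = s := by
    intro j
    induction j with
    | zero =>
      intro k hk s _ hs
      rw [add_zero] at hk
      rw [hk, hn, Subgroup.mem_bot] at hs
      rw [hs, mul_one, mul_inv_cancel]
    | succ j ih =>
      intro k hk s hsL hs
      have hsR : s ∈ R := Subgroup.lowerCentralSeries_le_self R k hs
      have hsp : IsPElem p s := by
        obtain ⟨i, hi⟩ := hR.2.1 ⟨s, hsR⟩
        refine ⟨i, ?_⟩
        have := congrArg Subtype.val hi
        rwa [Subgroup.coe_pow, Subgroup.coe_one] at this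
      have hqL : s⁻¹ * (x * s * x⁻¹) ∈ L :=
        L.mul_mem (L.inv_mem hsL) ((Subgroup.mem_normalizer_iff.1 hxL s).1 hsL)
      have hqc : s⁻¹ * (x * s * x⁻¹) ∈ R.lowerCentralSeries (k + 1) := by
        rw [Subgroup.lowerCentralSeries_succ]
        have h1 := Subgroup.commutator_mem_commutator
          ((R.lowerCentralSeries k).inv_mem hs) hxR'
        rw [commutatorElement_def, inv_inv] at h1
        have e : s⁻¹ * (x * s * x⁻¹) = s⁻¹ * x * s * x⁻¹ := by group
        rw [e]
        exact h1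
      have hq := ih (k + 1) (by omega) _ hqL hqc
      exact key_step hWcard hw hwx hWn h01 hAB hsL hsp hq
  -- conclusion
  refine false_of_sylow_central hO hL hS ?_
  intro s hs a ha
  have h1 : w * s * w⁻¹ = s := claim n 0 (by omega) s hs.2 (by
    rw [Subgroup.lowerCentralSeries_zero]; exact hs.1)
  have h2 := h01 a ha s hs.2
  rwa [h1] at h2

end Cfsg.Agent.Lib.Helper8.CompNorm
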