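import Mathlib
import Cfsg.Prelude.Def_Balance
import Cfsg.Agent.Lib.Helper8.CompNorm3
import Cfsg.Agent.Lib.Helper8.AxB
import Cfsg.Agent.Lib.Helper8.FStar
import Cfsg.Agent.Lib.Helper1.FittingCentralizer

set_option autoImplicit false
set_option linter.style.haveILetI false

namespace Cfsg.Agent.Lib.Helper8.CompNorm

open Cfsg

variable {G : Type*} [Group G]

/-- `O_{p'}(C_G(x))` normalizes every component. -/
theorem centralizerPPrimeCore_le_normalizer [Finite G] {p : ℕ} [hp : Fact p.Prime]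
    (hO : pPrimeCore p G = ⊥) {x : G} (hx : x ^ p = 1) {L : Subgroup G} (hL : IsComponent L) :
    centralizerPPrimeCore p x ≤ Subgroup.normalizer (L : Set G) := by
  by_cases hxL : x ∈ Subgroup.normalizer (L : Set G)
  · intro w hw
    exact mem_normalizer_of_mem_centralizerPPrimeCore hO hx hL hxL hw
  · have h := Cfsg.Agent.Lib.Helper8.CompCent.commutator_eq_bot_of_not_mem_normalizer hO hx hL hxL
    rw [Subgroup.commutator_comm, Subgroup.commutator_eq_bot_iff_le_centralizer] at h
    exact h.trans (Cfsg.Agent.Lib.Helper8.CompCent.centralizer_le_normalizer' L)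

/-- `O_{p'}(C_G(x))` centralizes `O_p(G)`. -/
theorem commutator_pCore_eq_bot [Finite G] {p : ℕ} [hp : Fact p.Prime] {x : G} (hx : x ^ p = 1)
    {Y : Subgroup G} (hY : Y ≤ centralizerPPrimeCore p x) : ⁅pCore p G, Y⁆ = ⊥ := by
  have hWC : centralizerPPrimeCore p x ≤ Subgroup.centralizer ({x} : Set G) :=
    Cfsg.Agent.Lib.Helper8.CoreIn.coreIn_le p _
  have hWcard : (Nat.card ↥(centralizerPPrimeCore p x)).Coprime p :=
    Cfsg.Agent.Lib.Helper8.CoreIn.coreIn_card_coprime p _
  have hQn : (pCore p G).Normal := Cfsg.Agent.Lib.Helper7.pCore_normal p G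
  have hQp : IsPGroup p ↥(pCore p G) := Cfsg.Agent.Lib.Helper7.pCore_isPGroup p G
  have hxp : IsPGroup p ↥(Subgroup.zpowers x) := by
    rintro ⟨g, hg⟩
    obtain ⟨k, rfl⟩ := Subgroup.mem_zpowers_iff.1 hg
    refine ⟨1, ?_⟩
    apply Subtype.ext
    rw [Subgroup.coe_pow, Subgroup.coe_one, pow_one]
    show (x ^ k) ^ p = 1
    rw [← zpow_natCast, ← zpow_mul, mul_comm, zpow_mul, zpow_natCast, hx, one_zpow]
  have hA : (Nat.card ↥Y).Coprime p :=
    Nat.Coprime.coprime_dvd_left (Subgroup.card_dvd_of_le hY) hWcard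
  have hAB : ⁅Y, Subgroup.zpowers x⁆ = ⊥ := by
    rw [Subgroup.commutator_comm, Subgroup.commutator_eq_bot_iff_le_centralizer,
      Subgroup.zpowers_le, Subgroup.mem_centralizer_iff]
    intro y hy
    exact Subgroup.mem_centralizer_singleton_iff.1 (hWC (hY hy))
  refine Cfsg.Agent.Lib.Helper8.thompson_AxB p Y (Subgroup.zpowers x) hxp hA hAB _ (pCore p G) rfl
    hQp ?_ ?_ ?_
  · rw [Subgroup.normalizer_eq_top_iff.2 hQn]; exact le_top
  · rw [Subgroup.normalizer_eq_top_iff.2 hQn]; exact le_top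
  · rintro q ⟨hqQ, hqx⟩
    have hqQ : q ∈ pCore p G := hqQ
    have hqx : q ∈ Subgroup.centralizer (Subgroup.zpowers x : Set G) := hqx
    refine Subgroup.mem_centralizer_iff.2 ?_
    intro y hy
    have hqx' : Commute q x :=
      ((Subgroup.mem_centralizer_iff.1 hqx) x (Subgroup.mem_zpowers x)).symm
    have hqC : q ∈ Subgroup.centralizer ({x} : Set G) :=
      Subgroup.mem_centralizer_singleton_iff.2 hqx'
    have hn := Cfsg.Agent.Lib.Helper8.CoreIn.le_normalizer_coreIn p _ hqC
    have h1 : q * y * q⁻¹ ∈ centralizerPPrimeCore p x :=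
      (Subgroup.mem_normalizer_iff.1 hn y).1 (hY hy)
    have h2 : q * y * q⁻¹ * y⁻¹ ∈ centralizerPPrimeCore p x :=
      Subgroup.mul_mem _ h1 (Subgroup.inv_mem _ (hY hy))
    have h3 : q * y * q⁻¹ * y⁻¹ ∈ pCore p G := by
      have : q * y * q⁻¹ * y⁻¹ = q * (y * q⁻¹ * y⁻¹) := by group
      rw [this]
      exact Subgroup.mul_mem _ hqQ (hQn.conj_mem _ (Subgroup.inv_mem _ hqQ) y)
    have h4 : IsPElem p (q * y * q⁻¹ * y⁻¹) := by
      obtain ⟨i, hi⟩ := hQp ⟨_, h3⟩
      refine ⟨i, ?_⟩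
      have := congrArg Subtype.val hi
      rwa [Subgroup.coe_pow, Subgroup.coe_one] at this
    have h5 := h4.eq_one hWcard h2
    calc y * q = (q * y * q⁻¹ * y⁻¹)⁻¹ * (q * y) := by group
      _ = q * y := by rw [h5, inv_one, one_mul]

/-- Core lemma: a subgroup of `O_{p'}(C_G(x))` centralizing the components `E = [E, x]`
is trivial (when `O_{p'}(G) = 1`). -/
theorem eq_bot_of_centralizes_components [Finite G] {p : ℕ} [hp : Fact p.Prime]
    (hO : pPrimeCore p G = ⊥) {x : G} (hx : x ^ p = 1) {Y : Subgroup G}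
    (hY : Y ≤ centralizerPPrimeCore p x)
    (hE : ∀ E : Subgroup G, IsComponent E → ⁅E, Subgroup.zpowers x⁆ = E → ⁅E, Y⁆ = ⊥) :
    Y = ⊥ := by
  have hWcard : (Nat.card ↥(centralizerPPrimeCore p x)).Coprime p :=
    Cfsg.Agent.Lib.Helper8.CoreIn.coreIn_card_coprime p _
  have hYc : (Nat.card ↥Y).Coprime p :=
    Nat.Coprime.coprime_dvd_left (Subgroup.card_dvd_of_le hY) hWcard
  have h1 : fittingSubgroup G ≤ Subgroup.centralizer (Y : Set G) := by
    rw [Cfsg.Agent.Lib.Helper1.fittingSubgroup_eq_pCore_of_pPrimeCore_eq_bot p hO,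
      ← Subgroup.commutator_eq_bot_iff_le_centralizer]
    exact commutator_pCore_eq_bot hx hY
  have h2 : layer G ≤ Subgroup.centralizer (Y : Set G) := by
    unfold layer
    apply sSup_le
    intro E hEc
    rw [← Subgroup.commutator_eq_bot_iff_le_centralizer]
    by_cases h : ⁅E, Subgroup.zpowers x⁆ = E
    · exact hE E hEc h
    · have := Cfsg.Agent.Lib.Helper8.CompCent.commutator_centralizerPPrimeCore_eq_bot hO hx hEc h
      rw [eq_bot_iff, ← this]
      exact Subgroup.commutator_mono le_rfl hY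
  have h3 : generalizedFittingSubgroup G ≤ Subgroup.centralizer (Y : Set G) := sup_le h2 h1
  have h4 : Y ≤ Subgroup.centralizer (generalizedFittingSubgroup G : Set G) :=
    Subgroup.le_centralizer_iff.1 h3
  have h5 := Cfsg.Agent.Lib.Helper8.centralizer_generalizedFittingSubgroup_le (G := G)
  haveI hFn : (generalizedFittingSubgroup G).Normal :=
    Cfsg.Agent.Lib.Helper8.generalizedFittingSubgroup_normal
  haveI hNn : (Subgroup.centralizer (generalizedFittingSubgroup G : Set G)).Normal :=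
    Subgroup.normal_centralizer
  have hYsn : Y.IsSubnormal := by
    refine Subgroup.IsSubnormal.step Y _ h4 hNn.isSubnormal ?_
    refine ⟨?_⟩
    intro n hn g
    have hcomm : g * n = n * g := by
      apply Subtype.ext
      rw [Subgroup.coe_mul, Subgroup.coe_mul]
      exact ((Subgroup.mem_centralizer_iff.1 g.2) n.1 (h5 n.2)).symm
    rw [hcomm, mul_inv_cancel_right]
    exact hn
  have h6 := Cfsg.Agent.Lib.Helper8.PComp.le_pPrimeCore_of_isSubnormal p hYsn hYc
  rw [hO] at h6
  exact le_bot_iff.1 h6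

end Cfsg.Agent.Lib.Helper8.CompNorm
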