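import Mathlib

set_option autoImplicit false
set_option linter.style.haveILetI false

/-! Lifting centralizers through quotients by normal `p'`-subgroups. -/

namespace Cfsg.Agent.Lib.Helper8.CoprimeLift

variable {C : Type*} [Group C]

/-- the action of `A` by conjugation on the coset `cN`, when `A` centralizes `c` modulo `N`. -/
@[instance_reducible]
def cosetAction (N A : Subgroup C) [N.Normal] (c : C)
    (h : ∀ a ∈ A, c⁻¹ * a * c * a⁻¹ ∈ N) : MulAction ↥A {g : C // c⁻¹ * g ∈ N} where
  smul a g := ⟨(a : C) * g * (a : C)⁻¹, by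
    have h1 := h a a.2
    have h2 : (a : C) * (c⁻¹ * g) * (a : C)⁻¹ ∈ N := Subgroup.Normal.conj_mem inferInstance _ g.2 _
    have e : c⁻¹ * ((a : C) * g * (a : C)⁻¹) =
        (c⁻¹ * a * c * (a : C)⁻¹) * ((a : C) * (c⁻¹ * g) * (a : C)⁻¹) := by group
    rw [e]
    exact N.mul_mem h1 h2⟩
  one_smul g := by
    apply Subtype.ext
    show ((1 : ↥A) : C) * g * ((1 : ↥A) : C)⁻¹ = g
    rw [Subgroup.coe_one]
    group
  mul_smul a b g := by
    apply Subtype.ext
    show ((a * b : ↥A) : C) * g * ((a * b : ↥A) : C)⁻¹ = (a : C) * ((b : C) * g * (b : C)⁻¹) * (a : C)⁻¹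
    rw [Subgroup.coe_mul]
    group

/-- if the `p`-group `A` centralizes `c` modulo the normal `p'`-subgroup `N`, then some element of
`cN` centralizes `A`. -/
theorem exists_mem_coset_commute [Finite C] {p : ℕ} [hp : Fact p.Prime] (N A : Subgroup C)
    [N.Normal] (hN : (Nat.card ↥N).Coprime p) (hA : IsPGroup p ↥A) (c : C)
    (h : ∀ a ∈ A, c⁻¹ * a * c * a⁻¹ ∈ N) :
    ∃ g : C, c⁻¹ * g ∈ N ∧ ∀ a ∈ A, a * g = g * a := by
  letI := cosetAction N A c h
  have hcard : Nat.card {g : C // c⁻¹ * g ∈ N} = Nat.card ↥N := by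
    apply Nat.card_congr
    exact
      { toFun := fun g => ⟨c⁻¹ * g, g.2⟩
        invFun := fun n => ⟨c * n, by rw [inv_mul_cancel_left]; exact n.2⟩
        left_inv := fun g => by
          apply Subtype.ext
          show c * (c⁻¹ * (g : C)) = g
          rw [mul_inv_cancel_left]
        right_inv := fun n => by
          apply Subtype.ext
          show c⁻¹ * (c * (n : C)) = n
          rw [inv_mul_cancel_left] }
  have hnd : ¬ p ∣ Nat.card {g : C // c⁻¹ * g ∈ N} := by
    rw [hcard]
    intro hd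
    have := Nat.Coprime.eq_one_of_dvd hN.symm hd
    exact hp.out.one_lt.ne' this
  obtain ⟨g, hg⟩ := hA.nonempty_fixed_point_of_prime_not_dvd_card _ hnd
  refine ⟨g, g.2, ?_⟩
  intro a ha
  have h1 := hg ⟨a, ha⟩
  have h2 : a * (g : C) * a⁻¹ = g := congrArg Subtype.val h1
  calc a * (g : C) = a * (g : C) * a⁻¹ * a := by group
    _ = (g : C) * a := by rw [h2]

end Cfsg.Agent.Lib.Helper8.CoprimeLift
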