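import Mathlib
import Cfsg.Prelude.Def_Local
import Cfsg.Agent.Lib.Helper8.FStar
import Cfsg.Agent.Lib.Helper8.AxB
import Cfsg.Agent.Lib.Helper7.CharP
import Cfsg.Agent.Lib.Helper1.FittingCentralizer

set_option autoImplicit false
set_option linter.style.haveILetI false

namespace Cfsg.Agent.Lib.Helper8

open Cfsg
open Cfsg.Agent.Lib.Helper7 (pCoreIn CharPIn)

variable {G : Type*} [Group G]

/-- Characteristic `p` in terms of the generalized Fitting subgroup. -/
theorem gfs_eq_pCore_iff [Finite G] (p : ℕ) [hp : Fact p.Prime] :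
    generalizedFittingSubgroup G = pCore p G ↔
      Subgroup.centralizer (pCore p G : Set G) ≤ pCore p G := by
  have hRn : (pCore p G).Normal := Cfsg.Agent.Lib.Helper7.pCore_normal p G
  have hRp : IsPGroup p ↥(pCore p G) := Cfsg.Agent.Lib.Helper7.pCore_isPGroup p G
  have hRsolv : Group.IsSolvable ↥(pCore p G) := by
    haveI := hRp.isNilpotent
    infer_instance
  constructor
  · intro h
    have := centralizer_generalizedFittingSubgroup_le (G := G)
    rwa [h] at this
  · intro h
    -- the layer is trivial
    have hE : layer G = ⊥ := by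
      have h1 : layer G ≤ pCore p G := by
        refine le_trans ?_ h
        rw [← Subgroup.commutator_eq_bot_iff_le_centralizer]
        exact commutator_layer_solvable_normal _ hRsolv
      rw [eq_bot_iff]
      unfold layer
      apply sSup_le
      intro L hL
      exfalso
      have hLR : L ≤ pCore p G := (Cfsg.Agent.Lib.Helper2.le_layer hL).trans h1
      have hs : Group.IsSolvable ↥L :=
        Group.isSolvable_of_isSolvable_injective (Subgroup.inclusion_injective hLR)
      have hpf : Group.IsPerfect ↥L := hL.2.1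
      have hne : Nontrivial ↥L :=
        (Subgroup.nontrivial_iff_ne_bot L).2 (Cfsg.Agent.Lib.Helper2.isComponent_ne_bot hL)
      exact Group.IsPerfect.not_isSolvable ↥L hs
    -- the `p'`-core is trivial
    have hO : pPrimeCore p G = ⊥ := by
      have hOn : (pPrimeCore p G).Normal := Cfsg.Agent.Lib.Helper1.pPrimeCore_normal p
      have hcop : (Nat.card ↥(pPrimeCore p G)).Coprime p :=
        Cfsg.Agent.Lib.Helper2.pPrimeCore_card_coprime p
      have hinf : pPrimeCore p G ⊓ pCore p G = ⊥ := by
        rw [eq_bot_iff]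
        intro x hx
        rw [Subgroup.mem_bot]
        apply Cfsg.Agent.Lib.Helper7.eq_one_of_mem_isPGroup_of_coprime hRp hx.2
        have h1 : orderOf x ∣ Nat.card ↥(pPrimeCore p G) := by
          have := orderOf_dvd_natCard (⟨x, hx.1⟩ : ↥(pPrimeCore p G))
          rwa [Subgroup.orderOf_mk] at this
        exact Nat.Coprime.coprime_dvd_left h1 hcop
      have h1 : ⁅pPrimeCore p G, pCore p G⁆ = ⊥ := by
        rw [eq_bot_iff, ← hinf]
        exact le_inf (Subgroup.commutator_le_left _ _) (Subgroup.commutator_le_right _ _)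
      rw [Subgroup.commutator_eq_bot_iff_le_centralizer] at h1
      rw [eq_bot_iff, ← hinf]
      exact le_inf le_rfl (h1.trans h)
    unfold generalizedFittingSubgroup
    rw [hE, bot_sup_eq]
    exact Cfsg.Agent.Lib.Helper1.fittingSubgroup_eq_pCore_of_pPrimeCore_eq_bot p hO

/-- If `G` has characteristic `p` then so does the normalizer of every `p`-subgroup. -/
theorem charPIn_normalizer [Finite G] (p : ℕ) [hp : Fact p.Prime]
    (hG : Subgroup.centralizer (pCore p G : Set G) ≤ pCore p G) (P : Subgroup G)
    (hP : IsPGroup p ↥P) : CharPIn p (Subgroup.normalizer (P : Set G)) := by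
  set N := Subgroup.normalizer (P : Set G) with hN
  set R := pCoreIn p N with hR
  set Q := pCore p G with hQ
  have hQn : Q.Normal := Cfsg.Agent.Lib.Helper7.pCore_normal p G
  have hQp : IsPGroup p ↥Q := Cfsg.Agent.Lib.Helper7.pCore_isPGroup p G
  have hPR : P ≤ R := Cfsg.Agent.Lib.Helper7.le_pCoreIn Subgroup.le_normalizer hP le_rfl
  have hQNR : Q ⊓ N ≤ R := by
    apply Cfsg.Agent.Lib.Helper7.le_pCoreIn inf_le_right (hQp.to_le inf_le_left)
    apply Cfsg.Agent.Lib.Helper1.le_normalizer_inf _ Subgroup.le_normalizer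
    rw [Subgroup.normalizer_eq_top]; exact le_top
  have hDp : IsPGroup p ↥(N ⊓ Subgroup.centralizer (R : Set G) : Subgroup G) := by
    apply Cfsg.Agent.Lib.Helper7.isPGroup_of_forall_coprime_eq_one
    intro x hxD hx
    obtain ⟨hxN, hxC⟩ := Subgroup.mem_inf.mp hxD
    have hA : (Nat.card ↥(Subgroup.zpowers x)).Coprime p := by rwa [Nat.card_zpowers]
    have hAR : Subgroup.zpowers x ≤ Subgroup.centralizer (R : Set G) := by
      rw [Subgroup.zpowers_le]; exact hxC
    have h1 : ⁅Q, Subgroup.zpowers x⁆ = ⊥ := by
      apply thompson_AxB p (Subgroup.zpowers x) P hP hA _ _ Q rfl hQp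
      · rw [Subgroup.normalizer_eq_top]; exact le_top
      · rw [Subgroup.normalizer_eq_top]; exact le_top
      · have h2 : Q ⊓ Subgroup.centralizer (P : Set G) ≤ R :=
          (inf_le_inf_left _ (Subgroup.centralizer_le_normalizer _)).trans hQNR
        refine h2.trans ?_
        rw [Subgroup.le_centralizer_iff]
        exact hAR
      · rw [Subgroup.commutator_eq_bot_iff_le_centralizer]
        exact hAR.trans (Subgroup.centralizer_le hPR)
    rw [Subgroup.commutator_comm, Subgroup.commutator_eq_bot_iff_le_centralizer] at h1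
    have hxQ : x ∈ Q := hG (h1 (Subgroup.mem_zpowers x))
    exact Cfsg.Agent.Lib.Helper7.eq_one_of_mem_isPGroup_of_coprime hQp hxQ hx
  have hDn : N ≤ Subgroup.normalizer
      ((N ⊓ Subgroup.centralizer (R : Set G) : Subgroup G) : Set G) := by
    apply Cfsg.Agent.Lib.Helper1.le_normalizer_inf Subgroup.le_normalizer
    exact (Cfsg.Agent.Lib.Helper7.le_normalizer_pCoreIn p N).trans
      (Cfsg.Agent.Lib.Helper7.normalizer_le_normalizer_centralizer _)
  exact Cfsg.Agent.Lib.Helper7.le_pCoreIn inf_le_left hDp hDn

end Cfsg.Agent.Lib.Helper8
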