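import Mathlib
import Cfsg.Agent.Lib.Helper8.PComp6
import Cfsg.Agent.Lib.Helper8.CharP
import Cfsg.Agent.Lib.Helper8.Layer
import Cfsg.Agent.Lib.Helper7.PConstrained3
import Cfsg.Agent.Lib.Helper7.Balance
set_option autoImplicit false
set_option linter.style.haveILetI false

namespace Cfsg.Agent.Lib.Helper8.PComp

open Cfsg

variable {X : Type*} [Group X]

theorem pLayer_eq_bot_iff [Finite X] (p : ℕ) [hp : Fact p.Prime] :
    pLayer p X = ⊥ ↔ layer (X ⧸ pPrimeCore p X) = ⊥ := by
  constructor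
  · intro h
    rw [← map_pLayer, h, Subgroup.map_bot]
  · intro h
    unfold pLayer
    rw [sSup_eq_bot]
    intro K hK
    exfalso
    apply Cfsg.Agent.Lib.Helper2.isComponent_ne_bot hK.2.1
    rw [eq_bot_iff, ← h]
    exact Cfsg.Agent.Lib.Helper2.le_layer hK.2.1

theorem map_pPrimePCore (p : ℕ) :
    (pPrimePCore p X).map (QuotientGroup.mk' (pPrimeCore p X)) = pCore p (X ⧸ pPrimeCore p X) := by
  unfold pPrimePCore
  exact Subgroup.map_comap_eq_self_of_surjective (QuotientGroup.mk'_surjective _) _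

/-- A Sylow `p`-subgroup of `O_{p',p}(X)` covers `O_p(X / O_{p'}(X))`. -/
theorem map_sylow_pPrimePCore [Finite X] {p : ℕ} [hp : Fact p.Prime]
    (P : Sylow p ↥(pPrimePCore p X)) :
    ((P : Subgroup ↥(pPrimePCore p X)).map (pPrimePCore p X).subtype).map
      (QuotientGroup.mk' (pPrimeCore p X)) = pCore p (X ⧸ pPrimeCore p X) := by
  set K' := (pPrimeCore p X).subgroupOf (pPrimePCore p X) with hK'
  have hKn : K'.Normal := Subgroup.Normal.subgroupOf inferInstance _
  have htop : (P : Subgroup ↥(pPrimePCore p X)) ⊔ K' = ⊤ := by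
    rw [← Subgroup.index_eq_one]
    have h1 : ((P : Subgroup ↥(pPrimePCore p X)) ⊔ K').index ∣ (P : Subgroup ↥(pPrimePCore p X)).index :=
      Subgroup.index_dvd_of_le le_sup_left
    have h2 : ((P : Subgroup ↥(pPrimePCore p X)) ⊔ K').index ∣ K'.index :=
      Subgroup.index_dvd_of_le le_sup_right
    obtain ⟨j, hj⟩ := IsPGroup.iff_card.mp
      (Cfsg.Agent.Lib.Helper7.isPGroup_pPrimePCore_quotient (G := X) p)
    have hKi : K'.index = p ^ j := by rw [Subgroup.index_eq_card]; exact hj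
    rw [hKi] at h2
    obtain ⟨i, _, hi⟩ := (Nat.dvd_prime_pow hp.out).mp h2
    rcases Nat.eq_zero_or_pos i with h0 | hpos
    · rw [hi, h0, pow_zero]
    · exfalso
      apply P.not_dvd_index
      refine dvd_trans ?_ h1
      rw [hi]
      exact dvd_pow_self p hpos.ne'
  apply le_antisymm
  · rw [← map_pPrimePCore]
    apply Subgroup.map_mono
    rintro _ ⟨x, _, rfl⟩
    exact x.2
  · rw [← map_pPrimePCore]
    rintro _ ⟨m, hm, rfl⟩
    have hmem : (⟨m, hm⟩ : ↥(pPrimePCore p X)) ∈ (P : Subgroup ↥(pPrimePCore p X)) ⊔ K' := by rw [htop]; trivial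
    rw [Subgroup.mem_sup_of_normal_right] at hmem
    obtain ⟨a, ha, k, hk, hak⟩ := hmem
    refine ⟨a.1, ⟨a, ha, rfl⟩, ?_⟩
    have h3 : m = a.1 * k.1 := by
      have := congrArg Subtype.val hak
      simpa using this.symm
    rw [h3, map_mul]
    have h4 : (QuotientGroup.mk' (pPrimeCore p X)) k.1 = 1 := by
      rw [QuotientGroup.mk'_apply, QuotientGroup.eq_one_iff]
      exact Subgroup.mem_subgroupOf.1 hk
    rw [h4, mul_one]

theorem centralizer_pCore_le_of_layer_eq_bot {Y : Type*} [Group Y] [Finite Y] {p : ℕ}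
    [hp : Fact p.Prime] (hO : pPrimeCore p Y = ⊥) (hL : layer Y = ⊥) :
    Subgroup.centralizer (pCore p Y : Set Y) ≤ pCore p Y := by
  rw [← Cfsg.Agent.Lib.Helper8.gfs_eq_pCore_iff]
  unfold generalizedFittingSubgroup
  rw [hL, bot_sup_eq]
  exact Cfsg.Agent.Lib.Helper1.fittingSubgroup_eq_pCore_of_pPrimeCore_eq_bot p hO

theorem layer_eq_bot_of_centralizer_pCore_le {Y : Type*} [Group Y] [Finite Y] {p : ℕ}
    [hp : Fact p.Prime]
    (h : Subgroup.centralizer (pCore p Y : Set Y) ≤ pCore p Y) : layer Y = ⊥ := by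
  unfold layer
  rw [sSup_eq_bot]
  intro L hL
  exfalso
  have hQp : IsPGroup p ↥(pCore p Y) := Cfsg.Agent.Lib.Helper7.pCore_isPGroup p Y
  have hQsolv : Group.IsSolvable ↥(pCore p Y) := by
    haveI := hQp.isNilpotent
    infer_instance
  have h1 : ⁅L, pCore p Y⁆ = ⊥ := Cfsg.Agent.Lib.Helper8.component_commutator_solvable hL hQsolv
    (by rw [Subgroup.normalizer_eq_top]; exact le_top)
  rw [Subgroup.commutator_eq_bot_iff_le_centralizer] at h1
  have h2 : L ≤ pCore p Y := h1.trans h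
  have hs : Group.IsSolvable ↥L :=
    Group.isSolvable_of_isSolvable_injective (Subgroup.inclusion_injective h2)
  have hperf : Group.IsPerfect ↥L := hL.2.1
  have hne : Nontrivial ↥L :=
    (Subgroup.nontrivial_iff_ne_bot L).2 (Cfsg.Agent.Lib.Helper2.isComponent_ne_bot hL)
  exact Group.IsPerfect.not_isSolvable ↥L hs

/-- `p`-constraint is equivalent to the vanishing of the `p`-layer. -/
theorem isPConstrained_iff [Finite X] (p : ℕ) [hp : Fact p.Prime] :
    IsPConstrained p X ↔ pLayer p X = ⊥ := by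
  rw [pLayer_eq_bot_iff]
  have hO : pPrimeCore p (X ⧸ pPrimeCore p X) = ⊥ :=
    Cfsg.Agent.Lib.Helper1.pPrimeCore_quotient_eq_bot p
  constructor
  · intro hc
    apply layer_eq_bot_of_centralizer_pCore_le (p := p)
    obtain P : Sylow p ↥(pPrimePCore p X) := default
    have hP := hc P
    set P' := (P : Subgroup ↥(pPrimePCore p X)).map (pPrimePCore p X).subtype with hP'
    have hP'p : IsPGroup p ↥P' := P.2.map _
    rw [← map_sylow_pPrimePCore P]
    intro ybar hy
    obtain ⟨y, rfl⟩ := QuotientGroup.mk'_surjective _ ybar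
    rw [Subgroup.mem_centralizer_iff] at hy
    have hh : ∀ a ∈ P', y⁻¹ * a * y * a⁻¹ ∈ pPrimeCore p X := by
      intro a ha
      rw [← QuotientGroup.eq_one_iff]
      have h1 := hy ((QuotientGroup.mk' (pPrimeCore p X)) a) ⟨a, ha, rfl⟩
      have h2 : ((y⁻¹ * a * y * a⁻¹ : X) : X ⧸ pPrimeCore p X) =
          ((QuotientGroup.mk' (pPrimeCore p X)) y)⁻¹ * ((QuotientGroup.mk' (pPrimeCore p X)) a *
            (QuotientGroup.mk' (pPrimeCore p X)) y) * ((QuotientGroup.mk' (pPrimeCore p X)) a)⁻¹ := by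
        simp only [QuotientGroup.mk'_apply, QuotientGroup.mk_mul, QuotientGroup.mk_inv, mul_assoc]
      rw [h2, h1]
      group
    obtain ⟨c, hc', d, hd, rfl⟩ := Cfsg.Agent.Lib.Helper7.exists_mul_of_centralizes_mod p
      (pPrimeCore p X) (Cfsg.Agent.Lib.Helper1.pPrimeCore_card_coprime p) P' hP'p y hh
    have hcM : c ∈ pPrimePCore p X := hP hc'
    rw [map_sylow_pPrimePCore P, ← map_pPrimePCore]
    refine ⟨c, hcM, ?_⟩
    rw [map_mul]
    have h4 : (QuotientGroup.mk' (pPrimeCore p X)) d = 1 := by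
      rw [QuotientGroup.mk'_apply, QuotientGroup.eq_one_iff]; exact hd
    rw [h4, mul_one]
  · intro hL P
    have hC := centralizer_pCore_le_of_layer_eq_bot hO hL
    intro x hx
    unfold pPrimePCore
    rw [Subgroup.mem_comap]
    apply hC
    rw [← map_sylow_pPrimePCore P]
    rw [Subgroup.mem_centralizer_iff] at hx ⊢
    rintro _ ⟨a, ha, rfl⟩
    rw [← map_mul, ← map_mul, hx a ha]

end Cfsg.Agent.Lib.Helper8.PComp
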