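import Mathlib

set_option autoImplicit false
set_option linter.style.haveILetI false

namespace Cfsg.Agent.Lib.Helper8

/-- A normal subgroup of a finite perfect group containing all Sylow `r`-subgroups for `r ≠ p`
is the whole group. -/
theorem eq_top_of_sylow_le {L : Type*} [Group L] [Finite L] (hL : Group.IsPerfect L) (p : ℕ)
    [hp : Fact p.Prime] (M : Subgroup L) [M.Normal]
    (h : ∀ r : ℕ, ∀ [Fact r.Prime], r ≠ p → ∀ S : Sylow r L, (S : Subgroup L) ≤ M) : M = ⊤ := by
  -- the index of `M` is a power of `p`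
  have hidx : ∃ k, M.index = p ^ k := by
    refine ⟨_, Nat.eq_prime_pow_of_unique_prime_dvd (Subgroup.index_ne_zero_of_finite) ?_⟩
    intro r hr hrd
    by_contra hne
    haveI : Fact r.Prime := ⟨hr⟩
    obtain S : Sylow r L := default
    have h1 : M.index ∣ (S : Subgroup L).index := Subgroup.index_dvd_of_le (h r hne S)
    exact S.not_dvd_index (hrd.trans h1)
  obtain ⟨k, hk⟩ := hidx
  have hpg : IsPGroup p (L ⧸ M) := IsPGroup.of_card (by rw [← Subgroup.index_eq_card, hk])
  haveI : Group.IsNilpotent (L ⧸ M) := hpg.isNilpotent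
  haveI : Group.IsPerfect (L ⧸ M) := inferInstance
  by_contra hne
  haveI : Nontrivial (L ⧸ M) := by
    rw [← Finite.one_lt_card_iff_nontrivial, ← Subgroup.index_eq_card]
    have h1 : M.index ≠ 1 := fun h1 => hne (Subgroup.index_eq_one.1 h1)
    have h0 : M.index ≠ 0 := Subgroup.index_ne_zero_of_finite
    omega
  exact Group.IsPerfect.not_isSolvable (L ⧸ M) inferInstance

variable {G : Type*} [Group G]

/-- A perfect subgroup `L` lies in a subgroup `D` which it normalizes as soon as the Sylow
`r`-subgroups of `L`, for all primes `r ≠ p`, lie in `D`. -/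
theorem perfect_le_of_sylow_le [Finite G] {L D : Subgroup G} (hL : ⁅L, L⁆ = L) (p : ℕ)
    [hp : Fact p.Prime] (hLD : L ≤ Subgroup.normalizer (D : Set G))
    (h : ∀ r : ℕ, ∀ [Fact r.Prime], r ≠ p → ∀ S : Sylow r ↥L,
      (S : Subgroup ↥L).map L.subtype ≤ D) : L ≤ D := by
  have hperf : Group.IsPerfect ↥L := Subgroup.isPerfect_iff.2 hL
  haveI : (D.subgroupOf L).Normal := by
    have h1 : ((D ⊓ L).subgroupOf L).Normal := by
      apply Subgroup.normal_subgroupOf_of_le_normalizer
      exact (le_inf hLD Subgroup.le_normalizer).trans Subgroup.inf_normalizer_le_normalizer_inf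
    rwa [Subgroup.inf_subgroupOf_right] at h1
  have h1 : D.subgroupOf L = ⊤ := by
    apply eq_top_of_sylow_le hperf p
    intro r _ hr S x hx
    rw [Subgroup.mem_subgroupOf]
    exact h r hr S ⟨x, hx, rfl⟩
  rwa [Subgroup.subgroupOf_eq_top] at h1

end Cfsg.Agent.Lib.Helper8
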