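import Mathlib
import Cfsg.Prelude.Def_Local
import Cfsg.Agent.Lib.Helper8.Layer
import Cfsg.Agent.Lib.Helper8.Misc

set_option autoImplicit false
set_option linter.style.haveILetI false

namespace Cfsg.Agent.Lib.Helper8

open Cfsg

variable {G : Type*} [Group G]

/-- A join of a conjugation-closed family of subgroups is normal. -/
theorem sSup_normal_of_conj (S : Set (Subgroup G))
    (h : ∀ K ∈ S, ∀ g : G, K.map (MulAut.conj g).toMonoidHom ∈ S) : (sSup S).Normal := by
  constructor
  intro n hn g
  have e : Subgroup.map (MulAut.conj g).toMonoidHom (sSup S)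
      = ⨆ N : S, Subgroup.map (MulAut.conj g).toMonoidHom (N : Subgroup G) := by
    rw [sSup_eq_iSup', Subgroup.map_iSup]
  have h1 : Subgroup.map (MulAut.conj g).toMonoidHom (sSup S) ≤ sSup S := by
    rw [e]
    apply iSup_le
    rintro ⟨N, hN⟩
    exact le_sSup (h N hN g)
  exact h1 ⟨n, hn, rfl⟩

/-- Components of a subnormal subgroup are components of the group. -/
theorem isComponent_map_subtype {H : Subgroup G} (hH : H.IsSubnormal) {K : Subgroup ↥H}
    (hK : IsComponent K) : IsComponent (K.map H.subtype) := by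
  have e : ↥K ≃* ↥(K.map H.subtype) := K.equivMapOfInjective H.subtype H.subtype_injective
  exact ⟨hK.1.trans' hH, Cfsg.Agent.Lib.Helper2.isQuasisimple_of_mulEquiv e.symm hK.2⟩

/-- A component of the group contained in a subgroup is a component of that subgroup. -/
theorem isComponent_subgroupOf {H L : Subgroup G} (hL : IsComponent L) (hLH : L ≤ H) :
    IsComponent (L.subgroupOf H) := by
  have e : ↥(L.subgroupOf H) ≃* ↥L := Subgroup.subgroupOfEquivOfLe hLH
  exact ⟨hL.1.subgroupOf, Cfsg.Agent.Lib.Helper2.isQuasisimple_of_mulEquiv e hL.2⟩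

/-- The layer of a subnormal subgroup lies in the layer. -/
theorem layer_map_le {H : Subgroup G} (hH : H.IsSubnormal) :
    (layer ↥H).map H.subtype ≤ layer G := by
  rw [Subgroup.map_le_iff_le_comap]
  unfold layer
  apply sSup_le
  intro K hK
  rw [← Subgroup.map_le_iff_le_comap]
  exact le_sSup (isComponent_map_subtype hH hK)

/-- A component contained in a subgroup lies in the layer of that subgroup. -/
theorem le_layer_map {H L : Subgroup G} (hL : IsComponent L) (hLH : L ≤ H) :
    L ≤ (layer ↥H).map H.subtype := by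
  have h1 : L.subgroupOf H ≤ layer ↥H :=
    Cfsg.Agent.Lib.Helper2.le_layer (isComponent_subgroupOf hL hLH)
  calc L = (L.subgroupOf H).map H.subtype := (Subgroup.map_subgroupOf_eq_of_le hLH).symm
    _ ≤ (layer ↥H).map H.subtype := Subgroup.map_mono h1

/-- A nilpotent normal subgroup of `H` lying in `H` is inside the image of the Fitting
subgroup of `H`. -/
theorem le_fittingSubgroup_map {H N : Subgroup G} (hNH : N ≤ H)
    (hn : H ≤ Subgroup.normalizer (N : Set G)) (hnil : Group.IsNilpotent ↥N) :
    N ≤ (fittingSubgroup ↥H).map H.subtype := by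
  haveI : (N.subgroupOf H).Normal := Subgroup.normal_subgroupOf_of_le_normalizer hn
  have h1 : Group.IsNilpotent ↥(N.subgroupOf H) :=
    (Group.isNilpotent_congr (Subgroup.subgroupOfEquivOfLe hNH)).2 hnil
  have h2 : N.subgroupOf H ≤ fittingSubgroup ↥H := Cfsg.Agent.Lib.Helper2.le_fittingSubgroup h1
  calc N = (N.subgroupOf H).map H.subtype := (Subgroup.map_subgroupOf_eq_of_le hNH).symm
    _ ≤ (fittingSubgroup ↥H).map H.subtype := Subgroup.map_mono h2

end Cfsg.Agent.Lib.Helper8
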