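import Mathlib
import Cfsg.Agent.Lib.Helper8.PComp7
import Cfsg.Agent.Lib.Helper8.LayerSub
import Cfsg.Agent.Lib.Helper8.CoreIn
set_option autoImplicit false
set_option linter.style.haveILetI false

namespace Cfsg.Agent.Lib.Helper8.ExtLayer

open Cfsg Cfsg.Agent.Lib.Helper8.PComp

variable {X : Type*} [Group X]

theorem map_conj_map {Y : Type*} [Group Y] (f : X →* Y) (g : X) (K : Subgroup X) :
    (K.map (MulAut.conj g).toMonoidHom).map f = (K.map f).map (MulAut.conj (f g)).toMonoidHom := by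
  rw [Subgroup.map_map, Subgroup.map_map]
  congr 1
  ext x
  simp [MulAut.conj_apply]

theorem map_conj_inv_map_conj (g : X) (K : Subgroup X) :
    (K.map (MulAut.conj g).toMonoidHom).map (MulAut.conj g⁻¹).toMonoidHom = K := by
  rw [Subgroup.map_map]
  have : (MulAut.conj g⁻¹).toMonoidHom.comp (MulAut.conj g).toMonoidHom = MonoidHom.id X := by
    ext x; simp [MulAut.conj_apply, mul_assoc]
  rw [this, Subgroup.map_id]

theorem map_conj_map_conj_inv (g : X) (K : Subgroup X) :
    (K.map (MulAut.conj g⁻¹).toMonoidHom).map (MulAut.conj g).toMonoidHom = K := by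
  have := map_conj_inv_map_conj g⁻¹ K
  rwa [inv_inv] at this

theorem isSubnormal_map_conj (g : X) {K : Subgroup X} (hK : K.IsSubnormal) :
    (K.map (MulAut.conj g).toMonoidHom).IsSubnormal :=
  hK.map (MulAut.conj g).surjective

/-- Conjugates of `p`-components are `p`-components. -/
theorem isPComponent_conj {p : ℕ} (g : X) {K : Subgroup X} (hK : IsPComponent p K) :
    IsPComponent p (K.map (MulAut.conj g).toMonoidHom) := by
  obtain ⟨hsn, hcomp, hmin⟩ := hK
  refine ⟨isSubnormal_map_conj g hsn, ?_, ?_⟩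
  · rw [map_conj_map]
    exact Cfsg.Agent.Lib.Helper2.isComponent_conj _ hcomp
  · intro H hHsn hHle hHmap
    have h1 : H.map (MulAut.conj g⁻¹).toMonoidHom ≤ K := by
      have := Subgroup.map_mono (f := (MulAut.conj g⁻¹).toMonoidHom) hHle
      rwa [map_conj_inv_map_conj] at this
    have h2 : (H.map (MulAut.conj g⁻¹).toMonoidHom).map (QuotientGroup.mk' (pPrimeCore p X)) =
        K.map (QuotientGroup.mk' (pPrimeCore p X)) := by
      rw [map_conj_map, hHmap, ← map_conj_map, map_conj_inv_map_conj]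
    have h3 := hmin _ (isSubnormal_map_conj g⁻¹ hHsn) h1 h2
    rw [← h3, map_conj_map_conj_inv]

theorem pLayer_normal (p : ℕ) : (pLayer p X).Normal :=
  Cfsg.Agent.Lib.Helper8.sSup_normal_of_conj _ (fun _ hK g => isPComponent_conj g hK)

/-- A Sylow `p`-subgroup covers a `p`-group quotient. -/
theorem sylow_sup_eq_top {Y : Type*} [Group Y] [Finite Y] {p : ℕ} [hp : Fact p.Prime]
    (N : Subgroup Y) [N.Normal] (hq : IsPGroup p (Y ⧸ N)) (P : Sylow p Y) :
    (P : Subgroup Y) ⊔ N = ⊤ := by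
  rw [← Subgroup.index_eq_one]
  have h1 : ((P : Subgroup Y) ⊔ N).index ∣ (P : Subgroup Y).index :=
    Subgroup.index_dvd_of_le le_sup_left
  have h2 : ((P : Subgroup Y) ⊔ N).index ∣ N.index := Subgroup.index_dvd_of_le le_sup_right
  obtain ⟨j, hj⟩ := IsPGroup.iff_card.mp hq
  have hKi : N.index = p ^ j := by rw [Subgroup.index_eq_card]; exact hj
  rw [hKi] at h2
  obtain ⟨i, _, hi⟩ := (Nat.dvd_prime_pow hp.out).mp h2
  rcases Nat.eq_zero_or_pos i with h0 | hpos
  · rw [hi, h0, pow_zero]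
  · exfalso
    apply P.not_dvd_index
    refine dvd_trans ?_ h1
    rw [hi]
    exact dvd_pow_self p hpos.ne'

theorem pPrimeCore_le_pPrimePCore (p : ℕ) : pPrimeCore p X ≤ pPrimePCore p X :=
  Cfsg.Agent.Lib.Helper7.pPrimeCore_le_pPrimePCore p

theorem pPrimePCore_normal (p : ℕ) : (pPrimePCore p X).Normal :=
  Cfsg.Agent.Lib.Helper7.pPrimePCore_normal_inst p

/-- For `m ∈ O_{p',p}(X)` some `p`-power of `m` lies in `O_{p'}(X)`. -/
theorem exists_pow_mem_pPrimeCore (p : ℕ) {m : X} (hm : m ∈ pPrimePCore p X) :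
    ∃ k : ℕ, m ^ (p ^ k) ∈ pPrimeCore p X := by
  have hx : (QuotientGroup.mk' (pPrimeCore p X)) m ∈ pCore p (X ⧸ pPrimeCore p X) := by
    unfold pPrimePCore at hm
    exact Subgroup.mem_comap.mp hm
  obtain ⟨k, hk⟩ := Cfsg.Agent.Lib.Helper7.pCore_isPGroup p (X ⧸ pPrimeCore p X) ⟨_, hx⟩
  refine ⟨k, ?_⟩
  have hk' : ((QuotientGroup.mk' (pPrimeCore p X)) m) ^ (p ^ k) = 1 := by
    have := congrArg Subtype.val hk
    simpa using this
  rw [← map_pow, QuotientGroup.mk'_apply, QuotientGroup.eq_one_iff] at hk'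
  exact hk'

end Cfsg.Agent.Lib.Helper8.ExtLayer
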