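import Mathlib
import Cfsg.Prelude.Def_Local
import Cfsg.Agent.Lib.Helper8.LayerSub

set_option autoImplicit false
set_option linter.style.haveILetI false

namespace Cfsg.Agent.Lib.Helper8

open Cfsg

variable {H H' : Type*} [Group H] [Group H']

theorem map_sSup_le_of_forall (f : H →* H') (S : Set (Subgroup H)) (T : Subgroup H')
    (h : ∀ N ∈ S, N.map f ≤ T) : (sSup S).map f ≤ T := by
  rw [Subgroup.map_le_iff_le_comap]
  apply sSup_le
  intro N hN
  rw [← Subgroup.map_le_iff_le_comap]
  exact h N hN

theorem fittingSubgroup_map_equiv_le (e : H ≃* H') :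
    (fittingSubgroup H).map e.toMonoidHom ≤ fittingSubgroup H' := by
  unfold fittingSubgroup
  apply map_sSup_le_of_forall
  rintro N ⟨hNn, hNnil⟩
  apply le_sSup
  refine ⟨hNn.map _ e.surjective, ?_⟩
  exact (Group.isNilpotent_congr (N.equivMapOfInjective e.toMonoidHom e.injective)).1 hNnil

theorem fittingSubgroup_map_equiv (e : H ≃* H') :
    (fittingSubgroup H).map e.toMonoidHom = fittingSubgroup H' := by
  apply le_antisymm (fittingSubgroup_map_equiv_le e)
  have h := fittingSubgroup_map_equiv_le e.symm
  intro x hx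
  refine ⟨e.symm x, ?_, by simp⟩
  exact h ⟨x, hx, rfl⟩

theorem isComponent_map_mulEquiv (e : H ≃* H') {K : Subgroup H} (hK : IsComponent K) :
    IsComponent (K.map e.toMonoidHom) := by
  refine ⟨hK.1.map e.surjective, ?_⟩
  exact Cfsg.Agent.Lib.Helper2.isQuasisimple_of_mulEquiv
    (K.equivMapOfInjective e.toMonoidHom e.injective).symm hK.2

theorem layer_map_equiv_le (e : H ≃* H') : (layer H).map e.toMonoidHom ≤ layer H' := by
  unfold layer
  apply map_sSup_le_of_forall
  intro K hK
  exact le_sSup (isComponent_map_mulEquiv e hK)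

theorem layer_map_equiv (e : H ≃* H') : (layer H).map e.toMonoidHom = layer H' := by
  apply le_antisymm (layer_map_equiv_le e)
  have h := layer_map_equiv_le e.symm
  intro x hx
  refine ⟨e.symm x, ?_, by simp⟩
  exact h ⟨x, hx, rfl⟩

theorem generalizedFittingSubgroup_map_equiv (e : H ≃* H') :
    (generalizedFittingSubgroup H).map e.toMonoidHom = generalizedFittingSubgroup H' := by
  unfold generalizedFittingSubgroup
  rw [Subgroup.map_sup, layer_map_equiv, fittingSubgroup_map_equiv]

theorem generalizedFittingSubgroup_eq_top_of_equiv (e : H ≃* H')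
    (h : generalizedFittingSubgroup H = ⊤) : generalizedFittingSubgroup H' = ⊤ := by
  rw [← generalizedFittingSubgroup_map_equiv e, h]
  exact Subgroup.map_top_of_surjective _ e.surjective

end Cfsg.Agent.Lib.Helper8
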