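import Mathlib
import Cfsg.Prelude.Def_OddOrderLocal
import Cfsg.Prelude.Def_Local
import Cfsg.Prelude.Def_CaseTheorems
import Cfsg.Agent.Lib.Helper7.PCoreSub
import Cfsg.Agent.Lib.Helper1.PConstrainedQuotient

/-!
# Farm CTT (S3246): shared definitions (sorry-free; units import this file).

`Cons H Q`: inside the ambient group, `Q` is a normal self-centralizing 2-subgroup of `H`.
`Hyp G`: every involution centralizer lies in some `H` carrying such a `Q`.
-/

set_option autoImplicit false

namespace Cfsg.Agent.Lib.Helper8.CTT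

open Cfsg Cfsg.Agent.Lib.Helper7

/-- Inside the ambient group `G`: `Q` is a normal 2-subgroup of `H` with `C_H(Q) ≤ Q`. -/
structure Cons {G : Type*} [Group G] (H Q : Subgroup G) : Prop where
  le : Q ≤ H
  norm : H ≤ Subgroup.normalizer (Q : Set G)
  two : IsPGroup 2 ↥Q
  cent : H ⊓ Subgroup.centralizer (Q : Set G) ≤ Q

/-- The abstract hypothesis covering both alternatives of S3246. -/
def Hyp (G : Type*) [Group G] : Prop :=
  ∀ e : G, orderOf e = 2 →
    ∃ H Q : Subgroup G, Subgroup.centralizer ({e} : Set G) ≤ H ∧ Cons H Q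

/-- A 2-constrained subgroup with trivial odd core carries `Q = O_2(H)`. -/
theorem cons_of_constrained {G : Type*} [Group G] [Finite G] (H : Subgroup G)
    (hc : Cfsg.IsPConstrained 2 ↥H) (hO : Cfsg.oddCore ↥H = ⊥) : Cons H (pCoreIn 2 H) := by
  have : Fact (Nat.Prime 2) := ⟨Nat.prime_two⟩
  refine ⟨pCoreIn_le 2 H, le_normalizer_pCoreIn 2 H, pCoreIn_isPGroup 2 H, ?_⟩
  rintro y ⟨hyH, hyC⟩
  apply mem_pCoreIn_of_centralizes ((Cfsg.Agent.Lib.Helper1.isPConstrained_iff_of_pPrimeCore_eq_bot hO).mp hc) hyH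
  intro z hz
  exact Subgroup.mem_centralizer_iff.mp hyC z hz

end Cfsg.Agent.Lib.Helper8.CTT
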