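import Mathlib
import Cfsg.Prelude.Def_Characters
import Cfsg.Agent.Lib.Helper6.StarCut
import Cfsg.Agent.Lib.Helper6.CharOps
import Cfsg.Agent.Lib.Helper6.Constituent
import Cfsg.Agent.Lib.Helper6.IndFunMore
import Cfsg.Agent.Lib.Helper6.Norm
import Cfsg.Agent.Lib.Helper6.CharMisc
import Cfsg.Agent.Lib.Helper6.BlkNormalP
import Cfsg.Agent.Lib.Helper6.Mult

/-! S4538/S2440, unit U1a: deflation of a character by a normal subgroup. -/

set_option autoImplicit false
set_option linter.unusedSectionVars false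
set_option linter.unusedVariables false
set_option linter.style.longLine false

namespace Cfsg.Agent.Lib.Helper8.SLB

open Cfsg Cfsg.Agent.Lib.Helper6 Cfsg.Agent.Lib.Helper6.KR
open scoped ComplexConjugate

section defl

variable {K : Type*} [Group K]

/-- the part of a class function fixed by a normal subgroup (deflation) -/
noncomputable def deflate (N : Subgroup K) [Fintype N] (χ : K → ℂ) : K → ℂ :=
  fun x => (Nat.card N : ℂ)⁻¹ * ∑ n : N, χ ((n : K) * x)

/-- conjugation by `r` as a permutation of a normal subgroup -/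
def conjEquiv (N : Subgroup K) [hN : N.Normal] (r : K) : N ≃ N where
  toFun n := ⟨r * n * r⁻¹, hN.conj_mem n n.2 r⟩
  invFun n := ⟨r⁻¹ * n * r, by simpa using hN.conj_mem n n.2 r⁻¹⟩
  left_inv n := by
    apply Subtype.ext
    simp [mul_assoc]
  right_inv n := by
    apply Subtype.ext
    simp [mul_assoc]

theorem isCharacter_deflate (N : Subgroup K) [hN : N.Normal] [Fintype N] {χ : K → ℂ}
    (hχ : Cfsg.IsCharacter K χ) : Cfsg.IsCharacter K (deflate N χ) := by
  classical
  obtain ⟨d, ρ, rfl⟩ := hχ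
  obtain ⟨S, hS⟩ : ∃ S : (Fin d → ℂ) →ₗ[ℂ] (Fin d → ℂ), S = ∑ n : N, ρ (n : K) := ⟨_, rfl⟩
  have hcard : (Nat.card N : ℂ) ≠ 0 := by exact_mod_cast Nat.card_pos.ne'
  have hSapp : ∀ w, S w = ∑ n : N, ρ (n : K) w := by
    intro w; rw [hS, LinearMap.sum_apply]
  have hρS : ∀ (n : N) (w : Fin d → ℂ), ρ (n : K) (S w) = S w := by
    intro n w
    rw [hSapp, map_sum]
    apply Fintype.sum_equiv (Equiv.mulLeft n)
    intro n'
    rw [Equiv.coe_mulLeft, Subgroup.coe_mul, map_mul]
    rfl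
  have hSS : S ∘ₗ S = (Nat.card N : ℂ) • S := by
    apply LinearMap.ext
    intro w
    rw [LinearMap.comp_apply, hSapp (S w), Finset.sum_congr rfl (fun n _ => hρS n w),
      Finset.sum_const, Finset.card_univ, ← Nat.card_eq_fintype_card, LinearMap.smul_apply,
      Nat.cast_smul_eq_nsmul]
  obtain ⟨π, hπ⟩ : ∃ π : (Fin d → ℂ) →ₗ[ℂ] (Fin d → ℂ), π = (Nat.card N : ℂ)⁻¹ • S := ⟨_, rfl⟩
  have hπ2 : π ∘ₗ π = π := by
    rw [hπ, LinearMap.smul_comp, LinearMap.comp_smul, hSS, smul_smul, smul_smul]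
    congr 1
    field_simp
  have hcomm : ∀ r : K, ρ r ∘ₗ S = S ∘ₗ ρ r := by
    intro r
    apply LinearMap.ext
    intro w
    rw [LinearMap.comp_apply, LinearMap.comp_apply, hSapp, hSapp, map_sum]
    apply Fintype.sum_equiv (conjEquiv N r)
    intro n
    have h1 : ρ r (ρ (n : K) w) = ρ (r * (n : K)) w := by rw [map_mul]; rfl
    have h2 : ρ ((conjEquiv N r n : N) : K) (ρ r w) = ρ (((conjEquiv N r n : N) : K) * r) w := by
      rw [map_mul]; rfl
    rw [h1, h2]
    congr 2
    show r * (n : K) = r * (n : K) * r⁻¹ * r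
    group
  have hπY : ∀ r : K, ρ r ∘ₗ π = π ∘ₗ ρ r := by
    intro r
    rw [hπ, LinearMap.comp_smul, LinearMap.smul_comp, hcomm r]
  have hchar := chr_isCharacter (sub ρ (LinearMap.range π) (inv_range ρ π hπY))
  convert hchar using 1
  funext r
  rw [chr_cut ρ π hπ2 hπY r]
  have htr : ρ r ∘ₗ π = (Nat.card N : ℂ)⁻¹ • ∑ n : N, ρ ((n : K) * r) := by
    rw [hπY r, hπ, LinearMap.smul_comp]
    congr 1
    apply LinearMap.ext
    intro w
    rw [LinearMap.comp_apply, hSapp, LinearMap.sum_apply]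
    apply Finset.sum_congr rfl
    intro n _
    rw [map_mul]; rfl
  rw [htr, map_smul, map_sum, smul_eq_mul]
  simp only [Algebra.algebraMap_self, RingHom.id_apply]
  rfl

end defl

end Cfsg.Agent.Lib.Helper8.SLB
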