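import Mathlib
import Cfsg.Agent.Lib.Helper8.SLB1
import Cfsg.Agent.Lib.Helper6.Clifford

/-! S4538/S2440, unit U1: the deflation of a `p`-projective irreducible character to a large
"parabolic" subgroup is irreducible. -/

set_option autoImplicit false
set_option linter.unusedSectionVars false
set_option linter.unusedVariables false
set_option linter.style.longLine false
set_option linter.style.haveILetI false

namespace Cfsg.Agent.Lib.Helper8.SLB

open Cfsg Cfsg.Agent.Lib.Helper6
open scoped ComplexConjugate

section lemD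

variable {K : Type*} [Group K] [Fintype K]

theorem deflate_apply (N : Subgroup K) [Fintype N] (χ : K → ℂ) (x : K) :
    deflate N χ x = (Nat.card N : ℂ)⁻¹ * ∑ n : N, χ ((n : K) * x) := rfl

/-- deflating an irreducible character gives the character itself or zero -/
theorem deflate_irr (N : Subgroup K) [hN : N.Normal] [Fintype N] {τ : K → ℂ}
    (hτ : Cfsg.IsIrrCharacter K τ) : deflate N τ = τ ∨ deflate N τ = 0 := by
  classical
  have hcard : (Nat.card N : ℂ) ≠ 0 := by exact_mod_cast Nat.card_pos.ne'
  by_cases h : ∑ n : N, τ n = 0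
  · right
    apply IsCharacter.eq_zero_of_apply_one_eq_zero (isCharacter_deflate N (IsIrrCharacter.isCharacter hτ))
    rw [deflate_apply]
    simp only [mul_one]
    rw [h, mul_zero]
  · left
    have hc := IsIrrCharacter.const_on_normal_of_sum_ne_zero N hτ h
    funext x
    rw [deflate_apply]
    have : ∀ n : N, τ ((n : K) * x) = τ x := fun n =>
      IsCharacter.apply_mul_left_of_apply_eq (IsIrrCharacter.isCharacter hτ) (hc n) x
    rw [Finset.sum_congr rfl (fun n _ => this n), Finset.sum_const, Finset.card_univ,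
      ← Nat.card_eq_fintype_card, nsmul_eq_mul, ← mul_assoc, inv_mul_cancel₀ hcard, one_mul]

/-- deflation is self-adjoint -/
theorem classInner_deflate (N : Subgroup K) [Fintype N] (χ τ : K → ℂ) :
    Cfsg.classInner (deflate N χ) τ = Cfsg.classInner χ (deflate N τ) := by
  classical
  unfold Cfsg.classInner
  congr 1
  simp only [deflate_apply, map_mul, map_inv₀, Complex.conj_natCast, map_sum]
  simp only [Finset.mul_sum, Finset.sum_mul]
  rw [Finset.sum_comm]
  conv_rhs => rw [Finset.sum_comm]
  -- now both sides are sums over `n` then `x`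
  apply Fintype.sum_equiv (Equiv.inv N)
  intro n
  apply Fintype.sum_equiv (Equiv.mulLeft (n : K))
  intro x
  simp only [Equiv.inv_apply, Equiv.coe_mulLeft, Subgroup.coe_inv, inv_mul_cancel_left]
  ring

end lemD

section thmA

variable {G : Type*} [Group G] [Fintype G]

/-- **U1**: if `ψ` is irreducible, vanishes on the non-identity elements of a normal subgroup `N`
of `P`, and `[G:P] < 2|N|`, then the `N`-fixed part of `ψ|_P` is an irreducible character. -/
theorem irr_deflate (P : Subgroup G) (N : Subgroup P) [hN : N.Normal] [Fintype N]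
    {ψ : G → ℂ} (hψ : Cfsg.IsIrrCharacter G ψ)
    (hvan : ∀ n : N, n ≠ 1 → ψ ((n : P) : G) = 0)
    (hidx : P.index < 2 * Nat.card N) :
    Cfsg.IsIrrCharacter P (deflate N (fun x : P => ψ (x : G))) := by
  classical
  haveI : Fintype P := Fintype.ofFinite P
  obtain ⟨χ, hχdef⟩ : ∃ χ : P → ℂ, χ = fun x : P => ψ (x : G) := ⟨_, rfl⟩
  rw [← hχdef]
  have hχ : Cfsg.IsCharacter P χ := by
    rw [hχdef]; exact IsCharacter.restrict P (IsIrrCharacter.isCharacter hψ)
  obtain ⟨θ, hθdef⟩ : ∃ θ : P → ℂ, θ = deflate N χ := ⟨_, rfl⟩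
  rw [← hθdef]
  have hθ : Cfsg.IsCharacter P θ := by rw [hθdef]; exact isCharacter_deflate N hχ
  have hcard : (Nat.card N : ℂ) ≠ 0 := by exact_mod_cast Nat.card_pos.ne'
  have hθ1 : (Nat.card N : ℂ) * θ 1 = ψ 1 := by
    rw [hθdef, deflate_apply, ← mul_assoc, mul_inv_cancel₀ hcard, one_mul]
    rw [Finset.sum_eq_single (1 : N)]
    · simp [hχdef]
    · intro n _ hn
      rw [mul_one, hχdef]
      exact hvan n hn
    · intro h; exact absurd (Finset.mem_univ _) h
  have hdeg : Nat.card N * Cfsg.charDegree θ = Cfsg.charDegree ψ := by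
    have h1 := IsCharacter.apply_one_eq_charDegree hθ
    have h2 := IsCharacter.apply_one_eq_charDegree (IsIrrCharacter.isCharacter hψ)
    rw [h1, h2] at hθ1
    exact_mod_cast hθ1
  have hψpos : 0 < Cfsg.charDegree ψ := IsIrrCharacter.charDegree_pos hψ
  have hNpos : 0 < Nat.card N := Nat.card_pos
  have hθpos : 0 < Cfsg.charDegree θ := by
    rcases Nat.eq_zero_or_pos (Cfsg.charDegree θ) with h | h
    · rw [h, mul_zero] at hdeg; omega
    · exact h
  have key : ∀ τ : P → ℂ, Cfsg.IsIrrCharacter P τ → Cfsg.classInner θ τ ≠ 0 →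
      Cfsg.charDegree θ < 2 * Cfsg.charDegree τ := by
    intro τ hτ hne
    have h1 : Cfsg.classInner θ τ = Cfsg.classInner χ (deflate N τ) := by
      rw [hθdef]; exact classInner_deflate N χ τ
    have h2 : deflate N τ = τ := by
      rcases deflate_irr N hτ with h | h
      · exact h
      · exfalso
        apply hne
        rw [h1, h]
        unfold Cfsg.classInner
        simp
    rw [h1, h2] at hne
    have h3 : Cfsg.classInner (Cfsg.indFun P τ) ψ ≠ 0 := by
      rw [IndFunMore.classInner_indFun P τ ψ
        (IsCharacter.isClassFunction (IsIrrCharacter.isCharacter hψ))]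
      have : (Nat.card P : ℂ)⁻¹ * ∑ h : P, τ h * conj (ψ h) = conj (Cfsg.classInner χ τ) := by
        rw [classInner_conj_symm, hχdef]
        rfl
      rw [this]
      exact (map_ne_zero _).mpr hne
    have h4 := IsCharacter.charDegree_le (IsCharacter.indFun P (IsIrrCharacter.isCharacter hτ)) hψ h3
    have h5 : Cfsg.charDegree (Cfsg.indFun P τ) = P.index * Cfsg.charDegree τ := by
      have h := indFun_one P τ
      have e1 := IsCharacter.apply_one_eq_charDegree
        (IsCharacter.indFun P (IsIrrCharacter.isCharacter hτ))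
      have e2 := IsCharacter.apply_one_eq_charDegree (IsIrrCharacter.isCharacter hτ)
      rw [e1, e2] at h
      exact_mod_cast h
    have hτpos := IsIrrCharacter.charDegree_pos hτ
    rw [h5] at h4
    have h6 : P.index * Cfsg.charDegree τ < 2 * Nat.card N * Cfsg.charDegree τ :=
      Nat.mul_lt_mul_of_pos_right hidx hτpos
    have h7 : Nat.card N * Cfsg.charDegree θ < Nat.card N * (2 * Cfsg.charDegree τ) := by
      rw [hdeg]
      calc Cfsg.charDegree ψ ≤ P.index * Cfsg.charDegree τ := h4
        _ < 2 * Nat.card N * Cfsg.charDegree τ := h6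
        _ = Nat.card N * (2 * Cfsg.charDegree τ) := by ring
    exact Nat.lt_of_mul_lt_mul_left h7
  have hθ1ne : θ 1 ≠ 0 := by
    rw [IsCharacter.apply_one_eq_charDegree hθ]
    exact_mod_cast hθpos.ne'
  obtain ⟨τ0, hτ0⟩ := IsCharacter.exists_constituent hθ hθ1ne
  obtain ⟨B, hB, hθB⟩ := IsCharacter.exists_eq_add_of_constituent hθ τ0.2 hτ0
  by_cases hB0 : B 1 = 0
  · have hBz := IsCharacter.eq_zero_of_apply_one_eq_zero hB hB0
    rw [hθB, hBz, add_zero]
    exact τ0.2
  · exfalso
    obtain ⟨τ1, hτ1⟩ := IsCharacter.exists_constituent hB hB0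
    have hne1 : Cfsg.classInner θ (τ1 : P → ℂ) ≠ 0 := by
      rw [hθB, classInner_add_left]
      obtain ⟨n0, hn0⟩ := IsCharacter.classInner_nat (IsIrrCharacter.isCharacter τ0.2)
        (IsIrrCharacter.isCharacter τ1.2)
      obtain ⟨n1, hn1⟩ := IsCharacter.classInner_nat hB (IsIrrCharacter.isCharacter τ1.2)
      rw [hn0, hn1]
      rw [hn1] at hτ1
      have : n1 ≠ 0 := by
        intro h; apply hτ1; rw [h]; simp
      have h2 : n0 + n1 ≠ 0 := by omega
      exact_mod_cast h2
    have k0 := key _ τ0.2 hτ0
    have k1 := key _ τ1.2 hne1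
    have hle := IsCharacter.charDegree_le hB τ1.2 hτ1
    have hadd : Cfsg.charDegree θ = Cfsg.charDegree (τ0 : P → ℂ) + Cfsg.charDegree B := by
      have h := congrFun hθB 1
      rw [Pi.add_apply, IsCharacter.apply_one_eq_charDegree hθ,
        IsCharacter.apply_one_eq_charDegree (IsIrrCharacter.isCharacter τ0.2),
        IsCharacter.apply_one_eq_charDegree hB] at h
      exact_mod_cast h
    omega

end thmA

end Cfsg.Agent.Lib.Helper8.SLB
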