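import Mathlib
import Cfsg.Agent.Lib.Helper8.SLB2
import Cfsg.Agent.Lib.Helper6.Extraspecial
import Cfsg.Agent.Lib.Helper6.Linear
import Cfsg.Agent.Lib.Helper6.CharBasic

/-! S4538/S2440, unit X4: if `U ⊴ B` with `B/U` abelian and the restriction of a character `χ`
to `U` contains the trivial character, then `χ|_B` contains a linear character trivial on `U`. -/

set_option autoImplicit false
set_option linter.unusedSectionVars false
set_option linter.unusedVariables false
set_option linter.style.longLine false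
set_option linter.style.haveILetI false

namespace Cfsg.Agent.Lib.Helper8.SLB

open Cfsg Cfsg.Agent.Lib.Helper6
open scoped ComplexConjugate

/-- **X4** -/
theorem x4_exists_linear {G : Type*} [Group G] [Fintype G] (B U : Subgroup G) [Fintype B] [Fintype U]
    (hUB : U ≤ B)
    (hnorm : ∀ b ∈ B, ∀ u ∈ U, b * u * b⁻¹ ∈ U)
    (hab : ∀ x ∈ B, ∀ y ∈ B, x * y * x⁻¹ * y⁻¹ ∈ U)
    {χ : G → ℂ} (hχ : Cfsg.IsCharacter G χ) (h : ∑ u : U, χ u ≠ 0) :
    ∃ φ : B →* ℂˣ, (∀ b : B, (b : G) ∈ U → φ b = 1) ∧
      Cfsg.classInner (fun b : B => χ b) (fun b : B => ((φ b : ℂˣ) : ℂ)) ≠ 0 := by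
  classical
  obtain ⟨N, hNdef⟩ : ∃ N : Subgroup B, N = U.subgroupOf B := ⟨_, rfl⟩
  haveI hN : N.Normal := by
    constructor
    intro n hn g
    rw [hNdef, Subgroup.mem_subgroupOf] at hn ⊢
    exact hnorm g g.2 n hn
  haveI : Fintype N := Fintype.ofFinite N
  have hmemN : ∀ b : B, b ∈ N ↔ (b : G) ∈ U := by
    intro b; rw [hNdef, Subgroup.mem_subgroupOf]
  obtain ⟨χB, hχBdef⟩ : ∃ χB : B → ℂ, χB = fun b : B => χ b := ⟨_, rfl⟩
  have hχB : Cfsg.IsCharacter B χB := by rw [hχBdef]; exact IsCharacter.restrict B hχ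
  have hcard : (Nat.card N : ℂ) ≠ 0 := by exact_mod_cast Nat.card_pos.ne'
  -- the sum over `N` is the sum over `U`
  have hsum : ∑ n : N, χB (n : B) = ∑ u : U, χ u := by
    rw [hχBdef]
    let e : N ≃ U :=
      { toFun := fun n => ⟨((n : B) : G), (hmemN n).mp n.2⟩
        invFun := fun u => ⟨⟨(u : G), hUB u.2⟩, (hmemN _).mpr u.2⟩
        left_inv := fun n => rfl
        right_inv := fun u => rfl }
    exact Fintype.sum_equiv e _ _ (fun n => rfl)
  have hθ : Cfsg.IsCharacter B (deflate N χB) := isCharacter_deflate N hχB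
  have hθ1 : deflate N χB 1 ≠ 0 := by
    rw [deflate_apply]
    simp only [mul_one]
    rw [hsum]
    exact mul_ne_zero (inv_ne_zero hcard) h
  obtain ⟨τ, hτ⟩ := IsCharacter.exists_constituent hθ hθ1
  have h1 : Cfsg.classInner (deflate N χB) (τ : B → ℂ) = Cfsg.classInner χB (deflate N (τ : B → ℂ)) :=
    classInner_deflate N χB τ
  have h2 : deflate N (τ : B → ℂ) = (τ : B → ℂ) := by
    rcases deflate_irr N τ.2 with h | h
    · exact h
    · exfalso
      apply hτ
      rw [h1, h]
      unfold Cfsg.classInner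
      simp
  rw [h1, h2] at hτ
  have hτ1ne : (τ : B → ℂ) 1 ≠ 0 := IsIrrCharacter.apply_one_ne_zero τ.2
  -- `N` is in the kernel of `τ`
  have hker : ∀ n : N, (τ : B → ℂ) n = (τ : B → ℂ) 1 := by
    apply IsIrrCharacter.const_on_normal_of_sum_ne_zero N τ.2
    have := congrFun h2 1
    rw [deflate_apply] at this
    simp only [mul_one] at this
    intro hzero
    rw [hzero, mul_zero] at this
    exact hτ1ne this.symm
  -- `τ` is linear
  have hdeg : (τ : B → ℂ) 1 = 1 := by
    obtain ⟨d, ρ, hρ, hρτ⟩ := τ.2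
    haveI := hρ
    have hfr : Module.finrank ℂ (Fin d → ℂ) = 1 := by
      apply finrank_eq_one_of_commutator_le_ker ρ
      intro z hz
      have hzN : z ∈ N := by
        have hle : commutator B ≤ N := by
          rw [commutator_def, Subgroup.commutator_le]
          intro x _ y _
          rw [hmemN, commutatorElement_def]
          exact hab x x.2 y y.2
        exact hle hz
      have := hker ⟨z, hzN⟩
      rw [← hρτ, Representation.char_one] at this
      exact (character_eq_finrank_iff ρ z).mp this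
    rw [← hρτ, Representation.char_one, hfr]
    simp
  refine ⟨linearCharHom (IsIrrCharacter.isCharacter τ.2) hdeg, ?_, ?_⟩
  · intro b hb
    apply Units.ext
    rw [linearCharHom_apply, Units.val_one]
    have := hker ⟨b, (hmemN b).mpr hb⟩
    rw [this, hdeg]
  · have : (fun b : B => ((linearCharHom (IsIrrCharacter.isCharacter τ.2) hdeg b : ℂˣ) : ℂ))
        = (τ : B → ℂ) := by
      funext b
      exact linearCharHom_apply _ _ b
    rw [this, ← hχBdef]
    exact hτ

end Cfsg.Agent.Lib.Helper8.SLB
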