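import Mathlib
import Cfsg.Agent.Lib.Helper8.SLB3

/-! S4538/S2440, unit X4 in the shape of helper2's stub. -/

set_option autoImplicit false
set_option linter.unusedSectionVars false
set_option linter.unusedVariables false
set_option linter.style.longLine false
set_option linter.style.haveILetI false

namespace Cfsg.Agent.Lib.Helper8.SLB

open Cfsg Cfsg.Agent.Lib.Helper6
open scoped ComplexConjugate

/-- **X4** (stub shape): a character with a `U`-fixed vector has a linear constituent on `B`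
trivial on `U`, when `U ⊴ B` and `B/U` is abelian. -/
theorem x4_linear_constituent {G : Type*} [Group G] [Fintype G]
    (B U : Subgroup G) [Fintype B] [Fintype U] (hUB : U ≤ B)
    (hnorm : ∀ b ∈ B, ∀ u ∈ U, b * u * b⁻¹ ∈ U)
    (hab : ∀ x ∈ B, ∀ y ∈ B, x * y * x⁻¹ * y⁻¹ ∈ U)
    (χ : G → ℂ) (hχ : IsCharacter G χ) (h : ∑ u : U, χ u ≠ 0) :
    ∃ φ : B →* ℂˣ, (∀ b : B, (b : G) ∈ U → φ b = 1) ∧
      1 ≤ (classInner (fun b : B => χ b) (fun b : B => ((φ b : ℂˣ) : ℂ))).re := by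
  obtain ⟨φ, hφ1, hφ2⟩ := x4_exists_linear B U hUB hnorm hab hχ h
  refine ⟨φ, hφ1, ?_⟩
  have hc1 : IsCharacter B (fun b : B => χ b) := IsCharacter.restrict B hχ
  have hc2 : IsCharacter B (fun b : B => ((φ b : ℂˣ) : ℂ)) :=
    IsIrrCharacter.isCharacter (isIrrCharacter_of_hom φ)
  obtain ⟨m, hm⟩ := IsCharacter.classInner_nat hc1 hc2
  rw [hm] at hφ2 ⊢
  have hm0 : m ≠ 0 := by
    intro h0
    apply hφ2
    rw [h0]
    simp
  have : 1 ≤ m := Nat.one_le_iff_ne_zero.mpr hm0
  simp only [Complex.natCast_re]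
  exact_mod_cast this

end Cfsg.Agent.Lib.Helper8.SLB
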