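import Mathlib
import Cfsg.Prelude.Def_ChevStructure
import Cfsg.Agent.Lib.Helper8.ChevPsi2

set_option autoImplicit false

/-!
A linear character of `U` (inside the Chevalley group `G = D.group F`) which is a given additive
character `ψ0` of `F` on every fundamental root group `X_{p_i}` and trivial on the root groups of
the other positive roots.
-/

namespace Cfsg.Agent.Lib.Helper8.ChevPsi

open Cfsg Cfsg.Lie Cfsg.Agent.Lib.Helper5.ChevSym Cfsg.Agent.Lib.Helper5.ChevStruct

variable {F : Type*} [Field F]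

/-- a nontrivial additive character of a finite field `F`, as a hom `Multiplicative F →* ℂˣ` -/
theorem exists_addChar_ne_one [Fintype F] :
    ∃ ψ0 : Multiplicative F →* ℂˣ, ψ0 (Multiplicative.ofAdd (1 : F)) ≠ 1 := by
  obtain ⟨χ, hχ⟩ := (AddChar.exists_apply_ne_zero (α := F) (a := (1 : F))).mpr one_ne_zero
  refine ⟨χ.toMonoidHom.toHomUnits, ?_⟩
  intro h
  apply hχ
  have := congrArg (fun z : ℂˣ => (z : ℂ)) h
  simpa using this

/-- the product over the fundamental roots of `ψ0 ∘ (coefficient at p_i)`, on `U ≤ GL` -/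
noncomputable def chevPsi (D : ChevalleyDatum) (hD : D ∈ Seven) (ψ0 : Multiplicative F →* ℂˣ) :
    ↥(D.posUnipotent F) →* ℂˣ :=
  ∏ i : Fin D.rank, ψ0.comp (coefHom D hD F i.val i.2)

theorem chevPsi_apply (D : ChevalleyDatum) (hD : D ∈ Seven) (ψ0 : Multiplicative F →* ℂˣ)
    (u : ↥(D.posUnipotent F)) :
    chevPsi D hD ψ0 u
      = ∏ i : Fin D.rank, ψ0 (Multiplicative.ofAdd (coefEntry D hD i.val i.2 (u : GL D.Idx F))) := by
  unfold chevPsi
  rw [MonoidHom.finsetProd_apply]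
  rfl

/-- value on a root element of a positive root -/
theorem chevPsi_of_eq_xGL (D : ChevalleyDatum) (hD : D ∈ Seven) (ψ0 : Multiplicative F →* ℂˣ)
    (u : ↥(D.posUnipotent F)) (r : ℕ) (hr : D.IsPosRoot r) (t : F)
    (hu : (u : GL D.Idx F) = xGL D hD r t) :
    chevPsi D hD ψ0 u
      = ∏ i : Fin D.rank, ψ0 (Multiplicative.ofAdd (if r = D.simple i.val then t else 0)) := by
  rw [chevPsi_apply]
  apply Finset.prod_congr rfl
  intro i _
  rw [hu, coefEntry_xGL D hD i.val i.2 r hr t]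

/-- value on the root element `x_{p_i}(t)` of a fundamental root -/
theorem chevPsi_simple (D : ChevalleyDatum) (hD : D ∈ Seven) (ψ0 : Multiplicative F →* ℂˣ)
    (u : ↥(D.posUnipotent F)) (i : ℕ) (hi : i < D.rank) (t : F)
    (hu : (u : GL D.Idx F) = xGL D hD (D.simple i) t) :
    chevPsi D hD ψ0 u = ψ0 (Multiplicative.ofAdd t) := by
  rw [chevPsi_of_eq_xGL D hD ψ0 u (D.simple i) (simple_isPosRoot D hD i hi) t hu]
  rw [Finset.prod_eq_single (⟨i, hi⟩ : Fin D.rank)]
  · rw [if_pos rfl]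
  · intro j _ hne
    rw [if_neg, ofAdd_zero, map_one]
    intro h
    apply hne
    apply Fin.ext
    exact simple_injective D hD i j.val hi j.2 h.symm
  · intro h
    exact absurd (Finset.mem_univ _) h

/-- value on the root elements of the non-fundamental positive roots -/
theorem chevPsi_nonsimple (D : ChevalleyDatum) (hD : D ∈ Seven) (ψ0 : Multiplicative F →* ℂˣ)
    (u : ↥(D.posUnipotent F)) (r : ℕ) (hr : D.IsPosRoot r) (hns : ∀ i < D.rank, r ≠ D.simple i)
    (t : F) (hu : (u : GL D.Idx F) = xGL D hD r t) :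
    chevPsi D hD ψ0 u = 1 := by
  rw [chevPsi_of_eq_xGL D hD ψ0 u r hr t hu]
  apply Finset.prod_eq_one
  intro i _
  rw [if_neg (hns i.val i.2), ofAdd_zero, map_one]

/-- `U` as a subgroup of the Chevalley group maps to `U` as a subgroup of `GL` -/
def toPos (D : ChevalleyDatum) :
    ↥((D.posUnipotent F).subgroupOf (D.group F)) →* ↥(D.posUnipotent F) where
  toFun u := ⟨((u : ↥(D.group F)) : GL D.Idx F), u.2⟩
  map_one' := rfl
  map_mul' _ _ := rfl

/-- the same character on `U` regarded as a subgroup of the Chevalley group -/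
noncomputable def chevPsiG (D : ChevalleyDatum) (hD : D ∈ Seven) (ψ0 : Multiplicative F →* ℂˣ) :
    ↥((D.posUnipotent F).subgroupOf (D.group F)) →* ℂˣ :=
  (chevPsi D hD ψ0).comp (toPos D)

theorem chevPsiG_apply (D : ChevalleyDatum) (hD : D ∈ Seven) (ψ0 : Multiplicative F →* ℂˣ)
    (u : ↥((D.posUnipotent F).subgroupOf (D.group F))) :
    chevPsiG D hD ψ0 u = chevPsi D hD ψ0 ⟨((u : ↥(D.group F)) : GL D.Idx F), u.2⟩ := rfl

theorem chevPsiG_simple (D : ChevalleyDatum) (hD : D ∈ Seven) (ψ0 : Multiplicative F →* ℂˣ)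
    (u : ↥((D.posUnipotent F).subgroupOf (D.group F))) (i : ℕ) (hi : i < D.rank) (t : F)
    (hu : ((u : ↥(D.group F)) : GL D.Idx F) = xGL D hD (D.simple i) t) :
    chevPsiG D hD ψ0 u = ψ0 (Multiplicative.ofAdd t) := by
  rw [chevPsiG_apply]
  exact chevPsi_simple D hD ψ0 _ i hi t hu

theorem chevPsiG_nonsimple (D : ChevalleyDatum) (hD : D ∈ Seven) (ψ0 : Multiplicative F →* ℂˣ)
    (u : ↥((D.posUnipotent F).subgroupOf (D.group F))) (r : ℕ) (hr : D.IsPosRoot r)
    (hns : ∀ i < D.rank, r ≠ D.simple i) (t : F)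
    (hu : ((u : ↥(D.group F)) : GL D.Idx F) = xGL D hD r t) :
    chevPsiG D hD ψ0 u = 1 := by
  rw [chevPsiG_apply]
  exact chevPsi_nonsimple D hD ψ0 _ r hr hns t hu

/-- **unit PSI**: a linear character of `U ≤ G` and a field element `c` such that the character is
nontrivial at `x_{p_i}(c)` for every fundamental root `p_i` -/
theorem exists_chevPsiG [Fintype F] (D : ChevalleyDatum) (hD : D ∈ Seven) :
    ∃ ψ : ↥((D.posUnipotent F).subgroupOf (D.group F)) →* ℂˣ,
      ∀ i < D.rank, ∃ u : ↥((D.posUnipotent F).subgroupOf (D.group F)),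
        ((u : ↥(D.group F)) : GL D.Idx F) = xGL D hD (D.simple i) 1 ∧ ψ u ≠ 1 := by
  obtain ⟨ψ0, hψ0⟩ := exists_addChar_ne_one (F := F)
  refine ⟨chevPsiG D hD ψ0, ?_⟩
  intro i hi
  refine ⟨⟨⟨xGL D hD (D.simple i) 1, xGL_mem_group D hD _ _⟩, ?_⟩, rfl, ?_⟩
  · show xGL D hD (D.simple i) 1 ∈ D.posUnipotent F
    exact xGL_mem_posUnipotent D hD _ (simple_isPosRoot D hD i hi) 1
  · rw [chevPsiG_simple D hD ψ0 _ i hi 1 rfl]
    exact hψ0

end Cfsg.Agent.Lib.Helper8.ChevPsi
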