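import Mathlib

set_option autoImplicit false
set_option maxRecDepth 100000
set_option linter.unusedVariables false
set_option linter.style.longLine false

/-!
# Facts about `A₅` (checked by kernel evaluation), transported to any group `K ≃* A₅`
-/

namespace Cfsg.Agent.Lib.Helper8.C5

/-- `A₅` as permutations of `Fin 5`. -/
abbrev A5 := alternatingGroup (Fin 5)

namespace A5raw

theorem prod5 : ∀ g : A5, g ^ 2 = 1 → g ≠ 1 →
    ∃ h : A5, h ^ 2 = 1 ∧ h ≠ 1 ∧ (g * h) ^ 5 = 1 ∧ g * h ≠ 1 := by decide +kernel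

theorem card_invol : Fintype.card {g : A5 // g ^ 2 = 1 ∧ g ≠ 1} = 15 := by decide +kernel

theorem three : ∃ r1 r2 : A5, r1 ≠ 1 ∧ r1 ^ 3 = 1 ∧ r2 ≠ 1 ∧ r2 ^ 3 = 1 ∧ (r1 * r2) ^ 3 = 1 ∧
    r1 * r2 ≠ r2 * r1 := by decide +kernel

theorem cent_exp : ∀ g : A5, g ^ 2 = 1 → g ≠ 1 → ∀ h : A5, g * h = h * g → h ^ 2 = 1 := by
  decide +kernel

theorem inv3 : ∀ x : A5, x ≠ 1 → x ^ 3 = 1 → ∃ t : A5, t ^ 2 = 1 ∧ t * x * t⁻¹ = x⁻¹ := by
  decide +kernel

theorem inv5 : ∀ x : A5, x ≠ 1 → x ^ 5 = 1 → ∃ t : A5, t ^ 2 = 1 ∧ t * x * t⁻¹ = x⁻¹ := by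
  decide +kernel

theorem norm3 : ∀ g : A5, g ^ 2 = 1 → g ≠ 1 → ∃ r : A5, r ≠ 1 ∧ r ^ 3 = 1 ∧
    ∀ h : A5, g * h = h * g → g * (r * h * r⁻¹) = (r * h * r⁻¹) * g := by decide +kernel

theorem cent_card : ∀ g : A5, g ^ 2 = 1 → g ≠ 1 → Fintype.card {h : A5 // g * h = h * g} = 4 := by
  decide +kernel

theorem no4 : ∀ g : A5, g ^ 4 = 1 → g ^ 2 = 1 := by decide +kernel

end A5raw

variable {K : Type*} [Group K] (e : K ≃* A5)
include e

theorem a5_card : Nat.card K = 60 := by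
  rw [Nat.card_congr e.toEquiv, Nat.card_eq_fintype_card]
  decide +kernel

theorem a5_simple : IsSimpleGroup K := by
  haveI : IsSimpleGroup A5 := alternatingGroup.isSimpleGroup_five
  haveI : Nontrivial K := e.toEquiv.nontrivial
  exact IsSimpleGroup.isSimpleGroup_of_surjective (f := e.symm.toMonoidHom) e.symm.surjective

theorem a5_prod5 : ∀ g : K, g ^ 2 = 1 → g ≠ 1 →
    ∃ h : K, h ^ 2 = 1 ∧ h ≠ 1 ∧ (g * h) ^ 5 = 1 ∧ g * h ≠ 1 := by
  intro g hg hg1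
  obtain ⟨h, h1, h2, h3, h4⟩ := A5raw.prod5 (e g) (by rw [← map_pow, hg, map_one])
    (fun h => hg1 (by simpa using h))
  refine ⟨e.symm h, ?_, ?_, ?_, ?_⟩
  · rw [← map_pow, h1, map_one]
  · intro h'; apply h2; simpa using congrArg e h'
  · apply e.injective; rw [map_pow, map_mul, e.apply_symm_apply, h3, map_one]
  · intro h'; apply h4
    have := congrArg e h'
    simpa using this

theorem a5_card_invol : Nat.card {g : K // g ^ 2 = 1 ∧ g ≠ 1} = 15 := by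
  rw [← A5raw.card_invol, ← Nat.card_eq_fintype_card]
  refine Nat.card_congr ⟨fun g => ⟨e g.1, by rw [← map_pow, g.2.1, map_one], fun h => g.2.2 (by simpa using h)⟩,
    fun g => ⟨e.symm g.1, by rw [← map_pow, g.2.1, map_one], fun h => g.2.2 (by simpa using h)⟩, ?_, ?_⟩
  · intro g; ext; simp
  · intro g; ext; simp

theorem a5_three : ∃ r1 r2 : K, r1 ≠ 1 ∧ r1 ^ 3 = 1 ∧ r2 ≠ 1 ∧ r2 ^ 3 = 1 ∧ (r1 * r2) ^ 3 = 1 ∧
    r1 * r2 ≠ r2 * r1 := by
  obtain ⟨r1, r2, h1, h2, h3, h4, h5, h6⟩ := A5raw.three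
  refine ⟨e.symm r1, e.symm r2, ?_, ?_, ?_, ?_, ?_, ?_⟩
  · intro h'; apply h1; simpa using congrArg e h'
  · rw [← map_pow, h2, map_one]
  · intro h'; apply h3; simpa using congrArg e h'
  · rw [← map_pow, h4, map_one]
  · rw [← map_mul, ← map_pow, h5, map_one]
  · intro h'; apply h6
    have := congrArg e h'
    simpa using this

theorem a5_cent_exp : ∀ g : K, g ^ 2 = 1 → g ≠ 1 → ∀ h : K, g * h = h * g → h ^ 2 = 1 := by
  intro g hg hg1 h hgh
  have := A5raw.cent_exp (e g) (by rw [← map_pow, hg, map_one]) (fun h => hg1 (by simpa using h))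
    (e h) (by rw [← map_mul, ← map_mul, hgh])
  apply e.injective
  rw [map_pow, this, map_one]

theorem a5_inv3 : ∀ x : K, x ≠ 1 → x ^ 3 = 1 → ∃ t : K, t ^ 2 = 1 ∧ t * x * t⁻¹ = x⁻¹ := by
  intro x hx1 hx
  obtain ⟨t, ht, htx⟩ := A5raw.inv3 (e x) (fun h => hx1 (by simpa using h))
    (by rw [← map_pow, hx, map_one])
  refine ⟨e.symm t, by rw [← map_pow, ht, map_one], ?_⟩
  apply e.injective
  simp [htx]

theorem a5_inv5 : ∀ x : K, x ≠ 1 → x ^ 5 = 1 → ∃ t : K, t ^ 2 = 1 ∧ t * x * t⁻¹ = x⁻¹ := by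
  intro x hx1 hx
  obtain ⟨t, ht, htx⟩ := A5raw.inv5 (e x) (fun h => hx1 (by simpa using h))
    (by rw [← map_pow, hx, map_one])
  refine ⟨e.symm t, by rw [← map_pow, ht, map_one], ?_⟩
  apply e.injective
  simp [htx]

theorem a5_norm3 : ∀ g : K, g ^ 2 = 1 → g ≠ 1 → ∃ r : K, r ≠ 1 ∧ r ^ 3 = 1 ∧
    ∀ h : K, g * h = h * g → g * (r * h * r⁻¹) = (r * h * r⁻¹) * g := by
  intro g hg hg1
  obtain ⟨r, hr1, hr3, hr⟩ := A5raw.norm3 (e g) (by rw [← map_pow, hg, map_one])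
    (fun h => hg1 (by simpa using h))
  refine ⟨e.symm r, ?_, by rw [← map_pow, hr3, map_one], ?_⟩
  · intro h'; apply hr1; simpa using congrArg e h'
  · intro h hgh
    have := hr (e h) (by rw [← map_mul, ← map_mul, hgh])
    apply e.injective
    simpa using this

theorem a5_cent_card : ∀ g : K, g ^ 2 = 1 → g ≠ 1 → Nat.card {h : K // g * h = h * g} = 4 := by
  intro g hg hg1
  rw [← A5raw.cent_card (e g) (by rw [← map_pow, hg, map_one]) (fun h => hg1 (by simpa using h)),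
    ← Nat.card_eq_fintype_card]
  refine Nat.card_congr ⟨fun h => ⟨e h.1, by rw [← map_mul, ← map_mul, h.2]⟩,
    fun h => ⟨e.symm h.1, ?_⟩, ?_, ?_⟩
  · apply e.injective
    simp [h.2]
  · intro h; ext; simp
  · intro h; ext; simp

theorem a5_no4 : ∀ g : K, g ^ 4 = 1 → g ^ 2 = 1 := by
  intro g hg
  have := A5raw.no4 (e g) (by rw [← map_pow, hg, map_one])
  apply e.injective
  rw [map_pow, this, map_one]

end Cfsg.Agent.Lib.Helper8.C5
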