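import Mathlib
import Cfsg.Agent.Lib.Helper3.CPDefs

set_option autoImplicit false

/-!
# Generalisation of the class `CC` of S3396: a predicate on the odd prime orders

`CCP P G`: every non-identity element of `G` has order a power of `2` or a prime `p` with `P p`.
`CC G = CCP (· ≠ 5) G`.  The pieces N2 / Hg / LA1 / LA2 / LE / LC / LD of S3396 are ported verbatim
(files `CQ*.lean`), since their proofs never use the side condition on the prime.
-/

namespace Cfsg.Agent.Lib.Helper8.CQ

open Cfsg.Agent.Lib.Helper3.CP

/-- every non-identity element has order a power of `2` or a prime `p` with `P p`. -/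
def CCP (P : ℕ → Prop) (G : Type*) [Group G] : Prop :=
  ∀ g : G, g ≠ 1 → (∃ k : ℕ, orderOf g = 2 ^ k) ∨ ((orderOf g).Prime ∧ P (orderOf g))

/-- standing hypotheses (simple group given as instance): `G ∈ CCP P`, not solvable,
all 2-locals solvable. -/
structure CtxP (P : ℕ → Prop) (G : Type*) [Group G] : Prop where
  cc : CCP P G
  ns : ¬ IsSolvable G
  loc : ∀ R : Subgroup G, R ≠ ⊥ → IsPGroup 2 R → IsSolvable ↥(Subgroup.normalizer (R : Set G))

end Cfsg.Agent.Lib.Helper8.CQ
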