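import Mathlib
import Cfsg.Prelude.Def_Transfer
import Cfsg.Agent.Lib.Helper8.CQDefs

set_option autoImplicit false
set_option linter.unusedVariables false
set_option linter.unusedSectionVars false
set_option linter.style.longLine false
set_option linter.deprecated false

/-!
# S3433: groups all of whose element orders are at most 5 — basic definitions
-/

set_option linter.dupNamespace false

namespace Cfsg.Agent.Lib.Helper8.C5

open Cfsg.Agent.Lib.Helper8.CQ

/-- The class `C5`: every element has order `1,2,3,4` or `5`. -/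
def C5 (G : Type*) [Group G] : Prop := ∀ g : G, 1 ≤ orderOf g ∧ orderOf g ≤ 5

/-- the predicate on odd prime orders used with `CCP`. -/
def P5 : ℕ → Prop := fun p => p ≤ 5

/-- The conclusion of S3433. -/
def Concl (G : Type*) [Group G] : Prop :=
  Nonempty (G ≃* ↥(alternatingGroup (Fin 6))) ∨
    ∃ (N : Subgroup G) (_ : N.Normal), Cfsg.IsElementaryAbelian 2 N ∧
      Nonempty (G ⧸ N ≃* ↥(alternatingGroup (Fin 5)))

variable {G : Type*} [Group G]

theorem C5.pos (h : C5 G) (g : G) : 0 < orderOf g := (h g).1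

theorem C5.isOfFinOrder (h : C5 G) (g : G) : IsOfFinOrder g := orderOf_pos_iff.mp (h.pos g)

theorem C5.subgroup (h : C5 G) (H : Subgroup G) : C5 ↥H := by
  intro g
  rw [← Subgroup.orderOf_coe]
  exact h (g : G)

theorem C5.of_injective {H : Type*} [Group H] (h : C5 G) (f : H →* G) (hf : Function.Injective f) :
    C5 H := by
  intro g
  rw [← orderOf_injective f hf g]
  exact h (f g)

theorem C5.of_mulEquiv {H : Type*} [Group H] (h : C5 G) (e : G ≃* H) : C5 H :=
  h.of_injective e.symm.toMonoidHom e.symm.injective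

theorem C5.of_surjective {H : Type*} [Group H] (h : C5 G) (f : G →* H)
    (hf : Function.Surjective f) : C5 H := by
  intro y
  obtain ⟨g, rfl⟩ := hf y
  have hd : orderOf (f g) ∣ orderOf g := orderOf_map_dvd f g
  have hpos : 0 < orderOf g := h.pos g
  have h1 : 0 < orderOf (f g) := Nat.pos_of_dvd_of_pos hd hpos
  exact ⟨h1, le_trans (Nat.le_of_dvd hpos hd) (h g).2⟩

theorem C5.quotient (h : C5 G) (N : Subgroup G) [N.Normal] : C5 (G ⧸ N) :=
  h.of_surjective (QuotientGroup.mk' N) (QuotientGroup.mk'_surjective N)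

/-- the possible orders. -/
theorem C5.cases (h : C5 G) (g : G) :
    orderOf g = 1 ∨ orderOf g = 2 ∨ orderOf g = 3 ∨ orderOf g = 4 ∨ orderOf g = 5 := by
  have := h g
  omega

theorem C5.ccp (h : C5 G) : CCP P5 G := by
  intro g hg
  have h1 : orderOf g ≠ 1 := fun h1 => hg (orderOf_eq_one_iff.mp h1)
  rcases h.cases g with h' | h' | h' | h' | h'
  · exact absurd h' h1
  · left; exact ⟨1, by rw [h']; norm_num⟩
  · right; rw [h']; exact ⟨by norm_num, by unfold P5; norm_num⟩
  · left; exact ⟨2, by rw [h']; norm_num⟩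
  · right; rw [h']; exact ⟨by norm_num, by unfold P5; norm_num⟩

/-- commuting elements of coprime orders `> 1` do not exist in a `C5` group unless ... :
the product would have order `≥ 6`. -/
theorem C5.false_of_commute (h : C5 G) {x y : G} (hxy : x * y = y * x)
    (hcop : (orderOf x).Coprime (orderOf y)) (hx : 2 ≤ orderOf x) (hy : 2 ≤ orderOf y) : False := by
  have ho : orderOf (x * y) = orderOf x * orderOf y :=
    (show Commute x y from hxy).orderOf_mul_eq_mul_orderOf_of_coprime hcop
  have h5 := (h (x * y)).2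
  rw [ho] at h5
  have hx5 := (h x).2
  have hy5 := (h y).2
  -- coprime numbers in 2..5 have product ≥ 6
  have : orderOf x ≠ orderOf y := by
    intro he
    rw [he, Nat.coprime_self] at hcop
    omega
  have hmul : 6 ≤ orderOf x * orderOf y := by
    rcases Nat.lt_or_ge (orderOf x) 3 with h3 | h3
    · have hx2 : orderOf x = 2 := by omega
      have : 3 ≤ orderOf y := by omega
      rw [hx2]; omega
    · rcases Nat.lt_or_ge (orderOf y) 3 with h4 | h4
      · have hy2 : orderOf y = 2 := by omega
        rw [hy2]; omega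
      · nlinarith
  omega

/-- in a `C5` group an element of order `2` or `4` and an element of order `3` or `5` never commute;
nor do elements of orders `3` and `5`. -/
theorem C5.cit (h : C5 G) [Finite G] (t : G) (ht : orderOf t = 2) :
    IsPGroup 2 ↥(Subgroup.centralizer ({t} : Set G)) := by
  intro y
  -- the order of y is 1,2,3,4,5; 3 and 5 are excluded
  have hcomm : (y : G) * t = t * (y : G) := by
    have := y.2
    rw [Subgroup.mem_centralizer_singleton_iff] at this
    exact this
  rcases h.cases (y : G) with h' | h' | h' | h' | h'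
  · exact ⟨0, by ext; simpa using orderOf_eq_one_iff.mp h'⟩
  · exact ⟨1, by ext; rw [Subgroup.coe_pow, pow_one, ← h']; exact pow_orderOf_eq_one _⟩
  · exfalso
    exact h.false_of_commute hcomm (by rw [h', ht]; norm_num) (by omega) (by omega)
  · exact ⟨2, by ext; rw [Subgroup.coe_pow, show (2:ℕ)^2 = 4 by norm_num, ← h']; exact pow_orderOf_eq_one _⟩
  · exfalso
    exact h.false_of_commute hcomm (by rw [h', ht]; norm_num) (by omega) (by omega)

/-- in a `C5` group the centralizer of an element of order `3` or `5` is a `p`-group. -/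
theorem C5.cpt (h : C5 G) [Finite G] (p : ℕ) (hp : p = 3 ∨ p = 5) (x : G) (hx : orderOf x = p) :
    IsPGroup p ↥(Subgroup.centralizer ({x} : Set G)) := by
  intro y
  have hcomm : (y : G) * x = x * (y : G) := by
    have := y.2
    rw [Subgroup.mem_centralizer_singleton_iff] at this
    exact this
  have key : orderOf (y : G) = 1 ∨ orderOf (y : G) = p := by
    by_contra hcon
    push Not at hcon
    have hy2 : 2 ≤ orderOf (y : G) := by
      have := h.pos (y : G)
      omega
    have hcop : (orderOf (y : G)).Coprime (orderOf x) := by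
      rw [hx]
      rcases hp with rfl | rfl
      · rcases h.cases (y : G) with h' | h' | h' | h' | h' <;>
          first | exact absurd h' hcon.1 | exact absurd h' hcon.2 | (rw [h']; norm_num)
      · rcases h.cases (y : G) with h' | h' | h' | h' | h' <;>
          first | exact absurd h' hcon.1 | exact absurd h' hcon.2 | (rw [h']; norm_num)
    exact h.false_of_commute hcomm hcop hy2 (by rw [hx]; rcases hp with rfl | rfl <;> norm_num)
  rcases key with h1 | h1
  · exact ⟨0, by ext; simpa using orderOf_eq_one_iff.mp h1⟩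
  · exact ⟨1, by ext; rw [Subgroup.coe_pow, pow_one, ← h1]; exact pow_orderOf_eq_one _⟩

/-- every `2`-element of a `C5` group has `a ^ 4 = 1`. -/
theorem C5.pow_four_of_two_pow (h : C5 G) (a : G) (k : ℕ) (ha : a ^ (2 ^ k) = 1) : a ^ 4 = 1 := by
  have hd : orderOf a ∣ 2 ^ k := orderOf_dvd_of_pow_eq_one ha
  obtain ⟨j, -, hj⟩ := (Nat.dvd_prime_pow Nat.prime_two).mp hd
  have h5 := (h a).2
  have : j ≤ 2 := by
    by_contra hcon
    push Not at hcon
    have : 2 ^ 3 ≤ 2 ^ j := Nat.pow_le_pow_right (by norm_num) hcon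
    omega
  have hdvd : orderOf a ∣ 4 := by
    rw [hj]
    exact (Nat.pow_dvd_pow 2 this)
  exact orderOf_dvd_iff_pow_eq_one.mp hdvd

/-- The local configuration of an `A₅`-type 2-local: `Q` elementary abelian of order 16 normal in the
2-group `T` of order 64 (a Sylow 2-subgroup of `N_G(Q)`), every `a ∈ T ∖ Q` has `C_Q(a) = C_Q(T)` of
order 4, and `T/Q` has exponent 2. -/
structure Cfg (Q T : Subgroup G) : Prop where
  QT : Q ≤ T
  Qn : ∀ t ∈ T, ∀ q ∈ Q, t * q * t⁻¹ ∈ Q
  Qe : ∀ q ∈ Q, q ^ 2 = 1
  Qab : ∀ a ∈ Q, ∀ b ∈ Q, a * b = b * a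
  Qc : Nat.card ↥Q = 16
  Tc : Nat.card ↥T = 64
  sq : ∀ a ∈ T, a ^ 2 ∈ Q
  cen : ∀ a ∈ T, a ∉ Q → ∀ q ∈ Q, a * q = q * a → ∀ t ∈ T, t * q = q * t
  Zc : Nat.card {q : G // q ∈ Q ∧ ∀ t ∈ T, t * q = q * t} = 4
  syl : ∀ R : Subgroup G, T ≤ R → R ≤ Subgroup.normalizer (Q : Set G) → IsPGroup 2 ↥R → R = T

end Cfsg.Agent.Lib.Helper8.C5
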