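import Cfsg.Agent.Lib.Helper8.AschA1

set_option autoImplicit false

/-! Case A: structure of the minimal subgroup. -/

namespace Cfsg.Agent.Lib.Helper8.Asch

open Module Matrix
open scoped commutatorElement

variable {ι : Type} [Fintype ι] [DecidableEq ι] {F : Type*} [Field F]

namespace ACase

variable {H N : Subgroup (GL ι F)} (hA : ACase H N)

include hA

theorem structure_thm [Finite F] [Nonempty ι] :
    ∃ r m : ℕ, r.Prime ∧ Fintype.card ι = r ^ m ∧ IsPGroup r N ∧
      (∀ x ∈ N, x ^ (r * Nat.gcd 2 r) = 1) ∧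
      Nat.card ↥(N ⊓ Zs ι F) ∣ r * Nat.gcd 2 r ∧ Nat.card ↥(N ⊓ Zs ι F) ≠ 1 ∧
      Nat.card N = Nat.card ↥(N ⊓ Zs ι F) * r ^ (2 * m) := by
  obtain ⟨r, hr, hN⟩ := hA.caseA.exists_prime
  have hexp := hA.caseA.exponent_dvd hr hN (isCyclic_inf N)
  obtain ⟨hz1, hz2⟩ := hA.caseA.card_center_dvd hr hN (isCyclic_inf N)
  have hp : IsPGroup r N := by
    intro g
    obtain ⟨k, hk⟩ := hN g g.2
    refine ⟨k, Subtype.ext ?_⟩
    simpa using hk
  haveI : Fact r.Prime := ⟨hr⟩
  obtain ⟨a, ha⟩ := IsPGroup.iff_card.mp hp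
  have hcard := card_N hA.cl2
  have hdvd : Fintype.card ι ∣ r ^ a := by
    rw [← ha, hcard]
    exact Dvd.dvd.mul_left (Dvd.intro_left (Fintype.card ι ^ 1) (by ring)) _
  obtain ⟨m, -, hm⟩ := (Nat.dvd_prime_pow hr).mp hdvd
  refine ⟨r, m, hr, hm, hp, hexp, hz1, hz2, ?_⟩
  rw [hcard]
  congr 1
  rw [hm, ← pow_mul, mul_comm m 2]

theorem not_subsingleton [Finite F] [Nonempty ι] : ¬ Subsingleton N := by
  intro hs
  obtain ⟨x, hx, y, hy, hxy⟩ := hA.caseA.exists_noncomm
  apply hxy
  have h1 : (⟨x, hx⟩ : N) = 1 := Subsingleton.elim _ _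
  have h2 : x = 1 := congrArg Subtype.val h1
  rw [h2]
  simp

theorem exponent_eq [Finite F] [Nonempty ι] {r : ℕ} (hr : r.Prime)
    (hexp : ∀ x ∈ N, x ^ (r * Nat.gcd 2 r) = 1) : Monoid.exponent N = r * Nat.gcd 2 r := by
  have hdvd : Monoid.exponent N ∣ r * Nat.gcd 2 r := by
    apply Monoid.exponent_dvd_of_forall_pow_eq_one
    intro g
    apply Subtype.ext
    simpa using hexp g g.2
  have hne1 : Monoid.exponent N ≠ 1 := by
    intro h1
    exact hA.not_subsingleton (Monoid.exp_eq_one_iff.mp h1)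
  rcases hr.eq_two_or_odd' with h2 | hodd
  · subst h2
    have h4 : Monoid.exponent N ∣ 4 := hdvd
    have hne2 : Monoid.exponent N ≠ 2 := by
      intro h2
      obtain ⟨x, hx, y, hy, hxy⟩ := hA.caseA.exists_noncomm
      apply hxy
      have := mul_comm_of_exponent_two h2 (⟨x, hx⟩ : N) ⟨y, hy⟩
      have h3 : x * y = y * x := congrArg Subtype.val this
      rw [commutatorElement_def, h3]
      group
    have hle : Monoid.exponent N ≤ 4 := Nat.le_of_dvd (by norm_num) h4
    have h0 : Monoid.exponent N ≠ 0 := by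
      intro h0
      rw [h0] at h4
      omega
    have h3 : Monoid.exponent N ≠ 3 := by
      intro h3
      rw [h3] at h4
      omega
    show Monoid.exponent N = 2 * Nat.gcd 2 2
    have : Nat.gcd 2 2 = 2 := rfl
    rw [this]
    omega
  · have hg : Nat.gcd 2 r = 1 := by
      rw [← Nat.coprime_iff_gcd_eq_one]
      exact (Nat.coprime_primes Nat.prime_two hr).mpr (fun h => by
        rw [← h] at hodd
        exact absurd hodd (by decide))
    rw [hg, mul_one] at hdvd ⊢
    rcases (Nat.dvd_prime hr).mp hdvd with h | h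
    · exact absurd h hne1
    · exact h

end ACase

end Cfsg.Agent.Lib.Helper8.Asch
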