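import Cfsg.Agent.Lib.Helper8.AschB1

set_option autoImplicit false

/-! A central product of conjugate factors: the wreath form. -/

namespace Cfsg.Agent.Lib.Helper8.Asch

open Module Matrix
open Cfsg.Geo

variable {ι : Type} [Fintype ι] [DecidableEq ι] {F : Type*} [Field F]

theorem wreath_of_caseB [Finite F] [Nonempty ι] (H N : Subgroup (GL ι F))
    (hspan : Submodule.span F (mset N) = ⊤)
    (k : ℕ) (P : Fin k → Subgroup (GL ι F)) (hk : 2 ≤ k) (hPN : ∀ i, P i ≤ N)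
    (hcomm : ∀ i j, i ≠ j → ∀ x ∈ P i, ∀ y ∈ P j, x * y = y * x)
    (hgen : Subgroup.closure (⋃ i, (P i : Set (GL ι F))) = N)
    (hperm : ∀ h ∈ H, ∃ σ : Equiv.Perm (Fin k), ∀ i, cj h (P i) = P (σ i))
    (htrans : ∀ i j, ∃ h ∈ H, cj h (P i) = P j) : WreathFormG H := by
  have hgen' : HV N ≤ Subgroup.closure (⋃ i, (HV (P i) : Set (GLV F (ι → F)))) := by
    rw [← hgen]
    unfold HV
    rw [MonoidHom.map_closure]
    apply Subgroup.closure_mono
    rintro x ⟨g, hg, rfl⟩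
    obtain ⟨i, hi⟩ := Set.mem_iUnion.mp hg
    exact Set.mem_iUnion.mpr ⟨i, Subgroup.mem_map_of_mem _ hi⟩
  have hcomm' : ∀ i j, i ≠ j → ∀ x ∈ HV (P i), ∀ y ∈ HV (P j), x * y = y * x := by
    intro i j hij x hx y hy
    obtain ⟨x₀, hx₀, rfl⟩ := exists_of_mem_HV hx
    obtain ⟨y₀, hy₀, rfl⟩ := exists_of_mem_HV hy
    rw [← map_mul, ← map_mul, hcomm i j hij x₀ hx₀ y₀ hy₀]
  have hdim : ∀ i j, finrank F (algOf (HV (P i))) = finrank F (algOf (HV (P j))) := by
    have hle : ∀ i j, finrank F (algOf (HV (P i))) ≤ finrank F (algOf (HV (P j))) := by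
      intro i j
      obtain ⟨h, -, hh⟩ := htrans i j
      have := finrank_algOf_le (P i) h
      rwa [hh] at this
    exact fun i j => le_antisymm (hle i j) (hle j i)
  obtain ⟨m, b, hm, hb⟩ := tensor_factor_basis (by omega : 0 < k)
    (fun i => Subgroup.map_mono (hPN i)) hgen' hcomm' (irr_of_span N hspan)
    (cent_of_span N hspan) hdim
  refine ⟨k, m, b, hk, ?_⟩
  intro h hh
  obtain ⟨σ, hσ⟩ := hperm h hh
  set u : GLV F (ι → F) := toV h with hu
  have hg : ∀ i (X : Matrix (Fin m) (Fin m) F), ∃ X' : Matrix (Fin m) (Fin m) F,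
      (glMat b u : Matrix (Fin k → Fin m) (Fin k → Fin m) F) * posMat i X *
        (((glMat b u)⁻¹ : GL (Fin k → Fin m) F) : Matrix (Fin k → Fin m) (Fin k → Fin m) F) =
          posMat (σ i) X' := by
    intro i X
    obtain ⟨x, hx, hxX⟩ := (hb i).2 X
    have h1 := conj_mem_algOf (P i) h x hx
    rw [hσ i] at h1
    obtain ⟨X', hX'⟩ := (hb (σ i)).1 _ h1
    refine ⟨X', ?_⟩
    rw [← hX', ← map_inv, glMat_val, glMat_val, ← hxX, LinearMap.toMatrix_mul,
      LinearMap.toMatrix_mul]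
  obtain ⟨Us, hUs⟩ := wreath_decomp hm (by omega) (glMat b u) σ hg
  refine ⟨σ, Us, ?_⟩
  rw [← hUs, glMat_val, hu, toV_val]

end Cfsg.Agent.Lib.Helper8.Asch
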