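import Cfsg.Agent.Lib.Helper8.Asch20

set_option autoImplicit false

/-! Existence, similarity and hermitian normalisation of invariant forms. -/

namespace Cfsg.Agent.Lib.Helper8.Asch

open scoped commutatorElement
open Matrix

variable {ι : Type*} [Fintype ι] [DecidableEq ι] {F : Type*} [Field F]

theorem isUnit_star (σ : F →+* F) (h : GL ι F) : IsUnit (star σ (h : Matrix ι ι F)) :=
  ⟨sigT σ h⁻¹, by rw [sigT_val, inv_inv]⟩

theorem sv_inv [Nonempty ι] {k : GL ι F} (hk : k ∈ Zs ι F) : sv k⁻¹ = (sv k)⁻¹ := by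
  have h1 := sv_mul hk ((Zs ι F).inv_mem hk)
  rw [mul_inv_cancel, sv_one] at h1
  exact eq_inv_of_mul_eq_one_right h1.symm

theorem exists_FInv [Nonempty ι] (σ : F →+* F) {N : Subgroup (GL ι F)} (hN : Cl2 N)
    (hχ : ∀ k ∈ N, k ∈ Zs ι F → sv k * σ (sv k) = 1) :
    ∃ B : GL ι F, FInv σ N (B : Matrix ι ι F) := by
  let Φ₀ : N →* GL ι F := (sigT σ).comp N.subtype
  have hΦ : ∀ k : N, (k : GL ι F) ∈ Zs ι F → Φ₀ k = (k : GL ι F) := by
    intro k hk
    apply Units.ext
    show star σ (((k : GL ι F)⁻¹ : GL ι F) : Matrix ι ι F) = ((k : GL ι F) : Matrix ι ι F)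
    have hki := (Zs ι F).inv_mem hk
    rw [val_eq_sv_smul hki, val_eq_sv_smul hk, star_smul, star_one, sv_inv hk, map_inv₀]
    congr 1
    have := hχ k k.2 hk
    have h0 : σ (sv (k : GL ι F)) ≠ 0 := by
      intro h
      rw [h, mul_zero] at this
      exact zero_ne_one this
    field_simp
    rw [mul_comm]
    exact this.symm
  obtain ⟨U, hU⟩ := svn hN Φ₀ hΦ
  refine ⟨U, fun x hx => ?_⟩
  have h1 := hU ⟨x, hx⟩
  have h2 : star σ ((x⁻¹ : GL ι F) : Matrix ι ι F) =
      (U : Matrix ι ι F) * (x : Matrix ι ι F) * ((U⁻¹ : GL ι F) : Matrix ι ι F) := h1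
  have h3 : star σ ((x⁻¹ : GL ι F) : Matrix ι ι F) * (U : Matrix ι ι F) =
      (U : Matrix ι ι F) * (x : Matrix ι ι F) := by
    rw [h2, mul_assoc, Units.inv_mul, mul_one]
  calc star σ (x : Matrix ι ι F) * (U : Matrix ι ι F) * (x : Matrix ι ι F)
      = star σ (x : Matrix ι ι F) * (star σ ((x⁻¹ : GL ι F) : Matrix ι ι F) * (U : Matrix ι ι F)) := by
        rw [h3, mul_assoc]
    _ = (U : Matrix ι ι F) := by
        rw [← mul_assoc, ← star_mul, ← Units.val_mul, inv_mul_cancel, Units.val_one, star_one,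
          one_mul]

theorem FInv_conj (σ : F →+* F) {N : Subgroup (GL ι F)} {B : Matrix ι ι F} (hB : FInv σ N B)
    (h : GL ι F) (hh : ∀ x ∈ N, h * x * h⁻¹ ∈ N) :
    FInv σ N (star σ (h : Matrix ι ι F) * B * (h : Matrix ι ι F)) := by
  intro x hx
  have h1 := hB _ (hh x hx)
  have e : (h : Matrix ι ι F) * (x : Matrix ι ι F) =
      ((h * x * h⁻¹ : GL ι F) : Matrix ι ι F) * (h : Matrix ι ι F) := by
    rw [← Units.val_mul, ← Units.val_mul]
    congr 1
    group
  calc star σ (x : Matrix ι ι F) * (star σ (h : Matrix ι ι F) * B * (h : Matrix ι ι F)) *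
        (x : Matrix ι ι F)
      = star σ ((h : Matrix ι ι F) * (x : Matrix ι ι F)) * B *
          ((h : Matrix ι ι F) * (x : Matrix ι ι F)) := by
        rw [star_mul]; simp only [mul_assoc]
    _ = star σ (h : Matrix ι ι F) * (star σ ((h * x * h⁻¹ : GL ι F) : Matrix ι ι F) * B *
          ((h * x * h⁻¹ : GL ι F) : Matrix ι ι F)) * (h : Matrix ι ι F) := by
        rw [e, star_mul]; simp only [mul_assoc]
    _ = _ := by rw [h1]

theorem FInv_similarity (σ : F →+* F) {N : Subgroup (GL ι F)}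
    (hspan : Submodule.span F (mset N) = ⊤) (B : GL ι F) (hB : FInv σ N (B : Matrix ι ι F))
    (h : GL ι F) (hh : ∀ x ∈ N, h * x * h⁻¹ ∈ N) [Nonempty ι] :
    ∃ c : F, c ≠ 0 ∧
      star σ (h : Matrix ι ι F) * (B : Matrix ι ι F) * (h : Matrix ι ι F) =
        c • (B : Matrix ι ι F) := by
  obtain ⟨c, hc⟩ := FInv_unique σ hspan B hB (FInv_conj σ hB h hh)
  refine ⟨c, ?_, hc⟩
  rintro rfl
  rw [zero_smul] at hc
  have hu : IsUnit (star σ (h : Matrix ι ι F) * (B : Matrix ι ι F) * (h : Matrix ι ι F)) :=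
    ((isUnit_star σ h).mul B.isUnit).mul h.isUnit
  rw [hc] at hu
  exact not_isUnit_zero hu

theorem FInv_smul (σ : F →+* F) {S : Set (GL ι F)} {B : Matrix ι ι F} (hB : FInv σ S B) (d : F) :
    FInv σ S (d • B) := by
  intro x hx
  rw [Matrix.mul_smul, Matrix.smul_mul, hB x hx]

theorem exists_hermitian [Nonempty ι] (σ : F →+* F) (hσ : ∀ a, σ (σ a) = a) (hσne : ∃ a, σ a ≠ a)
    {N : Subgroup (GL ι F)} (hspan : Submodule.span F (mset N) = ⊤) (B : GL ι F)
    (hB : FInv σ N (B : Matrix ι ι F)) :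
    ∃ B' : GL ι F, FInv σ N (B' : Matrix ι ι F) ∧
      star σ (B' : Matrix ι ι F) = (B' : Matrix ι ι F) := by
  obtain ⟨c, hc⟩ := FInv_unique σ hspan B hB (FInv_star σ hσ hB)
  have hB0 : (B : Matrix ι ι F) ≠ 0 := B.isUnit.ne_zero
  have hcc : σ c * c = 1 := by
    have h1 := congrArg (star σ) hc
    rw [star_star σ hσ, star_smul, hc, smul_smul] at h1
    have h2 : (σ c * c - 1) • (B : Matrix ι ι F) = 0 := by
      rw [sub_smul, one_smul, ← h1, sub_self]
    rcases smul_eq_zero.mp h2 with h | h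
    · exact sub_eq_zero.mp h
    · exact absurd h hB0
  obtain ⟨d, hd0, hd⟩ : ∃ d : F, d ≠ 0 ∧ σ d * c = d := by
    by_cases h1 : 1 + c = 0
    · obtain ⟨a, ha⟩ := hσne
      have hc1 : c = -1 := by linear_combination h1
      refine ⟨a - σ a, sub_ne_zero.mpr (Ne.symm ha), ?_⟩
      rw [map_sub, hσ, hc1]
      ring
    · refine ⟨1 + c, h1, ?_⟩
      rw [map_add, map_one, add_mul, one_mul, hcc, add_comm]
  have hdet : ((d • (B : Matrix ι ι F)).det) ≠ 0 := by
    rw [Matrix.det_smul]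
    exact mul_ne_zero (pow_ne_zero _ hd0) ((Matrix.isUnit_iff_isUnit_det _).mp B.isUnit).ne_zero
  refine ⟨Matrix.GeneralLinearGroup.mkOfDetNeZero _ hdet, FInv_smul σ hB d, ?_⟩
  show star σ (d • (B : Matrix ι ι F)) = d • (B : Matrix ι ι F)
  rw [star_smul, hc, smul_smul, hd]

theorem symm_or_skew [Nonempty ι] {N : Subgroup (GL ι F)}
    (hspan : Submodule.span F (mset N) = ⊤) (B : GL ι F)
    (hB : FInv (RingHom.id F) N (B : Matrix ι ι F)) :
    (B : Matrix ι ι F)ᵀ = (B : Matrix ι ι F) ∨ (B : Matrix ι ι F)ᵀ = -(B : Matrix ι ι F) := by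
  have hσ : ∀ a : F, (RingHom.id F) ((RingHom.id F) a) = a := fun a => rfl
  obtain ⟨c, hc⟩ := FInv_unique (RingHom.id F) hspan B hB (FInv_star _ hσ hB)
  have hB0 : (B : Matrix ι ι F) ≠ 0 := B.isUnit.ne_zero
  have hst : ∀ X : Matrix ι ι F, star (RingHom.id F) X = Xᵀ := by
    intro X
    ext i j
    rfl
  rw [hst] at hc
  have hcc : c * c = 1 := by
    have h1 := congrArg Matrix.transpose hc
    rw [Matrix.transpose_transpose, Matrix.transpose_smul, hc, smul_smul] at h1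
    have h2 : (c * c - 1) • (B : Matrix ι ι F) = 0 := by
      rw [sub_smul, one_smul, ← h1, sub_self]
    rcases smul_eq_zero.mp h2 with h | h
    · exact sub_eq_zero.mp h
    · exact absurd h hB0
  rcases mul_self_eq_one_iff.mp hcc with h | h
  · left; rw [hc, h, one_smul]
  · right; rw [hc, h, neg_smul, one_smul]

end Cfsg.Agent.Lib.Helper8.Asch
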