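import Cfsg.Agent.Lib.Helper8.AschM4

set_option autoImplicit false

/-! Forms given by Gram matrices. -/

namespace Cfsg.Agent.Lib.Helper8.Asch

open Module Matrix
open Cfsg.Geo

variable {ι : Type} [Fintype ι] [DecidableEq ι] {F : Type*} [Field F]

/-- the sesquilinear form with matrix `G` -/
def gf (σ : F →+* F) (G : Matrix ι ι F) (u v : ι → F) : F := u ⬝ᵥ (G *ᵥ (σ ∘ v))

theorem gf_add_left (σ : F →+* F) (G : Matrix ι ι F) (x y v : ι → F) :
    gf σ G (x + y) v = gf σ G x v + gf σ G y v := add_dotProduct _ _ _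

theorem gf_smul_left (σ : F →+* F) (G : Matrix ι ι F) (c : F) (x v : ι → F) :
    gf σ G (c • x) v = c * gf σ G x v := by
  unfold gf
  rw [smul_dotProduct, smul_eq_mul]

theorem comp_add (σ : F →+* F) (x y : ι → F) : σ ∘ (x + y) = σ ∘ x + σ ∘ y := by
  funext i
  simp

theorem comp_smul (σ : F →+* F) (c : F) (x : ι → F) : σ ∘ (c • x) = σ c • (σ ∘ x) := by
  funext i
  simp

theorem gf_add_right (σ : F →+* F) (G : Matrix ι ι F) (v x y : ι → F) :
    gf σ G v (x + y) = gf σ G v x + gf σ G v y := by
  unfold gf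
  rw [comp_add, mulVec_add, dotProduct_add]

theorem gf_smul_right (σ : F →+* F) (G : Matrix ι ι F) (c : F) (v x : ι → F) :
    gf σ G v (c • x) = σ c * gf σ G v x := by
  unfold gf
  rw [comp_smul, mulVec_smul, dotProduct_smul, smul_eq_mul]

theorem mulVec_dotProduct' (h : Matrix ι ι F) (u w : ι → F) :
    (h *ᵥ u) ⬝ᵥ w = u ⬝ᵥ (hᵀ *ᵥ w) := by
  rw [dotProduct_comm, dotProduct_mulVec, dotProduct_comm, mulVec_transpose]

theorem comp_mulVec (σ : F →+* F) (h : Matrix ι ι F) (v : ι → F) :
    σ ∘ (h *ᵥ v) = h.map σ *ᵥ (σ ∘ v) := by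
  funext i
  exact RingHom.map_mulVec σ h v i

theorem gf_mulVec (σ : F →+* F) (G h : Matrix ι ι F) (u v : ι → F) :
    gf σ G (h *ᵥ u) (h *ᵥ v) = gf σ (hᵀ * G * h.map σ) u v := by
  unfold gf
  rw [mulVec_dotProduct', comp_mulVec, mulVec_mulVec, mulVec_mulVec, Matrix.mul_assoc]

theorem gf_smul_mat (σ : F →+* F) (G : Matrix ι ι F) (c : F) (u v : ι → F) :
    gf σ (c • G) u v = c * gf σ G u v := by
  unfold gf
  rw [smul_mulVec, dotProduct_smul, smul_eq_mul]

theorem comp_single (σ : F →+* F) (b : ι) : σ ∘ (Pi.single b (1 : F)) = Pi.single b 1 := by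
  funext i
  by_cases h : i = b
  · subst h; simp
  · simp [Pi.single_eq_of_ne h]

theorem gf_single (σ : F →+* F) (G : Matrix ι ι F) (a b : ι) :
    gf σ G (Pi.single a 1) (Pi.single b 1) = G a b := by
  unfold gf
  rw [comp_single, single_dotProduct, one_mul, mulVec_single_one]
  rfl

theorem gf_herm (σ : F →+* F) (hσ : ∀ a, σ (σ a) = a) (G : Matrix ι ι F)
    (hG : ∀ a b, σ (G b a) = G a b) (v w : ι → F) : gf σ G v w = σ (gf σ G w v) := by
  unfold gf
  simp only [dotProduct, mulVec, map_sum, map_mul, Function.comp, hσ, Finset.mul_sum, hG]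
  rw [Finset.sum_comm]
  refine Finset.sum_congr rfl fun a _ => Finset.sum_congr rfl fun b _ => ?_
  ring

theorem gf_nondeg (σ : F →+* F) (hσ : Function.Injective σ) (G : Matrix ι ι F) (hG : G.det ≠ 0) :
    IsNondegenerateForm (gf σ G) := by
  intro v hv
  constructor
  · have h1 : σ ∘ v ≠ 0 := by
      intro h0
      apply hv
      funext i
      have := congrFun h0 i
      simp only [Function.comp, Pi.zero_apply] at this
      exact hσ (by rw [this, Pi.zero_apply, map_zero])
    have h2 : G *ᵥ (σ ∘ v) ≠ 0 := by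
      intro h0
      exact hG (exists_mulVec_eq_zero_iff.mp ⟨_, h1, h0⟩)
    obtain ⟨i, hi⟩ : ∃ i, (G *ᵥ (σ ∘ v)) i ≠ 0 := by
      by_contra hcon
      push Not at hcon
      exact h2 (funext hcon)
    refine ⟨Pi.single i 1, ?_⟩
    unfold gf
    rw [single_dotProduct, one_mul]
    exact hi
  · have h2 : v ᵥ* G ≠ 0 := by
      intro h0
      exact hG (exists_vecMul_eq_zero_iff.mp ⟨_, hv, h0⟩)
    obtain ⟨i, hi⟩ : ∃ i, (v ᵥ* G) i ≠ 0 := by
      by_contra hcon
      push Not at hcon
      exact h2 (funext hcon)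
    refine ⟨Pi.single i 1, ?_⟩
    unfold gf
    rw [comp_single, dotProduct_mulVec, dotProduct_single, mul_one]
    exact hi

theorem det_ne_zero_of_nondeg (σ : F →+* F) (hσ : Function.Surjective σ) (G : Matrix ι ι F)
    (h : IsNondegenerateForm (gf σ G)) : G.det ≠ 0 := by
  intro h0
  obtain ⟨w, hw, hGw⟩ := exists_mulVec_eq_zero_iff.mpr h0
  choose τ hτ using hσ
  have hv : (fun b => τ (w b)) ≠ 0 := by
    intro hv0
    apply hw
    funext b
    have := congrFun hv0 b
    simp only [Pi.zero_apply] at this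
    rw [← hτ (w b), this, map_zero]
    rfl
  obtain ⟨⟨x, hx⟩, _⟩ := h _ hv
  apply hx
  unfold gf
  have : σ ∘ (fun b => τ (w b)) = w := by
    funext b
    simp [hτ]
  rw [this, hGw, dotProduct_zero]

/-- a form that is linear on the left and semilinear on the right is given by its Gram matrix -/
theorem eq_gf (σ : F →+* F) (f : (ι → F) → (ι → F) → F)
    (hal : ∀ x y v, f (x + y) v = f x v + f y v)
    (hsl : ∀ (c : F) (x v : ι → F), f (c • x) v = c * f x v)
    (har : ∀ v x y, f v (x + y) = f v x + f v y)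
    (hsr : ∀ (c : F) (v x : ι → F), f v (c • x) = σ c * f v x) (u v : ι → F) :
    f u v = gf σ (gramMatrix f) u v := by
  have h1 : ∀ w : ι → F, f u w = ∑ a, u a * f (Pi.single a 1) w := by
    intro w
    let L : (ι → F) →ₗ[F] F :=
      { toFun := fun x => f x w
        map_add' := fun x y => hal x y w
        map_smul' := fun c x => by simp only [RingHom.id_apply, smul_eq_mul]; exact hsl c x w }
    have := LinearMap.pi_apply_eq_sum_univ L u
    simp only [smul_eq_mul] at this
    have e : ∀ a : ι, (fun j => if a = j then (1 : F) else 0) = Pi.single a 1 := by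
      intro a
      funext j
      by_cases h : j = a
      · subst h; simp
      · rw [Pi.single_eq_of_ne h, if_neg (Ne.symm h)]
    simp only [e] at this
    exact this
  have h2 : ∀ w : ι → F, f w v = ∑ b, σ (v b) * f w (Pi.single b 1) := by
    intro w
    let L : (ι → F) →+ F :=
      { toFun := fun x => f w x
        map_zero' := by
          have := har w 0 0
          rw [add_zero] at this
          exact left_eq_add.mp this
        map_add' := fun x y => har w x y }
    have e : v = ∑ b, v b • Pi.single (M := fun _ => F) b (1 : F) := pi_eq_sum_univ' v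
    have : L v = ∑ b, L (v b • Pi.single (M := fun _ => F) b (1 : F)) := by
      conv_lhs => rw [e]
      exact map_sum L _ _
    show L v = _
    rw [this]
    refine Finset.sum_congr rfl fun b _ => ?_
    exact hsr _ _ _
  rw [h1 v]
  unfold gf
  simp only [dotProduct, mulVec, Function.comp]
  refine Finset.sum_congr rfl fun a _ => ?_
  congr 1
  rw [h2]
  refine Finset.sum_congr rfl fun b _ => ?_
  rw [mul_comm]
  rfl

end Cfsg.Agent.Lib.Helper8.Asch
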