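import Cfsg.Agent.Lib.Helper8.AschILC
import Cfsg.Agent.Lib.Helper8.AschF1
import Cfsg.Agent.Lib.Helper8.Asch21

set_option autoImplicit false

/-! Membership in the three kinds of class 8 from Gram-matrix data. -/

namespace Cfsg.Agent.Lib.Helper8.Asch

open Module Matrix
open Cfsg.Geo

variable {n : ℕ} {F : Type*} [Field F]

theorem map_id' {ι : Type*} (h : Matrix ι ι F) : h.map (RingHom.id F) = h := by
  ext i j
  rfl

theorem gf_alt {ι : Type} [Fintype ι] [DecidableEq ι] (G : Matrix ι ι F)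
    (hskew : ∀ a b, G a b + G b a = 0) (hdiag : ∀ a, G a a = 0) (v : ι → F) :
    gf (RingHom.id F) G v v = 0 := by
  unfold gf
  simp only [dotProduct, mulVec, Function.comp, RingHom.id_apply, Finset.mul_sum]
  rw [← Finset.sum_product']
  refine Finset.sum_ninvolution (fun p => (p.2, p.1)) ?_ ?_ ?_ ?_
  · rintro ⟨a, b⟩
    have e : G b a = - G a b := eq_neg_of_add_eq_zero_right (hskew a b)
    simp only
    rw [e]
    ring
  · rintro ⟨a, b⟩ hne heq
    apply hne
    simp only [Prod.mk.injEq] at heq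
    obtain ⟨rfl, -⟩ := heq
    simp only
    rw [hdiag]
    ring
  · intro p
    simp
  · rintro ⟨a, b⟩
    rfl

theorem gf_skew {ι : Type} [Fintype ι] [DecidableEq ι] (G : Matrix ι ι F)
    (hskew : ∀ a b, G a b + G b a = 0) (v w : ι → F) :
    gf (RingHom.id F) G v w = - gf (RingHom.id F) G w v := by
  unfold gf
  simp only [dotProduct, mulVec, Function.comp, RingHom.id_apply, Finset.mul_sum]
  rw [Finset.sum_comm, ← Finset.sum_neg_distrib]
  refine Finset.sum_congr rfl fun a _ => ?_
  rw [← Finset.sum_neg_distrib]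
  refine Finset.sum_congr rfl fun b _ => ?_
  have e : G b a = - G a b := eq_neg_of_add_eq_zero_right (hskew a b)
  rw [e]
  ring

theorem gf_bilinear {ι : Type} [Fintype ι] [DecidableEq ι] (G : Matrix ι ι F) :
    IsBilinearForm (gf (RingHom.id F) G) :=
  ⟨gf_add_left _ _, gf_smul_left _ _, gf_add_right _ _, fun c v x => by
    rw [gf_smul_right]; rfl⟩

theorem class8a [Fintype F] (hn4 : 4 ≤ n) (hne : Even n) (H : Subgroup (GL (Fin n) F))
    (G : Matrix (Fin n) (Fin n) F) (hdet : G.det ≠ 0) (hskew : ∀ a b, G a b + G b a = 0)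
    (hdiag : ∀ a, G a a = 0)
    (hH : ∀ h ∈ H, ∃ c : F, c ≠ 0 ∧
      (h : Matrix (Fin n) (Fin n) F)ᵀ * G * (h : Matrix (Fin n) (Fin n) F) = c • G) :
    ∃ M : Subgroup (GL (Fin n) F), ILC n F M ∧ H ≤ M := by
  refine ⟨similarityGroup (gf (RingHom.id F) G), ?_, ?_⟩
  · right; right; right; right; right; right; right; right; right; left
    refine ⟨_, ⟨gf_bilinear G, gf_skew G hskew, gf_alt G hskew hdiag,
      gf_nondeg _ (fun a b h => h) G hdet⟩, hne, hn4, rfl⟩
  · intro h hh
    obtain ⟨c, hc, hcG⟩ := hH h hh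
    refine ⟨Units.mk0 c hc, fun u v => ?_⟩
    rw [gf_mulVec, map_id', hcG, gf_smul_mat]
    rfl

theorem class8b [Fintype F] (hn : 3 ≤ n) (H : Subgroup (GL (Fin n) F)) (σ : F ≃+* F)
    (hσne : σ ≠ RingEquiv.refl F) (hσ : ∀ a, σ (σ a) = a)
    (B : Matrix (Fin n) (Fin n) F) (hdet : B.det ≠ 0)
    (hB : star (σ : F →+* F) B = B)
    (hH : ∀ h ∈ H, ∃ c : F, c ≠ 0 ∧
      star (σ : F →+* F) (h : Matrix (Fin n) (Fin n) F) * B * (h : Matrix (Fin n) (Fin n) F) =
        c • B) :
    ∃ M : Subgroup (GL (Fin n) F), ILC n F M ∧ H ≤ M := by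
  refine ⟨similarityGroup (gf (σ : F →+* F) Bᵀ), ?_, ?_⟩
  · right; right; right; right; right; right; right; right; right; right; left
    refine ⟨σ, _, ⟨hσne, hσ, gf_add_left _ _, gf_smul_left _ _, ?_, ?_⟩, hn, rfl⟩
    · intro v w
      have := gf_herm (σ : F →+* F) hσ Bᵀ ?_ v w
      · exact this
      · intro a b
        have := congrFun (congrFun hB b) a
        rw [star_apply] at this
        exact this
    · refine gf_nondeg _ σ.injective _ ?_
      rw [det_transpose]
      exact hdet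
  · intro h hh
    obtain ⟨c, hc, hcB⟩ := hH h hh
    refine ⟨Units.mk0 c hc, fun u v => ?_⟩
    rw [gf_mulVec]
    have : (h : Matrix (Fin n) (Fin n) F)ᵀ * Bᵀ *
        (h : Matrix (Fin n) (Fin n) F).map (σ : F →+* F) = c • Bᵀ := by
      have := congrArg Matrix.transpose hcB
      rw [transpose_mul, transpose_mul, transpose_smul] at this
      rw [Matrix.mul_assoc]
      rw [← this]
      unfold star
      rw [transpose_transpose]
    rw [this, gf_smul_mat]
    rfl

theorem gf_transpose {ι : Type} [Fintype ι] [DecidableEq ι] (G : Matrix ι ι F) (v w : ι → F) :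
    gf (RingHom.id F) Gᵀ v w = gf (RingHom.id F) G w v := by
  unfold gf
  have : (RingHom.id F : F → F) ∘ w = w := rfl
  have h2 : (RingHom.id F : F → F) ∘ v = v := rfl
  rw [this, h2, mulVec_transpose, dotProduct_comm, ← dotProduct_mulVec]

theorem gf_add_mat {ι : Type} [Fintype ι] [DecidableEq ι] (σ : F →+* F) (G G' : Matrix ι ι F)
    (v w : ι → F) : gf σ (G + G') v w = gf σ G v w + gf σ G' v w := by
  unfold gf
  rw [add_mulVec, dotProduct_add]

theorem polar_gf {ι : Type} [Fintype ι] [DecidableEq ι] (G : Matrix ι ι F) (v w : ι → F) :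
    QuadraticMap.polar (fun v => gf (RingHom.id F) G v v) v w =
      gf (RingHom.id F) (G + Gᵀ) v w := by
  unfold QuadraticMap.polar
  rw [gf_add_mat, gf_transpose]
  simp only [gf_add_left, gf_add_right]
  ring

theorem two_ne_zero_of_odd [Fintype F] (hodd : Odd (Fintype.card F)) : (2 : F) ≠ 0 := by
  intro h2
  obtain ⟨p, hp⟩ := CharP.exists F
  have hp2 : p ∣ 2 := by
    have := (CharP.cast_eq_zero_iff F p 2).mp (by exact_mod_cast h2)
    exact this
  have hpc : p ∣ Fintype.card F := by
    have := (CharP.cast_eq_zero_iff F p (Fintype.card F)).mp (Nat.cast_card_eq_zero F)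
    exact this
  have hp1 : p ≠ 1 := by
    intro h1
    subst h1
    exact CharP.char_ne_one F 1 rfl
  have : p = 2 := by
    rcases (Nat.dvd_prime Nat.prime_two).mp hp2 with h | h
    · exact absurd h hp1
    · exact h
  subst this
  exact (Nat.not_even_iff_odd.mpr hodd) (even_iff_two_dvd.mpr hpc)

theorem class8c [Fintype F] (hn : 3 ≤ n) (hodd : Odd (Fintype.card F)) (H : Subgroup (GL (Fin n) F))
    (G : Matrix (Fin n) (Fin n) F) (hdet : G.det ≠ 0) (hsymm : Gᵀ = G)
    (hH : ∀ h ∈ H, ∃ c : F, c ≠ 0 ∧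
      (h : Matrix (Fin n) (Fin n) F)ᵀ * G * (h : Matrix (Fin n) (Fin n) F) = c • G) :
    ∃ M : Subgroup (GL (Fin n) F), ILC n F M ∧ H ≤ M := by
  have h2 : (2 : F) ≠ 0 := two_ne_zero_of_odd hodd
  refine ⟨quadSimilarityGroup (fun v => gf (RingHom.id F) G v v), ?_, ?_⟩
  · right; right; right; right; right; right; right; right; right; right; right
    refine ⟨_, ⟨?_, ?_, ?_⟩, hodd, hn, rfl⟩
    · intro c v
      rw [gf_smul_left, gf_smul_right]
      simp only [RingHom.id_apply]
      ring
    · have : QuadraticMap.polar (fun v => gf (RingHom.id F) G v v) =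
          gf (RingHom.id F) (G + Gᵀ) := by
        funext v w
        exact polar_gf G v w
      rw [this]
      exact gf_bilinear _
    · have : QuadraticMap.polar (fun v => gf (RingHom.id F) G v v) =
          gf (RingHom.id F) (G + Gᵀ) := by
        funext v w
        exact polar_gf G v w
      rw [this]
      refine gf_nondeg _ (fun a b h => h) _ ?_
      rw [hsymm, ← two_smul F G, det_smul]
      exact mul_ne_zero (pow_ne_zero _ h2) hdet
  · intro h hh
    obtain ⟨c, hc, hcG⟩ := hH h hh
    refine ⟨Units.mk0 c hc, fun v => ?_⟩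
    show gf (RingHom.id F) G _ _ = _
    rw [gf_mulVec, map_id', hcG, gf_smul_mat]
    rfl

end Cfsg.Agent.Lib.Helper8.Asch
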