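import Cfsg.Agent.Lib.Helper8.AschILC
import Cfsg.Agent.Lib.Helper8.AschF2

set_option autoImplicit false

/-! From the wreath form to class 7 or class 8. -/

namespace Cfsg.Agent.Lib.Helper8.Asch

open Module Matrix
open Cfsg.Geo

variable {n k m : ℕ} {F : Type*} [Field F]

theorem ptM_transpose (Xs : Fin k → Matrix (Fin m) (Fin m) F) :
    (ptM Xs)ᵀ = ptM (fun i => (Xs i)ᵀ) := by
  ext f g
  rfl

theorem ptM_smul_family (c : Fin k → F) (Xs : Fin k → Matrix (Fin m) (Fin m) F) :
    ptM (fun i => c i • Xs i) = (∏ i, c i) • ptM Xs := by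
  ext f g
  rw [Matrix.smul_apply, ptM_apply, ptM_apply, smul_eq_mul, ← Finset.prod_mul_distrib]
  rfl

theorem facPerm_transpose (σ : Equiv.Perm (Fin k)) :
    (facPerm m F σ)ᵀ = facPerm m F σ⁻¹ := by
  ext x y
  show (if x = y ∘ σ then (1 : F) else 0) = if y = x ∘ (σ⁻¹ : Equiv.Perm (Fin k)) then 1 else 0
  have : x = y ∘ σ ↔ y = x ∘ (σ⁻¹ : Equiv.Perm (Fin k)) := by
    constructor
    · intro h
      funext i
      rw [h]
      simp
    · intro h
      funext i
      rw [h]
      simp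
  simp only [this]

/-- a factor permutation as an invertible matrix -/
def facGL (m : ℕ) (F : Type*) [Field F] (σ : Equiv.Perm (Fin k)) : GL (Fin k → Fin m) F :=
  ⟨facPerm m F σ, facPerm m F σ⁻¹, by rw [facPerm_mul, mul_inv_cancel, facPerm_one],
    by rw [facPerm_mul, inv_mul_cancel, facPerm_one]⟩

/-- a pure tensor as an invertible matrix -/
def ptGL (Us : Fin k → GL (Fin m) F) : GL (Fin k → Fin m) F :=
  ⟨ptM (fun i => ((Us i : GL (Fin m) F) : Matrix (Fin m) (Fin m) F)),
   ptM (fun i => (((Us i)⁻¹ : GL (Fin m) F) : Matrix (Fin m) (Fin m) F)),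
   by rw [ptM_mul]; simp only [Units.mul_inv]; exact ptM_one,
   by rw [ptM_mul]; simp only [Units.inv_mul]; exact ptM_one⟩

theorem class7_of_wreath [Fintype F] (H : Subgroup (GL (Fin n) F)) (hm : 3 ≤ m) (hk : 2 ≤ k)
    (b : Basis (Fin k → Fin m) F (Fin n → F))
    (hH : ∀ h ∈ H, ∃ (σ : Equiv.Perm (Fin k)) (Us : Fin k → GL (Fin m) F),
      LinearMap.toMatrix b b (Matrix.toLin' (h : Matrix (Fin n) (Fin n) F)) =
        facPerm m F σ * ptM (fun i => ((Us i : GL (Fin m) F) : Matrix (Fin m) (Fin m) F))) :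
    ∃ M : Subgroup (GL (Fin n) F), ILC n F M ∧ H ≤ M := by
  have hcard : Fintype.card (Fin n) = Fintype.card (Fin k → Fin m) := by
    have h1 := Module.finrank_eq_card_basis b
    rw [Module.finrank_fin_fun] at h1
    rw [Fintype.card_fin, ← h1]
  let e' : Fin n ≃ (Fin k → Fin m) := Fintype.equivOfCardEq hcard
  obtain ⟨P, hP⟩ := mem_conj_reindex (tensorWreathStandard m k F) b e'
  refine ⟨tensorWreathSubgroup m k e' P, ?_, ?_⟩
  · right; right; right; right; right; right; right; right; left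
    exact ⟨m, k, e', P, hm, hk, rfl⟩
  · intro h hh
    obtain ⟨σ, Us, hσU⟩ := hH h hh
    refine hP h ⟨facGL m F σ * ptGL Us, ?_, hσU⟩
    refine Subgroup.mul_mem _ (Subgroup.subset_closure (Or.inr ⟨σ, fun x y => rfl⟩))
      (Subgroup.subset_closure (Or.inl ⟨Us, fun x y => rfl⟩))

/-- the standard alternating matrix of size two -/
def J2 (F : Type*) [Field F] : Matrix (Fin 2) (Fin 2) F := !![0, 1; -1, 0]

theorem J2_conj (U : Matrix (Fin 2) (Fin 2) F) : Uᵀ * J2 F * U = U.det • J2 F := by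
  ext i j
  fin_cases i <;> fin_cases j <;>
    simp [J2, Matrix.mul_apply, Fin.sum_univ_two, Matrix.det_fin_two] <;> ring

theorem J2_transpose : (J2 F)ᵀ = (-1 : F) • J2 F := by
  ext i j
  fin_cases i <;> fin_cases j <;> simp [J2]

theorem J2_mul_neg : J2 F * (-J2 F) = 1 := by
  ext i j
  fin_cases i <;> fin_cases j <;> simp [J2, Matrix.mul_apply, Fin.sum_univ_two]

theorem J2_diag (a : Fin 2) : J2 F a a = 0 := by
  fin_cases a <;> simp [J2]

/-- the tensor power of the alternating matrix -/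
def Om (k : ℕ) (F : Type*) [Field F] : Matrix (Fin k → Fin 2) (Fin k → Fin 2) F :=
  ptM (fun _ => J2 F)

theorem Om_transpose : (Om k F)ᵀ = ((-1 : F) ^ k) • Om k F := by
  unfold Om
  rw [ptM_transpose]
  simp only [J2_transpose]
  rw [ptM_smul_family]
  simp

theorem Om_diag (hk : 0 < k) (f : Fin k → Fin 2) : Om k F f f = 0 := by
  unfold Om
  rw [ptM_apply]
  exact Finset.prod_eq_zero (Finset.mem_univ ⟨0, hk⟩) (J2_diag _)

theorem Om_mul_inv : Om k F * ptM (fun _ : Fin k => -J2 F) = 1 := by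
  unfold Om
  rw [ptM_mul]
  simp only [J2_mul_neg]
  exact ptM_one

theorem Om_conj (σ : Equiv.Perm (Fin k)) (Us : Fin k → Matrix (Fin 2) (Fin 2) F) :
    (facPerm 2 F σ * ptM Us)ᵀ * Om k F * (facPerm 2 F σ * ptM Us) =
      (∏ i, (Us i).det) • Om k F := by
  rw [transpose_mul, facPerm_transpose]
  have h1 : facPerm 2 F σ⁻¹ * Om k F * facPerm 2 F σ = Om k F := by
    have := facPerm_conj_ptM (m := 2) (F := F) σ⁻¹ (fun _ : Fin k => J2 F)
    rw [inv_inv] at this
    exact this
  calc (ptM Us)ᵀ * facPerm 2 F σ⁻¹ * Om k F * (facPerm 2 F σ * ptM Us)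
      = (ptM Us)ᵀ * (facPerm 2 F σ⁻¹ * Om k F * facPerm 2 F σ) * ptM Us := by
        simp only [Matrix.mul_assoc]
    _ = (ptM Us)ᵀ * Om k F * ptM Us := by rw [h1]
    _ = (∏ i, (Us i).det) • Om k F := by
        unfold Om
        rw [ptM_transpose, ptM_mul, ptM_mul]
        simp only [J2_conj]
        rw [ptM_smul_family]

theorem two_eq_zero_of_not_odd [Fintype F] (h : ¬ Odd (Fintype.card F)) : (2 : F) = 0 := by
  obtain ⟨p, hp⟩ := CharP.exists F
  obtain ⟨e, hpp, he⟩ := FiniteField.card F p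
  have heven : Even (Fintype.card F) := Nat.not_odd_iff_even.mp h
  rw [he] at heven
  have hp2 : Even p := (Nat.even_pow.mp heven).1
  have : p = 2 := (Nat.Prime.even_iff hpp).mp hp2
  subst this
  exact_mod_cast CharP.cast_eq_zero F 2

theorem class8_of_wreath [Fintype F] (hn : 3 ≤ n) (H : Subgroup (GL (Fin n) F)) (hk : 2 ≤ k)
    (b : Basis (Fin k → Fin 2) F (Fin n → F))
    (hH : ∀ h ∈ H, ∃ (σ : Equiv.Perm (Fin k)) (Us : Fin k → GL (Fin 2) F),
      LinearMap.toMatrix b b (Matrix.toLin' (h : Matrix (Fin n) (Fin n) F)) =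
        facPerm 2 F σ * ptM (fun i => ((Us i : GL (Fin 2) F) : Matrix (Fin 2) (Fin 2) F))) :
    ∃ M : Subgroup (GL (Fin n) F), ILC n F M ∧ H ≤ M := by
  have hcard : n = 2 ^ k := by
    have h1 := Module.finrank_eq_card_basis b
    rw [Module.finrank_fin_fun, Fintype.card_fun, Fintype.card_fin, Fintype.card_fin] at h1
    exact h1
  set T : Matrix (Fin k → Fin 2) (Fin n) F := b.toMatrix (Pi.basisFun F (Fin n)) with hT
  set T' : Matrix (Fin n) (Fin k → Fin 2) F := (Pi.basisFun F (Fin n)).toMatrix b with hT'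
  have q1 : T * T' = 1 := Basis.toMatrix_mul_toMatrix_flip _ _
  have q2 : T' * T = 1 := Basis.toMatrix_mul_toMatrix_flip _ _
  set G : Matrix (Fin n) (Fin n) F := Tᵀ * Om k F * T with hG
  have hGT : Gᵀ = ((-1 : F) ^ k) • G := by
    rw [hG, transpose_mul, transpose_mul, transpose_transpose, Om_transpose, Matrix.smul_mul,
      Matrix.mul_smul, Matrix.mul_assoc]
  have hdet : G.det ≠ 0 := by
    have : G * (T' * ptM (fun _ : Fin k => -J2 F) * T'ᵀ) = 1 := by
      rw [hG]
      calc Tᵀ * Om k F * T * (T' * ptM (fun _ : Fin k => -J2 F) * T'ᵀ)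
          = Tᵀ * (Om k F * ((T * T') * ptM (fun _ : Fin k => -J2 F))) * T'ᵀ := by
            simp only [Matrix.mul_assoc]
        _ = Tᵀ * T'ᵀ := by rw [q1, Matrix.one_mul, Om_mul_inv, Matrix.mul_one]
        _ = 1 := by rw [← transpose_mul, q2, transpose_one]
    exact (Matrix.isUnit_det_of_right_inverse this).ne_zero
  have hskewX : ∀ (ε : F), 1 + ε = 0 → ∀ {κ : Type} (X : Matrix κ κ F), Xᵀ = ε • X →
      ∀ x y, X x y + X y x = 0 := by
    intro ε hε κ X hX x y
    have := congrFun (congrFun hX x) y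
    rw [transpose_apply, Matrix.smul_apply, smul_eq_mul] at this
    rw [this]
    linear_combination (X x y) * hε
  have hdiag : (1 + (-1 : F) ^ k = 0) → ∀ a, G a a = 0 := by
    intro hε a
    have h1 : G a a = gf (RingHom.id F) (Om k F) (fun x => T x a) (fun x => T x a) := by
      rw [hG]
      unfold gf
      simp only [Matrix.mul_apply, dotProduct, mulVec, Function.comp, RingHom.id_apply,
        transpose_apply, Finset.sum_mul, Finset.mul_sum]
      rw [Finset.sum_comm]
      refine Finset.sum_congr rfl fun x _ => Finset.sum_congr rfl fun y _ => ?_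
      ring
    rw [h1]
    exact gf_alt _ (hskewX _ hε _ Om_transpose) (Om_diag (by omega)) _
  have hsim : ∀ h ∈ H, ∃ c : F, c ≠ 0 ∧
      (h : Matrix (Fin n) (Fin n) F)ᵀ * G * (h : Matrix (Fin n) (Fin n) F) = c • G := by
    intro h hh
    obtain ⟨σ, Us, hσU⟩ := hH h hh
    rw [toMatrix_toLin'] at hσU
    refine ⟨∏ i, ((Us i : GL (Fin 2) F) : Matrix (Fin 2) (Fin 2) F).det, ?_, ?_⟩
    · refine Finset.prod_ne_zero_iff.mpr fun i _ => ?_
      exact ((Us i).isUnit.map Matrix.detMonoidHom).ne_zero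
    · set g := facPerm 2 F σ * ptM (fun i => ((Us i : GL (Fin 2) F) : Matrix (Fin 2) (Fin 2) F))
        with hg
      have hTh : T * (h : Matrix (Fin n) (Fin n) F) = g * T := by
        rw [← hσU, Matrix.mul_assoc, Matrix.mul_assoc, q2, Matrix.mul_one]
      rw [hG]
      calc (h : Matrix (Fin n) (Fin n) F)ᵀ * (Tᵀ * Om k F * T) * (h : Matrix (Fin n) (Fin n) F)
          = (T * (h : Matrix (Fin n) (Fin n) F))ᵀ * Om k F *
              (T * (h : Matrix (Fin n) (Fin n) F)) := by
            rw [transpose_mul]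
            simp only [Matrix.mul_assoc]
        _ = Tᵀ * (gᵀ * Om k F * g) * T := by
            rw [hTh, transpose_mul]
            simp only [Matrix.mul_assoc]
        _ = _ := by
            rw [hg, Om_conj, Matrix.mul_smul, Matrix.smul_mul]
  by_cases hcase : 1 + (-1 : F) ^ k = 0
  · refine class8a (by rw [hcard]; calc 4 = 2 ^ 2 := rfl
        _ ≤ 2 ^ k := Nat.pow_le_pow_right (by norm_num) hk) ?_ H G hdet (hskewX _ hcase _ hGT)
      (hdiag hcase) hsim
    rw [hcard]
    exact (Nat.even_pow.mpr ⟨even_two, by omega⟩)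
  · have hkeven : Even k := by
      by_contra hodd
      rw [Nat.not_even_iff_odd] at hodd
      apply hcase
      rw [hodd.neg_one_pow]
      ring
    have h2 : (2 : F) ≠ 0 := by
      intro h2
      apply hcase
      rw [hkeven.neg_one_pow]
      rw [← h2]
      ring
    have hodd : Odd (Fintype.card F) := by
      by_contra hno
      exact h2 (two_eq_zero_of_not_odd hno)
    refine class8c hn hodd H G hdet ?_ hsim
    rw [hGT, hkeven.neg_one_pow, one_smul]

end Cfsg.Agent.Lib.Helper8.Asch
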