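import Cfsg.Agent.Lib.Helper8.AschILC
import Cfsg.Agent.Lib.Helper8.AschF3

set_option autoImplicit false

/-! The wreath form always lands in class 7 or class 8. -/

namespace Cfsg.Agent.Lib.Helper8.Asch

open Module Matrix
open Cfsg.Geo

variable {n : ℕ} {F : Type*} [Field F]

theorem class_of_wreath [Fintype F] (hn : 3 ≤ n) (H : Subgroup (GL (Fin n) F))
    (hW : WreathForm n H) : ∃ M : Subgroup (GL (Fin n) F), ILC n F M ∧ H ≤ M := by
  obtain ⟨k, m, b, hk, hH⟩ := hW
  have hcard : n = m ^ k := by
    have h1 := Module.finrank_eq_card_basis b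
    rw [Module.finrank_fin_fun, Fintype.card_fun, Fintype.card_fin, Fintype.card_fin] at h1
    exact h1
  rcases Nat.lt_or_ge m 3 with hm | hm
  · interval_cases m
    · exfalso
      rw [zero_pow (by omega)] at hcard
      omega
    · exfalso
      rw [one_pow] at hcard
      omega
    · exact class8_of_wreath hn H hk b hH
  · exact class7_of_wreath H hm hk b hH

end Cfsg.Agent.Lib.Helper8.Asch
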