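import Mathlib

set_option autoImplicit false

/-! An alternating matrix of odd size is singular. -/

namespace Cfsg.Agent.Lib.Helper8.Asch

open Matrix Equiv

variable {ι : Type*} [Fintype ι] [DecidableEq ι] {F : Type*} [Field F]

theorem det_alt_odd (G : Matrix ι ι F) (hskew : ∀ a b, G a b + G b a = 0) (hdiag : ∀ a, G a a = 0)
    (hodd : Odd (Fintype.card ι)) : G.det = 0 := by
  rw [Matrix.det_apply']
  refine Finset.sum_ninvolution (fun σ => σ⁻¹) ?_ ?_ (fun _ => Finset.mem_univ _) (fun σ => inv_inv σ)
  · intro σ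
    have h1 : ∏ i, G ((σ⁻¹ : Perm ι) i) i = ∏ j, G j (σ j) := by
      rw [← Equiv.prod_comp σ]
      simp
    have h2 : ∏ j, G j (σ j) = ∏ j, (-1 : F) * G (σ j) j := by
      refine Finset.prod_congr rfl fun j _ => ?_
      have := hskew j (σ j)
      linear_combination this
    rw [h1, h2, Finset.prod_mul_distrib, Finset.prod_const, Finset.card_univ, hodd.neg_one_pow,
      Equiv.Perm.sign_inv]
    ring
  · intro σ hne hσ
    apply hne
    have hσ2 : σ ^ 2 = 1 := by
      rw [pow_two]
      nth_rewrite 1 [← hσ]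
      exact inv_mul_cancel σ
    have h2 := Equiv.Perm.two_dvd_card_support hσ2
    have hne' : σ.support ≠ Finset.univ := by
      intro heq
      rw [heq, Finset.card_univ] at h2
      exact (Nat.not_even_iff_odd.mpr hodd) (even_iff_two_dvd.mpr h2)
    obtain ⟨i, hi⟩ : ∃ i, i ∉ σ.support := by
      by_contra hcon
      push Not at hcon
      exact hne' (Finset.eq_univ_iff_forall.mpr hcon)
    rw [Equiv.Perm.notMem_support] at hi
    have : ∏ j, G (σ j) j = 0 := by
      apply Finset.prod_eq_zero (Finset.mem_univ i)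
      rw [hi]
      exact hdiag i
    rw [this, mul_zero]

theorem even_of_alt_det_ne_zero (G : Matrix ι ι F) (hskew : ∀ a b, G a b + G b a = 0)
    (hdiag : ∀ a, G a a = 0) (hdet : G.det ≠ 0) : Even (Fintype.card ι) := by
  by_contra h
  exact hdet (det_alt_odd G hskew hdiag (Nat.not_even_iff_odd.mp h))

end Cfsg.Agent.Lib.Helper8.Asch
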