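import Cfsg.Agent.Lib.Helper8.AschILC
import Cfsg.Agent.Lib.Helper8.AschF4
import Cfsg.Agent.Lib.Helper8.AschF5

set_option autoImplicit false

/-! A spanning subgroup fixing a form: its normaliser lies in class 8. -/

namespace Cfsg.Agent.Lib.Helper8.Asch

open Module Matrix
open Cfsg.Geo

variable {n : ℕ} {F : Type*} [Field F]

theorem star_id (X : Matrix (Fin n) (Fin n) F) : star (RingHom.id F) X = Xᵀ := by
  unfold star
  rw [map_id']

theorem mat_of_fixes (σ : F →+* F) (G : Matrix (Fin n) (Fin n) F) (x : Matrix (Fin n) (Fin n) F)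
    (hfix : ∀ u v, gf σ G (x *ᵥ u) (x *ᵥ v) = gf σ G u v) : xᵀ * G * x.map σ = G := by
  ext a b
  rw [← gf_single σ (xᵀ * G * x.map σ) a b, ← gf_mulVec, hfix, gf_single]

/-- similarity of the normaliser, transposed convention -/
theorem sim_of_fixes (hn : 0 < n) (σ : F →+* F) (G : Matrix (Fin n) (Fin n) F) (hdet : G.det ≠ 0)
    (N : Subgroup (GL (Fin n) F)) (hspan : Submodule.span F (mset N) = ⊤)
    (hfix : ∀ x ∈ N, ∀ u v, gf σ G ((x : Matrix (Fin n) (Fin n) F) *ᵥ u)
      ((x : Matrix (Fin n) (Fin n) F) *ᵥ v) = gf σ G u v)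
    (h : GL (Fin n) F) (hh : ∀ x ∈ N, h * x * h⁻¹ ∈ N) :
    ∃ c : F, c ≠ 0 ∧ (h : Matrix (Fin n) (Fin n) F)ᵀ * G *
      (h : Matrix (Fin n) (Fin n) F).map σ = c • G := by
  haveI : Nonempty (Fin n) := ⟨⟨0, hn⟩⟩
  have hdetT : Gᵀ.det ≠ 0 := by rw [det_transpose]; exact hdet
  let B : GL (Fin n) F := Matrix.GeneralLinearGroup.mkOfDetNeZero Gᵀ hdetT
  have hBval : (B : Matrix (Fin n) (Fin n) F) = Gᵀ := rfl
  have hB : FInv σ N (B : Matrix (Fin n) (Fin n) F) := by
    intro x hx
    rw [hBval]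
    have := congrArg Matrix.transpose (mat_of_fixes σ G _ (hfix x hx))
    rw [transpose_mul, transpose_mul, transpose_transpose, ← Matrix.mul_assoc] at this
    exact this
  obtain ⟨c, hc, hcB⟩ := FInv_similarity σ hspan B hB h hh
  refine ⟨c, hc, ?_⟩
  rw [hBval] at hcB
  have := congrArg Matrix.transpose hcB
  rw [transpose_mul, transpose_mul, transpose_transpose, transpose_smul, transpose_transpose,
    ← Matrix.mul_assoc] at this
  unfold star at this
  rw [transpose_transpose] at this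
  exact this

theorem class8b' [Fintype F] (hn : 3 ≤ n) (H : Subgroup (GL (Fin n) F)) (σ : F ≃+* F)
    (hσne : σ ≠ RingEquiv.refl F) (hσ : ∀ a, σ (σ a) = a)
    (G : Matrix (Fin n) (Fin n) F) (hdet : G.det ≠ 0) (hG : ∀ a b, σ (G b a) = G a b)
    (hH : ∀ h ∈ H, ∃ c : F, c ≠ 0 ∧ (h : Matrix (Fin n) (Fin n) F)ᵀ * G *
      (h : Matrix (Fin n) (Fin n) F).map (σ : F →+* F) = c • G) :
    ∃ M : Subgroup (GL (Fin n) F), ILC n F M ∧ H ≤ M := by
  refine class8b hn H σ hσne hσ Gᵀ (by rw [det_transpose]; exact hdet) ?_ ?_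
  · ext a b
    rw [star_apply, transpose_apply, transpose_apply]
    exact hG b a
  · intro h hh
    obtain ⟨c, hc, hcG⟩ := hH h hh
    refine ⟨c, hc, ?_⟩
    have := congrArg Matrix.transpose hcG
    rw [transpose_mul, transpose_mul, transpose_transpose, transpose_smul,
      ← Matrix.mul_assoc] at this
    exact this

theorem class8_of_fixes_symp [Fintype F] (hn : 3 ≤ n) (H N : Subgroup (GL (Fin n) F))
    (hHN : ∀ h ∈ H, ∀ x ∈ N, h * x * h⁻¹ ∈ N) (hspan : Submodule.span F (mset N) = ⊤)
    (f : (Fin n → F) → (Fin n → F) → F) (hf : IsSymplecticForm f)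
    (hfix : FixesForm (matrixSet N) f) :
    ∃ M : Subgroup (GL (Fin n) F), ILC n F M ∧ H ≤ M := by
  set G := gramMatrix f with hG
  have hfG : ∀ u v, f u v = gf (RingHom.id F) G u v :=
    eq_gf (RingHom.id F) f hf.bilinear.add_left hf.bilinear.smul_left hf.bilinear.add_right
      (fun c v x => by rw [hf.bilinear.smul_right]; rfl)
  have hskew : ∀ a b, G a b + G b a = 0 := by
    intro a b
    show f _ _ + f _ _ = 0
    rw [hf.skew, neg_add_cancel]
  have hdiag : ∀ a, G a a = 0 := fun a => hf.alternating _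
  have hdet : G.det ≠ 0 := by
    refine det_ne_zero_of_nondeg (RingHom.id F) (fun a => ⟨a, rfl⟩) G ?_
    have : gf (RingHom.id F) G = f := by
      funext u v
      exact (hfG u v).symm
    rw [this]
    exact hf.nondegenerate
  have heven : Even n := by
    have := even_of_alt_det_ne_zero G hskew hdiag hdet
    rwa [Fintype.card_fin] at this
  have hn4 : 4 ≤ n := by
    obtain ⟨j, hj⟩ := heven
    omega
  refine class8a hn4 heven H G hdet hskew hdiag ?_
  intro h hh
  have := sim_of_fixes (by omega) (RingHom.id F) G hdet N hspan ?_ h (hHN h hh)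
  · rw [map_id'] at this
    exact this
  · intro x hx u v
    rw [← hfG, ← hfG]
    exact hfix _ ⟨x, hx, rfl⟩ u v

theorem class8_of_fixes_unitary [Fintype F] (hn : 3 ≤ n) (H N : Subgroup (GL (Fin n) F))
    (hHN : ∀ h ∈ H, ∀ x ∈ N, h * x * h⁻¹ ∈ N) (hspan : Submodule.span F (mset N) = ⊤)
    (σ : F ≃+* F) (f : (Fin n → F) → (Fin n → F) → F) (hf : IsUnitaryForm σ f)
    (hfix : FixesForm (matrixSet N) f) :
    ∃ M : Subgroup (GL (Fin n) F), ILC n F M ∧ H ≤ M := by
  set G := gramMatrix f with hG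
  have hfG : ∀ u v, f u v = gf (σ : F →+* F) G u v := by
    refine eq_gf (σ : F →+* F) f hf.add_left hf.smul_left ?_ ?_
    · intro v x y
      rw [hf.herm, hf.add_left, map_add, ← hf.herm, ← hf.herm]
    · intro c v x
      rw [hf.herm, hf.smul_left, map_mul, ← hf.herm]
      rfl
  have hherm : ∀ a b, σ (G b a) = G a b := by
    intro a b
    show σ (f _ _) = f _ _
    rw [← hf.herm]
  have hdet : G.det ≠ 0 := by
    refine det_ne_zero_of_nondeg (σ : F →+* F) σ.surjective G ?_
    have : gf (σ : F →+* F) G = f := by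
      funext u v
      exact (hfG u v).symm
    rw [this]
    exact hf.nondegenerate
  refine class8b' hn H σ hf.ne_refl hf.involutive G hdet hherm ?_
  intro h hh
  refine sim_of_fixes (by omega) (σ : F →+* F) G hdet N hspan ?_ h (hHN h hh)
  intro x hx u v
  rw [← hfG, ← hfG]
  exact hfix _ ⟨x, hx, rfl⟩ u v

theorem class8_of_fixes_quad [Fintype F] (hn : 3 ≤ n) (H N : Subgroup (GL (Fin n) F))
    (hHN : ∀ h ∈ H, ∀ x ∈ N, h * x * h⁻¹ ∈ N) (hspan : Submodule.span F (mset N) = ⊤)
    (Q : (Fin n → F) → F) (hQ : IsNondegenerateQuadraticForm Q)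
    (hfix : FixesQuadForm (matrixSet N) Q) :
    ∃ M : Subgroup (GL (Fin n) F), ILC n F M ∧ H ≤ M := by
  set f := QuadraticMap.polar Q with hf
  set G := gramMatrix f with hG
  have hb := hQ.polar_bilinear
  have hfG : ∀ u v, f u v = gf (RingHom.id F) G u v :=
    eq_gf (RingHom.id F) f hb.add_left hb.smul_left hb.add_right
      (fun c v x => hb.smul_right c v x)
  have hsymm : Gᵀ = G := by
    ext a b
    show f _ _ = f _ _
    exact QuadraticMap.polar_comm Q _ _
  have hdet : G.det ≠ 0 := by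
    refine det_ne_zero_of_nondeg (RingHom.id F) (fun a => ⟨a, rfl⟩) G ?_
    have : gf (RingHom.id F) G = f := by
      funext u v
      exact (hfG u v).symm
    rw [this]
    exact hQ.nondegenerate
  have hsim : ∀ h ∈ H, ∃ c : F, c ≠ 0 ∧
      (h : Matrix (Fin n) (Fin n) F)ᵀ * G * (h : Matrix (Fin n) (Fin n) F) = c • G := by
    intro h hh
    have := sim_of_fixes (by omega) (RingHom.id F) G hdet N hspan ?_ h (hHN h hh)
    · rw [map_id'] at this
      exact this
    · intro x hx u v
      rw [← hfG, ← hfG]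
      show Q (_ + _) - Q _ - Q _ = Q (u + v) - Q u - Q v
      rw [← mulVec_add, hfix _ ⟨x, hx, rfl⟩, hfix _ ⟨x, hx, rfl⟩, hfix _ ⟨x, hx, rfl⟩]
  by_cases hodd : Odd (Fintype.card F)
  · exact class8c hn hodd H G hdet hsymm hsim
  · have h2 : (2 : F) = 0 := two_eq_zero_of_not_odd hodd
    have hskew : ∀ a b, G a b + G b a = 0 := by
      intro a b
      have := congrFun (congrFun hsymm a) b
      rw [transpose_apply] at this
      rw [this]
      linear_combination (G a b) * h2
    have hdiag : ∀ a, G a a = 0 := by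
      intro a
      show Q (_ + _) - Q _ - Q _ = 0
      rw [← two_smul F, hQ.smul]
      linear_combination (Q (Pi.single a 1)) * h2
    have heven : Even n := by
      have := even_of_alt_det_ne_zero G hskew hdiag hdet
      rwa [Fintype.card_fin] at this
    have hn4 : 4 ≤ n := by
      obtain ⟨j, hj⟩ := heven
      omega
    exact class8a hn4 heven H G hdet hskew hdiag hsim

end Cfsg.Agent.Lib.Helper8.Asch
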