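import Cfsg.Agent.Lib.Helper8.Asch4

set_option autoImplicit false

/-! Subfields of a finite field: fixed points of a power map, and subfields of prime index. -/

namespace Cfsg.Agent.Lib.Helper8.Asch

open Module Polynomial

variable {F : Type*} [Field F]

theorem mem_subfield_iff_pow [Finite F] (K : Subfield F) (x : F) :
    x ∈ K ↔ x ^ Nat.card K = x := by
  classical
  haveI : Fintype F := Fintype.ofFinite F
  haveI : Fintype K := Fintype.ofFinite K
  constructor
  · intro hx
    have := FiniteField.pow_card (⟨x, hx⟩ : K)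
    rw [Fintype.card_eq_nat_card] at this
    have h2 := congrArg (Subtype.val : K → F) this
    simpa using h2
  · intro hx
    have hone : 1 < Nat.card K := Finite.one_lt_card
    set P : F[X] := X ^ Nat.card K - X with hPdef
    have hP : P ≠ 0 := FiniteField.X_pow_card_sub_X_ne_zero F hone
    have hdeg : P.natDegree = Nat.card K := FiniteField.X_pow_card_sub_X_natDegree_eq F hone
    have hroot : ∀ y : F, y ∈ P.roots.toFinset ↔ y ^ Nat.card K = y := by
      intro y
      rw [Multiset.mem_toFinset, Polynomial.mem_roots hP, Polynomial.IsRoot, hPdef]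
      simp [sub_eq_zero]
    have h1 : (Finset.univ.image (Subtype.val : K → F)) ⊆ P.roots.toFinset := by
      intro y hy
      rw [Finset.mem_image] at hy
      obtain ⟨z, -, rfl⟩ := hy
      rw [hroot]
      have := FiniteField.pow_card z
      rw [Fintype.card_eq_nat_card] at this
      have h2 := congrArg (Subtype.val : K → F) this
      simpa using h2
    have h2 : P.roots.toFinset.card ≤ Nat.card K :=
      ((Multiset.toFinset_card_le _).trans (Polynomial.card_roots' P)).trans_eq hdeg
    have h3 : (Finset.univ.image (Subtype.val : K → F)).card = Nat.card K := by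
      rw [Finset.card_image_of_injective _ Subtype.val_injective, Finset.card_univ,
        Fintype.card_eq_nat_card]
    have h4 := Finset.eq_of_subset_of_card_le h1 (by omega)
    have h5 : x ∈ P.roots.toFinset := (hroot x).mpr hx
    rw [← h4, Finset.mem_image] at h5
    obtain ⟨z, -, rfl⟩ := h5
    exact z.2

theorem exists_max_subfield [Fintype F] (F₀ : Subfield F) (h : F₀ ≠ ⊤) :
    ∃ (K : Subfield F) (r : ℕ), F₀ ≤ K ∧ r.Prime ∧ Fintype.card F = Nat.card K ^ r := by
  classical
  set b := finrank F₀ F with hb
  have hcardF : Nat.card F = Nat.card F₀ ^ b := Module.natCard_eq_pow_finrank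
  have hb0 : 0 < b := Module.finrank_pos
  have hb1 : b ≠ 1 := by
    intro hb1
    apply h
    rw [eq_top_iff]
    intro x _
    rw [mem_subfield_iff_pow]
    rw [hb1, pow_one] at hcardF
    rw [← hcardF, ← Fintype.card_eq_nat_card]
    exact FiniteField.pow_card x
  obtain ⟨r, hr, hrb⟩ := Nat.exists_prime_and_dvd hb1
  obtain ⟨c, hc⟩ := hrb
  have hc0 : 0 < c := by
    rcases Nat.eq_zero_or_pos c with h0 | h0
    · rw [h0, mul_zero] at hc; omega
    · exact h0
  have hE : IsFld (⊤ : Subalgebra F₀ F) :=
    ⟨fun x _ y _ => mul_comm x y, fun x _ hx => ⟨x⁻¹, Algebra.mem_top, mul_inv_cancel₀ hx⟩⟩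
  have hfr : finrank F₀ (⊤ : Subalgebra F₀ F) = b :=
    (Subalgebra.topEquiv (R := F₀) (A := F)).toLinearEquiv.finrank_eq
  obtain ⟨K', -, hK', hK'fr, -⟩ := exists_subfield_of_dvd (⊤ : Subalgebra F₀ F) hE c hc0
    (by rw [hfr, hc]; exact Dvd.intro_left r rfl)
  let K : Subfield F :=
    { toSubring := K'.toSubring
      inv_mem' := by
        intro x hx
        by_cases hx0 : x = 0
        · rw [hx0, inv_zero]
          exact K'.zero_mem
        · obtain ⟨y, hy, hxy⟩ := hK'.inv x hx hx0
          have : y = x⁻¹ := eq_inv_of_mul_eq_one_right hxy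
          rw [← this]
          exact hy }
  refine ⟨K, r, ?_, hr, ?_⟩
  · intro x hx
    exact K'.algebraMap_mem ⟨x, hx⟩
  · have hcK : Nat.card K = Nat.card F₀ ^ c := by
      have : Nat.card K' = Nat.card F₀ ^ finrank F₀ K' := Module.natCard_eq_pow_finrank
      rw [hK'fr] at this
      exact this
    rw [Fintype.card_eq_nat_card, hcardF, hcK, hc, ← pow_mul, mul_comm]

end Cfsg.Agent.Lib.Helper8.Asch
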