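import Cfsg.Agent.Lib.Helper8.AschILC
import Cfsg.Agent.Lib.Helper8.AschA2
import Cfsg.Agent.Lib.Helper8.AschB3

set_option autoImplicit false

/-! Case A: the symplectic-type conditions and class 6. -/

namespace Cfsg.Agent.Lib.Helper8.Asch

open Module Matrix
open scoped commutatorElement
open Cfsg.Geo

variable {ι : Type} [Fintype ι] [DecidableEq ι] {n : ℕ} {F : Type*} [Field F]

namespace ACase

variable {H N : Subgroup (GL ι F)} (hA : ACase H N)

include hA

/-- conjugation by an element of `H` as an automorphism of `N` -/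
def conjAut {h : GL ι F} (hh : h ∈ H) : N ≃* N where
  toFun x := ⟨h * x * h⁻¹, hA.minNC.inv h hh x x.2⟩
  invFun x := ⟨h⁻¹ * x * h, by
    have := hA.minNC.inv h⁻¹ (H.inv_mem hh) x x.2
    rwa [inv_inv] at this⟩
  left_inv x := by
    apply Subtype.ext
    simp only
    group
  right_inv x := by
    apply Subtype.ext
    simp only
    group
  map_mul' x y := by
    apply Subtype.ext
    simp only [Subgroup.coe_mul]
    group

theorem cyclic_of_char [Finite F] [Nonempty ι] (A : Subgroup N) (hchar : A.Characteristic)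
    (hcomm : IsMulCommutative A) : IsCyclic A := by
  set A' : Subgroup (GL ι F) := A.map N.subtype with hA'
  have hA'N : A' ≤ N := by
    rintro y ⟨z, -, rfl⟩
    exact z.2
  have hinv : HInv H A' := by
    rintro h hh y ⟨z, hz, rfl⟩
    have h1 := Subgroup.characteristic_iff_map_eq.mp hchar (hA.conjAut hh)
    have h2 : (hA.conjAut hh) z ∈ A := by
      rw [← h1]
      exact Subgroup.mem_map_of_mem _ hz
    exact ⟨_, h2, rfl⟩
  by_cases hZ : A' ≤ Zs ι F
  · have hmem : ∀ a : A, ((a : N) : GL ι F) ∈ Zs ι F := fun a => hZ ⟨a, a.2, rfl⟩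
    let f : A →* F :=
      { toFun := fun a => sv ((a : N) : GL ι F)
        map_one' := sv_one
        map_mul' := fun a b => sv_mul (hmem a) (hmem b) }
    refine isCyclic_of_subgroup_isDomain f ?_
    intro a b hab
    apply Subtype.ext
    apply Subtype.ext
    apply Units.ext
    rw [val_eq_sv_smul (hmem a), val_eq_sv_smul (hmem b)]
    congr 1
  · exfalso
    have hAN : A' = N := hA.minNC.min A' hA'N hinv hZ
    obtain ⟨x, hx, y, hy, hxy⟩ := hA.caseA.exists_noncomm
    apply hxy
    have hx' : x ∈ A' := by rw [hAN]; exact hx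
    have hy' : y ∈ A' := by rw [hAN]; exact hy
    obtain ⟨a, ha, rfl⟩ := hx'
    obtain ⟨b, hb, rfl⟩ := hy'
    have h1 : (⟨a, ha⟩ : A) * ⟨b, hb⟩ = ⟨b, hb⟩ * ⟨a, ha⟩ := hcomm.is_comm.comm _ _
    have h2 : a * b = b * a := congrArg Subtype.val h1
    have h3 : (a : GL ι F) * (b : GL ι F) = b * a := by
      rw [← Subgroup.coe_mul, h2, Subgroup.coe_mul]
    simp only [Subgroup.coe_subtype]
    rw [commutatorElement_def, h3]
    group

theorem symplecticType [Finite F] [Nonempty ι] {r : ℕ} (hr : r.Prime) (hp : IsPGroup r N)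
    (hexp : ∀ x ∈ N, x ^ (r * Nat.gcd 2 r) = 1) : IsSymplecticTypeGroup r N :=
  ⟨hr, hp, fun A hchar hcomm => hA.cyclic_of_char A hchar hcomm, hA.exponent_eq hr hexp⟩

end ACase

theorem class6_of_data [Fintype F] (H N : Subgroup (GL (Fin n) F)) (hHN : HInv H N) (r : ℕ)
    (hpow : ∃ m : ℕ, n = r ^ m) (hdata : IsLinearSymplecticTypeData r N) :
    ∃ M : Subgroup (GL (Fin n) F), ILC n F M ∧ H ≤ M := by
  refine ⟨subgroupNormalizer N, ?_, ?_⟩
  · right; right; right; right; right; right; right; left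
    exact ⟨r, N, ⟨hdata, hpow⟩, rfl⟩
  · intro h hh
    unfold subgroupNormalizer
    rw [Subgroup.mem_set_normalizer_iff]
    intro x
    constructor
    · intro hx
      exact hHN h hh x hx
    · intro hx
      have := hHN h⁻¹ (H.inv_mem hh) _ hx
      have e : h⁻¹ * (h * x * h⁻¹) * h⁻¹⁻¹ = x := by group
      rw [e] at this
      exact this

end Cfsg.Agent.Lib.Helper8.Asch
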