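import Cfsg.Agent.Lib.Helper8.AschILC
import Cfsg.Agent.Lib.Helper8.AschA3

set_option autoImplicit false

/-! Case A: the field of definition and the unitary alternative. -/

namespace Cfsg.Agent.Lib.Helper8.Asch

open Module Matrix
open scoped commutatorElement
open Cfsg.Geo

variable {n : ℕ} {F : Type*} [Field F]

theorem card_inf_dvd [Finite F] [Nonempty (Fin n)] (N : Subgroup (GL (Fin n) F)) :
    Nat.card ↥(N ⊓ Zs (Fin n) F) ∣ Nat.card F - 1 := by
  have hinj : Function.Injective (svHom N).toHomUnits := by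
    intro a b hab
    apply svHom_injective N
    have := congrArg (fun u : Fˣ => (u : F)) hab
    simpa using this
  have := Subgroup.card_dvd_of_injective _ hinj
  rwa [Nat.card_units] at this

theorem sv_pow_card [Finite F] [Nonempty (Fin n)] (N : Subgroup (GL (Fin n) F))
    {k : GL (Fin n) F} (hk : k ∈ N) (hkZ : k ∈ Zs (Fin n) F) :
    sv k ^ Nat.card ↥(N ⊓ Zs (Fin n) F) = 1 := by
  have h1 : (⟨k, hk, hkZ⟩ : ↥(N ⊓ Zs (Fin n) F)) ^ Nat.card ↥(N ⊓ Zs (Fin n) F) = 1 :=
    pow_card_eq_one'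
  have h2 := congrArg (svHom N) h1
  rw [map_pow, map_one] at h2
  exact h2

theorem pow_le_of_forall_pow_eq [Fintype F] (p e d : ℕ) (hp : 1 < p) (hd : 0 < d)
    (hcard : Fintype.card F = p ^ e) (h : ∀ x : F, x ^ p ^ d = x) : e ≤ d := by
  have h1 : ∀ x : Fˣ, x ^ (p ^ d - 1) = 1 := by
    intro x
    apply Units.ext
    rw [Units.val_pow_eq_pow_val, Units.val_one]
    have h2 := h (x : F)
    have hpd : p ^ d = (p ^ d - 1) + 1 := (Nat.sub_add_cancel (Nat.one_le_pow _ _ (by omega))).symm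
    rw [hpd, pow_succ] at h2
    exact mul_right_cancel₀ x.ne_zero (h2.trans (one_mul _).symm)
  have h2 := (FiniteField.forall_pow_eq_one_iff F _).mp h1
  rw [hcard] at h2
  have hpos : 0 < p ^ d - 1 := by
    have : p ^ 1 ≤ p ^ d := Nat.pow_le_pow_right (by omega) hd
    rw [pow_one] at this
    omega
  have h3 := Nat.le_of_dvd hpos h2
  have h4 : p ^ e ≤ p ^ d := by
    have : 1 ≤ p ^ e := Nat.one_le_pow _ _ (by omega)
    omega
  exact (Nat.pow_le_pow_iff_right hp).mp h4

theorem minimal_of_closure_top [Fintype F] (S : Set F) (z : ℕ) (hS : ∀ c ∈ S, c ^ z = 1)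
    (hcl : Subfield.closure S = ⊤) (p e : ℕ) [hp : Fact p.Prime] [CharP F p]
    (hcard : Fintype.card F = p ^ e) (d : ℕ) (hd0 : 0 < d) (hde : d < e) : ¬ z ∣ p ^ d - 1 := by
  intro hz
  haveI : ExpChar F p := ExpChar.prime hp.out
  set S' : Subfield F := (iterateFrobenius F p d).eqLocusField (RingHom.id F) with hS'
  have hSS' : S ⊆ S' := by
    intro c hc
    show iterateFrobenius F p d c = c
    rw [iterateFrobenius_def]
    have hpd : p ^ d = (p ^ d - 1) + 1 :=
      (Nat.sub_add_cancel (Nat.one_le_pow _ _ hp.out.pos)).symm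
    obtain ⟨t, ht⟩ := hz
    rw [hpd, pow_succ, ht, pow_mul, hS c hc, one_pow, one_mul]
  have htop : S' = ⊤ := by
    rw [eq_top_iff, ← hcl]
    exact Subfield.closure_le.mpr hSS'
  have hall : ∀ x : F, x ^ p ^ d = x := by
    intro x
    have : x ∈ S' := by rw [htop]; trivial
    exact this
  have := pow_le_of_forall_pow_eq p e d hp.out.one_lt hd0 hcard hall
  omega

/-- a power of the Frobenius as an automorphism -/
noncomputable def frobEquiv [Finite F] (p : ℕ) [hp : Fact p.Prime] [CharP F p] (j : ℕ) : F ≃+* F :=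
  haveI : ExpChar F p := ExpChar.prime hp.out
  RingEquiv.ofBijective (iterateFrobenius F p j)
    ⟨(iterateFrobenius F p j).injective,
      Finite.injective_iff_surjective.mp (iterateFrobenius F p j).injective⟩

theorem frobEquiv_apply [Finite F] (p : ℕ) [hp : Fact p.Prime] [CharP F p] (j : ℕ) (x : F) :
    frobEquiv p j x = x ^ p ^ j := rfl

theorem class8b_of_unitary [Fintype F] [Nonempty (Fin n)] (hn : 3 ≤ n) {H N : Subgroup (GL (Fin n) F)}
    (hA : ACase H N) (p e j : ℕ) [hp : Fact p.Prime] [CharP F p]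
    (hcard : Fintype.card F = p ^ e) (he : e = 2 * j) (hj : 1 ≤ j) (z : ℕ)
    (hz : ∀ k ∈ N, k ∈ Zs (Fin n) F → sv k ^ z = 1) (hzj : z ∣ p ^ j + 1) :
    ∃ M : Subgroup (GL (Fin n) F), ILC n F M ∧ H ≤ M := by
  set σ : F ≃+* F := frobEquiv p j with hσ
  have hσ2 : ∀ a, σ (σ a) = a := by
    intro a
    rw [hσ, frobEquiv_apply, frobEquiv_apply, ← pow_mul, ← pow_add, ← two_mul, ← he, ← hcard]
    exact FiniteField.pow_card a
  have hσne' : ∃ a, σ a ≠ a := by
    by_contra hcon
    push Not at hcon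
    have := pow_le_of_forall_pow_eq p e j hp.out.one_lt hj hcard hcon
    omega
  have hσne : σ ≠ RingEquiv.refl F := by
    intro h
    obtain ⟨a, ha⟩ := hσne'
    apply ha
    rw [h]
    rfl
  have hχ : ∀ k ∈ N, k ∈ Zs (Fin n) F → sv k * (σ : F →+* F) (sv k) = 1 := by
    intro k hk hkZ
    show sv k * σ (sv k) = 1
    rw [hσ, frobEquiv_apply, ← pow_succ']
    obtain ⟨t, ht⟩ := hzj
    rw [ht, pow_mul, hz k hk hkZ, one_pow]
  obtain ⟨B, hB⟩ := exists_FInv (σ : F →+* F) hA.cl2 hχ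
  obtain ⟨B', hB', hB'herm⟩ := exists_hermitian (σ : F →+* F) hσ2 hσne' hA.span B hB
  refine class8b hn H σ hσne hσ2 (B' : Matrix (Fin n) (Fin n) F) ?_ hB'herm ?_
  · exact (B'.isUnit.map Matrix.detMonoidHom).ne_zero
  · intro h hh
    exact FInv_similarity (σ : F →+* F) hA.span B' hB' h (hA.minNC.inv h hh)

end Cfsg.Agent.Lib.Helper8.Asch
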