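import Mathlib

set_option autoImplicit false

/-! Matrix lemmas: algebra endomorphisms of a full matrix algebra are inner; the commutant and
the normaliser of `M_I(F) ⊗ 1`. -/

namespace Cfsg.Agent.Lib.Helper8.Asch

open scoped Kronecker
open Matrix

variable {F : Type*} [Field F]

theorem algHom_matrix_inner {I : Type*} [Fintype I] [DecidableEq I] [Nonempty I]
    (θ : Matrix I I F →ₐ[F] Matrix I I F) :
    ∃ U : GL I F, ∀ X, θ X = (U : Matrix I I F) * X * ((U⁻¹ : GL I F) : Matrix I I F) := by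
  have hinj : Function.Injective θ := RingHom.injective θ.toRingHom
  have hsurj : Function.Surjective θ :=
    (LinearMap.injective_iff_surjective (f := θ.toLinearMap)).mp hinj
  let θe : Matrix I I F ≃ₐ[F] Matrix I I F := AlgEquiv.ofBijective θ ⟨hinj, hsurj⟩
  let f : Module.End F (I → F) ≃ₐ[F] Module.End F (I → F) :=
    (LinearMap.toMatrixAlgEquiv').trans (θe.trans Matrix.toLinAlgEquiv')
  obtain ⟨T, hT⟩ := f.eq_linearEquivConjAlgEquiv
  let Um : Matrix I I F := LinearMap.toMatrix' T.toLinearMap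
  let Ui : Matrix I I F := LinearMap.toMatrix' T.symm.toLinearMap
  have h1 : Um * Ui = 1 := by
    rw [← LinearMap.toMatrix'_comp]
    have : T.toLinearMap ∘ₗ T.symm.toLinearMap = LinearMap.id := by
      ext v; simp
    rw [this, LinearMap.toMatrix'_id]
  have h2 : Ui * Um = 1 := by
    rw [← LinearMap.toMatrix'_comp]
    have : T.symm.toLinearMap ∘ₗ T.toLinearMap = LinearMap.id := by
      ext v; simp
    rw [this, LinearMap.toMatrix'_id]
  refine ⟨⟨Um, Ui, h1, h2⟩, fun X => ?_⟩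
  have h3 : f (Matrix.toLin' X) = T.toLinearMap ∘ₗ (Matrix.toLin' X) ∘ₗ T.symm.toLinearMap := by
    rw [hT]; rfl
  have h4 : f (Matrix.toLin' X) = Matrix.toLin' (θ X) := by
    show Matrix.toLinAlgEquiv' (θe (LinearMap.toMatrixAlgEquiv' (Matrix.toLin' X))) = _
    have h0 : LinearMap.toMatrixAlgEquiv' (Matrix.toLin' X) = X :=
      LinearMap.toMatrixAlgEquiv'_toLinAlgEquiv' X
    rw [h0]
    rfl
  rw [h4] at h3
  have h5 := congrArg LinearMap.toMatrix' h3
  rw [LinearMap.toMatrix'_toLin', LinearMap.toMatrix'_comp, LinearMap.toMatrix'_comp,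
    LinearMap.toMatrix'_toLin', ← mul_assoc] at h5
  exact h5


variable {I J : Type*} [Fintype I] [Fintype J] [DecidableEq I] [DecidableEq J]

theorem kron_one_injective [Nonempty J] {X Y : Matrix I I F}
    (h : X ⊗ₖ (1 : Matrix J J F) = Y ⊗ₖ (1 : Matrix J J F)) : X = Y := by
  obtain ⟨j0⟩ := ‹Nonempty J›
  ext i i'
  have := congrFun (congrFun h (i, j0)) (i', j0)
  simpa [Matrix.kroneckerMap_apply] using this

theorem one_kron_injective [Nonempty I] {X Y : Matrix J J F}
    (h : (1 : Matrix I I F) ⊗ₖ X = (1 : Matrix I I F) ⊗ₖ Y) : X = Y := by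
  obtain ⟨i0⟩ := ‹Nonempty I›
  ext j j'
  have := congrFun (congrFun h (i0, j)) (i0, j')
  simpa [Matrix.kroneckerMap_apply] using this

theorem mul_single_kron (M : Matrix (I × J) (I × J) F) (p q : I) (k : I) (l : J) (i : I) (j : J) :
    (M * ((Matrix.single p q (1 : F)) ⊗ₖ (1 : Matrix J J F))) (k, l) (i, j) =
      if q = i then M (k, l) (p, j) else 0 := by
  rw [Matrix.mul_apply, Fintype.sum_prod_type]
  simp only [Matrix.kroneckerMap_apply, Matrix.single_apply, Matrix.one_apply]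
  rw [Finset.sum_eq_single p]
  · rw [Finset.sum_eq_single j]
    · by_cases hq : q = i <;> simp [hq]
    · intro l' _ hl'
      simp [hl']
    · intro hh
      exact absurd (Finset.mem_univ _) hh
  · intro k' _ hk'
    apply Finset.sum_eq_zero
    intro l' _
    simp [Ne.symm hk']
  · intro hh
    exact absurd (Finset.mem_univ _) hh

theorem single_kron_mul (M : Matrix (I × J) (I × J) F) (p q : I) (k : I) (l : J) (i : I) (j : J) :
    (((Matrix.single p q (1 : F)) ⊗ₖ (1 : Matrix J J F)) * M) (k, l) (i, j) =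
      if p = k then M (q, l) (i, j) else 0 := by
  rw [Matrix.mul_apply, Fintype.sum_prod_type]
  simp only [Matrix.kroneckerMap_apply, Matrix.single_apply, Matrix.one_apply]
  rw [Finset.sum_eq_single q]
  · rw [Finset.sum_eq_single l]
    · by_cases hq : p = k <;> simp [hq]
    · intro l' _ hl'
      simp [Ne.symm hl']
    · intro hh
      exact absurd (Finset.mem_univ _) hh
  · intro k' _ hk'
    apply Finset.sum_eq_zero
    intro l' _
    simp [Ne.symm hk']
  · intro hh
    exact absurd (Finset.mem_univ _) hh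

/-- the commutant of `M_I(F) ⊗ 1` is `1 ⊗ M_J(F)` -/
theorem commute_kron_one [Nonempty I] (M : Matrix (I × J) (I × J) F)
    (h : ∀ X : Matrix I I F, M * (X ⊗ₖ (1 : Matrix J J F)) = (X ⊗ₖ (1 : Matrix J J F)) * M) :
    ∃ Γ : Matrix J J F, M = (1 : Matrix I I F) ⊗ₖ Γ := by
  obtain ⟨i0⟩ := ‹Nonempty I›
  refine ⟨fun l j => M (i0, l) (i0, j), ?_⟩
  ext ⟨k, l⟩ ⟨p, j⟩
  have h1 := congrFun (congrFun (h (Matrix.single p i0 (1 : F))) (k, l)) (i0, j)
  rw [mul_single_kron, single_kron_mul, if_pos rfl] at h1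
  show M (k, l) (p, j) = (1 : Matrix I I F) k p * M (i0, l) (i0, j)
  rw [h1, Matrix.one_apply]
  by_cases hpk : p = k
  · subst hpk
    simp
  · rw [if_neg hpk, if_neg (Ne.symm hpk)]
    simp


/-- an invertible matrix normalising `M_I(F) ⊗ 1` is a Kronecker product -/
theorem kron_of_normalizes [Nonempty I] [Nonempty J] (g : GL (I × J) F)
    (h : ∀ X : Matrix I I F, ∃ X' : Matrix I I F,
      (g : Matrix (I × J) (I × J) F) * (X ⊗ₖ (1 : Matrix J J F)) *
        ((g⁻¹ : GL (I × J) F) : Matrix (I × J) (I × J) F) = X' ⊗ₖ (1 : Matrix J J F)) :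
    ∃ (U : GL I F) (Γ : GL J F),
      (g : Matrix (I × J) (I × J) F) = (U : Matrix I I F) ⊗ₖ (Γ : Matrix J J F) := by
  choose θ hθ using h
  set gm : Matrix (I × J) (I × J) F := (g : Matrix (I × J) (I × J) F) with hgm
  set gi : Matrix (I × J) (I × J) F := ((g⁻¹ : GL (I × J) F) : Matrix (I × J) (I × J) F) with hgi
  have e1 : gi * gm = 1 := by rw [hgi, hgm, ← Units.val_mul, inv_mul_cancel, Units.val_one]
  have e2 : gm * gi = 1 := by rw [hgi, hgm, ← Units.val_mul, mul_inv_cancel, Units.val_one]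
  have hone : θ 1 = 1 := by
    apply kron_one_injective (J := J)
    rw [← hθ, Matrix.one_kronecker_one, mul_one, e2]
  have hmul : ∀ X Y, θ (X * Y) = θ X * θ Y := by
    intro X Y
    apply kron_one_injective (J := J)
    rw [← hθ]
    have : (θ X * θ Y) ⊗ₖ (1 : Matrix J J F) =
        (θ X ⊗ₖ (1 : Matrix J J F)) * (θ Y ⊗ₖ (1 : Matrix J J F)) := by
      rw [← Matrix.mul_kronecker_mul, mul_one]
    rw [this, ← hθ, ← hθ]
    have h2 : (X * Y) ⊗ₖ (1 : Matrix J J F) =
        (X ⊗ₖ (1 : Matrix J J F)) * (Y ⊗ₖ (1 : Matrix J J F)) := by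
      rw [← Matrix.mul_kronecker_mul, mul_one]
    rw [h2]
    calc gm * (X ⊗ₖ (1 : Matrix J J F) * Y ⊗ₖ (1 : Matrix J J F)) * gi
        = gm * X ⊗ₖ (1 : Matrix J J F) * (1 : Matrix (I × J) (I × J) F) *
            Y ⊗ₖ (1 : Matrix J J F) * gi := by
          simp only [mul_assoc, one_mul]
      _ = _ := by
          rw [← e1]
          simp only [mul_assoc]
  have hadd : ∀ X Y, θ (X + Y) = θ X + θ Y := by
    intro X Y
    apply kron_one_injective (J := J)
    rw [← hθ, Matrix.add_kronecker, Matrix.add_kronecker, ← hθ, ← hθ, mul_add, add_mul]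
  have hsmul : ∀ (c : F) X, θ (c • X) = c • θ X := by
    intro c X
    apply kron_one_injective (J := J)
    rw [← hθ, Matrix.smul_kronecker, Matrix.smul_kronecker, ← hθ, Matrix.mul_smul,
      Matrix.smul_mul]
  let θa : Matrix I I F →ₐ[F] Matrix I I F :=
    AlgHom.ofLinearMap
      { toFun := θ
        map_add' := hadd
        map_smul' := hsmul } hone hmul
  obtain ⟨U, hU⟩ := algHom_matrix_inner θa
  have hU' : ∀ X, θ X = (U : Matrix I I F) * X * ((U⁻¹ : GL I F) : Matrix I I F) := hU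
  set Ui : Matrix I I F := ((U⁻¹ : GL I F) : Matrix I I F) with hUi
  have u1 : Ui * (U : Matrix I I F) = 1 := by
    rw [hUi, ← Units.val_mul, inv_mul_cancel, Units.val_one]
  have u2 : (U : Matrix I I F) * Ui = 1 := by
    rw [hUi, ← Units.val_mul, mul_inv_cancel, Units.val_one]
  set M : Matrix (I × J) (I × J) F := (Ui ⊗ₖ (1 : Matrix J J F)) * gm with hM
  have hcomm : ∀ X : Matrix I I F,
      M * (X ⊗ₖ (1 : Matrix J J F)) = (X ⊗ₖ (1 : Matrix J J F)) * M := by
    intro X
    have h3 : gm * (X ⊗ₖ (1 : Matrix J J F)) = (θ X ⊗ₖ (1 : Matrix J J F)) * gm := by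
      rw [← hθ]
      simp only [mul_assoc]
      rw [e1, mul_one]
    rw [hM, mul_assoc, h3, ← mul_assoc, ← mul_assoc, ← Matrix.mul_kronecker_mul,
      ← Matrix.mul_kronecker_mul, hU' X, mul_one]
    have h4 : Ui * ((U : Matrix I I F) * X * Ui) = X * Ui := by
      rw [← mul_assoc, ← mul_assoc, u1, one_mul]
    rw [h4]
  obtain ⟨Γ, hΓ⟩ := commute_kron_one M hcomm
  have hg : gm = (U : Matrix I I F) ⊗ₖ Γ := by
    have h5 : ((U : Matrix I I F) ⊗ₖ (1 : Matrix J J F)) * M = gm := by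
      rw [hM, ← mul_assoc, ← Matrix.mul_kronecker_mul, u2, mul_one, Matrix.one_kronecker_one,
        one_mul]
    rw [← h5, hΓ, ← Matrix.mul_kronecker_mul, mul_one, one_mul]
  have hdet : (Γ.det) ≠ 0 := by
    intro h0
    have h6 : gm.det = 0 := by
      rw [hg, Matrix.det_kronecker, h0, zero_pow (Fintype.card_ne_zero), mul_zero]
    have h7 : IsUnit gm.det := (Matrix.isUnit_iff_isUnit_det _).mp ⟨g, rfl⟩
    rw [h6] at h7
    exact not_isUnit_zero h7
  refine ⟨U, Matrix.GeneralLinearGroup.mkOfDetNeZero Γ hdet, hg⟩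

end Cfsg.Agent.Lib.Helper8.Asch
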