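import Cfsg.Agent.Lib.Helper8.AschR2
import Cfsg.Agent.Lib.Helper8.Asch9

set_option autoImplicit false

/-! A spanning group that is abelian modulo scalars in a subfield can be written over that
subfield. -/

namespace Cfsg.Agent.Lib.Helper8.Asch

open Matrix Module

variable {ι : Type} [Fintype ι] [DecidableEq ι] {F : Type*} [Field F]

theorem mapMatrix_smul (F₁ : Subfield F) {κ : Type*} [Fintype κ] [DecidableEq κ] (d : F₁) (X : Matrix κ κ F₁) :
    (F₁.subtype : F₁ →+* F).mapMatrix (d • X) =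
      (d : F) • (F₁.subtype : F₁ →+* F).mapMatrix X := by
  ext i j
  simp [Matrix.smul_apply]

theorem realise_over_subfield [Finite F] [Nonempty ι] {N : Subgroup (GL ι F)}
    (hN : Cl2 N) (F₁ : Subfield F) (hF₁ : ∀ k ∈ N, k ∈ Zs ι F → sv k ∈ F₁) :
    ∃ U : GL ι F, ∀ x ∈ N, ∀ i j,
      ((U : Matrix ι ι F) * (x : Matrix ι ι F) *
        ((U⁻¹ : GL ι F) : Matrix ι ι F)) i j ∈ F₁ := by
  classical
  haveI : Finite N := hN.fin
  haveI : Fintype (N ⧸ Ksub N) := Fintype.ofFinite _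
  haveI hsimple : IsSimpleRing (LAlg hN F₁ hF₁) := LAlg_simple hN F₁ hF₁
  haveI : Finite (LAlg hN F₁ hF₁) := Subtype.finite
  haveI : Module.Finite F₁ (LAlg hN F₁ hF₁) := Module.Finite.of_finite
  haveI : IsArtinianRing (LAlg hN F₁ hF₁) := inferInstance
  obtain ⟨k, hk, D, hD, hDalg, hDfin, ⟨e⟩⟩ :=
    IsSimpleRing.exists_algEquiv_matrix_divisionRing_finite F₁ (LAlg hN F₁ hF₁)
  haveI : Finite D := Module.finite_of_finite F₁
  have hDcomm : ∀ a b : D, a * b = b * a := by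
    letI := littleWedderburn D
    exact fun a b => mul_comm a b
  have hbij : Function.Bijective (Algebra.ofId F₁ D) := by
    constructor
    · exact (algebraMap F₁ D).injective
    · intro d
      set Md : Matrix (Fin k) (Fin k) D := Matrix.diagonal (fun _ => d) with hMd
      have hcomm : ∀ X : Matrix (Fin k) (Fin k) D, Md * X = X * Md := by
        intro X
        ext i j
        rw [hMd, Matrix.diagonal_mul, Matrix.mul_diagonal]
        exact hDcomm _ _
      have hcen : ∀ x : LAlg hN F₁ hF₁, e.symm Md * x = x * e.symm Md := by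
        intro x
        apply e.injective
        rw [map_mul, map_mul, AlgEquiv.apply_symm_apply]
        exact hcomm _
      obtain ⟨c, hc⟩ := LAlg_center hN F₁ hF₁ _ hcen
      refine ⟨c, ?_⟩
      have h1 : Md = algebraMap F₁ (Matrix (Fin k) (Fin k) D) c := by
        rw [← e.commutes c, ← hc, AlgEquiv.apply_symm_apply]
      have h2 := congrFun (congrFun h1 ⟨0, Nat.pos_of_ne_zero hk.out⟩) ⟨0, Nat.pos_of_ne_zero hk.out⟩
      rw [hMd, Matrix.diagonal_apply_eq, Matrix.algebraMap_eq_diagonal, Matrix.diagonal_apply_eq] at h2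
      rw [h2]
      rfl
  let θ : LAlg hN F₁ hF₁ ≃ₐ[F₁] Matrix (Fin k) (Fin k) F₁ :=
    e.trans (AlgEquiv.mapMatrix (AlgEquiv.ofBijective (Algebra.ofId F₁ D) hbij).symm)
  -- the size
  have hkn : Fintype.card ι = k := by
    have h1 := θ.toLinearEquiv.finrank_eq
    rw [Module.finrank_matrix, Module.finrank_self, mul_one, Fintype.card_fin] at h1
    have h2 : finrank F₁ (LAlg hN F₁ hF₁) = Fintype.card ι ^ 2 := by
      rw [← Subalgebra.finrank_toSubmodule]
      have : Subalgebra.toSubmodule (LAlg hN F₁ hF₁) = Lsub hN F₁ :=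
        Submodule.toSubalgebra_toSubmodule _ _ _
      rw [this, finrank_Lsub]
    rw [h2] at h1
    nlinarith
  have ε : Fin k ≃ ι := (Fintype.equivFinOfCardEq hkn).symm
  let θ' : LAlg hN F₁ hF₁ ≃ₐ[F₁] Matrix ι ι F₁ := θ.trans (Matrix.reindexAlgEquiv F₁ F₁ ε)
  clear_value θ'
  -- the extension
  set β := repBasis hN with hβ
  let bq : (N ⧸ Ksub N) → LAlg hN F₁ hF₁ := fun q => ⟨repMat N q, repMat_mem_Lsub hN F₁ q⟩
  let Θ : Matrix ι ι F →ₗ[F] Matrix ι ι F :=
    β.constr F (fun q => (F₁.subtype : F₁ →+* F).mapMatrix (θ' (bq q)))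
  have hΘL : ∀ (x : Matrix ι ι F) (hx : x ∈ LAlg hN F₁ hF₁),
      Θ x = (F₁.subtype : F₁ →+* F).mapMatrix (θ' ⟨x, hx⟩) := by
    intro x hx
    have h1 : (⟨x, hx⟩ : LAlg hN F₁ hF₁) = ∑ q, (⟨β.repr x q, hx q⟩ : F₁) • bq q := by
      apply Subtype.ext
      show x = ((∑ q, (⟨β.repr x q, hx q⟩ : F₁) • bq q : LAlg hN F₁ hF₁) :
        Matrix ι ι F)
      rw [AddSubmonoidClass.coe_finset_sum]
      refine (β.sum_repr x).symm.trans ?_
      refine Finset.sum_congr rfl fun q _ => ?_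
      have hbq : β q = repMat N q := repBasis_apply hN q
      rw [hbq]
      rfl
    rw [h1, map_sum, map_sum]
    show (β.constr F _ : _ → _) x = _
    rw [Basis.constr_apply_fintype]
    refine Finset.sum_congr rfl fun q _ => ?_
    rw [map_smul, mapMatrix_smul]
    rfl
  have hmul : ∀ x y, Θ (x * y) = Θ x * Θ y := by
    refine mul_of_span (mset N) hN.span Θ ?_
    rintro X ⟨x, hx, rfl⟩ Y ⟨y, hy, rfl⟩
    have hxL : (x : Matrix ι ι F) ∈ LAlg hN F₁ hF₁ := mem_Lsub_of_mem hN F₁ hF₁ hx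
    have hyL : (y : Matrix ι ι F) ∈ LAlg hN F₁ hF₁ := mem_Lsub_of_mem hN F₁ hF₁ hy
    rw [hΘL _ hxL, hΘL _ hyL, hΘL _ ((LAlg hN F₁ hF₁).mul_mem hxL hyL), ← map_mul, ← map_mul]
    rfl
  have hone : Θ 1 = 1 := by
    rw [hΘL 1 (LAlg hN F₁ hF₁).one_mem]
    have : (⟨1, (LAlg hN F₁ hF₁).one_mem⟩ : LAlg hN F₁ hF₁) = 1 := rfl
    rw [this, map_one, map_one]
  obtain ⟨U, hU⟩ := algHom_matrix_inner (AlgHom.ofLinearMap Θ hone hmul)
  refine ⟨U, fun x hx i j => ?_⟩
  have hxL : (x : Matrix ι ι F) ∈ LAlg hN F₁ hF₁ := mem_Lsub_of_mem hN F₁ hF₁ hx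
  have := hU (x : Matrix ι ι F)
  rw [AlgHom.ofLinearMap_apply, hΘL _ hxL] at this
  rw [← this]
  exact (θ' ⟨_, hxL⟩ i j).2

end Cfsg.Agent.Lib.Helper8.Asch
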