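import Cfsg.Agent.Lib.Helper8.AschILC
import Cfsg.Agent.Lib.Helper8.AschA4
import Cfsg.Agent.Lib.Helper8.AschR3

set_option autoImplicit false

/-! Case A: conclusion. -/

namespace Cfsg.Agent.Lib.Helper8.Asch

open Module Matrix
open scoped commutatorElement
open Cfsg.Geo

variable {n : ℕ} {F : Type*} [Field F]

/-- the case of a centre of order two: a bilinear form -/
theorem caseA_two [Fintype F] [Nonempty (Fin n)] (hn : 3 ≤ n) {H N : Subgroup (GL (Fin n) F)}
    (hA : ACase H N) (m : ℕ) (hnm : n = 2 ^ m)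
    (hz : Nat.card ↥(N ⊓ Zs (Fin n) F) = 2) :
    ∃ M : Subgroup (GL (Fin n) F), ILC n F M ∧ H ≤ M := by
  have hsvz : ∀ k ∈ N, k ∈ Zs (Fin n) F → sv k ^ 2 = 1 := by
    intro k hk hkZ
    have := sv_pow_card N hk hkZ
    rwa [hz] at this
  have hχ : ∀ k ∈ N, k ∈ Zs (Fin n) F → sv k * (RingHom.id F) (sv k) = 1 := by
    intro k hk hkZ
    rw [RingHom.id_apply, ← pow_two]
    exact hsvz k hk hkZ
  obtain ⟨B, hB⟩ := exists_FInv (RingHom.id F) hA.cl2 hχ
  have hdet : (B : Matrix (Fin n) (Fin n) F).det ≠ 0 :=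
    (B.isUnit.map Matrix.detMonoidHom).ne_zero
  have hsim : ∀ h ∈ H, ∃ c : F, c ≠ 0 ∧ (h : Matrix (Fin n) (Fin n) F)ᵀ *
      (B : Matrix (Fin n) (Fin n) F) * (h : Matrix (Fin n) (Fin n) F) =
        c • (B : Matrix (Fin n) (Fin n) F) := by
    intro h hh
    have := FInv_similarity (RingHom.id F) hA.span B hB h (hA.minNC.inv h hh)
    rw [star_id] at this
    exact this
  -- the characteristic is odd
  have h2 : (2 : F) ≠ 0 := by
    intro h2
    haveI : Nontrivial ↥(N ⊓ Zs (Fin n) F) := by
      rw [← Finite.one_lt_card_iff_nontrivial, hz]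
      norm_num
    obtain ⟨k, hk1⟩ := exists_ne (1 : ↥(N ⊓ Zs (Fin n) F))
    have hc1 : sv (k : GL (Fin n) F) ≠ 1 := by
      intro h1
      apply hk1
      apply svHom_injective N
      rw [map_one]
      exact h1
    have hc2 := hsvz k k.2.1 k.2.2
    apply hc1
    have h3 : (sv (k : GL (Fin n) F) - 1) ^ 2 = 0 := by
      have : (sv (k : GL (Fin n) F) - 1) ^ 2 =
          sv (k : GL (Fin n) F) ^ 2 - 2 * sv (k : GL (Fin n) F) + 1 := by ring
      rw [this, hc2, h2]
      ring_nf
      linear_combination h2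
    have h4 := pow_eq_zero_iff (n := 2) (by norm_num) |>.mp h3
    exact sub_eq_zero.mp h4
  have hodd : Odd (Fintype.card F) := by
    by_contra hno
    exact h2 (two_eq_zero_of_not_odd hno)
  have hm2 : 2 ≤ m := by
    by_contra hlt
    push Not at hlt
    interval_cases m <;> omega
  rcases symm_or_skew hA.span B hB with hsymm | hskew
  · exact class8c hn hodd H _ hdet hsymm hsim
  · have hsk : ∀ a b, (B : Matrix (Fin n) (Fin n) F) a b + (B : Matrix (Fin n) (Fin n) F) b a = 0 := by
      intro a b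
      have := congrFun (congrFun hskew b) a
      rw [transpose_apply, Matrix.neg_apply] at this
      rw [this]
      ring
    have hdiag : ∀ a, (B : Matrix (Fin n) (Fin n) F) a a = 0 := by
      intro a
      have := hsk a a
      have h3 : (2 : F) * (B : Matrix (Fin n) (Fin n) F) a a = 0 := by linear_combination this
      rcases mul_eq_zero.mp h3 with h | h
      · exact absurd h h2
      · exact h
    have heven : Even n := by
      rw [hnm]
      exact (Nat.even_pow.mpr ⟨even_two, by omega⟩)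
    have hn4 : 4 ≤ n := by
      rw [hnm]
      calc 4 = 2 ^ 2 := rfl
        _ ≤ 2 ^ m := Nat.pow_le_pow_right (by norm_num) hm2
    exact class8a hn4 heven H _ hdet hsk hdiag hsim

end Cfsg.Agent.Lib.Helper8.Asch
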