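import Cfsg.Agent.Lib.Helper8.AschILC
import Cfsg.Agent.Lib.Helper8.AschA5

set_option autoImplicit false

/-! Case A: conclusion. -/

namespace Cfsg.Agent.Lib.Helper8.Asch

open Module Matrix
open scoped commutatorElement
open Cfsg.Geo

variable {n : ℕ} {F : Type*} [Field F]

theorem caseA_main [Fintype F] (hn : 3 ≤ n) {H N : Subgroup (GL (Fin n) F)}
    (hA : ACase H N) : ∃ M : Subgroup (GL (Fin n) F), ILC n F M ∧ H ≤ M := by
  haveI : Nonempty (Fin n) := ⟨⟨0, by omega⟩⟩
  obtain ⟨r, m, hr, hnm, hp, hexp, hz1, hz2, hcardN⟩ := hA.structure_thm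
  rw [Fintype.card_fin] at hnm
  set z := Nat.card ↥(N ⊓ Zs (Fin n) F) with hz
  have hHN : HInv H N := hA.minNC.inv
  have hsvz : ∀ k ∈ N, k ∈ Zs (Fin n) F → sv k ^ z = 1 := fun k hk hkZ => sv_pow_card N hk hkZ
  have hm1 : 1 ≤ m := by
    by_contra hlt
    push Not at hlt
    interval_cases m
    rw [pow_zero] at hnm
    omega
  -- r = 2 or r odd
  have hrcases : (r = 2 ∧ (z = 2 ∨ z = 4)) ∨ (Odd r ∧ z = r) := by
    rcases hr.eq_two_or_odd' with h2 | hodd
    · left
      subst h2
      refine ⟨rfl, ?_⟩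
      have h4 : z ∣ 4 := hz1
      have hle : z ≤ 4 := Nat.le_of_dvd (by norm_num) h4
      have h0 : z ≠ 0 := by
        intro h0
        rw [h0] at h4
        omega
      have h3 : z ≠ 3 := by
        intro h3
        rw [h3] at h4
        omega
      omega
    · right
      refine ⟨hodd, ?_⟩
      have hg : Nat.gcd 2 r = 1 := by
        rw [← Nat.coprime_iff_gcd_eq_one]
        exact (Nat.coprime_primes Nat.prime_two hr).mpr (fun h => by
          rw [← h] at hodd
          exact absurd hodd (by decide))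
      rw [hg, mul_one] at hz1
      rcases (Nat.dvd_prime hr).mp hz1 with h | h
      · exact absurd h hz2
      · exact h
  by_cases hz2' : r = 2 ∧ z = 2
  · obtain ⟨rfl, hz2''⟩ := hz2'
    exact caseA_two hn hA m hnm hz2''
  -- the field generated by the scalars
  set S : Set F := Set.range (svHom N) with hS
  set F₁ : Subfield F := Subfield.closure S with hF₁def
  have hF₁ : ∀ k ∈ N, k ∈ Zs (Fin n) F → sv k ∈ F₁ := fun k hk hkZ =>
    Subfield.subset_closure ⟨⟨k, hk, hkZ⟩, rfl⟩
  by_cases htop : F₁ = ⊤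
  swap
  · obtain ⟨U, hU⟩ := realise_over_subfield hA.cl2 F₁ hF₁
    refine class5_of_realisable (by omega) H N hHN hA.span F₁ htop ⟨U, ?_⟩
    rintro s ⟨x, hx, rfl⟩ i j
    exact hU x hx i j
  obtain ⟨p, hchar, e, hpp, hcard⟩ := FiniteField.card' F
  haveI : Fact p.Prime := ⟨hpp⟩
  have he1 : 1 ≤ (e : ℕ) := e.pos
  have hSz : ∀ c ∈ S, c ^ z = 1 := by
    rintro c ⟨k, rfl⟩
    exact hsvz k k.2.1 k.2.2
  have hmin : ∀ d : ℕ, 0 < d → d < (e : ℕ) → ¬ z ∣ p ^ d - 1 :=
    fun d hd0 hde => minimal_of_closure_top S z hSz htop p e hcard d hd0 hde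
  have hzdvd : z ∣ p ^ (e : ℕ) - 1 := by
    have := card_inf_dvd (F := F) N
    rwa [Nat.card_eq_fintype_card (α := F), hcard] at this
  have hcen : Nat.card (Subgroup.center N) = z := card_center hA.cl2
  have hminF : IsMinimalFieldFor (Nat.card (Subgroup.center N)) p e F := by
    rw [hcen]
    exact ⟨hpp, hchar, hcard, hzdvd, hmin⟩
  have hsymp : IsSymplecticTypeGroup r N := hA.symplecticType hr hp hexp
  have habs : ActsAbsolutelyIrreducibly (matrixSet N) := absIrred_of_span N hA.span
  have hppos : 1 ≤ p ^ (e : ℕ) := Nat.one_le_pow _ _ hpp.pos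
  rcases hrcases with ⟨hr2, hz24⟩ | ⟨hrodd, hzr⟩
  · -- r = 2, centre of order 4
    subst hr2
    have hz4 : z = 4 := by
      rcases hz24 with h | h
      · exact absurd ⟨rfl, h⟩ hz2'
      · exact h
    have hrp : 2 ≠ p := by
      intro h2p
      subst h2p
      rw [hz4] at hzdvd
      have h2e : 2 ∣ 2 ^ (e : ℕ) := dvd_pow_self 2 (by omega)
      omega
    by_cases he : (e : ℕ) = 1
    · refine class6_of_data H N hHN 2 ⟨m, hnm⟩ ⟨hsymp, habs, p, e, hrp, hminF, ?_⟩
      right; left
      refine ⟨rfl, he, by rw [hcen, hz4], ?_, m, ?_⟩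
      · rw [Fintype.card_fin, hnm]
        have hm2 : 2 ≤ m := by
          by_contra hlt
          push Not at hlt
          interval_cases m
          omega
        calc 4 = 2 ^ 2 := rfl
          _ ≤ 2 ^ m := Nat.pow_le_pow_right (by norm_num) hm2
      · rw [hcardN, hz4, pow_add]
        norm_num
    · -- e = 2 and the group is unitary
      have h41 : ¬ 4 ∣ p ^ 1 - 1 := by
        have := hmin 1 (by norm_num) (by omega)
        rwa [hz4] at this
      rw [pow_one] at h41
      have hpodd : p % 2 = 1 := by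
        rw [hz4] at hzdvd
        by_contra hp2
        have hp0 : p % 2 = 0 := by omega
        have h2p : 2 ∣ p := Nat.dvd_of_mod_eq_zero hp0
        have h2pe : 2 ∣ p ^ (e : ℕ) := dvd_pow h2p (by omega)
        omega
      have hp3 : p % 4 = 3 := by omega
      have h4p1 : 4 ∣ p + 1 := by omega
      have h42 : 4 ∣ p ^ 2 - 1 := by
        have : p ^ 2 - 1 ^ 2 = (p + 1) * (p - 1) := Nat.sq_sub_sq p 1
        rw [one_pow] at this
        rw [this]
        exact Dvd.dvd.mul_right h4p1 _
      have he2 : (e : ℕ) = 2 := by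
        by_contra hne
        have h3 : 2 < (e : ℕ) := by omega
        have := hmin 2 (by norm_num) h3
        rw [hz4] at this
        exact this h42
      refine class8b_of_unitary hn hA p e 1 hcard (by omega) le_rfl z hsvz ?_
      rw [hz4, pow_one]
      exact h4p1
  · -- r odd
    have hrp : r ≠ p := by
      intro hrp
      rw [hzr, hrp] at hzdvd
      have : p ∣ p ^ (e : ℕ) := dvd_pow_self p (by omega)
      have h1 : p ∣ 1 := by
        have h2 : p ∣ p ^ (e : ℕ) - (p ^ (e : ℕ) - 1) := Nat.dvd_sub this hzdvd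
        have h3 : p ^ (e : ℕ) - (p ^ (e : ℕ) - 1) = 1 := by omega
        rwa [h3] at h2
      exact hpp.one_lt.ne' (Nat.dvd_one.mp h1)
    rcases Nat.even_or_odd (e : ℕ) with heven | heodd
    · obtain ⟨j, hj⟩ := heven
      have hj1 : 1 ≤ j := by omega
      have he2j : (e : ℕ) = 2 * j := by omega
      refine class8b_of_unitary hn hA p e j hcard he2j hj1 z hsvz ?_
      rw [hzr]
      have h1 : r ∣ (p ^ j + 1) * (p ^ j - 1) := by
        have h2 : (p ^ j) ^ 2 - 1 ^ 2 = (p ^ j + 1) * (p ^ j - 1) := Nat.sq_sub_sq _ 1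
        rw [← h2, one_pow, ← pow_mul, mul_comm j 2, ← he2j, ← hzr]
        exact hzdvd
      rcases (Nat.Prime.dvd_mul hr).mp h1 with h | h
      · exact h
      · exfalso
        have := hmin j (by omega) (by omega)
        rw [hzr] at this
        exact this h
    · refine class6_of_data H N hHN r ⟨m, hnm⟩ ⟨hsymp, habs, p, e, hrp, hminF, ?_⟩
      left
      refine ⟨hrodd, heodd, by rw [hcen, hzr], m, hm1, ?_⟩
      rw [hcardN, hzr, pow_add, pow_one]

end Cfsg.Agent.Lib.Helper8.Asch
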