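import Cfsg.Agent.Lib.Helper8.AschILC
import Cfsg.Agent.Lib.Helper8.AschA6
import Cfsg.Agent.Lib.Helper8.AschF4
import Cfsg.Agent.Lib.Helper8.AschB3

set_option autoImplicit false

/-! Assembly of the subgroup structure theorem for the linear groups. -/

namespace Cfsg.Agent.Lib.Helper8.Asch

open Module Matrix
open scoped commutatorElement
open Cfsg.Geo

variable {n : ℕ} {F : Type*} [Field F]

theorem not_le_scalars_of_irr (hn : 2 ≤ n) (H : Subgroup (GL (Fin n) F)) (hirr : Irr (HV H)) :
    ¬ H ≤ Zs (Fin n) F := by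
  intro hle
  let i₀ : Fin n := ⟨0, by omega⟩
  set v : Fin n → F := Pi.single i₀ 1 with hv
  have hv0 : v ≠ 0 := by
    intro h0
    have := congrFun h0 i₀
    rw [hv, Pi.single_eq_same, Pi.zero_apply] at this
    exact one_ne_zero this
  have hinv : ∀ u ∈ HV H, ∀ w ∈ Submodule.span F {v},
      (u : Module.End F (Fin n → F)) w ∈ Submodule.span F {v} := by
    intro u hu w hw
    obtain ⟨g, hg, rfl⟩ := exists_of_mem_HV hu
    rw [toV_apply]
    obtain ⟨c, hc⟩ := mem_Zs.mp (hle hg)
    rw [hc, Matrix.smul_mulVec, Matrix.one_mulVec]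
    exact Submodule.smul_mem _ _ hw
  rcases hirr (Submodule.span F {v}) hinv with hbot | htop
  · apply hv0
    have : v ∈ Submodule.span F {v} := Submodule.mem_span_singleton_self v
    rw [hbot] at this
    exact (Submodule.mem_bot F).mp this
  · have h1 : finrank F (Submodule.span F {v}) = 1 := finrank_span_singleton hv0
    rw [htop, finrank_top, Module.finrank_fin_fun] at h1
    omega

theorem main_r [Fintype F] (hn : 3 ≤ n) (H : Subgroup (GL (Fin n) F)) :
    (∃ M : Subgroup (GL (Fin n) F), ILC n F M ∧ H ≤ M) ∨ InLinearResidualClass H := by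
  by_cases hirr : Irr (HV H)
  swap
  · left
    exact class1_of_not_irr H hirr
  have hHZ : ¬ H ≤ Zs (Fin n) F := not_le_scalars_of_irr (by omega) H hirr
  haveI : Nonempty (Fin n) := ⟨⟨0, by omega⟩⟩
  obtain ⟨N, hN⟩ := exists_minNC H (Zs (Fin n) F) hHZ
  have hA : ∀ u ∈ HV H, Nrm (algOf (HV N)) u := Nrm_algOf_HV hN.inv
  rcases normal_subalgebra_cases (HV H) hirr (algOf (HV N)) hA with h2 | h3 |
    ⟨a, e, b, hb1, hb2, hbH⟩
  · left
    exact class2_of_decomp H h2
  · left
    exact class3_of_field H h3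
  have hNZ : ¬ N ≤ scalars (Fin n) F := by
    rw [← Zs_eq_scalars]
    exact hN.not_le
  rcases T_cases hn H N hNZ a e b hb1 hb2 hbH with hM | hW | hspan
  · left
    exact hM
  · left
    exact class_of_wreath hn H hW
  rcases comm_dichotomy hN with hc | hperf
  · left
    exact caseA_main hn ⟨hN, hc, hspan⟩
  rcases caseB_structure Zs_le_center hN hperf with hmin |
    ⟨k, P, hk, -, hPN, -, hcomm, hgen, hperm, htrans⟩
  · rw [Zs_eq_scalars] at hmin
    exact caseB_one hn H N hN.le hN.inv hspan hperf hmin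
  · left
    exact class_of_wreath hn H
      (wreath_of_caseB H N hspan k P hk hPN hcomm hgen hperm htrans)

theorem main [Fintype F] (hn : 3 ≤ n) (H : Subgroup (GL (Fin n) F)) :
    (∃ M : Subgroup (GL (Fin n) F), InLinearClass n F M ∧ H ≤ M) ∨ InLinearResidualClass H := by
  rcases main_r hn H with ⟨M, hM, hle⟩ | h
  · exact Or.inl ⟨M, hM.toInLinearClass, hle⟩
  · exact Or.inr h

end Cfsg.Agent.Lib.Helper8.Asch
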