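import Mathlib
import Cfsg.Agent.Lib.Helper6.GUCDefs

set_option autoImplicit false

/-!
Farm MNU: `3 × 3` block matrices on the index type `(α ⊕ β) ⊕ γ`.
-/

namespace Cfsg.Agent.Lib.Helper8.MNU

open Matrix Cfsg.Agent.Lib.Helper6.GUC

section B3

variable {K : Type*} [Field K] {α β γ : Type*}

/-- the `3 × 3` block matrix with rows `(a b c; d e f; g h i)` -/
def B3 (a : Matrix α α K) (b : Matrix α β K) (c : Matrix α γ K)
    (d : Matrix β α K) (e : Matrix β β K) (f : Matrix β γ K)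
    (g : Matrix γ α K) (h : Matrix γ β K) (i : Matrix γ γ K) :
    Matrix ((α ⊕ β) ⊕ γ) ((α ⊕ β) ⊕ γ) K :=
  fromBlocks (fromBlocks a b d e) (fromRows c f) (fromCols g h) i

theorem B3_mul [Fintype α] [Fintype β] [Fintype γ]
    (a : Matrix α α K) (b : Matrix α β K) (c : Matrix α γ K)
    (d : Matrix β α K) (e : Matrix β β K) (f : Matrix β γ K)
    (g : Matrix γ α K) (h : Matrix γ β K) (i : Matrix γ γ K)
    (a' : Matrix α α K) (b' : Matrix α β K) (c' : Matrix α γ K)
    (d' : Matrix β α K) (e' : Matrix β β K) (f' : Matrix β γ K)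
    (g' : Matrix γ α K) (h' : Matrix γ β K) (i' : Matrix γ γ K) :
    B3 a b c d e f g h i * B3 a' b' c' d' e' f' g' h' i' =
      B3 (a * a' + b * d' + c * g') (a * b' + b * e' + c * h') (a * c' + b * f' + c * i')
        (d * a' + e * d' + f * g') (d * b' + e * e' + f * h') (d * c' + e * f' + f * i')
        (g * a' + h * d' + i * g') (g * b' + h * e' + i * h') (g * c' + h * f' + i * i') := by
  ext x y
  rcases x with (x | x) | x <;> rcases y with (y | y) | y <;>
    simp [B3, Matrix.mul_apply, Fintype.sum_sum_type, Matrix.add_apply]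

theorem B3_ct (σ : K →+* K)
    (a : Matrix α α K) (b : Matrix α β K) (c : Matrix α γ K)
    (d : Matrix β α K) (e : Matrix β β K) (f : Matrix β γ K)
    (g : Matrix γ α K) (h : Matrix γ β K) (i : Matrix γ γ K) :
    ct σ (B3 a b c d e f g h i) =
      B3 (ct σ a) (ct σ d) (ct σ g) (ct σ b) (ct σ e) (ct σ h) (ct σ c) (ct σ f) (ct σ i) := by
  ext x y
  rcases x with (x | x) | x <;> rcases y with (y | y) | y <;> rfl

theorem B3_one [DecidableEq α] [DecidableEq β] [DecidableEq γ] :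
    (1 : Matrix ((α ⊕ β) ⊕ γ) ((α ⊕ β) ⊕ γ) K) = B3 1 0 0 0 1 0 0 0 1 := by
  ext x y
  rcases x with (x | x) | x <;> rcases y with (y | y) | y <;>
    simp [B3, Matrix.one_apply]

theorem B3_inj
    {a : Matrix α α K} {b : Matrix α β K} {c : Matrix α γ K}
    {d : Matrix β α K} {e : Matrix β β K} {f : Matrix β γ K}
    {g : Matrix γ α K} {h : Matrix γ β K} {i : Matrix γ γ K}
    {a' : Matrix α α K} {b' : Matrix α β K} {c' : Matrix α γ K}
    {d' : Matrix β α K} {e' : Matrix β β K} {f' : Matrix β γ K}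
    {g' : Matrix γ α K} {h' : Matrix γ β K} {i' : Matrix γ γ K}
    (hh : B3 a b c d e f g h i = B3 a' b' c' d' e' f' g' h' i') :
    a = a' ∧ b = b' ∧ c = c' ∧ d = d' ∧ e = e' ∧ f = f' ∧ g = g' ∧ h = h' ∧ i = i' := by
  refine ⟨?_, ?_, ?_, ?_, ?_, ?_, ?_, ?_, ?_⟩
  · ext x y; exact congrFun (congrFun hh (Sum.inl (Sum.inl x))) (Sum.inl (Sum.inl y))
  · ext x y; exact congrFun (congrFun hh (Sum.inl (Sum.inl x))) (Sum.inl (Sum.inr y))
  · ext x y; exact congrFun (congrFun hh (Sum.inl (Sum.inl x))) (Sum.inr y)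
  · ext x y; exact congrFun (congrFun hh (Sum.inl (Sum.inr x))) (Sum.inl (Sum.inl y))
  · ext x y; exact congrFun (congrFun hh (Sum.inl (Sum.inr x))) (Sum.inl (Sum.inr y))
  · ext x y; exact congrFun (congrFun hh (Sum.inl (Sum.inr x))) (Sum.inr y)
  · ext x y; exact congrFun (congrFun hh (Sum.inr x)) (Sum.inl (Sum.inl y))
  · ext x y; exact congrFun (congrFun hh (Sum.inr x)) (Sum.inl (Sum.inr y))
  · ext x y; exact congrFun (congrFun hh (Sum.inr x)) (Sum.inr y)

/-- determinant of a block matrix of the shape `(a b c; 0 e 0; 0 h i)` -/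
theorem B3_det [Fintype α] [Fintype β] [Fintype γ] [DecidableEq α] [DecidableEq β] [DecidableEq γ]
    (a : Matrix α α K) (b : Matrix α β K) (c : Matrix α γ K)
    (e : Matrix β β K) (h : Matrix γ β K) (i : Matrix γ γ K) :
    (B3 a b c 0 e 0 0 h i).det = a.det * e.det * i.det := by
  -- reorder: the matrix is block upper triangular for `α ⊕ (β ⊕ γ)`
  have h1 : B3 a b c 0 e 0 0 h i =
      Matrix.reindex (Equiv.sumAssoc α β γ).symm (Equiv.sumAssoc α β γ).symm
        (fromBlocks a (fromCols b c) 0 (fromBlocks e 0 h i)) := by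
    ext x y
    rcases x with (x | x) | x <;> rcases y with (y | y) | y <;> simp [B3]
  rw [h1, Matrix.det_reindex_self, det_fromBlocks_zero₂₁, det_fromBlocks_zero₁₂, mul_assoc]

end B3

end Cfsg.Agent.Lib.Helper8.MNU
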