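import Mathlib
import Cfsg.Agent.Lib.Helper3.MNUDefs
import Cfsg.Agent.Lib.Helper8.MNUB3

set_option autoImplicit false
set_option linter.unusedSectionVars false
set_option linter.unusedVariables false

/-!
Farm MNU, unit MO (part 1): the odd model, matrices on `(Fin m ⊕ Fin m) ⊕ Unit`.
-/

namespace Cfsg.Agent.Lib.Helper8.MNU

open Matrix Cfsg.Agent.Lib.Helper6.GUC Cfsg.Agent.Lib.Helper3.MNU

section model

variable {K : Type*} [Field K] (σ : K →+* K) (ε : K) {m : ℕ}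

/-- a row vector as a `1 × m` matrix -/
def rw1 (v : Fin m → K) : Matrix Unit (Fin m) K := replicateRow Unit v

theorem rw1_zero : rw1 (0 : Fin m → K) = 0 := by
  ext i j; rfl

theorem rw1_add (v w : Fin m → K) : rw1 (v + w) = rw1 v + rw1 w := by
  ext i j; rfl

theorem ct_rw1_mul_rw1 (v w : Fin m → K) : ct σ (rw1 v) * rw1 w = outer σ v w := by
  ext i j
  simp [Matrix.mul_apply, ct_apply, outer_apply, rw1]

/-- the Gram matrix of the odd model -/
def GmO (m : ℕ) : Matrix ((Fin m ⊕ Fin m) ⊕ Unit) ((Fin m ⊕ Fin m) ⊕ Unit) K :=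
  B3 0 (ε • 1) 0 ((-ε) • 1) 0 0 0 0 1

/-- the unipotent element `[[1, X, ε⁻¹ v†], [0, 1, 0], [0, v, 1]]` -/
def xM (v : Fin m → K) (X : Matrix (Fin m) (Fin m) K) :
    Matrix ((Fin m ⊕ Fin m) ⊕ Unit) ((Fin m ⊕ Fin m) ⊕ Unit) K :=
  B3 1 X (ε⁻¹ • ct σ (rw1 v)) 0 1 0 0 (rw1 v) 1

/-- the Levi element `diag (g, g^{-†}, c)` -/
def levM (g gi : Matrix (Fin m) (Fin m) K) (c : K) :
    Matrix ((Fin m ⊕ Fin m) ⊕ Unit) ((Fin m ⊕ Fin m) ⊕ Unit) K :=
  B3 g 0 0 0 (ct σ gi) 0 0 0 (c • 1)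

theorem xM_mul (v w : Fin m → K) (X Y : Matrix (Fin m) (Fin m) K) :
    xM σ ε v X * xM σ ε w Y = xM σ ε (v + w) (X + Y + ε⁻¹ • outer σ v w) := by
  unfold xM
  rw [B3_mul]
  congr 1
  · simp
  · simp only [one_mul, mul_one, Matrix.smul_mul, ct_rw1_mul_rw1]
    abel
  · simp only [Matrix.one_mul, Matrix.mul_zero, add_zero, Matrix.mul_one, rw1_add, ct_add, smul_add]
    rw [add_comm]
  · simp
  · simp
  · simp
  · simp
  · simp only [Matrix.zero_mul, Matrix.mul_one, zero_add, Matrix.one_mul, rw1_add]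
  · simp

theorem xM_det (v : Fin m → K) (X : Matrix (Fin m) (Fin m) K) : (xM σ ε v X).det = 1 := by
  unfold xM
  rw [B3_det]
  simp

theorem GmO_ct (hε : σ ε = -ε) : ct σ (GmO ε m) = GmO ε m := by
  unfold GmO
  rw [B3_ct]
  congr 1
  · exact ct_zero σ
  · rw [ct_smul, ct_one, map_neg, hε, neg_neg]
  · exact ct_zero σ
  · rw [ct_smul, ct_one, hε]
  · exact ct_zero σ
  · exact ct_zero σ
  · exact ct_zero σ
  · exact ct_zero σ
  · exact ct_one σ

theorem GmO_det (hε0 : ε ≠ 0) : (GmO ε m).det ≠ 0 := by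
  apply Matrix.det_ne_zero_of_right_inverse (B := B3 0 ((-ε⁻¹) • 1) 0 (ε⁻¹ • 1) 0 0 0 0 1)
  unfold GmO
  rw [B3_mul, B3_one]
  congr 1 <;> simp [hε0]

theorem xM_iso (hσ : ∀ a, σ (σ a) = a) (hε0 : ε ≠ 0) (hε : σ ε = -ε) (v : Fin m → K)
    (X : Matrix (Fin m) (Fin m) K) (hA : Adm σ ε v X) :
    IsIso σ (GmO ε m) (xM σ ε v X) := by
  refine ⟨?_, xM_det σ ε v X⟩
  have hA' : X - ct σ X = ε⁻¹ • outer σ v v := hA
  have hεi : σ ε⁻¹ = -ε⁻¹ := by rw [map_inv₀, hε, inv_neg]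
  unfold xM GmO
  rw [B3_ct, B3_mul, B3_mul]
  simp only [ct_one, ct_zero, ct_smul, ct_ct σ hσ, Matrix.mul_zero, Matrix.zero_mul, add_zero,
    zero_add, Matrix.one_mul, Matrix.mul_one, Matrix.mul_smul, Matrix.smul_mul, smul_smul, hεi,
    ct_rw1_mul_rw1, smul_zero]
  congr 1
  · have h1 : outer σ v v = ε • (X - ct σ X) := by
      rw [hA', smul_smul, mul_inv_cancel₀ hε0, one_smul]
    rw [h1]
    simp only [neg_smul, smul_sub]
    abel
  · rw [mul_neg, inv_mul_cancel₀ hε0, neg_one_smul, neg_add_cancel]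
  · rw [mul_neg, mul_inv_cancel₀ hε0, neg_one_smul, neg_add_cancel]

theorem levM_iso (hσ : ∀ a, σ (σ a) = a) (g gi : Matrix (Fin m) (Fin m) K) (h1 : g * gi = 1)
    (h2 : gi * g = 1) (c : K) (hc : σ c * c = 1) (hdet : g.det * σ gi.det * c = 1) :
    IsIso σ (GmO ε m) (levM σ g gi c) := by
  have hct : ct σ g * ct σ gi = 1 := by rw [← ct_mul, h2, ct_one]
  constructor
  · unfold levM GmO
    rw [B3_ct, B3_mul, B3_mul]
    simp only [ct_one, ct_zero, ct_smul, ct_ct σ hσ, Matrix.mul_zero, Matrix.zero_mul, add_zero,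
      zero_add, Matrix.one_mul, Matrix.mul_one, Matrix.mul_smul, Matrix.smul_mul, smul_smul,
      smul_zero, hct, h2]
    rw [mul_comm c, hc, one_smul]
  · unfold levM
    rw [B3_det]
    have hd : (ct σ gi).det = σ gi.det := by
      unfold ct
      rw [Matrix.det_transpose]
      exact (RingHom.map_det σ gi).symm
    rw [hd]
    simp only [det_smul, Fintype.card_unique, pow_one, det_one, mul_one]
    exact hdet

theorem levM_mul_xM (g gi : Matrix (Fin m) (Fin m) K) (h1 : g * gi = 1) (h2 : gi * g = 1) (c : K)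
    (X : Matrix (Fin m) (Fin m) K) :
    levM σ g gi c * xM σ ε 0 X = xM σ ε 0 (g * X * ct σ g) * levM σ g gi c := by
  have hct : ct σ g * ct σ gi = 1 := by rw [← ct_mul, h2, ct_one]
  unfold levM xM
  rw [B3_mul, B3_mul]
  simp only [rw1_zero, ct_zero, smul_zero, Matrix.mul_zero, Matrix.zero_mul, add_zero,
    zero_add, Matrix.one_mul, Matrix.mul_one]
  rw [Matrix.mul_assoc (g * X), hct, Matrix.mul_one]

theorem xM_inj (X Y : Matrix (Fin m) (Fin m) K) (h : xM σ ε 0 X = xM σ ε 0 Y) : X = Y :=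
  (B3_inj h).2.1

theorem adm_zero (X : Matrix (Fin m) (Fin m) K) (hX : IsHerm σ X) : Adm σ ε 0 X := by
  show X - ct σ X = ε⁻¹ • outer σ 0 0
  have h0 : outer σ (0 : Fin m → K) 0 = 0 := by
    ext i j
    simp [outer_apply]
  rw [h0, smul_zero, show ct σ X = X from hX, sub_self]

theorem herm_cong (hσ : ∀ a, σ (σ a) = a) (g X : Matrix (Fin m) (Fin m) K) (hX : IsHerm σ X) :
    IsHerm σ (g * X * ct σ g) := by
  show ct σ (g * X * ct σ g) = g * X * ct σ g
  rw [ct_mul, ct_mul, ct_ct σ hσ, show ct σ X = X from hX, Matrix.mul_assoc]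

end model

end Cfsg.Agent.Lib.Helper8.MNU
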