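import Mathlib
import Cfsg.Prelude
import Cfsg.Agent.Lib.Helper3.MNUDefs
import Cfsg.Agent.Lib.Helper3.MNUA
import Cfsg.Agent.Lib.Helper5.MNUM0
import Cfsg.Agent.Lib.Helper8.MNUMO1

set_option autoImplicit false
set_option linter.unusedSectionVars false
set_option linter.unusedVariables false

/-!
Farm MNU, unit MO: `exists_odd_data` - the odd model inside `Cfsg.SU (2 * m + 1) K q`.
-/

namespace Cfsg.Agent.Lib.Helper8.MNU

open Matrix Cfsg.Agent.Lib.Helper6.GUC Cfsg.Agent.Lib.Helper5 Cfsg.Agent.Lib.Helper3.MNU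

section unitMO

variable {K : Type*} [Field K] [Fintype K] [DecidableEq K] {q : ℕ} (hK : Fintype.card K = q ^ 2)

/-- (MO) the odd model inside `SU_{2m+1}`: index type `(Fin m ⊕ Fin m) ⊕ Unit`,
`Gm = fromBlocks (fromBlocks 0 (ε • 1) (-ε • 1) 0) 0 0 1`. -/
theorem exists_odd_data (m : ℕ) (hm : 1 ≤ m) :
    ∃ (ε : K) (u : Matrix (Fin m) (Fin m) K → ↥(Cfsg.SU (2 * m + 1) K q))
      (xx : (Fin m → K) → Matrix (Fin m) (Fin m) K → ↥(Cfsg.SU (2 * m + 1) K q)),
      ε ≠ 0 ∧ HermBridge.sigma hK ε = -ε ∧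
      (∀ X Y, IsHerm (HermBridge.sigma hK) X → IsHerm (HermBridge.sigma hK) Y → u (X + Y) = u X * u Y) ∧
      (∀ g : GL (Fin m) K, ∃ a : ↥(Cfsg.SU (2 * m + 1) K q),
        ∀ X, IsHerm (HermBridge.sigma hK) X → a * u X * a⁻¹ =
          u ((g : Matrix (Fin m) (Fin m) K) * X * ct (HermBridge.sigma hK) (g : Matrix (Fin m) (Fin m) K))) ∧
      (∀ X, IsHerm (HermBridge.sigma hK) X → xx 0 X = u X) ∧
      (∀ v w X Y, Adm (HermBridge.sigma hK) ε v X → Adm (HermBridge.sigma hK) ε w Y →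
        xx v X * xx w Y = xx (v + w) (X + Y + ε⁻¹ • outer (HermBridge.sigma hK) v w)) ∧
      (∀ X Y, IsHerm (HermBridge.sigma hK) X → IsHerm (HermBridge.sigma hK) Y → u X = u Y → X = Y) := by
  classical
  obtain ⟨ε, hε0, hε⟩ := Cfsg.Agent.Lib.Helper3.MNU.exists_eps hK
  have hσ : ∀ a, HermBridge.sigma hK (HermBridge.sigma hK a) = a := HermBridge.sigma_sigma hK
  have hcard : Fintype.card ((Fin m ⊕ Fin m) ⊕ Unit) = 2 * m + 1 := by
    simp only [Fintype.card_sum, Fintype.card_fin, Fintype.card_unique]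
    omega
  obtain ⟨Ψ, hmul, hinj⟩ := Cfsg.Agent.Lib.Helper5.MNU.exists_transport hK (2 * m + 1)
    (Fintype.equivFinOfCardEq hcard) (GmO ε m) (GmO_ct (HermBridge.sigma hK) ε hε)
    (GmO_det ε hε0)
  have hiso0 : ∀ X, IsHerm (HermBridge.sigma hK) X →
      IsIso (HermBridge.sigma hK) (GmO ε m) (xM (HermBridge.sigma hK) ε 0 X) := fun X hX =>
    xM_iso (HermBridge.sigma hK) ε hσ hε0 hε 0 X (adm_zero (HermBridge.sigma hK) ε X hX)
  refine ⟨ε, fun X => Ψ (xM (HermBridge.sigma hK) ε 0 X), fun v X => Ψ (xM (HermBridge.sigma hK) ε v X),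
    hε0, hε, ?_, ?_, ?_, ?_, ?_⟩
  · intro X Y hX hY
    show Ψ (xM (HermBridge.sigma hK) ε 0 (X + Y)) = Ψ (xM (HermBridge.sigma hK) ε 0 X) *
      Ψ (xM (HermBridge.sigma hK) ε 0 Y)
    rw [← hmul _ _ (hiso0 X hX) (hiso0 Y hY), xM_mul]
    have h0 : outer (HermBridge.sigma hK) (0 : Fin m → K) 0 = 0 := by
      ext i j
      simp [outer_apply]
    rw [h0, smul_zero, add_zero, add_zero]
  · intro g
    have hg1 : (g : Matrix (Fin m) (Fin m) K) * ((g⁻¹ : GL (Fin m) K) : Matrix (Fin m) (Fin m) K) = 1 := by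
      rw [← Matrix.GeneralLinearGroup.coe_mul, mul_inv_cancel]
      rfl
    have hg2 : ((g⁻¹ : GL (Fin m) K) : Matrix (Fin m) (Fin m) K) * (g : Matrix (Fin m) (Fin m) K) = 1 := by
      rw [← Matrix.GeneralLinearGroup.coe_mul, inv_mul_cancel]
      rfl
    have hd0 : (g : Matrix (Fin m) (Fin m) K).det ≠ 0 := by
      intro h
      have := congrArg Matrix.det hg1
      rw [Matrix.det_mul, h, zero_mul, Matrix.det_one] at this
      exact zero_ne_one this
    have hdi : ((g⁻¹ : GL (Fin m) K) : Matrix (Fin m) (Fin m) K).det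
        = ((g : Matrix (Fin m) (Fin m) K).det)⁻¹ := by
      have := congrArg Matrix.det hg1
      rw [Matrix.det_mul, Matrix.det_one] at this
      exact eq_inv_of_mul_eq_one_right this
    have hsd0 : HermBridge.sigma hK (g : Matrix (Fin m) (Fin m) K).det ≠ 0 := by
      intro h
      apply hd0
      have := congrArg (HermBridge.sigma hK) h
      rw [hσ, map_zero] at this
      exact this
    have hlev : IsIso (HermBridge.sigma hK) (GmO ε m)
        (levM (HermBridge.sigma hK) (g : Matrix (Fin m) (Fin m) K)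
          ((g⁻¹ : GL (Fin m) K) : Matrix (Fin m) (Fin m) K)
          (HermBridge.sigma hK (g : Matrix (Fin m) (Fin m) K).det / (g : Matrix (Fin m) (Fin m) K).det)) := by
      apply levM_iso (HermBridge.sigma hK) ε hσ _ _ hg1 hg2
      · rw [map_div₀, hσ]
        field_simp
      · rw [hdi, map_inv₀]
        field_simp
    obtain ⟨L, hL⟩ : ∃ L, L = levM (HermBridge.sigma hK) (g : Matrix (Fin m) (Fin m) K)
          ((g⁻¹ : GL (Fin m) K) : Matrix (Fin m) (Fin m) K)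
          (HermBridge.sigma hK (g : Matrix (Fin m) (Fin m) K).det / (g : Matrix (Fin m) (Fin m) K).det) :=
      ⟨_, rfl⟩
    rw [← hL] at hlev
    refine ⟨Ψ L, fun X hX => ?_⟩
    show Ψ L * Ψ (xM (HermBridge.sigma hK) ε 0 X) * (Ψ L)⁻¹ = Ψ (xM (HermBridge.sigma hK) ε 0
      ((g : Matrix (Fin m) (Fin m) K) * X * ct (HermBridge.sigma hK) (g : Matrix (Fin m) (Fin m) K)))
    rw [mul_inv_eq_iff_eq_mul, ← hmul _ _ hlev (hiso0 X hX),
      ← hmul _ _ (hiso0 _ (herm_cong (HermBridge.sigma hK) hσ _ X hX)) hlev, hL,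
      levM_mul_xM (HermBridge.sigma hK) ε _ _ hg1 hg2]
  · intro X hX
    rfl
  · intro v w X Y hv hw
    show Ψ (xM (HermBridge.sigma hK) ε v X) * Ψ (xM (HermBridge.sigma hK) ε w Y) =
      Ψ (xM (HermBridge.sigma hK) ε (v + w) (X + Y + ε⁻¹ • outer (HermBridge.sigma hK) v w))
    rw [← hmul _ _ (xM_iso (HermBridge.sigma hK) ε hσ hε0 hε v X hv)
      (xM_iso (HermBridge.sigma hK) ε hσ hε0 hε w Y hw), xM_mul]
  · intro X Y hX hY h
    exact xM_inj (HermBridge.sigma hK) ε X Y (hinj _ _ (hiso0 X hX) (hiso0 Y hY) h)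

end unitMO

end Cfsg.Agent.Lib.Helper8.MNU
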