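import Mathlib
import Cfsg.Prelude.Def_ChevE8
import Cfsg.Prelude.Def_ChevStructure
import Cfsg.Prelude.Def_LieExceptional
import Cfsg.Agent.Lib.Helper5.ChevBNPair

set_option autoImplicit false

/-!
# Farm E8CORE (S5751): iterated cores of a maximal parabolic subgroup of `E₈(2)` — definitions

`G = E₈(2)`, `M₁ = P_J` the maximal parabolic subgroup for `J = ` all nodes but the branch node
(index 3, the fundamental root `130`, coefficient 6 in the highest root), `M₂ = s M₁ s⁻¹` for
`s = n_{p₄}`. The sequences `A`, `B` of iterated cores; the level `lev r` of a root (its coefficient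
at the branch node); the subgroups `Ulev k` generated by the root elements of level at least `k`;
the predicate `QQ k` (canonical product with no factor of level at most `k`).
-/

namespace Cfsg.Agent.Lib.Helper8.E8Core

open Cfsg Cfsg.Lie Cfsg.Agent.Lib.Helper5.ChevStruct Cfsg.Agent.Lib.Helper5.ChevSym

/-- the field with two elements -/
abbrev F2 : Type := ZMod 2

theorem hE8 : chevE8 ∈ Seven := by simp [Seven]

/-- the group `E₈(2)` -/
abbrev GE : Type := ↥(chevE8.group F2)

/-- its `(B,N)`-pair -/
def PE : Cfsg.BNPair GE := chevBNPair chevE8 hE8 F2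

/-- the representative `n_i` of the `i`-th fundamental reflection, as an element of the group -/
def sG (i : ℕ) (hi : i < chevE8.rank) : GE :=
  ⟨nGL chevE8 hE8 i, monomial_le_group chevE8 hE8 (nGL_mem chevE8 hE8 i hi)⟩

theorem rank_E8 : chevE8.rank = 8 := rfl

theorem nroots_E8 : chevE8.nroots = 240 := rfl

/-- the branch node -/
def node : ℕ := 3

theorem node_lt : node < chevE8.rank := by decide

/-- the reflection in the branch node -/
def s3 : GE := sG node node_lt

/-- the other seven nodes, as a set of indices -/
def JN : Set ℕ := {j | j ≠ node}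

/-- the other seven fundamental reflections, as a set of elements of the group -/
def JS : Set GE := {n | ∃ i, ∃ hi : i < chevE8.rank, i ≠ node ∧ n = sG i hi}

/-- the maximal parabolic subgroup `P_J` -/
def M1 : Subgroup GE := PE.parabolic JS

/-- its conjugate under `s` -/
def M2 : Subgroup GE := M1.map (MulAut.conj s3).toMonoidHom

/-- one step of the iteration, on the side of `M` -/
def coreIn (M X Y : Subgroup GE) : Subgroup GE :=
  ((X ⊓ Y).subgroupOf M).normalCore.map M.subtype

/-- the two sequences of iterated cores -/
def AB : ℕ → Subgroup GE × Subgroup GE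
  | 0 => (M1, M2)
  | k + 1 => (coreIn M1 (AB k).1 (AB k).2, coreIn M2 (AB k).1 (AB k).2)

/-- the sequence `A` -/
def A (k : ℕ) : Subgroup GE := (AB k).1

/-- the sequence `B` -/
def B (k : ℕ) : Subgroup GE := (AB k).2

theorem A_zero : A 0 = M1 := rfl

theorem B_zero : B 0 = M2 := rfl

theorem A_succ (k : ℕ) :
    A (k + 1) = ((A k ⊓ B k).subgroupOf M1).normalCore.map M1.subtype := rfl

theorem B_succ (k : ℕ) :
    B (k + 1) = ((A k ⊓ B k).subgroupOf M2).normalCore.map M2.subtype := rfl

/-- the level of a root: its coefficient at the branch node -/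
def lev (r : ℕ) : ℤ := (chevE8.coroot.getD r #[]).getD node 0

/-- the subgroup generated by the root elements of the positive roots of level at least `k` -/
def Ulev (k : ℤ) : Subgroup (GL chevE8.Idx F2) :=
  Subgroup.closure {g | ∃ (r : ℕ) (t : F2), chevE8.IsPosRoot r ∧ k ≤ lev r ∧
    (g : Matrix chevE8.Idx chevE8.Idx F2) = chevE8.x F2 r t}

/-- the same, inside the group -/
def UlevG (k : ℤ) : Subgroup GE := (Ulev k).subgroupOf (chevE8.group F2)

/-- `y` is an ordered product of positive root elements without factors of level at most `k` -/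
def QQ (k : ℤ) (y : GL chevE8.Idx F2) : Prop :=
  ∃ t : ℕ → F2, (∀ r, ¬ chevE8.IsPosRoot r → t r = 0) ∧ (∀ r, lev r ≤ k → t r = 0) ∧
    (y : Matrix chevE8.Idx chevE8.Idx F2)
      = chevE8.wordMat F2 (chevE8.posRoots.map fun r => (r, t r))

/-- a word in the seven fundamental reflections other than the branch node -/
def JWord (w : List ℕ) : Prop := ∀ i ∈ w, i < chevE8.rank ∧ i ≠ node

end Cfsg.Agent.Lib.Helper8.E8Core
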