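import Mathlib
import Cfsg.Agent.Lib.Helper8.E8CoreDefs

set_option autoImplicit false

/-!
# Farm E8CORE (S5751), units GEN and SYM: general facts on iterated cores
-/

namespace Cfsg.Agent.Lib.Helper8.E8Core

open Cfsg Cfsg.Lie

theorem mem_coreIn {M X Y : Subgroup GE} {g : GE} :
    g ∈ coreIn M X Y ↔ g ∈ M ∧ ∀ p ∈ M, p * g * p⁻¹ ∈ X ⊓ Y := by
  unfold coreIn
  rw [Subgroup.mem_map]
  constructor
  · rintro ⟨x, hx, rfl⟩
    refine ⟨x.2, fun p hp => ?_⟩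
    have h := hx (⟨p, hp⟩ : ↥M)
    exact h
  · rintro ⟨hg, h⟩
    refine ⟨⟨g, hg⟩, ?_, rfl⟩
    intro b
    exact h b.1 b.2

theorem coreIn_le (M X Y : Subgroup GE) : coreIn M X Y ≤ M := fun _ hg => (mem_coreIn.1 hg).1

theorem coreIn_le_inf (M X Y : Subgroup GE) : coreIn M X Y ≤ X ⊓ Y := by
  intro g hg
  have h := (mem_coreIn.1 hg).2 1 (one_mem _)
  simpa using h

theorem coreIn_conj_mem {M X Y : Subgroup GE} {g p : GE} (hg : g ∈ coreIn M X Y) (hp : p ∈ M) :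
    p * g * p⁻¹ ∈ coreIn M X Y := by
  rw [mem_coreIn] at hg ⊢
  refine ⟨mul_mem (mul_mem hp hg.1) (inv_mem hp), fun q hq => ?_⟩
  have h := hg.2 (q * p) (mul_mem hq hp)
  have e : q * (p * g * p⁻¹) * q⁻¹ = q * p * g * (q * p)⁻¹ := by group
  rw [e]
  exact h

theorem le_coreIn {M X Y N : Subgroup GE} (hX : N ≤ X) (hY : N ≤ Y) (hM : N ≤ M)
    (hn : ∀ p ∈ M, ∀ n ∈ N, p * n * p⁻¹ ∈ N) : N ≤ coreIn M X Y := by
  intro g hg
  rw [mem_coreIn]
  exact ⟨hM hg, fun p hp => ⟨hX (hn p hp g hg), hY (hn p hp g hg)⟩⟩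

theorem mem_map_conj {H : Subgroup GE} {c x : GE} :
    x ∈ H.map (MulAut.conj c).toMonoidHom ↔ c⁻¹ * x * c ∈ H := by
  rw [Subgroup.mem_map]
  constructor
  · rintro ⟨y, hy, rfl⟩
    have : c⁻¹ * ((MulAut.conj c).toMonoidHom y) * c = y := by
      show c⁻¹ * (c * y * c⁻¹) * c = y
      group
    rw [this]
    exact hy
  · intro h
    refine ⟨c⁻¹ * x * c, h, ?_⟩
    show c * (c⁻¹ * x * c) * c⁻¹ = x
    group

theorem coreIn_map_conj (M X Y : Subgroup GE) (c : GE) :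
    (coreIn M X Y).map (MulAut.conj c).toMonoidHom
      = coreIn (M.map (MulAut.conj c).toMonoidHom) (X.map (MulAut.conj c).toMonoidHom)
          (Y.map (MulAut.conj c).toMonoidHom) := by
  ext g
  rw [mem_map_conj, mem_coreIn, mem_coreIn, mem_map_conj]
  constructor
  · rintro ⟨h1, h2⟩
    refine ⟨h1, fun p hp => ?_⟩
    rw [mem_map_conj] at hp
    have h := h2 _ hp
    rw [Subgroup.mem_inf, mem_map_conj, mem_map_conj]
    have e : c⁻¹ * (p * g * p⁻¹) * c = c⁻¹ * p * c * (c⁻¹ * g * c) * (c⁻¹ * p * c)⁻¹ := by group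
    rw [e]
    exact h
  · rintro ⟨h1, h2⟩
    refine ⟨h1, fun p hp => ?_⟩
    have hp' : c * p * c⁻¹ ∈ M.map (MulAut.conj c).toMonoidHom := by
      rw [mem_map_conj]
      have e : c⁻¹ * (c * p * c⁻¹) * c = p := by group
      rw [e]
      exact hp
    have h := h2 _ hp'
    rw [Subgroup.mem_inf, mem_map_conj, mem_map_conj] at h
    have e : c⁻¹ * (c * p * c⁻¹ * g * (c * p * c⁻¹)⁻¹) * c = p * (c⁻¹ * g * c) * p⁻¹ := by group
    rw [e] at h
    exact h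

/-! ## the sequences -/

theorem A_succ' (k : ℕ) : A (k + 1) = coreIn M1 (A k) (B k) := rfl

theorem B_succ' (k : ℕ) : B (k + 1) = coreIn M2 (A k) (B k) := rfl

theorem A_succ_le (k : ℕ) : A (k + 1) ≤ A k := (coreIn_le_inf _ _ _).trans inf_le_left

theorem A_succ_le_B (k : ℕ) : A (k + 1) ≤ B k := (coreIn_le_inf _ _ _).trans inf_le_right

theorem A_succ_le_M1 (k : ℕ) : A (k + 1) ≤ M1 := coreIn_le _ _ _

theorem A_le_M1 (k : ℕ) : A k ≤ M1 := by
  cases k with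
  | zero => exact le_of_eq rfl
  | succ k => exact A_succ_le_M1 k

theorem A_succ_conj_mem {k : ℕ} {g p : GE} (hg : g ∈ A (k + 1)) (hp : p ∈ M1) :
    p * g * p⁻¹ ∈ A (k + 1) := coreIn_conj_mem hg hp

theorem s3_sq_mem_M1 : s3 * s3 ∈ M1 := by
  have h : s3 ∈ PE.S := by
    show s3 ∈ (Cfsg.Agent.Lib.Helper5.ChevStruct.chevBNPair chevE8 hE8 F2).S
    rw [Cfsg.Agent.Lib.Helper5.ChevStruct.chevBNPair_S]
    exact ⟨node, node_lt, Cfsg.Agent.Lib.Helper5.ChevStruct.nGL_val chevE8 hE8 node⟩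
  have h2 : s3 * s3 ∈ PE.B := PE.sq_mem s3 h
  exact (le_sup_left : PE.B ≤ PE.parabolic JS) h2

theorem M2_map_conj : M2.map (MulAut.conj s3).toMonoidHom = M1 := by
  ext g
  unfold M2
  rw [mem_map_conj, mem_map_conj]
  have e : s3⁻¹ * (s3⁻¹ * g * s3) * s3 = (s3 * s3)⁻¹ * g * (s3 * s3) := by group
  rw [e]
  constructor
  · intro h
    have := mul_mem (mul_mem s3_sq_mem_M1 h) (inv_mem s3_sq_mem_M1)
    have e2 : s3 * s3 * ((s3 * s3)⁻¹ * g * (s3 * s3)) * (s3 * s3)⁻¹ = g := by group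
    rwa [e2] at this
  · intro h
    exact mul_mem (mul_mem (inv_mem s3_sq_mem_M1) h) s3_sq_mem_M1

/-- **Unit SYM.** conjugation by `s` exchanges the two sequences -/
theorem SYM (k : ℕ) : B k = (A k).map (MulAut.conj s3).toMonoidHom ∧
    A k = (B k).map (MulAut.conj s3).toMonoidHom := by
  induction k with
  | zero => exact ⟨rfl, M2_map_conj.symm⟩
  | succ k ih =>
    constructor
    · rw [A_succ', B_succ', coreIn_map_conj, ← ih.1, ← ih.2]
      show coreIn M2 (A k) (B k) = coreIn M2 (B k) (A k)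
      unfold coreIn
      rw [inf_comm]
    · rw [A_succ', B_succ', coreIn_map_conj, ← ih.1, ← ih.2, M2_map_conj]
      unfold coreIn
      rw [inf_comm]

theorem B_eq_conj (k : ℕ) : B k = (A k).map (MulAut.conj s3).toMonoidHom := (SYM k).1

/-- an element of `B k` is `s a s⁻¹` with `a ∈ A k` -/
theorem conj_mem_A_of_mem_B {k : ℕ} {g : GE} (hg : g ∈ B k) : s3⁻¹ * g * s3 ∈ A k := by
  rw [B_eq_conj, mem_map_conj] at hg
  exact hg

end Cfsg.Agent.Lib.Helper8.E8Core
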