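import Cfsg.Agent.Lib.Helper8.ThLoc1
import Cfsg.Agent.Lib.Helper7.InducedFunctor1
import Cfsg.Agent.Lib.Helper7.WellPlaced

/-! The abelian-version Thompson subgroup `J_a`: functoriality and monotonicity. -/
set_option autoImplicit false
universe u
open Cfsg
open scoped commutatorElement Pointwise

namespace Cfsg.Agent.Lib.Helper8.ThLoc

open Cfsg.Agent.Lib.Helper1 Cfsg.Agent.Lib.Helper1.ZJ Cfsg.Agent.Lib.Helper1.GlaubermanRepl

variable {Y : Type u} [Group Y]

theorem isCharPFunctor_thompsonSubgroupA (p : ℕ) [Fact p.Prime] :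
    IsCharPFunctor.{u} p (fun (Q : Type u) [Group Q] => thompsonSubgroupA Q) := by
  refine ⟨?_, ?_⟩
  · intro Q _ _ hQ hnt h0
    have h1 := Cfsg.Agent.Lib.Helper1.NPC.ZJA_ne_bot hQ
    apply h1
    unfold Cfsg.Agent.Lib.Helper1.NPC.ZJA
    have h0' : thompsonSubgroupA Q = ⊥ := h0
    rw [h0']; exact bot_inf_eq _
  · intro Q R _ _ _ _ φ
    exact Cfsg.Agent.Lib.Helper1.NPC.thompsonSubgroupA_map_equiv φ

theorem thompsonSubgroupAOf_normal [Finite Y] {p : ℕ} [Fact p.Prime] (C : Subgroup Y)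
    [hCn : C.Normal] (hCp : IsPGroup p C) : (thompsonSubgroupAOf C).Normal := by
  have h1 := Cfsg.Agent.Lib.Helper7.normalizer_le_normalizer_functor
    (Cfsg.Agent.Lib.Helper7.isConjugacyFunctor_inducedFunctor (X := Y)
      (isCharPFunctor_thompsonSubgroupA p)) hCp
  rw [Subgroup.normalizer_eq_top_iff.mpr hCn, top_le_iff] at h1
  exact Subgroup.normalizer_eq_top_iff.mp h1

theorem thompsonSubgroupAOf_le (T : Subgroup Y) : thompsonSubgroupAOf T ≤ T := by
  rw [thompsonSubgroupAOf_eq]; exact sSup_FPr_le _ _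

theorem thompsonSubgroupAOf_eq_of_le [Finite Y] {R T : Subgroup Y} (hRT : R ≤ T)
    (hJR : thompsonSubgroupAOf T ≤ R) : thompsonSubgroupAOf R = thompsonSubgroupAOf T := by
  rw [thompsonSubgroupAOf_eq] at hJR
  rw [thompsonSubgroupAOf_eq, thompsonSubgroupAOf_eq]
  obtain ⟨A₀, hA₀⟩ := (zjFamily_A (G := Y) 2).nonempty T
  have hA₀R : A₀ ≤ R := (le_sSup hA₀).trans hJR
  have hmono := (zjFamily_A (G := Y) 2).mono hRT hA₀ hA₀R
  congr 1
  ext A
  rw [hmono A]
  constructor
  · exact fun h => h.1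
  · intro h; exact ⟨h, (le_sSup h).trans hJR⟩

/-- some abelian subgroup of largest order of `T` lies outside `P₀` when `J_a(T)` does. -/
theorem exists_mem_not_le {T P₀ : Subgroup Y} (h : ¬ thompsonSubgroupAOf T ≤ P₀) :
    ∃ A ∈ FPr (PrA (G := Y)) T, ¬ A ≤ P₀ := by
  by_contra hno
  push Not at hno
  apply h
  rw [thompsonSubgroupAOf_eq]
  exact sSup_le hno

theorem center_le_of_mem_FPr [Finite Y] {T A : Subgroup Y} (hA : A ∈ FPr (PrA (G := Y)) T) :
    T ⊓ Subgroup.centralizer (T : Set Y) ≤ A := by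
  intro z hz
  have h0 : ∀ a ∈ A, a * z = z * a := by
    intro a ha
    exact (Subgroup.mem_centralizer_iff.mp hz.2 a (hA.1 ha))
  have h1 : ∀ x ∈ (A : Set Y) ∪ {z}, ∀ y ∈ (A : Set Y) ∪ {z}, x * y = y * x := by
    rintro x (hx | hx) y (hy | hy)
    · exact hA.2.1 x hx y hy
    · rw [Set.mem_singleton_iff] at hy
      rw [hy]; exact h0 x hx
    · rw [Set.mem_singleton_iff] at hx
      rw [hx]; exact (h0 y hy).symm
    · rw [Set.mem_singleton_iff] at hx hy
      rw [hx, hy]
  have hcl : Subgroup.closure ((A : Set Y) ∪ {z}) ≤ T := by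
    rw [Subgroup.closure_le]
    rintro t (ht | ht)
    · exact hA.1 ht
    · rw [Set.mem_singleton_iff] at ht
      rw [ht]; exact hz.1
  have hPr : PrA (Subgroup.closure ((A : Set Y) ∪ {z})) := by
    have := Subgroup.isMulCommutative_closure h1
    intro x hx y hy
    have h2 := mul_comm' (⟨x, hx⟩ : Subgroup.closure ((A : Set Y) ∪ {z})) ⟨y, hy⟩
    exact congrArg Subtype.val h2
  have h2 := hA.2.2 _ hcl hPr
  have h3 : A ≤ Subgroup.closure ((A : Set Y) ∪ {z}) := by
    intro a ha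
    exact Subgroup.subset_closure (Or.inl ha)
  have h4 := Subgroup.eq_of_le_of_card_ge h3 h2
  rw [h4]
  exact Subgroup.subset_closure (Or.inr rfl)

theorem center_le_centerThompsonAOf [Finite Y] (T : Subgroup Y) :
    T ⊓ Subgroup.centralizer (T : Set Y) ≤ centerThompsonAOf T := by
  rw [centerThompsonAOf_eq]
  apply le_sInf
  intro A hA
  exact center_le_of_mem_FPr hA

end Cfsg.Agent.Lib.Helper8.ThLoc
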