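import Mathlib
import Cfsg.Prelude.Def_Local
import Cfsg.Prelude.Def_PLocal
import Cfsg.Agent.Lib.Helper1.NPC5
import Cfsg.Agent.Lib.Helper8.ThLoc2

/-! Farm FG19 (S4411), unit Tr: `Z(P)` and `J_a(P)` under `M.subtype`, their normalizers,
nontriviality. Statements verbatim from `Lib/Helper7/FG19Stubs.lean`. -/

set_option autoImplicit false
set_option linter.unusedSectionVars false
set_option linter.unusedVariables false
universe u

namespace Cfsg.Agent.Lib.Helper8.FG19

open Cfsg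

variable {p : ℕ} [Fact p.Prime]

theorem map_Z {G : Type*} [Group G] (M : Subgroup G) (P : Subgroup ↥M) :
    (P ⊓ Subgroup.centralizer (P : Set ↥M)).map M.subtype =
      P.map M.subtype ⊓ Subgroup.centralizer ((P.map M.subtype : Subgroup G) : Set G) := by
  ext x
  rw [Subgroup.mem_map, Subgroup.mem_inf, Subgroup.mem_map]
  constructor
  · rintro ⟨y, hy, rfl⟩
    rw [Subgroup.mem_inf] at hy
    obtain ⟨hyP, hyC⟩ := hy
    refine ⟨⟨y, hyP, rfl⟩, ?_⟩
    rw [Subgroup.mem_centralizer_iff]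
    intro w hw
    obtain ⟨z, hz, rfl⟩ := Subgroup.mem_map.mp hw
    have h := Subgroup.mem_centralizer_iff.mp hyC z hz
    have h2 := congrArg (fun t : ↥M => (t : G)) h
    simpa using h2
  · rintro ⟨⟨y, hyP, rfl⟩, hC⟩
    refine ⟨y, ?_, rfl⟩
    rw [Subgroup.mem_inf]
    refine ⟨hyP, ?_⟩
    rw [Subgroup.mem_centralizer_iff]
    intro z hz
    have h := Subgroup.mem_centralizer_iff.mp hC (M.subtype z) (Subgroup.mem_map.mpr ⟨z, hz, rfl⟩)
    apply Subtype.ext
    simpa using h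

theorem map_J {G : Type u} [Group G] [Finite G] (M : Subgroup G) (P : Subgroup ↥M)
    (hP : IsPGroup p P) :
    (thompsonSubgroupAOf P).map M.subtype = thompsonSubgroupAOf (P.map M.subtype) := by
  unfold thompsonSubgroupAOf
  have hinj : Function.Injective M.subtype := M.subtype_injective
  let φ : ↥P ≃* ↥(P.map M.subtype) := P.equivMapOfInjective M.subtype hinj
  rw [← Cfsg.Agent.Lib.Helper1.NPC.thompsonSubgroupA_map_equiv φ, Subgroup.map_map, Subgroup.map_map]
  congr 1

theorem normalizer_le_Z {G : Type*} [Group G] (P : Subgroup G) :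
    Subgroup.normalizer (P : Set G) ≤
      Subgroup.normalizer ((P ⊓ Subgroup.centralizer (P : Set G) : Subgroup G) : Set G) := by
  intro g hg
  rw [Subgroup.mem_normalizer_iff] at hg ⊢
  intro z
  rw [Subgroup.mem_inf, Subgroup.mem_inf]
  constructor
  · rintro ⟨hzP, hzC⟩
    refine ⟨(hg z).mp hzP, ?_⟩
    rw [Subgroup.mem_centralizer_iff] at hzC ⊢
    intro y hy
    have hy' : g⁻¹ * y * g ∈ P := by
      apply (hg (g⁻¹ * y * g)).mpr
      have : g * (g⁻¹ * y * g) * g⁻¹ = y := by group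
      rw [this]; exact hy
    have h := hzC _ hy'
    calc y * (g * z * g⁻¹) = g * ((g⁻¹ * y * g) * z) * g⁻¹ := by group
      _ = g * (z * (g⁻¹ * y * g)) * g⁻¹ := by rw [h]
      _ = g * z * g⁻¹ * y := by group
  · rintro ⟨hzP, hzC⟩
    refine ⟨(hg z).mpr hzP, ?_⟩
    rw [Subgroup.mem_centralizer_iff] at hzC ⊢
    intro y hy
    have hy' : g * y * g⁻¹ ∈ P := (hg y).mp hy
    have h := hzC _ hy'
    calc y * z = g⁻¹ * ((g * y * g⁻¹) * (g * z * g⁻¹)) * g := by group
      _ = g⁻¹ * ((g * z * g⁻¹) * (g * y * g⁻¹)) * g := by rw [h]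
      _ = z * y := by group

theorem normalizer_le_J {G : Type u} [Group G] [Finite G] (P : Subgroup G) (hP : IsPGroup p P) :
    Subgroup.normalizer (P : Set G) ≤ Subgroup.normalizer ((thompsonSubgroupAOf P : Subgroup G) : Set G) :=
  Cfsg.Agent.Lib.Helper7.normalizer_le_normalizer_functor
    (Cfsg.Agent.Lib.Helper7.isConjugacyFunctor_inducedFunctor (X := G)
      (Cfsg.Agent.Lib.Helper8.ThLoc.isCharPFunctor_thompsonSubgroupA p)) hP

theorem Z_ne_bot {G : Type*} [Group G] [Finite G] (P : Subgroup G) (hP : IsPGroup p P)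
    (hne : P ≠ ⊥) : P ⊓ Subgroup.centralizer (P : Set G) ≠ ⊥ := by
  haveI : Nontrivial ↥P := (Subgroup.nontrivial_iff_ne_bot P).mpr hne
  haveI := hP.center_nontrivial
  obtain ⟨z, hz⟩ := exists_ne (1 : ↥(Subgroup.center ↥P))
  intro h
  have hmem : ((z : ↥P) : G) ∈ P ⊓ Subgroup.centralizer (P : Set G) := by
    rw [Subgroup.mem_inf]
    refine ⟨(z : ↥P).2, ?_⟩
    rw [Subgroup.mem_centralizer_iff]
    intro y hy
    have h1 := Subgroup.mem_center_iff.mp z.2 ⟨y, hy⟩
    have h2 := congrArg (fun t : ↥P => (t : G)) h1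
    simpa using h2
  rw [h, Subgroup.mem_bot] at hmem
  apply hz
  apply Subtype.ext
  apply Subtype.ext
  simpa using hmem

theorem J_ne_bot {G : Type u} [Group G] [Finite G] (P : Subgroup G) (hP : IsPGroup p P)
    (hne : P ≠ ⊥) : thompsonSubgroupAOf P ≠ ⊥ := by
  haveI : Nontrivial ↥P := (Subgroup.nontrivial_iff_ne_bot P).mpr hne
  have h1 := Cfsg.Agent.Lib.Helper1.NPC.ZJA_ne_bot hP
  intro h
  apply h1
  unfold Cfsg.Agent.Lib.Helper1.NPC.ZJA
  have h0 : thompsonSubgroupA ↥P = ⊥ := by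
    unfold thompsonSubgroupAOf at h
    exact (Subgroup.map_eq_bot_iff_of_injective _ P.subtype_injective).mp h
  rw [h0]; exact bot_inf_eq _

end Cfsg.Agent.Lib.Helper8.FG19
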