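import Cfsg.Agent.Lib.Helper8.ThLoc4

/-! Thompson's normal `p`-complement theorem for the abelian version `J_a` of the Thompson subgroup,
for odd `p` or `S₄`-free groups. -/
set_option autoImplicit false
universe u
open Cfsg
open scoped commutatorElement Pointwise

namespace Cfsg.Agent.Lib.Helper8.ThLoc

open Cfsg.Agent.Lib.Helper1 Cfsg.Agent.Lib.Helper1.ThP Cfsg.Agent.Lib.Helper7

theorem maxSylowPair_thompsonA {p : ℕ} [hp : Fact p.Prime]
    (Y : Type u) [Group Y] [Finite Y] (h : p ≠ 2 ∨ ¬ Involves (Equiv.Perm (Fin 4)) Y) :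
    MaxSylowPair (fun (Q : Type u) [Group Q] => thompsonSubgroupA Q)
      (fun (Q : Type u) [Group Q] => Subgroup.center Q) p Y := by
  intro hcon hnil T hTp hTidx hco
  have key : (thompsonSubgroupAOf T).Normal ∨
      T ⊓ Subgroup.centralizer (T : Set Y) ≤ Subgroup.center Y := by
    by_cases hp2 : p = 2
    · exact thompsonA_local_two hp2 (h.resolve_left (fun hne => hne hp2)) hcon hnil T hTp hTidx hco
    · exact thompsonA_local_odd hp2 hcon hnil T hTp hTidx hco
  unfold inducedFunctor
  show (Subgroup.map T.subtype (thompsonSubgroupA ↥T)).Normal ∨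
    Subgroup.map T.subtype (Subgroup.center ↥T) ≤ Subgroup.center Y
  rw [Cfsg.Agent.Lib.Helper1.Puig.center_map_subtype]
  exact key

theorem thompsonA_npc {G : Type u} [Group G] [Finite G] {p : ℕ} [hp : Fact p.Prime]
    (P : Sylow p G) (h : p ≠ 2 ∨ ¬ Involves (Equiv.Perm (Fin 4)) G)
    (h2 : Cfsg.HasNormalPComplement p (Subgroup.centralizer
      (((P : Subgroup G) ⊓ Subgroup.centralizer ((P : Subgroup G) : Set G) : Subgroup G) : Set G)))
    (h1 : Cfsg.HasNormalPComplement p (Subgroup.normalizer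
      (Cfsg.thompsonSubgroupAOf (P : Subgroup G) : Set G))) :
    Cfsg.HasNormalPComplement p G := by
  rw [← pn_iff] at h1 h2
  rw [← pn_top_iff]
  apply Cfsg.Agent.Lib.Helper8.ThPC.pn_top_of_maxSylowPair_class
    (isCharPFunctor_thompsonSubgroupA p) (isCharPFunctor_center p)
    (fun (X : Type u) [Group X] => p ≠ 2 ∨ ¬ Involves (Equiv.Perm (Fin 4)) X)
    (fun X _ M hX => hX.imp id (fun hn hinv =>
      hn (Cfsg.Agent.Lib.Helper2.Inv.involves_of_subgroup M hinv)))
    (fun X _ N _ hX => hX.imp id (fun hn hinv =>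
      hn (Cfsg.Agent.Lib.Helper2.Inv.involves_of_quotient N hinv)))
    (fun Y _ _ hY => maxSylowPair_thompsonA Y hY) (Nat.card G) G rfl h
  intro S
  obtain ⟨g, rfl⟩ := MulAction.exists_smul_eq G P S
  have hWc₁ : IsConjugacyFunctor p (inducedFunctor (G := G)
      (fun (Q : Type u) [Group Q] => thompsonSubgroupA Q)) :=
    isConjugacyFunctor_inducedFunctor (isCharPFunctor_thompsonSubgroupA p)
  have hWc₂ : IsConjugacyFunctor p (inducedFunctor (G := G)
      (fun (Q : Type u) [Group Q] => Subgroup.center Q)) :=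
    isConjugacyFunctor_inducedFunctor (isCharPFunctor_center p)
  have e1 : inducedFunctor (G := G) (fun (Q : Type u) [Group Q] => thompsonSubgroupA Q)
      (P : Subgroup G) = Cfsg.thompsonSubgroupAOf (P : Subgroup G) := rfl
  have e2 : inducedFunctor (G := G) (fun (Q : Type u) [Group Q] => Subgroup.center Q)
      (P : Subgroup G) = (P : Subgroup G) ⊓ Subgroup.centralizer ((P : Subgroup G) : Set G) := by
    unfold inducedFunctor
    exact Cfsg.Agent.Lib.Helper1.Puig.center_map_subtype _
  rw [← e1] at h1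
  rw [← e2] at h2
  constructor
  · rw [sylow_smul_coe_eq_map, (hWc₁ _ P.isPGroup').2.2 g, ← Subgroup.map_equiv_normalizer_eq]
    exact (pn_map_of_injective _ (MulAut.conj g).injective _).mpr h1
  · rw [sylow_smul_coe_eq_map, (hWc₂ _ P.isPGroup').2.2 g, centralizer_map_conj]
    exact (pn_map_of_injective _ (MulAut.conj g).injective _).mpr h2

end Cfsg.Agent.Lib.Helper8.ThLoc
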