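import Mathlib
import Cfsg.Prelude.Def_PLocal
import Cfsg.Agent.Lib.Helper1.Timmesfeld

/-! A maximizer of `|B| |C_V(B)|` among the subgroups of an abelian `p`-group can be replaced by a
quadratically acting best offender. -/
set_option autoImplicit false
universe u
open Cfsg
open scoped commutatorElement Pointwise

namespace Cfsg.Agent.Lib.Helper8.FFT

open Cfsg.Agent.Lib.Helper1

variable {G : Type u} [Group G] {p : ℕ}

/-- iterated conjugation by an element acting quadratically -/
theorem conj_pow_of_comm {a v c : G} (hc : a * v * a⁻¹ = c * v) (hac : a * c = c * a) (k : ℕ) :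
    a ^ k * v * (a ^ k)⁻¹ = c ^ k * v := by
  induction k with
  | zero => simp
  | succ k ih =>
    have hck : a * c ^ k = c ^ k * a := by
      have : Commute a c := hac
      exact (this.pow_right k)
    calc a ^ (k + 1) * v * (a ^ (k + 1))⁻¹ = a * (a ^ k * v * (a ^ k)⁻¹) * a⁻¹ := by
          rw [pow_succ']; group
      _ = a * (c ^ k * v) * a⁻¹ := by rw [ih]
      _ = (a * c ^ k) * v * a⁻¹ := by group
      _ = c ^ k * (a * v * a⁻¹) := by rw [hck]; group
      _ = c ^ k * (c * v) := by rw [hc]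
      _ = c ^ (k + 1) * v := by rw [pow_succ]; group

theorem quadratic_replacement [Finite G] [hp : Fact p.Prime] (V A : Subgroup G)
    (hV : Cfsg.IsElementaryAbelian p V)
    (hAV : A ≤ Subgroup.normalizer (V : Set G))
    (hab : ⁅A, A⁆ ≤ Subgroup.centralizer (V : Set G))
    (hApow : ∀ a ∈ A, ∃ k : ℕ, a ^ (p ^ k) ∈ Subgroup.centralizer (V : Set G))
    (hmax : ∀ B : Subgroup G, B ≤ A → offVal V B ≤ offVal V A) (hVA : ⁅V, A⁆ ≠ ⊥) :
    Cfsg.IsBestOffenderOn p V (A ⊓ Subgroup.centralizer ((⁅V, A⁆ : Subgroup G) : Set G)) ∧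
    ⁅V, A ⊓ Subgroup.centralizer ((⁅V, A⁆ : Subgroup G) : Set G)⁆ ≠ ⊥ := by
  have hVc : ∀ x ∈ V, ∀ y ∈ V, x * y = y * x := fun x hx y hy => isElementaryAbelian_comm hV hx hy
  have h := thompson_replacement_dichotomy V A hVc hAV hab hmax V le_rfl
  obtain ⟨A₀, hA₀⟩ : ∃ A₀ : Subgroup G, A₀ = A ⊓ Subgroup.centralizer ((⁅V, A⁆ : Subgroup G) : Set G) :=
    ⟨_, rfl⟩
  rw [← hA₀] at h ⊢
  have hA₀A : A₀ ≤ A := by rw [hA₀]; exact inf_le_left
  have hA₀c : A₀ ≤ Subgroup.centralizer ((⁅V, A⁆ : Subgroup G) : Set G) := by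
    rw [hA₀]; exact inf_le_right
  refine ⟨⟨?_, ?_, ?_⟩, ?_⟩
  · intro B hB
    have := hmax B (hB.trans hA₀A)
    rw [← h.1] at this
    exact this
  · exact (Subgroup.commutator_mono hA₀A hA₀A).trans hab
  · intro a ha
    rw [Subgroup.mem_centralizer_iff]
    intro v hv
    have haN : a ∈ Subgroup.normalizer (V : Set G) := hAV (hA₀A ha)
    have hcV : ⁅a, v⁆ ∈ V := commutatorElement_mem_of_mem_normalizer haN hv
    have hcVA : ⁅a, v⁆ ∈ ⁅V, A⁆ := by
      rw [Subgroup.commutator_comm]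
      exact Subgroup.commutator_mem_commutator (hA₀A ha) hv
    have hac : a * ⁅a, v⁆ = ⁅a, v⁆ * a :=
      (Subgroup.mem_centralizer_iff.mp (hA₀c ha) _ hcVA).symm
    have hconj : a * v * a⁻¹ = ⁅a, v⁆ * v := by rw [commutatorElement_def]; group
    have h1 := conj_pow_of_comm hconj hac p
    have h2 : ⁅a, v⁆ ^ p = 1 := hV.2 _ hcV
    rw [h2, one_mul] at h1
    calc v * a ^ p = (a ^ p * v * (a ^ p)⁻¹) * a ^ p := by rw [h1]
      _ = a ^ p * v := by group
  · intro hbot
    apply hVA
    have hVA₀ : V ≤ Subgroup.centralizer (A₀ : Set G) :=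
      Subgroup.commutator_eq_bot_iff_le_centralizer.mp hbot
    have hVeq : V = ⁅V, A⁆ ⊔ (V ⊓ Subgroup.centralizer (A : Set G)) := by
      rw [← h.2, inf_eq_left.mpr hVA₀]
    obtain ⟨Y, hY⟩ : ∃ Y : Subgroup G, Y = ⁅V, A⁆ := ⟨_, rfl⟩
    rw [← hY]
    have hYV : Y ≤ V := by rw [hY]; exact commutator_le_of_le_normalizer V A hAV
    apply eq_bot_of_le_commutator_of_pgroup_action V A Y (isElementaryAbelian_isPGroup hV) hAV
      hApow hYV
    have key : ∀ v ∈ Subgroup.closure (((⁅V, A⁆ : Subgroup G) : Set G) ∪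
        ((V ⊓ Subgroup.centralizer (A : Set G) : Subgroup G) : Set G)),
        v ∈ V ∧ ∀ a ∈ A, ⁅a, v⁆ ∈ ⁅Y, A⁆ := by
      intro v hv
      induction hv using Subgroup.closure_induction with
      | mem x hx =>
        rcases hx with hx | hx
        · rw [← hY] at hx
          refine ⟨hYV hx, fun a ha => ?_⟩
          rw [← commutatorElement_inv]
          exact Subgroup.inv_mem _ (Subgroup.commutator_mem_commutator hx ha)
        · refine ⟨(Subgroup.mem_inf.mp hx).1, fun a ha => ?_⟩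
          have : ⁅a, x⁆ = 1 := by
            rw [commutatorElement_eq_one_iff_mul_comm]
            exact (Subgroup.mem_centralizer_iff.mp (Subgroup.mem_inf.mp hx).2 a ha)
          rw [this]
          exact Subgroup.one_mem _
      | one =>
        refine ⟨V.one_mem, fun a _ => ?_⟩
        rw [commutatorElement_one_right]
        exact Subgroup.one_mem _
      | mul x y _ _ ihx ihy =>
        refine ⟨V.mul_mem ihx.1 ihy.1, fun a ha => ?_⟩
        rw [commutatorElement_mul_right_of_comm hVc (hAV ha) ihx.1 ihy.1]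
        exact Subgroup.mul_mem _ (ihx.2 a ha) (ihy.2 a ha)
      | inv x _ ih =>
        refine ⟨V.inv_mem ih.1, fun a ha => ?_⟩
        have h1 := commutatorElement_mul_right_of_comm hVc (hAV ha) ih.1 (V.inv_mem ih.1)
        rw [mul_inv_cancel, commutatorElement_one_right] at h1
        have h2 : ⁅a, x⁻¹⁆ = ⁅a, x⁆⁻¹ := (eq_inv_of_mul_eq_one_right h1.symm)
        rw [h2]
        exact Subgroup.inv_mem _ (ih.2 a ha)
    rw [← Subgroup.sup_eq_closure, ← hVeq] at key
    nth_rewrite 1 [hY]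
    rw [Subgroup.commutator_le]
    intro v hv a ha
    rw [← commutatorElement_inv]
    exact Subgroup.inv_mem _ ((key v hv).2 a ha)

end Cfsg.Agent.Lib.Helper8.FFT
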