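import Cfsg.Agent.Lib.Helper8.WC1
import Cfsg.Agent.Lib.Helper8.FFT1
import Cfsg.Agent.Lib.Helper1.ThA4

/-! Thompson replacement inside the family of abelian subgroups of largest order: a member not
centralizing an abelian normal subgroup `V` can be replaced by one acting quadratically. -/
set_option autoImplicit false
universe u
open Cfsg
open scoped commutatorElement Pointwise

namespace Cfsg.Agent.Lib.Helper8.WC

open Cfsg.Agent.Lib.Helper1 Cfsg.Agent.Lib.Helper1.ZJ Cfsg.Agent.Lib.Helper8.ThLoc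
  Cfsg.Agent.Lib.Helper1.ThA

variable {G : Type u} [Group G]

/-- if `V = [V, A] C_V(A)` for a `p`-group `A` acting on the abelian `p`-group `V`, then `A`
centralizes `V` -/
theorem commutator_eq_bot_of_eq_sup [Finite G] {p : ℕ} [hp : Fact p.Prime] (V A : Subgroup G)
    (hVc : ∀ x ∈ V, ∀ y ∈ V, x * y = y * x) (hVp : IsPGroup p ↥V)
    (hAV : A ≤ Subgroup.normalizer (V : Set G))
    (hApow : ∀ a ∈ A, ∃ k : ℕ, a ^ (p ^ k) ∈ Subgroup.centralizer (V : Set G))
    (hVeq : V = ⁅V, A⁆ ⊔ (V ⊓ Subgroup.centralizer (A : Set G))) : ⁅V, A⁆ = ⊥ := by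
  obtain ⟨Y, hY⟩ : ∃ Y : Subgroup G, Y = ⁅V, A⁆ := ⟨_, rfl⟩
  rw [← hY]
  have hYV : Y ≤ V := by rw [hY]; exact commutator_le_of_le_normalizer V A hAV
  apply eq_bot_of_le_commutator_of_pgroup_action V A Y hVp hAV hApow hYV
  have key : ∀ v ∈ Subgroup.closure (((⁅V, A⁆ : Subgroup G) : Set G) ∪
      ((V ⊓ Subgroup.centralizer (A : Set G) : Subgroup G) : Set G)),
      v ∈ V ∧ ∀ a ∈ A, ⁅a, v⁆ ∈ ⁅Y, A⁆ := by
    intro v hv
    induction hv using Subgroup.closure_induction with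
    | mem x hx =>
      rcases hx with hx | hx
      · rw [← hY] at hx
        refine ⟨hYV hx, fun a ha => ?_⟩
        rw [← commutatorElement_inv]
        exact Subgroup.inv_mem _ (Subgroup.commutator_mem_commutator hx ha)
      · refine ⟨(Subgroup.mem_inf.mp hx).1, fun a ha => ?_⟩
        have : ⁅a, x⁆ = 1 := by
          rw [commutatorElement_eq_one_iff_mul_comm]
          exact (Subgroup.mem_centralizer_iff.mp (Subgroup.mem_inf.mp hx).2 a ha)
        rw [this]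
        exact Subgroup.one_mem _
    | one =>
      refine ⟨V.one_mem, fun a _ => ?_⟩
      rw [commutatorElement_one_right]
      exact Subgroup.one_mem _
    | mul x y _ _ ihx ihy =>
      refine ⟨V.mul_mem ihx.1 ihy.1, fun a ha => ?_⟩
      rw [commutatorElement_mul_right_of_comm hVc (hAV ha) ihx.1 ihy.1]
      exact Subgroup.mul_mem _ (ihx.2 a ha) (ihy.2 a ha)
    | inv x _ ih =>
      refine ⟨V.inv_mem ih.1, fun a ha => ?_⟩
      have h1 := commutatorElement_mul_right_of_comm hVc (hAV ha) ih.1 (V.inv_mem ih.1)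
      rw [mul_inv_cancel, commutatorElement_one_right] at h1
      have h2 : ⁅a, x⁻¹⁆ = ⁅a, x⁆⁻¹ := (eq_inv_of_mul_eq_one_right h1.symm)
      rw [h2]
      exact Subgroup.inv_mem _ (ih.2 a ha)
  rw [← Subgroup.sup_eq_closure, ← hVeq] at key
  nth_rewrite 1 [hY]
  rw [Subgroup.commutator_le]
  intro v hv a ha
  rw [← commutatorElement_inv]
  exact Subgroup.inv_mem _ ((key v hv).2 a ha)

/-- quadratic action of `A` on `V`, elementwise -/
def QuadOn (V A : Subgroup G) : Prop :=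
  ∀ a ∈ A, ∀ b ∈ A, ∀ v ∈ V, b * (a * v * a⁻¹ * v⁻¹) * b⁻¹ = a * v * a⁻¹ * v⁻¹

/-- `B C_V(B)` acts quadratically on `V` when `B` centralizes a subgroup `U` containing `[V, B]` -/
theorem quadOn_sup_of_le {V B U : Subgroup G} (hVc : ∀ x ∈ V, ∀ y ∈ V, x * y = y * x)
    (hUV : U ≤ V) (hBU : ∀ b ∈ B, ∀ v ∈ V, b * v * b⁻¹ * v⁻¹ ∈ U)
    (hBc : ∀ b ∈ B, ∀ u ∈ U, b * u = u * b) :
    QuadOn V (B ⊔ (V ⊓ Subgroup.centralizer (B : Set G))) := by
  let H : Subgroup G :=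
    { carrier := {g | (∀ u ∈ U, g * u = u * g) ∧ ∀ v ∈ V, g * v * g⁻¹ * v⁻¹ ∈ U}
      mul_mem' := by
        rintro g h ⟨hg1, hg2⟩ ⟨hh1, hh2⟩
        refine ⟨fun u hu => ?_, fun v hv => ?_⟩
        · rw [mul_assoc, hh1 u hu, ← mul_assoc, hg1 u hu, mul_assoc]
        · have e : g * h * v * (g * h)⁻¹ * v⁻¹ =
              g * (h * v * h⁻¹ * v⁻¹) * g⁻¹ * (g * v * g⁻¹ * v⁻¹) := by group
          rw [e]
          have h3 : g * (h * v * h⁻¹ * v⁻¹) * g⁻¹ = h * v * h⁻¹ * v⁻¹ := by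
            rw [hg1 _ (hh2 v hv)]; group
          rw [h3]
          exact U.mul_mem (hh2 v hv) (hg2 v hv)
      one_mem' := ⟨fun u _ => by simp, fun v _ => by simp [U.one_mem]⟩
      inv_mem' := by
        rintro g ⟨hg1, hg2⟩
        refine ⟨fun u hu => ?_, fun v hv => ?_⟩
        · have := hg1 u hu
          calc g⁻¹ * u = g⁻¹ * (u * g) * g⁻¹ := by group
            _ = g⁻¹ * (g * u) * g⁻¹ := by rw [this]
            _ = u * g⁻¹ := by group
        · have h1 := hg2 v hv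
          have h2 : g⁻¹ * (g * v * g⁻¹ * v⁻¹) * g = g * v * g⁻¹ * v⁻¹ := by
            calc g⁻¹ * (g * v * g⁻¹ * v⁻¹) * g = g⁻¹ * ((g * v * g⁻¹ * v⁻¹) * g) := by group
              _ = g⁻¹ * (g * (g * v * g⁻¹ * v⁻¹)) := by rw [hg1 _ h1]
              _ = g * v * g⁻¹ * v⁻¹ := by group
          have e : g⁻¹ * v * g⁻¹⁻¹ * v⁻¹ = (g⁻¹ * (g * v * g⁻¹ * v⁻¹) * g)⁻¹ := by group
          rw [e, h2]
          exact U.inv_mem h1 }
  have hle : B ⊔ (V ⊓ Subgroup.centralizer (B : Set G)) ≤ H := by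
    apply sup_le
    · intro b hb
      exact ⟨hBc b hb, hBU b hb⟩
    · rintro k ⟨hkV, -⟩
      refine ⟨fun u hu => hVc k hkV u (hUV hu), fun v hv => ?_⟩
      have : k * v * k⁻¹ * v⁻¹ = 1 := by rw [hVc k hkV v hv]; group
      rw [this]; exact U.one_mem
  intro a ha b hb v hv
  have h1 := (hle ha).2 v hv
  have h2 := (hle hb).1 _ h1
  rw [h2]; group

theorem pow_mem_centralizer_of_isPGroup {p : ℕ} {S V : Subgroup G} (hS : IsPGroup p ↥S) :
    ∀ a ∈ S, ∃ k : ℕ, a ^ (p ^ k) ∈ Subgroup.centralizer (V : Set G) := by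
  intro a ha
  obtain ⟨k, hk⟩ := hS ⟨a, ha⟩
  refine ⟨k, ?_⟩
  have h1 : a ^ p ^ k = 1 := by simpa using congrArg Subtype.val hk
  rw [h1]; exact Subgroup.one_mem _

/-- Thompson replacement inside the family of abelian subgroups of largest order -/
theorem exists_quadratic_mem_FPr [Finite G] {p : ℕ} [hp : Fact p.Prime] {S V A : Subgroup G}
    (hS : IsPGroup p ↥S) (hVS : V ≤ S) (hVc : ∀ x ∈ V, ∀ y ∈ V, x * y = y * x)
    (hSV : S ≤ Subgroup.normalizer (V : Set G)) (hA : A ∈ FPr (PrA (G := G)) S)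
    (hAV : ¬ A ≤ Subgroup.centralizer (V : Set G)) :
    ∃ A' ∈ FPr (PrA (G := G)) S, ¬ A' ≤ Subgroup.centralizer (V : Set G) ∧ QuadOn V A' ∧
      V ⊓ A ≤ A' := by
  obtain ⟨hAS, hAc, hAmax⟩ := hA
  have hAN : A ≤ Subgroup.normalizer (V : Set G) := hAS.trans hSV
  have hab : ⁅A, A⁆ ≤ Subgroup.centralizer (V : Set G) := by
    rw [Subgroup.commutator_le]
    intro a ha b hb
    have : ⁅a, b⁆ = 1 := by
      rw [commutatorElement_eq_one_iff_mul_comm]; exact hAc a ha b hb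
    rw [this]; exact Subgroup.one_mem _
  have hmax := offVal_le_of_mem_FPr (T := S) (A := A) (W := V) ⟨hAS, hAc, hAmax⟩ hVS hVc
  obtain ⟨d1, d2⟩ := thompson_replacement_dichotomy V A hVc hAN hab hmax V le_rfl
  obtain ⟨A₁, hA₁⟩ : ∃ A₁ : Subgroup G,
      A₁ = A ⊓ Subgroup.centralizer ((⁅V, A⁆ : Subgroup G) : Set G) := ⟨_, rfl⟩
  rw [← hA₁] at d1 d2
  obtain ⟨K, hK⟩ : ∃ K : Subgroup G, K = V ⊓ Subgroup.centralizer (A₁ : Set G) := ⟨_, rfl⟩
  have hA₁A : A₁ ≤ A := by rw [hA₁]; exact inf_le_left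
  have hPrA₁ : PrA A₁ := fun x hx y hy => hAc x (hA₁A hx) y (hA₁A hy)
  have hKV : K ≤ V := by rw [hK]; exact inf_le_left
  have hPrK : PrA K := fun x hx y hy => hVc x (hKV hx) y (hKV hy)
  have hKc : K ≤ Subgroup.centralizer (A₁ : Set G) := by rw [hK]; exact inf_le_right
  have hPrA' : PrA (A₁ ⊔ K) := prA_sup hPrA₁ hPrK hKc
  have hA'S : A₁ ⊔ K ≤ S := sup_le (hA₁A.trans hAS) (hKV.trans hVS)
  have hcard : Nat.card ↥A ≤ Nat.card ↥(A₁ ⊔ K : Subgroup G) := by
    have h1 := card_mul_card_le_card_sup_mul_card_inf A₁ K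
    unfold offVal at d1
    rw [← hK] at d1
    have h2 : A₁ ⊓ K ≤ V ⊓ Subgroup.centralizer (A : Set G) := by
      intro x hx
      refine ⟨hKV hx.2, ?_⟩
      show x ∈ Subgroup.centralizer (A : Set G)
      rw [Subgroup.mem_centralizer_iff]
      intro a ha
      exact hAc a ha x (hA₁A hx.1)
    have h3 := Subgroup.card_le_of_le h2
    have h4 : 0 < Nat.card ↥(V ⊓ Subgroup.centralizer (A : Set G)) := Nat.card_pos
    have h5 : Nat.card ↥A * Nat.card ↥(V ⊓ Subgroup.centralizer (A : Set G)) ≤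
        Nat.card ↥(A₁ ⊔ K : Subgroup G) * Nat.card ↥(V ⊓ Subgroup.centralizer (A : Set G)) := by
      calc Nat.card ↥A * Nat.card ↥(V ⊓ Subgroup.centralizer (A : Set G))
          = Nat.card ↥A₁ * Nat.card ↥K := d1.symm
        _ ≤ Nat.card ↥(A₁ ⊔ K : Subgroup G) * Nat.card ↥(A₁ ⊓ K : Subgroup G) := h1
        _ ≤ Nat.card ↥(A₁ ⊔ K : Subgroup G) *
            Nat.card ↥(V ⊓ Subgroup.centralizer (A : Set G)) := Nat.mul_le_mul_left _ h3
    exact Nat.le_of_mul_le_mul_right h5 h4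
  refine ⟨A₁ ⊔ K, ⟨hA'S, hPrA', fun B hB hPr => (hAmax B hB hPr).trans hcard⟩, ?_, ?_, ?_⟩
  · intro hle
    apply hAV
    have h1 : A₁ ≤ Subgroup.centralizer (V : Set G) := le_sup_left.trans hle
    have h2 : V ≤ Subgroup.centralizer (A₁ : Set G) := Subgroup.le_centralizer_iff.1 h1
    have h3 : V = ⁅V, A⁆ ⊔ (V ⊓ Subgroup.centralizer (A : Set G)) := by
      rw [← d2, inf_eq_left.mpr h2]
    have h4 := commutator_eq_bot_of_eq_sup V A hVc (hS.to_le hVS) hAN
      (fun a ha => pow_mem_centralizer_of_isPGroup hS a (hAS ha)) h3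
    exact Subgroup.le_centralizer_iff.1 (Subgroup.commutator_eq_bot_iff_le_centralizer.mp h4)
  · rw [hK]
    apply quadOn_sup_of_le hVc (U := ⁅V, A⁆) (commutator_le_of_le_normalizer V A hAN)
    · intro b hb v hv
      have h1 : ⁅b, v⁆ ∈ ⁅A, V⁆ := Subgroup.commutator_mem_commutator (hA₁A hb) hv
      rw [Subgroup.commutator_comm] at h1
      rw [commutatorElement_def] at h1
      exact h1
    · intro b hb u hu
      rw [hA₁] at hb
      exact (Subgroup.mem_centralizer_iff.mp hb.2 u hu).symm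
  · intro x hx
    apply Subgroup.mem_sup_right
    rw [hK]
    refine ⟨hx.1, ?_⟩
    show x ∈ Subgroup.centralizer (A₁ : Set G)
    rw [Subgroup.mem_centralizer_iff]
    intro a ha
    exact hAc a (hA₁A ha) x hx.2

end Cfsg.Agent.Lib.Helper8.WC
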