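import Cfsg.Agent.Lib.Helper8.WC2
import Cfsg.Agent.Lib.Helper8.WC4
import Cfsg.Agent.Lib.Helper1.ZJ2
import Cfsg.Agent.Lib.Helper1.ComplementSystem
import Cfsg.Agent.Lib.Helper7.PCore

/-! Pieces of the minimal counterexample analysis for the weak closure theorem. -/
set_option autoImplicit false
universe u
open Cfsg

namespace Cfsg.Agent.Lib.Helper8.WC

open Cfsg.Agent.Lib.Helper1 Cfsg.Agent.Lib.Helper1.ZJ Cfsg.Agent.Lib.Helper8.ThLoc

variable {G : Type u} [Group G] [Finite G] {p : ℕ} [hp : Fact p.Prime]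

/-- Frattini argument for `S ∩ K`, `K` normal -/
theorem frattini_inf_normal (S : Sylow p G) (K : Subgroup G) [hKn : K.Normal] :
    Subgroup.normalizer ((((S : Subgroup G) ⊓ K : Subgroup G)) : Set G) ⊔ K = ⊤ := by
  obtain ⟨R, hR⟩ : ∃ R, R = (S : Subgroup G) ⊓ K := ⟨_, rfl⟩
  rw [← hR]
  have hRK : R ≤ K := hR ▸ inf_le_right
  have hRp : IsPGroup p R := S.2.to_le (hR ▸ inf_le_left)
  have hRp' : IsPGroup p (R.subgroupOf K) := hRp.comap_subtype
  have hidx : ¬ p ∣ (R.subgroupOf K).index := by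
    change ¬ p ∣ R.relIndex K
    rw [hR, Subgroup.inf_relIndex_right]
    intro h
    exact S.not_dvd_index (h.trans (relIndex_dvd_index_of_normal_right _ K))
  have hfr := Sylow.normalizer_sup_eq_top (hRp'.toSylow hidx)
  have e1 : ((hRp'.toSylow hidx : Sylow p K) : Subgroup K) = R.subgroupOf K := rfl
  rw [e1, Subgroup.map_subgroupOf_eq_of_le hRK] at hfr
  exact hfr

theorem normal_le_sylow (S : Sylow p G) {D : Subgroup G} (hDn : D.Normal) (hDp : IsPGroup p ↥D) :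
    D ≤ S :=
  (Cfsg.Agent.Lib.Helper7.le_pCore hDn hDp).trans (Cfsg.Agent.Lib.Helper7.pCore_le_sylow S)

/-- abelian `p`-subgroups are no larger than the abelian subgroups of largest order of a Sylow
`p`-subgroup -/
theorem card_le_of_prA_of_isPGroup (S : Sylow p G) {A : Subgroup G}
    (hA : A ∈ FPr (PrA (G := G)) (S : Subgroup G)) {B : Subgroup G} (hBp : IsPGroup p ↥B)
    (hBc : PrA B) : Nat.card ↥B ≤ Nat.card ↥A := by
  obtain ⟨Q, hQ⟩ := hBp.exists_le_sylow
  obtain ⟨k, hk⟩ := MulAction.exists_smul_eq G S Q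
  have hmap : B.map (MulAut.conj k⁻¹).toMonoidHom ≤ S := by
    rintro _ ⟨b, hb, rfl⟩
    have h1 : b ∈ ((k • S : Sylow p G) : Subgroup G) := by rw [hk]; exact hQ hb
    rw [mem_smul_sylow_iff] at h1
    simpa using h1
  have hc : PrA (B.map (MulAut.conj k⁻¹).toMonoidHom) := by
    rintro _ ⟨b, hb, rfl⟩ _ ⟨c, hc, rfl⟩
    rw [← map_mul, ← map_mul, hBc b hb c hc]
  have h1 := hA.2.2 _ hmap hc
  rwa [Subgroup.card_map_of_injective (MulAut.conj k⁻¹).injective] at h1

/-- every proper subgroup containing `S` centralizes `x` once `x` lies in a normal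
`p`-subgroup -/
theorem centralizes_of_proper (X : FusData p G) (S : Sylow p G) {D : Subgroup G}
    (hDn : D.Normal) (hDp : IsPGroup p ↥D) (hxD : X.xP S ∈ D) {L : Subgroup G} (hL : L ≠ ⊤)
    (hSL : (S : Subgroup G) ≤ L) : ∀ l ∈ L, l * X.xP S = X.xP S * l := by
  obtain ⟨T, hT⟩ := exists_sylow_of_le_subgroup L (S : Subgroup G) hSL S.2
  have hTp : IsPGroup p ↥((T : Subgroup L).map L.subtype) := T.2.map _
  have hTS : (T : Subgroup L).map L.subtype = S := S.is_maximal' hTp hT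
  intro l hl
  have h1 := X.sub L hL S T (by rw [hTS]) (by rw [hTS]; exact inf_le_left)
    (fun n hn => X.cent S n (by rw [hTS] at hn; exact hn.2)) l hl
    (by rw [hTS]; exact normal_le_sylow S hDn hDp (hDn.conj_mem _ hxD l))
  calc l * X.xP S = l * X.xP S * l⁻¹ * l := by group
    _ = X.xP S * l := by rw [h1]

theorem inf_normal_of_centralizes (S : Sylow p G) (x : G)
    (hprop : ∀ L : Subgroup G, L ≠ ⊤ → (S : Subgroup G) ≤ L → ∀ l ∈ L, l * x = x * l)
    (hnc : ∃ n : G, n * x ≠ x * n) (K : Subgroup G) [hKn : K.Normal]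
    (hK : ∀ k ∈ K, k * x = x * k) : ((S : Subgroup G) ⊓ K).Normal := by
  by_contra hnot
  have hN : Subgroup.normalizer ((((S : Subgroup G) ⊓ K : Subgroup G)) : Set G) ≠ ⊤ :=
    fun h => hnot (Subgroup.normalizer_eq_top_iff.1 h)
  have hSN : (S : Subgroup G) ≤
      Subgroup.normalizer ((((S : Subgroup G) ⊓ K : Subgroup G)) : Set G) := by
    intro s hs
    rw [Subgroup.mem_normalizer_iff]
    intro y
    constructor
    · rintro ⟨h1, h2⟩
      exact ⟨Subgroup.mul_mem _ (Subgroup.mul_mem _ hs h1) (Subgroup.inv_mem _ hs),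
        hKn.conj_mem y h2 s⟩
    · rintro ⟨h1, h2⟩
      have e : y = s⁻¹ * (s * y * s⁻¹) * s := by group
      rw [e]
      refine ⟨Subgroup.mul_mem _ (Subgroup.mul_mem _ (Subgroup.inv_mem _ hs) h1) hs, ?_⟩
      have := hKn.conj_mem _ h2 s⁻¹
      simpa using this
  have h1 := hprop _ hN hSN
  obtain ⟨n, hn⟩ := hnc
  have hle : Subgroup.normalizer ((((S : Subgroup G) ⊓ K : Subgroup G)) : Set G) ⊔ K ≤
      Subgroup.centralizer ({x} : Set G) := by
    apply sup_le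
    · intro l hl
      rw [Subgroup.mem_centralizer_singleton_iff]
      exact h1 l hl
    · intro k hk
      rw [Subgroup.mem_centralizer_singleton_iff]
      exact hK k hk
  rw [frattini_inf_normal] at hle
  exact hn (Subgroup.mem_centralizer_singleton_iff.1 (hle (Subgroup.mem_top n)))

/-- conjugates of `z` centralized by `A` have the expected `e`-th power -/
theorem claim_fixed (X : FusData p G) (S : Sylow p G) (V : Subgroup G) [hVn : V.Normal]
    (hVS : V ≤ S)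
    (hR : ∀ D : Subgroup G, D.Normal → IsPGroup p ↥D → D ≤ Subgroup.centralizer (V : Set G))
    (A : Subgroup G) (hA : A ∈ FPr (PrA (G := G)) (S : Subgroup G))
    (hAV : ¬ A ≤ Subgroup.centralizer (V : Set G))
    (z : G) (hzV : z ∈ V) (hzS : ∀ s ∈ S, s * z = z * s) (e : ℕ) (hze : z ^ e = X.xP S)
    (g : G) (hg : ∀ a ∈ A, a * (g * z * g⁻¹) = g * z * g⁻¹ * a) :
    (g * z * g⁻¹) ^ e = X.xP S := by
  by_contra hne
  obtain ⟨w, hw⟩ : ∃ w, w = g * z * g⁻¹ := ⟨_, rfl⟩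
  rw [← hw] at hg hne
  have hwV : w ∈ V := by rw [hw]; exact hVn.conj_mem z hzV g
  obtain ⟨M, hM⟩ : ∃ M : Subgroup G, M = Subgroup.centralizer ({w} : Set G) := ⟨_, rfl⟩
  have hMmem : ∀ y, y ∈ M ↔ y * w = w * y := by
    intro y; rw [hM]; exact Subgroup.mem_centralizer_singleton_iff
  have hPM : ((g • S : Sylow p G) : Subgroup G) ≤ M := by
    intro y hy
    rw [mem_smul_sylow_iff] at hy
    rw [hMmem, hw]
    have h1 := hzS _ hy
    calc y * (g * z * g⁻¹) = g * (g⁻¹ * y * g * z) * g⁻¹ := by group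
      _ = g * (z * (g⁻¹ * y * g)) * g⁻¹ := by rw [h1]
      _ = g * z * g⁻¹ * y := by group
  have hAM : A ≤ M := fun a ha => (hMmem a).2 (hg a ha)
  obtain ⟨m, hmM, hm⟩ := exists_conj_le_sylow_of_le (g • S) hPM hAM (S.2.to_le hA.1)
  obtain ⟨P, hP⟩ : ∃ P : Sylow p G, P = (m⁻¹ * g) • S := ⟨_, rfl⟩
  have hAP : A ≤ P := by
    intro a ha
    rw [hP, mem_smul_sylow_iff]
    have h1 := hm a ha
    rw [mem_smul_sylow_iff] at h1
    have e1 : (m⁻¹ * g)⁻¹ * a * (m⁻¹ * g) = g⁻¹ * (m * a * m⁻¹) * g := by group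
    rw [e1]; exact h1
  have hmw : m⁻¹ * w * m = w := by
    have h1 := (hMmem m).1 hmM
    calc m⁻¹ * w * m = m⁻¹ * (w * m) := by group
      _ = m⁻¹ * (m * w) := by rw [h1]
      _ = w := by group
  have hxP : X.xP P = w ^ e := by
    rw [hP, X.conj, ← hze, ← conj_pow]
    congr 1
    rw [← hmw, hw]; group
  obtain ⟨F, hF⟩ : ∃ F : Subgroup G → Prop, F = fun D => ∃ A' : Subgroup G, A' ≤ D ∧ PrA A' ∧
      Nat.card ↥A ≤ Nat.card ↥A' ∧ ¬ A' ≤ Subgroup.centralizer (V : Set G) := ⟨_, rfl⟩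
  have hFam : Fam p F := by
    rw [hF]
    refine ⟨?_, ?_⟩
    · rintro D D' ⟨A', h1, h2, h3, h4⟩ hDD'
      exact ⟨A', h1.trans hDD', h2, h3, h4⟩
    · rintro D T ⟨A', h1, h2, h3, h4⟩ hDT hTp
      refine ⟨A', ?_, h2, h3, h4⟩
      apply le_JA_of_mem_FPr
      refine ⟨h1.trans hDT, h2, ?_⟩
      intro B hBT hBc
      exact (card_le_of_prA_of_isPGroup S hA (hTp.to_le hBT) hBc).trans h3
  have hviol : X.Viol F P S := by
    refine ⟨?_, ?_, ?_⟩
    · rw [hF]
      exact ⟨A, le_inf hAP hA.1, hA.2.1, le_rfl, hAV⟩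
    · rw [hxP]; exact hVS (V.pow_mem hwV e)
    · rw [hxP]; exact hne
  obtain ⟨D, hDn, hDp, hFD, -⟩ := X.fusion_reduction hFam P S hviol
  rw [hF] at hFD
  obtain ⟨A', hA'D, -, -, hA'V⟩ := hFD
  exact hA'V (hA'D.trans (hR D hDn hDp))

end Cfsg.Agent.Lib.Helper8.WC
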