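import Cfsg.Agent.Lib.Helper8.WC6c
import Cfsg.Agent.Lib.Helper2.Involves

/-! Glauberman's weak closure theorem: the induction. -/
set_option autoImplicit false
universe u
open Cfsg

namespace Cfsg.Agent.Lib.Helper8.WC

open Cfsg.Agent.Lib.Helper1 Cfsg.Agent.Lib.Helper1.ZJ Cfsg.Agent.Lib.Helper8.ThLoc

/-- the hypotheses of the weak closure theorem -/
structure WCHyp (p : ℕ) {G : Type u} [Group G] (S : Sylow p G) (x : G) : Prop where
  mem : x ∈ (S : Subgroup G)
  cent : ∀ n ∈ Subgroup.normalizer
    ((thompsonSubgroupAOf (S : Subgroup G) : Subgroup G) : Set G), n * x = x * n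
  case : p ≠ 2 ∨ (∃ z ∈ (S : Subgroup G) ⊓ Subgroup.centralizer ((S : Subgroup G) : Set G),
    z ^ p = x) ∨ ¬ Involves (Equiv.Perm (Fin 4)) G

/-- the conclusion of the weak closure theorem -/
def WCConcl {p : ℕ} {G : Type u} [Group G] (S : Sylow p G) (x : G) : Prop :=
  ∀ g : G, g * x * g⁻¹ ∈ (S : Subgroup G) → g * x * g⁻¹ = x

variable {G : Type u} [Group G] [Finite G] {p : ℕ} [hp : Fact p.Prime]

theorem mem_normalizer_of_conj {H : Subgroup G} {k n : G}
    (hn : n ∈ Subgroup.normalizer ((H.map (MulAut.conj k).toMonoidHom : Subgroup G) : Set G)) :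
    k⁻¹ * n * k ∈ Subgroup.normalizer (H : Set G) := by
  have hmem : ∀ y, y ∈ H.map (MulAut.conj k).toMonoidHom ↔ k⁻¹ * y * k ∈ H := by
    intro y
    constructor
    · rintro ⟨h, hh, rfl⟩
      simpa [mul_assoc] using hh
    · intro h
      exact ⟨k⁻¹ * y * k, h, by simp [mul_assoc]⟩
  rw [Subgroup.mem_normalizer_iff] at hn ⊢
  intro y
  have h1 := hn (k * y * k⁻¹)
  rw [hmem, hmem] at h1
  have e1 : k⁻¹ * (k * y * k⁻¹) * k = y := by group
  have e2 : k⁻¹ * (n * (k * y * k⁻¹) * n⁻¹) * k = k⁻¹ * n * k * y * (k⁻¹ * n * k)⁻¹ := by group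
  rw [e1, e2] at h1
  exact h1

theorem center_mem_of_hyp {S : Sylow p G} {x : G} (h : WCHyp p S x) :
    ∀ s ∈ S, s * x = x * s := fun s hs =>
  h.cent s (normalizer_le_normalizer_JA p S.2 (Subgroup.le_normalizer hs))

theorem conj_eq_of_smul_eq {S : Sylow p G} {x : G} (h : WCHyp p S x) {k k' : G}
    (hk : k • S = k' • S) : k * x * k⁻¹ = k' * x * k'⁻¹ := by
  have h1 : (k'⁻¹ * k) • S = S := by rw [mul_smul, hk, inv_smul_smul]
  have h2 := h.cent _ (normalizer_le_normalizer_JA p S.2 (Sylow.smul_eq_iff_mem_normalizer.1 h1))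
  calc k * x * k⁻¹ = k' * (k'⁻¹ * k * x) * k⁻¹ := by group
    _ = k' * (x * (k'⁻¹ * k)) * k⁻¹ := by rw [h2]
    _ = k' * x * k'⁻¹ := by group

/-- the fusion datum attached to `(S, x)` when the theorem holds in all proper subgroups -/
theorem exists_fusData (S : Sylow p G) (x : G) (h : WCHyp p S x)
    (ih : ∀ L : Subgroup G, L ≠ ⊤ → ∀ (T : Sylow p L) (y : ↥L), WCHyp p T y → WCConcl T y) :
    ∃ X : FusData p G, ∀ k : G, X.xP (k • S) = k * x * k⁻¹ := by
  classical
  have hex : ∀ P : Sylow p G, ∃ k : G, k • S = P := fun P => MulAction.exists_smul_eq G S P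
  let kk : Sylow p G → G := fun P => Classical.choose (hex P)
  have hkk : ∀ P, kk P • S = P := fun P => Classical.choose_spec (hex P)
  let xP : Sylow p G → G := fun P => kk P * x * (kk P)⁻¹
  have hxPdef : ∀ P, xP P = kk P * x * (kk P)⁻¹ := fun P => rfl
  have hxPk : ∀ k : G, xP (k • S) = k * x * k⁻¹ := fun k => conj_eq_of_smul_eq h (hkk (k • S))
  have hconj : ∀ (g : G) (P : Sylow p G), xP (g • P) = g * xP P * g⁻¹ := by
    intro g P
    have h1 : g • P = (g * kk P) • S := by rw [mul_smul, hkk]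
    rw [h1, hxPk, hxPdef]
    group
  have hmem : ∀ P : Sylow p G, xP P ∈ (P : Subgroup G) := by
    intro P
    have h1 : xP P ∈ ((kk P • S : Sylow p G) : Subgroup G) := by
      rw [mem_smul_sylow_iff, hxPdef]
      have e : (kk P)⁻¹ * (kk P * x * (kk P)⁻¹) * kk P = x := by group
      rw [e]; exact h.mem
    rwa [hkk] at h1
  have hPmap : ∀ P : Sylow p G,
      (P : Subgroup G) = (S : Subgroup G).map (MulAut.conj (kk P)).toMonoidHom := by
    intro P
    conv_lhs => rw [← hkk P]
    rfl
  have hcent : ∀ P : Sylow p G, ∀ n ∈ Subgroup.normalizer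
      ((thompsonSubgroupAOf (P : Subgroup G) : Subgroup G) : Set G), n * xP P = xP P * n := by
    intro P n hn
    rw [hPmap P, JA_conj p (kk P) (S : Subgroup G) S.2] at hn
    have h2 := h.cent _ (mem_normalizer_of_conj hn)
    rw [hxPdef]
    calc n * (kk P * x * (kk P)⁻¹) = kk P * ((kk P)⁻¹ * n * kk P * x) * (kk P)⁻¹ := by group
      _ = kk P * (x * ((kk P)⁻¹ * n * kk P)) * (kk P)⁻¹ := by rw [h2]
      _ = kk P * x * (kk P)⁻¹ * n := by group
  have hcenter : ∀ P : Sylow p G, ∀ s ∈ P, s * xP P = xP P * s := fun P s hs =>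
    hcent P s (normalizer_le_normalizer_JA p P.2 (Subgroup.le_normalizer hs))
  refine ⟨⟨xP, hconj, hmem, hcent, ?_⟩, hxPk⟩
  intro L hL P T hTP hZT hLc l hl hlT
  have hxZ : xP P ∈ (P : Subgroup G) ⊓ Subgroup.centralizer ((P : Subgroup G) : Set G) :=
    ⟨hmem P, Subgroup.mem_centralizer_iff.2 (fun s hs => hcenter P s hs)⟩
  obtain ⟨y, hyT, hy⟩ := hZT hxZ
  have hyval : (y : G) = xP P := hy
  have hW : WCHyp p T y := by
    refine ⟨hyT, ?_, ?_⟩
    · intro n hn
      have h1 : (n : G) ∈ Subgroup.normalizer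
          (((thompsonSubgroupAOf (T : Subgroup L)).map L.subtype : Subgroup G) : Set G) :=
        Subgroup.le_normalizer_map L.subtype ⟨n, hn, rfl⟩
      rw [JA_map_injective p L.subtype L.subtype_injective (T : Subgroup L) T.2] at h1
      have h2 := hLc n ⟨n.2, h1⟩
      apply Subtype.ext
      rw [Subgroup.coe_mul, Subgroup.coe_mul, hyval]; exact h2
    · rcases h.case with h1 | ⟨z, hz, hzx⟩ | h3
      · exact Or.inl h1
      · right; left
        have hzP : kk P * z * (kk P)⁻¹ ∈
            (P : Subgroup G) ⊓ Subgroup.centralizer ((P : Subgroup G) : Set G) := by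
          refine ⟨?_, ?_⟩
          · have h1 : kk P * z * (kk P)⁻¹ ∈ ((kk P • S : Sylow p G) : Subgroup G) := by
              rw [mem_smul_sylow_iff]
              have e : (kk P)⁻¹ * (kk P * z * (kk P)⁻¹) * kk P = z := by group
              rw [e]; exact hz.1
            rwa [hkk] at h1
          · show kk P * z * (kk P)⁻¹ ∈ Subgroup.centralizer ((P : Subgroup G) : Set G)
            rw [Subgroup.mem_centralizer_iff]
            intro t ht
            have ht' : t ∈ ((kk P • S : Sylow p G) : Subgroup G) := by rw [hkk]; exact ht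
            rw [mem_smul_sylow_iff] at ht'
            have h1 := Subgroup.mem_centralizer_iff.1 hz.2 _ ht'
            calc t * (kk P * z * (kk P)⁻¹) = kk P * ((kk P)⁻¹ * t * kk P * z) * (kk P)⁻¹ := by
                  group
              _ = kk P * (z * ((kk P)⁻¹ * t * kk P)) * (kk P)⁻¹ := by rw [h1]
              _ = kk P * z * (kk P)⁻¹ * t := by group
        obtain ⟨zL, hzLT, hzL⟩ := hZT hzP
        have hzLval : (zL : G) = kk P * z * (kk P)⁻¹ := hzL
        refine ⟨zL, ⟨hzLT, ?_⟩, ?_⟩
        · show zL ∈ Subgroup.centralizer ((T : Subgroup L) : Set L)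
          rw [Subgroup.mem_centralizer_iff]
          intro t ht
          apply Subtype.ext
          rw [Subgroup.coe_mul, Subgroup.coe_mul, hzLval]
          exact Subgroup.mem_centralizer_iff.1 hzP.2 _ (hTP ⟨t, ht, rfl⟩)
        · apply Subtype.ext
          rw [Subgroup.coe_pow, hzLval, hyval, hxPdef, conj_pow, hzx]
      · right; right
        intro hinv
        exact h3 (Cfsg.Agent.Lib.Helper2.Inv.involves_of_subgroup L hinv)
  have hconcl := ih L hL T y hW ⟨l, hl⟩ (by
    obtain ⟨v, hvT, hv⟩ := hlT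
    have hvval : (v : G) = l * xP P * l⁻¹ := hv
    have e : v = ⟨l, hl⟩ * y * (⟨l, hl⟩ : ↥L)⁻¹ := by
      apply Subtype.ext
      rw [hvval, Subgroup.coe_mul, Subgroup.coe_mul, Subgroup.coe_inv, hyval]
    rw [← e]; exact hvT)
  have h5 := congrArg Subtype.val hconcl
  rw [Subgroup.coe_mul, Subgroup.coe_mul, Subgroup.coe_inv, hyval] at h5
  exact h5

theorem orderOf_pow_lt {S : Sylow p G} {x : G} (hxS : x ∈ (S : Subgroup G)) (hx1 : x ≠ 1) :
    orderOf (x ^ p) < orderOf x := by
  obtain ⟨k, hk⟩ := S.2 ⟨x, hxS⟩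
  have hk' : x ^ p ^ k = 1 := by simpa using congrArg Subtype.val hk
  obtain ⟨j, -, hj⟩ := (Nat.dvd_prime_pow hp.out).1 (orderOf_dvd_of_pow_eq_one hk')
  rw [orderOf_pow' x hp.out.ne_zero, hj]
  rcases j with _ | j
  · exfalso
    rw [pow_zero, orderOf_eq_one_iff] at hj
    exact hx1 hj
  · have h1 : Nat.gcd (p ^ (j + 1)) p = p :=
      Nat.gcd_eq_right (dvd_pow_self p (Nat.succ_ne_zero j))
    rw [h1]
    exact Nat.div_lt_self (pow_pos hp.out.pos _) hp.out.one_lt

/-- **Glauberman's weak closure theorem**, by induction on the group order and the order of the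
element. -/
theorem weak_closure_main (p : ℕ) [hp : Fact p.Prime] :
    ∀ (N : ℕ) (G : Type u) [Group G] [Finite G], Nat.card G = N →
      ∀ (S : Sylow p G) (x : G), WCHyp p S x → WCConcl S x := by
  intro N
  induction N using Nat.strong_induction_on with
  | _ N ih =>
    intro G _ _ hN S
    have inner : ∀ m : ℕ, ∀ x : G, orderOf x = m → WCHyp p S x → WCConcl S x := by
      intro m
      induction m using Nat.strong_induction_on with
      | _ m ih2 =>
        intro x hm h g hgS
        by_contra hne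
        have hx1 : x ≠ 1 := by
          rintro rfl
          exact hne (by simp)
        have ihL : ∀ L : Subgroup G, L ≠ ⊤ → ∀ (T : Sylow p L) (y : ↥L),
            WCHyp p T y → WCConcl T y := by
          intro L hL T y hW
          have hlt : Nat.card ↥L < N := by
            rw [← hN, ← Subgroup.card_top (G := G)]
            exact Cfsg.Agent.Lib.Helper9.card_lt_of_lt' (lt_top_iff_ne_top.2 hL)
          exact ih _ hlt ↥L rfl T y hW
        obtain ⟨X, hX⟩ := exists_fusData S x h ihL
        have hXS : X.xP S = x := by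
          have := hX 1
          simpa using this
        have hxp : WCConcl S (x ^ p) := by
          apply ih2 (orderOf (x ^ p)) _ (x ^ p) rfl
          · refine ⟨Subgroup.pow_mem _ h.mem p, fun n hn => ?_, Or.inr (Or.inl ⟨x, ⟨h.mem, ?_⟩, rfl⟩)⟩
            · exact (Commute.pow_right (show Commute n x from h.cent n hn) p)
            · show x ∈ Subgroup.centralizer ((S : Subgroup G) : Set G)
              rw [Subgroup.mem_centralizer_iff]
              exact center_mem_of_hyp h
          · rw [← hm]; exact orderOf_pow_lt h.mem hx1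
        have hviol : X.Viol (fun _ => True) (g • S) S :=
          ⟨trivial, by rw [hX]; exact hgS, by rw [hX, hXS]; exact hne⟩
        by_cases hp2 : p = 2
        · rcases h.case with h1 | ⟨z, hz, hzx⟩ | h3
          · exact h1 hp2
          · exact core X S p z hz.1 (fun s hs => Subgroup.mem_centralizer_iff.1 hz.2 s hs)
              (by rw [hXS]; exact hzx) (by rw [hXS]; exact hxp) (Or.inr (Or.inl hp2)) _ _ hviol
          · exact core X S 1 x h.mem (center_mem_of_hyp h) (by rw [hXS, pow_one])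
              (by rw [hXS]; exact hxp) (Or.inr (Or.inr ⟨rfl, h3⟩)) _ _ hviol
        · exact core X S 1 x h.mem (center_mem_of_hyp h) (by rw [hXS, pow_one])
            (by rw [hXS]; exact hxp) (Or.inl hp2) _ _ hviol
    intro x h
    exact inner (orderOf x) x rfl h

end Cfsg.Agent.Lib.Helper8.WC
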