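import Mathlib

/-!
# Abstract splitting lemma via a trace map

`Z` an abelian `p`-subgroup, `W ≤ Z`, `ι τ : Z →* A` into a commutative group with `ι` injective,
`τ` takes values in `ι W` and restricts to the `n`-th power of `ι` on `W`, `n` prime to `p`.
Then `ker τ` is a complement to `W` in `Z`.
-/

namespace Helper8.WDirect

variable {G : Type*} [Group G]

theorem exists_root {p : ℕ} [hp : Fact p.Prime] {H : Type*} [Group H] [Finite H] (hH : IsPGroup p H)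
    {n : ℕ} (hn : Nat.Coprime n p) : ∃ a : ℤ, ∀ z : H, (z ^ n) ^ a = z := by
  obtain ⟨k, hk⟩ := IsPGroup.iff_card.1 hH
  have hcop : Nat.Coprime n (p ^ k) := Nat.Coprime.pow_right k hn
  have hbez := Nat.gcd_eq_gcd_ab n (p ^ k)
  rw [hcop.gcd_eq_one] at hbez
  refine ⟨Nat.gcdA n (p ^ k), fun z => ?_⟩
  have h1 : z ^ (p ^ k) = 1 := by
    rw [← hk]; exact pow_card_eq_one'
  calc (z ^ n) ^ (Nat.gcdA n (p ^ k)) = z ^ ((n : ℤ) * Nat.gcdA n (p ^ k)) := by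
        rw [zpow_mul, zpow_natCast]
    _ = z ^ ((n : ℤ) * Nat.gcdA n (p ^ k) + ((p ^ k : ℕ) : ℤ) * Nat.gcdB n (p ^ k)) := by
        rw [zpow_add, zpow_mul _ ((p ^ k : ℕ) : ℤ), zpow_natCast, h1, one_zpow, mul_one]
    _ = z := by rw [← hbez]; simp

theorem split [Finite G] {p : ℕ} [hp : Fact p.Prime] (Z W : Subgroup G) (hWZ : W ≤ Z)
    (hZp : IsPGroup p Z) (hZc : ∀ a ∈ Z, ∀ b ∈ Z, a * b = b * a)
    {A : Type*} [CommGroup A] (ι τ : ↥Z →* A) (hι : Function.Injective ι) (n : ℕ)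
    (hn : Nat.Coprime n p)
    (h1 : ∀ z : ↥Z, ∃ w : ↥Z, (w : G) ∈ W ∧ ι w = τ z)
    (h2 : ∀ w : ↥Z, (w : G) ∈ W → τ w = ι w ^ n) :
    ∃ K : Subgroup G, K ≤ Z ∧ W ⊓ K = ⊥ ∧ W ⊔ K = Z := by
  obtain ⟨a, ha⟩ := exists_root hZp hn
  refine ⟨τ.ker.map Z.subtype, Subgroup.map_subtype_le _, ?_, ?_⟩
  · rw [eq_bot_iff]
    rintro x ⟨hxW, ⟨z, hz, rfl⟩⟩
    rw [Subgroup.mem_bot]
    have h3 : τ z = 1 := hz
    rw [h2 z hxW, ← map_pow] at h3
    have h4 : z ^ n = 1 := hι (h3.trans (map_one ι).symm)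
    have h5 : z = 1 := by rw [← ha z, h4, one_zpow]
    rw [h5]
    rfl
  · apply le_antisymm (sup_le hWZ (Subgroup.map_subtype_le _))
    intro x hx
    obtain ⟨w, hwW, hw⟩ := h1 ⟨x, hx⟩
    set w' : ↥Z := w ^ a with hw'
    have hw'W : (w' : G) ∈ W := by
      rw [hw', Subgroup.coe_zpow]
      exact W.zpow_mem hwW a
    have hw'n : w' ^ n = w := by
      rw [hw', ← zpow_natCast, ← zpow_mul, mul_comm, zpow_mul, zpow_natCast, ha]
    have h3 : τ w' = τ ⟨x, hx⟩ := by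
      rw [h2 w' hw'W, ← map_pow, hw'n, hw]
    have h4 : (⟨x, hx⟩ : ↥Z) * w'⁻¹ ∈ τ.ker := by
      rw [MonoidHom.mem_ker, map_mul, map_inv, h3, mul_inv_cancel]
    have h5 : x = (w' : G) * (((⟨x, hx⟩ : ↥Z) * w'⁻¹ : ↥Z) : G) := by
      rw [Subgroup.coe_mul, Subgroup.coe_inv]
      have := hZc x hx (w' : G)⁻¹ (inv_mem w'.2)
      rw [this]
      group
    rw [h5]
    exact Subgroup.mul_mem_sup hw'W ⟨_, h4, rfl⟩

end Helper8.WDirect
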