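import Mathlib
import Cfsg.Prelude.Def_Local
import Cfsg.Agent.Lib.Helper8.WDirect
import Cfsg.Agent.Lib.Helper7.PConstrained3
import Cfsg.Agent.Lib.Helper7.SylowAux
import Cfsg.Agent.Lib.Helper7.PCore
import Cfsg.Agent.Lib.Helper2.Cores

/-!
# The weakly closed elements of a Sylow `p`-subgroup, when `Z(S) ≤ O_{p',p}(G)`
-/

namespace Helper8.WDirect

open Cfsg

variable {G : Type*} [Group G]

/-- `O_{p',p}(G) ⊆ S · O_{p'}(G)`. -/
theorem exists_mul_of_mem_pPrimePCore [Finite G] {p : ℕ} [Fact p.Prime] (S : Sylow p G) {m : G}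
    (hm : m ∈ pPrimePCore p G) :
    ∃ s ∈ (S : Subgroup G), ∃ k ∈ pPrimeCore p G, m = s * k := by
  haveI : (pPrimeCore p G).Normal := (Cfsg.Agent.Lib.Helper2.pPrimeCore_mem p).1
  have h1 := Cfsg.Agent.Lib.Helper7.pPrimePCore_le_sylow_inf_sup S hm
  have h2 : m ∈ (S : Subgroup G) ⊔ pPrimeCore p G := by
    have hle : ((S : Subgroup G) ⊓ pPrimePCore p G) ⊔ pPrimeCore p G ≤
        (S : Subgroup G) ⊔ pPrimeCore p G := sup_le (inf_le_left.trans le_sup_left) le_sup_right
    exact hle h1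
  rw [← SetLike.mem_coe, Subgroup.mul_normal, Set.mem_mul] at h2
  obtain ⟨s, hs, k, hk, rfl⟩ := h2
  exact ⟨s, hs, k, hk, rfl⟩

theorem sylow_inf_pPrimeCore [Finite G] {p : ℕ} [hp : Fact p.Prime] (S : Sylow p G) :
    (S : Subgroup G) ⊓ pPrimeCore p G = ⊥ := by
  rw [eq_bot_iff]
  intro x hx
  rw [Subgroup.mem_bot]
  have h1 : orderOf x ∣ Nat.card (pPrimeCore p G) := by
    have := Subgroup.orderOf_dvd_natCard (pPrimeCore p G) hx.2
    exact this
  obtain ⟨k, hk⟩ := (IsPGroup.iff_orderOf.1 S.2) ⟨x, hx.1⟩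
  rw [Subgroup.orderOf_mk] at hk
  have h2 : (orderOf x).Coprime p :=
    Nat.Coprime.coprime_dvd_left h1 (Cfsg.Agent.Lib.Helper2.pPrimeCore_card_coprime p)
  rw [hk] at h2
  rcases Nat.eq_zero_or_pos k with h0 | hpos
  · rw [h0, pow_zero] at hk
    exact orderOf_eq_one_iff.1 hk
  · exfalso
    have := (Nat.coprime_pow_left_iff hpos p p).1 h2
    rw [Nat.coprime_self] at this
    exact hp.out.one_lt.ne' this

/-- A `p`-element of `O_{p',p}(G)` is conjugate into `S` by an element of `O_{p'}(G)`. -/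
theorem exists_conj_mem_sylow [Finite G] {p : ℕ} [hp : Fact p.Prime] (S : Sylow p G) {y : G}
    (hy : y ∈ pPrimePCore p G) (hyp : IsPGroup p (Subgroup.zpowers y)) :
    ∃ k ∈ pPrimeCore p G, k * y * k⁻¹ ∈ (S : Subgroup G) := by
  haveI : (pPrimeCore p G).Normal := (Cfsg.Agent.Lib.Helper2.pPrimeCore_mem p).1
  set H : Subgroup G := (S : Subgroup G) ⊔ pPrimeCore p G with hH
  have hyH : y ∈ H := by
    obtain ⟨s, hs, k, hk, rfl⟩ := exists_mul_of_mem_pPrimePCore S hy
    exact Subgroup.mul_mem_sup hs hk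
  obtain ⟨n, hnH, R, hRp, -, hSR, hyR⟩ :=
    Cfsg.Agent.Lib.Helper7.exists_conj_le_common_pSubgroup (p := p) H (S : Subgroup G)
      (Subgroup.zpowers y) S.2 hyp le_sup_left (Subgroup.zpowers_le.2 hyH)
  have hRS : R = S := S.is_maximal' hRp hSR
  have hny : n * y * n⁻¹ ∈ (S : Subgroup G) := by
    rw [← hRS]
    exact hyR ⟨y, Subgroup.mem_zpowers y, rfl⟩
  rw [hH, ← SetLike.mem_coe, Subgroup.mul_normal, Set.mem_mul] at hnH
  obtain ⟨s, hs, k, hk, rfl⟩ := hnH
  refine ⟨k, hk, ?_⟩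
  have := (S : Subgroup G).mul_mem (mul_mem (inv_mem hs) hny) hs
  have e : s⁻¹ * (s * k * y * (s * k)⁻¹) * s = k * y * k⁻¹ := by group
  rwa [e] at this

end Helper8.WDirect

namespace Helper8.WDirect

open Cfsg

variable {G : Type*} [Group G]

theorem main [Finite G] {p : ℕ} [hp : Fact p.Prime] (S : Sylow p G)
    (hZ : ((S : Subgroup G) ⊓ Subgroup.centralizer ((S : Subgroup G) : Set G)) ≤ pPrimePCore p G) :
    ∃ W K : Subgroup G,
      (∀ x : G, x ∈ W ↔ (x ∈ (S : Subgroup G) ∧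
        ∀ g : G, g * x * g⁻¹ ∈ (S : Subgroup G) → g * x * g⁻¹ = x)) ∧
      K ≤ ((S : Subgroup G) ⊓ Subgroup.centralizer ((S : Subgroup G) : Set G)) ∧ W ⊓ K = ⊥ ∧
      W ⊔ K = ((S : Subgroup G) ⊓ Subgroup.centralizer ((S : Subgroup G) : Set G)) := by
  classical
  set N : Subgroup G := pPrimeCore p G with hN
  haveI hNn : N.Normal := (Cfsg.Agent.Lib.Helper2.pPrimeCore_mem p).1
  set π : G →* G ⧸ N := QuotientGroup.mk' N with hπ
  have hπk : ∀ k ∈ N, π k = 1 := fun k hk => (QuotientGroup.eq_one_iff k).2 hk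
  set Op : Subgroup (G ⧸ N) := pCore p (G ⧸ N) with hOp
  haveI hOpn : Op.Normal := Cfsg.Agent.Lib.Helper7.pCore_normal p (G ⧸ N)
  set V : Subgroup (G ⧸ N) := Op ⊓ Subgroup.centralizer (Op : Set (G ⧸ N)) with hV
  haveI hCn : (Subgroup.centralizer (Op : Set (G ⧸ N))).Normal := Subgroup.normal_centralizer
  haveI hVn : V.Normal := inferInstance
  set Z : Subgroup G := (S : Subgroup G) ⊓ Subgroup.centralizer ((S : Subgroup G) : Set G) with hZdef
  set W : Subgroup G := (S : Subgroup G) ⊓ (Subgroup.center (G ⧸ N)).comap π with hW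
  have hSN : (S : Subgroup G) ⊓ N = ⊥ := sylow_inf_pPrimeCore S
  have hMdef : ∀ m : G, m ∈ pPrimePCore p G ↔ π m ∈ Op := fun m => Iff.rfl
  -- characterization of `W`
  have hW_iff : ∀ x : G, x ∈ W ↔ (x ∈ (S : Subgroup G) ∧
      ∀ g : G, g * x * g⁻¹ ∈ (S : Subgroup G) → g * x * g⁻¹ = x) := by
    intro x
    constructor
    · rintro ⟨hxS, hxc⟩
      have hxS : x ∈ (S : Subgroup G) := hxS
      refine ⟨hxS, fun g hy => ?_⟩
      have hxc' : π x ∈ Subgroup.center (G ⧸ N) := hxc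
      have h1 : π (g * x * g⁻¹) = π x := by
        rw [map_mul, map_mul, map_inv, Subgroup.mem_center_iff.1 hxc' (π g), mul_inv_cancel_right]
      have h2 : x⁻¹ * (g * x * g⁻¹) ∈ N := by
        rw [← QuotientGroup.eq]
        exact h1.symm
      have h3 : x⁻¹ * (g * x * g⁻¹) ∈ (S : Subgroup G) ⊓ N :=
        ⟨(S : Subgroup G).mul_mem ((S : Subgroup G).inv_mem hxS) hy, h2⟩
      rw [hSN, Subgroup.mem_bot] at h3
      exact (inv_mul_eq_one.1 h3).symm
    · rintro ⟨hxS, hx⟩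
      have hxZ : x ∈ Z := by
        refine ⟨hxS, Subgroup.mem_centralizer_iff.2 fun s hs => ?_⟩
        have := hx s (mul_mem (mul_mem hs hxS) (inv_mem hs))
        calc s * x = s * x * s⁻¹ * s := by group
          _ = x * s := by rw [this]
      have hxM : x ∈ pPrimePCore p G := hZ hxZ
      refine ⟨hxS, ?_⟩
      show π x ∈ Subgroup.center (G ⧸ N)
      rw [Subgroup.mem_center_iff]
      intro q
      obtain ⟨g, rfl⟩ := QuotientGroup.mk'_surjective N q
      haveI := Cfsg.Agent.Lib.Helper7.pPrimePCore_normal_inst (G := G) p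
      have hyM : g * x * g⁻¹ ∈ pPrimePCore p G := Subgroup.Normal.conj_mem inferInstance x hxM g
      have hyp : IsPGroup p (Subgroup.zpowers (g * x * g⁻¹)) := by
        obtain ⟨k, hk⟩ := (IsPGroup.iff_orderOf.1 S.2) ⟨x, hxS⟩
        rw [Subgroup.orderOf_mk] at hk
        rw [IsPGroup.iff_card]
        refine ⟨k, ?_⟩
        rw [Nat.card_zpowers, Cfsg.Agent.Lib.Helper7.orderOf_conj_eq, hk]
      obtain ⟨k, hk, hky⟩ := exists_conj_mem_sylow S hyM hyp
      have e1 : k * (g * x * g⁻¹) * k⁻¹ = (k * g) * x * (k * g)⁻¹ := by group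
      rw [e1] at hky
      have h1 := hx (k * g) hky
      have h2 := congrArg π h1
      rw [map_mul, map_mul, map_inv, map_mul, hπk k hk, one_mul] at h2
      show π g * π x = π x * π g
      calc π g * π x = π g * π x * (π g)⁻¹ * π g := by group
        _ = π x * π g := by rw [h2]
  have hWZ : W ≤ Z := by
    intro x hxW
    obtain ⟨hxS, hx⟩ := (hW_iff x).1 hxW
    refine ⟨hxS, Subgroup.mem_centralizer_iff.2 fun s hs => ?_⟩
    have := hx s (mul_mem (mul_mem hs hxS) (inv_mem hs))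
    calc s * x = s * x * s⁻¹ * s := by group
      _ = x * s := by rw [this]
  -- the image of `Z` lies in `V`
  have hOpS : ∀ o ∈ Op, ∃ s ∈ (S : Subgroup G), π s = o := by
    intro o ho
    obtain ⟨m, rfl⟩ := QuotientGroup.mk'_surjective N o
    obtain ⟨s, hs, k, hk, rfl⟩ := exists_mul_of_mem_pPrimePCore S ((hMdef m).2 ho)
    refine ⟨s, hs, ?_⟩
    show π s = π (s * k)
    rw [map_mul, hπk k hk, mul_one]
  have hπZ : ∀ z ∈ Z, π z ∈ V := by
    intro z hz
    refine ⟨(hMdef z).1 (hZ hz), Subgroup.mem_centralizer_iff.2 fun o ho => ?_⟩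
    obtain ⟨s, hs, rfl⟩ := hOpS o ho
    rw [← map_mul, ← map_mul, Subgroup.mem_centralizer_iff.1 hz.2 s hs]
  letI : CommGroup ↥V :=
    { (inferInstance : Group ↥V) with
      mul_comm := fun a b => Subtype.ext
        ((Subgroup.mem_centralizer_iff.1 a.2.2 b b.2.1).symm) }
  set ι : ↥Z →* ↥V := (π.comp Z.subtype).codRestrict V (fun z => hπZ z z.2) with hι
  have hι_coe : ∀ z : ↥Z, ((ι z : ↥V) : G ⧸ N) = π z := fun z => rfl
  have hιinj : Function.Injective ι := by
    intro a b hab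
    have h1 : π a = π b := by rw [← hι_coe, ← hι_coe, hab]
    have h2 : (a : G)⁻¹ * b ∈ N := by
      rw [← QuotientGroup.eq]; exact h1
    have h3 : (a : G)⁻¹ * b ∈ (S : Subgroup G) ⊓ N :=
      ⟨(S : Subgroup G).mul_mem ((S : Subgroup G).inv_mem a.2.1) b.2.1, h2⟩
    rw [hSN, Subgroup.mem_bot] at h3
    exact Subtype.ext (inv_mul_eq_one.1 h3)
  letI : Fintype (G ⧸ (S : Subgroup G)) := Fintype.ofFinite _
  set τ : ↥Z →* ↥V := ∏ q : G ⧸ (S : Subgroup G),
    ((MulAut.conjNormal (π q.out) : MulAut ↥V).toMonoidHom.comp ι) with hτ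
  have hτ_apply : ∀ z : ↥Z, τ z = ∏ q : G ⧸ (S : Subgroup G), MulAut.conjNormal (π q.out) (ι z) := by
    intro z
    rw [hτ, MonoidHom.finset_prod_apply]
    rfl
  set n : ℕ := Nat.card (G ⧸ (S : Subgroup G)) with hn
  have hncop : Nat.Coprime n p := by
    rw [Nat.coprime_comm, Nat.Prime.coprime_iff_not_dvd hp.out]
    exact S.not_dvd_index
  -- `h2`
  have h2 : ∀ w : ↥Z, (w : G) ∈ W → τ w = ι w ^ n := by
    intro w hw
    rw [hτ_apply]
    have : ∀ q : G ⧸ (S : Subgroup G), MulAut.conjNormal (π q.out) (ι w) = ι w := by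
      intro q
      apply Subtype.ext
      rw [MulAut.conjNormal_apply, hι_coe]
      have hc : π w ∈ Subgroup.center (G ⧸ N) := hw.2
      rw [Subgroup.mem_center_iff.1 hc (π q.out), mul_inv_cancel_right]
    simp_rw [this]
    rw [Finset.prod_const, Finset.card_univ, hn, Nat.card_eq_fintype_card]
  -- `h1`
  have h1 : ∀ z : ↥Z, ∃ w : ↥Z, (w : G) ∈ W ∧ ι w = τ z := by
    intro z
    have hF : ∀ (g s : G), s ∈ (S : Subgroup G) →
        MulAut.conjNormal (π (g * s)) (ι z) = MulAut.conjNormal (π g) (ι z) := by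
      intro g s hs
      apply Subtype.ext
      rw [MulAut.conjNormal_apply, MulAut.conjNormal_apply, hι_coe, ← map_mul, ← map_inv,
        ← map_mul, ← map_mul, ← map_inv, ← map_mul]
      congr 1
      have := Subgroup.mem_centralizer_iff.1 z.2.2 s hs
      calc g * s * (z : G) * (g * s)⁻¹ = g * (s * z) * s⁻¹ * g⁻¹ := by group
        _ = g * (z * s) * s⁻¹ * g⁻¹ := by rw [this]
        _ = g * z * g⁻¹ := by group
    have hFout : ∀ g : G, MulAut.conjNormal (π ((g : G ⧸ (S : Subgroup G))).out) (ι z) =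
        MulAut.conjNormal (π g) (ι z) := by
      intro g
      obtain ⟨t, ht⟩ := QuotientGroup.mk_out_eq_mul (S : Subgroup G) g
      rw [ht]
      exact hF g t t.2
    have hinv : ∀ h : G, MulAut.conjNormal (π h) (τ z) = τ z := by
      intro h
      rw [hτ_apply, map_prod]
      have e1 : ∀ q : G ⧸ (S : Subgroup G),
          MulAut.conjNormal (π h) (MulAut.conjNormal (π q.out) (ι z)) =
          MulAut.conjNormal (π (h • q).out) (ι z) := by
        intro q
        have : h • q = ((h * q.out : G) : G ⧸ (S : Subgroup G)) := by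
          conv_lhs => rw [← QuotientGroup.out_eq' q]
          rfl
        rw [this, hFout, map_mul, map_mul]
        rfl
      simp_rw [e1]
      exact Fintype.prod_equiv (MulAction.toPerm h) _ _ (fun q => rfl)
    have htc : ((τ z : ↥V) : G ⧸ N) ∈ Subgroup.center (G ⧸ N) := by
      rw [Subgroup.mem_center_iff]
      intro q
      obtain ⟨h, rfl⟩ := QuotientGroup.mk'_surjective N q
      have := congrArg Subtype.val (hinv h)
      rw [MulAut.conjNormal_apply] at this
      show π h * ((τ z : ↥V) : G ⧸ N) = ((τ z : ↥V) : G ⧸ N) * π h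
      calc π h * ((τ z : ↥V) : G ⧸ N)
          = π h * ((τ z : ↥V) : G ⧸ N) * (π h)⁻¹ * π h := by group
        _ = ((τ z : ↥V) : G ⧸ N) * π h := by rw [this]
    obtain ⟨s, hs, hst⟩ := hOpS ((τ z : ↥V) : G ⧸ N) (τ z).2.1
    have hsW : s ∈ W := by
      refine ⟨hs, ?_⟩
      have : π s ∈ Subgroup.center (G ⧸ N) := by rw [hst]; exact htc
      exact this
    refine ⟨⟨s, hWZ hsW⟩, hsW, ?_⟩
    apply Subtype.ext
    rw [hι_coe]
    exact hst
  obtain ⟨K, hKZ, hWK, hWKZ⟩ := split Z W hWZ (S.2.to_le inf_le_left)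
    (fun a ha b hb => (Subgroup.mem_centralizer_iff.1 ha.2 b hb.1).symm) ι τ hιinj n hncop h1 h2
  exact ⟨W, K, hW_iff, hKZ, hWK, hWKZ⟩

end Helper8.WDirect
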