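import Mathlib

set_option autoImplicit false

/-!
# GH5 (S3106): module-level case lemmas `(N,triv)`, `(O,N)`, `(N,O)`

Setting: a group `G` acts on two elementary abelian `2`-groups `V`, `W` (written additively)
through `ρV`, `ρW`; `s : V → W` (squares) and `c : V → V → W` (commutators) satisfy the usual
calculus of a class-two `2`-group `Q` with `W = Φ(Q)` central elementary abelian and `V = Q/W`.
-/

namespace Cfsg.Agent.Lib.Helper8.GH5Cases

variable {G V W : Type*} [Group G] [AddCommGroup V] [AddCommGroup W]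

/-- the square/commutator calculus of one layer -/
structure SC (ρV : G →* AddMonoid.End V) (ρW : G →* AddMonoid.End W) (s : V → W)
    (c : V → V → W) : Prop where
  V2 : ∀ v : V, v + v = 0
  W2 : ∀ w : W, w + w = 0
  c_add_left : ∀ u u' v, c (u + u') v = c u v + c u' v
  c_add_right : ∀ u v v', c u (v + v') = c u v + c u v'
  c_self : ∀ v, c v v = 0
  s_add : ∀ u v, s (u + v) = s u + s v + c u v
  s_equiv : ∀ g v, s (ρV g v) = ρW g (s v)
  c_equiv : ∀ g u v, c (ρV g u) (ρV g v) = ρW g (c u v)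

variable {ρV : G →* AddMonoid.End V} {ρW : G →* AddMonoid.End W} {s : V → W} {c : V → V → W}

namespace SC

theorem sub_eq_add_W (h : SC ρV ρW s c) (a b : W) : a - b = a + b := by
  have := h.W2 b
  rw [sub_eq_add_neg]
  congr 1
  exact neg_eq_of_add_eq_zero_left this

theorem c_eq (h : SC ρV ρW s c) (u v : V) : c u v = s (u + v) + s u + s v := by
  rw [h.s_add]
  have h1 := h.W2 (s u)
  have h2 := h.W2 (s v)
  calc c u v = c u v + (s u + s u) + (s v + s v) := by rw [h1, h2]; simp
    _ = s u + s v + c u v + s u + s v := by abel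

theorem s_zero (h : SC ρV ρW s c) : s 0 = 0 := by
  have := h.s_add 0 0
  rw [add_zero, h.c_self, add_zero] at this
  have h2 := h.W2 (s 0)
  rw [h2] at this
  exact this

theorem c_zero_right (h : SC ρV ρW s c) (u : V) : c u 0 = 0 := by
  have := h.c_add_right u 0 0
  rw [add_zero] at this
  have h2 := h.W2 (c u 0)
  rw [h2] at this
  exact this

theorem c_zero_left (h : SC ρV ρW s c) (u : V) : c 0 u = 0 := by
  have := h.c_add_left 0 0 u
  rw [add_zero] at this
  have h2 := h.W2 (c 0 u)
  rw [h2] at this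
  exact this

theorem c_symm (h : SC ρV ρW s c) (u v : V) : c u v = c v u := by
  rw [h.c_eq, h.c_eq, add_comm u v]
  abel

theorem add_ne_zero_V (h : SC ρV ρW s c) {u v : V} (huv : u ≠ v) : u + v ≠ 0 := by
  intro h0
  apply huv
  have := h.V2 v
  calc u = u + (v + v) := by rw [this, add_zero]
    _ = (u + v) + v := by abel
    _ = v := by rw [h0, zero_add]

end SC

/-- case `(N, triv)`: `G` transitive on `V \ 0`, trivial on `W`: squares and commutators vanish. -/
theorem case_N_triv [Finite V] (h : SC ρV ρW s c) (hV : 4 < Nat.card V)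
    (htrans : ∀ u v : V, u ≠ 0 → v ≠ 0 → ∃ g, ρV g u = v) (htriv : ∀ g w, ρW g w = w) :
    (∀ v, s v = 0) ∧ ∀ u v, c u v = 0 := by
  classical
  have : Fintype V := Fintype.ofFinite V
  rw [Nat.card_eq_fintype_card] at hV
  have hpick : ∀ F : Finset V, F.card ≤ 4 → ∃ x, x ∉ F := by
    intro F hF
    by_contra hcon
    push Not at hcon
    have : Finset.univ ⊆ F := fun x _ => hcon x
    have := Finset.card_le_card this
    rw [Finset.card_univ] at this
    omega
  obtain ⟨u, hu⟩ := hpick {0} (by simp)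
  have hu0 : u ≠ 0 := by simpa using hu
  -- `s` is constant on nonzero vectors
  have hconst : ∀ v, v ≠ 0 → s v = s u := by
    intro v hv
    obtain ⟨g, hg⟩ := htrans u v hu0 hv
    rw [← hg, h.s_equiv, htriv]
  have hcc : ∀ a b : V, a ≠ 0 → b ≠ 0 → a ≠ b → c a b = s u := by
    intro a b ha hb hab
    rw [h.c_eq, hconst _ (h.add_ne_zero_V hab), hconst _ ha, hconst _ hb, h.W2, zero_add]
  obtain ⟨v, hv⟩ := hpick {0, u} (by
    refine le_trans (Finset.card_insert_le _ _) ?_
    simp)
  have hv0 : v ≠ 0 := fun h0 => hv (by simp [h0])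
  have hvu : v ≠ u := fun h0 => hv (by simp [h0])
  obtain ⟨v', hv'⟩ := hpick {0, u, v, v + u} (by
    refine le_trans (Finset.card_insert_le _ _) ?_
    refine Nat.succ_le_succ (le_trans (Finset.card_insert_le _ _) ?_)
    refine Nat.succ_le_succ (le_trans (Finset.card_insert_le _ _) ?_)
    simp)
  have hv'0 : v' ≠ 0 := fun h0 => hv' (by simp [h0])
  have hv'u : v' ≠ u := fun h0 => hv' (by simp [h0])
  have hv'v : v' ≠ v := fun h0 => hv' (by simp [h0])
  have hv'vu : v' ≠ v + u := fun h0 => hv' (by simp [h0])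
  have hsum0 : v + v' ≠ 0 := h.add_ne_zero_V (Ne.symm hv'v)
  have hsumu : v + v' ≠ u := by
    intro h0
    apply hv'vu
    have := h.V2 v
    calc v' = (v + v) + v' := by rw [this, zero_add]
      _ = v + (v + v') := by abel
      _ = v + u := by rw [h0]
  have h1 : c u (v + v') = s u := hcc u (v + v') hu0 hsum0 (Ne.symm hsumu)
  have h2 : c u (v + v') = 0 := by
    rw [h.c_add_right, hcc u v hu0 hv0 (Ne.symm hvu), hcc u v' hu0 hv'0 (Ne.symm hv'u), h.W2]
  have hε : s u = 0 := by rw [← h1, h2]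
  have hs : ∀ x, s x = 0 := by
    intro x
    by_cases hx : x = 0
    · rw [hx, h.s_zero]
    · rw [hconst x hx, hε]
  refine ⟨hs, ?_⟩
  intro a b
  rw [h.c_eq, hs, hs, hs]
  simp

/-- case `(O, N)`: a nonvanishing equivariant `s` cannot map a vector with a stabiliser of order
`≥ 12` to a module in which all stabilisers of nonzero vectors have order `≤ 4`. -/
theorem case_O_N [Finite G] (h : SC ρV ρW s c) (hs_ne : ∀ v, v ≠ 0 → s v ≠ 0)
    (v : V) (hv : v ≠ 0) (hstabV : 5 ≤ Nat.card {g : G // ρV g v = v})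
    (hstabW : ∀ w : W, w ≠ 0 → Nat.card {g : G // ρW g w = w} ≤ 4) : False := by
  have hle : Nat.card {g : G // ρV g v = v} ≤ Nat.card {g : G // ρW g (s v) = s v} := by
    apply Nat.card_le_card_of_injective
      (fun x : {g : G // ρV g v = v} =>
        (⟨x.1, by rw [← h.s_equiv, x.2]⟩ : {g : G // ρW g (s v) = s v}))
    intro a b hab
    apply Subtype.ext
    have := congrArg (fun y : {g : G // ρW g (s v) = s v} => y.1) hab
    exact this
  have := hstabW (s v) (hs_ne v hv)
  omega

/-- case `(N, O)`: two different nonzero vectors of `V` fixed by a subgroup `P` that fixes at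
most one nonzero vector of `W`: their squares, the square of their sum and their commutator all
coincide. -/
theorem case_N_O (h : SC ρV ρW s c) (hs_ne : ∀ v, v ≠ 0 → s v ≠ 0) (P : Subgroup G)
    (hCW : ∀ w w' : W, (∀ g ∈ P, ρW g w = w) → (∀ g ∈ P, ρW g w' = w') → w ≠ 0 → w' ≠ 0 →
      w = w')
    (v v' : V) (hv : v ≠ 0) (hv' : v' ≠ 0) (hvv' : v ≠ v')
    (hfix : ∀ g ∈ P, ρV g v = v) (hfix' : ∀ g ∈ P, ρV g v' = v') :
    s v' = s v ∧ s (v + v') = s v ∧ c v v' = s v := by
  have hf : ∀ x : V, (∀ g ∈ P, ρV g x = x) → ∀ g ∈ P, ρW g (s x) = s x := by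
    intro x hx g hg
    rw [← h.s_equiv, hx g hg]
  have hsumfix : ∀ g ∈ P, ρV g (v + v') = v + v' := by
    intro g hg
    rw [map_add, hfix g hg, hfix' g hg]
  have h1 : s v' = s v := hCW _ _ (hf v' hfix') (hf v hfix) (hs_ne _ hv') (hs_ne _ hv)
  have h2 : s (v + v') = s v :=
    hCW _ _ (hf _ hsumfix) (hf v hfix) (hs_ne _ (h.add_ne_zero_V hvv')) (hs_ne _ hv)
  refine ⟨h1, h2, ?_⟩
  rw [h.c_eq, h2, h1, h.W2, zero_add]

end Cfsg.Agent.Lib.Helper8.GH5Cases
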