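import Mathlib
import Cfsg.Agent.Lib.Helper8.GH5Cases

set_option autoImplicit false

/-!
# GH5 (S3106): module-level case `(O, triv)` and the quadratic-form computation

`V` of type `O` is given through its model: five vectors `w i` with sum `0`, permuted
`2`-transitively by `G`; `G` acts trivially on `W`.  Then `s (w i) = 0` and `c (w i) (w j) = a`
for a single `a : W` (`i ≠ j`); if moreover the `w i` span `V` and `a = 0` then `s = 0`, `c = 0`.
-/

namespace Cfsg.Agent.Lib.Helper8.GH5OT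

open Cfsg.Agent.Lib.Helper8.GH5Cases

variable {G V W : Type*} [Group G] [AddCommGroup V] [AddCommGroup W]
variable {ρV : G →* AddMonoid.End V} {ρW : G →* AddMonoid.End W} {s : V → W} {c : V → V → W}

/-- three distinct indices of `Fin 5` and the two remaining ones -/
theorem exists_rest (i j k : Fin 5) (hij : i ≠ j) (hik : i ≠ k) (hjk : j ≠ k) :
    ∃ l m : Fin 5, l ≠ m ∧ l ≠ i ∧ l ≠ j ∧ l ≠ k ∧ m ≠ i ∧ m ≠ j ∧ m ≠ k ∧
      (Finset.univ : Finset (Fin 5)) = {i, j, k, l, m} := by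
  revert i j k; decide

theorem sum_five (w : Fin 5 → V) (i j k l m : Fin 5) (hlm : l ≠ m) (hli : l ≠ i) (hlj : l ≠ j)
    (hlk : l ≠ k) (hmi : m ≠ i) (hmj : m ≠ j) (hmk : m ≠ k) (hij : i ≠ j) (hik : i ≠ k)
    (hjk : j ≠ k) (huniv : (Finset.univ : Finset (Fin 5)) = {i, j, k, l, m}) :
    ∑ x, w x = w i + w j + w k + w l + w m := by
  rw [huniv]
  rw [Finset.sum_insert, Finset.sum_insert, Finset.sum_insert, Finset.sum_insert,
    Finset.sum_singleton]
  · abel
  · simpa using hlm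
  · simp [hlk.symm, hmk.symm]
  · simp [hjk, hlj.symm, hmj.symm]
  · simp [hij, hik, hli.symm, hmi.symm]

/-- the quadratic-form computation (QF) in the `SC` calculus -/
theorem qf (h : SC ρV ρW s c) (htriv : ∀ g w, ρW g w = w) (w : Fin 5 → V)
    (hsum : ∑ i, w i = 0)
    (htr2 : ∀ i j i' j' : Fin 5, i ≠ j → i' ≠ j' →
      ∃ g : G, ρV g (w i) = w i' ∧ ρV g (w j) = w j') :
    ∃ a : W, (∀ i, s (w i) = 0) ∧ ∀ i j, i ≠ j → c (w i) (w j) = a := by
  -- `s` is constant on the `w i`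
  have hb : ∀ i j : Fin 5, s (w i) = s (w j) := by
    intro i j
    by_cases hij : i = j
    · rw [hij]
    · obtain ⟨k, hk⟩ : ∃ k : Fin 5, k ≠ i ∧ k ≠ j := by revert i j; decide
      obtain ⟨g, hg1, -⟩ := htr2 i k j k (Ne.symm hk.1) (Ne.symm hk.2)
      rw [← hg1, h.s_equiv, htriv]
  -- `c` is constant on pairs
  have ha : ∀ i j i' j' : Fin 5, i ≠ j → i' ≠ j' → c (w i) (w j) = c (w i') (w j') := by
    intro i j i' j' hij hij'
    obtain ⟨g, hg1, hg2⟩ := htr2 i j i' j' hij hij'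
    rw [← hg1, ← hg2, h.c_equiv, htriv]
  refine ⟨c (w 0) (w 1), ?_, fun i j hij => ha i j 0 1 hij (by decide)⟩
  -- `b = 0`
  have key : s (w 0) = 0 := by
    -- indices 0,1,2 and the rest 3,4
    have h5 : ∑ x, w x = w 0 + w 1 + w 2 + w 3 + w 4 := by
      rw [Fin.sum_univ_five]
    have h012 : w 0 + w 1 + w 2 = w 3 + w 4 := by
      have h34 := h.V2 (w 3 + w 4)
      have : w 0 + w 1 + w 2 + (w 3 + w 4) = 0 := by rw [← hsum, h5]; abel
      calc w 0 + w 1 + w 2 = w 0 + w 1 + w 2 + ((w 3 + w 4) + (w 3 + w 4)) := by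
            rw [h34, add_zero]
        _ = (w 0 + w 1 + w 2 + (w 3 + w 4)) + (w 3 + w 4) := by abel
        _ = w 3 + w 4 := by rw [this, zero_add]
    -- `c (w 0) (w 1 + w 2)` two ways
    have e1 : c (w 0) (w 1 + w 2) = 0 := by
      rw [h.c_add_right, ha 0 2 0 1 (by decide) (by decide), h.W2]
    have e2 : c (w 0) (w 1 + w 2) = s (w 3 + w 4) + s (w 0) + s (w 1 + w 2) := by
      rw [h.c_eq, ← add_assoc, h012]
    -- `s (w 3 + w 4) = s (w 1 + w 2)` by invariance
    have e3 : s (w 3 + w 4) = s (w 1 + w 2) := by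
      obtain ⟨g, hg1, hg2⟩ := htr2 1 2 3 4 (by decide) (by decide)
      rw [← hg1, ← hg2, ← map_add, h.s_equiv, htriv]
    rw [e1, e3] at e2
    have h2 := h.W2 (s (w 1 + w 2))
    calc s (w 0) = (s (w 1 + w 2) + s (w 1 + w 2)) + s (w 0) := by rw [h2, zero_add]
      _ = s (w 1 + w 2) + s (w 0) + s (w 1 + w 2) := by abel
      _ = 0 := e2.symm
  intro i
  rw [hb i 0, key]

/-- if all `s (w i)` and all `c (w i) (w j)` vanish and the `w i` span `V` (as a group) then
`s = 0` and `c = 0`. -/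
theorem zero_of_zero (h : SC ρV ρW s c) (w : Fin 5 → V)
    (hspan : AddSubgroup.closure (Set.range w) = ⊤)
    (hs0 : ∀ i, s (w i) = 0) (hc0 : ∀ i j, c (w i) (w j) = 0) :
    (∀ v, s v = 0) ∧ ∀ u v, c u v = 0 := by
  have hc1 : ∀ i v, c (w i) v = 0 := by
    intro i v
    have hv : v ∈ AddSubgroup.closure (Set.range w) := by rw [hspan]; trivial
    induction hv using AddSubgroup.closure_induction with
    | mem x hx => obtain ⟨j, rfl⟩ := hx; exact hc0 i j
    | zero => exact h.c_zero_right _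
    | add x y _ _ hx hy => rw [h.c_add_right, hx, hy, add_zero]
    | neg x _ hx =>
      have : -x = x := neg_eq_of_add_eq_zero_left (h.V2 x)
      rw [this, hx]
  have hc2 : ∀ u v, c u v = 0 := by
    intro u v
    have hu : u ∈ AddSubgroup.closure (Set.range w) := by rw [hspan]; trivial
    induction hu using AddSubgroup.closure_induction with
    | mem x hx => obtain ⟨j, rfl⟩ := hx; exact hc1 j v
    | zero => exact h.c_zero_left _
    | add x y _ _ hx hy => rw [h.c_add_left, hx, hy, add_zero]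
    | neg x _ hx =>
      have : -x = x := neg_eq_of_add_eq_zero_left (h.V2 x)
      rw [this, hx]
  refine ⟨?_, hc2⟩
  intro v
  have hv : v ∈ AddSubgroup.closure (Set.range w) := by rw [hspan]; trivial
  induction hv using AddSubgroup.closure_induction with
  | mem x hx => obtain ⟨j, rfl⟩ := hx; exact hs0 j
  | zero => exact h.s_zero
  | add x y _ _ hx hy => rw [h.s_add, hx, hy, hc2, add_zero, add_zero]
  | neg x _ hx =>
    have : -x = x := neg_eq_of_add_eq_zero_left (h.V2 x)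
    rw [this, hx]

/-- case `(O, triv)`, module level: either `s = 0 = c`, or `s (w i) = 0` and `c (w i) (w j) = a`
with `a ≠ 0`. -/
theorem case_O_triv (h : SC ρV ρW s c) (htriv : ∀ g w, ρW g w = w) (w : Fin 5 → V)
    (hsum : ∑ i, w i = 0)
    (htr2 : ∀ i j i' j' : Fin 5, i ≠ j → i' ≠ j' →
      ∃ g : G, ρV g (w i) = w i' ∧ ρV g (w j) = w j')
    (hspan : AddSubgroup.closure (Set.range w) = ⊤) :
    ((∀ v, s v = 0) ∧ ∀ u v, c u v = 0) ∨
      ∃ a : W, a ≠ 0 ∧ (∀ i, s (w i) = 0) ∧ ∀ i j, i ≠ j → c (w i) (w j) = a := by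
  obtain ⟨a, hs0, hca⟩ := qf h htriv w hsum htr2
  by_cases ha : a = 0
  · left
    apply zero_of_zero h w hspan hs0
    intro i j
    by_cases hij : i = j
    · rw [hij, h.c_self]
    · rw [hca i j hij, ha]
  · right
    exact ⟨a, ha, hs0, hca⟩

end Cfsg.Agent.Lib.Helper8.GH5OT
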