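import Mathlib
import Cfsg.Agent.Lib.Helper8.GH5OT
import Cfsg.Agent.Lib.Helper4.GH5MODefs

set_option autoImplicit false

/-!
# GH5 (S3106): case `(O, triv)` at module level, stated for helper4's `TypeOData`
-/

namespace Cfsg.Agent.Lib.Helper8.GH5OT

open Cfsg.Agent.Lib.Helper8.GH5Cases Cfsg.Agent.Lib.Helper4.GH5

set_option maxRecDepth 100000 in
/-- `A₅` is `2`-transitive on five points -/
theorem alt5_two_trans (i j i' j' : Fin 5) (hij : i ≠ j) (hij' : i' ≠ j') :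
    ∃ σ : alternatingGroup (Fin 5), (σ : Equiv.Perm (Fin 5)) i = i' ∧
      (σ : Equiv.Perm (Fin 5)) j = j' := by
  revert i j i' j'
  decide +kernel

variable {G V W : Type*} [Group G] [AddCommGroup V] [AddCommGroup W]
variable {ρV : G →* AddMonoid.End V} {ρW : G →* AddMonoid.End W} {s : V → W} {c : V → V → W}

theorem htr2_of_data (d : TypeOData ρV) (i j i' j' : Fin 5) (hij : i ≠ j) (hij' : i' ≠ j') :
    ∃ g : G, ρV g (d.w i) = d.w i' ∧ ρV g (d.w j) = d.w j' := by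
  obtain ⟨σ, h1, h2⟩ := alt5_two_trans i j i' j' hij hij'
  refine ⟨d.φ.symm σ, ?_, ?_⟩
  · rw [d.smul_w, MulEquiv.apply_symm_apply, h1]
  · rw [d.smul_w, MulEquiv.apply_symm_apply, h2]

theorem hspan_of_data (d : TypeOData ρV) : AddSubgroup.closure (Set.range d.w) = ⊤ := by
  rw [eq_top_iff]
  intro u _
  obtain ⟨S, rfl⟩ := d.span u
  apply AddSubgroup.sum_mem
  intro i _
  exact AddSubgroup.subset_closure ⟨i, rfl⟩

/-- case `(O, triv)`, module level, for `TypeOData` -/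
theorem case_O_triv_data (h : SC ρV ρW s c) (htriv : ∀ g w, ρW g w = w) (d : TypeOData ρV) :
    ((∀ v, s v = 0) ∧ ∀ u v, c u v = 0) ∨
      ∃ a : W, a ≠ 0 ∧ (∀ i, s (d.w i) = 0) ∧ (∀ i j, i ≠ j → c (d.w i) (d.w j) = a) ∧
        ∀ i j, i ≠ j → s (d.w i + d.w j) = a := by
  rcases case_O_triv h htriv d.w d.sum_w (htr2_of_data d) (hspan_of_data d) with h0 | ⟨a, ha, hs0, hca⟩
  · exact Or.inl h0
  · refine Or.inr ⟨a, ha, hs0, hca, ?_⟩
    intro i j hij
    rw [h.s_add, hs0, hs0, hca i j hij, zero_add, zero_add]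

end Cfsg.Agent.Lib.Helper8.GH5OT
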