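import Mathlib
import Cfsg.Agent.Lib.Helper2.GH7Defs

/-! # GH7 (S3105) unit NAT: a faithful module of order 8 of `L = SL(3, 2)` is the natural module
twisted by an automorphism of `L`. -/

set_option autoImplicit false
set_option linter.unusedVariables false
set_option linter.unusedSectionVars false
set_option linter.style.longLine false
set_option maxHeartbeats 1000000

namespace Cfsg.Agent.Lib.Helper8.GH7Nat

open Cfsg.Agent.Lib.Helper2.GH7

universe u

theorem zmod2_eq_one : ∀ a : ZMod 2, a ≠ 0 → a = 1 := by decide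

/-- **NAT** -/
theorem nat_coords {U : Type u} [AddCommGroup U] [Finite U] (ρ : L →* AddMonoid.End U)
    (h2 : ∀ x : U, x + x = 0) (hcard : Nat.card U = 8) (hinj : Function.Injective ρ) :
    ∃ (α : L ≃* L) (e : U ≃+ (Fin 3 → ZMod 2)), ∀ (g : L) (x : U),
      e (ρ g x) = Matrix.mulVec (α g : Matrix (Fin 3) (Fin 3) (ZMod 2)) (e x) := by
  classical
  have : Fact (Nat.Prime 2) := ⟨Nat.prime_two⟩
  let _ : Module (ZMod 2) U := AddCommGroup.zmodModule (n := 2) (by intro x; rw [two_nsmul]; exact h2 x)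
  have : Module.Finite (ZMod 2) U := Module.Finite.of_finite
  have hfr : Module.finrank (ZMod 2) U = 3 := by
    have h1 := Module.natCard_eq_pow_finrank (K := ZMod 2) (V := U)
    rw [hcard, Nat.card_zmod] at h1
    have h3 : (2 : ℕ) ^ 3 = 2 ^ Module.finrank (ZMod 2) U := by rw [← h1]; norm_num
    exact (Nat.pow_right_injective (le_refl 2) h3).symm
  have hfr' : Module.finrank (ZMod 2) U = Module.finrank (ZMod 2) (Fin 3 → ZMod 2) := by
    rw [hfr, Module.finrank_fin_fun]
  obtain ⟨el⟩ := FiniteDimensional.nonempty_linearEquiv_of_finrank_eq hfr'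
  -- the transported linear maps
  obtain ⟨T, hT⟩ : ∃ T : L → ((Fin 3 → ZMod 2) →ₗ[ZMod 2] (Fin 3 → ZMod 2)),
      ∀ g v, T g v = el (ρ g (el.symm v)) :=
    ⟨fun g => (el.toLinearMap.comp (AddMonoidHom.toZModLinearMap 2 (ρ g))).comp el.symm.toLinearMap,
      fun g v => rfl⟩
  have hT1 : T 1 = LinearMap.id := by
    apply LinearMap.ext
    intro v
    rw [hT, map_one]
    simp
  have hTmul : ∀ g h, T (g * h) = (T g).comp (T h) := by
    intro g h
    apply LinearMap.ext
    intro v
    rw [LinearMap.comp_apply, hT, hT, hT, map_mul]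
    simp
  obtain ⟨M, hM⟩ : ∃ M : L → Matrix (Fin 3) (Fin 3) (ZMod 2), ∀ g, M g = LinearMap.toMatrix' (T g) :=
    ⟨fun g => LinearMap.toMatrix' (T g), fun g => rfl⟩
  have hM1 : M 1 = 1 := by
    rw [hM, hT1, LinearMap.toMatrix'_id]
  have hMmul : ∀ g h, M (g * h) = M g * M h := by
    intro g h
    rw [hM, hM, hM, hTmul, LinearMap.toMatrix'_comp]
  have hMvec : ∀ g v, (M g).mulVec v = T g v := by
    intro g v
    rw [hM, ← Matrix.toLin'_apply, Matrix.toLin'_toMatrix']
  have hdet : ∀ g, (M g).det = 1 := by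
    intro g
    apply zmod2_eq_one
    intro h0
    have h1 : (M g).det * (M g⁻¹).det = 1 := by
      rw [← Matrix.det_mul, ← hMmul, mul_inv_cancel, hM1, Matrix.det_one]
    rw [h0, zero_mul] at h1
    exact zero_ne_one h1
  let α0 : L →* L :=
    { toFun := fun g => ⟨M g, hdet g⟩
      map_one' := Subtype.ext hM1
      map_mul' := fun g h => Subtype.ext (hMmul g h) }
  have hα0 : ∀ g, ((α0 g : L) : Matrix (Fin 3) (Fin 3) (ZMod 2)) = M g := fun g => rfl
  have hα0inj : Function.Injective α0 := by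
    intro g h hgh
    apply hinj
    have h1 : M g = M h := by rw [← hα0, ← hα0, hgh]
    apply AddMonoidHom.ext
    intro x
    have h3 : T g (el x) = T h (el x) := by rw [← hMvec, ← hMvec, h1]
    rw [hT, hT, el.symm_apply_apply] at h3
    exact el.injective h3
  have hα0bij : Function.Bijective α0 := ⟨hα0inj, Finite.injective_iff_surjective.mp hα0inj⟩
  refine ⟨MulEquiv.ofBijective α0 hα0bij, el.toAddEquiv, ?_⟩
  intro g x
  have h1 : ((MulEquiv.ofBijective α0 hα0bij g : L) : Matrix (Fin 3) (Fin 3) (ZMod 2)) = M g := rfl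
  rw [h1]
  show el (ρ g x) = (M g).mulVec (el x)
  rw [hMvec, hT, el.symm_apply_apply]

end Cfsg.Agent.Lib.Helper8.GH7Nat
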