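import Mathlib
import Cfsg.Agent.Lib.Helper2.GH7Defs
import Cfsg.Agent.Lib.Helper8.GH7Nat

/-! # GH7 (S3105) tool: `L`-modules and coordinates from group-level data through `θ : G →* L` -/

set_option autoImplicit false
set_option linter.unusedVariables false
set_option linter.unusedSectionVars false
set_option linter.style.longLine false
set_option maxHeartbeats 1000000

namespace Cfsg.Agent.Lib.Helper8.GH7Mod

open Cfsg.Agent.Lib.Helper2.GH7

universe u v

variable {G : Type u} [Group G]

/-- an action of `G` whose kernel contains `ker θ` factors through the surjection `θ` -/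
theorem lift_through (θ : G →* L) (hsurj : Function.Surjective θ) {V : Type v} [AddCommGroup V]
    (ρ' : G →* AddMonoid.End V) (hk : ∀ g : G, θ g = 1 → ρ' g = 1) :
    ∃ ρ : L →* AddMonoid.End V, ∀ g : G, ρ (θ g) = ρ' g := by
  have hs : ∀ l : L, θ (Function.surjInv hsurj l) = l := Function.surjInv_eq hsurj
  have hcongr : ∀ a b : G, θ a = θ b → ρ' a = ρ' b := by
    intro a b hab
    have h1 : θ (a * b⁻¹) = 1 := by rw [map_mul, map_inv, hab, mul_inv_cancel]
    have h2 : ρ' a = ρ' (a * b⁻¹) * ρ' b := by rw [← map_mul, inv_mul_cancel_right]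
    rw [h2, hk _ h1, one_mul]
  refine ⟨{ toFun := fun l => ρ' (Function.surjInv hsurj l), map_one' := ?_, map_mul' := ?_ }, ?_⟩
  · show ρ' (Function.surjInv hsurj 1) = 1
    rw [hcongr _ 1 (by rw [hs, map_one]), map_one]
  · intro l l'
    show ρ' (Function.surjInv hsurj (l * l')) = ρ' (Function.surjInv hsurj l) * ρ' (Function.surjInv hsurj l')
    rw [← map_mul]
    exact hcongr _ _ (by rw [hs, map_mul, hs, hs])
  · intro g
    show ρ' (Function.surjInv hsurj (θ g)) = ρ' g
    exact hcongr _ _ (hs _)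

/-- coordinates: a `G`-module of order 8 and exponent 2 on which exactly `ker θ` acts trivially is the natural
module of `L`, twisted by an automorphism `α` of `L`. -/
theorem coords (θ : G →* L) (hsurj : Function.Surjective θ) {V : Type v} [AddCommGroup V] [Finite V]
    (ρ' : G →* AddMonoid.End V) (hk : ∀ g : G, θ g = 1 → ρ' g = 1)
    (h2 : ∀ x : V, x + x = 0) (hcard : Nat.card V = 8) (hf : ∀ g : G, ρ' g = 1 → θ g = 1) :
    ∃ (α : L ≃* L) (e : V ≃+ (Fin 3 → ZMod 2)), ∀ (g : G) (x : V),
      e (ρ' g x) = Matrix.mulVec (α (θ g) : Matrix (Fin 3) (Fin 3) (ZMod 2)) (e x) := by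
  obtain ⟨ρ, hρ⟩ := lift_through θ hsurj ρ' hk
  have hinj : Function.Injective ρ := by
    rw [injective_iff_map_eq_one]
    intro l hl
    obtain ⟨g, rfl⟩ := hsurj l
    rw [hρ] at hl
    exact hf g hl
  obtain ⟨α, e, h⟩ := Cfsg.Agent.Lib.Helper8.GH7Nat.nat_coords ρ h2 hcard hinj
  refine ⟨α, e, fun g x => ?_⟩
  rw [← hρ]
  exact h (θ g) x

end Cfsg.Agent.Lib.Helper8.GH7Mod
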