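import Mathlib
import Cfsg.Agent.Lib.Lead.UniqueP
import Cfsg.Agent.Lib.Helper1.MaxAbelianNormal
import Cfsg.Agent.Lib.Helper2.PGroupNormal
import Cfsg.Agent.Lib.Helper2.PGroup

/-!
A finite 2-group containing an elementary abelian subgroup of order at least 8 has a normal
four-group.
-/

namespace Cfsg.Agent.Lib.Helper8.NormalFour

variable {P : Type*} [Group P]

/-- `Ω₁` of an abelian subgroup (exponent 2 version). -/
def omegaTwo (A : Subgroup P) (hA : ∀ x ∈ A, ∀ y ∈ A, x * y = y * x) : Subgroup P where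
  carrier := {x | x ∈ A ∧ x ^ 2 = 1}
  mul_mem' := by
    rintro x y ⟨hx, hx2⟩ ⟨hy, hy2⟩
    refine ⟨A.mul_mem hx hy, ?_⟩
    have hc : Commute x y := hA x hx y hy
    rw [hc.mul_pow, hx2, hy2, one_mul]
  one_mem' := ⟨A.one_mem, one_pow 2⟩
  inv_mem' := by
    rintro x ⟨hx, hx2⟩
    exact ⟨A.inv_mem hx, by rw [inv_pow, hx2, inv_one]⟩

theorem mem_omegaTwo {A : Subgroup P} {hA : ∀ x ∈ A, ∀ y ∈ A, x * y = y * x} {x : P} :
    x ∈ omegaTwo A hA ↔ x ∈ A ∧ x ^ 2 = 1 := Iff.rfl

theorem omegaTwo_le (A : Subgroup P) (hA : ∀ x ∈ A, ∀ y ∈ A, x * y = y * x) :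
    omegaTwo A hA ≤ A := fun _ hx => hx.1

theorem omegaTwo_normal (A : Subgroup P) (hA : ∀ x ∈ A, ∀ y ∈ A, x * y = y * x) [hAn : A.Normal] :
    (omegaTwo A hA).Normal := by
  constructor
  rintro x ⟨hx, hx2⟩ g
  refine ⟨hAn.conj_mem x hx g, ?_⟩
  rw [conj_pow, hx2, mul_one, mul_inv_cancel]

/-- conjugation acts as a power map on a cyclic normal subgroup -/
theorem conj_eq_pow_of_cyclic (A : Subgroup P) [hAn : A.Normal] (a : P)
    (ha : ∀ x ∈ A, ∃ k : ℕ, a ^ k = x) (haA : a ∈ A) (g : P) :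
    ∃ s : ℕ, ∀ x ∈ A, g * x * g⁻¹ = x ^ s := by
  obtain ⟨s, hs⟩ := ha _ (hAn.conj_mem a haA g)
  refine ⟨s, ?_⟩
  intro x hx
  obtain ⟨k, rfl⟩ := ha x hx
  rw [← conj_pow, ← hs, ← pow_mul, ← pow_mul, mul_comm]

theorem card_le_two_mul_of_invert [Finite P] (E : Subgroup P) (b : P)
    (h : ∀ e ∈ E, e * b * e⁻¹ = b ∨ e * b * e⁻¹ = b⁻¹) :
    Nat.card E ≤ 2 * Nat.card (E ⊓ Subgroup.centralizer {b} : Subgroup P) := by
  classical
  set K : Subgroup P := E ⊓ Subgroup.centralizer {b} with hK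
  have hcentr : ∀ x : P, x ∈ Subgroup.centralizer {b} ↔ x * b * x⁻¹ = b := by
    intro x
    rw [Subgroup.mem_centralizer_singleton_iff]
    constructor
    · intro hx
      rw [hx, mul_inv_cancel_right]
    · intro hx
      calc x * b = (x * b * x⁻¹) * x := by group
        _ = b * x := by rw [hx]
  by_cases hall : ∀ e ∈ E, e ∈ K
  · have : E ≤ K := hall
    have := Subgroup.card_le_of_le this
    omega
  · push Not at hall
    obtain ⟨x₀, hx₀E, hx₀K⟩ := hall
    have hx₀inv : x₀ * b * x₀⁻¹ = b⁻¹ := by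
      rcases h x₀ hx₀E with h1 | h1
      · exact absurd (Subgroup.mem_inf.2 ⟨hx₀E, (hcentr x₀).2 h1⟩) hx₀K
      · exact h1
    let f : E → K × Bool := fun y =>
      if hy : (y : P) ∈ K then (⟨y, hy⟩, false)
      else (⟨x₀⁻¹ * y, by
        refine Subgroup.mem_inf.2 ⟨E.mul_mem (E.inv_mem hx₀E) y.2, ?_⟩
        rw [hcentr]
        have hyinv : (y : P) * b * (y : P)⁻¹ = b⁻¹ := by
          rcases h y y.2 with h1 | h1
          · exact absurd (Subgroup.mem_inf.2 ⟨y.2, (hcentr y).2 h1⟩) hy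
          · exact h1
        have e1 : x₀⁻¹ * (y : P) * b * (x₀⁻¹ * (y : P))⁻¹ = x₀⁻¹ * ((y : P) * b * (y : P)⁻¹) * x₀ := by
          group
        rw [e1, hyinv]
        have e2 : x₀⁻¹ * b⁻¹ * x₀ = (x₀⁻¹ * b * x₀)⁻¹ := by group
        rw [e2]
        have e4 : b = x₀⁻¹ * b⁻¹ * x₀ := by
          rw [← hx₀inv]; group
        have e3 : x₀⁻¹ * b * x₀ = b⁻¹ := by
          have e5 : x₀⁻¹ * b * x₀ = (x₀⁻¹ * b⁻¹ * x₀)⁻¹ := by group
          rw [e5, ← e4]
        rw [e3, inv_inv]⟩, true)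
    have hf : Function.Injective f := by
      intro y y' hyy'
      by_cases hy : (y : P) ∈ K <;> by_cases hy' : (y' : P) ∈ K
      · simp only [f, dif_pos hy, dif_pos hy'] at hyy'
        have := congrArg (fun t : K × Bool => (t.1 : P)) hyy'
        exact Subtype.ext this
      · simp only [f, dif_pos hy, dif_neg hy'] at hyy'
        have := congrArg Prod.snd hyy'
        simp at this
      · simp only [f, dif_neg hy, dif_pos hy'] at hyy'
        have := congrArg Prod.snd hyy'
        simp at this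
      · simp only [f, dif_neg hy, dif_neg hy'] at hyy'
        have := congrArg (fun t : K × Bool => (t.1 : P)) hyy'
        simp only at this
        exact Subtype.ext (mul_left_cancel this)
    have := Nat.card_le_card_of_injective f hf
    rw [Nat.card_prod, Nat.card_eq_fintype_card (α := Bool), Fintype.card_bool] at this
    omega

theorem normal_four_of_cyclic [Finite P] (hP : IsPGroup 2 P) (A : Subgroup P) [hAn : A.Normal]
    (hcent : Subgroup.centralizer (A : Set P) = A)
    (a : P) (haA : a ∈ A) (ha : ∀ x ∈ A, ∃ k : ℕ, a ^ k = x)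
    (E : Subgroup P) (hEc : ∀ x ∈ E, ∀ y ∈ E, x * y = y * x) (hE2 : ∀ x ∈ E, x ^ 2 = 1)
    (hE8 : 8 ≤ Nat.card E) :
    ∃ U : Subgroup P, U.Normal ∧ (∀ x ∈ U, ∀ y ∈ U, x * y = y * x) ∧ (∀ x ∈ U, x ^ 2 = 1) ∧
      Nat.card U = 4 := by
  classical
  have hAz : A = Subgroup.zpowers a := by
    apply le_antisymm
    · intro x hx
      obtain ⟨k, rfl⟩ := ha x hx
      exact Subgroup.pow_mem _ (Subgroup.mem_zpowers a) k
    · exact Subgroup.zpowers_le.2 haA
  have hAc : ∀ x ∈ A, ∀ y ∈ A, x * y = y * x := by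
    intro x hx y hy
    obtain ⟨k, rfl⟩ := ha x hx
    obtain ⟨l, rfl⟩ := ha y hy
    rw [← pow_add, ← pow_add, add_comm]
  obtain ⟨n, hn⟩ := (IsPGroup.iff_orderOf.1 hP) a
  have hcardA : Nat.card A = 2 ^ n := by
    rw [hAz, Nat.card_zpowers, hn]
  -- n ≥ 2
  have hn2 : 2 ≤ n := by
    by_contra hlt
    push Not at hlt
    have hcA : Nat.card A ≤ 2 := by
      rw [hcardA]
      calc 2 ^ n ≤ 2 ^ 1 := Nat.pow_le_pow_right (by norm_num) (by omega)
        _ = 2 := by norm_num
    have ha2 : a ^ 2 = 1 := by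
      rw [← orderOf_dvd_iff_pow_eq_one, hn]
      calc 2 ^ n ∣ 2 ^ 1 := pow_dvd_pow 2 (by omega)
        _ = 2 := by norm_num
    have hEA : E ≤ A := by
      intro e he
      rw [← hcent, Subgroup.mem_centralizer_iff]
      intro x hx
      -- e a e⁻¹ ∈ A
      obtain ⟨s, hs⟩ := conj_eq_pow_of_cyclic A a ha haA e
      have h1 := hs a haA
      have h2 : e * a * e⁻¹ = a := by
        rcases Nat.even_or_odd' s with ⟨t, ht | ht⟩
        · rw [ht, pow_mul, ha2, one_pow] at h1
          have : a = 1 := by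
            have h3 : e * a * e⁻¹ = e * 1 * e⁻¹ := by rw [h1]; group
            exact mul_left_cancel (mul_right_cancel h3)
          rw [this]; group
        · rw [ht, pow_succ, pow_mul, ha2, one_pow, one_mul] at h1
          exact h1
      obtain ⟨k, rfl⟩ := ha x hx
      have hcomm : Commute e a := by
        show e * a = a * e
        calc e * a = (e * a * e⁻¹) * e := by group
          _ = a * e := by rw [h2]
      exact ((hcomm.pow_right k).eq).symm
    have := Subgroup.card_le_of_le hEA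
    omega
  -- the element of order 4
  set b : P := a ^ (2 ^ (n - 2)) with hb
  have hbA : b ∈ A := A.pow_mem haA _
  have hbord : orderOf b = 4 := by
    rw [hb, orderOf_pow' a (pow_ne_zero _ (by norm_num)), hn,
      Nat.gcd_eq_right (pow_dvd_pow 2 (by omega))]
    have : 2 ^ n = 2 ^ (n - 2) * 4 := by
      rw [show (4 : ℕ) = 2 ^ 2 by norm_num, ← pow_add]
      congr 1; omega
    rw [this, Nat.mul_div_cancel_left _ (pow_pos (by norm_num) _)]
  have hb4 : b ^ 4 = 1 := by rw [← hbord, pow_orderOf_eq_one]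
  set z : P := b ^ 2 with hz
  have hzA : z ∈ A := A.pow_mem hbA _
  have hz2 : z ^ 2 = 1 := by rw [hz, ← pow_mul]; exact hb4
  have hz1 : z ≠ 1 := by
    intro h
    have := orderOf_dvd_of_pow_eq_one h
    rw [hbord] at this
    omega
  -- uniqueness of the subgroup of order 4
  have uniq4 : ∀ x ∈ A, x ^ 4 = 1 → ∃ j : ℕ, b ^ j = x := by
    intro x hx hx4
    obtain ⟨k, rfl⟩ := ha x hx
    rw [← pow_mul, ← orderOf_dvd_iff_pow_eq_one, hn] at hx4
    have h1 : 2 ^ n = 2 ^ (n - 2) * 4 := by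
      rw [show (4 : ℕ) = 2 ^ 2 by norm_num, ← pow_add]
      congr 1; omega
    rw [h1, mul_comm k 4, mul_comm _ 4] at hx4
    have h2 : 2 ^ (n - 2) ∣ k := Nat.dvd_of_mul_dvd_mul_left (by norm_num) hx4
    obtain ⟨j, rfl⟩ := h2
    exact ⟨j, by rw [hb, ← pow_mul]⟩
  have bpow : ∀ j : ℕ, b ^ j = 1 ∨ b ^ j = b ∨ b ^ j = z ∨ b ^ j = b⁻¹ := by
    intro j
    have h1 : b ^ j = b ^ (j % 4) := by
      conv_lhs => rw [← Nat.div_add_mod j 4, pow_add, pow_mul, hb4, one_pow, one_mul]
    have h2 : j % 4 < 4 := Nat.mod_lt _ (by norm_num)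
    rw [h1]
    interval_cases (j % 4)
    · left; simp
    · right; left; simp
    · right; right; left; rfl
    · right; right; right
      rw [eq_inv_iff_mul_eq_one, ← pow_succ]
      exact hb4
  have hbinv : b⁻¹ ≠ b := by
    intro h
    have : b ^ 2 = 1 := by
      rw [pow_two]
      nth_rewrite 1 [← h]
      exact inv_mul_cancel b
    exact hz1 this
  -- involutions of A
  have invA : ∀ x ∈ A, x ^ 2 = 1 → x = 1 ∨ x = z := by
    intro x hx hx2
    have hx4 : x ^ 4 = 1 := by
      rw [show 4 = 2 * 2 by norm_num, pow_mul, hx2, one_pow]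
    obtain ⟨j, rfl⟩ := uniq4 x hx hx4
    rcases bpow j with h | h | h | h
    · left; exact h
    · exfalso
      rw [h] at hx2
      exact hz1 hx2
    · right; exact h
    · exfalso
      rw [h, inv_pow] at hx2
      have : b ^ 2 = 1 := by rw [← inv_inv (b ^ 2), hx2, inv_one]
      exact hz1 this
  -- z is central
  have hzc : ∀ g : P, g * z * g⁻¹ = z := by
    intro g
    have h1 : g * z * g⁻¹ ∈ A := hAn.conj_mem z hzA g
    have h2 : (g * z * g⁻¹) ^ 2 = 1 := by rw [conj_pow, hz2]; group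
    rcases invA _ h1 h2 with h | h
    · exfalso
      apply hz1
      have h3 : g * z * g⁻¹ = g * 1 * g⁻¹ := by rw [h]; group
      exact mul_left_cancel (mul_right_cancel h3)
    · exact h
  -- the action of E on b
  have hEb : ∀ e ∈ E, e * b * e⁻¹ = b ∨ e * b * e⁻¹ = b⁻¹ := by
    intro e he
    have h1 : e * b * e⁻¹ ∈ A := hAn.conj_mem b hbA e
    have h2 : (e * b * e⁻¹) ^ 4 = 1 := by rw [conj_pow, hb4]; group
    obtain ⟨j, hj⟩ := uniq4 _ h1 h2
    have hord : orderOf (e * b * e⁻¹) = 4 := by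
      rw [← hbord]
      exact orderOf_injective (MulAut.conj e).toMonoidHom (MulAut.conj e).injective b
    rcases bpow j with h | h | h | h
    · exfalso
      rw [← hj, h, orderOf_one] at hord
      omega
    · left; rw [← hj, h]
    · exfalso
      rw [← hj, h] at hord
      have := orderOf_dvd_of_pow_eq_one hz2
      rw [hord] at this
      omega
    · right; rw [← hj, h]
  have hcardK := card_le_two_mul_of_invert E b hEb
  set K : Subgroup P := E ⊓ Subgroup.centralizer {b} with hK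
  -- an element of K outside A
  obtain ⟨e, heK, heA⟩ : ∃ e ∈ K, e ∉ A := by
    by_contra hcon
    push Not at hcon
    have hKz : K ≤ Subgroup.zpowers z := by
      intro x hx
      have hxE : x ∈ E := (Subgroup.mem_inf.1 hx).1
      rcases invA x (hcon x hx) (hE2 x hxE) with h | h
      · rw [h]; exact Subgroup.one_mem _
      · rw [h]; exact Subgroup.mem_zpowers z
    have h1 := Subgroup.card_le_of_le hKz
    rw [Nat.card_zpowers] at h1
    have h2 : orderOf z ≤ 2 := Nat.le_of_dvd (by norm_num) (orderOf_dvd_of_pow_eq_one hz2)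
    omega
  have heE : e ∈ E := (Subgroup.mem_inf.1 heK).1
  have heb : e * b = b * e := by
    have := (Subgroup.mem_inf.1 heK).2
    rw [Subgroup.mem_centralizer_singleton_iff] at this
    exact this
  have he2 : e ^ 2 = 1 := hE2 e heE
  have heinv : e⁻¹ = e := by
    rw [inv_eq_iff_mul_eq_one, ← pow_two]
    exact he2
  have he1 : e ≠ 1 := fun h => heA (h ▸ A.one_mem)
  have hez : e * z = z * e := by
    have := hzc e
    calc e * z = (e * z * e⁻¹) * e := by group
      _ = z * e := by rw [this]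
  -- conjugates of e
  have hconj : ∀ g : P, g * e * g⁻¹ = e ∨ g * e * g⁻¹ = z * e := by
    intro g
    obtain ⟨s, hs⟩ := conj_eq_pow_of_cyclic A a ha haA g⁻¹
    obtain ⟨k, hk⟩ := conj_eq_pow_of_cyclic A a ha haA e
    set e' := g * e * g⁻¹ with he'
    have hact : ∀ x ∈ A, e' * x * e'⁻¹ = e * x * e⁻¹ := by
      intro x hx
      have h1 : e' * x * e'⁻¹ = g * (e * (g⁻¹ * x * g⁻¹⁻¹) * e⁻¹) * g⁻¹ := by
        rw [he']; group
      rw [h1, hs x hx, hk _ (A.pow_mem hx s), ← conj_pow, ← hs x hx, hk x hx]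
      congr 1
      group
    set c := e' * e⁻¹ with hc
    have hcA : c ∈ A := by
      rw [← hcent, Subgroup.mem_centralizer_iff]
      intro x hx
      have hx' : e⁻¹ * x * e ∈ A := by
        have := hAn.conj_mem x hx e⁻¹
        rwa [inv_inv] at this
      have h1 := hact _ hx'
      have h2 : e * (e⁻¹ * x * e) * e⁻¹ = x := by group
      rw [h2] at h1
      -- e' (e⁻¹ x e) e'⁻¹ = x
      calc x * c = (e' * (e⁻¹ * x * e) * e'⁻¹) * (e' * e⁻¹) := by rw [h1, hc]
        _ = c * x := by rw [hc]; group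
    have he'2 : e' ^ 2 = 1 := by rw [he', conj_pow, he2]; group
    have he'c : e' = c * e := by rw [hc]; group
    -- e inverts c
    have hinv : e * c * e⁻¹ = c⁻¹ := by
      have h1 : c * e * (c * e) = 1 := by rw [← he'c, ← pow_two, he'2]
      rw [heinv]
      have h2 : e * c * e = c⁻¹ * (c * e * (c * e)) := by group
      rw [h2, h1, mul_one]
    have hinvpow : ∀ m : ℕ, e * c ^ m * e⁻¹ = (c ^ m)⁻¹ := by
      intro m
      rw [← conj_pow, hinv, inv_pow]
    -- c² = 1
    have hc2 : c ^ 2 = 1 := by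
      obtain ⟨j, hj⟩ := (IsPGroup.iff_orderOf.1 hP) c
      by_contra hne
      have hj2 : 2 ≤ j := by
        by_contra hlt
        push Not at hlt
        apply hne
        rw [← orderOf_dvd_iff_pow_eq_one, hj]
        calc 2 ^ j ∣ 2 ^ 1 := pow_dvd_pow 2 (by omega)
          _ = 2 := by norm_num
      set c' := c ^ (2 ^ (j - 2)) with hc'
      have hc'ord : orderOf c' = 4 := by
        rw [hc', orderOf_pow' c (pow_ne_zero _ (by norm_num)), hj,
          Nat.gcd_eq_right (pow_dvd_pow 2 (by omega))]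
        have : 2 ^ j = 2 ^ (j - 2) * 4 := by
          rw [show (4 : ℕ) = 2 ^ 2 by norm_num, ← pow_add]
          congr 1; omega
        rw [this, Nat.mul_div_cancel_left _ (pow_pos (by norm_num) _)]
      have hc'A : c' ∈ A := A.pow_mem hcA _
      have hc'4 : c' ^ 4 = 1 := by rw [← hc'ord, pow_orderOf_eq_one]
      obtain ⟨i, hi⟩ := uniq4 c' hc'A hc'4
      have h1 : e * c' * e⁻¹ = c' := by
        rw [← hi, ← conj_pow]
        have : e * b * e⁻¹ = b := by rw [heb]; group
        rw [this]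
      have h2 : e * c' * e⁻¹ = c'⁻¹ := hinvpow _
      rw [h1] at h2
      have h3 : c' ^ 2 = 1 := by
        rw [pow_two]
        nth_rewrite 1 [h2]
        exact inv_mul_cancel c'
      have := orderOf_dvd_of_pow_eq_one h3
      rw [hc'ord] at this
      omega
    rcases invA c hcA hc2 with h | h
    · left; rw [he'c, h, one_mul]
    · right; rw [he'c, h]
  -- the four-group
  set Z := Subgroup.zpowers z with hZ
  set T := Subgroup.zpowers e with hT
  have hZn : Z.Normal := by
    constructor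
    intro x hx g
    obtain ⟨k, rfl⟩ := Subgroup.mem_zpowers_iff.1 hx
    rw [← conj_zpow, hzc g]
    exact Subgroup.zpow_mem _ (Subgroup.mem_zpowers z) k
  have hmemU : ∀ x : P, x ∈ T ⊔ Z ↔ ∃ t ∈ T, ∃ w ∈ Z, t * w = x := by
    intro x
    rw [← SetLike.mem_coe, Subgroup.mul_normal, Set.mem_mul]
    rfl
  have hT2 : ∀ t ∈ T, t ^ 2 = 1 := by
    intro t ht
    obtain ⟨k, rfl⟩ := Subgroup.mem_zpowers_iff.1 ht
    rw [← zpow_natCast, ← zpow_mul, mul_comm, zpow_mul, zpow_natCast, he2, one_zpow]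
  have hZ2 : ∀ w ∈ Z, w ^ 2 = 1 := by
    intro t ht
    obtain ⟨k, rfl⟩ := Subgroup.mem_zpowers_iff.1 ht
    rw [← zpow_natCast, ← zpow_mul, mul_comm, zpow_mul, zpow_natCast, hz2, one_zpow]
  have hZc : ∀ w ∈ Z, ∀ x : P, w * x = x * w := by
    intro w hw x
    obtain ⟨k, rfl⟩ := Subgroup.mem_zpowers_iff.1 hw
    have : Commute z x := by
      show z * x = x * z
      have := hzc x
      calc z * x = (x * z * x⁻¹) * x := by rw [this]
        _ = x * z := by group
    exact (this.zpow_left k).eq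
  have hTc : ∀ t ∈ T, ∀ t' ∈ T, t * t' = t' * t := by
    intro t ht t' ht'
    obtain ⟨k, rfl⟩ := Subgroup.mem_zpowers_iff.1 ht
    obtain ⟨l, rfl⟩ := Subgroup.mem_zpowers_iff.1 ht'
    rw [← zpow_add, ← zpow_add, add_comm]
  refine ⟨T ⊔ Z, ?_, ?_, ?_, ?_⟩
  · -- normal
    constructor
    intro x hx g
    obtain ⟨t, ht, w, hw, rfl⟩ := (hmemU x).1 hx
    have e1 : g * (t * w) * g⁻¹ = (g * t * g⁻¹) * (g * w * g⁻¹) := by group
    rw [e1]
    apply Subgroup.mul_mem
    · obtain ⟨k, rfl⟩ := Subgroup.mem_zpowers_iff.1 ht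
      rw [← conj_zpow]
      apply Subgroup.zpow_mem
      rcases hconj g with h | h
      · rw [h]
        exact (le_sup_left : T ≤ T ⊔ Z) (Subgroup.mem_zpowers e)
      · rw [h]
        exact Subgroup.mul_mem _ ((le_sup_right : Z ≤ T ⊔ Z) (Subgroup.mem_zpowers z))
          ((le_sup_left : T ≤ T ⊔ Z) (Subgroup.mem_zpowers e))
    · exact (le_sup_right : Z ≤ T ⊔ Z) (hZn.conj_mem w hw g)
  · -- commutative
    intro x hx y hy
    obtain ⟨t, ht, w, hw, rfl⟩ := (hmemU x).1 hx
    obtain ⟨t', ht', w', hw', rfl⟩ := (hmemU y).1 hy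
    calc t * w * (t' * w') = t * (w * t') * w' := by group
      _ = t * (t' * w) * w' := by rw [hZc w hw t']
      _ = (t * t') * (w * w') := by group
      _ = (t' * t) * (w' * w) := by rw [hTc t ht t' ht', hZc w hw w']
      _ = t' * (t * w') * w := by group
      _ = t' * (w' * t) * w := by rw [hZc w' hw' t]
      _ = t' * w' * (t * w) := by group
  · -- exponent 2
    intro x hx
    obtain ⟨t, ht, w, hw, rfl⟩ := (hmemU x).1 hx
    have hcomm : Commute t w := (hZc w hw t).symm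
    rw [hcomm.mul_pow, hT2 t ht, hZ2 w hw, one_mul]
  · -- card
    have hcZ : Nat.card Z = 2 := by
      rw [hZ, Nat.card_zpowers]
      exact orderOf_eq_prime hz2 hz1
    have hcT : Nat.card T = 2 := by
      rw [hT, Nat.card_zpowers]
      exact orderOf_eq_prime he2 he1
    have hZT : Z ⊓ T = ⊥ := by
      rw [eq_bot_iff]
      intro x hx
      obtain ⟨hxZ, hxT⟩ := Subgroup.mem_inf.1 hx
      rw [Subgroup.mem_bot]
      by_contra hx1
      -- x = z and x = e
      have hxA : x ∈ A := (Subgroup.zpowers_le.2 hzA) hxZ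
      have h1 : x = z := (invA x hxA (hZ2 x hxZ)).resolve_left hx1
      -- e ∈ zpowers x
      have h2 : Subgroup.zpowers x = T := by
        apply Subgroup.eq_of_le_of_card_ge (Subgroup.zpowers_le.2 hxT)
        rw [hcT, Nat.card_zpowers, orderOf_eq_prime (hZ2 x hxZ) hx1]
      have h3 : e ∈ Subgroup.zpowers x := by rw [h2]; exact Subgroup.mem_zpowers e
      exact heA ((Subgroup.zpowers_le.2 hxA) h3)
    have h1 := Cfsg.Agent.Lib.Helper2.card_mul_relIndex (le_sup_right : Z ≤ T ⊔ Z)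
    rw [Subgroup.relIndex_sup_right, ← Subgroup.inf_relIndex_right, hZT,
      Subgroup.relIndex_bot_left, hcZ, hcT] at h1
    omega

theorem exists_normal_four [Finite P] (hP : IsPGroup 2 P) (E : Subgroup P)
    (hEc : ∀ x ∈ E, ∀ y ∈ E, x * y = y * x) (hE2 : ∀ x ∈ E, x ^ 2 = 1) (hE8 : 8 ≤ Nat.card E) :
    ∃ U : Subgroup P, U.Normal ∧ (∀ x ∈ U, ∀ y ∈ U, x * y = y * x) ∧ (∀ x ∈ U, x ^ 2 = 1) ∧
      Nat.card U = 4 := by
  classical
  haveI : Fact (Nat.Prime 2) := ⟨Nat.prime_two⟩
  haveI : Group.IsNilpotent P := hP.isNilpotent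
  let 𝒮 : Set (Subgroup P) := {M | M.Normal ∧ IsMulCommutative M}
  have h𝒮 : 𝒮.Nonempty := ⟨⊥, Subgroup.normal_bot, inferInstance⟩
  obtain ⟨A, ⟨hAn, hAcomm⟩, hmax⟩ := Set.exists_max_image 𝒮 (fun M => Nat.card M)
    (Set.toFinite 𝒮) h𝒮
  haveI := hAn
  haveI := hAcomm
  have hmax' : ∀ M : Subgroup P, M.Normal → IsMulCommutative M → A ≤ M → M = A := by
    intro M hMn hMc hAM
    exact (Subgroup.eq_of_le_of_card_ge hAM (hmax M ⟨hMn, hMc⟩)).symm
  have hcent := Cfsg.Agent.Lib.Helper1.centralizer_eq_of_maximal_abelian_normal A hmax'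
  have hAc : ∀ x ∈ A, ∀ y ∈ A, x * y = y * x := by
    intro x hx y hy
    have := mul_comm' (⟨x, hx⟩ : A) ⟨y, hy⟩
    exact congrArg Subtype.val this
  set V := omegaTwo A hAc with hV
  haveI : V.Normal := omegaTwo_normal A hAc
  have hVp : IsPGroup 2 V := hP.to_subgroup V
  by_cases h4 : 4 ≤ Nat.card V
  · have hdvd : 2 ^ 2 ∣ Nat.card V :=
      Cfsg.Agent.Lib.Helper2.pow_dvd_of_le_of_isPGroup hVp (by norm_num; exact h4)
    obtain ⟨U, hUV, hUn, hUc⟩ := Cfsg.Agent.Lib.Helper2.exists_normal_le_card_eq_pow hP V hdvd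
    refine ⟨U, hUn, ?_, ?_, by rw [hUc]; norm_num⟩
    · intro x hx y hy
      exact hAc x (hUV hx).1 y (hUV hy).1
    · intro x hx
      exact (hUV hx).2
  · push Not at h4
    have hV2 : Nat.card V ≤ 2 := by
      obtain ⟨j, hj⟩ := IsPGroup.iff_card.1 hVp
      rw [hj] at h4 ⊢
      have : j < 2 := by
        by_contra hge
        push Not at hge
        have := Nat.pow_le_pow_right (show 0 < 2 by norm_num) hge
        omega
      calc 2 ^ j ≤ 2 ^ 1 := Nat.pow_le_pow_right (by norm_num) (by omega)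
        _ = 2 := by norm_num
    letI : CommGroup A := { (inferInstance : Group A) with
      mul_comm := fun x y => Subtype.ext (hAc x x.2 y y.2) }
    have hAp : IsPGroup 2 A := hP.to_subgroup A
    have huop : Cfsg.Agent.Lib.Lead.UniqueP.UOP 2 A := by
      intro x y hx hy hx1
      have hx' : (x : P) ^ 2 = 1 := by rw [← Subgroup.coe_pow, hx]; rfl
      have hy' : (y : P) ^ 2 = 1 := by rw [← Subgroup.coe_pow, hy]; rfl
      have hx1' : (x : P) ≠ 1 := fun h => hx1 (Subtype.ext h)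
      have hle : Subgroup.zpowers (x : P) ≤ V :=
        Subgroup.zpowers_le.2 ⟨x.2, hx'⟩
      have hcard : Nat.card (Subgroup.zpowers (x : P)) = 2 := by
        rw [Nat.card_zpowers]
        exact orderOf_eq_prime hx' hx1'
      have heq : Subgroup.zpowers (x : P) = V :=
        Subgroup.eq_of_le_of_card_ge hle (by rw [hcard]; exact hV2)
      have hyV : (y : P) ∈ Subgroup.zpowers (x : P) := by
        rw [heq]
        exact ⟨y.2, hy'⟩
      obtain ⟨k, hk⟩ := Subgroup.mem_zpowers_iff.1 hyV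
      rw [Subgroup.mem_zpowers_iff]
      exact ⟨k, Subtype.ext (by rw [Subgroup.coe_zpow]; exact hk)⟩
    have hcyc : IsCyclic A := Cfsg.Agent.Lib.Lead.UniqueP.isCyclic_of_comm 2 hAp huop
    obtain ⟨g, hg⟩ := hcyc.exists_generator
    have ha : ∀ x ∈ A, ∃ k : ℕ, (g : P) ^ k = x := by
      intro x hx
      have h1 : (⟨x, hx⟩ : A) ∈ Subgroup.zpowers g := hg _
      rw [← mem_powers_iff_mem_zpowers] at h1
      obtain ⟨k, hk⟩ := (Submonoid.mem_powers_iff _ _).1 h1
      refine ⟨k, ?_⟩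
      have := congrArg Subtype.val hk
      simpa using this
    exact normal_four_of_cyclic hP A hcent (g : P) g.2 ha E hEc hE2 hE8

end Cfsg.Agent.Lib.Helper8.NormalFour
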