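import Mathlib
import Cfsg.Agent.Lib.Lead.UniqueP
import Cfsg.Agent.Lib.Helper1.Nilpotent
import Cfsg.Agent.Lib.Helper1.Carter2

/-! Nilpotent groups in which centralizers of noncentral elements are cyclic. -/
set_option autoImplicit false
open scoped Pointwise

namespace Cfsg.Agent.Lib.Helper8.QuatCyc

open Cfsg.Agent.Lib.Lead.UniqueP

theorem zmod_two_mul_eq_zero {n : ℕ} [NeZero n] (j : ZMod (2 * n)) (h : 2 * j = 0) :
    j = 0 ∨ j = (n : ZMod (2 * n)) := by
  have h1 : ((2 * j.val : ℕ) : ZMod (2 * n)) = 0 := by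
    push_cast
    rw [ZMod.natCast_zmod_val]
    exact h
  have h2 : 2 * n ∣ 2 * j.val := (ZMod.natCast_eq_zero_iff _ _).mp h1
  have h3 : n ∣ j.val := Nat.dvd_of_mul_dvd_mul_left two_pos h2
  obtain ⟨t, ht⟩ := h3
  have hlt : j.val < 2 * n := ZMod.val_lt j
  have hn : 0 < n := Nat.pos_of_ne_zero (NeZero.ne n)
  have ht2 : t < 2 := by
    by_contra hge
    push Not at hge
    have : 2 * n ≤ n * t := by nlinarith
    omega
  interval_cases t
  · left
    rw [mul_zero] at ht
    exact (ZMod.val_eq_zero j).mp ht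
  · right
    rw [mul_one] at ht
    rw [← ZMod.natCast_zmod_val j, ht]

theorem quaternion_one_comm (a b : QuaternionGroup 1) : a * b = b * a := by
  revert a b
  decide

open QuaternionGroup in
theorem isCyclic_centralizer_quaternion {n : ℕ} [NeZero n] (q q' : QuaternionGroup n)
    (h : q * q' ≠ q' * q) : IsCyclic (Subgroup.centralizer ({q} : Set (QuaternionGroup n))) := by
  have hnn : (n : ZMod (2 * n)) + n = 0 := by
    have := ZMod.natCast_self (2 * n)
    push_cast at this
    linear_combination this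
  cases q with
  | a i =>
    have hi : 2 * i ≠ 0 := by
      intro hi
      apply h
      cases q' with
      | a j => rw [a_mul_a, a_mul_a, add_comm]
      | xa j =>
        rw [a_mul_xa, xa_mul_a]
        congr 1
        linear_combination (-1 : ZMod (2 * n)) * hi
    have hmem : (a 1 : QuaternionGroup n) ∈
        Subgroup.centralizer ({a i} : Set (QuaternionGroup n)) := by
      rw [Subgroup.mem_centralizer_singleton_iff, a_mul_a, a_mul_a, add_comm]
    refine ⟨⟨⟨a 1, hmem⟩, ?_⟩⟩
    rintro ⟨y, hy⟩
    have hy' := Subgroup.mem_centralizer_singleton_iff.mp hy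
    cases y with
    | a j =>
      have e : (⟨a j, hy⟩ : Subgroup.centralizer ({a i} : Set (QuaternionGroup n))) =
          ⟨a 1, hmem⟩ ^ j.val := by
        apply Subtype.ext
        rw [Subgroup.coe_pow, a_one_pow, ZMod.natCast_zmod_val]
      rw [e]
      exact Subgroup.npow_mem_zpowers _ _
    | xa j =>
      exfalso
      rw [xa_mul_a, a_mul_xa] at hy'
      have := xa.inj hy'
      apply hi
      linear_combination this
  | xa i =>
    have hmem : (xa i : QuaternionGroup n) ∈
        Subgroup.centralizer ({xa i} : Set (QuaternionGroup n)) := by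
      rw [Subgroup.mem_centralizer_singleton_iff]
    refine ⟨⟨⟨xa i, hmem⟩, ?_⟩⟩
    rintro ⟨y, hy⟩
    have hy' := Subgroup.mem_centralizer_singleton_iff.mp hy
    cases y with
    | a j =>
      rw [a_mul_xa, xa_mul_a] at hy'
      have h1 := xa.inj hy'
      have h2 : 2 * j = 0 := by linear_combination (-1 : ZMod (2 * n)) * h1
      rcases zmod_two_mul_eq_zero j h2 with h3 | h3
      · have e : (⟨a j, hy⟩ : Subgroup.centralizer ({xa i} : Set (QuaternionGroup n))) =
            ⟨xa i, hmem⟩ ^ 0 := by
          apply Subtype.ext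
          show (a j : QuaternionGroup n) = 1
          rw [h3, a_zero]
        rw [e]
        exact Subgroup.npow_mem_zpowers _ _
      · have e : (⟨a j, hy⟩ : Subgroup.centralizer ({xa i} : Set (QuaternionGroup n))) =
            ⟨xa i, hmem⟩ ^ 2 := by
          apply Subtype.ext
          show (a j : QuaternionGroup n) = (xa i) ^ 2
          rw [xa_sq, h3]
        rw [e]
        exact Subgroup.npow_mem_zpowers _ _
    | xa j =>
      rw [xa_mul_xa, xa_mul_xa] at hy'
      have h1 := a.inj hy'
      have h2 : 2 * (j - i) = 0 := by linear_combination (-1 : ZMod (2 * n)) * h1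
      rcases zmod_two_mul_eq_zero (j - i) h2 with h3 | h3
      · have hji : j = i := sub_eq_zero.mp h3
        have e : (⟨xa j, hy⟩ : Subgroup.centralizer ({xa i} : Set (QuaternionGroup n))) =
            ⟨xa i, hmem⟩ ^ 1 := by
          apply Subtype.ext
          show (xa j : QuaternionGroup n) = (xa i) ^ 1
          rw [pow_one, hji]
        rw [e]
        exact Subgroup.npow_mem_zpowers _ _
      · have hji : j = i - n := by linear_combination h3 + hnn
        have e : (⟨xa j, hy⟩ : Subgroup.centralizer ({xa i} : Set (QuaternionGroup n))) =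
            ⟨xa i, hmem⟩ ^ 3 := by
          apply Subtype.ext
          show (xa j : QuaternionGroup n) = (xa i) ^ 3
          have h3' : (xa i : QuaternionGroup n) ^ 3 = xa i * (xa i) ^ 2 := pow_succ' _ 2
          rw [h3', xa_sq, xa_mul_a, hji]
          congr 1
          linear_combination (-1 : ZMod (2 * n)) * hnn
        rw [e]
        exact Subgroup.npow_mem_zpowers _ _

theorem isCyclic_centralizer_prod {k m : ℕ} (hm : Odd m)
    (x g : QuaternionGroup (2 ^ k) × Multiplicative (ZMod m)) (hg : g * x ≠ x * g) :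
    IsCyclic (Subgroup.centralizer
      ({x} : Set (QuaternionGroup (2 ^ k) × Multiplicative (ZMod m)))) := by
  haveI : NeZero m := ⟨by rintro rfl; exact (by decide : ¬ Odd 0) hm⟩
  have hq : x.1 * g.1 ≠ g.1 * x.1 := by
    intro h
    apply hg
    exact Prod.ext h.symm (mul_comm _ _)
  haveI hc1 := isCyclic_centralizer_quaternion x.1 g.1 hq
  let φ : Subgroup.centralizer
      ({x} : Set (QuaternionGroup (2 ^ k) × Multiplicative (ZMod m))) →*
      Subgroup.centralizer ({x.1} : Set (QuaternionGroup (2 ^ k))) × Multiplicative (ZMod m) :=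
    MonoidHom.prod
      (((MonoidHom.fst _ _).comp (Subgroup.subtype _)).codRestrict _ (fun y => by
        have hy := Subgroup.mem_centralizer_singleton_iff.mp y.2
        rw [Subgroup.mem_centralizer_singleton_iff]
        exact congrArg Prod.fst hy))
      ((MonoidHom.snd _ _).comp (Subgroup.subtype _))
  have hφ : Function.Injective φ := by
    intro y y' hyy'
    have h1 : (y : QuaternionGroup (2 ^ k) × Multiplicative (ZMod m)).1 =
        (y' : QuaternionGroup (2 ^ k) × Multiplicative (ZMod m)).1 := by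
      have := congrArg (fun t => ((t.1 : Subgroup.centralizer ({x.1} : Set (QuaternionGroup (2 ^ k)))) :
        QuaternionGroup (2 ^ k))) hyy'
      exact this
    have h2 : (y : QuaternionGroup (2 ^ k) × Multiplicative (ZMod m)).2 =
        (y' : QuaternionGroup (2 ^ k) × Multiplicative (ZMod m)).2 := by
      have := congrArg (fun t => t.2) hyy'
      exact this
    exact Subtype.ext (Prod.ext h1 h2)
  have hcop : (Nat.card (Subgroup.centralizer ({x.1} : Set (QuaternionGroup (2 ^ k))))).Coprime
      (Nat.card (Multiplicative (ZMod m))) := by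
    have h1 : Nat.card (Multiplicative (ZMod m)) = m := by
      rw [Nat.card_eq_fintype_card, Fintype.card_multiplicative, ZMod.card]
    have h2 : Nat.card (Subgroup.centralizer ({x.1} : Set (QuaternionGroup (2 ^ k)))) ∣
        2 ^ (k + 2) := by
      have := Subgroup.card_subgroup_dvd_card
        (Subgroup.centralizer ({x.1} : Set (QuaternionGroup (2 ^ k))))
      rw [Nat.card_eq_fintype_card (α := QuaternionGroup (2 ^ k)), QuaternionGroup.card] at this
      have e : 4 * 2 ^ k = 2 ^ (k + 2) := by ring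
      rwa [e] at this
    rw [h1]
    exact Nat.Coprime.coprime_dvd_left h2 (Nat.Coprime.pow_left _ (Nat.coprime_two_left.mpr hm))
  haveI : IsCyclic (Subgroup.centralizer ({x.1} : Set (QuaternionGroup (2 ^ k))) ×
      Multiplicative (ZMod m)) :=
    Group.isCyclic_prod_iff.mpr ⟨hc1, inferInstance, hcop⟩
  exact isCyclic_of_injective φ hφ

theorem isCyclic_centralizer_of_equiv {G : Type*} [Group G] {k m : ℕ} (hm : Odd m)
    (e : G ≃* QuaternionGroup (2 ^ k) × Multiplicative (ZMod m)) (x : G)
    (hx : x ∉ Subgroup.center G) : IsCyclic (Subgroup.centralizer ({x} : Set G)) := by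
  have hex : ∃ g : G, g * x ≠ x * g := by
    by_contra hall
    push Not at hall
    exact hx (Subgroup.mem_center_iff.mpr hall)
  obtain ⟨g, hg⟩ := hex
  have hg' : e g * e x ≠ e x * e g := by
    intro h
    apply hg
    apply e.injective
    rw [map_mul, map_mul, h]
  haveI := isCyclic_centralizer_prod hm (e x) (e g) hg'
  let ψ : Subgroup.centralizer ({x} : Set G) →*
      Subgroup.centralizer ({e x} : Set (QuaternionGroup (2 ^ k) × Multiplicative (ZMod m))) :=
    (e.toMonoidHom.comp (Subgroup.subtype _)).codRestrict _ (fun y => by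
      have hy := Subgroup.mem_centralizer_singleton_iff.mp y.2
      rw [Subgroup.mem_centralizer_singleton_iff]
      simp only [MonoidHom.comp_apply, Subgroup.subtype_apply, MulEquiv.coe_toMonoidHom]
      rw [← map_mul, ← map_mul, hy])
  have hψ : Function.Injective ψ := by
    intro y y' hyy'
    have h1 : e (y : G) = e (y' : G) := congrArg Subtype.val hyy'
    exact Subtype.ext (e.injective h1)
  exact isCyclic_of_injective ψ hψ

theorem mem_zpowers_of_isCyclic_subgroup {G : Type*} [Group G] [Finite G] (H : Subgroup G)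
    [hH : IsCyclic H] {p : ℕ} (hp : p.Prime) (w y : G) (hwH : w ∈ H) (hyH : y ∈ H)
    (hw : orderOf w = p) (hy : y ^ p = 1) : y ∈ Subgroup.zpowers w := by
  classical
  haveI : Fintype H := Fintype.ofFinite H
  have hle := IsCyclic.card_pow_eq_one_le (α := H) hp.pos
  set w' : H := ⟨w, hwH⟩ with hw'def
  set y' : H := ⟨y, hyH⟩ with hy'def
  have hw' : orderOf w' = p := by rw [← hw]; exact Subgroup.orderOf_mk w hwH
  set T : Finset H := (Finset.range p).image (fun k => w' ^ k) with hT
  have hTS : T ⊆ Finset.univ.filter (fun a : H => a ^ p = 1) := by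
    intro a ha
    obtain ⟨k, -, rfl⟩ := Finset.mem_image.mp ha
    rw [Finset.mem_filter]
    refine ⟨Finset.mem_univ _, ?_⟩
    rw [← pow_mul, mul_comm, pow_mul, ← hw', pow_orderOf_eq_one, one_pow]
  have hTcard : T.card = p := by
    rw [hT, Finset.card_image_of_injOn, Finset.card_range]
    intro a ha b hb hab
    have ha' : a ∈ Set.Iio (orderOf w') := by rw [hw']; simpa using ha
    have hb' : b ∈ Set.Iio (orderOf w') := by rw [hw']; simpa using hb
    exact pow_injOn_Iio_orderOf ha' hb' hab
  have hST : T = Finset.univ.filter (fun a : H => a ^ p = 1) :=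
    Finset.eq_of_subset_of_card_le hTS (by rw [hTcard]; convert hle)
  have hyS : y' ∈ Finset.univ.filter (fun a : H => a ^ p = 1) := by
    rw [Finset.mem_filter]
    exact ⟨Finset.mem_univ _, Subtype.ext (by simpa using hy)⟩
  rw [← hST] at hyS
  obtain ⟨k, -, hk⟩ := Finset.mem_image.mp hyS
  refine Subgroup.mem_zpowers_iff.mpr ⟨k, ?_⟩
  have := congrArg Subtype.val hk
  simpa using this

theorem uop_of_cyclic_centralizers {G : Type*} [Group G] [Finite G] (hG : Group.IsNilpotent G)
    (hZ : IsCyclic (Subgroup.center G))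
    (h : ∀ x : G, x ∉ Subgroup.center G → IsCyclic (Subgroup.centralizer ({x} : Set G)))
    (p : ℕ) [hp : Fact p.Prime] : UOP p G := by
  intro x y hx hy hx1
  have hox : orderOf x = p := orderOf_eq_prime hx hx1
  have hpG : p ∣ Nat.card G := hox ▸ orderOf_dvd_natCard x
  let P : Sylow p G := default
  haveI : (P : Subgroup G).Normal := inferInstance
  have hPne : (P : Subgroup G) ≠ ⊥ := Sylow.ne_bot_of_dvd_card P hpG
  have hPZ := Cfsg.Agent.Lib.Helper1.normal_inf_center_ne_bot (P : Subgroup G) hPne
  set PZ : Subgroup G := (P : Subgroup G) ⊓ Subgroup.center G with hPZdef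
  have hPZp : IsPGroup p PZ := P.2.to_le inf_le_left
  have hpPZ : p ∣ Nat.card PZ := by
    obtain ⟨k, hk⟩ := hPZp.exists_card_eq
    rw [hk]
    cases k with
    | zero =>
      exfalso; apply hPZ; rw [pow_zero] at hk; exact Subgroup.card_eq_one.mp hk
    | succ k => exact dvd_pow_self p (Nat.succ_ne_zero k)
  obtain ⟨w', hw'⟩ := exists_prime_orderOf_dvd_card' p hpPZ
  set w : G := (w' : G) with hwdef
  have hw : orderOf w = p := by rw [hwdef, Subgroup.orderOf_coe]; exact hw'
  have hwZ : w ∈ Subgroup.center G := (Subgroup.mem_inf.mp w'.2).2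
  have key : ∀ y : G, y ^ p = 1 → y ∈ Subgroup.zpowers w := by
    intro y hy
    by_cases hyZ : y ∈ Subgroup.center G
    · exact mem_zpowers_of_isCyclic_subgroup (Subgroup.center G) hp.out w y hwZ hyZ hw hy
    · haveI := h y hyZ
      refine mem_zpowers_of_isCyclic_subgroup (Subgroup.centralizer {y}) hp.out w y ?_ ?_ hw hy
      · rw [Subgroup.mem_centralizer_singleton_iff]
        exact (Subgroup.mem_center_iff.mp hwZ y).symm
      · rw [Subgroup.mem_centralizer_singleton_iff]
  have hxw : x ∈ Subgroup.zpowers w := key x hx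
  have heq : Subgroup.zpowers x = Subgroup.zpowers w := by
    apply Subgroup.eq_of_le_of_card_ge (Subgroup.zpowers_le.mpr hxw)
    rw [Nat.card_zpowers, Nat.card_zpowers, hox, hw]
  rw [heq]; exact key y hy

theorem exists_normal_complement_sylow {G : Type*} [Group G] [Finite G]
    (hG : Group.IsNilpotent G) (p : ℕ) [hp : Fact p.Prime] (P : Sylow p G) :
    ∃ K : Subgroup G, K.Normal ∧ (P : Subgroup G).IsComplement' K ∧
      (∀ x ∈ (P : Subgroup G), ∀ k ∈ K, x * k = k * x) := by
  haveI hPn : (P : Subgroup G).Normal := inferInstance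
  have hcop : Nat.Coprime (Nat.card (P : Subgroup G)) (P : Subgroup G).index := by
    obtain ⟨k, hk⟩ := P.2.exists_card_eq
    rw [hk]
    apply Nat.Coprime.pow_left
    rw [hp.out.coprime_iff_not_dvd]
    exact P.not_dvd_index
  obtain ⟨K, hK⟩ := Subgroup.exists_right_complement'_of_coprime hcop
  have hKcop : Nat.Coprime (Nat.card K) K.index := by
    rw [hK.index_eq_card, ← hK.symm.index_eq_card]
    exact hcop.symm
  have hKn := Cfsg.Agent.Lib.Helper1.Carter.hall_normal_of_nilpotent K hKcop
  refine ⟨K, hKn, hK, ?_⟩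
  intro x hx k hk
  exact (Subgroup.commute_of_normal_of_disjoint _ _ hPn hKn hK.disjoint x k hx hk).eq

theorem structure_of_cyclic_centralizers {G : Type*} [Group G] [Finite G]
    (hG : Group.IsNilpotent G) (hna : ¬ IsMulCommutative G)
    (h : ∀ x : G, x ∉ Subgroup.center G → IsCyclic (Subgroup.centralizer ({x} : Set G))) :
    ∃ (k m : ℕ), 1 ≤ k ∧ Odd m ∧
      Nonempty (G ≃* QuaternionGroup (2 ^ k) × Multiplicative (ZMod m)) := by
  have hex : ∃ x : G, x ∉ Subgroup.center G := by
    by_contra hall
    push Not at hall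
    apply hna
    exact ⟨⟨fun a b => Subgroup.mem_center_iff.mp (hall b) a⟩⟩
  obtain ⟨x₀, hx₀⟩ := hex
  haveI hZ : IsCyclic (Subgroup.center G) := by
    haveI := h x₀ hx₀
    exact Subgroup.isCyclic_of_le (H' := Subgroup.centralizer ({x₀} : Set G))
      (Subgroup.center_le_centralizer _)
  have huop : ∀ (p : ℕ) [Fact p.Prime], UOP p G :=
    fun p _ => uop_of_cyclic_centralizers hG hZ h p
  have hsyl : ∀ (p : ℕ) [Fact p.Prime] (P : Sylow p G),
      IsCyclic P ∨ (p = 2 ∧ ∃ n : ℕ, Nonempty (P ≃* QuaternionGroup (2 ^ n))) := by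
    intro p _ P
    apply cyclic_or_quaternion p P.2
    intro x y hx hy hx1
    have := huop p (x : G) (y : G) (by exact_mod_cast congrArg Subtype.val hx)
      (by exact_mod_cast congrArg Subtype.val hy) (by simpa using hx1)
    obtain ⟨k, hk⟩ := Subgroup.mem_zpowers_iff.mp this
    exact Subgroup.mem_zpowers_iff.mpr ⟨k, Subtype.ext (by simpa using hk)⟩
  have hodd : ∀ (q : ℕ) [Fact q.Prime], q ≠ 2 → ∀ Q : Sylow q G,
      (Q : Subgroup G) ≤ Subgroup.center G := by
    intro q _ hq2 Q
    haveI hQc : IsCyclic Q := by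
      rcases hsyl q Q with hc | ⟨h2, -⟩
      · exact hc
      · exact absurd h2 hq2
    obtain ⟨K, hKn, hKc, hcomm⟩ := exists_normal_complement_sylow hG q Q
    obtain ⟨g₀, hg₀⟩ := IsCyclic.exists_generator (α := Q)
    intro x hx
    rw [Subgroup.mem_center_iff]
    intro g
    have hg : g ∈ ((Q : Subgroup G) : Set G) * (K : Set G) := by rw [hKc.mul_eq]; trivial
    obtain ⟨x', hx', k, hk, rfl⟩ := Set.mem_mul.mp hg
    have hxx' : x' * x = x * x' := by
      obtain ⟨a, ha⟩ := Subgroup.mem_zpowers_iff.mp (hg₀ ⟨x, hx⟩)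
      obtain ⟨b, hb⟩ := Subgroup.mem_zpowers_iff.mp (hg₀ ⟨x', hx'⟩)
      have hxa : x = (g₀ : G) ^ a := by
        have := congrArg Subtype.val ha; simpa using this.symm
      have hxb : x' = (g₀ : G) ^ b := by
        have := congrArg Subtype.val hb; simpa using this.symm
      rw [hxa, hxb, zpow_mul_comm]
    have hxk := hcomm x hx k hk
    calc x' * k * x = x' * (k * x) := mul_assoc _ _ _
      _ = x' * (x * k) := by rw [hxk]
      _ = (x' * x) * k := (mul_assoc _ _ _).symm
      _ = (x * x') * k := by rw [hxx']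
      _ = x * (x' * k) := mul_assoc _ _ _
  haveI : Fact (Nat.Prime 2) := ⟨Nat.prime_two⟩
  let P : Sylow 2 G := default
  obtain ⟨K, hKn, hKc, hcomm⟩ := exists_normal_complement_sylow hG 2 P
  have hKcard : Nat.card K = (P : Subgroup G).index := hKc.symm.index_eq_card.symm
  have hKodd : ¬ 2 ∣ Nat.card K := by rw [hKcard]; exact P.not_dvd_index
  have hKZ : K ≤ Subgroup.center G := by
    rw [← Subgroup.relIndex_eq_one]
    by_contra hne
    obtain ⟨q, hq, hqd⟩ := Nat.exists_prime_and_dvd hne
    haveI := Fact.mk hq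
    have hqK : q ∣ Nat.card K := hqd.trans (Subgroup.relIndex_dvd_card _ _)
    have hq2 : q ≠ 2 := by rintro rfl; exact hKodd hqK
    have hqZ : q ∣ (Subgroup.center G).index :=
      hqd.trans (Subgroup.relIndex_dvd_index_of_normal _ _)
    let Q : Sylow q G := default
    have := Subgroup.index_dvd_of_le (hodd q hq2 Q)
    exact Q.not_dvd_index (hqZ.trans this)
  haveI hKcyc : IsCyclic K := Subgroup.isCyclic_of_le hKZ
  let f : P × K →* G := MonoidHom.noncommCoprod (P : Subgroup G).subtype K.subtype
    (fun x k => hcomm x x.2 k k.2)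
  have hfinj : Function.Injective f := by
    rw [injective_iff_map_eq_one]
    rintro ⟨x, k⟩ hxk
    have hxk' : (x : G) * (k : G) = 1 := hxk
    have hxK : (x : G) ∈ K := by
      have : (x : G) = (k : G)⁻¹ := eq_inv_of_mul_eq_one_left hxk'
      rw [this]; exact K.inv_mem k.2
    have hx1 : (x : G) = 1 := by
      have : (x : G) ∈ (P : Subgroup G) ⊓ K := Subgroup.mem_inf.mpr ⟨x.2, hxK⟩
      rw [hKc.disjoint.eq_bot, Subgroup.mem_bot] at this
      exact this
    have hk1 : (k : G) = 1 := by rw [hx1, one_mul] at hxk'; exact hxk'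
    exact Prod.ext (Subtype.ext hx1) (Subtype.ext hk1)
  have hfsurj : Function.Surjective f := by
    intro g
    have hg : g ∈ ((P : Subgroup G) : Set G) * (K : Set G) := by rw [hKc.mul_eq]; trivial
    obtain ⟨x, hx, k, hk, rfl⟩ := Set.mem_mul.mp hg
    exact ⟨(⟨x, hx⟩, ⟨k, hk⟩), rfl⟩
  let e : P × K ≃* G := MulEquiv.ofBijective f ⟨hfinj, hfsurj⟩
  have hPnc : ¬ (∀ a b : P, a * b = b * a) := by
    intro hPc
    apply hna
    refine ⟨⟨fun a b => ?_⟩⟩
    obtain ⟨⟨x, k⟩, rfl⟩ := e.surjective a
    obtain ⟨⟨x', k'⟩, rfl⟩ := e.surjective b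
    rw [← map_mul, ← map_mul]
    congr 1
    refine Prod.ext (hPc x x') ?_
    apply Subtype.ext
    exact Subgroup.mem_center_iff.mp (hKZ k'.2) k
  rcases hsyl 2 P with hc | ⟨-, n, ⟨eP⟩⟩
  · exfalso
    apply hPnc
    obtain ⟨g₀, hg₀⟩ := IsCyclic.exists_generator (α := P)
    intro a b
    obtain ⟨i, rfl⟩ := Subgroup.mem_zpowers_iff.mp (hg₀ a)
    obtain ⟨j, rfl⟩ := Subgroup.mem_zpowers_iff.mp (hg₀ b)
    exact zpow_mul_comm g₀ i j
  · have hn : 1 ≤ n := by
      by_contra hn0
      have hn0' : n = 0 := by omega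
      subst hn0'
      apply hPnc
      intro a b
      apply eP.injective
      rw [map_mul, map_mul]
      exact quaternion_one_comm _ _
    refine ⟨n, Nat.card K, hn, ?_, ⟨?_⟩⟩
    · exact Nat.odd_iff.mpr (by omega)
    · exact e.symm.trans (MulEquiv.prodCongr eP (zmodCyclicMulEquiv hKcyc).symm)

end Cfsg.Agent.Lib.Helper8.QuatCyc
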