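import Mathlib
import Cfsg.Agent.Lib.Helper8.QuatCyc

/-! Brauer–Suzuki (generalized quaternion Sylow 2-subgroups of order at least 16), part 1:
facts on `QuaternionGroup m`. -/
set_option autoImplicit false

namespace Cfsg.Agent.Lib.Helper8.BS

open QuaternionGroup

variable {m : ℕ} [NeZero m]

theorem two_m_eq_zero : (m : ZMod (2 * m)) + m = 0 := by
  have := ZMod.natCast_self (2 * m)
  push_cast at this
  linear_combination this

theorem inv_a (i : ZMod (2 * m)) : (a i : QuaternionGroup m)⁻¹ = a (-i) := by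
  apply inv_eq_of_mul_eq_one_right
  rw [a_mul_a, add_neg_cancel, a_zero]

theorem inv_xa (i : ZMod (2 * m)) :
    (xa i : QuaternionGroup m)⁻¹ = xa ((m : ZMod (2 * m)) + i) := by
  apply inv_eq_of_mul_eq_one_right
  rw [xa_mul_xa]
  have : (m : ZMod (2 * m)) + (m + i) - i = 0 := by linear_combination (two_m_eq_zero (m := m))
  rw [this, a_zero]

/-- The cyclic subgroup `{a i}` of index two. -/
def Tq (m : ℕ) [NeZero m] : Subgroup (QuaternionGroup m) where
  carrier := {q | ∃ i, q = a i}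
  mul_mem' := by
    rintro _ _ ⟨i, rfl⟩ ⟨j, rfl⟩
    exact ⟨i + j, a_mul_a i j⟩
  one_mem' := ⟨0, a_zero.symm⟩
  inv_mem' := by
    rintro _ ⟨i, rfl⟩
    exact ⟨-i, inv_a i⟩

/-- The commutator subgroup `{a (2 j)}`. -/
def Dq (m : ℕ) [NeZero m] : Subgroup (QuaternionGroup m) where
  carrier := {q | ∃ j, q = a (2 * j)}
  mul_mem' := by
    rintro _ _ ⟨i, rfl⟩ ⟨j, rfl⟩
    exact ⟨i + j, by rw [a_mul_a, mul_add]⟩
  one_mem' := ⟨0, by rw [mul_zero, a_zero]⟩
  inv_mem' := by
    rintro _ ⟨i, rfl⟩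
    exact ⟨-i, by rw [inv_a, mul_neg]⟩

theorem mem_Tq {q : QuaternionGroup m} : q ∈ Tq m ↔ ∃ i, q = a i := Iff.rfl

theorem mem_Dq {q : QuaternionGroup m} : q ∈ Dq m ↔ ∃ j, q = a (2 * j) := Iff.rfl

theorem a_mem_Tq (i : ZMod (2 * m)) : (a i : QuaternionGroup m) ∈ Tq m := ⟨i, rfl⟩

theorem xa_not_mem_Tq (i : ZMod (2 * m)) : (xa i : QuaternionGroup m) ∉ Tq m := by
  rintro ⟨j, hj⟩
  cases hj

theorem Dq_le_Tq : Dq m ≤ Tq m := by
  rintro _ ⟨j, rfl⟩
  exact ⟨2 * j, rfl⟩

theorem a_two_pow (k : ℕ) : (a 2 : QuaternionGroup m) ^ k = a (2 * (k : ZMod (2 * m))) := by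
  induction k with
  | zero => rw [pow_zero, Nat.cast_zero, mul_zero, a_zero]
  | succ k ih =>
    rw [pow_succ, ih, a_mul_a]
    congr 1
    push_cast
    ring

theorem Dq_eq_zpowers : Dq m = Subgroup.zpowers (a 2 : QuaternionGroup m) := by
  apply le_antisymm
  · rintro _ ⟨j, rfl⟩
    have : (a (2 * j) : QuaternionGroup m) = (a 2) ^ j.val := by
      rw [a_two_pow, ZMod.natCast_zmod_val]
    rw [this]
    exact Subgroup.npow_mem_zpowers _ _
  · rw [Subgroup.zpowers_le]
    exact ⟨1, by rw [mul_one]⟩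

theorem orderOf_a_two : orderOf (a 2 : QuaternionGroup m) = m := by
  have h1 : (a 2 : QuaternionGroup m) = (a 1) ^ 2 := by
    rw [a_one_pow]
    norm_num
  rw [h1, orderOf_pow' _ (by norm_num : (2 : ℕ) ≠ 0), orderOf_a_one,
    Nat.gcd_eq_right (dvd_mul_right 2 m), Nat.mul_div_cancel_left m two_pos]

theorem card_Dq : Nat.card (Dq m) = m := by
  rw [Dq_eq_zpowers, Nat.card_zpowers, orderOf_a_two]

theorem isCyclic_Tq : IsCyclic (Tq m) := by
  refine ⟨⟨⟨a 1, a_mem_Tq 1⟩, ?_⟩⟩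
  rintro ⟨_, ⟨i, rfl⟩⟩
  have e : (⟨a i, a_mem_Tq i⟩ : Tq m) = ⟨a 1, a_mem_Tq 1⟩ ^ i.val := by
    apply Subtype.ext
    rw [Subgroup.coe_pow, a_one_pow, ZMod.natCast_zmod_val]
  rw [e]
  exact Subgroup.npow_mem_zpowers _ _

theorem card_Tq : Nat.card (Tq m) = 2 * m := by
  have h : Tq m = Subgroup.zpowers (a 1 : QuaternionGroup m) := by
    apply le_antisymm
    · rintro _ ⟨i, rfl⟩
      have : (a i : QuaternionGroup m) = (a 1) ^ i.val := by
        rw [a_one_pow, ZMod.natCast_zmod_val]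
      rw [this]
      exact Subgroup.npow_mem_zpowers _ _
    · rw [Subgroup.zpowers_le]
      exact a_mem_Tq 1
  rw [h, Nat.card_zpowers, orderOf_a_one]

/-- commutators lie in `Dq` -/
theorem commutator_mem_Dq (p q : QuaternionGroup m) : p * q * p⁻¹ * q⁻¹ ∈ Dq m := by
  have hnn := two_m_eq_zero (m := m)
  cases p with
  | a i =>
    cases q with
    | a j =>
      refine ⟨0, ?_⟩
      rw [inv_a, inv_a, a_mul_a, a_mul_a, a_mul_a]
      congr 1
      ring
    | xa j =>
      refine ⟨i, ?_⟩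
      rw [inv_a, inv_xa, a_mul_xa, xa_mul_a, xa_mul_xa]
      congr 1
      linear_combination hnn
  | xa i =>
    cases q with
    | a j =>
      refine ⟨-j, ?_⟩
      rw [inv_a, inv_xa, xa_mul_a, xa_mul_xa, a_mul_a]
      congr 1
      linear_combination hnn
    | xa j =>
      refine ⟨(m : ZMod (2 * m)) + j - i, ?_⟩
      rw [inv_xa, inv_xa, xa_mul_xa, a_mul_xa, xa_mul_xa]
      congr 1
      ring

theorem a_two_eq_commutator :
    (a 2 : QuaternionGroup m) = a 1 * xa 0 * (a 1)⁻¹ * (xa 0)⁻¹ := by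
  rw [inv_a, inv_xa, a_mul_xa, xa_mul_a, xa_mul_xa]
  congr 1
  linear_combination (-1 : ZMod (2 * m)) * (two_m_eq_zero (m := m))

/-- `xa j` inverts `Tq`. -/
theorem xa_conj_a (i j : ZMod (2 * m)) :
    (xa j : QuaternionGroup m) * a i * (xa j)⁻¹ = a (-i) := by
  rw [inv_xa, xa_mul_a, xa_mul_xa]
  congr 1
  linear_combination (two_m_eq_zero (m := m))

theorem four_ne_zero_of_lt (hm : 2 < m) : (4 : ZMod (2 * m)) ≠ 0 := by
  intro h
  have h1 : ((4 : ℕ) : ZMod (2 * m)) = 0 := by exact_mod_cast h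
  have h2 := (ZMod.natCast_eq_zero_iff _ _).mp h1
  have := Nat.le_of_dvd (by norm_num) h2
  omega

/-- The centralizer of `a 2` is `Tq` (for `m > 2`). -/
theorem mem_Tq_of_commute_a_two (hm : 2 < m) (q : QuaternionGroup m)
    (h : q * a 2 = a 2 * q) : q ∈ Tq m := by
  cases q with
  | a i => exact a_mem_Tq i
  | xa j =>
    exfalso
    rw [xa_mul_a, a_mul_xa] at h
    have h1 := xa.inj h
    apply four_ne_zero_of_lt hm
    linear_combination h1

/-- the unique involution -/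
theorem eq_a_m_of_orderOf_eq_two (q : QuaternionGroup m) (h : orderOf q = 2) :
    q = a (m : ZMod (2 * m)) := by
  cases q with
  | a i =>
    have h2 : (a i : QuaternionGroup m) ^ 2 = 1 := by rw [← h]; exact pow_orderOf_eq_one _
    rw [sq, a_mul_a, ← a_zero] at h2
    have h3 := a.inj h2
    have h4 : 2 * i = 0 := by linear_combination h3
    rcases Cfsg.Agent.Lib.Helper8.QuatCyc.zmod_two_mul_eq_zero i h4 with h5 | h5
    · exfalso
      rw [h5, a_zero, orderOf_one] at h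
      omega
    · rw [h5]
  | xa i =>
    rw [orderOf_xa] at h
    omega

theorem orderOf_a_m : orderOf (a (m : ZMod (2 * m)) : QuaternionGroup m) = 2 := by
  apply orderOf_eq_prime
  · rw [sq, a_mul_a, two_m_eq_zero, a_zero]
  · intro h
    rw [← a_zero] at h
    have h1 := a.inj h
    have h2 := (ZMod.natCast_eq_zero_iff _ _).mp h1
    have hpos : 0 < m := Nat.pos_of_ne_zero (NeZero.ne m)
    have := Nat.le_of_dvd hpos h2
    omega

/-- central elements -/
theorem eq_of_mem_center (hm : 1 < m) (q : QuaternionGroup m)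
    (h : ∀ p : QuaternionGroup m, p * q = q * p) : q = 1 ∨ q = a (m : ZMod (2 * m)) := by
  cases q with
  | a i =>
    have h1 := h (xa 0)
    rw [xa_mul_a, a_mul_xa] at h1
    have h2 := xa.inj h1
    have h4 : 2 * i = 0 := by linear_combination h2
    rcases Cfsg.Agent.Lib.Helper8.QuatCyc.zmod_two_mul_eq_zero i h4 with h5 | h5
    · left; rw [h5, a_zero]
    · right; rw [h5]
  | xa i =>
    exfalso
    have h1 := h (a 1)
    rw [a_mul_xa, xa_mul_a] at h1
    have h2 := xa.inj h1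
    have h3 : (2 : ZMod (2 * m)) = 0 := by linear_combination (-1 : ZMod (2 * m)) * h2
    have h4 : ((2 : ℕ) : ZMod (2 * m)) = 0 := by exact_mod_cast h3
    have h5 := (ZMod.natCast_eq_zero_iff _ _).mp h4
    have := Nat.le_of_dvd (by norm_num) h5
    omega

end Cfsg.Agent.Lib.Helper8.BS
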