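import Mathlib
import Cfsg.Agent.Lib.Helper8.BS1
import Cfsg.Agent.Lib.Lead.UniqueP

/-! Groups with a central subgroup whose quotient is generalized quaternion. -/
set_option autoImplicit false
open scoped commutatorElement

namespace Cfsg.Agent.Lib.Helper8.QQ

open QuaternionGroup Cfsg.Agent.Lib.Helper8.BS

section quat

variable {n : ℕ} [NeZero n]

theorem a_eq_pow (i : ZMod (2 * n)) : (a i : QuaternionGroup n) = (a 1) ^ i.val := by
  rw [a_one_pow, ZMod.natCast_zmod_val]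

theorem xa_eq (i : ZMod (2 * n)) : (xa i : QuaternionGroup n) = xa 0 * (a 1) ^ i.val := by
  rw [← a_eq_pow, xa_mul_a, zero_add]

theorem xa_zero_conj_a_one :
    (xa 0 : QuaternionGroup n) * a 1 * (xa 0)⁻¹ = (a 1)⁻¹ := by
  rw [xa_conj_a, inv_a]

end quat

section quot

variable {R : Type*} [Group R] [Finite R]

/-- a non-abelian 2-group with a unique involution is generalized quaternion -/
theorem exists_quaternion_iso (hR : IsPGroup 2 R) (hna : ¬ IsMulCommutative R)
    (hu : ∃! x : R, orderOf x = 2) :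
    ∃ k : ℕ, Nonempty (R ≃* QuaternionGroup (2 ^ k)) := by
  haveI : Fact (Nat.Prime 2) := ⟨Nat.prime_two⟩
  obtain ⟨u, hu2, huu⟩ := hu
  have hUOP : Cfsg.Agent.Lib.Lead.UniqueP.UOP 2 R := by
    intro x y hx hy hx1
    by_cases hy1 : y = 1
    · rw [hy1]; exact one_mem _
    have ox : orderOf x = 2 := orderOf_eq_prime hx hx1
    have oy : orderOf y = 2 := orderOf_eq_prime hy hy1
    rw [huu y oy, ← huu x ox]
    exact Subgroup.mem_zpowers x
  rcases Cfsg.Agent.Lib.Lead.UniqueP.cyclic_or_quaternion 2 hR hUOP with h | ⟨_, h⟩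
  · exfalso
    apply hna
    exact ⟨⟨fun x y => Cfsg.Agent.Lib.Lead.UniqueP.comm_of_isCyclic x y⟩⟩
  · exact h

/-- generators of a non-abelian 2-group with a unique involution -/
theorem exists_generators (hR : IsPGroup 2 R) (hna : ¬ IsMulCommutative R)
    (hu : ∃! x : R, orderOf x = 2) :
    ∃ x y : R, y * x * y⁻¹ = x⁻¹ ∧ ∀ r : R, ∃ k : ℕ, r = x ^ k ∨ r = y * x ^ k := by
  obtain ⟨k, ⟨φ⟩⟩ := exists_quaternion_iso hR hna hu
  haveI : NeZero (2 ^ k) := ⟨by positivity⟩
  refine ⟨φ.symm (a 1), φ.symm (xa 0), ?_, ?_⟩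
  · rw [← map_inv, ← map_mul, ← map_mul, ← map_inv, xa_zero_conj_a_one]
  · intro r
    have hr : r = φ.symm (φ r) := (φ.symm_apply_apply r).symm
    rcases hq : φ r with i | i
    · refine ⟨i.val, Or.inl ?_⟩
      rw [hr, hq, ← map_pow, ← a_eq_pow]
    · refine ⟨i.val, Or.inr ?_⟩
      rw [hr, hq, ← map_pow, ← map_mul, ← xa_eq]

end quot

section central

variable {S : Type*} [Group S] [Finite S]

/-- If `S / D` is a non-abelian 2-group with a unique involution for a central subgroup `D`,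
then the commutator subgroup of `S` is cyclic and non-trivial. -/
theorem isCyclic_commutator (hS : IsPGroup 2 S) (D : Subgroup S) [hDn : D.Normal]
    (hD : D ≤ Subgroup.center S) (hna : ¬ IsMulCommutative (S ⧸ D))
    (hu : ∃! x : S ⧸ D, orderOf x = 2) :
    IsCyclic ↥(commutator S) ∧ commutator S ≠ ⊥ := by
  have hR : IsPGroup 2 (S ⧸ D) := hS.to_quotient D
  obtain ⟨x, y, hrel, hform⟩ := exists_generators hR hna hu
  obtain ⟨a, rfl⟩ := QuotientGroup.mk_surjective x
  obtain ⟨b, rfl⟩ := QuotientGroup.mk_surjective y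
  have hcen : ∀ d ∈ D, ∀ s : S, s * d = d * s := fun d hd s =>
    Subgroup.mem_center_iff.mp (hD hd) s
  -- normal form
  have hformS : ∀ s : S, ∃ (k : ℕ) (d : S), d ∈ D ∧ (s = a ^ k * d ∨ s = b * a ^ k * d) := by
    intro s
    obtain ⟨k, hk | hk⟩ := hform (QuotientGroup.mk s)
    · refine ⟨k, (a ^ k)⁻¹ * s, ?_, Or.inl (by group)⟩
      rw [← QuotientGroup.mk_pow] at hk
      exact QuotientGroup.eq.mp hk.symm
    · refine ⟨k, (b * a ^ k)⁻¹ * s, ?_, Or.inr (by group)⟩
      rw [← QuotientGroup.mk_pow, ← QuotientGroup.mk_mul] at hk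
      exact QuotientGroup.eq.mp hk.symm
  obtain ⟨d₀, hd₀⟩ : ∃ d₀ : S, d₀ = a * (b * a * b⁻¹) := ⟨_, rfl⟩
  have hd₀D : d₀ ∈ D := by
    rw [← QuotientGroup.eq_one_iff, hd₀, QuotientGroup.mk_mul, QuotientGroup.mk_mul,
      QuotientGroup.mk_mul, QuotientGroup.mk_inv, hrel, mul_inv_cancel]
  have hbab : b * a * b⁻¹ = a⁻¹ * d₀ := by rw [hd₀]; group
  obtain ⟨c, hc⟩ : ∃ c : S, c = a * b * a⁻¹ * b⁻¹ := ⟨_, rfl⟩
  have hd₀c : ∀ s : S, s * d₀ = d₀ * s := hcen d₀ hd₀D
  have hd₀c' : ∀ s : S, s * d₀⁻¹ = d₀⁻¹ * s := fun s => by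
    have := hd₀c s
    calc s * d₀⁻¹ = d₀⁻¹ * (d₀ * s) * d₀⁻¹ := by group
      _ = d₀⁻¹ * (s * d₀) * d₀⁻¹ := by rw [this]
      _ = d₀⁻¹ * s := by group
  have hc2 : c = a * a * d₀⁻¹ := by
    have h1 : b * a⁻¹ * b⁻¹ = d₀⁻¹ * a := by
      have : b * a⁻¹ * b⁻¹ = (b * a * b⁻¹)⁻¹ := by group
      rw [this, hbab]; group
    calc c = a * (b * a⁻¹ * b⁻¹) := by rw [hc]; group
      _ = a * (d₀⁻¹ * a) := by rw [h1]
      _ = a * (a * d₀⁻¹) := by rw [hd₀c' a]
      _ = a * a * d₀⁻¹ := by group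
  have hac : a * c * a⁻¹ = c := by
    rw [hc2]
    calc a * (a * a * d₀⁻¹) * a⁻¹ = a * a * (a * d₀⁻¹) * a⁻¹ := by group
      _ = a * a * (d₀⁻¹ * a) * a⁻¹ := by rw [hd₀c' a]
      _ = a * a * d₀⁻¹ := by group
  have hbc : b * c * b⁻¹ = c⁻¹ := by
    rw [hc2]
    calc b * (a * a * d₀⁻¹) * b⁻¹ = (b * a * b⁻¹) * (b * a * b⁻¹) * (b * d₀⁻¹) * b⁻¹ := by group
      _ = (a⁻¹ * d₀) * (a⁻¹ * d₀) * (d₀⁻¹ * b) * b⁻¹ := by rw [hbab, hd₀c' b]
      _ = a⁻¹ * (d₀ * a⁻¹) := by group
      _ = a⁻¹ * (a⁻¹ * d₀) := by rw [hd₀c a⁻¹]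
      _ = (a * a * d₀⁻¹)⁻¹ := by
        rw [mul_inv_rev, mul_inv_rev, inv_inv, ← hd₀c (a⁻¹ * a⁻¹)]
        group
  have hdc : ∀ d ∈ D, d * c * d⁻¹ = c := by
    intro d hd
    rw [← hcen d hd c]; group
  -- N is normal
  have hconj_pow : ∀ (s : S) (k : ℕ), (s * c * s⁻¹ = c) → a ^ k * s * c * (a ^ k * s)⁻¹ = c := by
    intro s k hs
    induction k with
    | zero => simp [hs]
    | succ k ih =>
      calc a ^ (k + 1) * s * c * (a ^ (k + 1) * s)⁻¹
          = a * (a ^ k * s * c * (a ^ k * s)⁻¹) * a⁻¹ := by rw [pow_succ']; group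
        _ = c := by rw [ih, hac]
  have hNconj : ∀ s : S, s * c * s⁻¹ ∈ Subgroup.zpowers c := by
    intro s
    obtain ⟨k, d, hd, rfl | rfl⟩ := hformS s
    · rw [hconj_pow d k (hdc d hd)]
      exact Subgroup.mem_zpowers c
    · have h1 : b * a ^ k * d * c * (b * a ^ k * d)⁻¹ =
          b * (a ^ k * d * c * (a ^ k * d)⁻¹) * b⁻¹ := by group
      rw [h1, hconj_pow d k (hdc d hd), hbc]
      exact (Subgroup.zpowers c).inv_mem (Subgroup.mem_zpowers c)
  have hNn : (Subgroup.zpowers c).Normal := by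
    constructor
    rintro _ ⟨j, rfl⟩ s
    have : s * c ^ j * s⁻¹ = (s * c * s⁻¹) ^ j := by
      have h := map_zpow (MulAut.conj s) c j
      simpa [MulAut.conj_apply] using h
    rw [this]
    exact (Subgroup.zpowers c).zpow_mem (hNconj s) j
  -- the quotient by N is commutative
  have hcomm : IsMulCommutative (S ⧸ Subgroup.zpowers c) := by
    have hab : (QuotientGroup.mk a : S ⧸ Subgroup.zpowers c) * QuotientGroup.mk b =
        QuotientGroup.mk b * QuotientGroup.mk a := by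
      rw [← QuotientGroup.mk_mul, ← QuotientGroup.mk_mul, QuotientGroup.eq]
      have : (a * b)⁻¹ * (b * a) = (a * b)⁻¹ * (a * b * a⁻¹ * b⁻¹)⁻¹ * (a * b)⁻¹⁻¹ := by group
      rw [this, ← hc]
      exact hNn.conj_mem c⁻¹ ((Subgroup.zpowers c).inv_mem (Subgroup.mem_zpowers c)) (a * b)⁻¹
    have hdq : ∀ d ∈ D, ∀ q : S ⧸ Subgroup.zpowers c,
        Commute (QuotientGroup.mk d : S ⧸ Subgroup.zpowers c) q := by
      intro d hd q
      obtain ⟨s, rfl⟩ := QuotientGroup.mk_surjective q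
      show (QuotientGroup.mk d : S ⧸ Subgroup.zpowers c) * QuotientGroup.mk s =
        QuotientGroup.mk s * QuotientGroup.mk d
      rw [← QuotientGroup.mk_mul, ← QuotientGroup.mk_mul, hcen d hd s]
    have hcenter : ∀ s : S, ∀ q : S ⧸ Subgroup.zpowers c,
        Commute (QuotientGroup.mk s : S ⧸ Subgroup.zpowers c) q := by
      have haq : ∀ q : S ⧸ Subgroup.zpowers c,
          Commute (QuotientGroup.mk a : S ⧸ Subgroup.zpowers c) q := by
        intro q
        obtain ⟨t, rfl⟩ := QuotientGroup.mk_surjective q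
        obtain ⟨k, d, hd, rfl | rfl⟩ := hformS t
        · rw [QuotientGroup.mk_mul, QuotientGroup.mk_pow]
          exact ((Commute.refl _).pow_right k).mul_right ((hdq d hd _).symm)
        · rw [QuotientGroup.mk_mul, QuotientGroup.mk_mul, QuotientGroup.mk_pow]
          exact ((show Commute _ _ from hab).mul_right ((Commute.refl _).pow_right k)).mul_right
            ((hdq d hd _).symm)
      have hbq : ∀ q : S ⧸ Subgroup.zpowers c,
          Commute (QuotientGroup.mk b : S ⧸ Subgroup.zpowers c) q := by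
        intro q
        obtain ⟨t, rfl⟩ := QuotientGroup.mk_surjective q
        obtain ⟨k, d, hd, rfl | rfl⟩ := hformS t
        · rw [QuotientGroup.mk_mul, QuotientGroup.mk_pow]
          exact ((haq _).symm.pow_right k).mul_right ((hdq d hd _).symm)
        · rw [QuotientGroup.mk_mul, QuotientGroup.mk_mul, QuotientGroup.mk_pow]
          exact ((Commute.refl _).mul_right ((haq _).symm.pow_right k)).mul_right
            ((hdq d hd _).symm)
      intro s q
      obtain ⟨k, d, hd, rfl | rfl⟩ := hformS s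
      · rw [QuotientGroup.mk_mul, QuotientGroup.mk_pow]
        exact ((haq q).pow_left k).mul_left (hdq d hd q)
      · rw [QuotientGroup.mk_mul, QuotientGroup.mk_mul, QuotientGroup.mk_pow]
        exact ((hbq q).mul_left ((haq q).pow_left k)).mul_left (hdq d hd q)
    refine ⟨⟨fun p q => ?_⟩⟩
    obtain ⟨s, rfl⟩ := QuotientGroup.mk_surjective p
    exact (hcenter s q).eq
  have hle : commutator S ≤ Subgroup.zpowers c :=
    Subgroup.Normal.quotient_commutative_iff_commutator_le.mp hcomm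
  refine ⟨?_, ?_⟩
  · exact isCyclic_of_injective (Subgroup.inclusion hle) (Subgroup.inclusion_injective hle)
  · intro hbot
    apply hna
    apply Subgroup.Normal.quotient_commutative_iff_commutator_le.mpr
    rw [hbot]
    exact bot_le

end central

end Cfsg.Agent.Lib.Helper8.QQ
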