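import Mathlib
import Cfsg.Prelude.Def_Transfer
import Cfsg.Agent.Lib.Helper9.JRDefs

/-!
# Farm L34 (S3154): shared definitions (sorry-free; units import this file).

Concrete side: inside `SL₃(F)` the Heisenberg matrices `hS a b c`, the unitriangular group `U`, its two
elementary abelian subgroups `A1 = {a = 0}`, `A2 = {b = 0}`, the root groups `X12`, `X23` and the two Levi
complements `L1 = SL₂ ⊕ 1`, `L2 = 1 ⊕ SL₂`.
Abstract side: `Facts F A B` (what S3154 needs from `X ⧸ Z(X) ≅ PSL₃(4)`) and `LeviData`.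
-/

set_option autoImplicit false

namespace Cfsg.Agent.Lib.Helper8.L34

open Matrix
open Cfsg.Agent.Lib.Helper9.JRDefs (IsSylowIn)

section concrete
variable {F : Type*} [Field F]

/-- the Heisenberg matrix -/
def hM (a b c : F) : Matrix (Fin 3) (Fin 3) F := !![1, a, c; 0, 1, b; 0, 0, 1]

theorem hM_det (a b c : F) : (hM a b c).det = 1 := by
  simp [hM, Matrix.det_fin_three]

/-- the Heisenberg matrix as an element of `SL₃(F)` -/
def hS (a b c : F) : SpecialLinearGroup (Fin 3) F := ⟨hM a b c, hM_det a b c⟩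

theorem hS_coe (a b c : F) : ((hS a b c : SpecialLinearGroup (Fin 3) F) : Matrix (Fin 3) (Fin 3) F) =
    !![1, a, c; 0, 1, b; 0, 0, 1] := rfl

theorem hS_mul (a b c a' b' c' : F) :
    hS a b c * hS a' b' c' = hS (a + a') (b + b') (c + c' + a * b') := by
  apply Subtype.ext
  show hM a b c * hM a' b' c' = hM (a + a') (b + b') (c + c' + a * b')
  ext i j
  fin_cases i <;> fin_cases j <;> simp [hM, Matrix.mul_apply, Fin.sum_univ_succ] <;> ring

theorem hS_zero : hS (0 : F) 0 0 = 1 := by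
  apply Subtype.ext
  show hM (0 : F) 0 0 = 1
  ext i j
  fin_cases i <;> fin_cases j <;> simp [hM]

theorem hS_inv (a b c : F) : (hS a b c)⁻¹ = hS (-a) (-b) (a * b - c) := by
  apply inv_eq_of_mul_eq_one_right
  rw [hS_mul, ← hS_zero]
  congr 1 <;> ring

theorem hS_inj {a b c a' b' c' : F} (h : hS a b c = hS a' b' c') : a = a' ∧ b = b' ∧ c = c' := by
  have h' := congrArg (fun g : SpecialLinearGroup (Fin 3) F => (g : Matrix (Fin 3) (Fin 3) F)) h
  simp only [hS_coe] at h'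
  refine ⟨?_, ?_, ?_⟩
  · simpa using congrFun (congrFun h' 0) 1
  · simpa using congrFun (congrFun h' 1) 2
  · simpa using congrFun (congrFun h' 0) 2

/-- the unitriangular subgroup of `SL₃(F)` -/
def U (F : Type*) [Field F] : Subgroup (SpecialLinearGroup (Fin 3) F) where
  carrier := {g | ∃ a b c : F, g = hS a b c}
  one_mem' := ⟨0, 0, 0, hS_zero.symm⟩
  mul_mem' := by
    rintro _ _ ⟨a, b, c, rfl⟩ ⟨a', b', c', rfl⟩
    exact ⟨_, _, _, hS_mul a b c a' b' c'⟩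
  inv_mem' := by
    rintro _ ⟨a, b, c, rfl⟩
    exact ⟨_, _, _, hS_inv a b c⟩

/-- `A1 = {a = 0}` -/
def A1 (F : Type*) [Field F] : Subgroup (SpecialLinearGroup (Fin 3) F) where
  carrier := {g | ∃ b c : F, g = hS 0 b c}
  one_mem' := ⟨0, 0, hS_zero.symm⟩
  mul_mem' := by
    rintro _ _ ⟨b, c, rfl⟩ ⟨b', c', rfl⟩
    refine ⟨b + b', c + c' + 0 * b', ?_⟩
    rw [hS_mul, add_zero]
  inv_mem' := by
    rintro _ ⟨b, c, rfl⟩
    refine ⟨-b, 0 * b - c, ?_⟩
    rw [hS_inv, neg_zero]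

/-- `A2 = {b = 0}` -/
def A2 (F : Type*) [Field F] : Subgroup (SpecialLinearGroup (Fin 3) F) where
  carrier := {g | ∃ a c : F, g = hS a 0 c}
  one_mem' := ⟨0, 0, hS_zero.symm⟩
  mul_mem' := by
    rintro _ _ ⟨a, c, rfl⟩ ⟨a', c', rfl⟩
    refine ⟨a + a', c + c' + a * 0, ?_⟩
    rw [hS_mul, add_zero]
  inv_mem' := by
    rintro _ ⟨a, c, rfl⟩
    refine ⟨-a, a * 0 - c, ?_⟩
    rw [hS_inv, neg_zero]

/-- the root group `X12 = {hS a 0 0}` -/
def X12 (F : Type*) [Field F] : Subgroup (SpecialLinearGroup (Fin 3) F) where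
  carrier := {g | ∃ a : F, g = hS a 0 0}
  one_mem' := ⟨0, hS_zero.symm⟩
  mul_mem' := by
    rintro _ _ ⟨a, rfl⟩ ⟨a', rfl⟩
    refine ⟨a + a', ?_⟩
    rw [hS_mul]; congr 1 <;> ring
  inv_mem' := by
    rintro _ ⟨a, rfl⟩
    refine ⟨-a, ?_⟩
    rw [hS_inv]; congr 1 <;> ring

/-- the root group `X23 = {hS 0 b 0}` -/
def X23 (F : Type*) [Field F] : Subgroup (SpecialLinearGroup (Fin 3) F) where
  carrier := {g | ∃ b : F, g = hS 0 b 0}
  one_mem' := ⟨0, hS_zero.symm⟩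
  mul_mem' := by
    rintro _ _ ⟨b, rfl⟩ ⟨b', rfl⟩
    refine ⟨b + b', ?_⟩
    rw [hS_mul]; congr 1 <;> ring
  inv_mem' := by
    rintro _ ⟨b, rfl⟩
    refine ⟨-b, ?_⟩
    rw [hS_inv]; congr 1 <;> ring

/-- `SL₂ ⊕ 1` as a matrix -/
def e1M (A : Matrix (Fin 2) (Fin 2) F) : Matrix (Fin 3) (Fin 3) F :=
  !![A 0 0, A 0 1, 0; A 1 0, A 1 1, 0; 0, 0, 1]

/-- `1 ⊕ SL₂` as a matrix -/
def e2M (A : Matrix (Fin 2) (Fin 2) F) : Matrix (Fin 3) (Fin 3) F :=
  !![1, 0, 0; 0, A 0 0, A 0 1; 0, A 1 0, A 1 1]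

theorem e1M_det (A : Matrix (Fin 2) (Fin 2) F) : (e1M A).det = A.det := by
  simp [e1M, Matrix.det_fin_three, Matrix.det_fin_two]

theorem e2M_det (A : Matrix (Fin 2) (Fin 2) F) : (e2M A).det = A.det := by
  simp [e2M, Matrix.det_fin_three, Matrix.det_fin_two]

theorem e1M_mul (A B : Matrix (Fin 2) (Fin 2) F) : e1M (A * B) = e1M A * e1M B := by
  ext i j
  fin_cases i <;> fin_cases j <;> simp [e1M, Matrix.mul_apply, Fin.sum_univ_succ]

theorem e2M_mul (A B : Matrix (Fin 2) (Fin 2) F) : e2M (A * B) = e2M A * e2M B := by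
  ext i j
  fin_cases i <;> fin_cases j <;> simp [e2M, Matrix.mul_apply, Fin.sum_univ_succ]

theorem e1M_one : e1M (1 : Matrix (Fin 2) (Fin 2) F) = 1 := by
  ext i j
  fin_cases i <;> fin_cases j <;> simp [e1M]

theorem e2M_one : e2M (1 : Matrix (Fin 2) (Fin 2) F) = 1 := by
  ext i j
  fin_cases i <;> fin_cases j <;> simp [e2M]

/-- the embedding `SL₂(F) → SL₃(F)`, `A ↦ A ⊕ 1` -/
def emb1 : SpecialLinearGroup (Fin 2) F →* SpecialLinearGroup (Fin 3) F where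
  toFun A := ⟨e1M (A : Matrix (Fin 2) (Fin 2) F), by rw [e1M_det]; exact A.2⟩
  map_one' := by
    apply Subtype.ext
    exact e1M_one
  map_mul' A B := by
    apply Subtype.ext
    exact e1M_mul _ _

/-- the embedding `SL₂(F) → SL₃(F)`, `A ↦ 1 ⊕ A` -/
def emb2 : SpecialLinearGroup (Fin 2) F →* SpecialLinearGroup (Fin 3) F where
  toFun A := ⟨e2M (A : Matrix (Fin 2) (Fin 2) F), by rw [e2M_det]; exact A.2⟩
  map_one' := by
    apply Subtype.ext
    exact e2M_one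
  map_mul' A B := by
    apply Subtype.ext
    exact e2M_mul _ _

theorem emb1_coe (A : SpecialLinearGroup (Fin 2) F) :
    ((emb1 A : SpecialLinearGroup (Fin 3) F) : Matrix (Fin 3) (Fin 3) F) =
      !![A 0 0, A 0 1, 0; A 1 0, A 1 1, 0; 0, 0, 1] := rfl

theorem emb2_coe (A : SpecialLinearGroup (Fin 2) F) :
    ((emb2 A : SpecialLinearGroup (Fin 3) F) : Matrix (Fin 3) (Fin 3) F) =
      !![1, 0, 0; 0, A 0 0, A 0 1; 0, A 1 0, A 1 1] := rfl

/-- the Levi complement `L1 = SL₂ ⊕ 1` (normalizes `A1`) -/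
def L1 (F : Type*) [Field F] : Subgroup (SpecialLinearGroup (Fin 3) F) := (emb1 (F := F)).range

/-- the Levi complement `L2 = 1 ⊕ SL₂` (normalizes `A2`) -/
def L2 (F : Type*) [Field F] : Subgroup (SpecialLinearGroup (Fin 3) F) := (emb2 (F := F)).range

end concrete

section abstract

/-- What S3154 needs from `Q ≅ PSL₃(4)`: `A`, `B` the two elementary abelian subgroups of order 16 of a Sylow
2-subgroup. -/
structure Facts {Q : Type*} [Group Q] (F : Type*) [Field F] (A B : Subgroup Q) : Prop where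
  trans : ∀ x ∈ A, ∀ y ∈ A, x ≠ 1 → y ≠ 1 →
    ∃ n ∈ Subgroup.normalizer (A : Set Q), n * x * n⁻¹ = y
  center : ∀ z ∈ A ⊔ B, (∀ w ∈ A ⊔ B, z * w = w * z) → z ∈ A ⊓ B
  compl : ∃ C D : Subgroup Q, C ≤ Subgroup.normalizer (A : Set Q) ∧ C ⊓ A = ⊥ ∧
    A ⊔ C = Subgroup.normalizer (A : Set Q) ∧
    Nonempty (↥C ≃* Matrix.ProjectiveSpecialLinearGroup (Fin 2) F) ∧ D ≤ B ∧ IsSylowIn 2 D C

/-- The `SL₃`-level data for one parabolic: `Zc` the centre, `A` the unipotent radical, `A'` the other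
elementary abelian subgroup, `L` the Levi complement, `D = L ⊓ U`. -/
structure LeviData {S : Type*} [Group S] (F : Type*) [Field F] (Zc A A' L D : Subgroup S) : Prop where
  normalizer_le : ∀ g ∈ Subgroup.normalizer (A : Set S), ∃ a ∈ A, ∃ l ∈ L, ∃ z ∈ Zc, g = a * l * z
  le_normalizer : L ≤ Subgroup.normalizer (A : Set S)
  trans : ∀ x ∈ A, ∀ y ∈ A, x ≠ 1 → y ≠ 1 → ∃ l ∈ L, l * x * l⁻¹ = y
  disj : ∀ l ∈ L, ∀ a ∈ A, ∀ z ∈ Zc, l = a * z → l = 1
  iso : Nonempty (↥L ≃* Matrix.ProjectiveSpecialLinearGroup (Fin 2) F)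
  D_le : D ≤ A'
  D_sylow : IsSylowIn 2 D L

end abstract

end Cfsg.Agent.Lib.Helper8.L34
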