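import Mathlib
import Cfsg.Prelude.Def_Local
import Cfsg.Prelude.Def_ClassificationStages
import Cfsg.Agent.Lib.Helper8.CoreIn
import Cfsg.Agent.Lib.Helper8.PComp1
import Cfsg.Agent.Lib.Helper8.PComp2
import Cfsg.Agent.Lib.Helper8.FStar
import Cfsg.Agent.Lib.Helper8.Hyperplane
import Cfsg.Agent.Lib.Helper7.BB1
import Cfsg.Agent.Lib.Helper2.Cores
import Cfsg.Agent.Lib.Helper2.Components
import Cfsg.Agent.Lib.Helper1.FittingCentralizer

/-! Farm LBAL (S1301), unit K5 (preliminary form: K1 and T10 as explicit hypotheses). -/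

set_option autoImplicit false

namespace Cfsg.Agent.Lib.Helper8.LBAL

open Cfsg Cfsg.Agent.Lib.Helper8.CoreIn Cfsg.Agent.Lib.Helper8.PComp
open scoped commutatorElement

universe u

variable {G : Type u} [Group G]

/-- A Sylow `p`-subgroup of `E` meets a normal subgroup `K` of `E` in a Sylow `p`-subgroup of `K`
(index form). -/
theorem not_dvd_relIndex_inf_of_le_normalizer [Finite G] {p : ℕ} {E K S' : Subgroup G}
    (hKE : K ≤ E) (hEK : E ≤ Subgroup.normalizer (K : Set G))
    (hs : ¬ p ∣ S'.relIndex E) : ¬ p ∣ (S' ⊓ K).relIndex K := by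
  have hKn : (K.subgroupOf E).Normal := Subgroup.normal_subgroupOf_of_le_normalizer hEK
  set S₀ := S'.subgroupOf E with hS₀
  set K₀ := K.subgroupOf E with hK₀
  have h1 : S₀.relIndex (S₀ ⊔ K₀) ∣ S₀.index := Subgroup.relIndex_dvd_index_of_le le_sup_left
  have h3 : S₀.relIndex (S₀ ⊔ K₀) * Nat.card ↥(S₀ ⊓ K₀ : Subgroup ↥E) = Nat.card ↥K₀ := by
    have h1 := Cfsg.Agent.Lib.Helper2.card_sup_mul_card_inf S₀ K₀
    have h2 := Cfsg.Agent.Lib.Helper8.Hyperplane.relIndex_mul_card (le_sup_left : S₀ ≤ S₀ ⊔ K₀)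
    rw [← h2] at h1
    have hpos : 0 < Nat.card ↥S₀ := Nat.card_pos
    have : Nat.card ↥S₀ * (S₀.relIndex (S₀ ⊔ K₀) * Nat.card ↥(S₀ ⊓ K₀ : Subgroup ↥E)) =
        Nat.card ↥S₀ * Nat.card ↥K₀ := by rw [← h1]; ring
    exact Nat.eq_of_mul_eq_mul_left hpos this
  have h4 : (S₀ ⊓ K₀).relIndex K₀ * Nat.card ↥(S₀ ⊓ K₀ : Subgroup ↥E) = Nat.card ↥K₀ :=
    Cfsg.Agent.Lib.Helper8.Hyperplane.relIndex_mul_card (inf_le_right : S₀ ⊓ K₀ ≤ K₀)
  have h5 : S₀.relIndex (S₀ ⊔ K₀) = (S₀ ⊓ K₀).relIndex K₀ := by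
    have hpos : 0 < Nat.card ↥(S₀ ⊓ K₀ : Subgroup ↥E) := Nat.card_pos
    exact Nat.eq_of_mul_eq_mul_right hpos (h3.trans h4.symm)
  have h6 : (S₀ ⊓ K₀).relIndex K₀ = (S' ⊓ K).relIndex K := by
    rw [Subgroup.inf_relIndex_right, Subgroup.inf_relIndex_right, hS₀, hK₀,
      Subgroup.relIndex_subgroupOf hKE]
  intro hd
  apply hs
  rw [← h6, ← h5] at hd
  exact hd.trans h1

/-- `O(G) = 1`: the central quotient of every component of `G` has even order. -/
theorem two_dvd_card_quotient_center_of_isComponent [Finite G] (hO : Cfsg.oddCore G = ⊥)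
    {K : Subgroup G} (hK : IsComponent K) : 2 ∣ Nat.card (↥K ⧸ Subgroup.center ↥K) := by
  have hp2 : Fact (Nat.Prime 2) := ⟨Nat.prime_two⟩
  by_contra hodd
  have hsimple : IsSimpleGroup (↥K ⧸ Subgroup.center ↥K) := hK.2.2
  have hperf : Group.IsPerfect ↥K := hK.2.1
  -- a Sylow 2-subgroup of `K` is central
  let P : Sylow 2 ↥K := default
  have hPZ : (P : Subgroup ↥K) ≤ Subgroup.center ↥K := by
    intro x hx
    obtain ⟨k, hk⟩ := P.isPGroup' ⟨x, hx⟩
    have hk' : x ^ (2 ^ k) = 1 := by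
      have := congrArg Subtype.val hk
      simpa using this
    rw [← QuotientGroup.eq_one_iff]
    have h1 : ((x : ↥K) : ↥K ⧸ Subgroup.center ↥K) ^ (2 ^ k) = 1 := by
      rw [← QuotientGroup.mk_pow, hk']
      rfl
    have h2 : orderOf ((x : ↥K) : ↥K ⧸ Subgroup.center ↥K) ∣ 2 ^ k := orderOf_dvd_of_pow_eq_one h1
    have h3 : orderOf ((x : ↥K) : ↥K ⧸ Subgroup.center ↥K) ∣
        Nat.card (↥K ⧸ Subgroup.center ↥K) := orderOf_dvd_natCard _
    have hcop : Nat.Coprime (2 ^ k) (Nat.card (↥K ⧸ Subgroup.center ↥K)) := by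
      apply Nat.Coprime.pow_left
      exact (Nat.Prime.coprime_iff_not_dvd Nat.prime_two).2 hodd
    have h4 : orderOf ((x : ↥K) : ↥K ⧸ Subgroup.center ↥K) = 1 :=
      Nat.eq_one_of_dvd_coprimes hcop h2 h3
    exact orderOf_eq_one_iff.1 h4
  have hP : Subgroup.normalizer ((P : Subgroup ↥K) : Set ↥K) ≤
      Subgroup.centralizer ((P : Subgroup ↥K) : Set ↥K) := by
    intro g _
    rw [Subgroup.mem_centralizer_iff]
    intro x hx
    exact (Subgroup.mem_center_iff.1 (hPZ hx) g).symm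
  have hcomp := MonoidHom.ker_transferSylow_isComplement' P hP
  have hker : (MonoidHom.transferSylow P hP).ker = ⊤ := by
    rw [eq_top_iff, ← hperf.commutator_eq_top, commutator_def, Subgroup.commutator_le]
    intro a _ b _
    rw [MonoidHom.mem_ker, map_commutatorElement, commutatorElement_eq_one_iff_commute]
    apply Subtype.ext
    rw [Subgroup.coe_mul, Subgroup.coe_mul]
    exact (Subgroup.mem_center_iff.1
      (hPZ (MonoidHom.transferSylow P hP a).2) _).symm
  rw [hker, Subgroup.isComplement'_top_left] at hcomp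
  have hnd : ¬ 2 ∣ Nat.card ↥K := fun hd => P.ne_bot_of_dvd_card hd hcomp
  have hc : (Nat.card ↥K).Coprime 2 := by
    rw [Nat.coprime_comm]
    exact (Nat.Prime.coprime_iff_not_dvd Nat.prime_two).2 hnd
  have hKbot : K ≤ pPrimeCore 2 G := le_pPrimeCore_of_isSubnormal 2 hK.1 hc
  rw [show pPrimeCore 2 G = ⊥ from hO, le_bot_iff] at hKbot
  have hsub : Subsingleton ↥K := by
    rw [hKbot]
    infer_instance
  have : Subsingleton (↥K ⧸ Subgroup.center ↥K) :=
    (QuotientGroup.mk'_surjective _).subsingleton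
  exact not_subsingleton (↥K ⧸ Subgroup.center ↥K) inferInstance

/-- K5 (preliminary form): K1 and T10 given as hypotheses. -/
theorem K5pre [Finite G] (hO : Cfsg.oddCore G = ⊥) {R J S' : Subgroup G}
    (hJ : Cfsg.IsPComponentOf 2 J (Subgroup.normalizer (R : Set G)))
    (hS'E : S' ≤ Cfsg.layer G) (hS'R : S' ≤ R) (hS'2 : IsPGroup 2 ↥S')
    (hS's : ¬ 2 ∣ S'.relIndex (Cfsg.layer G))
    (hK1 : J ≤ Subgroup.centralizer (R : Set G) ∧
      J ≤ Subgroup.centralizer (Cfsg.pCore 2 G : Set G) ∧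
      (∀ K : Subgroup G, Cfsg.IsComponent K → J ≤ Subgroup.normalizer (K : Set G)) ∧
      ⁅J, J⁆ = J ∧ J = pGen 2 J)
    (hT10 : ∀ K SK : Subgroup G, Cfsg.IsQuasisimple ↥K →
      2 ∣ Nat.card (↥K ⧸ Subgroup.center ↥K) → SK ≤ K → IsPGroup 2 ↥SK →
      ¬ 2 ∣ SK.relIndex K → J ≤ Subgroup.normalizer (K : Set G) →
      J ≤ Subgroup.centralizer (SK : Set G) → J ≤ Subgroup.centralizer (K : Set G)) : False := by
  have hp2 : Fact (Nat.Prime 2) := ⟨Nat.prime_two⟩
  obtain ⟨hJR, hJP, hJN, hJperf, -⟩ := hK1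
  have hJK : ∀ K : Subgroup G, IsComponent K → J ≤ Subgroup.centralizer (K : Set G) := by
    intro K hK
    have hKE : K ≤ layer G := Cfsg.Agent.Lib.Helper2.le_layer hK
    have hEK : layer G ≤ Subgroup.normalizer (K : Set G) := by
      unfold layer
      apply sSup_le
      intro K' hK'
      rcases Cfsg.Agent.Lib.Helper2.isComponent_eq_or_commutator_eq_bot hK hK' with h | h
      · rw [← h]; exact Subgroup.le_normalizer
      · rw [Subgroup.commutator_comm, Subgroup.commutator_eq_bot_iff_le_centralizer] at h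
        exact h.trans (Subgroup.centralizer_le_normalizer _)
    refine hT10 K (S' ⊓ K) hK.2 (two_dvd_card_quotient_center_of_isComponent hO hK) inf_le_right
      (hS'2.to_le inf_le_left) (not_dvd_relIndex_inf_of_le_normalizer hKE hEK hS's) (hJN K hK) ?_
    refine hJR.trans (Subgroup.centralizer_le ?_)
    intro x hx
    exact hS'R hx.1
  have hJE : J ≤ Subgroup.centralizer (layer G : Set G) := by
    rw [Subgroup.le_centralizer_iff]
    unfold layer
    apply sSup_le
    intro K hK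
    rw [← Subgroup.le_centralizer_iff]
    exact hJK K hK
  have hJF : J ≤ Subgroup.centralizer (fittingSubgroup G : Set G) := by
    rw [Cfsg.Agent.Lib.Helper1.fittingSubgroup_eq_pCore_of_pPrimeCore_eq_bot 2 hO]
    exact hJP
  have hJFs : J ≤ Subgroup.centralizer (generalizedFittingSubgroup G : Set G) := by
    rw [Subgroup.le_centralizer_iff]
    unfold generalizedFittingSubgroup
    apply sup_le
    · rw [← Subgroup.le_centralizer_iff]; exact hJE
    · rw [← Subgroup.le_centralizer_iff]; exact hJF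
  have hJin : J ≤ generalizedFittingSubgroup G :=
    hJFs.trans Cfsg.Agent.Lib.Helper8.centralizer_generalizedFittingSubgroup_le
  have hJab : ⁅J, J⁆ = ⊥ := by
    rw [Subgroup.commutator_eq_bot_iff_le_centralizer]
    exact hJFs.trans (Subgroup.centralizer_le hJin)
  have hJbot : J = ⊥ := by rw [← hJperf, hJab]
  have hlike := ((Cfsg.Agent.Lib.Helper7.BB.isPComponentOf_iff J _).1 hJ).2.2
  have hd := hlike.dvd_card
  have hsub : Subsingleton ↥J := by
    rw [hJbot]
    infer_instance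
  rw [Nat.card_unique] at hd
  exact Nat.prime_two.one_lt.not_ge (Nat.le_of_dvd one_pos hd)

end Cfsg.Agent.Lib.Helper8.LBAL
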