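import Mathlib
import Cfsg.Prelude.Def_Local
import Cfsg.Prelude.Def_ClassificationStages
import Cfsg.Agent.Lib.Helper8.CoreIn
import Cfsg.Agent.Lib.Helper8.PComp2
import Cfsg.Agent.Lib.Helper7.BB1
import Cfsg.Agent.Lib.Helper7.SylowAux

/-! Farm LBAL (S1301), unit K3a. -/

set_option autoImplicit false
set_option linter.style.haveILetI false

namespace Cfsg.Agent.Lib.Helper8.LBAL

open Cfsg Cfsg.Agent.Lib.Helper8.CoreIn Cfsg.Agent.Lib.Helper8.PComp
open scoped commutatorElement Pointwise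

universe u

variable {G : Type u} [Group G]

/-- the elements normalizing `O` and acting trivially on `M` modulo `O`. -/
def trivSub (M O : Subgroup G) : Subgroup G where
  carrier := {a | a ∈ Subgroup.normalizer (O : Set G) ∧ (∀ m ∈ M, m⁻¹ * (a * m * a⁻¹) ∈ O) ∧
      ∀ m ∈ M, m⁻¹ * (a⁻¹ * m * a) ∈ O}
  one_mem' := by
    refine ⟨Subgroup.one_mem _, ?_, ?_⟩
    · intro m _
      have e : m⁻¹ * (1 * m * 1⁻¹) = 1 := by group
      rw [e]; exact O.one_mem
    · intro m _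
      have e : m⁻¹ * (1⁻¹ * m * 1) = 1 := by group
      rw [e]; exact O.one_mem
  mul_mem' := by
    rintro a b ⟨haN, ha1, ha2⟩ ⟨hbN, hb1, hb2⟩
    refine ⟨Subgroup.mul_mem _ haN hbN, ?_, ?_⟩
    · intro m hm
      have e : m⁻¹ * (a * b * m * (a * b)⁻¹) =
          (m⁻¹ * (a * m * a⁻¹)) * (a * (m⁻¹ * (b * m * b⁻¹)) * a⁻¹) := by group
      rw [e]
      exact O.mul_mem (ha1 m hm) ((Subgroup.mem_normalizer_iff.1 haN _).1 (hb1 m hm))
    · intro m hm
      have e : m⁻¹ * ((a * b)⁻¹ * m * (a * b)) =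
          (m⁻¹ * (b⁻¹ * m * b)) * (b⁻¹ * (m⁻¹ * (a⁻¹ * m * a)) * b) := by group
      rw [e]
      have hb' := Subgroup.inv_mem _ hbN
      have h3 := (Subgroup.mem_normalizer_iff.1 hb' _).1 (ha2 m hm)
      rw [inv_inv] at h3
      exact O.mul_mem (hb2 m hm) h3
  inv_mem' := by
    rintro a ⟨haN, ha1, ha2⟩
    refine ⟨Subgroup.inv_mem _ haN, ?_, ?_⟩
    · intro m hm
      rw [inv_inv]
      exact ha2 m hm
    · intro m hm
      rw [inv_inv]
      exact ha1 m hm

theorem mem_trivSub_of {J O : Subgroup G} (hJO : J ≤ Subgroup.normalizer (O : Set G)) {a : G}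
    (ha : a ∈ Subgroup.normalizer (O : Set G))
    (h1 : ∀ j ∈ J, j⁻¹ * (a * j * a⁻¹) ∈ O) (h2 : ∀ j ∈ J, j⁻¹ * (a⁻¹ * j * a) ∈ O) :
    a ∈ trivSub (J ⊔ O) O := by
  have hdec : ∀ m ∈ J ⊔ O, ∃ j ∈ J, ∃ o ∈ O, m = j * o := by
    intro m hm
    have hm' : m ∈ (↑(J ⊔ O) : Set G) := hm
    rw [Subgroup.coe_mul_of_left_le_normalizer_right J O hJO] at hm'
    obtain ⟨j, hj, o, ho, rfl⟩ := hm'
    exact ⟨j, hj, o, ho, rfl⟩
  refine ⟨ha, ?_, ?_⟩
  · intro m hm
    obtain ⟨j, hj, o, ho, rfl⟩ := hdec m hm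
    have e : (j * o)⁻¹ * (a * (j * o) * a⁻¹) =
        o⁻¹ * (j⁻¹ * (a * j * a⁻¹)) * (a * o * a⁻¹) := by group
    rw [e]
    exact O.mul_mem (O.mul_mem (O.inv_mem ho) (h1 j hj)) ((Subgroup.mem_normalizer_iff.1 ha o).1 ho)
  · intro m hm
    obtain ⟨j, hj, o, ho, rfl⟩ := hdec m hm
    have e : (j * o)⁻¹ * (a⁻¹ * (j * o) * a) =
        o⁻¹ * (j⁻¹ * (a⁻¹ * j * a)) * (a⁻¹ * o * a) := by group
    rw [e]
    have h3 := (Subgroup.mem_normalizer_iff.1 (Subgroup.inv_mem _ ha) o).1 ho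
    rw [inv_inv] at h3
    exact O.mul_mem (O.mul_mem (O.inv_mem ho) (h2 j hj)) h3

/-- a 2-group acting trivially on `M / O`, `O` of odd order, fixes an element of every coset
`m O`. -/
theorem exists_fixed_in_coset [Finite G] {A M O : Subgroup G} (hA2 : IsPGroup 2 ↥A)
    (hodd : ¬ 2 ∣ Nat.card ↥O) (hA : A ≤ trivSub M O) {m : G} (hm : m ∈ M) :
    ∃ x : G, m⁻¹ * x ∈ O ∧ ∀ a ∈ A, a * x * a⁻¹ = x := by
  have hp2 : Fact (Nat.Prime 2) := ⟨Nat.prime_two⟩
  let X := {x : G // m⁻¹ * x ∈ O}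
  have hsm : ∀ (a : ↥A) (x : X), m⁻¹ * ((a : G) * (x : G) * (a : G)⁻¹) ∈ O := by
    intro a x
    have e : m⁻¹ * ((a : G) * (x : G) * (a : G)⁻¹) =
        (m⁻¹ * ((a : G) * m * (a : G)⁻¹)) * ((a : G) * (m⁻¹ * (x : G)) * (a : G)⁻¹) := by group
    rw [e]
    exact O.mul_mem ((hA a.2).2.1 m hm) ((Subgroup.mem_normalizer_iff.1 (hA a.2).1 _).1 x.2)
  letI act : MulAction ↥A X :=
    { smul := fun a x => ⟨(a : G) * (x : G) * (a : G)⁻¹, hsm a x⟩
      one_smul := by
        intro x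
        apply Subtype.ext
        show ((1 : ↥A) : G) * (x : G) * ((1 : ↥A) : G)⁻¹ = x
        simp
      mul_smul := by
        intro a b x
        apply Subtype.ext
        show ((a * b : ↥A) : G) * (x : G) * ((a * b : ↥A) : G)⁻¹ =
          (a : G) * ((b : G) * (x : G) * (b : G)⁻¹) * (a : G)⁻¹
        rw [Subgroup.coe_mul]
        group }
  have hcard : Nat.card X = Nat.card ↥O := by
    apply Nat.card_congr
    refine ⟨fun x => ⟨m⁻¹ * (x : G), x.2⟩, fun o => ⟨m * (o : G), ?_⟩, ?_, ?_⟩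
    · show m⁻¹ * (m * (o : G)) ∈ O
      rw [inv_mul_cancel_left]; exact o.2
    · intro x
      apply Subtype.ext
      show m * (m⁻¹ * (x : G)) = x
      rw [mul_inv_cancel_left]
    · intro o
      apply Subtype.ext
      show m⁻¹ * (m * (o : G)) = o
      rw [inv_mul_cancel_left]
  obtain ⟨x, hx⟩ := hA2.nonempty_fixed_point_of_prime_not_dvd_card X (by rw [hcard]; exact hodd)
  refine ⟨x, x.2, ?_⟩
  intro a ha
  have := hx ⟨a, ha⟩
  exact congrArg Subtype.val this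

/-- K3a. -/
theorem K3a [Finite G] {R J N T : Subgroup G} (hR : IsPGroup 2 ↥R)
    (hJ : Cfsg.IsPComponentOf 2 J (Subgroup.normalizer (R : Set G)))
    (hJR : J ≤ Subgroup.centralizer (R : Set G))
    (hNY : N ≤ Subgroup.normalizer (R : Set G))
    (hYN : Subgroup.normalizer (R : Set G) ≤ Subgroup.normalizer (N : Set G))
    (hNJ : ⁅N, J⁆ ≤ N ⊓ coreIn 2 (Subgroup.normalizer (R : Set G)))
    (hTN : T ≤ N) (hT2 : IsPGroup 2 ↥T) :
    ∃ M' : Subgroup G, M' ≤ Subgroup.normalizer ((R ⊔ T : Subgroup G) : Set G) ∧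
      (M'.subgroupOf (Subgroup.normalizer ((R ⊔ T : Subgroup G) : Set G))).IsSubnormal ∧
      M' ≤ J ⊔ (N ⊓ coreIn 2 (Subgroup.normalizer (R : Set G))) ∧
      J ⊔ (N ⊓ coreIn 2 (Subgroup.normalizer (R : Set G))) ≤
        M' ⊔ (N ⊓ coreIn 2 (Subgroup.normalizer (R : Set G))) := by
  have hp2 : Fact (Nat.Prime 2) := ⟨Nat.prime_two⟩
  set Y := Subgroup.normalizer (R : Set G) with hY
  set Θ := coreIn 2 Y with hΘ
  set O₁ := N ⊓ Θ with hO₁
  obtain ⟨hJY, hJsn, -⟩ := (Cfsg.Agent.Lib.Helper7.BB.isPComponentOf_iff J Y).1 hJ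
  have hRY : R ≤ Y := Subgroup.le_normalizer
  have hTY : T ≤ Y := hTN.trans hNY
  have hYO : Y ≤ Subgroup.normalizer (O₁ : Set G) := by
    intro y hy
    have h1 := hYN hy
    have h2 := le_normalizer_coreIn 2 Y hy
    rw [Subgroup.mem_normalizer_iff] at h1 h2 ⊢
    intro x
    rw [hO₁, Subgroup.mem_inf, Subgroup.mem_inf, ← h1 x, ← h2 x]
  have hO₁Y : O₁ ≤ Y := inf_le_left.trans hNY
  set M := J ⊔ O₁ with hM
  set A := R ⊔ T with hA
  have hAY : A ≤ Y := sup_le hRY hTY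
  set C := Subgroup.centralizer (A : Set G) with hC
  set Y' := Subgroup.normalizer (A : Set G) with hY'
  have hCY' : C ≤ Y' := Subgroup.centralizer_le_normalizer _
  have hCY : C ≤ Y :=
    (Subgroup.centralizer_le (fun x hx => (le_sup_left : R ≤ A) hx)).trans
      (Subgroup.centralizer_le_normalizer _)
  refine ⟨M ⊓ C, inf_le_right.trans hCY', ?_, inf_le_left, ?_⟩
  · -- subnormality
    have hO₀n : (O₁.subgroupOf Y).Normal := Subgroup.normal_subgroupOf_of_le_normalizer hYO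
    have hMsn : (M.subgroupOf Y).IsSubnormal := by
      have h1 : ((J.subgroupOf Y).map (QuotientGroup.mk' (O₁.subgroupOf Y))).IsSubnormal :=
        hJsn.map (QuotientGroup.mk'_surjective _)
      have h2 := h1.comap (QuotientGroup.mk' (O₁.subgroupOf Y))
      rw [Subgroup.comap_map_eq, QuotientGroup.ker_mk', ← Subgroup.subgroupOf_sup hJY hO₁Y] at h2
      exact h2
    have h3 : ((M ⊓ C).subgroupOf C).IsSubnormal := by
      rw [Subgroup.inf_subgroupOf_right]
      exact Cfsg.Agent.Lib.Helper7.BB.subn_of_le hCY hMsn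
    have h4 : (C.subgroupOf Y').IsSubnormal := by
      apply Cfsg.Agent.Lib.Helper7.BB.subn_of_normalizer hCY'
      intro y hy
      apply Cfsg.Agent.Lib.Helper7.mem_normalizer_of_map_conj_le
      rintro _ ⟨c, hc, rfl⟩
      rw [MulEquiv.coe_toMonoidHom, MulAut.conj_apply]
      refine Subgroup.mem_centralizer_iff.2 ?_
      intro a ha
      have ha' : y⁻¹ * a * y ∈ A := by
        have := (Subgroup.mem_normalizer_iff.1 (Subgroup.inv_mem _ hy) a).1 ha
        simpa using this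
      have h1 := Subgroup.mem_centralizer_iff.1 hc _ ha'
      calc a * (y * c * y⁻¹) = y * ((y⁻¹ * a * y) * c) * y⁻¹ := by group
        _ = y * (c * (y⁻¹ * a * y)) * y⁻¹ := by rw [h1]
        _ = y * c * y⁻¹ * a := by group
    exact Cfsg.Agent.Lib.Helper7.BB.subn_trans inf_le_right hCY' h3 h4
  · -- covering
    have hA2 : IsPGroup 2 ↥A := by
      rw [hA, sup_comm]
      exact IsPGroup.to_sup_of_normal_right' hT2 hR hTY
    have hodd : ¬ 2 ∣ Nat.card ↥O₁ := by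
      have h1 : (Nat.card ↥Θ).Coprime 2 := coreIn_card_coprime 2 Y
      have h2 : Nat.card ↥O₁ ∣ Nat.card ↥Θ := Subgroup.card_dvd_of_le inf_le_right
      intro hd
      have h3 := Nat.Coprime.coprime_dvd_left h2 h1
      exact (Nat.Prime.coprime_iff_not_dvd Nat.prime_two).1 h3.symm hd
    have hJO : J ≤ Subgroup.normalizer (O₁ : Set G) := hJY.trans hYO
    have hJN' : ⁅J, N⁆ ≤ O₁ := by rw [Subgroup.commutator_comm]; exact hNJ
    have hAtriv : A ≤ trivSub M O₁ := by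
      rw [hA]
      apply sup_le
      · intro r hr
        have hcomm : ∀ r' ∈ R, ∀ j ∈ J, j⁻¹ * (r' * j * r'⁻¹) ∈ O₁ := by
          intro r' hr' j hj
          have h1 := Subgroup.mem_centralizer_iff.1 (hJR hj) r' hr'
          have e : j⁻¹ * (r' * j * r'⁻¹) = 1 := by
            rw [h1]; group
          rw [e]; exact O₁.one_mem
        apply mem_trivSub_of hJO (hYO (hRY hr)) (hcomm r hr)
        intro j hj
        have := hcomm r⁻¹ (R.inv_mem hr) j hj
        rwa [inv_inv] at this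
      · intro t ht
        have hcomm : ∀ t' ∈ T, ∀ j ∈ J, j⁻¹ * (t' * j * t'⁻¹) ∈ O₁ := by
          intro t' ht' j hj
          have h1 : ⁅j⁻¹, t'⁆ ∈ ⁅J, N⁆ :=
            Subgroup.commutator_mem_commutator (J.inv_mem hj) (hTN ht')
          have e : j⁻¹ * (t' * j * t'⁻¹) = ⁅j⁻¹, t'⁆ := by
            rw [commutatorElement_def]; group
          rw [e]; exact hJN' h1
        apply mem_trivSub_of hJO (hYO (hTY ht)) (hcomm t ht)
        intro j hj
        have := hcomm t⁻¹ (T.inv_mem ht) j hj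
        rwa [inv_inv] at this
    intro m hm
    obtain ⟨x, hx, hfix⟩ := exists_fixed_in_coset hA2 hodd hAtriv hm
    have hxM : x ∈ M := by
      have : x = m * (m⁻¹ * x) := by group
      rw [this]
      exact M.mul_mem hm ((le_sup_right : O₁ ≤ M) hx)
    have hxC : x ∈ C := by
      rw [hC, Subgroup.mem_centralizer_iff]
      intro a ha
      have h1 := hfix a ha
      calc a * x = (a * x * a⁻¹) * a := by group
        _ = x * a := by rw [h1]
    have hmx : m = x * (m⁻¹ * x)⁻¹ := by group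
    rw [hmx]
    exact Subgroup.mul_mem _ ((le_sup_left : M ⊓ C ≤ M ⊓ C ⊔ O₁) ⟨hxM, hxC⟩)
      ((le_sup_right : O₁ ≤ M ⊓ C ⊔ O₁) (O₁.inv_mem hx))

end Cfsg.Agent.Lib.Helper8.LBAL
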