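import Mathlib
import Cfsg.Agent.Lib.Helper8.LBALK3a
import Cfsg.Agent.Lib.Helper1.LBALK3b

/-! Farm LBAL (S1301), unit K3 = K3a + K3b. -/

set_option autoImplicit false

namespace Cfsg.Agent.Lib.Helper8.LBAL

open Cfsg Cfsg.Agent.Lib.Helper8.CoreIn Cfsg.Agent.Lib.Helper8.PComp
open scoped commutatorElement

universe u

/-- K3: enlarging `R` by a 2-subgroup `T` of `N`. -/
theorem K3 {G : Type u} [Group G] [Finite G] {R J N T : Subgroup G} (hR : IsPGroup 2 ↥R)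
    (hJ : Cfsg.IsPComponentOf 2 J (Subgroup.normalizer (R : Set G)))
    (hJR : J ≤ Subgroup.centralizer (R : Set G))
    (hNY : N ≤ Subgroup.normalizer (R : Set G))
    (hYN : Subgroup.normalizer (R : Set G) ≤ Subgroup.normalizer (N : Set G))
    (hNJ : ⁅N, J⁆ ≤ N ⊓ coreIn 2 (Subgroup.normalizer (R : Set G)))
    (hTN : T ≤ N) (hT2 : IsPGroup 2 ↥T) :
    ∃ J' : Subgroup G, Cfsg.IsPComponentOf 2 J' (Subgroup.normalizer ((R ⊔ T : Subgroup G) : Set G)) ∧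
      J ≤ J' ⊔ (N ⊓ coreIn 2 (Subgroup.normalizer (R : Set G))) := by
  have hp2 : Fact (Nat.Prime 2) := ⟨Nat.prime_two⟩
  obtain ⟨M', hM'Y, hM'sn, h1, h2⟩ := K3a hR hJ hJR hNY hYN hNJ hTN hT2
  obtain ⟨hJY, -, hlike⟩ :=
    (Cfsg.Agent.Lib.Helper7.BB.isPComponentOf_iff J (Subgroup.normalizer (R : Set G))).1 hJ
  have hodd : Odd (Nat.card ↥(N ⊓ coreIn 2 (Subgroup.normalizer (R : Set G)) : Subgroup G)) := by
    have h1 : (Nat.card ↥(coreIn 2 (Subgroup.normalizer (R : Set G)))).Coprime 2 :=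
      coreIn_card_coprime 2 _
    have h2 : Nat.card ↥(N ⊓ coreIn 2 (Subgroup.normalizer (R : Set G)) : Subgroup G) ∣
        Nat.card ↥(coreIn 2 (Subgroup.normalizer (R : Set G))) :=
      Subgroup.card_dvd_of_le inf_le_right
    have h3 := Nat.Coprime.coprime_dvd_left h2 h1
    rw [← Nat.not_even_iff_odd, even_iff_two_dvd]
    exact (Nat.Prime.coprime_iff_not_dvd Nat.prime_two).1 h3.symm
  have hJO : J ≤ Subgroup.normalizer
      ((N ⊓ coreIn 2 (Subgroup.normalizer (R : Set G)) : Subgroup G) : Set G) := by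
    intro y hy
    have h1 := hYN (hJY hy)
    have h2 := le_normalizer_coreIn 2 (Subgroup.normalizer (R : Set G)) (hJY hy)
    rw [Subgroup.mem_normalizer_iff] at h1 h2 ⊢
    intro x
    rw [Subgroup.mem_inf, Subgroup.mem_inf, ← h1 x, ← h2 x]
  obtain ⟨h3, h4⟩ := Cfsg.Agent.Lib.Helper1.LBAL.K3b hlike hodd hJO hM'Y hM'sn h1 h2
  exact ⟨pGen 2 M', h3, h4⟩

end Cfsg.Agent.Lib.Helper8.LBAL
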