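import Mathlib
import Cfsg.Agent.Lib.Helper1.MNDDefs

set_option autoImplicit false

namespace Cfsg.Agent.Lib.Helper8.MND

open Matrix Cfsg Cfsg.Agent.Lib.Lead.LS1 Cfsg.Agent.Lib.Helper1.MND
open scoped commutatorElement

section gmsec

variable {F : Type*} [Field F] {k : ℕ}

theorem gm_mul (A B : SS k F) : gm (A * B) = gm A * gm B := by
  apply Subtype.ext
  show fromBlocks 1 0 0 (A * B).1 = fromBlocks 1 0 0 A.1 * fromBlocks 1 0 0 B.1
  rw [fromBlocks_multiply]
  simp

theorem gm_one : gm (1 : SS k F) = 1 := by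
  apply Subtype.ext
  show fromBlocks 1 0 0 (1 : SS k F).1 = 1
  rw [Matrix.SpecialLinearGroup.coe_one, fromBlocks_one]

theorem comm_eq_of_mul_eq {G : Type*} [Group G] (A B T : G) (h : A * B = T * B * A) :
    ⁅A, B⁆ = T := by
  rw [commutatorElement_def, h]
  group

/-- elementary matrix `1 + a E_ij` in `SL_k` -/
def xS (i j : Fin k) (hij : i ≠ j) (a : F) : SS k F :=
  ⟨Matrix.transvection i j a, Matrix.det_transvection_of_ne i j hij a⟩

theorem xS_mulVec (i j : Fin k) (hij : i ≠ j) (a : F) (c : Fin k → F) :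
    (xS i j hij a).1 *ᵥ c = c + (a * c j) • Pi.single i 1 := by
  show Matrix.transvection i j a *ᵥ c = _
  rw [Matrix.transvection, Matrix.add_mulVec, Matrix.one_mulVec, Matrix.single_mulVec_eq]

theorem xS_comm (i l j : Fin k) (hil : i ≠ l) (hlj : l ≠ j) (hij : i ≠ j) (a b : F) :
    xS i l hil a * xS l j hlj b = xS i j hij (a * b) * xS l j hlj b * xS i l hil a := by
  apply Subtype.ext
  show transvection i l a * transvection l j b
    = transvection i j (a * b) * transvection l j b * transvection i l a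
  have h1 : ∀ x y : F, (single i j x : Matrix (Fin k) (Fin k) F) * single l j y = 0 :=
    fun x y => single_mul_single_of_ne (c := x) i j l hlj.symm y
  have h2 : ∀ x y : F, (single i j x : Matrix (Fin k) (Fin k) F) * single i l y = 0 :=
    fun x y => single_mul_single_of_ne (c := x) i j i hij.symm y
  have h3 : ∀ x y : F, (single l j x : Matrix (Fin k) (Fin k) F) * single i l y = 0 :=
    fun x y => single_mul_single_of_ne (c := x) l j i hij.symm y
  simp only [transvection, add_mul, mul_add, one_mul, mul_one, single_mul_single_same,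
    h1, h2, h3, add_zero]
  abel

theorem xS_commute (i j l p : Fin k) (hij : i ≠ j) (hlp : l ≠ p) (hjl : j ≠ l) (hpi : p ≠ i)
    (a b : F) : xS i j hij a * xS l p hlp b = xS l p hlp b * xS i j hij a := by
  apply Subtype.ext
  show transvection i j a * transvection l p b = transvection l p b * transvection i j a
  have h1 : ∀ x y : F, (single i j x : Matrix (Fin k) (Fin k) F) * single l p y = 0 :=
    fun x y => single_mul_single_of_ne (c := x) i j l hjl y
  have h2 : ∀ x y : F, (single l p x : Matrix (Fin k) (Fin k) F) * single i j y = 0 :=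
    fun x y => single_mul_single_of_ne (c := x) l p i hpi y
  simp only [transvection, add_mul, mul_add, one_mul, mul_one, h1, h2, add_zero]
  abel

end gmsec

section main

variable {F : Type*} [Field F] [Fintype F] {m : ℕ}

theorem tvS_eq_xS (t : F) : (tvS t : SS (m + 2) F) = xS 0 1 (by simp) t := rfl

/-- the reduction: two elements of `SL_(m+2)` fixing `c` whose commutator is `tvS t` -/
theorem hb_mem_of (c : Fin (m + 2) → F) (t : F) (A B : SS (m + 2) F) (hA : A.1 *ᵥ c = c)
    (hB : B.1 *ᵥ c = c) (h : A * B = tvS t * B * A) :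
    (hb t : GG (m + 2) F) ∈ ⁅StabC c, StabC c⁆ := by
  have h1 : ⁅gm A, gm B⁆ = hb t := by
    apply comm_eq_of_mul_eq
    show gm A * gm B = gm (tvS t) * gm B * gm A
    rw [← gm_mul, ← gm_mul, ← gm_mul, h]
  rw [← h1]
  exact Subgroup.commutator_mem_commutator (gm_mem_StabC A c hA) (gm_mem_StabC B c hB)

/-- first generic case: some coordinate `c l`, `l ≠ 0, 1`, vanishes -/
theorem hb_mem_case1 (c : Fin (m + 2) → F) (hc1 : c 1 = 0) (l : Fin (m + 2)) (hl0 : l ≠ 0)
    (hl1 : l ≠ 1) (hcl : c l = 0) (t : F) :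
    (hb t : GG (m + 2) F) ∈ ⁅StabC c, StabC c⁆ := by
  refine hb_mem_of c t (xS 0 l hl0.symm t) (xS l 1 hl1 1) ?_ ?_ ?_
  · rw [xS_mulVec, hcl, mul_zero, zero_smul, add_zero]
  · rw [xS_mulVec, hc1, mul_zero, zero_smul, add_zero]
  · rw [tvS_eq_xS, xS_comm 0 l 1 hl0.symm hl1 (by simp) t 1, mul_one]

/-- second generic case: two further coordinates `l, p` with `c p ≠ 0` -/
theorem hb_mem_case2 (c : Fin (m + 2) → F) (hc1 : c 1 = 0) (l p : Fin (m + 2)) (hl0 : l ≠ 0)
    (hl1 : l ≠ 1) (hp0 : p ≠ 0) (hlp : l ≠ p) (hcp : c p ≠ 0) (t : F) :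
    (hb t : GG (m + 2) F) ∈ ⁅StabC c, StabC c⁆ := by
  refine hb_mem_of c t (xS 0 l hl0.symm t * xS 0 p hp0.symm (-(t * c l) / c p)) (xS l 1 hl1 1)
    ?_ ?_ ?_
  · rw [Matrix.SpecialLinearGroup.coe_mul, ← mulVec_mulVec, xS_mulVec, xS_mulVec]
    have h0 : ((c + (-(t * c l) / c p * c p) • (Pi.single 0 1 : Fin (m + 2) → F)) : Fin (m + 2) → F) l
        = c l := by
      rw [Pi.add_apply, Pi.smul_apply, Pi.single_eq_of_ne hl0, smul_zero, add_zero]
    rw [h0, add_assoc, ← add_smul]
    have h1 : -(t * c l) / c p * c p + t * c l = 0 := by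
      field_simp
      ring
    rw [h1, zero_smul, add_zero]
  · rw [xS_mulVec, hc1, mul_zero, zero_smul, add_zero]
  · rw [tvS_eq_xS, mul_assoc, xS_commute 0 p l 1 hp0.symm hl1 hlp.symm (by simp), ← mul_assoc,
      xS_comm 0 l 1 hl0.symm hl1 (by simp) t 1, mul_one]
    simp only [mul_assoc]

end main

end Cfsg.Agent.Lib.Helper8.MND
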