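import Mathlib
import Cfsg.Prelude.Def_Characters
import Cfsg.Agent.Lib.Helper1.MNDDefs
import Cfsg.Agent.Lib.Helper8.MNDA2a
import Cfsg.Agent.Lib.Helper8.SLB1

set_option autoImplicit false
set_option linter.unusedSectionVars false
set_option linter.unusedVariables false

/-!
Farm MND, unit D1: `isCharacter_res0` - the fixed points of the row group as a representation of
`SL_m` (deflation along the normal subgroup `xm` of its normaliser, restricted to `gm`).
-/

namespace Cfsg.Agent.Lib.Helper8.MND

open Matrix Cfsg Cfsg.Agent.Lib.Lead.LS1 Cfsg.Agent.Lib.Helper1.MND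

section D1

variable {F : Type*} [Field F] [Fintype F] [DecidableEq F] {m k : ℕ}

/-- the row group as a homomorphism -/
def xmHom (m : ℕ) (F : Type*) [Field F] : Multiplicative (Fin m → F) →* GG m F where
  toFun v := xm (Multiplicative.toAdd v)
  map_one' := xm_zero
  map_mul' v w := xm_add _ _

/-- the Levi part as a homomorphism -/
def gmHom (m : ℕ) (F : Type*) [Field F] : SS m F →* GG m F where
  toFun A := gm A
  map_one' := gm_one
  map_mul' A B := gm_mul A B

theorem xm_injective : Function.Injective (xm : (Fin m → F) → GG m F) := by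
  intro v w h
  ext j
  rw [← xm_apply v j, ← xm_apply w j, h]

theorem gm_conj_xm (A : SS m F) (w : Fin m → F) :
    gm A * xm w * (gm A)⁻¹ = xm (w ᵥ* (A⁻¹).1) := by
  have := xm_mul_gm (w ᵥ* (A⁻¹).1) A
  rw [vecMul_vecMul, ← Matrix.SpecialLinearGroup.coe_mul, inv_mul_cancel,
    Matrix.SpecialLinearGroup.coe_one, vecMul_one] at this
  rw [← this]
  group

theorem gm_mem_normalizer (A : SS m F) : gm A ∈ Subgroup.normalizer ((xmHom m F).range : Set (GG m F)) := by
  rw [Subgroup.mem_normalizer_iff]
  intro h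
  constructor
  · rintro ⟨v, rfl⟩
    exact ⟨Multiplicative.ofAdd (Multiplicative.toAdd v ᵥ* (A⁻¹).1), (gm_conj_xm A _).symm⟩
  · rintro ⟨v, hv⟩
    refine ⟨Multiplicative.ofAdd (Multiplicative.toAdd v ᵥ* A.1), ?_⟩
    have h1 : h = (gm A)⁻¹ * xm (Multiplicative.toAdd v) * gm A := by
      have : xm (Multiplicative.toAdd v) = gm A * h * (gm A)⁻¹ := hv
      rw [this]
      group
    rw [h1, mul_assoc, xm_mul_gm]
    show xm (Multiplicative.toAdd v ᵥ* A.1) = _
    group

theorem isCharacter_comp_hom {H K : Type*} [Group H] [Group K] (φ : H →* K) {χ : K → ℂ}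
    (hχ : IsCharacter K χ) : IsCharacter H (fun h => χ (φ h)) := by
  obtain ⟨d, ρ, rfl⟩ := hχ
  exact ⟨d, ρ.comp φ, rfl⟩

theorem isCharacter_res0 (ρ : Representation ℂ (GG m F) (Fin k → ℂ)) :
    IsCharacter (SS m F) (res0 ρ.character) := by
  classical
  let Vs : Subgroup (GG m F) := (xmHom m F).range
  let K : Subgroup (GG m F) := Subgroup.normalizer (Vs : Set (GG m F))
  let N : Subgroup K := Vs.subgroupOf K
  have hN : N.Normal := Subgroup.normal_in_normalizer
  have : Fintype N := Fintype.ofFinite N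
  have h1 : IsCharacter K (fun x : K => ρ.character (x : GG m F)) :=
    isCharacter_comp_hom K.subtype ⟨k, ρ, rfl⟩
  have h2 := Cfsg.Agent.Lib.Helper8.SLB.isCharacter_deflate N h1
  let φ : SS m F →* K := (gmHom m F).codRestrict K gm_mem_normalizer
  have h3 := isCharacter_comp_hom φ h2
  have hmemV : ∀ v : Fin m → F, xm v ∈ Vs := fun v => ⟨Multiplicative.ofAdd v, rfl⟩
  have hmemK : ∀ v : Fin m → F, xm v ∈ K := fun v => Subgroup.le_normalizer (hmemV v)
  let e : (Fin m → F) ≃ N := Equiv.ofBijective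
    (fun v => ⟨⟨xm v, hmemK v⟩, by
      show (⟨xm v, hmemK v⟩ : K) ∈ Vs.subgroupOf K
      rw [Subgroup.mem_subgroupOf]
      exact hmemV v⟩) (by
    constructor
    · intro v w h
      apply xm_injective
      exact congrArg (fun x : N => ((x : K) : GG m F)) h
    · rintro ⟨⟨x, hxK⟩, hx⟩
      rw [Subgroup.mem_subgroupOf] at hx
      obtain ⟨v, hv⟩ := hx
      refine ⟨Multiplicative.toAdd v, ?_⟩
      apply Subtype.ext
      apply Subtype.ext
      exact hv)
  have hcard : Nat.card N = Fintype.card F ^ m := by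
    rw [← Nat.card_congr e, Nat.card_eq_fintype_card, Fintype.card_fun, Fintype.card_fin]
  convert h3 using 1
  funext A
  show res0 ρ.character A = Cfsg.Agent.Lib.Helper8.SLB.deflate N _ (φ A)
  unfold res0 Cfsg.Agent.Lib.Helper8.SLB.deflate
  rw [hcard, Nat.cast_pow]
  congr 1
  exact Fintype.sum_equiv e _ _ (fun v => rfl)

end D1

end Cfsg.Agent.Lib.Helper8.MND
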