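import Mathlib
import Cfsg.Prelude.Def_Characters
import Cfsg.Agent.Lib.Helper1.MNDDefs
import Cfsg.Agent.Lib.Helper1.MNDB1
import Cfsg.Agent.Lib.Helper1.MNDB2
import Cfsg.Agent.Lib.Helper2.MNDD2
import Cfsg.Agent.Lib.Helper5.MNDA3
import Cfsg.Agent.Lib.Helper8.MNDD1
import Cfsg.Agent.Lib.Helper5.MNDA1
import Cfsg.Agent.Lib.Helper1.MNDB2b
import Cfsg.Agent.Lib.Helper6.Auto
import Cfsg.Agent.Lib.Helper6.Multiplicity
import Cfsg.Agent.Lib.Helper6.IrrBasis
import Cfsg.Agent.Lib.Helper6.Linear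

set_option autoImplicit false
set_option linter.unusedSectionVars false
set_option linter.unusedVariables false

/-!
Farm MND, unit D3: `res0_decomp`, `res0_small` - decomposition of the fixed points of the row group
into irreducible `SL_(m+3)`-modules.
-/

namespace Cfsg.Agent.Lib.Helper8.MND

open Matrix Cfsg Cfsg.Agent.Lib.Lead.LS1 Cfsg.Agent.Lib.Helper1.MND Cfsg.Agent.Lib.Helper6

section D3

variable {F : Type*} [Field F] [Fintype F] [DecidableEq F] {m k : ℕ}

/-- a linear character of `SL_(m+1)` that is trivial on a nontrivial element of the row group is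
trivial -/
theorem linear_char_trivial (hm : 2 ≤ m) (χ : GG m F → ℂ) (hχ : IsCharacter (GG m F) χ)
    (h1 : χ 1 = 1) (u : Fin m → F) (hu : u ≠ 0) (hxu : χ (xm u) = 1) (g : GG m F) : χ g = 1 := by
  have hmem : xm u ∈ (linearCharHom hχ h1).ker := by
    rw [MonoidHom.mem_ker]
    apply Units.ext
    rw [linearCharHom_apply, hxu]
    rfl
  have hN : (linearCharHom hχ h1).ker = ⊤ :=
    Cfsg.Agent.Lib.Helper5.MND.normal_eq_top hm _ u hu hmem
  have hg : g ∈ (linearCharHom hχ h1).ker := by rw [hN]; trivial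
  have h2 := congrArg (fun x : ℂˣ => (x : ℂ)) (MonoidHom.mem_ker.mp hg)
  simpa [linearCharHom_apply] using h2

theorem card_pow_sub_ne_zero (j : ℕ) :
    (Fintype.card F : ℂ) ^ (j + 1) - (Fintype.card F : ℂ) ^ j ≠ 0 := by
  have hq : 1 < Fintype.card F := Fintype.one_lt_card
  have h1 : ((Fintype.card F ^ j : ℕ) : ℂ) ≠ ((Fintype.card F ^ (j + 1) : ℕ) : ℂ) := by
    intro h
    have h2 : Fintype.card F ^ j = Fintype.card F ^ (j + 1) := by exact_mod_cast h
    have h3 : Fintype.card F ^ j < Fintype.card F ^ (j + 1) := Nat.pow_lt_pow_right hq (by omega)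
    omega
  intro h
  apply h1
  push_cast
  rw [sub_eq_zero] at h
  exact h.symm

theorem irr_data (ψ : AddChar F ℂ) (hψ : ∃ a, ψ a ≠ 1) (e : GG (m + 2) F ≃* SS (m + 3) F)
    (he : ∀ t : F, e (xm (t • Pi.single 0 1)) = tvS t) (θ : SS (m + 3) F → ℂ)
    (hθ : IsIrrCharacter (SS (m + 3) F) θ) :
    ∃ n b : ℕ, θ 1 = n ∧ (Fintype.card F ^ (m + 2) - 1) * b ≤ n ∧
      θ 1 - avgB θ = b * ((Fintype.card F : ℂ) ^ (m + 2) - (Fintype.card F : ℂ) ^ (m + 1)) ∧
      (b = 0 → θ = fun _ => 1) ∧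
      (b = 1 → ∃ σ : Representation ℂ (GG (m + 2) F) (Fin n → ℂ),
        σ.IsIrreducible ∧ 2 ≤ n ∧ BOne ψ σ.character) := by
  have hq : 1 < Fintype.card F := Fintype.one_lt_card
  obtain ⟨n, σ, hσ, hσc⟩ := IsIrrCharacter.comp_mulEquiv e hθ
  obtain ⟨a, b, ha, hb, hn⟩ := exists_ab (by omega : 2 ≤ m + 2) ψ hψ σ
  have hcod := Cfsg.Agent.Lib.Helper2.MND.codim_irr (m := m + 1) ψ hψ σ a b ha hb
  have hσg : ∀ g, σ.character g = θ (e g) := fun g => congrFun hσc g
  have h1 : θ 1 = n := by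
    have h2 := character_one σ
    rw [hσg, map_one] at h2
    exact h2
  have havg : (Fintype.card F : ℂ)⁻¹ * ∑ t : F, σ.character (xm (t • Pi.single 0 1)) = avgB θ := by
    unfold avgB
    congr 1
    apply Finset.sum_congr rfl
    intro t _
    rw [hσg, he]
  refine ⟨n, b, h1, ?_, ?_, ?_, ?_⟩
  · rw [hn]
    exact Nat.le_add_left _ _
  · rw [h1, ← havg]
    exact hcod
  · intro hb0
    subst hb0
    have hc0 : (Pi.single 0 1 : Fin (m + 2) → F) ≠ 0 := by
      intro h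
      have := congrFun h 0
      simp at this
    have hn2 : ¬ 2 ≤ n := by
      intro h2
      have := b_pos (by omega : 2 ≤ m + 2) ψ hψ σ hσ h2 _ hc0
      rw [hb _ hc0] at this
      exact this (by simp)
    have hn0 : n ≠ 0 := by
      intro h0
      have := IsIrrCharacter.apply_one_ne_zero hθ
      rw [h1, h0] at this
      exact this (by simp)
    have hn1 : n = 1 := by omega
    have ha1 : a = 1 := by
      rw [hn1] at hn
      omega
    have hχ : IsCharacter (GG (m + 2) F) σ.character := ⟨n, σ, rfl⟩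
    have hχ1 : σ.character 1 = 1 := by
      rw [character_one, hn1]
      simp
    have hxu : σ.character (xm (Pi.single 0 1 : Fin (m + 2) → F)) = 1 := by
      rw [fourier ψ hψ σ.character (Pi.single 0 1), Finset.sum_eq_single (0 : Fin (m + 2) → F)]
      · rw [ha, ha1, zero_dotProduct, AddChar.map_zero_eq_one]
        simp
      · intro c _ hc
        rw [hb c hc]
        simp
      · intro h
        exact absurd (Finset.mem_univ _) h
    funext x
    have h3 := linear_char_trivial (by omega : 2 ≤ m + 2) σ.character hχ hχ1 _ hc0 hxu (e.symm x)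
    rw [hσg, MulEquiv.apply_symm_apply] at h3
    exact h3
  · intro hb1
    subst hb1
    refine ⟨σ, hσ, ?_, ?_⟩
    · have h4 : 2 ^ (m + 2) ≤ Fintype.card F ^ (m + 2) := Nat.pow_le_pow_left hq _
      have h5 : 4 ≤ 2 ^ (m + 2) := by
        calc 4 = 2 ^ 2 := by norm_num
          _ ≤ 2 ^ (m + 2) := Nat.pow_le_pow_right (by norm_num) (by omega)
      rw [hn]
      omega
    · intro c hc
      rw [hb c hc]
      simp

theorem decomp_data [Fintype (IrrCharacter (SS (m + 3) F))] (ψ : AddChar F ℂ)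
    (hψ : ∃ a, ψ a ≠ 1) (e : GG (m + 2) F ≃* SS (m + 3) F)
    (he : ∀ t : F, e (xm (t • Pi.single 0 1)) = tvS t)
    (ρ : Representation ℂ (GG (m + 3) F) (Fin k → ℂ)) :
    ∃ mult n b : IrrCharacter (SS (m + 3) F) → ℕ,
      (∀ θ : IrrCharacter (SS (m + 3) F), classInner (res0 ρ.character) (θ : SS (m + 3) F → ℂ) = mult θ) ∧
      (mV ψ ρ.character 0 = ((∑ θ, mult θ * n θ : ℕ) : ℂ)) ∧
      (mV ψ ρ.character 0 - avgB (res0 ρ.character) = ((∑ θ, mult θ * b θ : ℕ) : ℂ) *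
        ((Fintype.card F : ℂ) ^ (m + 2) - (Fintype.card F : ℂ) ^ (m + 1))) ∧
      (∀ θ : IrrCharacter (SS (m + 3) F), (θ : SS (m + 3) F → ℂ) 1 = n θ) ∧
      (∀ θ, (Fintype.card F ^ (m + 2) - 1) * b θ ≤ n θ) ∧
      (∀ θ : IrrCharacter (SS (m + 3) F), b θ = 0 → (θ : SS (m + 3) F → ℂ) = fun _ => 1) ∧
      (∀ θ, b θ = 1 → ∃ σ : Representation ℂ (GG (m + 2) F) (Fin (n θ) → ℂ),
        σ.IsIrreducible ∧ 2 ≤ n θ ∧ BOne ψ σ.character) := by
  classical
  have hφ : IsCharacter (SS (m + 3) F) (res0 ρ.character) := isCharacter_res0 ρ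
  obtain ⟨mult, hsum, hinner⟩ := IsCharacter.exists_mult hφ
  choose n b hn1 hnb hcod hb0 hb1 using
    fun θ : IrrCharacter (SS (m + 3) F) => irr_data ψ hψ e he θ.1 θ.2
  have hval : ∀ g, res0 ρ.character g = ∑ θ, (mult θ : ℂ) * (θ : SS (m + 3) F → ℂ) g :=
    apply_eq_sum_mult hsum
  have havgB : avgB (res0 ρ.character) = ∑ θ, (mult θ : ℂ) * avgB (θ : SS (m + 3) F → ℂ) := by
    unfold avgB
    simp_rw [hval]
    rw [Finset.sum_comm, Finset.mul_sum]
    apply Finset.sum_congr rfl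
    intro θ _
    rw [← Finset.mul_sum]
    ring
  have hφ1 : res0 ρ.character 1 = mV ψ ρ.character 0 := res0_one ψ ρ.character
  refine ⟨mult, n, b, hinner, ?_, ?_, hn1, hnb, hb0, hb1⟩
  · rw [← hφ1, hval 1]
    push_cast
    apply Finset.sum_congr rfl
    intro θ _
    rw [hn1 θ]
  · rw [← hφ1, hval 1, havgB, ← Finset.sum_sub_distrib]
    push_cast
    rw [Finset.sum_mul]
    apply Finset.sum_congr rfl
    intro θ _
    rw [← mul_sub, hcod θ]
    ring

theorem res0_decomp_of (ψ : AddChar F ℂ) (hψ : ∃ a, ψ a ≠ 1) (e : GG (m + 2) F ≃* SS (m + 3) F)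
    (he : ∀ t : F, e (xm (t • Pi.single 0 1)) = tvS t)
    (ρ : Representation ℂ (GG (m + 3) F) (Fin k → ℂ))
    (hstar : mV ψ ρ.character 0 - avgB (res0 ρ.character) =
      (Fintype.card F : ℂ) ^ (m + 2) - (Fintype.card F : ℂ) ^ (m + 1)) :
    ∃ (c k' : ℕ) (σ : Representation ℂ (GG (m + 2) F) (Fin k' → ℂ)), σ.IsIrreducible ∧ 2 ≤ k' ∧
      BOne ψ σ.character ∧ mV ψ ρ.character 0 = c + k' ∧
      classInner (res0 ρ.character) (fun _ => 1) = c := by
  classical
  have : Fintype (IrrCharacter (SS (m + 3) F)) := Fintype.ofFinite _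
  have hq : 1 < Fintype.card F := Fintype.one_lt_card
  obtain ⟨mult, n, b, hinner, hdeg, hcod, hn1, hnb, hb0, hb1⟩ := decomp_data ψ hψ e he ρ
  have hκ := card_pow_sub_ne_zero (F := F) (m + 1)
  have hsumb : ∑ θ, mult θ * b θ = 1 := by
    have h : ((∑ θ, mult θ * b θ : ℕ) : ℂ) *
        ((Fintype.card F : ℂ) ^ (m + 2) - (Fintype.card F : ℂ) ^ (m + 1)) =
        1 * ((Fintype.card F : ℂ) ^ (m + 2) - (Fintype.card F : ℂ) ^ (m + 1)) := by
      rw [one_mul, ← hcod, hstar]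
    exact_mod_cast mul_right_cancel₀ hκ h
  obtain ⟨θ0, hθ0⟩ : ∃ θ0, mult θ0 * b θ0 ≠ 0 := by
    by_contra hcon
    push Not at hcon
    rw [Finset.sum_eq_zero (fun θ _ => hcon θ)] at hsumb
    exact zero_ne_one hsumb
  have hsplit := Finset.add_sum_erase Finset.univ (fun θ => mult θ * b θ) (Finset.mem_univ θ0)
  rw [hsumb] at hsplit
  have h0 : mult θ0 * b θ0 = 1 ∧ ∑ θ ∈ Finset.univ.erase θ0, mult θ * b θ = 0 := by
    have : 0 < mult θ0 * b θ0 := Nat.pos_of_ne_zero hθ0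
    omega
  have hm0 : mult θ0 = 1 := Nat.dvd_one.mp ⟨b θ0, h0.1.symm⟩
  have hbθ0 : b θ0 = 1 := Nat.dvd_one.mp ⟨mult θ0, by rw [mul_comm]; exact h0.1.symm⟩
  have hothers : ∀ θ, θ ≠ θ0 → mult θ * b θ = 0 := fun θ hθ =>
    Finset.sum_eq_zero_iff.mp h0.2 θ (Finset.mem_erase.mpr ⟨hθ, Finset.mem_univ _⟩)
  have hbig : 3 ≤ Fintype.card F ^ (m + 2) - 1 := by
    have h4 : 2 ^ (m + 2) ≤ Fintype.card F ^ (m + 2) := Nat.pow_le_pow_left hq _
    have h5 : 4 ≤ 2 ^ (m + 2) := by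
      calc 4 = 2 ^ 2 := by norm_num
        _ ≤ 2 ^ (m + 2) := Nat.pow_le_pow_right (by norm_num) (by omega)
    omega
  obtain ⟨triv, htriv⟩ : ∃ triv : IrrCharacter (SS (m + 3) F),
      (triv : SS (m + 3) F → ℂ) = fun _ => 1 := ⟨⟨fun _ => 1, isIrrCharacter_one⟩, rfl⟩
  have htriv_ne : triv ≠ θ0 := by
    intro h
    subst h
    have h1 := hn1 triv
    rw [htriv] at h1
    have h1' : (1 : ℂ) = n triv := h1
    have h2 : n triv = 1 := by exact_mod_cast h1'.symm
    have h3 := hnb triv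
    rw [hbθ0, h2] at h3
    omega
  have hzero : ∀ θ, θ ≠ θ0 → θ ≠ triv → mult θ = 0 := by
    intro θ h1 h2
    by_contra hm
    have hbθ : b θ = 0 := by
      rcases Nat.mul_eq_zero.mp (hothers θ h1) with h | h
      · exact absurd h hm
      · exact h
    exact h2 (Subtype.ext ((hb0 θ hbθ).trans htriv.symm))
  obtain ⟨σ, hσ, hk', hB⟩ := hb1 θ0 hbθ0
  refine ⟨mult triv, n θ0, σ, hσ, hk', hB, ?_, ?_⟩
  · rw [hdeg]
    have h1 : ∑ θ, mult θ * n θ = mult triv + n θ0 := by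
      rw [← Finset.add_sum_erase _ _ (Finset.mem_univ θ0),
        ← Finset.add_sum_erase _ _ (Finset.mem_erase.mpr ⟨htriv_ne, Finset.mem_univ triv⟩),
        Finset.sum_eq_zero, add_zero, hm0, one_mul]
      · have h1 := hn1 triv
        rw [htriv] at h1
        have h1' : (1 : ℂ) = n triv := h1
        have h2 : n triv = 1 := by exact_mod_cast h1'.symm
        rw [h2, mul_one, add_comm]
      · intro θ hθ
        have h1 := Finset.mem_erase.mp hθ
        have h2 := Finset.mem_erase.mp h1.2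
        rw [hzero θ h2.1 h1.1, zero_mul]
    rw [h1]
    push_cast
    ring
  · rw [← htriv]
    exact hinner triv

theorem res0_small_of (ψ : AddChar F ℂ) (hψ : ∃ a, ψ a ≠ 1) (e : GG (m + 2) F ≃* SS (m + 3) F)
    (he : ∀ t : F, e (xm (t • Pi.single 0 1)) = tvS t)
    (ρ : Representation ℂ (GG (m + 3) F) (Fin k → ℂ)) (a : ℕ) (ha : mV ψ ρ.character 0 = a)
    (hsmall : a < Fintype.card F ^ (m + 2) - 1) :
    classInner (res0 ρ.character) (fun _ => 1) = a := by
  classical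
  have : Fintype (IrrCharacter (SS (m + 3) F)) := Fintype.ofFinite _
  obtain ⟨mult, n, b, hinner, hdeg, hcod, hn1, hnb, hb0, hb1⟩ := decomp_data ψ hψ e he ρ
  rw [ha] at hdeg
  have hdeg' : a = ∑ θ, mult θ * n θ := by exact_mod_cast hdeg
  obtain ⟨triv, htriv⟩ : ∃ triv : IrrCharacter (SS (m + 3) F),
      (triv : SS (m + 3) F → ℂ) = fun _ => 1 := ⟨⟨fun _ => 1, isIrrCharacter_one⟩, rfl⟩
  have hall : ∀ θ, θ ≠ triv → mult θ = 0 := by
    intro θ hθ
    by_contra hm
    have hbne : b θ ≠ 0 := fun h => hθ (Subtype.ext ((hb0 θ h).trans htriv.symm))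
    have h1 : Fintype.card F ^ (m + 2) - 1 ≤ n θ :=
      le_trans (Nat.le_mul_of_pos_right _ (Nat.pos_of_ne_zero hbne)) (hnb θ)
    have h2 : mult θ * n θ ≤ a := by
      rw [hdeg']
      exact Finset.single_le_sum (f := fun θ => mult θ * n θ) (fun _ _ => Nat.zero_le _)
        (Finset.mem_univ θ)
    have h3 : n θ ≤ mult θ * n θ := Nat.le_mul_of_pos_left _ (Nat.pos_of_ne_zero hm)
    omega
  have h1 : ∑ θ, mult θ * n θ = mult triv := by
    rw [Finset.sum_eq_single triv]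
    · have h1 := hn1 triv
      rw [htriv] at h1
      have h1' : (1 : ℂ) = n triv := h1
      have h2 : n triv = 1 := by exact_mod_cast h1'.symm
      rw [h2, mul_one]
    · intro θ _ hθ
      rw [hall θ hθ, zero_mul]
    · intro h
      exact absurd (Finset.mem_univ _) h
  rw [← htriv, hinner triv, hdeg', h1]

theorem res0_decomp (ψ : AddChar F ℂ) (hψ : ∃ a, ψ a ≠ 1)
    (ρ : Representation ℂ (GG (m + 3) F) (Fin k → ℂ))
    (hstar : mV ψ ρ.character 0 - avgB (res0 ρ.character) =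
      (Fintype.card F : ℂ) ^ (m + 2) - (Fintype.card F : ℂ) ^ (m + 1)) :
    ∃ (c k' : ℕ) (σ : Representation ℂ (GG (m + 2) F) (Fin k' → ℂ)), σ.IsIrreducible ∧ 2 ≤ k' ∧
      BOne ψ σ.character ∧ mV ψ ρ.character 0 = c + k' ∧
      classInner (res0 ρ.character) (fun _ => 1) = c := by
  obtain ⟨e, he⟩ := Cfsg.Agent.Lib.Helper5.MND.exists_reidx (F := F) (m := m + 1)
  exact res0_decomp_of ψ hψ e he ρ hstar

theorem res0_small (ψ : AddChar F ℂ) (hψ : ∃ a, ψ a ≠ 1)
    (ρ : Representation ℂ (GG (m + 3) F) (Fin k → ℂ)) (a : ℕ) (ha : mV ψ ρ.character 0 = a)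
    (hsmall : a < Fintype.card F ^ (m + 2) - 1) :
    classInner (res0 ρ.character) (fun _ => 1) = a := by
  obtain ⟨e, he⟩ := Cfsg.Agent.Lib.Helper5.MND.exists_reidx (F := F) (m := m + 1)
  exact res0_small_of ψ hψ e he ρ a ha hsmall

end D3

end Cfsg.Agent.Lib.Helper8.MND
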