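import Mathlib
import Cfsg.Agent.Lib.Helper3.MSDefs

/-! S4125 MS farm, piece B1: first consequences of a minimal counterexample. -/

set_option autoImplicit false
set_option linter.unusedVariables false
set_option linter.unusedSectionVars false
set_option linter.style.longLine false

namespace Cfsg.Agent.Lib.Helper3.MS

universe u v

variable {p q : ℕ} {H : Type u} [Group H] {V : Type v} [AddCommGroup V] [DistribMulAction H V]

/-- `|N : N ∩ S|` divides `|H : S|` when `N` is normal -/
theorem h8_relIndex_dvd_index_right {G : Type*} [Group G] [Finite G] (S N : Subgroup G) [N.Normal] :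
    S.relIndex N ∣ S.index := by
  have h1 : Nat.card N * N.relIndex (S ⊔ N) = Nat.card (S ⊔ N : Subgroup G) := by
    rw [← Subgroup.relIndex_bot_left, Subgroup.relIndex_mul_relIndex _ _ _ bot_le le_sup_right,
      Subgroup.relIndex_bot_left]
  have h2 : Nat.card (S ⊓ N : Subgroup G) * N.relIndex S = Nat.card S := by
    rw [← Subgroup.inf_relIndex_left, inf_comm, ← Subgroup.relIndex_bot_left,
      Subgroup.relIndex_mul_relIndex _ _ _ bot_le inf_le_right, Subgroup.relIndex_bot_left]
  have h3 : Nat.card (S ⊓ N : Subgroup G) * S.relIndex N = Nat.card N := by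
    rw [← Subgroup.inf_relIndex_right, ← Subgroup.relIndex_bot_left,
      Subgroup.relIndex_mul_relIndex _ _ _ bot_le inf_le_right, Subgroup.relIndex_bot_left]
  have h4 : Nat.card S * S.relIndex (S ⊔ N) = Nat.card (S ⊔ N : Subgroup G) := by
    rw [← Subgroup.relIndex_bot_left, Subgroup.relIndex_mul_relIndex _ _ _ bot_le le_sup_left,
      Subgroup.relIndex_bot_left]
  rw [Subgroup.relIndex_sup_right] at h1
  have h5 : S.relIndex (S ⊔ N) = S.relIndex N := by
    have hpos : 0 < Nat.card S := Nat.card_pos
    have hpos2 : 0 < Nat.card (S ⊓ N : Subgroup G) := Nat.card_pos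
    have e : Nat.card S * Nat.card (S ⊓ N : Subgroup G) * S.relIndex (S ⊔ N)
        = Nat.card S * Nat.card (S ⊓ N : Subgroup G) * S.relIndex N := by
      calc Nat.card S * Nat.card (S ⊓ N : Subgroup G) * S.relIndex (S ⊔ N)
          = Nat.card (S ⊓ N : Subgroup G) * (Nat.card S * S.relIndex (S ⊔ N)) := by ring
        _ = Nat.card (S ⊓ N : Subgroup G) * (Nat.card N * N.relIndex S) := by rw [h4, h1]
        _ = Nat.card N * (Nat.card (S ⊓ N : Subgroup G) * N.relIndex S) := by ring
        _ = Nat.card S * (Nat.card (S ⊓ N : Subgroup G) * S.relIndex N) := by rw [h2, h3]; ring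
        _ = Nat.card S * Nat.card (S ⊓ N : Subgroup G) * S.relIndex N := by ring
    exact Nat.eq_of_mul_eq_mul_left (Nat.mul_pos hpos hpos2) e
  rw [← h5]
  exact Subgroup.relIndex_dvd_index_of_le le_sup_left

/-- a subgroup `N` all of whose orbits have size dividing a power of `p` and whose order is prime to `p` acts trivially -/
theorem Hyp.h8_coprime_acts_trivially (h : Hyp p q H V) (N : Subgroup H) (hN : N.Normal)
    (hc : (Nat.card N).Coprime p) (n : H) (hn : n ∈ N) (v : V) : n • v = v := by
  have := h.finH
  obtain ⟨a, ha⟩ := h.orb v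
  have h1 : (MulAction.stabilizer H v).relIndex N ∣ p ^ a := by
    rw [← ha]
    exact h8_relIndex_dvd_index_right _ N
  have h2 : (MulAction.stabilizer H v).relIndex N ∣ Nat.card N := by
    rw [Subgroup.relIndex]
    exact Subgroup.index_dvd_card _
  have h3 : (MulAction.stabilizer H v).relIndex N = 1 := by
    have hcop : (Nat.card N).Coprime (p ^ a) := Nat.Coprime.pow_right a hc
    exact Nat.eq_one_of_dvd_coprimes hcop h2 h1
  have h4 : N ≤ MulAction.stabilizer H v := Subgroup.relIndex_eq_one.mp h3
  exact MulAction.mem_stabilizer_iff.mp (h4 hn)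

theorem MinCE.p_ne_q (h : MinCE p q H V) : p ≠ q := by
  intro hpq
  have := h.finH
  apply h.notSolv
  have htriv : ∀ x : H, x = 1 := by
    intro x
    apply h.faithful
    intro v
    have hc : (Nat.card (⊤ : Subgroup H)).Coprime p := by
      rw [Subgroup.card_top, hpq]
      exact h.cop
    exact h.toHyp.h8_coprime_acts_trivially ⊤ inferInstance hc x (Subgroup.mem_top x) v
  have : Subsingleton H := ⟨fun a b => by rw [htriv a, htriv b]⟩
  infer_instance

theorem MinCE.hom_trivial (h : MinCE p q H V) {S : Type*} [Group S] (φ : H →* S)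
    (hS : Group.IsSolvable φ.range) (x : H) : φ x = 1 := by
  by_contra hx
  apply h.notSolv
  have hne : φ.ker ≠ ⊤ := by
    intro htop
    apply hx
    have : x ∈ φ.ker := by rw [htop]; exact Subgroup.mem_top x
    exact MonoidHom.mem_ker.mp this
  have hker : Group.IsSolvable φ.ker := h.normalSolv φ.ker inferInstance hne
  exact Group.isSolvable_of_ker_le_range φ.ker.subtype φ.rangeRestrict (by
    rw [MonoidHom.ker_rangeRestrict, Subgroup.range_subtype])

theorem MinCE.normal_coprime_trivial (h : MinCE p q H V) (N : Subgroup H) (hN : N.Normal)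
    (hc : (Nat.card N).Coprime p) : N = ⊥ := by
  rw [eq_bot_iff]
  intro n hn
  rw [Subgroup.mem_bot]
  apply h.faithful
  intro v
  exact h.toHyp.h8_coprime_acts_trivially N hN hc n hn v

end Cfsg.Agent.Lib.Helper3.MS
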