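import Mathlib
import Cfsg.Agent.Lib.Helper3.MSDefs
import Cfsg.Agent.Lib.Helper1.Index
import Cfsg.Agent.Lib.Helper8.MSB2

/-! S4125 MS farm, piece B3: a Sylow `p`-subgroup is transitive on every orbit; consequences. -/

set_option autoImplicit false
set_option linter.unusedVariables false
set_option linter.unusedSectionVars false
set_option linter.style.longLine false

namespace Cfsg.Agent.Lib.Helper3.MS

universe u v

variable {p q : ℕ} {H : Type u} [Group H] {V : Type v} [AddCommGroup V] [DistribMulAction H V]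

theorem Hyp.sylow_orbit (h : Hyp p q H V) [Fact p.Prime] (P : Sylow p H) (v : V) (x : H) :
    ∃ g ∈ P, g • v = x • v := by
  have := h.finH
  obtain ⟨a, ha⟩ := h.orb v
  have hcop : (P : Subgroup H).index.Coprime (MulAction.stabilizer H v).index := by
    rw [ha]
    apply Nat.Coprime.pow_right
    rw [Nat.coprime_comm]
    exact (Nat.Prime.coprime_iff_not_dvd Fact.out).mpr P.not_dvd_index
  obtain ⟨g, hg, s, hs, hx⟩ :=
    Cfsg.Agent.Lib.Helper1.mul_eq_of_coprime_index (P : Subgroup H) (MulAction.stabilizer H v) hcop x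
  refine ⟨g, hg, ?_⟩
  rw [hx, mul_smul, MulAction.mem_stabilizer_iff.mp hs]

theorem MinCE.sylow_irred (h : MinCE p q H V) [Fact p.Prime] (P : Sylow p H) (W : AddSubgroup V)
    (hW : ∀ g ∈ P, ∀ w ∈ W, g • w ∈ W) : W = ⊥ ∨ W = ⊤ := by
  apply h.irred
  intro x w hw
  obtain ⟨g, hg, hgx⟩ := h.toHyp.sylow_orbit P w x
  rw [← hgx]
  exact hW g hg w hw

theorem MinCE.fixed_eq_zero (h : MinCE p q H V) [Fact p.Prime] (P : Sylow p H) (D : Subgroup H)
    (hDP : D ≤ (P : Subgroup H)) (hDn : ∀ g ∈ P, ∀ d ∈ D, g * d * g⁻¹ ∈ D) (hD : D ≠ ⊥)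
    (v : V) (hv : ∀ d ∈ D, d • v = v) : v = 0 := by
  let W : AddSubgroup V :=
    { carrier := {w | ∀ d ∈ D, d • w = w}
      add_mem' := by
        intro a b ha hb d hd
        rw [smul_add, ha d hd, hb d hd]
      zero_mem' := fun d _ => smul_zero d
      neg_mem' := by
        intro a ha d hd
        rw [smul_neg, ha d hd] }
  have hWinv : ∀ g ∈ P, ∀ w ∈ W, g • w ∈ W := by
    intro g hg w hw d hd
    have h1 : g⁻¹ * d * g ∈ D := by
      have := hDn g⁻¹ (P.inv_mem hg) d hd
      rwa [inv_inv] at this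
    have h2 : (g⁻¹ * d * g) • w = w := hw _ h1
    calc d • g • w = (g * (g⁻¹ * d * g)) • w := by
          rw [← mul_smul]
          congr 1
          simp only [mul_assoc, mul_inv_cancel_left]
      _ = g • w := by rw [mul_smul, h2]
  rcases h.sylow_irred P W hWinv with hW | hW
  · have : v ∈ W := hv
    rw [hW] at this
    exact (AddSubgroup.mem_bot).mp this
  · exfalso
    apply hD
    rw [eq_bot_iff]
    intro d hd
    rw [Subgroup.mem_bot]
    apply h.faithful
    intro w
    have : w ∈ W := by rw [hW]; exact AddSubgroup.mem_top w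
    exact this d hd

end Cfsg.Agent.Lib.Helper3.MS
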