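import Mathlib
import Cfsg.Prelude.Def_Transfer

/-!
Farm NG5 (S1904): shared definitions.  `Hyp` packages the hypotheses of S1904 in usable form,
`B1` the data of Branch 1 (A trivial on every characteristic abelian subgroup),
`B2` the data of Branch 2 (a central A-transitive four-group W), `IsY`, `B2N0`, `B2A` the data
of the sub-branch s = 2.
-/

set_option autoImplicit false
open scoped commutatorElement

namespace Cfsg.Agent.Lib.Helper8.NG5

/-- `K` is normal in `X` and invariant under every automorphism in `A`. -/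
def GNormal {X : Type*} [Group X] (A : Subgroup (MulAut X)) (K : Subgroup X) : Prop :=
  K.Normal ∧ ∀ φ ∈ A, ∀ k ∈ K, φ k ∈ K

/-- The hypotheses of S1904 in usable form.  `ne`: every normal subgroup of exponent 2 has order
at most 4 (from `hscn`); `gen`: a subgroup containing all `x⁻¹ φ(x)` is everything (`[X,A] = X`). -/
structure Hyp (X : Type*) [Group X] [Finite X] (A : Subgroup (MulAut X)) : Prop where
  pg : IsPGroup 2 X
  na : ∃ x y : X, x * y ≠ y * x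
  ne : ∀ E : Subgroup X, E.Normal → (∀ e ∈ E, e ^ 2 = 1) → Nat.card E ≤ 4
  odd : Odd (Nat.card A)
  gen : ∀ K : Subgroup X, (∀ φ ∈ A, ∀ x : X, x⁻¹ * φ x ∈ K) → K = ⊤

/-- Branch 1 data: `X` special, centre = fixed points of `A`, centre elementary abelian,
`A` fixed-point-free on `X / Z(X)`. -/
structure B1 (X : Type*) [Group X] [Finite X] (A : Subgroup (MulAut X)) : Prop where
  special : Cfsg.IsSpecial 2 X
  fix : ∀ g : X, g ∈ Subgroup.center X ↔ ∀ a ∈ A, a g = g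
  sq : ∀ x : X, x ^ 2 ∈ Subgroup.center X
  comm : ∀ x y : X, ⁅x, y⁆ ∈ Subgroup.center X
  exp : ∀ z ∈ Subgroup.center X, z ^ 2 = 1
  fpf : ∀ x : X, (∀ φ ∈ A, x⁻¹ * φ x ∈ Subgroup.center X) → x ∈ Subgroup.center X

/-- Branch 2 data: a central four-group `W`, `A`-invariant, `A` transitive on `W \ {1}`. -/
structure B2 (X : Type*) [Group X] [Finite X] (A : Subgroup (MulAut X)) (W : Subgroup X) :
    Prop where
  card : Nat.card W = 4
  exp : ∀ w ∈ W, w ^ 2 = 1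
  central : W ≤ Subgroup.center X
  inv : ∀ φ ∈ A, ∀ w ∈ W, φ w ∈ W
  trans : ∀ w ∈ W, ∀ w' ∈ W, w ≠ 1 → w' ≠ 1 → ∃ φ ∈ A, φ w = w'

/-- `Y` is the full preimage of `Ω₁(Z(X/W))`. -/
def IsY {X : Type*} [Group X] (W Y : Subgroup X) : Prop :=
  ∀ y : X, y ∈ Y ↔ (y ^ 2 ∈ W ∧ ∀ g : X, ⁅y, g⁆ ∈ W)

/-- Sub-branch `|Y| = 16`: a maximal `A`-invariant normal abelian subgroup `N ⊇ Y` and its basic
properties (`Ω₁(N) = W`, `Ω₂(N) = Y`, `W ≤ N²`, `|N : N²| = 4`). -/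
structure B2N0 (X : Type*) [Group X] [Finite X] (A : Subgroup (MulAut X)) (W Y N : Subgroup X) :
    Prop where
  gn : GNormal A N
  comm : ∀ v ∈ N, ∀ v' ∈ N, v * v' = v' * v
  YN : Y ≤ N
  max : ∀ N' : Subgroup X, GNormal A N' → (∀ v ∈ N', ∀ v' ∈ N', v * v' = v' * v) → N ≤ N' →
    N' ≤ N
  om1 : ∀ v ∈ N, v ^ 2 = 1 → v ∈ W
  om2 : ∀ v ∈ N, v ^ 4 = 1 → v ∈ Y
  sqW : ∀ w ∈ W, ∃ y ∈ Y, y ^ 2 = w
  exQ : ∃ Q : Subgroup X, (∀ v : X, v ∈ Q ↔ ∃ u ∈ N, u ^ 2 = v) ∧ Nat.card N = 4 * Nat.card Q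

/-- `A = {1, a, a²}` with `a` of order 3 acting fixed-point-freely on `N`. -/
structure B2A (X : Type*) [Group X] [Finite X] (A : Subgroup (MulAut X)) (N : Subgroup X)
    (a : MulAut X) : Prop where
  mem : a ∈ A
  ne_one : a ≠ 1
  cube : a ^ 3 = 1
  all : ∀ φ ∈ A, φ = 1 ∨ φ = a ∨ φ = a ^ 2
  fpf : ∀ v ∈ N, a v = v → v = 1

end Cfsg.Agent.Lib.Helper8.NG5
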