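import Mathlib

/-!
# S4257 (class-size prime graph has diameter at most 3): shared definition

`idx g` is the size of the conjugacy class of `g`, written as the index of the centralizer
(the form used in the statement).
-/

set_option autoImplicit false

namespace Cfsg.Agent.Lib.Helper8.CSG

variable {G : Type*} [Group G]

/-- the class size of `g`, as the index of its centralizer -/
noncomputable abbrev idx (g : G) : ℕ := (Subgroup.centralizer ({g} : Set G)).index

end Cfsg.Agent.Lib.Helper8.CSG
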