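import Mathlib
import Cfsg.Agent.Lib.Helper8.CSGDefs
import Cfsg.Agent.Lib.Helper4.CSGConj
import Cfsg.Agent.Lib.Helper7.CSGPowC
import Cfsg.Agent.Lib.Helper9.CSGSylow

set_option autoImplicit false
set_option maxHeartbeats 4000000
set_option linter.unusedVariables false
set_option linter.unusedSectionVars false
set_option linter.style.longLine false

namespace Cfsg.Agent.Lib.Helper8.CSG

variable {G : Type*} [Group G] [Finite G]

/-! ### P7 : the asymmetric lemma (helper8) -/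

theorem h8_idx_pos (g : G) : 0 < idx g := Nat.pos_of_ne_zero Subgroup.index_ne_zero_of_finite

theorem h8_idx_eq_one_of_mem_center {g : G} (hg : g ∈ Subgroup.center G) : idx g = 1 := by
  have : Subgroup.centralizer ({g} : Set G) = ⊤ := by
    rw [eq_top_iff]
    intro a _
    rw [Subgroup.mem_centralizer_singleton_iff]
    exact ((Subgroup.mem_center_iff.mp hg) a)
  simp [idx, this]

theorem h8_mem_center_of_pow {g : G} {n v k : ℕ} (hv : v.Prime) (hvn : ¬ v ∣ n)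
    (hgn : g ^ n ∈ Subgroup.center G) (hk : g ^ v ^ k = 1) : g ∈ Subgroup.center G := by
  have hcop : Nat.Coprime n (v ^ k) :=
    Nat.Coprime.pow_right k ((Nat.Prime.coprime_iff_not_dvd hv).mpr hvn).symm
  have hbez := Nat.gcd_eq_gcd_ab n (v ^ k)
  rw [Nat.Coprime.gcd_eq_one hcop] at hbez
  have h3 : g ^ ((n : ℤ) * Nat.gcdA n (v ^ k) + ((v ^ k : ℕ) : ℤ) * Nat.gcdB n (v ^ k)) = g := by
    rw [← hbez]; simp
  rw [zpow_add, zpow_mul, zpow_mul, zpow_natCast, zpow_natCast, hk, one_zpow, mul_one] at h3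
  rw [← h3]
  exact Subgroup.zpow_mem _ hgn _

theorem asym (π1 π2 : Set ℕ)
    (hmix : ∀ g : G, ∀ r ∈ π1, ∀ s ∈ π2, r.Prime → s.Prime → r ∣ idx g → s ∣ idx g → False)
    (p : ℕ) (hp : p.Prime) (x0 : G) (hx0 : p ∣ idx x0)
    (hpN : ∀ g : G, p ∣ idx g → ∀ r : ℕ, r.Prime → r ∣ idx g → r ∈ π1)
    (y0 : G) (hy0 : ∀ r : ℕ, r.Prime → r ∣ idx y0 → r ∈ π2)
    (hmax : ∀ x : G, (∀ r : ℕ, r.Prime → r ∣ idx x → r ∈ π1) → x ∉ Subgroup.center G →
      idx x < idx y0)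
    (v : ℕ) (hv : v.Prime) (h : G) (hvh : v ∣ idx h) : v ∈ π1 ∨ v ∈ π2 := by
  by_contra hcon
  push Not at hcon
  obtain ⟨hv1, hv2⟩ := hcon
  have hpow : ∀ x : G, (∀ r : ℕ, r.Prime → r ∣ idx x → r ∈ π1) → x ∉ Subgroup.center G →
      ∃ n : ℕ, n ∣ idx y0 ∧ x ^ n ∈ Subgroup.center G := by
    intro x hx1 hxZ
    have hcop : (idx x).Coprime (idx y0) := by
      by_contra hnc
      obtain ⟨r, hr, hrx, hry⟩ := Nat.Prime.not_coprime_iff_dvd.mp hnc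
      exact hmix x r (hx1 r hr hrx) r (hy0 r hr hry) hr hr hrx hrx
    have hdvd := idx_mul_dvd hcop
    have hd : idx (x * y0) ∣ idx x ∨ idx (x * y0) ∣ idx y0 := by
      by_cases hc1 : (idx (x * y0)).Coprime (idx x)
      · right; exact hc1.dvd_of_dvd_mul_left hdvd
      · by_cases hc2 : (idx (x * y0)).Coprime (idx y0)
        · left; exact hc2.dvd_of_dvd_mul_right hdvd
        · exfalso
          obtain ⟨r, hr, hr1, hr2⟩ := Nat.Prime.not_coprime_iff_dvd.mp hc1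
          obtain ⟨s, hs, hs1, hs2⟩ := Nat.Prime.not_coprime_iff_dvd.mp hc2
          exact hmix (x * y0) r (hx1 r hr hr2) s (hy0 s hs hs2) hr hs hr1 hs1
    exact exists_pow_mem_center hcop (hmax x hx1 hxZ) hd
  have hx0Z : x0 ∉ Subgroup.center G := by
    intro hz
    rw [h8_idx_eq_one_of_mem_center hz] at hx0
    exact hp.one_lt.ne' (Nat.dvd_one.mp hx0)
  have hx0π : ∀ r : ℕ, r.Prime → r ∣ idx x0 → r ∈ π1 := hpN x0 hx0
  obtain ⟨n0, hn0, hxn0⟩ := hpow x0 hx0π hx0Z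
  have hvn0 : ¬ v ∣ n0 := fun hd => hv2 (hy0 v hv (hd.trans hn0))
  obtain ⟨u, hvu, hCu⟩ := exists_prime_to_part hv hvn0 hxn0
  have hidxu : idx u = idx x0 := congrArg Subgroup.index hCu
  have hvidx : ¬ v ∣ idx u := by rw [hidxu]; exact fun hd => hv1 (hx0π v hv hd)
  refine not_dvd_idx_of_central_elts hv hvidx ?_ h hvh
  rintro g hcomm ⟨k, hk⟩
  by_contra hgZ
  have ho : (orderOf u).Coprime (orderOf g) := by
    have h1 : orderOf g ∣ v ^ k := orderOf_dvd_of_pow_eq_one hk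
    exact Nat.Coprime.coprime_dvd_right h1
      (Nat.Coprime.pow_right k ((Nat.Prime.coprime_iff_not_dvd hv).mpr hvu).symm)
  obtain ⟨h1, h2⟩ := idx_dvd_idx_mul_of_coprime_order hcomm ho
  have hp' : p ∣ idx (u * g) := by
    have : p ∣ idx u := by rw [hidxu]; exact hx0
    exact this.trans h1
  have hgπ : ∀ r : ℕ, r.Prime → r ∣ idx g → r ∈ π1 :=
    fun r hr hrg => hpN (u * g) hp' r hr (hrg.trans h2)
  obtain ⟨n, hn, hgn⟩ := hpow g hgπ hgZ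
  have hvn : ¬ v ∣ n := fun hd => hv2 (hy0 v hv (hd.trans hn))
  exact hgZ (h8_mem_center_of_pow hv hvn hgn hk)

theorem h8_mem_center_of_idx_eq_one {g : G} (hg : idx g = 1) : g ∈ Subgroup.center G := by
  have htop : Subgroup.centralizer ({g} : Set G) = ⊤ := Subgroup.index_eq_one.mp hg
  rw [Subgroup.mem_center_iff]
  intro a
  have ha : a ∈ Subgroup.centralizer ({g} : Set G) := by rw [htop]; trivial
  exact (Subgroup.mem_centralizer_singleton_iff.mp ha)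

theorem main
    (hconn : ∀ S : Set ℕ, (∃ p ∈ S, (p.Prime ∧ ∃ g : G, p ∣ idx g)) →
      (∃ q ∉ S, (q.Prime ∧ ∃ g : G, q ∣ idx g)) →
      ∃ p q : ℕ, (p.Prime ∧ ∃ g : G, p ∣ idx g) ∧ (q.Prime ∧ ∃ g : G, q ∣ idx g) ∧ p ∈ S ∧ q ∉ S ∧
        (∃ g : G, p * q ∣ idx g))
    (p q : ℕ) (hp : (p.Prime ∧ ∃ g : G, p ∣ idx g)) (hq : (q.Prime ∧ ∃ g : G, q ∣ idx g))
    (hpq : p ≠ q) :
    (∃ g : G, p * q ∣ idx g) ∨
      (∃ r : ℕ, (r.Prime ∧ ∃ g : G, r ∣ idx g) ∧ r ≠ p ∧ r ≠ q ∧ (∃ g : G, p * r ∣ idx g) ∧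
        (∃ g : G, r * q ∣ idx g)) ∨
      (∃ r s : ℕ, (r.Prime ∧ ∃ g : G, r ∣ idx g) ∧ (s.Prime ∧ ∃ g : G, s ∣ idx g) ∧ r ≠ p ∧ s ≠ q ∧
        r ≠ s ∧ r ≠ q ∧ s ≠ p ∧
        (∃ g : G, p * r ∣ idx g) ∧ (∃ g : G, r * s ∣ idx g) ∧ (∃ g : G, s * q ∣ idx g)) := by
  classical
  by_contra hcon
  rw [not_or, not_or] at hcon
  obtain ⟨h1, h2, h3⟩ := hcon
  obtain ⟨hpp, x0, hx0⟩ := hp
  obtain ⟨hqp, y0', hy0'⟩ := hq
  have hmul : ∀ {a b n : ℕ}, a.Prime → b.Prime → a ≠ b → a ∣ n → b ∣ n → a * b ∣ n := by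
    intro a b n ha hb hab han hbn
    exact Nat.Coprime.mul_dvd_of_dvd_of_dvd ((Nat.coprime_primes ha hb).mpr hab) han hbn
  have hvl : ∀ {a b n : ℕ}, a * b ∣ n → a ∣ n := fun h => (Dvd.intro _ rfl).trans h
  have hvr : ∀ {a b n : ℕ}, a * b ∣ n → b ∣ n := fun h => (Dvd.intro_left _ rfl).trans h
  set π1 : Set ℕ := {r | r = p ∨ (r.Prime ∧ ∃ g : G, p * r ∣ idx g)} with hπ1
  set π2 : Set ℕ := {s | s = q ∨ (s.Prime ∧ ∃ g : G, s * q ∣ idx g)} with hπ2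
  have hmix : ∀ g : G, ∀ r ∈ π1, ∀ s ∈ π2, r.Prime → s.Prime → r ∣ idx g → s ∣ idx g → False := by
    intro g r hr s hs hrp hsp hrg hsg
    by_cases hrp' : r = p
    · rw [hrp'] at hrg
      by_cases hsq' : s = q
      · rw [hsq'] at hsg
        exact h1 ⟨g, hmul hpp hqp hpq hrg hsg⟩
      · rcases hs with hs | ⟨-, g2, hg2⟩
        · exact hsq' hs
        · by_cases hsp' : s = p
          · rw [hsp'] at hg2; exact h1 ⟨g2, hg2⟩
          · exact h2 ⟨s, ⟨hsp, g, hsg⟩, hsp', hsq', ⟨g, hmul hpp hsp (Ne.symm hsp') hrg hsg⟩,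
              ⟨g2, hg2⟩⟩
    · rcases hr with hr | ⟨-, g1, hg1⟩
      · exact hrp' hr
      · by_cases hrq : r = q
        · rw [hrq] at hg1; exact h1 ⟨g1, hg1⟩
        · by_cases hsq' : s = q
          · rw [hsq'] at hsg
            exact h2 ⟨r, ⟨hrp, g, hrg⟩, hrp', hrq, ⟨g1, hg1⟩, ⟨g, hmul hrp hqp hrq hrg hsg⟩⟩
          · rcases hs with hs | ⟨-, g2, hg2⟩
            · exact hsq' hs
            · by_cases hsp' : s = p
              · rw [hsp'] at hg2; exact h1 ⟨g2, hg2⟩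
              · by_cases hrs : r = s
                · rw [← hrs] at hg2
                  exact h2 ⟨r, ⟨hrp, g, hrg⟩, hrp', hrq, ⟨g1, hg1⟩, ⟨g2, hg2⟩⟩
                · exact h3 ⟨r, s, ⟨hrp, g, hrg⟩, ⟨hsp, g, hsg⟩, hrp', hsq', hrs, hrq, hsp',
                    ⟨g1, hg1⟩, ⟨g, hmul hrp hsp hrs hrg hsg⟩, ⟨g2, hg2⟩⟩
  have hpN : ∀ g : G, p ∣ idx g → ∀ r : ℕ, r.Prime → r ∣ idx g → r ∈ π1 := by
    intro g hpg r hr hrg
    by_cases hrp' : r = p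
    · exact Or.inl hrp'
    · exact Or.inr ⟨hr, g, hmul hpp hr (Ne.symm hrp') hpg hrg⟩
  have hqN : ∀ g : G, q ∣ idx g → ∀ s : ℕ, s.Prime → s ∣ idx g → s ∈ π2 := by
    intro g hqg s hs hsg
    by_cases hsq' : s = q
    · exact Or.inl hsq'
    · exact Or.inr ⟨hs, g, hmul hs hqp hsq' hsg hqg⟩
  have hq1 : q ∉ π1 := by
    rintro (h | ⟨-, g, hg⟩)
    · exact hpq h.symm
    · exact h1 ⟨g, hg⟩
  obtain ⟨a, b, ⟨hap, ga, hga⟩, ⟨hbp, gb, hgb⟩, haS, hbS, g, hab⟩ :=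
    hconn π1 ⟨p, Or.inl rfl, hpp, x0, hx0⟩ ⟨q, hq1, hqp, y0', hy0'⟩
  have hb2 : b ∉ π2 := fun hb2 => hmix g a haS b hb2 hap hbp (hvl hab) (hvr hab)
  -- the two families of classes
  have hx0Z : x0 ∉ Subgroup.center G := by
    intro hz
    rw [h8_idx_eq_one_of_mem_center hz] at hx0
    exact hpp.one_lt.ne' (Nat.dvd_one.mp hx0)
  have hy0Z : y0' ∉ Subgroup.center G := by
    intro hz
    rw [h8_idx_eq_one_of_mem_center hz] at hy0'
    exact hqp.one_lt.ne' (Nat.dvd_one.mp hy0')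
  let X1 : Set G := {x | x ∉ Subgroup.center G ∧ ∀ r : ℕ, r.Prime → r ∣ idx x → r ∈ π1}
  let X2 : Set G := {y | y ∉ Subgroup.center G ∧ ∀ r : ℕ, r.Prime → r ∣ idx y → r ∈ π2}
  have : Nonempty X1 := ⟨⟨x0, hx0Z, hpN x0 hx0⟩⟩
  have : Nonempty X2 := ⟨⟨y0', hy0Z, hqN y0' hy0'⟩⟩
  obtain ⟨xm, hxm⟩ := Finite.exists_max (fun x : X1 => idx x.1)
  obtain ⟨ym, hym⟩ := Finite.exists_max (fun y : X2 => idx y.1)
  rcases lt_trichotomy (idx xm.1) (idx ym.1) with hlt | heq | hgt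
  · have := asym π1 π2 hmix p hpp x0 hx0 hpN ym.1 ym.2.2
      (fun x hx hxZ => lt_of_le_of_lt (hxm ⟨x, hxZ, hx⟩) hlt) b hbp gb hgb
    rcases this with h | h
    · exact hbS h
    · exact hb2 h
  · have hne : idx xm.1 ≠ 1 := fun h => xm.2.1 (h8_mem_center_of_idx_eq_one h)
    obtain ⟨r, hr, hrx⟩ := Nat.exists_prime_and_dvd hne
    exact hmix xm.1 r (xm.2.2 r hr hrx) r (ym.2.2 r hr (heq ▸ hrx)) hr hr hrx hrx
  · have := asym π2 π1 (fun g s hs r hr hsp hrp hsg hrg => hmix g r hr s hs hrp hsp hrg hsg)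
      q hqp y0' hy0' hqN xm.1 xm.2.2
      (fun y hy hyZ => lt_of_le_of_lt (hym ⟨y, hyZ, hy⟩) hgt) b hbp gb hgb
    rcases this with h | h
    · exact hb2 h
    · exact hbS h

end Cfsg.Agent.Lib.Helper8.CSG
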