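import Mathlib
import Cfsg.Agent.Lib.Helper3.NCSDefs
import Cfsg.Agent.Lib.Helper3.NCSP4a

set_option autoImplicit false
set_option maxHeartbeats 4000000
set_option maxRecDepth 100000
set_option linter.unusedVariables false
set_option linter.unusedSectionVars false
set_option linter.style.longLine false

namespace Cfsg.Agent.Lib.Helper3.NCS

open Cfsg.Agent.Lib.Helper7.TC

variable {G : Type*} [Group G] [Finite G]

/-! ## P4b -/

/-- decomposition of an element into an `r`-part and an `r'`-part, both powers of the element -/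
theorem h8_rdecomp (r : ℕ) [hr : Fact r.Prime] (u : G) :
    ∃ u1 u2 : G, u1 ∈ Subgroup.zpowers u ∧ u2 ∈ Subgroup.zpowers u ∧ u = u1 * u2 ∧
      (∃ k : ℕ, u1 ^ r ^ k = 1) ∧ (orderOf u2).Coprime r := by
  set n := orderOf u with hn
  have hnpos : 0 < n := orderOf_pos u
  set k := n.factorization r with hk
  set t := n / r ^ k with ht
  have hdvd : r ^ k ∣ n := Nat.ordProj_dvd n r
  have hnt : r ^ k * t = n := Nat.mul_div_cancel' hdvd
  have hcop : Nat.Coprime r t := Nat.coprime_ordCompl hr.out hnpos.ne'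
  have hcop' : Nat.Coprime (r ^ k) t := Nat.Coprime.pow_left k hcop
  have hbez : (Nat.gcd (r ^ k) t : ℤ) = (r ^ k : ℕ) * Nat.gcdA (r ^ k) t + (t : ℕ) * Nat.gcdB (r ^ k) t :=
    Nat.gcd_eq_gcd_ab (r ^ k) t
  rw [hcop'] at hbez
  set x := Nat.gcdA (r ^ k) t with hx
  set yy := Nat.gcdB (r ^ k) t with hyy
  refine ⟨(u ^ t) ^ yy, (u ^ (r ^ k)) ^ x, ?_, ?_, ?_, ⟨k, ?_⟩, ?_⟩
  · exact Subgroup.zpow_mem _ (Subgroup.pow_mem _ (Subgroup.mem_zpowers u) t) yy
  · exact Subgroup.zpow_mem _ (Subgroup.pow_mem _ (Subgroup.mem_zpowers u) _) x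
  · have h1 : (u ^ t) ^ yy * (u ^ (r ^ k)) ^ x = u ^ ((t : ℤ) * yy + ((r ^ k : ℕ) : ℤ) * x) := by
      rw [zpow_add, zpow_mul, zpow_mul, zpow_natCast, zpow_natCast]
    rw [h1]
    have h2 : (t : ℤ) * yy + ((r ^ k : ℕ) : ℤ) * x = 1 := by
      have := hbez
      push_cast at this ⊢
      linarith
    rw [h2, zpow_one]
  · rw [← zpow_natCast, ← zpow_mul, mul_comm, zpow_mul, zpow_natCast, ← pow_mul, mul_comm t, hnt, hn,
      pow_orderOf_eq_one, one_zpow]
  · have h1 : ((u ^ (r ^ k)) ^ x) ^ t = 1 := by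
      rw [← zpow_natCast, ← zpow_mul, mul_comm, zpow_mul, zpow_natCast, ← pow_mul, hnt, hn,
        pow_orderOf_eq_one, one_zpow]
    have h2 : orderOf ((u ^ (r ^ k)) ^ x) ∣ t := orderOf_dvd_of_pow_eq_one h1
    exact Nat.Coprime.coprime_dvd_left h2 hcop.symm

theorem h8_bcard_gt {N : Subgroup G} {m r : ℕ} [hr : Fact r.Prime] (hS : Setup N m r) :
    zcard G r < bcard G r m := by
  obtain ⟨P⟩ : Nonempty (Sylow r G) := inferInstance
  obtain ⟨w, hwP, hwZ⟩ := SetLike.not_le_iff_exists.mp (hS.sylow_not_central P)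
  have hwN : w ∈ N := hS.sylow_le P hwP
  have hidx : (cent w).index = m := index_eq hS.hyp hwN hwZ
  have hrd : r ∣ (Subgroup.center G).relIndex (cent w) :=
    Cfsg.Agent.Lib.Helper7.IT.dvd_relIndex_of_elt hr.out (self_mem_cent w) hwZ
      (Cfsg.Agent.Lib.Helper7.IT.orderOf_of_mem_sylow P hwP)
  have h1 : (Subgroup.center G).relIndex (cent w) * (cent w).index = (Subgroup.center G).index :=
    Subgroup.relIndex_mul_index (center_le_cent w)
  have h2 : Nat.card (Subgroup.center G) * (Subgroup.center G).index = Nat.card G :=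
    Subgroup.card_mul_index _
  have hm0 : m ≠ 0 := by rw [← hidx]; exact Subgroup.index_ne_zero_of_finite
  have hri0 : (Subgroup.center G).relIndex (cent w) ≠ 0 := by
    intro h0; rw [h0, zero_mul] at h1
    exact Subgroup.index_ne_zero_of_finite h1.symm
  have hz0 : Nat.card (Subgroup.center G) ≠ 0 := Nat.card_pos.ne'
  have hfac : (Nat.card G).factorization r = (Nat.card (Subgroup.center G)).factorization r +
      ((Subgroup.center G).relIndex (cent w)).factorization r + m.factorization r := by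
    rw [← h2, ← h1, hidx, Nat.factorization_mul hz0 (Nat.mul_ne_zero hri0 hm0),
      Nat.factorization_mul hri0 hm0]
    simp only [Finsupp.coe_add, Pi.add_apply]
    ring
  have hpos : 1 ≤ ((Subgroup.center G).relIndex (cent w)).factorization r :=
    (hr.out.dvd_iff_one_le_factorization hri0).mp hrd
  unfold zcard bcard
  apply Nat.pow_lt_pow_right hr.out.one_lt
  omega

theorem rPart_exists_noncentral {N : Subgroup G} {m r : ℕ} [Fact r.Prime] (hS : Setup N m r)
    {y : G} (hy : IsComp N r y) {B : Subgroup G} (hB : IsRPart r y B) :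
    ∃ b ∈ B, b ∉ Subgroup.center G := by
  by_contra hcon
  push Not at hcon
  have hle : B ≤ Subgroup.center G := fun b hb => hcon b hb
  have h1 : B ⊓ Subgroup.center G = B := inf_eq_left.mpr hle
  have h2 := rPart_center_card hS hy hB
  rw [h1, rPart_card hS hy hB] at h2
  have := h8_bcard_gt hS
  omega

theorem comp_central {N : Subgroup G} {m r : ℕ} [hr : Fact r.Prime] (hS : Setup N m r) {y : G}
    (hy : IsComp N r y) : ∀ u ∈ N, u ∈ cent y → ∀ g ∈ cent y, g * u = u * g := by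
  obtain ⟨B, hB⟩ := exists_rPart hS hy
  obtain ⟨b0, hb0B, hb0Z⟩ := rPart_exists_noncentral hS hy hB
  have hb0N : b0 ∈ N := rPart_le hS hy hB hb0B
  have hle : cent y ≤ cent b0 := fun g hg => mem_cent.mpr (rPart_central hS hy hB b0 hb0B g hg)
  have heq : cent y = cent b0 := cent_eq_of_le hS.hyp hy.mem hy.not_center hb0N hb0Z hle
  obtain ⟨hb0C, kb, hkb⟩ := (hB b0).mp hb0B
  intro u huN huC g hg
  obtain ⟨u1, u2, hu1, hu2, hu, ⟨k, hk⟩, hcop⟩ := h8_rdecomp r u
  have hzle : Subgroup.zpowers u ≤ N ⊓ cent y := by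
    rw [Subgroup.zpowers_le]; exact ⟨huN, huC⟩
  have hu1B : u1 ∈ B := (hB u1).mpr ⟨(hzle hu1).2, k, hk⟩
  have h1 : g * u1 = u1 * g := rPart_central hS hy hB u1 hu1B g hg
  have hu2N : u2 ∈ N := (hzle hu2).1
  have hu2C : u2 ∈ cent y := (hzle hu2).2
  have hcomm : Commute b0 u2 := (rPart_central hS hy hB b0 hb0B u2 hu2C).symm
  have hob0 : orderOf b0 ∣ r ^ kb := orderOf_dvd_of_pow_eq_one hkb
  have hco : (orderOf b0).Coprime (orderOf u2) :=
    Nat.Coprime.coprime_dvd_left hob0 (Nat.Coprime.pow_left kb hcop.symm)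
  have hle2 : cent b0 ≤ cent u2 := cent_le_of_coprime hS.hyp hb0N hb0Z hu2N hcomm hco
  have h2 : g * u2 = u2 * g := mem_cent.mp (hle2 (heq ▸ hg))
  rw [hu, ← mul_assoc, h1, mul_assoc, h2, mul_assoc]

theorem comp_cent_eq {N : Subgroup G} {m r : ℕ} [Fact r.Prime] (hS : Setup N m r) {y : G}
    (hy : IsComp N r y) : ∀ u ∈ N, u ∈ cent y → u ∉ Subgroup.center G → cent u = cent y := by
  intro u huN huC huZ
  have hle : cent y ≤ cent u := fun g hg => mem_cent.mpr (comp_central hS hy u huN huC g hg)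
  exact (cent_eq_of_le hS.hyp hy.mem hy.not_center huN huZ hle).symm

theorem exists_rPrimePart {N : Subgroup G} {m r : ℕ} [Fact r.Prime] (hS : Setup N m r) {y : G}
    (hy : IsComp N r y) : ∃ A : Subgroup G, IsRPrimePart N r y A := by
  refine ⟨{ carrier := {x | x ∈ N ∧ x ∈ cent y ∧ (orderOf x).Coprime r}
            one_mem' := ⟨N.one_mem, (cent y).one_mem, by simp⟩
            mul_mem' := ?_
            inv_mem' := ?_ }, fun x => Iff.rfl⟩
  · rintro a b ⟨haN, haC, hac⟩ ⟨hbN, hbC, hbc⟩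
    refine ⟨N.mul_mem haN hbN, (cent y).mul_mem haC hbC, ?_⟩
    have hcomm : Commute a b := (comp_central hS hy b hbN hbC a haC)
    have h1 : orderOf (a * b) ∣ Nat.lcm (orderOf a) (orderOf b) := hcomm.orderOf_mul_dvd_lcm
    have h2 : Nat.Coprime (Nat.lcm (orderOf a) (orderOf b)) r :=
      Nat.Coprime.coprime_dvd_left (Nat.lcm_dvd_mul _ _) (Nat.Coprime.mul_left hac hbc)
    exact Nat.Coprime.coprime_dvd_left h1 h2
  · rintro a ⟨haN, haC, hac⟩
    exact ⟨N.inv_mem haN, (cent y).inv_mem haC, by rw [orderOf_inv]; exact hac⟩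

end Cfsg.Agent.Lib.Helper3.NCS
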