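import Mathlib
import Cfsg.Prelude.Def_Transfer
import Cfsg.Agent.Lib.Helper8.K5a
import Cfsg.Agent.Lib.Helper2.ConjCover
import Cfsg.Agent.Lib.Helper1.NormalPComplement

/-! Groups in which every `p'`-element has class size prime to `p` are `P × H`. -/
set_option autoImplicit false

namespace Cfsg.Agent.Lib.Helper8.K6

open Cfsg.Agent.Lib.Helper8.KPi

variable {C : Type*} [Group C] [Finite C] {p : ℕ} [hp : Fact p.Prime]

theorem exists_sylow_normalizer
    (hC : ∀ y : C, (orderOf y).Coprime p → ¬ p ∣ (Subgroup.centralizer ({y} : Set C)).index)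
    (z : C) : ∃ P : Sylow p C, z ∈ Subgroup.normalizer ((P : Subgroup C) : Set C) := by
  obtain ⟨u, v, hu, hv, huv, hpu, hpv⟩ := exists_parts ({p} : Set ℕ) z
  have hcomm : Commute u v := commute_of_mem_zpowers (Commute.refl z) hu hv
  have hvcop : (orderOf v).Coprime p := by
    apply Nat.Coprime.symm
    rw [hp.out.coprime_iff_not_dvd]
    intro h
    exact hpv p hp.out h (Set.mem_singleton p)
  obtain ⟨k, hk⟩ : ∃ k, orderOf u = p ^ k := by
    refine ⟨_, Nat.eq_prime_pow_of_unique_prime_dvd (orderOf_pos u).ne' ?_⟩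
    intro d hd hdu
    exact hpu d hd hdu
  have hD := hC v hvcop
  obtain ⟨D, hDdef⟩ : ∃ D : Subgroup C, D = Subgroup.centralizer ({v} : Set C) := ⟨_, rfl⟩
  rw [← hDdef] at hD
  have huD : u ∈ D := by
    rw [hDdef, Subgroup.mem_centralizer_singleton_iff]
    exact hcomm.eq
  have hzp : IsPGroup p (Subgroup.zpowers (⟨u, huD⟩ : D)) := by
    apply IsPGroup.of_card (n := k)
    rw [Nat.card_zpowers, Subgroup.orderOf_mk]; exact hk
  obtain ⟨Q, hQ⟩ := hzp.exists_le_sylow
  have hQ' : IsPGroup p ((Q : Subgroup D).map D.subtype) := Q.2.map _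
  have hidx : ¬ p ∣ ((Q : Subgroup D).map D.subtype).index := by
    rw [Subgroup.index_map_subtype]
    intro h
    rcases (Nat.Prime.dvd_mul hp.out).1 h with h | h
    · exact Q.not_dvd_index h
    · exact hD h
  refine ⟨hQ'.toSylow hidx, ?_⟩
  rw [IsPGroup.toSylow_coe]
  rw [← huv]
  apply Subgroup.mul_mem
  · apply Subgroup.le_normalizer
    exact ⟨⟨u, huD⟩, hQ (Subgroup.mem_zpowers _), rfl⟩
  · apply Subgroup.centralizer_le_normalizer
    rw [Subgroup.mem_centralizer_iff]
    rintro _ ⟨d, -, rfl⟩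
    have h1 : (d : C) ∈ Subgroup.centralizer ({v} : Set C) := hDdef ▸ d.2
    rw [Subgroup.mem_centralizer_singleton_iff] at h1
    exact h1

theorem sylow_normal_of_hyp
    (hC : ∀ y : C, (orderOf y).Coprime p → ¬ p ∣ (Subgroup.centralizer ({y} : Set C)).index)
    (P : Sylow p C) : (P : Subgroup C).Normal := by
  rw [← Subgroup.normalizer_eq_top_iff]
  obtain ⟨N, hN⟩ : ∃ N : Subgroup C, N = Subgroup.normalizer ((P : Subgroup C) : Set C) := ⟨_, rfl⟩
  rw [← hN]
  have hNN : Subgroup.normalizer (N : Set C) = N := by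
    rw [hN]; exact Sylow.normalizer_normalizer P
  have hcov : Cfsg.Agent.Lib.Helper2.ConjCover.conjSet N = ({1} : Set C)ᶜ := by
    ext z
    constructor
    · rintro ⟨hz, -⟩; exact hz
    · intro hz
      refine ⟨hz, ?_⟩
      obtain ⟨P', hP'⟩ := exists_sylow_normalizer hC z
      obtain ⟨g, rfl⟩ := MulAction.exists_smul_eq C P P'
      refine ⟨g⁻¹, ?_⟩
      rw [hN, Subgroup.mem_normalizer_iff]
      intro w
      rw [Subgroup.mem_normalizer_iff] at hP'
      have h1 := hP' (g * w * g⁻¹)
      have e1 : ∀ t : C, t ∈ ((g • P : Sylow p C) : Subgroup C) ↔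
          g⁻¹ * t * g ∈ (P : Subgroup C) := by
        intro t
        rw [Sylow.smul_def, Sylow.pointwise_smul_def,
          Subgroup.mem_pointwise_smul_iff_inv_smul_mem]
        simp [MulAut.smul_def]
      rw [e1, e1] at h1
      convert h1 using 2 <;> group
  have h1 := Cfsg.Agent.Lib.Helper2.ConjCover.ncard_conjSet_le N
  rw [hNN, hcov, Set.ncard_compl, Set.ncard_singleton] at h1
  have h2 : Nat.card N * N.index = Nat.card C := N.card_mul_index
  have hpos : 0 < Nat.card N := Nat.card_pos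
  have hipos : 0 < N.index := Nat.pos_of_ne_zero Subgroup.index_ne_zero_of_finite
  obtain ⟨n', hn'⟩ := Nat.exists_eq_succ_of_ne_zero hpos.ne'
  rw [hn'] at h1 h2
  have h3 : N.index * (n'.succ - 1) = N.index * n' := by simp
  rw [h3] at h1
  have h4 : N.index * n' + N.index = Nat.card C := by rw [← h2, Nat.succ_mul]; ring
  have hi : N.index = 1 := by omega
  exact Subgroup.index_eq_one.mp hi

theorem exists_hall_of_hyp
    (hC : ∀ y : C, (orderOf y).Coprime p → ¬ p ∣ (Subgroup.centralizer ({y} : Set C)).index) :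
    ∃ H : Subgroup C, H.Normal ∧ (Nat.card H).Coprime p ∧ (∃ k, H.index = p ^ k) ∧
      (∀ y : C, (orderOf y).Coprime p → y ∈ H) ∧
      (∀ h ∈ H, ∀ t : C, (∃ k, orderOf t = p ^ k) → h * t = t * h) := by
  obtain ⟨P⟩ : Nonempty (Sylow p C) := inferInstance
  haveI hPn : (P : Subgroup C).Normal := sylow_normal_of_hyp hC P
  have hcent : ∀ y : C, (orderOf y).Coprime p → ∀ t ∈ (P : Subgroup C), y * t = t * y := by
    intro y hy t ht
    obtain ⟨g, hg⟩ := Cfsg.Agent.Lib.Helper2.exists_conj_le_of_not_dvd_index P.2 (hC y hy)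
    have h1 : g * t * g⁻¹ ∈ (P : Subgroup C) := hPn.conj_mem t ht g
    have h2 := hg _ h1
    have h3 : g⁻¹ * (g * t * g⁻¹) * g = t := by group
    rw [h3, Subgroup.mem_centralizer_singleton_iff] at h2
    exact h2.symm
  have hpel : ∀ t : C, (∃ k, orderOf t = p ^ k) → t ∈ (P : Subgroup C) := by
    rintro t ⟨k, hk⟩
    have hzp : IsPGroup p (Subgroup.zpowers t) := by
      apply IsPGroup.of_card (n := k); rw [Nat.card_zpowers]; exact hk
    obtain ⟨Q, hQ⟩ := hzp.exists_le_sylow
    obtain ⟨g, rfl⟩ := MulAction.exists_smul_eq C P Q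
    rw [Sylow.smul_eq_of_normal] at hQ
    exact hQ (Subgroup.mem_zpowers t)
  have hcop : (Nat.card (P : Subgroup C)).Coprime (P : Subgroup C).index := by
    obtain ⟨k, hk⟩ := P.2.exists_card_eq
    rw [hk]; apply Nat.Coprime.pow_left
    rw [hp.out.coprime_iff_not_dvd]; exact P.not_dvd_index
  obtain ⟨H, hH⟩ := Subgroup.exists_right_complement'_of_coprime hcop
  have hHcard : (P : Subgroup C).index = Nat.card H := hH.symm.index_eq_card
  have hHcop : (Nat.card H).Coprime p := by
    rw [← hHcard]; apply Nat.Coprime.symm; rw [hp.out.coprime_iff_not_dvd]; exact P.not_dvd_index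
  have hHel : ∀ h ∈ H, (orderOf h).Coprime p := by
    intro h hh
    apply Nat.Coprime.coprime_dvd_left _ hHcop
    have := orderOf_dvd_natCard (⟨h, hh⟩ : H)
    rwa [Subgroup.orderOf_mk] at this
  have hHn : H.Normal := by
    rw [← Subgroup.normalizer_eq_top_iff, eq_top_iff, ← hH.sup_eq_top]
    apply sup_le
    · refine le_trans ?_ (Subgroup.centralizer_le_normalizer _)
      intro t ht
      rw [Subgroup.mem_centralizer_iff]
      intro h hh
      exact hcent h (hHel h hh) t ht
    · exact Subgroup.le_normalizer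
  refine ⟨H, hHn, hHcop, ?_, ?_, ?_⟩
  · obtain ⟨k, hk⟩ := P.2.exists_card_eq
    exact ⟨k, by rw [← hk]; exact hH.index_eq_card⟩
  · intro y hy
    haveI := hHn
    exact (Cfsg.Agent.Lib.Helper1.mem_normal_complement_iff P H hH.symm y).2 hy
  · intro h hh t ht
    exact hcent h (hHel h hh) t (hpel t ht)

theorem npc_of_normal_hall {G : Type*} [Group G] [Finite G] (N : Subgroup G) [N.Normal]
    (h1 : (Nat.card N).Coprime p) (h2 : ∃ k, N.index = p ^ k) :
    Cfsg.HasNormalPComplement p G := by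
  obtain ⟨P⟩ : Nonempty (Sylow p G) := inferInstance
  refine ⟨P, N, inferInstance, ?_⟩
  obtain ⟨k, hk⟩ := h2
  have hcard : Nat.card N * p ^ k = Nat.card G := by rw [← hk]; exact N.card_mul_index
  have hnd : ¬ p ∣ Nat.card N := by
    rw [← hp.out.coprime_iff_not_dvd]; exact h1.symm
  have hn : (Nat.card G).factorization p = k := by
    rw [← hcard, Nat.factorization_mul (Nat.card_pos.ne') (pow_ne_zero k hp.out.ne_zero),
      Finsupp.add_apply, Nat.factorization_eq_zero_of_not_dvd hnd, zero_add,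
      Nat.factorization_pow, Finsupp.smul_apply, hp.out.factorization_self]
    simp
  have hP : Nat.card (P : Subgroup G) = p ^ k := by rw [Sylow.card_eq_multiplicity, hn]
  apply Subgroup.isComplement'_of_coprime
  · rw [hP]; exact hcard
  · rw [hP]; exact h1.pow_right k

end Cfsg.Agent.Lib.Helper8.K6
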