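import Mathlib
import Cfsg.Prelude.Def_Transfer
import Cfsg.Agent.Lib.Helper8.K6a
import Cfsg.Agent.Lib.Helper8.AxB
import Cfsg.Agent.Lib.Helper1.Index

/-! A `p`-element whose class size is the maximal `p`-part of class sizes forces a normal
`p`-complement. -/
set_option autoImplicit false

namespace Cfsg.Agent.Lib.Helper8.K6

theorem npc_of_max_ppart {G : Type*} [Group G] [Finite G] (p : ℕ) [hp : Fact p.Prime] (a : ℕ)
    (hmax : ∀ y : G, ¬ p ^ (a + 1) ∣ (Subgroup.centralizer ({y} : Set G)).index)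
    (x : G) (k : ℕ) (hxk : orderOf x = p ^ k)
    (hxa : (Subgroup.centralizer ({x} : Set G)).index = p ^ a) :
    Cfsg.HasNormalPComplement p G := by
  obtain ⟨C, hCdef⟩ : ∃ C : Subgroup G, C = Subgroup.centralizer ({x} : Set G) := ⟨_, rfl⟩
  rw [← hCdef] at hxa
  have hCmem : ∀ g : G, g ∈ C ↔ g * x = x * g := by
    intro g; rw [hCdef, Subgroup.mem_centralizer_singleton_iff]
  -- hypothesis for C
  have hC : ∀ y : C, (orderOf y).Coprime p →
      ¬ p ∣ (Subgroup.centralizer ({y} : Set C)).index := by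
    intro y hy hdvd
    have hyo : (orderOf (y : G)).Coprime p := by rwa [Subgroup.orderOf_coe]
    have hxy : Commute x (y : G) := ((hCmem _).1 y.2).symm
    have hcop : (orderOf (y:G)).Coprime (orderOf x) := by rw [hxk]; exact hyo.pow_right k
    obtain ⟨m, hm⟩ := exists_pow_eq_self_of_coprime hcop
    have hx' : (x * y) ^ (orderOf (y:G) * m) = x := by
      rw [hxy.mul_pow, pow_mul, pow_mul, pow_orderOf_eq_one, one_pow, mul_one, hm]
    have hcent : Subgroup.centralizer ({x * (y:G)} : Set G)
        = C ⊓ Subgroup.centralizer ({(y:G)} : Set G) := by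
      ext g
      rw [Subgroup.mem_inf, hCmem]
      simp only [Subgroup.mem_centralizer_singleton_iff]
      constructor
      · intro h
        have h1 : Commute g (x * y) := h
        have h2 : Commute g x := by
          have := h1.pow_right (orderOf (y:G) * m)
          rwa [hx'] at this
        have h3 : Commute g (y:G) := by
          have e : (y : G) = x⁻¹ * (x * y) := by group
          rw [e]; exact h2.inv_right.mul_right h1
        exact ⟨h2.eq, h3.eq⟩
      · rintro ⟨h2, h3⟩
        exact (Commute.mul_right h2 h3).eq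
    have hidx : (Subgroup.centralizer ({x * (y:G)} : Set G)).index
        = (Subgroup.centralizer ({y} : Set C)).index * p ^ a := by
      rw [hcent, ← hxa, ← Subgroup.relIndex_mul_index (inf_le_left : C ⊓ _ ≤ C),
        Subgroup.inf_relIndex_left]
      congr 1
      have e : (Subgroup.centralizer ({(y:G)} : Set G)).subgroupOf C
          = Subgroup.centralizer ({y} : Set C) := by
        ext c
        simp only [Subgroup.mem_subgroupOf, Subgroup.mem_centralizer_singleton_iff]
        constructor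
        · intro h; exact Subtype.ext h
        · intro h; exact congrArg Subtype.val h
      rw [← e]; rfl
    apply hmax (x * y)
    rw [hidx, pow_succ, mul_comm]
    exact Nat.mul_dvd_mul_right hdvd _
  obtain ⟨H, hHn, hHcop, ⟨b, hb⟩, hHall, hHcomm⟩ := exists_hall_of_hyp hC
  obtain ⟨H₀, hH₀⟩ : ∃ H₀ : Subgroup G, H₀ = H.map C.subtype := ⟨_, rfl⟩
  have hH₀C : H₀ ≤ C := by rw [hH₀]; exact Subgroup.map_subtype_le H
  have hH₀mem : ∀ g : G, g ∈ H₀ ↔ ∃ hg : g ∈ C, (⟨g, hg⟩ : C) ∈ H := by
    intro g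
    rw [hH₀]
    constructor
    · rintro ⟨c, hc, rfl⟩; exact ⟨c.2, hc⟩
    · rintro ⟨hg, h⟩; exact ⟨⟨g, hg⟩, h, rfl⟩
  have hH₀card : Nat.card H₀ = Nat.card H := by
    rw [hH₀]; exact Subgroup.card_map_of_injective C.subtype_injective
  have hH₀cop : (Nat.card H₀).Coprime p := by rw [hH₀card]; exact hHcop
  have hH₀idx : H₀.index = p ^ (b + a) := by
    rw [hH₀, Subgroup.index_map_subtype, hb, hxa, pow_add]
  -- Sylow S containing x
  have hxp : IsPGroup p (Subgroup.zpowers x) := by
    apply IsPGroup.of_card (n := k); rw [Nat.card_zpowers]; exact hxk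
  obtain ⟨S, hS⟩ := hxp.exists_le_sylow
  have hxS : x ∈ (S : Subgroup G) := hS (Subgroup.mem_zpowers x)
  have hSC : ∀ g : G, ∃ s ∈ (S : Subgroup G), ∃ c ∈ C, g = s * c := by
    apply Cfsg.Agent.Lib.Helper1.mul_eq_of_coprime_index
    rw [hxa]; apply Nat.Coprime.pow_right
    apply Nat.Coprime.symm; rw [hp.out.coprime_iff_not_dvd]; exact S.not_dvd_index
  obtain ⟨R, hR⟩ : ∃ R : Subgroup G, R = Subgroup.normalClosure ({x} : Set G) := ⟨_, rfl⟩
  have hRS : R ≤ (S : Subgroup G) := by
    rw [hR, Subgroup.normalClosure, Subgroup.closure_le]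
    intro w hw
    rw [Group.mem_conjugatesOfSet_iff] at hw
    obtain ⟨x', hx', hw⟩ := hw
    rw [Set.mem_singleton_iff] at hx'; subst hx'
    rw [isConj_iff] at hw
    obtain ⟨g, rfl⟩ := hw
    obtain ⟨s, hs, c, hc, rfl⟩ := hSC g
    rw [hCmem] at hc
    have e : s * c * x' * (s * c)⁻¹ = s * x' * s⁻¹ := by
      rw [mul_inv_rev, mul_assoc s c x', hc]; group
    rw [SetLike.mem_coe, e]
    exact Subgroup.mul_mem _ (Subgroup.mul_mem _ hs hxS) (Subgroup.inv_mem _ hs)
  have hRp : IsPGroup p R := S.2.to_le hRS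
  have hxR : x ∈ R := by rw [hR]; exact Subgroup.subset_normalClosure (Set.mem_singleton x)
  haveI hRn : R.Normal := by rw [hR]; exact Subgroup.normalClosure_normal
  have hRtop : Subgroup.normalizer (R : Set G) = ⊤ := Subgroup.normalizer_eq_top_iff.mpr hRn
  -- A × B
  have hcomm : ⁅R, H₀⁆ = ⊥ := by
    apply Cfsg.Agent.Lib.Helper8.thompson_AxB p H₀ (Subgroup.zpowers x) hxp hH₀cop ?_
      (Nat.card R) R rfl hRp ?_ ?_ ?_
    · rw [Subgroup.commutator_eq_bot_iff_le_centralizer]
      intro h hh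
      rw [Subgroup.mem_centralizer_iff]
      intro w hw
      obtain ⟨n, rfl⟩ := Subgroup.mem_zpowers_iff.1 hw
      have h1 : Commute h x := (hCmem h).1 (hH₀C hh)
      exact (h1.zpow_right n).eq.symm
    · rw [hRtop]; exact le_top
    · rw [hRtop]; exact le_top
    · rintro t ⟨htR, htx⟩
      have htR : t ∈ R := htR
      have htx : t ∈ Subgroup.centralizer ((Subgroup.zpowers x : Subgroup G) : Set G) := htx
      rw [Subgroup.mem_centralizer_iff] at htx
      have htC : t ∈ C := by
        rw [hCmem]; exact (htx x (Subgroup.mem_zpowers x)).symm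
      obtain ⟨j, hj⟩ := (IsPGroup.iff_orderOf.1 hRp) ⟨t, htR⟩
      rw [Subgroup.orderOf_mk] at hj
      rw [Subgroup.mem_centralizer_iff]
      intro h hh
      obtain ⟨hhC, hhH⟩ := (hH₀mem h).1 hh
      have := hHcomm ⟨h, hhC⟩ hhH ⟨t, htC⟩ ⟨j, by rw [Subgroup.orderOf_mk]; exact hj⟩
      exact congrArg Subtype.val this
  have hH₀R : H₀ ≤ Subgroup.centralizer (R : Set G) := by
    rw [Subgroup.commutator_comm] at hcomm
    rwa [← Subgroup.commutator_eq_bot_iff_le_centralizer]
  -- K = C_G(R) is normal and inside C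
  have hKC : Subgroup.centralizer (R : Set G) ≤ C := by
    intro g hg
    rw [Subgroup.mem_centralizer_iff] at hg
    rw [hCmem]; exact (hg x hxR).symm
  haveI hKn : (Subgroup.centralizer (R : Set G)).Normal := inferInstance
  haveI hH₀n : H₀.Normal := by
    constructor
    intro h hh g
    have h1 : g * h * g⁻¹ ∈ Subgroup.centralizer (R : Set G) := hKn.conj_mem h (hH₀R hh) g
    have h2 : g * h * g⁻¹ ∈ C := hKC h1
    rw [hH₀mem]
    refine ⟨h2, ?_⟩
    apply hHall
    rw [Subgroup.orderOf_mk]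
    have h3 : orderOf (g * h * g⁻¹) = orderOf h := by
      have := orderOf_injective (MulAut.conj g).toMonoidHom (MulAut.conj g).injective h
      simpa using this
    rw [h3]
    apply Nat.Coprime.coprime_dvd_left _ hH₀cop
    have := orderOf_dvd_natCard (⟨h, hh⟩ : H₀)
    rwa [Subgroup.orderOf_mk] at this
  exact npc_of_normal_hall H₀ hH₀cop ⟨_, hH₀idx⟩

end Cfsg.Agent.Lib.Helper8.K6
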