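import Mathlib
import Cfsg.Agent.Lib.Helper3.NMDefs
import Cfsg.Agent.Lib.Helper8.K6a

set_option autoImplicit false
set_option linter.unusedVariables false
set_option linter.unusedSectionVars false
set_option linter.style.longLine false

namespace Cfsg.Agent.Lib.Helper3.NM

open Cfsg.Agent.Lib.Helper8.CSG Cfsg.Agent.Lib.Helper1.PSG

variable {G : Type*} [Group G] [Finite G]

theorem h8_nm_subgroupOf_centralizer (C : Subgroup G) (y : C) :
    (Subgroup.centralizer ({(y : G)} : Set G)).subgroupOf C = Subgroup.centralizer ({y} : Set C) := by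
  ext z
  rw [Subgroup.mem_subgroupOf, Subgroup.mem_centralizer_singleton_iff,
    Subgroup.mem_centralizer_singleton_iff]
  constructor
  · intro h; exact Subtype.ext h
  · intro h; exact congrArg Subtype.val h

theorem h8_nm_relIndex_centralizer (C : Subgroup G) (y : C) :
    (Subgroup.centralizer ({(y : G)} : Set G)).relIndex C =
      (Subgroup.centralizer ({y} : Set C)).index := by
  rw [Subgroup.relIndex, h8_nm_subgroupOf_centralizer]

theorem h8_nm_subgroupOf_map (C : Subgroup G) (H' : Subgroup C) :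
    (H'.map C.subtype).subgroupOf C = H' := by
  rw [← Subgroup.comap_subtype]
  exact Subgroup.comap_map_eq_self_of_injective (Subgroup.subtype_injective C) H'

/-! ## P1 : K6a (`Helper8.K6.exists_hall_of_hyp`) transported to a subgroup `C` of `G` -/

theorem hall_of_subgroup {p : ℕ} [Fact p.Prime] (C : Subgroup G)
    (hC : ∀ u ∈ C, (orderOf u).Coprime p →
      ¬ p ∣ (Subgroup.centralizer ({u} : Set G)).relIndex C) :
    ∃ H : Subgroup G, H ≤ C ∧ (Nat.card H).Coprime p ∧ (∃ k : ℕ, H.relIndex C = p ^ k) ∧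
      (∀ u ∈ C, (orderOf u).Coprime p → u ∈ H) ∧
      (∀ h ∈ H, ∀ t ∈ C, PElt p t → h * t = t * h) := by
  have hp : p.Prime := Fact.out
  have hC' : ∀ y : C, (orderOf y).Coprime p → ¬ p ∣ (Subgroup.centralizer ({y} : Set C)).index := by
    intro y hy
    rw [← h8_nm_relIndex_centralizer]
    apply hC y y.2
    rwa [← Subgroup.orderOf_coe] at hy
  obtain ⟨H', _, hcop, ⟨k, hk⟩, hall, hcomm⟩ := Cfsg.Agent.Lib.Helper8.K6.exists_hall_of_hyp hC'
  refine ⟨H'.map C.subtype, Subgroup.map_subtype_le H', ?_, ⟨k, ?_⟩, ?_, ?_⟩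
  · rwa [Subgroup.card_map_of_injective (Subgroup.subtype_injective C)]
  · rw [Subgroup.relIndex, h8_nm_subgroupOf_map, hk]
  · intro u hu hcu
    refine ⟨⟨u, hu⟩, hall ⟨u, hu⟩ ?_, rfl⟩
    rwa [← Subgroup.orderOf_coe]
  · rintro _ ⟨h', hh', rfl⟩ t ht ⟨j, hj⟩
    have hot : ∃ i, orderOf (⟨t, ht⟩ : C) = p ^ i := by
      have h1 : orderOf t ∣ p ^ j := orderOf_dvd_of_pow_eq_one hj
      obtain ⟨i, _, hi⟩ := (Nat.dvd_prime_pow hp).mp h1
      exact ⟨i, by rw [← Subgroup.orderOf_coe]; exact hi⟩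
    have := hcomm h' hh' ⟨t, ht⟩ hot
    exact congrArg Subtype.val this

end Cfsg.Agent.Lib.Helper3.NM
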