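import Mathlib
import Cfsg.Agent.Lib.Helper3.NMDefs
import Cfsg.Agent.Lib.Helper9.PSGBasicB

set_option autoImplicit false
set_option linter.unusedVariables false
set_option linter.unusedSectionVars false
set_option linter.style.longLine false

namespace Cfsg.Agent.Lib.Helper3.NM

open Cfsg.Agent.Lib.Helper8.CSG Cfsg.Agent.Lib.Helper1.PSG

variable {G : Type*} [Group G] [Finite G]

/-! ## P3 : class sizes in `H` and in `C` agree -/

theorem relIndex_hall_eq {p : ℕ} [Fact p.Prime] (C H : Subgroup G) (hHC : H ≤ C)
    (hall : ∀ u ∈ C, (orderOf u).Coprime p → u ∈ H)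
    (hcomm : ∀ h ∈ H, ∀ t ∈ C, PElt p t → h * t = t * h) {h : G} (hh : h ∈ H) :
    (Subgroup.centralizer ({h} : Set G)).relIndex H =
      (Subgroup.centralizer ({h} : Set G)).relIndex C := by
  have hp : p.Prime := Fact.out
  set K := Subgroup.centralizer ({h} : Set G) with hK
  let emb := Subgroup.quotientSubgroupOfEmbeddingOfLE K hHC
  have hsurj : Function.Surjective emb := by
    intro q
    induction q using QuotientGroup.induction_on with
    | H c =>
      obtain ⟨u, w, hc, huw, hpu, hpw, huz, hwz, _⟩ := exists_decomp p (c : G)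
      have hzC : Subgroup.zpowers (c : G) ≤ C := (Subgroup.zpowers_le).mpr c.2
      have huC : u ∈ C := hzC huz
      have hwC : w ∈ C := hzC hwz
      have hwH : w ∈ H := hall w hwC ((Nat.Prime.coprime_iff_not_dvd hp).mpr hpw).symm
      have huK : u ∈ K := by
        rw [hK, Subgroup.mem_centralizer_singleton_iff]
        exact (hcomm h hh u huC hpu).symm
      refine ⟨QuotientGroup.mk (⟨w, hwH⟩ : H), ?_⟩
      rw [Subgroup.quotientSubgroupOfEmbeddingOfLE_apply_mk, QuotientGroup.eq,
        Subgroup.mem_subgroupOf]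
      have : ((Subgroup.inclusion hHC (⟨w, hwH⟩ : H))⁻¹ * c : C) = (⟨u, huC⟩ : C) := by
        apply Subtype.ext
        simp only [Subgroup.coe_mul, Subgroup.coe_inv, Subgroup.coe_inclusion]
        rw [hc, huw.eq]
        group
      rw [this]
      exact huK
  have hbij : Function.Bijective emb := ⟨emb.injective, hsurj⟩
  rw [Subgroup.relIndex, Subgroup.relIndex, Subgroup.index_eq_card, Subgroup.index_eq_card]
  exact Nat.card_congr (Equiv.ofBijective emb hbij)

end Cfsg.Agent.Lib.Helper3.NM
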