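import Mathlib
import Cfsg.Agent.Lib.Helper3.NMDefs
import Cfsg.Agent.Lib.Helper8.NMP1
import Cfsg.Agent.S4134

set_option autoImplicit false
set_option linter.unusedVariables false
set_option linter.unusedSectionVars false
set_option linter.style.longLine false

namespace Cfsg.Agent.Lib.Helper3.NM

open Cfsg.Agent.Lib.Helper8.CSG Cfsg.Agent.Lib.Helper1.PSG

variable {G : Type*} [Group G] [Finite G]

/-! ## P2 : Ito's theorem (`Cfsg.Agent.S4134.result`) transported to a subgroup `H` of `G` -/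

theorem ito_subgroup (H : Subgroup G) {m : ℕ} (hm : 1 < m)
    (hH : ∀ h ∈ H, (Subgroup.centralizer ({h} : Set G)).relIndex H = 1 ∨
      (Subgroup.centralizer ({h} : Set G)).relIndex H = m)
    (hex : ∃ h ∈ H, (Subgroup.centralizer ({h} : Set G)).relIndex H = m) :
    ∃ (q b : ℕ), q.Prime ∧ m = q ^ b ∧
      ∀ u ∈ H, ¬ q ∣ orderOf u → ∀ h ∈ H, u * h = h * u := by
  have h1 : ∀ x : H, (Subgroup.centralizer ({x} : Set H)).index = 1 ∨
      (Subgroup.centralizer ({x} : Set H)).index = m := by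
    intro x
    rw [← h8_nm_relIndex_centralizer]
    exact hH x x.2
  have h2 : ∃ x : H, (Subgroup.centralizer ({x} : Set H)).index = m := by
    obtain ⟨h, hh, hi⟩ := hex
    exact ⟨⟨h, hh⟩, by rw [← h8_nm_relIndex_centralizer]; exact hi⟩
  obtain ⟨q, hqF, a, hma, hP⟩ := Cfsg.Agent.S4134.result (G := H) m hm h1 h2
  have hq : q.Prime := hqF.out
  refine ⟨q, a, hq, hma, ?_⟩
  intro u hu hqu h hh
  obtain ⟨P⟩ : Nonempty (Sylow q H) := inferInstance
  obtain ⟨hPn, ⟨N, hNn, hNc, hNab, hNP⟩, _⟩ := hP P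
  -- `u' ∈ N`
  set u' : H := ⟨u, hu⟩ with hu'
  have hou : ¬ q ∣ orderOf u' := by rwa [← Subgroup.orderOf_coe]
  have huN : u' ∈ N := by
    have hidx : N.index = Nat.card (P : Subgroup H) := hNc.symm.index_eq_card
    obtain ⟨k, hk⟩ := IsPGroup.iff_card.mp P.2
    have ho1 : orderOf (QuotientGroup.mk' N u') ∣ orderOf u' := orderOf_map_dvd _ _
    have ho2 : orderOf (QuotientGroup.mk' N u') ∣ q ^ k := by
      have := orderOf_dvd_natCard (QuotientGroup.mk' N u')
      rwa [← Subgroup.index_eq_card, hidx, hk] at this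
    have hcop : Nat.Coprime (orderOf u') (q ^ k) :=
      Nat.Coprime.pow_right k ((Nat.Prime.coprime_iff_not_dvd hq).mpr hou).symm
    have ho3 : orderOf (QuotientGroup.mk' N u') = 1 :=
      Nat.eq_one_of_dvd_coprimes hcop ho1 ho2
    have := orderOf_eq_one_iff.mp ho3
    exact (QuotientGroup.eq_one_iff u').mp this
  -- decompose `h`
  obtain ⟨⟨x, y⟩, hxy, _⟩ := (Subgroup.isComplement_iff_existsUnique.mp hNc) (⟨h, hh⟩ : H)
  have hcomm : u' * (⟨h, hh⟩ : H) = (⟨h, hh⟩ : H) * u' := by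
    rw [← hxy]
    have e1 : u' * (x : H) = (x : H) * u' := by
      have := hNab.is_comm.comm (⟨u', huN⟩ : N) x
      exact congrArg Subtype.val this
    have e2 : u' * (y : H) = (y : H) * u' := hNP u' huN y y.2
    calc u' * ((x : H) * (y : H)) = (u' * (x : H)) * (y : H) := by rw [mul_assoc]
      _ = (x : H) * (u' * (y : H)) := by rw [e1, mul_assoc]
      _ = (x : H) * (y : H) * u' := by rw [e2, mul_assoc]
  exact congrArg Subtype.val hcomm

end Cfsg.Agent.Lib.Helper3.NM
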