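import Mathlib
import Cfsg.Agent.Lib.Helper1.PSGDefs
import Cfsg.Agent.Lib.Helper1.PSGBasicA
import Cfsg.Agent.Lib.Helper9.PSGBasicB
import Cfsg.Agent.Lib.Helper4.CSGConj
import Cfsg.Agent.Lib.Helper9.CSGSylow
import Cfsg.Agent.Lib.Helper8.CSGAsym

set_option autoImplicit false
set_option linter.unusedVariables false
set_option linter.unusedSectionVars false
set_option linter.style.longLine false

namespace Cfsg.Agent.Lib.Helper1.PSG

open Cfsg.Agent.Lib.Helper8.CSG

variable {G : Type*} [Group G] [Finite G]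

/-! ### P6 (PSGCentral) -/

theorem central_of_zP {p : ℕ} [hp : Fact p.Prime] (hZ : ¬ p ∣ Nat.card ↥(Subgroup.center G))
    (hiso : Iso G p) (P : Sylow p G) {v : G} (hv : PElt p v) (hpv : p ∣ idx v) {c : G}
    (hc1 : c ≠ 1) (hcP : c ∈ (P : Subgroup G)) (hcc : ∀ h ∈ (P : Subgroup G), Commute c h)
    {b : G} (hb : ¬ p ∣ orderOf b) (hcb : Commute c b) : b ∈ Subgroup.center G := by
  have hPC : (P : Subgroup G) ≤ Subgroup.centralizer ({c} : Set G) := by
    intro h hh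
    rw [Subgroup.mem_centralizer_singleton_iff]
    exact (hcc h hh).eq.symm
  have hpc : ¬ p ∣ idx c := fun h =>
    P.not_dvd_index (h.trans (Subgroup.index_dvd_of_le hPC))
  have hcp : PElt p c := pelt_of_mem_sylow P hcP
  have hcidx : idx c ≠ 1 := idx_ne_one_of_pelt hZ hcp hc1
  obtain ⟨hcbs, hcoo⟩ := sing_mul hcp hc1 hb hcb
  obtain ⟨hd1, hd2⟩ := idx_dvd_idx_mul_of_coprime_order hcb hcoo
  have hpcb : ¬ p ∣ idx (c * b) := by
    intro h
    have ht := Nat.minFac_prime hcidx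
    have := hiso (c * b) hcbs h (Nat.minFac (idx c)) ht ((Nat.minFac_dvd _).trans hd1)
    exact hpc (this ▸ Nat.minFac_dvd (idx c))
  obtain ⟨g, hcx⟩ := exists_conj_commute hpcb hv
  set v' := g * v * g⁻¹ with hv'def
  have hv' : PElt p v' := pelt_conj hv g
  have hidx : idx v' = idx v := idx_conj g v
  have hv'1 : v' ≠ 1 := by
    intro h
    have h1 : idx v' = 1 := by rw [h]; exact h8_idx_eq_one_of_mem_center (Subgroup.one_mem _)
    rw [hidx] at h1
    rw [h1] at hpv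
    exact hp.out.one_lt.ne' (Nat.dvd_one.mp hpv)
  have hbz : b ∈ Subgroup.zpowers (c * b) := (mem_zpowers_mul_of_coprime hcb hcoo).2
  obtain ⟨k, hk⟩ := Subgroup.mem_zpowers_iff.mp hbz
  have hvb : Commute v' b := by
    rw [← hk]
    exact (hcx.zpow_left k).symm
  obtain ⟨hw, hcoo'⟩ := sing_mul hv' hv'1 hb hvb
  obtain ⟨he1, he2⟩ := idx_dvd_idx_mul_of_coprime_order hvb hcoo'
  have hpw : p ∣ idx (v' * b) := by
    have : p ∣ idx v' := by rw [hidx]; exact hpv
    exact this.trans he1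
  by_contra hbc
  have hb1 : idx b ≠ 1 := fun h => hbc (h8_mem_center_of_idx_eq_one h)
  have ht2 := Nat.minFac_prime hb1
  have h2 := hiso (v' * b) hw hpw (Nat.minFac (idx b)) ht2 ((Nat.minFac_dvd _).trans he2)
  apply hpcb
  have : p ∣ idx b := h2 ▸ Nat.minFac_dvd (idx b)
  exact this.trans hd2

theorem exists_noncentral_preg {p : ℕ} [hp : Fact p.Prime] {u : G} (hu1 : idx u ≠ 1)
    (hpu : ¬ p ∣ idx u) : ∃ a : G, ¬ p ∣ orderOf a ∧ a ∉ Subgroup.center G := by
  by_contra hcon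
  push Not at hcon
  have hq := Nat.minFac_prime hu1
  have hqu : Nat.minFac (idx u) ∣ idx u := Nat.minFac_dvd _
  have hqp : Nat.minFac (idx u) ≠ p := fun h => hpu (h ▸ hqu)
  have h1 : idx (1 : G) = 1 := h8_idx_eq_one_of_mem_center (Subgroup.one_mem _)
  have hq1 : ¬ Nat.minFac (idx u) ∣ idx (1 : G) := by
    rw [h1]; exact fun h => hq.one_lt.ne' (Nat.dvd_one.mp h)
  refine not_dvd_idx_of_central_elts hq hq1 ?_ u hqu
  rintro g - ⟨k, hk⟩
  apply hcon
  intro hpg
  have h2 : orderOf g ∣ Nat.minFac (idx u) ^ k := orderOf_dvd_of_pow_eq_one hk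
  have h3 : p ∣ Nat.minFac (idx u) ^ k := hpg.trans h2
  have h4 : p ∣ Nat.minFac (idx u) := hp.out.dvd_of_dvd_pow h3
  exact hqp ((Nat.prime_dvd_prime_iff_eq hp.out hq).mp h4).symm

end Cfsg.Agent.Lib.Helper1.PSG
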