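import Mathlib
import Cfsg.Agent.Lib.Helper1.PSGDefs
import Cfsg.Agent.Lib.Helper1.PSGBasicA
import Cfsg.Agent.Lib.Helper9.PSGBasicB
import Cfsg.Agent.Lib.Helper4.CSGConj
import Cfsg.Agent.Lib.Helper8.CSGAsym
import Cfsg.Agent.Lib.Helper7.PSGAsym

set_option autoImplicit false
set_option linter.unusedVariables false
set_option linter.unusedSectionVars false
set_option linter.style.longLine false

namespace Cfsg.Agent.Lib.Helper1.PSG

open Cfsg.Agent.Lib.Helper8.CSG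

variable {G : Type*} [Group G] [Finite G]

/-! ### P4a (PSGStepA) -/

theorem exists_pelt_dvd {p : ℕ} [Fact p.Prime] (hZ : ¬ p ∣ Nat.card ↥(Subgroup.center G))
    {r s : ℕ} (hfar : Far G p r s) {x y : G} (hx : p ∣ orderOf x) (hrx : r ∣ idx x)
    (hy : p ∣ orderOf y) (hsy : s ∣ idx y) {u : G} (hu : PElt p u) (hu1 : u ≠ 1)
    (hux : idx u ∣ idx x) (hpu : ¬ p ∣ idx u) :
    ∃ v : G, PElt p v ∧ p ∣ idx v ∧ idx v ∣ idx y := by
  obtain ⟨v0, y', hyv, hcomm0, hv0, hy', hv0z, hy'z, hv01⟩ := exists_decomp p y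
  have hv0ne : v0 ≠ 1 := hv01 hy
  have hv0y : idx v0 ∣ idx y := idx_dvd_of_mem_zpowers hv0z
  obtain ⟨g, hc⟩ := exists_conj_commute hpu hv0
  set v := g * v0 * g⁻¹ with hvdef
  have hv : PElt p v := pelt_conj hv0 g
  have hidx : idx v = idx v0 := idx_conj g v0
  have hv1 : v ≠ 1 := by
    intro h
    apply hv0ne
    have : g * v0 * g⁻¹ = 1 := h
    have h2 : v0 = g⁻¹ * (g * v0 * g⁻¹) * g := by group
    rw [h2, this]; group
  have hvy : idx v ∣ idx y := by rw [hidx]; exact hv0y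
  have hco : (idx u).Coprime (idx v) := by
    by_contra hnc
    obtain ⟨t, ht, htu, htv⟩ := Nat.Prime.not_coprime_iff_dvd.mp hnc
    exact hfar x hx hrx y hy hsy x hx t t ht ht (htu.trans hux) (htu.trans hux) (htv.trans hvy)
      (htu.trans hux)
  have huv : PElt p (u * v) := pelt_mul hu hv hc
  have huv1 : u * v ≠ 1 := by
    intro h
    have hvu : v = u⁻¹ := (eq_inv_of_mul_eq_one_right h)
    have h1 : idx v = idx u := by rw [hvu]; exact idx_inv u
    rw [h1] at hco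
    exact idx_ne_one_of_pelt hZ hu hu1 ((Nat.coprime_self _).mp hco)
  have hpuv : p ∣ orderOf (u * v) := dvd_orderOf_of_pelt huv huv1
  have hd : idx (u * v) ∣ idx u ∨ idx (u * v) ∣ idx v :=
    dvd_or_dvd_of_no_common (idx_mul_dvd hco) (fun t t' ht ht' hta htn ht'b ht'n =>
      hfar x hx hrx y hy hsy (u * v) hpuv t t' ht ht' (hta.trans hux) htn (ht'b.trans hvy) ht'n)
  obtain ⟨hpv, -⟩ := asym_step hZ hu hu1 hv hv1 hc hco hpu hd
  exact ⟨v, hv, hpv, hvy⟩

end Cfsg.Agent.Lib.Helper1.PSG
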