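import Mathlib
import Cfsg.Agent.Lib.Helper1.PSGDefs
import Cfsg.Agent.Lib.Helper1.PSGBasicA
import Cfsg.Agent.Lib.Helper9.PSGBasicB
import Cfsg.Agent.Lib.Helper4.CSGConj
import Cfsg.Agent.Lib.Helper8.CSGAsym

set_option autoImplicit false
set_option linter.unusedVariables false
set_option linter.unusedSectionVars false
set_option linter.style.longLine false

namespace Cfsg.Agent.Lib.Helper1.PSG

open Cfsg.Agent.Lib.Helper8.CSG

variable {G : Type*} [Group G] [Finite G]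

/-! ### P4b (PSGStepB) -/

theorem central_of_far {p : ℕ} [hp : Fact p.Prime] (hZ : ¬ p ∣ Nat.card ↥(Subgroup.center G))
    {r s : ℕ} (hfar : Far G p r s) {y : G} (hy : p ∣ orderOf y) (hsy : s ∣ idx y)
    (hpy : p ∣ idx y) {u b : G} (hu : PElt p u) (hu1 : u ≠ 1) (hb : ¬ p ∣ orderOf b)
    (hc : Commute u b) (hr : r ∣ idx (u * b)) : b ∈ Subgroup.center G := by
  obtain ⟨hx1, hcoo⟩ := sing_mul hu hu1 hb hc
  have hpx1 : ¬ p ∣ idx (u * b) := by
    intro h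
    exact hfar (u * b) hx1 hr y hy hsy (u * b) hx1 p p hp.out hp.out h h hpy h
  obtain ⟨v0, y', hyv, hcomm0, hv0, hy', hv0z, hy'z, hv01⟩ := exists_decomp p y
  have hv0ne : v0 ≠ 1 := hv01 hy
  have hv0y : idx v0 ∣ idx y := idx_dvd_of_mem_zpowers hv0z
  obtain ⟨g, hcx⟩ := exists_conj_commute hpx1 hv0
  set v1 := g * v0 * g⁻¹ with hv1def
  have hv1 : PElt p v1 := pelt_conj hv0 g
  have hidx : idx v1 = idx v0 := idx_conj g v0
  have hv1ne : v1 ≠ 1 := by
    intro h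
    apply hv0ne
    have h1 : g * v0 * g⁻¹ = 1 := h
    have h2 : v0 = g⁻¹ * (g * v0 * g⁻¹) * g := by group
    rw [h2, h1]; group
  have hbz : b ∈ Subgroup.zpowers (u * b) := (mem_zpowers_mul_of_coprime hc hcoo).2
  obtain ⟨k, hk⟩ := Subgroup.mem_zpowers_iff.mp hbz
  have hcb : Commute v1 b := by
    rw [← hk]
    exact (hcx.zpow_left k).symm
  obtain ⟨hw, hcoo'⟩ := sing_mul hv1 hv1ne hb hcb
  obtain ⟨hd1, hd2⟩ := idx_dvd_idx_mul_of_coprime_order hcb hcoo'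
  have hbx1 : idx b ∣ idx (u * b) := (idx_dvd_idx_mul_of_coprime_order hc hcoo).2
  have hv1y : idx v1 ∣ idx y := by rw [hidx]; exact hv0y
  have hv1idx : idx v1 ≠ 1 := idx_ne_one_of_pelt hZ hv1 hv1ne
  by_contra hbc
  have hb1 : idx b ≠ 1 := fun h => hbc (h8_mem_center_of_idx_eq_one h)
  have ht := Nat.minFac_prime hb1
  have ht' := Nat.minFac_prime hv1idx
  exact hfar (u * b) hx1 hr y hy hsy (v1 * b) hw (Nat.minFac (idx b)) (Nat.minFac (idx v1)) ht ht'
    ((Nat.minFac_dvd _).trans hbx1) ((Nat.minFac_dvd _).trans hd2)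
    ((Nat.minFac_dvd _).trans hv1y) ((Nat.minFac_dvd _).trans hd1)

end Cfsg.Agent.Lib.Helper1.PSG
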