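import Cfsg.Agent.Lib.Helper1.QBDefs
import Cfsg.Agent.Lib.Helper1.PLengthOne
import Cfsg.Agent.Lib.Helper2.Cores

/-! S4125 GT farm, piece E1: a complement of `O_q(G/O_{q'}(G))` of order prime to `q` acts faithfully on it. -/

set_option autoImplicit false

namespace Cfsg.Agent.Lib.Helper1.QB

open Cfsg

variable {G : Type*} [Group G] [Finite G]

/-- generic form: in a group with trivial `O_{q'}`, a `q'`-complement `H` of a normal subgroup `R` acts faithfully on `R`. -/
theorem h8_qb_faithful_of_complement {Γ : Type*} [Group Γ] [Finite Γ] {q : ℕ}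
    (hbot : pPrimeCore q Γ = ⊥) (R H : Subgroup Γ) [R.Normal]
    (hc : R.IsComplement' H) (hcop : (Nat.card H).Coprime q) :
    ∀ h ∈ H, (∀ z ∈ R, h * z = z * h) → h = 1 := by
  intro h hh hcent
  -- the subgroup of `H` centralizing `R`
  let N : Subgroup Γ := H ⊓ Subgroup.centralizer (R : Set Γ)
  have hNn : N.Normal := by
    constructor
    intro n hn g
    -- write `g = r * k`
    obtain ⟨⟨⟨r, hr⟩, ⟨k, hk⟩⟩, hrk⟩ := hc.2 g
    simp only at hrk
    have hn1 : n ∈ H := (Subgroup.mem_inf.mp hn).1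
    have hn2 : n ∈ Subgroup.centralizer (R : Set Γ) := (Subgroup.mem_inf.mp hn).2
    rw [Subgroup.mem_centralizer_iff] at hn2
    -- `k n k⁻¹ ∈ N`
    have hkn : k * n * k⁻¹ ∈ N := by
      refine Subgroup.mem_inf.mpr ⟨H.mul_mem (H.mul_mem hk hn1) (H.inv_mem hk), ?_⟩
      rw [Subgroup.mem_centralizer_iff]
      intro z hz
      have hz' : k⁻¹ * z * k ∈ R := by
        have := ‹R.Normal›.conj_mem z hz k⁻¹
        simpa using this
      have e := hn2 (k⁻¹ * z * k) hz'
      calc z * (k * n * k⁻¹) = k * ((k⁻¹ * z * k) * n) * k⁻¹ := by simp only [mul_assoc, mul_inv_cancel_left]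
        _ = k * (n * (k⁻¹ * z * k)) * k⁻¹ := by rw [e]
        _ = (k * n * k⁻¹) * z := by simp only [mul_assoc, mul_inv_cancel, mul_one]
    have hkn2 : k * n * k⁻¹ ∈ Subgroup.centralizer (R : Set Γ) := (Subgroup.mem_inf.mp hkn).2
    rw [Subgroup.mem_centralizer_iff] at hkn2
    have e2 : r * (k * n * k⁻¹) = (k * n * k⁻¹) * r := hkn2 r hr
    have : g * n * g⁻¹ = k * n * k⁻¹ := by
      rw [← hrk]
      calc r * k * n * (r * k)⁻¹ = (r * (k * n * k⁻¹)) * r⁻¹ := by
            simp only [mul_inv_rev, mul_assoc]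
        _ = ((k * n * k⁻¹) * r) * r⁻¹ := by rw [e2]
        _ = k * n * k⁻¹ := by simp only [mul_assoc, mul_inv_cancel, mul_one]
    rw [this]
    exact hkn
  have hNc : (Nat.card N).Coprime q :=
    Nat.Coprime.coprime_dvd_left (Subgroup.card_dvd_of_le inf_le_left) hcop
  have hle : N ≤ pPrimeCore q Γ := Cfsg.Agent.Lib.Helper2.le_pPrimeCore hNc
  rw [hbot] at hle
  have hmem : h ∈ N := by
    refine Subgroup.mem_inf.mpr ⟨hh, ?_⟩
    rw [Subgroup.mem_centralizer_iff]
    intro z hz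
    exact (hcent z hz).symm
  exact (Subgroup.mem_bot).mp (hle hmem)

theorem quot_faithful {q : ℕ} [Fact q.Prime] (H : Subgroup (G ⧸ pPrimeCore q G))
    (hc : (pCore q (G ⧸ pPrimeCore q G)).IsComplement' H) (hcop : (Nat.card H).Coprime q) :
    ∀ h ∈ H, (∀ z ∈ pCore q (G ⧸ pPrimeCore q G), h * z = z * h) → h = 1 :=
  h8_qb_faithful_of_complement (Cfsg.Agent.Lib.Helper1.pPrimeCore_quotient_eq_bot q) _ H hc hcop

end Cfsg.Agent.Lib.Helper1.QB
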