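import Cfsg.Agent.Lib.Helper1.QBA1
import Cfsg.Agent.Lib.Helper1.QBA3
import Cfsg.Agent.Lib.Helper2.QBA5
import Cfsg.Agent.Lib.Helper2.Cores

/-! S4125 GT farm, piece D1 (Part IV): if all `q`-elements have `p`-power class size with `p ≠ q`, a Sylow `q`-subgroup `Q`
is abelian and `O_p(G) Q` is normal. -/

set_option autoImplicit false

namespace Cfsg.Agent.Lib.Helper1.QB

open Cfsg

variable {G : Type*} [Group G] [Finite G]

theorem baer_of_all {p q : ℕ} [Fact p.Prime] (hall : ∀ x : G, QElt q x → ∃ a : ℕ, ind x = p ^ a) : Baer q G := by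
  intro x hx
  obtain ⟨a, ha⟩ := hall x hx
  exact ⟨p, a, Fact.out, ha⟩

/-- L3: `ind x = p^a` is coprime to `q`. -/
theorem partIV_abelian {p q : ℕ} [Fact p.Prime] [Fact q.Prime] (hpq : p ≠ q)
    (hall : ∀ x : G, QElt q x → ∃ a : ℕ, ind x = p ^ a) (Q : Sylow q G) :
    ∀ x ∈ Q, ∀ y ∈ Q, x * y = y * x := by
  intro x hx y hy
  have hxq : QElt q x := qelt_of_mem_pgroup (Q : Subgroup G) Q.2 hx
  obtain ⟨a, ha⟩ := hall x hxq
  have hcop : (ind x).Coprime q := by
    rw [ha]
    exact Nat.Coprime.pow_left a ((Nat.coprime_primes Fact.out Fact.out).mpr hpq)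
  exact central_of_ind_coprime (baer_of_all hall) Q hx hcop y hy

theorem partIV_normal {p q : ℕ} [Fact p.Prime] [Fact q.Prime] (hpq : p ≠ q)
    (hall : ∀ x : G, QElt q x → ∃ a : ℕ, ind x = p ^ a) (Q : Sylow q G) :
    (pCore p G ⊔ (Q : Subgroup G)).Normal := by
  -- `Q ≤ M`
  have hQM : (Q : Subgroup G) ≤ Mpq p q G := by
    intro x hx
    have hxq : QElt q x := qelt_of_mem_pgroup (Q : Subgroup G) Q.2 hx
    obtain ⟨a, ha⟩ := hall x hxq
    exact mem_Mpq hxq ha
  -- the image of `Q` in `G / O_p(G)` is `O_q(G / O_p(G))`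
  have hmap : (Q : Subgroup G).map (QuotientGroup.mk' (pCore p G)) = pCore q (G ⧸ pCore p G) := by
    apply le_antisymm
    · rintro _ ⟨x, hx, rfl⟩
      exact hQM hx
    · -- a normal `q`-subgroup lies in every Sylow `q`-subgroup
      have hsurj : Function.Surjective (QuotientGroup.mk' (pCore p G)) := QuotientGroup.mk'_surjective _
      have hle := (Cfsg.Agent.Lib.Helper2.pCore_isPGroup (G := G ⧸ pCore p G) q).le_sylow_of_normal
        (Q.mapSurjective hsurj)
      simpa using hle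
  have hM : Mpq p q G = pCore p G ⊔ (Q : Subgroup G) := by
    unfold Mpq
    rw [← hmap, Subgroup.comap_map_eq, QuotientGroup.ker_mk', sup_comm]
  rw [← hM]
  unfold Mpq
  infer_instance

end Cfsg.Agent.Lib.Helper1.QB
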