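import Mathlib

set_option autoImplicit false
set_option linter.unusedSectionVars false
set_option linter.unusedVariables false

/-!
Farm S2343 (Ree groups, minimal degree), unit V4: if the three involutions of a Klein four-group
have trace zero in a complex representation, then four divides the degree (the projector onto the
fixed points of the four-group has trace `degree / 4`).
-/

namespace Cfsg.Agent.Lib.Helper8.ReeMD

theorem four_dvd_of_klein {G : Type*} [Group G] {V : Type*} [AddCommGroup V] [Module ℂ V]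
    [FiniteDimensional ℂ V] (ρ : Representation ℂ G V) (a b : G) (ha : a * a = 1)
    (hb : b * b = 1) (hab : a * b = b * a) (ta : LinearMap.trace ℂ V (ρ a) = 0)
    (tb : LinearMap.trace ℂ V (ρ b) = 0) (tab : LinearMap.trace ℂ V (ρ (a * b)) = 0) :
    4 ∣ Module.finrank ℂ V := by
  obtain ⟨A, hA0⟩ : ∃ A : Module.End ℂ V, A = ρ a := ⟨_, rfl⟩
  obtain ⟨B, hB0⟩ : ∃ B : Module.End ℂ V, B = ρ b := ⟨_, rfl⟩
  have hA : A * A = 1 := by rw [hA0, ← map_mul, ha, map_one]
  have hB : B * B = 1 := by rw [hB0, ← map_mul, hb, map_one]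
  have hAB : B * A = A * B := by rw [hA0, hB0, ← map_mul, ← map_mul, hab]
  have hρab : ρ (a * b) = A * B := by rw [hA0, hB0, map_mul]
  obtain ⟨S, hS⟩ : ∃ S : Module.End ℂ V, S = 1 + A + B + A * B := ⟨_, rfl⟩
  have hAS : A * S = S := by
    rw [hS, mul_add, mul_add, mul_add, mul_one, hA, ← mul_assoc, hA, one_mul]
    abel
  have hBS : B * S = S := by
    rw [hS, mul_add, mul_add, mul_add, mul_one, hAB, hB, ← mul_assoc, hAB, mul_assoc, hB, mul_one]
    abel
  have hSS : S * S = (4 : ℂ) • S := by
    have h1 : S * S = S + A * S + B * S + A * (B * S) := by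
      conv_lhs => rw [hS]
      rw [add_mul, add_mul, add_mul, one_mul, mul_assoc, ← hS]
    rw [h1, hBS, hAS]
    module
  have hP : IsIdempotentElem ((4 : ℂ)⁻¹ • S) := by
    unfold IsIdempotentElem
    rw [smul_mul_smul_comm, hSS, smul_smul]
    congr 1
    norm_num
  obtain ⟨p, hp⟩ := (LinearMap.isProj_iff_isIdempotentElem _).mpr hP
  have htr := hp.trace
  rw [map_smul, hS, map_add, map_add, map_add, ← hρab, hA0, hB0, ta, tb, tab, LinearMap.trace_one,
    add_zero, add_zero, add_zero, smul_eq_mul] at htr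
  have h4 : (Module.finrank ℂ V : ℂ) = ((4 * Module.finrank ℂ p : ℕ) : ℂ) := by
    push_cast
    rw [← htr]
    field_simp
  have h5 : Module.finrank ℂ V = 4 * Module.finrank ℂ p := by exact_mod_cast h4
  exact ⟨_, h5⟩

end Cfsg.Agent.Lib.Helper8.ReeMD
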