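import Cfsg.Agent.Lib.Helper8.FFT2
import Cfsg.Agent.Lib.Helper1.SZHelpers

/-! Failure of factorization: an abelian offender outside `C(V)` yields a transvection. -/
set_option autoImplicit false
universe u
open Cfsg
open scoped commutatorElement Pointwise

namespace Cfsg.Agent.Lib.Helper8.FFT

open Cfsg.Agent.Lib.Helper1

theorem card_eq_card_inf_mul_card_map {Y : Type u} [Group Y] [Finite Y] (A U : Subgroup Y)
    [U.Normal] : Nat.card A = Nat.card ↥(A ⊓ U) * Nat.card ↥(A.map (QuotientGroup.mk' U)) := by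
  set f : ↥A →* Y ⧸ U := (QuotientGroup.mk' U).comp A.subtype with hf
  have h1 := Subgroup.card_eq_card_quotient_mul_card_subgroup f.ker
  have h2 : Nat.card (↥A ⧸ f.ker) = Nat.card ↥f.range :=
    Nat.card_congr (QuotientGroup.quotientKerEquivRange f).toEquiv
  have h3 : f.range = A.map (QuotientGroup.mk' U) := by
    rw [hf, MonoidHom.range_comp, Subgroup.range_subtype]
  have h4 : f.ker = U.subgroupOf A := by
    rw [hf, ← MonoidHom.comap_ker, QuotientGroup.ker_mk']; rfl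
  have h5 : Nat.card ↥(U.subgroupOf A) = Nat.card ↥(A ⊓ U) := by
    rw [← Subgroup.inf_subgroupOf_left, card_subgroupOf_of_le inf_le_left]
  rw [h1, h2, h3, h4, h5, mul_comm]

theorem exists_transvection {Y : Type u} [Group Y] [Finite Y] {p : ℕ} [hp : Fact p.Prime]
    (V U : Subgroup Y) [hVn : V.Normal] [hUn : U.Normal]
    (hU : U = Subgroup.centralizer (V : Set Y)) (hV : IsElementaryAbelian p V)
    (Qx : Subgroup (Y ⧸ U)) [hQn : Qx.Normal] (hQ : (Nat.card Qx).Coprime p)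
    (hCQ : Subgroup.centralizer (Qx : Set (Y ⧸ U)) ≤ Qx)
    (A : Subgroup Y) (hAc : ∀ a ∈ A, ∀ b ∈ A, a * b = b * a) (hAp : IsPGroup p A)
    (hAU : ¬ A ≤ U)
    (hoff : Nat.card V * Nat.card ↥(A ⊓ U) ≤
      Nat.card A * Nat.card ↥(V ⊓ Subgroup.centralizer (A : Set Y))) :
    (p = 2 ∨ p = 3) ∧ ∃ a ∈ A, a ∉ U ∧ a ^ p ∈ U ∧
      ∃ S : Subgroup Y, S ≤ V ∧ Nat.card S = p ∧ ∀ v ∈ V, a * v * a⁻¹ * v⁻¹ ∈ S := by
  have hker : U ≤ (MulAut.conjNormal : Y →* MulAut ↥V).ker := by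
    intro u hu
    rw [MonoidHom.mem_ker]
    ext n
    rw [MulAut.conjNormal_apply, MulAut.one_apply]
    rw [hU, Subgroup.mem_centralizer_iff] at hu
    rw [← hu (n : Y) n.2]; group
  obtain ⟨φ, hφdef⟩ : ∃ φ : Y ⧸ U →* MulAut ↥V,
      φ = QuotientGroup.lift U (MulAut.conjNormal : Y →* MulAut ↥V) hker := ⟨_, rfl⟩
  have hφmk : ∀ (g : Y) (n : ↥V), ((φ (QuotientGroup.mk g) n : ↥V) : Y) = g * n * g⁻¹ := by
    intro g n
    rw [hφdef, QuotientGroup.lift_mk, MulAut.conjNormal_apply]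
  have hφinj : Function.Injective φ := by
    rw [injective_iff_map_eq_one]
    intro q hq
    induction q using QuotientGroup.induction_on with
    | H g =>
      rw [QuotientGroup.eq_one_iff, hU, Subgroup.mem_centralizer_iff]
      intro v hv
      have h1 := hφmk g ⟨v, hv⟩
      rw [hq, MulAut.one_apply] at h1
      have h2 : v = g * v * g⁻¹ := h1
      calc v * g = (g * v * g⁻¹) * g := by rw [← h2]
        _ = g * v := by group
  have hNc : ∀ a b : ↥V, a * b = b * a := fun a b =>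
    Subtype.ext (isElementaryAbelian_comm hV a.2 b.2)
  have hNp : ∀ a : ↥V, a ^ p = 1 := fun a => Subtype.ext (by
    rw [Subgroup.coe_pow, Subgroup.coe_one]; exact hV.2 _ a.2)
  obtain ⟨Ax, hAx⟩ : ∃ Ax : Subgroup (Y ⧸ U), Ax = A.map (QuotientGroup.mk' U) := ⟨_, rfl⟩
  have hAxc : ∀ a ∈ Ax, ∀ b ∈ Ax, a * b = b * a := by
    intro a ha b hb
    rw [hAx] at ha hb
    obtain ⟨a, ha, rfl⟩ := ha
    obtain ⟨b, hb, rfl⟩ := hb
    rw [← map_mul, ← map_mul, hAc a ha b hb]
  have hAxp : IsPGroup p Ax := by rw [hAx]; exact hAp.map _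
  have hAx1 : Ax ≠ ⊥ := by
    rw [hAx, Ne, Subgroup.map_eq_bot_iff, QuotientGroup.ker_mk']
    exact hAU
  obtain ⟨F, hFdef⟩ : ∃ F : Subgroup ↥V,
      F = (V ⊓ Subgroup.centralizer (A : Set Y)).subgroupOf V := ⟨_, rfl⟩
  have hF : ∀ n : ↥V, n ∈ F ↔ ∀ a ∈ Ax, φ a n = n := by
    intro n
    rw [hFdef, Subgroup.mem_subgroupOf]
    constructor
    · rintro ⟨-, hn⟩ a ha
      rw [hAx] at ha
      obtain ⟨a, ha, rfl⟩ := ha
      apply Subtype.ext
      show ((φ (QuotientGroup.mk a) n : ↥V) : Y) = n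
      rw [hφmk, Subgroup.mem_centralizer_iff.mp hn a ha]; group
    · intro h
      refine ⟨n.2, ?_⟩
      show (n : Y) ∈ Subgroup.centralizer (A : Set Y)
      rw [Subgroup.mem_centralizer_iff]
      intro a ha
      have h1 := h (QuotientGroup.mk a) (by rw [hAx]; exact ⟨a, ha, rfl⟩)
      have h2 := hφmk a n
      rw [h1] at h2
      calc a * (n : Y) = (a * n * a⁻¹) * a := by group
        _ = n * a := by rw [← h2]
  have hFcard : Nat.card F = Nat.card ↥(V ⊓ Subgroup.centralizer (A : Set Y)) := by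
    rw [hFdef, card_subgroupOf_of_le inf_le_left]
  have hoff' : Nat.card ↥V ≤ Nat.card Ax * Nat.card F := by
    rw [hFcard, hAx]
    have h1 := card_eq_card_inf_mul_card_map A U
    rw [h1, mul_assoc, mul_comm (Nat.card ↥V)] at hoff
    exact Nat.le_of_mul_le_mul_left hoff Nat.card_pos
  obtain ⟨hp23, ab, habAx, hab1, habp, S, hScard, hS⟩ :=
    exists_transvection_semidirect φ hφinj hNc hNp Qx hQ hCQ Ax hAxc hAxp hAx1 F hF hoff'
  refine ⟨hp23, ?_⟩
  rw [hAx] at habAx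
  obtain ⟨a, haA, rfl⟩ := habAx
  refine ⟨a, haA, ?_, ?_, S.map V.subtype, Subgroup.map_subtype_le _, ?_, ?_⟩
  · intro haU
    apply hab1
    exact (QuotientGroup.eq_one_iff a).mpr haU
  · rw [← QuotientGroup.eq_one_iff]
    exact habp
  · rw [Subgroup.card_map_of_injective V.subtype_injective, hScard]
  · intro v hv
    refine ⟨_, hS ⟨v, hv⟩, ?_⟩
    have := hφmk a ⟨v, hv⟩
    simp only [Subgroup.coe_subtype, Subgroup.coe_mul, Subgroup.coe_inv]
    show ((φ (QuotientGroup.mk a) ⟨v, hv⟩ : ↥V) : Y) * v⁻¹ = _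
    rw [this]

end Cfsg.Agent.Lib.Helper8.FFT
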