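import Cfsg.Agent.Lib.Helper8.KleinS4a
import Cfsg.Agent.Lib.Helper1.CoprimeSylow

/-! A group inducing the full automorphism group on a normal Klein four-subgroup involves `S₄`. -/
set_option autoImplicit false
open scoped Pointwise

namespace Cfsg.Agent.Lib.Helper8.KleinS4

open Cfsg

universe u

theorem cover_of_sup_eq_top {K : Type u} [Group K] (N C : Subgroup K) [C.Normal]
    (h : N ⊔ C = ⊤) (K₁ : Subgroup K) (hN : N ≤ K₁) :
    ∀ g : K, ∃ k ∈ K₁, ∃ c ∈ C, g = k * c := by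
  intro g
  have hg : g ∈ ((N ⊔ C : Subgroup K) : Set K) := by rw [h]; trivial
  rw [Subgroup.mul_normal] at hg
  obtain ⟨k, hk, c, hc, rfl⟩ := hg
  exact ⟨k, hN hk, c, hc, rfl⟩

theorem involves_aux (n : ℕ) : ∀ (K : Type u) [Group K] [Finite K], Nat.card K = n →
    ∀ w₁ w₂ y x : K, Config w₁ w₂ y x → Cfsg.Involves (Equiv.Perm (Fin 4)) K := by
  induction n using Nat.strong_induction_on with
  | _ n ih =>
  intro K _ _ hcard w₁ w₂ y x h
  have red_quot : ∀ R : Subgroup K, R.Normal → R ⊓ h.W = ⊥ → R ≠ ⊥ →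
      Cfsg.Involves (Equiv.Perm (Fin 4)) K := by
    intro R hRn hRW hR1
    haveI := hRn
    have hlt : Nat.card (K ⧸ R) < n := by
      have h1 := Subgroup.card_eq_card_quotient_mul_card_subgroup R
      have h2 : 1 < Nat.card ↥R := (Subgroup.one_lt_card_iff_ne_bot (H := R)).mpr hR1
      have h3 : 0 < Nat.card (K ⧸ R) := Nat.card_pos
      rw [← hcard, h1]; nlinarith
    have := ih _ hlt (K ⧸ R) rfl _ _ _ _ (h.quotient R hRW)
    exact Cfsg.Agent.Lib.Helper2.Inv.involves_of_quotient R this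
  have red_sub : ∀ K₁ : Subgroup K, h.W ≤ K₁ → (∀ g : K, ∃ k ∈ K₁, ∃ c ∈ h.C, g = k * c) →
      K₁ ≠ ⊤ → Cfsg.Involves (Equiv.Perm (Fin 4)) K := by
    intro K₁ hW hcov hne
    have hlt : Nat.card ↥K₁ < n := by
      by_contra hcon
      push Not at hcon
      rw [← hcard] at hcon
      exact hne (Subgroup.eq_top_of_le_card K₁ hcon)
    obtain ⟨y', x', h'⟩ := h.subgroup K₁ hW hcov
    have := ih _ hlt ↥K₁ rfl _ _ _ _ h'
    exact Cfsg.Agent.Lib.Helper2.Inv.involves_of_subgroup K₁ this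
  by_contra hnot
  have hW2 : IsPGroup 2 ↥h.W := IsPGroup.of_card (n := 2) (by rw [h.card_W]; norm_num)
  have hcent : ∀ c ∈ h.C, ∀ w ∈ h.W, w * c * w⁻¹ = c := by
    intro c hc w hw
    have : w * c = c * w := Subgroup.mem_centralizer_iff.mp hc w hw
    rw [this]; group
  -- Step A: `C` is a `2`-group
  have hA : ∀ r : ℕ, r.Prime → r ≠ 2 → ¬ r ∣ Nat.card ↥h.C := by
    intro r hr hr2 hdvd
    haveI : Fact r.Prime := ⟨hr⟩
    obtain ⟨R₀⟩ : Nonempty (Sylow r ↥h.C) := inferInstance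
    obtain ⟨R, hRdef⟩ : ∃ R : Subgroup K, R = (R₀ : Subgroup ↥h.C).map h.C.subtype := ⟨_, rfl⟩
    have hfr := Sylow.normalizer_sup_eq_top R₀
    rw [← hRdef] at hfr
    have hRC : R ≤ h.C := by rw [hRdef]; exact Subgroup.map_subtype_le _
    have hRne : R ≠ ⊥ := by
      rw [hRdef, Ne, Subgroup.map_eq_bot_iff_of_injective _ h.C.subtype_injective]
      exact Sylow.ne_bot_of_dvd_card R₀ hdvd
    have hRp : IsPGroup r ↥R := by rw [hRdef]; exact R₀.isPGroup'.map _
    have hWN : h.W ≤ Subgroup.normalizer (R : Set K) := by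
      apply Cfsg.Agent.Lib.Helper1.le_normalizer_of_conj_mem
      intro w hw g hg
      rw [hcent g (hRC hg) w hw]; exact hg
    have hcov := cover_of_sup_eq_top _ h.C hfr (h.W ⊔ Subgroup.normalizer (R : Set K)) le_sup_right
    by_cases htop : h.W ⊔ Subgroup.normalizer (R : Set K) = ⊤
    · rw [sup_eq_right.mpr hWN] at htop
      have hRn : R.Normal := Subgroup.normalizer_eq_top_iff.mp htop
      have hdisj : R ⊓ h.W = ⊥ := by
        haveI : Fact (Nat.Prime 2) := ⟨Nat.prime_two⟩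
        exact disjoint_iff.mp (IsPGroup.disjoint_of_ne r 2 hr2 R h.W hRp hW2)
      exact hnot (red_quot R hRn hdisj hRne)
    · exact hnot (red_sub _ le_sup_left hcov htop)
  obtain ⟨k, hCk⟩ : ∃ k : ℕ, Nat.card ↥h.C = 2 ^ k := by
    refine ⟨_, Nat.eq_prime_pow_of_unique_prime_dvd (Nat.card_pos).ne' ?_⟩
    intro d hd hdvd
    by_contra hd2
    exact hA d hd hd2 hdvd
  have hC2 : IsPGroup 2 ↥h.C := IsPGroup.of_card hCk
  have hK : Nat.card K = 6 * 2 ^ k := by
    rw [← hCk, ← h.index_C]; exact (Subgroup.index_mul_card h.C).symm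
  -- Step B
  haveI : Fact (Nat.Prime 3) := ⟨Nat.prime_three⟩
  haveI : Fact (Nat.Prime 2) := ⟨Nat.prime_two⟩
  obtain ⟨P⟩ : Nonempty (Sylow 3 K) := inferInstance
  have hP3 : Nat.card ↥(P : Subgroup K) = 3 := by
    obtain ⟨m, hm⟩ := IsPGroup.iff_card.mp P.isPGroup'
    have hdvd : 3 ^ m ∣ 3 * 2 ^ (k + 1) := by
      have := Subgroup.card_subgroup_dvd_card (P : Subgroup K)
      rw [hm, hK] at this
      have e : 6 * 2 ^ k = 3 * 2 ^ (k + 1) := by rw [pow_succ]; ring
      rwa [e] at this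
    have hco : Nat.Coprime (3 ^ m) (2 ^ (k + 1)) := Nat.Coprime.pow _ _ (by norm_num)
    have h3 : 3 ^ m ∣ 3 := hco.dvd_of_dvd_mul_right hdvd
    have hm1 : m ≤ 1 := by
      by_contra hcon
      push Not at hcon
      have : 3 ^ 2 ≤ 3 ^ m := Nat.pow_le_pow_right (by norm_num) hcon
      have := Nat.le_of_dvd (by norm_num) h3
      omega
    have hm0 : m ≠ 0 := by
      rintro rfl
      have hne : (P : Subgroup K) ≠ ⊥ := by
        apply Sylow.ne_bot_of_dvd_card
        rw [hK]; exact Dvd.dvd.mul_right (by norm_num) _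
      apply hne
      rw [← Subgroup.card_eq_one, hm, pow_zero]
    have : m = 1 := by omega
    rw [hm, this, pow_one]
  have hPC : (P : Subgroup K) ⊓ h.C = ⊥ :=
    disjoint_iff.mp (IsPGroup.disjoint_of_ne 3 2 (by norm_num) _ _ P.isPGroup' hC2)
  obtain ⟨M, hM⟩ : ∃ M : Subgroup K, M = h.C ⊔ (P : Subgroup K) := ⟨_, rfl⟩
  have hCM : h.C ≤ M := by rw [hM]; exact le_sup_left
  have hPM : (P : Subgroup K) ≤ M := by rw [hM]; exact le_sup_right
  have hMidx : M.index = 2 := by
    have h1 := Subgroup.relIndex_mul_index hCM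
    rw [h.index_C] at h1
    have h2 : h.C.relIndex M = 3 := by
      rw [hM, Subgroup.relIndex_sup_left, ← Subgroup.inf_relIndex_right, inf_comm, hPC,
        Subgroup.relIndex_bot_left, hP3]
    rw [h2] at h1
    omega
  haveI hMn : M.Normal := Subgroup.normal_of_index_eq_two hMidx
  have hfr : Subgroup.normalizer ((P : Subgroup K) : Set K) ⊔ h.C = ⊤ := by
    have h1 := Sylow.normalizer_sup_eq_top' P hPM
    rw [hM] at h1
    have h2 : (P : Subgroup K) ≤ Subgroup.normalizer ((P : Subgroup K) : Set K) :=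
      Subgroup.le_normalizer
    rw [← top_le_iff, ← h1]
    apply sup_le le_sup_left
    apply sup_le le_sup_right
    exact h2.trans le_sup_left
  obtain ⟨N, hN⟩ : ∃ N : Subgroup K, N = Subgroup.normalizer ((P : Subgroup K) : Set K) :=
    ⟨_, rfl⟩
  rw [← hN] at hfr
  have hcov := cover_of_sup_eq_top N h.C hfr (h.W ⊔ N) le_sup_right
  by_cases htop : h.W ⊔ N = ⊤
  swap
  · exact hnot (red_sub _ le_sup_left hcov htop)
  -- Step C
  obtain ⟨T₀, hT₀⟩ : ∃ T₀ : Subgroup K, T₀ = h.C ⊓ N := ⟨_, rfl⟩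
  have hT₀n : T₀.Normal := by
    rw [← Subgroup.normalizer_eq_top_iff, ← top_le_iff, ← htop]
    apply sup_le
    · apply Cfsg.Agent.Lib.Helper1.le_normalizer_of_conj_mem
      intro w hw t ht
      rw [hT₀] at ht
      rw [hcent t ht.1 w hw, hT₀]; exact ht
    · apply Cfsg.Agent.Lib.Helper1.le_normalizer_of_conj_mem
      intro g hg t ht
      rw [hT₀] at ht ⊢
      exact ⟨h.normal_C.conj_mem t ht.1 g, N.mul_mem (N.mul_mem hg ht.2) (N.inv_mem hg)⟩
  have hT₀c : ∀ z ∈ T₀, ∀ g ∈ (P : Subgroup K), z * g = g * z := by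
    intro z hz g hg
    rw [hT₀] at hz
    have h1 : z * g * z⁻¹ * g⁻¹ ∈ (P : Subgroup K) ⊓ h.C := by
      constructor
      · have hzN : z ∈ Subgroup.normalizer ((P : Subgroup K) : Set K) := hN ▸ hz.2
        have := (Subgroup.mem_normalizer_iff.mp hzN g).mp hg
        exact (P : Subgroup K).mul_mem this ((P : Subgroup K).inv_mem hg)
      · have : z * g * z⁻¹ * g⁻¹ = z * (g * z⁻¹ * g⁻¹) := by group
        rw [this]
        exact h.C.mul_mem hz.1 (h.normal_C.conj_mem _ (h.C.inv_mem hz.1) g)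
    rw [hPC, Subgroup.mem_bot] at h1
    calc z * g = (z * g * z⁻¹ * g⁻¹) * g * z := by group
      _ = g * z := by rw [h1, one_mul]
  have hT₀W : T₀ ⊓ h.W = ⊥ := by
    by_contra hne
    obtain ⟨⟨z, hz⟩, hz1'⟩ := Subgroup.ne_bot_iff_exists_ne_one.mp hne
    have hz1 : z ≠ 1 := fun e => hz1' (Subtype.ext e)
    have e3 : y * (w₁ * w₂) * y⁻¹ = w₁ := by
      have : y * (w₁ * w₂) * y⁻¹ = (y * w₁ * y⁻¹) * (y * w₂ * y⁻¹) := by group
      rw [this, h.y1, h.y2, ← mul_assoc, h.hc, mul_assoc, h.hs2, mul_one]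
    have hw₁ : w₁ ∈ T₀ := by
      rcases hz.2 with e | e | e | e
      · exact absurd e hz1
      · rw [← e]; exact hz.1
      · have := hT₀n.conj_mem _ hz.1 y⁻¹
        have e' : y⁻¹ * z * y⁻¹⁻¹ = w₁ := by rw [e, ← h.y1]; group
        rwa [e'] at this
      · have := hT₀n.conj_mem _ hz.1 y
        rwa [e, e3] at this
    have hw₂ : w₂ ∈ T₀ := by
      have := hT₀n.conj_mem _ hw₁ y
      rwa [h.y1] at this
    have hPleC : (P : Subgroup K) ≤ h.C := by
      intro g hg
      rw [h.mem_C_iff]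
      constructor
      · rw [← hT₀c w₁ hw₁ g hg]; group
      · rw [← hT₀c w₂ hw₂ g hg]; group
    have : (P : Subgroup K) = ⊥ := by rw [← hPC]; exact (inf_eq_left.mpr hPleC).symm
    rw [this, Subgroup.card_bot] at hP3
    omega
  by_cases hT₀1 : T₀ = ⊥
  swap
  · exact hnot (red_quot T₀ hT₀n hT₀W hT₀1)
  -- Step D
  have hNC : Disjoint N h.C := by
    rw [disjoint_iff, inf_comm, ← hT₀, hT₀1]
  have hcompl1 : Subgroup.IsComplement' N h.C := by
    apply Subgroup.isComplement'_of_disjoint_and_mul_eq_univ hNC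
    rw [← Subgroup.mul_normal, hfr]; rfl
  have hNcard : Nat.card ↥N = 6 := by
    have h1 := hcompl1.card_mul_card
    rw [hK, hCk] at h1
    have hpos : 0 < 2 ^ k := by positivity
    nlinarith
  have hWN : Disjoint h.W N := by
    rw [disjoint_iff, eq_bot_iff]
    intro z hz
    have : z ∈ h.C ⊓ N := ⟨h.W_le_C hz.1, hz.2⟩
    rw [← hT₀, hT₀1] at this
    exact this
  have hcompl2 : Subgroup.IsComplement' h.W N := by
    apply Subgroup.isComplement'_of_disjoint_and_mul_eq_univ hWN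
    rw [← Subgroup.normal_mul, htop]; rfl
  have hK24 : Nat.card K = 24 := by
    have h1 := hcompl2.card_mul_card
    rw [h.card_W, hNcard] at h1
    omega
  have hC4 : Nat.card ↥h.C = 4 := by
    have := Subgroup.index_mul_card h.C
    rw [h.index_C, hK24] at this
    omega
  have hWC : h.W = h.C := by
    apply Subgroup.eq_of_le_of_card_ge h.W_le_C
    rw [hC4, h.card_W]
  have hself : ∀ g : K, (∀ v ∈ h.W, g * v = v * g) → g ∈ h.W := by
    intro g hg
    rw [hWC]
    show g ∈ Subgroup.centralizer (h.W : Set K)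
    rw [Subgroup.mem_centralizer_iff]
    intro v hv
    exact (hg v hv).symm
  obtain ⟨e⟩ := Cfsg.Agent.Lib.Helper5.S4Rec.nonempty_mulEquiv_perm hK24 h.W h.isKleinFour_W hself
  exact hnot (Cfsg.Agent.Lib.Helper2.Inv.involves_congr e Cfsg.Agent.Lib.Helper2.Inv.involves_refl)

/-- A finite group inducing the full automorphism group on a normal Klein four-subgroup
involves the symmetric group of degree four. -/
theorem involves_of_config {K : Type u} [Group K] [Finite K] {w₁ w₂ y x : K}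
    (h : Config w₁ w₂ y x) : Cfsg.Involves (Equiv.Perm (Fin 4)) K :=
  involves_aux (Nat.card K) K rfl w₁ w₂ y x h

end Cfsg.Agent.Lib.Helper8.KleinS4
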