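import Mathlib
import Cfsg.Prelude
import Cfsg.Agent.Lib.Helper2.Involves
import Cfsg.Agent.Lib.Helper3.PGroupFix
import Cfsg.Agent.Lib.Helper8.KleinS4b
import Cfsg.Agent.Lib.Helper8.FFT3

set_option autoImplicit false

namespace Cfsg.Agent.Lib.Helper8.S4Loc

open Cfsg.Agent.Lib.Helper2.Inv

universe u

/-- the configuration: a normal `2`-subgroup `T`, an element `y` inducing an automorphism of order
three on `T` and a `2`-element `x` inverting it modulo `C(T)` -/
structure Hyp {K : Type u} [Group K] (T : Subgroup K) (x y : K) : Prop where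
  normal : T.Normal
  two : IsPGroup 2 T
  hx : ∃ k : ℕ, x ^ (2 ^ k) = 1
  hy3 : y ^ 3 ∈ Subgroup.centralizer (T : Set K)
  hyn : y ∉ Subgroup.centralizer (T : Set K)
  hxy : x * y * x⁻¹ * y ∈ Subgroup.centralizer (T : Set K)

theorem mem_centralizer_subgroupOf_iff {K : Type u} [Group K] {T K₁ : Subgroup K} (hT : T ≤ K₁)
    (c : K₁) : c ∈ Subgroup.centralizer ((T.subgroupOf K₁ : Subgroup K₁) : Set K₁) ↔
      (c : K) ∈ Subgroup.centralizer (T : Set K) := by
  rw [Subgroup.mem_centralizer_iff, Subgroup.mem_centralizer_iff]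
  constructor
  · intro h t ht
    have := h ⟨t, hT ht⟩ (by
      show (⟨t, hT ht⟩ : K₁) ∈ T.subgroupOf K₁
      rw [Subgroup.mem_subgroupOf]; exact ht)
    exact congrArg Subtype.val this
  · intro h t ht
    apply Subtype.ext
    have ht' : (t : K) ∈ T := Subgroup.mem_subgroupOf.1 ht
    exact h t ht'

theorem Hyp.to_subgroup {K : Type u} [Group K] {T : Subgroup K} {x y : K} (H : Hyp T x y)
    (K₁ : Subgroup K) (hT : T ≤ K₁) (hx : x ∈ K₁) (hy : y ∈ K₁) :
    Hyp (T.subgroupOf K₁) (⟨x, hx⟩ : K₁) ⟨y, hy⟩ where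
  normal := by
    haveI := H.normal
    exact Subgroup.Normal.subgroupOf inferInstance K₁
  two := H.two.comap_subtype
  hx := by
    obtain ⟨k, hk⟩ := H.hx
    exact ⟨k, Subtype.ext (by simpa using hk)⟩
  hy3 := by
    rw [mem_centralizer_subgroupOf_iff hT]
    simpa using H.hy3
  hyn := by
    rw [mem_centralizer_subgroupOf_iff hT]
    exact H.hyn
  hxy := by
    rw [mem_centralizer_subgroupOf_iff hT]
    simpa using H.hxy

theorem map_mem_centralizer_map {K : Type u} [Group K] {Q : Type u} [Group Q] (π : K →* Q)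
    {T : Subgroup K} {c : K} (hc : c ∈ Subgroup.centralizer (T : Set K)) :
    π c ∈ Subgroup.centralizer ((T.map π : Subgroup Q) : Set Q) := by
  rw [Subgroup.mem_centralizer_iff] at hc ⊢
  rintro _ ⟨t, ht, rfl⟩
  rw [← map_mul, ← map_mul, hc t ht]

theorem Hyp.to_quotient {K : Type u} [Group K] {T : Subgroup K} {x y : K} (H : Hyp T x y)
    (U : Subgroup K) [U.Normal]
    (hy : QuotientGroup.mk' U y ∉
      Subgroup.centralizer ((T.map (QuotientGroup.mk' U) : Subgroup (K ⧸ U)) : Set (K ⧸ U))) :
    Hyp (T.map (QuotientGroup.mk' U)) (QuotientGroup.mk' U x) (QuotientGroup.mk' U y) where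
  normal := by
    haveI := H.normal
    exact Subgroup.Normal.map inferInstance _ (QuotientGroup.mk'_surjective U)
  two := H.two.map _
  hx := by
    obtain ⟨k, hk⟩ := H.hx
    exact ⟨k, by rw [← map_pow, hk, map_one]⟩
  hy3 := by
    rw [← map_pow]
    exact map_mem_centralizer_map _ H.hy3
  hyn := hy
  hxy := by
    rw [← map_inv, ← map_mul, ← map_mul, ← map_mul]
    exact map_mem_centralizer_map _ H.hxy

theorem Hyp.mono {K : Type u} [Group K] {T : Subgroup K} {x y : K} (H : Hyp T x y)
    (U : Subgroup K) [hU : U.Normal] (hUT : U ≤ T)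
    (hy : y ∉ Subgroup.centralizer (U : Set K)) : Hyp U x y where
  normal := hU
  two := H.two.to_le hUT
  hx := H.hx
  hy3 := Subgroup.centralizer_le (by exact_mod_cast hUT) H.hy3
  hyn := hy
  hxy := Subgroup.centralizer_le (by exact_mod_cast hUT) H.hxy

theorem involves_of_hyp_gen {K : Type u} [Group K] [Finite K] (T : Subgroup K) (x y : K)
    (H : Hyp T x y) (hgen : T ⊔ Subgroup.closure {x, y} = ⊤)
    (IH : ∀ (K' : Type u) [Group K'] [Finite K'] (T' : Subgroup K') (x' y' : K'),
      Nat.card T' < Nat.card T → Hyp T' x' y' → Cfsg.Involves (Equiv.Perm (Fin 4)) K') :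
    Cfsg.Involves (Equiv.Perm (Fin 4)) K := by
  classical
  haveI := H.normal
  haveI : Fact (Nat.Prime 2) := ⟨Nat.prime_two⟩
  have hnorm_of : ∀ U : Subgroup K, T ≤ Subgroup.normalizer (U : Set K) →
      x ∈ Subgroup.normalizer (U : Set K) → y ∈ Subgroup.normalizer (U : Set K) → U.Normal := by
    intro U hT hx hy
    rw [← Subgroup.normalizer_eq_top_iff, eq_top_iff, ← hgen]
    refine sup_le hT ((Subgroup.closure_le _).2 ?_)
    rintro _ (rfl | rfl)
    · exact hx
    · exact hy
  by_cases hex : ∃ U : Subgroup K, U.Normal ∧ U ≤ T ∧ U ≠ ⊥ ∧ U ≠ T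
  · obtain ⟨U, hUn, hUT, hU1, hU2⟩ := hex
    haveI := hUn
    have hcardU : Nat.card U < Nat.card T := by
      by_contra hlt
      exact hU2 (Subgroup.eq_of_le_of_card_ge hUT (not_lt.1 hlt))
    by_cases h1 : y ∈ Subgroup.centralizer (U : Set K)
    · by_cases h2 : ∀ t ∈ T, y * t * y⁻¹ * t⁻¹ ∈ U
      · exfalso
        apply H.hyn
        rw [Subgroup.mem_centralizer_iff]
        intro t ht
        set u := y * t * y⁻¹ * t⁻¹ with hu
        have huU : u ∈ U := h2 t ht
        have huy : u * y = y * u := (Subgroup.mem_centralizer_iff.1 h1) u huU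
        have hyt : y * t * y⁻¹ = u * t := by rw [hu]; group
        have e2 : ∀ z : K, y * (u * z) * y⁻¹ = u * (y * z * y⁻¹) := by
          intro z
          calc y * (u * z) * y⁻¹ = (y * u) * y⁻¹ * (y * z * y⁻¹) := by group
            _ = u * (y * z * y⁻¹) := by rw [← huy]; group
        have h3 : y ^ 3 * t * (y ^ 3)⁻¹ = u ^ 3 * t := by
          have e1 : y ^ 3 * t * (y ^ 3)⁻¹ = y * (y * (y * t * y⁻¹) * y⁻¹) * y⁻¹ := by
            rw [pow_three]; group
          rw [e1, hyt, e2, hyt, e2, e2, hyt, pow_three]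
          group
        have h4 : y ^ 3 * t * (y ^ 3)⁻¹ = t := by
          have := (Subgroup.mem_centralizer_iff.1 H.hy3) t ht
          rw [← this]; group
        have hu3 : u ^ 3 = 1 := by
          have h5 : u ^ 3 * t = 1 * t := by rw [one_mul]; exact h3.symm.trans h4
          exact mul_right_cancel h5
        obtain ⟨k, hk⟩ : ∃ k, u ^ (2 ^ k) = 1 := by
          obtain ⟨k, hk⟩ := H.two ⟨u, hUT huU⟩
          exact ⟨k, by simpa using congrArg Subtype.val hk⟩
        have hu1 : u = 1 := by
          have hd3 : orderOf u ∣ 3 := orderOf_dvd_of_pow_eq_one hu3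
          have hd2 : orderOf u ∣ 2 ^ k := orderOf_dvd_of_pow_eq_one hk
          have hcop : Nat.Coprime 3 (2 ^ k) := Nat.Coprime.pow_right k (by norm_num)
          exact orderOf_eq_one_iff.1 (Nat.eq_one_of_dvd_coprimes hcop hd3 hd2)
        rw [hu1, one_mul] at hyt
        have h6 := congrArg (· * y) hyt
        simpa using h6.symm
      · push Not at h2
        obtain ⟨t, ht, htU⟩ := h2
        apply involves_of_quotient U
        refine IH (K ⧸ U) (T.map (QuotientGroup.mk' U)) _ _ ?_ (H.to_quotient U ?_)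
        · have hc := Cfsg.Agent.Lib.Helper8.FFT.card_eq_card_inf_mul_card_map T U
          rw [inf_of_le_right hUT] at hc
          have hU1' : 1 < Nat.card U := by
            rcases Nat.lt_or_ge 1 (Nat.card U) with h | h
            · exact h
            · exact absurd (Subgroup.eq_bot_of_card_le U h) hU1
          have hpos : 0 < Nat.card (T.map (QuotientGroup.mk' U)) := Nat.card_pos
          rw [hc]; nlinarith
        · intro hc
          apply htU
          have h7 := (Subgroup.mem_centralizer_iff.1 hc) (QuotientGroup.mk' U t) ⟨t, ht, rfl⟩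
          rw [← QuotientGroup.eq_one_iff]
          show (QuotientGroup.mk' U) (y * t * y⁻¹ * t⁻¹) = 1
          rw [map_mul, map_mul, map_mul, map_inv, map_inv, ← h7]; group
    · exact IH K U x y hcardU (H.mono U hUT h1)
  · push Not at hex
    have hTne : T ≠ ⊥ := by
      intro h
      apply H.hyn
      rw [Subgroup.mem_centralizer_iff]
      intro t ht
      have ht' : t ∈ T := ht
      rw [h, Subgroup.mem_bot] at ht'
      rw [ht', one_mul, mul_one]
    -- `T` is abelian
    have hab : ∀ a ∈ T, ∀ b ∈ T, a * b = b * a := by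
      have hZ : T ⊓ Subgroup.centralizer (T : Set K) ≠ ⊥ :=
        Cfsg.Agent.Lib.Helper3.inf_centralizer_ne_bot_of_isPGroup 2 H.two H.two
          Subgroup.le_normalizer hTne
      have hZT := hex (T ⊓ Subgroup.centralizer (T : Set K)) inferInstance inf_le_left hZ
      intro a ha b hb
      have h1 : a ∈ T ⊓ Subgroup.centralizer (T : Set K) := by rw [hZT]; exact ha
      exact ((Subgroup.mem_centralizer_iff.1 h1.2) b hb).symm
    -- `T` has exponent two
    have hexp : ∀ t ∈ T, t * t = 1 := by
      let Ω : Subgroup K :=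
        { carrier := {t | t ∈ T ∧ t * t = 1}
          mul_mem' := by
            rintro a b ⟨ha, ha2⟩ ⟨hb, hb2⟩
            refine ⟨T.mul_mem ha hb, ?_⟩
            calc a * b * (a * b) = a * (b * a) * b := by group
              _ = a * (a * b) * b := by rw [hab b hb a ha]
              _ = (a * a) * (b * b) := by group
              _ = 1 := by rw [ha2, hb2, one_mul]
          one_mem' := ⟨T.one_mem, one_mul 1⟩
          inv_mem' := by
            rintro a ⟨ha, ha2⟩
            refine ⟨T.inv_mem ha, ?_⟩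
            rw [← mul_inv_rev, ha2, inv_one] }
      have hΩn : Ω.Normal := by
        constructor
        rintro a ⟨ha, ha2⟩ g
        refine ⟨H.normal.conj_mem a ha g, ?_⟩
        calc g * a * g⁻¹ * (g * a * g⁻¹) = g * (a * a) * g⁻¹ := by group
          _ = 1 := by rw [ha2]; group
      have hΩT : Ω ≤ T := fun t ht => ht.1
      have hΩ1 : Ω ≠ ⊥ := by
        have h2 : 2 ∣ Nat.card T := by
          rcases H.two.card_eq_or_dvd with h | h
          · exact absurd (Subgroup.card_eq_one.1 h) hTne
          · exact h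
        obtain ⟨g, hg⟩ := exists_prime_orderOf_dvd_card' 2 h2
        intro hbot
        have hgΩ : (g : K) ∈ Ω := by
          refine ⟨g.2, ?_⟩
          have h3 : g ^ 2 = 1 := by rw [← hg]; exact pow_orderOf_eq_one g
          have h4 := congrArg Subtype.val h3
          simpa [pow_two] using h4
        rw [hbot, Subgroup.mem_bot] at hgΩ
        have h5 : g = 1 := Subtype.ext hgΩ
        rw [h5, orderOf_one] at hg
        omega
      have hΩeq := hex Ω hΩn hΩT hΩ1
      intro t ht
      have h6 : t ∈ Ω := by rw [hΩeq]; exact ht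
      exact h6.2
    have hinv : ∀ t ∈ T, t⁻¹ = t := fun t ht => inv_eq_of_mul_eq_one_right (hexp t ht)
    have hcT : ∀ t ∈ T, ∀ g : K, g * t * g⁻¹ ∈ T := fun t ht g => H.normal.conj_mem t ht g
    -- the element `c`
    set c := x * y * x⁻¹ * y with hc
    have hcc : ∀ t ∈ T, c * t = t * c := fun t ht =>
      ((Subgroup.mem_centralizer_iff.1 H.hxy) t ht).symm
    have hxyx : x * y * x⁻¹ = c * y⁻¹ := by rw [hc]; group
    -- `y` acts without fixed points
    have hfpf : ∀ t ∈ T, y * t = t * y → t = 1 := by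
      let Cy : Subgroup K :=
        { carrier := {t | t ∈ T ∧ y * t = t * y}
          mul_mem' := by
            rintro a b ⟨ha, ha2⟩ ⟨hb, hb2⟩
            have h1 : Commute y a := ha2
            have h2 : Commute y b := hb2
            exact ⟨T.mul_mem ha hb, (h1.mul_right h2).eq⟩
          one_mem' := ⟨T.one_mem, by simp⟩
          inv_mem' := by
            rintro a ⟨ha, ha2⟩
            have h1 : Commute y a := ha2
            exact ⟨T.inv_mem ha, h1.inv_right.eq⟩ }
      have hCyT : Cy ≤ T := fun t ht => ht.1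
      have hCyn : Cy.Normal := by
        apply hnorm_of
        · intro s hs
          apply Subgroup.mem_normalizer_fintype
          rintro g ⟨hg, hg2⟩
          have h1 : s * g * s⁻¹ = g := by rw [hab s hs g hg]; group
          rw [h1]
          exact ⟨hg, hg2⟩
        · apply Subgroup.mem_normalizer_fintype
          rintro g ⟨hg, hg2⟩
          have hg' : x * g * x⁻¹ ∈ T := hcT g hg x
          refine ⟨hg', ?_⟩
          have e1 : Commute (x * y * x⁻¹) (x * g * x⁻¹) := by
            show (x * y * x⁻¹) * (x * g * x⁻¹) = (x * g * x⁻¹) * (x * y * x⁻¹)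
            calc (x * y * x⁻¹) * (x * g * x⁻¹) = x * (y * g) * x⁻¹ := by group
              _ = x * (g * y) * x⁻¹ := by rw [hg2]
              _ = (x * g * x⁻¹) * (x * y * x⁻¹) := by group
          rw [hxyx] at e1
          have e3 : Commute c (x * g * x⁻¹) := hcc _ hg'
          have e4 : Commute (c⁻¹ * (c * y⁻¹)) (x * g * x⁻¹) := e3.inv_left.mul_left e1
          rw [inv_mul_cancel_left] at e4
          exact (Commute.inv_left_iff.1 e4).eq
        · apply Subgroup.mem_normalizer_fintype
          rintro g ⟨hg, hg2⟩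
          have h1 : y * g * y⁻¹ = g := by rw [hg2]; group
          rw [h1]
          exact ⟨hg, hg2⟩
      have hCy : Cy = ⊥ := by
        by_contra hne
        have hCyeq := hex Cy hCyn hCyT hne
        apply H.hyn
        rw [Subgroup.mem_centralizer_iff]
        intro t ht
        have h1 : t ∈ Cy := by rw [hCyeq]; exact ht
        exact h1.2.symm
      intro t ht hyt
      have h1 : t ∈ Cy := ⟨ht, hyt⟩
      rw [hCy, Subgroup.mem_bot] at h1
      exact h1
    -- a fixed point of `x`
    have hzx : IsPGroup 2 (Subgroup.zpowers x) := by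
      obtain ⟨k, hk⟩ := H.hx
      intro g
      obtain ⟨i, hi⟩ := Subgroup.mem_zpowers_iff.1 g.2
      refine ⟨k, Subtype.ext ?_⟩
      show (g : K) ^ 2 ^ k = 1
      rw [← hi, ← zpow_natCast, ← zpow_mul, mul_comm, zpow_mul, zpow_natCast, hk, one_zpow]
    have hxN : Subgroup.zpowers x ≤ Subgroup.normalizer (T : Set K) := by
      rw [Subgroup.normalizer_eq_top_iff.2 H.normal]; exact le_top
    have hfix := Cfsg.Agent.Lib.Helper3.inf_centralizer_ne_bot_of_isPGroup 2 H.two hzx hxN hTne
    obtain ⟨⟨w, hwT, hwC⟩, hw1⟩ := Subgroup.ne_bot_iff_exists_ne_one.1 hfix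
    have hw1' : w ≠ 1 := fun h => hw1 (Subtype.ext h)
    have hwx : x * w = w * x := (Subgroup.mem_centralizer_iff.1 hwC) x (Subgroup.mem_zpowers x)
    -- the four-group
    set w₂ := y * w * y⁻¹ with hw₂
    have hw₂T : w₂ ∈ T := hcT w hwT y
    set w₃ := y * w₂ * y⁻¹ with hw₃
    have hw₃T : w₃ ∈ T := hcT w₂ hw₂T y
    have hy3w : y * w₃ * y⁻¹ = w := by
      have h1 : y * w₃ * y⁻¹ = y ^ 3 * w * (y ^ 3)⁻¹ := by rw [hw₃, hw₂, pow_three]; group
      have h2 := (Subgroup.mem_centralizer_iff.1 H.hy3) w hwT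
      rw [h1, ← h2]; group
    have hprod : w * w₂ * w₃ = 1 := by
      apply hfpf _ (T.mul_mem (T.mul_mem hwT hw₂T) hw₃T)
      have h1 : y * (w * w₂ * w₃) * y⁻¹ = w₂ * w₃ * w := by
        calc y * (w * w₂ * w₃) * y⁻¹ = (y * w * y⁻¹) * (y * w₂ * y⁻¹) * (y * w₃ * y⁻¹) := by group
          _ = w₂ * w₃ * w := by rw [hy3w]
      have h2 : w₂ * w₃ * w = w * w₂ * w₃ := by
        rw [hab (w₂ * w₃) (T.mul_mem hw₂T hw₃T) w hwT]
        exact (mul_assoc w w₂ w₃).symm
      have h3 := congrArg (· * y) (h1.trans h2)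
      simpa using h3
    have hw₃eq : w₃ = w * w₂ := by
      have h1 : w₃ = (w * w₂)⁻¹ := by
        rw [eq_inv_iff_mul_eq_one, ← hprod]
        exact hab w₃ hw₃T (w * w₂) (T.mul_mem hwT hw₂T)
      rw [h1, hinv _ (T.mul_mem hwT hw₂T)]
    have hs1 : w * w = 1 := hexp w hwT
    have hs2 : w₂ * w₂ = 1 := hexp w₂ hw₂T
    have hcm : w₂ * w = w * w₂ := hab w₂ hw₂T w hwT
    have hx1 : x * w * x⁻¹ = w := by rw [hwx]; group
    have hx2 : x * w₂ * x⁻¹ = w * w₂ := by
      have h1 : x * w₂ * x⁻¹ = (x * y * x⁻¹) * (x * w * x⁻¹) * (x * y * x⁻¹)⁻¹ := by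
        rw [hw₂]; group
      have h2 : y⁻¹ * w * y = w₃ := by rw [← hy3w]; group
      have h3 : y⁻¹ * w * y ∈ T := by rw [h2]; exact hw₃T
      rw [h1, hx1, hxyx, ← hw₃eq, ← h2]
      calc c * y⁻¹ * w * (c * y⁻¹)⁻¹ = c * (y⁻¹ * w * y) * c⁻¹ := by group
        _ = y⁻¹ * w * y := by rw [hcc _ h3]; group
    have hy2 : y * w₂ * y⁻¹ = w * w₂ := hw₃eq
    set W : Subgroup K := Cfsg.Agent.Lib.Helper5.KleinPairs.kv w w₂ hs1 hs2 hcm with hW
    have hWT : ∀ g ∈ W, g ∈ T := by
      rintro g (rfl | rfl | rfl | rfl)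
      · exact T.one_mem
      · exact hwT
      · exact hw₂T
      · exact T.mul_mem hwT hw₂T
    have hWn : W.Normal := by
      apply hnorm_of
      · intro s hs
        apply Subgroup.mem_normalizer_fintype
        intro g hg
        have h1 : s * g * s⁻¹ = g := by rw [hab s hs g (hWT g hg)]; group
        rw [h1]
        exact hg
      · apply Subgroup.mem_normalizer_fintype
        rintro g (rfl | rfl | rfl | rfl)
        · left; group
        · right; left; exact hx1
        · right; right; right; exact hx2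
        · right; right; left
          calc x * (w * w₂) * x⁻¹ = (x * w * x⁻¹) * (x * w₂ * x⁻¹) := by group
            _ = w₂ := by rw [hx1, hx2, ← mul_assoc, hs1, one_mul]
      · apply Subgroup.mem_normalizer_fintype
        rintro g (rfl | rfl | rfl | rfl)
        · left; group
        · right; right; left; rfl
        · right; right; right; exact hy2
        · right; left
          calc y * (w * w₂) * y⁻¹ = (y * w * y⁻¹) * (y * w₂ * y⁻¹) := by group
            _ = w := by rw [hy2, ← mul_assoc, hcm, mul_assoc, hs2, mul_one]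
    have hw₂1 : w₂ ≠ 1 := fun h => hw1' (conj_eq_one_iff.1 h)
    have hcfg : Cfsg.Agent.Lib.Helper8.KleinS4.Config w w₂ y x :=
      { h1 := hw1'
        h2 := hw₂1
        hne := by
          intro h
          apply hw1'
          apply hfpf w hwT
          have h1 : y * w = w₂ * y := by rw [hw₂]; group
          rw [h1, ← h]
        hs1 := hs1
        hs2 := hs2
        hc := hcm
        inv1 := by
          intro g
          rcases hWn.conj_mem w (Or.inr (Or.inl rfl)) g with h | h | h | h
          · exact absurd (conj_eq_one_iff.1 h) hw1'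
          · exact Or.inl h
          · exact Or.inr (Or.inl h)
          · exact Or.inr (Or.inr h)
        inv2 := by
          intro g
          rcases hWn.conj_mem w₂ (Or.inr (Or.inr (Or.inl rfl))) g with h | h | h | h
          · exact absurd (conj_eq_one_iff.1 h) hw₂1
          · exact Or.inl h
          · exact Or.inr (Or.inl h)
          · exact Or.inr (Or.inr h)
        y1 := rfl
        y2 := hy2
        x1 := hx1
        x2 := hx2 }
    exact Cfsg.Agent.Lib.Helper8.KleinS4.involves_of_config hcfg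

end Cfsg.Agent.Lib.Helper8.S4Loc
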