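import Mathlib
import Cfsg.Prelude
import Cfsg.Agent.Lib.Helper8.S4Loc2
import Cfsg.Agent.S2758
import Cfsg.Agent.S0444

set_option autoImplicit false

namespace Cfsg.Agent.Lib.Helper8.S4Loc

open Cfsg.Agent.Lib.Helper2.Inv

universe u

theorem involves_of_hyp_aux (n : ℕ) : ∀ (K : Type u) [Group K] [Finite K] (T : Subgroup K)
    (x y : K), Nat.card T = n → Hyp T x y → Cfsg.Involves (Equiv.Perm (Fin 4)) K := by
  induction n using Nat.strong_induction_on with
  | _ n ih =>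
    intro K _ _ T x y hn H
    haveI := H.normal
    set K₁ : Subgroup K := T ⊔ Subgroup.closure {x, y} with hK₁
    have hTK : T ≤ K₁ := le_sup_left
    have hxK : x ∈ K₁ := (le_sup_right : _ ≤ K₁) (Subgroup.subset_closure (by simp))
    have hyK : y ∈ K₁ := (le_sup_right : _ ≤ K₁) (Subgroup.subset_closure (by simp))
    apply involves_of_subgroup K₁
    have hcard : Nat.card (T.subgroupOf K₁) = Nat.card T :=
      Nat.card_congr (Subgroup.subgroupOfEquivOfLe hTK).toEquiv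
    apply involves_of_hyp_gen (T.subgroupOf K₁) ⟨x, hxK⟩ ⟨y, hyK⟩ (H.to_subgroup K₁ hTK hxK hyK)
    · apply Subgroup.map_injective K₁.subtype_injective
      rw [Subgroup.map_sup, Subgroup.subgroupOf_map_subtype, inf_of_le_left hTK,
        MonoidHom.map_closure, Set.image_pair, ← MonoidHom.range_eq_map, Subgroup.range_subtype]
      rfl
    · intro K' _ _ T' x' y' hlt H'
      exact ih (Nat.card T') (by rw [← hn, ← hcard]; exact hlt) K' T' x' y' rfl H'

theorem conj_odd_pow {Q : Type*} [Group Q] {a b : Q} (h : a * b * a⁻¹ = b⁻¹) {m : ℕ}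
    (hm : Odd m) : a ^ m * b * (a ^ m)⁻¹ = b⁻¹ := by
  obtain ⟨l, rfl⟩ := hm
  have h2 : Commute (a ^ 2) b := by
    show a ^ 2 * b = b * a ^ 2
    have e : a ^ 2 * b * (a ^ 2)⁻¹ = b := by
      calc a ^ 2 * b * (a ^ 2)⁻¹ = a * (a * b * a⁻¹) * a⁻¹ := by rw [pow_two]; group
        _ = a * b⁻¹ * a⁻¹ := by rw [h]
        _ = (a * b * a⁻¹)⁻¹ := by group
        _ = b := by rw [h, inv_inv]
    have := congrArg (· * a ^ 2) e
    simpa using this
  have h3 : Commute ((a ^ 2) ^ l) b⁻¹ := (h2.pow_left l).inv_right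
  calc a ^ (2 * l + 1) * b * (a ^ (2 * l + 1))⁻¹
      = (a ^ 2) ^ l * (a * b * a⁻¹) * ((a ^ 2) ^ l)⁻¹ := by
        rw [pow_succ, pow_mul]; group
    _ = b⁻¹ := by rw [h, h3.eq]; group

/-- If `S₃` is involved in `N(T)/C(T)` for a `2`-subgroup `T`, then `S₄` is involved in `G`. -/
theorem involves_of_two_subgroup {G : Type u} [Group G] [Finite G] (T : Subgroup G)
    (hT : IsPGroup 2 ↥T)
    (h : Cfsg.Involves (Equiv.Perm (Fin 3)) (↥(Subgroup.normalizer (T : Set G)) ⧸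
        (Subgroup.centralizer (T : Set G)).subgroupOf (Subgroup.normalizer (T : Set G)))) :
    Cfsg.Involves (Equiv.Perm (Fin 4)) G := by
  classical
  haveI : Fact (Nat.Prime 3) := ⟨by norm_num⟩
  set N : Subgroup G := Subgroup.normalizer (T : Set G) with hN
  set C : Subgroup N := (Subgroup.centralizer (T : Set G)).subgroupOf N with hC
  have hTN : T ≤ N := Subgroup.le_normalizer
  obtain ⟨e⟩ := Cfsg.Agent.S0444.dihedral_three
  have hD : Cfsg.Involves (DihedralGroup 3) (N ⧸ C) := involves_congr e.symm h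
  obtain ⟨xb, yb, ⟨k, hxb⟩, ⟨j, hyb⟩, hyb1, hinvb⟩ :=
    ((Cfsg.Agent.S2758.result (G := N ⧸ C) (p := 3) (by norm_num)).2).1 hD
  have hj : j ≠ 0 := by
    rintro rfl
    rw [pow_zero, orderOf_eq_one_iff] at hyb
    exact hyb1 hyb
  obtain ⟨j', rfl⟩ := Nat.exists_eq_succ_of_ne_zero hj
  set yb' := yb ^ (3 ^ j') with hyb'
  have hyb'3 : yb' ^ 3 = 1 := by
    rw [hyb', ← pow_mul, ← pow_succ, ← hyb]; exact pow_orderOf_eq_one yb
  have hyb'1 : yb' ≠ 1 := by
    intro h1
    have h2 := orderOf_dvd_of_pow_eq_one h1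
    rw [hyb] at h2
    have h3 := Nat.le_of_dvd (by positivity) h2
    have h4 : 3 ^ j' < 3 ^ (j' + 1) := Nat.pow_lt_pow_right (by norm_num) (Nat.lt_succ_self j')
    omega
  have hinvb' : xb * yb' * xb⁻¹ = yb'⁻¹ := by rw [hyb', ← conj_pow, hinvb, inv_pow]
  obtain ⟨x0, hx0⟩ := QuotientGroup.mk_surjective xb
  obtain ⟨y0, hy0⟩ := QuotientGroup.mk_surjective yb'
  have hord : orderOf x0 ≠ 0 := (orderOf_pos x0).ne'
  obtain ⟨a, m, hm, hord'⟩ := Nat.exists_eq_two_pow_mul_odd hord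
  set x1 := x0 ^ m with hx1
  have hx1pow : x1 ^ (2 ^ a) = 1 := by
    rw [hx1, ← pow_mul, mul_comm, ← hord']; exact pow_orderOf_eq_one x0
  have hinv1 : (xb ^ m) * yb' * (xb ^ m)⁻¹ = yb'⁻¹ := conj_odd_pow hinvb' hm
  have hmemC : ∀ g : N, (QuotientGroup.mk g : N ⧸ C) = 1 ↔
      g ∈ Subgroup.centralizer ((T.subgroupOf N : Subgroup N) : Set N) := by
    intro g
    rw [QuotientGroup.eq_one_iff, hC, Subgroup.mem_subgroupOf, mem_centralizer_subgroupOf_iff hTN]
  apply involves_of_subgroup N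
  have Hyp' : Hyp (T.subgroupOf N) x1 y0 :=
    { normal := inferInstance
      two := hT.comap_subtype
      hx := ⟨a, hx1pow⟩
      hy3 := by
        rw [← hmemC, QuotientGroup.mk_pow, hy0, hyb'3]
      hyn := by
        rw [← hmemC, hy0]
        exact hyb'1
      hxy := by
        rw [← hmemC, QuotientGroup.mk_mul, QuotientGroup.mk_mul, QuotientGroup.mk_mul,
          QuotientGroup.mk_inv, hx1, QuotientGroup.mk_pow, hx0, hy0, hinv1, inv_mul_cancel] }
  exact involves_of_hyp_aux _ N (T.subgroupOf N) x1 y0 rfl Hyp'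

end Cfsg.Agent.Lib.Helper8.S4Loc
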