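import Cfsg.Agent.Lib.Helper8.KleinS4b
import Cfsg.Agent.Lib.Helper1.ThompsonBasic

/-! A transvection on a normal elementary abelian `2`-subgroup `W`, outside `O_2`, in a group
with `Y / C(W)` of the form (odd normal subgroup)·(2-group), produces a section `S₄`. -/
set_option autoImplicit false
universe u
open Cfsg
open scoped Pointwise

namespace Cfsg.Agent.Lib.Helper8.ThLoc

open Cfsg.Agent.Lib.Helper5.KleinPairs Cfsg.Agent.Lib.Helper8.KleinS4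

variable {Y : Type u} [Group Y]

theorem conj_mul (g u v : Y) : g * (u * v) * g⁻¹ = (g * u * g⁻¹) * (g * v * g⁻¹) := by group

/-- an element acting trivially on `W / W₀` whose square centralizes `W₀` has fourth power
centralizing `W` -/
theorem pow_four_centralizes {W W₀ : Subgroup Y} (hW₀W : W₀ ≤ W) (hsq : ∀ t ∈ W₀, t * t = 1)
    (g : Y) (hg : ∀ v ∈ W, g * v * g⁻¹ * v⁻¹ ∈ W₀)
    (hg2 : ∀ w ∈ W₀, g ^ 2 * w * (g ^ 2)⁻¹ = w) : ∀ v ∈ W, g ^ 4 * v * (g ^ 4)⁻¹ = v := by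
  have hnorm : ∀ u ∈ W₀, g * u * g⁻¹ ∈ W₀ := by
    intro u hu
    have := hg u (hW₀W hu)
    have e : g * u * g⁻¹ = (g * u * g⁻¹ * u⁻¹) * u := by group
    rw [e]; exact W₀.mul_mem this hu
  intro v hv
  obtain ⟨u, hu⟩ : ∃ u : Y, u = g * v * g⁻¹ * v⁻¹ := ⟨_, rfl⟩
  have huW₀ : u ∈ W₀ := hu ▸ hg v hv
  have h1 : g * v * g⁻¹ = u * v := by rw [hu]; group
  obtain ⟨t, ht⟩ : ∃ t : Y, t = (g * u * g⁻¹) * u := ⟨_, rfl⟩
  have htW₀ : t ∈ W₀ := ht ▸ W₀.mul_mem (hnorm u huW₀) huW₀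
  have h2 : g ^ 2 * v * (g ^ 2)⁻¹ = t * v := by
    calc g ^ 2 * v * (g ^ 2)⁻¹ = g * (g * v * g⁻¹) * g⁻¹ := by rw [pow_two]; group
      _ = g * (u * v) * g⁻¹ := by rw [h1]
      _ = (g * u * g⁻¹) * (g * v * g⁻¹) := conj_mul g u v
      _ = t * v := by rw [h1, ht]; group
  calc g ^ 4 * v * (g ^ 4)⁻¹ = g ^ 2 * (g ^ 2 * v * (g ^ 2)⁻¹) * (g ^ 2)⁻¹ := by
        rw [show (4 : ℕ) = 2 + 2 from rfl, pow_add]; group
    _ = g ^ 2 * (t * v) * (g ^ 2)⁻¹ := by rw [h2]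
    _ = (g ^ 2 * t * (g ^ 2)⁻¹) * (g ^ 2 * v * (g ^ 2)⁻¹) := conj_mul _ t v
    _ = t * (t * v) := by rw [hg2 t htW₀, h2]
    _ = v := by rw [← mul_assoc, hsq t htW₀, one_mul]

theorem involves_S4_of_transvection [Finite Y] (W P₀ : Subgroup Y) [hWn : W.Normal]
    [hP₀n : P₀.Normal] (hP₀ : P₀ = Subgroup.centralizer (W : Set Y))
    (hWel : IsElementaryAbelian 2 W)
    (Qx : Subgroup (Y ⧸ P₀)) [hQn : Qx.Normal] (hQodd : (Nat.card Qx).Coprime 2)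
    (hCQ : Subgroup.centralizer (Qx : Set (Y ⧸ P₀)) ≤ Qx)
    (a : Y) (haP : a ∉ P₀) (ha2 : a ^ 2 ∈ P₀)
    (S : Subgroup Y) (hSW : S ≤ W) (hScard : Nat.card S = 2)
    (hS : ∀ v ∈ W, a * v * a⁻¹ * v⁻¹ ∈ S) :
    Involves (Equiv.Perm (Fin 4)) Y := by
  have hWc : ∀ u ∈ W, ∀ v ∈ W, u * v = v * u := fun u hu v hv =>
    Cfsg.Agent.Lib.Helper1.isElementaryAbelian_comm hWel hu hv
  have hWsq : ∀ u ∈ W, u * u = 1 := fun u hu => by rw [← pow_two]; exact hWel.2 u hu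
  have hWinv : ∀ u ∈ W, u⁻¹ = u := fun u hu => inv_eq_of_mul_eq_one_right (hWsq u hu)
  -- the generator of `S`
  obtain ⟨⟨w₁, hw₁S⟩, hw₁ne, hw₁uniq⟩ := (Nat.card_eq_two_iff' (1 : ↥S)).mp hScard
  have hw₁1 : w₁ ≠ 1 := fun e => hw₁ne (Subtype.ext e)
  have hSmem : ∀ s ∈ S, s = 1 ∨ s = w₁ := by
    intro s hs
    by_cases h1 : s = 1
    · exact Or.inl h1
    · right
      have := hw₁uniq ⟨s, hs⟩ (fun e => h1 (congrArg Subtype.val e))
      exact congrArg Subtype.val this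
  have hw₁W : w₁ ∈ W := hSW hw₁S
  have F1 : ∀ v ∈ W, a * v * a⁻¹ = v ∨ a * v * a⁻¹ = w₁ * v := by
    intro v hv
    rcases hSmem _ (hS v hv) with e | e
    · left
      calc a * v * a⁻¹ = (a * v * a⁻¹ * v⁻¹) * v := by group
        _ = v := by rw [e, one_mul]
    · right
      calc a * v * a⁻¹ = (a * v * a⁻¹ * v⁻¹) * v := by group
        _ = w₁ * v := by rw [e]
  -- an element of the odd part not commuting with `a` modulo `P₀`
  have hex : ∃ x : Y, (QuotientGroup.mk x : Y ⧸ P₀) ∈ Qx ∧ x * a * x⁻¹ * a⁻¹ ∉ P₀ := by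
    by_contra hno
    push Not at hno
    apply haP
    have hmem : (QuotientGroup.mk a : Y ⧸ P₀) ∈ Qx := by
      apply hCQ
      rw [Subgroup.mem_centralizer_iff]
      intro q hq
      induction q using QuotientGroup.induction_on with
      | H x =>
        have h1 := hno x hq
        rw [← QuotientGroup.eq_one_iff] at h1
        have h2 : (QuotientGroup.mk x : Y ⧸ P₀) * QuotientGroup.mk a =
            QuotientGroup.mk (x * a * x⁻¹ * a⁻¹) * (QuotientGroup.mk a * QuotientGroup.mk x) := by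
          rw [← QuotientGroup.mk_mul, ← QuotientGroup.mk_mul, ← QuotientGroup.mk_mul]
          congr 1; group
        rw [h2, h1, one_mul]
    have h1 : (QuotientGroup.mk a : Y ⧸ P₀) ^ 2 = 1 := by
      rw [← QuotientGroup.mk_pow, QuotientGroup.eq_one_iff]; exact ha2
    have h2 : orderOf (⟨QuotientGroup.mk a, hmem⟩ : Qx) ∣ 2 := by
      apply orderOf_dvd_of_pow_eq_one
      exact Subtype.ext h1
    have h3 : orderOf (⟨QuotientGroup.mk a, hmem⟩ : Qx) ∣ Nat.card Qx := orderOf_dvd_natCard _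
    have h4 : orderOf (⟨QuotientGroup.mk a, hmem⟩ : Qx) = 1 :=
      Nat.eq_one_of_dvd_coprimes hQodd h3 h2
    have h5 := orderOf_eq_one_iff.mp h4
    have h6 : (QuotientGroup.mk a : Y ⧸ P₀) = 1 := congrArg Subtype.val h5
    exact (QuotientGroup.eq_one_iff a).mp h6
  obtain ⟨x, hxQ, hxa⟩ := hex
  obtain ⟨b, hb⟩ : ∃ b : Y, b = x * a * x⁻¹ := ⟨_, rfl⟩
  obtain ⟨c, hc⟩ : ∃ c : Y, c = b * a⁻¹ := ⟨_, rfl⟩
  have hcP : c ∉ P₀ := by rw [hc, hb]; exact hxa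
  have hcQ : (QuotientGroup.mk c : Y ⧸ P₀) ∈ Qx := by
    have e : c = x * (a * x⁻¹ * a⁻¹) := by rw [hc, hb]; group
    rw [e, QuotientGroup.mk_mul]
    apply Qx.mul_mem hxQ
    have : (QuotientGroup.mk (a * x⁻¹ * a⁻¹) : Y ⧸ P₀) =
        QuotientGroup.mk a * (QuotientGroup.mk x)⁻¹ * (QuotientGroup.mk a)⁻¹ := by
      rw [QuotientGroup.mk_mul, QuotientGroup.mk_mul, QuotientGroup.mk_inv, QuotientGroup.mk_inv]
    rw [this]
    exact hQn.conj_mem _ (Qx.inv_mem hxQ) _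
  have hc4 : c ^ 4 ∉ P₀ := by
    intro h
    apply hcP
    have h1 : (QuotientGroup.mk c : Y ⧸ P₀) ^ 4 = 1 := by
      rw [← QuotientGroup.mk_pow, QuotientGroup.eq_one_iff]; exact h
    have h2 : orderOf (⟨QuotientGroup.mk c, hcQ⟩ : Qx) ∣ 4 := by
      apply orderOf_dvd_of_pow_eq_one
      exact Subtype.ext h1
    have h3 : orderOf (⟨QuotientGroup.mk c, hcQ⟩ : Qx) ∣ Nat.card Qx := orderOf_dvd_natCard _
    have hco : (Nat.card Qx).Coprime 4 := by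
      have : (4 : ℕ) = 2 ^ 2 := by norm_num
      rw [this]; exact hQodd.pow_right 2
    have h4 : orderOf (⟨QuotientGroup.mk c, hcQ⟩ : Qx) = 1 :=
      Nat.eq_one_of_dvd_coprimes hco h3 h2
    have h5 := orderOf_eq_one_iff.mp h4
    have h6 : (QuotientGroup.mk c : Y ⧸ P₀) = 1 := congrArg Subtype.val h5
    exact (QuotientGroup.eq_one_iff c).mp h6
  obtain ⟨w₂, hw₂⟩ : ∃ w₂ : Y, w₂ = x * w₁ * x⁻¹ := ⟨_, rfl⟩
  have hw₂W : w₂ ∈ W := by rw [hw₂]; exact hWn.conj_mem w₁ hw₁W x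
  have hw₂1 : w₂ ≠ 1 := by
    intro e
    apply hw₁1
    have : w₁ = x⁻¹ * w₂ * x := by rw [hw₂]; group
    rw [this, e]; group
  have F1' : ∀ v ∈ W, b * v * b⁻¹ = v ∨ b * v * b⁻¹ = w₂ * v := by
    intro v hv
    have hv' : x⁻¹ * v * x ∈ W := by
      have := hWn.conj_mem v hv x⁻¹
      simpa using this
    have e : b * v * b⁻¹ = x * (a * (x⁻¹ * v * x) * a⁻¹) * x⁻¹ := by rw [hb]; group
    rcases F1 _ hv' with h | h
    · left; rw [e, h]; group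
    · right; rw [e, h, hw₂]; group
  have hs1 : w₁ * w₁ = 1 := hWsq w₁ hw₁W
  have hs2 : w₂ * w₂ = 1 := hWsq w₂ hw₂W
  have hcomm : w₂ * w₁ = w₁ * w₂ := hWc w₂ hw₂W w₁ hw₁W
  -- action of `a` and `b` on `w₁`, `w₂`
  have ha1 : a * w₁ * a⁻¹ = w₁ := by
    rcases F1 w₁ hw₁W with h | h
    · exact h
    · exfalso
      rw [hs1] at h
      apply hw₁1
      calc w₁ = a⁻¹ * (a * w₁ * a⁻¹) * a := by group
        _ = 1 := by rw [h]; group
  have hb2 : b * w₂ * b⁻¹ = w₂ := by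
    rcases F1' w₂ hw₂W with h | h
    · exact h
    · exfalso
      rw [hs2] at h
      apply hw₂1
      calc w₂ = b⁻¹ * (b * w₂ * b⁻¹) * b := by group
        _ = 1 := by rw [h]; group
  have ha2' : a * w₂ * a⁻¹ = w₂ ∨ a * w₂ * a⁻¹ = w₁ * w₂ := F1 w₂ hw₂W
  have hb1 : b * w₁ * b⁻¹ = w₁ ∨ b * w₁ * b⁻¹ = w₁ * w₂ := by
    rcases F1' w₁ hw₁W with h | h
    · exact Or.inl h
    · right; rw [h, hcomm]
  obtain ⟨W₀, hW₀⟩ : ∃ W₀ : Subgroup Y, W₀ = kv w₁ w₂ hs1 hs2 hcomm := ⟨_, rfl⟩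
  have hW₀mem : ∀ z : Y, z ∈ W₀ ↔ z = 1 ∨ z = w₁ ∨ z = w₂ ∨ z = w₁ * w₂ := by
    intro z; rw [hW₀]; exact Iff.rfl
  have hW₀W : W₀ ≤ W := by
    intro z hz
    rcases (hW₀mem z).mp hz with rfl | rfl | rfl | rfl
    · exact W.one_mem
    · exact hw₁W
    · exact hw₂W
    · exact W.mul_mem hw₁W hw₂W
  -- `a⁻¹` on `W`
  have Finv : ∀ v ∈ W, a⁻¹ * v * a = v ∨ a⁻¹ * v * a = w₁ * v := by
    intro v hv
    have hv' : a⁻¹ * v * a ∈ W := by
      have := hWn.conj_mem v hv a⁻¹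
      simpa using this
    rcases F1 _ hv' with h | h
    · left
      have : a * (a⁻¹ * v * a) * a⁻¹ = v := by group
      rw [this] at h; exact h.symm
    · right
      have e : a * (a⁻¹ * v * a) * a⁻¹ = v := by group
      rw [e] at h
      calc a⁻¹ * v * a = w₁ * (w₁ * (a⁻¹ * v * a)) := by rw [← mul_assoc, hs1, one_mul]
        _ = w₁ * v := by rw [← h]
  have hcSt : ∀ v ∈ W, c * v * c⁻¹ * v⁻¹ ∈ W₀ := by
    intro v hv
    have hv' : a⁻¹ * v * a ∈ W := by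
      have := hWn.conj_mem v hv a⁻¹
      simpa using this
    have e : c * v * c⁻¹ = b * (a⁻¹ * v * a) * b⁻¹ := by rw [hc]; group
    rw [hW₀mem]
    rcases Finv v hv with h | h <;> rcases F1' _ hv' with h' | h'
    · left; rw [e, h', h]; group
    · right; right; left; rw [e, h', h]; group
    · right; left; rw [e, h', h]; group
    · right; right; right
      rw [e, h', h, ← hcomm]; group
  have hc_conj : ∀ v : Y, c * v * c⁻¹ = b * (a⁻¹ * v * a) * b⁻¹ := by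
    intro v; rw [hc]; group
  have hainv1 : a⁻¹ * w₁ * a = w₁ := by
    calc a⁻¹ * w₁ * a = a⁻¹ * (a * w₁ * a⁻¹) * a := by rw [ha1]
      _ = w₁ := by group
  have hW₀sq : ∀ t ∈ W₀, t * t = 1 := fun t ht => hWsq t (hW₀W ht)
  have hcent_of : (∀ w ∈ W₀, c ^ 2 * w * (c ^ 2)⁻¹ = w) → False := by
    intro h
    apply hc4
    rw [hP₀, Subgroup.mem_centralizer_iff]
    intro v hv
    have := pow_four_centralizes hW₀W hW₀sq c hcSt h v hv
    calc v * c ^ 4 = (c ^ 4 * v * (c ^ 4)⁻¹) * c ^ 4 := by rw [this]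
      _ = c ^ 4 * v := by group
  have hsq_of : ∀ (u₁ u₂ : Y), c * w₁ * c⁻¹ = u₁ → c * w₂ * c⁻¹ = u₂ → c * u₁ * c⁻¹ = w₁ →
      c * u₂ * c⁻¹ = w₂ → ∀ w ∈ W₀, c ^ 2 * w * (c ^ 2)⁻¹ = w := by
    intro u₁ u₂ e1 e2 e3 e4 w hw
    have k1 : c ^ 2 * w₁ * (c ^ 2)⁻¹ = w₁ := by
      calc c ^ 2 * w₁ * (c ^ 2)⁻¹ = c * (c * w₁ * c⁻¹) * c⁻¹ := by rw [pow_two]; group
        _ = w₁ := by rw [e1, e3]
    have k2 : c ^ 2 * w₂ * (c ^ 2)⁻¹ = w₂ := by
      calc c ^ 2 * w₂ * (c ^ 2)⁻¹ = c * (c * w₂ * c⁻¹) * c⁻¹ := by rw [pow_two]; group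
        _ = w₂ := by rw [e2, e4]
    rcases (hW₀mem w).mp hw with rfl | rfl | rfl | rfl
    · group
    · exact k1
    · exact k2
    · rw [conj_mul, k1, k2]
  -- case analysis
  rcases ha2' with ha2' | ha2'
  · -- `a` centralizes `W₀`
    exfalso
    have hainv2 : a⁻¹ * w₂ * a = w₂ := by
      calc a⁻¹ * w₂ * a = a⁻¹ * (a * w₂ * a⁻¹) * a := by rw [ha2']
        _ = w₂ := by group
    have e1 : c * w₁ * c⁻¹ = b * w₁ * b⁻¹ := by rw [hc_conj, hainv1]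
    have e2 : c * w₂ * c⁻¹ = w₂ := by rw [hc_conj, hainv2, hb2]
    rcases hb1 with hb1 | hb1
    · exact hcent_of (hsq_of w₁ w₂ (e1.trans hb1) e2 (e1.trans hb1) e2)
    · apply hcent_of
      apply hsq_of (w₁ * w₂) w₂ (e1.trans hb1) e2 _ e2
      rw [conj_mul, e1, hb1, e2, mul_assoc, hs2, mul_one]
  rcases hb1 with hb1 | hb1
  · -- `b` centralizes `W₀`
    exfalso
    have ha3 : a * (w₁ * w₂) * a⁻¹ = w₂ := by
      rw [conj_mul, ha1, ha2', ← mul_assoc, hs1, one_mul]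
    have hainv2 : a⁻¹ * w₂ * a = w₁ * w₂ := by
      calc a⁻¹ * w₂ * a = a⁻¹ * (a * (w₁ * w₂) * a⁻¹) * a := by rw [ha3]
        _ = w₁ * w₂ := by group
    have e1 : c * w₁ * c⁻¹ = w₁ := by rw [hc_conj, hainv1, hb1]
    have e2 : c * w₂ * c⁻¹ = w₁ * w₂ := by rw [hc_conj, hainv2, conj_mul, hb1, hb2]
    apply hcent_of
    apply hsq_of w₁ (w₁ * w₂) e1 e2 e1
    rw [conj_mul, e1, e2, ← mul_assoc, hs1, one_mul]
  -- the good case
  have ha3 : a * (w₁ * w₂) * a⁻¹ = w₂ := by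
    rw [conj_mul, ha1, ha2', ← mul_assoc, hs1, one_mul]
  have hainv2 : a⁻¹ * w₂ * a = w₁ * w₂ := by
    calc a⁻¹ * w₂ * a = a⁻¹ * (a * (w₁ * w₂) * a⁻¹) * a := by rw [ha3]
      _ = w₁ * w₂ := by group
  have e1 : c * w₁ * c⁻¹ = w₁ * w₂ := by rw [hc_conj, hainv1, hb1]
  have e2 : c * w₂ * c⁻¹ = w₁ := by
    rw [hc_conj, hainv2, conj_mul, hb1, hb2, mul_assoc, hs2, mul_one]
  have e3 : c * (w₁ * w₂) * c⁻¹ = w₂ := by
    rw [conj_mul, e1, e2, mul_assoc, hcomm, ← mul_assoc, hs1, one_mul]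
  have hne : w₁ ≠ w₂ := by
    intro e
    apply hw₂1
    rw [← e, hs1] at ha2'
    calc w₂ = a⁻¹ * (a * w₂ * a⁻¹) * a := by group
      _ = 1 := by rw [← e, ha2']; group
  obtain ⟨K, hK⟩ : ∃ K : Subgroup Y, K = Subgroup.normalizer (W₀ : Set Y) := ⟨_, rfl⟩
  have hfin : Finite (W₀ : Set Y) := Set.toFinite _
  have hmemK : ∀ g : Y, (∀ z ∈ W₀, g * z * g⁻¹ ∈ W₀) → g ∈ K := by
    intro g hg
    rw [hK]
    exact Subgroup.mem_normalizer_fintype (fun n hn => hg n hn)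
  have haK : a ∈ K := by
    apply hmemK
    intro z hz
    rw [hW₀mem] at hz ⊢
    rcases hz with rfl | rfl | rfl | rfl
    · left; group
    · right; left; exact ha1
    · right; right; right; exact ha2'
    · right; right; left; exact ha3
  have hcK : c ∈ K := by
    apply hmemK
    intro z hz
    rw [hW₀mem] at hz ⊢
    rcases hz with rfl | rfl | rfl | rfl
    · left; group
    · right; right; right; exact e1
    · right; left; exact e2
    · right; right; left; exact e3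
  have hW₀K : W₀ ≤ K := by rw [hK]; exact Subgroup.le_normalizer
  have hw₁K : w₁ ∈ K := hW₀K ((hW₀mem w₁).mpr (Or.inr (Or.inl rfl)))
  have hw₂K : w₂ ∈ K := hW₀K ((hW₀mem w₂).mpr (Or.inr (Or.inr (Or.inl rfl))))
  have hinvK : ∀ g ∈ K, ∀ z ∈ W₀, z ≠ 1 →
      g * z * g⁻¹ = w₁ ∨ g * z * g⁻¹ = w₂ ∨ g * z * g⁻¹ = w₁ * w₂ := by
    intro g hg z hz hz1
    rw [hK] at hg
    have h1 : g * z * g⁻¹ ∈ W₀ := (Subgroup.mem_normalizer_iff.mp hg z).mp hz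
    rcases (hW₀mem _).mp h1 with h | h | h | h
    · exfalso
      apply hz1
      calc z = g⁻¹ * (g * z * g⁻¹) * g := by group
        _ = 1 := by rw [h]; group
    · exact Or.inl h
    · exact Or.inr (Or.inl h)
    · exact Or.inr (Or.inr h)
  have hcfg : Config (⟨w₁, hw₁K⟩ : K) ⟨w₂, hw₂K⟩ ⟨c, hcK⟩⁻¹ ⟨a, haK⟩ := by
    refine ⟨?_, ?_, ?_, ?_, ?_, ?_, ?_, ?_, ?_, ?_, ?_, ?_⟩
    · intro e; exact hw₁1 (congrArg Subtype.val e)
    · intro e; exact hw₂1 (congrArg Subtype.val e)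
    · intro e; exact hne (congrArg Subtype.val e)
    · exact Subtype.ext hs1
    · exact Subtype.ext hs2
    · exact Subtype.ext hcomm
    · intro g
      rcases hinvK g g.2 w₁ ((hW₀mem w₁).mpr (Or.inr (Or.inl rfl))) hw₁1 with h | h | h
      · exact Or.inl (Subtype.ext h)
      · exact Or.inr (Or.inl (Subtype.ext h))
      · exact Or.inr (Or.inr (Subtype.ext h))
    · intro g
      rcases hinvK g g.2 w₂ ((hW₀mem w₂).mpr (Or.inr (Or.inr (Or.inl rfl)))) hw₂1 with h | h | h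
      · exact Or.inl (Subtype.ext h)
      · exact Or.inr (Or.inl (Subtype.ext h))
      · exact Or.inr (Or.inr (Subtype.ext h))
    · apply Subtype.ext
      show c⁻¹ * w₁ * c⁻¹⁻¹ = w₂
      calc c⁻¹ * w₁ * c⁻¹⁻¹ = c⁻¹ * (c * w₂ * c⁻¹) * c := by rw [e2]; group
        _ = w₂ := by group
    · apply Subtype.ext
      show c⁻¹ * w₂ * c⁻¹⁻¹ = w₁ * w₂
      calc c⁻¹ * w₂ * c⁻¹⁻¹ = c⁻¹ * (c * (w₁ * w₂) * c⁻¹) * c := by rw [e3]; group
        _ = w₁ * w₂ := by group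
    · exact Subtype.ext ha1
    · exact Subtype.ext ha2'
  exact Cfsg.Agent.Lib.Helper2.Inv.involves_of_subgroup K (involves_of_config hcfg)

end Cfsg.Agent.Lib.Helper8.ThLoc
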