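import Mathlib

set_option autoImplicit false

/-!
Central extensions: commutators and conjugates of lifts depend only on the images; biadditive
central-valued maps on a field that are invariant under suitable scalings are trivial.
-/

namespace Cfsg.Agent.Lib.Helper8.StLift

section cext

variable {E G : Type*} [Group E] [Group G] (Ψ : E →* G)

/-- elements with the same image differ by a central element -/
theorem exists_central_of_eq (hc : Ψ.ker ≤ Subgroup.center E) {e e' : E} (h : Ψ e = Ψ e') :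
    ∃ z ∈ Subgroup.center E, e' = e * z := by
  refine ⟨e⁻¹ * e', hc ?_, by group⟩
  rw [MonoidHom.mem_ker, map_mul, map_inv, h, inv_mul_cancel]

/-- conjugation by a lift depends only on the image -/
theorem conj_lift_indep (hc : Ψ.ker ≤ Subgroup.center E) {e e' : E} (h : Ψ e = Ψ e') (y : E) :
    e * y * e⁻¹ = e' * y * e'⁻¹ := by
  obtain ⟨z, hz, rfl⟩ := exists_central_of_eq Ψ hc h
  have hz' := Subgroup.mem_center_iff.1 hz
  have : (e * z)⁻¹ = z⁻¹ * e⁻¹ := mul_inv_rev e z
  rw [this]
  calc e * y * e⁻¹ = e * (y * z * z⁻¹) * e⁻¹ := by group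
    _ = e * (z * y * z⁻¹) * e⁻¹ := by rw [hz' y]
    _ = e * z * y * (z⁻¹ * e⁻¹) := by group

/-- the commutator of two lifts depends only on the images -/
theorem comm_lift_indep (hc : Ψ.ker ≤ Subgroup.center E) {a a' b b' : E} (ha : Ψ a = Ψ a')
    (hb : Ψ b = Ψ b') : a * b * a⁻¹ * b⁻¹ = a' * b' * a'⁻¹ * b'⁻¹ := by
  have h1 : a * b * a⁻¹ = a' * b * a'⁻¹ := conj_lift_indep Ψ hc ha b
  have h2 : b * a'⁻¹ * b⁻¹ = b' * a'⁻¹ * b'⁻¹ := conj_lift_indep Ψ hc hb a'⁻¹
  calc a * b * a⁻¹ * b⁻¹ = (a * b * a⁻¹) * b⁻¹ := by group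
    _ = (a' * b * a'⁻¹) * b⁻¹ := by rw [h1]
    _ = a' * (b * a'⁻¹ * b⁻¹) := by group
    _ = a' * (b' * a'⁻¹ * b'⁻¹) := by rw [h2]
    _ = a' * b' * a'⁻¹ * b'⁻¹ := by group

/-- an element of the kernel commutes with everything -/
theorem commute_of_ker (hc : Ψ.ker ≤ Subgroup.center E) {z : E} (hz : Ψ z = 1) (y : E) :
    z * y = y * z :=
  (Subgroup.mem_center_iff.1 (hc (MonoidHom.mem_ker.2 hz)) y).symm

/-- two lifts of the same element commute with the same elements -/
theorem commute_lift_indep (hc : Ψ.ker ≤ Subgroup.center E) {a a' b : E} (ha : Ψ a = Ψ a')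
    (h : a * b = b * a) : a' * b = b * a' := by
  obtain ⟨z, hz, rfl⟩ := exists_central_of_eq Ψ hc ha
  have hz' := Subgroup.mem_center_iff.1 hz
  calc a * z * b = a * (z * b) := by group
    _ = a * (b * z) := by rw [hz' b]
    _ = (a * b) * z := by group
    _ = (b * a) * z := by rw [h]
    _ = b * (a * z) := by group

end cext

section biadd

variable {K : Type*} [Field K] {A : Type*} [CommGroup A]

/-- a biadditive map invariant under `u ↦ μ u` in the second variable, `μ ≠ 1`, is trivial -/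
theorem biadd_trivial_of_right (f : K → K → A)
    (hr : ∀ t u u', f t (u + u') = f t u * f t u')
    (μ : K) (hμ : μ ≠ 1) (hinv : ∀ t u, f t (μ * u) = f t u) : ∀ t u, f t u = 1 := by
  have h0 : ∀ t, f t 0 = 1 := by
    intro t
    have := hr t 0 0
    rw [add_zero] at this
    exact (mul_eq_left.1 this.symm)
  have hneg : ∀ t u, f t (-u) = (f t u)⁻¹ := by
    intro t u
    rw [eq_inv_iff_mul_eq_one, ← hr, neg_add_cancel, h0]
  intro t u
  have hμ' : μ - 1 ≠ 0 := sub_ne_zero.2 hμ
  have key : f t ((μ - 1) * (u / (μ - 1))) = 1 := by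
    have : (μ - 1) * (u / (μ - 1)) = μ * (u / (μ - 1)) + -(u / (μ - 1)) := by ring
    rw [this, hr, hinv, hneg, mul_inv_cancel]
  rwa [mul_div_cancel₀ _ hμ'] at key

/-- a biadditive map invariant under all simultaneous scalings `(t, u) ↦ (λ t, λ u)` is trivial,
provided the field has an element `b ≠ 0, -1` with `b² + b + 1 ≠ 0` -/
theorem biadd_trivial_of_scal (f : K → K → A)
    (hl : ∀ t t' u, f (t + t') u = f t u * f t' u)
    (hr : ∀ t u u', f t (u + u') = f t u * f t u')
    (hinv : ∀ c : K, c ≠ 0 → ∀ t u, f (c * t) (c * u) = f t u)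
    (b : K) (hb0 : b ≠ 0) (hb1 : b + 1 ≠ 0) (hb2 : b ^ 2 + b + 1 ≠ 0) : ∀ t u, f t u = 1 := by
  -- f(t,u) f(t,bu) f(bt,u) f(bt,bu) = f(t,u)
  have h1 : ∀ t u, f t (b * u) * f (b * t) u * f (b * t) (b * u) = 1 := by
    intro t u
    have e := hinv (b + 1) hb1 t u
    have e2 : f ((b + 1) * t) ((b + 1) * u)
        = f t u * (f t (b * u) * f (b * t) u * f (b * t) (b * u)) := by
      have a1 : (b + 1) * t = t + b * t := by ring
      have a2 : (b + 1) * u = u + b * u := by ring
      rw [a1, a2, hl, hr, hr]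
      ac_rfl
    rw [e2] at e
    exact mul_eq_left.1 e
  have h2 : ∀ t u, f (b * t) u = f t (u / b) := by
    intro t u
    have := hinv b hb0 t (u / b)
    rwa [mul_div_cancel₀ _ hb0] at this
  have h3 : ∀ t u, f t (b * u) * f t (u / b) * f t u = 1 := by
    intro t u
    have := h1 t u
    rwa [h2 t u, hinv b hb0] at this
  have h4 : ∀ t u, f t ((b + 1 / b + 1) * u) = 1 := by
    intro t u
    have : (b + 1 / b + 1) * u = b * u + u / b + u := by field_simp
    rw [this, hr, hr]
    exact h3 t u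
  intro t u
  have hne : b + 1 / b + 1 ≠ 0 := by
    have : b + 1 / b + 1 = (b ^ 2 + b + 1) / b := by field_simp; ring
    rw [this]
    exact div_ne_zero hb2 hb0
  have := h4 t (u / (b + 1 / b + 1))
  rwa [mul_div_cancel₀ _ hne] at this

end biadd

end Cfsg.Agent.Lib.Helper8.StLift
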