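import Mathlib
import Cfsg.Agent.Lib.Helper8.StLiftA

set_option autoImplicit false

/-!
The biadditivity lemmas of `StLiftA` for maps into a group with central values.
-/

namespace Cfsg.Agent.Lib.Helper8.StLift

/-- the centre as a commutative group -/
@[reducible] def centerCommGroup (E : Type*) [Group E] : CommGroup (Subgroup.center E) :=
  { (inferInstance : Group (Subgroup.center E)) with
    mul_comm := fun a b => Subtype.ext (Subgroup.mem_center_iff.1 b.2 a.1) }

variable {K : Type*} [Field K] {E : Type*} [Group E]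

/-- a central-valued map, additive in the second variable and invariant under `u ↦ μ u`,
`μ ≠ 1`, is trivial -/
theorem center_biadd_right (f : K → K → E) (hcen : ∀ t u, f t u ∈ Subgroup.center E)
    (hr : ∀ t u u', f t (u + u') = f t u * f t u')
    (μ : K) (hμ : μ ≠ 1) (hinv : ∀ t u, f t (μ * u) = f t u) : ∀ t u, f t u = 1 := by
  letI := centerCommGroup E
  have := biadd_trivial_of_right (A := Subgroup.center E) (fun t u => ⟨f t u, hcen t u⟩)
    (fun t u u' => Subtype.ext (hr t u u')) μ hμ (fun t u => Subtype.ext (hinv t u))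
  intro t u
  exact congrArg Subtype.val (this t u)

/-- a central-valued biadditive map invariant under all simultaneous scalings is trivial -/
theorem center_biadd_scal (f : K → K → E) (hcen : ∀ t u, f t u ∈ Subgroup.center E)
    (hl : ∀ t t' u, f (t + t') u = f t u * f t' u)
    (hr : ∀ t u u', f t (u + u') = f t u * f t u')
    (hinv : ∀ c : K, c ≠ 0 → ∀ t u, f (c * t) (c * u) = f t u)
    (b : K) (hb0 : b ≠ 0) (hb1 : b + 1 ≠ 0) (hb2 : b ^ 2 + b + 1 ≠ 0) : ∀ t u, f t u = 1 := by
  letI := centerCommGroup E
  have := biadd_trivial_of_scal (A := Subgroup.center E) (fun t u => ⟨f t u, hcen t u⟩)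
    (fun t t' u => Subtype.ext (hl t t' u)) (fun t u u' => Subtype.ext (hr t u u'))
    (fun c hc t u => Subtype.ext (hinv c hc t u)) b hb0 hb1 hb2
  intro t u
  exact congrArg Subtype.val (this t u)

/-- a central-valued additive map invariant under `u ↦ μ u`, `μ ≠ 1`, is trivial -/
theorem center_add_right (g : K → E) (hcen : ∀ u, g u ∈ Subgroup.center E)
    (hr : ∀ u u', g (u + u') = g u * g u')
    (μ : K) (hμ : μ ≠ 1) (hinv : ∀ u, g (μ * u) = g u) : ∀ u, g u = 1 :=
  fun u => center_biadd_right (fun _ u => g u) (fun _ u => hcen u) (fun _ u u' => hr u u') μ hμ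
    (fun _ u => hinv u) 0 u

end Cfsg.Agent.Lib.Helper8.StLift
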