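import Mathlib
import Cfsg.Prelude.Def_ChevStructure
import Cfsg.Agent.Lib.Helper5.StPres.FromPres
import Cfsg.Agent.Lib.Helper5.ChevUOrd
import Cfsg.Agent.Lib.Helper9.InvolXA
import Cfsg.Agent.Lib.Helper8.StLiftA

set_option autoImplicit false

/-!
Central extensions of a Chevalley group (seven types): the setting, the chosen lifts, Steinberg's
canonical lifts `Y r t = [ĥ_r(a₀), x̂_r(t / (a₀² - 1))]`, and the facts of the group that are used.
-/

namespace Cfsg.Agent.Lib.Helper8.StLift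

open Cfsg Cfsg.Lie Cfsg.Agent.Lib.Helper5.ChevSym Cfsg.Agent.Lib.Helper5.ChevStruct
  Cfsg.Agent.Lib.Helper5.StPres Cfsg.Agent.Lib.Helper9.InvolX

/-- a central extension of the Chevalley group (given as a homomorphism to `GL` whose image contains
the group and whose kernel is central), together with a field element `a₀` with `a₀ ≠ 0`,
`a₀² ≠ 1` -/
structure Ctx (D : ChevalleyDatum) (hD : D ∈ Seven) (K : Type*) [Field K] (E : Type*) [Group E] where
  Ψ : E →* GL D.Idx K
  hc : Ψ.ker ≤ Subgroup.center E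
  hsurj : ∀ g ∈ D.group K, ∃ e, Ψ e = g
  a₀ : K
  ha0 : a₀ ≠ 0
  ha2 : a₀ ^ 2 ≠ 1

variable {D : ChevalleyDatum} {hD : D ∈ Seven} {K : Type*} [Field K] {E : Type*} [Group E]
  (C : Ctx D hD K E)

/-- `c₀ = a₀² - 1` -/
def Ctx.c₀ : K := C.a₀ ^ 2 - 1

theorem Ctx.c₀_ne : C.c₀ ≠ 0 := sub_ne_zero.2 C.ha2

/-- a chosen lift of `x_r(t)` -/
noncomputable def Ctx.xl (r : ℕ) (t : K) : E :=
  Classical.choose (C.hsurj (xGL D hD r t) (xGL_mem_group D hD r t))

theorem Ctx.Ψ_xl (r : ℕ) (t : K) : C.Ψ (C.xl r t) = xGL D hD r t :=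
  Classical.choose_spec (C.hsurj (xGL D hD r t) (xGL_mem_group D hD r t))

theorem hGL_mem_group (D : ChevalleyDatum) (hD : D ∈ Seven) (r : ℕ) (hr : r < D.nroots) (a : K)
    (ha : a ≠ 0) : hGL D hD r a ∈ D.group K :=
  diagonal_le_group D hD (hGL_mem_diagonal D hD r hr a ha)

/-- a chosen lift of `h_r(a)` (junk unless `r < nroots`, `a ≠ 0`) -/
noncomputable def Ctx.hl (r : ℕ) (a : K) : E := by
  classical
  exact if h : r < D.nroots ∧ a ≠ 0 then
    Classical.choose (C.hsurj (hGL D hD r a) (hGL_mem_group D hD r h.1 a h.2)) else 1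

theorem Ctx.Ψ_hl (r : ℕ) (hr : r < D.nroots) (a : K) (ha : a ≠ 0) :
    C.Ψ (C.hl r a) = hGL D hD r a := by
  unfold Ctx.hl
  rw [dif_pos ⟨hr, ha⟩]
  exact Classical.choose_spec (C.hsurj (hGL D hD r a) (hGL_mem_group D hD r hr a ha))

/-- Steinberg's canonical lift of `x_r(t)` -/
noncomputable def Ctx.Y (r : ℕ) (t : K) : E :=
  C.hl r C.a₀ * C.xl r (t / C.c₀) * (C.hl r C.a₀)⁻¹ * (C.xl r (t / C.c₀))⁻¹

/-! ### Facts of the group -/

theorem xGL_add (D : ChevalleyDatum) (hD : D ∈ Seven) (r : ℕ) (hr : r < D.nroots) (t u : K) :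
    xGL D hD r t * xGL D hD r u = xGL D hD r (t + u) := by
  have := (gGens D hD K).X_add r t u hr
  exact congrArg Subtype.val this

theorem xGL_zero (D : ChevalleyDatum) (hD : D ∈ Seven) (r : ℕ) (hr : r < D.nroots) :
    xGL D hD r (0 : K) = 1 := by
  have := (gGens D hD K).X_zero r hr
  exact congrArg Subtype.val this

theorem xGL_neg (D : ChevalleyDatum) (hD : D ∈ Seven) (r : ℕ) (hr : r < D.nroots) (t : K) :
    xGL D hD r (-t) = (xGL D hD r t)⁻¹ := by
  have := (gGens D hD K).X_neg r hr t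
  exact congrArg Subtype.val this

theorem xGL_commute (D : ChevalleyDatum) (hD : D ∈ Seven) (r : ℕ) (hr : r < D.nroots) (t u : K) :
    xGL D hD r t * xGL D hD r u = xGL D hD r u * xGL D hD r t := by
  rw [xGL_add D hD r hr, xGL_add D hD r hr, add_comm]

/-- (R2) in `GL` -/
theorem xGL_comm (D : ChevalleyDatum) (hD : D ∈ Seven) (r s : ℕ) (t u : K) (hr : r < D.nroots)
    (hs : s < D.nroots) (hsr : s ≠ r) (hsn : s ≠ D.neg r) :
    (xGL D hD s u)⁻¹ * (xGL D hD r t)⁻¹ * xGL D hD s u * xGL D hD r t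
      = wordGL D hD (D.commWord K r s t u) := by
  have := (gGens D hD K).X_comm r s t u hr hs hsr hsn
  have h2 := congrArg Subtype.val this
  have h3 : (((D.commWord K r s t u).map fun p => (gGens D hD K).X p.1 p.2).prod : ↥(D.group K)).val
      = wordGL D hD (D.commWord K r s t u) := subtype_word_xG D hD _
  rw [h3] at h2
  exact h2

/-- two elements of `H` commute -/
theorem diagonal_commute (D : ChevalleyDatum) (hD : D ∈ Seven) (g g' : GL D.Idx K)
    (hg : g ∈ D.diagonalSubgroup K) (hg' : g' ∈ D.diagonalSubgroup K) : g * g' = g' * g := by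
  obtain ⟨c, -, h1⟩ := exists_torusMat_of_mem D hD g hg
  obtain ⟨c', -, h2⟩ := exists_torusMat_of_mem D hD g' hg'
  apply Units.ext
  rw [Units.val_mul, Units.val_mul, h1, h2, torusMat_mul, torusMat_mul]
  congr 1
  funext i
  exact mul_comm _ _

end Cfsg.Agent.Lib.Helper8.StLift
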