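import Mathlib
import Cfsg.Agent.Lib.Helper8.StLiftB

set_option autoImplicit false

/-!
The hypotheses of the lifting theorem: combinatorial facts of the root datum, facts of the field,
and the commutation of lifts inside one root subgroup.
-/

namespace Cfsg.Agent.Lib.Helper8.StLift

open Cfsg Cfsg.Lie Cfsg.Agent.Lib.Helper5.ChevSym Cfsg.Agent.Lib.Helper5.ChevStruct
  Cfsg.Agent.Lib.Helper5.StPres Cfsg.Agent.Lib.Helper9.InvolX

/-- combinatorial facts of the root datum used in the lifting (`pairZ D r s = ⟨s, r^∨⟩`) -/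
structure Comb (D : ChevalleyDatum) : Prop where
  self : ∀ r < D.nroots, pairZ D r r = 2
  prod : ∀ r q, r < D.nroots → q < D.nroots → q ≠ r → q ≠ D.neg r →
    pairZ D q r = 0 ∨ pairZ D q r * pairZ D r q = 1 ∨ pairZ D q r * pairZ D r q = 2 ∨
      pairZ D q r * pairZ D r q = 3
  ord : ∀ k s, D.IsPosRoot k → D.IsPosRoot s → k < s →
    ∀ c ∈ D.commTerms k s, s < c.1 ∧ D.IsPosRoot c.1
  pairPos : ∀ r s, r < D.nroots → s < D.nroots → s ≠ r → s ≠ D.neg r →
    ∃ w, Wd D w ∧ D.IsPosRoot (wAct D w r) ∧ D.IsPosRoot (wAct D w s) ∧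
      ∀ c ∈ D.commTerms r s, D.IsPosRoot (wAct D w c.1)

/-- every root has pairing `±1` with some coroot (fails for the long roots of `B₂`) -/
def Good (D : ChevalleyDatum) : Prop :=
  ∀ r < D.nroots, ∃ γ < D.nroots, pairZ D γ r = 1 ∨ pairZ D γ r = -1

/-- the facts of the field used in the lifting; they hold in every field with more than four
elements -/
structure FieldOK (K : Type*) [Field K] : Prop where
  pw : ∀ n : ℕ, 1 ≤ n → n ≤ 3 → ∃ a : K, a ≠ 0 ∧ a ^ n ≠ 1
  b : ∃ b : K, b ≠ 0 ∧ b + 1 ≠ 0 ∧ b ^ 2 + b + 1 ≠ 0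

variable {D : ChevalleyDatum} {hD : D ∈ Seven} {K : Type*} [Field K] {E : Type*} [Group E]
  (C : Ctx D hD K E)

/-- (LC) any two lifts of elements of one root subgroup commute -/
def Ctx.LC : Prop :=
  ∀ r < D.nroots, ∀ (e e' : E) (t u : K), C.Ψ e = xGL D hD r t → C.Ψ e' = xGL D hD r u →
    e * e' = e' * e

end Cfsg.Agent.Lib.Helper8.StLift
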