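import Mathlib
import Cfsg.Agent.Lib.Helper8.StLiftC
import Cfsg.Agent.Lib.Helper8.StLiftA2

set_option autoImplicit false

/-!
Steinberg's canonical lifts `Y r t`: they lift `x_r(t)`, are additive, do not depend on the torus
element used, and are equivariant under `H` and `N`.
-/

namespace Cfsg.Agent.Lib.Helper8.StLift

open Cfsg Cfsg.Lie Cfsg.Agent.Lib.Helper5.ChevSym Cfsg.Agent.Lib.Helper5.ChevStruct
  Cfsg.Agent.Lib.Helper5.StPres Cfsg.Agent.Lib.Helper9.InvolX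

variable {D : ChevalleyDatum} {hD : D ∈ Seven} {K : Type*} [Field K] {E : Type*} [Group E]
  (C : Ctx D hD K E)

theorem Ctx.central_of_Ψ_one {z : E} (hz : C.Ψ z = 1) : z ∈ Subgroup.center E :=
  C.hc (MonoidHom.mem_ker.2 hz)

/-- the image of a commutator of a lift of `g` and a lift of `x_r(v)` when `g` scales `x_r` -/
theorem Ctx.Ψ_comm (r : ℕ) (hr : r < D.nroots) (eh ex : E) (lam v : K)
    (hex : C.Ψ ex = xGL D hD r v)
    (hact : C.Ψ eh * xGL D hD r v * (C.Ψ eh)⁻¹ = xGL D hD r (lam * v)) :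
    C.Ψ (eh * ex * eh⁻¹ * ex⁻¹) = xGL D hD r ((lam - 1) * v) := by
  rw [map_mul, map_mul, map_mul, map_inv, map_inv, hex, hact, ← xGL_neg D hD r hr,
    xGL_add D hD r hr]
  congr 1
  ring

theorem Ctx.Ψ_Y (hself : ∀ r < D.nroots, pairZ D r r = 2) (r : ℕ) (hr : r < D.nroots) (t : K) :
    C.Ψ (C.Y r t) = xGL D hD r t := by
  unfold Ctx.Y
  have hact : C.Ψ (C.hl r C.a₀) * xGL D hD r (t / C.c₀) * (C.Ψ (C.hl r C.a₀))⁻¹
      = xGL D hD r (C.a₀ ^ 2 * (t / C.c₀)) := by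
    rw [C.Ψ_hl r hr C.a₀ C.ha0, hGL_conj_x_gen D hD r hr C.a₀ C.ha0, hself r hr, zpow_two, pow_two]
  rw [C.Ψ_comm r hr _ _ (C.a₀ ^ 2) (t / C.c₀) (C.Ψ_xl r _) hact]
  congr 1
  have := C.c₀_ne
  unfold Ctx.c₀ at this ⊢
  field_simp

theorem Ctx.Y_add (hLC : C.LC) (hself : ∀ r < D.nroots, pairZ D r r = 2) (r : ℕ)
    (hr : r < D.nroots) (t u : K) : C.Y r t * C.Y r u = C.Y r (t + u) := by
  have h1 : C.Y r (t + u)
      = C.hl r C.a₀ * (C.xl r (t / C.c₀) * C.xl r (u / C.c₀)) * (C.hl r C.a₀)⁻¹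
        * (C.xl r (t / C.c₀) * C.xl r (u / C.c₀))⁻¹ := by
    unfold Ctx.Y
    apply comm_lift_indep C.Ψ C.hc rfl
    rw [map_mul, C.Ψ_xl, C.Ψ_xl, C.Ψ_xl, xGL_add D hD r hr, add_div]
  have h2 : C.xl r (t / C.c₀) * C.Y r u = C.Y r u * C.xl r (t / C.c₀) :=
    hLC r hr _ _ _ _ (C.Ψ_xl r _) (C.Ψ_Y hself r hr u)
  rw [h1]
  have h3 : C.hl r C.a₀ * (C.xl r (t / C.c₀) * C.xl r (u / C.c₀)) * (C.hl r C.a₀)⁻¹
        * (C.xl r (t / C.c₀) * C.xl r (u / C.c₀))⁻¹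
      = C.Y r t * (C.xl r (t / C.c₀) * C.Y r u * (C.xl r (t / C.c₀))⁻¹) := by
    unfold Ctx.Y
    group
  rw [h3, h2]
  group

theorem Ctx.Y_zero (hLC : C.LC) (hself : ∀ r < D.nroots, pairZ D r r = 2) (r : ℕ)
    (hr : r < D.nroots) : C.Y r 0 = 1 := by
  have := C.Y_add hLC hself r hr 0 0
  rw [add_zero] at this
  exact mul_eq_left.1 this

theorem Ctx.Y_neg (hLC : C.LC) (hself : ∀ r < D.nroots, pairZ D r r = 2) (r : ℕ)
    (hr : r < D.nroots) (t : K) : C.Y r (-t) = (C.Y r t)⁻¹ := by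
  rw [eq_inv_iff_mul_eq_one, C.Y_add hLC hself r hr, neg_add_cancel, C.Y_zero hLC hself r hr]

/-- independence of the torus element: any `eh` whose image commutes with `h_r(a₀)` and scales
`x_r` by `lam ≠ 1` gives the canonical lift -/
theorem Ctx.comm_eq_Y (hLC : C.LC) (hself : ∀ r < D.nroots, pairZ D r r = 2) (r : ℕ)
    (hr : r < D.nroots) (eh : E) (lam : K) (hlam : lam ≠ 1)
    (hcomm : C.Ψ eh * hGL D hD r C.a₀ = hGL D hD r C.a₀ * C.Ψ eh)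
    (hact : ∀ v : K, C.Ψ eh * xGL D hD r v * (C.Ψ eh)⁻¹ = xGL D hD r (lam * v))
    (v : K) (ex : E) (hex : C.Ψ ex = xGL D hD r v) :
    eh * ex * eh⁻¹ * ex⁻¹ = C.Y r ((lam - 1) * v) := by
  classical
  -- A v = [eh, xl v], B v = Y ((lam - 1) v)
  set A : K → E := fun v => eh * C.xl r v * eh⁻¹ * (C.xl r v)⁻¹ with hA
  set B : K → E := fun v => C.Y r ((lam - 1) * v) with hB
  have hΨA : ∀ v, C.Ψ (A v) = xGL D hD r ((lam - 1) * v) := fun v =>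
    C.Ψ_comm r hr eh _ lam v (C.Ψ_xl r v) (hact v)
  have hΨB : ∀ v, C.Ψ (B v) = xGL D hD r ((lam - 1) * v) := fun v => C.Ψ_Y hself r hr _
  have hAA : ∀ v v', A (v + v') = A v * A v' := by
    intro v v'
    have h1 : A (v + v') = eh * (C.xl r v * C.xl r v') * eh⁻¹ * (C.xl r v * C.xl r v')⁻¹ := by
      apply comm_lift_indep C.Ψ C.hc rfl
      rw [map_mul, C.Ψ_xl, C.Ψ_xl, C.Ψ_xl, xGL_add D hD r hr]
    have h2 : C.xl r v * A v' = A v' * C.xl r v := hLC r hr _ _ _ _ (C.Ψ_xl r v) (hΨA v')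
    rw [h1]
    have h3 : eh * (C.xl r v * C.xl r v') * eh⁻¹ * (C.xl r v * C.xl r v')⁻¹
        = A v * (C.xl r v * A v' * (C.xl r v)⁻¹) := by
      simp only [hA]
      group
    rw [h3, h2]
    group
  have hBB : ∀ v v', B (v + v') = B v * B v' := by
    intro v v'
    simp only [hB]
    rw [C.Y_add hLC hself r hr, mul_add]
  have hAB : ∀ v v', A v * B v' = B v' * A v := fun v v' =>
    hLC r hr _ _ _ _ (hΨA v) (hΨB v')
  have hBBc : ∀ v v', B v * B v' = B v' * B v := fun v v' =>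
    hLC r hr _ _ _ _ (hΨB v) (hΨB v')
  have hzc : ∀ v, A v * (B v)⁻¹ ∈ Subgroup.center E := by
    intro v
    apply C.central_of_Ψ_one
    rw [map_mul, map_inv, hΨA, hΨB, mul_inv_cancel]
  have hzadd : ∀ v v', A (v + v') * (B (v + v'))⁻¹ = A v * (B v)⁻¹ * (A v' * (B v')⁻¹) := by
    intro v v'
    rw [hAA, hBB, mul_inv_rev]
    have e1 : A v' * (B v')⁻¹ * (B v)⁻¹ = (B v)⁻¹ * (A v' * (B v')⁻¹) := by
      have c1 : A v' * (B v)⁻¹ = (B v)⁻¹ * A v' := by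
        have := hAB v' v
        calc A v' * (B v)⁻¹ = (B v)⁻¹ * (B v * A v') * (B v)⁻¹ := by group
          _ = (B v)⁻¹ * (A v' * B v) * (B v)⁻¹ := by rw [this]
          _ = (B v)⁻¹ * A v' := by group
      have c2 : (B v')⁻¹ * (B v)⁻¹ = (B v)⁻¹ * (B v')⁻¹ := by
        rw [← mul_inv_rev, ← mul_inv_rev, hBBc]
      calc A v' * (B v')⁻¹ * (B v)⁻¹ = A v' * ((B v')⁻¹ * (B v)⁻¹) := by group
        _ = A v' * ((B v)⁻¹ * (B v')⁻¹) := by rw [c2]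
        _ = (A v' * (B v)⁻¹) * (B v')⁻¹ := by group
        _ = (B v)⁻¹ * A v' * (B v')⁻¹ := by rw [c1]
        _ = (B v)⁻¹ * (A v' * (B v')⁻¹) := by group
    calc A v * A v' * ((B v')⁻¹ * (B v)⁻¹) = A v * (A v' * (B v')⁻¹ * (B v)⁻¹) := by group
      _ = A v * ((B v)⁻¹ * (A v' * (B v')⁻¹)) := by rw [e1]
      _ = A v * (B v)⁻¹ * (A v' * (B v')⁻¹) := by group
  -- invariance under conjugation by the lift of `h_r(a₀)`
  set e₀ := C.hl r C.a₀ with he₀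
  have hΨe₀ : C.Ψ e₀ = hGL D hD r C.a₀ := C.Ψ_hl r hr C.a₀ C.ha0
  have hsq : ∀ w : K, hGL D hD r C.a₀ * xGL D hD r w * (hGL D hD r C.a₀)⁻¹
      = xGL D hD r (C.a₀ ^ 2 * w) := by
    intro w
    rw [hGL_conj_x_gen D hD r hr C.a₀ C.ha0, hself r hr, zpow_two, pow_two]
  have hconjA : ∀ v, e₀ * A v * e₀⁻¹ = A (C.a₀ ^ 2 * v) := by
    intro v
    have h1 : e₀ * A v * e₀⁻¹
        = (e₀ * eh * e₀⁻¹) * (e₀ * C.xl r v * e₀⁻¹) * (e₀ * eh * e₀⁻¹)⁻¹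
          * (e₀ * C.xl r v * e₀⁻¹)⁻¹ := by
      simp only [hA]
      group
    rw [h1]
    apply comm_lift_indep C.Ψ C.hc
    · rw [map_mul, map_mul, map_inv, hΨe₀, ← hcomm]
      group
    · rw [map_mul, map_mul, map_inv, hΨe₀, C.Ψ_xl, hsq, C.Ψ_xl]
  have hconjY : ∀ w, e₀ * C.Y r w * e₀⁻¹ = C.Y r (C.a₀ ^ 2 * w) := by
    intro w
    have h1 : e₀ * C.Y r w * e₀⁻¹
        = e₀ * (e₀ * C.xl r (w / C.c₀) * e₀⁻¹) * e₀⁻¹ * (e₀ * C.xl r (w / C.c₀) * e₀⁻¹)⁻¹ := by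
      unfold Ctx.Y
      rw [← he₀]
      group
    rw [h1]
    unfold Ctx.Y
    rw [← he₀]
    apply comm_lift_indep C.Ψ C.hc rfl
    rw [map_mul, map_mul, map_inv, hΨe₀, C.Ψ_xl, hsq, C.Ψ_xl, mul_div_assoc]
  have hzinv : ∀ v, A (C.a₀ ^ 2 * v) * (B (C.a₀ ^ 2 * v))⁻¹ = A v * (B v)⁻¹ := by
    intro v
    have hBv : B (C.a₀ ^ 2 * v) = e₀ * B v * e₀⁻¹ := by
      simp only [hB]
      rw [hconjY]
      congr 1
      ring
    rw [← hconjA, hBv]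
    have hcz := Subgroup.mem_center_iff.1 (hzc v) e₀
    calc e₀ * A v * e₀⁻¹ * (e₀ * B v * e₀⁻¹)⁻¹ = e₀ * (A v * (B v)⁻¹) * e₀⁻¹ := by group
      _ = (A v * (B v)⁻¹) * e₀ * e₀⁻¹ := by rw [hcz]
      _ = A v * (B v)⁻¹ := by group
  have hz1 : ∀ v, A v * (B v)⁻¹ = 1 :=
    center_add_right (fun v => A v * (B v)⁻¹) hzc hzadd (C.a₀ ^ 2) C.ha2 hzinv
  have hAB1 : A v = B v := mul_inv_eq_one.1 (hz1 v)
  have : eh * ex * eh⁻¹ * ex⁻¹ = A v := by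
    simp only [hA]
    apply comm_lift_indep C.Ψ C.hc rfl
    rw [hex, C.Ψ_xl]
  rw [this, hAB1]

/-- equivariance of the canonical lifts -/
theorem Ctx.conj_Y (hLC : C.LC) (hself : ∀ r < D.nroots, pairZ D r r = 2) (r r' : ℕ)
    (hr : r < D.nroots) (hr' : r' < D.nroots) (e : E) (ε : K) (hε : ε ≠ 0)
    (hcomm : (C.Ψ e * hGL D hD r C.a₀ * (C.Ψ e)⁻¹) * hGL D hD r' C.a₀
      = hGL D hD r' C.a₀ * (C.Ψ e * hGL D hD r C.a₀ * (C.Ψ e)⁻¹))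
    (hact : ∀ v : K, C.Ψ e * xGL D hD r v * (C.Ψ e)⁻¹ = xGL D hD r' (ε * v)) (t : K) :
    e * C.Y r t * e⁻¹ = C.Y r' (ε * t) := by
  set e₀ := C.hl r C.a₀ with he₀
  have hΨe₀ : C.Ψ e₀ = hGL D hD r C.a₀ := C.Ψ_hl r hr C.a₀ C.ha0
  have h1 : e * C.Y r t * e⁻¹
      = (e * e₀ * e⁻¹) * (e * C.xl r (t / C.c₀) * e⁻¹) * (e * e₀ * e⁻¹)⁻¹
        * (e * C.xl r (t / C.c₀) * e⁻¹)⁻¹ := by
    unfold Ctx.Y
    rw [← he₀]
    group
  have hΨeh : C.Ψ (e * e₀ * e⁻¹) = C.Ψ e * hGL D hD r C.a₀ * (C.Ψ e)⁻¹ := by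
    rw [map_mul, map_mul, map_inv, hΨe₀]
  have hback : ∀ v : K, (C.Ψ e)⁻¹ * xGL D hD r' v * C.Ψ e = xGL D hD r (v / ε) := by
    intro v
    have := hact (v / ε)
    rw [mul_div_cancel₀ _ hε] at this
    rw [← this]
    group
  have hsq : ∀ w : K, hGL D hD r C.a₀ * xGL D hD r w * (hGL D hD r C.a₀)⁻¹
      = xGL D hD r (C.a₀ ^ 2 * w) := by
    intro w
    rw [hGL_conj_x_gen D hD r hr C.a₀ C.ha0, hself r hr, zpow_two, pow_two]
  rw [h1, C.comm_eq_Y hLC hself r' hr' (e * e₀ * e⁻¹) (C.a₀ ^ 2) C.ha2 (by rw [hΨeh]; exact hcomm)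
    (by
      intro v
      rw [hΨeh]
      have : C.Ψ e * hGL D hD r C.a₀ * (C.Ψ e)⁻¹ * xGL D hD r' v
            * (C.Ψ e * hGL D hD r C.a₀ * (C.Ψ e)⁻¹)⁻¹
          = C.Ψ e * (hGL D hD r C.a₀ * ((C.Ψ e)⁻¹ * xGL D hD r' v * C.Ψ e)
            * (hGL D hD r C.a₀)⁻¹) * (C.Ψ e)⁻¹ := by group
      rw [this, hback, hsq, hact]
      congr 1
      field_simp)
    (ε * (t / C.c₀)) (e * C.xl r (t / C.c₀) * e⁻¹)
    (by rw [map_mul, map_mul, map_inv, C.Ψ_xl, hact])]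
  congr 1
  have := C.c₀_ne
  unfold Ctx.c₀ at this ⊢
  field_simp

theorem Ctx.conj_Y_hGL (hLC : C.LC) (hself : ∀ r < D.nroots, pairZ D r r = 2) (r γ : ℕ)
    (hr : r < D.nroots) (hγ : γ < D.nroots) (a : K) (ha : a ≠ 0) (e : E)
    (he : C.Ψ e = hGL D hD γ a) (t : K) :
    e * C.Y r t * e⁻¹ = C.Y r (a ^ (pairZ D γ r) * t) := by
  apply C.conj_Y hLC hself r r hr hr e _ (zpow_ne_zero _ ha)
  · rw [he]
    apply diagonal_commute D hD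
    · exact mul_mem (mul_mem (hGL_mem_diagonal D hD γ hγ a ha)
        (hGL_mem_diagonal D hD r hr C.a₀ C.ha0)) (inv_mem (hGL_mem_diagonal D hD γ hγ a ha))
    · exact hGL_mem_diagonal D hD r hr C.a₀ C.ha0
  · intro v
    rw [he, hGL_conj_x_gen D hD γ hγ a ha]

theorem Ctx.conj_Y_wGL (hLC : C.LC) (hself : ∀ r < D.nroots, pairZ D r r = 2) (r : ℕ)
    (hr : r < D.nroots) (w : List ℕ) (hw : Wd D w) (e : E) (he : C.Ψ e = wGL D hD w) (t : K) :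
    e * C.Y r t * e⁻¹ = C.Y (wAct D w r) (((wEps D w r : ℤ) : K) * t) := by
  have hr' := wAct_lt D hD w hw r hr
  apply C.conj_Y hLC hself r _ hr hr' e _ (wEps_cast_ne_zero D hD w hw r hr)
  · rw [he]
    apply diagonal_commute D hD
    · exact (conj_monomial_diag_mem D hD _ (wGL_mem D hD w hw) _
        (hGL_mem_diagonal D hD r hr C.a₀ C.ha0)).1
    · exact hGL_mem_diagonal D hD _ hr' C.a₀ C.ha0
  · intro v
    rw [he, wGL_conj_eps D hD w hw r hr]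

end Cfsg.Agent.Lib.Helper8.StLift
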