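import Mathlib
import Cfsg.Agent.Lib.Helper8.StLiftD

set_option autoImplicit false

/-!
`U_{≥k} = X_k ⋉ U_{>k}`: uniqueness of the decomposition and extension of a section.
-/

namespace Cfsg.Agent.Lib.Helper8.StLift

open Cfsg Cfsg.Lie Cfsg.Agent.Lib.Helper5.ChevSym Cfsg.Agent.Lib.Helper5.ChevStruct
  Cfsg.Agent.Lib.Helper5.StPres Cfsg.Agent.Lib.Helper9.InvolX

variable {K : Type*} [Field K] {E : Type*} [Group E]

/-- `x_k(c) ∈ U_{>k}` only for `c = 0` -/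
theorem eq_zero_of_xGL_mem_upperSub (D : ChevalleyDatum) (hD : D ∈ Seven) (k : ℕ)
    (hp : D.IsPosRoot k) (c : K) (hu : xGL D hD k c ∈ upperSub D K (k + 1)) : c = 0 := by
  have hnk : D.neg k < D.nroots := (checkCoPrim_spec D (chkCoPrim_all D hD) k hp.1).2.1
  have hnek : D.neg k ≠ k := (checkCoPrim_spec D (chkCoPrim_all D hD) k hp.1).2.2.1
  obtain ⟨i, hi, hci⟩ := exists_coroot_ne_zero (F := K) D hD k hp.1
  have hz := upperSub_entry D hD k hp _ hu ⟨i, hi⟩ ⟨D.neg k, hnk⟩ rfl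
  rw [xGL_val] at hz
  unfold ChevalleyDatum.x at hz
  rw [dif_pos hp.1, xMat_inl_neg D ⟨k, hp.1⟩ ⟨D.neg k, hnk⟩ rfl
    (fun e => hnek (congrArg Fin.val e))] at hz
  rcases mul_eq_zero.1 hz with h1 | h1
  · exact absurd h1 hci
  · exact h1

/-- uniqueness of `g = x_k(t) u`, `u ∈ U_{>k}` -/
theorem upperSub_decomp_unique (D : ChevalleyDatum) (hD : D ∈ Seven) (k : ℕ) (hk : D.IsPosRoot k)
    (t t' : K) (u u' : GL D.Idx K) (hu : u ∈ upperSub D K (k + 1)) (hu' : u' ∈ upperSub D K (k + 1))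
    (h : xGL D hD k t * u = xGL D hD k t' * u') : t = t' ∧ u = u' := by
  have e2 : xGL D hD k (t - t') = u' * u⁻¹ := by
    have e3 : xGL D hD k (t - t') = (xGL D hD k t')⁻¹ * xGL D hD k t := by
      rw [eq_inv_mul_iff_mul_eq, xGL_add D hD k hk.1]
      congr 1
      ring
    rw [e3, eq_mul_inv_iff_mul_eq, mul_assoc, h, ← mul_assoc, inv_mul_cancel, one_mul]
  have h0 := eq_zero_of_xGL_mem_upperSub D hD k hk (t - t')
    (by rw [e2]; exact mul_mem hu' (inv_mem hu))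
  have ht : t = t' := sub_eq_zero.1 h0
  refine ⟨ht, ?_⟩
  rw [ht] at h
  exact mul_left_cancel h

variable {D : ChevalleyDatum} {hD : D ∈ Seven}

/-- extension of a section from `U_{>k}` to `U_{≥k}` -/
theorem extend_section (Ψ : E →* GL D.Idx K) (k : ℕ) (hk : D.IsPosRoot k)
    (y : K → E) (hyadd : ∀ t u, y t * y u = y (t + u)) (hyΨ : ∀ t, Ψ (y t) = xGL D hD k t)
    (s' : ↥(upperSub D K (k + 1)) →* E) (hΨ' : ∀ u, Ψ (s' u) = u.1)
    (hcompat : ∀ (t : K) (u : ↥(upperSub D K (k + 1)))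
      (hmem : xGL D hD k t * u.1 * (xGL D hD k t)⁻¹ ∈ upperSub D K (k + 1)),
      y t * s' u * (y t)⁻¹ = s' ⟨xGL D hD k t * u.1 * (xGL D hD k t)⁻¹, hmem⟩) :
    ∃ s : ↥(upperSub D K k) →* E, (∀ u, Ψ (s u) = u.1) ∧
      (∀ (t : K) (hmem : xGL D hD k t ∈ upperSub D K k), s ⟨xGL D hD k t, hmem⟩ = y t) ∧
      (∀ (u : GL D.Idx K) (hu : u ∈ upperSub D K (k + 1)) (hu' : u ∈ upperSub D K k),
        s ⟨u, hu'⟩ = s' ⟨u, hu⟩) := by
  classical
  have hnorm : ∀ (t : K) (u : GL D.Idx K), u ∈ upperSub D K (k + 1) →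
      xGL D hD k t * u * (xGL D hD k t)⁻¹ ∈ upperSub D K (k + 1) := by
    intro t u hu
    have := rootSubgroup_le_normalizer_upperSub (F := K) D hD k hk
      (xGL_mem_rootSubgroup D hD k t)
    exact (Subgroup.mem_normalizer_iff.1 this u).1 hu
  have hex : ∀ g : ↥(upperSub D K k), ∃ p : K × ↥(upperSub D K (k + 1)),
      g.1 = xGL D hD k p.1 * p.2.1 := by
    intro g
    obtain ⟨t, u, hu, h⟩ := upperSub_decomp D hD k hk g.1 g.2
    exact ⟨(t, ⟨u, hu⟩), h⟩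
  choose dec hdec using hex
  have huniq : ∀ (g : ↥(upperSub D K k)) (t : K) (u : ↥(upperSub D K (k + 1))),
      g.1 = xGL D hD k t * u.1 → dec g = (t, u) := by
    intro g t u h
    have h2 := hdec g
    rw [h] at h2
    obtain ⟨e1, e2⟩ := upperSub_decomp_unique D hD k hk _ _ _ _ u.2 (dec g).2.2 h2
    exact Prod.ext e1.symm (Subtype.ext e2.symm)
  have y0 : y 0 = 1 := by
    have := hyadd 0 0
    rw [add_zero] at this
    exact mul_eq_left.1 this
  have yneg : ∀ t, y (-t) = (y t)⁻¹ := by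
    intro t
    rw [eq_inv_iff_mul_eq_one, hyadd, neg_add_cancel, y0]
  have xneg : ∀ t : K, xGL D hD k (-t) = (xGL D hD k t)⁻¹ := fun t => xGL_neg D hD k hk.1 t
  let sfun : ↥(upperSub D K k) → E := fun g => y (dec g).1 * s' (dec g).2
  have hmul : ∀ g g' : ↥(upperSub D K k), sfun (g * g') = sfun g * sfun g' := by
    intro g g'
    rcases hp : dec g with ⟨t, u⟩
    rcases hp' : dec g' with ⟨t', u'⟩
    have h1 := hdec g
    have h2 := hdec g'
    rw [hp] at h1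
    rw [hp'] at h2
    simp only at h1 h2
    have hm : xGL D hD k (-t') * u.1 * (xGL D hD k (-t'))⁻¹ ∈ upperSub D K (k + 1) :=
      hnorm (-t') u.1 u.2
    have h3 : (g * g').1 = xGL D hD k (t + t')
        * ((⟨xGL D hD k (-t') * u.1 * (xGL D hD k (-t'))⁻¹, hm⟩ : ↥(upperSub D K (k + 1)))
            * u').1 := by
      have hc : ((⟨xGL D hD k (-t') * u.1 * (xGL D hD k (-t'))⁻¹, hm⟩ :
          ↥(upperSub D K (k + 1))) * u').1
          = xGL D hD k (-t') * u.1 * (xGL D hD k (-t'))⁻¹ * u'.1 := rfl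
      rw [hc, Subgroup.coe_mul, h1, h2, ← xGL_add D hD k hk.1, xneg]
      group
    have h4 := huniq (g * g') _ _ h3
    show y (dec (g * g')).1 * s' (dec (g * g')).2 = y (dec g).1 * s' (dec g).2
      * (y (dec g').1 * s' (dec g').2)
    rw [h4, hp, hp']
    simp only
    rw [map_mul, ← hcompat (-t') u hm, yneg, ← hyadd]
    group
  refine ⟨MonoidHom.mk' sfun hmul, ?_, ?_, ?_⟩
  · intro g
    show Ψ (y (dec g).1 * s' (dec g).2) = g.1
    rw [map_mul, hyΨ, hΨ', ← hdec g]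
  · intro t hmem
    show y (dec ⟨xGL D hD k t, hmem⟩).1 * s' (dec ⟨xGL D hD k t, hmem⟩).2 = y t
    have := huniq ⟨xGL D hD k t, hmem⟩ t 1 (by simp)
    rw [this]
    simp
  · intro u hu hu'
    show y (dec ⟨u, hu'⟩).1 * s' (dec ⟨u, hu'⟩).2 = s' ⟨u, hu⟩
    have := huniq ⟨u, hu'⟩ 0 ⟨u, hu⟩ (by rw [xGL_zero D hD k hk.1]; simp)
    rw [this]
    simp [y0]

end Cfsg.Agent.Lib.Helper8.StLift
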