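import Mathlib
import Cfsg.Agent.Lib.Helper8.StLiftE
import Cfsg.Agent.Lib.Helper5.ChevLevi

set_option autoImplicit false

/-!
The section on `U`: compatibility of the canonical lift `Y k t` with a section on `U_{>k}` (torus
argument), and the descending induction.
-/

namespace Cfsg.Agent.Lib.Helper8.StLift

open Cfsg Cfsg.Lie Cfsg.Agent.Lib.Helper5.ChevSym Cfsg.Agent.Lib.Helper5.ChevStruct
  Cfsg.Agent.Lib.Helper5.StPres Cfsg.Agent.Lib.Helper9.InvolX

variable {D : ChevalleyDatum} {hD : D ∈ Seven} {K : Type*} [Field K] {E : Type*} [Group E]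

/-- two homomorphisms on `U_{≥m}` that agree on the root elements are equal -/
theorem hom_ext_upperSub (D : ChevalleyDatum) (hD : D ∈ Seven) (m : ℕ)
    (φ ψ : ↥(upperSub D K m) →* E)
    (h : ∀ (q : ℕ) (_ : D.IsPosRoot q) (_ : m ≤ q) (v : K)
      (hmem : xGL D hD q v ∈ upperSub D K m),
      φ ⟨xGL D hD q v, hmem⟩ = ψ ⟨xGL D hD q v, hmem⟩) : φ = ψ := by
  have key : ∀ (g : GL D.Idx K) (hg : g ∈ upperSub D K m), φ ⟨g, hg⟩ = ψ ⟨g, hg⟩ := by
    intro g hg
    have hg' : g ∈ Subgroup.closure {g : GL D.Idx K | ∃ (s : ℕ) (t : K),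
        s ∈ {s | m ≤ s ∧ D.IsPosRoot s} ∧ (g : Matrix D.Idx D.Idx K) = D.x K s t} := hg
    refine Subgroup.closure_induction
      (p := fun g (hg : g ∈ Subgroup.closure {g : GL D.Idx K | ∃ (s : ℕ) (t : K),
        s ∈ {s | m ≤ s ∧ D.IsPosRoot s} ∧ (g : Matrix D.Idx D.Idx K) = D.x K s t}) =>
          φ ⟨g, hg⟩ = ψ ⟨g, hg⟩) ?_ ?_ ?_ ?_ hg'
    · rintro x ⟨s, t, hs, hx⟩
      have : x = xGL D hD s t := Units.ext (by rw [hx, xGL_val])
      subst this
      exact h s hs.2 hs.1 t _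
    · exact (map_one φ).trans (map_one ψ).symm
    · intro x y hx hy ihx ihy
      have e : (⟨x * y, mul_mem hx hy⟩ : ↥(upperSub D K m)) = ⟨x, hx⟩ * ⟨y, hy⟩ := rfl
      show φ ⟨x * y, mul_mem hx hy⟩ = ψ ⟨x * y, mul_mem hx hy⟩
      rw [e, map_mul, map_mul, ihx, ihy]
    · intro x hx ih
      have e : (⟨x⁻¹, inv_mem hx⟩ : ↥(upperSub D K m)) = (⟨x, hx⟩ : ↥(upperSub D K m))⁻¹ := rfl
      show φ ⟨x⁻¹, inv_mem hx⟩ = ψ ⟨x⁻¹, inv_mem hx⟩
      rw [e, map_inv, map_inv, ih]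
  ext ⟨g, hg⟩
  exact key g hg

variable (C : Ctx D hD K E)

/-- the compatibility of `Y k t` with a section on `U_{>k}`, by the torus argument -/
theorem compat_of_section (hLC : C.LC) (hcomb : Comb D) (hK : FieldOK K) (k : ℕ)
    (hk : D.IsPosRoot k) (s' : ↥(upperSub D K (k + 1)) →* E) (hΨ' : ∀ u, C.Ψ (s' u) = u.1)
    (hgen : ∀ (q : ℕ) (hq : D.IsPosRoot q) (hkq : k + 1 ≤ q) (v : K)
      (hmem : xGL D hD q v ∈ upperSub D K (k + 1)), s' ⟨xGL D hD q v, hmem⟩ = C.Y q v)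
    (t : K) (u : ↥(upperSub D K (k + 1)))
    (hmem : xGL D hD k t * u.1 * (xGL D hD k t)⁻¹ ∈ upperSub D K (k + 1)) :
    C.Y k t * s' u * (C.Y k t)⁻¹ = s' ⟨xGL D hD k t * u.1 * (xGL D hD k t)⁻¹, hmem⟩ := by
  classical
  have hself := hcomb.self
  have hkl : k < D.nroots := hk.1
  have hnorm : ∀ (t : K) (u : GL D.Idx K), u ∈ upperSub D K (k + 1) →
      xGL D hD k t * u * (xGL D hD k t)⁻¹ ∈ upperSub D K (k + 1) := by
    intro t u hu
    have := rootSubgroup_le_normalizer_upperSub (F := K) D hD k hk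
      (xGL_mem_rootSubgroup D hD k t)
    exact (Subgroup.mem_normalizer_iff.1 this u).1 hu
  have hHnorm : ∀ (h : GL D.Idx K), h ∈ D.diagonalSubgroup K → ∀ u ∈ upperSub D K (k + 1),
      h * u * h⁻¹ ∈ upperSub D K (k + 1) := by
    intro h hh u hu
    have := diagonal_le_normalizer_rootSetSub (F := K) D hD {s | k + 1 ≤ s ∧ D.IsPosRoot s} hh
    exact (Subgroup.mem_normalizer_iff.1 this u).1 hu
  have hxmem : ∀ (q : ℕ), D.IsPosRoot q → k + 1 ≤ q → ∀ v : K,
      xGL D hD q v ∈ upperSub D K (k + 1) := fun q hq hkq v =>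
    xGL_mem_rootSetSub D hD {s | k + 1 ≤ s ∧ D.IsPosRoot s} q ⟨hkq, hq⟩ v
  -- the two homomorphisms
  let cj : K → ↥(upperSub D K (k + 1)) →* ↥(upperSub D K (k + 1)) := fun t =>
    MonoidHom.mk' (fun u => ⟨xGL D hD k t * u.1 * (xGL D hD k t)⁻¹, hnorm t u.1 u.2⟩) (by
      intro a b
      apply Subtype.ext
      show xGL D hD k t * (a.1 * b.1) * (xGL D hD k t)⁻¹
        = xGL D hD k t * a.1 * (xGL D hD k t)⁻¹ * (xGL D hD k t * b.1 * (xGL D hD k t)⁻¹)
      group)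
  let φ₁ : K → ↥(upperSub D K (k + 1)) →* E := fun t =>
    MonoidHom.mk' (fun u => C.Y k t * s' u * (C.Y k t)⁻¹) (by
      intro a b
      rw [map_mul]
      group)
  let φ₂ : K → ↥(upperSub D K (k + 1)) →* E := fun t => s'.comp (cj t)
  have hφ₁ : ∀ t u, φ₁ t u = C.Y k t * s' u * (C.Y k t)⁻¹ := fun _ _ => rfl
  have hφ₂ : ∀ t u, φ₂ t u = s' ⟨xGL D hD k t * u.1 * (xGL D hD k t)⁻¹, hnorm t u.1 u.2⟩ :=
    fun _ _ => rfl
  have hΨφ₁ : ∀ t u, C.Ψ (φ₁ t u) = xGL D hD k t * u.1 * (xGL D hD k t)⁻¹ := by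
    intro t u
    rw [hφ₁, map_mul, map_mul, map_inv, C.Ψ_Y hself k hkl, hΨ']
  have hΨφ₂ : ∀ t u, C.Ψ (φ₂ t u) = xGL D hD k t * u.1 * (xGL D hD k t)⁻¹ := by
    intro t u
    rw [hφ₂, hΨ']
  -- `H`-equivariance of `s'`
  have hsH : ∀ (γ : ℕ) (hγ : γ < D.nroots) (a : K) (ha : a ≠ 0) (eh : E)
      (heh : C.Ψ eh = hGL D hD γ a) (u : ↥(upperSub D K (k + 1))),
      eh * s' u * eh⁻¹ = s' ⟨hGL D hD γ a * u.1 * (hGL D hD γ a)⁻¹,
        hHnorm _ (hGL_mem_diagonal D hD γ hγ a ha) u.1 u.2⟩ := by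
    intro γ hγ a ha eh heh
    let ψ₁ : ↥(upperSub D K (k + 1)) →* E :=
      MonoidHom.mk' (fun u => eh * s' u * eh⁻¹) (by
        intro a b
        rw [map_mul]
        group)
    let cjh : ↥(upperSub D K (k + 1)) →* ↥(upperSub D K (k + 1)) :=
      MonoidHom.mk' (fun u => ⟨hGL D hD γ a * u.1 * (hGL D hD γ a)⁻¹,
        hHnorm _ (hGL_mem_diagonal D hD γ hγ a ha) u.1 u.2⟩) (by
        intro x y
        apply Subtype.ext
        show hGL D hD γ a * (x.1 * y.1) * (hGL D hD γ a)⁻¹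
          = hGL D hD γ a * x.1 * (hGL D hD γ a)⁻¹ * (hGL D hD γ a * y.1 * (hGL D hD γ a)⁻¹)
        group)
    have : ψ₁ = s'.comp cjh := by
      apply hom_ext_upperSub D hD
      intro q hq hkq v hm
      show eh * s' ⟨xGL D hD q v, hm⟩ * eh⁻¹
        = s' ⟨hGL D hD γ a * xGL D hD q v * (hGL D hD γ a)⁻¹, _⟩
      have e1 : (⟨hGL D hD γ a * xGL D hD q v * (hGL D hD γ a)⁻¹,
          hHnorm _ (hGL_mem_diagonal D hD γ hγ a ha) _ hm⟩ : ↥(upperSub D K (k + 1)))
          = ⟨xGL D hD q (a ^ (pairZ D γ q) * v), hxmem q hq hkq _⟩ :=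
        Subtype.ext (hGL_conj_x_gen D hD γ hγ a ha q v)
      rw [e1, hgen q hq hkq, hgen q hq hkq, C.conj_Y_hGL hLC hself q γ hq.1 hγ a ha eh heh]
    intro u
    exact DFunLike.congr_fun this u
  -- the defect on a root element is trivial
  have hroot : ∀ (q : ℕ) (hq : D.IsPosRoot q) (hkq : k + 1 ≤ q) (t v : K),
      φ₁ t ⟨xGL D hD q v, hxmem q hq hkq v⟩ = φ₂ t ⟨xGL D hD q v, hxmem q hq hkq v⟩ := by
    intro q hq hkq
    set e : K → K → E := fun t v =>
      φ₁ t ⟨xGL D hD q v, hxmem q hq hkq v⟩ * (φ₂ t ⟨xGL D hD q v, hxmem q hq hkq v⟩)⁻¹ with he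
    have hcen : ∀ t v, e t v ∈ Subgroup.center E := by
      intro t v
      apply C.central_of_Ψ_one
      rw [map_mul, map_inv, hΨφ₁, hΨφ₂, mul_inv_cancel]
    have hadd : ∀ t v v', e t (v + v') = e t v * e t v' := by
      intro t v v'
      have hx : (⟨xGL D hD q (v + v'), hxmem q hq hkq _⟩ : ↥(upperSub D K (k + 1)))
          = ⟨xGL D hD q v, hxmem q hq hkq v⟩ * ⟨xGL D hD q v', hxmem q hq hkq v'⟩ :=
        Subtype.ext (xGL_add D hD q hq.1 v v').symm
      simp only [he]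
      rw [hx, map_mul, map_mul, mul_inv_rev]
      have hc := Subgroup.mem_center_iff.1 (hcen t v')
      simp only [he] at hc
      set a1 := φ₁ t ⟨xGL D hD q v, hxmem q hq hkq v⟩
      set a2 := φ₂ t ⟨xGL D hD q v, hxmem q hq hkq v⟩
      set b1 := φ₁ t ⟨xGL D hD q v', hxmem q hq hkq v'⟩
      set b2 := φ₂ t ⟨xGL D hD q v', hxmem q hq hkq v'⟩
      calc a1 * b1 * (b2⁻¹ * a2⁻¹) = a1 * (b1 * b2⁻¹) * a2⁻¹ := by group
        _ = (b1 * b2⁻¹) * a1 * a2⁻¹ := by rw [hc a1]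
        _ = (b1 * b2⁻¹) * (a1 * a2⁻¹) := by group
        _ = (a1 * a2⁻¹) * (b1 * b2⁻¹) := by rw [hc (a1 * a2⁻¹)]
    -- torus invariance
    have hinv : ∀ (γ : ℕ) (hγ : γ < D.nroots) (a : K) (ha : a ≠ 0) (t v : K),
        e (a ^ (pairZ D γ k) * t) (a ^ (pairZ D γ q) * v) = e t v := by
      intro γ hγ a ha t v
      set eh := C.hl γ a with heh
      have hΨeh : C.Ψ eh = hGL D hD γ a := C.Ψ_hl γ hγ a ha
      have h1 : eh * φ₁ t ⟨xGL D hD q v, hxmem q hq hkq v⟩ * eh⁻¹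
          = φ₁ (a ^ (pairZ D γ k) * t)
              ⟨xGL D hD q (a ^ (pairZ D γ q) * v), hxmem q hq hkq _⟩ := by
        rw [hφ₁, hφ₁, hgen q hq hkq, hgen q hq hkq,
          ← C.conj_Y_hGL hLC hself k γ hkl hγ a ha eh hΨeh,
          ← C.conj_Y_hGL hLC hself q γ hq.1 hγ a ha eh hΨeh]
        group
      have h2 : eh * φ₂ t ⟨xGL D hD q v, hxmem q hq hkq v⟩ * eh⁻¹
          = φ₂ (a ^ (pairZ D γ k) * t)
              ⟨xGL D hD q (a ^ (pairZ D γ q) * v), hxmem q hq hkq _⟩ := by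
        rw [hφ₂, hφ₂, hsH γ hγ a ha eh hΨeh]
        congr 1
        apply Subtype.ext
        show hGL D hD γ a * (xGL D hD k t * xGL D hD q v * (xGL D hD k t)⁻¹) * (hGL D hD γ a)⁻¹
          = xGL D hD k (a ^ (pairZ D γ k) * t) * xGL D hD q (a ^ (pairZ D γ q) * v)
            * (xGL D hD k (a ^ (pairZ D γ k) * t))⁻¹
        rw [← hGL_conj_x_gen D hD γ hγ a ha k t, ← hGL_conj_x_gen D hD γ hγ a ha q v]
        group
      have hc := Subgroup.mem_center_iff.1 (hcen t v) eh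
      have h3 : eh * e t v * eh⁻¹ = e (a ^ (pairZ D γ k) * t) (a ^ (pairZ D γ q) * v) := by
        simp only [he]
        rw [← h1, ← h2]
        group
      rw [← h3, hc]
      group
    -- the pair `(k, q)`
    have hqk : q ≠ k := by omega
    have hk' := (isPosRoot_iff D hD k).1 hk
    have hqn : q ≠ D.neg k :=
      (checkOrd_spec D k (chkOrd_all D hD k hkl) hk'.1 hk'.2 q hq.1 (by omega)).1
    have hfin : ∀ t v, e t v = 1 := by
      rcases hcomb.prod k q hkl hq.1 hqk hqn with h0 | hj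
      · -- `⟨k, q^∨⟩ = 0`: use `h_q(a)`, `a² ≠ 1`
        obtain ⟨a, ha0, ha⟩ := hK.pw 2 (by norm_num) (by norm_num)
        apply center_biadd_right e hcen hadd (a ^ 2) ha
        intro t v
        have := hinv q hq.1 a ha0 t v
        rw [h0, hself q hq.1, zpow_zero, one_mul, zpow_two, ← pow_two] at this
        exact this
      · -- `m m' ∈ {1,2,3}`
        set m := pairZ D q k with hm
        set m' := pairZ D k q with hm'
        have hn : ∃ n : ℕ, 1 ≤ n ∧ n ≤ 3 ∧ (4 : ℤ) - m * m' = n := by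
          rcases hj with h | h | h
          · exact ⟨3, by norm_num, by norm_num, by rw [h]; norm_num⟩
          · exact ⟨2, by norm_num, by norm_num, by rw [h]; norm_num⟩
          · exact ⟨1, by norm_num, by norm_num, by rw [h]; norm_num⟩
        obtain ⟨n, hn1, hn3, hn⟩ := hn
        obtain ⟨a, ha0, ha⟩ := hK.pw n hn1 hn3
        apply center_biadd_right e hcen hadd (a ^ n) ha
        intro t v
        set b : K := (a ^ m)⁻¹ with hb
        have hb0 : b ≠ 0 := inv_ne_zero (zpow_ne_zero _ ha0)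
        have i1 := hinv q hq.1 a ha0 t v
        have i2 := hinv q hq.1 a ha0 (a ^ m * t) (a ^ (pairZ D q q) * v)
        have i3 := hinv k hkl b hb0 (a ^ m * (a ^ m * t))
          (a ^ (pairZ D q q) * (a ^ (pairZ D q q) * v))
        rw [i2, i1] at i3
        rw [← i3]
        have e1 : b ^ (pairZ D k k) * (a ^ m * (a ^ m * t)) = t := by
          rw [hself k hkl, zpow_two, hb]
          have : a ^ m ≠ 0 := zpow_ne_zero _ ha0
          field_simp
        have e2 : b ^ m' * (a ^ (pairZ D q q) * (a ^ (pairZ D q q) * v)) = a ^ n * v := by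
          rw [hself q hq.1, hb, inv_zpow, ← zpow_mul, ← zpow_natCast a n, ← hn,
            zpow_sub₀ ha0]
          have h4 : a ^ (4 : ℤ) = a ^ (2 : ℤ) * a ^ (2 : ℤ) := by
            rw [← zpow_add₀ ha0]
            norm_num
          rw [h4]
          have : a ^ (m * m') ≠ 0 := zpow_ne_zero _ ha0
          field_simp
        rw [e1, e2]
    intro t v
    exact mul_inv_eq_one.1 (hfin t v)
  have hφ : φ₁ t = φ₂ t := by
    apply hom_ext_upperSub D hD
    intro q hq hkq v hm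
    exact hroot q hq hkq t v
  have := DFunLike.congr_fun hφ u
  rw [hφ₁, hφ₂] at this
  exact this

/-- the section on `U_{≥k}` for every `k` -/
theorem exists_section_upper (hLC : C.LC) (hcomb : Comb D) (hK : FieldOK K) (n : ℕ) :
    ∀ k, D.nroots ≤ k + n → ∃ s : ↥(upperSub D K k) →* E, (∀ u, C.Ψ (s u) = u.1) ∧
      ∀ (q : ℕ) (_ : D.IsPosRoot q) (_ : k ≤ q) (v : K) (hmem : xGL D hD q v ∈ upperSub D K k),
        s ⟨xGL D hD q v, hmem⟩ = C.Y q v := by
  induction n with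
  | zero =>
    intro k hk
    have hbot : upperSub D K k = ⊥ := upperSub_of_ge D k (by omega)
    refine ⟨1, ?_, ?_⟩
    · intro u
      have : u.1 ∈ (⊥ : Subgroup (GL D.Idx K)) := hbot ▸ u.2
      rw [Subgroup.mem_bot] at this
      rw [this]
      simp
    · intro q hq hkq
      exfalso
      have := hq.1
      omega
  | succ n ih =>
    intro k hk
    obtain ⟨s', hΨ', hgen'⟩ := ih (k + 1) (by omega)
    by_cases hp : D.IsPosRoot k
    · have hcompat := compat_of_section C hLC hcomb hK k hp s' hΨ'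
        (fun q hq hkq v hmem => hgen' q hq hkq v hmem)
      obtain ⟨s, h1, h2, h3⟩ := extend_section (hD := hD) C.Ψ k hp (C.Y k)
        (fun t u => C.Y_add hLC hcomb.self k hp.1 t u) (fun t => C.Ψ_Y hcomb.self k hp.1 t)
        s' hΨ' hcompat
      refine ⟨s, h1, ?_⟩
      intro q hq hkq v hmem
      by_cases hqk : q = k
      · subst hqk
        exact h2 v hmem
      · have hkq' : k + 1 ≤ q := by omega
        have hm' : xGL D hD q v ∈ upperSub D K (k + 1) :=
          xGL_mem_rootSetSub D hD {s | k + 1 ≤ s ∧ D.IsPosRoot s} q ⟨hkq', hq⟩ v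
        rw [h3 _ hm' hmem]
        exact hgen' q hq hkq' v hm'
    · have heq : upperSub D K k = upperSub D K (k + 1) := upperSub_of_not_pos D k hp
      have hle : upperSub D K k ≤ upperSub D K (k + 1) := heq.le
      refine ⟨s'.comp (Subgroup.inclusion hle), ?_, ?_⟩
      · intro u
        show C.Ψ (s' (Subgroup.inclusion hle u)) = u.1
        rw [hΨ']
        rfl
      · intro q hq hkq v hmem
        have hqk : q ≠ k := fun h => hp (h ▸ hq)
        have hkq' : k + 1 ≤ q := by omega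
        exact hgen' q hq hkq' v (hle hmem)

/-- the section on `U` -/
theorem exists_section (hLC : C.LC) (hcomb : Comb D) (hK : FieldOK K) :
    ∃ s : ↥(D.posUnipotent K) →* E, (∀ u, C.Ψ (s u) = u.1) ∧
      ∀ (q : ℕ) (hq : D.IsPosRoot q) (t : K),
        s ⟨xGL D hD q t, xGL_mem_pos D hD q hq t⟩ = C.Y q t := by
  obtain ⟨s, h1, h2⟩ := exists_section_upper C hLC hcomb hK D.nroots 0 (by omega)
  have heq : D.posUnipotent K = upperSub D K 0 := (upperSub_zero D).symm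
  have hle : D.posUnipotent K ≤ upperSub D K 0 := heq.le
  refine ⟨s.comp (Subgroup.inclusion hle), ?_, ?_⟩
  · intro u
    show C.Ψ (s (Subgroup.inclusion hle u)) = u.1
    rw [h1]
    rfl
  · intro q hq t
    exact h2 q hq (Nat.zero_le _) t _

end Cfsg.Agent.Lib.Helper8.StLift
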