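import Mathlib
import Cfsg.Agent.Lib.Helper8.StLiftD

set_option autoImplicit false

/-!
(LC): lifts of two elements of one root subgroup commute, when the root has pairing `±1` with some
coroot.
-/

namespace Cfsg.Agent.Lib.Helper8.StLift

open Cfsg Cfsg.Lie Cfsg.Agent.Lib.Helper5.ChevSym Cfsg.Agent.Lib.Helper5.ChevStruct
  Cfsg.Agent.Lib.Helper5.StPres Cfsg.Agent.Lib.Helper9.InvolX

variable {D : ChevalleyDatum} {hD : D ∈ Seven} {K : Type*} [Field K] {E : Type*} [Group E]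
  (C : Ctx D hD K E)

/-- (LC) for one root with pairing `±1` with some coroot -/
theorem lc_of_good_root (hK : FieldOK K) (r : ℕ) (hr : r < D.nroots) (γ : ℕ) (hγ : γ < D.nroots)
    (hp : pairZ D γ r = 1 ∨ pairZ D γ r = -1) (e e' : E) (t u : K)
    (he : C.Ψ e = xGL D hD r t) (he' : C.Ψ e' = xGL D hD r u) : e * e' = e' * e := by
  obtain ⟨b, hb0, hb1, hb2⟩ := hK.b
  set f : K → K → E := fun t u => C.xl r t * C.xl r u * (C.xl r t)⁻¹ * (C.xl r u)⁻¹ with hf
  have hcen : ∀ t u, f t u ∈ Subgroup.center E := by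
    intro t u
    apply C.central_of_Ψ_one
    simp only [hf]
    rw [map_mul, map_mul, map_mul, map_inv, map_inv, C.Ψ_xl, C.Ψ_xl, xGL_commute D hD r hr t u]
    group
  have hl : ∀ t t' u, f (t + t') u = f t u * f t' u := by
    intro t t' u
    have h1 : f (t + t') u = (C.xl r t * C.xl r t') * C.xl r u * (C.xl r t * C.xl r t')⁻¹
        * (C.xl r u)⁻¹ := by
      simp only [hf]
      apply comm_lift_indep C.Ψ C.hc _ rfl
      rw [map_mul, C.Ψ_xl, C.Ψ_xl, C.Ψ_xl, xGL_add D hD r hr]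
    have hc := Subgroup.mem_center_iff.1 (hcen t' u)
    rw [h1]
    have h2 : (C.xl r t * C.xl r t') * C.xl r u * (C.xl r t * C.xl r t')⁻¹ * (C.xl r u)⁻¹
        = C.xl r t * f t' u * (C.xl r t)⁻¹ * f t u := by
      simp only [hf]
      group
    rw [h2, hc (C.xl r t)]
    have h3 : f t' u * C.xl r t * (C.xl r t)⁻¹ * f t u = f t' u * f t u := by group
    rw [h3, ← hc (f t u)]
  have hr' : ∀ t u u', f t (u + u') = f t u * f t u' := by
    intro t u u'
    have h1 : f t (u + u') = C.xl r t * (C.xl r u * C.xl r u') * (C.xl r t)⁻¹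
        * (C.xl r u * C.xl r u')⁻¹ := by
      simp only [hf]
      apply comm_lift_indep C.Ψ C.hc rfl
      rw [map_mul, C.Ψ_xl, C.Ψ_xl, C.Ψ_xl, xGL_add D hD r hr]
    have hc := Subgroup.mem_center_iff.1 (hcen t u')
    rw [h1]
    have h2 : C.xl r t * (C.xl r u * C.xl r u') * (C.xl r t)⁻¹ * (C.xl r u * C.xl r u')⁻¹
        = f t u * (C.xl r u * f t u' * (C.xl r u)⁻¹) := by
      simp only [hf]
      group
    rw [h2, hc (C.xl r u)]
    group
  have hinv1 : ∀ (c : K), c ≠ 0 → ∀ t u,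
      f (c ^ (pairZ D γ r) * t) (c ^ (pairZ D γ r) * u) = f t u := by
    intro c hc0 t u
    set eh := C.hl γ c with heh
    have hΨeh : C.Ψ eh = hGL D hD γ c := C.Ψ_hl γ hγ c hc0
    have hc := Subgroup.mem_center_iff.1 (hcen t u) eh
    have h1 : eh * f t u * eh⁻¹ = (eh * C.xl r t * eh⁻¹) * (eh * C.xl r u * eh⁻¹)
        * (eh * C.xl r t * eh⁻¹)⁻¹ * (eh * C.xl r u * eh⁻¹)⁻¹ := by
      simp only [hf]
      group
    have h2 : eh * f t u * eh⁻¹ = f t u := by
      rw [hc]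
      group
    rw [← h2, h1]
    simp only [hf]
    apply comm_lift_indep C.Ψ C.hc
    · rw [map_mul, map_mul, map_inv, hΨeh, C.Ψ_xl, C.Ψ_xl, hGL_conj_x_gen D hD γ hγ c hc0]
    · rw [map_mul, map_mul, map_inv, hΨeh, C.Ψ_xl, C.Ψ_xl, hGL_conj_x_gen D hD γ hγ c hc0]
  have hinv : ∀ c : K, c ≠ 0 → ∀ t u, f (c * t) (c * u) = f t u := by
    intro c hc0 t u
    rcases hp with h | h
    · have := hinv1 c hc0 t u
      rwa [h, zpow_one] at this
    · have := hinv1 c⁻¹ (inv_ne_zero hc0) t u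
      rwa [h, zpow_neg_one, inv_inv] at this
  have h1 := center_biadd_scal f hcen hl hr' hinv b hb0 hb1 hb2 t u
  have h2 : C.xl r t * C.xl r u = C.xl r u * C.xl r t := by
    simp only [hf] at h1
    have : C.xl r t * C.xl r u = (C.xl r t * C.xl r u * (C.xl r t)⁻¹ * (C.xl r u)⁻¹)
        * (C.xl r u * C.xl r t) := by group
    rw [this, h1, one_mul]
  have h3 : e * C.xl r u = C.xl r u * e :=
    commute_lift_indep C.Ψ C.hc (by rw [C.Ψ_xl, he]) h2
  exact (commute_lift_indep C.Ψ C.hc (by rw [C.Ψ_xl, he']) h3.symm).symm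

theorem lc_of_good (hgood : Good D) (hK : FieldOK K) : C.LC := by
  intro r hr e e' t u he he'
  obtain ⟨γ, hγ, hp⟩ := hgood r hr
  exact lc_of_good_root C hK r hr γ hγ hp e e' t u he he'

end Cfsg.Agent.Lib.Helper8.StLift
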