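import Mathlib
import Cfsg.Agent.Lib.Helper8.StLiftF
import Cfsg.Agent.Lib.Helper8.StLiftG

set_option autoImplicit false

/-!
The commutator relations (R2) for the canonical lifts, and Steinberg's lifting theorem.
-/

namespace Cfsg.Agent.Lib.Helper8.StLift

open Cfsg Cfsg.Lie Cfsg.Agent.Lib.Helper5.ChevSym Cfsg.Agent.Lib.Helper5.ChevStruct
  Cfsg.Agent.Lib.Helper5.StPres Cfsg.Agent.Lib.Helper9.InvolX

variable {D : ChevalleyDatum} {hD : D ∈ Seven} {K : Type*} [Field K] {E : Type*} [Group E]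
  (C : Ctx D hD K E)

theorem wordGL_cons' (D : ChevalleyDatum) (hD : D ∈ Seven) (p : ℕ × K) (l : List (ℕ × K)) :
    wordGL D hD (p :: l) = xGL D hD p.1 p.2 * wordGL D hD l := by
  unfold wordGL
  rw [List.map_cons, List.prod_cons]

theorem wordGL_mem_pos (D : ChevalleyDatum) (hD : D ∈ Seven) (l : List (ℕ × K))
    (hl : ∀ p ∈ l, D.IsPosRoot p.1) : wordGL D hD l ∈ D.posUnipotent K := by
  unfold wordGL
  apply Subgroup.list_prod_mem
  intro g hg
  rw [List.mem_map] at hg
  obtain ⟨p, hp, rfl⟩ := hg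
  exact xGL_mem_pos D hD p.1 (hl p hp) p.2

/-- the section on a word in positive root elements -/
theorem sec_word (s : ↥(D.posUnipotent K) →* E)
    (hsY : ∀ (q : ℕ) (hq : D.IsPosRoot q) (t : K),
      s ⟨xGL D hD q t, xGL_mem_pos D hD q hq t⟩ = C.Y q t)
    (l : List (ℕ × K)) (hl : ∀ p ∈ l, D.IsPosRoot p.1)
    (hmem : wordGL D hD l ∈ D.posUnipotent K) :
    s ⟨wordGL D hD l, hmem⟩ = (l.map fun p => C.Y p.1 p.2).prod := by
  induction l with
  | nil =>
    have : (⟨wordGL D hD ([] : List (ℕ × K)), hmem⟩ : ↥(D.posUnipotent K)) = 1 := rfl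
    rw [this, map_one]
    rfl
  | cons p l ih =>
    have hp := hl p List.mem_cons_self
    have hl' : ∀ p' ∈ l, D.IsPosRoot p'.1 := fun p' hp' => hl p' (List.mem_cons_of_mem _ hp')
    have hm' := wordGL_mem_pos D hD l hl'
    have e : (⟨wordGL D hD (p :: l), hmem⟩ : ↥(D.posUnipotent K))
        = ⟨xGL D hD p.1 p.2, xGL_mem_pos D hD p.1 hp p.2⟩ * ⟨wordGL D hD l, hm'⟩ :=
      Subtype.ext (wordGL_cons' D hD p l)
    rw [e, map_mul, hsY p.1 hp, ih hl' hm', List.map_cons, List.prod_cons]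

/-- conjugation of a word of canonical lifts by a lift of `n_w` -/
theorem conj_word_Y (hLC : C.LC) (hself : ∀ r < D.nroots, pairZ D r r = 2) (w : List ℕ)
    (hw : Wd D w) (e : E) (he : C.Ψ e = wGL D hD w) (l : List (ℕ × K))
    (hl : ∀ p ∈ l, p.1 < D.nroots) :
    e * (l.map fun p => C.Y p.1 p.2).prod * e⁻¹
      = ((l.map fun p => (wAct D w p.1, ((wEps D w p.1 : ℤ) : K) * p.2)).map
          fun p => C.Y p.1 p.2).prod := by
  induction l with
  | nil => simp
  | cons p l ih =>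
    have hl' : ∀ p' ∈ l, p'.1 < D.nroots := fun p' hp' => hl p' (List.mem_cons_of_mem _ hp')
    rw [List.map_cons, List.prod_cons, List.map_cons, List.map_cons, List.prod_cons, ← ih hl',
      ← C.conj_Y_wGL hLC hself p.1 (hl p List.mem_cons_self) w hw e he]
    group

/-- conjugation of a word of root elements by `n_w` -/
theorem conj_wordGL (w : List ℕ) (hw : Wd D w) (l : List (ℕ × K))
    (hl : ∀ p ∈ l, p.1 < D.nroots) :
    wGL D hD w * wordGL D hD l * (wGL D hD w)⁻¹
      = wordGL D hD (l.map fun p => (wAct D w p.1, ((wEps D w p.1 : ℤ) : K) * p.2)) := by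
  induction l with
  | nil => simp [wordGL]
  | cons p l ih =>
    have hl' : ∀ p' ∈ l, p'.1 < D.nroots := fun p' hp' => hl p' (List.mem_cons_of_mem _ hp')
    rw [List.map_cons, wordGL_cons', wordGL_cons', ← ih hl',
      ← wGL_conj_eps D hD w hw p.1 (hl p List.mem_cons_self)]
    group

theorem Ctx.Y_comm (hLC : C.LC) (hcomb : Comb D)
    (s : ↥(D.posUnipotent K) →* E) (_hsΨ : ∀ u, C.Ψ (s u) = u.1)
    (hsY : ∀ (q : ℕ) (hq : D.IsPosRoot q) (t : K),
      s ⟨xGL D hD q t, xGL_mem_pos D hD q hq t⟩ = C.Y q t)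
    (r q : ℕ) (t u : K) (hr : r < D.nroots) (hq : q < D.nroots) (hqr : q ≠ r)
    (hqn : q ≠ D.neg r) :
    (C.Y q u)⁻¹ * (C.Y r t)⁻¹ * C.Y q u * C.Y r t
      = ((D.commWord K r q t u).map fun p => C.Y p.1 p.2).prod := by
  have hself := hcomb.self
  obtain ⟨w, hw, hpr, hpq, hpc⟩ := hcomb.pairPos r q hr hq hqr hqn
  have hnG : wGL D hD w ∈ D.group K := monomial_le_group D hD (wGL_mem D hD w hw)
  obtain ⟨en, hen⟩ := C.hsurj _ hnG
  set l := D.commWord K r q t u with hl
  have hllt : ∀ p ∈ l, p.1 < D.nroots := commWord_lt hD r q hr hq hqr hqn t u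
  set l' := l.map fun p => (wAct D w p.1, ((wEps D w p.1 : ℤ) : K) * p.2) with hl'
  have hl'pos : ∀ p ∈ l', D.IsPosRoot p.1 := by
    intro p hp
    rw [hl', List.mem_map] at hp
    obtain ⟨p0, hp0, rfl⟩ := hp
    rw [hl] at hp0
    unfold ChevalleyDatum.commWord at hp0
    rw [List.mem_map] at hp0
    obtain ⟨c, hc, rfl⟩ := hp0
    exact hpc c hc
  -- it suffices to compare the conjugates
  have key : en * ((C.Y q u)⁻¹ * (C.Y r t)⁻¹ * C.Y q u * C.Y r t) * en⁻¹
      = en * (l.map fun p => C.Y p.1 p.2).prod * en⁻¹ := by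
    rw [conj_word_Y C hLC hself w hw en hen l hllt, ← hl',
      ← sec_word C s hsY l' hl'pos (wordGL_mem_pos D hD l' hl'pos)]
    have h1 : en * ((C.Y q u)⁻¹ * (C.Y r t)⁻¹ * C.Y q u * C.Y r t) * en⁻¹
        = (en * C.Y q u * en⁻¹)⁻¹ * (en * C.Y r t * en⁻¹)⁻¹ * (en * C.Y q u * en⁻¹)
          * (en * C.Y r t * en⁻¹) := by group
    rw [h1, C.conj_Y_wGL hLC hself q hq w hw en hen, C.conj_Y_wGL hLC hself r hr w hw en hen,
      ← hsY _ hpq, ← hsY _ hpr, ← map_inv, ← map_inv, ← map_mul, ← map_mul, ← map_mul]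
    congr 1
    apply Subtype.ext
    show (xGL D hD (wAct D w q) (((wEps D w q : ℤ) : K) * u))⁻¹
        * (xGL D hD (wAct D w r) (((wEps D w r : ℤ) : K) * t))⁻¹
        * xGL D hD (wAct D w q) (((wEps D w q : ℤ) : K) * u)
        * xGL D hD (wAct D w r) (((wEps D w r : ℤ) : K) * t) = wordGL D hD l'
    rw [hl', ← conj_wordGL w hw l hllt, hl, ← xGL_comm D hD r q t u hr hq hqr hqn,
      ← wGL_conj_eps D hD w hw q hq, ← wGL_conj_eps D hD w hw r hr]
    group
  have := mul_left_cancel (mul_right_cancel key)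
  exact this

/-- Steinberg's theorem: the central extension receives a homomorphism from the group presented
by (R1), (R2) lifting the generators -/
theorem exists_lift (hLC : C.LC) (hcomb : Comb D) (hK : FieldOK K) :
    ∃ τ : D.SteinbergCover K →* E, ∀ (r : ℕ) (t : K), r < D.nroots →
      C.Ψ (τ (D.scGen K r t)) = xGL D hD r t := by
  classical
  obtain ⟨s, hsΨ, hsY⟩ := exists_section C hLC hcomb hK
  have hself := hcomb.self
  set Γ₀ : Subgroup E := Subgroup.closure {g : E | ∃ (r : ℕ) (t : K), r < D.nroots ∧ g = C.Y r t}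
    with hΓ₀
  have hmem : ∀ (r : ℕ) (t : K), r < D.nroots → C.Y r t ∈ Γ₀ := fun r t hr =>
    Subgroup.subset_closure ⟨r, t, hr, rfl⟩
  let X : ℕ → K → ↥Γ₀ := fun r t => if h : r < D.nroots then ⟨C.Y r t, hmem r t h⟩ else 1
  have hX : ∀ (r : ℕ) (t : K), r < D.nroots → (X r t : E) = C.Y r t := by
    intro r t hr
    simp only [X, dif_pos hr]
  have hword : ∀ (l : List (ℕ × K)), (∀ p ∈ l, p.1 < D.nroots) →
      (((l.map fun p => X p.1 p.2).prod : ↥Γ₀) : E) = (l.map fun p => C.Y p.1 p.2).prod := by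
    intro l
    induction l with
    | nil => intro _; rfl
    | cons p l ih =>
      intro hl
      rw [List.map_cons, List.prod_cons, Subgroup.coe_mul, hX p.1 p.2 (hl p List.mem_cons_self),
        ih (fun p' hp' => hl p' (List.mem_cons_of_mem _ hp')), List.map_cons, List.prod_cons]
  let R : RootGens D K ↥Γ₀ :=
    { X := X
      X_add := by
        intro r t u hr
        apply Subtype.ext
        rw [Subgroup.coe_mul, hX r t hr, hX r u hr, hX r (t + u) hr, C.Y_add hLC hself r hr]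
      X_comm := by
        intro r q t u hr hq hqr hqn
        apply Subtype.ext
        rw [hword _ (commWord_lt hD r q hr hq hqr hqn t u), Subgroup.coe_mul, Subgroup.coe_mul,
          Subgroup.coe_mul, Subgroup.coe_inv, Subgroup.coe_inv, hX r t hr, hX q u hq]
        exact C.Y_comm hLC hcomb s hsΨ hsY r q t u hr hq hqr hqn
      gen := by
        rw [eq_top_iff]
        rintro ⟨g, hg⟩ -
        have key : ∀ (g : E) (hg : g ∈ Γ₀), (⟨g, hg⟩ : ↥Γ₀) ∈ Subgroup.closure
            {g : ↥Γ₀ | ∃ (r : ℕ) (t : K), r < D.nroots ∧ g = X r t} := by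
          intro g hg
          refine Subgroup.closure_induction
            (p := fun g (hg : g ∈ Subgroup.closure {g : E | ∃ (r : ℕ) (t : K),
              r < D.nroots ∧ g = C.Y r t}) => (⟨g, hg⟩ : ↥Γ₀) ∈ Subgroup.closure
                {g : ↥Γ₀ | ∃ (r : ℕ) (t : K), r < D.nroots ∧ g = X r t}) ?_ ?_ ?_ ?_ hg
          · rintro x ⟨r, t, hr, rfl⟩
            apply Subgroup.subset_closure
            exact ⟨r, t, hr, Subtype.ext (hX r t hr).symm⟩
          · exact one_mem _
          · intro x y hx hy ihx ihy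
            exact mul_mem ihx ihy
          · intro x hx ih
            exact inv_mem ih
        exact key g hg }
  refine ⟨Γ₀.subtype.comp (R.fromCover hD), ?_⟩
  intro r t hr
  show C.Ψ ((R.fromCover hD (D.scGen K r t) : ↥Γ₀) : E) = xGL D hD r t
  rw [R.fromCover_scGen hD r hr t]
  show C.Ψ (X r t : E) = _
  rw [hX r t hr, C.Ψ_Y hself r hr]

end Cfsg.Agent.Lib.Helper8.StLift
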