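import Mathlib
import Cfsg.Agent.Lib.Helper8.StLiftC

set_option autoImplicit false

/-!
The combinatorial hypotheses of the lifting theorem for type `G₂`, by computation, and the
hypotheses on the field.
-/

namespace Cfsg.Agent.Lib.Helper8.StLift

open Cfsg Cfsg.Lie Cfsg.Agent.Lib.Helper5.ChevSym Cfsg.Agent.Lib.Helper5.ChevStruct
  Cfsg.Agent.Lib.Helper5.StPres Cfsg.Agent.Lib.Helper9.InvolX

/-- checker for `Comb.self` -/
def chkSelf (D : ChevalleyDatum) : Bool :=
  (List.range D.nroots).all fun r => decide (pairZ D r r = 2)

/-- checker for `Comb.prod` -/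
def chkProd (D : ChevalleyDatum) : Bool :=
  (List.range D.nroots).all fun r => (List.range D.nroots).all fun q =>
    decide (q = r) || decide (q = D.neg r) || decide (pairZ D q r = 0) ||
      decide (pairZ D q r * pairZ D r q = 1) || decide (pairZ D q r * pairZ D r q = 2) ||
      decide (pairZ D q r * pairZ D r q = 3)

/-- checker for `Comb.ord` -/
def chkOrd2 (D : ChevalleyDatum) : Bool :=
  (List.range D.nroots).all fun k => (List.range D.nroots).all fun s =>
    !(decide (D.IsPosRoot k) && decide (D.IsPosRoot s) && decide (k < s)) ||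
      (D.commTerms k s).all fun c => decide (s < c.1) && decide (D.IsPosRoot c.1)

/-- checker for `Comb.pairPos`, with a list of candidate words -/
def chkPairPos (D : ChevalleyDatum) (ws : List (List ℕ)) : Bool :=
  (List.range D.nroots).all fun r => (List.range D.nroots).all fun s =>
    decide (s = r) || decide (s = D.neg r) ||
      ws.any fun w => (w.all fun i => decide (i < D.rank)) &&
        decide (D.IsPosRoot (wAct D w r)) && decide (D.IsPosRoot (wAct D w s)) &&
        (D.commTerms r s).all fun c => decide (D.IsPosRoot (wAct D w c.1))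

/-- checker for `Good` -/
def chkGood (D : ChevalleyDatum) : Bool :=
  (List.range D.nroots).all fun r => (List.range D.nroots).any fun γ =>
    decide (pairZ D γ r = 1) || decide (pairZ D γ r = -1)

theorem comb_of_chk (D : ChevalleyDatum) (ws : List (List ℕ)) (h1 : chkSelf D = true)
    (h2 : chkProd D = true) (h3 : chkOrd2 D = true) (h4 : chkPairPos D ws = true) : Comb D where
  self := by
    intro r hr
    unfold chkSelf at h1
    rw [List.all_eq_true] at h1
    exact of_decide_eq_true (h1 r (List.mem_range.2 hr))
  prod := by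
    intro r q hr hq hqr hqn
    unfold chkProd at h2
    rw [List.all_eq_true] at h2
    have := h2 r (List.mem_range.2 hr)
    rw [List.all_eq_true] at this
    have := this q (List.mem_range.2 hq)
    simp only [Bool.or_eq_true, decide_eq_true_eq] at this
    tauto
  ord := by
    intro k s hk hs hks c hc
    unfold chkOrd2 at h3
    rw [List.all_eq_true] at h3
    have := h3 k (List.mem_range.2 hk.1)
    rw [List.all_eq_true] at this
    have := this s (List.mem_range.2 hs.1)
    rw [Bool.or_eq_true] at this
    rcases this with h | h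
    · exfalso
      simp only [Bool.not_eq_true', Bool.and_eq_false_iff, decide_eq_false_iff_not] at h
      tauto
    · rw [List.all_eq_true] at h
      have := h c hc
      simp only [Bool.and_eq_true, decide_eq_true_eq] at this
      exact this
  pairPos := by
    intro r s hr hs hsr hsn
    unfold chkPairPos at h4
    rw [List.all_eq_true] at h4
    have := h4 r (List.mem_range.2 hr)
    rw [List.all_eq_true] at this
    have := this s (List.mem_range.2 hs)
    simp only [Bool.or_eq_true, decide_eq_true_eq] at this
    rcases this with (h | h) | h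
    · exact absurd h hsr
    · exact absurd h hsn
    · rw [List.any_eq_true] at h
      obtain ⟨w, _, hw⟩ := h
      simp only [Bool.and_eq_true, decide_eq_true_eq, List.all_eq_true] at hw
      exact ⟨w, fun i hi => hw.1.1.1 i hi, hw.1.1.2, hw.1.2, fun c hc => hw.2 c hc⟩

theorem good_of_chk (D : ChevalleyDatum) (h : chkGood D = true) : Good D := by
  intro r hr
  unfold chkGood at h
  rw [List.all_eq_true] at h
  have := h r (List.mem_range.2 hr)
  rw [List.any_eq_true] at this
  obtain ⟨γ, hγ, hg⟩ := this
  simp only [Bool.or_eq_true, decide_eq_true_eq] at hg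
  exact ⟨γ, List.mem_range.1 hγ, hg⟩

/-- all words of `W(G₂)` -/
def wordsG2 : List (List ℕ) :=
  [[], [0], [1], [0, 1], [1, 0], [0, 1, 0], [1, 0, 1], [0, 1, 0, 1], [1, 0, 1, 0],
    [0, 1, 0, 1, 0], [1, 0, 1, 0, 1], [0, 1, 0, 1, 0, 1]]

theorem comb_G2 : Comb chevG2 :=
  comb_of_chk chevG2 wordsG2 (by decide +kernel) (by decide +kernel) (by decide +kernel)
    (by decide +kernel)

theorem good_G2 : Good chevG2 := good_of_chk chevG2 (by decide +kernel)

end Cfsg.Agent.Lib.Helper8.StLift

namespace Cfsg.Agent.Lib.Helper8.StLift

theorem fieldOK_of_card {K : Type*} [Field K] [Fintype K] (h : 5 ≤ Fintype.card K) :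
    FieldOK K := by
  classical
  constructor
  · intro n hn1 hn3
    obtain ⟨g, hg⟩ := IsCyclic.exists_generator (α := Kˣ)
    have hord : orderOf g = Fintype.card K - 1 := by
      rw [orderOf_eq_card_of_forall_mem_zpowers hg, Nat.card_eq_fintype_card, Fintype.card_units]
    refine ⟨(g : K), g.ne_zero, ?_⟩
    intro hgn
    have h1 : g ^ n = 1 := by
      apply Units.ext
      rw [Units.val_pow_eq_pow_val, hgn, Units.val_one]
    have h2 := orderOf_dvd_of_pow_eq_one h1
    have h3 := Nat.le_of_dvd (by omega) h2
    omega
  · have hex : ∀ s : Finset K, s.card ≤ 4 → ∃ b : K, b ∉ s := by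
      intro s hs
      by_contra hcon
      push Not at hcon
      have h1 : (Finset.univ : Finset K) ⊆ s := fun x _ => hcon x
      have h2 := Finset.card_le_card h1
      rw [Finset.card_univ] at h2
      omega
    by_cases hroot : ∃ b₁ : K, b₁ ^ 2 + b₁ + 1 = 0
    · obtain ⟨b₁, hb₁⟩ := hroot
      obtain ⟨b, hb⟩ := hex {0, -1, b₁, -1 - b₁} Finset.card_le_four
      simp only [Finset.mem_insert, Finset.mem_singleton, not_or] at hb
      refine ⟨b, hb.1, ?_, ?_⟩
      · intro h0
        exact hb.2.1 (eq_neg_of_add_eq_zero_left h0)
      · have e : b ^ 2 + b + 1 = (b - b₁) * (b - (-1 - b₁)) := by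
          have : b₁ ^ 2 = -b₁ - 1 := by linear_combination hb₁
          ring_nf
          rw [this]
          ring
        rw [e]
        exact mul_ne_zero (sub_ne_zero.2 hb.2.2.1) (sub_ne_zero.2 hb.2.2.2)
    · obtain ⟨b, hb⟩ := hex {0, -1} (le_trans Finset.card_le_two (by norm_num))
      simp only [Finset.mem_insert, Finset.mem_singleton, not_or] at hb
      refine ⟨b, hb.1, ?_, ?_⟩
      · intro h0
        exact hb.2 (eq_neg_of_add_eq_zero_left h0)
      · intro h0
        exact hroot ⟨b, h0⟩

end Cfsg.Agent.Lib.Helper8.StLift
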