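import Mathlib
import Cfsg.Prelude.Def_KGroupFacts
import Cfsg.Agent.Lib.Helper8.StLiftH
import Cfsg.Agent.Lib.Helper8.StLiftI
import Cfsg.Agent.Lib.Helper5.StPres.HTorus
import Cfsg.Agent.Lib.Helper5.StPres.CoverR3

set_option autoImplicit false

/-!
The Schur multiplier of `G₂(q)`, `q ≥ 5`, is trivial.
-/

namespace Cfsg.Agent.Lib.Helper8.StLift

open Cfsg Cfsg.Lie Cfsg.Agent.Lib.Helper5.ChevSym Cfsg.Agent.Lib.Helper5.ChevStruct
  Cfsg.Agent.Lib.Helper5.StPres Cfsg.Agent.Lib.Helper9.InvolX

variable {K : Type*} [Field K]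

theorem G2_mem_Seven : chevG2 ∈ Seven := by simp [Seven]

/-- two homomorphisms from the presented group that agree on the generators are equal -/
theorem cover_hom_ext (D : ChevalleyDatum) {Γ : Type*} [Group Γ]
    (φ ψ : D.SteinbergCover K →* Γ)
    (h : ∀ (r : ℕ) (t : K), r < D.nroots → φ (D.scGen K r t) = ψ (D.scGen K r t)) : φ = ψ := by
  apply PresentedGroup.ext
  rintro ⟨r, t⟩
  have := h r.1 t r.2
  unfold ChevalleyDatum.scGen ChevalleyDatum.stX at this
  rw [dif_pos r.2] at this
  exact this

/-- for `G₂` over a finite field the presented group maps injectively -/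
theorem injective_cover_G2 [Finite K]
    (θ : chevG2.SteinbergCover K →* GL chevG2.Idx K)
    (hθ : ∀ (r : ℕ) (t : K), r < chevG2.nroots →
      θ (chevG2.scGen K r t) = xGL chevG2 G2_mem_Seven r t) :
    Function.Injective θ := by
  obtain ⟨e, he⟩ := cover_equiv_st chevG2 G2_mem_Seven K
  obtain ⟨θs, -, hker, hθs⟩ := st_main chevG2 G2_mem_Seven K
  have hcen := st_center_eq_bot chevG2 (by simp) K
  have hinj : Function.Injective θs := by
    rw [← MonoidHom.ker_eq_bot_iff, hker, hcen]
  have heq : θ = ((chevG2.group K).subtype.comp θs).comp e.toMonoidHom := by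
    apply cover_hom_ext
    intro r t hr
    rw [hθ r t hr]
    show _ = ((θs (e (chevG2.scGen K r t)) : ↥(chevG2.group K)) : GL chevG2.Idx K)
    rw [he]
    apply Units.ext
    rw [hθs r t hr, xGL_val]
  rw [heq]
  intro a b hab
  have h1 : θs (e a) = θs (e b) := Subtype.ext hab
  exact e.injective (hinj h1)

theorem schur_G2 {F : Type*} [Field F] [Fintype F] (hF : 5 ≤ Fintype.card F) :
    Cfsg.HasCyclicSchurMultiplier ↥(Cfsg.Lie.chevG2.group F) 1 := by
  classical
  have hK := fieldOK_of_card hF
  constructor
  · refine ⟨↥(chevG2.group F), inferInstance, inferInstance, MonoidHom.id _, ⟨?_, ?_, ?_⟩, ?_⟩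
    · exact Function.surjective_id
    · intro x hx
      rw [MonoidHom.mem_ker, MonoidHom.id_apply] at hx
      rw [hx]
      exact one_mem _
    · intro x hx
      rw [MonoidHom.mem_ker, MonoidHom.id_apply] at hx
      rw [hx]
      exact one_mem _
    · have hsub : Subsingleton ↥(MonoidHom.id ↥(chevG2.group F)).ker := by
        constructor
        intro a b
        apply Subtype.ext
        have ha := a.2
        have hb := b.2
        rw [MonoidHom.mem_ker, MonoidHom.id_apply] at ha hb
        rw [ha, hb]
      have hsub2 : Subsingleton (Multiplicative (ZMod 1)) := by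
        constructor
        intro a b
        exact Subsingleton.elim (α := ZMod 1) a b
      exact ⟨{ toFun := fun _ => 1
               invFun := fun _ => 1
               left_inv := fun a => Subsingleton.elim _ _
               right_inv := fun a => Subsingleton.elim _ _
               map_mul' := fun a b => Subsingleton.elim _ _ }⟩
  · intro Γ _ _ σ hσ
    obtain ⟨hsurj, hcen, hcomm⟩ := hσ
    have hbot : ∀ z ∈ σ.ker, z = 1 := by
      obtain ⟨a, ha0, ha2⟩ := hK.pw 2 (by norm_num) (by norm_num)
      let C : Ctx chevG2 G2_mem_Seven F Γ :=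
        { Ψ := (chevG2.group F).subtype.comp σ
          hc := by
            intro x hx
            apply hcen
            rw [MonoidHom.mem_ker] at hx ⊢
            exact Subtype.ext hx
          hsurj := by
            intro g hg
            obtain ⟨e, he⟩ := hsurj ⟨g, hg⟩
            exact ⟨e, by show ((σ e : ↥(chevG2.group F)) : GL chevG2.Idx F) = g; rw [he]⟩
          a₀ := a
          ha0 := ha0
          ha2 := ha2 }
      obtain ⟨τ, hτ⟩ := exists_lift C (lc_of_good C good_G2 hK) comb_G2 hK
      have hinj := injective_cover_G2 (C.Ψ.comp τ) (fun r t hr => hτ r t hr)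
      -- `σ ∘ τ` is onto
      have hστ : Function.Surjective (σ.comp τ) := by
        rw [← MonoidHom.range_eq_top, eq_top_iff, ← (gGens chevG2 G2_mem_Seven F).gen,
          Subgroup.closure_le]
        rintro g ⟨r, t, hr, rfl⟩
        refine ⟨chevG2.scGen F r t, ?_⟩
        apply Subtype.ext
        exact hτ r t hr
      -- the commutator subgroup lies in the range of `τ`
      have hcr : commutator Γ ≤ τ.range := by
        rw [commutator_eq_closure, Subgroup.closure_le]
        rintro x ⟨g, g', rfl⟩
        obtain ⟨d, hd⟩ := hστ (σ g)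
        obtain ⟨d', hd'⟩ := hστ (σ g')
        refine ⟨d * d' * d⁻¹ * d'⁻¹, ?_⟩
        rw [commutatorElement_def, map_mul, map_mul, map_mul, map_inv, map_inv]
        exact comm_lift_indep σ hcen hd hd'
      intro z hz
      obtain ⟨d, rfl⟩ := hcr (hcomm hz)
      have h1 : (C.Ψ.comp τ) d = (C.Ψ.comp τ) 1 := by
        rw [map_one]
        show ((σ (τ d) : ↥(chevG2.group F)) : GL chevG2.Idx F) = 1
        rw [MonoidHom.mem_ker.1 hz]
        rfl
      rw [hinj h1, map_one]
    refine ⟨1, ?_⟩
    intro z
    refine ⟨1, ?_⟩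
    apply Subtype.ext
    rw [MonoidHom.one_apply]
    exact (hbot z.1 z.2).symm

end Cfsg.Agent.Lib.Helper8.StLift
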