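import Mathlib
import Cfsg.Agent.Lib.Helper8.StLiftA

set_option autoImplicit false

/-!
Central extensions of a group generated by "root elements" `x r t`: lifts of commuting root elements
commute as soon as one of them is a commutator of root elements commuting with the other; the
commutator of lifts is biadditive; the three-root identity; the move of a decomposition.
No torus is used, so everything holds over every field.
-/

namespace Cfsg.Agent.Lib.Helper8.StSl

open Cfsg.Agent.Lib.Helper8.StLift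

section grp

variable {E : Type*} [Group E]

/-- the commutator written out -/
def cm (e f : E) : E := e * f * e⁻¹ * f⁻¹

theorem cm_mul_left (e e' f : E) : cm (e * e') f = e * cm e' f * e⁻¹ * cm e f := by
  unfold cm; group

theorem cm_mul_right (e f f' : E) : cm e (f * f') = cm e f * (f * cm e f' * f⁻¹) := by
  unfold cm; group

theorem cm_inv (e f : E) : (cm e f)⁻¹ = cm f e := by
  unfold cm; group

theorem cm_central_left {z : E} (hz : z ∈ Subgroup.center E) (h : E) : cm z h = 1 := by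
  unfold cm
  rw [← Subgroup.mem_center_iff.1 hz h]
  group

theorem cm_central_right {z : E} (hz : z ∈ Subgroup.center E) (h : E) : cm h z = 1 := by
  unfold cm
  rw [Subgroup.mem_center_iff.1 hz h]
  group

/-- the three-root identity -/
theorem cm_three (X Y Z : E) (hXZ : X * Z = Z * X)
    (hWV : cm X Y * cm Y Z = cm Y Z * cm X Y)
    (hVC : cm Y Z * cm (cm X Y) Z = cm (cm X Y) Z * cm Y Z) :
    cm X (cm Y Z) = cm (cm X Y) Z := by
  have hZ : X * Z * X⁻¹ = Z := by rw [hXZ]; group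
  have hY : X * Y * X⁻¹ = cm X Y * Y := by unfold cm; group
  -- `X V X⁻¹ = ⁅W Y, Z⁆`
  have h1 : X * cm Y Z * X⁻¹ = cm (cm X Y * Y) Z := by
    have : X * cm Y Z * X⁻¹ = cm (X * Y * X⁻¹) (X * Z * X⁻¹) := by unfold cm; group
    rw [this, hZ, hY]
  have h2 : cm (cm X Y * Y) Z = cm X Y * cm Y Z * (cm X Y)⁻¹ * cm (cm X Y) Z :=
    cm_mul_left _ _ _
  have h3 : cm X Y * cm Y Z * (cm X Y)⁻¹ = cm Y Z := by rw [hWV]; group
  have h4 : X * cm Y Z * X⁻¹ = cm Y Z * cm (cm X Y) Z := by rw [h1, h2, h3]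
  calc cm X (cm Y Z) = (X * cm Y Z * X⁻¹) * (cm Y Z)⁻¹ := by unfold cm; group
    _ = cm Y Z * cm (cm X Y) Z * (cm Y Z)⁻¹ := by rw [h4]
    _ = cm (cm X Y) Z := by rw [hVC]; group

end grp

section cext

variable {E G : Type*} [Group E] [Group G] (Ψ : E →* G)

theorem map_cm (e f : E) : Ψ (cm e f) = cm (Ψ e) (Ψ f) := by
  unfold cm
  rw [map_mul, map_mul, map_mul, map_inv, map_inv]

theorem cm_lift_indep (hc : Ψ.ker ≤ Subgroup.center E) {a a' b b' : E} (ha : Ψ a = Ψ a')
    (hb : Ψ b = Ψ b') : cm a b = cm a' b' :=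
  comm_lift_indep Ψ hc ha hb

/-- elements with commuting images commute up to a central element -/
theorem conj_eq_mul_central (hc : Ψ.ker ≤ Subgroup.center E) {e f : E}
    (h : Ψ e * Ψ f = Ψ f * Ψ e) : ∃ z ∈ Subgroup.center E, e * f * e⁻¹ = f * z := by
  refine ⟨f⁻¹ * (e * f * e⁻¹), hc ?_, by group⟩
  rw [MonoidHom.mem_ker, map_mul, map_inv, map_mul, map_mul, map_inv, h]
  group

/-- an element commuting with `f` and `g` up to central elements commutes with their commutator -/
theorem commute_cm_of_central {e f g z z' : E} (hz : z ∈ Subgroup.center E)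
    (hz' : z' ∈ Subgroup.center E) (hf : e * f * e⁻¹ = f * z) (hg : e * g * e⁻¹ = g * z') :
    e * cm f g = cm f g * e := by
  have h1 : e * cm f g * e⁻¹ = cm (e * f * e⁻¹) (e * g * e⁻¹) := by unfold cm; group
  have h2 : cm (f * z) (g * z') = cm f g := by
    rw [cm_mul_left, cm_central_left hz, cm_mul_right, cm_central_right hz']
    group
  have h3 : e * cm f g * e⁻¹ = cm f g := by rw [h1, hf, hg, h2]
  calc e * cm f g = (e * cm f g * e⁻¹) * e := by group
    _ = cm f g * e := by rw [h3]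

end cext

section roots

variable {E G : Type*} [Group E] [Group G] (Ψ : E →* G) {K : Type*} [Field K] (x : ℕ → K → G)

/-- the root elements of `a` and `b` commute -/
def Cm (a b : ℕ) : Prop := ∀ t u : K, x a t * x b u = x b u * x a t

/-- any lifts of root elements of `a` and `b` commute -/
def LCm (a b : ℕ) : Prop :=
  ∀ (e e' : E) (t u : K), Ψ e = x a t → Ψ e' = x b u → e * e' = e' * e

/-- `⁅x_a(t), x_b(u)⁆ = x_k(N t u)` -/
def Sm (a b k : ℕ) (N : K) : Prop := ∀ t u : K, cm (x a t) (x b u) = x k (N * t * u)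

variable {Ψ x} (hc : Ψ.ker ≤ Subgroup.center E) (xl : ℕ → K → E)
  (hxl : ∀ r t, Ψ (xl r t) = x r t)

include hc hxl

/-- (B0) lifts of commuting root elements commute, if one of the roots is a sum of two roots that
both commute with the other -/
theorem lcm_of_dec {a b c d : ℕ} {N : K} (hN : N * N = 1) (hS : Sm x c d b N) (h1 : Cm x a c)
    (h2 : Cm x a d) : LCm Ψ x a b := by
  intro e e' t u he he'
  have hΨ : Ψ (cm (xl c (N * u)) (xl d 1)) = Ψ e' := by
    rw [map_cm, hxl, hxl, hS, he']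
    congr 1
    calc N * (N * u) * 1 = (N * N) * u := by ring
      _ = u := by rw [hN, one_mul]
  obtain ⟨z, hz, hf⟩ := conj_eq_mul_central Ψ hc (e := e) (f := xl c (N * u))
    (by rw [he, hxl]; exact h1 t _)
  obtain ⟨z', hz', hg⟩ := conj_eq_mul_central Ψ hc (e := e) (f := xl d 1)
    (by rw [he, hxl]; exact h2 t _)
  have h3 := commute_cm_of_central hz hz' hf hg
  exact (commute_lift_indep Ψ hc hΨ h3.symm).symm

/-- the commutator of the chosen lifts -/
def gg (a b : ℕ) (t u : K) : E := cm (xl a t) (xl b u)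

omit hc in
theorem map_gg {a b k : ℕ} {N : K} (hS : Sm x a b k N) (t u : K) :
    Ψ (gg xl a b t u) = x k (N * t * u) := by
  unfold gg
  rw [map_cm, hxl, hxl, hS]

theorem gg_eq_cm {a b : ℕ} {t u : K} {e f : E} (he : Ψ e = x a t) (hf : Ψ f = x b u) :
    gg xl a b t u = cm e f := by
  unfold gg
  apply cm_lift_indep Ψ hc
  · rw [hxl, he]
  · rw [hxl, hf]

theorem gg_add_left {c d b : ℕ} {N : K} (hadd : ∀ t u, x c (t + u) = x c t * x c u)
    (hS : Sm x c d b N) (hcb : LCm Ψ x c b) (hbb : LCm Ψ x b b) (t t' u : K) :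
    gg xl c d (t + t') u = gg xl c d t u * gg xl c d t' u := by
  have h1 : gg xl c d (t + t') u = cm (xl c t * xl c t') (xl d u) :=
    gg_eq_cm hc xl hxl (by rw [map_mul, hxl, hxl, hadd]) (hxl _ _)
  rw [h1, cm_mul_left]
  have h2 : xl c t * cm (xl c t') (xl d u) = cm (xl c t') (xl d u) * xl c t :=
    hcb _ _ t (N * t' * u) (hxl _ _) (map_gg xl hxl hS t' u)
  have h3 : xl c t * cm (xl c t') (xl d u) * (xl c t)⁻¹ = cm (xl c t') (xl d u) := by
    rw [h2]; group
  rw [h3]
  exact hbb _ _ (N * t' * u) (N * t * u) (map_gg xl hxl hS t' u) (map_gg xl hxl hS t u)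

theorem gg_add_right {c d b : ℕ} {N : K} (hadd : ∀ t u, x d (t + u) = x d t * x d u)
    (hS : Sm x c d b N) (hdb : LCm Ψ x d b) (t u u' : K) :
    gg xl c d t (u + u') = gg xl c d t u * gg xl c d t u' := by
  have h1 : gg xl c d t (u + u') = cm (xl c t) (xl d u * xl d u') :=
    gg_eq_cm hc xl hxl (hxl _ _) (by rw [map_mul, hxl, hxl, hadd])
  rw [h1, cm_mul_right]
  have h2 : xl d u * cm (xl c t) (xl d u') = cm (xl c t) (xl d u') * xl d u :=
    hdb _ _ u (N * t * u') (hxl _ _) (map_gg xl hxl hS t u')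
  have h3 : xl d u * cm (xl c t) (xl d u') * (xl d u)⁻¹ = cm (xl c t) (xl d u') := by
    rw [h2]; group
  rw [h3]
  rfl

/-- the move of a decomposition: `⁅x̂_a(t), x̂_b(u)⁆ = ⁅x̂_{a+c}(N₁N₂tu), x̂_d(1)⁆` for `b = c + d`,
`a` and `d` commuting -/
theorem gg_move {a b c d p e : ℕ} {N1 N2 N4 : K} (hN2 : N2 * N2 = 1)
    (hS1 : Sm x a c p N1) (hS2 : Sm x c d b N2) (hS4 : Sm x p d e N4)
    (had : LCm Ψ x a d) (hpb : LCm Ψ x p b) (hbe : LCm Ψ x b e) (t u : K) :
    gg xl a b t u = gg xl p d (N1 * N2 * t * u) 1 := by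
  set X := xl a t with hX
  set Y := xl c (N2 * u) with hY
  set Z := xl d 1 with hZ
  have hV : Ψ (cm Y Z) = x b u := by
    rw [map_cm, hY, hZ, hxl, hxl, hS2]
    congr 1
    calc N2 * (N2 * u) * 1 = (N2 * N2) * u := by ring
      _ = u := by rw [hN2, one_mul]
  have hW : Ψ (cm X Y) = x p (N1 * N2 * t * u) := by
    rw [map_cm, hX, hY, hxl, hxl, hS1]
    congr 1
    ring
  have hC : Ψ (cm (cm X Y) Z) = x e (N4 * (N1 * N2 * t * u) * 1) := by
    rw [map_cm, hW, hZ, hxl, hS4]
  have h1 : gg xl a b t u = cm X (cm Y Z) := gg_eq_cm hc xl hxl (hxl _ _) hV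
  have h2 : gg xl p d (N1 * N2 * t * u) 1 = cm (cm X Y) Z := gg_eq_cm hc xl hxl hW (hxl _ _)
  rw [h1, h2]
  apply cm_three
  · exact had _ _ t 1 (hxl _ _) (hxl _ _)
  · exact hpb _ _ _ _ hW hV
  · exact hbe _ _ _ _ hV hC

end roots

end Cfsg.Agent.Lib.Helper8.StSl
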