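import Mathlib
import Cfsg.Prelude.Def_ChevStructure
import Cfsg.Agent.Lib.Helper8.StSlA
import Cfsg.Agent.Lib.Helper8.StLiftB
import Cfsg.Agent.Lib.Helper5.FieldFix.Basic

set_option autoImplicit false

/-!
Simply-laced data: the Boolean certificate checker and what it gives in the Chevalley group.
-/

namespace Cfsg.Agent.Lib.Helper8.StSl

open Cfsg Cfsg.Lie Cfsg.Agent.Lib.Helper5.ChevSym Cfsg.Agent.Lib.Helper5.ChevStruct
  Cfsg.Agent.Lib.Helper5.StPres Cfsg.Agent.Lib.Helper8.StLift

/-- the commutator formula when both chain entries have at most one term -/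
theorem commTerms_of_short (D : ChevalleyDatum) (r s : ℕ) (h : (D.chainEntry r s).length ≤ 1)
    (h' : (D.chainEntry s r).length ≤ 1) :
    D.commTerms r s = (D.chainEntry r s).map fun e => (e.1, e.2, 1, 1) := by
  unfold ChevalleyDatum.commTerms ChevalleyDatum.chainRoot ChevalleyDatum.chainM
  generalize D.chainEntry r s = L at h ⊢
  generalize D.chainEntry s r = L' at h' ⊢
  rcases L with _ | ⟨a, _ | ⟨b, L⟩⟩
  · rcases L' with _ | ⟨a', _ | ⟨b', L'⟩⟩
    · simp
    · simp
    · simp at h'
  · rcases L' with _ | ⟨a', _ | ⟨b', L'⟩⟩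
    · simp
    · simp
    · simp at h'
  · simp at h

/-- `t ↦ x_r(t)` is injective -/
theorem xGL_inj_sl {K : Type*} [Field K] (D : ChevalleyDatum) (hD : D ∈ Seven) (r : ℕ)
    (hr : r < D.nroots) (t u : K) (h : xGL D hD r t = xGL D hD r u) : t = u := by
  apply Cfsg.Agent.Lib.Helper5.FieldFix.x_inj_param D hD r hr
  have := congrArg (fun g : GL D.Idx K => (g : Matrix D.Idx D.Idx K)) h
  simpa [xGL_val] using this

/-! ### The checker -/

def pmB (N : ℤ) : Bool := N == 1 || N == -1

theorem pmB_spec {N : ℤ} (h : pmB N = true) : N = 1 ∨ N = -1 := by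
  simpa [pmB] using h

theorem pm_cast_sq {K : Type*} [Field K] {N : ℤ} (h : pmB N = true) : (N : K) * (N : K) = 1 := by
  rcases pmB_spec h with rfl | rfl <;> simp

/-- the root elements of `a` and `c` commute, by the table -/
def cmB (D : ChevalleyDatum) (a c : ℕ) : Bool :=
  (a == c) || (c != D.neg a && (D.chainEntry a c).isEmpty)

theorem cmB_spec {D : ChevalleyDatum} {a c : ℕ} (h : cmB D a c = true) :
    a = c ∨ (c ≠ D.neg a ∧ D.chainEntry a c = []) := by
  unfold cmB at h
  rw [Bool.or_eq_true, Bool.and_eq_true] at h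
  rcases h with h | ⟨h1, h2⟩
  · exact Or.inl (by simpa using h)
  · exact Or.inr ⟨by simpa using h1, by simpa using h2⟩

/-- `a + b` is the root `k`, with structure constant `±1` -/
def smB (D : ChevalleyDatum) (a b k : ℕ) : Bool :=
  match D.chainEntry a b with
  | [(k', N)] => k' == k && pmB N
  | _ => false

theorem smB_spec {D : ChevalleyDatum} {a b k : ℕ} (h : smB D a b k = true) :
    ∃ N, D.chainEntry a b = [(k, N)] ∧ pmB N = true := by
  unfold smB at h
  split at h
  · rename_i k' N heq
    rw [Bool.and_eq_true] at h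
    have hk : k' = k := by simpa using h.1
    exact ⟨N, by rw [heq, hk], h.2⟩
  · exact absurd h (by simp)

/-- the certificate check for the ordered pair `(a, b)` with table entry `w`; `decf` gives the
chosen decompositions and `twf` the table entries `c + 256 d + 65536 rank` -/
def chkW (D : ChevalleyDatum) (decf : ℕ → ℕ × ℕ) (twf : ℕ → ℕ → ℕ) (a b w : ℕ) : Bool :=
  if b = D.neg a then (D.chainEntry a b).isEmpty
  else
    match D.chainEntry a b with
    | [] => decide (w % 256 < D.nroots) && decide (w / 256 % 256 < D.nroots) &&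
        smB D (w % 256) (w / 256 % 256) b && cmB D a (w % 256) &&
        cmB D a (w / 256 % 256)
    | [(e, M)] =>
        (a != b) && pmB M && decide (e < D.nroots) && decide (w % 256 < D.nroots) &&
        decide (w / 256 % 256 < D.nroots) &&
        (match D.chainEntry a (w % 256) with
          | [(p, N1)] => pmB N1 && decide (p < D.nroots) &&
              smB D (w % 256) (w / 256 % 256) b &&
              cmB D a (w / 256 % 256) && smB D p (w / 256 % 256) e &&
              cmB D p b && cmB D b e && cmB D a e &&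
              (decf e == (a, b) ||
                decide (twf p (w / 256 % 256) / 65536 < w / 65536))
          | _ => false)
    | _ => false

/-- the certificate check for the ordered pair `(a, b)` -/
def chk (D : ChevalleyDatum) (decf : ℕ → ℕ × ℕ) (twf : ℕ → ℕ → ℕ) (a b : ℕ) : Bool :=
  chkW D decf twf a b (twf a b)

/-- the check of the chosen decompositions -/
def chkDec (D : ChevalleyDatum) (decf : ℕ → ℕ × ℕ) (e : ℕ) : Bool :=
  decide ((decf e).1 < D.nroots) && decide ((decf e).2 < D.nroots) &&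
    smB D (decf e).1 (decf e).2 e

/-- the certificate -/
structure Cert (D : ChevalleyDatum) (decf : ℕ → ℕ × ℕ) (twf : ℕ → ℕ → ℕ) : Prop where
  hchk : ∀ a < D.nroots, ∀ b < D.nroots, chk D decf twf a b = true
  hdec : ∀ e < D.nroots, chkDec D decf e = true

section extract

variable {D : ChevalleyDatum} {decf : ℕ → ℕ × ℕ} {twf : ℕ → ℕ → ℕ} (hC : Cert D decf twf)

include hC

theorem Cert.short {a b : ℕ} (ha : a < D.nroots) (hb : b < D.nroots) :
    (D.chainEntry a b).length ≤ 1 := by
  have h := hC.hchk a ha b hb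
  unfold chk chkW at h
  split at h
  · have : D.chainEntry a b = [] := by simpa using h
    rw [this]; simp
  · split at h
    · rename_i heq; rw [heq]; simp
    · rename_i heq; rw [heq]; simp
    · exact absurd h (by simp)

/-- the certificate of a commuting pair -/
theorem Cert.com {a b : ℕ} (ha : a < D.nroots) (hb : b < D.nroots) (hne : b ≠ D.neg a)
    (h0 : D.chainEntry a b = []) :
    ∃ c d, c < D.nroots ∧ d < D.nroots ∧ smB D c d b = true ∧ cmB D a c = true ∧
      cmB D a d = true := by
  have h := hC.hchk a ha b hb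
  unfold chk chkW at h
  rw [if_neg hne, h0] at h
  simp only [Bool.and_eq_true, decide_eq_true_eq] at h
  exact ⟨_, _, h.1.1.1.1, h.1.1.1.2, h.1.1.2, h.1.2, h.2⟩

theorem Cert.entry_self {a : ℕ} (ha : a < D.nroots) (hna : D.neg a ≠ a) :
    D.chainEntry a a = [] := by
  have h := hC.hchk a ha a ha
  unfold chk chkW at h
  rw [if_neg (fun h' => hna h'.symm)] at h
  split at h
  · rename_i heq; exact heq
  · simp at h
  · exact absurd h (by simp)

/-- the certificate of a pair whose sum is a root -/
theorem Cert.sum {a b e : ℕ} {M : ℤ} (ha : a < D.nroots) (hb : b < D.nroots)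
    (h1 : D.chainEntry a b = [(e, M)]) :
    b ≠ D.neg a ∧ a ≠ b ∧ pmB M = true ∧ e < D.nroots ∧
    ∃ c d p N1, c < D.nroots ∧ d < D.nroots ∧ D.chainEntry a c = [(p, N1)] ∧ pmB N1 = true ∧
      p < D.nroots ∧ smB D c d b = true ∧ cmB D a d = true ∧ smB D p d e = true ∧
      cmB D p b = true ∧ cmB D b e = true ∧ cmB D a e = true ∧
      (decf e = (a, b) ∨ twf p d / 65536 < twf a b / 65536) := by
  have h := hC.hchk a ha b hb
  unfold chk chkW at h
  by_cases hne : b = D.neg a
  · rw [if_pos hne, h1] at h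
    simp at h
  rw [if_neg hne, h1] at h
  simp only [Bool.and_eq_true, decide_eq_true_eq] at h
  obtain ⟨⟨⟨⟨⟨hab, hM⟩, he⟩, hc⟩, hd⟩, h⟩ := h
  refine ⟨hne, by simpa using hab, hM, he, ?_⟩
  split at h
  · rename_i p N1 heq
    simp only [Bool.and_eq_true, decide_eq_true_eq, Bool.or_eq_true, beq_iff_eq] at h
    obtain ⟨⟨⟨⟨⟨⟨⟨⟨hN1, hp⟩, hs1⟩, hc1⟩, hs2⟩, hc2⟩, hc3⟩, hc4⟩, hr⟩ := h
    exact ⟨_, _, p, N1, hc, hd, heq, hN1, hp, hs1, hc1, hs2, hc2, hc3, hc4, hr⟩
  · exact absurd h (by simp)

end extract

/-! ### The group -/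

section group

variable {D : ChevalleyDatum} (hD : D ∈ Seven) {decf : ℕ → ℕ × ℕ} {twf : ℕ → ℕ → ℕ}
  (hC : Cert D decf twf) (K : Type*) [Field K]

include hC

/-- commuting pairs of the table commute in the group -/
theorem Cert.cm_of {a c : ℕ} (ha : a < D.nroots) (hc : c < D.nroots) (h : cmB D a c = true) :
    Cm (xGL (F := K) D hD) a c := by
  intro t u
  by_cases hac : a = c
  · subst hac
    exact xGL_commute D hD a ha t u
  rcases cmB_spec h with h | ⟨h1, h2⟩
  · exact absurd h hac
  have hct : D.commTerms a c = [] := by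
    rw [commTerms_of_short D a c (hC.short ha hc) (hC.short hc ha), h2]
    rfl
  have hR := xGL_comm (K := K) D hD a c t u ha hc (fun h' => hac h'.symm) h1
  unfold ChevalleyDatum.commWord at hR
  rw [hct] at hR
  have h3 : wordGL (F := K) D hD [] = 1 := rfl
  rw [List.map_nil, h3] at hR
  symm
  calc xGL D hD c u * xGL D hD a t
      = xGL D hD a t * xGL D hD c u *
        ((xGL D hD c u)⁻¹ * (xGL D hD a t)⁻¹ * xGL D hD c u * xGL D hD a t) := by group
    _ = xGL D hD a t * xGL D hD c u := by rw [hR, mul_one]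

/-- pairs of the table whose sum is a root: the commutator in the group -/
theorem Cert.sm_of {a b k : ℕ} {N : ℤ} (ha : a < D.nroots) (hb : b < D.nroots)
    (h1 : D.chainEntry a b = [(k, N)]) : Sm (xGL (F := K) D hD) a b k (N : K) := by
  obtain ⟨hne, hab, -, hk, -⟩ := hC.sum ha hb h1
  intro t u
  have hct : D.commTerms a b = [(k, N, 1, 1)] := by
    rw [commTerms_of_short D a b (hC.short ha hb) (hC.short hb ha), h1]
    rfl
  have hR := xGL_comm (K := K) D hD a b (-t) (-u) ha hb (fun h' => hab h'.symm) hne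
  unfold ChevalleyDatum.commWord at hR
  rw [hct] at hR
  have h3 : wordGL (F := K) D hD [(k, (N : K) * (- -t) ^ 1 * (-u) ^ 1)]
      = xGL D hD k ((N : K) * (- -t) ^ 1 * (-u) ^ 1) := by
    unfold wordGL
    simp
  rw [List.map_cons, List.map_nil, h3, xGL_neg D hD a ha, xGL_neg D hD b hb, inv_inv, inv_inv] at hR
  have h4 : (N : K) * (- -t) ^ 1 * (-u) ^ 1 = -((N : K) * t * u) := by ring
  rw [h4, xGL_neg D hD k hk] at hR
  unfold cm
  have h5 : xGL D hD a t * xGL D hD b u * (xGL D hD a t)⁻¹ * (xGL D hD b u)⁻¹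
      = (xGL D hD b u * xGL D hD a t * (xGL D hD b u)⁻¹ * (xGL D hD a t)⁻¹)⁻¹ := by group
  rw [h5, hR, inv_inv]

end group

end Cfsg.Agent.Lib.Helper8.StSl
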