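import Mathlib
import Cfsg.Agent.Lib.Helper8.StSlB

set_option autoImplicit false

/-!
The lifting theorem for certified simply-laced data, over every field: a central extension of the
Chevalley group receives a homomorphism from the group presented by (R1), (R2).
-/

namespace Cfsg.Agent.Lib.Helper8.StSl

open Cfsg Cfsg.Lie Cfsg.Agent.Lib.Helper5.ChevSym Cfsg.Agent.Lib.Helper5.ChevStruct
  Cfsg.Agent.Lib.Helper5.StPres Cfsg.Agent.Lib.Helper8.StLift

/-- a central extension of the Chevalley group, given as a homomorphism to `GL` whose image contains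
the group and whose kernel is central -/
structure Ctx0 (D : ChevalleyDatum) (hD : D ∈ Seven) (K : Type*) [Field K] (E : Type*) [Group E] where
  Ψ : E →* GL D.Idx K
  hc : Ψ.ker ≤ Subgroup.center E
  hsurj : ∀ g ∈ D.group K, ∃ e, Ψ e = g

variable {D : ChevalleyDatum} {hD : D ∈ Seven} {K : Type*} [Field K] {E : Type*} [Group E]
  (C : Ctx0 D hD K E)

/-- a chosen lift of `x_r(t)` -/
noncomputable def Ctx0.xl (r : ℕ) (t : K) : E :=
  Classical.choose (C.hsurj (xGL D hD r t) (xGL_mem_group D hD r t))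

theorem Ctx0.Ψ_xl (r : ℕ) (t : K) : C.Ψ (C.xl r t) = xGL D hD r t :=
  Classical.choose_spec (C.hsurj (xGL D hD r t) (xGL_mem_group D hD r t))

/-- the homomorphism from the presented group attached to elements satisfying (R1), (R2) -/
theorem lift_of_Y (hD : D ∈ Seven) (Y : ℕ → K → E)
    (hadd : ∀ (r : ℕ) (t u : K), r < D.nroots → Y r t * Y r u = Y r (t + u))
    (hcomm : ∀ (r s : ℕ) (t u : K), r < D.nroots → s < D.nroots → s ≠ r → s ≠ D.neg r →
      (Y s u)⁻¹ * (Y r t)⁻¹ * Y s u * Y r t = ((D.commWord K r s t u).map fun p => Y p.1 p.2).prod) :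
    ∃ τ : D.SteinbergCover K →* E, ∀ (r : ℕ) (t : K), r < D.nroots →
      τ (D.scGen K r t) = Y r t := by
  classical
  set Γ₀ : Subgroup E := Subgroup.closure {g : E | ∃ (r : ℕ) (t : K), r < D.nroots ∧ g = Y r t}
    with hΓ₀
  have hmem : ∀ (r : ℕ) (t : K), r < D.nroots → Y r t ∈ Γ₀ := fun r t hr =>
    Subgroup.subset_closure ⟨r, t, hr, rfl⟩
  let X : ℕ → K → ↥Γ₀ := fun r t => if h : r < D.nroots then ⟨Y r t, hmem r t h⟩ else 1
  have hX : ∀ (r : ℕ) (t : K), r < D.nroots → (X r t : E) = Y r t := by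
    intro r t hr
    simp only [X, dif_pos hr]
  have hword : ∀ (l : List (ℕ × K)), (∀ p ∈ l, p.1 < D.nroots) →
      (((l.map fun p => X p.1 p.2).prod : ↥Γ₀) : E) = (l.map fun p => Y p.1 p.2).prod := by
    intro l
    induction l with
    | nil => intro _; rfl
    | cons p l ih =>
      intro hl
      rw [List.map_cons, List.prod_cons, Subgroup.coe_mul, hX p.1 p.2 (hl p List.mem_cons_self),
        ih (fun p' hp' => hl p' (List.mem_cons_of_mem _ hp')), List.map_cons, List.prod_cons]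
  let R : RootGens D K ↥Γ₀ :=
    { X := X
      X_add := by
        intro r t u hr
        apply Subtype.ext
        rw [Subgroup.coe_mul, hX r t hr, hX r u hr, hX r (t + u) hr, hadd r t u hr]
      X_comm := by
        intro r q t u hr hq hqr hqn
        apply Subtype.ext
        rw [hword _ (commWord_lt hD r q hr hq hqr hqn t u), Subgroup.coe_mul, Subgroup.coe_mul,
          Subgroup.coe_mul, Subgroup.coe_inv, Subgroup.coe_inv, hX r t hr, hX q u hq]
        exact hcomm r q t u hr hq hqr hqn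
      gen := by
        rw [eq_top_iff]
        rintro ⟨g, hg⟩ -
        have key : ∀ (g : E) (hg : g ∈ Γ₀), (⟨g, hg⟩ : ↥Γ₀) ∈ Subgroup.closure
            {g : ↥Γ₀ | ∃ (r : ℕ) (t : K), r < D.nroots ∧ g = X r t} := by
          intro g hg
          refine Subgroup.closure_induction
            (p := fun g (hg : g ∈ Subgroup.closure {g : E | ∃ (r : ℕ) (t : K),
              r < D.nroots ∧ g = Y r t}) => (⟨g, hg⟩ : ↥Γ₀) ∈ Subgroup.closure
                {g : ↥Γ₀ | ∃ (r : ℕ) (t : K), r < D.nroots ∧ g = X r t}) ?_ ?_ ?_ ?_ hg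
          · rintro x ⟨r, t, hr, rfl⟩
            apply Subgroup.subset_closure
            exact ⟨r, t, hr, Subtype.ext (hX r t hr).symm⟩
          · exact one_mem _
          · intro x y hx hy ihx ihy
            exact mul_mem ihx ihy
          · intro x hx ih
            exact inv_mem ih
        exact key g hg }
  refine ⟨Γ₀.subtype.comp (R.fromCover hD), ?_⟩
  intro r t hr
  show ((R.fromCover hD (D.scGen K r t) : ↥Γ₀) : E) = Y r t
  rw [R.fromCover_scGen hD r hr t]
  exact hX r t hr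

section cert

variable {decf : ℕ → ℕ × ℕ} {twf : ℕ → ℕ → ℕ} (hC : Cert D decf twf)

include hC

/-- (B0) lifts of commuting root elements commute -/
theorem Ctx0.lcm_of {a b : ℕ} (ha : a < D.nroots) (hb : b < D.nroots) (h : cmB D a b = true) :
    LCm C.Ψ (xGL D hD) a b := by
  have hna := (neg_lt D hD a ha).2.1
  have hab : b ≠ D.neg a ∧ D.chainEntry a b = [] := by
    rcases cmB_spec h with h' | h'
    · subst h'
      exact ⟨fun h => hna h.symm, hC.entry_self ha hna⟩
    · exact h'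
  obtain ⟨c, d, hc, hd, hs, h1, h2⟩ := hC.com ha hb hab.1 hab.2
  obtain ⟨N, hN, hpm⟩ := smB_spec hs
  exact lcm_of_dec C.hc C.xl C.Ψ_xl (pm_cast_sq hpm) (hC.sm_of hD K hc hd hN)
    (hC.cm_of hD K ha hc h1) (hC.cm_of hD K ha hd h2)

omit hC in
theorem cmB_self (D : ChevalleyDatum) (a : ℕ) : cmB D a a = true := by
  unfold cmB
  simp

/-- the commutator of the chosen lifts for `(a, b)` is that of the chosen decomposition of `a + b` -/
theorem Ctx0.descent : ∀ (m a b : ℕ), a < D.nroots → b < D.nroots → twf a b / 65536 = m →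
    ∀ (e : ℕ) (M : ℤ), D.chainEntry a b = [(e, M)] →
    ∃ κ : K, ∀ t u : K, gg C.xl a b t u
      = gg C.xl (decf e).1 (decf e).2 (κ * t * u) 1 := by
  intro m
  induction m using Nat.strong_induction_on with
  | _ m ih =>
    intro a b ha hb hm e M h1
    obtain ⟨hne, hab, hM, he, c, d, p, N1, hc, hd, hac, hN1, hp, hs1, hc1, hs2, hc2, hc3, hc4, hr⟩ :=
      hC.sum ha hb h1
    obtain ⟨N2, hN2, hpm2⟩ := smB_spec hs1
    obtain ⟨N4, hN4, hpm4⟩ := smB_spec hs2
    have hmove : ∀ t u : K, gg C.xl a b t u = gg C.xl p d ((N1 : K) * (N2 : K) * t * u) 1 :=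
      gg_move C.hc C.xl C.Ψ_xl (pm_cast_sq hpm2) (hC.sm_of hD K ha hc hac)
        (hC.sm_of hD K hc hd hN2) (hC.sm_of hD K hp hd hN4) (C.lcm_of hC ha hd hc1)
        (C.lcm_of hC hp hb hc2) (C.lcm_of hC hb he hc3)
    rcases hr with hr | hr
    · refine ⟨1, fun t u => ?_⟩
      rw [hr]
      show gg C.xl a b t u = gg C.xl a b (1 * t * u) 1
      rw [hmove t u, hmove (1 * t * u) 1]
      congr 1
      ring
    · obtain ⟨κ, hκ⟩ := ih _ (hm ▸ hr) p d hp hd rfl e N4 hN4
      refine ⟨κ * N1 * N2, fun t u => ?_⟩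
      rw [hmove t u, hκ]
      congr 1
      ring

omit hC in
/-- the structure constant of a pair -/
def entN (D : ChevalleyDatum) (a b : ℕ) : ℤ :=
  match D.chainEntry a b with
  | [(_, N)] => N
  | _ => 0

omit hC in
theorem entN_eq {D : ChevalleyDatum} {a b k : ℕ} {N : ℤ} (h : D.chainEntry a b = [(k, N)]) :
    entN D a b = N := by
  unfold entN
  rw [h]

omit hC in
/-- the canonical lifts -/
noncomputable def Ctx0.Y (decf : ℕ → ℕ × ℕ) (e : ℕ) (s : K) : E :=
  gg C.xl (decf e).1 (decf e).2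
    ((entN D (decf e).1 (decf e).2 : K) * s) 1

theorem Ctx0.dec_spec {e : ℕ} (he : e < D.nroots) :
    ∃ N : ℤ, (decf e).1 < D.nroots ∧ (decf e).2 < D.nroots ∧
      D.chainEntry (decf e).1 (decf e).2 = [(e, N)] ∧ pmB N = true ∧
      ∀ s : K, C.Y decf e s = gg C.xl (decf e).1 (decf e).2 ((N : K) * s) 1 := by
  have h := hC.hdec e he
  unfold chkDec at h
  simp only [Bool.and_eq_true, decide_eq_true_eq] at h
  obtain ⟨⟨hp, hq⟩, hs⟩ := h
  obtain ⟨N, hN, hpm⟩ := smB_spec hs
  refine ⟨N, hp, hq, hN, hpm, fun s => ?_⟩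
  unfold Ctx0.Y
  rw [entN_eq hN]

theorem Ctx0.Ψ_Y {e : ℕ} (he : e < D.nroots) (s : K) : C.Ψ (C.Y decf e s) = xGL D hD e s := by
  obtain ⟨N, hp, hq, hN, hpm, hY⟩ := C.dec_spec hC he
  rw [hY, map_gg C.xl C.Ψ_xl (hC.sm_of hD K hp hq hN)]
  congr 1
  calc (N : K) * ((N : K) * s) * 1 = ((N : K) * (N : K)) * s := by ring
    _ = s := by rw [pm_cast_sq hpm, one_mul]

theorem Ctx0.Y_add {e : ℕ} (he : e < D.nroots) (s s' : K) :
    C.Y decf e s * C.Y decf e s' = C.Y decf e (s + s') := by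
  obtain ⟨N, hp, hq, hN, hpm, hY⟩ := C.dec_spec hC he
  obtain ⟨-, -, -, -, c, d, p, N1, -, -, -, -, -, -, -, -, -, -, hc4, -⟩ := hC.sum hp hq hN
  rw [hY, hY, hY, mul_add]
  exact (gg_add_left C.hc C.xl C.Ψ_xl (fun t u => (xGL_add D hD _ hp t u).symm)
    (hC.sm_of hD K hp hq hN) (C.lcm_of hC hp he hc4) (C.lcm_of hC he he (cmB_self D e)) _ _ _).symm

theorem Ctx0.Y_zero {e : ℕ} (he : e < D.nroots) : C.Y decf e (0 : K) = 1 := by
  have h := C.Y_add hC he (0 : K) 0
  rw [add_zero] at h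
  exact mul_eq_left.1 h

theorem Ctx0.Y_neg {e : ℕ} (he : e < D.nroots) (s : K) : C.Y decf e (-s) = (C.Y decf e s)⁻¹ := by
  have h := C.Y_add hC he s (-s)
  rw [add_neg_cancel, C.Y_zero hC he] at h
  exact (inv_eq_of_mul_eq_one_right h).symm

/-- (R2) for the canonical lifts, when the sum is not a root -/
theorem Ctx0.Y_com {a b : ℕ} (ha : a < D.nroots) (hb : b < D.nroots) (hne : b ≠ D.neg a)
    (h0 : D.chainEntry a b = []) (t u : K) :
    (C.Y decf b u)⁻¹ * (C.Y decf a t)⁻¹ * C.Y decf b u * C.Y decf a t = 1 := by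
  have hcm : cmB D a b = true := by
    unfold cmB
    simp [hne, h0]
  have h := C.lcm_of hC ha hb hcm (C.Y decf a t) (C.Y decf b u) t u (C.Ψ_Y hC ha t) (C.Ψ_Y hC hb u)
  calc (C.Y decf b u)⁻¹ * (C.Y decf a t)⁻¹ * C.Y decf b u * C.Y decf a t
      = (C.Y decf b u)⁻¹ * (C.Y decf a t)⁻¹ * (C.Y decf b u * C.Y decf a t) := by group
    _ = (C.Y decf b u)⁻¹ * (C.Y decf a t)⁻¹ * (C.Y decf a t * C.Y decf b u) := by rw [h]
    _ = 1 := by group

/-- (R2) for the canonical lifts, when the sum is a root -/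
theorem Ctx0.Y_sum {a b e : ℕ} {M : ℤ} (ha : a < D.nroots) (hb : b < D.nroots)
    (h1 : D.chainEntry a b = [(e, M)]) (t u : K) :
    (C.Y decf b u)⁻¹ * (C.Y decf a t)⁻¹ * C.Y decf b u * C.Y decf a t
      = C.Y decf e ((M : K) * (-t) ^ 1 * u ^ 1) := by
  obtain ⟨-, -, -, he, -⟩ := hC.sum ha hb h1
  obtain ⟨κ, hκ⟩ := C.descent hC _ a b ha hb rfl e M h1
  obtain ⟨N, hp, hq, hN, hpm, hY⟩ := C.dec_spec hC he
  have hNN := pm_cast_sq (K := K) hpm
  -- the constant
  have hκM : (N : K) * κ = M := by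
    have h2 := congrArg C.Ψ (hκ 1 1)
    rw [map_gg C.xl C.Ψ_xl (hC.sm_of hD K ha hb h1),
      map_gg C.xl C.Ψ_xl (hC.sm_of hD K hp hq hN)] at h2
    have h3 := xGL_inj_sl D hD e he _ _ h2
    linear_combination -h3
  have e1 : (C.Y decf b u)⁻¹ * (C.Y decf a t)⁻¹ * C.Y decf b u * C.Y decf a t
      = (cm (C.Y decf a t)⁻¹ (C.Y decf b u)⁻¹)⁻¹ := by unfold cm; group
  have e2 : gg C.xl a b (-t) (-u) = cm (C.Y decf a t)⁻¹ (C.Y decf b u)⁻¹ :=
    gg_eq_cm C.hc C.xl C.Ψ_xl
      (by rw [map_inv, C.Ψ_Y hC ha, xGL_neg D hD a ha]) (by rw [map_inv, C.Ψ_Y hC hb, xGL_neg D hD b hb])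
  rw [e1, ← e2, hκ]
  -- both sides are canonical lifts
  have e3 : gg C.xl (decf e).1 (decf e).2 (κ * -t * -u) 1
      = C.Y decf e ((M : K) * t * u) := by
    rw [hY]
    congr 1
    rw [← hκM]
    calc κ * -t * -u = ((N : K) * (N : K)) * (κ * t * u) := by rw [hNN]; ring
      _ = (N : K) * ((N : K) * κ * t * u) := by ring
  rw [e3, ← C.Y_neg hC he]
  congr 1
  ring

/-- the lifting theorem for certified simply-laced data, over every field -/
theorem Ctx0.exists_lift :
    ∃ τ : D.SteinbergCover K →* E, ∀ (r : ℕ) (t : K), r < D.nroots →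
      C.Ψ (τ (D.scGen K r t)) = xGL D hD r t := by
  obtain ⟨τ, hτ⟩ := lift_of_Y hD (C.Y decf) (fun r t u hr => C.Y_add hC hr t u) (by
    intro r s t u hr hs hsr hsn
    have hct : D.commTerms r s = (D.chainEntry r s).map fun e => (e.1, e.2, 1, 1) :=
      commTerms_of_short D r s (hC.short hr hs) (hC.short hs hr)
    unfold ChevalleyDatum.commWord
    rw [hct]
    have hlen := hC.short hr hs
    rcases hL : D.chainEntry r s with _ | ⟨⟨e, M⟩, _ | ⟨b, L⟩⟩
    · rw [List.map_nil, List.map_nil, List.map_nil, List.prod_nil]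
      exact C.Y_com hC hr hs hsn hL t u
    · rw [List.map_cons, List.map_nil, List.map_cons, List.map_nil, List.map_cons, List.map_nil,
        List.prod_cons, List.prod_nil, mul_one]
      exact C.Y_sum hC hr hs hL t u
    · rw [hL] at hlen
      simp at hlen)
  exact ⟨τ, fun r t hr => by rw [hτ r t hr, C.Ψ_Y hC hr]⟩

end cert

end Cfsg.Agent.Lib.Helper8.StSl
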