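import Mathlib
import Cfsg.Prelude.Def_LieChev
import Cfsg.Agent.Lib.Helper8.StSlE8T

set_option autoImplicit false

/-!
The mirrors of the chain table and of the table of negatives of `E₈` agree with the datum.
-/

namespace Cfsg.Agent.Lib.Helper8.StSl

open Cfsg Cfsg.Lie

/-- every entry of the `j`-th bucket has second root in the `j`-th block of 16 -/
def bucketsOK {α : Type} (B : List (List (ℕ × α))) : Bool :=
  (List.range B.length).all fun j => (B.getD j []).all fun e => e.1 / 16 == j

/-- searching the flattened buckets is searching one bucket -/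
theorem find_flatten_aux {α : Type} (b : ℕ) :
    ∀ (B : List (List (ℕ × α))) (j0 : ℕ),
      (∀ j < B.length, ∀ e ∈ B.getD j [], e.1 / 16 = j0 + j) →
      (b / 16 < j0 → B.flatten.find? (fun e => decide (e.1 = b)) = none) ∧
      (j0 ≤ b / 16 → B.flatten.find? (fun e => decide (e.1 = b))
        = (B.getD (b / 16 - j0) []).find? (fun e => decide (e.1 = b))) := by
  intro B
  induction B with
  | nil =>
    intro j0 _
    simp
  | cons L B ih =>
    intro j0 h
    have hL : ∀ e ∈ L, e.1 / 16 = j0 := by
      intro e he
      have := h 0 (by simp) e (by simpa using he)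
      simpa using this
    have hB : ∀ j < B.length, ∀ e ∈ B.getD j [], e.1 / 16 = (j0 + 1) + j := by
      intro j hj e he
      have := h (j + 1) (by simp; omega) e (by simpa using he)
      omega
    obtain ⟨ih1, ih2⟩ := ih (j0 + 1) hB
    have hLnone : b / 16 ≠ j0 → L.find? (fun e => decide (e.1 = b)) = none := by
      intro hne
      rw [List.find?_eq_none]
      intro e he
      have := hL e he
      simp only [decide_eq_true_eq]
      intro h'
      rw [h'] at this
      exact hne this
    rw [List.flatten_cons, List.find?_append]
    constructor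
    · intro hlt
      rw [hLnone (by omega), ih1 (by omega)]
      rfl
    · intro hle
      by_cases heq : b / 16 = j0
      · rw [ih1 (by omega), heq, Nat.sub_self]
        simp
      · rw [hLnone heq, ih2 (by omega)]
        have : b / 16 - j0 = (b / 16 - (j0 + 1)) + 1 := by omega
        rw [this]
        simp

theorem find_flatten {α : Type} (B : List (List (ℕ × α))) (hB : bucketsOK B = true) (b : ℕ) :
    B.flatten.find? (fun e => decide (e.1 = b))
      = (B.getD (b / 16) []).find? (fun e => decide (e.1 = b)) := by
  have h : ∀ j < B.length, ∀ e ∈ B.getD j [], e.1 / 16 = 0 + j := by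
    intro j hj e he
    unfold bucketsOK at hB
    rw [List.all_eq_true] at hB
    have h1 := hB j (List.mem_range.2 hj)
    rw [List.all_eq_true] at h1
    have h2 := h1 e he
    simpa using h2
  have := (find_flatten_aux b B 0 h).2 (Nat.zero_le _)
  rw [this, Nat.sub_zero]

set_option maxRecDepth 100000 in
theorem e8_chain_ok : ∀ a ∈ List.range 240,
    bucketsOK (get2 e8Chain3 [] a) = true ∧
    (get2 e8Chain3 [] a).flatten
      = (chevE8.chain.getD a #[]).toList.map (fun e => (e.1, e.2.toList)) := by
  decide +kernel

set_option maxRecDepth 100000 in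
theorem e8_neg_ok : ∀ a ∈ List.range 240, get2 e8Neg2 0 a = chevE8.neg a := by
  decide +kernel

theorem e8_chain_size : chevE8.chain.size = 240 := by decide +kernel

theorem e8_neg_size : chevE8.negIdx.size = 240 := by decide +kernel

theorem e8_nroots : chevE8.nroots = 240 := by decide +kernel

theorem get2_default {α : Type} (L : List (List α)) (d : α) (i : ℕ) (h : L.length * 16 ≤ i) :
    get2 L d i = d := by
  unfold get2
  have h1 : L.length ≤ i / 16 := by
    rw [Nat.le_div_iff_mul_le (by norm_num)]
    exact h
  rw [List.getD_eq_default _ _ h1]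
  rfl

theorem e8ce_eq : e8ce = chevE8.chainEntry := by
  funext a b
  unfold e8ce ChevalleyDatum.chainEntry
  by_cases ha : a < 240
  · obtain ⟨hok, hfl⟩ := e8_chain_ok a (List.mem_range.2 ha)
    rw [← find_flatten _ hok b, hfl, List.find?_map]
    cases h : List.find? ((fun e : ℕ × List (ℕ × ℤ) => decide (e.1 = b)) ∘
        fun e : ℕ × Array (ℕ × ℤ) => (e.1, e.2.toList)) (chevE8.chain.getD a #[]).toList with
    | none =>
      have h' : List.find? (fun e : ℕ × Array (ℕ × ℤ) => decide (e.1 = b))
          (chevE8.chain.getD a #[]).toList = none := h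
      rw [h']
      rfl
    | some e =>
      have h' : List.find? (fun e : ℕ × Array (ℕ × ℤ) => decide (e.1 = b))
          (chevE8.chain.getD a #[]).toList = some e := h
      rw [h']
      rfl
  · have h1 : get2 e8Chain3 [] a = [] := get2_default _ _ _ (by
      have : e8Chain3.length = 15 := by decide +kernel
      rw [this]; omega)
    have h2 : chevE8.chain.getD a #[] = #[] := by
      rw [Array.getD_eq_getD_getElem?, Array.getElem?_eq_none (by rw [e8_chain_size]; omega)]
      rfl
    rw [h1, h2]
    rfl

theorem e8ng_eq : e8ng = chevE8.neg := by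
  funext a
  unfold e8ng
  by_cases ha : a < 240
  · exact e8_neg_ok a (List.mem_range.2 ha)
  · have h1 : get2 e8Neg2 0 a = 0 := get2_default _ _ _ (by
      have : e8Neg2.length = 15 := by decide +kernel
      rw [this]; omega)
    rw [h1]
    unfold ChevalleyDatum.neg
    rw [Array.getD_eq_getD_getElem?, Array.getElem?_eq_none (by rw [e8_neg_size]; omega)]
    rfl

end Cfsg.Agent.Lib.Helper8.StSl
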