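import Mathlib
import Cfsg.Prelude.Def_LieChev
import Cfsg.Agent.Lib.Helper8.StSlE6T
import Cfsg.Agent.Lib.Helper8.StSlE8M

set_option autoImplicit false

/-!
The mirrors of the chain table and of the table of negatives of `E₆` agree with the datum.
-/

namespace Cfsg.Agent.Lib.Helper8.StSl

open Cfsg Cfsg.Lie

set_option maxRecDepth 100000 in
theorem e6_chain_ok : ∀ a ∈ List.range 80,
    bucketsOK (get2 e6Chain3 [] a) = true ∧
    (get2 e6Chain3 [] a).flatten
      = (chevE6.chain.getD a #[]).toList.map (fun e => (e.1, e.2.toList)) := by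
  decide +kernel

set_option maxRecDepth 100000 in
theorem e6_neg_ok : ∀ a ∈ List.range 80, get2 e6Neg2 0 a = chevE6.neg a := by
  decide +kernel

theorem e6_chain_size : chevE6.chain.size = 72 := by decide +kernel

theorem e6_neg_size : chevE6.negIdx.size = 72 := by decide +kernel

theorem e6_nroots : chevE6.nroots = 72 := by decide +kernel

theorem e6ce_eq : e6ce = chevE6.chainEntry := by
  funext a b
  unfold e6ce ChevalleyDatum.chainEntry
  by_cases ha : a < 80
  · obtain ⟨hok, hfl⟩ := e6_chain_ok a (List.mem_range.2 ha)
    rw [← find_flatten _ hok b, hfl, List.find?_map]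
    cases h : List.find? ((fun e : ℕ × List (ℕ × ℤ) => decide (e.1 = b)) ∘
        fun e : ℕ × Array (ℕ × ℤ) => (e.1, e.2.toList)) (chevE6.chain.getD a #[]).toList with
    | none =>
      have h' : List.find? (fun e : ℕ × Array (ℕ × ℤ) => decide (e.1 = b))
          (chevE6.chain.getD a #[]).toList = none := h
      rw [h']
      rfl
    | some e =>
      have h' : List.find? (fun e : ℕ × Array (ℕ × ℤ) => decide (e.1 = b))
          (chevE6.chain.getD a #[]).toList = some e := h
      rw [h']
      rfl
  · have h1 : get2 e6Chain3 [] a = [] := get2_default _ _ _ (by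
      have : e6Chain3.length = 5 := by decide +kernel
      rw [this]; omega)
    have h2 : chevE6.chain.getD a #[] = #[] := by
      rw [Array.getD_eq_getD_getElem?, Array.getElem?_eq_none (by rw [e6_chain_size]; omega)]
      rfl
    rw [h1, h2]
    rfl

theorem e6ng_eq : e6ng = chevE6.neg := by
  funext a
  unfold e6ng
  by_cases ha : a < 80
  · exact e6_neg_ok a (List.mem_range.2 ha)
  · have h1 : get2 e6Neg2 0 a = 0 := get2_default _ _ _ (by
      have : e6Neg2.length = 5 := by decide +kernel
      rw [this]; omega)
    rw [h1]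
    unfold ChevalleyDatum.neg
    rw [Array.getD_eq_getD_getElem?, Array.getElem?_eq_none (by rw [e6_neg_size]; omega)]
    rfl

set_option maxRecDepth 100000 in
theorem e6_dec_ok : chkDecAllG e6ce 72 e6decf = true := by decide +kernel

end Cfsg.Agent.Lib.Helper8.StSl
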