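import Mathlib
import Cfsg.Agent.Lib.Helper8.StSlE7T

set_option autoImplicit false

/-!
The certificate check for `E₇`, rows 63 to 125.
-/

namespace Cfsg.Agent.Lib.Helper8.StSl

set_option maxRecDepth 100000 in
theorem e7_rows_1 : chkRowsG e7ce e7ng 126 e7decf e7twf 63 63 = true := by decide +kernel

end Cfsg.Agent.Lib.Helper8.StSl
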