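import Mathlib
import Cfsg.Agent.Lib.Helper8.StSlC
import Cfsg.Agent.Lib.Helper8.StSlE6M
import Cfsg.Agent.Lib.Helper8.StSlE6R
import Cfsg.Agent.Lib.Helper8.StSlE7M
import Cfsg.Agent.Lib.Helper8.StSlE7R0
import Cfsg.Agent.Lib.Helper8.StSlE7R1

set_option autoImplicit false

/-!
The certificates for `E₆` and `E₇` and the lifting theorem for these types over every field.
-/

namespace Cfsg.Agent.Lib.Helper8.StSl

open Cfsg Cfsg.Lie Cfsg.Agent.Lib.Helper5.ChevSym Cfsg.Agent.Lib.Helper5.ChevStruct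
  Cfsg.Agent.Lib.Helper5.StPres Cfsg.Agent.Lib.Helper8.StLift

theorem e6_cert : Cert chevE6 e6decf e6twf where
  hchk := by
    intro a ha b hb
    have ha' : a < 72 := by rw [e6_nroots] at ha; exact ha
    exact chk_of_chkRowsG e6ce_eq e6ng_eq (by rw [e6_nroots]; exact e6_rows) (Nat.zero_le _)
      (by omega) hb
  hdec := by
    intro e he
    exact chkDec_of_allG e6ce_eq (by rw [e6_nroots]; exact e6_dec_ok) he

theorem e7_cert : Cert chevE7 e7decf e7twf where
  hchk := by
    intro a ha b hb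
    have ha' : a < 126 := by rw [e7_nroots] at ha; exact ha
    by_cases h0 : a < 63
    · exact chk_of_chkRowsG e7ce_eq e7ng_eq (by rw [e7_nroots]; exact e7_rows_0) (Nat.zero_le _)
        (by omega) hb
    · exact chk_of_chkRowsG e7ce_eq e7ng_eq (by rw [e7_nroots]; exact e7_rows_1) (by omega)
        (by omega) hb
  hdec := by
    intro e he
    exact chkDec_of_allG e7ce_eq (by rw [e7_nroots]; exact e7_dec_ok) he

theorem E6_mem_Seven : chevE6 ∈ Seven := by simp [Seven]

theorem E7_mem_Seven : chevE7 ∈ Seven := by simp [Seven]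

/-- the lifting theorem for `E₆`, over every field -/
theorem exists_lift_E6 {K : Type*} [Field K] {E : Type*} [Group E]
    (C : Ctx0 chevE6 E6_mem_Seven K E) :
    ∃ τ : chevE6.SteinbergCover K →* E, ∀ (r : ℕ) (t : K), r < chevE6.nroots →
      C.Ψ (τ (chevE6.scGen K r t)) = xGL chevE6 E6_mem_Seven r t :=
  C.exists_lift e6_cert

/-- the lifting theorem for `E₇`, over every field -/
theorem exists_lift_E7 {K : Type*} [Field K] {E : Type*} [Group E]
    (C : Ctx0 chevE7 E7_mem_Seven K E) :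
    ∃ τ : chevE7.SteinbergCover K →* E, ∀ (r : ℕ) (t : K), r < chevE7.nroots →
      C.Ψ (τ (chevE7.scGen K r t)) = xGL chevE7 E7_mem_Seven r t :=
  C.exists_lift e7_cert

end Cfsg.Agent.Lib.Helper8.StSl
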