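import Mathlib
import Cfsg.Agent.Lib.Helper8.StSlE8T

set_option autoImplicit false

/-!
The certificate check for `E₈`, rows 150 to 179.
-/

namespace Cfsg.Agent.Lib.Helper8.StSl

set_option maxRecDepth 100000 in
theorem e8_rows_5 : chkRowsG e8ce e8ng 240 e8decf e8twf 150 30 = true := by decide +kernel

end Cfsg.Agent.Lib.Helper8.StSl
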