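import Mathlib
import Cfsg.Prelude.Def_KGroupFacts
import Cfsg.Agent.Lib.Helper8.StSlC
import Cfsg.Agent.Lib.Helper8.StSlE8M
import Cfsg.Agent.Lib.Helper8.StSlE8R0
import Cfsg.Agent.Lib.Helper8.StSlE8R1
import Cfsg.Agent.Lib.Helper8.StSlE8R2
import Cfsg.Agent.Lib.Helper8.StSlE8R3
import Cfsg.Agent.Lib.Helper8.StSlE8R4
import Cfsg.Agent.Lib.Helper8.StSlE8R5
import Cfsg.Agent.Lib.Helper8.StSlE8R6
import Cfsg.Agent.Lib.Helper8.StSlE8R7
import Cfsg.Agent.Lib.Helper5.StPres.HTorus
import Cfsg.Agent.Lib.Helper5.StPres.CoverR3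

set_option autoImplicit false

/-!
The certificate for `E₈`, the lifting theorem for `E₈` over every field, and the Schur multiplier of
`E₈(q)`.
-/

namespace Cfsg.Agent.Lib.Helper8.StSl

open Cfsg Cfsg.Lie Cfsg.Agent.Lib.Helper5.ChevSym Cfsg.Agent.Lib.Helper5.ChevStruct
  Cfsg.Agent.Lib.Helper5.StPres Cfsg.Agent.Lib.Helper8.StLift

set_option maxRecDepth 100000 in
theorem e8_dec_ok : chkDecAllG e8ce 240 e8decf = true := by decide +kernel

theorem e8_cert : Cert chevE8 e8decf e8twf where
  hchk := by
    intro a ha b hb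
    have ha' : a < 240 := by rw [e8_nroots] at ha; exact ha
    have key : ∀ (lo : ℕ), chkRowsG e8ce e8ng 240 e8decf e8twf lo 30 = true → lo ≤ a →
        a < lo + 30 → chk chevE8 e8decf e8twf a b = true := by
      intro lo h h1 h2
      exact chk_of_chkRowsG e8ce_eq e8ng_eq (by rw [e8_nroots]; exact h) h1 h2 hb
    by_cases h0 : a < 30
    · exact key 0 e8_rows_0 (by omega) (by omega)
    by_cases h1 : a < 60
    · exact key 30 e8_rows_1 (by omega) (by omega)
    by_cases h2 : a < 90
    · exact key 60 e8_rows_2 (by omega) (by omega)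
    by_cases h3 : a < 120
    · exact key 90 e8_rows_3 (by omega) (by omega)
    by_cases h4 : a < 150
    · exact key 120 e8_rows_4 (by omega) (by omega)
    by_cases h5 : a < 180
    · exact key 150 e8_rows_5 (by omega) (by omega)
    by_cases h6 : a < 210
    · exact key 180 e8_rows_6 (by omega) (by omega)
    · exact key 210 e8_rows_7 (by omega) (by omega)
  hdec := by
    intro e he
    exact chkDec_of_allG e8ce_eq (by rw [e8_nroots]; exact e8_dec_ok) he

theorem E8_mem_Seven : chevE8 ∈ Seven := by simp [Seven]

/-- the lifting theorem for `E₈`, over every field -/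
theorem exists_lift_E8 {K : Type*} [Field K] {E : Type*} [Group E]
    (C : Ctx0 chevE8 E8_mem_Seven K E) :
    ∃ τ : chevE8.SteinbergCover K →* E, ∀ (r : ℕ) (t : K), r < chevE8.nroots →
      C.Ψ (τ (chevE8.scGen K r t)) = xGL chevE8 E8_mem_Seven r t :=
  C.exists_lift e8_cert

/-- two homomorphisms from the presented group that agree on the generators are equal -/
theorem cover_hom_ext' {K : Type*} [Field K] (D : ChevalleyDatum) {Γ : Type*} [Group Γ]
    (φ ψ : D.SteinbergCover K →* Γ)
    (h : ∀ (r : ℕ) (t : K), r < D.nroots → φ (D.scGen K r t) = ψ (D.scGen K r t)) : φ = ψ := by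
  apply PresentedGroup.ext
  rintro ⟨r, t⟩
  have := h r.1 t r.2
  unfold ChevalleyDatum.scGen ChevalleyDatum.stX at this
  rw [dif_pos r.2] at this
  exact this

/-- for `E₈` over a finite field the presented group maps injectively -/
theorem injective_cover_E8 {K : Type*} [Field K] [Finite K]
    (θ : chevE8.SteinbergCover K →* GL chevE8.Idx K)
    (hθ : ∀ (r : ℕ) (t : K), r < chevE8.nroots →
      θ (chevE8.scGen K r t) = xGL chevE8 E8_mem_Seven r t) :
    Function.Injective θ := by
  obtain ⟨e, he⟩ := cover_equiv_st chevE8 E8_mem_Seven K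
  obtain ⟨θs, -, hker, hθs⟩ := st_main chevE8 E8_mem_Seven K
  have hcen := st_center_eq_bot chevE8 (by simp) K
  have hinj : Function.Injective θs := by
    rw [← MonoidHom.ker_eq_bot_iff, hker, hcen]
  have heq : θ = ((chevE8.group K).subtype.comp θs).comp e.toMonoidHom := by
    apply cover_hom_ext'
    intro r t hr
    rw [hθ r t hr]
    show _ = ((θs (e (chevE8.scGen K r t)) : ↥(chevE8.group K)) : GL chevE8.Idx K)
    rw [he]
    apply Units.ext
    rw [hθs r t hr, xGL_val]
  rw [heq]
  intro a b hab
  have h1 : θs (e a) = θs (e b) := Subtype.ext hab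
  exact e.injective (hinj h1)

theorem schur_E8 {F : Type*} [Field F] [Fintype F] :
    Cfsg.HasCyclicSchurMultiplier ↥(Cfsg.Lie.chevE8.group F) 1 := by
  classical
  constructor
  · refine ⟨↥(chevE8.group F), inferInstance, inferInstance, MonoidHom.id _, ⟨?_, ?_, ?_⟩, ?_⟩
    · exact Function.surjective_id
    · intro x hx
      rw [MonoidHom.mem_ker, MonoidHom.id_apply] at hx
      rw [hx]
      exact one_mem _
    · intro x hx
      rw [MonoidHom.mem_ker, MonoidHom.id_apply] at hx
      rw [hx]
      exact one_mem _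
    · have hsub : Subsingleton ↥(MonoidHom.id ↥(chevE8.group F)).ker := by
        constructor
        intro a b
        apply Subtype.ext
        have ha := a.2
        have hb := b.2
        rw [MonoidHom.mem_ker, MonoidHom.id_apply] at ha hb
        rw [ha, hb]
      have hsub2 : Subsingleton (Multiplicative (ZMod 1)) := by
        constructor
        intro a b
        exact Subsingleton.elim (α := ZMod 1) a b
      exact ⟨{ toFun := fun _ => 1
               invFun := fun _ => 1
               left_inv := fun a => Subsingleton.elim _ _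
               right_inv := fun a => Subsingleton.elim _ _
               map_mul' := fun a b => Subsingleton.elim _ _ }⟩
  · intro Γ _ _ σ hσ
    obtain ⟨hsurj, hcen, hcomm⟩ := hσ
    have hbot : ∀ z ∈ σ.ker, z = 1 := by
      let C : Ctx0 chevE8 E8_mem_Seven F Γ :=
        { Ψ := (chevE8.group F).subtype.comp σ
          hc := by
            intro x hx
            apply hcen
            rw [MonoidHom.mem_ker] at hx ⊢
            exact Subtype.ext hx
          hsurj := by
            intro g hg
            obtain ⟨e, he⟩ := hsurj ⟨g, hg⟩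
            exact ⟨e, by show ((σ e : ↥(chevE8.group F)) : GL chevE8.Idx F) = g; rw [he]⟩ }
      obtain ⟨τ, hτ⟩ := exists_lift_E8 C
      have hinj := injective_cover_E8 (C.Ψ.comp τ) (fun r t hr => hτ r t hr)
      -- `σ ∘ τ` is onto
      have hστ : Function.Surjective (σ.comp τ) := by
        rw [← MonoidHom.range_eq_top, eq_top_iff, ← (gGens chevE8 E8_mem_Seven F).gen,
          Subgroup.closure_le]
        rintro g ⟨r, t, hr, rfl⟩
        refine ⟨chevE8.scGen F r t, ?_⟩
        apply Subtype.ext
        exact hτ r t hr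
      -- the commutator subgroup lies in the range of `τ`
      have hcr : commutator Γ ≤ τ.range := by
        rw [commutator_eq_closure, Subgroup.closure_le]
        rintro x ⟨g, g', rfl⟩
        obtain ⟨d, hd⟩ := hστ (σ g)
        obtain ⟨d', hd'⟩ := hστ (σ g')
        refine ⟨d * d' * d⁻¹ * d'⁻¹, ?_⟩
        rw [commutatorElement_def, map_mul, map_mul, map_mul, map_inv, map_inv]
        exact comm_lift_indep σ hcen hd hd'
      intro z hz
      obtain ⟨d, rfl⟩ := hcr (hcomm hz)
      have h1 : (C.Ψ.comp τ) d = (C.Ψ.comp τ) 1 := by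
        rw [map_one]
        show ((σ (τ d) : ↥(chevE8.group F)) : GL chevE8.Idx F) = 1
        rw [MonoidHom.mem_ker.1 hz]
        rfl
      rw [hinj h1, map_one]
    refine ⟨1, ?_⟩
    intro z
    refine ⟨1, ?_⟩
    apply Subtype.ext
    rw [MonoidHom.one_apply]
    exact (hbot z.1 z.2).symm

end Cfsg.Agent.Lib.Helper8.StSl
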