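import Mathlib
import Cfsg.Agent.Lib.Helper1.TCSDefs
import Cfsg.Agent.Lib.Helper1.TCSBasic
import Cfsg.Agent.Lib.Helper1.TCSB1
import Cfsg.Agent.Lib.Helper9.TCSG5
import Cfsg.Agent.Lib.Helper8.NMP2
import Cfsg.Agent.Lib.Helper8.AxB
import Cfsg.Agent.Lib.Helper9.PSGBasicB

/-! S4284 piece B2 (`K_abelian`). -/

set_option autoImplicit false
set_option maxHeartbeats 4000000
set_option linter.unusedVariables false
set_option linter.unusedSectionVars false
set_option linter.style.longLine false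

namespace Cfsg.Agent.Lib.Helper1.TCS

open Cfsg.Agent.Lib.Helper8.CSG Cfsg.Agent.Lib.Helper1.PSG

variable {G : Type*} [Group G] [Finite G] {p a n : ℕ}

theorem h8tcs_relIndex_eq_one_iff (K : Subgroup G) (k : G) :
    (Cz k).relIndex K = 1 ↔ ∀ y ∈ K, y * k = k * y := by
  rw [Subgroup.relIndex_eq_one]
  constructor
  · intro h y hy
    exact mem_Cz.mp (h hy)
  · intro h y hy
    exact mem_Cz.mpr (h y hy)

/-- a group whose `q'`-elements are central has normal Sylow `q`-subgroups; stated for a subgroup `K` of `G`: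
the `q`-elements of `K` form a subgroup `Q` with `|Q| = |K|_q`. -/
theorem h8tcs_exists_qpart {q : ℕ} [Fact q.Prime] (K : Subgroup G)
    (hcent : ∀ u ∈ K, ¬ q ∣ orderOf u → ∀ h ∈ K, u * h = h * u) :
    ∃ Q : Subgroup G, Q ≤ K ∧ IsPGroup q Q ∧ Nat.card Q = q ^ (Nat.card K).factorization q ∧
      ∀ x ∈ K, PElt q x → x ∈ Q := by
  have hq : q.Prime := Fact.out
  -- `K / Z(K)` is a `q`-group
  have hpq : IsPGroup q (↥K ⧸ Subgroup.center ↥K) := by
    intro g
    induction g using QuotientGroup.induction_on with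
    | H g =>
      obtain ⟨u, w, hg, hc, ⟨j, hj⟩, hw, hu, hwz, -⟩ := exists_decomp q g
      refine ⟨j, ?_⟩
      rw [← QuotientGroup.mk_pow, QuotientGroup.eq_one_iff, hg, hc.mul_pow, hj, one_mul]
      apply Subgroup.pow_mem
      rw [Subgroup.mem_center_iff]
      intro y
      have h1 := hcent (w : G) w.2 (by rwa [Subgroup.orderOf_coe]) (y : G) y.2
      apply Subtype.ext
      simpa using h1.symm
  have hnil : Group.IsNilpotent ↥K := by
    have := hpq.isNilpotent
    exact Group.of_quotient_center_nilpotent this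
  obtain ⟨Q'⟩ : Nonempty (Sylow q ↥K) := inferInstance
  have hQn : (Q' : Subgroup ↥K).Normal := inferInstance
  refine ⟨(Q' : Subgroup ↥K).map K.subtype, ?_, ?_, ?_, ?_⟩
  · intro x hx
    obtain ⟨y, -, rfl⟩ := hx
    exact y.2
  · exact Q'.isPGroup'.map K.subtype
  · rw [Subgroup.card_map_of_injective K.subtype_injective]
    exact Q'.card_eq_multiplicity
  · intro x hx ⟨j, hj⟩
    have hz : IsPGroup q (Subgroup.zpowers (⟨x, hx⟩ : ↥K)) := by
      apply h9_psg_isPGroup_zpowers
      refine ⟨j, ?_⟩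
      apply Subtype.ext
      simpa using hj
    obtain ⟨R, hR⟩ := hz.exists_le_sylow
    obtain ⟨g, hg⟩ := MulAction.exists_smul_eq ↥K Q' R
    rw [Sylow.smul_eq_of_normal] at hg
    subst hg
    exact ⟨⟨x, hx⟩, hR (Subgroup.mem_zpowers _), rfl⟩

theorem K_abelian [Fact p.Prime] (h : H3 G (p ^ a) n) (K : Subgroup G) [K.Normal] (hK : (Nat.card K).Coprime p)
    (hcs : ∀ k ∈ K, (Cz k).relIndex K = 1 ∨ (Cz k).relIndex K = n)
    {t : G} (ht : PElt p t) (hti : idx t = p ^ a * n) (htK : (Cz t).relIndex K = n) :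
    ∀ x ∈ K, ∀ y ∈ K, x * y = y * x := by
  have hp : p.Prime := Fact.out
  by_contra hcon
  push Not at hcon
  obtain ⟨k₀, hk₀, y₀, hy₀, hne⟩ := hcon
  have hk₀n : (Cz k₀).relIndex K = n := by
    rcases hcs k₀ hk₀ with h1 | h1
    · exfalso
      rw [h8tcs_relIndex_eq_one_iff] at h1
      exact hne (h1 y₀ hy₀).symm
    · exact h1
  obtain ⟨q, b, hq, hnq, hcent⟩ := Cfsg.Agent.Lib.Helper3.NM.ito_subgroup K h.hn hcs ⟨k₀, hk₀, hk₀n⟩
  have : Fact q.Prime := ⟨hq⟩
  have hb : b ≠ 0 := by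
    rintro rfl
    have := h.hn
    rw [hnq, pow_zero] at this
    exact lt_irrefl _ this
  have hpq : p ≠ q := by
    rintro rfl
    have := (h1tcs_pow_facts hp h).2
    apply this
    rw [hnq]
    exact dvd_pow_self p hb
  -- cardinalities
  have hct : Nat.card (Cz t ⊓ K : Subgroup G) * n = Nat.card K := by
    have := h9tcs_card_inf_mul_relIndex (Cz t) K
    rwa [htK] at this
  have hck₀ : Nat.card (Cz k₀ ⊓ K : Subgroup G) * n = Nat.card K := by
    have := h9tcs_card_inf_mul_relIndex (Cz k₀) K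
    rwa [hk₀n] at this
  have hn0 : 0 < n := lt_trans Nat.zero_lt_one h.hn
  -- `k₁ ∈ C_K(t)` not central in `K`
  have hk₁ : ∃ k₁ ∈ K, k₁ * t = t * k₁ ∧ ∃ y ∈ K, y * k₁ ≠ k₁ * y := by
    by_contra hcon
    push Not at hcon
    -- then `Cz t ⊓ K ≤ Z` where `Z < Cz k₀ ⊓ K`
    have hle : (Cz t ⊓ K : Subgroup G) ≤ Cz k₀ ⊓ K := by
      intro x hx
      refine ⟨?_, hx.2⟩
      exact mem_Cz.mpr (hcon x hx.2 (mem_Cz.mp hx.1) k₀ hk₀).symm
    have hcard : Nat.card (Cz k₀ ⊓ K : Subgroup G) ≤ Nat.card (Cz t ⊓ K : Subgroup G) := by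
      apply le_of_eq
      apply Nat.eq_of_mul_eq_mul_right hn0
      rw [hct, hck₀]
    have heq := Subgroup.eq_of_le_of_card_ge hle hcard
    have hk₀mem : k₀ ∈ (Cz t ⊓ K : Subgroup G) := by
      rw [heq]
      exact ⟨mem_Cz.mpr rfl, hk₀⟩
    exact hne (hcon k₀ hk₀mem.2 (mem_Cz.mp hk₀mem.1) y₀ hy₀).symm
  obtain ⟨k₁, hk₁K, hk₁t, y₁, hy₁, hne₁⟩ := hk₁
  -- `q`-part of `k₁`
  obtain ⟨k, w, hkw, hc, hkq, hw, hkz, hwz, -⟩ := exists_decomp q k₁
  have hzK : Subgroup.zpowers k₁ ≤ K := by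
    rw [Subgroup.zpowers_le]; exact hk₁K
  have hzt : Subgroup.zpowers k₁ ≤ Cz t := by
    rw [Subgroup.zpowers_le]; exact mem_Cz.mpr hk₁t
  have hkK : k ∈ K := hzK hkz
  have hwK : w ∈ K := hzK hwz
  have hkt : k * t = t * k := mem_Cz.mp (hzt hkz)
  have hkn : ∃ y ∈ K, y * k ≠ k * y := by
    by_contra hcon
    push Not at hcon
    apply hne₁
    rw [hkw, ← mul_assoc, hcon y₁ hy₁, mul_assoc, (hcent w hwK hw y₁ hy₁).symm, mul_assoc]
  -- orders
  obtain ⟨j, hj⟩ := h1tcs_orderOf_pelt hp ht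
  have hco : (orderOf t).Coprime (orderOf k) := by
    rw [hj]
    apply Nat.Coprime.pow_left
    have h1 : orderOf k ∣ Nat.card K := by
      have := orderOf_dvd_natCard (⟨k, hkK⟩ : ↥K)
      rwa [← Subgroup.orderOf_coe] at this
    exact (Nat.Coprime.coprime_dvd_left h1 hK).symm
  have hle : Cz t ≤ Cz k := cent_le_of_max h hkt.symm hco hti
  have hkn' : (Cz k).relIndex K = n := by
    rcases hcs k hkK with h1 | h1
    · exfalso
      rw [h8tcs_relIndex_eq_one_iff] at h1
      obtain ⟨y, hy, hyn⟩ := hkn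
      exact hyn (h1 y hy)
    · exact h1
  have hck : Nat.card (Cz k ⊓ K : Subgroup G) * n = Nat.card K := by
    have := h9tcs_card_inf_mul_relIndex (Cz k) K
    rwa [hkn'] at this
  have heq : (Cz t ⊓ K : Subgroup G) = Cz k ⊓ K := by
    apply Subgroup.eq_of_le_of_card_ge (inf_le_inf_right K hle)
    apply le_of_eq
    apply Nat.eq_of_mul_eq_mul_right hn0
    rw [hct, hck]
  -- the `q`-part of `K`
  obtain ⟨Q, hQK, hQq, hQc, hQmem⟩ := h8tcs_exists_qpart K hcent
  have hQnorm : ∀ g : G, g ∈ Subgroup.normalizer (Q : Set G) := by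
    intro g
    have key : ∀ g : G, ∀ x ∈ Q, g * x * g⁻¹ ∈ Q := by
      intro g x hx
      apply hQmem
      · exact ‹K.Normal›.conj_mem x (hQK hx) g
      · obtain ⟨i, hi⟩ := hQq ⟨x, hx⟩
        refine ⟨i, ?_⟩
        have : x ^ q ^ i = 1 := by
          have := congrArg Subtype.val hi
          simpa using this
        rw [conj_pow, this, mul_one, mul_inv_cancel]
    rw [Subgroup.mem_normalizer_iff]
    intro x
    constructor
    · exact key g x
    · intro hx
      have := key g⁻¹ _ hx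
      simpa [mul_assoc] using this
  have hA : (Nat.card (Subgroup.zpowers t)).Coprime q := by
    rw [Nat.card_zpowers, hj]
    apply Nat.Coprime.pow_left
    exact (Nat.coprime_primes hp hq).mpr hpq
  have hB : IsPGroup q (Subgroup.zpowers k) := h9_psg_isPGroup_zpowers hkq
  have hAB : ⁅Subgroup.zpowers t, Subgroup.zpowers k⁆ = ⊥ := by
    rw [Subgroup.commutator_eq_bot_iff_le_centralizer, Subgroup.zpowers_le]
    rw [Subgroup.mem_centralizer_iff]
    intro y hy
    obtain ⟨i, rfl⟩ := Subgroup.mem_zpowers_iff.mp hy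
    exact ((Commute.zpow_left (show Commute k t from hkt) i).eq)
  have hres := Cfsg.Agent.Lib.Helper8.thompson_AxB q (Subgroup.zpowers t) (Subgroup.zpowers k) hB hA hAB
    (Nat.card Q) Q rfl hQq (fun g _ => hQnorm g) (fun g _ => hQnorm g) (by
      intro y hy
      have hyQ : y ∈ Q := hy.1
      have hyk : y * k = k * y := by
        have : y ∈ Subgroup.centralizer (Subgroup.zpowers k : Set G) := hy.2
        rw [Subgroup.mem_centralizer_iff] at this
        exact (this k (Subgroup.mem_zpowers k)).symm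
      have hyt : y ∈ (Cz t ⊓ K : Subgroup G) := by
        rw [heq]
        exact ⟨mem_Cz.mpr hyk, hQK hyQ⟩
      have hyt' : y * t = t * y := mem_Cz.mp hyt.1
      show y ∈ Subgroup.centralizer (Subgroup.zpowers t : Set G)
      rw [Subgroup.mem_centralizer_iff]
      intro z hz
      obtain ⟨i, rfl⟩ := Subgroup.mem_zpowers_iff.mp hz
      exact ((Commute.zpow_left (show Commute t y from hyt'.symm) i).eq))
  have hQt : Q ≤ (Cz t ⊓ K : Subgroup G) := by
    intro y hy
    refine ⟨?_, hQK hy⟩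
    rw [Subgroup.commutator_eq_bot_iff_le_centralizer] at hres
    have := hres hy
    rw [Subgroup.mem_centralizer_iff] at this
    exact mem_Cz.mpr (this t (Subgroup.mem_zpowers t)).symm
  have hdvd : q ^ (Nat.card K).factorization q ∣ Nat.card (Cz t ⊓ K : Subgroup G) := by
    rw [← hQc]
    exact Subgroup.card_dvd_of_le hQt
  have hc0 : Nat.card (Cz t ⊓ K : Subgroup G) ≠ 0 := Nat.card_pos.ne'
  have h1 : (Nat.card K).factorization q ≤ (Nat.card (Cz t ⊓ K : Subgroup G)).factorization q :=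
    (hq.pow_dvd_iff_le_factorization hc0).mp hdvd
  have h2 : (Nat.card K).factorization q = (Nat.card (Cz t ⊓ K : Subgroup G)).factorization q + b := by
    rw [← hct, Nat.factorization_mul hc0 hn0.ne', hnq, Nat.factorization_pow]
    simp [hq.factorization_self]
  omega

end Cfsg.Agent.Lib.Helper1.TCS
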