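import Mathlib
import Cfsg.Prelude.Def_GeometricClasses

set_option autoImplicit false
set_option linter.unusedVariables false
set_option linter.unusedSectionVars false
set_option linter.style.longLine false

/-! Monomial matrices: basic definitions (part 1). -/

namespace Cfsg.Agent.Lib.Helper8.Mono

open Matrix

variable {ι : Type} [Fintype ι] [DecidableEq ι] {F : Type*} [Field F]

/-- column `j` of `A` has at most one non-zero entry -/
def MonoCol (A : Matrix ι ι F) (j : ι) : Prop := ∃ i, ∀ i', i' ≠ i → A i' j = 0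

/-- every column of `A` has at most one non-zero entry -/
def IsMono (A : Matrix ι ι F) : Prop := ∀ j, MonoCol A j

theorem isMono_one : IsMono (1 : Matrix ι ι F) := fun j => ⟨j, fun i' h => Matrix.one_apply_ne h⟩

theorem IsMono.mul {A B : Matrix ι ι F} (hA : IsMono A) (hB : IsMono B) : IsMono (A * B) := by
  intro j
  obtain ⟨i₀, h₀⟩ := hB j
  obtain ⟨i₁, h₁⟩ := hA i₀
  refine ⟨i₁, fun a ha => ?_⟩
  rw [Matrix.mul_apply]
  refine Finset.sum_eq_zero fun c _ => ?_
  by_cases hc : c = i₀
  · subst hc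
    rw [h₁ a ha, zero_mul]
  · rw [h₀ c hc, mul_zero]

/-- structure of an invertible monomial matrix -/
theorem exists_perm {A B : Matrix ι ι F} (hA : IsMono A) (hBA : B * A = 1) :
    ∃ σ : Equiv.Perm ι, (∀ i j, i ≠ σ j → A i j = 0) ∧ (∀ j, A (σ j) j ≠ 0) ∧
      (∀ j, B j (σ j) * A (σ j) j = 1) ∧ (∀ k j, k ≠ j → B k (σ j) = 0) := by
  classical
  choose f hf using hA
  have key : ∀ k j, B k (f j) * A (f j) j = (1 : Matrix ι ι F) k j := by
    intro k j
    rw [← hBA, Matrix.mul_apply]
    rw [Finset.sum_eq_single (f j)]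
    · intro b _ hb
      rw [hf j b hb, mul_zero]
    · intro h
      exact absurd (Finset.mem_univ _) h
  have h1 : ∀ j, B j (f j) * A (f j) j = 1 := fun j => by rw [key, Matrix.one_apply_eq]
  have hAne : ∀ j, A (f j) j ≠ 0 := fun j h => by
    have := h1 j
    rw [h, mul_zero] at this
    exact zero_ne_one this
  have hBne : ∀ j, B j (f j) ≠ 0 := fun j h => by
    have := h1 j
    rw [h, zero_mul] at this
    exact zero_ne_one this
  have hinj : Function.Injective f := by
    intro j j' hjj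
    by_contra hne
    have := key j j'
    rw [Matrix.one_apply_ne hne, ← hjj] at this
    rcases mul_eq_zero.mp this with h | h
    · exact hBne j h
    · rw [hjj] at h
      exact hAne j' h
  have hbij : Function.Bijective f := hinj.bijective_of_finite
  refine ⟨Equiv.ofBijective f hbij, ?_, ?_, ?_, ?_⟩
  · intro i j hij
    exact hf j i hij
  · exact hAne
  · exact h1
  · intro k j hkj
    have := key k j
    rw [Matrix.one_apply_ne hkj] at this
    rcases mul_eq_zero.mp this with h | h
    · exact h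
    · exact absurd h (hAne j)

theorem IsMono.inv {A B : Matrix ι ι F} (hA : IsMono A) (hBA : B * A = 1) : IsMono B := by
  obtain ⟨σ, h1, h2, h3, h4⟩ := exists_perm hA hBA
  intro i
  refine ⟨σ.symm i, fun k hk => ?_⟩
  have := h4 k (σ.symm i) hk
  rwa [Equiv.apply_symm_apply] at this

variable (ι F) in
/-- the subgroup of monomial matrices -/
def monoSub : Subgroup (GL ι F) where
  carrier := {g | IsMono (g : Matrix ι ι F)}
  mul_mem' {a b} ha hb := by
    show IsMono ((a * b : GL ι F) : Matrix ι ι F)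
    rw [Units.val_mul]
    exact IsMono.mul ha hb
  one_mem' := by
    show IsMono ((1 : GL ι F) : Matrix ι ι F)
    rw [Units.val_one]
    exact isMono_one
  inv_mem' {a} ha := by
    show IsMono ((a⁻¹ : GL ι F) : Matrix ι ι F)
    exact IsMono.inv ha (by rw [← Units.val_mul, inv_mul_cancel, Units.val_one])

theorem mem_monoSub {g : GL ι F} : g ∈ monoSub ι F ↔ IsMono (g : Matrix ι ι F) := Iff.rfl

variable (ι F) in
/-- the monomial matrices of determinant one -/
def monoSL : Subgroup (GL ι F) := monoSub ι F ⊓ Cfsg.Geo.specialLinear ι F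

theorem mem_SL {g : GL ι F} : g ∈ Cfsg.Geo.specialLinear ι F ↔ (g : Matrix ι ι F).det = 1 := by
  unfold Cfsg.Geo.specialLinear
  rw [MonoidHom.mem_ker]
  constructor
  · intro h
    have := congrArg Units.val h
    simpa using this
  · intro h
    apply Units.ext
    simpa using h

theorem mem_monoSL {g : GL ι F} :
    g ∈ monoSL ι F ↔ IsMono (g : Matrix ι ι F) ∧ (g : Matrix ι ι F).det = 1 := by
  unfold monoSL
  rw [Subgroup.mem_inf, mem_monoSub, mem_SL]

/-- generalized permutation matrix: `e_b ↦ d b • e_{σ b}` -/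
def gpmMat (σ : Equiv.Perm ι) (d : ι → F) : Matrix ι ι F := fun a b => if a = σ b then d b else 0

theorem gpmMat_mul (σ τ : Equiv.Perm ι) (d e : ι → F) :
    gpmMat σ d * gpmMat τ e = gpmMat (σ * τ) (fun b => d (τ b) * e b) := by
  ext a b
  rw [Matrix.mul_apply]
  unfold gpmMat
  rw [Finset.sum_eq_single (τ b)]
  · by_cases h : a = σ (τ b)
    · have h' : a = (σ * τ) b := h
      rw [if_pos h, if_pos rfl, if_pos h']
    · have h' : ¬ a = (σ * τ) b := h
      rw [if_neg h, if_neg h', zero_mul]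
  · intro c _ hc
    rw [if_neg hc, mul_zero]
  · intro h
    exact absurd (Finset.mem_univ _) h

theorem gpmMat_one : gpmMat (1 : Equiv.Perm ι) (fun _ => (1 : F)) = 1 := by
  ext a b
  unfold gpmMat
  by_cases h : a = b
  · subst h
    rw [Matrix.one_apply_eq, if_pos (by simp)]
  · rw [Matrix.one_apply_ne h, if_neg (by simpa using h)]

theorem gpmMat_eq (σ : Equiv.Perm ι) (d : ι → F) :
    gpmMat σ d = (σ⁻¹).permMatrix F * Matrix.diagonal d := by
  ext a b
  rw [Matrix.mul_diagonal]
  unfold gpmMat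
  rw [Equiv.Perm.permMatrix, PEquiv.toMatrix_apply]
  simp only [Equiv.toPEquiv_apply, Option.mem_def, Option.some.injEq]
  by_cases h : a = σ b
  · subst h
    rw [if_pos rfl, if_pos (by simp), one_mul]
  · have : ¬ σ⁻¹ a = b := fun h' => h (by rw [← h']; simp)
    rw [if_neg h, if_neg this, zero_mul]

theorem det_gpmMat (σ : Equiv.Perm ι) (d : ι → F) :
    (gpmMat σ d).det = (Equiv.Perm.sign σ : ℤ) * ∏ i, d i := by
  rw [gpmMat_eq, Matrix.det_mul, Matrix.det_permutation, Matrix.det_diagonal]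
  simp

/-- generalized permutation matrix as an element of `GL` -/
def gpm (σ : Equiv.Perm ι) (d : ι → Fˣ) : GL ι F where
  val := gpmMat σ (fun i => (d i : F))
  inv := gpmMat σ⁻¹ (fun i => ((d (σ⁻¹ i))⁻¹ : Fˣ))
  val_inv := by
    rw [gpmMat_mul, ← gpmMat_one]
    congr 1
    · simp
    · ext b
      simp
  inv_val := by
    rw [gpmMat_mul, ← gpmMat_one]
    congr 1
    · simp
    · ext b
      simp

@[simp] theorem gpm_val (σ : Equiv.Perm ι) (d : ι → Fˣ) :
    ((gpm σ d : GL ι F) : Matrix ι ι F) = gpmMat σ (fun i => (d i : F)) := rfl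

theorem gpm_apply (σ : Equiv.Perm ι) (d : ι → Fˣ) (a b : ι) :
    ((gpm σ d : GL ι F) : Matrix ι ι F) a b = if a = σ b then (d b : F) else 0 := rfl

theorem isMono_gpmMat (σ : Equiv.Perm ι) (d : ι → F) : IsMono (gpmMat σ d) := by
  intro j
  refine ⟨σ j, fun i hi => ?_⟩
  unfold gpmMat
  rw [if_neg hi]

theorem gpm_mem_monoSub (σ : Equiv.Perm ι) (d : ι → Fˣ) : gpm σ d ∈ monoSub ι F :=
  isMono_gpmMat σ _

theorem gpm_mem_monoSL (σ : Equiv.Perm ι) (d : ι → Fˣ)
    (h : ((Equiv.Perm.sign σ : ℤ) : F) * ∏ i, (d i : F) = 1) : gpm σ d ∈ monoSL ι F := by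
  rw [mem_monoSL]
  refine ⟨isMono_gpmMat σ _, ?_⟩
  rw [gpm_val, det_gpmMat]
  exact h

/-- diagonal element -/
def dg (d : ι → Fˣ) : GL ι F := gpm 1 d

theorem dg_apply (d : ι → Fˣ) (a b : ι) :
    ((dg d : GL ι F) : Matrix ι ι F) a b = if a = b then (d b : F) else 0 := by
  unfold dg
  rw [gpm_apply]
  by_cases h : a = b
  · rw [if_pos h, if_pos (by simpa using h)]
  · rw [if_neg h, if_neg (by simpa using h)]

theorem dg_val (d : ι → Fˣ) : ((dg d : GL ι F) : Matrix ι ι F) = Matrix.diagonal (fun i => (d i : F)) := by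
  ext a b
  rw [dg_apply, Matrix.diagonal_apply]
  by_cases h : a = b
  · subst h; simp
  · simp [h]

theorem dg_inv (d : ι → Fˣ) : (dg d)⁻¹ = dg (fun i => (d i)⁻¹) := by
  apply Units.ext
  rw [dg_val]
  show gpmMat _ _ = _
  ext a b
  unfold gpmMat
  rw [Matrix.diagonal_apply]
  by_cases h : a = b
  · subst h; simp
  · simp [h]

theorem dg_mem_monoSub (d : ι → Fˣ) : dg d ∈ monoSub ι F := gpm_mem_monoSub 1 d

theorem dg_mem_monoSL (d : ι → Fˣ) (h : ∏ i, (d i : F) = 1) : dg d ∈ monoSL ι F := by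
  apply gpm_mem_monoSL
  simp [h]

/-- every invertible monomial matrix is a generalized permutation matrix -/
theorem eq_gpm_of_isMono (g : GL ι F) (hg : IsMono (g : Matrix ι ι F)) :
    ∃ (σ : Equiv.Perm ι) (d : ι → Fˣ), g = gpm σ d := by
  obtain ⟨σ, h1, h2, h3, h4⟩ := exists_perm hg
    (show ((g⁻¹ : GL ι F) : Matrix ι ι F) * (g : Matrix ι ι F) = 1 by
      rw [← Units.val_mul, inv_mul_cancel, Units.val_one])
  refine ⟨σ, fun j => Units.mk0 _ (h2 j), ?_⟩
  apply Units.ext
  ext a b
  rw [gpm_apply]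
  by_cases h : a = σ b
  · subst h
    simp
  · rw [if_neg h]
    exact h1 a b h

end Cfsg.Agent.Lib.Helper8.Mono
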