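import Mathlib
import Cfsg.Agent.Lib.Helper8.Mono1
import Cfsg.Agent.Lib.Helper4.SLnGen

set_option autoImplicit false
set_option linter.unusedVariables false
set_option linter.unusedSectionVars false
set_option linter.style.longLine false

/-! Monomial matrices (part 2): row transvections, and how they generate `SL`. -/

namespace Cfsg.Agent.Lib.Helper8.Mono

open Matrix

variable {ι : Type} [Fintype ι] [DecidableEq ι] {F : Type*} [Field F]

/-- the matrix whose only non-zero row is row `i`, equal to `φ` -/
def rowMat (i : ι) (φ : ι → F) : Matrix ι ι F := Matrix.of fun a b => if a = i then φ b else 0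

theorem rowMat_apply (i : ι) (φ : ι → F) (a b : ι) :
    rowMat i φ a b = if a = i then φ b else 0 := rfl

theorem rowMat_mul_rowMat (i : ι) (φ ψ : ι → F) :
    rowMat i φ * rowMat i ψ = φ i • rowMat i ψ := by
  ext a b
  rw [Matrix.mul_apply, Finset.sum_eq_single i]
  · rw [Matrix.smul_apply, rowMat_apply, rowMat_apply, rowMat_apply]
    by_cases h : a = i
    · simp [h]
    · simp [h]
  · intro c _ hc
    rw [rowMat_apply, rowMat_apply, if_neg hc, mul_zero]
  · intro h
    exact absurd (Finset.mem_univ _) h

theorem rowMat_add (i : ι) (φ ψ : ι → F) : rowMat i (φ + ψ) = rowMat i φ + rowMat i ψ := by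
  ext a b
  rw [Matrix.add_apply, rowMat_apply, rowMat_apply, rowMat_apply]
  by_cases h : a = i <;> simp [h]

theorem rowMat_zero (i : ι) : rowMat i (0 : ι → F) = 0 := by
  ext a b
  rw [rowMat_apply]
  by_cases h : a = i <;> simp [h]

theorem rowMat_neg (i : ι) (φ : ι → F) : rowMat i (-φ) = -rowMat i φ := by
  ext a b
  rw [Matrix.neg_apply, rowMat_apply, rowMat_apply]
  by_cases h : a = i <;> simp [h]

theorem rowMat_injective (i : ι) {φ ψ : ι → F} (h : rowMat i φ = rowMat i ψ) : φ = ψ := by
  ext b
  have := congrFun (congrFun h i) b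
  rw [rowMat_apply, rowMat_apply, if_pos rfl, if_pos rfl] at this
  exact this

/-- the row transvection `1 + e_i φ` as an element of `GL` (for `φ i = 0`) -/
def rtv (i : ι) (φ : ι → F) (h : φ i = 0) : GL ι F where
  val := 1 + rowMat i φ
  inv := 1 - rowMat i φ
  val_inv := by
    have := rowMat_mul_rowMat i φ φ
    rw [h, zero_smul] at this
    rw [add_mul, mul_sub, mul_sub, this]
    simp
  inv_val := by
    have := rowMat_mul_rowMat i φ φ
    rw [h, zero_smul] at this
    rw [sub_mul, mul_add, mul_add, this]
    simp

@[simp] theorem rtv_val (i : ι) (φ : ι → F) (h : φ i = 0) :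
    ((rtv i φ h : GL ι F) : Matrix ι ι F) = 1 + rowMat i φ := rfl

theorem rtv_mul (i : ι) (φ ψ : ι → F) (h : φ i = 0) (h' : ψ i = 0) :
    rtv i φ h * rtv i ψ h' = rtv i (φ + ψ) (by simp [h, h']) := by
  apply Units.ext
  have := rowMat_mul_rowMat i φ ψ
  rw [h, zero_smul] at this
  rw [Units.val_mul, rtv_val, rtv_val, rtv_val, add_mul, mul_add, mul_add, this, rowMat_add]
  simp only [mul_one, one_mul, add_zero]
  abel

theorem rtv_inv (i : ι) (φ : ι → F) (h : φ i = 0) :
    (rtv i φ h)⁻¹ = rtv i (-φ) (by simp [h]) := by
  rw [inv_eq_iff_mul_eq_one, rtv_mul]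
  apply Units.ext
  rw [rtv_val]
  simp [rowMat_zero]

theorem rtv_eq_one_iff (i : ι) (φ : ι → F) (h : φ i = 0) : rtv i φ h = 1 ↔ φ = 0 := by
  constructor
  · intro h1
    have := congrArg Units.val h1
    rw [rtv_val, Units.val_one, add_eq_left] at this
    rw [← rowMat_zero i] at this
    exact rowMat_injective i this
  · intro h1
    subst h1
    apply Units.ext
    rw [rtv_val, rowMat_zero, add_zero, Units.val_one]

/-- conjugating a row transvection by a diagonal matrix -/
theorem dg_conj_rtv (d : ι → Fˣ) (i : ι) (φ : ι → F) (h : φ i = 0) :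
    dg d * rtv i φ h * (dg d)⁻¹ =
      rtv i (fun l => (d i : F) * φ l * ((d l)⁻¹ : Fˣ)) (by simp [h]) := by
  apply Units.ext
  rw [Units.val_mul, Units.val_mul, dg_inv, dg_val, dg_val, rtv_val, rtv_val]
  ext a b
  rw [Matrix.mul_diagonal, Matrix.diagonal_mul]
  simp only [Matrix.add_apply, rowMat_apply, Matrix.one_apply]
  by_cases hab : a = b
  · subst hab
    by_cases hai : a = i
    · subst hai
      simp [h]
    · simp [hai]
  · by_cases hai : a = i
    · subst hai
      simp [hab]
    · simp [hab, hai]

/-- elementary transvection `1 + c E_{ij}` as a row transvection -/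
def etv (i j : ι) (hij : i ≠ j) (c : F) : GL ι F :=
  rtv i (Pi.single j c) (by simp [hij])

theorem etv_val (i j : ι) (hij : i ≠ j) (c : F) :
    ((etv i j hij c : GL ι F) : Matrix ι ι F) = Matrix.transvection i j c := by
  unfold etv
  rw [rtv_val, Matrix.transvection]
  congr 1
  ext a b
  rw [rowMat_apply, Matrix.single_apply]
  by_cases ha : a = i
  · subst ha
    by_cases hb : b = j
    · subst hb
      simp
    · simp [hb, Ne.symm hb]
  · simp [ha, Ne.symm ha]

/-- a subgroup containing all elementary transvections contains `SL` -/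
theorem SL_le_of_etv [Nontrivial ι] (X : Subgroup (GL ι F))
    (h : ∀ (i j : ι) (hij : i ≠ j) (c : F), etv i j hij c ∈ X) :
    Cfsg.Geo.specialLinear ι F ≤ X := by
  intro g hg
  rw [mem_SL] at hg
  have key : ∀ A : Matrix.SpecialLinearGroup ι F, ∀ g : GL ι F,
      (g : Matrix ι ι F) = A.1 → g ∈ X := by
    intro A
    refine Cfsg.Agent.Lib.Helper4.transvection_induction_gen
      (fun A => ∀ g : GL ι F, (g : Matrix ι ι F) = A.1 → g ∈ X) ?_ ?_ A
    · intro i j hij c g hg
      have : g = etv i j hij c := by
        apply Units.ext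
        rw [hg, etv_val]
        rfl
      rw [this]
      exact h i j hij c
    · intro A B hA hB g hg
      have hAu : IsUnit A.1 := by
        rw [Matrix.isUnit_iff_isUnit_det, A.2]
        exact isUnit_one
      have hBu : IsUnit B.1 := by
        rw [Matrix.isUnit_iff_isUnit_det, B.2]
        exact isUnit_one
      have : g = hAu.unit * hBu.unit := by
        apply Units.ext
        rw [hg, Units.val_mul]
        rfl
      rw [this]
      exact X.mul_mem (hA _ rfl) (hB _ rfl)
  exact key ⟨g.1, hg⟩ g rfl

/-- support of a row vector -/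
noncomputable def supp (φ : ι → F) : Finset ι := by
  classical exact Finset.univ.filter (fun l => φ l ≠ 0)

theorem mem_supp {φ : ι → F} {l : ι} : l ∈ supp φ ↔ φ l ≠ 0 := by
  classical
  unfold supp
  simp

/-- From a non-trivial row transvection and the monomial matrices of determinant one, one obtains
an elementary transvection `1 + c E_{il}` with `c ≠ 0`. -/
theorem exists_etv_of_rtv (hcard : 4 ≤ Fintype.card ι) (hF : ∃ θ : Fˣ, θ ≠ 1)
    (X : Subgroup (GL ι F)) (hN : monoSL ι F ≤ X) (i : ι) :
    ∀ (n : ℕ) (φ : ι → F) (h : φ i = 0), (supp φ).card = n → φ ≠ 0 → rtv i φ h ∈ X →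
      ∃ (l : ι) (hl : i ≠ l) (c : F), c ≠ 0 ∧ etv i l hl c ∈ X := by
  intro n
  induction n using Nat.strong_induction_on with
  | _ n ih =>
    intro φ h hn hφ hX
    obtain ⟨l, hl⟩ : ∃ l, φ l ≠ 0 := by
      by_contra hcon
      push Not at hcon
      exact hφ (funext hcon)
    have hil : i ≠ l := fun e => hl (e ▸ h)
    by_cases hex : ∃ l', l' ≠ l ∧ φ l' ≠ 0
    · obtain ⟨l', hll, hl'⟩ := hex
      have hil' : i ≠ l' := fun e => hl' (e ▸ h)
      -- choose a fourth index
      obtain ⟨k, hk⟩ : ∃ k, k ≠ i ∧ k ≠ l ∧ k ≠ l' := by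
        by_contra hcon
        push Not at hcon
        have : (Finset.univ : Finset ι) ⊆ {i, l, l'} := by
          intro x _
          simp only [Finset.mem_insert, Finset.mem_singleton]
          by_cases h1 : x = i
          · exact Or.inl h1
          · by_cases h2 : x = l
            · exact Or.inr (Or.inl h2)
            · exact Or.inr (Or.inr (hcon x h1 h2))
        have := Finset.card_le_card this
        rw [Finset.card_univ] at this
        have h3 : ({i, l, l'} : Finset ι).card ≤ 3 := Finset.card_le_three
        omega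
      obtain ⟨θ, hθ⟩ := hF
      -- the diagonal element
      let d : ι → Fˣ := fun x => if x = l' then θ else if x = k then θ⁻¹ else 1
      have hd : dg d ∈ X := by
        apply hN
        apply dg_mem_monoSL
        rw [Finset.prod_eq_mul l' k (fun e => hk.2.2 e.symm)]
        · simp [d, hk.2.2]
        · intro c _ hc
          simp [d, hc.1, hc.2]
        · intro h1
          exact absurd (Finset.mem_univ _) h1
        · intro h1
          exact absurd (Finset.mem_univ _) h1
      have hdi : d i = 1 := by simp [d, hil', hk.1.symm, Ne.symm hk.1]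
      have hdl : d l = 1 := by simp [d, hll.symm, Ne.symm hll, Ne.symm hk.2.1]
      have hdl' : d l' = θ := by simp [d]
      -- the new row vector
      have hconj : dg d * rtv i φ h * (dg d)⁻¹ ∈ X := X.mul_mem (X.mul_mem hd hX) (X.inv_mem hd)
      rw [dg_conj_rtv] at hconj
      have hquot := X.mul_mem hconj (X.inv_mem hX)
      rw [rtv_inv, rtv_mul] at hquot
      set ψ : ι → F := (fun l => (d i : F) * φ l * ((d l)⁻¹ : Fˣ)) + -φ with hψ
      have hψl : ψ l = 0 := by
        simp [hψ, hdi, hdl]
      have hψl' : ψ l' ≠ 0 := by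
        simp only [hψ, Pi.add_apply, Pi.neg_apply, hdi, hdl', Units.val_one, one_mul]
        intro e
        have : φ l' * (((θ⁻¹ : Fˣ) : F) - 1) = 0 := by rw [mul_sub, mul_one]; linear_combination e
        rcases mul_eq_zero.mp this with h1 | h1
        · exact hl' h1
        · apply hθ
          have : ((θ⁻¹ : Fˣ) : F) = 1 := by linear_combination h1
          have h2 : (θ⁻¹ : Fˣ) = 1 := Units.ext this
          simpa using h2
      have hsub : supp ψ ⊆ (supp φ).erase l := by
        intro x hx
        rw [mem_supp] at hx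
        rw [Finset.mem_erase, mem_supp]
        refine ⟨fun e => hx (e ▸ hψl), fun e => hx ?_⟩
        simp [hψ, e]
      have hlt : (supp ψ).card < n := by
        have h1 := Finset.card_le_card hsub
        have h2 : ((supp φ).erase l).card < (supp φ).card :=
          Finset.card_erase_lt_of_mem (mem_supp.mpr hl)
        omega
      exact ih _ hlt ψ _ rfl (fun e => hψl' (by rw [e]; rfl)) hquot
    · push Not at hex
      refine ⟨l, hil, φ l, hl, ?_⟩
      have : φ = Pi.single l (φ l) := by
        ext x
        by_cases hx : x = l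
        · subst hx; simp
        · rw [Pi.single_eq_of_ne hx]
          exact hex x hx
      unfold etv
      have h2 : rtv i (Pi.single l (φ l)) (by simp [hil]) = rtv i φ h := by
        apply Units.ext
        rw [rtv_val, rtv_val, ← this]
      rw [h2]
      exact hX

end Cfsg.Agent.Lib.Helper8.Mono
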