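import Mathlib
import Cfsg.Agent.Lib.Helper8.Mono2

set_option autoImplicit false
set_option linter.unusedVariables false
set_option linter.unusedSectionVars false
set_option linter.style.longLine false

/-! Monomial matrices (part 3): a row transvection and the monomial group generate `SL`. -/

namespace Cfsg.Agent.Lib.Helper8.Mono

open Matrix

variable {ι : Type} [Fintype ι] [DecidableEq ι] {F : Type*} [Field F]

/-- intertwining a row transvection with a generalized permutation matrix -/
theorem gpm_mul_rtv (σ : Equiv.Perm ι) (d : ι → Fˣ) (i : ι) (φ : ι → F) (h : φ i = 0) :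
    gpm σ d * rtv i φ h =
      rtv (σ i) (fun x => (d i : F) * φ (σ⁻¹ x) * ((d (σ⁻¹ x))⁻¹ : Fˣ)) (by simp [h]) * gpm σ d := by
  apply Units.ext
  rw [Units.val_mul, Units.val_mul, rtv_val, rtv_val, mul_add, add_mul, mul_one, one_mul]
  congr 1
  ext a b
  rw [Matrix.mul_apply, Matrix.mul_apply, Finset.sum_eq_single i, Finset.sum_eq_single (σ b)]
  · rw [gpm_apply, gpm_apply, rowMat_apply, rowMat_apply, if_pos rfl, if_pos rfl]
    by_cases ha : a = σ i
    · rw [if_pos ha, if_pos ha]
      have e1 : σ⁻¹ (σ b) = b := by simp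
      rw [e1]
      have : (d b : F) ≠ 0 := (d b).ne_zero
      rw [Units.val_inv_eq_inv_val]
      field_simp
    · rw [if_neg ha, if_neg ha, zero_mul, zero_mul]
  · intro c _ hc
    rw [gpm_apply, if_neg hc, mul_zero]
  · intro h'
    exact absurd (Finset.mem_univ _) h'
  · intro c _ hc
    rw [rowMat_apply, if_neg hc, mul_zero]
  · intro h'
    exact absurd (Finset.mem_univ _) h'

theorem gpm_conj_etv (σ : Equiv.Perm ι) (d : ι → Fˣ) (i l : ι) (hil : i ≠ l) (c : F) :
    gpm σ d * etv i l hil c * (gpm σ d)⁻¹ =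
      etv (σ i) (σ l) (fun e => hil (σ.injective e)) ((d i : F) * c * ((d l)⁻¹ : Fˣ)) := by
  unfold etv
  rw [gpm_mul_rtv, mul_assoc, mul_inv_cancel, mul_one]
  apply Units.ext
  rw [rtv_val, rtv_val]
  congr 2
  ext x
  by_cases hx : x = σ l
  · subst hx
    have e1 : σ⁻¹ (σ l) = l := by simp
    rw [e1, Pi.single_eq_same, Pi.single_eq_same]
  · have : σ⁻¹ x ≠ l := fun e => hx (by rw [← e]; simp)
    rw [Pi.single_eq_of_ne hx, Pi.single_eq_of_ne this]
    simp

/-- a permutation with two prescribed values -/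
theorem exists_perm_two (i l i' l' : ι) (hil : i ≠ l) (hil' : i' ≠ l') :
    ∃ σ : Equiv.Perm ι, σ i = i' ∧ σ l = l' := by
  refine ⟨Equiv.swap (Equiv.swap i i' l) l' * Equiv.swap i i', ?_, ?_⟩
  · rw [Equiv.Perm.mul_apply, Equiv.swap_apply_left]
    apply Equiv.swap_apply_of_ne_of_ne
    · intro e
      apply hil
      have := congrArg (Equiv.swap i i') e
      simpa using this
    · exact hil'
  · rw [Equiv.Perm.mul_apply, Equiv.swap_apply_left]

/-- the sign of a permutation as a unit of the field -/
def sgnU (σ : Equiv.Perm ι) : Fˣ := if Equiv.Perm.sign σ = 1 then 1 else -1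

theorem sgnU_mul (σ : Equiv.Perm ι) : (((Equiv.Perm.sign σ : ℤˣ) : ℤ) : F) * (sgnU (F := F) σ : F) = 1 := by
  unfold sgnU
  rcases Int.units_eq_one_or (Equiv.Perm.sign σ) with h | h
  · rw [h]; simp
  · rw [h]; simp

/-- an element of `monoSL` with prescribed permutation -/
def gpmS (σ : Equiv.Perm ι) (j : ι) : GL ι F := gpm σ (fun x => if x = j then sgnU σ else 1)

theorem gpmS_mem (σ : Equiv.Perm ι) (j : ι) : gpmS (F := F) σ j ∈ monoSL ι F := by
  apply gpm_mem_monoSL
  have : ∏ x, (((if x = j then sgnU (F := F) σ else 1 : Fˣ)) : F) = (sgnU (F := F) σ : F) := by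
    rw [Finset.prod_eq_single j]
    · simp
    · intro b _ hb
      simp [hb]
    · intro h
      exact absurd (Finset.mem_univ _) h
  rw [this]
  exact sgnU_mul σ

/-- A non-trivial row transvection together with the monomial matrices of determinant one
generates (at least) the special linear group. -/
theorem SL_le_of_rtv (hcard : 4 ≤ Fintype.card ι) (hF : ∃ θ : Fˣ, θ ≠ 1)
    (X : Subgroup (GL ι F)) (hN : monoSL ι F ≤ X) (i : ι) (φ : ι → F) (h : φ i = 0)
    (hφ : φ ≠ 0) (hX : rtv i φ h ∈ X) : Cfsg.Geo.specialLinear ι F ≤ X := by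
  obtain ⟨l, hil, c, hc, hcX⟩ := exists_etv_of_rtv hcard hF X hN i _ φ h rfl hφ hX
  haveI : Nontrivial ι := by
    rw [← Fintype.one_lt_card_iff_nontrivial]
    omega
  -- a third index
  have third : ∀ a b : ι, ∃ k, k ≠ a ∧ k ≠ b := by
    intro a b
    by_contra hcon
    push Not at hcon
    have : (Finset.univ : Finset ι) ⊆ {a, b} := by
      intro x _
      simp only [Finset.mem_insert, Finset.mem_singleton]
      by_cases h1 : x = a
      · exact Or.inl h1
      · exact Or.inr (hcon x h1)
    have := Finset.card_le_card this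
    rw [Finset.card_univ] at this
    have h3 : ({a, b} : Finset ι).card ≤ 2 := Finset.card_le_two
    omega
  -- scaling
  have scale : ∀ c' : F, etv i l hil c' ∈ X := by
    intro c'
    by_cases hc' : c' = 0
    · subst hc'
      have : etv i l hil (0 : F) = 1 := by
        unfold etv
        rw [rtv_eq_one_iff]
        simp
      rw [this]
      exact X.one_mem
    · obtain ⟨k, hki, hkl⟩ := third i l
      let θ : Fˣ := Units.mk0 (c' / c) (div_ne_zero hc' hc)
      let d : ι → Fˣ := fun x => if x = i then θ else if x = k then θ⁻¹ else 1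
      have hd : dg d ∈ X := by
        apply hN
        apply dg_mem_monoSL
        rw [Finset.prod_eq_mul i k (fun e => hki e.symm)]
        · simp [d, hki]
        · intro x _ hx
          simp [d, hx.1, hx.2]
        · intro h1
          exact absurd (Finset.mem_univ _) h1
        · intro h1
          exact absurd (Finset.mem_univ _) h1
      have := X.mul_mem (X.mul_mem hd hcX) (X.inv_mem hd)
      unfold dg at this
      rw [gpm_conj_etv] at this
      have e : ((d i : Fˣ) : F) * c * ((d l)⁻¹ : Fˣ) = c' := by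
        have h1 : d i = θ := by simp [d]
        have h2 : d l = 1 := by simp [d, hil.symm, Ne.symm hil, Ne.symm hkl]
        rw [h1, h2]
        simp only [inv_one, Units.val_one, mul_one, θ, Units.val_mk0]
        field_simp
      simp only [Equiv.Perm.coe_one, id_eq] at this
      rw [e] at this
      exact this
  apply SL_le_of_etv
  intro i' l' hil' c'
  obtain ⟨σ, hσi, hσl⟩ := exists_perm_two i l i' l' hil hil'
  have hg : gpmS (F := F) σ i ∈ X := hN (gpmS_mem σ i)
  have hu : ((((if i = i then sgnU (F := F) σ else 1 : Fˣ)) : F)) ≠ 0 := Units.ne_zero _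
  have := X.mul_mem (X.mul_mem hg (scale (c' * (((if i = i then sgnU (F := F) σ else 1 : Fˣ)) : F)⁻¹
    * (((if l = i then sgnU (F := F) σ else 1 : Fˣ)) : F)))) (X.inv_mem hg)
  unfold gpmS at this
  rw [gpm_conj_etv] at this
  have e : etv (σ i) (σ l) (fun e => hil (σ.injective e))
      (((if i = i then sgnU (F := F) σ else 1 : Fˣ) : F) * (c' * (((if i = i then sgnU (F := F) σ else 1 : Fˣ)) : F)⁻¹
        * (((if l = i then sgnU (F := F) σ else 1 : Fˣ)) : F)) * (((if l = i then sgnU (F := F) σ else 1)⁻¹ : Fˣ) : F))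
      = etv i' l' hil' c' := by
    have hv : ((if l = i then sgnU (F := F) σ else 1 : Fˣ) : F) ≠ 0 := Units.ne_zero _
    have e2 : ((if i = i then sgnU (F := F) σ else 1 : Fˣ) : F) * (c' * (((if i = i then sgnU (F := F) σ else 1 : Fˣ)) : F)⁻¹
        * (((if l = i then sgnU (F := F) σ else 1 : Fˣ)) : F)) * (((if l = i then sgnU (F := F) σ else 1)⁻¹ : Fˣ) : F) = c' := by
      rw [Units.val_inv_eq_inv_val]
      field_simp
    unfold etv
    apply Units.ext
    rw [rtv_val, rtv_val, e2, hσi, hσl]
  rw [e] at this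
  exact this

end Cfsg.Agent.Lib.Helper8.Mono
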