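import Mathlib
import Cfsg.Agent.Lib.Helper8.Mono3

set_option autoImplicit false
set_option linter.unusedVariables false
set_option linter.unusedSectionVars false
set_option linter.style.longLine false

/-! Monomial matrices (part 4): monomial matrices satisfying a polynomial identity of small degree. -/

namespace Cfsg.Agent.Lib.Helper8.Mono

open Matrix

variable {ι : Type} [Fintype ι] [DecidableEq ι] {F : Type*} [Field F]

theorem gpmMat_sq (σ : Equiv.Perm ι) (d : ι → F) :
    gpmMat σ d * gpmMat σ d = gpmMat (σ * σ) (fun b => d (σ b) * d b) := gpmMat_mul σ σ d d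

theorem gpmMat_cube (σ : Equiv.Perm ι) (d : ι → F) :
    gpmMat σ d * gpmMat σ d * gpmMat σ d =
      gpmMat (σ * σ * σ) (fun b => d (σ (σ b)) * d (σ b) * d b) := by
  rw [gpmMat_sq, gpmMat_mul]

theorem gpmMat_apply (σ : Equiv.Perm ι) (d : ι → F) (a b : ι) :
    gpmMat σ d a b = if a = σ b then d b else 0 := rfl

theorem sq_apply (σ : Equiv.Perm ι) (d : ι → F) (a b : ι) :
    (gpmMat σ d * gpmMat σ d) a b = if a = σ (σ b) then d (σ b) * d b else 0 := by
  rw [gpmMat_sq, gpmMat_apply]
  by_cases h : a = σ (σ b)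
  · rw [if_pos h, if_pos (by rw [Equiv.Perm.mul_apply]; exact h)]
  · rw [if_neg h, if_neg (by rw [Equiv.Perm.mul_apply]; exact h)]

theorem cube_apply (σ : Equiv.Perm ι) (d : ι → F) (a b : ι) :
    (gpmMat σ d * gpmMat σ d * gpmMat σ d) a b =
      if a = σ (σ (σ b)) then d (σ (σ b)) * d (σ b) * d b else 0 := by
  rw [gpmMat_cube, gpmMat_apply]
  by_cases h : a = σ (σ (σ b))
  · rw [if_pos h, if_pos (by rw [Equiv.Perm.mul_apply, Equiv.Perm.mul_apply]; exact h)]
  · rw [if_neg h, if_neg (by rw [Equiv.Perm.mul_apply, Equiv.Perm.mul_apply]; exact h)]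

/-- a monomial matrix satisfying a quadratic identity -/
theorem poly2 (σ : Equiv.Perm ι) (d : ι → F) (hd : ∀ b, d b ≠ 0) (t₁ t₂ : F) (ht₁ : t₁ ≠ 0)
    (ht₂ : t₂ ≠ 0)
    (hrel : gpmMat σ d * gpmMat σ d - t₁ • gpmMat σ d + t₂ • (1 : Matrix ι ι F) = 0) : σ = 1 := by
  ext j
  show σ j = j
  by_contra hj
  have e1 := congrFun (congrFun hrel j) j
  have e2 := congrFun (congrFun hrel (σ j)) j
  rw [Matrix.add_apply, Matrix.sub_apply, Matrix.smul_apply, Matrix.smul_apply, sq_apply,
    gpmMat_apply, Matrix.zero_apply, smul_eq_mul, smul_eq_mul] at e1 e2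
  have hj' : ¬ j = σ j := fun e => hj e.symm
  rw [if_neg hj', Matrix.one_apply_eq] at e1
  rw [if_pos rfl, Matrix.one_apply_ne hj] at e2
  by_cases h2 : j = σ (σ j)
  · have h3 : ¬ σ j = σ (σ j) := fun e => hj (by rw [← h2] at e; exact e)
    rw [if_neg h3] at e2
    have : t₁ * d j = 0 := by linear_combination -e2
    rcases mul_eq_zero.mp this with h | h
    · exact ht₁ h
    · exact hd j h
  · rw [if_neg h2] at e1
    apply ht₂
    linear_combination e1

/-- a monomial matrix satisfying a cubic identity -/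
theorem poly3' (σ : Equiv.Perm ι) (d : ι → F) (hd : ∀ b, d b ≠ 0) (s₁ s₂ s₃ : F) (hs₃ : s₃ ≠ 0)
    (hs : ¬ (s₁ = 0 ∧ s₂ = 0))
    (hrel : gpmMat σ d * gpmMat σ d * gpmMat σ d - s₁ • (gpmMat σ d * gpmMat σ d) + s₂ • gpmMat σ d
      - s₃ • (1 : Matrix ι ι F) = 0) (j : ι) :
    σ j = j ∨ (σ (σ j) = j ∧ d (σ j) * d j = -s₂ ∧ s₁ * s₂ = s₃) := by
  by_cases hj : σ j = j
  · exact Or.inl hj
  right
  have e0 := congrFun (congrFun hrel j) j
  have e1 := congrFun (congrFun hrel (σ j)) j
  have e2 := congrFun (congrFun hrel (σ (σ j))) j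
  rw [Matrix.sub_apply, Matrix.add_apply, Matrix.sub_apply, Matrix.smul_apply, Matrix.smul_apply,
    Matrix.smul_apply, cube_apply, sq_apply, gpmMat_apply, Matrix.zero_apply, smul_eq_mul, smul_eq_mul,
    smul_eq_mul] at e0 e1 e2
  have hj' : ¬ j = σ j := fun e => hj e.symm
  have h12 : ¬ σ j = σ (σ j) := fun e => hj' (σ.injective e)
  have h23 : ¬ σ (σ j) = σ (σ (σ j)) := fun e => h12 (σ.injective e)
  rw [if_neg hj', Matrix.one_apply_eq] at e0
  rw [if_neg h12, if_pos rfl, Matrix.one_apply_ne hj] at e1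
  rw [if_neg h23, if_pos rfl, if_neg (Ne.symm h12)] at e2
  by_cases h2 : j = σ (σ j)
  · have h13 : σ j = σ (σ (σ j)) := by rw [← h2]
    have h03 : ¬ j = σ (σ (σ j)) := by rw [← h13]; exact hj'
    rw [if_neg h03, if_pos h2] at e0
    rw [if_pos h13] at e1
    have hdd : d (σ (σ j)) = d j := by rw [← h2]
    rw [hdd] at e1
    have hprod : d (σ j) * d j = -s₂ := by
      have : d j * (d (σ j) * d j + s₂) = 0 := by linear_combination e1
      rcases mul_eq_zero.mp this with h | h
      · exact absurd h (hd j)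
      · linear_combination h
    refine ⟨h2.symm, hprod, ?_⟩
    rw [hprod] at e0
    linear_combination e0
  · exfalso
    rw [if_neg h2] at e0
    rw [Matrix.one_apply_ne (fun e => h2 e.symm)] at e2
    have h03 : j = σ (σ (σ j)) := by
      by_contra h03
      rw [if_neg h03] at e0
      apply hs₃
      linear_combination -e0
    have h13 : ¬ σ j = σ (σ (σ j)) := by rw [← h03]; exact hj
    rw [if_neg h13] at e1
    apply hs
    constructor
    · have : s₁ * (d (σ j) * d j) = 0 := by linear_combination -e2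
      rcases mul_eq_zero.mp this with h | h
      · exact h
      · exact absurd h (mul_ne_zero (hd _) (hd _))
    · have : s₂ * d j = 0 := by linear_combination e1
      rcases mul_eq_zero.mp this with h | h
      · exact h
      · exact absurd h (hd _)

theorem poly3 (σ : Equiv.Perm ι) (d : ι → F) (hd : ∀ b, d b ≠ 0) (s₁ s₂ s₃ : F) (hs₃ : s₃ ≠ 0)
    (hs : ¬ (s₁ = 0 ∧ s₂ = 0)) (hs' : s₁ * s₂ ≠ s₃)
    (hrel : gpmMat σ d * gpmMat σ d * gpmMat σ d - s₁ • (gpmMat σ d * gpmMat σ d) + s₂ • gpmMat σ d
      - s₃ • (1 : Matrix ι ι F) = 0) : σ = 1 := by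
  ext j
  rcases poly3' σ d hd s₁ s₂ s₃ hs₃ hs hrel j with h | ⟨-, -, h⟩
  · exact h
  · exact absurd h hs'

/-- conjugates of diagonal matrices satisfy the same polynomial identities: cubic case -/
theorem conj_poly3 (A B : Matrix ι ι F) (hBA : B * A = 1) (t : ι → F) (s₁ s₂ s₃ : F)
    (ht : ∀ k, t k * t k * t k - s₁ * (t k * t k) + s₂ * t k - s₃ = 0) :
    (A * Matrix.diagonal t * B) * (A * Matrix.diagonal t * B) * (A * Matrix.diagonal t * B)
      - s₁ • ((A * Matrix.diagonal t * B) * (A * Matrix.diagonal t * B))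
      + s₂ • (A * Matrix.diagonal t * B) - s₃ • (A * B) = 0 := by
  have h2 : (A * Matrix.diagonal t * B) * (A * Matrix.diagonal t * B)
      = A * Matrix.diagonal (fun k => t k * t k) * B := by
    have : (A * Matrix.diagonal t * B) * (A * Matrix.diagonal t * B)
        = A * (Matrix.diagonal t * (B * A) * Matrix.diagonal t) * B := by
      simp only [Matrix.mul_assoc]
    rw [this, hBA, Matrix.mul_one, Matrix.diagonal_mul_diagonal]
  have h3 : (A * Matrix.diagonal t * B) * (A * Matrix.diagonal t * B) * (A * Matrix.diagonal t * B)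
      = A * Matrix.diagonal (fun k => t k * t k * t k) * B := by
    rw [h2]
    have : A * Matrix.diagonal (fun k => t k * t k) * B * (A * Matrix.diagonal t * B)
        = A * (Matrix.diagonal (fun k => t k * t k) * (B * A) * Matrix.diagonal t) * B := by
      simp only [Matrix.mul_assoc]
    rw [this, hBA, Matrix.mul_one, Matrix.diagonal_mul_diagonal]
  rw [h3, h2]
  have : A * Matrix.diagonal (fun k => t k * t k * t k) * B
      - s₁ • (A * Matrix.diagonal (fun k => t k * t k) * B) + s₂ • (A * Matrix.diagonal t * B)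
      - s₃ • (A * B)
      = A * (Matrix.diagonal (fun k => t k * t k * t k - s₁ * (t k * t k) + s₂ * t k - s₃)) * B := by
    have e : Matrix.diagonal (fun k => t k * t k * t k - s₁ * (t k * t k) + s₂ * t k - s₃)
        = Matrix.diagonal (fun k => t k * t k * t k) - s₁ • Matrix.diagonal (fun k => t k * t k)
          + s₂ • Matrix.diagonal t - s₃ • (1 : Matrix ι ι F) := by
      ext a b
      by_cases hab : a = b
      · subst hab
        simp [Matrix.diagonal_apply]
      · simp [Matrix.diagonal_apply, hab, Matrix.one_apply]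
    rw [e]
    simp only [Matrix.mul_sub, Matrix.mul_add, Matrix.sub_mul, Matrix.add_mul, Matrix.mul_smul,
      Matrix.smul_mul, Matrix.mul_one]
  rw [this]
  have : (fun k => t k * t k * t k - s₁ * (t k * t k) + s₂ * t k - s₃) = fun _ => (0 : F) :=
    funext ht
  rw [this]
  have : Matrix.diagonal (fun _ : ι => (0 : F)) = 0 := by
    ext a b
    simp [Matrix.diagonal_apply]
  rw [this, Matrix.mul_zero, Matrix.zero_mul]

/-- conjugates of diagonal matrices satisfy the same polynomial identities: quadratic case -/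
theorem conj_poly2 (A B : Matrix ι ι F) (hBA : B * A = 1) (t : ι → F) (t₁ t₂ : F)
    (ht : ∀ k, t k * t k - t₁ * t k + t₂ = 0) :
    (A * Matrix.diagonal t * B) * (A * Matrix.diagonal t * B)
      - t₁ • (A * Matrix.diagonal t * B) + t₂ • (A * B) = 0 := by
  have h2 : (A * Matrix.diagonal t * B) * (A * Matrix.diagonal t * B)
      = A * Matrix.diagonal (fun k => t k * t k) * B := by
    have : (A * Matrix.diagonal t * B) * (A * Matrix.diagonal t * B)
        = A * (Matrix.diagonal t * (B * A) * Matrix.diagonal t) * B := by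
      simp only [Matrix.mul_assoc]
    rw [this, hBA, Matrix.mul_one, Matrix.diagonal_mul_diagonal]
  rw [h2]
  have : A * Matrix.diagonal (fun k => t k * t k) * B - t₁ • (A * Matrix.diagonal t * B)
      + t₂ • (A * B)
      = A * (Matrix.diagonal (fun k => t k * t k - t₁ * t k + t₂)) * B := by
    have e : Matrix.diagonal (fun k => t k * t k - t₁ * t k + t₂)
        = Matrix.diagonal (fun k => t k * t k) - t₁ • Matrix.diagonal t
          + t₂ • (1 : Matrix ι ι F) := by
      ext a b
      by_cases hab : a = b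
      · subst hab
        simp [Matrix.diagonal_apply]
      · simp [Matrix.diagonal_apply, hab, Matrix.one_apply]
    rw [e]
    simp only [Matrix.mul_sub, Matrix.mul_add, Matrix.sub_mul, Matrix.add_mul, Matrix.mul_smul,
      Matrix.smul_mul, Matrix.mul_one]
  rw [this]
  have : (fun k => t k * t k - t₁ * t k + t₂) = fun _ => (0 : F) := funext ht
  rw [this]
  have : Matrix.diagonal (fun _ : ι => (0 : F)) = 0 := by
    ext a b
    simp [Matrix.diagonal_apply]
  rw [this, Matrix.mul_zero, Matrix.zero_mul]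

end Cfsg.Agent.Lib.Helper8.Mono
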