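import Mathlib
import Cfsg.Agent.Lib.Helper8.Mono4

set_option autoImplicit false
set_option linter.unusedVariables false
set_option linter.unusedSectionVars false
set_option linter.style.longLine false

/-! Monomial matrices (part 5): conjugating torus elements. -/

namespace Cfsg.Agent.Lib.Helper8.Mono

open Matrix

variable {ι : Type} [Fintype ι] [DecidableEq ι] {F : Type*} [Field F]

/-- entries of `h⁻¹` -/
abbrev iv (h : GL ι F) : Matrix ι ι F := ((h⁻¹ : GL ι F) : Matrix ι ι F)

theorem mul_iv (h : GL ι F) : (h : Matrix ι ι F) * iv h = 1 := by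
  unfold iv
  rw [← Units.val_mul, mul_inv_cancel, Units.val_one]

theorem iv_mul (h : GL ι F) : iv h * (h : Matrix ι ι F) = 1 := by
  unfold iv
  rw [← Units.val_mul, inv_mul_cancel, Units.val_one]

theorem mul_iv_apply (h : GL ι F) (m l : ι) :
    ∑ k, (h : Matrix ι ι F) m k * iv h k l = if m = l then 1 else 0 := by
  have := congrFun (congrFun (mul_iv h) m) l
  rw [Matrix.mul_apply, Matrix.one_apply] at this
  exact this

theorem iv_mul_apply (h : GL ι F) (m l : ι) :
    ∑ k, iv h m k * (h : Matrix ι ι F) k l = if m = l then 1 else 0 := by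
  have := congrFun (congrFun (iv_mul h) m) l
  rw [Matrix.mul_apply, Matrix.one_apply] at this
  exact this

/-- two rows of an invertible matrix cannot both be supported on the same single column -/
theorem two_rows (h : GL ι F) (m m' a : ι) (hmm : m ≠ m')
    (h1 : ∀ k, k ≠ a → (h : Matrix ι ι F) m k = 0) (h2 : ∀ k, k ≠ a → (h : Matrix ι ι F) m' k = 0) :
    False := by
  have e1 := mul_iv_apply h m m'
  have e2 := mul_iv_apply h m' m'
  have e3 := mul_iv_apply h m m
  rw [Finset.sum_eq_single a (fun k _ hk => by rw [h1 k hk, zero_mul])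
    (fun hh => absurd (Finset.mem_univ _) hh), if_neg hmm] at e1
  rw [Finset.sum_eq_single a (fun k _ hk => by rw [h2 k hk, zero_mul])
    (fun hh => absurd (Finset.mem_univ _) hh), if_pos rfl] at e2
  rw [Finset.sum_eq_single a (fun k _ hk => by rw [h1 k hk, zero_mul])
    (fun hh => absurd (Finset.mem_univ _) hh), if_pos rfl] at e3
  have hne : iv h a m' ≠ 0 := fun e => by rw [e, mul_zero] at e2; exact zero_ne_one e2
  rcases mul_eq_zero.mp e1 with e | e
  · rw [e, zero_mul] at e3
    exact zero_ne_one e3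
  · exact hne e

/-- entries of a conjugate of a diagonal matrix -/
theorem conj_dg_apply (h : GL ι F) (t : ι → Fˣ) (m l : ι) :
    ((h * dg t * h⁻¹ : GL ι F) : Matrix ι ι F) m l
      = ∑ k, (h : Matrix ι ι F) m k * (t k : F) * iv h k l := by
  rw [Units.val_mul, Units.val_mul, dg_val, Matrix.mul_apply]
  refine Finset.sum_congr rfl fun k _ => ?_
  rw [Matrix.mul_diagonal]

theorem conj_dg_val (h : GL ι F) (t : ι → Fˣ) :
    ((h * dg t * h⁻¹ : GL ι F) : Matrix ι ι F)
      = (h : Matrix ι ι F) * Matrix.diagonal (fun k => (t k : F)) * iv h := by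
  rw [Units.val_mul, Units.val_mul, dg_val]

/-- if `t` fixes column `l` of `h⁻¹`, then column `l` of `h t h⁻¹` is the basis vector `e_l` -/
theorem conj_dg_col_fixed (h : GL ι F) (t : ι → Fˣ) (l : ι)
    (ht : ∀ k, iv h k l ≠ 0 → t k = 1) (m : ι) :
    ((h * dg t * h⁻¹ : GL ι F) : Matrix ι ι F) m l = if m = l then 1 else 0 := by
  rw [conj_dg_apply, ← mul_iv_apply h m l]
  refine Finset.sum_congr rfl fun k _ => ?_
  by_cases hk : iv h k l = 0
  · rw [hk, mul_zero, mul_zero]
  · rw [ht k hk, Units.val_one, mul_one]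

theorem monoCol_of_col_eq (A : Matrix ι ι F) (l : ι)
    (h : ∀ m, A m l = if m = l then 1 else 0) : MonoCol A l :=
  ⟨l, fun m hm => by rw [h m, if_neg hm]⟩

/-- if `h t h⁻¹ = dg d` is diagonal, the non-zero entries of `h` link the eigenvalues -/
theorem entry_of_conj_eq_dg (h : GL ι F) (t d : ι → Fˣ) (he : h * dg t * h⁻¹ = dg d) (m k : ι)
    (hmk : (h : Matrix ι ι F) m k ≠ 0) : d m = t k := by
  have e : dg d * h = h * dg t := by
    rw [← he]
    group
  have this : ((dg d * h : GL ι F) : Matrix ι ι F) m k = ((h * dg t : GL ι F) : Matrix ι ι F) m k := by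
    rw [e]
  rw [Units.val_mul, Units.val_mul, dg_val, dg_val, Matrix.diagonal_mul, Matrix.mul_diagonal] at this
  apply Units.ext
  have h2 : ((d m : F) - (t k : F)) * (h : Matrix ι ι F) m k = 0 := by linear_combination this
  rcases mul_eq_zero.mp h2 with h3 | h3
  · linear_combination h3
  · exact absurd h3 hmk

/-- If a conjugate `h t h⁻¹` of a diagonal matrix is diagonal, and the eigenvalue `t a` is simple,
then column `a` of `h` is monomial. -/
theorem monoCol_of_conj_diag (h : GL ι F) (t d : ι → Fˣ) (he : h * dg t * h⁻¹ = dg d) (a : ι)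
    (ha : ∀ k, k ≠ a → t k ≠ t a) : MonoCol (h : Matrix ι ι F) a := by
  by_contra hcon
  unfold MonoCol at hcon
  push Not at hcon
  -- some entry of column a is non-zero
  obtain ⟨m, hm⟩ : ∃ m, (h : Matrix ι ι F) m a ≠ 0 := by
    by_contra hz
    push Not at hz
    have := iv_mul_apply h a a
    rw [if_pos rfl, Finset.sum_eq_zero (fun k _ => by rw [hz k, mul_zero])] at this
    exact zero_ne_one this
  obtain ⟨m', hmm', hm'⟩ := hcon m
  have hd1 := entry_of_conj_eq_dg h t d he m a hm
  have hd2 := entry_of_conj_eq_dg h t d he m' a hm'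
  refine two_rows h m m' a (Ne.symm hmm') ?_ ?_
  · intro k hk
    by_contra hne
    have := entry_of_conj_eq_dg h t d he m k hne
    exact ha k hk (by rw [← this, hd1])
  · intro k hk
    by_contra hne
    have := entry_of_conj_eq_dg h t d he m' k hne
    exact ha k hk (by rw [← this, hd2])

end Cfsg.Agent.Lib.Helper8.Mono
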