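import Mathlib
import Cfsg.Agent.Lib.Helper8.Mono5

set_option autoImplicit false
set_option linter.unusedVariables false
set_option linter.unusedSectionVars false
set_option linter.style.longLine false

/-! Monomial matrices (part 6): in a subgroup all of whose elements with a monomial column are
monomial, the columns of the non-monomial elements have at most one zero (large fields). -/

namespace Cfsg.Agent.Lib.Helper8.Mono

open Matrix

variable {ι : Type} [Fintype ι] [DecidableEq ι] {F : Type*} [Field F]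

/-- every element of `X` with a monomial column is monomial -/
def CN (X : Subgroup (GL ι F)) : Prop :=
  ∀ h ∈ X, ∀ l, MonoCol (h : Matrix ι ι F) l → IsMono (h : Matrix ι ι F)

/-- the torus element with entries `η` at `a`, `η⁻¹` at `b` -/
def t2 (a b : ι) (η : Fˣ) : ι → Fˣ := fun k => if k = a then η else if k = b then η⁻¹ else 1

theorem t2_a (a b : ι) (η : Fˣ) : t2 a b η a = η := by simp [t2]

theorem t2_b (a b : ι) (hab : a ≠ b) (η : Fˣ) : t2 a b η b = η⁻¹ := by
  simp [t2, Ne.symm hab]

theorem t2_other (a b : ι) (η : Fˣ) (k : ι) (ha : k ≠ a) (hb : k ≠ b) : t2 a b η k = 1 := by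
  simp [t2, ha, hb]

theorem t2_mem (a b : ι) (hab : a ≠ b) (η : Fˣ) : dg (t2 a b η) ∈ monoSL ι F := by
  apply dg_mem_monoSL
  rw [Finset.prod_eq_mul a b hab]
  · rw [t2_a, t2_b a b hab]
    simp
  · intro k _ hk
    rw [t2_other a b η k hk.1 hk.2]
    simp
  · intro h1
    exact absurd (Finset.mem_univ _) h1
  · intro h1
    exact absurd (Finset.mem_univ _) h1

/-- conjugate of a torus element which is monomial: it is a generalized permutation matrix
satisfying the cubic identity -/
theorem conj_rel3 (h : GL ι F) (t : ι → Fˣ) (s₁ s₂ s₃ : F)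
    (ht : ∀ k, (t k : F) * t k * t k - s₁ * ((t k : F) * t k) + s₂ * t k - s₃ = 0)
    (σ : Equiv.Perm ι) (d : ι → Fˣ) (he : h * dg t * h⁻¹ = gpm σ d) :
    gpmMat σ (fun i => (d i : F)) * gpmMat σ (fun i => (d i : F)) * gpmMat σ (fun i => (d i : F))
      - s₁ • (gpmMat σ (fun i => (d i : F)) * gpmMat σ (fun i => (d i : F)))
      + s₂ • gpmMat σ (fun i => (d i : F)) - s₃ • (1 : Matrix ι ι F) = 0 := by
  have := conj_poly3 (h : Matrix ι ι F) (iv h) (iv_mul h) (fun k => (t k : F)) s₁ s₂ s₃ ht
  rw [← conj_dg_val, he, gpm_val, mul_iv] at this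
  exact this

theorem conj_rel2 (h : GL ι F) (t : ι → Fˣ) (t₁ t₂ : F)
    (ht : ∀ k, (t k : F) * t k - t₁ * t k + t₂ = 0)
    (σ : Equiv.Perm ι) (d : ι → Fˣ) (he : h * dg t * h⁻¹ = gpm σ d) :
    gpmMat σ (fun i => (d i : F)) * gpmMat σ (fun i => (d i : F))
      - t₁ • gpmMat σ (fun i => (d i : F)) + t₂ • (1 : Matrix ι ι F) = 0 := by
  have := conj_poly2 (h : Matrix ι ι F) (iv h) (iv_mul h) (fun k => (t k : F)) t₁ t₂ ht
  rw [← conj_dg_val, he, gpm_val, mul_iv] at this
  exact this

/-- **Claim 1** for fields with an element `η` with `η³ ≠ 1`, `η⁴ ≠ 1`. -/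
theorem claim1_big (η : Fˣ) (h3 : η ^ 3 ≠ 1) (h4 : η ^ 4 ≠ 1) (X : Subgroup (GL ι F))
    (hN : monoSL ι F ≤ X) (hCN : CN X) (h : GL ι F) (hX : h ∈ X)
    (hh : ¬ IsMono (h : Matrix ι ι F)) (l a b : ι) (hab : a ≠ b) (ha : iv h a l = 0)
    (hb : iv h b l = 0) : False := by
  have hη1 : η ≠ 1 := fun e => h3 (by rw [e, one_pow])
  have hη2 : η⁻¹ ≠ η := by
    intro e
    apply h4
    have : η * η = 1 := by
      calc η * η = η * η⁻¹ := by rw [e]
        _ = 1 := mul_inv_cancel η
    have h44 : η ^ 4 = (η * η) * (η * η) := by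
      rw [pow_succ, pow_succ, pow_succ, pow_one, mul_assoc]
    rw [h44, this, one_mul]
  set t := t2 a b η with ht
  have hy : h * dg t * h⁻¹ ∈ X := X.mul_mem (X.mul_mem hX (hN (t2_mem a b hab η))) (X.inv_mem hX)
  have hcol : ∀ m, ((h * dg t * h⁻¹ : GL ι F) : Matrix ι ι F) m l = if m = l then 1 else 0 := by
    apply conj_dg_col_fixed
    intro k hk
    apply t2_other
    · intro e; exact hk (e ▸ ha)
    · intro e; exact hk (e ▸ hb)
  have hmono := hCN _ hy l (monoCol_of_col_eq _ l hcol)
  obtain ⟨σ, d, he⟩ := eq_gpm_of_isMono _ hmono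
  set e : F := (η : F) with hedef
  have he0 : e ≠ 0 := η.ne_zero
  have hinv : ((η⁻¹ : Fˣ) : F) = e⁻¹ := Units.val_inv_eq_inv_val η
  have hrel := conj_rel3 h t (e + e⁻¹ + 1) (e + e⁻¹ + 1) 1 (by
    intro k
    by_cases hka : k = a
    · subst hka
      rw [ht, t2_a]
      show e * e * e - (e + e⁻¹ + 1) * (e * e) + (e + e⁻¹ + 1) * e - 1 = 0
      field_simp
      ring
    · by_cases hkb : k = b
      · subst hkb
        rw [ht, t2_b a k hab, hinv]
        field_simp
        ring
      · rw [ht, t2_other a b η k hka hkb, Units.val_one]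
        ring) σ d he
  have hσ : σ = 1 := by
    refine poly3 σ _ (fun b => (d b).ne_zero) _ _ _ one_ne_zero ?_ ?_ hrel
    · rintro ⟨h1, -⟩
      apply h3
      apply Units.ext
      rw [Units.val_pow_eq_pow_val, Units.val_one]
      have hee : e * e⁻¹ = 1 := mul_inv_cancel₀ he0
      have : e ^ 2 + e + 1 = 0 := by linear_combination e * h1 - hee
      show e ^ 3 = 1
      linear_combination (e - 1) * this
    · intro h1
      apply h4
      apply Units.ext
      rw [Units.val_pow_eq_pow_val, Units.val_one]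
      show e ^ 4 = 1
      have hee : e * e⁻¹ = 1 := mul_inv_cancel₀ he0
      have h2 : (e ^ 2 + e + 1) ^ 2 = e ^ 2 := by
        linear_combination e ^ 2 * h1 - (2 * e ^ 2 + 2 * e + 1 + e * e⁻¹) * hee
      have h5 : (e ^ 2 + 1) * (e + 1) ^ 2 = 0 := by linear_combination h2
      rcases mul_eq_zero.mp h5 with h6 | h6
      · linear_combination (e ^ 2 - 1) * h6
      · have h7 : e + 1 = 0 := by
          rcases pow_eq_zero_iff (n := 2) (by norm_num) |>.mp h6 with h8
          exact h8
        have h8 : e = -1 := by linear_combination h7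
        rw [h8]
        norm_num
  subst hσ
  have hcolm : MonoCol (h : Matrix ι ι F) a := by
    apply monoCol_of_conj_diag h t d he a
    intro k hk
    rw [ht, t2_a]
    by_cases hkb : k = b
    · subst hkb
      rw [t2_b a k hab]
      exact hη2
    · rw [t2_other a b η k hk hkb]
      exact fun e => hη1 e.symm
  exact hh (hCN h hX a hcolm)

end Cfsg.Agent.Lib.Helper8.Mono
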