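import Mathlib
import Cfsg.Agent.Lib.Helper8.Mono6

set_option autoImplicit false
set_option linter.unusedVariables false
set_option linter.unusedSectionVars false
set_option linter.style.longLine false

/-! Monomial matrices (part 7): Claim 1 for the field with five elements, and the unified claim. -/

namespace Cfsg.Agent.Lib.Helper8.Mono

open Matrix

variable {ι : Type} [Fintype ι] [DecidableEq ι] {F : Type*} [Field F]

/-- the torus element with entry `u` on the set `A` -/
def tA (u : Fˣ) (A : Finset ι) : ι → Fˣ := fun k => if k ∈ A then u else 1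

theorem tA_mem (u : Fˣ) (A : Finset ι) (hu : u ^ A.card = 1) : dg (tA u A) ∈ monoSL ι F := by
  apply dg_mem_monoSL
  have e1 : ∏ i, ((tA u A i : Fˣ) : F) = ((∏ i, tA u A i : Fˣ) : F) := by
    rw [Units.coe_prod]
  have e2 : ∏ i, tA u A i = u ^ A.card := by
    unfold tA
    rw [Finset.prod_ite_mem, Finset.univ_inter, Finset.prod_const]
  rw [e1, e2, hu, Units.val_one]

/-- if `h t h⁻¹` is diagonal, a row of `h` is supported where `t` is constant -/
theorem row_supp_of_conj_diag (h : GL ι F) (t d : ι → Fˣ) (he : h * dg t * h⁻¹ = dg d) (m a k : ι)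
    (hma : (h : Matrix ι ι F) m a ≠ 0) (hk : t k ≠ t a) : (h : Matrix ι ι F) m k = 0 := by
  by_contra hne
  have e1 := entry_of_conj_eq_dg h t d he m a hma
  have e2 := entry_of_conj_eq_dg h t d he m k hne
  exact hk (by rw [← e2, e1])

/-- two diagonalizable conjugates separating the index `a` from all others: column `a` is monomial -/
theorem monoCol_of_two_conj_diag (h : GL ι F) (t d t' d' : ι → Fˣ)
    (he : h * dg t * h⁻¹ = dg d) (he' : h * dg t' * h⁻¹ = dg d') (a : ι)
    (ha : ∀ k, k ≠ a → t k ≠ t a ∨ t' k ≠ t' a) : MonoCol (h : Matrix ι ι F) a := by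
  by_contra hcon
  unfold MonoCol at hcon
  push Not at hcon
  obtain ⟨m, hm⟩ : ∃ m, (h : Matrix ι ι F) m a ≠ 0 := by
    by_contra hz
    push Not at hz
    have := iv_mul_apply h a a
    rw [if_pos rfl, Finset.sum_eq_zero (fun k _ => by rw [hz k, mul_zero])] at this
    exact zero_ne_one this
  obtain ⟨m', hmm', hm'⟩ := hcon m
  refine two_rows h m m' a (Ne.symm hmm') ?_ ?_
  · intro k hk
    rcases ha k hk with h1 | h1
    · exact row_supp_of_conj_diag h t d he m a k hm h1
    · exact row_supp_of_conj_diag h t' d' he' m a k hm h1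
  · intro k hk
    rcases ha k hk with h1 | h1
    · exact row_supp_of_conj_diag h t d he m' a k hm' h1
    · exact row_supp_of_conj_diag h t' d' he' m' a k hm' h1

/-- conjugating `tA` along a column of zeros gives a diagonal matrix -/
theorem conj_tA_diag (h2 : (2 : F) ≠ 0) (h3 : (3 : F) ≠ 0) (u : Fˣ) (hu : (u : F) = 2)
    (X : Subgroup (GL ι F)) (hN : monoSL ι F ≤ X) (hCN : CN X) (h : GL ι F) (hX : h ∈ X) (l : ι)
    (A : Finset ι) (hA : u ^ A.card = 1) (hz : ∀ k ∈ A, iv h k l = 0) :
    ∃ d : ι → Fˣ, h * dg (tA u A) * h⁻¹ = dg d := by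
  have hy : h * dg (tA u A) * h⁻¹ ∈ X :=
    X.mul_mem (X.mul_mem hX (hN (tA_mem u A hA))) (X.inv_mem hX)
  have hcol : ∀ m, ((h * dg (tA u A) * h⁻¹ : GL ι F) : Matrix ι ι F) m l
      = if m = l then 1 else 0 := by
    apply conj_dg_col_fixed
    intro k hk
    unfold tA
    rw [if_neg]
    intro hkA
    exact hk (hz k hkA)
  have hmono := hCN _ hy l (monoCol_of_col_eq _ l hcol)
  obtain ⟨σ, d, he⟩ := eq_gpm_of_isMono _ hmono
  have hrel := conj_rel2 h (tA u A) 3 2 (by
    intro k
    unfold tA
    by_cases hk : k ∈ A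
    · rw [if_pos hk, hu]; ring
    · rw [if_neg hk, Units.val_one]; ring) σ d he
  have hσ : σ = 1 := poly2 σ _ (fun b => (d b).ne_zero) 3 2 h3 h2 hrel
  subst hσ
  exact ⟨d, he⟩

theorem two_ne_zero_of_five (h5 : (5 : F) = 0) : (2 : F) ≠ 0 := by
  intro e
  have : (1 : F) = 0 := by linear_combination h5 - 2 * e
  exact one_ne_zero this

theorem three_ne_zero_of_five (h5 : (5 : F) = 0) : (3 : F) ≠ 0 := by
  intro e
  have : (1 : F) = 0 := by linear_combination 2 * e - h5
  exact one_ne_zero this

/-- over the field with five elements: no column of `h⁻¹` (`h` non-monomial) has seven zeros -/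
theorem many_zeros_five (h5 : (5 : F) = 0) (X : Subgroup (GL ι F)) (hN : monoSL ι F ≤ X)
    (hCN : CN X) (h : GL ι F) (hX : h ∈ X) (hh : ¬ IsMono (h : Matrix ι ι F)) (l : ι)
    (S : Finset ι) (hS : 7 ≤ S.card) (hz : ∀ k ∈ S, iv h k l = 0) : False := by
  have h2 := two_ne_zero_of_five h5
  have h3 := three_ne_zero_of_five h5
  set u : Fˣ := Units.mk0 2 h2 with hu
  have huv : (u : F) = 2 := rfl
  have hu1 : u ≠ 1 := by
    intro e
    have := congrArg Units.val e
    rw [huv, Units.val_one] at this
    have : (1 : F) = 0 := by linear_combination this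
    exact one_ne_zero this
  have hu4 : u ^ 4 = 1 := by
    apply Units.ext
    rw [Units.val_pow_eq_pow_val, Units.val_one, huv]
    linear_combination 3 * h5
  -- choose the configuration
  have hne : S.Nonempty := by
    rw [← Finset.card_pos]; omega
  obtain ⟨a₀, ha₀⟩ := hne
  have hc1 : 3 ≤ (S.erase a₀).card := by
    rw [Finset.card_erase_of_mem ha₀]; omega
  obtain ⟨B, hBS, hBc⟩ := Finset.exists_subset_card_eq hc1
  have hc2 : 3 ≤ ((S.erase a₀) \ B).card := by
    have := Finset.card_sdiff_add_card_eq_card hBS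
    rw [Finset.card_erase_of_mem ha₀] at this
    omega
  obtain ⟨B', hB'S, hB'c⟩ := Finset.exists_subset_card_eq hc2
  have ha₀B : a₀ ∉ B := fun hm => (Finset.mem_erase.mp (hBS hm)).1 rfl
  have ha₀B' : a₀ ∉ B' := fun hm =>
    (Finset.mem_erase.mp (Finset.mem_sdiff.mp (hB'S hm)).1).1 rfl
  have hAS : ∀ k ∈ insert a₀ B, iv h k l = 0 := by
    intro k hk
    rcases Finset.mem_insert.mp hk with rfl | hk
    · exact hz _ ha₀
    · exact hz k (Finset.mem_erase.mp (hBS hk)).2
  have hA'S : ∀ k ∈ insert a₀ B', iv h k l = 0 := by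
    intro k hk
    rcases Finset.mem_insert.mp hk with rfl | hk
    · exact hz _ ha₀
    · exact hz k (Finset.mem_erase.mp (Finset.mem_sdiff.mp (hB'S hk)).1).2
  have hcA : (insert a₀ B).card = 4 := by rw [Finset.card_insert_of_notMem ha₀B, hBc]
  have hcA' : (insert a₀ B').card = 4 := by rw [Finset.card_insert_of_notMem ha₀B', hB'c]
  obtain ⟨d, he⟩ := conj_tA_diag h2 h3 u huv X hN hCN h hX l (insert a₀ B)
    (by rw [hcA]; exact hu4) hAS
  obtain ⟨d', he'⟩ := conj_tA_diag h2 h3 u huv X hN hCN h hX l (insert a₀ B')
    (by rw [hcA']; exact hu4) hA'S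
  have hcol : MonoCol (h : Matrix ι ι F) a₀ := by
    apply monoCol_of_two_conj_diag h _ d _ d' he he' a₀
    intro k hk
    have e0 : tA u (insert a₀ B) a₀ = u := by
      unfold tA; rw [if_pos (Finset.mem_insert_self _ _)]
    have e0' : tA u (insert a₀ B') a₀ = u := by
      unfold tA; rw [if_pos (Finset.mem_insert_self _ _)]
    by_cases hkB : k ∈ B
    · right
      have : k ∉ insert a₀ B' := by
        intro hm
        rcases Finset.mem_insert.mp hm with e | hm
        · exact hk e
        · exact (Finset.mem_sdiff.mp (hB'S hm)).2 hkB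
      rw [e0']
      unfold tA
      rw [if_neg this]
      exact fun e => hu1 e.symm
    · left
      have : k ∉ insert a₀ B := by
        intro hm
        rcases Finset.mem_insert.mp hm with e | hm
        · exact hk e
        · exact hkB hm
      rw [e0]
      unfold tA
      rw [if_neg this]
      exact fun e => hu1 e.symm
  exact hh (hCN h hX a₀ hcol)

/-- intertwining relation between `h⁻¹` and a monomial conjugate of a torus element -/
theorem iv_mul_gpm_apply (h : GL ι F) (t : ι → Fˣ) (σ : Equiv.Perm ι) (d : ι → Fˣ)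
    (he : h * dg t * h⁻¹ = gpm σ d) (k j : ι) :
    iv h k (σ j) * (d j : F) = (t k : F) * iv h k j := by
  have e : h⁻¹ * gpm σ d = dg t * h⁻¹ := by
    rw [← he]
    group
  have this : ((h⁻¹ * gpm σ d : GL ι F) : Matrix ι ι F) k j
      = ((dg t * h⁻¹ : GL ι F) : Matrix ι ι F) k j := by rw [e]
  rw [Units.val_mul, Units.val_mul, dg_val, Matrix.diagonal_mul, Matrix.mul_apply,
    Finset.sum_eq_single (σ j)] at this
  · rw [gpm_apply, if_pos rfl] at this
    exact this
  · intro c _ hc
    rw [gpm_apply, if_neg hc, mul_zero]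
  · intro h'
    exact absurd (Finset.mem_univ _) h'

/-- **Claim 1** over the field with five elements. -/
theorem claim1_five (h5 : (5 : F) = 0) (hcard : 9 ≤ Fintype.card ι) (X : Subgroup (GL ι F))
    (hN : monoSL ι F ≤ X) (hCN : CN X) (h : GL ι F) (hX : h ∈ X)
    (hh : ¬ IsMono (h : Matrix ι ι F)) (l a b : ι) (hab : a ≠ b) (ha : iv h a l = 0)
    (hb : iv h b l = 0) : False := by
  have h2 := two_ne_zero_of_five h5
  have h3 := three_ne_zero_of_five h5
  set η : Fˣ := Units.mk0 2 h2 with hη
  have hηv : (η : F) = 2 := rfl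
  have hinv : ((η⁻¹ : Fˣ) : F) = 3 := by
    rw [Units.val_inv_eq_inv_val, hηv]
    have : (2 : F) * 3 = 1 := by linear_combination h5
    exact inv_eq_of_mul_eq_one_right this
  have hη1 : η ≠ 1 := by
    intro e
    have := congrArg Units.val e
    rw [hηv, Units.val_one] at this
    have : (1 : F) = 0 := by linear_combination this
    exact one_ne_zero this
  have hη2 : η⁻¹ ≠ η := by
    intro e
    have := congrArg Units.val e
    rw [hinv, hηv] at this
    have : (1 : F) = 0 := by linear_combination this
    exact one_ne_zero this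
  set t := t2 a b η with ht
  have hy : h * dg t * h⁻¹ ∈ X := X.mul_mem (X.mul_mem hX (hN (t2_mem a b hab η))) (X.inv_mem hX)
  have hcol : ∀ m, ((h * dg t * h⁻¹ : GL ι F) : Matrix ι ι F) m l = if m = l then 1 else 0 := by
    apply conj_dg_col_fixed
    intro k hk
    apply t2_other
    · intro e; exact hk (e ▸ ha)
    · intro e; exact hk (e ▸ hb)
  have hmono := hCN _ hy l (monoCol_of_col_eq _ l hcol)
  obtain ⟨σ, d, he⟩ := eq_gpm_of_isMono _ hmono
  have hrel := conj_rel3 h t 1 1 1 (by
    intro k
    by_cases hka : k = a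
    · subst hka
      rw [ht, t2_a, hηv]
      linear_combination h5
    · by_cases hkb : k = b
      · subst hkb
        rw [ht, t2_b a k hab, hinv]
        linear_combination 4 * h5
      · rw [ht, t2_other a b η k hka hkb, Units.val_one]
        ring) σ d he
  have hp := poly3' σ _ (fun b => (d b).ne_zero) 1 1 1 one_ne_zero
    (fun hc => one_ne_zero hc.1) hrel
  by_cases hall : ∀ j, σ j = j
  · have hσ : σ = 1 := Equiv.ext hall
    subst hσ
    have hcolm : MonoCol (h : Matrix ι ι F) a := by
      apply monoCol_of_conj_diag h t d he a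
      intro k hk
      rw [ht, t2_a]
      by_cases hkb : k = b
      · subst hkb
        rw [t2_b a k hab]
        exact hη2
      · rw [t2_other a b η k hk hkb]
        exact fun e => hη1 e.symm
    exact hh (hCN h hX a hcolm)
  · push Not at hall
    obtain ⟨j, hj⟩ := hall
    rcases hp j with h1 | ⟨h1, h6, -⟩
    · exact hj h1
    · -- column `j` of `h⁻¹` is supported on `{a, b}`
      have key : ∀ k, k ≠ a → k ≠ b → iv h k j = 0 := by
        intro k hka hkb
        have r1 := iv_mul_gpm_apply h t σ d he k j
        have r2 := iv_mul_gpm_apply h t σ d he k (σ j)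
        rw [h1] at r2
        have htk : (t k : F) = 1 := by rw [ht, t2_other a b η k hka hkb, Units.val_one]
        rw [htk, one_mul] at r1 r2
        have : (2 : F) * iv h k j = 0 := by
          have e3 : iv h k j * ((d (σ j) : F) * (d j : F)) = iv h k j := by
            calc iv h k j * ((d (σ j) : F) * (d j : F))
                = (iv h k j * (d (σ j) : F)) * (d j : F) := by ring
              _ = iv h k (σ j) * (d j : F) := by rw [r2]
              _ = iv h k j := r1
          rw [h6] at e3
          linear_combination -e3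
        rcases mul_eq_zero.mp this with e | e
        · exact absurd e h2
        · exact e
      refine many_zeros_five h5 X hN hCN h hX hh j ((Finset.univ.erase a).erase b) ?_ ?_
      · rw [Finset.card_erase_of_mem (Finset.mem_erase.mpr ⟨hab.symm, Finset.mem_univ _⟩),
          Finset.card_erase_of_mem (Finset.mem_univ _), Finset.card_univ]
        omega
      · intro k hk
        have hk1 := Finset.mem_erase.mp hk
        have hk2 := Finset.mem_erase.mp hk1.2
        exact key k hk2.1 hk1.1

/-- **Claim 1**: in a subgroup satisfying `CN` over a field with at least five elements, a column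
of the inverse of a non-monomial element has at most one zero. -/
theorem claim1 [Fintype F] (hq : 5 ≤ Fintype.card F) (hcard : 9 ≤ Fintype.card ι)
    (X : Subgroup (GL ι F)) (hN : monoSL ι F ≤ X) (hCN : CN X) (h : GL ι F) (hX : h ∈ X)
    (hh : ¬ IsMono (h : Matrix ι ι F)) (l a b : ι) (hab : a ≠ b) (ha : iv h a l = 0)
    (hb : iv h b l = 0) : False := by
  classical
  by_cases h5 : Fintype.card F = 5
  · have : (5 : F) = 0 := by
      have := Nat.cast_card_eq_zero F
      rw [h5] at this
      exact_mod_cast this
    exact claim1_five this hcard X hN hCN h hX hh l a b hab ha hb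
  · obtain ⟨η, hgen⟩ := IsCyclic.exists_generator (α := Fˣ)
    have hord : orderOf η = Fintype.card F - 1 := by
      rw [orderOf_eq_card_of_forall_mem_zpowers hgen, Nat.card_eq_fintype_card, Fintype.card_units]
    have h5' : 5 ≤ orderOf η := by rw [hord]; omega
    exact claim1_big η (pow_ne_one_of_lt_orderOf (by norm_num) (by omega))
      (pow_ne_one_of_lt_orderOf (by norm_num) (by omega)) X hN hCN h hX hh l a b hab ha hb

end Cfsg.Agent.Lib.Helper8.Mono
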