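import Mathlib
import Cfsg.Agent.Lib.Helper8.Mono7

set_option autoImplicit false
set_option linter.unusedVariables false
set_option linter.unusedSectionVars false
set_option linter.style.longLine false

/-! Monomial matrices (part 8): Claims 2 and 3; a subgroup containing the monomial matrices of
determinant one and a non-monomial element contains a non-monomial element with a monomial
column. -/

namespace Cfsg.Agent.Lib.Helper8.Mono

open Matrix

variable {ι : Type} [Fintype ι] [DecidableEq ι] {F : Type*} [Field F]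

theorem iv_inv (h : GL ι F) : iv h⁻¹ = (h : Matrix ι ι F) := by
  unfold iv
  rw [inv_inv]

theorem not_isMono_inv (h : GL ι F) (hh : ¬ IsMono (h : Matrix ι ι F)) :
    ¬ IsMono ((h⁻¹ : GL ι F) : Matrix ι ι F) :=
  fun hm => hh (IsMono.inv hm (mul_iv h))

theorem exists_not_mem_four (hcard : 5 ≤ Fintype.card ι) (a b c d : ι) :
    ∃ l, l ≠ a ∧ l ≠ b ∧ l ≠ c ∧ l ≠ d := by
  by_contra hcon
  push Not at hcon
  have hsub : (Finset.univ : Finset ι) ⊆ {a, b, c, d} := by
    intro l _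
    simp only [Finset.mem_insert, Finset.mem_singleton]
    by_cases h1 : l = a
    · exact Or.inl h1
    · by_cases h2 : l = b
      · exact Or.inr (Or.inl h2)
      · by_cases h3 : l = c
        · exact Or.inr (Or.inr (Or.inl h3))
        · exact Or.inr (Or.inr (Or.inr (hcon l h1 h2 h3)))
  have := Finset.card_le_card hsub
  rw [Finset.card_univ] at this
  have h4 : ({a, b, c, d} : Finset ι).card ≤ 4 := Finset.card_le_four
  omega

/-- entries of the conjugate of `t2` -/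
theorem conj_t2_apply (h : GL ι F) (r s : ι) (hrs : r ≠ s) (ε : Fˣ) (m l : ι) :
    ((h * dg (t2 r s ε) * h⁻¹ : GL ι F) : Matrix ι ι F) m l
      = (if m = l then 1 else 0) + ((ε : F) - 1) * ((h : Matrix ι ι F) m r * iv h r l)
        + (((ε⁻¹ : Fˣ) : F) - 1) * ((h : Matrix ι ι F) m s * iv h s l) := by
  rw [conj_dg_apply, ← mul_iv_apply h m l]
  have key : ∀ k, (h : Matrix ι ι F) m k * (t2 r s ε k : F) * iv h k l
      = (h : Matrix ι ι F) m k * iv h k l
        + (if k = r then ((ε : F) - 1) * ((h : Matrix ι ι F) m r * iv h r l) else 0)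
        + (if k = s then (((ε⁻¹ : Fˣ) : F) - 1) * ((h : Matrix ι ι F) m s * iv h s l) else 0) := by
    intro k
    by_cases hkr : k = r
    · subst hkr
      rw [t2_a, if_pos rfl, if_neg hrs]
      ring
    · by_cases hks : k = s
      · subst hks
        rw [t2_b r k hrs, if_neg hkr, if_pos rfl]
        ring
      · rw [t2_other r s ε k hkr hks, if_neg hkr, if_neg hks, Units.val_one]
        ring
  rw [Finset.sum_congr rfl (fun k _ => key k), Finset.sum_add_distrib, Finset.sum_add_distrib,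
    Finset.sum_ite_eq', Finset.sum_ite_eq', if_pos (Finset.mem_univ _), if_pos (Finset.mem_univ _)]

/-- two columns of an invertible matrix are not proportional -/
theorem two_cols (g : GL ι F) (r s : ι) (hrs : r ≠ s) (hs : ∀ m, (g : Matrix ι ι F) m s ≠ 0)
    (hmin : ∀ m m', (g : Matrix ι ι F) m r * (g : Matrix ι ι F) m' s
      = (g : Matrix ι ι F) m' r * (g : Matrix ι ι F) m s) : False := by
  set lam := (g : Matrix ι ι F) r r / (g : Matrix ι ι F) r s with hlam
  have hcol : ∀ m, (g : Matrix ι ι F) m r = lam * (g : Matrix ι ι F) m s := by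
    intro m
    have := hmin m r
    rw [hlam, div_mul_eq_mul_div, eq_div_iff (hs r)]
    linear_combination this
  have e1 := iv_mul_apply g r r
  have e2 := iv_mul_apply g r s
  rw [if_pos rfl] at e1
  rw [if_neg hrs] at e2
  have e3 : ∑ k, iv g r k * (g : Matrix ι ι F) k r = lam * ∑ k, iv g r k * (g : Matrix ι ι F) k s := by
    rw [Finset.mul_sum]
    refine Finset.sum_congr rfl fun k _ => ?_
    rw [hcol k]
    ring
  rw [e1, e2, mul_zero] at e3
  exact one_ne_zero e3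

/-- **Claim 2**: it is impossible that all entries of all non-monomial elements are non-zero. -/
theorem claim2 (hcard : 5 ≤ Fintype.card ι) (X : Subgroup (GL ι F)) (hN : monoSL ι F ≤ X)
    (hAll : ∀ g ∈ X, ¬ IsMono (g : Matrix ι ι F) → ∀ m k, (g : Matrix ι ι F) m k ≠ 0)
    (g : GL ι F) (hg : g ∈ X) (hgm : ¬ IsMono (g : Matrix ι ι F)) : False := by
  have hg' := hAll g hg hgm
  have hiv : ∀ m k, iv g m k ≠ 0 := hAll g⁻¹ (X.inv_mem hg) (not_isMono_inv g hgm)
  haveI : Nontrivial ι := by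
    rw [← Fintype.one_lt_card_iff_nontrivial]
    omega
  obtain ⟨r, s, hrs⟩ := exists_pair_ne ι
  have hAB : ∀ m l, m ≠ l → (g : Matrix ι ι F) m r * iv g r l = (g : Matrix ι ι F) m s * iv g s l := by
    intro m l hml
    by_contra hne
    set A := (g : Matrix ι ι F) m r * iv g r l with hA
    set B := (g : Matrix ι ι F) m s * iv g s l with hB
    have hA0 : A ≠ 0 := mul_ne_zero (hg' m r) (hiv r l)
    have hB0 : B ≠ 0 := mul_ne_zero (hg' m s) (hiv s l)
    set ε : Fˣ := Units.mk0 (B / A) (div_ne_zero hB0 hA0) with hε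
    have hεv : (ε : F) = B / A := rfl
    have hεi : ((ε⁻¹ : Fˣ) : F) = A / B := by
      rw [Units.val_inv_eq_inv_val, hεv, inv_div]
    have hε1 : (ε : F) - 1 ≠ 0 := by
      intro e
      apply hne
      have : B / A = 1 := by rw [← hεv]; linear_combination e
      rw [div_eq_one_iff_eq hA0] at this
      exact this.symm
    set x := g * dg (t2 r s ε) * g⁻¹ with hx
    have hxX : x ∈ X := X.mul_mem (X.mul_mem hg (hN (t2_mem r s hrs ε))) (X.inv_mem hg)
    have hxe : ∀ m' l', m' ≠ l' → (x : Matrix ι ι F) m' l'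
        = ((ε : F) - 1) * ((g : Matrix ι ι F) m' r * iv g r l')
          + (((ε⁻¹ : Fˣ) : F) - 1) * ((g : Matrix ι ι F) m' s * iv g s l') := by
      intro m' l' hml'
      rw [hx, conj_t2_apply g r s hrs ε m' l', if_neg hml', zero_add]
    have hxml : (x : Matrix ι ι F) m l = 0 := by
      rw [hxe m l hml, hεv, hεi, ← hA, ← hB]
      field_simp
      ring
    have hxm : IsMono (x : Matrix ι ι F) := by
      by_contra hxm
      exact hAll x hxX hxm m l hxml
    obtain ⟨σ, d, hxg⟩ := eq_gpm_of_isMono x hxm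
    refine two_cols g r s hrs (fun m' => hg' m' s) ?_
    intro m₁ m₂
    obtain ⟨l', h1, h2, h3, h4⟩ := exists_not_mem_four hcard m₁ m₂ (σ⁻¹ m₁) (σ⁻¹ m₂)
    have hz1 : (x : Matrix ι ι F) m₁ l' = 0 := by
      rw [hxg, gpm_apply, if_neg]
      intro e
      apply h3
      rw [e]
      simp
    have hz2 : (x : Matrix ι ι F) m₂ l' = 0 := by
      rw [hxg, gpm_apply, if_neg]
      intro e
      apply h4
      rw [e]
      simp
    rw [hxe m₁ l' (Ne.symm h1)] at hz1
    rw [hxe m₂ l' (Ne.symm h2)] at hz2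
    have hc0 : ((ε : F) - 1) * iv g r l' ≠ 0 := mul_ne_zero hε1 (hiv r l')
    have : (((ε : F) - 1) * iv g r l') * ((g : Matrix ι ι F) m₁ r * (g : Matrix ι ι F) m₂ s
        - (g : Matrix ι ι F) m₂ r * (g : Matrix ι ι F) m₁ s) = 0 := by
      linear_combination (g : Matrix ι ι F) m₂ s * hz1 - (g : Matrix ι ι F) m₁ s * hz2
    rcases mul_eq_zero.mp this with e | e
    · exact absurd e hc0
    · linear_combination e
  refine two_cols g r s hrs (fun m' => hg' m' s) ?_
  intro m₁ m₂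
  obtain ⟨l', h1, h2, -, -⟩ := exists_not_mem_four hcard m₁ m₂ m₁ m₂
  have e1 := hAB m₁ l' (Ne.symm h1)
  have e2 := hAB m₂ l' (Ne.symm h2)
  have : iv g r l' * ((g : Matrix ι ι F) m₁ r * (g : Matrix ι ι F) m₂ s
      - (g : Matrix ι ι F) m₂ r * (g : Matrix ι ι F) m₁ s) = 0 := by
    linear_combination (g : Matrix ι ι F) m₂ s * e1 - (g : Matrix ι ι F) m₁ s * e2
  rcases mul_eq_zero.mp this with e | e
  · exact absurd e (hiv r l')
  · linear_combination e

/-- tool: realize `e_l + h w` as a column of an element of `X` -/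
theorem exists_col (X : Subgroup (GL ι F)) (hN : monoSL ι F ≤ X) (h : GL ι F) (hX : h ∈ X)
    (l a : ι) (ha : iv h a l = 0) (hc : ∀ k, k ≠ a → iv h k l ≠ 0)
    (w : ι → F) (hwa : w a = 0) (hw : ∀ k, k ≠ a → iv h k l + w k ≠ 0) :
    ∃ y ∈ X, ∀ m, (y : Matrix ι ι F) m l
      = (if m = l then 1 else 0) + ((h : Matrix ι ι F) *ᵥ w) m := by
  have hex : ∀ k, ∃ u : Fˣ, k ≠ a → (u : F) * iv h k l = iv h k l + w k := by
    intro k
    by_cases hk : k = a
    · exact ⟨1, fun h' => absurd hk h'⟩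
    · refine ⟨Units.mk0 ((iv h k l + w k) / iv h k l) (div_ne_zero (hw k hk) (hc k hk)), fun _ => ?_⟩
      rw [Units.val_mk0, div_mul_cancel₀ _ (hc k hk)]
  choose t0 ht0 using hex
  set t := Function.update t0 a (∏ k ∈ Finset.univ \ {a}, t0 k)⁻¹ with ht
  have hprod : ∏ k, t k = 1 := by
    rw [ht, Finset.prod_update_of_mem (Finset.mem_univ a)]
    exact inv_mul_cancel _
  have hmem : dg t ∈ monoSL ι F := by
    apply dg_mem_monoSL
    rw [← Units.coe_prod, hprod, Units.val_one]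
  refine ⟨h * dg t * h⁻¹, X.mul_mem (X.mul_mem hX (hN hmem)) (X.inv_mem hX), fun m => ?_⟩
  rw [conj_dg_apply, ← mul_iv_apply h m l, Matrix.mulVec, dotProduct, ← Finset.sum_add_distrib]
  refine Finset.sum_congr rfl fun k _ => ?_
  by_cases hk : k = a
  · subst hk
    rw [ha, hwa]
    ring
  · have e : t k = t0 k := by rw [ht, Function.update_of_ne hk]
    rw [e]
    have := ht0 k hk
    linear_combination (h : Matrix ι ι F) m k * this

theorem iv_mulVec_mulVec (h : GL ι F) (w : ι → F) : iv h *ᵥ ((h : Matrix ι ι F) *ᵥ w) = w := by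
  rw [Matrix.mulVec_mulVec, iv_mul, Matrix.one_mulVec]

/-- a non-zero vector supported on `Θ` and killed by two functionals -/
theorem exists_ker_vec (Θ : Finset ι) (hΘ : 3 ≤ Θ.card) (ρ₁ ρ₂ : ι → F) :
    ∃ v : ι → F, v ≠ 0 ∧ (∀ k, k ∉ Θ → v k = 0) ∧ ∑ k, ρ₁ k * v k = 0 ∧ ∑ k, ρ₂ k * v k = 0 := by
  classical
  let L : (Θ → F) →ₗ[F] (F × F) :=
    { toFun := fun v => (∑ k : Θ, ρ₁ k * v k, ∑ k : Θ, ρ₂ k * v k)
      map_add' := by
        intro x y
        simp only [Pi.add_apply, mul_add, Finset.sum_add_distrib, Prod.mk_add_mk]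
      map_smul' := by
        intro c x
        simp only [Pi.smul_apply, smul_eq_mul, RingHom.id_apply, Prod.smul_mk, Finset.mul_sum]
        congr 1 <;> exact Finset.sum_congr rfl fun k _ => by ring }
  have hker : LinearMap.ker L ≠ ⊥ := by
    apply LinearMap.ker_ne_bot_of_finrank_lt
    rw [Module.finrank_prod, Module.finrank_self, Module.finrank_fintype_fun_eq_card,
      Fintype.card_coe]
    omega
  obtain ⟨v₀, hv₀, hv₀0⟩ := Submodule.exists_mem_ne_zero_of_ne_bot hker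
  rw [LinearMap.mem_ker] at hv₀
  have h1 : ∑ k : Θ, ρ₁ k * v₀ k = 0 := congrArg Prod.fst hv₀
  have h2 : ∑ k : Θ, ρ₂ k * v₀ k = 0 := congrArg Prod.snd hv₀
  set v : ι → F := fun k => if hk : k ∈ Θ then v₀ ⟨k, hk⟩ else 0 with hv
  have hvΘ : ∀ k : Θ, v k = v₀ k := by
    intro k
    rw [hv]
    simp only
    rw [dif_pos k.2]
  have hvout : ∀ k, k ∉ Θ → v k = 0 := by
    intro k hk
    rw [hv]
    simp only
    rw [dif_neg hk]
  have hsum : ∀ ρ : ι → F, ∑ k, ρ k * v k = ∑ k : Θ, ρ k * v₀ k := by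
    intro ρ
    rw [← Finset.sum_subset (Finset.subset_univ Θ) (fun k _ hk => by rw [hvout k hk, mul_zero]),
      ← Finset.sum_coe_sort Θ]
    exact Finset.sum_congr rfl fun k _ => by rw [hvΘ k]
  refine ⟨v, ?_, hvout, ?_, ?_⟩
  · intro e
    apply hv₀0
    ext k
    rw [← hvΘ k, e]
    rfl
  · rw [hsum, h1]
  · rw [hsum, h2]

/-- a scalar avoiding finitely many values -/
theorem exists_scalar [Fintype F] (hq : 5 ≤ Fintype.card F) (Θ : Finset ι) (hΘ : Θ.card ≤ 3)
    (c v : ι → F) (hc : ∀ k ∈ Θ, c k ≠ 0) :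
    ∃ lam : F, lam ≠ 0 ∧ ∀ k ∈ Θ, c k + lam * v k ≠ 0 := by
  classical
  set S : Finset F := insert 0 (Θ.image fun k => -c k / v k) with hS
  have hcard : S.card < (Finset.univ : Finset F).card := by
    rw [Finset.card_univ]
    have h3 : S.card ≤ Θ.card + 1 :=
      le_trans (Finset.card_insert_le _ _) (Nat.succ_le_succ Finset.card_image_le)
    omega
  obtain ⟨lam, -, hlam⟩ := Finset.exists_mem_notMem_of_card_lt_card hcard
  refine ⟨lam, ?_, ?_⟩
  · intro e
    apply hlam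
    rw [e, hS]
    exact Finset.mem_insert_self _ _
  · intro k hk e
    by_cases hv : v k = 0
    · rw [hv, mul_zero, add_zero] at e
      exact hc k hk e
    · apply hlam
      rw [hS]
      apply Finset.mem_insert_of_mem
      rw [Finset.mem_image]
      refine ⟨k, hk, ?_⟩
      rw [div_eq_iff hv]
      linear_combination -e

/-- core of Claim 3 -/
theorem claim3_core (X : Subgroup (GL ι F)) (hN : monoSL ι F ≤ X) (hCN : CN X)
    (hC1 : ∀ h ∈ X, ¬ IsMono (h : Matrix ι ι F) → ∀ l a b, a ≠ b → iv h a l = 0 →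
      iv h b l = 0 → False)
    (h : GL ι F) (hX : h ∈ X) (l a : ι) (ha : iv h a l = 0) (hc : ∀ k, k ≠ a → iv h k l ≠ 0)
    (w : ι → F) (hwa : w a = 0) (hw : ∀ k, k ≠ a → iv h k l + w k ≠ 0) (hw0 : w ≠ 0)
    (k₀ : ι) (hk₀ : k₀ ≠ a) (hwk₀ : w k₀ = 0) (m₁ m₂ : ι) (hm : m₁ ≠ m₂) (hm₁ : m₁ ≠ l)
    (hm₂ : m₂ ≠ l) (h1 : ((h : Matrix ι ι F) *ᵥ w) m₁ = 0)
    (h2 : ((h : Matrix ι ι F) *ᵥ w) m₂ = 0) : ((h : Matrix ι ι F) *ᵥ w) l = -1 := by
  obtain ⟨y, hyX, hycol⟩ := exists_col X hN h hX l a ha hc w hwa hw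
  have hy1 : (y : Matrix ι ι F) m₁ l = 0 := by rw [hycol, if_neg hm₁, h1, add_zero]
  have hy2 : (y : Matrix ι ι F) m₂ l = 0 := by rw [hycol, if_neg hm₂, h2, add_zero]
  have hym : IsMono (y : Matrix ι ι F) := by
    by_contra hym
    refine hC1 y⁻¹ (X.inv_mem hyX) (not_isMono_inv y hym) l m₁ m₂ hm ?_ ?_
    · rw [iv_inv]; exact hy1
    · rw [iv_inv]; exact hy2
  obtain ⟨p, hp⟩ := hym l
  by_cases hpl : p = l
  · exfalso
    subst hpl
    have hz : ∀ m, m ≠ p → ((h : Matrix ι ι F) *ᵥ w) m = 0 := by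
      intro m hmp
      have := hp m hmp
      rw [hycol, if_neg hmp, zero_add] at this
      exact this
    have hwj : ∀ j, w j = iv h j p * ((h : Matrix ι ι F) *ᵥ w) p := by
      intro j
      have := congrFun (iv_mulVec_mulVec h w) j
      rw [Matrix.mulVec, dotProduct, Finset.sum_eq_single p (fun m _ hmp => by rw [hz m hmp, mul_zero])
        (fun hh => absurd (Finset.mem_univ _) hh)] at this
      exact this.symm
    have hκ : ((h : Matrix ι ι F) *ᵥ w) p = 0 := by
      have := hwj k₀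
      rw [hwk₀] at this
      rcases mul_eq_zero.mp this.symm with e | e
      · exact absurd e (hc k₀ hk₀)
      · exact e
    apply hw0
    ext j
    rw [hwj j, hκ, mul_zero]
    rfl
  · have := hp l (Ne.symm hpl)
    rw [hycol, if_pos rfl] at this
    linear_combination this

/-- an admissible vector supported on a three-element set -/
theorem exists_adm [Fintype F] (hq : 5 ≤ Fintype.card F) (h : GL ι F) (l a : ι)
    (hc : ∀ k, k ≠ a → iv h k l ≠ 0) (Θ : Finset ι) (hΘ : Θ.card = 3) (haΘ : a ∉ Θ)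
    (m₁ m₂ : ι) :
    ∃ w : ι → F, (∀ k, k ∉ Θ → w k = 0) ∧ (∃ k, w k ≠ 0) ∧ (∀ k ∈ Θ, iv h k l + w k ≠ 0) ∧
      ((h : Matrix ι ι F) *ᵥ w) m₁ = 0 ∧ ((h : Matrix ι ι F) *ᵥ w) m₂ = 0 := by
  obtain ⟨v, hv0, hvs, hv1, hv2⟩ := exists_ker_vec Θ (by omega) ((h : Matrix ι ι F) m₁)
    ((h : Matrix ι ι F) m₂)
  obtain ⟨lam, hlam, hlamΘ⟩ := exists_scalar hq Θ (by omega) (fun k => iv h k l) v
    (fun k hk => hc k (fun e => haΘ (e ▸ hk)))
  refine ⟨fun k => lam * v k, ?_, ?_, hlamΘ, ?_, ?_⟩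
  · intro k hk
    show lam * v k = 0
    rw [hvs k hk, mul_zero]
  · obtain ⟨k, hk⟩ := Function.ne_iff.mp hv0
    exact ⟨k, mul_ne_zero hlam hk⟩
  · rw [Matrix.mulVec, dotProduct]
    have : ∑ k, (h : Matrix ι ι F) m₁ k * (lam * v k) = lam * ∑ k, (h : Matrix ι ι F) m₁ k * v k := by
      rw [Finset.mul_sum]
      exact Finset.sum_congr rfl fun k _ => by ring
    rw [this, hv1, mul_zero]
  · rw [Matrix.mulVec, dotProduct]
    have : ∑ k, (h : Matrix ι ι F) m₂ k * (lam * v k) = lam * ∑ k, (h : Matrix ι ι F) m₂ k * v k := by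
      rw [Finset.mul_sum]
      exact Finset.sum_congr rfl fun k _ => by ring
    rw [this, hv2, mul_zero]

/-- **Claim 3**: a column of the inverse of a non-monomial element has no zero at all. -/
theorem claim3 [Fintype F] (hq : 5 ≤ Fintype.card F) (hcard : 8 ≤ Fintype.card ι)
    (X : Subgroup (GL ι F)) (hN : monoSL ι F ≤ X) (hCN : CN X)
    (hC1 : ∀ h ∈ X, ¬ IsMono (h : Matrix ι ι F) → ∀ l a b, a ≠ b → iv h a l = 0 →
      iv h b l = 0 → False)
    (h : GL ι F) (hX : h ∈ X) (hh : ¬ IsMono (h : Matrix ι ι F)) (l a : ι)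
    (ha : iv h a l = 0) : False := by
  have hc : ∀ k, k ≠ a → iv h k l ≠ 0 := fun k hk e => hC1 h hX hh l a k (Ne.symm hk) ha e
  obtain ⟨m₁, hm₁, -, -, -⟩ := exists_not_mem_four (by omega) l l l l
  obtain ⟨m₂, hm₂, hm₂₁, -, -⟩ := exists_not_mem_four (by omega) l m₁ l l
  -- the two triples
  have hc0 : (Finset.univ.erase a).card = Fintype.card ι - 1 := by
    rw [Finset.card_erase_of_mem (Finset.mem_univ _), Finset.card_univ]
  obtain ⟨Θ, hΘs, hΘc⟩ := Finset.exists_subset_card_eq (show 3 ≤ (Finset.univ.erase a).card by omega)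
  have hc1 : ((Finset.univ.erase a) \ Θ).card = Fintype.card ι - 4 := by
    have := Finset.card_sdiff_add_card_eq_card hΘs
    omega
  obtain ⟨Θ', hΘ's, hΘ'c⟩ := Finset.exists_subset_card_eq
    (show 3 ≤ ((Finset.univ.erase a) \ Θ).card by omega)
  have hc2 : (((Finset.univ.erase a) \ Θ) \ Θ').card = Fintype.card ι - 7 := by
    have := Finset.card_sdiff_add_card_eq_card hΘ's
    omega
  have hne : (((Finset.univ.erase a) \ Θ) \ Θ').Nonempty := by
    rw [← Finset.card_pos]; omega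
  obtain ⟨k₀, hk₀⟩ := hne
  have hk₀Θ' : k₀ ∉ Θ' := (Finset.mem_sdiff.mp hk₀).2
  have hk₀Θ : k₀ ∉ Θ := (Finset.mem_sdiff.mp (Finset.mem_sdiff.mp hk₀).1).2
  have hk₀a : k₀ ≠ a := (Finset.mem_erase.mp (Finset.mem_sdiff.mp (Finset.mem_sdiff.mp hk₀).1).1).1
  have haΘ : a ∉ Θ := fun hm => (Finset.mem_erase.mp (hΘs hm)).1 rfl
  have haΘ' : a ∉ Θ' := fun hm => (Finset.mem_erase.mp (Finset.mem_sdiff.mp (hΘ's hm)).1).1 rfl
  have hdisj : ∀ k, k ∈ Θ → k ∉ Θ' := fun k hk hk' => (Finset.mem_sdiff.mp (hΘ's hk')).2 hk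
  obtain ⟨w, hws, ⟨kw, hkw⟩, hwΘ, hw1, hw2⟩ := exists_adm hq h l a hc Θ hΘc haΘ m₁ m₂
  obtain ⟨w', hws', ⟨kw', hkw'⟩, hwΘ', hw1', hw2'⟩ := exists_adm hq h l a hc Θ' hΘ'c haΘ' m₁ m₂
  have hadm : ∀ k, k ≠ a → iv h k l + w k ≠ 0 := by
    intro k hk
    by_cases hkΘ : k ∈ Θ
    · exact hwΘ k hkΘ
    · rw [hws k hkΘ, add_zero]; exact hc k hk
  have hadm' : ∀ k, k ≠ a → iv h k l + w' k ≠ 0 := by
    intro k hk
    by_cases hkΘ : k ∈ Θ'
    · exact hwΘ' k hkΘ
    · rw [hws' k hkΘ, add_zero]; exact hc k hk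
  have hadm'' : ∀ k, k ≠ a → iv h k l + (w + w') k ≠ 0 := by
    intro k hk
    rw [Pi.add_apply]
    by_cases hkΘ : k ∈ Θ
    · rw [hws' k (hdisj k hkΘ), add_zero]; exact hwΘ k hkΘ
    · rw [hws k hkΘ, zero_add]; exact hadm' k hk
  have hkwΘ : kw ∈ Θ := by
    by_contra hcon
    exact hkw (hws kw hcon)
  have e1 := claim3_core X hN hCN hC1 h hX l a ha hc w (hws a haΘ) hadm
    (fun e => hkw (by rw [e]; rfl)) k₀ hk₀a (hws k₀ hk₀Θ) m₁ m₂ (Ne.symm hm₂₁) hm₁ hm₂ hw1 hw2
  have e2 := claim3_core X hN hCN hC1 h hX l a ha hc w' (hws' a haΘ') hadm'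
    (fun e => hkw' (by rw [e]; rfl)) k₀ hk₀a (hws' k₀ hk₀Θ') m₁ m₂ (Ne.symm hm₂₁) hm₁ hm₂ hw1' hw2'
  have e3 := claim3_core X hN hCN hC1 h hX l a ha hc (w + w')
    (by rw [Pi.add_apply, hws a haΘ, hws' a haΘ', add_zero]) hadm''
    (fun e => hkw (by
      have := congrFun e kw
      rw [Pi.add_apply, hws' kw (hdisj kw hkwΘ), add_zero] at this
      exact this)) k₀ hk₀a
    (by rw [Pi.add_apply, hws k₀ hk₀Θ, hws' k₀ hk₀Θ', add_zero]) m₁ m₂ (Ne.symm hm₂₁) hm₁ hm₂
    (by rw [Matrix.mulVec_add, Pi.add_apply, hw1, hw1', add_zero])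
    (by rw [Matrix.mulVec_add, Pi.add_apply, hw2, hw2', add_zero])
  rw [Matrix.mulVec_add, Pi.add_apply, e1, e2] at e3
  have : (1 : F) = 0 := by linear_combination -e3
  exact one_ne_zero this

/-- **Crux (special linear case)**: a subgroup containing the monomial matrices of determinant one
in which every element with a monomial column is monomial consists of monomial matrices. -/
theorem cruxSL [Fintype F] (hq : 5 ≤ Fintype.card F) (hcard : 9 ≤ Fintype.card ι)
    (X : Subgroup (GL ι F)) (hN : monoSL ι F ≤ X) (hCN : CN X) (g : GL ι F) (hg : g ∈ X)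
    (hgm : ¬ IsMono (g : Matrix ι ι F)) : False := by
  have hC1 : ∀ h ∈ X, ¬ IsMono (h : Matrix ι ι F) → ∀ l a b, a ≠ b → iv h a l = 0 →
      iv h b l = 0 → False :=
    fun h hX hh l a b hab ha hb => claim1 hq hcard X hN hCN h hX hh l a b hab ha hb
  by_cases hz : ∃ h ∈ X, ¬ IsMono (h : Matrix ι ι F) ∧ ∃ a l, iv h a l = 0
  · obtain ⟨h, hX, hh, a, l, ha⟩ := hz
    exact claim3 hq (by omega) X hN hCN hC1 h hX hh l a ha
  · push Not at hz
    refine claim2 (by omega) X hN ?_ g hg hgm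
    intro g' hg' hgm' m k
    have := hz g'⁻¹ (X.inv_mem hg') (not_isMono_inv g' hgm') m k
    rwa [iv_inv] at this

end Cfsg.Agent.Lib.Helper8.Mono
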