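import Mathlib
import Cfsg.Agent.Lib.Helper8.Mono8

set_option autoImplicit false
set_option linter.unusedVariables false
set_option linter.unusedSectionVars false
set_option linter.style.longLine false

/-! Monomial matrices (part 9): the crux for subgroups containing all monomial matrices, and
generation of `SL` from a row transvection and all monomial matrices. -/

namespace Cfsg.Agent.Lib.Helper8.Mono

open Matrix

variable {ι : Type} [Fintype ι] [DecidableEq ι] {F : Type*} [Field F]

theorem etv_zero (i l : ι) (hil : i ≠ l) : etv i l hil (0 : F) = 1 := by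
  unfold etv
  rw [rtv_eq_one_iff]
  simp

/-- an elementary transvection and all monomial matrices generate `SL` -/
theorem SL_le_of_etv_GL (X : Subgroup (GL ι F)) (hN : monoSub ι F ≤ X) (i l : ι) (hil : i ≠ l)
    (c₀ : F) (hc₀ : c₀ ≠ 0) (hX : etv i l hil c₀ ∈ X) : Cfsg.Geo.specialLinear ι F ≤ X := by
  haveI : Nontrivial ι := ⟨⟨i, l, hil⟩⟩
  apply SL_le_of_etv
  intro i' l' hil' c'
  by_cases hc' : c' = 0
  · subst hc'
    rw [etv_zero]
    exact X.one_mem
  · obtain ⟨σ, hσi, hσl⟩ := exists_perm_two i l i' l' hil hil'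
    let θ : Fˣ := Units.mk0 (c' / c₀) (div_ne_zero hc' hc₀)
    let d : ι → Fˣ := fun x => if x = i then θ else 1
    have hg : gpm σ d ∈ X := hN (gpm_mem_monoSub σ d)
    have := X.mul_mem (X.mul_mem hg hX) (X.inv_mem hg)
    rw [gpm_conj_etv] at this
    have e2 : ((d i : Fˣ) : F) * c₀ * ((d l)⁻¹ : Fˣ) = c' := by
      have h1 : d i = θ := by simp [d]
      have h2 : d l = 1 := by simp [d, Ne.symm hil]
      rw [h1, h2]
      simp only [inv_one, Units.val_one, mul_one, θ, Units.val_mk0]
      field_simp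
    have e : etv (σ i) (σ l) (fun e => hil (σ.injective e)) (((d i : Fˣ) : F) * c₀ * ((d l)⁻¹ : Fˣ))
        = etv i' l' hil' c' := by
      unfold etv
      apply Units.ext
      rw [rtv_val, rtv_val, e2, hσi, hσl]
    rw [e] at this
    exact this

/-- a non-trivial row transvection and all monomial matrices generate `SL` -/
theorem SL_le_of_rtv_GL (hF : ∃ θ : Fˣ, θ ≠ 1) (X : Subgroup (GL ι F)) (hN : monoSub ι F ≤ X)
    (i : ι) (φ : ι → F) (h : φ i = 0) (hφ : φ ≠ 0) (hX : rtv i φ h ∈ X) :
    Cfsg.Geo.specialLinear ι F ≤ X := by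
  obtain ⟨j, hj⟩ := Function.ne_iff.mp hφ
  have hij : i ≠ j := fun e => hj (by rw [← e, h]; rfl)
  obtain ⟨θ, hθ⟩ := hF
  let d : ι → Fˣ := fun x => if x = j then θ else 1
  have hd : dg d ∈ X := hN (dg_mem_monoSub d)
  have h1 := X.mul_mem (X.mul_mem (X.mul_mem hd hX) (X.inv_mem hd)) (X.inv_mem hX)
  have hc₀ : (((θ⁻¹ : Fˣ) : F) - 1) * φ j ≠ 0 := by
    apply mul_ne_zero _ hj
    intro e
    apply hθ
    have : ((θ⁻¹ : Fˣ) : F) = 1 := by linear_combination e
    have h2 : θ⁻¹ = 1 := Units.ext (by rw [this, Units.val_one])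
    exact inv_eq_one.mp h2
  have key : etv i j hij ((((θ⁻¹ : Fˣ) : F) - 1) * φ j)
      = dg d * rtv i φ h * (dg d)⁻¹ * (rtv i φ h)⁻¹ := by
    rw [dg_conj_rtv, rtv_inv, rtv_mul]
    unfold etv
    apply Units.ext
    rw [rtv_val, rtv_val]
    congr 2
    ext x
    have hdi : d i = 1 := by simp [d, hij]
    rw [Pi.add_apply, Pi.neg_apply, hdi, Units.val_one, one_mul]
    by_cases hx : x = j
    · subst hx
      have : d x = θ := by simp [d]
      rw [this, Pi.single_eq_same]
      ring
    · have : d x = 1 := by simp [d, hx]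
      rw [this, Pi.single_eq_of_ne hx]
      simp
  rw [← key] at h1
  exact SL_le_of_etv_GL X hN i j hij _ hc₀ h1

/-- the diagonal element with two prescribed entries -/
def d2 (r s : ι) (ε ε' : Fˣ) : ι → Fˣ := fun k => if k = r then ε else if k = s then ε' else 1

theorem d2_r (r s : ι) (ε ε' : Fˣ) : d2 r s ε ε' r = ε := by simp [d2]

theorem d2_s (r s : ι) (hrs : r ≠ s) (ε ε' : Fˣ) : d2 r s ε ε' s = ε' := by
  simp [d2, Ne.symm hrs]

theorem d2_other (r s : ι) (ε ε' : Fˣ) (k : ι) (hr : k ≠ r) (hs : k ≠ s) : d2 r s ε ε' k = 1 := by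
  simp [d2, hr, hs]

/-- entries of the conjugate of `d2` -/
theorem conj_d2_apply (h : GL ι F) (r s : ι) (hrs : r ≠ s) (ε ε' : Fˣ) (m l : ι) :
    ((h * dg (d2 r s ε ε') * h⁻¹ : GL ι F) : Matrix ι ι F) m l
      = (if m = l then 1 else 0) + ((ε : F) - 1) * ((h : Matrix ι ι F) m r * iv h r l)
        + ((ε' : F) - 1) * ((h : Matrix ι ι F) m s * iv h s l) := by
  rw [conj_dg_apply, ← mul_iv_apply h m l]
  have key : ∀ k, (h : Matrix ι ι F) m k * (d2 r s ε ε' k : F) * iv h k l
      = (h : Matrix ι ι F) m k * iv h k l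
        + (if k = r then ((ε : F) - 1) * ((h : Matrix ι ι F) m r * iv h r l) else 0)
        + (if k = s then ((ε' : F) - 1) * ((h : Matrix ι ι F) m s * iv h s l) else 0) := by
    intro k
    by_cases hkr : k = r
    · subst hkr
      rw [d2_r, if_pos rfl, if_neg hrs]
      ring
    · by_cases hks : k = s
      · subst hks
        rw [d2_s r k hrs, if_neg hkr, if_pos rfl]
        ring
      · rw [d2_other r s ε ε' k hkr hks, if_neg hkr, if_neg hks, Units.val_one]
        ring
  rw [Finset.sum_congr rfl (fun k _ => key k), Finset.sum_add_distrib, Finset.sum_add_distrib,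
    Finset.sum_ite_eq', Finset.sum_ite_eq', if_pos (Finset.mem_univ _), if_pos (Finset.mem_univ _)]

/-- the diagonal element with one prescribed entry -/
def d1 (r : ι) (ε : Fˣ) : ι → Fˣ := fun k => if k = r then ε else 1

theorem d1_r (r : ι) (ε : Fˣ) : d1 r ε r = ε := by simp [d1]

theorem d1_other (r : ι) (ε : Fˣ) (k : ι) (hr : k ≠ r) : d1 r ε k = 1 := by simp [d1, hr]

/-- entries of the conjugate of `d1` -/
theorem conj_d1_apply (h : GL ι F) (r : ι) (ε : Fˣ) (m l : ι) :
    ((h * dg (d1 r ε) * h⁻¹ : GL ι F) : Matrix ι ι F) m l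
      = (if m = l then 1 else 0) + ((ε : F) - 1) * ((h : Matrix ι ι F) m r * iv h r l) := by
  rw [conj_dg_apply, ← mul_iv_apply h m l]
  have key : ∀ k, (h : Matrix ι ι F) m k * (d1 r ε k : F) * iv h k l
      = (h : Matrix ι ι F) m k * iv h k l
        + (if k = r then ((ε : F) - 1) * ((h : Matrix ι ι F) m r * iv h r l) else 0) := by
    intro k
    by_cases hkr : k = r
    · subst hkr
      rw [d1_r, if_pos rfl]
      ring
    · rw [d1_other r ε k hkr, if_neg hkr, Units.val_one]
      ring
  rw [Finset.sum_congr rfl (fun k _ => key k), Finset.sum_add_distrib,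
    Finset.sum_ite_eq', if_pos (Finset.mem_univ _)]

theorem exists_avoid [Fintype F] [DecidableEq F] (S : Finset F) (hS : S.card < Fintype.card F) :
    ∃ x, x ∉ S := by
  have : S.card < (Finset.univ : Finset F).card := by rwa [Finset.card_univ]
  obtain ⟨x, -, hx⟩ := Finset.exists_mem_notMem_of_card_lt_card this
  exact ⟨x, hx⟩

/-- Step 1 of the crux for the full monomial group: no entry of the inverse of a non-monomial
element vanishes. -/
theorem cruxGL_step1 [Fintype F] (hq : 4 ≤ Fintype.card F)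
    (X : Subgroup (GL ι F)) (hN : monoSub ι F ≤ X) (hCN : CN X) (h : GL ι F) (hX : h ∈ X)
    (hh : ¬ IsMono (h : Matrix ι ι F)) (a l : ι) : iv h a l ≠ 0 := by
  classical
  intro ha
  obtain ⟨e, he⟩ := exists_avoid ({0, 1, -1} : Finset F) (by
    have : ({0, 1, -1} : Finset F).card ≤ 3 := Finset.card_le_three
    omega)
  simp only [Finset.mem_insert, Finset.mem_singleton, not_or] at he
  obtain ⟨he0, he1, hem1⟩ := he
  set η : Fˣ := Units.mk0 e he0 with hη
  have hηv : (η : F) = e := rfl
  set t := d1 a η with ht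
  have hy : h * dg t * h⁻¹ ∈ X := X.mul_mem (X.mul_mem hX (hN (dg_mem_monoSub _))) (X.inv_mem hX)
  have hcol : ∀ m, ((h * dg t * h⁻¹ : GL ι F) : Matrix ι ι F) m l = if m = l then 1 else 0 := by
    apply conj_dg_col_fixed
    intro k hk
    apply d1_other
    intro e'
    exact hk (e' ▸ ha)
  have hmono := hCN _ hy l (monoCol_of_col_eq _ l hcol)
  obtain ⟨σ, d, hed⟩ := eq_gpm_of_isMono _ hmono
  have hrel := conj_rel2 h t (1 + e) e (by
    intro k
    by_cases hka : k = a
    · subst hka
      rw [ht, d1_r, hηv]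
      ring
    · rw [ht, d1_other a η k hka, Units.val_one]
      ring) σ d hed
  have hσ : σ = 1 := poly2 σ _ (fun b => (d b).ne_zero) (1 + e) e
    (fun e' => hem1 (by linear_combination e')) he0 hrel
  subst hσ
  have hcolm : MonoCol (h : Matrix ι ι F) a := by
    apply monoCol_of_conj_diag h t d hed a
    intro k hk
    rw [ht, d1_r, d1_other a η k hk]
    intro e'
    apply he1
    have := congrArg Units.val e'
    rw [Units.val_one, hηv] at this
    exact this.symm
  exact hh (hCN h hX a hcolm)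

/-- **Crux (general linear case)**: a subgroup containing all monomial matrices in which every
element with a monomial column is monomial consists of monomial matrices. -/
theorem cruxGL [Fintype F] (hq : 5 ≤ Fintype.card F) (hcard : 3 ≤ Fintype.card ι)
    (X : Subgroup (GL ι F)) (hN : monoSub ι F ≤ X) (hCN : CN X) (g : GL ι F) (hg : g ∈ X)
    (hgm : ¬ IsMono (g : Matrix ι ι F)) : False := by
  classical
  have hS1 : ∀ h ∈ X, ¬ IsMono (h : Matrix ι ι F) → ∀ a l, iv h a l ≠ 0 :=
    fun h hX hh a l => cruxGL_step1 (by omega) X hN hCN h hX hh a l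
  have hS1' : ∀ h ∈ X, ¬ IsMono (h : Matrix ι ι F) → ∀ a l, (h : Matrix ι ι F) a l ≠ 0 := by
    intro h hX hh a l
    have := hS1 h⁻¹ (X.inv_mem hX) (not_isMono_inv h hh) a l
    rwa [iv_inv] at this
  have hg' := hS1' g hg hgm
  have hiv := hS1 g hg hgm
  -- three distinct indices
  have third : ∀ a b : ι, ∃ k, k ≠ a ∧ k ≠ b := by
    intro a b
    by_contra hcon
    push Not at hcon
    have : (Finset.univ : Finset ι) ⊆ {a, b} := by
      intro x _
      simp only [Finset.mem_insert, Finset.mem_singleton]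
      by_cases h1 : x = a
      · exact Or.inl h1
      · exact Or.inr (hcon x h1)
    have := Finset.card_le_card this
    rw [Finset.card_univ] at this
    have h3 : ({a, b} : Finset ι).card ≤ 2 := Finset.card_le_two
    omega
  -- (2a) all the products are one
  have hpi : ∀ m r, (g : Matrix ι ι F) m r * iv g r m = 1 := by
    intro m r
    by_contra hne
    set π := (g : Matrix ι ι F) m r * iv g r m with hπ
    have hπ0 : π ≠ 0 := mul_ne_zero (hg' m r) (hiv r m)
    have hε0 : (π - 1) / π ≠ 0 := div_ne_zero (fun e => hne (by linear_combination e)) hπ0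
    set ε : Fˣ := Units.mk0 ((π - 1) / π) hε0 with hε
    have hεv : (ε : F) = (π - 1) / π := rfl
    have hε1 : (ε : F) - 1 ≠ 0 := by
      rw [hεv]
      intro e
      field_simp at e
      have : (1 : F) = 0 := by linear_combination -e
      exact one_ne_zero this
    set x := g * dg (d1 r ε) * g⁻¹ with hx
    have hxX : x ∈ X := X.mul_mem (X.mul_mem hg (hN (dg_mem_monoSub _))) (X.inv_mem hg)
    have hxmm : (x : Matrix ι ι F) m m = 0 := by
      rw [hx, conj_d1_apply, if_pos rfl, ← hπ, hεv]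
      field_simp
      ring
    have hxm : IsMono (x : Matrix ι ι F) := by
      by_contra hxm
      exact hS1' x hxX hxm m m hxmm
    obtain ⟨k₁, hk₁m, -⟩ := third m m
    obtain ⟨k₂, hk₂m, hk₂k₁⟩ := third m k₁
    -- column `m` of `x` has two non-zero entries
    obtain ⟨p, hp⟩ := hxm m
    have hne1 : (x : Matrix ι ι F) k₁ m ≠ 0 := by
      rw [hx, conj_d1_apply, if_neg hk₁m, zero_add]
      exact mul_ne_zero hε1 (mul_ne_zero (hg' k₁ r) (hiv r m))
    have hne2 : (x : Matrix ι ι F) k₂ m ≠ 0 := by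
      rw [hx, conj_d1_apply, if_neg hk₂m, zero_add]
      exact mul_ne_zero hε1 (mul_ne_zero (hg' k₂ r) (hiv r m))
    have e1 : k₁ = p := by
      by_contra hcon
      exact hne1 (hp k₁ hcon)
    have e2 : k₂ = p := by
      by_contra hcon
      exact hne2 (hp k₂ hcon)
    exact hk₂k₁ (e2.trans e1.symm)
  -- (2b)
  have hne : Nonempty ι := Fintype.card_pos_iff.mp (by omega)
  obtain ⟨m⟩ := hne
  obtain ⟨l, hlm, -⟩ := third m m
  obtain ⟨s, hsl, -⟩ := third l l
  obtain ⟨r, hrs, -⟩ := third s s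
  set A := (g : Matrix ι ι F) m r * iv g r l with hA
  set B := (g : Matrix ι ι F) m s * iv g s l with hB
  have hA0 : A ≠ 0 := mul_ne_zero (hg' m r) (hiv r l)
  have hB0 : B ≠ 0 := mul_ne_zero (hg' m s) (hiv s l)
  set ρ := -B / A with hρ
  have hρ0 : ρ ≠ 0 := div_ne_zero (neg_ne_zero.mpr hB0) hA0
  obtain ⟨u, hu⟩ := exists_avoid ({0, -1, -1 / ρ, -1 / (1 + ρ)} : Finset F) (by
    have : ({0, -1, -1 / ρ, -1 / (1 + ρ)} : Finset F).card ≤ 4 := Finset.card_le_four
    omega)
  simp only [Finset.mem_insert, Finset.mem_singleton, not_or] at hu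
  obtain ⟨hu0, hu1, hu2, hu3⟩ := hu
  have hε'0 : 1 + u ≠ 0 := fun e => hu1 (by linear_combination e)
  have hε0 : 1 + ρ * u ≠ 0 := by
    intro e
    apply hu2
    rw [eq_div_iff hρ0]
    linear_combination e
  have hdiag : 1 + (1 + ρ) * u ≠ 0 := by
    intro e
    by_cases h1ρ : 1 + ρ = 0
    · rw [h1ρ, zero_mul, add_zero] at e
      exact one_ne_zero e
    · apply hu3
      rw [eq_div_iff h1ρ]
      linear_combination e
  set ε : Fˣ := Units.mk0 (1 + ρ * u) hε0 with hε
  set ε' : Fˣ := Units.mk0 (1 + u) hε'0 with hε'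
  have hεv : (ε : F) = 1 + ρ * u := rfl
  have hε'v : (ε' : F) = 1 + u := rfl
  set x := g * dg (d2 r s ε ε') * g⁻¹ with hx
  have hxX : x ∈ X := X.mul_mem (X.mul_mem hg (hN (dg_mem_monoSub _))) (X.inv_mem hg)
  have hxml : (x : Matrix ι ι F) m l = 0 := by
    rw [hx, conj_d2_apply g r s hrs, if_neg (Ne.symm hlm), ← hA, ← hB, hεv, hε'v, hρ]
    field_simp
    ring
  have hxm : IsMono (x : Matrix ι ι F) := by
    by_contra hxm
    exact hS1' x hxX hxm m l hxml
  obtain ⟨σ, D, hxg⟩ := eq_gpm_of_isMono x hxm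
  have hxjj : ∀ j, (x : Matrix ι ι F) j j ≠ 0 := by
    intro j
    rw [hx, conj_d2_apply g r s hrs, if_pos rfl, hpi j r, hpi j s, hεv, hε'v]
    intro e
    apply hdiag
    linear_combination e
  have hσ : σ = 1 := by
    ext j
    have := hxjj j
    rw [hxg, gpm_apply] at this
    by_contra hcon
    apply this
    rw [if_neg]
    intro e
    exact hcon e.symm
  subst hσ
  obtain ⟨k₃, hk₃r, hk₃s⟩ := third r s
  have e1 := entry_of_conj_eq_dg g _ D hxg m r (hg' m r)
  have e2 := entry_of_conj_eq_dg g _ D hxg m k₃ (hg' m k₃)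
  rw [d2_r] at e1
  rw [d2_other r s ε ε' k₃ hk₃r hk₃s] at e2
  have : ε = 1 := by rw [← e1, e2]
  have := congrArg Units.val this
  rw [hεv, Units.val_one] at this
  have : ρ * u = 0 := by linear_combination this
  rcases mul_eq_zero.mp this with e | e
  · exact hρ0 e
  · exact hu0 e

end Cfsg.Agent.Lib.Helper8.Mono
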