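import Mathlib
import Cfsg.Agent.Lib.Helper8.Mono3

set_option autoImplicit false
set_option linter.unusedVariables false
set_option linter.unusedSectionVars false
set_option linter.style.longLine false

/-! Block monomial matrices (part 1): general transvections as elements of `GL`. -/

namespace Cfsg.Agent.Lib.Helper8.Bmo

open Matrix Cfsg.Agent.Lib.Helper8.Mono

variable {ι : Type} [Fintype ι] [DecidableEq ι] {F : Type*} [Field F]

theorem vv_mul_vv (b β a α : ι → F) :
    vecMulVec b β * vecMulVec a α = vecMulVec ((β ⬝ᵥ a) • b) α := by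
  rw [vecMulVec_mul_vecMulVec]
  ext i j
  simp only [vecMulVec_apply, Pi.smul_apply, smul_eq_mul]
  ring

theorem vv_mul_vv_zero (b β a α : ι → F) (h : β ⬝ᵥ a = 0) :
    vecMulVec b β * vecMulVec a α = 0 := by
  rw [vv_mul_vv, h, zero_smul]
  ext i j
  simp [vecMulVec_apply]

/-- the transvection `1 + b βᵀ` (for `β b = 0`) -/
def tv (b β : ι → F) (h : β ⬝ᵥ b = 0) : GL ι F where
  val := 1 + vecMulVec b β
  inv := 1 - vecMulVec b β
  val_inv := by
    have := vv_mul_vv_zero b β b β h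
    rw [add_mul, mul_sub, mul_sub, this]
    simp
  inv_val := by
    have := vv_mul_vv_zero b β b β h
    rw [sub_mul, mul_add, mul_add, this]
    simp

@[simp] theorem tv_val (b β : ι → F) (h : β ⬝ᵥ b = 0) :
    ((tv b β h : GL ι F) : Matrix ι ι F) = 1 + vecMulVec b β := rfl

theorem tv_apply (b β : ι → F) (h : β ⬝ᵥ b = 0) (x y : ι) :
    ((tv b β h : GL ι F) : Matrix ι ι F) x y = (if x = y then 1 else 0) + b x * β y := by
  rw [tv_val, Matrix.add_apply, Matrix.one_apply, vecMulVec_apply]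

theorem det_tv (b β : ι → F) (h : β ⬝ᵥ b = 0) :
    ((tv b β h : GL ι F) : Matrix ι ι F).det = 1 := by
  rw [tv_val, vecMulVec_eq Unit, det_one_add_replicateCol_mul_replicateRow, h, add_zero]

theorem tv_congr {b b' β β' : ι → F} (h : β ⬝ᵥ b = 0) (hb : b = b') (hβ : β = β') :
    tv b β h = tv b' β' (by rw [← hb, ← hβ]; exact h) := by
  subst hb hβ
  rfl

theorem tv_mul_same (b b' β : ι → F) (h : β ⬝ᵥ b = 0) (h' : β ⬝ᵥ b' = 0) :
    tv b β h * tv b' β h' = tv (b + b') β (by rw [dotProduct_add, h, h', add_zero]) := by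
  apply Units.ext
  rw [Units.val_mul, tv_val, tv_val, tv_val, add_mul, mul_add, mul_add,
    vv_mul_vv_zero b β b' β h']
  simp only [mul_one, one_mul, add_zero]
  rw [Matrix.add_vecMulVec]
  abel

theorem tv_inv (b β : ι → F) (h : β ⬝ᵥ b = 0) :
    (tv b β h)⁻¹ = tv (-b) β (by rw [dotProduct_neg, h, neg_zero]) := by
  rw [inv_eq_iff_mul_eq_one, tv_mul_same]
  apply Units.ext
  rw [tv_val, Units.val_one, add_neg_cancel]
  ext i j
  simp [vecMulVec_apply]

theorem conj_tv (g : GL ι F) (b β : ι → F) (h : β ⬝ᵥ b = 0) :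
    g * tv b β h * g⁻¹ = tv ((g : Matrix ι ι F) *ᵥ b) (β ᵥ* ((g⁻¹ : GL ι F) : Matrix ι ι F)) (by
      rw [← Matrix.dotProduct_mulVec, Matrix.mulVec_mulVec, ← Units.val_mul, inv_mul_cancel,
        Units.val_one, Matrix.one_mulVec]
      exact h) := by
  apply Units.ext
  rw [Units.val_mul, Units.val_mul, tv_val, tv_val, mul_add, add_mul, mul_one, ← Units.val_mul,
    mul_inv_cancel, Units.val_one, Matrix.mul_vecMulVec, Matrix.vecMulVec_mul]

/-- commutator formula, first kind -/
theorem commA (b β a α : ι → F) (hb : β ⬝ᵥ b = 0) (ha : α ⬝ᵥ a = 0) (hab : α ⬝ᵥ b = 0) :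
    tv b β hb * tv a α ha * (tv b β hb)⁻¹ * (tv a α ha)⁻¹
      = tv ((β ⬝ᵥ a) • b) α (by rw [dotProduct_smul, hab, smul_zero]) := by
  have key : tv b β hb * tv a α ha
      = tv ((β ⬝ᵥ a) • b) α (by rw [dotProduct_smul, hab, smul_zero]) * (tv a α ha * tv b β hb) := by
    apply Units.ext
    simp only [Units.val_mul, tv_val]
    have hPQ := vv_mul_vv b β a α
    have hQP := vv_mul_vv_zero a α b β hab
    have hRQ := vv_mul_vv_zero ((β ⬝ᵥ a) • b) α a α ha
    have hRP := vv_mul_vv_zero ((β ⬝ᵥ a) • b) α b β hab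
    set P := vecMulVec b β
    set Q := vecMulVec a α
    set R := vecMulVec ((β ⬝ᵥ a) • b) α
    calc (1 + P) * (1 + Q) = 1 + P + Q + P * Q := by noncomm_ring
      _ = 1 + Q + P + R + R * Q + R * P + (Q * P + R * (Q * P)) := by
        rw [hPQ, hQP, hRQ, hRP]
        simp only [mul_zero, add_zero]
        abel
      _ = (1 + R) * ((1 + Q) * (1 + P)) := by noncomm_ring
  rw [key]
  group

/-- commutator formula, second kind -/
theorem commB (b β a α : ι → F) (hb : β ⬝ᵥ b = 0) (ha : α ⬝ᵥ a = 0) (hba : β ⬝ᵥ a = 0) :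
    tv b β hb * tv a α ha * (tv b β hb)⁻¹ * (tv a α ha)⁻¹
      = tv a (-(α ⬝ᵥ b) • β) (by rw [smul_dotProduct, hba, smul_zero]) := by
  have key : tv b β hb * tv a α ha
      = tv a (-(α ⬝ᵥ b) • β) (by rw [smul_dotProduct, hba, smul_zero]) * (tv a α ha * tv b β hb) := by
    apply Units.ext
    simp only [Units.val_mul, tv_val]
    have hPQ := vv_mul_vv_zero b β a α hba
    have hQP := vv_mul_vv a α b β
    have hRQ := vv_mul_vv_zero a (-(α ⬝ᵥ b) • β) a α (by rw [smul_dotProduct, hba, smul_zero])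
    have hRP := vv_mul_vv_zero a (-(α ⬝ᵥ b) • β) b β (by rw [smul_dotProduct, hb, smul_zero])
    have hR : vecMulVec a (-(α ⬝ᵥ b) • β) = -vecMulVec ((α ⬝ᵥ b) • a) β := by
      ext i j
      simp only [vecMulVec_apply, Pi.smul_apply, smul_eq_mul, Matrix.neg_apply]
      ring
    set P := vecMulVec b β
    set Q := vecMulVec a α
    set R := vecMulVec a (-(α ⬝ᵥ b) • β)
    calc (1 + P) * (1 + Q) = 1 + P + Q + P * Q := by noncomm_ring
      _ = 1 + Q + P + (Q * P + R) + R * Q + R * P + R * (Q * P) := by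
        rw [hPQ, hRQ, hRP, hQP, hR]
        have : -vecMulVec ((α ⬝ᵥ b) • a) β * vecMulVec ((α ⬝ᵥ b) • a) β = 0 := by
          rw [neg_mul, vv_mul_vv_zero _ _ _ _ (by rw [dotProduct_smul, hba, smul_zero]), neg_zero]
        rw [this]
        simp only [add_zero]
        abel
      _ = (1 + R) * ((1 + Q) * (1 + P)) := by noncomm_ring
  rw [key]
  group

theorem etv_eq_tv (i j : ι) (hij : i ≠ j) (c : F) :
    etv i j hij c = tv (Pi.single i c) (Pi.single j 1) (by
      rw [single_dotProduct, Pi.single_eq_of_ne (Ne.symm hij), mul_zero]) := by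
  apply Units.ext
  unfold etv
  rw [rtv_val, tv_val]
  congr 1
  ext a b
  rw [rowMat_apply, vecMulVec_apply]
  by_cases ha : a = i
  · subst ha
    rw [if_pos rfl, Pi.single_eq_same]
    by_cases hb : b = j
    · subst hb
      rw [Pi.single_eq_same, Pi.single_eq_same, mul_one]
    · rw [Pi.single_eq_of_ne hb, Pi.single_eq_of_ne hb, mul_zero]
  · rw [if_neg ha, Pi.single_eq_of_ne ha, zero_mul]

end Cfsg.Agent.Lib.Helper8.Bmo
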