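import Mathlib
import Cfsg.Prelude
import Cfsg.Agent.Lib.Helper8.Bmo1

set_option autoImplicit false
set_option linter.unusedVariables false
set_option linter.unusedSectionVars false
set_option linter.style.longLine false

/-! Tensor product subgroups (part 1): pure tensors, Kronecker products in `GL`, root elements. -/

namespace Cfsg.Agent.Lib.Helper8.Tns

open Matrix Cfsg.Agent.Lib.Helper8.Mono Cfsg.Agent.Lib.Helper8.Bmo
open scoped Kronecker

variable {I J : Type} [Fintype I] [DecidableEq I] [Fintype J] [DecidableEq J]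
  {F : Type*} [Field F]

/-- pure tensor `u ⊗ w` -/
def pt (u : I → F) (w : J → F) : I × J → F := fun p => u p.1 * w p.2

theorem pt_apply (u : I → F) (w : J → F) (i : I) (j : J) : pt u w (i, j) = u i * w j := rfl

theorem pt_add_left (u u' : I → F) (w : J → F) : pt (u + u') w = pt u w + pt u' w := by
  ext p
  simp only [pt, Pi.add_apply]
  ring

theorem pt_add_right (u : I → F) (w w' : J → F) : pt u (w + w') = pt u w + pt u w' := by
  ext p
  simp only [pt, Pi.add_apply]
  ring

theorem pt_smul_left (c : F) (u : I → F) (w : J → F) : pt (c • u) w = c • pt u w := by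
  ext p
  simp only [pt, Pi.smul_apply, smul_eq_mul]
  ring

theorem pt_smul_right (c : F) (u : I → F) (w : J → F) : pt u (c • w) = c • pt u w := by
  ext p
  simp only [pt, Pi.smul_apply, smul_eq_mul]
  ring

theorem pt_zero_left (w : J → F) : pt (0 : I → F) w = 0 := by
  ext p
  simp [pt]

theorem pt_zero_right (u : I → F) : pt u (0 : J → F) = 0 := by
  ext p
  simp [pt]

theorem pt_sub_right (u : I → F) (w w' : J → F) : pt u (w - w') = pt u w - pt u w' := by
  ext p
  simp only [pt, Pi.sub_apply]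
  ring

theorem pt_single_single (i : I) (j : J) (c d : F) :
    pt (Pi.single i c) (Pi.single j d) = Pi.single (i, j) (c * d) := by
  ext ⟨i', j'⟩
  rw [pt_apply]
  by_cases hi : i' = i
  · subst hi
    by_cases hj : j' = j
    · subst hj
      simp
    · have : ((i', j') : I × J) ≠ (i', j) := fun e => hj (congrArg Prod.snd e)
      rw [Pi.single_eq_of_ne hj, Pi.single_eq_of_ne this, mul_zero]
  · have : ((i', j') : I × J) ≠ (i, j) := fun e => hi (congrArg Prod.fst e)
    rw [Pi.single_eq_of_ne hi, Pi.single_eq_of_ne this, zero_mul]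

/-- a non-zero pure tensor has non-zero factors -/
theorem pt_ne_zero {u : I → F} {w : J → F} (hu : u ≠ 0) (hw : w ≠ 0) : pt u w ≠ 0 := by
  intro h
  obtain ⟨i, hi⟩ := Function.ne_iff.mp hu
  obtain ⟨j, hj⟩ := Function.ne_iff.mp hw
  have := congrFun h (i, j)
  rw [pt_apply] at this
  exact mul_ne_zero hi hj this

/-- cancelling the second factor -/
theorem pt_left_injective {w : J → F} (hw : w ≠ 0) {u u' : I → F} (h : pt u w = pt u' w) :
    u = u' := by
  obtain ⟨j, hj⟩ := Function.ne_iff.mp hw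
  ext i
  have := congrFun h (i, j)
  rw [pt_apply, pt_apply] at this
  exact mul_right_cancel₀ hj this

theorem kron_mulVec_pt (A : Matrix I I F) (B : Matrix J J F) (u : I → F) (w : J → F) :
    (A ⊗ₖ B) *ᵥ pt u w = pt (A *ᵥ u) (B *ᵥ w) := by
  ext ⟨i, j⟩
  rw [pt_apply, Matrix.mulVec, dotProduct, Fintype.sum_prod_type, Matrix.mulVec, Matrix.mulVec,
    dotProduct, dotProduct, Finset.sum_mul_sum]
  apply Finset.sum_congr rfl
  intro i' _
  apply Finset.sum_congr rfl
  intro j' _
  rw [kronecker_apply, pt_apply]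
  ring

/-- the Kronecker product of two invertible matrices -/
def kr (a : GL I F) (b : GL J F) : GL (I × J) F where
  val := (a : Matrix I I F) ⊗ₖ (b : Matrix J J F)
  inv := ((a⁻¹ : GL I F) : Matrix I I F) ⊗ₖ ((b⁻¹ : GL J F) : Matrix J J F)
  val_inv := by
    rw [← mul_kronecker_mul, ← Units.val_mul, ← Units.val_mul, mul_inv_cancel, mul_inv_cancel,
      Units.val_one, Units.val_one, one_kronecker_one]
  inv_val := by
    rw [← mul_kronecker_mul, ← Units.val_mul, ← Units.val_mul, inv_mul_cancel, inv_mul_cancel,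
      Units.val_one, Units.val_one, one_kronecker_one]

@[simp] theorem kr_val (a : GL I F) (b : GL J F) :
    ((kr a b : GL (I × J) F) : Matrix (I × J) (I × J) F) =
      (a : Matrix I I F) ⊗ₖ (b : Matrix J J F) := rfl

theorem kr_mul (a a' : GL I F) (b b' : GL J F) : kr a b * kr a' b' = kr (a * a') (b * b') := by
  apply Units.ext
  rw [Units.val_mul, kr_val, kr_val, kr_val, Units.val_mul, Units.val_mul, mul_kronecker_mul]

theorem kr_one : kr (1 : GL I F) (1 : GL J F) = 1 := by
  apply Units.ext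
  rw [kr_val, Units.val_one, Units.val_one, Units.val_one, one_kronecker_one]

theorem kr_inv (a : GL I F) (b : GL J F) : (kr a b)⁻¹ = kr a⁻¹ b⁻¹ := by
  rw [inv_eq_iff_mul_eq_one, kr_mul, mul_inv_cancel, mul_inv_cancel, kr_one]

theorem det_kr (a : GL I F) (b : GL J F) :
    ((kr a b : GL (I × J) F) : Matrix (I × J) (I × J) F).det =
      (a : Matrix I I F).det ^ Fintype.card J * (b : Matrix J J F).det ^ Fintype.card I := by
  rw [kr_val, det_kronecker]

theorem kr_mulVec_pt (a : GL I F) (b : GL J F) (u : I → F) (w : J → F) :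
    ((kr a b : GL (I × J) F) : Matrix (I × J) (I × J) F) *ᵥ pt u w =
      pt ((a : Matrix I I F) *ᵥ u) ((b : Matrix J J F) *ᵥ w) := by
  rw [kr_val, kron_mulVec_pt]

variable (I J F) in
/-- the subgroup of Kronecker products -/
def krSub : Subgroup (GL (I × J) F) where
  carrier := {g | ∃ (a : GL I F) (b : GL J F), g = kr a b}
  mul_mem' := by
    rintro _ _ ⟨a, b, rfl⟩ ⟨a', b', rfl⟩
    exact ⟨a * a', b * b', kr_mul a a' b b'⟩
  one_mem' := ⟨1, 1, kr_one.symm⟩
  inv_mem' := by
    rintro _ ⟨a, b, rfl⟩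
    exact ⟨a⁻¹, b⁻¹, kr_inv a b⟩

theorem mem_krSub {g : GL (I × J) F} : g ∈ krSub I J F ↔ ∃ (a : GL I F) (b : GL J F), g = kr a b :=
  Iff.rfl

theorem kr_mem (a : GL I F) (b : GL J F) : kr a b ∈ krSub I J F := ⟨a, b, rfl⟩

variable (I J F) in
/-- Kronecker products of determinant one -/
def krSL : Subgroup (GL (I × J) F) := krSub I J F ⊓ Cfsg.Geo.specialLinear (I × J) F

theorem kr_mem_krSL (a : GL I F) (b : GL J F)
    (h : (a : Matrix I I F).det ^ Fintype.card J * (b : Matrix J J F).det ^ Fintype.card I = 1) :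
    kr a b ∈ krSL I J F := by
  refine ⟨kr_mem a b, ?_⟩
  show kr a b ∈ Cfsg.Geo.specialLinear (I × J) F
  rw [mem_SL, det_kr]
  exact h

theorem kr_one_mem_krSL (b : GL J F) (h : (b : Matrix J J F).det = 1) :
    kr (1 : GL I F) b ∈ krSL I J F := by
  apply kr_mem_krSL
  rw [h, Units.val_one, det_one, one_pow, one_pow, one_mul]

theorem kr_mem_krSL_one (a : GL I F) (h : (a : Matrix I I F).det = 1) :
    kr a (1 : GL J F) ∈ krSL I J F := by
  apply kr_mem_krSL
  rw [h, Units.val_one, det_one, one_pow, one_pow, one_mul]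

/-- contraction of a vector with a functional on the second factor -/
def ctr (φ : J → F) (v : I × J → F) : I → F := fun i => ∑ j, v (i, j) * φ j

theorem ctr_pt (φ : J → F) (u : I → F) (w : J → F) : ctr φ (pt u w) = (φ ⬝ᵥ w) • u := by
  ext i
  simp only [ctr, pt_apply, Pi.smul_apply, smul_eq_mul, dotProduct]
  rw [Finset.sum_mul]
  apply Finset.sum_congr rfl
  intro j _
  ring

theorem ctr_add (φ : J → F) (v v' : I × J → F) : ctr φ (v + v') = ctr φ v + ctr φ v' := by
  ext i
  simp only [ctr, Pi.add_apply, add_mul, Finset.sum_add_distrib]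

theorem ctr_smul (φ : J → F) (c : F) (v : I × J → F) : ctr φ (c • v) = c • ctr φ v := by
  ext i
  simp only [ctr, Pi.smul_apply, smul_eq_mul, Finset.mul_sum, mul_assoc]

theorem ctr_add_left (φ φ' : J → F) (v : I × J → F) : ctr (φ + φ') v = ctr φ v + ctr φ' v := by
  ext i
  simp only [ctr, Pi.add_apply, mul_add, Finset.sum_add_distrib]

theorem ctr_smul_left (c : F) (φ : J → F) (v : I × J → F) : ctr (c • φ) v = c • ctr φ v := by
  ext i
  simp only [ctr, Pi.smul_apply, smul_eq_mul, Finset.mul_sum]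
  apply Finset.sum_congr rfl
  intro j _
  ring

theorem ctr_zero_left (v : I × J → F) : ctr (0 : J → F) v = 0 := by
  ext i
  simp [ctr]

/-- the root element `1 ⊗ (1 + w φᵀ)` -/
def xw (w φ : J → F) (h : φ ⬝ᵥ w = 0) : GL (I × J) F := kr 1 (tv w φ h)

theorem xw_mem (w φ : J → F) (h : φ ⬝ᵥ w = 0) : (xw w φ h : GL (I × J) F) ∈ krSL I J F :=
  kr_one_mem_krSL _ (det_tv w φ h)

theorem xw_mulVec (w φ : J → F) (h : φ ⬝ᵥ w = 0) (v : I × J → F) :
    ((xw w φ h : GL (I × J) F) : Matrix (I × J) (I × J) F) *ᵥ v = v + pt (ctr φ v) w := by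
  ext ⟨i, j⟩
  unfold xw
  rw [kr_val, Units.val_one, tv_val, Matrix.mulVec, dotProduct, Fintype.sum_prod_type,
    Pi.add_apply, pt_apply]
  simp only [kronecker_apply, Matrix.add_apply, vecMulVec_apply, ctr]
  rw [Finset.sum_eq_single i]
  · rw [Matrix.one_apply_eq]
    simp only [one_mul, add_mul, Finset.sum_add_distrib]
    congr 1
    · rw [Finset.sum_eq_single j]
      · rw [Matrix.one_apply_eq, one_mul]
      · intro j' _ hj'
        rw [Matrix.one_apply_ne (Ne.symm hj'), zero_mul]
      · intro hj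
        exact absurd (Finset.mem_univ _) hj
    · rw [Finset.sum_mul]
      apply Finset.sum_congr rfl
      intro j' _
      ring
  · intro i' _ hi'
    apply Finset.sum_eq_zero
    intro j' _
    rw [Matrix.one_apply_ne (Ne.symm hi'), zero_mul, zero_mul]
  · intro hi
    exact absurd (Finset.mem_univ _) hi

theorem xw_inv (w φ : J → F) (h : φ ⬝ᵥ w = 0) :
    (xw w φ h : GL (I × J) F)⁻¹ = xw (-w) φ (by rw [dotProduct_neg, h, neg_zero]) := by
  unfold xw
  rw [kr_inv, inv_one, tv_inv]

theorem xw_mulVec_pt (w φ : J → F) (h : φ ⬝ᵥ w = 0) (u : I → F) :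
    ((xw w φ h : GL (I × J) F) : Matrix (I × J) (I × J) F) *ᵥ pt u w = pt u w := by
  rw [xw_mulVec, ctr_pt, h, zero_smul, pt_zero_left, add_zero]

end Cfsg.Agent.Lib.Helper8.Tns
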