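import Mathlib
import Cfsg.Prelude
import Cfsg.Agent.Lib.Helper8.Tns1
import Cfsg.Agent.Lib.Helper8.Mono9

set_option autoImplicit false
set_option linter.unusedVariables false
set_option linter.unusedSectionVars false
set_option linter.style.longLine false

/-! Tensor product subgroups (part 2): one elementary transvection of mixed type together with the
Kronecker products of determinant one generates the special linear group. -/

namespace Cfsg.Agent.Lib.Helper8.Tns

open Matrix Cfsg.Agent.Lib.Helper8.Mono Cfsg.Agent.Lib.Helper8.Bmo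
open scoped Kronecker

variable {I J : Type} [Fintype I] [DecidableEq I] [Fintype J] [DecidableEq J]
  {F : Type*} [Field F]

/-- commutator of two elementary transvections -/
theorem etv_comm {ι : Type} [Fintype ι] [DecidableEq ι] (p q r : ι) (hpq : p ≠ q) (hqr : q ≠ r)
    (hpr : p ≠ r) (s t : F) :
    etv p q hpq s * etv q r hqr t * (etv p q hpq s)⁻¹ * (etv q r hqr t)⁻¹ = etv p r hpr (s * t) := by
  rw [etv_eq_tv p q hpq s, etv_eq_tv q r hqr t, etv_eq_tv p r hpr (s * t)]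
  rw [commA _ _ _ _ _ _ (by
    rw [single_dotProduct, Pi.single_eq_of_ne (Ne.symm hpr), mul_zero])]
  apply tv_congr
  · ext x
    rw [single_dotProduct, Pi.single_eq_same, one_mul, Pi.smul_apply, smul_eq_mul]
    by_cases hx : x = p
    · subst hx
      rw [Pi.single_eq_same, Pi.single_eq_same, mul_comm]
    · rw [Pi.single_eq_of_ne hx, Pi.single_eq_of_ne hx, mul_zero]
  · rfl

/-- the Kronecker product of two generalized permutation matrices -/
theorem kr_gpm_gpm (σ : Equiv.Perm I) (π : Equiv.Perm J) (d : I → Fˣ) (e : J → Fˣ) :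
    kr (gpm σ d) (gpm π e) =
      gpm (Equiv.prodCongr σ π) (fun p : I × J => d p.1 * e p.2) := by
  apply Units.ext
  ext ⟨i, j⟩ ⟨i', j'⟩
  rw [kr_val, kronecker_apply, gpm_apply, gpm_apply, gpm_apply, Equiv.prodCongr_apply,
    Prod.map_apply]
  by_cases hi : i = σ i'
  · by_cases hj : j = π j'
    · rw [if_pos hi, if_pos hj, if_pos (by rw [hi, hj]), Units.val_mul]
    · rw [if_neg hj, mul_zero, if_neg (fun h => hj (congrArg Prod.snd h))]
  · rw [if_neg hi, zero_mul, if_neg (fun h => hi (congrArg Prod.fst h))]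

theorem conj_kr_gpm_etv (σ : Equiv.Perm I) (π : Equiv.Perm J) (d : I → Fˣ) (e : J → Fˣ)
    (k l : I) (j j' : J) (h : ((k, j) : I × J) ≠ (l, j')) (c : F) :
    kr (gpm σ d) (gpm π e) * etv (k, j) (l, j') h c * (kr (gpm σ d) (gpm π e))⁻¹ =
      etv ((σ k, π j) : I × J) (σ l, π j')
        (fun e' => h (by
          have h1 := σ.injective (congrArg Prod.fst e')
          have h2 := π.injective (congrArg Prod.snd e')
          rw [h1, h2]))
        (((d k * e j : Fˣ) : F) * c * (((d l * e j')⁻¹ : Fˣ) : F)) := by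
  rw [kr_gpm_gpm, gpm_conj_etv]
  rfl

theorem det_of_mem_monoSL {ι : Type} [Fintype ι] [DecidableEq ι] {g : GL ι F}
    (h : g ∈ monoSL ι F) : (g : Matrix ι ι F).det = 1 := (mem_monoSL.mp h).2

theorem exists_ne_two {ι : Type} [Fintype ι] [DecidableEq ι] (h : 3 ≤ Fintype.card ι) (a b : ι) :
    ∃ c, c ≠ a ∧ c ≠ b := by
  by_contra hcon
  push Not at hcon
  have hsub : (Finset.univ : Finset ι) ⊆ {a, b} := by
    intro x _
    by_cases hx : x = a
    · rw [hx]; simp
    · rw [hcon x hx]; simp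
  have h1 := Finset.card_le_card hsub
  have h2 : ({a, b} : Finset ι).card ≤ 2 := Finset.card_le_two
  rw [Finset.card_univ] at h1
  omega

theorem exists_ne_one {ι : Type} [Fintype ι] [DecidableEq ι] (h : 2 ≤ Fintype.card ι) (a : ι) :
    ∃ c, c ≠ a := by
  by_contra hcon
  push Not at hcon
  have hsub : (Finset.univ : Finset ι) ⊆ {a} := by
    intro x _
    rw [hcon x]; simp
  have h1 := Finset.card_le_card hsub
  rw [Finset.card_univ, Finset.card_singleton] at h1
  omega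

section main

variable (H : Subgroup (GL (I × J) F)) (hM : krSL I J F ≤ H)

include hM in
/-- all parameters -/
theorem etv_all_param (hJ : 3 ≤ Fintype.card J) (k l : I) (j j' : J) (hjj : j ≠ j')
    (h : ((k, j) : I × J) ≠ (l, j')) (c : F) (hc : c ≠ 0) (hmem : etv (k, j) (l, j') h c ∈ H)
    (c' : F) : etv (k, j) (l, j') h c' ∈ H := by
  by_cases hc' : c' = 0
  · rw [hc', etv_zero]
    exact H.one_mem
  obtain ⟨j₃, hj₃, hj₃'⟩ := exists_ne_two hJ j j'
  set η : Fˣ := Units.mk0 (c' / c) (div_ne_zero hc' hc) with hη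
  have hm : kr (gpm 1 (fun _ : I => (1 : Fˣ))) (gpm 1 (t2 j j₃ η)) ∈ krSL I J F := by
    apply kr_mem_krSL
    have h1 : (gpm 1 (fun _ : I => (1 : Fˣ)) : GL I F) ∈ monoSL I F := by
      apply dg_mem_monoSL
      simp
    have h2 : (gpm 1 (t2 j j₃ η) : GL J F) ∈ monoSL J F := t2_mem j j₃ (Ne.symm hj₃) η
    rw [det_of_mem_monoSL h1, det_of_mem_monoSL h2, one_pow, one_pow, one_mul]
  have h1 := H.mul_mem (H.mul_mem (hM hm) hmem) (H.inv_mem (hM hm))
  rw [conj_kr_gpm_etv] at h1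
  have e1 : (((1 : Fˣ) * t2 j j₃ η j : Fˣ) : F) * c * ((((1 : Fˣ) * t2 j j₃ η j')⁻¹ : Fˣ) : F)
      = c' := by
    rw [t2_a, t2_other j j₃ η j' (Ne.symm hjj) (Ne.symm hj₃'), one_mul, one_mul, inv_one,
      Units.val_one, mul_one, hη, Units.val_mk0, div_mul_cancel₀ _ hc]
  have e2 : etv (((1 : Equiv.Perm I) k, (1 : Equiv.Perm J) j) : I × J)
      ((1 : Equiv.Perm I) l, (1 : Equiv.Perm J) j') (by simpa using h)
      ((((1 : Fˣ) * t2 j j₃ η j : Fˣ) : F) * c * ((((1 : Fˣ) * t2 j j₃ η j')⁻¹ : Fˣ) : F))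
      = etv (k, j) (l, j') h c' := by
    apply Units.ext
    rw [etv_val, etv_val, e1]
    rfl
  rw [← e2]
  exact h1

include hM in
/-- all elementary transvections of mixed type -/
theorem etv_all_mixed (hJ : 3 ≤ Fintype.card J) (k l : I) (hkl : k ≠ l) (j j' : J) (hjj : j ≠ j')
    (h : ((k, j) : I × J) ≠ (l, j')) (c : F) (hc : c ≠ 0) (hmem : etv (k, j) (l, j') h c ∈ H)
    (k' l' : I) (hkl' : k' ≠ l') (j₁ j₁' : J) (hjj₁ : j₁ ≠ j₁')
    (h' : ((k', j₁) : I × J) ≠ (l', j₁')) (c' : F) : etv (k', j₁) (l', j₁') h' c' ∈ H := by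
  obtain ⟨σ, hσk, hσl⟩ := exists_perm_two k l k' l' hkl hkl'
  obtain ⟨π, hπj, hπj'⟩ := exists_perm_two j j' j₁ j₁' hjj hjj₁
  have hm : kr (gpmS (F := F) σ k) (gpmS (F := F) π j) ∈ krSL I J F := by
    apply kr_mem_krSL
    rw [det_of_mem_monoSL (gpmS_mem σ k), det_of_mem_monoSL (gpmS_mem π j), one_pow, one_pow,
      one_mul]
  unfold gpmS at hm
  set d : I → Fˣ := fun x => if x = k then sgnU σ else 1 with hd
  set e : J → Fˣ := fun x => if x = j then sgnU π else 1 with he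
  set s : Fˣ := (d k * e j) * (d l * e j')⁻¹ with hs
  have hall := etv_all_param H hM hJ k l j j' hjj h c hc hmem (c' * ((s⁻¹ : Fˣ) : F))
  have h1 := H.mul_mem (H.mul_mem (hM hm) hall) (H.inv_mem (hM hm))
  rw [conj_kr_gpm_etv] at h1
  have e1 : ((d k * e j : Fˣ) : F) * (c' * ((s⁻¹ : Fˣ) : F)) * (((d l * e j')⁻¹ : Fˣ) : F) = c' := by
    have : ((d k * e j : Fˣ) : F) * (((d l * e j')⁻¹ : Fˣ) : F) = (s : F) := by
      rw [hs]
      simp only [Units.val_mul]
    calc ((d k * e j : Fˣ) : F) * (c' * ((s⁻¹ : Fˣ) : F)) * (((d l * e j')⁻¹ : Fˣ) : F)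
        = c' * ((((d k * e j : Fˣ) : F) * (((d l * e j')⁻¹ : Fˣ) : F)) * ((s⁻¹ : Fˣ) : F)) := by ring
      _ = c' := by rw [this, ← Units.val_mul, mul_inv_cancel, Units.val_one, mul_one]
  have e2 : etv ((σ k, π j) : I × J) (σ l, π j') (by
        rw [hσk, hσl, hπj, hπj']; exact h')
      (((d k * e j : Fˣ) : F) * (c' * ((s⁻¹ : Fˣ) : F)) * (((d l * e j')⁻¹ : Fˣ) : F))
      = etv (k', j₁) (l', j₁') h' c' := by
    apply Units.ext
    rw [etv_val, etv_val, e1]
    simp only [hσk, hσl, hπj, hπj']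
  rw [← e2]
  exact h1

include hM in
/-- **Generation**: an elementary transvection of mixed type and the Kronecker products of
determinant one generate the special linear group. -/
theorem SL_le_of_mixed_etv (hI : 2 ≤ Fintype.card I) (hJ : 3 ≤ Fintype.card J) (k l : I)
    (hkl : k ≠ l) (j j' : J) (hjj : j ≠ j') (h : ((k, j) : I × J) ≠ (l, j')) (c : F) (hc : c ≠ 0)
    (hmem : etv (k, j) (l, j') h c ∈ H) : Cfsg.Geo.specialLinear (I × J) F ≤ H := by
  have hmix : ∀ (k' l' : I) (hkl' : k' ≠ l') (j₁ j₁' : J) (hjj₁ : j₁ ≠ j₁')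
      (h' : ((k', j₁) : I × J) ≠ (l', j₁')) (c' : F), etv (k', j₁) (l', j₁') h' c' ∈ H :=
    etv_all_mixed H hM hJ k l hkl j j' hjj h c hc hmem
  -- same first index
  have hII : ∀ (i : I) (j₁ j₁' : J) (hjj₁ : j₁ ≠ j₁') (h' : ((i, j₁) : I × J) ≠ (i, j₁'))
      (c' : F), etv (i, j₁) (i, j₁') h' c' ∈ H := by
    intro i j₁ j₁' hjj₁ h' c'
    obtain ⟨i'', hi''⟩ := exists_ne_one hI i
    obtain ⟨j'', hj'', hj''2⟩ := exists_ne_two hJ j₁ j₁'
    have hpq : ((i, j₁) : I × J) ≠ (i'', j'') := fun e => hi'' (congrArg Prod.fst e).symm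
    have hqr : ((i'', j'') : I × J) ≠ (i, j₁') := fun e => hi'' (congrArg Prod.fst e)
    have h1 := hmix i i'' (Ne.symm hi'') j₁ j'' (Ne.symm hj'') hpq 1
    have h2 := hmix i'' i hi'' j'' j₁' hj''2 hqr c'
    have h3 := H.mul_mem (H.mul_mem (H.mul_mem h1 h2) (H.inv_mem h1)) (H.inv_mem h2)
    rw [etv_comm _ _ _ hpq hqr h', one_mul] at h3
    exact h3
  -- same second index
  have hIII : ∀ (i i' : I) (hii : i ≠ i') (j₁ : J) (h' : ((i, j₁) : I × J) ≠ (i', j₁))
      (c' : F), etv (i, j₁) (i', j₁) h' c' ∈ H := by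
    intro i i' hii j₁ h' c'
    obtain ⟨j'', hj''⟩ := exists_ne_one (by omega : 2 ≤ Fintype.card J) j₁
    have hpq : ((i, j₁) : I × J) ≠ (i, j'') := fun e => hj'' (congrArg Prod.snd e).symm
    have hqr : ((i, j'') : I × J) ≠ (i', j₁) := fun e => hii (congrArg Prod.fst e)
    have h1 := hII i j₁ j'' (Ne.symm hj'') hpq 1
    have h2 := hmix i i' hii j'' j₁ hj'' hqr c'
    have h3 := H.mul_mem (H.mul_mem (H.mul_mem h1 h2) (H.inv_mem h1)) (H.inv_mem h2)
    rw [etv_comm _ _ _ hpq hqr h', one_mul] at h3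
    exact h3
  have : Nontrivial (I × J) := by
    obtain ⟨i'', hi''⟩ := exists_ne_one hI k
    exact ⟨⟨(k, j), (i'', j), fun e => hi'' (congrArg Prod.fst e).symm⟩⟩
  apply SL_le_of_etv
  rintro ⟨i, j₁⟩ ⟨i', j₁'⟩ hne c'
  by_cases hi : i = i'
  · subst hi
    have hj : j₁ ≠ j₁' := fun e => hne (by rw [e])
    exact hII i j₁ j₁' hj hne c'
  · by_cases hj : j₁ = j₁'
    · subst hj
      exact hIII i i' hi j₁ hne c'
    · exact hmix i i' hi j₁ j₁' hj hne c'

end main

end Cfsg.Agent.Lib.Helper8.Tns
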