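import Mathlib
import Cfsg.Prelude
import Cfsg.Agent.Lib.Helper8.Tns2

set_option autoImplicit false
set_option linter.unusedVariables false
set_option linter.unusedSectionVars false
set_option linter.style.longLine false

/-! Tensor product subgroups (part 3): the unipotent radical `Q` of the stabiliser of `U ⊗ e_{j₀}`,
isolation of one block, single block elements. -/

namespace Cfsg.Agent.Lib.Helper8.Tns

open Matrix Cfsg.Agent.Lib.Helper8.Mono Cfsg.Agent.Lib.Helper8.Bmo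
open scoped Kronecker

variable {I J : Type} [Fintype I] [DecidableEq I] [Fintype J] [DecidableEq J]
  {F : Type*} [Field F]

/-- matrices supported on the rows `(·, j₀)` and the columns `(·, j)`, `j ≠ j₀` -/
def QS (j₀ : J) (Z : Matrix (I × J) (I × J) F) : Prop :=
  ∀ p r, Z p r ≠ 0 → p.2 = j₀ ∧ r.2 ≠ j₀

theorem QS.eq_zero_row {j₀ : J} {Z : Matrix (I × J) (I × J) F} (h : QS j₀ Z) (p r : I × J)
    (hp : p.2 ≠ j₀) : Z p r = 0 := by
  by_contra h1
  exact hp (h p r h1).1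

theorem QS.eq_zero_col {j₀ : J} {Z : Matrix (I × J) (I × J) F} (h : QS j₀ Z) (p r : I × J)
    (hr : r.2 = j₀) : Z p r = 0 := by
  by_contra h1
  exact (h p r h1).2 hr

theorem QS.mul_QS {j₀ : J} {Z Z' : Matrix (I × J) (I × J) F} (h : QS j₀ Z) (h' : QS j₀ Z') :
    Z * Z' = 0 := by
  ext p r
  rw [Matrix.mul_apply, Matrix.zero_apply]
  apply Finset.sum_eq_zero
  intro s _
  by_cases h1 : Z p s = 0
  · rw [h1, zero_mul]
  · by_cases h2 : Z' s r = 0
    · rw [h2, mul_zero]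
    · exact absurd (h' s r h2).1 (h p s h1).2

theorem QS.neg {j₀ : J} {Z : Matrix (I × J) (I × J) F} (h : QS j₀ Z) : QS j₀ (-Z) := by
  intro p r hne
  apply h p r
  intro h0
  apply hne
  rw [Matrix.neg_apply, h0, neg_zero]

/-- the inverse of an element of `Q` -/
theorem inv_val_of_QS {j₀ : J} (y : GL (I × J) F)
    (h : QS j₀ ((y : Matrix (I × J) (I × J) F) - 1)) :
    ((y⁻¹ : GL (I × J) F) : Matrix (I × J) (I × J) F) =
      1 - ((y : Matrix (I × J) (I × J) F) - 1) := by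
  apply Units.inv_eq_of_mul_eq_one_right
  have hZ := h.mul_QS h
  set Z := (y : Matrix (I × J) (I × J) F) - 1 with hZdef
  have e : (y : Matrix (I × J) (I × J) F) = 1 + Z := by rw [hZdef]; abel
  rw [e]
  calc (1 + Z) * (1 - Z) = 1 - Z * Z := by noncomm_ring
    _ = 1 := by rw [hZ, sub_zero]

/-- the block `(j₀, j)` -/
def blk (j₀ : J) (Z : Matrix (I × J) (I × J) F) (j : J) : Matrix I I F :=
  fun i' i => Z (i', j₀) (i, j)

theorem kron_mul_QS {j₀ : J} (B : Matrix J J F) (hB : ∀ j, B j j₀ = if j = j₀ then 1 else 0)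
    {Z : Matrix (I × J) (I × J) F} (h : QS j₀ Z) : ((1 : Matrix I I F) ⊗ₖ B) * Z = Z := by
  ext ⟨i', j'⟩ r
  rw [Matrix.mul_apply, Fintype.sum_prod_type, Finset.sum_eq_single i']
  · rw [Finset.sum_eq_single j₀]
    · rw [kronecker_apply, Matrix.one_apply_eq, one_mul, hB]
      by_cases hj : j' = j₀
      · rw [if_pos hj, one_mul, hj]
      · rw [if_neg hj, zero_mul, h.eq_zero_row (i', j') r hj]
    · intro j'' _ hj''
      rw [h.eq_zero_row (i', j'') r hj'', mul_zero]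
    · intro hh
      exact absurd (Finset.mem_univ _) hh
  · intro i'' _ hi''
    apply Finset.sum_eq_zero
    intro j'' _
    rw [kronecker_apply, Matrix.one_apply_ne (Ne.symm hi''), zero_mul, zero_mul]
  · intro hh
    exact absurd (Finset.mem_univ _) hh

theorem QS_mul_kron {j₀ : J} (j₁ j₂ : J) {Z : Matrix (I × J) (I × J) F} (h : QS j₀ Z) :
    Z * ((1 : Matrix I I F) ⊗ₖ (1 + Matrix.single j₁ j₂ (1 : F))) =
      Z + blk j₀ Z j₁ ⊗ₖ Matrix.single j₀ j₂ (1 : F) := by
  ext ⟨i', j'⟩ ⟨i, j⟩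
  rw [Matrix.mul_apply, Fintype.sum_prod_type, Finset.sum_eq_single i]
  · simp only [kronecker_apply, Matrix.one_apply_eq, one_mul, Matrix.add_apply, mul_add,
      Finset.sum_add_distrib]
    congr 1
    · rw [Finset.sum_eq_single j]
      · rw [Matrix.one_apply_eq, mul_one]
      · intro j'' _ hj''
        rw [Matrix.one_apply_ne hj'', mul_zero]
      · intro hh
        exact absurd (Finset.mem_univ _) hh
    · rw [Finset.sum_eq_single j₁]
      · rw [Matrix.single_apply, Matrix.single_apply, blk]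
        by_cases hj : j₂ = j
        · by_cases hp : j₀ = j'
          · rw [if_pos ⟨rfl, hj⟩, if_pos ⟨hp, hj⟩, mul_one, mul_one, hp]
          · rw [if_pos ⟨rfl, hj⟩, if_neg (fun hh => hp hh.1), mul_one, mul_zero]
            exact h.eq_zero_row (i', j') (i, j₁) (Ne.symm hp)
        · rw [if_neg (fun hh => hj hh.2), if_neg (fun hh => hj hh.2), mul_zero,
            mul_zero]
      · intro j'' _ hj''
        rw [Matrix.single_apply_of_row_ne (Ne.symm hj''), mul_zero]
      · intro hh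
        exact absurd (Finset.mem_univ _) hh
  · intro i'' _ hi''
    apply Finset.sum_eq_zero
    intro j'' _
    rw [kronecker_apply, Matrix.one_apply_ne hi'', zero_mul, mul_zero]
  · intro hh
    exact absurd (Finset.mem_univ _) hh

theorem QS_kron_single {j₀ j₂ : J} (h02 : j₀ ≠ j₂) (θ : Matrix I I F) :
    QS j₀ (θ ⊗ₖ Matrix.single j₀ j₂ (1 : F)) := by
  intro p r hne
  rw [kronecker_apply, Matrix.single_apply] at hne
  by_cases hh : j₀ = p.2 ∧ j₂ = r.2
  · exact ⟨hh.1.symm, fun e => h02 (by rw [hh.2, e])⟩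
  · rw [if_neg hh, mul_zero] at hne
    exact absurd rfl hne

/-- the single block element `1 + θ ⊗ E_{j₀ j₂}` -/
def qs (j₀ j₂ : J) (h02 : j₀ ≠ j₂) (θ : Matrix I I F) : GL (I × J) F where
  val := 1 + θ ⊗ₖ Matrix.single j₀ j₂ (1 : F)
  inv := 1 - θ ⊗ₖ Matrix.single j₀ j₂ (1 : F)
  val_inv := by
    have := (QS_kron_single h02 θ).mul_QS (QS_kron_single h02 θ)
    set Z := θ ⊗ₖ Matrix.single j₀ j₂ (1 : F)
    calc (1 + Z) * (1 - Z) = 1 - Z * Z := by noncomm_ring
      _ = 1 := by rw [this, sub_zero]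
  inv_val := by
    have := (QS_kron_single h02 θ).mul_QS (QS_kron_single h02 θ)
    set Z := θ ⊗ₖ Matrix.single j₀ j₂ (1 : F)
    calc (1 - Z) * (1 + Z) = 1 - Z * Z := by noncomm_ring
      _ = 1 := by rw [this, sub_zero]

@[simp] theorem qs_val (j₀ j₂ : J) (h02 : j₀ ≠ j₂) (θ : Matrix I I F) :
    ((qs j₀ j₂ h02 θ : GL (I × J) F) : Matrix (I × J) (I × J) F) =
      1 + θ ⊗ₖ Matrix.single j₀ j₂ (1 : F) := rfl

theorem qs_mul (j₀ j₂ : J) (h02 : j₀ ≠ j₂) (θ θ' : Matrix I I F) :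
    qs j₀ j₂ h02 θ * qs j₀ j₂ h02 θ' = qs j₀ j₂ h02 (θ + θ') := by
  apply Units.ext
  rw [Units.val_mul, qs_val, qs_val, qs_val, add_kronecker]
  have := (QS_kron_single h02 θ).mul_QS (QS_kron_single h02 θ')
  set Z := θ ⊗ₖ Matrix.single j₀ j₂ (1 : F)
  set Z' := θ' ⊗ₖ Matrix.single j₀ j₂ (1 : F)
  calc (1 + Z) * (1 + Z') = 1 + (Z + Z') + Z * Z' := by noncomm_ring
    _ = 1 + (Z + Z') := by rw [this, add_zero]

theorem qs_zero (j₀ j₂ : J) (h02 : j₀ ≠ j₂) : qs j₀ j₂ h02 (0 : Matrix I I F) = 1 := by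
  apply Units.ext
  rw [qs_val, zero_kronecker, add_zero, Units.val_one]

theorem qs_inv (j₀ j₂ : J) (h02 : j₀ ≠ j₂) (θ : Matrix I I F) :
    (qs j₀ j₂ h02 θ)⁻¹ = qs j₀ j₂ h02 (-θ) := by
  rw [inv_eq_iff_mul_eq_one, qs_mul, add_neg_cancel, qs_zero]

/-- conjugation by `α ⊗ 1` -/
theorem qs_conj_left (j₀ j₂ : J) (h02 : j₀ ≠ j₂) (θ : Matrix I I F) (α : GL I F) :
    kr α (1 : GL J F) * qs j₀ j₂ h02 θ * (kr α (1 : GL J F))⁻¹ =
      qs j₀ j₂ h02 ((α : Matrix I I F) * θ * ((α⁻¹ : GL I F) : Matrix I I F)) := by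
  apply Units.ext
  rw [Units.val_mul, Units.val_mul, kr_inv, qs_val, qs_val, kr_val, kr_val, mul_add, add_mul,
    mul_one, ← mul_kronecker_mul, ← mul_kronecker_mul, ← mul_kronecker_mul, ← Units.val_mul,
    ← Units.val_mul, mul_inv_cancel, mul_inv_cancel, Units.val_one, Units.val_one,
    one_kronecker_one, inv_one, Units.val_one, one_mul, mul_one]

/-- conjugation by `1 ⊗ diag` -/
theorem qs_conj_diag (j₀ j₂ : J) (h02 : j₀ ≠ j₂) (θ : Matrix I I F) (d : J → Fˣ) :
    kr (1 : GL I F) (dg d) * qs j₀ j₂ h02 θ * (kr (1 : GL I F) (dg d))⁻¹ =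
      qs j₀ j₂ h02 (((d j₀ : F) * ((d j₂)⁻¹ : Fˣ)) • θ) := by
  apply Units.ext
  rw [Units.val_mul, Units.val_mul, kr_inv, qs_val, qs_val, kr_val, kr_val, mul_add, add_mul,
    mul_one, ← mul_kronecker_mul, ← mul_kronecker_mul, ← mul_kronecker_mul, ← Units.val_mul,
    ← Units.val_mul, mul_inv_cancel, mul_inv_cancel, Units.val_one, Units.val_one,
    one_kronecker_one, inv_one, Units.val_one, one_mul, mul_one]
  congr 1
  have : ((dg d : GL J F) : Matrix J J F) * Matrix.single j₀ j₂ (1 : F) *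
      (((dg d)⁻¹ : GL J F) : Matrix J J F) =
      ((d j₀ : F) * ((d j₂)⁻¹ : Fˣ)) • Matrix.single j₀ j₂ (1 : F) := by
    rw [dg_inv, dg_val, dg_val]
    ext a b
    rw [Matrix.mul_diagonal, Matrix.diagonal_mul, Matrix.smul_apply, Matrix.single_apply]
    by_cases hh : j₀ = a ∧ j₂ = b
    · rw [if_pos hh, ← hh.1, ← hh.2, smul_eq_mul]
      ring
    · rw [if_neg hh, smul_zero, mul_zero, zero_mul]
  rw [this, kronecker_smul, smul_kronecker]

/-- the elementary transvection of mixed type as a single block element -/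
theorem qs_single (j₀ j₂ : J) (h02 : j₀ ≠ j₂) (k l : I) (hkl : k ≠ l) (c : F) :
    qs j₀ j₂ h02 (Matrix.single k l c) =
      etv ((k, j₀) : I × J) (l, j₂) (fun e => hkl (congrArg Prod.fst e)) c := by
  apply Units.ext
  rw [qs_val, etv_val, Matrix.transvection, single_kronecker_single, mul_one]

section iso

variable (H : Subgroup (GL (I × J) F)) (hM : krSL I J F ≤ H)

theorem det_etv' {ι : Type} [Fintype ι] [DecidableEq ι] (a c : ι) (h : a ≠ c) (x : F) :
    ((etv a c h x : GL ι F) : Matrix ι ι F).det = 1 := by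
  rw [etv_val, Matrix.det_transvection_of_ne _ _ h]

theorem etv_inv_val {ι : Type} [Fintype ι] [DecidableEq ι] (a c : ι) (h : a ≠ c) (x : F) :
    (((etv a c h x)⁻¹ : GL ι F) : Matrix ι ι F) = 1 + Matrix.single a c (-x) := by
  apply Units.inv_eq_of_mul_eq_one_right
  rw [etv_val]
  have := Matrix.transvection_mul_transvection_same a c h x (-x)
  rw [add_neg_cancel, Matrix.transvection_zero] at this
  exact this

include hM in
/-- isolating one block of an element of `Q` -/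
theorem iso_block (j₀ : J) (y : GL (I × J) F) (hy : y ∈ H)
    (hQ : QS j₀ ((y : Matrix (I × J) (I × J) F) - 1)) (j₁ j₂ : J) (h01 : j₁ ≠ j₀)
    (h02 : j₀ ≠ j₂) (h12 : j₁ ≠ j₂) :
    qs j₀ j₂ h02 (blk j₀ ((y : Matrix (I × J) (I × J) F) - 1) j₁) ∈ H := by
  set m : GL (I × J) F := kr 1 (etv j₁ j₂ h12 (-1)) with hm
  have hmM : m ∈ krSL I J F := kr_one_mem_krSL _ (det_etv' j₁ j₂ h12 (-1))
  have hmem : m * y * m⁻¹ * y⁻¹ ∈ H :=
    H.mul_mem (H.mul_mem (H.mul_mem (hM hmM) hy) (H.inv_mem (hM hmM))) (H.inv_mem hy)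
  have key : m * y * m⁻¹ * y⁻¹ =
      qs j₀ j₂ h02 (blk j₀ ((y : Matrix (I × J) (I × J) F) - 1) j₁) := by
    apply Units.ext
    rw [Units.val_mul, Units.val_mul, Units.val_mul, inv_val_of_QS y hQ, qs_val, hm, kr_inv,
      kr_val, kr_val, inv_one, Units.val_one, etv_inv_val, neg_neg]
    set Z := (y : Matrix (I × J) (I × J) F) - 1 with hZdef
    have e : (y : Matrix (I × J) (I × J) F) = 1 + Z := by rw [hZdef]; abel
    rw [e]
    set T := (1 : Matrix I I F) ⊗ₖ ((etv j₁ j₂ h12 (-1) : GL J F) : Matrix J J F) with hT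
    set T' := (1 : Matrix I I F) ⊗ₖ (1 + Matrix.single j₁ j₂ (1 : F)) with hT'
    set Z₁ := blk j₀ Z j₁ ⊗ₖ Matrix.single j₀ j₂ (1 : F) with hZ₁
    have hTT' : T * T' = 1 := by
      rw [hT, hT', ← mul_kronecker_mul, mul_one, etv_val]
      have := Matrix.transvection_mul_transvection_same j₁ j₂ h12 (-1 : F) 1
      rw [neg_add_cancel, Matrix.transvection_zero] at this
      rw [show (1 + Matrix.single j₁ j₂ (1 : F)) = Matrix.transvection j₁ j₂ 1 from rfl, this,
        one_kronecker_one]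
    have hTZ : T * Z = Z := by
      apply kron_mul_QS _ _ hQ
      intro j
      rw [etv_val, Matrix.transvection, Matrix.add_apply, Matrix.one_apply,
        Matrix.single_apply_of_col_ne _ _ (Ne.symm h02), add_zero]
    have hZT' : Z * T' = Z + Z₁ := QS_mul_kron j₁ j₂ hQ
    have hZZ : Z * Z = 0 := hQ.mul_QS hQ
    have hZ₁Z : Z₁ * Z = 0 := (QS_kron_single h02 _).mul_QS hQ
    calc T * (1 + Z) * T' * (1 - Z) = (T * T' + (T * Z) * T') * (1 - Z) := by noncomm_ring
      _ = (1 + (Z + Z₁)) * (1 - Z) := by rw [hTT', hTZ, hZT']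
      _ = 1 + Z₁ - (Z * Z + Z₁ * Z) := by noncomm_ring
      _ = 1 + Z₁ := by rw [hZZ, hZ₁Z, add_zero, sub_zero]
  rw [← key]
  exact hmem

end iso

end Cfsg.Agent.Lib.Helper8.Tns
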