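import Mathlib
import Cfsg.Prelude
import Cfsg.Agent.Lib.Helper8.Tns3

set_option autoImplicit false
set_option linter.unusedVariables false
set_option linter.unusedSectionVars false
set_option linter.style.longLine false

/-! Tensor product subgroups (part 4): invariant subspaces of matrices, the non-scalar block claim. -/

namespace Cfsg.Agent.Lib.Helper8.Tns

open Matrix Cfsg.Agent.Lib.Helper8.Mono Cfsg.Agent.Lib.Helper8.Bmo
open scoped Kronecker

section alg

variable {I : Type} [Fintype I] [DecidableEq I] {F : Type*} [Field F]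

/-- `(1 + X) θ (1 - X) - θ` for `X = s E_{kl}` -/
def Dd (k l : I) (s : F) (θ : Matrix I I F) : Matrix I I F :=
  Matrix.single k l s * θ - θ * Matrix.single k l s - Matrix.single k l (s * θ l k * s)

theorem conj_single_eq (k l : I) (s : F) (θ : Matrix I I F) :
    (1 + Matrix.single k l s) * θ * (1 - Matrix.single k l s) = θ + Dd k l s θ := by
  unfold Dd
  rw [← Matrix.single_mul_mul_single]
  noncomm_ring

theorem Dd_diag (k l : I) (hkl : k ≠ l) (θ : Matrix I I F) (hoff : ∀ a b, a ≠ b → θ a b = 0) :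
    Dd k l 1 θ = Matrix.single k l (θ l l - θ k k) := by
  unfold Dd
  rw [hoff l k (Ne.symm hkl), mul_zero, zero_mul, Matrix.single_zero, sub_zero]
  ext a b
  rw [Matrix.sub_apply]
  by_cases ha : a = k
  · rw [ha, Matrix.single_mul_apply_same, one_mul]
    by_cases hb : b = l
    · rw [hb, Matrix.mul_single_apply_same, mul_one, Matrix.single_apply_same]
    · rw [Matrix.mul_single_apply_of_ne _ _ _ _ _ hb, sub_zero,
        Matrix.single_apply_of_col_ne _ _ (Ne.symm hb), hoff l b (Ne.symm hb)]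
  · rw [Matrix.single_mul_apply_of_ne _ _ _ _ _ ha, zero_sub,
      Matrix.single_apply_of_row_ne (Ne.symm ha)]
    by_cases hb : b = l
    · rw [hb, Matrix.mul_single_apply_same, mul_one, hoff a k ha, neg_zero]
    · rw [Matrix.mul_single_apply_of_ne _ _ _ _ _ hb, neg_zero]

theorem Dd_sub_smul (k l : I) (s : F) (θ : Matrix I I F) :
    Dd k l s θ - s • Dd k l 1 θ = Matrix.single k l ((s - s * s) * θ l k) := by
  unfold Dd
  have e : Matrix.single k l s = s • Matrix.single k l (1 : F) := by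
    rw [Matrix.smul_single, smul_eq_mul, mul_one]
  have e2 : Matrix.single k l (s * θ l k * s) = (s * s * θ l k) • Matrix.single k l (1 : F) := by
    rw [Matrix.smul_single, smul_eq_mul, mul_one]
    congr 1
    ring
  have e3 : Matrix.single k l (1 * θ l k * 1) = (θ l k) • Matrix.single k l (1 : F) := by
    rw [Matrix.smul_single, smul_eq_mul, mul_one, one_mul, mul_one]
  have e4 : Matrix.single k l ((s - s * s) * θ l k) =
      ((s - s * s) * θ l k) • Matrix.single k l (1 : F) := by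
    rw [Matrix.smul_single, smul_eq_mul, mul_one]
  rw [e2, e3, e4, e, Matrix.smul_mul, Matrix.mul_smul]
  module

theorem Dd_Dd (k l m : I) (hkl : k ≠ l) (hml : m ≠ l) (hmk : m ≠ k) (θ : Matrix I I F) :
    Dd m l 1 (Dd k l 1 θ) = Matrix.single m l (-(θ l k)) + Matrix.single k l (-(θ l m)) := by
  have a1 : ∀ c d : F, Matrix.single m l c * Matrix.single k l d = 0 := fun c d =>
    Matrix.single_mul_single_of_ne _ _ _ _ (Ne.symm hkl) _
  have a2 : ∀ c d : F, Matrix.single k l c * Matrix.single m l d = 0 := fun c d =>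
    Matrix.single_mul_single_of_ne _ _ _ _ (Ne.symm hml) _
  have h1 : Matrix.single m l (1 : F) * Dd k l 1 θ = Matrix.single m l (-(θ l k)) := by
    unfold Dd
    calc Matrix.single m l (1 : F) * (Matrix.single k l 1 * θ - θ * Matrix.single k l 1 -
          Matrix.single k l (1 * θ l k * 1))
        = (Matrix.single m l (1 : F) * Matrix.single k l 1) * θ -
          Matrix.single m l (1 : F) * θ * Matrix.single k l 1 -
          Matrix.single m l (1 : F) * Matrix.single k l (1 * θ l k * 1) := by noncomm_ring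
      _ = Matrix.single m l (-(θ l k)) := by
        rw [a1, a1, Matrix.single_mul_mul_single, Matrix.zero_mul, zero_sub, sub_zero, one_mul,
          mul_one, ← Matrix.single_neg]
  have h2 : Dd k l 1 θ * Matrix.single m l (1 : F) = Matrix.single k l (θ l m) := by
    unfold Dd
    calc (Matrix.single k l 1 * θ - θ * Matrix.single k l 1 -
          Matrix.single k l (1 * θ l k * 1)) * Matrix.single m l (1 : F)
        = Matrix.single k l (1 : F) * θ * Matrix.single m l 1 -
          θ * (Matrix.single k l (1 : F) * Matrix.single m l 1) -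
          Matrix.single k l (1 * θ l k * 1) * Matrix.single m l (1 : F) := by noncomm_ring
      _ = Matrix.single k l (θ l m) := by
        rw [a2, a2, Matrix.single_mul_mul_single, Matrix.mul_zero, sub_zero, sub_zero, one_mul,
          mul_one]
  have h3 : Dd k l 1 θ l m = 0 := by
    unfold Dd
    rw [Matrix.sub_apply, Matrix.sub_apply, Matrix.single_mul_apply_of_ne _ _ _ _ _ (Ne.symm hkl),
      Matrix.mul_single_apply_of_ne _ _ _ _ _ hml, Matrix.single_apply_of_row_ne hkl, sub_zero,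
      sub_zero]
  have h4 : Dd m l 1 (Dd k l 1 θ) = Matrix.single m l (1 : F) * Dd k l 1 θ -
      Dd k l 1 θ * Matrix.single m l (1 : F) - Matrix.single m l (1 * Dd k l 1 θ l m * 1) := rfl
  rw [h4, h1, h2, h3, mul_zero, zero_mul, Matrix.single_zero, sub_zero, sub_eq_add_neg,
    Matrix.single_neg]

theorem Dd_two (k l m : I) (hkl : k ≠ l) (hml : m ≠ l) (hmk : m ≠ k) (a b : F) :
    Dd k m 1 (Matrix.single m l a + Matrix.single k l b) = Matrix.single k l a := by
  have a2 : ∀ c d : F, Matrix.single k l c * Matrix.single k m d = 0 := fun c d =>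
    Matrix.single_mul_single_of_ne _ _ _ _ (Ne.symm hkl) _
  have a3 : ∀ c d : F, Matrix.single m l c * Matrix.single k m d = 0 := fun c d =>
    Matrix.single_mul_single_of_ne _ _ _ _ (Ne.symm hkl) _
  have a4 : ∀ c d : F, Matrix.single k m c * Matrix.single k l d = 0 := fun c d =>
    Matrix.single_mul_single_of_ne _ _ _ _ hmk _
  unfold Dd
  rw [Matrix.add_apply, Matrix.single_apply_of_col_ne _ _ (Ne.symm hkl),
    Matrix.single_apply_of_col_ne _ _ (Ne.symm hkl), add_zero, mul_zero, zero_mul,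
    Matrix.single_zero, sub_zero, Matrix.mul_add, Matrix.add_mul, a2, a3, a4,
    Matrix.single_mul_single_same, add_zero, add_zero, sub_zero, one_mul]

theorem exists_single_mem (T : Submodule F (Matrix I I F)) (hI : 2 ≤ Fintype.card I)
    (hD : ∀ k l : I, k ≠ l → ∀ (s : F) (θ : Matrix I I F), θ ∈ T → Dd k l s θ ∈ T)
    (hex : 3 ≤ Fintype.card I ∨ ∃ s : F, s ≠ 0 ∧ s ≠ 1)
    (θ : Matrix I I F) (hθ : θ ∈ T) (hns : ¬ ∃ c : F, θ = c • (1 : Matrix I I F)) :
    ∃ k l : I, k ≠ l ∧ ∃ c : F, c ≠ 0 ∧ Matrix.single k l c ∈ T := by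
  by_cases hA : ∃ k l : I, k ≠ l ∧ θ l k ≠ 0
  · obtain ⟨k, l, hkl, hlk⟩ := hA
    rcases hex with h3 | ⟨s, hs0, hs1⟩
    · obtain ⟨m, hmk, hml⟩ := exists_ne_two h3 k l
      refine ⟨k, l, hkl, -(θ l k), neg_ne_zero.mpr hlk, ?_⟩
      have h1 := hD k l hkl 1 θ hθ
      have h2 := hD m l hml 1 _ h1
      have h3' := hD k m (Ne.symm hmk) 1 _ h2
      rw [Dd_Dd k l m hkl hml hmk, Dd_two k l m hkl hml hmk] at h3'
      exact h3'
    · refine ⟨k, l, hkl, (s - s * s) * θ l k, ?_, ?_⟩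
      · apply mul_ne_zero _ hlk
        have : s - s * s = s * (1 - s) := by ring
        rw [this]
        exact mul_ne_zero hs0 (sub_ne_zero.mpr (Ne.symm hs1))
      · rw [← Dd_sub_smul]
        exact T.sub_mem (hD k l hkl s θ hθ) (T.smul_mem s (hD k l hkl 1 θ hθ))
  · push Not at hA
    have hoff : ∀ a b : I, a ≠ b → θ a b = 0 := fun a b hab => hA b a (Ne.symm hab)
    have hd : ∃ k l : I, θ k k ≠ θ l l := by
      by_contra hcon
      push Not at hcon
      apply hns
      have hne : Nonempty I := by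
        rw [← Fintype.card_pos_iff]
        omega
      obtain ⟨i₀⟩ := hne
      refine ⟨θ i₀ i₀, ?_⟩
      ext a b
      rw [Matrix.smul_apply, Matrix.one_apply]
      by_cases hab : a = b
      · rw [if_pos hab, smul_eq_mul, mul_one, ← hab]
        exact hcon a i₀
      · rw [if_neg hab, smul_zero]
        exact hoff a b hab
    obtain ⟨k, l, hne⟩ := hd
    have hkl : k ≠ l := fun e => hne (by rw [e])
    refine ⟨k, l, hkl, θ l l - θ k k, sub_ne_zero.mpr (Ne.symm hne), ?_⟩
    rw [← Dd_diag k l hkl θ hoff]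
    exact hD k l hkl 1 θ hθ

end alg

section claim

variable {I J : Type} [Fintype I] [DecidableEq I] [Fintype J] [DecidableEq J]
  {F : Type*} [Field F]

/-- the subspace of the `θ` with `1 + θ ⊗ E_{j₀ j₂} ∈ H` -/
def tSub (H : Subgroup (GL (I × J) F)) (hM : krSL I J F ≤ H) (hJ : 3 ≤ Fintype.card J)
    (j₀ j₂ : J) (h02 : j₀ ≠ j₂) : Submodule F (Matrix I I F) where
  carrier := {θ | qs j₀ j₂ h02 θ ∈ H}
  add_mem' := by
    intro θ θ' h h'
    show qs j₀ j₂ h02 (θ + θ') ∈ H
    rw [← qs_mul]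
    exact H.mul_mem h h'
  zero_mem' := by
    show qs j₀ j₂ h02 (0 : Matrix I I F) ∈ H
    rw [qs_zero]
    exact H.one_mem
  smul_mem' := by
    intro c θ h
    show qs j₀ j₂ h02 (c • θ) ∈ H
    by_cases hc : c = 0
    · rw [hc, zero_smul, qs_zero]
      exact H.one_mem
    · obtain ⟨j₃, h30, h32⟩ := exists_ne_two hJ j₀ j₂
      have hd : kr (1 : GL I F) (dg (t2 j₀ j₃ (Units.mk0 c hc))) ∈ krSL I J F :=
        kr_one_mem_krSL _ (det_of_mem_monoSL (t2_mem j₀ j₃ (Ne.symm h30) _))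
      have h1 := H.mul_mem (H.mul_mem (hM hd) h) (H.inv_mem (hM hd))
      rw [qs_conj_diag, t2_a, t2_other j₀ j₃ _ j₂ (Ne.symm h02) (Ne.symm h32), inv_one,
        Units.val_one, mul_one, Units.val_mk0] at h1
      exact h1

theorem mem_tSub (H : Subgroup (GL (I × J) F)) (hM : krSL I J F ≤ H) (hJ : 3 ≤ Fintype.card J)
    (j₀ j₂ : J) (h02 : j₀ ≠ j₂) (θ : Matrix I I F) :
    θ ∈ tSub H hM hJ j₀ j₂ h02 ↔ qs j₀ j₂ h02 θ ∈ H := Iff.rfl

/-- Claim 1: an element of `H ∩ Q` with a non-scalar block forces `SL ≤ H` -/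
theorem SL_le_of_QS_nonscalar (H : Subgroup (GL (I × J) F)) (hM : krSL I J F ≤ H)
    (hI : 2 ≤ Fintype.card I) (hJ : 3 ≤ Fintype.card J)
    (hex : 3 ≤ Fintype.card I ∨ ∃ s : F, s ≠ 0 ∧ s ≠ 1)
    (j₀ : J) (y : GL (I × J) F) (hy : y ∈ H)
    (hQ : QS j₀ ((y : Matrix (I × J) (I × J) F) - 1)) (j₁ : J) (h01 : j₁ ≠ j₀)
    (hns : ¬ ∃ c : F, blk j₀ ((y : Matrix (I × J) (I × J) F) - 1) j₁ = c • (1 : Matrix I I F)) :
    Cfsg.Geo.specialLinear (I × J) F ≤ H := by
  obtain ⟨j₂, h20, h21⟩ := exists_ne_two hJ j₀ j₁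
  have h02 : j₀ ≠ j₂ := Ne.symm h20
  have hb := iso_block H hM j₀ y hy hQ j₁ j₂ h01 h02 (Ne.symm h21)
  have hD : ∀ k l : I, k ≠ l → ∀ (s : F) (θ : Matrix I I F), θ ∈ tSub H hM hJ j₀ j₂ h02 →
      Dd k l s θ ∈ tSub H hM hJ j₀ j₂ h02 := by
    intro k l hkl s θ h
    have hα : kr (etv k l hkl s) (1 : GL J F) ∈ krSL I J F :=
      kr_mem_krSL_one _ (det_etv' k l hkl s)
    have h1 := H.mul_mem (H.mul_mem (hM hα) ((mem_tSub H hM hJ j₀ j₂ h02 θ).mp h))
      (H.inv_mem (hM hα))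
    rw [qs_conj_left, etv_inv_val, etv_val, Matrix.transvection, ← Matrix.single_neg,
      ← sub_eq_add_neg, conj_single_eq] at h1
    have h3 : θ + Dd k l s θ ∈ tSub H hM hJ j₀ j₂ h02 := h1
    have h4 := (tSub H hM hJ j₀ j₂ h02).sub_mem h3 h
    rwa [add_sub_cancel_left] at h4
  obtain ⟨k, l, hkl, c, hc, hmem⟩ := exists_single_mem (tSub H hM hJ j₀ j₂ h02) hI hD hex _ hb hns
  have h5 : qs j₀ j₂ h02 (Matrix.single k l c) ∈ H := hmem
  rw [qs_single j₀ j₂ h02 k l hkl c] at h5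
  exact SL_le_of_mixed_etv H hM hI hJ k l hkl j₀ j₂ h02 _ c hc h5

/-- an element of `H ∩ Q` is a root element, unless `SL ≤ H` -/
theorem QS_eq_xw (H : Subgroup (GL (I × J) F)) (hM : krSL I J F ≤ H)
    (hI : 2 ≤ Fintype.card I) (hJ : 3 ≤ Fintype.card J)
    (hex : 3 ≤ Fintype.card I ∨ ∃ s : F, s ≠ 0 ∧ s ≠ 1)
    (hnot : ¬ Cfsg.Geo.specialLinear (I × J) F ≤ H)
    (j₀ : J) (y : GL (I × J) F) (hy : y ∈ H)
    (hQ : QS j₀ ((y : Matrix (I × J) (I × J) F) - 1)) :
    ∃ (φ : J → F) (h : φ ⬝ᵥ Pi.single j₀ (1 : F) = 0), y = xw (Pi.single j₀ (1 : F)) φ h := by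
  have hsc : ∀ j₁ : J, j₁ ≠ j₀ →
      ∃ c : F, blk j₀ ((y : Matrix (I × J) (I × J) F) - 1) j₁ = c • (1 : Matrix I I F) := by
    intro j₁ h01
    by_contra hns
    exact hnot (SL_le_of_QS_nonscalar H hM hI hJ hex j₀ y hy hQ j₁ h01 hns)
  set φ : J → F := fun j => if h : j ≠ j₀ then Classical.choose (hsc j h) else 0 with hφ
  have hφ0 : φ j₀ = 0 := by
    rw [hφ]
    simp
  have hφj : ∀ j₁ : J, j₁ ≠ j₀ →
      blk j₀ ((y : Matrix (I × J) (I × J) F) - 1) j₁ = φ j₁ • (1 : Matrix I I F) := by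
    intro j₁ h01
    have := Classical.choose_spec (hsc j₁ h01)
    rw [hφ]
    simp only [dif_pos h01]
    exact this
  have hdot : φ ⬝ᵥ Pi.single j₀ (1 : F) = 0 := by
    rw [dotProduct_single, hφ0, zero_mul]
  refine ⟨φ, hdot, ?_⟩
  apply Units.ext
  have e : (y : Matrix (I × J) (I × J) F) = 1 + ((y : Matrix (I × J) (I × J) F) - 1) := by abel
  rw [e]
  unfold xw
  rw [kr_val, Units.val_one, tv_val, Matrix.kronecker_add, one_kronecker_one]
  congr 1
  ext ⟨i', j'⟩ ⟨i, j⟩
  rw [kronecker_apply, vecMulVec_apply]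
  by_cases hj' : j' = j₀
  · by_cases hj : j = j₀
    · rw [hQ.eq_zero_col (i', j') (i, j) hj, hj, hφ0, mul_zero, mul_zero]
    · have := congrFun (congrFun (hφj j hj) i') i
      rw [blk, Matrix.smul_apply, smul_eq_mul] at this
      rw [hj', this, Pi.single_eq_same, one_mul, mul_comm]
  · rw [hQ.eq_zero_row (i', j') (i, j) hj', Pi.single_eq_of_ne hj', zero_mul, mul_zero]

end claim

end Cfsg.Agent.Lib.Helper8.Tns
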