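import Mathlib
import Cfsg.Prelude
import Cfsg.Agent.Lib.Helper8.Tns4

set_option autoImplicit false
set_option linter.unusedVariables false
set_option linter.unusedSectionVars false
set_option linter.style.longLine false

/-! Tensor product subgroups (part 5): stabiliser matrices, determinants, transitivity. -/

namespace Cfsg.Agent.Lib.Helper8.Tns

open Matrix Cfsg.Agent.Lib.Helper8.Mono Cfsg.Agent.Lib.Helper8.Bmo
open scoped Kronecker

variable {I J : Type} [Fintype I] [DecidableEq I] [Fintype J] [DecidableEq J]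
  {F : Type*} [Field F]

/-- matrices stabilising `U ⊗ e_{j₀}` -/
def StabM (j₀ : J) (G : Matrix (I × J) (I × J) F) : Prop :=
  ∀ p r : I × J, p.2 ≠ j₀ → r.2 = j₀ → G p r = 0

theorem QS.mul_left {j₀ : J} {L Z : Matrix (I × J) (I × J) F} (hL : StabM j₀ L) (hZ : QS j₀ Z) :
    QS j₀ (L * Z) := by
  intro p r hne
  rw [Matrix.mul_apply] at hne
  obtain ⟨s, _, hs⟩ := Finset.exists_ne_zero_of_sum_ne_zero hne
  have h1 : L p s ≠ 0 := left_ne_zero_of_mul hs
  have h2 : Z s r ≠ 0 := right_ne_zero_of_mul hs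
  obtain ⟨hs2, hr⟩ := hZ s r h2
  refine ⟨?_, hr⟩
  by_contra hp
  exact h1 (hL p s hp hs2)

theorem QS.mul_right {j₀ : J} {R Z : Matrix (I × J) (I × J) F} (hZ : QS j₀ Z) (hR : StabM j₀ R) :
    QS j₀ (Z * R) := by
  intro p r hne
  rw [Matrix.mul_apply] at hne
  obtain ⟨s, _, hs⟩ := Finset.exists_ne_zero_of_sum_ne_zero hne
  have h1 : Z p s ≠ 0 := left_ne_zero_of_mul hs
  have h2 : R s r ≠ 0 := right_ne_zero_of_mul hs
  obtain ⟨hp, hs2⟩ := hZ p s h1
  refine ⟨hp, ?_⟩
  intro hr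
  exact h2 (hR s r hs2 hr)

theorem StabM_kron_one (j₀ : J) (A : Matrix I I F) : StabM j₀ (A ⊗ₖ (1 : Matrix J J F)) := by
  rintro ⟨i', j'⟩ ⟨i, j⟩ hp hr
  simp only at hp hr
  rw [kronecker_apply, hr, Matrix.one_apply_ne hp, mul_zero]

theorem stabM_of_map (j₀ : J) (G : Matrix (I × J) (I × J) F)
    (hst : ∀ u : I → F, ∃ u' : I → F,
      G *ᵥ pt u (Pi.single j₀ (1 : F)) = pt u' (Pi.single j₀ (1 : F))) : StabM j₀ G := by
  rintro ⟨i', j'⟩ ⟨i, j⟩ hp hr
  simp only at hp hr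
  obtain ⟨u', hu'⟩ := hst (Pi.single i 1)
  have := congrFun hu' (i', j')
  rw [pt_single_single, mul_one, Matrix.mulVec_single_one, Matrix.col_apply, pt_apply,
    Pi.single_eq_of_ne hp, mul_zero] at this
  rw [hr]
  exact this

theorem one_kron_mul_apply (B : Matrix J J F) (G : Matrix (I × J) (I × J) F) (i' : I) (j' : J)
    (r : I × J) : (((1 : Matrix I I F) ⊗ₖ B) * G) (i', j') r = ∑ b, B j' b * G (i', b) r := by
  rw [Matrix.mul_apply, Fintype.sum_prod_type, Finset.sum_eq_single i']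
  · apply Finset.sum_congr rfl
    intro b _
    rw [kronecker_apply, Matrix.one_apply_eq, one_mul]
  · intro i'' _ hi''
    apply Finset.sum_eq_zero
    intro b _
    rw [kronecker_apply, Matrix.one_apply_ne (Ne.symm hi''), zero_mul, zero_mul]
  · intro hh
    exact absurd (Finset.mem_univ _) hh

theorem mul_one_kron_apply (B : Matrix J J F) (G : Matrix (I × J) (I × J) F) (p : I × J) (i : I)
    (j : J) : (G * ((1 : Matrix I I F) ⊗ₖ B)) p (i, j) = ∑ b, G p (i, b) * B b j := by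
  rw [Matrix.mul_apply, Fintype.sum_prod_type, Finset.sum_eq_single i]
  · apply Finset.sum_congr rfl
    intro b _
    rw [kronecker_apply, Matrix.one_apply_eq, one_mul]
  · intro i'' _ hi''
    apply Finset.sum_eq_zero
    intro b _
    rw [kronecker_apply, Matrix.one_apply_ne hi'', zero_mul, mul_zero]
  · intro hh
    exact absurd (Finset.mem_univ _) hh

/-- `1 + Z` has determinant one for `Z` in the radical -/
theorem det_one_add_QS {j₀ : J} {Z : Matrix (I × J) (I × J) F} (h : QS j₀ Z) :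
    (1 + Z).det = 1 := by
  have h1 : ((1 : Matrix I I F) ⊗ₖ Matrix.single j₀ j₀ (1 : F)) * Z = Z := by
    apply kron_mul_QS _ _ h
    intro j
    rw [Matrix.single_apply]
    by_cases hj : j = j₀
    · rw [if_pos hj, if_pos ⟨hj.symm, rfl⟩]
    · rw [if_neg hj, if_neg (fun hh => hj hh.1.symm)]
  have h2 : Z * ((1 : Matrix I I F) ⊗ₖ Matrix.single j₀ j₀ (1 : F)) = 0 := by
    ext p ⟨i, j⟩
    rw [mul_one_kron_apply, Matrix.zero_apply]
    apply Finset.sum_eq_zero
    intro b _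
    by_cases hb : b = j₀
    · rw [h.eq_zero_col p (i, b) hb, zero_mul]
    · rw [Matrix.single_apply_of_row_ne (Ne.symm hb), mul_zero]
  rw [← h1, Matrix.det_one_add_mul_comm, h2, add_zero, det_one]

theorem tv_mulVec {ι : Type} [Fintype ι] [DecidableEq ι] (b β : ι → F) (h : β ⬝ᵥ b = 0)
    (v : ι → F) : ((tv b β h : GL ι F) : Matrix ι ι F) *ᵥ v = v + (β ⬝ᵥ v) • b := by
  rw [tv_val, Matrix.add_mulVec, Matrix.one_mulVec, Matrix.vecMulVec_mulVec]
  congr 1
  ext x
  simp [mul_comm]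

/-- `SL` is transitive on non-zero vectors (first case) -/
theorem exists_SL_map_aux (hJ : 2 ≤ Fintype.card J) (j₀ : J) (w : J → F) (hw : w j₀ ≠ 0) :
    ∃ β : GL J F, (β : Matrix J J F).det = 1 ∧
      (β : Matrix J J F) *ᵥ Pi.single j₀ (1 : F) = w := by
  obtain ⟨j₁, h10⟩ := exists_ne_one hJ j₀
  have hb : Pi.single j₀ (1 : F) ⬝ᵥ ((w j₀)⁻¹ • (w - w j₀ • Pi.single j₀ (1 : F))) = 0 := by
    rw [single_dotProduct, one_mul, Pi.smul_apply, Pi.sub_apply, Pi.smul_apply,
      Pi.single_eq_same, smul_eq_mul, smul_eq_mul, mul_one, sub_self, mul_zero]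
  refine ⟨tv _ _ hb * dg (t2 j₀ j₁ (Units.mk0 _ hw)), ?_, ?_⟩
  · rw [Units.val_mul, det_mul, det_tv, one_mul]
    exact det_of_mem_monoSL (t2_mem j₀ j₁ (Ne.symm h10) _)
  · rw [Units.val_mul, ← Matrix.mulVec_mulVec, dg_val, Matrix.diagonal_mulVec_single, t2_a,
      Units.val_mk0, mul_one, tv_mulVec, single_dotProduct, one_mul, Pi.single_eq_same]
    ext x
    simp only [Pi.add_apply, Pi.smul_apply, Pi.sub_apply, smul_eq_mul]
    by_cases hx : x = j₀
    · rw [hx]
      simp only [Pi.single_eq_same]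
      field_simp
      ring
    · simp only [Pi.single_eq_of_ne hx]
      field_simp
      ring

/-- `SL` is transitive on non-zero vectors -/
theorem exists_SL_map (hJ : 2 ≤ Fintype.card J) (j₀ : J) (w : J → F) (hw : w ≠ 0) :
    ∃ β : GL J F, (β : Matrix J J F).det = 1 ∧
      (β : Matrix J J F) *ᵥ Pi.single j₀ (1 : F) = w := by
  by_cases h0 : w j₀ ≠ 0
  · exact exists_SL_map_aux hJ j₀ w h0
  · push Not at h0
    obtain ⟨j₁, hj₁⟩ := Function.ne_iff.mp hw
    rw [Pi.zero_apply] at hj₁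
    have h10 : j₁ ≠ j₀ := fun e => hj₁ (by rw [e, h0])
    have hw1 : (w + Pi.single j₀ (1 : F) : J → F) j₀ ≠ 0 := by
      rw [Pi.add_apply, h0, zero_add, Pi.single_eq_same]
      exact one_ne_zero
    obtain ⟨β₁, hdet, hβ₁⟩ := exists_SL_map_aux hJ j₀ _ hw1
    have hb : ((w j₁)⁻¹ • Pi.single j₁ (1 : F)) ⬝ᵥ (-Pi.single j₀ (1 : F)) = 0 := by
      rw [dotProduct_neg, dotProduct_single, mul_one, Pi.smul_apply, Pi.single_eq_of_ne (Ne.symm h10),
        smul_zero, neg_zero]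
    refine ⟨tv _ _ hb * β₁, ?_, ?_⟩
    · rw [Units.val_mul, det_mul, det_tv, one_mul, hdet]
    · rw [Units.val_mul, ← Matrix.mulVec_mulVec, hβ₁, tv_mulVec, smul_dotProduct,
        single_dotProduct, one_mul, Pi.add_apply, Pi.single_eq_of_ne h10, add_zero, smul_eq_mul,
        inv_mul_cancel₀ hj₁, one_smul]
      abel

end Cfsg.Agent.Lib.Helper8.Tns
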