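import Mathlib
import Cfsg.Prelude
import Cfsg.Agent.Lib.Helper8.Tns5

set_option autoImplicit false
set_option linter.unusedVariables false
set_option linter.unusedSectionVars false
set_option linter.style.longLine false

/-! Tensor product subgroups (part 6): the stabiliser in `H` of `U ⊗ w` lies in the Kronecker
group. -/

namespace Cfsg.Agent.Lib.Helper8.Tns

open Matrix Cfsg.Agent.Lib.Helper8.Mono Cfsg.Agent.Lib.Helper8.Bmo
open scoped Kronecker

variable {I J : Type} [Fintype I] [DecidableEq I] [Fintype J] [DecidableEq J]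
  {F : Type*} [Field F]

theorem QS_one_kron_vv (j₀ : J) (φ : J → F) (hφ : φ j₀ = 0) :
    QS j₀ ((1 : Matrix I I F) ⊗ₖ vecMulVec (Pi.single j₀ (1 : F)) φ) := by
  rintro ⟨i', j'⟩ ⟨i, j⟩ hne
  rw [kronecker_apply, vecMulVec_apply] at hne
  constructor
  · by_contra hj'
    apply hne
    have hj'' : j' ≠ j₀ := hj'
    rw [Pi.single_eq_of_ne hj'', zero_mul, mul_zero]
  · intro hj
    apply hne
    have hj'' : j = j₀ := hj
    rw [hj'', hφ, mul_zero, mul_zero]

theorem single_ne_zero' (j₀ : J) : (Pi.single j₀ (1 : F) : J → F) ≠ 0 := by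
  intro h
  have := congrFun h j₀
  rw [Pi.single_eq_same, Pi.zero_apply] at this
  exact one_ne_zero this

section L3

variable (H : Subgroup (GL (I × J) F)) (hM : krSL I J F ≤ H)

include hM in
/-- an element of `H` stabilising `U ⊗ e_{j₀}` is a Kronecker product -/
theorem stab_mem_krSub (hHS : H ≤ Cfsg.Geo.specialLinear (I × J) F)
    (hI : 2 ≤ Fintype.card I) (hJ : 3 ≤ Fintype.card J)
    (hex : 3 ≤ Fintype.card I ∨ ∃ s : F, s ≠ 0 ∧ s ≠ 1)
    (hnot : ¬ Cfsg.Geo.specialLinear (I × J) F ≤ H)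
    (j₀ : J) (g : GL (I × J) F) (hg : g ∈ H)
    (hst : ∀ u : I → F, ∃ u' : I → F,
      (g : Matrix (I × J) (I × J) F) *ᵥ pt u (Pi.single j₀ (1 : F)) =
        pt u' (Pi.single j₀ (1 : F))) :
    g ∈ krSub I J F := by
  obtain ⟨G, hG⟩ : ∃ G : Matrix (I × J) (I × J) F, G = (g : Matrix (I × J) (I × J) F) := ⟨_, rfl⟩
  obtain ⟨G', hG'⟩ : ∃ G' : Matrix (I × J) (I × J) F,
    G' = ((g⁻¹ : GL (I × J) F) : Matrix (I × J) (I × J) F) := ⟨_, rfl⟩
  have hGG' : G * G' = 1 := by rw [hG, hG', ← Units.val_mul, mul_inv_cancel, Units.val_one]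
  have hG'G : G' * G = 1 := by rw [hG, hG', ← Units.val_mul, inv_mul_cancel, Units.val_one]
  rw [← hG] at hst
  have hS : StabM j₀ G := stabM_of_map j₀ G hst
  obtain ⟨α, hα⟩ : ∃ α : Matrix I I F, ∀ i' i, α i' i = G (i', j₀) (i, j₀) :=
    ⟨fun i' i => G (i', j₀) (i, j₀), fun _ _ => rfl⟩
  -- the action on `U ⊗ e_{j₀}`
  have hc : ∀ u : I → F, G *ᵥ pt u (Pi.single j₀ (1 : F)) =
      pt (α *ᵥ u) (Pi.single j₀ (1 : F)) := by
    intro u
    ext ⟨i', j'⟩
    rw [Matrix.mulVec, dotProduct, Fintype.sum_prod_type, pt_apply]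
    have h1 : ∀ i, ∑ j, G (i', j') (i, j) * pt u (Pi.single j₀ (1 : F)) (i, j) =
        G (i', j') (i, j₀) * u i := by
      intro i
      rw [Finset.sum_eq_single j₀]
      · rw [pt_apply, Pi.single_eq_same, mul_one]
      · intro j _ hj
        rw [pt_apply, Pi.single_eq_of_ne hj, mul_zero, mul_zero]
      · intro hh
        exact absurd (Finset.mem_univ _) hh
    rw [Finset.sum_congr rfl (fun i _ => h1 i)]
    by_cases hj' : j' = j₀
    · rw [hj', Pi.single_eq_same, mul_one, Matrix.mulVec, dotProduct]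
      apply Finset.sum_congr rfl
      intro i _
      rw [hα]
    · rw [Pi.single_eq_of_ne hj', mul_zero]
      apply Finset.sum_eq_zero
      intro i _
      rw [hS (i', j') (i, j₀) hj' rfl, zero_mul]
  -- `α` is invertible
  have hinj : Function.Injective α.mulVec := by
    intro u u' huu
    have h1 : G *ᵥ pt u (Pi.single j₀ (1 : F)) = G *ᵥ pt u' (Pi.single j₀ (1 : F)) := by
      rw [hc, hc, huu]
    have h2 := congrArg (fun v => G' *ᵥ v) h1
    simp only [Matrix.mulVec_mulVec, hG'G, Matrix.one_mulVec] at h2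
    exact pt_left_injective (single_ne_zero' j₀) h2
  obtain ⟨a, ha⟩ := Matrix.mulVec_injective_iff_isUnit.mp hinj
  have hc' : ∀ u : I → F, G' *ᵥ pt u (Pi.single j₀ (1 : F)) =
      pt (((a⁻¹ : (Matrix I I F)ˣ) : Matrix I I F) *ᵥ u) (Pi.single j₀ (1 : F)) := by
    intro u
    have h1 := hc (((a⁻¹ : (Matrix I I F)ˣ) : Matrix I I F) *ᵥ u)
    rw [Matrix.mulVec_mulVec, ← ha, ← Units.val_mul, mul_inv_cancel, Units.val_one,
      Matrix.one_mulVec] at h1
    rw [← h1, Matrix.mulVec_mulVec, hG'G, Matrix.one_mulVec]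
  have hS' : StabM j₀ G' := stabM_of_map j₀ G' (fun u => ⟨_, hc' u⟩)
  -- the conjugates of the root elements
  have he : ∀ k : J, k ≠ j₀ → (Pi.single k (1 : F) : J → F) ⬝ᵥ (Pi.single j₀ (1 : F)) = 0 := by
    intro k hk
    rw [single_dotProduct, one_mul, Pi.single_eq_of_ne hk]
  have hy : ∀ (k : J) (hk : k ≠ j₀), ∃ (γ : J → F) (hγ : γ ⬝ᵥ Pi.single j₀ (1 : F) = 0),
      g * xw (Pi.single j₀ (1 : F)) (Pi.single k (1 : F)) (he k hk) * g⁻¹ =
        xw (Pi.single j₀ (1 : F)) γ hγ := by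
    intro k hk
    apply QS_eq_xw H hM hI hJ hex hnot j₀ _
      (H.mul_mem (H.mul_mem hg (hM (xw_mem _ _ _))) (H.inv_mem hg))
    have e : ((g * xw (Pi.single j₀ (1 : F)) (Pi.single k (1 : F)) (he k hk) * g⁻¹ :
        GL (I × J) F) : Matrix (I × J) (I × J) F) - 1 =
        G * ((1 : Matrix I I F) ⊗ₖ vecMulVec (Pi.single j₀ (1 : F)) (Pi.single k (1 : F))) *
          G' := by
      rw [Units.val_mul, Units.val_mul, ← hG, ← hG']
      unfold xw
      rw [kr_val, Units.val_one, tv_val, Matrix.kronecker_add, one_kronecker_one, mul_add,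
        add_mul, mul_one, hGG']
      abel
    rw [e]
    exact QS.mul_right (QS.mul_left hS (QS_one_kron_vv j₀ _ (Pi.single_eq_of_ne' hk _))) hS'
  choose γ hγ hyk using hy
  have hE2 : ∀ (k : J) (hk : k ≠ j₀) (i' i : I) (j : J),
      α i' i * (Pi.single k (1 : F) : J → F) j = ∑ b, γ k hk b * G (i', b) (i, j) := by
    intro k hk i' i j
    have h1 : g * xw (Pi.single j₀ (1 : F)) (Pi.single k (1 : F)) (he k hk) =
        xw (Pi.single j₀ (1 : F)) (γ k hk) (hγ k hk) * g := by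
      rw [← hyk k hk]
      group
    have h2 := congrArg (fun x : GL (I × J) F => (x : Matrix (I × J) (I × J) F)) h1
    simp only [Units.val_mul] at h2
    unfold xw at h2
    rw [kr_val, kr_val, Units.val_one, tv_val, tv_val, Matrix.kronecker_add,
      Matrix.kronecker_add, one_kronecker_one, mul_add, add_mul, mul_one, one_mul, ← hG] at h2
    have h3 := add_left_cancel h2
    have h4 := congrFun (congrFun h3 (i', j₀)) (i, j)
    rw [mul_one_kron_apply, one_kron_mul_apply] at h4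
    have h5 : ∑ b, G (i', j₀) (i, b) *
        vecMulVec (Pi.single j₀ (1 : F)) (Pi.single k (1 : F)) b j =
        α i' i * (Pi.single k (1 : F) : J → F) j := by
      rw [Finset.sum_eq_single j₀]
      · rw [vecMulVec_apply, Pi.single_eq_same, one_mul, hα]
      · intro b _ hb
        rw [vecMulVec_apply, Pi.single_eq_of_ne hb, zero_mul, mul_zero]
      · intro hh
        exact absurd (Finset.mem_univ _) hh
    rw [h5] at h4
    rw [h4]
    apply Finset.sum_congr rfl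
    intro b _
    rw [vecMulVec_apply, Pi.single_eq_same, one_mul]
  -- the matrix `C`
  obtain ⟨C, hCk, hC0⟩ : ∃ C : Matrix J J F, (∀ (k : J) (hk : k ≠ j₀) (b : J), C k b = γ k hk b) ∧
      (∀ b : J, C j₀ b = if b = j₀ then 1 else 0) := by
    refine ⟨fun k b => if hk : k = j₀ then (if b = j₀ then 1 else 0) else γ k hk b, ?_, ?_⟩
    · intro k hk b
      simp only [dif_neg hk]
    · intro b
      simp
  obtain ⟨R, hR⟩ : ∃ R : Matrix (I × J) (I × J) F, R = ((1 : Matrix I I F) ⊗ₖ C) * G := ⟨_, rfl⟩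
  have hRk : ∀ (k : J) (hk : k ≠ j₀) (i' i : I) (j : J),
      R (i', k) (i, j) = (α ⊗ₖ (1 : Matrix J J F)) (i', k) (i, j) := by
    intro k hk i' i j
    rw [hR, one_kron_mul_apply, kronecker_apply]
    rw [Finset.sum_congr rfl (fun b _ => by rw [hCk k hk b])]
    rw [← hE2 k hk i' i j, Matrix.one_apply, Pi.single_apply]
    by_cases h : j = k
    · rw [if_pos h, if_pos h.symm]
    · rw [if_neg h, if_neg (fun hh => h hh.symm)]
  have hR0 : ∀ (i' i : I) (j : J), R (i', j₀) (i, j) = G (i', j₀) (i, j) := by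
    intro i' i j
    rw [hR, one_kron_mul_apply, Finset.sum_eq_single j₀]
    · rw [hC0, if_pos rfl, one_mul]
    · intro b _ hb
      rw [hC0, if_neg hb, zero_mul]
    · intro hh
      exact absurd (Finset.mem_univ _) hh
  obtain ⟨Zt, hZt⟩ : ∃ Zt : Matrix (I × J) (I × J) F, Zt = R - α ⊗ₖ (1 : Matrix J J F) := ⟨_, rfl⟩
  have hZtQ : QS j₀ Zt := by
    rintro ⟨i', k⟩ ⟨i, j⟩ hne
    rw [hZt, Matrix.sub_apply] at hne
    by_cases hk : k = j₀
    · refine ⟨hk, ?_⟩
      intro hj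
      have hj' : j = j₀ := hj
      apply hne
      rw [hk, hj', hR0, kronecker_apply, Matrix.one_apply_eq, mul_one, hα, sub_self]
    · exfalso
      apply hne
      rw [hRk k hk, sub_self]
  obtain ⟨Zt', hZt'⟩ : ∃ Zt' : Matrix (I × J) (I × J) F,
    Zt' = (((a⁻¹ : (Matrix I I F)ˣ) : Matrix I I F) ⊗ₖ (1 : Matrix J J F)) * Zt := ⟨_, rfl⟩
  have hZt'Q : QS j₀ Zt' := by
    rw [hZt']
    exact QS.mul_left (StabM_kron_one j₀ _) hZtQ
  have hRfac : R = (α ⊗ₖ (1 : Matrix J J F)) * (1 + Zt') := by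
    rw [hZt', mul_add, mul_one, ← mul_assoc, ← mul_kronecker_mul, mul_one, ← ha, ← Units.val_mul,
      mul_inv_cancel, Units.val_one, one_kronecker_one, one_mul, hZt, ha]
    abel
  have hdetα : α.det ≠ 0 := by
    rw [← ha]
    exact ((Matrix.isUnit_iff_isUnit_det _).mp a.isUnit).ne_zero
  have hdetR : R.det ≠ 0 := by
    rw [hRfac, det_mul, det_one_add_QS hZt'Q, mul_one, det_kronecker, det_one, one_pow, mul_one]
    exact pow_ne_zero _ hdetα
  have hcardI : Fintype.card I ≠ 0 := by omega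
  have hdetC : C.det ≠ 0 := by
    intro h0
    apply hdetR
    rw [hR, det_mul, det_kronecker, h0, det_one, one_pow, one_mul, zero_pow hcardI, zero_mul]
  obtain ⟨c, hcv⟩ : ∃ c : GL J F, (c : Matrix J J F) = C :=
    ⟨Matrix.GeneralLinearGroup.mkOfDetNeZero C hdetC, rfl⟩
  obtain ⟨m, hm⟩ : ∃ m : GL (I × J) F, m = kr a c⁻¹ := ⟨_, rfl⟩
  obtain ⟨q, hq⟩ : ∃ q : GL (I × J) F, q = m⁻¹ * g := ⟨_, rfl⟩
  have hqv : (q : Matrix (I × J) (I × J) F) = 1 + Zt' := by
    rw [hq, hm, kr_inv, inv_inv, Units.val_mul, kr_val, hcv, ← hG]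
    have h1 : ((a⁻¹ : (Matrix I I F)ˣ) : Matrix I I F) ⊗ₖ C =
        (((a⁻¹ : (Matrix I I F)ˣ) : Matrix I I F) ⊗ₖ (1 : Matrix J J F)) *
          ((1 : Matrix I I F) ⊗ₖ C) := by
      rw [← mul_kronecker_mul, mul_one, one_mul]
    rw [h1, mul_assoc, ← hR, hRfac, ← mul_assoc, ← mul_kronecker_mul, ← ha, ← Units.val_mul,
      inv_mul_cancel, Units.val_one, mul_one, one_kronecker_one, one_mul]
  have hqQ : QS j₀ ((q : Matrix (I × J) (I × J) F) - 1) := by
    rw [hqv, add_sub_cancel_left]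
    exact hZt'Q
  have hdq : (q : Matrix (I × J) (I × J) F).det = 1 := by
    rw [hqv]
    exact det_one_add_QS hZt'Q
  have hdg : (g : Matrix (I × J) (I × J) F).det = 1 := mem_SL.mp (hHS hg)
  have hmq : m * q = g := by
    rw [hq]
    group
  have hdm : (m : Matrix (I × J) (I × J) F).det = 1 := by
    have h2 := congrArg (fun x : GL (I × J) F => (x : Matrix (I × J) (I × J) F).det) hmq
    simp only [Units.val_mul, det_mul, hdq, mul_one, hdg] at h2
    exact h2
  have hmM : m ∈ krSL I J F := by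
    rw [hm]
    apply kr_mem_krSL
    rw [← det_kr, ← hm]
    exact hdm
  have hqH : q ∈ H := by
    rw [hq]
    exact H.mul_mem (H.inv_mem (hM hmM)) hg
  obtain ⟨φ, hφ, hqx⟩ := QS_eq_xw H hM hI hJ hex hnot j₀ q hqH hqQ
  rw [← hmq, hqx, hm]
  exact (krSub I J F).mul_mem (kr_mem _ _) (kr_mem _ _)

include hM in
/-- an element of `H` mapping `U ⊗ w` into `U ⊗ w'` is a Kronecker product -/
theorem map_mem_krSub (hHS : H ≤ Cfsg.Geo.specialLinear (I × J) F)
    (hI : 2 ≤ Fintype.card I) (hJ : 3 ≤ Fintype.card J)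
    (hex : 3 ≤ Fintype.card I ∨ ∃ s : F, s ≠ 0 ∧ s ≠ 1)
    (hnot : ¬ Cfsg.Geo.specialLinear (I × J) F ≤ H)
    (g : GL (I × J) F) (hg : g ∈ H) (w w' : J → F) (hw : w ≠ 0) (hw' : w' ≠ 0)
    (hmap : ∀ u : I → F, ∃ u' : I → F,
      (g : Matrix (I × J) (I × J) F) *ᵥ pt u w = pt u' w') :
    g ∈ krSub I J F := by
  have hJ2 : 2 ≤ Fintype.card J := by omega
  obtain ⟨j₀⟩ : Nonempty J := by
    rw [← Fintype.card_pos_iff]
    omega
  obtain ⟨β, hβd, hβ⟩ := exists_SL_map hJ2 j₀ w hw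
  obtain ⟨β', hβ'd, hβ'⟩ := exists_SL_map hJ2 j₀ w' hw'
  have hb : kr (1 : GL I F) β ∈ krSL I J F := kr_one_mem_krSL β hβd
  have hb' : kr (1 : GL I F) β' ∈ krSL I J F := kr_one_mem_krSL β' hβ'd
  have hg₁ : (kr (1 : GL I F) β')⁻¹ * g * kr (1 : GL I F) β ∈ H :=
    H.mul_mem (H.mul_mem (H.inv_mem (hM hb')) hg) (hM hb)
  have hst : ∀ u : I → F, ∃ u' : I → F,
      (((kr (1 : GL I F) β')⁻¹ * g * kr (1 : GL I F) β : GL (I × J) F) :
        Matrix (I × J) (I × J) F) *ᵥ pt u (Pi.single j₀ (1 : F)) =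
        pt u' (Pi.single j₀ (1 : F)) := by
    intro u
    obtain ⟨u', hu'⟩ := hmap u
    refine ⟨u', ?_⟩
    rw [Units.val_mul, Units.val_mul, ← Matrix.mulVec_mulVec, ← Matrix.mulVec_mulVec,
      kr_mulVec_pt, Units.val_one, Matrix.one_mulVec, hβ, hu', kr_inv, inv_one, kr_mulVec_pt,
      Units.val_one, Matrix.one_mulVec]
    congr 1
    rw [← hβ', Matrix.mulVec_mulVec, ← Units.val_mul, inv_mul_cancel, Units.val_one,
      Matrix.one_mulVec]
  have h1 := stab_mem_krSub H hM hHS hI hJ hex hnot j₀ _ hg₁ hst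
  have h2 : g = kr (1 : GL I F) β' * ((kr (1 : GL I F) β')⁻¹ * g * kr (1 : GL I F) β) *
      (kr (1 : GL I F) β)⁻¹ := by group
  rw [h2]
  exact (krSub I J F).mul_mem ((krSub I J F).mul_mem (kr_mem _ _) h1)
    ((krSub I J F).inv_mem (kr_mem _ _))

end L3

end Cfsg.Agent.Lib.Helper8.Tns
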