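import Mathlib
import Cfsg.Prelude
import Cfsg.Agent.Lib.Helper8.Tns6

set_option autoImplicit false
set_option linter.unusedVariables false
set_option linter.unusedSectionVars false
set_option linter.style.longLine false

/-! Tensor product subgroups (part 7): linear maps, small images, non-Kronecker conjugates. -/

namespace Cfsg.Agent.Lib.Helper8.Tns

open Matrix Module Cfsg.Agent.Lib.Helper8.Mono Cfsg.Agent.Lib.Helper8.Bmo
open scoped Kronecker

variable {I J : Type} [Fintype I] [DecidableEq I] [Fintype J] [DecidableEq J]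
  {F : Type*} [Field F]

/-- `u ↦ u ⊗ w` -/
def ptL (w : J → F) : (I → F) →ₗ[F] (I × J → F) where
  toFun u := pt u w
  map_add' u u' := pt_add_left u u' w
  map_smul' c u := pt_smul_left c u w

/-- `w ↦ u ⊗ w` -/
def ptR (u : I → F) : (J → F) →ₗ[F] (I × J → F) where
  toFun w := pt u w
  map_add' w w' := pt_add_right u w w'
  map_smul' c w := pt_smul_right c u w

@[simp] theorem ptL_apply (w : J → F) (u : I → F) : ptL w u = pt u w := rfl

@[simp] theorem ptR_apply (u : I → F) (w : J → F) : ptR u w = pt u w := rfl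

/-- `φ ↦ ctr φ v` -/
def ctrL (v : I × J → F) : (J → F) →ₗ[F] (I → F) where
  toFun φ := ctr φ v
  map_add' φ φ' := ctr_add_left φ φ' v
  map_smul' c φ := ctr_smul_left c φ v

@[simp] theorem ctrL_apply (v : I × J → F) (φ : J → F) : ctrL v φ = ctr φ v := rfl

/-- `φ ↦ φ ⬝ᵥ w` -/
def dotR (w : J → F) : (J → F) →ₗ[F] F where
  toFun φ := φ ⬝ᵥ w
  map_add' φ φ' := add_dotProduct φ φ' w
  map_smul' c φ := smul_dotProduct c φ w

@[simp] theorem dotR_apply (w φ : J → F) : dotR w φ = φ ⬝ᵥ w := rfl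

/-- the action of an invertible matrix as a linear equivalence -/
def gL {ι : Type} [Fintype ι] [DecidableEq ι] (g : GL ι F) : (ι → F) ≃ₗ[F] (ι → F) :=
  LinearEquiv.ofLinear (Matrix.mulVecLin (g : Matrix ι ι F))
    (Matrix.mulVecLin ((g⁻¹ : GL ι F) : Matrix ι ι F))
    (by
      apply LinearMap.ext
      intro v
      simp only [LinearMap.comp_apply, Matrix.mulVecLin_apply, LinearMap.id_apply,
        Matrix.mulVec_mulVec]
      rw [← Units.val_mul, mul_inv_cancel, Units.val_one, Matrix.one_mulVec])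
    (by
      apply LinearMap.ext
      intro v
      simp only [LinearMap.comp_apply, Matrix.mulVecLin_apply, LinearMap.id_apply,
        Matrix.mulVec_mulVec]
      rw [← Units.val_mul, inv_mul_cancel, Units.val_one, Matrix.one_mulVec])

@[simp] theorem gL_apply {ι : Type} [Fintype ι] [DecidableEq ι] (g : GL ι F) (v : ι → F) :
    gL g v = (g : Matrix ι ι F) *ᵥ v := rfl

theorem inv_mulVec_mulVec {ι : Type} [Fintype ι] [DecidableEq ι] (g : GL ι F) (v : ι → F) :
    ((g⁻¹ : GL ι F) : Matrix ι ι F) *ᵥ ((g : Matrix ι ι F) *ᵥ v) = v := by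
  rw [Matrix.mulVec_mulVec, ← Units.val_mul, inv_mul_cancel, Units.val_one, Matrix.one_mulVec]

theorem mulVec_inv_mulVec {ι : Type} [Fintype ι] [DecidableEq ι] (g : GL ι F) (v : ι → F) :
    (g : Matrix ι ι F) *ᵥ (((g⁻¹ : GL ι F) : Matrix ι ι F) *ᵥ v) = v := by
  rw [Matrix.mulVec_mulVec, ← Units.val_mul, mul_inv_cancel, Units.val_one, Matrix.one_mulVec]

/-- the subspace `U ⊗ w` -/
def Aw (w : J → F) : Submodule F (I × J → F) := LinearMap.range (ptL (I := I) w)

theorem mem_Aw {w : J → F} {v : I × J → F} : v ∈ Aw w ↔ ∃ u : I → F, pt u w = v :=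
  LinearMap.mem_range

/-- the subspace `h (U ⊗ w)` -/
def Bw (h : GL (I × J) F) (w : J → F) : Submodule F (I × J → F) :=
  (Aw w).map (gL h : (I × J → F) →ₗ[F] (I × J → F))

theorem mem_Bw {h : GL (I × J) F} {w : J → F} {v : I × J → F} :
    v ∈ Bw h w ↔ ∃ u : I → F, (h : Matrix (I × J) (I × J) F) *ᵥ pt u w = v := by
  unfold Bw
  rw [Submodule.mem_map]
  constructor
  · rintro ⟨y, hy, rfl⟩
    obtain ⟨u, rfl⟩ := mem_Aw.mp hy
    exact ⟨u, rfl⟩
  · rintro ⟨u, rfl⟩
    exact ⟨pt u w, mem_Aw.mpr ⟨u, rfl⟩, rfl⟩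

theorem finrank_Aw_le (w : J → F) : finrank F (Aw (I := I) w) ≤ Fintype.card I := by
  unfold Aw
  have := LinearMap.finrank_range_le (ptL (I := I) w)
  rw [finrank_fintype_fun_eq_card] at this
  exact this

/-- a matrix all of whose vectors are eigenvectors is scalar -/
theorem scalar_of_forall_eigen (α : Matrix I I F) (h : ∀ u : I → F, ∃ c : F, α *ᵥ u = c • u) :
    ∃ c : F, α = c • (1 : Matrix I I F) := by
  have h1 : ∀ i : I, ∃ c : F, α *ᵥ Pi.single i 1 = c • Pi.single i 1 := fun i => h _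
  choose c hc using h1
  have hent : ∀ k i : I, α k i = c i * (if k = i then 1 else 0) := by
    intro k i
    have := congrFun (hc i) k
    rw [Matrix.mulVec_single_one, Matrix.col_apply, Pi.smul_apply, smul_eq_mul,
      Pi.single_apply] at this
    exact this
  have hcc : ∀ i j : I, c i = c j := by
    intro i j
    by_cases hij : i = j
    · rw [hij]
    · obtain ⟨d, hd⟩ := h (Pi.single i 1 + Pi.single j 1)
      rw [Matrix.mulVec_add, hc, hc] at hd
      have e1 := congrFun hd i
      have e2 := congrFun hd j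
      simp only [Pi.add_apply, Pi.smul_apply, smul_eq_mul, Pi.single_eq_same,
        Pi.single_eq_of_ne hij, Pi.single_eq_of_ne (Ne.symm hij), mul_one, mul_zero, add_zero,
        zero_add] at e1 e2
      rw [e1, e2]
  by_cases hne : Nonempty I
  · obtain ⟨i₀⟩ := hne
    refine ⟨c i₀, ?_⟩
    ext k i
    rw [hent, Matrix.smul_apply, Matrix.one_apply, smul_eq_mul, hcc i i₀]
  · refine ⟨0, ?_⟩
    ext k i
    exact absurd ⟨k⟩ hne

/-- a Kronecker product which is the identity modulo a small subspace has a scalar first factor -/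
theorem kr_scalar_of_small (α : GL I F) (β : GL J F) (S : Submodule F (I × J → F))
    (hS : finrank F S < Fintype.card J)
    (hyS : ∀ v : I × J → F,
      ((kr α β : GL (I × J) F) : Matrix (I × J) (I × J) F) *ᵥ v - v ∈ S) :
    ∃ c : F, (α : Matrix I I F) = c • (1 : Matrix I I F) := by
  apply scalar_of_forall_eigen
  intro u
  set f : (J → F) →ₗ[F] (I × J → F) :=
    ((gL (kr α β) : (I × J → F) →ₗ[F] (I × J → F)) - LinearMap.id) ∘ₗ ptR u with hf
  have hfS : ∀ w, f w ∈ S := by
    intro w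
    exact hyS (pt u w)
  have hker : LinearMap.ker (LinearMap.codRestrict S f hfS) ≠ ⊥ := by
    apply LinearMap.ker_ne_bot_of_finrank_lt
    rw [finrank_fintype_fun_eq_card]
    exact hS
  rw [LinearMap.ker_codRestrict] at hker
  obtain ⟨w, hwk, hw0⟩ := Submodule.exists_mem_ne_zero_of_ne_bot hker
  rw [LinearMap.mem_ker] at hwk
  have h1 : pt ((α : Matrix I I F) *ᵥ u) ((β : Matrix J J F) *ᵥ w) = pt u w := by
    have : f w = ((kr α β : GL (I × J) F) : Matrix (I × J) (I × J) F) *ᵥ pt u w - pt u w := rfl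
    rw [this, kr_mulVec_pt, sub_eq_zero] at hwk
    exact hwk
  have hβw : (β : Matrix J J F) *ᵥ w ≠ 0 := by
    intro h0
    apply hw0
    rw [← inv_mulVec_mulVec β w, h0, Matrix.mulVec_zero]
  obtain ⟨j, hj⟩ := Function.ne_iff.mp hβw
  rw [Pi.zero_apply] at hj
  refine ⟨w j / ((β : Matrix J J F) *ᵥ w) j, ?_⟩
  ext i
  have := congrFun h1 (i, j)
  rw [pt_apply, pt_apply] at this
  rw [Pi.smul_apply, smul_eq_mul]
  field_simp
  rw [this]
  ring

end Cfsg.Agent.Lib.Helper8.Tns
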