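import Mathlib
import Cfsg.Prelude
import Cfsg.Agent.Lib.Helper8.Tns7

set_option autoImplicit false
set_option linter.unusedVariables false
set_option linter.unusedSectionVars false
set_option linter.style.longLine false

/-! Tensor product subgroups (part 8): the maximal intersection argument and the main theorem in
coordinates. -/

namespace Cfsg.Agent.Lib.Helper8.Tns

open Matrix Module Cfsg.Agent.Lib.Helper8.Mono Cfsg.Agent.Lib.Helper8.Bmo
open scoped Kronecker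

variable {I J : Type} [Fintype I] [DecidableEq I] [Fintype J] [DecidableEq J]
  {F : Type*} [Field F]

theorem ctr_eq_zero_all {φ : J → F} (hI : Nonempty I) (h : ∀ v : I × J → F, ctr φ v = 0) :
    φ = 0 := by
  obtain ⟨i₀⟩ := hI
  ext j
  have := congrFun (h (pt (Pi.single i₀ 1) (Pi.single j 1))) i₀
  rw [ctr_pt, dotProduct_single, mul_one, Pi.smul_apply, Pi.single_eq_same, smul_eq_mul, mul_one,
    Pi.zero_apply] at this
  rw [this, Pi.zero_apply]

theorem xw_ne_one (hI : Nonempty I) (w φ : J → F) (h : φ ⬝ᵥ w = 0) (hφ : φ ≠ 0) (hw : w ≠ 0) :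
    (xw w φ h : GL (I × J) F) ≠ 1 := by
  intro h1
  apply hφ
  apply ctr_eq_zero_all hI
  intro v
  have h2 := xw_mulVec (I := I) w φ h v
  rw [h1, Units.val_one, Matrix.one_mulVec] at h2
  have h3 : pt (ctr φ v) w = pt (0 : I → F) w := by
    rw [pt_zero_left]
    have := congrArg (fun z => z - v) h2
    simp only [sub_self, add_sub_cancel_left] at this
    exact this.symm
  exact pt_left_injective hw h3

theorem eq_one_of_fix_pt (y : GL (I × J) F)
    (h : ∀ (u : I → F) (w : J → F), (y : Matrix (I × J) (I × J) F) *ᵥ pt u w = pt u w) :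
    y = 1 := by
  apply Units.ext
  rw [Units.val_one]
  ext p' ⟨i, j⟩
  have := congrFun (h (Pi.single i 1) (Pi.single j 1)) p'
  rw [pt_single_single, mul_one, Matrix.mulVec_single_one, Matrix.col_apply] at this
  rw [this, Matrix.one_apply, Pi.single_apply]

section main

variable (H : Subgroup (GL (I × J) F)) (hM : krSL I J F ≤ H)

include hM in
/-- conjugates of root elements by elements outside the Kronecker group are outside it -/
theorem conj_not_mem_krSub (hHS : H ≤ Cfsg.Geo.specialLinear (I × J) F)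
    (hI : 2 ≤ Fintype.card I) (hJ : 3 ≤ Fintype.card J)
    (hex : 3 ≤ Fintype.card I ∨ ∃ s : F, s ≠ 0 ∧ s ≠ 1)
    (hnot : ¬ Cfsg.Geo.specialLinear (I × J) F ≤ H)
    (hIJ : Fintype.card I < Fintype.card J)
    (h : GL (I × J) F) (hh : h ∈ H) (hnk : h ∉ krSub I J F)
    (w₀ φ : J → F) (hφw : φ ⬝ᵥ w₀ = 0) (hφ : φ ≠ 0) (hw₀ : w₀ ≠ 0) :
    h⁻¹ * xw w₀ φ hφw * h ∉ krSub I J F := by
  intro hmem
  obtain ⟨α, β, hy⟩ := mem_krSub.mp hmem
  have hIne : Nonempty I := by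
    rw [← Fintype.card_pos_iff]
    omega
  have hyv : ∀ v : I × J → F,
      ((kr α β : GL (I × J) F) : Matrix (I × J) (I × J) F) *ᵥ v - v =
        ((h⁻¹ : GL (I × J) F) : Matrix (I × J) (I × J) F) *ᵥ
          pt (ctr φ ((h : Matrix (I × J) (I × J) F) *ᵥ v)) w₀ := by
    intro v
    rw [← hy, Units.val_mul, Units.val_mul, ← Matrix.mulVec_mulVec, ← Matrix.mulVec_mulVec,
      xw_mulVec, Matrix.mulVec_add, inv_mulVec_mulVec, add_sub_cancel_left]
  have hS : finrank F (Bw (h⁻¹ : GL (I × J) F) w₀) < Fintype.card J := by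
    unfold Bw
    rw [LinearEquiv.finrank_map_eq]
    exact lt_of_le_of_lt (finrank_Aw_le w₀) hIJ
  obtain ⟨c, hc⟩ := kr_scalar_of_small α β (Bw (h⁻¹ : GL (I × J) F) w₀) hS (fun v => by
    rw [hyv]
    exact mem_Bw.mpr ⟨_, rfl⟩)
  have hyp : ∀ (u : I → F) (w : J → F),
      ((kr α β : GL (I × J) F) : Matrix (I × J) (I × J) F) *ᵥ pt u w =
        pt u (c • ((β : Matrix J J F) *ᵥ w)) := by
    intro u w
    rw [kr_mulVec_pt, hc, Matrix.smul_mulVec, Matrix.one_mulVec, pt_smul_left, pt_smul_right]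
  have hex1 : ∃ w₁ : J → F, c • ((β : Matrix J J F) *ᵥ w₁) - w₁ ≠ 0 := by
    by_contra hcon
    push Not at hcon
    have h1 : kr α β = 1 := by
      apply eq_one_of_fix_pt
      intro u w
      rw [hyp, sub_eq_zero.mp (hcon w)]
    rw [h1] at hy
    have h2 : (xw w₀ φ hφw : GL (I × J) F) = 1 := by
      have : (xw w₀ φ hφw : GL (I × J) F) = h * (h⁻¹ * xw w₀ φ hφw * h) * h⁻¹ := by group
      rw [this, hy]
      group
    exact xw_ne_one hIne w₀ φ hφw hφ hw₀ h2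
  obtain ⟨w₁, hw₁⟩ := hex1
  apply hnk
  apply map_mem_krSub H hM hHS hI hJ hex hnot h hh _ w₀ hw₁ hw₀
  intro u
  refine ⟨ctr φ ((h : Matrix (I × J) (I × J) F) *ᵥ pt u w₁), ?_⟩
  have h3 := hyv (pt u w₁)
  rw [hyp, ← pt_sub_right] at h3
  rw [h3, mulVec_inv_mulVec]

include hM in
/-- there is a cross pair with non-trivial intersection -/
theorem exists_cross_ne_bot (hHS : H ≤ Cfsg.Geo.specialLinear (I × J) F)
    (hI : 2 ≤ Fintype.card I) (hJ : 3 ≤ Fintype.card J)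
    (hex : 3 ≤ Fintype.card I ∨ ∃ s : F, s ≠ 0 ∧ s ≠ 1)
    (hnot : ¬ Cfsg.Geo.specialLinear (I × J) F ≤ H)
    (hIJ : Fintype.card I < Fintype.card J)
    (h : GL (I × J) F) (hh : h ∈ H) (hnk : h ∉ krSub I J F) :
    ∃ (h₂ : GL (I × J) F) (w' : J → F), h₂ ∈ H ∧ h₂ ∉ krSub I J F ∧ w' ≠ 0 ∧
      Aw (I := I) w' ⊓ Bw h₂ w' ≠ ⊥ := by
  obtain ⟨i₀⟩ : Nonempty I := by
    rw [← Fintype.card_pos_iff]
    omega
  obtain ⟨j₀⟩ : Nonempty J := by
    rw [← Fintype.card_pos_iff]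
    omega
  have hu : (Pi.single i₀ (1 : F) : I → F) ≠ 0 := single_ne_zero' i₀
  have hw' : (Pi.single j₀ (1 : F) : J → F) ≠ 0 := single_ne_zero' j₀
  obtain ⟨v, hv⟩ : ∃ v : I × J → F, v = (h : Matrix (I × J) (I × J) F) *ᵥ
    pt (Pi.single i₀ (1 : F)) (Pi.single j₀ (1 : F)) := ⟨_, rfl⟩
  have hker : LinearMap.ker (ctrL v) ≠ ⊥ := by
    apply LinearMap.ker_ne_bot_of_finrank_lt
    rw [finrank_fintype_fun_eq_card, finrank_fintype_fun_eq_card]
    exact hIJ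
  obtain ⟨φ, hφk, hφ0⟩ := Submodule.exists_mem_ne_zero_of_ne_bot hker
  rw [LinearMap.mem_ker, ctrL_apply] at hφk
  have hker2 : LinearMap.ker (dotR φ) ≠ ⊥ := by
    apply LinearMap.ker_ne_bot_of_finrank_lt
    rw [finrank_fintype_fun_eq_card, finrank_self]
    omega
  obtain ⟨w₀, hw₀k, hw₀0⟩ := Submodule.exists_mem_ne_zero_of_ne_bot hker2
  rw [LinearMap.mem_ker, dotR_apply, dotProduct_comm] at hw₀k
  have hfix : ((h⁻¹ * xw w₀ φ hw₀k * h : GL (I × J) F) : Matrix (I × J) (I × J) F) *ᵥ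
      pt (Pi.single i₀ (1 : F)) (Pi.single j₀ (1 : F)) =
      pt (Pi.single i₀ (1 : F)) (Pi.single j₀ (1 : F)) := by
    rw [Units.val_mul, Units.val_mul, ← Matrix.mulVec_mulVec, ← Matrix.mulVec_mulVec, ← hv,
      xw_mulVec, hφk, pt_zero_left, add_zero, hv, inv_mulVec_mulVec]
  refine ⟨h⁻¹ * xw w₀ φ hw₀k * h, Pi.single j₀ 1,
    H.mul_mem (H.mul_mem (H.inv_mem hh) (hM (xw_mem _ _ _))) hh,
    conj_not_mem_krSub H hM hHS hI hJ hex hnot hIJ h hh hnk w₀ φ hw₀k hφ0 hw₀0, hw', ?_⟩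
  rw [Submodule.ne_bot_iff]
  exact ⟨pt (Pi.single i₀ 1) (Pi.single j₀ 1),
    ⟨mem_Aw.mpr ⟨_, rfl⟩, mem_Bw.mpr ⟨_, hfix⟩⟩, pt_ne_zero hu hw'⟩

include hM in
/-- a cross pair with non-trivial intersection can be improved -/
theorem cross_increase (hHS : H ≤ Cfsg.Geo.specialLinear (I × J) F)
    (hI : 2 ≤ Fintype.card I) (hJ : 3 ≤ Fintype.card J)
    (hex : 3 ≤ Fintype.card I ∨ ∃ s : F, s ≠ 0 ∧ s ≠ 1)
    (hnot : ¬ Cfsg.Geo.specialLinear (I × J) F ≤ H)
    (hIJ : Fintype.card I < Fintype.card J)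
    (h : GL (I × J) F) (hh : h ∈ H) (hnk : h ∉ krSub I J F)
    (w w' : J → F) (hw : w ≠ 0) (hw' : w' ≠ 0) (hD : Aw (I := I) w ⊓ Bw h w' ≠ ⊥) :
    ∃ h₂ : GL (I × J) F, h₂ ∈ H ∧ h₂ ∉ krSub I J F ∧
      finrank F ↥(Aw (I := I) w ⊓ Bw h w') < finrank F ↥(Aw (I := I) w' ⊓ Bw h₂ w') := by
  have h1 : ∃ u₀ : I → F, (h : Matrix (I × J) (I × J) F) *ᵥ pt u₀ w' ∉ Aw (I := I) w := by
    by_contra hcon
    push Not at hcon
    apply hnk
    apply map_mem_krSub H hM hHS hI hJ hex hnot h hh w' w hw' hw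
    intro u
    obtain ⟨u', hu'⟩ := mem_Aw.mp (hcon u)
    exact ⟨u', hu'.symm⟩
  obtain ⟨u₀, hv₀⟩ := h1
  obtain ⟨v₀, hv₀def⟩ : ∃ v₀ : I × J → F, v₀ = (h : Matrix (I × J) (I × J) F) *ᵥ pt u₀ w' :=
    ⟨_, rfl⟩
  rw [← hv₀def] at hv₀
  obtain ⟨DU, hDU⟩ : ∃ DU : Submodule F (I → F), DU = (Bw h w').comap (ptL w) := ⟨_, rfl⟩
  have hDUne : DU ≠ ⊥ := by
    obtain ⟨v, hvD, hv0⟩ := Submodule.exists_mem_ne_zero_of_ne_bot hD
    obtain ⟨u, rfl⟩ := mem_Aw.mp hvD.1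
    rw [Submodule.ne_bot_iff]
    refine ⟨u, ?_, ?_⟩
    · rw [hDU]
      exact hvD.2
    · intro hu0
      apply hv0
      rw [hu0, pt_zero_left]
  have hker : LinearMap.ker ((dotR w).prod (DU.mkQ ∘ₗ ctrL v₀)) ≠ ⊥ := by
    apply LinearMap.ker_ne_bot_of_finrank_lt
    rw [finrank_prod, finrank_self, finrank_fintype_fun_eq_card]
    have e1 := Submodule.finrank_quotient_add_finrank DU
    rw [finrank_fintype_fun_eq_card] at e1
    have e2 : 1 ≤ finrank F DU := Submodule.one_le_finrank_iff.mpr hDUne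
    omega
  obtain ⟨φ, hφk, hφ0⟩ := Submodule.exists_mem_ne_zero_of_ne_bot hker
  rw [LinearMap.mem_ker] at hφk
  have hφw : dotR w φ = 0 := congrArg Prod.fst hφk
  have hφq : (DU.mkQ ∘ₗ ctrL v₀) φ = 0 := congrArg Prod.snd hφk
  rw [dotR_apply] at hφw
  rw [LinearMap.comp_apply, Submodule.mkQ_apply, Submodule.Quotient.mk_eq_zero, ctrL_apply,
    hDU] at hφq
  have hφq' : pt (ctr φ v₀) w ∈ Bw h w' := hφq
  obtain ⟨u₂, hu₂⟩ := mem_Bw.mp hφq'
  have hxv₀ : ((xw w φ hφw : GL (I × J) F) : Matrix (I × J) (I × J) F) *ᵥ v₀ =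
      (h : Matrix (I × J) (I × J) F) *ᵥ pt (u₀ + u₂) w' := by
    rw [xw_mulVec, pt_add_left, Matrix.mulVec_add, hu₂, hv₀def]
  refine ⟨h⁻¹ * xw w φ hφw * h, H.mul_mem (H.mul_mem (H.inv_mem hh) (hM (xw_mem _ _ _))) hh,
    conj_not_mem_krSub H hM hHS hI hJ hex hnot hIJ h hh hnk w φ hφw hφ0 hw, ?_⟩
  have hlt : Aw (I := I) w ⊓ Bw h w' <
      (Aw (I := I) w' ⊓ Bw (h⁻¹ * xw w φ hφw * h) w').map
        (gL h : (I × J → F) →ₗ[F] (I × J → F)) := by
    rw [SetLike.lt_iff_le_and_exists]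
    constructor
    · intro v hv
      obtain ⟨u, rfl⟩ := mem_Aw.mp hv.1
      obtain ⟨u', hu'⟩ := mem_Bw.mp hv.2
      rw [Submodule.mem_map]
      refine ⟨pt u' w', ⟨mem_Aw.mpr ⟨u', rfl⟩, mem_Bw.mpr ⟨u', ?_⟩⟩, hu'⟩
      rw [Units.val_mul, Units.val_mul, ← Matrix.mulVec_mulVec, ← Matrix.mulVec_mulVec, hu',
        xw_mulVec_pt, ← hu', inv_mulVec_mulVec]
    · refine ⟨((xw w φ hφw : GL (I × J) F) : Matrix (I × J) (I × J) F) *ᵥ v₀, ?_, ?_⟩
      · rw [Submodule.mem_map]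
        refine ⟨pt (u₀ + u₂) w', ⟨mem_Aw.mpr ⟨_, rfl⟩, mem_Bw.mpr ⟨u₀, ?_⟩⟩, hxv₀.symm⟩
        rw [Units.val_mul, Units.val_mul, ← Matrix.mulVec_mulVec, ← Matrix.mulVec_mulVec,
          ← hv₀def, hxv₀, inv_mulVec_mulVec]
      · intro hmem
        apply hv₀
        have e : v₀ = ((xw w φ hφw : GL (I × J) F) : Matrix (I × J) (I × J) F) *ᵥ v₀ -
            pt (ctr φ v₀) w := by
          rw [xw_mulVec]
          abel
        rw [e]
        exact (Aw w).sub_mem hmem.1 (mem_Aw.mpr ⟨_, rfl⟩)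
  have h5 := Submodule.finrank_lt_finrank_of_lt hlt
  rwa [LinearEquiv.finrank_map_eq] at h5

include hM in
/-- the main step: an overgroup of the Kronecker group inside `SL` which does not contain `SL`
lies in the Kronecker group -/
theorem le_krSub (hHS : H ≤ Cfsg.Geo.specialLinear (I × J) F)
    (hI : 2 ≤ Fintype.card I) (hJ : 3 ≤ Fintype.card J)
    (hex : 3 ≤ Fintype.card I ∨ ∃ s : F, s ≠ 0 ∧ s ≠ 1)
    (hnot : ¬ Cfsg.Geo.specialLinear (I × J) F ≤ H)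
    (hIJ : Fintype.card I < Fintype.card J) : H ≤ krSub I J F := by
  intro h hh
  by_contra hnk
  have Q : ∀ d : ℕ, ∃ (h₂ : GL (I × J) F) (w w' : J → F), h₂ ∈ H ∧ h₂ ∉ krSub I J F ∧ w ≠ 0 ∧
      w' ≠ 0 ∧ d + 1 ≤ finrank F ↥(Aw (I := I) w ⊓ Bw h₂ w') := by
    intro d
    induction d with
    | zero =>
      obtain ⟨h₂, w', hh₂, hnk₂, hw', hne⟩ :=
        exists_cross_ne_bot H hM hHS hI hJ hex hnot hIJ h hh hnk
      exact ⟨h₂, w', w', hh₂, hnk₂, hw', hw', Submodule.one_le_finrank_iff.mpr hne⟩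
    | succ d ih =>
      obtain ⟨h₂, w, w', hh₂, hnk₂, hw, hw', hd⟩ := ih
      have hne : Aw (I := I) w ⊓ Bw h₂ w' ≠ ⊥ := Submodule.one_le_finrank_iff.mp (by omega)
      obtain ⟨h₃, hh₃, hnk₃, hlt⟩ :=
        cross_increase H hM hHS hI hJ hex hnot hIJ h₂ hh₂ hnk₂ w w' hw hw' hne
      exact ⟨h₃, w', w', hh₃, hnk₃, hw', hw', by omega⟩
  obtain ⟨h₂, w, w', _, _, _, _, hd⟩ := Q (Fintype.card I)
  have e1 := Submodule.finrank_mono (inf_le_left : Aw (I := I) w ⊓ Bw h₂ w' ≤ Aw w)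
  have e2 := finrank_Aw_le (I := I) w
  omega

end main

/-- an elementary transvection of mixed type is not a Kronecker product -/
theorem etv_not_mem_krSub (i i' : I) (hi : i ≠ i') (j j' : J) (hj : j ≠ j')
    (hne : ((i, j) : I × J) ≠ (i', j')) : etv ((i, j) : I × J) (i', j') hne (1 : F) ∉ krSub I J F := by
  intro hmem
  obtain ⟨α, β, hy⟩ := mem_krSub.mp hmem
  have hy' := congrArg (fun x : GL (I × J) F => (x : Matrix (I × J) (I × J) F)) hy
  simp only [etv_val, kr_val, Matrix.transvection] at hy'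
  have e1 := congrFun (congrFun hy' (i, j)) (i', j')
  have e2 := congrFun (congrFun hy' (i, j')) (i', j')
  have e3 := congrFun (congrFun hy' (i', j')) (i', j')
  rw [Matrix.add_apply, kronecker_apply, Matrix.one_apply_ne hne, Matrix.single_apply_same,
    zero_add] at e1
  have hne2 : ((i, j') : I × J) ≠ (i', j') := fun e => hi (congrArg Prod.fst e)
  have hne3 : ((i, j) : I × J) ≠ (i, j') := fun e => hj (congrArg Prod.snd e)
  rw [Matrix.add_apply, kronecker_apply, Matrix.one_apply_ne hne2,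
    Matrix.single_apply_of_row_ne hne3, zero_add] at e2
  rw [Matrix.add_apply, kronecker_apply, Matrix.one_apply_eq,
    Matrix.single_apply_of_row_ne hne, add_zero] at e3
  have h1 : (α : Matrix I I F) i i' ≠ 0 := by
    intro h0
    rw [h0, zero_mul] at e1
    exact one_ne_zero e1
  have h2 : (β : Matrix J J F) j' j' = 0 := by
    rcases mul_eq_zero.mp e2.symm with h | h
    · exact absurd h h1
    · exact h
  rw [h2, mul_zero] at e3
  exact one_ne_zero e3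

/-- the Kronecker group of determinant one is maximal in `SL` -/
theorem krSL_isMaximalIn (hI : 2 ≤ Fintype.card I) (hIJ : Fintype.card I < Fintype.card J)
    (hex : 3 ≤ Fintype.card I ∨ ∃ s : F, s ≠ 0 ∧ s ≠ 1) :
    Cfsg.Geo.IsMaximalIn (Cfsg.Geo.specialLinear (I × J) F) (krSL I J F) := by
  have hJ : 3 ≤ Fintype.card J := by omega
  refine ⟨lt_of_le_of_ne inf_le_right ?_, ?_⟩
  · intro heq
    obtain ⟨i⟩ : Nonempty I := by
      rw [← Fintype.card_pos_iff]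
      omega
    obtain ⟨j⟩ : Nonempty J := by
      rw [← Fintype.card_pos_iff]
      omega
    obtain ⟨i', hi'⟩ := exists_ne_one hI i
    obtain ⟨j', hj'⟩ := exists_ne_one (by omega : 2 ≤ Fintype.card J) j
    have hne : ((i, j) : I × J) ≠ (i', j') := fun e => hi' (congrArg Prod.fst e).symm
    have h1 : etv ((i, j) : I × J) (i', j') hne (1 : F) ∈ Cfsg.Geo.specialLinear (I × J) F :=
      mem_SL.mpr (det_etv' _ _ hne 1)
    rw [← heq] at h1
    exact etv_not_mem_krSub i i' (Ne.symm hi') j j' (Ne.symm hj') hne h1.1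
  · intro M hHM hMK
    by_cases hSL : Cfsg.Geo.specialLinear (I × J) F ≤ M
    · exact Or.inr (le_antisymm hMK hSL)
    · left
      apply le_antisymm _ hHM
      exact le_inf (le_krSub M hHM hMK hI hJ hex hSL hIJ) hMK

end Cfsg.Agent.Lib.Helper8.Tns
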