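import Mathlib
import Cfsg.Prelude
import Cfsg.Agent.Lib.Helper8.Tns8

set_option autoImplicit false
set_option linter.unusedVariables false
set_option linter.unusedSectionVars false
set_option linter.style.longLine false

/-! Tensor product subgroups (part 9): transport to the statement. -/

namespace Cfsg.Agent.Lib.Helper8.Tns

open Matrix Cfsg.Agent.Lib.Helper8.Mono Cfsg.Agent.Lib.Helper8.Bmo
open scoped Kronecker

/-- transport of maximality along an isomorphism -/
theorem isMaximalIn_map {G G' : Type*} [Group G] [Group G'] (Θ : G ≃* G') {K H : Subgroup G}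
    (h : Cfsg.Geo.IsMaximalIn K H) :
    Cfsg.Geo.IsMaximalIn (K.map Θ.toMonoidHom) (H.map Θ.toMonoidHom) := by
  obtain ⟨hlt, hmax⟩ := h
  have hinj : Function.Injective Θ.toMonoidHom := Θ.injective
  refine ⟨?_, ?_⟩
  · rw [lt_iff_le_not_ge] at hlt ⊢
    exact ⟨Subgroup.map_mono hlt.1,
      fun hle => hlt.2 ((Subgroup.map_le_map_iff_of_injective hinj).mp hle)⟩
  · intro M' h1 h2
    have e : (M'.comap Θ.toMonoidHom).map Θ.toMonoidHom = M' :=
      Subgroup.map_comap_eq_self_of_surjective Θ.surjective M'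
    have h4 : M'.comap Θ.toMonoidHom ≤ K := by
      intro x hx
      obtain ⟨k, hk, hkx⟩ := h2 hx
      rw [← hinj hkx]
      exact hk
    rcases hmax (M'.comap Θ.toMonoidHom) (Subgroup.map_le_iff_le_comap.mp h1) h4 with h3 | h3
    · left
      rw [← e, h3]
    · right
      rw [← e, h3]

variable {F : Type*} [Field F]

theorem kroneckerSubgroup_eq (n₁ n₂ : ℕ) :
    Cfsg.Geo.kroneckerSubgroup n₁ n₂ F = krSub (Fin n₁) (Fin n₂) F := by
  ext g
  constructor
  · rintro ⟨a, b, h⟩
    exact ⟨a, b, Units.ext h⟩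
  · rintro ⟨a, b, rfl⟩
    exact ⟨a, b, rfl⟩

/-- the transport isomorphism -/
noncomputable def Theta {n n₁ n₂ : ℕ} (e : Fin n ≃ Fin n₁ × Fin n₂) (P : GL (Fin n) F) :
    GL (Fin n₁ × Fin n₂) F ≃* GL (Fin n) F :=
  (Cfsg.Geo.glReindex e.symm).trans (MulAut.conj P)

theorem Theta_val {n n₁ n₂ : ℕ} (e : Fin n ≃ Fin n₁ × Fin n₂) (P : GL (Fin n) F)
    (x : GL (Fin n₁ × Fin n₂) F) :
    ((Theta e P x : GL (Fin n) F) : Matrix (Fin n) (Fin n) F) =
      (P : Matrix (Fin n) (Fin n) F) *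
        (x : Matrix (Fin n₁ × Fin n₂) (Fin n₁ × Fin n₂) F).submatrix e e *
        ((P⁻¹ : GL (Fin n) F) : Matrix (Fin n) (Fin n) F) := rfl

theorem det_Theta {n n₁ n₂ : ℕ} (e : Fin n ≃ Fin n₁ × Fin n₂) (P : GL (Fin n) F)
    (x : GL (Fin n₁ × Fin n₂) F) :
    ((Theta e P x : GL (Fin n) F) : Matrix (Fin n) (Fin n) F).det =
      (x : Matrix (Fin n₁ × Fin n₂) (Fin n₁ × Fin n₂) F).det := by
  rw [Theta_val, det_mul, det_mul, Matrix.det_submatrix_equiv_self, mul_comm, ← mul_assoc,
    ← det_mul, ← Units.val_mul, inv_mul_cancel, Units.val_one, det_one, one_mul]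

theorem SL_map_Theta {n n₁ n₂ : ℕ} (e : Fin n ≃ Fin n₁ × Fin n₂) (P : GL (Fin n) F) :
    (Cfsg.Geo.specialLinear (Fin n₁ × Fin n₂) F).map (Theta e P).toMonoidHom =
      Cfsg.Geo.specialLinear (Fin n) F := by
  ext g
  rw [Subgroup.mem_map]
  constructor
  · rintro ⟨x, hx, rfl⟩
    rw [mem_SL] at hx ⊢
    show ((Theta e P x : GL (Fin n) F) : Matrix (Fin n) (Fin n) F).det = 1
    rw [det_Theta]
    exact hx
  · intro hg
    refine ⟨(Theta e P).symm g, ?_, (Theta e P).apply_symm_apply g⟩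
    rw [mem_SL] at hg ⊢
    rw [← det_Theta e P, MulEquiv.apply_symm_apply]
    exact hg

/-- the stabiliser of a tensor decomposition is maximal in `SL` -/
theorem tensor_maximal [Fintype F] (n n₁ n₂ : ℕ) (h1 : 2 ≤ n₁) (h12 : n₁ < n₂)
    (hex : ¬ (n₁ = 2 ∧ Fintype.card F = 2)) (e : Fin n ≃ Fin n₁ × Fin n₂) (P : GL (Fin n) F) :
    Cfsg.Geo.IsMaximalIn (Cfsg.Geo.specialLinear (Fin n) F)
      (Cfsg.Geo.tensorProductSubgroup n₁ n₂ e P ⊓ Cfsg.Geo.specialLinear (Fin n) F) := by
  have hex' : 3 ≤ Fintype.card (Fin n₁) ∨ ∃ s : F, s ≠ 0 ∧ s ≠ 1 := by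
    rw [Fintype.card_fin]
    by_cases h3 : 3 ≤ n₁
    · exact Or.inl h3
    · right
      have hn1 : n₁ = 2 := by omega
      have hF : Fintype.card F ≠ 2 := fun h => hex ⟨hn1, h⟩
      by_contra hcon
      push Not at hcon
      have hle : Fintype.card F ≤ 2 := by
        classical
        have hsub : (Finset.univ : Finset F) ⊆ {0, 1} := by
          intro s _
          by_cases hs : s = 0
          · rw [hs]
            simp
          · rw [hcon s hs]
            simp
        have h4 := Finset.card_le_card hsub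
        have h5 : ({0, 1} : Finset F).card ≤ 2 := Finset.card_le_two
        rw [Finset.card_univ] at h4
        omega
      have h2 : 1 < Fintype.card F := Fintype.one_lt_card
      omega
  have hmain := krSL_isMaximalIn (I := Fin n₁) (J := Fin n₂) (F := F)
    (by rw [Fintype.card_fin]; exact h1) (by rw [Fintype.card_fin, Fintype.card_fin]; exact h12)
    hex'
  have h2 := isMaximalIn_map (Theta e P) hmain
  rw [SL_map_Theta] at h2
  have h3 : (krSL (Fin n₁) (Fin n₂) F).map (Theta e P).toMonoidHom =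
      Cfsg.Geo.tensorProductSubgroup n₁ n₂ e P ⊓ Cfsg.Geo.specialLinear (Fin n) F := by
    unfold krSL
    rw [Subgroup.map_inf _ _ _ (Theta e P).injective, SL_map_Theta, ← kroneckerSubgroup_eq]
    congr 1
    unfold Cfsg.Geo.tensorProductSubgroup
    rw [Subgroup.map_map]
    rfl
  rw [h3] at h2
  exact h2

end Cfsg.Agent.Lib.Helper8.Tns
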