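import Mathlib
import Cfsg.Prelude
import Cfsg.Agent.Lib.Helper5.HermBridge
import Cfsg.Agent.Lib.Helper5.HermBasis
import Cfsg.Agent.Lib.Helper5.UnitaryFormTwo

set_option autoImplicit false
set_option linter.unusedSectionVars false
set_option linter.unusedVariables false
open Cfsg

/-! Unitary forms `IsUnitaryFormPow` as sesquilinear maps, standardisation, conjugation of
similarity groups. -/

namespace Cfsg.Agent.Lib.Helper8.Su

open Matrix Module
open Cfsg.Agent.Lib.Helper5 Cfsg.Agent.Lib.Helper5.UnitaryFormTwo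

variable {F : Type*} [Field F] [Fintype F] {q₀ : ℕ} (hF : Fintype.card F = q₀ ^ 2) {n : ℕ}
  {f : (Fin n → F) → (Fin n → F) → F} (hf : Cfsg.Geo.IsUnitaryFormPow q₀ f)

/-- the sesquilinear map `(x, y) ↦ f y x` of a unitary form -/
noncomputable def sesq : (Fin n → F) →ₛₗ[HermBridge.sigma hF] (Fin n → F) →ₗ[F] F :=
  LinearMap.mk₂'ₛₗ (HermBridge.sigma hF) (RingHom.id F) (fun x y => f y x)
    (fun x x' y => u_add_right hF hf y x x')
    (fun c x y => by rw [u_smul_right hf, HermBridge.sigma_apply, smul_eq_mul])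
    (fun x y y' => hf.add_left y y' x)
    (fun c x y => by rw [hf.smul_left, RingHom.id_apply, smul_eq_mul])

@[simp] theorem sesq_apply (x y : Fin n → F) : sesq hF hf x y = f y x := rfl

theorem sesq_isSymm : (sesq hF hf).IsSymm :=
  ⟨fun x y => by rw [sesq_apply, sesq_apply, HermBridge.sigma_apply]; exact (hf.herm x y).symm⟩

theorem sesq_nondegenerate : (sesq hF hf).Nondegenerate := by
  constructor
  · intro x hx
    by_contra hne
    obtain ⟨y, hy⟩ := (hf.nondegenerate x hne).1
    exact hy (hx y)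
  · intro y hy
    by_contra hne
    obtain ⟨x, hx⟩ := (hf.nondegenerate y hne).2
    exact hx (hy x)

include hF hf in
/-- an orthonormal basis indexed by `Fin n` -/
theorem exists_onb : ∃ b : Module.Basis (Fin n) F (Fin n → F),
    ∀ i j, f (b i) (b j) = if i = j then 1 else 0 := by
  obtain ⟨b, hb⟩ := HermBasis.exists_orthonormal_basis (HermBridge.sigma_ne_id hF)
    (HermBridge.sigma_sigma hF) (sesq hF hf) (sesq_isSymm hF hf) (sesq_nondegenerate hF hf)
  have hn : finrank F (Fin n → F) = n := Module.finrank_fin_fun F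
  refine ⟨b.reindex (finCongr hn), fun i j => ?_⟩
  rw [Module.Basis.reindex_apply, Module.Basis.reindex_apply]
  have := hb ((finCongr hn).symm j) ((finCongr hn).symm i)
  rw [sesq_apply] at this
  rw [this]
  simp [eq_comm]

include hF hf in
theorem f_sum_sum (u v : Fin n → F) (b : Fin n → (Fin n → F)) :
    f (∑ i, u i • b i) (∑ j, v j • b j) = ∑ i, ∑ j, u i * (v j) ^ q₀ * f (b i) (b j) := by
  rw [u_sum_left hf]
  refine Finset.sum_congr rfl fun i _ => ?_
  rw [u_sum_right hF hf]
  refine Finset.sum_congr rfl fun j _ => ?_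
  rw [hf.smul_left, u_smul_right hf]
  ring

include hF hf in
/-- every unitary form is equivalent to the standard one -/
theorem exists_std : ∃ T : GL (Fin n) F, ∀ u v : Fin n → F,
    f ((T : Matrix (Fin n) (Fin n) F) *ᵥ u) ((T : Matrix (Fin n) (Fin n) F) *ᵥ v) =
      hermForm n F q₀ u v := by
  classical
  obtain ⟨b, hb⟩ := exists_onb hF hf
  let e : (Fin n → F) ≃ₗ[F] (Fin n → F) := (Pi.basisFun F (Fin n)).equiv b (Equiv.refl _)
  have he : ∀ u : Fin n → F, e u = ∑ i, u i • b i := by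
    intro u
    conv_lhs => rw [← (Pi.basisFun F (Fin n)).sum_repr u]
    rw [map_sum]
    refine Finset.sum_congr rfl fun i _ => ?_
    rw [map_smul, Module.Basis.equiv_apply]
    simp
  let T : GL (Fin n) F := Matrix.GeneralLinearGroup.toLin.symm
    (LinearMap.GeneralLinearGroup.ofLinearEquiv e)
  have hT : ∀ u : Fin n → F, (T : Matrix (Fin n) (Fin n) F) *ᵥ u = e u := by
    intro u
    have h1 : Matrix.GeneralLinearGroup.toLin T = LinearMap.GeneralLinearGroup.ofLinearEquiv e :=
      MulEquiv.apply_symm_apply _ _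
    have h2 := congrArg (fun g : LinearMap.GeneralLinearGroup F (Fin n → F) =>
      (g : (Fin n → F) →ₗ[F] (Fin n → F)) u) h1
    simpa using h2
  refine ⟨T, fun u v => ?_⟩
  rw [hT, hT, he, he, f_sum_sum hF hf]
  unfold hermForm
  refine Finset.sum_congr rfl fun i _ => ?_
  rw [Finset.sum_eq_single i]
  · rw [hb, if_pos rfl, mul_one]
  · intro j _ hji
    rw [hb, if_neg (Ne.symm hji), mul_zero]
  · intro h
    exact absurd (Finset.mem_univ i) h

include hF hf in
/-- any two unitary forms are equivalent -/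
theorem exists_equiv {f' : (Fin n → F) → (Fin n → F) → F}
    (hf' : Cfsg.Geo.IsUnitaryFormPow q₀ f') : ∃ T : GL (Fin n) F, ∀ u v : Fin n → F,
    f ((T : Matrix (Fin n) (Fin n) F) *ᵥ u) ((T : Matrix (Fin n) (Fin n) F) *ᵥ v) = f' u v := by
  obtain ⟨T, hT⟩ := exists_std hF hf
  obtain ⟨T', hT'⟩ := exists_std hF hf'
  refine ⟨T * T'⁻¹, fun u v => ?_⟩
  rw [Units.val_mul, ← Matrix.mulVec_mulVec, ← Matrix.mulVec_mulVec, hT, ← hT']
  rw [Matrix.mulVec_mulVec, Matrix.mulVec_mulVec, ← Units.val_mul, mul_inv_cancel, Units.val_one,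
    Matrix.one_mulVec, Matrix.one_mulVec]

omit [Fintype F] in
/-- transport of the similarity group along an equivalence of forms -/
theorem sim_of_equiv {f f' : (Fin n → F) → (Fin n → F) → F} (T : GL (Fin n) F)
    (hT : ∀ u v : Fin n → F,
      f ((T : Matrix (Fin n) (Fin n) F) *ᵥ u) ((T : Matrix (Fin n) (Fin n) F) *ᵥ v) = f' u v)
    {y : GL (Fin n) F} (hy : y ∈ Cfsg.Geo.similarityGroup f') :
    T * y * T⁻¹ ∈ Cfsg.Geo.similarityGroup f := by
  obtain ⟨c, hc⟩ := hy
  refine ⟨c, fun u v => ?_⟩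
  have key : ∀ w : Fin n → F, ((T * y * T⁻¹ : GL (Fin n) F) : Matrix (Fin n) (Fin n) F) *ᵥ w =
      (T : Matrix (Fin n) (Fin n) F) *ᵥ ((y : Matrix (Fin n) (Fin n) F) *ᵥ
        (((T⁻¹ : GL (Fin n) F) : Matrix (Fin n) (Fin n) F) *ᵥ w)) := by
    intro w
    rw [Units.val_mul, Units.val_mul, Matrix.mulVec_mulVec, Matrix.mulVec_mulVec, Matrix.mul_assoc]
  have back : ∀ w : Fin n → F, (T : Matrix (Fin n) (Fin n) F) *ᵥ
      (((T⁻¹ : GL (Fin n) F) : Matrix (Fin n) (Fin n) F) *ᵥ w) = w := by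
    intro w
    rw [Matrix.mulVec_mulVec, ← Units.val_mul, mul_inv_cancel, Units.val_one, Matrix.one_mulVec]
  rw [key, key, hT, hc, ← hT, back, back]

end Cfsg.Agent.Lib.Helper8.Su
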