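import Mathlib
import Cfsg.Prelude.Def_PLocal
import Cfsg.Agent.Lib.Helper2.BAUFrame
import Cfsg.Agent.Lib.Helper1.PU2769H
import Cfsg.Agent.Lib.Helper3.PU2769a
import Cfsg.Agent.Lib.Helper4.PU2769S

/-!
# S2769 / S2768 farm (owner helper2): units `WW_le`, `s1`, `s2`, verbatim from the stubs
-/

set_option autoImplicit false

namespace Cfsg.Agent.Lib.Helper8.BAUw

open Cfsg.Agent.Lib.Helper2.BAU

variable {G : Type*} [Group G] [Finite G]

/-- (W) `W ≤ Z(Q)` -/
theorem WW_le (S Q : Subgroup G) (F : Frame S Q) :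
    WW S ≤ Q ∧ Q ≤ Subgroup.centralizer (WW S : Set G) := by
  have hQn : Q.Normal := F.normal
  have hZ : Zc S ≤ Q ⊓ Subgroup.centralizer (Q : Set G) := by
    intro z hz
    have hzc : z ∈ Subgroup.centralizer (Q : Set G) := by
      have h2 : z ∈ Subgroup.centralizer (S : Set G) := hz.2
      exact Subgroup.centralizer_le F.le h2
    exact Subgroup.mem_inf.mpr ⟨F.cent hzc, hzc⟩
  have hN : (Q ⊓ Subgroup.centralizer (Q : Set G)).Normal := inferInstance
  have hW : WW S ≤ Q ⊓ Subgroup.centralizer (Q : Set G) :=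
    Subgroup.normalClosure_le_normal hZ
  refine ⟨hW.trans inf_le_left, ?_⟩
  rw [Subgroup.le_centralizer_iff]
  exact hW.trans inf_le_right

/-- `C_S(W) = Q` when `C_G(W) S ≠ G` -/
theorem inf_centralizer_WW (S Q : Subgroup G) (F : Frame S Q)
    (hW : Subgroup.centralizer (WW S : Set G) ⊔ S ≠ ⊤) :
    S ⊓ Subgroup.centralizer (WW S : Set G) = Q := by
  have hWn : (WW S).Normal := by unfold WW; infer_instance
  have hCn : (Subgroup.centralizer (WW S : Set G)).Normal := inferInstance
  rcases F.dich _ hCn with h | h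
  · exact absurd h hW
  · apply le_antisymm
    · rw [inf_comm]
      exact F.max _ h inf_le_right
    · exact le_inf F.le (WW_le S Q F).2

/-- (S1) -/
theorem s1 (S Q : Subgroup G) (F : Frame S Q)
    (hW : Subgroup.centralizer (WW S : Set G) ⊔ S ≠ ⊤) (hn : (What S).Normal) :
    (Q0 S).Normal ∧ Q0 S = Jt S ⊓ Q := by
  have hCn : (Subgroup.centralizer (What S : Set G)).Normal := inferInstance
  have hle : Subgroup.centralizer (What S : Set G) ≤ Subgroup.centralizer (WW S : Set G) :=
    Subgroup.centralizer_le (show (WW S : Set G) ⊆ What S from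
      fun x hx => (le_sup_right : WW S ≤ What S) hx)
  constructor
  · rcases F.dich _ hCn with h | h
    · exfalso
      apply hW
      rw [eq_top_iff, ← h]
      exact sup_le_sup_right hle S
    · unfold Q0
      rw [inf_comm]
      exact h
  · have h1 : Subgroup.centralizer (What S : Set G) =
        Subgroup.centralizer (ZJ S : Set G) ⊓ Subgroup.centralizer (WW S : Set G) := by
      unfold What
      exact Cfsg.Agent.Lib.Helper1.PU2769H.centralizer_sup_eq (ZJ S) (WW S)
    have h2 := inf_centralizer_WW S Q F hW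
    unfold Q0 Jt
    rw [h1, ← h2]
    apply le_antisymm
    · exact le_inf (le_inf inf_le_left (inf_le_right.trans inf_le_left))
        (le_inf inf_le_left (inf_le_right.trans inf_le_right))
    · exact le_inf (inf_le_left.trans inf_le_left)
        (le_inf (inf_le_left.trans inf_le_right) (inf_le_right.trans inf_le_right))

/-- `N_G(S)` normalises `J̃(S)` -/
theorem normalizer_le_normalizer_Jt (S : Subgroup G) :
    Subgroup.normalizer (S : Set G) ≤ Subgroup.normalizer (Jt S : Set G) := by
  have h := Cfsg.Agent.Lib.Helper3.PU2769.normalizer_le_normalizer_cent_centerThompsonAOf S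
  rw [centerThompsonAOf_eq] at h
  exact h

/-- (S2) -/
theorem s2 (S Q : Subgroup G) (F : Frame S Q) (hn : (Q0 S).Normal) (hQ0 : Q0 S = Jt S ⊓ Q) :
    ∀ x ∈ Lt S, ∀ g ∈ Q, x * g * x⁻¹ * g⁻¹ ∈ Q0 S := by
  have hQn : Q.Normal := F.normal
  have hJn : S ≤ Subgroup.normalizer (Jt S : Set G) :=
    Subgroup.le_normalizer.trans (normalizer_le_normalizer_Jt S)
  have hn' : (Jt S ⊓ Q).Normal := hQ0 ▸ hn
  have h := Cfsg.Agent.Lib.Helper4.PU2769S.commutator_normalClosure_le S Q (Jt S) F.le hJn hn'
  intro x hx g hg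
  rw [hQ0]
  apply h
  rw [Subgroup.commutator_comm]
  exact Subgroup.commutator_mem_commutator hx hg

end Cfsg.Agent.Lib.Helper8.BAUw
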