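import Mathlib
import Cfsg.Prelude.Def_PLocal
import Cfsg.Agent.Lib.Helper3.PU2769a
import Cfsg.Agent.Lib.Helper3.PU2770c

/-!
# S2769 / S2768 riders (owner helper2): general units on `𝒜(S)`

N2, N3, N4, N4', F3 of helper2's proof, over helper3's `maxAbG`.
-/

set_option autoImplicit false

namespace Cfsg.Agent.Lib.Helper8.PU2769N

open Cfsg.Agent.Lib.Helper3.PU2769

variable {G : Type*} [Group G]

/-- a join of two subgroups which are abelian and centralize each other is abelian -/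
theorem sup_comm_of (H K : Subgroup G) (hH : ∀ a ∈ H, ∀ b ∈ H, a * b = b * a)
    (hK : ∀ a ∈ K, ∀ b ∈ K, a * b = b * a) (hHK : ∀ a ∈ H, ∀ b ∈ K, a * b = b * a) :
    ∀ a ∈ H ⊔ K, ∀ b ∈ H ⊔ K, a * b = b * a := by
  have h1 : H ⊔ K ≤ Subgroup.centralizer (H : Set G) := by
    apply sup_le
    · intro a ha
      rw [Subgroup.mem_centralizer_iff]
      intro b hb
      exact hH b hb a ha
    · intro a ha
      rw [Subgroup.mem_centralizer_iff]
      intro b hb
      exact hHK b hb a ha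
  have h2 : H ⊔ K ≤ Subgroup.centralizer (K : Set G) := by
    apply sup_le
    · intro a ha
      rw [Subgroup.mem_centralizer_iff]
      intro b hb
      exact (hHK a ha b hb).symm
    · intro a ha
      rw [Subgroup.mem_centralizer_iff]
      intro b hb
      exact hK b hb a ha
  have h3 : H ⊔ K ≤ Subgroup.centralizer ((H ⊔ K : Subgroup G) : Set G) := by
    rw [Subgroup.le_centralizer_iff]
    apply sup_le
    · rw [Subgroup.le_centralizer_iff]; exact h1
    · rw [Subgroup.le_centralizer_iff]; exact h2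
  intro a ha b hb
  have := h3 hb
  rw [Subgroup.mem_centralizer_iff] at this
  exact this a ha

variable [Finite G]

/-- an abelian subgroup of `S` containing a member of `𝒜(S)` equals it -/
theorem eq_of_le_of_mem (S A B : Subgroup G) (hA : A ∈ maxAbG S) (hAB : A ≤ B) (hBS : B ≤ S)
    (hB : ∀ a ∈ B, ∀ b ∈ B, a * b = b * a) : A = B :=
  Subgroup.eq_of_le_of_card_ge hAB (hA.2.2 B hBS hB)

/-- (N3) `Z(J(S))` lies in every member of `𝒜(S)` -/
theorem centerThompsonAOf_le_of_mem (S B : Subgroup G) (hB : B ∈ maxAbG S) :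
    Cfsg.centerThompsonAOf S ≤ B := by
  have hBJ : B ≤ Cfsg.thompsonSubgroupAOf S := le_thompsonAOf S B hB
  have hZJ : Cfsg.centerThompsonAOf S ≤ Cfsg.thompsonSubgroupAOf S := inf_le_left
  have hZc : Cfsg.centerThompsonAOf S ≤
      Subgroup.centralizer (Cfsg.thompsonSubgroupAOf S : Set G) := inf_le_right
  have hab : ∀ a ∈ B ⊔ Cfsg.centerThompsonAOf S, ∀ b ∈ B ⊔ Cfsg.centerThompsonAOf S,
      a * b = b * a := by
    apply sup_comm_of
    · exact hB.2.1
    · intro a ha b hb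
      have := hZc hb
      rw [Subgroup.mem_centralizer_iff] at this
      exact this a (hZJ ha)
    · intro a ha b hb
      have := hZc hb
      rw [Subgroup.mem_centralizer_iff] at this
      exact this a (hBJ ha)
  have hle : B ⊔ Cfsg.centerThompsonAOf S ≤ S :=
    sup_le hB.1 (hZJ.trans (thompsonAOf_le S))
  have := eq_of_le_of_mem S B _ hB le_sup_left hle hab
  calc Cfsg.centerThompsonAOf S ≤ B ⊔ Cfsg.centerThompsonAOf S := le_sup_right
    _ = B := this.symm

/-- (N2) `Z(S)` lies in every member of `𝒜(S)` -/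
theorem center_le_of_mem (S B : Subgroup G) (hB : B ∈ maxAbG S) :
    S ⊓ Subgroup.centralizer (S : Set G) ≤ B := by
  have hab : ∀ a ∈ B ⊔ (S ⊓ Subgroup.centralizer (S : Set G)),
      ∀ b ∈ B ⊔ (S ⊓ Subgroup.centralizer (S : Set G)), a * b = b * a := by
    apply sup_comm_of
    · exact hB.2.1
    · intro a ha b hb
      have : b ∈ Subgroup.centralizer (S : Set G) := hb.2
      rw [Subgroup.mem_centralizer_iff] at this
      exact this a ha.1
    · intro a ha b hb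
      have : b ∈ Subgroup.centralizer (S : Set G) := hb.2
      rw [Subgroup.mem_centralizer_iff] at this
      exact this a (hB.1 ha)
  have hle : B ⊔ (S ⊓ Subgroup.centralizer (S : Set G)) ≤ S := sup_le hB.1 inf_le_left
  have := eq_of_le_of_mem S B _ hB le_sup_left hle hab
  calc S ⊓ Subgroup.centralizer (S : Set G) ≤ B ⊔ (S ⊓ Subgroup.centralizer (S : Set G)) :=
        le_sup_right
    _ = B := this.symm

/-- `Z(S) ≤ Z(J(S))` -/
theorem center_le_centerThompsonAOf (S : Subgroup G) :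
    S ⊓ Subgroup.centralizer (S : Set G) ≤ Cfsg.centerThompsonAOf S := by
  obtain ⟨A, hA⟩ := maxAbG_nonempty S
  refine le_inf ((center_le_of_mem S A hA).trans (le_thompsonAOf S A hA)) ?_
  exact inf_le_right.trans (Subgroup.centralizer_le (thompsonAOf_le S))

/-- (N4) from the `KP` inequality: `(A ∩ Q) W ∈ 𝒜(S)` -/
theorem inf_sup_mem_maxAbG (S Q W A : Subgroup G) (hQS : Q ≤ S) (hWQ : W ≤ Q)
    (hWc : ∀ a ∈ Q, ∀ w ∈ W, a * w = w * a) (hA : A ∈ maxAbG S)
    (hKP : Nat.card A * Nat.card (W ⊓ Subgroup.centralizer (A : Set G) : Subgroup G) ≤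
      Nat.card (A ⊓ Q : Subgroup G) * Nat.card W) :
    (A ⊓ Q) ⊔ W ∈ maxAbG S := by
  have hab : ∀ a ∈ (A ⊓ Q) ⊔ W, ∀ b ∈ (A ⊓ Q) ⊔ W, a * b = b * a := by
    apply sup_comm_of
    · intro a ha b hb
      exact hA.2.1 a ha.1 b hb.1
    · intro a ha b hb
      exact hWc a (hWQ ha) b hb
    · intro a ha b hb
      exact hWc a ha.2 b hb
  have hle : (A ⊓ Q) ⊔ W ≤ S := sup_le (inf_le_left.trans hA.1) (hWQ.trans hQS)
  have h1 := Cfsg.Agent.Lib.Helper3.PU2770.card_mul_card_le_sup_inf (A ⊓ Q) W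
  have h2 : Nat.card ((A ⊓ Q) ⊓ W : Subgroup G) ≤
      Nat.card (W ⊓ Subgroup.centralizer (A : Set G) : Subgroup G) := by
    apply Subgroup.card_le_of_le
    intro x hx
    refine Subgroup.mem_inf.mpr ⟨hx.2, ?_⟩
    rw [Subgroup.mem_centralizer_iff]
    intro a ha
    exact hA.2.1 a ha x hx.1.1
  have hpos : 0 < Nat.card (W ⊓ Subgroup.centralizer (A : Set G) : Subgroup G) := Nat.card_pos
  have h3 : Nat.card A ≤ Nat.card ((A ⊓ Q) ⊔ W : Subgroup G) := by
    have h4 : Nat.card A * Nat.card (W ⊓ Subgroup.centralizer (A : Set G) : Subgroup G) ≤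
        Nat.card ((A ⊓ Q) ⊔ W : Subgroup G) *
          Nat.card (W ⊓ Subgroup.centralizer (A : Set G) : Subgroup G) :=
      calc _ ≤ Nat.card (A ⊓ Q : Subgroup G) * Nat.card W := hKP
        _ ≤ Nat.card ((A ⊓ Q) ⊔ W : Subgroup G) * Nat.card ((A ⊓ Q) ⊓ W : Subgroup G) := h1
        _ ≤ _ := Nat.mul_le_mul_left _ h2
    exact Nat.le_of_mul_le_mul_right h4 hpos
  refine ⟨hle, hab, ?_⟩
  intro B hBS hB
  exact (hA.2.2 B hBS hB).trans h3

omit [Finite G] in
/-- a normal subgroup is fixed by conjugation -/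
theorem map_conj_eq_of_normal (N : Subgroup G) [N.Normal] (g : G) :
    N.map (MulAut.conj g).toMonoidHom = N := by
  have hn : N.Normal := inferInstance
  ext x
  rw [Subgroup.mem_map]
  constructor
  · rintro ⟨n, hnN, rfl⟩
    exact hn.conj_mem n hnN g
  · intro hx
    refine ⟨g⁻¹ * x * g, ?_, ?_⟩
    · have := hn.conj_mem x hx g⁻¹
      rwa [inv_inv] at this
    · simp [MulAut.conj_apply, mul_assoc]

/-- (N4') the conjugated form: `(A^g ∩ Q) W ∈ 𝒜(S)` for `Q`, `W` normal in `G` -/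
theorem conj_inf_sup_mem_maxAbG (S Q W A : Subgroup G) [Q.Normal] [W.Normal] (hQS : Q ≤ S)
    (hWQ : W ≤ Q) (hWc : ∀ a ∈ Q, ∀ w ∈ W, a * w = w * a) (hA : A ∈ maxAbG S)
    (hKP : Nat.card A * Nat.card (W ⊓ Subgroup.centralizer (A : Set G) : Subgroup G) ≤
      Nat.card (A ⊓ Q : Subgroup G) * Nat.card W) (g : G) :
    (A.map (MulAut.conj g).toMonoidHom ⊓ Q) ⊔ W ∈ maxAbG S := by
  have hB := inf_sup_mem_maxAbG S Q W A hQS hWQ hWc hA hKP
  have hinj : Function.Injective (MulAut.conj g).toMonoidHom := (MulAut.conj g).injective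
  have hmap : ((A ⊓ Q) ⊔ W).map (MulAut.conj g).toMonoidHom =
      (A.map (MulAut.conj g).toMonoidHom ⊓ Q) ⊔ W := by
    rw [Subgroup.map_sup, Subgroup.map_inf _ _ _ hinj, map_conj_eq_of_normal Q g,
      map_conj_eq_of_normal W g]
  rw [← hmap]
  refine ⟨?_, ?_, ?_⟩
  · rw [hmap]
    exact sup_le (inf_le_right.trans hQS) (hWQ.trans hQS)
  · rintro _ ⟨a, ha, rfl⟩ _ ⟨b, hb, rfl⟩
    rw [← map_mul, ← map_mul, hB.2.1 a ha b hb]
  · intro C hCS hC
    rw [Subgroup.card_map_of_injective hinj]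
    exact hB.2.2 C hCS hC

omit [Finite G] in
/-- (F3) for `u ∈ B W` with `W` normal and `c` centralizing `B`: `[u, c] ∈ W` -/
theorem commutator_mem_of_mem_sup (B W : Subgroup G) [W.Normal] (u c : G) (hu : u ∈ B ⊔ W)
    (hc : ∀ b ∈ B, c * b = b * c) : u * c * u⁻¹ * c⁻¹ ∈ W := by
  rw [Subgroup.mem_sup_of_normal_right] at hu
  obtain ⟨b, hb, w, hw, rfl⟩ := hu
  have h : b⁻¹ * c⁻¹ = c⁻¹ * b⁻¹ := by rw [← mul_inv_rev, ← mul_inv_rev, hc b hb]
  have h1 : b * w * c * (b * w)⁻¹ * c⁻¹ = b * (w * (c * w⁻¹ * c⁻¹)) * b⁻¹ := by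
    calc b * w * c * (b * w)⁻¹ * c⁻¹ = b * w * c * w⁻¹ * (b⁻¹ * c⁻¹) := by group
      _ = b * w * c * w⁻¹ * (c⁻¹ * b⁻¹) := by rw [h]
      _ = b * (w * (c * w⁻¹ * c⁻¹)) * b⁻¹ := by group
  rw [h1]
  have hn : W.Normal := inferInstance
  exact hn.conj_mem _ (W.mul_mem hw (hn.conj_mem _ (W.inv_mem hw) c)) b

/-- (F3, combined) `[Z(J(S)), A^g] ≤ W`, elementwise -/
theorem commutator_centerThompson_conj_mem (S Q W A : Subgroup G) [Q.Normal] [W.Normal]
    (hQS : Q ≤ S) (hWQ : W ≤ Q) (hWc : ∀ a ∈ Q, ∀ w ∈ W, a * w = w * a) (hA : A ∈ maxAbG S)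
    (hKP : Nat.card A * Nat.card (W ⊓ Subgroup.centralizer (A : Set G) : Subgroup G) ≤
      Nat.card (A ⊓ Q : Subgroup G) * Nat.card W) (g u c : G)
    (hu : u ∈ Cfsg.centerThompsonAOf S) (hc : c ∈ A.map (MulAut.conj g).toMonoidHom) :
    u * c * u⁻¹ * c⁻¹ ∈ W := by
  have h1 := conj_inf_sup_mem_maxAbG S Q W A hQS hWQ hWc hA hKP g
  have h2 := centerThompsonAOf_le_of_mem S _ h1 hu
  apply commutator_mem_of_mem_sup _ W u c h2
  intro b hb
  obtain ⟨a, ha, rfl⟩ := hc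
  obtain ⟨a', ha', hb'⟩ := hb.1
  rw [← hb', ← map_mul, ← map_mul, hA.2.1 a ha a' ha']

end Cfsg.Agent.Lib.Helper8.PU2769N
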