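import Mathlib
import Cfsg.Prelude.Def_PLocal
import Cfsg.Agent.Lib.Helper2.BAUFrame
import Cfsg.Agent.Lib.Helper8.BAUw
import Cfsg.Agent.Lib.Helper8.PU2769N

/-!
# S2769 / S2768 farm (owner helper2): units `n4`, `f3`, verbatim from the stubs
-/

set_option autoImplicit false

namespace Cfsg.Agent.Lib.Helper8.BAUn

open Cfsg.Agent.Lib.Helper2.BAU

variable {G : Type*} [Group G] [Finite G]

/-- (N4) -/
theorem n4 (S Q : Subgroup G) (F : Frame S Q)
    (hW : Subgroup.centralizer (WW S : Set G) ⊔ S ≠ ⊤) (A : Subgroup G) (hA : IsMaxAb S A) (g : G) :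
    IsMaxAb S ((A.map (MulAut.conj g).toMonoidHom ⊓ Q) ⊔ WW S) := by
  have hQn : Q.Normal := F.normal
  have hWn : (WW S).Normal := by unfold WW; infer_instance
  obtain ⟨h1, h2⟩ := Cfsg.Agent.Lib.Helper8.BAUw.WW_le S Q F
  have hKP := F.kp (WW S) hWn h1 h2 hW A hA.1
  have hWc : ∀ a ∈ Q, ∀ w ∈ WW S, a * w = w * a := by
    intro a ha w hw
    have := h2 ha
    rw [Subgroup.mem_centralizer_iff] at this
    exact (this w hw).symm
  exact Cfsg.Agent.Lib.Helper8.PU2769N.conj_inf_sup_mem_maxAbG S Q (WW S) A F.le h1 hWc hA hKP g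

/-- (F3) -/
theorem f3 (S Q : Subgroup G) (hQW : Q ≤ Subgroup.centralizer (WW S : Set G))
    (hn4 : ∀ A : Subgroup G, IsMaxAb S A → ∀ g : G,
      IsMaxAb S ((A.map (MulAut.conj g).toMonoidHom ⊓ Q) ⊔ WW S)) :
    (∀ z ∈ ZJ S, ∀ w ∈ WW S, z * w = w * z) ∧
    ∀ z ∈ ZJ S, ∀ A : Subgroup G, IsMaxAb S A → ∀ a ∈ A, ∀ g : G,
      z * (g * a * g⁻¹) * z⁻¹ * (g * a * g⁻¹)⁻¹ ∈ WW S := by
  have hWn : (WW S).Normal := by unfold WW; infer_instance
  constructor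
  · intro z hz w hw
    obtain ⟨A, hA⟩ := exists_isMaxAb S
    have hB := hn4 A hA 1
    have hz' := ZJ_le_of_isMaxAb hB hz
    exact hB.2.1 z hz' w (Subgroup.mem_sup_right hw)
  · intro z hz A hA a ha g
    have hB := hn4 A hA g
    have hz' := ZJ_le_of_isMaxAb hB hz
    apply Cfsg.Agent.Lib.Helper8.PU2769N.commutator_mem_of_mem_sup _ (WW S) z (g * a * g⁻¹) hz'
    intro b hb
    obtain ⟨a', ha', hb'⟩ := hb.1
    rw [← hb']
    change g * a * g⁻¹ * (g * a' * g⁻¹) = g * a' * g⁻¹ * (g * a * g⁻¹)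
    have := hA.2.1 a ha a' ha'
    calc g * a * g⁻¹ * (g * a' * g⁻¹) = g * (a * a') * g⁻¹ := by group
      _ = g * (a' * a) * g⁻¹ := by rw [this]
      _ = g * a' * g⁻¹ * (g * a * g⁻¹) := by group

end Cfsg.Agent.Lib.Helper8.BAUn
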