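import Mathlib
import Cfsg.Agent.Lib.Helper4.SLCenter
import Cfsg.Agent.Lib.Helper2.Zsigmondy

/-!
# S2770 farm (owner helper6): the `PSL₂` number-theoretic units

`psl_dvd_card`, `psl8_order9`, `psl_elt`, verbatim from helper6's stubs.
-/

set_option autoImplicit false

namespace Cfsg.Agent.Lib.Helper8.PU2770N

section F8

variable {F : Type*} [Field F] [Fintype F]

/-- (after helper4's `L28F8.charP_two`) -/
theorem charP_two_of_card (hF : Fintype.card F = 8) : CharP F 2 := by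
  obtain ⟨p, hp⟩ := CharP.exists F
  obtain ⟨n, hpr, hc⟩ := FiniteField.card F p
  rw [hF] at hc
  have h2 : p ∣ 2 ^ 3 := by
    rw [show (2 : ℕ) ^ 3 = 8 from rfl, hc]
    exact dvd_pow_self p n.ne_zero
  have : p = 2 := (Nat.prime_dvd_prime_iff_eq hpr Nat.prime_two).1 (hpr.dvd_of_dvd_pow h2)
  subst this
  exact hp

/-- (after helper4's `L28F8.exists_omega`) -/
theorem exists_omega8 (hF : Fintype.card F = 8) : ∃ ω : F, ω ^ 3 = ω + 1 := by
  classical
  have := charP_two_of_card hF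
  have h2 : (2 : F) = 0 := CharP.ofNat_eq_zero F 2
  have hex : ∃ x : F, x ≠ 0 ∧ x ≠ 1 := by
    by_contra hcon
    push Not at hcon
    have hsub : (Finset.univ : Finset F) ⊆ {0, 1} := by
      intro x _
      by_cases hx : x = 0
      · simp [hx]
      · simp [hcon x hx]
    have := Finset.card_le_card hsub
    rw [Finset.card_univ, hF] at this
    have h2 : ({0, 1} : Finset F).card ≤ 2 := Finset.card_le_two
    omega
  obtain ⟨x, h0, h1⟩ := hex
  have h7 : x ^ 7 = 1 := by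
    have := FiniteField.pow_card_sub_one_eq_one x h0
    rwa [hF] at this
  have h4 : (x - 1) * ((x ^ 3 + x + 1) * (x ^ 3 + x ^ 2 + 1)) = 0 := by
    linear_combination h7 + (x ^ 4 - x ^ 3) * h2
  rcases mul_eq_zero.1 h4 with h | h
  · exact absurd (sub_eq_zero.1 h) h1
  · rcases mul_eq_zero.1 h with h | h
    · exact ⟨x, by linear_combination h - (x + 1) * h2⟩
    · exact ⟨x + 1, by linear_combination h + (x ^ 2 + x - 1) * h2⟩

/-- the matrix `[[0,1],[1,a]]` -/
def M9 (a : F) : Matrix (Fin 2) (Fin 2) F := !![0, 1; 1, a]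

omit [Fintype F] in
theorem M9_sq (a : F) : M9 a * M9 a = a • M9 a + 1 := by
  ext i j
  fin_cases i <;> fin_cases j <;> (simp [M9, Matrix.mul_apply, Fin.sum_univ_two]; try ring)

omit [Fintype F] in
theorem step_M9 (a c d : F) :
    (c • M9 a + d • (1 : Matrix (Fin 2) (Fin 2) F)) * M9 a
      = (c * a + d) • M9 a + c • (1 : Matrix (Fin 2) (Fin 2) F) := by
  rw [add_mul, smul_mul_assoc, M9_sq, smul_mul_assoc, one_mul, smul_add, smul_smul, add_smul]
  abel

omit [Fintype F] in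
theorem pow_M9_succ (a c d c' : F) (k : ℕ)
    (h : M9 a ^ k = c • M9 a + d • (1 : Matrix (Fin 2) (Fin 2) F)) (hc : c' = c * a + d) :
    M9 a ^ (k + 1) = c' • M9 a + c • (1 : Matrix (Fin 2) (Fin 2) F) := by
  rw [pow_succ, h, step_M9, hc]

omit [Fintype F] in
theorem M9_pows (a : F) (ha : a ^ 3 = a + 1) (h2 : (2 : F) = 0) :
    M9 a ^ 3 = (a ^ 2 + 1) • M9 a + a • (1 : Matrix (Fin 2) (Fin 2) F) ∧ M9 a ^ 9 = 1 := by
  have e1 : M9 a ^ 1 = (1 : F) • M9 a + (0 : F) • (1 : Matrix (Fin 2) (Fin 2) F) := by simp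
  have e2 := pow_M9_succ a 1 0 a 1 e1 (by ring)
  have e3 := pow_M9_succ a a 1 (a ^ 2 + 1) 2 e2 (by ring)
  have e4 := pow_M9_succ a (a ^ 2 + 1) a (a + 1) 3 e3
    (by linear_combination (-1) * ha + (-a) * h2)
  have e5 := pow_M9_succ a (a + 1) (a ^ 2 + 1) (a + 1) 4 e4
    (by linear_combination (-a ^ 2) * h2)
  have e6 := pow_M9_succ a (a + 1) (a + 1) (a ^ 2 + 1) 5 e5
    (by linear_combination (-a) * h2)
  have e7 := pow_M9_succ a (a ^ 2 + 1) (a + 1) a 6 e6
    (by linear_combination (-1) * ha + (-a - 1) * h2)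
  have e8 := pow_M9_succ a a (a ^ 2 + 1) 1 7 e7
    (by linear_combination (-a ^ 2) * h2)
  have e9 := pow_M9_succ a 1 a 0 8 e8
    (by linear_combination (-a) * h2)
  refine ⟨e3, ?_⟩
  rw [e9]
  simp

end F8

section psl
variable (F : Type) [Field F] [Fintype F] (p n : ℕ) [Fact p.Prime]

/-- U-PSLc : an odd prime dividing `q + 1` divides `|PSL₂(F)|`. -/
theorem psl_dvd_card (r : ℕ) (hr : r.Prime) (hr2 : r ≠ 2) (hdvd : r ∣ Fintype.card F + 1) :
    r ∣ Nat.card (Matrix.ProjectiveSpecialLinearGroup (Fin 2) F) := by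
  have h1 := Cfsg.Agent.Lib.Helper4.card_PSL_mul (F := F) 2 (by norm_num)
  rw [Cfsg.Agent.Lib.Helper4.card_SL2] at h1
  have h0 : Fintype.card F ^ 2 - 1 = (Fintype.card F + 1) * (Fintype.card F - 1) := by
    have := Nat.sq_sub_sq (Fintype.card F) 1
    rwa [one_pow] at this
  have h2 : r ∣ Fintype.card F * (Fintype.card F ^ 2 - 1) := by
    rw [h0]
    exact Dvd.dvd.mul_left (Dvd.dvd.mul_right hdvd _) _
  rw [← h1] at h2
  rcases (Nat.Prime.dvd_mul hr).mp h2 with h | h
  · exfalso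
    have h3 : r ∣ 2 := h.trans (Nat.gcd_dvd_left _ _)
    exact hr2 ((Nat.prime_dvd_prime_iff_eq hr Nat.prime_two).mp h3)
  · exact h

/-- U-PSLd : `PSL₂(8)` has an element of order `9`. -/
theorem psl8_order9 (hF : Fintype.card F = 8) :
    ∃ g : Matrix.ProjectiveSpecialLinearGroup (Fin 2) F, orderOf g = 9 := by
  have hch := charP_two_of_card hF
  have h2 : (2 : F) = 0 := CharP.ofNat_eq_zero F 2
  obtain ⟨a, ha⟩ := exists_omega8 hF
  obtain ⟨e3, e9⟩ := M9_pows a ha h2
  have hdet : (M9 a).det = 1 := by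
    rw [M9, Matrix.det_fin_two_of]
    linear_combination (-1) * h2
  let g : Matrix.SpecialLinearGroup (Fin 2) F := ⟨M9 a, hdet⟩
  have hg9 : g ^ 9 = 1 := by
    apply Subtype.ext
    rw [Matrix.SpecialLinearGroup.coe_pow]
    exact e9
  have hne : a ^ 2 + 1 ≠ 0 := by
    intro h0
    have : (1 : F) = 0 := by linear_combination a * h0 - ha - a * h2
    exact one_ne_zero this
  have hg3 : g ^ 3 ∉ Subgroup.center (Matrix.SpecialLinearGroup (Fin 2) F) := by
    intro hmem
    rw [Matrix.SpecialLinearGroup.mem_center_iff] at hmem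
    obtain ⟨r, -, hr⟩ := hmem
    have h01 := congrFun (congrFun hr 0) 1
    rw [Matrix.SpecialLinearGroup.coe_pow] at h01
    change Matrix.scalar (Fin 2) r 0 1 = (M9 a ^ 3) 0 1 at h01
    rw [e3] at h01
    simp [M9] at h01
    exact hne h01.symm
  refine ⟨(QuotientGroup.mk g : Matrix.ProjectiveSpecialLinearGroup (Fin 2) F), ?_⟩
  have : Fact (Nat.Prime 3) := ⟨Nat.prime_three⟩
  have h := orderOf_eq_prime_pow (x := (QuotientGroup.mk g :
    Matrix.ProjectiveSpecialLinearGroup (Fin 2) F)) (p := 3) (n := 1) ?_ ?_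
  · rw [h]
    norm_num
  · rw [pow_one, ← QuotientGroup.mk_pow, QuotientGroup.eq_one_iff]
    exact hg3
  · rw [show 3 ^ (1 + 1) = 9 from rfl, ← QuotientGroup.mk_pow, hg9]
    rfl

/-- U-PSLe : the element of prime power order (Zsigmondy for `p^(2n) - 1`, or order `9` for `q = 8`). -/
theorem psl_elt (hn : 2 ≤ n) (hF : Fintype.card F = p ^ n) :
    ∃ (r e : ℕ) (g : Matrix.ProjectiveSpecialLinearGroup (Fin 2) F),
      r.Prime ∧ r ≠ p ∧ 0 < e ∧ orderOf g = r ^ e ∧
      ∀ t : ℕ, 0 < t → t < 2 * n → ¬ r ^ e ∣ p ^ t - 1 := by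
  have hp : p.Prime := Fact.out
  by_cases h8 : p = 2 ∧ n = 3
  · obtain ⟨hp2, hn3⟩ := h8
    obtain ⟨g, hg⟩ := psl8_order9 F (by rw [hF, hp2, hn3]; norm_num)
    refine ⟨3, 2, g, Nat.prime_three, by rw [hp2]; norm_num, by norm_num,
      by rw [hg]; norm_num, ?_⟩
    intro t ht0 ht
    rw [hp2]
    rw [hn3] at ht
    interval_cases t <;> norm_num
  · have hz := Cfsg.Agent.Lib.Helper2.Zsig.zsigmondy p (2 * n) hp.one_lt (by omega)
      (by rintro ⟨h1, h2⟩; exact h8 ⟨h1, by omega⟩) (by rintro ⟨h1, -⟩; omega)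
    obtain ⟨r, hr, hrd, hprim⟩ := hz
    have hpos : 1 ≤ p ^ (2 * n) := Nat.one_le_pow _ _ hp.pos
    have hrp : r ≠ p := by
      intro h
      rw [h] at hrd
      have h1 : p ∣ p ^ (2 * n) := dvd_pow_self p (by omega)
      have h3 := Nat.dvd_sub h1 hrd
      rw [Nat.sub_sub_self hpos] at h3
      exact hp.one_lt.ne' (Nat.dvd_one.mp h3)
    have hr2 : r ≠ 2 := by
      intro h
      have h1 := hprim 1 one_pos (by omega)
      rw [pow_one, h] at h1
      rcases hp.eq_two_or_odd with h2 | h2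
      · exact hrp (h.trans h2.symm)
      · exact h1 (by omega)
    have hq1 : r ∣ p ^ n + 1 := by
      have h1 : p ^ (2 * n) - 1 = (p ^ n + 1) * (p ^ n - 1) := by
        have := Nat.sq_sub_sq (p ^ n) 1
        rw [one_pow, ← pow_mul, mul_comm n 2] at this
        exact this
      rw [h1] at hrd
      rcases (Nat.Prime.dvd_mul hr).mp hrd with h | h
      · exact h
      · exact absurd h (hprim n (by omega) (by omega))
    have hcard : r ∣ Nat.card (Matrix.ProjectiveSpecialLinearGroup (Fin 2) F) :=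
      psl_dvd_card F r hr hr2 (by rw [hF]; exact hq1)
    have : Fact r.Prime := ⟨hr⟩
    obtain ⟨g, hg⟩ := exists_prime_orderOf_dvd_card' r hcard
    refine ⟨r, 1, g, hr, hrp, one_pos, by rw [hg, pow_one], ?_⟩
    intro t ht0 ht
    rw [pow_one]
    exact hprim t ht0 ht

end psl

end Cfsg.Agent.Lib.Helper8.PU2770N
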