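import Mathlib
import Cfsg.Prelude.Def_Local
import Cfsg.Agent.Lib.Helper8.FStarEquiv
import Cfsg.Agent.S1320

set_option autoImplicit false
set_option linter.style.haveILetI false

namespace Cfsg.Agent.Lib.Helper8

open Cfsg

/-- If `F*(A) ⊓ B = B` then `F*(B) = B`, for `B` normal in `A`. -/
theorem gfs_eq_top_of_le {A : Type*} [Group A] [Finite A] (B : Subgroup A) [B.Normal]
    (h : B ≤ generalizedFittingSubgroup A) : generalizedFittingSubgroup ↥B = ⊤ := by
  have h1 := Cfsg.Agent.S1320.result B
  rw [inf_of_le_right h] at h1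
  rw [eq_top_iff]
  intro x _
  have hx : (x : A) ∈ (generalizedFittingSubgroup ↥B).map B.subtype := by
    rw [← h1]; exact x.2
  obtain ⟨y, hy, hyx⟩ := hx
  have : y = x := Subtype.ext hyx
  rwa [← this]

/-- Normal subgroups of quasinilpotent groups are quasinilpotent. -/
theorem gfs_eq_top_of_normal {A : Type*} [Group A] [Finite A]
    (hA : generalizedFittingSubgroup A = ⊤) (B : Subgroup A) [B.Normal] :
    generalizedFittingSubgroup ↥B = ⊤ :=
  gfs_eq_top_of_le B (by rw [hA]; exact le_top)

/-- Subnormal subgroups of quasinilpotent groups are quasinilpotent. -/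
theorem gfs_eq_top_of_isSubnormal {A : Type*} [Group A] [Finite A]
    (hA : generalizedFittingSubgroup A = ⊤) {T : Subgroup A} (hT : T.IsSubnormal) :
    generalizedFittingSubgroup ↥T = ⊤ := by
  induction hT with
  | top => exact generalizedFittingSubgroup_eq_top_of_equiv Subgroup.topEquiv.symm hA
  | step T K hTK hK hN ih =>
    haveI := hN
    have h1 : generalizedFittingSubgroup ↥(T.subgroupOf K) = ⊤ :=
      gfs_eq_top_of_normal ih (T.subgroupOf K)
    exact generalizedFittingSubgroup_eq_top_of_equiv (Subgroup.subgroupOfEquivOfLe hTK) h1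

/-- The generalized Fitting subgroup is quasinilpotent. -/
theorem gfs_gfs_eq_top {A : Type*} [Group A] [Finite A] :
    generalizedFittingSubgroup ↥(generalizedFittingSubgroup A) = ⊤ := by
  haveI : (generalizedFittingSubgroup A).Normal := generalizedFittingSubgroup_normal
  exact gfs_eq_top_of_le _ le_rfl

end Cfsg.Agent.Lib.Helper8
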