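import Mathlib
import Cfsg.Agent.Lib.Helper1.BrandtDefs

set_option autoImplicit false

namespace Cfsg.Agent.Lib.Helper1.Brandt

universe u v

/-- RT1 -/
theorem rt1 {K : Type v} {A : Type u} [Field K] [Ring A] [Algebra K A] [FiniteDimensional K A]
    (lam : A →ₗ[K] K) (hsymm : ∀ a b : A, lam (a * b) = lam (b * a))
    (hnd : ∀ a : A, a ≠ 0 → ∃ b : A, lam (a * b) ≠ 0) :
    Module.finrank K (Subalgebra.center K A) +
      Module.finrank K (Submodule.span K {x : A | ∃ a b : A, x = a * b - b * a}) =
      Module.finrank K A := by
  classical
  set W : Submodule K A := Submodule.span K {x : A | ∃ a b : A, x = a * b - b * a} with hW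
  let B : LinearMap.BilinForm K A := (LinearMap.mul K A).compr₂ lam
  have hBapp : ∀ a b, B a b = lam (a * b) := fun a b => rfl
  have hBsymm : ∀ a b, B a b = B b a := fun a b => by rw [hBapp, hBapp, hsymm]
  have hsepL : B.SeparatingLeft := by
    intro a ha
    by_contra hne
    obtain ⟨b, hb⟩ := hnd a hne
    exact hb (ha b)
  have hBnd : B.Nondegenerate := by
    refine ⟨hsepL, ?_⟩
    intro a ha
    apply hsepL
    intro b
    rw [hBsymm]; exact ha b
  have hfin := LinearMap.BilinForm.finrank_orthogonal hBnd W
  have hWle : Module.finrank K W ≤ Module.finrank K A := Submodule.finrank_le W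
  have hcen : Module.finrank K (Subalgebra.center K A) = Module.finrank K (B.orthogonal W) := by
    have : (Subalgebra.center K A).toSubmodule = B.orthogonal W := by
      ext z
      rw [LinearMap.BilinForm.mem_orthogonal_iff]
      simp only [Subalgebra.mem_toSubmodule]
      rw [Subalgebra.mem_center_iff]
      constructor
      · intro hz n hn
        show B n z = 0
        induction hn using Submodule.span_induction with
        | mem x hx =>
          obtain ⟨a, b, rfl⟩ := hx
          rw [hBapp, sub_mul, map_sub, mul_assoc, mul_assoc, hz b, ← mul_assoc, hsymm (a * z) b,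
            sub_self]
        | zero => simp
        | add x y _ _ hx hy => rw [map_add, LinearMap.add_apply, hx, hy, add_zero]
        | smul c x _ hx => rw [map_smul, LinearMap.smul_apply, hx, smul_zero]
      · intro hz b
        by_contra hne
        have hne' : b * z - z * b ≠ 0 := sub_ne_zero.mpr hne
        obtain ⟨c, hc⟩ := hnd _ hne'
        apply hc
        have h1 : B (c * b - b * c) z = 0 :=
          hz _ (Submodule.subset_span ⟨c, b, rfl⟩)
        rw [hBapp] at h1
        rw [sub_mul, map_sub] at h1 ⊢
        rw [hsymm (b * z) c, hsymm (z * b) c]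
        rw [← mul_assoc, ← mul_assoc]
        rw [mul_assoc b c z, hsymm b (c * z), mul_assoc] at h1
        rw [mul_assoc c b z]
        exact h1
    rw [← this]
    rfl
  rw [hcen, hfin]
  omega

end Cfsg.Agent.Lib.Helper1.Brandt
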