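import Mathlib
import Cfsg.Agent.Lib.Helper1.BrandtDefs
import Cfsg.Agent.Lib.Helper8.BrandtRT1

set_option autoImplicit false

namespace Cfsg.Agent.Lib.Helper1.Brandt

universe u v

/-- products of `k` elements of a subspace closed under nothing in particular -/
private theorem rt4_nil {K : Type v} {A₀ : Type u} [Field K] [Ring A₀] [Algebra K A₀]
    (J : Submodule K A₀) (hJJ : J * J = J) (m : ℕ)
    (hm : ∀ f : Fin m → A₀, (∀ i, f i ∈ J) → (List.ofFn f).prod = 0) : J = ⊥ := by
  classical
  rcases Nat.eq_zero_or_pos m with rfl | hmpos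
  · have h10 : (1 : A₀) = 0 := by
      have := hm (fun i => i.elim0) (fun i => i.elim0)
      simpa using this
    rw [eq_bot_iff]
    intro x _
    have : x = 0 := by rw [← mul_one x, h10, mul_zero]
    rw [this]; exact Submodule.zero_mem _
  · have key : ∀ k : ℕ, 1 ≤ k →
        J ≤ Submodule.span K {y : A₀ | ∃ f : Fin k → A₀, (∀ i, f i ∈ J) ∧ (List.ofFn f).prod = y} := by
      intro k hk
      induction k, hk using Nat.le_induction with
      | base =>
        intro x hx
        apply Submodule.subset_span
        exact ⟨fun _ => x, fun _ => hx, by simp⟩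
      | succ k hk ih =>
        calc J = J * J := hJJ.symm
          _ ≤ J * Submodule.span K {y : A₀ | ∃ f : Fin k → A₀, (∀ i, f i ∈ J) ∧ (List.ofFn f).prod = y} :=
              mul_le_mul_right ih J
          _ ≤ _ := by
            rw [Submodule.mul_le]
            intro j hj s hs
            induction hs using Submodule.span_induction with
            | mem y hy =>
              obtain ⟨f, hf, rfl⟩ := hy
              apply Submodule.subset_span
              refine ⟨Fin.cons j f, ?_, ?_⟩
              · intro i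
                refine Fin.cases ?_ ?_ i
                · simpa using hj
                · intro i; simpa using hf i
              · simp [List.ofFn_succ]
            | zero => rw [mul_zero]; exact Submodule.zero_mem _
            | add y z _ _ hy hz => rw [mul_add]; exact Submodule.add_mem _ hy hz
            | smul c y _ hy => rw [mul_smul_comm]; exact Submodule.smul_mem _ c hy
    have h1 := key m hmpos
    rw [eq_bot_iff]
    refine h1.trans ?_
    rw [Submodule.span_le]
    rintro y ⟨f, hf, rfl⟩
    rw [hm f hf]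
    exact Submodule.zero_mem _

/-- RT4 -/
theorem rt4 {K : Type v} {A₀ : Type u} [Field K] [Ring A₀] [Algebra K A₀]
    [FiniteDimensional K A₀] (ρ : A₀ →ₐ[K] K) (hρ : KerNilp ρ)
    (lam : A₀ →ₗ[K] K) (hsymm : ∀ a b : A₀, lam (a * b) = lam (b * a))
    (hnd : ∀ a : A₀, a ≠ 0 → ∃ b : A₀, lam (a * b) ≠ 0)
    (hZ : Module.finrank K (Subalgebra.center K A₀) = 2) :
    ∃ x : A₀, x ≠ 0 ∧ x * x = 0 ∧ ∀ a : A₀, ∃ α β : K, a = α • (1 : A₀) + β • x := by
  classical
  obtain ⟨m, hm⟩ := hρ
  set W : Submodule K A₀ := Submodule.span K {x : A₀ | ∃ a b : A₀, x = a * b - b * a} with hW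
  have h1 : Module.finrank K (Subalgebra.center K A₀) + Module.finrank K W =
      Module.finrank K A₀ := rt1 lam hsymm hnd
  rw [hZ] at h1
  set d := Module.finrank K A₀ with hd
  let J : Submodule K A₀ := LinearMap.ker ρ.toLinearMap
  have hJmem : ∀ a, a ∈ J ↔ ρ a = 0 := fun a => by
    simp [J]
  have hρ1 : ∀ c : K, ρ (c • (1 : A₀)) = c := fun c => by
    rw [map_smul, map_one, smul_eq_mul, mul_one]
  have hdec : ∀ a, a - ρ a • (1 : A₀) ∈ J := fun a => by
    rw [hJmem, map_sub, hρ1, sub_self]
  have hJfin : Module.finrank K J + 1 = d := by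
    have h2 := LinearMap.finrank_range_add_finrank_ker ρ.toLinearMap
    have h3 : LinearMap.range ρ.toLinearMap = ⊤ := by
      rw [LinearMap.range_eq_top]
      intro c
      exact ⟨c • (1 : A₀), hρ1 c⟩
    rw [h3, finrank_top, Module.finrank_self] at h2
    rw [hd, ← h2, add_comm]
  have hJJle : J * J ≤ J := by
    rw [Submodule.mul_le]
    intro a ha b hb
    rw [hJmem] at ha hb ⊢
    rw [map_mul, ha, zero_mul]
  have hWle : W ≤ J * J := by
    rw [hW, Submodule.span_le]
    rintro x ⟨a, b, rfl⟩
    have h5 : a * b - b * a =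
        (a - ρ a • (1 : A₀)) * (b - ρ b • (1 : A₀)) - (b - ρ b • (1 : A₀)) * (a - ρ a • (1 : A₀)) := by
      simp only [sub_mul, mul_sub, smul_mul_assoc, mul_smul_comm, one_mul, mul_one, smul_sub,
        smul_smul]
      rw [mul_comm (ρ b) (ρ a)]
      abel
    show a * b - b * a ∈ J * J
    rw [h5]
    exact Submodule.sub_mem _ (Submodule.mul_mem_mul (hdec a) (hdec b))
      (Submodule.mul_mem_mul (hdec b) (hdec a))
  have hlamW : ∀ w ∈ W, lam w = 0 := by
    intro w hw
    induction hw using Submodule.span_induction with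
    | mem x hx =>
      obtain ⟨a, b, rfl⟩ := hx
      rw [map_sub, hsymm a b, sub_self]
    | zero => simp
    | add x y _ _ hx hy => rw [map_add, hx, hy, add_zero]
    | smul c x _ hx => rw [map_smul, hx, smul_zero]
  have hfW := Submodule.finrank_mono hWle
  have hfJJ := Submodule.finrank_mono hJJle
  -- J * J is a right ideal
  have hright : ∀ w ∈ J * J, ∀ b : A₀, w * b ∈ J * J := by
    intro w hw b
    refine Submodule.mul_induction_on (C := fun w => w * b ∈ J * J) hw ?_ ?_
    · intro x hx y hy
      show x * y * b ∈ J * J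
      rw [mul_assoc]
      refine Submodule.mul_mem_mul hx ?_
      rw [hJmem] at hy ⊢
      rw [map_mul, hy, zero_mul]
    · intro x y hx hy
      show (x + y) * b ∈ J * J
      rw [add_mul]; exact Submodule.add_mem _ hx hy
  have hJJW : J * J = W := by
    by_contra hne
    have hlt : W < J * J := lt_of_le_of_ne hWle (fun h => hne h.symm)
    have h6 := Submodule.finrank_lt_finrank_of_lt hlt
    have h7 : Module.finrank K ↥(J * J) = Module.finrank K J := by omega
    have h8 : J * J = J := Submodule.eq_of_le_of_finrank_eq hJJle h7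
    have h9 : J = ⊥ := rt4_nil J h8 m (fun f hf => hm f (fun i => (hJmem _).mp (hf i)))
    have h10 : Module.finrank K J = 0 := by rw [h9]; exact finrank_bot K A₀
    omega
  have hJJ0 : J * J = ⊥ := by
    rw [eq_bot_iff]
    intro w hw
    rw [Submodule.mem_bot]
    by_contra hne
    obtain ⟨b, hb⟩ := hnd w hne
    apply hb
    apply hlamW
    rw [← hJJW]
    exact hright w hw b
  have hW0 : Module.finrank K W = 0 := by
    rw [← hJJW, hJJ0]; exact finrank_bot K A₀
  have hJ1 : Module.finrank K J = 1 := by omega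
  obtain ⟨⟨x, hxJ⟩, hx0, hxs⟩ := finrank_eq_one_iff'.mp hJ1
  refine ⟨x, ?_, ?_, ?_⟩
  · intro h
    apply hx0
    exact Subtype.ext h
  · have : x * x ∈ J * J := Submodule.mul_mem_mul hxJ hxJ
    rw [hJJ0, Submodule.mem_bot] at this
    exact this
  · intro a
    obtain ⟨c, hc⟩ := hxs ⟨a - ρ a • (1 : A₀), hdec a⟩
    refine ⟨ρ a, c, ?_⟩
    have hc' : c • x = a - ρ a • (1 : A₀) := congrArg Subtype.val hc
    rw [hc']; abel

end Cfsg.Agent.Lib.Helper1.Brandt
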