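import Mathlib
import Cfsg.Prelude.Def_ChevStructure
import Cfsg.Agent.Lib.Helper5.ChevCoLinDef
import Cfsg.Agent.Lib.Helper8.ChevPsi2

set_option autoImplicit false

/-!
The entry functionals `E_{g,i}(M)` = coefficient of `h_i` in `M e_{-g}` (`g` a positive root), their
values on root elements, and the existence of a "good" index `i` (coroot coordinate of `g` nonzero
in the field).
-/

namespace Cfsg.Agent.Lib.Helper8.ChevE

open Cfsg Cfsg.Lie Cfsg.Agent.Lib.Helper5.UniTri Cfsg.Agent.Lib.Helper5.ChevPosUni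
  Cfsg.Agent.Lib.Helper5.ChevHeight Cfsg.Agent.Lib.Helper5.ChevSym Cfsg.Agent.Lib.Helper5.ChevStruct
  Cfsg.Agent.Lib.Helper8.ChevPsi

variable {F : Type*} [Field F]

/-- `E_{g,i}(M)`: the coefficient of `h_i` in `M e_{-g}` -/
def Eent (D : ChevalleyDatum) (g i : ℕ) (M : Matrix D.Idx D.Idx F) : F :=
  if h : i < D.rank ∧ D.neg g < D.nroots then
    M (Sum.inl ⟨i, h.1⟩) (Sum.inr ⟨D.neg g, h.2⟩) else 0

theorem Eent_eq (D : ChevalleyDatum) (g i : ℕ) (hi : i < D.rank) (hg : D.neg g < D.nroots)
    (M : Matrix D.Idx D.Idx F) :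
    Eent D g i M = M (Sum.inl ⟨i, hi⟩) (Sum.inr ⟨D.neg g, hg⟩) := by
  unfold Eent
  rw [dif_pos ⟨hi, hg⟩]

/-- the table facts about `r ↦ -r` used here: it preserves the index range, is injective on it,
and maps positive roots to non-positive roots -/
def NegOK (D : ChevalleyDatum) : Prop :=
  ∀ r ∈ List.range D.nroots, D.neg r < D.nroots ∧
    (D.IsPosRoot r → ¬ D.IsPosRoot (D.neg r)) ∧
    ∀ s ∈ List.range D.nroots, D.neg s = D.neg r → s = r

instance (D : ChevalleyDatum) : Decidable (NegOK D) := by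
  unfold NegOK
  infer_instance

set_option maxRecDepth 1000000 in
theorem negOK_G2 : NegOK chevG2 := by decide +kernel
set_option maxRecDepth 1000000 in
theorem negOK_B2 : NegOK chevB2 := by decide +kernel
set_option maxRecDepth 1000000 in
theorem negOK_D4 : NegOK chevD4 := by decide +kernel
set_option maxRecDepth 1000000 in
theorem negOK_F4 : NegOK chevF4 := by decide +kernel
set_option maxRecDepth 1000000 in
theorem negOK_E6 : NegOK chevE6 := by decide +kernel
set_option maxRecDepth 1000000 in
theorem negOK_E7 : NegOK chevE7 := by decide +kernel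
set_option maxRecDepth 1000000 in
theorem negOK_E8 : NegOK chevE8 := by decide +kernel

theorem negOK_all (D : ChevalleyDatum) (hD : D ∈ Seven) : NegOK D := by
  simp only [Seven, List.mem_cons, List.not_mem_nil, or_false] at hD
  rcases hD with rfl | rfl | rfl | rfl | rfl | rfl | rfl
  · exact negOK_G2
  · exact negOK_B2
  · exact negOK_D4
  · exact negOK_F4
  · exact negOK_E6
  · exact negOK_E7
  · exact negOK_E8

/-- **F1**: the value of `E_{g,i}` on the root elements of positive roots -/
theorem Eent_x (D : ChevalleyDatum) (hD : D ∈ Seven) (b g i : ℕ) (hb : D.IsPosRoot b)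
    (hg : D.IsPosRoot g) (hi : i < D.rank) (t : F) :
    Eent D g i (D.x F b t) = if b = g then ((co D g i : ℤ) : F) * t else 0 := by
  have hN := negOK_all D hD
  obtain ⟨hng, hgp, hginj⟩ := hN g (List.mem_range.2 hg.1)
  rw [Eent_eq D g i hi hng]
  unfold ChevalleyDatum.x
  rw [dif_pos hb.1]
  simp only [ChevalleyDatum.xMat, Matrix.of_apply]
  by_cases hsr : (⟨D.neg g, hng⟩ : Fin D.nroots) = ⟨b, hb.1⟩
  · exfalso
    have hv : D.neg g = b := congrArg Fin.val hsr
    apply hgp hg
    rw [hv]
    exact hb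
  · rw [if_neg hsr]
    by_cases hn : D.neg g = D.negIdx.getD b 0
    · rw [if_pos hn]
      have hbg : b = g := hginj b (List.mem_range.2 hb.1) hn.symm
      rw [if_pos hbg]
      subst hbg
      rfl
    · rw [if_neg hn, if_neg]
      rintro rfl
      exact hn rfl

/-- gcd of the coroot coordinates of the root `r` -/
def rowGcd (D : ChevalleyDatum) (r : ℕ) : ℕ :=
  (List.range D.rank).foldr (fun i g => Int.gcd (co D r i) g) 0

theorem dvd_foldr_gcd (f : ℕ → ℤ) (p : ℤ) (l : List ℕ) (h : ∀ i ∈ l, p ∣ f i) :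
    p ∣ ((l.foldr (fun i g => Int.gcd (f i) g) 0 : ℕ) : ℤ) := by
  induction l with
  | nil => simp
  | cons a l ih =>
    rw [List.foldr_cons]
    exact Int.dvd_coe_gcd (h a (List.mem_cons_self ..))
      (ih fun i hi => h i (List.mem_cons_of_mem _ hi))

/-- every coroot row has gcd `1` -/
def GcdOK (D : ChevalleyDatum) : Prop := ∀ r ∈ List.range D.nroots, rowGcd D r = 1

instance (D : ChevalleyDatum) : Decidable (GcdOK D) := by
  unfold GcdOK
  infer_instance

set_option maxRecDepth 1000000 in
theorem gcdOK_G2 : GcdOK chevG2 := by decide +kernel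
set_option maxRecDepth 1000000 in
theorem gcdOK_B2 : GcdOK chevB2 := by decide +kernel
set_option maxRecDepth 1000000 in
theorem gcdOK_D4 : GcdOK chevD4 := by decide +kernel
set_option maxRecDepth 1000000 in
theorem gcdOK_F4 : GcdOK chevF4 := by decide +kernel
set_option maxRecDepth 1000000 in
theorem gcdOK_E6 : GcdOK chevE6 := by decide +kernel
set_option maxRecDepth 1000000 in
theorem gcdOK_E7 : GcdOK chevE7 := by decide +kernel
set_option maxRecDepth 1000000 in
theorem gcdOK_E8 : GcdOK chevE8 := by decide +kernel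

theorem gcdOK_all (D : ChevalleyDatum) (hD : D ∈ Seven) : GcdOK D := by
  simp only [Seven, List.mem_cons, List.not_mem_nil, or_false] at hD
  rcases hD with rfl | rfl | rfl | rfl | rfl | rfl | rfl
  · exact gcdOK_G2
  · exact gcdOK_B2
  · exact gcdOK_D4
  · exact gcdOK_F4
  · exact gcdOK_E6
  · exact gcdOK_E7
  · exact gcdOK_E8

/-- **F1b**: in characteristic `p` every root has a coroot coordinate which is nonzero in `F` -/
theorem exists_good (p : ℕ) [Fact p.Prime] [CharP F p] (D : ChevalleyDatum) (hD : D ∈ Seven)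
    (g : ℕ) (hg : g < D.nroots) : ∃ i < D.rank, ((co D g i : ℤ) : F) ≠ 0 := by
  by_contra hcon
  push Not at hcon
  have h1 : ∀ i ∈ List.range D.rank, (p : ℤ) ∣ co D g i := by
    intro i hi
    exact (CharP.intCast_eq_zero_iff F p _).1 (hcon i (List.mem_range.1 hi))
  have h2 := dvd_foldr_gcd (co D g) (p : ℤ) (List.range D.rank) h1
  have h3 : rowGcd D g = 1 := gcdOK_all D hD g (List.mem_range.2 hg)
  unfold rowGcd at h3
  rw [h3] at h2
  have hp : 1 < p := (Fact.out : p.Prime).one_lt
  have h4 : (p : ℤ) ∣ 1 := by simpa using h2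
  have h5 : p ∣ 1 := by exact_mod_cast h4
  have := Nat.le_of_dvd one_pos h5
  omega

end Cfsg.Agent.Lib.Helper8.ChevE
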