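import Mathlib
import Cfsg.Prelude.Def_ChevStructure
import Cfsg.Agent.Lib.Helper8.ChevE1

set_option autoImplicit false

/-!
The graded refinement of the unitriangularity of `U`: for a positive root `g` of height `k`, the
matrix `x_g(t) - 1` raises the height level by at least `k`. Consequence (**F2**): for `u ∈ U`,
`E_{g,i}(u x_g(t) u⁻¹) = E_{g,i}(x_g(t))`.
-/

namespace Cfsg.Agent.Lib.Helper8.ChevE

open Cfsg Cfsg.Lie Cfsg.Agent.Lib.Helper5.UniTri Cfsg.Agent.Lib.Helper5.ChevPosUni
  Cfsg.Agent.Lib.Helper5.ChevHeight Cfsg.Agent.Lib.Helper5.ChevSym Cfsg.Agent.Lib.Helper5.ChevStruct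
  Cfsg.Agent.Lib.Helper8.ChevPsi

/-- graded table conditions: the level of `-r` mirrors that of `r`, and every chain of the positive
root `r` moves upwards by at least the height of `r` -/
def GoodG (D : ChevalleyDatum) (ht : List ℕ) (c : ℕ) : Prop :=
  ∀ r ∈ List.range D.nroots, D.IsPosRoot r →
    (c < ht.getD r 0 ∧ ht.getD (D.negIdx.getD r 0) 0 + ht.getD r 0 = 2 * c ∧
      ∀ e ∈ (D.chain.getD r #[]).toList, ∀ p ∈ e.2.toList,
        ht.getD e.1 0 + (ht.getD r 0 - c) ≤ ht.getD p.1 0)

instance (D : ChevalleyDatum) (ht : List ℕ) (c : ℕ) : Decidable (GoodG D ht c) := by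
  unfold GoodG
  infer_instance

set_option maxRecDepth 1000000 in
theorem goodG_G2 : GoodG chevG2 h8htG2 5 := by decide +kernel

set_option maxRecDepth 1000000 in
theorem goodG_B2 : GoodG chevB2 h8htB2 3 := by decide +kernel

set_option maxRecDepth 1000000 in
theorem goodG_D4 : GoodG chevD4 h8htD4 5 := by decide +kernel

set_option maxRecDepth 1000000 in
theorem goodG_F4 : GoodG chevF4 h8htF4 11 := by decide +kernel

set_option maxRecDepth 1000000 in
theorem goodG_E6 : GoodG chevE6 h8htE6 11 := by decide +kernel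

set_option maxRecDepth 1000000 in
theorem goodG_E7 : GoodG chevE7 h8htE7 17 := by decide +kernel

set_option maxRecDepth 1000000 in
theorem goodG_E8 : GoodG chevE8 h8htE8 29 := by decide +kernel

/-- for each of the seven types: one height table satisfying all three sets of conditions -/
theorem exists_goodG (D : ChevalleyDatum) (hD : D ∈ Seven) :
    ∃ (ht : List ℕ) (c : ℕ), GoodH D ht c ∧ SimpleH D ht c ∧ GoodG D ht c := by
  simp only [Seven, List.mem_cons, List.not_mem_nil, or_false] at hD
  rcases hD with rfl | rfl | rfl | rfl | rfl | rfl | rfl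
  · exact ⟨_, _, h8goodH_G2, h8simpleH_G2, goodG_G2⟩
  · exact ⟨_, _, h8goodH_B2, h8simpleH_B2, goodG_B2⟩
  · exact ⟨_, _, h8goodH_D4, h8simpleH_D4, goodG_D4⟩
  · exact ⟨_, _, h8goodH_F4, h8simpleH_F4, goodG_F4⟩
  · exact ⟨_, _, h8goodH_E6, h8simpleH_E6, goodG_E6⟩
  · exact ⟨_, _, h8goodH_E7, h8simpleH_E7, goodG_E7⟩
  · exact ⟨_, _, h8goodH_E8, h8simpleH_E8, goodG_E8⟩

variable {F : Type*} [Field F]

/-- graded version of `xMat_sub_one_lowerH` -/
theorem xMat_sub_one_lowerG (D : ChevalleyDatum) (ht : List ℕ) (c : ℕ) (hD : GoodG D ht c) (r : ℕ)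
    (hr : D.IsPosRoot r) (t : F) :
    Lower (lvlH D ht c) (ht.getD r 0 - c) (D.xMat F ⟨r, hr.1⟩ t - 1) := by
  obtain ⟨h1, h2, h3⟩ := hD r (List.mem_range.2 hr.1) hr
  intro row col hne
  rw [Matrix.sub_apply] at hne
  rcases col with i | s
  · rcases row with i' | u
    · exfalso
      apply hne
      simp only [ChevalleyDatum.xMat, Matrix.of_apply, Matrix.one_apply, Sum.inl.injEq]
      exact sub_self _
    · have hur : u = ⟨r, hr.1⟩ := by
        by_contra hur
        apply hne
        simp [ChevalleyDatum.xMat, Matrix.of_apply, hur]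
      subst hur
      show c + (ht.getD r 0 - c) ≤ ht.getD r 0
      omega
  · by_cases hsr : s = ⟨r, hr.1⟩
    · exfalso
      apply hne
      subst hsr
      rcases row with i' | u
      · simp [ChevalleyDatum.xMat, Matrix.of_apply]
      · by_cases hu : u = ⟨r, hr.1⟩
        · subst hu
          simp [ChevalleyDatum.xMat, Matrix.of_apply]
        · simp [ChevalleyDatum.xMat, Matrix.of_apply, hu]
    · by_cases hsn : s.val = D.negIdx.getD r 0
      · rcases row with i' | u
        · show ht.getD s.val 0 + (ht.getD r 0 - c) ≤ c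
          rw [hsn]
          omega
        · have hur : u = ⟨r, hr.1⟩ := by
            by_contra hur
            apply hne
            by_cases hus : u = s
            · subst hus
              simp [ChevalleyDatum.xMat, Matrix.of_apply, hsr, hsn]
            · simp [ChevalleyDatum.xMat, Matrix.of_apply, hsr, hsn, hus, hur]
          subst hur
          show ht.getD s.val 0 + (ht.getD r 0 - c) ≤ ht.getD r 0
          rw [hsn]
          omega
      · rcases row with i' | u
        · exfalso
          apply hne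
          simp only [ChevalleyDatum.xMat, Matrix.of_apply, hsr, hsn, if_false]
          simp
        · have hc : D.chainCoeff r s.val u.val ≠ [] := by
            intro hc
            apply hne
            simp only [ChevalleyDatum.xMat, Matrix.of_apply, hsr, hsn, if_false, hc, List.map_nil,
              List.sum_nil, add_zero, Matrix.one_apply, Sum.inr.injEq]
            exact sub_self _
          obtain ⟨e, he, p, hp, hes, hpu⟩ := chainCoeff_ne_nil hc
          have hlt := h3 e he p hp
          rw [hes, hpu] at hlt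
          show ht.getD s.val 0 + (ht.getD r 0 - c) ≤ ht.getD u.val 0
          exact hlt

theorem x_sub_one_lowerG (D : ChevalleyDatum) (ht : List ℕ) (c : ℕ) (hD : GoodG D ht c) (r : ℕ)
    (hr : D.IsPosRoot r) (t : F) :
    Lower (lvlH D ht c) (ht.getD r 0 - c) (D.x F r t - 1) := by
  unfold ChevalleyDatum.x
  rw [dif_pos hr.1]
  exact xMat_sub_one_lowerG D ht c hD r hr t

section abstract

variable {ι : Type*} [Fintype ι] [DecidableEq ι]

/-- conjugating a matrix `1 + Y`, `Y` raising levels by `≥ k`, by a unitriangular matrix does not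
change the entries exactly `k` levels below the diagonal -/
theorem unitri_conj_entry (lvl : ι → ℕ) (k : ℕ) (a b : ι) (hab : lvl a = lvl b + k)
    (u x : GL ι F) (hu : u ∈ unitri lvl F 0) (hx : Lower lvl k ((x : Matrix ι ι F) - 1)) :
    ((u * x * u⁻¹ : GL ι F) : Matrix ι ι F) a b - (1 : Matrix ι ι F) a b
      = (x : Matrix ι ι F) a b - (1 : Matrix ι ι F) a b := by
  have hu1 : Lower lvl 1 ((u : Matrix ι ι F) - 1) := mem_unitri.1 hu
  have hui : Lower lvl 1 (((u⁻¹ : GL ι F) : Matrix ι ι F) - 1) := mem_unitri.1 (inv_mem hu)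
  set P : Matrix ι ι F := (u : Matrix ι ι F) - 1 with hP
  set Q : Matrix ι ι F := ((u⁻¹ : GL ι F) : Matrix ι ι F) - 1 with hQ
  set Y : Matrix ι ι F := (x : Matrix ι ι F) - 1 with hY
  have hPQ : P + Q + P * Q = 0 := by
    have h1 : (u : Matrix ι ι F) * ((u⁻¹ : GL ι F) : Matrix ι ι F) = 1 := by
      rw [← Units.val_mul, mul_inv_cancel, Units.val_one]
    have h2 : (u : Matrix ι ι F) = 1 + P := by rw [hP]; abel
    have h3 : ((u⁻¹ : GL ι F) : Matrix ι ι F) = 1 + Q := by rw [hQ]; abel
    rw [h2, h3] at h1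
    have h4 : (1 + P) * (1 + Q) = 1 + (P + Q + P * Q) := by
      rw [add_mul, mul_add, mul_add, one_mul, one_mul, mul_one]
      abel
    rw [h4] at h1
    exact add_left_cancel (a := (1 : Matrix ι ι F)) (by rw [h1, add_zero])
  have key : ((u * x * u⁻¹ : GL ι F) : Matrix ι ι F) - 1
      = Y + (P * Y + Y * Q + P * Y * Q) := by
    have h2 : (u : Matrix ι ι F) = 1 + P := by rw [hP]; abel
    have h3 : ((u⁻¹ : GL ι F) : Matrix ι ι F) = 1 + Q := by rw [hQ]; abel
    have h5 : (x : Matrix ι ι F) = 1 + Y := by rw [hY]; abel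
    rw [Units.val_mul, Units.val_mul, h2, h3, h5]
    have : (1 + P) * (1 + Y) * (1 + Q)
        = 1 + (P + Q + P * Q) + (Y + (P * Y + Y * Q + P * Y * Q)) := by
      simp only [add_mul, mul_add, one_mul, mul_one]
      abel
    rw [this, hPQ, add_zero]
    abel
  have hL : Lower lvl (k + 1) (P * Y + Y * Q + P * Y * Q) := by
    apply Lower.add
    · apply Lower.add
      · exact (Lower.mul hu1 hx).mono (by omega)
      · exact (Lower.mul hx hui).mono (by omega)
    · exact (Lower.mul (Lower.mul hu1 hx) hui).mono (by omega)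
  have hz : (P * Y + Y * Q + P * Y * Q) a b = 0 := by
    by_contra hne
    have := hL a b hne
    omega
  have h6 := congrFun (congrFun key a) b
  rw [Matrix.sub_apply, Matrix.add_apply, hz, add_zero] at h6
  rw [h6, hY, Matrix.sub_apply]

end abstract

/-- **F2**: `E_{g,i}` does not change when a root element `x_g(t)` is conjugated by an element of
`U` -/
theorem Eent_conj_x (D : ChevalleyDatum) (hD : D ∈ Seven) (u : GL D.Idx F)
    (hu : u ∈ D.posUnipotent F) (g : ℕ) (hg : D.IsPosRoot g) (i : ℕ) (hi : i < D.rank) (t : F) :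
    Eent D g i ((u * xGL D hD g t * u⁻¹ : GL D.Idx F) : Matrix D.Idx D.Idx F)
      = ((co D g i : ℤ) : F) * t := by
  obtain ⟨ht, c, hH, -, hG⟩ := exists_goodG D hD
  have hN := negOK_all D hD
  obtain ⟨hng, -, -⟩ := hN g (List.mem_range.2 hg.1)
  obtain ⟨g1, g2, -⟩ := hG g (List.mem_range.2 hg.1) hg
  rw [Eent_eq D g i hi hng]
  have hab : lvlH D ht c (Sum.inl ⟨i, hi⟩)
      = lvlH D ht c (Sum.inr ⟨D.neg g, hng⟩) + (ht.getD g 0 - c) := by
    show c = ht.getD (D.neg g) 0 + (ht.getD g 0 - c)
    have : D.neg g = D.negIdx.getD g 0 := rfl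
    rw [this]
    omega
  have hx : Lower (lvlH D ht c) (ht.getD g 0 - c)
      (((xGL D hD g t : GL D.Idx F) : Matrix D.Idx D.Idx F) - 1) := by
    rw [xGL_val]
    exact x_sub_one_lowerG D ht c hG g hg t
  have h := unitri_conj_entry (lvlH D ht c) (ht.getD g 0 - c) (Sum.inl ⟨i, hi⟩)
    (Sum.inr ⟨D.neg g, hng⟩) hab u (xGL D hD g t) (posUnipotent_leH D ht c hH hu) hx
  have h' := sub_left_injective h
  rw [h', xGL_val]
  have h7 := Eent_x D hD g g i hg hg hi t
  rw [Eent_eq D g i hi hng, if_pos rfl] at h7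
  exact h7

end Cfsg.Agent.Lib.Helper8.ChevE
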