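import Mathlib
import Cfsg.Prelude.Def_ChevStructure
import Cfsg.Agent.Lib.Helper5.ChevNSimple
import Cfsg.Agent.Lib.Helper5.ChevNConj
import Cfsg.Agent.Lib.Helper5.ChevW0
import Cfsg.Agent.Lib.Helper5.ChevGen
import Cfsg.Agent.Lib.Helper8.ChevE2

set_option autoImplicit false

/-!
**F3**: monomial transport. For `n = h n_w ∈ N`, `y ∈ U` and a positive root `g` such that
`w⁻¹ g` is negative, the coefficient of `h_i` in `(n y n⁻¹) e_{-g}` vanishes.
-/

namespace Cfsg.Agent.Lib.Helper8.ChevE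

open Cfsg Cfsg.Lie Cfsg.Agent.Lib.Helper5.UniTri Cfsg.Agent.Lib.Helper5.ChevPosUni
  Cfsg.Agent.Lib.Helper5.ChevHeight Cfsg.Agent.Lib.Helper5.ChevSym Cfsg.Agent.Lib.Helper5.ChevStruct
  Cfsg.Agent.Lib.Helper8.ChevPsi

variable {F : Type*} [Field F]

/-- `M` maps the root vector `e_s` to a multiple of `e_{σ s}`, and the Cartan part into itself -/
def RootPerm (D : ChevalleyDatum) (σ : ℕ → ℕ) (M : Matrix D.Idx D.Idx F) : Prop :=
  (∀ (s : Fin D.nroots) (row : D.Idx), M row (Sum.inr s) ≠ 0 →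
    ∃ s' : Fin D.nroots, row = Sum.inr s' ∧ s'.val = σ s.val) ∧
  (∀ (k : Fin D.rank) (s' : Fin D.nroots), M (Sum.inr s') (Sum.inl k) = 0)

theorem rootPerm_diagonal (D : ChevalleyDatum) (d : D.Idx → F) :
    RootPerm D id (Matrix.diagonal d) := by
  constructor
  · intro s row hne
    by_cases h : row = Sum.inr s
    · exact ⟨s, h, rfl⟩
    · exact absurd (Matrix.diagonal_apply_ne _ h) hne
  · intro k s'
    exact Matrix.diagonal_apply_ne _ (by simp)

theorem rootPerm_one (D : ChevalleyDatum) : RootPerm D id (1 : Matrix D.Idx D.Idx F) := by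
  rw [← Matrix.diagonal_one]
  exact rootPerm_diagonal D _

theorem RootPerm.mul (D : ChevalleyDatum) {σA σB : ℕ → ℕ} {A B : Matrix D.Idx D.Idx F}
    (hA : RootPerm D σA A) (hB : RootPerm D σB B) : RootPerm D (σA ∘ σB) (A * B) := by
  constructor
  · intro s row hne
    rw [Matrix.mul_apply] at hne
    obtain ⟨j, -, hj⟩ := Finset.exists_ne_zero_of_sum_ne_zero hne
    obtain ⟨s1, rfl, hs1⟩ := hB.1 s j (right_ne_zero_of_mul hj)
    obtain ⟨s2, rfl, hs2⟩ := hA.1 s1 row (left_ne_zero_of_mul hj)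
    exact ⟨s2, rfl, by rw [hs2, hs1]; rfl⟩
  · intro k s'
    rw [Matrix.mul_apply]
    apply Finset.sum_eq_zero
    intro j _
    rcases j with k1 | s1
    · rw [hA.2 k1 s', zero_mul]
    · rw [hB.2 k s1, mul_zero]

theorem RootPerm.congr (D : ChevalleyDatum) {σ σ' : ℕ → ℕ} {A : Matrix D.Idx D.Idx F}
    (hA : RootPerm D σ A) (h : ∀ s < D.nroots, σ s = σ' s) : RootPerm D σ' A := by
  constructor
  · intro s row hne
    obtain ⟨s', h1, h2⟩ := hA.1 s row hne
    exact ⟨s', h1, by rw [h2, h s.val s.2]⟩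
  · exact hA.2

theorem rootPerm_monoMat (D : ChevalleyDatum) (i : ℕ) (η : ℕ → ℤ) :
    RootPerm D (D.reflectRoot i) (monoMat D F i η) := by
  constructor
  · intro s row hne
    rcases row with j' | s'
    · exfalso
      apply hne
      simp [monoMat]
    · refine ⟨s', rfl, ?_⟩
      by_contra h
      apply hne
      simp [monoMat, h]
  · intro k s'
    simp [monoMat]

theorem rootPerm_nGL (D : ChevalleyDatum) (hD : D ∈ Seven) (i : ℕ) (hi : i < D.rank) :
    RootPerm D (D.reflectRoot i) ((nGL D hD i : GL D.Idx F) : Matrix D.Idx D.Idx F) := by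
  rw [nGL_val, (nMat_simple D hD i hi).2.2.2.2]
  exact rootPerm_monoMat D i _

theorem rootPerm_wGL (D : ChevalleyDatum) (hD : D ∈ Seven) (w : List ℕ)
    (hw : ∀ i ∈ w, i < D.rank) :
    RootPerm D (wAct D w) ((wGL D hD w : GL D.Idx F) : Matrix D.Idx D.Idx F) := by
  induction w with
  | nil =>
    rw [wGL_nil, Units.val_one]
    exact rootPerm_one D
  | cons i w ih =>
    have hi := hw i (List.mem_cons_self ..)
    have hw' : ∀ j ∈ w, j < D.rank := fun j hj => hw j (List.mem_cons_of_mem _ hj)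
    rw [wGL_cons, Units.val_mul]
    exact (rootPerm_nGL D hD i hi).mul D (ih hw')

theorem rootPerm_diagonalSubgroup (D : ChevalleyDatum) (hD : D ∈ Seven) (h : GL D.Idx F)
    (hh : h ∈ D.diagonalSubgroup F) : RootPerm D id (h : Matrix D.Idx D.Idx F) := by
  obtain ⟨c, -, e⟩ := exists_torusMat_of_mem D hD h hh
  rw [e]
  exact rootPerm_diagonal D _

/-- `w (-r) = - w r` -/
theorem wAct_neg (D : ChevalleyDatum) (hD : D ∈ Seven) (w : List ℕ) (hw : ∀ i ∈ w, i < D.rank)
    (r : ℕ) (hr : r < D.nroots) : wAct D w (D.neg r) = D.neg (wAct D w r) := by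
  induction w with
  | nil => rfl
  | cons i w ih =>
    have hi := hw i (List.mem_cons_self ..)
    have hw' : ∀ j ∈ w, j < D.rank := fun j hj => hw j (List.mem_cons_of_mem _ hj)
    have e2 : ∀ x, wAct D (i :: w) x = D.reflectRoot i (wAct D w x) := fun x => rfl
    rw [e2, e2, ih hw', reflectRoot_neg D hD i hi _ (wAct_lt D hD w hw' r hr)]

/-- **F3** -/
theorem Eent_monomial (D : ChevalleyDatum) (hD : D ∈ Seven) (h : GL D.Idx F)
    (hh : h ∈ D.diagonalSubgroup F) (w : List ℕ) (hw : ∀ j ∈ w, j < D.rank) (y : GL D.Idx F)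
    (hy : y ∈ D.posUnipotent F) (g : ℕ) (hg : D.IsPosRoot g)
    (hneg : D.IsPosRoot (D.neg (wAct D w.reverse g))) (i : ℕ) :
    Eent D g i (((h * wGL D hD w) * y * (h * wGL D hD w)⁻¹ : GL D.Idx F) :
      Matrix D.Idx D.Idx F) = 0 := by
  by_cases hi : i < D.rank
  swap
  · unfold Eent
    rw [dif_neg (fun hc => hi hc.1)]
  obtain ⟨ht, c, hH, -, -⟩ := exists_goodG D hD
  have hN := negOK_all D hD
  obtain ⟨hng, -, -⟩ := hN g (List.mem_range.2 hg.1)
  rw [Eent_eq D g i hi hng]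
  have hwr : ∀ j ∈ w.reverse, j < D.rank := fun j hj => hw j (List.mem_reverse.1 hj)
  -- structure of `n` and `n⁻¹`
  have hn : RootPerm D (wAct D w)
      (((h * wGL D hD w : GL D.Idx F)) : Matrix D.Idx D.Idx F) := by
    rw [Units.val_mul]
    exact ((rootPerm_diagonalSubgroup D hD h hh).mul D (rootPerm_wGL D hD w hw)).congr D
      (fun s _ => rfl)
  obtain ⟨h', hh', einv⟩ := wGL_inv (F := F) D hD w hw
  have hninv : RootPerm D (wAct D w.reverse)
      ((((h * wGL D hD w)⁻¹ : GL D.Idx F)) : Matrix D.Idx D.Idx F) := by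
    rw [mul_inv_rev, einv, Units.val_mul, Units.val_mul]
    exact (((rootPerm_wGL D hD w.reverse hwr).mul D (rootPerm_diagonalSubgroup D hD h' hh')).mul D
      (rootPerm_diagonalSubgroup D hD h⁻¹ (inv_mem hh))).congr D (fun s _ => rfl)
  rw [Units.val_mul, Matrix.mul_apply]
  apply Finset.sum_eq_zero
  intro b _
  by_contra hne
  obtain ⟨s', rfl, hs'⟩ := hninv.1 ⟨D.neg g, hng⟩ b (right_ne_zero_of_mul hne)
  have hs'pos : D.IsPosRoot s'.val := by
    rw [hs']
    show D.IsPosRoot (wAct D w.reverse (D.neg g))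
    rw [wAct_neg D hD w.reverse hwr g hg.1]
    exact hneg
  have h1 := left_ne_zero_of_mul hne
  rw [Units.val_mul, Matrix.mul_apply] at h1
  obtain ⟨a, -, ha⟩ := Finset.exists_ne_zero_of_sum_ne_zero h1
  have hya : (y : Matrix D.Idx D.Idx F) a (Sum.inr s') ≠ 0 := right_ne_zero_of_mul ha
  have hna := left_ne_zero_of_mul ha
  rcases a with k | s''
  · -- a Cartan row of `y` in a positive root column vanishes
    have hL := mem_unitri.1 (posUnipotent_leH D ht c hH hy)
    have h2 : ((y : Matrix D.Idx D.Idx F) - 1) (Sum.inl k) (Sum.inr s') ≠ 0 := by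
      rw [Matrix.sub_apply, Matrix.one_apply_ne (by simp), sub_zero]
      exact hya
    have h3 := hL _ _ h2
    have h4 := (hH s'.val (List.mem_range.2 s'.2) hs'pos).1
    have h5 : lvlH D ht c (Sum.inr s') + (0 + 1) ≤ lvlH D ht c (Sum.inl k) := h3
    have h6 : lvlH D ht c (Sum.inr s') = ht.getD s'.val 0 := rfl
    have h7 : lvlH D ht c (Sum.inl k) = c := rfl
    omega
  · -- a root column of `n` has no Cartan entries
    obtain ⟨s3, h8, -⟩ := hn.1 s'' (Sum.inl ⟨i, hi⟩) hna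
    simp at h8

end Cfsg.Agent.Lib.Helper8.ChevE
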