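import Mathlib
import Cfsg.Prelude.Def_ChevStructure
import Cfsg.Agent.Lib.Helper8.ChevE3

set_option autoImplicit false

/-!
Bridge between the entry functionals `E_{g,i}` and the coefficient functionals `f_j` of the unit PSI:
`E_{p_j, j} = f_j`.
-/

namespace Cfsg.Agent.Lib.Helper8.ChevE

open Cfsg Cfsg.Lie Cfsg.Agent.Lib.Helper5.ChevSym Cfsg.Agent.Lib.Helper5.ChevStruct
  Cfsg.Agent.Lib.Helper8.ChevPsi

variable {F : Type*} [Field F]

/-- `E_{p_j, j}(u) = f_j(u)` -/
theorem Eent_simple_eq_coefEntry (D : ChevalleyDatum) (hD : D ∈ Seven) (j : ℕ) (hj : j < D.rank)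
    (u : GL D.Idx F) :
    Eent D (D.simple j) j (u : Matrix D.Idx D.Idx F) = coefEntry D hD j hj u := by
  rw [Eent_eq D (D.simple j) j hj (neg_simple_lt D hD j hj)]
  rfl

/-- `E_{g,i}` of the identity matrix vanishes -/
theorem Eent_one (D : ChevalleyDatum) (g i : ℕ) : Eent D g i (1 : Matrix D.Idx D.Idx F) = 0 := by
  unfold Eent
  split_ifs with h
  · exact Matrix.one_apply_ne (by simp)
  · rfl

/-- `F2` for a conjugate written the other way round -/
theorem Eent_conj_x' (D : ChevalleyDatum) (hD : D ∈ Seven) (u : GL D.Idx F)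
    (hu : u ∈ D.posUnipotent F) (g : ℕ) (hg : D.IsPosRoot g) (i : ℕ) (hi : i < D.rank) (t : F) :
    Eent D g i ((u⁻¹ * xGL D hD g t * u : GL D.Idx F) : Matrix D.Idx D.Idx F)
      = ((co D g i : ℤ) : F) * t := by
  have h := Eent_conj_x D hD u⁻¹ (inv_mem hu) g hg i hi t
  rwa [inv_inv] at h

/-- `F3` in the shape `n⁻¹ y n` with `w` read forwards -/
theorem Eent_monomial' (D : ChevalleyDatum) (hD : D ∈ Seven) (h : GL D.Idx F)
    (hh : h ∈ D.diagonalSubgroup F) (w : List ℕ) (hw : ∀ j ∈ w, j < D.rank) (y : GL D.Idx F)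
    (hy : y ∈ D.posUnipotent F) (g : ℕ) (hg : D.IsPosRoot g)
    (hneg : D.IsPosRoot (D.neg (wAct D w g))) (i : ℕ) :
    ∃ h' ∈ D.diagonalSubgroup F,
      Eent D g i (((h' * wGL D hD w.reverse) * y * (h' * wGL D hD w.reverse)⁻¹ : GL D.Idx F) :
        Matrix D.Idx D.Idx F) = 0 := by
  refine ⟨h, hh, ?_⟩
  apply Eent_monomial D hD h hh w.reverse (fun j hj => hw j (List.mem_reverse.1 hj)) y hy g hg _ i
  rw [List.reverse_reverse]
  exact hneg

end Cfsg.Agent.Lib.Helper8.ChevE
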