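import Mathlib
import Cfsg.Agent.Lib.Helper5.E6MDefs

set_option autoImplicit false
set_option linter.unusedSectionVars false
set_option linter.unusedVariables false

/-!
Farm E6M (statement S2340), unit PROJ: the projectors `eL l` on the `l`-isotypic parts of `C_V(Z)`
under `Q`: idempotent, orthogonal, sum `= ` projector on `C_V(Z)`, trace `= cM l`, and the
`SL₆`-equivariance `eL_conj_of` (with the units LING and MHOM as hypotheses).
-/

namespace Cfsg.Agent.Lib.Helper8.E6M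

open Cfsg.Agent.Lib.Helper5.E6M Matrix

/-! ### generalities -/

theorem card_T3 : Fintype.card T3 = 20 := by
  rw [Fintype.card_finset_len]; rfl

section charsum

variable {F : Type*} [Field F] [Fintype F] [DecidableEq F] (ψ : AddChar F ℂ)

theorem card_T3fun : (Fintype.card (T3 → F) : ℂ) = (Fintype.card F : ℂ) ^ 20 := by
  rw [Fintype.card_fun, card_T3]; push_cast; rfl

/-- orthogonality on `T3 → F` -/
theorem sum_psi_dot (hψ : ψ ≠ 1) (v : T3 → F) :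
    ∑ s : T3 → F, ψ (v ⬝ᵥ s) = if v = 0 then (Fintype.card F : ℂ) ^ 20 else 0 := by
  split_ifs with hv
  · subst hv
    simp only [zero_dotProduct, AddChar.map_zero_eq_one, Finset.sum_const, Finset.card_univ,
      nsmul_eq_mul, mul_one]
    exact card_T3fun
  · obtain ⟨I, hI⟩ : ∃ I, v I ≠ 0 := by
      by_contra hcon
      push Not at hcon
      exact hv (funext hcon)
    obtain ⟨a, ha⟩ : ∃ a, ψ a ≠ 1 := by
      by_contra hcon
      push Not at hcon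
      exact hψ (by ext a; simpa using hcon a)
    set s₀ : T3 → F := Pi.single I (a / v I) with hs₀
    have h0 : v ⬝ᵥ s₀ = a := by
      rw [hs₀, dotProduct_single, mul_div_cancel₀ _ hI]
    have key : ∑ s : T3 → F, ψ (v ⬝ᵥ s) = ψ a * ∑ s : T3 → F, ψ (v ⬝ᵥ s) := by
      rw [Finset.mul_sum, ← Equiv.sum_comp (Equiv.addLeft s₀)]
      apply Finset.sum_congr rfl
      intro s _
      rw [Equiv.coe_addLeft, dotProduct_add, h0, AddChar.map_add_eq_mul]
    have : (1 - ψ a) * ∑ s : T3 → F, ψ (v ⬝ᵥ s) = 0 := by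
      rw [sub_mul, one_mul, ← key, sub_self]
    rcases mul_eq_zero.mp this with h | h
    · exact absurd (sub_eq_zero.mp h).symm ha
    · exact h

end charsum

/-! ### the twisted group sum -/

section twisted

variable {G : Type*} [Group G] {V : Type*} [AddCommGroup V] [Module ℂ V]
  (ρ : Representation ℂ G V)
  {R M : Type*} [AddCommGroup R] [Fintype R] [AddCommGroup M] [Fintype M]
  (P : R → M → G) (δ : M → M → R)
  (hP : ∀ r x r' x', P r x * P r' x' = P (r + r' + δ x x') (x + x'))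
  (mu : M → ℂ) (hmu : ∀ x x', mu (x + x') = mu x * mu x') (hmu0 : mu 0 = 1)

include hP hmu hmu0 in
theorem twisted_mul (r₀ : R) (x₀ : M) :
    ρ (P r₀ x₀) * (∑ r : R, ∑ x : M, mu (-x) • ρ (P r x)) =
      mu x₀ • ∑ r : R, ∑ x : M, mu (-x) • ρ (P r x) := by
  classical
  have hmuneg : ∀ x, mu (-x) * mu x = 1 := by
    intro x; rw [← hmu, neg_add_cancel, hmu0]
  let σ : R × M ≃ R × M :=
    { toFun := fun a => (r₀ + a.1 + δ x₀ a.2, x₀ + a.2)
      invFun := fun b => (b.1 - r₀ - δ x₀ (b.2 - x₀), b.2 - x₀)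
      left_inv := by
        intro a
        apply Prod.ext
        · simp only [add_sub_cancel_left]
          abel
        · simp only [add_sub_cancel_left]
      right_inv := by
        intro b
        apply Prod.ext
        · simp only
          abel
        · simp only [add_sub_cancel] }
  rw [← Fintype.sum_prod_type' (f := fun r x => mu (-x) • ρ (P r x)), Finset.mul_sum,
    Finset.smul_sum, ← Equiv.sum_comp σ (fun a => mu x₀ • mu (-a.2) • ρ (P a.1 a.2))]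
  apply Finset.sum_congr rfl
  intro a _
  show ρ (P r₀ x₀) * (mu (-a.2) • ρ (P a.1 a.2)) =
    mu x₀ • mu (-(x₀ + a.2)) • ρ (P (r₀ + a.1 + δ x₀ a.2) (x₀ + a.2))
  rw [mul_smul_comm, ← map_mul, hP, smul_smul]
  congr 1
  have h3 : mu (-(x₀ + a.2)) = mu (-x₀) * mu (-a.2) := by
    rw [← hmu]; congr 1; abel
  rw [h3]
  calc mu (-a.2) = (mu (-x₀) * mu x₀) * mu (-a.2) := by rw [hmuneg, one_mul]
    _ = _ := by ring

end twisted

/-! ### unit PROJ -/

section Dm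

variable {F : Type*} [Field F] [Fintype F] [DecidableEq F] {G : Type*} [Group G] (D : Data F G)
  (hD : Rel D) (ψ : AddChar F ℂ) (hψ : ψ ≠ 1)
  {V : Type*} [AddCommGroup V] [Module ℂ V] [FiniteDimensional ℂ V] (ρ : Representation ℂ G V)
  (φ : SL6 F →* G) (hφ : ∀ (p : IJ) (t : F), φ (tv p t) = D.xij p t)

/-- the unnormalised sum -/
noncomputable def sL (l : T3 → F) : Module.End ℂ V :=
  ∑ r : F, ∑ s : T3 → F, ψ (-(l ⬝ᵥ s)) • ρ (Phi D r s)

theorem eL_eq (l : T3 → F) :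
    eL D ψ ρ l = ((Fintype.card F : ℂ) * (Fintype.card F : ℂ) ^ 20)⁻¹ • sL D ψ ρ l := rfl

theorem qq_ne : ((Fintype.card F : ℂ) * (Fintype.card F : ℂ) ^ 20) ≠ 0 := by
  have : (Fintype.card F : ℂ) ≠ 0 := Nat.cast_ne_zero.2 Fintype.card_ne_zero
  exact mul_ne_zero this (pow_ne_zero _ this)

include hD in
theorem Phi_mul_sL (l : T3 → F) (r₀ : F) (s₀ : T3 → F) :
    ρ (Phi D r₀ s₀) * sL D ψ ρ l = ψ (l ⬝ᵥ s₀) • sL D ψ ρ l := by
  have := twisted_mul ρ (fun r s => Phi D r s) bil hD.qlaw (fun s => ψ (l ⬝ᵥ s))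
    (fun x x' => by simp only [dotProduct_add, AddChar.map_add_eq_mul])
    (by simp only [dotProduct_zero, AddChar.map_zero_eq_one]) r₀ s₀
  simp only [dotProduct_neg] at this
  exact this

include hD in
theorem Phi_mul_eL (l : T3 → F) (r₀ : F) (s₀ : T3 → F) :
    ρ (Phi D r₀ s₀) * eL D ψ ρ l = ψ (l ⬝ᵥ s₀) • eL D ψ ρ l := by
  rw [eL_eq, mul_smul_comm, Phi_mul_sL D hD, smul_comm]

include hD in
/-- the product of two projectors -/
theorem eL_mul_eL (l l' : T3 → F) :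
    eL D ψ ρ l * eL D ψ ρ l' =
      (((Fintype.card F : ℂ) ^ 20)⁻¹ * ∑ s : T3 → F, ψ ((l' - l) ⬝ᵥ s)) • eL D ψ ρ l' := by
  have hq : (Fintype.card F : ℂ) ≠ 0 := Nat.cast_ne_zero.2 Fintype.card_ne_zero
  conv_lhs => rw [eL_eq D ψ ρ l]
  rw [smul_mul_assoc]
  unfold sL
  rw [Finset.sum_mul]
  have h1 : ∀ r : F, (∑ s : T3 → F, ψ (-(l ⬝ᵥ s)) • ρ (Phi D r s)) * eL D ψ ρ l' =
      (∑ s : T3 → F, ψ ((l' - l) ⬝ᵥ s)) • eL D ψ ρ l' := by
    intro r
    rw [Finset.sum_mul, Finset.sum_smul]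
    apply Finset.sum_congr rfl
    intro s _
    rw [smul_mul_assoc, Phi_mul_eL D hD, smul_smul, sub_dotProduct, sub_eq_add_neg,
      AddChar.map_add_eq_mul, mul_comm]
  rw [Finset.sum_congr rfl (fun r _ => h1 r), Finset.sum_const, Finset.card_univ,
    ← Nat.cast_smul_eq_nsmul ℂ, smul_smul, smul_smul]
  congr 1
  field_simp

include hD in
theorem eL_idem (l : T3 → F) : eL D ψ ρ l ∘ₗ eL D ψ ρ l = eL D ψ ρ l := by
  have hq : (Fintype.card F : ℂ) ≠ 0 := Nat.cast_ne_zero.2 Fintype.card_ne_zero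
  have := eL_mul_eL D hD ψ ρ l l
  rw [Module.End.mul_eq_comp] at this
  rw [this]
  simp only [sub_self, zero_dotProduct, AddChar.map_zero_eq_one, Finset.sum_const,
    Finset.card_univ, nsmul_eq_mul, mul_one]
  rw [card_T3fun, inv_mul_cancel₀ (pow_ne_zero _ hq), one_smul]

include hD hψ in
theorem eL_orth (l l' : T3 → F) (h : l ≠ l') : eL D ψ ρ l ∘ₗ eL D ψ ρ l' = 0 := by
  have := eL_mul_eL D hD ψ ρ l l'
  rw [Module.End.mul_eq_comp] at this
  rw [this, sum_psi_dot ψ hψ, if_neg (sub_ne_zero.mpr (Ne.symm h)), mul_zero, zero_smul]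

include hD hψ in
theorem sum_eL : ∑ l : T3 → F, eL D ψ ρ l = (Fintype.card F : ℂ)⁻¹ • ∑ r : F, ρ (D.z r) := by
  have hq : (Fintype.card F : ℂ) ≠ 0 := Nat.cast_ne_zero.2 Fintype.card_ne_zero
  simp only [eL_eq, sL]
  rw [← Finset.smul_sum]
  have h1 : ∑ l : T3 → F, ∑ r : F, ∑ s : T3 → F, ψ (-(l ⬝ᵥ s)) • ρ (Phi D r s) =
      ∑ r : F, ∑ s : T3 → F, (∑ l : T3 → F, ψ (-(l ⬝ᵥ s))) • ρ (Phi D r s) := by
    rw [Finset.sum_comm]
    apply Finset.sum_congr rfl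
    intro r _
    rw [Finset.sum_comm]
    apply Finset.sum_congr rfl
    intro s _
    rw [Finset.sum_smul]
  rw [h1]
  have h2 : ∀ s : T3 → F, ∑ l : T3 → F, ψ (-(l ⬝ᵥ s)) =
      if s = 0 then (Fintype.card F : ℂ) ^ 20 else 0 := by
    intro s
    have := sum_psi_dot ψ hψ (-s)
    simp only [neg_eq_zero] at this
    rw [← this]
    apply Finset.sum_congr rfl
    intro l _
    rw [neg_dotProduct, dotProduct_comm]
  simp only [h2, ite_smul, zero_smul, Finset.sum_ite_eq', Finset.mem_univ, if_true]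
  rw [← Finset.smul_sum, smul_smul]
  congr 1
  · field_simp
  · apply Finset.sum_congr rfl
    intro r _
    rw [hD.z_eq]

theorem trace_eL (l : T3 → F) : LinearMap.trace ℂ V (eL D ψ ρ l) = cM D ψ ρ.character l := by
  unfold eL cM
  rw [map_smul, map_sum, smul_eq_mul]
  congr 1
  apply Finset.sum_congr rfl
  intro r _
  rw [map_sum]
  apply Finset.sum_congr rfl
  intro s _
  rw [map_smul, smul_eq_mul]
  rfl

/-- `eL_conj` with the units LING (`hconj`) and MHOM (`hMmul`, `hMone`, `hMT`) as hypotheses -/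
theorem eL_conj_of
    (hconj : ∀ (g : SL6 F) (s : T3 → F),
      ∃ c : F, ∀ r : F, φ g * Phi D r s * (φ g)⁻¹ = Phi D (r + c) (Mm g.1 *ᵥ s))
    (hMmul : ∀ g g' : SL6 F, Mm (g * g').1 = Mm g.1 * Mm g'.1)
    (hMone : Mm (1 : Matrix (Fin 6) (Fin 6) F) = 1)
    (hMT : ∀ g : Matrix (Fin 6) (Fin 6) F, Mm gᵀ = (Mm g)ᵀ)
    (g : SL6 F) (l : T3 → F) :
    ρ (φ g) ∘ₗ eL D ψ ρ l = eL D ψ ρ (Mm (g⁻¹).1ᵀ *ᵥ l) ∘ₗ ρ (φ g) := by
  -- the bijection `s ↦ Mm g *ᵥ s`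
  have hinv1 : Mm g.1 * Mm (g⁻¹).1 = 1 := by
    rw [← hMmul, mul_inv_cancel]; exact hMone
  have hinv2 : Mm (g⁻¹).1 * Mm g.1 = 1 := by
    rw [← hMmul, inv_mul_cancel]; exact hMone
  let e : (T3 → F) ≃ (T3 → F) :=
    { toFun := fun s => Mm g.1 *ᵥ s
      invFun := fun s => Mm (g⁻¹).1 *ᵥ s
      left_inv := fun s => by
        show Mm (g⁻¹).1 *ᵥ (Mm g.1 *ᵥ s) = s
        rw [mulVec_mulVec, hinv2, one_mulVec]
      right_inv := fun s => by
        show Mm g.1 *ᵥ (Mm (g⁻¹).1 *ᵥ s) = s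
        rw [mulVec_mulVec, hinv1, one_mulVec] }
  have hL : ρ (φ g) * sL D ψ ρ l =
      ∑ s : T3 → F, ∑ r : F, ψ (-(l ⬝ᵥ s)) • (ρ (φ g) * ρ (Phi D r s)) := by
    unfold sL
    simp only [Finset.mul_sum, mul_smul_comm]
    exact Finset.sum_comm
  have hR : sL D ψ ρ (Mm (g⁻¹).1ᵀ *ᵥ l) * ρ (φ g) =
      ∑ s : T3 → F, ∑ r : F,
        ψ (-((Mm (g⁻¹).1ᵀ *ᵥ l) ⬝ᵥ s)) • (ρ (Phi D r s) * ρ (φ g)) := by
    unfold sL
    simp only [Finset.sum_mul, smul_mul_assoc]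
    exact Finset.sum_comm
  have hmain : ρ (φ g) * sL D ψ ρ l = sL D ψ ρ (Mm (g⁻¹).1ᵀ *ᵥ l) * ρ (φ g) := by
    rw [hL, hR, ← Equiv.sum_comp e (fun s => ∑ r : F,
      ψ (-((Mm (g⁻¹).1ᵀ *ᵥ l) ⬝ᵥ s)) • (ρ (Phi D r s) * ρ (φ g)))]
    apply Finset.sum_congr rfl
    intro s _
    obtain ⟨c, hc⟩ := hconj g s
    show ∑ r : F, ψ (-(l ⬝ᵥ s)) • (ρ (φ g) * ρ (Phi D r s)) =
      ∑ r : F, ψ (-((Mm (g⁻¹).1ᵀ *ᵥ l) ⬝ᵥ (Mm g.1 *ᵥ s))) •
        (ρ (Phi D r (Mm g.1 *ᵥ s)) * ρ (φ g))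
    have hdot : (Mm (g⁻¹).1ᵀ *ᵥ l) ⬝ᵥ (Mm g.1 *ᵥ s) = l ⬝ᵥ s := by
      rw [hMT, mulVec_transpose, ← dotProduct_mulVec, mulVec_mulVec, hinv2, one_mulVec]
    rw [hdot, ← Equiv.sum_comp (Equiv.addRight c)
      (fun r => ψ (-(l ⬝ᵥ s)) • (ρ (Phi D r (Mm g.1 *ᵥ s)) * ρ (φ g)))]
    apply Finset.sum_congr rfl
    intro r _
    rw [Equiv.coe_addRight, ← hc r]
    congr 1
    rw [← map_mul, ← map_mul]
    congr 1
    group
  rw [eL_eq, eL_eq, ← Module.End.mul_eq_comp, ← Module.End.mul_eq_comp, mul_smul_comm,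
    smul_mul_assoc, hmain]

end Dm

end Cfsg.Agent.Lib.Helper8.E6M
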