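import Mathlib
import Cfsg.Agent.Lib.Helper2.E6M2DefsB
import Cfsg.Agent.Lib.Helper8.E6MPROJ

set_option autoImplicit false
set_option linter.unusedSectionVars false
set_option linter.unusedVariables false

/-!
Farm E6M2 (statement S2341), layer B2, unit PROJ2: the projectors `eL l` on the `l`-isotypic parts
of `C_V(Z)` under `Q`: idempotent, orthogonal, sum `=` projector on `C_V(Z)`, trace `= cM l`, and
the `L`-equivariance.
-/

namespace Cfsg.Agent.Lib.Helper8.E6M2B

open Cfsg.Agent.Lib.Helper2.E6M2B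

section Dm

variable {F Lam L G : Type*} [Field F] [Fintype F] [DecidableEq F] [AddCommGroup Lam]
  [Module F Lam] [Fintype Lam] [DecidableEq Lam] [Group L] [Group G] (D : Data F Lam L G) (m : ℕ)
  (hD : Rel D m)
  {V : Type*} [AddCommGroup V] [Module ℂ V] [FiniteDimensional ℂ V] (ρ : Representation ℂ G V)

/-- the unnormalised sum -/
noncomputable def sL (l : AddChar Lam ℂ) : Module.End ℂ V :=
  ∑ r : F, ∑ s : Lam, l (-s) • ρ (D.Psi r s)

theorem eL_eq (l : AddChar Lam ℂ) :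
    eL D ρ l = ((Fintype.card F : ℂ) * (Fintype.card Lam : ℂ))⁻¹ • sL D ρ l := rfl

theorem cardF_ne : (Fintype.card F : ℂ) ≠ 0 := Nat.cast_ne_zero.2 Fintype.card_ne_zero

theorem cardLam_ne : (Fintype.card Lam : ℂ) ≠ 0 := Nat.cast_ne_zero.2 Fintype.card_ne_zero

include hD in
theorem Psi_mul_sL (l : AddChar Lam ℂ) (r₀ : F) (s₀ : Lam) :
    ρ (D.Psi r₀ s₀) * sL D ρ l = l s₀ • sL D ρ l :=
  Helper8.E6M.twisted_mul ρ (fun r s => D.Psi r s) (fun s s' => D.beta s s') hD.qlaw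
    (fun s => l s) (fun x x' => AddChar.map_add_eq_mul l x x') (AddChar.map_zero_eq_one l) r₀ s₀

include hD in
theorem Psi_mul_eL (l : AddChar Lam ℂ) (r₀ : F) (s₀ : Lam) :
    ρ (D.Psi r₀ s₀) * eL D ρ l = l s₀ • eL D ρ l := by
  rw [eL_eq, mul_smul_comm, Psi_mul_sL D m hD, smul_comm]

include hD in
/-- the product of two projectors -/
theorem eL_mul_eL (l l' : AddChar Lam ℂ) :
    eL D ρ l * eL D ρ l' =
      ((Fintype.card Lam : ℂ)⁻¹ * ∑ s : Lam, (l' - l) s) • eL D ρ l' := by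
  have hq : (Fintype.card F : ℂ) ≠ 0 := cardF_ne
  have hL : (Fintype.card Lam : ℂ) ≠ 0 := cardLam_ne
  conv_lhs => rw [eL_eq D ρ l]
  rw [smul_mul_assoc]
  unfold sL
  rw [Finset.sum_mul]
  have h1 : ∀ r : F, (∑ s : Lam, l (-s) • ρ (D.Psi r s)) * eL D ρ l' =
      (∑ s : Lam, (l' - l) s) • eL D ρ l' := by
    intro r
    rw [Finset.sum_mul, Finset.sum_smul]
    apply Finset.sum_congr rfl
    intro s _
    rw [smul_mul_assoc, Psi_mul_eL D m hD, smul_smul, AddChar.sub_apply, mul_comm]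
  rw [Finset.sum_congr rfl (fun r _ => h1 r), Finset.sum_const, Finset.card_univ,
    ← Nat.cast_smul_eq_nsmul ℂ, smul_smul, smul_smul]
  congr 1
  field_simp

include hD in
theorem eL_idem (l : AddChar Lam ℂ) : eL D ρ l ∘ₗ eL D ρ l = eL D ρ l := by
  have hL : (Fintype.card Lam : ℂ) ≠ 0 := cardLam_ne
  have := eL_mul_eL D m hD ρ l l
  rw [Module.End.mul_eq_comp] at this
  rw [this, sub_self]
  simp only [AddChar.zero_apply, Finset.sum_const, Finset.card_univ, nsmul_eq_mul, mul_one]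
  rw [inv_mul_cancel₀ hL, one_smul]

include hD in
theorem eL_orth (l l' : AddChar Lam ℂ) (h : l ≠ l') : eL D ρ l ∘ₗ eL D ρ l' = 0 := by
  have := eL_mul_eL D m hD ρ l l'
  rw [Module.End.mul_eq_comp] at this
  rw [this, AddChar.sum_eq_zero_iff_ne_zero.2 (sub_ne_zero.mpr (Ne.symm h)), mul_zero, zero_smul]

include hD in
theorem sum_eL : ∑ l : AddChar Lam ℂ, eL D ρ l =
    (Fintype.card F : ℂ)⁻¹ • ∑ r : F, ρ (D.Psi r 0) := by
  have hq : (Fintype.card F : ℂ) ≠ 0 := cardF_ne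
  have hL : (Fintype.card Lam : ℂ) ≠ 0 := cardLam_ne
  simp only [eL_eq, sL]
  rw [← Finset.smul_sum]
  have h1 : ∑ l : AddChar Lam ℂ, ∑ r : F, ∑ s : Lam, l (-s) • ρ (D.Psi r s) =
      ∑ r : F, ∑ s : Lam, (∑ l : AddChar Lam ℂ, l (-s)) • ρ (D.Psi r s) := by
    rw [Finset.sum_comm]
    apply Finset.sum_congr rfl
    intro r _
    rw [Finset.sum_comm]
    apply Finset.sum_congr rfl
    intro s _
    rw [Finset.sum_smul]
  rw [h1]
  have h2 : ∀ s : Lam, ∑ l : AddChar Lam ℂ, l (-s) =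
      if s = 0 then (Fintype.card Lam : ℂ) else 0 := by
    intro s
    rw [AddChar.sum_apply_eq_ite]
    simp only [neg_eq_zero]
  simp only [h2, ite_smul, zero_smul, Finset.sum_ite_eq', Finset.mem_univ, if_true]
  rw [← Finset.smul_sum, smul_smul]
  congr 1
  field_simp

theorem trace_eL (l : AddChar Lam ℂ) :
    LinearMap.trace ℂ V (eL D ρ l) = cM D ρ.character l := by
  unfold eL cM
  rw [map_smul, map_sum, smul_eq_mul]
  congr 1
  apply Finset.sum_congr rfl
  intro r _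
  rw [map_sum]
  apply Finset.sum_congr rfl
  intro s _
  rw [map_smul, smul_eq_mul]
  rfl

theorem actC_apply (g : L) (l : AddChar Lam ℂ) (s : Lam) : actC D g l s = l (D.act g⁻¹ s) := rfl

theorem act_inv_act (g : L) (s : Lam) : D.act g⁻¹ (D.act g s) = s := by
  rw [← LinearEquiv.mul_apply, ← map_mul, inv_mul_cancel, map_one]
  rfl

theorem act_act_inv (g : L) (s : Lam) : D.act g (D.act g⁻¹ s) = s := by
  rw [← LinearEquiv.mul_apply, ← map_mul, mul_inv_cancel, map_one]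
  rfl

include hD in
theorem eL_conj (g : L) (l : AddChar Lam ℂ) :
    ρ (D.phi g) ∘ₗ eL D ρ l = eL D ρ (actC D g l) ∘ₗ ρ (D.phi g) := by
  let e : Lam ≃ Lam := (D.act g).toEquiv
  have hL : ρ (D.phi g) * sL D ρ l =
      ∑ s : Lam, ∑ r : F, l (-s) • (ρ (D.phi g) * ρ (D.Psi r s)) := by
    unfold sL
    simp only [Finset.mul_sum, mul_smul_comm]
    exact Finset.sum_comm
  have hR : sL D ρ (actC D g l) * ρ (D.phi g) =
      ∑ s : Lam, ∑ r : F, (actC D g l) (-s) • (ρ (D.Psi r s) * ρ (D.phi g)) := by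
    unfold sL
    simp only [Finset.sum_mul, smul_mul_assoc]
    exact Finset.sum_comm
  have hmain : ρ (D.phi g) * sL D ρ l = sL D ρ (actC D g l) * ρ (D.phi g) := by
    rw [hL, hR, ← Equiv.sum_comp e (fun s => ∑ r : F,
      (actC D g l) (-s) • (ρ (D.Psi r s) * ρ (D.phi g)))]
    apply Finset.sum_congr rfl
    intro s _
    obtain ⟨c, hc⟩ := hD.conj g s
    show ∑ r : F, l (-s) • (ρ (D.phi g) * ρ (D.Psi r s)) =
      ∑ r : F, (actC D g l) (-(D.act g s)) • (ρ (D.Psi r (D.act g s)) * ρ (D.phi g))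
    have hdot : (actC D g l) (-(D.act g s)) = l (-s) := by
      rw [actC_apply, map_neg, act_inv_act]
    rw [hdot, ← Equiv.sum_comp (Equiv.addRight c)
      (fun r => l (-s) • (ρ (D.Psi r (D.act g s)) * ρ (D.phi g)))]
    apply Finset.sum_congr rfl
    intro r _
    rw [Equiv.coe_addRight, ← hc r]
    congr 1
    rw [← map_mul, ← map_mul]
    congr 1
    group
  rw [eL_eq, eL_eq, ← Module.End.mul_eq_comp, ← Module.End.mul_eq_comp, mul_smul_comm,
    smul_mul_assoc, hmain]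

end Dm

end Cfsg.Agent.Lib.Helper8.E6M2B
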