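import Mathlib
import Cfsg.Prelude.Def_Balance
import Cfsg.Agent.Lib.Helper8.SigFun2
import Cfsg.Agent.S1282
set_option autoImplicit false
set_option linter.style.haveILetI false

namespace Cfsg.Agent.Lib.Helper8.SigFun

open Cfsg

variable {G : Type*} [Group G]

/-- Conjugacy under `θ(C_G(A))`. -/
def SConj (A : Subgroup G) (θ : G → Subgroup G) (Q₁ Q₂ : Subgroup G) : Prop :=
  ∃ c ∈ signalizerInf A θ, Q₁.map (MulAut.conj c).toMonoidHom = Q₂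

theorem sconj_refl (A : Subgroup G) (θ : G → Subgroup G) (Q : Subgroup G) : SConj A θ Q Q := by
  refine ⟨1, Subgroup.one_mem _, ?_⟩
  ext x
  simp [Subgroup.mem_map]

theorem sconj_symm {A : Subgroup G} {θ : G → Subgroup G} {Q₁ Q₂ : Subgroup G}
    (h : SConj A θ Q₁ Q₂) : SConj A θ Q₂ Q₁ := by
  obtain ⟨c, hc, rfl⟩ := h
  exact ⟨c⁻¹, Subgroup.inv_mem _ hc, map_conj_inv_map_conj' c Q₁⟩

theorem sconj_trans {A : Subgroup G} {θ : G → Subgroup G} {Q₁ Q₂ Q₃ : Subgroup G}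
    (h : SConj A θ Q₁ Q₂) (h' : SConj A θ Q₂ Q₃) : SConj A θ Q₁ Q₃ := by
  obtain ⟨c, hc, rfl⟩ := h
  obtain ⟨d, hd, rfl⟩ := h'
  refine ⟨d * c, Subgroup.mul_mem _ hd hc, ?_⟩
  rw [Subgroup.map_map]
  congr 1
  ext x
  simp [MulAut.conj_apply, mul_assoc]

theorem map_subtype_conj_smul {q : ℕ} (K : Subgroup G) (c : K) (P Q : Sylow q K)
    (h : MulAut.conj c • P = Q) :
    ((P : Subgroup K).map K.subtype).map (MulAut.conj (c : G)).toMonoidHom =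
      (Q : Subgroup K).map K.subtype := by
  subst h
  ext x
  constructor
  · rintro ⟨_, ⟨y, hy, rfl⟩, rfl⟩
    refine ⟨c * y * c⁻¹, ?_, by simp [MulAut.conj_apply]⟩
    rw [SetLike.mem_coe, Sylow.pointwise_smul_def, Subgroup.mem_pointwise_smul_iff_inv_smul_mem]
    have e : (MulAut.conj c)⁻¹ • (c * y * c⁻¹) = y := by
      simp [MulAut.smul_def, MulAut.conj_apply, mul_assoc]
    rw [e]
    exact hy
  · rintro ⟨z, hz, rfl⟩
    rw [SetLike.mem_coe, Sylow.pointwise_smul_def,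
      Subgroup.mem_pointwise_smul_iff_inv_smul_mem] at hz
    refine ⟨_, ⟨_, hz, rfl⟩, ?_⟩
    simp [MulAut.smul_def, MulAut.conj_apply, mul_assoc]

variable {p : ℕ} {A : Subgroup G} {θ : G → Subgroup G}

theorem transitivity_aux [Finite G] [Fact p.Prime] (hA : IsElementaryAbelian p A)
    (hA3 : p ^ 3 ≤ Nat.card ↥A) (hθ : IsSolvableSignalizerFunctor p A θ) {q : ℕ} [Fact q.Prime]
    (hqp : q ≠ p) (n : ℕ) : ∀ Q₁ Q₂ : Subgroup G, IsMaxQ p A θ q Q₁ → IsMaxQ p A θ q Q₂ →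
      Nat.card G - Nat.card ↥(Q₁ ⊓ Q₂ : Subgroup G) < n → SConj A θ Q₁ Q₂ := by
  induction n with
  | zero => intro _ _ _ _ h; omega
  | succ n ih =>
    intro Q₁ Q₂ hQ₁ hQ₂ hn
    by_cases hne : Q₁ = Q₂
    · subst hne; exact sconj_refl _ _ _
    have hD₁ : Q₁ ⊓ Q₂ ≠ Q₁ := by
      intro h
      have : Q₁ ≤ Q₂ := inf_eq_left.1 h
      exact hne (hQ₁.2.2 Q₂ hQ₂.1 hQ₂.2.1 this).symm
    have hD₂ : Q₁ ⊓ Q₂ ≠ Q₂ := by
      intro h
      have : Q₂ ≤ Q₁ := inf_eq_right.1 h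
      exact hne (hQ₂.2.2 Q₁ hQ₁.1 hQ₁.2.1 this)
    have hA₁ : A ≤ Subgroup.normalizer (Q₁ : Set G) := le_normalizer_of_conj_mem' hQ₁.1.2.2.1
    have hA₂ : A ≤ Subgroup.normalizer (Q₂ : Set G) := le_normalizer_of_conj_mem' hQ₂.1.2.2.1
    obtain ⟨a, ha, ha1, hT₁, hT₂⟩ := Cfsg.Agent.S1282.result p A hA hA3 q hqp Q₁ Q₂ hQ₁.2.1
      hQ₂.2.1 hA₁ hA₂ hD₁ hD₂
    have hAD : A ≤ Subgroup.normalizer ((Q₁ ⊓ Q₂ : Subgroup G) : Set G) :=
      Cfsg.Agent.Lib.Helper1.le_normalizer_inf hA₁ hA₂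
    have hDF : Q₁ ⊓ Q₂ ∈ signalizerFamily p A θ :=
      fam_of_le hQ₁.1 inf_le_left (conj_mem_of_le_normalizer hAD)
    have hAX : A ≤ Subgroup.normalizer
        ((θ a ⊓ Subgroup.normalizer ((Q₁ ⊓ Q₂ : Subgroup G) : Set G) : Subgroup G) : Set G) :=
      Cfsg.Agent.Lib.Helper1.le_normalizer_inf
        (le_normalizer_of_conj_mem' (hθ.1.2.2.1 a ha ha1)) (hAD.trans Subgroup.le_normalizer)
    have hXF : θ a ⊓ Subgroup.normalizer ((Q₁ ⊓ Q₂ : Subgroup G) : Set G) ∈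
        signalizerFamily p A θ :=
      fam_of_le (theta_mem_fam hθ ha ha1) inf_le_left (conj_mem_of_le_normalizer hAX)
    have hKF : (Q₁ ⊓ Q₂) ⊔ (θ a ⊓ Subgroup.normalizer ((Q₁ ⊓ Q₂ : Subgroup G) : Set G)) ∈
        signalizerFamily p A θ := fam_sup hA.2 hDF hXF inf_le_right
    obtain ⟨K, hK⟩ : ∃ K : Subgroup G, K =
      (Q₁ ⊓ Q₂) ⊔ (θ a ⊓ Subgroup.normalizer ((Q₁ ⊓ Q₂ : Subgroup G) : Set G)) := ⟨_, rfl⟩
    rw [← hK] at hKF
    have hDK : Q₁ ⊓ Q₂ ≤ K := hK ▸ le_sup_left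
    have hT₁K : Subgroup.normalizer ((Q₁ ⊓ Q₂ : Subgroup G) : Set G) ⊓ Q₁ ⊓
        Subgroup.centralizer {a} ≤ Q₁ ⊓ K := by
      intro x hx
      refine ⟨hx.1.2, ?_⟩
      rw [hK]
      exact Subgroup.mem_sup_right ⟨hQ₁.1.2.2.2 a ha ha1 ⟨hx.1.2, hx.2⟩, hx.1.1⟩
    have hT₂K : Subgroup.normalizer ((Q₁ ⊓ Q₂ : Subgroup G) : Set G) ⊓ Q₂ ⊓
        Subgroup.centralizer {a} ≤ Q₂ ⊓ K := by
      intro x hx
      refine ⟨hx.1.2, ?_⟩
      rw [hK]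
      exact Subgroup.mem_sup_right ⟨hQ₂.1.2.2.2 a ha ha1 ⟨hx.1.2, hx.2⟩, hx.1.1⟩
    have hAK : A ≤ Subgroup.normalizer (K : Set G) := le_normalizer_of_conj_mem' hKF.2.2.1
    have hp : p.Prime := Fact.out
    have hcop : (Nat.card ↥A).Coprime (Nat.card ↥K) := by
      have hAp : IsPGroup p ↥A := Cfsg.Agent.Lib.Helper8.Hyperplane.isPGroup_of_pow_eq_one hA.2
      obtain ⟨k, hk⟩ := IsPGroup.iff_card.1 hAp
      rw [hk]
      exact Nat.Coprime.pow_left _ ((Nat.Prime.coprime_iff_not_dvd hp).2 hKF.2.1)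
    have hsolv : Group.IsSolvable ↥A ∨ Group.IsSolvable ↥K := Or.inr hKF.1
    obtain ⟨R₁, hU₁R₁, hAR₁⟩ := Cfsg.Agent.Lib.Helper1.coprime_invariant_le_sylow A K hAK hcop
      hsolv q (Q₁ ⊓ K) inf_le_right (hQ₁.2.1.to_le inf_le_left)
      (Cfsg.Agent.Lib.Helper1.le_normalizer_inf hA₁ hAK)
    obtain ⟨R₂, hU₂R₂, hAR₂⟩ := Cfsg.Agent.Lib.Helper1.coprime_invariant_le_sylow A K hAK hcop
      hsolv q (Q₂ ⊓ K) inf_le_right (hQ₂.2.1.to_le inf_le_left)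
      (Cfsg.Agent.Lib.Helper1.le_normalizer_inf hA₂ hAK)
    obtain ⟨c, hcA, hc⟩ := Cfsg.Agent.Lib.Helper1.coprime_invariant_sylow_conj A K hAK hcop hsolv
      q R₁ R₂ hAR₁ hAR₂
    have hcS : (c : G) ∈ signalizerInf A θ := inf_centralizer_le_signalizerInf hKF ⟨c.2, hcA⟩
    have hR₁F : (R₁ : Subgroup K).map K.subtype ∈ signalizerFamily p A θ :=
      fam_of_le hKF (Subgroup.map_subtype_le _) (conj_mem_of_le_normalizer hAR₁)
    have hR₂F : (R₂ : Subgroup K).map K.subtype ∈ signalizerFamily p A θ :=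
      fam_of_le hKF (Subgroup.map_subtype_le _) (conj_mem_of_le_normalizer hAR₂)
    obtain ⟨Q₁', hQ₁', hR₁Q₁'⟩ := exists_isMaxQ_ge hR₁F (R₁.isPGroup'.map _)
    obtain ⟨Q₂', hQ₂', hR₂Q₂'⟩ := exists_isMaxQ_ge hR₂F (R₂.isPGroup'.map _)
    have hcR := map_subtype_conj_smul K c R₁ R₂ hc
    have key : ∀ P P' : Subgroup G, Q₁ ⊓ Q₂ ≤ P ⊓ P' → ¬ (P ⊓ P' ≤ Q₁ ⊓ Q₂) →
        Nat.card G - Nat.card ↥(P ⊓ P' : Subgroup G) < n := by
      intro P P' hle hnle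
      have h1 : Nat.card ↥(Q₁ ⊓ Q₂ : Subgroup G) < Nat.card ↥(P ⊓ P' : Subgroup G) := by
        by_contra hcon
        push Not at hcon
        exact hnle (Subgroup.eq_of_le_of_card_ge hle hcon).ge
      have h2 : Nat.card ↥(P ⊓ P' : Subgroup G) ≤ Nat.card G := Subgroup.card_le_card_group _
      omega
    have s1 : SConj A θ Q₁ Q₁' := by
      apply ih Q₁ Q₁' hQ₁ hQ₁'
      apply key
      · exact le_inf inf_le_left ((le_inf inf_le_left hDK).trans (hU₁R₁.trans hR₁Q₁'))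
      · intro h
        apply hT₁
        refine le_trans ?_ h
        exact le_inf (hT₁K.trans inf_le_left) (hT₁K.trans (hU₁R₁.trans hR₁Q₁'))
    have s2 : SConj A θ Q₁' (Q₁'.map (MulAut.conj (c : G)).toMonoidHom) := ⟨c, hcS, rfl⟩
    have hR₂c : (R₂ : Subgroup K).map K.subtype ≤ Q₁'.map (MulAut.conj (c : G)).toMonoidHom := by
      rw [← hcR]
      exact Subgroup.map_mono hR₁Q₁'
    have s3 : SConj A θ (Q₁'.map (MulAut.conj (c : G)).toMonoidHom) Q₂' := by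
      apply ih _ _ (isMaxQ_conj hθ hQ₁' hcS) hQ₂'
      apply key
      · exact le_inf ((le_inf inf_le_right hDK).trans (hU₂R₂.trans hR₂c))
          ((le_inf inf_le_right hDK).trans (hU₂R₂.trans hR₂Q₂'))
      · intro h
        apply hT₂
        refine le_trans ?_ h
        exact le_inf (hT₂K.trans (hU₂R₂.trans hR₂c)) (hT₂K.trans (hU₂R₂.trans hR₂Q₂'))
    have s4 : SConj A θ Q₂' Q₂ := by
      apply ih Q₂' Q₂ hQ₂' hQ₂
      apply key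
      · exact le_inf ((le_inf inf_le_right hDK).trans (hU₂R₂.trans hR₂Q₂')) inf_le_right
      · intro h
        apply hT₂
        refine le_trans ?_ h
        exact le_inf (hT₂K.trans (hU₂R₂.trans hR₂Q₂')) (hT₂K.trans inf_le_left)
    exact sconj_trans (sconj_trans (sconj_trans s1 s2) s3) s4

theorem transitivity [Finite G] [Fact p.Prime] (hA : IsElementaryAbelian p A)
    (hA3 : p ^ 3 ≤ Nat.card ↥A) (hθ : IsSolvableSignalizerFunctor p A θ) {q : ℕ} [Fact q.Prime]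
    (hqp : q ≠ p) {Q₁ Q₂ : Subgroup G} (h₁ : IsMaxQ p A θ q Q₁) (h₂ : IsMaxQ p A θ q Q₂) :
    SConj A θ Q₁ Q₂ :=
  transitivity_aux hA hA3 hθ hqp _ Q₁ Q₂ h₁ h₂ (Nat.lt_succ_self _)

end Cfsg.Agent.Lib.Helper8.SigFun
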