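import Mathlib
import Cfsg.Agent.Lib.Helper8.SigFun3
import Cfsg.Agent.Lib.Helper7.Generation3
import Cfsg.Agent.Lib.Helper7.PGroupComm
import Cfsg.Agent.Lib.Helper7.ProdSet
import Cfsg.Agent.Lib.Helper2.Nilpotent
set_option autoImplicit false
set_option linter.style.haveILetI false

/-! Wielandt's order formula for a group of type `(p, p)` acting coprimely: the `q`-group step. -/

namespace Cfsg.Agent.Lib.Helper8.Wielandt

variable {G : Type*} [Group G]

/-- Generators of the `p + 1` subgroups of order `p` of `⟨x, y⟩`. -/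
def hyp (p : ℕ) (x y : G) : Option (ZMod p) → G
  | none => y
  | some c => x * y ^ c.val

/-- Order of the centralizer of `B` in `Q`. -/
noncomputable def cc (Q B : Subgroup G) : ℕ := Nat.card ↥(Q ⊓ Subgroup.centralizer (B : Set G))

theorem cc_pos [Finite G] (Q B : Subgroup G) : 0 < cc Q B := Nat.card_pos

/-- The order formula. -/
def Formula (p : ℕ) [Fact p.Prime] (x y : G) (A Q : Subgroup G) : Prop :=
  Nat.card ↥Q * ∏ _i : Option (ZMod p), cc Q A =
    cc Q A * ∏ i : Option (ZMod p), cc Q (Subgroup.zpowers (hyp p x y i))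

theorem hyp_gen {p : ℕ} [Fact p.Prime] {x y : G} (hy : y ^ p = 1)
    {i j : Option (ZMod p)} (hij : i ≠ j) (T : Subgroup G) (hi : hyp p x y i ∈ T)
    (hj : hyp p x y j ∈ T) : x ∈ T ∧ y ∈ T := by
  have key : ∀ c d : ZMod p, c ≠ d → x * y ^ c.val ∈ T → x * y ^ d.val ∈ T → x ∈ T ∧ y ∈ T := by
    intro c d hcd hc hd
    have h1 : y ^ (c - d).val ∈ T := by
      have e1 : y ^ c.val = y ^ (c - d).val * y ^ d.val := by
        rw [← Cfsg.Agent.Lib.Helper7.pow_val_add hy, sub_add_cancel]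
      have e2 : y ^ (c - d).val = (x * y ^ d.val)⁻¹ * (x * y ^ c.val) := by
        rw [e1]
        have hcd' : Commute (y ^ (c - d).val) (y ^ d.val) := (Commute.refl y).pow_pow _ _
        have e3 : (x * y ^ d.val)⁻¹ * (x * (y ^ (c - d).val * y ^ d.val)) =
            (y ^ d.val)⁻¹ * (y ^ (c - d).val * y ^ d.val) := by group
        rw [e3, hcd'.eq]
        group
      rw [e2]
      exact T.mul_mem (T.inv_mem hd) hc
    have hne : c - d ≠ 0 := sub_ne_zero.2 hcd
    have h2 : y ∈ T := by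
      have e : y = (y ^ (c - d).val) ^ ((c - d)⁻¹).val := by
        rw [← Cfsg.Agent.Lib.Helper7.pow_val_mul hy, mul_inv_cancel₀ hne,
          Cfsg.Agent.Lib.Helper7.pow_val_one]
      rw [e]
      exact T.pow_mem h1 _
    refine ⟨?_, h2⟩
    have e : x = (x * y ^ c.val) * (y ^ c.val)⁻¹ := by group
    rw [e]
    exact T.mul_mem hc (T.inv_mem (T.pow_mem h2 _))
  rcases i with _ | c <;> rcases j with _ | d
  · exact absurd rfl hij
  · have hy' : y ∈ T := hi
    refine ⟨?_, hy'⟩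
    have e : x = (x * y ^ d.val) * (y ^ d.val)⁻¹ := by group
    rw [e]
    exact T.mul_mem hj (T.inv_mem (T.pow_mem hy' _))
  · have hy' : y ∈ T := hj
    refine ⟨?_, hy'⟩
    have e : x = (x * y ^ c.val) * (y ^ c.val)⁻¹ := by group
    rw [e]
    exact T.mul_mem hi (T.inv_mem (T.pow_mem hy' _))
  · exact key c d (fun h => hij (by rw [h])) hi hj


/-- The kernel of the action on the section `S / V`. -/
def ker (S V : Subgroup G) : Subgroup G where
  carrier := {a | a ∈ Subgroup.normalizer (S : Set G) ∧ a ∈ Subgroup.normalizer (V : Set G) ∧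
    ∀ s ∈ S, a * s * a⁻¹ * s⁻¹ ∈ V}
  one_mem' := ⟨Subgroup.one_mem _, Subgroup.one_mem _, fun s _ => by simp⟩
  mul_mem' := by
    rintro a b ⟨haS, haV, ha⟩ ⟨hbS, hbV, hb⟩
    refine ⟨Subgroup.mul_mem _ haS hbS, Subgroup.mul_mem _ haV hbV, ?_⟩
    intro s hs
    have h1 : a * (b * s * b⁻¹ * s⁻¹) * a⁻¹ ∈ V :=
      (Subgroup.mem_normalizer_iff.1 haV _).1 (hb s hs)
    have e : a * b * s * (a * b)⁻¹ * s⁻¹ = a * (b * s * b⁻¹ * s⁻¹) * a⁻¹ * (a * s * a⁻¹ * s⁻¹) := by
      group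
    rw [e]
    exact V.mul_mem h1 (ha s hs)
  inv_mem' := by
    rintro a ⟨haS, haV, ha⟩
    refine ⟨Subgroup.inv_mem _ haS, Subgroup.inv_mem _ haV, ?_⟩
    intro s hs
    have hs' : a⁻¹ * s * a ∈ S := by
      have := (Subgroup.mem_normalizer_iff.1 (Subgroup.inv_mem _ haS) s).1 hs
      simpa using this
    have h1 := V.inv_mem (ha _ hs')
    have e : (a * (a⁻¹ * s * a) * a⁻¹ * (a⁻¹ * s * a)⁻¹)⁻¹ = a⁻¹ * s * a⁻¹⁻¹ * s⁻¹ := by group
    rw [e] at h1
    exact h1

theorem mem_ker {S V : Subgroup G} {a : G} : a ∈ ker S V ↔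
    a ∈ Subgroup.normalizer (S : Set G) ∧ a ∈ Subgroup.normalizer (V : Set G) ∧
      ∀ s ∈ S, a * s * a⁻¹ * s⁻¹ ∈ V := Iff.rfl

/-- `A` abelian normalizes the centralizer of any of its subgroups. -/
theorem le_normalizer_centralizer {A B : Subgroup G} (hAc : IsMulCommutative ↥A) (hBA : B ≤ A) :
    A ≤ Subgroup.normalizer ((Subgroup.centralizer (B : Set G) : Subgroup G) : Set G) := by
  refine le_trans ?_ Subgroup.le_normalizer
  intro a ha
  rw [Subgroup.mem_centralizer_iff]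
  intro b hb
  exact setLike_mul_comm (hBA hb) ha

section step

variable [Finite G] {p : ℕ} [Fact p.Prime] {A S V : Subgroup G}

theorem step_normal {q : ℕ} [Fact q.Prime] (hS : IsPGroup q ↥S) (hAS : A ≤ Subgroup.normalizer (S : Set G))
    (hVS : V < S) (hAV : A ≤ Subgroup.normalizer (V : Set G))
    (hmax : ∀ V' : Subgroup G, V ≤ V' → V' < S → A ≤ Subgroup.normalizer (V' : Set G) → V' ≤ V) :
    S ≤ Subgroup.normalizer (V : Set G) := by
  by_contra hcon
  have hN : Subgroup.normalizer (V : Set G) ⊓ S < S := by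
    refine lt_of_le_of_ne inf_le_right ?_
    intro h
    exact hcon (h ▸ inf_le_left)
  have hAN : A ≤ Subgroup.normalizer ((Subgroup.normalizer (V : Set G) ⊓ S : Subgroup G) : Set G) :=
    Cfsg.Agent.Lib.Helper1.le_normalizer_inf (hAV.trans Subgroup.le_normalizer) hAS
  have h1 := hmax _ (le_inf Subgroup.le_normalizer hVS.le) hN hAN
  obtain ⟨z, hzS, hzN, hzV⟩ :=
    Cfsg.Agent.Lib.Helper2.exists_mem_normalizer_not_mem hS.isNilpotent hVS
  exact hzV (h1 ⟨hzN, hzS⟩)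

omit [Finite G] in
theorem step_dichotomy (hAc : IsMulCommutative ↥A)
    (hAS : A ≤ Subgroup.normalizer (S : Set G))
    (hVS : V < S) (hAV : A ≤ Subgroup.normalizer (V : Set G))
    (hmax : ∀ V' : Subgroup G, V ≤ V' → V' < S → A ≤ Subgroup.normalizer (V' : Set G) → V' ≤ V)
    {B : Subgroup G} (hBA : B ≤ A) :
    S ≤ (S ⊓ Subgroup.centralizer (B : Set G)) ⊔ V ∨ S ⊓ Subgroup.centralizer (B : Set G) ≤ V := by
  by_cases h : S ≤ (S ⊓ Subgroup.centralizer (B : Set G)) ⊔ V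
  · exact Or.inl h
  · right
    have hle : (S ⊓ Subgroup.centralizer (B : Set G)) ⊔ V ≤ S := sup_le inf_le_left hVS.le
    have hlt : (S ⊓ Subgroup.centralizer (B : Set G)) ⊔ V < S := lt_of_le_not_ge hle h
    have hAM : A ≤ Subgroup.normalizer
        (((S ⊓ Subgroup.centralizer (B : Set G)) ⊔ V : Subgroup G) : Set G) :=
      Cfsg.Agent.Lib.Helper7.le_normalizer_sup
        (Cfsg.Agent.Lib.Helper1.le_normalizer_inf hAS (le_normalizer_centralizer hAc hBA)) hAV
    exact le_sup_left.trans (hmax _ le_sup_right hlt hAM)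

theorem step_of_le_ker {q : ℕ} [Fact q.Prime] (hAe : ∀ a ∈ A, a ^ p = 1) (hqp : q ≠ p)
    (hS : IsPGroup q ↥S) (hVS : V ≤ S) (hSV : S ≤ Subgroup.normalizer (V : Set G))
    {B : Subgroup G} (hBA : B ≤ A) (hB : B ≤ ker S V) :
    S ≤ (S ⊓ Subgroup.centralizer (B : Set G)) ⊔ V := by
  have hp : p.Prime := Fact.out
  have hq : q.Prime := Fact.out
  have hBS : B ≤ Subgroup.normalizer (S : Set G) := fun b hb => (mem_ker.1 (hB hb)).1
  have hBV : B ≤ Subgroup.normalizer (V : Set G) := fun b hb => (mem_ker.1 (hB hb)).2.1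
  have hcop : (Nat.card ↥B).Coprime (Nat.card ↥S) := by
    have hBp : IsPGroup p ↥B :=
      Cfsg.Agent.Lib.Helper8.Hyperplane.isPGroup_of_pow_eq_one (fun b hb => hAe b (hBA hb))
    obtain ⟨k, hk⟩ := IsPGroup.iff_card.1 hBp
    obtain ⟨l, hl⟩ := IsPGroup.iff_card.1 hS
    rw [hk, hl]
    exact Nat.Coprime.pow _ _ ((Nat.coprime_primes hp hq).2 (Ne.symm hqp))
  intro k hk
  obtain ⟨c, hc, hkc⟩ := Cfsg.Agent.Lib.Helper1.coprime_fixed_points_quotient B S hBS hcop
    (Or.inr (haveI := hS.isNilpotent; inferInstance)) V hVS hSV hBV k hk (fun a ha => (mem_ker.1 (hB ha)).2.2 k hk)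
  have e : k = c * (k⁻¹ * c)⁻¹ := by group
  rw [e]
  exact Subgroup.mul_mem_sup hc (V.inv_mem hkc)


omit [Finite G] [Fact p.Prime] in
theorem step_le_ker (hVS : V ≤ S) (hSV : S ≤ Subgroup.normalizer (V : Set G))
    {B : Subgroup G} (hBS : B ≤ Subgroup.normalizer (S : Set G))
    (hBV : B ≤ Subgroup.normalizer (V : Set G))
    (h : S ≤ (S ⊓ Subgroup.centralizer (B : Set G)) ⊔ V) : B ≤ ker S V := by
  intro a ha
  refine mem_ker.2 ⟨hBS ha, hBV ha, ?_⟩
  intro s hs
  have hs' := h hs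
  rw [sup_comm, Cfsg.Agent.Lib.Helper8.SigFun.mem_sup_iff_of_le_normalizer
    (inf_le_left.trans hSV)] at hs'
  obtain ⟨v, hv, c, hc, rfl⟩ := hs'
  have hca : a * c = c * a := (Subgroup.mem_centralizer_iff.1 hc.2) a ha
  have h1 : a * v * a⁻¹ ∈ V := (Subgroup.mem_normalizer_iff.1 (hBV ha) v).1 hv
  have e : a * (v * c) * a⁻¹ * (v * c)⁻¹ = (a * v * a⁻¹) * ((a * c) * a⁻¹ * c⁻¹) * v⁻¹ := by group
  rw [e, hca]
  have e2 : c * a * a⁻¹ * c⁻¹ = 1 := by group
  rw [e2, mul_one]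
  exact V.mul_mem h1 (V.inv_mem hv)

omit [Fact p.Prime] in
theorem step_card_of_le (hVS : V ≤ S) (hSV : S ≤ Subgroup.normalizer (V : Set G))
    {B : Subgroup G} (h : S ≤ (S ⊓ Subgroup.centralizer (B : Set G)) ⊔ V) :
    cc S B * Nat.card ↥V = Nat.card ↥S * cc V B := by
  have h1 := Cfsg.Agent.Lib.Helper7.card_mul_set_mul_card_inf
    (S ⊓ Subgroup.centralizer (B : Set G)) V
  rw [← Subgroup.coe_mul_of_left_le_normalizer_right _ _ (inf_le_left.trans hSV)] at h1
  have h2 : (S ⊓ Subgroup.centralizer (B : Set G)) ⊔ V = S :=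
    le_antisymm (sup_le inf_le_left hVS) h
  have h3 : S ⊓ Subgroup.centralizer (B : Set G) ⊓ V = V ⊓ Subgroup.centralizer (B : Set G) := by
    rw [inf_right_comm, inf_eq_right.2 hVS]
  rw [h2, h3] at h1
  unfold cc
  rw [← h1]
  rfl

omit [Finite G] [Fact p.Prime] in
theorem step_card_of_le' (hVS : V ≤ S) {B : Subgroup G}
    (h : S ⊓ Subgroup.centralizer (B : Set G) ≤ V) : cc S B = cc V B := by
  unfold cc
  have : S ⊓ Subgroup.centralizer (B : Set G) = V ⊓ Subgroup.centralizer (B : Set G) :=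
    le_antisymm (le_inf h inf_le_right) (inf_le_inf_right _ hVS)
  rw [this]

end step

end Cfsg.Agent.Lib.Helper8.Wielandt
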