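import Mathlib
import Cfsg.Agent.Lib.Helper8.Wielandt1
set_option autoImplicit false
set_option linter.style.haveILetI false

/-! Wielandt's order formula: the inductive step and the `q`-group case. -/

namespace Cfsg.Agent.Lib.Helper8.Wielandt

variable {G : Type*} [Group G]

theorem centralizer_zpowers (a : G) :
    Subgroup.centralizer (Subgroup.zpowers a : Set G) = Subgroup.centralizer ({a} : Set G) :=
  le_antisymm (Cfsg.Agent.Lib.Helper8.SigFun.centralizer_zpowers_le_singleton a)
    (Cfsg.Agent.Lib.Helper8.SigFun.centralizer_singleton_le_zpowers a)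

theorem step_formula [Finite G] {p : ℕ} [Fact p.Prime] {A S V : Subgroup G} {x y : G} {q : ℕ}
    [Fact q.Prime] (hAc : IsMulCommutative ↥A) (hAe : ∀ a ∈ A, a ^ p = 1) (hx : x ∈ A)
    (hy : y ∈ A) (hgen : ∀ T : Subgroup G, x ∈ T → y ∈ T → A ≤ T) (hqp : q ≠ p)
    (hS : IsPGroup q ↥S) (hAS : A ≤ Subgroup.normalizer (S : Set G))
    (hVS : V < S) (hAV : A ≤ Subgroup.normalizer (V : Set G))
    (hmax : ∀ V' : Subgroup G, V ≤ V' → V' < S → A ≤ Subgroup.normalizer (V' : Set G) → V' ≤ V)
    (hFV : Formula p x y A V) : Formula p x y A S := by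
  have hp : p.Prime := Fact.out
  have hq : q.Prime := Fact.out
  have hSV := step_normal hS hAS hVS hAV hmax
  have hxy : Commute x y := setLike_mul_comm hx hy
  have hZ : ∀ i, Subgroup.zpowers (hyp p x y i) ≤ A := by
    intro i
    rw [Subgroup.zpowers_le]
    rcases i with _ | c
    · exact hy
    · exact A.mul_mem hx (A.pow_mem hy _)
  have hSp : ¬ p ∣ Nat.card ↥S := by
    obtain ⟨l, hl⟩ := IsPGroup.iff_card.1 hS
    rw [hl]
    intro hd
    exact hqp ((Nat.prime_dvd_prime_iff_eq hp hq).1 (hp.dvd_of_dvd_pow hd)).symm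
  have hnle : ∀ B : Subgroup G, B ≤ A → ¬ B ≤ ker S V →
      S ⊓ Subgroup.centralizer (B : Set G) ≤ V := by
    intro B hBA hB
    rcases step_dichotomy hAc hAS hVS hAV hmax hBA with h | h
    · exact absurd (step_le_ker hVS.le hSV (hBA.trans hAS) (hBA.trans hAV) h) hB
    · exact h
  obtain ⟨r, hr⟩ : ∃ r, Nat.card ↥S = r * Nat.card ↥V := by
    obtain ⟨c, hc⟩ := Subgroup.card_dvd_of_le hVS.le
    exact ⟨c, by rw [hc, mul_comm]⟩
  have hvpos : 0 < Nat.card ↥V := Nat.card_pos
  have hker : ∀ B : Subgroup G, B ≤ A → B ≤ ker S V → cc S B = r * cc V B := by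
    intro B hBA hB
    have h := step_card_of_le hVS.le hSV (step_of_le_ker hAe hqp hS hVS.le hSV hBA hB)
    rw [hr] at h
    apply Nat.eq_of_mul_eq_mul_right hvpos
    rw [h]
    ring
  have hnker : ∀ B : Subgroup G, B ≤ A → ¬ B ≤ ker S V → cc S B = cc V B := by
    intro B hBA hB
    exact step_card_of_le' hVS.le (hnle B hBA hB)
  unfold Formula at hFV ⊢
  by_cases hxyT : x ∈ ker S V ∧ y ∈ ker S V
  · have hAT : A ≤ ker S V := hgen _ hxyT.1 hxyT.2
    have h1 : ∀ i, cc S (Subgroup.zpowers (hyp p x y i)) =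
        r * cc V (Subgroup.zpowers (hyp p x y i)) :=
      fun i => hker _ (hZ i) ((hZ i).trans hAT)
    rw [hker A le_rfl hAT, Finset.prod_congr rfl (fun i _ => h1 i), Finset.prod_mul_distrib,
      Finset.prod_mul_distrib, hr]
    calc r * Nat.card ↥V * ((∏ _i : Option (ZMod p), r) * ∏ _i : Option (ZMod p), cc V A)
        = r * (∏ _i : Option (ZMod p), r) *
          (Nat.card ↥V * ∏ _i : Option (ZMod p), cc V A) := by ring
      _ = r * (∏ _i : Option (ZMod p), r) *
          (cc V A * ∏ i : Option (ZMod p), cc V (Subgroup.zpowers (hyp p x y i))) := by rw [hFV]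
      _ = _ := by ring
  · have hAT : ¬ A ≤ ker S V := fun h => hxyT ⟨h hx, h hy⟩
    rw [hnker A le_rfl hAT]
    by_cases hex : ∃ i, hyp p x y i ∈ ker S V
    · obtain ⟨i, hi⟩ := hex
      have hi' : Subgroup.zpowers (hyp p x y i) ≤ ker S V := by rwa [Subgroup.zpowers_le]
      have huniq : ∀ j, j ≠ i → ¬ Subgroup.zpowers (hyp p x y j) ≤ ker S V := by
        intro j hji hj
        exact hxyT (hyp_gen (hAe y hy) hji _ (hj (Subgroup.mem_zpowers _)) hi)
      have h1 : ∀ j, cc S (Subgroup.zpowers (hyp p x y j)) =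
          (if j = i then r else 1) * cc V (Subgroup.zpowers (hyp p x y j)) := by
        intro j
        by_cases hji : j = i
        · subst hji
          rw [if_pos rfl]
          exact hker _ (hZ j) hi'
        · rw [if_neg hji, one_mul]
          exact hnker _ (hZ j) (huniq j hji)
      rw [Finset.prod_congr rfl (fun j _ => h1 j), Finset.prod_mul_distrib,
        Finset.prod_ite_eq', if_pos (Finset.mem_univ _), hr]
      calc r * Nat.card ↥V * ∏ _i : Option (ZMod p), cc V A
          = r * (Nat.card ↥V * ∏ _i : Option (ZMod p), cc V A) := by ring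
        _ = r * (cc V A * ∏ i : Option (ZMod p), cc V (Subgroup.zpowers (hyp p x y i))) := by
            rw [hFV]
        _ = _ := by ring
    · push Not at hex
      exfalso
      have hgenC := Cfsg.Agent.Lib.Helper7.le_genC x y (hAe x hx) (hAe y hy) hxy S (hAS hx)
        (hAS hy) hSp
      have hi : ∀ i, S ⊓ Subgroup.centralizer ({hyp p x y i} : Set G) ≤ V := by
        intro i
        rw [← centralizer_zpowers]
        apply hnle _ (hZ i)
        intro h
        exact hex i (h (Subgroup.mem_zpowers _))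
      have hle : Cfsg.Agent.Lib.Helper7.genC p x y S ≤ V := by
        unfold Cfsg.Agent.Lib.Helper7.genC
        refine sup_le (hi none) (iSup_le fun c => hi (some c))
      exact hVS.not_ge (hgenC.trans hle)

/-- The order formula for `q`-groups. -/
theorem formula_of_isPGroup [Finite G] {p : ℕ} [Fact p.Prime] {A : Subgroup G} {x y : G} {q : ℕ}
    [Fact q.Prime] (hAc : IsMulCommutative ↥A) (hAe : ∀ a ∈ A, a ^ p = 1) (hx : x ∈ A)
    (hy : y ∈ A) (hgen : ∀ T : Subgroup G, x ∈ T → y ∈ T → A ≤ T) (hqp : q ≠ p) (n : ℕ) :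
    ∀ S : Subgroup G, Nat.card ↥S = n → IsPGroup q ↥S → A ≤ Subgroup.normalizer (S : Set G) →
      Formula p x y A S := by
  induction n using Nat.strong_induction_on with
  | _ n ih =>
    intro S hSn hS hAS
    by_cases hbot : S = ⊥
    · subst hbot
      unfold Formula cc
      simp
    · have hfin : {V : Subgroup G | V < S ∧ A ≤ Subgroup.normalizer (V : Set G)}.Finite :=
        Set.toFinite _
      have hmem : (⊥ : Subgroup G) ∈
          {V : Subgroup G | V < S ∧ A ≤ Subgroup.normalizer (V : Set G)} := by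
        refine ⟨bot_lt_iff_ne_bot.2 hbot, ?_⟩
        intro a _
        rw [Subgroup.mem_normalizer_iff]
        intro h
        simp [Subgroup.mem_bot]
      obtain ⟨V, -, hV⟩ := hfin.exists_le_maximal hmem
      have hVS : V < S := hV.prop.1
      have hAV : A ≤ Subgroup.normalizer (V : Set G) := hV.prop.2
      have hmax : ∀ V' : Subgroup G, V ≤ V' → V' < S →
          A ≤ Subgroup.normalizer (V' : Set G) → V' ≤ V :=
        fun V' h1 h2 h3 => hV.le_of_ge ⟨h2, h3⟩ h1
      have hlt : Nat.card ↥V < n := by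
        rw [← hSn]
        by_contra hcon
        push Not at hcon
        exact hVS.ne (Subgroup.eq_of_le_of_card_ge hVS.le hcon)
      have hFV := ih _ hlt V rfl (hS.to_le hVS.le) hAV
      exact step_formula hAc hAe hx hy hgen hqp hS hAS hVS hAV hmax hFV

end Cfsg.Agent.Lib.Helper8.Wielandt
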