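import Mathlib
import Cfsg.Agent.Lib.Helper8.Wielandt2
set_option autoImplicit false
set_option linter.style.haveILetI false

/-! Wielandt's order formula: Sylow reduction and the general case. -/

namespace Cfsg.Agent.Lib.Helper8.Wielandt

variable {G : Type*} [Group G]

theorem isSolvable_of_isMulCommutative {A : Subgroup G} (hAc : IsMulCommutative ↥A) :
    Group.IsSolvable ↥A :=
  Group.isSolvable_of_comm (fun a b => Subtype.ext (setLike_mul_comm a.2 b.2))

theorem coprime_card [Finite G] {p : ℕ} [hp : Fact p.Prime] {A Q : Subgroup G}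
    (hAe : ∀ a ∈ A, a ^ p = 1) (hQ : ¬ p ∣ Nat.card ↥Q) :
    (Nat.card ↥A).Coprime (Nat.card ↥Q) := by
  have hAp : IsPGroup p ↥A := Cfsg.Agent.Lib.Helper8.Hyperplane.isPGroup_of_pow_eq_one hAe
  obtain ⟨k, hk⟩ := IsPGroup.iff_card.1 hAp
  rw [hk]
  exact Nat.Coprime.pow_left _ ((Nat.Prime.coprime_iff_not_dvd hp.out).2 hQ)

theorem cc_sylow [Finite G] {p : ℕ} [Fact p.Prime] {A Q : Subgroup G} {q : ℕ} [Fact q.Prime]
    (hAc : IsMulCommutative ↥A) (hAe : ∀ a ∈ A, a ^ p = 1)
    (hAQ : A ≤ Subgroup.normalizer (Q : Set G)) (hQ : ¬ p ∣ Nat.card ↥Q)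
    (S₀ : Sylow q ↥Q) (hS₀ : A ≤ Subgroup.normalizer ((S₀ : Subgroup Q).map Q.subtype : Set G))
    {B : Subgroup G} (hBA : B ≤ A) :
    cc ((S₀ : Subgroup Q).map Q.subtype) B = q ^ (cc Q B).factorization q := by
  have hq : q.Prime := Fact.out
  have hsolvA := isSolvable_of_isMulCommutative hAc
  have hACQ : A ≤ Subgroup.normalizer ((Q ⊓ Subgroup.centralizer (B : Set G) : Subgroup G) : Set G) :=
    Cfsg.Agent.Lib.Helper1.le_normalizer_inf hAQ (le_normalizer_centralizer hAc hBA)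
  have hcopQ := coprime_card hAe hQ
  have hCQ : ¬ p ∣ Nat.card ↥(Q ⊓ Subgroup.centralizer (B : Set G) : Subgroup G) :=
    fun h => hQ (h.trans (Subgroup.card_dvd_of_le inf_le_left))
  have hcopCQ := coprime_card hAe hCQ
  obtain ⟨T₀, hT₀⟩ := Cfsg.Agent.Lib.Helper1.coprime_exists_invariant_sylow A _ hACQ hcopCQ
    (Or.inl hsolvA) q
  have hTcard : Nat.card ↥((T₀ : Subgroup _).map
      (Q ⊓ Subgroup.centralizer (B : Set G)).subtype) = q ^ (cc Q B).factorization q := by
    rw [Subgroup.card_map_of_injective (Subgroup.subtype_injective _)]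
    exact T₀.card_eq_multiplicity
  have hTle : (T₀ : Subgroup _).map (Q ⊓ Subgroup.centralizer (B : Set G)).subtype ≤
      Q ⊓ Subgroup.centralizer (B : Set G) := Subgroup.map_subtype_le _
  obtain ⟨S₁, hTS₁, hAS₁⟩ := Cfsg.Agent.Lib.Helper1.coprime_invariant_le_sylow A Q hAQ hcopQ
    (Or.inl hsolvA) q _ (hTle.trans inf_le_left) (T₀.isPGroup'.map _) hT₀
  obtain ⟨c, hcA, hc⟩ := Cfsg.Agent.Lib.Helper1.coprime_invariant_sylow_conj A Q hAQ hcopQ
    (Or.inl hsolvA) q S₁ S₀ hAS₁ hS₀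
  have hcS := Cfsg.Agent.Lib.Helper8.SigFun.map_subtype_conj_smul Q c S₁ S₀ hc
  have hcB : (c : G) ∈ Subgroup.centralizer (B : Set G) :=
    Subgroup.centralizer_le (by exact_mod_cast hBA) hcA
  have hle : ((T₀ : Subgroup _).map (Q ⊓ Subgroup.centralizer (B : Set G)).subtype).map
      (MulAut.conj (c : G)).toMonoidHom ≤
      (S₀ : Subgroup Q).map Q.subtype ⊓ Subgroup.centralizer (B : Set G) := by
    rintro _ ⟨t, ht, rfl⟩
    refine ⟨?_, ?_⟩
    · rw [← hcS]
      exact ⟨t, hTS₁ ht, rfl⟩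
    · have htB : t ∈ Subgroup.centralizer (B : Set G) := (hTle ht).2
      simp only [MulEquiv.coe_toMonoidHom, MulAut.conj_apply]
      exact Subgroup.mul_mem _ (Subgroup.mul_mem _ hcB htB) (Subgroup.inv_mem _ hcB)
  have h1 : q ^ (cc Q B).factorization q ≤ cc ((S₀ : Subgroup Q).map Q.subtype) B := by
    rw [← hTcard, ← Subgroup.card_map_of_injective
      (f := (MulAut.conj (c : G)).toMonoidHom) (MulAut.conj (c : G)).injective]
    exact Subgroup.card_le_of_le hle
  have hSq : IsPGroup q ↥((S₀ : Subgroup Q).map Q.subtype ⊓ Subgroup.centralizer (B : Set G) :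
      Subgroup G) := (S₀.isPGroup'.map _).to_le inf_le_left
  obtain ⟨k, hk⟩ := IsPGroup.iff_card.1 hSq
  have hk' : cc ((S₀ : Subgroup Q).map Q.subtype) B = q ^ k := hk
  have hdvd : q ^ k ∣ cc Q B := by
    rw [← hk]
    exact Subgroup.card_dvd_of_le (inf_le_inf_right _ (Subgroup.map_subtype_le _))
  have h2 : k ≤ (cc Q B).factorization q :=
    (hq.pow_dvd_iff_le_factorization (cc_pos Q B).ne').1 hdvd
  rw [hk'] at h1 ⊢
  have h3 : (cc Q B).factorization q ≤ k := (Nat.pow_le_pow_iff_right hq.one_lt).1 h1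
  rw [le_antisymm h2 h3]

/-- **Wielandt's order formula** for a group of type `(p, p)` acting coprimely. -/
theorem formula [Finite G] {p : ℕ} [Fact p.Prime] {A : Subgroup G} {x y : G}
    (hAc : IsMulCommutative ↥A) (hAe : ∀ a ∈ A, a ^ p = 1) (hx : x ∈ A)
    (hy : y ∈ A) (hgen : ∀ T : Subgroup G, x ∈ T → y ∈ T → A ≤ T) (Q : Subgroup G)
    (hAQ : A ≤ Subgroup.normalizer (Q : Set G)) (hQ : ¬ p ∣ Nat.card ↥Q) :
    Formula p x y A Q := by
  have hp : p.Prime := Fact.out
  have hZ : ∀ i, Subgroup.zpowers (hyp p x y i) ≤ A := by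
    intro i
    rw [Subgroup.zpowers_le]
    rcases i with _ | c
    · exact hy
    · exact A.mul_mem hx (A.pow_mem hy _)
  have hQ0 : Nat.card ↥Q ≠ 0 := Nat.card_pos.ne'
  have hc0 : ∀ B : Subgroup G, cc Q B ≠ 0 := fun B => (cc_pos Q B).ne'
  have hP1 : ∏ _i : Option (ZMod p), cc Q A ≠ 0 := Finset.prod_ne_zero_iff.2 fun _ _ => hc0 A
  have hP2 : ∏ i : Option (ZMod p), cc Q (Subgroup.zpowers (hyp p x y i)) ≠ 0 :=
    Finset.prod_ne_zero_iff.2 fun _ _ => hc0 _
  unfold Formula
  apply Nat.eq_of_factorization_eq (mul_ne_zero hQ0 hP1) (mul_ne_zero (hc0 A) hP2)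
  intro q
  have e1 : (Nat.card ↥Q * ∏ _i : Option (ZMod p), cc Q A).factorization q =
      (Nat.card ↥Q).factorization q + ∑ _i : Option (ZMod p), (cc Q A).factorization q := by
    rw [Nat.factorization_mul hQ0 hP1, Nat.factorization_prod (fun i _ => hc0 A)]
    simp [Finsupp.add_apply]
  have e2 : (cc Q A * ∏ i : Option (ZMod p), cc Q (Subgroup.zpowers (hyp p x y i))).factorization q
      = (cc Q A).factorization q +
        ∑ i : Option (ZMod p), (cc Q (Subgroup.zpowers (hyp p x y i))).factorization q := by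
    rw [Nat.factorization_mul (hc0 A) hP2, Nat.factorization_prod (fun i _ => hc0 _)]
    simp [Finsupp.add_apply]
  rw [e1, e2]
  by_cases hqP : q.Prime
  · by_cases hqp : q = p
    · subst hqp
      have hz : ∀ B : Subgroup G, (cc Q B).factorization q = 0 := by
        intro B
        apply Nat.factorization_eq_zero_of_not_dvd
        exact fun h => hQ (h.trans (Subgroup.card_dvd_of_le inf_le_left))
      simp [hz, Nat.factorization_eq_zero_of_not_dvd hQ]
    · haveI : Fact q.Prime := ⟨hqP⟩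
      have hsolvA := isSolvable_of_isMulCommutative hAc
      obtain ⟨S₀, hS₀⟩ := Cfsg.Agent.Lib.Helper1.coprime_exists_invariant_sylow A Q hAQ
        (coprime_card hAe hQ) (Or.inl hsolvA) q
      have hF := formula_of_isPGroup hAc hAe hx hy hgen hqp _ _ rfl (S₀.isPGroup'.map _) hS₀
      unfold Formula at hF
      have hcard : Nat.card ↥((S₀ : Subgroup Q).map Q.subtype) =
          q ^ (Nat.card ↥Q).factorization q := by
        rw [Subgroup.card_map_of_injective (Subgroup.subtype_injective _)]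
        exact S₀.card_eq_multiplicity
      rw [hcard, cc_sylow hAc hAe hAQ hQ S₀ hS₀ le_rfl,
        Finset.prod_congr rfl (fun i _ => cc_sylow hAc hAe hAQ hQ S₀ hS₀ (hZ i)),
        Finset.prod_pow_eq_pow_sum, Finset.prod_pow_eq_pow_sum, ← pow_add, ← pow_add] at hF
      exact Nat.pow_right_injective hqP.two_le hF
  · simp [Nat.factorization_eq_zero_of_not_prime _ hqP]

end Cfsg.Agent.Lib.Helper8.Wielandt
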