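import Mathlib
import Cfsg.Prelude.Def_Characters
import Cfsg.Agent.Lib.Helper6.IndFun
import Cfsg.Agent.Lib.Helper6.IndFunMore
import Cfsg.Agent.Lib.Helper6.ConjSum
import Cfsg.Agent.Lib.Helper6.Constituent

/-! Induction from a cyclic subgroup `zpowers c`: explicit formulas. -/

set_option autoImplicit false

namespace Cfsg.Agent.Lib.Helper8.Gl

open scoped ComplexConjugate
open Cfsg.Agent.Lib.Helper6

variable {G : Type*} [Group G] [Fintype G]

/-- a sum over a cyclic subgroup as a sum over exponents -/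
theorem sum_zpowers (c : G) (n : ℕ) (hn : orderOf c = n) [Fintype (Subgroup.zpowers c)]
    (f : Subgroup.zpowers c → ℂ) :
    ∑ h : Subgroup.zpowers c, f h
      = ∑ k ∈ Finset.range n, f ⟨c ^ k, Subgroup.npow_mem_zpowers c k⟩ := by
  subst hn
  have hfin : IsOfFinOrder c := isOfFinOrder_of_finite c
  rw [← Fin.sum_univ_eq_sum_range (fun k => f ⟨c ^ k, Subgroup.npow_mem_zpowers c k⟩) (orderOf c)]
  symm
  apply Fintype.sum_equiv (finEquivZPowers hfin)
  intro k
  rfl

/-- Frobenius reciprocity for a cyclic subgroup -/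
theorem classInner_indFun_zpowers (c : G) (n : ℕ) (hn : orderOf c = n)
    (φ : Subgroup.zpowers c → ℂ) (F : ℕ → ℂ)
    (hF : ∀ k, φ ⟨c ^ k, Subgroup.npow_mem_zpowers c k⟩ = F k)
    (χ : G → ℂ) (hχ : Cfsg.IsClassFunction G χ) :
    Cfsg.classInner (Cfsg.indFun (Subgroup.zpowers c) φ) χ
      = (n : ℂ)⁻¹ * ∑ k ∈ Finset.range n, F k * conj (χ (c ^ k)) := by
  classical
  have : Fintype (Subgroup.zpowers c) := Fintype.ofFinite _
  rw [IndFunMore.classInner_indFun _ φ χ hχ, Nat.card_zpowers, hn,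
    sum_zpowers c n hn]
  congr 1
  apply Finset.sum_congr rfl
  intro k _
  rw [hF]

open Classical in
/-- value of a function induced from a cyclic subgroup -/
theorem indFun_zpowers_apply (c : G) (n : ℕ) (hn : orderOf c = n)
    (φ : Subgroup.zpowers c → ℂ) (F : ℕ → ℂ)
    (hF : ∀ k, φ ⟨c ^ k, Subgroup.npow_mem_zpowers c k⟩ = F k) (g : G) :
    Cfsg.indFun (Subgroup.zpowers c) φ g
      = (n : ℂ)⁻¹ * ((Nat.card (Subgroup.centralizer ({g} : Set G)) : ℂ)
        * ∑ k ∈ Finset.range n,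
          @ite _ (IsConj g (c ^ k)) (Classical.propDecidable _) (F k) 0) := by
  have : Fintype (Subgroup.zpowers c) := Fintype.ofFinite _
  rw [indFun_eq_sum_class, Nat.card_zpowers, hn]
  congr 2
  rw [Finset.sum_filter]
  have h1 : ∀ y : G, (if IsConj g y then Cfsg.extendByZero (Subgroup.zpowers c) φ y else 0)
      = Cfsg.extendByZero (Subgroup.zpowers c) φ y * (if IsConj g y then 1 else 0) := by
    intro y
    split_ifs <;> simp
  rw [Finset.sum_congr rfl (fun y _ => h1 y), sum_extendByZero_mul, sum_zpowers c n hn]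
  apply Finset.sum_congr rfl
  intro k _
  rw [hF]
  split_ifs <;> simp

/-- value at the identity -/
theorem indFun_zpowers_one (c : G) (φ : Subgroup.zpowers c → ℂ) (h0 : φ 1 = 0) :
    Cfsg.indFun (Subgroup.zpowers c) φ 1 = 0 := by
  rw [indFun_one, h0, mul_zero]

end Cfsg.Agent.Lib.Helper8.Gl
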