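import Mathlib
import Cfsg.Agent.Lib.Helper8.GlA

/-! Local data for a group with an involution centralizer `GL(2,3)`, and the key formulas
for class functions induced from the cyclic subgroups `⟨v⟩` (order 8) and `⟨y⟩` (order 6). -/

set_option autoImplicit false

namespace Cfsg.Agent.Lib.Helper8.Gl

open scoped ComplexConjugate
open Cfsg.Agent.Lib.Helper6

/-- the local data extracted from `C(t) ≃* GL(2,3)` -/
structure Loc (G : Type*) [Group G] (t v y : G) : Prop where
  hv4 : v ^ 4 = t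
  hy3 : y ^ 3 = t
  ov : orderOf v = 8
  oy : orderOf y = 6
  ct : Nat.card (Subgroup.centralizer ({t} : Set G)) = 48
  cv : ∀ g : G, g * v = v * g → g ∈ Subgroup.zpowers v
  cu : ∀ g : G, g * v ^ 2 = v ^ 2 * g → g ∈ Subgroup.zpowers v
  cy : ∀ g : G, g * y = y * g → g ∈ Subgroup.zpowers y
  v3 : IsConj v (v ^ 3)
  v5 : ¬ IsConj v (v ^ 5)
  v7 : ¬ IsConj v (v ^ 7)
  y5 : IsConj y (y ^ 5)

variable {G : Type*} [Group G]

theorem orderOf_eq_of_isConj {a b : G} (h : IsConj a b) : orderOf a = orderOf b := by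
  obtain ⟨c, hc⟩ := isConj_iff.mp h
  rw [← hc]
  exact (orderOf_injective (MulAut.conj c).toMonoidHom (MulAut.conj c).injective a).symm

theorem not_isConj_of_orderOf_ne {a b : G} (h : orderOf a ≠ orderOf b) : ¬ IsConj a b :=
  fun hc => h (orderOf_eq_of_isConj hc)

theorem card_centralizer_eq_of_zpowers (c g : G) (n : ℕ) (hn : orderOf c = n)
    (h1 : ∀ x : G, x * g = g * x → x ∈ Subgroup.zpowers c) (h2 : g ∈ Subgroup.zpowers c) :
    Nat.card (Subgroup.centralizer ({g} : Set G)) = n := by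
  have : Subgroup.centralizer ({g} : Set G) = Subgroup.zpowers c := by
    apply le_antisymm
    · intro x hx
      rw [Subgroup.mem_centralizer_singleton_iff] at hx
      exact h1 x hx
    · intro x hx
      rw [Subgroup.mem_centralizer_singleton_iff]
      obtain ⟨i, rfl⟩ := Subgroup.mem_zpowers_iff.mp hx
      obtain ⟨j, rfl⟩ := Subgroup.mem_zpowers_iff.mp h2
      rw [← zpow_add, ← zpow_add, add_comm]
  rw [this, Nat.card_zpowers, hn]

namespace Loc

variable {t v y : G} (L : Loc G t v y)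
include L

theorem v8 : v ^ 8 = 1 := by rw [← L.ov]; exact pow_orderOf_eq_one v

theorem y6 : y ^ 6 = 1 := by rw [← L.oy]; exact pow_orderOf_eq_one y

theorem ord_v_pow (k : ℕ) (hk : k ≠ 0) : orderOf (v ^ k) = 8 / Nat.gcd 8 k := by
  rw [orderOf_pow' v hk, L.ov]

theorem ord_y_pow (k : ℕ) (hk : k ≠ 0) : orderOf (y ^ k) = 6 / Nat.gcd 6 k := by
  rw [orderOf_pow' y hk, L.oy]

theorem ot : orderOf t = 2 := by
  rw [← L.hv4, L.ord_v_pow 4 (by norm_num)]; rfl

theorem card_cent_v : Nat.card (Subgroup.centralizer ({v} : Set G)) = 8 :=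
  card_centralizer_eq_of_zpowers v v 8 L.ov L.cv (Subgroup.mem_zpowers v)

theorem card_cent_u : Nat.card (Subgroup.centralizer ({v ^ 2} : Set G)) = 8 :=
  card_centralizer_eq_of_zpowers v (v ^ 2) 8 L.ov L.cu (Subgroup.npow_mem_zpowers v 2)

theorem card_cent_y : Nat.card (Subgroup.centralizer ({y} : Set G)) = 6 :=
  card_centralizer_eq_of_zpowers y y 6 L.oy L.cy (Subgroup.mem_zpowers y)

theorem card_cent_v5 : Nat.card (Subgroup.centralizer ({v ^ 5} : Set G)) = 8 := by
  apply card_centralizer_eq_of_zpowers v (v ^ 5) 8 L.ov _ (Subgroup.npow_mem_zpowers v 5)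
  intro x hx
  apply L.cv
  have h25 : (v ^ 5) ^ 5 = v := by
    rw [← pow_mul]
    have : v ^ (5 * 5) = v ^ (8 * 3) * v := by rw [← pow_succ]
    rw [this, pow_mul, L.v8, one_pow, one_mul]
  have hc : Commute x (v ^ 5) := hx
  have := hc.pow_right 5
  rw [h25] at this
  exact this

theorem v57 : IsConj (v ^ 5) (v ^ 7) := by
  have h := L.v3.pow 5
  have h15 : (v ^ 3) ^ 5 = v ^ 7 := by
    rw [← pow_mul]
    have : v ^ (3 * 5) = v ^ 8 * v ^ 7 := by rw [← pow_add]
    rw [this, L.v8, one_mul]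
  rwa [h15] at h

theorem v26 : IsConj (v ^ 2) (v ^ 6) := by
  have h := L.v3.pow 2
  rwa [← pow_mul] at h

theorem not_v51 : ¬ IsConj (v ^ 5) v := fun h => L.v5 h.symm

theorem not_v53 : ¬ IsConj (v ^ 5) (v ^ 3) := fun h => L.v5 (L.v3.trans h.symm)

theorem y3_eq : y ^ 3 = v ^ 4 := by rw [L.hy3, L.hv4]

end Loc

end Cfsg.Agent.Lib.Helper8.Gl
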