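import Mathlib
import Cfsg.Agent.Lib.Helper8.GlB

/-! The key formulas for `Θ = Ind_{⟨v⟩} φ + Ind_{⟨y⟩} ψ`. -/

set_option autoImplicit false

namespace Cfsg.Agent.Lib.Helper8.Gl

open scoped ComplexConjugate
open Cfsg.Agent.Lib.Helper6

variable {G : Type*} [Group G]

namespace Loc

variable {t v y : G} (L : Loc G t v y)
include L

/-! ### conjugacy among powers of `v` and `y` -/

theorem nc_v_pow (k : ℕ) (hk : k = 0 ∨ k = 2 ∨ k = 4 ∨ k = 6) : ¬ IsConj v (v ^ k) := by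
  apply not_isConj_of_orderOf_ne
  rw [L.ov]
  rcases hk with rfl | rfl | rfl | rfl
  · simp
  all_goals rw [L.ord_v_pow _ (by norm_num)]; norm_num

theorem nc_v5_pow (k : ℕ) (hk : k = 0 ∨ k = 2 ∨ k = 4 ∨ k = 6) : ¬ IsConj (v ^ 5) (v ^ k) := by
  apply not_isConj_of_orderOf_ne
  rw [L.ord_v_pow 5 (by norm_num)]
  rcases hk with rfl | rfl | rfl | rfl
  · simp
  all_goals rw [L.ord_v_pow _ (by norm_num)]; norm_num

theorem nc_u_pow (k : ℕ) (hk : k = 0 ∨ k = 1 ∨ k = 3 ∨ k = 4 ∨ k = 5 ∨ k = 7) :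
    ¬ IsConj (v ^ 2) (v ^ k) := by
  apply not_isConj_of_orderOf_ne
  rw [L.ord_v_pow 2 (by norm_num)]
  rcases hk with rfl | rfl | rfl | rfl | rfl | rfl
  · simp
  all_goals rw [L.ord_v_pow _ (by norm_num)]; norm_num

theorem nc_t_pow (k : ℕ) (hk : k = 0 ∨ k = 1 ∨ k = 2 ∨ k = 3 ∨ k = 5 ∨ k = 6 ∨ k = 7) :
    ¬ IsConj t (v ^ k) := by
  apply not_isConj_of_orderOf_ne
  rw [L.ot]
  rcases hk with rfl | rfl | rfl | rfl | rfl | rfl | rfl
  · simp
  all_goals rw [L.ord_v_pow _ (by norm_num)]; norm_num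

theorem nc_y_vpow (k : ℕ) (hk : k < 8) : ¬ IsConj y (v ^ k) := by
  apply not_isConj_of_orderOf_ne
  rw [L.oy]
  interval_cases k
  · simp
  all_goals rw [L.ord_v_pow _ (by norm_num)]; norm_num

theorem nc_y_pow (k : ℕ) (hk : k = 0 ∨ k = 2 ∨ k = 3 ∨ k = 4) : ¬ IsConj y (y ^ k) := by
  apply not_isConj_of_orderOf_ne
  rw [L.oy]
  rcases hk with rfl | rfl | rfl | rfl
  · simp
  all_goals rw [L.ord_y_pow _ (by norm_num)]; norm_num

theorem nc_t_ypow (k : ℕ) (hk : k = 0 ∨ k = 1 ∨ k = 2 ∨ k = 4 ∨ k = 5) : ¬ IsConj t (y ^ k) := by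
  apply not_isConj_of_orderOf_ne
  rw [L.ot]
  rcases hk with rfl | rfl | rfl | rfl | rfl
  · simp
  all_goals rw [L.ord_y_pow _ (by norm_num)]; norm_num

theorem nc_vpow_ypow (j : ℕ) (hj : j = 1 ∨ j = 2 ∨ j = 5) (k : ℕ) (hk : k < 6) :
    ¬ IsConj (v ^ j) (y ^ k) := by
  apply not_isConj_of_orderOf_ne
  have h1 : orderOf (v ^ j) = 8 ∨ orderOf (v ^ j) = 4 := by
    rcases hj with rfl | rfl | rfl
    all_goals rw [L.ord_v_pow _ (by norm_num)]; norm_num
  interval_cases k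
  · rcases h1 with h1 | h1 <;> rw [h1] <;> simp
  all_goals rw [L.ord_y_pow _ (by norm_num)]; rcases h1 with h1 | h1 <;> rw [h1] <;> norm_num

/-! ### the sums over conjugate powers -/

open Classical in
theorem sum8_v (F : ℕ → ℂ) :
    (∑ k ∈ Finset.range 8, if IsConj v (v ^ k) then F k else 0) = F 1 + F 3 := by
  simp only [Finset.sum_range_succ, Finset.sum_range_zero]
  rw [if_neg (L.nc_v_pow 0 (by simp)), if_pos (by rw [pow_one]), if_neg (L.nc_v_pow 2 (by simp)),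
    if_pos L.v3, if_neg (L.nc_v_pow 4 (by simp)), if_neg L.v5, if_neg (L.nc_v_pow 6 (by simp)),
    if_neg L.v7]
  ring

open Classical in
theorem sum8_v5 (F : ℕ → ℂ) :
    (∑ k ∈ Finset.range 8, if IsConj (v ^ 5) (v ^ k) then F k else 0) = F 5 + F 7 := by
  simp only [Finset.sum_range_succ, Finset.sum_range_zero]
  rw [if_neg (L.nc_v5_pow 0 (by simp)), if_neg (by rw [pow_one]; exact L.not_v51),
    if_neg (L.nc_v5_pow 2 (by simp)), if_neg L.not_v53, if_neg (L.nc_v5_pow 4 (by simp)),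
    if_pos (IsConj.refl _), if_neg (L.nc_v5_pow 6 (by simp)), if_pos L.v57]
  ring

open Classical in
theorem sum8_u (F : ℕ → ℂ) :
    (∑ k ∈ Finset.range 8, if IsConj (v ^ 2) (v ^ k) then F k else 0) = F 2 + F 6 := by
  simp only [Finset.sum_range_succ, Finset.sum_range_zero]
  rw [if_neg (L.nc_u_pow 0 (by simp)), if_neg (L.nc_u_pow 1 (by simp)),
    if_pos (IsConj.refl _), if_neg (L.nc_u_pow 3 (by simp)), if_neg (L.nc_u_pow 4 (by simp)),
    if_neg (L.nc_u_pow 5 (by simp)), if_pos L.v26, if_neg (L.nc_u_pow 7 (by simp))]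
  ring

open Classical in
theorem sum8_t (F : ℕ → ℂ) :
    (∑ k ∈ Finset.range 8, if IsConj t (v ^ k) then F k else 0) = F 4 := by
  simp only [Finset.sum_range_succ, Finset.sum_range_zero]
  rw [if_neg (L.nc_t_pow 0 (by simp)), if_neg (L.nc_t_pow 1 (by simp)),
    if_neg (L.nc_t_pow 2 (by simp)), if_neg (L.nc_t_pow 3 (by simp)),
    if_pos (by rw [L.hv4]), if_neg (L.nc_t_pow 5 (by simp)), if_neg (L.nc_t_pow 6 (by simp)),
    if_neg (L.nc_t_pow 7 (by simp))]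
  ring

open Classical in
theorem sum8_y (F : ℕ → ℂ) :
    (∑ k ∈ Finset.range 8, if IsConj y (v ^ k) then F k else 0) = 0 := by
  apply Finset.sum_eq_zero
  intro k hk
  rw [if_neg (L.nc_y_vpow k (Finset.mem_range.mp hk))]

open Classical in
theorem sum6_y (P : ℕ → ℂ) :
    (∑ k ∈ Finset.range 6, if IsConj y (y ^ k) then P k else 0) = P 1 + P 5 := by
  simp only [Finset.sum_range_succ, Finset.sum_range_zero]
  rw [if_neg (L.nc_y_pow 0 (by simp)), if_pos (by rw [pow_one]), if_neg (L.nc_y_pow 2 (by simp)),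
    if_neg (L.nc_y_pow 3 (by simp)), if_neg (L.nc_y_pow 4 (by simp)), if_pos L.y5]
  ring

open Classical in
theorem sum6_t (P : ℕ → ℂ) :
    (∑ k ∈ Finset.range 6, if IsConj t (y ^ k) then P k else 0) = P 3 := by
  simp only [Finset.sum_range_succ, Finset.sum_range_zero]
  rw [if_neg (L.nc_t_ypow 0 (by simp)), if_neg (L.nc_t_ypow 1 (by simp)),
    if_neg (L.nc_t_ypow 2 (by simp)), if_pos (by rw [L.hy3]), if_neg (L.nc_t_ypow 4 (by simp)),
    if_neg (L.nc_t_ypow 5 (by simp))]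
  ring

open Classical in
theorem sum6_vpow (P : ℕ → ℂ) (j : ℕ) (hj : j = 1 ∨ j = 2 ∨ j = 5) :
    (∑ k ∈ Finset.range 6, if IsConj (v ^ j) (y ^ k) then P k else 0) = 0 := by
  apply Finset.sum_eq_zero
  intro k hk
  rw [if_neg (L.nc_vpow_ypow j hj k (Finset.mem_range.mp hk))]

end Loc

end Cfsg.Agent.Lib.Helper8.Gl
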