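import Mathlib
import Cfsg.Agent.Lib.Helper8.GlC
import Cfsg.Agent.Lib.Helper6.IrrBasis

/-! The key lemma for `Θ = Ind_{⟨v⟩} φ + Ind_{⟨y⟩} ψ`. -/

set_option autoImplicit false

namespace Cfsg.Agent.Lib.Helper8.Gl

open scoped ComplexConjugate
open Cfsg.Agent.Lib.Helper6

variable {G : Type*} [Group G]

theorem eq_of_isConj {χ : G → ℂ} (hχ : Cfsg.IsClassFunction G χ) {a b : G} (h : IsConj a b) :
    χ a = χ b := by
  obtain ⟨c, hc⟩ := isConj_iff.mp h
  rw [← hc]
  exact (hχ a c).symm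

/-- the combination of two induced class functions -/
noncomputable def theta [Fintype G] (v y : G) (φ : Subgroup.zpowers v → ℂ)
    (ψ : Subgroup.zpowers y → ℂ) : G → ℂ :=
  Cfsg.indFun (Subgroup.zpowers v) φ + Cfsg.indFun (Subgroup.zpowers y) ψ

variable [Fintype G] {t v y : G} (L : Loc G t v y)
  (φ : Subgroup.zpowers v → ℂ) (ψ : Subgroup.zpowers y → ℂ) (F P : ℕ → ℂ)
  (hF : ∀ k, φ ⟨v ^ k, Subgroup.npow_mem_zpowers v k⟩ = F k)
  (hP : ∀ k, ψ ⟨y ^ k, Subgroup.npow_mem_zpowers y k⟩ = P k)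

include L hF hP

theorem theta_one (hF0 : F 0 = 0) (hP0 : P 0 = 0) : theta v y φ ψ 1 = 0 := by
  unfold theta
  rw [Pi.add_apply, indFun_zpowers_one, indFun_zpowers_one, add_zero]
  · have := hP 0
    rw [hP0] at this
    rw [← this]; congr 1; apply Subtype.ext; simp
  · have := hF 0
    rw [hF0] at this
    rw [← this]; congr 1; apply Subtype.ext; simp

theorem theta_t : theta v y φ ψ t = 6 * F 4 + 8 * P 3 := by
  classical
  unfold theta
  rw [Pi.add_apply, indFun_zpowers_apply v 8 L.ov φ F hF, indFun_zpowers_apply y 6 L.oy ψ P hP,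
    L.ct, L.sum8_t, L.sum6_t]
  push_cast
  ring

theorem theta_u : theta v y φ ψ (v ^ 2) = F 2 + F 6 := by
  classical
  unfold theta
  rw [Pi.add_apply, indFun_zpowers_apply v 8 L.ov φ F hF, indFun_zpowers_apply y 6 L.oy ψ P hP,
    L.card_cent_u, L.sum8_u, L.sum6_vpow P 2 (by simp)]
  push_cast
  ring

theorem theta_v : theta v y φ ψ v = F 1 + F 3 := by
  classical
  unfold theta
  have h6 := L.sum6_vpow P 1 (by simp)
  rw [pow_one] at h6
  rw [Pi.add_apply, indFun_zpowers_apply v 8 L.ov φ F hF, indFun_zpowers_apply y 6 L.oy ψ P hP,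
    L.card_cent_v, L.sum8_v, h6]
  push_cast
  ring

theorem theta_v5 : theta v y φ ψ (v ^ 5) = F 5 + F 7 := by
  classical
  unfold theta
  rw [Pi.add_apply, indFun_zpowers_apply v 8 L.ov φ F hF, indFun_zpowers_apply y 6 L.oy ψ P hP,
    L.card_cent_v5, L.sum8_v5, L.sum6_vpow P 5 (by simp)]
  push_cast
  ring

theorem theta_y : theta v y φ ψ y = P 1 + P 5 := by
  classical
  unfold theta
  rw [Pi.add_apply, indFun_zpowers_apply v 8 L.ov φ F hF, indFun_zpowers_apply y 6 L.oy ψ P hP,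
    L.card_cent_y, L.sum8_y, L.sum6_y]
  push_cast
  ring

theorem theta_inner (hF0 : F 0 = 0) (hP0 : P 0 = 0) (hP2 : P 2 = 0) (hP4 : P 4 = 0)
    (χ : G → ℂ) (hχ : Cfsg.IsClassFunction G χ) :
    48 * Cfsg.classInner (theta v y φ ψ) χ
      = theta v y φ ψ t * conj (χ t) + 6 * theta v y φ ψ (v ^ 2) * conj (χ (v ^ 2))
        + 8 * theta v y φ ψ y * conj (χ y) + 6 * theta v y φ ψ v * conj (χ v)
        + 6 * theta v y φ ψ (v ^ 5) * conj (χ (v ^ 5)) := by
  rw [theta_t L φ ψ F P hF hP, theta_u L φ ψ F P hF hP, theta_v L φ ψ F P hF hP,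
    theta_v5 L φ ψ F P hF hP, theta_y L φ ψ F P hF hP]
  unfold theta
  rw [classInner_add_left, classInner_indFun_zpowers v 8 L.ov φ F hF χ hχ,
    classInner_indFun_zpowers y 6 L.oy ψ P hP χ hχ]
  simp only [Finset.sum_range_succ, Finset.sum_range_zero]
  rw [hF0, hP0, hP2, hP4, pow_one, pow_one, ← eq_of_isConj hχ L.v3, L.hv4,
    ← eq_of_isConj hχ L.v26, ← eq_of_isConj hχ L.v57, L.hy3, ← eq_of_isConj hχ L.y5]
  push_cast
  ring

end Cfsg.Agent.Lib.Helper8.Gl
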