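import Mathlib
import Cfsg.Agent.Lib.Helper8.GlD
import Cfsg.Agent.Lib.Helper6.Mult
import Cfsg.Agent.Lib.Helper6.GenCharOps

/-! The five generalized characters `Θ₁ … Θ₅`. -/

set_option autoImplicit false

namespace Cfsg.Agent.Lib.Helper8.Gl

open scoped ComplexConjugate
open Cfsg.Agent.Lib.Helper6

variable {G : Type*} [Group G]

/-- a generalized character of `G` vanishing at `1` with prescribed values on
`t, v², y, v, v⁵` and the corresponding inner product formula -/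
structure IsTh [Fintype G] (t v y : G) (Θ : G → ℂ) (a b c d e : ℂ) : Prop where
  gen : Cfsg.IsGeneralizedCharacter G Θ
  one : Θ 1 = 0
  vt : Θ t = a
  vu : Θ (v ^ 2) = b
  vy : Θ y = c
  vv : Θ v = d
  vw : Θ (v ^ 5) = e
  inner : ∀ χ : G → ℂ, Cfsg.IsClassFunction G χ →
    48 * Cfsg.classInner Θ χ = a * conj (χ t) + 6 * b * conj (χ (v ^ 2)) + 8 * c * conj (χ y)
      + 6 * d * conj (χ v) + 6 * e * conj (χ (v ^ 5))

theorem isTh_of [Fintype G] {t v y : G} (L : Loc G t v y)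
    (φ : Subgroup.zpowers v → ℂ) (ψ : Subgroup.zpowers y → ℂ) (F P : ℕ → ℂ)
    (hF : ∀ k, φ ⟨v ^ k, Subgroup.npow_mem_zpowers v k⟩ = F k)
    (hP : ∀ k, ψ ⟨y ^ k, Subgroup.npow_mem_zpowers y k⟩ = P k)
    (hφ : Cfsg.IsGeneralizedCharacter (Subgroup.zpowers v) φ)
    (hψ : Cfsg.IsGeneralizedCharacter (Subgroup.zpowers y) ψ)
    (hF0 : F 0 = 0) (hP0 : P 0 = 0) (hP2 : P 2 = 0) (hP4 : P 4 = 0) {a b c d e : ℂ}
    (ha : 6 * F 4 + 8 * P 3 = a) (hb : F 2 + F 6 = b) (hc : P 1 + P 5 = c) (hd : F 1 + F 3 = d)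
    (he : F 5 + F 7 = e) : IsTh t v y (theta v y φ ψ) a b c d e := by
  have h1 := theta_t L φ ψ F P hF hP
  have h2 := theta_u L φ ψ F P hF hP
  have h3 := theta_y L φ ψ F P hF hP
  have h4 := theta_v L φ ψ F P hF hP
  have h5 := theta_v5 L φ ψ F P hF hP
  rw [ha] at h1
  rw [hb] at h2
  rw [hc] at h3
  rw [hd] at h4
  rw [he] at h5
  refine ⟨?_, theta_one L φ ψ F P hF hP hF0 hP0, h1, h2, h3, h4, h5, ?_⟩
  · unfold theta
    exact IsGeneralizedCharacter.add (IsGeneralizedCharacter.indFun _ hφ)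
      (IsGeneralizedCharacter.indFun _ hψ)
  · intro χ hχ
    rw [theta_inner L φ ψ F P hF hP hF0 hP0 hP2 hP4 χ hχ, h1, h2, h3, h4, h5]

/-- linear characters of a finite cyclic subgroup -/
theorem exists_hom_zpowers (c : G) (n : ℕ) (hn : orderOf c = n) (z : ℂ) (hz : z ^ n = 1)
    (hn0 : 0 < n) :
    ∃ lam : Subgroup.zpowers c →* ℂˣ, ∀ k : ℕ,
      ((lam ⟨c ^ k, Subgroup.npow_mem_zpowers c k⟩ : ℂˣ) : ℂ) = z ^ k := by
  have hz0 : z ≠ 0 := by
    rintro rfl
    rw [zero_pow hn0.ne'] at hz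
    exact zero_ne_one hz
  let zU : ℂˣ := Units.mk0 z hz0
  have hzU : zU ^ n = 1 := by
    apply Units.ext
    rw [Units.val_pow_eq_pow_val, Units.val_one]
    exact hz
  let gen : Subgroup.zpowers c := ⟨c, Subgroup.mem_zpowers c⟩
  have hgen : ∀ x : Subgroup.zpowers c, x ∈ Subgroup.zpowers gen := by
    intro x
    obtain ⟨m, hm⟩ := Subgroup.mem_zpowers_iff.mp x.2
    rw [Subgroup.mem_zpowers_iff]
    refine ⟨m, ?_⟩
    apply Subtype.ext
    rw [Subgroup.coe_zpow]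
    exact hm
  have hordgen : orderOf gen = n := by
    have := Subgroup.orderOf_coe gen
    rw [← this]
    exact hn
  have hdvd : orderOf zU ∣ orderOf gen := by
    rw [hordgen]
    exact orderOf_dvd_of_pow_eq_one hzU
  refine ⟨monoidHomOfForallMemZpowers hgen hdvd, ?_⟩
  intro k
  have h1 : (⟨c ^ k, Subgroup.npow_mem_zpowers c k⟩ : Subgroup.zpowers c) = gen ^ k := by
    apply Subtype.ext
    simp [gen]
  rw [h1, map_pow, monoidHomOfForallMemZpowers_apply_gen hgen hdvd, Units.val_pow_eq_pow_val]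
  rfl

/-- powers of a linear character are characters -/
theorem isGeneralizedCharacter_pow {H : Type*} [Group H] (lam : H →* ℂˣ) (j : ℕ) :
    Cfsg.IsGeneralizedCharacter H (fun h => ((lam h : ℂˣ) : ℂ) ^ j) := by
  have h := IsIrrCharacter.isCharacter (isIrrCharacter_of_hom ((powMonoidHom j).comp lam))
  have h2 : (fun h => ((((powMonoidHom j).comp lam) h : ℂˣ) : ℂ))
      = fun h => ((lam h : ℂˣ) : ℂ) ^ j := by
    funext h
    simp
  rw [h2] at h
  exact IsCharacter.isGeneralizedCharacter h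

end Cfsg.Agent.Lib.Helper8.Gl
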