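import Mathlib

namespace Cfsg.Agent.Lib.Helper8.HIG

open Matrix

/-- matrix units data: `A² = B² = 0`, `AB + BA = 1`. -/
structure MU (R : Type*) [Ring R] where
  A : R
  B : R
  hA : A * A = 0
  hB : B * B = 0
  hAB : A * B + B * A = 1

namespace MU
variable {R : Type*} [Ring R] (m : MU R)

/-- the idempotent `e = AB`. -/
def e : R := m.A * m.B

theorem BA_eq : m.B * m.A = 1 - m.A * m.B := by rw [← m.hAB]; abel

theorem ABA : m.A * m.B * m.A = m.A := by
  rw [mul_assoc, m.BA_eq, mul_sub, mul_one, ← mul_assoc, m.hA, zero_mul, sub_zero]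

theorem BAB : m.B * m.A * m.B = m.B := by
  rw [m.BA_eq, sub_mul, one_mul, mul_assoc, m.hB, mul_zero, sub_zero]

theorem e_mul_e : m.e * m.e = m.e := by
  unfold e; rw [← mul_assoc, m.ABA]

theorem e_mul_A : m.e * m.A = m.A := m.ABA
theorem A_mul_e : m.A * m.e = 0 := by unfold e; rw [← mul_assoc, m.hA, zero_mul]
theorem B_mul_e : m.B * m.e = m.B := by unfold e; rw [← mul_assoc, m.BAB]
theorem e_mul_B : m.e * m.B = 0 := by unfold e; rw [mul_assoc, m.hB, mul_zero]
theorem e_add : m.e + m.B * m.A = 1 := m.hAB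

theorem key (X Y : R) : X * m.e * (m.e * Y) + X * m.B * (m.A * Y) = X * Y := by
  have h1 : X * m.e * (m.e * Y) = X * m.e * Y := by
    rw [mul_assoc X, ← mul_assoc m.e, m.e_mul_e, ← mul_assoc]
  have h2 : X * m.B * (m.A * Y) = X * (m.B * m.A) * Y := by simp only [mul_assoc]
  rw [h1, h2, ← add_mul, ← mul_add, m.e_add, mul_one]

/-- Peirce coordinates. -/
def Θ (Z : R) : Matrix (Fin 2) (Fin 2) R :=
  !![m.e * Z * m.e, m.e * Z * m.B; m.A * Z * m.e, m.A * Z * m.B]

theorem Θ_mul (Z Z' : R) : m.Θ (Z * Z') = m.Θ Z * m.Θ Z' := by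
  ext i j; fin_cases i <;> fin_cases j <;>
    simp only [Θ, Matrix.mul_apply, Fin.sum_univ_two, Matrix.of_apply, Matrix.cons_val',
      Matrix.cons_val_zero, Matrix.cons_val_one, Matrix.cons_val_fin_one, Fin.zero_eta, Fin.mk_one,
      Fin.isValue]
  · have := m.key (m.e * Z) (Z' * m.e); simp only [mul_assoc] at this ⊢; exact this.symm
  · have := m.key (m.e * Z) (Z' * m.B); simp only [mul_assoc] at this ⊢; exact this.symm
  · have := m.key (m.A * Z) (Z' * m.e); simp only [mul_assoc] at this ⊢; exact this.symm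
  · have := m.key (m.A * Z) (Z' * m.B); simp only [mul_assoc] at this ⊢; exact this.symm

theorem Θ_add (Z Z' : R) : m.Θ (Z + Z') = m.Θ Z + m.Θ Z' := by
  ext i j; fin_cases i <;> fin_cases j <;> simp [Θ, mul_add, add_mul]

theorem Θ_zero : m.Θ 0 = 0 := by
  ext i j; fin_cases i <;> fin_cases j <;> simp [Θ]

theorem Θ_one : m.Θ 1 = !![m.e, 0; 0, m.e] := by
  ext i j; fin_cases i <;> fin_cases j <;>
    simp [Θ, m.e_mul_e, m.e_mul_B, m.A_mul_e] 
  · rfl

theorem Θ_A : m.Θ m.A = !![0, m.e; 0, 0] := by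
  ext i j; fin_cases i <;> fin_cases j <;>
    simp [Θ, m.e_mul_A, m.A_mul_e, m.hA]
  · rfl

theorem Θ_B : m.Θ m.B = !![0, 0; m.e, 0] := by
  ext i j; fin_cases i <;> fin_cases j <;>
    simp [Θ, m.e_mul_B, m.B_mul_e, m.hB, mul_assoc]
  · rfl

theorem recon (Z : R) : Z = m.e * Z * m.e + m.e * Z * m.B * m.A + m.B * (m.A * Z * m.e) +
    m.B * (m.A * Z * m.B) * m.A := by
  have h1 : Z = (m.e + m.B * m.A) * Z * (m.e + m.B * m.A) := by rw [m.e_add, one_mul, mul_one]
  conv_lhs => rw [h1]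
  noncomm_ring

theorem Θ_inj {Z Z' : R} (h : m.Θ Z = m.Θ Z') : Z = Z' := by
  have h00 := congrFun (congrFun h 0) 0
  have h01 := congrFun (congrFun h 0) 1
  have h10 := congrFun (congrFun h 1) 0
  have h11 := congrFun (congrFun h 1) 1
  simp [Θ] at h00 h01 h10 h11
  rw [m.recon Z, m.recon Z', h00, h01, h10, h11]

end MU

end Cfsg.Agent.Lib.Helper8.HIG
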