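import Cfsg.Agent.Lib.Helper8.HIGMat

namespace Cfsg.Agent.Lib.Helper8.HIG

open Matrix

section char2
variable {R : Type*} [Ring R]

theorem add_self_R (h2 : (2 : R) = 0) (x : R) : x + x = 0 := by
  rw [← two_mul, h2, zero_mul]

theorem neg_eq_R (h2 : (2 : R) = 0) (x : R) : -x = x :=
  neg_eq_of_add_eq_zero_left (add_self_R h2 x)

theorem sub_eq_R (h2 : (2 : R) = 0) (x y : R) : x - y = x + y := by
  rw [sub_eq_add_neg, neg_eq_R h2]

/-- the pair lemma: two involutions `t, s` with `(ts)² + ts + 1 = 0`. -/
theorem pair_lemma (h2 : (2 : R) = 0) {t s : R} (ht : t * t = 1) (hs : s * s = 1)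
    (h3 : t * s * (t * s) + t * s + 1 = 0) :
    (t + 1) * (t + 1) = 0 ∧ (s + 1) * (s + 1) = 0 ∧
      (t + 1) * (s + 1) + (s + 1) * (t + 1) = 1 ∧ t * s * t = (t + 1) + (s + 1) := by
  have h11 : (1 : R) + 1 = 0 := by rw [one_add_one_eq_two, h2]
  have hts : t * s + s * t = 1 := by
    have e1 : s * t * (t * s * (t * s) + t * s + 1) = t * s + 1 + s * t := by
      have a1 : s * t * (t * s * (t * s)) = t * s := by
        calc s * t * (t * s * (t * s)) = s * (t * t) * s * (t * s) := by noncomm_ring
          _ = t * s := by rw [ht, mul_one, hs, one_mul]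
      have a2 : s * t * (t * s) = 1 := by
        calc s * t * (t * s) = s * (t * t) * s := by noncomm_ring
          _ = 1 := by rw [ht, mul_one, hs]
      rw [mul_add, mul_add, a1, a2, mul_one]
    rw [h3, mul_zero] at e1
    calc t * s + s * t = (t * s + 1 + s * t) + 1 - (1 + 1) := by abel
      _ = 1 := by rw [← e1, h11]; simp
  refine ⟨?_, ?_, ?_, ?_⟩
  · calc (t + 1) * (t + 1) = t * t + (t + t) + 1 := by noncomm_ring
      _ = 0 := by rw [ht, add_self_R h2, add_zero, h11]
  · calc (s + 1) * (s + 1) = s * s + (s + s) + 1 := by noncomm_ring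
      _ = 0 := by rw [hs, add_self_R h2, add_zero, h11]
  · calc (t + 1) * (s + 1) + (s + 1) * (t + 1)
        = (t * s + s * t) + (t + t) + (s + s) + (1 + 1) := by noncomm_ring
      _ = 1 := by rw [hts, add_self_R h2, add_self_R h2, h11]; simp
  · have e2 : t * s * t + s = t := by
      calc t * s * t + s = (t * s + s * t) * t + s * (1 - t * t) := by noncomm_ring
        _ = t := by rw [hts, ht]; simp
    calc t * s * t = (t * s * t + s) + s - (s + s) := by abel
      _ = t + 1 + (s + 1) := by
        rw [e2, add_self_R h2, sub_zero]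
        calc t + s = t + s + 0 := by rw [add_zero]
          _ = t + s + (1 + 1) := by rw [h11]
          _ = t + 1 + (s + 1) := by abel

end char2

end Cfsg.Agent.Lib.Helper8.HIG
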