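import Cfsg.Agent.Lib.Helper8.HIGMat
import Cfsg.Agent.Lib.Helper8.HIGMU
import Cfsg.Agent.Lib.Helper8.HIGPair

namespace Cfsg.Agent.Lib.Helper8.HIG

open Matrix

/-- context of the ring lemma. -/
structure HCtx (K : Type*) [Field K] (R : Type*) [Ring R] where
  ρ : Matrix.SpecialLinearGroup (Fin 2) K →* R
  h2 : (2 : R) = 0
  H3 : ρ (uM 1 * lM 1) * ρ (uM 1 * lM 1) + ρ (uM 1 * lM 1) + 1 = 0
  hsq : ∀ a : K, ∃ m : K, m ^ 2 = a

namespace HCtx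
variable {K : Type*} [Field K] [CharP K 2] {R : Type*} [Ring R] (H : HCtx K R)

/-- `A_c = ρ(u(c)) + 1`. -/
def Ac (c : K) : R := H.ρ (uM c) + 1
/-- `L_c = ρ(l(c)) + 1`. -/
def Lc (c : K) : R := H.ρ (lM c) + 1

include H in
theorem h11 : (1 : R) + 1 = 0 := by rw [one_add_one_eq_two, H.h2]

theorem tt (c : K) : H.ρ (uM c) * H.ρ (uM c) = 1 := by
  rw [← map_mul, uM_mul, add_self_K, uM_zero, map_one]

theorem ss (c : K) : H.ρ (lM c) * H.ρ (lM c) = 1 := by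
  rw [← map_mul, lM_mul, add_self_K, lM_zero, map_one]

theorem H3c {c : K} (hc : c ≠ 0) :
    H.ρ (uM c) * H.ρ (lM c⁻¹) * (H.ρ (uM c) * H.ρ (lM c⁻¹)) + H.ρ (uM c) * H.ρ (lM c⁻¹) + 1 = 0 := by
  obtain ⟨m, hm⟩ := H.hsq c
  have hm0 : m ≠ 0 := by rintro rfl; apply hc; rw [← hm]; simp
  have hcm : c = m * m := by rw [← hm, sq]
  set D := H.ρ (wM m * wM 1) with hD
  set D' := H.ρ (wM 1 * wM m) with hD'
  set y := H.ρ (uM 1 * lM 1) with hy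
  have hDD' : D' * D = 1 := by
    rw [hD, hD', ← map_mul]
    have : wM 1 * wM m * (wM m * wM 1) = (1 : Matrix.SpecialLinearGroup (Fin 2) K) := by
      rw [mul_assoc, ← mul_assoc (wM m), wM_mul_self hm0, one_mul, wM_mul_self one_ne_zero]
    rw [this, map_one]
  have hD'D : D * D' = 1 := by
    rw [hD, hD', ← map_mul]
    have : wM m * wM 1 * (wM 1 * wM m) = (1 : Matrix.SpecialLinearGroup (Fin 2) K) := by
      rw [mul_assoc, ← mul_assoc (wM 1), wM_mul_self one_ne_zero, one_mul, wM_mul_self hm0]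
    rw [this, map_one]
  have hconj : H.ρ (uM c) * H.ρ (lM c⁻¹) = D * y * D' := by
    rw [← map_mul, hcm, conj_x0 hm0, map_mul, map_mul]
  rw [hconj]
  calc D * y * D' * (D * y * D') + D * y * D' + 1
      = D * (y * (D' * D) * y + y + 1) * D' + (1 - D * D') := by noncomm_ring
    _ = 0 := by rw [hDD', mul_one, H.H3, hD'D]; simp

theorem pairc {c : K} (hc : c ≠ 0) :
    H.Ac c * H.Ac c = 0 ∧ H.Lc c⁻¹ * H.Lc c⁻¹ = 0 ∧
      H.Ac c * H.Lc c⁻¹ + H.Lc c⁻¹ * H.Ac c = 1 ∧ H.ρ (wM c) = H.Ac c + H.Lc c⁻¹ := by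
  have := pair_lemma H.h2 (H.tt c) (H.ss c⁻¹) (H.H3c hc)
  refine ⟨this.1, this.2.1, this.2.2.1, ?_⟩
  rw [wM, map_mul, map_mul]; exact this.2.2.2

/-- the matrix units `(A_1, L_1)`. -/
def mu : MU R where
  A := H.Ac 1
  B := H.Lc 1
  hA := (H.pairc one_ne_zero).1
  hB := by have := (H.pairc (one_ne_zero (α := K))).2.1; rwa [inv_one] at this
  hAB := by have := (H.pairc (one_ne_zero (α := K))).2.2.1; rwa [inv_one] at this

theorem rho_w1 : H.ρ (wM 1) = H.mu.A + H.mu.B := by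
  have := (H.pairc (one_ne_zero (α := K))).2.2.2; rwa [inv_one] at this

theorem Ac_comm (a b : K) : H.Ac a * H.Ac b = H.Ac b * H.Ac a := by
  have h : H.ρ (uM a) * H.ρ (uM b) = H.ρ (uM b) * H.ρ (uM a) := by
    rw [← map_mul, ← map_mul, uM_mul, uM_mul, add_comm]
  unfold Ac
  calc (H.ρ (uM a) + 1) * (H.ρ (uM b) + 1) = H.ρ (uM a) * H.ρ (uM b) + H.ρ (uM a) + H.ρ (uM b) + 1 := by
        noncomm_ring
    _ = (H.ρ (uM b) + 1) * (H.ρ (uM a) + 1) := by rw [h]; noncomm_ring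

theorem Ac_add (a b : K) : H.Ac (a + b) = H.Ac a + H.Ac b + H.Ac a * H.Ac b := by
  unfold Ac
  rw [← uM_mul, map_mul]
  calc H.ρ (uM a) * H.ρ (uM b) + 1
      = H.ρ (uM a) + 1 + (H.ρ (uM b) + 1) + (H.ρ (uM a) + 1) * (H.ρ (uM b) + 1)
        - ((H.ρ (uM a) + H.ρ (uM a)) + (H.ρ (uM b) + H.ρ (uM b)) + (1 + 1)) := by noncomm_ring
    _ = _ := by rw [add_self_R H.h2, add_self_R H.h2, H.h11]; simp

theorem Ac_zero : H.Ac 0 = 0 := by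
  unfold Ac; rw [uM_zero, map_one, H.h11]

/-- diagonal Peirce coordinate of `A_c`. -/
def xx (c : K) : R := H.mu.e * H.Ac c * H.mu.e
/-- off-diagonal Peirce coordinate of `A_c`. -/
def yy (c : K) : R := H.mu.e * H.Ac c * H.mu.B

theorem e_xx (c : K) : H.mu.e * H.xx c = H.xx c := by
  unfold xx; rw [← mul_assoc, ← mul_assoc, H.mu.e_mul_e]
theorem xx_e (c : K) : H.xx c * H.mu.e = H.xx c := by
  unfold xx; rw [mul_assoc, H.mu.e_mul_e]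
theorem e_yy (c : K) : H.mu.e * H.yy c = H.yy c := by
  unfold yy; rw [← mul_assoc, ← mul_assoc, H.mu.e_mul_e]
theorem yy_e (c : K) : H.yy c * H.mu.e = H.yy c := by
  unfold yy; rw [mul_assoc, H.mu.B_mul_e]
theorem yy_B (c : K) : H.yy c * H.mu.B = 0 := by
  unfold yy; rw [mul_assoc, H.mu.hB, mul_zero]
theorem A_yy (c : K) : H.mu.A * H.yy c = 0 := by
  unfold yy; rw [← mul_assoc, ← mul_assoc, H.mu.A_mul_e, zero_mul, zero_mul]
theorem A_xx (c : K) : H.mu.A * H.xx c = 0 := by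
  unfold xx; rw [← mul_assoc, ← mul_assoc, H.mu.A_mul_e, zero_mul, zero_mul]

theorem Θ_Ac (c : K) : H.mu.Θ (H.Ac c) = !![H.xx c, H.yy c; 0, H.xx c] := by
  have hc : H.mu.A * H.Ac c = H.Ac c * H.mu.A := H.Ac_comm 1 c
  have h10 : H.mu.A * H.Ac c * H.mu.e = 0 := by
    rw [hc, mul_assoc, H.mu.A_mul_e, mul_zero]
  have h11 : H.mu.A * H.Ac c * H.mu.B = H.xx c := by
    unfold xx
    have : H.mu.e * H.Ac c * H.mu.e = H.mu.A * H.mu.B * H.mu.A * H.Ac c * H.mu.B := by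
      unfold MU.e
      calc H.mu.A * H.mu.B * H.Ac c * (H.mu.A * H.mu.B)
          = H.mu.A * H.mu.B * (H.Ac c * H.mu.A) * H.mu.B := by noncomm_ring
        _ = _ := by rw [← hc]; noncomm_ring
    rw [this, H.mu.ABA]
  ext i j; fin_cases i <;> fin_cases j <;> simp [MU.Θ, h10, h11] <;> rfl

end HCtx

section mat2
variable {R : Type*} [Ring R]
theorem mat2_ext_iff {a b c d a' b' c' d' : R} :
    !![a, b; c, d] = !![a', b'; c', d'] ↔ a = a' ∧ b = b' ∧ c = c' ∧ d = d' := by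
  constructor
  · intro h
    have h00 := congrFun (congrFun h 0) 0
    have h01 := congrFun (congrFun h 0) 1
    have h10 := congrFun (congrFun h 1) 0
    have h11 := congrFun (congrFun h 1) 1
    simp at h00 h01 h10 h11
    exact ⟨h00, h01, h10, h11⟩
  · rintro ⟨rfl, rfl, rfl, rfl⟩; rfl

theorem mat2_add (a b c d a' b' c' d' : R) :
    !![a, b; c, d] + !![a', b'; c', d'] = !![a + a', b + b'; c + c', d + d'] := by
  ext i j; fin_cases i <;> fin_cases j <;> simp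

theorem mat2_zero : (0 : Matrix (Fin 2) (Fin 2) R) = !![0, 0; 0, 0] := by
  ext i j; fin_cases i <;> fin_cases j <;> simp
end mat2

namespace HCtx
variable {K : Type*} [Field K] [CharP K 2] {R : Type*} [Ring R] (H : HCtx K R)

theorem Θ_w1 : H.mu.Θ (H.mu.A + H.mu.B) = !![0, H.mu.e; H.mu.e, 0] := by
  rw [H.mu.Θ_add, H.mu.Θ_A, H.mu.Θ_B, mat2_add]; simp

theorem w1_sq : (H.mu.A + H.mu.B) * (H.mu.A + H.mu.B) = 1 := by
  rw [← H.rho_w1, ← map_mul, wM_mul_self one_ne_zero, map_one]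

theorem Lc_eq (a : K) : H.Lc a = (H.mu.A + H.mu.B) * H.Ac a * (H.mu.A + H.mu.B) := by
  have h := congrArg H.ρ (wM_one_conj a)
  rw [map_mul, map_mul, H.rho_w1] at h
  unfold Lc Ac
  rw [← h]
  calc (H.mu.A + H.mu.B) * H.ρ (uM a) * (H.mu.A + H.mu.B) + 1
      = (H.mu.A + H.mu.B) * H.ρ (uM a) * (H.mu.A + H.mu.B)
          + (H.mu.A + H.mu.B) * (H.mu.A + H.mu.B) := by rw [H.w1_sq]
    _ = _ := by noncomm_ring

theorem Θ_Lc (c : K) : H.mu.Θ (H.Lc c) = !![H.xx c, 0; H.yy c, H.xx c] := by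
  rw [H.Lc_eq, H.mu.Θ_mul, H.mu.Θ_mul, H.Θ_w1, H.Θ_Ac, Matrix.mul_fin_two, Matrix.mul_fin_two]
  simp [H.e_xx, H.xx_e, H.e_yy, H.yy_e]

theorem xx_one : H.xx 1 = 0 := by
  show H.mu.e * H.mu.A * H.mu.e = 0
  rw [mul_assoc, H.mu.A_mul_e, mul_zero]

theorem yy_one : H.yy 1 = H.mu.e := by
  show H.mu.e * H.mu.A * H.mu.B = H.mu.e
  rw [H.mu.e_mul_A]; rfl

theorem xx_zero : H.xx 0 = 0 := by
  unfold xx; rw [H.Ac_zero, mul_zero, zero_mul]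

theorem yy_zero : H.yy 0 = 0 := by
  unfold yy; rw [H.Ac_zero, mul_zero, zero_mul]

theorem xx_yy_add_one (c : K) :
    H.xx (c + 1) = H.xx c ∧ H.yy (c + 1) = H.yy c + H.mu.e + H.xx c := by
  have h := congrArg H.mu.Θ (H.Ac_add c 1)
  have hA1 : H.Ac 1 = H.mu.A := rfl
  rw [hA1, H.mu.Θ_add, H.mu.Θ_add, H.mu.Θ_mul, H.Θ_Ac, H.Θ_Ac, H.mu.Θ_A, Matrix.mul_fin_two,
    mat2_add, mat2_add, mat2_ext_iff] at h
  obtain ⟨h00, h01, -, -⟩ := h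
  constructor
  · rw [h00]; simp
  · rw [h01]; simp [H.xx_e]

theorem Ac_sq (c : K) : H.Ac c * H.Ac c = 0 := by
  by_cases hc : c = 0
  · subst hc; rw [H.Ac_zero, mul_zero]
  · exact (H.pairc hc).1

theorem xx_sq (c : K) : H.xx c * H.xx c = 0 := by
  have h := congrArg H.mu.Θ (H.Ac_sq c)
  rw [H.mu.Θ_mul, H.Θ_Ac, H.mu.Θ_zero, Matrix.mul_fin_two, mat2_zero, mat2_ext_iff] at h
  obtain ⟨h00, -, -, -⟩ := h
  simpa using h00

/-- `ξ_c = x_c + x_{c⁻¹}`. -/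
def xi (c : K) : R := H.xx c + H.xx c⁻¹

theorem e_xi (c : K) : H.mu.e * H.xi c = H.xi c := by
  unfold xi; rw [mul_add, H.e_xx, H.e_xx]
theorem xi_e (c : K) : H.xi c * H.mu.e = H.xi c := by
  unfold xi; rw [add_mul, H.xx_e, H.xx_e]

theorem Θ_wc {c : K} (hc : c ≠ 0) :
    H.mu.Θ (H.ρ (wM c)) = !![H.xi c, H.yy c; H.yy c⁻¹, H.xi c] := by
  rw [(H.pairc hc).2.2.2, H.mu.Θ_add, H.Θ_Ac, H.Θ_Lc, mat2_add]
  simp [xi]

theorem wc_sq {c : K} (hc : c ≠ 0) : H.ρ (wM c) * H.ρ (wM c) = 1 := by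
  rw [← map_mul, wM_mul_self hc, map_one]

theorem wc_B_wc {c : K} (hc : c ≠ 0) : H.ρ (wM c) * H.mu.B * H.ρ (wM c) = H.Ac (c * c) := by
  have h := congrArg H.ρ (wM_lM_wM hc)
  rw [map_mul, map_mul] at h
  show H.ρ (wM c) * (H.ρ (lM 1) + 1) * H.ρ (wM c) = H.ρ (uM (c * c)) + 1
  calc H.ρ (wM c) * (H.ρ (lM 1) + 1) * H.ρ (wM c)
      = H.ρ (wM c) * H.ρ (lM 1) * H.ρ (wM c) + H.ρ (wM c) * H.ρ (wM c) := by noncomm_ring
    _ = _ := by rw [h, H.wc_sq hc]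

theorem wc_A_wc {c : K} (hc : c ≠ 0) : H.ρ (wM c) * H.mu.A * H.ρ (wM c) = H.Lc (c * c)⁻¹ := by
  have h := congrArg H.ρ (wM_uM_wM hc)
  rw [map_mul, map_mul] at h
  show H.ρ (wM c) * (H.ρ (uM 1) + 1) * H.ρ (wM c) = H.ρ (lM (c * c)⁻¹) + 1
  calc H.ρ (wM c) * (H.ρ (uM 1) + 1) * H.ρ (wM c)
      = H.ρ (wM c) * H.ρ (uM 1) * H.ρ (wM c) + H.ρ (wM c) * H.ρ (wM c) := by noncomm_ring
    _ = _ := by rw [h, H.wc_sq hc]

theorem rels {c : K} (hc : c ≠ 0) :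
    H.yy c * H.xi c = H.xx (c * c) ∧ H.yy c * H.yy c = H.yy (c * c) ∧
      H.xi c * H.xi c = 0 ∧ H.yy c⁻¹ * H.xi c = H.xx (c * c)⁻¹ ∧
      H.yy c * H.yy c⁻¹ = H.mu.e := by
  have h1 := congrArg H.mu.Θ (H.wc_B_wc hc)
  rw [H.mu.Θ_mul, H.mu.Θ_mul, H.Θ_wc hc, H.mu.Θ_B, H.Θ_Ac, Matrix.mul_fin_two, Matrix.mul_fin_two,
    mat2_ext_iff] at h1
  obtain ⟨a00, a01, a10, -⟩ := h1
  simp [H.yy_e, H.xi_e] at a00 a01 a10
  have h2 := congrArg H.mu.Θ (H.wc_A_wc hc)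
  rw [H.mu.Θ_mul, H.mu.Θ_mul, H.Θ_wc hc, H.mu.Θ_A, H.Θ_Lc, Matrix.mul_fin_two, Matrix.mul_fin_two,
    mat2_ext_iff] at h2
  obtain ⟨-, -, -, b11⟩ := h2
  simp [H.yy_e, H.xi_e] at b11
  rw [← mul_inv] at b11
  have h3 := congrArg H.mu.Θ (H.wc_sq hc)
  rw [H.mu.Θ_mul, H.Θ_wc hc, H.mu.Θ_one, Matrix.mul_fin_two, mat2_ext_iff] at h3
  obtain ⟨c00, -, -, -⟩ := h3
  rw [a10, zero_add] at c00
  exact ⟨a00, a01, a10, b11, c00⟩

end HCtx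

namespace HCtx
variable {K : Type*} [Field K] [CharP K 2] {R : Type*} [Ring R] (H : HCtx K R)

theorem yy_inv {c : K} (hc : c ≠ 0) : H.yy c * H.yy c⁻¹ = H.mu.e := (H.rels hc).2.2.2.2

theorem F1 {d : K} (hd : d ≠ 0) : H.xx d = H.yy d * H.xx d⁻¹ := by
  obtain ⟨m, hm⟩ := H.hsq d
  have hm0 : m ≠ 0 := by rintro rfl; apply hd; rw [← hm]; simp
  have hd' : d = m * m := by rw [← hm, sq]
  obtain ⟨r1, r2, -, r4, r5⟩ := H.rels hm0
  have hxi : H.xi m = H.yy m * H.xx (m * m)⁻¹ := by rw [← r4, ← mul_assoc, r5, H.e_xi]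
  rw [hd', ← r1, hxi, ← mul_assoc, r2]

theorem F3 {c : K} (hc : c ≠ 0) : H.xx (c * c) = H.yy c * H.xx c + H.xx c := by
  obtain ⟨r1, -, -, -, r5⟩ := H.rels hc
  have h2 : H.xx c⁻¹ = H.yy c⁻¹ * H.xx c := by
    have := H.F1 (inv_ne_zero hc); rwa [inv_inv] at this
  rw [← r1]; unfold xi
  rw [mul_add, h2, ← mul_assoc, r5, H.e_xx]

theorem xx_eq_zero (c : K) : H.xx c = 0 := by
  by_cases h0 : c = 0
  · subst h0; exact H.xx_zero
  by_cases h1 : c = 1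
  · subst h1; exact H.xx_one
  have hc1 : c + 1 ≠ 0 := by
    intro h; apply h1
    have : c = (c + 1) + 1 := by rw [add_assoc, one_add_one_K, add_zero]
    rw [this, h, zero_add]
  have e1 := H.F3 hc1
  have hsq : (c + 1) * (c + 1) = c * c + 1 := by
    calc (c + 1) * (c + 1) = c * c + (c + c) + 1 := by ring
      _ = c * c + 1 := by rw [add_self_K, add_zero]
  obtain ⟨a1, a2⟩ := H.xx_yy_add_one c
  obtain ⟨b1, -⟩ := H.xx_yy_add_one (c * c)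
  rw [hsq, b1, a1, a2, H.F3 h0] at e1
  rw [add_mul, add_mul, H.e_xx, H.xx_sq, add_zero] at e1
  have := add_left_cancel (a := H.yy c * H.xx c + H.xx c) (b := 0) (c := H.xx c)
    (by rw [add_zero]; exact e1)
  exact this.symm

theorem xi_eq_zero (c : K) : H.xi c = 0 := by
  unfold xi; rw [H.xx_eq_zero, H.xx_eq_zero, add_zero]

theorem Θ_yy (c : K) : H.mu.Θ (H.yy c) = !![H.yy c, 0; 0, 0] := by
  unfold MU.Θ
  rw [H.e_yy, H.yy_e, H.yy_B, H.A_yy, zero_mul, zero_mul]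

theorem Ac_eq (c : K) : H.Ac c = H.yy c * H.mu.A := by
  apply H.mu.Θ_inj
  rw [H.Θ_Ac, H.xx_eq_zero, H.mu.Θ_mul, H.Θ_yy, H.mu.Θ_A, Matrix.mul_fin_two]
  simp [H.yy_e]

theorem Lc_eq' (c : K) : H.Lc c = H.mu.B * H.yy c := by
  apply H.mu.Θ_inj
  rw [H.Θ_Lc, H.xx_eq_zero, H.mu.Θ_mul, H.Θ_yy, H.mu.Θ_B, Matrix.mul_fin_two]
  simp [H.e_yy]

theorem yy_add (a b : K) : H.yy (a + b) = H.yy a + H.yy b := by
  have h0 : H.Ac a * H.Ac b = 0 := by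
    rw [H.Ac_eq a, H.Ac_eq b, mul_assoc, ← mul_assoc H.mu.A, H.A_yy, zero_mul, mul_zero]
  unfold yy
  rw [H.Ac_add, h0, add_zero, mul_add, add_mul]

theorem yy_mul (a b : K) : H.yy (a * b) = H.yy a * H.yy b := by
  by_cases ha : a = 0
  · subst ha; rw [zero_mul, H.yy_zero, zero_mul]
  by_cases hb : b = 0
  · subst hb; rw [mul_zero, H.yy_zero, mul_zero]
  have hd : ∀ {c : K}, c ≠ 0 → H.mu.Θ (H.ρ (wM c * wM 1)) = !![H.yy c, 0; 0, H.yy c⁻¹] := by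
    intro c hc
    rw [map_mul, H.mu.Θ_mul, H.Θ_wc hc, H.rho_w1, H.Θ_w1, H.xi_eq_zero, Matrix.mul_fin_two]
    simp [H.yy_e]
  have h : H.mu.Θ (H.ρ (wM a * wM 1 * (wM b * wM 1))) = H.mu.Θ (H.ρ (wM (a * b) * wM 1)) := by
    rw [dM_mul ha hb]
  rw [map_mul (f := H.ρ) (wM a * wM 1), H.mu.Θ_mul, hd ha, hd hb, hd (mul_ne_zero ha hb), Matrix.mul_fin_two,
    mat2_ext_iff] at h
  obtain ⟨h00, -, -, -⟩ := h
  simpa using h00.symm

end HCtx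

theorem ring_lemma {K : Type*} [Field K] [CharP K 2] (hsq : ∀ a : K, ∃ m : K, m ^ 2 = a)
    {R : Type*} [Ring R] (h2 : (2 : R) = 0) (ρ : Matrix.SpecialLinearGroup (Fin 2) K →* R)
    (H3 : ρ (uM 1 * lM 1) * ρ (uM 1 * lM 1) + ρ (uM 1 * lM 1) + 1 = 0) :
    ∃ (e A B : R) (γ : K → R), A = ρ (uM 1) + 1 ∧ B = ρ (lM 1) + 1 ∧ e = A * B ∧
      e * e = e ∧ A * A = 0 ∧ B * B = 0 ∧ A * B + B * A = 1 ∧
      (∀ a, e * γ a = γ a) ∧ (∀ a, γ a * e = γ a) ∧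
      (∀ a b, γ (a + b) = γ a + γ b) ∧ (∀ a b, γ (a * b) = γ a * γ b) ∧ γ 1 = e ∧ γ 0 = 0 ∧
      (∀ a, ρ (uM a) = 1 + γ a * A) ∧ (∀ a, ρ (lM a) = 1 + B * γ a) := by
  let H : HCtx K R := ⟨ρ, h2, H3, hsq⟩
  refine ⟨H.mu.e, H.mu.A, H.mu.B, H.yy, rfl, rfl, rfl, H.mu.e_mul_e, H.mu.hA, H.mu.hB, H.mu.hAB,
    H.e_yy, H.yy_e, H.yy_add, H.yy_mul, H.yy_one, H.yy_zero, ?_, ?_⟩
  · intro a
    have h := H.Ac_eq a
    have : ρ (uM a) = H.Ac a + 1 := by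
      show ρ (uM a) = ρ (uM a) + 1 + 1
      rw [add_assoc, H.h11, add_zero]
    rw [this, h, add_comm]
  · intro a
    have h := H.Lc_eq' a
    have : ρ (lM a) = H.Lc a + 1 := by
      show ρ (lM a) = ρ (lM a) + 1 + 1
      rw [add_assoc, H.h11, add_zero]
    rw [this, h, add_comm]

end Cfsg.Agent.Lib.Helper8.HIG
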