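import Cfsg.Agent.Lib.Helper8.HIGZ4c
import Cfsg.Agent.Lib.Helper2.HIGDefs

namespace Cfsg.Agent.Lib.Helper8.HIG

open Matrix

section main
variable {K : Type*} [Field K] [CharP K 2] {W : Type*} [AddCommGroup W]

theorem gamma_pow {M : Type*} [Ring M] (γ : K → M) (hmul : ∀ a c, γ (a * c) = γ a * γ c) (b : K) :
    ∀ k : ℕ, (γ b) ^ (k + 1) = γ (b ^ (k + 1)) := by
  intro k
  induction k with
  | zero => simp
  | succ k ih => rw [pow_succ, ih, pow_succ b (k + 1), hmul]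

theorem gamma_mul_pow {M : Type*} [Ring M] (γ : K → M) (hmul : ∀ a c, γ (a * c) = γ a * γ c)
    (c b : K) : ∀ k : ℕ, γ c * (γ b) ^ k = γ (c * b ^ k) := by
  intro k
  induction k with
  | zero => simp
  | succ k ih => rw [pow_succ, ← mul_assoc, ih, ← hmul, pow_succ, mul_assoc]

theorem exp_two_core [Fintype K] (hK : ∃ m : K, m ≠ 0 ∧ m ≠ 1) (hsq : ∀ a : K, ∃ m : K, m ^ 2 = a)
    (h4 : ∀ w : W, (w + w) + (w + w) = 0)
    (ρ : Matrix.SpecialLinearGroup (Fin 2) K →* AddMonoid.End W)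
    (H3 : ∀ w, ρ (uM 1 * lM 1) (ρ (uM 1 * lM 1) w) + ρ (uM 1 * lM 1) w + w = 0) :
    ∀ w : W, w + w = 0 := by
  obtain ⟨b, hb0, hb1⟩ := hK
  set C := mkCtx h4 ρ H3 with hC
  have hΩ2 : ∀ m ∈ (dbl W).ker, m + m = 0 := fun m hm => hm
  have hD2 : ∀ m ∈ (dbl W).range, m + m = 0 := by
    rintro m ⟨v, rfl⟩; exact h4 v
  obtain ⟨γΩ, eΩ, mulΩ, -, oneΩ, reΩ, rpΩ, rqΩ, -⟩ := layer h4 ρ H3 hsq (dbl W).ker hOm hΩ2
  obtain ⟨γD, eD, mulD, addD, oneD, reD, rpD, rqD, trivD⟩ :=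
    layer h4 ρ H3 hsq (dbl W).range hD hD2
  set p := pE h4 ρ H3 b with hp
  set q := qE h4 ρ H3 b with hq
  -- evaluation on `D`
  have evD : ∀ (z : AddMonoid.End W) (w : W),
      ((resHom (dbl W).range hD z ⟨dbl W w, ⟨w, rfl⟩⟩ : (dbl W).range) : W) = (2 • z) w := by
    intro z w
    show z (w + w) = (2 • z) w
    rw [two_nsmul, map_add]; rfl
  have hI : ∀ z z' : AddMonoid.End W, resHom (dbl W).ker hOm z = 0 →
      resHom (dbl W).range hD z' = 0 → z * z' = 0 := by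
    intro z z' hz hz'
    ext w
    have h1 : z' w ∈ (dbl W).ker := by
      show dbl W (z' w) = 0
      rw [← map_dbl]
      have e1 : z' (dbl W w) =
          ((resHom (dbl W).range hD z' ⟨dbl W w, ⟨w, rfl⟩⟩ : (dbl W).range) : W) := rfl
      rw [e1, hz']; rfl
    have := congrArg (fun f => ((f ⟨z' w, h1⟩ : (dbl W).ker) : W)) hz
    exact this
  have h2z : ∀ z, resHom (dbl W).range hD z = 0 → 2 • z = 0 := by
    intro z hz; ext w
    rw [← evD z w, hz]; rfl
  -- the exponent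
  have hcard : 2 ≤ Fintype.card K := by
    have : Fintype.card K ≠ 1 := by
      intro h
      have := Fintype.card_le_one_iff_subsingleton.mp h.le
      exact hb0 (Subsingleton.elim b 0)
    have : 0 < Fintype.card K := Fintype.card_pos
    omega
  have heven : Fintype.card K % 2 = 0 :=
    FiniteField.even_card_of_char_two (by rw [ringChar.eq K 2])
  obtain ⟨k, hk⟩ : ∃ k, Fintype.card K - 1 = k + 1 := ⟨Fintype.card K - 2, by omega⟩
  have hNodd : Odd (k + 1) := by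
    rw [← hk, Nat.odd_iff]; omega
  have hbN : b ^ (k + 1) = 1 := by
    rw [← hk]; exact FiniteField.pow_card_sub_one_eq_one b hb0
  -- `q^N - e` lies in the ideal
  have rqN_Ω : resHom (dbl W).ker hOm (q ^ (k + 1) - C.e) = 0 := by
    rw [map_sub, map_pow, rqΩ, gamma_pow γΩ mulΩ, hbN, oneΩ, reΩ, sub_self]
  have rqN_D : resHom (dbl W).range hD (q ^ (k + 1) - C.e) = 0 := by
    rw [map_sub, map_pow, rqD, gamma_pow γD mulD, hbN, oneD, reD, sub_self]
  have hpe : p * C.e = p := by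
    show C.e * XE ρ b * C.e * C.e = C.e * XE ρ b * C.e
    rw [mul_assoc, C.e_e]
  have hep : C.e * p = p := by
    show C.e * (C.e * XE ρ b * C.e) = C.e * XE ρ b * C.e
    rw [← mul_assoc, ← mul_assoc, C.e_e]
  have hpq : p * q ^ (k + 1) = p := by
    have := hI p (q ^ (k + 1) - C.e) (rpΩ b) rqN_D
    rw [mul_sub, hpe, sub_eq_zero] at this
    exact this
  have hqp : q ^ (k + 1) * p = p := by
    have := hI (q ^ (k + 1) - C.e) p rqN_Ω (rpD b)
    rw [sub_mul, hep, sub_eq_zero] at this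
    exact this
  have h2p : 2 • p = 0 := h2z p (rpD b)
  have hcp := comm_pow C.h4 p q h2p (star_pq h4 ρ H3 b) k
  rw [hqp, hpq] at hcp
  have hz : 2 • ((q * q + q) * q ^ k) = 0 := by
    have h0 : (2 * (k + 1)) • ((q * q + q) * q ^ k) = 0 := by
      have := hcp
      rw [eq_comm, add_eq_left] at this
      exact this
    rw [odd_smul C.h4 hNodd] at h0
    exact h0
  -- conclude on `D`
  have hrD : resHom (dbl W).range hD ((q * q + q) * q ^ k) = 0 := by
    ext ⟨m, w, rfl⟩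
    show ((resHom (dbl W).range hD ((q * q + q) * q ^ k) ⟨dbl W w, ⟨w, rfl⟩⟩ : (dbl W).range) : W) = 0
    rw [evD, hz]; rfl
  rw [map_mul, map_add, map_mul, map_pow, rqD, ← mulD, ← addD, gamma_mul_pow γD mulD] at hrD
  have hd : (b * b + b) * b ^ k ≠ 0 := by
    apply mul_ne_zero
    · have : b * b + b = b * (b + 1) := by ring
      rw [this]
      apply mul_ne_zero hb0
      intro h
      apply hb1
      have : b = (b + 1) + 1 := by rw [add_assoc, one_add_one_K, add_zero]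
      rw [this, h, zero_add]
    · exact pow_ne_zero _ hb0
  have heD : eD = 0 := by
    rw [← oneD, ← mul_inv_cancel₀ hd, mulD, hrD, zero_mul]
  intro w
  have := trivD heD ⟨dbl W w, ⟨w, rfl⟩⟩
  exact congrArg Subtype.val this

/-- UG2 (verbatim from `HIGStubs`): the `ℤ/4` lemma. -/
theorem exp_two {K : Type*} [Field K] [Finite K] [CharP K 2] (hK : ∃ m : K, m ≠ 0 ∧ m ≠ 1)
    {W : Type*} [AddCommGroup W] [Finite W] (h4 : ∀ w : W, (w + w) + (w + w) = 0)
    (ρ : Cfsg.Agent.Lib.Helper2.HIG.SL2 K →* AddMonoid.End W)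
    (H3 : ∀ w, ρ (Cfsg.Agent.Lib.Helper2.HIG.x0 K) (ρ (Cfsg.Agent.Lib.Helper2.HIG.x0 K) w) +
      ρ (Cfsg.Agent.Lib.Helper2.HIG.x0 K) w + w = 0) :
    ∀ w : W, w + w = 0 := by
  have := Fintype.ofFinite K
  have hsq : ∀ a : K, ∃ m : K, m ^ 2 = a := by
    intro a
    obtain ⟨m, hm⟩ := Finite.surjective_of_injective (frobenius K 2).injective a
    exact ⟨m, by rw [← hm, frobenius_def]⟩
  exact exp_two_core hK hsq h4 ρ H3

end main

end Cfsg.Agent.Lib.Helper8.HIG
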