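import Mathlib
import Cfsg.Agent.Lib.Helper2.HIGMain
import Cfsg.Agent.Lib.Helper4.Cr5R8d

set_option autoImplicit false

/-!
# GH5 (S3106) unit U9 core: an `A₅`-quotient with a fixed-point-free `3`-element

If `G/Q ≃ A₅` with `Q` a normal `2`-subgroup and some element of order `3` of `G` fixes no
nonidentity element of `Q`, then `Q` is elementary abelian (Higman's lemma S3050 over the field
with four elements, through `A₅ ≃ SL₂(4)`).
-/

namespace Cfsg.Agent.Lib.Helper8.GH5NN

theorem exists_field_four : ∃ (F : Type) (_ : Field F) (_ : Fintype F), Fintype.card F = 4 := by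
  have : Fact (Nat.Prime 2) := ⟨Nat.prime_two⟩
  have hfin : Finite (GaloisField 2 2) := inferInstance
  let inst : Fintype (GaloisField 2 2) := Fintype.ofFinite _
  refine ⟨GaloisField 2 2, inferInstance, inst, ?_⟩
  have h := GaloisField.card 2 2 (by norm_num)
  rw [Nat.card_eq_fintype_card] at h
  rw [h]; norm_num

theorem elemAb_of_fpf {G : Type*} [Group G] [Finite G] (Q : Subgroup G) [Q.Normal]
    (hQ : IsPGroup 2 ↥Q) (e : G ⧸ Q ≃* ↥(alternatingGroup (Fin 5)))
    (x : G) (hx : orderOf x = 3) (hfpf : ∀ q ∈ Q, x * q * x⁻¹ = q → q = 1) :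
    Cfsg.IsElementaryAbelian 2 Q := by
  classical
  obtain ⟨F, _, _, hF⟩ := exists_field_four
  obtain ⟨f⟩ := Cfsg.Agent.Lib.Helper4.Cr5.a5_equiv_SL2 F hF
  exact (Cfsg.Agent.Lib.Helper2.HIGMain.higman_main Q hQ 2 le_rfl F (by rw [hF]; norm_num)
    (e.trans f) x hx hfpf).1

end Cfsg.Agent.Lib.Helper8.GH5NN
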