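import Mathlib
import Cfsg.Agent.Lib.Helper8.GH5OTb
import Cfsg.Agent.Lib.Helper7.GH5OT

set_option autoImplicit false

/-!
# GH5 (S3106): case `(O, triv)`, the glue from the one-layer dictionary to `Q8 * D8`
-/

namespace Cfsg.Agent.Lib.Helper8.GH5OT

open Cfsg.Agent.Lib.Helper8.GH5Cases Cfsg.Agent.Lib.Helper4.GH5

/-- Case `(O, triv)`: `Q ≥ W` subgroups of `Y`, `W` of order two central in `Q`, the one-layer
dictionary `piV : Q → V`, `piW : W → Wt` with `s (piV q) = piW (q²)`; `V` of type `O`, trivial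
action on `Wt`, and `(s, c) ≠ 0`.  Then `Q` is the central product `Q8 * D8`. -/
theorem isQ8D8_of_layer {Y : Type*} [Group Y] (Q W : Subgroup Y) (hWQ : W ≤ Q)
    (hc : ∀ w ∈ W, ∀ q ∈ Q, w * q = q * w) (hcardW : Nat.card W = 2)
    {G V Wt : Type*} [Group G] [AddCommGroup V] [AddCommGroup Wt]
    {ρV : G →* AddMonoid.End V} {ρW : G →* AddMonoid.End Wt} {s : V → Wt} {c : V → V → Wt}
    (h : SC ρV ρW s c) (htriv : ∀ g w, ρW g w = w) (d : TypeOData ρV)
    (piV : Q → V) (piW : W → Wt)
    (hpiV_surj : Function.Surjective piV) (hpiV_mul : ∀ a b, piV (a * b) = piV a + piV b)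
    (hpiV_ker : ∀ a : Q, piV a = 0 → (a : Y) ∈ W)
    (hpiW_inj : Function.Injective piW) (hpiW_mul : ∀ a b, piW (a * b) = piW a + piW b)
    (hs : ∀ (q : Q) (hq : (q : Y) * q ∈ W), s (piV q) = piW ⟨(q : Y) * q, hq⟩)
    (hsq : ∀ q : Q, (q : Y) * q ∈ W)
    (hne : ¬ ((∀ v, s v = 0) ∧ ∀ u v, c u v = 0)) :
    Cfsg.Agent.Lib.Helper7.GH5Pack.IsQ8D8 ↥Q := by
  classical
  -- the nonzero value `a`
  rcases case_O_triv_data h htriv d with h0 | ⟨a, ha, hs0, -, hsa⟩
  · exact absurd h0 hne
  -- `W = {1, z}`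
  obtain ⟨x, y, hxy, huniv⟩ := Nat.card_eq_two_iff.mp hcardW
  have hW2 : ∀ w : W, w = 1 ∨ ∃ z : W, z ≠ 1 ∧ ∀ w' : W, w' = 1 ∨ w' = z := by
    intro w
    by_cases hw : w = 1
    · exact Or.inl hw
    · right
      refine ⟨w, hw, ?_⟩
      intro w'
      by_cases hw' : w' = 1
      · exact Or.inl hw'
      · right
        have m1 : (1 : W) ∈ ({x, y} : Set W) := by rw [huniv]; trivial
        have m2 : w ∈ ({x, y} : Set W) := by rw [huniv]; trivial
        have m3 : w' ∈ ({x, y} : Set W) := by rw [huniv]; trivial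
        simp only [Set.mem_insert_iff, Set.mem_singleton_iff] at m1 m2 m3
        rcases m1 with m1 | m1 <;> rcases m2 with m2 | m2 <;> rcases m3 with m3 | m3
        all_goals first
          | (exfalso; exact hw (m2.trans m1.symm))
          | (exfalso; exact hw' (m3.trans m1.symm))
          | exact m3.trans m2.symm
  obtain ⟨z, hz1, hzall⟩ : ∃ z : W, z ≠ 1 ∧ ∀ w' : W, w' = 1 ∨ w' = z := by
    have : ∃ w : W, w ≠ 1 := by
      by_contra hcon
      push Not at hcon
      exact hxy ((hcon x).trans (hcon y).symm)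
    obtain ⟨w, hw⟩ := this
    rcases hW2 w with h1 | h2
    · exact absurd h1 hw
    · exact h2
  have hzz : z * z = 1 := by
    rcases hzall (z * z) with h1 | h1
    · exact h1
    · exfalso; apply hz1
      have := congrArg (fun t => z⁻¹ * t) h1
      simpa using this
  -- `piW 1 = 0`
  have hpiW1 : piW 1 = 0 := by
    have := hpiW_mul 1 1
    rw [mul_one] at this
    exact left_eq_add.mp this
  let z' : Q := ⟨(z : Y), hWQ z.2⟩
  have hz'1 : z' ≠ 1 := by
    intro h1
    apply hz1
    apply Subtype.ext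
    have := congrArg (fun t : Q => (t : Y)) h1
    simpa [z'] using this
  have hz'z' : z' * z' = 1 := by
    apply Subtype.ext
    have := congrArg (fun t : W => (t : Y)) hzz
    simpa [z'] using this
  have hz'c : ∀ g : Q, g * z' = z' * g := by
    intro g
    apply Subtype.ext
    show (g : Y) * (z : Y) = (z : Y) * (g : Y)
    exact (hc z z.2 g g.2).symm
  have hker : ∀ x : Q, piV x = 0 → x = 1 ∨ x = z' := by
    intro x hx
    have hxW := hpiV_ker x hx
    rcases hzall ⟨(x : Y), hxW⟩ with h1 | h1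
    · left
      apply Subtype.ext
      have := congrArg (fun t : W => (t : Y)) h1
      simpa using this
    · right
      apply Subtype.ext
      have := congrArg (fun t : W => (t : Y)) h1
      simpa [z'] using this
  have hq0 : ∀ (x : Q) (i : Fin 5), piV x = d.w i → x * x = 1 := by
    intro x i hx
    have h1 := hs x (hsq x)
    rw [hx, hs0, ← hpiW1] at h1
    have h2 := hpiW_inj h1
    apply Subtype.ext
    have := congrArg (fun t : W => (t : Y)) h2
    simpa using this.symm
  have hq1 : ∀ (x : Q) (i j : Fin 5), i ≠ j → piV x = d.w i + d.w j → x * x = z' := by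
    intro x i j hij hx
    have h1 := hs x (hsq x)
    rw [hx, hsa i j hij] at h1
    rcases hzall ⟨(x : Y) * x, hsq x⟩ with h2 | h2
    · exfalso
      apply ha
      rw [h1, h2, hpiW1]
    · apply Subtype.ext
      have := congrArg (fun t : W => (t : Y)) h2
      simpa [z'] using this
  exact Cfsg.Agent.Lib.Helper7.GH5Pack.isQ8D8_of_model piV hpiV_mul hpiV_surj z' hz'1 hz'z' hz'c
    hker d.w d.sum_w d.span hq0 hq1

end Cfsg.Agent.Lib.Helper8.GH5OT
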