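import Mathlib
import Cfsg.Agent.Lib.Helper2.GH7Defs

/-! # GH7 (S3105) unit E88, part a: the module-level core.

`X = F₂³` with the natural action of `L`; `γ` an automorphism of `L`; `s'` quadratic with polarisation `c'`
(alternating), both `γ`-semi-equivariant.  Then `c' = 0` and `s' = 0` or `s'` is injective. -/

set_option autoImplicit false
set_option linter.unusedVariables false
set_option linter.unusedSectionVars false
set_option linter.style.longLine false
set_option maxHeartbeats 1000000
set_option maxRecDepth 100000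
set_option Elab.async false

namespace Cfsg.Agent.Lib.Helper8.GH7E88

open Cfsg.Agent.Lib.Helper2.GH7

abbrev X := Fin 3 → ZMod 2

/-- the natural action -/
abbrev mv (M : L) (x : X) : X := (M : Matrix (Fin 3) (Fin 3) (ZMod 2)).mulVec x
/-- the action on row vectors -/
abbrev vm (f : X) (M : L) : X := Matrix.vecMul f (M : Matrix (Fin 3) (Fin 3) (ZMod 2))

abbrev e1 : X := ![1, 0, 0]
abbrev e2 : X := ![0, 1, 0]
abbrev e3 : X := ![0, 0, 1]

theorem mv_mul (M N : L) (x : X) : mv (M * N) x = mv M (mv N x) := by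
  simp [mv, Matrix.SpecialLinearGroup.coe_mul, Matrix.mulVec_mulVec]

theorem mv_one (x : X) : mv 1 x = x := by simp [mv]

theorem mv_add (M : L) (x y : X) : mv M (x + y) = mv M x + mv M y := Matrix.mulVec_add _ _ _

theorem mv_zero (M : L) : mv M 0 = 0 := Matrix.mulVec_zero _

theorem mv_inv_mv (M : L) (x : X) : mv M⁻¹ (mv M x) = x := by
  rw [← mv_mul, inv_mul_cancel, mv_one]

theorem mv_mv_inv (M : L) (x : X) : mv M (mv M⁻¹ x) = x := by
  rw [← mv_mul, mul_inv_cancel, mv_one]

theorem mv_ne_zero (M : L) {x : X} (hx : x ≠ 0) : mv M x ≠ 0 := by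
  intro h
  have := congrArg (mv M⁻¹) h
  rw [mv_inv_mv, mv_zero] at this
  exact hx this

theorem add_self_X : ∀ a : X, a + a = 0 := by decide

set_option synthInstance.maxSize 1024 in
set_option synthInstance.maxHeartbeats 200000 in
theorem card_P : ∀ w : X, w ≠ 0 → (Finset.univ.filter (fun M : L => mv M w = w)).card = 24 := by
  decide +kernel

set_option synthInstance.maxSize 1024 in
set_option synthInstance.maxHeartbeats 200000 in
theorem plane_not_point : ∀ x : X, x ≠ 0 → ∃ M : L, (vm e3 M = e3 ∧ mv M x ≠ x) := by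
  decide +kernel

set_option synthInstance.maxSize 1024 in
set_option synthInstance.maxHeartbeats 200000 in
theorem trans1 : ∀ w : X, w ≠ 0 → ∀ w' : X, w' ≠ 0 → ∃ N : L, mv N w = w' := by
  decide +kernel

set_option synthInstance.maxSize 1024 in
set_option synthInstance.maxHeartbeats 200000 in
theorem plane_act : ∀ M : L, vm e3 M = e3 →
    ((mv M e1 = e1 ∧ mv M e2 = e2) ∨ (mv M e1 = e1 ∧ mv M e2 = e1 + e2) ∨
     (mv M e1 = e2 ∧ mv M e2 = e1) ∨ (mv M e1 = e2 ∧ mv M e2 = e1 + e2) ∨
     (mv M e1 = e1 + e2 ∧ mv M e2 = e1) ∨ (mv M e1 = e1 + e2 ∧ mv M e2 = e2)) := by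
  decide +kernel

set_option synthInstance.maxSize 1024 in
set_option synthInstance.maxHeartbeats 200000 in
theorem trans2 : ∀ x : X, x ≠ 0 → ∀ y : X, y ≠ 0 → x ≠ y → ∃ M : L, (mv M e1 = x ∧ mv M e2 = y) := by
  decide +kernel

end Cfsg.Agent.Lib.Helper8.GH7E88
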