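import Mathlib
import Cfsg.Agent.Lib.Helper2.GH7Defs
import Cfsg.Agent.Lib.Helper8.GH7E88a

/-! # GH7 (S3105) unit E88, part b: the module-level core lemma -/

set_option autoImplicit false
set_option linter.unusedVariables false
set_option linter.unusedSectionVars false
set_option linter.style.longLine false
set_option maxHeartbeats 1000000

namespace Cfsg.Agent.Lib.Helper8.GH7E88

open Cfsg.Agent.Lib.Helper2.GH7

theorem core (γ : L ≃* L) (s' : X → X) (c' : X → X → X)
    (hs : ∀ x y, s' (x + y) = s' x + s' y + c' x y)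
    (hc1 : ∀ x x' y, c' (x + x') y = c' x y + c' x' y)
    (hc2 : ∀ x y y', c' x (y + y') = c' x y + c' x y')
    (hc0 : ∀ x, c' x x = 0)
    (hcs : ∀ x y, c' x y = c' y x)
    (hse : ∀ (M : L) (x : X), s' (mv M x) = mv (γ M) (s' x))
    (hce : ∀ (M : L) (x y : X), c' (mv M x) (mv M y) = mv (γ M) (c' x y)) :
    (∀ x y, c' x y = 0) ∧ ((∀ x, s' x = 0) ∨ Function.Injective s') := by
  classical
  have hs0 : s' 0 = 0 := by
    have h := hs 0 0
    rw [add_zero, add_self_X, zero_add] at h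
    -- h : s' 0 = c' 0 0
    rw [h, hc0]
  have hc0l : ∀ y, c' 0 y = 0 := by
    intro y
    have h := hc1 0 0 y
    rw [add_zero, add_self_X] at h
    exact h
  have hc0r : ∀ x, c' x 0 = 0 := fun x => by rw [hcs, hc0l]
  -- Claim A
  have claimA : ¬ (c' e1 e2 ≠ 0 ∧ s' e1 ≠ 0) := by
    rintro ⟨hw0, hw1⟩
    have ha : ∀ M : L, vm e3 M = e3 → mv (γ M) (c' e1 e2) = c' e1 e2 := by
      intro M hM
      rw [← hce]
      rcases plane_act M hM with ⟨h1, h2⟩ | ⟨h1, h2⟩ | ⟨h1, h2⟩ | ⟨h1, h2⟩ | ⟨h1, h2⟩ | ⟨h1, h2⟩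
      · rw [h1, h2]
      · rw [h1, h2, hc2, hc0, zero_add]
      · rw [h1, h2, hcs]
      · rw [h1, h2, hc2, hc0, add_zero, hcs]
      · rw [h1, h2, hc1, hc0, zero_add, hcs]
      · rw [h1, h2, hc1, hc0, add_zero]
    have hb : ∀ M : L, mv M e1 = e1 → mv (γ M) (s' e1) = s' e1 := by
      intro M hM
      rw [← hse, hM]
    -- (c)
    have hc : ∀ M' : L, mv M' (s' e1) = s' e1 → ∃ M : L, mv M e1 = e1 ∧ γ M = M' := by
      intro M' hM'
      have hsub : (Finset.univ.filter (fun M : L => mv M e1 = e1)).image γ ⊆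
          Finset.univ.filter (fun M : L => mv M (s' e1) = s' e1) := by
        intro M2 hM2
        obtain ⟨M, hM, rfl⟩ := Finset.mem_image.mp hM2
        rw [Finset.mem_filter] at hM ⊢
        exact ⟨Finset.mem_univ _, hb M hM.2⟩
      have hcard : (Finset.univ.filter (fun M : L => mv M (s' e1) = s' e1)).card ≤
          ((Finset.univ.filter (fun M : L => mv M e1 = e1)).image γ).card := by
        rw [Finset.card_image_of_injective _ γ.injective, card_P _ hw1, card_P e1 (by decide)]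
      have heq := Finset.eq_of_subset_of_card_le hsub hcard
      have hmem : M' ∈ Finset.univ.filter (fun M : L => mv M (s' e1) = s' e1) := by
        rw [Finset.mem_filter]; exact ⟨Finset.mem_univ _, hM'⟩
      rw [← heq] at hmem
      obtain ⟨M, hM, rfl⟩ := Finset.mem_image.mp hmem
      rw [Finset.mem_filter] at hM
      exact ⟨M, hM.2, rfl⟩
    obtain ⟨N, hN⟩ := trans1 _ hw0 _ hw1
    have hNinv : mv N⁻¹ (s' e1) = c' e1 e2 := by rw [← hN, mv_inv_mv]
    have hx' : mv (γ.symm N)⁻¹ e1 ≠ 0 := mv_ne_zero _ (by decide)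
    obtain ⟨M, hM3, hMx⟩ := plane_not_point _ hx'
    apply hMx
    have h1 : mv (N * γ M * N⁻¹) (s' e1) = s' e1 := by
      rw [mv_mul, mv_mul, hNinv, ha M hM3, hN]
    obtain ⟨M2, hM2, hγ⟩ := hc _ h1
    have h2 : M2 = γ.symm N * M * (γ.symm N)⁻¹ := by
      apply γ.injective
      rw [hγ, map_mul, map_mul, map_inv, MulEquiv.apply_symm_apply]
    rw [h2, mv_mul, mv_mul] at hM2
    -- hM2 : mv n (mv M (mv n⁻¹ e1)) = e1
    have h3 := congrArg (mv (γ.symm N)⁻¹) hM2
    rw [mv_inv_mv] at h3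
    exact h3
  -- Step 2
  have hor : (∀ x y, c' x y = 0) ∨ (∀ x, s' x = 0) := by
    by_contra hno
    push Not at hno
    obtain ⟨⟨x, y, hxy⟩, ⟨x1, hx1⟩⟩ := hno
    apply claimA
    constructor
    · have hx : x ≠ 0 := by rintro rfl; exact hxy (hc0l y)
      have hy : y ≠ 0 := by rintro rfl; exact hxy (hc0r x)
      have hne : x ≠ y := by rintro rfl; exact hxy (hc0 x)
      obtain ⟨M, hM1, hM2⟩ := trans2 x hx y hy hne
      intro h0
      apply hxy
      rw [← hM1, ← hM2, hce, h0, mv_zero]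
    · have hx : x1 ≠ 0 := by rintro rfl; exact hx1 hs0
      obtain ⟨N, hN⟩ := trans1 e1 (by decide) x1 hx
      intro h0
      apply hx1
      rw [← hN, hse, h0, mv_zero]
  have hcz : ∀ x y, c' x y = 0 := by
    rcases hor with h | h
    · exact h
    · intro x y
      have := hs x y
      rw [h, h, h, zero_add, zero_add] at this
      exact this.symm
  refine ⟨hcz, ?_⟩
  have hadd : ∀ x y, s' (x + y) = s' x + s' y := by
    intro x y
    rw [hs, hcz, add_zero]
  by_cases hex : ∃ x0 : X, x0 ≠ 0 ∧ s' x0 = 0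
  · left
    obtain ⟨x0, hx0, hsx0⟩ := hex
    intro x
    by_cases hx : x = 0
    · rw [hx, hs0]
    · obtain ⟨N, hN⟩ := trans1 x0 hx0 x hx
      rw [← hN, hse, hsx0, mv_zero]
  · right
    push Not at hex
    intro x y hxy
    by_contra hne
    have h1 : x + y ≠ 0 := by
      intro h0
      apply hne
      have : x = x + (y + y) := by rw [add_self_X, add_zero]
      rw [this, ← add_assoc, h0, zero_add]
    apply hex (x + y) h1
    rw [hadd, hxy, add_self_X]

end Cfsg.Agent.Lib.Helper8.GH7E88
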