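import Mathlib
import Cfsg.Agent.Lib.Helper2.GH7Defs
import Cfsg.Agent.Lib.Helper1.GH5U7b
import Cfsg.Agent.Lib.Helper8.GH7Mod
import Cfsg.Agent.Lib.Helper8.GH7E88b

/-! # GH7 (S3105) unit E88: group level -/

set_option autoImplicit false
set_option linter.unusedVariables false
set_option linter.unusedSectionVars false
set_option linter.style.longLine false
set_option maxHeartbeats 2000000

namespace Cfsg.Agent.Lib.Helper8.GH7E88

open Cfsg.Agent.Lib.Helper2.GH7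

universe u

variable {G : Type u} [Group G] [Finite G]

theorem eq_of_add_eq_zero_of_char2 {A : Type*} [AddCommGroup A] (h2 : ∀ u : A, u + u = 0) {x y : A}
    (h : x + y = 0) : x = y := by
  have : x = x + (y + y) := by rw [h2, add_zero]
  rw [this, ← add_assoc, h, zero_add]

/-- **E88** -/
theorem e88 (θ : G →* L) (hsurj : Function.Surjective θ) (B W : Subgroup G) [B.Normal] [W.Normal] (hWB : W ≤ B)
    (hcen : ∀ w ∈ W, ∀ b ∈ B, w * b = b * w) (hsq : ∀ b ∈ B, b * b ∈ W) (hexp : ∀ w ∈ W, w * w = 1)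
    (hcardW : Nat.card W = 8) (hcardB : Nat.card B = 64)
    (hkV : ∀ g : G, θ g = 1 → ∀ b ∈ B, g * b * g⁻¹ * b⁻¹ ∈ W)
    (hkW : ∀ g : G, θ g = 1 → ∀ w ∈ W, g * w = w * g)
    (hfV : ∀ g : G, (∀ b ∈ B, g * b * g⁻¹ * b⁻¹ ∈ W) → θ g = 1)
    (hfW : ∀ g : G, (∀ w ∈ W, g * w = w * g) → θ g = 1) :
    (∀ a ∈ B, ∀ b ∈ B, a * b = b * a) ∧ ((∀ b ∈ B, b * b = 1) ∨ (∀ b ∈ B, b * b = 1 → b ∈ W)) := by
  classical
  obtain ⟨V, Wt, iV, iW, fV, fW, ρV, ρW, πV, πW, s, c, hV2, hW2, hπVs, hπVa, hπV0, hπWb, hπWa, hρV, hρW,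
    hsf, hcf, hsadd, hcl, hcr, hcalt, hcsym, hseq, hceq, hcardV, hcardWt⟩ :=
    Cfsg.Agent.Lib.Helper1.GH5U7.exists_layer B W hWB hcen hsq hexp
  have hBn : B.Normal := inferInstance
  have hWn : W.Normal := inferInstance
  -- basic facts on `πV`, `πW`
  have hπV1 : πV 1 = 0 := (hπV0 1).mpr W.one_mem
  have hπVinv : ∀ b : B, πV b⁻¹ = πV b := by
    intro b
    have h := hπVa b b⁻¹
    rw [mul_inv_cancel, hπV1] at h
    exact (eq_of_add_eq_zero_of_char2 hV2 h.symm).symm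
  have hπVeq : ∀ a b : B, (a : G) * (b : G)⁻¹ ∈ W ↔ πV a = πV b := by
    intro a b
    have h1 : πV (a * b⁻¹) = πV a + πV b := by rw [hπVa, hπVinv]
    have h2 : ((a * b⁻¹ : B) : G) = (a : G) * (b : G)⁻¹ := rfl
    rw [← h2, ← hπV0, h1]
    constructor
    · intro h; exact eq_of_add_eq_zero_of_char2 hV2 h
    · intro h; rw [h, hV2]
  have hπW1 : πW 1 = 0 := by
    have h := hπWa 1 1
    rw [mul_one] at h
    have h3 := hW2 (πW 1)
    rw [← h] at h3
    exact h3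
  -- the two actions of `G`
  obtain ⟨ρ'V, hρ'V⟩ : ∃ ρ'V : G →* AddMonoid.End V, ∀ g, ρ'V g = ρV (QuotientGroup.mk g) :=
    ⟨ρV.comp (QuotientGroup.mk' B), fun g => rfl⟩
  obtain ⟨ρ'W, hρ'W⟩ : ∃ ρ'W : G →* AddMonoid.End Wt, ∀ g, ρ'W g = ρW (QuotientGroup.mk g) :=
    ⟨ρW.comp (QuotientGroup.mk' B), fun g => rfl⟩
  have hactV : ∀ (g : G) (b : B), ρ'V g (πV b) = πV ⟨g * b * g⁻¹, hBn.conj_mem b b.2 g⟩ := by
    intro g b
    rw [hρ'V]
    exact hρV g b _
  have hactW : ∀ (g : G) (w : W), ρ'W g (πW w) = πW ⟨g * w * g⁻¹, hWn.conj_mem w w.2 g⟩ := by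
    intro g w
    rw [hρ'W]
    exact hρW g w _
  have hkV' : ∀ g : G, θ g = 1 → ρ'V g = 1 := by
    intro g hg
    apply AddMonoidHom.ext
    intro v
    obtain ⟨b, rfl⟩ := hπVs v
    have h1 := hactV g b
    have h2 := (hπVeq ⟨g * b * g⁻¹, hBn.conj_mem b b.2 g⟩ b).mp (hkV g hg b b.2)
    exact h1.trans h2
  have hfV' : ∀ g : G, ρ'V g = 1 → θ g = 1 := by
    intro g hg
    apply hfV
    intro b hb
    have h1 := hactV g ⟨b, hb⟩
    rw [hg] at h1
    exact (hπVeq ⟨g * b * g⁻¹, hBn.conj_mem b hb g⟩ ⟨b, hb⟩).mpr h1.symm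
  have hkW' : ∀ g : G, θ g = 1 → ρ'W g = 1 := by
    intro g hg
    apply AddMonoidHom.ext
    intro w'
    obtain ⟨w, rfl⟩ := hπWb.2 w'
    have h1 := hactW g w
    have : (⟨g * w * g⁻¹, hWn.conj_mem w w.2 g⟩ : W) = w := by
      apply Subtype.ext
      show g * (w : G) * g⁻¹ = w
      rw [hkW g hg w w.2, mul_inv_cancel_right]
    rw [this] at h1
    exact h1
  have hfW' : ∀ g : G, ρ'W g = 1 → θ g = 1 := by
    intro g hg
    apply hfW
    intro w hw
    have h1 := hactW g ⟨w, hw⟩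
    rw [hg] at h1
    have h2 := hπWb.1 h1
    have h3 : w = g * w * g⁻¹ := congrArg (fun t : W => (t : G)) h2
    calc g * w = g * w * g⁻¹ * g := by group
      _ = w * g := by rw [← h3]
  have hcV8 : Nat.card V = 8 := by
    rw [hcardW, hcardB] at hcardV
    omega
  have hcW8 : Nat.card Wt = 8 := by rw [hcardWt, hcardW]
  obtain ⟨αV, eV, hV⟩ := Cfsg.Agent.Lib.Helper8.GH7Mod.coords θ hsurj ρ'V hkV' hV2 hcV8 hfV'
  obtain ⟨αW, eW, hW⟩ := Cfsg.Agent.Lib.Helper8.GH7Mod.coords θ hsurj ρ'W hkW' hW2 hcW8 hfW'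
  -- transport
  obtain ⟨s', hs'⟩ : ∃ s' : X → X, ∀ x, s' x = eW (s (eV.symm x)) := ⟨fun x => eW (s (eV.symm x)), fun x => rfl⟩
  obtain ⟨c', hc'⟩ : ∃ c' : X → X → X, ∀ x y, c' x y = eW (c (eV.symm x) (eV.symm y)) :=
    ⟨fun x y => eW (c (eV.symm x) (eV.symm y)), fun x y => rfl⟩
  have hlift : ∀ M : L, ∃ g : G, αV (θ g) = M := by
    intro M
    obtain ⟨g, hg⟩ := hsurj (αV.symm M)
    exact ⟨g, by rw [hg, MulEquiv.apply_symm_apply]⟩
  have hsymm : ∀ (g : G) (x : X), eV.symm (mv (αV (θ g)) x) = ρ'V g (eV.symm x) := by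
    intro g x
    apply eV.injective
    rw [AddEquiv.apply_symm_apply, hV, AddEquiv.apply_symm_apply]
  have hγ : ∀ g : G, (αV.symm.trans αW) (αV (θ g)) = αW (θ g) := by
    intro g
    rw [MulEquiv.trans_apply, MulEquiv.symm_apply_apply]
  have hcore := core (αV.symm.trans αW) s' c'
    (by intro x y; rw [hs', hs', hs', hc', map_add, hsadd, map_add, map_add])
    (by intro x x' y; rw [hc', hc', hc', map_add, hcl, map_add])
    (by intro x y y'; rw [hc', hc', hc', map_add, hcr, map_add])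
    (by intro x; rw [hc', hcalt, map_zero])
    (by intro x y; rw [hc', hc', hcsym])
    (by
      intro M x
      obtain ⟨g, rfl⟩ := hlift M
      rw [hγ, hs', hs', hsymm, hρ'V, hseq, ← hρ'W, hW])
    (by
      intro M x y
      obtain ⟨g, rfl⟩ := hlift M
      rw [hγ, hc', hc', hsymm, hsymm, hρ'V, hceq, ← hρ'W, hW])
  obtain ⟨hcz', hsz'⟩ := hcore
  have hcz : ∀ u v : V, c u v = 0 := by
    intro u v
    have h := hcz' (eV u) (eV v)
    rw [hc', AddEquiv.symm_apply_apply, AddEquiv.symm_apply_apply] at h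
    exact (map_eq_zero_iff eW eW.injective).mp h
  have hs0 : s 0 = 0 := by
    have h := hsadd 0 0
    rw [add_zero, hcz, add_zero] at h
    -- h : s 0 = s 0 + s 0
    rw [hW2] at h
    exact h
  constructor
  · intro a ha b hb
    have hmem : a * b * a⁻¹ * b⁻¹ ∈ W := by
      have h1 : ((⟨a, ha⟩ * ⟨b, hb⟩ * (⟨a, ha⟩ : B)⁻¹ * (⟨b, hb⟩ : B)⁻¹ : B) : G) = a * b * a⁻¹ * b⁻¹ := rfl
      rw [← h1, ← hπV0, hπVa, hπVa, hπVa, hπVinv, hπVinv]
      rw [add_comm (πV ⟨a, ha⟩) (πV ⟨b, hb⟩), add_assoc, add_assoc, ← add_assoc (πV ⟨a, ha⟩), hV2, zero_add, hV2]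
    have h2 := hcf ⟨a, ha⟩ ⟨b, hb⟩ hmem
    rw [hcz, ← hπW1] at h2
    have h3 := hπWb.1 h2
    have h4 : (1 : G) = a * b * a⁻¹ * b⁻¹ := congrArg (fun t : W => (t : G)) h3
    calc a * b = (a * b * a⁻¹ * b⁻¹) * (b * a) := by group
      _ = b * a := by rw [← h4, one_mul]
  · rcases hsz' with hz | hinj
    · left
      intro b hb
      have h2 := hsf ⟨b, hb⟩ (hsq b hb)
      have h3 : s (πV ⟨b, hb⟩) = 0 := by
        have h := hz (eV (πV ⟨b, hb⟩))
        rw [hs', AddEquiv.symm_apply_apply] at h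
        exact (map_eq_zero_iff eW eW.injective).mp h
      rw [h3, ← hπW1] at h2
      have h4 := hπWb.1 h2
      exact (congrArg (fun t : W => (t : G)) h4).symm
    · right
      intro b hb hbb
      have h2 := hsf ⟨b, hb⟩ (hsq b hb)
      have h3 : (⟨(⟨b, hb⟩ : B) * (⟨b, hb⟩ : B), hsq b hb⟩ : W) = 1 := Subtype.ext hbb
      rw [h3, hπW1, ← hs0] at h2
      have hsinj : Function.Injective s := by
        intro u v huv
        apply eV.injective
        apply hinj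
        rw [hs', hs', AddEquiv.symm_apply_apply, AddEquiv.symm_apply_apply, huv]
      have h4 := hsinj h2
      exact (hπV0 ⟨b, hb⟩).mp h4

end Cfsg.Agent.Lib.Helper8.GH7E88
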