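import Mathlib
import Cfsg.Agent.Lib.Helper2.GH7HC
import Cfsg.Agent.Lib.Helper4.GH7B8Nd1
import Cfsg.Agent.Lib.Helper8.GH7E88a

/-! # GH7 (S3105) unit F5, part a: the data, and the three lemmas (X), (Z), (Z').

`A = Z4^3 = ker θ`, `P : G → F₂³` natural coordinates of `A/W`, `b ∈ A` over `e1`, `M = ⟨b²⟩`.
(X) an element of `W` fixed by lifts of two matrices whose common fixed vectors are `0, e1` lies in `M`;
(Z) `d · g d g⁻¹ ∈ M` when `α (θ g)` fixes `P d` (uses F1);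
(Z') for every lift `g` of an involution `T` with centre `e1`, `P (g²) ∈ {0, e1}` and `g² ∈ M` when `P (g²) = 0` (uses F4). -/

set_option autoImplicit false
set_option linter.unusedVariables false
set_option linter.unusedSectionVars false
set_option linter.style.longLine false
set_option maxHeartbeats 1000000
set_option maxRecDepth 100000

namespace Cfsg.Agent.Lib.Helper8.GH7F5

open Cfsg.Agent.Lib.Helper2.GH7
open Cfsg.Agent.Lib.Helper8.GH7E88 (X mv e1 e2 mv_add mv_mul mv_one mv_zero add_self_X)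

universe u

variable {G : Type u} [Group G] [Finite G]

/-- the data of unit F5 together with natural coordinates -/
structure Dat (θ : G →* L) (A W : Subgroup G) (α : L ≃* L) (P : G → X) : Prop where
  hc : HC θ A W
  ker : θ.ker = A
  surjP : ∀ v, ∃ a ∈ A, P a = v
  addP : ∀ a ∈ A, ∀ b ∈ A, P (a * b) = P a + P b
  kerP : ∀ a ∈ A, (P a = 0 ↔ a ∈ W)
  conjP : ∀ (g : G), ∀ a ∈ A, P (g * a * g⁻¹) = mv (α (θ g)) (P a)
  F1 : ∀ (g1 g2 : G), θ g1 * θ g1 = 1 → θ g2 * θ g2 = 1 → θ g1 * θ g2 = θ g2 * θ g1 →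
      θ g1 ≠ 1 → θ g2 ≠ 1 → θ g1 ≠ θ g2 → ∀ a ∈ A,
      a * (g1 * a * g1⁻¹) * (g2 * a * g2⁻¹) * (g1 * g2 * a * (g1 * g2)⁻¹) = 1
  F4 : ∀ t : L, t * t = 1 → ∃ k : G, θ k = t ∧ k * k = 1

variable {θ : G →* L} {A W : Subgroup G} {α : L ≃* L} {P : G → X}

theorem mem_zp_iff {H : Type*} [Group H] {z : H} (hz : z * z = 1) (x : H) :
    x ∈ Subgroup.zpowers z ↔ x = 1 ∨ x = z := by
  constructor
  · intro hx
    obtain ⟨n, rfl⟩ := Subgroup.mem_zpowers_iff.mp hx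
    rcases Int.even_or_odd' n with ⟨k, rfl | rfl⟩
    · left
      rw [zpow_mul, zpow_two, hz, one_zpow]
    · right
      rw [zpow_add, zpow_mul, zpow_two, hz, one_zpow, one_mul, zpow_one]
  · rintro (rfl | rfl)
    · exact one_mem _
    · exact Subgroup.mem_zpowers _

theorem X_add_eq_zero {a b : X} (h : a + b = 0) : a = b := by
  have h2 : a + b = b + b := by rw [h, add_self_X]
  exact add_right_cancel h2

theorem X_add_self_left (a b : X) : a + (a + b) = b := by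
  rw [← add_assoc, add_self_X, zero_add]

namespace Dat

theorem mem_A_iff (d : Dat θ A W α P) (g : G) : g ∈ A ↔ θ g = 1 := by
  rw [← d.ker]; exact MonoidHom.mem_ker

theorem conj_mem (d : Dat θ A W α P) (g : G) {a : G} (ha : a ∈ A) : g * a * g⁻¹ ∈ A := by
  rw [d.mem_A_iff] at ha ⊢
  simp [ha]

theorem comm' (d : Dat θ A W α P) {a b : G} (ha : a ∈ A) (hb : b ∈ A) : a * b = b * a :=
  d.hc.comm a ha b hb

theorem P_one (d : Dat θ A W α P) : P 1 = 0 := (d.kerP 1 (one_mem _)).mpr (one_mem _)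

theorem P_inv (d : Dat θ A W α P) {a : G} (ha : a ∈ A) : P a⁻¹ = P a := by
  have h := d.addP a ha a⁻¹ (inv_mem ha)
  rw [mul_inv_cancel, d.P_one] at h
  exact (X_add_eq_zero h.symm).symm

theorem hb (d : Dat θ A W α P) : Cfsg.Agent.Lib.Helper4.GH7.HB A W :=
  ⟨d.hc.hWA, d.hc.comm, d.hc.cardA, d.hc.cardW, d.hc.sq, d.hc.omega⟩

theorem expW (d : Dat θ A W α P) {w : G} (hw : w ∈ W) : w * w = 1 := d.hb.expW w hw

theorem inv_W (d : Dat θ A W α P) {w : G} (hw : w ∈ W) : w⁻¹ = w :=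
  inv_eq_of_mul_eq_one_left (d.expW hw)

theorem exists_sqrt (d : Dat θ A W α P) {w : G} (hw : w ∈ W) : ∃ a ∈ A, a * a = w :=
  d.hb.exists_sqrt w hw

/-- conjugation on `A` only depends on the image in `L` -/
theorem conj_eq (d : Dat θ A W α P) {g g' : G} (h : θ g = θ g') {a : G} (ha : a ∈ A) :
    g * a * g⁻¹ = g' * a * g'⁻¹ := by
  have hx : g'⁻¹ * g ∈ A := by
    rw [d.mem_A_iff, map_mul, map_inv, h, inv_mul_cancel]
  have hc := d.comm' hx ha
  -- g'⁻¹ g a = a g'⁻¹ g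
  have : g * a = g' * a * g'⁻¹ * g := by
    have h1 : g * a = g' * (g'⁻¹ * g * a) := by group
    rw [h1, hc]; group
  rw [this]; group

/-- elements of `A` act trivially on `A` -/
theorem conj_A (d : Dat θ A W α P) {x a : G} (hx : x ∈ A) (ha : a ∈ A) : x * a * x⁻¹ = a := by
  rw [d.comm' hx ha, mul_assoc, mul_inv_cancel, mul_one]

theorem sq_mem_A (d : Dat θ A W α P) {g : G} (hg : θ g * θ g = 1) : g * g ∈ A := by
  rw [d.mem_A_iff, map_mul, hg]

/-- `θ g` from `α (θ g)` -/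
theorem theta_eq (d : Dat θ A W α P) {g : G} {T : L} (hg : α (θ g) = T) : θ g = α.symm T := by
  rw [← hg, MulEquiv.symm_apply_apply]

theorem theta_sq (d : Dat θ A W α P) {g : G} {T : L} (hg : α (θ g) = T) (hT : T * T = 1) :
    θ g * θ g = 1 := by
  rw [d.theta_eq hg, ← map_mul, hT, map_one]

theorem theta_ne_one (d : Dat θ A W α P) {g : G} {T : L} (hg : α (θ g) = T) (hT : T ≠ 1) :
    θ g ≠ 1 := by
  intro h
  rw [h, map_one] at hg
  exact hT hg.symm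

/-- squares of elements over `0` or `e1` -/
theorem sq_mem_M (d : Dat θ A W α P) {b : G} (hb : b ∈ A) (hPb : P b = e1) {a : G} (ha : a ∈ A)
    (hPa : P a = 0 ∨ P a = e1) : a * a ∈ Subgroup.zpowers (b * b) := by
  rcases hPa with h | h
  · have hw : a ∈ W := (d.kerP a ha).mp h
    rw [d.expW hw]; exact one_mem _
  · have hab : a * b⁻¹ ∈ A := mul_mem ha (inv_mem hb)
    have hP : P (a * b⁻¹) = 0 := by
      rw [d.addP a ha b⁻¹ (inv_mem hb), d.P_inv hb, h, hPb, add_self_X]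
    have hw : a * b⁻¹ ∈ W := (d.kerP _ hab).mp hP
    have h1 := d.expW hw
    -- (a b⁻¹)² = 1, abelian ⇒ a² = b²
    have hc := d.comm' ha (inv_mem hb)
    have h2 : a * a = (a * b⁻¹) * (a * b⁻¹) * (b * b) := by
      have : a * b⁻¹ * (a * b⁻¹) * (b * b) = a * (b⁻¹ * a) * b⁻¹ * (b * b) := by group
      rw [this, ← hc]; group
    rw [h2, h1, one_mul]
    exact Subgroup.mem_zpowers _

theorem bb_sq (d : Dat θ A W α P) {b : G} (hb : b ∈ A) : (b * b) * (b * b) = 1 :=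
  d.expW (d.hc.sq b hb)

/-- **(X)** -/
theorem fixed_mem_M (d : Dat θ A W α P) {b : G} (hb : b ∈ A) (hPb : P b = e1) (T T' : L)
    (hTT' : ∀ v : X, mv T v = v → mv T' v = v → v = 0 ∨ v = e1) (g g' : G) (hg : α (θ g) = T)
    (hg' : α (θ g') = T') {w : G} (hw : w ∈ W) (h1 : g * w * g⁻¹ = w) (h2 : g' * w * g'⁻¹ = w) :
    w ∈ Subgroup.zpowers (b * b) := by
  obtain ⟨c, hc, rfl⟩ := d.exists_sqrt hw
  have key : ∀ (k : G), k * (c * c) * k⁻¹ = c * c → mv (α (θ k)) (P c) = P c := by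
    intro k hk
    have hkc : k * c * k⁻¹ ∈ A := d.conj_mem k hc
    have hx : k * c * k⁻¹ * c⁻¹ ∈ A := mul_mem hkc (inv_mem hc)
    have hsq : (k * c * k⁻¹ * c⁻¹) * (k * c * k⁻¹ * c⁻¹) = 1 := by
      have hcm := d.comm' (inv_mem hc) hkc
      have e1' : (k * c * k⁻¹ * c⁻¹) * (k * c * k⁻¹ * c⁻¹)
          = k * c * k⁻¹ * (c⁻¹ * (k * c * k⁻¹)) * c⁻¹ := by group
      rw [e1', hcm]
      have e2' : k * c * k⁻¹ * (k * c * k⁻¹ * c⁻¹) * c⁻¹ = (k * (c * c) * k⁻¹) * (c * c)⁻¹ := by group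
      rw [e2', hk, mul_inv_cancel]
    have hxW : k * c * k⁻¹ * c⁻¹ ∈ W := d.hc.omega _ hx hsq
    have hP0 : P (k * c * k⁻¹ * c⁻¹) = 0 := (d.kerP _ hx).mpr hxW
    rw [d.addP _ hkc _ (inv_mem hc), d.P_inv hc, d.conjP k c hc] at hP0
    exact X_add_eq_zero hP0
  have k1 := key g h1
  have k2 := key g' h2
  rw [hg] at k1
  rw [hg'] at k2
  exact d.sq_mem_M hb hPb hc (hTT' _ k1 k2)

/-- **(Z)** -/
theorem norm_mem_M (d : Dat θ A W α P) {b : G} (hb : b ∈ A) (hPb : P b = e1) (T T' : L)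
    (hTT' : ∀ v : X, mv T v = v → mv T' v = v → v = 0 ∨ v = e1)
    (hT : T * T = 1) (hT' : T' * T' = 1) (hcomm : T * T' = T' * T) (hT1 : T ≠ 1) (hT'1 : T' ≠ 1)
    (hne : T ≠ T') (g : G) (hg : α (θ g) = T) {c : G} (hc : c ∈ A) (hfix : mv T (P c) = P c) :
    c * (g * c * g⁻¹) ∈ Subgroup.zpowers (b * b) := by
  obtain ⟨g', hg'0⟩ := d.hc.surj (α.symm T')
  have hg' : α (θ g') = T' := by rw [hg'0, MulEquiv.apply_symm_apply]
  have hgc : g * c * g⁻¹ ∈ A := d.conj_mem g hc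
  have hsA : c * (g * c * g⁻¹) ∈ A := mul_mem hc hgc
  have hPs : P (c * (g * c * g⁻¹)) = 0 := by
    rw [d.addP c hc _ hgc, d.conjP g c hc, hg, hfix, add_self_X]
  have hsW : c * (g * c * g⁻¹) ∈ W := (d.kerP _ hsA).mp hPs
  -- fixed by g
  have hgg : g * g ∈ A := d.sq_mem_A (d.theta_sq hg hT)
  have hfix1 : g * (c * (g * c * g⁻¹)) * g⁻¹ = c * (g * c * g⁻¹) := by
    have e : g * (c * (g * c * g⁻¹)) * g⁻¹ = (g * c * g⁻¹) * ((g * g) * c * (g * g)⁻¹) := by group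
    rw [e, d.conj_A hgg hc]
    exact d.comm' hgc hc
  -- fixed by g'
  have hF := d.F1 g g' (d.theta_sq hg hT) (d.theta_sq hg' hT')
    (by rw [d.theta_eq hg, d.theta_eq hg', ← map_mul, ← map_mul, hcomm])
    (d.theta_ne_one hg hT1) (d.theta_ne_one hg' hT'1)
    (by
      rw [d.theta_eq hg, d.theta_eq hg']
      intro h
      exact hne (α.symm.injective h)) c hc
  have hswap : g * g' * c * (g * g')⁻¹ = g' * (g * c * g⁻¹) * g'⁻¹ := by
    have h1 : θ (g * g') = θ (g' * g) := by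
      rw [map_mul, map_mul, d.theta_eq hg, d.theta_eq hg', ← map_mul, ← map_mul, hcomm]
    rw [d.conj_eq h1 hc]; group
  rw [hswap] at hF
  have hfix2 : g' * (c * (g * c * g⁻¹)) * g'⁻¹ = c * (g * c * g⁻¹) := by
    have e : g' * (c * (g * c * g⁻¹)) * g'⁻¹ = (g' * c * g'⁻¹) * (g' * (g * c * g⁻¹) * g'⁻¹) := by group
    have hF' : (c * (g * c * g⁻¹)) * ((g' * c * g'⁻¹) * (g' * (g * c * g⁻¹) * g'⁻¹)) = 1 := by
      rw [← hF]; group
    rw [e]
    have := eq_inv_of_mul_eq_one_right hF'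
    rw [this, d.inv_W hsW]
  exact d.fixed_mem_M hb hPb T T' hTT' g g' hg hg' hsW hfix1 hfix2

/-- a matrix moving every vector by `0` or `e1` -/
def IsC (T : L) : Prop := ∀ v : X, mv T v + v = 0 ∨ mv T v + v = e1

/-- the square of `d g` for `d ∈ A` -/
theorem P_sq_mul (d : Dat θ A W α P) {T : L} (hT : T * T = 1) {g : G} (hg : α (θ g) = T) {c : G}
    (hc : c ∈ A) : P ((c * g) * (c * g)) = (mv T (P c) + P c) + P (g * g) := by
  have hgg : g * g ∈ A := d.sq_mem_A (d.theta_sq hg hT)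
  have hgc : g * c * g⁻¹ ∈ A := d.conj_mem g hc
  have e : (c * g) * (c * g) = c * (g * c * g⁻¹) * (g * g) := by group
  rw [e, d.addP _ (mul_mem hc hgc) _ hgg, d.addP c hc _ hgc, d.conjP g c hc, hg, add_comm (P c)]

/-- **(Z')** -/
theorem sq_lift (d : Dat θ A W α P) {b : G} (hb : b ∈ A) (hPb : P b = e1) (T T' : L)
    (hTT' : ∀ v : X, mv T v = v → mv T' v = v → v = 0 ∨ v = e1)
    (hT : T * T = 1) (hT' : T' * T' = 1) (hcomm : T * T' = T' * T) (hT1 : T ≠ 1) (hT'1 : T' ≠ 1)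
    (hne : T ≠ T') (hC : IsC T) (g : G) (hg : α (θ g) = T) :
    (P (g * g) = 0 ∨ P (g * g) = e1) ∧ (P (g * g) = 0 → g * g ∈ Subgroup.zpowers (b * b)) := by
  obtain ⟨k, hk, hkk⟩ := d.F4 (α.symm T) (by rw [← map_mul, hT, map_one])
  have hk' : α (θ k) = T := by rw [hk, MulEquiv.apply_symm_apply]
  have hcA : g * k⁻¹ ∈ A := by
    rw [d.mem_A_iff, map_mul, map_inv, hk, d.theta_eq hg, mul_inv_cancel]
  have hkinv : k⁻¹ = k := inv_eq_of_mul_eq_one_left hkk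
  have hgk : g = (g * k⁻¹) * k := by group
  have hsq : g * g = (g * k⁻¹) * (k * (g * k⁻¹) * k⁻¹) := by
    have e : (g * k⁻¹) * (k * (g * k⁻¹) * k⁻¹) = g * g * (k⁻¹ * k⁻¹) := by group
    rw [e, hkinv, hkk, mul_one]
  have hP : P (g * g) = mv T (P (g * k⁻¹)) + P (g * k⁻¹) := by
    rw [hsq, d.addP _ hcA _ (d.conj_mem k hcA), d.conjP k _ hcA, hk', add_comm]
  constructor
  · rw [hP]; exact hC _
  · intro h0
    rw [hP] at h0
    have hfix : mv T (P (g * k⁻¹)) = P (g * k⁻¹) := X_add_eq_zero h0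
    rw [hsq]
    exact d.norm_mem_M hb hPb T T' hTT' hT hT' hcomm hT1 hT'1 hne k hk' hcA hfix

end Dat

end Cfsg.Agent.Lib.Helper8.GH7F5
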