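import Mathlib
import Cfsg.Agent.Lib.Helper5.GH7Sec
import Cfsg.Agent.Lib.Helper8.GH7F5a

/-! # GH7 (S3105) unit F5, part b: the lifts `κ1, κ2`, the `E32` section, and `homocyclic_F5`. -/

set_option autoImplicit false
set_option linter.unusedVariables false
set_option linter.unusedSectionVars false
set_option linter.style.longLine false
set_option maxHeartbeats 1000000
set_option maxRecDepth 100000

namespace Cfsg.Agent.Lib.Helper8.GH7F5

open Cfsg.Agent.Lib.Helper2.GH7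
open Cfsg.Agent.Lib.Helper8.GH7E88 (X mv e1 e2 mv_add mv_mul mv_one mv_zero add_self_X)

universe u

variable {G : Type u} [Group G] [Finite G]

/-! ## matrix facts -/

theorem isC_a12 : Dat.IsC a12 := by unfold Dat.IsC; decide
theorem isC_z13 : Dat.IsC z13 := by unfold Dat.IsC; decide
theorem isC_T3 : Dat.IsC (a12 * z13) := by unfold Dat.IsC; decide

theorem z13_sq' : z13 * z13 = 1 := by decide
theorem a12_sq' : a12 * a12 = 1 := by decide
theorem T3_sq : (a12 * z13) * (a12 * z13) = 1 := by decide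
theorem comm12 : a12 * z13 = z13 * a12 := by decide
theorem comm31 : (a12 * z13) * a12 = a12 * (a12 * z13) := by decide
theorem a12_ne_one : a12 ≠ 1 := by decide
theorem z13_ne_one : z13 ≠ 1 := by decide
theorem T3_ne_one : a12 * z13 ≠ 1 := by decide
theorem a12_ne_z13 : a12 ≠ z13 := by decide
theorem T3_ne_a12 : a12 * z13 ≠ a12 := by decide

theorem fix12 : ∀ v : X, mv a12 v = v → mv z13 v = v → v = 0 ∨ v = e1 := by decide
theorem fix21 : ∀ v : X, mv z13 v = v → mv a12 v = v → v = 0 ∨ v = e1 := fun v h1 h2 => fix12 v h2 h1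
theorem fix31 : ∀ v : X, mv (a12 * z13) v = v → mv a12 v = v → v = 0 ∨ v = e1 := by decide

theorem a12_e1 : mv a12 e1 = e1 := by decide
theorem z13_e1 : mv z13 e1 = e1 := by decide
theorem z13_e2 : (mv z13 e2 + e2) + 0 = 0 := by decide
theorem T3_val : (mv (a12 * z13) (mv a12 e2) + mv a12 e2) + e1 = 0 := by decide
theorem e1_ne_zero : (e1 : X) ≠ 0 := by decide

variable {θ : G →* L} {A W : Subgroup G} {α : L ≃* L} {P : G → X}

/-! ## the two lifts -/

theorem exists_kappa (d : Dat θ A W α P) {b : G} (hb : b ∈ A) (hPb : P b = e1) :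
    ∃ κ1 κ2 : G, α (θ κ1) = a12 ∧ α (θ κ2) = z13 ∧ κ1 * κ1 ∈ Subgroup.zpowers (b * b) ∧
      κ2 * κ2 ∈ Subgroup.zpowers (b * b) ∧ κ1 * κ2 * κ1⁻¹ * κ2⁻¹ ∈ Subgroup.zpowers (b * b) := by
  obtain ⟨k1, hk1, hkk1⟩ := d.F4 (α.symm a12) (by rw [← map_mul, a12_sq', map_one])
  obtain ⟨k2, hk2, hkk2⟩ := d.F4 (α.symm z13) (by rw [← map_mul, z13_sq', map_one])
  have hk1' : α (θ k1) = a12 := by rw [hk1, MulEquiv.apply_symm_apply]
  have hk2' : α (θ k2) = z13 := by rw [hk2, MulEquiv.apply_symm_apply]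
  have hg3 : α (θ (k1 * k2)) = a12 * z13 := by rw [map_mul, map_mul, hk1', hk2']
  have k1inv : k1⁻¹ = k1 := inv_eq_of_mul_eq_one_left hkk1
  have k2inv : k2⁻¹ = k2 := inv_eq_of_mul_eq_one_left hkk2
  obtain ⟨h3a, h3b⟩ := d.sq_lift hb hPb (a12 * z13) a12 fix31 T3_sq a12_sq' comm31 T3_ne_one
    a12_ne_one T3_ne_a12 isC_T3 (k1 * k2) hg3
  rcases h3a with h0 | h1
  · refine ⟨k1, k2, hk1', hk2', by rw [hkk1]; exact one_mem _, by rw [hkk2]; exact one_mem _, ?_⟩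
    have e : k1 * k2 * k1⁻¹ * k2⁻¹ = (k1 * k2) * (k1 * k2) := by rw [k1inv, k2inv]; group
    rw [e]
    exact h3b h0
  · obtain ⟨a, ha, hPa⟩ := d.surjP e2
    have hκ2 : α (θ (a * k2)) = z13 := by
      rw [map_mul, (d.mem_A_iff a).mp ha, one_mul, hk2']
    obtain ⟨-, h2b⟩ := d.sq_lift hb hPb z13 a12 fix21 z13_sq' a12_sq' comm12.symm z13_ne_one
      a12_ne_one a12_ne_z13.symm isC_z13 (a * k2) hκ2
    have hκ2sq : (a * k2) * (a * k2) ∈ Subgroup.zpowers (b * b) := by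
      apply h2b
      rw [d.P_sq_mul z13_sq' hk2' ha, hPa, hkk2, d.P_one]
      exact z13_e2
    have hca : k1 * a * k1⁻¹ ∈ A := d.conj_mem k1 ha
    have e12 : k1 * (a * k2) = (k1 * a * k1⁻¹) * (k1 * k2) := by group
    have hκ12 : α (θ ((k1 * a * k1⁻¹) * (k1 * k2))) = a12 * z13 := by
      rw [map_mul θ (k1 * a * k1⁻¹), (d.mem_A_iff _).mp hca, one_mul, hg3]
    obtain ⟨-, h3b'⟩ := d.sq_lift hb hPb (a12 * z13) a12 fix31 T3_sq a12_sq' comm31 T3_ne_one
      a12_ne_one T3_ne_a12 isC_T3 _ hκ12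
    have h12sq : (k1 * (a * k2)) * (k1 * (a * k2)) ∈ Subgroup.zpowers (b * b) := by
      rw [e12]
      apply h3b'
      rw [d.P_sq_mul T3_sq hg3 hca, d.conjP k1 a ha, hk1', hPa, h1]
      exact T3_val
    refine ⟨k1, a * k2, hk1', hκ2, by rw [hkk1]; exact one_mem _, hκ2sq, ?_⟩
    have e : k1 * (a * k2) * k1⁻¹ * (a * k2)⁻¹
        = ((k1 * (a * k2)) * (k1 * (a * k2))) * ((a * k2) * (a * k2))⁻¹ := by
      rw [k1inv]; group
    rw [e]
    exact mul_mem h12sq (inv_mem hκ2sq)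

/-! ## generators commute modulo `M` -/

/-- **(C)** a lift of `T` centralises `B_h` modulo `M` -/
theorem comm_lift_B (d : Dat θ A W α P) {b : G} (hb : b ∈ A) (hPb : P b = e1) (T T' : L)
    (hTT' : ∀ v : X, mv T v = v → mv T' v = v → v = 0 ∨ v = e1)
    (hT : T * T = 1) (hT' : T' * T' = 1) (hcomm : T * T' = T' * T) (hT1 : T ≠ 1) (hT'1 : T' ≠ 1)
    (hne : T ≠ T') (hTe : mv T e1 = e1) (g : G) (hg : α (θ g) = T) {a : G} (ha : a ∈ A)
    (hPa : P a = 0 ∨ P a = e1) : g * a * g⁻¹ * a⁻¹ ∈ Subgroup.zpowers (b * b) := by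
  have hfix : mv T (P a) = P a := by
    rcases hPa with h | h
    · rw [h]; exact mv_zero T
    · rw [h]; exact hTe
  have h1 := d.norm_mem_M hb hPb T T' hTT' hT hT' hcomm hT1 hT'1 hne g hg ha hfix
  have h2 := d.sq_mem_M hb hPb ha hPa
  have hga : g * a * g⁻¹ ∈ A := d.conj_mem g ha
  have e : g * a * g⁻¹ * a⁻¹ = (a * (g * a * g⁻¹)) * (a * a)⁻¹ := by
    rw [d.comm' ha hga]; group
  rw [e]
  exact mul_mem h1 (inv_mem h2)

/-- a lift of `T` normalises `M` -/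
theorem norm_lift_M (d : Dat θ A W α P) {b : G} (hb : b ∈ A) (hPb : P b = e1) (T : L)
    (hTe : mv T e1 = e1) (g : G) (hg : α (θ g) = T) {m : G} (hm : m ∈ Subgroup.zpowers (b * b)) :
    g * m * g⁻¹ ∈ Subgroup.zpowers (b * b) := by
  rcases (mem_zp_iff (d.bb_sq hb) m).mp hm with rfl | rfl
  · rw [mul_one, mul_inv_cancel]; exact one_mem _
  · have e : g * (b * b) * g⁻¹ = (g * b * g⁻¹) * (g * b * g⁻¹) := by group
    rw [e]
    apply d.sq_mem_M hb hPb (d.conj_mem g hb)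
    right
    rw [d.conjP g b hb, hg, hPb, hTe]

/-! ## counting -/

theorem card_ge_two_mul {H K : Subgroup G} (hle : H ≤ K) {x : G} (hx : x ∈ K) (hxn : x ∉ H) :
    2 * Nat.card H ≤ Nat.card K := by
  obtain ⟨m, hm⟩ := Subgroup.card_dvd_of_le hle
  have hpos : 0 < Nat.card H := Nat.card_pos
  have hposK : 0 < Nat.card K := Nat.card_pos
  rcases m with _ | _ | m
  · rw [mul_zero] at hm; omega
  · exfalso
    have hEq : H = K := Subgroup.eq_of_le_of_card_ge hle (by rw [hm]; omega)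
    exact hxn (hEq ▸ hx)
  · rw [hm]
    calc 2 * Nat.card H = Nat.card H * 2 := by ring
      _ ≤ Nat.card H * (m + 1 + 1) := Nat.mul_le_mul_left _ (by omega)

/-! ## the section -/

theorem false_of_dat (d : Dat θ A W α P) (hr : Cfsg.SectionalPRankLE 2 4 G) : False := by
  obtain ⟨b, hb, hPb⟩ := d.surjP e1
  obtain ⟨κ1, κ2, hκ1, hκ2, hsq1, hsq2, hcom⟩ := exists_kappa d hb hPb
  set M : Subgroup G := Subgroup.zpowers (b * b) with hM
  set T : Set G := {a | a ∈ A ∧ (P a = 0 ∨ P a = e1)} ∪ {κ1, κ2} with hT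
  have hTmem : ∀ t, t ∈ T ↔ (t ∈ A ∧ (P t = 0 ∨ P t = e1)) ∨ t = κ1 ∨ t = κ2 := by
    intro t
    rw [hT]
    simp only [Set.mem_union, Set.mem_ofPred_eq, Set.mem_insert_iff, Set.mem_singleton_iff]
  have hMA : ∀ m ∈ M, m ∈ A := by
    intro m hm
    rcases (mem_zp_iff (d.bb_sq hb) m).mp hm with rfl | rfl
    · exact one_mem _
    · exact mul_mem hb hb
  have cL1 := fun {a : G} (ha : a ∈ A) (hPa : P a = 0 ∨ P a = e1) =>
    comm_lift_B d hb hPb a12 z13 fix12 a12_sq' z13_sq' comm12 a12_ne_one z13_ne_one a12_ne_z13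
      a12_e1 κ1 hκ1 ha hPa
  have cL2 := fun {a : G} (ha : a ∈ A) (hPa : P a = 0 ∨ P a = e1) =>
    comm_lift_B d hb hPb z13 a12 fix21 z13_sq' a12_sq' comm12.symm z13_ne_one a12_ne_one
      a12_ne_z13.symm z13_e1 κ2 hκ2 ha hPa
  have hn : ∀ t ∈ T, ∀ m ∈ M, t * m * t⁻¹ ∈ M := by
    intro t ht m hm
    rcases (hTmem t).mp ht with ⟨htA, -⟩ | h | h
    · rw [d.conj_A htA (hMA m hm)]; exact hm
    · rw [h]; exact norm_lift_M d hb hPb a12 a12_e1 _ hκ1 hm
    · rw [h]; exact norm_lift_M d hb hPb z13 z13_e1 _ hκ2 hm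
  have hsq : ∀ t ∈ T, t * t ∈ M := by
    intro t ht
    rcases (hTmem t).mp ht with ⟨htA, htP⟩ | h | h
    · exact d.sq_mem_M hb hPb htA htP
    · rw [h]; exact hsq1
    · rw [h]; exact hsq2
  have inv_form : ∀ x y : G, x * y * x⁻¹ * y⁻¹ ∈ M → y * x * y⁻¹ * x⁻¹ ∈ M := by
    intro x y h
    have e : y * x * y⁻¹ * x⁻¹ = (x * y * x⁻¹ * y⁻¹)⁻¹ := by group
    rw [e]; exact inv_mem h
  have hself : ∀ x : G, x * x * x⁻¹ * x⁻¹ ∈ M := by
    intro x
    have e : x * x * x⁻¹ * x⁻¹ = 1 := by group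
    rw [e]; exact one_mem _
  have hcomm : ∀ t ∈ T, ∀ t' ∈ T, t * t' * t⁻¹ * t'⁻¹ ∈ M := by
    intro t ht t' ht'
    rcases (hTmem t).mp ht with ⟨htA, htP⟩ | h | h
    · rcases (hTmem t').mp ht' with ⟨htA', htP'⟩ | h' | h'
      · have e : t * t' * t⁻¹ * t'⁻¹ = 1 := by
          rw [d.comm' htA htA']; group
        rw [e]; exact one_mem _
      · rw [h']; exact inv_form _ _ (cL1 htA htP)
      · rw [h']; exact inv_form _ _ (cL2 htA htP)
    · rcases (hTmem t').mp ht' with ⟨htA', htP'⟩ | h' | h'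
      · rw [h]; exact cL1 htA' htP'
      · rw [h, h']; exact hself _
      · rw [h, h']; exact hcom
    · rcases (hTmem t').mp ht' with ⟨htA', htP'⟩ | h' | h'
      · rw [h]; exact cL2 htA' htP'
      · rw [h, h']; exact inv_form _ _ hcom
      · rw [h, h']; exact hself _
  have hbT : b ∈ T := (hTmem b).mpr (Or.inl ⟨hb, Or.inr hPb⟩)
  have hMK : M ≤ Subgroup.closure T := by
    rw [hM, Subgroup.zpowers_le]
    exact mul_mem (Subgroup.subset_closure hbT) (Subgroup.subset_closure hbT)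
  -- counting
  have hcardM : Nat.card M ≤ 2 := by
    rw [hM, Nat.card_zpowers]
    apply orderOf_le_of_pow_eq_one (by norm_num)
    rw [pow_two]; exact d.bb_sq hb
  have hκ1K : κ1 ∈ Subgroup.closure T := Subgroup.subset_closure ((hTmem κ1).mpr (Or.inr (Or.inl rfl)))
  have hκ2K : κ2 ∈ Subgroup.closure T := Subgroup.subset_closure ((hTmem κ2).mpr (Or.inr (Or.inr rfl)))
  have hWK : W ≤ Subgroup.closure T ⊓ A := by
    intro w hw
    refine ⟨Subgroup.subset_closure ((hTmem w).mpr (Or.inl ⟨d.hc.hWA hw, Or.inl ?_⟩)), d.hc.hWA hw⟩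
    exact (d.kerP w (d.hc.hWA hw)).mpr hw
  have hbW : b ∉ W := by
    intro hbW
    have := (d.kerP b hb).mpr hbW
    rw [hPb] at this
    exact e1_ne_zero this
  have c1 : 2 * Nat.card W ≤ Nat.card (Subgroup.closure T ⊓ A : Subgroup G) :=
    card_ge_two_mul hWK (x := b) ⟨Subgroup.subset_closure hbT, hb⟩ hbW
  have ht1sq : (α.symm a12) * (α.symm a12) = 1 := by rw [← map_mul, a12_sq', map_one]
  have hH12 : Subgroup.closure T ⊓ A ≤
      Subgroup.closure T ⊓ (Subgroup.zpowers (α.symm a12)).comap θ := by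
    intro x hx
    refine ⟨hx.1, ?_⟩
    show θ x ∈ Subgroup.zpowers (α.symm a12)
    rw [(d.mem_A_iff x).mp hx.2]
    exact one_mem _
  have hκ1H2 : κ1 ∈ Subgroup.closure T ⊓ (Subgroup.zpowers (α.symm a12)).comap θ := by
    refine ⟨hκ1K, ?_⟩
    show θ κ1 ∈ Subgroup.zpowers (α.symm a12)
    rw [d.theta_eq hκ1]
    exact Subgroup.mem_zpowers _
  have hκ1H1 : κ1 ∉ Subgroup.closure T ⊓ A := by
    intro h
    exact d.theta_ne_one hκ1 a12_ne_one ((d.mem_A_iff κ1).mp h.2)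
  have c2 := card_ge_two_mul hH12 hκ1H2 hκ1H1
  have hκ2H2 : κ2 ∉ Subgroup.closure T ⊓ (Subgroup.zpowers (α.symm a12)).comap θ := by
    intro h
    have h2 : θ κ2 ∈ Subgroup.zpowers (α.symm a12) := h.2
    rw [d.theta_eq hκ2, mem_zp_iff ht1sq] at h2
    rcases h2 with h2 | h2
    · rw [← map_one α.symm] at h2
      exact z13_ne_one (α.symm.injective h2)
    · exact a12_ne_z13 (α.symm.injective h2).symm
  have c3 := card_ge_two_mul (inf_le_left : Subgroup.closure T ⊓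
    (Subgroup.zpowers (α.symm a12)).comap θ ≤ Subgroup.closure T) hκ2K hκ2H2
  have hcW := d.hc.cardW
  have hcard : 32 * Nat.card M ≤ Nat.card (Subgroup.closure T) := by omega
  exact Cfsg.Agent.Lib.Helper5.GH7.false_of_gen_section hr M T hn hsq hcomm hMK hcard

/-- **F5**: the `E32` section from F1 and F4 (verbatim `GH7Stubs2.homocyclic_F5`). -/
theorem homocyclic_F5 {θ : G →* L} {A W : Subgroup G} (h : HC θ A W) (hker : θ.ker = A)
    (hF1 : ∀ (g1 g2 : G), θ g1 * θ g1 = 1 → θ g2 * θ g2 = 1 → θ g1 * θ g2 = θ g2 * θ g1 →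
      θ g1 ≠ 1 → θ g2 ≠ 1 → θ g1 ≠ θ g2 → ∀ a ∈ A,
      a * (g1 * a * g1⁻¹) * (g2 * a * g2⁻¹) * (g1 * g2 * a * (g1 * g2)⁻¹) = 1)
    (hF4 : ∀ t : L, t * t = 1 → ∃ k : G, θ k = t ∧ k * k = 1) : ¬ Cfsg.SectionalPRankLE 2 4 G := by
  intro hr
  have hA := h.nA
  have hW := h.nW
  obtain ⟨α, P, hs, ha, hk, hc⟩ := Cfsg.Agent.Lib.Helper4.GH7.coords_fun (θ := θ) A W h.surj h.hWA h.sq
    h.cardA h.cardW
    (fun g hg a haA => by
      have e : g * a * g⁻¹ * a⁻¹ = 1 := by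
        rw [h.cent g hg a haA]; group
      rw [e]
      exact one_mem _)
    h.faith
  exact false_of_dat (α := α) (P := P) ⟨h, hker, hs, ha, hk, hc, hF1, hF4⟩ hr

end Cfsg.Agent.Lib.Helper8.GH7F5
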