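import Mathlib
import Cfsg.Agent.Lib.Helper2.GH7Defs
import Cfsg.Agent.Lib.Helper8.GH7E88a

/-! # GH7 (S3105) units B8-F, part a: an extension of the natural module by a trivial module of order 2
without "swaps" has an invariant hyperplane. -/

set_option autoImplicit false
set_option linter.unusedVariables false
set_option linter.unusedSectionVars false
set_option linter.style.longLine false
set_option maxHeartbeats 1000000

namespace Cfsg.Agent.Lib.Helper8.GH7B8F

open Cfsg.Agent.Lib.Helper2.GH7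
open Cfsg.Agent.Lib.Helper8.GH7E88

universe u

section

variable {V : Type u} [AddCommGroup V]

theorem char2_eq (hV2 : ∀ v : V, v + v = 0) {x y : V} (h : x + y = 0) : x = y := by
  have : x = x + (y + y) := by rw [hV2, add_zero]
  rw [this, ← add_assoc, h, zero_add]

theorem rho_mul (ρ : L →* AddMonoid.End V) (M N : L) (v : V) : ρ (M * N) v = ρ M (ρ N v) := by
  rw [map_mul]; rfl

theorem rho_one (ρ : L →* AddMonoid.End V) (v : V) : ρ 1 v = v := by
  rw [map_one]; rfl

theorem rho_inv_rho (ρ : L →* AddMonoid.End V) (M : L) (v : V) : ρ M⁻¹ (ρ M v) = v := by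
  rw [← rho_mul, inv_mul_cancel, rho_one]

theorem e1_ne : e1 ≠ 0 := by decide
theorem e2_ne : e2 ≠ 0 := by decide
theorem e1_ne_e2 : e1 ≠ e2 := by decide

/-- **HYP**: no swaps implies an invariant functional not vanishing at `u0`. -/
theorem exists_functional (hV2 : ∀ v : V, v + v = 0)
    (ρ : L →* AddMonoid.End V) (u0 : V) (hu0 : u0 ≠ 0) (hfix : ∀ M : L, ρ M u0 = u0)
    (p : V → X) (hpadd : ∀ v v', p (v + v') = p v + p v')
    (hpsurj : Function.Surjective p)
    (hpker : ∀ v, p v = 0 → v = 0 ∨ v = u0)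
    (hpu0 : p u0 = 0)
    (hpeq : ∀ (M : L) (v : V), p (ρ M v) = mv M (p v))
    (hns : ∀ (M : L) (v : V), p (ρ M v) = p v → ρ M v = v) :
    ∃ t : V → ZMod 2, (∀ v v', t (v + v') = t v + t v') ∧ t u0 ≠ 0 ∧ ∀ (M : L) (v : V), t (ρ M v) = t v := by
  classical
  have hp0 : p 0 = 0 := by
    have h := hpadd 0 0
    rw [add_zero] at h
    have h2 := add_self_X (p 0)
    rw [← h] at h2
    exact h2
  have hρ0 : ∀ M : L, ρ M 0 = 0 := fun M => map_zero (ρ M)
  have hρadd : ∀ (M : L) (v v' : V), ρ M (v + v') = ρ M v + ρ M v' := fun M v v' => map_add (ρ M) v v'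
  have hfixK : ∀ (M : L) (k : V), p k = 0 → ρ M k = k := by
    intro M k hk
    rcases hpker k hk with rfl | rfl
    · exact hρ0 M
    · exact hfix M
  obtain ⟨v1, hv1⟩ := hpsurj e1
  -- the section `h`
  obtain ⟨h, hh⟩ : ∃ h : X → V, h 0 = 0 ∧ ∀ w : X, w ≠ 0 → ∃ N : L, mv N e1 = w ∧ h w = ρ N v1 := by
    refine ⟨fun w => if hw : w = 0 then 0 else ρ (Classical.choose (trans1 e1 e1_ne w hw)) v1, ?_, ?_⟩
    · simp
    · intro w hw
      refine ⟨Classical.choose (trans1 e1 e1_ne w hw), Classical.choose_spec (trans1 e1 e1_ne w hw), ?_⟩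
      simp [hw]
  obtain ⟨hh0, hhs⟩ := hh
  have hspec : ∀ w : X, w ≠ 0 → ∀ N : L, mv N e1 = w → ρ N v1 = h w := by
    intro w hw N hN
    obtain ⟨N', hN', hhw⟩ := hhs w hw
    rw [hhw]
    have h1 : ρ (N'⁻¹ * N) v1 = v1 := by
      apply hns
      rw [hpeq, hv1, mv_mul, hN, ← hN', mv_inv_mv]
    have h2 : N = N' * (N'⁻¹ * N) := by group
    rw [h2, rho_mul, h1]
  have hph : ∀ w, p (h w) = w := by
    intro w
    by_cases hw : w = 0
    · rw [hw, hh0, hp0]
    · obtain ⟨N', hN', hhw⟩ := hhs w hw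
      rw [hhw, hpeq, hv1, hN']
  have hheq : ∀ (M : L) (w : X), w ≠ 0 → ρ M (h w) = h (mv M w) := by
    intro M w hw
    obtain ⟨N', hN', hhw⟩ := hhs w hw
    rw [hhw, ← rho_mul]
    apply hspec _ (mv_ne_zero M hw)
    rw [mv_mul, hN']
  -- the defect
  have hEker : ∀ w w' : X, p (h w + h w' + h (w + w')) = 0 := by
    intro w w'
    rw [hpadd, hpadd, hph, hph, hph, add_self_X]
  have hEinv : ∀ (M : L) (w w' : X), w ≠ 0 → w' ≠ 0 → w ≠ w' →
      h (mv M w) + h (mv M w') + h (mv M w + mv M w') = h w + h w' + h (w + w') := by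
    intro M w w' hw hw' hne
    have hsum : w + w' ≠ 0 := by
      intro h0
      apply hne
      have : w = w + (w' + w') := by rw [add_self_X, add_zero]
      rw [this, ← add_assoc, h0, zero_add]
    rw [← mv_add, ← hheq M w hw, ← hheq M w' hw', ← hheq M _ hsum, ← hρadd, ← hρadd]
    exact hfixK M _ (hEker w w')
  have hEconst : ∀ w w' : X, w ≠ 0 → w' ≠ 0 → w ≠ w' →
      h w + h w' + h (w + w') = h e1 + h e2 + h (e1 + e2) := by
    intro w w' hw hw' hne
    obtain ⟨M, hM1, hM2⟩ := trans2 w hw w' hw' hne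
    rw [← hM1, ← hM2]
    exact hEinv M e1 e2 e1_ne e2_ne e1_ne_e2
  obtain ⟨ε0, hε0⟩ : ∃ ε0 : V, ε0 = h e1 + h e2 + h (e1 + e2) := ⟨_, rfl⟩
  have hpε0 : p ε0 = 0 := by rw [hε0]; exact hEker e1 e2
  -- corrected section
  obtain ⟨h', hh'0, hh'⟩ : ∃ h' : X → V, h' 0 = 0 ∧ ∀ w : X, w ≠ 0 → h' w = h w + ε0 := by
    refine ⟨fun w => if w = 0 then 0 else h w + ε0, by simp, ?_⟩
    intro w hw
    simp [hw]
  have hh'add : ∀ w w' : X, h' (w + w') = h' w + h' w' := by
    intro w w'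
    by_cases hw : w = 0
    · rw [hw, zero_add, hh'0, zero_add]
    by_cases hw' : w' = 0
    · rw [hw', add_zero, hh'0, add_zero]
    by_cases hne : w = w'
    · rw [hne, add_self_X, hh'0, hV2]
    have hsum : w + w' ≠ 0 := by
      intro h0
      apply hne
      have : w = w + (w' + w') := by rw [add_self_X, add_zero]
      rw [this, ← add_assoc, h0, zero_add]
    rw [hh' w hw, hh' w' hw', hh' _ hsum]
    have hE := hEconst w w' hw hw' hne
    rw [← hε0] at hE
    apply char2_eq hV2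
    have : h (w + w') + ε0 + (h w + ε0 + (h w' + ε0)) = (h w + h w' + h (w + w')) + ε0 + (ε0 + ε0) := by abel
    rw [this, hE, hV2]
  have hph' : ∀ w, p (h' w) = w := by
    intro w
    by_cases hw : w = 0
    · rw [hw, hh'0, hp0]
    · rw [hh' w hw, hpadd, hph, hpε0, add_zero]
  have hh'eq : ∀ (M : L) (w : X), ρ M (h' w) = h' (mv M w) := by
    intro M w
    by_cases hw : w = 0
    · rw [hw, hh'0, mv_zero, hh'0, hρ0]
    · rw [hh' w hw, hh' _ (mv_ne_zero M hw), hρadd, hheq M w hw, hfixK M ε0 hpε0]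
  -- the projection `d` to `{0, u0}`
  have hdker : ∀ v : V, p (v + h' (p v)) = 0 := by
    intro v
    rw [hpadd, hph', add_self_X]
  have hdadd : ∀ v v' : V, (v + v') + h' (p (v + v')) = (v + h' (p v)) + (v' + h' (p v')) := by
    intro v v'
    rw [hpadd, hh'add]
    abel
  have hdinv : ∀ (M : L) (v : V), ρ M v + h' (p (ρ M v)) = v + h' (p v) := by
    intro M v
    rw [hpeq, ← hh'eq, ← hρadd]
    exact hfixK M _ (hdker v)
  have hdu0 : u0 + h' (p u0) = u0 := by rw [hpu0, hh'0, add_zero]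
  refine ⟨fun v => if v + h' (p v) = 0 then 0 else 1, ?_, ?_, ?_⟩
  · intro v v'
    show (if (v + v') + h' (p (v + v')) = 0 then (0 : ZMod 2) else 1) =
      (if v + h' (p v) = 0 then (0 : ZMod 2) else 1) + (if v' + h' (p v') = 0 then (0 : ZMod 2) else 1)
    rw [hdadd]
    rcases hpker _ (hdker v) with h1 | h1 <;> rcases hpker _ (hdker v') with h2 | h2
    · rw [h1, h2]; simp
    · rw [h1, h2]; simp [hu0]
    · rw [h1, h2]; simp [hu0]
    · rw [h1, h2, hV2]; simp [hu0]; decide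
  · show (if u0 + h' (p u0) = 0 then (0 : ZMod 2) else 1) ≠ 0
    rw [hdu0]
    simp [hu0]
  · intro M v
    show (if ρ M v + h' (p (ρ M v)) = 0 then (0 : ZMod 2) else 1) = (if v + h' (p v) = 0 then (0 : ZMod 2) else 1)
    rw [hdinv]

end

end Cfsg.Agent.Lib.Helper8.GH7B8F
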