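import Mathlib
import Cfsg.Agent.Lib.Helper2.GH7Defs
import Cfsg.Agent.Lib.Helper8.GH7E88a
import Cfsg.Agent.Lib.Helper8.GH7B8Fa

/-! # GH7 (S3105) unit B8-F noncentral, module level -/

set_option autoImplicit false
set_option linter.unusedVariables false
set_option linter.unusedSectionVars false
set_option linter.style.longLine false
set_option maxHeartbeats 1000000
set_option maxRecDepth 100000
set_option Elab.async false

namespace Cfsg.Agent.Lib.Helper8.GH7B8F

open Cfsg.Agent.Lib.Helper2.GH7
open Cfsg.Agent.Lib.Helper8.GH7E88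

universe u

set_option synthInstance.maxSize 1024 in
set_option synthInstance.maxHeartbeats 200000 in
theorem fixed_zero : ∀ x : X, (∀ M : L, mv M x = x) → x = 0 := by
  decide +kernel

set_option synthInstance.maxSize 1024 in
set_option synthInstance.maxHeartbeats 200000 in
theorem order3_fix : ∀ w : X, w ≠ 0 → ∀ x : X, (∀ N : L, N * N * N = 1 → mv N w = w → mv N x = x) →
    (x = 0 ∨ x = w) := by
  decide +kernel

theorem card_X : Nat.card X = 8 := by
  rw [Nat.card_eq_fintype_card]
  rfl

section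

variable {V : Type u} [AddCommGroup V] [Finite V]

theorem b8fn_mod (hV2 : ∀ v : V, v + v = 0) (hcardV : Nat.card V = 16)
    (ρ : L →* AddMonoid.End V)
    (u0 : V) (hu0 : u0 ≠ 0) (hfix : ∀ M : L, ρ M u0 = u0)
    (s : V → X) (c : V → V → X)
    (hsadd : ∀ u v, s (u + v) = s u + s v + c u v)
    (hcl : ∀ u u' v, c (u + u') v = c u v + c u' v)
    (hcr : ∀ u v v', c u (v + v') = c u v + c u v')
    (hcalt : ∀ u, c u u = 0) (hcsym : ∀ u v, c u v = c v u)
    (hseq : ∀ (M : L) (u : V), s (ρ M u) = mv M (s u))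
    (hceq : ∀ (M : L) (u v : V), c (ρ M u) (ρ M v) = mv M (c u v))
    (hnc : ∃ v, c u0 v ≠ 0)
    (hno : ¬ ∃ t : V → ZMod 2, (∀ v v', t (v + v') = t v + t v') ∧ (∃ v, t v ≠ 0) ∧
      ∀ (M : L) (v : V), t (ρ M v) = t v) : False := by
  classical
  have hρ0 : ∀ M : L, ρ M 0 = 0 := fun M => map_zero (ρ M)
  have hρadd : ∀ (M : L) (v v' : V), ρ M (v + v') = ρ M v + ρ M v' := fun M v v' => map_add (ρ M) v v'
  -- ι
  have hι0 : c u0 0 = 0 := by
    have h := hcr u0 0 0
    rw [add_zero] at h
    have h2 := add_self_X (c u0 0)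
    rw [← h] at h2
    exact h2
  have hιeq : ∀ (M : L) (v : V), c u0 (ρ M v) = mv M (c u0 v) := by
    intro M v
    rw [← hceq, hfix]
  have hιsurj : Function.Surjective (fun v => c u0 v) := by
    intro w
    obtain ⟨v1, hv1⟩ := hnc
    by_cases hw : w = 0
    · exact ⟨0, by rw [hw]; exact hι0⟩
    · obtain ⟨N, hN⟩ := trans1 _ hv1 w hw
      exact ⟨ρ N v1, by show c u0 (ρ N v1) = w; rw [hιeq, hN]⟩
  -- the kernel of ι has two elements
  let ιh : V →+ X := { toFun := fun v => c u0 v, map_zero' := hι0, map_add' := hcr u0 }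
  have hιh : ∀ v, ιh v = c u0 v := fun v => rfl
  have hker2 : Nat.card ιh.ker = 2 := by
    have e := QuotientAddGroup.quotientKerEquivOfSurjective ιh hιsurj
    have h1 : Nat.card (V ⧸ ιh.ker) = 8 := by rw [Nat.card_congr e.toEquiv, card_X]
    have h2 := AddSubgroup.card_eq_card_quotient_mul_card_addSubgroup ιh.ker
    rw [hcardV, h1] at h2
    omega
  have hιker : ∀ v, c u0 v = 0 → v = 0 ∨ v = u0 := by
    intro v hv
    by_contra hne
    push Not at hne
    obtain ⟨y, hy, hyu⟩ := (Nat.card_eq_two_iff' (0 : ιh.ker)).mp hker2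
    have hu0k : u0 ∈ ιh.ker := by rw [AddMonoidHom.mem_ker, hιh]; exact hcalt u0
    have hvk : v ∈ ιh.ker := by rw [AddMonoidHom.mem_ker, hιh]; exact hv
    have h1 : (⟨u0, hu0k⟩ : ιh.ker) = y := hyu _ (fun h => hu0 (congrArg (fun t : ιh.ker => (t : V)) h))
    have h2 : (⟨v, hvk⟩ : ιh.ker) = y := hyu _ (fun h => hne.1 (congrArg (fun t : ιh.ker => (t : V)) h))
    exact hne.2 (congrArg (fun t : ιh.ker => (t : V)) (h2.trans h1.symm))
  -- s u0 = 0
  have hsu0 : s u0 = 0 := by
    apply fixed_zero
    intro M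
    rw [← hseq, hfix]
  have hsplus : ∀ v, s (v + u0) = s v + c u0 v := by
    intro v
    rw [hsadd, hsu0, add_zero, hcsym]
  -- no swaps
  have hns : ∀ (M : L) (v : V), c u0 (ρ M v) = c u0 v → ρ M v = v := by
    intro M v hMv
    by_cases hw : c u0 v = 0
    · rcases hιker v hw with rfl | rfl
      · exact hρ0 M
      · exact hfix M
    have hdiff : ∀ N : L, mv N (c u0 v) = c u0 v → ρ N v = v ∨ ρ N v = v + u0 := by
      intro N hN
      have hk : c u0 (ρ N v + v) = 0 := by rw [hcr, hιeq, hN, add_self_X]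
      rcases hιker _ hk with h1 | h1
      · left; exact char2_eq hV2 h1
      · right
        have : ρ N v = (ρ N v + v) + v := by rw [add_assoc, hV2, add_zero]
        rw [this, h1, add_comm]
    have claim3 : ∀ N : L, N * N * N = 1 → mv N (c u0 v) = c u0 v → ρ N v = v := by
      intro N hN3 hNw
      rcases hdiff N hNw with h1 | h1
      · exact h1
      · exfalso
        have h2 : ρ N (ρ N v) = v := by
          rw [h1, hρadd, h1, hfix, add_assoc, hV2, add_zero]
        have h3 : ρ (N * N * N) v = v + u0 := by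
          rw [rho_mul, rho_mul, h2, h1]
        rw [hN3, rho_one] at h3
        apply hu0
        have : v + 0 = v + u0 := by rw [add_zero]; exact h3
        exact (add_left_cancel this).symm
    have hsv : s v = 0 ∨ s v = c u0 v := by
      apply order3_fix _ hw
      intro N hN3 hNw
      rw [← hseq, claim3 N hN3 hNw]
    have hMw : mv M (c u0 v) = c u0 v := by rw [← hιeq]; exact hMv
    have hMs : mv M (s v) = s v := by
      rcases hsv with h1 | h1
      · rw [h1, mv_zero]
      · rw [h1, hMw]
    rcases hdiff M hMw with h1 | h1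
    · exact h1
    · exfalso
      have h2 : s (v + u0) = s v := by rw [← h1, hseq, hMs]
      rw [hsplus] at h2
      apply hw
      have : s v + c u0 v = s v + 0 := by rw [add_zero]; exact h2
      exact add_left_cancel this
  obtain ⟨t, htadd, htu0, htinv⟩ := exists_functional hV2 ρ u0 hu0 hfix (fun v => c u0 v) (hcr u0)
    hιsurj hιker (hcalt u0) hιeq hns
  exact hno ⟨t, htadd, ⟨u0, htu0⟩, htinv⟩

end

end Cfsg.Agent.Lib.Helper8.GH7B8F
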