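import Mathlib
import Cfsg.Agent.Lib.Helper2.GH7Defs
import Cfsg.Agent.Lib.Helper2.GH7Glue
import Cfsg.Agent.Lib.Helper1.GH5U7b
import Cfsg.Agent.Lib.Helper4.GH7Faith8
import Cfsg.Agent.Lib.Helper8.GH7Mod
import Cfsg.Agent.Lib.Helper8.GH7B8Fb

/-! # GH7 (S3105) units B8-F, part c: from the group-level hypotheses to module data -/

set_option autoImplicit false
set_option linter.unusedVariables false
set_option linter.unusedSectionVars false
set_option linter.style.longLine false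
set_option maxHeartbeats 2000000

namespace Cfsg.Agent.Lib.Helper8.GH7B8F

open Cfsg.Agent.Lib.Helper3.A8Emb (sqSub sqSub_le)
open Cfsg.Agent.Lib.Helper2.GH7
open Cfsg.Agent.Lib.Helper8.GH7E88

universe u

variable {G : Type u} [Group G]

/-- the module data of the B8-F situation -/
structure Data (Q N1 Z0 : Subgroup G) (V : Type u) [AddCommGroup V] (θ' : G →* L)
    (ρ : L →* AddMonoid.End V) (πV : ↥Q → V) (πW : ↥N1 → X) (u0 : V) (s : V → X) (c : V → V → X) : Prop where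
  surj : Function.Surjective θ'
  ker : ∀ g : G, θ' g = 1 ↔ g ∈ Q
  v2 : ∀ v : V, v + v = 0
  cardV : Nat.card V = 16
  piV_surj : Function.Surjective πV
  piV_add : ∀ a b : ↥Q, πV (a * b) = πV a + πV b
  piV_zero : ∀ a : ↥Q, πV a = 0 ↔ (a : G) ∈ N1
  piW_bij : Function.Bijective πW
  piW_add : ∀ a b : ↥N1, πW (a * b) = πW a + πW b
  actV : ∀ (g : G) (q : ↥Q) (h : g * q * g⁻¹ ∈ Q), ρ (θ' g) (πV q) = πV ⟨g * q * g⁻¹, h⟩
  actW : ∀ (g : G) (w : ↥N1) (h : g * w * g⁻¹ ∈ N1), mv (θ' g) (πW w) = πW ⟨g * w * g⁻¹, h⟩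
  s_eq : ∀ (q : ↥Q) (h : (q : G) * q ∈ N1), s (πV q) = πW ⟨(q : G) * q, h⟩
  c_eq : ∀ (q q' : ↥Q) (h : (q : G) * q' * (q : G)⁻¹ * (q' : G)⁻¹ ∈ N1),
    c (πV q) (πV q') = πW ⟨(q : G) * q' * (q : G)⁻¹ * (q' : G)⁻¹, h⟩
  s_add : ∀ u v : V, s (u + v) = s u + s v + c u v
  c_left : ∀ u u' v : V, c (u + u') v = c u v + c u' v
  c_right : ∀ u v v' : V, c u (v + v') = c u v + c u v'
  c_alt : ∀ u : V, c u u = 0
  c_symm : ∀ u v : V, c u v = c v u
  s_equiv : ∀ (M : L) (u : V), s (ρ M u) = mv M (s u)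
  c_equiv : ∀ (M : L) (u v : V), c (ρ M u) (ρ M v) = mv M (c u v)
  u0_ne : u0 ≠ 0
  u0_fix : ∀ M : L, ρ M u0 = u0
  u0_mem : ∀ q : ↥Q, (q : G) ∈ Z0 ↔ (πV q = 0 ∨ πV q = u0)
  no_hyp : ¬ ∃ t : V → ZMod 2, (∀ v v', t (v + v') = t v + t v') ∧ (∃ v, t v ≠ 0) ∧
    ∀ (M : L) (v : V), t (ρ M v) = t v

theorem zmod2_xor : ∀ x : ZMod 2, Xor (x + 1 = 0) (x = 0) := by
  intro x
  rw [xor_iff_or_and_not_and]
  revert x
  decide

theorem zmod2_self : ∀ a : ZMod 2, a = a + a → a = 0 := by decide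

theorem zmod2_one : ∀ a : ZMod 2, a ≠ 0 → a = 1 := by decide

variable [Finite G] {Q : Subgroup G} [Q.Normal] {θ : G →* L}

theorem exists_data (hF : Frame Q θ) (N1 : Subgroup G) [N1.Normal] (hle : N1 ≤ sqSub Q) (hne : N1 ≠ ⊥)
    (hmin : ∀ K : Subgroup G, K.Normal → K ≤ N1 → K = ⊥ ∨ K = N1) (hcard : Nat.card N1 = 8)
    (hsq : ∀ q ∈ Q, q * q ∈ N1) (hQ : Nat.card Q = 16 * Nat.card N1)
    (Z0 : Subgroup G) [Z0.Normal] (hNZ : N1 ≤ Z0) (hZQ : Z0 ≤ Q) (hZ0 : Nat.card Z0 = 2 * Nat.card N1)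
    (hno : ¬ ∃ Q1 : Subgroup G, Q1.Normal ∧ N1 ≤ Q1 ∧ Q1 ≤ Q ∧ Nat.card Q1 = 8 * Nat.card N1) :
    ∃ (V : Type u) (_ : AddCommGroup V) (_ : Finite V) (θ' : G →* L) (ρ : L →* AddMonoid.End V)
      (πV : ↥Q → V) (πW : ↥N1 → X) (u0 : V) (s : V → X) (c : V → V → X),
      Data Q N1 Z0 V θ' ρ πV πW u0 s c := by
  classical
  have : Fact (Nat.Prime 2) := ⟨Nat.prime_two⟩
  have hQn : Q.Normal := inferInstance
  have hN1n : N1.Normal := inferInstance
  have hZ0n : Z0.Normal := inferInstance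
  have hN1Q : N1 ≤ Q := hle.trans (sqSub_le Q)
  obtain ⟨hcen, hexp2⟩ := Cfsg.Agent.Lib.Helper1.GH5U7.minimal_normal_central (p := 2) Q N1 hF.pgroup hN1Q hne hmin
  have hexp : ∀ w ∈ N1, w * w = 1 := fun w hw => by rw [← pow_two]; exact hexp2 w hw
  obtain ⟨V, Wt, iV, iW, fV, fW, ρV, ρW, πV, πW, s, c, hV2, hW2, hπVs, hπVa, hπV0, hπWb, hπWa, hρV, hρW,
    hsf, hcf, hsadd, hcl, hcr, hcalt, hcsym, hseq, hceq, hcardV, hcardWt⟩ :=
    Cfsg.Agent.Lib.Helper1.GH5U7.exists_layer Q N1 hN1Q hcen hsq hexp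
  -- basic facts on `πV`, `πW`
  have hπV1 : πV 1 = 0 := (hπV0 1).mpr N1.one_mem
  have hπVinv : ∀ b : Q, πV b⁻¹ = πV b := by
    intro b
    have h := hπVa b b⁻¹
    rw [mul_inv_cancel, hπV1] at h
    exact (char2_eq hV2 h.symm).symm
  have hπVeq : ∀ a b : Q, (a : G) * (b : G)⁻¹ ∈ N1 ↔ πV a = πV b := by
    intro a b
    have h1 : πV (a * b⁻¹) = πV a + πV b := by rw [hπVa, hπVinv]
    have h2 : ((a * b⁻¹ : Q) : G) = (a : G) * (b : G)⁻¹ := rfl
    rw [← h2, ← hπV0, h1]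
    constructor
    · intro h; exact char2_eq hV2 h
    · intro h; rw [h, hV2]
  have hπW1 : πW 1 = 0 := by
    have h := hπWa 1 1
    rw [mul_one] at h
    have h3 := hW2 (πW 1)
    rw [← h] at h3
    exact h3
  -- the two actions of `G`
  obtain ⟨ρ'V, hρ'V⟩ : ∃ ρ'V : G →* AddMonoid.End V, ∀ g, ρ'V g = ρV (QuotientGroup.mk g) :=
    ⟨ρV.comp (QuotientGroup.mk' Q), fun g => rfl⟩
  obtain ⟨ρ'W, hρ'W⟩ : ∃ ρ'W : G →* AddMonoid.End Wt, ∀ g, ρ'W g = ρW (QuotientGroup.mk g) :=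
    ⟨ρW.comp (QuotientGroup.mk' Q), fun g => rfl⟩
  have hactV : ∀ (g : G) (b : Q), ρ'V g (πV b) = πV ⟨g * b * g⁻¹, hQn.conj_mem b b.2 g⟩ := by
    intro g b
    rw [hρ'V]
    exact hρV g b _
  have hactW : ∀ (g : G) (w : N1), ρ'W g (πW w) = πW ⟨g * w * g⁻¹, hN1n.conj_mem w w.2 g⟩ := by
    intro g w
    rw [hρ'W]
    exact hρW g w _
  have hmk1 : ∀ g : G, g ∈ Q → (QuotientGroup.mk g : G ⧸ Q) = 1 := fun g hg => (QuotientGroup.eq_one_iff g).mpr hg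
  have hθQ : ∀ g : G, θ g = 1 ↔ g ∈ Q := by
    intro g
    rw [← hF.ker, MonoidHom.mem_ker]
  have hkV' : ∀ g : G, θ g = 1 → ρ'V g = 1 := by
    intro g hg
    rw [hρ'V, hmk1 g ((hθQ g).mp hg), map_one]
  have hkW' : ∀ g : G, θ g = 1 → ρ'W g = 1 := by
    intro g hg
    rw [hρ'W, hmk1 g ((hθQ g).mp hg), map_one]
  have hfaith8 := Cfsg.Agent.Lib.Helper4.GH7.faithful_min_normal hF N1 hN1Q hmin hcard
  have hfW' : ∀ g : G, ρ'W g = 1 → θ g = 1 := by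
    intro g hg
    rw [hθQ]
    apply hfaith8
    intro w hw
    have h1 := hactW g ⟨w, hw⟩
    rw [hg] at h1
    have h2 := hπWb.1 h1
    have h3 : w = g * w * g⁻¹ := congrArg (fun t : N1 => (t : G)) h2
    calc g * w = g * w * g⁻¹ * g := by group
      _ = w * g := by rw [← h3]
  have hcW8 : Nat.card Wt = 8 := by rw [hcardWt, hcard]
  have hcV16 : Nat.card V = 16 := by
    rw [hQ, hcard] at hcardV
    omega
  obtain ⟨αW, eW, hW⟩ := Cfsg.Agent.Lib.Helper8.GH7Mod.coords θ hF.surj ρ'W hkW' hW2 hcW8 hfW'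
  -- the twisted surjection
  obtain ⟨θ', hθ'⟩ : ∃ θ' : G →* L, ∀ g, θ' g = αW (θ g) := ⟨αW.toMonoidHom.comp θ, fun g => rfl⟩
  have hθ'surj : Function.Surjective θ' := by
    intro M
    obtain ⟨g, hg⟩ := hF.surj (αW.symm M)
    exact ⟨g, by rw [hθ', hg, MulEquiv.apply_symm_apply]⟩
  have hθ'1 : ∀ g : G, θ' g = 1 ↔ θ g = 1 := by
    intro g
    rw [hθ']
    exact MulEquiv.map_eq_one_iff αW
  obtain ⟨ρ, hρ⟩ := Cfsg.Agent.Lib.Helper8.GH7Mod.lift_through θ' hθ'surj ρ'V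
    (fun g hg => hkV' g ((hθ'1 g).mp hg))
  -- `u0`
  have hexz : ∃ z0 ∈ Z0, z0 ∉ N1 := by
    by_contra hcon
    push Not at hcon
    have : Z0 = N1 := le_antisymm hcon hNZ
    rw [this, hcard] at hZ0
    omega
  obtain ⟨z0, hz0, hz0N⟩ := hexz
  have hidx : (N1.subgroupOf Z0).index = 2 := by
    have hJ : Nat.card (N1.subgroupOf Z0) = Nat.card N1 :=
      Nat.card_congr (Subgroup.subgroupOfEquivOfLe hNZ).toEquiv
    have h1 := Subgroup.card_mul_index (N1.subgroupOf Z0)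
    rw [hJ, hZ0, hcard] at h1
    omega
  have hZ0split : ∀ z ∈ Z0, z ∉ N1 → z0⁻¹ * z ∈ N1 := by
    intro z hz hzN
    have h1 := (Subgroup.mul_mem_iff_of_index_two hidx (a := (⟨z0⁻¹, Z0.inv_mem hz0⟩ : Z0)) (b := ⟨z, hz⟩))
    have h2 : (⟨z0⁻¹, Z0.inv_mem hz0⟩ : Z0) * ⟨z, hz⟩ ∈ N1.subgroupOf Z0 := by
      rw [h1]
      constructor
      · intro h; exfalso; apply hz0N
        have h3 : z0⁻¹ ∈ N1 := Subgroup.mem_subgroupOf.mp h
        simpa using N1.inv_mem h3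
      · intro h; exfalso; exact hzN (Subgroup.mem_subgroupOf.mp h)
    exact Subgroup.mem_subgroupOf.mp h2
  have hu0ne : πV ⟨z0, hZQ hz0⟩ ≠ 0 := fun h => hz0N ((hπV0 _).mp h)
  have hu0mem : ∀ q : Q, (q : G) ∈ Z0 ↔ (πV q = 0 ∨ πV q = πV ⟨z0, hZQ hz0⟩) := by
    intro q
    constructor
    · intro hq
      by_cases hqN : (q : G) ∈ N1
      · exact Or.inl ((hπV0 q).mpr hqN)
      · right
        have h1 := hZ0split q hq hqN
        apply (hπVeq q ⟨z0, hZQ hz0⟩).mp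
        show (q : G) * z0⁻¹ ∈ N1
        have h2 : (q : G) * z0⁻¹ = z0 * (z0⁻¹ * q) * z0⁻¹ := by group
        rw [h2]
        exact hN1n.conj_mem _ h1 z0
    · rintro (h | h)
      · exact hNZ ((hπV0 q).mp h)
      · have h1 := (hπVeq q ⟨z0, hZQ hz0⟩).mpr h
        have h2 : (q : G) = ((q : G) * z0⁻¹) * z0 := by group
        rw [h2]
        exact Z0.mul_mem (hNZ h1) hz0
  have hρact : ∀ (g : G) (q : Q) (h : g * q * g⁻¹ ∈ Q), ρ (θ' g) (πV q) = πV ⟨g * q * g⁻¹, h⟩ := by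
    intro g q h
    rw [hρ]
    exact hactV g q
  have hu0fix : ∀ M : L, ρ M (πV ⟨z0, hZQ hz0⟩) = πV ⟨z0, hZQ hz0⟩ := by
    intro M
    obtain ⟨g, rfl⟩ := hθ'surj M
    rw [hρact g _ (hQn.conj_mem _ (hZQ hz0) g)]
    have hmem : g * z0 * g⁻¹ ∈ Z0 := hZ0n.conj_mem _ hz0 g
    rcases (hu0mem ⟨g * z0 * g⁻¹, hQn.conj_mem _ (hZQ hz0) g⟩).mp hmem with h | h
    · exfalso
      apply hz0N
      have h1 : g * z0 * g⁻¹ ∈ N1 := (hπV0 _).mp h
      have h2 := hN1n.conj_mem _ h1 g⁻¹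
      have h3 : g⁻¹ * (g * z0 * g⁻¹) * g⁻¹⁻¹ = z0 := by group
      rwa [h3] at h2
    · exact h
  -- equivariance at the level of `L`
  have hseq' : ∀ (M : L) (u : V), eW (s (ρ M u)) = mv M (eW (s u)) := by
    intro M u
    obtain ⟨g, rfl⟩ := hθ'surj M
    rw [hρ, hρ'V, hseq, ← hρ'W, hW, hθ']
  have hceq' : ∀ (M : L) (u v : V), eW (c (ρ M u) (ρ M v)) = mv M (eW (c u v)) := by
    intro M u v
    obtain ⟨g, rfl⟩ := hθ'surj M
    rw [hρ, hρ'V, hceq, ← hρ'W, hW, hθ']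
  refine ⟨V, iV, fV, θ', ρ, πV, fun w => eW (πW w), πV ⟨z0, hZQ hz0⟩, fun v => eW (s v),
    fun u v => eW (c u v), ?_⟩
  refine
    { surj := hθ'surj
      ker := fun g => (hθ'1 g).trans (hθQ g)
      v2 := hV2
      cardV := hcV16
      piV_surj := hπVs
      piV_add := hπVa
      piV_zero := hπV0
      piW_bij := eW.bijective.comp hπWb
      piW_add := fun a b => by rw [hπWa, map_add]
      actV := hρact
      actW := ?_
      s_eq := fun q h => by rw [hsf q h]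
      c_eq := fun q q' h => by rw [hcf q q' h]
      s_add := fun u v => by rw [hsadd, map_add, map_add]
      c_left := fun u u' v => by rw [hcl, map_add]
      c_right := fun u v v' => by rw [hcr, map_add]
      c_alt := fun u => by rw [hcalt, map_zero]
      c_symm := fun u v => by rw [hcsym]
      s_equiv := hseq'
      c_equiv := hceq'
      u0_ne := hu0ne
      u0_fix := hu0fix
      u0_mem := hu0mem
      no_hyp := ?_ }
  · intro g w h
    rw [hθ']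
    exact ((hW g (πW w)).symm.trans (congrArg eW (hactW g w)))
  · rintro ⟨t, htadd, ⟨vt, hvt⟩, htinv⟩
    apply hno
    have ht0 : t 0 = 0 := by
      have h := htadd 0 0
      rw [add_zero] at h
      exact zmod2_self _ h
    let Q1 : Subgroup G :=
      { carrier := {q | ∃ hq : q ∈ Q, t (πV ⟨q, hq⟩) = 0}
        one_mem' := ⟨Q.one_mem, by
          have : (⟨1, Q.one_mem⟩ : Q) = 1 := rfl
          rw [this, hπV1, ht0]⟩
        mul_mem' := by
          rintro a b ⟨ha, hta⟩ ⟨hb, htb⟩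
          refine ⟨Q.mul_mem ha hb, ?_⟩
          have : (⟨a * b, Q.mul_mem ha hb⟩ : Q) = ⟨a, ha⟩ * ⟨b, hb⟩ := rfl
          rw [this, hπVa, htadd, hta, htb, add_zero]
        inv_mem' := by
          rintro a ⟨ha, hta⟩
          refine ⟨Q.inv_mem ha, ?_⟩
          have : (⟨a⁻¹, Q.inv_mem ha⟩ : Q) = (⟨a, ha⟩ : Q)⁻¹ := rfl
          rw [this, hπVinv, hta] }
    have hQ1mem : ∀ q : G, q ∈ Q1 ↔ ∃ hq : q ∈ Q, t (πV ⟨q, hq⟩) = 0 := fun q => Iff.rfl
    have hQ1Q : Q1 ≤ Q := fun q hq => hq.1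
    have hQ1n : Q1.Normal := by
      constructor
      intro q hq g
      obtain ⟨hqQ, htq⟩ := hq
      refine ⟨hQn.conj_mem q hqQ g, ?_⟩
      rw [← hρact g ⟨q, hqQ⟩, htinv, htq]
    have hN1Q1 : N1 ≤ Q1 := by
      intro n hn
      refine ⟨hN1Q hn, ?_⟩
      rw [(hπV0 ⟨n, hN1Q hn⟩).mpr hn, ht0]
    refine ⟨Q1, hQ1n, hN1Q1, hQ1Q, ?_⟩
    -- index two
    obtain ⟨q0, hq0⟩ := hπVs vt
    have htq0 : t (πV q0) = 1 := by
      rw [hq0]
      exact zmod2_one _ hvt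
    have hidx2 : (Q1.subgroupOf Q).index = 2 := by
      rw [Subgroup.index_eq_two_iff]
      refine ⟨q0, fun b => ?_⟩
      have h1 : (b * q0 ∈ Q1.subgroupOf Q) ↔ t (πV b) + 1 = 0 := by
        rw [Subgroup.mem_subgroupOf, hQ1mem]
        constructor
        · rintro ⟨hq, h⟩
          have : (⟨((b * q0 : Q) : G), hq⟩ : Q) = b * q0 := rfl
          rw [this, hπVa, htadd, htq0] at h
          exact h
        · intro h
          refine ⟨(b * q0).2, ?_⟩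
          have : (⟨((b * q0 : Q) : G), (b * q0).2⟩ : Q) = b * q0 := rfl
          rw [this, hπVa, htadd, htq0]
          exact h
      have h2 : (b ∈ Q1.subgroupOf Q) ↔ t (πV b) = 0 := by
        rw [Subgroup.mem_subgroupOf, hQ1mem]
        constructor
        · rintro ⟨hq, h⟩
          exact h
        · intro h
          exact ⟨b.2, h⟩
      rw [h1, h2]
      exact zmod2_xor _
    have hJ : Nat.card (Q1.subgroupOf Q) = Nat.card Q1 :=
      Nat.card_congr (Subgroup.subgroupOfEquivOfLe hQ1Q).toEquiv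
    have h1 := Subgroup.card_mul_index (Q1.subgroupOf Q)
    rw [hJ, hidx2, hQ, hcard] at h1
    rw [hcard]
    omega

end Cfsg.Agent.Lib.Helper8.GH7B8F
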