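import Mathlib
import Cfsg.Agent.Lib.Helper2.GH7Defs
import Cfsg.Agent.Lib.Helper2.GH7Glue
import Cfsg.Agent.Lib.Helper8.GH7B8Fc

/-! # GH7 (S3105) unit B8-F noncentral (verbatim) -/

set_option autoImplicit false
set_option linter.unusedVariables false
set_option linter.unusedSectionVars false
set_option linter.style.longLine false
set_option maxHeartbeats 1000000

namespace Cfsg.Agent.Lib.Helper8.GH7B8F

open Cfsg.Agent.Lib.Helper3.A8Emb (sqSub sqSub_le)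
open Cfsg.Agent.Lib.Helper2.GH7
open Cfsg.Agent.Lib.Helper8.GH7E88

universe u

variable {G : Type u} [Group G]

theorem Data.piW_one {Q N1 Z0 : Subgroup G} {V : Type u} [AddCommGroup V] {θ' : G →* L}
    {ρ : L →* AddMonoid.End V} {πV : ↥Q → V} {πW : ↥N1 → X} {u0 : V} {s : V → X} {c : V → V → X}
    (D : Data Q N1 Z0 V θ' ρ πV πW u0 s c) : πW 1 = 0 := by
  have h := D.piW_add 1 1
  rw [mul_one] at h
  have h2 := add_self_X (πW 1)
  rw [← h] at h2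
  exact h2

theorem Data.c_zero_left {Q N1 Z0 : Subgroup G} {V : Type u} [AddCommGroup V] {θ' : G →* L}
    {ρ : L →* AddMonoid.End V} {πV : ↥Q → V} {πW : ↥N1 → X} {u0 : V} {s : V → X} {c : V → V → X}
    (D : Data Q N1 Z0 V θ' ρ πV πW u0 s c) (v : V) : c 0 v = 0 := by
  have h := D.c_left 0 0 v
  rw [add_zero] at h
  have h2 := add_self_X (c 0 v)
  rw [← h] at h2
  exact h2

/-- a commutator with trivial image under `πW` is trivial -/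
theorem Data.comm_of_piW {Q N1 Z0 : Subgroup G} {V : Type u} [AddCommGroup V] {θ' : G →* L}
    {ρ : L →* AddMonoid.End V} {πV : ↥Q → V} {πW : ↥N1 → X} {u0 : V} {s : V → X} {c : V → V → X}
    (D : Data Q N1 Z0 V θ' ρ πV πW u0 s c) {a b : G} (h : a * b * a⁻¹ * b⁻¹ ∈ N1)
    (h0 : πW ⟨a * b * a⁻¹ * b⁻¹, h⟩ = 0) : a * b = b * a := by
  rw [← D.piW_one] at h0
  have h1 := D.piW_bij.1 h0
  have h2 : a * b * a⁻¹ * b⁻¹ = 1 := congrArg (fun t : N1 => (t : G)) h1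
  calc a * b = (a * b * a⁻¹ * b⁻¹) * (b * a) := by group
    _ = b * a := by rw [h2, one_mul]

variable [Finite G] {Q : Subgroup G} [Q.Normal] {θ : G →* L}

/-- **B8-F noncentral** -/
theorem caseB8_fixed_noncentral (hF : Frame Q θ) (N1 : Subgroup G) [N1.Normal] (hle : N1 ≤ sqSub Q) (hne : N1 ≠ ⊥)
    (hmin : ∀ K : Subgroup G, K.Normal → K ≤ N1 → K = ⊥ ∨ K = N1) (hcard : Nat.card N1 = 8)
    (hsq : ∀ q ∈ Q, q * q ∈ N1) (hQ : Nat.card Q = 16 * Nat.card N1)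
    (Z0 : Subgroup G) [Z0.Normal] (hNZ : N1 ≤ Z0) (hZQ : Z0 ≤ Q) (hZ0 : Nat.card Z0 = 2 * Nat.card N1)
    (hno : ¬ ∃ Q1 : Subgroup G, Q1.Normal ∧ N1 ≤ Q1 ∧ Q1 ≤ Q ∧ Nat.card Q1 = 8 * Nat.card N1)
    (hZc : ¬ ∀ z ∈ Z0, ∀ q ∈ Q, z * q = q * z) : False := by
  obtain ⟨V, iV, fV, θ', ρ, πV, πW, u0, s, c, D⟩ :=
    exists_data hF N1 hle hne hmin hcard hsq hQ Z0 hNZ hZQ hZ0 hno
  refine b8fn_mod D.v2 D.cardV ρ u0 D.u0_ne D.u0_fix s c D.s_add D.c_left D.c_right D.c_alt D.c_symm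
    D.s_equiv D.c_equiv ?_ D.no_hyp
  push Not at hZc
  obtain ⟨z, hz, q, hq, hzq⟩ := hZc
  have hcomm : z * q * z⁻¹ * q⁻¹ ∈ N1 := comm_mem_of_sq Q N1 hsq z (hZQ hz) q hq
  have h1 := D.c_eq ⟨z, hZQ hz⟩ ⟨q, hq⟩ hcomm
  rcases (D.u0_mem ⟨z, hZQ hz⟩).mp hz with h0 | h0
  · exfalso
    rw [h0, D.c_zero_left] at h1
    exact hzq (D.comm_of_piW hcomm h1.symm)
  · rw [h0] at h1
    refine ⟨πV ⟨q, hq⟩, ?_⟩
    rw [h1]
    intro h
    exact hzq (D.comm_of_piW hcomm h)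

end Cfsg.Agent.Lib.Helper8.GH7B8F
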