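import Mathlib
import Cfsg.Agent.Lib.Helper2.GH7Defs
import Cfsg.Agent.Lib.Helper2.GH7Glue
import Cfsg.Agent.Lib.Helper8.GH7Nat
import Cfsg.Agent.Lib.Helper8.GH7E88a
import Cfsg.Agent.Lib.Helper8.GH7B8Fa

/-! # GH7 (S3105) unit B8-F central, part e: coordinates on `V / ⟨u0⟩` -/

set_option autoImplicit false
set_option linter.unusedVariables false
set_option linter.unusedSectionVars false
set_option linter.style.longLine false
set_option maxHeartbeats 1000000

namespace Cfsg.Agent.Lib.Helper8.GH7B8F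

open Cfsg.Agent.Lib.Helper2.GH7
open Cfsg.Agent.Lib.Helper8.GH7E88

universe u

section

variable {V : Type u} [AddCommGroup V]

/-- the subgroup `{0, u0}` -/
def U0 (hV2 : ∀ v : V, v + v = 0) (u0 : V) : AddSubgroup V where
  carrier := {v | v = 0 ∨ v = u0}
  zero_mem' := Or.inl rfl
  add_mem' := by
    rintro a b (rfl | rfl) (rfl | rfl)
    · left; rw [add_zero]
    · right; rw [zero_add]
    · right; rw [add_zero]
    · left; exact hV2 _
  neg_mem' := by
    rintro a (rfl | rfl)
    · left; exact neg_zero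
    · right; exact neg_eq_of_add_eq_zero_left (hV2 _)

theorem mem_U0 (hV2 : ∀ v : V, v + v = 0) (u0 v : V) : v ∈ U0 hV2 u0 ↔ v = 0 ∨ v = u0 := Iff.rfl

theorem card_U0 (hV2 : ∀ v : V, v + v = 0) (u0 : V) (hu0 : u0 ≠ 0) : Nat.card (U0 hV2 u0) = 2 := by
  rw [Nat.card_eq_two_iff' (0 : U0 hV2 u0)]
  refine ⟨⟨u0, Or.inr rfl⟩, ?_, ?_⟩
  · intro h
    exact hu0 (congrArg (fun t : U0 hV2 u0 => (t : V)) h)
  · rintro ⟨y, hy⟩ hne
    rcases hy with rfl | rfl
    · exact absurd rfl hne
    · rfl

/-- an endomorphism as an additive homomorphism -/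
def toHom {A : Type*} [AddCommGroup A] (f : AddMonoid.End A) : A →+ A := f

theorem toHom_apply {A : Type*} [AddCommGroup A] (f : AddMonoid.End A) (v : A) : toHom f v = f v := rfl

/-- an additive homomorphism as an endomorphism -/
def ofHom {A : Type*} [AddCommGroup A] (f : A →+ A) : AddMonoid.End A := f

theorem ofHom_apply {A : Type*} [AddCommGroup A] (f : A →+ A) (v : A) : ofHom f v = f v := rfl

variable [Finite V]

theorem exists_proj (hV2 : ∀ v : V, v + v = 0) (hcardV : Nat.card V = 16)
    (ρ : L →* AddMonoid.End V) (hρinj : Function.Injective ρ)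
    (u0 : V) (hu0 : u0 ≠ 0) (hfix : ∀ M : L, ρ M u0 = u0) :
    ∃ (β : L ≃* L) (p : V → X), (∀ v v', p (v + v') = p v + p v') ∧ Function.Surjective p ∧
      (∀ v, p v = 0 ↔ (v = 0 ∨ v = u0)) ∧ (∀ (M : L) (v : V), p (ρ M v) = mv (β M) (p v)) := by
  classical
  have hle : ∀ M : L, U0 hV2 u0 ≤ (U0 hV2 u0).comap (toHom (ρ M)) := by
    intro M v hv
    rw [AddSubgroup.mem_comap, toHom_apply]
    rcases hv with rfl | rfl
    · left; exact map_zero (ρ M)
    · right; exact hfix M
  -- the induced action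
  let ρb : L →* AddMonoid.End (V ⧸ U0 hV2 u0) :=
    { toFun := fun M => ofHom (QuotientAddGroup.map _ _ (toHom (ρ M)) (hle M))
      map_one' := by
        apply AddMonoid.End.ext
        intro x
        obtain ⟨v, rfl⟩ := QuotientAddGroup.mk_surjective x
        rw [ofHom_apply, QuotientAddGroup.map_mk, toHom_apply, rho_one]
        rfl
      map_mul' := by
        intro M N
        apply AddMonoid.End.ext
        intro x
        obtain ⟨v, rfl⟩ := QuotientAddGroup.mk_surjective x
        show ofHom (QuotientAddGroup.map _ _ (toHom (ρ (M * N))) (hle (M * N))) (QuotientAddGroup.mk v) =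
          ofHom (QuotientAddGroup.map _ _ (toHom (ρ M)) (hle M))
            (ofHom (QuotientAddGroup.map _ _ (toHom (ρ N)) (hle N)) (QuotientAddGroup.mk v))
        rw [ofHom_apply, ofHom_apply, ofHom_apply, QuotientAddGroup.map_mk, QuotientAddGroup.map_mk,
          QuotientAddGroup.map_mk, toHom_apply, toHom_apply, toHom_apply, rho_mul] }
  have hρb : ∀ (M : L) (v : V), ρb M (QuotientAddGroup.mk v) = QuotientAddGroup.mk (ρ M v) := by
    intro M v
    show ofHom (QuotientAddGroup.map _ _ (toHom (ρ M)) (hle M)) (QuotientAddGroup.mk v) = _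
    rw [ofHom_apply, QuotientAddGroup.map_mk, toHom_apply]
  have hmk0 : ∀ v : V, (QuotientAddGroup.mk v : V ⧸ U0 hV2 u0) = 0 ↔ (v = 0 ∨ v = u0) := by
    intro v
    rw [QuotientAddGroup.eq_zero_iff]
    exact mem_U0 hV2 u0 v
  -- `ρb` is injective
  have hρbinj : Function.Injective ρb := by
    rw [injective_iff_map_eq_one]
    intro M hM
    have hK : ∀ g ∈ ρb.ker, (MonoidHom.id L) g * (MonoidHom.id L) g = 1 := by
      intro g hg
      rw [MonoidHom.mem_ker] at hg
      show g * g = 1
      apply hρinj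
      rw [map_one]
      apply AddMonoidHom.ext
      intro v
      have h1 : ∀ w : V, ρ g w + w = 0 ∨ ρ g w + w = u0 := by
        intro w
        have h2 := hρb g w
        rw [hg] at h2
        have h3 : (QuotientAddGroup.mk (ρ g w + w) : V ⧸ U0 hV2 u0) = 0 := by
          rw [QuotientAddGroup.mk_add, ← h2]
          show (QuotientAddGroup.mk w : V ⧸ U0 hV2 u0) + QuotientAddGroup.mk w = 0
          rw [← QuotientAddGroup.mk_add, hV2]
          rfl
        exact (hmk0 _).mp h3
      show ρ (g * g) v = v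
      rw [rho_mul]
      rcases h1 v with h2 | h2
      · have h3 : ρ g v = v := char2_eq hV2 h2
        rw [h3, h3]
      · have h3 : ρ g v = v + u0 := by
          have : ρ g v = (ρ g v + v) + v := by rw [add_assoc, hV2, add_zero]
          rw [this, h2, add_comm]
        rw [h3, map_add, h3, hfix, add_assoc, hV2, add_zero]
    exact le_ker_of_sq (MonoidHom.id L) (fun x => ⟨x, rfl⟩) ρb.ker hK M (MonoidHom.mem_ker.mpr hM)
  have hb2 : ∀ x : V ⧸ U0 hV2 u0, x + x = 0 := by
    intro x
    obtain ⟨v, rfl⟩ := QuotientAddGroup.mk_surjective x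
    rw [← QuotientAddGroup.mk_add, hV2]
    rfl
  have hbcard : Nat.card (V ⧸ U0 hV2 u0) = 8 := by
    have h := AddSubgroup.card_eq_card_quotient_mul_card_addSubgroup (U0 hV2 u0)
    rw [hcardV, card_U0 hV2 u0 hu0] at h
    omega
  obtain ⟨β, e, he⟩ := Cfsg.Agent.Lib.Helper8.GH7Nat.nat_coords ρb hb2 hbcard hρbinj
  refine ⟨β, fun v => e (QuotientAddGroup.mk v), ?_, ?_, ?_, ?_⟩
  · intro v v'
    show e (QuotientAddGroup.mk (v + v')) = _
    rw [QuotientAddGroup.mk_add, map_add]
  · intro x
    obtain ⟨v, hv⟩ := QuotientAddGroup.mk_surjective (e.symm x)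
    exact ⟨v, by show e (QuotientAddGroup.mk v) = x; rw [hv, AddEquiv.apply_symm_apply]⟩
  · intro v
    show e (QuotientAddGroup.mk v) = 0 ↔ _
    rw [map_eq_zero_iff e e.injective]
    exact hmk0 v
  · intro M v
    show e (QuotientAddGroup.mk (ρ M v)) = _
    rw [← hρb, he]

end

end Cfsg.Agent.Lib.Helper8.GH7B8F
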