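import Mathlib
import Cfsg.Agent.Lib.Helper2.GH7Defs
import Cfsg.Agent.Lib.Helper8.GH7E88a
import Cfsg.Agent.Lib.Helper8.GH7E88b
import Cfsg.Agent.Lib.Helper8.GH7B8Fa
import Cfsg.Agent.Lib.Helper8.GH7B8Fb
import Cfsg.Agent.Lib.Helper8.GH7B8Fe

/-! # GH7 (S3105) unit B8-F central, part f: the module-level analysis -/

set_option autoImplicit false
set_option linter.unusedVariables false
set_option linter.unusedSectionVars false
set_option linter.style.longLine false
set_option maxHeartbeats 2000000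
set_option maxRecDepth 100000
set_option Elab.async false

namespace Cfsg.Agent.Lib.Helper8.GH7B8F

open Cfsg.Agent.Lib.Helper2.GH7
open Cfsg.Agent.Lib.Helper8.GH7E88

universe u

/-- an involution of the point stabiliser of `e1` outside its subgroup of index 2 -/
def T0 : L := ⟨!![1, 0, 0; 0, 0, 1; 0, 1, 0], by decide⟩

theorem T0_sq : T0 * T0 = 1 := by decide

theorem T0_ne : T0 ≠ 1 := by decide

set_option synthInstance.maxSize 1024 in
set_option synthInstance.maxHeartbeats 200000 in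
theorem faithful_X : ∀ M : L, (∀ x : X, mv M x = x) → M = 1 := by
  decide +kernel

set_option synthInstance.maxSize 1024 in
set_option synthInstance.maxHeartbeats 200000 in
theorem stab_e1 : ∀ M : L, mv M e1 = e1 →
    ∃ A : L, (A * A * A = 1 ∧ mv A e1 = e1) ∧ ∃ B : L, (B * B * B = 1 ∧ mv B e1 = e1) ∧
      (M = A * B ∨ M = T0 * A * B) := by
  decide +kernel

section

variable {V : Type u} [AddCommGroup V] [Finite V]

theorem b8fc_mod (hV2 : ∀ v : V, v + v = 0) (hcardV : Nat.card V = 16)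
    (ρ : L →* AddMonoid.End V) (hρinj : Function.Injective ρ)
    (u0 : V) (hu0 : u0 ≠ 0) (hfix : ∀ M : L, ρ M u0 = u0)
    (s : V → X) (c : V → V → X)
    (hsadd : ∀ u v, s (u + v) = s u + s v + c u v)
    (hcl : ∀ u u' v, c (u + u') v = c u v + c u' v)
    (hcr : ∀ u v v', c u (v + v') = c u v + c u v')
    (hcalt : ∀ u, c u u = 0) (hcsym : ∀ u v, c u v = c v u)
    (hseq : ∀ (M : L) (u : V), s (ρ M u) = mv M (s u))
    (hceq : ∀ (M : L) (u v : V), c (ρ M u) (ρ M v) = mv M (c u v))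
    (hcu0 : ∀ v, c u0 v = 0)
    (hsne : ∃ v, s v ≠ 0)
    (hno : ¬ ∃ t : V → ZMod 2, (∀ v v', t (v + v') = t v + t v') ∧ (∃ v, t v ≠ 0) ∧
      ∀ (M : L) (v : V), t (ρ M v) = t v) :
    (∀ u v, c u v = 0) ∧ (∀ v, s v = 0 → v = 0 ∨ v = u0) ∧
    (∃ (T : L) (v0 : V), T * T = 1 ∧ ρ T v0 = v0 + u0) ∧
    (∀ M : L, (∀ v, ρ M v = v ∨ ρ M v = v + u0) → M = 1) := by
  classical
  obtain ⟨β, p, hpadd, hpsurj, hpker, hpeq⟩ := exists_proj hV2 hcardV ρ hρinj u0 hu0 hfix
  obtain ⟨ρ2, hρ2⟩ : ∃ ρ2 : L →* AddMonoid.End V, ∀ M, ρ2 M = ρ (β.symm M) :=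
    ⟨ρ.comp β.symm.toMonoidHom, fun M => rfl⟩
  have hρ2' : ∀ M, ρ M = ρ2 (β M) := by
    intro M
    rw [hρ2, MulEquiv.symm_apply_apply]
  have hp2eq : ∀ (M : L) (v : V), p (ρ2 M v) = mv M (p v) := by
    intro M v
    rw [hρ2, hpeq, MulEquiv.apply_symm_apply]
  have hfix2 : ∀ M : L, ρ2 M u0 = u0 := fun M => by rw [hρ2]; exact hfix _
  have hs2 : ∀ (M : L) (v : V), s (ρ2 M v) = mv (β.symm M) (s v) := fun M v => by rw [hρ2]; exact hseq _ _
  have hc2 : ∀ (M : L) (u v : V), c (ρ2 M u) (ρ2 M v) = mv (β.symm M) (c u v) := fun M u v => by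
    rw [hρ2]; exact hceq _ _ _
  have hpu0 : p u0 = 0 := (hpker u0).mpr (Or.inr rfl)
  have hp0 : p 0 = 0 := (hpker 0).mpr (Or.inl rfl)
  have hsu0 : s u0 = 0 := by
    apply fixed_zero
    intro M
    rw [← hseq, hfix]
  have hsplus : ∀ v, s (v + u0) = s v := by
    intro v
    rw [hsadd, hsu0, add_zero, hcsym, hcu0, add_zero]
  have hcplusl : ∀ u v, c (u + u0) v = c u v := by
    intro u v
    rw [hcl, hcu0, add_zero]
  have hcplusr : ∀ u v, c u (v + u0) = c u v := by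
    intro u v
    rw [hcr, hcsym u u0, hcu0, add_zero]
  have samefib : ∀ v v' : V, p v = p v' → v' = v ∨ v' = v + u0 := by
    intro v v' h
    have h1 : p (v + v') = 0 := by rw [hpadd, h, add_self_X]
    rcases (hpker _).mp h1 with h2 | h2
    · left; exact (char2_eq hV2 h2).symm
    · right
      have : v' = v + (v + v') := by rw [← add_assoc, hV2, zero_add]
      rw [this, h2]
  obtain ⟨σ, hσ⟩ : ∃ σ : X → V, ∀ x, p (σ x) = x := ⟨Function.surjInv hpsurj, Function.surjInv_eq hpsurj⟩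
  have hsfac : ∀ v, s v = s (σ (p v)) := by
    intro v
    rcases samefib v (σ (p v)) (hσ _).symm with h | h
    · rw [h]
    · rw [h, hsplus]
  have hcfac : ∀ u v, c u v = c (σ (p u)) (σ (p v)) := by
    intro u v
    rcases samefib u (σ (p u)) (hσ _).symm with h | h <;> rcases samefib v (σ (p v)) (hσ _).symm with h' | h'
    · rw [h, h']
    · rw [h, h', hcplusr]
    · rw [h, h', hcplusl]
    · rw [h, h', hcplusl, hcplusr]
  have hcore := core β.symm (fun x => s (σ x)) (fun x y => c (σ x) (σ y))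
    (by
      intro x y
      show s (σ (x + y)) = s (σ x) + s (σ y) + c (σ x) (σ y)
      rw [← hsadd, hsfac (σ x + σ y), hpadd, hσ, hσ])
    (by
      intro x x' y
      show c (σ (x + x')) (σ y) = c (σ x) (σ y) + c (σ x') (σ y)
      rw [← hcl, hcfac (σ x + σ x') (σ y), hpadd, hσ, hσ, hσ])
    (by
      intro x y y'
      show c (σ x) (σ (y + y')) = c (σ x) (σ y) + c (σ x) (σ y')
      rw [← hcr, hcfac (σ x) (σ y + σ y'), hpadd, hσ, hσ, hσ])
    (by intro x; exact hcalt _)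
    (by intro x y; exact hcsym _ _)
    (by
      intro M x
      show s (σ (mv M x)) = mv (β.symm M) (s (σ x))
      rw [← hs2, hsfac (ρ2 M (σ x)), hp2eq, hσ])
    (by
      intro M x y
      show c (σ (mv M x)) (σ (mv M y)) = mv (β.symm M) (c (σ x) (σ y))
      rw [← hc2, hcfac (ρ2 M (σ x)) (ρ2 M (σ y)), hp2eq, hp2eq, hσ, hσ])
  obtain ⟨hcz', hsz'⟩ := hcore
  have hcz : ∀ u v, c u v = 0 := by
    intro u v
    rw [hcfac]
    exact hcz' (p u) (p v)
  have hs0 : s 0 = 0 := by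
    have h := hsadd 0 0
    rw [add_zero, hcz, add_zero] at h
    have h2 := add_self_X (s 0)
    rw [← h] at h2
    exact h2
  have hsinj : Function.Injective (fun x => s (σ x)) := by
    rcases hsz' with h | h
    · exfalso
      obtain ⟨v, hv⟩ := hsne
      apply hv
      rw [hsfac]
      exact h (p v)
    · exact h
  have hsker : ∀ v, s v = 0 → v = 0 ∨ v = u0 := by
    intro v hv
    apply (hpker v).mp
    have h1 : s (σ (p v)) = s (σ (p 0)) := by rw [← hsfac, ← hsfac, hv, hs0]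
    have h2 := hsinj h1
    rw [h2, hp0]
  -- the swap
  have hswap : ∃ (M0 : L) (v0 : V), p (ρ2 M0 v0) = p v0 ∧ ρ2 M0 v0 ≠ v0 := by
    by_contra hns
    push Not at hns
    obtain ⟨t, htadd, htu0, htinv⟩ := exists_functional hV2 ρ2 u0 hu0 hfix2 p hpadd hpsurj
      (fun v hv => (hpker v).mp hv) hpu0 hp2eq hns
    apply hno
    refine ⟨t, htadd, ⟨u0, htu0⟩, ?_⟩
    intro M v
    rw [hρ2']
    exact htinv _ _
  obtain ⟨M0, v0, hM0p, hM0v⟩ := hswap
  have hρ2add : ∀ (M : L) (v v' : V), ρ2 M (v + v') = ρ2 M v + ρ2 M v' := fun M v v' => map_add (ρ2 M) v v'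
  have hM0v' : ρ2 M0 v0 = v0 + u0 := by
    rcases samefib v0 (ρ2 M0 v0) hM0p.symm with h | h
    · exact absurd h hM0v
    · exact h
  have hx0 : p v0 ≠ 0 := by
    intro h
    rcases (hpker v0).mp h with rfl | rfl
    · exact hM0v (map_zero (ρ2 M0))
    · exact hM0v (hfix2 M0)
  have hM0x : mv M0 (p v0) = p v0 := by rw [← hp2eq]; exact hM0p
  obtain ⟨N, hN⟩ := trans1 _ hx0 e1 e1_ne
  -- transported to `e1`
  have hv1p : p (ρ2 N v0) = e1 := by rw [hp2eq, hN]
  have hM1 : mv (N * M0 * N⁻¹) e1 = e1 := by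
    rw [mv_mul, mv_mul, ← hN, mv_inv_mv, hM0x]
  have hM1v : ρ2 (N * M0 * N⁻¹) (ρ2 N v0) = ρ2 N v0 + u0 := by
    rw [rho_mul, rho_mul, rho_inv_rho, hM0v', hρ2add, hfix2]
  -- elements of order 3 fixing `e1` fix `v1`
  have h3fix : ∀ A : L, A * A * A = 1 → mv A e1 = e1 → ρ2 A (ρ2 N v0) = ρ2 N v0 := by
    intro A hA3 hAe
    have hpA : p (ρ2 A (ρ2 N v0)) = p (ρ2 N v0) := by rw [hp2eq, hv1p, hAe]
    rcases samefib _ _ hpA.symm with h | h
    · exact h
    · exfalso
      have h2 : ρ2 A (ρ2 A (ρ2 N v0)) = ρ2 N v0 := by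
        rw [h, hρ2add, h, hfix2, add_assoc, hV2, add_zero]
      have h3 : ρ2 (A * A * A) (ρ2 N v0) = ρ2 N v0 + u0 := by
        rw [rho_mul, rho_mul, h2, h]
      rw [hA3, rho_one] at h3
      apply hu0
      have : ρ2 N v0 + 0 = ρ2 N v0 + u0 := by rw [add_zero]; exact h3
      exact (add_left_cancel this).symm
  obtain ⟨A, ⟨hA3, hAe⟩, B, ⟨hB3, hBe⟩, hAB⟩ := stab_e1 _ hM1
  have hTswap : ρ2 T0 (ρ2 N v0) = ρ2 N v0 + u0 := by
    rcases hAB with h | h
    · exfalso
      rw [h, rho_mul, h3fix B hB3 hBe, h3fix A hA3 hAe] at hM1v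
      apply hu0
      have : ρ2 N v0 + 0 = ρ2 N v0 + u0 := by rw [add_zero]; exact hM1v
      exact (add_left_cancel this).symm
    · rw [h, rho_mul, rho_mul, h3fix B hB3 hBe, h3fix A hA3 hAe] at hM1v
      exact hM1v
  refine ⟨hcz, hsker, ⟨β.symm T0, ρ2 N v0, ?_, ?_⟩, ?_⟩
  · rw [← map_mul, T0_sq, map_one]
  · rw [← hρ2]; exact hTswap
  · intro M hM
    have h1 : ∀ x : X, mv (β M) x = x := by
      intro x
      obtain ⟨v, rfl⟩ := hpsurj x
      rw [← hpeq]
      rcases hM v with h | h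
      · rw [h]
      · rw [h, hpadd, hpu0, add_zero]
    have h2 := faithful_X _ h1
    exact (MulEquiv.map_eq_one_iff β).mp h2

end

end Cfsg.Agent.Lib.Helper8.GH7B8F
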