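import Mathlib
import Cfsg.Agent.Lib.Helper2.GH7Defs
import Cfsg.Agent.Lib.Helper1.Dv5

/-! # GH7 (S3105) unit B8-F central, part g: an action of `L` on 8 points in which an involution has a
fixed point has a global fixed point. -/

set_option autoImplicit false
set_option linter.unusedVariables false
set_option linter.unusedSectionVars false
set_option linter.style.longLine false
set_option maxHeartbeats 1000000

namespace Cfsg.Agent.Lib.Helper8.GH7B8F

open Cfsg.Agent.Lib.Helper2.GH7

theorem exists_fixed_point {Z : Type*} [MulAction L Z] (A : Set Z) (hAfin : A.Finite) (hA8 : A.ncard = 8)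
    (hAinv : ∀ (M : L) (a : Z), a ∈ A → M • a ∈ A)
    (T : L) (hT2 : T * T = 1) (hT1 : T ≠ 1) (z : Z) (hz : z ∈ A) (hTz : T • z = z) :
    ∃ a ∈ A, ∀ M : L, M • a = a := by
  classical
  have hsimple : IsSimpleGroup L := Cfsg.Agent.Lib.Helper1.Dv.simple_SL32
  have hcardL : Nat.card L = 168 := Cfsg.Agent.Lib.Helper1.Dv.card_SL32
  have : Fact (Nat.Prime 2) := ⟨Nat.prime_two⟩
  have hTS : T ∈ MulAction.stabilizer L z := MulAction.mem_stabilizer_iff.mpr hTz
  have hidx : (MulAction.stabilizer L z).index = (MulAction.orbit L z).ncard := MulAction.index_stabilizer L z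
  have horbA : MulAction.orbit L z ⊆ A := by
    rintro _ ⟨M, rfl⟩
    exact hAinv M z hz
  have hk8 : (MulAction.stabilizer L z).index ≤ 8 := by
    rw [hidx, ← hA8]
    exact Set.ncard_le_ncard horbA hAfin
  have hcard : Nat.card (MulAction.stabilizer L z) * (MulAction.stabilizer L z).index = 168 := by
    rw [Subgroup.card_mul_index, hcardL]
  have h2 : 2 ∣ Nat.card (MulAction.stabilizer L z) := by
    have ho : orderOf T = 2 := orderOf_eq_prime (by rw [pow_two]; exact hT2) hT1
    have h3 := Subgroup.orderOf_dvd_natCard _ hTS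
    rwa [ho] at h3
  rcases (MulAction.toPermHom L (L ⧸ MulAction.stabilizer L z)).normal_ker.eq_bot_or_eq_top with hb | ht
  · -- injective
    have hinj : Function.Injective (MulAction.toPermHom L (L ⧸ MulAction.stabilizer L z)) :=
      (MonoidHom.ker_eq_bot_iff _).mp hb
    have hdvd : Nat.card L ∣ Nat.card (Equiv.Perm (L ⧸ MulAction.stabilizer L z)) :=
      Subgroup.card_dvd_of_injective _ hinj
    rw [Nat.card_perm, hcardL] at hdvd
    have h7 : 7 ∣ (Nat.card (L ⧸ MulAction.stabilizer L z)).factorial := Dvd.dvd.trans (by norm_num) hdvd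
    have h7le : 7 ≤ (MulAction.stabilizer L z).index :=
      (Nat.Prime.dvd_factorial (by norm_num : Nat.Prime 7)).mp h7
    have hidx7 : (MulAction.stabilizer L z).index = 7 := by
      obtain ⟨m, hm⟩ := h2
      rw [hm] at hcard
      have h8 : (MulAction.stabilizer L z).index = 7 ∨ (MulAction.stabilizer L z).index = 8 := by omega
      rcases h8 with h | h
      · exact h
      · rw [h] at hcard; omega
    have horb7 : (MulAction.orbit L z).ncard = 7 := by rw [← hidx, hidx7]
    have hdiff : (A \ MulAction.orbit L z).ncard = 1 := by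
      rw [Set.ncard_sdiff horbA (hAfin.subset horbA), hA8, horb7]
    obtain ⟨a', ha'⟩ := Set.ncard_eq_one.mp hdiff
    have ha'mem : a' ∈ A \ MulAction.orbit L z := by rw [ha']; exact Set.mem_singleton a'
    refine ⟨a', ha'mem.1, fun M => ?_⟩
    have h1 : M • a' ∈ A \ MulAction.orbit L z := by
      refine ⟨hAinv M a' ha'mem.1, ?_⟩
      rintro ⟨N, hN⟩
      have hN' : N • z = M • a' := hN
      apply ha'mem.2
      refine ⟨M⁻¹ * N, ?_⟩
      show (M⁻¹ * N) • z = a'
      rw [mul_smul, hN', inv_smul_smul]
    rw [ha'] at h1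
    exact h1
  · -- trivial action on the cosets: `z` is fixed
    refine ⟨z, hz, fun M => ?_⟩
    have hM : M ∈ (MulAction.toPermHom L (L ⧸ MulAction.stabilizer L z)).ker := by rw [ht]; exact Subgroup.mem_top M
    rw [MonoidHom.mem_ker] at hM
    have h1 : M • (QuotientGroup.mk 1 : L ⧸ MulAction.stabilizer L z) = QuotientGroup.mk 1 := by
      have := congrArg (fun f : Equiv.Perm (L ⧸ MulAction.stabilizer L z) => f (QuotientGroup.mk 1)) hM
      simpa using this
    have h2 : (QuotientGroup.mk (M * 1) : L ⧸ MulAction.stabilizer L z) = QuotientGroup.mk 1 := h1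
    rw [QuotientGroup.eq] at h2
    have h3 : M⁻¹ ∈ MulAction.stabilizer L z := by simpa using h2
    have h4 : M ∈ MulAction.stabilizer L z := by simpa using inv_mem h3
    exact MulAction.mem_stabilizer_iff.mp h4

end Cfsg.Agent.Lib.Helper8.GH7B8F
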