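import Mathlib
import Cfsg.Agent.Lib.Helper2.GH7Defs
import Cfsg.Agent.Lib.Helper2.GH7Glue
import Cfsg.Agent.Lib.Helper8.GH7B8Fc
import Cfsg.Agent.Lib.Helper8.GH7B8Fd
import Cfsg.Agent.Lib.Helper8.GH7B8Ff
import Cfsg.Agent.Lib.Helper8.GH7B8Fg

/-! # GH7 (S3105) unit B8-F central: group level (with `no_homocyclic` as a hypothesis) -/

set_option autoImplicit false
set_option linter.unusedVariables false
set_option linter.unusedSectionVars false
set_option linter.style.longLine false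
set_option maxHeartbeats 4000000

namespace Cfsg.Agent.Lib.Helper8.GH7B8F

open Cfsg.Agent.Lib.Helper3.A8Emb (sqSub sqSub_le)
open Cfsg.Agent.Lib.Helper2.GH7
open Cfsg.Agent.Lib.Helper2.GH5 (mem_map_mk_iff)
open Cfsg.Agent.Lib.Helper6.GH5 (sectional_quotient6)
open Cfsg.Agent.Lib.Helper8.GH7E88

universe u

variable {G : Type u} [Group G]

section data

variable {Q N1 Z0 : Subgroup G} {V : Type u} [AddCommGroup V] {θ' : G →* L}
    {ρ : L →* AddMonoid.End V} {πV : ↥Q → V} {πW : ↥N1 → X} {u0 : V} {s : V → X} {c : V → V → X}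

theorem Data.piV_one (D : Data Q N1 Z0 V θ' ρ πV πW u0 s c) : πV 1 = 0 := (D.piV_zero 1).mpr N1.one_mem

theorem Data.piV_inv (D : Data Q N1 Z0 V θ' ρ πV πW u0 s c) (b : Q) : πV b⁻¹ = πV b := by
  have h := D.piV_add b b⁻¹
  rw [mul_inv_cancel, D.piV_one] at h
  exact (char2_eq D.v2 h.symm).symm

theorem Data.piV_eq_iff (D : Data Q N1 Z0 V θ' ρ πV πW u0 s c) (a b : Q) :
    (a : G) * (b : G)⁻¹ ∈ N1 ↔ πV a = πV b := by
  have h1 : πV (a * b⁻¹) = πV a + πV b := by rw [D.piV_add, D.piV_inv]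
  have h2 : ((a * b⁻¹ : Q) : G) = (a : G) * (b : G)⁻¹ := rfl
  rw [← h2, ← D.piV_zero, h1]
  constructor
  · intro h; exact char2_eq D.v2 h
  · intro h; rw [h, D.v2]

end data

variable [Finite G] {Q : Subgroup G} [Q.Normal] {θ : G →* L}

/-- **B8-F central**, with H1 (`no_homocyclic`) as a hypothesis -/
theorem caseB8_fixed_central_of
    (hH1 : ∀ (G' : Type u) [Group G'] [Finite G'] (θ : G' →* L) (hsurj : Function.Surjective θ)
      (A W : Subgroup G') [A.Normal] [W.Normal]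
      (hker : θ.ker = A) (hWA : W ≤ A) (hcomm : ∀ a ∈ A, ∀ b ∈ A, a * b = b * a)
      (hcardA : Nat.card A = 64) (hcardW : Nat.card W = 8)
      (hsq : ∀ a ∈ A, a * a ∈ W) (hΩ : ∀ a ∈ A, a * a = 1 → a ∈ W) (hexpW : ∀ w ∈ W, w * w = 1)
      (hfaith : ∀ g : G', (∀ a ∈ A, g * a * g⁻¹ * a⁻¹ ∈ W) → g ∈ A), ¬ Cfsg.SectionalPRankLE 2 4 G')
    (hF : Frame Q θ) (N1 : Subgroup G) [N1.Normal] (hle : N1 ≤ sqSub Q) (hne : N1 ≠ ⊥)
    (hmin : ∀ K : Subgroup G, K.Normal → K ≤ N1 → K = ⊥ ∨ K = N1) (hcard : Nat.card N1 = 8)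
    (hsq : ∀ q ∈ Q, q * q ∈ N1) (hQ : Nat.card Q = 16 * Nat.card N1)
    (Z0 : Subgroup G) [Z0.Normal] (hNZ : N1 ≤ Z0) (hZQ : Z0 ≤ Q) (hZ0 : Nat.card Z0 = 2 * Nat.card N1)
    (hno : ¬ ∃ Q1 : Subgroup G, Q1.Normal ∧ N1 ≤ Q1 ∧ Q1 ≤ Q ∧ Nat.card Q1 = 8 * Nat.card N1)
    (hZc : ∀ z ∈ Z0, ∀ q ∈ Q, z * q = q * z) : False := by
  classical
  have hQn : Q.Normal := inferInstance
  have hN1n : N1.Normal := inferInstance
  have hZ0n : Z0.Normal := inferInstance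
  have hN1Q : N1 ≤ Q := hle.trans (sqSub_le Q)
  obtain ⟨V, iV, fV, θ', ρ, πV, πW, u0, s, c, D⟩ :=
    exists_data hF N1 hle hne hmin hcard hsq hQ Z0 hNZ hZQ hZ0 hno
  -- (a) `ρ` is injective
  have hρinj : Function.Injective ρ := by
    rw [injective_iff_map_eq_one]
    intro M hM
    obtain ⟨g, rfl⟩ := D.surj M
    rw [D.ker]
    apply hF.faithful
    intro q hq
    apply hle
    have h1 := D.actV g ⟨q, hq⟩ (hQn.conj_mem q hq g)
    rw [hM] at h1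
    exact (D.piV_eq_iff ⟨g * q * g⁻¹, hQn.conj_mem q hq g⟩ ⟨q, hq⟩).mpr h1.symm
  -- (b) `c u0 = 0`
  obtain ⟨q1, hq1⟩ := D.piV_surj u0
  have hq1Z : (q1 : G) ∈ Z0 := (D.u0_mem q1).mpr (Or.inr hq1)
  have hcu0 : ∀ v, c u0 v = 0 := by
    intro v
    obtain ⟨q, rfl⟩ := D.piV_surj v
    have hcomm : (q1 : G) * q * (q1 : G)⁻¹ * (q : G)⁻¹ ∈ N1 := comm_mem_of_sq Q N1 hsq q1 q1.2 q q.2
    rw [← hq1, D.c_eq q1 q hcomm]
    have h1 : (⟨(q1 : G) * q * (q1 : G)⁻¹ * (q : G)⁻¹, hcomm⟩ : N1) = 1 := by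
      apply Subtype.ext
      show (q1 : G) * q * (q1 : G)⁻¹ * (q : G)⁻¹ = 1
      rw [hZc q1 hq1Z q q.2]
      group
    rw [h1, D.piW_one]
  -- (c) `s ≠ 0`
  have hsne : ∃ v, s v ≠ 0 := by
    by_contra hall
    push Not at hall
    apply hne
    rw [eq_bot_iff]
    refine hle.trans ?_
    unfold sqSub
    rw [Subgroup.closure_le]
    rintro y ⟨b, hb, rfl⟩
    have h1 := D.s_eq ⟨b, hb⟩ (hsq b hb)
    rw [hall, ← D.piW_one] at h1
    have h2 := D.piW_bij.1 h1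
    have h3 : (1 : G) = b * b := congrArg (fun t : N1 => (t : G)) h2
    show b ^ 2 ∈ ((⊥ : Subgroup G) : Set G)
    rw [pow_two, ← h3]
    exact Subgroup.one_mem _
  obtain ⟨hcz, hsker, ⟨T, v0, hT2, hTv0⟩, hfaithbar⟩ :=
    b8fc_mod D.v2 D.cardV ρ hρinj u0 D.u0_ne D.u0_fix s c D.s_add D.c_left D.c_right D.c_alt D.c_symm
      D.s_equiv D.c_equiv hcu0 hsne D.no_hyp
  -- (e) `Q` is abelian
  have hQab : ∀ a ∈ Q, ∀ b ∈ Q, a * b = b * a := by
    intro a ha b hb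
    have hcomm : a * b * a⁻¹ * b⁻¹ ∈ N1 := comm_mem_of_sq Q N1 hsq a ha b hb
    have h1 := D.c_eq ⟨a, ha⟩ ⟨b, hb⟩ hcomm
    rw [hcz] at h1
    exact D.comm_of_piW hcomm h1.symm
  -- (f) `Ω₁(Q) = Z0`
  have hs0 : s 0 = 0 := by
    have h := D.s_add 0 0
    rw [add_zero, hcz, add_zero] at h
    have h2 := add_self_X (s 0)
    rw [← h] at h2
    exact h2
  have hsu0 : s u0 = 0 := by
    apply fixed_zero
    intro M
    rw [← D.s_equiv, D.u0_fix]
  have hΩ : ∀ q ∈ Q, q * q = 1 → q ∈ Z0 := by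
    intro q hq hqq
    have h1 := D.s_eq ⟨q, hq⟩ (hsq q hq)
    have h2 : (⟨(⟨q, hq⟩ : Q) * (⟨q, hq⟩ : Q), hsq q hq⟩ : N1) = 1 := Subtype.ext hqq
    rw [h2, D.piW_one] at h1
    exact (D.u0_mem ⟨q, hq⟩).mpr (hsker _ h1)
  have hZ0exp : ∀ z ∈ Z0, z * z = 1 := by
    intro z hz
    have h1 := D.s_eq ⟨z, hZQ hz⟩ (hsq z (hZQ hz))
    have h2 : s (πV ⟨z, hZQ hz⟩) = 0 := by
      rcases (D.u0_mem ⟨z, hZQ hz⟩).mp hz with h | h
      · rw [h, hs0]
      · rw [h, hsu0]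
    rw [h2, ← D.piW_one] at h1
    have h3 := D.piW_bij.1 h1
    exact (congrArg (fun t : N1 => (t : G)) h3).symm
  -- (g) the action of `L` on `Z0`
  have hs : ∀ M : L, θ' (Function.surjInv D.surj M) = M := Function.surjInv_eq D.surj
  have hconjZ : ∀ (g h : G), θ' g = θ' h → ∀ z ∈ Z0, g * z * g⁻¹ = h * z * h⁻¹ := by
    intro g h hgh z hz
    have h1 : h⁻¹ * g ∈ Q := by
      rw [← D.ker, map_mul, map_inv, hgh, inv_mul_cancel]
    have h2 := hZc z hz _ h1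
    calc g * z * g⁻¹ = h * ((h⁻¹ * g) * z) * g⁻¹ := by group
      _ = h * (z * (h⁻¹ * g)) * g⁻¹ := by rw [h2]
      _ = h * z * h⁻¹ := by group
  let actZ : MulAction L ↥Z0 :=
    { smul := fun M z => ⟨Function.surjInv D.surj M * z * (Function.surjInv D.surj M)⁻¹, hZ0n.conj_mem z z.2 _⟩
      one_smul := by
        intro z
        apply Subtype.ext
        show Function.surjInv D.surj 1 * (z : G) * (Function.surjInv D.surj 1)⁻¹ = z
        rw [hconjZ _ 1 (by rw [hs, map_one]) z z.2]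
        group
      mul_smul := by
        intro M N z
        apply Subtype.ext
        show Function.surjInv D.surj (M * N) * (z : G) * (Function.surjInv D.surj (M * N))⁻¹ =
          Function.surjInv D.surj M * (Function.surjInv D.surj N * (z : G) * (Function.surjInv D.surj N)⁻¹) *
            (Function.surjInv D.surj M)⁻¹
        rw [hconjZ _ (Function.surjInv D.surj M * Function.surjInv D.surj N)
          (by rw [hs, map_mul, hs, hs]) z z.2]
        group }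
  have hsmul : ∀ (g : G) (z : ↥Z0), ((θ' g • z : ↥Z0) : G) = g * z * g⁻¹ := by
    intro g z
    show Function.surjInv D.surj (θ' g) * (z : G) * (Function.surjInv D.surj (θ' g))⁻¹ = g * z * g⁻¹
    exact hconjZ _ g (hs _) z z.2
  -- the 8 points
  have hJ : Nat.card (N1.subgroupOf Z0) = 8 := by
    rw [Nat.card_congr (Subgroup.subgroupOfEquivOfLe hNZ).toEquiv, hcard]
  have hZ16 : Nat.card ↥Z0 = 16 := by rw [hZ0, hcard]
  have hA8 : (((N1.subgroupOf Z0 : Subgroup ↥Z0) : Set ↥Z0)ᶜ).ncard = 8 := by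
    rw [Set.ncard_compl, hZ16, ← Nat.card_coe_set_eq]
    have : Nat.card ↥((N1.subgroupOf Z0 : Subgroup ↥Z0) : Set ↥Z0) = 8 := hJ
    rw [this]
  -- the fixed point of the involution
  obtain ⟨g0, hg0⟩ := D.surj T
  obtain ⟨q0, hq0⟩ := D.piV_surj v0
  have hg0q0 : g0 * q0 * g0⁻¹ ∈ Q := hQn.conj_mem q0 q0.2 g0
  have hact0 : πV ⟨g0 * q0 * g0⁻¹, hg0q0⟩ = v0 + u0 := by
    rw [← D.actV g0 q0 hg0q0, hg0, hq0, hTv0]
  have hzT : πV (q0 * ⟨g0 * q0 * g0⁻¹, hg0q0⟩) = u0 := by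
    rw [D.piV_add, hact0, hq0, ← add_assoc, D.v2, zero_add]
  have hzTZ : ((q0 * ⟨g0 * q0 * g0⁻¹, hg0q0⟩ : Q) : G) ∈ Z0 := (D.u0_mem _).mpr (Or.inr hzT)
  have hzTN : ((q0 * ⟨g0 * q0 * g0⁻¹, hg0q0⟩ : Q) : G) ∉ N1 := by
    intro h
    have := (D.piV_zero _).mpr h
    rw [hzT] at this
    exact D.u0_ne this
  have hg0sq : g0 * g0 ∈ Q := by
    rw [← D.ker, map_mul, hg0, hT2]
  have hTne : T ≠ 1 := by
    intro h
    rw [h, rho_one] at hTv0
    apply D.u0_ne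
    have : v0 + 0 = v0 + u0 := by rw [add_zero]; exact hTv0
    exact (add_left_cancel this).symm
  have hTfix : T • (⟨((q0 * ⟨g0 * q0 * g0⁻¹, hg0q0⟩ : Q) : G), hzTZ⟩ : ↥Z0) =
      ⟨((q0 * ⟨g0 * q0 * g0⁻¹, hg0q0⟩ : Q) : G), hzTZ⟩ := by
    apply Subtype.ext
    rw [← hg0, hsmul]
    show g0 * ((q0 : G) * (g0 * q0 * g0⁻¹)) * g0⁻¹ = (q0 : G) * (g0 * q0 * g0⁻¹)
    have h1 : (g0 * g0) * (q0 : G) = (q0 : G) * (g0 * g0) := hQab _ hg0sq _ q0.2
    have h2 : (g0 * q0 * g0⁻¹) * (q0 : G) = (q0 : G) * (g0 * q0 * g0⁻¹) := hQab _ hg0q0 _ q0.2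
    calc g0 * ((q0 : G) * (g0 * q0 * g0⁻¹)) * g0⁻¹
        = (g0 * q0 * g0⁻¹) * ((g0 * g0) * (q0 : G)) * (g0 * g0)⁻¹ := by group
      _ = (g0 * q0 * g0⁻¹) * ((q0 : G) * (g0 * g0)) * (g0 * g0)⁻¹ := by rw [h1]
      _ = (g0 * q0 * g0⁻¹) * (q0 : G) := by group
      _ = (q0 : G) * (g0 * q0 * g0⁻¹) := h2
  obtain ⟨a, haA, hafix⟩ := exists_fixed_point (((N1.subgroupOf Z0 : Subgroup ↥Z0) : Set ↥Z0)ᶜ)
    (Set.toFinite _) hA8
    (by
      intro M a ha
      obtain ⟨g, rfl⟩ := D.surj M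
      intro hmem
      apply ha
      have h1 : ((θ' g • a : ↥Z0) : G) ∈ N1 := Subgroup.mem_subgroupOf.mp hmem
      rw [hsmul] at h1
      have h2 := hN1n.conj_mem _ h1 g⁻¹
      have h3 : g⁻¹ * (g * (a : G) * g⁻¹) * g⁻¹⁻¹ = a := by group
      rw [h3] at h2
      exact Subgroup.mem_subgroupOf.mpr h2)
    T hT2 hTne _ (by
      intro hmem
      exact hzTN (Subgroup.mem_subgroupOf.mp hmem)) hTfix
  -- `z1` central involution outside `N1`
  have hz1N : (a : G) ∉ N1 := fun h => haA (Subgroup.mem_subgroupOf.mpr h)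
  have hz1c : ∀ g : G, g * (a : G) * g⁻¹ = a := by
    intro g
    rw [← hsmul, hafix]
  have hz1sq : (a : G) * a = 1 := hZ0exp a a.2
  have hz1ne : (a : G) ≠ 1 := fun h => hz1N (h ▸ N1.one_mem)
  -- (h) the quotient
  have hNzmem : ∀ x : G, x ∈ Subgroup.zpowers (a : G) ↔ (x = 1 ∨ x = a) := by
    intro x
    constructor
    · intro hx
      obtain ⟨k, hk⟩ := Subgroup.mem_zpowers_iff.mp hx
      have h2 : (a : G) ^ (2 : ℤ) = 1 := by rw [zpow_ofNat, pow_two, hz1sq]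
      rcases Int.emod_two_eq_zero_or_one k with h | h
      · left
        have hk2 : k = 2 * (k / 2) := by omega
        rw [← hk, hk2, zpow_mul, h2, one_zpow]
      · right
        have hk2 : k = 2 * (k / 2) + 1 := by omega
        rw [← hk, hk2, zpow_add, zpow_mul, h2, one_zpow, one_mul, zpow_one]
    · rintro (h | h)
      · rw [h]; exact one_mem _
      · rw [h]; exact Subgroup.mem_zpowers _
  have hNzn : (Subgroup.zpowers (a : G)).Normal := by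
    constructor
    intro n hn g
    rcases (hNzmem n).mp hn with h | h
    · rw [h]; simp
    · rw [h, hz1c]; exact Subgroup.mem_zpowers _
  have hNzZ : Subgroup.zpowers (a : G) ≤ Z0 := by
    rw [Subgroup.zpowers_le]; exact a.2
  have hNzQ : Subgroup.zpowers (a : G) ≤ Q := hNzZ.trans hZQ
  have hNzcard : Nat.card (Subgroup.zpowers (a : G)) = 2 := by
    have : Fact (Nat.Prime 2) := ⟨Nat.prime_two⟩
    rw [Nat.card_zpowers]
    exact orderOf_eq_prime (by rw [pow_two]; exact hz1sq) hz1ne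
  have hθk : Subgroup.zpowers (a : G) ≤ θ.ker := by rw [hF.ker]; exact hNzQ
  have hAn : (Q.map (QuotientGroup.mk' (Subgroup.zpowers (a : G)))).Normal :=
    hQn.map _ (QuotientGroup.mk'_surjective _)
  have hWn : (Z0.map (QuotientGroup.mk' (Subgroup.zpowers (a : G)))).Normal :=
    hZ0n.map _ (QuotientGroup.mk'_surjective _)
  have hrank : Cfsg.SectionalPRankLE 2 4 (G ⧸ Subgroup.zpowers (a : G)) :=
    sectional_quotient6 hF.rank (Subgroup.zpowers (a : G))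
  refine hH1 (G ⧸ Subgroup.zpowers (a : G)) (QuotientGroup.lift (Subgroup.zpowers (a : G)) θ hθk) ?_
    (Q.map (QuotientGroup.mk' (Subgroup.zpowers (a : G)))) (Z0.map (QuotientGroup.mk' (Subgroup.zpowers (a : G))))
    ?_ (Subgroup.map_mono hZQ) ?_ ?_ ?_ ?_ ?_ ?_ ?_ hrank
  · -- surjective
    intro l
    obtain ⟨g, rfl⟩ := hF.surj l
    exact ⟨QuotientGroup.mk g, rfl⟩
  · -- kernel
    ext x
    obtain ⟨g, rfl⟩ := QuotientGroup.mk'_surjective (Subgroup.zpowers (a : G)) x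
    rw [MonoidHom.mem_ker, mem_map_mk_iff _ _ hNzQ]
    show θ g = 1 ↔ g ∈ Q
    rw [← hF.ker, MonoidHom.mem_ker]
  · -- abelian
    rintro _ ⟨x, hx, rfl⟩ _ ⟨y, hy, rfl⟩
    rw [← map_mul, ← map_mul, hQab x hx y hy]
  · -- card A
    have h := card_map_mk (Subgroup.zpowers (a : G)) Q hNzQ
    rw [hNzcard, hQ, hcard] at h
    omega
  · -- card W
    have h := card_map_mk (Subgroup.zpowers (a : G)) Z0 hNzZ
    rw [hNzcard, hZ0, hcard] at h
    omega
  · -- squares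
    rintro _ ⟨x, hx, rfl⟩
    rw [← map_mul]
    exact Subgroup.mem_map_of_mem _ (hNZ (hsq x hx))
  · -- Ω₁
    rintro _ ⟨x, hx, rfl⟩ hxx
    rw [← map_mul] at hxx
    have h1 : x * x ∈ Subgroup.zpowers (a : G) := (QuotientGroup.eq_one_iff _).mp hxx
    have h2 : x * x = 1 := by
      rcases (hNzmem _).mp h1 with h | h
      · exact h
      · exfalso
        apply hz1N
        rw [← h]
        exact hsq x hx
    exact Subgroup.mem_map_of_mem _ (hΩ x hx h2)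
  · -- exponent of W
    rintro _ ⟨z, hz, rfl⟩
    rw [← map_mul, hZ0exp z hz, map_one]
  · -- faithful
    intro x hx
    obtain ⟨g, rfl⟩ := QuotientGroup.mk'_surjective (Subgroup.zpowers (a : G)) x
    rw [mem_map_mk_iff _ _ hNzQ, ← D.ker]
    apply hfaithbar
    intro v
    obtain ⟨q, rfl⟩ := D.piV_surj v
    have hgq : g * q * g⁻¹ ∈ Q := hQn.conj_mem q q.2 g
    rw [D.actV g q hgq]
    have h1 := hx (QuotientGroup.mk' _ (q : G)) (Subgroup.mem_map_of_mem _ q.2)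
    rw [← map_inv, ← map_mul, ← map_mul, ← map_inv, ← map_mul, mem_map_mk_iff _ _ hNzZ] at h1
    -- h1 : g * q * g⁻¹ * q⁻¹ ∈ Z0
    have h2 : πV (⟨g * q * g⁻¹, hgq⟩ * q⁻¹) = 0 ∨ πV (⟨g * q * g⁻¹, hgq⟩ * q⁻¹) = u0 :=
      (D.u0_mem _).mp h1
    rw [D.piV_add, D.piV_inv] at h2
    rcases h2 with h | h
    · left; exact char2_eq D.v2 h
    · right
      have : πV ⟨g * q * g⁻¹, hgq⟩ = (πV ⟨g * q * g⁻¹, hgq⟩ + πV q) + πV q := by
        rw [add_assoc, D.v2, add_zero]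
      rw [this, h, add_comm]

end Cfsg.Agent.Lib.Helper8.GH7B8F
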