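import Mathlib
import Cfsg.Prelude.Def_TwoFusion
import Cfsg.Agent.Lib.Lead.Invol

/-!
# Hall–Janko order (S3313), part 1: the fusion lemma

For an involution `v` conjugate to `t` and commuting with `z`, the involutions of `Q` that commute
with `v` correspond (by conjugation into `C_G(t) = V × B`) to the involutions of `B` commuting with a
fixed involution of `B`.
-/

set_option autoImplicit false

namespace Cfsg.Agent.Lib.Helper8.HJ

variable {G : Type*} [Group G]

theorem orderOf_conj' (c x : G) : orderOf (c * x * c⁻¹) = orderOf x := by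
  have := (MulAut.conj c).orderOf_eq x
  simpa [MulAut.conj_apply] using this

theorem isConj_conj (c x : G) : IsConj x (c * x * c⁻¹) := isConj_iff.mpr ⟨c, rfl⟩

/-- the fusion bijection -/
theorem cent_inv_equiv (z t : G) (hz : orderOf z = 2) (hzt : ¬ IsConj z t)
    (Q : Subgroup G) (hQC : Q ≤ Subgroup.centralizer ({z} : Set G))
    (hQz : ∀ x ∈ Q, orderOf x = 2 → IsConj x z)
    (hCz : ∀ x ∈ Subgroup.centralizer ({z} : Set G), orderOf x = 2 → x ∉ Q → IsConj x t)
    (B : Subgroup G) (hBD : B ≤ Subgroup.centralizer ({t} : Set G))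
    (hBz : ∀ x ∈ B, orderOf x = 2 → IsConj x z)
    (hCt : ∀ x ∈ Subgroup.centralizer ({t} : Set G), orderOf x = 2 → x ∉ B → IsConj x t)
    (c : G) (v : G) (hv : v = c * t * c⁻¹) (hvz : v * z = z * v) :
    (c⁻¹ * z * c ∈ B ∧ orderOf (c⁻¹ * z * c) = 2) ∧
    Nat.card {u : G // u ∈ Q ∧ orderOf u = 2 ∧ u * v = v * u} =
      Nat.card {b : G // b ∈ B ∧ orderOf b = 2 ∧ b * (c⁻¹ * z * c) = (c⁻¹ * z * c) * b} := by
  have hord : ∀ x : G, orderOf (c⁻¹ * x * c) = orderOf x := by
    intro x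
    have := orderOf_conj' c⁻¹ x
    simpa using this
  have hcj : ∀ x : G, IsConj x (c⁻¹ * x * c) := by
    intro x
    have := isConj_conj c⁻¹ x
    simpa using this
  have hmemD : ∀ x : G, x ∈ Subgroup.centralizer ({t} : Set G) ↔ x * t = t * x := by
    intro x
    rw [Subgroup.mem_centralizer_iff]
    constructor
    · intro h; exact (h t rfl).symm
    · intro h y hy; rw [Set.mem_singleton_iff] at hy; subst hy; exact h.symm
  have hmemC : ∀ x : G, x ∈ Subgroup.centralizer ({z} : Set G) ↔ x * z = z * x := by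
    intro x
    rw [Subgroup.mem_centralizer_iff]
    constructor
    · intro h; exact (h z rfl).symm
    · intro h y hy; rw [Set.mem_singleton_iff] at hy; subst hy; exact h.symm
  -- commuting with v transports to commuting with t
  have hcomm_t : ∀ x : G, x * v = v * x ↔ (c⁻¹ * x * c) * t = t * (c⁻¹ * x * c) := by
    intro x
    subst hv
    constructor
    · intro h
      have : c⁻¹ * (x * (c * t * c⁻¹)) * c = c⁻¹ * ((c * t * c⁻¹) * x) * c := by rw [h]
      calc c⁻¹ * x * c * t = c⁻¹ * (x * (c * t * c⁻¹)) * c := by group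
        _ = c⁻¹ * ((c * t * c⁻¹) * x) * c := this
        _ = t * (c⁻¹ * x * c) := by group
    · intro h
      calc x * (c * t * c⁻¹) = c * ((c⁻¹ * x * c) * t) * c⁻¹ := by group
        _ = c * (t * (c⁻¹ * x * c)) * c⁻¹ := by rw [h]
        _ = c * t * c⁻¹ * x := by group
  have hcomm_z : ∀ x : G, x * z = z * x ↔ (c⁻¹ * x * c) * (c⁻¹ * z * c) = (c⁻¹ * z * c) * (c⁻¹ * x * c) := by
    intro x
    constructor
    · intro h
      calc c⁻¹ * x * c * (c⁻¹ * z * c) = c⁻¹ * (x * z) * c := by group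
        _ = c⁻¹ * (z * x) * c := by rw [h]
        _ = c⁻¹ * z * c * (c⁻¹ * x * c) := by group
    · intro h
      calc x * z = c * ((c⁻¹ * x * c) * (c⁻¹ * z * c)) * c⁻¹ := by group
        _ = c * ((c⁻¹ * z * c) * (c⁻¹ * x * c)) * c⁻¹ := by rw [h]
        _ = z * x := by group
  -- an involution of D conjugate to z lies in B
  have hinB : ∀ y : G, y * t = t * y → orderOf y = 2 → IsConj z y → y ∈ B := by
    intro y hy hy2 hzy
    by_contra hnB
    exact hzt (hzy.trans (hCt y ((hmemD y).mpr hy) hy2 hnB))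
  have hz1 : c⁻¹ * z * c ∈ B ∧ orderOf (c⁻¹ * z * c) = 2 := by
    have h2 : orderOf (c⁻¹ * z * c) = 2 := by rw [hord]; exact hz
    refine ⟨hinB _ ?_ h2 (hcj z), h2⟩
    exact (hcomm_t z).mp hvz.symm
  refine ⟨hz1, ?_⟩
  apply Nat.card_congr
  refine Equiv.subtypeEquiv (MulAut.conj c⁻¹).toEquiv ?_
  intro u
  have hval : (MulAut.conj c⁻¹).toEquiv u = c⁻¹ * u * c := by
    simp [MulAut.conj_apply]
  rw [hval]
  constructor
  · rintro ⟨huQ, hu2, huv⟩
    have hu2' : orderOf (c⁻¹ * u * c) = 2 := by rw [hord]; exact hu2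
    refine ⟨hinB _ ((hcomm_t u).mp huv) hu2' ?_, hu2', ?_⟩
    · exact (hQz u huQ hu2).symm.trans (hcj u)
    · exact (hcomm_z u).mp ((hmemC u).mp (hQC huQ))
  · rintro ⟨hbB, hb2, hbz⟩
    have hu2 : orderOf u = 2 := by rw [← hord]; exact hb2
    have huz : u * z = z * u := (hcomm_z u).mpr hbz
    have huv : u * v = v * u := (hcomm_t u).mpr ((hmemD _).mp (hBD hbB))
    refine ⟨?_, hu2, huv⟩
    by_contra hnQ
    have h1 : IsConj u t := hCz u ((hmemC u).mpr huz) hu2 hnQ
    have h2 : IsConj (c⁻¹ * u * c) z := hBz _ hbB hb2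
    exact hzt ((h2.symm.trans (hcj u).symm).trans h1)

end Cfsg.Agent.Lib.Helper8.HJ
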