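import Mathlib
import Cfsg.Agent.Lib.Helper4.ES2D
import Cfsg.Agent.Lib.Lead.Invol

/-!
# Hall–Janko order (S3313), part 2: when is `z` a power of `u * v`
-/

set_option autoImplicit false

namespace Cfsg.Agent.Lib.Helper8.HJ
open Cfsg.Agent.Lib.Helper4.ES2
open Cfsg.Agent.Lib.Lead

variable {G : Type*} [Group G]

/-- In a rank-2 extraspecial datum, two involutions in distinct noncentral "points" do not commute. -/
theorem not_comm_of_rk [Finite G] {Q : Subgroup G} {z : G} (hD : Data Q z) (hrk : RkLE 2 Q)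
    {u w : G} (hu : u ∈ Q) (hw : w ∈ Q) (huu : u * u = 1) (hww : w * w = 1)
    (hu1 : u ≠ 1) (huz : u ≠ z) (hw1 : w ≠ 1) (hwz : w ≠ z) (hwu : w ≠ u) (hwuz : w ≠ u * z) :
    u * w ≠ w * u := by
  intro hcomm
  have hzz := hD.z_sq
  have hzinv : z⁻¹ = z := hD.z_inv
  -- A1 = {1, z}
  have hc1 : ∀ a ∈ (⊥ : Subgroup G), a * z = z * a := by
    intro a ha; rw [Subgroup.mem_bot] at ha; subst ha; simp
  have hA1Q : adj ⊥ z hzz hc1 ≤ Q := adj_le ⊥ z hzz hc1 bot_le hD.zQ
  have hmemC : ∀ (x y : G), y ∈ Subgroup.centralizer ({x} : Set G) ↔ y * x = x * y := by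
    intro x y
    rw [Subgroup.mem_centralizer_singleton_iff]
  have hc2 : ∀ a ∈ adj ⊥ z hzz hc1, a * u = u * a := by
    intro a ha
    have : adj ⊥ z hzz hc1 ≤ Subgroup.centralizer ({u} : Set G) :=
      adj_le ⊥ z hzz hc1 bot_le ((hmemC u z).mpr (hD.z_comm u hu).symm)
    exact (hmemC u a).mp (this ha)
  have hA2Q : adj _ u huu hc2 ≤ Q := adj_le _ u huu hc2 hA1Q hu
  have hc3 : ∀ a ∈ adj _ u huu hc2, a * w = w * a := by
    intro a ha
    have h1 : adj ⊥ z hzz hc1 ≤ Subgroup.centralizer ({w} : Set G) :=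
      adj_le ⊥ z hzz hc1 bot_le ((hmemC w z).mpr (hD.z_comm w hw).symm)
    have : adj _ u huu hc2 ≤ Subgroup.centralizer ({w} : Set G) :=
      adj_le _ u huu hc2 h1 ((hmemC w u).mpr hcomm)
    exact (hmemC w a).mp (this ha)
  have hA3Q : adj _ w hww hc3 ≤ Q := adj_le _ w hww hc3 hA2Q hw
  -- commutativity and exponent
  have hcm0 : ∀ a ∈ (⊥ : Subgroup G), ∀ b ∈ (⊥ : Subgroup G), a * b = b * a := by
    intro a ha b hb; rw [Subgroup.mem_bot] at ha hb; subst ha; subst hb; rfl
  have hsq0 : ∀ a ∈ (⊥ : Subgroup G), a * a = 1 := by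
    intro a ha; rw [Subgroup.mem_bot] at ha; subst ha; simp
  have hcm1 := adj_comm ⊥ z hzz hc1 hcm0
  have hsq1 := adj_sq ⊥ z hzz hc1 hsq0
  have hcm2 := adj_comm _ u huu hc2 hcm1
  have hsq2 := adj_sq _ u huu hc2 hsq1
  have hcm3 := adj_comm _ w hww hc3 hcm2
  have hsq3 := adj_sq _ w hww hc3 hsq2
  -- cardinalities
  have hn1 : z ∉ (⊥ : Subgroup G) := by
    rw [Subgroup.mem_bot]; exact hD.z_ne
  have hmem1 : ∀ x : G, x ∈ adj ⊥ z hzz hc1 ↔ x = 1 ∨ x = z := by
    intro x
    rw [mem_adj, Subgroup.mem_bot, Subgroup.mem_bot]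
    constructor
    · rintro (h | h)
      · exact Or.inl h
      · right
        have : x = z⁻¹ := eq_inv_of_mul_eq_one_left h
        rw [this, hzinv]
    · rintro (h | h)
      · exact Or.inl h
      · right; rw [h]; exact hzz
  have hn2 : u ∉ adj ⊥ z hzz hc1 := by
    rw [hmem1]; rintro (h | h)
    · exact hu1 h
    · exact huz h
  have hn3 : w ∉ adj _ u huu hc2 := by
    rw [mem_adj, hmem1, hmem1]
    rintro ((h | h) | (h | h))
    · exact hw1 h
    · exact hwz h
    · apply hwu
      have : w = u⁻¹ := eq_inv_of_mul_eq_one_left h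
      rw [this]
      exact inv_eq_of_mul_eq_one_right huu
    · apply hwuz
      have h2 : w = z * u⁻¹ := by rw [← h]; group
      rw [h2, inv_eq_of_mul_eq_one_right huu]
      exact (hD.z_comm u hu).symm
  have hcard : Nat.card ↥(adj _ w hww hc3) = 8 := by
    rw [card_adj _ w hww hc3 hn3, card_adj _ u huu hc2 hn2, card_adj ⊥ z hzz hc1 hn1]
    simp
  have := hrk _ hA3Q hcm3 hsq3
  rw [hcard] at this
  omega

/-- elements of `zpowers g` when `g * g = 1` -/
theorem mem_zpowers_of_sq {g x : G} (hg : g * g = 1) (hx : x ∈ Subgroup.zpowers g) :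
    x = 1 ∨ x = g := by
  obtain ⟨k, rfl⟩ := Subgroup.mem_zpowers_iff.mp hx
  have hg2 : g ^ (2 : ℤ) = 1 := by
    rw [show (2 : ℤ) = ((2 : ℕ) : ℤ) from rfl, zpow_natCast, pow_two, hg]
  have hk : k = 2 * (k / 2) + k % 2 := (Int.mul_ediv_add_emod k 2).symm
  rw [hk, zpow_add, zpow_mul, hg2, one_zpow, one_mul]
  rcases Int.emod_two_eq_zero_or_one k with h | h
  · left; rw [h, zpow_zero]
  · right; rw [h, zpow_one]

/-- The key criterion: for involutions `u ∈ Q`, `v ∉ Q` normalizing `Q` and centralizing `z`,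
`z ∈ ⟨u v⟩` iff `u` and `v` do not commute. -/
theorem z_mem_zpowers_iff [Finite G] {Q : Subgroup G} {z : G} (hD : Data Q z) (hrk : RkLE 2 Q)
    {u v : G} (hu : u ∈ Q) (hu2 : orderOf u = 2) (hv2 : orderOf v = 2) (hvQ : v ∉ Q)
    (hvn : v * u * v⁻¹ ∈ Q) (hvz : v * z = z * v) :
    z ∈ Subgroup.zpowers (u * v) ↔ u * v ≠ v * u := by
  have huu : u * u = 1 := invol_mul_self hu2
  have hvv : v * v = 1 := invol_mul_self hv2
  have hvinv : v⁻¹ = v := invol_inv hv2
  have hu1 : u ≠ 1 := invol_ne_one hu2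
  constructor
  · intro hmem hcomm
    have hsq : (u * v) * (u * v) = 1 := by
      calc (u * v) * (u * v) = u * (v * u) * v := by group
        _ = u * (u * v) * v := by rw [hcomm]
        _ = (u * u) * (v * v) := by group
        _ = 1 := by rw [huu, hvv, one_mul]
    rcases mem_zpowers_of_sq hsq hmem with h | h
    · exact hD.z_ne h
    · apply hvQ
      have : v = u⁻¹ * z := by rw [h]; group
      rw [this]
      exact Q.mul_mem (Q.inv_mem hu) hD.zQ
  · intro hnc
    set w := v * u * v⁻¹ with hw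
    have hww : w * w = 1 := by
      rw [hw]
      calc v * u * v⁻¹ * (v * u * v⁻¹) = v * (u * u) * v⁻¹ := by group
        _ = 1 := by rw [huu]; group
    have hsq : (u * v) * (u * v) = u * w := by
      rw [hw]
      calc (u * v) * (u * v) = u * (v * u * v) := by group
        _ = u * (v * u * v⁻¹) := by rw [hvinv]
    have hwu : w ≠ u := by
      intro h
      apply hnc
      have : v * u * v⁻¹ * v = u * v := by rw [← hw, h]
      rw [← this]; group
    by_cases hwuz : w = u * z
    · -- (uv)^2 = z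
      have : (u * v) ^ 2 = z := by
        rw [pow_two, hsq, hwuz, ← mul_assoc, huu, one_mul]
      rw [← this]
      exact Subgroup.pow_mem _ (Subgroup.mem_zpowers _) 2
    · have huz : u ≠ z := by
        intro h
        apply hwu
        rw [hw, h]
        calc v * z * v⁻¹ = z * v * v⁻¹ := by rw [hvz]
          _ = z := by group
      have hw1 : w ≠ 1 := by
        intro h
        apply hu1
        have : u = v⁻¹ * w * v := by rw [hw]; group
        rw [this, h]; group
      have hwz : w ≠ z := by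
        intro h
        apply huz
        have h1 : u = v⁻¹ * w * v := by rw [hw]; group
        rw [h1, h]
        calc v⁻¹ * z * v = v⁻¹ * (z * v) := by group
          _ = v⁻¹ * (v * z) := by rw [hvz]
          _ = z := by group
      have hncw : u * w ≠ w * u :=
        not_comm_of_rk hD hrk hu hvn huu hww hu1 huz hw1 hwz hwu hwuz
      have hcm : cm u w = z := (hD.cm_eq_z_iff hu hvn).mpr hncw
      have h4 : (u * v) ^ 4 = z := by
        have : (u * v) ^ 4 = ((u * v) * (u * v)) * ((u * v) * (u * v)) := by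
          rw [show (4 : ℕ) = 2 + 2 from rfl, pow_add, pow_two]
        rw [this, hsq, hD.sq_mul hu hvn, hcm, huu, hww, mul_one, mul_one]
      rw [← h4]
      exact Subgroup.pow_mem _ (Subgroup.mem_zpowers _) 4

end Cfsg.Agent.Lib.Helper8.HJ
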