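import Mathlib
import Cfsg.Agent.Lib.Helper4.ES2D

/-!
# Hall–Janko order (S3313), part 3: the minus type from an automorphism of order 5
-/

set_option autoImplicit false

namespace Cfsg.Agent.Lib.Helper8.HJ
open Cfsg.Agent.Lib.Helper4.ES2

variable {G : Type*} [Group G]

/-- fixed-point congruence for conjugation by an element with `g ^ 5 = 1` on an invariant set -/
theorem card_modEq_fixed [Finite G] (S : Set G) (g : G) (hg5 : g ^ 5 = 1)
    (hS : ∀ x ∈ S, g * x * g⁻¹ ∈ S) :
    Nat.card S ≡ Nat.card {x : G // x ∈ S ∧ g * x * g⁻¹ = x} [MOD 5] := by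
  classical
  haveI : Fintype G := Fintype.ofFinite G
  haveI : Fact (Nat.Prime 5) := ⟨by norm_num⟩
  let f : Function.End ↥S := fun x => ⟨g * x * g⁻¹, hS x x.2⟩
  have hpow : ∀ (n : ℕ) (x : ↥S), (((f ^ n) x : ↥S) : G) = g ^ n * x * (g ^ n)⁻¹ := by
    intro n
    induction n with
    | zero =>
      intro x
      rw [pow_zero, pow_zero]
      show (x : G) = 1 * x * 1⁻¹
      group
    | succ n ih =>
      intro x
      rw [pow_succ]
      show (((f ^ n) (f x) : ↥S) : G) = _
      rw [ih]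
      show g ^ n * (g * x * g⁻¹) * (g ^ n)⁻¹ = _
      rw [pow_succ]; group
  have hf : f ^ 5 ^ 1 = 1 := by
    rw [pow_one]
    funext x
    apply Subtype.ext
    rw [hpow, hg5]
    show (1 : G) * x * 1⁻¹ = x
    group
  have h1 := Equiv.Perm.card_fixedPoints_modEq (f := f) (p := 5) (n := 1) hf
  rw [← Nat.card_eq_fintype_card, ← Nat.card_eq_fintype_card] at h1
  have h2 : Nat.card ↥(Function.fixedPoints f) = Nat.card {x : G // x ∈ S ∧ g * x * g⁻¹ = x} := by
    apply Nat.card_congr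
    refine ⟨fun x => ⟨x.1.1, x.1.2, ?_⟩, fun x => ⟨⟨x.1, x.2.1⟩, ?_⟩, ?_, ?_⟩
    · have := x.2
      rw [Function.mem_fixedPoints, Function.IsFixedPt] at this
      exact congrArg Subtype.val this
    · rw [Function.mem_fixedPoints, Function.IsFixedPt]
      exact Subtype.ext x.2.2
    · intro x; rfl
    · intro x; rfl
  rw [h2] at h1
  exact h1

theorem minus_type [Finite G] {Q : Subgroup G} {z : G} (hD : Data Q z) (hQ : Nat.card Q = 32)
    (g : G) (hg5 : g ^ 5 = 1) (hgQ : ∀ q ∈ Q, g * q * g⁻¹ ∈ Q) (hgz : g * z = z * g)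
    (hnc : ¬ (∀ q ∈ Q, g * q * g⁻¹ = q)) : invCount Q = 12 ∧ RkLE 2 Q := by
  classical
  -- the fixed subgroup
  set F : Subgroup G := Q ⊓ Subgroup.centralizer ({g} : Set G) with hF
  have hmemF : ∀ x : G, x ∈ F ↔ x ∈ Q ∧ g * x * g⁻¹ = x := by
    intro x
    rw [hF, Subgroup.mem_inf, Subgroup.mem_centralizer_singleton_iff]
    constructor
    · rintro ⟨h1, h2⟩
      refine ⟨h1, ?_⟩
      rw [← h2]; group
    · rintro ⟨h1, h2⟩
      refine ⟨h1, ?_⟩
      calc x * g = (g * x * g⁻¹) * g := by rw [h2]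
        _ = g * x := by group
  have hzF : z ∈ F := by
    rw [hmemF]; refine ⟨hD.zQ, ?_⟩
    rw [hgz]; group
  have hcong := card_modEq_fixed (Q : Set G) g hg5 hgQ
  have hcardF : Nat.card {x : G // x ∈ (Q : Set G) ∧ g * x * g⁻¹ = x} = Nat.card F := by
    apply Nat.card_congr
    exact Equiv.subtypeEquivRight (fun x => by rw [hmemF]; rfl)
  rw [hcardF] at hcong
  have hQ' : Nat.card (Q : Set G) = 32 := hQ
  rw [hQ'] at hcong
  have hdvd : Nat.card F ∣ 32 := by
    rw [← hQ]
    exact Subgroup.card_dvd_of_le inf_le_left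
  have hF2 : Nat.card F = 2 := by
    have hle : Nat.card F ≤ 32 := Nat.le_of_dvd (by norm_num) hdvd
    have hmod : Nat.card F % 5 = 2 := by
      have := hcong
      unfold Nat.ModEq at this
      omega
    have h32 : Nat.card F ≠ 32 := by
      intro h
      apply hnc
      have hFQ : F = Q := by
        apply Subgroup.eq_of_le_of_card_ge inf_le_left
        rw [h, hQ]
      intro q hq
      rw [← hFQ] at hq
      exact ((hmemF q).mp hq).2
    generalize Nat.card F = n at *
    interval_cases n <;> simp_all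
  have hFall : ∀ x ∈ F, x = 1 ∨ x = z := by
    intro x hx
    obtain ⟨y, hy, huniq⟩ := (Nat.card_eq_two_iff' (1 : F)).mp hF2
    by_cases h1 : x = 1
    · exact Or.inl h1
    · right
      have hx' : (⟨x, hx⟩ : F) = y := huniq _ (fun h => h1 (congrArg Subtype.val h))
      have hz' : (⟨z, hzF⟩ : F) = y := huniq _ (fun h => hD.z_ne (congrArg Subtype.val h))
      have := hx'.trans hz'.symm
      exact congrArg Subtype.val this
  -- the set of solutions of x^2 = 1
  have hX : ∀ x ∈ {x : G | x ∈ Q ∧ x * x = 1}, g * x * g⁻¹ ∈ {x : G | x ∈ Q ∧ x * x = 1} := by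
    rintro x ⟨hxQ, hxx⟩
    refine ⟨hgQ x hxQ, ?_⟩
    calc g * x * g⁻¹ * (g * x * g⁻¹) = g * (x * x) * g⁻¹ := by group
      _ = 1 := by rw [hxx]; group
  have hcongX := card_modEq_fixed {x : G | x ∈ Q ∧ x * x = 1} g hg5 hX
  have hfix2 : Nat.card {x : G // x ∈ {x : G | x ∈ Q ∧ x * x = 1} ∧ g * x * g⁻¹ = x} = 2 := by
    rw [Nat.card_eq_two_iff]
    have h1mem : (1 : G) ∈ {x : G | x ∈ Q ∧ x * x = 1} ∧ g * 1 * g⁻¹ = 1 := by
      refine ⟨⟨Q.one_mem, by simp⟩, by simp⟩
    have hzmem : z ∈ {x : G | x ∈ Q ∧ x * x = 1} ∧ g * z * g⁻¹ = z := by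
      refine ⟨⟨hD.zQ, hD.z_sq⟩, ?_⟩
      rw [hgz]; group
    refine ⟨⟨1, h1mem⟩, ⟨z, hzmem⟩, ?_, ?_⟩
    · intro h
      exact hD.z_ne (congrArg Subtype.val h).symm
    · ext x
      simp only [Set.mem_insert_iff, Set.mem_singleton_iff, Set.mem_univ, iff_true]
      have hxF : x.1 ∈ F := (hmemF x.1).mpr ⟨x.2.1.1, x.2.2⟩
      rcases hFall x.1 hxF with h | h
      · left; exact Subtype.ext h
      · right; exact Subtype.ext h
  rw [hfix2] at hcongX
  have hinv : invCount Q = Nat.card {x : G | x ∈ Q ∧ x * x = 1} := by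
    unfold invCount
    rw [Nat.card_coe_set_eq]
  rw [← hinv] at hcongX
  have hmod : invCount Q % 5 = 2 := by
    unfold Nat.ModEq at hcongX
    omega
  rcases Data.structure_thm 2 Q z hD (by rw [hQ]; norm_num) with hp | hm
  · exfalso
    have := hp.1
    rw [this] at hmod
    norm_num at hmod
  · obtain ⟨_, h1, h2, _⟩ := hm
    refine ⟨?_, h2⟩
    rw [h1]
    norm_num

end Cfsg.Agent.Lib.Helper8.HJ
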