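import Mathlib
import Cfsg.Prelude.Def_Transfer
import Cfsg.Prelude.Def_TwoFusion
import Cfsg.Prelude.Def_Local
import Cfsg.Agent.Lib.Helper4.ES2D
import Cfsg.Agent.Lib.Lead.ConjCount
import Cfsg.Agent.Lib.Lead.HJe
import Cfsg.Agent.Lib.Helper6.HJc
import Cfsg.Agent.Lib.Helper6.HJd
import Cfsg.Agent.Lib.Helper7.HJa
import Cfsg.Agent.Lib.Helper1.PCore
import Cfsg.Agent.Lib.Helper8.HJ1
import Cfsg.Agent.Lib.Helper8.HJ2
import Cfsg.Agent.Lib.Helper8.HJ3
import Cfsg.Agent.S0213

/-!
# Hall–Janko order (S3313), part 4: assembly via Thompson's order formula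

`|G| = |C(t)| a(z) + |C(z)| a(t)` with `a(z) = 960`, `a(t) = 195`, `|C(z)| = 1920`, `|C(t)| = 240`.
Pieces: helper7 (A5 facts), helper6 (a(t), double counting), lead (extraspecial data, complements).
-/

set_option autoImplicit false

namespace Cfsg.Agent.Lib.Helper8.HJ
open Cfsg.Agent.Lib.Helper4.ES2
open Cfsg.Agent.Lib.Lead
open Cfsg.Agent.Lib.Lead.HJe
open Cfsg.Agent.Lib.Helper6.HJc
open Cfsg.Agent.Lib.Helper6.HJd
open Cfsg.Agent.Lib.Helper7.HJa

variable {G : Type*} [Group G]

/-- involutions commute with the involutions in the cyclic group generated by their product -/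
theorem comm_of_mem_zpowers {u v x : G} (hu : u * u = 1) (hv : v * v = 1) (hx : x * x = 1)
    (hmem : x ∈ Subgroup.zpowers (u * v)) : u * x = x * u ∧ v * x = x * v := by
  obtain ⟨k, rfl⟩ := Subgroup.mem_zpowers_iff.mp hmem
  have huinv : u⁻¹ = u := inv_eq_of_mul_eq_one_right hu
  have hvinv : v⁻¹ = v := inv_eq_of_mul_eq_one_right hv
  have hxinv : ((u * v) ^ k)⁻¹ = (u * v) ^ k := inv_eq_of_mul_eq_one_right hx
  have h1 : u * (u * v) * u⁻¹ = (u * v)⁻¹ := by
    rw [mul_inv_rev, huinv, hvinv]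
    calc u * (u * v) * u = (u * u) * v * u := by group
      _ = v * u := by rw [hu, one_mul]
  have h2 : v * (u * v) * v⁻¹ = (u * v)⁻¹ := by
    rw [mul_inv_rev, huinv, hvinv]
    calc v * (u * v) * v = v * u * (v * v) := by group
      _ = v * u := by rw [hv, mul_one]
  have hc1 : u * (u * v) ^ k * u⁻¹ = (u * v) ^ k := by
    have := map_zpow (MulAut.conj u) (u * v) k
    simp only [MulAut.conj_apply] at this
    rw [this, h1, inv_zpow, hxinv]
  have hc2 : v * (u * v) ^ k * v⁻¹ = (u * v) ^ k := by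
    have := map_zpow (MulAut.conj v) (u * v) k
    simp only [MulAut.conj_apply] at this
    rw [this, h2, inv_zpow, hxinv]
  constructor
  · calc u * (u * v) ^ k = (u * (u * v) ^ k * u⁻¹) * u := by group
      _ = (u * v) ^ k * u := by rw [hc1]
  · calc v * (u * v) ^ k = (v * (u * v) ^ k * v⁻¹) * v := by group
      _ = (u * v) ^ k * v := by rw [hc2]

theorem card_invol_add_one [Finite G] (Q : Subgroup G) :
    Nat.card {u : G // u ∈ Q ∧ orderOf u = 2} + 1 = invCount Q := by
  classical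
  unfold invCount
  rw [← Nat.card_coe_set_eq]
  have : Nat.card {x : G | x ∈ Q ∧ x * x = 1} = Nat.card (Option {u : G // u ∈ Q ∧ orderOf u = 2}) := by
    apply Nat.card_congr
    refine ⟨fun x => if h : x.1 = 1 then none else some ⟨x.1, x.2.1, invol_of_mul_self h x.2.2⟩,
      fun o => match o with
        | none => ⟨1, Q.one_mem, by simp⟩
        | some u => ⟨u.1, u.2.1, invol_mul_self u.2.2⟩, ?_, ?_⟩
    · intro x
      by_cases h : x.1 = 1
      · simp only [h, dite_true]
        exact Subtype.ext h.symm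
      · simp only [h, dite_false]
    · intro o
      match o with
      | none => simp
      | some u =>
        have : u.1 ≠ 1 := invol_ne_one u.2.2
        simp [this]
  rw [this, Finite.card_option]

theorem card_split [Finite G] (P R : G → Prop) :
    Nat.card {x : G // P x ∧ ¬ R x} + Nat.card {x : G // P x ∧ R x} = Nat.card {x : G // P x} := by
  classical
  letI : Fintype G := Fintype.ofFinite G
  simp only [Nat.card_eq_fintype_card, Fintype.card_subtype]
  rw [add_comm, ← Finset.filter_filter, ← Finset.filter_filter,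
    Finset.card_filter_add_card_filter_not]


theorem core [Finite G] (z t : G) (hz : orderOf z = 2) (ht : orderOf t = 2)
    (hzt : ¬ IsConj z t) (hcl : ∀ x : G, orderOf x = 2 → IsConj x z ∨ IsConj x t)
    (Q : Subgroup G) (hD : Data Q z) (hQ : Nat.card Q = 32)
    (hQC : Q ≤ Subgroup.centralizer ({z} : Set G))
    (hQn : ∀ c ∈ Subgroup.centralizer ({z} : Set G), ∀ q ∈ Q, c * q * c⁻¹ ∈ Q)
    (K : Subgroup G) (hK : Nonempty (↥K ≃* alternatingGroup (Fin 5)))
    (hKC : K ⊔ Q = Subgroup.centralizer ({z} : Set G)) (hKQ : K ⊓ Q = ⊥)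
    (hQz : ∀ x ∈ Q, orderOf x = 2 → IsConj x z)
    (hCz : ∀ x ∈ Subgroup.centralizer ({z} : Set G), orderOf x = 2 → x ∉ Q → IsConj x t)
    (V B : Subgroup G) (hVB : Cfsg.IsInternalDirectProduct V B (Subgroup.centralizer ({t} : Set G)))
    (hV : Nat.card ↥V = 4) (hV2 : ∀ v ∈ V, v ^ 2 = 1) (htV : t ∈ V)
    (hB : Nonempty (↥B ≃* alternatingGroup (Fin 5)))
    (hBz : ∀ x ∈ B, orderOf x = 2 → IsConj x z)
    (hCt : ∀ x ∈ Subgroup.centralizer ({t} : Set G), orderOf x = 2 → x ∉ B → IsConj x t) :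
    Nat.card G = 604800 := by
  classical
  obtain ⟨hV_le, hB_le, hVBc, hVBinf, hVBsup⟩ := hVB
  have hKle : K ≤ Subgroup.centralizer ({z} : Set G) := hKC ▸ le_sup_left
  have hmemC : ∀ x : G, x ∈ Subgroup.centralizer ({z} : Set G) ↔ x * z = z * x := fun x =>
    Subgroup.mem_centralizer_singleton_iff
  have hmemD : ∀ x : G, x ∈ Subgroup.centralizer ({t} : Set G) ↔ x * t = t * x := fun x =>
    Subgroup.mem_centralizer_singleton_iff
  obtain ⟨hKs, hK60, ⟨g5, hg5K, hg5⟩, ⟨k2, hk2K, hk2⟩⟩ := simpleB K hK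
  obtain ⟨_, hB60, _, _⟩ := simpleB B hB
  -- orders of the centralizers
  have hCcard : Nat.card (Subgroup.centralizer ({z} : Set G)) = 1920 := by
    rw [card_of_complement K Q _ hKC hKQ (fun k hk q hq => hQn k (hKle hk) q hq), hK60, hQ]
  have hDcard : Nat.card (Subgroup.centralizer ({t} : Set G)) = 240 := by
    rw [card_of_complement V B _ hVBsup hVBinf ?_, hV, hB60]
    intro v hv b hb
    rw [hVBc v hv b hb, mul_assoc, mul_inv_cancel, mul_one]
    exact hb
  -- fusion count
  have hfus : ∀ v : G, IsConj t v → v * z = z * v →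
      Nat.card {u : G // u ∈ Q ∧ orderOf u = 2 ∧ u * v = v * u} = 3 := by
    intro v hv hvz
    obtain ⟨c, hc⟩ := isConj_iff.mp hv
    obtain ⟨⟨h1, h2⟩, h3⟩ := cent_inv_equiv z t hz hzt Q hQC hQz hCz B hB_le hBz hCt c v hc.symm hvz
    rw [h3]
    exact centB_card B hB _ h1 h2
  -- involutions of K are conjugate to t
  have hKinv : ∀ k ∈ K, orderOf k = 2 → IsConj t k ∧ k * z = z * k := by
    intro k hk hk2'
    have hkC := hKle hk
    refine ⟨(hCz k hkC hk2' ?_).symm, (hmemC k).mp hkC⟩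
    intro hkQ
    have : k ∈ K ⊓ Q := ⟨hk, hkQ⟩
    rw [hKQ, Subgroup.mem_bot] at this
    exact invol_ne_one hk2' this
  -- the plus/minus alternative
  have hcount : invCount Q = 20 ∨ invCount Q = 12 := by
    rcases Data.structure_thm 2 Q z hD (by rw [hQ]; norm_num) with hp | hm
    · left; rw [hp.1]; norm_num
    · right; rw [hm.2.1]; norm_num
  -- K does not centralize Q
  have hnotcent : ¬ (∀ k ∈ K, ∀ q ∈ Q, k * q * k⁻¹ = q) := by
    intro hall
    obtain ⟨h1, h2⟩ := hKinv k2 hk2K hk2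
    have h3 := hfus k2 h1 h2
    have h4 : Nat.card {u : G // u ∈ Q ∧ orderOf u = 2 ∧ u * k2 = k2 * u} =
        Nat.card {u : G // u ∈ Q ∧ orderOf u = 2} := by
      apply Nat.card_congr
      refine Equiv.subtypeEquivRight (fun u => ?_)
      constructor
      · rintro ⟨a, b, _⟩; exact ⟨a, b⟩
      · rintro ⟨a, b⟩
        refine ⟨a, b, ?_⟩
        have := hall k2 hk2K u a
        calc u * k2 = (k2 * u * k2⁻¹)⁻¹⁻¹ * k2 := by rw [this, inv_inv]
          _ = k2 * u := by group
    have h5 := card_invol_add_one Q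
    rw [← h4, h3] at h5
    omega
  -- an element of order 5 acting nontrivially
  have hg5nc : ¬ (∀ q ∈ Q, g5 * q * g5⁻¹ = q) := by
    intro hall
    apply hnotcent
    -- the kernel of the action is a normal subgroup of the simple group K
    let N : Subgroup ↥K := (Subgroup.centralizer (Q : Set G)).subgroupOf K
    have hmemN : ∀ k : ↥K, k ∈ N ↔ ∀ q ∈ Q, (k : G) * q * (k : G)⁻¹ = q := by
      intro k
      show (k : G) ∈ Subgroup.centralizer (Q : Set G) ↔ _
      rw [Subgroup.mem_centralizer_iff]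
      constructor
      · intro h q hq
        rw [← h q hq]; group
      · intro h q hq
        calc q * (k : G) = ((k : G) * q * (k : G)⁻¹)⁻¹⁻¹ * k := by rw [h q hq, inv_inv]
          _ = k * q := by group
    have hNn : N.Normal := by
      constructor
      intro n hn k
      rw [hmemN] at hn ⊢
      intro q hq
      have hq' : (k : G)⁻¹ * q * (k : G) ∈ Q := by
        have := hQn (k : G)⁻¹ (Subgroup.inv_mem _ (hKle k.2)) q hq
        simpa using this
      have := hn _ hq'
      simp only [Subgroup.coe_mul, Subgroup.coe_inv]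
      calc (k : G) * n * (k : G)⁻¹ * q * ((k : G) * n * (k : G)⁻¹)⁻¹
          = k * ((n : G) * ((k : G)⁻¹ * q * k) * (n : G)⁻¹) * (k : G)⁻¹ := by group
        _ = k * ((k : G)⁻¹ * q * k) * (k : G)⁻¹ := by rw [this]
        _ = q := by group
    haveI := hKs
    rcases hNn.eq_bot_or_eq_top with hbot | htop
    · exfalso
      have : (⟨g5, hg5K⟩ : ↥K) ∈ N := (hmemN _).mpr hall
      rw [hbot, Subgroup.mem_bot] at this
      have h1 : g5 = 1 := congrArg Subtype.val this
      rw [h1, orderOf_one] at hg5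
      norm_num at hg5
    · intro k hk
      have : (⟨k, hk⟩ : ↥K) ∈ N := by rw [htop]; exact Subgroup.mem_top _
      exact (hmemN _).mp this
  have hminus := minus_type hD hQ g5 (by rw [← hg5]; exact pow_orderOf_eq_one g5)
    (fun q hq => hQn g5 (hKle hg5K) q hq) ((hmemC g5).mp (hKle hg5K)) hg5nc
  obtain ⟨hinv12, hrk⟩ := hminus
  have hinv11 : Nat.card {u : G // u ∈ Q ∧ orderOf u = 2} = 11 := by
    have := card_invol_add_one Q
    omega
  -- the number of conjugates of t in C(z)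
  have hI : Nat.card {b : G // IsConj t b ∧ b * z = z * b} = 120 := by
    have h1 := card_conj_comm_mul z t
    have h2 : Nat.card {a : G // IsConj z a ∧ a * t = t * a} = 15 := by
      rw [← invB_card B hB]
      apply Nat.card_congr
      refine Equiv.subtypeEquivRight (fun a => ?_)
      constructor
      · rintro ⟨ha, hat⟩
        have ha2 : orderOf a = 2 := by rw [S0213.orderOf_of_isConj ha]; exact hz
        refine ⟨?_, ha2⟩
        by_contra hnB
        exact hzt (ha.trans (hCt a ((hmemD a).mpr hat) ha2 hnB))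
      · rintro ⟨haB, ha2⟩
        exact ⟨(hBz a haB ha2).symm, (hmemD a).mp (hB_le haB)⟩
    rw [h2, hCcard, hDcard] at h1
    omega
  -- characterization of the pairs counted by a(z)
  have hpair : ∀ u v : G, (IsConj z u ∧ IsConj t v ∧ z ∈ Subgroup.zpowers (u * v)) ↔
      ((IsConj t v ∧ v * z = z * v) ∧ (u ∈ Q ∧ orderOf u = 2) ∧ ¬ (u * v = v * u)) := by
    intro u v
    constructor
    · rintro ⟨hu, hv, hmem⟩
      have hu2 : orderOf u = 2 := by rw [S0213.orderOf_of_isConj hu]; exact hz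
      have hv2 : orderOf v = 2 := by rw [S0213.orderOf_of_isConj hv]; exact ht
      obtain ⟨h1, h2⟩ := comm_of_mem_zpowers (invol_mul_self hu2) (invol_mul_self hv2)
        (invol_mul_self hz) hmem
      have huQ : u ∈ Q := by
        by_contra hnQ
        exact hzt (hu.trans (hCz u ((hmemC u).mpr h1) hu2 hnQ))
      have hvQ : v ∉ Q := by
        intro hvQ
        exact hzt ((hQz v hvQ hv2).symm.trans hv.symm)
      refine ⟨⟨hv, h2⟩, ⟨huQ, hu2⟩, ?_⟩
      exact (z_mem_zpowers_iff hD hrk huQ hu2 hv2 hvQ (hQn v ((hmemC v).mpr h2) u huQ) h2).mp hmem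
    · rintro ⟨⟨hv, hvz⟩, ⟨huQ, hu2⟩, hnc⟩
      have hv2 : orderOf v = 2 := by rw [S0213.orderOf_of_isConj hv]; exact ht
      have hvQ : v ∉ Q := by
        intro hvQ
        exact hzt ((hQz v hvQ hv2).symm.trans hv.symm)
      refine ⟨(hQz u huQ hu2).symm, hv, ?_⟩
      exact (z_mem_zpowers_iff hD hrk huQ hu2 hv2 hvQ (hQn v ((hmemC v).mpr hvz) u huQ) hvz).mpr hnc
  -- the fibre count
  have hfib : ∀ v : G, IsConj t v ∧ v * z = z * v →
      Nat.card {u : G // (u ∈ Q ∧ orderOf u = 2) ∧ ¬ (u * v = v * u)} = 8 := by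
    rintro v ⟨hv, hvz⟩
    have h1 := card_split (fun u : G => u ∈ Q ∧ orderOf u = 2) (fun u => u * v = v * u)
    have h2 : Nat.card {x : G // (x ∈ Q ∧ orderOf x = 2) ∧ x * v = v * x} = 3 := by
      rw [← hfus v hv hvz]
      apply Nat.card_congr
      exact Equiv.subtypeEquivRight (fun u => and_assoc)
    rw [h2, hinv11] at h1
    omega
  have hcz : Nat.card {p : G × G // IsConj z p.1 ∧ IsConj t p.2 ∧
      z ∈ Subgroup.zpowers (p.1 * p.2)} = 960 := by
    haveI : Fintype G := Fintype.ofFinite G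
    have e1 : {p : G × G // IsConj z p.1 ∧ IsConj t p.2 ∧ z ∈ Subgroup.zpowers (p.1 * p.2)} ≃
        {p : G × G // (IsConj t p.1 ∧ p.1 * z = z * p.1) ∧ (p.2 ∈ Q ∧ orderOf p.2 = 2) ∧
          ¬ (p.2 * p.1 = p.1 * p.2)} :=
      Equiv.subtypeEquiv (Equiv.prodComm G G) (fun p => hpair p.1 p.2)
    have e2 := Equiv.subtypeProdEquivSigmaSubtype (fun (v u : G) =>
      (IsConj t v ∧ v * z = z * v) ∧ (u ∈ Q ∧ orderOf u = 2) ∧ ¬ (u * v = v * u))
    rw [Nat.card_congr e1, Nat.card_congr e2, Nat.card_sigma]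
    have h3 : ∀ v : G, Nat.card {u : G // (IsConj t v ∧ v * z = z * v) ∧ (u ∈ Q ∧ orderOf u = 2) ∧
        ¬ (u * v = v * u)} = if (IsConj t v ∧ v * z = z * v) then 8 else 0 := by
      intro v
      by_cases hv : IsConj t v ∧ v * z = z * v
      · rw [if_pos hv, ← hfib v hv]
        apply Nat.card_congr
        exact Equiv.subtypeEquivRight (fun u => ⟨fun h => h.2, fun h => ⟨hv, h⟩⟩)
      · rw [if_neg hv]
        haveI : IsEmpty {u : G // (IsConj t v ∧ v * z = z * v) ∧ (u ∈ Q ∧ orderOf u = 2) ∧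
            ¬ (u * v = v * u)} := ⟨fun u => hv u.2.1⟩
        exact Nat.card_of_isEmpty
    simp only [h3]
    rw [Finset.sum_ite, Finset.sum_const_zero, add_zero, Finset.sum_const, smul_eq_mul,
      ← Fintype.card_subtype, ← Nat.card_eq_fintype_card, hI]
  have hall : ∀ x : G, orderOf x = 2 → IsConj z x ∨ IsConj t x := fun x hx =>
    (hcl x hx).imp IsConj.symm IsConj.symm
  have hct : Nat.card {p : G × G // IsConj z p.1 ∧ IsConj t p.2 ∧
      t ∈ Subgroup.zpowers (p.1 * p.2)} = 195 := by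
    rw [count_t_aux z t hz ht hzt V B ⟨hV_le, hB_le, hVBc, hVBinf, hVBsup⟩ hV2 htV hBz hCt]
    exact cntTB B hB
  rw [S0213.result z t hz ht hzt hall, hcz, hct, hCcard, hDcard]


theorem pcore_map_facts (C : Subgroup G) :
    (Cfsg.pCore 2 ↥C).map C.subtype ≤ C ∧
    (∀ c ∈ C, ∀ q ∈ (Cfsg.pCore 2 ↥C).map C.subtype,
      c * q * c⁻¹ ∈ (Cfsg.pCore 2 ↥C).map C.subtype) ∧
    Nat.card ↥((Cfsg.pCore 2 ↥C).map C.subtype) = Nat.card ↥(Cfsg.pCore 2 ↥C) := by
  refine ⟨Subgroup.map_subtype_le _, ?_, ?_⟩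
  · intro c hc q hq
    obtain ⟨q0, hq0, rfl⟩ := Subgroup.mem_map.mp hq
    have hn : (Cfsg.pCore 2 ↥C).Normal := Cfsg.Agent.Lib.Helper1.pCore_normal 2
    have := hn.conj_mem q0 hq0 ⟨c, hc⟩
    exact Subgroup.mem_map.mpr ⟨_, this, rfl⟩
  · exact Subgroup.card_map_of_injective (Subgroup.subtype_injective C)

end Cfsg.Agent.Lib.Helper8.HJ
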