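import Mathlib
import Cfsg.Agent.Lib.Lead.JordanCycle

set_option autoImplicit false

namespace Cfsg.Agent.Lib.Helper8.Mil

open Equiv MulAction

variable {α : Type*} [Fintype α] [DecidableEq α]

/-- Two permutations agreeing on an invariant set containing the support of `g`
conjugate `g` in the same way. -/
theorem conj_agree (s τ g : Perm α) (S : Finset α) (hg : ∀ y, g y ≠ y → y ∈ S)
    (hs : ∀ y ∈ S, s y = τ y) (hτ : ∀ y, τ y ∈ S ↔ y ∈ S) :
    s * g * s⁻¹ = τ * g * τ⁻¹ := by
  have hgS : ∀ y ∈ S, g y ∈ S := by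
    intro y hy
    by_cases h : g y = y
    · rw [h]; exact hy
    · apply hg; intro h2; exact h (g.injective h2)
  have himg : S.image s = S := by
    apply Finset.eq_of_subset_of_card_le
    · intro y hy
      obtain ⟨w, hw, rfl⟩ := Finset.mem_image.mp hy
      rw [hs w hw]; exact (hτ w).mpr hw
    · rw [Finset.card_image_of_injective _ s.injective]
  have hsS : ∀ y, s y ∈ S ↔ y ∈ S := by
    intro y
    constructor
    · intro h
      rw [← himg] at h
      obtain ⟨w, hw, hwy⟩ := Finset.mem_image.mp h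
      rw [← s.injective hwy]; exact hw
    · intro h; rw [hs y h]; exact (hτ y).mpr h
  ext z
  simp only [Perm.mul_apply]
  by_cases hz : z ∈ S
  · have h1 : s⁻¹ z ∈ S := by rw [← hsS]; simpa using hz
    have h2 : τ⁻¹ z ∈ S := by rw [← hτ]; simpa using hz
    have h3 : s⁻¹ z = τ⁻¹ z := by
      apply τ.injective; rw [← hs _ h1]; simp
    rw [h3, hs _ (hgS _ h2)]
  · have h1 : s⁻¹ z ∉ S := by rw [← hsS]; simpa using hz
    have h2 : τ⁻¹ z ∉ S := by rw [← hτ]; simpa using hz
    have h3 : g (s⁻¹ z) = s⁻¹ z := by by_contra h; exact h1 (hg _ h)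
    have h4 : g (τ⁻¹ z) = τ⁻¹ z := by by_contra h; exact h2 (hg _ h)
    rw [h3, h4]; simp

/-- A `t`-transitive group containing a nontrivial element moving fewer than `t` points
contains a `3`-cycle. -/
theorem small_support (G : Subgroup (Perm α)) {t : ℕ}
    (hMT : ∀ S : Finset α, S.card ≤ t → ∀ π : Perm α, ∃ x ∈ G, ∀ y ∈ S, x y = π y)
    {g : Perm α} (hg : g ∈ G) (hg1 : g ≠ 1) (hsupp : g.support.card + 1 ≤ t)
    (hlt : g.support.card < Fintype.card α) : ∃ w ∈ G, w.IsThreeCycle := by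
  obtain ⟨b, hb⟩ : ∃ b, g b ≠ b := by
    by_contra h; push Not at h; exact hg1 (Perm.ext h)
  set a := g⁻¹ b with ha
  have hga : g a = b := by simp [ha]
  have hab : a ≠ b := by intro h; rw [h] at hga; exact hb hga
  obtain ⟨c, hc⟩ : ∃ c, c ∉ g.support := by
    by_contra h; push Not at h
    have : g.support = Finset.univ := Finset.eq_univ_iff_forall.mpr h
    rw [this, Finset.card_univ] at hlt; exact lt_irrefl _ hlt
  have hgc : g c = c := Perm.notMem_support.mp hc
  have hbs : b ∈ g.support := Perm.mem_support.mpr hb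
  have has : a ∈ g.support := by rw [Perm.mem_support, hga]; exact hab.symm
  have hca : c ≠ a := fun h => hc (h ▸ has)
  have hcb : c ≠ b := fun h => hc (h ▸ hbs)
  have hScard : (insert c g.support).card ≤ t := by
    rw [Finset.card_insert_of_notMem hc]; exact hsupp
  obtain ⟨s, hsG, hs⟩ := hMT (insert c g.support) hScard (swap b c)
  have hconj : s * g * s⁻¹ = swap b c * g * (swap b c)⁻¹ := by
    apply conj_agree s (swap b c) g (insert c g.support)
    · intro y hy; exact Finset.mem_insert_of_mem (Perm.mem_support.mpr hy)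
    · exact hs
    · intro y
      rw [swap_apply_def]
      split_ifs with h1 h2
      · subst h1; simp [hbs]
      · subst h2; simp [hbs]
      · rfl
  refine ⟨g⁻¹ * (s * g * s⁻¹), ?_, ?_⟩
  · exact mul_mem (inv_mem hg) (mul_mem (mul_mem hsG hg) (inv_mem hsG))
  · rw [hconj]
    have h0 : g⁻¹ c = c := by rw [Perm.inv_eq_iff_eq, hgc]
    have h1 : g⁻¹ * (swap b c * g * (swap b c)⁻¹) = swap c a * swap c b := by
      have h2 := swap_apply_apply g⁻¹ b c
      rw [h0, inv_inv, ← ha] at h2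
      rw [swap_inv, swap_comm c a, swap_comm c b, h2]
      group
    rw [h1]
    exact Perm.isThreeCycle_swap_mul_swap_same hca hcb hab

/-- the pointwise stabiliser in `G` of a finite set -/
def pstab (G : Subgroup (Perm α)) (T : Finset α) : Subgroup (Perm α) where
  carrier := {g | g ∈ G ∧ ∀ y ∈ T, g y = y}
  mul_mem' := by
    rintro a b ⟨ha, ha'⟩ ⟨hb, hb'⟩
    exact ⟨mul_mem ha hb, fun y hy => by rw [Perm.mul_apply, hb' y hy, ha' y hy]⟩
  one_mem' := ⟨one_mem _, fun _ _ => rfl⟩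
  inv_mem' := by
    rintro a ⟨ha, ha'⟩
    exact ⟨inv_mem ha, fun y hy => by rw [Perm.inv_eq_iff_eq, ha' y hy]⟩

theorem mem_pstab {G : Subgroup (Perm α)} {T : Finset α} {g : Perm α} :
    g ∈ pstab G T ↔ g ∈ G ∧ ∀ y ∈ T, g y = y := Iff.rfl

theorem pstab_le (G : Subgroup (Perm α)) (T : Finset α) : pstab G T ≤ G := fun _ h => h.1

theorem pstab_mono (G : Subgroup (Perm α)) {T T' : Finset α} (h : T ⊆ T') :
    pstab G T' ≤ pstab G T := fun _ hg => ⟨hg.1, fun y hy => hg.2 y (h hy)⟩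

/-- Sylow conjugacy inside a subgroup, stated in the ambient group. -/
theorem sylow_conj {𝔊 : Type*} [Group 𝔊] (H : Subgroup 𝔊) [Finite H] {p : ℕ} [Fact p.Prime]
    (P' : Sylow p H) (V : Subgroup 𝔊) (hV : V ≤ H)
    (hcard : Nat.card V = Nat.card (P' : Subgroup H)) :
    ∃ h ∈ H, ∀ v ∈ V, h * v * h⁻¹ ∈ (P' : Subgroup H).map H.subtype := by
  have hc : Nat.card (V.subgroupOf H) = p ^ (Nat.card H).factorization p := by
    rw [Nat.card_congr (Subgroup.subgroupOfEquivOfLe hV).toEquiv, hcard, P'.card_eq_multiplicity]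
  let Q : Sylow p H := Sylow.ofCard (V.subgroupOf H) hc
  obtain ⟨y, hy⟩ := MulAction.exists_smul_eq H Q P'
  refine ⟨y.1, y.2, fun v hv => ?_⟩
  have hmem : y * ⟨v, hV hv⟩ * y⁻¹ ∈ (P' : Subgroup H) := by
    rw [← hy, Sylow.coe_subgroup_smul, Subgroup.mem_smul_pointwise_iff_exists]
    refine ⟨⟨v, hV hv⟩, ?_, rfl⟩
    change (⟨v, hV hv⟩ : H) ∈ V.subgroupOf H
    rw [Subgroup.mem_subgroupOf]; exact hv
  exact ⟨_, hmem, by simp⟩

/-- **Witt's lemma**: if `G` is `t`-transitive, `T` is a set of `t` points and `P` is a Sylow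
`p`-subgroup of the pointwise stabiliser of `T`, then `N_G(P)` is `t`-transitive on the fixed
points of `P`. -/
theorem witt (G : Subgroup (Perm α)) {t : ℕ} (hG : IsMultiplyPretransitive G α t)
    (T : Finset α) (hT : T.card = t) {p : ℕ} [Fact p.Prime] (P' : Sylow p (pstab G T))
    (P : Subgroup (Perm α)) (hP : P = (P' : Subgroup (pstab G T)).map (pstab G T).subtype)
    (x y : Fin t ↪ α) (hx : ∀ u ∈ P, ∀ i, u (x i) = x i) (hy : ∀ u ∈ P, ∀ i, u (y i) = y i) :
    ∃ n ∈ G, n ∈ Subgroup.normalizer (P : Set (Perm α)) ∧ ∀ i, n (x i) = y i := by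
  classical
  let a : Fin t ↪ α := (T.equivFinOfCardEq hT).symm.toEmbedding.trans (Function.Embedding.subtype _)
  have haT : ∀ i, a i ∈ T := fun i => ((T.equivFinOfCardEq hT).symm i).2
  have hTa : ∀ z ∈ T, ∃ i, a i = z := by
    intro z hz
    refine ⟨T.equivFinOfCardEq hT ⟨z, hz⟩, ?_⟩
    simp [a]
  have hPle : P ≤ pstab G T := by
    rw [hP]; rintro _ ⟨u, _, rfl⟩; exact u.2
  have key : ∀ x : Fin t ↪ α, (∀ u ∈ P, ∀ i, u (x i) = x i) →
      ∃ n ∈ G, n ∈ Subgroup.normalizer (P : Set (Perm α)) ∧ ∀ i, n (x i) = a i := by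
    intro x hx
    obtain ⟨g, hg⟩ := hG.exists_smul_eq x a
    have hgi : ∀ i, g.1 (x i) = a i := by
      intro i
      have h1 := congrArg (fun f : Fin t ↪ α => f i) hg
      simp only [Function.Embedding.smul_apply] at h1
      exact h1
    let V : Subgroup (Perm α) := P.map (MulAut.conj g.1).toMonoidHom
    have hV : V ≤ pstab G T := by
      rintro _ ⟨u, hu, rfl⟩
      refine ⟨?_, fun z hz => ?_⟩
      · simp only [MulEquiv.coe_toMonoidHom, MulAut.conj_apply]
        exact mul_mem (mul_mem g.2 (hPle hu).1) (inv_mem g.2)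
      · obtain ⟨i, rfl⟩ := hTa z hz
        simp only [MulEquiv.coe_toMonoidHom, MulAut.conj_apply, Perm.mul_apply]
        rw [← hgi i]
        simp [hx u hu i]
    have hcard : Nat.card V = Nat.card (P' : Subgroup (pstab G T)) := by
      rw [Subgroup.card_map_of_injective (MulAut.conj g.1).injective, hP,
        Subgroup.card_map_of_injective (Subgroup.subtype_injective _)]
    obtain ⟨h, hh, hhV⟩ := sylow_conj (pstab G T) P' V hV hcard
    rw [← hP] at hhV
    refine ⟨h * g.1, mul_mem hh.1 g.2, ?_, ?_⟩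
    · apply Subgroup.mem_normalizer_fintype
      intro u hu
      have h2 : (MulAut.conj g.1).toMonoidHom u ∈ V := ⟨u, hu, rfl⟩
      have h3 := hhV _ h2
      simp only [MulEquiv.coe_toMonoidHom, MulAut.conj_apply] at h3
      have h4 : h * g.1 * u * (h * g.1)⁻¹ = h * (g.1 * u * g.1⁻¹) * h⁻¹ := by group
      rw [h4]; exact h3
    · intro i
      rw [Perm.mul_apply, hgi i]
      exact hh.2 _ (haT i)
  obtain ⟨n₁, hn₁G, hn₁N, hn₁⟩ := key x hx
  obtain ⟨n₂, hn₂G, hn₂N, hn₂⟩ := key y hy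
  refine ⟨n₂⁻¹ * n₁, mul_mem (inv_mem hn₂G) hn₁G, mul_mem (inv_mem hn₂N) hn₁N, fun i => ?_⟩
  rw [Perm.mul_apply, hn₁ i, Perm.inv_eq_iff_eq, hn₂ i]

end Cfsg.Agent.Lib.Helper8.Mil
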