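import Mathlib

set_option autoImplicit false

/-! Abstract group theory for 2-groups of symplectic type and exponent 4 (helper8). -/

namespace Cfsg.Agent.Lib.Helper8.Ext

open Subgroup

section basic

variable {G : Type*} [Group G]

/-- the commutator `k g k⁻¹ g⁻¹`. -/
def cm (k g : G) : G := k * g * k⁻¹ * g⁻¹

theorem cm_eq_one_iff (k g : G) : cm k g = 1 ↔ k * g = g * k := by
  unfold cm
  rw [mul_inv_eq_one, mul_inv_eq_iff_eq_mul]

theorem mem_center_iff_cm (x : G) : x ∈ center G ↔ ∀ g, cm x g = 1 := by
  rw [mem_center_iff]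
  constructor
  · intro h g
    rw [cm_eq_one_iff]
    exact (h g).symm
  · intro h g
    exact ((cm_eq_one_iff x g).mp (h g)).symm

theorem cm_one_left (g : G) : cm 1 g = 1 := by simp [cm]

theorem cm_one_right (g : G) : cm g 1 = 1 := by simp [cm]

theorem cm_symm (k g : G) : cm g k = (cm k g)⁻¹ := by
  unfold cm
  group

theorem cm_mul_left (a b g : G) (hb : cm b g ∈ center G) : cm (a * b) g = cm b g * cm a g := by
  have h1 : cm (a * b) g = a * cm b g * (g * a⁻¹ * g⁻¹) := by
    unfold cm
    group
  rw [h1, mem_center_iff.mp hb a]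
  unfold cm
  group

theorem cm_mul_right (k g h : G) (hk : cm k h ∈ center G) : cm k (g * h) = cm k g * cm k h := by
  have h1 : cm k (g * h) = cm k g * (g * cm k h) * g⁻¹ := by
    unfold cm
    group
  rw [h1, mem_center_iff.mp hk g]
  unfold cm
  group

theorem cm_inv_left (a g : G) (ha : cm a g ∈ center G) : cm a⁻¹ g = (cm a g)⁻¹ := by
  have h1 : cm (a⁻¹ * a) g = cm a g * cm a⁻¹ g := cm_mul_left a⁻¹ a g ha
  rw [inv_mul_cancel, cm_one_left] at h1
  exact eq_inv_of_mul_eq_one_right h1.symm

theorem cm_sq_left (k g : G) (hk : cm k g ∈ center G) : cm (k ^ 2) g = (cm k g) ^ 2 := by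
  rw [pow_two, cm_mul_left k k g hk, pow_two]

/-- The subgroup `K`: preimage of `Ω₁(Z(G/Z))`. -/
def KK (G : Type*) [Group G] : Subgroup G where
  carrier := {k | ∀ g, cm k g ∈ center G ∧ (cm k g) ^ 2 = 1}
  one_mem' := fun g => by rw [cm_one_left]; exact ⟨Subgroup.one_mem _, one_pow 2⟩
  mul_mem' := by
    intro a b ha hb g
    rw [cm_mul_left a b g (hb g).1]
    refine ⟨mul_mem (hb g).1 (ha g).1, ?_⟩
    have hc : Commute (cm b g) (cm a g) := (mem_center_iff.mp (hb g).1 (cm a g)).symm
    rw [hc.mul_pow, (ha g).2, (hb g).2, one_mul]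
  inv_mem' := by
    intro a ha g
    rw [cm_inv_left a g (ha g).1]
    exact ⟨inv_mem (ha g).1, by rw [inv_pow, (ha g).2, inv_one]⟩

theorem mem_KK_iff (k : G) : k ∈ KK G ↔ ∀ g, cm k g ∈ center G ∧ (cm k g) ^ 2 = 1 := Iff.rfl

theorem sq_mem_center_of_mem_KK {k : G} (hk : k ∈ KK G) : k ^ 2 ∈ center G := by
  rw [mem_center_iff_cm]
  intro g
  rw [cm_sq_left k g (hk g).1, (hk g).2]

theorem mem_KK_of {k : G} (h2 : k ^ 2 ∈ center G) (hc : ∀ g, cm k g ∈ center G) : k ∈ KK G := by
  intro g
  refine ⟨hc g, ?_⟩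
  rw [← cm_sq_left k g (hc g)]
  exact (mem_center_iff_cm _).mp h2 g

theorem center_le_KK : center G ≤ KK G := by
  intro z hz g
  rw [(mem_center_iff_cm z).mp hz g]
  exact ⟨Subgroup.one_mem _, one_pow 2⟩

theorem map_mem_center (φ : G ≃* G) {z : G} (hz : z ∈ center G) : φ z ∈ center G := by
  rw [mem_center_iff] at hz ⊢
  intro g
  have := congrArg φ (hz (φ.symm g))
  simpa using this

theorem map_cm (φ : G ≃* G) (k g : G) : φ (cm k g) = cm (φ k) (φ g) := by
  unfold cm
  simp

instance KK_characteristic : (KK G).Characteristic := by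
  rw [characteristic_iff_map_le]
  rintro φ x ⟨k, hk, rfl⟩
  intro g
  have hg : g = φ (φ.symm g) := by simp
  have h := hk (φ.symm g)
  change cm (φ k) g ∈ center G ∧ (cm (φ k) g) ^ 2 = 1
  rw [hg, ← map_cm]
  refine ⟨map_mem_center φ h.1, ?_⟩
  rw [← map_pow, h.2, map_one]

end basic


section pgroup

variable {G : Type*} [Group G] [Finite G]

/-- A nontrivial normal subgroup of a finite `p`-group meets the centre nontrivially. -/
theorem normal_inf_center {p : ℕ} [Fact p.Prime] (hG : IsPGroup p G) (M : Subgroup G) [M.Normal]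
    (hM : M ≠ ⊥) : ∃ x ∈ M, x ∈ center G ∧ x ≠ 1 := by
  have hM' : Nontrivial M := (Subgroup.nontrivial_iff_ne_bot M).mpr hM
  have dvd : p ∣ Nat.card M := by
    obtain ⟨n, hn0, hn⟩ := (hG.to_subgroup M).nontrivial_iff_card.mp hM'
    exact hn.symm ▸ dvd_pow_self _ (ne_of_gt hn0)
  have h1 : (1 : M) ∈ MulAction.fixedPoints (ConjAct G) M := by
    intro g
    exact smul_one g
  obtain ⟨b, hb, hb1⟩ := (hG.of_equiv ConjAct.toConjAct).exists_fixed_point_of_prime_dvd_card_of_fixed_point
    M dvd h1
  refine ⟨b.1, b.2, ?_, ?_⟩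
  · rw [mem_center_iff]
    intro g
    have := hb (ConjAct.toConjAct g)
    have h2 := congrArg Subtype.val this
    rw [ConjAct.Subgroup.val_conj_smul, ConjAct.smul_def, ConjAct.ofConjAct_toConjAct] at h2
    exact mul_inv_eq_iff_eq_mul.mp h2
  · intro h
    apply hb1
    exact Subtype.ext h.symm

end pgroup


section stype

variable {G : Type*} [Group G]

/-- Hypotheses: exponent dividing 4 and "symplectic type". -/
structure SType (G : Type*) [Group G] : Prop where
  exp4 : ∀ g : G, g ^ 4 = 1
  cyc : ∀ A : Subgroup G, A.Characteristic → IsMulCommutative A → IsCyclic A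

theorem SType.isPGroup (h : SType G) : IsPGroup 2 G := fun g => ⟨2, by simpa using h.exp4 g⟩

theorem map_cm' {H : Type*} [Group H] (f : G →* H) (k g : G) : f (cm k g) = cm (f k) (f g) := by
  unfold cm
  simp

variable [Finite G]

theorem SType.card_le_four (h : SType G) (A : Subgroup G) (hA : A.Characteristic)
    (hc : ∀ a ∈ A, ∀ b ∈ A, a * b = b * a) : Nat.card A ≤ 4 := by
  have hcomm : IsMulCommutative A := ⟨⟨fun a b => Subtype.ext (hc a a.2 b b.2)⟩⟩
  have hcyc := h.cyc A hA hcomm
  obtain ⟨g, hg⟩ := hcyc.exists_generator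
  rw [← orderOf_eq_card_of_forall_mem_zpowers hg]
  apply Nat.le_of_dvd (by norm_num)
  apply orderOf_dvd_of_pow_eq_one
  exact Subtype.ext (by simpa using h.exp4 g.1)

/-- In a cyclic subgroup there is at most one involution. -/
theorem unique_invol_of_cyclic (A : Subgroup G) (hA : IsCyclic A) (z z' : G) (hz : z ∈ A) (hz' : z' ∈ A)
    (h2 : z ^ 2 = 1) (h2' : z' ^ 2 = 1) (h1 : z ≠ 1) (h1' : z' ≠ 1) : z = z' := by
  classical
  haveI : Fintype A := Fintype.ofFinite A
  by_contra hne
  have hle := IsCyclic.card_pow_eq_one_le (α := A) (n := 2) (by norm_num)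
  let a : A := ⟨z, hz⟩
  let b : A := ⟨z', hz'⟩
  have hsub : ({1, a, b} : Finset A) ⊆ Finset.univ.filter (fun x : A => x ^ 2 = 1) := by
    intro x hx
    simp only [Finset.mem_insert, Finset.mem_singleton] at hx
    simp only [Finset.mem_filter, Finset.mem_univ, true_and]
    rcases hx with rfl | rfl | rfl
    · exact one_pow 2
    · exact Subtype.ext (by simpa [a] using h2)
    · exact Subtype.ext (by simpa [b] using h2')
  have hcard : ({1, a, b} : Finset A).card = 3 := by
    rw [Finset.card_insert_of_notMem, Finset.card_pair]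
    · intro hab
      exact hne (congrArg Subtype.val hab)
    · simp only [Finset.mem_insert, Finset.mem_singleton, not_or]
      constructor
      · intro h
        exact h1 (congrArg Subtype.val h).symm
      · intro h
        exact h1' (congrArg Subtype.val h).symm
  have := Finset.card_le_card hsub
  omega

theorem SType.unique_invol (h : SType G) (z z' : G) (hz : z ∈ center G) (hz' : z' ∈ center G)
    (h2 : z ^ 2 = 1) (h2' : z' ^ 2 = 1) (h1 : z ≠ 1) (h1' : z' ≠ 1) : z = z' := by
  have hcomm : IsMulCommutative (center G) := ⟨⟨fun a b => Subtype.ext (mem_center_iff.mp b.2 a.1)⟩⟩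
  exact unique_invol_of_cyclic (center G) (h.cyc _ inferInstance hcomm) z z' hz hz' h2 h2' h1 h1'

/-- Lemma N: a noncentral normal subgroup meets `K` outside the centre. -/
theorem SType.exists_mem_KK (h : SType G) (N : Subgroup G) [hNn : N.Normal] (hN : ¬ N ≤ center G) :
    ∃ c ∈ N, c ∈ KK G ∧ c ∉ center G := by
  let π := QuotientGroup.mk' (center G)
  have hπ : Function.Surjective π := QuotientGroup.mk'_surjective _
  haveI : (N.map π).Normal := Subgroup.Normal.map hNn π hπ
  have hM : N.map π ≠ ⊥ := by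
    intro h0
    rw [Subgroup.map_eq_bot_iff, QuotientGroup.ker_mk'] at h0
    exact hN h0
  haveI : Fact (Nat.Prime 2) := ⟨Nat.prime_two⟩
  obtain ⟨x, hxM, hxc, hx1⟩ := normal_inf_center (h.isPGroup.to_quotient (center G)) (N.map π) hM
  obtain ⟨n, hnN, rfl⟩ := hxM
  have hn : n ∉ center G := by
    intro hn
    exact hx1 ((QuotientGroup.eq_one_iff n).mpr hn)
  have hc : ∀ g, cm n g ∈ center G := by
    intro g
    have h1 : π (cm n g) = 1 := by
      rw [map_cm']
      exact (mem_center_iff_cm _).mp hxc (π g)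
    exact (QuotientGroup.eq_one_iff _).mp h1
  by_cases h2 : n ^ 2 ∈ center G
  · exact ⟨n, hnN, mem_KK_of h2 hc, hn⟩
  · refine ⟨n ^ 2, pow_mem hnN 2, mem_KK_of ?_ ?_, h2⟩
    · rw [← pow_mul]
      rw [h.exp4 n]
      exact Subgroup.one_mem _
    · intro g
      rw [cm_sq_left n g (hc g)]
      exact pow_mem (hc g) 2

/-- Pair counting. -/
theorem pair_count
    (huniq : ∀ z z' : G, z ∈ center G → z' ∈ center G → z ^ 2 = 1 → z' ^ 2 = 1 → z ≠ 1 → z' ≠ 1 →
      z = z')
    (H : Subgroup G) (hH : H ≤ KK G) :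
    Nat.card G * Nat.card ((center G).subgroupOf H) =
      Nat.card H * Nat.card (centralizer (H : Set G)) := by
  classical
  haveI : Fintype G := Fintype.ofFinite G
  let sg : G → ℤ := fun x => if x = 1 then 1 else -1
  have sg_mul : ∀ x y : G, x ∈ center G → y ∈ center G → x ^ 2 = 1 → y ^ 2 = 1 →
      sg (x * y) = sg x * sg y := by
    intro x y hx hy hx2 hy2
    by_cases hx1 : x = 1
    · simp [sg, hx1]
    · by_cases hy1 : y = 1
      · simp [sg, hy1]
      · have hxy : x = y := huniq x y hx hy hx2 hy2 hx1 hy1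
        have : x * y = 1 := by rw [← hxy, ← pow_two, hx2]
        simp [sg, hx1, hy1, this]
  let f : G → G → ℤ := fun g k => sg (cm k g)
  have fmulg : ∀ k ∈ KK G, ∀ g g', f (g * g') k = f g k * f g' k := by
    intro k hk g g'
    change sg (cm k (g * g')) = sg (cm k g) * sg (cm k g')
    rw [cm_mul_right k g g' (hk g').1]
    exact sg_mul _ _ (hk g).1 (hk g').1 (hk g).2 (hk g').2
  have fmulk : ∀ g, ∀ k ∈ KK G, ∀ k' ∈ KK G, f g (k * k') = f g k * f g k' := by
    intro g k hk k' hk'
    change sg (cm (k * k') g) = sg (cm k g) * sg (cm k' g)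
    rw [cm_mul_left k k' g (hk' g).1, mul_comm (sg (cm k g))]
    exact sg_mul _ _ (hk' g).1 (hk g).1 (hk' g).2 (hk g).2
  have f_one : ∀ g k, f g k = 1 ↔ k * g = g * k := by
    intro g k
    change sg (cm k g) = 1 ↔ _
    rw [← cm_eq_one_iff]
    by_cases h1 : cm k g = 1
    · simp [sg, h1]
    · simp [sg, h1]
  have hrow : ∀ g, ∑ k : H, f g k =
      if g ∈ centralizer (H : Set G) then (Nat.card H : ℤ) else 0 := by
    intro g
    split_ifs with hg
    · have : ∀ k : H, f g k = 1 := by
        intro k
        rw [f_one]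
        exact mem_centralizer_iff.mp hg k.1 k.2
      simp only [this]
      rw [Finset.sum_const, Finset.card_univ, Nat.card_eq_fintype_card]
      simp
    · let φ : H →* ℤ :=
        { toFun := fun k => f g k
          map_one' := by
            change f g 1 = 1
            rw [f_one]
            simp
          map_mul' := fun k k' => fmulk g k.1 (hH k.2) k'.1 (hH k'.2) }
      have hφ : φ ≠ 1 := by
        intro hφ
        apply hg
        rw [mem_centralizer_iff]
        intro k hk
        have := DFunLike.congr_fun hφ ⟨k, hk⟩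
        change f g k = 1 at this
        exact (f_one g k).mp this
      exact sum_hom_units_eq_zero φ hφ
  have hcol : ∀ k : H, ∑ g : G, f g k =
      if (k : G) ∈ center G then (Nat.card G : ℤ) else 0 := by
    intro k
    split_ifs with hk
    · have : ∀ g : G, f g k = 1 := by
        intro g
        rw [f_one]
        exact (mem_center_iff.mp hk g).symm
      simp only [this]
      rw [Finset.sum_const, Finset.card_univ, Nat.card_eq_fintype_card]
      simp
    · let φ : G →* ℤ :=
        { toFun := fun g => f g k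
          map_one' := by
            change f 1 k = 1
            rw [f_one]
            simp
          map_mul' := fun g g' => fmulg k.1 (hH k.2) g g' }
      have hφ : φ ≠ 1 := by
        intro hφ
        apply hk
        rw [mem_center_iff]
        intro g
        have := DFunLike.congr_fun hφ g
        change f g k = 1 at this
        exact ((f_one g k).mp this).symm
      exact sum_hom_units_eq_zero φ hφ
  have e1 : ∑ g : G, ∑ k : H, f g k =
      (Nat.card (centralizer (H : Set G)) : ℤ) * Nat.card H := by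
    simp only [hrow]
    rw [Finset.sum_ite, Finset.sum_const_zero, add_zero, Finset.sum_const, nsmul_eq_mul]
    congr 1
    rw [Nat.card_eq_fintype_card, Fintype.card_subtype]
  have e2 : ∑ k : H, ∑ g : G, f g k =
      (Nat.card ((center G).subgroupOf H) : ℤ) * Nat.card G := by
    simp only [hcol]
    rw [Finset.sum_ite, Finset.sum_const_zero, add_zero, Finset.sum_const, nsmul_eq_mul]
    congr 1
    rw [Nat.card_eq_fintype_card, Fintype.card_subtype]
    simp only [Subgroup.mem_subgroupOf]
  rw [Finset.sum_comm, e2] at e1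
  have : ((Nat.card G * Nat.card ((center G).subgroupOf H) : ℕ) : ℤ) =
      ((Nat.card H * Nat.card (centralizer (H : Set G)) : ℕ) : ℤ) := by
    push_cast
    linarith
  exact_mod_cast this

end stype


section thmA

variable {G : Type*} [Group G]

/-- centre of `K` as a subgroup of `G`. -/
def ZK (G : Type*) [Group G] : Subgroup G := KK G ⊓ centralizer (KK G : Set G)

instance ZK_characteristic : (ZK G).Characteristic := by
  unfold ZK
  infer_instance

theorem ZK_comm : ∀ a ∈ ZK G, ∀ b ∈ ZK G, a * b = b * a := by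
  intro a ha b hb
  exact mem_centralizer_iff.mp hb.2 a ha.1

theorem center_le_ZK : center G ≤ ZK G :=
  le_inf center_le_KK (Subgroup.center_le_centralizer _)

variable [Finite G]

theorem SType.KK_eq_top_of_ZK_le (h : SType G) (hZK : ZK G ≤ center G) : KK G = ⊤ := by
  have hC : centralizer (KK G : Set G) ≤ center G := by
    by_contra hC
    obtain ⟨c, hcC, hcK, hcZ⟩ := h.exists_mem_KK (centralizer (KK G : Set G)) hC
    exact hcZ (hZK ⟨hcK, hcC⟩)
  have hC' : centralizer (KK G : Set G) = center G :=
    le_antisymm hC (Subgroup.center_le_centralizer _)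
  have hpc := pair_count h.unique_invol (KK G) le_rfl
  rw [hC', Nat.card_congr (Subgroup.subgroupOfEquivOfLe (center_le_KK (G := G))).toEquiv] at hpc
  have hpos : 0 < Nat.card (center G) := Nat.card_pos
  have : Nat.card (KK G) = Nat.card G := (Nat.eq_of_mul_eq_mul_right hpos hpc).symm
  exact (Subgroup.card_eq_iff_eq_top _).mp this

/-- Theorem A: centre of order 4. -/
theorem SType.KK_eq_top_of_center_four (h : SType G) (h4 : Nat.card (center G) = 4) :
    KK G = ⊤ := by
  apply h.KK_eq_top_of_ZK_le
  have hle : Nat.card (ZK G) ≤ 4 := h.card_le_four (ZK G) inferInstance ZK_comm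
  have : center G = ZK G := Subgroup.eq_of_le_of_card_ge center_le_ZK (by rw [h4]; exact hle)
  rw [← this]

theorem sq_mem_center_of_KK_top (hK : KK G = ⊤) (g : G) : g ^ 2 ∈ center G :=
  sq_mem_center_of_mem_KK (hK ▸ Subgroup.mem_top g)

theorem cm_mem_center_of_KK_top (hK : KK G = ⊤) (g k : G) :
    cm g k ∈ center G ∧ (cm g k) ^ 2 = 1 :=
  (hK ▸ Subgroup.mem_top g : g ∈ KK G) k

end thmA

end Cfsg.Agent.Lib.Helper8.Ext
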