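import Mathlib
import Cfsg.Agent.Lib.Helper6.Mult
import Cfsg.Agent.Lib.Helper6.Constituent

/-! Vanishing lemma: a character vanishing on the elements `c ^ k` (`r ∤ k`) of a cyclic
subgroup `⟨c⟩`, where the prime `r` divides the order of `c`, has degree divisible by `r`. -/

set_option autoImplicit false

namespace Cfsg.Agent.Lib.Helper8.ArtV

open scoped ComplexConjugate
open Cfsg.Agent.Lib.Helper6

/-- periodic natural sequences: the sum over `q * l` terms is `l` times the sum over a period -/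
lemma sum_periodic (f : ℕ → ℕ) (q : ℕ) (hf : ∀ j, f (j + q) = f j) (l : ℕ) :
    ∑ j ∈ Finset.range (q * l), f j = l * ∑ j ∈ Finset.range q, f j := by
  have hper : ∀ l j, f (q * l + j) = f j := by
    intro l
    induction l with
    | zero => intro j; simp
    | succ l ih =>
      intro j
      have : q * (l + 1) + j = (q * l + j) + q := by ring
      rw [this, hf, ih]
  induction l with
  | zero => simp
  | succ l ih =>
    rw [Nat.mul_succ, Finset.sum_range_add, ih]
    have : ∑ x ∈ Finset.range q, f (q * l + x) = ∑ x ∈ Finset.range q, f x :=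
      Finset.sum_congr rfl (fun x _ => hper l x)
    rw [this]; ring

variable {G : Type*} [Group G] [Fintype G]

theorem dvd_degree_of_vanish (χ : G → ℂ) (hχ : Cfsg.IsCharacter G χ) (c : G) (r : ℕ)
    (hr : r.Prime) (hdvd : r ∣ orderOf c) (hv : ∀ k : ℕ, ¬ r ∣ k → χ (c ^ k) = 0) :
    r ∣ Cfsg.charDegree χ := by
  classical
  set m := orderOf c with hm
  have hfin : IsOfFinOrder c := isOfFinOrder_of_finite c
  have hmpos : 0 < m := hfin.orderOf_pos
  have hm0 : m ≠ 0 := hmpos.ne'
  obtain ⟨q, hq⟩ := hdvd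
  -- hq : m = r * q
  set ζ : ℂ := Complex.exp (2 * Real.pi * Complex.I / m) with hζ
  have hprim : IsPrimitiveRoot ζ m := Complex.isPrimitiveRoot_exp m hm0
  have hζ0 : ζ ≠ 0 := hprim.ne_zero hm0
  set ζu : ℂˣ := Units.mk0 ζ hζ0 with hζu
  have hprimu : IsPrimitiveRoot ζu m := IsPrimitiveRoot.coe_units_iff.mp (show IsPrimitiveRoot ((ζu : ℂˣ) : ℂ) m from hprim)
  have hordu : orderOf ζu = m := (hprimu.eq_orderOf).symm
  -- the cyclic group
  set C := Subgroup.zpowers c with hC
  haveI : Fintype C := Fintype.ofFinite _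
  set c₁ : C := ⟨c, Subgroup.mem_zpowers c⟩ with hc₁
  have hgen : ∀ x : C, x ∈ Subgroup.zpowers c₁ := by
    rintro ⟨x, hx⟩
    obtain ⟨i, hi⟩ := Subgroup.mem_zpowers_iff.mp hx
    refine Subgroup.mem_zpowers_iff.mpr ⟨i, ?_⟩
    apply Subtype.ext
    simp [hc₁, hi]
  have hordc₁ : orderOf c₁ = m := by
    rw [hm, hc₁]; exact (Subgroup.orderOf_mk c _)
  have hdj : ∀ j : ℕ, orderOf (ζu ^ j) ∣ orderOf c₁ := by
    intro j; rw [hordc₁, ← hordu]; exact orderOf_pow_dvd j
  let L : ℕ → (C →* ℂˣ) := fun j => monoidHomOfForallMemZpowers hgen (hdj j)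
  have hL : ∀ j, L j c₁ = ζu ^ j := fun j => monoidHomOfForallMemZpowers_apply_gen hgen (hdj j)
  set ψ : C → ℂ := fun x => χ x with hψ
  have hψc : Cfsg.IsCharacter C ψ := IsCharacter.restrict C hχ
  -- the multiplicities
  let A : ℕ → ℂ := fun j => (m : ℂ)⁻¹ * ∑ k ∈ Finset.range m, χ (c ^ k) * (conj ζ) ^ (j * k)
  have hA : ∀ j, Cfsg.classInner ψ (fun x => ((L j x : ℂˣ) : ℂ)) = A j := by
    intro j
    unfold Cfsg.classInner
    have hcard : Nat.card C = m := Nat.card_zpowers c
    rw [hcard]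
    congr 1
    rw [← Equiv.sum_comp (finEquivZPowers hfin)]
    rw [← Fin.sum_univ_eq_sum_range (fun k => χ (c ^ k) * (conj ζ) ^ (j * k)) m]
    apply Finset.sum_congr rfl
    intro k _
    have hk : (finEquivZPowers hfin) k = c₁ ^ (k : ℕ) := by
      rw [finEquivZPowers_apply]
      apply Subtype.ext
      simp [hc₁]
    rw [hk]
    show ψ (c₁ ^ (k : ℕ)) * conj (((L j) (c₁ ^ (k : ℕ)) : ℂˣ) : ℂ) = _
    rw [map_pow, hL]
    have h1 : ψ (c₁ ^ (k : ℕ)) = χ (c ^ (k : ℕ)) := by
      simp [hψ, hc₁]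
    rw [h1]
    congr 1
    simp only [Units.val_pow_eq_pow_val, hζu, Units.val_mk0, map_pow, pow_mul]
  have hnat : ∀ j, ∃ n : ℕ, A j = n := by
    intro j
    rw [← hA j]
    exact IsCharacter.classInner_irr_nat hψc (isIrrCharacter_of_hom (L j))
  choose f hf using hnat
  -- periodicity
  have hconjm : (conj ζ) ^ m = 1 := by
    rw [← map_pow, hprim.pow_eq_one, map_one]
  have hper : ∀ j, A (j + q) = A j := by
    intro j
    show (m : ℂ)⁻¹ * _ = (m : ℂ)⁻¹ * _
    congr 1
    apply Finset.sum_congr rfl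
    intro k _
    by_cases hrk : r ∣ k
    · obtain ⟨k', hk'⟩ := hrk
      have : (j + q) * k = j * k + m * k' := by rw [hq, hk']; ring
      rw [this, pow_add, pow_mul (conj ζ) m k', hconjm, one_pow, mul_one]
    · rw [hv k hrk, zero_mul, zero_mul]
  have hperf : ∀ j, f (j + q) = f j := by
    intro j
    have := hper j
    rw [hf, hf] at this
    exact_mod_cast this
  -- total
  have hsum : ∑ j ∈ Finset.range m, A j = χ 1 := by
    show ∑ j ∈ Finset.range m, (m : ℂ)⁻¹ * _ = _
    rw [← Finset.mul_sum, Finset.sum_comm]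
    have hinner : ∀ k ∈ Finset.range m,
        ∑ j ∈ Finset.range m, χ (c ^ k) * (conj ζ) ^ (j * k) =
          if k = 0 then (m : ℂ) * χ 1 else 0 := by
      intro k hk
      have hkm : k < m := Finset.mem_range.mp hk
      rw [← Finset.mul_sum]
      split_ifs with h0
      · subst h0
        simp [mul_comm]
      · have hne : (conj ζ) ^ k ≠ 1 := by
          intro h1
          have h2 : ζ ^ k = 1 := by
            have := congrArg conj h1
            simpa [map_pow] using this
          exact hprim.pow_ne_one_of_pos_of_lt h0 hkm h2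
        have hgeo : ∑ j ∈ Finset.range m, (conj ζ) ^ (j * k) = 0 := by
          have h3 : ∀ j, (conj ζ) ^ (j * k) = ((conj ζ) ^ k) ^ j := by
            intro j; rw [← pow_mul, mul_comm]
          simp only [h3]
          rw [geom_sum_eq hne, ← pow_mul, mul_comm k m, pow_mul, hconjm, one_pow, sub_self,
            zero_div]
        rw [hgeo, mul_zero]
    rw [Finset.sum_congr rfl hinner, Finset.sum_ite_eq' (Finset.range m) 0]
    simp only [Finset.mem_range, hmpos, if_true]
    field_simp
  have hdeg : χ 1 = (Cfsg.charDegree χ : ℂ) := IsCharacter.apply_one_eq_charDegree hχ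
  have hsumf : ∑ j ∈ Finset.range m, f j = Cfsg.charDegree χ := by
    have h1 : ((∑ j ∈ Finset.range m, f j : ℕ) : ℂ) = (Cfsg.charDegree χ : ℂ) := by
      rw [← hdeg, ← hsum, Nat.cast_sum]
      exact Finset.sum_congr rfl (fun j _ => (hf j).symm)
    exact_mod_cast h1
  have hmq : m = q * r := by rw [hq, mul_comm]
  rw [← hsumf, hmq, sum_periodic f q hperf r]
  exact Dvd.intro _ rfl

end Cfsg.Agent.Lib.Helper8.ArtV
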