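import Mathlib
import Cfsg.Agent.Lib.Helper6.QuasiElem
import Cfsg.Agent.Lib.Helper8.ArtV

/-!
Bridge lemmas for the S0996 formalization: the permutation character induced from a point
stabilizer counts fixed points; specialised to the normalizer of a Sylow subgroup acting on
`Sylow p G`.  Also a `Finite` version of the vanishing lemma.
-/

namespace Cfsg.Agent.Lib.Helper8.ArtV

open Cfsg.Agent.Lib.Helper6

/-- The permutation character of a transitive action: `1_H^G` for a point stabilizer `H`
counts fixed points. -/
theorem indFun_one_stabilizer_eq_fixedBy {G X : Type*} [Group G] [Fintype G] [MulAction G X]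
    [MulAction.IsPretransitive G X] (x : X) (g : G) :
    Cfsg.indFun (MulAction.stabilizer G x) (fun _ => (1 : ℂ)) g
      = ((MulAction.fixedBy X g).ncard : ℂ) := by
  classical
  haveI : Fintype (G ⧸ MulAction.stabilizer G x) := Fintype.ofFinite _
  rw [indFun_one_eq_card_fixed]
  congr 1
  have hinj := MulAction.injective_ofQuotientStabilizer G x
  have himg : MulAction.fixedBy X g
      = (MulAction.ofQuotientStabilizer G x) ''
          {q : G ⧸ MulAction.stabilizer G x | g • q = q} := by
    ext y
    constructor
    · intro hy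
      obtain ⟨a, ha⟩ := MulAction.exists_smul_eq G x y
      refine ⟨(a : G ⧸ MulAction.stabilizer G x), ?_, ?_⟩
      · apply hinj
        rw [MulAction.ofQuotientStabilizer_smul, MulAction.ofQuotientStabilizer_mk, ha]
        exact hy
      · rw [MulAction.ofQuotientStabilizer_mk, ha]
    · rintro ⟨q, hq, rfl⟩
      show g • _ = _
      rw [← MulAction.ofQuotientStabilizer_smul, hq]
  rw [himg, Set.ncard_image_of_injective _ hinj, ← Set.ncard_coe_finset]
  congr 1
  ext q
  simp

/-- The permutation character `1_{N(P)}^G` counts the fixed points on `Sylow p G`. -/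
theorem indFun_one_normalizer_eq_fixedBy {G : Type*} [Group G] [Fintype G] (p : ℕ)
    [Fact p.Prime] (P : Sylow p G) (h : G) :
    Cfsg.indFun (Subgroup.normalizer ((P : Subgroup G) : Set G)) (fun _ => (1 : ℂ)) h
      = ((MulAction.fixedBy (Sylow p G) h).ncard : ℂ) := by
  have h1 := indFun_one_stabilizer_eq_fixedBy (G := G) (X := Sylow p G) P h
  rw [← h1]
  have h2 : MulAction.stabilizer G P = Subgroup.normalizer ((P : Subgroup G) : Set G) :=
    Sylow.stabilizer_eq_normalizer P
  rw [h2]

/-- `Finite` version of `dvd_degree_of_vanish`. -/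
theorem dvd_degree_of_vanish_finite {G : Type*} [Group G] [Finite G] (χ : G → ℂ)
    (hχ : Cfsg.IsCharacter G χ) (c : G) (r : ℕ) (hr : r.Prime) (hdvd : r ∣ orderOf c)
    (hv : ∀ k : ℕ, ¬ r ∣ k → χ (c ^ k) = 0) : r ∣ Cfsg.charDegree χ := by
  haveI : Fintype G := Fintype.ofFinite G
  exact dvd_degree_of_vanish χ hχ c r hr hdvd hv

end Cfsg.Agent.Lib.Helper8.ArtV
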