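import Mathlib

set_option autoImplicit false

/-!
Farm OMM (statement S2346, minimal degree of `Ω⁻_{2n}(q)`): the integrality contradictions, as
statements about integers.  `t = q ^ (n - 2)`, so `q ^ n = q² t`, `q ^ (n-1) = q t`,
`q ^ (2n-3) = q t²`.

* `arith_A`: `k = d_n - 1` cannot divide `|T| q^(2n-3)` (`n ≥ 4`, all `q ≥ 2`);
* `arith_B`: for `n = 4`, `k = d_4 - 2 = q⁵ + q - 2` cannot divide `|T| q⁵` when `q ≥ 3`.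
-/

namespace Cfsg.Agent.Lib.Helper8.OMM

/-- `k = d_n - 1` is excluded: `(q² - 1) k = (q^(n-1) + 1) M` with `M = q^n - q² - q + 1`, and
`k ∣ |T| q^(2n-3)` would force `M ∣ (q² - 1)² < M`. -/
theorem arith_A (q t k T : ℤ) (j : ℕ) (hq : 2 ≤ q) (hj : 2 ≤ j) (ht : t = q ^ j)
    (hk : (q ^ 2 - 1) * k = (q * t + 1) * (q ^ 2 * t - q ^ 2 - q + 1))
    (hT : (q ^ 2 - 1) * T = (q ^ 2 * t + 1) * (q * t - 1) * (q * t + 1) * (t - 1))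
    (hdvd : k ∣ T * (q * t ^ 2)) : False := by
  have hq0 : (0 : ℤ) < q := by linarith
  have hq1 : (1 : ℤ) ≤ q := by linarith
  have ht2 : q ^ 2 ≤ t := by
    rw [ht]
    exact pow_le_pow_right₀ hq1 hj
  have hq2 : (4 : ℤ) ≤ q ^ 2 := by nlinarith
  have htpos : (0 : ℤ) < t := by linarith
  obtain ⟨c, hc⟩ := hdvd
  have h1 : (q * t + 1) * ((q ^ 2 * t - q ^ 2 - q + 1) * c) =
      (q * t + 1) * ((q ^ 2 * t + 1) * (q * t - 1) * (t - 1) * (q * t ^ 2)) := by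
    linear_combination (q * t ^ 2) * hT - (q ^ 2 - 1) * hc - c * hk
  have hne : q * t + 1 ≠ 0 := by
    have : 0 < q * t := mul_pos hq0 htpos
    linarith
  have h2 : (q ^ 2 * t - q ^ 2 - q + 1) * c =
      (q ^ 2 * t + 1) * (q * t - 1) * (t - 1) * (q * t ^ 2) := mul_left_cancel₀ hne h1
  have hd2 : (q ^ 2 * t - q ^ 2 - q + 1) ∣
      (q ^ 2 * t + 1) * (q * t - 1) * (t - 1) * (q * t ^ 2) := ⟨c, h2.symm⟩
  have hcop_q : IsCoprime (q ^ 2 * t - q ^ 2 - q + 1) q := ⟨1, -(q * t - q - 1), by ring⟩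
  have hcop_t : IsCoprime (q ^ 2 * t - q ^ 2 - q + 1) t := by
    rw [ht]
    have := hcop_q.pow_right (n := j)
    rwa [ht] at this
  have hcop : IsCoprime (q ^ 2 * t - q ^ 2 - q + 1) (q * t ^ 2) :=
    hcop_q.mul_right hcop_t.pow_right
  have hd3 : (q ^ 2 * t - q ^ 2 - q + 1) ∣ (q ^ 2 * t + 1) * (q * t - 1) * (t - 1) :=
    hcop.dvd_of_dvd_mul_right hd2
  have hd4 : (q ^ 2 * t - q ^ 2 - q + 1) ∣
      q ^ 3 * ((q ^ 2 * t + 1) * (q * t - 1) * (t - 1)) := Dvd.dvd.mul_left hd3 _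
  have hid : q ^ 3 * ((q ^ 2 * t + 1) * (q * t - 1) * (t - 1)) =
      (q ^ 2 * t - q ^ 2 - q + 1) * ((q ^ 2 * t - q ^ 2 - q + 1) ^ 2 +
        (2 * q ^ 2 + 2 * q - 2) * (q ^ 2 * t - q ^ 2 - q + 1) +
        ((q ^ 2 + q) * (q ^ 2 - 1) + (q ^ 2 + q) * (q - 1) + (q ^ 2 - 1) * (q - 1))) +
      q * (q ^ 2 - 1) ^ 2 := by ring
  have hd5 : (q ^ 2 * t - q ^ 2 - q + 1) ∣ q * (q ^ 2 - 1) ^ 2 := by
    rw [hid] at hd4
    exact (Int.dvd_add_right (Dvd.intro _ rfl)).1 hd4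
  have hd6 : (q ^ 2 * t - q ^ 2 - q + 1) ∣ (q ^ 2 - 1) ^ 2 :=
    hcop_q.dvd_of_dvd_mul_left hd5
  have hpos : (0 : ℤ) < (q ^ 2 - 1) ^ 2 := by
    apply pow_pos
    linarith
  have hle := Int.le_of_dvd hpos hd6
  have h3 : q ^ 2 * q ^ 2 ≤ q ^ 2 * t := mul_le_mul_of_nonneg_left ht2 (sq_nonneg q)
  nlinarith

/-- for `n = 4`, `k = d_4 - 2 = q⁵ + q - 2 = (q - 1)(q⁴ + q³ + q² + q + 2)` is excluded when
`q ≥ 3`: `|T| q⁵ = (q⁴ + 1)(q⁶ - 1) q⁵` is `-2 (q³ + q² + 4)` modulo `q⁴ + q³ + q² + q + 2`. -/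
theorem arith_B (q k : ℤ) (hq : 3 ≤ q) (hk : k = q ^ 5 + q - 2)
    (hdvd : k ∣ (q ^ 4 + 1) * (q ^ 6 - 1) * q ^ 5) : False := by
  obtain ⟨c, hc⟩ := hdvd
  have hne : q - 1 ≠ 0 := by linarith
  have h1 : (q - 1) * ((q ^ 4 + q ^ 3 + q ^ 2 + q + 2) * c) =
      (q - 1) * ((q ^ 4 + 1) * (q ^ 5 + q ^ 4 + q ^ 3 + q ^ 2 + q + 1) * q ^ 5) := by
    rw [hk] at hc
    linear_combination -hc
  have h2 := mul_left_cancel₀ hne h1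
  have hd : (q ^ 4 + q ^ 3 + q ^ 2 + q + 2) ∣
      (q ^ 4 + 1) * (q ^ 5 + q ^ 4 + q ^ 3 + q ^ 2 + q + 1) * q ^ 5 := ⟨c, h2.symm⟩
  have hid : (q ^ 4 + 1) * (q ^ 5 + q ^ 4 + q ^ 3 + q ^ 2 + q + 1) * q ^ 5 =
      (q ^ 4 + q ^ 3 + q ^ 2 + q + 2) * (q ^ 10 + 2 * q ^ 5 - q ^ 4 - 2 * q + 4) +
        -(2 * (q ^ 3 + q ^ 2 + 4)) := by ring
  have hd2 : (q ^ 4 + q ^ 3 + q ^ 2 + q + 2) ∣ -(2 * (q ^ 3 + q ^ 2 + 4)) := by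
    rw [hid] at hd
    exact (Int.dvd_add_right (Dvd.intro _ rfl)).1 hd
  have hd3 : (q ^ 4 + q ^ 3 + q ^ 2 + q + 2) ∣ 2 * (q ^ 3 + q ^ 2 + 4) := (Int.dvd_neg).1 hd2
  have hq2 : (9 : ℤ) ≤ q ^ 2 := by nlinarith
  have hq3 : (0 : ℤ) < q ^ 3 := by positivity
  have hpos : (0 : ℤ) < 2 * (q ^ 3 + q ^ 2 + 4) := by nlinarith
  have hle := Int.le_of_dvd hpos hd3
  have hq4 : q ^ 4 = q ^ 2 * q ^ 2 := by ring
  have hq3' : q ^ 3 = q * q ^ 2 := by ring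
  nlinarith [mul_le_mul_of_nonneg_right hq (sq_nonneg q), mul_nonneg (sq_nonneg q) (sq_nonneg q)]

end Cfsg.Agent.Lib.Helper8.OMM
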