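import Mathlib
import Cfsg.Agent.Lib.Helper6.OMMArith
import Cfsg.Agent.Lib.Helper8.OMMArith

set_option autoImplicit false

/-!
Farm OMM (S2346): the integrality exclusion `k = d_n - 1` in the natural-number shape of helper6's
`Dn`, `dn`, `Ns`.
-/

namespace Cfsg.Agent.Lib.Helper8.OMM

open Cfsg.Agent.Lib.Helper6.OMMArith

/-- `k + 1 = d_n` (with `n = j + 2`) is impossible when `k ∣ |T| q^(2n-3)`,
`|T| (q² - 1) = N_s(V) N_s(W)` -/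
theorem arith_A_nat (q j k T : ℕ) (hq : 2 ≤ q) (hj : 2 ≤ j) (hk : k + 1 = dn q (j + 2))
    (hT : T * (q ^ 2 - 1) = Ns q (j + 1) * Ns q j) (hdvd : k ∣ T * q ^ (2 * j + 1)) : False := by
  have hD := Dn_eq q (by omega) j
  rw [← hk] at hD
  have ht1 : 1 ≤ q ^ j := Nat.one_le_pow _ _ (by omega)
  have hqt : q ≤ q * q ^ j := by nlinarith
  have hq2 : 1 ≤ q ^ 2 := Nat.one_le_pow _ _ (by omega)
  have h1 : q ≤ q ^ (j + 2 - 1) := by
    have : j + 2 - 1 = j + 1 := by omega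
    rw [this, pow_succ]
    nlinarith
  -- casts
  have hDz : ((q : ℤ) ^ 2 - 1) * ((k : ℤ) + 1) =
      ((q : ℤ) ^ (j + 2) + 1) * ((q : ℤ) ^ (j + 1) - q) := by
    have h2 : ((Dn q (j + 2) : ℕ) : ℤ) = (((q ^ 2 - 1) * (k + 1) : ℕ) : ℤ) := by rw [hD]
    unfold Dn at h2
    have e1 : j + 2 - 1 = j + 1 := by omega
    rw [e1] at h2 h1
    push_cast [Nat.cast_sub h1, Nat.cast_sub hq2] at h2
    linarith
  have hTz : ((q : ℤ) ^ 2 - 1) * (T : ℤ) =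
      ((q : ℤ) ^ (j + 2) + 1) * ((q : ℤ) ^ (j + 1) - 1) * (((q : ℤ) ^ (j + 1) + 1) * ((q : ℤ) ^ j - 1)) := by
    have h2 : ((T * (q ^ 2 - 1) : ℕ) : ℤ) = ((Ns q (j + 1) * Ns q j : ℕ) : ℤ) := by rw [hT]
    unfold Ns at h2
    have h3 : 1 ≤ q ^ (j + 1) := Nat.one_le_pow _ _ (by omega)
    push_cast [Nat.cast_sub h3, Nat.cast_sub ht1, Nat.cast_sub hq2] at h2
    linarith
  refine arith_A (q : ℤ) ((q : ℤ) ^ j) (k : ℤ) (T : ℤ) j (by exact_mod_cast hq) hj rfl ?_ ?_ ?_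
  · have : ((q : ℤ) ^ 2 - 1) * (k : ℤ) =
        ((q : ℤ) ^ (j + 2) + 1) * ((q : ℤ) ^ (j + 1) - q) - ((q : ℤ) ^ 2 - 1) := by linarith
    rw [this]
    ring
  · rw [hTz]
    ring
  · have : ((T * q ^ (2 * j + 1) : ℕ) : ℤ) = (T : ℤ) * ((q : ℤ) * ((q : ℤ) ^ j) ^ 2) := by
      push_cast
      ring
    rw [← this]
    exact_mod_cast hdvd

end Cfsg.Agent.Lib.Helper8.OMM
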