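import Mathlib
import Cfsg.Prelude
import Cfsg.Agent.Lib.Helper1.OMMInst
import Cfsg.Agent.Lib.Helper5.OMPI3b
import Cfsg.Agent.Lib.Helper6.OMMTCount
import Cfsg.Agent.Lib.Helper7.OMPI1
import Cfsg.Agent.Lib.Helper8.OMMArithN

set_option autoImplicit false
set_option linter.unusedSectionVars false
set_option linter.unusedVariables false
open Cfsg

/-!
Farm OMM (statement S2346), unit INTEG: the integrality step.  Every long root element of
`Ω(hypExt Qκ)` is `Ω`-conjugate to an element `uE H w` of the unipotent radical with `w` singular and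
non-zero; hence a character that takes the value `k - c` on those takes it on the whole class `T` of
long root elements, and `k ∣ |T| c` for an irreducible representation of degree `k`.  For the
minus-type form this excludes `k + 1 = d_n`.
-/

namespace Cfsg.Agent.Lib.Helper8.OMMInteg

open Matrix QuadraticMap Cfsg.Agent.Lib.Helper5.CartanDieudonne Cfsg.Agent.Lib.Helper5.Refl
  Cfsg.Agent.Lib.Helper5.OrthCard Cfsg.Agent.Lib.Helper5.Siegel Cfsg.Agent.Lib.Helper5.QuadIsom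
  Cfsg.Agent.Lib.Helper5.Eichler Cfsg.Agent.Lib.Helper5.OmegaSimple Cfsg.Agent.Lib.Helper5.OMP
  Cfsg.Agent.Lib.Helper1.OMMI

variable {κ : Type} [Fintype κ] [DecidableEq κ] {F : Type*} [Field F] [Fintype F] [DecidableEq F]
  {Qκ : QuadraticForm F (κ → F)}

theorem eH_ne_zero : (eH F κ : Fin 2 ⊕ κ → F) ≠ 0 := by
  intro h
  have := congrFun h (Sum.inl 0)
  simp [eH] at this

/-- the Siegel element of a totally singular pair is an Eichler element -/
theorem sg_eq_eich {ι : Type} [Fintype ι] [DecidableEq ι] {Q : QuadraticForm F (ι → F)}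
    (a b : ι → F) (hab : IsTS Q a b) : sg a b hab = eich Q a b hab.1 hab.2.2.1 := by
  unfold sg
  rw [eich_eq_siegel Q a b hab.1 hab.2.2.1 hab.2.1]

theorem sg_mem_Omega {ι : Type} [Fintype ι] [DecidableEq ι] {Q : QuadraticForm F (ι → F)}
    (H : Hyp Q) (a b : ι → F) (hab : IsTS Q a b) : sg a b hab ∈ Omega F ⇑Q := by
  rw [sg_eq_eich]
  exact eich_mem_Omega H _ _ _ _

/-- every long root element is `Ω`-conjugate into the unipotent radical -/
theorem exists_conj_uE (H : Hyp (hypExt Qκ)) (a b : Fin 2 ⊕ κ → F) (hab : IsTS (hypExt Qκ) a b) :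
    ∃ (g : ↥(Omega F ⇑(hypExt Qκ))) (w : κ → F), w ≠ 0 ∧ Qκ w = 0 ∧
      g.1 * sg a b hab * g.1⁻¹ = (uE H w).1 := by
  have ha0 : a ≠ 0 := hab.swap.ne_zero_right
  obtain ⟨g, hg, c, hc, hga⟩ := move H a (eH F κ) ha0 eH_ne_zero hab.1 (hypExt_eH Qκ)
  set b' := act (hypExt Qκ) g b with hb'
  have hts := isTS_act g hab
  rw [hga, ← hb'] at hts
  -- `polar eH b' = 0`
  have hpb : polar (hypExt Qκ) (eH F κ) b' = 0 := by
    have h1 := hts.2.2.1
    rw [polar_smul_left, smul_eq_mul] at h1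
    exact (mul_eq_zero.mp h1).resolve_left hc
  set z := c • b' with hz
  have hpz : polar (hypExt Qκ) (eH F κ) z = 0 := by
    rw [hz, polar_smul_right, hpb, smul_zero]
  have hQz : hypExt Qκ z = 0 := by
    rw [hz, QuadraticMap.map_smul, hts.2.1, smul_zero]
  have hzdec := eq_ext0_add Qκ z hpz
  set w := kp z with hw
  refine ⟨⟨g, hg⟩, w, ?_, ?_, ?_⟩
  · intro hw0
    rw [hw0] at hzdec
    have h0 : (ext0 (0 : κ → F) : Fin 2 ⊕ κ → F) = 0 := by
      funext x
      rcases x with x | x <;> simp [ext0]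
    rw [h0, zero_add] at hzdec
    have h2 := hts.2.2.2 (-(z (Sum.inl 0)) * c⁻¹) c (by
      rw [smul_smul, mul_assoc, inv_mul_cancel₀ hc, mul_one, ← hz, neg_smul]
      conv_lhs => rw [hzdec]
      simp)
    exact hc h2.2
  · rw [← hypExt_ext0 Qκ w]
    have h1 := quad_add_smul_sing (hypExt Qκ) (eH F κ) (ext0 w) (hypExt_eH Qκ)
      (polar_eH_ext0 Qκ w) (z (Sum.inl 0))
    rw [← hzdec, hQz] at h1
    exact h1.symm
  · show g * sg a b hab * g⁻¹ = (uE H w).1
    rw [sg_eq_eich, conj_eich, uE_coe]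
    have hpz' : polar (hypExt Qκ) (eH F κ) (ext0 w + z (Sum.inl 0) • eH F κ) = 0 := by
      rw [← hzdec]; exact hpz
    calc eich (hypExt Qκ) (act (hypExt Qκ) g a) (act (hypExt Qκ) g b) _ _
        = eich (hypExt Qκ) (c • eH F κ) b'
            (by rw [QuadraticMap.map_smul, hypExt_eH, smul_zero])
            (by rw [polar_smul_left, hpb, smul_zero]) :=
          eich_congr (hypExt Qκ) hga rfl _ _ _ _
      _ = eich (hypExt Qκ) (eH F κ) (c • b') (hypExt_eH Qκ)
            (by rw [polar_smul_right, hpb, smul_zero]) :=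
          eich_smul_left (hypExt Qκ) (eH F κ) b' (hypExt_eH Qκ) hpb c
      _ = eich (hypExt Qκ) (eH F κ) (ext0 w + z (Sum.inl 0) • eH F κ) (hypExt_eH Qκ) hpz' :=
          eich_congr (hypExt Qκ) rfl hzdec _ _ _ _
      _ = eich (hypExt Qκ) (eH F κ) (ext0 w) (hypExt_eH Qκ) (polar_eH_ext0 Qκ w) :=
          eich_add_smul_self (hypExt Qκ) (eH F κ) (ext0 w) (hypExt_eH Qκ) (polar_eH_ext0 Qκ w)
            (z (Sum.inl 0)) hpz'

/-- a class function that is constant on the `uE H w`, `w` singular non-zero, is constant on the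
long root elements -/
theorem character_sg (H : Hyp (hypExt Qκ)) {V : Type*} [AddCommGroup V] [Module ℂ V]
    [FiniteDimensional ℂ V] (ρ : Representation ℂ ↥(Omega F ⇑(hypExt Qκ)) V) (c₀ : ℂ)
    (hχ : ∀ w : κ → F, w ≠ 0 → Qκ w = 0 → ρ.character (uE H w) = c₀)
    (a b : Fin 2 ⊕ κ → F) (hab : IsTS (hypExt Qκ) a b) :
    ρ.character ⟨sg a b hab, sg_mem_Omega H a b hab⟩ = c₀ := by
  obtain ⟨g, w, hw0, hQw, hconj⟩ := exists_conj_uE H a b hab
  rw [← hχ w hw0 hQw]
  have h1 : uE H w = g * ⟨sg a b hab, sg_mem_Omega H a b hab⟩ * g⁻¹ := by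
    apply Subtype.ext
    rw [Subgroup.coe_mul, Subgroup.coe_mul, Subgroup.coe_inv, ← hconj]
  rw [h1, Representation.char_conj]

/-- integrality: `k ∣ |T| c` when the character is `k - c` on the long root elements -/
theorem dvd_card_rootClass_mul (H : Hyp (hypExt Qκ)) {V : Type*} [AddCommGroup V] [Module ℂ V]
    [FiniteDimensional ℂ V] (ρ : Representation ℂ ↥(Omega F ⇑(hypExt Qκ)) V)
    (hirr : ρ.IsIrreducible) (c : ℤ)
    (hχ : ∀ w : κ → F, w ≠ 0 → Qκ w = 0 →
      ρ.character (uE H w) = (Module.finrank ℂ V : ℂ) - (c : ℂ))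
    (a₀ b₀ : Fin 2 ⊕ κ → F) (h₀ : IsTS (hypExt Qκ) a₀ b₀) :
    (Module.finrank ℂ V : ℤ) ∣
      (Nat.card {x : ↥(isometryGroup F ⇑(hypExt Qκ)) // x ∈ rootClass a₀ b₀ h₀} : ℤ) * c := by
  classical
  have : FiniteDimensional F (Fin 2 ⊕ κ → F) := inferInstance
  let _ : Fintype ↥(Omega F ⇑(hypExt Qκ)) := Fintype.ofFinite _
  set T : Finset ↥(Omega F ⇑(hypExt Qκ)) :=
    Finset.univ.filter (fun g => g.1 ∈ rootClass a₀ b₀ h₀) with hT
  have hmemT : ∀ t : ↥(Omega F ⇑(hypExt Qκ)), t ∈ T ↔ t.1 ∈ rootClass a₀ b₀ h₀ := by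
    intro t
    rw [hT, Finset.mem_filter]
    exact ⟨fun h => h.2, fun h => ⟨Finset.mem_univ _, h⟩⟩
  have hTn : ∀ t ∈ T, ∀ g : ↥(Omega F ⇑(hypExt Qκ)), g * t * g⁻¹ ∈ T := by
    intro t ht g
    rw [hT, Finset.mem_filter] at ht ⊢
    refine ⟨Finset.mem_univ _, ?_⟩
    obtain ⟨o, s, hs, hx⟩ := ht.2
    refine ⟨g.1 * o, s, hs, ?_⟩
    rw [Subgroup.coe_mul, Subgroup.coe_mul, Subgroup.coe_inv, hx, _root_.mul_inv_rev]
    simp only [mul_assoc]
  have hval : ∀ t ∈ T, ρ.character t = (Module.finrank ℂ V : ℂ) - (c : ℂ) := by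
    intro t ht
    rw [hT, Finset.mem_filter] at ht
    obtain ⟨a, b, hab, hx⟩ := (mem_rootClass_iff H.nondeg a₀ b₀ h₀ t.1).1 ht.2
    have h1 := character_sg H ρ _ hχ a b hab
    have h2 : t = ⟨sg a b hab, sg_mem_Omega H a b hab⟩ := Subtype.ext hx
    rw [h2]
    exact h1
  have hsum : ∑ t ∈ T, ρ.character t =
      (((T.card : ℤ) * ((Module.finrank ℂ V : ℤ) - c) : ℤ) : ℂ) := by
    rw [Finset.sum_congr rfl hval, Finset.sum_const, nsmul_eq_mul]
    push_cast
    ring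
  have hd := Cfsg.Agent.Lib.Helper7.OMP.dvd_sum_character_of_normalSet ρ hirr T hTn _ hsum
  have hcard : T.card = Nat.card {x : ↥(isometryGroup F ⇑(hypExt Qκ)) // x ∈ rootClass a₀ b₀ h₀} := by
    rw [← Nat.card_eq_finsetCard T]
    apply Nat.card_congr
    exact
      { toFun := fun t => ⟨t.1.1, (hmemT t.1).1 t.2⟩
        invFun := fun x => ⟨⟨x.1, by
          obtain ⟨a, b, hab, hx⟩ := (mem_rootClass_iff H.nondeg a₀ b₀ h₀ x.1).1 x.2
          rw [hx]
          exact sg_mem_Omega H a b hab⟩, (hmemT _).2 x.2⟩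
        left_inv := fun t => rfl
        right_inv := fun x => rfl }
  rw [← hcard]
  have h3 : (T.card : ℤ) * c =
      (T.card : ℤ) * (Module.finrank ℂ V : ℤ) - (T.card : ℤ) * ((Module.finrank ℂ V : ℤ) - c) := by
    ring
  rw [h3]
  exact dvd_sub (dvd_mul_left _ _) hd

section minus

open Cfsg.Agent.Lib.Helper5.OrthPlane Cfsg.Agent.Lib.Helper6.OMMArith

variable {a b : F}

/-- a totally singular pair of `hypExt Qκ` from a non-zero singular vector of `Qκ` -/
theorem isTS_eH_ext0 (w : κ → F) (hw0 : w ≠ 0) (hQw : Qκ w = 0) :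
    IsTS (hypExt Qκ) (eH F κ) (ext0 w) := by
  refine ⟨hypExt_eH Qκ, by rw [hypExt_ext0, hQw], polar_eH_ext0 Qκ w, ?_⟩
  intro s t hst
  have h1 := congrFun hst (Sum.inl 0)
  simp [eH, ext0] at h1
  refine ⟨h1, ?_⟩
  by_contra ht
  apply hw0
  funext k
  have h2 := congrFun hst (Sum.inr k)
  simp [eH, ext0] at h2
  rcases h2 with h2 | h2
  · exact absurd h2 ht
  · exact h2

/-- the exclusion of `k + 1 = d_n` for the minus-type form, `n = j + 2` -/
theorem integ_false (han : ∀ v : Fin 2 → F, binForm a b v = 0 → v = 0) (j : ℕ) (hj : 2 ≤ j)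
    (H : Hyp (hypExt (genForm (binForm a b) j))) {V : Type*} [AddCommGroup V] [Module ℂ V]
    [FiniteDimensional ℂ V]
    (ρ : Representation ℂ ↥(Omega F ⇑(hypExt (genForm (binForm a b) j))) V)
    (hirr : ρ.IsIrreducible)
    (hχ : ∀ w : (Fin j ⊕ Fin j) ⊕ Fin 2 → F, w ≠ 0 → genForm (binForm a b) j w = 0 →
      ρ.character (uE H w) =
        (Module.finrank ℂ V : ℂ) - ((Fintype.card F : ℂ)) ^ (2 * j + 1))
    (hk : Module.finrank ℂ V + 1 = dn (Fintype.card F) (j + 2)) : False := by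
  classical
  obtain ⟨i0⟩ : Nonempty (Fin j) := ⟨⟨0, by omega⟩⟩
  set w0 : (Fin j ⊕ Fin j) ⊕ Fin 2 → F := Pi.single (Sum.inl (Sum.inl i0)) 1 with hw0
  have hw0ne : w0 ≠ 0 := by
    intro h
    have := congrFun h (Sum.inl (Sum.inl i0))
    simp [hw0] at this
  have hQw0 : genForm (binForm a b) j w0 = 0 := by
    rw [genForm_apply]
    have h1 : (fun k => w0 (Sum.inr k)) = (0 : Fin 2 → F) := by
      funext k
      simp [hw0]
    rw [h1, QuadraticMap.map_zero, add_zero]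
    apply Finset.sum_eq_zero
    intro i _
    simp [hw0]
  have h₀ := isTS_eH_ext0 (Qκ := genForm (binForm a b) j) w0 hw0ne hQw0
  have hd := dvd_card_rootClass_mul H ρ hirr (((Fintype.card F : ℕ) : ℤ) ^ (2 * j + 1))
    (by
      intro w hw hQ
      rw [hχ w hw hQ]
      push_cast
      rfl) _ _ h₀
  have hT := Cfsg.Agent.Lib.Helper6.OMMTCount.card_rootClass_minusH (a := a) (b := b) han j _ _ h₀
  have hq : 2 ≤ Fintype.card F := by
    obtain ⟨x, y, hxy⟩ := exists_pair_ne F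
    exact Fintype.one_lt_card_iff.mpr ⟨x, y, hxy⟩
  refine Cfsg.Agent.Lib.Helper8.OMM.arith_A_nat (Fintype.card F) j (Module.finrank ℂ V)
    (Nat.card {x : ↥(isometryGroup F ⇑(hypExt (genForm (binForm a b) j))) //
      x ∈ rootClass _ _ h₀}) hq hj hk hT ?_
  have : ((Module.finrank ℂ V : ℕ) : ℤ) ∣
      ((Nat.card {x : ↥(isometryGroup F ⇑(hypExt (genForm (binForm a b) j))) //
        x ∈ rootClass _ _ h₀} * Fintype.card F ^ (2 * j + 1) : ℕ) : ℤ) := by
    push_cast
    exact hd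
  exact_mod_cast this

end minus

end Cfsg.Agent.Lib.Helper8.OMMInteg
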