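import Mathlib
import Cfsg.Prelude
import Cfsg.Agent.Lib.Helper2.OMMDefs
import Cfsg.Agent.Lib.Helper8.OMMInteg

set_option autoImplicit false
set_option linter.unusedSectionVars false
set_option linter.unusedVariables false
open Cfsg

/-!
Farm OMM (statement S2346), unit ROOTCHAR / INTEGRALITY in the tower setting of
`Helper2.OMMDefs`: in the singular multiplicity-one configuration `LevelOne ρ 0` the character is
`k - q^(card κ + 3)` on the long root elements, hence `k ∣ |T| q^(card κ + 3)`, and `k + 1 = d_n` is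
impossible.
-/

namespace Cfsg.Agent.Lib.Helper8.OMMRootChar

open Matrix QuadraticMap Cfsg.Agent.Lib.Helper5.CartanDieudonne Cfsg.Agent.Lib.Helper5.Refl
  Cfsg.Agent.Lib.Helper5.OrthCard Cfsg.Agent.Lib.Helper5.Siegel Cfsg.Agent.Lib.Helper5.QuadIsom
  Cfsg.Agent.Lib.Helper5.Eichler Cfsg.Agent.Lib.Helper5.OmegaSimple Cfsg.Agent.Lib.Helper5.OMP
  Cfsg.Agent.Lib.Helper1.OMMG Cfsg.Agent.Lib.Helper1.OMMI Cfsg.Agent.Lib.Helper8.OMMInteg

variable {F : Type*} [Field F] [Fintype F] [DecidableEq F]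

section general

variable {ι : Type} [Fintype ι] [DecidableEq ι]

/-- the character sum over the singular vectors: `∑_{Q w = 0} (ψ (B(w, a)) - 1) = - q^(dim - 1)` for
a non-zero singular vector `a` of a non-degenerate form -/
theorem sum_sing_psi (Q : QuadraticForm F (ι → F)) (hQ : (polarBilin Q).Nondegenerate)
    (ψ : AddChar F ℂ) (hψ : ∃ c, ψ c ≠ 1) (a : ι → F) (ha0 : a ≠ 0) (ha : Q a = 0) (d : ℕ)
    (hd : Fintype.card ι = d + 1) :
    ∑ w : ι → F, (if Q w = 0 then ψ (polar Q w a) - 1 else 0) =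
      -((Fintype.card F : ℂ) ^ d) := by
  classical
  have hq0 : (Fintype.card F : ℂ) ≠ 0 := by exact_mod_cast Fintype.card_ne_zero
  have hqpos : 0 < Fintype.card F := Fintype.card_pos
  -- the fibre counts
  have key : ∀ t : F, t ≠ 0 →
      (((Finset.univ.filter (fun w : ι → F => polar Q a w = t ∧ Q w = 0)).card : ℕ) : ℂ) =
        (Fintype.card F : ℂ) ^ d / (Fintype.card F : ℂ) := by
    intro t ht
    have h1 := Cfsg.Agent.Lib.Helper6.OMMTCount.card_sing_fiber_c Q hQ a ha0 ha t ht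
    rw [hd, pow_succ] at h1
    have h2 : Nat.card {v : ι → F // Q v = 0 ∧ polar Q a v = t} * Fintype.card F =
        Fintype.card F ^ d := Nat.eq_of_mul_eq_mul_right hqpos h1
    have h3 : Nat.card {v : ι → F // Q v = 0 ∧ polar Q a v = t} =
        (Finset.univ.filter (fun w : ι → F => polar Q a w = t ∧ Q w = 0)).card := by
      rw [Nat.card_eq_fintype_card, Fintype.card_subtype]
      congr 1
      ext w
      simp only [Finset.mem_filter, Finset.mem_univ, true_and]
      exact and_comm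
    rw [h3] at h2
    rw [eq_div_iff hq0]
    exact_mod_cast h2
  have hsum : ∑ t : F, ψ t = 0 := by
    apply AddChar.sum_eq_zero_of_ne_one
    intro h
    obtain ⟨c, hc⟩ := hψ
    apply hc
    rw [h]
    rfl
  rw [← Finset.sum_fiberwise (s := Finset.univ) (g := fun w : ι → F => polar Q a w)]
  have hin : ∀ t : F, ∑ w ∈ Finset.univ.filter (fun w : ι → F => polar Q a w = t),
      (if Q w = 0 then ψ (polar Q w a) - 1 else 0) =
        (ψ t - 1) * ((Fintype.card F : ℂ) ^ d / (Fintype.card F : ℂ)) := by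
    intro t
    have h1 : ∀ w ∈ Finset.univ.filter (fun w : ι → F => polar Q a w = t),
        (if Q w = 0 then ψ (polar Q w a) - 1 else 0) = if Q w = 0 then ψ t - 1 else 0 := by
      intro w hw
      rw [Finset.mem_filter] at hw
      rw [polar_comm, hw.2]
    rw [Finset.sum_congr rfl h1, ← Finset.sum_filter, Finset.sum_const, nsmul_eq_mul,
      Finset.filter_filter]
    by_cases ht : t = 0
    · rw [ht, AddChar.map_zero_eq_one, sub_self, mul_zero, zero_mul]
    · rw [key t ht, mul_comm]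
  rw [Finset.sum_congr rfl (fun t _ => hin t), ← Finset.sum_mul, Finset.sum_sub_distrib, hsum,
    Finset.sum_const, Finset.card_univ, nsmul_eq_mul, mul_one, zero_sub]
  field_simp

end general

section data

variable {κ' : Type} [Fintype κ'] [DecidableEq κ'] {Qκ : QuadraticForm F (κ' → F)}
  (ψ : AddChar F ℂ) (hψ : ∃ c, ψ c ≠ 1) (hnd : (polarBilin Qκ).Nondegenerate)
  (H : Hyp (hypExt Qκ))

/-- the value of the character on `uE H a`, `a` singular non-zero, in the singular multiplicity-one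
configuration -/
theorem character_uE_sing {V : Type*} [AddCommGroup V] [Module ℂ V] [FiniteDimensional ℂ V]
    (ρ : Representation ℂ ↥(Omega F ⇑(hypExt Qκ)) V)
    (h1 : ∀ w : κ' → F, w ≠ 0 → Qκ w = 0 → (DD ψ hψ hnd H).mult ρ.character w = 1)
    (h0 : ∀ w : κ' → F, w ≠ 0 → Qκ w ≠ 0 → (DD ψ hψ hnd H).mult ρ.character w = 0)
    (a : κ' → F) (ha0 : a ≠ 0) (ha : Qκ a = 0) (d : ℕ) (hd : Fintype.card κ' = d + 1) :
    ρ.character (uE H a) = (Module.finrank ℂ V : ℂ) - (Fintype.card F : ℂ) ^ d := by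
  have hk : (Module.finrank ℂ V : ℂ) = ∑ w : κ' → F, (DD ψ hψ hnd H).mult ρ.character w := by
    rw [(DD ψ hψ hnd H).sum_mult ρ, Representation.char_one]
  have hS := sum_sing_psi Qκ hnd ψ hψ a ha0 ha d hd
  have hS' : (Fintype.card F : ℂ) ^ d =
      -∑ w : κ' → F, (if Qκ w = 0 then ψ (polar Qκ w a) - 1 else 0) := by
    rw [hS, neg_neg]
  rw [character_uE ψ hψ hnd H ρ a, hk, hS', sub_neg_eq_add, ← Finset.sum_add_distrib]
  apply Finset.sum_congr rfl
  intro w _
  by_cases hw : w = 0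
  · have hp : polar Qκ w a = 0 := by rw [hw]; simp [polar]
    have hQ0 : Qκ w = 0 := by rw [hw, QuadraticMap.map_zero]
    rw [hp, AddChar.map_zero_eq_one, if_pos hQ0, sub_self, add_zero, one_mul]
  · by_cases hQ : Qκ w = 0
    · rw [h1 w hw hQ, if_pos hQ]
      ring
    · rw [h0 w hw hQ, if_neg hQ]
      ring

end data

section tower

open Cfsg.Agent.Lib.Helper2.OMM Cfsg.Agent.Lib.Helper6.OMMArith

variable {κ : Type} [Fintype κ] [DecidableEq κ] {Qc : QuadraticForm F (κ → F)}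
  (ψ : AddChar F ℂ) (hψ : ∃ c, ψ c ≠ 1) (hnd : (polarBilin Qc).Nondegenerate)
  (H : Hyp (Q3 Qc)) {V : Type*} [AddCommGroup V] [Module ℂ V] [FiniteDimensional ℂ V]

/-- ROOTCHAR: in the configuration `LevelOne ρ 0` the character is `k - q^(card κ + 3)` on the
`uE H a`, `a` singular and non-zero -/
theorem character_uE_of_levelOne (ρ : Representation ℂ (GG Qc) V)
    (hL : LevelOne ψ hψ hnd H ρ 0) (a : K2 κ → F) (ha0 : a ≠ 0) (ha : Q2 Qc a = 0) :
    ρ.character (uE H a) =
      (Module.finrank ℂ V : ℂ) - (Fintype.card F : ℂ) ^ (Fintype.card κ + 3) := by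
  refine character_uE_sing (Qκ := Q2 Qc) ψ hψ (nd2 Qc hnd) H ρ hL.1 hL.2 a ha0 ha _ ?_
  simp only [Fintype.card_sum, Fintype.card_fin]
  omega

/-- the standard totally singular pair `(e₁, e₂)` of `V` -/
theorem isTS_e1_e2 : IsTS (Q3 Qc) (e1 F κ) (e2 F κ) := by
  refine isTS_eH_ext0 (Qκ := Q2 Qc) (eH F (K1 κ)) eH_ne_zero ?_
  exact hypExt_eH _

/-- INTEGRALITY: `k ∣ |T| q^(card κ + 3)` -/
theorem dvd_of_levelOne (ρ : Representation ℂ (GG Qc) V) (hirr : ρ.IsIrreducible)
    (hL : LevelOne ψ hψ hnd H ρ 0) (a₀ b₀ : K3 κ → F) (h₀ : IsTS (Q3 Qc) a₀ b₀) :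
    Module.finrank ℂ V ∣
      Nat.card {x : ↥(isometryGroup F ⇑(Q3 Qc)) // x ∈ rootClass a₀ b₀ h₀} *
        Fintype.card F ^ (Fintype.card κ + 3) := by
  have hd := dvd_card_rootClass_mul (Qκ := Q2 Qc) H ρ hirr
    (((Fintype.card F : ℕ) : ℤ) ^ (Fintype.card κ + 3))
    (by
      intro w hw hQ
      rw [character_uE_of_levelOne ψ hψ hnd H ρ hL w hw hQ]
      push_cast
      rfl) a₀ b₀ h₀
  have : ((Module.finrank ℂ V : ℕ) : ℤ) ∣
      ((Nat.card {x : ↥(isometryGroup F ⇑(Q3 Qc)) // x ∈ rootClass a₀ b₀ h₀} *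
        Fintype.card F ^ (Fintype.card κ + 3) : ℕ) : ℤ) := by
    push_cast
    exact hd
  exact_mod_cast this

/-- the exclusion of `k + 1 = d_n`, `n = j + 2`, `dim W = 2 j + 2 = card κ + 4`, given the number of
long root elements -/
theorem levelOne_ne (ρ : Representation ℂ (GG Qc) V) (hirr : ρ.IsIrreducible)
    (hL : LevelOne ψ hψ hnd H ρ 0) (j : ℕ) (hj : 2 ≤ j) (hκ : Fintype.card κ + 3 = 2 * j + 1)
    (hT : Nat.card {x : ↥(isometryGroup F ⇑(Q3 Qc)) //
        x ∈ rootClass (e1 F κ) (e2 F κ) (isTS_e1_e2 (Qc := Qc))} * (Fintype.card F ^ 2 - 1) =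
      Ns (Fintype.card F) (j + 1) * Ns (Fintype.card F) j) :
    Module.finrank ℂ V + 1 ≠ dn (Fintype.card F) (j + 2) := by
  intro hk
  have hq : 2 ≤ Fintype.card F := by
    obtain ⟨x, y, hxy⟩ := exists_pair_ne F
    exact Fintype.one_lt_card_iff.mpr ⟨x, y, hxy⟩
  have hd := dvd_of_levelOne ψ hψ hnd H ρ hirr hL _ _ (isTS_e1_e2 (Qc := Qc))
  rw [hκ] at hd
  exact Cfsg.Agent.Lib.Helper8.OMM.arith_A_nat (Fintype.card F) j (Module.finrank ℂ V) _ hq hj hk
    hT hd

end tower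

end Cfsg.Agent.Lib.Helper8.OMMRootChar
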