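import Mathlib
import Cfsg.Agent.Lib.Helper1.MNDDefs

set_option autoImplicit false
set_option linter.unusedSectionVars false
set_option linter.unusedVariables false

/-!
Farm OMP (statement S2345): the smallest degree of a nontrivial irreducible complex representation
of `Ω⁺_{2n}(q)`, `n ≥ 4`, `q > 3`, is at least `(q^n - 1)(q^(n-1) + q)/(q^2 - 1)`.

Part 1 of the common definitions: alternating matrices (no groups yet).
`n = m + 3` throughout (so `SS (m + 3) F = SL_n(F)` of the farm MND can be used directly).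
-/

namespace Cfsg.Agent.Lib.Helper8.OMP

open Matrix Cfsg Cfsg.Agent.Lib.Helper1.MND

/-- alternating matrices (zero diagonal, skew) as an additive subgroup -/
def altAdd (F : Type*) [Field F] (n : ℕ) : AddSubgroup (Matrix (Fin n) (Fin n) F) where
  carrier := {A | (∀ i, A i i = 0) ∧ ∀ i j, A j i = -A i j}
  zero_mem' := ⟨fun _ => rfl, fun _ _ => by simp⟩
  add_mem' := by
    rintro a b ⟨ha1, ha2⟩ ⟨hb1, hb2⟩
    refine ⟨fun i => ?_, fun i j => ?_⟩
    · rw [Matrix.add_apply, ha1, hb1, add_zero]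
    · rw [Matrix.add_apply, Matrix.add_apply, ha2, hb2, neg_add]
  neg_mem' := by
    rintro a ⟨ha1, ha2⟩
    refine ⟨fun i => ?_, fun i j => ?_⟩
    · rw [Matrix.neg_apply, ha1, neg_zero]
    · rw [Matrix.neg_apply, Matrix.neg_apply, ha2]

section basic
variable {F : Type*} [Field F] {n : ℕ}

theorem mem_altAdd (A : Matrix (Fin n) (Fin n) F) :
    A ∈ altAdd F n ↔ (∀ i, A i i = 0) ∧ ∀ i j, A j i = -A i j := Iff.rfl

theorem altAdd_diag (A : altAdd F n) (i : Fin n) : A.1 i i = 0 := A.2.1 i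

theorem altAdd_skew (A : altAdd F n) (i j : Fin n) : A.1 j i = -A.1 i j := A.2.2 i j

noncomputable instance altAddFintype (F : Type*) [Field F] [Fintype F] (n : ℕ) :
    Fintype (altAdd F n) := Fintype.ofFinite _

/-- `M - Mᵀ` is alternating -/
theorem sub_transpose_mem (M : Matrix (Fin n) (Fin n) F) : M - Mᵀ ∈ altAdd F n := by
  refine ⟨fun i => ?_, fun i j => ?_⟩
  · rw [Matrix.sub_apply, Matrix.transpose_apply, sub_self]
  · rw [Matrix.sub_apply, Matrix.sub_apply, Matrix.transpose_apply, Matrix.transpose_apply, neg_sub]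

/-- the strictly upper triangular part -/
def upper (A : Matrix (Fin n) (Fin n) F) : Matrix (Fin n) (Fin n) F :=
  fun i j => if i < j then A i j else 0

theorem eq_upper_sub (A : altAdd F n) : A.1 = upper A.1 - (upper A.1)ᵀ := by
  ext i j
  rw [Matrix.sub_apply, Matrix.transpose_apply]
  unfold upper
  rcases lt_trichotomy i j with h | h | h
  · rw [if_pos h, if_neg (not_lt.mpr h.le), sub_zero]
  · subst h
    rw [if_neg (lt_irrefl _), sub_zero, altAdd_diag]
  · rw [if_neg (not_lt.mpr h.le), if_pos h, zero_sub, altAdd_skew A i j, neg_neg]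

/-- `gᵀ A g` for alternating `A` is alternating -/
theorem congr_mem (g : Matrix (Fin n) (Fin n) F) (A : altAdd F n) :
    gᵀ * A.1 * g ∈ altAdd F n := by
  have h : gᵀ * A.1 * g = gᵀ * upper A.1 * g - (gᵀ * upper A.1 * g)ᵀ := by
    conv_lhs => rw [eq_upper_sub A]
    rw [Matrix.mul_sub, Matrix.sub_mul, transpose_mul, transpose_mul, transpose_transpose]
    simp only [Matrix.mul_assoc]
  rw [h]
  exact sub_transpose_mem _

/-- the action `B ↦ gᵀ B g` of matrices on alternating matrices -/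
def actAlt (g : Matrix (Fin n) (Fin n) F) (B : altAdd F n) : altAdd F n :=
  ⟨gᵀ * B.1 * g, congr_mem g B⟩

theorem actAlt_coe (g : Matrix (Fin n) (Fin n) F) (B : altAdd F n) :
    (actAlt g B).1 = gᵀ * B.1 * g := rfl

theorem actAlt_one (B : altAdd F n) : actAlt (1 : Matrix (Fin n) (Fin n) F) B = B := by
  apply Subtype.ext
  rw [actAlt_coe]
  simp

theorem actAlt_mul (g h : Matrix (Fin n) (Fin n) F) (B : altAdd F n) :
    actAlt (g * h) B = actAlt h (actAlt g B) := by
  apply Subtype.ext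
  rw [actAlt_coe, actAlt_coe, actAlt_coe, transpose_mul]
  simp only [Matrix.mul_assoc]

theorem actAlt_add (g : Matrix (Fin n) (Fin n) F) (B B' : altAdd F n) :
    actAlt g (B + B') = actAlt g B + actAlt g B' := by
  apply Subtype.ext
  rw [AddSubgroup.coe_add, actAlt_coe, actAlt_coe, actAlt_coe, AddSubgroup.coe_add,
    Matrix.mul_add, Matrix.add_mul]

theorem actAlt_zero (g : Matrix (Fin n) (Fin n) F) : actAlt g (0 : altAdd F n) = 0 := by
  apply Subtype.ext
  rw [actAlt_coe]
  simp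

/-- the pairing `⟨B, A⟩ = ∑_{i<j} B_ij A_ij` -/
def pairAlt (B A : Matrix (Fin n) (Fin n) F) : F :=
  ∑ i, ∑ j, if i < j then B i j * A i j else 0

theorem pairAlt_add_right (B A A' : Matrix (Fin n) (Fin n) F) :
    pairAlt B (A + A') = pairAlt B A + pairAlt B A' := by
  unfold pairAlt
  rw [← Finset.sum_add_distrib]
  apply Finset.sum_congr rfl
  intro i _
  rw [← Finset.sum_add_distrib]
  apply Finset.sum_congr rfl
  intro j _
  split_ifs
  · rw [Matrix.add_apply, mul_add]
  · rw [add_zero]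

theorem pairAlt_add_left (B B' A : Matrix (Fin n) (Fin n) F) :
    pairAlt (B + B') A = pairAlt B A + pairAlt B' A := by
  unfold pairAlt
  rw [← Finset.sum_add_distrib]
  apply Finset.sum_congr rfl
  intro i _
  rw [← Finset.sum_add_distrib]
  apply Finset.sum_congr rfl
  intro j _
  split_ifs
  · rw [Matrix.add_apply, add_mul]
  · rw [add_zero]

theorem pairAlt_zero_right (B : Matrix (Fin n) (Fin n) F) : pairAlt B 0 = 0 := by
  unfold pairAlt
  simp only [Matrix.zero_apply, mul_zero, ite_self, Finset.sum_const_zero]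

theorem pairAlt_zero_left (A : Matrix (Fin n) (Fin n) F) : pairAlt 0 A = 0 := by
  unfold pairAlt
  simp only [Matrix.zero_apply, zero_mul, ite_self, Finset.sum_const_zero]

theorem pairAlt_neg_right (B A : Matrix (Fin n) (Fin n) F) : pairAlt B (-A) = -pairAlt B A := by
  have h := pairAlt_add_right B A (-A)
  rw [add_neg_cancel, pairAlt_zero_right] at h
  exact eq_neg_of_add_eq_zero_right h.symm

theorem pairAlt_comm (B A : Matrix (Fin n) (Fin n) F) : pairAlt B A = pairAlt A B := by
  unfold pairAlt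
  apply Finset.sum_congr rfl
  intro i _
  apply Finset.sum_congr rfl
  intro j _
  split_ifs
  · rw [mul_comm]
  · rfl

/-- for alternating `B`: `⟨B, M - Mᵀ⟩ = tr (Bᵀ M) = ∑_{i,j} B_ij M_ij` -/
theorem pairAlt_sub_transpose (B : altAdd F n) (M : Matrix (Fin n) (Fin n) F) :
    pairAlt B.1 (M - Mᵀ) = Matrix.trace (B.1ᵀ * M) := by
  have h1 : Matrix.trace (B.1ᵀ * M) = ∑ i, ∑ j, B.1 i j * M i j := by
    rw [Matrix.trace]
    simp only [Matrix.diag_apply, Matrix.mul_apply, Matrix.transpose_apply]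
    exact Finset.sum_comm
  have h2 : ∀ i j : Fin n, B.1 i j * M i j =
      (if i < j then B.1 i j * M i j else 0) + (if j < i then B.1 i j * M i j else 0) := by
    intro i j
    rcases lt_trichotomy i j with h | h | h
    · rw [if_pos h, if_neg (not_lt.mpr h.le), add_zero]
    · subst h
      rw [if_neg (lt_irrefl _), altAdd_diag, zero_mul, add_zero]
    · rw [if_neg (not_lt.mpr h.le), if_pos h, zero_add]
  rw [h1, Finset.sum_congr rfl (fun i _ => Finset.sum_congr rfl (fun j _ => h2 i j))]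
  simp only [Finset.sum_add_distrib]
  have h3 : ∑ i : Fin n, ∑ j : Fin n, (if j < i then B.1 i j * M i j else 0) =
      ∑ i : Fin n, ∑ j : Fin n, (if i < j then B.1 j i * M j i else 0) := Finset.sum_comm
  rw [h3, ← Finset.sum_add_distrib]
  unfold pairAlt
  apply Finset.sum_congr rfl
  intro i _
  rw [← Finset.sum_add_distrib]
  apply Finset.sum_congr rfl
  intro j _
  split_ifs with h
  · rw [Matrix.sub_apply, Matrix.transpose_apply, altAdd_skew B i j]
    ring
  · rw [add_zero]

/-- `⟨hᵀ B h, A⟩ = ⟨B, h A hᵀ⟩` for alternating `A`, `B` -/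
theorem pairAlt_actAlt (h : Matrix (Fin n) (Fin n) F) (B A : altAdd F n) :
    pairAlt (actAlt h B).1 A.1 = pairAlt B.1 (h * A.1 * hᵀ) := by
  have hA : h * A.1 * hᵀ = h * upper A.1 * hᵀ - (h * upper A.1 * hᵀ)ᵀ := by
    conv_lhs => rw [eq_upper_sub A]
    rw [Matrix.mul_sub, Matrix.sub_mul, transpose_mul, transpose_mul, transpose_transpose]
    simp only [Matrix.mul_assoc]
  rw [hA, pairAlt_sub_transpose]
  conv_lhs => rw [eq_upper_sub A]
  rw [pairAlt_sub_transpose, actAlt_coe, transpose_mul, transpose_mul, transpose_transpose]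
  calc Matrix.trace (hᵀ * (B.1ᵀ * h) * upper A.1)
      = Matrix.trace (hᵀ * ((B.1ᵀ * h) * upper A.1)) := by rw [Matrix.mul_assoc]
    _ = Matrix.trace (((B.1ᵀ * h) * upper A.1) * hᵀ) := Matrix.trace_mul_comm _ _
    _ = Matrix.trace (B.1ᵀ * (h * upper A.1 * hᵀ)) := by simp only [Matrix.mul_assoc]

end basic

section special
variable {F : Type*} [Field F] {m : ℕ}

/-- `E₀₁ - E₁₀` -/
def E01 (F : Type*) [Field F] (m : ℕ) : altAdd F (m + 3) :=
  ⟨Matrix.single (0 : Fin (m + 3)) 1 (1 : F) - (Matrix.single (0 : Fin (m + 3)) 1 (1 : F))ᵀ,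
    sub_transpose_mem _⟩

theorem E01_coe : (E01 F m).1 =
    Matrix.single (0 : Fin (m + 3)) 1 (1 : F) - Matrix.single (1 : Fin (m + 3)) 0 (1 : F) := by
  show Matrix.single (0 : Fin (m + 3)) 1 (1 : F) - (Matrix.single (0 : Fin (m + 3)) 1 (1 : F))ᵀ = _
  rw [Matrix.transpose_single]

/-- `t (E₀₁ - E₁₀)` -/
def tE01 (m : ℕ) (t : F) : altAdd F (m + 3) :=
  ⟨t • (E01 F m).1, by
    have h := (altAdd F (m + 3)).zsmul_mem (E01 F m).2 0
    refine ⟨fun i => ?_, fun i j => ?_⟩
    · rw [Matrix.smul_apply, altAdd_diag, smul_zero]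
    · rw [Matrix.smul_apply, Matrix.smul_apply, altAdd_skew (E01 F m) i j, smul_neg]⟩

theorem tE01_coe (t : F) : (tE01 m t).1 = t • (E01 F m).1 := rfl

/-- the forms of rank two: the `SL_n`-orbit of `E₀₁ - E₁₀` -/
def IsR2 (B : altAdd F (m + 3)) : Prop := ∃ g : SS (m + 3) F, B = actAlt g.1 (E01 F m)

/-- `diag (δ², 1, …, 1)` -/
def torM (m : ℕ) (δ : F) : Matrix (Fin (m + 3)) (Fin (m + 3)) F :=
  Matrix.diagonal (fun i => if i = 0 then δ ^ 2 else 1)

/-- the bound of S2345 for `n = m + 3` -/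
def bnd (q m : ℕ) : ℕ := (q ^ (m + 3) - 1) * (q ^ (m + 2) + q) / (q ^ 2 - 1)

/-- the number of alternating forms of rank two on `F^(m+3)` -/
def r2Num (q m : ℕ) : ℕ := (q ^ (m + 3) - 1) * (q ^ (m + 2) - 1) / (q ^ 2 - 1)

end special

end Cfsg.Agent.Lib.Helper8.OMP
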