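import Mathlib
import Cfsg.Prelude
import Cfsg.Agent.Lib.Helper8.OMPAlt
import Cfsg.Agent.Lib.Helper4.SLnGen

set_option autoImplicit false
set_option linter.unusedSectionVars false
set_option linter.unusedVariables false
set_option linter.unusedSimpArgs false

/-!
Farm OMP (statement S2345), part 2 of the common definitions: the elements `uQ A = [[1, A], [0, 1]]`
(`A` alternating) and `lev g = diag (g, g⁻ᵀ)` (`g ∈ SL_n`) of `Ω⁺_{2n}(F)`, `n = m + 3`.
-/

namespace Cfsg.Agent.Lib.Helper8.OMP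

open Matrix Cfsg Cfsg.Agent.Lib.Helper1.MND
open scoped commutatorElement

section iso
variable {F : Type*} [Field F] {n : ℕ}

theorem quadFormPlus_eq (v : Fin n ⊕ Fin n → F) :
    quadFormPlus n F v = (v ∘ Sum.inl) ⬝ᵥ (v ∘ Sum.inr) := rfl

theorem mem_iso_iff (g : Matrix.GeneralLinearGroup (Fin n ⊕ Fin n) F) :
    g ∈ isometryGroup F (quadFormPlus n F) ↔
      ∀ v, quadFormPlus n F ((g : Matrix (Fin n ⊕ Fin n) (Fin n ⊕ Fin n) F) *ᵥ v) =
        quadFormPlus n F v :=
  ⟨fun h v => h v v, fun h u _ => h u⟩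

/-- `(A y) ⬝ y = 0` for alternating `A` -/
theorem alt_mulVec_dotProduct (A : altAdd F n) (y : Fin n → F) : (A.1 *ᵥ y) ⬝ᵥ y = 0 := by
  rw [eq_upper_sub A, Matrix.sub_mulVec, sub_dotProduct, sub_eq_zero]
  rw [Matrix.mulVec_transpose, dotProduct_comm (upper A.1 *ᵥ y) y, Matrix.dotProduct_mulVec]

/-- the matrix `[[1, A], [0, 1]]` -/
def uQm (A : Matrix (Fin n) (Fin n) F) : Matrix (Fin n ⊕ Fin n) (Fin n ⊕ Fin n) F :=
  fromBlocks 1 A 0 1

theorem uQm_mul (A A' : Matrix (Fin n) (Fin n) F) : uQm A * uQm A' = uQm (A + A') := by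
  unfold uQm
  rw [fromBlocks_multiply]
  simp only [Matrix.one_mul, Matrix.mul_one, Matrix.mul_zero, Matrix.zero_mul, add_zero, zero_add]
  rw [add_comm]

theorem uQm_zero : uQm (0 : Matrix (Fin n) (Fin n) F) = 1 := by
  unfold uQm
  exact fromBlocks_one

theorem uQm_preserves (A : altAdd F n) (v : Fin n ⊕ Fin n → F) :
    quadFormPlus n F (uQm A.1 *ᵥ v) = quadFormPlus n F v := by
  rw [quadFormPlus_eq, quadFormPlus_eq]
  have h1 : (uQm A.1 *ᵥ v) ∘ Sum.inl = v ∘ Sum.inl + A.1 *ᵥ (v ∘ Sum.inr) := by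
    ext i
    simp [uQm, fromBlocks_mulVec]
  have h2 : (uQm A.1 *ᵥ v) ∘ Sum.inr = v ∘ Sum.inr := by
    ext i
    simp [uQm, fromBlocks_mulVec]
  rw [h1, h2, add_dotProduct, alt_mulVec_dotProduct, add_zero]

/-- `uQ A` in the general linear group -/
def uQG (A : altAdd F n) : Matrix.GeneralLinearGroup (Fin n ⊕ Fin n) F :=
  ⟨uQm A.1, uQm (-A.1), by rw [uQm_mul, add_neg_cancel, uQm_zero],
    by rw [uQm_mul, neg_add_cancel, uQm_zero]⟩

/-- `uQ A` in the isometry group -/
def uQI (A : altAdd F n) : ↥(isometryGroup F (quadFormPlus n F)) :=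
  ⟨uQG A, (mem_iso_iff _).mpr (uQm_preserves A)⟩

theorem uQI_coe (A : altAdd F n) :
    (((uQI A : ↥(isometryGroup F (quadFormPlus n F))) : Matrix.GeneralLinearGroup (Fin n ⊕ Fin n) F) :
      Matrix (Fin n ⊕ Fin n) (Fin n ⊕ Fin n) F) = fromBlocks 1 A.1 0 1 := rfl

theorem iso_ext {x y : ↥(isometryGroup F (quadFormPlus n F))}
    (h : ((x : Matrix.GeneralLinearGroup (Fin n ⊕ Fin n) F) :
      Matrix (Fin n ⊕ Fin n) (Fin n ⊕ Fin n) F) = ((y : Matrix.GeneralLinearGroup (Fin n ⊕ Fin n) F) :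
      Matrix (Fin n ⊕ Fin n) (Fin n ⊕ Fin n) F)) : x = y :=
  Subtype.ext (Units.ext h)

theorem uQI_add (A A' : altAdd F n) : uQI (A + A') = uQI A * uQI A' := by
  apply iso_ext
  rw [Subgroup.coe_mul, Units.val_mul, uQI_coe, uQI_coe, uQI_coe]
  exact (uQm_mul A.1 A'.1).symm

theorem uQI_zero : uQI (0 : altAdd F n) = 1 := by
  apply iso_ext
  rw [uQI_coe]
  exact fromBlocks_one

theorem uQI_neg (A : altAdd F n) : uQI (-A) = (uQI A)⁻¹ := by
  rw [eq_inv_iff_mul_eq_one, ← uQI_add, neg_add_cancel, uQI_zero]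

theorem uQI_injective : Function.Injective (uQI : altAdd F n → _) := by
  intro A A' h
  have h1 := congrArg (fun x : ↥(isometryGroup F (quadFormPlus n F)) =>
    ((x : Matrix.GeneralLinearGroup (Fin n ⊕ Fin n) F) :
      Matrix (Fin n ⊕ Fin n) (Fin n ⊕ Fin n) F)) h
  simp only [uQI_coe] at h1
  apply Subtype.ext
  have h2 := congrArg Matrix.toBlocks₁₂ h1
  simpa using h2

/-- the matrix `diag (g, (g⁻¹)ᵀ)` -/
def levm (g : SS n F) : Matrix (Fin n ⊕ Fin n) (Fin n ⊕ Fin n) F :=
  fromBlocks g.1 0 0 (g⁻¹).1ᵀ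

theorem levm_mul (g h : SS n F) : levm g * levm h = levm (g * h) := by
  unfold levm
  rw [fromBlocks_multiply]
  simp only [Matrix.mul_zero, Matrix.zero_mul, add_zero, zero_add]
  rw [_root_.mul_inv_rev, Matrix.SpecialLinearGroup.coe_mul, Matrix.SpecialLinearGroup.coe_mul,
    transpose_mul]

theorem levm_one : levm (1 : SS n F) = 1 := by
  unfold levm
  rw [inv_one, Matrix.SpecialLinearGroup.coe_one, transpose_one]
  exact fromBlocks_one

theorem levm_preserves (g : SS n F) (v : Fin n ⊕ Fin n → F) :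
    quadFormPlus n F (levm g *ᵥ v) = quadFormPlus n F v := by
  rw [quadFormPlus_eq, quadFormPlus_eq]
  have h1 : (levm g *ᵥ v) ∘ Sum.inl = g.1 *ᵥ (v ∘ Sum.inl) := by
    ext i
    simp [levm, fromBlocks_mulVec]
  have h2 : (levm g *ᵥ v) ∘ Sum.inr = (g⁻¹).1ᵀ *ᵥ (v ∘ Sum.inr) := by
    ext i
    simp [levm, fromBlocks_mulVec]
  rw [h1, h2, Matrix.mulVec_transpose, dotProduct_comm, Matrix.dotProduct_mulVec,
    Matrix.vecMul_vecMul, ← Matrix.SpecialLinearGroup.coe_mul, inv_mul_cancel,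
    Matrix.SpecialLinearGroup.coe_one, Matrix.vecMul_one, dotProduct_comm]

/-- `lev g` in the general linear group -/
def levG (g : SS n F) : Matrix.GeneralLinearGroup (Fin n ⊕ Fin n) F :=
  ⟨levm g, levm g⁻¹, by rw [levm_mul, mul_inv_cancel, levm_one],
    by rw [levm_mul, inv_mul_cancel, levm_one]⟩

/-- `lev` into the isometry group, as a homomorphism -/
def levI : SS n F →* ↥(isometryGroup F (quadFormPlus n F)) where
  toFun g := ⟨levG g, (mem_iso_iff _).mpr (levm_preserves g)⟩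
  map_one' := by
    apply Subtype.ext
    apply Units.ext
    exact levm_one
  map_mul' g h := by
    apply Subtype.ext
    apply Units.ext
    exact (levm_mul g h).symm

theorem levI_coe (g : SS n F) :
    (((levI g : ↥(isometryGroup F (quadFormPlus n F))) : Matrix.GeneralLinearGroup (Fin n ⊕ Fin n) F) :
      Matrix (Fin n ⊕ Fin n) (Fin n ⊕ Fin n) F) = fromBlocks g.1 0 0 (g⁻¹).1ᵀ := rfl

/-- `A ↦ g A gᵀ` on alternating matrices -/
def conjAlt (g : SS n F) (A : altAdd F n) : altAdd F n := actAlt g.1ᵀ A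

theorem conjAlt_coe (g : SS n F) (A : altAdd F n) : (conjAlt g A).1 = g.1 * A.1 * g.1ᵀ := by
  show (g.1ᵀ)ᵀ * A.1 * g.1ᵀ = _
  rw [transpose_transpose]

theorem levI_mul_uQI (g : SS n F) (A : altAdd F n) :
    levI g * uQI A = uQI (conjAlt g A) * levI g := by
  apply iso_ext
  rw [Subgroup.coe_mul, Units.val_mul, Subgroup.coe_mul, Units.val_mul, levI_coe, uQI_coe, uQI_coe,
    fromBlocks_multiply, fromBlocks_multiply, conjAlt_coe]
  simp only [Matrix.one_mul, Matrix.mul_one, Matrix.mul_zero, Matrix.zero_mul, add_zero, zero_add]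
  congr 1
  rw [Matrix.mul_assoc, ← transpose_mul, ← Matrix.SpecialLinearGroup.coe_mul, inv_mul_cancel,
    Matrix.SpecialLinearGroup.coe_one, transpose_one, Matrix.mul_one]

theorem levI_conj_uQI (g : SS n F) (A : altAdd F n) :
    levI g * uQI A * (levI g)⁻¹ = uQI (conjAlt g A) := by
  rw [levI_mul_uQI, mul_assoc, mul_inv_cancel, mul_one]

/-- `c (E_ij - E_ji)` -/
def elemAlt (i j : Fin n) (c : F) : altAdd F n :=
  ⟨Matrix.single i j c - (Matrix.single i j c)ᵀ, sub_transpose_mem _⟩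

theorem elemAlt_coe (i j : Fin n) (c : F) :
    (elemAlt i j c).1 = Matrix.single i j c - Matrix.single j i c := by
  show Matrix.single i j c - (Matrix.single i j c)ᵀ = _
  rw [Matrix.transpose_single]

theorem elemAlt_self (i : Fin n) (c : F) : elemAlt i i c = 0 := by
  apply Subtype.ext
  rw [elemAlt_coe, sub_self]
  rfl

theorem alt_eq_sum (A : altAdd F n) : A = ∑ i, ∑ j, elemAlt i j (upper A.1 i j) := by
  apply Subtype.ext
  rw [AddSubgroup.val_finsetSum]
  simp_rw [AddSubgroup.val_finsetSum]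
  have h1 : ∀ i j : Fin n, (elemAlt i j (upper A.1 i j)).1 =
      Matrix.single i j (upper A.1 i j) - (Matrix.single i j (upper A.1 i j))ᵀ := fun _ _ => rfl
  simp_rw [h1, Finset.sum_sub_distrib]
  conv_lhs => rw [eq_upper_sub A]
  congr 1
  · exact Matrix.matrix_eq_sum_single (upper A.1)
  · conv_lhs => rw [Matrix.matrix_eq_sum_single (upper A.1)]
    rw [Matrix.transpose_sum]
    apply Finset.sum_congr rfl
    intro i _
    rw [Matrix.transpose_sum]

/-- the transvection `1 + E_ik` in `SL_n` -/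
def tvE (i k : Fin n) (hik : i ≠ k) : SS n F :=
  ⟨Matrix.transvection i k 1, Matrix.det_transvection_of_ne i k hik 1⟩

theorem conjAlt_tvE (i j k : Fin n) (hij : i ≠ j) (hki : k ≠ i) (hkj : k ≠ j) (c : F) :
    conjAlt (tvE i k hki.symm) (elemAlt k j c) = elemAlt k j c + elemAlt i j c := by
  apply Subtype.ext
  rw [conjAlt_coe, AddSubgroup.coe_add, elemAlt_coe, elemAlt_coe]
  show Matrix.transvection i k 1 * _ * (Matrix.transvection i k 1)ᵀ = _
  unfold Matrix.transvection
  rw [transpose_add, transpose_one, Matrix.transpose_single]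
  simp only [Matrix.add_mul, Matrix.mul_add, Matrix.one_mul, Matrix.mul_one, Matrix.sub_mul,
    Matrix.mul_sub, Matrix.single_mul_single_same, Matrix.single_mul_single_of_ne _ _ _ _ hkj.symm,
    Matrix.single_mul_single_of_ne _ _ _ _ hkj, Matrix.single_mul_single_of_ne _ _ _ _ hki.symm,
    Matrix.single_mul_single_of_ne _ _ _ _ hki, Matrix.single_mul_single_of_ne _ _ _ _ hij,
    Matrix.single_mul_single_of_ne _ _ _ _ hij.symm, one_mul, mul_one, sub_zero, zero_sub, add_zero,
    zero_add, Matrix.zero_mul, Matrix.mul_zero]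
  abel

end iso

section omega
variable {F : Type*} [Field F] {m : ℕ}

/-- the isometry group `O⁺_{2(m+3)}(F)` -/
abbrev IG (m : ℕ) (F : Type*) [Field F] := ↥(isometryGroup F (quadFormPlus (m + 3) F))

/-- the group `Ω⁺_{2(m+3)}(F)` -/
abbrev OG (m : ℕ) (F : Type*) [Field F] := ↥(Omega F (quadFormPlus (m + 3) F))

theorem levI_mem (g : SS (m + 3) F) : levI g ∈ Omega F (quadFormPlus (m + 3) F) := by
  have hg : g ∈ commutator (SS (m + 3) F) := by
    rw [Cfsg.Agent.Lib.Helper4.SL_commutator_eq_top (by simp)]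
    trivial
  rw [commutator_def] at hg
  have h := Subgroup.mem_map_of_mem (levI (F := F) (n := m + 3)) hg
  rw [Subgroup.map_commutator] at h
  exact Subgroup.commutator_mono le_top le_top h

theorem exists_third (i j : Fin (m + 3)) : ∃ k : Fin (m + 3), k ≠ i ∧ k ≠ j := by
  by_contra hcon
  push Not at hcon
  have hsub : (Finset.univ : Finset (Fin (m + 3))) ⊆ {i, j} := by
    intro k _
    by_cases hki : k = i
    · simp [hki]
    · simp [hcon k hki]
  have h1 : Fintype.card (Fin (m + 3)) ≤ 2 :=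
    calc Fintype.card (Fin (m + 3)) = (Finset.univ : Finset (Fin (m + 3))).card := rfl
      _ ≤ ({i, j} : Finset (Fin (m + 3))).card := Finset.card_le_card hsub
      _ ≤ 2 := Finset.card_le_two
  rw [Fintype.card_fin] at h1
  omega

theorem uQI_elem_mem (i j : Fin (m + 3)) (c : F) :
    uQI (elemAlt i j c) ∈ Omega F (quadFormPlus (m + 3) F) := by
  by_cases hij : i = j
  · subst hij
    rw [elemAlt_self, uQI_zero]
    exact one_mem _
  · obtain ⟨k, hki, hkj⟩ := exists_third i j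
    have h1 : ⁅levI (tvE (F := F) i k hki.symm), uQI (elemAlt k j c)⁆ = uQI (elemAlt i j c) := by
      rw [commutatorElement_def, levI_conj_uQI, conjAlt_tvE i j k hij hki hkj, ← uQI_neg, ← uQI_add]
      congr 1
      abel
    rw [← h1]
    exact Subgroup.commutator_mem_commutator (Subgroup.mem_top _) (Subgroup.mem_top _)

theorem uQI_mem (A : altAdd F (m + 3)) : uQI A ∈ Omega F (quadFormPlus (m + 3) F) := by
  classical
  have key : ∀ (s : Finset (Fin (m + 3) × Fin (m + 3))) (f : Fin (m + 3) × Fin (m + 3) → F),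
      uQI (∑ p ∈ s, elemAlt p.1 p.2 (f p)) ∈ Omega F (quadFormPlus (m + 3) F) := by
    intro s f
    induction s using Finset.induction_on with
    | empty => rw [Finset.sum_empty, uQI_zero]; exact one_mem _
    | insert a s ha ih =>
      rw [Finset.sum_insert ha, uQI_add]
      exact mul_mem (uQI_elem_mem _ _ _) ih
  rw [alt_eq_sum A, ← Finset.sum_product']
  exact key _ (fun p => upper A.1 p.1 p.2)

/-- `uQ A = [[1, A], [0, 1]]` in `Ω` -/
def uQ (A : altAdd F (m + 3)) : OG m F := ⟨uQI A, uQI_mem A⟩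

/-- `lev g = diag (g, g⁻ᵀ)` in `Ω` -/
def lev : SS (m + 3) F →* OG m F where
  toFun g := ⟨levI g, levI_mem g⟩
  map_one' := Subtype.ext (map_one levI)
  map_mul' g h := Subtype.ext (map_mul levI g h)

theorem uQ_coe (A : altAdd F (m + 3)) : (uQ A : OG m F).1 = uQI A := rfl

theorem lev_coe (g : SS (m + 3) F) : (lev g : OG m F).1 = levI g := rfl

theorem uQ_add (A A' : altAdd F (m + 3)) : (uQ (A + A') : OG m F) = uQ A * uQ A' :=
  Subtype.ext (uQI_add A A')

theorem uQ_zero : (uQ (0 : altAdd F (m + 3)) : OG m F) = 1 := Subtype.ext uQI_zero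

theorem uQ_neg (A : altAdd F (m + 3)) : (uQ (-A) : OG m F) = (uQ A)⁻¹ := Subtype.ext (uQI_neg A)

theorem uQ_injective : Function.Injective (uQ : altAdd F (m + 3) → OG m F) := by
  intro A A' h
  exact uQI_injective (congrArg Subtype.val h)

theorem lev_mul_uQ (g : SS (m + 3) F) (A : altAdd F (m + 3)) :
    (lev g : OG m F) * uQ A = uQ (conjAlt g A) * lev g := Subtype.ext (levI_mul_uQI g A)

theorem lev_conj_uQ (g : SS (m + 3) F) (A : altAdd F (m + 3)) :
    (lev g : OG m F) * uQ A * (lev g)⁻¹ = uQ (conjAlt g A) := by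
  rw [lev_mul_uQ, mul_assoc, mul_inv_cancel, mul_one]

end omega

end Cfsg.Agent.Lib.Helper8.OMP
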