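import Mathlib
import Cfsg.Prelude
import Cfsg.Agent.Lib.Helper8.OMPGrp

set_option autoImplicit false
set_option linter.unusedSectionVars false
set_option linter.unusedVariables false

/-!
Farm OMP (statement S2345), part 3 of the common definitions: multiplicities of the characters of the
Siegel radical `Q = {uQ A}` in a class function of `Ω⁺_{2(m+3)}(F)`, the fixed point character `res0`,
the stabiliser of a character of `Q`.
-/

namespace Cfsg.Agent.Lib.Helper8.OMP

open Matrix Cfsg Cfsg.Agent.Lib.Helper1.MND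

variable {F : Type*} [Field F] [Fintype F] {m : ℕ}

/-- multiplicity of the character `uQ A ↦ ψ ⟨B, A⟩` of `Q` in the function `χ` -/
noncomputable def mB (ψ : AddChar F ℂ) (χ : OG m F → ℂ) (B : altAdd F (m + 3)) : ℂ :=
  (Fintype.card (altAdd F (m + 3)) : ℂ)⁻¹ *
    ∑ A : altAdd F (m + 3), ψ (-(pairAlt B.1 A.1)) * χ (uQ A)

/-- the character of the fixed points of `Q`, as a function on `SL_(m+3)` -/
noncomputable def res0 (χ : OG m F → ℂ) (g : SS (m + 3) F) : ℂ :=
  (Fintype.card (altAdd F (m + 3)) : ℂ)⁻¹ * ∑ A : altAdd F (m + 3), χ (uQ A * lev g)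

/-- only the forms of rank two (and zero) occur, the forms of rank two with multiplicity one -/
def ROne (ψ : AddChar F ℂ) (χ : OG m F → ℂ) : Prop :=
  (∀ B : altAdd F (m + 3), IsR2 B → mB ψ χ B = 1) ∧
    ∀ B : altAdd F (m + 3), B ≠ 0 → ¬ IsR2 B → mB ψ χ B = 0

/-- the stabiliser in `Ω` of the character `λ_B` of `Q`: the elements normalising `Q` through maps
preserving `⟨B, ·⟩` -/
def StabB (B : altAdd F (m + 3)) : Subgroup (OG m F) where
  carrier := {y | ∃ L L' : altAdd F (m + 3) → altAdd F (m + 3),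
    (∀ A, y * uQ A * y⁻¹ = uQ (L A)) ∧ (∀ A, y⁻¹ * uQ A * y = uQ (L' A)) ∧
    (∀ A, pairAlt B.1 (L A).1 = pairAlt B.1 A.1) ∧ (∀ A, pairAlt B.1 (L' A).1 = pairAlt B.1 A.1)}
  one_mem' := ⟨id, id, fun A => by simp, fun A => by simp, fun _ => rfl, fun _ => rfl⟩
  mul_mem' := by
    rintro y z ⟨L, L', h1, h2, h3, h4⟩ ⟨K, K', k1, k2, k3, k4⟩
    refine ⟨fun A => L (K A), fun A => K' (L' A), fun A => ?_, fun A => ?_, fun A => ?_,
      fun A => ?_⟩
    · rw [← h1, ← k1]; group
    · rw [← k2, ← h2]; group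
    · rw [h3, k3]
    · rw [k4, h4]
  inv_mem' := by
    rintro y ⟨L, L', h1, h2, h3, h4⟩
    exact ⟨L', L, fun A => by rw [inv_inv]; exact h2 A, fun A => by rw [inv_inv]; exact h1 A,
      h4, h3⟩

/-- the long root elements: the conjugates under the isometry group of the `uQ (t (E₀₁ - E₁₀))`,
`t ≠ 0` (a normal subset of `Ω`) -/
def Tall (m : ℕ) (F : Type*) [Field F] : Set (OG m F) :=
  {x | ∃ (o : IG m F) (s : F), s ≠ 0 ∧ x.1 = o * uQI (tE01 m s) * o⁻¹}

/-- the average of a function on `SL_(m+3)` over the root group `tvS` (`avgB` of the farm MND) -/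
theorem avgB_def (φ : SS (m + 3) F → ℂ) :
    avgB (m := m + 1) φ = (Fintype.card F : ℂ)⁻¹ * ∑ t : F, φ (tvS t) := rfl

end Cfsg.Agent.Lib.Helper8.OMP
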