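import Mathlib
import Cfsg.Prelude
import Cfsg.Agent.Lib.Helper8.OMPDefs
import Cfsg.Agent.Lib.Helper8.MNDA2a

set_option autoImplicit false
set_option linter.unusedSectionVars false
set_option linter.unusedVariables false
set_option linter.unusedSimpArgs false

/-!
Farm OMP (statement S2345), unit T: the torus element `diag (δ², 1, …, 1; δ⁻², 1, …, 1)` lies in
`Ω⁺_{2(m+3)}(F)` (it is the commutator of `diag (δ, 1, …; δ⁻¹, 1, …)` and the isometry swapping
`e₀ ↔ f₀`) and acts on the Siegel radical by `A ↦ D A D`, `D = diag (δ², 1, …, 1)`.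
-/

namespace Cfsg.Agent.Lib.Helper8.OMP

open Matrix Cfsg Cfsg.Agent.Lib.Helper1.MND
open scoped commutatorElement

section tor

variable {F : Type*} [Field F] {m : ℕ}

/-- the diagonal `(a, 1, …, 1; a⁻¹, 1, …, 1)` -/
def av (m : ℕ) (a : F) : Fin (m + 3) ⊕ Fin (m + 3) → F :=
  Sum.elim (fun i => if i = 0 then a else 1) (fun i => if i = 0 then a⁻¹ else 1)

theorem av_mul_av (a : F) (ha : a ≠ 0) (x : Fin (m + 3) ⊕ Fin (m + 3)) :
    av m a x * av m a⁻¹ x = 1 := by
  rcases x with i | i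
  · by_cases hi : i = 0
    · simp [av, hi, ha]
    · simp [av, hi]
  · by_cases hi : i = 0
    · simp [av, hi, ha]
    · simp [av, hi]

theorem av_inl_mul_inr (a : F) (ha : a ≠ 0) (i : Fin (m + 3)) :
    av m a (Sum.inl i) * av m a (Sum.inr i) = 1 := by
  by_cases hi : i = 0
  · simp [av, hi, ha]
  · simp [av, hi]

/-- `diag (a, 1, …; a⁻¹, 1, …)` in the general linear group -/
def dG (m : ℕ) (a : F) (ha : a ≠ 0) : Matrix.GeneralLinearGroup (Fin (m + 3) ⊕ Fin (m + 3)) F :=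
  ⟨Matrix.diagonal (av m a), Matrix.diagonal (av m a⁻¹), by
    rw [Matrix.diagonal_mul_diagonal, ← Matrix.diagonal_one]
    congr 1
    ext x
    exact av_mul_av a ha x, by
    rw [Matrix.diagonal_mul_diagonal, ← Matrix.diagonal_one]
    congr 1
    ext x
    rw [mul_comm]
    exact av_mul_av a ha x⟩

theorem dG_mem (a : F) (ha : a ≠ 0) : dG m a ha ∈ isometryGroup F (quadFormPlus (m + 3) F) := by
  rw [mem_iso_iff]
  intro v
  show quadFormPlus (m + 3) F (Matrix.diagonal (av m a) *ᵥ v) = _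
  unfold quadFormPlus
  apply Finset.sum_congr rfl
  intro i _
  rw [Matrix.mulVec_diagonal, Matrix.mulVec_diagonal]
  have h := av_inl_mul_inr (m := m) a ha i
  linear_combination (v (Sum.inl i) * v (Sum.inr i)) * h

/-- `diag (a, 1, …; a⁻¹, 1, …)` in the isometry group -/
def dI (m : ℕ) (a : F) (ha : a ≠ 0) : IG m F := ⟨dG m a ha, dG_mem a ha⟩

theorem dI_coe (a : F) (ha : a ≠ 0) :
    (((dI m a ha : IG m F) : Matrix.GeneralLinearGroup (Fin (m + 3) ⊕ Fin (m + 3)) F) :
      Matrix (Fin (m + 3) ⊕ Fin (m + 3)) (Fin (m + 3) ⊕ Fin (m + 3)) F) =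
      Matrix.diagonal (av m a) := rfl

/-- the transposition `e₀ ↔ f₀` -/
def sw (m : ℕ) : Equiv.Perm (Fin (m + 3) ⊕ Fin (m + 3)) := Equiv.swap (Sum.inl 0) (Sum.inr 0)

theorem sw_inl (i : Fin (m + 3)) : sw m (Sum.inl i) = if i = 0 then Sum.inr 0 else Sum.inl i := by
  by_cases hi : i = 0
  · rw [if_pos hi, hi]
    exact Equiv.swap_apply_left _ _
  · rw [if_neg hi]
    apply Equiv.swap_apply_of_ne_of_ne
    · intro h
      exact hi (Sum.inl_injective h)
    · simp

theorem sw_inr (i : Fin (m + 3)) : sw m (Sum.inr i) = if i = 0 then Sum.inl 0 else Sum.inr i := by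
  by_cases hi : i = 0
  · rw [if_pos hi, hi]
    exact Equiv.swap_apply_right _ _
  · rw [if_neg hi]
    apply Equiv.swap_apply_of_ne_of_ne
    · simp
    · intro h
      exact hi (Sum.inr_injective h)

/-- the permutation matrix of `e₀ ↔ f₀` in the general linear group -/
def sG (m : ℕ) (F : Type*) [Field F] : Matrix.GeneralLinearGroup (Fin (m + 3) ⊕ Fin (m + 3)) F :=
  ⟨(sw m).permMatrix F, (sw m).permMatrix F, by
    rw [← Matrix.permMatrix_mul, sw, Equiv.swap_mul_self, Matrix.permMatrix_one], by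
    rw [← Matrix.permMatrix_mul, sw, Equiv.swap_mul_self, Matrix.permMatrix_one]⟩

theorem sG_mem : sG m F ∈ isometryGroup F (quadFormPlus (m + 3) F) := by
  rw [mem_iso_iff]
  intro v
  show quadFormPlus (m + 3) F ((sw m).permMatrix F *ᵥ v) = _
  rw [Matrix.permMatrix_mulVec]
  unfold quadFormPlus
  apply Finset.sum_congr rfl
  intro i _
  rw [Function.comp_apply, Function.comp_apply, sw_inl, sw_inr]
  by_cases hi : i = 0
  · rw [if_pos hi, if_pos hi, hi, mul_comm]
  · rw [if_neg hi, if_neg hi]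

/-- the isometry `e₀ ↔ f₀` -/
def sI (m : ℕ) (F : Type*) [Field F] : IG m F := ⟨sG m F, sG_mem⟩

theorem av_sw (a : F) (ha : a ≠ 0) (x : Fin (m + 3) ⊕ Fin (m + 3)) :
    av m a x * av m a (sw m x) = 1 := by
  rcases x with i | i
  · rw [sw_inl]
    by_cases hi : i = 0
    · rw [if_pos hi, hi]
      exact av_inl_mul_inr a ha 0
    · rw [if_neg hi]
      simp [av, hi]
  · rw [sw_inr]
    by_cases hi : i = 0
    · rw [if_pos hi, hi, mul_comm]
      exact av_inl_mul_inr a ha 0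
    · rw [if_neg hi]
      simp [av, hi]

theorem av_sq (a : F) (x : Fin (m + 3) ⊕ Fin (m + 3)) : av m (a ^ 2) x = av m a x ^ 2 := by
  rcases x with i | i
  · by_cases hi : i = 0
    · simp [av, hi]
    · simp [av, hi]
  · by_cases hi : i = 0
    · simp [av, hi]
    · simp [av, hi]

theorem dI_mul_sI (a : F) (ha : a ≠ 0) :
    dI m a ha * sI m F = dI m (a ^ 2) (pow_ne_zero 2 ha) * sI m F * dI m a ha := by
  apply iso_ext
  show Matrix.diagonal (av m a) * (sw m).permMatrix F =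
    Matrix.diagonal (av m (a ^ 2)) * (sw m).permMatrix F * Matrix.diagonal (av m a)
  ext x y
  rw [Matrix.diagonal_mul, Matrix.mul_diagonal, Matrix.diagonal_mul]
  have hP : (sw m).permMatrix F x y = if y ∈ some (sw m x) then 1 else 0 := by
    rw [Equiv.Perm.permMatrix, PEquiv.toMatrix_apply, Equiv.toPEquiv_apply]
  rw [hP]
  by_cases hxy : y ∈ some (sw m x)
  · rw [if_pos hxy]
    have hy : y = sw m x := by
      have h0 : sw m x = y := by simpa using hxy
      exact h0.symm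
    rw [hy, av_sq]
    have h := av_sw a ha x
    linear_combination (-(av m a x)) * h
  · rw [if_neg hxy, mul_zero, mul_zero, zero_mul]

theorem dI_sq_mem (a : F) (ha : a ≠ 0) :
    dI m (a ^ 2) (pow_ne_zero 2 ha) ∈ Omega F (quadFormPlus (m + 3) F) := by
  have h := Cfsg.Agent.Lib.Helper8.MND.comm_eq_of_mul_eq _ _ _ (dI_mul_sI (m := m) a ha)
  rw [← h]
  exact Subgroup.commutator_mem_commutator (Subgroup.mem_top _) (Subgroup.mem_top _)

theorem torM_mul_inv (δ : F) (hδ : δ ≠ 0) : torM m δ * torM m δ⁻¹ = 1 := by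
  unfold torM
  rw [Matrix.diagonal_mul_diagonal, ← Matrix.diagonal_one]
  congr 1
  ext i
  by_cases hi : i = 0
  · simp [hi, hδ]
  · simp [hi]

theorem dI_sq_coe (δ : F) (hδ : δ ≠ 0) :
    (((dI m (δ ^ 2) (pow_ne_zero 2 hδ) : IG m F) :
      Matrix.GeneralLinearGroup (Fin (m + 3) ⊕ Fin (m + 3)) F) :
      Matrix (Fin (m + 3) ⊕ Fin (m + 3)) (Fin (m + 3) ⊕ Fin (m + 3)) F) =
      fromBlocks (torM m δ) 0 0 (torM m δ⁻¹) := by
  rw [dI_coe]
  unfold torM
  rw [Matrix.fromBlocks_diagonal]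
  congr 1
  ext x
  rcases x with i | i
  · rfl
  · by_cases hi : i = 0
    · simp [av, hi]
    · simp [av, hi]

theorem dI_sq_mul_uQI (δ : F) (hδ : δ ≠ 0) (A : altAdd F (m + 3)) :
    dI m (δ ^ 2) (pow_ne_zero 2 hδ) * uQI A =
      uQI (actAlt (torM m δ) A) * dI m (δ ^ 2) (pow_ne_zero 2 hδ) := by
  apply iso_ext
  rw [Subgroup.coe_mul, Units.val_mul, Subgroup.coe_mul, Units.val_mul, dI_sq_coe δ hδ, uQI_coe,
    uQI_coe, fromBlocks_multiply, fromBlocks_multiply, actAlt_coe]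
  simp only [Matrix.one_mul, Matrix.mul_one, Matrix.mul_zero, Matrix.zero_mul, add_zero, zero_add]
  congr 1
  have ht : (torM m δ)ᵀ = torM m δ := by
    unfold torM
    rw [Matrix.diagonal_transpose]
  rw [ht, Matrix.mul_assoc, Matrix.mul_assoc, torM_mul_inv δ hδ, Matrix.mul_one]

end tor

section final

variable {F : Type*} [Field F] [Fintype F] [DecidableEq F] {m : ℕ}

/-- **Unit T** -/
theorem exists_tor (δ : F) (hδ : δ ≠ 0) :
    ∃ τ : OG m F, ∀ A : altAdd F (m + 3), τ * uQ A * τ⁻¹ = uQ (actAlt (torM m δ) A) := by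
  refine ⟨⟨dI m (δ ^ 2) (pow_ne_zero 2 hδ), dI_sq_mem δ hδ⟩, fun A => ?_⟩
  rw [mul_inv_eq_iff_eq_mul]
  apply Subtype.ext
  exact dI_sq_mul_uQI δ hδ A

end final

end Cfsg.Agent.Lib.Helper8.OMP
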