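import Cfsg.Agent.Lib.Helper8.Asch26

set_option autoImplicit false

/-! The wreath decomposition: a matrix permuting the position algebras is a factor permutation
times a pure tensor. -/

namespace Cfsg.Agent.Lib.Helper8.Asch

open Matrix

variable {k m : ℕ} {F : Type*} [Field F]

theorem posMat_injective (hm : 0 < m) (i : Fin k) :
    Function.Injective (posMat i : Matrix (Fin m) (Fin m) F → _) := by
  intro X Y hXY
  ext p q
  let z : Fin m := ⟨0, hm⟩
  have h1 := congrFun (congrFun hXY (Function.update (fun _ => z) i p))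
    (Function.update (fun _ => z) i q)
  rw [posMat_apply, posMat_apply] at h1
  have h2 : ∀ j, j ≠ i → Function.update (fun _ : Fin k => z) i p j =
      Function.update (fun _ : Fin k => z) i q j := by
    intro j hj
    rw [Function.update_of_ne hj, Function.update_of_ne hj]
  rw [if_pos h2, if_pos h2, Function.update_self, Function.update_self] at h1
  exact h1

theorem ptM_update_smul (Xs : Fin k → Matrix (Fin m) (Fin m) F) (i : Fin k) (c : F) :
    ptM (Function.update Xs i (c • Xs i)) = c • ptM Xs := by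
  have h1 : ptM (Function.update Xs i (c • Xs i)) =
      ptM (fun j => (Function.update (fun _ => (1 : Matrix (Fin m) (Fin m) F)) i
        (c • (1 : Matrix (Fin m) (Fin m) F))) j * Xs j) := by
    congr 1
    funext j
    by_cases hj : j = i
    · subst hj
      simp
    · simp [Function.update_of_ne hj]
  rw [h1, ← ptM_mul]
  have h2 : ptM (Function.update (fun _ => (1 : Matrix (Fin m) (Fin m) F)) i
      (c • (1 : Matrix (Fin m) (Fin m) F))) = posMat i (c • (1 : Matrix (Fin m) (Fin m) F)) := rfl
  rw [h2, posMat_smul, posMat_one, Matrix.smul_mul, one_mul]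

theorem ptM_conj_posMat (Us Vs : Fin k → Matrix (Fin m) (Fin m) F) (i : Fin k)
    (X : Matrix (Fin m) (Fin m) F) (h : ∀ j, Us j * Vs j = 1) :
    ptM Us * posMat i X * ptM Vs = posMat i (Us i * X * Vs i) := by
  unfold posMat
  rw [ptM_mul, ptM_mul]
  congr 1
  funext j
  by_cases hj : j = i
  · subst hj
    simp
  · simp [Function.update_of_ne hj, h j]

theorem wreath_decomp (hm : 0 < m) (hk : 0 < k) (g : GL (Fin k → Fin m) F)
    (π : Equiv.Perm (Fin k))
    (hg : ∀ i (X : Matrix (Fin m) (Fin m) F), ∃ X' : Matrix (Fin m) (Fin m) F,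
      (g : Matrix (Fin k → Fin m) (Fin k → Fin m) F) * posMat i X *
        ((g⁻¹ : GL (Fin k → Fin m) F) : Matrix (Fin k → Fin m) (Fin k → Fin m) F) =
          posMat (π i) X') :
    ∃ Us : Fin k → GL (Fin m) F,
      (g : Matrix (Fin k → Fin m) (Fin k → Fin m) F) =
        facPerm m F π * ptM (fun i => ((Us i : GL (Fin m) F) : Matrix (Fin m) (Fin m) F)) := by
  have hne : Nonempty (Fin m) := ⟨⟨0, hm⟩⟩
  set gm := (g : Matrix (Fin k → Fin m) (Fin k → Fin m) F) with hgm
  set gi := ((g⁻¹ : GL (Fin k → Fin m) F) : Matrix (Fin k → Fin m) (Fin k → Fin m) F) with hgi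
  have g1 : gm * gi = 1 := by rw [hgm, hgi, ← Units.val_mul, mul_inv_cancel, Units.val_one]
  have g2 : gi * gm = 1 := by rw [hgm, hgi, ← Units.val_mul, inv_mul_cancel, Units.val_one]
  set s := facPerm m F π with hs
  set s' := facPerm m F π⁻¹ with hs'
  have s1 : s * s' = 1 := by rw [hs, hs', facPerm_mul, mul_inv_cancel, facPerm_one]
  have s2 : s' * s = 1 := by rw [hs, hs', facPerm_mul, inv_mul_cancel, facPerm_one]
  set c := s' * gm with hc
  set ci := gi * s with hci
  have c1 : c * ci = 1 := by
    rw [hc, hci]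
    calc s' * gm * (gi * s) = s' * (gm * gi) * s := by simp only [mul_assoc]
      _ = 1 := by rw [g1, mul_one, s2]
  have c2 : ci * c = 1 := by
    rw [hc, hci]
    calc gi * s * (s' * gm) = gi * (s * s') * gm := by simp only [mul_assoc]
      _ = 1 := by rw [s1, mul_one, g2]
  have hcn : ∀ i (X : Matrix (Fin m) (Fin m) F), ∃ X' : Matrix (Fin m) (Fin m) F,
      c * posMat i X * ci = posMat i X' := by
    intro i X
    obtain ⟨X', hX'⟩ := hg i X
    refine ⟨X', ?_⟩
    have h1 := facPerm_conj_posMat (m := m) (F := F) π⁻¹ (π i) X'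
    rw [inv_inv] at h1
    have h2 : (π⁻¹ : Equiv.Perm (Fin k)) (π i) = i := by simp
    rw [h2] at h1
    rw [← h1, ← hX', hc, hci]
    simp only [mul_assoc, hs, hs']
  choose θ hθ using hcn
  have hone : ∀ i, θ i 1 = 1 := by
    intro i
    apply posMat_injective hm i
    rw [← hθ, posMat_one, mul_one, c1]
  have hmul : ∀ i X Y, θ i (X * Y) = θ i X * θ i Y := by
    intro i X Y
    apply posMat_injective hm i
    rw [← hθ, ← posMat_mul, ← posMat_mul, ← hθ, ← hθ]
    calc c * (posMat i X * posMat i Y) * ci = c * posMat i X * 1 * posMat i Y * ci := by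
          simp only [mul_assoc, one_mul]
      _ = _ := by
          rw [← c2]
          simp only [mul_assoc]
  have hadd : ∀ i X Y, θ i (X + Y) = θ i X + θ i Y := by
    intro i X Y
    apply posMat_injective hm i
    rw [← hθ, posMat_add, posMat_add, ← hθ, ← hθ, mul_add, add_mul]
  have hsmul : ∀ i (a : F) X, θ i (a • X) = a • θ i X := by
    intro i a X
    apply posMat_injective hm i
    rw [← hθ, posMat_smul, posMat_smul, ← hθ, Matrix.mul_smul, Matrix.smul_mul]
  let θa : ∀ i, Matrix (Fin m) (Fin m) F →ₐ[F] Matrix (Fin m) (Fin m) F := fun i =>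
    AlgHom.ofLinearMap
      { toFun := θ i
        map_add' := hadd i
        map_smul' := hsmul i } (hone i) (hmul i)
  have hinner : ∀ i, ∃ U : GL (Fin m) F, ∀ X, θ i X =
      (U : Matrix (Fin m) (Fin m) F) * X * ((U⁻¹ : GL (Fin m) F) : Matrix (Fin m) (Fin m) F) :=
    fun i => algHom_matrix_inner (θa i)
  choose U hU using hinner
  set u := ptM (fun i => ((U i : GL (Fin m) F) : Matrix (Fin m) (Fin m) F)) with hu
  set ui := ptM (fun i => (((U i)⁻¹ : GL (Fin m) F) : Matrix (Fin m) (Fin m) F)) with hui
  have u1 : u * ui = 1 := by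
    rw [hu, hui, ptM_mul]
    simp only [← Units.val_mul, mul_inv_cancel, Units.val_one]
    exact ptM_one
  have u2 : ui * u = 1 := by
    rw [hu, hui, ptM_mul]
    simp only [← Units.val_mul, inv_mul_cancel, Units.val_one]
    exact ptM_one
  have hconj : ∀ i X, u * posMat i X * ui = c * posMat i X * ci := by
    intro i X
    rw [hθ, hU, hu, hui]
    exact ptM_conj_posMat _ _ i X (fun j => by rw [← Units.val_mul, mul_inv_cancel, Units.val_one])
  have hcomm : ∀ i X, (ui * c) * posMat i X = posMat i X * (ui * c) := by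
    intro i X
    calc ui * c * posMat i X = ui * (c * posMat i X * ci) * c := by
          have : ui * (c * posMat i X * ci) * c = ui * c * posMat i X * (ci * c) := by
            simp only [mul_assoc]
          rw [this, c2, mul_one]
      _ = ui * (u * posMat i X * ui) * c := by rw [hconj]
      _ = (ui * u) * posMat i X * (ui * c) := by simp only [mul_assoc]
      _ = posMat i X * (ui * c) := by rw [u2, one_mul]
  obtain ⟨lam, hlam⟩ := scalar_of_commute_posMat (ui * c) hcomm
  have hcu : c = lam • u := by
    calc c = (u * ui) * c := by rw [u1, one_mul]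
      _ = u * (ui * c) := by rw [mul_assoc]
      _ = lam • u := by rw [hlam, Matrix.mul_smul, mul_one]
  have hlam0 : lam ≠ 0 := by
    rintro rfl
    rw [zero_smul] at hcu
    have hne' : Nonempty (Fin k → Fin m) := ⟨fun _ => ⟨0, hm⟩⟩
    have : (1 : Matrix (Fin k → Fin m) (Fin k → Fin m) F) = 0 := by
      rw [← c1, hcu, zero_mul]
    exact one_ne_zero this
  let i₀ : Fin k := ⟨0, hk⟩
  have hdet : ((lam • ((U i₀ : GL (Fin m) F) : Matrix (Fin m) (Fin m) F)).det) ≠ 0 := by
    rw [Matrix.det_smul]
    exact mul_ne_zero (pow_ne_zero _ hlam0)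
      ((Matrix.isUnit_iff_isUnit_det _).mp (U i₀).isUnit).ne_zero
  refine ⟨Function.update U i₀ (Matrix.GeneralLinearGroup.mkOfDetNeZero _ hdet), ?_⟩
  have h3 : (fun i => ((Function.update U i₀ (Matrix.GeneralLinearGroup.mkOfDetNeZero _ hdet) i :
      GL (Fin m) F) : Matrix (Fin m) (Fin m) F)) =
      Function.update (fun i => ((U i : GL (Fin m) F) : Matrix (Fin m) (Fin m) F)) i₀
        (lam • ((U i₀ : GL (Fin m) F) : Matrix (Fin m) (Fin m) F)) := by
    funext j
    by_cases hj : j = i₀
    · subst hj
      rw [Function.update_self, Function.update_self]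
      rfl
    · rw [Function.update_of_ne hj, Function.update_of_ne hj]
  rw [h3, ptM_update_smul, ← hu, ← hcu, hc, ← mul_assoc, s1, one_mul]

end Cfsg.Agent.Lib.Helper8.Asch
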