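import Mathlib

set_option autoImplicit false

/-! Matrix groups of class two modulo scalars: the scalar subgroup and the conjugation characters. -/

namespace Cfsg.Agent.Lib.Helper8.Asch

open scoped commutatorElement
open Matrix

variable {ι : Type*} [Fintype ι] [DecidableEq ι] {F : Type*} [Field F]

/-- the scalar matrices -/
def Zs (ι : Type*) [Fintype ι] [DecidableEq ι] (F : Type*) [Field F] : Subgroup (GL ι F) where
  carrier := {g | ∃ c : Fˣ, (g : Matrix ι ι F) = (c : F) • (1 : Matrix ι ι F)}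
  one_mem' := ⟨1, by simp⟩
  mul_mem' := by
    rintro a b ⟨c, hc⟩ ⟨d, hd⟩
    refine ⟨c * d, ?_⟩
    rw [Units.val_mul, hc, hd, Units.val_mul, smul_mul_smul_comm, mul_one]
  inv_mem' := by
    rintro a ⟨c, hc⟩
    refine ⟨c⁻¹, ?_⟩
    have h1 : (a : Matrix ι ι F) * ((c⁻¹ : Fˣ) : F) • (1 : Matrix ι ι F) = 1 := by
      rw [hc, smul_mul_smul_comm, mul_one, Units.mul_inv, one_smul]
    calc ((a⁻¹ : GL ι F) : Matrix ι ι F)
        = ((a⁻¹ : GL ι F) : Matrix ι ι F) * ((a : Matrix ι ι F) *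
            ((c⁻¹ : Fˣ) : F) • (1 : Matrix ι ι F)) := by rw [h1, mul_one]
      _ = ((c⁻¹ : Fˣ) : F) • (1 : Matrix ι ι F) := by
          rw [← mul_assoc, ← Units.val_mul, inv_mul_cancel, Units.val_one, one_mul]

theorem mem_Zs {g : GL ι F} :
    g ∈ Zs ι F ↔ ∃ c : Fˣ, (g : Matrix ι ι F) = (c : F) • (1 : Matrix ι ι F) := Iff.rfl

theorem Zs_le_center : Zs ι F ≤ Subgroup.center (GL ι F) := by
  rintro g ⟨c, hc⟩
  rw [Subgroup.mem_center_iff]
  intro h
  apply Units.ext
  rw [Units.val_mul, Units.val_mul, hc, Matrix.mul_smul, Matrix.smul_mul, mul_one, one_mul]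

theorem mem_Zs_of_commute [Nonempty ι] {g : GL ι F}
    (h : ∀ M : Matrix ι ι F, (g : Matrix ι ι F) * M = M * (g : Matrix ι ι F)) : g ∈ Zs ι F := by
  have h1 : (g : Matrix ι ι F) ∈ Set.range (Matrix.scalar ι) := by
    apply Matrix.mem_range_scalar_of_commute_single
    intro i j _
    exact (h _).symm
  obtain ⟨c, hc⟩ := h1
  have hc0 : c ≠ 0 := by
    rintro rfl
    rw [map_zero] at hc
    have : (1 : Matrix ι ι F) = 0 := by
      rw [← Units.mul_inv g, ← hc, zero_mul]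
    exact one_ne_zero this
  refine ⟨Units.mk0 c hc0, ?_⟩
  rw [← hc, Units.val_mk0, Matrix.smul_one_eq_diagonal]
  rfl

/-- the diagonal entry used to read off scalars -/
noncomputable def sv [Nonempty ι] (g : GL ι F) : F :=
  (g : Matrix ι ι F) (Classical.arbitrary ι) (Classical.arbitrary ι)

theorem val_eq_sv_smul [Nonempty ι] {g : GL ι F} (hg : g ∈ Zs ι F) :
    (g : Matrix ι ι F) = sv g • (1 : Matrix ι ι F) := by
  obtain ⟨c, hc⟩ := hg
  have : sv g = c := by
    unfold sv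
    rw [hc]
    simp
  rw [this, hc]

theorem sv_ne_zero [Nonempty ι] {g : GL ι F} (hg : g ∈ Zs ι F) : sv g ≠ 0 := by
  obtain ⟨c, hc⟩ := hg
  have : sv g = c := by
    unfold sv
    rw [hc]
    simp
  rw [this]
  exact c.ne_zero

theorem sv_one [Nonempty ι] : sv (1 : GL ι F) = 1 := by
  unfold sv
  simp

theorem sv_mul [Nonempty ι] {g h : GL ι F} (hg : g ∈ Zs ι F) (hh : h ∈ Zs ι F) :
    sv (g * h) = sv g * sv h := by
  have h1 := val_eq_sv_smul hg
  have h2 := val_eq_sv_smul hh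
  unfold sv at *
  rw [Units.val_mul, h1, h2, smul_mul_smul_comm, mul_one]
  simp

end Cfsg.Agent.Lib.Helper8.Asch
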