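import Cfsg.Agent.Lib.Helper8.Asch11
import Cfsg.Agent.Lib.Helper8.Asch16
import Cfsg.Agent.Lib.Helper8.Asch9

set_option autoImplicit false

/-! Matrix groups of class two modulo scalars spanning the matrix algebra: coset representatives
of the scalars form a basis. -/

namespace Cfsg.Agent.Lib.Helper8.Asch

open scoped commutatorElement
open Matrix

variable {ι : Type*} [Fintype ι] [DecidableEq ι] {F : Type*} [Field F]

/-- the set of matrices of a subgroup -/
def mset (N : Subgroup (GL ι F)) : Set (Matrix ι ι F) :=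
  (fun g : GL ι F => (g : Matrix ι ι F)) '' (N : Set (GL ι F))

theorem mem_mset {N : Subgroup (GL ι F)} {g : GL ι F} (hg : g ∈ N) : (g : Matrix ι ι F) ∈ mset N :=
  ⟨g, hg, rfl⟩

/-- a finite matrix group, spanning the matrix algebra, of class two modulo scalars -/
structure Cl2 (N : Subgroup (GL ι F)) : Prop where
  fin : Finite N
  span : Submodule.span F (mset N) = ⊤
  comm : ∀ x ∈ N, ∀ y ∈ N, ⁅x, y⁆ ∈ Zs ι F

variable [Nonempty ι] {N : Subgroup (GL ι F)}

/-- an element commuting with `N` is a scalar -/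
theorem Cl2.mem_Zs_of_commute (hN : Cl2 N) {g : GL ι F} (h : ∀ y ∈ N, g * y = y * g) :
    g ∈ Zs ι F := by
  apply Asch.mem_Zs_of_commute
  have h1 : ∀ M ∈ Submodule.span F (mset N), (g : Matrix ι ι F) * M = M * (g : Matrix ι ι F) := by
    intro M hM
    induction hM using Submodule.span_induction with
    | mem M hM =>
      obtain ⟨y, hy, rfl⟩ := hM
      rw [← Units.val_mul, ← Units.val_mul, h y hy]
    | zero => simp
    | add a b _ _ ha hb => rw [mul_add, add_mul, ha, hb]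
    | smul c a _ ha => rw [Matrix.mul_smul, Matrix.smul_mul, ha]
  intro M
  apply h1
  rw [hN.span]
  trivial

/-- the conjugation character attached to `x` -/
noncomputable def lam (hN : Cl2 N) (x : GL ι F) (hx : x ∈ N) : N →* F where
  toFun y := sv ⁅(y : GL ι F), x⁆
  map_one' := by
    show sv ⁅((1 : N) : GL ι F), x⁆ = 1
    rw [Subgroup.coe_one, commutatorElement_one_left, sv_one]
  map_mul' := by
    intro y y'
    show sv ⁅((y * y' : N) : GL ι F), x⁆ = sv ⁅(y : GL ι F), x⁆ * sv ⁅(y' : GL ι F), x⁆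
    rw [Subgroup.coe_mul, comm_mul_left, central_conj Zs_le_center (hN.comm _ y'.2 _ hx),
      sv_mul (hN.comm _ y'.2 _ hx) (hN.comm _ y.2 _ hx), mul_comm]

theorem lam_apply (hN : Cl2 N) (x : GL ι F) (hx : x ∈ N) (y : N) :
    lam hN x hx y = sv ⁅(y : GL ι F), x⁆ := rfl

theorem conj_eq_lam_smul (hN : Cl2 N) (x : GL ι F) (hx : x ∈ N) (y : N) :
    ((y : GL ι F) : Matrix ι ι F) * (x : Matrix ι ι F) * (((y : GL ι F)⁻¹ : GL ι F) : Matrix ι ι F) =
      lam hN x hx y • (x : Matrix ι ι F) := by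
  have h1 : (y : GL ι F) * x * (y : GL ι F)⁻¹ = ⁅(y : GL ι F), x⁆ * x := by
    simp only [commutatorElement_def]; group
  have h2 := congrArg (fun g : GL ι F => (g : Matrix ι ι F)) h1
  simp only [Units.val_mul] at h2
  rw [h2, val_eq_sv_smul (hN.comm _ y.2 _ hx), Matrix.smul_mul, one_mul]
  rfl

theorem lam_ne_zero (hN : Cl2 N) (x : GL ι F) (hx : x ∈ N) (y : N) : lam hN x hx y ≠ 0 :=
  sv_ne_zero (hN.comm _ y.2 _ hx)

theorem lam_eq_imp (hN : Cl2 N) (x x' : GL ι F) (hx : x ∈ N) (hx' : x' ∈ N)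
    (h : lam hN x hx = lam hN x' hx') : x⁻¹ * x' ∈ Zs ι F := by
  apply hN.mem_Zs_of_commute
  intro y hy
  have h1 := conj_eq_lam_smul hN x hx ⟨y, hy⟩
  have h2 := conj_eq_lam_smul hN x' hx' ⟨y, hy⟩
  rw [← h] at h2
  set c := lam hN x hx ⟨y, hy⟩ with hc
  have hc0 : c ≠ 0 := lam_ne_zero hN x hx ⟨y, hy⟩
  -- y (x⁻¹ x') y⁻¹ = x⁻¹ x'
  have h3 : y * (x⁻¹ * x') * y⁻¹ = x⁻¹ * x' := by
    apply Units.ext
    have e1 : y * (x⁻¹ * x') * y⁻¹ = (y * x * y⁻¹)⁻¹ * (y * x' * y⁻¹) := by group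
    rw [e1]
    have e2 : ((y * x * y⁻¹ : GL ι F) : Matrix ι ι F) = c • (x : Matrix ι ι F) := by
      simpa [Units.val_mul] using h1
    have e3 : ((y * x' * y⁻¹ : GL ι F) : Matrix ι ι F) = c • (x' : Matrix ι ι F) := by
      simpa [Units.val_mul] using h2
    have e4 : (((y * x * y⁻¹)⁻¹ : GL ι F) : Matrix ι ι F) =
        c⁻¹ • ((x⁻¹ : GL ι F) : Matrix ι ι F) := by
      have e5 : ((y * x * y⁻¹ : GL ι F) : Matrix ι ι F) * (c⁻¹ • ((x⁻¹ : GL ι F) : Matrix ι ι F))
          = 1 := by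
        rw [e2, smul_mul_smul_comm, mul_inv_cancel₀ hc0, one_smul, ← Units.val_mul,
          mul_inv_cancel, Units.val_one]
      calc (((y * x * y⁻¹)⁻¹ : GL ι F) : Matrix ι ι F)
          = (((y * x * y⁻¹)⁻¹ : GL ι F) : Matrix ι ι F) *
            (((y * x * y⁻¹ : GL ι F) : Matrix ι ι F) *
              (c⁻¹ • ((x⁻¹ : GL ι F) : Matrix ι ι F))) := by rw [e5, mul_one]
        _ = c⁻¹ • ((x⁻¹ : GL ι F) : Matrix ι ι F) := by
          rw [← mul_assoc, ← Units.val_mul, inv_mul_cancel, Units.val_one, one_mul]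
    rw [Units.val_mul, e4, e3, smul_mul_smul_comm, inv_mul_cancel₀ hc0, one_smul, Units.val_mul]
  calc x⁻¹ * x' * y = (y * (x⁻¹ * x') * y⁻¹) * y := by rw [h3]
    _ = y * (x⁻¹ * x') := by group

end Cfsg.Agent.Lib.Helper8.Asch
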