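import Mathlib

set_option autoImplicit false

/-! Pure tensors of matrices, position matrices and factor permutations. -/

namespace Cfsg.Agent.Lib.Helper8.Asch

open Matrix

variable {k m : ℕ} {F : Type*} [Field F]

/-- the tensor product of a family of `m × m` matrices -/
def ptM (Xs : Fin k → Matrix (Fin m) (Fin m) F) : Matrix (Fin k → Fin m) (Fin k → Fin m) F :=
  fun f g => ∏ i, Xs i (f i) (g i)

theorem ptM_apply (Xs : Fin k → Matrix (Fin m) (Fin m) F) (f g : Fin k → Fin m) :
    ptM Xs f g = ∏ i, Xs i (f i) (g i) := rfl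

theorem ptM_mul (Xs Ys : Fin k → Matrix (Fin m) (Fin m) F) :
    ptM Xs * ptM Ys = ptM (fun i => Xs i * Ys i) := by
  ext f g
  rw [Matrix.mul_apply, ptM_apply]
  simp only [ptM_apply, Matrix.mul_apply]
  rw [Finset.prod_univ_sum]
  simp only [Fintype.piFinset_univ]
  apply Finset.sum_congr rfl
  intro h _
  rw [← Finset.prod_mul_distrib]

theorem ptM_one : ptM (fun _ : Fin k => (1 : Matrix (Fin m) (Fin m) F)) = 1 := by
  ext f g
  rw [ptM_apply]
  by_cases hfg : f = g
  · subst hfg
    simp
  · rw [Matrix.one_apply_ne hfg]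
    obtain ⟨i, hi⟩ := Function.ne_iff.mp hfg
    apply Finset.prod_eq_zero (Finset.mem_univ i)
    rw [Matrix.one_apply_ne hi]

/-- the matrix `X` in position `i` -/
def posMat (i : Fin k) (X : Matrix (Fin m) (Fin m) F) : Matrix (Fin k → Fin m) (Fin k → Fin m) F :=
  ptM (Function.update (fun _ => (1 : Matrix (Fin m) (Fin m) F)) i X)

theorem posMat_apply (i : Fin k) (X : Matrix (Fin m) (Fin m) F) (f g : Fin k → Fin m) :
    posMat i X f g = if ∀ j, j ≠ i → f j = g j then X (f i) (g i) else 0 := by
  unfold posMat
  rw [ptM_apply]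
  by_cases h : ∀ j, j ≠ i → f j = g j
  · rw [if_pos h, Finset.prod_eq_single i]
    · rw [Function.update_self]
    · intro j _ hj
      rw [Function.update_of_ne hj, h j hj, Matrix.one_apply_eq]
    · intro hh
      exact absurd (Finset.mem_univ _) hh
  · rw [if_neg h]
    push Not at h
    obtain ⟨j, hj, hfg⟩ := h
    apply Finset.prod_eq_zero (Finset.mem_univ j)
    rw [Function.update_of_ne hj, Matrix.one_apply_ne hfg]

theorem posMat_single_apply (i : Fin k) (p q : Fin m) (f g : Fin k → Fin m) :
    posMat i (Matrix.single p q (1 : F)) f g =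
      if g i = q ∧ f = Function.update g i p then 1 else 0 := by
  rw [posMat_apply]
  by_cases h : g i = q ∧ f = Function.update g i p
  · rw [if_pos h]
    obtain ⟨h1, h2⟩ := h
    have h3 : ∀ j, j ≠ i → f j = g j := by
      intro j hj
      rw [h2, Function.update_of_ne hj]
    rw [if_pos h3, h2, Function.update_self, h1]
    simp
  · rw [if_neg h]
    by_cases h3 : ∀ j, j ≠ i → f j = g j
    · rw [if_pos h3, Matrix.single_apply]
      rw [if_neg]
      rintro ⟨hp, hq⟩
      apply h
      refine ⟨hq.symm, ?_⟩
      funext j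
      by_cases hj : j = i
      · subst hj
        rw [Function.update_self, hp]
      · rw [Function.update_of_ne hj, h3 j hj]
    · rw [if_neg h3]

theorem posMat_mul (i : Fin k) (X Y : Matrix (Fin m) (Fin m) F) :
    posMat i X * posMat i Y = posMat i (X * Y) := by
  unfold posMat
  rw [ptM_mul]
  congr 1
  funext j
  by_cases hj : j = i
  · subst hj
    simp
  · simp [Function.update_of_ne hj]

theorem posMat_one (i : Fin k) : posMat i (1 : Matrix (Fin m) (Fin m) F) = 1 := by
  unfold posMat
  rw [Function.update_eq_self]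
  exact ptM_one

theorem posMat_add (i : Fin k) (X Y : Matrix (Fin m) (Fin m) F) :
    posMat i (X + Y) = posMat i X + posMat i Y := by
  ext f g
  rw [Matrix.add_apply, posMat_apply, posMat_apply, posMat_apply]
  split_ifs
  · rfl
  · simp

theorem posMat_smul (i : Fin k) (c : F) (X : Matrix (Fin m) (Fin m) F) :
    posMat i (c • X) = c • posMat i X := by
  ext f g
  rw [Matrix.smul_apply, posMat_apply, posMat_apply]
  split_ifs
  · rfl
  · simp

theorem posMat_zero (i : Fin k) : posMat i (0 : Matrix (Fin m) (Fin m) F) = 0 := by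
  ext f g
  rw [posMat_apply]
  simp

theorem posMat_sum {α : Type*} (s : Finset α) (i : Fin k) (X : α → Matrix (Fin m) (Fin m) F) :
    posMat i (∑ a ∈ s, X a) = ∑ a ∈ s, posMat i (X a) := by
  classical
  induction s using Finset.induction_on with
  | empty => simp [posMat_zero]
  | insert a s ha ih => rw [Finset.sum_insert ha, Finset.sum_insert ha, posMat_add, ih]

end Cfsg.Agent.Lib.Helper8.Asch
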