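import Cfsg.Agent.Lib.Helper8.Asch28
import Cfsg.Agent.Lib.Helper8.Asch25

set_option autoImplicit false

/-! Commuting subgroups generating an absolutely irreducible group: the tensor factor basis. -/

namespace Cfsg.Agent.Lib.Helper8.Asch

open Module

variable {F : Type*} [Field F] {V : Type*} [AddCommGroup V] [Module F V]

/-- the set of endomorphisms of a subgroup -/
def eset (P : Subgroup (GLV F V)) : Set (Module.End F V) := {x | ∃ g ∈ P, x = (g : Module.End F V)}

/-- the algebra generated by a subgroup -/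
def algOf (P : Subgroup (GLV F V)) : Subalgebra F (Module.End F V) := Algebra.adjoin F (eset P)

theorem mem_algOf {P : Subgroup (GLV F V)} {g : GLV F V} (hg : g ∈ P) :
    (g : Module.End F V) ∈ algOf P := Algebra.subset_adjoin ⟨g, hg, rfl⟩

theorem algOf_commute {P Q : Subgroup (GLV F V)} (h : ∀ x ∈ P, ∀ y ∈ Q, x * y = y * x) :
    ∀ a ∈ algOf P, ∀ b ∈ algOf Q, a * b = b * a := by
  have h1 : ∀ y ∈ Q, algOf P ≤ Subalgebra.centralizer F {(y : Module.End F V)} := by
    intro y hy
    apply Algebra.adjoin_le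
    rintro _ ⟨x, hx, rfl⟩
    rw [SetLike.mem_coe, Subalgebra.mem_centralizer_iff]
    intro z hz
    rw [Set.mem_singleton_iff] at hz
    subst hz
    rw [← Units.val_mul, ← Units.val_mul, h x hx y hy]
  intro a ha
  have h2 : algOf Q ≤ Subalgebra.centralizer F {a} := by
    apply Algebra.adjoin_le
    rintro _ ⟨y, hy, rfl⟩
    rw [SetLike.mem_coe, Subalgebra.mem_centralizer_iff]
    intro z hz
    rw [Set.mem_singleton_iff] at hz
    subst hz
    have := h1 y hy ha
    rw [Subalgebra.mem_centralizer_iff] at this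
    exact (this _ rfl).symm
  intro b hb
  have := h2 hb
  rw [Subalgebra.mem_centralizer_iff] at this
  exact this _ rfl

theorem Nrm_algOf_of_mem {P : Subgroup (GLV F V)} {g : GLV F V} (hg : g ∈ P) :
    Nrm (algOf P) g := by
  intro a ha
  exact (algOf P).mul_mem ((algOf P).mul_mem (mem_algOf hg) ha) (mem_algOf (P.inv_mem hg))

theorem Nrm_algOf_of_commute {P : Subgroup (GLV F V)} {g : GLV F V}
    (h : ∀ a ∈ algOf P, (g : Module.End F V) * a = a * (g : Module.End F V)) :
    Nrm (algOf P) g := by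
  intro a ha
  rw [h a ha, mul_assoc, val_mul_inv, mul_one]
  exact ha

variable {k : ℕ} {P : Fin k → Subgroup (GLV F V)} {N : Subgroup (GLV F V)}

/-- closure induction over the generating subgroups, with a predicate closed under inverses -/
theorem gen_induction (hgen : N ≤ Subgroup.closure (⋃ i, (P i : Set (GLV F V))))
    (p : GLV F V → Prop) (hp : ∀ i, ∀ g ∈ P i, p g) (h1 : p 1)
    (hmul : ∀ g h, p g → p h → p (g * h)) : ∀ g ∈ N, p g := by
  have key : ∀ g ∈ Subgroup.closure (⋃ i, (P i : Set (GLV F V))), p g ∧ p g⁻¹ := by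
    intro g hg'
    induction hg' using Subgroup.closure_induction with
    | mem x hx =>
      obtain ⟨i, hi⟩ := Set.mem_iUnion.mp hx
      exact ⟨hp i x hi, hp i x⁻¹ ((P i).inv_mem hi)⟩
    | one => exact ⟨h1, by rw [inv_one]; exact h1⟩
    | mul x y _ _ hx hy =>
      exact ⟨hmul _ _ hx.1 hy.1, by rw [mul_inv_rev]; exact hmul _ _ hy.2 hx.2⟩
    | inv x _ hx => exact ⟨hx.2, by rw [inv_inv]; exact hx.1⟩
  intro g hg
  exact (key g (hgen hg)).1

theorem Nrm_algOf_of_gen (hgen : N ≤ Subgroup.closure (⋃ i, (P i : Set (GLV F V))))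
    (hcomm : ∀ i j, i ≠ j → ∀ x ∈ P i, ∀ y ∈ P j, x * y = y * x) (i : Fin k) :
    ∀ g ∈ N, Nrm (algOf (P i)) g := by
  apply gen_induction hgen
  · intro j g hg
    by_cases hji : j = i
    · subst hji
      exact Nrm_algOf_of_mem hg
    · apply Nrm_algOf_of_commute
      intro a ha
      exact algOf_commute (hcomm j i hji) _ (mem_algOf hg) a ha
  · exact Nrm.one _
  · intro g h hg hh
    exact hg.mul hh

end Cfsg.Agent.Lib.Helper8.Asch
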