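import Cfsg.Agent.Lib.Helper8.AschM1
import Cfsg.Agent.Lib.Helper8.Asch29
import Cfsg.Agent.Lib.Helper8.Asch17

set_option autoImplicit false

/-! The algebra generated by a matrix group, inside `End (ι → F)`; normalisation. -/

namespace Cfsg.Agent.Lib.Helper8.Asch

open Module Matrix
open Cfsg.Geo

variable {ι : Type} [Fintype ι] [DecidableEq ι] {F : Type*} [Field F]

/-- `toLin'` as a linear map -/
noncomputable def toLinL (ι : Type) [Fintype ι] [DecidableEq ι] (F : Type*) [Field F] :
    Matrix ι ι F →ₗ[F] Module.End F (ι → F) :=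
  (Matrix.toLin' : Matrix ι ι F ≃ₗ[F] ((ι → F) →ₗ[F] (ι → F))).toLinearMap

theorem toLinL_apply (M : Matrix ι ι F) : toLinL ι F M = Matrix.toLin' M := rfl

theorem eset_HV (N : Subgroup (GL ι F)) :
    eset (HV N) = (toLinL ι F) '' mset N := by
  ext x
  constructor
  · rintro ⟨u, hu, rfl⟩
    obtain ⟨g, hg, rfl⟩ := exists_of_mem_HV hu
    exact ⟨(g : Matrix ι ι F), mem_mset hg, (toV_val g).symm⟩
  · rintro ⟨M, ⟨g, hg, rfl⟩, rfl⟩
    exact ⟨toV g, mem_HV hg, (toV_val g)⟩

theorem closure_eset (P : Subgroup (GLV F (ι → F))) :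
    (Submonoid.closure (eset P) : Set (Module.End F (ι → F))) = eset P := by
  apply Set.Subset.antisymm
  · intro x hx
    induction hx using Submonoid.closure_induction with
    | mem x hx => exact hx
    | one => exact ⟨1, P.one_mem, rfl⟩
    | mul x y _ _ hx hy =>
      obtain ⟨g, hg, rfl⟩ := hx
      obtain ⟨h, hh, rfl⟩ := hy
      exact ⟨g * h, P.mul_mem hg hh, (Units.val_mul g h).symm⟩
  · exact Submonoid.subset_closure

theorem mem_algOf_HV_iff (N : Subgroup (GL ι F)) (M : Matrix ι ι F) :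
    Matrix.toLin' M ∈ algOf (HV N) ↔ M ∈ Submodule.span F (mset N) := by
  have h1 : (Matrix.toLin' M ∈ algOf (HV N)) ↔
      Matrix.toLin' M ∈ Subalgebra.toSubmodule (algOf (HV N)) := Iff.rfl
  rw [h1]
  unfold algOf
  rw [Algebra.adjoin_eq_span, closure_eset, eset_HV, ← Submodule.map_span, Submodule.mem_map]
  constructor
  · rintro ⟨M', hM', hMM'⟩
    have : M' = M := Matrix.toLin'.injective hMM'
    rw [← this]
    exact hM'
  · intro hM
    exact ⟨M, hM, rfl⟩

theorem Nrm_algOf_HV {H N : Subgroup (GL ι F)} (hN : ∀ h ∈ H, ∀ x ∈ N, h * x * h⁻¹ ∈ N) :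
    ∀ u ∈ HV H, Nrm (algOf (HV N)) u := by
  intro u hu
  obtain ⟨h, hh, rfl⟩ := exists_of_mem_HV hu
  intro a ha
  -- a is in the span of the group; conjugation preserves it
  have key : ∀ a ∈ Subalgebra.toSubmodule (algOf (HV N)),
      ((toV h : GLV F (ι → F)) : Module.End F (ι → F)) * a *
        (((toV h)⁻¹ : GLV F (ι → F)) : Module.End F (ι → F)) ∈ algOf (HV N) := by
    intro a ha
    unfold algOf at ha
    rw [Algebra.adjoin_eq_span, closure_eset] at ha
    induction ha using Submodule.span_induction with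
    | mem x hx =>
      obtain ⟨g, hg, rfl⟩ := hx
      obtain ⟨g', hg', rfl⟩ := exists_of_mem_HV hg
      have : ((toV h : GLV F (ι → F)) : Module.End F (ι → F)) * ((toV g' : GLV F (ι → F)) :
          Module.End F (ι → F)) * (((toV h)⁻¹ : GLV F (ι → F)) : Module.End F (ι → F)) =
          ((toV (h * g' * h⁻¹) : GLV F (ι → F)) : Module.End F (ι → F)) := by
        rw [map_mul, map_mul, map_inv, Units.val_mul, Units.val_mul]
      rw [this]
      exact mem_algOf (mem_HV (hN h hh g' hg'))
    | zero =>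
      rw [mul_zero, zero_mul]
      exact Subalgebra.zero_mem _
    | add x y _ _ hx hy =>
      rw [mul_add, add_mul]
      exact Subalgebra.add_mem _ hx hy
    | smul c x _ hx =>
      rw [mul_smul_comm, smul_mul_assoc]
      exact Subalgebra.smul_mem _ hx c
  exact key a ha

end Cfsg.Agent.Lib.Helper8.Asch
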