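import Cfsg.Agent.Lib.Helper8.AschILC
import Cfsg.Agent.Lib.Helper8.AschM2

set_option autoImplicit false

/-! Translation of the abstract conclusions to the frozen classes 1, 2, 3. -/

namespace Cfsg.Agent.Lib.Helper8.Asch

open Module Matrix
open Cfsg.Geo

variable {n : ℕ} {F : Type*} [Field F] [Fintype F]

theorem class1_of_not_irr (H : Subgroup (GL (Fin n) F)) (h : ¬ Irr (HV H)) :
    ∃ M : Subgroup (GL (Fin n) F), ILC n F M ∧ H ≤ M := by
  unfold Irr at h
  push Not at h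
  obtain ⟨W, hW, hbot, htop⟩ := h
  refine ⟨subspaceStabilizer W, Or.inl ⟨W, hbot, htop, rfl⟩, ?_⟩
  intro g hg v
  have h1 : ∀ g ∈ H, ∀ w ∈ W, (g : Matrix (Fin n) (Fin n) F) *ᵥ w ∈ W := by
    intro g hg w hw
    have := hW (toV g) (mem_HV hg) w hw
    rwa [toV_apply] at this
  constructor
  · intro hv
    exact h1 g hg v hv
  · intro hv
    have h2 := h1 g⁻¹ (H.inv_mem hg) _ hv
    have e : ((g⁻¹ : GL (Fin n) F) : Matrix (Fin n) (Fin n) F) *ᵥ
        ((glToMat (Fin n) F) g *ᵥ v) = v := by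
      show ((g⁻¹ : GL (Fin n) F) : Matrix (Fin n) (Fin n) F) *ᵥ
        ((g : Matrix (Fin n) (Fin n) F) *ᵥ v) = v
      rw [Matrix.mulVec_mulVec, ← Units.val_mul, inv_mul_cancel, Units.val_one, Matrix.one_mulVec]
    rwa [e] at h2

theorem class2_of_decomp (H : Subgroup (GL (Fin n) F))
    (h : ∃ (t m : ℕ) (D : Fin t → Submodule F (Fin n → F)), 2 ≤ t ∧ 0 < m ∧
      (∀ i, Module.finrank F (D i) = m) ∧ iSupIndep D ∧ iSup D = ⊤ ∧
      ∀ h ∈ HV H, ∃ σ : Equiv.Perm (Fin t), ∀ i,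
        (D i).map (h : Module.End F (Fin n → F)) = D (σ i)) :
    ∃ M : Subgroup (GL (Fin n) F), ILC n F M ∧ H ≤ M := by
  obtain ⟨t, m, D, h2, hm, hfr, hind, hsup, hperm⟩ := h
  refine ⟨decompositionStabilizer D, ?_, ?_⟩
  · right; right; right; left
    exact ⟨t, m, D, ⟨h2, hm, hfr, hind, hsup⟩, rfl⟩
  · intro g hg
    obtain ⟨σ, hσ⟩ := hperm (toV g) (mem_HV hg)
    exact ⟨σ, fun i => by rw [← hσ i, toV_val]⟩

theorem class3_of_field (H : Subgroup (GL (Fin n) F))
    (h : ∃ (r : ℕ) (K : Subalgebra F (Module.End F (Fin n → F))), r.Prime ∧ IsFld K ∧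
      finrank F K = r ∧ ∀ h ∈ HV H, ∀ x, x ∈ K ↔
        (h : Module.End F (Fin n → F)) * x * ((h⁻¹ : GLV F (Fin n → F)) : Module.End F (Fin n → F)) ∈ K) :
    ∃ M : Subgroup (GL (Fin n) F), ILC n F M ∧ H ≤ M := by
  obtain ⟨r, K, hr, hK, hfr, hnorm⟩ := h
  let φ : Module.End F (Fin n → F) ≃ₐ[F] Matrix (Fin n) (Fin n) F := LinearMap.toMatrixAlgEquiv'
  let K' : Subalgebra F (Matrix (Fin n) (Fin n) F) := K.map (φ : _ →ₐ[F] _)
  have hmem : ∀ x : Matrix (Fin n) (Fin n) F, x ∈ K' ↔ Matrix.toLin' x ∈ K := by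
    intro x
    constructor
    · rintro ⟨y, hy, rfl⟩
      have : Matrix.toLin' (φ y) = y := Matrix.toLin'_toMatrix' y
      show Matrix.toLin' (φ y) ∈ K
      rw [this]
      exact hy
    · intro hx
      exact ⟨Matrix.toLin' x, hx, LinearMap.toMatrix'_toLin' x⟩
  refine ⟨subalgebraNormalizer K', ?_, ?_⟩
  · right; right; right; right; left
    refine ⟨r, K', hr, ⟨?_, ?_, ?_⟩, rfl⟩
    · intro x hx y hy
      rw [hmem] at hx hy
      have := hK.comm _ hx _ hy
      have e : ∀ a b : Matrix (Fin n) (Fin n) F,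
          Matrix.toLin' (a * b) = Matrix.toLin' a * Matrix.toLin' b :=
        fun a b => Matrix.toLin'_mul a b
      rw [← e, ← e] at this
      exact Matrix.toLin'.injective this
    · intro x hx hx0
      rw [hmem] at hx
      have h0 : Matrix.toLin' x ≠ 0 := by
        intro h0
        apply hx0
        apply Matrix.toLin'.injective
        rw [h0, map_zero]
      obtain ⟨y, hy, hxy⟩ := hK.inv _ hx h0
      refine ⟨φ y, ⟨y, hy, rfl⟩, ?_⟩
      apply Matrix.toLin'.injective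
      have e : ∀ a b : Matrix (Fin n) (Fin n) F,
          Matrix.toLin' (a * b) = Matrix.toLin' a * Matrix.toLin' b :=
        fun a b => Matrix.toLin'_mul a b
      rw [e, Matrix.toLin'_one]
      have : Matrix.toLin' (φ y) = y := Matrix.toLin'_toMatrix' y
      rw [this]
      exact hxy
    · rw [← hfr]
      exact (AlgEquiv.subalgebraMap φ K).toLinearEquiv.finrank_eq.symm
  · intro g hg k
    rw [hmem, hmem]
    have := hnorm (toV g) (mem_HV hg) (Matrix.toLin' k)
    rw [this]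
    have e : ((toV g : GLV F (Fin n → F)) : Module.End F (Fin n → F)) * Matrix.toLin' k *
        (((toV g)⁻¹ : GLV F (Fin n → F)) : Module.End F (Fin n → F)) =
        Matrix.toLin' ((g : Matrix (Fin n) (Fin n) F) * k *
          ((g⁻¹ : GL (Fin n) F) : Matrix (Fin n) (Fin n) F)) := by
      have e' : ∀ a b : Matrix (Fin n) (Fin n) F,
          Matrix.toLin' (a * b) = Matrix.toLin' a * Matrix.toLin' b :=
        fun a b => Matrix.toLin'_mul a b
      rw [← map_inv, toV_val, toV_val, e', e']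
    rw [e]

end Cfsg.Agent.Lib.Helper8.Asch
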