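import Cfsg.Agent.Lib.Helper8.AschILC
import Cfsg.Agent.Lib.Helper8.AschM3
import Cfsg.Agent.Lib.Helper8.Asch27

set_option autoImplicit false

/-! Translation of the tensor outcome: class 4, the wreath form, or a spanning subgroup. -/

namespace Cfsg.Agent.Lib.Helper8.Asch

open Module Matrix
open scoped Kronecker
open Cfsg.Geo

variable {n : ℕ} {F : Type*} [Field F]

/-- the common conclusion "every element is a factor permutation times a pure tensor" -/
def WreathFormG {ι : Type} [Fintype ι] [DecidableEq ι] {F : Type*} [Field F]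
    (H : Subgroup (GL ι F)) : Prop :=
  ∃ (k m : ℕ) (b : Basis (Fin k → Fin m) F (ι → F)), 2 ≤ k ∧ ∀ h ∈ H,
    ∃ (σ : Equiv.Perm (Fin k)) (Us : Fin k → GL (Fin m) F),
      LinearMap.toMatrix b b (Matrix.toLin' (h : Matrix ι ι F)) =
        facPerm m F σ * ptM (fun i => ((Us i : GL (Fin m) F) : Matrix (Fin m) (Fin m) F))

/-- the same over `Fin n` -/
def WreathForm (n : ℕ) {F : Type*} [Field F] (H : Subgroup (GL (Fin n) F)) : Prop :=
  WreathFormG H

theorem toMatrix_reindex {κ κ' : Type*} [Fintype κ] [Fintype κ'] [DecidableEq κ] [DecidableEq κ']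
    {V : Type*} [AddCommGroup V] [Module F V] (b : Basis κ F V) (ε : κ ≃ κ') (x : Module.End F V)
    (i j : κ') :
    LinearMap.toMatrix (b.reindex ε) (b.reindex ε) x i j =
      LinearMap.toMatrix b b x (ε.symm i) (ε.symm j) := by
  rw [LinearMap.toMatrix_apply, LinearMap.toMatrix_apply, Basis.reindex_apply,
    Basis.repr_reindex_apply]

/-- a Kronecker product of invertible matrices, as an invertible matrix -/
def kronGL {a e : ℕ} (U : GL (Fin a) F) (Γ : GL (Fin e) F) : GL (Fin a × Fin e) F :=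
  ⟨(U : Matrix (Fin a) (Fin a) F) ⊗ₖ (Γ : Matrix (Fin e) (Fin e) F),
   ((U⁻¹ : GL (Fin a) F) : Matrix (Fin a) (Fin a) F) ⊗ₖ
     ((Γ⁻¹ : GL (Fin e) F) : Matrix (Fin e) (Fin e) F),
   by rw [← Matrix.mul_kronecker_mul, ← Units.val_mul, ← Units.val_mul, mul_inv_cancel,
        mul_inv_cancel, Units.val_one, Units.val_one, Matrix.one_kronecker_one],
   by rw [← Matrix.mul_kronecker_mul, ← Units.val_mul, ← Units.val_mul, inv_mul_cancel,
        inv_mul_cancel, Units.val_one, Units.val_one, Matrix.one_kronecker_one]⟩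

theorem class4_of_kron [Fintype F] (H : Subgroup (GL (Fin n) F)) (a e : ℕ) (ha : 2 ≤ a) (hae : a < e)
    (b : Basis (Fin a × Fin e) F (Fin n → F))
    (hH : ∀ h ∈ H, ∃ (U : GL (Fin a) F) (Γ : GL (Fin e) F),
      LinearMap.toMatrix b b (Matrix.toLin' (h : Matrix (Fin n) (Fin n) F)) =
        (U : Matrix (Fin a) (Fin a) F) ⊗ₖ (Γ : Matrix (Fin e) (Fin e) F)) :
    ∃ M : Subgroup (GL (Fin n) F), ILC n F M ∧ H ≤ M := by
  have hcard : Fintype.card (Fin n) = Fintype.card (Fin a × Fin e) := by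
    have h1 := Module.finrank_eq_card_basis b
    rw [Module.finrank_fin_fun] at h1
    rw [Fintype.card_fin, ← h1]
  let e' : Fin n ≃ Fin a × Fin e := Fintype.equivOfCardEq hcard
  obtain ⟨P, hP⟩ := mem_conj_reindex (kroneckerSubgroup a e F) b e'
  refine ⟨tensorProductSubgroup a e e' P, ?_, ?_⟩
  · right; right; right; right; right; left
    exact ⟨a, e, e', P, ha, hae, rfl⟩
  · intro h hh
    obtain ⟨U, Γ, hUΓ⟩ := hH h hh
    exact hP h ⟨kronGL U Γ, ⟨U, Γ, rfl⟩, hUΓ⟩

theorem T_cases [Fintype F] (hn : 3 ≤ n) (H N : Subgroup (GL (Fin n) F))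
    (hNZ : ¬ N ≤ scalars (Fin n) F) (a e : ℕ) (b : Basis (Fin a × Fin e) F (Fin n → F))
    (hb1 : ∀ x ∈ algOf (HV N), ∃ X : Matrix (Fin a) (Fin a) F,
      LinearMap.toMatrix b b x = X ⊗ₖ (1 : Matrix (Fin e) (Fin e) F))
    (hb2 : ∀ X : Matrix (Fin a) (Fin a) F, ∃ x ∈ algOf (HV N),
      LinearMap.toMatrix b b x = X ⊗ₖ (1 : Matrix (Fin e) (Fin e) F))
    (hH : ∀ h ∈ HV H, ∃ (U : GL (Fin a) F) (Γ : GL (Fin e) F),
      LinearMap.toMatrix b b (h : Module.End F (Fin n → F)) =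
        (U : Matrix (Fin a) (Fin a) F) ⊗ₖ (Γ : Matrix (Fin e) (Fin e) F)) :
    (∃ M : Subgroup (GL (Fin n) F), ILC n F M ∧ H ≤ M) ∨ WreathForm n H ∨
      Submodule.span F (mset N) = ⊤ := by
  have hcard : n = a * e := by
    have h1 := Module.finrank_eq_card_basis b
    rw [Module.finrank_fin_fun, Fintype.card_prod, Fintype.card_fin, Fintype.card_fin] at h1
    exact h1
  have hH' : ∀ h ∈ H, ∃ (U : GL (Fin a) F) (Γ : GL (Fin e) F),
      LinearMap.toMatrix b b (Matrix.toLin' (h : Matrix (Fin n) (Fin n) F)) =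
        (U : Matrix (Fin a) (Fin a) F) ⊗ₖ (Γ : Matrix (Fin e) (Fin e) F) := by
    intro h hh
    obtain ⟨U, Γ, hUΓ⟩ := hH (toV h) (mem_HV hh)
    rw [toV_val] at hUΓ
    exact ⟨U, Γ, hUΓ⟩
  have ha0 : a ≠ 0 := by rintro rfl; omega
  have he0 : e ≠ 0 := by rintro rfl; omega
  by_cases ha1 : a = 1
  · -- N consists of scalars, impossible
    exfalso
    apply hNZ
    subst ha1
    intro g hg
    obtain ⟨X, hX⟩ := hb1 _ (mem_algOf (mem_HV hg))
    rw [toV_val] at hX
    have h1 : X ⊗ₖ (1 : Matrix (Fin e) (Fin e) F) = (X 0 0) • (1 : Matrix (Fin 1 × Fin e) _ F) := by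
      ext ⟨i, j⟩ ⟨i', j'⟩
      rw [Matrix.kroneckerMap_apply, Matrix.smul_apply, Matrix.one_apply, Matrix.one_apply,
        Subsingleton.elim i 0, Subsingleton.elim i' 0]
      simp only [Prod.mk.injEq, true_and, smul_eq_mul]
    have h2 : Matrix.toLin' (g : Matrix (Fin n) (Fin n) F) = (X 0 0) • (1 : Module.End F (Fin n → F)) := by
      apply (LinearMap.toMatrix b b).injective
      rw [hX, h1, map_smul]
      congr 1
      exact (LinearMap.toMatrix_one b).symm
    have h3 : (g : Matrix (Fin n) (Fin n) F) = (X 0 0) • (1 : Matrix (Fin n) (Fin n) F) := by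
      apply Matrix.toLin'.injective
      rw [h2, map_smul, Matrix.toLin'_one]
      rfl
    have hc : X 0 0 ≠ 0 := by
      intro h0
      rw [h0, zero_smul] at h3
      have : (1 : Matrix (Fin n) (Fin n) F) = 0 := by
        rw [← Units.inv_mul g, h3, mul_zero]
      have hne : Nonempty (Fin n) := ⟨⟨0, by omega⟩⟩
      exact one_ne_zero this
    rw [mem_scalars_iff]
    exact ⟨Units.mk0 _ hc, h3⟩
  by_cases he1 : e = 1
  · right; right
    subst he1
    rw [eq_top_iff]
    intro M _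
    rw [← mem_algOf_HV_iff]
    set Y := LinearMap.toMatrix b b (Matrix.toLin' M) with hY
    obtain ⟨x, hx, hxX⟩ := hb2 (Matrix.of fun i i' => Y (i, 0) (i', 0))
    have : x = Matrix.toLin' M := by
      apply (LinearMap.toMatrix b b).injective
      rw [hxX, ← hY]
      ext ⟨i, j⟩ ⟨i', j'⟩
      rw [Subsingleton.elim j 0, Subsingleton.elim j' 0]
      simp only [Matrix.kroneckerMap_apply, Matrix.of_apply, Matrix.one_apply_eq, mul_one]
    rw [← this]
    exact hx
  have ha2 : 2 ≤ a := by omega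
  have he2 : 2 ≤ e := by omega
  rcases lt_trichotomy a e with hlt | heq | hgt
  · left
    exact class4_of_kron H a e ha2 hlt b hH'
  · right; left
    subst heq
    let ε : Fin a × Fin a ≃ (Fin 2 → Fin a) := (finTwoArrowEquiv (Fin a)).symm
    refine ⟨2, a, b.reindex ε, le_refl _, ?_⟩
    intro h hh
    obtain ⟨U, Γ, hUΓ⟩ := hH' h hh
    refine ⟨1, ![U, Γ], ?_⟩
    rw [facPerm_one, one_mul]
    ext f g
    rw [toMatrix_reindex, hUΓ, ptM_apply, Fin.prod_univ_two]
    rfl
  · left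
    let ε : Fin a × Fin e ≃ Fin e × Fin a := Equiv.prodComm _ _
    refine class4_of_kron H e a he2 hgt (b.reindex ε) ?_
    intro h hh
    obtain ⟨U, Γ, hUΓ⟩ := hH' h hh
    refine ⟨Γ, U, ?_⟩
    ext ⟨p, q⟩ ⟨p', q'⟩
    rw [toMatrix_reindex, hUΓ, Matrix.kroneckerMap_apply]
    show (U : Matrix (Fin a) (Fin a) F) q q' * (Γ : Matrix (Fin e) (Fin e) F) p p' = _
    rw [mul_comm]
    rfl

end Cfsg.Agent.Lib.Helper8.Asch
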