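import Cfsg.Agent.Lib.Helper8.Asch19

set_option autoImplicit false

/-! Invariant sesquilinear forms of class-two groups via the conjugate-transpose-inverse
representation. -/

namespace Cfsg.Agent.Lib.Helper8.Asch

open scoped commutatorElement
open Matrix

variable {ι : Type*} [Fintype ι] [DecidableEq ι] {F : Type*} [Field F]

/-- conjugate transpose with respect to a ring endomorphism -/
def star (σ : F →+* F) (X : Matrix ι ι F) : Matrix ι ι F := (X.map σ)ᵀ

theorem star_apply (σ : F →+* F) (X : Matrix ι ι F) (i j : ι) : star σ X i j = σ (X j i) := rfl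

theorem star_mul (σ : F →+* F) (X Y : Matrix ι ι F) : star σ (X * Y) = star σ Y * star σ X := by
  unfold star
  rw [Matrix.map_mul, Matrix.transpose_mul]

theorem star_one (σ : F →+* F) : star σ (1 : Matrix ι ι F) = 1 := by
  unfold star
  rw [Matrix.map_one _ (map_zero σ) (map_one σ), Matrix.transpose_one]

theorem star_smul (σ : F →+* F) (c : F) (X : Matrix ι ι F) : star σ (c • X) = σ c • star σ X := by
  ext i j
  simp [star_apply]

theorem star_add (σ : F →+* F) (X Y : Matrix ι ι F) : star σ (X + Y) = star σ X + star σ Y := by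
  ext i j
  simp [star_apply]

theorem star_star (σ : F →+* F) (hσ : ∀ a, σ (σ a) = a) (X : Matrix ι ι F) :
    star σ (star σ X) = X := by
  ext i j
  simp [star_apply, hσ]

/-- `x ↦ star (x⁻¹)` as a group endomorphism -/
def sigT (σ : F →+* F) : GL ι F →* GL ι F where
  toFun x :=
    ⟨star σ ((x⁻¹ : GL ι F) : Matrix ι ι F), star σ (x : Matrix ι ι F),
      by rw [← star_mul, ← Units.val_mul, mul_inv_cancel, Units.val_one, star_one],
      by rw [← star_mul, ← Units.val_mul, inv_mul_cancel, Units.val_one, star_one]⟩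
  map_one' := by
    apply Units.ext
    show star σ (((1 : GL ι F)⁻¹ : GL ι F) : Matrix ι ι F) = 1
    rw [inv_one, Units.val_one, star_one]
  map_mul' := by
    intro x y
    apply Units.ext
    show star σ (((x * y)⁻¹ : GL ι F) : Matrix ι ι F) =
      star σ ((x⁻¹ : GL ι F) : Matrix ι ι F) * star σ ((y⁻¹ : GL ι F) : Matrix ι ι F)
    rw [_root_.mul_inv_rev, Units.val_mul, star_mul]

theorem sigT_val (σ : F →+* F) (x : GL ι F) :
    (sigT σ x : Matrix ι ι F) = star σ ((x⁻¹ : GL ι F) : Matrix ι ι F) := rfl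

/-- `B` is invariant under the set `S` of invertible matrices -/
def FInv (σ : F →+* F) (S : Set (GL ι F)) (B : Matrix ι ι F) : Prop :=
  ∀ x ∈ S, star σ (x : Matrix ι ι F) * B * (x : Matrix ι ι F) = B

theorem FInv_star (σ : F →+* F) (hσ : ∀ a, σ (σ a) = a) {S : Set (GL ι F)} {B : Matrix ι ι F}
    (hB : FInv σ S B) : FInv σ S (star σ B) := by
  intro x hx
  have := congrArg (star σ) (hB x hx)
  rw [star_mul, star_mul, star_star σ hσ, ← mul_assoc] at this
  exact this

/-- a matrix commuting with a spanning set is a scalar -/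
theorem scalar_of_commute_span {S : Set (Matrix ι ι F)} (hS : Submodule.span F S = ⊤)
    {M : Matrix ι ι F} (h : ∀ X ∈ S, M * X = X * M) : ∃ c : F, M = c • (1 : Matrix ι ι F) := by
  have h1 : ∀ X ∈ Submodule.span F S, M * X = X * M := by
    intro X hX
    induction hX using Submodule.span_induction with
    | mem X hX => exact h X hX
    | zero => simp
    | add a b _ _ ha hb => rw [mul_add, add_mul, ha, hb]
    | smul c a _ ha => rw [Matrix.mul_smul, Matrix.smul_mul, ha]
  have h2 : M ∈ Set.range (Matrix.scalar ι) := by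
    apply Matrix.mem_range_scalar_of_commute_single
    intro i j _
    exact (h1 _ (by rw [hS]; trivial)).symm
  obtain ⟨c, hc⟩ := h2
  refine ⟨c, ?_⟩
  rw [← hc, Matrix.smul_one_eq_diagonal]
  rfl

/-- uniqueness of the invariant form up to scalars -/
theorem FInv_unique (σ : F →+* F) {N : Subgroup (GL ι F)} (hspan : Submodule.span F (mset N) = ⊤)
    (B : GL ι F) (hB : FInv σ N (B : Matrix ι ι F)) {B' : Matrix ι ι F} (hB' : FInv σ N B') :
    ∃ c : F, B' = c • (B : Matrix ι ι F) := by
  set Bi : Matrix ι ι F := ((B⁻¹ : GL ι F) : Matrix ι ι F) with hBi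
  have e1 : Bi * (B : Matrix ι ι F) = 1 := by
    rw [hBi, ← Units.val_mul, inv_mul_cancel, Units.val_one]
  have e2 : (B : Matrix ι ι F) * Bi = 1 := by
    rw [hBi, ← Units.val_mul, mul_inv_cancel, Units.val_one]
  have hcomm : ∀ X ∈ mset N, (Bi * B') * X = X * (Bi * B') := by
    rintro X ⟨x, hx, rfl⟩
    set xm : Matrix ι ι F := (x : Matrix ι ι F) with hxm
    set xi : Matrix ι ι F := ((x⁻¹ : GL ι F) : Matrix ι ι F) with hxi
    have x1 : xi * xm = 1 := by rw [hxi, hxm, ← Units.val_mul, inv_mul_cancel, Units.val_one]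
    have x2 : xm * xi = 1 := by rw [hxi, hxm, ← Units.val_mul, mul_inv_cancel, Units.val_one]
    have h1 := hB x hx
    have h2 := hB' x hx
    -- xi * Bi = Bi * star x
    have h3 : xi * Bi = Bi * star σ xm := by
      calc xi * Bi = (Bi * (B : Matrix ι ι F)) * xi * Bi := by rw [e1, one_mul]
        _ = Bi * (star σ xm * (B : Matrix ι ι F) * xm) * xi * Bi := by rw [h1]
        _ = Bi * star σ xm * ((B : Matrix ι ι F) * (xm * xi) * Bi) := by simp only [mul_assoc]
        _ = Bi * star σ xm := by rw [x2, mul_one, e2, mul_one]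
    calc Bi * B' * xm = (xm * xi) * (Bi * B' * xm) := by rw [x2, one_mul]
      _ = xm * (xi * Bi) * B' * xm := by simp only [mul_assoc]
      _ = xm * (Bi * star σ xm) * B' * xm := by rw [h3]
      _ = xm * Bi * (star σ xm * B' * xm) := by simp only [mul_assoc]
      _ = xm * (Bi * B') := by rw [h2, mul_assoc]
  obtain ⟨c, hc⟩ := scalar_of_commute_span hspan hcomm
  refine ⟨c, ?_⟩
  calc B' = ((B : Matrix ι ι F) * Bi) * B' := by rw [e2, one_mul]
    _ = (B : Matrix ι ι F) * (Bi * B') := by rw [mul_assoc]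
    _ = c • (B : Matrix ι ι F) := by rw [hc, Matrix.mul_smul, mul_one]

end Cfsg.Agent.Lib.Helper8.Asch
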