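import Cfsg.Agent.Lib.Helper8.AschR1
import Cfsg.Agent.Lib.Helper8.Asch20

set_option autoImplicit false

/-! The algebra over the subfield is simple with centre the subfield. -/

namespace Cfsg.Agent.Lib.Helper8.Asch

open Matrix Module

variable {ι : Type*} [Fintype ι] [DecidableEq ι] {F : Type*} [Field F] [Nonempty ι]
  {N : Subgroup (GL ι F)}

theorem exists_retr (F₁ : Subfield F) : ∃ l : F →ₗ[F₁] F₁, ∀ c : F₁, l (c : F) = c := by
  obtain ⟨g, hg⟩ := LinearMap.exists_leftInverse_of_injective (Algebra.linearMap F₁ F)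
    (LinearMap.ker_eq_bot.mpr (algebraMap F₁ F).injective)
  refine ⟨g, fun c => ?_⟩
  have := LinearMap.congr_fun hg c
  simp only [LinearMap.coe_comp, Function.comp_apply, Algebra.linearMap_apply,
    LinearMap.id_coe, id_eq] at this
  exact this

/-- the retraction onto the form over the subfield -/
noncomputable def piMap (hN : Cl2 N) (F₁ : Subfield F) [Fintype (N ⧸ Ksub N)]
    (l : F →ₗ[F₁] F₁) : Matrix ι ι F →ₗ[F₁] Matrix ι ι F where
  toFun M := ∑ q, ((l ((repBasis hN).repr M q) : F₁) : F) • repBasis hN q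
  map_add' := by
    intro a b
    rw [← Finset.sum_add_distrib]
    refine Finset.sum_congr rfl fun q _ => ?_
    rw [map_add, Finsupp.add_apply, map_add, Subfield.coe_add, add_smul]
  map_smul' := by
    intro c a
    rw [Finset.smul_sum]
    refine Finset.sum_congr rfl fun q _ => ?_
    rw [subfield_smul_def, map_smul, Finsupp.smul_apply, RingHom.id_apply]
    have : ((c : F) • ((repBasis hN).repr a) q) = c • (((repBasis hN).repr a) q) := rfl
    rw [this, map_smul, subfield_smul_def, smul_smul]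
    rfl

theorem piMap_smul_mem (hN : Cl2 N) (F₁ : Subfield F) [Fintype (N ⧸ Ksub N)]
    (l : F →ₗ[F₁] F₁) (c : F) {m : Matrix ι ι F} (hm : m ∈ Lsub hN F₁) :
    piMap hN F₁ l (c • m) = ((l c : F₁) : F) • m := by
  show ∑ q, ((l ((repBasis hN).repr (c • m) q) : F₁) : F) • repBasis hN q = _
  conv_rhs => rw [← (repBasis hN).sum_repr m]
  rw [Finset.smul_sum]
  refine Finset.sum_congr rfl fun q _ => ?_
  rw [map_smul, Finsupp.smul_apply, smul_smul]
  congr 1
  have h1 : c • ((repBasis hN).repr m) q = (⟨_, hm q⟩ : F₁) • c := by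
    show c * _ = _ * c
    rw [mul_comm]
  rw [h1, map_smul]
  show ((⟨_, hm q⟩ : F₁) : F) * ((l c : F₁) : F) = _
  rw [mul_comm]

theorem sum_single_one : ∑ i : ι, Matrix.single i i (1 : F) = 1 := by
  ext a b
  rw [Matrix.sum_apply]
  by_cases hab : a = b
  · subst hab
    rw [Matrix.one_apply_eq, Finset.sum_eq_single a]
    · simp
    · intro i _ hi
      simp [Matrix.single_apply, hi]
    · intro h
      exact absurd (Finset.mem_univ a) h
  · rw [Matrix.one_apply_ne hab]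
    apply Finset.sum_eq_zero
    intro i _
    rw [Matrix.single_apply]
    split_ifs with h
    · exfalso
      apply hab
      rw [← h.1, ← h.2]
    · rfl

theorem LAlg_simple (hN : Cl2 N) (F₁ : Subfield F) (hF₁ : ∀ k ∈ N, k ∈ Zs ι F → sv k ∈ F₁) :
    IsSimpleRing (LAlg hN F₁ hF₁) := by
  haveI : Finite N := hN.fin
  haveI : Fintype (N ⧸ Ksub N) := Fintype.ofFinite _
  rw [isSimpleRing_iff_isTwoSided_imp]
  refine ⟨⟨0, 1, ?_⟩, ?_⟩
  · intro h
    have := congrArg (Subtype.val : LAlg hN F₁ hF₁ → Matrix ι ι F) h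
    exact zero_ne_one this
  intro I hI
  by_cases hbot : I = ⊥
  · left; exact hbot
  right
  obtain ⟨y, hyI, hy0⟩ := Submodule.exists_mem_ne_zero_of_ne_bot hbot
  set ym : Matrix ι ι F := (y : Matrix ι ι F) with hym
  have hym0 : ym ≠ 0 := by
    intro h
    apply hy0
    exact Subtype.ext h
  obtain ⟨a, b, hab⟩ : ∃ a b, ym a b ≠ 0 := by
    by_contra hcon
    push Not at hcon
    apply hym0
    ext a b
    exact hcon a b
  obtain ⟨l, hl⟩ := exists_retr F₁
  set IM : Set (Matrix ι ι F) := {m | ∃ h : m ∈ LAlg hN F₁ hF₁, (⟨m, h⟩ : LAlg hN F₁ hF₁) ∈ I}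
    with hIM
  have hIMadd : ∀ m m', m ∈ IM → m' ∈ IM → m + m' ∈ IM := by
    rintro m m' ⟨h, hm⟩ ⟨h', hm'⟩
    exact ⟨(LAlg hN F₁ hF₁).add_mem h h', I.add_mem hm hm'⟩
  have hIMzero : (0 : Matrix ι ι F) ∈ IM := ⟨(LAlg hN F₁ hF₁).zero_mem, I.zero_mem⟩
  have hIMsmul : ∀ (c : F₁) m, m ∈ IM → (c : F) • m ∈ IM := by
    rintro c m ⟨h, hm⟩
    exact ⟨(LAlg hN F₁ hF₁).smul_mem h c, I.smul_of_tower_mem c hm⟩
  -- products with the non-zero element
  have hA : ∀ A B : Matrix ι ι F, A * ym * B ∈ Submodule.span F IM := by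
    intro A B
    rw [← (repBasis hN).sum_repr A, ← (repBasis hN).sum_repr B, Finset.sum_mul, Finset.sum_mul]
    refine Submodule.sum_mem _ fun q _ => ?_
    rw [Finset.mul_sum]
    refine Submodule.sum_mem _ fun q' _ => ?_
    rw [Matrix.smul_mul, Matrix.smul_mul, Matrix.mul_smul, smul_smul]
    refine Submodule.smul_mem _ _ (Submodule.subset_span ?_)
    rw [repBasis_apply, repBasis_apply]
    have h1 : repMat N q ∈ LAlg hN F₁ hF₁ := repMat_mem_Lsub hN F₁ q
    have h2 : repMat N q' ∈ LAlg hN F₁ hF₁ := repMat_mem_Lsub hN F₁ q'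
    refine ⟨(LAlg hN F₁ hF₁).mul_mem ((LAlg hN F₁ hF₁).mul_mem h1 y.2) h2, ?_⟩
    have : (⟨repMat N q * ym * repMat N q', (LAlg hN F₁ hF₁).mul_mem
        ((LAlg hN F₁ hF₁).mul_mem h1 y.2) h2⟩ : LAlg hN F₁ hF₁) =
        (⟨repMat N q, h1⟩ : LAlg hN F₁ hF₁) * y * ⟨repMat N q', h2⟩ := rfl
    rw [this]
    exact I.mul_mem_right _ (I.mul_mem_left _ hyI)
  have hone : (1 : Matrix ι ι F) ∈ Submodule.span F IM := by
    have : (1 : Matrix ι ι F) = ∑ i, (ym a b)⁻¹ •
        (Matrix.single i a (1 : F) * ym * Matrix.single b i (1 : F)) := by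
      rw [← sum_single_one]
      refine Finset.sum_congr rfl fun i _ => ?_
      rw [Matrix.single_mul_mul_single, one_mul, mul_one]
      ext i' j'
      rw [Matrix.smul_apply, Matrix.single_apply, Matrix.single_apply]
      split_ifs
      · rw [smul_eq_mul, inv_mul_cancel₀ hab]
      · rw [smul_zero]
    rw [this]
    exact Submodule.sum_mem _ fun i _ => Submodule.smul_mem _ _ (hA _ _)
  have hP : ∀ M ∈ Submodule.span F IM, ∀ c : F, piMap hN F₁ l (c • M) ∈ IM := by
    intro M hM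
    induction hM using Submodule.span_induction with
    | mem m hm =>
      intro c
      obtain ⟨h, hmI⟩ := hm
      rw [piMap_smul_mem hN F₁ l c h]
      exact hIMsmul _ _ ⟨h, hmI⟩
    | zero =>
      intro c
      rw [smul_zero, map_zero]
      exact hIMzero
    | add m m' _ _ ih ih' =>
      intro c
      rw [smul_add, map_add]
      exact hIMadd _ _ (ih c) (ih' c)
    | smul c' m _ ih =>
      intro c
      rw [smul_smul]
      exact ih _
  have h1 := hP 1 hone 1
  rw [piMap_smul_mem hN F₁ l 1 (one_mem_Lsub hN F₁ hF₁)] at h1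
  have hl1 : ((l (1 : F) : F₁) : F) = 1 := by
    have := hl 1
    rw [Subfield.coe_one] at this
    rw [this, Subfield.coe_one]
  rw [hl1, one_smul] at h1
  obtain ⟨h, h1I⟩ := h1
  rw [Ideal.eq_top_iff_one]
  exact h1I

theorem LAlg_center (hN : Cl2 N) (F₁ : Subfield F) (hF₁ : ∀ k ∈ N, k ∈ Zs ι F → sv k ∈ F₁)
    (m : LAlg hN F₁ hF₁) (hm : ∀ x : LAlg hN F₁ hF₁, m * x = x * m) :
    ∃ c : F₁, m = algebraMap F₁ (LAlg hN F₁ hF₁) c := by
  have h1 : ∀ X ∈ mset N, (m : Matrix ι ι F) * X = X * (m : Matrix ι ι F) := by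
    rintro X ⟨x, hx, rfl⟩
    have hxL : (x : Matrix ι ι F) ∈ LAlg hN F₁ hF₁ := mem_Lsub_of_mem hN F₁ hF₁ hx
    have := hm ⟨_, hxL⟩
    exact congrArg (Subtype.val : LAlg hN F₁ hF₁ → Matrix ι ι F) this
  obtain ⟨c, hc⟩ := scalar_of_commute_span hN.span h1
  have h1L : (1 : Matrix ι ι F) ∈ Lsub hN F₁ := one_mem_Lsub hN F₁ hF₁
  have hne : (repBasis hN).repr (1 : Matrix ι ι F) ≠ 0 := by
    intro h0
    have := (repBasis hN).repr.injective (h0.trans (map_zero _).symm)
    exact one_ne_zero this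
  obtain ⟨q₀, hq₀⟩ := Finsupp.ne_iff.mp hne
  rw [Finsupp.zero_apply] at hq₀
  have hcd : c * (repBasis hN).repr (1 : Matrix ι ι F) q₀ ∈ F₁ := by
    have := m.2 q₀
    rw [hc, map_smul, Finsupp.smul_apply, smul_eq_mul] at this
    exact this
  have hcF : c ∈ F₁ := by
    have := F₁.mul_mem hcd (F₁.inv_mem (h1L q₀))
    rwa [mul_assoc, mul_inv_cancel₀ hq₀, mul_one] at this
  refine ⟨⟨c, hcF⟩, ?_⟩
  apply Subtype.ext
  rw [hc]
  rw [Algebra.algebraMap_eq_smul_one]
  rfl

end Cfsg.Agent.Lib.Helper8.Asch
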