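import Cfsg.Agent.Lib.Helper8.Asch12

set_option autoImplicit false

/-! Group theory: the perfect case. -/

namespace Cfsg.Agent.Lib.Helper8.Asch

open scoped commutatorElement

variable {G : Type*} [Group G]

theorem cj_commutator (h : G) (P : Subgroup G) : cj h ⁅P, P⁆ = ⁅cj h P, cj h P⁆ := by
  unfold cj
  rw [Subgroup.map_commutator]

theorem cj_le_cj_iff (h : G) (P Q : Subgroup G) : cj h P ≤ cj h Q ↔ P ≤ Q := by
  constructor
  · intro hle
    have := cj_mono (h := h⁻¹) hle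
    rwa [cj_inv_cj, cj_inv_cj] at this
  · exact cj_mono

theorem HInv_cj {N P : Subgroup G} {h : G} (hhN : cj h⁻¹ N = N) (hP : HInv N P) :
    HInv N (cj h P) := by
  intro n hn x hx
  rw [mem_cj] at hx ⊢
  have hn' : h⁻¹ * n * h ∈ N := by
    have : h⁻¹ * n * h⁻¹⁻¹ ∈ cj h⁻¹ N := conj_mem_cj hn
    rw [hhN, inv_inv] at this
    exact this
  have := hP _ hn' _ hx
  have e : h⁻¹ * n * h * (h⁻¹ * x * h) * (h⁻¹ * n * h)⁻¹ = h⁻¹ * (n * x * n⁻¹) * h := by group
  rwa [e] at this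

/-- conjugates of a minimal subgroup are minimal -/
theorem IsMinNC.conj_min {H Z N P : Subgroup G} (hZ : Z ≤ Subgroup.center G) (hN : HInv H N)
    (hP : IsMinNC N Z P) {h : G} (hh : h ∈ H) : IsMinNC N Z (cj h P) := by
  have hhN : cj h N = N := cj_eq_of_HInv hN hh
  have hhN' : cj h⁻¹ N = N := cj_eq_of_HInv hN (H.inv_mem hh)
  refine ⟨?_, HInv_cj hhN' hP.inv, ?_, ?_⟩
  · rw [← hhN]
    exact cj_mono hP.le
  · intro hle
    apply hP.not_le
    have := cj_mono (h := h⁻¹) hle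
    rwa [cj_inv_cj, cj_le_of_central hZ] at this
  · intro M hM hMinv hMZ
    have h1 : cj h⁻¹ M ≤ P := by
      have := cj_mono (h := h⁻¹) hM
      rwa [cj_inv_cj] at this
    have h2 : HInv N (cj h⁻¹ M) := HInv_cj (by rwa [inv_inv]) hMinv
    have h3 : ¬ cj h⁻¹ M ≤ Z := by
      intro hle
      apply hMZ
      have := cj_mono (h := h) hle
      rwa [cj_cj_inv, cj_le_of_central hZ] at this
    have := hP.min _ h1 h2 h3
    rw [← this, cj_cj_inv]

/-- distinct minimal subgroups commute modulo `Z` -/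
theorem comm_mem_of_ne {Z N Q Q' : Subgroup G} (hQ : IsMinNC N Z Q) (hQ' : IsMinNC N Z Q')
    (hne : Q ≠ Q') : ∀ x ∈ Q, ∀ y ∈ Q', ⁅x, y⁆ ∈ Z := by
  have hinv : HInv N (Q ⊓ Q') := by
    intro n hn x hx
    exact ⟨hQ.inv n hn x hx.1, hQ'.inv n hn x hx.2⟩
  have hle : Q ⊓ Q' ≤ Z := by
    by_contra hcon
    have h1 := hQ.min _ inf_le_left hinv hcon
    have h2 : Q ≤ Q' := by rw [← h1]; exact inf_le_right
    exact hne (hQ'.min Q h2 hQ.inv hQ.not_le)
  intro x hx y hy
  apply hle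
  constructor
  · have : ⁅x, y⁆ = x * (y * x⁻¹ * y⁻¹) := by
      simp only [commutatorElement_def]; group
    rw [this]
    exact Q.mul_mem hx (hQ.inv y (hQ'.le hy) _ (Q.inv_mem hx))
  · have : ⁅x, y⁆ = (x * y * x⁻¹) * y⁻¹ := by
      simp only [commutatorElement_def]
    rw [this]
    exact Q'.mul_mem (hQ'.inv x (hQ.le hx) _ hy) (Q'.inv_mem hy)

/-- a perfect subgroup commuting modulo the centre with `y` commutes with `y` -/
theorem commute_of_perfect {Z Q : Subgroup G} (hZ : Z ≤ Subgroup.center G) (hperf : ⁅Q, Q⁆ = Q)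
    (y : G) (hy : ∀ x ∈ Q, ⁅x, y⁆ ∈ Z) : ∀ x ∈ Q, x * y = y * x := by
  have key : ⁅Q, Q⁆ ≤ Subgroup.centralizer {y} := by
    rw [Subgroup.commutator_le]
    intro a ha b hb
    rw [Subgroup.mem_centralizer_iff]
    intro y' hy'
    rw [Set.mem_singleton_iff] at hy'
    subst hy'
    have hab : ∀ {a b : G}, b ∈ Q → ⁅a * b, y'⁆ = ⁅b, y'⁆ * ⁅a, y'⁆ := by
      intro a b hb
      rw [comm_mul_left, central_conj hZ (hy b hb)]
    have hinv : ∀ {a : G}, a ∈ Q → ⁅a⁻¹, y'⁆ = ⁅a, y'⁆⁻¹ := by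
      intro a ha
      have h1 : ⁅a, y'⁆ * ⁅a⁻¹, y'⁆ = 1 := by
        rw [← hab (a := a⁻¹) ha]
        simp
      exact eq_inv_of_mul_eq_one_right h1
    have h1 : ⁅⁅a, b⁆, y'⁆ = 1 := by
      have e : ⁅a, b⁆ = a * b * a⁻¹ * b⁻¹ := rfl
      rw [e, hab (Q.inv_mem hb), hab (Q.inv_mem ha), hab hb, hinv ha, hinv hb]
      have c1 := central_comm hZ (hy a ha)
      have c2 := central_comm hZ (hy b hb)
      calc ⁅b, y'⁆⁻¹ * (⁅a, y'⁆⁻¹ * (⁅b, y'⁆ * ⁅a, y'⁆))
          = ⁅b, y'⁆⁻¹ * (⁅a, y'⁆⁻¹ * (⁅a, y'⁆ * ⁅b, y'⁆)) := by rw [c1 ⁅b, y'⁆]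
        _ = 1 := by group
    rw [commutatorElement_eq_one_iff_mul_comm] at h1
    exact h1.symm
  intro x hx
  have hx' : x ∈ ⁅Q, Q⁆ := by rw [hperf]; exact hx
  have := key hx'
  rw [Subgroup.mem_centralizer_iff] at this
  exact (this y rfl).symm


/-- the union of the `H`-conjugates of `P` -/
def cjUnion (H P : Subgroup G) : Set G := {x | ∃ h ∈ H, x ∈ cj h P}

theorem closure_cjUnion {H Z N P : Subgroup G} (hN : IsMinNC H Z N) (hP : P ≤ N) (hPZ : ¬ P ≤ Z) :
    Subgroup.closure (cjUnion H P) = N := by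
  apply hN.min
  · rw [Subgroup.closure_le]
    rintro x ⟨h, hh, hx⟩
    have : cj h P ≤ cj h N := cj_mono hP
    rw [cj_eq_of_HInv hN.inv hh] at this
    exact this hx
  · intro g hg x hx
    induction hx using Subgroup.closure_induction with
    | mem x hx =>
      obtain ⟨h, hh, hx⟩ := hx
      apply Subgroup.subset_closure
      refine ⟨g * h, H.mul_mem hg hh, ?_⟩
      rw [cj_mul]
      exact conj_mem_cj hx
    | one => simp
    | mul x y _ _ hx hy =>
      have : g * (x * y) * g⁻¹ = (g * x * g⁻¹) * (g * y * g⁻¹) := by group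
      rw [this]
      exact Subgroup.mul_mem _ hx hy
    | inv x _ hx =>
      have : g * x⁻¹ * g⁻¹ = (g * x * g⁻¹)⁻¹ := by group
      rw [this]
      exact Subgroup.inv_mem _ hx
  · intro hle
    apply hPZ
    intro x hx
    apply hle
    apply Subgroup.subset_closure
    exact ⟨1, H.one_mem, by rw [cj_one]; exact hx⟩

theorem caseB_perfect {H Z N P : Subgroup G} (hZ : Z ≤ Subgroup.center G) (hN : IsMinNC H Z N)
    (hperf : ⁅N, N⁆ = N) (hP : IsMinNC N Z P) : ⁅P, P⁆ = P := by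
  by_contra hne
  have hPPZ : ⁅P, P⁆ ≤ Z := by
    by_contra hcon
    exact hne (hP.min _ (Subgroup.commutator_le_self P) (HInv_commutator hP.inv) hcon)
  have hS : ∀ x ∈ cjUnion H P, ∀ y ∈ cjUnion H P, ⁅x, y⁆ ∈ Z := by
    rintro x ⟨h, hh, hx⟩ y ⟨h', hh', hy⟩
    by_cases heq : cj h P = cj h' P
    · rw [← heq] at hy
      rw [mem_cj] at hx hy
      have h1 : ⁅h⁻¹ * x * h, h⁻¹ * y * h⁆ ∈ Z :=
        hPPZ (Subgroup.commutator_mem_commutator hx hy)
      have h2 : ⁅x, y⁆ = h * ⁅h⁻¹ * x * h, h⁻¹ * y * h⁆ * h⁻¹ := by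
        simp only [commutatorElement_def]; group
      rw [h2, central_conj hZ h1]
      exact h1
    · exact comm_mem_of_ne (hP.conj_min hZ hN.inv hh) (hP.conj_min hZ hN.inv hh') heq x hx y hy
  have hall := comm_mem_of_closure hZ hS
  rw [closure_cjUnion hN hP.le hP.not_le] at hall
  apply hN.not_le
  rw [← hperf, Subgroup.commutator_le]
  exact hall

theorem caseB_commute {H Z N P : Subgroup G} (hZ : Z ≤ Subgroup.center G) (hN : IsMinNC H Z N)
    (hperf : ⁅N, N⁆ = N) (hP : IsMinNC N Z P) {h h' : G} (hh : h ∈ H) (hh' : h' ∈ H)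
    (hne : cj h P ≠ cj h' P) : ∀ x ∈ cj h P, ∀ y ∈ cj h' P, x * y = y * x := by
  have hPP := caseB_perfect hZ hN hperf hP
  have hQ : ⁅cj h P, cj h P⁆ = cj h P := by rw [← cj_commutator, hPP]
  intro x hx y hy
  apply commute_of_perfect hZ hQ y _ x hx
  intro x' hx'
  exact comm_mem_of_ne (hP.conj_min hZ hN.inv hh) (hP.conj_min hZ hN.inv hh') hne x' hx' y hy


theorem caseB_structure {H Z N : Subgroup G} [Finite H] (hZ : Z ≤ Subgroup.center G)
    (hN : IsMinNC H Z N) (hperf : ⁅N, N⁆ = N) :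
    IsMinNC N Z N ∨ ∃ (k : ℕ) (P : Fin k → Subgroup G), 2 ≤ k ∧ Function.Injective P ∧
      (∀ i, P i ≤ N) ∧ (∀ i, ¬ P i ≤ Z) ∧
      (∀ i j, i ≠ j → ∀ x ∈ P i, ∀ y ∈ P j, x * y = y * x) ∧
      (Subgroup.closure (⋃ i, (P i : Set G)) = N) ∧
      (∀ h ∈ H, ∃ σ : Equiv.Perm (Fin k), ∀ i, cj h (P i) = P (σ i)) ∧
      (∀ i j, ∃ h ∈ H, cj h (P i) = P j) := by
  have hfinN : Finite N :=
    Finite.of_injective (Subgroup.inclusion hN.le) (Subgroup.inclusion_injective _)
  obtain ⟨P₀, hP₀⟩ := exists_minNC N Z hN.not_le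
  by_cases hinv : HInv H P₀
  · left
    have := hN.min P₀ hP₀.le hinv hP₀.not_le
    rwa [this] at hP₀
  · right
    let C : Set (Subgroup G) := {Q | ∃ h ∈ H, Q = cj h P₀}
    have hCfin : Finite C := by
      have : C = Set.range (fun h : H => cj (h : G) P₀) := by
        ext Q
        constructor
        · rintro ⟨h, hh, rfl⟩
          exact ⟨⟨h, hh⟩, rfl⟩
        · rintro ⟨h, rfl⟩
          exact ⟨h.1, h.2, rfl⟩
      rw [this]
      exact Set.finite_range _
    set k := Nat.card C with hk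
    let e : Fin k ≃ C := (Finite.equivFin C).symm
    have hP₀C : P₀ ∈ C := ⟨1, H.one_mem, (cj_one P₀).symm⟩
    have hcjC : ∀ h ∈ H, ∀ Q ∈ C, cj h Q ∈ C := by
      rintro h hh Q ⟨h', hh', rfl⟩
      exact ⟨h * h', H.mul_mem hh hh', (cj_mul h h' P₀).symm⟩
    have hmin : ∀ Q ∈ C, IsMinNC N Z Q := by
      rintro Q ⟨h, hh, rfl⟩
      exact hP₀.conj_min hZ hN.inv hh
    refine ⟨k, fun i => (e i).1, ?_, ?_, ?_, ?_, ?_, ?_, ?_, ?_⟩
    · -- two distinct conjugates
      unfold HInv at hinv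
      push Not at hinv
      obtain ⟨h, hh, x, hx, hxP⟩ := hinv
      have hne : cj h P₀ ≠ P₀ := by
        intro heq
        apply hxP
        rw [← heq]
        exact conj_mem_cj hx
      have : 1 < k := by
        rw [hk]
        apply Finite.one_lt_card_iff_nontrivial.mpr
        exact ⟨⟨⟨cj h P₀, hcjC h hh P₀ hP₀C⟩, ⟨P₀, hP₀C⟩, fun h' => hne (congrArg Subtype.val h')⟩⟩
      omega
    · intro i j hij
      exact e.injective (Subtype.ext hij)
    · intro i
      exact (hmin _ (e i).2).le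
    · intro i
      exact (hmin _ (e i).2).not_le
    · intro i j hij x hx y hy
      obtain ⟨h, hh, hi⟩ := (e i).2
      obtain ⟨h', hh', hj⟩ := (e j).2
      have hne : cj h P₀ ≠ cj h' P₀ := by
        rw [← hi, ← hj]
        intro heq
        exact hij (e.injective (Subtype.ext heq))
      dsimp only at hx hy
      rw [hi] at hx
      rw [hj] at hy
      exact caseB_commute hZ hN hperf hP₀ hh hh' hne x hx y hy
    · have : (⋃ i, (((e i).1 : Subgroup G) : Set G)) = cjUnion H P₀ := by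
        ext x
        simp only [Set.mem_iUnion, SetLike.mem_coe]
        constructor
        · rintro ⟨i, hx⟩
          obtain ⟨h, hh, hi⟩ := (e i).2
          exact ⟨h, hh, by rw [← hi]; exact hx⟩
        · rintro ⟨h, hh, hx⟩
          refine ⟨e.symm ⟨cj h P₀, h, hh, rfl⟩, ?_⟩
          rw [Equiv.apply_symm_apply]
          exact hx
      rw [this]
      exact closure_cjUnion hN hP₀.le hP₀.not_le
    · intro h hh
      let f : C → C := fun Q => ⟨cj h Q.1, hcjC h hh Q.1 Q.2⟩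
      have hfinj : Function.Injective f := by
        intro Q Q' hQQ'
        have h1 : cj h Q.1 = cj h Q'.1 := congrArg Subtype.val hQQ'
        have h2 := congrArg (cj h⁻¹) h1
        rw [cj_inv_cj, cj_inv_cj] at h2
        exact Subtype.ext h2
      have hfbij : Function.Bijective f := Finite.injective_iff_bijective.mp hfinj
      refine ⟨(e.trans (Equiv.ofBijective f hfbij)).trans e.symm, fun i => ?_⟩
      simp only [Equiv.trans_apply, Equiv.apply_symm_apply, Equiv.ofBijective_apply]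
      rfl
    · intro i j
      obtain ⟨h, hh, hi⟩ := (e i).2
      obtain ⟨h', hh', hj⟩ := (e j).2
      refine ⟨h' * h⁻¹, H.mul_mem hh' (H.inv_mem hh), ?_⟩
      dsimp only
      rw [hi, hj, cj_mul, cj_inv_cj]

end Cfsg.Agent.Lib.Helper8.Asch
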