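import Cfsg.Agent.Lib.Helper8.Asch30

set_option autoImplicit false

/-! The tensor factor basis theorem, assembled. -/

namespace Cfsg.Agent.Lib.Helper8.Asch

open Module

variable {F : Type*} [Field F] {V : Type*} [AddCommGroup V] [Module F V]
variable {k : ℕ} {P : Fin k → Subgroup (GLV F V)} {N : Subgroup (GLV F V)}

theorem tensor_factor_basis [Finite F] [FiniteDimensional F V] [Nontrivial V] (hk : 0 < k)
    (hPN : ∀ i, P i ≤ N)
    (hgen : N ≤ Subgroup.closure (⋃ i, (P i : Set (GLV F V))))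
    (hcomm : ∀ i j, i ≠ j → ∀ x ∈ P i, ∀ y ∈ P j, x * y = y * x)
    (hirr : Irr N)
    (hcent : ∀ z : Module.End F V, (∀ g ∈ N, z * (g : Module.End F V) = (g : Module.End F V) * z) →
      ∃ c : F, z = c • (1 : Module.End F V))
    (hdim : ∀ i j, finrank F (algOf (P i)) = finrank F (algOf (P j))) :
    ∃ (m : ℕ) (b : Basis (Fin k → Fin m) F V), 0 < m ∧ ∀ i,
      (∀ x ∈ algOf (P i), ∃ X : Matrix (Fin m) (Fin m) F, LinearMap.toMatrix b b x = posMat i X) ∧
      (∀ X : Matrix (Fin m) (Fin m) F, ∃ x ∈ algOf (P i), LinearMap.toMatrix b b x = posMat i X) := by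
  classical
  -- the size
  let i₀ : Fin k := ⟨0, hk⟩
  obtain ⟨ss₀, hiso₀, hZ₀⟩ := factor_isotypic hPN hgen hcomm hirr hcent i₀
  obtain ⟨m, -, -, -, -, -, hm⟩ := exists_units (algOf (P i₀)) hiso₀ hZ₀
  have hunits : ∀ i, ∃ e : Fin m → Fin m → Module.End F V, (∀ p q, e p q ∈ algOf (P i)) ∧
      (∀ p q p' q', e p q * e p' q' = if q = p' then e p q' else 0) ∧
      (∑ p, e p p = 1) ∧
      (∀ x ∈ algOf (P i), ∃ X : Matrix (Fin m) (Fin m) F, x = ∑ p, ∑ q, X p q • e p q) := by
    intro i
    obtain ⟨ss, hiso, hZ⟩ := factor_isotypic hPN hgen hcomm hirr hcent i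
    obtain ⟨a, e, h1, h2, h3, h4, ha⟩ := exists_units (algOf (P i)) hiso hZ
    have : a = m := by
      have h5 := hdim i i₀
      rw [ha, hm] at h5
      exact Nat.mul_self_inj.mp h5
    subst this
    exact ⟨e, h1, h2, h3, h4⟩
  choose e he1 he2 he3 he4 using hunits
  have hmpos : 0 < m := by
    by_contra h0
    have hm0 : m = 0 := by omega
    subst hm0
    have := he3 i₀
    rw [Finset.univ_eq_empty, Finset.sum_empty] at this
    exact zero_ne_one this
  have hMU : MUnits k m e :=
    { mul := he2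
      sum_one := he3
      comm := fun i j hij p q p' q' =>
        algOf_commute (hcomm i j hij) _ (he1 i p q) _ (he1 j p' q') }
  have hirr' : ∀ W : Submodule F V, (∀ i p q, ∀ w ∈ W, e i p q w ∈ W) → W = ⊥ ∨ W = ⊤ := by
    intro W hW
    apply hirr W
    apply gen_induction hgen (fun g => ∀ w ∈ W, (g : Module.End F V) w ∈ W)
    · intro i g hg w hw
      obtain ⟨X, hX⟩ := he4 i _ (mem_algOf hg)
      rw [hX]
      simp only [LinearMap.sum_apply, LinearMap.smul_apply]
      exact W.sum_mem fun p _ => W.sum_mem fun q _ => W.smul_mem _ (hW i p q w hw)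
    · intro w hw
      simpa using hw
    · intro g h hg hh w hw
      rw [Units.val_mul]
      exact hg _ (hh w hw)
  obtain ⟨b, hb⟩ := hMU.exists_tensor_basis ⟨0, hmpos⟩ hirr'
  have hunitM : ∀ i p q, LinearMap.toMatrix b b (e i p q) = posMat i (Matrix.single p q (1 : F)) := by
    intro i p q
    ext f' f
    rw [LinearMap.toMatrix_apply, hb, posMat_single_apply]
    by_cases hq : f i = q
    · rw [if_pos hq]
      by_cases hf : f' = Function.update f i p
      · rw [if_pos ⟨hq, hf⟩, hf, Basis.repr_self, Finsupp.single_eq_same]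
      · rw [if_neg (fun h => hf h.2), Basis.repr_self, Finsupp.single_eq_of_ne hf]
    · rw [if_neg hq, if_neg (fun h => hq h.1), map_zero, Finsupp.zero_apply]
  have hsumM : ∀ i (X : Matrix (Fin m) (Fin m) F),
      LinearMap.toMatrix b b (∑ p, ∑ q, X p q • e i p q) = posMat i X := by
    intro i X
    simp only [map_sum, map_smul, hunitM]
    conv_rhs => rw [Matrix.matrix_eq_sum_single X]
    rw [posMat_sum]
    apply Finset.sum_congr rfl
    intro p _
    rw [posMat_sum]
    apply Finset.sum_congr rfl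
    intro q _
    rw [← posMat_smul]
    congr 1
    ext a b'
    simp [Matrix.single_apply]
  refine ⟨m, b, hmpos, fun i => ⟨?_, ?_⟩⟩
  · intro x hx
    obtain ⟨X, hX⟩ := he4 i x hx
    exact ⟨X, by rw [hX, hsumM]⟩
  · intro X
    exact ⟨_, (algOf (P i)).sum_mem fun p _ => (algOf (P i)).sum_mem fun q _ =>
      (algOf (P i)).smul_mem (he1 i p q) _, hsumM i X⟩

end Cfsg.Agent.Lib.Helper8.Asch
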