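import Cfsg.Agent.Lib.Helper8.Asch8
import Cfsg.Agent.Lib.Helper8.Asch9

set_option autoImplicit false

/-! The trichotomy for a subalgebra normalised by an irreducible group. -/

namespace Cfsg.Agent.Lib.Helper8.Asch

open Module
open scoped Kronecker

variable {F : Type*} [Field F] {V : Type*} [AddCommGroup V] [Module F V]

/-- the matrix of a unit of `End V` as an invertible matrix -/
noncomputable def glMat {ι : Type*} [Fintype ι] [DecidableEq ι] (b : Basis ι F V) :
    GLV F V →* GL ι F :=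
  Units.map (LinearMap.toMatrixAlgEquiv b : Module.End F V →* Matrix ι ι F)

theorem glMat_val {ι : Type*} [Fintype ι] [DecidableEq ι] (b : Basis ι F V) (g : GLV F V) :
    (glMat b g : Matrix ι ι F) = LinearMap.toMatrix b b (g : Module.End F V) := rfl

theorem normal_subalgebra_cases [Finite F] [FiniteDimensional F V] [Nontrivial V]
    (H : Subgroup (GLV F V)) (hirr : Irr H) (A : Subalgebra F (Module.End F V))
    (hA : ∀ h ∈ H, Nrm A h) :
    (∃ (t m : ℕ) (D : Fin t → Submodule F V), 2 ≤ t ∧ 0 < m ∧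
      (∀ i, Module.finrank F (D i) = m) ∧ iSupIndep D ∧ iSup D = ⊤ ∧
      ∀ h ∈ H, ∃ σ : Equiv.Perm (Fin t), ∀ i, (D i).map (h : Module.End F V) = D (σ i)) ∨
    (∃ (r : ℕ) (K : Subalgebra F (Module.End F V)), r.Prime ∧ IsFld K ∧ finrank F K = r ∧
      ∀ h ∈ H, ∀ x, x ∈ K ↔
        (h : Module.End F V) * x * ((h⁻¹ : GLV F V) : Module.End F V) ∈ K) ∨
    (∃ (a e : ℕ) (b : Basis (Fin a × Fin e) F V),
      (∀ x ∈ A, ∃ X : Matrix (Fin a) (Fin a) F,
        LinearMap.toMatrix b b x = X ⊗ₖ (1 : Matrix (Fin e) (Fin e) F)) ∧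
      (∀ X : Matrix (Fin a) (Fin a) F, ∃ x ∈ A,
        LinearMap.toMatrix b b x = X ⊗ₖ (1 : Matrix (Fin e) (Fin e) F)) ∧
      ∀ h ∈ H, ∃ (U : GL (Fin a) F) (Γ : GL (Fin e) F),
        LinearMap.toMatrix b b (h : Module.End F V) =
          (U : Matrix (Fin a) (Fin a) F) ⊗ₖ (Γ : Matrix (Fin e) (Fin e) F)) := by
  rcases clifford H hirr A hA with hiso | h2
  · have ss : IsSemisimpleModule A V := clifford_semisimple H hirr A hA
    by_cases hZ : ∀ z ∈ ZC A, ∃ c : F, z = c • (1 : Module.End F V)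
    · right; right
      obtain ⟨a, e, b, hb1, hb2⟩ := tensor_basis A hiso hZ
      refine ⟨a, e, b, hb1, hb2, ?_⟩
      have hne : Nonempty (Fin a × Fin e) := b.index_nonempty
      have hna : Nonempty (Fin a) := ⟨hne.some.1⟩
      have hnb : Nonempty (Fin e) := ⟨hne.some.2⟩
      intro h hh
      have key := kron_of_normalizes (glMat b h) (by
        intro X
        obtain ⟨x, hx, hxX⟩ := hb2 X
        obtain ⟨X', hX'⟩ := hb1 _ (hA h hh x hx)
        refine ⟨X', ?_⟩
        rw [← hX', ← hxX, ← map_inv, glMat_val, glMat_val, LinearMap.toMatrix_mul,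
          LinearMap.toMatrix_mul])
      obtain ⟨U, Γ, hUΓ⟩ := key
      exact ⟨U, Γ, hUΓ⟩
    · right; left
      push Not at hZ
      obtain ⟨z, hz, hzc⟩ := hZ
      exact class3_of_ZC_ne H A hA hiso ⟨z, hz, hzc⟩
  · left
    exact h2

end Cfsg.Agent.Lib.Helper8.Asch
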