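import Cfsg.Agent.Lib.Helper8.Asch15

set_option autoImplicit false

/-! The structure of a perfect minimal normal subgroup, recording minimality of the factors. -/

namespace Cfsg.Agent.Lib.Helper8.Asch

open scoped commutatorElement

variable {G : Type*} [Group G]

theorem caseB_structure_min {H Z N : Subgroup G} [Finite H] (hZ : Z ≤ Subgroup.center G)
    (hN : IsMinNC H Z N) (hperf : ⁅N, N⁆ = N) :
    IsMinNC N Z N ∨ ∃ (k : ℕ) (P : Fin k → Subgroup G), 2 ≤ k ∧ Function.Injective P ∧
      (∀ i, P i ≤ N) ∧ (∀ i, ¬ P i ≤ Z) ∧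
      (∀ i j, i ≠ j → ∀ x ∈ P i, ∀ y ∈ P j, x * y = y * x) ∧
      (Subgroup.closure (⋃ i, (P i : Set G)) = N) ∧
      (∀ h ∈ H, ∃ σ : Equiv.Perm (Fin k), ∀ i, cj h (P i) = P (σ i)) ∧
      (∀ i j, ∃ h ∈ H, cj h (P i) = P j) ∧ (∀ i, IsMinNC N Z (P i)) := by
  have hfinN : Finite N :=
    Finite.of_injective (Subgroup.inclusion hN.le) (Subgroup.inclusion_injective _)
  obtain ⟨P₀, hP₀⟩ := exists_minNC N Z hN.not_le
  by_cases hinv : HInv H P₀
  · left
    have := hN.min P₀ hP₀.le hinv hP₀.not_le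
    rwa [this] at hP₀
  · right
    let C : Set (Subgroup G) := {Q | ∃ h ∈ H, Q = cj h P₀}
    have hCfin : Finite C := by
      have : C = Set.range (fun h : H => cj (h : G) P₀) := by
        ext Q
        constructor
        · rintro ⟨h, hh, rfl⟩
          exact ⟨⟨h, hh⟩, rfl⟩
        · rintro ⟨h, rfl⟩
          exact ⟨h.1, h.2, rfl⟩
      rw [this]
      exact Set.finite_range _
    set k := Nat.card C with hk
    let e : Fin k ≃ C := (Finite.equivFin C).symm
    have hP₀C : P₀ ∈ C := ⟨1, H.one_mem, (cj_one P₀).symm⟩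
    have hcjC : ∀ h ∈ H, ∀ Q ∈ C, cj h Q ∈ C := by
      rintro h hh Q ⟨h', hh', rfl⟩
      exact ⟨h * h', H.mul_mem hh hh', (cj_mul h h' P₀).symm⟩
    have hmin : ∀ Q ∈ C, IsMinNC N Z Q := by
      rintro Q ⟨h, hh, rfl⟩
      exact hP₀.conj_min hZ hN.inv hh
    refine ⟨k, fun i => (e i).1, ?_, ?_, ?_, ?_, ?_, ?_, ?_, ?_, fun i => hmin _ (e i).2⟩
    · -- two distinct conjugates
      unfold HInv at hinv
      push Not at hinv
      obtain ⟨h, hh, x, hx, hxP⟩ := hinv
      have hne : cj h P₀ ≠ P₀ := by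
        intro heq
        apply hxP
        rw [← heq]
        exact conj_mem_cj hx
      have : 1 < k := by
        rw [hk]
        apply Finite.one_lt_card_iff_nontrivial.mpr
        exact ⟨⟨⟨cj h P₀, hcjC h hh P₀ hP₀C⟩, ⟨P₀, hP₀C⟩, fun h' => hne (congrArg Subtype.val h')⟩⟩
      omega
    · intro i j hij
      exact e.injective (Subtype.ext hij)
    · intro i
      exact (hmin _ (e i).2).le
    · intro i
      exact (hmin _ (e i).2).not_le
    · intro i j hij x hx y hy
      obtain ⟨h, hh, hi⟩ := (e i).2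
      obtain ⟨h', hh', hj⟩ := (e j).2
      have hne : cj h P₀ ≠ cj h' P₀ := by
        rw [← hi, ← hj]
        intro heq
        exact hij (e.injective (Subtype.ext heq))
      dsimp only at hx hy
      rw [hi] at hx
      rw [hj] at hy
      exact caseB_commute hZ hN hperf hP₀ hh hh' hne x hx y hy
    · have : (⋃ i, (((e i).1 : Subgroup G) : Set G)) = cjUnion H P₀ := by
        ext x
        simp only [Set.mem_iUnion, SetLike.mem_coe]
        constructor
        · rintro ⟨i, hx⟩
          obtain ⟨h, hh, hi⟩ := (e i).2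
          exact ⟨h, hh, by rw [← hi]; exact hx⟩
        · rintro ⟨h, hh, hx⟩
          refine ⟨e.symm ⟨cj h P₀, h, hh, rfl⟩, ?_⟩
          rw [Equiv.apply_symm_apply]
          exact hx
      rw [this]
      exact closure_cjUnion hN hP₀.le hP₀.not_le
    · intro h hh
      let f : C → C := fun Q => ⟨cj h Q.1, hcjC h hh Q.1 Q.2⟩
      have hfinj : Function.Injective f := by
        intro Q Q' hQQ'
        have h1 : cj h Q.1 = cj h Q'.1 := congrArg Subtype.val hQQ'
        have h2 := congrArg (cj h⁻¹) h1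
        rw [cj_inv_cj, cj_inv_cj] at h2
        exact Subtype.ext h2
      have hfbij : Function.Bijective f := Finite.injective_iff_bijective.mp hfinj
      refine ⟨(e.trans (Equiv.ofBijective f hfbij)).trans e.symm, fun i => ?_⟩
      simp only [Equiv.trans_apply, Equiv.apply_symm_apply, Equiv.ofBijective_apply]
      rfl
    · intro i j
      obtain ⟨h, hh, hi⟩ := (e i).2
      obtain ⟨h', hh', hj⟩ := (e j).2
      refine ⟨h' * h⁻¹, H.mul_mem hh' (H.inv_mem hh), ?_⟩
      dsimp only
      rw [hi, hj, cj_mul, cj_inv_cj]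

end Cfsg.Agent.Lib.Helper8.Asch
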