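import Cfsg.Agent.Lib.Helper8.SpG1

set_option autoImplicit false

/-! Class 5 for the symplectic group: a normal absolutely irreducible subgroup written over a proper
subfield. -/

namespace Cfsg.Agent.Lib.Helper8.Asch

open Module Matrix
open Cfsg.Geo

theorem eq_gf_id {ι : Type} [Fintype ι] [DecidableEq ι] {F : Type*} [Field F]
    {f : (ι → F) → (ι → F) → F} (hf : IsBilinearForm f) (u v : ι → F) :
    f u v = gf (RingHom.id F) (gramMatrix f) u v :=
  eq_gf (RingHom.id F) f hf.add_left hf.smul_left hf.add_right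
    (fun c v x => by rw [hf.smul_right, RingHom.id_apply]) u v

theorem gram_invariant {ι : Type} [Fintype ι] [DecidableEq ι] {F : Type*} [Field F]
    {f : (ι → F) → (ι → F) → F} (hf : IsBilinearForm f) (x : Matrix ι ι F)
    (hx : ∀ u v, f (x *ᵥ u) (x *ᵥ v) = f u v) : xᵀ * gramMatrix f * x = gramMatrix f := by
  ext a b
  rw [← gf_single (RingHom.id F) (xᵀ * gramMatrix f * x) a b]
  have := gf_mulVec (RingHom.id F) (gramMatrix f) x (Pi.single a 1) (Pi.single b 1)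
  rw [map_id'] at this
  rw [← this, ← eq_gf_id hf, hx]
  rfl

theorem gram_det_ne_zero {ι : Type} [Fintype ι] [DecidableEq ι] {F : Type*} [Field F]
    {f : (ι → F) → (ι → F) → F} (hf : IsBilinearForm f) (hnd : IsNondegenerateForm f) :
    (gramMatrix f).det ≠ 0 := by
  apply det_ne_zero_of_nondeg (RingHom.id F) (fun x => ⟨x, rfl⟩)
  have : gf (RingHom.id F) (gramMatrix f) = f := by
    funext u v
    exact (eq_gf_id hf u v).symm
  rw [this]
  exact hnd

variable {F : Type*} [Field F] [Fintype F]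

theorem form_rational_of_realisable {ι : Type} [Fintype ι] [DecidableEq ι] [Nonempty ι]
    {f : (ι → F) → (ι → F) → F} (hf : IsBilinearForm f) (hnd : IsNondegenerateForm f)
    (N : Subgroup (GL ι F)) (hNf : Isom f N) (hspan : Submodule.span F (mset N) = ⊤)
    (K : Subfield F) (Bm : GL ι F)
    (hBK : ∀ s ∈ matrixSet N, ∀ i j, ((Bm : Matrix ι ι F) * s *
      ((Bm⁻¹ : GL ι F) : Matrix ι ι F)) i j ∈ K) :
    ∃ ζ : F, ζ ≠ 0 ∧ IsFormRationalStructure f K ζ Bm⁻¹ := by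
  set Jm : Matrix ι ι F := gramMatrix f with hJm
  set P : GL ι F := Bm⁻¹ with hP
  have hdetJ : Jm.det ≠ 0 := gram_det_ne_zero hf hnd
  have hdetG : ((P : Matrix ι ι F)ᵀ * Jm * (P : Matrix ι ι F)).det ≠ 0 := by
    rw [Matrix.det_mul, Matrix.det_mul, Matrix.det_transpose]
    exact mul_ne_zero (mul_ne_zero (gl_det_ne_zero P) hdetJ) (gl_det_ne_zero P)
  let G : GL ι F := Matrix.GeneralLinearGroup.mkOfDetNeZero _ hdetG
  have hGval : (G : Matrix ι ι F) = (P : Matrix ι ι F)ᵀ * Jm * (P : Matrix ι ι F) := rfl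
  let S : Subgroup (GL ι F) := N.map (MulAut.conj Bm).toMonoidHom
  have hSmem : ∀ s ∈ S, ∃ x ∈ N, s = Bm * x * Bm⁻¹ := by
    rintro s ⟨x, hx, rfl⟩
    exact ⟨x, hx, rfl⟩
  have hPB : (P : Matrix ι ι F) * (Bm : Matrix ι ι F) = 1 := by
    rw [hP, ← Units.val_mul, inv_mul_cancel, Units.val_one]
  have hBP : (Bm : Matrix ι ι F) * (P : Matrix ι ι F) = 1 := by
    rw [hP, ← Units.val_mul, mul_inv_cancel, Units.val_one]
  have hK : ∀ s ∈ S, ∀ i j, (s : Matrix ι ι F) i j ∈ K := by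
    intro s hs i j
    obtain ⟨x, hx, rfl⟩ := hSmem s hs
    rw [Units.val_mul, Units.val_mul]
    exact hBK _ ⟨x, hx, rfl⟩ i j
  have hcent : ∀ w : Matrix ι ι F,
      (∀ s ∈ S, w * (s : Matrix ι ι F) = (s : Matrix ι ι F) * w) →
      ∃ c : F, w = c • (1 : Matrix ι ι F) := by
    intro w hw
    obtain ⟨c, hc⟩ := (absIrred_of_span N hspan).2
      ((P : Matrix ι ι F) * w * (Bm : Matrix ι ι F)) (by
      rintro _ ⟨x, hx, rfl⟩
      have := hw (Bm * x * Bm⁻¹) ⟨x, hx, rfl⟩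
      rw [Units.val_mul, Units.val_mul, ← hP] at this
      calc (P : Matrix ι ι F) * w * (Bm : Matrix ι ι F) * (x : Matrix ι ι F)
          = (P : Matrix ι ι F) * (w * ((Bm : Matrix ι ι F) * (x : Matrix ι ι F) *
              (P : Matrix ι ι F))) * (Bm : Matrix ι ι F) := by
            simp only [Matrix.mul_assoc]
            rw [hPB, Matrix.mul_one]
        _ = (P : Matrix ι ι F) * ((Bm : Matrix ι ι F) * (x : Matrix ι ι F) *
              (P : Matrix ι ι F) * w) * (Bm : Matrix ι ι F) := by rw [this]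
        _ = (x : Matrix ι ι F) * ((P : Matrix ι ι F) * w * (Bm : Matrix ι ι F)) := by
            simp only [Matrix.mul_assoc]
            rw [← Matrix.mul_assoc (P : Matrix ι ι F) (Bm : Matrix ι ι F), hPB, Matrix.one_mul])
    refine ⟨c, ?_⟩
    calc w = (Bm : Matrix ι ι F) * ((P : Matrix ι ι F) * w * (Bm : Matrix ι ι F)) *
          (P : Matrix ι ι F) := by
          simp only [Matrix.mul_assoc]
          rw [hBP, Matrix.mul_one, ← Matrix.mul_assoc, hBP, Matrix.one_mul]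
      _ = c • (1 : Matrix ι ι F) := by
          rw [hc, Matrix.mul_smul, Matrix.smul_mul, Matrix.mul_one, hBP]
  have h1 : ∀ s ∈ S, (s : Matrix ι ι F)ᵀ * (G : Matrix ι ι F) * (s : Matrix ι ι F) =
      (G : Matrix ι ι F) := by
    intro s hs
    obtain ⟨x, hx, rfl⟩ := hSmem s hs
    have hxJ : (x : Matrix ι ι F)ᵀ * Jm * (x : Matrix ι ι F) = Jm :=
      gram_invariant hf _ (hNf x hx)
    rw [hGval, Units.val_mul, Units.val_mul, ← hP, Matrix.transpose_mul, Matrix.transpose_mul]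
    have hPBt : (Bm : Matrix ι ι F)ᵀ * (P : Matrix ι ι F)ᵀ = 1 := by
      rw [← Matrix.transpose_mul, hPB, Matrix.transpose_one]
    calc (P : Matrix ι ι F)ᵀ * ((x : Matrix ι ι F)ᵀ * (Bm : Matrix ι ι F)ᵀ) *
          ((P : Matrix ι ι F)ᵀ * Jm * (P : Matrix ι ι F)) *
          ((Bm : Matrix ι ι F) * (x : Matrix ι ι F) * (P : Matrix ι ι F))
        = (P : Matrix ι ι F)ᵀ * ((x : Matrix ι ι F)ᵀ * (((Bm : Matrix ι ι F)ᵀ *
            (P : Matrix ι ι F)ᵀ) * Jm * ((P : Matrix ι ι F) * (Bm : Matrix ι ι F))) *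
            (x : Matrix ι ι F)) * (P : Matrix ι ι F) := by
          simp only [Matrix.mul_assoc]
      _ = (P : Matrix ι ι F)ᵀ * Jm * (P : Matrix ι ι F) := by
          rw [hPBt, hPB, Matrix.one_mul, Matrix.mul_one, hxJ]
  obtain ⟨ζ, hζ, hζK⟩ := invariant_form_rational K S hK hcent G h1
  refine ⟨ζ, hζ, ?_⟩
  intro u v hu hv
  rw [eq_gf_id hf]
  have := gf_mulVec (RingHom.id F) Jm (P : Matrix ι ι F) u v
  rw [map_id'] at this
  rw [← hJm, this, ← hGval, ← gf_smul_mat]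
  unfold gf
  apply Subfield.sum_mem
  intro a _
  apply mul_mem (hu a)
  apply Subfield.sum_mem
  intro c _
  exact mul_mem (hζK a c) (hv c)

theorem sp_class5_of_realisable (m : ℕ) (hm : 1 ≤ m) (H N : Subgroup (GL (Fin m ⊕ Fin m) F))
    (hH : H ≤ spGL m F) (hNH : N ≤ H) (hHN : HInv H N)
    (hspan : Submodule.span F (mset N) = ⊤) (F₀ : Subfield F) (hF₀ : F₀ ≠ ⊤)
    (hreal : RealisableOver F₀ (matrixSet N)) :
    ∃ M : Subgroup (GL (Fin m ⊕ Fin m) F), ISPC m F M ∧ H ≤ M := by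
  have hf := isSymplecticForm_sympForm (F := F) m
  haveI : Nonempty (Fin m ⊕ Fin m) := ⟨Sum.inl ⟨0, by omega⟩⟩
  obtain ⟨K, r, hFK, hr, hcard⟩ := exists_max_subfield F₀ hF₀
  obtain ⟨Bm, hBm⟩ := hreal
  have hBK : ∀ s ∈ matrixSet N, ∀ i j, ((Bm : Matrix (Fin m ⊕ Fin m) (Fin m ⊕ Fin m) F) * s *
      ((Bm⁻¹ : GL (Fin m ⊕ Fin m) F) : Matrix (Fin m ⊕ Fin m) (Fin m ⊕ Fin m) F)) i j ∈ K :=
    fun s hs i j => hFK (hBm s hs i j)
  have hle : H ≤ subfieldSubgroup K Bm⁻¹ :=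
    le_subfieldSubgroup_of_realisable H N hHN hspan K Bm hBK
  obtain ⟨ζ, hζ, hrat⟩ := form_rational_of_realisable hf.bilinear hf.nondegenerate N
    (isom_of_le_spGL (hNH.trans hH)) hspan K Bm hBK
  refine ⟨subfieldSubgroup K Bm⁻¹ ⊓ spGL m F, ?_, le_inf hle hH⟩
  right; right; right; right; left
  exact ⟨K, r, Bm⁻¹, ζ, hr, hcard, hζ, hrat, rfl⟩

end Cfsg.Agent.Lib.Helper8.Asch
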