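import Cfsg.Agent.Lib.Helper8.SpH5
import Cfsg.Agent.Lib.Helper8.SpG2
import Cfsg.Agent.Lib.Helper8.AschA6

set_option autoImplicit false

/-! Case A for the symplectic group: class 5 or class 6. -/

namespace Cfsg.Agent.Lib.Helper8.Asch

open Module Matrix
open scoped commutatorElement
open Cfsg.Geo

variable {F : Type*} [Field F] [Fintype F]

theorem sv_sq_of_isom {ι : Type} [Fintype ι] [DecidableEq ι] [Nonempty ι]
    {f : (ι → F) → (ι → F) → F} (hf : IsSymplecticForm f) {g : GL ι F} (hgZ : g ∈ Zs ι F)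
    (hg : ∀ u v, f ((g : Matrix ι ι F) *ᵥ u) ((g : Matrix ι ι F) *ᵥ v) = f u v) :
    sv g = 1 ∨ sv g = -1 := by
  have hval := val_eq_sv_smul hgZ
  obtain ⟨i₀⟩ := ‹Nonempty ι›
  have hv0 : (Pi.single i₀ (1 : F) : ι → F) ≠ 0 := by
    intro h0
    have := congrFun h0 i₀
    rw [Pi.single_eq_same, Pi.zero_apply] at this
    exact one_ne_zero this
  obtain ⟨⟨x, hx⟩, -⟩ := hf.nondegenerate _ hv0
  have := hg x (Pi.single i₀ 1)
  rw [hval, Matrix.smul_mulVec, Matrix.one_mulVec, Matrix.smul_mulVec, Matrix.one_mulVec,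
    hf.bilinear.smul_left, hf.bilinear.smul_right] at this
  have h1 : (sv g * sv g - 1) * f x (Pi.single i₀ 1) = 0 := by linear_combination this
  rcases mul_eq_zero.mp h1 with h | h
  · have h' : (sv g - 1) * (sv g + 1) = 0 := by linear_combination h
    rcases mul_eq_zero.mp h' with h'' | h''
    · left; linear_combination h''
    · right; linear_combination h''
  · exact absurd h hx

theorem sp_caseA (m : ℕ) (hm : 2 ≤ m) {H N : Subgroup (GL (Fin m ⊕ Fin m) F)}
    (hH : H ≤ spGL m F) (hA : ACase H N) :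
    ∃ M : Subgroup (GL (Fin m ⊕ Fin m) F), ISC m F M ∧ H ≤ M := by
  have hf := isSymplecticForm_sympForm (F := F) m
  haveI : Nonempty (Fin m ⊕ Fin m) := ⟨Sum.inl ⟨0, by omega⟩⟩
  obtain ⟨r, k, hr, hnk, hp, hexp, hz1, hz2, hcardN⟩ := hA.structure_thm
  set z := Nat.card ↥(N ⊓ Zs (Fin m ⊕ Fin m) F) with hz
  have hNH : N ≤ H := hA.minNC.le
  have hNsp : N ≤ spGL m F := hNH.trans hH
  have hNf : Isom (sympForm m F) N := isom_of_le_spGL hNsp
  have hpm : ∀ g ∈ N, g ∈ Zs (Fin m ⊕ Fin m) F → sv g = 1 ∨ sv g = -1 :=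
    fun g hg hgZ => sv_sq_of_isom hf hgZ (hNf g hg)
  haveI : Finite N := hA.cl2.fin
  haveI : Finite ↥(N ⊓ Zs (Fin m ⊕ Fin m) F) :=
    Finite.of_injective (Subgroup.inclusion (inf_le_left : N ⊓ Zs (Fin m ⊕ Fin m) F ≤ N))
      (Subgroup.inclusion_injective _)
  have hzle : z ≤ 2 := by
    classical
    let φ : ↥(N ⊓ Zs (Fin m ⊕ Fin m) F) → Bool := fun g => decide (sv (g : GL (Fin m ⊕ Fin m) F) = 1)
    have hφ : Function.Injective φ := by
      intro g g' h
      have hsv : sv (g : GL (Fin m ⊕ Fin m) F) = sv (g' : GL (Fin m ⊕ Fin m) F) := by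
        by_cases h1 : sv (g : GL (Fin m ⊕ Fin m) F) = 1
        · have : φ g = true := decide_eq_true h1
          rw [h] at this
          rw [h1, of_decide_eq_true this]
        · have : φ g = false := decide_eq_false h1
          rw [h] at this
          have h1' := of_decide_eq_false this
          rcases hpm _ g.2.1 g.2.2 with e | e
          · exact absurd e h1
          · rcases hpm _ g'.2.1 g'.2.2 with e' | e'
            · exact absurd e' h1'
            · rw [e, e']
      apply Subtype.ext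
      apply Units.ext
      rw [val_eq_sv_smul g.2.2, val_eq_sv_smul g'.2.2, hsv]
    have := Nat.card_le_card_of_injective φ hφ
    rw [Nat.card_eq_fintype_card (α := Bool), Fintype.card_bool] at this
    exact this
  have hzpos : 0 < z := Nat.card_pos
  have hz2' : z = 2 := by omega
  have hr2 : r = 2 := by
    rcases hr.eq_two_or_odd' with h | hodd
    · exact h
    · exfalso
      have hg : Nat.gcd 2 r = 1 := by
        rw [← Nat.coprime_iff_gcd_eq_one]
        exact (Nat.coprime_primes Nat.prime_two hr).mpr (fun h => by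
          rw [← h] at hodd
          exact absurd hodd (by decide))
      rw [hg, mul_one, hz2'] at hz1
      obtain ⟨j, hj⟩ := hodd
      omega
  subst hr2
  -- the characteristic is odd
  have h2F : (2 : F) ≠ 0 := by
    have hnt : Nontrivial ↥(N ⊓ Zs (Fin m ⊕ Fin m) F) := by
      rw [← Finite.one_lt_card_iff_nontrivial, ← hz, hz2']
      norm_num
    obtain ⟨g, hg⟩ := exists_ne (1 : ↥(N ⊓ Zs (Fin m ⊕ Fin m) F))
    have hsv1 : sv (g : GL (Fin m ⊕ Fin m) F) ≠ 1 := by
      intro h1
      apply hg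
      apply Subtype.ext
      apply Units.ext
      rw [val_eq_sv_smul g.2.2, h1, one_smul]
      rfl
    have hsvm : sv (g : GL (Fin m ⊕ Fin m) F) = -1 := by
      rcases hpm _ g.2.1 g.2.2 with e | e
      · exact absurd e hsv1
      · exact e
    intro h20
    apply hsv1
    rw [hsvm]
    linear_combination -h20
  set S : Set F := Set.range (svHom N) with hS
  set F₁ : Subfield F := Subfield.closure S with hF₁def
  have hF₁ : ∀ k ∈ N, k ∈ Zs (Fin m ⊕ Fin m) F → sv k ∈ F₁ := fun k hk hkZ =>
    Subfield.subset_closure ⟨⟨k, hk, hkZ⟩, rfl⟩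
  by_cases htop : F₁ = ⊤
  swap
  · obtain ⟨U, hU⟩ := realise_over_subfield hA.cl2 F₁ hF₁
    obtain ⟨M, hM, hle⟩ := sp_class5_of_realisable m (by omega) H N hH hNH hA.minNC.inv hA.span F₁
      htop ⟨U, by
        rintro s ⟨x, hx, rfl⟩ i j
        exact hU x hx i j⟩
    exact ⟨M, Or.inl hM, hle⟩
  obtain ⟨p, hchar, e, hpp, hcard⟩ := FiniteField.card' F
  haveI : Fact p.Prime := ⟨hpp⟩
  have hSz : ∀ c ∈ S, c ^ 2 = 1 := by
    rintro c ⟨g, rfl⟩
    show sv (g : GL (Fin m ⊕ Fin m) F) ^ 2 = 1
    rcases hpm _ g.2.1 g.2.2 with e | e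
    · rw [e]; ring
    · rw [e]; ring
  have hmin : ∀ d : ℕ, 0 < d → d < (e : ℕ) → ¬ 2 ∣ p ^ d - 1 :=
    fun d hd0 hde => minimal_of_closure_top S 2 hSz htop p e hcard d hd0 hde
  have hp2 : p ≠ 2 := by
    rintro rfl
    apply h2F
    have := CharP.cast_eq_zero F 2
    exact_mod_cast this
  have hpodd : Odd p := hpp.eq_two_or_odd'.resolve_left hp2
  have he1 : (e : ℕ) = 1 := by
    by_contra hne
    have he : 1 < (e : ℕ) := by
      have := e.pos
      omega
    apply hmin 1 (by norm_num) he
    rw [pow_one]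
    obtain ⟨j, hj⟩ := hpodd
    exact ⟨j, by omega⟩
  have hcardF : Fintype.card F = p := by rw [hcard, he1, pow_one]
  have hcardι : Fintype.card (Fin m ⊕ Fin m) = 2 ^ k := hnk
  refine ⟨subgroupNormalizer N ⊓ spGL m F, Or.inl ?_, le_inf ?_ hH⟩
  · right; right; right; right; right; left
    refine ⟨N, p, k, ?_, hA.symplecticType hr hp hexp, absIrred_of_span N hA.span, ?_, hpp, hpodd,
      hcardF, ?_, ?_, ?_, rfl⟩
    · rw [← hcardι, Fintype.card_sum, Fintype.card_fin]
      ring
    · intro g hg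
      exact ⟨1, fun u v => by rw [Units.val_one, one_mul]; exact hNf g hg u v⟩
    · rw [hcardN, hz2', pow_add, pow_one]
    · rw [card_center hA.cl2, ← hz, hz2']
    · intro A hAc hAe
      set A' : Subgroup (GL (Fin m ⊕ Fin m) F) := A.map N.subtype with hA'
      have hcardA : Nat.card A' = Nat.card A :=
        Subgroup.card_map_of_injective N.subtype_injective
      have hA'N : A' ≤ N := by
        rintro _ ⟨x, -, rfl⟩
        exact x.2
      have hlt := elemAbelian_card_lt hf hA.cl2 hNf h2F hpm (by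
          rw [hcardι]
          push_cast
          exact pow_ne_zero _ h2F) A' hA'N (by
          rintro ⟨_, a, ha, rfl⟩ ⟨_, b, hb, rfl⟩
          apply Subtype.ext
          show (a : GL (Fin m ⊕ Fin m) F) * (b : GL (Fin m ⊕ Fin m) F) = b * a
          have := hAc.is_comm.comm (⟨a, ha⟩ : A) ⟨b, hb⟩
          have h' := congrArg (fun x : A => ((x : N) : GL (Fin m ⊕ Fin m) F)) this
          exact h') (by
          rintro ⟨_, a, ha, rfl⟩
          apply Subtype.ext
          show (a : GL (Fin m ⊕ Fin m) F) * (a : GL (Fin m ⊕ Fin m) F) = 1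
          have := hAe a ha
          exact congrArg Subtype.val this)
      rw [hcardA, hcardι] at hlt
      rw [pow_succ]
      omega
  · intro h hh
    unfold subgroupNormalizer
    rw [Subgroup.mem_set_normalizer_iff]
    intro x
    constructor
    · intro hx
      exact hA.minNC.inv h hh x hx
    · intro hx
      have := hA.minNC.inv h⁻¹ (H.inv_mem hh) _ hx
      have e : h⁻¹ * (h * x * h⁻¹) * h⁻¹⁻¹ = x := by group
      rw [e] at this
      exact this

end Cfsg.Agent.Lib.Helper8.Asch
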