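import Cfsg.Agent.Lib.Helper8.SpJ3

set_option autoImplicit false

/-! A spanning group fixing both a bilinear and a unitary form is realisable over the fixed field. -/

namespace Cfsg.Agent.Lib.Helper8.Asch

open Module Matrix
open Cfsg.Geo

variable {ι : Type} [Fintype ι] [DecidableEq ι] {F : Type*} [Field F]

theorem map_smul_mat (τ : F →+* F) (a : F) (X : Matrix ι ι F) :
    (a • X).map τ = τ a • X.map τ := by
  ext i j
  rw [Matrix.map_apply, Matrix.smul_apply, Matrix.smul_apply, Matrix.map_apply, smul_eq_mul,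
    smul_eq_mul, map_mul]

theorem map_one_mat (τ : F →+* F) : (1 : Matrix ι ι F).map τ = 1 :=
  Matrix.map_one _ (map_zero τ) (map_one τ)

theorem mul_left_cancel_of_det {J A B : Matrix ι ι F} (hJ : J.det ≠ 0) (h : J * A = J * B) :
    A = B := by
  have hJJ' : J⁻¹ * J = 1 := Matrix.nonsing_inv_mul J (isUnit_iff_ne_zero.mpr hJ)
  calc A = J⁻¹ * (J * A) := by rw [← Matrix.mul_assoc, hJJ', Matrix.one_mul]
    _ = J⁻¹ * (J * B) := by rw [h]
    _ = B := by rw [← Matrix.mul_assoc, hJJ', Matrix.one_mul]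

theorem realisable_of_unitary [Nonempty ι] [Fintype F]
    (N : Subgroup (GL ι F)) (hspan : Submodule.span F (mset N) = ⊤)
    (f : (ι → F) → (ι → F) → F) (hf : IsBilinearForm f) (hnd : IsNondegenerateForm f)
    (hNf : ∀ x ∈ N, ∀ u v, f ((x : Matrix ι ι F) *ᵥ u) ((x : Matrix ι ι F) *ᵥ v) = f u v)
    (σ : F ≃+* F) (g : (ι → F) → (ι → F) → F) (hg : IsUnitaryForm σ g)
    (hfix : FixesForm (matrixSet N) g) :
    RealisableOver (fixSub σ) (matrixSet N) := by
  classical
  set τ : F →+* F := (σ : F →+* F) with hτd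
  have hτ : ∀ a, τ (τ a) = a := hg.involutive
  obtain ⟨ω, hω⟩ : ∃ ω, τ ω ≠ ω := by
    by_contra hcon
    push Not at hcon
    apply hg.ne_refl
    ext x
    exact hcon x
  set J := gramMatrix f with hJd
  set Gu := gramMatrix g with hGd
  have hgG : ∀ u v, g u v = gf τ Gu u v := by
    refine eq_gf τ g hg.add_left hg.smul_left ?_ ?_
    · intro v x y
      rw [hg.herm, hg.add_left, map_add, ← hg.herm, ← hg.herm]
    · intro c v x
      rw [hg.herm, hg.smul_left, map_mul, ← hg.herm]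
      rfl
  have hJdet : J.det ≠ 0 := gram_det_ne_zero hf hnd
  have hGdet : Gu.det ≠ 0 := by
    refine det_ne_zero_of_nondeg τ σ.surjective Gu ?_
    have : gf τ Gu = g := by
      funext u v
      exact (hgG u v).symm
    rw [this]
    exact hg.nondegenerate
  have hJ : ∀ x ∈ N, (x : Matrix ι ι F)ᵀ * J * (x : Matrix ι ι F) = J :=
    fun x hx => gram_invariant hf _ (hNf x hx)
  have hG : ∀ x ∈ N, (x : Matrix ι ι F)ᵀ * Gu * (x : Matrix ι ι F).map τ = Gu := by
    intro x hx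
    ext a b
    rw [← gf_single τ (_ * Gu * _) a b, ← gf_mulVec, ← hgG, hfix _ ⟨x, hx, rfl⟩, hgG, gf_single]
  have hJJ : J * J⁻¹ = 1 := Matrix.mul_nonsing_inv J (isUnit_iff_ne_zero.mpr hJdet)
  obtain ⟨C, hCd⟩ : ∃ C : Matrix ι ι F, C = J⁻¹ * Gu := ⟨_, rfl⟩
  have hxC : ∀ x ∈ N, (x : Matrix ι ι F) * C = C * (x : Matrix ι ι F).map τ := by
    intro x hx
    set t : GL ι F := x⁻¹ with htd
    have htx : (t : Matrix ι ι F) * (x : Matrix ι ι F) = 1 := by
      rw [← Units.val_mul, inv_mul_cancel, Units.val_one]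
    have h1 : (t : Matrix ι ι F)ᵀ * J = J * (x : Matrix ι ι F) := by
      have := hJ t (N.inv_mem hx)
      calc (t : Matrix ι ι F)ᵀ * J
          = (t : Matrix ι ι F)ᵀ * J * ((t : Matrix ι ι F) * (x : Matrix ι ι F)) := by
            rw [htx, Matrix.mul_one]
        _ = ((t : Matrix ι ι F)ᵀ * J * (t : Matrix ι ι F)) * (x : Matrix ι ι F) := by
            simp only [Matrix.mul_assoc]
        _ = J * (x : Matrix ι ι F) := by rw [this]
    have h2 : (t : Matrix ι ι F)ᵀ * Gu = Gu * (x : Matrix ι ι F).map τ := by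
      have := hG t (N.inv_mem hx)
      have htx' : (t : Matrix ι ι F).map τ * (x : Matrix ι ι F).map τ = 1 := by
        rw [← Matrix.map_mul, htx, map_one_mat]
      calc (t : Matrix ι ι F)ᵀ * Gu
          = (t : Matrix ι ι F)ᵀ * Gu * ((t : Matrix ι ι F).map τ * (x : Matrix ι ι F).map τ) := by
            rw [htx', Matrix.mul_one]
        _ = ((t : Matrix ι ι F)ᵀ * Gu * (t : Matrix ι ι F).map τ) * (x : Matrix ι ι F).map τ := by
            simp only [Matrix.mul_assoc]
        _ = Gu * (x : Matrix ι ι F).map τ := by rw [this]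
    apply mul_left_cancel_of_det hJdet
    calc J * ((x : Matrix ι ι F) * C) = (J * (x : Matrix ι ι F)) * C := by rw [Matrix.mul_assoc]
      _ = (t : Matrix ι ι F)ᵀ * J * (J⁻¹ * Gu) := by rw [← h1, hCd]
      _ = (t : Matrix ι ι F)ᵀ * (J * J⁻¹) * Gu := by simp only [Matrix.mul_assoc]
      _ = (t : Matrix ι ι F)ᵀ * Gu := by rw [hJJ, Matrix.mul_one]
      _ = Gu * (x : Matrix ι ι F).map τ := h2
      _ = (J * J⁻¹) * Gu * (x : Matrix ι ι F).map τ := by rw [hJJ, Matrix.one_mul]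
      _ = J * (C * (x : Matrix ι ι F).map τ) := by simp only [Matrix.mul_assoc, hCd]
  obtain ⟨D, hDd⟩ : ∃ D : Matrix ι ι F, D = C * C.map τ := ⟨_, rfl⟩
  have hD : ∀ X ∈ mset N, D * X = X * D := by
    rintro _ ⟨x, hx, rfl⟩
    symm
    calc (x : Matrix ι ι F) * D = ((x : Matrix ι ι F) * C) * C.map τ := by
          rw [hDd, Matrix.mul_assoc]
      _ = C * ((x : Matrix ι ι F).map τ * C.map τ) := by rw [hxC x hx, Matrix.mul_assoc]
      _ = C * ((x : Matrix ι ι F) * C).map τ := by rw [Matrix.map_mul]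
      _ = C * (C * (x : Matrix ι ι F).map τ).map τ := by rw [hxC x hx]
      _ = C * (C.map τ * (x : Matrix ι ι F)) := by rw [Matrix.map_mul, map_map_invol τ hτ]
      _ = D * (x : Matrix ι ι F) := by rw [hDd, Matrix.mul_assoc]
  obtain ⟨c, hc⟩ := scalar_of_commute_span hspan hD
  have hCdet : C.det ≠ 0 := by
    rw [hCd, Matrix.det_mul, Matrix.det_nonsing_inv]
    exact mul_ne_zero (by rw [Ring.inverse_eq_inv']; exact inv_ne_zero hJdet) hGdet
  have hc0 : c ≠ 0 := by
    rintro rfl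
    rw [zero_smul] at hc
    have h1 : D.det ≠ 0 := by
      rw [hDd, Matrix.det_mul]
      refine mul_ne_zero hCdet ?_
      have : (C.map τ).det = τ C.det := by
        rw [RingHom.map_det]
        rfl
      rw [this]
      exact (map_ne_zero τ).mpr hCdet
    rw [hc, Matrix.det_zero] at h1
    exact h1 rfl
  have hD' : C.map τ * C = c • (1 : Matrix ι ι F) := by
    have h1 : (c⁻¹ • C) * C.map τ = 1 := by
      rw [Matrix.smul_mul, ← hDd, hc, smul_smul, inv_mul_cancel₀ hc0, one_smul]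
    have h2 := mul_eq_one_comm.mp h1
    rw [Matrix.mul_smul] at h2
    rw [← h2, smul_smul, mul_inv_cancel₀ hc0, one_smul]
  have hτc : σ c = c := by
    have h1 : D.map τ = τ c • (1 : Matrix ι ι F) := by
      rw [hc, map_smul_mat, map_one_mat]
    rw [hDd, Matrix.map_mul, map_map_invol τ hτ, hD'] at h1
    obtain ⟨i⟩ := ‹Nonempty ι›
    have h2 := congrFun (congrFun h1 i) i
    rw [Matrix.smul_apply, Matrix.smul_apply, Matrix.one_apply_eq, smul_eq_mul, smul_eq_mul,
      mul_one, mul_one] at h2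
    exact h2.symm
  obtain ⟨μ, hμ⟩ := exists_norm_eq σ hg.ne_refl hg.involutive c hτc
  have hμ0 : μ ≠ 0 := by
    rintro rfl
    rw [zero_mul] at hμ
    exact hc0 hμ.symm
  have hμ' : τ μ ≠ 0 := (map_ne_zero τ).mpr hμ0
  obtain ⟨C', hC'd⟩ : ∃ C' : Matrix ι ι F, C' = μ⁻¹ • C := ⟨_, rfl⟩
  have hC' : C' * C'.map τ = 1 := by
    rw [hC'd, map_smul_mat, Matrix.smul_mul, Matrix.mul_smul, ← hDd, hc, smul_smul, smul_smul,
      map_inv₀]
    have : c * ((τ μ)⁻¹ * μ⁻¹) = 1 := by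
      rw [← hμ]
      show μ * τ μ * ((τ μ)⁻¹ * μ⁻¹) = 1
      field_simp
    rw [mul_comm, mul_comm (μ⁻¹), this, one_smul]
  have hxC' : ∀ x ∈ N, (x : Matrix ι ι F) * C' = C' * (x : Matrix ι ι F).map τ := by
    intro x hx
    rw [hC'd, Matrix.mul_smul, Matrix.smul_mul, hxC x hx]
  obtain ⟨B, hB⟩ := hilbert90_mat τ hτ ω hω C' hC'
  refine ⟨B⁻¹, ?_⟩
  rintro _ ⟨x, hx, rfl⟩ i j
  rw [inv_inv, mem_fixSub]
  set Bi : Matrix ι ι F := ((B⁻¹ : GL ι F) : Matrix ι ι F) with hBi
  have hBBi : (B : Matrix ι ι F) * Bi = 1 := by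
    rw [hBi, ← Units.val_mul, mul_inv_cancel, Units.val_one]
  obtain ⟨Y, hY⟩ : ∃ Y : Matrix ι ι F, Y = Bi * (x : Matrix ι ι F) * (B : Matrix ι ι F) := ⟨_, rfl⟩
  have hBY : (B : Matrix ι ι F) * Y = (x : Matrix ι ι F) * (B : Matrix ι ι F) := by
    rw [hY, ← Matrix.mul_assoc, ← Matrix.mul_assoc, hBBi, Matrix.one_mul]
  have hBdet : (B : Matrix ι ι F).det ≠ 0 := gl_det_ne_zero B
  have hYY : Y.map τ = Y := by
    apply mul_left_cancel_of_det hBdet
    calc (B : Matrix ι ι F) * Y.map τ = C' * ((B : Matrix ι ι F).map τ * Y.map τ) := by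
          rw [← Matrix.mul_assoc, hB]
      _ = C' * ((x : Matrix ι ι F) * (B : Matrix ι ι F)).map τ := by rw [← Matrix.map_mul, hBY]
      _ = (C' * (x : Matrix ι ι F).map τ) * (B : Matrix ι ι F).map τ := by
          rw [Matrix.map_mul, Matrix.mul_assoc]
      _ = (x : Matrix ι ι F) * (C' * (B : Matrix ι ι F).map τ) := by
          rw [← hxC' x hx, Matrix.mul_assoc]
      _ = (B : Matrix ι ι F) * Y := by rw [hB, hBY]
  have := congrFun (congrFun hYY i) j
  rw [Matrix.map_apply, hY] at this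
  exact this

end Cfsg.Agent.Lib.Helper8.Asch
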