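import Cfsg.Agent.Lib.Helper8.SpJ1
import Cfsg.Agent.Lib.Helper8.SpJ4
import Cfsg.Agent.Lib.Helper8.AschB3

set_option autoImplicit false

/-! The symplectic case with a quasisimple minimal normal subgroup modulo scalars. -/

namespace Cfsg.Agent.Lib.Helper8.Asch

open Module Matrix
open scoped commutatorElement
open Cfsg.Geo

variable {F : Type*} [Field F] [Fintype F]

theorem sp_caseB_one (m : ℕ) (hm : 2 ≤ m) (H N : Subgroup (GL (Fin m ⊕ Fin m) F))
    (hH : H ≤ spGL m F) (hNH : N ≤ H) (hHN : HInv H N)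
    (hspan : Submodule.span F (mset N) = ⊤) (hperf : ⁅N, N⁆ = N)
    (hmin : IsMinNC N (scalars (Fin m ⊕ Fin m) F) N) :
    (∃ M : Subgroup (GL (Fin m ⊕ Fin m) F), ISC m F M ∧ H ≤ M) ∨
      InSymplecticResidualClass H := by
  haveI : Nonempty (Fin m ⊕ Fin m) := ⟨Sum.inl ⟨0, by omega⟩⟩
  by_cases h1 : ∃ F₀ : Subfield F, F₀ ≠ ⊤ ∧ RealisableOver F₀ (matrixSet N)
  · left
    obtain ⟨F₀, hF₀, hreal⟩ := h1
    obtain ⟨M, hM, hle⟩ := sp_class5_of_realisable m (by omega) H N hH hNH hHN hspan F₀ hF₀ hreal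
    exact ⟨M, Or.inl hM, hle⟩
  by_cases h2 : ∃ Q : (Fin m ⊕ Fin m → F) → F, IsNondegenerateQuadraticForm Q ∧
      FixesQuadForm (matrixSet N) Q
  · left
    obtain ⟨Q, hQ, hfix⟩ := h2
    obtain ⟨M, hM, hle⟩ := sp_class8_of_fixes_quad m (by omega) H N hH hNH hHN hspan Q hQ hfix
    exact ⟨M, Or.inl hM, hle⟩
  have h4 : ¬ ∃ (σ : F ≃+* F) (f : (Fin m ⊕ Fin m → F) → (Fin m ⊕ Fin m → F) → F),
      IsUnitaryForm σ f ∧ FixesForm (matrixSet N) f := by
    rintro ⟨σ, g, hg, hfix⟩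
    apply h1
    have hf := isSymplecticForm_sympForm (F := F) m
    refine ⟨fixSub σ, fixSub_ne_top σ hg.ne_refl, ?_⟩
    exact realisable_of_unitary N hspan (sympForm m F) hf.bilinear hf.nondegenerate
      (isom_of_le_spGL (hNH.trans hH)) σ g hg hfix
  right
  refine ⟨N, residual_core H N hNH hHN hspan hperf hmin ?_, h2, h4⟩
  intro F₀ hF₀ hreal
  exact h1 ⟨F₀, hF₀, hreal⟩

end Cfsg.Agent.Lib.Helper8.Asch
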