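import Cfsg.Agent.Lib.Helper8.SpK6

set_option autoImplicit false

/-! The symplectic case with several conjugate quasisimple factors: class 7 or class 8. -/

namespace Cfsg.Agent.Lib.Helper8.Asch

open Module Matrix
open scoped commutatorElement
open Cfsg.Geo

variable {F : Type*} [Field F] [Fintype F]

theorem sp_caseB_wreath (m : ℕ) (hm : 2 ≤ m) (H N : Subgroup (GL (Fin m ⊕ Fin m) F))
    (hH : H ≤ spGL m F) (hNH : N ≤ H)
    (hspan : Submodule.span F (mset N) = ⊤)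
    (k : ℕ) (P : Fin k → Subgroup (GL (Fin m ⊕ Fin m) F)) (hk : 2 ≤ k)
    (hPinj : Function.Injective P) (hPN : ∀ i, P i ≤ N)
    (hcomm : ∀ i j, i ≠ j → ∀ x ∈ P i, ∀ y ∈ P j, x * y = y * x)
    (hgen : Subgroup.closure (⋃ i, (P i : Set (GL (Fin m ⊕ Fin m) F))) = N)
    (hperm : ∀ h ∈ H, ∃ σ : Equiv.Perm (Fin k), ∀ i, cj h (P i) = P (σ i))
    (htrans : ∀ i j, ∃ h ∈ H, cj h (P i) = P j)
    (hperfP : ∀ i, ⁅P i, P i⁆ = P i) (hPZ : ∀ i, ¬ P i ≤ Zs (Fin m ⊕ Fin m) F) :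
    ∃ M : Subgroup (GL (Fin m ⊕ Fin m) F), ISC m F M ∧ H ≤ M := by
  haveI : Nonempty (Fin m ⊕ Fin m) := ⟨Sum.inl ⟨0, by omega⟩⟩
  have hf := isSymplecticForm_sympForm (F := F) m
  obtain ⟨mm, b, Gs, hmm, hG, hwr, hpos⟩ := wreath_data hf.bilinear hf.nondegenerate H N
    (isom_of_le_spGL hH) hNH hspan k P hk hPN hcomm hgen htrans
  haveI : Nonempty (Fin mm) := ⟨⟨0, hmm⟩⟩
  set i₀ : Fin k := ⟨0, by omega⟩ with hi₀
  have htr : ∀ i, ∃ x : Module.End F (Fin m ⊕ Fin m → F),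
      (∀ u v, toBilin hf.bilinear (x u) (x v) = toBilin hf.bilinear u v) ∧
      ∃ σ : Equiv.Perm (Fin k), σ i₀ = i ∧ IsWr b x σ := by
    intro i
    obtain ⟨h, hh, hhi⟩ := htrans i₀ i
    obtain ⟨σ, hσ⟩ := hperm h hh
    refine ⟨Matrix.toLin' (h : Matrix (Fin m ⊕ Fin m) (Fin m ⊕ Fin m) F), ?_, σ, ?_,
      hwr h hh σ hσ⟩
    · intro u v
      rw [Matrix.toLin'_apply, Matrix.toLin'_apply, toBilin_apply, toBilin_apply]
      exact hH hh u v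
    · apply hPinj
      rw [← hσ i₀, hhi]
  obtain ⟨b', Λ, hΛ, hG', hwr'⟩ := wreath_normalize (toBilin hf.bilinear) b i₀ Gs hG htr
  have hHk : ∀ h ∈ H, ∃ (σ : Equiv.Perm (Fin k)) (Us : Fin k → GL (Fin mm) F),
      LinearMap.toMatrix b' b' (Matrix.toLin' (h : Matrix (Fin m ⊕ Fin m) (Fin m ⊕ Fin m) F)) =
        facPerm mm F σ * ptM (fun i => ((Us i : GL (Fin mm) F) : Matrix (Fin mm) (Fin mm) F)) := by
    intro h hh
    obtain ⟨σ, hσ⟩ := hperm h hh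
    obtain ⟨Us, hUs⟩ := hwr' _ σ (hwr h hh σ hσ)
    exact ⟨σ, Us, hUs⟩
  by_cases hodd : Odd (Fintype.card F)
  · have hne : P i₀ ≠ ⊥ := by
      intro h
      apply hPZ i₀
      rw [h]
      exact bot_le
    have h32 : ¬ (Fintype.card F = 3 ∧ mm = 2) :=
      not_three_two (P i₀) (hperfP i₀) hne hmm b i₀ (hpos i₀)
    exact sp_class7 m H hH hodd hk b' (Gs i₀) Λ hΛ hG' h32 hHk
  · obtain ⟨M, hM, hle⟩ := sp_class8_wreath m H hH hodd hk b' (Gs i₀) Λ hΛ hG' hHk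
    exact ⟨M, Or.inl hM, hle⟩

end Cfsg.Agent.Lib.Helper8.Asch
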