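import Mathlib

set_option autoImplicit false

/-! A field inside a finite algebra over a finite field has, for every divisor `r` of its degree,
a subfield of degree `r`, invariant under every automorphism preserving the field. -/

namespace Cfsg.Agent.Lib.Helper8.Asch

open Module

variable {F : Type*} [Field F] {R : Type*} [Ring R] [Algebra F R]

/-- a subalgebra which is a field -/
structure IsFld (E : Subalgebra F R) : Prop where
  comm : ∀ x ∈ E, ∀ y ∈ E, x * y = y * x
  inv : ∀ x ∈ E, x ≠ 0 → ∃ y ∈ E, x * y = 1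

theorem IsFld.isField [Nontrivial R] {E : Subalgebra F R} (h : IsFld E) : IsField E where
  exists_pair_ne := ⟨0, 1, by
    intro h01
    have := congrArg Subtype.val h01
    simp at this⟩
  mul_comm := by
    intro x y
    ext
    exact h.comm x.1 x.2 y.1 y.2
  mul_inv_cancel := by
    intro a ha
    obtain ⟨y, hy, hxy⟩ := h.inv a.1 a.2 (by
      intro h0
      apply ha
      ext
      exact h0)
    exact ⟨⟨y, hy⟩, by ext; exact hxy⟩

/-- the field structure -/
noncomputable def IsFld.field [Nontrivial R] {E : Subalgebra F R} (h : IsFld E) : Field E :=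
  IsField.toField h.isField

/-- in a finite field with `M` elements, if `x ^ (N+1) = x` for all `x` then `M - 1 ∣ N` -/
theorem card_sub_one_dvd_of_pow_eq (K : Type*) [Field K] [Finite K] (N : ℕ)
    (h : ∀ x : K, x ^ (N + 1) = x) : Nat.card K - 1 ∣ N := by
  obtain ⟨g, hg⟩ := IsCyclic.exists_ofOrder_eq_natCard (α := Kˣ)
  have h1 : (g : K) ^ (N + 1) = g := h g
  have h2 : g ^ N = 1 := by
    ext
    have : (g : K) ^ N * g = 1 * g := by rw [← pow_succ, h1, one_mul]
    have := mul_right_cancel₀ g.ne_zero this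
    simpa using this
  have h3 : orderOf g ∣ N := orderOf_dvd_of_pow_eq_one h2
  rw [hg] at h3
  have h4 : Nat.card Kˣ = Nat.card K - 1 := Nat.card_units K
  rwa [h4] at h3

theorem orderOf_dvd_card_sub_one (K : Type*) [Field K] [Finite K] (y : K) (hy : y ≠ 0) :
    orderOf y ∣ Nat.card K - 1 := by
  have h1 : orderOf (Units.mk0 y hy) ∣ Nat.card Kˣ := orderOf_dvd_natCard _
  have h4 : Nat.card Kˣ = Nat.card K - 1 := Nat.card_units K
  rw [h4, ← orderOf_units] at h1
  exact h1

theorem exists_orderOf_eq (K : Type*) [Field K] [Finite K] (m : ℕ) (hm : m ∣ Nat.card K - 1)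
    (hm0 : 0 < m) (hK : 1 < Nat.card K - 1 ∨ True) : ∃ y : K, y ≠ 0 ∧ orderOf y = m := by
  obtain ⟨g, hg⟩ := IsCyclic.exists_ofOrder_eq_natCard (α := Kˣ)
  have h4 : Nat.card Kˣ = Nat.card K - 1 := Nat.card_units K
  rw [h4] at hg
  obtain ⟨c, hc⟩ := hm
  have hcpos : c ≠ 0 := by
    rintro rfl
    rw [mul_zero] at hc
    have h1 : 1 < Nat.card K := Finite.one_lt_card
    omega
  refine ⟨((g ^ c : Kˣ) : K), (g ^ c).ne_zero, ?_⟩
  rw [orderOf_units, orderOf_pow_of_dvd hcpos (by rw [hg, hc]; exact Dvd.intro_left m rfl), hg, hc]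
  exact Nat.mul_div_cancel _ (Nat.pos_of_ne_zero hcpos)


/-- the elements of the field `E` fixed by `x ↦ x ^ N`, `N` a power of the characteristic -/
def frobFix (E : Subalgebra F R) (hE : IsFld E) (p : ℕ) [Fact p.Prime] [CharP R p] (k : ℕ)
    (hF : ∀ c : F, c ^ p ^ k = c) : Subalgebra F R where
  carrier := {x | x ∈ E ∧ x ^ p ^ k = x}
  mul_mem' := by
    rintro x y ⟨hx, hx'⟩ ⟨hy, hy'⟩
    refine ⟨E.mul_mem hx hy, ?_⟩
    have hc : Commute x y := hE.comm x hx y hy
    rw [hc.mul_pow, hx', hy']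
  add_mem' := by
    rintro x y ⟨hx, hx'⟩ ⟨hy, hy'⟩
    refine ⟨E.add_mem hx hy, ?_⟩
    have hc : Commute x y := hE.comm x hx y hy
    rw [add_pow_char_pow_of_commute p k hc, hx', hy']
  algebraMap_mem' := by
    intro c
    refine ⟨E.algebraMap_mem c, ?_⟩
    rw [← map_pow, hF]

theorem mem_frobFix {E : Subalgebra F R} {hE : IsFld E} {p : ℕ} [Fact p.Prime] [CharP R p] {k : ℕ}
    {hF : ∀ c : F, c ^ p ^ k = c} {x : R} :
    x ∈ frobFix E hE p k hF ↔ x ∈ E ∧ x ^ p ^ k = x := Iff.rfl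

theorem isFld_frobFix (E : Subalgebra F R) (hE : IsFld E) (p : ℕ) [Fact p.Prime] [CharP R p] (k : ℕ)
    (hF : ∀ c : F, c ^ p ^ k = c) : IsFld (frobFix E hE p k hF) where
  comm := fun x hx y hy => hE.comm x hx.1 y hy.1
  inv := by
    intro x hx hx0
    obtain ⟨y, hy, hxy⟩ := hE.inv x hx.1 hx0
    refine ⟨y, ⟨hy, ?_⟩, hxy⟩
    have hc : Commute x y := hE.comm x hx.1 y hy
    have h1 : x * y ^ p ^ k = 1 := by
      have : (x * y) ^ p ^ k = 1 := by rw [hxy, one_pow]
      rw [hc.mul_pow, hx.2] at this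
      exact this
    have hyx : y * x = 1 := by rw [← hc.eq]; exact hxy
    calc y ^ p ^ k = (y * x) * y ^ p ^ k := by rw [hyx, one_mul]
      _ = y * (x * y ^ p ^ k) := by rw [mul_assoc]
      _ = y := by rw [h1, mul_one]

theorem exists_subfield_of_dvd [Finite F] [Nontrivial R] [Module.Finite F R] (E : Subalgebra F R)
    (hE : IsFld E) (r : ℕ) (hr : 0 < r) (hd : r ∣ finrank F E) :
    ∃ K : Subalgebra F R, K ≤ E ∧ IsFld K ∧ finrank F K = r ∧
      ∃ N : ℕ, ∀ x, x ∈ K ↔ x ∈ E ∧ x ^ N = x := by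
  have : Fintype F := Fintype.ofFinite F
  set p := ringChar F with hp
  have hcp : CharP F p := ringChar.charP F
  obtain ⟨f, hpp, hq⟩ := FiniteField.card F p
  have : Fact p.Prime := ⟨hpp⟩
  have hcR : CharP R p := charP_of_injective_algebraMap (algebraMap F R).injective p
  set q := Fintype.card F with hqdef
  have hq2 : 2 ≤ q := Fintype.one_lt_card
  have hqr : q ^ r = p ^ ((f : ℕ) * r) := by rw [hq, pow_mul]
  have hF : ∀ c : F, c ^ p ^ ((f : ℕ) * r) = c := by
    intro c
    rw [← hqr]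
    exact FiniteField.pow_card_pow r c
  set K := frobFix E hE p ((f : ℕ) * r) hF with hK
  have hKE : K ≤ E := fun x hx => hx.1
  have hKf : IsFld K := isFld_frobFix E hE p _ hF
  refine ⟨K, hKE, hKf, ?_, p ^ ((f : ℕ) * r), fun x => Iff.rfl⟩
  have hfinR : Finite R := Module.finite_of_finite F
  letI fE : Field E := hE.field
  letI fK : Field K := hKf.field
  have hcardF : Nat.card F = q := Nat.card_eq_fintype_card
  have hcardE : Nat.card E = q ^ finrank F E := by
    rw [Module.natCard_eq_pow_finrank (K := F) (V := E), hcardF]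
  have hcardK : Nat.card K = q ^ finrank F K := by
    rw [Module.natCard_eq_pow_finrank (K := F) (V := K), hcardF]
  -- upper bound
  have hqr1 : 1 ≤ q ^ r := Nat.one_le_two_pow.trans (Nat.pow_le_pow_left hq2 r)
  have hup : Nat.card K - 1 ∣ q ^ r - 1 := by
    apply card_sub_one_dvd_of_pow_eq K
    intro x
    have h1 : (x : R) ^ p ^ ((f : ℕ) * r) = x := x.2.2
    have h2 : q ^ r - 1 + 1 = p ^ ((f : ℕ) * r) := by rw [← hqr]; omega
    rw [h2]
    ext
    exact h1
  -- lower bound
  have hdvd : q ^ r - 1 ∣ Nat.card E - 1 := by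
    rw [hcardE]
    obtain ⟨c, hc⟩ := hd
    rw [hc, pow_mul]
    have := Nat.sub_dvd_pow_sub_pow (q ^ r) 1 c
    rwa [one_pow] at this
  have hm0 : 0 < q ^ r - 1 := by
    have : 2 ^ 1 ≤ q ^ r := (Nat.pow_le_pow_left hq2 1).trans (Nat.pow_le_pow_right (by omega) hr)
    omega
  obtain ⟨y, hy0, hy⟩ := exists_orderOf_eq E (q ^ r - 1) hdvd hm0 (Or.inr trivial)
  have hyR : orderOf (y : R) = q ^ r - 1 := by
    rw [← hy]
    exact orderOf_injective (E.val : E →* R) Subtype.val_injective y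
  have hyK : (y : R) ∈ K := by
    refine ⟨y.2, ?_⟩
    have h1 : (y : R) ^ (q ^ r - 1) = 1 := by rw [← hyR]; exact pow_orderOf_eq_one _
    have h2 : q ^ r - 1 + 1 = p ^ ((f : ℕ) * r) := by rw [← hqr]; omega
    rw [← h2, pow_succ, h1, one_mul]
  have hyK0 : (⟨(y : R), hyK⟩ : K) ≠ 0 := by
    intro h0
    apply hy0
    have h1 : (y : R) = 0 := congrArg (Subtype.val : K → R) h0
    exact Subtype.ext h1
  have hlow : q ^ r - 1 ∣ Nat.card K - 1 := by
    have h1 := orderOf_dvd_card_sub_one K (⟨(y : R), hyK⟩ : K) hyK0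
    have h2 : orderOf (⟨(y : R), hyK⟩ : K) = orderOf (y : R) :=
      (orderOf_injective (K.val : K →* R) Subtype.val_injective _).symm
    rw [← hyR, ← h2]
    exact h1
  have heq : Nat.card K - 1 = q ^ r - 1 := Nat.dvd_antisymm hup hlow
  have hK1 : 1 ≤ Nat.card K := Nat.card_pos
  have heq2 : q ^ finrank F K = q ^ r := by rw [← hcardK]; omega
  exact Nat.pow_right_injective hq2 heq2

end Cfsg.Agent.Lib.Helper8.Asch
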