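import Cfsg.Agent.Lib.Helper8.AschM2

set_option autoImplicit false

/-! Forms given as functions, as Mathlib bilinear forms; the standard symplectic form. -/

namespace Cfsg.Agent.Lib.Helper8.Asch

open Module Matrix
open Cfsg.Geo

variable {ι : Type} [Fintype ι] [DecidableEq ι] {F : Type*} [Field F]

/-- a bilinear function-form as a Mathlib bilinear form -/
def toBilin {f : (ι → F) → (ι → F) → F} (hf : IsBilinearForm f) : LinearMap.BilinForm F (ι → F) :=
  LinearMap.mk₂ F f hf.add_left (fun c x v => by rw [hf.smul_left, smul_eq_mul])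
    hf.add_right (fun c v x => by rw [hf.smul_right, smul_eq_mul])

@[simp] theorem toBilin_apply {f : (ι → F) → (ι → F) → F} (hf : IsBilinearForm f) (u v : ι → F) :
    toBilin hf u v = f u v := rfl

theorem toBilin_nondegenerate {f : (ι → F) → (ι → F) → F} (hf : IsBilinearForm f)
    (hnd : IsNondegenerateForm f) : (toBilin hf).Nondegenerate := by
  constructor
  · intro x hx
    by_contra hx0
    obtain ⟨y, hy⟩ := (hnd x hx0).2
    exact hy (hx y)
  · intro y hy
    by_contra hy0
    obtain ⟨x, hx⟩ := (hnd y hy0).1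
    exact hx (hy x)

theorem toBilin_isAlt {f : (ι → F) → (ι → F) → F} (hf : IsSymplecticForm f) :
    (toBilin hf.bilinear).IsAlt := fun v => hf.alternating v

theorem toBilin_isRefl {f : (ι → F) → (ι → F) → F} (hf : IsSymplecticForm f) :
    (toBilin hf.bilinear).IsRefl := (toBilin_isAlt hf).isRefl

/-- the standard symplectic form, explicitly -/
theorem sympForm_eq (m : ℕ) (u v : Fin m ⊕ Fin m → F) :
    sympForm m F u v = ∑ i, (u (Sum.inr i) * v (Sum.inl i) - u (Sum.inl i) * v (Sum.inr i)) := by
  unfold sympForm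
  rw [dotProduct, Fintype.sum_sum_type]
  simp only [Matrix.J, Matrix.mulVec, dotProduct, Fintype.sum_sum_type, Matrix.fromBlocks_apply₁₁,
    Matrix.fromBlocks_apply₁₂, Matrix.fromBlocks_apply₂₁, Matrix.fromBlocks_apply₂₂,
    Matrix.zero_apply, zero_mul, Finset.sum_const_zero, zero_add, add_zero, Matrix.neg_apply,
    Matrix.one_apply, neg_mul, ite_mul, one_mul, Finset.sum_neg_distrib, Finset.sum_ite_eq,
    Finset.mem_univ, if_true, mul_neg]
  rw [Finset.sum_sub_distrib]
  ring

theorem isSymplecticForm_sympForm (m : ℕ) : IsSymplecticForm (sympForm m F) := by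
  refine ⟨⟨?_, ?_, ?_, ?_⟩, ?_, ?_, ?_⟩
  · intro x y v
    simp only [sympForm_eq, Pi.add_apply, ← Finset.sum_add_distrib]
    refine Finset.sum_congr rfl fun i _ => ?_
    ring
  · intro c x v
    simp only [sympForm_eq, Pi.smul_apply, smul_eq_mul, Finset.mul_sum]
    refine Finset.sum_congr rfl fun i _ => ?_
    ring
  · intro v x y
    simp only [sympForm_eq, Pi.add_apply, ← Finset.sum_add_distrib]
    refine Finset.sum_congr rfl fun i _ => ?_
    ring
  · intro c v x
    simp only [sympForm_eq, Pi.smul_apply, smul_eq_mul, Finset.mul_sum]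
    refine Finset.sum_congr rfl fun i _ => ?_
    ring
  · intro v w
    simp only [sympForm_eq, ← Finset.sum_neg_distrib]
    refine Finset.sum_congr rfl fun i _ => ?_
    ring
  · intro v
    simp only [sympForm_eq]
    refine Finset.sum_eq_zero fun i _ => ?_
    ring
  · intro v hv
    have hex : ∃ j, v j ≠ 0 := by
      by_contra hcon
      push Not at hcon
      exact hv (funext hcon)
    obtain ⟨j, hj⟩ := hex
    rcases j with i | i
    · -- v (inl i) ≠ 0 : pair with e_(inr i)
      have h1 : sympForm m F (Pi.single (Sum.inr i) 1) v = v (Sum.inl i) := by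
        rw [sympForm_eq]
        simp only [Pi.single_apply, Sum.inr.injEq, reduceCtorEq, if_false, zero_mul, sub_zero,
          ite_mul, one_mul]
        rw [Finset.sum_ite_eq']
        simp
      have h2 : sympForm m F v (Pi.single (Sum.inr i) 1) = - v (Sum.inl i) := by
        rw [(isSymplecticForm_aux m v _), h1]
      exact ⟨⟨_, by rw [h1]; exact hj⟩, ⟨_, by rw [h2]; exact neg_ne_zero.mpr hj⟩⟩
    · have h1 : sympForm m F (Pi.single (Sum.inl i) 1) v = - v (Sum.inr i) := by
        rw [sympForm_eq]
        simp only [Pi.single_apply, Sum.inl.injEq, reduceCtorEq, if_false, zero_mul, zero_sub,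
          ite_mul, one_mul]
        rw [Finset.sum_neg_distrib, Finset.sum_ite_eq']
        simp
      have h2 : sympForm m F v (Pi.single (Sum.inl i) 1) = v (Sum.inr i) := by
        rw [(isSymplecticForm_aux m v _), h1, neg_neg]
      exact ⟨⟨_, by rw [h1]; exact neg_ne_zero.mpr hj⟩, ⟨_, by rw [h2]; exact hj⟩⟩
where
  isSymplecticForm_aux (m : ℕ) (v w : Fin m ⊕ Fin m → F) :
      sympForm m F v w = - sympForm m F w v := by
    simp only [sympForm_eq, ← Finset.sum_neg_distrib]
    refine Finset.sum_congr rfl fun i _ => ?_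
    ring

theorem mem_spGL_iff (m : ℕ) (g : GL (Fin m ⊕ Fin m) F) :
    g ∈ spGL m F ↔ ∀ u v, sympForm m F ((g : Matrix _ _ F) *ᵥ u) ((g : Matrix _ _ F) *ᵥ v) =
      sympForm m F u v := Iff.rfl

end Cfsg.Agent.Lib.Helper8.Asch
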