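import Mathlib
import Cfsg.Agent.Lib.Helper7.Small2

/-! There is no simple group of order `3780 = 2^2 * 3^3 * 5 * 7`. -/

set_option autoImplicit false
set_option maxRecDepth 100000

namespace Cfsg.Agent.Lib.Helper8.Ord3780

open Cfsg.Agent.Lib.Lead Cfsg.Agent.Lib.Lead.SmallSimple Cfsg.Agent.Lib.Lead.SmallSimple2
  Cfsg.Agent.Lib.Lead.SylowCount
  Cfsg.Agent.Lib.Helper7.CountTools Cfsg.Agent.Lib.Helper7.SylPar Cfsg.Agent.Lib.Helper7.Small

variable {G : Type*} [Group G] [Finite G]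

/-- An element of prime order `r` in the centralizer of a Sylow `p`-subgroup. -/
lemma exists_central_elt {p : ℕ} [Fact p.Prime] (P : Sylow p G) (r : ℕ) [Fact r.Prime]
    (h : r ∣ Nat.card (Subgroup.centralizer ((P : Subgroup G) : Set G))) :
    ∃ c : G, c ≠ 1 ∧ c ^ r ^ 1 = 1 ∧ ∀ x ∈ (P : Subgroup G), x * c = c * x := by
  obtain ⟨c, hc⟩ := exists_prime_orderOf_dvd_card' r h
  refine ⟨(c : G), ?_, ?_, ?_⟩
  · intro h1
    have hc1 : c = 1 := Subtype.ext h1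
    rw [hc1, orderOf_one] at hc
    exact (Fact.out : r.Prime).one_lt.ne hc
  · have h1 : c ^ r = 1 := by rw [← hc]; exact pow_orderOf_eq_one c
    rw [pow_one]
    have := congrArg Subtype.val h1
    simpa using this
  · intro x hx
    exact Subgroup.mem_centralizer_iff.mp c.2 x hx

variable [IsSimpleGroup G]

theorem not_simple (h : Nat.card G = 3780) : False := by
  have hG : ¬ IsMulCommutative G := not_comm_of_not_prime (by rw [h]; norm_num)
  haveI : Fact (Nat.Prime 7) := ⟨by norm_num⟩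
  haveI : Fact (Nat.Prime 5) := ⟨by norm_num⟩
  haveI : Fact (Nat.Prime 3) := ⟨by norm_num⟩
  obtain ⟨d, hd, k, hk, hdp, hd1, hfac, hkp, hk1, hnd, hP, hC, hN, -⟩ :=
    data_p1 hG (p := 7) (by norm_num) h (by norm_num) (by norm_num)
  have key : ∀ d ∈ Nat.divisors 3780, ∀ k ∈ Nat.divisors (3780 / (d * 7)), d % 7 = 1 → d ≠ 1 →
      k ∣ 7 - 1 → k ≠ 1 → (d = 15 ∧ 3 ∣ 3780 / (d * 7) / k) ∨ (d = 36 ∧ k = 3) := by
    decide +kernel
  obtain ⟨P⟩ : Nonempty (Sylow 7 G) := inferInstance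
  have hn1 : Nat.card (Sylow 7 G) ≠ 1 := by rw [hnd]; exact hd1
  rcases key d hd k hk hdp hd1 hkp hk1 with ⟨rfl, h3⟩ | ⟨rfl, rfl⟩
  · -- fifteen Sylow 7-subgroups: an element of order 3 centralizing `P` fixes all of them
    have h3C : 3 ∣ Nat.card (Subgroup.centralizer ((P : Subgroup G) : Set G)) := by
      rw [hC P]; exact Dvd.dvd.mul_left h3 _
    obtain ⟨c, hc1, hc3, hcP⟩ := exists_central_elt P 3 h3C
    have h7 := fix_modEq_one P hcP
    have h3' := fix_modEq_prime (α := Sylow 7 G) 3 c 1 hc3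
    have hlt := fix_lt 7 hn1 hc1
    rw [hnd] at h3' hlt
    unfold Nat.ModEq at h7 h3'
    omega
  · -- thirty-six Sylow 7-subgroups: `|C(P)| = 35`, look at the Sylow 5-subgroups
    have h5C : 5 ∣ Nat.card (Subgroup.centralizer ((P : Subgroup G) : Set G)) := by
      rw [hC P]; norm_num
    obtain ⟨d5, hd5, k5, hk5, hdp5, hd15, hfac5, hkp5, hk15, hnd5, hP5, hC5, hN5, -⟩ :=
      data_p1 hG (p := 5) (by norm_num) h (by norm_num) (by norm_num)
    obtain ⟨Q, hQ⟩ := dvd_card_centralizer_swap (p := 7) (q := 5) hP5 hP P h5C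
    rw [hC5 Q] at hQ
    have key5 : ∀ d ∈ Nat.divisors 3780, ∀ k ∈ Nat.divisors (3780 / (d * 5)), d % 5 = 1 → d ≠ 1 →
        2 * 3780 ∣ d.factorial → k ∣ 5 - 1 → k ≠ 1 → ¬ 7 ∣ 5 * (3780 / (d * 5) / k) := by
      decide +kernel
    exact key5 d5 hd5 k5 hk5 hdp5 hd15 hfac5 hkp5 hk15 hQ

end Cfsg.Agent.Lib.Helper8.Ord3780
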