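import Mathlib
import Cfsg.Agent.Lib.Helper2.SLkDefs

set_option autoImplicit false
set_option linter.unusedVariables false
set_option linter.unusedSectionVars false
set_option linter.style.longLine false
set_option linter.style.haveILetI false

namespace Cfsg.Agent.Lib.Helper2.GLk

open Polynomial

universe u v

variable {F : Type u} [Field F]

theorem gsz_dvd {n : ℕ} (hn : 1 ≤ n) (f : Fin n → F[X]) (hf : f ∈ T F n n) : gsz f ∣ n := by
  classical
  obtain ⟨h1, h2⟩ := hf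
  have h3 : gsz f ∣ ∑ j : Fin n, (j.val + 1) * (f j).natDegree := by
    apply Finset.dvd_sum
    intro j _
    by_cases hj : f j = 1
    · simp [hj]
    · exact Dvd.dvd.mul_right ((dvd_gsz_iff f (gsz f)).mp dvd_rfl j hj) _
  exact h3.trans (dvd_of_eq h2)

private lemma h8_Gam_eq [Fintype F] {n : ℕ} (hn : 1 ≤ n) (f : Fin n → F[X]) (hf : f ∈ T F n n) :
    Gam (Fintype.card F) f =
      ∑ t ∈ (Nat.gcd n (Fintype.card F - 1)).divisors, if t ∣ gsz f then Nat.totient t else 0 := by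
  classical
  have hq : 2 ≤ Fintype.card F := Fintype.one_lt_card
  have hg : gsz f ∣ n := gsz_dvd hn f hf
  unfold Gam
  set g := gsz f with hgdef
  set q1 := Fintype.card F - 1 with hq1
  have hq1pos : q1 ≠ 0 := by omega
  rw [← Finset.sum_filter]
  have hd : (Nat.gcd g q1) ≠ 0 := fun h => hq1pos (Nat.eq_zero_of_gcd_eq_zero_right h)
  have hm : (Nat.gcd n q1) ≠ 0 := fun h => hq1pos (Nat.eq_zero_of_gcd_eq_zero_right h)
  have : (Nat.gcd n q1).divisors.filter (fun t => t ∣ g) = (Nat.gcd g q1).divisors := by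
    ext t
    simp only [Finset.mem_filter, Nat.mem_divisors, Nat.dvd_gcd_iff]
    constructor
    · rintro ⟨⟨⟨h1, h2⟩, _⟩, h3⟩
      exact ⟨⟨h3, h2⟩, hd⟩
    · rintro ⟨⟨h1, h2⟩, _⟩
      exact ⟨⟨⟨h1.trans hg, h2⟩, hm⟩, h1⟩
  rw [this, Nat.sum_totient]

open Classical in
/-- C5 -/
theorem sum_Gam_sq [Fintype F] {n : ℕ} (hn : 1 ≤ n) :
    ∑ f ∈ TF F n, (Gam (Fintype.card F) f) ^ 2 =
      ∑ t ∈ (Nat.gcd n (Fintype.card F - 1)).divisors, ∑ t' ∈ (Nat.gcd n (Fintype.card F - 1)).divisors,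
        Nat.totient t * Nat.totient t' * ((TF F n).filter (fun f => Nat.lcm t t' ∣ gsz f)).card := by
  set D := (Nat.gcd n (Fintype.card F - 1)).divisors with hD
  have h1 : ∀ f ∈ TF F n, (Gam (Fintype.card F) f) ^ 2 =
      ∑ t ∈ D, ∑ t' ∈ D, Nat.totient t * Nat.totient t' * (if Nat.lcm t t' ∣ gsz f then 1 else 0) := by
    intro f hf
    rw [h8_Gam_eq hn f ((mem_TF f).mp hf), sq, Finset.sum_mul_sum]
    refine Finset.sum_congr rfl fun t _ => Finset.sum_congr rfl fun t' _ => ?_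
    by_cases ht : t ∣ gsz f <;> by_cases ht' : t' ∣ gsz f <;> simp [ht, ht', Nat.lcm_dvd_iff]
  rw [Finset.sum_congr rfl h1, Finset.sum_comm]
  refine Finset.sum_congr rfl fun t _ => ?_
  rw [Finset.sum_comm]
  refine Finset.sum_congr rfl fun t' _ => ?_
  rw [← Finset.mul_sum, Finset.sum_boole]
  simp

end Cfsg.Agent.Lib.Helper2.GLk
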