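import Mathlib
import Cfsg.Agent.Lib.Helper2.SLkDefs

set_option autoImplicit false
set_option linter.unusedVariables false
set_option linter.unusedSectionVars false
set_option linter.style.longLine false
set_option linter.style.haveILetI false

namespace Cfsg.Agent.Lib.Helper2.GLk

open Polynomial

universe u v

variable {F : Type u} [Field F]

open Classical in
/-- C6 -/
theorem card_filter_dvd_le [Fintype F] {n r : ℕ} (hr : 1 ≤ r) (hrn : r ∣ n) :
    ((TF F n).filter (fun f => r ∣ gsz f)).card ≤ K (Fintype.card F) (n / r) (n / r) := by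
  obtain ⟨s, rfl⟩ := hrn
  have hrs : r * s / r = s := Nat.mul_div_cancel_left s hr
  rw [hrs]
  have hφlt : ∀ j' : Fin s, r * (j'.val + 1) - 1 < r * s := by
    intro j'
    have h1 : r * (j'.val + 1) ≤ r * s := Nat.mul_le_mul_left r j'.isLt
    have h2 : 0 < r * (j'.val + 1) := by positivity
    omega
  let φ : Fin s → Fin (r * s) := fun j' => ⟨r * (j'.val + 1) - 1, hφlt j'⟩
  have hφval : ∀ j', (φ j').val + 1 = r * (j'.val + 1) := by
    intro j'
    have ha : 0 < r * (j'.val + 1) := by positivity
    simp only [φ]; omega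
  have hφinj : Function.Injective φ := by
    intro a b hab
    have h1 := hφval a
    have h2 := hφval b
    rw [hab] at h1
    have h3 : r * (a.val + 1) = r * (b.val + 1) := by omega
    have := Nat.eq_of_mul_eq_mul_left hr h3
    exact Fin.ext (by omega)
  have houtside : ∀ f : Fin (r * s) → F[X], r ∣ gsz f → ∀ j, j ∉ Set.range φ → f j = 1 := by
    intro f hf j hj
    by_contra hne
    obtain ⟨c, hc⟩ := (dvd_gsz_iff f r).mp hf j hne
    have hcpos : 0 < c := by
      rcases Nat.eq_zero_or_pos c with h | h
      · subst h; simp at hc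
      · exact h
    have hcle : c ≤ s := by
      have : r * c ≤ r * s := by have := j.isLt; omega
      exact Nat.le_of_mul_le_mul_left this hr
    apply hj
    refine ⟨⟨c - 1, by omega⟩, ?_⟩
    apply Fin.ext
    have h1 := hφval ⟨c - 1, by omega⟩
    have h2 : c - 1 + 1 = c := by omega
    simp only [h2] at h1
    omega
  have hcard : (TF F s).card = K (Fintype.card F) s s := by
    rw [← card_T (F := F) s s]
    unfold TF
    exact (Nat.card_eq_card_finite_toFinset _).symm
  rw [← hcard]
  apply Finset.card_le_card_of_injOn (fun f => f ∘ φ)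
  · -- maps to
    intro f hf
    rw [Finset.coe_filter] at hf
    obtain ⟨hfT, hfr⟩ := hf
    rw [mem_TF] at hfT
    obtain ⟨h1, h2⟩ := hfT
    rw [Finset.mem_coe, mem_TF]
    refine ⟨fun j' => h1 (φ j'), ?_⟩
    have hsum : ∑ j : Fin (r * s), (j.val + 1) * (f j).natDegree
        = ∑ j' : Fin s, ((φ j').val + 1) * (f (φ j')).natDegree := by
      rw [← Finset.sum_image (s := Finset.univ) (g := φ)
        (f := fun j => (j.val + 1) * (f j).natDegree) (fun a _ b _ h => hφinj h)]
      symm
      apply Finset.sum_subset (Finset.subset_univ _)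
      intro j _ hj
      have : j ∉ Set.range φ := by
        intro ⟨j', hj'⟩
        exact hj (Finset.mem_image.mpr ⟨j', Finset.mem_univ _, hj'⟩)
      rw [houtside f hfr j this]
      simp
    rw [hsum] at h2
    have h3 : r * ∑ j' : Fin s, (j'.val + 1) * ((f ∘ φ) j').natDegree = r * s := by
      refine Eq.trans ?_ h2
      rw [Finset.mul_sum]
      refine Finset.sum_congr rfl fun j' _ => ?_
      rw [hφval j']
      simp [mul_assoc]
    exact Nat.eq_of_mul_eq_mul_left hr h3
  · -- injective
    intro f hf g hg hfg
    rw [Finset.coe_filter] at hf hg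
    funext j
    by_cases hj : j ∈ Set.range φ
    · obtain ⟨j', rfl⟩ := hj
      exact congrFun hfg j'
    · rw [houtside f hf.2 j hj, houtside g hg.2 j hj]

end Cfsg.Agent.Lib.Helper2.GLk
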