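import Mathlib

set_option autoImplicit false
set_option linter.unusedVariables false
set_option linter.style.longLine false
set_option linter.unusedSimpArgs false

namespace Cfsg.Agent.Lib.Helper2.GLk

private lemma h8_key_bound (m : ℕ) (κ : ℕ → ℕ) (B K1 : ℕ) (hm : 0 < m)
    (hκ1 : κ 1 ≤ K1)
    (hB : ∀ t ∈ m.divisors, ∀ t' ∈ m.divisors, ¬ (t = 1 ∧ t' = 1) → κ (Nat.lcm t t') ≤ B) :
    ∑ t ∈ m.divisors, ∑ t' ∈ m.divisors, Nat.totient t * Nat.totient t' * κ (Nat.lcm t t')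
      ≤ K1 + m ^ 2 * B := by
  have h1 : ∀ t ∈ m.divisors, ∀ t' ∈ m.divisors,
      Nat.totient t * Nat.totient t' * κ (Nat.lcm t t') ≤
        Nat.totient t * Nat.totient t' * B + (if t = 1 then (if t' = 1 then K1 else 0) else 0) := by
    intro t ht t' ht'
    by_cases h : t = 1 ∧ t' = 1
    · obtain ⟨rfl, rfl⟩ := h
      simp
      omega
    · have := hB t ht t' ht' h
      have h2 : Nat.totient t * Nat.totient t' * κ (Nat.lcm t t') ≤ Nat.totient t * Nat.totient t' * B :=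
        Nat.mul_le_mul_left _ this
      omega
  calc ∑ t ∈ m.divisors, ∑ t' ∈ m.divisors, Nat.totient t * Nat.totient t' * κ (Nat.lcm t t')
      ≤ ∑ t ∈ m.divisors, ∑ t' ∈ m.divisors, (Nat.totient t * Nat.totient t' * B +
          (if t = 1 then (if t' = 1 then K1 else 0) else 0)) :=
        Finset.sum_le_sum fun t ht => Finset.sum_le_sum fun t' ht' => h1 t ht t' ht'
    _ = K1 + m ^ 2 * B := by
        simp only [Finset.sum_add_distrib]
        have e1 : ∑ t ∈ m.divisors, ∑ t' ∈ m.divisors, Nat.totient t * Nat.totient t' * B = m ^ 2 * B := by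
          have : ∀ t ∈ m.divisors, ∑ t' ∈ m.divisors, Nat.totient t * Nat.totient t' * B
              = Nat.totient t * (m * B) := by
            intro t _
            rw [← Finset.sum_mul, ← Finset.mul_sum, Nat.sum_totient, mul_assoc]
          rw [Finset.sum_congr rfl this, ← Finset.sum_mul, Nat.sum_totient]
          ring
        have e2 : ∑ t ∈ m.divisors, ∑ t' ∈ m.divisors,
            (if t = 1 then (if t' = 1 then K1 else 0) else 0) = K1 := by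
          have h1m : 1 ∈ m.divisors := Nat.one_mem_divisors.mpr hm.ne'
          simp [Finset.sum_ite_eq', h1m]
        rw [e1, e2]; ring


private lemma h8_div1 : Nat.divisors 1 = {1} := by decide
private lemma h8_div2 : Nat.divisors 2 = {1, 2} := by decide
private lemma h8_div3 : Nat.divisors 3 = {1, 3} := by decide
private lemma h8_div4 : Nat.divisors 4 = {1, 2, 4} := by decide
private lemma h8_tot3 : Nat.totient 3 = 2 := by decide
private lemma h8_tot4 : Nat.totient 4 = 2 := by decide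

/-- general case `5 ≤ n` -/
private lemma h8_numeric_ge5 (q n k : ℕ) (κ : ℕ → ℕ) (hq : 2 ≤ q) (hn : 5 ≤ n)
    (H1 : (q - 1) * k ≤ ∑ t ∈ (Nat.gcd n (q - 1)).divisors, ∑ t' ∈ (Nat.gcd n (q - 1)).divisors,
      Nat.totient t * Nat.totient t' * κ (Nat.lcm t t'))
    (H2 : ∀ r, 1 ≤ r → r ∣ n → κ r ≤ q ^ (n / r) - 1) :
    k ≤ q ^ (n - 1) + 3 * q ^ (n - 2) := by
  set m := Nat.gcd n (q - 1) with hm
  have hmpos : 0 < m := Nat.gcd_pos_of_pos_left _ (by omega)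
  have hmn : m ∣ n := Nat.gcd_dvd_left _ _
  have hmq : m ≤ q - 1 := Nat.le_of_dvd (by omega) (Nat.gcd_dvd_right _ _)
  have hqpos : 0 < q := by omega
  have hκ1 : κ 1 ≤ q ^ n - 1 := by
    have := H2 1 le_rfl (one_dvd _)
    simpa using this
  have hB : ∀ t ∈ m.divisors, ∀ t' ∈ m.divisors, ¬ (t = 1 ∧ t' = 1) → κ (Nat.lcm t t') ≤ q ^ (n - 3) := by
    intro t ht t' ht' hne
    have htm : t ∣ m := Nat.dvd_of_mem_divisors ht
    have htm' : t' ∣ m := Nat.dvd_of_mem_divisors ht'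
    have hl : Nat.lcm t t' ∣ n := (Nat.lcm_dvd htm htm').trans hmn
    have htpos : 0 < t := Nat.pos_of_dvd_of_pos htm hmpos
    have htpos' : 0 < t' := Nat.pos_of_dvd_of_pos htm' hmpos
    have hlpos : 0 < Nat.lcm t t' := Nat.lcm_pos htpos htpos'
    have hl2 : 2 ≤ Nat.lcm t t' := by
      by_contra hcon
      have h1 : Nat.lcm t t' = 1 := by omega
      have ht1 : t ∣ 1 := h1 ▸ Nat.dvd_lcm_left t t'
      have ht1' : t' ∣ 1 := h1 ▸ Nat.dvd_lcm_right t t'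
      exact hne ⟨Nat.dvd_one.mp ht1, Nat.dvd_one.mp ht1'⟩
    have h2 := H2 _ hlpos hl
    have h3 : n / Nat.lcm t t' ≤ n - 3 := by
      have : n / Nat.lcm t t' ≤ n / 2 := Nat.div_le_div_left hl2 (by norm_num)
      omega
    have h4 : q ^ (n / Nat.lcm t t') ≤ q ^ (n - 3) := Nat.pow_le_pow_right hqpos h3
    omega
  have hS := h8_key_bound m κ (q ^ (n - 3)) (q ^ n - 1) hmpos hκ1 hB
  have hmain : (q - 1) * k ≤ q ^ n - 1 + m ^ 2 * q ^ (n - 3) := le_trans H1 hS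
  obtain ⟨d, rfl⟩ : ∃ d, q = d + 1 := ⟨q - 1, by omega⟩
  obtain ⟨j, rfl⟩ : ∃ j, n = j + 3 := ⟨n - 3, by omega⟩
  simp only [Nat.add_sub_cancel] at hmain hmq ⊢
  have hd : 1 ≤ d := by omega
  have e1 : j + 3 - 1 = j + 2 := by omega
  have e2 : j + 3 - 2 = j + 1 := by omega
  rw [e1, e2]
  set a := (d + 1) ^ j with ha
  have hapos : 1 ≤ a := Nat.one_le_pow _ _ (by omega)
  have p3 : (d + 1) ^ (j + 3) = (d + 1) ^ 3 * a := by rw [ha]; ring
  have p2 : (d + 1) ^ (j + 2) = (d + 1) ^ 2 * a := by rw [ha]; ring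
  have p1 : (d + 1) ^ (j + 1) = (d + 1) * a := by rw [ha]; ring
  rw [p3] at hmain
  rw [p2, p1]
  have hm2 : m ^ 2 ≤ d ^ 2 := Nat.pow_le_pow_left hmq 2
  have hm2a : m ^ 2 * a ≤ d ^ 2 * a := Nat.mul_le_mul_right _ hm2
  have hdpos : 0 < d := hd
  apply Nat.le_of_mul_le_mul_left _ hdpos
  have hge : 1 ≤ (d + 1) ^ 3 * a := Nat.one_le_iff_ne_zero.mpr (by positivity)
  have : d * k + 1 ≤ (d + 1) ^ 3 * a + d ^ 2 * a := by omega
  nlinarith [mul_le_mul hd hapos (by norm_num) (by omega : 0 ≤ d), Nat.mul_le_mul hd hapos,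
    Nat.mul_le_mul (Nat.mul_le_mul hd hd) hapos]


/-- `n = 4` -/
private lemma h8_numeric_4 (q k : ℕ) (κ : ℕ → ℕ) (hq : 2 ≤ q)
    (H1 : (q - 1) * k ≤ ∑ t ∈ (Nat.gcd 4 (q - 1)).divisors, ∑ t' ∈ (Nat.gcd 4 (q - 1)).divisors,
      Nat.totient t * Nat.totient t' * κ (Nat.lcm t t'))
    (H2 : ∀ r, 1 ≤ r → r ∣ 4 → κ r ≤ q ^ (4 / r) - 1) :
    k ≤ q ^ 3 + 3 * q ^ 2 := by
  have hκ1 : κ 1 ≤ q ^ 4 - 1 := by simpa using H2 1 le_rfl (one_dvd _)
  have hκ2 : κ 2 ≤ q ^ 2 - 1 := by simpa using H2 2 (by norm_num) (by norm_num)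
  have hκ4 : κ 4 ≤ q - 1 := by simpa using H2 4 (by norm_num) (by norm_num)
  have hmd : Nat.gcd 4 (q - 1) ∣ 4 := Nat.gcd_dvd_left _ _
  have hmq : Nat.gcd 4 (q - 1) ∣ q - 1 := Nat.gcd_dvd_right _ _
  have hmle : Nat.gcd 4 (q - 1) ≤ 4 := Nat.le_of_dvd (by norm_num) hmd
  have hmpos : 0 < Nat.gcd 4 (q - 1) := Nat.gcd_pos_of_pos_left _ (by norm_num)
  obtain ⟨d, rfl⟩ : ∃ d, q = d + 1 := ⟨q - 1, by omega⟩
  simp only [Nat.add_sub_cancel] at *
  have hd : 1 ≤ d := by omega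
  have e4 : (d + 1) ^ 4 - 1 = d * ((d + 1) ^ 3 + (d + 1) ^ 2 + (d + 1) + 1) := by
    apply Nat.sub_eq_of_eq_add; ring
  have e2 : (d + 1) ^ 2 - 1 = d * (d + 2) := by
    apply Nat.sub_eq_of_eq_add; ring
  rw [e4] at hκ1
  rw [e2] at hκ2
  apply Nat.le_of_mul_le_mul_left _ hd
  generalize hm : Nat.gcd 4 d = m at *
  interval_cases m
  · -- m = 1
    rw [h8_div1] at H1
    simp at H1
    nlinarith
  · -- m = 2
    rw [h8_div2] at H1
    have h12 : Nat.lcm 1 2 = 2 := by decide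
    have h21 : Nat.lcm 2 1 = 2 := by decide
    simp [Finset.sum_insert, h12, h21] at H1
    have hd2 : 2 ≤ d := Nat.le_of_dvd hd hmq
    nlinarith
  · -- m = 3
    exfalso; revert hmd; decide
  · -- m = 4
    rw [h8_div4] at H1
    have h12 : Nat.lcm 1 2 = 2 := by decide
    have h21 : Nat.lcm 2 1 = 2 := by decide
    have h14 : Nat.lcm 1 4 = 4 := by decide
    have h41 : Nat.lcm 4 1 = 4 := by decide
    have h24 : Nat.lcm 2 4 = 4 := by decide
    have h42 : Nat.lcm 4 2 = 4 := by decide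
    simp [Finset.sum_insert, h12, h21, h14, h41, h24, h42, h8_tot4] at H1
    have hd4 : 4 ≤ d := Nat.le_of_dvd hd hmq
    nlinarith


/-- `n = 3` -/
private lemma h8_numeric_3 (q k : ℕ) (κ : ℕ → ℕ) (hq : 2 ≤ q)
    (H1 : (q - 1) * k ≤ ∑ t ∈ (Nat.gcd 3 (q - 1)).divisors, ∑ t' ∈ (Nat.gcd 3 (q - 1)).divisors,
      Nat.totient t * Nat.totient t' * κ (Nat.lcm t t'))
    (H2 : ∀ r, 1 ≤ r → r ∣ 3 → κ r ≤ q ^ (3 / r) - 1)
    (H3 : κ 1 ≤ q ^ 3 - q) :
    k ≤ q ^ 2 + 3 * q := by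
  have hκ3 : κ 3 ≤ q - 1 := by simpa using H2 3 (by norm_num) (by norm_num)
  have hmd : Nat.gcd 3 (q - 1) ∣ 3 := Nat.gcd_dvd_left _ _
  have hmq : Nat.gcd 3 (q - 1) ∣ q - 1 := Nat.gcd_dvd_right _ _
  have hmle : Nat.gcd 3 (q - 1) ≤ 3 := Nat.le_of_dvd (by norm_num) hmd
  have hmpos : 0 < Nat.gcd 3 (q - 1) := Nat.gcd_pos_of_pos_left _ (by norm_num)
  obtain ⟨d, rfl⟩ : ∃ d, q = d + 1 := ⟨q - 1, by omega⟩
  simp only [Nat.add_sub_cancel] at *
  have hd : 1 ≤ d := by omega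
  have e3 : (d + 1) ^ 3 - (d + 1) = d * ((d + 1) * (d + 2)) := by
    apply Nat.sub_eq_of_eq_add; ring
  rw [e3] at H3
  apply Nat.le_of_mul_le_mul_left _ hd
  generalize hm : Nat.gcd 3 d = m at *
  interval_cases m
  · rw [h8_div1] at H1
    simp at H1
    nlinarith
  · exfalso; revert hmd; decide
  · rw [h8_div3] at H1
    have h13 : Nat.lcm 1 3 = 3 := by decide
    have h31 : Nat.lcm 3 1 = 3 := by decide
    simp [Finset.sum_insert, h13, h31, h8_tot3] at H1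
    have hd3 : 3 ≤ d := Nat.le_of_dvd hd hmq
    nlinarith

/-- `n = 2` -/
private lemma h8_numeric_2 (q k : ℕ) (κ : ℕ → ℕ) (hq : 2 ≤ q)
    (H1 : (q - 1) * k ≤ ∑ t ∈ (Nat.gcd 2 (q - 1)).divisors, ∑ t' ∈ (Nat.gcd 2 (q - 1)).divisors,
      Nat.totient t * Nat.totient t' * κ (Nat.lcm t t'))
    (H2 : ∀ r, 1 ≤ r → r ∣ 2 → κ r ≤ q ^ (2 / r) - 1) :
    2 * k ≤ 5 * q := by
  have hκ1 : κ 1 ≤ q ^ 2 - 1 := by simpa using H2 1 le_rfl (one_dvd _)
  have hκ2 : κ 2 ≤ q - 1 := by simpa using H2 2 (by norm_num) (by norm_num)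
  have hmd : Nat.gcd 2 (q - 1) ∣ 2 := Nat.gcd_dvd_left _ _
  have hmq : Nat.gcd 2 (q - 1) ∣ q - 1 := Nat.gcd_dvd_right _ _
  have hmle : Nat.gcd 2 (q - 1) ≤ 2 := Nat.le_of_dvd (by norm_num) hmd
  have hmpos : 0 < Nat.gcd 2 (q - 1) := Nat.gcd_pos_of_pos_left _ (by norm_num)
  obtain ⟨d, rfl⟩ : ∃ d, q = d + 1 := ⟨q - 1, by omega⟩
  simp only [Nat.add_sub_cancel] at *
  have hd : 1 ≤ d := by omega
  have e2 : (d + 1) ^ 2 - 1 = d * (d + 2) := by
    apply Nat.sub_eq_of_eq_add; ring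
  rw [e2] at hκ1
  apply Nat.le_of_mul_le_mul_left _ hd
  generalize hm : Nat.gcd 2 d = m at *
  interval_cases m
  · rw [h8_div1] at H1
    simp at H1
    nlinarith
  · rw [h8_div2] at H1
    have h12 : Nat.lcm 1 2 = 2 := by decide
    have h21 : Nat.lcm 2 1 = 2 := by decide
    simp [Finset.sum_insert, h12, h21] at H1
    have hd2 : 2 ≤ d := Nat.le_of_dvd hd hmq
    nlinarith

/-- C8 -/
theorem numeric_main (q n k : ℕ) (κ : ℕ → ℕ) (hq : 2 ≤ q) (hn : 2 ≤ n)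
    (H1 : (q - 1) * k ≤ ∑ t ∈ (Nat.gcd n (q - 1)).divisors, ∑ t' ∈ (Nat.gcd n (q - 1)).divisors,
      Nat.totient t * Nat.totient t' * κ (Nat.lcm t t'))
    (H2 : ∀ r, 1 ≤ r → r ∣ n → κ r ≤ q ^ (n / r) - 1)
    (H3 : n = 3 → κ 1 ≤ q ^ 3 - q) :
    2 * k ≤ 5 * q ^ (n - 1) ∧ (3 ≤ n → k ≤ q ^ (n - 1) + 3 * q ^ (n - 2)) := by
  have hqpos : 0 < q := by omega
  have key : 3 ≤ n → k ≤ q ^ (n - 1) + 3 * q ^ (n - 2) := by
    intro h3
    rcases Nat.lt_or_ge n 5 with h5 | h5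
    · interval_cases n
      · simpa using h8_numeric_3 q k κ hq H1 H2 (H3 rfl)
      · simpa using h8_numeric_4 q k κ hq H1 H2
    · exact h8_numeric_ge5 q n k κ hq h5 H1 H2
  refine ⟨?_, key⟩
  rcases Nat.lt_or_ge n 3 with h3 | h3
  · have : n = 2 := by omega
    subst this
    simpa using h8_numeric_2 q k κ hq H1 H2
  · have hk := key h3
    obtain ⟨j, rfl⟩ : ∃ j, n = j + 2 := ⟨n - 2, by omega⟩
    have e1 : j + 2 - 1 = j + 1 := by omega
    have e2 : j + 2 - 2 = j := by omega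
    rw [e1, e2] at hk
    rw [e1]
    have : q ^ (j + 1) = q * q ^ j := by ring
    rw [this] at hk ⊢
    have hpos : 0 < q ^ j := Nat.pow_pos hqpos
    nlinarith

end Cfsg.Agent.Lib.Helper2.GLk
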