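import Mathlib
import Cfsg.Prelude.Def_Local
import Cfsg.Agent.Lib.Helper8.CharP2
import Cfsg.Agent.Lib.Helper1.ZJ11

/-! More on subgroups of characteristic `p`: normal subgroups, centralizers versus normalizers,
and climbing from `N_G(D)` to `N_G(U)` for `D ≤ U` a `p`-group. -/
set_option autoImplicit false
set_option linter.style.haveILetI false
open scoped commutatorElement

namespace Cfsg.Agent.Lib.Helper8

open Cfsg
open Cfsg.Agent.Lib.Helper7 (pCoreIn CharPIn)

variable {G : Type*} [Group G]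

/-- A normal subgroup of a group of characteristic `p` has characteristic `p`. -/
theorem charPIn_of_normal [Finite G] (p : ℕ) [hp : Fact p.Prime] {K M : Subgroup G}
    (hKM : K ≤ M) (hn : M ≤ Subgroup.normalizer (K : Set G)) (hM : CharPIn p M) :
    CharPIn p K := by
  set P := pCoreIn p M with hP
  set Q := pCoreIn p K with hQ
  have hPp : IsPGroup p ↥P := Cfsg.Agent.Lib.Helper7.pCoreIn_isPGroup p M
  have hPM : P ≤ M := Cfsg.Agent.Lib.Helper7.pCoreIn_le p M
  have hMP : M ≤ Subgroup.normalizer (P : Set G) := Cfsg.Agent.Lib.Helper7.le_normalizer_pCoreIn p M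
  have hMQ : M ≤ Subgroup.normalizer (Q : Set G) :=
    hn.trans (Cfsg.Agent.Lib.Helper7.normalizer_le_normalizer_pCoreIn p K)
  have hQK : Q ≤ K := Cfsg.Agent.Lib.Helper7.pCoreIn_le p K
  -- `P ∩ K ≤ Q`
  have hPKQ : P ⊓ K ≤ Q := by
    apply Cfsg.Agent.Lib.Helper7.le_pCoreIn inf_le_right (hPp.to_le inf_le_left)
    exact Cfsg.Agent.Lib.Helper1.le_normalizer_inf (hKM.trans hMP) Subgroup.le_normalizer
  set Y := K ⊓ Subgroup.centralizer (Q : Set G) with hY
  have hYK : Y ≤ K := inf_le_left
  have hKY : K ≤ Subgroup.normalizer (Y : Set G) := by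
    apply Cfsg.Agent.Lib.Helper1.le_normalizer_inf Subgroup.le_normalizer
    exact (hKM.trans hMQ).trans (Cfsg.Agent.Lib.Helper7.normalizer_le_normalizer_centralizer _)
  have hYp : IsPGroup p ↥Y := by
    apply Cfsg.Agent.Lib.Helper7.isPGroup_of_forall_coprime_eq_one
    intro x hxY hx
    obtain ⟨hxK, hxC⟩ := Subgroup.mem_inf.mp hxY
    have hxM : x ∈ M := hKM hxK
    have hxP : x ∈ Subgroup.normalizer (P : Set G) := hMP hxM
    have hzK : Subgroup.zpowers x ≤ K := by rw [Subgroup.zpowers_le]; exact hxK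
    have hzC : Subgroup.zpowers x ≤ Subgroup.centralizer (Q : Set G) := by
      rw [Subgroup.zpowers_le]; exact hxC
    have h1 : ⁅P, Subgroup.zpowers x⁆ ≤ P ⊓ K := by
      apply le_inf
      · rw [Subgroup.commutator_le]
        intro a ha b hb
        have hbN : b ∈ Subgroup.normalizer (P : Set G) :=
          (Subgroup.zpowers_le.2 hxP) hb
        rw [commutatorElement_def]
        have h2 : b * a⁻¹ * b⁻¹ ∈ P :=
          (Subgroup.mem_normalizer_iff.1 hbN a⁻¹).1 (P.inv_mem ha)
        have e : a * b * a⁻¹ * b⁻¹ = a * (b * a⁻¹ * b⁻¹) := by group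
        rw [e]
        exact P.mul_mem ha h2
      · rw [Subgroup.commutator_le]
        intro a ha b hb
        have haN : a ∈ Subgroup.normalizer (K : Set G) := hn (hPM ha)
        rw [commutatorElement_def]
        have h2 : a * b * a⁻¹ ∈ K := (Subgroup.mem_normalizer_iff.1 haN b).1 (hzK hb)
        exact K.mul_mem h2 (K.inv_mem (hzK hb))
    have hq : ⁅⁅P, Subgroup.zpowers x⁆, Subgroup.zpowers x⁆ = ⊥ := by
      rw [eq_bot_iff]
      refine (Subgroup.commutator_mono (h1.trans hPKQ) hzC).trans ?_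
      rw [Subgroup.commutator_comm, ← Subgroup.commutator_eq_bot_iff_le_centralizer.2 le_rfl]
    have hxcP : x ∈ Subgroup.centralizer (P : Set G) :=
      Cfsg.Agent.Lib.Helper7.mem_centralizer_of_quadratic_coprime P hPp x hx hxP hq
    have hxPm : x ∈ P := hM (Subgroup.mem_inf.2 ⟨hxM, hxcP⟩)
    exact Cfsg.Agent.Lib.Helper7.eq_one_of_mem_isPGroup_of_coprime hPp hxPm hx
  exact Cfsg.Agent.Lib.Helper7.le_pCoreIn hYK hYp hKY

/-- If `C_G(U)` has characteristic `p` (`U` a `p`-subgroup) then so does `N_G(U)`. -/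
theorem charPIn_normalizer_of_centralizer [Finite G] (p : ℕ) [hp : Fact p.Prime]
    (U : Subgroup G) (hU : IsPGroup p ↥U)
    (h : CharPIn p (Subgroup.centralizer (U : Set G))) :
    CharPIn p (Subgroup.normalizer (U : Set G)) := by
  set H := Subgroup.normalizer (U : Set G) with hH
  set K := Subgroup.centralizer (U : Set G) with hK
  have hKH : K ≤ H := Subgroup.centralizer_le_normalizer _
  have hHK : H ≤ Subgroup.normalizer (K : Set G) :=
    Cfsg.Agent.Lib.Helper7.normalizer_le_normalizer_centralizer U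
  have hQR : pCoreIn p K ≤ pCoreIn p H := by
    apply Cfsg.Agent.Lib.Helper7.le_pCoreIn ((Cfsg.Agent.Lib.Helper7.pCoreIn_le p K).trans hKH)
      (Cfsg.Agent.Lib.Helper7.pCoreIn_isPGroup p K)
    exact hHK.trans (Cfsg.Agent.Lib.Helper7.normalizer_le_normalizer_pCoreIn p K)
  have hUR : U ≤ pCoreIn p H :=
    Cfsg.Agent.Lib.Helper7.le_pCoreIn Subgroup.le_normalizer hU le_rfl
  intro y hy
  obtain ⟨hyH, hyC⟩ := Subgroup.mem_inf.mp hy
  have hyK : y ∈ K := Subgroup.centralizer_le (SetLike.coe_subset_coe.2 hUR) hyC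
  have hyQ : y ∈ Subgroup.centralizer (pCoreIn p K : Set G) :=
    Subgroup.centralizer_le (SetLike.coe_subset_coe.2 hQR) hyC
  exact hQR (h (Subgroup.mem_inf.2 ⟨hyK, hyQ⟩))

/-- One step up: from `N_G(D)` to `N_G(N_U(D))`. -/
theorem charPIn_normalizer_step [Finite G] (p : ℕ) [hp : Fact p.Prime] {D U : Subgroup G}
    (hU : IsPGroup p ↥U) (hDU : D ≤ U) (hD : CharPIn p (Subgroup.normalizer (D : Set G))) :
    CharPIn p (Subgroup.normalizer ((U ⊓ Subgroup.normalizer (D : Set G) : Subgroup G) : Set G)) := by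
  set M := Subgroup.normalizer (D : Set G) with hM
  set D' := U ⊓ M with hD'
  have hD'p : IsPGroup p ↥D' := hU.to_le inf_le_left
  have hD'M : D' ≤ M := inf_le_right
  have hDD' : D ≤ D' := le_inf hDU Subgroup.le_normalizer
  have h1 : CharPIn p (M ⊓ Subgroup.normalizer (D' : Set G)) :=
    charPIn_inf_normalizer p hD D' hD'M hD'p
  apply charPIn_normalizer_of_centralizer p D' hD'p
  have hKM : Subgroup.centralizer (D' : Set G) ≤ M ⊓ Subgroup.normalizer (D' : Set G) := by
    apply le_inf _ (Subgroup.centralizer_le_normalizer _)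
    exact (Subgroup.centralizer_le (SetLike.coe_subset_coe.2 hDD')).trans
      (Subgroup.centralizer_le_normalizer _)
  apply charPIn_of_normal p hKM _ h1
  exact inf_le_right.trans (Cfsg.Agent.Lib.Helper7.normalizer_le_normalizer_centralizer D')

/-- If `D ≤ U` with `U` a `p`-group and `N_G(D)` of characteristic `p`, then `N_G(U)` has
characteristic `p`. -/
theorem charPIn_normalizer_of_le [Finite G] (p : ℕ) [hp : Fact p.Prime] {U : Subgroup G}
    (hU : IsPGroup p ↥U) : ∀ (n : ℕ) (D : Subgroup G), D ≤ U → Nat.card U - Nat.card D = n →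
      CharPIn p (Subgroup.normalizer (D : Set G)) → CharPIn p (Subgroup.normalizer (U : Set G)) := by
  intro n
  induction n using Nat.strong_induction_on with
  | _ n ih =>
    intro D hDU hn hD
    by_cases hDeq : D = U
    · rw [← hDeq]; exact hD
    · have hlt : D < U := lt_of_le_of_ne hDU hDeq
      have hlt' := Cfsg.Agent.Lib.Helper1.ZJ.lt_inf_normalizer_of_lt hU hlt
      have hstep := charPIn_normalizer_step p hU hDU hD
      have hc1 : Nat.card D < Nat.card ↥(U ⊓ Subgroup.normalizer (D : Set G)) :=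
        Cfsg.Agent.Lib.Helper1.GlaubermanRepl.card_lt_card_of_lt hlt'
      have hc2 : Nat.card ↥(U ⊓ Subgroup.normalizer (D : Set G)) ≤ Nat.card U :=
        Subgroup.card_le_of_le inf_le_left
      exact ih (Nat.card U - Nat.card ↥(U ⊓ Subgroup.normalizer (D : Set G))) (by omega)
        (U ⊓ Subgroup.normalizer (D : Set G)) inf_le_left rfl hstep

end Cfsg.Agent.Lib.Helper8
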