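import Mathlib
import Cfsg.Agent.Lib.Helper1.Dickson15
set_option autoImplicit false
open Matrix
universe u v
namespace Cfsg.Agent.Lib.Helper8.Slk

open Cfsg.Agent.Lib.Helper1.SL2Three Cfsg.Agent.Lib.Helper1.Dickson

variable {K : Type v} [Field K]

local notation "SL2" => Matrix.SpecialLinearGroup (Fin 2) K
local notation "M2" => Matrix (Fin 2) (Fin 2) K

@[simp] theorem ea_wmat : ea (wmat K) = 0 := by simp [ea]
@[simp] theorem eb_wmat : eb (wmat K) = -1 := by simp [eb]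
@[simp] theorem ec_wmat : ec (wmat K) = 1 := by simp [ec]
@[simp] theorem ed_wmat : ed (wmat K) = 0 := by simp [ed]

theorem ymat_add_k (s t : K) : ymat K (s + t) = ymat K s * ymat K t := by
  apply ext_entries <;> simp [ea_mul, eb_mul, ec_mul, ed_mul, add_comm]

theorem ymat_neg_k (s : K) : ymat K (-s) = (ymat K s)⁻¹ := by
  apply ext_entries <;> simp [ea_inv, eb_inv, ec_inv, ed_inv]

theorem xmat_add_k (s t : K) : xmat K (s + t) = xmat K s * xmat K t := xmat_add K s t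

theorem xmat_zero_k : xmat K (0 : K) = 1 := xmat_zero K

theorem ymat_zero_k : ymat K (0 : K) = 1 := by
  apply ext_entries <;> simp

/-- the diagonal element `diag(l, l⁻¹)` -/
def dg (l : K) (hl : l ≠ 0) : SL2 :=
  ⟨!![l, 0; 0, l⁻¹], by simp [Matrix.det_fin_two, hl]⟩

@[simp] theorem ea_dg (l : K) (hl : l ≠ 0) : ea (dg l hl) = l := by simp [ea, dg]
@[simp] theorem eb_dg (l : K) (hl : l ≠ 0) : eb (dg l hl) = 0 := by simp [eb, dg]
@[simp] theorem ec_dg (l : K) (hl : l ≠ 0) : ec (dg l hl) = 0 := by simp [ec, dg]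
@[simp] theorem ed_dg (l : K) (hl : l ≠ 0) : ed (dg l hl) = l⁻¹ := by simp [ed, dg]

theorem dg_inv (l : K) (hl : l ≠ 0) : (dg l hl)⁻¹ = dg l⁻¹ (inv_ne_zero hl) := by
  apply ext_entries <;> simp [ea_inv, eb_inv, ec_inv, ed_inv]

theorem dg_conj_xmat (l : K) (hl : l ≠ 0) (t : K) :
    dg l hl * xmat K t * (dg l hl)⁻¹ = xmat K (l ^ 2 * t) := by
  apply ext_entries <;>
    simp [ea_mul, eb_mul, ec_mul, ed_mul, ea_inv, eb_inv, ec_inv, ed_inv, hl]
  ring

theorem dg_conj_ymat (l : K) (hl : l ≠ 0) (t : K) :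
    dg l hl * ymat K t * (dg l hl)⁻¹ = ymat K ((l⁻¹) ^ 2 * t) := by
  apply ext_entries <;>
    simp [ea_mul, eb_mul, ec_mul, ed_mul, ea_inv, eb_inv, ec_inv, ed_inv, hl]
  ring

/-- `w = x(-1) y(1) x(-1)` -/
theorem wmat_eq : wmat K = xmat K (-1) * ymat K 1 * xmat K (-1) := by
  apply ext_entries <;> simp [ea_mul, eb_mul, ec_mul, ed_mul]

/-- `diag(l, l⁻¹) = x(l) y(-l⁻¹) x(l) w` -/
theorem dg_eq (l : K) (hl : l ≠ 0) :
    dg l hl = xmat K l * ymat K (-l⁻¹) * xmat K l * wmat K := by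
  apply ext_entries <;> simp [ea_mul, eb_mul, ec_mul, ed_mul, hl]

theorem wmat_inv_conj_ymat (t : K) : (wmat K)⁻¹ * ymat K t * wmat K = xmat K (-t) := by
  apply ext_entries <;>
    simp [ea_mul, eb_mul, ec_mul, ed_mul, ea_inv, eb_inv, ec_inv, ed_inv]

theorem wmat_conj_xmat_k (t : K) : wmat K * xmat K t * (wmat K)⁻¹ = ymat K (-t) := by
  apply ext_entries <;>
    simp [ea_mul, eb_mul, ec_mul, ed_mul, ea_inv, eb_inv, ec_inv, ed_inv]

/-- the conjugate of `x(s)` by `g` in terms of the first column of `g` -/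
theorem conj_xmat_eq (g : SL2) (hc : ec g ≠ 0) (u : K) :
    xmat K (ea g / ec g) * ymat K u * (xmat K (ea g / ec g))⁻¹ =
      g * xmat K (-u / (ec g) ^ 2) * g⁻¹ := by
  apply ext_entries
  · rw [ea_conj]
    simp only [ea_mul, eb_mul, ec_mul, ed_mul, ea_inv, eb_inv, ec_inv, ed_inv, ea_xmat, eb_xmat,
      ec_xmat, ed_xmat, ea_ymat, eb_ymat, ec_ymat, ed_ymat]
    field_simp
    ring
  · rw [eb_conj]
    simp only [ea_mul, eb_mul, ec_mul, ed_mul, ea_inv, eb_inv, ec_inv, ed_inv, ea_xmat, eb_xmat,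
      ec_xmat, ed_xmat, ea_ymat, eb_ymat, ec_ymat, ed_ymat]
    field_simp
    ring
  · rw [ec_conj]
    simp only [ea_mul, eb_mul, ec_mul, ed_mul, ea_inv, eb_inv, ec_inv, ed_inv, ea_xmat, eb_xmat,
      ec_xmat, ed_xmat, ea_ymat, eb_ymat, ec_ymat, ed_ymat]
    field_simp
    ring
  · rw [ed_conj]
    simp only [ea_mul, eb_mul, ec_mul, ed_mul, ea_inv, eb_inv, ec_inv, ed_inv, ea_xmat, eb_xmat,
      ec_xmat, ed_xmat, ea_ymat, eb_ymat, ec_ymat, ed_ymat]
    field_simp
    ring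

/-- Bruhat-type decomposition -/
theorem bruhat_eq (g : SL2) (hc : ec g ≠ 0) :
    g = xmat K ((ea g - 1) / ec g) * ymat K (ec g) * xmat K ((ed g - 1) / ec g) := by
  have hd := det_eq g
  apply ext_entries
  · simp only [ea_mul, eb_mul, ec_mul, ed_mul, ea_xmat, eb_xmat,
      ec_xmat, ed_xmat, ea_ymat, eb_ymat, ec_ymat, ed_ymat]
    field_simp
    ring
  · simp only [ea_mul, eb_mul, ec_mul, ed_mul, ea_xmat, eb_xmat,
      ec_xmat, ed_xmat, ea_ymat, eb_ymat, ec_ymat, ed_ymat]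
    field_simp
    linear_combination (-1 : K) * hd
  · simp only [ea_mul, eb_mul, ec_mul, ed_mul, ea_xmat, eb_xmat,
      ec_xmat, ed_xmat, ea_ymat, eb_ymat, ec_ymat, ed_ymat]
    ring
  · simp only [ea_mul, eb_mul, ec_mul, ed_mul, ea_xmat, eb_xmat,
      ec_xmat, ed_xmat, ea_ymat, eb_ymat, ec_ymat, ed_ymat]
    field_simp
    ring

/-- conjugation by `[[0,1],[-α,0]]`, as a function -/
def phiFun (α : K) (hα : α ≠ 0) (g : SL2) : SL2 :=
  ⟨!![ed g, -ec g / α; -α * eb g, ea g], by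
    have hd := det_eq g
    rw [Matrix.det_fin_two]
    simp only [Matrix.of_apply, Matrix.cons_val', Matrix.cons_val_zero, Matrix.cons_val_one,
      Matrix.empty_val', Matrix.cons_val_fin_one, Matrix.head_fin_const]
    field_simp
    linear_combination hd⟩

@[simp] theorem ea_phiFun (α : K) (hα : α ≠ 0) (g : SL2) : ea (phiFun α hα g) = ed g := by
  simp [ea, ed, phiFun]
@[simp] theorem eb_phiFun (α : K) (hα : α ≠ 0) (g : SL2) : eb (phiFun α hα g) = -ec g / α := by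
  simp [eb, ec, phiFun]
@[simp] theorem ec_phiFun (α : K) (hα : α ≠ 0) (g : SL2) : ec (phiFun α hα g) = -α * eb g := by
  simp [eb, ec, phiFun]
@[simp] theorem ed_phiFun (α : K) (hα : α ≠ 0) (g : SL2) : ed (phiFun α hα g) = ea g := by
  simp [ea, ed, phiFun]

/-- conjugation by `[[0,1],[-α,0]]` as an endomorphism of `SL₂(K)` -/
def phi (α : K) (hα : α ≠ 0) : SL2 →* SL2 where
  toFun g := phiFun α hα g
  map_one' := by
    apply ext_entries <;> simp
  map_mul' g h := by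
    apply ext_entries
    · simp only [ea_mul, eb_mul, ec_mul, ed_mul, ea_phiFun, eb_phiFun, ec_phiFun, ed_phiFun]
      field_simp
      ring
    · simp only [ea_mul, eb_mul, ec_mul, ed_mul, ea_phiFun, eb_phiFun, ec_phiFun, ed_phiFun]
      field_simp
      ring
    · simp only [ea_mul, eb_mul, ec_mul, ed_mul, ea_phiFun, eb_phiFun, ec_phiFun, ed_phiFun]
      field_simp
      ring
    · simp only [ea_mul, eb_mul, ec_mul, ed_mul, ea_phiFun, eb_phiFun, ec_phiFun, ed_phiFun]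
      field_simp
      ring

@[simp] theorem ea_phi (α : K) (hα : α ≠ 0) (g : SL2) : ea (phi α hα g) = ed g :=
  ea_phiFun α hα g
@[simp] theorem eb_phi (α : K) (hα : α ≠ 0) (g : SL2) : eb (phi α hα g) = -ec g / α :=
  eb_phiFun α hα g
@[simp] theorem ec_phi (α : K) (hα : α ≠ 0) (g : SL2) : ec (phi α hα g) = -α * eb g :=
  ec_phiFun α hα g
@[simp] theorem ed_phi (α : K) (hα : α ≠ 0) (g : SL2) : ed (phi α hα g) = ea g :=
  ed_phiFun α hα g

theorem phi_phi (α : K) (hα : α ≠ 0) (g : SL2) : phi α hα (phi α hα g) = g := by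
  apply ext_entries <;> simp
  · field_simp
  · field_simp

theorem phi_xmat (α : K) (hα : α ≠ 0) (s : K) : phi α hα (xmat K s) = ymat K (-(α * s)) := by
  apply ext_entries <;> simp

theorem phi_ymat (α : K) (hα : α ≠ 0) (s : K) : phi α hα (ymat K s) = xmat K (-s / α) := by
  apply ext_entries <;> simp

theorem xmat_conj_xmat (a s : K) : xmat K a * xmat K s * (xmat K a)⁻¹ = xmat K s := by
  rw [← xmat_neg, ← xmat_add_k, ← xmat_add_k]
  congr 1
  ring

section main
variable {k : Type u} [Field k] [Algebra k K]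

/-- the generating set `{x(c)} ∪ {y(cα)}`, `c ∈ k` -/
def gens (k : Type u) [Field k] [Algebra k K] (α : K) : Set SL2 :=
  {g | ∃ c : k, g = xmat K (algebraMap k K c)} ∪ {g | ∃ c : k, g = ymat K (algebraMap k K c * α)}

/-- the group generated -/
def XX (k : Type u) [Field k] [Algebra k K] (α : K) : Subgroup SL2 :=
  Subgroup.closure (gens k α)

theorem xmat_mem (α : K) (c : k) : xmat K (algebraMap k K c) ∈ XX k α :=
  Subgroup.subset_closure (Or.inl ⟨c, rfl⟩)

theorem ymat_mem (α : K) (c : k) : ymat K (algebraMap k K c * α) ∈ XX k α :=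
  Subgroup.subset_closure (Or.inr ⟨c, rfl⟩)

theorem map_mem_of_gens (α : K) (ψ : SL2 →* SL2) (Z : Subgroup SL2)
    (h1 : ∀ c : k, ψ (xmat K (algebraMap k K c)) ∈ Z)
    (h2 : ∀ c : k, ψ (ymat K (algebraMap k K c * α)) ∈ Z) {g : SL2} (hg : g ∈ XX k α) :
    ψ g ∈ Z := by
  have : XX k α ≤ Z.comap ψ := by
    unfold XX
    rw [Subgroup.closure_le]
    rintro s (⟨c, rfl⟩ | ⟨c, rfl⟩)
    · exact h1 c
    · exact h2 c
  exact this hg

theorem phi_mem (α : K) (hα : α ≠ 0) {g : SL2} (hg : g ∈ XX k α) : phi α hα g ∈ XX k α := by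
  refine map_mem_of_gens α (phi α hα) _ ?_ ?_ hg
  · intro c
    rw [phi_xmat]
    have := ymat_mem (k := k) α (-c)
    convert this using 2
    rw [map_neg]
    ring
  · intro c
    rw [phi_ymat]
    have := xmat_mem (k := k) α (-c)
    convert this using 2
    rw [map_neg]
    field_simp

theorem phi_mem_iff (α : K) (hα : α ≠ 0) {g : SL2} : phi α hα g ∈ XX k α ↔ g ∈ XX k α := by
  constructor
  · intro h
    have := phi_mem (k := k) α hα h
    rwa [phi_phi] at this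
  · exact phi_mem α hα

theorem ymat_mem_iff (α : K) (hα : α ≠ 0) (t : K) :
    ymat K t ∈ XX k α ↔ xmat K (t / α) ∈ XX k α := by
  rw [← phi_mem_iff (k := k) α hα, phi_ymat, neg_div, xmat_neg, inv_mem_iff]

/-- `diag(l, l⁻¹)` for `l ∈ k` -/
def dgk (l : k) (hl : l ≠ 0) : SL2 := dg (algebraMap k K l) ((map_ne_zero _).mpr hl)

theorem dgk_inv (l : k) (hl : l ≠ 0) :
    (dgk (K := K) l hl)⁻¹ = dgk l⁻¹ (inv_ne_zero hl) := by
  unfold dgk
  rw [dg_inv]
  congr 1
  rw [map_inv₀]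

theorem dgk_conj_mem (α : K) (l : k) (hl : l ≠ 0) {g : SL2} (hg : g ∈ XX k α) :
    dgk l hl * g * (dgk l hl)⁻¹ ∈ XX k α := by
  have := map_mem_of_gens α ((MulAut.conj (dgk (K := K) l hl)).toMonoidHom) (XX k α) ?_ ?_ hg
  · simpa using this
  · intro c
    simp only [MulEquiv.coe_toMonoidHom, MulAut.conj_apply]
    rw [dgk, dg_conj_xmat, ← map_pow, ← map_mul]
    exact xmat_mem α _
  · intro c
    simp only [MulEquiv.coe_toMonoidHom, MulAut.conj_apply]
    rw [dgk, dg_conj_ymat, ← map_inv₀, ← map_pow, ← mul_assoc, ← map_mul]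
    exact ymat_mem α _

theorem dgk_mem_normalizer (α : K) (l : k) (hl : l ≠ 0) :
    dgk (K := K) l hl ∈ Subgroup.normalizer (XX k α : Set (Matrix.SpecialLinearGroup (Fin 2) K)) := by
  rw [Subgroup.mem_normalizer_iff]
  intro h
  constructor
  · exact dgk_conj_mem α l hl
  · intro hh
    have := dgk_conj_mem α l⁻¹ (inv_ne_zero hl) hh
    have h2 : dgk (K := K) l⁻¹ (inv_ne_zero hl) = (dgk l hl)⁻¹ := (dgk_inv l hl).symm
    rw [h2] at this
    simpa [mul_assoc] using this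

/-- a subgroup normalized by the `k`-torus has `k`-linear root parameters -/
theorem smul_closed (hk2 : (2 : k) ≠ 0) (Y : Subgroup SL2)
    (hY : ∀ (l : k) (hl : l ≠ 0) (g : SL2), g ∈ Y → dgk l hl * g * (dgk l hl)⁻¹ ∈ Y)
    (c : k) {t : K} (ht : xmat K t ∈ Y) : xmat K (algebraMap k K c * t) ∈ Y := by
  have hsq : ∀ p : k, xmat K (algebraMap k K p ^ 2 * t) ∈ Y := by
    intro p
    by_cases hp : p = 0
    · subst hp
      simp [xmat_zero_k, Y.one_mem]
    · have := hY p hp _ ht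
      rwa [dgk, dg_conj_xmat] at this
  have h1 := hsq ((c + 1) / 2)
  have h2 := hsq ((c - 1) / 2)
  have h3 := Y.mul_mem h1 (Y.inv_mem h2)
  rw [← xmat_neg, ← xmat_add_k] at h3
  convert h3 using 2
  rw [← map_pow, ← map_pow, ← neg_mul, ← add_mul, ← map_neg, ← map_add]
  congr 2
  field_simp
  ring

theorem xmat_smul_mem (hk2 : (2 : k) ≠ 0) (α : K) (c : k) {t : K} (ht : xmat K t ∈ XX k α) :
    xmat K (algebraMap k K c * t) ∈ XX k α :=
  smul_closed hk2 (XX k α) (fun l hl _ hg => dgk_conj_mem α l hl hg) c ht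

theorem xmat_smul_mem_normalizer (hk2 : (2 : k) ≠ 0) (α : K) (c : k) {t : K}
    (ht : xmat K t ∈ Subgroup.normalizer (XX k α : Set (Matrix.SpecialLinearGroup (Fin 2) K))) :
    xmat K (algebraMap k K c * t) ∈ Subgroup.normalizer (XX k α : Set (Matrix.SpecialLinearGroup (Fin 2) K)) :=
  smul_closed hk2 (Subgroup.normalizer (XX k α : Set (Matrix.SpecialLinearGroup (Fin 2) K)))
    (fun l hl _ hg => Subgroup.mul_mem _ (Subgroup.mul_mem _ (dgk_mem_normalizer α l hl) hg)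
      (Subgroup.inv_mem _ (dgk_mem_normalizer α l hl))) c ht

theorem wmat_mem_one : wmat K ∈ XX k (1 : K) := by
  rw [wmat_eq]
  have h1 : xmat K (-1) ∈ XX k (1 : K) := by
    have := xmat_mem (k := k) (1 : K) (-1)
    simpa using this
  have h2 : ymat K 1 ∈ XX k (1 : K) := by
    have := ymat_mem (k := k) (1 : K) 1
    simpa using this
  exact Subgroup.mul_mem _ (Subgroup.mul_mem _ h1 h2) h1

theorem dgk_mem_one (l : k) (hl : l ≠ 0) : dgk (K := K) l hl ∈ XX k (1 : K) := by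
  unfold dgk
  rw [dg_eq]
  have h1 : xmat K (algebraMap k K l) ∈ XX k (1 : K) := xmat_mem 1 l
  have h2 : ymat K (-(algebraMap k K l)⁻¹) ∈ XX k (1 : K) := by
    have := ymat_mem (k := k) (1 : K) (-l⁻¹)
    simpa using this
  exact Subgroup.mul_mem _ (Subgroup.mul_mem _ (Subgroup.mul_mem _ h1 h2) h1) wmat_mem_one

/-- **Key lemma**: an element of `X` whose lower-left entry squares into `k^×` forces the
lower root parameters into the upper ones. -/
theorem key (hk2 : (2 : k) ≠ 0) (hk : ∃ l : k, l ≠ 0 ∧ l ^ 2 ≠ 1) (α : K) (g : SL2)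
    (hg : g ∈ XX k α) (d : k) (hd : d ≠ 0) (hgd : ec g ^ 2 = algebraMap k K d) (t : K)
    (ht : ymat K t ∈ XX k α) : xmat K t ∈ XX k α := by
  have hc : ec g ≠ 0 := by
    intro h
    rw [h] at hgd
    simp only [ne_eq, OfNat.ofNat_ne_zero, not_false_eq_true, zero_pow] at hgd
    exact hd ((map_eq_zero _).mp hgd.symm)
  obtain ⟨ξ, hξ⟩ : ∃ ξ : K, ξ = ea g / ec g := ⟨_, rfl⟩
  -- conjugation by x(ξ) maps SL₂(k) into X
  have hS : ∀ h : SL2, h ∈ XX k (1 : K) → xmat K ξ * h * (xmat K ξ)⁻¹ ∈ XX k α := by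
    intro h hh
    have := map_mem_of_gens (1 : K) ((MulAut.conj (xmat K ξ)).toMonoidHom) (XX k α) ?_ ?_ hh
    · simpa using this
    · intro c
      simp only [MulEquiv.coe_toMonoidHom, MulAut.conj_apply]
      rw [xmat_conj_xmat]
      exact xmat_mem α c
    · intro c
      simp only [MulEquiv.coe_toMonoidHom, MulAut.conj_apply]
      rw [hξ, conj_xmat_eq g hc]
      refine Subgroup.mul_mem _ (Subgroup.mul_mem _ hg ?_) (Subgroup.inv_mem _ hg)
      have := xmat_mem (k := k) α (-c / d)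
      convert this using 2
      rw [hgd, map_div₀, map_neg, mul_one]
  obtain ⟨l, hl0, hl1⟩ := hk
  -- x(ξ) normalizes X
  have hN : xmat K ξ ∈ Subgroup.normalizer (XX k α : Set (Matrix.SpecialLinearGroup (Fin 2) K)) := by
    have h1 : xmat K ξ * dgk l hl0 * (xmat K ξ)⁻¹ ∈ Subgroup.normalizer (XX k α : Set (Matrix.SpecialLinearGroup (Fin 2) K)) :=
      Subgroup.le_normalizer (hS _ (dgk_mem_one l hl0))
    have h2 := Subgroup.mul_mem _ h1 (Subgroup.inv_mem _ (dgk_mem_normalizer (k := k) α l hl0))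
    have h3 : xmat K ξ * dgk l hl0 * (xmat K ξ)⁻¹ * (dgk l hl0)⁻¹ =
        xmat K (algebraMap k K (1 - l ^ 2) * ξ) := by
      have : xmat K ξ * dgk l hl0 * (xmat K ξ)⁻¹ * (dgk l hl0)⁻¹ =
          xmat K ξ * (dgk l hl0 * xmat K (-ξ) * (dgk l hl0)⁻¹) := by
        rw [xmat_neg]
        group
      rw [this, dgk, dg_conj_xmat, ← xmat_add_k]
      congr 1
      rw [map_sub, map_one, map_pow]
      ring
    rw [h3] at h2
    have h4 := xmat_smul_mem_normalizer hk2 α (1 - l ^ 2)⁻¹ h2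
    have h5 : (1 : k) - l ^ 2 ≠ 0 := by
      intro h
      apply hl1
      linear_combination -h
    rw [← mul_assoc, ← map_mul, inv_mul_cancel₀ h5, map_one, one_mul] at h4
    exact h4
  rw [Subgroup.mem_normalizer_iff] at hN
  have h1 := (hN _).mp ht
  have hn : xmat K ξ * wmat K * (xmat K ξ)⁻¹ ∈ XX k α := hS _ wmat_mem_one
  have h2 := Subgroup.mul_mem _ (Subgroup.mul_mem _ (Subgroup.inv_mem _ hn) h1) hn
  have h3 : (xmat K ξ * wmat K * (xmat K ξ)⁻¹)⁻¹ * (xmat K ξ * ymat K t * (xmat K ξ)⁻¹) *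
      (xmat K ξ * wmat K * (xmat K ξ)⁻¹) =
      xmat K ξ * ((wmat K)⁻¹ * ymat K t * wmat K) * (xmat K ξ)⁻¹ := by
    group
  rw [h3, wmat_inv_conj_ymat, xmat_conj_xmat, xmat_neg, inv_mem_iff] at h2
  exact h2

end main

end Cfsg.Agent.Lib.Helper8.Slk
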