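import Mathlib
import Cfsg.Agent.Lib.Helper8.Slk1
set_option autoImplicit false
open Matrix
universe u v
namespace Cfsg.Agent.Lib.Helper8.Slk

open Cfsg.Agent.Lib.Helper1.SL2Three Cfsg.Agent.Lib.Helper1.Dickson

variable {K : Type v} [Field K] {k : Type u} [Field k] [Algebra k K]

local notation "SL2" => Matrix.SpecialLinearGroup (Fin 2) K
local notation "M2" => Matrix (Fin 2) (Fin 2) K

/-- matrices with all entries in an intermediate field -/
def YL (L : IntermediateField k K) : Subgroup SL2 where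
  carrier := {g | ea g ∈ L ∧ eb g ∈ L ∧ ec g ∈ L ∧ ed g ∈ L}
  one_mem' := by
    simp only [Set.mem_setOf_eq, ea_one, eb_one, ec_one, ed_one]
    exact ⟨L.one_mem, L.zero_mem, L.zero_mem, L.one_mem⟩
  mul_mem' := by
    rintro a b ⟨a1, a2, a3, a4⟩ ⟨b1, b2, b3, b4⟩
    simp only [Set.mem_setOf_eq, ea_mul, eb_mul, ec_mul, ed_mul]
    exact ⟨L.add_mem (L.mul_mem a1 b1) (L.mul_mem a2 b3), L.add_mem (L.mul_mem a1 b2) (L.mul_mem a2 b4),
      L.add_mem (L.mul_mem a3 b1) (L.mul_mem a4 b3), L.add_mem (L.mul_mem a3 b2) (L.mul_mem a4 b4)⟩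
  inv_mem' := by
    rintro a ⟨a1, a2, a3, a4⟩
    simp only [Set.mem_setOf_eq, ea_inv, eb_inv, ec_inv, ed_inv]
    exact ⟨a4, L.neg_mem a2, L.neg_mem a3, a1⟩

theorem mem_YL_iff (L : IntermediateField k K) (g : SL2) :
    g ∈ YL L ↔ ∀ i j : Fin 2, (g : M2) i j ∈ L := by
  constructor
  · rintro ⟨h1, h2, h3, h4⟩ i j
    fin_cases i <;> fin_cases j
    · exact h1
    · exact h2
    · exact h3
    · exact h4
  · intro h
    exact ⟨h 0 0, h 0 1, h 1 0, h 1 1⟩

theorem XX_le_YL (α : K) : XX k α ≤ YL (IntermediateField.adjoin k ({α} : Set K)) := by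
  unfold XX
  rw [Subgroup.closure_le]
  have hα : α ∈ IntermediateField.adjoin k ({α} : Set K) :=
    IntermediateField.mem_adjoin_simple_self k α
  rintro s (⟨c, rfl⟩ | ⟨c, rfl⟩)
  · refine ⟨?_, ?_, ?_, ?_⟩
    · rw [ea_xmat]; exact one_mem _
    · rw [eb_xmat]; exact IntermediateField.algebraMap_mem _ c
    · rw [ec_xmat]; exact zero_mem _
    · rw [ed_xmat]; exact one_mem _
  · refine ⟨?_, ?_, ?_, ?_⟩
    · rw [ea_ymat]; exact one_mem _
    · rw [eb_ymat]; exact zero_mem _
    · rw [ec_ymat]; exact mul_mem (IntermediateField.algebraMap_mem _ c) hα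
    · rw [ed_ymat]; exact one_mem _

/-- the ring of multipliers of the upper root parameters -/
def RR (hk2 : (2 : k) ≠ 0) (α : K) : Subalgebra k K where
  carrier := {ρ | ∀ t, xmat K t ∈ XX k α → xmat K (ρ * t) ∈ XX k α}
  mul_mem' := fun ha hb t ht => by
    rw [mul_assoc]
    exact ha _ (hb _ ht)
  add_mem' := fun ha hb t ht => by
    rw [add_mul, xmat_add_k]
    exact Subgroup.mul_mem _ (ha t ht) (hb t ht)
  algebraMap_mem' := fun c t ht => xmat_smul_mem hk2 α c ht
  one_mem' := fun t ht => by rwa [one_mul]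
  zero_mem' := fun t _ => by
    rw [zero_mul, xmat_zero_k]
    exact Subgroup.one_mem _

theorem main_of_exists (hk2 : (2 : k) ≠ 0) (hk : ∃ l : k, l ≠ 0 ∧ l ^ 2 ≠ 1) (α : K)
    (hα : IsAlgebraic k α) (hα0 : α ≠ 0)
    (hex : ∃ g ∈ XX k α, ∃ d : k, d ≠ 0 ∧ ec g ^ 2 = algebraMap k K d) :
    (XX k α : Set SL2) =
      {g : SL2 | ∀ i j : Fin 2, (g : M2) i j ∈ IntermediateField.adjoin k ({α} : Set K)} := by
  obtain ⟨g0, hg0, d, hd, hgd⟩ := hex
  have hkey := key hk2 hk α g0 hg0 d hd hgd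
  -- α multiplies the upper parameters
  have hαR : α ∈ RR hk2 α := by
    intro t ht
    apply hkey
    have := phi_mem (k := k) α hα0 ht
    rw [phi_xmat, ymat_neg_k, inv_mem_iff] at this
    exact this
  have hadj : Algebra.adjoin k ({α} : Set K) ≤ RR hk2 α :=
    Algebra.adjoin_le (by simpa using hαR)
  have hL : ∀ t ∈ IntermediateField.adjoin k ({α} : Set K), xmat K t ∈ XX k α := by
    intro t ht
    have h1 : t ∈ (IntermediateField.adjoin k ({α} : Set K)).toSubalgebra := ht
    rw [IntermediateField.adjoin_simple_toSubalgebra_of_isAlgebraic hα] at h1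
    have h2 := hadj h1 1 (by simpa using xmat_mem (k := k) α 1)
    rwa [mul_one] at h2
  have hαL : α ∈ IntermediateField.adjoin k ({α} : Set K) :=
    IntermediateField.mem_adjoin_simple_self k α
  have hLy : ∀ t ∈ IntermediateField.adjoin k ({α} : Set K), ymat K t ∈ XX k α := by
    intro t ht
    rw [ymat_mem_iff α hα0]
    exact hL _ (div_mem ht hαL)
  ext g
  rw [SetLike.mem_coe, Set.mem_setOf_eq, ← mem_YL_iff]
  constructor
  · exact fun h => XX_le_YL α h
  · -- entries in L implies membership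
    have hmain : ∀ g : SL2, g ∈ YL (IntermediateField.adjoin k ({α} : Set K)) → ec g ≠ 0 →
        g ∈ XX k α := by
      rintro g ⟨h1, h2, h3, h4⟩ hc
      rw [bruhat_eq g hc]
      refine Subgroup.mul_mem _ (Subgroup.mul_mem _ (hL _ ?_) (hLy _ h3)) (hL _ ?_)
      · exact div_mem (sub_mem h1 (one_mem _)) h3
      · exact div_mem (sub_mem h4 (one_mem _)) h3
    intro hg
    by_cases hc : ec g = 0
    · have hy1 : ymat K 1 ∈ XX k α := hLy 1 (one_mem _)
      have hy1' : ymat K 1 ∈ YL (IntermediateField.adjoin k ({α} : Set K)) := XX_le_YL α hy1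
      have h1 : ymat K 1 * g ∈ XX k α := by
        apply hmain _ (Subgroup.mul_mem _ hy1' hg)
        rw [ec_mul, ec_ymat, ed_ymat, hc]
        have hd := det_eq g
        rw [hc] at hd
        intro h0
        simp only [one_mul, add_zero] at h0
        rw [h0] at hd
        simp at hd
      have := Subgroup.mul_mem _ (Subgroup.inv_mem _ hy1) h1
      rwa [inv_mul_cancel_left] at this
    · exact hmain g hg hc

end Cfsg.Agent.Lib.Helper8.Slk
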