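import Mathlib
import Cfsg.Agent.Lib.Helper8.Slk2
set_option autoImplicit false
open Matrix
universe u v
namespace Cfsg.Agent.Lib.Helper8.Slk

open Cfsg.Agent.Lib.Helper1.SL2Three Cfsg.Agent.Lib.Helper1.Dickson

variable {K : Type v} [Field K] {k : Type u} [Field k] [Algebra k K]

local notation "SL2" => Matrix.SpecialLinearGroup (Fin 2) K
local notation "M2" => Matrix (Fin 2) (Fin 2) K

theorem finite_YL (L : IntermediateField k K) [Finite L] : Finite (YL L) := by
  let f : YL L → L × L × L × L := fun g =>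
    (⟨ea g.1, g.2.1⟩, ⟨eb g.1, g.2.2.1⟩, ⟨ec g.1, g.2.2.2.1⟩, ⟨ed g.1, g.2.2.2.2⟩)
  apply Finite.of_injective f
  intro g h hgh
  simp only [f, Prod.mk.injEq, Subtype.mk.injEq] at hgh
  exact Subtype.ext (ext_entries hgh.1 hgh.2.1 hgh.2.2.1 hgh.2.2.2)

/-- the finite case, via Dickson -/
theorem exists_of_finite [Finite k] (hk2 : (2 : k) ≠ 0) (α : K) (hα : IsAlgebraic k α)
    (hα0 : α ≠ 0) :
    ∃ g ∈ XX k α, ∃ d : k, d ≠ 0 ∧ ec g ^ 2 = algebraMap k K d := by
  haveI : FiniteDimensional k (IntermediateField.adjoin k ({α} : Set K)) :=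
    IntermediateField.adjoin.finiteDimensional hα.isIntegral
  haveI : Finite (IntermediateField.adjoin k ({α} : Set K)) := Module.finite_of_finite k
  haveI := finite_YL (IntermediateField.adjoin k ({α} : Set K))
  haveI : Finite (XX k α) :=
    Finite.of_injective (Subgroup.inclusion (XX_le_YL α)) (Subgroup.inclusion_injective _)
  have h2K : (2 : K) ≠ 0 := by
    have := (map_ne_zero (algebraMap k K)).mpr hk2
    rwa [map_ofNat] at this
  have hx1 : xmat K 1 ∈ XX k α := by simpa using xmat_mem (k := k) α 1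
  have hyα : ymat K α ∈ XX k α := by simpa using ymat_mem (k := k) α 1
  have hne : xmat K (1 : K) ≠ 1 := by
    intro h
    have := congrArg eb h
    simp at this
  have hau : ((xmat K (1 : K) : M2) - 1) * ((xmat K (1 : K) : M2) - 1) = 0 := by
    ext i j
    fin_cases i <;> fin_cases j <;> simp [Matrix.mul_apply, Fin.sum_univ_two]
  have hy : xmat K 1 * (ymat K α * xmat K 1 * (ymat K α)⁻¹) ≠
      (ymat K α * xmat K 1 * (ymat K α)⁻¹) * xmat K 1 := by
    intro h
    have := congrArg ea h
    rw [ea_mul, ea_mul (ymat K α * xmat K 1 * (ymat K α)⁻¹), ec_conj] at this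
    simp only [ea_xmat, eb_xmat, ec_xmat, ec_ymat, one_mul, mul_one, mul_zero, add_zero] at this
    have h0 : α * α = 0 := by linear_combination -this
    rcases mul_self_eq_zero.mp h0 with h1
    exact hα0 h1
  obtain ⟨g, hg, htr⟩ := dickson_trace h2K (XX k α) (xmat K 1) hx1 hne hau (ymat K α) hyα hy
  rw [trace_xmat_conj] at htr
  refine ⟨g, hg, ?_⟩
  rcases htr with h | h
  · refine ⟨1, one_ne_zero, ?_⟩
    rw [map_one]
    linear_combination -h
  · refine ⟨-1, by simp, ?_⟩
    rw [map_neg, map_one]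
    linear_combination -h

end Cfsg.Agent.Lib.Helper8.Slk
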