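import Mathlib
set_option autoImplicit false
open Polynomial Matrix
universe u
namespace Cfsg.Agent.Lib.Helper8.Slk

variable {k : Type u} [Field k]

/-- the Padé matrix: coefficients `m-j ..< m` of `u * X^b mod F`, `b < j` -/
noncomputable def Gm (F : k[X]) (j : ℕ) (u : k[X]) : Matrix (Fin j) (Fin j) k :=
  Matrix.of fun a b => ((u * X ^ (b : ℕ)) %ₘ F).coeff (F.natDegree - j + a)

theorem Gm_add_smul (F : k[X]) (j : ℕ) (u w : k[X]) (t : k) :
    Gm F j (u + t • w) = Gm F j u + t • Gm F j w := by
  ext a b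
  simp only [Gm, of_apply, add_mul, add_modByMonic, smul_mul_assoc, smul_modByMonic, coeff_add,
    coeff_smul, Matrix.add_apply, Matrix.smul_apply]

theorem Gm_witness (F : k[X]) (hF : F.Monic) (j : ℕ) (hj : j ≤ F.natDegree) :
    Gm F j (X ^ (F.natDegree - j)) = 1 := by
  ext a b
  simp only [Gm, of_apply]
  rw [← pow_add, (modByMonic_eq_self_iff hF).mpr ?_, coeff_X_pow, Matrix.one_apply]
  · by_cases hab : a = b
    · subst hab
      simp
    · rw [if_neg hab, if_neg]
      intro h
      apply hab
      ext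
      omega
  · rw [degree_X_pow, degree_eq_natDegree hF.ne_zero]
    have := b.2
    exact_mod_cast (by omega : F.natDegree - j + (b : ℕ) < F.natDegree)

theorem coeff_mod_sum (F : k[X]) (j : ℕ) (u : k[X]) (v : Fin j → k) (a : Fin j) :
    ((u * ∑ b : Fin j, C (v b) * X ^ (b : ℕ)) %ₘ F).coeff (F.natDegree - j + a) =
      (Gm F j u *ᵥ v) a := by
  have h1 : u * ∑ b : Fin j, C (v b) * X ^ (b : ℕ) = ∑ b : Fin j, v b • (u * X ^ (b : ℕ)) := by
    rw [Finset.mul_sum]
    refine Finset.sum_congr rfl fun b _ => ?_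
    rw [mul_left_comm, C_mul']
  rw [h1, ← modByMonicHom_apply, map_sum]
  simp only [map_smul, modByMonicHom_apply, finset_sum_coeff, coeff_smul, smul_eq_mul]
  simp only [Matrix.mulVec, dotProduct, Gm, of_apply]
  exact Finset.sum_congr rfl fun b _ => mul_comm _ _

theorem eq_sum_of_mem_degreeLT (j : ℕ) (p : k[X]) (hp : p ∈ degreeLT k j) :
    p = ∑ b : Fin j, C (p.coeff b) * X ^ (b : ℕ) := by
  ext n
  rw [finset_sum_coeff]
  simp only [coeff_C_mul, coeff_X_pow]
  by_cases hn : n < j
  · rw [Finset.sum_eq_single (⟨n, hn⟩ : Fin j)]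
    · simp
    · intro b _ hb
      rw [if_neg, mul_zero]
      intro h
      apply hb
      ext
      exact h.symm
    · simp
  · rw [Finset.sum_eq_zero]
    · exact coeff_eq_zero_of_degree_lt
        (lt_of_lt_of_le (mem_degreeLT.mp hp) (by exact_mod_cast not_lt.mp hn))
    · intro b _
      rw [if_neg, mul_zero]
      intro h
      exact hn (h ▸ b.2)

/-- nonvanishing of the Padé determinant gives the Padé condition -/
theorem cond_of_det (F : k[X]) (j : ℕ) (u : k[X]) (h : (Gm F j u).det ≠ 0) (p : k[X])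
    (hp : p ∈ degreeLT k j) (hd : (u * p) %ₘ F ∈ degreeLT k (F.natDegree - j)) : p = 0 := by
  have hp' := eq_sum_of_mem_degreeLT j p hp
  have hv : Gm F j u *ᵥ (fun b : Fin j => p.coeff b) = 0 := by
    ext a
    rw [← coeff_mod_sum, ← hp']
    exact coeff_eq_zero_of_degree_lt
      (lt_of_lt_of_le (mem_degreeLT.mp hd) (by exact_mod_cast Nat.le_add_right _ _))
  have h0 := Matrix.eq_zero_of_mulVec_eq_zero h hv
  rw [hp']
  apply Finset.sum_eq_zero
  intro b _
  have := congrFun h0 b
  simp only [Pi.zero_apply] at this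
  rw [this, C_0, zero_mul]

theorem pencil_finite {n : ℕ} (A B : Matrix (Fin n) (Fin n) k)
    (h : ∃ t₀ : k, (A + t₀ • B).det ≠ 0) : {t : k | (A + t • B).det = 0}.Finite := by
  obtain ⟨t₀, ht₀⟩ := h
  obtain ⟨p, hpdef⟩ : ∃ p : k[X], p = (A.map C + (X : k[X]) • B.map C).det := ⟨_, rfl⟩
  have hp : ∀ t : k, p.eval t = (A + t • B).det := by
    intro t
    have := RingHom.map_det (evalRingHom t) (A.map C + (X : k[X]) • B.map C)
    rw [coe_evalRingHom] at this
    rw [hpdef, this]
    congr 1
    ext a b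
    simp [RingHom.mapMatrix_apply]
    exact mul_comm _ _
  have hp0 : p ≠ 0 := by
    intro h0
    apply ht₀
    rw [← hp, h0, eval_zero]
  refine (Polynomial.finite_setOfPred_isRoot hp0).subset ?_
  intro t ht
  simp only [Set.mem_setOf_eq, IsRoot.def, hp]
  exact ht

theorem pencil_one_finite {n : ℕ} (A : Matrix (Fin n) (Fin n) k) :
    {t : k | (A + t • (1 : Matrix (Fin n) (Fin n) k)).det = 0}.Finite := by
  have hp : ∀ t : k, (-A).charpoly.eval t = (A + t • (1 : Matrix (Fin n) (Fin n) k)).det := by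
    intro t
    rw [Matrix.eval_charpoly, sub_neg_eq_add, add_comm]
    congr 2
    rw [Matrix.smul_one_eq_diagonal]
    rfl
  refine (Polynomial.finite_setOfPred_isRoot (Matrix.charpoly_monic (-A)).ne_zero).subset ?_
  intro t ht
  simp only [Set.mem_setOf_eq, IsRoot.def, hp]
  exact ht

theorem exists_good [Infinite k] {V : Type*} [AddCommGroup V] [Module k V] {ι : Type*}
    (n : ι → ℕ) (M : ∀ i, V → Matrix (Fin (n i)) (Fin (n i)) k)
    (hM : ∀ i u w (t : k), M i (u + t • w) = M i u + t • M i w)
    (w : ι → V) (s : Finset ι) (hw : ∀ i ∈ s, M i (w i) = 1) :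
    ∃ u : V, ∀ i ∈ s, (M i u).det ≠ 0 := by
  classical
  induction s using Finset.induction_on with
  | empty => exact ⟨0, by simp⟩
  | insert i s hi ih =>
    obtain ⟨u, hu⟩ := ih (fun i' hi' => hw i' (Finset.mem_insert_of_mem hi'))
    have hB1 : {t : k | (M i u + t • M i (w i)).det = 0}.Finite := by
      rw [hw i (Finset.mem_insert_self _ _)]
      exact pencil_one_finite _
    have hB2 : ∀ i' ∈ (s : Set ι), {t : k | (M i' u + t • M i' (w i)).det = 0}.Finite := by
      intro i' hi'
      apply pencil_finite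
      exact ⟨0, by simpa using hu i' hi'⟩
    have hB : ({t : k | (M i u + t • M i (w i)).det = 0} ∪
        ⋃ i' ∈ (s : Set ι), {t : k | (M i' u + t • M i' (w i)).det = 0}).Finite :=
      hB1.union (Set.Finite.biUnion s.finite_toSet hB2)
    obtain ⟨t, ht⟩ := hB.exists_notMem
    refine ⟨u + t • w i, ?_⟩
    intro i' hi'
    rw [hM]
    rcases Finset.mem_insert.mp hi' with rfl | h
    · intro h0
      exact ht (Or.inl h0)
    · intro h0
      exact ht (Or.inr (Set.mem_biUnion (show i' ∈ (s : Set ι) from h) h0))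

/-- a generic `u` satisfies all the Padé conditions for `F`, and for the twisted ones -/
theorem exists_u [Infinite k] (F : k[X]) (hF : F.Monic) :
    ∃ u : k[X], (∀ j, j ≤ F.natDegree → (Gm F j u).det ≠ 0) ∧
      (∀ j, j + 1 ≤ F.natDegree → (Gm F j (X * u)).det ≠ 0) := by
  classical
  obtain ⟨u, hu⟩ := exists_good (k := k) (V := k[X]) (ι := ℕ × Bool) (fun i => i.1)
    (fun i u => if i.2 then Gm F i.1 (X * u) else Gm F i.1 u)
    (by
      intro i u w t
      by_cases hi : i.2 = true
      · simp only [hi, if_true]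
        rw [mul_add, mul_smul_comm, Gm_add_smul]
      · simp only [hi]
        exact Gm_add_smul F i.1 u w t)
    (fun i => if i.2 then X ^ (F.natDegree - i.1 - 1) else X ^ (F.natDegree - i.1))
    (((Finset.range (F.natDegree + 1)) ×ˢ (Finset.univ : Finset Bool)).filter
      (fun i => i.2 = true → i.1 + 1 ≤ F.natDegree))
    (by
      intro i hi
      rw [Finset.mem_filter, Finset.mem_product, Finset.mem_range] at hi
      by_cases hi2 : i.2 = true
      · simp only [hi2, if_true]
        have h1 := hi.2 hi2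
        rw [← pow_succ', show F.natDegree - i.1 - 1 + 1 = F.natDegree - i.1 by omega]
        exact Gm_witness F hF i.1 (by omega)
      · simp only [hi2]
        exact Gm_witness F hF i.1 (by omega))
  refine ⟨u, ?_, ?_⟩
  · intro j hj
    have := hu (j, false) (by
      rw [Finset.mem_filter, Finset.mem_product, Finset.mem_range]
      exact ⟨⟨by simp; omega, Finset.mem_univ _⟩, by simp⟩)
    simpa using this
  · intro j hj
    have := hu (j, true) (by
      rw [Finset.mem_filter, Finset.mem_product, Finset.mem_range]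
      exact ⟨⟨by simp; omega, Finset.mem_univ _⟩, fun _ => hj⟩)
    simpa using this

end Cfsg.Agent.Lib.Helper8.Slk
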