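import Mathlib
import Cfsg.Agent.Lib.Helper8.Slk4
set_option autoImplicit false
open Polynomial Matrix
universe u
namespace Cfsg.Agent.Lib.Helper8.Slk

variable {k : Type u} [Field k]

/-- `u * p mod F` -/
noncomputable def rho (F u p : k[X]) : k[X] := (u * p) %ₘ F

theorem rho_add (F u p q : k[X]) : rho F u (p + q) = rho F u p + rho F u q := by
  simp only [rho, mul_add, add_modByMonic]

theorem rho_sub (F u p q : k[X]) : rho F u (p - q) = rho F u p - rho F u q := by
  simp only [rho, mul_sub, sub_modByMonic]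

theorem rho_smul (F u : k[X]) (c : k) (p : k[X]) : rho F u (c • p) = c • rho F u p := by
  simp only [rho, mul_smul_comm, smul_modByMonic]

theorem rho_mem (F u p : k[X]) (hF : F.Monic) : rho F u p ∈ degreeLT k F.natDegree := by
  rw [mem_degreeLT, ← degree_eq_natDegree hF.ne_zero]
  exact degree_modByMonic_lt _ hF

theorem rho_self (F u : k[X]) (hF : F.Monic) : rho F u F = 0 := by
  rw [rho, mul_comm]
  exact self_mul_modByMonic hF

theorem X_mul_mem_degreeLT (r : k[X]) (n : ℕ) (h : r ∈ degreeLT k n) :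
    X * r ∈ degreeLT k (n + 1) := by
  rw [mem_degreeLT, degree_lt_iff_coeff_zero] at *
  intro N hN
  cases N with
  | zero => omega
  | succ N =>
    rw [coeff_X_mul]
    exact h N (by omega)

theorem mem_degreeLT_of_succ (p : k[X]) (n : ℕ) (h : p ∈ degreeLT k (n + 1)) (h0 : p.coeff n = 0) :
    p ∈ degreeLT k n := by
  rw [mem_degreeLT, degree_lt_iff_coeff_zero] at *
  intro N hN
  rcases Nat.eq_or_lt_of_le hN with rfl | h1
  · exact h0
  · exact h N (by omega)

theorem mem_degreeLT_of_coeff (p : k[X]) (m j : ℕ) (hj : j ≤ m) (hp : p ∈ degreeLT k m)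
    (h : ∀ a : Fin j, p.coeff (m - j + a) = 0) : p ∈ degreeLT k (m - j) := by
  rw [mem_degreeLT, degree_lt_iff_coeff_zero] at *
  intro N hN
  by_cases hNm : N < m
  · have := h ⟨N - (m - j), by omega⟩
    simp only at this
    rwa [show m - j + (N - (m - j)) = N by omega] at this
  · exact hp N (by omega)

theorem rho_X_mul (F u p : k[X]) (hF : F.Monic) (n : ℕ) (hn : n + 1 ≤ F.natDegree)
    (h : rho F u p ∈ degreeLT k n) : rho F u (X * p) = X * rho F u p := by
  have h1 : rho F u (X * p) = (X * rho F u p) %ₘ F := by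
    unfold rho
    apply modByMonic_eq_of_dvd_sub hF
    refine ⟨X * ((u * p) /ₘ F), ?_⟩
    have := modByMonic_add_div (u * p) F
    linear_combination (-X : k[X]) * this - X * (u * p) + u * (X * p) - X * (u * p) + X * (u * p)
  rw [h1, modByMonic_eq_self_iff hF, degree_eq_natDegree hF.ne_zero]
  have := mem_degreeLT.mp (X_mul_mem_degreeLT _ n h)
  exact lt_of_lt_of_le this (by exact_mod_cast hn)

theorem exists_P (F u : k[X]) (hF : F.Monic) (j : ℕ) (hj : j ≤ F.natDegree)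
    (hG : (Gm F j u).det ≠ 0) :
    ∃ P : k[X], P.Monic ∧ P.natDegree = j ∧ rho F u P ∈ degreeLT k (F.natDegree - j) := by
  classical
  obtain ⟨r, hr⟩ : ∃ r : Fin j → k,
    r = fun a : Fin j => (rho F u (X ^ j)).coeff (F.natDegree - j + (a : ℕ)) := ⟨_, rfl⟩
  obtain ⟨v, hv⟩ : ∃ v : Fin j → k, v = (Gm F j u)⁻¹ *ᵥ r := ⟨_, rfl⟩
  obtain ⟨q, hq⟩ : ∃ q : k[X], q = ∑ b : Fin j, C (v b) * X ^ (b : ℕ) := ⟨_, rfl⟩
  have hqdeg : q ∈ degreeLT k j := by
    rw [hq]
    refine Submodule.sum_mem _ fun b _ => ?_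
    rw [mem_degreeLT]
    exact lt_of_le_of_lt (degree_C_mul_X_pow_le _ _) (by exact_mod_cast b.2)
  have hGv : Gm F j u *ᵥ v = r := by
    rw [hv, Matrix.mulVec_mulVec, Matrix.mul_nonsing_inv _ (isUnit_iff_ne_zero.mpr hG),
      Matrix.one_mulVec]
  refine ⟨X ^ j - q, monic_X_pow_sub (mem_degreeLT.mp hqdeg), ?_, ?_⟩
  · apply natDegree_eq_of_degree_eq_some
    rw [degree_sub_eq_left_of_degree_lt, degree_X_pow]
    rw [degree_X_pow]
    exact mem_degreeLT.mp hqdeg
  · apply mem_degreeLT_of_coeff _ _ _ hj (rho_mem F u _ hF)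
    intro a
    rw [rho_sub, coeff_sub]
    have h1 : (rho F u q).coeff (F.natDegree - j + a) = r a := by
      rw [← hGv, ← coeff_mod_sum, ← hq, rho]
    rw [h1, hr]
    simp

theorem uniq_P (F u : k[X]) (j : ℕ) (hG : (Gm F j u).det ≠ 0) (P : k[X])
    (hP : P.Monic) (hPd : P.natDegree = j)
    (hPr : rho F u P ∈ degreeLT k (F.natDegree - j)) (p : k[X]) (hp : p ∈ degreeLT k (j + 1))
    (hpr : rho F u p ∈ degreeLT k (F.natDegree - j)) : p = p.coeff j • P := by
  have hPdeg : P ∈ degreeLT k (j + 1) := by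
    rw [mem_degreeLT, degree_eq_natDegree hP.ne_zero, hPd]
    exact_mod_cast Nat.lt_succ_self j
  have hq : p - p.coeff j • P ∈ degreeLT k j := by
    apply mem_degreeLT_of_succ _ _ (Submodule.sub_mem _ hp (Submodule.smul_mem _ _ hPdeg))
    have := hP.coeff_natDegree
    rw [hPd] at this
    rw [coeff_sub, coeff_smul, this, smul_eq_mul, mul_one, sub_self]
  have hqr : rho F u (p - p.coeff j • P) ∈ degreeLT k (F.natDegree - j) := by
    rw [rho_sub, rho_smul]
    exact Submodule.sub_mem _ hpr (Submodule.smul_mem _ _ hPr)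
  exact sub_eq_zero.mp (cond_of_det F j u hG _ hq hqr)

theorem lead_ne (F u : k[X]) (j : ℕ) (hj : j + 1 ≤ F.natDegree)
    (hG : (Gm F (j + 1) u).det ≠ 0) (P : k[X]) (hP : P.Monic) (hPd : P.natDegree = j)
    (hPr : rho F u P ∈ degreeLT k (F.natDegree - j)) :
    (rho F u P).coeff (F.natDegree - j - 1) ≠ 0 := by
  intro h0
  have hPdeg : P ∈ degreeLT k (j + 1) := by
    rw [mem_degreeLT, degree_eq_natDegree hP.ne_zero, hPd]
    exact_mod_cast Nat.lt_succ_self j
  have h1 : rho F u P ∈ degreeLT k (F.natDegree - (j + 1)) := by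
    have h2 : F.natDegree - j = (F.natDegree - (j + 1)) + 1 := by omega
    rw [h2] at hPr
    apply mem_degreeLT_of_succ _ _ hPr
    rwa [show F.natDegree - (j + 1) = F.natDegree - j - 1 by omega]
  exact hP.ne_zero (cond_of_det F (j + 1) u hG P hPdeg h1)

theorem rec_P (F u : k[X]) (hF : F.Monic) (j : ℕ) (hj1 : 1 ≤ j) (hj : j + 1 ≤ F.natDegree)
    (hGj : (Gm F j u).det ≠ 0) (hGj1 : (Gm F (j + 1) u).det ≠ 0)
    (Pm P0 Pp : k[X]) (hPm : Pm.Monic) (hP0 : P0.Monic) (hPp : Pp.Monic)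
    (hPmd : Pm.natDegree = j - 1) (hP0d : P0.natDegree = j) (hPpd : Pp.natDegree = j + 1)
    (hPmr : rho F u Pm ∈ degreeLT k (F.natDegree - (j - 1)))
    (hP0r : rho F u P0 ∈ degreeLT k (F.natDegree - j))
    (hPpr : rho F u Pp ∈ degreeLT k (F.natDegree - (j + 1))) :
    ∃ a b : k, b ≠ 0 ∧ Pp = (X - C a) * P0 - C b * Pm := by
  have hl0 := lead_ne F u j hj hGj1 P0 hP0 hP0d hP0r
  have hlm := lead_ne F u (j - 1) (by omega) (by rwa [show j - 1 + 1 = j by omega]) Pm hPm hPmd hPmr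
  rw [show F.natDegree - (j - 1) - 1 = F.natDegree - j by omega] at hlm
  obtain ⟨b, hb⟩ : ∃ b : k, b = (rho F u P0).coeff (F.natDegree - j - 1) /
    (rho F u Pm).coeff (F.natDegree - j) := ⟨_, rfl⟩
  have hb0 : b ≠ 0 := by
    rw [hb]
    exact div_ne_zero hl0 hlm
  obtain ⟨Q, hQ⟩ : ∃ Q : k[X], Q = Pp - X * P0 + C b * Pm := ⟨_, rfl⟩
  have hQdeg : Q ∈ degreeLT k (j + 1) := by
    rw [mem_degreeLT, degree_lt_iff_coeff_zero]
    intro N hN
    obtain ⟨N', rfl⟩ : ∃ N', N = N' + 1 := ⟨N - 1, by omega⟩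
    rw [hQ, coeff_add, coeff_sub, coeff_X_mul, coeff_C_mul]
    have h3 : Pm.coeff (N' + 1) = 0 := coeff_eq_zero_of_natDegree_lt (by omega)
    rcases Nat.eq_or_lt_of_le (Nat.le_of_succ_le_succ hN) with h | h
    · have h1 := hPp.coeff_natDegree
      have h2 := hP0.coeff_natDegree
      rw [hPpd] at h1
      rw [hP0d] at h2
      rw [h3, ← h, h1, h2]
      ring
    · rw [coeff_eq_zero_of_natDegree_lt (by omega), coeff_eq_zero_of_natDegree_lt (by omega), h3]
      ring
  have hrQ : rho F u Q = rho F u Pp - X * rho F u P0 + b • rho F u Pm := by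
    rw [hQ, rho_add, rho_sub, rho_X_mul F u P0 hF (F.natDegree - j) (by omega) hP0r,
      ← smul_eq_C_mul, rho_smul]
  have hrQdeg : rho F u Q ∈ degreeLT k (F.natDegree - j) := by
    apply mem_degreeLT_of_succ
    · rw [hrQ]
      refine Submodule.add_mem _ (Submodule.sub_mem _ ?_ ?_) (Submodule.smul_mem _ _ ?_)
      · exact degreeLT_mono (by omega) hPpr
      · exact X_mul_mem_degreeLT _ _ hP0r
      · exact degreeLT_mono (by omega) hPmr
    · rw [hrQ, coeff_add, coeff_sub, coeff_smul, smul_eq_mul]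
      have h1 : (rho F u Pp).coeff (F.natDegree - j) = 0 := by
        apply coeff_eq_zero_of_degree_lt
        exact lt_of_lt_of_le (mem_degreeLT.mp hPpr) (by exact_mod_cast (by omega))
      have h2 : (X * rho F u P0).coeff (F.natDegree - j) =
          (rho F u P0).coeff (F.natDegree - j - 1) := by
        rw [show F.natDegree - j = (F.natDegree - j - 1) + 1 by omega, coeff_X_mul]
        simp
      rw [h1, h2, hb, div_mul_cancel₀ _ hlm]
      ring
  have hU := uniq_P F u j hGj P0 hP0 hP0d hP0r Q hQdeg hrQdeg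
  refine ⟨-Q.coeff j, b, hb0, ?_⟩
  have h1 : Pp = Q + X * P0 - C b * Pm := by
    rw [hQ]
    ring
  rw [h1]
  nth_rewrite 1 [hU]
  rw [smul_eq_C_mul, C_neg]
  ring

theorem pi_ne (F u : k[X]) (j : ℕ) (hG' : (Gm F j (X * u)).det ≠ 0) (P : k[X])
    (hP : P.Monic) (hPd : P.natDegree = j)
    (hPr : rho F u P ∈ degreeLT k (F.natDegree - j)) : P.coeff 0 ≠ 0 := by
  intro h0
  have h1 : P = X * P.divX := by
    have := divX_mul_X_add P
    rw [h0, C_0, add_zero] at this
    rw [mul_comm]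
    exact this.symm
  have hQ : P.divX ∈ degreeLT k j := by
    rw [mem_degreeLT, degree_lt_iff_coeff_zero]
    intro N hN
    rw [coeff_divX]
    exact coeff_eq_zero_of_natDegree_lt (by omega)
  have hQr : (X * u * P.divX) %ₘ F ∈ degreeLT k (F.natDegree - j) := by
    have : X * u * P.divX = u * P := by
      nth_rewrite 2 [h1]
      ring
    rw [this]
    exact hPr
  have := cond_of_det F j (X * u) hG' P.divX hQ hQr
  rw [this, mul_zero] at h1
  exact hP.ne_zero h1

/-- **Continued-fraction representation** of a monic polynomial over an infinite field. -/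
theorem exists_cf [Infinite k] (F : k[X]) (hF : F.Monic) :
    ∃ (P : ℕ → k[X]) (a b : ℕ → k), P 0 = 1 ∧ (1 ≤ F.natDegree → P 1 = X - C (a 0)) ∧
      (∀ j, 1 ≤ j → j + 1 ≤ F.natDegree →
        P (j + 1) = (X - C (a j)) * P j - C (b j) * P (j - 1)) ∧
      (∀ j, 1 ≤ j → j + 1 ≤ F.natDegree → b j ≠ 0) ∧
      (∀ j, j + 1 ≤ F.natDegree → (P j).coeff 0 ≠ 0) ∧
      (1 ≤ F.natDegree → P F.natDegree = F) := by
  obtain ⟨u, hu1, hu2⟩ := exists_u F hF
  have hex : ∀ j, ∃ P : k[X], j ≤ F.natDegree →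
      (P.Monic ∧ P.natDegree = j ∧ rho F u P ∈ degreeLT k (F.natDegree - j)) := by
    intro j
    by_cases hj : j ≤ F.natDegree
    · obtain ⟨P, hP⟩ := exists_P F u hF j hj (hu1 j hj)
      exact ⟨P, fun _ => hP⟩
    · exact ⟨0, fun h => absurd h hj⟩
  choose P hP using hex
  have hP1 : 1 ≤ F.natDegree → ∃ a0 : k, P 1 = X - C a0 := by
    intro h1
    obtain ⟨h2, h3, -⟩ := hP 1 h1
    refine ⟨-(P 1).coeff 0, ?_⟩
    rw [C_neg, sub_neg_eq_add]
    exact h2.eq_X_add_C h3
  have hrec : ∀ j, ∃ a b : k, (j = 0 → 1 ≤ F.natDegree → P 1 = X - C a) ∧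
      (1 ≤ j → j + 1 ≤ F.natDegree →
        (b ≠ 0 ∧ P (j + 1) = (X - C a) * P j - C b * P (j - 1))) := by
    intro j
    by_cases hj0 : j = 0
    · by_cases h1 : 1 ≤ F.natDegree
      · obtain ⟨a0, ha0⟩ := hP1 h1
        exact ⟨a0, 0, fun _ _ => ha0, fun h => by omega⟩
      · exact ⟨0, 0, fun _ h => absurd h h1, fun h => by omega⟩
    · by_cases hj : j + 1 ≤ F.natDegree
      · obtain ⟨hm1, hm2, hm3⟩ := hP (j - 1) (by omega)
        obtain ⟨h01, h02, h03⟩ := hP j (by omega)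
        obtain ⟨hp1, hp2, hp3⟩ := hP (j + 1) hj
        obtain ⟨a, b, hb, hab⟩ := rec_P F u hF j (by omega) hj (hu1 j (by omega)) (hu1 (j + 1) hj)
          (P (j - 1)) (P j) (P (j + 1)) hm1 h01 hp1 hm2 h02 hp2 hm3 h03 hp3
        exact ⟨a, b, fun h => absurd h hj0, fun _ _ => ⟨hb, hab⟩⟩
      · exact ⟨0, 0, fun h => absurd h hj0, fun _ h => absurd h hj⟩
  choose a b hab using hrec
  refine ⟨P, a, b, ?_, ?_, ?_, ?_, ?_, ?_⟩
  · obtain ⟨h1, h2, -⟩ := hP 0 (Nat.zero_le _)
    exact eq_one_of_monic_natDegree_zero h1 h2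
  · intro h1
    exact (hab 0).1 rfl h1
  · intro j hj1 hj
    exact ((hab j).2 hj1 hj).2
  · intro j hj1 hj
    exact ((hab j).2 hj1 hj).1
  · intro j hj
    obtain ⟨h1, h2, h3⟩ := hP j (by omega)
    exact pi_ne F u j (hu2 j hj) (P j) h1 h2 h3
  · intro hm
    obtain ⟨h1, h2, h3⟩ := hP F.natDegree le_rfl
    have hFdeg : F ∈ degreeLT k (F.natDegree + 1) := by
      rw [mem_degreeLT, degree_eq_natDegree hF.ne_zero]
      exact_mod_cast Nat.lt_succ_self _
    have hFr : rho F u F ∈ degreeLT k (F.natDegree - F.natDegree) := by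
      rw [rho_self F u hF]
      exact Submodule.zero_mem _
    have := uniq_P F u F.natDegree (hu1 _ le_rfl) (P F.natDegree) h1 h2 h3 F hFdeg hFr
    rw [hF.coeff_natDegree, one_smul] at this
    exact this.symm

end Cfsg.Agent.Lib.Helper8.Slk
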