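import Mathlib
import Cfsg.Agent.Lib.Helper8.Slk3
import Cfsg.Agent.Lib.Helper8.Slk5
set_option autoImplicit false
open Matrix Polynomial
universe u v
namespace Cfsg.Agent.Lib.Helper8.Slk

open Cfsg.Agent.Lib.Helper1.SL2Three Cfsg.Agent.Lib.Helper1.Dickson

variable {K : Type v} [Field K] {k : Type u} [Field k] [Algebra k K]

local notation "SL2" => Matrix.SpecialLinearGroup (Fin 2) K
local notation "M2" => Matrix (Fin 2) (Fin 2) K

theorem word_step (α : K) (hα0 : α ≠ 0) (g : SL2) (hg : g ∈ XX k α) (c : k) (hc : c ≠ 0)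
    (Ap Ac An : K) (pp pc pn a b : k) (hpp : pp ≠ 0) (hpc : pc ≠ 0) (hpn : pn ≠ 0) (hb : b ≠ 0)
    (hA : An = (α - algebraMap k K a) * Ac - algebraMap k K b * Ap)
    (hπ : pn = -a * pc - b * pp)
    (h1 : ea g = Ac / algebraMap k K pc)
    (h2 : Ac / algebraMap k K pc - Ap / algebraMap k K pp = algebraMap k K c * α * eb g) :
    ∃ g' ∈ XX k α, ∃ c' : k, c' ≠ 0 ∧ ea g' = An / algebraMap k K pn ∧
      An / algebraMap k K pn - Ac / algebraMap k K pc = algebraMap k K c' * α * eb g' := by
  obtain ⟨c', hc'⟩ : ∃ c' : k, c' = b * pp * c / pn := ⟨_, rfl⟩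
  obtain ⟨s, hs⟩ : ∃ s : k, s = pc / (pn * c') := ⟨_, rfl⟩
  have hc'0 : c' ≠ 0 := by
    rw [hc']
    exact div_ne_zero (mul_ne_zero (mul_ne_zero hb hpp) hc) hpn
  have iP : algebraMap k K pp ≠ 0 := (_root_.map_ne_zero _).mpr hpp
  have iQ : algebraMap k K pc ≠ 0 := (_root_.map_ne_zero _).mpr hpc
  have iN : algebraMap k K pn ≠ 0 := (_root_.map_ne_zero _).mpr hpn
  have iC : algebraMap k K c ≠ 0 := (_root_.map_ne_zero _).mpr hc
  have hN : algebraMap k K pn = -algebraMap k K a * algebraMap k K pc -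
      algebraMap k K b * algebraMap k K pp := by
    rw [hπ, map_sub, map_mul, map_mul, map_neg]
  have hc'K : algebraMap k K c' = algebraMap k K b * algebraMap k K pp * algebraMap k K c /
      algebraMap k K pn := by
    rw [hc', map_div₀, map_mul, map_mul]
  have hsK : algebraMap k K c' * algebraMap k K s = algebraMap k K pc / algebraMap k K pn := by
    rw [← map_mul, ← map_div₀]
    congr 1
    rw [hs]
    field_simp
  have hkey : An / algebraMap k K pn - Ac / algebraMap k K pc =
      algebraMap k K c' * α * (ea g * algebraMap k K s + eb g) := by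
    have e1 : algebraMap k K c' * α * (ea g * algebraMap k K s + eb g) =
        α * ea g * (algebraMap k K c' * algebraMap k K s) +
          (algebraMap k K c' / algebraMap k K c) * (algebraMap k K c * α * eb g) := by
      field_simp
    rw [e1, hsK, ← h2, hc'K, h1, hA]
    have hA' : algebraMap k K a =
        (-algebraMap k K pn - algebraMap k K b * algebraMap k K pp) / algebraMap k K pc := by
      field_simp
      linear_combination hN
    rw [hA']
    field_simp
    ring
  refine ⟨g * xmat K (algebraMap k K s) * ymat K (algebraMap k K c' * α),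
    Subgroup.mul_mem _ (Subgroup.mul_mem _ hg (xmat_mem α s)) (ymat_mem α c'), c', hc'0, ?_, ?_⟩
  · have : ea (g * xmat K (algebraMap k K s) * ymat K (algebraMap k K c' * α)) =
        ea g + algebraMap k K c' * α * (ea g * algebraMap k K s + eb g) := by
      simp only [ea_mul, eb_mul, ea_xmat, eb_xmat, ec_xmat, ed_xmat, ea_ymat, ec_ymat]
      ring
    rw [this, ← hkey, h1]
    ring
  · rw [hkey]
    simp only [ea_mul, eb_mul, ea_xmat, eb_xmat, ec_xmat, ed_xmat, eb_ymat, ed_ymat]
    ring

theorem word_base (α : K) (a0 : k) (ha0 : a0 ≠ 0) :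
    ∃ g ∈ XX k α, ∃ c : k, c ≠ 0 ∧ ea g = (α - algebraMap k K a0) / algebraMap k K (-a0) ∧
      (α - algebraMap k K a0) / algebraMap k K (-a0) - 1 / algebraMap k K 1 =
        algebraMap k K c * α * eb g := by
  have i0 : algebraMap k K a0 ≠ 0 := (_root_.map_ne_zero _).mpr ha0
  refine ⟨xmat K (algebraMap k K (1 / (-a0))) * ymat K (algebraMap k K 1 * α),
    Subgroup.mul_mem _ (xmat_mem α _) (ymat_mem α _), 1, one_ne_zero, ?_, ?_⟩
  · simp only [ea_mul, eb_mul, ea_xmat, eb_xmat, ec_xmat, ed_xmat, ea_ymat, ec_ymat, map_one,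
      map_neg, map_div₀]
    field_simp
    ring
  · simp only [ea_mul, eb_mul, ea_xmat, eb_xmat, ec_xmat, ed_xmat, eb_ymat, ed_ymat, map_one,
      map_neg, map_div₀]
    field_simp
    ring

/-- the infinite case, via the continued-fraction representation of `minpoly - const` -/
theorem exists_of_infinite [Infinite k] (α : K) (hα : IsAlgebraic k α) (hα0 : α ≠ 0) :
    ∃ g ∈ XX k α, ∃ d : k, d ≠ 0 ∧ ec g ^ 2 = algebraMap k K d := by
  have hint := hα.isIntegral
  obtain ⟨f, hf⟩ : ∃ f, f = minpoly k α := ⟨_, rfl⟩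
  have hfm : f.Monic := hf ▸ minpoly.monic hint
  have hf0 : f.coeff 0 ≠ 0 := hf ▸ minpoly.coeff_zero_ne_zero hint hα0
  have hfa : aeval α f = 0 := hf ▸ minpoly.aeval k α
  have hfd : 1 ≤ f.natDegree := hf ▸ minpoly.natDegree_pos hint
  by_cases hm1 : f.natDegree = 1
  · -- α ∈ k
    rw [hf, minpoly.natDegree_eq_one_iff] at hm1
    obtain ⟨a, ha⟩ := hm1
    have ha0 : a ≠ 0 := by
      rintro rfl
      rw [map_zero] at ha
      exact hα0 ha.symm
    refine ⟨wmat K, ?_, 1, one_ne_zero, by simp⟩
    rw [wmat_eq]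
    have h1 : xmat K (-1) ∈ XX k α := by
      have := xmat_mem (k := k) α (-1)
      simpa using this
    have h2 : ymat K 1 ∈ XX k α := by
      have := ymat_mem (k := k) α a⁻¹
      have e : algebraMap k K a⁻¹ * α = 1 := by
        rw [← ha, ← map_mul, inv_mul_cancel₀ ha0, map_one]
      rwa [e] at this
    exact Subgroup.mul_mem _ (Subgroup.mul_mem _ h1 h2) h1
  · have hm2 : 2 ≤ f.natDegree := by omega
    obtain ⟨F, hFdef⟩ : ∃ F, F = f - C (f.coeff 0) := ⟨_, rfl⟩
    have hFm : F.Monic := by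
      rw [hFdef]
      apply hfm.sub_of_left
      rw [degree_eq_natDegree hfm.ne_zero]
      exact lt_of_le_of_lt degree_C_le (by exact_mod_cast hfd)
    have hFd : F.natDegree = f.natDegree := by rw [hFdef, natDegree_sub_C]
    have hF0 : F.coeff 0 = 0 := by
      rw [hFdef]
      simp
    have hFa : aeval α F = -algebraMap k K (f.coeff 0) := by
      rw [hFdef, map_sub, hfa, aeval_C, zero_sub]
    obtain ⟨P, a, b, hP0, hP1, hrec, hb, hπ, hPm⟩ := exists_cf F hFm
    rw [hFd] at hP1 hrec hb hπ hPm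
    have hP1' := hP1 hfd
    have hPm' := hPm hfd
    -- evaluated recurrences
    have hArec : ∀ j, 1 ≤ j → j + 1 ≤ f.natDegree →
        aeval α (P (j + 1)) = (α - algebraMap k K (a j)) * aeval α (P j) -
          algebraMap k K (b j) * aeval α (P (j - 1)) := by
      intro j hj1 hj
      rw [hrec j hj1 hj, map_sub, map_mul, map_mul, map_sub, aeval_X, aeval_C, aeval_C]
    have hπrec : ∀ j, 1 ≤ j → j + 1 ≤ f.natDegree →
        (P (j + 1)).coeff 0 = -a j * (P j).coeff 0 - b j * (P (j - 1)).coeff 0 := by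
      intro j hj1 hj
      rw [hrec j hj1 hj, coeff_sub, mul_coeff_zero, mul_coeff_zero, coeff_sub, coeff_X_zero,
        coeff_C_zero, coeff_C_zero]
      ring
    -- the induction
    have hclaim : ∀ j, 1 ≤ j → j + 1 ≤ f.natDegree → ∃ g ∈ XX k α, ∃ c : k, c ≠ 0 ∧
        ea g = aeval α (P j) / algebraMap k K ((P j).coeff 0) ∧
        aeval α (P j) / algebraMap k K ((P j).coeff 0) -
          aeval α (P (j - 1)) / algebraMap k K ((P (j - 1)).coeff 0) =
            algebraMap k K c * α * eb g := by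
      intro j hj1
      induction j, hj1 using Nat.le_induction with
      | base =>
        intro _
        have hπ1 := hπ 1 (by omega)
        rw [hP1'] at hπ1 ⊢
        have e1 : (X - C (a 0) : k[X]).coeff 0 = -a 0 := by simp
        rw [e1] at hπ1 ⊢
        have ha0 : a 0 ≠ 0 := fun h => hπ1 (by rw [h, neg_zero])
        obtain ⟨g, hg, c, hc, h1, h2⟩ := word_base (k := k) α (a 0) ha0
        refine ⟨g, hg, c, hc, ?_, ?_⟩
        · rw [h1, map_sub, aeval_X, aeval_C]
        · rw [← h2, map_sub, aeval_X, aeval_C]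
          simp [hP0]
      | succ j hj1 ih =>
        intro hj
        obtain ⟨g, hg, c, hc, h1, h2⟩ := ih (by omega)
        have := word_step α hα0 g hg c hc (aeval α (P (j - 1))) (aeval α (P j))
          (aeval α (P (j + 1))) ((P (j - 1)).coeff 0) ((P j).coeff 0) ((P (j + 1)).coeff 0)
          (a j) (b j) (hπ (j - 1) (by omega)) (hπ j (by omega)) (hπ (j + 1) hj)
          (hb j hj1 (by omega)) (hArec j hj1 (by omega)) (hπrec j hj1 (by omega)) h1 h2
        simpa using this
    -- the last step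
    obtain ⟨m, hm⟩ : ∃ m, f.natDegree = m + 2 := ⟨f.natDegree - 2, by omega⟩
    obtain ⟨g, hg, c, hc, h1, h2⟩ := hclaim (m + 1) (by omega) (by omega)
    have hAm := hArec (m + 1) (by omega) (by omega)
    have hπm := hπrec (m + 1) (by omega) (by omega)
    rw [show m + 1 + 1 = f.natDegree by omega, hPm'] at hAm hπm
    rw [hF0] at hπm
    simp only [Nat.add_sub_cancel] at hAm hπm h2
    obtain ⟨g', hg', c', hc', -, h4⟩ := word_step α hα0 g hg c hc (aeval α (P m))
      (aeval α (P (m + 1))) (aeval α F + aeval α (P (m + 1)))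
      ((P m).coeff 0) ((P (m + 1)).coeff 0) ((P (m + 1)).coeff 0)
      (a (m + 1) - 1) (b (m + 1)) (hπ m (by omega)) (hπ (m + 1) (by omega))
      (hπ (m + 1) (by omega)) (hb (m + 1) (by omega) (by omega))
      (by rw [hAm, map_sub, map_one]; ring) (by linear_combination hπm) h1 h2
    have iπ : algebraMap k K ((P (m + 1)).coeff 0) ≠ 0 := (_root_.map_ne_zero _).mpr (hπ (m + 1) (by omega))
    have ic' : algebraMap k K c' ≠ 0 := (_root_.map_ne_zero _).mpr hc'
    have h5 : α * eb g' = algebraMap k K (-f.coeff 0 / ((P (m + 1)).coeff 0 * c')) := by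
      rw [map_div₀, map_neg, map_mul, ← hFa]
      field_simp
      have h6 : (aeval α F + aeval α (P (m + 1))) / algebraMap k K ((P (m + 1)).coeff 0) -
          aeval α (P (m + 1)) / algebraMap k K ((P (m + 1)).coeff 0) =
          aeval α F / algebraMap k K ((P (m + 1)).coeff 0) := by
        field_simp
        ring
      rw [h6] at h4
      field_simp at h4
      linear_combination -h4
    refine ⟨phi α hα0 g', phi_mem α hα0 hg', (-f.coeff 0 / ((P (m + 1)).coeff 0 * c')) ^ 2, ?_, ?_⟩
    · apply pow_ne_zero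
      exact div_ne_zero (neg_ne_zero.mpr hf0) (mul_ne_zero (hπ (m + 1) (by omega)) hc')
    · rw [ec_phi, map_pow, ← h5]
      ring

end Cfsg.Agent.Lib.Helper8.Slk
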