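import Mathlib

set_option autoImplicit false

namespace Cfsg.Agent.Lib.Helper8.Bs

section alg

variable {k : Type*} [Field k] {E : Type*} [Ring E] [Algebra k E]

/-- a submodule closed under multiplication -/
def MulClosed (𝔫 : Submodule k E) : Prop := 𝔫 * 𝔫 ≤ 𝔫

/-- a nilpotent submodule -/
def Nilp (𝔫 : Submodule k E) : Prop := ∃ c : ℕ, 𝔫 ^ c = ⊥

theorem mulClosed_iff {𝔫 : Submodule k E} :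
    MulClosed 𝔫 ↔ ∀ x ∈ 𝔫, ∀ y ∈ 𝔫, x * y ∈ 𝔫 := Submodule.mul_le

theorem pow_succ_le {𝔫 : Submodule k E} (h : MulClosed 𝔫) (j : ℕ) : 𝔫 ^ (j + 2) ≤ 𝔫 ^ (j + 1) := by
  rw [pow_succ, pow_succ, mul_assoc]
  exact mul_le_mul' le_rfl h

theorem pow_anti {𝔫 : Submodule k E} (h : MulClosed 𝔫) {i j : ℕ} (hi : 1 ≤ i) (hij : i ≤ j) :
    𝔫 ^ j ≤ 𝔫 ^ i := by
  induction j, hij using Nat.le_induction with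
  | base => exact le_rfl
  | succ j hj ih =>
    obtain ⟨j', rfl⟩ : ∃ j', j = j' + 1 := ⟨j - 1, by omega⟩
    exact (pow_succ_le h j').trans ih

theorem pow_le_self {𝔫 : Submodule k E} (h : MulClosed 𝔫) {j : ℕ} (hj : 1 ≤ j) : 𝔫 ^ j ≤ 𝔫 := by
  have := pow_anti h (le_refl 1) hj
  rwa [pow_one] at this

theorem pow_eq_bot_of_le {𝔫 : Submodule k E} {c j : ℕ} (hc : 𝔫 ^ c = ⊥) (hj : c ≤ j) :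
    𝔫 ^ j = ⊥ := by
  obtain ⟨d, rfl⟩ := Nat.exists_eq_add_of_le hj
  rw [pow_add, hc, Submodule.bot_mul]

theorem Nilp.mono {𝔪 𝔫 : Submodule k E} (h : 𝔪 ≤ 𝔫) (hn : Nilp 𝔫) : Nilp 𝔪 := by
  obtain ⟨c, hc⟩ := hn
  exact ⟨c, le_bot_iff.1 (hc ▸ pow_le_pow_left' h c)⟩

/-- the multiplicatively closed submodule generated by a set -/
def alg (S : Set E) : Submodule k E := sInf {𝔫 : Submodule k E | S ⊆ 𝔫 ∧ 𝔫 * 𝔫 ≤ 𝔫}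

theorem subset_alg (S : Set E) : S ⊆ (alg (k := k) S : Set E) := by
  intro x hx
  unfold alg
  rw [SetLike.mem_coe, Submodule.mem_sInf]
  exact fun 𝔫 h𝔫 => h𝔫.1 hx

theorem alg_le {S : Set E} {𝔫 : Submodule k E} (hS : S ⊆ 𝔫) (h𝔫 : MulClosed 𝔫) :
    alg (k := k) S ≤ 𝔫 := sInf_le ⟨hS, h𝔫⟩

theorem alg_mulClosed (S : Set E) : MulClosed (alg (k := k) S) := by
  rw [mulClosed_iff]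
  intro x hx y hy
  unfold alg at hx hy ⊢
  rw [Submodule.mem_sInf] at hx hy ⊢
  intro 𝔫 h𝔫
  exact h𝔫.2 (Submodule.mul_mem_mul (hx 𝔫 h𝔫) (hy 𝔫 h𝔫))

theorem alg_mono {S T : Set E} (h : S ⊆ T) : alg (k := k) S ≤ alg (k := k) T :=
  alg_le (h.trans (subset_alg T)) (alg_mulClosed T)

theorem list_prod_mem_pow {𝔫 : Submodule k E} :
    ∀ l : List E, (∀ x ∈ l, x ∈ 𝔫) → l.prod ∈ 𝔫 ^ l.length := by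
  intro l
  induction l with
  | nil =>
    intro _
    rw [List.prod_nil, List.length_nil, pow_zero]
    exact Submodule.one_le.1 le_rfl
  | cons a l ih =>
    intro h
    rw [List.prod_cons, List.length_cons, pow_succ']
    exact Submodule.mul_mem_mul (h a (List.mem_cons_self ..))
      (ih fun x hx => h x (List.mem_cons_of_mem _ hx))

/-- extension of a nilpotent algebra by a nilpotent algebra "normalizing" it -/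
theorem nilp_ext {𝔯 𝔥 : Submodule k E} (hr : MulClosed 𝔯) (hh : MulClosed 𝔥) {a b : ℕ}
    (ha : 𝔯 ^ a = ⊥) (hb : 𝔥 ^ b = ⊥) (hn : 𝔥 * 𝔯 ≤ 𝔯 * (1 ⊔ 𝔥)) :
    MulClosed (𝔥 ⊔ 𝔯 * (1 ⊔ 𝔥)) ∧ Nilp (𝔥 ⊔ 𝔯 * (1 ⊔ 𝔥)) ∧ 𝔯 ≤ 𝔥 ⊔ 𝔯 * (1 ⊔ 𝔥) ∧
      𝔥 ≤ 𝔥 ⊔ 𝔯 * (1 ⊔ 𝔥) := by
  obtain ⟨𝔨, h𝔨⟩ : ∃ 𝔨 : Submodule k E, 𝔨 = 1 ⊔ 𝔥 := ⟨_, rfl⟩
  rw [← h𝔨] at hn ⊢
  have h1𝔨 : (1 : Submodule k E) ≤ 𝔨 := h𝔨 ▸ le_sup_left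
  have hh𝔨 : 𝔥 ≤ 𝔨 := h𝔨 ▸ le_sup_right
  have h𝔨𝔨 : 𝔨 * 𝔨 ≤ 𝔨 := by
    rw [h𝔨, Submodule.mul_sup, Submodule.sup_mul, Submodule.sup_mul, one_mul, one_mul, mul_one]
    exact sup_le (sup_le le_sup_left le_sup_right) (sup_le le_sup_right (hh.trans le_sup_right))
  have h𝔯𝔨 : 𝔯 ≤ 𝔯 * 𝔨 := by
    calc 𝔯 = 𝔯 * 1 := (mul_one 𝔯).symm
      _ ≤ 𝔯 * 𝔨 := mul_le_mul' le_rfl h1𝔨
  have h𝔨𝔯 : 𝔨 * 𝔯 ≤ 𝔯 * 𝔨 := by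
    have e : 𝔨 * 𝔯 = 𝔯 ⊔ 𝔥 * 𝔯 := by rw [h𝔨, Submodule.sup_mul, one_mul]
    rw [e]
    exact sup_le h𝔯𝔨 hn
  obtain ⟨𝔲, h𝔲⟩ : ∃ 𝔲 : Submodule k E, 𝔲 = 𝔯 * 𝔨 := ⟨_, rfl⟩
  rw [← h𝔲] at h𝔯𝔨 ⊢
  have h𝔨𝔲 : 𝔨 * 𝔲 ≤ 𝔲 := by
    calc 𝔨 * 𝔲 = (𝔨 * 𝔯) * 𝔨 := by rw [h𝔲, mul_assoc]
      _ ≤ (𝔯 * 𝔨) * 𝔨 := mul_le_mul' h𝔨𝔯 le_rfl
      _ = 𝔯 * (𝔨 * 𝔨) := mul_assoc _ _ _
      _ ≤ 𝔯 * 𝔨 := mul_le_mul' le_rfl h𝔨𝔨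
      _ = 𝔲 := h𝔲.symm
  have h𝔲𝔨 : 𝔲 * 𝔨 ≤ 𝔲 := by
    calc 𝔲 * 𝔨 = 𝔯 * (𝔨 * 𝔨) := by rw [h𝔲, mul_assoc]
      _ ≤ 𝔯 * 𝔨 := mul_le_mul' le_rfl h𝔨𝔨
      _ = 𝔲 := h𝔲.symm
  have h𝔯𝔲' : 𝔯 * 𝔲 ≤ 𝔲 := by
    calc 𝔯 * 𝔲 = (𝔯 * 𝔯) * 𝔨 := by rw [h𝔲, mul_assoc]
      _ ≤ 𝔯 * 𝔨 := mul_le_mul' hr le_rfl
      _ = 𝔲 := h𝔲.symm
  have h𝔲𝔲 : 𝔲 * 𝔲 ≤ 𝔲 := by
    calc 𝔲 * 𝔲 = 𝔯 * (𝔨 * 𝔲) := by rw [h𝔲, mul_assoc]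
      _ ≤ 𝔯 * 𝔲 := mul_le_mul' le_rfl h𝔨𝔲
      _ ≤ 𝔲 := h𝔯𝔲'
  have h𝔥𝔲 : 𝔥 * 𝔲 ≤ 𝔲 := (mul_le_mul' hh𝔨 le_rfl).trans h𝔨𝔲
  have h𝔲𝔥 : 𝔲 * 𝔥 ≤ 𝔲 := (mul_le_mul' le_rfl hh𝔨).trans h𝔲𝔨
  have hmc : MulClosed (𝔥 ⊔ 𝔲) := by
    unfold MulClosed
    rw [Submodule.mul_sup, Submodule.sup_mul, Submodule.sup_mul]
    exact sup_le (sup_le (hh.trans le_sup_left) (h𝔲𝔥.trans le_sup_right))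
      (sup_le (h𝔥𝔲.trans le_sup_right) (h𝔲𝔲.trans le_sup_right))
  have h3 : ∀ j : ℕ, 𝔲 ^ (j + 1) ≤ 𝔯 ^ (j + 1) * 𝔨 := by
    intro j
    induction j with
    | zero => rw [zero_add, pow_one, pow_one, h𝔲]
    | succ j ih =>
      calc 𝔲 ^ (j + 1 + 1) = 𝔲 ^ (j + 1) * 𝔲 := pow_succ _ _
        _ ≤ (𝔯 ^ (j + 1) * 𝔨) * (𝔯 * 𝔨) := mul_le_mul' ih h𝔲.le
        _ = 𝔯 ^ (j + 1) * ((𝔨 * 𝔯) * 𝔨) := by simp only [mul_assoc]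
        _ ≤ 𝔯 ^ (j + 1) * ((𝔯 * 𝔨) * 𝔨) := mul_le_mul' le_rfl (mul_le_mul' h𝔨𝔯 le_rfl)
        _ = 𝔯 ^ (j + 1 + 1) * (𝔨 * 𝔨) := by rw [pow_succ 𝔯 (j + 1)]; simp only [mul_assoc]
        _ ≤ 𝔯 ^ (j + 1 + 1) * 𝔨 := mul_le_mul' le_rfl h𝔨𝔨
  have h4 : ∀ j : ℕ, (𝔥 ⊔ 𝔲) ^ (j + 1) ≤ 𝔥 ^ (j + 1) ⊔ 𝔲 := by
    intro j
    induction j with
    | zero => rw [zero_add, pow_one, pow_one]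
    | succ j ih =>
      have h5 : 𝔥 ^ (j + 1) * 𝔲 ≤ 𝔲 :=
        (mul_le_mul' ((pow_le_self hh (by omega)).trans hh𝔨) le_rfl).trans h𝔨𝔲
      calc (𝔥 ⊔ 𝔲) ^ (j + 1 + 1) = (𝔥 ⊔ 𝔲) ^ (j + 1) * (𝔥 ⊔ 𝔲) := pow_succ _ _
        _ ≤ (𝔥 ^ (j + 1) ⊔ 𝔲) * (𝔥 ⊔ 𝔲) := mul_le_mul' ih le_rfl
        _ = (𝔥 ^ (j + 1) * 𝔥 ⊔ 𝔲 * 𝔥) ⊔ (𝔥 ^ (j + 1) * 𝔲 ⊔ 𝔲 * 𝔲) := by
          rw [Submodule.mul_sup, Submodule.sup_mul, Submodule.sup_mul]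
        _ ≤ 𝔥 ^ (j + 1 + 1) ⊔ 𝔲 := by
          rw [← pow_succ]
          exact sup_le (sup_le le_sup_left (h𝔲𝔥.trans le_sup_right))
            (sup_le (h5.trans le_sup_right) (h𝔲𝔲.trans le_sup_right))
  refine ⟨hmc, ⟨(b + 1) * (a + 1), ?_⟩, h𝔯𝔨.trans le_sup_right, le_sup_left⟩
  rw [pow_mul, ← le_bot_iff]
  have h6 : (𝔥 ⊔ 𝔲) ^ (b + 1) ≤ 𝔲 := by
    refine (h4 b).trans ?_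
    rw [pow_eq_bot_of_le hb (Nat.le_succ b)]
    exact sup_le bot_le le_rfl
  calc ((𝔥 ⊔ 𝔲) ^ (b + 1)) ^ (a + 1) ≤ 𝔲 ^ (a + 1) := pow_le_pow_left' h6 _
    _ ≤ 𝔯 ^ (a + 1) * 𝔨 := h3 a
    _ = ⊥ := by rw [pow_eq_bot_of_le ha (Nat.le_succ a), Submodule.bot_mul]

/-- a bounded natural-valued function on a nonempty set attains a maximum -/
theorem exists_max {α : Type*} (S : Set α) (hne : S.Nonempty) (f : α → ℕ) (b : ℕ)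
    (hb : ∀ x ∈ S, f x ≤ b) : ∃ x ∈ S, ∀ y ∈ S, f y ≤ f x := by
  by_contra hcon
  push Not at hcon
  have key : ∀ n : ℕ, ∃ x ∈ S, n ≤ f x := by
    intro n
    induction n with
    | zero =>
      obtain ⟨x, hx⟩ := hne
      exact ⟨x, hx, Nat.zero_le _⟩
    | succ n ih =>
      obtain ⟨x, hx, hn⟩ := ih
      obtain ⟨y, hy, hxy⟩ := hcon x hx
      exact ⟨y, hy, by omega⟩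
  obtain ⟨x, hx, h1⟩ := key (b + 1)
  have := hb x hx
  omega

end alg

end Cfsg.Agent.Lib.Helper8.Bs
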