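import Mathlib
import Cfsg.Prelude.Def_RootSubgroups
import Cfsg.Agent.Lib.Helper8.Bs1
import Cfsg.Agent.Lib.Helper4.RankOneGrp

set_option autoImplicit false

namespace Cfsg.Agent.Lib.Helper8.Bs

open Cfsg
open Cfsg.Agent.Lib.Helper4.RankOneGrp

variable {k : Type*} [Field k] {M : Type*} [AddCommGroup M] [Module k M]

/-- `g - 1` as an endomorphism -/
def dl (g : LinearMap.GeneralLinearGroup k M) : Module.End k M := (g : M →ₗ[k] M) - 1

theorem dl_one : dl (1 : LinearMap.GeneralLinearGroup k M) = 0 := by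
  unfold dl
  rw [Units.val_one, sub_self]

theorem dl_mul (g h : LinearMap.GeneralLinearGroup k M) :
    dl (g * h) = dl g * dl h + dl g + dl h := by
  unfold dl
  rw [Units.val_mul]
  noncomm_ring

theorem val_eq (g : LinearMap.GeneralLinearGroup k M) :
    ((g : LinearMap.GeneralLinearGroup k M) : Module.End k M) = 1 + dl g := by
  unfold dl
  abel

/-- conjugation by `g` on endomorphisms -/
def cj (g : LinearMap.GeneralLinearGroup k M) : Module.End k M →ₗ[k] Module.End k M :=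
  (LinearMap.mulLeft k ((g : LinearMap.GeneralLinearGroup k M) : Module.End k M)).comp
    (LinearMap.mulRight k ((g⁻¹ : LinearMap.GeneralLinearGroup k M) : Module.End k M))

theorem cj_apply (g : LinearMap.GeneralLinearGroup k M) (y : Module.End k M) :
    cj g y = (g : Module.End k M) * (y * ((g⁻¹ : LinearMap.GeneralLinearGroup k M) : Module.End k M)) :=
  rfl

theorem cj_mul (g : LinearMap.GeneralLinearGroup k M) (y z : Module.End k M) :
    cj g (y * z) = cj g y * cj g z := by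
  rw [cj_apply, cj_apply, cj_apply]
  have e : ((g⁻¹ : LinearMap.GeneralLinearGroup k M) : Module.End k M) * (g : Module.End k M) = 1 := by
    rw [← Units.val_mul, inv_mul_cancel, Units.val_one]
  calc (g : Module.End k M) * (y * z * ((g⁻¹ : LinearMap.GeneralLinearGroup k M) : Module.End k M))
      = (g : Module.End k M) * (y * (1 * (z * ((g⁻¹ : LinearMap.GeneralLinearGroup k M) : Module.End k M)))) := by
        rw [one_mul, mul_assoc]
    _ = _ := by rw [← e]; simp only [mul_assoc]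

theorem cj_dl (g h : LinearMap.GeneralLinearGroup k M) : cj g (dl h) = dl (g * h * g⁻¹) := by
  rw [cj_apply]
  unfold dl
  rw [Units.val_mul, Units.val_mul, sub_mul, mul_sub, one_mul, ← Units.val_mul g g⁻¹, mul_inv_cancel,
    Units.val_one, mul_assoc]

theorem cj_mul_val (g : LinearMap.GeneralLinearGroup k M) (y : Module.End k M) :
    cj g y * (g : Module.End k M) = (g : Module.End k M) * y := by
  rw [cj_apply, mul_assoc, mul_assoc, ← Units.val_mul, inv_mul_cancel, Units.val_one, mul_one]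

/-- the span of the `g - 1`, `g ∈ H` -/
def aug (H : Subgroup (LinearMap.GeneralLinearGroup k M)) : Submodule k (Module.End k M) :=
  Submodule.span k (dl '' (H : Set (LinearMap.GeneralLinearGroup k M)))

theorem dl_mem_aug {H : Subgroup (LinearMap.GeneralLinearGroup k M)}
    {g : LinearMap.GeneralLinearGroup k M} (hg : g ∈ H) : dl g ∈ aug H :=
  Submodule.subset_span ⟨g, hg, rfl⟩

theorem aug_mulClosed (H : Subgroup (LinearMap.GeneralLinearGroup k M)) : MulClosed (aug H) := by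
  rw [mulClosed_iff]
  intro x hx y hy
  unfold aug at hx
  induction hx using Submodule.span_induction with
  | mem x hx =>
    obtain ⟨g, hg, rfl⟩ := hx
    unfold aug at hy
    induction hy using Submodule.span_induction with
    | mem y hy =>
      obtain ⟨h, hh, rfl⟩ := hy
      have e1 : dl g * dl h = dl (g * h) - dl g - dl h := by
        rw [dl_mul]
        abel
      rw [e1]
      exact Submodule.sub_mem _ (Submodule.sub_mem _ (dl_mem_aug (mul_mem hg hh)) (dl_mem_aug hg))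
        (dl_mem_aug hh)
    | zero => rw [mul_zero]; exact zero_mem _
    | add y z _ _ hy hz => rw [mul_add]; exact add_mem hy hz
    | smul c y _ hy => rw [mul_smul_comm]; exact Submodule.smul_mem _ c hy
  | zero => rw [zero_mul]; exact zero_mem _
  | add x z _ _ hx hz => rw [add_mul]; exact add_mem hx hz
  | smul c x _ hx => rw [smul_mul_assoc]; exact Submodule.smul_mem _ c hx

theorem unip_iff (H : Subgroup (LinearMap.GeneralLinearGroup k M)) :
    IsUnipotentOn H ↔ ∃ n : ℕ, ∀ l : List (LinearMap.GeneralLinearGroup k M),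
      (∀ g ∈ l, g ∈ H) → l.length = n → (l.map dl).prod = 0 := by
  have e : ∀ l : List (LinearMap.GeneralLinearGroup k M),
      (List.map (fun g : M →ₗ[k] M => g - 1) (do let a ← l; pure (a : M →ₗ[k] M))) =
        l.map dl := by
    intro l
    unfold dl
    simp only [List.pure_def, List.bind_eq_flatMap]
    induction l with
    | nil => rfl
    | cons a l ih => simp [ih]
  constructor
  · rintro ⟨n, hn⟩
    refine ⟨n, fun l hl hlen => ?_⟩
    have h1 := hn l hl hlen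
    rwa [e] at h1
  · rintro ⟨n, hn⟩
    refine ⟨n, fun l hl hlen => ?_⟩
    have h1 := hn l hl hlen
    rwa [← e] at h1

theorem aug_nilp_of_unip {H : Subgroup (LinearMap.GeneralLinearGroup k M)}
    (h : IsUnipotentOn H) : Nilp (aug H) := by
  obtain ⟨n, hn⟩ := (unip_iff H).1 h
  refine ⟨n, ?_⟩
  unfold aug
  rw [Submodule.span_pow, Submodule.span_eq_bot]
  intro x hx
  rw [Set.mem_pow] at hx
  obtain ⟨f, rfl⟩ := hx
  choose g hg hfg using fun i => (f i).2
  have h1 := hn (List.ofFn g) (by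
    intro y hy
    rw [List.mem_ofFn] at hy
    obtain ⟨i, rfl⟩ := hy
    exact hg i) (List.length_ofFn)
  rw [List.map_ofFn] at h1
  have e : (fun i => ((f i : Module.End k M))) = (dl ∘ g) := by
    funext i
    exact (hfg i).symm
  rw [e]
  exact h1

theorem unip_of_le {H : Subgroup (LinearMap.GeneralLinearGroup k M)}
    {𝔫 : Submodule k (Module.End k M)} (hH : ∀ g ∈ H, dl g ∈ 𝔫) (hn : Nilp 𝔫) :
    IsUnipotentOn H := by
  obtain ⟨c, hc⟩ := hn
  rw [unip_iff]
  refine ⟨c, fun l hl hlen => ?_⟩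
  have h1 := list_prod_mem_pow (𝔫 := 𝔫) (l.map dl) (by
    intro x hx
    rw [List.mem_map] at hx
    obtain ⟨g, hg, rfl⟩ := hx
    exact hH g (hl g hg))
  rw [List.length_map, hlen, hc] at h1
  exact (Submodule.mem_bot k).1 h1

/-- the group of `g` with `g - 1` and `g⁻¹ - 1` in a multiplicatively closed submodule -/
def Kp (𝔫 : Submodule k (Module.End k M)) (hm : MulClosed 𝔫) :
    Subgroup (LinearMap.GeneralLinearGroup k M) where
  carrier := {g | dl g ∈ 𝔫 ∧ dl g⁻¹ ∈ 𝔫}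
  mul_mem' := by
    rintro g h ⟨hg, hg'⟩ ⟨hh, hh'⟩
    refine ⟨?_, ?_⟩
    · rw [dl_mul]
      exact add_mem (add_mem (mulClosed_iff.1 hm _ hg _ hh) hg) hh
    · rw [mul_inv_rev, dl_mul]
      exact add_mem (add_mem (mulClosed_iff.1 hm _ hh' _ hg') hh') hg'
  one_mem' := by
    refine ⟨?_, ?_⟩
    · rw [dl_one]; exact zero_mem _
    · rw [inv_one, dl_one]; exact zero_mem _
  inv_mem' := by
    rintro g ⟨hg, hg'⟩
    exact ⟨hg', by rwa [inv_inv]⟩

/-- the members of `W` inside `1 + 𝔫` -/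
def Wn (W : Set (Subgroup (LinearMap.GeneralLinearGroup k M)))
    (𝔫 : Submodule k (Module.End k M)) : Set (Subgroup (LinearMap.GeneralLinearGroup k M)) :=
  {A | A ∈ W ∧ ∀ g ∈ A, dl g ∈ 𝔫}

/-- the generators attached to a set of subgroups -/
def gens (𝒰 : Set (Subgroup (LinearMap.GeneralLinearGroup k M))) : Set (Module.End k M) :=
  {x | ∃ A ∈ 𝒰, ∃ g ∈ A, x = dl g}

/-- the algebra generated by a set of subgroups -/
def algW (𝒰 : Set (Subgroup (LinearMap.GeneralLinearGroup k M))) : Submodule k (Module.End k M) :=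
  alg (k := k) (gens 𝒰)

theorem gens_mono {𝒰 𝒱 : Set (Subgroup (LinearMap.GeneralLinearGroup k M))} (h : 𝒰 ⊆ 𝒱) :
    gens 𝒰 ⊆ gens 𝒱 := by
  rintro x ⟨A, hA, g, hg, rfl⟩
  exact ⟨A, h hA, g, hg, rfl⟩

theorem algW_mono {𝒰 𝒱 : Set (Subgroup (LinearMap.GeneralLinearGroup k M))} (h : 𝒰 ⊆ 𝒱) :
    algW 𝒰 ≤ algW 𝒱 := alg_mono (gens_mono h)

theorem dl_mem_algW {𝒰 : Set (Subgroup (LinearMap.GeneralLinearGroup k M))}
    {A : Subgroup (LinearMap.GeneralLinearGroup k M)} (hA : A ∈ 𝒰)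
    {g : LinearMap.GeneralLinearGroup k M} (hg : g ∈ A) : dl g ∈ algW 𝒰 :=
  subset_alg _ ⟨A, hA, g, hg, rfl⟩

variable {W : Set (Subgroup (LinearMap.GeneralLinearGroup k M))}

theorem Wn_mono {𝔪 𝔫 : Submodule k (Module.End k M)} (h : 𝔪 ≤ 𝔫) : Wn W 𝔪 ⊆ Wn W 𝔫 :=
  fun _ hA => ⟨hA.1, fun g hg => h (hA.2 g hg)⟩

theorem gens_Wn_subset (𝔫 : Submodule k (Module.End k M)) : gens (Wn W 𝔫) ⊆ 𝔫 := by
  rintro x ⟨A, hA, g, hg, rfl⟩
  exact hA.2 g hg

theorem algW_Wn_le {𝔫 : Submodule k (Module.End k M)} (h : MulClosed 𝔫) : algW (Wn W 𝔫) ≤ 𝔫 :=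
  alg_le (gens_Wn_subset 𝔫) h

theorem subset_Wn_algW {𝒰 : Set (Subgroup (LinearMap.GeneralLinearGroup k M))} (h𝒰 : 𝒰 ⊆ W) :
    𝒰 ⊆ Wn W (algW 𝒰) :=
  fun _ hA => ⟨h𝒰 hA, fun _ hg => dl_mem_algW hA hg⟩

/-- nilpotent algebras generated by members of `W` -/
def InA (W : Set (Subgroup (LinearMap.GeneralLinearGroup k M)))
    (𝔫 : Submodule k (Module.End k M)) : Prop := Nilp 𝔫 ∧ algW (Wn W 𝔫) = 𝔫

theorem InA.mulClosed {𝔫 : Submodule k (Module.End k M)} (h : InA W 𝔫) : MulClosed 𝔫 := by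
  rw [← h.2]
  exact alg_mulClosed _

theorem inA_algW {𝒰 : Set (Subgroup (LinearMap.GeneralLinearGroup k M))} (h𝒰 : 𝒰 ⊆ W)
    (hn : Nilp (algW 𝒰)) : InA W (algW 𝒰) :=
  ⟨hn, le_antisymm (algW_Wn_le (alg_mulClosed _)) (algW_mono (subset_Wn_algW h𝒰))⟩

/-- maximal members -/
def IsMaxA (W : Set (Subgroup (LinearMap.GeneralLinearGroup k M)))
    (𝔪 : Submodule k (Module.End k M)) : Prop :=
  InA W 𝔪 ∧ ∀ 𝔫, InA W 𝔫 → 𝔪 ≤ 𝔫 → 𝔫 = 𝔪

theorem exists_maxA_ge [FiniteDimensional k M] {𝔫₀ : Submodule k (Module.End k M)}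
    (h : InA W 𝔫₀) : ∃ 𝔪, IsMaxA W 𝔪 ∧ 𝔫₀ ≤ 𝔪 := by
  obtain ⟨𝔪, ⟨h𝔪, h0⟩, hmax⟩ := exists_max {𝔫 : Submodule k (Module.End k M) | InA W 𝔫 ∧ 𝔫₀ ≤ 𝔫}
    ⟨𝔫₀, h, le_rfl⟩ (fun 𝔫 => Module.finrank k 𝔫) (Module.finrank k (Module.End k M))
    (fun 𝔫 _ => Submodule.finrank_le 𝔫)
  refine ⟨𝔪, ⟨h𝔪, fun 𝔫 h𝔫 hle => ?_⟩, h0⟩
  exact (Submodule.eq_of_le_of_finrank_le hle (hmax 𝔫 ⟨h𝔫, h0.trans hle⟩)).symm

end Cfsg.Agent.Lib.Helper8.Bs
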