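import Mathlib
import Cfsg.Agent.Lib.Helper8.Bs2

set_option autoImplicit false

namespace Cfsg.Agent.Lib.Helper8.Bs

open Cfsg
open Cfsg.Agent.Lib.Helper4.RankOneGrp

variable {k : Type*} [Field k] {M : Type*} [AddCommGroup M] [Module k M]

theorem cj_one (y : Module.End k M) : cj (1 : LinearMap.GeneralLinearGroup k M) y = y := by
  rw [cj_apply, inv_one, Units.val_one, one_mul, mul_one]

theorem cj_comp (g h : LinearMap.GeneralLinearGroup k M) (y : Module.End k M) :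
    cj (g * h) y = cj g (cj h y) := by
  rw [cj_apply, cj_apply, cj_apply, mul_inv_rev, Units.val_mul, Units.val_mul]
  simp only [mul_assoc]

/-- the normalizer of a submodule of endomorphisms -/
def Nz (𝔯 : Submodule k (Module.End k M)) : Subgroup (LinearMap.GeneralLinearGroup k M) where
  carrier := {g | (∀ y ∈ 𝔯, cj g y ∈ 𝔯) ∧ ∀ y ∈ 𝔯, cj g⁻¹ y ∈ 𝔯}
  mul_mem' := by
    rintro g h ⟨hg, hg'⟩ ⟨hh, hh'⟩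
    refine ⟨fun y hy => ?_, fun y hy => ?_⟩
    · rw [cj_comp]
      exact hg _ (hh y hy)
    · rw [mul_inv_rev, cj_comp]
      exact hh' _ (hg' y hy)
  one_mem' := by
    refine ⟨fun y hy => ?_, fun y hy => ?_⟩
    · rwa [cj_one]
    · rwa [inv_one, cj_one]
  inv_mem' := by
    rintro g ⟨hg, hg'⟩
    exact ⟨hg', by rwa [inv_inv]⟩

theorem ideal_conj {𝔰 𝔞 : Submodule k (Module.End k M)} (h1 : 𝔞 * 𝔰 ≤ 𝔰) (h2 : 𝔰 * 𝔞 ≤ 𝔰)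
    {g : LinearMap.GeneralLinearGroup k M} (hg : dl g ∈ 𝔞) (hg' : dl g⁻¹ ∈ 𝔞)
    {y : Module.End k M} (hy : y ∈ 𝔰) : cj g y ∈ 𝔰 := by
  rw [cj_apply, val_eq g, val_eq g⁻¹]
  have e : (1 + dl g) * (y * (1 + dl g⁻¹)) =
      y + y * dl g⁻¹ + dl g * y + dl g * (y * dl g⁻¹) := by noncomm_ring
  rw [e]
  have hy2 : y * dl g⁻¹ ∈ 𝔰 := h2 (Submodule.mul_mem_mul hy hg')
  exact add_mem (add_mem (add_mem hy hy2) (h1 (Submodule.mul_mem_mul hg hy)))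
    (h1 (Submodule.mul_mem_mul hg hy2))

theorem chain_ideal {𝔭 𝔯 : Submodule k (Module.End k M)} (hp : MulClosed 𝔭) (hr : MulClosed 𝔯)
    (hr𝔭 : 𝔯 ≤ 𝔭) {i : ℕ} (hi : 1 ≤ i) :
    (𝔯 ⊔ 𝔭 ^ i) * (𝔯 ⊔ 𝔭 ^ (i + 1)) ≤ 𝔯 ⊔ 𝔭 ^ (i + 1) ∧
      (𝔯 ⊔ 𝔭 ^ (i + 1)) * (𝔯 ⊔ 𝔭 ^ i) ≤ 𝔯 ⊔ 𝔭 ^ (i + 1) := by
  have h1 : 𝔯 * 𝔭 ^ (i + 1) ≤ 𝔭 ^ (i + 1) := by
    calc 𝔯 * 𝔭 ^ (i + 1) ≤ 𝔭 * 𝔭 ^ (i + 1) := mul_le_mul' hr𝔭 le_rfl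
      _ = 𝔭 ^ (i + 1 + 1) := (pow_succ' _ _).symm
      _ ≤ 𝔭 ^ (i + 1) := pow_anti hp (by omega) (by omega)
  have h2 : 𝔭 ^ i * 𝔯 ≤ 𝔭 ^ (i + 1) := by
    calc 𝔭 ^ i * 𝔯 ≤ 𝔭 ^ i * 𝔭 := mul_le_mul' le_rfl hr𝔭
      _ = 𝔭 ^ (i + 1) := (pow_succ _ _).symm
  have h3 : 𝔭 ^ i * 𝔭 ^ (i + 1) ≤ 𝔭 ^ (i + 1) := by
    rw [← pow_add]
    exact pow_anti hp (by omega) (by omega)
  have h4 : 𝔯 * 𝔭 ^ i ≤ 𝔭 ^ (i + 1) := by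
    calc 𝔯 * 𝔭 ^ i ≤ 𝔭 * 𝔭 ^ i := mul_le_mul' hr𝔭 le_rfl
      _ = 𝔭 ^ (i + 1) := (pow_succ' _ _).symm
  have h5 : 𝔭 ^ (i + 1) * 𝔯 ≤ 𝔭 ^ (i + 1) := by
    calc 𝔭 ^ (i + 1) * 𝔯 ≤ 𝔭 ^ (i + 1) * 𝔭 := mul_le_mul' le_rfl hr𝔭
      _ = 𝔭 ^ (i + 1 + 1) := (pow_succ _ _).symm
      _ ≤ 𝔭 ^ (i + 1) := pow_anti hp (by omega) (by omega)
  have h6 : 𝔭 ^ (i + 1) * 𝔭 ^ i ≤ 𝔭 ^ (i + 1) := by
    rw [← pow_add]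
    exact pow_anti hp (by omega) (by omega)
  constructor
  · rw [Submodule.mul_sup, Submodule.sup_mul, Submodule.sup_mul]
    exact sup_le (sup_le (hr.trans le_sup_left) (h2.trans le_sup_right))
      (sup_le (h1.trans le_sup_right) (h3.trans le_sup_right))
  · rw [Submodule.mul_sup, Submodule.sup_mul, Submodule.sup_mul]
    exact sup_le (sup_le (hr.trans le_sup_left) (h5.trans le_sup_right))
      (sup_le (h4.trans le_sup_right) (h6.trans le_sup_right))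

variable {G : Subgroup (LinearMap.GeneralLinearGroup k M)}
  {W : Set (Subgroup (LinearMap.GeneralLinearGroup k M))}

theorem exists_normalizing (hWG : ∀ A ∈ W, A ≤ G) (hWconj : ∀ A ∈ W, ∀ g ∈ G, conjBy A g ∈ W)
    {𝔭 𝔯 : Submodule k (Module.End k M)} (hp : MulClosed 𝔭) (hpn : Nilp 𝔭) (hr : MulClosed 𝔯)
    (hr𝔭 : 𝔯 ≤ 𝔭) (hrgen : algW (Wn W 𝔯) = 𝔯) (hne : ¬ (Wn W 𝔭 ⊆ Wn W 𝔯)) :
    ∃ A ∈ Wn W 𝔭, A ∉ Wn W 𝔯 ∧ A ≤ Nz 𝔯 := by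
  obtain ⟨c, hc⟩ := hpn
  have hP1 : ¬ (Wn W (𝔯 ⊔ 𝔭 ^ 1) ⊆ Wn W 𝔯) := by rwa [pow_one, sup_eq_right.2 hr𝔭]
  have hPc : Wn W (𝔯 ⊔ 𝔭 ^ (c + 1)) ⊆ Wn W 𝔯 := by
    rw [pow_eq_bot_of_le hc (Nat.le_succ c), sup_bot_eq]
  obtain ⟨i, hi1, hnP, hP⟩ : ∃ i, 1 ≤ i ∧ ¬ (Wn W (𝔯 ⊔ 𝔭 ^ i) ⊆ Wn W 𝔯) ∧
      Wn W (𝔯 ⊔ 𝔭 ^ (i + 1)) ⊆ Wn W 𝔯 := by
    by_contra hcon
    push Not at hcon
    have hall : ∀ i, 1 ≤ i → ¬ (Wn W (𝔯 ⊔ 𝔭 ^ i) ⊆ Wn W 𝔯) := by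
      intro i hi
      induction i, hi using Nat.le_induction with
      | base => exact hP1
      | succ i hi ih => exact hcon i hi ih
    exact hall (c + 1) (by omega) hPc
  rw [Set.not_subset] at hnP
  obtain ⟨A, hA, hAr⟩ := hnP
  refine ⟨A, Wn_mono (sup_le hr𝔭 (pow_le_self hp hi1)) hA, hAr, ?_⟩
  obtain ⟨hid1, hid2⟩ := chain_ideal hp hr hr𝔭 hi1
  have hconj : ∀ g ∈ A, ∀ y ∈ 𝔯, cj g y ∈ 𝔯 := by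
    intro g hg
    have hgG : g ∈ G := hWG A hA.1 hg
    have hstab : ∀ y ∈ 𝔯 ⊔ 𝔭 ^ (i + 1), cj g y ∈ 𝔯 ⊔ 𝔭 ^ (i + 1) :=
      fun y hy => ideal_conj hid1 hid2 (hA.2 g hg) (hA.2 g⁻¹ (inv_mem hg)) hy
    have hperm : ∀ B ∈ Wn W 𝔯, conjBy B g ∈ Wn W 𝔯 := by
      intro B hB
      apply hP
      refine ⟨hWconj B hB.1 g hgG, fun z hz => ?_⟩
      rw [mem_conjBy] at hz
      have e : dl z = cj g (dl (g⁻¹ * z * g)) := by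
        rw [cj_dl]
        congr 1
        group
      rw [e]
      exact hstab _ ((le_sup_left : 𝔯 ≤ 𝔯 ⊔ 𝔭 ^ (i + 1)) (hB.2 _ hz))
    have hle : algW (Wn W 𝔯) ≤ 𝔯.comap (cj g) := by
      apply alg_le
      · rintro x ⟨B, hB, h, hh, rfl⟩
        show cj g (dl h) ∈ 𝔯
        rw [cj_dl]
        exact (hperm B hB).2 _ (conj_mem_conjBy hh)
      · rw [mulClosed_iff]
        intro x hx y hy
        show cj g (x * y) ∈ 𝔯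
        rw [cj_mul]
        exact mulClosed_iff.1 hr _ hx _ hy
    rw [hrgen] at hle
    exact fun y hy => hle hy
  intro g hg
  exact ⟨hconj g hg, hconj g⁻¹ (inv_mem hg)⟩

end Cfsg.Agent.Lib.Helper8.Bs
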