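import Mathlib
import Cfsg.Agent.Lib.Helper8.Bs3

set_option autoImplicit false

namespace Cfsg.Agent.Lib.Helper8.Bs

open Cfsg
open Cfsg.Agent.Lib.Helper4.RankOneGrp

variable {k : Type*} [Field k] {M : Type*} [AddCommGroup M] [Module k M]
  {G : Subgroup (LinearMap.GeneralLinearGroup k M)}
  {W : Set (Subgroup (LinearMap.GeneralLinearGroup k M))}

theorem core_step [FiniteDimensional k M] (hWG : ∀ A ∈ W, A ≤ G)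
    (hWW : ∀ A ∈ W, ∀ B ∈ W, IsUnipotentOn (A ⊔ B))
    (hWconj : ∀ A ∈ W, ∀ g ∈ G, conjBy A g ∈ W)
    {𝔭 𝔮 : Submodule k (Module.End k M)} (hp : IsMaxA W 𝔭) (hq : IsMaxA W 𝔮) (hpq : 𝔭 ≠ 𝔮) :
    ∃ 𝔪, IsMaxA W 𝔪 ∧
      Module.finrank k (algW (Wn W 𝔭 ∩ Wn W 𝔮)) < Module.finrank k (algW (Wn W 𝔪 ∩ Wn W 𝔭)) ∧
      Module.finrank k (algW (Wn W 𝔭 ∩ Wn W 𝔮)) < Module.finrank k (algW (Wn W 𝔪 ∩ Wn W 𝔮)) := by
  obtain ⟨𝔯, h𝔯⟩ : ∃ 𝔯, 𝔯 = algW (Wn W 𝔭 ∩ Wn W 𝔮) := ⟨_, rfl⟩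
  rw [← h𝔯]
  have hr : MulClosed 𝔯 := h𝔯 ▸ alg_mulClosed _
  have hr𝔭 : 𝔯 ≤ 𝔭 := by
    rw [h𝔯]
    exact (algW_mono Set.inter_subset_left).trans (algW_Wn_le hp.1.mulClosed)
  have hr𝔮 : 𝔯 ≤ 𝔮 := by
    rw [h𝔯]
    exact (algW_mono Set.inter_subset_right).trans (algW_Wn_le hq.1.mulClosed)
  have hWr : Wn W 𝔯 = Wn W 𝔭 ∩ Wn W 𝔮 := by
    apply Set.Subset.antisymm
    · exact fun A hA => ⟨Wn_mono hr𝔭 hA, Wn_mono hr𝔮 hA⟩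
    · rw [h𝔯]
      exact subset_Wn_algW (fun A hA => hA.1.1)
  have hrgen : algW (Wn W 𝔯) = 𝔯 := by rw [hWr, h𝔯]
  have hne𝔭 : ¬ (Wn W 𝔭 ⊆ Wn W 𝔯) := by
    intro h
    have h1 : 𝔭 ≤ 𝔮 := by
      calc 𝔭 = algW (Wn W 𝔭) := hp.1.2.symm
        _ ≤ algW (Wn W 𝔮) := algW_mono (h.trans (hWr ▸ Set.inter_subset_right))
        _ = 𝔮 := hq.1.2
    exact hpq (hp.2 𝔮 hq.1 h1).symm
  have hne𝔮 : ¬ (Wn W 𝔮 ⊆ Wn W 𝔯) := by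
    intro h
    have h1 : 𝔮 ≤ 𝔭 := by
      calc 𝔮 = algW (Wn W 𝔮) := hq.1.2.symm
        _ ≤ algW (Wn W 𝔭) := algW_mono (h.trans (hWr ▸ Set.inter_subset_left))
        _ = 𝔭 := hp.1.2
    exact hpq (hq.2 𝔭 hp.1 h1)
  obtain ⟨A, hA𝔭, hAr, hAN⟩ :=
    exists_normalizing hWG hWconj hp.1.mulClosed hp.1.1 hr hr𝔭 hrgen hne𝔭
  obtain ⟨B, hB𝔮, hBr, hBN⟩ :=
    exists_normalizing hWG hWconj hq.1.mulClosed hq.1.1 hr hr𝔮 hrgen hne𝔮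
  have hHN : A ⊔ B ≤ Nz 𝔯 := sup_le hAN hBN
  obtain ⟨𝔥, h𝔥⟩ : ∃ 𝔥, 𝔥 = aug (A ⊔ B) := ⟨_, rfl⟩
  have hh : MulClosed 𝔥 := h𝔥 ▸ aug_mulClosed _
  obtain ⟨b, hb⟩ : Nilp 𝔥 := h𝔥 ▸ aug_nilp_of_unip (hWW A hA𝔭.1 B hB𝔮.1)
  obtain ⟨a, ha⟩ : Nilp 𝔯 := hp.1.1.mono hr𝔭
  have h1mem : (1 : Module.End k M) ∈ (1 : Submodule k (Module.End k M)) ⊔ 𝔥 :=
    (le_sup_left : (1 : Submodule k (Module.End k M)) ≤ 1 ⊔ 𝔥) (Submodule.one_le.1 le_rfl)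
  have hn : 𝔥 * 𝔯 ≤ 𝔯 * (1 ⊔ 𝔥) := by
    rw [Submodule.mul_le]
    intro x hx r hr'
    rw [h𝔥] at hx
    unfold aug at hx
    induction hx using Submodule.span_induction with
    | mem x hx =>
      obtain ⟨g, hg, rfl⟩ := hx
      have hgN := hHN hg
      have e : dl g * r = cj g r * (g : Module.End k M) - r * 1 := by
        rw [cj_mul_val, mul_one]
        unfold dl
        rw [sub_mul, one_mul]
      rw [e]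
      refine Submodule.sub_mem _ (Submodule.mul_mem_mul (hgN.1 r hr') ?_)
        (Submodule.mul_mem_mul hr' h1mem)
      rw [val_eq]
      refine add_mem h1mem ((le_sup_right : 𝔥 ≤ 1 ⊔ 𝔥) ?_)
      rw [h𝔥]
      exact dl_mem_aug hg
    | zero => rw [zero_mul]; exact zero_mem _
    | add x z _ _ hx hz => rw [add_mul]; exact add_mem hx hz
    | smul c x _ hx => rw [smul_mul_assoc]; exact Submodule.smul_mem _ c hx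
  obtain ⟨htm, htn, hrt, hht⟩ := nilp_ext hr hh ha hb hn
  obtain ⟨𝒱, h𝒱⟩ : ∃ 𝒱 : Set (Subgroup (LinearMap.GeneralLinearGroup k M)),
      𝒱 = Wn W 𝔯 ∪ {A, B} := ⟨_, rfl⟩
  have h𝒱W : 𝒱 ⊆ W := by
    rw [h𝒱]
    rintro C (hC | hC | hC)
    · exact hC.1
    · rw [hC]; exact hA𝔭.1
    · rw [Set.mem_singleton_iff] at hC
      rw [hC]; exact hB𝔮.1
  have hgens : gens 𝒱 ⊆ (𝔥 ⊔ 𝔯 * (1 ⊔ 𝔥) : Submodule k (Module.End k M)) := by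
    rw [h𝒱]
    rintro x ⟨C, hC, g, hg, rfl⟩
    rcases hC with hC | hC | hC
    · exact hrt (hC.2 g hg)
    · rw [hC] at hg
      apply hht
      rw [h𝔥]
      exact dl_mem_aug ((le_sup_left : A ≤ A ⊔ B) hg)
    · rw [Set.mem_singleton_iff] at hC
      rw [hC] at hg
      apply hht
      rw [h𝔥]
      exact dl_mem_aug ((le_sup_right : B ≤ A ⊔ B) hg)
  have hV : InA W (algW 𝒱) := inA_algW h𝒱W (htn.mono (alg_le hgens htm))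
  obtain ⟨𝔪, hm, hVm⟩ := exists_maxA_ge hV
  have h𝒱m : 𝒱 ⊆ Wn W 𝔪 := (subset_Wn_algW h𝒱W).trans (Wn_mono hVm)
  have hA𝒱 : A ∈ 𝒱 := by rw [h𝒱]; exact Or.inr (Or.inl rfl)
  have hB𝒱 : B ∈ 𝒱 := by rw [h𝒱]; exact Or.inr (Or.inr rfl)
  have hr𝒱 : Wn W 𝔯 ⊆ 𝒱 := by rw [h𝒱]; exact Set.subset_union_left
  have strict : ∀ (𝔰 : Submodule k (Module.End k M)) (C : Subgroup (LinearMap.GeneralLinearGroup k M)),
      𝔯 ≤ 𝔰 → C ∈ Wn W 𝔰 → C ∉ Wn W 𝔯 → C ∈ 𝒱 →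
      Module.finrank k 𝔯 < Module.finrank k (algW (Wn W 𝔪 ∩ Wn W 𝔰)) := by
    intro 𝔰 C hrs hC𝔰 hCr hC𝒱
    apply Submodule.finrank_lt_finrank_of_lt
    have hle : 𝔯 ≤ algW (Wn W 𝔪 ∩ Wn W 𝔰) := by
      calc 𝔯 = algW (Wn W 𝔯) := hrgen.symm
        _ ≤ algW (Wn W 𝔪 ∩ Wn W 𝔰) :=
          algW_mono (fun D hD =>
            (⟨h𝒱m (hr𝒱 hD), Wn_mono hrs hD⟩ : D ∈ Wn W 𝔪 ∩ Wn W 𝔰))
    refine lt_of_le_of_ne hle ?_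
    intro heq
    apply hCr
    refine ⟨hC𝔰.1, fun g hg => ?_⟩
    rw [heq]
    exact dl_mem_algW (𝒰 := Wn W 𝔪 ∩ Wn W 𝔰) ⟨h𝒱m hC𝒱, hC𝔰⟩ hg
  exact ⟨𝔪, hm, strict 𝔭 A hr𝔭 hA𝔭 hAr hA𝒱, strict 𝔮 B hr𝔮 hB𝔮 hBr hB𝒱⟩

theorem maxA_unique [FiniteDimensional k M] (hWG : ∀ A ∈ W, A ≤ G)
    (hWW : ∀ A ∈ W, ∀ B ∈ W, IsUnipotentOn (A ⊔ B))
    (hWconj : ∀ A ∈ W, ∀ g ∈ G, conjBy A g ∈ W)
    {𝔭 𝔮 : Submodule k (Module.End k M)} (hp : IsMaxA W 𝔭) (hq : IsMaxA W 𝔮) : 𝔭 = 𝔮 := by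
  by_contra hpq
  obtain ⟨⟨𝔭', 𝔮'⟩, ⟨hp', hq', hne'⟩, hmax⟩ := exists_max
    {x : Submodule k (Module.End k M) × Submodule k (Module.End k M) |
      IsMaxA W x.1 ∧ IsMaxA W x.2 ∧ x.1 ≠ x.2} ⟨(𝔭, 𝔮), hp, hq, hpq⟩
    (fun x => Module.finrank k (algW (Wn W x.1 ∩ Wn W x.2))) (Module.finrank k (Module.End k M))
    (fun _ _ => Submodule.finrank_le _)
  obtain ⟨𝔪, hm, h1, h2⟩ := core_step hWG hWW hWconj hp' hq' hne'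
  have e1 : 𝔪 = 𝔭' := by
    by_contra hne
    exact absurd (hmax (𝔪, 𝔭') ⟨hm, hp', hne⟩) (not_le.2 h1)
  have e2 : 𝔪 = 𝔮' := by
    by_contra hne
    exact absurd (hmax (𝔪, 𝔮') ⟨hm, hq', hne⟩) (not_le.2 h2)
  exact hne' (e1.symm.trans e2)

theorem main [FiniteDimensional k M] (hWG : ∀ A ∈ W, A ≤ G)
    (hWW : ∀ A ∈ W, ∀ B ∈ W, IsUnipotentOn (A ⊔ B))
    (hWconj : ∀ A ∈ W, ∀ g ∈ G, conjBy A g ∈ W) : IsUnipotentOn (⨆ A ∈ W, A) := by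
  have hbm : MulClosed (⊥ : Submodule k (Module.End k M)) := by
    unfold MulClosed
    rw [Submodule.bot_mul]
  have h0 : InA W (⊥ : Submodule k (Module.End k M)) :=
    ⟨⟨1, pow_one ⊥⟩, le_bot_iff.1 (algW_Wn_le hbm)⟩
  obtain ⟨𝔭, hp, -⟩ := exists_maxA_ge h0
  have hall : ∀ A ∈ W, A ≤ Kp 𝔭 hp.1.mulClosed := by
    intro A hA
    have hnil : Nilp (algW {A}) := by
      refine (aug_nilp_of_unip (hWW A hA A hA)).mono (alg_le ?_ (aug_mulClosed _))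
      rintro x ⟨C, hC, g, hg, rfl⟩
      rw [Set.mem_singleton_iff] at hC
      rw [hC] at hg
      exact dl_mem_aug ((le_sup_left : A ≤ A ⊔ A) hg)
    have hin : InA W (algW {A}) := inA_algW (by
      intro C hC
      rw [Set.mem_singleton_iff] at hC
      rw [hC]
      exact hA) hnil
    obtain ⟨𝔪, hm, hle⟩ := exists_maxA_ge hin
    have e := maxA_unique hWG hWW hWconj hm hp
    rw [e] at hle
    intro g hg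
    exact ⟨hle (dl_mem_algW (Set.mem_singleton A) hg),
      hle (dl_mem_algW (Set.mem_singleton A) (inv_mem hg))⟩
  exact unip_of_le (H := ⨆ A ∈ W, A) (fun g hg => ((iSup₂_le hall) hg).1) hp.1.1

theorem normal_part (hWconj : ∀ A ∈ W, ∀ g ∈ G, conjBy A g ∈ W) :
    ∀ g ∈ G, conjBy (⨆ A ∈ W, A) g = ⨆ A ∈ W, A := by
  intro g hg
  apply le_antisymm
  · show Subgroup.map _ _ ≤ _
    rw [Subgroup.map_le_iff_le_comap]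
    refine iSup₂_le fun A hA => ?_
    rw [← Subgroup.map_le_iff_le_comap]
    exact le_iSup₂ (f := fun (B : Subgroup (LinearMap.GeneralLinearGroup k M)) (_ : B ∈ W) => B) _
      (hWconj A hA g hg)
  · refine iSup₂_le fun A hA => ?_
    have h1 := hWconj A hA g⁻¹ (inv_mem hg)
    have h2 : A = conjBy (conjBy A g⁻¹) g := by
      rw [conjBy_conjBy, mul_inv_cancel, conjBy_one]
    refine le_trans (le_of_eq h2) ?_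
    exact Subgroup.map_mono
      (le_iSup₂ (f := fun (B : Subgroup (LinearMap.GeneralLinearGroup k M)) (_ : B ∈ W) => B) _ h1)

end Cfsg.Agent.Lib.Helper8.Bs
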