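import Cfsg.Agent.Lib.Helper8.R4D4b

/-! S3814 farm, unit D4c: `CaseII.false`. -/

set_option autoImplicit false
set_option linter.style.haveILetI false

namespace Cfsg.Agent.Lib.Helper2.R4

open scoped Pointwise

variable {G : Type*} [Group G]

/-- (II.8) one core is nontrivial (A10); apply `other_two` twice: `q = 2` and `p = 2`. -/
theorem CaseII.false [Finite G] {σ : Finset ℕ} {a b : ℕ} {V V' L : Subgroup G}
    (h : CaseII σ a b V V' L) : False := by
  obtain ⟨c, hc, d, hd, hcd, hca, hcb, hda, hdb, hall⟩ :=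
    MinCex.exists_two_others h.mc h.ha h.hb h.hab
  have hcp : c.Prime := h.mc.prime c hc
  have hdp : d.Prime := h.mc.prime d hd
  have hsolvG : Group.IsSolvable G := h.mc.solv
  have hsolv : Group.IsSolvable L := inferInstance
  have hL : ∀ r : ℕ, r.Prime → r ∣ Nat.card L → r = c ∨ r = d := by
    intro r hr hrL
    obtain ⟨hrσ, hra, hrb⟩ := CaseII.prime_mem h hr hrL
    rcases hall r hrσ with h1 | h1 | h1 | h1
    · exact absurd h1 hra
    · exact absurd h1 hrb
    · exact Or.inl h1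
    · exact Or.inr h1
  have hE2c : E2 c L := CaseII.E2L h hc hca hcb
  have hL1 : L ≠ ⊥ := by
    intro hbot
    have h1 : c ^ 2 ∣ Nat.card L := E2.sq_dvd_card hE2c
    rw [hbot, Subgroup.card_bot] at h1
    have h2 : c ^ 2 = 1 := Nat.dvd_one.mp h1
    have h3 : 2 ≤ c := hcp.two_le
    nlinarith
  obtain ⟨P, hP⟩ := exists_isCoreIn hcp L
  obtain ⟨Pq, hPq⟩ := exists_isCoreIn hdp L
  rcases core_ne_bot_of_two_primes hsolv hL1 hcp hdp hcd hL hP hPq with h1 | h1
  · obtain ⟨hd2, hPq1⟩ := CaseII.other_two h hc hd hca hcb hda hdb hcd hP hPq h1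
    obtain ⟨hc2, -⟩ := CaseII.other_two h hd hc hda hdb hca hcb (Ne.symm hcd) hPq hP hPq1
    exact hcd (hc2.trans hd2.symm)
  · obtain ⟨hc2, hP1⟩ := CaseII.other_two h hd hc hda hdb hca hcb (Ne.symm hcd) hPq hP h1
    obtain ⟨hd2, -⟩ := CaseII.other_two h hc hd hca hcb hda hdb hcd hP hPq hP1
    exact hcd (hc2.trans hd2.symm)

end Cfsg.Agent.Lib.Helper2.R4
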