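import Mathlib
import Cfsg.Agent.Lib.Helper3.SpMinDefs
import Cfsg.Agent.Lib.Helper5.SympBridge
set_option autoImplicit false
set_option maxHeartbeats 4000000
set_option linter.unusedVariables false
set_option linter.unusedSectionVars false
set_option linter.style.longLine false
open Matrix Cfsg

/-! # S2142 farm, unit A1: quadratic forms exist, additive functionals are represented by the
symplectic form, the quadratic forms are a torsor under the translations. -/

namespace Cfsg.Agent.Lib.Helper8.SpMin

open Cfsg.Agent.Lib.Helper5 Cfsg.Agent.Lib.Helper5.SympTv Cfsg.Agent.Lib.Helper3.SpMin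

variable {F : Type*} [Field F] [Fintype F]

theorem sympForm_eq (m : ℕ) (x y : Fin m ⊕ Fin m → F) :
    sympForm m F x y = ∑ i, (x (Sum.inr i) * y (Sum.inl i) - x (Sum.inl i) * y (Sum.inr i)) := by
  unfold sympForm
  simp [dotProduct, mulVec, J, Fintype.sum_sum_type, Matrix.one_apply]
  ring

/-- A1 -/
theorem qf_nonempty (hF : Fintype.card F = 2) (m : ℕ) : Nonempty (QF m F) := by
  refine ⟨⟨fun x => ∑ i, x (Sum.inl i) * x (Sum.inr i), fun x y => ?_⟩⟩
  show ∑ i, (x + y) (Sum.inl i) * (x + y) (Sum.inr i)
    = ∑ i, x (Sum.inl i) * x (Sum.inr i) + ∑ i, y (Sum.inl i) * y (Sum.inr i) + sympForm m F x y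
  rw [sympForm_eq, ← Finset.sum_add_distrib, ← Finset.sum_add_distrib]
  apply Finset.sum_congr rfl
  intro i _
  simp only [Pi.add_apply]
  have h2 : ∀ a : F, -a = a := neg_eq' hF
  rw [sub_eq_add_neg, h2]
  ring

/-- A2 : additive functionals are represented by the form -/
theorem exists_rep (hF : Fintype.card F = 2) (m : ℕ) (lam : (Fin m ⊕ Fin m → F) → F)
    (hadd : ∀ x y, lam (x + y) = lam x + lam y) : ∃ w, ∀ x, lam x = sympForm m F w x := by
  have h0 : lam 0 = 0 := by
    have := hadd 0 0
    rw [add_zero] at this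
    exact left_eq_add.1 this
  let L : (Fin m ⊕ Fin m → F) →ₗ[F] F :=
    { toFun := lam
      map_add' := hadd
      map_smul' := fun c x => by
        rcases eq_zero_or_one hF c with rfl | rfl
        · simp [h0]
        · simp }
  have hB := SympBridge.sympBilin_nondegenerate (F := F) m
  refine ⟨(LinearMap.BilinForm.toDual (SympBridge.sympBilin F m) hB).symm L, fun x => ?_⟩
  have := LinearMap.BilinForm.apply_toDual_symm_apply (B := SympBridge.sympBilin F m) (hB := hB) L x
  rw [SympBridge.sympBilin_apply] at this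
  exact this.symm

/-- A2' -/
theorem exists_shift (hF : Fintype.card F = 2) {m : ℕ} (φ ψ : QF m F) : ∃ a, ψ = shift φ a := by
  obtain ⟨w, hw⟩ := exists_rep hF m (fun x => ψ.1 x + φ.1 x) (fun x y => by
    show ψ.1 (x + y) + φ.1 (x + y) = ψ.1 x + φ.1 x + (ψ.1 y + φ.1 y)
    rw [ψ.2, φ.2]
    have h2 := add_self_eq_zero' hF (sympForm m F x y)
    linear_combination h2)
  refine ⟨w, QF.ext fun x => ?_⟩
  rw [shift_apply, ← hw x]
  have h2 := add_self_eq_zero' hF (φ.1 x)
  linear_combination -h2

/-- A2'' -/
theorem shift_injective {m : ℕ} (φ : QF m F) : Function.Injective (shift φ) := by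
  intro a b h
  have h1 : ∀ x, sympForm m F (a - b) x = 0 := by
    intro x
    have := congrArg (fun ψ : QF m F => ψ.1 x) h
    simp only [shift_apply] at this
    rw [sympForm_sub_left, sub_eq_zero]
    exact add_left_cancel this
  exact sub_eq_zero.1 (SympBridge.eq_zero_of_sympForm_right m _ h1)

end Cfsg.Agent.Lib.Helper8.SpMin
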