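import Mathlib
import Cfsg.Agent.Lib.Helper3.SpMinDefs
import Cfsg.Agent.Lib.Helper8.SpMinA1
set_option autoImplicit false
set_option maxHeartbeats 4000000
set_option linter.unusedVariables false
set_option linter.unusedSectionVars false
set_option linter.style.longLine false
open Matrix Cfsg

/-! # S2142 farm, unit A5 (first part): the action of transvections on quadratic forms, the action
on translates, and 2-transitivity on the forms of a given sign, from the sign formula. -/

namespace Cfsg.Agent.Lib.Helper8.SpMin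

open Cfsg.Agent.Lib.Helper5 Cfsg.Agent.Lib.Helper5.SympTv Cfsg.Agent.Lib.Helper3.SpMin

variable {F : Type*} [Field F] [Fintype F]

theorem qf_zero {m : ℕ} (φ : QF m F) : φ.1 0 = 0 := by
  have h := φ.2 0 0
  rw [add_zero, sympForm_self, add_zero] at h
  exact left_eq_add.1 h

theorem qf_smul (hF : Fintype.card F = 2) {m : ℕ} (φ : QF m F) (c : F) (v : Fin m ⊕ Fin m → F) :
    φ.1 (c • v) = c * φ.1 v := by
  rcases eq_zero_or_one hF c with rfl | rfl
  · rw [zero_smul, qf_zero, zero_mul]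
  · rw [one_smul, one_mul]

theorem sympForm_comm (hF : Fintype.card F = 2) (m : ℕ) (x y : Fin m ⊕ Fin m → F) :
    sympForm m F x y = sympForm m F y x := by
  rw [sympForm_swap, neg_eq' hF]

theorem t_inv (hF : Fintype.card F = 2) (m : ℕ) (v : Fin m ⊕ Fin m → F) : (t m v)⁻¹ = t m v :=
  inv_eq_of_mul_eq_one_left (t_mul_self hF m v)

theorem t_smul_apply (hF : Fintype.card F = 2) {m : ℕ} (v : Fin m ⊕ Fin m → F) (φ : QF m F)
    (x : Fin m ⊕ Fin m → F) :
    (t m v • φ).1 x = φ.1 x + sympForm m F x v * (φ.1 v + 1) := by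
  rw [Cfsg.Agent.Lib.Helper3.SpMin.smul_apply, t_inv hF, t_mulVec, φ.2, qf_smul hF, sympForm_smul_right]
  have h := mul_self_eq' hF (sympForm m F x v)
  linear_combination h

open Classical in
/-- A5a -/
theorem t_smul (hF : Fintype.card F = 2) {m : ℕ} (v : Fin m ⊕ Fin m → F) (φ : QF m F) :
    t m v • φ = if φ.1 v = 0 then shift φ v else φ := by
  split_ifs with h
  · apply QF.ext
    intro x
    rw [t_smul_apply hF, shift_apply, h, zero_add, mul_one, sympForm_comm hF]
  · apply QF.ext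
    intro x
    have h1 : φ.1 v = 1 := (eq_zero_or_one hF _).resolve_left h
    rw [t_smul_apply hF, h1, one_add_one_eq_two, two_eq_zero hF, mul_zero, add_zero]

/-- A5b -/
theorem smul_shift {m : ℕ} (g : symplecticGroup (Fin m) F) (φ : QF m F) (a : Fin m ⊕ Fin m → F) :
    g • shift φ a = shift (g • φ) (g.1 *ᵥ a) := by
  apply QF.ext
  intro x
  rw [Cfsg.Agent.Lib.Helper3.SpMin.smul_apply, shift_apply, shift_apply,
    Cfsg.Agent.Lib.Helper3.SpMin.smul_apply]
  congr 1
  conv_rhs => rw [← mulVec_inv_mulVec g x]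
  rw [sympForm_mulVec m g.2]

/-- a transvection at a non-singular vector fixes the form -/
theorem t_smul_of_one (hF : Fintype.card F = 2) {m : ℕ} (v : Fin m ⊕ Fin m → F) (φ : QF m F)
    (h : φ.1 v = 1) : t m v • φ = φ := by
  classical
  rw [t_smul hF, if_neg]
  rw [h]
  exact one_ne_zero

/-- two singular vectors with `B(a,b) = 1` are exchanged by an isometry of the form -/
theorem exists_move_of_one (hF : Fintype.card F = 2) {m : ℕ} (φ : QF m F)
    (a b : Fin m ⊕ Fin m → F) (ha : φ.1 a = 0) (hb : φ.1 b = 0) (hab : sympForm m F a b = 1) :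
    ∃ h : symplecticGroup (Fin m) F, h • φ = φ ∧ h.1 *ᵥ a = b := by
  refine ⟨t m (a + b), t_smul_of_one hF _ φ ?_, ?_⟩
  · rw [φ.2, ha, hb, hab, zero_add, zero_add]
  · rw [t_mulVec, sympForm_add_right, sympForm_self, hab, zero_add, one_smul, ← add_assoc]
    have : a + a = 0 := by
      ext i
      exact add_self_eq_zero' hF (a i)
    rw [this, zero_add]

/-- the isometry group of a form is transitive on the non-zero singular vectors -/
theorem exists_move_singular (hF : Fintype.card F = 2) {m : ℕ} (φ : QF m F)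
    (a b : Fin m ⊕ Fin m → F) (ha0 : a ≠ 0) (hb0 : b ≠ 0) (ha : φ.1 a = 0) (hb : φ.1 b = 0) :
    ∃ h : symplecticGroup (Fin m) F, h • φ = φ ∧ h.1 *ᵥ a = b := by
  by_cases hab : a = b
  · exact ⟨1, one_smul _ _, by rw [hab]; exact one_mulVec b⟩
  rcases eq_zero_or_one hF (sympForm m F a b) with h0 | h1
  · -- a common partner
    have hc0 : ∃ c0, sympForm m F a c0 = 1 ∧ sympForm m F b c0 = 1 := by
      obtain ⟨w, hw⟩ := SympPerfect.exists_partner m a ha0
      obtain ⟨w', hw'⟩ := SympPerfect.exists_partner m b hb0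
      rcases eq_zero_or_one hF (sympForm m F b w) with h2 | h2
      · rcases eq_zero_or_one hF (sympForm m F a w') with h3 | h3
        · refine ⟨w + w', ?_, ?_⟩
          · rw [sympForm_add_right, hw, h3, add_zero]
          · rw [sympForm_add_right, h2, hw', zero_add]
        · exact ⟨w', h3, hw'⟩
      · exact ⟨w, hw, h2⟩
    obtain ⟨c0, hac0, hbc0⟩ := hc0
    have hc : ∃ c, φ.1 c = 0 ∧ sympForm m F a c = 1 ∧ sympForm m F b c = 1 := by
      rcases eq_zero_or_one hF (φ.1 c0) with h2 | h2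
      · exact ⟨c0, h2, hac0, hbc0⟩
      · refine ⟨c0 + a, ?_, ?_, ?_⟩
        · rw [φ.2, h2, ha, sympForm_comm hF, hac0, add_zero, one_add_one_eq_two, two_eq_zero hF]
        · rw [sympForm_add_right, hac0, sympForm_self, add_zero]
        · rw [sympForm_add_right, hbc0, sympForm_comm hF, h0, add_zero]
    obtain ⟨c, hc, hac, hbc⟩ := hc
    obtain ⟨h1, h1φ, h1a⟩ := exists_move_of_one hF φ a c ha hc hac
    obtain ⟨h2, h2φ, h2c⟩ := exists_move_of_one hF φ c b hc hb (by rw [sympForm_comm hF]; exact hbc)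
    refine ⟨h2 * h1, by rw [mul_smul, h1φ, h2φ], ?_⟩
    show (h2.1 * h1.1) *ᵥ a = b
    rw [← mulVec_mulVec, h1a, h2c]
  · exact exists_move_of_one hF φ a b ha hb h1

/-- 2-transitivity on the forms of a given sign, from the sign formula -/
theorem two_trans_of (hF : Fintype.card F = 2) (m : ℕ) (ε : ℤ)
    (hsgn : ∀ (φ : QF m F) (a : Fin m ⊕ Fin m → F), sgn (shift φ a) = chi (φ.1 a) * sgn φ)
    (hne : ∀ φ : QF m F, sgn φ ≠ 0) :
    MulAction.IsMultiplyPretransitive (symplecticGroup (Fin m) F) (QFs m F ε) 2 := by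
  classical
  -- singular translation vectors
  have hsing : ∀ (φ : QF m F) (a : Fin m ⊕ Fin m → F), sgn (shift φ a) = sgn φ → φ.1 a = 0 := by
    intro φ a h
    rw [hsgn] at h
    by_contra h1
    unfold chi at h
    rw [if_neg h1] at h
    have := hne φ
    omega
  -- transitivity
  have htr : ∀ φ ψ : QFs m F ε, ∃ g : symplecticGroup (Fin m) F, g • φ = ψ := by
    intro φ ψ
    obtain ⟨a, ha⟩ := exists_shift hF φ.1 ψ.1
    have h1 : φ.1.1 a = 0 := hsing φ.1 a (by rw [← ha, φ.2, ψ.2])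
    refine ⟨t m a, Subtype.ext ?_⟩
    rw [qfs_smul_val, t_smul hF, if_pos h1, ha]
  rw [MulAction.is_two_pretransitive_iff]
  intro a b c d hab hcd
  obtain ⟨g₁, hg₁⟩ := htr a c
  obtain ⟨a₁, ha₁⟩ := exists_shift hF c.1 (g₁ • b).1
  obtain ⟨a₂, ha₂⟩ := exists_shift hF c.1 d.1
  have hs₁ : c.1.1 a₁ = 0 := hsing c.1 a₁ (by rw [← ha₁, c.2, (g₁ • b).2])
  have hs₂ : c.1.1 a₂ = 0 := hsing c.1 a₂ (by rw [← ha₂, c.2, d.2])
  have shift_zero : ∀ φ : QF m F, shift φ 0 = φ := by
    intro φ
    apply QF.ext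
    intro x
    rw [shift_apply]
    have : sympForm m F 0 x = 0 := by
      have := sympForm_smul_left m (0 : F) (0 : Fin m ⊕ Fin m → F) x
      rw [zero_smul, zero_mul] at this
      exact this
    rw [this, add_zero]
  have hne₁ : a₁ ≠ 0 := by
    rintro rfl
    rw [shift_zero] at ha₁
    apply hab
    have h2 : g₁ • b = g₁ • a := by
      rw [hg₁]
      exact Subtype.ext ha₁
    have := congrArg (fun z => g₁⁻¹ • z) h2
    simpa using this.symm
  have hne₂ : a₂ ≠ 0 := by
    rintro rfl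
    rw [shift_zero] at ha₂
    exact hcd (Subtype.ext ha₂.symm)
  obtain ⟨h, hφ, hh⟩ := exists_move_singular hF c.1 a₁ a₂ hne₁ hne₂ hs₁ hs₂
  refine ⟨h * g₁, ?_, ?_⟩
  · rw [mul_smul, hg₁]
    exact Subtype.ext hφ
  · rw [mul_smul]
    apply Subtype.ext
    rw [qfs_smul_val, ha₁, smul_shift, hφ, hh, ← ha₂]

end Cfsg.Agent.Lib.Helper8.SpMin
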