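import Mathlib
import Cfsg.Agent.Lib.Helper3.SpMinDefs
import Cfsg.Agent.Lib.Helper2.SpMinA3
import Cfsg.Agent.Lib.Helper8.SpMinA5a
set_option autoImplicit false
set_option maxHeartbeats 4000000
set_option linter.unusedVariables false
set_option linter.unusedSectionVars false
set_option linter.style.longLine false
open Matrix Cfsg

/-! # S2142 farm, unit A5: 2-transitivity of the symplectic group on the quadratic forms of a given
sign. -/

namespace Cfsg.Agent.Lib.Helper8.SpMin

open Cfsg.Agent.Lib.Helper5 Cfsg.Agent.Lib.Helper5.SympTv Cfsg.Agent.Lib.Helper3.SpMin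

variable {F : Type*} [Field F] [Fintype F]

theorem sgn_ne_zero (hF : Fintype.card F = 2) {m : ℕ} (φ : QF m F) : sgn φ ≠ 0 := by
  intro h
  have h1 := Cfsg.Agent.Lib.Helper2.SpMin.sgn_mul_self hF φ
  rw [h, mul_zero] at h1
  exact (pow_ne_zero m (by norm_num : (4 : ℤ) ≠ 0)) h1.symm

/-- A6 -/
theorem two_trans (hF : Fintype.card F = 2) (m : ℕ) (ε : ℤ) :
    MulAction.IsMultiplyPretransitive (symplecticGroup (Fin m) F) (QFs m F ε) 2 :=
  two_trans_of hF m ε (fun φ a => Cfsg.Agent.Lib.Helper2.SpMin.sgn_shift hF φ a)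
    (fun φ => sgn_ne_zero hF φ)

end Cfsg.Agent.Lib.Helper8.SpMin
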