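import Mathlib
import Cfsg.Agent.Lib.Helper2.TIZA
import Cfsg.Agent.Lib.Helper1.FrobeniusTheorem

set_option linter.style.haveILetI false

/-! (T) piece TIZ-I (L20) for S3396: in a simple CIT group with TI Sylow 2-subgroups (and more
than one of them) every Sylow 2-subgroup has at least two involutions. -/

namespace Cfsg.Agent.Lib.Helper8.TIZ

open MulAction Cfsg.Agent.Lib.Helper2.TIZ

theorem two_le_card_inv {G : Type*} [Group G] [Finite G] [IsSimpleGroup G]
    (hCIT : ∀ t : G, orderOf t = 2 → IsPGroup 2 (Subgroup.centralizer ({t} : Set G)))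
    (hTI : ∀ P Q : Sylow 2 G, P ≠ Q → (P : Subgroup G) ⊓ (Q : Subgroup G) = ⊥)
    {P Q : Sylow 2 G} (hPQ : P ≠ Q) : 2 ≤ Nat.card {t : G // t ∈ P ∧ orderOf t = 2} := by
  classical
  haveI : Fact (Nat.Prime 2) := ⟨Nat.prime_two⟩
  obtain ⟨t, htP, ht2⟩ := exists_invol_of_ne hPQ
  by_contra hlt
  have hpos : 0 < Nat.card {t : G // t ∈ P ∧ orderOf t = 2} := by
    haveI : Nonempty {t : G // t ∈ P ∧ orderOf t = 2} := ⟨⟨t, htP, ht2⟩⟩
    exact Nat.card_pos
  have hone : Nat.card {t : G // t ∈ P ∧ orderOf t = 2} = 1 := by omega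
  have huniq : ∀ s : G, s ∈ P → orderOf s = 2 → s = t := by
    intro s hs hs2
    have hsub := (Nat.card_eq_one_iff_unique.mp hone).1
    have := hsub.elim ⟨s, hs, hs2⟩ ⟨t, htP, ht2⟩
    exact congrArg Subtype.val this
  -- the stabilizer of `P` is `P`
  have hstab : ∀ g : G, g • P = P → g ∈ P := by
    intro g hg
    have hle : Subgroup.normalizer ((P : Subgroup G) : Set G) ≤
        Subgroup.centralizer ({t} : Set G) := by
      intro x hx
      have hxP : x • P = P := Sylow.smul_eq_iff_mem_normalizer.mpr hx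
      have h1 : x * t * x⁻¹ ∈ x • P := conj_mem_smul htP
      rw [hxP] at h1
      have h2 : orderOf (x * t * x⁻¹) = 2 := by rw [orderOf_conj_eq]; exact ht2
      have h3 := huniq _ h1 h2
      rw [Subgroup.mem_centralizer_iff]
      intro y hy
      rw [Set.mem_singleton_iff] at hy
      subst hy
      have : x * y * x⁻¹ * x = y * x := by rw [h3]
      simpa using this.symm
    have hp : IsPGroup 2 (Subgroup.normalizer ((P : Subgroup G) : Set G)) :=
      (hCIT t ht2).to_le hle
    have heq := P.is_maximal' hp Subgroup.le_normalizer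
    have hgn : g ∈ Subgroup.normalizer ((P : Subgroup G) : Set G) :=
      Sylow.smul_eq_iff_mem_normalizer.mp hg
    have hgP : g ∈ (P : Subgroup G) := by rw [← heq]; exact hgn
    exact hgP
  have hfrob : Cfsg.IsFrobeniusComplement (P : Subgroup G) := by
    refine ⟨?_, ?_, ?_⟩
    · intro hbot
      have : t ∈ (P : Subgroup G) := htP
      rw [hbot, Subgroup.mem_bot] at this
      exact ne_one_of_orderOf_two ht2 this
    · intro htop
      apply hPQ
      apply Sylow.ext
      have hle : (Q : Subgroup G) ≤ P := by rw [htop]; exact le_top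
      exact Q.is_maximal' P.isPGroup' hle
    · intro g hg
      have hne : P ≠ g • P := by
        intro h
        exact hg (hstab g h.symm)
      have := hTI P (g • P) hne
      rw [Sylow.coe_subgroup_smul] at this
      exact this
  obtain ⟨N, -, hN, hcompl⟩ := Cfsg.Agent.Lib.Helper1.frobenius_theorem (P : Subgroup G) hfrob
  have hcard := hcompl.card_mul_card
  rcases hN.eq_bot_or_eq_top with hb | htp
  · rw [hb, Subgroup.card_bot, one_mul] at hcard
    have htop : (P : Subgroup G) = ⊤ := Subgroup.card_eq_iff_eq_top _ |>.mp hcard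
    exact hfrob.2.1 htop
  · rw [htp, Subgroup.card_top] at hcard
    have hG : 0 < Nat.card G := Nat.card_pos
    have h1 : Nat.card (P : Subgroup G) = 1 := by
      have := Nat.eq_of_mul_eq_mul_left hG (by rw [hcard, mul_one] : Nat.card G * Nat.card (P : Subgroup G) = Nat.card G * 1)
      exact this
    have : (P : Subgroup G) = ⊥ := Subgroup.card_eq_one.mp h1
    exact hfrob.1 this

end Cfsg.Agent.Lib.Helper8.TIZ
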