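import Mathlib
import Cfsg.Agent.Lib.Helper5.ChevParaNorm
import Cfsg.Agent.Lib.Helper5.ChevBnB
import Cfsg.Agent.Lib.Helper5.ChevComm
import Cfsg.Agent.Lib.Helper5.ChevTorusCard

set_option autoImplicit false

/-!
S2244 (weakly closed subgroups of `U` are the `U_J`): the shared definitions of the units.
-/

namespace Cfsg.Agent.Lib.Helper8.WC

open Cfsg Cfsg.Lie Cfsg.Agent.Lib.Helper5.ChevStruct Cfsg.Agent.Lib.Helper5.ChevSym

variable {F : Type*} [Field F]

/-- the positive roots whose root subgroup lies in `X` -/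
def Psi (D : ChevalleyDatum) (hD : D ∈ Seven) (X : Subgroup (GL D.Idx F)) : Set ℕ :=
  {r | D.IsPosRoot r ∧ ∀ t : F, xGL D hD r t ∈ X}

/-- separation: the torus elements acting trivially on `X_k` move every other positive root -/
def Sep (D : ChevalleyDatum) (F : Type*) [Field F] (k : ℕ) : Prop :=
  ∀ s, D.IsPosRoot s → s ≠ k → ∃ c : ℕ → F, (∀ i, c i ≠ 0) ∧ chi D c k = 1 ∧ chi D c s ≠ 1

/-- `X` is normalized by `B` -/
def BNormal (D : ChevalleyDatum) (X : Subgroup (GL D.Idx F)) : Prop :=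
  ∀ b ∈ D.borelSubgroup F, ∀ x ∈ X, b * x * b⁻¹ ∈ X

/-- peeling at `k`: the leading root element of an element of `X` lies in `X` -/
def Peel (D : ChevalleyDatum) (hD : D ∈ Seven) (X : Subgroup (GL D.Idx F)) (k : ℕ) : Prop :=
  ∀ t : F, ∀ u' ∈ upperSub D F (k + 1), xGL D hD k t * u' ∈ X → xGL D hD k t ∈ X

/-- the bad case: long positive roots of `G₂` over the field with four elements -/
def BadG2 (D : ChevalleyDatum) (F : Type*) [Field F] [Fintype F] (k : ℕ) : Prop :=
  D = chevG2 ∧ Fintype.card F = 4 ∧ (k = 6 ∨ k = 10 ∨ k = 11)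

end Cfsg.Agent.Lib.Helper8.WC
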