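import Mathlib
import Cfsg.Prelude.Def_Balance
import Cfsg.Agent.Lib.Helper8.ExtLayer1
import Cfsg.Agent.Lib.Helper7.CharP
import Cfsg.Agent.Lib.Helper7.StronglyEmbedded
set_option autoImplicit false
set_option linter.style.haveILetI false

namespace Cfsg.Agent.Lib.Helper8.ExtLayer

open Cfsg Cfsg.Agent.Lib.Helper8.PComp Cfsg.Agent.Lib.Helper8.CoreIn

variable {X : Type*} [Group X]

/-- `L_{2'}(X) O_{2',2}(X)`. -/
abbrev RR (X : Type*) [Group X] : Subgroup X := pLayer 2 X ⊔ pPrimePCore 2 X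

/-- `L_{2'}(X) O(X)`. -/
abbrev LO (X : Type*) [Group X] : Subgroup X := pLayer 2 X ⊔ oddCore X

/-- A Sylow `2`-subgroup of `RR X` as a subgroup of `X`. -/
abbrev T1 (T : Sylow 2 ↥(RR X)) : Subgroup X := (T : Subgroup ↥(RR X)).map (RR X).subtype

/-- `O(C_X(T))`. -/
abbrev DT (T : Sylow 2 ↥(RR X)) : Subgroup X :=
  coreIn 2 (Subgroup.centralizer ((T1 T : Subgroup X) : Set X))

theorem extendedTwoLayer_eq :
    extendedTwoLayer X = pLayer 2 X ⊔ oddCore X ⊔ ⨆ T : Sylow 2 ↥(RR X), DT T := rfl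

instance RR_normal : (RR X).Normal := by
  haveI := pLayer_normal (X := X) 2
  haveI := pPrimePCore_normal (X := X) 2
  infer_instance

instance LO_normal : (LO X).Normal := by
  haveI := pLayer_normal (X := X) 2
  infer_instance

theorem LO_le_RR : LO X ≤ RR X := sup_le_sup_left (pPrimeCore_le_pPrimePCore 2) _

theorem T1_le (T : Sylow 2 ↥(RR X)) : T1 T ≤ RR X := by
  rintro _ ⟨x, _, rfl⟩
  exact x.2

theorem isPGroup_quot : IsPGroup 2 (↥(RR X) ⧸ (LO X).subgroupOf (RR X)) := by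
  haveI := pLayer_normal (X := X) 2
  intro q
  obtain ⟨r, rfl⟩ := QuotientGroup.mk_surjective q
  obtain ⟨l, hl, m, hm, hlm⟩ := Subgroup.mem_sup_of_normal_left.1 r.2
  obtain ⟨k, hk⟩ := exists_pow_mem_pPrimeCore 2 hm
  refine ⟨k, ?_⟩
  have hlR : l ∈ RR X := le_sup_left (a := pLayer 2 X) hl
  have hmR : m ∈ RR X := le_sup_right (a := pLayer 2 X) hm
  have hr : r = ⟨l, hlR⟩ * ⟨m, hmR⟩ := Subtype.ext hlm.symm
  have h1 : ((⟨l, hlR⟩ : ↥(RR X)) : ↥(RR X) ⧸ (LO X).subgroupOf (RR X)) = 1 := by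
    rw [QuotientGroup.eq_one_iff, Subgroup.mem_subgroupOf]
    exact le_sup_left (a := pLayer 2 X) hl
  rw [hr, QuotientGroup.mk_mul, h1, one_mul, ← QuotientGroup.mk_pow, QuotientGroup.eq_one_iff,
    Subgroup.mem_subgroupOf]
  exact le_sup_right (a := pLayer 2 X) hk

/-- `RR X = T (L_{2'}(X) O(X))` for a Sylow `2`-subgroup `T` of `RR X`. -/
theorem T1_sup_LO [Finite X] (T : Sylow 2 ↥(RR X)) : T1 T ⊔ LO X = RR X := by
  have h := sylow_sup_eq_top ((LO X).subgroupOf (RR X)) isPGroup_quot T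
  have h2 := congrArg (Subgroup.map (RR X).subtype) h
  rw [Subgroup.map_sup, Subgroup.subgroupOf_map_subtype, inf_of_le_left LO_le_RR,
    ← MonoidHom.range_eq_map, Subgroup.range_subtype] at h2
  exact h2

theorem normalizer_T1_le [Finite X] (T : Sylow 2 ↥(RR X)) :
    Subgroup.normalizer ((T1 T : Subgroup X) : Set X) ≤
      Subgroup.normalizer ((DT T : Subgroup X) : Set X) :=
  (Cfsg.Agent.Lib.Helper7.normalizer_le_normalizer_centralizer (T1 T)).trans
    (normalizer_le_normalizer_coreIn 2 _)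

theorem map_conj_le_of_mem {W : Subgroup X} {w : X} (hw : w ∈ W) {D : Subgroup X} (hD : D ≤ W) :
    D.map (MulAut.conj w).toMonoidHom ≤ W := by
  rintro _ ⟨d, hd, rfl⟩
  exact W.mul_mem (W.mul_mem hw (hD hd)) (W.inv_mem hw)

theorem map_conj_mul (a b : X) (D : Subgroup X) :
    D.map (MulAut.conj (a * b)).toMonoidHom =
      (D.map (MulAut.conj b).toMonoidHom).map (MulAut.conj a).toMonoidHom := by
  rw [Subgroup.map_map]
  congr 1
  ext x
  simp [MulAut.conj_apply, mul_assoc]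

/-- Conjugating `O(C_X(T))` by an element of `RR X` stays inside `L_{2'}(X) O(X) O(C_X(T))`. -/
theorem map_conj_DT_le [Finite X] (T : Sylow 2 ↥(RR X)) {r : X} (hr : r ∈ RR X) :
    (DT T).map (MulAut.conj r).toMonoidHom ≤ LO X ⊔ DT T := by
  rw [← T1_sup_LO T, sup_comm, Subgroup.mem_sup_of_normal_left] at hr
  obtain ⟨w, hw, t, ht, rfl⟩ := hr
  rw [map_conj_mul]
  have ht' : t ∈ Subgroup.normalizer ((DT T : Subgroup X) : Set X) :=
    normalizer_T1_le T (Subgroup.le_normalizer ht)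
  rw [Subgroup.mem_normalizer_iff_map_conj_eq] at ht'
  have ht'' : (DT T).map (MulAut.conj t).toMonoidHom = DT T := ht'
  rw [ht'']
  exact map_conj_le_of_mem (le_sup_left (a := LO X) hw) le_sup_right

theorem T1_smul [Finite X] (T : Sylow 2 ↥(RR X)) (g : ↥(RR X)) :
    T1 (g • T) = (T1 T).map (MulAut.conj (g : X)).toMonoidHom := by
  unfold T1
  rw [Cfsg.Agent.Lib.Helper7.sylow_smul_coe_eq_map, Subgroup.map_map, Subgroup.map_map]
  congr 1

theorem centralizer_map_conj (g : X) (A : Subgroup X) :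
    Subgroup.centralizer ((A.map (MulAut.conj g).toMonoidHom : Subgroup X) : Set X) =
      (Subgroup.centralizer (A : Set X)).map (MulAut.conj g).toMonoidHom := by
  ext x
  rw [Subgroup.mem_map, Subgroup.mem_centralizer_iff]
  constructor
  · intro h
    refine ⟨g⁻¹ * x * g, ?_, by simp [MulAut.conj_apply, mul_assoc]⟩
    rw [Subgroup.mem_centralizer_iff]
    intro a ha
    have h1 := h (g * a * g⁻¹) ⟨a, ha, by simp [MulAut.conj_apply]⟩
    have e1 : a * (g⁻¹ * x * g) = g⁻¹ * (g * a * g⁻¹ * x) * g := by group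
    have e2 : g⁻¹ * x * g * a = g⁻¹ * (x * (g * a * g⁻¹)) * g := by group
    rw [e1, e2, h1]
  · rintro ⟨y, hy, rfl⟩ _ ⟨a, ha, rfl⟩
    rw [Subgroup.mem_centralizer_iff] at hy
    have := hy a ha
    simp only [MulEquiv.coe_toMonoidHom, MulAut.conj_apply]
    have e1 : g * a * g⁻¹ * (g * y * g⁻¹) = g * (a * y) * g⁻¹ := by group
    have e2 : g * y * g⁻¹ * (g * a * g⁻¹) = g * (y * a) * g⁻¹ := by group
    rw [e1, e2, this]

theorem DT_smul [Finite X] (T : Sylow 2 ↥(RR X)) (g : ↥(RR X)) :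
    DT (g • T) = (DT T).map (MulAut.conj (g : X)).toMonoidHom := by
  unfold DT
  rw [T1_smul, centralizer_map_conj, coreIn_map]

theorem DT_le [Finite X] (T T' : Sylow 2 ↥(RR X)) : DT T' ≤ LO X ⊔ DT T := by
  obtain ⟨g, hg⟩ := MulAction.exists_smul_eq ↥(RR X) T T'
  rw [← hg, DT_smul]
  exact map_conj_DT_le T g.2

/-- The extended `2`-layer computed from a single Sylow subgroup. -/
theorem extendedTwoLayer_eq_of_sylow [Finite X] (T : Sylow 2 ↥(RR X)) :
    extendedTwoLayer X = LO X ⊔ DT T := by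
  rw [extendedTwoLayer_eq]
  apply le_antisymm
  · exact sup_le le_sup_left (iSup_le fun T' => DT_le T T')
  · exact sup_le_sup_left (le_iSup (fun T' : Sylow 2 ↥(RR X) => DT T') T) _

theorem extendedTwoLayer_normal [Finite X] : (extendedTwoLayer X).Normal := by
  obtain T : Sylow 2 ↥(RR X) := default
  rw [extendedTwoLayer_eq_of_sylow T]
  have hfr : Subgroup.normalizer ((T1 T : Subgroup X) : Set X) ⊔ RR X = ⊤ :=
    Sylow.normalizer_sup_eq_top T
  have key : ∀ x : X, (LO X ⊔ DT T).map (MulAut.conj x).toMonoidHom ≤ LO X ⊔ DT T := by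
    intro x
    have hx : x ∈ Subgroup.normalizer ((T1 T : Subgroup X) : Set X) ⊔ RR X := by
      rw [hfr]; trivial
    rw [Subgroup.mem_sup_of_normal_right] at hx
    obtain ⟨n, hn, r, hr, rfl⟩ := hx
    rw [map_conj_mul]
    have h1 : (LO X ⊔ DT T).map (MulAut.conj r).toMonoidHom ≤ LO X ⊔ DT T := by
      rw [Subgroup.map_sup]
      refine sup_le ?_ (map_conj_DT_le T hr)
      rintro _ ⟨y, hy, rfl⟩
      exact le_sup_left (a := LO X) (LO_normal.conj_mem y hy r)
    refine (Subgroup.map_mono h1).trans ?_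
    rw [Subgroup.map_sup]
    refine sup_le ?_ ?_
    · rintro _ ⟨y, hy, rfl⟩
      exact le_sup_left (a := LO X) (LO_normal.conj_mem y hy n)
    · have hn' := normalizer_T1_le T hn
      rw [Subgroup.mem_normalizer_iff_map_conj_eq] at hn'
      have hn'' : (DT T).map (MulAut.conj n).toMonoidHom = DT T := hn'
      rw [hn'']
      exact le_sup_right
  constructor
  intro w hw x
  exact key x ⟨w, hw, rfl⟩

end Cfsg.Agent.Lib.Helper8.ExtLayer
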