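import Mathlib
import Cfsg.Prelude.Def_PLocal
import Cfsg.Agent.Lib.Helper1.ZJ6

/-! S2756 (helper8, architect): base definitions for THEOREM_q.

`Inv q G`      : some nontrivial `q`-element of `G` is inverted by an element of `G`.
`InvIn q M`    : the same inside the subgroup `M` of `G` (inverting pair in `M`).
`ZJ X`         : `Cfsg.centerThompsonAOf X`.
`AA X`         : abelian subgroups of `X` of maximal order (helper1's `FPr PrA X`).
`KK q B`       : the preimage in `G` of `O_q(G / C_G(B))`.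
`Concl q T`    : some `y ∈ T`, `y ≠ 1`, is inverted by an element of `N_G(ZJ(T))`.
`IH q n`       : THEOREM_q for all groups (same universe) of order `< n`.
`MinCE q G`    : `G` is a minimal counterexample to THEOREM_q.
-/

set_option autoImplicit false
open scoped Pointwise commutatorElement
universe u

namespace Cfsg.Agent.Lib.Helper8.ZJI

/-- some nontrivial `q`-element is inverted -/
def Inv (q : ℕ) (G : Type*) [Group G] : Prop :=
  ∃ x s : G, x ≠ 1 ∧ (∃ k : ℕ, orderOf x = q ^ k) ∧ s * x * s⁻¹ = x⁻¹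

variable {G : Type u} [Group G]

/-- inverting pair inside the subgroup `M` -/
def InvIn (q : ℕ) (M : Subgroup G) : Prop :=
  ∃ x ∈ M, ∃ s ∈ M, x ≠ 1 ∧ (∃ k : ℕ, orderOf x = q ^ k) ∧ s * x * s⁻¹ = x⁻¹

/-- `Z(J(X))` (abelian version), inside `G` -/
abbrev ZJ (X : Subgroup G) : Subgroup G := Cfsg.centerThompsonAOf X

/-- abelian subgroups of `X` of maximal order -/
abbrev AA (X : Subgroup G) : Set (Subgroup G) :=
  Cfsg.Agent.Lib.Helper1.ZJ.FPr (Cfsg.Agent.Lib.Helper1.ZJ.PrA (G := G)) X

theorem ZJ_eq [Finite G] (X : Subgroup G) : ZJ X = sInf (AA X) :=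
  Cfsg.Agent.Lib.Helper1.ZJ.centerThompsonAOf_eq X

/-- preimage of `O_q(G / C_G(B))` -/
def KK (q : ℕ) (B : Subgroup G) [B.Normal] : Subgroup G :=
  (Cfsg.pCore q (G ⧸ Subgroup.centralizer (B : Set G))).comap
    (QuotientGroup.mk' (Subgroup.centralizer (B : Set G)))

instance KK_normal (q : ℕ) (B : Subgroup G) [B.Normal] : (KK q B).Normal := by
  unfold KK
  exact Subgroup.Normal.comap (Cfsg.Agent.Lib.Helper1.pCore_normal q) _

theorem centralizer_le_KK (q : ℕ) (B : Subgroup G) [B.Normal] :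
    Subgroup.centralizer (B : Set G) ≤ KK q B := by
  intro c hc
  unfold KK
  rw [Subgroup.mem_comap]
  have : QuotientGroup.mk' (Subgroup.centralizer (B : Set G)) c = 1 :=
    (QuotientGroup.eq_one_iff c).mpr hc
  rw [this]
  exact Subgroup.one_mem _

/-- conclusion of THEOREM_q for the Sylow subgroup `T` -/
def Concl (q : ℕ) [Fact q.Prime] (T : Sylow q G) : Prop :=
  ∃ y ∈ (T : Subgroup G), y ≠ 1 ∧
    ∃ g ∈ Subgroup.normalizer (ZJ (T : Subgroup G) : Set G), g * y * g⁻¹ = y⁻¹

/-- THEOREM_q for all groups of order `< n` in universe `u` -/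
def IH (q : ℕ) [Fact q.Prime] (n : ℕ) : Prop :=
  ∀ (H : Type u) [Group H] [Finite H], Nat.card H < n → Inv q H → ∀ T : Sylow q H, Concl q T

/-- minimal counterexample -/
structure MinCE (q : ℕ) [Fact q.Prime] (G : Type u) [Group G] [Finite G] : Prop where
  odd : q ≠ 2
  ih : IH.{u} q (Nat.card G)
  inv : Inv q G
  dagger : ∀ T : Sylow q G, ¬ Concl q T

end Cfsg.Agent.Lib.Helper8.ZJI
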