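import Mathlib
import Cfsg.Prelude.Def_Blocks
import Cfsg.Agent.Lib.Helper3.CharQuot
import Cfsg.Agent.Lib.Helper6.Regular
import Cfsg.Agent.Lib.Helper6.Linear

/-!
Codegrees of irreducible characters: common set-up for S4796, S4797, S4801.
-/

namespace Cfsg.Agent.Lib.Helper8.Codegree

open Cfsg Cfsg.Agent.Lib.Helper6 Cfsg.Agent.Lib.Helper3.CharQuot

open scoped commutatorElement

/-- A group of order `p * m` with `0 < m < p` is not perfect. -/
theorem not_perfect_of_card {Q : Type*} [Group Q] [Finite Q] (p m : ℕ) (hp : p.Prime)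
    (hm0 : 0 < m) (hmp : m < p) (hcard : Nat.card Q = p * m) : commutator Q ≠ ⊤ := by
  classical
  haveI : Fact p.Prime := ⟨hp⟩
  intro hperf
  obtain ⟨P⟩ := (inferInstance : Nonempty (Sylow p Q))
  have hpm : ¬ p ∣ m := fun h => absurd (Nat.le_of_dvd hm0 h) (by omega)
  have hPcard : Nat.card P = p := by
    rw [P.card_eq_multiplicity, hcard, Nat.factorization_mul hp.ne_zero hm0.ne',
      Finsupp.add_apply, hp.factorization_self, Nat.factorization_eq_zero_of_not_dvd hpm]
    simp
  have hPidx : (P : Subgroup Q).index = m := by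
    have := Subgroup.card_mul_index (P : Subgroup Q)
    rw [hPcard, hcard] at this
    exact Nat.eq_of_mul_eq_mul_left hp.pos this
  have hn1 : Nat.card (Sylow p Q) = 1 := by
    have h1 : Nat.card (Sylow p Q) ≡ 1 [MOD p] := card_sylow_modEq_one p Q
    have h2 : Nat.card (Sylow p Q) ∣ m := hPidx ▸ P.card_dvd_index
    have h3 : Nat.card (Sylow p Q) ≤ m := Nat.le_of_dvd hm0 h2
    have h4 : Nat.card (Sylow p Q) % p = 1 % p := h1
    rw [Nat.mod_eq_of_lt (by omega), Nat.mod_eq_of_lt hp.one_lt] at h4
    exact h4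
  haveI : Subsingleton (Sylow p Q) := (Nat.card_eq_one_iff_unique.mp hn1).1
  haveI hPn : (P : Subgroup Q).Normal := P.normal_of_subsingleton
  -- P is cyclic, so its automorphism group is abelian
  haveI : IsCyclic (P : Subgroup Q) := isCyclic_of_prime_card hPcard
  have hAutComm : ∀ φ ψ : MulAut (P : Subgroup Q), φ * ψ = ψ * φ := by
    intro φ ψ
    apply (IsCyclic.mulAutMulEquiv (P : Subgroup Q)).injective
    rw [map_mul, map_mul, mul_comm]
  -- so Q acts trivially on P
  have hker : ∀ g : Q, MulAut.conjNormal (H := (P : Subgroup Q)) g = 1 := by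
    have hle : commutator Q ≤ (MulAut.conjNormal (H := (P : Subgroup Q))).ker := by
      rw [commutator_eq_closure, Subgroup.closure_le]
      rintro x ⟨a, b, rfl⟩
      rw [SetLike.mem_coe, MonoidHom.mem_ker, map_commutatorElement, commutatorElement_def,
        hAutComm (MulAut.conjNormal a) (MulAut.conjNormal b)]
      group
    intro g
    have : g ∈ commutator Q := by rw [hperf]; trivial
    exact MonoidHom.mem_ker.mp (hle this)
  have hcent : ∀ g : Q, ∀ x ∈ (P : Subgroup Q), g * x * g⁻¹ = x := by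
    intro g x hx
    have := congrArg (fun φ : MulAut (P : Subgroup Q) => ((φ ⟨x, hx⟩ : (P : Subgroup Q)) : Q)) (hker g)
    simpa using this
  have hP : Subgroup.normalizer ((P : Subgroup Q) : Set Q) ≤
      Subgroup.centralizer ((P : Subgroup Q) : Set Q) := by
    intro g _
    rw [Subgroup.mem_centralizer_iff]
    intro x hx
    have := hcent g x hx
    rw [mul_inv_eq_iff_eq_mul] at this
    exact this.symm
  have hcompl := MonoidHom.ker_transferSylow_isComplement' P hP
  have hcle : commutator Q ≤ (MonoidHom.transferSylow P hP).ker := by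
    rw [commutator_eq_closure, Subgroup.closure_le]
    rintro x ⟨a, b, rfl⟩
    rw [SetLike.mem_coe, MonoidHom.mem_ker, map_commutatorElement, commutatorElement_def]
    have hab : (MonoidHom.transferSylow P hP) a * (MonoidHom.transferSylow P hP) b =
        (MonoidHom.transferSylow P hP) b * (MonoidHom.transferSylow P hP) a := by
      apply Subtype.ext
      have h1 := hcent ((MonoidHom.transferSylow P hP) a : Q) _ ((MonoidHom.transferSylow P hP) b).2
      rw [mul_inv_eq_iff_eq_mul] at h1
      exact h1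
    rw [hab]
    group
  rw [hperf, top_le_iff] at hcle
  have h5 := hcompl.card_mul_card
  rw [hcle, Subgroup.card_top, hcard, hPcard] at h5
  have : p * m * p = p * m := h5
  have h6 : p * m * p = p * m * 1 := by rw [this, mul_one]
  have h7 := Nat.eq_of_mul_eq_mul_left (Nat.mul_pos hp.pos hm0) h6
  exact hp.one_lt.ne' h7


variable {G : Type*} [Group G]

/-- kernel, deflation and codegree of an irreducible character -/
theorem codegree_data [Finite G] {χ : G → ℂ} (hχ : IsIrrCharacter G χ) :
    ∃ (K : Subgroup G) (_ : K.Normal) (β : G ⧸ K → ℂ) (c : ℕ), (∀ g, g ∈ K ↔ χ g = χ 1) ∧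
      IsIrrCharacter (G ⧸ K) β ∧ (χ = fun g => β (QuotientGroup.mk g)) ∧
      (∀ q, β q = β 1 → q = 1) ∧ charDegree β = charDegree χ ∧
      Nat.card (G ⧸ K) = charDegree β * c ∧
      Nat.card G / (Nat.card {g : G // χ g = χ 1} * charDegree χ) = c := by
  obtain ⟨K, hKn, β, hK, hβ, hχβ, hcard, hdeg⟩ := exists_kernel_deflation hχ
  have : Fintype (G ⧸ K) := Fintype.ofFinite _
  obtain ⟨c, hc⟩ := IsIrrCharacter.charDegree_dvd_card hβ
  have hdpos : 0 < charDegree β := IsIrrCharacter.charDegree_pos hβ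
  have hKpos : 0 < Nat.card K := Nat.card_pos
  refine ⟨K, hKn, β, c, hK, hβ, hχβ, ?_, hdeg.symm, hc, ?_⟩
  · intro q hq
    obtain ⟨g, rfl⟩ := QuotientGroup.mk_surjective q
    have h1 : χ g = χ 1 := by
      rw [hχβ]
      simpa using hq
    exact (QuotientGroup.eq_one_iff g).2 ((hK g).2 h1)
  · rw [hcard, hdeg, ← Subgroup.card_mul_index K, Subgroup.index_eq_card, hc,
      Nat.mul_div_mul_left _ _ hKpos, Nat.mul_div_cancel_left _ hdpos]

/-- A faithful irreducible character of a nontrivial group has `1 + χ(1)² ≤ |G|`. -/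
theorem one_add_sq_le_card [Finite G] [Nontrivial G] {β : G → ℂ} (hβ : IsIrrCharacter G β)
    (hfaith : ∀ q, β q = β 1 → q = 1) : 1 + charDegree β ^ 2 ≤ Nat.card G := by
  classical
  have : Fintype G := Fintype.ofFinite G
  haveI : Fintype (IrrCharacter G) := Fintype.ofFinite _
  have hsum := sum_sq_degree (G := G)
  have hdeg : ∀ χ : IrrCharacter G, (χ : G → ℂ) 1 = (charDegree (χ : G → ℂ) : ℂ) :=
    fun χ => IsCharacter.apply_one_eq_charDegree (IsIrrCharacter.isCharacter χ.2)
  have hsum' : ∑ χ : IrrCharacter G, charDegree (χ : G → ℂ) ^ 2 = Nat.card G := by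
    have : ((∑ χ : IrrCharacter G, charDegree (χ : G → ℂ) ^ 2 : ℕ) : ℂ) = (Nat.card G : ℂ) := by
      rw [← hsum]
      push_cast
      apply Finset.sum_congr rfl
      intro χ _
      rw [hdeg χ]
    exact_mod_cast this
  let τ : IrrCharacter G := ⟨fun g => ((1 : G →* ℂˣ) g : ℂ), isIrrCharacter_of_hom 1⟩
  let β' : IrrCharacter G := ⟨β, hβ⟩
  have hτβ : τ ≠ β' := by
    intro h
    obtain ⟨q, hq⟩ := exists_ne (1 : G)
    apply hq
    apply hfaith
    have h1 : (τ : G → ℂ) = β := congrArg Subtype.val h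
    rw [← h1]
    simp [τ]
  have hτdeg : charDegree (τ : G → ℂ) = 1 := by
    have := hdeg τ
    have h1 : (τ : G → ℂ) 1 = 1 := by simp [τ]
    rw [h1] at this
    exact_mod_cast this.symm
  have hsub : ({τ, β'} : Finset (IrrCharacter G)) ⊆ Finset.univ := Finset.subset_univ _
  have hle := Finset.sum_le_sum_of_subset (f := fun χ : IrrCharacter G =>
    charDegree (χ : G → ℂ) ^ 2) hsub
  rw [Finset.sum_pair hτβ, hsum', hτdeg] at hle
  simpa using hle

end Cfsg.Agent.Lib.Helper8.Codegree
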