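import Mathlib
import Cfsg.Prelude.Def_Blocks
import Cfsg.Agent.Lib.Helper8.Codegree
import Cfsg.Agent.Lib.Helper6.CenterIndex
import Cfsg.Agent.Lib.Helper6.CharOps
import Cfsg.Agent.Lib.Helper6.IrrBasis
import Cfsg.Agent.S0146

/-!
Degrees versus abelian subgroups; normal Sylow subgroups of groups of order `p m`, `m < p`.
-/

namespace Cfsg.Agent.Lib.Helper8.Codegree

open Cfsg Cfsg.Agent.Lib.Helper6

open scoped ComplexConjugate

/-- irreducible characters of abelian groups are linear -/
theorem charDegree_eq_one_of_comm {A : Type*} [Group A] [Finite A]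
    (hA : ∀ a b : A, a * b = b * a) {lam : A → ℂ} (hlam : IsIrrCharacter A lam) :
    charDegree lam = 1 := by
  have : Fintype A := Fintype.ofFinite A
  obtain ⟨n, ρ, hirr, rfl⟩ := hlam
  haveI := hirr
  have h1 := finrank_dvd_index_center ρ
  have hZ : Subgroup.center A = ⊤ := by
    rw [eq_top_iff]
    intro a _
    rw [Subgroup.mem_center_iff]
    intro g
    exact hA g a
  rw [hZ, Subgroup.index_top, Nat.dvd_one] at h1
  rw [charDegree_character]
  exact h1

variable {G : Type*} [Group G]

/-- `χ(1) ≤ |G : A|` for an abelian subgroup `A`. -/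
theorem charDegree_le_index_of_comm [Finite G] {χ : G → ℂ} (hχ : IsIrrCharacter G χ)
    (A : Subgroup G) (hA : ∀ a ∈ A, ∀ b ∈ A, a * b = b * a) : charDegree χ ≤ A.index := by
  classical
  have : Fintype G := Fintype.ofFinite G
  have : Fintype A := Fintype.ofFinite A
  have hχc := IsIrrCharacter.isCharacter hχ
  have hres : IsCharacter A (fun a : A => χ a) := IsCharacter.restrict A hχc
  have h1 : (fun a : A => χ a) 1 ≠ 0 := IsIrrCharacter.apply_one_ne_zero hχ
  obtain ⟨lam, hlam⟩ := IsCharacter.exists_constituent hres h1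
  have hlamdeg : charDegree (lam : A → ℂ) = 1 :=
    charDegree_eq_one_of_comm (fun a b => Subtype.ext (hA a a.2 b b.2)) lam.2
  have hlamc := IsIrrCharacter.isCharacter lam.2
  have hind : IsCharacter G (indFun A (lam : A → ℂ)) := IsCharacter.indFun A hlamc
  have hfr : classInner (indFun A (lam : A → ℂ)) χ =
      classInner (lam : A → ℂ) (fun a : A => χ a) :=
    Cfsg.Agent.S0146.result A (lam : A → ℂ) χ (IsIrrCharacter.isClassFunction hχ)
  have hne : classInner (indFun A (lam : A → ℂ)) χ ≠ 0 := by
    rw [hfr, ← classInner_conj_symm]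
    intro h0
    apply hlam
    have := congrArg conj h0
    simpa using this
  have hle := IsCharacter.charDegree_le hind hχ hne
  have hdeg : charDegree (indFun A (lam : A → ℂ)) = A.index := by
    have h2 := IsCharacter.apply_one_eq_charDegree hind
    rw [indFun_one, IsCharacter.apply_one_eq_charDegree hlamc, hlamdeg] at h2
    have h3 : ((A.index : ℕ) : ℂ) = (charDegree (indFun A (lam : A → ℂ)) : ℂ) := by
      rw [← h2]; simp
    exact_mod_cast h3.symm
  omega

/-- A group of order `p * m` with `0 < m < p` has a normal subgroup of order `p`. -/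
theorem exists_normal_of_card {Q : Type*} [Group Q] [Finite Q] (p m : ℕ) (hp : p.Prime)
    (hm0 : 0 < m) (hmp : m < p) (hcard : Nat.card Q = p * m) :
    ∃ P : Subgroup Q, P.Normal ∧ Nat.card P = p := by
  classical
  haveI : Fact p.Prime := ⟨hp⟩
  obtain ⟨P⟩ := (inferInstance : Nonempty (Sylow p Q))
  have hpm : ¬ p ∣ m := fun h => absurd (Nat.le_of_dvd hm0 h) (by omega)
  have hPcard : Nat.card P = p := by
    rw [P.card_eq_multiplicity, hcard, Nat.factorization_mul hp.ne_zero hm0.ne',
      Finsupp.add_apply, hp.factorization_self, Nat.factorization_eq_zero_of_not_dvd hpm]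
    simp
  have hPidx : (P : Subgroup Q).index = m := by
    have := Subgroup.card_mul_index (P : Subgroup Q)
    rw [hPcard, hcard] at this
    exact Nat.eq_of_mul_eq_mul_left hp.pos this
  have hn1 : Nat.card (Sylow p Q) = 1 := by
    have h1 : Nat.card (Sylow p Q) ≡ 1 [MOD p] := card_sylow_modEq_one p Q
    have h2 : Nat.card (Sylow p Q) ∣ m := hPidx ▸ P.card_dvd_index
    have h3 : Nat.card (Sylow p Q) ≤ m := Nat.le_of_dvd hm0 h2
    have h4 : Nat.card (Sylow p Q) % p = 1 % p := h1
    rw [Nat.mod_eq_of_lt (by omega), Nat.mod_eq_of_lt hp.one_lt] at h4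
    exact h4
  haveI : Subsingleton (Sylow p Q) := (Nat.card_eq_one_iff_unique.mp hn1).1
  exact ⟨P, P.normal_of_subsingleton, hPcard⟩

end Cfsg.Agent.Lib.Helper8.Codegree
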