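import Mathlib
import Cfsg.Prelude.Def_BaumannBlocks
import Cfsg.Agent.Lib.Helper7.CentrallyLarge
import Cfsg.Agent.Lib.Helper3.PU2770c

/-!
# S2990 farm (owner helper6): unit U4 (CLR), the counting lemma, at type level
-/

set_option autoImplicit false

namespace Cfsg.Agent.Lib.Helper8.CL2990c

open Cfsg Cfsg.Agent.Lib.Helper7

variable {P : Type*} [Group P]

theorem cent_anti {H K : Subgroup P} (h : H ≤ K) :
    Subgroup.centralizer (K : Set P) ≤ Subgroup.centralizer (H : Set P) :=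
  Subgroup.centralizer_le (SetLike.coe_subset_coe.mpr h)

variable [Finite P]

/-- pure arithmetic of (CLR) -/
theorem clr_arith {a z cq cz w qo zo r c i1 i2 : ℕ} (hcq : 0 < cq) (hcz : 0 < cz)
    (k1 : a * cq ≤ qo * w) (k2 : z * cz ≤ zo * w) (c1 : qo * w ≤ r * i1) (c2 : zo * w ≤ c * i2)
    (h1 : i1 ≤ cz) (h2 : i2 ≤ cq) : a * z ≤ r * c := by
  have e1 : (a * z) * (cq * cz) ≤ (r * c) * (cq * cz) :=
    calc (a * z) * (cq * cz) = (a * cq) * (z * cz) := by ring
      _ ≤ (qo * w) * (zo * w) := Nat.mul_le_mul k1 k2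
      _ ≤ (r * i1) * (c * i2) := Nat.mul_le_mul c1 c2
      _ ≤ (r * cz) * (c * cq) :=
        Nat.mul_le_mul (Nat.mul_le_mul_left _ h1) (Nat.mul_le_mul_left _ h2)
      _ = (r * c) * (cq * cz) := by ring
  exact Nat.le_of_mul_le_mul_right e1 (Nat.mul_pos hcq hcz)

/-- (CLR) `R = (Q ∩ O) W` is centrally large and lies in `O` -/
theorem clr (Q O W : Subgroup P) (hQ : IsCentrallyLarge Q) (hWO : W ≤ O)
    (hWc : O ≤ Subgroup.centralizer (W : Set P))
    (hKP1 : Nat.card Q * Nat.card (W ⊓ Subgroup.centralizer (Q : Set P) : Subgroup P) ≤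
      Nat.card (Q ⊓ O : Subgroup P) * Nat.card W)
    (hKP2 : Nat.card (Q ⊓ Subgroup.centralizer (Q : Set P) : Subgroup P) *
        Nat.card (W ⊓ Subgroup.centralizer
          ((Q ⊓ Subgroup.centralizer (Q : Set P) : Subgroup P) : Set P) : Subgroup P) ≤
      Nat.card ((Q ⊓ Subgroup.centralizer (Q : Set P)) ⊓ O : Subgroup P) * Nat.card W) :
    IsCentrallyLarge ((Q ⊓ O) ⊔ W) ∧ (Q ⊓ O) ⊔ W ≤ O := by
  have hRO : (Q ⊓ O) ⊔ W ≤ O := sup_le inf_le_right hWO
  refine ⟨?_, hRO⟩
  have hWc' : W ≤ Subgroup.centralizer (O : Set P) := Subgroup.le_centralizer_iff.mp hWc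
  have hZQc : Q ⊓ Subgroup.centralizer (Q : Set P) ≤ Subgroup.centralizer (Q : Set P) :=
    inf_le_right
  have hQcZ : Q ≤ Subgroup.centralizer
      ((Q ⊓ Subgroup.centralizer (Q : Set P) : Subgroup P) : Set P) :=
    Subgroup.le_centralizer_iff.mp hZQc
  -- `C ≤ C_P(R)`
  have hCR : ((Q ⊓ Subgroup.centralizer (Q : Set P)) ⊓ O) ⊔ W ≤
      Subgroup.centralizer (((Q ⊓ O) ⊔ W : Subgroup P) : Set P) := by
    rw [centralizer_sup_eq]
    apply sup_le
    · apply le_inf
      · exact (inf_le_left.trans hZQc).trans (cent_anti inf_le_left)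
      · exact inf_le_right.trans hWc
    · apply le_inf
      · exact hWc'.trans (cent_anti inf_le_right)
      · exact hWO.trans hWc
  have hCleR : ((Q ⊓ Subgroup.centralizer (Q : Set P)) ⊓ O) ⊔ W ≤ (Q ⊓ O) ⊔ W :=
    sup_le_sup_right (inf_le_inf_right O inf_le_left) W
  -- counting
  have c1 := Cfsg.Agent.Lib.Helper3.PU2770.card_mul_card_le_sup_inf (Q ⊓ O) W
  have c2 := Cfsg.Agent.Lib.Helper3.PU2770.card_mul_card_le_sup_inf
    ((Q ⊓ Subgroup.centralizer (Q : Set P)) ⊓ O) W
  have i1 : Nat.card ((Q ⊓ O) ⊓ W : Subgroup P) ≤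
      Nat.card (W ⊓ Subgroup.centralizer
          ((Q ⊓ Subgroup.centralizer (Q : Set P) : Subgroup P) : Set P) : Subgroup P) :=
    Subgroup.card_le_of_le (le_inf inf_le_right ((inf_le_left.trans inf_le_left).trans hQcZ))
  have i2 : Nat.card (((Q ⊓ Subgroup.centralizer (Q : Set P)) ⊓ O) ⊓ W : Subgroup P) ≤
      Nat.card (W ⊓ Subgroup.centralizer (Q : Set P) : Subgroup P) :=
    Subgroup.card_le_of_le (le_inf inf_le_right
      ((inf_le_left.trans inf_le_left).trans hZQc))
  have key := clr_arith (Nat.card_pos (α := (W ⊓ Subgroup.centralizer (Q : Set P) : Subgroup P)))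
    (Nat.card_pos (α := (W ⊓ Subgroup.centralizer
          ((Q ⊓ Subgroup.centralizer (Q : Set P) : Subgroup P) : Set P) : Subgroup P)))
    hKP1 hKP2 c1 c2 i1 i2
  -- `|Q| |Z(Q)| = max`
  obtain ⟨q1, q2⟩ := centrallyLarge_cd Q hQ
  have hZQ : Q ⊓ Subgroup.centralizer (Q : Set P) = Subgroup.centralizer (Q : Set P) :=
    inf_eq_right.mpr q2
  rw [hZQ] at key
  have hmaxQ : Nat.card Q * Nat.card (Subgroup.centralizer (Q : Set P)) =
      maxCentralizerProduct P := q1
  have hmaxR := cdMeasure_le_max ((Q ⊓ O) ⊔ W)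
  unfold cdMeasure at hmaxR
  have hcard : Nat.card (((Q ⊓ Subgroup.centralizer (Q : Set P)) ⊓ O) ⊔ W : Subgroup P) ≤
      Nat.card (Subgroup.centralizer (((Q ⊓ O) ⊔ W : Subgroup P) : Set P)) :=
    Subgroup.card_le_of_le hCR
  rw [hZQ] at hcard hCR hCleR
  have hposR : 0 < Nat.card ((Q ⊓ O) ⊔ W : Subgroup P) := Nat.card_pos
  have e1 : Nat.card ((Q ⊓ O) ⊔ W : Subgroup P) *
      Nat.card ((Subgroup.centralizer (Q : Set P) ⊓ O) ⊔ W : Subgroup P) ≤
      Nat.card ((Q ⊓ O) ⊔ W : Subgroup P) *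
        Nat.card (Subgroup.centralizer (((Q ⊓ O) ⊔ W : Subgroup P) : Set P)) :=
    Nat.mul_le_mul_left _ hcard
  have e2 : Nat.card ((Q ⊓ O) ⊔ W : Subgroup P) *
        Nat.card (Subgroup.centralizer (((Q ⊓ O) ⊔ W : Subgroup P) : Set P)) =
      maxCentralizerProduct P := by omega
  have e3 : Nat.card (Subgroup.centralizer (((Q ⊓ O) ⊔ W : Subgroup P) : Set P)) ≤
      Nat.card ((Subgroup.centralizer (Q : Set P) ⊓ O) ⊔ W : Subgroup P) := by
    have : Nat.card ((Q ⊓ O) ⊔ W : Subgroup P) *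
        Nat.card (Subgroup.centralizer (((Q ⊓ O) ⊔ W : Subgroup P) : Set P)) ≤
        Nat.card ((Q ⊓ O) ⊔ W : Subgroup P) *
          Nat.card ((Subgroup.centralizer (Q : Set P) ⊓ O) ⊔ W : Subgroup P) := by omega
    exact Nat.le_of_mul_le_mul_left this hposR
  have hCeq : (Subgroup.centralizer (Q : Set P) ⊓ O) ⊔ W =
      Subgroup.centralizer (((Q ⊓ O) ⊔ W : Subgroup P) : Set P) :=
    Subgroup.eq_of_le_of_card_ge hCR e3
  apply centrallyLarge_of_cd _ e2
  rw [← hCeq]
  exact hCleR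

/-! ### transfer to a subgroup `S` of an ambient group -/

section transfer

variable {G : Type*} [Group G]

theorem map_centralizer (S : Subgroup G) (Y : Subgroup S) :
    (Subgroup.centralizer (Y : Set S)).map S.subtype =
      S ⊓ Subgroup.centralizer ((Y.map S.subtype : Subgroup G) : Set G) := by
  ext x
  constructor
  · rintro ⟨⟨x, hxS⟩, hx, rfl⟩
    refine Subgroup.mem_inf.mpr ⟨hxS, ?_⟩
    rw [Subgroup.mem_centralizer_iff]
    rintro _ ⟨y, hy, rfl⟩
    have := (Subgroup.mem_centralizer_iff.mp hx) y hy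
    exact congrArg Subtype.val this
  · intro hx
    obtain ⟨hxS, hx⟩ := Subgroup.mem_inf.mp hx
    have hmem : (⟨x, hxS⟩ : S) ∈ Subgroup.centralizer (Y : Set S) := by
      rw [Subgroup.mem_centralizer_iff]
      intro y hy
      apply Subtype.ext
      exact (Subgroup.mem_centralizer_iff.mp hx) y.1 ⟨y, hy, rfl⟩
    exact ⟨⟨x, hxS⟩, hmem, rfl⟩

theorem map_inf_subgroupOf (S : Subgroup G) (Y : Subgroup S) (O : Subgroup G) :
    (Y ⊓ O.subgroupOf S).map S.subtype = Y.map S.subtype ⊓ O := by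
  rw [Subgroup.map_inf _ _ _ S.subtype_injective, Subgroup.subgroupOf_map_subtype]
  apply le_antisymm
  · exact le_inf inf_le_left (inf_le_right.trans inf_le_left)
  · exact le_inf inf_le_left (le_inf inf_le_right (inf_le_left.trans (Subgroup.map_subtype_le Y)))

theorem map_inf_centralizer (S : Subgroup G) (W : Subgroup G) (hWS : W ≤ S) (Y : Subgroup S) :
    (W.subgroupOf S ⊓ Subgroup.centralizer (Y : Set S)).map S.subtype =
      W ⊓ Subgroup.centralizer ((Y.map S.subtype : Subgroup G) : Set G) := by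
  rw [Subgroup.map_inf _ _ _ S.subtype_injective, Subgroup.map_subgroupOf_eq_of_le hWS,
    map_centralizer]
  apply le_antisymm
  · exact le_inf inf_le_left (inf_le_right.trans inf_le_right)
  · exact le_inf inf_le_left (le_inf (inf_le_left.trans hWS) inf_le_right)

theorem map_center (S : Subgroup G) (Y : Subgroup S) :
    (Y ⊓ Subgroup.centralizer (Y : Set S)).map S.subtype =
      Y.map S.subtype ⊓ Subgroup.centralizer ((Y.map S.subtype : Subgroup G) : Set G) := by
  rw [Subgroup.map_inf _ _ _ S.subtype_injective, map_centralizer]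
  apply le_antisymm
  · exact le_inf inf_le_left (inf_le_right.trans inf_le_right)
  · exact le_inf inf_le_left (le_inf (inf_le_left.trans (Subgroup.map_subtype_le Y)) inf_le_right)

theorem card_map_subtype' (S : Subgroup G) (Y : Subgroup S) :
    Nat.card (Y.map S.subtype) = Nat.card Y :=
  Subgroup.card_map_of_injective S.subtype_injective

/-- (CLR), `G`-level: `B = Q` seen in `G`; the two `KP` inequalities are for `B` and `Z(B)` -/
theorem clr_G [Finite G] (S : Subgroup G) (Q : Subgroup S) (O W : Subgroup G)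
    (hQ : IsCentrallyLarge Q) (hWO : W ≤ O) (hOS : O ≤ S)
    (hWc : O ≤ Subgroup.centralizer (W : Set G))
    (hKP1 : Nat.card (Q.map S.subtype) *
        Nat.card (W ⊓ Subgroup.centralizer ((Q.map S.subtype : Subgroup G) : Set G) : Subgroup G) ≤
      Nat.card (Q.map S.subtype ⊓ O : Subgroup G) * Nat.card W)
    (hKP2 : Nat.card (Q.map S.subtype ⊓
          Subgroup.centralizer ((Q.map S.subtype : Subgroup G) : Set G) : Subgroup G) *
        Nat.card (W ⊓ Subgroup.centralizer ((Q.map S.subtype ⊓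
          Subgroup.centralizer ((Q.map S.subtype : Subgroup G) : Set G) : Subgroup G) : Set G) :
            Subgroup G) ≤
      Nat.card ((Q.map S.subtype ⊓
          Subgroup.centralizer ((Q.map S.subtype : Subgroup G) : Set G)) ⊓ O : Subgroup G) *
        Nat.card W) :
    ∃ R : Subgroup S, IsCentrallyLarge R ∧ R.map S.subtype = (Q.map S.subtype ⊓ O) ⊔ W ∧
      R.map S.subtype ≤ O ∧ R = (Q ⊓ O.subgroupOf S) ⊔ W.subgroupOf S := by
  have hWS : W ≤ S := hWO.trans hOS
  have hWO' : W.subgroupOf S ≤ O.subgroupOf S := Subgroup.comap_mono hWO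
  have hWc' : O.subgroupOf S ≤ Subgroup.centralizer ((W.subgroupOf S : Subgroup S) : Set S) := by
    intro x hx
    rw [Subgroup.mem_centralizer_iff]
    intro w hw
    apply Subtype.ext
    have := hWc (Subgroup.mem_subgroupOf.mp hx)
    exact (Subgroup.mem_centralizer_iff.mp this) w.1 (Subgroup.mem_subgroupOf.mp hw)
  have k1 : Nat.card Q *
      Nat.card (W.subgroupOf S ⊓ Subgroup.centralizer (Q : Set S) : Subgroup S) ≤
      Nat.card (Q ⊓ O.subgroupOf S : Subgroup S) * Nat.card (W.subgroupOf S) := by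
    rw [← card_map_subtype' S Q, ← card_map_subtype' S (W.subgroupOf S ⊓ _),
      ← card_map_subtype' S (Q ⊓ O.subgroupOf S), ← card_map_subtype' S (W.subgroupOf S),
      map_inf_centralizer S W hWS, map_inf_subgroupOf, Subgroup.map_subgroupOf_eq_of_le hWS]
    exact hKP1
  have k2 : Nat.card (Q ⊓ Subgroup.centralizer (Q : Set S) : Subgroup S) *
      Nat.card (W.subgroupOf S ⊓ Subgroup.centralizer
        ((Q ⊓ Subgroup.centralizer (Q : Set S) : Subgroup S) : Set S) : Subgroup S) ≤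
      Nat.card ((Q ⊓ Subgroup.centralizer (Q : Set S)) ⊓ O.subgroupOf S : Subgroup S) *
        Nat.card (W.subgroupOf S) := by
    rw [← card_map_subtype' S (Q ⊓ Subgroup.centralizer (Q : Set S)),
      ← card_map_subtype' S (W.subgroupOf S ⊓ _),
      ← card_map_subtype' S ((Q ⊓ Subgroup.centralizer (Q : Set S)) ⊓ O.subgroupOf S),
      ← card_map_subtype' S (W.subgroupOf S),
      map_inf_centralizer S W hWS, map_inf_subgroupOf, Subgroup.map_subgroupOf_eq_of_le hWS,
      map_center]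
    exact hKP2
  obtain ⟨h1, h2⟩ := clr Q (O.subgroupOf S) (W.subgroupOf S) hQ hWO' hWc' k1 k2
  refine ⟨_, h1, ?_, ?_, rfl⟩
  · rw [Subgroup.map_sup, map_inf_subgroupOf, Subgroup.map_subgroupOf_eq_of_le hWS]
  · rw [Subgroup.map_sup, map_inf_subgroupOf, Subgroup.map_subgroupOf_eq_of_le hWS]
    exact sup_le inf_le_right hWO

end transfer

end Cfsg.Agent.Lib.Helper8.CL2990c
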