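import Mathlib
import Cfsg.Prelude.Def_Transfer

/-!
# Farm CUB (S4415), unit FOUR

A four-group `Q`, normalized but not centralized by an element `b` of order three, acting on a
module over `ZMod 3` on which `b - 1` has rank at most two and `(b - 1) ^ 2` rank at most one:
the three nontrivial weight spaces of `Q` are lines, cyclically permuted by `b`, and `b` is
trivial on the fixed space of `Q`.
-/

set_option autoImplicit false
set_option maxHeartbeats 1000000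

namespace Cfsg.Agent.Lib.Helper8.CUB

/-! ## Linear algebra over `ZMod 3` -/

section Lin

variable {E : Type*} [AddCommGroup E] [Module (ZMod 3) E]

theorem add3 (v : E) : v + v + v = 0 := by
  have h : ((1 : ZMod 3) + 1 + 1) • v = 0 := by
    rw [show ((1 : ZMod 3) + 1 + 1) = 0 from by decide, zero_smul]
  simpa [add_smul] using h

theorem eq_zero_of_eq_neg {v : E} (h : v = -v) : v = 0 := by
  have h2 : v + v = 0 := by
    nth_rewrite 1 [h]; simp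
  have h3 := add3 v
  rw [h2, zero_add] at h3
  exact h3

/-- Three commuting involutions `A₁ A₂ = A₃` permuted cyclically by `β` with `β ^ 3 = 1`. -/
structure Lin4 (A₁ A₂ A₃ β : E →ₗ[ZMod 3] E) : Prop where
  sq₁ : ∀ v, A₁ (A₁ v) = v
  sq₂ : ∀ v, A₂ (A₂ v) = v
  m12 : ∀ v, A₁ (A₂ v) = A₃ v
  m21 : ∀ v, A₂ (A₁ v) = A₃ v
  c₁ : ∀ v, β (A₁ v) = A₂ (β v)
  c₂ : ∀ v, β (A₂ v) = A₃ (β v)
  c₃ : ∀ v, β (A₃ v) = A₁ (β v)
  cube : ∀ v, β (β (β v)) = v

/-- common fixed space of two maps -/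
def fix2 (A₁ A₂ : E →ₗ[ZMod 3] E) : Submodule (ZMod 3) E where
  carrier := {v | A₁ v = v ∧ A₂ v = v}
  add_mem' := by
    intro a b ha hb
    exact ⟨by rw [map_add, ha.1, hb.1], by rw [map_add, ha.2, hb.2]⟩
  zero_mem' := ⟨map_zero _, map_zero _⟩
  smul_mem' := by
    intro c a ha
    exact ⟨by rw [map_smul, ha.1], by rw [map_smul, ha.2]⟩

/-- the `(+1, -1)` weight space of a pair of maps -/
def wt (A A' : E →ₗ[ZMod 3] E) : Submodule (ZMod 3) E where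
  carrier := {v | A v = v ∧ A' v = -v}
  add_mem' := by
    intro a b ha hb
    exact ⟨by rw [map_add, ha.1, hb.1], by rw [map_add, ha.2, hb.2, neg_add]⟩
  zero_mem' := ⟨map_zero _, by simp⟩
  smul_mem' := by
    intro c a ha
    exact ⟨by rw [map_smul, ha.1], by rw [map_smul, ha.2, smul_neg]⟩

/-- fixed space of one map -/
def fix1 (A : E →ₗ[ZMod 3] E) : Submodule (ZMod 3) E where
  carrier := {v | A v = v}
  add_mem' := by
    intro a b ha hb
    show A (a + b) = a + b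
    rw [map_add, ha, hb]
  zero_mem' := map_zero _
  smul_mem' := by
    intro c a ha
    show A (c • a) = c • a
    rw [map_smul, ha]

theorem mem_fix2 {A₁ A₂ : E →ₗ[ZMod 3] E} {v : E} : v ∈ fix2 A₁ A₂ ↔ A₁ v = v ∧ A₂ v = v :=
  Iff.rfl

theorem mem_wt {A A' : E →ₗ[ZMod 3] E} {v : E} : v ∈ wt A A' ↔ A v = v ∧ A' v = -v :=
  Iff.rfl

theorem mem_fix1 {A : E →ₗ[ZMod 3] E} {v : E} : v ∈ fix1 A ↔ A v = v :=
  Iff.rfl

namespace Lin4

variable {A₁ A₂ A₃ β : E →ₗ[ZMod 3] E}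

theorem sq₃ (h : Lin4 A₁ A₂ A₃ β) (v : E) : A₃ (A₃ v) = v := by
  rw [← h.m12 (A₃ v), ← h.m21 v, h.sq₂, h.sq₁]

theorem m23 (h : Lin4 A₁ A₂ A₃ β) (v : E) : A₂ (A₃ v) = A₁ v := by
  rw [← h.m21 v, h.sq₂]

theorem m32 (h : Lin4 A₁ A₂ A₃ β) (v : E) : A₃ (A₂ v) = A₁ v := by
  rw [← h.m12 (A₂ v), h.sq₂]

theorem m31 (h : Lin4 A₁ A₂ A₃ β) (v : E) : A₃ (A₁ v) = A₂ v := by
  rw [← h.m21 (A₁ v), h.sq₁]

theorem m13 (h : Lin4 A₁ A₂ A₃ β) (v : E) : A₁ (A₃ v) = A₂ v := by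
  rw [← h.m12 v, h.sq₁]

theorem rot (h : Lin4 A₁ A₂ A₃ β) : Lin4 A₂ A₃ A₁ β :=
  ⟨h.sq₂, h.sq₃, h.m23, h.m32, h.c₂, h.c₃, h.c₁, h.cube⟩

theorem wt_third (h : Lin4 A₁ A₂ A₃ β) {v : E} (hv : v ∈ wt A₁ A₂) : A₃ v = -v := by
  rw [← h.m12 v, hv.2, map_neg, hv.1]

theorem fix_third (h : Lin4 A₁ A₂ A₃ β) {v : E} (hv : v ∈ fix2 A₁ A₂) : A₃ v = v := by
  rw [← h.m12 v, hv.2, hv.1]

theorem fix2_rot (h : Lin4 A₁ A₂ A₃ β) : fix2 A₂ A₃ = fix2 A₁ A₂ := by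
  ext v
  constructor
  · intro hv
    exact ⟨by rw [← h.m23 v, hv.2, hv.1], hv.1⟩
  · intro hv
    exact ⟨hv.2, h.fix_third hv⟩

theorem map_wt (h : Lin4 A₁ A₂ A₃ β) {v : E} (hv : v ∈ wt A₁ A₂) : β v ∈ wt A₂ A₃ := by
  refine ⟨?_, ?_⟩
  · rw [← h.c₁ v, hv.1]
  · rw [← h.c₂ v, hv.2, map_neg]

theorem map_fix (h : Lin4 A₁ A₂ A₃ β) {v : E} (hv : v ∈ fix2 A₁ A₂) : β v ∈ fix2 A₁ A₂ := by
  refine ⟨?_, ?_⟩
  · rw [← h.c₃ v, h.fix_third hv]
  · rw [← h.c₁ v, hv.1]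

/-- the four weight spaces are independent -/
theorem indep (h : Lin4 A₁ A₂ A₃ β) {c x y z : E}
    (hc : c ∈ fix2 A₁ A₂) (hx : x ∈ wt A₁ A₂) (hy : y ∈ wt A₂ A₃) (hz : z ∈ wt A₃ A₁)
    (h0 : c + x + y + z = 0) : c = 0 ∧ x = 0 ∧ y = 0 ∧ z = 0 := by
  have hc₁ := hc.1
  have hc₂ := hc.2
  have hc₃ := h.fix_third hc
  have hx₁ := hx.1
  have hx₂ := hx.2
  have hx₃ := h.wt_third hx
  have hy₂ := hy.1
  have hy₃ := hy.2
  have hy₁ := h.rot.wt_third hy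
  have hz₃ := hz.1
  have hz₁ := hz.2
  have hz₂ := h.rot.rot.wt_third hz
  have e1 := congrArg A₁ h0
  have e2 := congrArg A₂ h0
  have e3 := congrArg A₃ h0
  simp only [map_add, map_zero, hc₁, hc₂, hc₃, hx₁, hx₂, hx₃, hy₁, hy₂, hy₃, hz₁, hz₂, hz₃]
    at e1 e2 e3
  have tc := add3 c
  have tx := add3 x
  have ty := add3 y
  have tz := add3 z
  refine ⟨?_, ?_, ?_, ?_⟩
  · have : c = (c + x + y + z) + (c + x + -y + -z) + (c + -x + y + -z) + (c + -x + -y + z)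
        - (c + c + c) := by abel
    rw [this, h0, e1, e2, e3, tc]; simp
  · have : x = (c + x + y + z) + (c + x + -y + -z) - (c + -x + y + -z) - (c + -x + -y + z)
        - (x + x + x) := by abel
    rw [this, h0, e1, e2, e3, tx]; simp
  · have : y = (c + x + y + z) - (c + x + -y + -z) + (c + -x + y + -z) - (c + -x + -y + z)
        - (y + y + y) := by abel
    rw [this, h0, e1, e2, e3, ty]; simp
  · have : z = (c + x + y + z) - (c + x + -y + -z) - (c + -x + y + -z) + (c + -x + -y + z)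
        - (z + z + z) := by abel
    rw [this, h0, e1, e2, e3, tz]; simp

/-- the four projections -/
theorem p0_mem (h : Lin4 A₁ A₂ A₃ β) (v : E) : v + A₁ v + A₂ v + A₃ v ∈ fix2 A₁ A₂ := by
  refine ⟨?_, ?_⟩
  · simp only [map_add, h.sq₁, h.m12, h.m13]; abel
  · simp only [map_add, h.sq₂, h.m21, h.m23]; abel

theorem p1_mem (h : Lin4 A₁ A₂ A₃ β) (v : E) : v + A₁ v - A₂ v - A₃ v ∈ wt A₁ A₂ := by
  refine ⟨?_, ?_⟩
  · simp only [map_add, map_sub, h.sq₁, h.m12, h.m13]; abel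
  · simp only [map_add, map_sub, h.sq₂, h.m21, h.m23]; abel

theorem p2_mem (h : Lin4 A₁ A₂ A₃ β) (v : E) : v - A₁ v + A₂ v - A₃ v ∈ wt A₂ A₃ := by
  have := h.rot.p1_mem v
  have e : v + A₂ v - A₃ v - A₁ v = v - A₁ v + A₂ v - A₃ v := by abel
  rwa [e] at this

theorem p3_mem (h : Lin4 A₁ A₂ A₃ β) (v : E) : v - A₁ v - A₂ v + A₃ v ∈ wt A₃ A₁ := by
  have := h.rot.rot.p1_mem v
  have e : v + A₃ v - A₁ v - A₂ v = v - A₁ v - A₂ v + A₃ v := by abel
  rwa [e] at this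

theorem decomp (_h : Lin4 A₁ A₂ A₃ β) (v : E) :
    v = (v + A₁ v + A₂ v + A₃ v) + (v + A₁ v - A₂ v - A₃ v) + (v - A₁ v + A₂ v - A₃ v)
      + (v - A₁ v - A₂ v + A₃ v) := by
  have t := add3 v
  have : (v + A₁ v + A₂ v + A₃ v) + (v + A₁ v - A₂ v - A₃ v) + (v - A₁ v + A₂ v - A₃ v)
      + (v - A₁ v - A₂ v + A₃ v) = v + (v + v + v) := by abel
  rw [this, t, add_zero]

theorem exists_decomp (h : Lin4 A₁ A₂ A₃ β) (v : E) :
    ∃ c ∈ fix2 A₁ A₂, ∃ x ∈ wt A₁ A₂, ∃ y ∈ wt A₂ A₃, ∃ z ∈ wt A₃ A₁, v = c + x + y + z :=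
  ⟨_, h.p0_mem v, _, h.p1_mem v, _, h.p2_mem v, _, h.p3_mem v, h.decomp v⟩

/-- `β` maps the third weight space back to the first -/
theorem map_wt₃ (h : Lin4 A₁ A₂ A₃ β) {v : E} (hv : v ∈ wt A₃ A₁) : β v ∈ wt A₁ A₂ :=
  h.rot.rot.map_wt hv

theorem map_wt₂ (h : Lin4 A₁ A₂ A₃ β) {v : E} (hv : v ∈ wt A₂ A₃) : β v ∈ wt A₃ A₁ :=
  h.rot.map_wt hv

theorem beta_inj (h : Lin4 A₁ A₂ A₃ β) {v : E} (hv : β v = 0) : v = 0 := by
  rw [← h.cube v, hv, map_zero, map_zero]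

/-- `(β - 1) ^ 2 = β ^ 2 + β + 1` in characteristic three. -/
theorem nsq_apply (β : E →ₗ[ZMod 3] E) (v : E) :
    ((β - 1) * (β - 1)) v = β (β v) + β v + v := by
  have t := add3 (β v)
  have e : ((β - 1) * (β - 1)) v = β (β v) - β v - (β v - v) := by
    simp [Module.End.mul_apply, LinearMap.sub_apply, map_sub]
  rw [e]
  have : β (β v) - β v - (β v - v) = β (β v) + β v + v - (β v + β v + β v) := by abel
  rw [this, t, sub_zero]

theorem nsq_inj (h : Lin4 A₁ A₂ A₃ β) {v : E} (hv : v ∈ wt A₁ A₂)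
    (h0 : ((β - 1) * (β - 1)) v = 0) : v = 0 := by
  rw [nsq_apply] at h0
  have h1 : (0 : E) + v + β v + β (β v) = 0 := by
    have e : (0 : E) + v + β v + β (β v) = β (β v) + β v + v := by abel
    rw [e, h0]
  exact (h.indep (Submodule.zero_mem _) hv (h.map_wt hv) (h.map_wt₂ (h.map_wt hv)) h1).2.1

theorem finrank_wt_le [Module.Finite (ZMod 3) E] (h : Lin4 A₁ A₂ A₃ β)
    (hrk1 : Module.finrank (ZMod 3) (LinearMap.range ((β - 1) * (β - 1))) ≤ 1) :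
    Module.finrank (ZMod 3) (wt A₁ A₂) ≤ 1 := by
  set N : E →ₗ[ZMod 3] E := (β - 1) * (β - 1) with hN
  let g : wt A₁ A₂ →ₗ[ZMod 3] E := N.domRestrict (wt A₁ A₂)
  have hginj : Function.Injective g := by
    rw [injective_iff_map_eq_zero]
    rintro ⟨v, hv⟩ hgv
    have : v = 0 := h.nsq_inj hv hgv
    exact Subtype.ext this
  have hle : LinearMap.range g ≤ LinearMap.range N := by
    rintro _ ⟨x, rfl⟩
    exact ⟨x, rfl⟩
  calc Module.finrank (ZMod 3) (wt A₁ A₂)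
      = Module.finrank (ZMod 3) (LinearMap.range g) := (LinearMap.finrank_range_of_inj hginj).symm
    _ ≤ Module.finrank (ZMod 3) (LinearMap.range N) := Submodule.finrank_mono hle
    _ ≤ 1 := hrk1

/-- if the first weight space vanishes, `A₁` is the identity -/
theorem wt_ne_bot (h : Lin4 A₁ A₂ A₃ β) (hA : ∃ v, A₁ v ≠ v) : wt A₁ A₂ ≠ ⊥ := by
  intro hbot
  obtain ⟨v, hv⟩ := hA
  have z1 : ∀ w ∈ wt A₁ A₂, w = 0 := by
    intro w hw
    rw [hbot] at hw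
    exact (Submodule.mem_bot _).1 hw
  have z3 : ∀ w ∈ wt A₃ A₁, w = 0 := by
    intro w hw
    exact h.beta_inj (z1 _ (h.map_wt₃ hw))
  have z2 : ∀ w ∈ wt A₂ A₃, w = 0 := by
    intro w hw
    exact h.beta_inj (z3 _ (h.map_wt₂ hw))
  have hd := h.decomp v
  rw [z1 _ (h.p1_mem v), z2 _ (h.p2_mem v), z3 _ (h.p3_mem v), add_zero, add_zero, add_zero] at hd
  have := (h.p0_mem v).1
  rw [← hd] at this
  exact hv this

theorem finrank_wt [Module.Finite (ZMod 3) E] (h : Lin4 A₁ A₂ A₃ β)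
    (hrk1 : Module.finrank (ZMod 3) (LinearMap.range ((β - 1) * (β - 1))) ≤ 1)
    (hA : ∃ v, A₁ v ≠ v) : Module.finrank (ZMod 3) (wt A₁ A₂) = 1 := by
  refine le_antisymm (h.finrank_wt_le hrk1) ?_
  have hne := h.wt_ne_bot hA
  rw [Nat.succ_le_iff, Module.finrank_pos_iff_exists_ne_zero]
  obtain ⟨w, hw, hw0⟩ := (Submodule.ne_bot_iff _).1 hne
  exact ⟨⟨w, hw⟩, fun hh => hw0 (congrArg Subtype.val hh)⟩

/-- `β` is trivial on the fixed space, by rank additivity -/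
theorem fix_of_rank [Module.Finite (ZMod 3) E] (h : Lin4 A₁ A₂ A₃ β)
    (hrk2 : Module.finrank (ZMod 3) (LinearMap.range (β - 1)) ≤ 2)
    (hL : wt A₁ A₂ ≠ ⊥) : ∀ c ∈ fix2 A₁ A₂, β c = c := by
  intro c hc
  by_contra hne
  obtain ⟨v, hv, hv0⟩ := (Submodule.ne_bot_iff _).1 hL
  have hbv : β v ∈ wt A₂ A₃ := h.map_wt hv
  have hbbv : β (β v) ∈ wt A₃ A₁ := h.map_wt₂ hbv
  have hbc : β c ∈ fix2 A₁ A₂ := h.map_fix hc
  have hnc : β c - c ≠ 0 := fun hh => hne (sub_eq_zero.1 hh)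
  have hbbv0 : β (β v) ≠ 0 := fun hh => hv0 (h.beta_inj (h.beta_inj hh))
  let u : Fin 3 → E := ![β c - c, β v - v, β (β v) - β v]
  have hli : LinearIndependent (ZMod 3) u := by
    rw [Fintype.linearIndependent_iff]
    intro g hg
    simp only [Fin.sum_univ_three, u, Matrix.cons_val_zero, Matrix.cons_val_one,
      Matrix.cons_val_two, Matrix.head_cons, Matrix.tail_cons] at hg
    have key := h.indep (c := g 0 • (β c - c)) (x := -(g 1 • v))
      (y := g 1 • β v - g 2 • β v) (z := g 2 • β (β v))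
      (Submodule.smul_mem _ _ (Submodule.sub_mem _ hbc hc))
      (Submodule.neg_mem _ (Submodule.smul_mem _ _ hv))
      (Submodule.sub_mem _ (Submodule.smul_mem _ _ hbv) (Submodule.smul_mem _ _ hbv))
      (Submodule.smul_mem _ _ hbbv)
      (by rw [← hg]; simp only [smul_sub]; abel)
    obtain ⟨k0, k1, -, k3⟩ := key
    have g0 : g 0 = 0 := (smul_eq_zero.1 k0).resolve_right hnc
    have g1 : g 1 = 0 := (smul_eq_zero.1 (neg_eq_zero.1 k1)).resolve_right hv0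
    have g2 : g 2 = 0 := (smul_eq_zero.1 k3).resolve_right hbbv0
    intro i
    fin_cases i
    · exact g0
    · exact g1
    · exact g2
  have hspan : Submodule.span (ZMod 3) (Set.range u) ≤ LinearMap.range (β - 1) := by
    rw [Submodule.span_le]
    rintro _ ⟨i, rfl⟩
    fin_cases i
    · exact ⟨c, by simp [u]⟩
    · exact ⟨v, by simp [u]⟩
    · exact ⟨β v, by simp [u]⟩
  have h3 : Module.finrank (ZMod 3) (Submodule.span (ZMod 3) (Set.range u)) = 3 := by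
    rw [finrank_span_eq_card hli]; simp
  have := Submodule.finrank_mono hspan
  omega

/-- `dim C(A₁) = dim C + dim L₁` -/
theorem finrank_fix1 [Module.Finite (ZMod 3) E] (h : Lin4 A₁ A₂ A₃ β) :
    Module.finrank (ZMod 3) (fix1 A₁)
      = Module.finrank (ZMod 3) (fix2 A₁ A₂) + Module.finrank (ZMod 3) (wt A₁ A₂) := by
  have hsup : fix2 A₁ A₂ ⊔ wt A₁ A₂ = fix1 A₁ := by
    apply le_antisymm
    · refine sup_le ?_ ?_
      · intro v hv; exact hv.1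
      · intro v hv; exact hv.1
    · intro v hv
      have hv1 : A₁ v = v := hv
      rw [Submodule.mem_sup]
      refine ⟨-(v + A₂ v), ?_, -(v - A₂ v), ?_, ?_⟩
      · refine Submodule.neg_mem _ ⟨?_, ?_⟩
        · rw [map_add, hv1, h.m12, ← h.m21, hv1]
        · rw [map_add, h.sq₂, add_comm]
      · refine Submodule.neg_mem _ ⟨?_, ?_⟩
        · rw [map_sub, hv1, h.m12, ← h.m21, hv1]
        · rw [map_sub, h.sq₂]; abel
      · have t := add3 v
        have : -(v + A₂ v) + -(v - A₂ v) = v - (v + v + v) := by abel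
        rw [this, t, sub_zero]
  have hinf : fix2 A₁ A₂ ⊓ wt A₁ A₂ = ⊥ := by
    rw [eq_bot_iff]
    intro v hv
    rw [Submodule.mem_inf] at hv
    have : v = -v := by
      have a := hv.1.2
      have b := hv.2.2
      rw [a] at b
      exact b
    exact (Submodule.mem_bot _).2 (eq_zero_of_eq_neg this)
  have := Submodule.finrank_sup_add_finrank_inf_eq (fix2 A₁ A₂) (wt A₁ A₂)
  rw [hsup, hinf, finrank_bot, add_zero] at this
  exact this

theorem next_le (h : Lin4 A₁ A₂ A₃ β) {N : Submodule (ZMod 3) E} (hNβ : ∀ v ∈ N, β v ∈ N)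
    (hL : wt A₁ A₂ ≤ N) : wt A₂ A₃ ≤ N := by
  intro y hy
  have h1 : β (β y) ∈ wt A₁ A₂ := h.map_wt₃ (h.map_wt₂ hy)
  have h2 := hNβ _ (hL h1)
  rwa [h.cube] at h2

end Lin4

theorem le_of_finrank_le_one [Module.Finite (ZMod 3) E] {L N : Submodule (ZMod 3) E}
    (hL : Module.finrank (ZMod 3) L ≤ 1) {w : E} (hwL : w ∈ L) (hw0 : w ≠ 0) (hwN : w ∈ N) :
    L ≤ N := by
  have hne : (⟨w, hwL⟩ : L) ≠ 0 := fun hh => hw0 (congrArg Subtype.val hh)
  have hpos : 0 < Module.finrank (ZMod 3) L := by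
    rw [Module.finrank_pos_iff_exists_ne_zero]
    exact ⟨⟨w, hwL⟩, hne⟩
  have h1 : Module.finrank (ZMod 3) L = 1 := le_antisymm hL hpos
  have hall := (finrank_eq_one_iff_of_nonzero' (⟨w, hwL⟩ : L) hne).1 h1
  intro y hy
  obtain ⟨c, hc⟩ := hall ⟨y, hy⟩
  have hy' : y = c • w := by
    have := congrArg Subtype.val hc
    simpa using this.symm
  rw [hy']
  exact N.smul_mem c hwN

/-- an invariant submodule lies in the fixed space or contains all three weight lines -/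
theorem Lin4.dichotomy [Module.Finite (ZMod 3) E] {A₁ A₂ A₃ β : E →ₗ[ZMod 3] E}
    (h : Lin4 A₁ A₂ A₃ β)
    (hf1 : Module.finrank (ZMod 3) (wt A₁ A₂) ≤ 1) (hf2 : Module.finrank (ZMod 3) (wt A₂ A₃) ≤ 1)
    (hf3 : Module.finrank (ZMod 3) (wt A₃ A₁) ≤ 1)
    (N : Submodule (ZMod 3) E) (hN₁ : ∀ v ∈ N, A₁ v ∈ N) (hN₂ : ∀ v ∈ N, A₂ v ∈ N)
    (hNβ : ∀ v ∈ N, β v ∈ N) :
    N ≤ fix2 A₁ A₂ ∨ (wt A₁ A₂ ≤ N ∧ wt A₂ A₃ ≤ N ∧ wt A₃ A₁ ≤ N) := by
  have hN₃ : ∀ v ∈ N, A₃ v ∈ N := fun v hv => by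
    rw [← h.m12]; exact hN₁ _ (hN₂ _ hv)
  by_cases hz : ∀ v ∈ N, (v + A₁ v - A₂ v - A₃ v = 0 ∧ v - A₁ v + A₂ v - A₃ v = 0
      ∧ v - A₁ v - A₂ v + A₃ v = 0)
  · left
    intro v hv
    obtain ⟨z1, z2, z3⟩ := hz v hv
    have hd := h.decomp v
    rw [z1, z2, z3, add_zero, add_zero, add_zero] at hd
    rw [hd]; exact h.p0_mem v
  · right
    push Not at hz
    obtain ⟨v, hv, hz⟩ := hz
    have m1 : v + A₁ v - A₂ v - A₃ v ∈ N :=
      N.sub_mem (N.sub_mem (N.add_mem hv (hN₁ v hv)) (hN₂ v hv)) (hN₃ v hv)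
    have m2 : v - A₁ v + A₂ v - A₃ v ∈ N :=
      N.sub_mem (N.add_mem (N.sub_mem hv (hN₁ v hv)) (hN₂ v hv)) (hN₃ v hv)
    have m3 : v - A₁ v - A₂ v + A₃ v ∈ N :=
      N.add_mem (N.sub_mem (N.sub_mem hv (hN₁ v hv)) (hN₂ v hv)) (hN₃ v hv)
    have all_of_one : wt A₁ A₂ ≤ N → (wt A₁ A₂ ≤ N ∧ wt A₂ A₃ ≤ N ∧ wt A₃ A₁ ≤ N) :=
      fun hL => ⟨hL, h.next_le hNβ hL, h.rot.next_le hNβ (h.next_le hNβ hL)⟩
    by_cases c1 : v + A₁ v - A₂ v - A₃ v = 0
    · by_cases c2 : v - A₁ v + A₂ v - A₃ v = 0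
      · have c3 := hz c1 c2
        have hL3 := le_of_finrank_le_one hf3 (h.p3_mem v) c3 m3
        exact all_of_one (h.rot.rot.next_le hNβ hL3)
      · have hL2 := le_of_finrank_le_one hf2 (h.p2_mem v) c2 m2
        exact all_of_one (h.rot.rot.next_le hNβ (h.rot.next_le hNβ hL2))
    · exact all_of_one (le_of_finrank_le_one hf1 (h.p1_mem v) c1 m1)

end Lin

/-! ## The four-group -/

section Grp

variable {S : Type*} [Group S]

/-- `Q = {1, e₁, e₂, e₃}` is a four-group whose involutions are cycled by conjugation with `b`. -/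
structure Triple (b : S) (Q : Subgroup S) (e₁ e₂ e₃ : S) : Prop where
  mem₁ : e₁ ∈ Q
  mem₂ : e₂ ∈ Q
  mem₃ : e₃ ∈ Q
  ne₁ : e₁ ≠ 1
  ne₂ : e₂ ≠ 1
  ne₃ : e₃ ≠ 1
  ne12 : e₁ ≠ e₂
  ne23 : e₂ ≠ e₃
  ne31 : e₃ ≠ e₁
  sq₁ : e₁ * e₁ = 1
  sq₂ : e₂ * e₂ = 1
  sq₃ : e₃ * e₃ = 1
  mul12 : e₁ * e₂ = e₃
  mul21 : e₂ * e₁ = e₃
  conj₁ : b * e₁ * b⁻¹ = e₂
  conj₂ : b * e₂ * b⁻¹ = e₃
  conj₃ : b * e₃ * b⁻¹ = e₁
  all : ∀ q ∈ Q, q = 1 ∨ q = e₁ ∨ q = e₂ ∨ q = e₃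

theorem Triple.mul23 {b : S} {Q : Subgroup S} {e₁ e₂ e₃ : S} (h : Triple b Q e₁ e₂ e₃) :
    e₂ * e₃ = e₁ := by
  rw [← h.mul21, ← mul_assoc, h.sq₂, one_mul]

theorem Triple.mul32 {b : S} {Q : Subgroup S} {e₁ e₂ e₃ : S} (h : Triple b Q e₁ e₂ e₃) :
    e₃ * e₂ = e₁ := by
  rw [← h.mul12, mul_assoc, h.sq₂, mul_one]

theorem Triple.rot {b : S} {Q : Subgroup S} {e₁ e₂ e₃ : S} (h : Triple b Q e₁ e₂ e₃) :
    Triple b Q e₂ e₃ e₁ where
  mem₁ := h.mem₂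
  mem₂ := h.mem₃
  mem₃ := h.mem₁
  ne₁ := h.ne₂
  ne₂ := h.ne₃
  ne₃ := h.ne₁
  ne12 := h.ne23
  ne23 := h.ne31
  ne31 := h.ne12
  sq₁ := h.sq₂
  sq₂ := h.sq₃
  sq₃ := h.sq₁
  mul12 := h.mul23
  mul21 := h.mul32
  conj₁ := h.conj₂
  conj₂ := h.conj₃
  conj₃ := h.conj₁
  all := fun q hq => by
    rcases h.all q hq with h1 | h1 | h1 | h1
    · exact Or.inl h1
    · exact Or.inr (Or.inr (Or.inr h1))
    · exact Or.inr (Or.inl h1)
    · exact Or.inr (Or.inr (Or.inl h1))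

theorem four_elts {Q : Subgroup S} (hQ4 : Nat.card Q = 4) {f g : S} (hf : f ∈ Q) (hg : g ∈ Q)
    (hf1 : f ≠ 1) (hg1 : g ≠ 1) (hfg : f ≠ g) (hgg : g * g = 1) :
    ∀ q ∈ Q, q = 1 ∨ q = f ∨ q = g ∨ q = f * g := by
  classical
  have hfin : Finite Q := Nat.finite_of_card_ne_zero (by omega)
  let T : Finset S := {1, f, g, f * g}
  have hT : T.card = 4 := by
    have h1 : (1 : S) ∉ ({f, g, f * g} : Finset S) := by
      simp only [Finset.mem_insert, Finset.mem_singleton, not_or]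
      refine ⟨fun h => hf1 h.symm, fun h => hg1 h.symm, fun h => ?_⟩
      apply hfg
      have e1 : f = g⁻¹ := eq_inv_of_mul_eq_one_left h.symm
      have e2 : g⁻¹ = g := inv_eq_of_mul_eq_one_left hgg
      rw [e1, e2]
    have h2 : f ∉ ({g, f * g} : Finset S) := by
      simp only [Finset.mem_insert, Finset.mem_singleton, not_or]
      refine ⟨hfg, fun h => hg1 ?_⟩
      have : f * 1 = f * g := by rw [mul_one]; exact h
      exact (mul_left_cancel this).symm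
    have h3 : g ∉ ({f * g} : Finset S) := by
      simp only [Finset.mem_singleton]
      intro h
      apply hf1
      have : 1 * g = f * g := by rw [one_mul]; exact h
      exact (mul_right_cancel this).symm
    show (insert 1 (insert f (insert g ({f * g} : Finset S)))).card = 4
    rw [Finset.card_insert_of_notMem h1, Finset.card_insert_of_notMem h2,
      Finset.card_insert_of_notMem h3, Finset.card_singleton]
  have hsub : (T : Set S) ⊆ (Q : Set S) := by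
    intro x hx
    simp only [T, Finset.coe_insert, Finset.coe_singleton, Set.mem_insert_iff,
      Set.mem_singleton_iff] at hx
    rcases hx with rfl | rfl | rfl | rfl
    exacts [Q.one_mem, hf, hg, Q.mul_mem hf hg]
  have hcard : (Q : Set S).ncard = 4 := by
    rw [← hQ4]; exact (Nat.card_coe_set_eq _).symm
  have heq : (T : Set S) = Q :=
    Set.eq_of_subset_of_ncard_le hsub (by rw [Set.ncard_coe_finset, hT, hcard]) (Set.toFinite _)
  intro q hq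
  have : q ∈ (T : Set S) := by rw [heq]; exact hq
  simpa [T] using this

theorem triple_of_mem {b : S} {Q : Subgroup S} (hQ : Cfsg.IsElementaryAbelian 2 Q)
    (hQ4 : Nat.card Q = 4) (hb3 : b ^ 3 = 1) (hbQ : b ∈ Subgroup.normalizer (Q : Set S))
    (hbQ' : b ∉ Subgroup.centralizer (Q : Set S)) {e : S} (he : e ∈ Q) (he1 : e ≠ 1) :
    Triple b Q e (b * e * b⁻¹) (b * (b * e * b⁻¹) * b⁻¹) := by
  have hsq : ∀ q ∈ Q, q * q = 1 := fun q hq => by
    have := hQ.2 q hq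
    rwa [pow_two] at this
  have hcomm : ∀ x ∈ Q, ∀ y ∈ Q, x * y = y * x := fun x hx y hy =>
    congrArg Subtype.val (hQ.1.is_comm.comm ⟨x, hx⟩ ⟨y, hy⟩)
  have hφ : ∀ q ∈ Q, b * q * b⁻¹ ∈ Q := fun q hq => (Subgroup.mem_normalizer_iff.1 hbQ q).1 hq
  have hφinj : ∀ q r, b * q * b⁻¹ = b * r * b⁻¹ → q = r := by
    intro q r h
    exact mul_left_cancel (mul_right_cancel h)
  have hφ1 : ∀ q, q ≠ 1 → b * q * b⁻¹ ≠ 1 := by
    intro q hq h
    apply hq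
    apply hφinj
    rw [h]; group
  have hφmul : ∀ q r, b * (q * r) * b⁻¹ = (b * q * b⁻¹) * (b * r * b⁻¹) := by
    intro q r; group
  have hφ3 : ∀ q, b * (b * (b * q * b⁻¹) * b⁻¹) * b⁻¹ = q := by
    intro q
    have hb3' : b * b * b = 1 := by rw [← hb3]; simp [pow_succ]
    have : b * (b * (b * q * b⁻¹) * b⁻¹) * b⁻¹ = (b * b * b) * q * (b * b * b)⁻¹ := by group
    rw [this, hb3']; simp
  obtain ⟨f, hfQ, hfmove⟩ : ∃ f ∈ Q, b * f * b⁻¹ ≠ f := by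
    by_contra hcon
    push Not at hcon
    apply hbQ'
    rw [Subgroup.mem_centralizer_iff]
    intro q hq
    have := hcon q hq
    calc q * b = (b * q * b⁻¹) * b := by rw [this]
      _ = b * q := by group
  have hmove : ∀ x ∈ Q, x ≠ 1 → b * x * b⁻¹ ≠ x := by
    intro x hx hx1 hfix
    have hf1 : f ≠ 1 := by
      rintro rfl
      apply hfmove; group
    have hfx : f ≠ x := by
      rintro rfl
      exact hfmove hfix
    have h4 := four_elts hQ4 hx hfQ hx1 hf1 (Ne.symm hfx) (hsq f hfQ) (b * f * b⁻¹) (hφ f hfQ)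
    rcases h4 with h | h | h | h
    · exact hφ1 f hf1 h
    · exact hfx (hφinj _ _ (h.trans hfix.symm))
    · exact hfmove h
    · have h2 : b * (b * f * b⁻¹) * b⁻¹ = f := by
        rw [h, hφmul, hfix, h, ← mul_assoc, hsq x hx, one_mul]
      have h3 := hφ3 f
      rw [h2] at h3
      exact hfmove h3
  have he'Q : b * e * b⁻¹ ∈ Q := hφ e he
  have he''Q : b * (b * e * b⁻¹) * b⁻¹ ∈ Q := hφ _ he'Q
  have he'1 : b * e * b⁻¹ ≠ 1 := hφ1 e he1
  have he''1 : b * (b * e * b⁻¹) * b⁻¹ ≠ 1 := hφ1 _ he'1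
  have h12 : e ≠ b * e * b⁻¹ := fun h => hmove e he he1 h.symm
  have h23 : b * e * b⁻¹ ≠ b * (b * e * b⁻¹) * b⁻¹ := fun h => hmove _ he'Q he'1 h.symm
  have hc3 : b * (b * (b * e * b⁻¹) * b⁻¹) * b⁻¹ = e := hφ3 e
  have h31 : b * (b * e * b⁻¹) * b⁻¹ ≠ e := by
    intro h
    rw [h] at hc3
    exact h12 hc3.symm
  have h4 := four_elts hQ4 he he'Q he1 he'1 h12 (hsq _ he'Q)
  have hmul : e * (b * e * b⁻¹) = b * (b * e * b⁻¹) * b⁻¹ := by
    rcases h4 _ he''Q with h | h | h | h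
    · exact absurd h he''1
    · exact absurd h h31
    · exact absurd h.symm h23
    · exact h.symm
  exact
    { mem₁ := he
      mem₂ := he'Q
      mem₃ := he''Q
      ne₁ := he1
      ne₂ := he'1
      ne₃ := he''1
      ne12 := h12
      ne23 := h23
      ne31 := h31
      sq₁ := hsq e he
      sq₂ := hsq _ he'Q
      sq₃ := hsq _ he''Q
      mul12 := hmul
      mul21 := by rw [← hcomm e he _ he'Q]; exact hmul
      conj₁ := rfl
      conj₂ := rfl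
      conj₃ := hc3
      all := fun q hq => by
        rcases h4 q hq with h | h | h | h
        · exact Or.inl h
        · exact Or.inr (Or.inl h)
        · exact Or.inr (Or.inr (Or.inl h))
        · exact Or.inr (Or.inr (Or.inr (h.trans hmul))) }

end Grp

/-! ## The representation -/

section Rep

variable {S E : Type*} [Group S] [AddCommGroup E] [Module (ZMod 3) E]
  (ρ : Representation (ZMod 3) S E)

theorem rho_mul_apply (g h : S) (v : E) : ρ g (ρ h v) = ρ (g * h) v := by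
  rw [map_mul]; rfl

/-- the fixed space of a subgroup -/
def fixQ (Q : Subgroup S) : Submodule (ZMod 3) E where
  carrier := {v | ∀ q ∈ Q, ρ q v = v}
  add_mem' := by
    intro a b ha hb q hq
    rw [map_add, ha q hq, hb q hq]
  zero_mem' := fun q _ => map_zero _
  smul_mem' := by
    intro c a ha q hq
    rw [map_smul, ha q hq]

theorem mem_fixQ {Q : Subgroup S} {v : E} : v ∈ fixQ ρ Q ↔ ∀ q ∈ Q, ρ q v = v := Iff.rfl

variable {ρ}

theorem Triple.lin4 {b : S} {Q : Subgroup S} {e₁ e₂ e₃ : S} (ht : Triple b Q e₁ e₂ e₃)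
    (hb3 : b ^ 3 = 1) : Lin4 (ρ e₁) (ρ e₂) (ρ e₃) (ρ b) where
  sq₁ := fun v => by rw [rho_mul_apply, ht.sq₁, map_one]; rfl
  sq₂ := fun v => by rw [rho_mul_apply, ht.sq₂, map_one]; rfl
  m12 := fun v => by rw [rho_mul_apply, ht.mul12]
  m21 := fun v => by rw [rho_mul_apply, ht.mul21]
  c₁ := fun v => by
    rw [rho_mul_apply, rho_mul_apply]
    have : b * e₁ = e₂ * b := by rw [← ht.conj₁]; group
    rw [this]
  c₂ := fun v => by
    rw [rho_mul_apply, rho_mul_apply]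
    have : b * e₂ = e₃ * b := by rw [← ht.conj₂]; group
    rw [this]
  c₃ := fun v => by
    rw [rho_mul_apply, rho_mul_apply]
    have : b * e₃ = e₁ * b := by rw [← ht.conj₃]; group
    rw [this]
  cube := fun v => by
    rw [rho_mul_apply, rho_mul_apply]
    have : b * b * b = 1 := by rw [← hb3]; simp [pow_succ]
    rw [this, map_one]; rfl

theorem Triple.fixQ_eq {b : S} {Q : Subgroup S} {e₁ e₂ e₃ : S} (ht : Triple b Q e₁ e₂ e₃) :
    fixQ ρ Q = fix2 (ρ e₁) (ρ e₂) := by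
  ext v
  constructor
  · intro hv
    exact ⟨hv e₁ ht.mem₁, hv e₂ ht.mem₂⟩
  · intro hv q hq
    rcases ht.all q hq with rfl | rfl | rfl | rfl
    · rw [map_one]; rfl
    · exact hv.1
    · exact hv.2
    · rw [← ht.mul12, ← rho_mul_apply, hv.2, hv.1]

/-- `g` normalizing `Q` preserves the fixed space of `Q`. -/
theorem map_fixQ_of_normalizer {Q : Subgroup S} {g : S}
    (hg : g ∈ Subgroup.normalizer (Q : Set S)) {v : E} (hv : v ∈ fixQ ρ Q) :
    ρ g v ∈ fixQ ρ Q := by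
  intro q hq
  have hq' : g⁻¹ * q * g ∈ Q := (Subgroup.mem_normalizer_iff''.1 hg q).1 hq
  have e : q * g = g * (g⁻¹ * q * g) := by group
  rw [rho_mul_apply, e, ← rho_mul_apply, hv _ hq']

/-- `g` commuting with `e₁, e₂` preserves their weight space. -/
theorem map_wt_of_commute {e₁ e₂ g : S} (h1 : g * e₁ = e₁ * g) (h2 : g * e₂ = e₂ * g) {v : E}
    (hv : v ∈ wt (ρ e₁) (ρ e₂)) : ρ g v ∈ wt (ρ e₁) (ρ e₂) := by
  refine ⟨?_, ?_⟩
  · rw [rho_mul_apply, ← h1, ← rho_mul_apply, hv.1]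
  · rw [rho_mul_apply, ← h2, ← rho_mul_apply, hv.2, map_neg]

/-- The hypotheses of Lemma FOUR. -/
structure FourData (ρ : Representation (ZMod 3) S E) (b : S) (Q : Subgroup S) : Prop where
  faith : Function.Injective ρ
  b3 : b ^ 3 = 1
  rk2 : Module.finrank (ZMod 3) (LinearMap.range (ρ b - 1)) ≤ 2
  rk1 : Module.finrank (ZMod 3) (LinearMap.range ((ρ b - 1) * (ρ b - 1))) ≤ 1
  elem : Cfsg.IsElementaryAbelian 2 Q
  card : Nat.card Q = 4
  norm : b ∈ Subgroup.normalizer (Q : Set S)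
  ncent : b ∉ Subgroup.centralizer (Q : Set S)

namespace FourData

variable {b : S} {Q : Subgroup S} {e₁ e₂ e₃ : S}

theorem triple (hd : FourData ρ b Q) {e : S} (he : e ∈ Q) (he1 : e ≠ 1) :
    Triple b Q e (b * e * b⁻¹) (b * (b * e * b⁻¹) * b⁻¹) :=
  triple_of_mem hd.elem hd.card hd.b3 hd.norm hd.ncent he he1

theorem exists_triple (hd : FourData ρ b Q) : ∃ e₁ e₂ e₃ : S, Triple b Q e₁ e₂ e₃ := by
  obtain ⟨f, hfQ, hf⟩ : ∃ f ∈ Q, f * b ≠ b * f := by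
    by_contra hcon
    push Not at hcon
    apply hd.ncent
    rw [Subgroup.mem_centralizer_iff]
    exact hcon
  have hf1 : f ≠ 1 := by
    rintro rfl
    apply hf; simp
  exact ⟨_, _, _, hd.triple hfQ hf1⟩

theorem lin4 (hd : FourData ρ b Q) (ht : Triple b Q e₁ e₂ e₃) :
    Lin4 (ρ e₁) (ρ e₂) (ρ e₃) (ρ b) := ht.lin4 hd.b3

theorem moves (hd : FourData ρ b Q) (ht : Triple b Q e₁ e₂ e₃) : ∃ v, ρ e₁ v ≠ v := by
  by_contra hcon
  push Not at hcon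
  apply ht.ne₁
  apply hd.faith
  rw [map_one]
  exact LinearMap.ext (fun v => by rw [hcon v]; rfl)

/-- (F2) `b` cycles the weight lines -/
theorem map_wt (hd : FourData ρ b Q) (ht : Triple b Q e₁ e₂ e₃) {v : E}
    (hv : v ∈ wt (ρ e₁) (ρ e₂)) : ρ b v ∈ wt (ρ e₂) (ρ e₃) :=
  (hd.lin4 ht).map_wt hv

/-- (F3a) decomposition -/
theorem exists_decomp (hd : FourData ρ b Q) (ht : Triple b Q e₁ e₂ e₃) (v : E) :
    ∃ c ∈ fixQ ρ Q, ∃ x ∈ wt (ρ e₁) (ρ e₂), ∃ y ∈ wt (ρ e₂) (ρ e₃), ∃ z ∈ wt (ρ e₃) (ρ e₁),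
      v = c + x + y + z := by
  rw [ht.fixQ_eq]
  exact (hd.lin4 ht).exists_decomp v

/-- (F3b) independence -/
theorem indep (hd : FourData ρ b Q) (ht : Triple b Q e₁ e₂ e₃) {c x y z : E}
    (hc : c ∈ fixQ ρ Q) (hx : x ∈ wt (ρ e₁) (ρ e₂)) (hy : y ∈ wt (ρ e₂) (ρ e₃))
    (hz : z ∈ wt (ρ e₃) (ρ e₁)) (h0 : c + x + y + z = 0) : c = 0 ∧ x = 0 ∧ y = 0 ∧ z = 0 := by
  rw [ht.fixQ_eq] at hc
  exact (hd.lin4 ht).indep hc hx hy hz h0

variable [Finite E]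

/-- (F1) each weight space is a line -/
theorem finrank_wt (hd : FourData ρ b Q) (ht : Triple b Q e₁ e₂ e₃) :
    Module.finrank (ZMod 3) (wt (ρ e₁) (ρ e₂)) = 1 :=
  (hd.lin4 ht).finrank_wt hd.rk1 (hd.moves ht)

/-- (F4) `b` is trivial on the fixed space of `Q` -/
theorem fix_b (hd : FourData ρ b Q) : ∀ v ∈ fixQ ρ Q, ρ b v = v := by
  obtain ⟨e₁, e₂, e₃, ht⟩ := hd.exists_triple
  intro v hv
  rw [ht.fixQ_eq] at hv
  exact (hd.lin4 ht).fix_of_rank hd.rk2 ((hd.lin4 ht).wt_ne_bot (hd.moves ht)) v hv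

/-- (F5) `dim C_E(e) = dim C_E(Q) + 1` -/
theorem finrank_fix1 (hd : FourData ρ b Q) (ht : Triple b Q e₁ e₂ e₃) :
    Module.finrank (ZMod 3) (fix1 (ρ e₁)) = Module.finrank (ZMod 3) (fixQ ρ Q) + 1 := by
  rw [(hd.lin4 ht).finrank_fix1, hd.finrank_wt ht, ht.fixQ_eq]

/-- (F5') the same for an arbitrary involution of `Q` -/
theorem finrank_fix1_of_mem (hd : FourData ρ b Q) {e : S} (he : e ∈ Q) (he1 : e ≠ 1) :
    Module.finrank (ZMod 3) (fix1 (ρ e)) = Module.finrank (ZMod 3) (fixQ ρ Q) + 1 :=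
  hd.finrank_fix1 (hd.triple he he1)

/-- (F7) a `Q⟨b⟩`-invariant submodule lies in `C_E(Q)` or contains the three weight lines -/
theorem dichotomy (hd : FourData ρ b Q) (ht : Triple b Q e₁ e₂ e₃) (N : Submodule (ZMod 3) E)
    (hNQ : ∀ q ∈ Q, ∀ v ∈ N, ρ q v ∈ N) (hNb : ∀ v ∈ N, ρ b v ∈ N) :
    N ≤ fixQ ρ Q ∨ (wt (ρ e₁) (ρ e₂) ≤ N ∧ wt (ρ e₂) (ρ e₃) ≤ N ∧ wt (ρ e₃) (ρ e₁) ≤ N) := by
  rw [ht.fixQ_eq]
  exact (hd.lin4 ht).dichotomy (hd.finrank_wt ht).le (hd.finrank_wt ht.rot).le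
    (hd.finrank_wt ht.rot.rot).le N (hNQ e₁ ht.mem₁) (hNQ e₂ ht.mem₂) hNb

/-- (F7') the dichotomy in elementwise form (the shape used by the S3 units) -/
theorem dichotomy' (hd : FourData ρ b Q) (N : Submodule (ZMod 3) E)
    (hNQ : ∀ q ∈ Q, ∀ v ∈ N, ρ q v ∈ N) (hNb : ∀ v ∈ N, ρ b v ∈ N) :
    (∀ v ∈ N, ∀ q ∈ Q, ρ q v = v) ∨ (∀ v : E, ∀ q ∈ Q, ρ q v - v ∈ N) := by
  obtain ⟨e₁, e₂, e₃, ht⟩ := hd.exists_triple
  rcases hd.dichotomy ht N hNQ hNb with h | ⟨h1, h2, h3⟩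
  · left
    intro v hv q hq
    exact h hv q hq
  · right
    intro v q hq
    obtain ⟨c, hc, x, hx, y, hy, z, hz, rfl⟩ := hd.exists_decomp ht v
    have hcomm : ∀ e ∈ Q, q * e = e * q := fun e he =>
      congrArg Subtype.val (hd.elem.1.is_comm.comm ⟨q, hq⟩ ⟨e, he⟩)
    have hx' := map_wt_of_commute (ρ := ρ) (hcomm e₁ ht.mem₁) (hcomm e₂ ht.mem₂) hx
    have hy' := map_wt_of_commute (ρ := ρ) (hcomm e₂ ht.mem₂) (hcomm e₃ ht.mem₃) hy
    have hz' := map_wt_of_commute (ρ := ρ) (hcomm e₃ ht.mem₃) (hcomm e₁ ht.mem₁) hz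
    have e : ρ q (c + x + y + z) - (c + x + y + z)
        = (ρ q x - x) + (ρ q y - y) + (ρ q z - z) := by
      rw [map_add, map_add, map_add, hc q hq]; abel
    rw [e]
    exact N.add_mem (N.add_mem (h1 (Submodule.sub_mem _ hx' hx))
      (h2 (Submodule.sub_mem _ hy' hy))) (h3 (Submodule.sub_mem _ hz' hz))

/-- (F4') `b` is trivial on `C_E(Q)`, elementwise form -/
theorem fix_b' (hd : FourData ρ b Q) : ∀ v, (∀ q ∈ Q, ρ q v = v) → ρ b v = v :=
  fun v hv => hd.fix_b v hv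

end FourData

end Rep

end Cfsg.Agent.Lib.Helper8.CUB
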