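import Mathlib
import Cfsg.Agent.Lib.Helper3.CUBDefs
import Cfsg.Agent.Lib.Helper4.CUBSunflower
import Cfsg.Agent.Lib.Helper8.CUBFour

/-!
# Farm CUB (S4415), unit EA2

If the four-group `Q` lies in a normal subgroup `A ≤ R` of exponent 2 then `dim [E,R] ≤ 4`.
`EA2_of` takes the stub statements `P5` (frame), `decomp` (module half) and `conj_b_mem` as
hypotheses.  The lines `⟨ρ x e₁⟩` are permuted transitively by `G`; `b` is a 3-cycle on them
fixing the other spanning vectors; two conjugates of `b` with supports meeting in at most one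
line give an element of `R` of order 3.
-/

set_option autoImplicit false
set_option maxHeartbeats 1000000

open scoped commutatorElement

namespace Cfsg.Agent.Lib.Helper8.CUB

open Cfsg.Agent.Lib.Helper3.CUB

universe u v

/-! ## Vectors up to sign -/

section PmSec

set_option linter.unusedSectionVars false

variable {E : Type v} [AddCommGroup E] [Module (ZMod 3) E]

/-- `v = ± w` -/
def Pm (v w : E) : Prop := v = w ∨ v = -w

theorem Pm.refl (v : E) : Pm v v := Or.inl rfl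

theorem Pm.symm {v w : E} (h : Pm v w) : Pm w v := by
  rcases h with h | h
  · exact Or.inl h.symm
  · right; rw [h, neg_neg]

theorem Pm.map (f : E →ₗ[ZMod 3] E) {v w : E} (h : Pm v w) : Pm (f v) (f w) := by
  rcases h with h | h
  · left; rw [h]
  · right; rw [h, map_neg]

theorem Pm.trans {u v w : E} (h1 : Pm u v) (h2 : Pm v w) : Pm u w := by
  rcases h1 with rfl | rfl <;> rcases h2 with rfl | rfl
  · left; rfl
  · right; rfl
  · right; rfl
  · left; rw [neg_neg]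

theorem pm_of_smul {v w : E} {s : ZMod 3} (hv : v ≠ 0) (h : v = s • w) : Pm v w := by
  have hs : ∀ t : ZMod 3, t = 0 ∨ t = 1 ∨ t = -1 := by decide
  rcases hs s with rfl | rfl | rfl
  · exact absurd (by rw [h, zero_smul]) hv
  · left; rw [h, one_smul]
  · right; rw [h, neg_smul, one_smul]

theorem pm_fixed {T : E →ₗ[ZMod 3] E} {v w : E} (h : Pm v w) (hw : T w = w) : T v = v := by
  rcases h with rfl | rfl
  · exact hw
  · rw [map_neg, hw]

theorem not_pm_of_weights {T : E →ₗ[ZMod 3] E} {v w : E} (hv : T v = v) (hw : T w = -w)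
    (hv0 : v ≠ 0) : ¬ Pm v w := by
  intro h
  apply hv0
  apply eq_zero_of_eq_neg
  rcases h with h | h
  · -- v = w
    calc v = T v := hv.symm
      _ = T w := by rw [h]
      _ = -w := hw
      _ = -v := by rw [h]
  · -- v = -w
    calc v = T v := hv.symm
      _ = T (-w) := by rw [h]
      _ = w := by rw [map_neg, hw, neg_neg]
      _ = -v := by rw [h, neg_neg]

end PmSec

/-! ## Facts on `Fin 3` -/

theorem fin3_a : ∀ i : Fin 3, i + 1 + 1 = i + 2 := by decide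
theorem fin3_b : ∀ i : Fin 3, i + 2 + 1 = i := by decide
theorem fin3_c : ∀ i : Fin 3, i + 1 ≠ i := by decide
theorem fin3_d : ∀ i : Fin 3, i + 2 ≠ i := by decide
theorem fin3_e : ∀ i k : Fin 3, k = i ∨ k = i + 1 ∨ k = i + 2 := by decide
theorem fin3_f : ∀ i : Fin 3, i + 2 + 2 + 2 = i := by decide
theorem fin3_g : ∀ i : Fin 3, i + 1 + 1 + 1 = i := by decide
theorem fin3_h : ∀ i : Fin 3, i = 0 ∨ i = 1 ∨ i = 2 := by decide

section Main

variable {G : Type u} [Group G] {E : Type v} [AddCommGroup E] [Module (ZMod 3) E]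
  {ρ : Representation (ZMod 3) G E}

theorem rho_inv_apply (g : G) (v : E) : ρ g⁻¹ (ρ g v) = v := by
  rw [rho_mul_apply, inv_mul_cancel, map_one]; rfl

theorem rho_apply_inv (g : G) (v : E) : ρ g (ρ g⁻¹ v) = v := by
  rw [rho_mul_apply, mul_inv_cancel, map_one]; rfl

theorem rho_inj {g : G} {v w : E} (h : ρ g v = ρ g w) : v = w := by
  have := congrArg (ρ g⁻¹) h
  rwa [rho_inv_apply, rho_inv_apply] at this

theorem inv_fixed {g : G} {v : E} (h : ρ g v = v) : ρ g⁻¹ v = v := by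
  have := rho_inv_apply (ρ := ρ) g v
  rwa [h] at this

/-- the commutator `c = [b, b']` on five vectors -/
theorem cycB (b b' : G) {a0 a1 a2 d0 d1 d2 : E} {s : ZMod 3} (hs : s * s = 1)
    (ba0 : ρ b a0 = a1) (ba1 : ρ b a1 = a2) (ba2 : ρ b a2 = a0)
    (bd0 : ρ b' d0 = d1) (bd1 : ρ b' d1 = d2) (bd2 : ρ b' d2 = d0)
    (hd0 : d0 = s • a0)
    (fd1 : ρ b d1 = d1) (fd2 : ρ b d2 = d2) (fa1 : ρ b' a1 = a1) (fa2 : ρ b' a2 = a2) :
    ρ (b * b' * b⁻¹ * b'⁻¹) a0 = a1 ∧ ρ (b * b' * b⁻¹ * b'⁻¹) a1 = s • d1 ∧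
      ρ (b * b' * b⁻¹ * b'⁻¹) d1 = s • a0 ∧ ρ (b * b' * b⁻¹ * b'⁻¹) a2 = a2 ∧
      ρ (b * b' * b⁻¹ * b'⁻¹) d2 = d2 := by
  have Cv : ∀ v, ρ (b * b' * b⁻¹ * b'⁻¹) v = ρ b (ρ b' (ρ b⁻¹ (ρ b'⁻¹ v))) := fun v => by
    simp only [rho_mul_apply, mul_assoc]
  have ha0 : a0 = s • d0 := by rw [hd0, smul_smul, hs, one_smul]
  have iba1 : ρ b⁻¹ a1 = a0 := by rw [← ba0, rho_inv_apply]
  have iba2 : ρ b⁻¹ a2 = a1 := by rw [← ba1, rho_inv_apply]
  have iba0 : ρ b⁻¹ a0 = a2 := by rw [← ba2, rho_inv_apply]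
  have ibd1 : ρ b⁻¹ d1 = d1 := inv_fixed fd1
  have ibd2 : ρ b⁻¹ d2 = d2 := inv_fixed fd2
  have ib'd1 : ρ b'⁻¹ d1 = d0 := by rw [← bd0, rho_inv_apply]
  have ib'd2 : ρ b'⁻¹ d2 = d1 := by rw [← bd1, rho_inv_apply]
  have ib'd0 : ρ b'⁻¹ d0 = d2 := by rw [← bd2, rho_inv_apply]
  have ib'a1 : ρ b'⁻¹ a1 = a1 := inv_fixed fa1
  have ib'a2 : ρ b'⁻¹ a2 = a2 := inv_fixed fa2
  refine ⟨?_, ?_, ?_, ?_, ?_⟩
  · rw [Cv]
    have e1 : ρ b'⁻¹ a0 = s • d2 := by rw [ha0, map_smul, ib'd0]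
    rw [e1, map_smul, ibd2, map_smul, bd2, ← ha0, ba0]
  · rw [Cv, ib'a1, iba1]
    have e1 : ρ b' a0 = s • d1 := by rw [ha0, map_smul, bd0]
    rw [e1, map_smul, fd1]
  · rw [Cv, ib'd1, hd0, map_smul, iba0, map_smul, fa2, map_smul, ba2]
  · rw [Cv, ib'a2, iba2, fa1, ba1]
  · rw [Cv, ib'd2, ibd1, bd1, fd2]

/-- the configuration used in the counting argument -/
structure EACtx (ρ : Representation (ZMod 3) G E) (R : Subgroup G) (b : G) (e : Fin 3 → E) :
    Prop where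
  cop : (Nat.card R).Coprime 3
  normal : R.Normal
  conj : ∀ g : G, g * b * g⁻¹ * b⁻¹ ∈ R
  be : ∀ k, ρ b (e k) = e (k + 1)
  ne : ∀ i j, i ≠ j → ¬ Pm (e i) (e j)
  F : ∀ x : G, (∃ i, Pm (ρ x (e 0)) (e i)) ∨ ρ b (ρ x (e 0)) = ρ x (e 0)
  faith : ∀ y : G, (∀ x : G, ρ y (ρ x (e 0)) = ρ x (e 0)) → y = 1

namespace EACtx

variable {R : Subgroup G} {b : G} {e : Fin 3 → E}

theorem orbit (h : EACtx ρ R b e) (k : Fin 3) : ∃ x : G, e k = ρ x (e 0) := by
  have h1 : e 1 = ρ b (e 0) := by rw [h.be 0]; rfl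
  have h2 : e 2 = ρ (b * b) (e 0) := by
    rw [← rho_mul_apply, ← h1, h.be 1]; rfl
  rcases fin3_h k with rfl | rfl | rfl
  · exact ⟨1, by rw [map_one]; rfl⟩
  · exact ⟨b, h1⟩
  · exact ⟨b * b, h2⟩

theorem fixed_of_not_pm (h : EACtx ρ R b e) (x : G) (hx : ∀ i, ¬ Pm (ρ x (e 0)) (e i)) :
    ρ b (ρ x (e 0)) = ρ x (e 0) := by
  rcases h.F x with ⟨i, hi⟩ | h1
  · exact absurd hi (hx i)
  · exact h1

theorem F' (h : EACtx ρ R b e) (g x : G) :
    (∃ j, Pm (ρ x (e 0)) (ρ g (e j))) ∨ ρ (g * b * g⁻¹) (ρ x (e 0)) = ρ x (e 0) := by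
  rcases h.F (g⁻¹ * x) with ⟨i, hi⟩ | h1
  · left
    refine ⟨i, ?_⟩
    have := hi.map (ρ g)
    rwa [rho_mul_apply, mul_inv_cancel_left] at this
  · right
    have := congrArg (ρ g) h1
    rw [rho_mul_apply, rho_mul_apply, rho_mul_apply, mul_inv_cancel_left] at this
    rw [rho_mul_apply]
    have e1 : g * b * g⁻¹ * x = g * b * (g⁻¹ * x) := by group
    rw [e1]; exact this

theorem eq_one_of_cube (h : EACtx ρ R b e) {y : G} (hy : y ∈ R) (h3 : y * y * y = 1) :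
    y = 1 := by
  have h3' : y ^ 3 = 1 := by rw [← h3]; simp [pow_succ]
  have d1 : orderOf y ∣ 3 := orderOf_dvd_of_pow_eq_one h3'
  have d2 : orderOf y ∣ Nat.card R := Subgroup.orderOf_dvd_natCard R hy
  have d3 := Nat.dvd_gcd d2 d1
  rw [Nat.Coprime.gcd_eq_one h.cop] at d3
  exact orderOf_eq_one_iff.1 (Nat.dvd_one.1 d3)

theorem conj_f (g : G) (b : G) (v : E) : ρ (g * b * g⁻¹) (ρ g v) = ρ g (ρ b v) := by
  rw [rho_mul_apply, inv_mul_cancel_right, ← rho_mul_apply]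

/-- disjoint supports are impossible -/
theorem caseA (h : EACtx ρ R b e) (g : G) (hA : ∀ i j, ¬ Pm (ρ g (e j)) (e i)) : False := by
  have hbe : ∀ k, ρ (g * b * g⁻¹) (e k) = e k := by
    intro k
    obtain ⟨x, hx⟩ := h.orbit k
    rcases h.F' g x with ⟨j, hj⟩ | h1
    · rw [← hx] at hj
      exact absurd hj.symm (hA k j)
    · rw [hx]; exact h1
  have hbf : ∀ j, ρ b (ρ g (e j)) = ρ g (e j) := by
    intro j
    obtain ⟨x, hx⟩ := h.orbit j
    have e1 : ρ g (e j) = ρ (g * x) (e 0) := by rw [hx, rho_mul_apply]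
    rw [e1]
    apply h.fixed_of_not_pm
    intro i
    rw [← e1]; exact hA i j
  have hb'f : ∀ j, ρ (g * b * g⁻¹) (ρ g (e j)) = ρ g (e (j + 1)) := by
    intro j
    rw [conj_f, h.be]
  have hyR : b⁻¹ * (g * b * g⁻¹) ∈ R := by
    have h1 := h.conj g
    have h2 := h.normal.conj_mem _ h1 b⁻¹
    have e1 : b⁻¹ * (g * b * g⁻¹ * b⁻¹) * b⁻¹⁻¹ = b⁻¹ * (g * b * g⁻¹) := by group
    rwa [e1] at h2
  have hYe : ∀ k, ρ (b⁻¹ * (g * b * g⁻¹)) (e k) = e (k + 2) := by
    intro k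
    rw [← rho_mul_apply, hbe]
    have e1 : e k = ρ b (e (k + 2)) := by rw [h.be, fin3_b]
    rw [e1, rho_inv_apply]
  have hYf : ∀ j, ρ (b⁻¹ * (g * b * g⁻¹)) (ρ g (e j)) = ρ g (e (j + 1)) := by
    intro j
    rw [← rho_mul_apply, hb'f]
    exact inv_fixed (hbf (j + 1))
  have hY3 : ∀ x : G, ρ ((b⁻¹ * (g * b * g⁻¹)) * (b⁻¹ * (g * b * g⁻¹)) * (b⁻¹ * (g * b * g⁻¹)))
      (ρ x (e 0)) = ρ x (e 0) := by
    intro x
    have e3 : ∀ (y : G) (v : E), ρ (y * y * y) v = ρ y (ρ y (ρ y v)) := by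
      intro y v
      rw [rho_mul_apply, rho_mul_apply, mul_assoc]
    rcases h.F x with ⟨i, hi⟩ | hb1
    · apply pm_fixed hi
      rw [e3, hYe, hYe, hYe, fin3_f]
    · rcases h.F' g x with ⟨j, hj⟩ | hb2
      · apply pm_fixed hj
        rw [e3, hYf, hYf, hYf, fin3_g]
      · have hyv : ρ (b⁻¹ * (g * b * g⁻¹)) (ρ x (e 0)) = ρ x (e 0) := by
          rw [← rho_mul_apply, hb2]
          exact inv_fixed hb1
        rw [e3, hyv, hyv, hyv]
  have hy3 := h.faith _ hY3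
  have hy1 := h.eq_one_of_cube hyR hy3
  have hbb' : g * b * g⁻¹ = b := by
    have e1 : g * b * g⁻¹ = b * (b⁻¹ * (g * b * g⁻¹)) := by group
    rw [e1, hy1, mul_one]
  have h1 := hb'f 0
  rw [hbb', hbf 0] at h1
  have h2 : e 0 = e (0 + 1) := rho_inj h1
  exact h.ne 0 (0 + 1) (by decide) (Or.inl h2)

/-- supports meeting in exactly one line are impossible -/
theorem caseB (h : EACtx ρ R b e) (g : G) (i₀ j₀ : Fin 3)
    (hPm : Pm (ρ g (e j₀)) (e i₀))
    (hne : ∀ i j, (i, j) ≠ (i₀, j₀) → ¬ Pm (ρ g (e j)) (e i)) : False := by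
  obtain ⟨s, hs, hd0⟩ : ∃ s : ZMod 3, s * s = 1 ∧ ρ g (e j₀) = s • e i₀ := by
    rcases hPm with h1 | h1
    · exact ⟨1, by decide, by rw [h1, one_smul]⟩
    · exact ⟨-1, by decide, by rw [h1, neg_smul, one_smul]⟩
  -- fixed vectors
  have hβd : ∀ j, j ≠ j₀ → ρ b (ρ g (e j)) = ρ g (e j) := by
    intro j hj
    obtain ⟨x, hx⟩ := h.orbit j
    have e1 : ρ g (e j) = ρ (g * x) (e 0) := by rw [hx, rho_mul_apply]
    rw [e1]
    apply h.fixed_of_not_pm
    intro i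
    rw [← e1]
    apply hne
    intro hh
    exact hj (Prod.mk.inj hh).2
  have hβ'a : ∀ i, i ≠ i₀ → ρ (g * b * g⁻¹) (e i) = e i := by
    intro i hi
    obtain ⟨x, hx⟩ := h.orbit i
    rcases h.F' g x with ⟨j, hj⟩ | h1
    · rw [← hx] at hj
      exfalso
      exact hne i j (fun hh => hi (Prod.mk.inj hh).1) hj.symm
    · rw [hx]; exact h1
  have hcyc := cycB (ρ := ρ) b (g * b * g⁻¹) (a0 := e i₀) (a1 := e (i₀ + 1)) (a2 := e (i₀ + 2))
    (d0 := ρ g (e j₀)) (d1 := ρ g (e (j₀ + 1))) (d2 := ρ g (e (j₀ + 2))) hs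
    (h.be i₀) (by rw [h.be, fin3_a]) (by rw [h.be, fin3_b])
    (by rw [conj_f, h.be]) (by rw [conj_f, h.be, fin3_a]) (by rw [conj_f, h.be, fin3_b])
    hd0 (hβd _ (fin3_c j₀)) (hβd _ (fin3_d j₀)) (hβ'a _ (fin3_c i₀)) (hβ'a _ (fin3_d i₀))
  obtain ⟨c0, c1, c2, c3, c4⟩ := hcyc
  set c := b * (g * b * g⁻¹) * b⁻¹ * (g * b * g⁻¹)⁻¹ with hc
  have hcR : c ∈ R := by
    have h1 := h.conj g
    have h2 := h.normal.conj_mem _ h1 b
    have e1 : c = (b * (g * b * g⁻¹ * b⁻¹) * b⁻¹) * (g * b * g⁻¹ * b⁻¹)⁻¹ := by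
      rw [hc]; group
    rw [e1]
    exact R.mul_mem h2 (R.inv_mem h1)
  have e3 : ∀ (v : E), ρ (c * c * c) v = ρ c (ρ c (ρ c v)) := by
    intro v
    rw [rho_mul_apply, rho_mul_apply, mul_assoc]
  have k0 : ρ (c * c * c) (e i₀) = e i₀ := by
    rw [e3, c0, c1, map_smul, c2, smul_smul, hs, one_smul]
  have k1 : ρ (c * c * c) (e (i₀ + 1)) = e (i₀ + 1) := by
    rw [e3, c1, map_smul, c2, map_smul, map_smul, c0, smul_smul, hs, one_smul]
  have k2 : ρ (c * c * c) (e (i₀ + 2)) = e (i₀ + 2) := by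
    rw [e3, c3, c3, c3]
  have l1 : ρ (c * c * c) (ρ g (e (j₀ + 1))) = ρ g (e (j₀ + 1)) := by
    rw [e3, c2, map_smul, c0, map_smul, c1, smul_smul, hs, one_smul]
  have l2 : ρ (c * c * c) (ρ g (e (j₀ + 2))) = ρ g (e (j₀ + 2)) := by
    rw [e3, c4, c4, c4]
  have l0 : ρ (c * c * c) (ρ g (e j₀)) = ρ g (e j₀) := by
    rw [hd0, map_smul, k0]
  have hC3 : ∀ x : G, ρ (c * c * c) (ρ x (e 0)) = ρ x (e 0) := by
    intro x
    rcases h.F x with ⟨i, hi⟩ | hb1
    · apply pm_fixed hi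
      rcases fin3_e i₀ i with rfl | rfl | rfl
      · exact k0
      · exact k1
      · exact k2
    · rcases h.F' g x with ⟨j, hj⟩ | hb2
      · apply pm_fixed hj
        rcases fin3_e j₀ j with rfl | rfl | rfl
        · exact l0
        · exact l1
        · exact l2
      · have hcv : ρ c (ρ x (e 0)) = ρ x (e 0) := by
          have e4 : ρ c (ρ x (e 0)) = ρ b (ρ (g * b * g⁻¹) (ρ b⁻¹ (ρ (g * b * g⁻¹)⁻¹
              (ρ x (e 0))))) := by
            rw [hc]; simp only [rho_mul_apply, mul_assoc]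
          rw [e4, inv_fixed hb2, inv_fixed hb1, hb2, hb1]
        rw [e3, hcv, hcv, hcv]
  have hc3 := h.faith _ hC3
  have hc1 := h.eq_one_of_cube hcR hc3
  rw [hc1, map_one] at c0
  exact h.ne i₀ (i₀ + 1) (fun hh => fin3_c i₀ hh.symm) (Or.inl c0)

/-- two conjugates of `b` have supports meeting in at least two lines -/
theorem two_common (h : EACtx ρ R b e) (g : G) :
    ∃ i₁ i₂ j₁ j₂ : Fin 3, i₁ ≠ i₂ ∧ Pm (ρ g (e j₁)) (e i₁) ∧ Pm (ρ g (e j₂)) (e i₂) := by
  by_contra hcon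
  push Not at hcon
  by_cases hA : ∀ i j, ¬ Pm (ρ g (e j)) (e i)
  · exact h.caseA g hA
  · push Not at hA
    obtain ⟨i₀, j₀, h0⟩ := hA
    apply h.caseB g i₀ j₀ h0
    intro i j hij hp
    by_cases hi : i = i₀
    · subst hi
      have hj : j ≠ j₀ := fun hh => hij (by rw [hh])
      have h1 : Pm (ρ g (e j)) (ρ g (e j₀)) := hp.trans h0.symm
      have h2 := h1.map (ρ g⁻¹)
      rw [rho_inv_apply, rho_inv_apply] at h2
      exact h.ne j j₀ hj h2
    · exact hcon i₀ i j₀ j (fun hh => hi hh.symm) h0 hp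

end EACtx

end Main

/-! ## The action on the lines -/

section Coset

variable {G : Type u} [Group G] {E : Type v} [AddCommGroup E] [Module (ZMod 3) E]
  (ρ : Representation (ZMod 3) G E)

/-- stabilizer of the line `⟨e0⟩` -/
def lineStab (e0 : E) : Subgroup G where
  carrier := {x | Pm (ρ x e0) e0}
  mul_mem' := by
    intro x y hx hy
    show Pm (ρ (x * y) e0) e0
    rw [← rho_mul_apply]
    exact (Pm.map (ρ x) hy).trans hx
  one_mem' := by
    show Pm (ρ 1 e0) e0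
    rw [map_one]; exact Pm.refl _
  inv_mem' := by
    intro x hx
    show Pm (ρ x⁻¹ e0) e0
    have := Pm.map (ρ x⁻¹) hx
    rw [rho_inv_apply] at this
    exact this.symm

theorem mk_eq_iff {e0 : E} {x y : G} :
    ((x : G ⧸ lineStab ρ e0) = (y : G ⧸ lineStab ρ e0)) ↔ Pm (ρ y e0) (ρ x e0) := by
  rw [QuotientGroup.eq]
  constructor
  · intro h
    have h1 : Pm (ρ (x⁻¹ * y) e0) e0 := h
    have := h1.map (ρ x)
    rwa [rho_mul_apply, mul_inv_cancel_left] at this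
  · intro h
    show Pm (ρ (x⁻¹ * y) e0) e0
    have := h.map (ρ x⁻¹)
    rwa [rho_mul_apply, rho_inv_apply] at this

variable {ρ}

theorem EACtx.card_le [Finite G] {R : Subgroup G} {b : G} {e : Fin 3 → E}
    (h : EACtx ρ R b e) : Nat.card (G ⧸ lineStab ρ (e 0)) ≤ 4 := by
  classical
  have : Fintype (G ⧸ lineStab ρ (e 0)) := Fintype.ofFinite _
  choose xs hxs using h.orbit
  let ℓ : Fin 3 → G ⧸ lineStab ρ (e 0) := fun k => ((xs k : G) : G ⧸ lineStab ρ (e 0))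
  have hinj : Function.Injective ℓ := by
    intro i j hij
    by_contra hne
    have h1 : Pm (ρ (xs j) (e 0)) (ρ (xs i) (e 0)) := (mk_eq_iff ρ).1 hij
    rw [← hxs, ← hxs] at h1
    exact h.ne j i (fun hh => hne hh.symm) h1
  let D : Finset (G ⧸ lineStab ρ (e 0)) := Finset.univ.image ℓ
  have hD : D.card = 3 := by
    rw [Finset.card_image_of_injective _ hinj, Finset.card_univ, Fintype.card_fin]
  have key := Cfsg.Agent.Lib.Helper4.CUB.card_le_four_of_translates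
    (MulAction.isPretransitive_quotient G (lineStab ρ (e 0))) D hD ?_
  · rw [Nat.card_eq_fintype_card]; exact key
  · intro g
    obtain ⟨i₁, i₂, j₁, j₂, hne, h1, h2⟩ := h.two_common g
    have mem : ∀ i j, Pm (ρ g (e j)) (e i) → ℓ i ∈ D ∩ D.image (fun w => g • w) := by
      intro i j hp
      rw [Finset.mem_inter]
      refine ⟨Finset.mem_image_of_mem _ (Finset.mem_univ _), ?_⟩
      rw [Finset.mem_image]
      refine ⟨ℓ j, Finset.mem_image_of_mem _ (Finset.mem_univ _), ?_⟩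
      show g • ((xs j : G) : G ⧸ lineStab ρ (e 0)) = ((xs i : G) : G ⧸ lineStab ρ (e 0))
      rw [MulAction.Quotient.smul_mk, smul_eq_mul, mk_eq_iff, ← hxs i, ← rho_mul_apply,
        ← hxs j]
      exact hp.symm
    have hsub : ({ℓ i₁, ℓ i₂} : Finset (G ⧸ lineStab ρ (e 0)))
        ⊆ D ∩ D.image (fun w => g • w) := by
      intro z hz
      rw [Finset.mem_insert, Finset.mem_singleton] at hz
      rcases hz with rfl | rfl
      · exact mem _ _ h1
      · exact mem _ _ h2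
    have hc2 : ({ℓ i₁, ℓ i₂} : Finset (G ⧸ lineStab ρ (e 0))).card = 2 :=
      Finset.card_pair (fun hh => hne (hinj hh))
    calc 2 = ({ℓ i₁, ℓ i₂} : Finset (G ⧸ lineStab ρ (e 0))).card := hc2.symm
      _ ≤ _ := Finset.card_le_card hsub

/-- the span of the orbit of `e0` has dimension at most the number of lines -/
theorem finrank_orbit_le [Finite G] [Finite E] (e0 : E) :
    Module.finrank (ZMod 3) (Submodule.span (ZMod 3) {v : E | ∃ x : G, v = ρ x e0})
      ≤ Nat.card (G ⧸ lineStab ρ e0) := by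
  classical
  have : Fintype (G ⧸ lineStab ρ e0) := Fintype.ofFinite _
  let u : G ⧸ lineStab ρ e0 → E := fun ω => ρ ω.out e0
  have hle : Submodule.span (ZMod 3) {v : E | ∃ x : G, v = ρ x e0}
      ≤ Submodule.span (ZMod 3) (Set.range u) := by
    rw [Submodule.span_le]
    rintro v ⟨x, rfl⟩
    have h1 : (((x : G ⧸ lineStab ρ e0).out : G) : G ⧸ lineStab ρ e0)
        = (x : G ⧸ lineStab ρ e0) := QuotientGroup.out_eq' _
    have h2 : Pm (ρ x e0) (u (x : G ⧸ lineStab ρ e0)) := (mk_eq_iff ρ).1 h1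
    have hu : u (x : G ⧸ lineStab ρ e0) ∈ Submodule.span (ZMod 3) (Set.range u) :=
      Submodule.subset_span ⟨_, rfl⟩
    rcases h2 with h2 | h2
    · rw [SetLike.mem_coe, h2]; exact hu
    · rw [SetLike.mem_coe, h2]; exact Submodule.neg_mem _ hu
  have h3 := finrank_range_le_card (R := ZMod 3) u
  rw [Nat.card_eq_fintype_card]
  exact (Submodule.finrank_mono hle).trans h3

end Coset

/-! ## The unit -/

section Final

variable {G : Type u} [Group G] [Finite G] {E : Type v} [AddCommGroup E] [Module (ZMod 3) E]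
  [Finite E] {ρ : Representation (ZMod 3) G E} {R : Subgroup G} {b : G} {Q : Subgroup G}

/-- EA2 with the stubs `P5`, `decomp` (three clauses) and `conj_b_mem` as hypotheses. -/
theorem EA2_of (c : Cfg ρ R b Q)
    (hP5 : ∃ (q₁ q₂ q₃ : G) (e₁ e₂ e₃ : E), QFrame ρ b Q q₁ q₂ q₃ e₁ e₂ e₃)
    (hWinv : ∀ g : G, ∀ v ∈ commSub ρ R, ρ g v ∈ commSub ρ R)
    (hWfaith : ∀ g : G, (∀ v ∈ commSub ρ R, ρ g v = v) → g = 1)
    (hWirr : ∀ N : Submodule (ZMod 3) E, N ≤ commSub ρ R → (∀ g : G, Inv ρ g N) →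
      N = ⊥ ∨ N = commSub ρ R)
    (hconj : ∀ g : G, g * b * g⁻¹ * b⁻¹ ∈ R)
    (A : Subgroup G) (hAn : A.Normal) (hAR : A ≤ R) (hA2 : ∀ a ∈ A, a ^ 2 = 1) (hQA : Q ≤ A) :
    Module.finrank (ZMod 3) ↥(commSub ρ R) ≤ 4 := by
  obtain ⟨q₁, q₂, q₃, e₁, e₂, e₃, fr⟩ := hP5
  have hsq : ∀ x ∈ A, x * x = 1 := fun x hx => by
    have := hA2 x hx
    rwa [pow_two] at this
  have hcomm : ∀ x ∈ A, ∀ y ∈ A, x * y = y * x := by
    intro x hx y hy
    have h1 := hsq (x * y) (A.mul_mem hx hy)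
    have hx1 := hsq x hx
    have hy1 := hsq y hy
    calc x * y = x * (x * y * (x * y)) * y := by rw [h1, mul_one]
      _ = (x * x) * y * x * (y * y) := by group
      _ = y * x := by rw [hx1, hy1, one_mul, mul_one]
  have hq₁A : q₁ ∈ A := hQA fr.mem₁
  have hq₂A : q₂ ∈ A := hQA fr.mem₂
  have r1 : q₁ * b⁻¹ = b⁻¹ * q₂ := by rw [← fr.conj₁]; group
  have r2 : q₂ * b⁻¹ = b⁻¹ * q₃ := by rw [← fr.conj₂]; group
  have r3 : q₁ * b = b * q₃ := by rw [← fr.conj₃]; group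
  have r4 : q₂ * b = b * q₁ := by rw [← fr.conj₁]; group
  have r5 : q₃ * b = b * q₂ := by rw [← fr.conj₂]; group
  have hq₃ : ∀ v, ρ q₃ v = ρ q₁ (ρ q₂ v) := fun v => by rw [rho_mul_apply, fr.mul]
  have he₂0 : e₂ ≠ 0 := by
    intro hh
    apply fr.e_ne
    apply rho_inj (ρ := ρ) (g := b)
    rw [fr.be₁, hh, map_zero]
  have he₃0 : e₃ ≠ 0 := by
    intro hh
    apply he₂0
    apply rho_inj (ρ := ρ) (g := b)
    rw [fr.be₂, hh, map_zero]
  -- rotated multiplicity one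
  have mult₂ : ∀ v : E, ρ q₂ v = v → ρ q₃ v = -v → ∃ a : ZMod 3, v = a • e₂ := by
    intro v hv2 hv3
    obtain ⟨a, ha⟩ := fr.mult_one (ρ b⁻¹ v)
      (by rw [rho_mul_apply, r1, ← rho_mul_apply, hv2])
      (by rw [rho_mul_apply, r2, ← rho_mul_apply, hv3, map_neg])
    have := congrArg (ρ b) ha
    rw [rho_apply_inv, map_smul, fr.be₁] at this
    exact ⟨a, this⟩
  have mult₃ : ∀ v : E, ρ q₃ v = v → ρ q₁ v = -v → ∃ a : ZMod 3, v = a • e₃ := by
    intro v hv3 hv1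
    obtain ⟨a, ha⟩ := fr.mult_one (ρ b v)
      (by rw [rho_mul_apply, r3, ← rho_mul_apply, hv3])
      (by rw [rho_mul_apply, r4, ← rho_mul_apply, hv1, map_neg])
    have := congrArg (ρ b⁻¹) ha
    rw [rho_inv_apply, map_smul, ← fr.be₃, rho_inv_apply] at this
    exact ⟨a, this⟩
  -- weights of the frame
  have w11 : ρ q₁ e₁ = e₁ := fr.q₁e₁
  have w21 : ρ q₂ e₁ = -e₁ := fr.q₂e₁
  have w31 : ρ q₃ e₁ = -e₁ := by rw [hq₃, w21, map_neg, w11]
  have w22 : ρ q₂ e₂ = e₂ := by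
    rw [← fr.be₁, rho_mul_apply, r4, ← rho_mul_apply, w11]
  have w32 : ρ q₃ e₂ = -e₂ := by
    rw [← fr.be₁, rho_mul_apply, r5, ← rho_mul_apply, w21, map_neg]
  have w12 : ρ q₁ e₂ = -e₂ := by
    rw [← fr.be₁, rho_mul_apply, r3, ← rho_mul_apply, w31, map_neg]
  have w33 : ρ q₃ e₃ = e₃ := by
    rw [← fr.be₂, rho_mul_apply, r5, ← rho_mul_apply, w22]
  have w13 : ρ q₁ e₃ = -e₃ := by
    rw [← fr.be₂, rho_mul_apply, r3, ← rho_mul_apply, w32, map_neg]
  have w23 : ρ q₂ e₃ = -e₃ := by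
    rw [← fr.be₂, rho_mul_apply, r4, ← rho_mul_apply, w12, map_neg]
  -- `A` acts on `e₁` by signs
  have hAe₁ : ∀ a ∈ A, Pm (ρ a e₁) e₁ := by
    intro a ha
    have c1 : q₁ * a = a * q₁ := hcomm q₁ hq₁A a ha
    have c2 : q₂ * a = a * q₂ := hcomm q₂ hq₂A a ha
    obtain ⟨s, hs⟩ := fr.mult_one (ρ a e₁)
      (by rw [rho_mul_apply, c1, ← rho_mul_apply, w11])
      (by rw [rho_mul_apply, c2, ← rho_mul_apply, w21, map_neg])
    refine pm_of_smul ?_ hs
    intro hh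
    apply fr.e_ne
    apply rho_inj (ρ := ρ) (g := a)
    rw [hh, map_zero]
  have hAx : ∀ x : G, ∀ a ∈ A, Pm (ρ a (ρ x e₁)) (ρ x e₁) := by
    intro x a ha
    have h1 : x⁻¹ * a * x⁻¹⁻¹ ∈ A := hAn.conj_mem a ha x⁻¹
    have h2 := (hAe₁ _ h1).map (ρ x)
    rw [rho_mul_apply] at h2
    have e1 : x * (x⁻¹ * a * x⁻¹⁻¹) = a * x := by group
    rw [e1, ← rho_mul_apply] at h2
    exact h2
  -- the key alternative (F)
  have hF : ∀ x : G, (Pm (ρ x e₁) e₁ ∨ Pm (ρ x e₁) e₂ ∨ Pm (ρ x e₁) e₃)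
      ∨ ρ b (ρ x e₁) = ρ x e₁ := by
    intro x
    have hv0 : ρ x e₁ ≠ 0 := by
      intro hh
      apply fr.e_ne
      apply rho_inj (ρ := ρ) (g := x)
      rw [hh, map_zero]
    rcases hAx x q₁ hq₁A with s1 | s1 <;> rcases hAx x q₂ hq₂A with s2 | s2
    · right
      apply fr.fixb
      intro q hq
      rcases fr.all q hq with rfl | rfl | rfl | rfl
      · rw [map_one]; rfl
      · exact s1
      · exact s2
      · rw [hq₃, s2, s1]
    · left; left
      obtain ⟨a, ha⟩ := fr.mult_one _ s1 s2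
      exact pm_of_smul hv0 ha
    · left; right; left
      obtain ⟨a, ha⟩ := mult₂ _ s2 (by rw [hq₃, s2, s1])
      exact pm_of_smul hv0 ha
    · left; right; right
      obtain ⟨a, ha⟩ := mult₃ _ (by rw [hq₃, s2, map_neg, s1, neg_neg]) s1
      exact pm_of_smul hv0 ha
  -- `e₁ ∈ W`
  have he₁W : e₁ ∈ commSub ρ R := by
    have h1 : ρ q₂ e₁ - e₁ ∈ commSub ρ R :=
      Submodule.subset_span ⟨q₂, hAR hq₂A, e₁, rfl⟩
    have h2 : ρ q₂ e₁ - e₁ = e₁ := by
      rw [w21]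
      have t := add3 e₁
      have : -e₁ - e₁ = e₁ - (e₁ + e₁ + e₁) := by abel
      rw [this, t, sub_zero]
    rwa [h2] at h1
  -- the span of the orbit is `W`
  set N' : Submodule (ZMod 3) E := Submodule.span (ZMod 3) {v : E | ∃ x : G, v = ρ x e₁}
    with hN'
  have hN'W : N' ≤ commSub ρ R := by
    rw [hN', Submodule.span_le]
    rintro v ⟨x, rfl⟩
    exact hWinv x e₁ he₁W
  have hN'inv : ∀ g : G, Inv ρ g N' := by
    intro g
    have : N' ≤ N'.comap (ρ g) := by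
      rw [hN', Submodule.span_le]
      rintro v ⟨x, rfl⟩
      show ρ g (ρ x e₁) ∈ Submodule.span (ZMod 3) {v : E | ∃ x : G, v = ρ x e₁}
      rw [rho_mul_apply]
      exact Submodule.subset_span ⟨g * x, rfl⟩
    intro v hv
    exact this hv
  have he₁N' : e₁ ∈ N' := by
    rw [hN']
    exact Submodule.subset_span ⟨1, by rw [map_one]; rfl⟩
  have hN'eq : N' = commSub ρ R := by
    rcases hWirr N' hN'W hN'inv with h0 | h0
    · exfalso
      rw [h0] at he₁N'
      exact fr.e_ne ((Submodule.mem_bot _).1 he₁N')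
    · exact h0
  -- the context
  let e : Fin 3 → E := ![e₁, e₂, e₃]
  have he0 : e 0 = e₁ := rfl
  have he1 : e 1 = e₂ := rfl
  have he2 : e 2 = e₃ := rfl
  have ctx : EACtx ρ R b e :=
    { cop := c.cop
      normal := c.normal
      conj := hconj
      be := by
        intro k
        rcases fin3_h k with rfl | rfl | rfl
        · exact fr.be₁
        · exact fr.be₂
        · exact fr.be₃
      ne := by
        intro i j hij
        rcases fin3_h i with rfl | rfl | rfl <;> rcases fin3_h j with rfl | rfl | rfl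
        · exact absurd rfl hij
        · exact not_pm_of_weights w11 w12 fr.e_ne
        · exact not_pm_of_weights w11 w13 fr.e_ne
        · exact not_pm_of_weights w22 w21 he₂0
        · exact absurd rfl hij
        · exact not_pm_of_weights w22 w23 he₂0
        · exact not_pm_of_weights w33 w31 he₃0
        · exact not_pm_of_weights w33 w32 he₃0
        · exact absurd rfl hij
      F := by
        intro x
        rcases hF x with (h1 | h1 | h1) | h1
        · exact Or.inl ⟨0, h1⟩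
        · exact Or.inl ⟨1, h1⟩
        · exact Or.inl ⟨2, h1⟩
        · exact Or.inr h1
      faith := by
        intro y hy
        apply hWfaith
        intro v hv
        rw [← hN'eq] at hv
        have hle : N' ≤ fix1 (ρ y) := by
          rw [hN', Submodule.span_le]
          rintro w ⟨x, rfl⟩
          exact hy x
        exact hle hv }
  have h1 := ctx.card_le
  have h2 := finrank_orbit_le (ρ := ρ) e₁
  rw [← hN'eq]
  exact h2.trans h1

end Final

end Cfsg.Agent.Lib.Helper8.CUB
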