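import Mathlib
import Cfsg.Agent.Lib.Helper3.CUBDefs

/-!
# Farm CUB (S4415), unit EAQ

A non-scalar normal subgroup of exponent 2 inside `R` contains a `b`-invariant four-group not
centralized by `b`.  `EAQ_of` takes the stub statements `P0c` and `QP1` as hypotheses.
-/

set_option autoImplicit false
set_option maxHeartbeats 1000000

open scoped commutatorElement

namespace Cfsg.Agent.Lib.Helper8.CUB

open Cfsg.Agent.Lib.Helper3.CUB

universe u v

section FourSub

variable {G : Type u} [Group G]

/-- the four-group generated by two commuting involutions -/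
def fourSub (y y' : G) (hy : y * y = 1) (hy' : y' * y' = 1) (hc : y * y' = y' * y) :
    Subgroup G where
  carrier := {g | g = 1 ∨ g = y ∨ g = y' ∨ g = y * y'}
  mul_mem' := by
    have hc' : ∀ z, y * (y' * z) = y' * (y * z) := fun z => by
      rw [← mul_assoc, hc, mul_assoc]
    have hyz : ∀ z, y * (y * z) = z := fun z => by rw [← mul_assoc, hy, one_mul]
    have hy'z : ∀ z, y' * (y' * z) = z := fun z => by rw [← mul_assoc, hy', one_mul]
    rintro p q (rfl | rfl | rfl | rfl) (rfl | rfl | rfl | rfl) <;>
      simp [mul_assoc, hc, hc', hy, hy', hy'z]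
  one_mem' := Or.inl rfl
  inv_mem' := by
    have iy : y⁻¹ = y := inv_eq_of_mul_eq_one_left hy
    have iy' : y'⁻¹ = y' := inv_eq_of_mul_eq_one_left hy'
    rintro p (rfl | rfl | rfl | rfl)
    · simp
    · simp [iy]
    · simp [iy']
    · right; right; right
      rw [mul_inv_rev, iy, iy', hc]

theorem mem_fourSub {y y' : G} {hy : y * y = 1} {hy' : y' * y' = 1} {hc : y * y' = y' * y}
    {g : G} : g ∈ fourSub y y' hy hy' hc ↔ g = 1 ∨ g = y ∨ g = y' ∨ g = y * y' := Iff.rfl

theorem card_fourSub {y y' : G} (hy : y * y = 1) (hy' : y' * y' = 1) (hc : y * y' = y' * y)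
    (h1 : y ≠ 1) (h2 : y' ≠ 1) (h3 : y ≠ y') : Nat.card (fourSub y y' hy hy' hc) = 4 := by
  classical
  let T : Finset G := {1, y, y', y * y'}
  have hT : T.card = 4 := by
    have k1 : (1 : G) ∉ ({y, y', y * y'} : Finset G) := by
      simp only [Finset.mem_insert, Finset.mem_singleton, not_or]
      refine ⟨fun h => h1 h.symm, fun h => h2 h.symm, fun h => ?_⟩
      apply h3
      have e1 : y = y'⁻¹ := eq_inv_of_mul_eq_one_left h.symm
      have e2 : y'⁻¹ = y' := inv_eq_of_mul_eq_one_left hy'
      rw [e1, e2]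
    have k2 : y ∉ ({y', y * y'} : Finset G) := by
      simp only [Finset.mem_insert, Finset.mem_singleton, not_or]
      refine ⟨h3, fun h => h2 ?_⟩
      have : y * 1 = y * y' := by rw [mul_one]; exact h
      exact (mul_left_cancel this).symm
    have k3 : y' ∉ ({y * y'} : Finset G) := by
      simp only [Finset.mem_singleton]
      intro h
      apply h1
      have : 1 * y' = y * y' := by rw [one_mul]; exact h
      exact (mul_right_cancel this).symm
    show (insert 1 (insert y (insert y' ({y * y'} : Finset G)))).card = 4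
    rw [Finset.card_insert_of_notMem k1, Finset.card_insert_of_notMem k2,
      Finset.card_insert_of_notMem k3, Finset.card_singleton]
  have heq : ((fourSub y y' hy hy' hc : Subgroup G) : Set G) = (T : Set G) := by
    ext g
    simp only [T, Finset.coe_insert, Finset.coe_singleton, Set.mem_insert_iff,
      Set.mem_singleton_iff]
    exact Iff.rfl
  calc Nat.card (fourSub y y' hy hy' hc)
      = ((fourSub y y' hy hy' hc : Subgroup G) : Set G).ncard := Nat.card_coe_set_eq _
    _ = (T : Set G).ncard := by rw [heq]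
    _ = 4 := by rw [Set.ncard_coe_finset, hT]

end FourSub

variable {G : Type u} [Group G] [Finite G] {E : Type v} [AddCommGroup E] [Module (ZMod 3) E]
  [Finite E] {ρ : Representation (ZMod 3) G E} {R : Subgroup G} {b : G} {Q : Subgroup G}

/-- EA-Q, with the stubs `P0c` and `QP1` as hypotheses. -/
theorem EAQ_of (c : Cfg ρ R b Q)
    (hP0c : ∀ (A : Subgroup G) [A.Normal], (∀ a ∈ A, b * a = a * b) →
      ∀ g : G, ∀ a ∈ A, g * a = a * g)
    (hQP1 : ∀ a : G, (∀ g : G, a * g = g * a) → IsScal ρ R a)
    (A : Subgroup G) (hAn : A.Normal) (hAR : A ≤ R)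
    (hA2 : ∀ a ∈ A, a ^ 2 = 1) (a : G) (ha : a ∈ A) (hns : ¬ IsScal ρ R a) :
    ∃ Q' : Subgroup G, Q' ≤ A ∧ Cfg ρ R b Q' := by
  have hsq : ∀ x ∈ A, x * x = 1 := fun x hx => by
    have := hA2 x hx
    rwa [pow_two] at this
  have hcomm : ∀ x ∈ A, ∀ y ∈ A, x * y = y * x := by
    intro x hx y hy
    have h1 := hsq (x * y) (A.mul_mem hx hy)
    have hx1 := hsq x hx
    have hy1 := hsq y hy
    calc x * y = x * (x * y * (x * y)) * y := by rw [h1, mul_one]
      _ = (x * x) * y * x * (y * y) := by group
      _ = y * x := by rw [hx1, hy1, one_mul, mul_one]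
  have hb3 : b * b * b = 1 := by
    have := pow_orderOf_eq_one b
    rw [c.b3] at this
    rw [← this]; simp [pow_succ]
  have hφ : ∀ x ∈ A, b * x * b⁻¹ ∈ A := fun x hx => hAn.conj_mem x hx b
  have hφ3 : ∀ x, b * (b * (b * x * b⁻¹) * b⁻¹) * b⁻¹ = x := by
    intro x
    have : b * (b * (b * x * b⁻¹) * b⁻¹) * b⁻¹ = (b * b * b) * x * (b * b * b)⁻¹ := by group
    rw [this, hb3]; simp
  have hφmul : ∀ p q, b * (p * q) * b⁻¹ = (b * p * b⁻¹) * (b * q * b⁻¹) := by
    intro p q; group
  have hφinj : ∀ p q, b * p * b⁻¹ = b * q * b⁻¹ → p = q := by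
    intro p q h
    exact mul_left_cancel (mul_right_cancel h)
  -- some element of `A` is moved by `b`
  obtain ⟨x, hxA, hxb⟩ : ∃ x ∈ A, b * x ≠ x * b := by
    by_contra hcon
    push Not at hcon
    have hcen := @hP0c A hAn hcon
    apply hns
    apply hQP1
    intro g
    exact (hcen g a ha).symm
  set x' := b * x * b⁻¹ with hx'
  set x'' := b * x' * b⁻¹ with hx''
  have hx'A : x' ∈ A := hφ x hxA
  have hx''A : x'' ∈ A := hφ x' hx'A
  have hxx' : x' ≠ x := by
    intro h
    apply hxb
    calc b * x = (b * x * b⁻¹) * b := by group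
      _ = x * b := by rw [← hx', h]
  set y := x * x' with hy
  set y' := x' * x'' with hy'
  have hyA : y ∈ A := A.mul_mem hxA hx'A
  have hy'A : y' ∈ A := A.mul_mem hx'A hx''A
  have hφy : b * y * b⁻¹ = y' := by rw [hy, hφmul]
  have hφy' : b * y' * b⁻¹ = y * y' := by
    rw [hy', hφmul, ← hx'', hφ3 x, hy]
    -- x'' * x = x * x' * (x' * x'')
    calc x'' * x = x * x'' := hcomm _ hx''A _ hxA
      _ = x * (x' * x') * x'' := by rw [hsq x' hx'A, mul_one]
      _ = x * x' * (x' * x'') := by group
  have hy1 : y ≠ 1 := by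
    intro h
    apply hxx'
    have e1 : x' = x⁻¹ := (eq_inv_of_mul_eq_one_right h)
    have e2 : x⁻¹ = x := inv_eq_of_mul_eq_one_left (hsq x hxA)
    rw [e1, e2]
  have hy'1 : y' ≠ 1 := by
    intro h
    apply hy1
    apply hφinj
    rw [hφy, h]; group
  have hyy' : y ≠ y' := by
    intro h
    apply hy1
    have h1 : b * y' * b⁻¹ = y' := by rw [← h]; rw [hφy]; exact h.symm
    rw [hφy', ← h, hsq y hyA] at h1
    exact h1.symm
  have hyc : y * y' = y' * y := hcomm y hyA y' hy'A
  refine ⟨fourSub y y' (hsq y hyA) (hsq y' hy'A) hyc, ?_, ?_⟩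
  · intro g hg
    rcases hg with rfl | rfl | rfl | rfl
    · exact A.one_mem
    · exact hyA
    · exact hy'A
    · exact A.mul_mem hyA hy'A
  · have hle : fourSub y y' (hsq y hyA) (hsq y' hy'A) hyc ≤ A := by
      intro g hg
      rcases hg with rfl | rfl | rfl | rfl
      · exact A.one_mem
      · exact hyA
      · exact hy'A
      · exact A.mul_mem hyA hy'A
    have hfwd : ∀ g ∈ fourSub y y' (hsq y hyA) (hsq y' hy'A) hyc,
        b * g * b⁻¹ ∈ fourSub y y' (hsq y hyA) (hsq y' hy'A) hyc := by
      intro g hg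
      rcases hg with rfl | rfl | rfl | rfl
      · left; group
      · right; right; left; exact hφy
      · right; right; right; exact hφy'
      · right; left
        rw [hφmul, hφy, hφy', hyc, ← mul_assoc, hsq y' hy'A, one_mul]
    exact
      { solv := c.solv
        faith := c.faith
        normal := c.normal
        cop := c.cop
        b3 := c.b3
        top := c.top
        comm := c.comm
        QR := hle.trans hAR
        Q4 := card_fourSub _ _ _ hy1 hy'1 hyy'
        Q2 := fun q hq => hA2 q (hle hq)
        bQ := by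
          rw [Subgroup.mem_normalizer_iff]
          intro h
          constructor
          · exact hfwd h
          · intro hh
            have := hfwd _ (hfwd _ hh)
            rwa [hφ3] at this
        bQ' := by
          intro hcen
          rw [Subgroup.mem_centralizer_iff] at hcen
          have h1 := hcen y (Or.inr (Or.inl rfl))
          apply hyy'
          rw [← hφy, ← h1]; group
        rank := c.rank
        cubic := c.cubic }

end Cfsg.Agent.Lib.Helper8.CUB
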