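import Mathlib
import Cfsg.Agent.Lib.Helper8.CUBEAQ
import Cfsg.Agent.Lib.Helper8.CUBEA2
import Cfsg.Agent.Lib.Helper3.CUBT1
import Cfsg.Agent.Lib.Helper3.CUBT7
import Cfsg.Agent.Lib.Helper5.CUBP5
import Cfsg.Agent.Lib.Helper5.CUBT8

/-!
# Farm CUB (S4415): units EAQ and EA2, verbatim stub statements
-/

set_option autoImplicit false

open scoped commutatorElement

namespace Cfsg.Agent.Lib.Helper8.CUB

open Cfsg.Agent.Lib.Helper3.CUB

universe u v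

variable {G : Type u} [Group G] [Finite G] {E : Type v} [AddCommGroup E] [Module (ZMod 3) E]
  [Finite E] {ρ : Representation (ZMod 3) G E} {R : Subgroup G} {b : G} {Q : Subgroup G}

/-- EA-Q: a non-scalar normal subgroup of exponent 2 contains a `b`-invariant four-group `Q'`
not centralized by `b`. -/
theorem EAQ (c : Cfg ρ R b Q) (A : Subgroup G) (hAn : A.Normal) (hAR : A ≤ R)
    (hA2 : ∀ a ∈ A, a ^ 2 = 1) (a : G) (ha : a ∈ A) (hns : ¬ IsScal ρ R a) :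
    ∃ Q' : Subgroup G, Q' ≤ A ∧ Cfg ρ R b Q' :=
  EAQ_of c (fun A _ hb => Cfsg.Agent.Lib.Helper3.CUB.P0c c A hb)
    (fun a h => Cfsg.Agent.Lib.Helper5.CUB.QP1 c a h) A hAn hAR hA2 a ha hns

/-- EA2: if `Q` lies in a normal subgroup `A ≤ R` of exponent 2 then `dim W ≤ 4`. -/
theorem EA2 (c : Cfg ρ R b Q) (A : Subgroup G) (hAn : A.Normal) (hAR : A ≤ R)
    (hA2 : ∀ a ∈ A, a ^ 2 = 1) (hQA : Q ≤ A) :
    Module.finrank (ZMod 3) ↥(commSub ρ R) ≤ 4 :=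
  EA2_of c (Cfsg.Agent.Lib.Helper5.CUB.P5 c)
    (Cfsg.Agent.Lib.Helper3.CUB.decomp c).2.2.2.1
    (Cfsg.Agent.Lib.Helper3.CUB.decomp c).2.2.2.2.1
    (Cfsg.Agent.Lib.Helper3.CUB.decomp c).2.2.2.2.2
    (Cfsg.Agent.Lib.Helper3.CUB.conj_b_mem c) A hAn hAR hA2 hQA

end Cfsg.Agent.Lib.Helper8.CUB
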