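import Mathlib
import Cfsg.Agent.Lib.Helper3.CUBDefs
import Cfsg.Agent.Lib.Helper3.CUBT1
import Cfsg.Agent.Lib.Helper3.CUBT7
import Cfsg.Agent.Lib.Helper5.CUBDim
import Cfsg.Agent.Lib.Helper5.CUBT8
import Cfsg.Agent.Lib.Helper8.CUBEA2

/-!
# Farm CUB (S4415), unit FIN2cd-MOD

When `dim [E,R] = 4`, the elements of `R` centralizing the four-group `Q` are the eight
elements `1, z, qᵢ, z qᵢ` (`z = -1` on `[E,R]`): they act diagonally on the frame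
`e₀, e₁, e₂, e₃`, and a reflection has determinant `-1`, against `DET`.
-/

set_option autoImplicit false
set_option maxHeartbeats 1000000

open scoped commutatorElement

namespace Cfsg.Agent.Lib.Helper8.CUB

open Cfsg.Agent.Lib.Helper3.CUB

universe u v

/-! ## determinant of a reflection over `ZMod 3` -/

theorem det_of_reflection {E : Type v} [AddCommGroup E] [Module (ZMod 3) E] [Finite E]
    (T : E →ₗ[ZMod 3] E) (e₀ : E) (he₀ : e₀ ≠ 0) (hT0 : T e₀ = -e₀)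
    (hT : ∀ x, ∃ a : ZMod 3, T x - x = a • e₀) : LinearMap.det T = -1 := by
  let g' : E →ₗ[ZMod 3] Submodule.span (ZMod 3) ({e₀} : Set E) :=
    (T - 1).codRestrict (Submodule.span (ZMod 3) ({e₀} : Set E)) (fun x => by
      obtain ⟨a, ha⟩ := hT x
      rw [LinearMap.sub_apply, Module.End.one_apply, ha]
      exact Submodule.smul_mem _ _ (Submodule.mem_span_singleton_self _))
  let f : Module.Dual (ZMod 3) E :=
    (LinearEquiv.coord (ZMod 3) E e₀ he₀).toLinearMap ∘ₗ g'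
  have hf : ∀ x, f x • e₀ = T x - x := by
    intro x
    simp [f, g']
  have hTt : T = LinearMap.transvection f e₀ := by
    ext x
    rw [LinearMap.transvection.apply, hf]; abel
  have hf0 : f e₀ = 1 := by
    have h1 := hf e₀
    rw [hT0] at h1
    have t := add3 e₀
    have h2 : -e₀ - e₀ = (1 : ZMod 3) • e₀ := by
      rw [one_smul]
      have : -e₀ - e₀ = e₀ - (e₀ + e₀ + e₀) := by abel
      rw [this, t, sub_zero]
    rw [h2] at h1
    exact smul_left_injective (ZMod 3) he₀ h1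
  rw [hTt, LinearMap.transvection.det, hf0]
  decide

/-! ## the weights of a frame -/

section Frame

variable {G : Type u} [Group G] {E : Type v} [AddCommGroup E] [Module (ZMod 3) E]
  {ρ : Representation (ZMod 3) G E} {b : G} {Q : Subgroup G} {q₁ q₂ q₃ : G} {e₁ e₂ e₃ : E}

theorem frame_rel (fr : QFrame ρ b Q q₁ q₂ q₃ e₁ e₂ e₃) :
    q₁ * b⁻¹ = b⁻¹ * q₂ ∧ q₂ * b⁻¹ = b⁻¹ * q₃ ∧ q₁ * b = b * q₃ ∧ q₂ * b = b * q₁ ∧
      q₃ * b = b * q₂ := by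
  refine ⟨?_, ?_, ?_, ?_, ?_⟩
  · rw [← fr.conj₁]; group
  · rw [← fr.conj₂]; group
  · rw [← fr.conj₃]; group
  · rw [← fr.conj₁]; group
  · rw [← fr.conj₂]; group

theorem frame_q₃ (fr : QFrame ρ b Q q₁ q₂ q₃ e₁ e₂ e₃) (v : E) : ρ q₃ v = ρ q₁ (ρ q₂ v) := by
  rw [rho_mul_apply, fr.mul]

theorem frame_weights (fr : QFrame ρ b Q q₁ q₂ q₃ e₁ e₂ e₃) :
    (ρ q₁ e₁ = e₁ ∧ ρ q₂ e₁ = -e₁ ∧ ρ q₃ e₁ = -e₁) ∧
    (ρ q₁ e₂ = -e₂ ∧ ρ q₂ e₂ = e₂ ∧ ρ q₃ e₂ = -e₂) ∧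
    (ρ q₁ e₃ = -e₃ ∧ ρ q₂ e₃ = -e₃ ∧ ρ q₃ e₃ = e₃) := by
  obtain ⟨r1, r2, r3, r4, r5⟩ := frame_rel fr
  have w11 : ρ q₁ e₁ = e₁ := fr.q₁e₁
  have w21 : ρ q₂ e₁ = -e₁ := fr.q₂e₁
  have w31 : ρ q₃ e₁ = -e₁ := by rw [frame_q₃ fr, w21, map_neg, w11]
  have w22 : ρ q₂ e₂ = e₂ := by
    rw [← fr.be₁, rho_mul_apply, r4, ← rho_mul_apply, w11]
  have w32 : ρ q₃ e₂ = -e₂ := by
    rw [← fr.be₁, rho_mul_apply, r5, ← rho_mul_apply, w21, map_neg]
  have w12 : ρ q₁ e₂ = -e₂ := by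
    rw [← fr.be₁, rho_mul_apply, r3, ← rho_mul_apply, w31, map_neg]
  have w33 : ρ q₃ e₃ = e₃ := by
    rw [← fr.be₂, rho_mul_apply, r5, ← rho_mul_apply, w22]
  have w13 : ρ q₁ e₃ = -e₃ := by
    rw [← fr.be₂, rho_mul_apply, r3, ← rho_mul_apply, w32, map_neg]
  have w23 : ρ q₂ e₃ = -e₃ := by
    rw [← fr.be₂, rho_mul_apply, r4, ← rho_mul_apply, w12, map_neg]
  exact ⟨⟨w11, w21, w31⟩, ⟨w12, w22, w32⟩, ⟨w13, w23, w33⟩⟩

theorem frame_mult₂ (fr : QFrame ρ b Q q₁ q₂ q₃ e₁ e₂ e₃) :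
    ∀ v : E, ρ q₂ v = v → ρ q₃ v = -v → ∃ a : ZMod 3, v = a • e₂ := by
  obtain ⟨r1, r2, r3, r4, r5⟩ := frame_rel fr
  intro v hv2 hv3
  obtain ⟨a, ha⟩ := fr.mult_one (ρ b⁻¹ v)
    (by rw [rho_mul_apply, r1, ← rho_mul_apply, hv2])
    (by rw [rho_mul_apply, r2, ← rho_mul_apply, hv3, map_neg])
  have := congrArg (ρ b) ha
  rw [rho_apply_inv, map_smul, fr.be₁] at this
  exact ⟨a, this⟩

theorem frame_mult₃ (fr : QFrame ρ b Q q₁ q₂ q₃ e₁ e₂ e₃) :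
    ∀ v : E, ρ q₃ v = v → ρ q₁ v = -v → ∃ a : ZMod 3, v = a • e₃ := by
  obtain ⟨r1, r2, r3, r4, r5⟩ := frame_rel fr
  intro v hv3 hv1
  obtain ⟨a, ha⟩ := fr.mult_one (ρ b v)
    (by rw [rho_mul_apply, r3, ← rho_mul_apply, hv3])
    (by rw [rho_mul_apply, r4, ← rho_mul_apply, hv1, map_neg])
  have := congrArg (ρ b⁻¹) ha
  rw [rho_inv_apply, map_smul, ← fr.be₃, rho_inv_apply] at this
  exact ⟨a, this⟩

theorem frame_ne (fr : QFrame ρ b Q q₁ q₂ q₃ e₁ e₂ e₃) : e₂ ≠ 0 ∧ e₃ ≠ 0 := by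
  have he₂0 : e₂ ≠ 0 := by
    intro hh
    apply fr.e_ne
    apply rho_inj (ρ := ρ) (g := b)
    rw [fr.be₁, hh, map_zero]
  refine ⟨he₂0, ?_⟩
  intro hh
  apply he₂0
  apply rho_inj (ρ := ρ) (g := b)
  rw [fr.be₂, hh, map_zero]

end Frame

theorem sign_cases : ∀ a : ZMod 3, a ≠ 0 → a = 1 ∨ a = -1 := by decide

theorem smul_ne_zero_coeff {E : Type v} [AddCommGroup E] [Module (ZMod 3) E] {a : ZMod 3}
    {w v : E} (hw : w ≠ 0) (h : w = a • v) : a ≠ 0 := by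
  rintro rfl
  apply hw
  rw [h, zero_smul]

/-! ## the unit -/

section Main

variable {G : Type u} [Group G] [Finite G] {E : Type v} [AddCommGroup E] [Module (ZMod 3) E]
  [Finite E] {ρ : Representation (ZMod 3) G E} {R : Subgroup G} {b : G} {Q : Subgroup G}

theorem R0_list (c : Cfg ρ R b Q) (z : G) (hz : NegOne ρ R z)
    (hdim : Module.finrank (ZMod 3) (commSub ρ R) = 4) (q₁ q₂ q₃ : G) (e₁ e₂ e₃ : E)
    (fr : QFrame ρ b Q q₁ q₂ q₃ e₁ e₂ e₃) :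
    ∀ r ∈ R, r * q₁ = q₁ * r → r * q₂ = q₂ * r →
      r = 1 ∨ r = z ∨ r = q₁ ∨ r = q₂ ∨ r = q₃ ∨ r = z * q₁ ∨ r = z * q₂ ∨ r = z * q₃ := by
  intro r hrR hr1 hr2
  obtain ⟨d1, d2, d3, d4, d5, d6⟩ := Cfsg.Agent.Lib.Helper3.CUB.decomp c
  obtain ⟨⟨w11, w21, w31⟩, ⟨w12, w22, w32⟩, ⟨w13, w23, w33⟩⟩ := frame_weights fr
  obtain ⟨he₂0, he₃0⟩ := frame_ne fr
  have he₁W : e₁ ∈ commSub ρ R := Cfsg.Agent.Lib.Helper5.CUB.frame_mem_commSub c fr
  have he₂W : e₂ ∈ commSub ρ R := by rw [← fr.be₁]; exact d4 b _ he₁W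
  have he₃W : e₃ ∈ commSub ρ R := by rw [← fr.be₂]; exact d4 b _ he₂W
  -- the line `W ∩ C_E(Q)`
  have hline : Module.finrank (ZMod 3) ↥(commSub ρ R ⊓ fixSub ρ Q) = 1 := by
    have := (Cfsg.Agent.Lib.Helper5.CUB.DIM c).1
    omega
  obtain ⟨⟨e₀, he₀mem⟩, he₀ne, he₀span⟩ := (finrank_eq_one_iff' (K := ZMod 3)).1 hline
  have he₀W : e₀ ∈ commSub ρ R := he₀mem.1
  have he₀Q : e₀ ∈ fixSub ρ Q := he₀mem.2
  have he₀0 : e₀ ≠ 0 := fun hh => he₀ne (Subtype.ext hh)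
  have hspan0 : ∀ w ∈ commSub ρ R ⊓ fixSub ρ Q, ∃ a : ZMod 3, w = a • e₀ := by
    intro w hw
    obtain ⟨a, ha⟩ := he₀span ⟨w, hw⟩
    exact ⟨a, (congrArg Subtype.val ha).symm⟩
  have hWspan : ∀ w ∈ commSub ρ R, ∃ a₀ a₁ a₂ a₃ : ZMod 3,
      w = a₀ • e₀ + a₁ • e₁ + a₂ • e₂ + a₃ • e₃ := by
    intro w hw
    obtain ⟨w', hw', a₁, a₂, a₃, hwe⟩ := fr.decomp w
    have hw'W : w' ∈ commSub ρ R := by
      have e : w' = w - a₁ • e₁ - a₂ • e₂ - a₃ • e₃ := by rw [hwe]; abel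
      rw [e]
      exact Submodule.sub_mem _ (Submodule.sub_mem _ (Submodule.sub_mem _ hw
        (Submodule.smul_mem _ _ he₁W)) (Submodule.smul_mem _ _ he₂W))
        (Submodule.smul_mem _ _ he₃W)
    obtain ⟨a₀, ha₀⟩ := hspan0 w' ⟨hw'W, hw'⟩
    exact ⟨a₀, a₁, a₂, a₃, by rw [hwe, ha₀]⟩
  -- diagonal action of elements commuting with `Q`
  have diag : ∀ g : G, g * q₁ = q₁ * g → g * q₂ = q₂ * g →
      ∃ a₀ a₁ a₂ a₃ : ZMod 3, ρ g e₀ = a₀ • e₀ ∧ ρ g e₁ = a₁ • e₁ ∧ ρ g e₂ = a₂ • e₂ ∧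
        ρ g e₃ = a₃ • e₃ := by
    intro g hg1 hg2
    have hg3 : g * q₃ = q₃ * g := by
      rw [← fr.mul, ← mul_assoc, hg1, mul_assoc, hg2, mul_assoc]
    obtain ⟨a₁, ha₁⟩ := fr.mult_one (ρ g e₁)
      (by rw [rho_mul_apply, ← hg1, ← rho_mul_apply, w11])
      (by rw [rho_mul_apply, ← hg2, ← rho_mul_apply, w21, map_neg])
    obtain ⟨a₂, ha₂⟩ := frame_mult₂ fr (ρ g e₂)
      (by rw [rho_mul_apply, ← hg2, ← rho_mul_apply, w22])
      (by rw [rho_mul_apply, ← hg3, ← rho_mul_apply, w32, map_neg])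
    obtain ⟨a₃, ha₃⟩ := frame_mult₃ fr (ρ g e₃)
      (by rw [rho_mul_apply, ← hg3, ← rho_mul_apply, w33])
      (by rw [rho_mul_apply, ← hg1, ← rho_mul_apply, w13, map_neg])
    have hmem : ρ g e₀ ∈ commSub ρ R ⊓ fixSub ρ Q := by
      refine ⟨d4 g _ he₀W, ?_⟩
      intro q hq
      rcases fr.all q hq with rfl | rfl | rfl | rfl
      · rw [map_one]; rfl
      · rw [rho_mul_apply, ← hg1, ← rho_mul_apply, he₀Q q fr.mem₁]
      · rw [rho_mul_apply, ← hg2, ← rho_mul_apply, he₀Q q fr.mem₂]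
      · rw [rho_mul_apply, ← hg3, ← rho_mul_apply, he₀Q q fr.mem₃]
    obtain ⟨a₀, ha₀⟩ := hspan0 _ hmem
    exact ⟨a₀, a₁, a₂, a₃, ha₀, ha₁, ha₂, ha₃⟩
  obtain ⟨a₀, a₁, a₂, a₃, ha₀, ha₁, ha₂, ha₃⟩ := diag r hr1 hr2
  have inj0 : ∀ (g : G) (v : E), v ≠ 0 → ρ g v ≠ 0 := by
    intro g v hv hh
    apply hv
    apply rho_inj (ρ := ρ) (g := g)
    rw [hh, map_zero]
  have s₀ := sign_cases a₀ (smul_ne_zero_coeff (inj0 r e₀ he₀0) ha₀)
  have s₁ := sign_cases a₁ (smul_ne_zero_coeff (inj0 r e₁ fr.e_ne) ha₁)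
  have s₂ := sign_cases a₂ (smul_ne_zero_coeff (inj0 r e₂ he₂0) ha₂)
  have s₃ := sign_cases a₃ (smul_ne_zero_coeff (inj0 r e₃ he₃0) ha₃)
  have sq : ∀ a : ZMod 3, (a = 1 ∨ a = -1) → a * a = 1 := by
    rintro a (rfl | rfl) <;> decide
  -- comparison with an element of the list
  have key : ∀ g ∈ R, ∀ t₀ : ZMod 3, (t₀ = 1 ∨ t₀ = -1) → ρ g e₀ = t₀ • e₀ →
      ρ g e₁ = a₁ • e₁ → ρ g e₂ = a₂ • e₂ → ρ g e₃ = a₃ • e₃ → r = g := by
    intro g hgR t₀ ht₀ hg0 hg1 hg2 hg3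
    -- the inverse of `g` on the frame
    have inv_act : ∀ (a : ZMod 3) (v : E), a * a = 1 → ρ g v = a • v → ρ g⁻¹ v = a • v := by
      intro a v haa hgv
      have h1 := congrArg (ρ g⁻¹) hgv
      rw [rho_inv_apply, map_smul] at h1
      have h2 := congrArg (fun w => a • w) h1
      simp only [smul_smul, haa, one_smul] at h2
      exact h2.symm
    have hu : ∀ (a t : ZMod 3) (v : E), t * t = 1 → ρ r v = a • v → ρ g v = t • v →
        ρ (g⁻¹ * r) v = (a * t) • v := by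
      intro a t v htt hrv hgv
      rw [← rho_mul_apply, hrv, map_smul, inv_act t v htt hgv, smul_smul]
    have hu1 := hu a₁ a₁ e₁ (sq _ s₁) ha₁ hg1
    have hu2 := hu a₂ a₂ e₂ (sq _ s₂) ha₂ hg2
    have hu3 := hu a₃ a₃ e₃ (sq _ s₃) ha₃ hg3
    have hu0 := hu a₀ t₀ e₀ (sq _ ht₀) ha₀ hg0
    rw [sq _ s₁, one_smul] at hu1
    rw [sq _ s₂, one_smul] at hu2
    rw [sq _ s₃, one_smul] at hu3
    have huR : g⁻¹ * r ∈ R := R.mul_mem (R.inv_mem hgR) hrR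
    by_cases h0 : t₀ = a₀
    · -- `g⁻¹ r` is trivial on `W`
      rw [h0, sq _ s₀, one_smul] at hu0
      have h1 : g⁻¹ * r = 1 := by
        apply d5
        intro w hw
        obtain ⟨c₀, c₁, c₂, c₃, rfl⟩ := hWspan w hw
        simp only [map_add, map_smul, hu0, hu1, hu2, hu3]
      calc r = g * (g⁻¹ * r) := by group
        _ = g := by rw [h1, mul_one]
    · -- a reflection in `R`: determinant `-1`
      exfalso
      have hat : a₀ * t₀ = -1 := by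
        rcases s₀ with rfl | rfl <;> rcases ht₀ with rfl | rfl
        · exact absurd rfl h0
        · decide
        · decide
        · exact absurd rfl h0
      rw [hat, neg_smul, one_smul] at hu0
      have hdet : LinearMap.det (ρ (g⁻¹ * r)) = -1 := by
        apply det_of_reflection _ e₀ he₀0 hu0
        intro x
        have hx : x ∈ commSub ρ R ⊔ fixSub ρ R := by rw [d2]; trivial
        obtain ⟨w, hw, y, hy, rfl⟩ := Submodule.mem_sup.1 hx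
        obtain ⟨c₀, c₁, c₂, c₃, rfl⟩ := hWspan w hw
        refine ⟨c₀, ?_⟩
        have hy' : ρ (g⁻¹ * r) y = y := d3 _ huR y hy
        simp only [map_add, map_smul, hu0, hu1, hu2, hu3, hy']
        have t := add3 e₀
        have e1 : c₀ • -e₀ + c₁ • e₁ + c₂ • e₂ + c₃ • e₃ + y
            - (c₀ • e₀ + c₁ • e₁ + c₂ • e₂ + c₃ • e₃ + y) = c₀ • (-e₀ - e₀) := by
          rw [smul_sub, smul_neg]; abel
        have e2 : -e₀ - e₀ = e₀ := by
          have : -e₀ - e₀ = e₀ - (e₀ + e₀ + e₀) := by abel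
          rw [this, t, sub_zero]
        rw [e1, e2]
      have h1 := Cfsg.Agent.Lib.Helper3.CUB.DET c _ huR
      rw [hdet] at h1
      exact absurd h1 (by decide)
  -- the eight elements
  obtain ⟨hzR, -, -, hzc⟩ := Cfsg.Agent.Lib.Helper5.CUB.negOne_props c z hz
  have hq₁R : q₁ ∈ R := c.QR fr.mem₁
  have hq₂R : q₂ ∈ R := c.QR fr.mem₂
  have hq₃R : q₃ ∈ R := c.QR fr.mem₃
  have z0 : ρ z e₀ = -e₀ := hz _ he₀W
  have z1 : ρ z e₁ = -e₁ := hz _ he₁W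
  have z2 : ρ z e₂ = -e₂ := hz _ he₂W
  have z3 : ρ z e₃ = -e₃ := hz _ he₃W
  have q10 : ρ q₁ e₀ = e₀ := he₀Q q₁ fr.mem₁
  have q20 : ρ q₂ e₀ = e₀ := he₀Q q₂ fr.mem₂
  have q30 : ρ q₃ e₀ = e₀ := he₀Q q₃ fr.mem₃
  rcases s₁ with rfl | rfl <;> rcases s₂ with rfl | rfl <;> rcases s₃ with rfl | rfl
  · -- (+,+,+): 1
    left
    exact key 1 R.one_mem 1 (Or.inl rfl) (by simp) (by simp) (by simp) (by simp)
  · -- (+,+,-): z q₃
    right; right; right; right; right; right; right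
    apply key (z * q₃) (R.mul_mem hzR hq₃R) (-1) (Or.inr rfl)
    · rw [← rho_mul_apply, q30, z0, neg_smul, one_smul]
    · rw [← rho_mul_apply, w31, map_neg, z1, neg_neg, one_smul]
    · rw [← rho_mul_apply, w32, map_neg, z2, neg_neg, one_smul]
    · rw [← rho_mul_apply, w33, z3, neg_smul, one_smul]
  · -- (+,-,+): z q₂
    right; right; right; right; right; right; left
    apply key (z * q₂) (R.mul_mem hzR hq₂R) (-1) (Or.inr rfl)
    · rw [← rho_mul_apply, q20, z0, neg_smul, one_smul]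
    · rw [← rho_mul_apply, w21, map_neg, z1, neg_neg, one_smul]
    · rw [← rho_mul_apply, w22, z2, neg_smul, one_smul]
    · rw [← rho_mul_apply, w23, map_neg, z3, neg_neg, one_smul]
  · -- (+,-,-): q₁
    right; right; left
    apply key q₁ hq₁R 1 (Or.inl rfl)
    · rw [q10, one_smul]
    · rw [w11, one_smul]
    · rw [w12, neg_smul, one_smul]
    · rw [w13, neg_smul, one_smul]
  · -- (-,+,+): z q₁
    right; right; right; right; right; left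
    apply key (z * q₁) (R.mul_mem hzR hq₁R) (-1) (Or.inr rfl)
    · rw [← rho_mul_apply, q10, z0, neg_smul, one_smul]
    · rw [← rho_mul_apply, w11, z1, neg_smul, one_smul]
    · rw [← rho_mul_apply, w12, map_neg, z2, neg_neg, one_smul]
    · rw [← rho_mul_apply, w13, map_neg, z3, neg_neg, one_smul]
  · -- (-,+,-): q₂
    right; right; right; left
    apply key q₂ hq₂R 1 (Or.inl rfl)
    · rw [q20, one_smul]
    · rw [w21, neg_smul, one_smul]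
    · rw [w22, one_smul]
    · rw [w23, neg_smul, one_smul]
  · -- (-,-,+): q₃
    right; right; right; right; left
    apply key q₃ hq₃R 1 (Or.inl rfl)
    · rw [q30, one_smul]
    · rw [w31, neg_smul, one_smul]
    · rw [w32, neg_smul, one_smul]
    · rw [w33, one_smul]
  · -- (-,-,-): z
    right; left
    apply key z hzR (-1) (Or.inr rfl)
    · rw [z0, neg_smul, one_smul]
    · rw [z1, neg_smul, one_smul]
    · rw [z2, neg_smul, one_smul]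
    · rw [z3, neg_smul, one_smul]

end Main

end Cfsg.Agent.Lib.Helper8.CUB
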