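import Mathlib
import Cfsg.Prelude.Def_Solvable
import Cfsg.Agent.Lib.Helper1.Fitting
import Cfsg.Agent.Lib.Helper1.FittingSocle
import Cfsg.Agent.Lib.Helper1.FittingFrattini
import Cfsg.Agent.Lib.Helper1.FittingCentralizer
import Cfsg.Agent.Lib.Helper1.FrattiniComplement
import Cfsg.Agent.Lib.Helper1.MillerMoreno

set_option autoImplicit false

/-! # Broline–Garrison: maximal subgroups supplementing the Fitting subgroup of a solvable group -/

namespace Cfsg.Agent.Lib.Helper8.BG

open Cfsg.Agent.Lib.Helper1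

universe u

variable {G : Type u} [Group G]

theorem isCoatom_comap {H : Type*} [Group H] (π : G →* H) (hπ : Function.Surjective π)
    {M : Subgroup H} (hM : IsCoatom M) : IsCoatom (M.comap π) := by
  constructor
  · intro h
    apply hM.1
    rw [← Subgroup.map_comap_eq_self_of_surjective hπ M, h, ← MonoidHom.range_eq_map,
      MonoidHom.range_eq_top.mpr hπ]
  · intro M' hlt
    have h1 : M ≤ M'.map π := by
      rw [← Subgroup.map_comap_eq_self_of_surjective hπ M]
      exact Subgroup.map_mono hlt.le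
    have h2 : M ≠ M'.map π := by
      intro h
      apply hlt.not_ge
      rw [h]
      exact Subgroup.le_comap_map π M'
    have h3 := hM.2 _ (lt_of_le_of_ne h1 h2)
    rw [eq_top_iff]
    intro g _
    have hg : π g ∈ M'.map π := by rw [h3]; trivial
    obtain ⟨g', hg', hgg'⟩ := hg
    have hk : g'⁻¹ * g ∈ M.comap π := by
      rw [Subgroup.mem_comap, map_mul, map_inv, hgg', inv_mul_cancel]
      exact M.one_mem
    have := M'.mul_mem hg' (hlt.le hk)
    rwa [mul_inv_cancel_left] at this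

theorem isCoatom_map {H : Type*} [Group H] (π : G →* H) (hπ : Function.Surjective π)
    {M : Subgroup G} (hM : IsCoatom M) (hker : π.ker ≤ M) : IsCoatom (M.map π) := by
  have hcm : (M.map π).comap π = M := by rw [Subgroup.comap_map_eq, sup_eq_left.mpr hker]
  constructor
  · intro h
    apply hM.1
    rw [← hcm, h, Subgroup.comap_top]
  · intro N hlt
    have h1 : M ≤ N.comap π := by rw [← hcm]; exact Subgroup.comap_mono hlt.le
    have h2 : M ≠ N.comap π := by
      intro h
      apply hlt.ne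
      rw [h, Subgroup.map_comap_eq_self_of_surjective hπ]
    have h3 := hM.2 _ (lt_of_le_of_ne h1 h2)
    rw [← Subgroup.map_comap_eq_self_of_surjective hπ N, h3, ← MonoidHom.range_eq_map,
      MonoidHom.range_eq_top.mpr hπ]

theorem frattini_quotient_frattini [Finite G] : frattini (G ⧸ frattini G) = ⊥ := by
  have hsurj := QuotientGroup.mk'_surjective (frattini G)
  rw [eq_bot_iff]
  intro x hx
  obtain ⟨g, rfl⟩ := hsurj x
  have hg : g ∈ frattini G := by
    unfold frattini Order.radical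
    rw [Subgroup.mem_iInf]
    intro M
    rw [Subgroup.mem_iInf]
    intro hM
    have hΦM : (QuotientGroup.mk' (frattini G)).ker ≤ M := by
      rw [QuotientGroup.ker_mk']
      exact frattini_le_coatom hM
    have hco := isCoatom_map (QuotientGroup.mk' (frattini G)) hsurj hM hΦM
    have h1 := frattini_le_coatom hco hx
    obtain ⟨m, hm, hmg⟩ := h1
    have h2 : m⁻¹ * g ∈ frattini G := by
      rw [← QuotientGroup.eq]
      exact hmg
    have := M.mul_mem hm (frattini_le_coatom hM h2)
    rwa [mul_inv_cancel_left] at this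
  rw [Subgroup.mem_bot]
  exact (QuotientGroup.eq_one_iff g).mpr hg

/-- In a solvable group with trivial Frattini subgroup, every element outside the Fitting subgroup
is, modulo the Fitting subgroup, an element outside the core of some maximal subgroup not
containing the Fitting subgroup. -/
theorem exists_coatom_of_frattini_eq_bot [Finite G] [hs : Group.IsSolvable G]
    (hΦ : frattini G = ⊥) {x : G} (hx : x ∉ Cfsg.fittingSubgroup G) :
    ∃ M : Subgroup G, IsCoatom M ∧ ¬ Cfsg.fittingSubgroup G ≤ M ∧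
      ∃ v ∈ Cfsg.fittingSubgroup G, ∃ m' ∈ M, x = v * m' ∧ ∃ y : G, y⁻¹ * m' * y ∉ M := by
  have hCF := centralizer_fittingSubgroup_le (G := G)
  have hsS := fittingSubgroup_eq_sSup_abelian_minimal_normal hΦ
  have hexV : ∃ V : Subgroup G, V.Normal ∧ V ≠ ⊥ ∧ IsMulCommutative V ∧
      (∀ K : Subgroup G, K.Normal → K ≤ V → K = ⊥ ∨ K = V) ∧
      ¬ V ≤ Subgroup.centralizer ({x} : Set G) := by
    by_contra hcon
    push Not at hcon
    apply hx
    apply hCF
    rw [Subgroup.mem_centralizer_iff]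
    intro f hf
    have hle : Cfsg.fittingSubgroup G ≤ Subgroup.centralizer ({x} : Set G) := by
      rw [hsS]
      apply sSup_le
      rintro V ⟨hVn, hV0, hVc, hVmin⟩
      exact hcon V hVn hV0 hVc hVmin
    have := hle hf
    rw [Subgroup.mem_centralizer_iff] at this
    exact (this x (Set.mem_singleton x)).symm
  obtain ⟨V, hVn, hV0, hVc, hVmin, hVx⟩ := hexV
  haveI := hVn
  have hVcomm : ∀ a ∈ V, ∀ b ∈ V, a * b = b * a := by
    intro a ha b hb
    have := hVc.is_comm.comm (⟨a, ha⟩ : V) ⟨b, hb⟩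
    exact congrArg Subtype.val this
  obtain ⟨M, hcompl⟩ := abelian_normal_complemented_of_frattini_eq_bot hΦ V hVcomm
  have hsup : V ⊔ M = ⊤ := hcompl.sup_eq_top
  have hinf : V ⊓ M = ⊥ := hcompl.disjoint.eq_bot
  have hVF : V ≤ Cfsg.fittingSubgroup G :=
    le_fittingSubgroup hVn (isNilpotent_of_isMulCommutative V)
  have hMtop : M ≠ ⊤ := by
    intro h
    apply hV0
    rw [← inf_top_eq V, ← h, hinf]
  have hMco : IsCoatom M := by
    refine ⟨hMtop, ?_⟩
    intro M' hlt
    have hDn : (M' ⊓ V).Normal := by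
      constructor
      intro d hd g
      have hg : g ∈ V ⊔ M := by rw [hsup]; trivial
      rw [Subgroup.mem_sup_of_normal_left] at hg
      obtain ⟨v, hv, m, hm, rfl⟩ := hg
      have hdV := hd.2
      have hdM' := hd.1
      have hd'V : m * d * m⁻¹ ∈ V := hVn.conj_mem d hdV m
      have hd'M : m * d * m⁻¹ ∈ M' :=
        M'.mul_mem (M'.mul_mem (hlt.le hm) hdM') (M'.inv_mem (hlt.le hm))
      have e : v * m * d * (v * m)⁻¹ = m * d * m⁻¹ := by
        have := hVcomm v hv (m * d * m⁻¹) hd'V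
        calc v * m * d * (v * m)⁻¹ = v * (m * d * m⁻¹) * v⁻¹ := by group
          _ = (m * d * m⁻¹) * v * v⁻¹ := by rw [this]
          _ = m * d * m⁻¹ := by group
      rw [e]
      exact ⟨hd'M, hd'V⟩
    rcases hVmin (M' ⊓ V) hDn inf_le_right with h | h
    · exfalso
      apply hlt.not_ge
      intro z hz
      have hg : z ∈ V ⊔ M := by rw [hsup]; trivial
      rw [Subgroup.mem_sup_of_normal_left] at hg
      obtain ⟨v, hv, m, hm, rfl⟩ := hg
      have hvM' : v ∈ M' := by
        have := M'.mul_mem hz (M'.inv_mem (hlt.le hm))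
        rwa [mul_inv_cancel_right] at this
      have hvD : v ∈ M' ⊓ V := ⟨hvM', hv⟩
      rw [h, Subgroup.mem_bot] at hvD
      rw [hvD, one_mul]
      exact hm
    · have hVM' : V ≤ M' := by rw [← h]; exact inf_le_left
      rw [eq_top_iff, ← hsup]
      exact sup_le hVM' hlt.le
  have hFM : ¬ Cfsg.fittingSubgroup G ≤ M := by
    intro h
    apply hV0
    rw [eq_bot_iff, ← hinf]
    exact le_inf le_rfl (hVF.trans h)
  have hxs : x ∈ V ⊔ M := by rw [hsup]; trivial
  rw [Subgroup.mem_sup_of_normal_left] at hxs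
  obtain ⟨v, hv, m', hm', hx'⟩ := hxs
  refine ⟨M, hMco, hFM, v, hVF hv, m', hm', hx'.symm, ?_⟩
  by_contra hcon
  push Not at hcon
  apply hVx
  intro u hu
  rw [Subgroup.mem_centralizer_iff]
  intro z hz
  rw [Set.mem_singleton_iff] at hz
  rw [hz]
  have hcm : m' * u = u * m' := by
    have h1 : u⁻¹ * m' * u ∈ M := hcon u
    have h2 : m'⁻¹ * (u⁻¹ * m' * u) ∈ M := M.mul_mem (M.inv_mem hm') h1
    have h3 : m'⁻¹ * (u⁻¹ * m' * u) ∈ V := by
      have h5 : m'⁻¹ * u⁻¹ * m'⁻¹⁻¹ ∈ V := hVn.conj_mem u⁻¹ (V.inv_mem hu) m'⁻¹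
      have e : m'⁻¹ * (u⁻¹ * m' * u) = (m'⁻¹ * u⁻¹ * m'⁻¹⁻¹) * u := by group
      rw [e]
      exact V.mul_mem h5 hu
    have h4 : m'⁻¹ * (u⁻¹ * m' * u) ∈ V ⊓ M := ⟨h3, h2⟩
    rw [hinf, Subgroup.mem_bot] at h4
    have e2 : m' * u = u * m' * (m'⁻¹ * (u⁻¹ * m' * u)) := by group
    rw [e2, h4, mul_one]
  rw [← hx', mul_assoc, hcm, ← mul_assoc, hVcomm v hv u hu, mul_assoc]

/-- The same without the Frattini hypothesis. -/
theorem exists_coatom [Finite G] [hs : Group.IsSolvable G] {x : G}
    (hx : x ∉ Cfsg.fittingSubgroup G) :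
    ∃ M : Subgroup G, IsCoatom M ∧ ¬ Cfsg.fittingSubgroup G ≤ M ∧
      ∃ v ∈ Cfsg.fittingSubgroup G, ∃ m' ∈ M, x = v * m' ∧ ∃ y : G, y⁻¹ * m' * y ∉ M := by
  have hsurj : Function.Surjective (QuotientGroup.mk' (frattini G)) :=
    QuotientGroup.mk'_surjective (frattini G)
  have hFq := fittingSubgroup_quotient_frattini (G := G)
  have hΦF : frattini G ≤ Cfsg.fittingSubgroup G :=
    le_fittingSubgroup inferInstance frattini_nilpotent
  have hxq : QuotientGroup.mk' (frattini G) x ∉ Cfsg.fittingSubgroup (G ⧸ frattini G) := by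
    rw [hFq]
    rintro ⟨f, hf, hfx⟩
    apply hx
    have h1 : f⁻¹ * x ∈ frattini G := by
      rw [← QuotientGroup.eq]
      exact hfx
    have := (Cfsg.fittingSubgroup G).mul_mem hf (hΦF h1)
    rwa [mul_inv_cancel_left] at this
  obtain ⟨Mq, hMq, hFMq, vq, hvq, mq, hmq, hxm, yq, hyq⟩ :=
    exists_coatom_of_frattini_eq_bot frattini_quotient_frattini hxq
  obtain ⟨y, rfl⟩ := hsurj yq
  rw [hFq] at hvq hFMq
  obtain ⟨v, hv, rfl⟩ := hvq
  refine ⟨Mq.comap (QuotientGroup.mk' (frattini G)),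
    isCoatom_comap (QuotientGroup.mk' (frattini G)) hsurj hMq, ?_, v, hv, v⁻¹ * x, ?_,
    by group, y, ?_⟩
  · intro h
    apply hFMq
    rw [← Subgroup.map_comap_eq_self_of_surjective hsurj Mq]
    exact Subgroup.map_mono h
  · rw [Subgroup.mem_comap, map_mul, map_inv, hxm, inv_mul_cancel_left]
    exact hmq
  · rw [Subgroup.mem_comap]
    have e : QuotientGroup.mk' (frattini G) (y⁻¹ * (v⁻¹ * x) * y)
        = (QuotientGroup.mk' (frattini G) y)⁻¹ * mq * QuotientGroup.mk' (frattini G) y := by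
      rw [map_mul, map_mul, map_inv, map_mul, map_inv, hxm, inv_mul_cancel_left]
    rw [e]
    exact hyq

end Cfsg.Agent.Lib.Helper8.BG
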