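import Mathlib
import Cfsg.Prelude.Def_PLocal
import Cfsg.Prelude.Def_Transfer
import Cfsg.Agent.Lib.Helper1.NPC5
import Cfsg.Agent.Lib.Helper1.CoprimeSylow
import Cfsg.Agent.Lib.Helper1.Carter2
import Cfsg.Agent.Lib.Helper1.HallComplement
import Cfsg.Agent.Lib.Helper8.BG2

/-! Thompson: a finite group with a nilpotent maximal subgroup of odd order is solvable. -/
set_option autoImplicit false
open Cfsg

namespace Cfsg.Agent.Lib.Helper8.NilMax

variable {G : Type*} [Group G]

theorem isSolvable_of_sup_normal (M Q : Subgroup G) [hQ : Q.Normal] (h : M ⊔ Q = ⊤)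
    (hM : Group.IsSolvable M) (hQs : Group.IsSolvable Q) : Group.IsSolvable G := by
  have hsurj : Function.Surjective ((QuotientGroup.mk' Q).comp M.subtype) := by
    intro x
    obtain ⟨g, rfl⟩ := QuotientGroup.mk'_surjective Q x
    have hg : g ∈ ((M ⊔ Q : Subgroup G) : Set G) := by rw [h]; trivial
    rw [Subgroup.mul_normal] at hg
    obtain ⟨m, hm, q, hq, rfl⟩ := Set.mem_mul.mp hg
    refine ⟨⟨m, hm⟩, ?_⟩
    simp only [MonoidHom.comp_apply, Subgroup.subtype_apply, QuotientGroup.mk'_apply]
    rw [QuotientGroup.eq]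
    simpa using hq
  have hGQ : Group.IsSolvable (G ⧸ Q) := Group.isSolvable_of_surjective hsurj
  exact Group.isSolvable_of_ker_le_range Q.subtype (QuotientGroup.mk' Q) (by simp)

theorem hasNormalPComplement_of_isNilpotent {H : Type*} [Group H] [Finite H]
    (hH : Group.IsNilpotent H) (p : ℕ) [hp : Fact p.Prime] : HasNormalPComplement p H := by
  let P : Sylow p H := default
  haveI : (P : Subgroup H).Normal := inferInstance
  have hcop : Nat.Coprime (Nat.card (P : Subgroup H)) (P : Subgroup H).index := by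
    obtain ⟨k, hk⟩ := P.2.exists_card_eq
    rw [hk]
    apply Nat.Coprime.pow_left
    rw [hp.out.coprime_iff_not_dvd]
    exact P.not_dvd_index
  obtain ⟨K, hK⟩ := Subgroup.exists_right_complement'_of_coprime hcop
  have hKcop : Nat.Coprime (Nat.card K) K.index := by
    rw [hK.index_eq_card, ← hK.symm.index_eq_card]
    exact hcop.symm
  have hKn := Cfsg.Agent.Lib.Helper1.Carter.hall_normal_of_nilpotent K hKcop
  exact ⟨P, K, hKn, hK.symm⟩

theorem sylow_step [Finite G] (M : Subgroup G) (hmax : IsCoatom M) (hnil : Group.IsNilpotent M)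
    (hcore : ∀ N : Subgroup G, N.Normal → N ≤ M → N = ⊥) (p : ℕ) [hp : Fact p.Prime]
    (hp2 : p ≠ 2) (hpM : p ∣ Nat.card M) : HasNormalPComplement p G ∧ ¬ p ∣ M.index := by
  have key : ∀ X : Subgroup G, X ≤ M → X ≠ ⊥ → M ≤ Subgroup.normalizer (X : Set G) →
      Subgroup.normalizer (X : Set G) = M := by
    intro X hXM hX hMN
    by_contra hne
    have hlt : M < Subgroup.normalizer (X : Set G) := lt_of_le_of_ne hMN (Ne.symm hne)
    have htop := hmax.2 _ hlt
    have hXn : X.Normal := Subgroup.normalizer_eq_top_iff.mp htop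
    exact hX (hcore X hXn hXM)
  let PM : Sylow p M := default
  haveI hPMn : (PM : Subgroup M).Normal := inferInstance
  set P : Subgroup G := (PM : Subgroup M).map M.subtype with hPdef
  have hPM : P ≤ M := Subgroup.map_subtype_le _
  have hPp : IsPGroup p P := PM.2.map _
  have hPne : P ≠ ⊥ := by
    intro h
    rw [hPdef, Subgroup.map_eq_bot_iff_of_injective _ (Subgroup.subtype_injective M)] at h
    exact Sylow.ne_bot_of_dvd_card PM hpM h
  have hMNP : M ≤ Subgroup.normalizer (P : Set G) := by
    apply Cfsg.Agent.Lib.Helper1.le_normalizer_of_conj_mem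
    intro g hg x hx
    obtain ⟨y, hy, rfl⟩ := Subgroup.mem_map.mp hx
    exact Subgroup.mem_map.mpr ⟨⟨g, hg⟩ * y * ⟨g, hg⟩⁻¹, hPMn.conj_mem y hy ⟨g, hg⟩, rfl⟩
  have hNP := key P hPM hPne hMNP
  have hsub : P.subgroupOf M = (PM : Subgroup M) := by
    rw [hPdef]
    exact Subgroup.comap_map_eq_self_of_injective (Subgroup.subtype_injective M) _
  have hidx : ¬ p ∣ P.index := by
    have h1 := Cfsg.Agent.Lib.Helper1.not_dvd_relIndex_of_not_dvd_relIndex_normalizer p ⊤ P
      le_top hPp (by
        rw [top_inf_eq, hNP, Subgroup.relIndex, hsub]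
        exact PM.not_dvd_index)
    rwa [Subgroup.relIndex_top_right] at h1
  let PG : Sylow p G := hPp.toSylow hidx
  have hPG : (PG : Subgroup G) = P := rfl
  have hZne : centerThompsonAOf P ≠ ⊥ :=
    Cfsg.Agent.Lib.Helper1.ZJ.centerThompsonAOf_ne_bot hPp hPne
  have hZle : centerThompsonAOf P ≤ P := Cfsg.Agent.Lib.Helper1.ZJ.centerThompsonAOf_le P
  have hNZ := key (centerThompsonAOf P) (hZle.trans hPM) hZne
    (hMNP.trans (Cfsg.Agent.Lib.Helper1.ZJ.normalizer_le_normalizer_centerThompsonAOf P))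
  have hnilN : Group.IsNilpotent
      ↥(Subgroup.normalizer (centerThompsonAOf (PG : Subgroup G) : Set G)) := by
    rw [hPG, hNZ]; exact hnil
  refine ⟨Cfsg.Agent.Lib.Helper1.NPC.hasNormalPComplement_of_normalizer_ZJA hp2 PG
    (hasNormalPComplement_of_isNilpotent hnilN p), ?_⟩
  intro hd
  apply hidx
  rw [← Subgroup.relIndex_mul_index hPM]
  exact Dvd.dvd.mul_left hd _

theorem isSolvable_of_corefree [Finite G] (M : Subgroup G) (hmax : IsCoatom M)
    (hnil : Group.IsNilpotent M) (hodd : Odd (Nat.card M))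
    (hcore : ∀ N : Subgroup G, N.Normal → N ≤ M → N = ⊥) : Group.IsSolvable G := by
  have hstep : ∀ q : ℕ, q.Prime → q ∣ Nat.card M →
      HasNormalPComplement q G ∧ ¬ q ∣ M.index := by
    intro q hq hqM
    haveI := Fact.mk hq
    have hq2 : q ≠ 2 := by
      rintro rfl
      exact (Nat.not_even_iff_odd.mpr hodd) (even_iff_two_dvd.mpr hqM)
    exact sylow_step M hmax hnil hcore q hq2 hqM
  have hHall : Nat.Coprime (Nat.card M) M.index :=
    Nat.coprime_of_dvd (fun q hq hqM => (hstep q hq hqM).2)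
  obtain ⟨K, hKn, hKc⟩ := Cfsg.Agent.Lib.Helper1.hall_normal_complement_of_forall_prime M hHall
    (fun q hq hqM => (hstep q hq hqM).1)
  haveI := hKn
  have hMsolv : Group.IsSolvable M := inferInstance
  have hKM : K ⊓ M = ⊥ := hKc.disjoint.eq_bot
  have hsup : M ⊔ K = ⊤ := by rw [sup_comm]; exact hKc.sup_eq_top
  have hcop : (Nat.card M).Coprime (Nat.card K) := by
    rw [← hKc.index_eq_card]
    exact hHall
  by_cases hK : K = ⊥
  · subst hK
    exact isSolvable_of_sup_normal M ⊥ hsup hMsolv inferInstance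
  · have hcard : Nat.card K ≠ 1 := by
      intro h; exact hK (Subgroup.card_eq_one.mp h)
    obtain ⟨q, hq, hqK⟩ := Nat.exists_prime_and_dvd hcard
    haveI := Fact.mk hq
    have hMK : M ≤ Subgroup.normalizer (K : Set G) := by
      rw [Subgroup.normalizer_eq_top_iff.mpr hKn]; exact le_top
    obtain ⟨Q₀, hQ₀⟩ := Cfsg.Agent.Lib.Helper1.coprime_exists_invariant_sylow M K hMK hcop
      (Or.inl hMsolv) q
    set Q : Subgroup G := (Q₀ : Subgroup K).map K.subtype with hQdef
    have hQK : Q ≤ K := Subgroup.map_subtype_le _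
    have hQp : IsPGroup q Q := Q₀.2.map _
    have hQne : Q ≠ ⊥ := by
      intro h
      rw [hQdef, Subgroup.map_eq_bot_iff_of_injective _ (Subgroup.subtype_injective K)] at h
      exact Sylow.ne_bot_of_dvd_card Q₀ hqK h
    have hQM : ¬ Q ≤ M := by
      intro h
      apply hQne
      rw [eq_bot_iff, ← hKM]
      exact le_inf hQK h
    have hlt : M < M ⊔ Q := by
      refine lt_of_le_of_ne le_sup_left ?_
      intro h
      exact hQM (h ▸ le_sup_right)
    have htop : M ⊔ Q = ⊤ := hmax.2 _ hlt
    have hQn : Q.Normal := by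
      rw [← Subgroup.normalizer_eq_top_iff, eq_top_iff, ← htop]
      exact sup_le hQ₀ Subgroup.le_normalizer
    haveI := hQn
    haveI hQnil : Group.IsNilpotent Q := hQp.isNilpotent
    exact isSolvable_of_sup_normal M Q htop hMsolv inferInstance

theorem isSolvable_of_nilpotent_odd_coatom [Finite G] (M : Subgroup G) (hmax : IsCoatom M)
    (hnil : Group.IsNilpotent M) (hodd : Odd (Nat.card M)) : Group.IsSolvable G := by
  set N := M.normalCore with hN
  haveI : N.Normal := Subgroup.normalCore_normal M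
  have hNM : N ≤ M := Subgroup.normalCore_le M
  set π := QuotientGroup.mk' N with hπdef
  have hπ : Function.Surjective π := QuotientGroup.mk'_surjective N
  have hker : π.ker ≤ M := by rw [hπdef, QuotientGroup.ker_mk']; exact hNM
  have hmax' : IsCoatom (M.map π) := Cfsg.Agent.Lib.Helper8.BG.isCoatom_map π hπ hmax hker
  have hnil' : Group.IsNilpotent (M.map π) := by
    haveI := hnil
    exact Group.nilpotent_of_surjective (π.subgroupMap M) (π.subgroupMap_surjective M)
  have hodd' : Odd (Nat.card (M.map π)) := Odd.of_dvd_nat hodd (Subgroup.card_map_dvd M π)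
  have hcore' : ∀ L : Subgroup (G ⧸ N), L.Normal → L ≤ M.map π → L = ⊥ := by
    intro L hL hLM
    have h1 : L.comap π ≤ M := by
      have := Subgroup.comap_mono (f := π) hLM
      rwa [Subgroup.comap_map_eq, sup_eq_left.mpr hker] at this
    haveI : (L.comap π).Normal := hL.comap π
    have h2 : L.comap π ≤ N := Subgroup.normal_le_normalCore.mpr h1
    rw [eq_bot_iff, ← Subgroup.map_comap_eq_self_of_surjective hπ L]
    intro x hx
    obtain ⟨g, hg, rfl⟩ := Subgroup.mem_map.mp hx
    rw [Subgroup.mem_bot]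
    exact (QuotientGroup.eq_one_iff g).mpr (h2 hg)
  haveI hsolvQ : Group.IsSolvable (G ⧸ N) :=
    isSolvable_of_corefree (M.map π) hmax' hnil' hodd' hcore'
  haveI : Group.IsSolvable M := inferInstance
  haveI : Group.IsSolvable N :=
    Group.isSolvable_of_isSolvable_injective (Subgroup.inclusion_injective hNM)
  exact Group.isSolvable_of_ker_le_range N.subtype π (by simp [hπdef])

end Cfsg.Agent.Lib.Helper8.NilMax
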