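import Mathlib

/-! Fixed-point-free automorphisms: basics. -/

set_option autoImplicit false
set_option linter.style.haveILetI false

namespace Cfsg.Agent.Lib.Helper8.FP4

variable {G : Type*} [Group G]

/-- fixed-point-free automorphism -/
def Fpf (σ : MulAut G) : Prop := ∀ g : G, σ g = g → g = 1

/-- `σ`-invariant subgroup -/
def Inv (σ : MulAut G) (H : Subgroup G) : Prop := ∀ x ∈ H, σ x ∈ H

theorem pow_succ_apply (σ : MulAut G) (k : ℕ) (g : G) : (σ ^ (k + 1)) g = σ ((σ ^ k) g) := by
  rw [pow_succ', MulAut.mul_apply]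

theorem sq_apply (σ : MulAut G) (g : G) : (σ ^ 2) g = σ (σ g) := by
  rw [pow_two, MulAut.mul_apply]

theorem Inv.pow {σ : MulAut G} {H : Subgroup G} (h : Inv σ H) (k : ℕ) : Inv (σ ^ k) H := by
  induction k with
  | zero => intro x hx; simpa using hx
  | succ k ih =>
    intro x hx
    rw [pow_succ_apply]
    exact h _ (ih x hx)

theorem Fpf.surj [Finite G] {σ : MulAut G} (h : Fpf σ) (g : G) : ∃ x : G, x⁻¹ * σ x = g := by
  have hinj : Function.Injective (fun x : G => x⁻¹ * σ x) := by
    intro x y hxy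
    have hxy' : x⁻¹ * σ x = y⁻¹ * σ y := hxy
    have h1 : σ (x * y⁻¹) = x * y⁻¹ := by
      rw [map_mul, map_inv]
      have : σ x = x * (y⁻¹ * σ y) := by rw [← hxy', mul_inv_cancel_left]
      rw [this]; group
    have := h _ h1
    exact mul_inv_eq_one.mp this
  exact (Finite.injective_iff_surjective.mp hinj) g

/-- restriction of an automorphism to an invariant subgroup -/
noncomputable def restrictAut [Finite G] (σ : MulAut G) (H : Subgroup G) (h : Inv σ H) :
    MulAut ↥H :=
  MulEquiv.ofBijective ((σ.toMonoidHom.comp H.subtype).codRestrict H (fun x => h x x.2))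
    (by
      have hinj : Function.Injective
          ((σ.toMonoidHom.comp H.subtype).codRestrict H (fun x => h x x.2)) := by
        intro x y hxy
        have := congrArg Subtype.val hxy
        exact Subtype.ext (σ.injective this)
      exact ⟨hinj, Finite.injective_iff_surjective.mp hinj⟩)

theorem restrictAut_apply_coe [Finite G] (σ : MulAut G) (H : Subgroup G) (h : Inv σ H) (x : ↥H) :
    ((restrictAut σ H h x : ↥H) : G) = σ (x : G) := rfl

theorem restrictAut_pow_apply_coe [Finite G] (σ : MulAut G) (H : Subgroup G) (h : Inv σ H)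
    (k : ℕ) (x : ↥H) : ((((restrictAut σ H h) ^ k) x : ↥H) : G) = (σ ^ k) (x : G) := by
  induction k with
  | zero => simp
  | succ k ih => rw [pow_succ_apply, pow_succ_apply, restrictAut_apply_coe, ih]

theorem restrictAut_pow_eq_one [Finite G] (σ : MulAut G) (H : Subgroup G) (h : Inv σ H)
    (k : ℕ) (hk : σ ^ k = 1) : (restrictAut σ H h) ^ k = 1 := by
  ext x
  rw [restrictAut_pow_apply_coe, hk]
  rfl

theorem Fpf.restrict [Finite G] {σ : MulAut G} (h : Fpf σ) (H : Subgroup G) (hH : Inv σ H) :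
    Fpf (restrictAut σ H hH) := by
  intro x hx
  have := congrArg Subtype.val hx
  rw [restrictAut_apply_coe] at this
  exact Subtype.ext (h _ this)

theorem Inv.map_eq [Finite G] {σ : MulAut G} {H : Subgroup G} (h : Inv σ H) :
    H.map (σ : G →* G) = H := by
  apply Subgroup.eq_of_le_of_card_ge
  · rintro _ ⟨x, hx, rfl⟩
    exact h x hx
  · rw [Subgroup.card_map_of_injective (f := (σ : G →* G)) σ.injective]

theorem Inv.exists_preimage [Finite G] {σ : MulAut G} {H : Subgroup G} (h : Inv σ H) {y : G}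
    (hy : y ∈ H) : ∃ x ∈ H, σ x = y := by
  have := h.map_eq
  rw [← this] at hy
  obtain ⟨x, hx, hxy⟩ := hy
  exact ⟨x, hx, hxy⟩

/-- induced automorphism of the quotient -/
noncomputable def quotAut [Finite G] (σ : MulAut G) (N : Subgroup G) [N.Normal] (h : Inv σ N) :
    MulAut (G ⧸ N) :=
  QuotientGroup.congr N N σ h.map_eq

theorem quotAut_mk [Finite G] (σ : MulAut G) (N : Subgroup G) [N.Normal] (h : Inv σ N) (g : G) :
    quotAut σ N h (g : G ⧸ N) = ((σ g : G) : G ⧸ N) := rfl

theorem quotAut_pow_mk [Finite G] (σ : MulAut G) (N : Subgroup G) [N.Normal] (h : Inv σ N)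
    (k : ℕ) (g : G) : ((quotAut σ N h) ^ k) (g : G ⧸ N) = (((σ ^ k) g : G) : G ⧸ N) := by
  induction k generalizing g with
  | zero => simp
  | succ k ih => rw [pow_succ_apply, ih, quotAut_mk, pow_succ_apply]

theorem quotAut_pow_eq_one [Finite G] (σ : MulAut G) (N : Subgroup G) [N.Normal] (h : Inv σ N)
    (k : ℕ) (hk : σ ^ k = 1) : (quotAut σ N h) ^ k = 1 := by
  ext x
  induction x using QuotientGroup.induction_on with
  | H g =>
    rw [quotAut_pow_mk, hk]
    rfl

theorem Fpf.quot [Finite G] {σ : MulAut G} (h : Fpf σ) (N : Subgroup G) [N.Normal]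
    (hN : Inv σ N) : Fpf (quotAut σ N hN) := by
  intro x hx
  induction x using QuotientGroup.induction_on with
  | H g =>
    rw [quotAut_mk, QuotientGroup.eq] at hx
    -- `(σ g)⁻¹ * g ∈ N`
    have h1 : g⁻¹ * σ g ∈ N := by
      have := N.inv_mem hx
      simpa using this
    obtain ⟨n, hn⟩ := (h.restrict N hN).surj ⟨g⁻¹ * σ g, h1⟩
    have hn' : (n : G)⁻¹ * σ (n : G) = g⁻¹ * σ g := by
      have := congrArg Subtype.val hn
      simpa [restrictAut_apply_coe] using this
    have h2 : σ (g * (n : G)⁻¹) = g * (n : G)⁻¹ := by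
      rw [map_mul, map_inv]
      have : σ g = g * ((n : G)⁻¹ * σ (n : G)) := by rw [hn', mul_inv_cancel_left]
      rw [this]; group
    have h3 := h _ h2
    have h4 : g = n := mul_inv_eq_one.mp h3
    rw [QuotientGroup.eq_one_iff, h4]
    exact n.2

theorem Fpf.inverts_of_sq [Finite G] {σ : MulAut G} (h : Fpf σ) (h2 : σ ^ 2 = 1) (x : G) :
    σ x = x⁻¹ := by
  obtain ⟨y, rfl⟩ := h.surj x
  have : σ (σ y) = y := by rw [← sq_apply, h2]; rfl
  rw [map_mul, map_inv, this, mul_inv_rev, inv_inv]

theorem Fpf.comm_of_sq [Finite G] {σ : MulAut G} (h : Fpf σ) (h2 : σ ^ 2 = 1) (x y : G) :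
    x * y = y * x := by
  have h1 := h.inverts_of_sq h2 (x * y)
  rw [map_mul, h.inverts_of_sq h2 x, h.inverts_of_sq h2 y, mul_inv_rev] at h1
  have := congrArg (fun t => t⁻¹) h1
  simpa using this.symm

theorem Fpf.odd_card [Finite G] {σ : MulAut G} (h : Fpf σ) (h4 : σ ^ 4 = 1) :
    Odd (Nat.card G) := by
  classical
  haveI := Fintype.ofFinite G
  haveI : Fact (Nat.Prime 2) := ⟨Nat.prime_two⟩
  let f : Function.End G := (σ : G → G)
  have hf : f ^ 2 ^ 2 = 1 := by
    have e : ∀ k : ℕ, ∀ g : G, (f ^ k) g = (σ ^ k) g := by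
      intro k
      induction k with
      | zero => intro g; rfl
      | succ k ih =>
        intro g
        rw [pow_succ', pow_succ_apply, ← ih g]
        rfl
    funext g
    have := e 4 g
    rw [h4] at this
    exact this
  have hmod := Equiv.Perm.card_fixedPoints_modEq (f := f) (p := 2) (n := 2) hf
  have hfix : Fintype.card (Function.fixedPoints f) = 1 := by
    rw [Fintype.card_eq_one_iff]
    refine ⟨⟨1, map_one σ⟩, fun y => ?_⟩
    exact Subtype.ext (h _ y.2)
  rw [hfix, ← Nat.card_eq_fintype_card] at hmod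
  rw [Nat.odd_iff]
  exact hmod

end Cfsg.Agent.Lib.Helper8.FP4
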