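import Cfsg.Agent.Lib.Helper8.FP4a

/-! Invariant Sylow subgroups, and a Frobenius-type lemma for a complement of order four. -/

set_option autoImplicit false
set_option linter.style.haveILetI false

namespace Cfsg.Agent.Lib.Helper8.FP4

open scoped Pointwise

variable {G : Type*} [Group G]

theorem mem_conj_sylow {q : ℕ} [Fact q.Prime] (S : Sylow q G) (x a : G) :
    a ∈ ((x • S : Sylow q G) : Subgroup G) ↔ x⁻¹ * a * x ∈ (S : Subgroup G) := by
  rw [Sylow.smul_def, Sylow.pointwise_smul_def, Subgroup.mem_pointwise_smul_iff_inv_smul_mem,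
    MulAut.smul_def, MulAut.conj_inv_apply]

theorem mem_aut_smul_sylow {q : ℕ} [Fact q.Prime] (S : Sylow q G) (σ : MulAut G) (a : G) :
    a ∈ ((σ • S : Sylow q G) : Subgroup G) ↔ σ⁻¹ a ∈ (S : Subgroup G) := by
  rw [Sylow.pointwise_smul_def, Subgroup.mem_pointwise_smul_iff_inv_smul_mem, MulAut.smul_def]

theorem Fpf.exists_inv_sylow [Finite G] {σ : MulAut G} (h : Fpf σ) (q : ℕ) [Fact q.Prime] :
    ∃ S : Sylow q G, Inv σ (S : Subgroup G) := by
  obtain ⟨S₀⟩ : Nonempty (Sylow q G) := inferInstance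
  obtain ⟨g, hg⟩ := MulAction.exists_smul_eq G (σ • S₀) S₀
  have h1 : ∀ y ∈ (S₀ : Subgroup G), g * σ y * g⁻¹ ∈ (S₀ : Subgroup G) := by
    intro y hy
    have h2 : σ y ∈ ((σ • S₀ : Sylow q G) : Subgroup G) := by
      rw [mem_aut_smul_sylow]
      simpa using hy
    have h3 : g * σ y * g⁻¹ ∈ ((g • (σ • S₀) : Sylow q G) : Subgroup G) := by
      rw [mem_conj_sylow]
      have : g⁻¹ * (g * σ y * g⁻¹) * g = σ y := by group
      rw [this]; exact h2
    rwa [hg] at h3
  obtain ⟨x, hx⟩ := h.surj g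
  refine ⟨x • S₀, ?_⟩
  intro a ha
  rw [mem_conj_sylow] at ha ⊢
  have h4 := h1 _ ha
  have e : x⁻¹ * σ a * x = g * σ (x⁻¹ * a * x) * g⁻¹ := by
    rw [← hx]
    simp only [map_mul, map_inv]
    group
  rw [e]; exact h4

/-- A Frobenius-type lemma: an abelian group `Q` of automorphisms of an abelian group `A` of
coprime order, normalised by a fixed-point-free automorphism `s` with `s ^ 4 = 1` whose square
inverts `Q`, is trivial. -/
theorem frob4 {A : Type*} [CommGroup A] [Finite A] (Q : Subgroup (MulAut A)) [Finite Q]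
    (s : MulAut A) (hs4 : s ^ 4 = 1) (hsfpf : ∀ a : A, s a = a → a = 1)
    (hnorm : ∀ u ∈ Q, s * u * s⁻¹ ∈ Q)
    (hinv : ∀ u ∈ Q, s ^ 2 * u * (s ^ 2)⁻¹ = u⁻¹)
    (hcomm : ∀ u ∈ Q, ∀ v ∈ Q, u * v = v * u)
    (hodd : ∀ u ∈ Q, u ^ 2 = 1 → u = 1)
    (hcop : (Nat.card A).Coprime (Nat.card Q)) : Q = ⊥ := by
  classical
  haveI : Fintype ↥Q := Fintype.ofFinite ↥Q
  -- the trace of `s` vanishes
  have hTs : ∀ b : A, b * s b * s (s b) * s (s (s b)) = 1 := by
    intro b
    apply hsfpf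
    have h4 : s (s (s (s b))) = b := by
      have := congrArg (fun t : MulAut A => t b) hs4
      simpa [pow_succ, MulAut.mul_apply] using this
    rw [map_mul, map_mul, map_mul, h4]
    rw [mul_comm (s b * s (s b) * s (s (s b))) b, ← mul_assoc, ← mul_assoc]
  -- conjugation by `s` on `Q`
  let γ : ↥Q → ↥Q := fun u => ⟨s * u * s⁻¹, hnorm u u.2⟩
  have hγinj : Function.Injective γ := by
    intro u v huv
    have : s * (u : MulAut A) * s⁻¹ = s * (v : MulAut A) * s⁻¹ := congrArg Subtype.val huv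
    exact Subtype.ext (mul_left_cancel (mul_right_cancel this))
  have hγbij : Function.Bijective γ := ⟨hγinj, Finite.injective_iff_surjective.mp hγinj⟩
  have hinv2 : ∀ t ∈ Q, s * (s * t * s⁻¹) * s⁻¹ = t⁻¹ := by
    intro t ht
    have := hinv t ht
    rw [pow_two, mul_inv_rev] at this
    simp only [mul_assoc] at this ⊢
    exact this
  have hγγ : ∀ u : ↥Q, s * (s * (u : MulAut A) * s⁻¹) * s⁻¹ = (u : MulAut A)⁻¹ :=
    fun u => hinv2 u u.2
  -- `w ↦ w⁻¹ * γ w` is injective
  let c : ↥Q → ↥Q := fun w => w⁻¹ * γ w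
  have hcinj : Function.Injective c := by
    intro w w' hww
    have h1 : (w : MulAut A)⁻¹ * (s * w * s⁻¹) = (w' : MulAut A)⁻¹ * (s * w' * s⁻¹) :=
      congrArg Subtype.val hww
    -- `t = w * w'⁻¹` is fixed by `γ`
    set t : MulAut A := (w : MulAut A) * (w' : MulAut A)⁻¹ with ht
    have htQ : t ∈ Q := Q.mul_mem w.2 (Q.inv_mem w'.2)
    have hfix : s * t * s⁻¹ = t := by
      have e1 : s * t * s⁻¹ = (s * w * s⁻¹) * (s * w' * s⁻¹)⁻¹ := by rw [ht]; group
      have e2 : s * (w : MulAut A) * s⁻¹ = w * ((w' : MulAut A)⁻¹ * (s * w' * s⁻¹)) := by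
        rw [← h1, mul_inv_cancel_left]
      rw [e1, e2, ht]; group
    have hsq : t ^ 2 = 1 := by
      have h2 := hinv2 t htQ
      rw [hfix, hfix] at h2
      calc t ^ 2 = t * t := pow_two t
        _ = t * t⁻¹ := by rw [← h2]
        _ = 1 := mul_inv_cancel t
    have ht1 := hodd t htQ hsq
    have : (w : MulAut A) = w' := by
      rw [ht] at ht1
      exact mul_inv_eq_one.mp ht1
    exact Subtype.ext this
  have hcsurj : Function.Surjective c := Finite.injective_iff_surjective.mp hcinj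
  -- `u ↦ u * γ u` is injective
  let ψ : ↥Q → ↥Q := fun u => u * γ u
  have hψinj : Function.Injective ψ := by
    intro w w' hww
    have h1 : (w : MulAut A) * (s * w * s⁻¹) = (w' : MulAut A) * (s * w' * s⁻¹) :=
      congrArg Subtype.val hww
    set t : MulAut A := (w : MulAut A) * (w' : MulAut A)⁻¹ with ht
    have htQ : t ∈ Q := Q.mul_mem w.2 (Q.inv_mem w'.2)
    have hc2 : (w : MulAut A)⁻¹ * (w' : MulAut A) = (w' : MulAut A) * (w : MulAut A)⁻¹ :=
      hcomm _ (Q.inv_mem w.2) _ w'.2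
    have hfix : s * t * s⁻¹ = t⁻¹ := by
      have e1 : s * t * s⁻¹ = (s * w * s⁻¹) * (s * w' * s⁻¹)⁻¹ := by rw [ht]; group
      have e2 : s * (w : MulAut A) * s⁻¹ = (w : MulAut A)⁻¹ * ((w' : MulAut A) * (s * w' * s⁻¹)) := by
        rw [← h1, inv_mul_cancel_left]
      calc s * t * s⁻¹ = (s * w * s⁻¹) * (s * w' * s⁻¹)⁻¹ := e1
        _ = (w : MulAut A)⁻¹ * (w' : MulAut A) := by rw [e2]; group
        _ = (w' : MulAut A) * (w : MulAut A)⁻¹ := hc2
        _ = t⁻¹ := by rw [ht]; group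
    have hsq : t ^ 2 = 1 := by
      have h2 := hinv2 t htQ
      have e4 : s * t⁻¹ * s⁻¹ = (s * t * s⁻¹)⁻¹ := by group
      rw [hfix, e4, hfix, inv_inv] at h2
      calc t ^ 2 = t * t := pow_two t
        _ = t * t⁻¹ := by rw [← h2]
        _ = 1 := mul_inv_cancel t
    have ht1 := hodd t htQ hsq
    have : (w : MulAut A) = w' := by
      rw [ht] at ht1
      exact mul_inv_eq_one.mp ht1
    exact Subtype.ext this
  have hψbij : Function.Bijective ψ := ⟨hψinj, Finite.injective_iff_surjective.mp hψinj⟩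
  -- the traces of the elements `u * s` vanish
  have hTus : ∀ u : ↥Q, ∀ a : A,
      a * (u * s : MulAut A) a * ((u * s : MulAut A) ^ 2) a * ((u * s : MulAut A) ^ 3) a = 1 := by
    intro u a
    obtain ⟨w, hw⟩ := hcsurj u
    have hw' : (u : MulAut A) = (w : MulAut A)⁻¹ * (s * w * s⁻¹) := (congrArg Subtype.val hw).symm
    have e1 : (u * s : MulAut A) = (w : MulAut A)⁻¹ * s * w := by rw [hw']; group
    have e2 : (u * s : MulAut A) ^ 2 = (w : MulAut A)⁻¹ * (s * s) * w := by
      rw [e1, pow_two]; group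
    have e3 : (u * s : MulAut A) ^ 3 = (w : MulAut A)⁻¹ * (s * s * s) * w := by
      rw [e1, pow_succ, pow_two]; group
    rw [e3, e2, e1]
    simp only [MulAut.mul_apply]
    have h5 := hTs ((w : MulAut A) a)
    have h6 := congrArg (fun t => (w : MulAut A)⁻¹ t) h5
    simp only [map_mul, map_one, MulAut.inv_apply_self] at h6
    exact h6
  -- the norm
  let N : A → A := fun b => ∏ u : ↥Q, (u : MulAut A) b
  have hNmul : ∀ b b' : A, N (b * b') = N b * N b' := by
    intro b b'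
    change ∏ u : ↥Q, (u : MulAut A) (b * b') = _
    simp only [map_mul]
    exact Finset.prod_mul_distrib
  have hNone : N 1 = 1 := by
    change ∏ u : ↥Q, (u : MulAut A) 1 = 1
    simp
  have hNfix : ∀ v ∈ Q, ∀ b : A, v (N b) = N b := by
    intro v hv b
    change v (∏ u : ↥Q, (u : MulAut A) b) = ∏ u : ↥Q, (u : MulAut A) b
    rw [map_prod]
    exact Fintype.prod_equiv (Equiv.mulLeft (⟨v, hv⟩ : ↥Q)) _ _ (fun u => rfl)
  have key : ∀ a : A, a ^ Nat.card ↥Q = N a := by
    intro a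
    have h1 : ∏ u : ↥Q, (a * (u * s : MulAut A) a * ((u * s : MulAut A) ^ 2) a *
        ((u * s : MulAut A) ^ 3) a) = 1 := Finset.prod_eq_one (fun u _ => hTus u a)
    rw [Finset.prod_mul_distrib, Finset.prod_mul_distrib, Finset.prod_mul_distrib,
      Finset.prod_const, Finset.card_univ, ← Nat.card_eq_fintype_card] at h1
    have p1 : ∏ u : ↥Q, (u * s : MulAut A) a = N (s a) := rfl
    have p2 : ∏ u : ↥Q, ((u * s : MulAut A) ^ 2) a = N (s (s a)) := by
      have e : ∀ u : ↥Q, ((u * s : MulAut A) ^ 2) a = ((ψ u : ↥Q) : MulAut A) (s (s a)) := by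
        intro u
        have : (u * s : MulAut A) ^ 2 = (u : MulAut A) * (s * u * s⁻¹) * (s * s) := by
          rw [pow_two]; group
        rw [this]; rfl
      simp only [e]
      exact hψbij.prod_comp (fun u : ↥Q => (u : MulAut A) (s (s a)))
    have p3 : ∏ u : ↥Q, ((u * s : MulAut A) ^ 3) a = N (s (s (s a))) := by
      have e : ∀ u : ↥Q, ((u * s : MulAut A) ^ 3) a = ((γ u : ↥Q) : MulAut A) (s (s (s a))) := by
        intro u
        have hcm : (u : MulAut A) * (s * u * s⁻¹) = (s * u * s⁻¹) * u :=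
          hcomm _ u.2 _ (hnorm _ u.2)
        have e0 : (u * s : MulAut A) ^ 3 =
            (u : MulAut A) * (s * u * s⁻¹) * (s * (s * u * s⁻¹) * s⁻¹) * (s * s * s) := by
          rw [pow_succ, pow_two]; group
        rw [e0, hγγ u, hcm]
        have : (s * (u : MulAut A) * s⁻¹) * u * (u : MulAut A)⁻¹ * (s * s * s) =
            (s * (u : MulAut A) * s⁻¹) * (s * s * s) := by group
        rw [this]; rfl
      simp only [e]
      exact hγbij.prod_comp (fun u : ↥Q => (u : MulAut A) (s (s (s a))))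
    rw [p1, p2, p3] at h1
    have h2 : N a * N (s a) * N (s (s a)) * N (s (s (s a))) = 1 := by
      rw [← hNmul, ← hNmul, ← hNmul, hTs a, hNone]
    have h3 : a ^ Nat.card ↥Q * (N (s a) * N (s (s a)) * N (s (s (s a)))) =
        N a * (N (s a) * N (s (s a)) * N (s (s (s a)))) := by
      rw [← mul_assoc, ← mul_assoc, ← mul_assoc, ← mul_assoc, h1, h2]
    exact mul_right_cancel h3
  -- conclusion
  rw [Subgroup.eq_bot_iff_forall]
  intro v hv
  ext a
  change v a = a
  have h1 : v (a ^ Nat.card ↥Q) = a ^ Nat.card ↥Q := by rw [key a]; exact hNfix v hv a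
  rw [map_pow] at h1
  have h2 : (v a * a⁻¹) ^ Nat.card ↥Q = 1 := by
    rw [mul_pow, h1, inv_pow, mul_inv_cancel]
  have h3 : orderOf (v a * a⁻¹) ∣ Nat.card ↥Q := orderOf_dvd_of_pow_eq_one h2
  have h4 : orderOf (v a * a⁻¹) ∣ Nat.card A := orderOf_dvd_natCard _
  have h5 : orderOf (v a * a⁻¹) ∣ 1 := by
    have := Nat.dvd_gcd h4 h3
    rwa [hcop] at this
  have h6 : v a * a⁻¹ = 1 := orderOf_eq_one_iff.mp (Nat.dvd_one.mp h5)
  exact mul_inv_eq_one.mp h6

end Cfsg.Agent.Lib.Helper8.FP4
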