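import Cfsg.Agent.Lib.Helper8.HT4

/-! The Hughes subgroup: an abelian minimal normal subgroup of `G` inside `H` is central in `H`. -/

set_option autoImplicit false
set_option linter.style.haveILetI false

namespace Cfsg.Agent.Lib.Helper8.HT

open scoped IsMulCommutative
open Cfsg.Agent.Lib.Helper1 Cfsg.Agent.Lib.Helper3

variable {G : Type*} [Group G]

/-- the `r`-torsion of an abelian normal subgroup -/
def torsionSub (N : Subgroup G) [IsMulCommutative ↥N] (r : ℕ) : Subgroup G where
  carrier := {n | n ∈ N ∧ n ^ r = 1}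
  one_mem' := ⟨N.one_mem, one_pow r⟩
  mul_mem' := by
    rintro a b ⟨ha, ha'⟩ ⟨hb, hb'⟩
    refine ⟨N.mul_mem ha hb, ?_⟩
    have hc : Commute a b := by
      have := mul_comm (⟨a, ha⟩ : ↥N) ⟨b, hb⟩
      exact congrArg Subtype.val this
    rw [hc.mul_pow, ha', hb', one_mul]
  inv_mem' := by
    rintro a ⟨ha, ha'⟩
    exact ⟨N.inv_mem ha, by rw [inv_pow, ha', inv_one]⟩

theorem mem_torsionSub (N : Subgroup G) [IsMulCommutative ↥N] (r : ℕ) (n : G) :
    n ∈ torsionSub N r ↔ n ∈ N ∧ n ^ r = 1 := Iff.rfl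

instance torsionSub_normal (N : Subgroup G) [hN : N.Normal] [IsMulCommutative ↥N] (r : ℕ) :
    (torsionSub N r).Normal := by
  refine ⟨fun n hn g => ?_⟩
  rw [mem_torsionSub] at hn ⊢
  refine ⟨hN.conj_mem n hn.1 g, ?_⟩
  rw [conj_pow, hn.2, mul_one, mul_inv_cancel]

theorem sylow_sup_eq_top_of_index_pow {X : Type*} [Group X] [Finite X] {r : ℕ}
    [hr : Fact r.Prime] (R : Sylow r X) (K : Subgroup X) {m : ℕ} (hK : K.index = r ^ m) :
    (R : Subgroup X) ⊔ K = ⊤ := by
  have h1 : ((R : Subgroup X) ⊔ K).index ∣ (R : Subgroup X).index :=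
    Subgroup.index_dvd_of_le le_sup_left
  have h2 : ((R : Subgroup X) ⊔ K).index ∣ r ^ m := by
    rw [← hK]; exact Subgroup.index_dvd_of_le le_sup_right
  obtain ⟨j, _, hj⟩ := (Nat.dvd_prime_pow hr.out).mp h2
  rcases Nat.eq_zero_or_pos j with h0 | hpos
  · rw [h0, pow_zero] at hj
    exact Subgroup.index_eq_one.mp hj
  · exfalso
    apply R.not_dvd_index
    refine dvd_trans ?_ h1
    rw [hj]
    exact dvd_pow_self r (by omega)

theorem central_of_abelian_minimal {p : ℕ} [hp : Fact p.Prime] [Finite G] {H : Subgroup G}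
    (hyp : Hyp p H) (N : Subgroup G) [hNn : N.Normal] [IsMulCommutative ↥N] (hNH : N ≤ H)
    (hNne : N ≠ ⊥)
    (hmin : ∀ M : Subgroup G, M.Normal → M ≤ N → M ≠ ⊥ → M = N) :
    N ≤ Subgroup.centralizer (H : Set G) := by
  classical
  haveI := hyp.normal
  -- `N` has exponent `r`
  haveI hNnt : Nontrivial ↥N := (Subgroup.nontrivial_iff_ne_bot N).mpr hNne
  have hcard1 : Nat.card ↥N ≠ 1 := by
    intro h
    have := (Nat.card_eq_one_iff_unique.mp h).1
    exact not_subsingleton ↥N this
  obtain ⟨r, hr, hrdvd⟩ := Nat.exists_prime_and_dvd hcard1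
  haveI : Fact r.Prime := ⟨hr⟩
  have hexp : ∀ n ∈ N, n ^ r = 1 := by
    have hM : torsionSub N r = N := by
      apply hmin _ inferInstance (fun n hn => ((mem_torsionSub N r n).mp hn).1)
      obtain ⟨x, hx⟩ := exists_prime_orderOf_dvd_card' r hrdvd
      intro hbot
      have hxm : (x : G) ∈ torsionSub N r := by
        refine ⟨x.2, ?_⟩
        have : x ^ r = 1 := by rw [← hx]; exact pow_orderOf_eq_one x
        have := congrArg Subtype.val this
        rwa [Subgroup.coe_pow] at this
      rw [hbot] at hxm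
      have hx1 : x = 1 := Subtype.ext (Subgroup.mem_bot.mp hxm)
      rw [hx1, orderOf_one] at hx
      exact hr.one_lt.ne hx
    intro n hn
    rw [← hM] at hn
    exact hn.2
  have hNr : IsPGroup r ↥N := by
    intro n
    refine ⟨1, ?_⟩
    rw [pow_one]
    exact Subtype.ext (by rw [Subgroup.coe_pow, hexp n n.2]; rfl)
  obtain ⟨k, hk⟩ := IsPGroup.iff_card.mp hNr
  -- Sylow `q`-subgroups of `H` for `q ≠ r` centralise `N`
  have claim1 : ∀ q : ℕ, ∀ _ : Fact q.Prime, q ≠ r → ∀ Q : Sylow q ↥H,
      (Q : Subgroup ↥H).map H.subtype ≤ Subgroup.centralizer (N : Set G) := by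
    intro q hq hqr Q
    have hT : IsPGroup q ↥((Q : Subgroup ↥H).map H.subtype) := Q.isPGroup'.map _
    have hTH : (Q : Subgroup ↥H).map H.subtype ≤ H := by
      rintro _ ⟨x, _, rfl⟩
      exact x.2
    by_cases hqp : q = p
    · subst hqp
      obtain ⟨S, hS⟩ := hT.exists_le_sylow
      have hcop : (Nat.card ↥N).Coprime q := by
        rw [hk]
        exact ((Nat.coprime_primes hr hq.out).mpr (Ne.symm hqr)).pow_left k
      exact (le_inf hS hTH).trans (local_index hyp N hNH hcop S).1
    · have hfr := Sylow.normalizer_sup_eq_top Q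
      obtain ⟨x, hxn, hxH⟩ : ∃ x ∈ Subgroup.normalizer
          (((Q : Subgroup ↥H).map H.subtype : Subgroup G) : Set G), x ∉ H := by
        by_contra hcon
        push Not at hcon
        have hle : Subgroup.normalizer
          (((Q : Subgroup ↥H).map H.subtype : Subgroup G) : Set G) ≤ H := hcon
        rw [sup_of_le_right hle] at hfr
        exact hyp.ne_top hfr
      have hux : ∀ u ∈ (Q : Subgroup ↥H).map H.subtype, u * x ∉ H := by
        intro u hu hmem
        apply hxH
        have := H.mul_mem (H.inv_mem (hTH hu)) hmem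
        simpa using this
      have hcop : (Nat.card ↥N).Coprime (Nat.card ↥((Q : Subgroup ↥H).map H.subtype)) := by
        obtain ⟨m, hm⟩ := IsPGroup.iff_card.mp hT
        rw [hk, hm]
        exact Nat.Coprime.pow k m ((Nat.coprime_primes hr hq.out).mpr (Ne.symm hqr))
      have hfl := frob_lemma (MulAut.conjNormal : G →* MulAut ↥N)
        ((Q : Subgroup ↥H).map H.subtype) x hxn (p := p)
        (fun u hu => hyp.out _ (hux u hu))
        (fun u hu n => hyp.trace N hNH (hux u hu) n) hcop
      intro v hv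
      rw [Subgroup.mem_centralizer_iff]
      intro n hn
      have h1 := hfl v hv ⟨n, hn⟩
      have h2 : v * n * v⁻¹ = n := by
        have := congrArg Subtype.val h1
        rwa [MulAut.conjNormal_apply] at this
      calc n * v = v * n * v⁻¹ * v := by rw [h2]
        _ = v * n := by group
  -- the index of `C_H(N)` in `H` is a power of `r`
  set K : Subgroup ↥H := (Subgroup.centralizer (N : Set G)).subgroupOf H with hK
  have hKidx : ∃ m, K.index = r ^ m := by
    refine ⟨_, Nat.eq_prime_pow_of_unique_prime_dvd (n := K.index) (p := r)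
      Subgroup.index_ne_zero_of_finite (fun {q} hq hqdvd => ?_)⟩
    by_contra hqr
    haveI : Fact q.Prime := ⟨hq⟩
    obtain ⟨Q⟩ : Nonempty (Sylow q ↥H) := inferInstance
    have hQK : (Q : Subgroup ↥H) ≤ K := by
      intro x hx
      rw [hK, Subgroup.mem_subgroupOf]
      exact claim1 q ⟨hq⟩ hqr Q (Subgroup.mem_map_of_mem H.subtype hx)
    exact Q.not_dvd_index (dvd_trans hqdvd (Subgroup.index_dvd_of_le hQK))
  obtain ⟨m, hm⟩ := hKidx
  obtain ⟨R⟩ : Nonempty (Sylow r ↥H) := inferInstance
  have hRK : (R : Subgroup ↥H) ⊔ K = ⊤ := sylow_sup_eq_top_of_index_pow R K hm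
  -- a fixed point
  have hR'' : IsPGroup r ↥((R : Subgroup ↥H).map H.subtype) := R.isPGroup'.map _
  have hnorm : (R : Subgroup ↥H).map H.subtype ≤ Subgroup.normalizer (N : Set G) := by
    rw [Subgroup.normalizer_eq_top]
    exact le_top
  have hfix := inf_centralizer_ne_bot_of_isPGroup r hNr hR'' hnorm hNne
  obtain ⟨z, hz, hz1⟩ : ∃ z ∈ N ⊓ Subgroup.centralizer
      (((R : Subgroup ↥H).map H.subtype : Subgroup G) : Set G), z ≠ 1 := by
    by_contra hcon
    push Not at hcon
    exact hfix ((Subgroup.eq_bot_iff_forall _).mpr hcon)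
  have hzH : z ∈ Subgroup.centralizer (H : Set G) := by
    set Cz : Subgroup ↥H := (Subgroup.centralizer ({z} : Set G)).subgroupOf H with hCz
    have h1 : (R : Subgroup ↥H) ≤ Cz := by
      intro x hx
      rw [hCz, Subgroup.mem_subgroupOf, Subgroup.mem_centralizer_iff]
      intro y hy
      rw [Set.mem_singleton_iff] at hy
      subst hy
      have := Subgroup.mem_centralizer_iff.mp hz.2 (x : G) (Subgroup.mem_map_of_mem H.subtype hx)
      exact this.symm
    have h2 : K ≤ Cz := by
      intro x hx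
      rw [hCz, Subgroup.mem_subgroupOf, Subgroup.mem_centralizer_iff]
      intro y hy
      rw [Set.mem_singleton_iff] at hy
      subst hy
      rw [hK, Subgroup.mem_subgroupOf] at hx
      exact Subgroup.mem_centralizer_iff.mp hx y hz.1
    have h3 : Cz = ⊤ := top_le_iff.mp (hRK ▸ sup_le h1 h2)
    rw [Subgroup.mem_centralizer_iff]
    intro h hh
    have h4 : (⟨h, hh⟩ : ↥H) ∈ Cz := by rw [h3]; exact Subgroup.mem_top _
    rw [hCz, Subgroup.mem_subgroupOf, Subgroup.mem_centralizer_iff] at h4
    exact (h4 z rfl).symm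
  have hZ₁ : N ⊓ Subgroup.centralizer (H : Set G) = N := by
    apply hmin _ inferInstance inf_le_left
    intro hbot
    have : z ∈ N ⊓ Subgroup.centralizer (H : Set G) := ⟨hz.1, hzH⟩
    rw [hbot] at this
    exact hz1 (Subgroup.mem_bot.mp this)
  rw [← hZ₁]
  exact inf_le_right

end Cfsg.Agent.Lib.Helper8.HT
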