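import Cfsg.Agent.Lib.Helper8.FP4b
import Cfsg.Agent.Lib.Helper8.HT5

/-! Tools for the theorem on fixed-point-free automorphisms of order four. -/

set_option autoImplicit false
set_option linter.style.haveILetI false

namespace Cfsg.Agent.Lib.Helper8.FP4

open scoped IsMulCommutative
open Cfsg.Agent.Lib.Helper8.HT

variable {G : Type*} [Group G]

theorem finite_mulAut (A : Type*) [Group A] [Finite A] : Finite (MulAut A) :=
  Finite.of_injective (fun e : MulAut A => (e : A → A))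
    (fun e f h => MulEquiv.ext (fun a => congrFun h a))

theorem nilp_of_inj {K L : Type*} [Group K] [Group L] (hL : Group.IsNilpotent L)
    (f : K →* L) (hf : Function.Injective f) : Group.IsNilpotent K :=
  haveI := hL
  Subgroup.isNilpotent_of_ker_le_center f
    (by rw [(MonoidHom.ker_eq_bot_iff f).mpr hf]; exact bot_le)

theorem map_commutator_mk (N : Subgroup G) [N.Normal] :
    (commutator G).map (QuotientGroup.mk' N) = commutator (G ⧸ N) := by
  rw [commutator_def, commutator_def, Subgroup.map_commutator,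
    Subgroup.map_top_of_surjective (QuotientGroup.mk' N) (QuotientGroup.mk'_surjective N)]

theorem nilpotent_comm_of_inf_eq_bot (N₁ N₂ : Subgroup G) [N₁.Normal] [N₂.Normal]
    (h : N₁ ⊓ N₂ = ⊥) (h1 : Group.IsNilpotent ↥(commutator (G ⧸ N₁)))
    (h2 : Group.IsNilpotent ↥(commutator (G ⧸ N₂))) : Group.IsNilpotent ↥(commutator G) := by
  have hm : ∀ (N : Subgroup G) [N.Normal] (x : ↥(commutator G)),
      (QuotientGroup.mk' N).comp (commutator G).subtype x ∈ commutator (G ⧸ N) := by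
    intro N _ x
    rw [← map_commutator_mk N]
    exact Subgroup.mem_map_of_mem _ x.2
  let f₁ : ↥(commutator G) →* ↥(commutator (G ⧸ N₁)) :=
    ((QuotientGroup.mk' N₁).comp (commutator G).subtype).codRestrict _ (hm N₁)
  let f₂ : ↥(commutator G) →* ↥(commutator (G ⧸ N₂)) :=
    ((QuotientGroup.mk' N₂).comp (commutator G).subtype).codRestrict _ (hm N₂)
  haveI := h1
  haveI := h2
  apply nilp_of_inj (inferInstance : Group.IsNilpotent
    (↥(commutator (G ⧸ N₁)) × ↥(commutator (G ⧸ N₂)))) (f₁.prod f₂)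
  rw [injective_iff_map_eq_one]
  intro x hx
  have hx1 : f₁ x = 1 := congrArg Prod.fst hx
  have hx2 : f₂ x = 1 := congrArg Prod.snd hx
  have e1 : (QuotientGroup.mk' N₁) (x : G) = 1 := congrArg Subtype.val hx1
  have e2 : (QuotientGroup.mk' N₂) (x : G) = 1 := congrArg Subtype.val hx2
  rw [QuotientGroup.mk'_apply, QuotientGroup.eq_one_iff] at e1 e2
  have : (x : G) ∈ N₁ ⊓ N₂ := ⟨e1, e2⟩
  rw [h] at this
  exact Subtype.ext (Subgroup.mem_bot.mp this)

theorem exists_min_inv_normal [Finite G] (σ : MulAut G) (N : Subgroup G) (hNn : N.Normal)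
    (hN : Inv σ N) (hne : N ≠ ⊥) :
    ∃ V : Subgroup G, V.Normal ∧ Inv σ V ∧ V ≠ ⊥ ∧ V ≤ N ∧
      ∀ M : Subgroup G, M.Normal → Inv σ M → M ≤ V → M ≠ ⊥ → M = V := by
  classical
  have hS : ∃ k, ∃ V : Subgroup G, V.Normal ∧ Inv σ V ∧ V ≠ ⊥ ∧ V ≤ N ∧ Nat.card ↥V = k :=
    ⟨_, N, hNn, hN, hne, le_rfl, rfl⟩
  obtain ⟨V, hVn, hVi, hVne, hVN, hVc⟩ := Nat.find_spec hS
  refine ⟨V, hVn, hVi, hVne, hVN, ?_⟩
  intro M hMn hMi hMV hMne
  apply Subgroup.eq_of_le_of_card_ge hMV
  rw [hVc]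
  exact Nat.find_min' hS ⟨M, hMn, hMi, hMne, hMV.trans hVN, rfl⟩

theorem Inv.commutator {σ : MulAut G} {H K : Subgroup G} (hH : Inv σ H) (hK : Inv σ K) :
    Inv σ ⁅H, K⁆ := by
  intro x hx
  have h1 : (σ : G →* G) x ∈ (⁅H, K⁆).map (σ : G →* G) := Subgroup.mem_map_of_mem _ hx
  rw [Subgroup.map_commutator] at h1
  refine Subgroup.commutator_mono ?_ ?_ h1
  · rintro _ ⟨y, hy, rfl⟩
    exact hH y hy
  · rintro _ ⟨y, hy, rfl⟩
    exact hK y hy

theorem min_inv_normal_comm [Finite G] (hG : Group.IsSolvable G) (σ : MulAut G)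
    (V : Subgroup G) [hVn : V.Normal] (hV : Inv σ V) (hne : V ≠ ⊥)
    (hmin : ∀ M : Subgroup G, M.Normal → Inv σ M → M ≤ V → M ≠ ⊥ → M = V) :
    IsMulCommutative ↥V := by
  have hlt : ⁅V, V⁆ < V := Group.IsSolvable.commutator_lt_of_ne_bot hne
  have hbot : ⁅V, V⁆ = ⊥ := by
    by_contra hcon
    exact hlt.ne (hmin _ inferInstance (hV.commutator hV) hlt.le hcon)
  rw [Subgroup.commutator_eq_bot_iff_le_centralizer] at hbot
  refine ⟨⟨fun a b => ?_⟩⟩
  have := Subgroup.mem_centralizer_iff.mp (hbot a.2) b b.2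
  exact Subtype.ext this.symm

theorem min_inv_normal_exp [Finite G] (σ : MulAut G)
    (V : Subgroup G) [hVn : V.Normal] [IsMulCommutative ↥V] (hV : Inv σ V) (hne : V ≠ ⊥)
    (hmin : ∀ M : Subgroup G, M.Normal → Inv σ M → M ≤ V → M ≠ ⊥ → M = V) :
    ∃ p : ℕ, p.Prime ∧ ∀ v ∈ V, v ^ p = 1 := by
  haveI hVnt : Nontrivial ↥V := (Subgroup.nontrivial_iff_ne_bot V).mpr hne
  have hcard1 : Nat.card ↥V ≠ 1 := by
    intro h
    have := (Nat.card_eq_one_iff_unique.mp h).1
    exact not_subsingleton ↥V this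
  obtain ⟨r, hr, hrdvd⟩ := Nat.exists_prime_and_dvd hcard1
  haveI : Fact r.Prime := ⟨hr⟩
  refine ⟨r, hr, ?_⟩
  have hM : torsionSub V r = V := by
    apply hmin _ inferInstance ?_ (fun n hn => ((mem_torsionSub V r n).mp hn).1)
    · obtain ⟨x, hx⟩ := exists_prime_orderOf_dvd_card' r hrdvd
      intro hbot
      have hxm : (x : G) ∈ torsionSub V r := by
        refine ⟨x.2, ?_⟩
        have : x ^ r = 1 := by rw [← hx]; exact pow_orderOf_eq_one x
        have := congrArg Subtype.val this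
        rwa [Subgroup.coe_pow] at this
      rw [hbot] at hxm
      have hx1 : x = 1 := Subtype.ext (Subgroup.mem_bot.mp hxm)
      rw [hx1, orderOf_one] at hx
      exact hr.one_lt.ne hx
    · intro x hx
      rw [mem_torsionSub] at hx ⊢
      exact ⟨hV x hx.1, by rw [← map_pow, hx.2, map_one]⟩
  intro n hn
  rw [← hM] at hn
  exact hn.2

/-- the `q`-part of a nilpotent normal subgroup -/
theorem exists_qpart [Finite G] (K : Subgroup G) (hK : Group.IsNilpotent ↥K) (q : ℕ)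
    [hq : Fact q.Prime] (hqd : q ∣ Nat.card ↥K) :
    ∃ T : Subgroup G, T ≠ ⊥ ∧ T ≤ K ∧ IsPGroup q ↥T ∧
      ∀ x : G, x ∈ T ↔ x ∈ K ∧ ∃ k : ℕ, x ^ q ^ k = 1 := by
  haveI := hK
  obtain ⟨S⟩ : Nonempty (Sylow q ↥K) := inferInstance
  haveI : (S : Subgroup ↥K).Normal := inferInstance
  have hSne : (S : Subgroup ↥K) ≠ ⊥ := S.ne_bot_of_dvd_card hqd
  refine ⟨(S : Subgroup ↥K).map K.subtype, ?_, ?_, S.isPGroup'.map _, ?_⟩
  · intro h
    exact hSne ((Subgroup.map_eq_bot_iff_of_injective _ (Subgroup.subtype_injective K)).mp h)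
  · rintro _ ⟨x, _, rfl⟩
    exact x.2
  · intro x
    constructor
    · rintro ⟨y, hy, rfl⟩
      refine ⟨y.2, ?_⟩
      obtain ⟨k, hk⟩ := S.isPGroup' ⟨y, hy⟩
      refine ⟨k, ?_⟩
      have := congrArg Subtype.val (congrArg Subtype.val hk)
      simpa using this
    · rintro ⟨hxK, k, hk⟩
      have hz : IsPGroup q ↥(Subgroup.zpowers (⟨x, hxK⟩ : ↥K)) := by
        rw [IsPGroup.iff_orderOf]
        rintro ⟨y, hy⟩
        obtain ⟨j, rfl⟩ := Subgroup.mem_zpowers_iff.mp hy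
        have h1 : (⟨x, hxK⟩ : ↥K) ^ q ^ k = 1 := Subtype.ext (by simpa using hk)
        have h2 : ((⟨(⟨x, hxK⟩ : ↥K) ^ j, hy⟩ : ↥(Subgroup.zpowers (⟨x, hxK⟩ : ↥K))) ^ q ^ k) = 1 := by
          apply Subtype.ext
          change ((⟨x, hxK⟩ : ↥K) ^ j) ^ q ^ k = 1
          rw [← zpow_natCast, ← zpow_mul, mul_comm, zpow_mul, zpow_natCast, h1, one_zpow]
        obtain ⟨m, _, hm⟩ := (Nat.dvd_prime_pow hq.out).mp (orderOf_dvd_of_pow_eq_one h2)
        exact ⟨m, hm⟩
      obtain ⟨S', hS'⟩ := hz.exists_le_sylow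
      obtain ⟨g, hg⟩ := MulAction.exists_smul_eq ↥K S S'
      rw [Sylow.smul_eq_of_normal] at hg
      have : (⟨x, hxK⟩ : ↥K) ∈ (S : Subgroup ↥K) := by
        rw [hg]; exact hS' (Subgroup.mem_zpowers _)
      exact ⟨⟨x, hxK⟩, this, rfl⟩

theorem Inv.centralizer [Finite G] {σ : MulAut G} {N : Subgroup G} (hN : Inv σ N) :
    Inv σ (Subgroup.centralizer (N : Set G)) := by
  intro x hx
  rw [Subgroup.mem_centralizer_iff] at hx ⊢
  intro v hv
  obtain ⟨v', hv', rfl⟩ := hN.exists_preimage hv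
  rw [← map_mul, ← map_mul, hx v' hv']

theorem Inv.inf {σ : MulAut G} {H K : Subgroup G} (hH : Inv σ H) (hK : Inv σ K) :
    Inv σ (H ⊓ K) := fun x hx => ⟨hH x hx.1, hK x hx.2⟩

/-- fixed points of `σ ^ 2` commute, if `σ` is fixed-point-free -/
theorem fix_comm [Finite G] {σ : MulAut G} (h : Fpf σ) (x y : G) (hx : σ (σ x) = x)
    (hy : σ (σ y) = y) : x * y = y * x := by
  let F : Subgroup G :=
    { carrier := {g | σ (σ g) = g}
      one_mem' := by simp
      mul_mem' := by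
        intro a b ha hb
        change σ (σ (a * b)) = a * b
        rw [map_mul, map_mul, ha, hb]
      inv_mem' := by
        intro a ha
        change σ (σ a⁻¹) = a⁻¹
        rw [map_inv, map_inv, ha] }
  have hF : Inv σ F := by
    intro g hg
    change σ (σ (σ g)) = σ g
    rw [hg]
  have h2 : (restrictAut σ F hF) ^ 2 = 1 := by
    ext g
    rw [restrictAut_pow_apply_coe, sq_apply]
    exact g.2
  have := (h.restrict F hF).comm_of_sq h2 ⟨x, hx⟩ ⟨y, hy⟩
  exact congrArg Subtype.val this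

theorem conj_restrict [Finite G] (σ : MulAut G) (V : Subgroup G) [V.Normal] (hV : Inv σ V)
    (x : G) :
    restrictAut σ V hV * (MulAut.conjNormal x : MulAut ↥V) * (restrictAut σ V hV)⁻¹ =
      (MulAut.conjNormal (σ x) : MulAut ↥V) := by
  ext v
  rw [MulAut.mul_apply, MulAut.mul_apply, restrictAut_apply_coe, MulAut.conjNormal_apply,
    MulAut.conjNormal_apply, map_mul, map_mul, map_inv]
  have : σ (((restrictAut σ V hV)⁻¹ v : ↥V) : G) = v := by
    rw [← restrictAut_apply_coe σ V hV, MulAut.apply_inv_self]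
  rw [this]

end Cfsg.Agent.Lib.Helper8.FP4
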