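import Mathlib
import Cfsg.Agent.Lib.Helper8.GlauC3

/-! The Glauberman map and the class map as explicit functions. -/
set_option autoImplicit false

namespace Cfsg.Agent.Lib.Helper8.GlauP

open MulAction Cfsg.Agent.Lib.Helper6
open scoped ComplexConjugate

variable {p : ℕ} {M : Ideal Cfsg.AlgInt}
variable {G C T : Type*} [Group G] [Group C] [Group T]

namespace PAct

variable (A : PAct p G C T)

/-- the Glauberman correspondent (only meaningful for invariant characters) -/
noncomputable def glau [Fintype G] [Fintype C] (χ : Cfsg.IrrCharacter G) : Cfsg.IrrCharacter C :=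
  Classical.choose (A.exists_beta χ)

theorem glau_spec [Fintype G] [Fintype C] (χ : Cfsg.IrrCharacter G) :
    ¬ p ∣ A.mult (χ : G → ℂ) (A.glau χ : C → ℂ) :=
  Classical.choose_spec (A.exists_beta χ)

theorem glau_eq_iff [Fintype G] [Fintype C] [Finite T] (hM : Cfsg.IsPModular p M)
    (χ : Cfsg.IrrCharacter G) (hχ : A.Inv (χ : G → ℂ)) (β : Cfsg.IrrCharacter C) :
    A.glau χ = β ↔ ¬ p ∣ A.mult (χ : G → ℂ) (β : C → ℂ) := by
  constructor
  · rintro rfl
    exact A.glau_spec χ
  · intro h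
    exact A.unique_beta hM χ hχ _ _ (A.glau_spec χ) h

theorem glau_inj [Fintype G] [Fintype C] [Finite T] (hM : Cfsg.IsPModular p M)
    (χ χ' : Cfsg.IrrCharacter G) (hχ : A.Inv (χ : G → ℂ)) (hχ' : A.Inv (χ' : G → ℂ))
    (h : A.glau χ = A.glau χ') : χ = χ' := by
  by_contra hne
  have h1 := A.dvd_mult_of_ne hM χ χ' hχ hχ' (A.glau χ) hne (A.glau_spec χ)
  rw [h] at h1
  exact A.glau_spec χ' h1

theorem glau_surj [Fintype G] [Fintype C] [Finite T] (hM : Cfsg.IsPModular p M)
    (β : Cfsg.IrrCharacter C) :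
    ∃ χ : Cfsg.IrrCharacter G, A.Inv (χ : G → ℂ) ∧ A.glau χ = β := by
  haveI : Fact p.Prime := ⟨hM.1⟩
  obtain ⟨χ, hχ, hm⟩ := A.exists_chi β
  exact ⟨χ, hχ, (A.glau_eq_iff hM χ hχ β).mpr hm⟩

/-- complex conjugate of an irreducible character -/
noncomputable def conjIrr {H : Type*} [Group H] [Fintype H] (χ : Cfsg.IrrCharacter H) :
    Cfsg.IrrCharacter H :=
  ⟨fun g => conj ((χ : H → ℂ) g), IsIrrCharacter.conj χ.2⟩

theorem conjIrr_apply {H : Type*} [Group H] [Fintype H] (χ : Cfsg.IrrCharacter H) (g : H) :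
    (conjIrr χ : H → ℂ) g = conj ((χ : H → ℂ) g) := rfl

theorem conjIrr_eq_self_iff {H : Type*} [Group H] [Fintype H] (χ : Cfsg.IrrCharacter H) :
    conjIrr χ = χ ↔ ∀ g : H, ((χ : H → ℂ) g).im = 0 := by
  constructor
  · intro h g
    have := congrFun (congrArg Subtype.val h) g
    rw [conjIrr_apply] at this
    exact Complex.conj_eq_iff_im.mp this
  · intro h
    apply Subtype.ext
    funext g
    rw [conjIrr_apply]
    exact Complex.conj_eq_iff_im.mpr (h g)

theorem inv_conjIrr [Fintype G] {χ : Cfsg.IrrCharacter G} (hχ : A.Inv (χ : G → ℂ)) :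
    A.Inv (conjIrr χ : G → ℂ) := by
  intro t g
  rw [conjIrr_apply, conjIrr_apply, hχ t g]

theorem mult_conjIrr [Fintype G] [Fintype C] (χ : Cfsg.IrrCharacter G) (β : Cfsg.IrrCharacter C) :
    A.mult (conjIrr χ : G → ℂ) (conjIrr β : C → ℂ) = A.mult (χ : G → ℂ) (β : C → ℂ) := by
  have h1 := A.mult_spec (IsIrrCharacter.isCharacter (conjIrr χ).2) (conjIrr β).2
  have h2 := A.mult_spec (IsIrrCharacter.isCharacter χ.2) β.2
  have h3 : Cfsg.classInner (fun c => (conjIrr χ : G → ℂ) (A.ι c)) (conjIrr β : C → ℂ)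
      = conj (Cfsg.classInner (fun c => (χ : G → ℂ) (A.ι c)) (β : C → ℂ)) :=
    classInner_conj_conj _ _
  rw [h1, h2, Complex.conj_natCast] at h3
  exact_mod_cast h3

theorem glau_conjIrr [Fintype G] [Fintype C] [Finite T] (hM : Cfsg.IsPModular p M)
    (χ : Cfsg.IrrCharacter G) (hχ : A.Inv (χ : G → ℂ)) :
    A.glau (conjIrr χ) = conjIrr (A.glau χ) := by
  rw [A.glau_eq_iff hM _ (A.inv_conjIrr hχ), A.mult_conjIrr]
  exact A.glau_spec χ

/-- a character is real iff its Glauberman correspondent is -/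
theorem glau_real_iff [Fintype G] [Fintype C] [Finite T] (hM : Cfsg.IsPModular p M)
    (χ : Cfsg.IrrCharacter G) (hχ : A.Inv (χ : G → ℂ)) :
    (∀ c : C, ((A.glau χ : C → ℂ) c).im = 0) ↔ ∀ g : G, ((χ : G → ℂ) g).im = 0 := by
  rw [← conjIrr_eq_self_iff, ← conjIrr_eq_self_iff, ← A.glau_conjIrr hM χ hχ]
  constructor
  · intro h
    exact A.glau_inj hM _ _ (A.inv_conjIrr hχ) hχ h
  · intro h
    rw [h]

/-- invariance of classes under `T` -/
def InvCls (K : ConjClasses G) : Prop := InvClass A.φ K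

theorem invCls_map [Fintype G] [Fintype C] [Finite T] [Fact p.Prime] (L : ConjClasses C) :
    A.InvCls (ConjClasses.map A.ι L) := by
  obtain ⟨c, rfl⟩ := ConjClasses.exists_rep L
  intro t g hg
  have h1 : IsConj g (A.ι c) := ConjClasses.mk_eq_mk_iff_isConj.mp hg
  have h2 : IsConj (A.φ t g) (A.φ t (A.ι c)) := isConj_mulEquiv _ h1
  rw [A.φ_ι] at h2
  exact ConjClasses.mk_eq_mk_iff_isConj.mpr h2

theorem map_injective [Fintype G] [Fintype C] [Finite T] [Fact p.Prime] :
    Function.Injective (ConjClasses.map A.ι) := by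
  intro L L' h
  obtain ⟨c, rfl⟩ := ConjClasses.exists_rep L
  obtain ⟨c', rfl⟩ := ConjClasses.exists_rep L'
  have h2 : IsConj (A.ι c) (A.ι c') := ConjClasses.mk_eq_mk_iff_isConj.mp h
  exact ConjClasses.mk_eq_mk_iff_isConj.mpr (A.fusion c c' h2)

theorem exists_map_eq [Fintype G] [Fintype C] [Finite T] [hp : Fact p.Prime] (K : ConjClasses G)
    (hK : A.InvCls K) : ∃ L : ConjClasses C, ConjClasses.map A.ι L = K := by
  classical
  obtain ⟨g₀, hg₀⟩ := ConjClasses.exists_rep K
  letI := A.actG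
  set f : G → ℕ := fun g => if IsConj g g₀ then 1 else 0 with hf
  have hinv : ∀ (t : T) (g : G), f (t • g) = f g := by
    intro t g
    show f (A.φ t g) = f g
    simp only [hf]
    have h1 : IsConj (A.φ t g) g₀ ↔ IsConj g g₀ := by
      rw [← ConjClasses.mk_eq_mk_iff_isConj, ← ConjClasses.mk_eq_mk_iff_isConj, hg₀]
      constructor
      · intro h
        have := hK t⁻¹ _ h
        rwa [map_inv, MulAut.inv_apply_self] at this
      · exact hK t g
    simp only [h1]
  have h1 := sum_modEq_sum_fixed A.pgroup f hinv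
  rw [A.sum_fixedPoints_eq f] at h1
  have hL : ∑ g : G, f g = (Finset.univ.filter (fun x : G => IsConj x g₀)).card := by
    simp only [hf]
    rw [Finset.sum_boole, Nat.cast_id]
  have hnd : ¬ p ∣ ∑ g : G, f g := by
    rw [hL]
    intro hd
    exact A.cop (hd.trans (card_class_dvd g₀))
  have hR : ¬ p ∣ ∑ x : C, f (A.ι x) := by
    intro hd
    apply hnd
    exact (Nat.modEq_zero_iff_dvd.mp (h1.trans (Nat.modEq_zero_iff_dvd.mpr hd)))
  have hex : ∃ c : C, f (A.ι c) ≠ 0 := by
    by_contra hcon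
    push Not at hcon
    apply hR
    rw [Finset.sum_eq_zero (fun x _ => hcon x)]
    exact dvd_zero p
  obtain ⟨c, hc⟩ := hex
  have hc' : IsConj (A.ι c) g₀ := by
    by_contra hcon
    simp only [hf] at hc
    rw [if_neg hcon] at hc
    exact hc rfl
  refine ⟨ConjClasses.mk c, ?_⟩
  rw [← hg₀]
  exact ConjClasses.mk_eq_mk_iff_isConj.mpr hc'

end PAct

end Cfsg.Agent.Lib.Helper8.GlauP
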