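import Mathlib
import Cfsg.Agent.Lib.Helper8.GlauE1
import Cfsg.Agent.Lib.Helper6.Multiplicity
import Cfsg.Agent.Lib.Helper6.IrrBasis
import Cfsg.Agent.Lib.Helper6.BlkCover3

/-! Multiplicities along homomorphisms, transitivity, and Clifford's divisibility. -/
set_option autoImplicit false

namespace Cfsg.Agent.Lib.Helper8.GlauP

open MulAction Cfsg.Agent.Lib.Helper6
open scoped ComplexConjugate

section rmult

variable {G H D : Type*} [Group G] [Group H] [Group D]

/-- the multiplicity of `β` in the pull-back of `χ` along `f` -/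
noncomputable def rmult [Fintype H] (f : H →* G) (χ : G → ℂ) (β : H → ℂ) : ℕ :=
  ⌊(Cfsg.classInner (fun h => χ (f h)) β).re⌋₊

theorem rmult_spec [Fintype H] (f : H →* G) {χ : G → ℂ} (hχ : Cfsg.IsCharacter G χ) {β : H → ℂ}
    (hβ : Cfsg.IsIrrCharacter H β) :
    Cfsg.classInner (fun h => χ (f h)) β = (rmult f χ β : ℂ) := by
  obtain ⟨n, hn⟩ := IsCharacter.classInner_irr_nat (IsCharacter.comp f hχ) hβ
  unfold rmult
  rw [hn]
  simp

theorem PAct.mult_eq_rmult {p : ℕ} {T : Type*} [Group T] [Fintype H] (A : PAct p G H T)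
    (χ : G → ℂ) (β : H → ℂ) : A.mult χ β = rmult A.ι χ β := rfl

/-- decomposition of a pulled-back character -/
theorem comp_eq_sum_rmult [Fintype H] [Fintype (Cfsg.IrrCharacter H)] (f : H →* G) {χ : G → ℂ}
    (hχ : Cfsg.IsCharacter G χ) :
    (fun h => χ (f h)) = ∑ η : Cfsg.IrrCharacter H, (rmult f χ (η : H → ℂ)) • (η : H → ℂ) := by
  obtain ⟨m, hm, hmi⟩ := IsCharacter.exists_mult (IsCharacter.comp f hχ)
  have h1 : ∀ η : Cfsg.IrrCharacter H, m η = rmult f χ (η : H → ℂ) := by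
    intro η
    have h2 := hmi η
    rw [rmult_spec f hχ η.2] at h2
    exact_mod_cast h2.symm
  rw [hm]
  apply Finset.sum_congr rfl
  intro η _
  rw [h1]

/-- transitivity of multiplicities -/
theorem rmult_comp [Fintype H] [Fintype D] [Fintype (Cfsg.IrrCharacter H)] (f : H →* G)
    (k : D →* H) {χ : G → ℂ} (hχ : Cfsg.IsCharacter G χ) {δ : D → ℂ}
    (hδ : Cfsg.IsIrrCharacter D δ) :
    rmult (f.comp k) χ δ
      = ∑ η : Cfsg.IrrCharacter H, rmult f χ (η : H → ℂ) * rmult k (η : H → ℂ) δ := by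
  have h1 := rmult_spec (f.comp k) hχ hδ
  have h2 : (fun d => χ ((f.comp k) d))
      = ∑ η : Cfsg.IrrCharacter H,
          ((rmult f χ (η : H → ℂ) : ℕ) : ℂ) • (fun d => (η : H → ℂ) (k d)) := by
    funext d
    have h3 := congrFun (comp_eq_sum_rmult f hχ) (k d)
    rw [Finset.sum_apply] at h3 ⊢
    show χ (f (k d)) = _
    rw [h3]
    apply Finset.sum_congr rfl
    intro η _
    simp only [Pi.smul_apply, nsmul_eq_mul, smul_eq_mul]
  rw [h2, classInner_sum_left] at h1
  have h4 : ∀ η : Cfsg.IrrCharacter H,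
      Cfsg.classInner (((rmult f χ (η : H → ℂ) : ℕ) : ℂ) • (fun d => (η : H → ℂ) (k d))) δ
        = ((rmult f χ (η : H → ℂ) * rmult k (η : H → ℂ) δ : ℕ) : ℂ) := by
    intro η
    rw [classInner_smul_left, rmult_spec k (IsIrrCharacter.isCharacter η.2) hδ, Nat.cast_mul]
  rw [Finset.sum_congr rfl (fun η _ => h4 η), ← Nat.cast_sum] at h1
  exact_mod_cast h1.symm

end rmult

section clifford

variable {G : Type*} [Group G] [Fintype G]

/-- Clifford: multiplicities of conjugate constituents agree -/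
theorem rmult_conjFun (N : Subgroup G) [Fintype N] (hN : N.Normal) (χ : Cfsg.IrrCharacter G)
    (θ : Cfsg.IrrCharacter N) (g : G) :
    rmult N.subtype (χ : G → ℂ) (conjFun N hN (θ : N → ℂ) g) = rmult N.subtype (χ : G → ℂ) θ := by
  have h1 := rmult_spec N.subtype (IsIrrCharacter.isCharacter χ.2)
    (IsIrrCharacter.conjFun N hN θ.2 g)
  have h2 := rmult_spec N.subtype (IsIrrCharacter.isCharacter χ.2) θ.2
  have h3 := classInner_conjFun_conjFun N hN (fun n : N => (χ : G → ℂ) n) (θ : N → ℂ) g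
  rw [conjFun_restrict N hN (IsIrrCharacter.isClassFunction χ.2) g] at h3
  have e1 : (fun h : N => (χ : G → ℂ) (N.subtype h)) = fun n : N => (χ : G → ℂ) n := rfl
  rw [e1] at h1 h2
  rw [h3, h2] at h1
  exact_mod_cast h1.symm

/-- Clifford: the ramification index divides the degree -/
theorem rmult_dvd_charDegree [DecidableEq G] (N : Subgroup G) [Fintype N] (hN : N.Normal)
    (χ : Cfsg.IrrCharacter G) (θ : Cfsg.IrrCharacter N)
    (hc : rmult N.subtype (χ : G → ℂ) (θ : N → ℂ) ≠ 0) :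
    rmult N.subtype (χ : G → ℂ) (θ : N → ℂ) ∣ Cfsg.charDegree (χ : G → ℂ) := by
  classical
  haveI : Fintype (Cfsg.IrrCharacter N) := Fintype.ofFinite _
  have hcc : Cfsg.classInner (fun n : N => (χ : G → ℂ) n) (θ : N → ℂ) ≠ 0 := by
    have h2 := rmult_spec N.subtype (IsIrrCharacter.isCharacter χ.2) θ.2
    have e1 : (fun h : N => (χ : G → ℂ) (N.subtype h)) = fun n : N => (χ : G → ℂ) n := rfl
    rw [e1] at h2
    rw [h2]
    exact_mod_cast hc
  have h := restrict_apply_one_eq_sum N (IsIrrCharacter.isCharacter χ.2)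
  have hterm : ∀ ψ : Cfsg.IrrCharacter N, ∃ n : ℕ,
      (ψ : N → ℂ) 1 * Cfsg.classInner (fun n : N => (χ : G → ℂ) n) (ψ : N → ℂ)
        = ((rmult N.subtype (χ : G → ℂ) (θ : N → ℂ) * n : ℕ) : ℂ) := by
    intro ψ
    by_cases h0 : Cfsg.classInner (fun n : N => (χ : G → ℂ) n) (ψ : N → ℂ) = 0
    · exact ⟨0, by rw [h0]; simp⟩
    · obtain ⟨g, hg⟩ := exists_conjFun_eq_of_constituents N hN χ.2 θ.2 ψ.2 hcc h0
      have h2 := rmult_spec N.subtype (IsIrrCharacter.isCharacter χ.2) ψ.2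
      have e1 : (fun h : N => (χ : G → ℂ) (N.subtype h)) = fun n : N => (χ : G → ℂ) n := rfl
      rw [e1] at h2
      refine ⟨Cfsg.charDegree (ψ : N → ℂ), ?_⟩
      rw [h2, IsCharacter.apply_one_eq_charDegree (IsIrrCharacter.isCharacter ψ.2)]
      have h3 : rmult N.subtype (χ : G → ℂ) (ψ : N → ℂ)
          = rmult N.subtype (χ : G → ℂ) (θ : N → ℂ) := by
        rw [hg]
        exact rmult_conjFun N hN χ θ g
      rw [h3]
      push_cast
      ring
  choose n hn using hterm
  rw [Finset.sum_congr rfl (fun ψ _ => hn ψ),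
    IsCharacter.apply_one_eq_charDegree (IsIrrCharacter.isCharacter χ.2), ← Nat.cast_sum] at h
  have h' : Cfsg.charDegree (χ : G → ℂ)
      = ∑ ψ, rmult N.subtype (χ : G → ℂ) (θ : N → ℂ) * n ψ := by
    exact_mod_cast h
  rw [h', ← Finset.mul_sum]
  exact dvd_mul_right _ _

/-- every irreducible character of a subgroup lies under some irreducible character -/
theorem exists_rmult_ne_zero (H : Subgroup G) [Fintype H] (θ : Cfsg.IrrCharacter H) :
    ∃ χ : Cfsg.IrrCharacter G, rmult H.subtype (χ : G → ℂ) (θ : H → ℂ) ≠ 0 := by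
  classical
  obtain ⟨χ, hχ⟩ := exists_irr_over H θ
  refine ⟨χ, ?_⟩
  intro h0
  apply hχ
  have h2 := rmult_spec H.subtype (IsIrrCharacter.isCharacter χ.2) θ.2
  have e1 : (fun h : H => (χ : G → ℂ) (H.subtype h)) = fun n : H => (χ : G → ℂ) n := rfl
  rw [e1] at h2
  rw [h2, h0]
  simp

end clifford

end Cfsg.Agent.Lib.Helper8.GlauP
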