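import Mathlib
import Cfsg.Agent.Lib.Helper1.Glauberman

/-! Glauberman's lemma for two compatible actions (no ambient group). -/
set_option autoImplicit false

namespace Cfsg.Agent.Lib.Helper8.GlauL

open MulAction

universe u v w

section abstract

variable {K : Type u} {S : Type v} {X : Type w} [Group K] [Group S] [MulAction K X]
  [MulAction S X] (φ : S →* MulAut K)

/-- the action of the semidirect product on `X` -/
noncomputable def sdHom (hcompat : ∀ (s : S) (k : K) (x : X), s • (k • x) = (φ s k) • (s • x)) :
    K ⋊[φ] S →* Equiv.Perm X :=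
  SemidirectProduct.lift (MulAction.toPermHom K X) (MulAction.toPermHom S X) (by
    intro s
    apply MonoidHom.ext
    intro k
    apply Equiv.ext
    intro x
    show (φ s k) • x = s • (k • (s⁻¹ • x))
    rw [hcompat, smul_inv_smul])

theorem sdHom_inl (hcompat : ∀ (s : S) (k : K) (x : X), s • (k • x) = (φ s k) • (s • x))
    (k : K) (x : X) : sdHom φ hcompat (SemidirectProduct.inl k) x = k • x := by
  unfold sdHom
  rw [SemidirectProduct.lift_inl]
  rfl

theorem sdHom_inr (hcompat : ∀ (s : S) (k : K) (x : X), s • (k • x) = (φ s k) • (s • x))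
    (s : S) (x : X) : sdHom φ hcompat (SemidirectProduct.inr s) x = s • x := by
  unfold sdHom
  rw [SemidirectProduct.lift_inr]
  rfl

variable [Finite K] [Finite S]

theorem finite_sd : Finite (K ⋊[φ] S) :=
  Finite.of_equiv _ (SemidirectProduct.equivProd (φ := φ)).symm

theorem isComplement'_inl_inr (hcop : (Nat.card K).Coprime (Nat.card S)) :
    Subgroup.IsComplement' (SemidirectProduct.inl : K →* K ⋊[φ] S).range
      (SemidirectProduct.inr : S →* K ⋊[φ] S).range := by
  haveI := finite_sd φ
  have h1 : Nat.card (SemidirectProduct.inl : K →* K ⋊[φ] S).range = Nat.card K :=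
    Nat.card_congr (MonoidHom.ofInjective SemidirectProduct.inl_injective).symm.toEquiv
  have h2 : Nat.card (SemidirectProduct.inr : S →* K ⋊[φ] S).range = Nat.card S :=
    Nat.card_congr (MonoidHom.ofInjective SemidirectProduct.inr_injective).symm.toEquiv
  apply Subgroup.isComplement'_of_coprime
  · rw [h1, h2, SemidirectProduct.card]
  · rw [h1, h2]
    exact hcop

/-- Glauberman's lemma: existence of a fixed point -/
theorem exists_fixed [Nonempty X]
    (hcompat : ∀ (s : S) (k : K) (x : X), s • (k • x) = (φ s k) • (s • x))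
    (hcop : (Nat.card K).Coprime (Nat.card S))
    (hsolv : Group.IsSolvable K ∨ Group.IsSolvable S)
    (htrans : MulAction.IsPretransitive K X) :
    ∃ x : X, ∀ s : S, s • x = x := by
  haveI := finite_sd φ
  letI : MulAction (K ⋊[φ] S) X := MulAction.compHom X (sdHom φ hcompat)
  have hsmul : ∀ (q : K ⋊[φ] S) (x : X), q • x = sdHom φ hcompat q x := fun _ _ => rfl
  set Kq := (SemidirectProduct.inl : K →* K ⋊[φ] S).range with hKq
  set Hq := (SemidirectProduct.inr : S →* K ⋊[φ] S).range with hHq
  haveI hKn : Kq.Normal := by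
    rw [hKq, SemidirectProduct.range_inl_eq_ker_rightHom]
    infer_instance
  have hc : Subgroup.IsComplement' Kq Hq := isComplement'_inl_inr φ hcop
  have hcardK : Nat.card Kq = Nat.card K :=
    Nat.card_congr (MonoidHom.ofInjective SemidirectProduct.inl_injective).symm.toEquiv
  have hcardH : Nat.card Hq = Nat.card S :=
    Nat.card_congr (MonoidHom.ofInjective SemidirectProduct.inr_injective).symm.toEquiv
  have hidx : Kq.index = Nat.card S := by
    rw [hc.symm.index_eq_card, hcardH]
  have hcop' : (Nat.card Kq).Coprime Kq.index := by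
    rw [hcardK, hidx]
    exact hcop
  have hsolv' : Group.IsSolvable Kq ∨ Group.IsSolvable ((K ⋊[φ] S) ⧸ Kq) := by
    rcases hsolv with h | h
    · left
      haveI := h
      exact Group.isSolvable_of_isSolvable_injective
        (f := (MonoidHom.ofInjective (SemidirectProduct.inl_injective
          (φ := φ))).symm.toMonoidHom)
        (MonoidHom.ofInjective SemidirectProduct.inl_injective).symm.injective
    · right
      haveI := h
      let eH : (K ⋊[φ] S) ⧸ Kq ≃* Hq := hc.symm.QuotientMulEquiv
      haveI : Group.IsSolvable Hq := Group.isSolvable_of_isSolvable_injective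
        (f := (MonoidHom.ofInjective (SemidirectProduct.inr_injective
          (φ := φ))).symm.toMonoidHom)
        (MonoidHom.ofInjective SemidirectProduct.inr_injective).symm.injective
      exact Group.isSolvable_of_isSolvable_injective (f := eH.toMonoidHom) eH.injective
  have htrans' : MulAction.IsPretransitive Kq X := by
    constructor
    intro x y
    obtain ⟨k, hk⟩ := htrans.exists_smul_eq x y
    refine ⟨⟨SemidirectProduct.inl k, k, rfl⟩, ?_⟩
    show (SemidirectProduct.inl k : K ⋊[φ] S) • x = y
    rw [hsmul, sdHom_inl, hk]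
  obtain ⟨x, hx⟩ := Cfsg.Agent.Lib.Helper1.glauberman_exists_fixed Kq Hq hc hcop' hsolv' htrans'
  refine ⟨x, fun s => ?_⟩
  have := hx (SemidirectProduct.inr s) ⟨s, rfl⟩
  rw [hsmul, sdHom_inr] at this
  exact this

/-- Glauberman's lemma: the fixed points of `S` on `K` act transitively on the fixed points
on `X` -/
theorem fixed_conj
    (hcompat : ∀ (s : S) (k : K) (x : X), s • (k • x) = (φ s k) • (s • x))
    (hcop : (Nat.card K).Coprime (Nat.card S))
    (hsolv : Group.IsSolvable K ∨ Group.IsSolvable S)
    (htrans : MulAction.IsPretransitive K X) (x y : X) (hx : ∀ s : S, s • x = x)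
    (hy : ∀ s : S, s • y = y) :
    ∃ k : K, (∀ s : S, φ s k = k) ∧ k • x = y := by
  haveI := finite_sd φ
  letI : MulAction (K ⋊[φ] S) X := MulAction.compHom X (sdHom φ hcompat)
  have hsmul : ∀ (q : K ⋊[φ] S) (x : X), q • x = sdHom φ hcompat q x := fun _ _ => rfl
  set Kq := (SemidirectProduct.inl : K →* K ⋊[φ] S).range with hKq
  set Hq := (SemidirectProduct.inr : S →* K ⋊[φ] S).range with hHq
  haveI hKn : Kq.Normal := by
    rw [hKq, SemidirectProduct.range_inl_eq_ker_rightHom]
    infer_instance
  have hc : Subgroup.IsComplement' Kq Hq := isComplement'_inl_inr φ hcop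
  have hcardK : Nat.card Kq = Nat.card K :=
    Nat.card_congr (MonoidHom.ofInjective SemidirectProduct.inl_injective).symm.toEquiv
  have hcardH : Nat.card Hq = Nat.card S :=
    Nat.card_congr (MonoidHom.ofInjective SemidirectProduct.inr_injective).symm.toEquiv
  have hidx : Kq.index = Nat.card S := by
    rw [hc.symm.index_eq_card, hcardH]
  have hcop' : (Nat.card Kq).Coprime Kq.index := by
    rw [hcardK, hidx]
    exact hcop
  have hsolv' : Group.IsSolvable Kq ∨ Group.IsSolvable ((K ⋊[φ] S) ⧸ Kq) := by
    rcases hsolv with h | h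
    · left
      haveI := h
      exact Group.isSolvable_of_isSolvable_injective
        (f := (MonoidHom.ofInjective (SemidirectProduct.inl_injective
          (φ := φ))).symm.toMonoidHom)
        (MonoidHom.ofInjective SemidirectProduct.inl_injective).symm.injective
    · right
      haveI := h
      let eH : (K ⋊[φ] S) ⧸ Kq ≃* Hq := hc.symm.QuotientMulEquiv
      haveI : Group.IsSolvable Hq := Group.isSolvable_of_isSolvable_injective
        (f := (MonoidHom.ofInjective (SemidirectProduct.inr_injective
          (φ := φ))).symm.toMonoidHom)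
        (MonoidHom.ofInjective SemidirectProduct.inr_injective).symm.injective
      exact Group.isSolvable_of_isSolvable_injective (f := eH.toMonoidHom) eH.injective
  have htrans' : MulAction.IsPretransitive Kq X := by
    constructor
    intro x y
    obtain ⟨k, hk⟩ := htrans.exists_smul_eq x y
    refine ⟨⟨SemidirectProduct.inl k, k, rfl⟩, ?_⟩
    show (SemidirectProduct.inl k : K ⋊[φ] S) • x = y
    rw [hsmul, sdHom_inl, hk]
  have hx' : ∀ h ∈ Hq, h • x = x := by
    rintro _ ⟨s, rfl⟩
    rw [hsmul, sdHom_inr]
    exact hx s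
  have hy' : ∀ h ∈ Hq, h • y = y := by
    rintro _ ⟨s, rfl⟩
    rw [hsmul, sdHom_inr]
    exact hy s
  obtain ⟨q, hq, hqx⟩ := Cfsg.Agent.Lib.Helper1.glauberman_fixed_conj Kq Hq hc hcop' hsolv'
    htrans' x y hx' hy'
  obtain ⟨⟨k, rfl⟩, hqc⟩ := Subgroup.mem_inf.mp hq
  refine ⟨k, fun s => ?_, ?_⟩
  · rw [Subgroup.mem_centralizer_iff] at hqc
    have h1 := hqc (SemidirectProduct.inr s) ⟨s, rfl⟩
    apply SemidirectProduct.inl_injective (φ := φ)
    rw [SemidirectProduct.inl_aut, h1]
    rw [mul_assoc, ← map_mul, mul_inv_cancel, map_one, mul_one]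
  · rw [hsmul, sdHom_inl] at hqx
    exact hqx

end abstract

end Cfsg.Agent.Lib.Helper8.GlauL
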