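import Mathlib
import Cfsg.Agent.Lib.Helper8.GlauL1

/-! Glauberman's lemma for two compatible actions, modulo a normal subgroup acting trivially. -/
set_option autoImplicit false

namespace Cfsg.Agent.Lib.Helper8.GlauL

open MulAction

universe u v w

variable {G : Type u} {S : Type v} {X : Type w} [Group G] [Group S]

/-- the automorphism induced on a quotient -/
def quotAut (N : Subgroup G) [N.Normal] (a : MulAut G) (h : ∀ x ∈ N, a x ∈ N)
    (h' : ∀ x ∈ N, a⁻¹ x ∈ N) : MulAut (G ⧸ N) :=
  QuotientGroup.congr N N a (by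
    apply le_antisymm
    · rintro _ ⟨x, hx, rfl⟩
      exact h x hx
    · intro x hx
      refine ⟨a⁻¹ x, h' x hx, ?_⟩
      exact MulAut.apply_inv_self G a x)

theorem quotAut_mk (N : Subgroup G) [N.Normal] (a : MulAut G) (h : ∀ x ∈ N, a x ∈ N)
    (h' : ∀ x ∈ N, a⁻¹ x ∈ N) (g : G) :
    quotAut N a h h' (QuotientGroup.mk g) = QuotientGroup.mk (a g) := rfl

/-- the action induced on a quotient -/
def quotHom (φ : S →* MulAut G) (N : Subgroup G) [N.Normal]
    (hNs : ∀ (s : S), ∀ x ∈ N, φ s x ∈ N) : S →* MulAut (G ⧸ N) where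
  toFun s := quotAut N (φ s) (hNs s) (fun x hx => by
    have := hNs s⁻¹ x hx
    rwa [map_inv] at this)
  map_one' := by
    apply MulEquiv.ext
    intro q
    obtain ⟨g, rfl⟩ := QuotientGroup.mk_surjective q
    rw [quotAut_mk, map_one]
    rfl
  map_mul' s t := by
    apply MulEquiv.ext
    intro q
    obtain ⟨g, rfl⟩ := QuotientGroup.mk_surjective q
    rw [quotAut_mk, map_mul, MulAut.mul_apply, MulAut.mul_apply, quotAut_mk, quotAut_mk]

theorem quotHom_mk (φ : S →* MulAut G) (N : Subgroup G) [N.Normal]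
    (hNs : ∀ (s : S), ∀ x ∈ N, φ s x ∈ N) (s : S) (g : G) :
    quotHom φ N hNs s (QuotientGroup.mk g) = QuotientGroup.mk (φ s g) := rfl

variable [MulAction G X] [MulAction S X]

/-- the permutation action of the quotient -/
noncomputable def quotPerm (N : Subgroup G) [N.Normal] (hNtriv : ∀ n ∈ N, ∀ x : X, n • x = x) :
    G ⧸ N →* Equiv.Perm X :=
  QuotientGroup.lift N (MulAction.toPermHom G X) (by
    intro n hn
    rw [MonoidHom.mem_ker]
    apply Equiv.ext
    intro x
    exact hNtriv n hn x)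

theorem quotPerm_mk (N : Subgroup G) [N.Normal] (hNtriv : ∀ n ∈ N, ∀ x : X, n • x = x) (g : G)
    (x : X) : quotPerm N hNtriv (QuotientGroup.mk g) x = g • x := rfl

variable [Finite G] [Finite S]

/-- Glauberman's lemma modulo a normal subgroup acting trivially: existence -/
theorem exists_fixed_quot [Nonempty X] (φ : S →* MulAut G) (N : Subgroup G) [N.Normal]
    (hNs : ∀ (s : S), ∀ x ∈ N, φ s x ∈ N) (hNtriv : ∀ n ∈ N, ∀ x : X, n • x = x)
    (hcompat : ∀ (s : S) (g : G) (x : X), s • (g • x) = (φ s g) • (s • x))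
    (hcop : N.index.Coprime (Nat.card S))
    (hsolv : Group.IsSolvable (G ⧸ N) ∨ Group.IsSolvable S)
    (htrans : MulAction.IsPretransitive G X) :
    ∃ x : X, ∀ s : S, s • x = x := by
  letI : MulAction (G ⧸ N) X := MulAction.compHom X (quotPerm N hNtriv)
  have hsmul : ∀ (g : G) (x : X), (QuotientGroup.mk g : G ⧸ N) • x = g • x := fun _ _ => rfl
  apply exists_fixed (K := G ⧸ N) (quotHom φ N hNs)
  · intro s k x
    obtain ⟨g, rfl⟩ := QuotientGroup.mk_surjective k
    rw [hsmul, quotHom_mk, hsmul]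
    exact hcompat s g x
  · rw [← Subgroup.index_eq_card]
    exact hcop
  · exact hsolv
  · constructor
    intro x y
    obtain ⟨g, hg⟩ := htrans.exists_smul_eq x y
    exact ⟨QuotientGroup.mk g, by rw [hsmul, hg]⟩

/-- Glauberman's lemma modulo a normal subgroup acting trivially: conjugacy of fixed points -/
theorem fixed_conj_quot (φ : S →* MulAut G) (N : Subgroup G) [N.Normal]
    (hNs : ∀ (s : S), ∀ x ∈ N, φ s x ∈ N) (hNtriv : ∀ n ∈ N, ∀ x : X, n • x = x)
    (hcompat : ∀ (s : S) (g : G) (x : X), s • (g • x) = (φ s g) • (s • x))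
    (hcop : N.index.Coprime (Nat.card S))
    (hsolv : Group.IsSolvable (G ⧸ N) ∨ Group.IsSolvable S)
    (htrans : MulAction.IsPretransitive G X) (x y : X) (hx : ∀ s : S, s • x = x)
    (hy : ∀ s : S, s • y = y) :
    ∃ g : G, (∀ s : S, g⁻¹ * φ s g ∈ N) ∧ g • x = y := by
  letI : MulAction (G ⧸ N) X := MulAction.compHom X (quotPerm N hNtriv)
  have hsmul : ∀ (g : G) (x : X), (QuotientGroup.mk g : G ⧸ N) • x = g • x := fun _ _ => rfl
  obtain ⟨k, hk, hkx⟩ := fixed_conj (K := G ⧸ N) (quotHom φ N hNs)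
    (by
      intro s k x
      obtain ⟨g, rfl⟩ := QuotientGroup.mk_surjective k
      rw [hsmul, quotHom_mk, hsmul]
      exact hcompat s g x)
    (by
      rw [← Subgroup.index_eq_card]
      exact hcop)
    hsolv
    (by
      constructor
      intro x y
      obtain ⟨g, hg⟩ := htrans.exists_smul_eq x y
      exact ⟨QuotientGroup.mk g, by rw [hsmul, hg]⟩)
    x y hx hy
  obtain ⟨g, rfl⟩ := QuotientGroup.mk_surjective k
  refine ⟨g, fun s => ?_, ?_⟩
  · have := hk s
    rw [quotHom_mk] at this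
    exact QuotientGroup.eq.mp this.symm
  · rw [hsmul] at hkx
    exact hkx

end Cfsg.Agent.Lib.Helper8.GlauL
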