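import Mathlib
import Cfsg.Agent.S0856
import Cfsg.Agent.S0146
import Cfsg.Agent.Lib.Helper6.QuotChar
import Cfsg.Agent.Lib.Helper6.BlkNormalP
import Cfsg.Agent.Lib.Helper6.Mult
import Cfsg.Agent.Lib.Helper3.CharQuot

/-! # Gallagher's theorem, in terms of the quotient group -/
set_option autoImplicit false

namespace Cfsg.Agent.Lib.Helper8.RelGlau

open Cfsg.Agent.Lib.Helper6
open scoped ComplexConjugate

variable {G : Type*} [Group G] [Fintype G] (N : Subgroup G) [hN : N.Normal]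

/-- the product of an inflated function and a function on `G` -/
def gal (ϑ : G → ℂ) (β : G ⧸ N → ℂ) : G → ℂ := fun g => β (QuotientGroup.mk g) * ϑ g

omit [Fintype G] hN in
theorem gal_apply (ϑ : G → ℂ) (β : G ⧸ N → ℂ) (g : G) :
    gal N ϑ β g = β (QuotientGroup.mk g) * ϑ g := rfl

omit hN in
theorem classInner_indFun_one_ne_zero_of_const [Fintype N] {β : G → ℂ}
    (hβ : Cfsg.IsIrrCharacter G β) (hc : ∀ n : N, β n = β 1) :
    Cfsg.classInner (Cfsg.indFun N (fun _ : N => (1 : ℂ))) β ≠ 0 := by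
  rw [Cfsg.Agent.S0146.result N _ β (IsIrrCharacter.isClassFunction hβ)]
  unfold Cfsg.classInner
  have h1 : ∀ n : N, (1 : ℂ) * conj (β n) = conj (β 1) := by
    intro n
    rw [one_mul, hc n]
  rw [Finset.sum_congr rfl (fun n _ => h1 n), Finset.sum_const, Finset.card_univ,
    ← Nat.card_eq_fintype_card, nsmul_eq_mul, ← mul_assoc,
    inv_mul_cancel₀ (card_ne_zero_complex N), one_mul]
  intro h
  rw [map_eq_zero] at h
  exact IsIrrCharacter.apply_one_ne_zero hβ h

theorem const_of_classInner_indFun_one_ne_zero [Fintype N] {β : G → ℂ}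
    (hβ : Cfsg.IsIrrCharacter G β)
    (h : Cfsg.classInner (Cfsg.indFun N (fun _ : N => (1 : ℂ))) β ≠ 0) :
    ∀ n : N, β n = β 1 := by
  rw [Cfsg.Agent.S0146.result N _ β (IsIrrCharacter.isClassFunction hβ)] at h
  apply IsIrrCharacter.const_on_normal_of_sum_ne_zero N hβ
  intro h0
  apply h
  unfold Cfsg.classInner
  have h1 : ∑ n : N, (1 : ℂ) * conj (β n) = conj (∑ n : N, β n) := by
    rw [map_sum]
    apply Finset.sum_congr rfl
    intro n _
    rw [one_mul]
  rw [h1, h0, map_zero, mul_zero]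

variable {ϑ : G → ℂ} (hϑ : Cfsg.IsIrrCharacter G ϑ)
  (hϑN : Cfsg.IsIrrCharacter N (fun n : N => ϑ n))

include hϑ hϑN in
/-- Gallagher: the products `β ϑ` are irreducible -/
theorem gal_isIrrCharacter {β : G ⧸ N → ℂ} (hβ : Cfsg.IsIrrCharacter (G ⧸ N) β) :
    Cfsg.IsIrrCharacter G (gal N ϑ β) := by
  classical
  haveI : Fintype N := Fintype.ofFinite N
  have hcf := IsIrrCharacter.isClassFunction hϑ
  have hone : Cfsg.IsIrrCharacter N (fun _ : N => (1 : ℂ)) := isIrrCharacter_one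
  have hprod : (fun _ : N => (1 : ℂ)) * (fun n : N => ϑ n) = fun n : N => ϑ n := by
    funext n
    simp
  have key := Cfsg.Agent.S0856.result N (fun _ : N => (1 : ℂ)) (fun n : N => ϑ n) hone hϑN
    (fun _ _ => rfl) (fun g n => hcf n g) (by rw [hprod]; exact hϑN) ϑ hϑ (fun _ => rfl)
  have hβ' : Cfsg.IsIrrCharacter G (fun g => β (QuotientGroup.mk g)) :=
    IsIrrCharacter.comp_mk N hβ
  have hmem : (fun g => β (QuotientGroup.mk g)) ∈
      {β : G → ℂ | Cfsg.IsIrrCharacter G β ∧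
        Cfsg.classInner (Cfsg.indFun N (fun _ : N => (1 : ℂ))) β ≠ 0} := by
    refine ⟨hβ', classInner_indFun_one_ne_zero_of_const N hβ' ?_⟩
    intro n
    show β (QuotientGroup.mk (n : G)) = β (QuotientGroup.mk 1)
    rw [(QuotientGroup.eq_one_iff (n : G)).mpr n.2, QuotientGroup.mk_one]
  exact (key.mapsTo hmem).1

include hϑ hϑN in
/-- Gallagher: `β ↦ β ϑ` is injective -/
theorem gal_injective {β β' : G ⧸ N → ℂ} (hβ : Cfsg.IsIrrCharacter (G ⧸ N) β)
    (hβ' : Cfsg.IsIrrCharacter (G ⧸ N) β') (h : gal N ϑ β = gal N ϑ β') : β = β' := by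
  classical
  haveI : Fintype N := Fintype.ofFinite N
  have hcf := IsIrrCharacter.isClassFunction hϑ
  have hone : Cfsg.IsIrrCharacter N (fun _ : N => (1 : ℂ)) := isIrrCharacter_one
  have hprod : (fun _ : N => (1 : ℂ)) * (fun n : N => ϑ n) = fun n : N => ϑ n := by
    funext n
    simp
  have key := Cfsg.Agent.S0856.result N (fun _ : N => (1 : ℂ)) (fun n : N => ϑ n) hone hϑN
    (fun _ _ => rfl) (fun g n => hcf n g) (by rw [hprod]; exact hϑN) ϑ hϑ (fun _ => rfl)
  have hmem : ∀ {γ : G ⧸ N → ℂ}, Cfsg.IsIrrCharacter (G ⧸ N) γ →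
      (fun g => γ (QuotientGroup.mk g)) ∈
      {β : G → ℂ | Cfsg.IsIrrCharacter G β ∧
        Cfsg.classInner (Cfsg.indFun N (fun _ : N => (1 : ℂ))) β ≠ 0} := by
    intro γ hγ
    have hγ' : Cfsg.IsIrrCharacter G (fun g => γ (QuotientGroup.mk g)) :=
      IsIrrCharacter.comp_mk N hγ
    refine ⟨hγ', classInner_indFun_one_ne_zero_of_const N hγ' ?_⟩
    intro n
    show γ (QuotientGroup.mk (n : G)) = γ (QuotientGroup.mk 1)
    rw [(QuotientGroup.eq_one_iff (n : G)).mpr n.2, QuotientGroup.mk_one]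
  have h2 := key.injOn (hmem hβ) (hmem hβ') h
  funext q
  obtain ⟨g, rfl⟩ := QuotientGroup.mk_surjective q
  exact congrFun h2 g

include hϑ hϑN in
/-- Gallagher: every irreducible character over `ϑ_N` is of the form `β ϑ` -/
theorem gal_surjective {ψ : G → ℂ} (hψ : Cfsg.IsIrrCharacter G ψ)
    [Fintype N] (hover : Cfsg.classInner (fun n : N => ψ n) (fun n : N => ϑ n) ≠ 0) :
    ∃ β : G ⧸ N → ℂ, Cfsg.IsIrrCharacter (G ⧸ N) β ∧ ψ = gal N ϑ β := by
  classical
  have hcf := IsIrrCharacter.isClassFunction hϑ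
  have hone : Cfsg.IsIrrCharacter N (fun _ : N => (1 : ℂ)) := isIrrCharacter_one
  have hprod : (fun _ : N => (1 : ℂ)) * (fun n : N => ϑ n) = fun n : N => ϑ n := by
    funext n
    simp
  have key := Cfsg.Agent.S0856.result N (fun _ : N => (1 : ℂ)) (fun n : N => ϑ n) hone hϑN
    (fun _ _ => rfl) (fun g n => hcf n g) (by rw [hprod]; exact hϑN) ϑ hϑ (fun _ => rfl)
  have hmem : ψ ∈ {ψ : G → ℂ | Cfsg.IsIrrCharacter G ψ ∧
      Cfsg.classInner (Cfsg.indFun N ((fun _ : N => (1 : ℂ)) * (fun n : N => ϑ n))) ψ ≠ 0} := by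
    refine ⟨hψ, ?_⟩
    rw [hprod, Cfsg.Agent.S0146.result N _ ψ (IsIrrCharacter.isClassFunction hψ)]
    intro h0
    apply hover
    have h1 := classInner_conj_symm (fun n : N => ϑ n) (fun n : N => ψ n)
    rw [h0, map_zero] at h1
    exact h1.symm
  obtain ⟨β, ⟨hβ, hβ1⟩, hβψ⟩ := key.surjOn hmem
  have hconst := const_of_classInner_indFun_one_ne_zero N hβ hβ1
  obtain ⟨γ, hγ, hβγ⟩ := Cfsg.Agent.Lib.Helper3.CharQuot.exists_irr_quot N hβ
    (fun x hx => hconst ⟨x, hx⟩)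
  refine ⟨γ, hγ, ?_⟩
  rw [← hβψ]
  funext g
  show β g * ϑ g = γ (QuotientGroup.mk g) * ϑ g
  rw [hβγ]

end Cfsg.Agent.Lib.Helper8.RelGlau
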