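import Mathlib
import Cfsg.Agent.Lib.Helper8.RG1
import Cfsg.Agent.Lib.Helper8.GlauL2
import Cfsg.Agent.Lib.Helper8.GlauE1

/-! # The relative Glauberman correspondence: the setting and the action on the quotient -/
set_option autoImplicit false

namespace Cfsg.Agent.Lib.Helper8.RelGlau

open Cfsg.Agent.Lib.Helper6 Cfsg.Agent.Lib.Helper8.GlauP Cfsg.Agent.Lib.Helper8.GlauL

/-- A `p`-group `S` acting on `K` and on `C`, compatibly with an embedding `ι : C → K`;
`Q` is a normal `S`-stable subgroup of `K` of index prime to `p`, contained in the image of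
`C`, and the image of `C` consists of the elements fixed by `S` modulo `Q`. -/
structure Setup (p : ℕ) (K C S : Type*) [Group K] [Group C] [Group S] where
  ι : C →* K
  inj : Function.Injective ι
  Q : Subgroup K
  hQn : Q.Normal
  hQle : Q ≤ ι.range
  φK : S →* MulAut K
  φC : S →* MulAut C
  hι : ∀ (s : S) (c : C), ι (φC s c) = φK s (ι c)
  hQs : ∀ (s : S), ∀ q ∈ Q, φK s q ∈ Q
  hfix : ∀ k : K, (∀ s : S, φK s k * k⁻¹ ∈ Q) ↔ k ∈ ι.range
  pgroup : IsPGroup p S
  cop : ¬ p ∣ Q.index

variable {p : ℕ} {K C S : Type*} [Group K] [Group C] [Group S]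

namespace Setup

variable (D : Setup p K C S)

instance : D.Q.Normal := D.hQn

/-- the preimage of `Q` in `C` -/
def QC : Subgroup C := D.Q.comap D.ι

instance : D.QC.Normal := by
  unfold QC
  infer_instance

theorem mem_QC (c : C) : c ∈ D.QC ↔ D.ι c ∈ D.Q := Iff.rfl

/-- the map induced by `ι` on the quotients -/
def ιbar : C ⧸ D.QC →* K ⧸ D.Q := QuotientGroup.map D.QC D.Q D.ι (le_refl _)

theorem ιbar_mk (c : C) : D.ιbar (QuotientGroup.mk c) = QuotientGroup.mk (D.ι c) := rfl

theorem ιbar_injective : Function.Injective D.ιbar := by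
  rw [injective_iff_map_eq_one]
  intro q hq
  obtain ⟨c, rfl⟩ := QuotientGroup.mk_surjective q
  rw [ιbar_mk, QuotientGroup.eq_one_iff] at hq
  rw [QuotientGroup.eq_one_iff]
  exact hq

/-- the action on the quotient `K ⧸ Q`, with fixed points `C ⧸ Q` -/
def toPAct : PAct p (K ⧸ D.Q) (C ⧸ D.QC) S where
  φ := quotHom D.φK D.Q D.hQs
  ι := D.ιbar
  inj := D.ιbar_injective
  fix := by
    intro q
    obtain ⟨k, rfl⟩ := QuotientGroup.mk_surjective q
    constructor
    · intro h
      have hk : k ∈ D.ι.range := by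
        rw [← D.hfix]
        intro s
        have h1 := h s
        rw [quotHom_mk, QuotientGroup.eq] at h1
        have h2 : k⁻¹ * D.φK s k ∈ D.Q := by
          have := D.Q.inv_mem h1
          simpa [mul_inv_rev] using this
        have h3 := D.hQn.conj_mem _ h2 k
        simpa [mul_assoc] using h3
      obtain ⟨c, rfl⟩ := hk
      exact ⟨QuotientGroup.mk c, rfl⟩
    · rintro ⟨q', hq'⟩ s
      obtain ⟨c, rfl⟩ := QuotientGroup.mk_surjective q'
      rw [ιbar_mk] at hq'
      rw [← hq', quotHom_mk, QuotientGroup.eq]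
      have h1 := (D.hfix (D.ι c)).mpr ⟨c, rfl⟩ s
      have h2 := D.Q.inv_mem h1
      have h3 := D.hQn.conj_mem _ h2 (D.ι c)⁻¹
      simpa [mul_assoc, mul_inv_rev] using h3
  pgroup := D.pgroup
  cop := by
    rw [← Subgroup.index_eq_card]
    exact D.cop

theorem toPAct_φ_mk (s : S) (k : K) :
    D.toPAct.φ s (QuotientGroup.mk k) = QuotientGroup.mk (D.φK s k) := rfl

theorem toPAct_ι_mk (c : C) :
    D.toPAct.ι (QuotientGroup.mk c) = QuotientGroup.mk (D.ι c) := rfl

end Setup

end Cfsg.Agent.Lib.Helper8.RelGlau
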