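import Mathlib
import Cfsg.Agent.Lib.Helper8.RG2
import Cfsg.Agent.Lib.Helper6.CharMisc
import Cfsg.Agent.Lib.Helper6.CliffordCorr
import Cfsg.Agent.Lib.Helper8.GlauN1

/-! # The relative Glauberman correspondence: the case of an extendible character -/
set_option autoImplicit false
set_option linter.unusedSectionVars false

namespace Cfsg.Agent.Lib.Helper8.RelGlau

open Cfsg.Agent.Lib.Helper6 Cfsg.Agent.Lib.Helper8.GlauP Cfsg.Agent.Lib.Helper8.GlauL
open scoped ComplexConjugate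

section general

variable {G H : Type*} [Group G] [Group H] [Fintype G] [Fintype H]

/-- a character whose pull-back along a homomorphism is irreducible is irreducible -/
theorem isIrrCharacter_of_comp (f : H →* G) {χ : G → ℂ} (hχ : Cfsg.IsCharacter G χ)
    (h : Cfsg.IsIrrCharacter H (fun x => χ (f x))) : Cfsg.IsIrrCharacter G χ := by
  classical
  have h1 : χ 1 ≠ 0 := by
    have h0 := IsIrrCharacter.apply_one_ne_zero h
    rwa [map_one] at h0
  obtain ⟨η, hη⟩ := IsCharacter.exists_constituent hχ h1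
  obtain ⟨B, hB, hAB⟩ := IsCharacter.exists_eq_add_of_constituent hχ η.2 hη
  have hηf : Cfsg.IsCharacter H (fun x => (η : G → ℂ) (f x)) :=
    IsCharacter.comp f (IsIrrCharacter.isCharacter η.2)
  have hBf : Cfsg.IsCharacter H (fun x => B (f x)) := IsCharacter.comp f hB
  have hη1 : (fun x => (η : G → ℂ) (f x)) 1 ≠ 0 := by
    show (η : G → ℂ) (f 1) ≠ 0
    rw [map_one]
    exact IsIrrCharacter.apply_one_ne_zero η.2
  obtain ⟨ζ, hζ⟩ := IsCharacter.exists_constituent hηf hη1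
  have hsum : (fun x => χ (f x)) = (fun x => (η : G → ℂ) (f x)) + (fun x => B (f x)) := by
    funext x
    rw [hAB]
    rfl
  obtain ⟨a, ha⟩ := IsCharacter.classInner_irr_nat hηf ζ.2
  obtain ⟨b, hb⟩ := IsCharacter.classInner_irr_nat hBf ζ.2
  have hne : Cfsg.classInner (fun x => χ (f x)) (ζ : H → ℂ) ≠ 0 := by
    rw [hsum, classInner_add_left, ha, hb]
    rw [ha] at hζ
    have ha0 : a ≠ 0 := by exact_mod_cast hζ
    have : a + b ≠ 0 := by omega
    exact_mod_cast this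
  have hζeq : (fun x => χ (f x)) = (ζ : H → ℂ) := by
    by_contra hcon
    apply hne
    rw [classInner_isIrrCharacter h ζ.2, if_neg hcon]
  have hle1 : Cfsg.charDegree (ζ : H → ℂ) ≤ Cfsg.charDegree (fun x => (η : G → ℂ) (f x)) :=
    IsCharacter.charDegree_le hηf ζ.2 hζ
  have hle2 : Cfsg.charDegree (η : G → ℂ) ≤ Cfsg.charDegree χ :=
    IsCharacter.charDegree_le hχ η.2 hη
  have hd1 : Cfsg.charDegree (fun x => (η : G → ℂ) (f x)) = Cfsg.charDegree (η : G → ℂ) := by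
    unfold Cfsg.charDegree
    show ⌊((η : G → ℂ) (f 1)).re⌋₊ = _
    rw [map_one]
  have hd2 : Cfsg.charDegree (ζ : H → ℂ) = Cfsg.charDegree χ := by
    rw [← hζeq]
    unfold Cfsg.charDegree
    show ⌊(χ (f 1)).re⌋₊ = _
    rw [map_one]
  have h2 : χ 1 = (η : G → ℂ) 1 := by
    rw [IsCharacter.apply_one_eq_charDegree hχ,
      IsCharacter.apply_one_eq_charDegree (IsIrrCharacter.isCharacter η.2)]
    have : Cfsg.charDegree χ = Cfsg.charDegree (η : G → ℂ) := by omega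
    rw [this]
  rw [IsCharacter.eq_of_constituent_of_apply_one_eq hχ η.2 hη h2]
  exact η.2

end general

section galInner

variable {G : Type*} [Group G] [Fintype G] (N : Subgroup G) [hN : N.Normal] [Fintype (G ⧸ N)]

/-- Gallagher's correspondence preserves multiplicities -/
theorem classInner_gal_gal {ϑ : G → ℂ} (hϑ : Cfsg.IsIrrCharacter G ϑ)
    (hϑN : Cfsg.IsIrrCharacter N (fun n : N => ϑ n))
    {B : G ⧸ N → ℂ} (hB : Cfsg.IsCharacter (G ⧸ N) B) {γ : G ⧸ N → ℂ}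
    (hγ : Cfsg.IsIrrCharacter (G ⧸ N) γ) :
    Cfsg.classInner (gal N ϑ B) (gal N ϑ γ) = Cfsg.classInner B γ := by
  classical
  haveI : Fintype (Cfsg.IrrCharacter (G ⧸ N)) := Fintype.ofFinite _
  obtain ⟨m, hm, hmi⟩ := IsCharacter.exists_mult hB
  have h1 : gal N ϑ B
      = ∑ θ : Cfsg.IrrCharacter (G ⧸ N), (m θ : ℂ) • gal N ϑ (θ : G ⧸ N → ℂ) := by
    funext g
    rw [gal_apply, apply_eq_sum_mult hm, Finset.sum_apply, Finset.sum_mul]
    apply Finset.sum_congr rfl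
    intro θ _
    rw [Pi.smul_apply, smul_eq_mul, gal_apply, mul_assoc]
  have h2 : ∀ θ : Cfsg.IrrCharacter (G ⧸ N),
      Cfsg.classInner ((m θ : ℂ) • gal N ϑ (θ : G ⧸ N → ℂ)) (gal N ϑ γ)
        = if θ = ⟨γ, hγ⟩ then (m θ : ℂ) else 0 := by
    intro θ
    rw [classInner_smul_left, classInner_isIrrCharacter (gal_isIrrCharacter N hϑ hϑN θ.2)
      (gal_isIrrCharacter N hϑ hϑN hγ)]
    by_cases hθ : θ = ⟨γ, hγ⟩
    · rw [if_pos hθ, if_pos (by rw [hθ]), mul_one]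
    · rw [if_neg hθ, if_neg, mul_zero]
      intro hcon
      apply hθ
      apply Subtype.ext
      exact gal_injective N hϑ hϑN θ.2 hγ hcon
  rw [h1, classInner_sum_left, Finset.sum_congr rfl (fun θ _ => h2 θ), Finset.sum_ite_eq',
    if_pos (Finset.mem_univ _), ← hmi]

end galInner

namespace Setup

variable {p : ℕ} {K C S : Type*} [Group K] [Group C] [Group S] (D : Setup p K C S)

/-- `ι` restricted to the preimage of `Q` -/
noncomputable def eQ : D.QC ≃* D.Q :=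
  MulEquiv.ofBijective ((D.ι.comp D.QC.subtype).codRestrict D.Q (fun q => q.2)) (by
    constructor
    · intro a b hab
      have h1 := congrArg Subtype.val hab
      exact Subtype.ext (D.inj h1)
    · intro q
      obtain ⟨c, hc⟩ := D.hQle q.2
      exact ⟨⟨c, by rw [mem_QC, hc]; exact q.2⟩, Subtype.ext hc⟩)

theorem eQ_coe (q : D.QC) : ((D.eQ q : D.Q) : K) = D.ι (q : C) := rfl

/-- `S` acts trivially on `C / Q` -/
theorem mk_φC (s : S) (c : C) :
    (QuotientGroup.mk (D.φC s c) : C ⧸ D.QC) = QuotientGroup.mk c := by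
  rw [QuotientGroup.eq]
  have h1 := (D.hfix (D.ι c)).mpr ⟨c, rfl⟩ s
  have h2 : D.φC s c * c⁻¹ ∈ D.QC := by
    rw [mem_QC, map_mul, map_inv, D.hι]
    exact h1
  have h3 := D.QC.inv_mem h2
  have h4 := (inferInstance : D.QC.Normal).conj_mem _ h3 c⁻¹
  simpa [mul_assoc, mul_inv_rev] using h4

variable [Fintype K] [Fintype C] {ϑ : K → ℂ}

theorem irr_comp_QC (hϑQ : Cfsg.IsIrrCharacter D.Q (fun q : D.Q => ϑ q)) :
    Cfsg.IsIrrCharacter D.QC (fun q : D.QC => ϑ (D.ι q)) :=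
  IsIrrCharacter.comp_mulEquiv D.eQ hϑQ

theorem irr_comp (hϑ : Cfsg.IsIrrCharacter K ϑ)
    (hϑQ : Cfsg.IsIrrCharacter D.Q (fun q : D.Q => ϑ q)) :
    Cfsg.IsIrrCharacter C (fun c => ϑ (D.ι c)) := by
  haveI : Fintype D.QC := Fintype.ofFinite _
  exact isIrrCharacter_of_comp D.QC.subtype
    (IsCharacter.comp D.ι (IsIrrCharacter.isCharacter hϑ)) (D.irr_comp_QC hϑQ)

theorem gal_comp (β : K ⧸ D.Q → ℂ) (c : C) :
    gal D.Q ϑ β (D.ι c) = gal D.QC (fun c => ϑ (D.ι c)) (fun q => β (D.ιbar q)) c := rfl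

/-- the multiplicities over an extendible character are those of the quotient -/
theorem rmult_gal [Fintype (K ⧸ D.Q)] [Fintype (C ⧸ D.QC)] (hϑ : Cfsg.IsIrrCharacter K ϑ)
    (hϑQ : Cfsg.IsIrrCharacter D.Q (fun q : D.Q => ϑ q)) {β : K ⧸ D.Q → ℂ}
    (hβ : Cfsg.IsIrrCharacter (K ⧸ D.Q) β) {γ : C ⧸ D.QC → ℂ}
    (hγ : Cfsg.IsIrrCharacter (C ⧸ D.QC) γ) :
    rmult D.ι (gal D.Q ϑ β) (gal D.QC (fun c => ϑ (D.ι c)) γ) = D.toPAct.mult β γ := by
  have hϑC := D.irr_comp hϑ hϑQ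
  have hϑCQ := D.irr_comp_QC hϑQ
  have h1 := rmult_spec D.ι (IsIrrCharacter.isCharacter (gal_isIrrCharacter D.Q hϑ hϑQ hβ))
    (gal_isIrrCharacter D.QC hϑC hϑCQ hγ)
  have h2 := D.toPAct.mult_spec (IsIrrCharacter.isCharacter hβ) hγ
  have h3 : (fun h => gal D.Q ϑ β (D.ι h))
      = gal D.QC (fun c => ϑ (D.ι c)) (fun q => β (D.ιbar q)) := by
    funext c
    rfl
  rw [h3, classInner_gal_gal D.QC hϑC hϑCQ
    (IsCharacter.comp D.ιbar (IsIrrCharacter.isCharacter hβ)) hγ] at h1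
  have h4 : (fun c => β (D.toPAct.ι c)) = fun q => β (D.ιbar q) := rfl
  rw [h4, h1] at h2
  exact_mod_cast h2

/-- invariance of a character over an invariant extendible character -/
theorem gal_inv_iff (hϑ : Cfsg.IsIrrCharacter K ϑ)
    (hϑQ : Cfsg.IsIrrCharacter D.Q (fun q : D.Q => ϑ q))
    (hϑS : ∀ (s : S) (k : K), ϑ (D.φK s k) = ϑ k) {β : K ⧸ D.Q → ℂ}
    (hβ : Cfsg.IsIrrCharacter (K ⧸ D.Q) β) :
    (∀ (s : S) (k : K), gal D.Q ϑ β (D.φK s k) = gal D.Q ϑ β k) ↔ D.toPAct.Inv β := by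
  constructor
  · intro h s q
    have hβ' : Cfsg.IsIrrCharacter (K ⧸ D.Q) (fun q => β (D.toPAct.φ s q)) :=
      IsIrrCharacter.comp_mulEquiv (D.toPAct.φ s : (K ⧸ D.Q) ≃* (K ⧸ D.Q)) hβ
    have h1 : gal D.Q ϑ (fun q => β (D.toPAct.φ s q)) = gal D.Q ϑ β := by
      funext k
      rw [gal_apply, ← h s k, gal_apply, hϑS, D.toPAct_φ_mk]
    exact congrFun (gal_injective D.Q hϑ hϑQ hβ' hβ h1) q
  · intro h s k
    rw [gal_apply, gal_apply, hϑS, ← D.toPAct_φ_mk, h s]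

/-- every character of `C` over the restricted extension is invariant -/
theorem galC_inv (hϑS : ∀ (s : S) (k : K), ϑ (D.φK s k) = ϑ k) (γ : C ⧸ D.QC → ℂ) (s : S)
    (c : C) :
    gal D.QC (fun c => ϑ (D.ι c)) γ (D.φC s c) = gal D.QC (fun c => ϑ (D.ι c)) γ c := by
  rw [gal_apply, gal_apply, D.mk_φC, D.hι, hϑS]

end Setup

end Cfsg.Agent.Lib.Helper8.RelGlau
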