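import Mathlib
import Cfsg.Agent.Lib.Helper8.GlauN1
import Cfsg.Agent.Lib.Helper8.GlauC4

/-! The Glauberman correspondence for `p`-groups and normal subgroups: compatibility with
"lying over". -/
set_option autoImplicit false

namespace Cfsg.Agent.Lib.Helper8.GlauP

open MulAction Cfsg.Agent.Lib.Helper6
open scoped ComplexConjugate

variable {p : ℕ} {M : Ideal Cfsg.AlgInt}
variable {G C T : Type*} [Group G] [Group C] [Group T]

namespace PAct

variable (A : PAct p G C T)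

/-- the induced action on an invariant subgroup -/
def sub [Finite G] (N : Subgroup G) (hN : ∀ (t : T), ∀ x ∈ N, A.φ t x ∈ N) :
    PAct p ↥N ↥(N.comap A.ι) T where
  φ := restrictHom A.φ N hN
  ι := (A.ι.comp (N.comap A.ι).subtype).codRestrict N (fun d => d.2)
  inj := by
    intro d d' h
    apply Subtype.ext
    apply A.inj
    exact congrArg Subtype.val h
  fix := by
    intro n
    constructor
    · intro h
      have h1 : ∀ t : T, A.φ t (n : G) = n := by
        intro t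
        have := congrArg Subtype.val (h t)
        exact this
      obtain ⟨c, hc⟩ := (A.fix (n : G)).mp h1
      have hcN : c ∈ N.comap A.ι := by
        rw [Subgroup.mem_comap, hc]
        exact n.2
      refine ⟨⟨c, hcN⟩, ?_⟩
      apply Subtype.ext
      exact hc
    · rintro ⟨d, rfl⟩ t
      apply Subtype.ext
      show A.φ t (A.ι d.1) = A.ι d.1
      exact A.φ_ι t d.1
  pgroup := A.pgroup
  cop := fun h => A.cop (h.trans (Subgroup.card_subgroup_dvd_card N))

theorem sub_ι_coe [Finite G] (N : Subgroup G) (hN : ∀ (t : T), ∀ x ∈ N, A.φ t x ∈ N)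
    (d : ↥(N.comap A.ι)) : (((A.sub N hN).ι d : ↥N) : G) = A.ι d.1 := rfl

theorem sub_φ_coe [Finite G] (N : Subgroup G) (hN : ∀ (t : T), ∀ x ∈ N, A.φ t x ∈ N)
    (t : T) (n : ↥N) : (((A.sub N hN).φ t n : ↥N) : G) = A.φ t n := rfl

theorem sub_φ_inv_coe [Finite G] (N : Subgroup G) (hN : ∀ (t : T), ∀ x ∈ N, A.φ t x ∈ N)
    (t : T) (n : ↥N) : ((((A.sub N hN).φ t)⁻¹ n : ↥N) : G) = (A.φ t)⁻¹ n := rfl

/-- invariance of the multiplicity of a constituent of the restriction of an invariant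
character -/
theorem rmult_subtype_smul [Fintype G] (N : Subgroup G) [Fintype N]
    (hN : ∀ (t : T), ∀ x ∈ N, A.φ t x ∈ N)
    {χ : G → ℂ} (hχ : A.Inv χ) (t : T) (θ : Cfsg.IrrCharacter N) :
    rmult N.subtype χ (((letI := (A.sub N hN).actIrr; t • θ) : Cfsg.IrrCharacter N) : N → ℂ)
      = rmult N.subtype χ (θ : N → ℂ) := by
  unfold rmult
  have e : ↥N ≃* ↥N := ((A.sub N hN).φ t)⁻¹
  have h1 := classInner_comp_mulEquiv (((A.sub N hN).φ t)⁻¹ : ↥N ≃* ↥N)
    (fun h : N => χ (N.subtype h)) (θ : N → ℂ)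
  have h2 : (fun h : N => (fun h : N => χ (N.subtype h)) ((((A.sub N hN).φ t)⁻¹ : ↥N ≃* ↥N) h))
      = fun h : N => χ (N.subtype h) := by
    funext h
    show χ ((A.φ t)⁻¹ (h : G)) = χ h
    have := hχ t ((A.φ t)⁻¹ (h : G))
    rw [MulAut.apply_inv_self] at this
    exact this.symm
  rw [h2] at h1
  have h3 : ((((letI := (A.sub N hN).actIrr; t • θ) : Cfsg.IrrCharacter N) : N → ℂ))
      = fun h : N => (θ : N → ℂ) ((((A.sub N hN).φ t)⁻¹ : ↥N ≃* ↥N) h) := rfl
  rw [h3, h1]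

/-- Compatibility of the correspondence with lying over -/
theorem over_of_glau_over [Fintype G] [Fintype C] [Finite T] (hM : Cfsg.IsPModular p M)
    (N : Subgroup G) [hNn : N.Normal] [Fintype N] [Fintype (N.comap A.ι)]
    (hN : ∀ (t : T), ∀ x ∈ N, A.φ t x ∈ N)
    (χ : Cfsg.IrrCharacter G) (hχ : A.Inv (χ : G → ℂ)) (θ : Cfsg.IrrCharacter N)
    (hθ : (A.sub N hN).Inv (θ : N → ℂ))
    (h : rmult (N.comap A.ι).subtype (A.glau χ : C → ℂ)
      (((A.sub N hN).glau θ : Cfsg.IrrCharacter ↥(N.comap A.ι)) : ↥(N.comap A.ι) → ℂ) ≠ 0) :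
    rmult N.subtype (χ : G → ℂ) (θ : N → ℂ) ≠ 0 := by
  classical
  haveI : Fact p.Prime := ⟨hM.1⟩
  haveI : Fintype (Cfsg.IrrCharacter C) := Fintype.ofFinite _
  haveI : Fintype (Cfsg.IrrCharacter N) := Fintype.ofFinite _
  set A' := A.sub N hN with hA'
  set β := A.glau χ with hβ
  set θs := A'.glau θ with hθs
  have hDn : (N.comap A.ι).Normal := hNn.comap A.ι
  have hχc := IsIrrCharacter.isCharacter χ.2
  -- two decompositions
  have hcomp : A.ι.comp (N.comap A.ι).subtype = N.subtype.comp A'.ι := rfl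
  have h1 := rmult_comp A.ι (N.comap A.ι).subtype hχc θs.2
  have h2 := rmult_comp N.subtype A'.ι hχc θs.2
  rw [hcomp] at h1
  rw [h2] at h1
  -- first sum modulo p
  have hsum1 : (∑ η : Cfsg.IrrCharacter C,
      rmult A.ι (χ : G → ℂ) (η : C → ℂ) * rmult (N.comap A.ι).subtype (η : C → ℂ) (θs : ↥(N.comap A.ι) → ℂ))
      ≡ rmult A.ι (χ : G → ℂ) (β : C → ℂ) * rmult (N.comap A.ι).subtype (β : C → ℂ) (θs : ↥(N.comap A.ι) → ℂ) [MOD p] := by
    rw [← Finset.add_sum_erase Finset.univ _ (Finset.mem_univ β)]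
    have h3 : p ∣ ∑ η ∈ Finset.univ.erase β,
        rmult A.ι (χ : G → ℂ) (η : C → ℂ) * rmult (N.comap A.ι).subtype (η : C → ℂ) (θs : ↥(N.comap A.ι) → ℂ) := by
      apply Finset.dvd_sum
      intro η hη
      have hne : η ≠ β := (Finset.mem_erase.mp hη).1
      have h4 : p ∣ A.mult (χ : G → ℂ) (η : C → ℂ) := by
        by_contra hcon
        exact hne ((A.glau_eq_iff hM χ hχ η).mpr hcon).symm
      exact Dvd.dvd.mul_right h4 _
    obtain ⟨k, hk⟩ := h3
    rw [hk]
    exact (Nat.modEq_iff_dvd' (Nat.le_add_right _ _)).mpr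
      (by rw [Nat.add_sub_cancel_left]; exact dvd_mul_right _ _) |>.symm
  -- second sum modulo p
  letI := A'.actIrr
  set f : Cfsg.IrrCharacter N → ℕ := fun η =>
    rmult N.subtype (χ : G → ℂ) (η : N → ℂ) * rmult A'.ι (η : N → ℂ) (θs : ↥(N.comap A.ι) → ℂ) with hf
  have hfinv : ∀ (t : T) (η : Cfsg.IrrCharacter N), f (t • η) = f η := by
    intro t η
    simp only [hf]
    rw [A.rmult_subtype_smul N hN hχ t η]
    congr 1
    exact A'.mult_smul t η (θs : ↥(N.comap A.ι) → ℂ)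
  have hsum2 := sum_modEq_sum_fixed A'.pgroup f hfinv
  have hsum3 : ∑ x ∈ Finset.univ.filter (· ∈ fixedPoints T (Cfsg.IrrCharacter N)), f x
      ≡ f θ [MOD p] := by
    have hθfix : θ ∈ Finset.univ.filter (· ∈ fixedPoints T (Cfsg.IrrCharacter N)) := by
      rw [Finset.mem_filter]
      exact ⟨Finset.mem_univ _, (A'.mem_fixedPoints_irr_iff θ).mpr hθ⟩
    rw [← Finset.add_sum_erase _ _ hθfix]
    have h3 : p ∣ ∑ η ∈ (Finset.univ.filter
        (· ∈ fixedPoints T (Cfsg.IrrCharacter N))).erase θ, f η := by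
      apply Finset.dvd_sum
      intro η hη
      have hne : η ≠ θ := (Finset.mem_erase.mp hη).1
      have hηfix : A'.Inv (η : N → ℂ) :=
        (A'.mem_fixedPoints_irr_iff η).mp (Finset.mem_filter.mp (Finset.mem_erase.mp hη).2).2
      have h4 : p ∣ A'.mult (η : N → ℂ) (θs : ↥(N.comap A.ι) → ℂ) :=
        A'.dvd_mult_of_ne hM θ η hθ hηfix θs hne.symm (A'.glau_spec θ)
      exact Dvd.dvd.mul_left h4 _
    obtain ⟨k, hk⟩ := h3
    rw [hk]
    exact (Nat.modEq_iff_dvd' (Nat.le_add_right _ _)).mpr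
      (by rw [Nat.add_sub_cancel_left]; exact dvd_mul_right _ _) |>.symm
  intro h0
  have hfθ : f θ = 0 := by
    simp only [hf]
    rw [h0, zero_mul]
  have h5 : (∑ η : Cfsg.IrrCharacter N, f η) ≡ 0 [MOD p] := by
    rw [← hfθ]
    exact hsum2.trans hsum3
  have h6 : p ∣ rmult A.ι (χ : G → ℂ) (β : C → ℂ) * rmult (N.comap A.ι).subtype (β : C → ℂ) (θs : ↥(N.comap A.ι) → ℂ) := by
    apply (Nat.modEq_zero_iff_dvd).mp
    refine hsum1.symm.trans ?_
    rw [← h1]
    exact h5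
  rcases (Nat.Prime.dvd_mul hM.1).mp h6 with h7 | h7
  · exact A.glau_spec χ h7
  · have h8 := rmult_dvd_charDegree (N.comap A.ι) hDn β θs h
    exact A.not_dvd_degree_C β (h7.trans h8)

end PAct

end Cfsg.Agent.Lib.Helper8.GlauP
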