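import Mathlib
import Cfsg.Agent.Lib.Helper8.GlauN2

/-! Invariant characters over invariant characters of normal subgroups: the induction. -/
set_option autoImplicit false

namespace Cfsg.Agent.Lib.Helper8.GlauP

open MulAction Cfsg.Agent.Lib.Helper6
open scoped ComplexConjugate

universe u v

section nat

variable {p : ℕ} {M : Ideal Cfsg.AlgInt}
variable {G C T : Type*} [Group G] [Group C] [Group T]
variable {A : PAct p G C T} {S : Type*} [Group S]

namespace PAct

/-- the correspondent of an `S`-invariant character is `S`-invariant -/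
theorem Ext.glau_inv [Fintype G] [Fintype C] [Finite T] (E : A.Ext S)
    (hM : Cfsg.IsPModular p M) (χ : Cfsg.IrrCharacter G) (hχ : InvChar E.φS (χ : G → ℂ)) :
    InvChar E.ψS (A.glau χ : C → ℂ) := by
  intro s c
  set β' : Cfsg.IrrCharacter C := ⟨fun c => (A.glau χ : C → ℂ) (E.ψS s c),
    IsIrrCharacter.comp_mulEquiv (E.ψS s) (A.glau χ).2⟩ with hβ'
  have h1 : A.mult (χ : G → ℂ) (β' : C → ℂ) = A.mult (χ : G → ℂ) (A.glau χ : C → ℂ) := by
    have h2 := A.mult_comp (E.φS s) (E.ψS s) (E.compat s) (χ : G → ℂ) (A.glau χ : C → ℂ)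
    have h3 : (fun g => (χ : G → ℂ) (E.φS s g)) = (χ : G → ℂ) := by
      funext g
      exact hχ s g
    rw [h3] at h2
    exact h2
  have h4 : ¬ p ∣ A.mult (χ : G → ℂ) (β' : C → ℂ) := by rw [h1]; exact A.glau_spec χ
  have h5 := A.unique_beta hM χ (E.inv_of_invChar hχ) β' (A.glau χ) h4 (A.glau_spec χ)
  have := congrFun (congrArg Subtype.val h5) c
  exact this

/-- a `T`-invariant character with `S`-invariant correspondent is `S`-invariant -/
theorem Ext.inv_of_glau_inv [Fintype G] [Fintype C] [Finite T] (E : A.Ext S)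
    (hM : Cfsg.IsPModular p M) (χ : Cfsg.IrrCharacter G) (hχ : A.Inv (χ : G → ℂ))
    (hβ : InvChar E.ψS (A.glau χ : C → ℂ)) : InvChar E.φS (χ : G → ℂ) := by
  intro s g
  set χ' : Cfsg.IrrCharacter G := ⟨fun g => (χ : G → ℂ) (E.φS s g),
    IsIrrCharacter.comp_mulEquiv (E.φS s) χ.2⟩ with hχ'
  have h1 : A.mult (χ' : G → ℂ) (A.glau χ : C → ℂ) = A.mult (χ : G → ℂ) (A.glau χ : C → ℂ) := by
    have h2 := A.mult_comp (E.φS s) (E.ψS s) (E.compat s) (χ : G → ℂ) (A.glau χ : C → ℂ)
    have h3 : (fun c => (A.glau χ : C → ℂ) (E.ψS s c)) = (A.glau χ : C → ℂ) := by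
      funext c
      exact hβ s c
    rw [h3] at h2
    exact h2
  have h4 : ¬ p ∣ A.mult (χ' : G → ℂ) (A.glau χ : C → ℂ) := by rw [h1]; exact A.glau_spec χ
  have h5 : χ = χ' := by
    by_contra hne
    exact h4 (A.dvd_mult_of_ne hM χ χ' hχ (E.inv_comp hχ s) (A.glau χ) hne (A.glau_spec χ))
  have := congrFun (congrArg Subtype.val h5) g
  exact this.symm

end PAct

end nat

/-- Isaacs 13.31 for solvable `S`: an invariant character of an invariant normal subgroup lies
under an invariant character. -/
theorem exists_invChar_over (n : ℕ) :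
    ∀ (S : Type u) [Group S] [Finite S] (G : Type v) [Group G] [Fintype G] (φ : S →* MulAut G)
      (N : Subgroup G) [Fintype N] (_ : N.Normal) (hNs : ∀ (s : S), ∀ x ∈ N, φ s x ∈ N),
      Nat.card S = n → Group.IsSolvable S → (Nat.card G).Coprime (Nat.card S) →
      ∀ θ : Cfsg.IrrCharacter N, InvChar (restrictHom φ N hNs) (θ : N → ℂ) →
      ∃ χ : Cfsg.IrrCharacter G, InvChar φ (χ : G → ℂ) ∧
        rmult N.subtype (χ : G → ℂ) (θ : N → ℂ) ≠ 0 := by
  induction n using Nat.strong_induction_on with
  | _ n ih =>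
  intro S _ _ G _ _ φ N _ hNn hNs hn hsol hcop θ hθ
  classical
  rcases subsingleton_or_nontrivial S with hS | hS
  · -- trivial group
    have h1 : ∀ s : S, φ s = 1 := by
      intro s
      rw [Subsingleton.elim s 1, map_one]
    obtain ⟨χ, hχ⟩ := exists_rmult_ne_zero N θ
    refine ⟨χ, ?_, hχ⟩
    intro s g
    rw [h1 s, MulAut.one_apply]
  · -- nontrivial: pick a normal p-subgroup
    obtain ⟨p, T, hp, hTn, hTne, hTp⟩ := exists_normal_pSubgroup S
    haveI : Fact p.Prime := ⟨hp⟩
    haveI := hTn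
    have hpT : p ∣ Nat.card T := by
      rcases hTp.card_eq_or_dvd with h | h
      · exact absurd (Subgroup.eq_bot_of_card_eq T h) hTne
      · exact h
    have hpS : p ∣ Nat.card S := hpT.trans (Subgroup.card_subgroup_dvd_card T)
    have hpG : ¬ p ∣ Nat.card G := by
      intro h
      have h2 := Nat.dvd_gcd h hpS
      rw [Nat.Coprime] at hcop
      rw [hcop] at h2
      exact hp.one_lt.ne' (Nat.dvd_one.mp h2)
    obtain ⟨M, hM⟩ := exists_isPModular p
    set C₁ : Subgroup G := fixedSubgroup φ T with hC₁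
    haveI : Fintype C₁ := Fintype.ofFinite _
    let A : PAct p G ↥C₁ ↥T :=
      { φ := φ.comp T.subtype
        ι := C₁.subtype
        inj := Subtype.val_injective
        fix := by
          intro g
          rw [Subgroup.coe_subtype, Subtype.range_coe]
          exact Iff.rfl
        pgroup := hTp
        cop := hpG }
    set ψ : S →* MulAut ↥C₁ := restrictHom φ C₁ (fixedSubgroup_stable φ T) with hψ
    have hnormT : ∀ (s : S) (t : T), s⁻¹ * (t : S) * s ∈ T := by
      intro s t
      have := hTn.conj_mem t.1 t.2 s⁻¹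
      rwa [inv_inv] at this
    have hnormφ : ∀ (s : S) (t : T) (g : G),
        φ (t : S) (φ s g) = φ s (φ (s⁻¹ * (t : S) * s) g) := by
      intro s t g
      rw [← MulAut.mul_apply, ← MulAut.mul_apply, ← map_mul, ← map_mul]
      congr 2
      group
    let E : A.Ext S :=
      { φS := φ
        ψS := ψ
        compat := fun s c => rfl
        through := fun t => ⟨t.1, rfl⟩
        norm := by
          intro s t
          exact ⟨⟨_, hnormT s t⟩, fun g => hnormφ s t g⟩ }
    have hker : T ≤ ψ.ker := by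
      intro t ht
      rw [MonoidHom.mem_ker]
      apply MulEquiv.ext
      intro c
      apply Subtype.ext
      rw [hψ, restrictHom_apply, MulAut.one_apply]
      exact c.2 ⟨t, ht⟩
    set φbar : S ⧸ T →* MulAut ↥C₁ := QuotientGroup.lift T ψ hker with hφbar
    have hbar : ∀ s : S, φbar (QuotientGroup.mk s) = ψ s := fun s => rfl
    -- the normal subgroup side
    have hNT : ∀ (t : T), ∀ x ∈ N, A.φ t x ∈ N := fun t x hx => hNs t.1 x hx
    set D : Subgroup ↥C₁ := N.comap A.ι with hD
    haveI : Fintype D := Fintype.ofFinite _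
    have hDn : D.Normal := hNn.comap A.ι
    have hDs : ∀ (s : S), ∀ x ∈ D, ψ s x ∈ D := by
      intro s x hx
      rw [hD, Subgroup.mem_comap] at hx ⊢
      exact hNs s _ hx
    let A' : PAct p ↥N ↥D ↥T := A.sub N hNT
    let E' : A'.Ext S :=
      { φS := restrictHom φ N hNs
        ψS := restrictHom ψ D hDs
        compat := fun s c => rfl
        through := fun t => ⟨t.1, rfl⟩
        norm := by
          intro s t
          refine ⟨⟨_, hnormT s t⟩, fun g => ?_⟩
          apply Subtype.ext
          exact hnormφ s t g }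
    have hθT : A'.Inv (θ : N → ℂ) := E'.inv_of_invChar hθ
    set θs : Cfsg.IrrCharacter D := A'.glau θ with hθs
    have hθsS : InvChar E'.ψS (θs : D → ℂ) := E'.glau_inv hM θ hθ
    have hDbar : ∀ (q : S ⧸ T), ∀ x ∈ D, φbar q x ∈ D := by
      intro q x hx
      obtain ⟨s, rfl⟩ := QuotientGroup.mk_surjective q
      rw [hbar]
      exact hDs s x hx
    have hθsbar : InvChar (restrictHom φbar D hDbar) (θs : D → ℂ) := by
      intro q d
      obtain ⟨s, rfl⟩ := QuotientGroup.mk_surjective q
      exact hθsS s d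
    have hcardlt : Nat.card (S ⧸ T) < n := by
      have h1 := Subgroup.card_eq_card_quotient_mul_card_subgroup T
      have h2 : 1 < Nat.card T := (Subgroup.one_lt_card_iff_ne_bot (H := T)).mpr hTne
      have h3 : 0 < Nat.card (S ⧸ T) := Nat.card_pos
      rw [← hn, h1]
      nlinarith
    have hsolq : Group.IsSolvable (S ⧸ T) := by
      haveI := hsol
      infer_instance
    have hcopq : (Nat.card ↥C₁).Coprime (Nat.card (S ⧸ T)) := by
      apply Nat.Coprime.coprime_dvd_left (Subgroup.card_subgroup_dvd_card C₁)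
      apply Nat.Coprime.coprime_dvd_right _ hcop
      rw [Subgroup.card_eq_card_quotient_mul_card_subgroup T]
      exact dvd_mul_right _ _
    obtain ⟨β, hβinv, hβover⟩ :=
      ih _ hcardlt (S ⧸ T) ↥C₁ φbar D hDn hDbar rfl hsolq hcopq θs hθsbar
    have hβS : InvChar E.ψS (β : ↥C₁ → ℂ) := by
      intro s c
      have := hβinv (QuotientGroup.mk s) c
      rwa [hbar] at this
    obtain ⟨χ, hχT, hχβ⟩ := A.glau_surj hM β
    have hχS : InvChar φ (χ : G → ℂ) := by
      apply E.inv_of_glau_inv hM χ hχT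
      rw [hχβ]
      exact hβS
    refine ⟨χ, hχS, ?_⟩
    apply A.over_of_glau_over hM N hNT χ hχT θ hθT
    rw [hχβ]
    exact hβover

end Cfsg.Agent.Lib.Helper8.GlauP
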