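import Mathlib
import Cfsg.Agent.Lib.Helper8.GlauL2
import Cfsg.Agent.Lib.Helper8.GlauN3

/-! Invariant constituents of the restriction of an invariant character (Isaacs 13.27). -/
set_option autoImplicit false

namespace Cfsg.Agent.Lib.Helper8.GlauL

open MulAction Cfsg.Agent.Lib.Helper6 Cfsg.Agent.Lib.Helper8.GlauP
open scoped ComplexConjugate

universe u v

/-- the action on irreducible characters induced by an action by automorphisms -/
@[reducible] noncomputable def irrAct {A H : Type*} [Group A] [Group H] [Finite H]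
    (ρ : A →* MulAut H) : MulAction A (Cfsg.IrrCharacter H) where
  smul s χ := ⟨fun g => (χ : H → ℂ) ((ρ s)⁻¹ g),
    IsIrrCharacter.comp_mulEquiv ((ρ s)⁻¹ : MulAut H) χ.2⟩
  one_smul χ := by
    apply Subtype.ext
    funext g
    show (χ : H → ℂ) ((ρ 1)⁻¹ g) = (χ : H → ℂ) g
    rw [map_one, inv_one, MulAut.one_apply]
  mul_smul s t χ := by
    apply Subtype.ext
    funext g
    show (χ : H → ℂ) ((ρ (s * t))⁻¹ g) = (χ : H → ℂ) ((ρ t)⁻¹ ((ρ s)⁻¹ g))
    rw [map_mul, mul_inv_rev, MulAut.mul_apply]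

theorem irrAct_apply {A H : Type*} [Group A] [Group H] [Finite H] (ρ : A →* MulAut H) (a : A)
    (χ : Cfsg.IrrCharacter H) (h : H) :
    (((letI := irrAct ρ; a • χ) : Cfsg.IrrCharacter H) : H → ℂ) h
      = (χ : H → ℂ) ((ρ a)⁻¹ h) := rfl

theorem irrAct_fixed_iff {A H : Type*} [Group A] [Group H] [Finite H] (ρ : A →* MulAut H)
    (χ : Cfsg.IrrCharacter H) :
    (∀ a : A, (letI := irrAct ρ; a • χ) = χ) ↔ InvChar ρ (χ : H → ℂ) := by
  constructor
  · intro h s g
    have h1 := h s⁻¹
    have h2 := congrFun (congrArg Subtype.val h1) g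
    rw [irrAct_apply, map_inv, inv_inv] at h2
    exact h2
  · intro h s
    apply Subtype.ext
    funext g
    rw [irrAct_apply]
    have := h s ((ρ s)⁻¹ g)
    rw [MulAut.apply_inv_self] at this
    exact this.symm

variable {S : Type u} {G : Type v} [Group S] [Group G]

/-- the conjugation action of `G` on a normal subgroup -/
def conjN (N : Subgroup G) [N.Normal] : G →* MulAut N := MulAut.conjNormal

theorem conjN_inv_coe (N : Subgroup G) [N.Normal] (g : G) (n : N) :
    (((conjN N g)⁻¹ n : N) : G) = g⁻¹ * n * g := by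
  rw [← map_inv]
  show (MulAut.conjNormal g⁻¹ n : G) = _
  rw [MulAut.conjNormal_apply, inv_inv]

/-- invariance of multiplicities under automorphisms fixing the big character -/
theorem rmult_comp_aut [Fintype G] (N : Subgroup G) [Fintype N] (a : MulAut G) (b : MulAut N)
    (hab : ∀ n : N, ((b n : N) : G) = a n) {χ : G → ℂ} (hχ : ∀ g, χ (a g) = χ g)
    (θ : N → ℂ) :
    rmult N.subtype χ (fun n => θ (b n)) = rmult N.subtype χ θ := by
  unfold rmult
  have h1 := classInner_comp_mulEquiv (b : ↥N ≃* ↥N) (fun h : N => χ (N.subtype h)) θ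
  have h2 : (fun h : N => (fun h : N => χ (N.subtype h)) ((b : ↥N ≃* ↥N) h))
      = fun h : N => χ (N.subtype h) := by
    funext h
    show χ ((b h : N) : G) = χ h
    rw [hab, hχ]
  rw [h2] at h1
  rw [h1]

/-- Isaacs 13.27: an invariant character has an invariant constituent on an invariant normal
subgroup of coprime index. -/
theorem exists_invChar_under [Finite S] [Fintype G] (φ : S →* MulAut G)
    (N : Subgroup G) [Fintype N] [hNn : N.Normal] (hNs : ∀ (s : S), ∀ x ∈ N, φ s x ∈ N)
    (hcop : N.index.Coprime (Nat.card S))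
    (hsolv : Group.IsSolvable (G ⧸ N) ∨ Group.IsSolvable S)
    (χ : Cfsg.IrrCharacter G) (hχ : InvChar φ (χ : G → ℂ)) :
    ∃ θ : Cfsg.IrrCharacter N, rmult N.subtype (χ : G → ℂ) (θ : N → ℂ) ≠ 0 ∧
      InvChar (restrictHom φ N hNs) (θ : N → ℂ) := by
  classical
  set X := {θ : Cfsg.IrrCharacter N // rmult N.subtype (χ : G → ℂ) (θ : N → ℂ) ≠ 0} with hX
  have hχcf := IsIrrCharacter.isClassFunction χ.2
  have hχc := IsIrrCharacter.isCharacter χ.2
  -- the two actions on the irreducible characters of `N`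
  letI aG : MulAction G (Cfsg.IrrCharacter N) := irrAct (conjN N)
  letI aS : MulAction S (Cfsg.IrrCharacter N) := irrAct (restrictHom φ N hNs)
  have hGmult : ∀ (g : G) (θ : Cfsg.IrrCharacter N),
      rmult N.subtype (χ : G → ℂ) ((g • θ : Cfsg.IrrCharacter N) : N → ℂ)
        = rmult N.subtype (χ : G → ℂ) (θ : N → ℂ) := by
    intro g θ
    apply rmult_comp_aut N (MulAut.conj g⁻¹) ((conjN N g)⁻¹)
    · intro n
      rw [conjN_inv_coe, MulAut.conj_apply, inv_inv]
    · intro x
      rw [MulAut.conj_apply, inv_inv]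
      have := hχcf x g⁻¹
      rw [inv_inv] at this
      exact this
  have hSmult : ∀ (s : S) (θ : Cfsg.IrrCharacter N),
      rmult N.subtype (χ : G → ℂ) ((s • θ : Cfsg.IrrCharacter N) : N → ℂ)
        = rmult N.subtype (χ : G → ℂ) (θ : N → ℂ) := by
    intro s θ
    apply rmult_comp_aut N ((φ s)⁻¹) ((restrictHom φ N hNs s)⁻¹)
    · intro n
      rw [← map_inv, ← map_inv]
      rfl
    · intro x
      have := hχ s ((φ s)⁻¹ x)
      rw [MulAut.apply_inv_self] at this
      exact this.symm
  letI : MulAction G X :=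
    { smul := fun g x => ⟨g • x.1, by rw [hGmult]; exact x.2⟩
      one_smul := fun x => Subtype.ext (one_smul G x.1)
      mul_smul := fun g h x => Subtype.ext (mul_smul g h x.1) }
  letI : MulAction S X :=
    { smul := fun s x => ⟨s • x.1, by rw [hSmult]; exact x.2⟩
      one_smul := fun x => Subtype.ext (one_smul S x.1)
      mul_smul := fun s t x => Subtype.ext (mul_smul s t x.1) }
  have hGsmul : ∀ (g : G) (x : X), ((g • x : X) : Cfsg.IrrCharacter N) = g • x.1 := fun _ _ => rfl
  have hSsmul : ∀ (s : S) (x : X), ((s • x : X) : Cfsg.IrrCharacter N) = s • x.1 := fun _ _ => rfl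
  have hGapp : ∀ (g : G) (θ : Cfsg.IrrCharacter N) (n : N),
      ((g • θ : Cfsg.IrrCharacter N) : N → ℂ) n = (θ : N → ℂ) ((conjN N g)⁻¹ n) := fun _ _ _ => rfl
  have hSapp : ∀ (s : S) (θ : Cfsg.IrrCharacter N) (n : N),
      ((s • θ : Cfsg.IrrCharacter N) : N → ℂ) n
        = (θ : N → ℂ) ((restrictHom φ N hNs s)⁻¹ n) := fun _ _ _ => rfl
  -- nonempty
  haveI : Nonempty X := by
    have h1 : (fun n : N => (χ : G → ℂ) n) 1 ≠ 0 := by
      show (χ : G → ℂ) ((1 : N) : G) ≠ 0
      rw [Subgroup.coe_one]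
      exact IsIrrCharacter.apply_one_ne_zero χ.2
    obtain ⟨θ, hθ⟩ := IsCharacter.exists_constituent (IsCharacter.restrict N hχc) h1
    refine ⟨⟨θ, ?_⟩⟩
    intro h0
    apply hθ
    have h2 := rmult_spec N.subtype hχc θ.2
    rw [h0] at h2
    simpa using h2
  -- the hypotheses of Glauberman's lemma
  have hNtriv : ∀ n ∈ N, ∀ x : X, n • x = x := by
    intro n hn x
    apply Subtype.ext
    rw [hGsmul]
    apply Subtype.ext
    funext m
    rw [hGapp]
    have h1 := IsIrrCharacter.isClassFunction x.1.2 m (⟨n, hn⟩⁻¹ : N)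
    rw [← h1]
    refine congrArg _ (Subtype.ext ?_)
    rw [conjN_inv_coe]
    simp
  have hcompat : ∀ (s : S) (g : G) (x : X), s • (g • x) = (φ s g) • (s • x) := by
    intro s g x
    apply Subtype.ext
    rw [hSsmul, hGsmul, hGsmul, hSsmul]
    apply Subtype.ext
    funext m
    rw [hSapp, hGapp, hGapp, hSapp]
    refine congrArg _ (Subtype.ext ?_)
    rw [conjN_inv_coe]
    have e1 : ∀ n : N, (((restrictHom φ N hNs s)⁻¹ n : N) : G) = (φ s)⁻¹ n := by
      intro n
      rw [← map_inv, ← map_inv]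
      rfl
    rw [e1, e1, conjN_inv_coe, map_mul, map_mul, map_inv, MulAut.inv_apply_self]
  have htrans : MulAction.IsPretransitive G X := by
    constructor
    intro x y
    have hx : Cfsg.classInner (fun n : N => (χ : G → ℂ) n) (x.1 : N → ℂ) ≠ 0 := by
      have h2 := rmult_spec N.subtype hχc x.1.2
      intro h0
      apply x.2
      have e1 : (fun h : N => (χ : G → ℂ) (N.subtype h)) = fun n : N => (χ : G → ℂ) n := rfl
      rw [e1, h0] at h2
      exact_mod_cast h2.symm
    have hy : Cfsg.classInner (fun n : N => (χ : G → ℂ) n) (y.1 : N → ℂ) ≠ 0 := by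
      have h2 := rmult_spec N.subtype hχc y.1.2
      intro h0
      apply y.2
      have e1 : (fun h : N => (χ : G → ℂ) (N.subtype h)) = fun n : N => (χ : G → ℂ) n := rfl
      rw [e1, h0] at h2
      exact_mod_cast h2.symm
    obtain ⟨g, hg⟩ := exists_conjFun_eq_of_constituents N hNn χ.2 x.1.2 y.1.2 hx hy
    refine ⟨g⁻¹, ?_⟩
    apply Subtype.ext
    rw [hGsmul]
    apply Subtype.ext
    rw [hg]
    funext m
    rw [hGapp, conjFun_apply]
    refine congrArg _ (Subtype.ext ?_)
    rw [conjN_inv_coe, inv_inv]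
  obtain ⟨x, hx⟩ := exists_fixed_quot φ N hNs hNtriv hcompat hcop hsolv htrans
  refine ⟨x.1, x.2, ?_⟩
  apply (irrAct_fixed_iff (restrictHom φ N hNs) x.1).mp
  intro s
  have := congrArg Subtype.val (hx s)
  rw [hSsmul] at this
  exact this

end Cfsg.Agent.Lib.Helper8.GlauL
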