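import Mathlib
import Cfsg.Agent.Lib.Helper8.GlauL3

/-! Invariant characters over invariant characters of a normal subgroup with abelian quotient. -/
set_option autoImplicit false

namespace Cfsg.Agent.Lib.Helper8.GlauL

open MulAction Cfsg.Agent.Lib.Helper6 Cfsg.Agent.Lib.Helper8.GlauP
open scoped ComplexConjugate

universe u v

section dual

/-- orthogonality for the dual of a finite abelian group -/
theorem sum_dual_apply (A : Type*) [CommGroup A] [Finite A] [Fintype (A →* ℂˣ)] (a : A)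
    [Decidable (a = 1)] :
    ∑ lam : A →* ℂˣ, ((lam a : ℂˣ) : ℂ) = if a = 1 then (Nat.card A : ℂ) else 0 := by
  classical
  by_cases ha : a = 1
  · rw [if_pos ha, ha]
    simp only [map_one, Units.val_one, Finset.sum_const, Finset.card_univ, nsmul_eq_mul, mul_one]
    rw [← Nat.card_eq_fintype_card, CommGroup.card_monoidHom_of_hasEnoughRootsOfUnity A ℂ]
  · rw [if_neg ha]
    obtain ⟨l0, hl0⟩ := CommGroup.exists_apply_ne_one_of_hasEnoughRootsOfUnity A ℂ ha
    have h1 : ∑ lam : A →* ℂˣ, ((lam a : ℂˣ) : ℂ)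
        = ((l0 a : ℂˣ) : ℂ) * ∑ lam : A →* ℂˣ, ((lam a : ℂˣ) : ℂ) := by
      rw [Finset.mul_sum]
      rw [← Equiv.sum_comp (Equiv.mulLeft l0) (fun lam : A →* ℂˣ => ((lam a : ℂˣ) : ℂ))]
      apply Finset.sum_congr rfl
      intro lam _
      simp only [Equiv.coe_mulLeft, MonoidHom.mul_apply, Units.val_mul]
    have h2 : (1 - ((l0 a : ℂˣ) : ℂ)) * ∑ lam : A →* ℂˣ, ((lam a : ℂˣ) : ℂ) = 0 := by
      rw [sub_mul, one_mul, ← h1, sub_self]
    rcases mul_eq_zero.mp h2 with h3 | h3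
    · exfalso
      apply hl0
      apply Units.ext
      rw [Units.val_one]
      exact (sub_eq_zero.mp h3).symm
    · exact h3

theorem norm_hom_apply {A : Type*} [Group A] [Finite A] (lam : A →* ℂˣ) (a : A) :
    ‖((lam a : ℂˣ) : ℂ)‖ = 1 := by
  apply Complex.norm_eq_one_of_pow_eq_one (n := Nat.card A)
  · rw [← Units.val_pow_eq_pow_val, ← map_pow, pow_card_eq_one', map_one, Units.val_one]
  · exact Nat.card_pos.ne'

theorem conj_hom_apply {A : Type*} [Group A] [Finite A] (lam : A →* ℂˣ) (a : A) :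
    conj ((lam a : ℂˣ) : ℂ) = ((lam⁻¹ a : ℂˣ) : ℂ) := by
  rw [← Complex.inv_eq_conj (norm_hom_apply lam a)]
  simp

end dual

section linmul

variable {G : Type*} [Group G] [Fintype G]

/-- multiplying an irreducible character by a linear character -/
noncomputable def linMul (lam : G →* ℂˣ) (χ : Cfsg.IrrCharacter G) : Cfsg.IrrCharacter G :=
  ⟨fun g => ((lam g : ℂˣ) : ℂ) * (χ : G → ℂ) g, by
    have hc : Cfsg.IsCharacter G (fun g => ((lam g : ℂˣ) : ℂ) * (χ : G → ℂ) g) :=
      IsCharacter.mul (IsIrrCharacter.isCharacter (isIrrCharacter_of_hom lam))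
        (IsIrrCharacter.isCharacter χ.2)
    apply isIrrCharacter_of_classInner_self_eq_one hc
    have h1 := classInner_isIrrCharacter χ.2 χ.2
    rw [if_pos rfl] at h1
    rw [← h1]
    unfold Cfsg.classInner
    congr 1
    apply Finset.sum_congr rfl
    intro g _
    rw [map_mul]
    have h2 : ((lam g : ℂˣ) : ℂ) * conj ((lam g : ℂˣ) : ℂ) = 1 := by
      rw [Complex.mul_conj, Complex.normSq_eq_norm_sq, norm_hom_apply]
      simp
    calc ((lam g : ℂˣ) : ℂ) * (χ : G → ℂ) g * (conj ((lam g : ℂˣ) : ℂ) * conj ((χ : G → ℂ) g))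
        = (((lam g : ℂˣ) : ℂ) * conj ((lam g : ℂˣ) : ℂ)) * ((χ : G → ℂ) g * conj ((χ : G → ℂ) g)) := by
          ring
      _ = (χ : G → ℂ) g * conj ((χ : G → ℂ) g) := by rw [h2, one_mul]⟩

theorem linMul_apply (lam : G →* ℂˣ) (χ : Cfsg.IrrCharacter G) (g : G) :
    (linMul lam χ : G → ℂ) g = ((lam g : ℂˣ) : ℂ) * (χ : G → ℂ) g := rfl

end linmul

end Cfsg.Agent.Lib.Helper8.GlauL
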