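import Mathlib
import Cfsg.Agent.Lib.Helper8.GlauL4

/-! Invariant characters over invariant characters of a normal subgroup with abelian quotient:
the Glauberman-lemma argument with the dual group. -/
set_option autoImplicit false

namespace Cfsg.Agent.Lib.Helper8.GlauL

open MulAction Cfsg.Agent.Lib.Helper6 Cfsg.Agent.Lib.Helper8.GlauP
open scoped ComplexConjugate

universe u v

variable {S : Type u} {G : Type v} [Group S] [Group G]

/-- a quotient containing the commutators is commutative -/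
@[reducible] def quotCommGroup (M : Subgroup G) [M.Normal]
    (hab : ∀ a b : G, a * b * a⁻¹ * b⁻¹ ∈ M) : CommGroup (G ⧸ M) :=
  { (inferInstance : Group (G ⧸ M)) with
    mul_comm := by
      intro x y
      obtain ⟨a, rfl⟩ := QuotientGroup.mk_surjective x
      obtain ⟨b, rfl⟩ := QuotientGroup.mk_surjective y
      rw [← QuotientGroup.mk_mul, ← QuotientGroup.mk_mul, QuotientGroup.eq]
      have := hab b⁻¹ a⁻¹
      simpa [mul_assoc] using this }

/-- the action on the dual group -/
def dualHom {A : Type*} [Group A] (ρ : S →* MulAut A) : S →* MulAut (A →* ℂˣ) where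
  toFun s := (ρ s).monoidHomCongrLeft
  map_one' := by
    apply MulEquiv.ext
    intro l
    apply MonoidHom.ext
    intro a
    show l ((ρ 1).symm a) = l a
    rw [map_one]
    rfl
  map_mul' s t := by
    apply MulEquiv.ext
    intro l
    apply MonoidHom.ext
    intro a
    show l ((ρ (s * t)).symm a) = l ((ρ t).symm ((ρ s).symm a))
    rw [map_mul]
    rfl

theorem dualHom_apply {A : Type*} [Group A] (ρ : S →* MulAut A) (s : S) (l : A →* ℂˣ) (a : A) :
    dualHom ρ s l a = l ((ρ s)⁻¹ a) := rfl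

set_option maxHeartbeats 1600000 in
/-- Lemma: abelian quotient of coprime index -/
theorem exists_invChar_over_of_abelian_quot [Finite S] [Fintype G] (φ : S →* MulAut G)
    (M : Subgroup G) [Fintype M] [hMn : M.Normal] (hMs : ∀ (s : S), ∀ x ∈ M, φ s x ∈ M)
    (hab : ∀ a b : G, a * b * a⁻¹ * b⁻¹ ∈ M) (hcop : M.index.Coprime (Nat.card S))
    (η : Cfsg.IrrCharacter M) (hη : InvChar (restrictHom φ M hMs) (η : M → ℂ)) :
    ∃ χ : Cfsg.IrrCharacter G, InvChar φ (χ : G → ℂ) ∧
      rmult M.subtype (χ : G → ℂ) (η : M → ℂ) ≠ 0 := by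
  classical
  letI : CommGroup (G ⧸ M) := quotCommGroup M hab
  haveI : Fintype ((G ⧸ M) →* ℂˣ) := Fintype.ofFinite _
  haveI : Fintype (Cfsg.IrrCharacter M) := Fintype.ofFinite _
  set X := {χ : Cfsg.IrrCharacter G // rmult M.subtype (χ : G → ℂ) (η : M → ℂ) ≠ 0} with hX
  let lamG : ((G ⧸ M) →* ℂˣ) → (G →* ℂˣ) := fun l => l.comp (QuotientGroup.mk' M)
  have hlamG : ∀ (l : (G ⧸ M) →* ℂˣ) (g : G), lamG l g = l (QuotientGroup.mk g) := fun _ _ => rfl
  letI aK : MulAction ((G ⧸ M) →* ℂˣ) (Cfsg.IrrCharacter G) :=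
    { smul := fun l χ => linMul (lamG l) χ
      one_smul := by
        intro χ
        apply Subtype.ext
        funext g
        show (linMul (lamG 1) χ : G → ℂ) g = _
        rw [linMul_apply, hlamG]
        simp
      mul_smul := by
        intro l l' χ
        apply Subtype.ext
        funext g
        show (linMul (lamG (l * l')) χ : G → ℂ) g = (linMul (lamG l) (linMul (lamG l') χ) : G → ℂ) g
        rw [linMul_apply, linMul_apply, linMul_apply, hlamG, hlamG, hlamG, MonoidHom.mul_apply,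
          Units.val_mul, mul_assoc] }
  letI aS : MulAction S (Cfsg.IrrCharacter G) := irrAct φ
  have hKapp : ∀ (l : (G ⧸ M) →* ℂˣ) (χ : Cfsg.IrrCharacter G) (g : G),
      ((l • χ : Cfsg.IrrCharacter G) : G → ℂ) g
        = ((l (QuotientGroup.mk g) : ℂˣ) : ℂ) * (χ : G → ℂ) g := fun _ _ _ => rfl
  have hSapp : ∀ (s : S) (χ : Cfsg.IrrCharacter G) (g : G),
      ((s • χ : Cfsg.IrrCharacter G) : G → ℂ) g = (χ : G → ℂ) ((φ s)⁻¹ g) := fun _ _ _ => rfl
  have hKmult : ∀ (l : (G ⧸ M) →* ℂˣ) (χ : Cfsg.IrrCharacter G),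
      rmult M.subtype ((l • χ : Cfsg.IrrCharacter G) : G → ℂ) (η : M → ℂ)
        = rmult M.subtype (χ : G → ℂ) (η : M → ℂ) := by
    intro l χ
    unfold rmult
    have h1 : (fun h : M => ((l • χ : Cfsg.IrrCharacter G) : G → ℂ) (M.subtype h))
        = fun h : M => (χ : G → ℂ) (M.subtype h) := by
      funext h
      rw [hKapp]
      have h2 : (QuotientGroup.mk (M.subtype h) : G ⧸ M) = 1 :=
        (QuotientGroup.eq_one_iff _).mpr h.2
      rw [h2, map_one, Units.val_one, one_mul]
    rw [h1]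
  have hSmult : ∀ (s : S) (χ : Cfsg.IrrCharacter G),
      rmult M.subtype ((s • χ : Cfsg.IrrCharacter G) : G → ℂ) (η : M → ℂ)
        = rmult M.subtype (χ : G → ℂ) (η : M → ℂ) := by
    intro s χ
    unfold rmult
    have h1 := classInner_comp_mulEquiv ((restrictHom φ M hMs s)⁻¹ : ↥M ≃* ↥M)
      (fun h : M => (χ : G → ℂ) (M.subtype h)) (η : M → ℂ)
    have h2 : (fun h : M => (η : M → ℂ) (((restrictHom φ M hMs s)⁻¹ : ↥M ≃* ↥M) h))
        = (η : M → ℂ) := by
      funext h
      have := hη s⁻¹ h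
      rw [map_inv] at this
      exact this
    have h3 : (fun h : M => (fun h : M => (χ : G → ℂ) (M.subtype h))
        (((restrictHom φ M hMs s)⁻¹ : ↥M ≃* ↥M) h))
        = fun h : M => ((s • χ : Cfsg.IrrCharacter G) : G → ℂ) (M.subtype h) := by
      funext h
      rw [hSapp]
      show (χ : G → ℂ) ((((restrictHom φ M hMs s)⁻¹ h : M)) : G) = _
      rw [← map_inv, ← map_inv]
      rfl
    rw [h2, h3] at h1
    rw [h1]
  letI : MulAction ((G ⧸ M) →* ℂˣ) X :=
    { smul := fun g x => ⟨g • x.1, by rw [hKmult]; exact x.2⟩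
      one_smul := fun x => Subtype.ext (one_smul _ x.1)
      mul_smul := fun g h x => Subtype.ext (mul_smul g h x.1) }
  letI : MulAction S X :=
    { smul := fun s x => ⟨s • x.1, by rw [hSmult]; exact x.2⟩
      one_smul := fun x => Subtype.ext (one_smul S x.1)
      mul_smul := fun s t x => Subtype.ext (mul_smul s t x.1) }
  have hKsmul : ∀ (l : (G ⧸ M) →* ℂˣ) (x : X),
      ((l • x : X) : Cfsg.IrrCharacter G) = l • x.1 := fun _ _ => rfl
  have hSsmul : ∀ (s : S) (x : X), ((s • x : X) : Cfsg.IrrCharacter G) = s • x.1 := fun _ _ => rfl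
  haveI : Nonempty X := by
    obtain ⟨χ, hχ⟩ := exists_rmult_ne_zero M η
    exact ⟨⟨χ, hχ⟩⟩
  set ρ : S →* MulAut ((G ⧸ M) →* ℂˣ) := dualHom (quotHom φ M hMs) with hρ
  have hcompat : ∀ (s : S) (l : (G ⧸ M) →* ℂˣ) (x : X), s • (l • x) = (ρ s l) • (s • x) := by
    intro s l x
    apply Subtype.ext
    rw [hSsmul, hKsmul, hKsmul, hSsmul]
    apply Subtype.ext
    funext g
    have hq : (quotHom φ M hMs s)⁻¹ (QuotientGroup.mk g) = QuotientGroup.mk ((φ s)⁻¹ g) := by
      rw [← map_inv, ← map_inv]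
      exact quotHom_mk φ M hMs s⁻¹ g
    rw [hSapp, hKapp, hKapp, hSapp, hρ, dualHom_apply, hq]
  have hcopK : (Nat.card ((G ⧸ M) →* ℂˣ)).Coprime (Nat.card S) := by
    rw [CommGroup.card_monoidHom_of_hasEnoughRootsOfUnity (G ⧸ M) ℂ, ← Subgroup.index_eq_card]
    exact hcop
  have hsolvK : Group.IsSolvable ((G ⧸ M) →* ℂˣ) ∨ Group.IsSolvable S :=
    Or.inl (Group.isSolvable_of_comm (fun a b => mul_comm a b))
  have htrans : MulAction.IsPretransitive ((G ⧸ M) →* ℂˣ) X := by
    constructor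
    intro x y
    by_contra hcon
    push Not at hcon
    have hχc := IsIrrCharacter.isCharacter x.1.2
    have hχ'c := IsIrrCharacter.isCharacter y.1.2
    -- the inner product of the restrictions is nonzero
    have h1 : Cfsg.classInner (fun m : M => (y.1 : G → ℂ) (M.subtype m))
        (fun m : M => (x.1 : G → ℂ) (M.subtype m)) ≠ 0 := by
      rw [comp_eq_sum_rmult M.subtype hχc, classInner_sum_right]
      have h2 : ∀ θ : Cfsg.IrrCharacter M,
          Cfsg.classInner (fun m : M => (y.1 : G → ℂ) (M.subtype m))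
            (rmult M.subtype (x.1 : G → ℂ) (θ : M → ℂ) • (θ : M → ℂ))
          = ((rmult M.subtype (x.1 : G → ℂ) (θ : M → ℂ)
              * rmult M.subtype (y.1 : G → ℂ) (θ : M → ℂ) : ℕ) : ℂ) := by
        intro θ
        have e1 : (rmult M.subtype (x.1 : G → ℂ) (θ : M → ℂ) • (θ : M → ℂ))
            = ((rmult M.subtype (x.1 : G → ℂ) (θ : M → ℂ) : ℕ) : ℂ) • (θ : M → ℂ) := by
          funext m
          simp
        rw [e1, classInner_smul_right, rmult_spec M.subtype hχ'c θ.2, Complex.conj_natCast,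
          Nat.cast_mul]
      rw [Finset.sum_congr rfl (fun θ _ => h2 θ), ← Nat.cast_sum]
      have h3 : 0 < ∑ θ : Cfsg.IrrCharacter M, rmult M.subtype (x.1 : G → ℂ) (θ : M → ℂ)
          * rmult M.subtype (y.1 : G → ℂ) (θ : M → ℂ) := by
        apply Finset.sum_pos'
        · intro θ _
          exact Nat.zero_le _
        · exact ⟨η, Finset.mem_univ _, Nat.mul_pos (Nat.pos_of_ne_zero x.2)
            (Nat.pos_of_ne_zero y.2)⟩
      exact_mod_cast h3.ne'
    -- orthogonality
    have h4 : ∀ l : (G ⧸ M) →* ℂˣ,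
        ∑ g : G, ((l (QuotientGroup.mk g) : ℂˣ) : ℂ)
          * ((y.1 : G → ℂ) g * conj ((x.1 : G → ℂ) g)) = 0 := by
      intro l
      have h5 := classInner_irrCharacter y.1 (l⁻¹ • x.1)
      have hne : y.1 ≠ l⁻¹ • x.1 := by
        intro h
        apply hcon l⁻¹
        apply Subtype.ext
        rw [hKsmul]
        exact h.symm
      rw [if_neg hne] at h5
      unfold Cfsg.classInner at h5
      rcases mul_eq_zero.mp h5 with h6 | h6
      · exact absurd h6 (inv_ne_zero (card_ne_zero_complex G))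
      · rw [← h6]
        apply Finset.sum_congr rfl
        intro g _
        rw [hKapp, map_mul, conj_hom_apply, show (l⁻¹)⁻¹ = l from inv_inv l]
        ring
    have h7 : ∑ g : G, ∑ l : (G ⧸ M) →* ℂˣ, ((l (QuotientGroup.mk g) : ℂˣ) : ℂ)
          * ((y.1 : G → ℂ) g * conj ((x.1 : G → ℂ) g)) = 0 := by
      rw [Finset.sum_comm]
      exact Finset.sum_eq_zero (fun l _ => h4 l)
    have h8 : ∀ g : G, ∑ l : (G ⧸ M) →* ℂˣ, ((l (QuotientGroup.mk g) : ℂˣ) : ℂ)
          * ((y.1 : G → ℂ) g * conj ((x.1 : G → ℂ) g))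
        = if g ∈ M then (Nat.card (G ⧸ M) : ℂ) * ((y.1 : G → ℂ) g * conj ((x.1 : G → ℂ) g))
          else 0 := by
      intro g
      rw [← Finset.sum_mul, sum_dual_apply (G ⧸ M) (QuotientGroup.mk g)]
      by_cases hg : g ∈ M
      · rw [if_pos hg, if_pos ((QuotientGroup.eq_one_iff g).mpr hg)]
      · rw [if_neg hg, if_neg (fun h => hg ((QuotientGroup.eq_one_iff g).mp h)), zero_mul]
    rw [Finset.sum_congr rfl (fun g _ => h8 g), ← Finset.sum_filter,
      Finset.sum_subtype (p := fun g => g ∈ M) (Finset.univ.filter (fun g => g ∈ M))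
        (fun g => by simp), ← Finset.mul_sum] at h7
    apply h1
    unfold Cfsg.classInner
    rcases mul_eq_zero.mp h7 with h9 | h9
    · exfalso
      have : Nat.card (G ⧸ M) ≠ 0 := Nat.card_pos.ne'
      exact this (by exact_mod_cast h9)
    · rw [mul_eq_zero]
      right
      rw [← h9]
      rfl
  obtain ⟨x, hx⟩ := exists_fixed ρ hcompat hcopK hsolvK htrans
  refine ⟨x.1, ?_, x.2⟩
  apply (irrAct_fixed_iff φ x.1).mp
  intro s
  have := congrArg Subtype.val (hx s)
  rw [hSsmul] at this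
  exact this

end Cfsg.Agent.Lib.Helper8.GlauL
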