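import Mathlib
import Cfsg.Agent.Lib.Helper8.GlauL5

/-! Invariant characters over invariant characters of a normal subgroup with solvable quotient of
coprime index (Isaacs 13.28): the induction along the derived series. -/
set_option autoImplicit false

namespace Cfsg.Agent.Lib.Helper8.GlauL

open MulAction Cfsg.Agent.Lib.Helper6 Cfsg.Agent.Lib.Helper8.GlauP
open scoped ComplexConjugate

universe u v

variable {S : Type u} [Group S]

/-- the homomorphism version of the abelian-quotient lemma -/
theorem exists_invChar_over_of_abelian_quot' [Finite S] {G N : Type v} [Group G] [Fintype G]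
    [Group N] [Fintype N] (φ : S →* MulAut G) (φN : S →* MulAut N) (ι : N →* G)
    (hι : Function.Injective ι) (hn : ι.range.Normal)
    (hcompat : ∀ (s : S) (n : N), ι (φN s n) = φ s (ι n))
    (hab : ∀ a b : G, a * b * a⁻¹ * b⁻¹ ∈ ι.range) (hcop : ι.range.index.Coprime (Nat.card S))
    (θ : Cfsg.IrrCharacter N) (hθ : InvChar φN (θ : N → ℂ)) :
    ∃ χ : Cfsg.IrrCharacter G, InvChar φ (χ : G → ℂ) ∧ rmult ι (χ : G → ℂ) (θ : N → ℂ) ≠ 0 := by
  classical
  haveI := hn
  haveI : Fintype ι.range := Fintype.ofFinite _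
  let e : N ≃* ι.range := MonoidHom.ofInjective hι
  have he : ∀ n : N, ((e n : ι.range) : G) = ι n := fun n => rfl
  have hRs : ∀ (s : S), ∀ x ∈ ι.range, φ s x ∈ ι.range := by
    rintro s _ ⟨n, rfl⟩
    exact ⟨φN s n, hcompat s n⟩
  set η : Cfsg.IrrCharacter ι.range := ⟨fun r => (θ : N → ℂ) (e.symm r),
    IsIrrCharacter.comp_mulEquiv e.symm θ.2⟩ with hη
  have hηe : ∀ n : N, (η : ι.range → ℂ) (e n) = (θ : N → ℂ) n := by
    intro n
    show (θ : N → ℂ) (e.symm (e n)) = _
    rw [MulEquiv.symm_apply_apply]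
  have hηinv : InvChar (restrictHom φ ι.range hRs) (η : ι.range → ℂ) := by
    intro s r
    obtain ⟨n, rfl⟩ := e.surjective r
    have h1 : restrictHom φ ι.range hRs s (e n) = e (φN s n) := by
      apply Subtype.ext
      rw [restrictHom_apply, he, he, hcompat]
    rw [h1, hηe, hηe]
    exact hθ s n
  obtain ⟨χ, hχinv, hχover⟩ :=
    exists_invChar_over_of_abelian_quot φ ι.range hRs hab hcop η hηinv
  refine ⟨χ, hχinv, ?_⟩
  have h1 := rmult_spec ι.range.subtype (IsIrrCharacter.isCharacter χ.2) η.2
  have h2 := rmult_spec ι (IsIrrCharacter.isCharacter χ.2) θ.2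
  have h3 := classInner_comp_mulEquiv e (fun r : ι.range => (χ : G → ℂ) (ι.range.subtype r))
    (η : ι.range → ℂ)
  have h4 : (fun n : N => (fun r : ι.range => (χ : G → ℂ) (ι.range.subtype r)) (e n))
      = fun n : N => (χ : G → ℂ) (ι n) := rfl
  have h5 : (fun n : N => (η : ι.range → ℂ) (e n)) = (θ : N → ℂ) := by
    funext n
    exact hηe n
  rw [h4, h5, h1, h2] at h3
  have h6 : rmult ι (χ : G → ℂ) (θ : N → ℂ) = rmult ι.range.subtype (χ : G → ℂ) (η : ι.range → ℂ) := by
    exact_mod_cast h3
  rw [h6]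
  exact hχover

/-- positivity of a composite multiplicity -/
theorem rmult_comp_ne_zero {G H D : Type*} [Group G] [Group H] [Group D] [Fintype H] [Fintype D]
    (f : H →* G) (k : D →* H) {χ : G → ℂ} (hχ : Cfsg.IsCharacter G χ) (η : Cfsg.IrrCharacter H)
    {δ : D → ℂ} (hδ : Cfsg.IsIrrCharacter D δ) (h1 : rmult f χ (η : H → ℂ) ≠ 0)
    (h2 : rmult k (η : H → ℂ) δ ≠ 0) : rmult (f.comp k) χ δ ≠ 0 := by
  classical
  haveI : Fintype (Cfsg.IrrCharacter H) := Fintype.ofFinite _
  rw [rmult_comp f k hχ hδ]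
  apply Nat.pos_iff_ne_zero.mp
  apply Finset.sum_pos'
  · intro θ _
    exact Nat.zero_le _
  · exact ⟨η, Finset.mem_univ _, Nat.mul_pos (Nat.pos_of_ne_zero h1) (Nat.pos_of_ne_zero h2)⟩

/-- Isaacs 13.28 (solvable quotient): induction along the derived series -/
theorem exists_invChar_over_of_derivedSeries_le [Finite S] (k : ℕ) :
    ∀ (G N : Type v) [Group G] [Fintype G] [Group N] [Fintype N] (φ : S →* MulAut G)
      (φN : S →* MulAut N) (ι : N →* G), Function.Injective ι → ι.range.Normal →
      (∀ (s : S) (n : N), ι (φN s n) = φ s (ι n)) → derivedSeries G k ≤ ι.range →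
      ι.range.index.Coprime (Nat.card S) →
      ∀ θ : Cfsg.IrrCharacter N, InvChar φN (θ : N → ℂ) →
      ∃ χ : Cfsg.IrrCharacter G, InvChar φ (χ : G → ℂ) ∧
        rmult ι (χ : G → ℂ) (θ : N → ℂ) ≠ 0 := by
  induction k with
  | zero =>
    intro G N _ _ _ _ φ φN ι hι hn hcompat hder hcop θ hθ
    classical
    have hsurj : Function.Surjective ι := by
      rw [← MonoidHom.range_eq_top]
      exact top_le_iff.mp hder
    let e : N ≃* G := MulEquiv.ofBijective ι ⟨hι, hsurj⟩
    have he : ∀ n : N, e n = ι n := fun n => rfl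
    set χ : Cfsg.IrrCharacter G := ⟨fun g => (θ : N → ℂ) (e.symm g),
      IsIrrCharacter.comp_mulEquiv e.symm θ.2⟩ with hχ
    have hχe : ∀ n : N, (χ : G → ℂ) (ι n) = (θ : N → ℂ) n := by
      intro n
      show (θ : N → ℂ) (e.symm (ι n)) = _
      rw [← he, MulEquiv.symm_apply_apply]
    refine ⟨χ, ?_, ?_⟩
    · intro s g
      obtain ⟨n, rfl⟩ := hsurj g
      rw [← hcompat, hχe, hχe]
      exact hθ s n
    · have h2 := rmult_spec ι (IsIrrCharacter.isCharacter χ.2) θ.2
      have h3 : (fun n : N => (χ : G → ℂ) (ι n)) = (θ : N → ℂ) := by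
        funext n
        exact hχe n
      rw [h3, classInner_irrCharacter θ θ, if_pos rfl] at h2
      intro h0
      rw [h0] at h2
      simp at h2
  | succ k ih =>
    intro G N _ _ _ _ φ φN ι hι hn hcompat hder hcop θ hθ
    classical
    haveI := hn
    set R : Subgroup G := ι.range with hR
    set D : Subgroup G := derivedSeries G k with hD
    set M : Subgroup G := R ⊔ D with hM
    haveI : Fintype M := Fintype.ofFinite _
    have hRM : R ≤ M := le_sup_left
    have hDM : D ≤ M := le_sup_right
    haveI hMn : M.Normal := by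
      rw [hM]
      infer_instance
    have hRs : ∀ (s : S), ∀ x ∈ R, φ s x ∈ R := by
      rintro s _ ⟨n, rfl⟩
      exact ⟨φN s n, hcompat s n⟩
    have hDs : ∀ (s : S), ∀ x ∈ D, φ s x ∈ D := by
      intro s x hx
      have hchar : D.Characteristic := derivedSeries_characteristic G k
      have h1 := (Subgroup.characteristic_iff_map_eq.mp hchar) (φ s)
      rw [← h1]
      exact ⟨x, hx, rfl⟩
    have hMs : ∀ (s : S), ∀ x ∈ M, φ s x ∈ M := by
      intro s x hx
      have h1 : M ≤ M.comap (φ s).toMonoidHom := by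
        rw [hM]
        apply sup_le
        · intro r hr
          exact hRM (hRs s r hr)
        · intro d hd
          exact hDM (hDs s d hd)
      exact h1 hx
    -- the first step: from `N` to `M`
    let ι' : N →* ↥M := ι.codRestrict M (fun n => hRM ⟨n, rfl⟩)
    have hι' : Function.Injective ι' := by
      intro a b hab
      apply hι
      exact congrArg Subtype.val hab
    have hrange' : ι'.range = R.subgroupOf M := by
      ext x
      rw [Subgroup.mem_subgroupOf]
      constructor
      · rintro ⟨n, rfl⟩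
        exact ⟨n, rfl⟩
      · rintro ⟨n, hn'⟩
        exact ⟨n, Subtype.ext hn'⟩
    have hn' : ι'.range.Normal := by
      rw [hrange']
      exact hn.subgroupOf M
    have hcompat'' : ∀ (s : S) (n : N), ι' (φN s n) = restrictHom φ M hMs s (ι' n) := by
      intro s n
      apply Subtype.ext
      exact hcompat s n
    have hder' : derivedSeries G (k + 1) ≤ R := hder
    have hab' : ∀ a b : ↥M, a * b * a⁻¹ * b⁻¹ ∈ ι'.range := by
      intro a b
      rw [hrange', Subgroup.mem_subgroupOf]
      have hmem : ∀ x : G, x ∈ M → ∃ d ∈ D, (QuotientGroup.mk x : G ⧸ R) = QuotientGroup.mk d := by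
        intro x hx
        have h1 : x ∈ ((R ⊔ D : Subgroup G) : Set G) := hx
        rw [Subgroup.normal_mul] at h1
        obtain ⟨r, hr, d, hd, rfl⟩ := h1
        refine ⟨d, hd, ?_⟩
        rw [QuotientGroup.mk_mul, (QuotientGroup.eq_one_iff r).mpr hr, one_mul]
      obtain ⟨d₁, hd₁, e₁⟩ := hmem a a.2
      obtain ⟨d₂, hd₂, e₂⟩ := hmem b b.2
      apply (QuotientGroup.eq_one_iff _).mp
      show (QuotientGroup.mk ((a : G) * b * (a : G)⁻¹ * (b : G)⁻¹) : G ⧸ R) = 1
      rw [QuotientGroup.mk_mul, QuotientGroup.mk_mul, QuotientGroup.mk_mul, QuotientGroup.mk_inv,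
        QuotientGroup.mk_inv, e₁, e₂, ← QuotientGroup.mk_inv, ← QuotientGroup.mk_inv,
        ← QuotientGroup.mk_mul, ← QuotientGroup.mk_mul, ← QuotientGroup.mk_mul]
      apply (QuotientGroup.eq_one_iff _).mpr
      apply hder'
      rw [derivedSeries_succ]
      exact Subgroup.commutator_mem_commutator hd₁ hd₂
    have hcop' : ι'.range.index.Coprime (Nat.card S) := by
      rw [hrange']
      apply Nat.Coprime.coprime_dvd_left _ hcop
      exact Subgroup.relIndex_dvd_index_of_le hRM
    obtain ⟨η, hηinv, hηover⟩ := exists_invChar_over_of_abelian_quot' (restrictHom φ M hMs) φN ι'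
      hι' hn' hcompat'' hab' hcop' θ hθ
    -- the second step: from `M` to `G`
    have hrange2 : M.subtype.range = M := Subgroup.range_subtype M
    obtain ⟨χ, hχinv, hχover⟩ := ih G ↥M φ (restrictHom φ M hMs) M.subtype
      Subtype.val_injective (by rw [hrange2]; exact hMn) (fun s m => rfl)
      (by rw [hrange2]; exact hDM)
      (by
        rw [hrange2]
        apply Nat.Coprime.coprime_dvd_left _ hcop
        exact Subgroup.index_dvd_of_le hRM) η hηinv
    refine ⟨χ, hχinv, ?_⟩
    have hcomp : ι = M.subtype.comp ι' := rfl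
    rw [hcomp]
    exact rmult_comp_ne_zero M.subtype ι' (IsIrrCharacter.isCharacter χ.2) η θ.2 hχover hηover

end Cfsg.Agent.Lib.Helper8.GlauL
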