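import Mathlib
import Cfsg.Agent.S0867
import Cfsg.Agent.S0856
import Cfsg.Agent.S0854
import Cfsg.Agent.S0174
import Cfsg.Agent.Lib.Helper3.CharQuot
import Cfsg.Agent.Lib.Helper3.DetChar
import Cfsg.Agent.Lib.Helper6.Ito
import Cfsg.Agent.Lib.Helper8.GlauL4

/-! Characters of degree prime to the index of a normal Hall subgroup: extension and the
Gallagher fibres. -/
set_option autoImplicit false

namespace Cfsg.Agent.Lib.Helper8.McK

open Cfsg.Agent.Lib.Helper6 Cfsg.Agent.Lib.Helper3 Cfsg.Agent.Lib.Helper3.DetChar Cfsg.Agent.Lib.Helper8.GlauL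
open scoped ComplexConjugate

variable {G : Type*} [Group G]

/-- invariance under conjugation by the big group -/
def InvK (K : Subgroup G) [hK : K.Normal] (θ : K → ℂ) : Prop :=
  ∀ (g : G) (n : K), θ ⟨g * n * g⁻¹, hK.conj_mem (n : G) n.2 g⟩ = θ n

theorem invK_restrict (K : Subgroup G) [hK : K.Normal] {χ : G → ℂ}
    (hχ : Cfsg.IsClassFunction G χ) : InvK K (fun n : K => χ n) := by
  intro g n
  exact hχ n g

/-- the determinantal order divides the group order -/
theorem detOrder_dvd_card {K : Type*} [Group K] [Finite K] {θ : K → ℂ}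
    (hθ : Cfsg.IsCharacter K θ) : Cfsg.detOrder θ ∣ Nat.card K := by
  unfold Cfsg.detOrder
  apply orderOf_dvd_of_pow_eq_one
  obtain ⟨f, hf⟩ := exists_hom_eq_detChar hθ
  rw [hf]
  funext k
  rw [Pi.pow_apply, Pi.one_apply, ← Units.val_pow_eq_pow_val, ← map_pow, pow_card_eq_one', map_one,
    Units.val_one]

variable [Fintype G] (K : Subgroup G) [Fintype K] [hK : K.Normal]

/-- coprime extension (Isaacs 8.16 via the statements on determinants) -/
theorem exists_extension (hcop : (Nat.card K).Coprime K.index) (θ : Cfsg.IrrCharacter K)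
    (hinv : InvK K (θ : K → ℂ)) :
    ∃ χ : Cfsg.IrrCharacter G, ∀ n : K, (χ : G → ℂ) n = (θ : K → ℂ) n := by
  have hθc := IsIrrCharacter.isCharacter θ.2
  have hd := IsCharacter.apply_one_eq_charDegree hθc
  have h1 : Cfsg.detOrder (θ : K → ℂ) * Cfsg.charDegree (θ : K → ℂ) ∣ Nat.card K * Nat.card K :=
    Nat.mul_dvd_mul (detOrder_dvd_card hθc) (IsIrrCharacter.charDegree_dvd_card θ.2)
  have hcop' : Nat.Coprime K.index
      (Cfsg.detOrder (θ : K → ℂ) * Cfsg.charDegree (θ : K → ℂ)) := by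
    apply Nat.Coprime.coprime_dvd_right h1
    exact (Nat.Coprime.mul_left hcop hcop).symm
  obtain ⟨χ, ⟨hχ, hext, _⟩, _⟩ := Cfsg.Agent.S0867.result K (θ : K → ℂ) θ.2 hinv
    (Cfsg.charDegree (θ : K → ℂ)) hd hcop'
  exact ⟨⟨χ, hχ⟩, hext⟩

/-- the linear characters of `G` trivial on `K` -/
def LinK : Type _ := {lam : G →* ℂˣ // K ≤ lam.ker}

/-- the trivial character of `K` -/
noncomputable def oneK : Cfsg.IrrCharacter K := ⟨fun _ => 1, isIrrCharacter_one⟩

theorem classInner_indFun_irr (H : Subgroup G) [Fintype H] (θ : H → ℂ) (χ : Cfsg.IrrCharacter G) :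
    Cfsg.classInner (Cfsg.indFun H θ) (χ : G → ℂ)
      = Cfsg.classInner θ (fun h : H => (χ : G → ℂ) h) :=
  Cfsg.Agent.S0146.result H θ (χ : G → ℂ) (IsIrrCharacter.isClassFunction χ.2)

/-- Gallagher: the extensions of `θ` are the `λ θ̂` -/
theorem exists_linK_of_extension (θ : Cfsg.IrrCharacter K) (hinv : InvK K (θ : K → ℂ))
    (θh : Cfsg.IrrCharacter G) (hext : ∀ n : K, (θh : G → ℂ) n = (θ : K → ℂ) n)
    (χ : Cfsg.IrrCharacter G) (hχ : ∀ n : K, (χ : G → ℂ) n = (θ : K → ℂ) n) :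
    ∃ lam : G →* ℂˣ, K ≤ lam.ker ∧ χ = linMul lam θh := by
  classical
  have h1inv : ∀ (g : G) (n : K), (oneK K : K → ℂ) ⟨g * n * g⁻¹, hK.conj_mem (n : G) n.2 g⟩
      = (oneK K : K → ℂ) n := fun _ _ => rfl
  have hprod : (oneK K : K → ℂ) * (θ : K → ℂ) = (θ : K → ℂ) := by
    funext n
    show (1 : ℂ) * _ = _
    rw [one_mul]
  have hbij := Cfsg.Agent.S0856.result K (oneK K : K → ℂ) (θ : K → ℂ) (oneK K).2 θ.2 h1inv hinv
    (by rw [hprod]; exact θ.2) (θh : G → ℂ) θh.2 hext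
  rw [hprod] at hbij
  have hχmem : (χ : G → ℂ) ∈ {ψ : G → ℂ | Cfsg.IsIrrCharacter G ψ ∧
      Cfsg.classInner (Cfsg.indFun K (θ : K → ℂ)) ψ ≠ 0} := by
    refine ⟨χ.2, ?_⟩
    rw [classInner_indFun_irr]
    have h2 : (fun h : K => (χ : G → ℂ) h) = (θ : K → ℂ) := funext hχ
    rw [h2, classInner_irrCharacter θ θ, if_pos rfl]
    exact one_ne_zero
  obtain ⟨β, ⟨hβirr, hβ1⟩, hβχ⟩ := hbij.surjOn hχmem
  have hβχ' : ∀ g : G, β g * (θh : G → ℂ) g = (χ : G → ℂ) g := fun g => congrFun hβχ g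
  -- β has degree one
  have hβdeg : β 1 = 1 := by
    have h3 := hβχ' 1
    have h4 : (θh : G → ℂ) 1 = (χ : G → ℂ) 1 := by
      have := hext 1
      have h5 := hχ 1
      rw [Subgroup.coe_one] at this h5
      rw [this, h5]
    rw [h4] at h3
    have h6 : (χ : G → ℂ) 1 ≠ 0 := IsIrrCharacter.apply_one_ne_zero χ.2
    exact mul_right_cancel₀ h6 (by rw [h3, one_mul])
  set lam := linearCharHom (IsIrrCharacter.isCharacter hβirr) hβdeg with hlam
  have hlamβ : ∀ g, ((lam g : ℂˣ) : ℂ) = β g := fun g => rfl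
  refine ⟨lam, ?_, ?_⟩
  · -- trivial on K
    rw [classInner_indFun_irr K _ ⟨β, hβirr⟩] at hβ1
    have hres : Cfsg.IsIrrCharacter K (fun h : K => β h) := by
      have := isIrrCharacter_of_hom (lam.comp K.subtype)
      exact this
    have h7 := classInner_isIrrCharacter (oneK K).2 hres
    by_cases h8 : (oneK K : K → ℂ) = fun h : K => β h
    · intro k hk
      rw [MonoidHom.mem_ker]
      apply Units.ext
      rw [hlamβ, Units.val_one]
      exact (congrFun h8 ⟨k, hk⟩).symm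
    · rw [if_neg h8] at h7
      exact absurd h7 hβ1
  · apply Subtype.ext
    funext g
    rw [linMul_apply, hlamβ]
    exact (hβχ' g).symm

/-- Gallagher: injectivity -/
theorem linMul_injective_of_extension (θ : Cfsg.IrrCharacter K) (hinv : InvK K (θ : K → ℂ))
    (θh : Cfsg.IrrCharacter G) (hext : ∀ n : K, (θh : G → ℂ) n = (θ : K → ℂ) n)
    (lam lam' : G →* ℂˣ) (hl : K ≤ lam.ker) (hl' : K ≤ lam'.ker)
    (h : linMul lam θh = linMul lam' θh) : lam = lam' := by
  classical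
  have h1inv : ∀ (g : G) (n : K), (oneK K : K → ℂ) ⟨g * n * g⁻¹, hK.conj_mem (n : G) n.2 g⟩
      = (oneK K : K → ℂ) n := fun _ _ => rfl
  have hprod : (oneK K : K → ℂ) * (θ : K → ℂ) = (θ : K → ℂ) := by
    funext n
    show (1 : ℂ) * _ = _
    rw [one_mul]
  have hbij := Cfsg.Agent.S0856.result K (oneK K : K → ℂ) (θ : K → ℂ) (oneK K).2 θ.2 h1inv hinv
    (by rw [hprod]; exact θ.2) (θh : G → ℂ) θh.2 hext
  have hmem : ∀ l : G →* ℂˣ, K ≤ l.ker → (fun g => ((l g : ℂˣ) : ℂ)) ∈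
      {β : G → ℂ | Cfsg.IsIrrCharacter G β ∧
        Cfsg.classInner (Cfsg.indFun K (oneK K : K → ℂ)) β ≠ 0} := by
    intro l hlk
    refine ⟨isIrrCharacter_of_hom l, ?_⟩
    rw [classInner_indFun_irr K _ ⟨_, isIrrCharacter_of_hom l⟩]
    have h2 : (fun h : K => (fun g => ((l g : ℂˣ) : ℂ)) (h : G)) = (oneK K : K → ℂ) := by
      funext h
      have := hlk h.2
      rw [MonoidHom.mem_ker] at this
      show ((l h : ℂˣ) : ℂ) = 1
      rw [this, Units.val_one]
    show Cfsg.classInner (oneK K : K → ℂ) (fun h : K => (fun g => ((l g : ℂˣ) : ℂ)) (h : G)) ≠ 0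
    rw [h2, classInner_irrCharacter (oneK K) (oneK K), if_pos rfl]
    exact one_ne_zero
  have h3 := hbij.injOn (hmem lam hl) (hmem lam' hl') (by
    show (fun g => ((lam g : ℂˣ) : ℂ)) * (θh : G → ℂ) = (fun g => ((lam' g : ℂˣ) : ℂ)) * (θh : G → ℂ)
    have := congrArg Subtype.val h
    exact this)
  apply MonoidHom.ext
  intro g
  apply Units.ext
  exact congrFun h3 g

end Cfsg.Agent.Lib.Helper8.McK
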