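import Mathlib
import Cfsg.Agent.Lib.Helper3.MSDefs
import Cfsg.Agent.Lib.Helper8.MSB3

/-! S4125 MS farm, piece G1: a cyclic Sylow `p`-subgroup is semiregular on the nonzero vectors; all nonzero orbits have
`card P` elements. -/

set_option autoImplicit false
set_option linter.unusedVariables false
set_option linter.unusedSectionVars false
set_option linter.style.longLine false

namespace Cfsg.Agent.Lib.Helper3.MS

universe u v

variable {p q : ℕ} {H : Type u} [Group H] {V : Type v} [AddCommGroup V] [DistribMulAction H V]

/-- elements of a cyclic subgroup commute -/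
theorem h8_cyc_comm (P : Subgroup H) (hcyc : IsCyclic ↥P) (a b : H) (ha : a ∈ P) (hb : b ∈ P) :
    a * b = b * a := by
  have hc : IsMulCommutative ↥P := IsCyclic.isMulCommutative
  exact setLike_mul_comm ha hb

theorem MinCE.cyc_semiregular (h : MinCE p q H V) [Fact p.Prime] (P : Sylow p H)
    (hcyc : IsCyclic ↥(P : Subgroup H)) (v : V) (hv : v ≠ 0) (g : H) (hg : g ∈ P) (hgv : g • v = v) :
    g = 1 := by
  by_contra hg1
  apply hv
  have hDP : Subgroup.zpowers g ≤ (P : Subgroup H) := by
    rw [Subgroup.zpowers_le]
    exact hg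
  refine h.fixed_eq_zero P (Subgroup.zpowers g) hDP ?_ ?_ v ?_
  · intro u hu d hd
    have hdP : d ∈ (P : Subgroup H) := hDP hd
    have e : u * d = d * u := h8_cyc_comm (P : Subgroup H) hcyc u d hu hdP
    rw [e, mul_inv_cancel_right]
    exact hd
  · intro hbot
    apply hg1
    have : g ∈ Subgroup.zpowers g := Subgroup.mem_zpowers g
    rw [hbot] at this
    exact Subgroup.mem_bot.mp this
  · intro d hd
    have hstab : Subgroup.zpowers g ≤ MulAction.stabilizer H v := by
      rw [Subgroup.zpowers_le]
      exact MulAction.mem_stabilizer_iff.mpr hgv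
    exact MulAction.mem_stabilizer_iff.mp (hstab hd)

theorem MinCE.cyc_index (h : MinCE p q H V) [Fact p.Prime] (P : Sylow p H)
    (hcyc : IsCyclic ↥(P : Subgroup H)) (v : V) (hv : v ≠ 0) :
    (MulAction.stabilizer H v).index = Nat.card ↥(P : Subgroup H) := by
  have := h.finH
  -- the orbit map restricted to `P` is a bijection onto the orbit of `v`
  rw [MulAction.index_stabilizer, ← Nat.card_coe_set_eq]
  have hbij : Function.Bijective (fun g : ↥(P : Subgroup H) =>
      (⟨(g : H) • v, MulAction.mem_orbit v (g : H)⟩ : MulAction.orbit H v)) := by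
    constructor
    · intro a b hab
      have h1 : (a : H) • v = (b : H) • v := congrArg Subtype.val hab
      have h2 : ((b : H)⁻¹ * (a : H)) • v = v := by
        rw [mul_smul, h1, inv_smul_smul]
      have h3 := h.cyc_semiregular P hcyc v hv _ (P.mul_mem (P.inv_mem b.2) a.2) h2
      apply Subtype.ext
      have : (a : H) = (b : H) := by
        have := congrArg (fun t => (b : H) * t) h3
        simpa using this
      exact this
    · rintro ⟨w, hw⟩
      obtain ⟨x, rfl⟩ := hw
      obtain ⟨g, hg, hgx⟩ := h.toHyp.sylow_orbit P v x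
      exact ⟨⟨g, hg⟩, Subtype.ext hgx⟩
  exact (Nat.card_congr (Equiv.ofBijective _ hbij)).symm

end Cfsg.Agent.Lib.Helper3.MS
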