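import Mathlib
import Cfsg.Agent.Lib.Helper3.MSDefs

/-! S4125 MS farm, piece G5a: a nontrivial solvable normal subgroup contains a nontrivial abelian normal subgroup of the
whole group (the last nontrivial term of its derived series). -/

set_option autoImplicit false
set_option linter.unusedVariables false
set_option linter.unusedSectionVars false
set_option linter.style.longLine false

namespace Cfsg.Agent.Lib.Helper3.MS

open scoped commutatorElement

theorem exists_normal_abelian_of_solvable {G : Type*} [Group G] [Finite G] (K : Subgroup G) (hKn : K.Normal)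
    (hK : Group.IsSolvable K) (hne : K ≠ ⊥) :
    ∃ A : Subgroup G, A ≤ K ∧ A ≠ ⊥ ∧ A.Normal ∧ ∀ x ∈ A, ∀ y ∈ A, x * y = y * x := by
  classical
  have hex : ∃ n : ℕ, derivedSeries ↥K n = ⊥ := hK.solvable
  have hn0 : Nat.find hex ≠ 0 := by
    intro h0
    have h1 := Nat.find_spec hex
    rw [h0, derivedSeries_zero] at h1
    apply hne
    rw [eq_bot_iff]
    intro k hk
    have : (⟨k, hk⟩ : ↥K) ∈ (⊤ : Subgroup ↥K) := Subgroup.mem_top _
    rw [h1, Subgroup.mem_bot] at this
    rw [Subgroup.mem_bot]
    exact congrArg Subtype.val this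
  obtain ⟨m, hm⟩ := Nat.exists_eq_succ_of_ne_zero hn0
  have hDne : derivedSeries ↥K m ≠ ⊥ := by
    intro hbot
    have := Nat.find_min' hex hbot
    omega
  have hDD : ⁅derivedSeries ↥K m, derivedSeries ↥K m⁆ = ⊥ := by
    have h1 := Nat.find_spec hex
    rw [hm, derivedSeries_succ] at h1
    exact h1
  refine ⟨(derivedSeries ↥K m).map K.subtype, ?_, ?_, ?_, ?_⟩
  · rintro _ ⟨a, _, rfl⟩
    exact a.2
  · intro hbot
    apply hDne
    rw [eq_bot_iff]
    intro a ha
    have : K.subtype a ∈ (derivedSeries ↥K m).map K.subtype := Subgroup.mem_map_of_mem _ ha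
    rw [hbot, Subgroup.mem_bot] at this
    rw [Subgroup.mem_bot]
    exact Subtype.ext this
  · exact ConjAct.normal_of_characteristic_of_normal
  · rintro _ ⟨a, ha, rfl⟩ _ ⟨b, hb, rfl⟩
    have hcomm : ⁅a, b⁆ ∈ ⁅derivedSeries ↥K m, derivedSeries ↥K m⁆ := Subgroup.commutator_mem_commutator ha hb
    rw [hDD, Subgroup.mem_bot] at hcomm
    have hab : a * b = b * a := commutatorElement_eq_one_iff_mul_comm.mp hcomm
    have := congrArg K.subtype hab
    simpa using this

end Cfsg.Agent.Lib.Helper3.MS
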