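import Mathlib
import Cfsg.Agent.Lib.Helper3.MSDefs
import Cfsg.Agent.Lib.Helper8.MSB1

/-! S4125 MS farm, piece G4: with a cyclic Sylow `p`-subgroup `P`, no nontrivial element of `P` is central (transfer). -/

set_option autoImplicit false
set_option linter.unusedVariables false
set_option linter.unusedSectionVars false
set_option linter.style.longLine false

namespace Cfsg.Agent.Lib.Helper3.MS

universe u v

variable {p q : ℕ} {H : Type u} [Group H] {V : Type v} [AddCommGroup V] [DistribMulAction H V]

open scoped IsMulCommutative in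
theorem MinCE.cyc_center_trivial (h : MinCE p q H V) [Fact p.Prime] (P : Sylow p H)
    (hcyc : IsCyclic ↥(P : Subgroup H)) (u : H) (hu : u ∈ P) (hc : ∀ y : H, y * u = u * y) : u = 1 := by
  have := h.finH
  have hcomm : IsMulCommutative ↥(P : Subgroup H) := IsCyclic.isMulCommutative
  -- the transfer into `P`
  let φ : H →* ↥(P : Subgroup H) := MonoidHom.transfer (MonoidHom.id ↥(P : Subgroup H))
  have key : ∀ (k : ℕ) (g₀ : H), g₀⁻¹ * u ^ k * g₀ ∈ (P : Subgroup H) → g₀⁻¹ * u ^ k * g₀ = u ^ k := by
    intro k g₀ _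
    have e : u ^ k * g₀ = g₀ * u ^ k := by
      have hcm : Commute g₀ u := hc g₀
      exact (hcm.pow_right k).eq.symm
    rw [mul_assoc, e, inv_mul_cancel_left]
  have h1 : φ u = ⟨u ^ (P : Subgroup H).index, MonoidHom.transfer_eq_pow_aux u key⟩ :=
    MonoidHom.transfer_eq_pow (MonoidHom.id ↥(P : Subgroup H)) u key
  have hsolv : Group.IsSolvable φ.range := by
    have : IsMulCommutative ↥φ.range := inferInstance
    exact Group.isSolvable_of_comm (fun a b => mul_comm a b)
  have h2 : φ u = 1 := h.hom_trivial φ hsolv u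
  have h3 : u ^ (P : Subgroup H).index = 1 := by
    rw [h1] at h2
    exact congrArg Subtype.val h2
  -- `u` is a `p`-element
  obtain ⟨k, hk⟩ := P.2 ⟨u, hu⟩
  have hk' : u ^ p ^ k = 1 := congrArg Subtype.val hk
  have hd1 : orderOf u ∣ (P : Subgroup H).index := orderOf_dvd_of_pow_eq_one h3
  have hd2 : orderOf u ∣ p ^ k := orderOf_dvd_of_pow_eq_one hk'
  have hcop : Nat.Coprime (P : Subgroup H).index (p ^ k) := by
    apply Nat.Coprime.pow_right
    rw [Nat.coprime_comm]
    exact (Nat.Prime.coprime_iff_not_dvd Fact.out).mpr P.not_dvd_index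
  have h4 : orderOf u = 1 := Nat.eq_one_of_dvd_coprimes hcop hd1 hd2
  exact orderOf_eq_one_iff.mp h4

end Cfsg.Agent.Lib.Helper3.MS
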