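import Mathlib
import Cfsg.Agent.Lib.Helper3.MSDefs
import Cfsg.Agent.Lib.Helper8.MSB1
import Cfsg.Agent.Lib.Helper8.MSG4

/-! S4125 MS farm, piece G5b: with a cyclic Sylow `p`-subgroup there is no nontrivial abelian normal subgroup. -/

set_option autoImplicit false
set_option linter.unusedVariables false
set_option linter.unusedSectionVars false
set_option linter.style.longLine false

namespace Cfsg.Agent.Lib.Helper3.MS

universe u v

variable {p q : ℕ} {H : Type u} [Group H] {V : Type v} [AddCommGroup V] [DistribMulAction H V]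

/-- the elements of `p'`-order of an abelian normal subgroup form a normal subgroup of order prime to `p` -/
theorem h8_pprime_part {G : Type*} [Group G] [Finite G] (p : ℕ) [Fact p.Prime] (A : Subgroup G) (hAn : A.Normal)
    (hAc : ∀ x ∈ A, ∀ y ∈ A, x * y = y * x) :
    ∃ B : Subgroup G, B.Normal ∧ (Nat.card B).Coprime p ∧
      ∀ a ∈ A, (orderOf a).Coprime p → a ∈ B := by
  let B : Subgroup G :=
    { carrier := {a | a ∈ A ∧ (orderOf a).Coprime p}
      mul_mem' := by
        rintro a b ⟨ha, hao⟩ ⟨hb, hbo⟩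
        refine ⟨A.mul_mem ha hb, ?_⟩
        have hcomm : Commute a b := hAc a ha b hb
        have h1 : orderOf (a * b) ∣ orderOf a * orderOf b :=
          hcomm.orderOf_mul_dvd_lcm.trans (Nat.lcm_dvd_mul _ _)
        exact Nat.Coprime.coprime_dvd_left h1 (Nat.Coprime.mul_left hao hbo)
      one_mem' := by
        refine ⟨A.one_mem, ?_⟩
        rw [orderOf_one]
        exact Nat.coprime_one_left p
      inv_mem' := by
        rintro a ⟨ha, hao⟩
        refine ⟨A.inv_mem ha, ?_⟩
        rw [orderOf_inv]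
        exact hao }
  refine ⟨B, ?_, ?_, ?_⟩
  · constructor
    rintro a ⟨ha, hao⟩ g
    refine ⟨hAn.conj_mem a ha g, ?_⟩
    have : orderOf (g * a * g⁻¹) = orderOf a :=
      orderOf_injective (MulAut.conj g).toMonoidHom (MulEquiv.injective _) a
    rw [this]
    exact hao
  · rw [Nat.coprime_comm, Nat.Prime.coprime_iff_not_dvd Fact.out]
    intro hdvd
    obtain ⟨b, hb⟩ := exists_prime_orderOf_dvd_card' p hdvd
    have h1 : orderOf (b : G) = p := by rw [Subgroup.orderOf_coe]; exact hb
    have h2 : (orderOf (b : G)).Coprime p := b.2.2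
    rw [h1] at h2
    exact (Nat.Prime.one_lt Fact.out).ne' ((Nat.coprime_self p).mp h2)
  · intro a ha hao
    exact ⟨ha, hao⟩

theorem MinCE.cyc_no_normal_abelian (h : MinCE p q H V) [Fact p.Prime] (P : Sylow p H)
    (hcyc : IsCyclic ↥(P : Subgroup H)) (A : Subgroup H) (hAn : A.Normal)
    (hAc : ∀ x ∈ A, ∀ y ∈ A, x * y = y * x) : A = ⊥ := by
  have := h.finH
  have hp : p.Prime := Fact.out
  -- the `p'`-part of `A` is trivial
  obtain ⟨B, hBn, hBc, hB⟩ := h8_pprime_part p A hAn hAc
  have hBbot : B = ⊥ := h.normal_coprime_trivial B hBn hBc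
  -- `A` is a `p`-group
  have hAp : IsPGroup p A := by
    rintro ⟨a, ha⟩
    have hn0 : orderOf a ≠ 0 := (orderOf_pos a).ne'
    refine ⟨(orderOf a).factorization p, ?_⟩
    have hmem : a ^ (p ^ (orderOf a).factorization p) ∈ B := by
      apply hB _ (A.pow_mem ha _)
      rw [orderOf_pow' a (pow_ne_zero _ hp.ne_zero)]
      have hg : Nat.gcd (orderOf a) (p ^ (orderOf a).factorization p) = p ^ (orderOf a).factorization p :=
        Nat.gcd_eq_right (Nat.ordProj_dvd (orderOf a) p)
      rw [hg]
      exact (Nat.coprime_ordCompl hp hn0).symm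
    rw [hBbot, Subgroup.mem_bot] at hmem
    exact Subtype.ext hmem
  -- `A ≤ P`
  have hAP : A ≤ (P : Subgroup H) := hAp.le_sylow_of_normal P
  -- `A` is cyclic
  have hAcyc : IsCyclic ↥A := by
    have h1 : IsCyclic ↥(A.subgroupOf (P : Subgroup H)) := Subgroup.isCyclic _
    exact (Subgroup.subgroupOfEquivOfLe hAP).isCyclic.mp h1
  -- the conjugation action on `A` is trivial
  let φ : H →* MulAut ↥A := MulAut.conjNormal
  have hsolv : Group.IsSolvable φ.range := by
    apply Group.isSolvable_of_comm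
    intro x y
    apply Subtype.ext
    apply (IsCyclic.mulAutMulEquiv ↥A).injective
    simp only [Subgroup.coe_mul, map_mul]
    exact mul_comm _ _
  rw [eq_bot_iff]
  intro a ha
  rw [Subgroup.mem_bot]
  apply h.cyc_center_trivial P hcyc a (hAP ha)
  intro y
  have h1 : φ y = 1 := h.hom_trivial φ hsolv y
  have h2 : ((φ y) ⟨a, ha⟩ : H) = y * a * y⁻¹ := MulAut.conjNormal_apply y ⟨a, ha⟩
  rw [h1] at h2
  have h3 : a = y * a * y⁻¹ := h2
  calc y * a = (y * a * y⁻¹) * y := by rw [inv_mul_cancel_right]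
    _ = a * y := by rw [← h3]

end Cfsg.Agent.Lib.Helper3.MS
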