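import Mathlib
import Cfsg.Agent.Lib.Helper3.MSDefs
import Cfsg.Agent.Lib.Helper8.MSB3
import Cfsg.Agent.Lib.Helper8.MSG1
import Cfsg.Agent.Lib.Helper8.MSG5a
import Cfsg.Agent.Lib.Helper8.MSG5b

/-! S4125 MS farm, piece G5: with a cyclic Sylow `p`-subgroup the stabilizer of a nonzero vector is a maximal subgroup. -/

set_option autoImplicit false
set_option linter.unusedVariables false
set_option linter.unusedSectionVars false
set_option linter.style.longLine false

namespace Cfsg.Agent.Lib.Helper3.MS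

universe u v

variable {p q : ℕ} {H : Type u} [Group H] {V : Type v} [AddCommGroup V] [DistribMulAction H V]

theorem MinCE.cyc_stab_maximal (h : MinCE p q H V) [Fact p.Prime] (P : Sylow p H)
    (hcyc : IsCyclic ↥(P : Subgroup H)) (v0 : V) (hv0 : v0 ≠ 0) (M : Subgroup H)
    (hM : MulAction.stabilizer H v0 < M) : M = ⊤ := by
  have := h.finH
  by_contra hMtop
  -- an element of `M` outside the stabilizer
  obtain ⟨m, hmM, hmC⟩ := SetLike.exists_of_lt hM
  obtain ⟨g, hgP, hg⟩ := h.toHyp.sylow_orbit P v0 m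
  have hgM : g ∈ M := by
    have h1 : m⁻¹ * g ∈ MulAction.stabilizer H v0 := by
      rw [MulAction.mem_stabilizer_iff, mul_smul, hg, inv_smul_smul]
    have h2 : m⁻¹ * g ∈ M := hM.le h1
    have h3 := M.mul_mem hmM h2
    rwa [mul_inv_cancel_left] at h3
  have hg1 : g ≠ 1 := by
    intro h1
    apply hmC
    rw [MulAction.mem_stabilizer_iff, ← hg, h1, one_smul]
  -- `g` lies in the normal core of `M`
  have hgK : g ∈ M.normalCore := by
    intro b
    -- write `b⁻¹ = u * c` with `u ∈ P`, `c` in the stabilizer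
    obtain ⟨u, huP, hu⟩ := h.toHyp.sylow_orbit P v0 b⁻¹
    have hc : u⁻¹ * b⁻¹ ∈ MulAction.stabilizer H v0 := by
      rw [MulAction.mem_stabilizer_iff, mul_smul, ← hu, inv_smul_smul]
    have hcM : u⁻¹ * b⁻¹ ∈ M := hM.le hc
    have hcomm : u * g = g * u := h8_cyc_comm (P : Subgroup H) hcyc u g huP hgP
    -- `b g b⁻¹ = c⁻¹ g c` with `c = u⁻¹ b⁻¹`
    have e : b * g * b⁻¹ = (u⁻¹ * b⁻¹)⁻¹ * g * (u⁻¹ * b⁻¹) := by
      have e1 : (u⁻¹ * b⁻¹)⁻¹ * g * (u⁻¹ * b⁻¹) = b * (u * g * u⁻¹) * b⁻¹ := by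
        simp only [mul_inv_rev, inv_inv, mul_assoc]
      rw [e1, hcomm, mul_inv_cancel_right]
    rw [e]
    exact M.mul_mem (M.mul_mem (M.inv_mem hcM) hgM) hcM
  have hKne : M.normalCore ≠ ⊥ := by
    intro hbot
    rw [hbot, Subgroup.mem_bot] at hgK
    exact hg1 hgK
  have hKtop : M.normalCore ≠ ⊤ := by
    intro htop
    apply hMtop
    rw [eq_top_iff, ← htop]
    exact Subgroup.normalCore_le M
  have hKs : Group.IsSolvable M.normalCore := h.normalSolv _ inferInstance hKtop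
  obtain ⟨A, hAK, hAne, hAn, hAc⟩ := exists_normal_abelian_of_solvable M.normalCore inferInstance hKs hKne
  exact hAne (h.cyc_no_normal_abelian P hcyc A hAn hAc)

end Cfsg.Agent.Lib.Helper3.MS
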