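import Cfsg.Agent.Lib.Helper8.Asch13

set_option autoImplicit false

/-! The class-two case: the exponent and the order of the centre. -/

namespace Cfsg.Agent.Lib.Helper8.Asch

open scoped commutatorElement

variable {G : Type*} [Group G]

theorem prime_dvd_choose_two {r : ℕ} (hr : r.Prime) : r ∣ (r * Nat.gcd 2 r).choose 2 := by
  by_cases h2 : r = 2
  · subst h2
    decide
  · have hr3 : 2 < r := lt_of_le_of_ne hr.two_le (Ne.symm h2)
    have hg : Nat.gcd 2 r = 1 := by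
      have : Nat.Coprime 2 r := (Nat.coprime_primes Nat.prime_two hr).mpr (Ne.symm h2)
      exact this
    rw [hg, mul_one]
    exact hr.dvd_choose_self (by norm_num) hr3

namespace CaseA

variable {H Z N : Subgroup G} (hA : CaseA H Z N)

include hA

/-- the elements killed by `e`, when `⁅x,y⁆ ^ (e choose 2) = 1` throughout -/
def Ee (e : ℕ) (hce : ∀ x ∈ N, ∀ y ∈ N, ⁅x, y⁆ ^ e.choose 2 = 1) : Subgroup G where
  carrier := {x | x ∈ N ∧ x ^ e = 1}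
  one_mem' := ⟨N.one_mem, one_pow _⟩
  inv_mem' := by
    rintro x ⟨hx, hxe⟩
    exact ⟨N.inv_mem hx, by rw [inv_pow, hxe, inv_one]⟩
  mul_mem' := by
    rintro a b ⟨ha, hae⟩ ⟨hb, hbe⟩
    refine ⟨N.mul_mem ha hb, ?_⟩
    rw [mul_pow_class_two (hA.comm_central hb ha) e, hae, hbe, hce b hb a ha, one_mul, one_mul]

theorem HInv_Ee (e : ℕ) (hce : ∀ x ∈ N, ∀ y ∈ N, ⁅x, y⁆ ^ e.choose 2 = 1) :
    HInv H (hA.Ee e hce) := by
  rintro h hh x ⟨hx, hxe⟩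
  refine ⟨hA.minNC.inv h hh x hx, ?_⟩
  rw [conj_pow, hxe, mul_one, mul_inv_cancel]

/-- the key element: if `(y^r)^k = x^r` then `x * y^(-k)` is killed by `r * gcd 2 r` -/
theorem exists_small_order {r : ℕ} (hr : r.Prime) (hc : ∀ x ∈ N, ∀ y ∈ N, ⁅x, y⁆ ^ r = 1)
    {x y : G} (hx : x ∈ N) (hy : y ∈ N) (hxy : ⁅x, y⁆ ≠ 1) (k : ℤ) (hk : (y ^ r) ^ k = x ^ r) :
    ∃ w ∈ N, w ^ (r * Nat.gcd 2 r) = 1 ∧ w ∉ Z := by
  set y' := y ^ (-k) with hy'
  have hy'N : y' ∈ N := N.zpow_mem hy _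
  refine ⟨x * y', N.mul_mem hx hy'N, ?_, ?_⟩
  · have h1 : y' ^ r = (x ^ r)⁻¹ := by
      rw [hy', ← hk, ← zpow_natCast, ← zpow_mul, ← zpow_natCast y r, ← zpow_mul, ← zpow_neg]
      congr 1
      ring
    have h2 : (x * y') ^ r = ⁅y', x⁆ ^ r.choose 2 := by
      rw [mul_pow_class_two (hA.comm_central hy'N hx) r, h1, mul_inv_cancel, one_mul]
    by_cases hr2 : r = 2
    · subst hr2
      have : Nat.gcd 2 2 = 2 := rfl
      rw [this, pow_mul, h2, Nat.choose_self, pow_one]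
      exact hc _ hy'N _ hx
    · have hr3 : 2 < r := lt_of_le_of_ne hr.two_le (Ne.symm hr2)
      have hg : Nat.gcd 2 r = 1 := by
        have : Nat.Coprime 2 r := (Nat.coprime_primes Nat.prime_two hr).mpr (Ne.symm hr2)
        exact this
      rw [hg, mul_one, h2]
      obtain ⟨d, hd⟩ := hr.dvd_choose_self (k := 2) (by norm_num) hr3
      rw [hd, pow_mul, hc _ hy'N _ hx, one_pow]
  · apply hA.not_mem_Z_of_comm_ne (y := y)
    rw [hA.comm_mul_left' hy'N hy]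
    have : ⁅y', y⁆ = 1 := by
      rw [commutatorElement_eq_one_iff_mul_comm, hy']
      exact ((Commute.refl y).zpow_left (-k)).eq
    rw [this, one_mul]
    exact hxy

theorem exponent_dvd {r : ℕ} (hr : r.Prime) (hN : ∀ x ∈ N, ∃ k, x ^ r ^ k = 1)
    (hcyc : IsCyclic ↥(N ⊓ Z)) : ∀ x ∈ N, x ^ (r * Nat.gcd 2 r) = 1 := by
  have hfin : Finite N := hA.fin
  have hfinC : Finite ↥(N ⊓ Z) :=
    Finite.of_injective (Subgroup.inclusion (inf_le_left : N ⊓ Z ≤ N)) (Subgroup.inclusion_injective _)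
  have hc := hA.comm_pow_eq_one hr hN
  set e := r * Nat.gcd 2 r with he
  have hce : ∀ x ∈ N, ∀ y ∈ N, ⁅x, y⁆ ^ e.choose 2 = 1 := by
    intro x hx y hy
    obtain ⟨d, hd⟩ := prime_dvd_choose_two hr
    rw [hd, pow_mul, hc x hx y hy, one_pow]
  obtain ⟨x, hx, y, hy, hxy⟩ := hA.exists_noncomm
  have hu : x ^ r ∈ N ⊓ Z := ⟨N.pow_mem hx r, hA.pow_mem_Z hc hx⟩
  have hv : y ^ r ∈ N ⊓ Z := ⟨N.pow_mem hy r, hA.pow_mem_Z hc hy⟩
  have hCr : ∀ z : ↥(N ⊓ Z), ∃ k, z ^ r ^ k = 1 := by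
    intro z
    obtain ⟨k, hk⟩ := hN z.1 z.2.1
    exact ⟨k, Subtype.ext hk⟩
  have hw : ∃ w ∈ N, w ^ e = 1 ∧ w ∉ Z := by
    rcases cyclic_chain r hr hCr ⟨x ^ r, hu⟩ ⟨y ^ r, hv⟩ with h | h
    · obtain ⟨k, hk⟩ := Subgroup.mem_zpowers_iff.mp h
      have hk' : (y ^ r) ^ k = x ^ r := by
        have := congrArg (Subtype.val : ↥(N ⊓ Z) → G) hk
        simpa using this
      exact hA.exists_small_order hr hc hx hy hxy k hk'
    · obtain ⟨k, hk⟩ := Subgroup.mem_zpowers_iff.mp h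
      have hk' : (x ^ r) ^ k = y ^ r := by
        have := congrArg (Subtype.val : ↥(N ⊓ Z) → G) hk
        simpa using this
      have hyx : ⁅y, x⁆ ≠ 1 := by
        intro h1
        apply hxy
        rw [← commutatorElement_inv, h1, inv_one]
      exact hA.exists_small_order hr hc hy hx hyx k hk'
  obtain ⟨w, hwN, hwe, hwZ⟩ := hw
  have hE : hA.Ee e hce = N :=
    hA.eq_of_pred (hA.Ee e hce) (fun x hx => hx.1) (hA.HInv_Ee e hce) w ⟨hwN, hwe⟩ hwZ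
  intro x hx
  have : x ∈ hA.Ee e hce := by rw [hE]; exact hx
  exact this.2

theorem card_center_dvd {r : ℕ} (hr : r.Prime) (hN : ∀ x ∈ N, ∃ k, x ^ r ^ k = 1)
    (hcyc : IsCyclic ↥(N ⊓ Z)) :
    Nat.card ↥(N ⊓ Z) ∣ r * Nat.gcd 2 r ∧ Nat.card ↥(N ⊓ Z) ≠ 1 := by
  have hfin : Finite N := hA.fin
  have hfinC : Finite ↥(N ⊓ Z) :=
    Finite.of_injective (Subgroup.inclusion (inf_le_left : N ⊓ Z ≤ N)) (Subgroup.inclusion_injective _)
  have hexp := hA.exponent_dvd hr hN hcyc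
  constructor
  · obtain ⟨g, hg⟩ := IsCyclic.exists_ofOrder_eq_natCard (α := ↥(N ⊓ Z))
    rw [← hg]
    apply orderOf_dvd_of_pow_eq_one
    exact Subtype.ext (hexp g.1 g.2.1)
  · intro h1
    obtain ⟨x, hx, y, hy, hxy⟩ := hA.exists_noncomm
    have hcN : ⁅x, y⁆ ∈ N ⊓ Z :=
      ⟨N.mul_mem (N.mul_mem (N.mul_mem hx hy) (N.inv_mem hx)) (N.inv_mem hy), hA.comm x hx y hy⟩
    have hsub : Subsingleton ↥(N ⊓ Z) := (Nat.card_eq_one_iff_unique.mp h1).1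
    have : (⟨⁅x, y⁆, hcN⟩ : ↥(N ⊓ Z)) = 1 := Subsingleton.elim _ _
    exact hxy (congrArg Subtype.val this)

end CaseA

end Cfsg.Agent.Lib.Helper8.Asch
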