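import Cfsg.Agent.Lib.Helper8.Asch21
import Cfsg.Agent.Lib.Helper8.Asch14

set_option autoImplicit false

/-! Case A: the minimal non-scalar invariant subgroup is abelian modulo scalars. Basic data. -/

namespace Cfsg.Agent.Lib.Helper8.Asch

open Module Matrix
open scoped commutatorElement

variable {ι : Type} [Fintype ι] [DecidableEq ι] {F : Type*} [Field F]

/-- the data of Case A -/
structure ACase (H N : Subgroup (GL ι F)) : Prop where
  minNC : IsMinNC H (Zs ι F) N
  comm : ⁅N, N⁆ ≤ Zs ι F
  span : Submodule.span F (mset N) = ⊤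

namespace ACase

variable {H N : Subgroup (GL ι F)} (hA : ACase H N)

include hA

theorem cl2 [Finite F] : Cl2 N :=
  ⟨inferInstance, hA.span, fun x hx y hy => hA.comm (Subgroup.commutator_mem_commutator hx hy)⟩

theorem caseA [Finite F] [Nonempty ι] : CaseA H (Zs ι F) N :=
  ⟨hA.minNC, Zs_le_center, fun x hx y hy => hA.comm (Subgroup.commutator_mem_commutator hx hy),
    fun x _ hx => hA.cl2.mem_Zs_of_commute (fun y hy => hx y hy), inferInstance⟩

end ACase

/-- the scalar of an element of `N ⊓ Zs` -/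
noncomputable def svHom [Nonempty ι] (N : Subgroup (GL ι F)) :
    ↥(N ⊓ Zs ι F) →* F where
  toFun k := sv (k : GL ι F)
  map_one' := sv_one
  map_mul' a b := sv_mul a.2.2 b.2.2

theorem svHom_injective [Nonempty ι] (N : Subgroup (GL ι F)) :
    Function.Injective (svHom N) := by
  intro a b hab
  apply Subtype.ext
  apply Units.ext
  rw [val_eq_sv_smul a.2.2, val_eq_sv_smul b.2.2]
  congr 1

theorem isCyclic_inf [Finite F] [Nonempty ι] (N : Subgroup (GL ι F)) :
    IsCyclic ↥(N ⊓ Zs ι F) :=
  isCyclic_of_subgroup_isDomain (svHom N) (svHom_injective N)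

/-- the scalars in `N`, as a subgroup of `N`, against `N ⊓ Zs` -/
noncomputable def ksubEquiv [Nonempty ι] (N : Subgroup (GL ι F)) :
    Ksub N ≃* ↥(N ⊓ Zs ι F) where
  toFun k := ⟨(k : N), (k : N).2, Subgroup.mem_subgroupOf.mp k.2⟩
  invFun k := ⟨⟨k, k.2.1⟩, Subgroup.mem_subgroupOf.mpr k.2.2⟩
  left_inv _ := rfl
  right_inv _ := rfl
  map_mul' _ _ := rfl

theorem card_N [Finite F] [Nonempty ι] {N : Subgroup (GL ι F)} (hN : Cl2 N) :
    Nat.card N = Nat.card ↥(N ⊓ Zs ι F) * Fintype.card ι ^ 2 := by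
  have h1 := Subgroup.card_eq_card_quotient_mul_card_subgroup (Ksub N)
  rw [card_quot hN, Nat.card_congr (ksubEquiv N).toEquiv] at h1
  rw [h1, mul_comm]

theorem center_eq_ksub [Nonempty ι] {N : Subgroup (GL ι F)} (hN : Cl2 N) :
    Subgroup.center N = Ksub N := by
  ext x
  rw [Subgroup.mem_center_iff, Subgroup.mem_subgroupOf]
  constructor
  · intro h
    apply hN.mem_Zs_of_commute
    intro y hy
    have := h ⟨y, hy⟩
    have h2 := congrArg (Subtype.val : N → GL ι F) this
    simpa using h2.symm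
  · intro h y
    apply Subtype.ext
    simp only [Subgroup.coe_mul]
    exact (Zs_le_center h |> Subgroup.mem_center_iff.mp) y

theorem card_center [Nonempty ι] {N : Subgroup (GL ι F)} (hN : Cl2 N) :
    Nat.card (Subgroup.center N) = Nat.card ↥(N ⊓ Zs ι F) := by
  rw [center_eq_ksub hN]
  exact Nat.card_congr (ksubEquiv N).toEquiv

end Cfsg.Agent.Lib.Helper8.Asch
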