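import Mathlib
import Cfsg.Agent.Lib.Helper3.NCSDefs
import Cfsg.Agent.Lib.Helper8.NCSComp
import Cfsg.Agent.Lib.Helper4.NCSSemireg

set_option autoImplicit false
set_option maxHeartbeats 4000000
set_option maxRecDepth 100000
set_option linter.unusedVariables false
set_option linter.unusedSectionVars false
set_option linter.style.longLine false

namespace Cfsg.Agent.Lib.Helper3.NCS

open Cfsg.Agent.Lib.Helper7.TC

variable {G : Type*} [Group G] [Finite G]

/-! ## P5 -/

theorem h8_rPart_isPGroup {r : ℕ} [hr : Fact r.Prime] {y : G} {B : Subgroup G} (hB : IsRPart r y B) :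
    IsPGroup r B := by
  intro b
  obtain ⟨_, k, hk⟩ := (hB b).mp b.2
  exact ⟨k, Subtype.ext (by simpa using hk)⟩

/-- conjugation by `g` preserves `IsRPart` when `g` normalizes `cent y` -/
theorem h8_conj_mem_rPart {r : ℕ} [hr : Fact r.Prime] {y : G} {B : Subgroup G} (hB : IsRPart r y B)
    {g : G} (hg : ∀ c ∈ cent y, g * c * g⁻¹ ∈ cent y) {b : G} (hb : b ∈ B) : g * b * g⁻¹ ∈ B := by
  obtain ⟨hbC, k, hk⟩ := (hB b).mp hb
  refine (hB _).mpr ⟨hg b hbC, k, ?_⟩
  rw [conj_pow, hk]; group

theorem h8_bcard_mul {N : Subgroup G} {m r : ℕ} [hr : Fact r.Prime] (hS : Setup N m r) :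
    bcard G r m * r ^ m.factorization r = r ^ (Nat.card G).factorization r := by
  obtain ⟨P⟩ : Nonempty (Sylow r G) := inferInstance
  obtain ⟨w, hwP, hwZ⟩ := SetLike.not_le_iff_exists.mp (hS.sylow_not_central P)
  have hwN : w ∈ N := hS.sylow_le P hwP
  have hidx : (cent w).index = m := index_eq hS.hyp hwN hwZ
  have hdvd : m ∣ Nat.card G := by rw [← hidx]; exact Subgroup.index_dvd_card _
  have hm0 : m ≠ 0 := by rw [← hidx]; exact Subgroup.index_ne_zero_of_finite
  have hle : m.factorization r ≤ (Nat.card G).factorization r :=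
    (Nat.factorization_le_iff_dvd hm0 Nat.card_pos.ne').mpr hdvd r
  unfold bcard
  rw [← pow_add, Nat.sub_add_cancel hle]

theorem h8_card_mul_relIndex {H L : Subgroup G} (h : H ≤ L) :
    Nat.card H * H.relIndex L = Nat.card L := by
  rw [Subgroup.relIndex, ← Subgroup.card_mul_index (H.subgroupOf L)]
  congr 1
  exact (Nat.card_congr (Subgroup.subgroupOfEquivOfLe h).toEquiv).symm

theorem exists_K {N : Subgroup G} {m r : ℕ} [hr : Fact r.Prime] (hS : Setup N m r)
    (hNab : ¬ ∀ x ∈ N, ∀ y ∈ N, x * y = y * x) {y : G} (hy : IsComp N r y) {B : Subgroup G}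
    (hB : IsRPart r y B) :
    ∃ K : Subgroup G, IsPGroup r K ∧ B ≤ K ∧ (∀ g ∈ K, ∀ b ∈ B, g * b * g⁻¹ ∈ B) ∧
      bcard G r m * bcard G r m ≤ Nat.card K * zcard G r := by
  classical
  have hBp : IsPGroup r B := h8_rPart_isPGroup hB
  obtain ⟨R', hBR'⟩ := hBp.exists_le_sylow
  have hBN : B ≤ N := rPart_le hS hy hB
  have hBC : B ≤ cent y := fun b hb => ((hB b).mp hb).1
  have hcardB : Nat.card B = bcard G r m := rPart_card hS hy hB
  have hcardBZ : Nat.card (B ⊓ Subgroup.center G : Subgroup G) = zcard G r :=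
    rPart_center_card hS hy hB
  have hzpos : 0 < zcard G r := by unfold zcard; exact pow_pos hr.out.pos _
  have hm0 : m ≠ 0 := by
    rw [← index_eq hS.hyp hy.mem hy.not_center]; exact Subgroup.index_ne_zero_of_finite
  set K : Subgroup G := (R' : Subgroup G) ⊓ Subgroup.normalizer (B : Set G) with hK
  have hKp : IsPGroup r K := R'.isPGroup'.to_le inf_le_left
  have hBK : B ≤ K := le_inf hBR' Subgroup.le_normalizer
  have hKnorm : ∀ g ∈ K, ∀ b ∈ B, g * b * g⁻¹ ∈ B := by
    intro g hg b hb
    exact (Subgroup.mem_normalizer_iff.mp hg.2 b).mp hb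
  refine ⟨K, hKp, hBK, hKnorm, ?_⟩
  by_cases hKR : K = (R' : Subgroup G)
  · -- case 1: `R'` normalizes `B`
    have hcardK : Nat.card K = r ^ (Nat.card G).factorization r := by
      rw [hKR]; exact R'.card_eq_multiplicity
    have hrel : (Subgroup.center G).relIndex B ∣ m := semireg_dvd hS hNab hy hBN hBC
    have hrelcard : zcard G r * (Subgroup.center G).relIndex B = bcard G r m := by
      rw [← hcardB, ← hcardBZ, ← Subgroup.inf_relIndex_left B (Subgroup.center G)]
      exact h8_card_mul_relIndex inf_le_left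
    have hdvdb : (Subgroup.center G).relIndex B ∣ r ^ ((Nat.card G).factorization r - m.factorization r) := by
      have : (Subgroup.center G).relIndex B ∣ bcard G r m := ⟨zcard G r, by rw [← hrelcard]; ring⟩
      simpa [bcard] using this
    obtain ⟨j, -, hj⟩ := (Nat.dvd_prime_pow hr.out).mp hdvdb
    have hjle : j ≤ m.factorization r := by
      rw [hj] at hrel
      exact (hr.out.pow_dvd_iff_le_factorization hm0).mp hrel
    have hle : (Subgroup.center G).relIndex B ≤ r ^ m.factorization r := by
      rw [hj]; exact Nat.pow_le_pow_right hr.out.pos hjle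
    calc bcard G r m * bcard G r m
        = bcard G r m * (zcard G r * (Subgroup.center G).relIndex B) := by rw [hrelcard]
      _ ≤ bcard G r m * (zcard G r * r ^ m.factorization r) := by gcongr
      _ = (bcard G r m * r ^ m.factorization r) * zcard G r := by ring
      _ = Nat.card K * zcard G r := by rw [h8_bcard_mul hS, hcardK]
  · -- case 2: some `g ∈ R'` normalizes `K` but not `B`
    have hKleR : K ≤ (R' : Subgroup G) := inf_le_left
    have hlt : K.subgroupOf (R' : Subgroup G) < ⊤ := by
      rw [lt_top_iff_ne_top]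
      intro h
      exact hKR (le_antisymm hKleR (Subgroup.subgroupOf_eq_top.mp h))
    have hnil : Group.IsNilpotent (R' : Subgroup G) := R'.isPGroup'.isNilpotent
    have hlt2 := (Group.normalizerCondition_of_isNilpotent (G := (R' : Subgroup G))) _ hlt
    obtain ⟨x, hxN, hxK⟩ := SetLike.exists_of_lt hlt2
    obtain ⟨g, hgR'⟩ := x
    have hgK : g ∉ K := fun h => hxK (Subgroup.mem_subgroupOf.mpr h)
    have hgK_norm : ∀ k ∈ K, g * k * g⁻¹ ∈ K := by
      intro k hk
      have h1 := (Subgroup.mem_normalizer_iff.mp hxN ⟨k, hKleR hk⟩).mp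
        (Subgroup.mem_subgroupOf.mpr hk)
      exact Subgroup.mem_subgroupOf.mp h1
    have hgnB : g ∉ Subgroup.normalizer (B : Set G) := fun h => hgK ⟨hgR', h⟩
    set B' : Subgroup G := B.map (MulAut.conj g).toMonoidHom with hB'
    have hB'K : B' ≤ K := by
      intro u hu
      obtain ⟨b, hbB, hbu⟩ := Subgroup.mem_map.mp hu
      have hbu' : g * b * g⁻¹ = u := by simpa using hbu
      rw [← hbu']
      exact hgK_norm b (hBK hbB)
    have hcardB' : Nat.card B' = Nat.card B :=
      Subgroup.card_map_of_injective (MulAut.conj g).injective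
    have hinter : B' ⊓ B ≤ Subgroup.center G := by
      intro u hu
      obtain ⟨hu', huB⟩ := hu
      obtain ⟨b, hbB, hbu⟩ := Subgroup.mem_map.mp hu'
      have hbu' : g * b * g⁻¹ = u := by simpa using hbu
      by_contra huZ
      have hbZ : b ∉ Subgroup.center G := by
        intro hbZ
        apply huZ
        rw [← hbu']
        exact (inferInstance : (Subgroup.center G).Normal).conj_mem b hbZ g
      have hcb : cent b = cent y := comp_cent_eq hS hy b (hBN hbB) (hBC hbB) hbZ
      have hcu : cent u = cent y := comp_cent_eq hS hy u (hBN huB) (hBC huB) huZ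
      have hg1 : ∀ c ∈ cent y, g * c * g⁻¹ ∈ cent y := by
        intro c hc
        rw [← hcu, mem_cent, ← hbu']
        rw [← hcb, mem_cent] at hc
        calc g * c * g⁻¹ * (g * b * g⁻¹) = g * (c * b) * g⁻¹ := by group
          _ = g * (b * c) * g⁻¹ := by rw [hc]
          _ = g * b * g⁻¹ * (g * c * g⁻¹) := by group
      have hg2 : ∀ c ∈ cent y, g⁻¹ * c * g⁻¹⁻¹ ∈ cent y := by
        intro c hc
        rw [← hcb, mem_cent]
        rw [← hcu, mem_cent, ← hbu'] at hc
        calc g⁻¹ * c * g⁻¹⁻¹ * b = g⁻¹ * (c * (g * b * g⁻¹)) * g := by group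
          _ = g⁻¹ * ((g * b * g⁻¹) * c) * g := by rw [hc]
          _ = b * (g⁻¹ * c * g⁻¹⁻¹) := by group
      apply hgnB
      rw [Subgroup.mem_normalizer_iff]
      intro h
      constructor
      · intro hh; exact h8_conj_mem_rPart hB hg1 hh
      · intro hh
        have h3 := h8_conj_mem_rPart hB hg2 hh
        have e : g⁻¹ * (g * h * g⁻¹) * g⁻¹⁻¹ = h := by group
        rw [e] at h3
        exact h3
    have h1 : Nat.card (B' ⊓ B : Subgroup G) * (B' ⊓ B).relIndex B = Nat.card B :=
      h8_card_mul_relIndex inf_le_right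
    have h2 : Nat.card B' * B'.relIndex K = Nat.card K := h8_card_mul_relIndex hB'K
    have h3 : (B' ⊓ B).relIndex B = B'.relIndex B := Subgroup.inf_relIndex_right _ _
    have h4 : B'.relIndex B ≤ B'.relIndex K :=
      Subgroup.relIndex_le_of_le_right hBK (by
        show (B'.subgroupOf K).index ≠ 0
        exact Subgroup.index_ne_zero_of_finite)
    have h5 : Nat.card (B' ⊓ B : Subgroup G) ≤ zcard G r := by
      rw [← hcardBZ]; exact Subgroup.card_le_of_le (le_inf inf_le_right hinter)
    calc bcard G r m * bcard G r m = Nat.card B * Nat.card B' := by rw [hcardB', hcardB]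
      _ = (Nat.card (B' ⊓ B : Subgroup G) * B'.relIndex B) * Nat.card B' := by rw [← h3, h1]
      _ ≤ (zcard G r * B'.relIndex K) * Nat.card B' := by gcongr
      _ = (Nat.card B' * B'.relIndex K) * zcard G r := by ring
      _ = Nat.card K * zcard G r := by rw [h2]

end Cfsg.Agent.Lib.Helper3.NCS
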