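import Cfsg.Agent.Lib.Helper8.NG5Defs
import Cfsg.Agent.Lib.Helper1.MaxAbelianNormal
import Cfsg.Agent.Lib.Helper1.CoprimeAut
import Cfsg.Agent.Lib.Helper8.Ext1

/-!
Farm NG5 (S1904): basic units U01-U05, U08, U09 (helper8).
-/

set_option autoImplicit false
open scoped commutatorElement

namespace Cfsg.Agent.Lib.Helper8.NG5Basic
open Cfsg.Agent.Lib.Helper8.NG5

variable {X : Type*} [Group X] [Finite X] {A : Subgroup (MulAut X)}

omit [Finite X] in
theorem comm_of_sq (a b : X) (ha : a ^ 2 = 1) (hb : b ^ 2 = 1) (hab : (a * b) ^ 2 = 1) :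
    a * b = b * a := by
  have ha' : a⁻¹ = a := by
    apply inv_eq_of_mul_eq_one_left
    rw [← pow_two]; exact ha
  have hb' : b⁻¹ = b := by
    apply inv_eq_of_mul_eq_one_left
    rw [← pow_two]; exact hb
  have h1 : a * b = (a * b)⁻¹ := by
    apply eq_inv_of_mul_eq_one_left
    rw [← pow_two]; exact hab
  rw [h1, mul_inv_rev, ha', hb']

/-- U01. -/
theorem hyp_of (hX : IsPGroup 2 X) (hna : ¬ IsMulCommutative X)
    (hscn : ¬ ∃ A₁ : Subgroup X, A₁.Normal ∧ Subgroup.centralizer (A₁ : Set X) = A₁ ∧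
      ∃ E : Subgroup X, E ≤ A₁ ∧ Cfsg.IsElementaryAbelian 2 E ∧ Nat.card E = 8)
    (A : Subgroup (MulAut X)) (hA : Odd (Nat.card A))
    (hXA : Subgroup.closure {g : X | ∃ φ ∈ A, ∃ x : X, g = x⁻¹ * φ x} = ⊤) : Hyp X A := by
  refine ⟨hX, ?_, ?_, hA, ?_⟩
  · by_contra hcon
    push Not at hcon
    exact hna ⟨⟨fun a b => hcon a b⟩⟩
  · intro E hE hexp
    by_contra hcard
    push Not at hcard
    have hEc : ∀ a ∈ E, ∀ b ∈ E, a * b = b * a := fun a ha b hb =>
      comm_of_sq a b (hexp a ha) (hexp b hb) (hexp _ (E.mul_mem ha hb))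
    have hEc' : IsMulCommutative E :=
      ⟨⟨fun a b => Subtype.ext (hEc a a.2 b b.2)⟩⟩
    have hnil : Group.IsNilpotent X := hX.isNilpotent
    obtain ⟨B, ⟨hBn, hBc, hEB⟩, hmax⟩ := Set.exists_max_image
      {N : Subgroup X | N.Normal ∧ IsMulCommutative N ∧ E ≤ N} (fun N => Nat.card N)
      (Set.toFinite _) ⟨E, hE, hEc', le_rfl⟩
    have hC : Subgroup.centralizer (B : Set X) = B := by
      apply Cfsg.Agent.Lib.Helper1.centralizer_eq_of_maximal_abelian_normal (hNn := hBn)
        (hNc := hBc) B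
      intro M hMn hMc hBM
      have := hmax M ⟨hMn, hMc, hEB.trans hBM⟩
      exact (Subgroup.eq_of_le_of_card_ge hBM this).symm
    have h8 : 2 ^ 3 ≤ Nat.card E := by
      obtain ⟨k, hk⟩ := IsPGroup.iff_card.mp (hX.to_subgroup E)
      rw [hk] at hcard ⊢
      have : 2 < k := by
        by_contra hk2
        push Not at hk2
        have : 2 ^ k ≤ 2 ^ 2 := Nat.pow_le_pow_right (by norm_num) hk2
        omega
      exact Nat.pow_le_pow_right (by norm_num) this
    obtain ⟨E₀, hE₀E, hE₀c⟩ :=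
      Sylow.exists_subgroup_le_card_pow_prime_of_le_card Nat.prime_two hX h8
    apply hscn
    refine ⟨B, hBn, hC, E₀, hE₀E.trans hEB, ⟨?_, ?_⟩, by rw [hE₀c]; norm_num⟩
    · exact ⟨⟨fun a b => Subtype.ext (hEc a (hE₀E a.2) b (hE₀E b.2))⟩⟩
    · intro a ha
      exact hexp a (hE₀E ha)
  · intro K hK
    rw [eq_top_iff, ← hXA, Subgroup.closure_le]
    rintro g ⟨φ, hφ, x, rfl⟩
    exact hK φ hφ x

theorem coprime_order (h : Hyp X A) (φ : MulAut X) (hφ : φ ∈ A) :
    Nat.Coprime (orderOf φ) 2 := by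
  have h1 : orderOf φ ∣ Nat.card A := by
    have := orderOf_dvd_natCard (⟨φ, hφ⟩ : A)
    rwa [Subgroup.orderOf_mk] at this
  exact Nat.Coprime.coprime_dvd_left h1 h.odd.coprime_two_right

/-- U02 (P3). -/
theorem index_two (h : Hyp X A) (K : Subgroup X) (hK : ∀ φ ∈ A, ∀ k ∈ K, φ k ∈ K)
    (hidx : K.index ≤ 2) : K = ⊤ := by
  apply h.gen
  intro φ hφ x
  by_cases hx : x ∈ K
  · exact K.mul_mem (K.inv_mem hx) (hK φ hφ x hx)
  · have hφx : φ x ∉ K := by
      intro hc
      have := hK φ⁻¹ (A.inv_mem hφ) (φ x) hc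
      rw [MulAut.inv_apply_self] at this
      exact hx this
    have h2 : K.index = 2 := by
      have h1 : K.index ≠ 1 := by
        intro h1
        rw [Subgroup.index_eq_one] at h1
        exact hx (h1 ▸ Subgroup.mem_top x)
      have h0 : K.index ≠ 0 := Subgroup.index_ne_zero_of_finite
      omega
    rw [Subgroup.mul_mem_iff_of_index_two h2]
    constructor
    · intro hc
      exact absurd ((K.inv_mem_iff).mp hc) hx
    · intro hc
      exact absurd hc hφx

/-- U03 (A1). -/
theorem aut_trivial_of_sub_quot (h : Hyp X A) (N : Subgroup X) (φ : MulAut X) (hφ : φ ∈ A)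
    (h1 : ∀ v ∈ N, φ v = v) (h2 : ∀ x : X, x⁻¹ * φ x ∈ N) : φ = 1 := by
  ext x
  rw [MulAut.one_apply]
  exact Cfsg.Agent.Lib.Helper1.aut_apply_eq_of_fixed_commutator h.pg φ (coprime_order h φ hφ) x
    (h1 _ (h2 x))

/-- U04 (A2). -/
theorem aut_trivial_of_omega1 (h : Hyp X A) (B : Subgroup X)
    (hB : ∀ b ∈ B, ∀ b' ∈ B, b * b' = b' * b) (φ : MulAut X) (hφ : φ ∈ A)
    (hinv : ∀ b ∈ B, φ b ∈ B) (h1 : ∀ b ∈ B, b ^ 2 = 1 → φ b = b) : ∀ b ∈ B, φ b = b := by
  have hcop := coprime_order h φ hφ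
  have key : ∀ k : ℕ, ∀ b ∈ B, b ^ (2 ^ k) = 1 → φ b = b := by
    intro k
    induction k with
    | zero =>
      intro b _ hb1
      rw [pow_zero, pow_one] at hb1
      rw [hb1, map_one]
    | succ k ih =>
      intro b hb hbk
      have hb2 : φ (b ^ 2) = b ^ 2 := by
        apply ih (b ^ 2) (B.pow_mem hb 2)
        rw [← pow_mul, ← pow_succ']
        exact hbk
      have hcm : b⁻¹ * φ b = φ b * b⁻¹ := hB _ (B.inv_mem hb) _ (hinv b hb)
      have hc2 : (b⁻¹ * φ b) ^ 2 = 1 := by
        have e1 : (b⁻¹ * φ b) ^ 2 = (b ^ 2)⁻¹ * φ (b ^ 2) := by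
          rw [map_pow, pow_two, pow_two, pow_two]
          calc b⁻¹ * φ b * (b⁻¹ * φ b) = b⁻¹ * (φ b * b⁻¹) * φ b := by group
            _ = b⁻¹ * (b⁻¹ * φ b) * φ b := by rw [hcm]
            _ = (b * b)⁻¹ * (φ b * φ b) := by group
        rw [e1, hb2, inv_mul_cancel]
      have hcfix : φ (b⁻¹ * φ b) = b⁻¹ * φ b :=
        h1 _ (B.mul_mem (B.inv_mem hb) (hinv b hb)) hc2
      exact Cfsg.Agent.Lib.Helper1.aut_apply_eq_of_fixed_commutator h.pg φ hcop b hcfix
  intro b hb
  obtain ⟨k, hk⟩ := h.pg b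
  exact key k b hb hk

/-- U05 (A3). -/
theorem fixed_point_of_card (a : MulAut X) (ha : a ^ 3 = 1) (S : Finset X)
    (hS : ∀ s ∈ S, a s ∈ S) (hc : ¬ 3 ∣ S.card) : ∃ s ∈ S, a s = s := by
  classical
  have ha3 : ∀ x : X, a (a (a x)) = x := by
    intro x
    have := congrArg (fun f : MulAut X => f x) ha
    simpa [pow_succ, MulAut.mul_apply] using this
  have hiff : ∀ x : X, (a.toEquiv : Equiv.Perm X) x ∈ S ↔ x ∈ S := by
    intro x
    constructor
    · intro hx
      have := hS _ (hS _ hx)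
      change a (a (a x)) ∈ S at this
      rwa [ha3] at this
    · intro hx
      exact hS x hx
  let σ : Equiv.Perm {x // x ∈ S} := Equiv.Perm.subtypePerm (a.toEquiv : Equiv.Perm X) hiff
  have hσapp : ∀ s : {x // x ∈ S}, ((σ s : {x // x ∈ S}) : X) = a s.1 := fun s => rfl
  have hσ : σ ^ 3 ^ 1 = 1 := by
    ext s
    rw [pow_one, pow_succ, pow_succ, pow_one, Equiv.Perm.mul_apply, Equiv.Perm.mul_apply,
      Equiv.Perm.one_apply, hσapp, hσapp, hσapp]
    exact ha3 s.1
  have hcard : ¬ 3 ∣ Fintype.card {x // x ∈ S} := by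
    rw [Fintype.card_coe]; exact hc
  have : Fact (Nat.Prime 3) := ⟨Nat.prime_three⟩
  obtain ⟨s, hs⟩ := Equiv.Perm.exists_fixed_point_of_prime hcard hσ
  refine ⟨s.1, s.2, ?_⟩
  have := congrArg Subtype.val hs
  rw [hσapp] at this
  exact this

/-- U07 (P4). -/
theorem four_central (h : Hyp X A) (F : Subgroup X) (hF : GNormal A F)
    (hexp : ∀ f ∈ F, f ^ 2 = 1) (hcard : Nat.card F ≤ 4) : F ≤ Subgroup.center X := by
  classical
  have hFn : F.Normal := hF.1
  by_contra hcon
  rw [SetLike.not_le_iff_exists] at hcon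
  obtain ⟨f, hfF, hfc⟩ := hcon
  rw [Subgroup.mem_center_iff] at hfc
  push Not at hfc
  obtain ⟨g, hg⟩ := hfc
  have hf1 : f ≠ 1 := by
    rintro rfl
    exact hg (by rw [mul_one, one_mul])
  have hFne : F ≠ ⊥ := by
    rintro rfl
    exact hf1 ((Subgroup.mem_bot).mp hfF)
  obtain ⟨f₀, hf₀F, hf₀c, hf₀1⟩ := Cfsg.Agent.Lib.Helper8.Ext.normal_inf_center h.pg F hFne
  rw [Subgroup.mem_center_iff] at hf₀c
  have hinvf : ∀ e ∈ F, e⁻¹ = e := by
    intro e he
    apply inv_eq_of_mul_eq_one_left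
    rw [← pow_two]; exact hexp e he
  obtain ⟨f', hf'⟩ : ∃ f' : X, f' = g * f * g⁻¹ := ⟨_, rfl⟩
  have hf'F : f' ∈ F := by rw [hf']; exact hFn.conj_mem f hfF g
  have hgf : g * f = f' * g := by rw [hf']; group
  have hf'f : f' ≠ f := by
    intro e; apply hg; rw [hgf, e]
  have hff₀ : f ≠ f₀ := by
    intro e; apply hg; rw [e]; exact hf₀c g
  have hf'1 : f' ≠ 1 := by
    intro e
    rw [e, one_mul] at hgf
    apply hf1
    have : g * f = g * 1 := by rw [hgf, mul_one]
    exact mul_left_cancel this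
  have hf'f₀ : f' ≠ f₀ := by
    intro e
    rw [e, ← hf₀c g] at hgf
    exact hff₀ (mul_left_cancel hgf)
  -- F = {1, f₀, f, f'}
  let _ : Fintype X := Fintype.ofFinite X
  have hT : ∀ e ∈ F, e = 1 ∨ e = f₀ ∨ e = f ∨ e = f' := by
    have hsub : ({1, f₀, f, f'} : Finset X) ⊆ Finset.univ.filter (· ∈ F) := by
      intro e he
      simp only [Finset.mem_insert, Finset.mem_singleton] at he
      simp only [Finset.mem_filter, Finset.mem_univ, true_and]
      rcases he with rfl | rfl | rfl | rfl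
      · exact F.one_mem
      · exact hf₀F
      · exact hfF
      · exact hf'F
    have hc4 : ({1, f₀, f, f'} : Finset X).card = 4 := by
      rw [Finset.card_insert_of_notMem, Finset.card_insert_of_notMem,
        Finset.card_insert_of_notMem, Finset.card_singleton]
      · simp only [Finset.mem_singleton]; exact fun e => hf'f e.symm
      · simp only [Finset.mem_insert, Finset.mem_singleton, not_or]
        exact ⟨fun e => hff₀ e.symm, fun e => hf'f₀ e.symm⟩
      · simp only [Finset.mem_insert, Finset.mem_singleton, not_or]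
        exact ⟨fun e => hf₀1 e.symm, fun e => hf1 e.symm, fun e => hf'1 e.symm⟩
    have hcF : (Finset.univ.filter (· ∈ F)).card = Nat.card F := by
      rw [Nat.card_eq_fintype_card, Fintype.card_subtype]
    have heq := Finset.eq_of_subset_of_card_le hsub (by rw [hc4, hcF]; exact hcard)
    intro e he
    have : e ∈ ({1, f₀, f, f'} : Finset X) := by
      rw [heq]; simp only [Finset.mem_filter, Finset.mem_univ, true_and]; exact he
    simpa only [Finset.mem_insert, Finset.mem_singleton] using this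
  -- f' = f * f₀
  have hf'eq : f' = f * f₀ := by
    have hm : f * f' ∈ F := F.mul_mem hfF hf'F
    rcases hT _ hm with e | e | e | e
    · exfalso; apply hf'f
      have : f' = f⁻¹ := eq_inv_of_mul_eq_one_right e
      rw [this, hinvf f hfF]
    · have : f' = f⁻¹ * f₀ := by rw [← e]; group
      rw [this, hinvf f hfF]
    · exfalso; apply hf'1
      have : f * f' = f * 1 := by rw [e, mul_one]
      exact mul_left_cancel this
    · exfalso; apply hf1
      have : f * f' = 1 * f' := by rw [e, one_mul]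
      exact mul_right_cancel this
  have hf₀2 : f₀ * f₀ = 1 := by rw [← pow_two]; exact hexp f₀ hf₀F
  -- conjugates of f
  have hconj : ∀ b : X, b * f * b⁻¹ = f ∨ b * f * b⁻¹ = f * f₀ := by
    intro b
    have hb : b * f * b⁻¹ ∈ F := hFn.conj_mem f hfF b
    rcases hT _ hb with e | e | e | e
    · exfalso; apply hf1
      have : f = b⁻¹ * (b * f * b⁻¹) * b := by group
      rw [this, e]; group
    · exfalso; apply hff₀
      have : f = b⁻¹ * (b * f * b⁻¹) * b := by group
      rw [this, e, hf₀c b⁻¹, inv_mul_cancel_right]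
    · left; exact e
    · right; rw [e, hf'eq]
  let K : Subgroup X := Subgroup.centralizer (F : Set X)
  have hKmem : ∀ b : X, b ∈ K ↔ b * f * b⁻¹ = f := by
    intro b
    constructor
    · intro hb
      have := (Subgroup.mem_centralizer_iff.mp hb) f hfF
      rw [← this]; group
    · intro hb
      have hbf : b * f = f * b := by
        have : b * f = (b * f * b⁻¹) * b := by group
        rw [this, hb]
      rw [Subgroup.mem_centralizer_iff]
      intro e he
      rcases hT e he with rfl | rfl | rfl | rfl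
      · rw [mul_one, one_mul]
      · exact (hf₀c b).symm
      · exact hbf.symm
      · rw [hf'eq, mul_assoc, ← hf₀c b, ← mul_assoc, ← hbf, mul_assoc]
  have hKinv : ∀ φ ∈ A, ∀ k ∈ K, φ k ∈ K := by
    intro φ hφ k hk
    rw [Subgroup.mem_centralizer_iff]
    intro e he
    have he' : φ⁻¹ e ∈ F := hF.2 φ⁻¹ (A.inv_mem hφ) e he
    have := (Subgroup.mem_centralizer_iff.mp hk) _ he'
    have h2 := congrArg φ this
    rwa [map_mul, map_mul, MulAut.apply_inv_self] at h2
  have hff₀ne : f * f₀ ≠ f := by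
    intro e
    apply hf₀1
    have : f * f₀ = f * 1 := by rw [e, mul_one]
    exact mul_left_cancel this
  have hidx : K.index = 2 := by
    rw [Subgroup.index_eq_two_iff]
    refine ⟨g, fun b => ?_⟩
    have hbg : b * g * f * (b * g)⁻¹ = (b * f * b⁻¹) * f₀ := by
      have : b * g * f * (b * g)⁻¹ = b * (g * f * g⁻¹) * b⁻¹ := by group
      rw [this, ← hf', hf'eq]
      have : b * (f * f₀) * b⁻¹ = b * f * (f₀ * b⁻¹) := by group
      rw [this, ← hf₀c b⁻¹]; group
    rcases hconj b with e | e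
    · right
      refine ⟨(hKmem b).mpr e, ?_⟩
      rw [hKmem, hbg, e]
      exact hff₀ne
    · left
      refine ⟨?_, ?_⟩
      · rw [hKmem, hbg, e, mul_assoc, hf₀2, mul_one]
      · rw [hKmem, e]; exact hff₀ne
  have hKtop := index_two h K hKinv (le_of_eq hidx)
  have hgK : g ∈ K := hKtop ▸ Subgroup.mem_top g
  have := (hKmem g).mp hgK
  apply hg
  have e2 : g * f = (g * f * g⁻¹) * g := by group
  rw [e2, this]

/-- the norm map to the abelianization vanishes. -/
theorem norm_eq_one (h : Hyp X A) [Fintype A] (g : X) :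
    ∏ a : A, Abelianization.of ((a : MulAut X) g) = 1 := by
  classical
  obtain ⟨N, hN⟩ : ∃ N : X →* Abelianization X,
      N = ∏ a : A, (Abelianization.of).comp ((a : MulAut X).toMonoidHom) := ⟨_, rfl⟩
  have hNapp : ∀ g : X, N g = ∏ a : A, Abelianization.of ((a : MulAut X) g) := by
    intro g
    rw [hN, MonoidHom.finsetProd_apply]
    rfl
  have hinv : ∀ a₀ ∈ A, ∀ g : X, N (a₀ g) = N g := by
    intro a₀ ha₀ g
    rw [hNapp, hNapp]
    exact Fintype.prod_equiv (Equiv.mulRight (⟨a₀, ha₀⟩ : A)) _ _ (fun a => rfl)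
  have hker : N.ker = ⊤ := by
    apply h.gen
    intro φ hφ x
    rw [MonoidHom.mem_ker, map_mul, map_inv, hinv φ hφ, inv_mul_cancel]
  have h1 : N g = 1 := by
    rw [← MonoidHom.mem_ker, hker]; exact Subgroup.mem_top g
  rw [← hNapp]; exact h1

/-- U08 (no trivial `A`-factor in `X / X'`). -/
theorem no_trivial_factor (h : Hyp X A) (L : Subgroup X) (hL : commutator X ≤ L) (x : X)
    (hx2 : x ^ 2 ∈ L) (hfix : ∀ φ ∈ A, x⁻¹ * φ x ∈ L) : x ∈ L := by
  classical
  let _ : Fintype A := Fintype.ofFinite A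
  have h1 := norm_eq_one h x
  have h2 : ∀ a : A, Abelianization.of ((a : MulAut X) x) =
      Abelianization.of x * Abelianization.of (x⁻¹ * (a : MulAut X) x) := by
    intro a; rw [← map_mul, mul_inv_cancel_left]
  simp_rw [h2] at h1
  rw [Finset.prod_mul_distrib, Finset.prod_const, Finset.card_univ,
    ← Nat.card_eq_fintype_card] at h1
  have h3 : ∏ a : A, Abelianization.of (x⁻¹ * (a : MulAut X) x) ∈
      L.map Abelianization.of :=
    Subgroup.prod_mem _ (fun a _ => Subgroup.mem_map_of_mem _ (hfix a a.2))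
  have h4 : Abelianization.of x ^ Nat.card A ∈ L.map Abelianization.of := by
    have : Abelianization.of x ^ Nat.card A =
        (∏ a : A, Abelianization.of (x⁻¹ * (a : MulAut X) x))⁻¹ :=
      eq_inv_of_mul_eq_one_left h1
    rw [this]; exact inv_mem h3
  have h5 : x ^ Nat.card A ∈ L := by
    rw [← map_pow] at h4
    obtain ⟨l, hl, hle⟩ := h4
    have h6 : l⁻¹ * x ^ Nat.card A ∈ commutator X := by
      rw [← Abelianization.ker_of, MonoidHom.mem_ker, map_mul, map_inv, hle, inv_mul_cancel]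
    have := L.mul_mem hl (hL h6)
    rwa [mul_inv_cancel_left] at this
  obtain ⟨k, hk⟩ := h.odd
  rw [hk, pow_succ, pow_mul] at h5
  have := L.mul_mem (L.inv_mem (L.pow_mem hx2 k)) h5
  rwa [inv_mul_cancel_left] at this

/-- U09 (norm relation when `A = {1, a, a²}`). -/
theorem norm3 (h : Hyp X A) (a : MulAut X) (ha : a ∈ A) (ha1 : a ≠ 1) (ha3 : a ^ 3 = 1)
    (hall : ∀ φ ∈ A, φ = 1 ∨ φ = a ∨ φ = a ^ 2) (x : X) :
    x * a x * (a ^ 2) x ∈ commutator X := by
  classical
  let _ : Fintype A := Fintype.ofFinite A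
  have h1 := norm_eq_one h x
  have ha2 : a ^ 2 ≠ 1 := by
    intro h2
    apply ha1
    have : a ^ 3 = a := by rw [pow_succ, h2, one_mul]
    rw [← this, ha3]
  have ha2a : a ^ 2 ≠ a := by
    intro h2
    apply ha1
    have : a * a = a * 1 := by rw [← pow_two, h2, mul_one]
    exact mul_left_cancel this
  have huniv : (Finset.univ : Finset A) =
      {(⟨1, A.one_mem⟩ : A), ⟨a, ha⟩, ⟨a ^ 2, A.pow_mem ha 2⟩} := by
    ext φ
    simp only [Finset.mem_univ, Finset.mem_insert, Finset.mem_singleton, true_iff]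
    rcases hall φ φ.2 with h0 | h0 | h0
    · left; exact Subtype.ext h0
    · right; left; exact Subtype.ext h0
    · right; right; exact Subtype.ext h0
  rw [huniv, Finset.prod_insert, Finset.prod_insert, Finset.prod_singleton] at h1
  · simp only [MulAut.one_apply] at h1
    rw [← map_mul, ← map_mul, ← mul_assoc] at h1
    rw [← Abelianization.ker_of, MonoidHom.mem_ker]
    exact h1
  · simp only [Finset.mem_singleton, Subtype.mk.injEq]
    exact fun hh => ha2a hh.symm
  · simp only [Finset.mem_insert, Finset.mem_singleton, Subtype.mk.injEq, not_or]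
    exact ⟨fun hh => ha1 hh.symm, fun hh => ha2 hh.symm⟩

end Cfsg.Agent.Lib.Helper8.NG5Basic
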