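import Mathlib

/-!
# S1022: no simple group of order 459648 = 2^7 * 3^3 * 7 * 19 — shared abbreviations
-/

namespace Cfsg.Agent.Lib.Helper8.O459

variable {G : Type*} [Group G]

/-- the normalizer of a Sylow 19-subgroup -/
abbrev NP (P : Sylow 19 G) : Subgroup G := Subgroup.normalizer ((P : Subgroup G) : Set G)

/-- the centralizer of a Sylow 19-subgroup -/
abbrev CP (P : Sylow 19 G) : Subgroup G := Subgroup.centralizer ((P : Subgroup G) : Set G)

end Cfsg.Agent.Lib.Helper8.O459
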