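import Mathlib

/-!
# S3641 (SN17), piece N4a: `n_2 = 153` for a group of order 2448 with spectrum dividing 8, 9, 17
-/

set_option autoImplicit false
set_option linter.unusedSectionVars false
set_option linter.style.haveILetI false
set_option linter.unusedVariables false

namespace Cfsg.Agent.Lib.Helper8.SN17

/-- the order of a Sylow `p`-subgroup from `|T| = p^k * m`, `p ∤ m`. -/
theorem card_sylow_of_card {T : Type*} [Group T] [Finite T] (p k m : ℕ) [Fact p.Prime]
    (hT : Nat.card T = p ^ k * m) (hm : ¬ p ∣ m) (S : Sylow p T) :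
    Nat.card (S : Subgroup T) = p ^ k := by
  have hp := (Fact.out : p.Prime)
  have h1 : Nat.card (S : Subgroup T) * (S : Subgroup T).index = p ^ k * m := by
    rw [Subgroup.card_mul_index, hT]
  have h2 : ¬ p ∣ (S : Subgroup T).index := S.not_dvd_index
  obtain ⟨l, hl⟩ := (IsPGroup.iff_card).1 S.isPGroup'
  rw [hl] at h1 ⊢
  have hc1 : Nat.Coprime (p ^ l) m := Nat.Coprime.pow_left l ((Nat.Prime.coprime_iff_not_dvd hp).2 hm)
  have hc2 : Nat.Coprime (p ^ k) (S : Subgroup T).index :=
    Nat.Coprime.pow_left k ((Nat.Prime.coprime_iff_not_dvd hp).2 h2)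
  have d1 : p ^ l ∣ p ^ k := hc1.dvd_of_dvd_mul_right (h1 ▸ Dvd.intro _ rfl)
  have d2 : p ^ k ∣ p ^ l := hc2.dvd_of_dvd_mul_right (h1.symm ▸ Dvd.intro _ rfl)
  exact Nat.dvd_antisymm d1 d2

/-- two elements of order 8 in a group of order 16 have the same fourth power. -/
theorem pow_four_eq {S : Type*} [Group S] [Finite S] (hS : Nat.card S = 16) (a b : S)
    (ha : orderOf a = 8) (hb : orderOf b = 8) : a ^ 4 = b ^ 4 := by
  have hA : Nat.card (Subgroup.zpowers a) = 8 := by rw [Nat.card_zpowers, ha]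
  have hidx : (Subgroup.zpowers a).index = 2 := by
    have := Subgroup.index_mul_card (Subgroup.zpowers a)
    rw [hA, hS] at this
    omega
  have hb2 : b ^ 2 ∈ Subgroup.zpowers a := Subgroup.sq_mem_of_index_two hidx b
  have hb4 : b ^ 4 ∈ Subgroup.zpowers a := by
    have : b ^ 4 = b ^ 2 * b ^ 2 := by rw [← pow_add]
    rw [this]; exact mul_mem hb2 hb2
  rw [← mem_powers_iff_mem_zpowers] at hb4
  obtain ⟨n, hn⟩ := hb4
  have hn' : a ^ (n % 8) = b ^ 4 := by
    rw [← hn, ← ha, pow_mod_orderOf]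
  have hb4ne : b ^ 4 ≠ 1 := by
    intro h
    have := orderOf_dvd_of_pow_eq_one h
    rw [hb] at this
    omega
  have hb8 : (b ^ 4) ^ 2 = 1 := by
    rw [← pow_mul]
    have h48 : (4 * 2 : ℕ) = orderOf b := by rw [hb]
    rw [h48]; exact pow_orderOf_eq_one b
  have hlt : n % 8 < 8 := Nat.mod_lt _ (by norm_num)
  rw [← hn'] at hb8 hb4ne ⊢
  rw [← pow_mul] at hb8
  have hd := orderOf_dvd_of_pow_eq_one hb8
  rw [ha] at hd
  have h4 : n % 8 = 0 ∨ n % 8 = 4 := by omega
  rcases h4 with h4 | h4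
  · rw [h4, pow_zero] at hb4ne; exact absurd rfl hb4ne
  · rw [h4]

theorem n2_eq {T : Type*} [Group T] [Finite T] (hT : Nat.card T = 2448)
    (hspec : ∀ t : T, orderOf t ∣ 8 ∨ orderOf t ∣ 9 ∨ orderOf t ∣ 17)
    (h8 : ∃ t : T, orderOf t = 8) :
    Nat.card (Sylow 2 T) = 153 := by
  haveI : Fact (Nat.Prime 2) := ⟨Nat.prime_two⟩
  obtain ⟨s, hs⟩ := h8
  have hsP : IsPGroup 2 (Subgroup.zpowers s) :=
    IsPGroup.of_card (n := 3) (by rw [Nat.card_zpowers, hs]; norm_num)
  obtain ⟨S, hsS⟩ := hsP.exists_le_sylow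
  have hScard : Nat.card (S : Subgroup T) = 16 := by
    have := card_sylow_of_card 2 4 153 (by rw [hT]; norm_num) (by norm_num) S
    rw [this]; norm_num
  have hsmem : s ∈ (S : Subgroup T) := hsS (Subgroup.mem_zpowers s)
  set z := s ^ 4 with hz
  have hzo : orderOf z = 2 := by
    rw [hz, orderOf_pow' s (by norm_num), hs]; norm_num
  -- `N(S) ≤ C(z)`
  have hNC : Subgroup.normalizer ((S : Subgroup T) : Set T) ≤ Subgroup.centralizer ({z} : Set T) := by
    intro g hg
    have hgs : g * s * g⁻¹ ∈ (S : Subgroup T) := (Subgroup.mem_normalizer_iff.1 hg s).1 hsmem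
    have ho : orderOf (g * s * g⁻¹) = 8 := by
      have : g * s * g⁻¹ = MulAut.conj g s := rfl
      rw [this, MulEquiv.orderOf_eq, hs]
    have key := pow_four_eq (S := ↥(S : Subgroup T)) hScard ⟨s, hsmem⟩ ⟨g * s * g⁻¹, hgs⟩
      (by rw [← Subgroup.orderOf_coe]; exact hs) (by rw [← Subgroup.orderOf_coe]; exact ho)
    have key' : s ^ 4 = (g * s * g⁻¹) ^ 4 := congrArg Subtype.val key
    rw [conj_pow] at key'
    rw [Subgroup.mem_centralizer_iff]
    intro y hy
    rw [Set.mem_singleton_iff] at hy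
    rw [hy, hz]
    calc s ^ 4 * g = g * s ^ 4 * g⁻¹ * g := by rw [← key']
      _ = g * s ^ 4 := by group
  -- `|C(z)|` is a power of two
  set C := Subgroup.centralizer ({z} : Set T) with hC
  have hC0 : Nat.card C ≠ 0 := Nat.card_pos.ne'
  have hCprime : ∀ {d : ℕ}, d.Prime → d ∣ Nat.card C → d = 2 := by
    intro d hd hdC
    by_contra hne
    haveI : Fact d.Prime := ⟨hd⟩
    obtain ⟨y, hy⟩ := exists_prime_orderOf_dvd_card' d hdC
    have hy' : orderOf (y : T) = d := by rw [Subgroup.orderOf_coe]; exact hy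
    have hcomm : Commute (y : T) z := by
      have := Subgroup.mem_centralizer_iff.1 y.2 z (Set.mem_singleton z)
      exact this.symm
    have hcop : (orderOf (y : T)).Coprime (orderOf z) := by
      rw [hy', hzo]
      exact (Nat.coprime_primes hd Nat.prime_two).2 hne
    have hmul := hcomm.orderOf_mul_eq_mul_orderOf_of_coprime hcop
    rw [hy', hzo] at hmul
    have hd2 : 2 ≤ d := hd.two_le
    have hd3 : d ≠ 2 := hne
    rcases hspec ((y : T) * z) with h | h | h <;> rw [hmul] at h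
    · have := Nat.le_of_dvd (by norm_num) h
      have h4 : d ∣ 4 := by
        have : d * 2 ∣ 4 * 2 := h
        exact Nat.dvd_of_mul_dvd_mul_right (by norm_num) this
      have h4' : d ∣ 2 ^ 2 := by norm_num; exact h4
      exact hne ((Nat.prime_dvd_prime_iff_eq hd Nat.prime_two).1 (hd.dvd_of_dvd_pow h4'))
    · have : 2 ∣ 9 := dvd_trans (Dvd.intro_left d rfl) h
      omega
    · have : 2 ∣ 17 := dvd_trans (Dvd.intro_left d rfl) h
      omega
  have hCpow := Nat.eq_prime_pow_of_unique_prime_dvd hC0 hCprime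
  set k := (Nat.card C).primeFactorsList.length with hk
  have hCdvd : Nat.card C ∣ 2448 := hT ▸ Subgroup.card_subgroup_dvd_card C
  have hk4 : Nat.card C ∣ 16 := by
    rw [hCpow] at hCdvd ⊢
    have hc : Nat.Coprime (2 ^ k) 153 := Nat.Coprime.pow_left k (by norm_num)
    have : 2 ^ k ∣ 16 * 153 := by norm_num; exact hCdvd
    exact hc.dvd_of_dvd_mul_right this
  set N := Subgroup.normalizer ((S : Subgroup T) : Set T) with hN
  have hN1 : Nat.card N ∣ 16 := (Subgroup.card_dvd_of_le hNC).trans hk4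
  have hN2 : 16 ∣ Nat.card N := by
    rw [← hScard]; exact Subgroup.card_dvd_of_le Subgroup.le_normalizer
  have hN3 : Nat.card N = 16 := Nat.dvd_antisymm hN1 hN2
  rw [Sylow.card_eq_index_normalizer S]
  have := Subgroup.index_mul_card N
  rw [hN3, hT] at this
  show N.index = 153
  omega

end Cfsg.Agent.Lib.Helper8.SN17
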