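import Mathlib
import Cfsg.Agent.Lib.Helper6.SecondOrth
import Cfsg.Agent.Lib.Helper6.FiniteOrder
import Cfsg.Agent.Lib.Helper6.DegreeDvd
import Cfsg.Agent.Lib.Helper6.RepBasic
import Cfsg.Agent.Lib.Helper6.CharBasic
import Cfsg.Prelude.Def_Blocks

set_option autoImplicit false

/-!
# Separating `p`-regular classes modulo `p`
-/

namespace Cfsg.Agent.Lib.Helper8.PReg

open scoped ComplexConjugate
open Cfsg.Agent.Lib.Helper6

section LinAlg

variable {V : Type*} [AddCommGroup V] [Module ℂ V] [FiniteDimensional ℂ V]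

/-- The trace of a finite order endomorphism is an algebraic integer. -/
theorem isIntegral_trace_of_pow_eq_one {f : Module.End ℂ V} {m : ℕ} (hm : 0 < m)
    (hf : f ^ m = 1) : IsIntegral ℤ (LinearMap.trace ℂ V f) := by
  obtain ⟨ι, hι, b, μ, hb, hμ⟩ := exists_eigenbasis_of_pow_eq_one hm hf
  rw [trace_eq_sum_of_eigenbasis b μ f hb]
  refine IsIntegral.sum _ (fun i _ => ?_)
  refine IsIntegral.of_pow hm ?_
  rw [hμ i]
  exact isIntegral_one

/-- The trace of a finite order endomorphism times a commuting idempotent is an algebraic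
integer. -/
theorem isIntegral_trace_mul_idem {T e : Module.End ℂ V} {m : ℕ} (hm : 0 < m) (hT : T ^ m = 1)
    (he : e * e = e) (hTe : T * e = e * T) : IsIntegral ℤ (LinearMap.trace ℂ V (T * e)) := by
  have hTW : ∀ w ∈ LinearMap.range e, T w ∈ LinearMap.range e := by
    rintro w ⟨v, rfl⟩
    refine ⟨T v, ?_⟩
    have := congrArg (fun f : Module.End ℂ V => f v) hTe
    simp only [Module.End.mul_apply] at this
    exact this.symm
  have hTeW : ∀ x, (T * e) x ∈ LinearMap.range e := by
    intro x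
    rw [hTe]
    exact ⟨T x, rfl⟩
  have heW : ∀ w ∈ LinearMap.range e, e w = w := by
    rintro w ⟨v, rfl⟩
    have := congrArg (fun f : Module.End ℂ V => f v) he
    simpa only [Module.End.mul_apply] using this
  have h1 := LinearMap.trace_restrict_eq_of_forall_mem (LinearMap.range e) (T * e) hTeW
  rw [← h1]
  have h2 : (T * e).restrict (fun x _ => hTeW x) = T.restrict hTW := by
    ext ⟨w, hw⟩
    simp only [LinearMap.restrict_apply, Module.End.mul_apply, heW w hw]
  rw [h2]
  apply isIntegral_trace_of_pow_eq_one hm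
  rw [Module.End.pow_restrict m hTW]
  ext ⟨w, hw⟩
  simp only [LinearMap.restrict_apply, hT, Module.End.one_apply]

end LinAlg

/-- Frobenius congruence for finite sums of algebraic integers. -/
theorem sum_pow_prime_pow (p : ℕ) (hp : p.Prime) (n : ℕ) {ι : Type*} (s : Finset ι)
    (f : ι → Cfsg.AlgInt) :
    ∃ γ : Cfsg.AlgInt,
      (∑ i ∈ s, f i) ^ (p ^ n) = ∑ i ∈ s, f i ^ (p ^ n) + (p : Cfsg.AlgInt) * γ := by
  classical
  induction s using Finset.induction_on with
  | empty =>
    refine ⟨0, ?_⟩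
    have : p ^ n ≠ 0 := pow_ne_zero _ hp.ne_zero
    rw [Finset.sum_empty, Finset.sum_empty, zero_pow this, mul_zero, add_zero]
  | insert a s ha ih =>
    obtain ⟨γ, hγ⟩ := ih
    obtain ⟨r, hr⟩ := exists_add_pow_prime_pow_eq hp (f a) (∑ i ∈ s, f i) n
    refine ⟨γ + f a * (∑ i ∈ s, f i) * r, ?_⟩
    rw [Finset.sum_insert ha, Finset.sum_insert ha, hr, hγ]
    ring

section Grp

variable {G : Type*} [Group G] [Finite G]

/-- Frobenius congruence for character values: `χ(g)^(p^n) ≡ χ(g^(p^n))` modulo `p`. -/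
theorem frob_congr (p : ℕ) [hp : Fact p.Prime] {χ : G → ℂ} (hχ : Cfsg.IsCharacter G χ) (g : G)
    (n : ℕ) :
    ∃ γ : Cfsg.AlgInt, χ g ^ (p ^ n) - χ (g ^ (p ^ n)) = (p : ℂ) * (γ : ℂ) := by
  obtain ⟨d, ρ, rfl⟩ := hχ
  have hm : 0 < orderOf g := orderOf_pos g
  obtain ⟨ι, hι, b, μ, hb, hμ⟩ := exists_eigenbasis_rep ρ g
  have hpow : ∀ k : ℕ, ∀ i, (ρ (g ^ k)) (b i) = (μ i ^ k) • b i := by
    intro k
    induction k with
    | zero => intro i; simp
    | succ k ih =>
      intro i
      rw [pow_succ, map_mul, Module.End.mul_apply, hb, map_smul, ih, smul_smul, pow_succ,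
        mul_comm]
  have h1 : ρ.character g = ∑ i, μ i := trace_eq_sum_of_eigenbasis b μ (ρ g) hb
  have h2 : ρ.character (g ^ (p ^ n)) = ∑ i, μ i ^ (p ^ n) :=
    trace_eq_sum_of_eigenbasis b _ _ (hpow _)
  have hint : ∀ i, IsIntegral ℤ (μ i) := fun i =>
    IsIntegral.of_pow hm (by rw [hμ i]; exact isIntegral_one)
  obtain ⟨γ, hγ⟩ := sum_pow_prime_pow p hp.out n Finset.univ
    (fun i => (⟨μ i, hint i⟩ : Cfsg.AlgInt))
  refine ⟨γ, ?_⟩
  have h3 := congrArg (fun z : Cfsg.AlgInt => (z : ℂ)) hγ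
  push_cast at h3
  rw [h1, h2, h3]
  ring

/-- The average of a character over a coset `u P`, with `P` centralizing `u`, is an algebraic
integer. -/
theorem isIntegral_avg {d : ℕ} (ρ : Representation ℂ G (Fin d → ℂ)) (u : G) (P : Subgroup G)
    [Fintype P] (hP : P ≤ Subgroup.centralizer {u}) :
    IsIntegral ℤ ((Nat.card P : ℂ)⁻¹ * ∑ z : P, ρ.character (u * z)) := by
  set e : Module.End ℂ (Fin d → ℂ) := (Nat.card P : ℂ)⁻¹ • ∑ z : P, ρ (z : G) with he
  have hc : (Nat.card P : ℂ) ≠ 0 := by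
    have : Nat.card P ≠ 0 := Nat.card_pos.ne'
    exact_mod_cast this
  have hT : (ρ u) ^ (orderOf u) = 1 := rep_pow_orderOf ρ u
  have hwe : ∀ w : P, ρ (w : G) * e = e := by
    intro w
    rw [he, mul_smul_comm, Finset.mul_sum]
    congr 1
    rw [← Equiv.sum_comp (Equiv.mulLeft w) (fun z : P => ρ (z : G))]
    apply Finset.sum_congr rfl
    intro z _
    rw [Equiv.coe_mulLeft, Subgroup.coe_mul, map_mul]
  have hee : e * e = e := by
    conv_lhs => rw [he, smul_mul_assoc, Finset.sum_mul]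
    rw [Finset.sum_congr rfl (fun w _ => hwe w), Finset.sum_const, Finset.card_univ,
      ← Nat.card_eq_fintype_card, ← Nat.cast_smul_eq_nsmul ℂ, smul_smul, inv_mul_cancel₀ hc,
      one_smul]
  have hTe : ρ u * e = e * ρ u := by
    rw [he, mul_smul_comm, smul_mul_assoc, Finset.mul_sum, Finset.sum_mul]
    congr 1
    apply Finset.sum_congr rfl
    intro z _
    have hz : (z : G) * u = u * (z : G) :=
      Subgroup.mem_centralizer_singleton_iff.mp (hP z.2)
    rw [← map_mul, ← map_mul, hz]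
  have key := isIntegral_trace_mul_idem (orderOf_pos u) hT hee hTe
  have htr : LinearMap.trace ℂ (Fin d → ℂ) (ρ u * e)
      = (Nat.card P : ℂ)⁻¹ * ∑ z : P, ρ.character (u * z) := by
    rw [he, mul_smul_comm, map_smul, smul_eq_mul, Finset.mul_sum, map_sum]
    congr 1
    apply Finset.sum_congr rfl
    intro z _
    rw [← map_mul]
    rfl
  rw [← htr]
  exact key

end Grp

end Cfsg.Agent.Lib.Helper8.PReg
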