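import Mathlib
import Cfsg.Agent.Lib.Helper3.RIDefs
import Cfsg.Agent.Lib.Helper3.RIBasic
import Cfsg.Agent.Lib.Helper4.RIStepA
import Cfsg.Agent.Lib.Helper4.RIBlock
import Cfsg.Agent.Lib.Helper7.RIF3
import Cfsg.Agent.Lib.Helper7.RIF5

set_option autoImplicit false
set_option maxHeartbeats 4000000
set_option maxRecDepth 100000
set_option linter.unusedVariables false
set_option linter.unusedSectionVars false
set_option linter.style.longLine false

namespace Cfsg.Agent.Lib.Helper3.RootInv

open Cfsg

universe u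

variable {G : Type u} [Group G] {D : Set G}

/-! ### P8 : RIF6 -/

/-- (iii): for a twin `y` of `x` normalizing `T`, the members of `T` commuting with `y` are exactly those
normalizing the twin class of `x`. -/
theorem f6_aux [Finite G] (hD : IsRootInvolutionSet D) (hc : IsConnectedSet (OddAdj D) D) {a x : G}
    (ha : a ∈ D) (hx : x ∈ D) (hne : twinClass D a ≠ twinClass D x) {y : G} (hy : y ∈ twinClass D x)
    (hyN : y ∈ setNorm (twinClass D a)) {t : G} (ht : t ∈ twinClass D a) :
    y * t = t * y ↔ t ∈ setNorm (twinClass D x) := by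
  constructor
  · intro h
    exact mem_setNorm_of_comm hD hy h.symm
  · intro htN
    by_contra hcomm
    have htD : t ∈ D := ht.1
    have hyD : y ∈ D := hy.1
    have hno : ¬ OddAdj D y t := not_oddAdj_of_mem_setNorm hD hyD hyN ht
    rcases tri hD htD hyD with h | h | h4
    · exact hcomm h.symm
    · exact hno (oddAdj_symm h)
    · have h1 : (t * y) ^ 2 ∈ twinClass D a := by
        have h2 := (mem_setNorm.mp hyN t).2 ht
        rw [inv_eq hD hyD, ← twinClass_eq_of_mem ht] at h2
        have h3 := sq_mem_twin hD hc htD hyD h4 h2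
        rwa [twinClass_eq_of_mem ht] at h3
      have h4' : orderOf (y * t) = 4 := by rw [orderOf_mul_comm']; exact h4
      have h5 : (y * t) ^ 2 ∈ twinClass D x := by
        have h2 := (mem_setNorm.mp htN y).2 hy
        rw [inv_eq hD htD, ← twinClass_eq_of_mem hy] at h2
        have h3 := sq_mem_twin hD hc hyD htD h4' h2
        rwa [twinClass_eq_of_mem hy] at h3
      have h6 : (t * y) ^ 2 = (y * t) ^ 2 := (four_facts hD htD hyD h4).2.2.2.2.2.1
      rw [← h6] at h5
      exact hne (twinClass_eq_of_common h1 h5)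

/-- F6: if `x ∈ D` normalizes the twin class `T` of `a` but does not centralize it, then every twin `y` of `x`
normalizes `T` and has the same fixed points on `T` as `x`. -/
theorem f6 [Finite G] (hD : IsRootInvolutionSet D) (hc : IsConnectedSet (OddAdj D) D) {a x e : G}
    (ha : a ∈ D) (hx : x ∈ D) (hxN : x ∈ setNorm (twinClass D a)) (he : e ∈ twinClass D a)
    (hex : x * e ≠ e * x) :
    ∀ y ∈ twinClass D x, y ∈ setNorm (twinClass D a) ∧
      (∀ t ∈ twinClass D a, y * t = t * y ↔ x * t = t * x) := by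
  have hne : twinClass D a ≠ twinClass D x := by
    intro h
    have hxT : x ∈ twinClass D a := by rw [h]; exact mem_twinClass_self hx
    exact hex (twins_commute hD hc ha hxT he)
  have hxT' : x ∈ twinClass D x := mem_twinClass_self hx
  have heD : e ∈ D := he.1
  have heN : e ∉ setNorm (twinClass D x) := fun h =>
    hex ((f6_aux hD hc ha hx hne hxT' hxN he).2 h)
  have hnoxe : ¬ OddAdj D x e := not_oddAdj_of_mem_setNorm hD hx hxN he
  have h4ex : orderOf (e * x) = 4 := by
    rcases tri hD heD hx with h | h | h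
    · exact absurd h.symm hex
    · exact absurd (oddAdj_symm h) hnoxe
    · exact h
  have hfT : (e * x) ^ 2 ∈ twinClass D a := by
    have h1 := (mem_setNorm.mp hxN e).2 he
    rw [inv_eq hD hx, ← twinClass_eq_of_mem he] at h1
    have h2 := sq_mem_twin hD hc heD hx h4ex h1
    rwa [twinClass_eq_of_mem he] at h2
  have hfx : (e * x) ^ 2 * x = x * (e * x) ^ 2 := (four_facts hD heD hx h4ex).2.2.1
  have hfN' : (e * x) ^ 2 ∈ setNorm (twinClass D x) := mem_setNorm_of_comm hD hxT' hfx
  have hiv : ∀ y ∈ twinClass D x, y ∈ setNorm (twinClass D a) := by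
    intro y hy
    by_contra hyN
    have hyD : y ∈ D := hy.1
    have hnoya : ¬ OddAdj D y a := by
      intro h
      have h2 : OddAdj D x a := (oddAdj_twin_iff hx hy).2 h
      exact not_oddAdj_of_mem_setNorm hD hx hxN (mem_twinClass_self ha) h2
    obtain ⟨-, h5⟩ := f5 hD hc ha hyD hyN hnoya
    have hfy : y * (e * x) ^ 2 ≠ (e * x) ^ 2 * y := fun h =>
      hyN (mem_setNorm_of_comm hD hfT h)
    have hnoyf : ¬ OddAdj D y ((e * x) ^ 2) := by
      intro h
      have h2 : OddAdj D x ((e * x) ^ 2) := (oddAdj_twin_iff hx hy).2 h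
      exact not_oddAdj_of_mem_setNorm hD hx hxN hfT h2
    have h4 : orderOf (y * (e * x) ^ 2) = 4 := by
      rcases tri hD hyD hfT.1 with h | h | h
      · exact absurd h hfy
      · exact absurd h hnoyf
      · exact h
    have hzT' : (y * (e * x) ^ 2) ^ 2 ∈ twinClass D x := by
      have h1 := (mem_setNorm.mp hfN' y).2 hy
      rw [inv_eq hD hfT.1, ← twinClass_eq_of_mem hy] at h1
      have h2 := sq_mem_twin hD hc hyD hfT.1 h4 h1
      rwa [twinClass_eq_of_mem hy] at h2
    have hz_eq : (y * (e * x) ^ 2) ^ 2 = ((e * x) ^ 2 * y) ^ 2 :=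
      (four_facts hD hyD hfT.1 h4).2.2.2.2.2.1
    have hzc : ∀ s ∈ twinClass D a, ((e * x) ^ 2 * y) ^ 2 * s = s * ((e * x) ^ 2 * y) ^ 2 :=
      fun s hs => h5 _ hfT s hs
    have hzN : (y * (e * x) ^ 2) ^ 2 ∈ setNorm (twinClass D a) := by
      rw [hz_eq]; exact mem_setNorm_of_comm hD he (hzc e he)
    have h7 := (f6_aux hD hc ha hx hne hzT' hzN he).1 (by rw [hz_eq]; exact hzc e he)
    exact heN h7
  intro y hy
  refine ⟨hiv y hy, fun t ht => ?_⟩
  rw [f6_aux hD hc ha hx hne hy (hiv y hy) ht, f6_aux hD hc ha hx hne hxT' hxN ht]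

end Cfsg.Agent.Lib.Helper3.RootInv
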