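import Mathlib
import Cfsg.Agent.Lib.Helper8.RIF6

set_option autoImplicit false
set_option maxHeartbeats 4000000
set_option maxRecDepth 100000
set_option linter.unusedVariables false
set_option linter.unusedSectionVars false
set_option linter.style.longLine false

namespace Cfsg.Agent.Lib.Helper3.RootInv

open Cfsg

universe u

variable {G : Type u} [Group G] {D : Set G}

/-! ### P9 : RIBoot -/

/-- the bootstrapping step: from a subgroup inside `T' ∪ {1}` to a subgroup of twice the order inside `T ∪ {1}` -/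
theorem boot_step [Finite G] (hD : IsRootInvolutionSet D) (hc : IsConnectedSet (OddAdj D) D)
    {a x e : G} (ha : a ∈ D) (hx : x ∈ D) (hxN : x ∈ setNorm (twinClass D a)) (he : e ∈ twinClass D a)
    (hex : x * e ≠ e * x) (L' : Subgroup G) (hL' : ∀ l ∈ L', l ≠ 1 → l ∈ twinClass D x) :
    ∃ L : Subgroup G, 2 * Nat.card L' ≤ Nat.card L ∧ ∀ l ∈ L, l ≠ 1 → l ∈ twinClass D a := by
  classical
  have hf6 := f6 hD hc ha hx hxN he hex
  have heD : e ∈ D := he.1
  have hee : e * e = 1 := sq_one hD heD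
  have hei : e⁻¹ = e := inv_eq hD heD
  -- the map
  let φ0 : G → G := fun y => e * y * e⁻¹ * y⁻¹
  have hφ1 : φ0 1 = 1 := by simp [φ0]
  -- facts about nontrivial elements of L'
  have key : ∀ y ∈ L', y ≠ 1 → φ0 y ∈ twinClass D a ∧ x * φ0 y = φ0 y * x ∧
      e * φ0 y = y * e * y⁻¹ := by
    intro y hy hy1
    have hyT' := hL' y hy hy1
    have hyD : y ∈ D := hyT'.1
    have hyi : y⁻¹ = y := inv_eq hD hyD
    obtain ⟨hyN, hyfix⟩ := hf6 y hyT'
    have hye : y * e ≠ e * y := fun h => hex ((hyfix e he).1 h)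
    have hno : ¬ OddAdj D y e := not_oddAdj_of_mem_setNorm hD hyD hyN he
    have h4 : orderOf (e * y) = 4 := by
      rcases tri hD heD hyD with h | h | h
      · exact absurd h.symm hye
      · exact absurd (oddAdj_symm h) hno
      · exact h
    have hφ : φ0 y = (e * y) ^ 2 := by
      show e * y * e⁻¹ * y⁻¹ = (e * y) ^ 2
      rw [hei, hyi, pow_two]; group
    have hT : (e * y) ^ 2 ∈ twinClass D a := by
      have h1 := (mem_setNorm.mp hyN e).2 he
      rw [hyi, ← twinClass_eq_of_mem he] at h1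
      have h2 := sq_mem_twin hD hc heD hyD h4 h1
      rwa [twinClass_eq_of_mem he] at h2
    have hcy : (e * y) ^ 2 * y = y * (e * y) ^ 2 := (four_facts hD heD hyD h4).2.2.1
    refine ⟨by rw [hφ]; exact hT, ?_, ?_⟩
    · rw [hφ]
      exact (hyfix _ hT).1 hcy.symm
    · show e * (e * y * e⁻¹ * y⁻¹) = y * e * y⁻¹
      rw [hei]
      calc e * (e * y * e * y⁻¹) = (e * e) * y * e * y⁻¹ := by group
        _ = y * e * y⁻¹ := by rw [hee, one_mul]
  have hxφ : ∀ y ∈ L', x * φ0 y = φ0 y * x := by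
    intro y hy
    by_cases hy1 : y = 1
    · rw [hy1, hφ1, mul_one, one_mul]
    · exact (key y hy hy1).2.1
  have hcomm : ∀ y₁ ∈ L', ∀ y₂ ∈ L', y₁ * φ0 y₂ = φ0 y₂ * y₁ := by
    intro y₁ h₁ y₂ h₂
    by_cases hy1 : y₁ = 1
    · rw [hy1, mul_one, one_mul]
    by_cases hy2 : y₂ = 1
    · rw [hy2, hφ1, mul_one, one_mul]
    have hT := (key y₂ h₂ hy2).1
    exact ((hf6 y₁ (hL' y₁ h₁ hy1)).2 _ hT).2 (hxφ y₂ h₂)
  have hmul : ∀ y₁ ∈ L', ∀ y₂ ∈ L', φ0 (y₁ * y₂) = φ0 y₁ * φ0 y₂ := by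
    intro y₁ h₁ y₂ h₂
    have h1 : φ0 (y₁ * y₂) = φ0 y₁ * (y₁ * φ0 y₂ * y₁⁻¹) := by
      show e * (y₁ * y₂) * e⁻¹ * (y₁ * y₂)⁻¹ = e * y₁ * e⁻¹ * y₁⁻¹ * (y₁ * (e * y₂ * e⁻¹ * y₂⁻¹) * y₁⁻¹)
      group
    rw [h1, hcomm y₁ h₁ y₂ h₂, mul_inv_cancel_right]
  let φ : ↥L' →* G := MonoidHom.mk' (fun y => φ0 (y : G)) (fun y₁ y₂ => hmul _ y₁.2 _ y₂.2)
  have hφ_apply : ∀ y : ↥L', φ y = φ0 (y : G) := fun _ => rfl
  have hφne : ∀ y : ↥L', (y : G) ≠ 1 → φ y ≠ 1 := by
    intro y hy1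
    rw [hφ_apply]
    exact ne_one hD (key _ y.2 hy1).1.1
  have hφinj : Function.Injective φ := by
    rw [injective_iff_map_eq_one]
    intro y hy
    by_contra hy1
    exact hφne y (fun h => hy1 (Subtype.ext h)) hy
  -- e commutes with the image
  have heφ : ∀ y : ↥L', e * φ y = φ y * e := by
    intro y
    by_cases hy1 : (y : G) = 1
    · rw [hφ_apply, hy1, hφ1, mul_one, one_mul]
    · exact twins_commute hD hc ha he (key _ y.2 hy1).1
  -- e is not in the image
  have heF : ∀ y : ↥L', φ y ≠ e := by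
    intro y h
    apply hex
    rw [← h, hφ_apply]
    exact hxφ _ y.2
  -- the subgroup
  let L : Subgroup G :=
    { carrier := {g | ∃ y : ↥L', g = φ y ∨ g = e * φ y}
      one_mem' := ⟨1, Or.inl (map_one φ).symm⟩
      mul_mem' := by
        rintro g₁ g₂ ⟨y₁, h₁ | h₁⟩ ⟨y₂, h₂ | h₂⟩
        · exact ⟨y₁ * y₂, Or.inl (by rw [h₁, h₂, map_mul])⟩
        · refine ⟨y₁ * y₂, Or.inr ?_⟩
          rw [h₁, h₂, map_mul, ← mul_assoc, ← heφ y₁, mul_assoc]
        · exact ⟨y₁ * y₂, Or.inr (by rw [h₁, h₂, map_mul, mul_assoc])⟩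
        · refine ⟨y₁ * y₂, Or.inl ?_⟩
          rw [h₁, h₂, map_mul]
          calc e * φ y₁ * (e * φ y₂) = e * (φ y₁ * e) * φ y₂ := by group
            _ = e * (e * φ y₁) * φ y₂ := by rw [heφ y₁]
            _ = (e * e) * φ y₁ * φ y₂ := by group
            _ = φ y₁ * φ y₂ := by rw [hee, one_mul]
      inv_mem' := by
        rintro g ⟨y, h | h⟩
        · exact ⟨y⁻¹, Or.inl (by rw [h, map_inv])⟩
        · refine ⟨y⁻¹, Or.inr ?_⟩
          rw [h, map_inv, mul_inv_rev, hei]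
          have h2 := heφ y
          calc (φ y)⁻¹ * e = (φ y)⁻¹ * (e * φ y) * (φ y)⁻¹ := by group
            _ = (φ y)⁻¹ * (φ y * e) * (φ y)⁻¹ := by rw [h2]
            _ = e * (φ y)⁻¹ := by group }
  have hLmem : ∀ g : G, g ∈ L ↔ ∃ y : ↥L', g = φ y ∨ g = e * φ y := fun _ => Iff.rfl
  refine ⟨L, ?_, ?_⟩
  · -- the cardinality
    let ψ : ↥L' ⊕ ↥L' → ↥L := fun s =>
      Sum.elim (fun y => ⟨φ y, (hLmem _).2 ⟨y, Or.inl rfl⟩⟩) (fun y => ⟨e * φ y, (hLmem _).2 ⟨y, Or.inr rfl⟩⟩) s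
    have hψ : Function.Injective ψ := by
      rintro (y₁ | y₁) (y₂ | y₂) h
      · have h' : φ y₁ = φ y₂ := congrArg Subtype.val h
        rw [hφinj h']
      · exfalso
        have h' : φ y₁ = e * φ y₂ := congrArg Subtype.val h
        apply heF (y₁ * y₂⁻¹)
        rw [map_mul, map_inv, h', mul_inv_cancel_right]
      · exfalso
        have h' : e * φ y₁ = φ y₂ := congrArg Subtype.val h
        apply heF (y₂ * y₁⁻¹)
        rw [map_mul, map_inv, ← h', mul_inv_cancel_right]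
      · have h' : e * φ y₁ = e * φ y₂ := congrArg Subtype.val h
        rw [hφinj (mul_left_cancel h')]
    have h1 := Nat.card_le_card_of_injective ψ hψ
    rw [Nat.card_sum] at h1
    omega
  · rintro l ⟨y, h | h⟩ hl1
    · have hy1 : (y : G) ≠ 1 := by
        intro h1
        apply hl1
        rw [h, hφ_apply, h1, hφ1]
      rw [h, hφ_apply]
      exact (key _ y.2 hy1).1
    · by_cases hy1 : (y : G) = 1
      · rw [h, hφ_apply, hy1, hφ1, mul_one]; exact he
      · rw [h, hφ_apply, (key _ y.2 hy1).2.2]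
        obtain ⟨hyN, -⟩ := hf6 _ (hL' _ y.2 hy1)
        exact (mem_setNorm.mp hyN e).2 he

/-- main: a member of `D` normalizing a twin class centralizes it. -/
theorem setNorm_centralizes [Finite G] (hD : IsRootInvolutionSet D) (hc : IsConnectedSet (OddAdj D) D)
    {a x e : G} (ha : a ∈ D) (hx : x ∈ D) (hxN : x ∈ setNorm (twinClass D a)) (he : e ∈ twinClass D a) :
    x * e = e * x := by
  by_contra hex
  obtain ⟨g, hg⟩ := exists_conj hD hc ha hx
  have hall : ∀ k : ℕ, ∃ L' : Subgroup G, 2 ^ k ≤ Nat.card L' ∧ ∀ l ∈ L', l ≠ 1 → l ∈ twinClass D x := by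
    intro k
    induction k with
    | zero =>
      refine ⟨⊥, ?_, ?_⟩
      · simp
      · intro l hl hl1
        exact absurd (Subgroup.mem_bot.mp hl) hl1
    | succ k ih =>
      obtain ⟨L', hcard, hL'⟩ := ih
      obtain ⟨L, hLcard, hL⟩ := boot_step hD hc ha hx hxN he hex L' hL'
      refine ⟨L.map (MulAut.conj g).toMonoidHom, ?_, ?_⟩
      · rw [Subgroup.card_map_of_injective (MulAut.conj g).injective]
        calc 2 ^ (k + 1) = 2 * 2 ^ k := by ring
          _ ≤ 2 * Nat.card L' := by omega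
          _ ≤ Nat.card L := hLcard
      · rintro _ ⟨l, hl, rfl⟩ hl1
        have hl1' : l ≠ 1 := by
          intro h
          apply hl1
          rw [h]; simp
        have h1 := hL l hl hl1'
        have h2 := (conj_twinClass hD (a := a) (b := l) g).2 h1
        rw [hg] at h2
        simpa [MulAut.conj_apply] using h2
  obtain ⟨L', hcard, -⟩ := hall (Nat.card G)
  have h1 : Nat.card L' ≤ Nat.card G := Subgroup.card_le_card_group L'
  have h2 : Nat.card G < 2 ^ Nat.card G := Nat.lt_two_pow_self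
  omega

end Cfsg.Agent.Lib.Helper3.RootInv
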