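/-
Farm RU (S3174), unit D: `T/W` (W = C_T(Z_3)) embeds in the stability group of the chain, order ≤ 8, dihedral when 8.
Statements verbatim from `Lib/Helper3/RuSylStubs.lean`.
-/
import Mathlib
import Cfsg.Agent.Lib.Helper3.RuSylDefs
import Cfsg.Agent.Lib.Helper5.OAut.D8

set_option autoImplicit false

namespace Cfsg.Agent.Lib.Helper8.RuSylD

open Cfsg.Agent.Lib.Helper3.RuSyl

variable {T : Type*} [Group T]

theorem normalW {Z1 Z2 Z3 Z4 W : Subgroup T} (C : Chain Z1 Z2 Z3 Z4)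
    (hW : W = Subgroup.centralizer (Z3 : Set T)) : W.Normal := by
  have h3 : Z3.Normal := C.n3
  rw [hW]
  exact Subgroup.normal_centralizer

theorem exists_mem_not_mem [Finite T] {H K : Subgroup T} (hlt : Nat.card H < Nat.card K) :
    ∃ x ∈ K, x ∉ H := by
  by_contra hcon
  push Not at hcon
  have hle : K ≤ H := hcon
  exact absurd (Subgroup.card_le_of_le hle) (not_le.mpr hlt)

/-- `K = H ∪ zH` when `|K| = 2|H|` -/
theorem coset_cases [Finite T] {H K : Subgroup T} (hle : H ≤ K) (h2 : Nat.card K = 2 * Nat.card H)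
    {z : T} (hz : z ∈ K) (hz' : z ∉ H) {x : T} (hx : x ∈ K) : x ∈ H ∨ ∃ u ∈ H, x = z * u := by
  have hc : Nat.card (H.subgroupOf K) = Nat.card H :=
    Nat.card_congr (Subgroup.subgroupOfEquivOfLe hle).toEquiv
  have hpos : 0 < Nat.card H := Nat.card_pos
  have hidx : (H.subgroupOf K).index = 2 := by
    have h := Subgroup.card_mul_index (H.subgroupOf K)
    rw [hc, h2, mul_comm 2] at h
    exact Nat.eq_of_mul_eq_mul_left hpos h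
  by_cases hxH : x ∈ H
  · exact Or.inl hxH
  · right
    have key := Subgroup.mul_mem_iff_of_index_two hidx
      (a := (⟨z⁻¹, K.inv_mem hz⟩ : K)) (b := ⟨x, hx⟩)
    simp only [Subgroup.mem_subgroupOf] at key
    have hz'' : z⁻¹ ∉ H := fun hc => hz' (by simpa using H.inv_mem hc)
    have hmem : z⁻¹ * x ∈ H := by
      have h3 := key.mpr ⟨fun a => absurd a hz'', fun a => absurd a hxH⟩
      simpa using h3
    exact ⟨z⁻¹ * x, hmem, by group⟩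

theorem conj_mul' (g a b : T) : g * (a * b) * g⁻¹ = (g * a * g⁻¹) * (g * b * g⁻¹) := by group

theorem mem_W_of_fix [Finite T] {Z1 Z2 Z3 Z4 W : Subgroup T} (C : Chain Z1 Z2 Z3 Z4)
    (hW : W = Subgroup.centralizer (Z3 : Set T)) (z2 z3 : T) (hz2 : z2 ∈ Z2) (hz2' : z2 ∉ Z1)
    (hz3 : z3 ∈ Z3) (hz3' : z3 ∉ Z2) (g : T) (h2 : g * z2 * g⁻¹ = z2) (h3 : g * z3 * g⁻¹ = z3) :
    g ∈ W := by
  have fix2 : ∀ y ∈ Z2, g * y * g⁻¹ = y := by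
    intro y hy
    rcases coset_cases C.le12 (by rw [C.c1, C.c2]) hz2 hz2' hy with h | ⟨u, hu, rfl⟩
    · exact C.comm1 y h g
    · rw [conj_mul', h2, C.comm1 u hu g]
  have fix3 : ∀ y ∈ Z3, g * y * g⁻¹ = y := by
    intro y hy
    rcases coset_cases C.le23 (by rw [C.c2, C.c3]) hz3 hz3' hy with h | ⟨u, hu, rfl⟩
    · exact fix2 y h
    · rw [conj_mul', h3, fix2 u hu]
  rw [hW, Subgroup.mem_centralizer_iff]
  intro x hx
  exact (mul_inv_eq_iff_eq_mul.mp (fix3 x hx)).symm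

theorem mem_a {Z1 Z2 Z3 Z4 : Subgroup T} (C : Chain Z1 Z2 Z3 Z4) {z2 : T} (hz2 : z2 ∈ Z2) (t : T) :
    z2⁻¹ * (t * z2 * t⁻¹) ∈ Z1 := by
  have h := C.n1.conj_mem _ (C.comm2 z2 hz2 t) z2⁻¹
  have e : z2⁻¹ * (t * z2 * t⁻¹ * z2⁻¹) * z2⁻¹⁻¹ = z2⁻¹ * (t * z2 * t⁻¹) := by group
  rw [e] at h; exact h

theorem mem_b {Z1 Z2 Z3 Z4 : Subgroup T} (C : Chain Z1 Z2 Z3 Z4) {z3 : T} (hz3 : z3 ∈ Z3) (t : T) :
    z3⁻¹ * (t * z3 * t⁻¹) ∈ Z2 := by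
  have h := C.n2.conj_mem _ (C.comm3 z3 hz3 t) z3⁻¹
  have e : z3⁻¹ * (t * z3 * t⁻¹ * z3⁻¹) * z3⁻¹⁻¹ = z3⁻¹ * (t * z3 * t⁻¹) := by group
  rw [e] at h; exact h

/-- the action of `t` on `(z2, z3)` -/
def actMap {Z1 Z2 Z3 Z4 : Subgroup T} (C : Chain Z1 Z2 Z3 Z4) (z2 z3 : T) (hz2 : z2 ∈ Z2)
    (hz3 : z3 ∈ Z3) (t : T) : Z1 × Z2 :=
  (⟨z2⁻¹ * (t * z2 * t⁻¹), mem_a C hz2 t⟩, ⟨z3⁻¹ * (t * z3 * t⁻¹), mem_b C hz3 t⟩)

theorem actMap_inj [Finite T] {Z1 Z2 Z3 Z4 W : Subgroup T} (C : Chain Z1 Z2 Z3 Z4)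
    (hW : W = Subgroup.centralizer (Z3 : Set T)) (z2 z3 : T) (hz2 : z2 ∈ Z2) (hz2' : z2 ∉ Z1)
    (hz3 : z3 ∈ Z3) (hz3' : z3 ∉ Z2) {t t' : T}
    (h : actMap C z2 z3 hz2 hz3 t = actMap C z2 z3 hz2 hz3 t') : t⁻¹ * t' ∈ W := by
  have h1 : z2⁻¹ * (t * z2 * t⁻¹) = z2⁻¹ * (t' * z2 * t'⁻¹) :=
    congrArg (fun p : Z1 × Z2 => (p.1 : T)) h
  have h2 : z3⁻¹ * (t * z3 * t⁻¹) = z3⁻¹ * (t' * z3 * t'⁻¹) :=
    congrArg (fun p : Z1 × Z2 => (p.2 : T)) h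
  have h1' := mul_left_cancel h1
  have h2' := mul_left_cancel h2
  apply mem_W_of_fix C hW z2 z3 hz2 hz2' hz3 hz3'
  · calc t⁻¹ * t' * z2 * (t⁻¹ * t')⁻¹ = t⁻¹ * (t' * z2 * t'⁻¹) * t := by group
      _ = t⁻¹ * (t * z2 * t⁻¹) * t := by rw [h1']
      _ = z2 := by group
  · calc t⁻¹ * t' * z3 * (t⁻¹ * t')⁻¹ = t⁻¹ * (t' * z3 * t'⁻¹) * t := by group
      _ = t⁻¹ * (t * z3 * t⁻¹) * t := by rw [h2']
      _ = z3 := by group

theorem quot_inj [Finite T] {Z1 Z2 Z3 Z4 W : Subgroup T} (C : Chain Z1 Z2 Z3 Z4)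
    (hW : W = Subgroup.centralizer (Z3 : Set T)) (z2 z3 : T) (hz2 : z2 ∈ Z2) (hz2' : z2 ∉ Z1)
    (hz3 : z3 ∈ Z3) (hz3' : z3 ∉ Z2) :
    Function.Injective (fun q : T ⧸ W => actMap C z2 z3 hz2 hz3 q.out) := by
  intro q q' h
  have hmem := actMap_inj C hW z2 z3 hz2 hz2' hz3 hz3' h
  rw [← QuotientGroup.out_eq' q, ← QuotientGroup.out_eq' q']
  exact QuotientGroup.eq.mpr hmem

theorem card_prod_eq {Z1 Z2 Z3 Z4 : Subgroup T} (C : Chain Z1 Z2 Z3 Z4) : Nat.card (Z1 × Z2) = 8 := by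
  rw [Nat.card_prod, C.c1, C.c2]

theorem index_le [Finite T] {Z1 Z2 Z3 Z4 W : Subgroup T} (C : Chain Z1 Z2 Z3 Z4)
    (hW : W = Subgroup.centralizer (Z3 : Set T)) : W.index ≤ 8 := by
  obtain ⟨z2, hz2, hz2'⟩ := exists_mem_not_mem (H := Z1) (K := Z2) (by rw [C.c1, C.c2]; norm_num)
  obtain ⟨z3, hz3, hz3'⟩ := exists_mem_not_mem (H := Z2) (K := Z3) (by rw [C.c2, C.c3]; norm_num)
  have h := Nat.card_le_card_of_injective _ (quot_inj C hW z2 z3 hz2 hz2' hz3 hz3')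
  rw [card_prod_eq C] at h
  exact h

theorem exists_act [Finite T] {Z1 Z2 Z3 Z4 W : Subgroup T} (C : Chain Z1 Z2 Z3 Z4)
    (hW : W = Subgroup.centralizer (Z3 : Set T)) (h8 : W.index = 8) (z2 z3 : T) (hz2 : z2 ∈ Z2)
    (hz2' : z2 ∉ Z1) (hz3 : z3 ∈ Z3) (hz3' : z3 ∉ Z2) (u1 u2 : T) (hu1 : u1 ∈ Z1) (hu2 : u2 ∈ Z2) :
    ∃ t : T, t * z2 * t⁻¹ = z2 * u1 ∧ t * z3 * t⁻¹ = z3 * u2 := by
  have hcard : Nat.card (T ⧸ W) = 8 := h8
  have hbij : Function.Bijective (fun q : T ⧸ W => actMap C z2 z3 hz2 hz3 q.out) :=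
    (quot_inj C hW z2 z3 hz2 hz2' hz3 hz3').bijective_of_nat_card_le
      (by rw [card_prod_eq C, hcard])
  obtain ⟨q, hq⟩ := hbij.2 (⟨u1, hu1⟩, ⟨u2, hu2⟩)
  refine ⟨q.out, ?_, ?_⟩
  · have h1 : z2⁻¹ * (q.out * z2 * q.out⁻¹) = u1 := congrArg (fun p : Z1 × Z2 => (p.1 : T)) hq
    exact eq_mul_of_inv_mul_eq h1
  · have h2 : z3⁻¹ * (q.out * z3 * q.out⁻¹) = u2 := congrArg (fun p : Z1 × Z2 => (p.2 : T)) hq
    exact eq_mul_of_inv_mul_eq h2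

theorem dihedral [Finite T] {Z1 Z2 Z3 Z4 W : Subgroup T} (C : Chain Z1 Z2 Z3 Z4)
    (hW : W = Subgroup.centralizer (Z3 : Set T)) (h8 : W.index = 8) [W.Normal] :
    Nonempty (T ⧸ W ≃* DihedralGroup 4) := by
  obtain ⟨z2, hz2, hz2'⟩ := exists_mem_not_mem (H := Z1) (K := Z2) (by rw [C.c1, C.c2]; norm_num)
  obtain ⟨z3, hz3, hz3'⟩ := exists_mem_not_mem (H := Z2) (K := Z3) (by rw [C.c2, C.c3]; norm_num)
  obtain ⟨z1, hz1, hz1'⟩ : ∃ z1 ∈ Z1, z1 ∉ (⊥ : Subgroup T) :=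
    exists_mem_not_mem (H := ⊥) (K := Z1) (by rw [C.c1, Subgroup.card_bot]; norm_num)
  have hz1ne : z1 ≠ 1 := fun h => hz1' (by rw [h]; exact Subgroup.one_mem _)
  have hz1sq : z1 * z1 = 1 := by
    have h := pow_card_eq_one' (G := Z1) (x := ⟨z1, hz1⟩)
    rw [C.c1] at h
    have h' := congrArg (fun p : Z1 => (p : T)) h
    simpa [pow_two] using h'
  obtain ⟨t, ht2, ht3⟩ := exists_act C hW h8 z2 z3 hz2 hz2' hz3 hz3' z1 1 hz1 Z2.one_mem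
  obtain ⟨s, hs2, hs3⟩ := exists_act C hW h8 z2 z3 hz2 hz2' hz3 hz3' 1 z2 Z1.one_mem hz2
  rw [mul_one] at ht3 hs2
  have htt : t * t ∈ W := by
    apply mem_W_of_fix C hW z2 z3 hz2 hz2' hz3 hz3'
    · calc t * t * z2 * (t * t)⁻¹ = t * (t * z2 * t⁻¹) * t⁻¹ := by group
        _ = t * (z2 * z1) * t⁻¹ := by rw [ht2]
        _ = (t * z2 * t⁻¹) * (t * z1 * t⁻¹) := by group
        _ = z2 * z1 * z1 := by rw [ht2, C.comm1 z1 hz1 t]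
        _ = z2 := by rw [mul_assoc, hz1sq, mul_one]
    · calc t * t * z3 * (t * t)⁻¹ = t * (t * z3 * t⁻¹) * t⁻¹ := by group
        _ = z3 := by rw [ht3, ht3]
  apply Cfsg.Agent.Lib.Helper5.OAut.exists_dihedral_equiv (E := T ⧸ W) h8 (t : T ⧸ W) (s : T ⧸ W)
  · rw [← QuotientGroup.mk_mul]
    exact (QuotientGroup.eq_one_iff _).mpr htt
  · intro hcomm
    rw [← QuotientGroup.mk_mul, ← QuotientGroup.mk_mul] at hcomm
    have hw : (s * t)⁻¹ * (t * s) ∈ W := QuotientGroup.eq.mp hcomm.symm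
    have hwz : (s * t)⁻¹ * (t * s) * z3 = z3 * ((s * t)⁻¹ * (t * s)) := by
      rw [hW] at hw
      exact (Subgroup.mem_centralizer_iff.mp hw z3 hz3).symm
    have e1 : t * s * z3 * (t * s)⁻¹ = z3 * z2 * z1 := by
      calc t * s * z3 * (t * s)⁻¹ = t * (s * z3 * s⁻¹) * t⁻¹ := by group
        _ = t * (z3 * z2) * t⁻¹ := by rw [hs3]
        _ = (t * z3 * t⁻¹) * (t * z2 * t⁻¹) := by group
        _ = z3 * z2 * z1 := by rw [ht3, ht2, mul_assoc]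
    have e2 : s * t * z3 * (s * t)⁻¹ = z3 * z2 := by
      calc s * t * z3 * (s * t)⁻¹ = s * (t * z3 * t⁻¹) * s⁻¹ := by group
        _ = z3 * z2 := by rw [ht3, hs3]
    have e3 : t * s * z3 * (t * s)⁻¹ = s * t * z3 * (s * t)⁻¹ := by
      calc t * s * z3 * (t * s)⁻¹
          = (s * t) * (((s * t)⁻¹ * (t * s)) * z3) * (t * s)⁻¹ := by group
        _ = (s * t) * (z3 * ((s * t)⁻¹ * (t * s))) * (t * s)⁻¹ := by rw [hwz]
        _ = s * t * z3 * (s * t)⁻¹ := by group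
    rw [e1, e2] at e3
    exact hz1ne (by simpa using e3)

end Cfsg.Agent.Lib.Helper8.RuSylD
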