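import Mathlib
import Cfsg.Agent.Lib.Helper3.SpMinDefs
import Cfsg.Agent.Lib.Helper8.SpMinA5a
set_option autoImplicit false
set_option maxHeartbeats 4000000
set_option linter.unusedVariables false
set_option linter.unusedSectionVars false
set_option linter.style.longLine false
open Matrix Cfsg

/-! # S2142 farm, unit Q: two distinct orthogonal non-singular vectors for a quadratic form on
`F^{2l}`, `l ≥ 2`. -/

namespace Cfsg.Agent.Lib.Helper8.SpMin

open Cfsg.Agent.Lib.Helper5 Cfsg.Agent.Lib.Helper5.SympTv Cfsg.Agent.Lib.Helper3.SpMin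

variable {F : Type*} [Field F] [Fintype F]

/-- the vector `α e_i + β f_i` of the `i`-th hyperbolic plane -/
def pl (l : ℕ) (i : Fin l) (α β : F) : Fin l ⊕ Fin l → F :=
  α • Pi.single (Sum.inl i) 1 + β • Pi.single (Sum.inr i) 1

theorem sympForm_pl_pl (l : ℕ) (i j : Fin l) (hij : i ≠ j) (α β γ δ : F) :
    sympForm l F (pl l i α β) (pl l j γ δ) = 0 := by
  unfold pl
  rw [sympForm_add_right, sympForm_smul_right, sympForm_smul_right, SympGen.sympForm_single_inl,
    SympGen.sympForm_single_inr]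
  simp [Pi.single_apply, hij, Ne.symm hij]

/-- every hyperbolic plane contains a non-singular vector -/
theorem exists_pl_one (hF : Fintype.card F = 2) (l : ℕ) (c : QF l F) (i : Fin l) :
    ∃ α β : F, c.1 (pl l i α β) = 1 := by
  by_cases h1 : c.1 (Pi.single (Sum.inl i) 1) = 1
  · refine ⟨1, 0, ?_⟩
    unfold pl
    rw [one_smul, zero_smul, add_zero]
    exact h1
  by_cases h2 : c.1 (Pi.single (Sum.inr i) 1) = 1
  · refine ⟨0, 1, ?_⟩
    unfold pl
    rw [one_smul, zero_smul, zero_add]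
    exact h2
  refine ⟨1, 1, ?_⟩
  unfold pl
  rw [one_smul, one_smul, c.2, (eq_zero_or_one hF _).resolve_right h1,
    (eq_zero_or_one hF _).resolve_right h2, SympGen.sympForm_single_inr, Pi.single_eq_same,
    neg_eq' hF, zero_add, zero_add]

/-- Q : two distinct orthogonal nonsingular vectors -/
theorem exists_pair (hF : Fintype.card F = 2) (l : ℕ) (hl : 2 ≤ l) (c : QF l F) :
    ∃ u x : Fin l ⊕ Fin l → F, u ≠ 0 ∧ x ≠ 0 ∧ u ≠ x ∧ sympForm l F u x = 0 ∧ c.1 u = 1 ∧ c.1 x = 1 := by
  have hij : (⟨0, by omega⟩ : Fin l) ≠ ⟨1, by omega⟩ := by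
    intro h
    have := congrArg Fin.val h
    simp at this
  obtain ⟨α, β, hu⟩ := exists_pl_one hF l c ⟨0, by omega⟩
  obtain ⟨γ, δ, hx⟩ := exists_pl_one hF l c ⟨1, by omega⟩
  have hne0 : ∀ v : Fin l ⊕ Fin l → F, c.1 v = 1 → v ≠ 0 := by
    rintro v hv rfl
    rw [qf_zero] at hv
    exact zero_ne_one hv
  refine ⟨_, _, hne0 _ hu, hne0 _ hx, ?_, sympForm_pl_pl l _ _ hij α β γ δ, hu, hx⟩
  intro h
  have h1 := sympForm_pl_pl (F := F) l _ _ hij α β γ δ
  -- `u = x` would be orthogonal to its own plane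
  have hα : α = 0 := by
    have := congrFun h (Sum.inl ⟨0, by omega⟩)
    simpa [pl, Pi.single_apply, hij, Ne.symm hij] using this
  have hβ : β = 0 := by
    have := congrFun h (Sum.inr ⟨0, by omega⟩)
    simpa [pl, Pi.single_apply, hij, Ne.symm hij] using this
  apply hne0 _ hu
  unfold pl
  rw [hα, hβ, zero_smul, zero_smul, add_zero]

end Cfsg.Agent.Lib.Helper8.SpMin
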