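import Mathlib
import Cfsg.Agent.Lib.Helper3.SpMinDefs
import Cfsg.Agent.Lib.Helper8.SpMinA5
set_option autoImplicit false
set_option maxHeartbeats 4000000
set_option linter.unusedVariables false
set_option linter.unusedSectionVars false
set_option linter.style.longLine false
open Matrix Cfsg

/-! # S2142 farm, unit E (first part): the stabilizer of a quadratic form of minus type has index
the number of such forms. -/

namespace Cfsg.Agent.Lib.Helper8.SpMin

open Cfsg.Agent.Lib.Helper5 Cfsg.Agent.Lib.Helper5.SympTv Cfsg.Agent.Lib.Helper3.SpMin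

variable {F : Type*} [Field F] [Fintype F]

theorem n0_pos (m : ℕ) (hm : 1 ≤ m) : 0 < n0 m := by
  unfold n0
  apply Nat.mul_pos (pow_pos (by norm_num) _)
  have : 2 ^ 1 ≤ 2 ^ m := Nat.pow_le_pow_right (by norm_num) hm
  omega

theorem exists_index_of (hF : Fintype.card F = 2) (m : ℕ) (ε : ℤ) (n : ℕ) (hn : 0 < n)
    (hcard : Nat.card (QFs m F ε) = n) :
    ∃ H : Subgroup (symplecticGroup (Fin m) F), H.index = n := by
  have hne : Nonempty (QFs m F ε) := by
    apply (Nat.card_pos_iff.1 _).1
    rw [hcard]
    exact hn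
  obtain ⟨φ⟩ := hne
  have h2 := two_trans hF m ε
  have h1 : MulAction.IsPretransitive (symplecticGroup (Fin m) F) (QFs m F ε) :=
    MulAction.isPretransitive_of_is_two_pretransitive
  refine ⟨MulAction.stabilizer (symplecticGroup (Fin m) F) φ, ?_⟩
  rw [MulAction.index_stabilizer_of_transitive, hcard]

end Cfsg.Agent.Lib.Helper8.SpMin
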