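import Mathlib
import Cfsg.Agent.Lib.Helper3.SpMinDefs
import Cfsg.Agent.Lib.Helper2.SpMinA4
import Cfsg.Agent.Lib.Helper8.SpMinEa
set_option autoImplicit false
set_option maxHeartbeats 4000000
set_option linter.unusedVariables false
set_option linter.unusedSectionVars false
set_option linter.style.longLine false
open Matrix Cfsg

/-! # S2142 farm, unit E: a subgroup of `Sp_2m(2)` of index `2^(m-1) (2^m - 1)`. -/

namespace Cfsg.Agent.Lib.Helper8.SpMin

open Cfsg.Agent.Lib.Helper5 Cfsg.Agent.Lib.Helper5.SympTv Cfsg.Agent.Lib.Helper3.SpMin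

variable {F : Type*} [Field F] [Fintype F]

/-- E : existence of a subgroup of index `n0 m` -/
theorem exists_index (hF : Fintype.card F = 2) (m : ℕ) (hm : 1 ≤ m) :
    ∃ H : Subgroup (symplecticGroup (Fin m) F), H.index = n0 m :=
  exists_index_of hF m (-2 ^ m) (n0 m) (n0_pos m hm)
    (Cfsg.Agent.Lib.Helper2.SpMin.card_QFs_minus hF m hm)

end Cfsg.Agent.Lib.Helper8.SpMin
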