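import Mathlib

set_option autoImplicit false

/-! Burnside's density theorem for a simple module whose endomorphisms are scalars. -/

namespace Cfsg.Agent.Lib.Helper8.Asch

open Module

variable {F : Type*} [Field F] {R : Type*} [Ring R] {S : Type*} [AddCommGroup S] [Module F S]
  [Module R S]

/-- density: `R` acts `k`-transitively on `F`-independent families -/
theorem density_fin [IsSimpleModule R S]
    (hD : ∀ δ : Module.End R S, ∃ c : F, ∀ s, δ s = c • s) {k : ℕ} (s : Fin k → S)
    (hs : LinearIndependent F s) (t : Fin k → S) : ∃ a : R, ∀ i, a • s i = t i := by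
  classical
  set W : Submodule R (Fin k → S) := Submodule.span R {s} with hW
  obtain ⟨W', hc⟩ := exists_isCompl W
  let π : (Fin k → S) →ₗ[R] (Fin k → S) := W.projection W' hc
  have hsW : s ∈ W := Submodule.subset_span rfl
  have hπs : π s = s := Submodule.projection_apply_left hc ⟨s, hsW⟩
  have hπW : ∀ m, π m ∈ W := fun m => Submodule.projection_apply_mem hc m
  -- components
  have hcomp : ∀ i j, ∃ c : F, ∀ x : S,
      π (Pi.single j x) i = c • x := by
    intro i j
    let δ : Module.End R S :=
      (LinearMap.proj i) ∘ₗ π ∘ₗ (LinearMap.single R (fun _ : Fin k => S) j)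
    obtain ⟨c, hc⟩ := hD δ
    exact ⟨c, fun x => hc x⟩
  choose P hP using hcomp
  have hπ : ∀ (m : Fin k → S) i, π m i = ∑ j, P i j • m j := by
    intro m i
    have h1 : m = ∑ j, Pi.single j (m j) := (Finset.univ_sum_single m).symm
    conv_lhs => rw [h1]
    rw [map_sum, Finset.sum_apply]
    exact Finset.sum_congr rfl fun j _ => hP i j (m j)
  have hPid : ∀ i j, P i j = if j = i then 1 else 0 := by
    intro i
    have h1 : ∑ j, P i j • s j = s i := by rw [← hπ s i, hπs]
    have h2 : ∑ j, (P i j - if j = i then 1 else 0) • s j = 0 := by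
      simp only [sub_smul, Finset.sum_sub_distrib, h1]
      simp
    have h3 := (Fintype.linearIndependent_iff.mp hs) _ h2
    intro j
    exact sub_eq_zero.mp (h3 j)
  have hπid : ∀ m, π m = m := by
    intro m
    ext i
    rw [hπ m i]
    simp [hPid]
  have htW : t ∈ W := by
    rw [← hπid t]
    exact hπW t
  rw [hW, Submodule.mem_span_singleton] at htW
  obtain ⟨a, ha⟩ := htW
  exact ⟨a, fun i => congrFun ha i⟩

/-- Burnside: every `F`-linear endomorphism of `S` is given by an element of `R` -/
theorem burnside [IsSimpleModule R S] [FiniteDimensional F S] [SMulCommClass R F S]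
    (hD : ∀ δ : Module.End R S, ∃ c : F, ∀ s, δ s = c • s) (φ : Module.End F S) :
    ∃ a : R, ∀ s : S, a • s = φ s := by
  let b := Module.finBasis F S
  obtain ⟨a, ha⟩ := density_fin hD b b.linearIndependent (fun i => φ (b i))
  refine ⟨a, fun s => ?_⟩
  let ψ : Module.End F S :=
    { toFun := fun s => a • s
      map_add' := smul_add a
      map_smul' := fun c s => smul_comm a c s }
  have : ψ = φ := b.ext (fun i => ha i)
  exact LinearMap.congr_fun this s

end Cfsg.Agent.Lib.Helper8.Asch
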