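import Mathlib
import Cfsg.Prelude.Def_Balance
import Cfsg.Prelude.Def_ClassificationStages

/-! Farm TCL (S1775), unit U3. -/

set_option autoImplicit false

namespace Cfsg.Agent.Lib.Helper8.TCL

open Cfsg

/-- U3: the B-property, for one 2-component `K` of `C_X(t)` (all inside `X`). -/
theorem U3 {X : Type*} [Group X] [Finite X] (t : X) (ht : orderOf t = 2)
    (hB : Cfsg.HasBProperty X) (K : Subgroup X)
    (hK : Cfsg.IsPComponentOf 2 K (Subgroup.centralizer ({t} : Set X))) :
    ⁅K, (Cfsg.oddCore ↥(Subgroup.centralizer ({t} : Set X))).map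
        (Subgroup.centralizer ({t} : Set X)).subtype⁆ ≤ Cfsg.oddCore X := by
  obtain ⟨hKC, hKp⟩ := hK
  have h1 : K.subgroupOf (Subgroup.centralizer ({t} : Set X)) ≤
      pLayer 2 ↥(Subgroup.centralizer ({t} : Set X)) := le_sSup hKp
  have h2 : ⁅K.subgroupOf (Subgroup.centralizer ({t} : Set X)),
      oddCore ↥(Subgroup.centralizer ({t} : Set X))⁆ ≤
      ⁅pLayer 2 ↥(Subgroup.centralizer ({t} : Set X)),
        oddCore ↥(Subgroup.centralizer ({t} : Set X))⁆ :=
    Subgroup.commutator_mono h1 le_rfl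
  have h3 := (Subgroup.map_mono (f := (Subgroup.centralizer ({t} : Set X)).subtype) h2).trans
    (hB t ht)
  rw [Subgroup.map_commutator, Subgroup.map_subgroupOf_eq_of_le hKC] at h3
  exact h3

end Cfsg.Agent.Lib.Helper8.TCL
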