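import Mathlib
import Cfsg.Agent.Lib.Helper3.TDMDefs

/-! Farm TDM (S2342), unit C2: the multiplicities `cM` are invariant under the scalars `hu e`. -/

set_option autoImplicit false
set_option linter.unusedSectionVars false
set_option linter.unusedVariables false
set_option linter.unusedSimpArgs false

namespace Cfsg.Agent.Lib.Helper8.TDM

open Cfsg.Agent.Lib.Helper3.TDM

section main

variable {K : Type*} [Field K] [Fintype K] [DecidableEq K] {Fr : Frob3 K} [Fintype ↥(Fx Fr.φ)]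
  {G : Type*} [Group G] (D : Data Fr G) (hD : Rel D) (hG : Fr.Good)
  (ψ : AddChar ↥(Fx Fr.φ) ℂ) (hψ : ψ ≠ 1)

include hD in
theorem cM_scalar (χ : G → ℂ) (hχ : ∀ x y, χ (x * y * x⁻¹) = χ y) (e : (↥(Fx Fr.φ))ˣ)
    (a : ↥(Fx Fr.φ)) (b c : K) (d : ↥(Fx Fr.φ)) :
    cM D ψ χ (e * a) (((e : ↥(Fx Fr.φ)) : K) * b) (((e : ↥(Fx Fr.φ)) : K) * c) (e * d) =
      cM D ψ χ a b c d := by
  simp only [cM]
  refine congrArg (HMul.hMul _) ?_
  have heK : (((e : ↥(Fx Fr.φ)) : K)) ≠ 0 := by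
    intro h
    exact e.ne_zero (Subtype.ext h)
  let eK : Kˣ := Units.mk0 _ heK
  refine Fintype.sum_equiv (Units.mulLeft (e * e)) _ _ fun r => ?_
  refine Fintype.sum_equiv (Units.mulLeft e) _ _ fun s => ?_
  refine Fintype.sum_equiv (Units.mulLeft eK) _ _ fun u => ?_
  refine Fintype.sum_equiv (Units.mulLeft eK) _ _ fun v => ?_
  refine Fintype.sum_equiv (Units.mulLeft e) _ _ fun w => ?_
  simp only [Units.mulLeft_apply, Units.val_mul, eK, Units.val_mk0]
  rw [← hD.hu_Phi e r s u v w, hχ]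
  have h1 : (e : ↥(Fx Fr.φ)) * a * s = a * (e * s) := by ring
  have h2 : ((e : ↥(Fx Fr.φ)) : K) * b * u = b * (((e : ↥(Fx Fr.φ)) : K) * u) := by ring
  have h3 : ((e : ↥(Fx Fr.φ)) : K) * c * v = c * (((e : ↥(Fx Fr.φ)) : K) * v) := by ring
  have h4 : (e : ↥(Fx Fr.φ)) * d * w = d * (e * w) := by ring
  rw [h1, h2, h3, h4]

end main

end Cfsg.Agent.Lib.Helper8.TDM
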