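import Mathlib

/-! Farm TDM (S2342): a cubic form in more than three variables over a finite field has a
nontrivial zero (Chevalley–Warning). -/

set_option autoImplicit false
set_option linter.style.haveILetI false

namespace Cfsg.Agent.Lib.Helper8.TDM

open MvPolynomial

theorem exists_ne_zero_cubic {k : Type*} [Field k] [Fintype k] {n : ℕ} (hn : 3 < n)
    (c : Fin n → Fin n → Fin n → k) :
    ∃ v : Fin n → k, v ≠ 0 ∧ ∑ i, ∑ j, ∑ l, c i j l * v i * v j * v l = 0 := by
  classical
  obtain ⟨p, hp⟩ := CharP.exists k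
  haveI := hp
  haveI : Fact p.Prime := ⟨CharP.char_is_prime k p⟩
  let f : MvPolynomial (Fin n) k := ∑ i, ∑ j, ∑ l, C (c i j l) * X i * X j * X l
  have hdeg : f.totalDegree ≤ 3 := by
    refine (totalDegree_finsetSum_le fun i _ => ?_)
    refine (totalDegree_finsetSum_le fun j _ => ?_)
    refine (totalDegree_finsetSum_le fun l _ => ?_)
    refine (totalDegree_mul _ _).trans ?_
    have h1 := totalDegree_mul (C (c i j l) * X i) (X j : MvPolynomial (Fin n) k)
    have h2 := totalDegree_mul (C (c i j l)) (X i : MvPolynomial (Fin n) k)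
    have h3 : (C (c i j l) : MvPolynomial (Fin n) k).totalDegree = 0 := totalDegree_C _
    have h4 : ∀ m : Fin n, (X m : MvPolynomial (Fin n) k).totalDegree ≤ 1 := fun m =>
      (totalDegree_X m).le
    have := h4 i; have := h4 j; have := h4 l
    omega
  have hcw : p ∣ Fintype.card {x : Fin n → k // eval x f = 0} := by
    apply char_dvd_card_solutions p
    rw [Fintype.card_fin]; omega
  have h0 : eval (0 : Fin n → k) f = 0 := by
    simp [f]
  have hcard : 1 < Fintype.card {x : Fin n → k // eval x f = 0} := by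
    have hpos : 0 < Fintype.card {x : Fin n → k // eval x f = 0} :=
      Fintype.card_pos_iff.mpr ⟨⟨0, h0⟩⟩
    have hp2 : 2 ≤ p := (Fact.out : p.Prime).two_le
    have := Nat.le_of_dvd hpos hcw
    omega
  obtain ⟨a, b, hab⟩ := Fintype.one_lt_card_iff_nontrivial.mp hcard |>.exists_pair_ne
  have hev : ∀ x : Fin n → k, eval x f = ∑ i, ∑ j, ∑ l, c i j l * x i * x j * x l := by
    intro x
    simp [f]
  by_cases ha : (a : Fin n → k) = 0
  · refine ⟨b, ?_, ?_⟩
    · intro hb
      apply hab
      apply Subtype.ext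
      rw [ha, hb]
    · rw [← hev]; exact b.2
  · refine ⟨a, ha, ?_⟩
    rw [← hev]; exact a.2

end Cfsg.Agent.Lib.Helper8.TDM
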