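import Mathlib
import Cfsg.Agent.Lib.Helper5.FrobFix
import Cfsg.Agent.Lib.Helper8.TDMCW0

/-! Farm TDM (S2342): the twisted cubic form `a N(y) + Tr(b x y^q y^{q²}) + Tr(c x^q x^{q²} y) + d N(x)`
on `K × K`, `|K| = q³`, `a, d` in the fixed field of the `q`-power map, has a nontrivial zero
(Chevalley–Warning over the fixed field: a cubic form in six variables). -/

set_option autoImplicit false
set_option linter.style.haveILetI false
set_option linter.unusedSectionVars false
set_option linter.unusedVariables false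
set_option linter.unusedSimpArgs false

namespace Cfsg.Agent.Lib.Helper8.TDM

variable {K : Type*} [Field K]

/-- the trilinear polarisation of the cubic form -/
def triT (f : K →+* K) (a b c d : K) (v₁ v₂ v₃ : K × K) : K :=
  a * (v₁.2 * f v₂.2 * f (f v₃.2)) +
  (b * v₁.1 * f v₂.2 * f (f v₃.2) + f b * f v₂.1 * f (f v₃.2) * v₁.2 +
    f (f b) * f (f v₃.1) * v₁.2 * f v₂.2) +
  (c * f v₂.1 * f (f v₃.1) * v₁.2 + f c * f (f v₃.1) * v₁.1 * f v₂.2 +
    f (f c) * v₁.1 * f v₂.1 * f (f v₃.2)) +
  d * (v₁.1 * f v₂.1 * f (f v₃.1))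

variable (f : K →+* K)

/-- the fixed field of `f` -/
abbrev fixF : Subfield K := f.eqLocusField (RingHom.id K)

theorem mem_fixF (x : K) : x ∈ fixF f ↔ f x = x := Iff.rfl

theorem f_coe (t : fixF f) : f (t : K) = t := t.2

theorem triT_lin1 (a b c d : K) (w z : K × K) :
    IsLinearMap (fixF f) (fun v : K × K => triT f a b c d v w z) := by
  constructor
  · intro v v'
    simp only [triT, Prod.fst_add, Prod.snd_add, map_add]
    ring
  · intro t v
    simp only [triT, Prod.smul_fst, Prod.smul_snd, Subfield.smul_def, smul_eq_mul, map_mul, f_coe]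
    ring

theorem triT_lin2 (a b c d : K) (v z : K × K) :
    IsLinearMap (fixF f) (fun w : K × K => triT f a b c d v w z) := by
  constructor
  · intro w w'
    simp only [triT, Prod.fst_add, Prod.snd_add, map_add]
    ring
  · intro t w
    simp only [triT, Prod.smul_fst, Prod.smul_snd, Subfield.smul_def, smul_eq_mul, map_mul, f_coe]
    ring

theorem triT_lin3 (a b c d : K) (v w : K × K) :
    IsLinearMap (fixF f) (fun z : K × K => triT f a b c d v w z) := by
  constructor
  · intro z z'
    simp only [triT, Prod.fst_add, Prod.snd_add, map_add]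
    ring
  · intro t z
    simp only [triT, Prod.smul_fst, Prod.smul_snd, Subfield.smul_def, smul_eq_mul, map_mul, f_coe]
    ring

theorem triT_expand {n : ℕ} (a b c d : K) (u : Fin n → K × K) (r : Fin n → fixF f) :
    triT f a b c d (∑ i, r i • u i) (∑ i, r i • u i) (∑ i, r i • u i) =
      ∑ i, ∑ j, ∑ l, (r i * r j * r l) • triT f a b c d (u i) (u j) (u l) := by
  have e1 : ∀ w z : K × K, triT f a b c d (∑ i, r i • u i) w z =
      ∑ i, r i • triT f a b c d (u i) w z := by
    intro w z
    have := map_sum ((triT_lin1 f a b c d w z).mk' _) (fun i => r i • u i) Finset.univ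
    simp only [IsLinearMap.mk'_apply] at this
    rw [this]
    refine Finset.sum_congr rfl fun i _ => ?_
    exact (triT_lin1 f a b c d w z).map_smul _ _
  have e2 : ∀ v z : K × K, triT f a b c d v (∑ i, r i • u i) z =
      ∑ i, r i • triT f a b c d v (u i) z := by
    intro v z
    have := map_sum ((triT_lin2 f a b c d v z).mk' _) (fun i => r i • u i) Finset.univ
    simp only [IsLinearMap.mk'_apply] at this
    rw [this]
    refine Finset.sum_congr rfl fun i _ => ?_
    exact (triT_lin2 f a b c d v z).map_smul _ _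
  have e3 : ∀ v w : K × K, triT f a b c d v w (∑ i, r i • u i) =
      ∑ i, r i • triT f a b c d v w (u i) := by
    intro v w
    have := map_sum ((triT_lin3 f a b c d v w).mk' _) (fun i => r i • u i) Finset.univ
    simp only [IsLinearMap.mk'_apply] at this
    rw [this]
    refine Finset.sum_congr rfl fun i _ => ?_
    exact (triT_lin3 f a b c d v w).map_smul _ _
  rw [e1]
  refine Finset.sum_congr rfl fun i _ => ?_
  rw [e2, Finset.smul_sum]
  refine Finset.sum_congr rfl fun j _ => ?_
  rw [e3, Finset.smul_sum, Finset.smul_sum]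
  refine Finset.sum_congr rfl fun l _ => ?_
  rw [smul_smul, smul_smul]

theorem triT_fixed (hf3 : ∀ x, f (f (f x)) = x) (a b c d : K) (ha : f a = a) (hd : f d = d)
    (v : K × K) : f (triT f a b c d v v v) = triT f a b c d v v v := by
  simp only [triT, map_add, map_mul, hf3, ha, hd]
  ring

/-- **Chevalley–Warning for the twisted cubic form**: a nontrivial zero. -/
theorem exists_zero_cubic [Fintype K] (q : ℕ) (hq : IsPrimePow q) (hK : Fintype.card K = q ^ 3)
    (a b c d : K) (ha : a ^ q = a) (hd : d ^ q = d) :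
    ∃ x y : K, (x ≠ 0 ∨ y ≠ 0) ∧
      a * (y * y ^ q * y ^ (q ^ 2)) +
      (b * x * y ^ q * y ^ (q ^ 2) + b ^ q * x ^ q * y ^ (q ^ 2) * y +
        b ^ (q ^ 2) * x ^ (q ^ 2) * y * y ^ q) +
      (c * x ^ q * x ^ (q ^ 2) * y + c ^ q * x ^ (q ^ 2) * x * y ^ q +
        c ^ (q ^ 2) * x * x ^ q * y ^ (q ^ 2)) +
      d * (x * x ^ q * x ^ (q ^ 2)) = 0 := by
  classical
  obtain ⟨f, hf, hf3'⟩ := Cfsg.Agent.Lib.Helper5.FrobFix.exists_frob hq (by norm_num : 3 ≠ 0) hK
  have hf3 : ∀ x, f (f (f x)) = x := fun x => hf3' x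
  have hq2 : 2 ≤ q := hq.two_le
  haveI : Fintype (fixF f) := Fintype.ofFinite _
  have hcardk : Fintype.card (fixF f) = q := by
    have h1 := Cfsg.Agent.Lib.Helper5.FrobFix.card_fixed (K := K) hq2 hK
    rw [← Nat.card_eq_fintype_card, ← h1]
    apply Nat.card_congr
    exact Equiv.subtypeEquivRight (fun x => by rw [mem_fixF, hf])
  have hrank : Module.finrank (fixF f) K = 3 := by
    have h := Module.card_eq_pow_finrank (K := fixF f) (V := K)
    rw [hK, hcardk] at h
    exact (Nat.pow_right_injective hq2 h).symm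
  have hrank6 : Module.finrank (fixF f) (K × K) = 6 := by
    rw [Module.finrank_prod, hrank]
  let u := Module.finBasisOfFinrankEq (fixF f) (K × K) hrank6
  obtain ⟨ℓ, hℓ⟩ := LinearMap.exists_leftInverse_of_injective (Algebra.linearMap (fixF f) K) (by
    rw [LinearMap.ker_eq_bot]; exact (algebraMap (fixF f) K).injective)
  obtain ⟨r, hr0, hr⟩ := exists_ne_zero_cubic (k := fixF f) (n := 6) (by norm_num)
    (fun i j l => ℓ (triT f a b c d (u i) (u j) (u l)))
  have hv0 : (∑ i, r i • u i) ≠ 0 := by
    intro h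
    apply hr0
    have := (Fintype.linearIndependent_iff.mp u.linearIndependent) r h
    funext i; exact this i
  have hT : ℓ (triT f a b c d (∑ i, r i • u i) (∑ i, r i • u i) (∑ i, r i • u i)) = 0 := by
    rw [triT_expand, map_sum, ← hr]
    refine Finset.sum_congr rfl fun i _ => ?_
    rw [map_sum]
    refine Finset.sum_congr rfl fun j _ => ?_
    rw [map_sum]
    refine Finset.sum_congr rfl fun l _ => ?_
    rw [map_smul, smul_eq_mul]
    ring
  have hfix := triT_fixed f hf3 a b c d (by rw [hf, ha]) (by rw [hf, hd]) (∑ i, r i • u i)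
  have hzero : triT f a b c d (∑ i, r i • u i) (∑ i, r i • u i) (∑ i, r i • u i) = 0 := by
    have h1 := LinearMap.congr_fun hℓ
      (⟨triT f a b c d (∑ i, r i • u i) (∑ i, r i • u i) (∑ i, r i • u i), hfix⟩ : fixF f)
    rw [LinearMap.comp_apply, LinearMap.id_apply] at h1
    have h2 : (Algebra.linearMap (fixF f) K) (⟨triT f a b c d (∑ i, r i • u i) (∑ i, r i • u i)
        (∑ i, r i • u i), hfix⟩ : fixF f) =
        triT f a b c d (∑ i, r i • u i) (∑ i, r i • u i) (∑ i, r i • u i) := rfl
    rw [h2, hT] at h1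
    have := congrArg Subtype.val h1
    simpa using this.symm
  refine ⟨(∑ i, r i • u i).1, (∑ i, r i • u i).2, ?_, ?_⟩
  · by_contra h
    push Not at h
    exact hv0 (Prod.ext h.1 h.2)
  · have hff : ∀ x, f (f x) = x ^ (q ^ 2) := by
      intro x; rw [hf, hf, ← pow_mul, sq]
    have := hzero
    simp only [triT, hff] at this
    simp only [hf] at this
    rw [← this]

end Cfsg.Agent.Lib.Helper8.TDM
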