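import Mathlib
import Cfsg.Agent.Lib.Helper3.TDMDefs
import Cfsg.Agent.Lib.Helper8.TDMCW

/-! Farm TDM (S2342), unit CW in the shape of `Lib/Helper3/TDMStubs.lean`. -/

set_option autoImplicit false
set_option linter.unusedSectionVars false
set_option linter.unusedVariables false
set_option linter.unusedSimpArgs false

namespace Cfsg.Agent.Lib.Helper8.TDM

open Cfsg.Agent.Lib.Helper3.TDM

section field

variable {K : Type*} [Field K] [Fintype K] [DecidableEq K] (Fr : Frob3 K) [Fintype ↥(Fx Fr.φ)]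

theorem exists_pure_zero (hG : Fr.Good) (a d : ↥(Fx Fr.φ)) (b c : K) (hd : d ≠ 0) :
    ∃ t : K, a - Fr.tr3 (b * t) - Fr.tr3 (c * (t * Fr.φ t)) - d * Fr.nm3 t = 0 := by
  set q := Fintype.card ↥(Fx Fr.φ) with hqdef
  have hK : Fintype.card K = q ^ 3 := hG.card_K
  have hpow : ∀ z : K, z ^ q = Fr.φ z := fun z => (hG.pow z).symm
  have hpow2 : ∀ z : K, z ^ (q ^ 2) = Fr.φ (Fr.φ z) := by
    intro z; rw [← hpow, ← hpow, ← pow_mul, sq]
  have hq : IsPrimePow q := by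
    have h1 : IsPrimePow (Fintype.card K) := FiniteField.isPrimePow_card K
    rw [hK] at h1
    exact (isPrimePow_pow_iff (by norm_num : (3 : ℕ) ≠ 0)).mp h1
  have ha : (a : K) ^ q = a := by rw [hpow]; exact a.2
  have hdq : (-(d : K)) ^ q = -(d : K) := by rw [hpow, map_neg]; congr 1; exact d.2
  obtain ⟨x, y, hxy, h⟩ := exists_zero_cubic (K := K) q hq hK (-(d : K)) (-(Fr.φ c)) (-b) (a : K)
    hdq ha
  simp only [hpow2, hpow, map_neg, Fr.cube] at h
  have hd' : (d : K) ≠ 0 := fun h0 => hd (Subtype.ext h0)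
  have hx : x ≠ 0 := by
    intro hx0
    rw [hx0] at h
    simp only [map_zero, mul_zero, zero_mul, add_zero, neg_zero] at h
    have hy : y ≠ 0 := by
      rcases hxy with h1 | h1
      · exact absurd hx0 h1
      · exact h1
    have hy1 : Fr.φ y ≠ 0 := (map_ne_zero Fr.φ).mpr hy
    have hy2 : Fr.φ (Fr.φ y) ≠ 0 := (map_ne_zero Fr.φ).mpr hy1
    have : -(d : K) * (y * Fr.φ y * Fr.φ (Fr.φ y)) ≠ 0 :=
      mul_ne_zero (neg_ne_zero.mpr hd') (mul_ne_zero (mul_ne_zero hy hy1) hy2)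
    exact this h
  have hx1 : Fr.φ x ≠ 0 := (map_ne_zero Fr.φ).mpr hx
  have hx2 : Fr.φ (Fr.φ x) ≠ 0 := (map_ne_zero Fr.φ).mpr hx1
  refine ⟨y / x, ?_⟩
  apply Subtype.ext
  have hN : x * Fr.φ x * Fr.φ (Fr.φ x) ≠ 0 := mul_ne_zero (mul_ne_zero hx hx1) hx2
  have key : ((a - Fr.tr3 (b * (y / x)) - Fr.tr3 (c * (y / x * Fr.φ (y / x))) -
      d * Fr.nm3 (y / x) : ↥(Fx Fr.φ)) : K) * (x * Fr.φ x * Fr.φ (Fr.φ x)) = 0 := by
    rw [← h]
    simp only [Subfield.coe_sub, Subfield.coe_mul, Frob3.tr3_coe, Frob3.nm3_coe, map_mul, map_div₀,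
      Fr.cube, Fr.fix_coe]
    field_simp
    ring
  rcases mul_eq_zero.mp key with h1 | h1
  · simpa using h1
  · exact absurd h1 hN

end field

end Cfsg.Agent.Lib.Helper8.TDM
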