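import Mathlib
import Cfsg.Agent.Lib.Helper3.TDMDefs
import Cfsg.Agent.Lib.Helper4.TDMORTH
import Cfsg.Agent.Lib.Helper8.TDMCWv
import Cfsg.Agent.Lib.Helper8.TDMC2

/-! Farm TDM (S2342), unit P2: `dim C_V(Z X_{α+3β}) ≥ q - 1` when `Z` acts nontrivially on the
`Z X_{α+3β}`-fixed... more precisely when `fZ ≠ a00`.  Form with the statements of units C1 and P1 as
hypotheses. -/

set_option autoImplicit false
set_option linter.unusedSectionVars false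
set_option linter.unusedVariables false
set_option linter.unusedSimpArgs false

namespace Cfsg.Agent.Lib.Helper8.TDM

open Cfsg.Agent.Lib.Helper3.TDM

section main

variable {K : Type*} [Field K] [Fintype K] [DecidableEq K] {Fr : Frob3 K} [Fintype ↥(Fx Fr.φ)]
  {G : Type*} [Group G] (D : Data Fr G) (hD : Rel D) (hG : Fr.Good)
  (ψ : AddChar ↥(Fx Fr.φ) ℂ) (hψ : ψ ≠ 1)

/-- the hyperplane condition of the pure line with parameter `t` -/
def onPure (Fr : Frob3 K) (t : K) (m : ↥(Fx Fr.φ) × K × K × ↥(Fx Fr.φ)) : Prop :=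
  m.1 - Fr.tr3 (m.2.1 * t) - Fr.tr3 (m.2.2.1 * (t * Fr.φ t)) - m.2.2.2 * Fr.nm3 t = 0

theorem onPure_smul (t : K) (e : ↥(Fx Fr.φ)) (a : ↥(Fx Fr.φ)) (b c : K) (d : ↥(Fx Fr.φ))
    (h : onPure Fr t (a, b, c, d)) :
    onPure Fr t (e * a, (e : K) * b, (e : K) * c, e * d) := by
  unfold onPure at h ⊢
  simp only at h ⊢
  have h1 : (e : K) * b * t = (e : K) * (b * t) := by ring
  have h2 : (e : K) * c * (t * Fr.φ t) = (e : K) * (c * (t * Fr.φ t)) := by ring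
  rw [h1, h2, Cfsg.Agent.Lib.Helper4.TDM.tr3_smul, Cfsg.Agent.Lib.Helper4.TDM.tr3_smul]
  have : e * a - e * Fr.tr3 (b * t) - e * Fr.tr3 (c * (t * Fr.φ t)) - e * d * Fr.nm3 t =
      e * (a - Fr.tr3 (b * t) - Fr.tr3 (c * (t * Fr.φ t)) - d * Fr.nm3 t) := by ring
  rw [this, h, mul_zero]

include hD hG in
theorem a00_ge_of (χ : G → ℂ) (hχ : ∀ x y, χ (x * y * x⁻¹) = χ y)
    (hnat : ∀ (a : ↥(Fx Fr.φ)) (b c : K) (d : ↥(Fx Fr.φ)), ∃ n : ℕ, cM D ψ χ a b c d = n)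
    (hfZ : fZ D χ = ∑ a : ↥(Fx Fr.φ), ∑ b : K, ∑ c : K, ∑ d : ↥(Fx Fr.φ), cM D ψ χ a b c d)
    (ha00 : a00 D χ = ∑ a : ↥(Fx Fr.φ), ∑ b : K, ∑ c : K, ∑ d : ↥(Fx Fr.φ),
      if d = 0 then cM D ψ χ a b c d else 0)
    (hb00 : ∀ t : K, b00 D χ = ∑ a : ↥(Fx Fr.φ), ∑ b : K, ∑ c : K, ∑ d : ↥(Fx Fr.φ),
      if a - Fr.tr3 (b * t) - Fr.tr3 (c * (t * Fr.φ t)) - d * Fr.nm3 t = 0
        then cM D ψ χ a b c d else 0)
    (hab : a00 D χ = b00 D χ)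
    (h : fZ D χ - a00 D χ ≠ 0) :
    ∃ n : ℕ, a00 D χ = n ∧ Fintype.card ↥(Fx Fr.φ) - 1 ≤ n := by
  classical
  choose n hn using hnat
  -- a witness with `d ≠ 0`
  have hex : ∃ (a : ↥(Fx Fr.φ)) (b c : K) (d : ↥(Fx Fr.φ)), d ≠ 0 ∧ cM D ψ χ a b c d ≠ 0 := by
    by_contra hno
    push Not at hno
    apply h
    rw [hfZ, ha00, sub_eq_zero]
    refine Finset.sum_congr rfl fun a _ => Finset.sum_congr rfl fun b _ =>
      Finset.sum_congr rfl fun c _ => Finset.sum_congr rfl fun d _ => ?_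
    by_cases hd : d = 0
    · rw [if_pos hd]
    · rw [if_neg hd]; exact hno a b c d hd
  obtain ⟨a₀, b₀, c₀, d₀, hd₀, hc₀⟩ := hex
  have hn₀ : 1 ≤ n a₀ b₀ c₀ d₀ := by
    rcases Nat.eq_zero_or_pos (n a₀ b₀ c₀ d₀) with h0 | h0
    · exfalso; apply hc₀; rw [hn, h0, Nat.cast_zero]
    · exact h0
  obtain ⟨t, ht⟩ := exists_pure_zero Fr hG a₀ d₀ b₀ c₀ hd₀
  -- the count on the pure hyperplane
  let g : ↥(Fx Fr.φ) × K × K × ↥(Fx Fr.φ) → ℕ := fun m =>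
    if onPure Fr t m then n m.1 m.2.1 m.2.2.1 m.2.2.2 else 0
  have hb : b00 D χ = ((∑ m, g m : ℕ) : ℂ) := by
    rw [hb00 t, Fintype.sum_prod_type, Nat.cast_sum]
    refine Finset.sum_congr rfl fun a _ => ?_
    rw [Fintype.sum_prod_type, Nat.cast_sum]
    refine Finset.sum_congr rfl fun b _ => ?_
    rw [Fintype.sum_prod_type, Nat.cast_sum]
    refine Finset.sum_congr rfl fun c _ => ?_
    rw [Nat.cast_sum]
    refine Finset.sum_congr rfl fun d _ => ?_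
    simp only [g, onPure]
    by_cases hc : a - Fr.tr3 (b * t) - Fr.tr3 (c * (t * Fr.φ t)) - d * Fr.nm3 t = 0
    · simp only [hc, ↓reduceIte, hn]
    · simp only [hc, ↓reduceIte, Nat.cast_zero]
  refine ⟨∑ m, g m, by rw [hab, hb], ?_⟩
  -- the `q - 1` scalar multiples of the witness
  let ι : (↥(Fx Fr.φ))ˣ → ↥(Fx Fr.φ) × K × K × ↥(Fx Fr.φ) := fun e =>
    ((e : ↥(Fx Fr.φ)) * a₀, ((e : ↥(Fx Fr.φ)) : K) * b₀, ((e : ↥(Fx Fr.φ)) : K) * c₀,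
      (e : ↥(Fx Fr.φ)) * d₀)
  have hι : Function.Injective ι := by
    intro e e' hee
    have h4 : (e : ↥(Fx Fr.φ)) * d₀ = (e' : ↥(Fx Fr.φ)) * d₀ := by
      have := congrArg (fun m : ↥(Fx Fr.φ) × K × K × ↥(Fx Fr.φ) => m.2.2.2) hee
      exact this
    exact Units.ext (mul_right_cancel₀ hd₀ h4)
  have hgι : ∀ e, g (ι e) = n a₀ b₀ c₀ d₀ := by
    intro e
    have hp : onPure Fr t (ι e) := onPure_smul t e a₀ b₀ c₀ d₀ ht
    simp only [g, if_pos hp]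
    have h1 := cM_scalar D hD ψ χ hχ e a₀ b₀ c₀ d₀
    rw [hn, hn] at h1
    exact Nat.cast_injective h1
  calc Fintype.card ↥(Fx Fr.φ) - 1 = Fintype.card (↥(Fx Fr.φ))ˣ := (Fintype.card_units _).symm
    _ ≤ ∑ e : (↥(Fx Fr.φ))ˣ, g (ι e) := by
        rw [Finset.sum_congr rfl fun e _ => hgι e, Finset.sum_const, Finset.card_univ,
          smul_eq_mul]
        exact Nat.le_mul_of_pos_right _ hn₀
    _ = ∑ m ∈ Finset.univ.image ι, g m := (Finset.sum_image (fun x _ y _ hxy => hι hxy)).symm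
    _ ≤ ∑ m, g m := Finset.sum_le_sum_of_subset (Finset.subset_univ _)

end main

end Cfsg.Agent.Lib.Helper8.TDM
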