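import Mathlib
import Cfsg.Agent.Lib.Helper3.TGSDefs

/-! Farm TGS (S3161), unit U4: abelian groups with (H). -/

set_option autoImplicit false

namespace Cfsg.Agent.Lib.Helper8.TGSU4

open Cfsg.Agent.Lib.Helper3.TGSDefs

section

variable {F : Type} [Field F] [Fintype F] [CharP F 2] {mu : F}

/-- U4: abelian groups with (H): `Ω₁ = Fix α`, or elementary abelian and `≠ Fix α`. -/
theorem U4_abelian (hmu : ∀ x : F, x ≠ 0 → ∃ k : ℕ, x = mu ^ k)
    {B : Type*} [Group B] [Finite B] (h2 : IsPGroup 2 B) (hB : ∀ x y : B, x * y = y * x)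
    {α ρ : MulAut B} {ι : F → B} (h : Hyp mu α ρ ι) :
    (∀ b : B, b ^ 2 = 1 → α b = b) ∨ ((∀ b : B, b ^ 2 = 1) ∧ ∃ b, α b ≠ b) := by
  classical
  by_cases hall : ∀ b : B, b ^ 2 = 1 → α b = b
  · exact Or.inl hall
  right
  push Not at hall
  obtain ⟨t, ht2, htα⟩ := hall
  refine ⟨?_, ⟨t, htα⟩⟩
  -- basic facts on ι
  have hι0 : ι 0 = 1 := by
    have := h.iota_add 0 0
    rw [add_zero] at this
    exact (mul_eq_left.mp this.symm)
  have hιsq : ∀ a, ι a ^ 2 = 1 := by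
    intro a
    rw [pow_two, ← h.iota_add, CharTwo.add_self_eq_zero, hι0]
  -- the endomorphism N
  obtain ⟨N, hN⟩ : ∃ N : B → B, ∀ b, N b = b⁻¹ * α b := ⟨fun b => b⁻¹ * α b, fun _ => rfl⟩
  have hNmul : ∀ b c, N (b * c) = N b * N c := by
    intro b c
    simp only [hN, map_mul, mul_inv_rev]
    rw [hB c⁻¹ b⁻¹, mul_assoc, mul_assoc, ← mul_assoc c⁻¹, hB c⁻¹ (α b), mul_assoc]
  have hN1 : N 1 = 1 := by simp [hN]
  have hNone : ∀ b, N b = 1 ↔ α b = b := by
    intro b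
    rw [hN, inv_mul_eq_one, eq_comm]
  have hNpow : ∀ (b : B) (k : ℕ), N (b ^ k) = N b ^ k := by
    intro b k
    induction k with
    | zero => simp [hN1]
    | succ k ih => rw [pow_succ, hNmul, ih, pow_succ]
  have hαN : ∀ b, α (N b) = (N b)⁻¹ := by
    intro b
    simp only [hN, map_mul, map_inv, h.alpha_sq, mul_inv_rev, inv_inv]
  have hNN : ∀ b, N (N b) = ((N b) ^ 2)⁻¹ := by
    intro b
    rw [hN (N b), hαN, pow_two, mul_inv_rev]
  -- ρ^k commutes with α
  have hρα : ∀ (k : ℕ) (x : B), α ((ρ ^ k) x) = (ρ ^ k) (α x) := by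
    intro k
    induction k with
    | zero => intro x; simp
    | succ k ih =>
      intro x
      rw [pow_succ', MulAut.mul_apply, MulAut.mul_apply, h.comm, ih]
  have hρN : ∀ (k : ℕ) (x : B), N ((ρ ^ k) x) = (ρ ^ k) (N x) := by
    intro k x
    simp only [hN, map_mul, map_inv, hρα]
  have hριk : ∀ (k : ℕ) (a : F), (ρ ^ k) (ι a) = ι ((mu ^ 2) ^ k * a) := by
    intro k
    induction k with
    | zero => intro a; simp
    | succ k ih =>
      intro a
      rw [pow_succ', MulAut.mul_apply, ih, h.iota_rho, pow_succ']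
      congr 1; ring
  -- N t is a nontrivial element ι a₀
  have hNt1 : N t ≠ 1 := fun hh => htα ((hNone t).mp hh)
  have hNt2 : N t ^ 2 = 1 := by rw [← hNpow, ht2, hN1]
  have hNtfix : α (N t) = N t := by
    rw [← hNone, hNN, hNt2, inv_one]
  obtain ⟨a₀, ha₀⟩ := (h.iota_fix (N t)).mp hNtfix
  have ha₀0 : a₀ ≠ 0 := by
    rintro rfl
    rw [hι0] at ha₀
    exact hNt1 ha₀.symm
  have hgen := gen_sq hmu
  -- N maps the elements of order ≤ 2 onto range ι
  have honto : ∀ a : F, ∃ t' : B, t' ^ 2 = 1 ∧ N t' = ι a := by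
    intro a
    by_cases ha : a = 0
    · exact ⟨1, one_pow 2, by rw [hN1, ha, hι0]⟩
    · have hne : a / a₀ ≠ 0 := div_ne_zero ha ha₀0
      obtain ⟨k, hk⟩ := hgen _ hne
      refine ⟨(ρ ^ k) t, ?_, ?_⟩
      · rw [← map_pow, ht2, map_one]
      · rw [hρN, ← ha₀, hριk, ← hk, div_mul_cancel₀ a ha₀0]
  -- descent
  have hclaim : ∀ b : B, N b ^ 2 = 1 → b ^ 2 = 1 := by
    intro b hb
    have h1 : N (N b) = 1 := by rw [hNN, hb, inv_one]
    obtain ⟨a, ha⟩ := (h.iota_fix (N b)).mp ((hNone _).mp h1)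
    obtain ⟨t', ht', hNt'⟩ := honto a
    have h3 : N (b * t'⁻¹) = 1 := by
      have h4 : N t' * N t'⁻¹ = 1 := by rw [← hNmul, mul_inv_cancel, hN1]
      have h5 : N t'⁻¹ = (N t')⁻¹ := (inv_eq_of_mul_eq_one_right h4).symm
      rw [hNmul, h5, hNt', ha, mul_inv_cancel]
    obtain ⟨c, hc⟩ := (h.iota_fix _).mp ((hNone _).mp h3)
    have hb' : b = ι c * t' := by rw [hc, inv_mul_cancel_right]
    rw [hb', (show Commute (ι c) t' from hB _ _).mul_pow 2, hιsq, ht', one_mul]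
  have hind : ∀ (k : ℕ) (b : B), N b ^ (2 ^ k) = 1 → b ^ 2 = 1 := by
    intro k
    induction k with
    | zero =>
      intro b hb
      rw [pow_zero, pow_one] at hb
      obtain ⟨c, hc⟩ := (h.iota_fix _).mp ((hNone _).mp hb)
      rw [← hc]; exact hιsq c
    | succ k ih =>
      intro b hb
      apply hclaim
      apply ih
      rw [hNN, inv_pow, ← pow_mul, ← pow_succ', hb, inv_one]
  intro b
  obtain ⟨k, hk⟩ := h2 (N b)
  exact hind k b hk

end

end Cfsg.Agent.Lib.Helper8.TGSU4
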