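import Cfsg.Agent.Lib.Helper8.IcoG2

/-!
The centre of the reflection group of the icosian Leech lattice is `{1, -1}`, and the quotient
is isomorphic to the simple permutation group of degree 315.
-/

set_option maxRecDepth 100000

namespace Cfsg.Agent.Lib.Helper8.Ico

open Cfsg.Spor Quaternion IQ IQ3 Cfsg.Agent.Lib.Helper8.SS

theorem negP_eq_smul (x : icoLeech) :
    negP x = smulL (-1) (Subring.neg_mem _ (Subring.one_mem _)) x := by
  apply Subtype.ext
  rw [negP_apply, coe_smulL]
  funext t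
  rw [lsmul_apply, neg_one_mul]
  rfl

theorem neg_comm {g : Equiv.Perm icoLeech} (hg : IsLin g) : g * negP = negP * g := by
  apply Equiv.ext
  intro x
  rw [Equiv.Perm.mul_apply, Equiv.Perm.mul_apply, negP_eq_smul, hg.2.1, ← negP_eq_smul]

theorem negT_mem_center : negT ∈ Subgroup.center twoJ2 := by
  rw [Subgroup.mem_center_iff]
  intro g
  apply Subtype.ext
  exact neg_comm (twoJ2_le_Uni g.2)

theorem P12_ne : ∃ x < 315, get (J2L.pN 1) (get (J2L.pN 2) x) ≠ get (J2L.pN 2) (get (J2L.pN 1) x) := by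
  decide +kernel

theorem P12_not_comm : P 315 J2L.pN J2L.pM 1 * P 315 J2L.pN J2L.pM 2 ≠
    P 315 J2L.pN J2L.pM 2 * P 315 J2L.pN J2L.pM 1 := by
  intro h
  obtain ⟨x, hx, hne⟩ := P12_ne
  apply hne
  have h1 := congrArg (fun σ : Equiv.Perm (Fin 315) => (σ ⟨x, hx⟩).1) h
  simp only [Equiv.Perm.mul_apply] at h1
  rw [P_apply_val J2L.valid_all (by norm_num : 1 < 418),
    P_apply_val J2L.valid_all (by norm_num : 2 < 418),
    P_apply_val J2L.valid_all (by norm_num : 2 < 418),
    P_apply_val J2L.valid_all (by norm_num : 1 < 418)] at h1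
  exact h1

theorem P1_mem : P 315 J2L.pN J2L.pM 1 ∈ J2L.K := P_mem_grp (by decide)

theorem P2_mem : P 315 J2L.pN J2L.pM 2 ∈ J2L.K := P_mem_grp (by decide)

/-- two generators as elements of the group -/
noncomputable def kP1 : J2L.K := ⟨P 315 J2L.pN J2L.pM 1, P1_mem⟩

/-- two generators as elements of the group -/
noncomputable def kP2 : J2L.K := ⟨P 315 J2L.pN J2L.pM 2, P2_mem⟩

theorem kP1_val : kP1.1 = P 315 J2L.pN J2L.pM 1 := rfl

theorem kP2_val : kP2.1 = P 315 J2L.pN J2L.pM 2 := rfl

theorem kP_not_comm : kP1 * kP2 ≠ kP2 * kP1 := by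
  intro h
  have h1 := congrArg Subtype.val h
  rw [Subgroup.coe_mul, Subgroup.coe_mul, kP1_val, kP2_val] at h1
  exact P12_not_comm h1

theorem center_K : Subgroup.center J2L.K = ⊥ := by
  haveI := J2L.simple
  rcases (inferInstance : (Subgroup.center J2L.K).Normal).eq_bot_or_eq_top with h | h
  · exact h
  · exfalso
    have h1 : kP1 ∈ Subgroup.center J2L.K := by rw [h]; trivial
    rw [Subgroup.mem_center_iff] at h1
    exact kP_not_comm (h1 kP2).symm

theorem phi_mem_K (g : twoJ2) : phi g ∈ J2L.K := by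
  rw [← phi_range]
  exact ⟨g, rfl⟩

theorem center_eq : Subgroup.center twoJ2 = phi.ker := by
  apply le_antisymm
  · intro z hz
    rw [Subgroup.mem_center_iff] at hz
    have h1 : (⟨phi z, phi_mem_K z⟩ : J2L.K) ∈ Subgroup.center J2L.K := by
      rw [Subgroup.mem_center_iff]
      rintro ⟨σ, hσ⟩
      rw [← phi_range] at hσ
      obtain ⟨g, rfl⟩ := hσ
      apply Subtype.ext
      show phi g * phi z = phi z * phi g
      rw [← map_mul, ← map_mul, hz g]
    rw [center_K, Subgroup.mem_bot] at h1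
    rw [MonoidHom.mem_ker]
    exact congrArg Subtype.val h1
  · rw [phi_ker, Subgroup.zpowers_le]
    exact negT_mem_center

theorem card_center : Nat.card (Subgroup.center twoJ2) = 2 := by
  rw [center_eq, card_ker]

theorem card_J2 : Nat.card J2 = 604800 := by
  have h := Subgroup.card_eq_card_quotient_mul_card_subgroup (Subgroup.center twoJ2)
  rw [card_twoJ2, card_center] at h
  show Nat.card (twoJ2 ⧸ Subgroup.center twoJ2) = 604800
  omega

/-- the Hall–Janko group as a permutation group of degree 315 -/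
noncomputable def J2iso : J2 ≃* J2L.K :=
  (QuotientGroup.quotientMulEquivOfEq center_eq).trans
    ((QuotientGroup.quotientKerEquivRange phi).trans (MulEquiv.subgroupCongr phi_range))

theorem simple_J2 : IsSimpleGroup J2 := by
  haveI := J2L.simple
  exact J2iso.isSimpleGroup

theorem not_comm_J2 : ∃ a b : J2, a * b ≠ b * a := by
  refine ⟨J2iso.symm kP1, J2iso.symm kP2, ?_⟩
  intro h
  rw [← map_mul, ← map_mul] at h
  exact kP_not_comm (J2iso.symm.injective h)

/-- the reflection group is transitive on the reflections -/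
theorem refl_conj {f f' : Equiv.Perm icoLeech} (hf : IsIcoReflection f)
    (hf' : IsIcoReflection f') : ∃ g ∈ twoJ2, g * f * g⁻¹ = f' := by
  obtain ⟨k, rfl⟩ := refl_eq_tU hf
  obtain ⟨k', rfl⟩ := refl_eq_tU hf'
  haveI := J2L.prim.toIsPretransitive
  obtain ⟨σ, hσ⟩ := MulAction.exists_smul_eq J2L.K k k'
  have hm : σ.1 ∈ T4U.map piU := by rw [map_T4U]; exact σ.2
  obtain ⟨h, hh, e⟩ := hm
  have e2 : h • k = k' := by
    rw [← piU_apply, e]
    exact hσ
  refine ⟨h.1, twoJ2_eq.ge ⟨h, hh, rfl⟩, ?_⟩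
  exact congrArg Subtype.val (conj_tU e2)

end Cfsg.Agent.Lib.Helper8.Ico
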