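import Mathlib

/-! Generic lemmas: the action of a permutation group on a system of blocks, the sign of a product
of transpositions, and a recognition lemma for a subgroup of index two. -/

set_option autoImplicit false

namespace Cfsg.Agent.Lib.Helper8.HeSp

section BlockHom

variable {X Y : Type*} (c : X → Option Y)

/-- permutations of `X` that induce a permutation of the labels `Y` (points with label `none` stay
unlabelled) -/
def blockSubgroup : Subgroup (Equiv.Perm X) where
  carrier := {g | ∃ π : Equiv.Perm Y, ∀ x, c (g x) = (c x).map π}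
  one_mem' := ⟨1, fun x => by simp⟩
  mul_mem' := by
    rintro g h ⟨π, hπ⟩ ⟨ρ, hρ⟩
    refine ⟨π * ρ, fun x => ?_⟩
    rw [Equiv.Perm.mul_apply, hπ, hρ, Option.map_map]
    rfl
  inv_mem' := by
    rintro g ⟨π, hπ⟩
    refine ⟨π⁻¹, fun x => ?_⟩
    have h := hπ (g⁻¹ x)
    rw [show g (g⁻¹ x) = x from Equiv.apply_symm_apply g x] at h
    rw [h, Option.map_map]
    simp

theorem mem_blockSubgroup (g : Equiv.Perm X) :
    g ∈ blockSubgroup c ↔ ∃ π : Equiv.Perm Y, ∀ x, c (g x) = (c x).map π := Iff.rfl

theorem block_unique (hs : ∀ y, ∃ x, c x = some y) (g : Equiv.Perm X) (π ρ : Equiv.Perm Y)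
    (hπ : ∀ x, c (g x) = (c x).map π) (hρ : ∀ x, c (g x) = (c x).map ρ) : π = ρ := by
  ext y
  obtain ⟨x, hx⟩ := hs y
  have h1 := hπ x
  have h2 := hρ x
  rw [hx] at h1 h2
  rw [h1] at h2
  simpa using h2

/-- the induced permutation of the labels -/
noncomputable def blockHom (hs : ∀ y, ∃ x, c x = some y) : blockSubgroup c →* Equiv.Perm Y where
  toFun g := Classical.choose g.2
  map_one' := block_unique c hs 1 _ 1 (Classical.choose_spec (1 : blockSubgroup c).2)
    (fun x => by simp)
  map_mul' g h := block_unique c hs (g.1 * h.1) _ _ (Classical.choose_spec (g * h).2) (fun x => by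
    rw [Equiv.Perm.mul_apply, Classical.choose_spec g.2, Classical.choose_spec h.2, Option.map_map]
    rfl)

theorem blockHom_eq (hs : ∀ y, ∃ x, c x = some y) (g : blockSubgroup c) (π : Equiv.Perm Y)
    (h : ∀ x, c (g.1 x) = (c x).map π) : blockHom c hs g = π :=
  block_unique c hs g.1 _ _ (Classical.choose_spec g.2) h

end BlockHom

/-- the sign of a product of transpositions -/
theorem sign_swaps {n : ℕ} (l : List (Fin n × Fin n)) (h : ∀ p ∈ l, p.1 ≠ p.2) :
    Equiv.Perm.sign (l.map fun p => Equiv.swap p.1 p.2).prod = (-1) ^ l.length := by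
  induction l with
  | nil => simp
  | cons p l ih =>
    rw [List.map_cons, List.prod_cons, map_mul, Equiv.Perm.sign_swap (h p List.mem_cons_self),
      ih (fun q hq => h q (List.mem_cons_of_mem _ hq)), List.length_cons, pow_succ, mul_comm]

/-- the sign of an involution moving `2k` points, `k` odd -/
theorem sign_of_invol {n : ℕ} (σ : Equiv.Perm (Fin n)) (h2 : σ * σ = 1) (k : ℕ)
    (hs : σ.support.card = 2 * k) (hk : Odd k) : Equiv.Perm.sign σ = -1 := by
  have hne : σ ≠ 1 := by
    rintro rfl
    rw [Equiv.Perm.support_one, Finset.card_empty] at hs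
    obtain ⟨r, hr⟩ := hk
    omega
  have ho : orderOf σ = 2 := orderOf_eq_prime (by rw [pow_two]; exact h2) hne
  have hp : (orderOf σ).Prime := by rw [ho]; exact Nat.prime_two
  obtain ⟨r, hr⟩ := Equiv.Perm.cycleType_prime_order hp
  rw [ho] at hr
  have hsum := Equiv.Perm.sum_cycleType σ
  rw [hr, Multiset.sum_replicate, hs, smul_eq_mul] at hsum
  have hrk : r + 1 = k := by omega
  rw [Equiv.Perm.sign_of_cycleType', hr, Multiset.map_replicate, Multiset.prod_replicate, hrk]
  simp [hk.neg_one_pow]

/-- A subgroup of index two isomorphic to a given group `A`, from a permutation action of `U` whose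
image contains a faithful copy of `A` generated by even permutations, together with an odd element. -/
theorem index_two_iso {U A Y : Type*} [Group U] [Finite U] [Group A] [Fintype Y] [DecidableEq Y]
    (m : ℕ) (hm : 0 < m) (hU : Nat.card U = 2 * m) (hA : Nat.card A = m)
    (τ : U →* Equiv.Perm Y) (ρ : A →* Equiv.Perm Y) (hρ : Function.Injective ρ)
    (S : Set A) (hS : Subgroup.closure S = ⊤)
    (hmatch : ∀ a ∈ S, ∃ n : U, τ n = ρ a ∧ Equiv.Perm.sign (τ n) = 1)
    (hodd : ∃ s : U, Equiv.Perm.sign (τ s) = -1) :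
    ∃ N : Subgroup U, N.index = 2 ∧ Nonempty (N ≃* A) := by
  classical
  let χ : U →* ℤˣ := Equiv.Perm.sign.comp τ
  have hAfin : Finite A := Nat.finite_of_card_ne_zero (by omega)
  have hidx : χ.ker.index = 2 := by
    rw [Subgroup.index_ker]
    have htop : χ.range = ⊤ := by
      rw [eq_top_iff]
      intro x _
      rcases Int.units_eq_one_or x with rfl | rfl
      · exact one_mem _
      · obtain ⟨s, hs⟩ := hodd
        exact ⟨s, hs⟩
    rw [htop, Subgroup.card_top]
    simp
  refine ⟨χ.ker, hidx, ?_⟩
  have hN : Nat.card χ.ker = m := by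
    have := χ.ker.card_mul_index
    rw [hidx, hU] at this
    omega
  let τN : χ.ker →* Equiv.Perm Y := τ.comp χ.ker.subtype
  have hle : ρ.range ≤ τN.range := by
    rw [MonoidHom.range_eq_map, ← hS, MonoidHom.map_closure, Subgroup.closure_le]
    rintro _ ⟨a, ha, rfl⟩
    obtain ⟨n, hn1, hn2⟩ := hmatch a ha
    have hnk : n ∈ χ.ker := by
      rw [MonoidHom.mem_ker]
      exact hn2
    exact ⟨⟨n, hnk⟩, hn1⟩
  have hcρ : Nat.card ρ.range = m := by
    rw [← hA]
    exact (Nat.card_congr (MonoidHom.ofInjective hρ).toEquiv).symm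
  have hcτ : Nat.card τN.range ≤ m := by
    rw [← hN]
    exact Nat.card_le_card_of_surjective τN.rangeRestrict τN.rangeRestrict_surjective
  have heq : ρ.range = τN.range := Subgroup.eq_of_le_of_card_ge hle (by rw [hcρ]; exact hcτ)
  have hbij : Function.Bijective τN.rangeRestrict :=
    Function.Surjective.bijective_of_nat_card_le τN.rangeRestrict_surjective
      (by rw [hN, ← heq, hcρ])
  exact ⟨(MulEquiv.ofBijective τN.rangeRestrict hbij).trans
    ((MulEquiv.subgroupCongr heq.symm).trans (MonoidHom.ofInjective hρ).symm)⟩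

end Cfsg.Agent.Lib.Helper8.HeSp
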