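import Cfsg.Agent.Lib.Helper8.G2SP
import Cfsg.Agent.Lib.Helper8.G2SD
import Cfsg.Agent.Lib.Helper8.HeSpB
import Cfsg.Agent.Lib.Helper5.ChevXGL
import Cfsg.Agent.S1055
import Cfsg.Agent.S1059

/-! The subgroup generated by `a, …, f` in the presented sporadic Suzuki group is isomorphic to the
Chevalley group of type `G₂` over the field with four elements. -/

set_option autoImplicit false

namespace Cfsg.Agent.Lib.Helper8.G2S

open Cfsg.Spor Cfsg.Agent.Lib.Helper4.TC Cfsg.Agent.Lib.Helper4.TCD Cfsg.Agent.Lib.Helper4.TC.Log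
open Cfsg.Agent.Lib.Helper8.HeSp (blockSubgroup blockHom blockHom_eq K4)
open Cfsg.Lie Cfsg.Agent.Lib.Helper5.ChevStruct

set_option maxRecDepth 100000

/-- the subgroup of index 1782 -/
abbrev HS : Subgroup PSuz.P.Grp := Inst.subG PSuz.P Suz1.subs

/-- the label of a natural number -/
def cN (n : ℕ) : Option (Fin 1365) :=
  if h : 417 ≤ n ∧ n < 1782 then some ⟨n - 417, by omega⟩ else none

/-- the point of a table index -/
def cB (x : Fin Suz1.T.N) : Option (Fin 1365) := cN x.1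

theorem cB_surj : ∀ y : Fin 1365, ∃ x, cB x = some y := by
  intro y
  have hy := y.2
  refine ⟨⟨y.1 + 417, by show y.1 + 417 < 1782; omega⟩, ?_⟩
  show cN (y.1 + 417) = some y
  unfold cN
  rw [dif_pos (show 417 ≤ y.1 + 417 ∧ y.1 + 417 < 1782 from ⟨by omega, by omega⟩)]
  congr 1

theorem cN_resp (k : Fin 6) (i : ℕ) (hi : i < 1782) :
    cN (Tab.act Suz1.T Suz1.D [k.1] i) = (cN i).map (pi k) := by
  unfold cN
  by_cases h : 417 ≤ i
  · have h' := c_resp k i h hi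
    have hb : pT k.1 (i - 417) < 1365 := (p_ok k ⟨i - 417, by omega⟩).1
    have h2 : 417 ≤ Tab.act Suz1.T Suz1.D [k.1] i ∧ Tab.act Suz1.T Suz1.D [k.1] i < 1782 := by
      rw [h']
      omega
    rw [dif_pos h2, dif_pos (show 417 ≤ i ∧ i < 1782 from ⟨h, hi⟩), Option.map_some]
    congr 1
    apply Fin.ext
    show Tab.act Suz1.T Suz1.D [k.1] i - 417 = pT k.1 (i - 417)
    omega
  · have h' := c_low k i (by omega)
    have h2 : ¬ (417 ≤ Tab.act Suz1.T Suz1.D [k.1] i ∧ Tab.act Suz1.T Suz1.D [k.1] i < 1782) := by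
      omega
    rw [dif_neg h2, dif_neg (show ¬ (417 ≤ i ∧ i < 1782) by omega), Option.map_none]

theorem phi_word' (u : List ℕ) (hu : ∀ y ∈ u, y < 7) (x : Fin Suz1.T.N) :
    (Suz1.inst.phi (wordP PSuz.P.gR u) x).1 = Tab.act Suz1.T Suz1.D u x.1 := by
  rw [← Suz1.inst.gE_word u hu]
  exact Suz1.inst.hC.phi_word Suz1.inst.phi Suz1.inst.hphi u
    (fun y hy => by rw [Suz1.inst.hk]; exact hu y hy) x

theorem resp (k : Fin 6) (x : Fin Suz1.T.N) :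
    cB (Suz1.inst.phi (wordP PSuz.P.gR [k.1]) x) = (cB x).map (pi k) := by
  show cN (Suz1.inst.phi (wordP PSuz.P.gR [k.1]) x).1 = (cN x.1).map (pi k)
  rw [phi_word' _ (by intro y hy; rw [List.mem_singleton] at hy; omega)]
  exact cN_resp k x.1 x.2

theorem subs_cover : ∀ u ∈ Suz1.subs, ∃ k : Fin 6, u = [k.1] := by decide

theorem subs_mem : ∀ k : Fin 6, [k.1] ∈ Suz1.subs := by decide

theorem hmem (u : HS) : Suz1.inst.phi u.1 ∈ blockSubgroup cB := by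
  have h : HS ≤ (blockSubgroup cB).comap Suz1.inst.phi := by
    unfold HS Inst.subG
    rw [Subgroup.closure_le]
    rintro s ⟨u, hu, rfl⟩
    obtain ⟨k, rfl⟩ := subs_cover u hu
    exact ⟨pi k, resp k⟩
  exact h u.2

/-- the action of the subgroup on the 1365 points -/
noncomputable def tau : HS →* Equiv.Perm (Fin 1365) :=
  (blockHom cB cB_surj).comp
    ((Suz1.inst.phi.comp HS.subtype).codRestrict (blockSubgroup cB) hmem)

/-- the generators of the subgroup -/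
noncomputable def uE (k : Fin 6) : HS :=
  ⟨wordP PSuz.P.gR [k.1], Subgroup.subset_closure ⟨[k.1], subs_mem k, rfl⟩⟩

theorem tau_uE (k : Fin 6) : tau (uE k) = pi k :=
  blockHom_eq cB cB_surj _ (pi k) (resp k)

/-! ### words -/

/-- the permutation of a letter -/
def piN (k : ℕ) : Equiv.Perm (Fin 1365) := if h : k < 6 then pi ⟨k, h⟩ else 1

/-- the element of a letter -/
noncomputable def uEN (k : ℕ) : HS := if h : k < 6 then uE ⟨k, h⟩ else 1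

theorem tau_uEN (k : ℕ) : tau (uEN k) = piN k := by
  unfold uEN piN
  by_cases h : k < 6
  · rw [dif_pos h, dif_pos h, tau_uE]
  · rw [dif_neg h, dif_neg h, map_one]

theorem tau_word (w : List ℕ) : tau (w.map uEN).prod = (w.map piN).prod := by
  rw [map_list_prod, List.map_map]
  congr 1
  apply List.map_congr_left
  intro k _
  exact tau_uEN k

/-- the action of a word on the 1365 points -/
def wordPerm (w : List ℕ) (j : ℕ) : ℕ :=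
  @List.rec ℕ (fun _ => ℕ) j (fun k _ ih => pT k ih) w

theorem wordPerm_cons (k : ℕ) (w : List ℕ) (j : ℕ) : wordPerm (k :: w) j = pT k (wordPerm w j) := rfl

theorem prod_piN (w : List ℕ) (hw : ∀ k ∈ w, k < 6) (j : Fin 1365) :
    ((w.map piN).prod j).1 = wordPerm w j.1 := by
  induction w with
  | nil => rfl
  | cons k w ih =>
    have hk : k < 6 := hw k List.mem_cons_self
    rw [List.map_cons, List.prod_cons, Equiv.Perm.mul_apply, wordPerm_cons,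
      ← ih (fun k' hk' => hw k' (List.mem_cons_of_mem _ hk'))]
    unfold piN
    rw [dif_pos hk]
    rfl

/-- words in the generators for the root elements -/
def WdL : List (List ℕ) := [[],
  [5, 0, 1, 0, 1, 0, 5],
  [1, 0, 1, 0, 1, 0, 1],
  [1, 5, 1, 0, 1, 0, 1, 0, 1, 5, 1],
  [],
  [5, 1, 2, 0, 1, 5, 4, 0, 1, 2, 3, 2, 1, 0, 1, 2, 3, 2, 1, 0, 4, 5, 1, 0, 2, 1, 5],
  [1, 2, 0, 1, 5, 4, 1, 0, 1, 2, 3, 2, 1, 0, 1, 2, 3, 2, 1, 0, 1, 4, 5, 1, 0, 2, 1],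
  [2, 0, 1, 5, 4, 0, 1, 2, 3, 2, 1, 0, 1, 2, 3, 2, 1, 0, 4, 5, 1, 0, 2],
  [],
  [2, 1, 5, 1, 2, 3, 4, 3, 0, 1, 2, 3, 2, 1, 0, 3, 4, 3, 2, 1, 5, 1, 2],
  [2, 1, 5, 2, 3, 4, 3, 1, 0, 1, 2, 3, 2, 1, 0, 1, 3, 4, 3, 2, 5, 1, 2],
  [2, 1, 5, 3, 4, 3, 0, 1, 2, 3, 2, 1, 0, 3, 4, 3, 5, 1, 2],
  [],
  [4, 3, 2, 1, 5, 3, 4, 0, 1, 2, 3, 2, 1, 0, 4, 3, 5, 1, 2, 3, 4],
  [4, 3, 2, 1, 5, 1, 2, 3, 4, 0, 1, 2, 3, 2, 1, 0, 4, 3, 2, 1, 5, 1, 2, 3, 4],
  [4, 3, 2, 1, 5, 2, 3, 4, 1, 0, 1, 2, 3, 2, 1, 0, 1, 4, 3, 2, 5, 1, 2, 3, 4],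
  [],
  [4, 2, 3, 1, 0, 1, 2, 3, 4, 0, 1, 2, 3, 2, 1, 0, 4, 3, 2, 1, 0, 1, 3, 2, 4],
  [4, 2, 3, 1, 2, 3, 4, 0, 1, 0, 1, 2, 3, 2, 1, 0, 1, 0, 4, 3, 2, 1, 3, 2, 4],
  [3],
  [],
  [2, 3, 1, 2, 0, 1, 5, 0, 1, 2, 3, 2, 1, 0, 1, 2, 3, 2, 1, 0, 5, 1, 0, 2, 1, 3, 2],
  [3, 1, 2, 0, 1, 5, 1, 0, 1, 2, 3, 2, 1, 0, 1, 2, 3, 2, 1, 0, 1, 5, 1, 0, 2, 1, 3],
  [3, 2, 0, 1, 5, 0, 1, 2, 3, 2, 1, 0, 1, 2, 3, 2, 1, 0, 5, 1, 0, 2, 3],
  [],
  [2, 1, 0, 1, 5, 4, 3, 1, 2, 0, 1, 0, 1, 0, 2, 1, 3, 4, 5, 1, 0, 1, 2],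
  [2, 1, 5, 4, 3, 0, 1, 2, 1, 0, 1, 0, 1, 0, 1, 2, 1, 0, 3, 4, 5, 1, 2],
  [4, 2, 3, 1, 2, 0, 1, 5, 1, 2, 1, 0, 1, 0, 1, 0, 1, 2, 1, 5, 1, 0, 2, 1, 3, 2, 4],
  [],
  [3, 2, 3, 1, 2, 3, 4, 0, 1, 0, 1, 2, 3, 2, 1, 0, 1, 0, 4, 3, 2, 1, 3, 2, 3],
  [3, 4, 3, 4, 3],
  [3, 2, 3, 1, 0, 1, 2, 3, 4, 0, 1, 2, 3, 2, 1, 0, 4, 3, 2, 1, 0, 1, 3, 2, 3],
  [],
  [1, 2, 0, 1, 5, 1, 2, 3, 4, 3, 1, 0, 1, 2, 3, 2, 1, 0, 1, 3, 4, 3, 2, 1, 5, 1, 0, 2, 1],
  [4, 1, 2, 3, 2, 1, 5, 4, 0, 1, 2, 3, 2, 1, 0, 4, 5, 1, 2, 3, 2, 1, 4],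
  [1, 2, 0, 1, 5, 2, 3, 4, 3, 0, 1, 2, 3, 2, 1, 0, 3, 4, 3, 2, 5, 1, 0, 2, 1],
  [],
  [4, 3, 1, 2, 0, 1, 5, 2, 3, 4, 0, 1, 2, 3, 2, 1, 0, 4, 3, 2, 5, 1, 0, 2, 1, 3, 4],
  [4, 3, 1, 2, 0, 1, 5, 1, 2, 3, 4, 1, 0, 1, 2, 3, 2, 1, 0, 1, 4, 3, 2, 1, 5, 1, 0, 2, 1, 3, 4],
  [4, 3, 1, 2, 3, 2, 1, 5, 4, 0, 1, 2, 3, 2, 1, 0, 4, 5, 1, 2, 3, 2, 1, 3, 4],
  [],
  [3, 2, 1, 0, 1, 5, 3, 1, 2, 0, 1, 0, 1, 0, 2, 1, 3, 5, 1, 0, 1, 2, 3],
  [3, 2, 1, 5, 3, 0, 1, 2, 1, 0, 1, 0, 1, 0, 1, 2, 1, 0, 3, 5, 1, 2, 3],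
  [3, 2, 3, 1, 2, 0, 1, 5, 1, 2, 1, 0, 1, 0, 1, 0, 1, 2, 1, 5, 1, 0, 2, 1, 3, 2, 3],
  [],
  [1, 0, 1, 5, 0, 1, 0, 1, 0, 5, 1, 0, 1],
  [0],
  [1, 5, 0, 1, 0, 1, 0, 1, 0, 1, 0, 5, 1]]

/-- the word of the `r`-th root element with parameter `t` -/
def Wd (r : ℕ) (t : K4) : List ℕ := WdL.getD (4 * r + t.enc) []

theorem WdL_ok : ∀ w ∈ WdL, ∀ k ∈ w, k < 6 := by decide

theorem Wd_ok (r : ℕ) (hr : r < 12) (t : K4) : ∀ k ∈ Wd r t, k < 6 := by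
  apply WdL_ok
  unfold Wd
  have h : 4 * r + t.enc < WdL.length := by
    have := enc_lt t
    show 4 * r + t.enc < 48
    omega
  rw [List.getD_eq_getElem _ _ h]
  exact List.getElem_mem h

theorem w_ok_0 : ∀ t : K4, allR (fun j => Nat.beq (wordPerm (Wd 0 t) j) (PT 0 t j)) 1365 = true := by decide +kernel
theorem w_ok_1 : ∀ t : K4, allR (fun j => Nat.beq (wordPerm (Wd 1 t) j) (PT 1 t j)) 1365 = true := by decide +kernel
theorem w_ok_2 : ∀ t : K4, allR (fun j => Nat.beq (wordPerm (Wd 2 t) j) (PT 2 t j)) 1365 = true := by decide +kernel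
theorem w_ok_3 : ∀ t : K4, allR (fun j => Nat.beq (wordPerm (Wd 3 t) j) (PT 3 t j)) 1365 = true := by decide +kernel
theorem w_ok_4 : ∀ t : K4, allR (fun j => Nat.beq (wordPerm (Wd 4 t) j) (PT 4 t j)) 1365 = true := by decide +kernel
theorem w_ok_5 : ∀ t : K4, allR (fun j => Nat.beq (wordPerm (Wd 5 t) j) (PT 5 t j)) 1365 = true := by decide +kernel
theorem w_ok_6 : ∀ t : K4, allR (fun j => Nat.beq (wordPerm (Wd 6 t) j) (PT 6 t j)) 1365 = true := by decide +kernel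
theorem w_ok_7 : ∀ t : K4, allR (fun j => Nat.beq (wordPerm (Wd 7 t) j) (PT 7 t j)) 1365 = true := by decide +kernel
theorem w_ok_8 : ∀ t : K4, allR (fun j => Nat.beq (wordPerm (Wd 8 t) j) (PT 8 t j)) 1365 = true := by decide +kernel
theorem w_ok_9 : ∀ t : K4, allR (fun j => Nat.beq (wordPerm (Wd 9 t) j) (PT 9 t j)) 1365 = true := by decide +kernel
theorem w_ok_10 : ∀ t : K4, allR (fun j => Nat.beq (wordPerm (Wd 10 t) j) (PT 10 t j)) 1365 = true := by decide +kernel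
theorem w_ok_11 : ∀ t : K4, allR (fun j => Nat.beq (wordPerm (Wd 11 t) j) (PT 11 t j)) 1365 = true := by decide +kernel

theorem w_ok (r : ℕ) (hr : r < 12) (t : K4) (j : Fin 1365) : wordPerm (Wd r t) j.1 = PT r t j.1 := by
  have h : allR (fun j => Nat.beq (wordPerm (Wd r t) j) (PT r t j)) 1365 = true := by
    interval_cases r
    · exact w_ok_0 t
    · exact w_ok_1 t
    · exact w_ok_2 t
    · exact w_ok_3 t
    · exact w_ok_4 t
    · exact w_ok_5 t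
    · exact w_ok_6 t
    · exact w_ok_7 t
    · exact w_ok_8 t
    · exact w_ok_9 t
    · exact w_ok_10 t
    · exact w_ok_11 t
  exact Nat.eq_of_beq_eq_true (allR_spec _ _ h j.1 j.2)

/-! ### the two actions have the same image -/

theorem gen_in_range (g : LS) (r : Fin chevG2.nroots) (t : K4)
    (hg : (g.1 : Matrix chevG2.Idx chevG2.Idx K4) = chevG2.xMat K4 r t) : rhoL g ∈ tau.range := by
  refine ⟨((Wd r.1 t).map uEN).prod, ?_⟩
  rw [tau_word]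
  apply Equiv.ext
  intro j
  apply Fin.ext
  rw [prod_piN _ (Wd_ok r.1 r.2 t), rhoL_gen g r t hg j]
  exact w_ok r.1 r.2 t j

theorem range_le : rhoG.range ≤ tau.range := by
  rintro _ ⟨⟨g, hg⟩, rfl⟩
  have key : chevG2.group K4 ≤ (tau.range.comap rhoL).map LS.subtype := by
    unfold ChevalleyDatum.group
    rw [Subgroup.closure_le]
    rintro g ⟨r, t, hgrt⟩
    exact ⟨⟨g, gen_mem g r t hgrt⟩, gen_in_range _ r t hgrt, rfl⟩
  obtain ⟨y, hy, hyg⟩ := key hg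
  have e : y = ⟨g, group_le hg⟩ := Subtype.ext hyg
  rw [e] at hy
  exact hy

theorem seven : chevG2 ∈ Seven := by simp [Seven]

/-- a root element -/
noncomputable def g11 : ↥(chevG2.group K4) := ⟨xGL chevG2 seven 11 1, xGL_mem_group chevG2 seven 11 1⟩

theorem g11_val : ((g11.1 : GL chevG2.Idx K4) : Matrix chevG2.Idx chevG2.Idx K4) =
    chevG2.xMat K4 ⟨11, by decide⟩ 1 := by
  show chevG2.x K4 11 1 = _
  unfold ChevalleyDatum.x
  rw [dif_pos (show 11 < chevG2.nroots by decide)]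

theorem PT_ne : PT 11 1 1 ≠ 1 := by decide +kernel

theorem rhoG_inj : Function.Injective rhoG := by
  have hs := (Cfsg.Agent.S1055.result (F := K4) ⟨K4.n2, by decide, by decide⟩).1
  rw [← MonoidHom.ker_eq_bot_iff]
  rcases hs.eq_bot_or_eq_top_of_normal rhoG.ker inferInstance with h | h
  · exact h
  · exfalso
    have h1 : g11 ∈ rhoG.ker := by rw [h]; trivial
    have h2 : rhoG g11 = 1 := h1
    have h3 := rhoL_gen ⟨g11.1, group_le g11.2⟩ ⟨11, by decide⟩ 1 g11_val ⟨1, by decide⟩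
    rw [← rhoG_apply, h2] at h3
    have h4 := congrArg Fin.val h3
    exact PT_ne h4.symm

theorem card_G : Nat.card ↥(chevG2.group K4) = 251596800 := by
  exact (Cfsg.Agent.S1059.result (F := K4) (q := 4) K4.card_eq).trans (by norm_num)

theorem card_HS (hcard : Nat.card PSuz.P.Grp = 448345497600) : Nat.card HS = 251596800 := by
  have := HS.index_mul_card
  rw [Suz1.index_eq, hcard] at this
  omega

/-- the subgroup of index 1782 is isomorphic to `G₂(4)` -/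
theorem iso (hfin : Finite PSuz.P.Grp) (hcard : Nat.card PSuz.P.Grp = 448345497600) :
    Nonempty (HS ≃* ↥(chevG2.group K4)) := by
  haveI : Finite (GL chevG2.Idx K4) := inferInstance
  exact iso_of_range_le' 251596800 (card_HS hcard) card_G tau rhoG rhoG_inj range_le

theorem HS_eq :
    ((Subgroup.closure ({Suz.a, Suz.b, Suz.c, Suz.d, Suz.e, Suz.f} :
        Set (FreeGroup Suz.Gen))).map (PresentedGroup.mk PSuz.P.rels) : Subgroup PSuz.P.Grp) =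
      HS := by
  rw [MonoidHom.map_closure]
  unfold HS Inst.subG
  congr 1
  ext x
  simp only [Set.image_insert_eq, Set.image_singleton, Set.mem_insert_iff, Set.mem_singleton_iff,
    Suz1.subs, List.mem_cons, List.not_mem_nil, or_false, exists_eq_or_imp, exists_eq_left,
    Log.wordP_cons, Log.wordP_nil, mul_one]
  rfl

end Cfsg.Agent.Lib.Helper8.G2S
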