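import Cfsg.Agent.Lib.Helper8.J3l

set_option autoImplicit false

set_option linter.unusedVariables false
set_option linter.unusedSectionVars false
set_option linter.style.haveILetI false

/-! The triple cover of J3: the centre has order 3 and the central quotient is simple. -/

namespace Cfsg.Agent.Lib.Helper8.J3H

variable {F : Type*} [Field F] [Fintype F]

/-- the abstract form of the result, with the normal subgroups -/
theorem j3_abs' (hF : Fintype.card F = 4) (ω : F) (hω : ω ^ 2 + ω + 1 = 0) (hω1 : ω ≠ 1)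
    (G : Subgroup (Matrix.GeneralLinearGroup J9 F)) (a b Om ξ : Matrix.GeneralLinearGroup J9 F)
    (hcard : Nat.card G = 150698880)
    (hgen2 : ∀ M : Subgroup (Matrix.GeneralLinearGroup J9 F), a ∈ M → b ∈ M → G ≤ M)
    (haG : a ∈ G) (hconj : ∃ c ∈ G, b = c * a * c⁻¹) (ha19 : a ^ 19 = 1)
    (hA1 : IsUnit ((a : Matrix J9 J9 F) - 1))
    (hOm : (Om : Matrix J9 J9 F) = ω • (1 : Matrix J9 J9 F)) (hOmG : Om ∈ G)
    (hξ3 : ξ ^ 3 = Om)
    (hξc : ∀ c : Matrix.GeneralLinearGroup J9 F, c * a = a * c → c * ξ = ξ * c) (hξG : ξ ∉ G) :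
    Nat.card (Subgroup.center G) = 3 ∧ IsSimpleGroup (G ⧸ Subgroup.center G) ∧
      ∀ N : Subgroup G, N.Normal → N = ⊤ ∨ N ≤ Subgroup.center G := by
  haveI : Finite G := Nat.finite_of_card_ne_zero (by rw [hcard]; norm_num)
  have hO3 : Om ^ 3 = 1 := Om_cube hF ω hω a ha19 hA1 Om hOm
  have ha19' : (⟨a, haG⟩ : G) ^ 19 = 1 := by
    apply Subtype.ext
    rw [Subgroup.coe_pow]
    exact ha19
  have hgen : Subgroup.normalClosure {(⟨a, haG⟩ : G)} = ⊤ := by
    rw [eq_top_iff]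
    intro x _
    have hle : G ≤ (Subgroup.normalClosure {(⟨a, haG⟩ : G)}).map G.subtype := by
      apply hgen2
      · exact ⟨⟨a, haG⟩, Subgroup.subset_normalClosure (Set.mem_singleton _), rfl⟩
      · obtain ⟨c, hc, e⟩ := hconj
        have h1 : (⟨c, hc⟩ : G) * ⟨a, haG⟩ * (⟨c, hc⟩ : G)⁻¹ ∈
            Subgroup.normalClosure {(⟨a, haG⟩ : G)} :=
          Subgroup.normalClosure_normal.conj_mem _
            (Subgroup.subset_normalClosure (Set.mem_singleton _)) _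
        exact Subgroup.mem_map.mpr ⟨_, h1, e.symm⟩
    obtain ⟨y, hy, e⟩ := hle x.2
    have : y = x := Subtype.ext e
    rw [← this]
    exact hy
  have hZc : Subgroup.zpowers (⟨Om, hOmG⟩ : G) ≤ Subgroup.center G := by
    rw [Subgroup.zpowers_le, Subgroup.mem_center_iff]
    intro g
    apply Subtype.ext
    apply Units.ext
    show (g.1 * Om : Matrix.GeneralLinearGroup J9 F).val = (Om * g.1 : Matrix.GeneralLinearGroup J9 F).val
    rw [Units.val_mul, Units.val_mul, hOm, mul_smul_comm, smul_mul_assoc, mul_one, one_mul]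
  have hZ : Nat.card (Subgroup.zpowers (⟨Om, hOmG⟩ : G)) = 3 := by
    rw [Nat.card_zpowers]
    haveI : Fact (Nat.Prime 3) := ⟨Nat.prime_three⟩
    apply orderOf_eq_prime
    · apply Subtype.ext
      rw [Subgroup.coe_pow]
      exact hO3
    · intro h
      have h0 : Om = 1 := congrArg Subtype.val h
      rw [h0] at hOm
      have h3 := congrFun (congrFun hOm 0) 0
      rw [Units.val_one, Matrix.smul_apply, Matrix.one_apply_eq, smul_eq_mul, mul_one] at h3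
      exact hω1 h3.symm
  have hC : ∀ x : G, x * ⟨a, haG⟩ = ⟨a, haG⟩ * x →
      ¬ 19 ∣ orderOf x → x ∈ Subgroup.zpowers (⟨Om, hOmG⟩ : G) := by
    intro x hxa h19
    have hxa' : (x : Matrix.GeneralLinearGroup J9 F) * a = a * x := congrArg Subtype.val hxa
    have h19' : ¬ 19 ∣ orderOf (x : Matrix.GeneralLinearGroup J9 F) := by
      rw [Subgroup.orderOf_coe]; exact h19
    have h := mem_Z0 hF ω hω a ha19 hA1 Om hOm G hcard hOmG ξ hξ3 hξc hξG x.1 x.2 hxa' h19'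
    obtain ⟨i, hi⟩ := Subgroup.mem_zpowers_iff.mp h
    rw [Subgroup.mem_zpowers_iff]
    refine ⟨i, Subtype.ext ?_⟩
    rw [Subgroup.coe_zpow]
    exact hi
  refine ⟨?_, ?_, ?_⟩
  · rw [J3T.center_eq _ _ hcard ha19' hgen hZc hZ hC]
    exact hZ
  · exact J3T.simple_quot _ _ hcard ha19' hgen hZc hZ hC
  · intro N hN
    haveI := hN
    rcases J3T.normal_cases _ _ hcard ha19' hgen hZc hZ hC N with h | h
    · exact Or.inl h
    · right
      rw [J3T.center_eq _ _ hcard ha19' hgen hZc hZ hC]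
      exact h

/-- the abstract form of the result -/
theorem j3_abs (hF : Fintype.card F = 4) (ω : F) (hω : ω ^ 2 + ω + 1 = 0) (hω1 : ω ≠ 1)
    (G : Subgroup (Matrix.GeneralLinearGroup J9 F)) (a b Om ξ : Matrix.GeneralLinearGroup J9 F)
    (hcard : Nat.card G = 150698880)
    (hgen2 : ∀ M : Subgroup (Matrix.GeneralLinearGroup J9 F), a ∈ M → b ∈ M → G ≤ M)
    (haG : a ∈ G) (hconj : ∃ c ∈ G, b = c * a * c⁻¹) (ha19 : a ^ 19 = 1)
    (hA1 : IsUnit ((a : Matrix J9 J9 F) - 1))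
    (hOm : (Om : Matrix J9 J9 F) = ω • (1 : Matrix J9 J9 F)) (hOmG : Om ∈ G)
    (hξ3 : ξ ^ 3 = Om)
    (hξc : ∀ c : Matrix.GeneralLinearGroup J9 F, c * a = a * c → c * ξ = ξ * c) (hξG : ξ ∉ G) :
    Nat.card (Subgroup.center G) = 3 ∧ IsSimpleGroup (G ⧸ Subgroup.center G) := by
  have h := j3_abs' hF ω hω hω1 G a b Om ξ hcard hgen2 haG hconj ha19 hA1 hOm hOmG hξ3 hξc hξG
  exact ⟨h.1, h.2.1⟩

end Cfsg.Agent.Lib.Helper8.J3H

namespace Cfsg.Agent.Lib.Helper8.J3D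

open Cfsg.Agent.Lib.Helper8.F4M Cfsg.Agent.Lib.Helper8.MatN Cfsg.Agent.Lib.Helper8.FastDec
  Cfsg.Agent.Lib.Helper8 Cfsg.Spor

variable {F : Type*} [Field F] [Fintype F] (ω : F)

section main

variable (hF : Fintype.card F = 4) (hω : ω ^ 2 + ω + 1 = 0)

include hF hω

theorem b_conj : ∃ c ∈ threeJ3 F ω, Q ω (D0.getG 1) = c * Q ω (D0.getG 0) * c⁻¹ := by
  have h2 := two_eq_zero hF
  obtain ⟨uc, mc⟩ := word_mem ω h2 hω WC WC_lt
  refine ⟨Q ω (prodB WC), mc, ?_⟩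
  have h := (beq_iff _ _).mp chkConj
  have e : Q ω (prodB WC) * Q ω (D0.getG 0) = Q ω (D0.getG 1) * Q ω (prodB WC) := by
    rw [← Q_mulB ω h2 hω uc (unitA ω hF hω), ← Q_mulB ω h2 hω (unitB ω hF hω) uc, h]
  exact eq_mul_inv_of_mul_eq e.symm

theorem gen2 (M : Subgroup (Matrix.GeneralLinearGroup I9 F)) (ha : Q ω (D0.getG 0) ∈ M)
    (hb : Q ω (D0.getG 1) ∈ M) : threeJ3 F ω ≤ M := by
  rw [threeJ3_eq ω hF hω]
  apply (Subgroup.closure_le _).mpr
  rintro s ⟨gi, hgi, rfl⟩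
  have hng : D0.ng = 2 := rfl
  have : gi = 0 ∨ gi = 1 := by omega
  rcases this with rfl | rfl
  · exact ha
  · exact hb

theorem j3_main' : Nat.card (Subgroup.center (threeJ3 F ω)) = 3 ∧
    IsSimpleGroup (threeJ3 F ω ⧸ Subgroup.center (threeJ3 F ω)) ∧
    ∀ N : Subgroup (threeJ3 F ω), N.Normal → N = ⊤ ∨ N ≤ Subgroup.center (threeJ3 F ω) := by
  have hGeq := threeJ3_eq ω hF hω
  have haG : Q ω (D0.getG 0) ∈ threeJ3 F ω := by rw [hGeq]; exact a_mem ω hF hω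
  have hOmG : Q ω OM ∈ threeJ3 F ω := by rw [hGeq]; exact (OM_mem ω hF hω).2
  have hξG : Q ω (horner CS) ∉ threeJ3 F ω := by rw [hGeq]; exact xi_not_mem ω hF hω
  exact J3H.j3_abs' hF ω hω (omega_ne_one ω (two_eq_zero hF) hω) (threeJ3 F ω) _ _ _ _
    (card_threeJ3 ω hF hω) (gen2 ω hF hω) haG (b_conj ω hF hω) (a_pow ω hF hω)
    (a_sub_one ω hF hω) (Om_val ω hF hω).2 hOmG (xi_cube ω hF hω) (xi_comm ω hF hω) hξG

theorem j3_main : Nat.card (Subgroup.center (threeJ3 F ω)) = 3 ∧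
    IsSimpleGroup (threeJ3 F ω ⧸ Subgroup.center (threeJ3 F ω)) :=
  ⟨(j3_main' ω hF hω).1, (j3_main' ω hF hω).2.1⟩

end main

end Cfsg.Agent.Lib.Helper8.J3D
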