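import Mathlib
import Cfsg.Agent.Lib.Helper3.CPDefs
import Cfsg.Agent.Lib.Helper4.CPN
import Cfsg.Agent.Lib.Helper8.CQDefs

/-!
# S3396, piece N: corollaries of the norm lemmas for groups in the class `CCP P`
-/

namespace Cfsg.Agent.Lib.Helper8.CQ

open Cfsg.Agent.Lib.Helper4.CP

variable {P : ℕ → Prop}

open Cfsg.Agent.Lib.Helper3.CP

variable {G : Type*} [Group G] [Finite G]

/-- in a `CCP P` group commuting nonidentity elements cannot have orders `r` (odd prime) and a
number coprime to `r` and `> 1` -/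
theorem cc_no_mixed (hC : CCP P G) (r : ℕ) (hr : r.Prime) (hr2 : r ≠ 2) (c w : G)
    (hc : orderOf c = r) (hw1 : w ≠ 1) (hcop : (orderOf w).Coprime r) (hcw : c * w = w * c) :
    False := by
  have hord : orderOf (c * w) = r * orderOf w := by
    rw [← hc]
    exact (show Commute c w from hcw).orderOf_mul_eq_mul_orderOf_of_coprime (by rw [hc]; exact hcop.symm)
  have hne : c * w ≠ 1 := by
    intro h
    rw [h, orderOf_one] at hord
    have : r ∣ 1 := ⟨orderOf w, hord⟩
    exact hr.one_lt.ne' (Nat.dvd_one.1 this)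
  rcases hC (c * w) hne with ⟨t, ht⟩ | ⟨hp, _⟩
  · have : r ∣ 2 ^ t := by rw [← ht, hord]; exact dvd_mul_right _ _
    exact hr2 ((Nat.prime_dvd_prime_iff_eq hr Nat.prime_two).1 (hr.dvd_of_dvd_pow this))
  · rw [hord] at hp
    rcases (Nat.dvd_prime hp).1 (dvd_mul_right r (orderOf w)) with h | h
    · exact hr.one_lt.ne' h
    · have h2 : orderOf w = 1 := by
        have hpos := hr.pos
        have : r * 1 = r * orderOf w := by rw [mul_one]; exact h
        exact (Nat.eq_of_mul_eq_mul_left hpos this).symm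
      exact hw1 (orderOf_eq_one_iff.1 h2)

/-- (C1) in a `CCP P` group an `r`-subgroup (`r` odd) normalizing a nontrivial `s`-subgroup,
`s ≠ r`, has order at most `r`. -/
theorem card_le_of_normalizes (hC : CCP P G) (r s : ℕ) (hr : r.Prime) (hr2 : r ≠ 2) (hs : s.Prime)
    (hrs : r ≠ s) (Y Q : Subgroup G) (hY : IsPGroup r Y) (hQ : IsPGroup s Q) (hQ1 : Q ≠ ⊥)
    (hYQ : ∀ y ∈ Y, ∀ q ∈ Q, y * q * y⁻¹ ∈ Q) : Nat.card Y ≤ r := by
  by_contra hcon
  push Not at hcon
  haveI : Fact r.Prime := ⟨hr⟩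
  haveI : Fact s.Prime := ⟨hs⟩
  have hordY : ∀ y ∈ Y, y ≠ 1 → orderOf y = r := by
    intro y hy hy1
    obtain ⟨k, hk⟩ := hY ⟨y, hy⟩
    have hk' : y ^ (r ^ k) = 1 := by
      have := congrArg Subtype.val hk
      simpa using this
    have hdvd : orderOf y ∣ r ^ k := orderOf_dvd_of_pow_eq_one hk'
    rcases hC y hy1 with ⟨t, ht⟩ | ⟨hp, _⟩
    · exfalso
      rcases t with _ | t
      · rw [pow_zero] at ht; exact hy1 (orderOf_eq_one_iff.1 ht)
      · have h2 : 2 ∣ r ^ k := by
          refine dvd_trans ?_ hdvd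
          rw [ht]; exact dvd_pow_self 2 (Nat.succ_ne_zero t)
        have := (Nat.prime_dvd_prime_iff_eq Nat.prime_two hr).1 (Nat.prime_two.dvd_of_dvd_pow h2)
        exact hr2 this.symm
    · exact (Nat.prime_dvd_prime_iff_eq hp hr).1 (hp.dvd_of_dvd_pow hdvd)
  have hYnt : Nontrivial Y := by
    apply (Finite.one_lt_card_iff_nontrivial).1
    have := hr.one_lt
    omega
  obtain ⟨a', ha'c, ha'1⟩ : ∃ a' : Y, a' ∈ Subgroup.center Y ∧ a' ≠ 1 := by
    have := hY.center_nontrivial
    obtain ⟨⟨z, hz⟩, hz1⟩ := exists_ne (1 : Subgroup.center Y)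
    exact ⟨z, hz, fun h => hz1 (Subtype.ext h)⟩
  have haY : (a' : G) ∈ Y := a'.2
  have ha1 : (a' : G) ≠ 1 := fun h => ha'1 (Subtype.ext h)
  have hao : orderOf (a' : G) = r := hordY _ haY ha1
  obtain ⟨b, hbY, hbz⟩ : ∃ b ∈ Y, b ∉ Subgroup.zpowers (a' : G) := by
    by_contra hno
    push Not at hno
    have hle : Y ≤ Subgroup.zpowers (a' : G) := fun y hy => hno y hy
    have := Subgroup.card_le_of_le hle
    rw [Nat.card_zpowers, hao] at this
    omega
  have hb1 : b ≠ 1 := by
    intro h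
    apply hbz
    rw [h]; exact Subgroup.one_mem _
  have hbo : orderOf b = r := hordY b hbY hb1
  have hab : (a' : G) * b = b * (a' : G) := by
    have := Subgroup.mem_center_iff.1 ha'c ⟨b, hbY⟩
    have := congrArg Subtype.val this
    simpa using this.symm
  -- the centre of Q
  have hWab : ∀ x ∈ Q ⊓ Subgroup.centralizer (Q : Set G),
      ∀ y ∈ Q ⊓ Subgroup.centralizer (Q : Set G), x * y = y * x := by
    intro x hx y hy
    obtain ⟨_, hxc⟩ := Subgroup.mem_inf.1 hx
    obtain ⟨hyQ, _⟩ := Subgroup.mem_inf.1 hy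
    exact (Subgroup.mem_centralizer_iff.1 hxc y hyQ).symm
  have hW1 : Q ⊓ Subgroup.centralizer (Q : Set G) ≠ ⊥ := by
    haveI : Nontrivial Q := (Subgroup.nontrivial_iff_ne_bot Q).2 hQ1
    have := hQ.center_nontrivial
    obtain ⟨⟨z, hz⟩, hz1⟩ := exists_ne (1 : Subgroup.center Q)
    intro hbot
    have hzW : (z : G) ∈ Q ⊓ Subgroup.centralizer (Q : Set G) := by
      refine Subgroup.mem_inf.2 ⟨z.2, ?_⟩
      rw [Subgroup.mem_centralizer_iff]
      intro q hq
      have := Subgroup.mem_center_iff.1 hz ⟨q, hq⟩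
      have := congrArg Subtype.val this
      simpa using this
    rw [hbot, Subgroup.mem_bot] at hzW
    exact hz1 (Subtype.ext (Subtype.ext hzW))
  have hnormW : ∀ y ∈ Y, ∀ w ∈ Q ⊓ Subgroup.centralizer (Q : Set G),
      y * w * y⁻¹ ∈ Q ⊓ Subgroup.centralizer (Q : Set G) := by
    intro y hy w hw
    obtain ⟨hwQ, hwc⟩ := Subgroup.mem_inf.1 hw
    refine Subgroup.mem_inf.2 ⟨hYQ y hy w hwQ, ?_⟩
    rw [Subgroup.mem_centralizer_iff]
    intro q hq
    have hq' : y⁻¹ * q * y ∈ Q := by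
      have := hYQ y⁻¹ (Y.inv_mem hy) q hq
      simpa using this
    have h1 := Subgroup.mem_centralizer_iff.1 hwc _ hq'
    calc q * (y * w * y⁻¹) = y * ((y⁻¹ * q * y) * w) * y⁻¹ := by group
      _ = y * (w * (y⁻¹ * q * y)) * y⁻¹ := by rw [h1]
      _ = y * w * y⁻¹ * q := by group
  have hWs : IsPGroup s (Q ⊓ Subgroup.centralizer (Q : Set G) : Subgroup G) :=
    hQ.to_le inf_le_left
  have hcop : (Nat.card (Q ⊓ Subgroup.centralizer (Q : Set G) : Subgroup G)).Coprime r := by
    obtain ⟨n, hn⟩ := IsPGroup.iff_card.1 hWs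
    rw [hn]
    exact Nat.Coprime.pow_left n ((Nat.coprime_primes hs hr).2 (Ne.symm hrs))
  obtain ⟨c, hc, hc1, w, hw, hw1, hcw⟩ := N2 _ hWab hW1 (a' : G) b r hr hao hbo hab hbz
    (hnormW _ haY) (hnormW b hbY) hcop
  have hcY : c ∈ Y := by
    have : Subgroup.closure ({(a' : G), b} : Set G) ≤ Y := by
      rw [Subgroup.closure_le]
      rintro x (rfl | rfl)
      · exact haY
      · exact hbY
    exact this hc
  have hco : orderOf c = r := hordY c hcY hc1
  have hwo : (orderOf w).Coprime r := by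
    obtain ⟨k, hk⟩ := hWs ⟨w, hw⟩
    have hk' : w ^ (s ^ k) = 1 := by
      have := congrArg Subtype.val hk
      simpa using this
    have hdvd : orderOf w ∣ s ^ k := orderOf_dvd_of_pow_eq_one hk'
    exact Nat.Coprime.coprime_dvd_left hdvd
      (Nat.Coprime.pow_left k ((Nat.coprime_primes hs hr).2 (Ne.symm hrs)))
  refine cc_no_mixed hC r hr hr2 c w hco hw1 hwo ?_
  calc c * w = (c * w * c⁻¹) * c := by group
    _ = w * c := by rw [hcw]

/-- (C2) in a `CCP P` group a four-group cannot normalize a nontrivial abelian subgroup of odd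
order. -/
theorem not_four_group_normalizes_abelian (hC : CCP P G) (E N : Subgroup G) (hE : Nat.card E = 4)
    (hE2 : ∀ e ∈ E, e ^ 2 = 1) (hN1 : N ≠ ⊥) (hNab : ∀ a ∈ N, ∀ b ∈ N, a * b = b * a)
    (hNodd : Odd (Nat.card N)) (hn : ∀ e ∈ E, ∀ n ∈ N, e * n * e⁻¹ ∈ N) : False := by
  have hEnt : Nontrivial E := by
    apply (Finite.one_lt_card_iff_nontrivial).1
    omega
  obtain ⟨a', ha'1⟩ := exists_ne (1 : E)
  have haE : (a' : G) ∈ E := a'.2
  have ha1 : (a' : G) ≠ 1 := fun h => ha'1 (Subtype.ext h)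
  have hord2 : ∀ e ∈ E, e ≠ 1 → orderOf e = 2 := by
    intro e he he1
    exact orderOf_eq_prime (hE2 e he) he1
  have hao : orderOf (a' : G) = 2 := hord2 _ haE ha1
  obtain ⟨b, hbE, hbz⟩ : ∃ b ∈ E, b ∉ Subgroup.zpowers (a' : G) := by
    by_contra hno
    push Not at hno
    have hle : E ≤ Subgroup.zpowers (a' : G) := fun y hy => hno y hy
    have := Subgroup.card_le_of_le hle
    rw [Nat.card_zpowers, hao] at this
    omega
  have hb1 : b ≠ 1 := by
    intro h
    apply hbz
    rw [h]; exact Subgroup.one_mem _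
  have hbo : orderOf b = 2 := hord2 b hbE hb1
  have hab : (a' : G) * b = b * (a' : G) := by
    have h1 := hE2 _ (E.mul_mem haE hbE)
    have h2 := hE2 _ haE
    have h3 := hE2 _ hbE
    rw [pow_two] at h1 h2 h3
    calc (a' : G) * b = (b * b) * ((a' : G) * b) * ((a' : G) * (a' : G)) := by
          rw [h2, h3, one_mul, mul_one]
      _ = b * (b * (a' : G)) * (b * (a' : G)) * (a' : G) := by group
      _ = b * ((b * (a' : G)) * (b * (a' : G))) * (a' : G) := by group
      _ = b * (a' : G) := by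
          have h4 : (b * (a' : G)) * (b * (a' : G)) = 1 := by
            have := hE2 _ (E.mul_mem hbE haE)
            rwa [pow_two] at this
          rw [h4, mul_one]
  have hcop : (Nat.card N).Coprime 2 := Nat.Coprime.symm (Nat.coprime_two_left.2 hNodd)
  obtain ⟨c, hc, hc1, w, hw, hw1, hcw⟩ := N2 N hNab hN1 (a' : G) b 2 Nat.prime_two hao hbo hab hbz
    (hn _ haE) (hn b hbE) hcop
  have hcE : c ∈ E := by
    have : Subgroup.closure ({(a' : G), b} : Set G) ≤ E := by
      rw [Subgroup.closure_le]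
      rintro x (rfl | rfl)
      · exact haE
      · exact hbE
    exact this hc
  have hco : orderOf c = 2 := hord2 c hcE hc1
  -- order of c * w is 2 * odd
  have hwodd : Odd (orderOf w) := by
    have h1 : orderOf w ∣ Nat.card N := by
      have := orderOf_dvd_natCard (⟨w, hw⟩ : N)
      rwa [Subgroup.orderOf_mk] at this
    exact Odd.of_dvd_nat hNodd h1
  have hcomm : Commute c w := by
    show c * w = w * c
    calc c * w = (c * w * c⁻¹) * c := by group
      _ = w * c := by rw [hcw]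
  have hord : orderOf (c * w) = 2 * orderOf w := by
    rw [← hco]
    exact hcomm.orderOf_mul_eq_mul_orderOf_of_coprime
      (by rw [hco]; exact Nat.coprime_two_left.2 hwodd)
  have hwo1 : orderOf w ≠ 1 := fun h => hw1 (orderOf_eq_one_iff.1 h)
  have hne : c * w ≠ 1 := by
    intro h
    rw [h, orderOf_one] at hord
    omega
  rcases hC (c * w) hne with ⟨t, ht⟩ | ⟨hp, _⟩
  · rw [hord] at ht
    have h1 : orderOf w ∣ 2 ^ t := ⟨2, by rw [← ht]; ring⟩
    obtain ⟨j, _, hj⟩ := (Nat.dvd_prime_pow Nat.prime_two).1 h1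
    rcases j with _ | j
    · rw [pow_zero] at hj; exact hwo1 hj
    · rw [hj] at hwodd
      exact (Nat.not_even_iff_odd.2 hwodd) ((Nat.even_pow' (Nat.succ_ne_zero j)).2 even_two)
  · rw [hord] at hp
    rcases (Nat.dvd_prime hp).1 (dvd_mul_left (orderOf w) 2) with h | h
    · exact hwo1 h
    · have hpos : 0 < orderOf w := orderOf_pos w
      omega

end Cfsg.Agent.Lib.Helper8.CQ
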