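import Mathlib

/-! Unit CLSFN of farm O73C3 (S5514, owner helper4). -/

set_option linter.unusedVariables false

namespace Cfsg.Agent.Lib.Helper8.O73C3CLSFN

/-- unit CLSFN: a class function that is invariant under inversion separates cyclic subgroups of order 3 -/
theorem eq_of_conj_zpowers {G : Type*} [Group G] {α : Type*} (f : G → α)
    (hf : ∀ g x, f (g * x * g⁻¹) = f x) (hinv : ∀ x, f x⁻¹ = f x)
    (y y' : G) (hy : y ≠ 1) (hy3 : y ^ 3 = 1) (hy'3 : y' ^ 3 = 1) (g : G)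
    (h : (Subgroup.zpowers y).map (MulAut.conj g).toMonoidHom = Subgroup.zpowers y') : f y = f y' := by
  have hm : g * y * g⁻¹ ∈ Subgroup.zpowers y' := by
    rw [← h]
    exact ⟨y, Subgroup.mem_zpowers y, by simp [MulAut.conj_apply]⟩
  obtain ⟨k, hk⟩ := Subgroup.mem_zpowers_iff.mp hm
  have h3 : (y' : G) ^ (3 : ℤ) = 1 := by exact_mod_cast hy'3
  have hk' : y' ^ (k % 3) = g * y * g⁻¹ := by
    rw [← hk]
    conv_rhs => rw [← Int.mul_ediv_add_emod k 3, zpow_add, zpow_mul, h3, one_zpow, one_mul]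
  have hne : g * y * g⁻¹ ≠ 1 := by
    intro h1
    apply hy
    have : y = g⁻¹ * (g * y * g⁻¹) * g := by group
    rw [this, h1]; group
  have hr : k % 3 = 0 ∨ k % 3 = 1 ∨ k % 3 = 2 := by omega
  rcases hr with h0 | h1 | h2
  · rw [h0, zpow_zero] at hk'
    exact absurd hk'.symm hne
  · rw [h1, zpow_one] at hk'
    rw [hk', hf]
  · rw [h2] at hk'
    have hinv' : y'⁻¹ = y' ^ (2 : ℤ) := by
      apply inv_eq_of_mul_eq_one_right
      rw [← zpow_one_add]
      exact h3
    rw [← hf g y, ← hk', ← hinv', hinv]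

end Cfsg.Agent.Lib.Helper8.O73C3CLSFN
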