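import Mathlib

/-! Unit SYL of farm O73C3 (S5514, owner helper4). -/

namespace Cfsg.Agent.Lib.Helper8.O73C3SYL

open scoped Pointwise

/-- unit SYL: subgroups of order `p` are conjugate into a given subgroup of order `p ^ n` -/
theorem conj_into_of_sylow {G : Type*} [Group G] [Finite G] (p n m : ℕ) [Fact p.Prime]
    (hG : Nat.card G = p ^ n * m) (hm : ¬ p ∣ m) (P : Subgroup G) (hP : Nat.card P = p ^ n)
    {ι : Type*} (Y : ι → Subgroup G) (hY : ∀ i, Nat.card (Y i) = p)
    (h : ∀ x ∈ P, x ≠ 1 → x ^ p = 1 → ∃ i, ∃ g : G, g * x * g⁻¹ ∈ Y i)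
    (X : Subgroup G) (hX : Nat.card X = p) :
    ∃ i, ∃ g : G, X.map (MulAut.conj g).toMonoidHom = Y i := by
  have hp : p.Prime := Fact.out
  -- `P` is a Sylow subgroup
  have hPp : IsPGroup p P := IsPGroup.of_card hP
  obtain ⟨Q, hPQ⟩ := hPp.exists_le_sylow
  have hQP : (Q : Subgroup G) = P := by
    symm
    apply Subgroup.eq_of_le_of_card_ge hPQ
    obtain ⟨k, hk⟩ := IsPGroup.iff_card.mp Q.2
    rw [hk, hP]
    have hdvd : p ^ k ∣ p ^ n * m := by
      rw [← hk, ← hG]; exact Subgroup.card_subgroup_dvd_card _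
    have hcop : Nat.Coprime (p ^ k) m :=
      Nat.Coprime.pow_left _ ((Nat.Prime.coprime_iff_not_dvd hp).mpr hm)
    have hdvd' : p ^ k ∣ p ^ n := hcop.dvd_of_dvd_mul_right hdvd
    exact Nat.le_of_dvd (pow_pos hp.pos n) hdvd'
  -- a generator of `X`
  have hXnt : ∃ x ∈ X, x ≠ 1 := by
    by_contra hcon
    push Not at hcon
    have : X = ⊥ := (Subgroup.eq_bot_iff_forall X).mpr hcon
    rw [this, Subgroup.card_bot] at hX
    exact hp.one_lt.ne hX
  obtain ⟨x, hxX, hx1⟩ := hXnt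
  have hox : orderOf x = p := by
    have h1 : orderOf x ∣ p := by
      have := orderOf_dvd_natCard (⟨x, hxX⟩ : X)
      rwa [Subgroup.orderOf_mk, hX] at this
    rcases (Nat.dvd_prime hp).mp h1 with h2 | h2
    · exact absurd (orderOf_eq_one_iff.mp h2) hx1
    · exact h2
  have hXz : Subgroup.zpowers x = X := by
    apply Subgroup.eq_of_le_of_card_ge ((Subgroup.zpowers_le).mpr hxX)
    rw [Nat.card_zpowers, hox, hX]
  -- conjugate `X` into `P`
  have hXp : IsPGroup p X := IsPGroup.of_card (n := 1) (by rw [hX, pow_one])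
  obtain ⟨Q', hXQ'⟩ := hXp.exists_le_sylow
  obtain ⟨g, hg⟩ := MulAction.exists_smul_eq G Q' Q
  have hgx : g * x * g⁻¹ ∈ P := by
    rw [← hQP, ← hg, Sylow.coe_subgroup_smul]
    have := Subgroup.smul_mem_pointwise_smul x (MulAut.conj g) (Q' : Subgroup G) (hXQ' hxX)
    simpa [MulAut.smul_def, MulAut.conj_apply] using this
  have hgx1 : g * x * g⁻¹ ≠ 1 := by
    intro h1
    apply hx1
    have : x = g⁻¹ * (g * x * g⁻¹) * g := by group
    rw [this, h1]; group
  have hgxp : (g * x * g⁻¹) ^ p = 1 := by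
    rw [conj_pow, ← hox, pow_orderOf_eq_one]; group
  obtain ⟨i, g', hi⟩ := h _ hgx hgx1 hgxp
  refine ⟨i, g' * g, ?_⟩
  rw [← hXz, MonoidHom.map_zpowers]
  apply Subgroup.eq_of_le_of_card_ge
  · rw [Subgroup.zpowers_le]
    have : (MulAut.conj (g' * g)).toMonoidHom x = g' * (g * x * g⁻¹) * g'⁻¹ := by
      simp [MulAut.conj_apply, mul_assoc]
    rw [this]
    exact hi
  · rw [hY i, Nat.card_zpowers]
    have : orderOf ((MulAut.conj (g' * g)).toMonoidHom x) = orderOf x :=
      orderOf_injective _ (MulAut.conj (g' * g)).injective x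
    rw [this, hox]

end Cfsg.Agent.Lib.Helper8.O73C3SYL
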