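import Mathlib

/-! Unit ZP3 of farm O73C3 (S5514, owner helper4). -/

namespace Cfsg.Agent.Lib.Helper8.O73C3ZP3

/-- unit ZP3: a subgroup of order 3 is generated by each of its nontrivial elements -/
theorem zpowers_eq_of_card_three {G : Type*} [Group G] (y : G) (hy : y ≠ 1) (hy3 : y ^ 3 = 1) :
    Nat.card (Subgroup.zpowers y) = 3 := by
  have : Fact (Nat.Prime 3) := ⟨by norm_num⟩
  rw [Nat.card_zpowers]
  exact orderOf_eq_prime hy3 hy

end Cfsg.Agent.Lib.Helper8.O73C3ZP3
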