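import Mathlib
import Cfsg.Agent.S0144
import Cfsg.Agent.Lib.Helper4.Simple60

/-!
# S4501 (simple groups of order `4 p^a q^b`, `3 p^a q^b`, `a ≤ 2`): elementary reductions
-/

set_option autoImplicit false

namespace Cfsg.Agent.Lib.Helper8.Sc

open Subgroup

variable {G : Type*} [Group G] [Finite G] [IsSimpleGroup G]

omit [Finite G] [IsSimpleGroup G] in
theorem not_comm (hna : ∃ x y : G, x * y ≠ y * x) : ¬ ∀ a b : G, a * b = b * a := by
  obtain ⟨x, y, h⟩ := hna
  exact fun hc => h (hc x y)

omit [Finite G] [IsSimpleGroup G] in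
theorem not_isMulCommutative (hna : ∃ x y : G, x * y ≠ y * x) : ¬ IsMulCommutative G := by
  obtain ⟨x, y, h⟩ := hna
  exact fun hc => h (hc.is_comm.comm x y)

/-- a nonabelian simple group does not have order `p^a q^b` -/
theorem not_two_primes (hna : ∃ x y : G, x * y ≠ y * x) (p q a b : ℕ) (hp : p.Prime)
    (hq : q.Prime) (hG : Nat.card G = p ^ a * q ^ b) : False := by
  have hs := Cfsg.Agent.S0144.result (G := G) p q a b hp hq hG
  exact not_comm hna (IsSimpleGroup.comm_iff_isSolvable.mpr hs)

/-- Burnside's transfer theorem in a nonabelian simple group -/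
theorem burnside_transfer (hna : ∃ x y : G, x * y ≠ y * x) {r : ℕ} [Fact r.Prime]
    (R : Sylow r G) (hr : r ∣ Nat.card G)
    (h : normalizer ((R : Subgroup G) : Set G) ≤ centralizer ((R : Subgroup G) : Set G)) :
    False := by
  have hcomp := MonoidHom.ker_transferSylow_isComplement' R h
  have hcard := hcomp.card_mul_card
  rcases IsSimpleGroup.eq_bot_or_eq_top_of_normal _
    (MonoidHom.transferSylow R h).normal_ker with hb | ht
  · rw [hb, card_bot, one_mul] at hcard
    have hR : (R : Subgroup G) = ⊤ := (R : Subgroup G).eq_top_of_card_eq hcard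
    apply not_comm hna
    intro a b
    have ha : a ∈ normalizer ((R : Subgroup G) : Set G) := by
      have hn : (R : Subgroup G).Normal := by rw [hR]; infer_instance
      rw [normalizer_eq_top_iff.mpr hn]; exact mem_top a
    have hb' : b ∈ (R : Subgroup G) := by rw [hR]; exact mem_top b
    have := mem_centralizer_iff.mp (h ha) b hb'
    exact this.symm
  · rw [ht, card_top] at hcard
    have h1 : Nat.card (R : Subgroup G) = 1 := by
      have hpos : 0 < Nat.card G := Nat.card_pos
      exact Nat.eq_of_mul_eq_mul_left hpos (hcard.trans (mul_one _).symm)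
    have h2 : (R : Subgroup G) ≠ ⊥ := R.ne_bot_of_dvd_card hr
    exact h2 (card_eq_one.mp h1)

omit [IsSimpleGroup G] in
/-- `|N(P) : C(P)|` divides `|P|!` -/
theorem relIndex_cent_norm_dvd (P : Subgroup G) :
    (centralizer (P : Set G)).relIndex (normalizer (P : Set G)) ∣ (Nat.card P).factorial := by
  have key := Subgroup.card_dvd_of_injective _
    (QuotientGroup.kerLift_injective P.normalizerMonoidHom)
  rw [normalizerMonoidHom_ker, ← index, ← relIndex] at key
  refine key.trans ?_
  have h2 := Subgroup.card_dvd_of_injective (MulAut.toPerm P) (by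
    intro a b hab
    exact MulEquiv.ext fun x => Equiv.congr_fun hab x)
  rwa [Nat.card_perm] at h2

/-- a Sylow `2`-subgroup of order `4` forces `3 ∣ |G|` -/
theorem three_dvd_of_sylow_two (hna : ∃ x y : G, x * y ≠ y * x) (P : Sylow 2 G)
    (hP : Nat.card P = 4) : 3 ∣ Nat.card G := by
  have : IsMulCommutative (P : Subgroup G) :=
    IsPGroup.isMulCommutative_of_card_eq_prime_sq (p := 2) (hP.trans (by norm_num))
  have hle : (P : Subgroup G) ≤ centralizer ((P : Subgroup G) : Set G) := le_centralizer _
  set r := (centralizer ((P : Subgroup G) : Set G)).relIndex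
    (normalizer ((P : Subgroup G) : Set G)) with hr
  have h1 : r ∣ 24 := by
    have := relIndex_cent_norm_dvd (P : Subgroup G)
    have hP' : Nat.card (P : Subgroup G) = 4 := hP
    rw [hP'] at this
    exact this
  have h2 : r ∣ (P : Subgroup G).index :=
    (relIndex_dvd_of_le_left _ hle).trans (relIndex_dvd_index_of_le le_normalizer)
  have h3 : ¬ 2 ∣ r := fun h => P.not_dvd_index (h.trans h2)
  have h4 : r ∣ Nat.card G :=
    (relIndex_dvd_card _ _).trans (card_subgroup_dvd_card _)
  have h5 : r = 1 ∨ r = 3 := by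
    have hmem : r ∈ Nat.divisors 24 := Nat.mem_divisors.mpr ⟨h1, by norm_num⟩
    have h24 : Nat.divisors 24 = {1, 2, 3, 4, 6, 8, 12, 24} := by decide
    rw [h24] at hmem
    simp only [Finset.mem_insert, Finset.mem_singleton] at hmem
    clear_value r
    omega
  rcases h5 with h5 | h5
  · exfalso
    have h6 : normalizer ((P : Subgroup G) : Set G) ≤ centralizer ((P : Subgroup G) : Set G) :=
      relIndex_eq_one.mp h5
    refine burnside_transfer hna P ?_ h6
    have : Nat.card (P : Subgroup G) ∣ Nat.card G := card_subgroup_dvd_card _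
    have hP' : Nat.card (P : Subgroup G) = 4 := hP
    rw [hP'] at this
    exact (by norm_num : 2 ∣ 4).trans this
  · rw [h5] at h4; exact h4

/-- a nonabelian simple group with more than one Sylow `p`-subgroup embeds in `S_n` -/
theorem card_dvd_factorial_sylow (p : ℕ) [Fact p.Prime] (h1 : Nat.card (Sylow p G) ≠ 1) :
    Nat.card G ∣ (Nat.card (Sylow p G)).factorial := by
  let f := MulAction.toPermHom G (Sylow p G)
  rcases IsSimpleGroup.eq_bot_or_eq_top_of_normal f.ker (MonoidHom.normal_ker f) with hb | ht
  · have hinj : Function.Injective f := (MonoidHom.ker_eq_bot_iff f).mp hb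
    have := Subgroup.card_dvd_of_injective f hinj
    rwa [Nat.card_perm] at this
  · exfalso; apply h1
    have hfix : ∀ (g : G) (P : Sylow p G), g • P = P := by
      intro g P
      have hg : g ∈ f.ker := by rw [ht]; trivial
      have h2 := MonoidHom.mem_ker.mp hg
      have h3 : f g P = P := by rw [h2]; rfl
      exact h3
    rw [Nat.card_eq_one_iff_unique]
    refine ⟨⟨fun P Q => ?_⟩, inferInstance⟩
    obtain ⟨g, hg⟩ := MulAction.exists_smul_eq G P Q
    rw [← hg, hfix]

/-- a nonabelian simple group has more than one Sylow `p`-subgroup for `p ∣ |G|` -/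
theorem card_sylow_ne_one (hna : ∃ x y : G, x * y ≠ y * x) (p : ℕ) [Fact p.Prime]
    (hp : p ∣ Nat.card G) : Nat.card (Sylow p G) ≠ 1 := by
  intro h1
  have hsub : Subsingleton (Sylow p G) := (Nat.card_eq_one_iff_unique.mp h1).1
  obtain ⟨P⟩ : Nonempty (Sylow p G) := inferInstance
  have hn : (P : Subgroup G).Normal := Sylow.normal_of_subsingleton P
  rcases IsSimpleGroup.eq_bot_or_eq_top_of_normal _ hn with hb | ht
  · exact P.ne_bot_of_dvd_card hp hb
  · -- `G` is a `p`-group, hence solvable
    have hpg : IsPGroup p G := by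
      have := P.2
      rw [ht] at this
      exact IsPGroup.of_equiv this Subgroup.topEquiv
    obtain ⟨k, hk⟩ := IsPGroup.iff_card.mp hpg
    exact not_two_primes hna p p k 0 Fact.out Fact.out (by rw [hk]; simp)

end Cfsg.Agent.Lib.Helper8.Sc
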