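import Mathlib
import Cfsg.Agent.Lib.Helper8.Sc1
import Cfsg.Agent.S0496

/-!
# S4501: case (4A1), `|G| = 12 q^b`
-/

set_option autoImplicit false

namespace Cfsg.Agent.Lib.Helper8.Sc

open Subgroup

variable {G : Type*} [Group G] [Finite G] [IsSimpleGroup G]

omit [IsSimpleGroup G] in
/-- index of a Sylow subgroup from the factorised group order -/
theorem sylow_index_of_eq (p k m : ℕ) [hp : Fact p.Prime]
    (hG : Nat.card G = p ^ k * m) (hm : ¬ p ∣ m) (P : Sylow p G) :
    (P : Subgroup G).index = m := by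
  have h1 := Cfsg.Agent.Lib.Helper4.sylow_card_of_eq p k m hG hm P
  have h2 := (P : Subgroup G).card_mul_index
  have h1' : Nat.card (P : Subgroup G) = p ^ k := h1
  rw [h1', hG] at h2
  exact Nat.eq_of_mul_eq_mul_left (pow_pos hp.out.pos k) h2

/-- small orders: a nonabelian simple group of order `≤ 1092` -/
theorem small_order (hna : ∃ x y : G, x * y ≠ y * x) (h : Nat.card G ≤ 1092) :
    Nat.card G = 60 ∨ Nat.card G = 168 ∨ Nat.card G = 360 ∨ Nat.card G = 504 ∨
      Nat.card G = 660 ∨ Nat.card G = 1092 :=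
  Cfsg.Agent.S0496.result (not_isMulCommutative hna) h

/-- case (4A1): `|G| = 12 q^b` forces `|G| = 60` -/
theorem case_4A1 (hna : ∃ x y : G, x * y ≠ y * x) (q b : ℕ) (hq : q.Prime) (hq5 : 5 ≤ q)
    (hG : Nat.card G = 12 * q ^ b) : Nat.card G = 60 := by
  haveI : Fact q.Prime := ⟨hq⟩
  have hb : 1 ≤ b := by
    by_contra hb
    have hb0 : b = 0 := by omega
    subst hb0
    exact not_two_primes hna 2 3 2 1 Nat.prime_two Nat.prime_three (by rw [hG]; norm_num)
  have hqG : q ∣ Nat.card G := by rw [hG]; exact (dvd_pow_self q (by omega)).mul_left 12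
  have hn1 := card_sylow_ne_one hna q hqG
  have hmod : Nat.card (Sylow q G) ≡ 1 [MOD q] := card_sylow_modEq_one q G
  obtain ⟨Q⟩ : Nonempty (Sylow q G) := inferInstance
  have hq12 : ¬ q ∣ 12 := by
    intro h
    have := Nat.le_of_dvd (by norm_num) h
    have h12 : (12 : ℕ) = 2 ^ 2 * 3 := by norm_num
    rw [h12] at h
    rcases (Nat.Prime.dvd_mul hq).mp h with h | h
    · have := (Nat.prime_dvd_prime_iff_eq hq Nat.prime_two).mp (hq.dvd_of_dvd_pow h); omega
    · have := (Nat.prime_dvd_prime_iff_eq hq Nat.prime_three).mp h; omega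
  have hidx : (Q : Subgroup G).index = 12 :=
    sylow_index_of_eq q b 12 (by rw [hG]; ring) hq12 Q
  have hdvd : Nat.card (Sylow q G) ∣ 12 := by rw [← hidx]; exact Sylow.card_dvd_index Q
  have hfac := card_dvd_factorial_sylow (G := G) q hn1
  set n := Nat.card (Sylow q G) with hn
  have hnpos : 1 ≤ n := Nat.card_pos
  have hq1 : q ∣ n - 1 := (Nat.modEq_iff_dvd' hnpos).mp hmod.symm
  have hmem : n ∈ Nat.divisors 12 := Nat.mem_divisors.mpr ⟨hdvd, by norm_num⟩
  have h12 : Nat.divisors 12 = {1, 2, 3, 4, 6, 12} := by decide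
  rw [h12] at hmem
  simp only [Finset.mem_insert, Finset.mem_singleton] at hmem
  clear_value n
  rcases hmem with h | h | h | h | h | h
  · exact absurd h hn1
  · subst h; have := Nat.le_of_dvd (by norm_num) hq1; omega
  · subst h; have := Nat.le_of_dvd (by norm_num) hq1; omega
  · subst h; have := Nat.le_of_dvd (by norm_num) hq1; omega
  · subst h
    have hq5' : q = 5 := by have := Nat.le_of_dvd (by norm_num) hq1; omega
    subst hq5'
    have hb1 : b = 1 := by
      by_contra hb1
      have hb2 : 2 ≤ b := by omega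
      have h25 : 5 ^ 2 ∣ Nat.card G := by
        rw [hG]; exact (Nat.pow_dvd_pow 5 hb2).mul_left 12
      have := h25.trans hfac
      norm_num [Nat.factorial] at this
    subst hb1
    rw [hG]; norm_num
  · subst h
    have hq11 : q = 11 := by
      have h11 : q ∣ 11 := hq1
      rcases (Nat.dvd_prime (by norm_num : Nat.Prime 11)).mp h11 with h | h
      · omega
      · exact h
    subst hq11
    have hb1 : b = 1 := by
      by_contra hb1
      have hb2 : 2 ≤ b := by omega
      have h121 : 11 ^ 2 ∣ Nat.card G := by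
        rw [hG]; exact (Nat.pow_dvd_pow 11 hb2).mul_left 12
      have := h121.trans hfac
      norm_num [Nat.factorial] at this
    subst hb1
    have h132 : Nat.card G = 132 := by rw [hG]; norm_num
    have := small_order hna (by rw [h132]; norm_num)
    omega

end Cfsg.Agent.Lib.Helper8.Sc
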