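import Mathlib
import Cfsg.Agent.Lib.Helper8.Sc1
import Cfsg.Agent.S4500
import Cfsg.Agent.S0165
import Cfsg.Agent.S0143
import Cfsg.Agent.Lib.Helper6.D8Cent3
import Cfsg.Agent.Lib.Helper6.BlkKer
import Cfsg.Agent.Lib.Helper6.Multiplicity

/-!
# S4501: existence of a faithful irreducible character of degree `4` and `2`-defect zero
-/

set_option autoImplicit false
set_option linter.style.haveILetI false

namespace Cfsg.Agent.Lib.Helper8.Sc

open Subgroup Cfsg Cfsg.Agent.Lib.Helper6
open scoped commutatorElement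

variable {G : Type*} [Group G] [Finite G] [IsSimpleGroup G]

omit [Finite G] in
/-- a nonabelian simple group is perfect -/
theorem perfect (hna : ∃ x y : G, x * y ≠ y * x) : commutator G = ⊤ := by
  rcases IsSimpleGroup.eq_bot_or_eq_top_of_normal (commutator G) inferInstance with h | h
  · exfalso
    obtain ⟨x, y, hxy⟩ := hna
    apply hxy
    have h1 : ⁅x, y⁆ ∈ commutator G :=
      Subgroup.commutator_mem_commutator (Subgroup.mem_top x) (Subgroup.mem_top y)
    rw [h, Subgroup.mem_bot, commutatorElement_eq_one_iff_mul_comm] at h1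
    exact h1
  · exact h

/-- a `2 × 2` complex matrix of square `1` and determinant `1` is scalar -/
theorem scalar_of_sq_one_det_one (A : Matrix (Fin 2) (Fin 2) ℂ) (h1 : A * A = 1)
    (hd : A.det = 1) : ∃ c : ℂ, A = c • (1 : Matrix (Fin 2) (Fin 2) ℂ) := by
  have e00 := congrFun (congrFun h1 0) 0
  have e01 := congrFun (congrFun h1 0) 1
  have e10 := congrFun (congrFun h1 1) 0
  have e11 := congrFun (congrFun h1 1) 1
  simp only [Matrix.mul_apply, Fin.sum_univ_two, Matrix.one_apply, Fin.isValue, if_true,
    one_ne_zero, zero_ne_one, if_false] at e00 e01 e10 e11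
  rw [Matrix.det_fin_two] at hd
  have hs : A 0 0 * (A 0 0 + A 1 1) = 2 := by linear_combination e00 + hd
  have hs0 : A 0 0 + A 1 1 ≠ 0 := by
    intro h; rw [h, mul_zero] at hs; norm_num at hs
  have hb : A 0 1 = 0 := by
    have : A 0 1 * (A 0 0 + A 1 1) = 0 := by linear_combination e01
    rcases mul_eq_zero.mp this with h | h
    · exact h
    · exact absurd h hs0
  have hc : A 1 0 = 0 := by
    have : A 1 0 * (A 0 0 + A 1 1) = 0 := by linear_combination e10
    rcases mul_eq_zero.mp this with h | h
    · exact h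
    · exact absurd h hs0
  have ha0 : A 0 0 ≠ 0 := by
    intro h; rw [h, zero_mul] at hs; norm_num at hs
  have hda : A 1 1 = A 0 0 := by
    have : A 0 0 * (A 1 1 - A 0 0) = 0 := by
      rw [hb, hc] at hd e00
      linear_combination hd - e00
    rcases mul_eq_zero.mp this with h | h
    · exact absurd h ha0
    · exact sub_eq_zero.mp h
  refine ⟨A 0 0, ?_⟩
  ext i j
  fin_cases i <;> fin_cases j <;> simp [hb, hc, hda]

/-- a nonabelian simple group has no irreducible character of degree `2` -/
theorem no_irr_degree_two (hna : ∃ x y : G, x * y ≠ y * x) {χ : G → ℂ}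
    (hχ : Cfsg.IsIrrCharacter G χ) (h2 : χ 1 = 2) : False := by
  classical
  have : Fintype G := Fintype.ofFinite G
  have hdvd := IsIrrCharacter.charDegree_dvd_card hχ
  have hdeg := IsCharacter.apply_one_eq_charDegree (IsIrrCharacter.isCharacter hχ)
  rw [h2] at hdeg
  have hdeg2 : Cfsg.charDegree χ = 2 := by exact_mod_cast hdeg.symm
  rw [hdeg2] at hdvd
  obtain ⟨n, ρ, hirr, rfl⟩ := hχ
  haveI := hirr
  have hn : n = 2 := by
    rw [Representation.char_one] at h2
    simp only [Module.finrank_fintype_fun_eq_card, Fintype.card_fin] at h2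
    exact_mod_cast h2
  subst hn
  haveI : Fact (Nat.Prime 2) := ⟨Nat.prime_two⟩
  obtain ⟨t, ht⟩ := exists_prime_orderOf_dvd_card' (G := G) 2 hdvd
  have ht1 : t ≠ 1 := by
    intro h; rw [h, orderOf_one] at ht; norm_num at ht
  have htt : t * t = 1 := by
    have := pow_orderOf_eq_one t
    rw [ht, pow_two] at this
    exact this
  -- the determinant is trivial
  let d : G →* ℂ :=
    (LinearMap.det : ((Fin 2 → ℂ) →ₗ[ℂ] (Fin 2 → ℂ)) →* ℂ).comp (ρ : G →* _)
  have hdt : d t = 1 := by
    rcases IsSimpleGroup.eq_bot_or_eq_top_of_normal d.ker (MonoidHom.normal_ker d) with h | h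
    · exfalso
      have hinj : Function.Injective d := (MonoidHom.ker_eq_bot_iff d).mp h
      apply not_comm hna
      intro a b
      apply hinj
      rw [map_mul, map_mul, mul_comm]
    · have : t ∈ d.ker := by rw [h]; trivial
      exact MonoidHom.mem_ker.mp this
  set A := LinearMap.toMatrix' (ρ t) with hA
  have hAA : A * A = 1 := by
    rw [hA, ← LinearMap.toMatrix'_mul, ← map_mul, htt, map_one, LinearMap.toMatrix'_one]
  have hAd : A.det = 1 := by
    rw [hA, LinearMap.det_toMatrix']
    exact hdt
  obtain ⟨c, hc⟩ := scalar_of_sq_one_det_one A hAA hAd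
  have hω : ρ t = c • (LinearMap.id : (Fin 2 → ℂ) →ₗ[ℂ] (Fin 2 → ℂ)) := by
    have h3 : Matrix.toLin' A = ρ t := by rw [hA, Matrix.toLin'_toMatrix']
    rw [← h3, hc, map_smul, Matrix.toLin'_one]
  have hne : ρ.character ≠ fun _ => (1 : ℂ) := by
    intro h
    rw [h] at h2
    norm_num at h2
  exact not_comm hna (Cfsg.Agent.S0143.comm_of_scalar t ht1 ρ hne c hω)

/-- In a nonabelian simple group of order `4 p^a q^b` (`p, q` odd, `a ≤ 2`) there is a faithful
irreducible character of degree `4`; it vanishes on the elements of even order. -/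
theorem exists_chi4 (hna : ∃ x y : G, x * y ≠ y * x) (p q a b : ℕ) (hp : p.Prime) (hq : q.Prime)
    (hp2 : p ≠ 2) (hq2 : q ≠ 2) (hpq : p ≠ q) (ha : a ≤ 2)
    (hG : Nat.card G = 4 * p ^ a * q ^ b) :
    ∃ χ : G → ℂ, Cfsg.IsIrrCharacter G χ ∧ χ 1 = 4 ∧ (∀ g : G, χ g = χ 1 → g = 1) ∧
      ∀ g : G, 2 ∣ orderOf g → χ g = 0 := by
  classical
  have : Fintype G := Fintype.ofFinite G
  obtain ⟨⟨⟨χ, hχ⟩, hne, k, hk⟩, -⟩ := Cfsg.Agent.S4500.result (G := G) p 2 q a 2 b hp
    Nat.prime_two hq hp2 hpq (Ne.symm hq2) ha (by rw [hG]; ring)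
  simp only at hne hk
  have hχc := IsIrrCharacter.isCharacter hχ
  have hdvd := IsIrrCharacter.charDegree_dvd_card hχ
  have hdeg := IsCharacter.apply_one_eq_charDegree hχc
  rw [hk] at hdvd hdeg
  -- `k ≤ 2`
  have hodd : Nat.Coprime (2 ^ k) (p ^ a * q ^ b) := by
    apply Nat.Coprime.pow_left
    apply Nat.Coprime.mul_right
    · exact Nat.Coprime.pow_right _ ((Nat.coprime_primes Nat.prime_two hp).mpr (Ne.symm hp2))
    · exact Nat.Coprime.pow_right _ ((Nat.coprime_primes Nat.prime_two hq).mpr (Ne.symm hq2))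
  have hk2 : k ≤ 2 := by
    have h4 : 2 ^ k ∣ 2 ^ 2 := by
      rw [hG, mul_assoc] at hdvd
      exact hodd.dvd_of_dvd_mul_right hdvd
    exact (Nat.pow_dvd_pow_iff_le_right (by norm_num)).mp h4
  have hk' : k = 0 ∨ k = 1 ∨ k = 2 := by omega
  rcases hk' with rfl | rfl | rfl
  · exfalso
    apply hne
    funext g
    exact D8C.linear_trivial_of_perfect (perfect hna) hχc (by rw [hdeg]; norm_num) g
  · exfalso
    exact no_irr_degree_two hna hχ (by rw [hdeg]; norm_num)
  · have h4 : χ 1 = 4 := by rw [hdeg]; norm_num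
    refine ⟨χ, hχ, h4, ?_, ?_⟩
    · intro g hg
      rcases (charKer_normal hχc).eq_bot_or_eq_top with h | h
      · have : g ∈ charKer hχc := (mem_charKer hχc g).mpr hg
        rw [h] at this
        exact Subgroup.mem_bot.mp this
      · exfalso
        have hall : ∀ x : G, χ x = χ 1 := fun x =>
          (mem_charKer hχc x).mp (h ▸ Subgroup.mem_top x)
        -- then `χ` is constant `4`, not irreducible
        obtain ⟨n, ρ, hirr, rfl⟩ := hχ
        haveI := hirr
        have h1 := classInner_irr_self ρ
        unfold Cfsg.classInner at h1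
        have h2 : ∑ x : G, ρ.character x * (starRingEnd ℂ) (ρ.character x) =
            (Nat.card G : ℂ) * 16 := by
          have h5 : ∀ x : G, ρ.character x * (starRingEnd ℂ) (ρ.character x) = 16 := by
            intro x
            rw [hall x, h4, map_ofNat]
            norm_num
          rw [Finset.sum_congr rfl (fun x _ => h5 x), Finset.sum_const, Finset.card_univ,
            ← Nat.card_eq_fintype_card, nsmul_eq_mul]
        rw [h2] at h1
        have hG0 : (Nat.card G : ℂ) ≠ 0 := by exact_mod_cast (Nat.card_pos (α := G)).ne'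
        have h3 : (16 : ℂ) = 1 := by
          field_simp at h1
          linear_combination h1
        norm_num at h3
    · intro g hg
      obtain ⟨n, ρ, hirr, rfl⟩ := hχ
      haveI := hirr
      have hn : Module.finrank ℂ (Fin n → ℂ) = 4 := by
        rw [Representation.char_one] at h4
        exact_mod_cast h4
      refine Cfsg.Agent.S0165.result ρ 2 2 Nat.prime_two ?_ ?_ ?_ g hg
      · rw [hG, mul_assoc]; exact Dvd.intro _ rfl
      · intro h8
        rw [hG, mul_assoc] at h8
        have hodd3 : Nat.Coprime (2 ^ 3) (p ^ a * q ^ b) := by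
          apply Nat.Coprime.pow_left
          apply Nat.Coprime.mul_right
          · exact Nat.Coprime.pow_right _
              ((Nat.coprime_primes Nat.prime_two hp).mpr (Ne.symm hp2))
          · exact Nat.Coprime.pow_right _
              ((Nat.coprime_primes Nat.prime_two hq).mpr (Ne.symm hq2))
        have : 2 ^ 3 ∣ 4 := hodd3.dvd_of_dvd_mul_right h8
        norm_num at this
      · rw [hn]; norm_num

end Cfsg.Agent.Lib.Helper8.Sc
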