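import Mathlib
import Cfsg.Agent.Lib.Helper8.Sc2
import Cfsg.Agent.Lib.Helper8.Sc3
import Cfsg.Agent.Lib.Helper3.XT9

/-!
# S4501: case (4A2), `|G| = 36 q^b`
-/

set_option autoImplicit false
set_option linter.style.haveILetI false

namespace Cfsg.Agent.Lib.Helper8.Sc

open Subgroup Cfsg Cfsg.Agent.Lib.Helper6

variable {G : Type*} [Group G] [Finite G] [IsSimpleGroup G]

omit [Finite G] [IsSimpleGroup G] in
theorem charDegree_eq_four {χ : G → ℂ} (h4 : χ 1 = 4) : Cfsg.charDegree χ = 4 := by
  unfold Cfsg.charDegree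
  rw [h4]
  simp

/-- a self-normalizing abelian Sylow subgroup is impossible in a nonabelian simple group -/
theorem false_of_abelian_self_normalizing (hna : ∃ x y : G, x * y ≠ y * x) {r : ℕ}
    [Fact r.Prime] (R : Sylow r G) (hr : r ∣ Nat.card G)
    (hab : ∀ a ∈ (R : Subgroup G), ∀ b ∈ (R : Subgroup G), a * b = b * a)
    (hidx : Nat.card (Sylow r G) = (R : Subgroup G).index) : False := by
  apply burnside_transfer hna R hr
  have h1 : (normalizer ((R : Subgroup G) : Set G)).index = (R : Subgroup G).index := by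
    rw [← hidx]; exact (Sylow.card_eq_index_normalizer R).symm
  have h2 := Subgroup.relIndex_mul_index (le_normalizer (H := (R : Subgroup G)))
  rw [h1] at h2
  have hpos : 0 < (R : Subgroup G).index := Nat.pos_of_ne_zero (Subgroup.index_ne_zero_of_finite)
  have h3 : (R : Subgroup G).relIndex (normalizer ((R : Subgroup G) : Set G)) = 1 := by
    have : (R : Subgroup G).relIndex (normalizer ((R : Subgroup G) : Set G)) *
        (R : Subgroup G).index = 1 * (R : Subgroup G).index := by rw [h2, one_mul]
    exact Nat.eq_of_mul_eq_mul_right hpos this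
  have h4 : normalizer ((R : Subgroup G) : Set G) ≤ (R : Subgroup G) := relIndex_eq_one.mp h3
  intro x hx
  rw [mem_centralizer_iff]
  intro y hy
  exact hab y hy x (h4 hx)

/-- case (4A2): no nonabelian simple group of order `36 q^b` -/
theorem case_4A2 (hna : ∃ x y : G, x * y ≠ y * x) (q b : ℕ) (hq : q.Prime) (hq5 : 5 ≤ q)
    (hG : Nat.card G = 36 * q ^ b) : False := by
  haveI : Fact q.Prime := ⟨hq⟩
  have hb : 1 ≤ b := by
    by_contra hb
    have hb0 : b = 0 := by omega
    subst hb0
    exact not_two_primes hna 2 3 2 2 Nat.prime_two Nat.prime_three (by rw [hG]; norm_num)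
  have hqG : q ∣ Nat.card G := by rw [hG]; exact (dvd_pow_self q (by omega)).mul_left 36
  obtain ⟨χ, hχ, h4, hfaith, -⟩ := exists_chi4 hna 3 q 2 b Nat.prime_three hq (by norm_num)
    (by omega) (by omega) le_rfl (by rw [hG]; norm_num)
  have hn1 := card_sylow_ne_one hna q hqG
  have hmod : Nat.card (Sylow q G) ≡ 1 [MOD q] := card_sylow_modEq_one q G
  obtain ⟨Q⟩ : Nonempty (Sylow q G) := inferInstance
  have hab : ∀ a ∈ (Q : Subgroup G), ∀ b ∈ (Q : Subgroup G), a * b = b * a :=
    Cfsg.Agent.Lib.Helper3.XT.comm_of_faithful_small (IsIrrCharacter.isCharacter hχ) hfaith q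
      (by rw [charDegree_eq_four h4]; omega) (Q : Subgroup G) Q.2
  have hq36 : ¬ q ∣ 36 := by
    intro h
    have h36 : (36 : ℕ) = 2 ^ 2 * 3 ^ 2 := by norm_num
    rw [h36] at h
    rcases (Nat.Prime.dvd_mul hq).mp h with h | h
    · have := (Nat.prime_dvd_prime_iff_eq hq Nat.prime_two).mp (hq.dvd_of_dvd_pow h); omega
    · have := (Nat.prime_dvd_prime_iff_eq hq Nat.prime_three).mp (hq.dvd_of_dvd_pow h); omega
  have hidx : (Q : Subgroup G).index = 36 :=
    sylow_index_of_eq q b 36 (by rw [hG]; ring) hq36 Q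
  have hdvd : Nat.card (Sylow q G) ∣ 36 := by rw [← hidx]; exact Sylow.card_dvd_index Q
  have hfac := card_dvd_factorial_sylow (G := G) q hn1
  have hself : Nat.card (Sylow q G) = 36 → False := fun h =>
    false_of_abelian_self_normalizing hna Q hqG hab (by rw [h, hidx])
  set n := Nat.card (Sylow q G) with hn
  have hnpos : 1 ≤ n := Nat.card_pos
  have hq1 : q ∣ n - 1 := (Nat.modEq_iff_dvd' hnpos).mp hmod.symm
  have hmem : n ∈ Nat.divisors 36 := Nat.mem_divisors.mpr ⟨hdvd, by norm_num⟩
  have h36 : Nat.divisors 36 = {1, 2, 3, 4, 6, 9, 12, 18, 36} := by decide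
  rw [h36] at hmem
  simp only [Finset.mem_insert, Finset.mem_singleton] at hmem
  -- the three small cases
  have small : ∀ q' : ℕ, q = q' → Nat.card G ∣ n.factorial → ¬ q' ^ 2 ∣ n.factorial →
      36 * q' ≤ 1092 → 36 * q' ≠ 60 → 36 * q' ≠ 168 → 36 * q' ≠ 360 → 36 * q' ≠ 504 →
      36 * q' ≠ 660 → 36 * q' ≠ 1092 → False := by
    intro q' hqq hf hnd hle h1 h2 h3 h4' h5 h6
    subst hqq
    have hb1 : b = 1 := by
      by_contra hb1
      have hb2 : 2 ≤ b := by omega
      have hsq : q ^ 2 ∣ Nat.card G := by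
        rw [hG]; exact (Nat.pow_dvd_pow q hb2).mul_left 36
      exact hnd (hsq.trans hf)
    subst hb1
    have hc : Nat.card G = 36 * q := by rw [hG, pow_one]
    have := small_order hna (by rw [hc]; exact hle)
    rw [hc] at this
    omega
  clear_value n
  rcases hmem with h | h | h | h | h | h | h | h | h
  · exact absurd h hn1
  · subst h; have := Nat.le_of_dvd (by norm_num) hq1; omega
  · subst h; have := Nat.le_of_dvd (by norm_num) hq1; omega
  · subst h; have := Nat.le_of_dvd (by norm_num) hq1; omega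
  · subst h
    have hq5' : q = 5 := by have := Nat.le_of_dvd (by norm_num) hq1; omega
    exact small 5 hq5' hfac (by norm_num [Nat.factorial]) (by norm_num) (by norm_num)
      (by norm_num) (by norm_num) (by norm_num) (by norm_num) (by norm_num)
  · subst h
    exfalso
    have h8 : q ∣ 2 ^ 3 := hq1
    have := (Nat.prime_dvd_prime_iff_eq hq Nat.prime_two).mp (hq.dvd_of_dvd_pow h8)
    omega
  · subst h
    have hq11 : q = 11 := by
      have h11 : q ∣ 11 := hq1
      rcases (Nat.dvd_prime (by norm_num : Nat.Prime 11)).mp h11 with h | h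
      · omega
      · exact h
    exact small 11 hq11 hfac (by norm_num [Nat.factorial]) (by norm_num) (by norm_num)
      (by norm_num) (by norm_num) (by norm_num) (by norm_num) (by norm_num)
  · subst h
    have hq17 : q = 17 := by
      have h17 : q ∣ 17 := hq1
      rcases (Nat.dvd_prime (by norm_num : Nat.Prime 17)).mp h17 with h | h
      · omega
      · exact h
    exact small 17 hq17 hfac (by norm_num [Nat.factorial]) (by norm_num) (by norm_num)
      (by norm_num) (by norm_num) (by norm_num) (by norm_num) (by norm_num)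
  · exact hself h

end Cfsg.Agent.Lib.Helper8.Sc
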