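import Mathlib
import Cfsg.Agent.Lib.Helper8.Sc4
import Cfsg.Agent.Lib.Helper3.M11Red1

/-!
# S0984 (simple groups of order 2520), piece F2a: the normalizer of a Sylow `3`-subgroup
-/

set_option autoImplicit false
set_option linter.style.haveILetI false

namespace Cfsg.Agent.Lib.Helper8.A7n

open Subgroup Cfsg.Agent.Lib.Helper8.Sc

/-- an element whose order is `r * s` with `r` prime, `r ∥ |G|`, lies in the centralizer of a
Sylow `r`-subgroup -/
theorem exists_sylow_centralizer_of_orderOf {G : Type*} [Group G] [Finite G] (r s m : ℕ)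
    [hr : Fact r.Prime] (hG : Nat.card G = r * m) (hm : ¬ r ∣ m) (g : G)
    (hg : orderOf g = r * s) :
    ∃ P : Sylow r G, g ∈ centralizer ((P : Subgroup G) : Set G) := by
  have hs0 : s ≠ 0 := by
    rintro rfl
    rw [mul_zero] at hg
    exact (orderOf_pos g).ne' hg
  set y := g ^ s with hy
  have hyo : orderOf y = r := by
    rw [hy, orderOf_pow' g hs0, hg, Nat.gcd_eq_right (dvd_mul_left s r)]
    exact Nat.mul_div_cancel _ (Nat.pos_of_ne_zero hs0)
  have hzp : IsPGroup r (zpowers y) := by
    rw [IsPGroup.iff_card]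
    exact ⟨1, by rw [Nat.card_zpowers, hyo, pow_one]⟩
  obtain ⟨P, hP⟩ := hzp.exists_le_sylow
  have hPc : Nat.card P = r := by
    have := Cfsg.Agent.Lib.Helper4.sylow_card_of_eq r 1 m (by rw [hG, pow_one]) hm P
    rw [this, pow_one]
  have hPeq : zpowers y = (P : Subgroup G) := by
    apply Subgroup.eq_of_le_of_card_ge hP
    rw [Nat.card_zpowers, hyo]
    exact hPc.le
  refine ⟨P, ?_⟩
  rw [mem_centralizer_iff]
  intro h hh
  have hh' : h ∈ zpowers y := by rw [hPeq]; exact hh
  obtain ⟨k, rfl⟩ := mem_zpowers_iff.mp hh'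
  have hc : Commute g y := (Commute.refl g).pow_right s
  exact ((hc.zpow_right k).eq).symm

theorem card_normalizer_sylow3 {G : Type*} [Group G] [Fintype G] [IsSimpleGroup G]
    (hG : Nat.card G = 2520)
    (hC7 : ∀ P : Sylow 7 G, Nat.card (Subgroup.centralizer ((P : Subgroup G) : Set G)) = 7)
    (hC5 : ∀ P : Sylow 5 G, Nat.card (Subgroup.centralizer ((P : Subgroup G) : Set G)) = 5)
    (Q : Sylow 3 G) :
    Nat.card (Subgroup.normalizer ((Q : Subgroup G) : Set G)) = 36 ∨
      Nat.card (Subgroup.normalizer ((Q : Subgroup G) : Set G)) = 360 := by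
  haveI : Fact (Nat.Prime 3) := ⟨Nat.prime_three⟩
  haveI : Fact (Nat.Prime 5) := ⟨by norm_num⟩
  haveI : Fact (Nat.Prime 7) := ⟨by norm_num⟩
  have hna : ∃ x y : G, x * y ≠ y * x := by
    by_contra h
    push Not at h
    have := Cfsg.Agent.S0143.prime_card_of_comm (G := G) h
    rw [hG] at this
    norm_num at this
  have h3G : 3 ∣ Nat.card G := by rw [hG]; norm_num
  have hQc : Nat.card Q = 3 ^ 2 :=
    Cfsg.Agent.Lib.Helper4.sylow_card_of_eq 3 2 280 (by rw [hG]; norm_num) (by norm_num) Q
  have hQidx : (Q : Subgroup G).index = 280 :=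
    sylow_index_of_eq 3 2 280 (by rw [hG]; norm_num) (by norm_num) Q
  have hn1 := card_sylow_ne_one hna 3 h3G
  have hmod : Nat.card (Sylow 3 G) ≡ 1 [MOD 3] := card_sylow_modEq_one 3 G
  have hdvd : Nat.card (Sylow 3 G) ∣ 280 := by rw [← hQidx]; exact Sylow.card_dvd_index Q
  have hfac := card_dvd_factorial_sylow (G := G) 3 hn1
  have hidxN : Nat.card (Sylow 3 G) = (normalizer ((Q : Subgroup G) : Set G)).index :=
    Sylow.card_eq_index_normalizer Q
  have hmul := (normalizer ((Q : Subgroup G) : Set G)).card_mul_index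
  rw [← hidxN, hG] at hmul
  have hab : ∀ a ∈ (Q : Subgroup G), ∀ b ∈ (Q : Subgroup G), a * b = b * a := by
    have : IsMulCommutative (Q : Subgroup G) :=
      IsPGroup.isMulCommutative_of_card_eq_prime_sq (p := 3) hQc
    intro a ha b hb
    exact setLike_mul_comm ha hb
  have hself : Nat.card (Sylow 3 G) = 280 → False := fun h =>
    false_of_abelian_self_normalizing hna Q h3G hab (by rw [h, hQidx])
  -- elements of order `3 * 7` and `3 * 5` do not exist
  have no21 : ¬ ∃ g : G, orderOf g = 3 * 7 := by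
    rintro ⟨g, hg⟩
    obtain ⟨P, hP⟩ := exists_sylow_centralizer_of_orderOf 7 3 360 (by rw [hG]) (by norm_num) g
      (by rw [hg])
    have h1 : orderOf g ∣ Nat.card (centralizer ((P : Subgroup G) : Set G)) := by
      have := Subgroup.orderOf_dvd_natCard _ hP
      exact this
    rw [hC7 P, hg] at h1
    norm_num at h1
  have no15 : ¬ ∃ g : G, orderOf g = 3 * 5 := by
    rintro ⟨g, hg⟩
    obtain ⟨P, hP⟩ := exists_sylow_centralizer_of_orderOf 5 3 504 (by rw [hG]) (by norm_num) g
      (by rw [hg])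
    have h1 : orderOf g ∣ Nat.card (centralizer ((P : Subgroup G) : Set G)) :=
      Subgroup.orderOf_dvd_natCard _ hP
    rw [hC5 P, hg] at h1
    norm_num at h1
  have hQp : IsPGroup 3 (Q : Subgroup G) := Q.2
  have hQc' : Nat.card (Q : Subgroup G) = 9 := by
    rw [show Nat.card (Q : Subgroup G) = 3 ^ 2 from hQc]; norm_num
  have kill7 : 7 ∣ Nat.card (normalizer ((Q : Subgroup G) : Set G)) → False := by
    intro h7
    apply no21
    exact Cfsg.Agent.Lib.Helper3.M11Red.exists_orderOf_of_dvd_normalizer (p := 3) (q := 7)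
      (by norm_num) (Q : Subgroup G) hQp 1 (by rw [pow_one]; exact h7)
      (by rw [hQc', pow_one]; norm_num)
  have kill5 : 5 ∣ Nat.card (normalizer ((Q : Subgroup G) : Set G)) → False := by
    intro h5
    apply no15
    exact Cfsg.Agent.Lib.Helper3.M11Red.exists_orderOf_of_dvd_normalizer (p := 3) (q := 5)
      (by norm_num) (Q : Subgroup G) hQp 1 (by rw [pow_one]; exact h5)
      (by rw [hQc', pow_one]; norm_num)
  set n := Nat.card (Sylow 3 G) with hn
  set N := Nat.card (normalizer ((Q : Subgroup G) : Set G)) with hN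
  have hmem : n ∈ Nat.divisors 280 := Nat.mem_divisors.mpr ⟨hdvd, by norm_num⟩
  have h280 : Nat.divisors 280 =
      {1, 2, 4, 5, 7, 8, 10, 14, 20, 28, 35, 40, 56, 70, 140, 280} := by decide
  rw [h280] at hmem
  simp only [Finset.mem_insert, Finset.mem_singleton] at hmem
  have hmod' : n % 3 = 1 := hmod
  clear_value n N
  rcases hmem with h | h | h | h | h | h | h | h | h | h | h | h | h | h | h | h <;> subst h <;>
    try omega
  · -- `n = 4`
    exfalso
    rw [hG] at hfac
    norm_num [Nat.factorial] at hfac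
  · -- `n = 10`
    exfalso; apply kill7; exact ⟨36, by omega⟩
  · -- `n = 28`
    exfalso; apply kill5; exact ⟨18, by omega⟩
  · -- `n = 40`
    exfalso; apply kill7; exact ⟨9, by omega⟩
  · -- `n = 280`
    exact (hself rfl).elim

end Cfsg.Agent.Lib.Helper8.A7n
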