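import Mathlib

set_option autoImplicit false

/-! S4033 farm: definitions (two `p`-regular class sizes). -/

namespace Cfsg.Agent.Lib.Helper8.PR

variable {G : Type*} [Group G]

/-- class size of `x` = index of its centralizer -/
noncomputable def idx (x : G) : ℕ := (Subgroup.centralizer ({x} : Set G)).index

/-- `x` is `p`-regular -/
def PReg (p : ℕ) (x : G) : Prop := (orderOf x).Coprime p

/-- `x` has `r`-power order -/
def IsPow (r : ℕ) (x : G) : Prop := ∃ k : ℕ, orderOf x = r ^ k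

/-- the hypothesis: every noncentral `p`-regular element has class size `m` -/
structure Hyp (G : Type*) [Group G] (p m : ℕ) : Prop where
  hp : p.Prime
  hm : 1 < m
  cls : ∀ x : G, PReg p x → x ∈ Subgroup.center G ∨ idx x = m

/-- `r ∈ ρ`: a prime `r ≠ p` with a noncentral `r`-element -/
def InRho (G : Type*) [Group G] (p r : ℕ) : Prop :=
  r.Prime ∧ r ≠ p ∧ ∃ x : G, x ∉ Subgroup.center G ∧ IsPow r x

/-- `|ρ| ≥ 2` -/
def TwoRho (G : Type*) [Group G] (p : ℕ) : Prop :=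
  ∃ q r : ℕ, q ≠ r ∧ InRho G p q ∧ InRho G p r

theorem PReg.one (p : ℕ) : PReg p (1 : G) := by
  simp [PReg]

theorem PReg.inv {p : ℕ} {x : G} (h : PReg p x) : PReg p x⁻¹ := by
  simpa [PReg] using h

theorem PReg.mul {p : ℕ} {x y : G} (hx : PReg p x) (hy : PReg p y) (hc : x * y = y * x) :
    PReg p (x * y) := by
  unfold PReg at *
  have h1 : orderOf (x * y) ∣ Nat.lcm (orderOf x) (orderOf y) :=
    Commute.orderOf_mul_dvd_lcm hc
  have h2 : (Nat.lcm (orderOf x) (orderOf y)).Coprime p := by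
    apply Nat.Coprime.coprime_dvd_left (Nat.lcm_dvd_mul _ _)
    exact Nat.Coprime.mul_left hx hy
  exact Nat.Coprime.coprime_dvd_left h1 h2

theorem PReg.pow {p : ℕ} {x : G} (h : PReg p x) (n : ℕ) : PReg p (x ^ n) :=
  Nat.Coprime.coprime_dvd_left (orderOf_pow_dvd n) h

theorem PReg.conj {p : ℕ} {x : G} (h : PReg p x) (g : G) : PReg p (g * x * g⁻¹) := by
  unfold PReg at *
  have : orderOf (g * x * g⁻¹) = orderOf x := by
    have := orderOf_injective (MulAut.conj g).toMonoidHom (MulAut.conj g).injective x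
    simpa using this
  rwa [this]

/-- `B_g`: the `p`-regular elements of `Z(C_G(g))` -/
def BB (p : ℕ) (g : G) : Subgroup G where
  carrier := {b | b ∈ Subgroup.centralizer ({g} : Set G) ∧
    (∀ c ∈ Subgroup.centralizer ({g} : Set G), c * b = b * c) ∧ PReg p b}
  one_mem' := ⟨Subgroup.one_mem _, fun c _ => by simp, PReg.one p⟩
  mul_mem' := by
    rintro a b ⟨ha, hac, hap⟩ ⟨hb, hbc, hbp⟩
    refine ⟨Subgroup.mul_mem _ ha hb, fun c hc => ?_, PReg.mul hap hbp (hbc a ha)⟩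
    rw [← mul_assoc, hac c hc, mul_assoc, hbc c hc, ← mul_assoc]
  inv_mem' := by
    rintro a ⟨ha, hac, hap⟩
    refine ⟨Subgroup.inv_mem _ ha, fun c hc => ?_, hap.inv⟩
    have := hac c hc
    calc c * a⁻¹ = a⁻¹ * (a * c) * a⁻¹ := by group
      _ = a⁻¹ * (c * a) * a⁻¹ := by rw [this]
      _ = a⁻¹ * c := by group

theorem mem_BB {p : ℕ} {g b : G} : b ∈ BB p g ↔ b ∈ Subgroup.centralizer ({g} : Set G) ∧
    (∀ c ∈ Subgroup.centralizer ({g} : Set G), c * b = b * c) ∧ PReg p b := Iff.rfl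

theorem BB_comm {p : ℕ} {g a b : G} (ha : a ∈ BB p g) (hb : b ∈ BB p g) : a * b = b * a :=
  hb.2.1 a ha.1

/-- `Z' = Z(G)_{p'}` -/
def Zp (G : Type*) [Group G] (p : ℕ) : Subgroup G where
  carrier := {z | z ∈ Subgroup.center G ∧ PReg p z}
  one_mem' := ⟨Subgroup.one_mem _, PReg.one p⟩
  mul_mem' := by
    rintro a b ⟨ha, hap⟩ ⟨hb, hbp⟩
    exact ⟨Subgroup.mul_mem _ ha hb, PReg.mul hap hbp (Subgroup.mem_center_iff.mp hb a)⟩
  inv_mem' := by
    rintro a ⟨ha, hap⟩
    exact ⟨Subgroup.inv_mem _ ha, hap.inv⟩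

theorem mem_Zp {p : ℕ} {z : G} : z ∈ Zp G p ↔ z ∈ Subgroup.center G ∧ PReg p z := Iff.rfl

theorem Zp_le_center (p : ℕ) : Zp G p ≤ Subgroup.center G := fun _ h => h.1

instance Zp_normal (p : ℕ) : (Zp G p).Normal where
  conj_mem := by
    intro z hz g
    have : g * z * g⁻¹ = z := by
      rw [Subgroup.mem_center_iff.mp hz.1 g]; group
    rw [this]; exact hz

end Cfsg.Agent.Lib.Helper8.PR
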