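import Mathlib
import Cfsg.Prelude.Def_Classical

/-! Transport of the special unitary and symplectic groups along an isomorphism of fields, and of
central quotients along an isomorphism of groups. -/

set_option autoImplicit false

namespace Cfsg.Agent.Lib.Helper8.Usp

open Matrix

section Transport

variable {F F' : Type*} [Field F] [Field F']

/-- special linear groups over isomorphic fields -/
def slEquiv (n : ℕ) (e : F ≃+* F') :
    SpecialLinearGroup (Fin n) F ≃* SpecialLinearGroup (Fin n) F' where
  toFun := SpecialLinearGroup.map (e : F →+* F')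
  invFun := SpecialLinearGroup.map (e.symm : F' →+* F)
  left_inv A := by
    apply Subtype.ext
    ext i j
    show e.symm (e (A.1 i j)) = A.1 i j
    simp
  right_inv A := by
    apply Subtype.ext
    ext i j
    show e (e.symm (A.1 i j)) = A.1 i j
    simp
  map_mul' := map_mul _

theorem slEquiv_coe (n : ℕ) (e : F ≃+* F') (A : SpecialLinearGroup (Fin n) F) :
    ((slEquiv n e A : SpecialLinearGroup (Fin n) F') : Matrix (Fin n) (Fin n) F') =
      (A : Matrix (Fin n) (Fin n) F).map e := rfl

theorem map_mulVec_equiv (e : F ≃+* F') {ι : Type*} [Fintype ι] (A : Matrix ι ι F) (u : ι → F) :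
    (A.map e) *ᵥ (fun i => e (u i)) = fun i => e ((A *ᵥ u) i) := by
  ext i
  simp [Matrix.mulVec, dotProduct, map_sum, map_mul]

theorem hermForm_map (e : F ≃+* F') (n q : ℕ) (u v : Fin n → F) :
    Cfsg.hermForm n F' q (fun i => e (u i)) (fun i => e (v i)) = e (Cfsg.hermForm n F q u v) := by
  simp [Cfsg.hermForm, map_sum, map_mul, map_pow]

theorem mem_SU_of_mem (n q : ℕ) (e : F ≃+* F') (A : SpecialLinearGroup (Fin n) F)
    (h : A ∈ Cfsg.SU n F q) : slEquiv n e A ∈ Cfsg.SU n F' q := by
  intro u v
  have hu : u = fun i => e (e.symm (u i)) := by ext i; simp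
  have hv : v = fun i => e (e.symm (v i)) := by ext i; simp
  have h1 := h (fun i => e.symm (u i)) (fun i => e.symm (v i))
  show Cfsg.hermForm n F' q ((A : Matrix (Fin n) (Fin n) F).map e *ᵥ u)
    ((A : Matrix (Fin n) (Fin n) F).map e *ᵥ v) = Cfsg.hermForm n F' q u v
  rw [hu, hv, map_mulVec_equiv, map_mulVec_equiv, hermForm_map, hermForm_map]
  exact congrArg e h1

theorem slEquiv_symm (n : ℕ) (e : F ≃+* F') : (slEquiv n e).symm = slEquiv n e.symm := rfl

/-- special unitary groups over isomorphic fields -/
def suEquiv (n q : ℕ) (e : F ≃+* F') : Cfsg.SU n F q ≃* Cfsg.SU n F' q where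
  toFun A := ⟨slEquiv n e A.1, mem_SU_of_mem n q e A.1 A.2⟩
  invFun B := ⟨slEquiv n e.symm B.1, mem_SU_of_mem n q e.symm B.1 B.2⟩
  left_inv A := Subtype.ext ((slEquiv n e).symm_apply_apply A.1)
  right_inv B := Subtype.ext ((slEquiv n e).apply_symm_apply B.1)
  map_mul' A B := Subtype.ext (map_mul (slEquiv n e) A.1 B.1)

variable {l : Type*} [Fintype l] [DecidableEq l]

theorem J_map (e : F ≃+* F') : (J l F).map e = J l F' := by
  ext i j
  rcases i with i | i <;> rcases j with j | j <;> simp [J, Matrix.one_apply, apply_ite]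

theorem mem_sp_map (e : F ≃+* F') (A : Matrix (l ⊕ l) (l ⊕ l) F) (h : A ∈ symplecticGroup l F) :
    A.map e ∈ symplecticGroup l F' := by
  rw [SymplecticGroup.mem_iff] at h ⊢
  have hm : ∀ L M : Matrix (l ⊕ l) (l ⊕ l) F, (L * M).map e = L.map e * M.map e := by
    intro L M
    have := Matrix.map_mul (L := L) (M := M) (f := (e : F →+* F'))
    simpa only [RingEquiv.coe_toRingHom] using this
  calc A.map e * J l F' * (A.map e)ᵀ = A.map e * (J l F).map e * (Aᵀ).map e := by
        rw [J_map, Matrix.transpose_map]
    _ = (A * J l F * Aᵀ).map e := by rw [hm, hm]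
    _ = J l F' := by rw [h, J_map]

/-- symplectic groups over isomorphic fields -/
def spEquiv (e : F ≃+* F') : symplecticGroup l F ≃* symplecticGroup l F' where
  toFun A := ⟨A.1.map e, mem_sp_map e A.1 A.2⟩
  invFun B := ⟨B.1.map e.symm, mem_sp_map e.symm B.1 B.2⟩
  left_inv A := by
    apply Subtype.ext
    ext i j
    simp
  right_inv B := by
    apply Subtype.ext
    ext i j
    simp
  map_mul' A B := by
    apply Subtype.ext
    have := Matrix.map_mul (L := A.1) (M := B.1) (f := (e : F →+* F'))
    simp only [RingEquiv.coe_toRingHom] at this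
    exact this

end Transport

theorem center_map_equiv {G H : Type*} [Group G] [Group H] (e : G ≃* H) :
    (Subgroup.center G).map (e : G →* H) = Subgroup.center H := by
  ext x
  constructor
  · rintro ⟨y, hy, rfl⟩
    rw [Subgroup.mem_center_iff]
    intro g
    have := (Subgroup.mem_center_iff.1 hy) (e.symm g)
    have h2 := congrArg e this
    rw [map_mul, map_mul, MulEquiv.apply_symm_apply] at h2
    exact h2
  · intro h
    refine ⟨e.symm x, ?_, e.apply_symm_apply x⟩
    show e.symm x ∈ Subgroup.center G
    rw [Subgroup.mem_center_iff]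
    intro g
    have := (Subgroup.mem_center_iff.1 h) (e g)
    apply e.injective
    rw [map_mul, map_mul, MulEquiv.apply_symm_apply]
    exact this

/-- central quotients of isomorphic groups -/
noncomputable def centerQuotCongr {G H : Type*} [Group G] [Group H] (e : G ≃* H) :
    G ⧸ Subgroup.center G ≃* H ⧸ Subgroup.center H :=
  QuotientGroup.congr (Subgroup.center G) (Subgroup.center H) e (center_map_equiv e)

end Cfsg.Agent.Lib.Helper8.Usp
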