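import Mathlib
import Cfsg.Agent.Lib.Helper9.D3670Defs
import Cfsg.Agent.Lib.Helper1.GlaubermanRepl3

/-! S3670 farm, unit A1: group theory of `BData` (`B = U⟨t⟩`, `|B| = 216`, `k` odd). -/

set_option autoImplicit false

namespace Cfsg.Agent.Lib.Helper9.D3670

universe u
variable {G : Type u} [Group G]

theorem h8_t_pow_eight (D : BData G) : D.t ^ 8 = 1 := by
  rw [← D.ordt]; exact pow_orderOf_eq_one _

/-- powers of `t` conjugate `U` into itself -/
theorem h8_pow_conj_mem (D : BData G) (n : ℕ) {u : G} (hu : u ∈ D.U) :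
    D.t ^ n * u * (D.t ^ n)⁻¹ ∈ D.U := by
  induction n with
  | zero => simpa using hu
  | succ n ih =>
    have h := D.tU _ ih
    have h2 : D.t ^ (n + 1) * u * (D.t ^ (n + 1))⁻¹ = D.t * (D.t ^ n * u * (D.t ^ n)⁻¹) * D.t⁻¹ := by
      rw [pow_succ']; group
    rw [h2]; exact h

theorem h8_t_mem_normalizer (D : BData G) : D.t ∈ Subgroup.normalizer (D.U : Set G) := by
  rw [Subgroup.mem_normalizer_iff]
  intro u
  constructor
  · exact D.tU u
  · intro h
    have h2 := h8_pow_conj_mem D 7 h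
    have h3 : D.t ^ 7 * (D.t * u * D.t⁻¹) * (D.t ^ 7)⁻¹ = u := by
      have h8 := h8_t_pow_eight D
      have h7 : D.t ^ 7 = D.t⁻¹ := by
        apply eq_inv_of_mul_eq_one_left
        rw [← pow_succ]; exact h8
      rw [h7]; group
    rwa [h3] at h2

theorem h8_zpowers_le_normalizer (D : BData G) :
    Subgroup.zpowers D.t ≤ Subgroup.normalizer (D.U : Set G) :=
  Subgroup.zpowers_le.mpr (h8_t_mem_normalizer D)

/-- `U ∩ ⟨t⟩ = 1` -/
theorem h8_inf_eq_bot (D : BData G) : Subgroup.zpowers D.t ⊓ D.U = ⊥ := by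
  rw [eq_bot_iff]
  rintro x ⟨hx1, hx2⟩
  rw [Subgroup.mem_bot]
  apply D.fpf x hx2
  obtain ⟨n, rfl⟩ := Subgroup.mem_zpowers_iff.mp hx1
  exact ((Commute.refl D.t).zpow_right n).eq

/-- every power of `t` is `t ^ i` with `i < 8` -/
theorem h8_zpow_eq (D : BData G) (n : ℤ) : ∃ i : ℕ, i < 8 ∧ D.t ^ n = D.t ^ i := by
  refine ⟨(n % 8).toNat, ?_, ?_⟩
  · have h1 : n % 8 < 8 := Int.emod_lt_of_pos n (by norm_num)
    have h2 : 0 ≤ n % 8 := Int.emod_nonneg n (by norm_num)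
    omega
  · have h2 : 0 ≤ n % 8 := Int.emod_nonneg n (by norm_num)
    have h3 : D.t ^ n = D.t ^ (n % 8) := by
      have := zpow_mod_orderOf D.t n
      rw [D.ordt] at this
      exact_mod_cast this.symm
    rw [h3, ← zpow_natCast, Int.toNat_of_nonneg h2]

/-- A1a: elements of `B` are `u * t ^ i`. -/
theorem mem_B_iff (D : BData G) (g : G) :
    g ∈ D.B ↔ ∃ u ∈ D.U, ∃ i : ℕ, i < 8 ∧ g = u * D.t ^ i := by
  have hset := Subgroup.coe_mul_of_right_le_normalizer_left D.U (Subgroup.zpowers D.t)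
    (h8_zpowers_le_normalizer D)
  constructor
  · intro hg
    have hg' : g ∈ ((D.U ⊔ Subgroup.zpowers D.t : Subgroup G) : Set G) := hg
    rw [hset] at hg'
    obtain ⟨u, hu, z, hz, rfl⟩ := hg'
    obtain ⟨n, rfl⟩ := Subgroup.mem_zpowers_iff.mp hz
    obtain ⟨i, hi, hni⟩ := h8_zpow_eq D n
    exact ⟨u, hu, i, hi, by simp only [hni]⟩
  · rintro ⟨u, hu, i, -, rfl⟩
    exact D.B.mul_mem (D.U_le_B hu) (D.B.pow_mem D.t_mem_B i)

/-- A1b: uniqueness of the decomposition. -/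
theorem B_decomp_unique (D : BData G) {u u' : G} (hu : u ∈ D.U) (hu' : u' ∈ D.U) {i j : ℕ}
    (hi : i < 8) (hj : j < 8) (h : u * D.t ^ i = u' * D.t ^ j) : u = u' ∧ i = j := by
  have h1 : u'⁻¹ * u = D.t ^ j * (D.t ^ i)⁻¹ := by
    have h2 : u = u' * D.t ^ j * (D.t ^ i)⁻¹ := by
      rw [← h]; group
    rw [h2]; group
  have h3 : u'⁻¹ * u ∈ Subgroup.zpowers D.t ⊓ D.U := by
    refine ⟨?_, D.U.mul_mem (D.U.inv_mem hu') hu⟩
    rw [h1]
    exact Subgroup.mul_mem _ (Subgroup.pow_mem _ (Subgroup.mem_zpowers _) j)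
      (Subgroup.inv_mem _ (Subgroup.pow_mem _ (Subgroup.mem_zpowers _) i))
  rw [h8_inf_eq_bot D, Subgroup.mem_bot] at h3
  have huu : u = u' := by
    have := congrArg (fun x => u' * x) h3
    simpa using this
  refine ⟨huu, ?_⟩
  rw [huu] at h
  have h4 : D.t ^ i = D.t ^ j := mul_left_cancel h
  have hi' : i < orderOf D.t := by rw [D.ordt]; exact hi
  have hj' : j < orderOf D.t := by rw [D.ordt]; exact hj
  exact pow_injOn_Iio_orderOf (Set.mem_Iio.mpr hi') (Set.mem_Iio.mpr hj') h4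

/-- A1c: `|B| = 216`. -/
theorem card_B [Finite G] (D : BData G) : Nat.card D.B = 216 := by
  have h1 := Cfsg.Agent.Lib.Helper1.GlaubermanRepl.card_sup_mul_card_inf_of_le_normalizer
    (Subgroup.zpowers D.t) D.U (h8_zpowers_le_normalizer D)
  rw [h8_inf_eq_bot D, Subgroup.card_bot, mul_one, Nat.card_zpowers, D.ordt, D.cardU, sup_comm] at h1
  exact h1

/-- A1d: `k` is odd. -/
theorem k_odd (D : BData G) : Odd D.k := by
  rw [← Nat.not_even_iff_odd]
  rintro ⟨m, hm⟩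
  have h1 : (D.t ^ D.k) ^ 4 = 1 := by
    rw [hm, ← pow_mul]
    have : (m + m) * 4 = 8 * m := by ring
    rw [this, pow_mul, h8_t_pow_eight D, one_pow]
  rw [← D.wt] at h1
  have h2 : (D.w⁻¹ * D.t * D.w) ^ 4 = D.w⁻¹ * D.t ^ 4 * D.w := by
    have := conj_pow (a := D.w⁻¹) (b := D.t) (i := 4)
    rwa [inv_inv] at this
  rw [h2] at h1
  have h3 : D.t ^ 4 = 1 := by
    have := congrArg (fun x => D.w * x * D.w⁻¹) h1
    simpa [mul_assoc] using this
  have h4 : orderOf D.t ∣ 4 := orderOf_dvd_of_pow_eq_one h3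
  rw [D.ordt] at h4
  norm_num at h4

end Cfsg.Agent.Lib.Helper9.D3670
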