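import Mathlib

set_option autoImplicit false
set_option linter.unusedSectionVars false
set_option linter.unusedVariables false

/-! Sharply multiply transitive groups: a sharply 4-transitive group of degree 11 is simple. -/

namespace Cfsg.Agent.Lib.Helper8.Sh

open MulAction Subgroup

/-- sharply `k`-transitive actions. -/
def IsSharp (G : Type*) (α : Type*) [Group G] [MulAction G α] (k : ℕ) : Prop :=
  IsMultiplyPretransitive G α k ∧ ∀ x : Fin k ↪ α, stabilizer G x = ⊥

section basic

variable {G : Type*} [Group G] {α : Type*} [MulAction G α]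

theorem nonempty_emb [Finite α] {k : ℕ} (hk : k ≤ Nat.card α) : Nonempty (Fin k ↪ α) := by
  haveI := Fintype.ofFinite α
  apply Function.Embedding.nonempty_of_card_le
  rw [Fintype.card_fin, ← Nat.card_eq_fintype_card]
  exact hk

theorem IsSharp.eq_one [Finite α] {k : ℕ} (h : IsSharp G α k) (hk : k ≤ Nat.card α) {g : G}
    (hg : ∀ a : α, g • a = a) : g = 1 := by
  obtain ⟨x⟩ := nonempty_emb (α := α) hk
  have hx : g ∈ stabilizer G x := by
    rw [mem_stabilizer_iff]
    ext i
    exact hg (x i)
  rw [h.2 x] at hx
  exact Subgroup.mem_bot.mp hx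

theorem IsSharp.card_eq [Finite α] {k : ℕ} (h : IsSharp G α k) (hk : k ≤ Nat.card α) :
    Nat.card G = (Nat.card α).descFactorial k := by
  obtain ⟨x⟩ := nonempty_emb (α := α) hk
  haveI := h.1
  have h1 := index_stabilizer_of_transitive G x
  rw [h.2 x, Subgroup.index_bot] at h1
  haveI := Fintype.ofFinite α
  rw [h1, Nat.card_eq_fintype_card, Fintype.card_embedding_eq, Fintype.card_fin,
    Nat.card_eq_fintype_card]

theorem IsSharp.isPreprimitive [Finite α] {k : ℕ} (h : IsSharp G α k) (hk2 : 2 ≤ k)
    (hk : k ≤ Nat.card α) : IsPreprimitive G α := by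
  haveI := h.1
  exact isPreprimitive_of_is_two_pretransitive (isMultiplyPretransitive_of_le hk2 hk)

/-- a nontrivial normal subgroup of a sharply `k`-transitive group (`k ≥ 2`) is transitive. -/
theorem IsSharp.normal_pretransitive [Finite α] {k : ℕ} (h : IsSharp G α k) (hk2 : 2 ≤ k)
    (hk : k ≤ Nat.card α) (N : Subgroup G) [N.Normal] (hN : N ≠ ⊥) : IsPretransitive N α := by
  haveI := h.isPreprimitive hk2 hk
  apply IsQuasiPreprimitive.isPretransitive_of_normal
  intro hfix
  apply hN
  rw [eq_bot_iff]
  intro n hn
  rw [Subgroup.mem_bot]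
  apply h.eq_one hk
  intro a
  have : a ∈ fixedPoints N α := by rw [hfix]; trivial
  exact this ⟨n, hn⟩

end basic

section A

variable {G : Type*} [Group G] {α : Type*} [MulAction G α] [Finite G] [Finite α]

theorem card_of_sharp4 (h : IsSharp G α 4) (hα : Nat.card α = 11) : Nat.card G = 7920 := by
  rw [h.card_eq (by omega), hα]
  rfl

instance fact11 : Fact (Nat.Prime 11) := ⟨by norm_num⟩

theorem sylow_card (h : IsSharp G α 4) (hα : Nat.card α = 11) (P : Sylow 11 G) :
    Nat.card P = 11 := by
  have hG := card_of_sharp4 h hα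
  obtain ⟨k, hk⟩ := P.2.exists_card_eq
  have hidx := (P : Subgroup G).card_mul_index
  have hnd : ¬ 11 ∣ (P : Subgroup G).index := P.not_dvd_index
  rcases k with _ | _ | k
  · exfalso
    apply hnd
    rw [hk, pow_zero, one_mul] at hidx
    rw [hidx, hG]
    norm_num
  · rw [hk]
    norm_num
  · exfalso
    have h1 : 11 ^ 2 ∣ 11 ^ (k + 1 + 1) := Nat.pow_dvd_pow 11 (by omega)
    have h2 : 11 ^ (k + 1 + 1) ∣ Nat.card G := by
      rw [← hidx, hk]
      exact Dvd.intro _ rfl
    have h3 := h1.trans h2
    rw [hG] at h3
    norm_num at h3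

theorem centralizer_eq (h : IsSharp G α 4) (hα : Nat.card α = 11) (P : Sylow 11 G) :
    centralizer ((P : Subgroup G) : Set G) = (P : Subgroup G) := by
  have hP11 := sylow_card h hα P
  haveI : IsCyclic (P : Subgroup G) := isCyclic_of_prime_card hP11
  have hle : (P : Subgroup G) ≤ centralizer ((P : Subgroup G) : Set G) := Subgroup.le_centralizer _
  -- `P` moves some point
  have hne : ∃ z : G, z ∈ (P : Subgroup G) ∧ z ≠ 1 := by
    by_contra hcon
    push Not at hcon
    have : (P : Subgroup G) = ⊥ := by
      rw [eq_bot_iff]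
      intro z hz
      exact Subgroup.mem_bot.mpr (hcon z hz)
    rw [this, Subgroup.card_bot] at hP11
    omega
  obtain ⟨z, hzP, hz1⟩ := hne
  have hmove : ∃ a : α, z • a ≠ a := by
    by_contra hcon
    push Not at hcon
    exact hz1 (h.eq_one (by omega) hcon)
  obtain ⟨a, ha⟩ := hmove
  -- the orbit of `a` under `P` is everything
  have horb : orbit (P : Subgroup G) a = Set.univ := by
    have h1 := index_stabilizer (P : Subgroup G) a
    have h2 : (stabilizer (P : Subgroup G) a).index ∣ Nat.card (P : Subgroup G) :=
      Subgroup.index_dvd_card _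
    rw [h1, hP11] at h2
    have h3 : (orbit (P : Subgroup G) a).ncard = 1 ∨ (orbit (P : Subgroup G) a).ncard = 11 :=
      (Nat.dvd_prime (by norm_num)).mp h2
    rcases h3 with h3 | h3
    · exfalso
      rw [Set.ncard_eq_one] at h3
      obtain ⟨b, hb⟩ := h3
      have hab : a ∈ orbit (P : Subgroup G) a := mem_orbit_self a
      have hzb : z • a ∈ orbit (P : Subgroup G) a := ⟨⟨z, hzP⟩, rfl⟩
      rw [hb, Set.mem_singleton_iff] at hab hzb
      exact ha (hzb.trans hab.symm)
    · apply Set.eq_of_subset_of_ncard_le (Set.subset_univ _)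
      rw [Set.ncard_univ, hα, h3]
  -- an element of the centralizer fixing `a` is trivial
  have hfix : ∀ c : G, c ∈ centralizer ((P : Subgroup G) : Set G) → c • a = a → c = 1 := by
    intro c hc hca
    apply h.eq_one (by omega)
    intro b
    have hb : b ∈ orbit (P : Subgroup G) a := by rw [horb]; trivial
    obtain ⟨⟨x, hx⟩, rfl⟩ := hb
    show c • (x • a) = x • a
    rw [← mul_smul, ← (mem_centralizer_iff.mp hc x hx), mul_smul, hca]
  have hstab : stabilizer (centralizer ((P : Subgroup G) : Set G)) a = ⊥ := by
    rw [eq_bot_iff]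
    intro c hc
    rw [Subgroup.mem_bot]
    apply Subtype.ext
    exact hfix c.1 c.2 hc
  have hcard : Nat.card (centralizer ((P : Subgroup G) : Set G)) ≤ 11 := by
    have h1 := index_stabilizer (centralizer ((P : Subgroup G) : Set G)) a
    rw [hstab, Subgroup.index_bot] at h1
    have h2 := Set.ncard_le_card (orbit (centralizer ((P : Subgroup G) : Set G)) a)
    rw [hα] at h2
    rw [h1]
    exact h2
  exact (Subgroup.eq_of_le_of_card_ge hle (by rw [hP11]; exact hcard)).symm

theorem normalizer_facts (h : IsSharp G α 4) (hα : Nat.card α = 11) (P : Sylow 11 G) :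
    (P : Subgroup G).relIndex (normalizer ((P : Subgroup G) : Set G)) = 5 := by
  have hG := card_of_sharp4 h hα
  have hP11 := sylow_card h hα P
  haveI hcyc : IsCyclic (P : Subgroup G) := isCyclic_of_prime_card hP11
  have key := card_dvd_of_injective _
    (QuotientGroup.kerLift_injective (P : Subgroup G).normalizerMonoidHom)
  rw [normalizerMonoidHom_ker, ← index, ← relIndex, centralizer_eq h hα P,
    IsCyclic.card_mulAut, hP11, Nat.totient_prime (by norm_num)] at key
  have h1 := relIndex_mul_index (le_normalizer : (P : Subgroup G) ≤ normalizer ((P : Subgroup G) : Set G))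
  have h2 := (P : Subgroup G).card_mul_index
  rw [hP11, hG] at h2
  have h3 : (P : Subgroup G).index = 720 := by omega
  rw [h3] at h1
  have h4 : Nat.card (Sylow 11 G) = (normalizer ((P : Subgroup G) : Set G)).index :=
    P.card_eq_index_normalizer
  have h5 : Nat.card (Sylow 11 G) ≡ 1 [MOD 11] := card_sylow_modEq_one 11 G
  rw [h4] at h5
  have h6 : (P : Subgroup G).relIndex (normalizer ((P : Subgroup G) : Set G)) ∈ Nat.divisors 10 :=
    Nat.mem_divisors.mpr ⟨key, by norm_num⟩
  have h7 : Nat.divisors 10 = {1, 2, 5, 10} := by decide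
  rw [h7] at h6
  simp only [Finset.mem_insert, Finset.mem_singleton] at h6
  unfold Nat.ModEq at h5
  rcases h6 with h6 | h6 | h6 | h6
  · rw [h6] at h1; omega
  · rw [h6] at h1; omega
  · exact h6
  · rw [h6] at h1; omega

/-- a proper nontrivial normal subgroup has index 5. -/
theorem normal_index (h : IsSharp G α 4) (hα : Nat.card α = 11) (N : Subgroup G) [N.Normal]
    (hN : N ≠ ⊥) : N.index = 1 ∨ N.index = 5 := by
  have hG := card_of_sharp4 h hα
  haveI : IsPretransitive N α := h.normal_pretransitive (by omega) (by omega) N hN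
  haveI : Nonempty α := by
    rw [← Finite.card_pos_iff, hα]
    norm_num
  obtain ⟨a⟩ := ‹Nonempty α›
  have h11 : 11 ∣ Nat.card N := by
    have h1 := index_stabilizer_of_transitive N a
    rw [hα] at h1
    rw [← h1]
    exact Subgroup.index_dvd_card _
  obtain ⟨z, hz⟩ := exists_prime_orderOf_dvd_card' 11 h11
  have hzN : (z : G) ∈ N := z.2
  have hzo : orderOf (z : G) = 11 := by rw [Subgroup.orderOf_coe, hz]
  have hZ11 : Nat.card (zpowers (z : G)) = 11 := by rw [Nat.card_zpowers, hzo]
  have hZp : IsPGroup 11 (zpowers (z : G)) := IsPGroup.of_card (n := 1) (by rw [hZ11, pow_one])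
  obtain ⟨P, hZP⟩ := hZp.exists_le_sylow
  have hP11 := sylow_card h hα P
  have hZeq : zpowers (z : G) = (P : Subgroup G) :=
    Subgroup.eq_of_le_of_card_ge hZP (by rw [hP11, hZ11])
  have hPN : (P : Subgroup G) ≤ N := by
    rw [← hZeq, zpowers_le]
    exact hzN
  have hfr : normalizer ((P : Subgroup G) : Set G) ⊔ N = ⊤ :=
    Sylow.normalizer_sup_eq_top' P hPN
  have h1 : N.index = N.relIndex (normalizer ((P : Subgroup G) : Set G)) := by
    rw [← relIndex_top_right, ← hfr, relIndex_sup_right]
  have h2 : N.relIndex (normalizer ((P : Subgroup G) : Set G)) =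
      (N ⊓ normalizer ((P : Subgroup G) : Set G)).relIndex
        (normalizer ((P : Subgroup G) : Set G)) := (inf_relIndex_right ..).symm
  have h3 := relIndex_mul_relIndex (H := (P : Subgroup G))
    (K := N ⊓ normalizer ((P : Subgroup G) : Set G))
    (L := normalizer ((P : Subgroup G) : Set G)) (le_inf hPN le_normalizer) inf_le_right
  rw [normalizer_facts h hα P, ← h2, ← h1] at h3
  have h4 : N.index ∣ 5 := Dvd.intro_left _ h3
  exact (Nat.dvd_prime (by norm_num)).mp h4

/-- A sharply 4-transitive group of degree 11 is simple. -/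
theorem simple_of_sharp4 (h : IsSharp G α 4) (hα : Nat.card α = 11) : IsSimpleGroup G := by
  have hG := card_of_sharp4 h hα
  haveI : Nontrivial G := by
    rw [← Finite.one_lt_card_iff_nontrivial, hG]
    norm_num
  refine ⟨fun N hNn => ?_⟩
  haveI := hNn
  by_cases hN : N = ⊥
  · exact Or.inl hN
  right
  rcases normal_index h hα N hN with h1 | h5
  · exact Subgroup.index_eq_one.mp h1
  exfalso
  have hNc : Nat.card N = 1584 := by
    have := N.card_mul_index
    rw [h5, hG] at this
    omega
  haveI : IsPretransitive N α := h.normal_pretransitive (by omega) (by omega) N hN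
  haveI : Nonempty α := by
    rw [← Finite.card_pos_iff, hα]
    norm_num
  obtain ⟨a⟩ := ‹Nonempty α›
  -- a nontrivial element of `N` fixing `a`
  have hst : Nat.card (stabilizer N a) = 144 := by
    have h1 := index_stabilizer_of_transitive N a
    have h2 := (stabilizer N a).card_mul_index
    rw [h1, hα, hNc] at h2
    omega
  have hnt : ∃ n : N, n ≠ 1 ∧ n • a = a := by
    haveI : Nontrivial (stabilizer N a) := by
      rw [← Finite.one_lt_card_iff_nontrivial, hst]
      norm_num
    obtain ⟨n, hn⟩ := exists_ne (1 : stabilizer N a)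
    refine ⟨n.1, fun hcon => hn (Subtype.ext hcon), n.2⟩
  obtain ⟨n, hn1, hna⟩ := hnt
  -- the stabilizer of `a` acting on the remaining 10 points
  haveI : IsPretransitive G α := by
    haveI := h.1
    exact isPretransitive_of_is_two_pretransitive
      (h2 := isMultiplyPretransitive_of_le (n := 4) (m := 2) (by omega) (by omega))
  haveI h3t : IsMultiplyPretransitive (stabilizer G a) (SubMulAction.ofStabilizer G a) 3 :=
    (SubMulAction.ofStabilizer.isMultiplyPretransitive (n := 3) (a := a)).mp h.1
  have hX : Nat.card (SubMulAction.ofStabilizer G a) = 10 := by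
    rw [SubMulAction.nat_card_ofStabilizer_eq, hα]
  haveI : Finite (SubMulAction.ofStabilizer G a) := Nat.finite_of_card_ne_zero (by omega)
  haveI : IsPreprimitive (stabilizer G a) (SubMulAction.ofStabilizer G a) :=
    isPreprimitive_of_is_two_pretransitive
      (isMultiplyPretransitive_of_le (n := 3) (m := 2) (by omega) (by omega))
  haveI : (N.subgroupOf (stabilizer G a)).Normal := inferInstance
  have hact : fixedPoints (N.subgroupOf (stabilizer G a)) (SubMulAction.ofStabilizer G a) ≠
      Set.univ := by
    intro hfix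
    apply hn1
    apply Subtype.ext
    apply h.eq_one (by omega)
    intro b
    by_cases hb : b = a
    · rw [hb]; exact hna
    · have hbX : b ∈ SubMulAction.ofStabilizer G a :=
        (SubMulAction.mem_ofStabilizer_iff G a).mpr hb
      have hmem : (⟨b, hbX⟩ : SubMulAction.ofStabilizer G a) ∈
          fixedPoints (N.subgroupOf (stabilizer G a)) (SubMulAction.ofStabilizer G a) := by
        rw [hfix]; trivial
      have hnH : (n : G) ∈ stabilizer G a := hna
      have := hmem ⟨⟨(n : G), hnH⟩, n.2⟩
      exact congrArg Subtype.val this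
  haveI : IsPretransitive (N.subgroupOf (stabilizer G a)) (SubMulAction.ofStabilizer G a) :=
    IsQuasiPreprimitive.isPretransitive_of_normal hact
  haveI : Nonempty (SubMulAction.ofStabilizer G a) := by
    rw [← Finite.card_pos_iff, hX]
    norm_num
  obtain ⟨x⟩ := ‹Nonempty (SubMulAction.ofStabilizer G a)›
  have h10 : 10 ∣ Nat.card (N.subgroupOf (stabilizer G a)) := by
    have h1 := index_stabilizer_of_transitive (N.subgroupOf (stabilizer G a)) x
    rw [hX] at h1
    rw [← h1]
    exact Subgroup.index_dvd_card _
  have hdvd : Nat.card (N.subgroupOf (stabilizer G a)) ∣ Nat.card N := by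
    rw [← Subgroup.card_map_of_injective (stabilizer G a).subtype_injective,
      subgroupOf_map_subtype]
    exact Subgroup.card_dvd_of_le inf_le_left
  have := h10.trans hdvd
  rw [hNc] at this
  norm_num at this

end A

end Cfsg.Agent.Lib.Helper8.Sh
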