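import Mathlib
import Cfsg.Prelude
import Cfsg.Agent.Lib.Helper5.OrthCard
import Cfsg.Agent.Lib.Helper5.QuadStd
import Cfsg.Agent.Lib.Helper5.PlusGeom
import Cfsg.Agent.Lib.Helper5.OMPI3Defs
import Cfsg.Agent.Lib.Helper6.OrthPlusFrames

set_option autoImplicit false
set_option linter.unusedSectionVars false
set_option linter.unusedVariables false
set_option linter.unusedSimpArgs false

/-!
Farm OMP (statement S2345), counting part of unit I3: the number of pairs `(u, v)` of singular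
vectors of a nondegenerate quadratic form `Q` on `F^ι` with `polar Q u v = 0`, `u ≠ 0` and
`v ∉ F u` is `(Z - 1) (N₀ - q)`, `Z` the number of singular vectors,
`N₀ + (q - 1) K = Z`, `K q² = q^|ι|`.
-/

namespace Cfsg.Agent.Lib.Helper8.OMP

open QuadraticMap Cfsg Cfsg.Agent.Lib.Helper5 Cfsg.Agent.Lib.Helper5.OrthCard

section general

variable {ι : Type} [Fintype ι] [DecidableEq ι] {F : Type*} [Field F] [Fintype F]
  (Q : QuadraticForm F (ι → F))

/-- scaling: the singular vectors on `polar u · = c`, `c ≠ 0` -/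
theorem card_sing_fiber_ne (u : ι → F) (c : F) (hc : c ≠ 0) :
    Nat.card {v : ι → F // Q v = 0 ∧ polar Q u v = c} =
      Nat.card {v : ι → F // Q v = 0 ∧ polar Q u v = 1} := by
  apply Nat.card_congr
  exact
    { toFun := fun v => ⟨c⁻¹ • v.1, by
        rw [QuadraticMap.map_smul, v.2.1, smul_zero, polar_smul_right, v.2.2, smul_eq_mul,
          inv_mul_cancel₀ hc]
        exact ⟨rfl, rfl⟩⟩
      invFun := fun v => ⟨c • v.1, by
        rw [QuadraticMap.map_smul, v.2.1, smul_zero, polar_smul_right, v.2.2, smul_eq_mul,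
          mul_one]
        exact ⟨rfl, rfl⟩⟩
      left_inv := fun v => by
        apply Subtype.ext
        show c • c⁻¹ • v.1 = v.1
        rw [smul_smul, mul_inv_cancel₀ hc, one_smul]
      right_inv := fun v => by
        apply Subtype.ext
        show c⁻¹ • c • v.1 = v.1
        rw [smul_smul, inv_mul_cancel₀ hc, one_smul] }

/-- the singular vectors, sorted by their product with `u` -/
theorem card_sing_split (u : ι → F) :
    Nat.card {v : ι → F // Q v = 0} =
      Nat.card {v : ι → F // Q v = 0 ∧ polar Q u v = 0} +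
        (Fintype.card F - 1) * Nat.card {v : ι → F // Q v = 0 ∧ polar Q u v = 1} := by
  classical
  have e : {v : ι → F // Q v = 0} ≃ Σ c : F, {v : ι → F // Q v = 0 ∧ polar Q u v = c} :=
    { toFun := fun v => ⟨polar Q u v.1, ⟨v.1, v.2, rfl⟩⟩
      invFun := fun s => ⟨s.2.1, s.2.2.1⟩
      left_inv := fun v => rfl
      right_inv := fun s => by
        obtain ⟨c, v, hv, rfl⟩ := s
        rfl }
  rw [Nat.card_congr e, Nat.card_sigma, ← Finset.add_sum_erase Finset.univ _ (Finset.mem_univ 0)]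
  congr 1
  rw [Finset.sum_congr rfl (fun c hc => card_sing_fiber_ne Q u c (Finset.ne_of_mem_erase hc)),
    Finset.sum_const, Finset.card_erase_of_mem (Finset.mem_univ 0), Finset.card_univ, smul_eq_mul]

/-- the singular vectors orthogonal to a nonzero singular vector `u` -/
theorem card_sing_perp_one (hQ : (polarBilin Q).Nondegenerate) (K : ℕ)
    (hK : K * Fintype.card F * Fintype.card F = Fintype.card F ^ Fintype.card ι)
    (u : ι → F) (hu0 : u ≠ 0) (hu : Q u = 0) :
    Nat.card {v : ι → F // Q v = 0 ∧ polar Q u v = 0} =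
      Nat.card {v : ι → F // Q v = 0} - (Fintype.card F - 1) * K := by
  have h1 := card_sing_split Q u
  have h2 := card_sing_fiber Q hQ u hu0 hu
  have hq : 0 < Fintype.card F := Fintype.card_pos
  have h3 : Nat.card {v : ι → F // Q v = 0 ∧ polar Q u v = 1} = K := by
    rw [← hK] at h2
    exact Nat.eq_of_mul_eq_mul_right hq (Nat.eq_of_mul_eq_mul_right hq h2)
  rw [h3] at h1
  omega

/-- the singular vectors orthogonal to a nonzero singular vector `u` and not in `F u` -/
theorem card_sing_perp_off (u : ι → F) (hu0 : u ≠ 0) (hu : Q u = 0) :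
    Nat.card {v : ι → F // Q v = 0 ∧ polar Q u v = 0 ∧ ∀ t : F, v ≠ t • u} + Fintype.card F =
      Nat.card {v : ι → F // Q v = 0 ∧ polar Q u v = 0} := by
  classical
  have e1 := Equiv.sumCompl (fun v : {v : ι → F // Q v = 0 ∧ polar Q u v = 0} => ∃ t : F, v.1 = t • u)
  have e2 : {v : {v : ι → F // Q v = 0 ∧ polar Q u v = 0} // ∃ t : F, v.1 = t • u} ≃ F :=
    (Equiv.ofBijective (fun t : F => (⟨⟨t • u, by
        rw [QuadraticMap.map_smul, hu, smul_zero, polar_smul_right, polar_self, hu]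
        simp⟩, ⟨t, rfl⟩⟩ :
        {v : {v : ι → F // Q v = 0 ∧ polar Q u v = 0} // ∃ t : F, v.1 = t • u})) (by
      constructor
      · intro t t' h
        have h1 : t • u = t' • u := congrArg (fun v => v.1.1) h
        by_contra hne
        apply hu0
        have h2 : (t - t') • u = 0 := by rw [sub_smul, h1, sub_self]
        rcases smul_eq_zero.mp h2 with h3 | h3
        · exact absurd (sub_eq_zero.mp h3) hne
        · exact h3
      · rintro ⟨⟨v, hv⟩, t, ht⟩
        refine ⟨t, ?_⟩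
        apply Subtype.ext
        apply Subtype.ext
        exact ht.symm)).symm
  have e3 : {v : {v : ι → F // Q v = 0 ∧ polar Q u v = 0} // ¬ ∃ t : F, v.1 = t • u} ≃
      {v : ι → F // Q v = 0 ∧ polar Q u v = 0 ∧ ∀ t : F, v ≠ t • u} :=
    { toFun := fun v => ⟨v.1.1, v.1.2.1, v.1.2.2, fun t ht => v.2 ⟨t, ht⟩⟩
      invFun := fun v => ⟨⟨v.1, v.2.1, v.2.2.1⟩, fun ⟨t, ht⟩ => v.2.2.2 t ht⟩
      left_inv := fun v => rfl
      right_inv := fun v => rfl }
  rw [← Nat.card_congr e1, Nat.card_sum, Nat.card_congr e2, Nat.card_congr e3,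
    Nat.card_eq_fintype_card (α := F), add_comm]

/-- the number of totally singular pairs `(u, v)`, `u ≠ 0`, `v ∉ F u` -/
theorem card_ts_pairs_gen (hQ : (polarBilin Q).Nondegenerate) (K : ℕ)
    (hK : K * Fintype.card F * Fintype.card F = Fintype.card F ^ Fintype.card ι) :
    Nat.card {p : (ι → F) × (ι → F) // Q p.1 = 0 ∧ Q p.2 = 0 ∧ polar Q p.1 p.2 = 0 ∧
        p.1 ≠ 0 ∧ ∀ t : F, p.2 ≠ t • p.1} =
      (Nat.card {v : ι → F // Q v = 0} - 1) *
        (Nat.card {v : ι → F // Q v = 0} - (Fintype.card F - 1) * K - Fintype.card F) := by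
  classical
  have e : {p : (ι → F) × (ι → F) // Q p.1 = 0 ∧ Q p.2 = 0 ∧ polar Q p.1 p.2 = 0 ∧
        p.1 ≠ 0 ∧ ∀ t : F, p.2 ≠ t • p.1} ≃
      Σ u : {u : ι → F // Q u = 0 ∧ u ≠ 0},
        {v : ι → F // Q v = 0 ∧ polar Q u.1 v = 0 ∧ ∀ t : F, v ≠ t • u.1} :=
    { toFun := fun p => ⟨⟨p.1.1, p.2.1, p.2.2.2.2.1⟩, ⟨p.1.2, p.2.2.1, p.2.2.2.1, p.2.2.2.2.2⟩⟩
      invFun := fun s => ⟨(s.1.1, s.2.1), s.1.2.1, s.2.2.1, s.2.2.2.1, s.1.2.2, s.2.2.2.2⟩
      left_inv := fun p => rfl
      right_inv := fun s => rfl }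
  rw [Nat.card_congr e, Nat.card_sigma]
  have h : ∀ u : {u : ι → F // Q u = 0 ∧ u ≠ 0},
      Nat.card {v : ι → F // Q v = 0 ∧ polar Q u.1 v = 0 ∧ ∀ t : F, v ≠ t • u.1} =
        Nat.card {v : ι → F // Q v = 0} - (Fintype.card F - 1) * K - Fintype.card F := by
    intro u
    have h1 := card_sing_perp_off Q u.1 u.2.2 u.2.1
    have h2 := card_sing_perp_one Q hQ K hK u.1 u.2.2 u.2.1
    omega
  rw [Finset.sum_congr rfl (fun u _ => h u), Finset.sum_const, Finset.card_univ, smul_eq_mul]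
  congr 1
  -- the number of nonzero singular vectors
  have e1 := Equiv.sumCompl (fun v : {v : ι → F // Q v = 0} => v.1 = 0)
  have e2 : {v : {v : ι → F // Q v = 0} // v.1 = 0} ≃ Unit :=
    { toFun := fun _ => ()
      invFun := fun _ => ⟨⟨0, map_zero Q⟩, rfl⟩
      left_inv := fun v => by
        apply Subtype.ext
        apply Subtype.ext
        exact v.2.symm
      right_inv := fun _ => rfl }
  have e3 : {v : {v : ι → F // Q v = 0} // ¬ v.1 = 0} ≃ {u : ι → F // Q u = 0 ∧ u ≠ 0} :=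
    { toFun := fun v => ⟨v.1.1, v.1.2, v.2⟩
      invFun := fun v => ⟨⟨v.1, v.2.1⟩, v.2.2⟩
      left_inv := fun v => rfl
      right_inv := fun v => rfl }
  have h4 : Nat.card {v : ι → F // Q v = 0} = 1 + Nat.card {u : ι → F // Q u = 0 ∧ u ≠ 0} := by
    rw [← Nat.card_congr e1, Nat.card_sum, Nat.card_congr e2, Nat.card_congr e3]
    simp
  rw [← Nat.card_eq_fintype_card]
  omega

end general

section plus

variable {F : Type*} [Field F] [Fintype F]

theorem indep_iff {V : Type*} [AddCommGroup V] [Module F V] (u v : V) :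
    (∀ s t : F, s • u + t • v = 0 → s = 0 ∧ t = 0) ↔ (u ≠ 0 ∧ ∀ t : F, v ≠ t • u) := by
  constructor
  · intro h
    constructor
    · intro hu
      have h1 := h 1 0 (by rw [hu, smul_zero, zero_smul, add_zero])
      exact one_ne_zero h1.1
    · intro t ht
      have h1 := h (-t) 1 (by rw [ht, neg_smul, one_smul, neg_add_cancel])
      exact one_ne_zero h1.2
  · rintro ⟨hu, hv⟩ s t hst
    have ht : t = 0 := by
      by_contra ht
      apply hv (-(t⁻¹ * s))
      have h1 : t • v = -(s • u) := eq_neg_of_add_eq_zero_right hst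
      have h2 : v = t⁻¹ • (t • v) := by rw [smul_smul, inv_mul_cancel₀ ht, one_smul]
      rw [h2, h1, neg_smul, smul_neg, smul_smul]
    refine ⟨?_, ht⟩
    rw [ht, zero_smul, add_zero] at hst
    rcases smul_eq_zero.mp hst with h | h
    · exact h
    · exact absurd h hu

open Cfsg.Agent.Lib.Helper5.OMP in
/-- **Unit I3a**: the number of totally singular independent ordered pairs of the plus form -/
theorem card_tsPairs (j : ℕ) :
    (tsPairs F (j + 2)).card =
      (Fintype.card F ^ (j + 2) - 1) * (Fintype.card F ^ (j + 1) + 1) *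
        (Fintype.card F * ((Fintype.card F ^ (j + 1) - 1) * (Fintype.card F ^ j + 1))) := by
  classical
  have hQ := PlusGeom.plus_nondegenerate (F := F) (j + 2)
  have hK : Fintype.card F ^ (2 * j + 2) * Fintype.card F * Fintype.card F =
      Fintype.card F ^ Fintype.card (Fin (j + 2) ⊕ Fin (j + 2)) := by
    rw [Fintype.card_sum, Fintype.card_fin, mul_assoc, ← pow_two, ← pow_add]
    congr 1
    ring
  have h1 := card_ts_pairs_gen (plusForm (j + 2) F) hQ _ hK
  have h2 : (tsPairs F (j + 2)).card =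
      Nat.card {p : (Fin (j + 2) ⊕ Fin (j + 2) → F) × (Fin (j + 2) ⊕ Fin (j + 2) → F) //
        plusForm (j + 2) F p.1 = 0 ∧ plusForm (j + 2) F p.2 = 0 ∧
        polar (plusForm (j + 2) F) p.1 p.2 = 0 ∧ p.1 ≠ 0 ∧ ∀ t : F, p.2 ≠ t • p.1} := by
    rw [← Fintype.card_coe, ← Nat.card_eq_fintype_card]
    apply Nat.card_congr
    apply Equiv.subtypeEquivRight
    intro p
    unfold tsPairs
    rw [Finset.mem_filter, indep_iff, ← coe_plusForm]
    simp only [Finset.mem_univ, true_and]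
  rw [h2, h1]
  have hz := Cfsg.Agent.Lib.Helper6.OrthFrames.zeros_plus (F := F) (j + 2)
  have hq : 1 ≤ Fintype.card F := Fintype.card_pos
  generalize Nat.card {v : Fin (j + 2) ⊕ Fin (j + 2) → F // plusForm (j + 2) F v = 0} = Z at *
  generalize Fintype.card F = q at *
  obtain ⟨a, ha⟩ : ∃ a, a = q ^ j := ⟨_, rfl⟩
  have ha1 : 1 ≤ a := by rw [ha]; exact Nat.one_le_pow _ _ hq
  have e1 : q ^ (j + 2) = a * q ^ 2 := by rw [ha]; ring
  have e2 : q ^ (j + 1) = a * q := by rw [ha]; ring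
  have e3 : q ^ (2 * j + 2) = a ^ 2 * q ^ 2 := by rw [ha]; ring
  have e4 : q ^ (2 * (j + 2)) = a ^ 2 * q ^ 4 := by rw [ha]; ring
  have e5 : q ^ (j + 2 + 1) = a * q ^ 3 := by rw [ha]; ring
  rw [e1, e4, e5] at hz
  rw [e1, e2, e3, ← ha]
  -- `hz : q * Z + a q² = a² q⁴ + a q³`
  have hz' : Z + a * q = a ^ 2 * q ^ 3 + a * q ^ 2 := by
    have h3 : q * (Z + a * q) = q * (a ^ 2 * q ^ 3 + a * q ^ 2) := by
      calc q * (Z + a * q) = q * Z + a * q ^ 2 := by ring
        _ = a ^ 2 * q ^ 4 + a * q ^ 3 := hz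
        _ = q * (a ^ 2 * q ^ 3 + a * q ^ 2) := by ring
    exact Nat.eq_of_mul_eq_mul_left hq h3
  obtain ⟨b, hb⟩ : ∃ b, a * q ^ 2 = b + 1 := ⟨a * q ^ 2 - 1, by
    have : 1 ≤ a * q ^ 2 := Nat.one_le_iff_ne_zero.mpr (by positivity)
    omega⟩
  obtain ⟨c, hc⟩ : ∃ c, a * q = c + 1 := ⟨a * q - 1, by
    have : 1 ≤ a * q := Nat.one_le_iff_ne_zero.mpr (by positivity)
    omega⟩
  have hZ1 : Z = b * (a * q + 1) + 1 := by
    have h3 : Z + a * q = b * (a * q + 1) + 1 + a * q := by
      rw [hz']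
      have h4 : a ^ 2 * q ^ 3 = (a * q ^ 2) * (a * q) := by ring
      rw [h4, hb]
      ring
    exact Nat.add_right_cancel h3
  have hK2 : (q - 1) * (a ^ 2 * q ^ 2) + a ^ 2 * q ^ 2 = a ^ 2 * q ^ 3 := by
    obtain ⟨r, rfl⟩ : ∃ r, q = r + 1 := ⟨q - 1, by omega⟩
    rw [Nat.add_sub_cancel]
    ring
  have hZ2 : Z - (q - 1) * (a ^ 2 * q ^ 2) - q = q * (c * (a + 1)) := by
    have h3 : Z = q * (c * (a + 1)) + q + (q - 1) * (a ^ 2 * q ^ 2) := by
      have h4 : Z + a * q + a ^ 2 * q ^ 2 =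
          q * (c * (a + 1)) + q + (q - 1) * (a ^ 2 * q ^ 2) + a * q + a ^ 2 * q ^ 2 := by
        rw [hz']
        have h5 : q * (c * (a + 1)) + q + (q - 1) * (a ^ 2 * q ^ 2) + a * q + a ^ 2 * q ^ 2 =
            q * ((c + 1) * (a + 1)) + ((q - 1) * (a ^ 2 * q ^ 2) + a ^ 2 * q ^ 2) +
              (a * q - q * a) := by
          rw [mul_comm q a, Nat.sub_self]
          ring
        rw [h5, hK2, ← hc, mul_comm q a, Nat.sub_self]
        ring
      omega
    rw [h3]
    omega
  rw [hZ2, hZ1, hb, hc]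
  simp only [Nat.add_sub_cancel]

end plus

end Cfsg.Agent.Lib.Helper8.OMP
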