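import Mathlib
import Cfsg.Prelude
import Cfsg.Agent.Lib.Helper1.PL2

/-!
# Farm RK3 (S4404), unit I1: claim A of helper5's lemma INV

A hyperplane `D` of `F ≅ Z_3^3` that is moved by `x` has `N ⊓ C(D) = ⊥`.
-/

set_option autoImplicit false
set_option maxHeartbeats 1000000
open scoped commutatorElement

namespace Cfsg.Agent.Lib.Helper8.RK3

open Cfsg.Agent.Lib.Helper1

variable {S : Type*} [Group S]

/-- two subgroups of a group of order `27`, the first of order `9`, the second not inside the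
first, generate the group -/
theorem sup_eq_of_card_nine [Finite S] {F A B : Subgroup S} (hAF : A ≤ F) (hBF : B ≤ F)
    (hA9 : Nat.card A = 9) (hF27 : Nat.card F = 27) (hBA : ¬ B ≤ A) : A ⊔ B = F := by
  have hle : A ⊔ B ≤ F := sup_le hAF hBF
  have h1 : Nat.card A ∣ Nat.card ↥(A ⊔ B) := Subgroup.card_dvd_of_le le_sup_left
  have h2 : Nat.card ↥(A ⊔ B) ∣ Nat.card F := Subgroup.card_dvd_of_le hle
  rw [hA9] at h1
  rw [hF27] at h2
  obtain ⟨c, hc⟩ := h1
  rw [hc] at h2
  have h3 : c ∣ 3 := by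
    have : 9 * c ∣ 9 * 3 := by simpa using h2
    exact Nat.dvd_of_mul_dvd_mul_left (by norm_num) this
  rcases (Nat.dvd_prime Nat.prime_three).mp h3 with h4 | h4
  · exfalso
    apply hBA
    have h5 : Nat.card ↥(A ⊔ B) ≤ Nat.card A := by rw [hc, h4, hA9]
    have h6 : A = A ⊔ B := Subgroup.eq_of_le_of_card_ge le_sup_left h5
    rw [h6]
    exact le_sup_right
  · apply Subgroup.eq_of_le_of_card_ge hle
    rw [hF27, hc, h4]

/-- in a group of order two any two non-identity elements coincide -/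
theorem eq_of_card_two {H : Type*} [Group H] (h2 : Nat.card H = 2) {a b : H} (ha : a ≠ 1)
    (hb : b ≠ 1) : a = b := by
  have h := (Nat.card_eq_two_iff' (1 : H)).mp h2
  exact h.unique ha hb

/-- conjugation by an element normalizing `N` and commuting with `E` elementwise preserves
`N ⊓ C(E)` -/
theorem conj_mem_inf_centralizer {N E : Subgroup S} {l m : S}
    (hl : l ∈ Subgroup.normalizer (N : Set S)) (hlE : ∀ e ∈ E, l * e = e * l)
    (hm : m ∈ N ⊓ Subgroup.centralizer (E : Set S)) :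
    l * m * l⁻¹ ∈ N ⊓ Subgroup.centralizer (E : Set S) := by
  refine ⟨(Subgroup.mem_normalizer_iff.mp hl m).mp hm.1, Subgroup.mem_centralizer_iff.2 ?_⟩
  intro e he
  have h1 : e * m = m * e := Subgroup.mem_centralizer_iff.mp hm.2 e he
  have h2 : l * e = e * l := hlE e he
  have h3 : e * l⁻¹ = l⁻¹ * e := by
    have : l⁻¹ * (l * e) * l⁻¹ = l⁻¹ * (e * l) * l⁻¹ := by rw [h2]
    simpa [mul_assoc] using this
  calc e * (l * m * l⁻¹) = (e * l) * m * l⁻¹ := by simp only [mul_assoc]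
    _ = (l * e) * m * l⁻¹ := by rw [h2]
    _ = l * (e * m) * l⁻¹ := by simp only [mul_assoc]
    _ = l * (m * e) * l⁻¹ := by rw [h1]
    _ = l * m * (e * l⁻¹) := by simp only [mul_assoc]
    _ = l * m * (l⁻¹ * e) := by rw [h3]
    _ = l * m * l⁻¹ * e := by simp only [mul_assoc]

/-- the commutator map `m ↦ [m, x]` is injective on a subgroup `A` of the abelian group `M`
meeting its `x`-conjugate trivially -/
theorem commutator_injOn {M A : Subgroup S} (hMc : ∀ a ∈ M, ∀ b ∈ M, a * b = b * a)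
    (hAM : A ≤ M) {x : S} (hAx : A ⊓ PL.cj x A = ⊥) {m m' : S} (hm : m ∈ A) (hm' : m' ∈ A)
    (h : ⁅m, x⁆ = ⁅m', x⁆) : m = m' := by
  rw [commutatorElement_def, commutatorElement_def] at h
  have h1 : m * x * m⁻¹ = m' * x * m'⁻¹ := mul_right_cancel h
  set k : S := m'⁻¹ * m with hk
  have hkA : k ∈ A := A.mul_mem (A.inv_mem hm') hm
  have h2 : x * k * x⁻¹ = k := by
    have h3 : m'⁻¹ * (m * x * m⁻¹) * m = m'⁻¹ * (m' * x * m'⁻¹) * m := by rw [h1]
    have h4 : k * x = x * k := by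
      have : m'⁻¹ * (m * x * m⁻¹) * m = k * x := by rw [hk]; group
      rw [this] at h3
      rw [h3, hk]; group
    rw [← h4]; group
  have hk2 : k ∈ PL.cj x A := by
    rw [← h2]
    exact PL.conj_mem_cj hkA
  have hk1 : k ∈ A ⊓ PL.cj x A := ⟨hkA, hk2⟩
  rw [hAx, Subgroup.mem_bot] at hk1
  have : m' * k = m := by rw [hk]; group
  rw [← this, hk1, mul_one]

/-- an element centralizing `M` fixes every subgroup of `M` under conjugation -/
theorem cj_eq_of_mem_centralizer {M A : Subgroup S} {g : S}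
    (hg : g ∈ Subgroup.centralizer (M : Set S)) (hA : A ≤ M) : PL.cj g A = A := by
  apply PL.cj_of_mem_normalizer
  rw [Subgroup.mem_normalizer_iff]
  intro h
  constructor
  · intro hh
    have h1 : h * g = g * h := Subgroup.mem_centralizer_iff.mp hg h (hA hh)
    have h2 : g * h * g⁻¹ = h := by rw [← h1]; group
    rw [h2]; exact hh
  · intro hz
    have h1 : g * h * g⁻¹ * g = g * (g * h * g⁻¹) := Subgroup.mem_centralizer_iff.mp hg _ (hA hz)
    have h2 : g * h * g⁻¹ = h := by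
      have h3 : g * h = g * (g * h * g⁻¹) := by
        rw [← h1]; group
      exact (mul_left_cancel h3).symm
    rw [← h2]; exact hz

/-- I1 (claim A): a hyperplane `D` of `F` moved by `x` has `N ⊓ C(D) = ⊥`. -/
theorem claimA [Finite S] (M : Subgroup S) [M.Normal]
    (hMc : ∀ a ∈ M, ∀ b ∈ M, a * b = b * a) (hM2 : ∀ a ∈ M, a ^ 2 = 1)
    (x : S) (hx3 : x ^ 3 ∈ Subgroup.centralizer (M : Set S))
    (V : Subgroup S) (hVM : V ≤ M) (hV4 : Nat.card V = 4)
    (hxV : x ∈ Subgroup.normalizer (V : Set S))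
    (F : Subgroup S) (hFc : ∀ a ∈ F, ∀ b ∈ F, a * b = b * a) (hF3 : ∀ a ∈ F, a ^ 3 = 1)
    (hF27 : Nat.card F = 27) (hxF : x ∈ Subgroup.normalizer (F : Set S))
    (N : Subgroup S) (hNM : N ≤ M) (hFN : F ≤ Subgroup.normalizer (N : Set S))
    (hxN : x ∈ Subgroup.normalizer (N : Set S))
    (hNF : N ⊓ Subgroup.centralizer (F : Set S) = ⊥)
    (hNV : ∀ m ∈ N, ⁅m, x⁆ ∈ V)
    (D : Subgroup S) (hDF : D ≤ F) (hD9 : Nat.card D = 9) (hDx : PL.cj x D ≠ D) :
    N ⊓ Subgroup.centralizer (D : Set S) = ⊥ := by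
  classical
  have hp2 : Fact (Nat.Prime 2) := ⟨Nat.prime_two⟩
  by_contra hne
  -- notation
  obtain ⟨D1, hD1⟩ : ∃ D1 : Subgroup S, D1 = PL.cj x D := ⟨_, rfl⟩
  obtain ⟨D2, hD2⟩ : ∃ D2 : Subgroup S, D2 = PL.cj x D1 := ⟨_, rfl⟩
  obtain ⟨N0, hN0⟩ : ∃ N0 : Subgroup S, N0 = N ⊓ Subgroup.centralizer (D : Set S) := ⟨_, rfl⟩
  obtain ⟨N1, hN1⟩ : ∃ N1 : Subgroup S, N1 = N ⊓ Subgroup.centralizer (D1 : Set S) := ⟨_, rfl⟩
  obtain ⟨N2, hN2⟩ : ∃ N2 : Subgroup S, N2 = N ⊓ Subgroup.centralizer (D2 : Set S) := ⟨_, rfl⟩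
  rw [← hN0] at hne
  have hc01 : PL.cj x N0 = N1 := by rw [hN0, hN1, hD1]; exact PL.cj_inf_centralizer D hxN
  have hc12 : PL.cj x N1 = N2 := by rw [hN1, hN2, hD2]; exact PL.cj_inf_centralizer D1 hxN
  have hN0M : N0 ≤ M := by rw [hN0]; exact inf_le_left.trans hNM
  have hN1M : N1 ≤ M := by rw [hN1]; exact inf_le_left.trans hNM
  have hN2M : N2 ≤ M := by rw [hN2]; exact inf_le_left.trans hNM
  have hN0N : N0 ≤ N := by rw [hN0]; exact inf_le_left
  have hN1N : N1 ≤ N := by rw [hN1]; exact inf_le_left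
  have hc20 : PL.cj x N2 = N0 := by
    rw [← hc12, ← hc01, ← PL.cj_mul, ← PL.cj_mul]
    have hxxx : x * x * x = x ^ 3 := by rw [pow_succ, pow_two]
    rw [hxxx]
    exact cj_eq_of_mem_centralizer hx3 hN0M
  -- D1, D2 inside F
  have hD1F : D1 ≤ F := by
    rw [hD1]
    have := PL.cj_mono (g := x) hDF
    rwa [PL.cj_of_mem_normalizer hxF] at this
  have hD2F : D2 ≤ F := by
    rw [hD2]
    have := PL.cj_mono (g := x) hD1F
    rwa [PL.cj_of_mem_normalizer hxF] at this
  have hD19 : Nat.card D1 = 9 := by rw [hD1, PL.card_cj, hD9]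
  -- an element of D outside D1
  obtain ⟨l, hlD, hlD1⟩ : ∃ l ∈ D, l ∉ D1 := by
    by_contra hcon
    push Not at hcon
    have hle : D ≤ D1 := hcon
    have : D = D1 := Subgroup.eq_of_le_of_card_ge hle (by rw [hD19, hD9])
    exact hDx (by rw [← hD1, ← this])
  have hlF : l ∈ F := hDF hlD
  have hsup1 : D ⊔ D1 = F := by
    apply sup_eq_of_card_nine hDF hD1F hD9 hF27
    intro hle
    have : D1 = D := Subgroup.eq_of_le_of_card_ge hle (by rw [hD19, hD9])
    exact hDx (by rw [← hD1, this])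
  have hsup2 : D1 ⊔ Subgroup.zpowers l = F := by
    apply sup_eq_of_card_nine hD1F (by rw [Subgroup.zpowers_le]; exact hlF) hD19 hF27
    intro hle
    exact hlD1 (hle (Subgroup.mem_zpowers l))
  -- the three pairwise intersections are trivial
  have h01 : N0 ⊓ N1 = ⊥ := by
    rw [eq_bot_iff, ← hNF]
    intro y hy
    have hy0 : y ∈ Subgroup.centralizer (D : Set S) := by
      have := hy.1; rw [hN0] at this; exact this.2
    have hy1 : y ∈ Subgroup.centralizer (D1 : Set S) := by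
      have := hy.2; rw [hN1] at this; exact this.2
    have hle : D ⊔ D1 ≤ Subgroup.centralizer ({y} : Set S) := by
      apply sup_le
      · intro d hd
        rw [Subgroup.mem_centralizer_singleton_iff]
        exact (Subgroup.mem_centralizer_iff.mp hy0 d hd)
      · intro d hd
        rw [Subgroup.mem_centralizer_singleton_iff]
        exact (Subgroup.mem_centralizer_iff.mp hy1 d hd)
    rw [hsup1] at hle
    have hyF : y ∈ Subgroup.centralizer (F : Set S) := by
      rw [Subgroup.mem_centralizer_iff]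
      intro f hf
      have := hle hf
      rw [Subgroup.mem_centralizer_singleton_iff] at this
      exact this
    exact ⟨hN0N hy.1, hyF⟩
  have h12 : N1 ⊓ N2 = ⊥ := by
    rw [← hc01, ← hc12, ← PL.cj_inf, h01, PL.cj_bot]
  have h20 : N2 ⊓ N0 = ⊥ := by
    rw [← hc12, ← hc20, ← PL.cj_inf, h12, PL.cj_bot]
  -- injectivity of the commutator maps
  have hinj0 : ∀ m ∈ N0, ∀ m' ∈ N0, ⁅m, x⁆ = ⁅m', x⁆ → m = m' := by
    intro m hm m' hm' h
    exact commutator_injOn hMc hN0M (by rw [hc01]; exact h01) hm hm' h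
  have hinj1 : ∀ m ∈ N1, ∀ m' ∈ N1, ⁅m, x⁆ = ⁅m', x⁆ → m = m' := by
    intro m hm m' hm' h
    exact commutator_injOn hMc hN1M (by rw [hc12]; exact h12) hm hm' h
  let f0 : ↥N0 → ↥V := fun m => ⟨⁅(m : S), x⁆, hNV _ (hN0N m.2)⟩
  let f1 : ↥N1 → ↥V := fun m => ⟨⁅(m : S), x⁆, hNV _ (hN1N m.2)⟩
  have hf0 : Function.Injective f0 := by
    intro m m' h
    have h' : ⁅(m : S), x⁆ = ⁅(m' : S), x⁆ := congrArg Subtype.val h
    exact Subtype.ext (hinj0 _ m.2 _ m'.2 h')
  have hf1 : Function.Injective f1 := by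
    intro m m' h
    have h' : ⁅(m : S), x⁆ = ⁅(m' : S), x⁆ := congrArg Subtype.val h
    exact Subtype.ext (hinj1 _ m.2 _ m'.2 h')
  have hcard0 : Nat.card N0 ≤ 4 := by
    rw [← hV4]; exact Nat.card_le_card_of_injective f0 hf0
  -- `N0` is a 2-group
  have hP0 : IsPGroup 2 ↥N0 := by
    intro g
    refine ⟨1, ?_⟩
    apply Subtype.ext
    rw [pow_one]
    simpa using hM2 _ (hN0M g.2)
  obtain ⟨n, hn⟩ := (IsPGroup.iff_card).mp hP0
  have hn3 : n < 3 := by
    by_contra h
    push Not at h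
    have : 2 ^ 3 ≤ 2 ^ n := Nat.pow_le_pow_right (by norm_num) h
    rw [hn] at hcard0
    omega
  -- F normalizes N0 (elementwise conjugation)
  have hFcomm : ∀ E : Subgroup S, E ≤ F → ∀ f ∈ F, ∀ e ∈ E, f * e = e * f := by
    intro E hE f hf e he
    exact hFc f hf e (hE he)
  interval_cases n
  · -- card = 1
    apply hne
    exact Subgroup.eq_bot_of_card_eq N0 (by simpa using hn)
  · -- card = 2
    obtain ⟨⟨m₀, hm₀⟩, hm₀1⟩ := (Subgroup.ne_bot_iff_exists_ne_one).mp hne
    have hm₀' : m₀ ≠ 1 := fun h => hm₀1 (Subtype.ext h)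
    have hcent : m₀ ∈ Subgroup.centralizer (F : Set S) := by
      rw [Subgroup.mem_centralizer_iff]
      intro f hf
      have hconj : f * m₀ * f⁻¹ ∈ N0 := by
        rw [hN0]
        apply conj_mem_inf_centralizer (hFN hf) (hFcomm D hDF f hf)
        rw [← hN0]; exact hm₀
      have hconj1 : (⟨f * m₀ * f⁻¹, hconj⟩ : ↥N0) ≠ 1 := by
        intro h
        have h' : f * m₀ * f⁻¹ = 1 := congrArg Subtype.val h
        apply hm₀'
        have : m₀ = f⁻¹ * (f * m₀ * f⁻¹) * f := by group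
        rw [this, h']; group
      have heq := eq_of_card_two (by simpa using hn) hconj1 hm₀1
      have heq' : f * m₀ * f⁻¹ = m₀ := congrArg Subtype.val heq
      calc f * m₀ = f * m₀ * f⁻¹ * f := by group
        _ = m₀ * f := by rw [heq']
    have : m₀ ∈ N ⊓ Subgroup.centralizer (F : Set S) := ⟨hN0N hm₀, hcent⟩
    rw [hNF, Subgroup.mem_bot] at this
    exact hm₀' this
  · -- card = 4 : main case
    have hcard0' : Nat.card N0 = 4 := by simpa using hn
    have hcard1 : Nat.card N1 = 4 := by rw [← hc01, PL.card_cj, hcard0']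
    have hbij1 : Function.Bijective f1 :=
      hf1.bijective_of_nat_card_le (by rw [hV4, hcard1])
    apply hne
    rw [eq_bot_iff]
    intro a ha
    rw [Subgroup.mem_bot]
    -- v = [a, x] = a * b with b in N1
    obtain ⟨⟨b', hb'⟩, hb'v⟩ := hbij1.2 (f0 ⟨a, ha⟩)
    have hv : ⁅b', x⁆ = ⁅a, x⁆ := congrArg Subtype.val hb'v
    rw [commutatorElement_def, commutatorElement_def] at hv
    set b : S := x * a⁻¹ * x⁻¹ with hb
    set c' : S := x * b'⁻¹ * x⁻¹ with hc'
    have hbN1 : b ∈ N1 := by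
      rw [← hc01]; exact PL.conj_mem_cj (N0.inv_mem ha)
    have hc'N2 : c' ∈ N2 := by
      rw [← hc12]; exact PL.conj_mem_cj (N1.inv_mem hb')
    have hab : b' * c' = a * b := by
      rw [hb, hc']; simpa [mul_assoc] using hv
    -- b'' := b' * b⁻¹
    set b'' : S := b' * b⁻¹ with hb''
    have hb''N1 : b'' ∈ N1 := N1.mul_mem hb' (N1.inv_mem hbN1)
    have haM : a ∈ M := hN0M ha
    have hbM : b ∈ M := hN1M hbN1
    have hb'M : b' ∈ M := hN1M hb'
    have hc'M : c' ∈ M := hN2M hc'N2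
    have ha_eq : a = b'' * c' := by
      have h1 : a = b' * c' * b⁻¹ := by rw [hab]; group
      have h2 : c' * b⁻¹ = b⁻¹ * c' := hMc _ hc'M _ (M.inv_mem hbM)
      rw [h1, hb'', mul_assoc, h2, mul_assoc]
    -- conjugation by l
    have hla : l * a * l⁻¹ = a := by
      have ha0 : a ∈ Subgroup.centralizer (D : Set S) := by
        have := ha; rw [hN0] at this; exact this.2
      have := Subgroup.mem_centralizer_iff.mp ha0 l hlD
      rw [this]; group
    have hβ : l * b'' * l⁻¹ ∈ N1 := by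
      rw [hN1]
      apply conj_mem_inf_centralizer (hFN hlF) (hFcomm D1 hD1F l hlF)
      rw [← hN1]; exact hb''N1
    have hγ : l * c' * l⁻¹ ∈ N2 := by
      rw [hN2]
      apply conj_mem_inf_centralizer (hFN hlF) (hFcomm D2 hD2F l hlF)
      rw [← hN2]; exact hc'N2
    have hprod : (l * b'' * l⁻¹) * (l * c' * l⁻¹) = b'' * c' := by
      have : (l * b'' * l⁻¹) * (l * c' * l⁻¹) = l * (b'' * c') * l⁻¹ := by group
      rw [this, ← ha_eq, hla]
    -- b''⁻¹ * β = c' * γ⁻¹ lies in N1 ⊓ N2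
    have hβM : l * b'' * l⁻¹ ∈ M := hN1M hβ
    have hγM : l * c' * l⁻¹ ∈ M := hN2M hγ
    have hb''M : b'' ∈ M := hN1M hb''N1
    have hkey : b''⁻¹ * (l * b'' * l⁻¹) = c' * (l * c' * l⁻¹)⁻¹ := by
      have h1 : (l * b'' * l⁻¹) = b'' * c' * (l * c' * l⁻¹)⁻¹ := by
        rw [← hprod]; group
      rw [h1]; group
    have hmem : b''⁻¹ * (l * b'' * l⁻¹) ∈ N1 ⊓ N2 := by
      refine ⟨N1.mul_mem (N1.inv_mem hb''N1) hβ, ?_⟩
      rw [hkey]
      exact N2.mul_mem hc'N2 (N2.inv_mem hγ)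
    rw [h12, Subgroup.mem_bot] at hmem
    have hlb : l * b'' * l⁻¹ = b'' := by
      have : l * b'' * l⁻¹ = b'' * (b''⁻¹ * (l * b'' * l⁻¹)) := by group
      rw [this, hmem, mul_one]
    -- b'' is centralized by F
    have hb''C : b'' ∈ Subgroup.centralizer (F : Set S) := by
      have hle : D1 ⊔ Subgroup.zpowers l ≤ Subgroup.centralizer ({b''} : Set S) := by
        apply sup_le
        · intro d hd
          rw [Subgroup.mem_centralizer_singleton_iff]
          have h1 : b'' ∈ Subgroup.centralizer (D1 : Set S) := by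
            have := hb''N1; rw [hN1] at this; exact this.2
          exact (Subgroup.mem_centralizer_iff.mp h1 d hd)
        · rw [Subgroup.zpowers_le, Subgroup.mem_centralizer_singleton_iff]
          calc l * b'' = l * b'' * l⁻¹ * l := by group
            _ = b'' * l := by rw [hlb]
      rw [hsup2] at hle
      rw [Subgroup.mem_centralizer_iff]
      intro f hf
      have := hle hf
      rw [Subgroup.mem_centralizer_singleton_iff] at this
      exact this
    have hb''1 : b'' = 1 := by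
      have : b'' ∈ N ⊓ Subgroup.centralizer (F : Set S) := ⟨hN1N hb''N1, hb''C⟩
      rw [hNF, Subgroup.mem_bot] at this
      exact this
    have hac : a = c' := by rw [ha_eq, hb''1, one_mul]
    have : a ∈ N2 ⊓ N0 := ⟨by rw [hac]; exact hc'N2, ha⟩
    rw [h20, Subgroup.mem_bot] at this
    exact this

end Cfsg.Agent.Lib.Helper8.RK3
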