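/-
Farm RV (S3175), unit A6: an odd-order automorphism of an abelian 2-group commuting with the action of a 2-group
whose fixed points form a group of order at most 2 is trivial.  Statement verbatim from `Lib/Lead/RVStubs.lean`.
-/
import Mathlib

set_option autoImplicit false

namespace Cfsg.Agent.Lib.Helper8.RVA6

/-- UNIT A6 (abelian coprime action with a one-dimensional socle). -/
theorem abelian_coprime_fix {M : Type*} [CommGroup M] [Finite M] (hM : IsPGroup 2 M)
    (κ : MulAut M) (hκ : Odd (orderOf κ)) {Tt : Type*} [Group Tt] [Finite Tt] (hT : IsPGroup 2 Tt)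
    (ρ : Tt →* MulAut M) (hcomm : ∀ (t : Tt) (m : M), κ (ρ t m) = ρ t (κ m))
    (hfix : ∀ a b : M, (∀ t, ρ t a = a) → (∀ t, ρ t b = b) → a ≠ 1 → b ≠ 1 → a = b) :
    κ = 1 := by
  by_contra hne
  -- the homomorphism `m ↦ κ m * m⁻¹`
  let δ : M →* M :=
    { toFun := fun m => κ m * m⁻¹
      map_one' := by simp
      map_mul' := fun a b => by
        simp only [map_mul, mul_inv_rev]
        rw [mul_comm b⁻¹ a⁻¹, mul_mul_mul_comm] }
  have hδ : ∀ m, δ m = κ m * m⁻¹ := fun m => rfl
  have hNne : δ.range ≠ ⊥ := by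
    intro hbot
    apply hne
    ext m
    have hm : δ m ∈ δ.range := ⟨m, rfl⟩
    rw [hbot, Subgroup.mem_bot, hδ] at hm
    rw [MulAut.one_apply]
    exact mul_inv_eq_one.mp hm
  have hinv : ∀ (t : Tt) (x : M), x ∈ δ.range → ρ t x ∈ δ.range := by
    rintro t x ⟨m, rfl⟩
    refine ⟨ρ t m, ?_⟩
    rw [hδ, hδ, hcomm, map_mul, map_inv]
  let act : MulAction Tt δ.range :=
    { smul := fun t x => ⟨ρ t x.1, hinv t x.1 x.2⟩
      one_smul := fun x => Subtype.ext (by
        show ρ 1 x.1 = x.1
        rw [map_one, MulAut.one_apply])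
      mul_smul := fun t t' x => Subtype.ext (by
        show ρ (t * t') x.1 = ρ t (ρ t' x.1)
        rw [map_mul, MulAut.mul_apply]) }
  have hsmul : ∀ (t : Tt) (x : δ.range), ((t • x : δ.range) : M) = ρ t x.1 := fun t x => rfl
  have h2 : 2 ∣ Nat.card δ.range := by
    rcases (hM.to_subgroup δ.range).card_eq_or_dvd with h | h
    · exact absurd (Subgroup.card_eq_one.mp h) hNne
    · exact h
  have h1fix : (1 : δ.range) ∈ MulAction.fixedPoints Tt δ.range := by
    intro t
    apply Subtype.ext
    rw [hsmul]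
    simp
  obtain ⟨b, hb, hb1⟩ :=
    hT.exists_fixed_point_of_prime_dvd_card_of_fixed_point (δ.range) h2 h1fix
  -- the fixed point `s`
  have hs1 : (b : M) ≠ 1 := by
    intro h
    apply hb1
    apply Subtype.ext
    rw [h]; rfl
  have hsfix : ∀ t, ρ t (b : M) = (b : M) := by
    intro t
    have h := hb t
    have h' := congrArg (fun x : δ.range => (x : M)) h
    simpa [hsmul] using h'
  have hκs : κ (b : M) = (b : M) := by
    apply hfix
    · intro t
      rw [← hcomm, hsfix]
    · exact hsfix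
    · intro h
      apply hs1
      have : κ (b : M) = κ 1 := by rw [h, map_one]
      exact κ.injective this
    · exact hs1
  obtain ⟨m, hm⟩ := b.2
  rw [hδ] at hm
  have hκm : κ m = (b : M) * m := by rw [← hm, inv_mul_cancel_right]
  have hpow : ∀ k : ℕ, (κ ^ k) m * m⁻¹ = (b : M) ^ k := by
    intro k
    induction k with
    | zero => simp
    | succ k ih =>
      have e : (κ ^ k) m = (b : M) ^ k * m := by rw [← ih, inv_mul_cancel_right]
      rw [pow_succ', MulAut.mul_apply, e, map_mul, map_pow, hκs, hκm, pow_succ]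
      rw [mul_assoc, mul_assoc, mul_inv_cancel, mul_one]
  have hsn : (b : M) ^ orderOf κ = 1 := by
    rw [← hpow, pow_orderOf_eq_one, MulAut.one_apply, mul_inv_cancel]
  obtain ⟨k, hk⟩ := hM (b : M)
  have hd1 : orderOf (b : M) ∣ orderOf κ := orderOf_dvd_of_pow_eq_one hsn
  have hd2 : orderOf (b : M) ∣ 2 ^ k := orderOf_dvd_of_pow_eq_one hk
  have hcop : Nat.Coprime (2 ^ k) (orderOf κ) :=
    Nat.Coprime.pow_left k (Nat.coprime_two_left.mpr hκ)
  have hone : orderOf (b : M) = 1 := Nat.eq_one_of_dvd_coprimes hcop hd2 hd1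
  exact hs1 (orderOf_eq_one_iff.mp hone)

end Cfsg.Agent.Lib.Helper8.RVA6
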