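import Cfsg.Agent.Lib.Helper8.ZJIZ

/-! S2756, piece Z (2): `ZJ` commutes with homomorphisms injective on the subgroup. -/

set_option autoImplicit false
open scoped Pointwise commutatorElement
universe u v

namespace Cfsg.Agent.Lib.Helper8.ZJI

open Cfsg.Agent.Lib.Helper1.ZJ

variable {G : Type u} [Group G] [Finite G]

theorem card_map_of_injOn {G' : Type v} [Group G'] (f : G →* G') (A : Subgroup G)
    (hf : Set.InjOn f (A : Set G)) : Nat.card (A.map f) = Nat.card A := by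
  have h1 : Nat.card (A.map f) = ((A.map f : Subgroup G') : Set G').ncard :=
    Nat.card_coe_set_eq _
  have h2 : Nat.card A = (A : Set G).ncard := Nat.card_coe_set_eq _
  rw [h1, h2, Subgroup.coe_map]
  exact Set.ncard_image_of_injOn hf

theorem comm_map {G' : Type v} [Group G'] (f : G →* G') {A : Subgroup G}
    (hA : ∀ x ∈ A, ∀ y ∈ A, x * y = y * x) : ∀ x ∈ A.map f, ∀ y ∈ A.map f, x * y = y * x := by
  rintro _ ⟨x, hx, rfl⟩ _ ⟨y, hy, rfl⟩
  rw [← map_mul, ← map_mul, hA x hx y hy]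

/-- pull back a subgroup of `X.map f` to `X` -/
theorem map_comap_inf {G' : Type v} [Group G'] (f : G →* G') (X : Subgroup G) {B' : Subgroup G'}
    (hB' : B' ≤ X.map f) : (B'.comap f ⊓ X).map f = B' := by
  apply le_antisymm
  · rintro _ ⟨x, hx, rfl⟩
    exact hx.1
  · intro y hy
    obtain ⟨x, hx, rfl⟩ := hB' hy
    exact ⟨x, ⟨hy, hx⟩, rfl⟩

theorem comm_comap_inf {G' : Type v} [Group G'] (f : G →* G') (X : Subgroup G)
    (hf : Set.InjOn f (X : Set G)) {B' : Subgroup G'}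
    (hB' : ∀ x ∈ B', ∀ y ∈ B', x * y = y * x) :
    ∀ x ∈ B'.comap f ⊓ X, ∀ y ∈ B'.comap f ⊓ X, x * y = y * x := by
  intro x hx y hy
  apply hf (X.mul_mem hx.2 hy.2) (X.mul_mem hy.2 hx.2)
  rw [map_mul, map_mul]
  exact hB' _ hx.1 _ hy.1

theorem AA_map_injOn {G' : Type v} [Group G'] [Finite G'] (f : G →* G') (X : Subgroup G)
    (hf : Set.InjOn f (X : Set G)) (A' : Subgroup G') :
    A' ∈ AA (X.map f) ↔ ∃ A ∈ AA X, A.map f = A' := by
  constructor
  · rintro ⟨hle, hc, hmax⟩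
    refine ⟨A'.comap f ⊓ X, ⟨inf_le_right, comm_comap_inf f X hf hc, ?_⟩, map_comap_inf f X hle⟩
    intro B hB hBc
    have h1 := hmax (B.map f) (Subgroup.map_mono hB) (comm_map f hBc)
    rw [card_map_of_injOn f B (hf.mono hB)] at h1
    have h2 : Nat.card (A'.comap f ⊓ X : Subgroup G) = Nat.card A' := by
      rw [← card_map_of_injOn f (A'.comap f ⊓ X) (hf.mono inf_le_right), map_comap_inf f X hle]
    rw [h2]
    exact h1
  · rintro ⟨A, ⟨hle, hc, hmax⟩, rfl⟩
    refine ⟨Subgroup.map_mono hle, comm_map f hc, ?_⟩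
    intro B' hB' hB'c
    have h1 := hmax (B'.comap f ⊓ X) inf_le_right (comm_comap_inf f X hf hB'c)
    rw [← card_map_of_injOn f (B'.comap f ⊓ X) (hf.mono inf_le_right), map_comap_inf f X hB'] at h1
    rw [card_map_of_injOn f A (hf.mono hle)]
    exact h1

theorem ZJ_map_injOn {G' : Type v} [Group G'] [Finite G'] (f : G →* G') (X : Subgroup G)
    (hf : Set.InjOn f (X : Set G)) : ZJ (X.map f) = (ZJ X).map f := by
  rw [ZJ_eq, ZJ_eq]
  apply le_antisymm
  · intro y hy
    rw [Subgroup.mem_sInf] at hy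
    obtain ⟨A0, hA0⟩ := AA_nonempty X
    have h0 := hy (A0.map f) ((AA_map_injOn f X hf _).mpr ⟨A0, hA0, rfl⟩)
    obtain ⟨a0, ha0, rfl⟩ := h0
    refine ⟨a0, ?_, rfl⟩
    rw [SetLike.mem_coe, Subgroup.mem_sInf]
    intro A hA
    have h1 := hy (A.map f) ((AA_map_injOn f X hf _).mpr ⟨A, hA, rfl⟩)
    obtain ⟨a, ha, hfa⟩ := h1
    have : a = a0 := hf (hA.1 ha) (hA0.1 ha0) hfa
    rw [← this]; exact ha
  · rintro _ ⟨z, hz, rfl⟩
    rw [SetLike.mem_coe, Subgroup.mem_sInf] at hz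
    rw [Subgroup.mem_sInf]
    intro A' hA'
    obtain ⟨A, hA, rfl⟩ := (AA_map_injOn f X hf A').mp hA'
    exact Subgroup.mem_map_of_mem f (hz A hA)

/-- conjugation of Sylow subgroups -/
theorem concl_conj {q : ℕ} [hq : Fact q.Prime] (T T' : Sylow q G) (h : Concl q T) :
    Concl q T' := by
  obtain ⟨g, rfl⟩ := MulAction.exists_smul_eq G T T'
  obtain ⟨y, hy, hy1, n, hn, hinv⟩ := h
  have hmap : ((g • T : Sylow q G) : Subgroup G) =
      (T : Subgroup G).map (MulAut.conj g).toMonoidHom := by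
    rw [Sylow.coe_subgroup_smul, Subgroup.pointwise_smul_def]
    rfl
  have hZ : ZJ ((g • T : Sylow q G) : Subgroup G) =
      (ZJ (T : Subgroup G)).map (MulAut.conj g).toMonoidHom := by
    rw [hmap]
    exact ZJ_map_injOn _ _ ((MulAut.conj g).injective.injOn)
  refine ⟨g * y * g⁻¹, ?_, ?_, g * n * g⁻¹, ?_, ?_⟩
  · rw [hmap]
    exact ⟨y, hy, by simp [MulAut.conj_apply]⟩
  · intro h1
    apply hy1
    have : y = g⁻¹ * (g * y * g⁻¹) * g := by group
    rw [this, h1]; group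
  · rw [hZ, Subgroup.mem_normalizer_iff]
    intro x
    have hn' := Subgroup.mem_normalizer_iff.mp hn
    constructor
    · rintro ⟨z, hz, rfl⟩
      refine ⟨n * z * n⁻¹, (hn' z).mp hz, ?_⟩
      simp only [MulEquiv.coe_toMonoidHom, MulAut.conj_apply]
      group
    · rintro ⟨z, hz, hzx⟩
      simp only [MulEquiv.coe_toMonoidHom, MulAut.conj_apply] at hzx
      have hz' : n⁻¹ * z * n ∈ ZJ (T : Subgroup G) := by
        have := (hn' (n⁻¹ * z * n)).mpr (by
          have e : n * (n⁻¹ * z * n) * n⁻¹ = z := by group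
          rw [e]; exact hz)
        exact this
      refine ⟨n⁻¹ * z * n, hz', ?_⟩
      simp only [MulEquiv.coe_toMonoidHom, MulAut.conj_apply]
      have : x = g * n⁻¹ * g⁻¹ * (g * z * g⁻¹) * (g * n * g⁻¹) := by
        rw [hzx]; group
      rw [this]; group
  · have : g * n * g⁻¹ * (g * y * g⁻¹) * (g * n * g⁻¹)⁻¹ = g * (n * y * n⁻¹) * g⁻¹ := by group
    rw [this, hinv]; group

/-- THEOREM_q for a subgroup containing a Sylow subgroup of `G` gives it for `G` -/
theorem concl_of_subgroup {q : ℕ} [hq : Fact q.Prime] (M : Subgroup G) (T' : Sylow q M)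
    (T : Sylow q G) (hT : (T' : Subgroup M).map M.subtype = (T : Subgroup G)) (h : Concl q T') :
    Concl q T := by
  obtain ⟨y, hy, hy1, n, hn, hinv⟩ := h
  have hZ : ZJ (T : Subgroup G) = (ZJ (T' : Subgroup M)).map M.subtype := by
    rw [← hT]
    exact ZJ_map_injOn _ _ (M.subtype_injective.injOn)
  refine ⟨(y : G), ?_, ?_, (n : G), ?_, ?_⟩
  · rw [← hT]; exact ⟨y, hy, rfl⟩
  · intro h1
    apply hy1
    exact Subtype.ext h1
  · rw [hZ, Subgroup.mem_normalizer_iff]
    intro x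
    have hn' := Subgroup.mem_normalizer_iff.mp hn
    constructor
    · rintro ⟨z, hz, rfl⟩
      exact ⟨n * z * n⁻¹, (hn' z).mp hz, rfl⟩
    · rintro ⟨z, hz, hzx⟩
      have hxM : x ∈ M := by
        have : x = (n : G)⁻¹ * (z : G) * (n : G) := by
          have h2 : (z : G) = (n : G) * x * (n : G)⁻¹ := hzx
          rw [h2]; group
        rw [this]
        exact M.mul_mem (M.mul_mem (M.inv_mem n.2) z.2) n.2
      refine ⟨⟨x, hxM⟩, ?_, rfl⟩
      apply (hn' ⟨x, hxM⟩).mpr
      have : n * ⟨x, hxM⟩ * n⁻¹ = z := Subtype.ext hzx.symm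
      rw [this]; exact hz
  · have := congrArg Subtype.val hinv
    simpa using this

end Cfsg.Agent.Lib.Helper8.ZJI
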