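import Mathlib

/-! # S2276 farm, piece LF: `formPerm_append_cons_append` (helper8 copy) -/

set_option autoImplicit false
open Equiv Equiv.Perm

namespace Cfsg.Agent.Lib.Helper8.APF

theorem swap_three {Ω : Type*} [DecidableEq Ω] (a b p : Ω) (hab : a ≠ b) (hap : a ≠ p) (hbp : b ≠ p) :
    swap b a * swap a p = swap b p * swap b a := by
  ext x
  simp only [Equiv.Perm.mul_apply, Equiv.swap_apply_def]
  split_ifs <;> simp_all

/-- base step: moving a swap across -/
theorem swap_mul_formPerm_cons {Ω : Type*} [DecidableEq Ω] (a b : Ω) (post : List Ω) (hab : a ≠ b)
    (ha : a ∉ post) (hb : b ∉ post) :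
    swap b a * (a :: post).formPerm = (b :: post).formPerm * swap b a := by
  cases post with
  | nil => simp
  | cons p post' =>
    have hap : a ≠ p := fun h => ha (h ▸ List.mem_cons_self)
    have hbp : b ≠ p := fun h => hb (h ▸ List.mem_cons_self)
    rw [List.formPerm_cons_cons, List.formPerm_cons_cons, ← mul_assoc, swap_three a b p hab hap hbp,
      mul_assoc, mul_assoc]
    congr 1
    -- swap b a commutes with formPerm (p :: post')
    have hdisj : Equiv.Perm.Disjoint (swap b a) (p :: post').formPerm := by
      intro x
      by_cases hx : x ∈ (p :: post')
      · left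
        apply Equiv.swap_apply_of_ne_of_ne
        · rintro rfl; exact hb hx
        · rintro rfl; exact ha hx
      · right
        exact List.formPerm_apply_of_notMem hx
    exact hdisj.commute.eq

theorem formPerm_cons_append {Ω : Type*} [DecidableEq Ω] (b : Ω) (bs post : List Ω)
    (h : ((b :: bs) ++ post).Nodup) :
    ((b :: bs) ++ post).formPerm = (b :: post).formPerm * (b :: bs).formPerm := by
  induction bs generalizing b with
  | nil => simp
  | cons a bs' ih =>
    have h' : ((a :: bs') ++ post).Nodup := by
      simp only [List.cons_append, List.nodup_cons] at h ⊢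
      exact h.2
    have hab : a ≠ b := by
      rintro rfl
      simp at h
    have ha : a ∉ post := by
      simp only [List.cons_append, List.nodup_cons, List.mem_cons, List.mem_append] at h
      tauto
    have hb : b ∉ post := by
      simp only [List.cons_append, List.nodup_cons, List.mem_cons, List.mem_append] at h
      tauto
    rw [List.cons_append, List.cons_append, List.formPerm_cons_cons, ← List.cons_append, ih a h',
      List.formPerm_cons_cons, ← mul_assoc, ← mul_assoc, swap_mul_formPerm_cons a b post hab ha hb]

theorem formPerm_append_cons_append {Ω : Type*} [DecidableEq Ω] (pre : List Ω) (b : Ω) (bs post : List Ω) (h : (pre ++ (b :: bs) ++ post).Nodup) :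
    (pre ++ (b :: bs) ++ post).formPerm = (pre ++ (b :: post)).formPerm * (b :: bs).formPerm := by
  induction pre with
  | nil =>
    simp only [List.nil_append] at h ⊢
    exact formPerm_cons_append b bs post h
  | cons x pre' ih =>
    have h' : (pre' ++ (b :: bs) ++ post).Nodup := by
      simp only [List.cons_append, List.nodup_cons] at h
      exact h.2
    cases pre' with
    | nil =>
      simp only [List.nil_append, List.cons_append] at ih h' ⊢
      rw [List.formPerm_cons_cons, List.formPerm_cons_cons, mul_assoc]
      congr 1
      have := ih h'
      simpa using this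
    | cons y pre'' =>
      simp only [List.cons_append] at ih h' ⊢
      rw [List.formPerm_cons_cons, List.formPerm_cons_cons, mul_assoc]
      congr 1
      exact ih h'

end Cfsg.Agent.Lib.Helper8.APF
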