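import Mathlib
import Cfsg.Agent.Lib.Helper6.APFDefs
import Cfsg.Agent.Lib.Helper9.APFNS
import Cfsg.Agent.Lib.Helper8.APFLF

/-!
# S2276 farm, piece B1 (`coreB1`) and common lemmas on the points of a cycle
-/

set_option autoImplicit false

open Equiv Equiv.Perm
open Cfsg.Agent.Lib.Helper6.APF


namespace Cfsg.Agent.Lib.Helper8.APF

section cyc
set_option linter.unusedSectionVars false
variable {Ω : Type*} [DecidableEq Ω] [Fintype Ω]

/-- The points `x₀, c x₀, c² x₀, …` of a cycle. -/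
def ell (c : Perm Ω) (x₀ : Ω) (i : ℕ) : Ω := (c ^ i) x₀

theorem ell_mem_support {c : Perm Ω} {x₀ : Ω} (hx : x₀ ∈ c.support) (i : ℕ) :
    ell c x₀ i ∈ c.support :=
  Equiv.Perm.pow_apply_mem_support.mpr hx

theorem pow_ell (c : Perm Ω) (x₀ : Ω) (k i : ℕ) : (c ^ k) (ell c x₀ i) = ell c x₀ (i + k) := by
  unfold ell
  rw [← Equiv.Perm.mul_apply, ← pow_add, add_comm]

theorem c_ell (c : Perm Ω) (x₀ : Ω) (i : ℕ) : c (ell c x₀ i) = ell c x₀ (i + 1) := by
  have := pow_ell c x₀ 1 i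
  simpa using this

theorem ell_mod {c : Perm Ω} (hc : c.IsCycle) (x₀ : Ω) (i : ℕ) :
    ell c x₀ i = ell c x₀ (i % c.support.card) := by
  unfold ell
  rw [← hc.orderOf, pow_mod_orderOf]

theorem toList_eq_map {c : Perm Ω} (hc : c.IsCycle) {x₀ : Ω} (hx : x₀ ∈ c.support) :
    c.toList x₀ = (List.range c.support.card).map (ell c x₀) := by
  apply List.ext_getElem
  · simp [Equiv.Perm.length_toList, hc.cycleOf_eq (Equiv.Perm.mem_support.mp hx)]
  · intro i h1 h2
    simp [Equiv.Perm.getElem_toList, ell]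

theorem nodup_map_ell {c : Perm Ω} (hc : c.IsCycle) {x₀ : Ω} (hx : x₀ ∈ c.support) :
    ((List.range c.support.card).map (ell c x₀)).Nodup := by
  rw [← toList_eq_map hc hx]
  exact Equiv.Perm.nodup_toList c x₀

theorem formPerm_map_ell {c : Perm Ω} (hc : c.IsCycle) {x₀ : Ω} (hx : x₀ ∈ c.support) :
    ((List.range c.support.card).map (ell c x₀)).formPerm = c := by
  rw [← toList_eq_map hc hx, Equiv.Perm.formPerm_toList,
    hc.cycleOf_eq (Equiv.Perm.mem_support.mp hx)]

theorem ell_inj {c : Perm Ω} (hc : c.IsCycle) {x₀ : Ω} (hx : x₀ ∈ c.support) {i j : ℕ}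
    (h : ell c x₀ i = ell c x₀ j) : i % c.support.card = j % c.support.card := by
  have hm : 0 < c.support.card := Finset.card_pos.mpr ⟨x₀, hx⟩
  have hi : i % c.support.card < c.support.card := Nat.mod_lt _ hm
  have hj : j % c.support.card < c.support.card := Nat.mod_lt _ hm
  rw [ell_mod hc x₀ i, ell_mod hc x₀ j] at h
  have hnd := nodup_map_ell hc hx
  have hlen : ((List.range c.support.card).map (ell c x₀)).length = c.support.card := by simp
  have h1 : ((List.range c.support.card).map (ell c x₀))[i % c.support.card]'(by rw [hlen]; exact hi)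
      = ell c x₀ (i % c.support.card) := by simp
  have h2 : ((List.range c.support.card).map (ell c x₀))[j % c.support.card]'(by rw [hlen]; exact hj)
      = ell c x₀ (j % c.support.card) := by simp
  exact (hnd.getElem_inj_iff).mp (by rw [h1, h2, h])

theorem ell_ne {c : Perm Ω} (hc : c.IsCycle) {x₀ : Ω} (hx : x₀ ∈ c.support) {i j : ℕ}
    (h : i % c.support.card ≠ j % c.support.card) : ell c x₀ i ≠ ell c x₀ j :=
  fun h' => h (ell_inj hc hx h')

/-- splitting the list of points of the cycle -/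
theorem range_map_split (c : Perm Ω) (x₀ : Ω) (n k : ℕ) :
    (List.range (n + k)).map (ell c x₀) =
      (List.range n).map (ell c x₀) ++ (List.range k).map (fun i => ell c x₀ (n + i)) := by
  rw [List.range_add, List.map_append, List.map_map]
  rfl

/-- conjugating a swap of two points of the cycle by a power of the cycle -/
theorem conj_swap_ell (c : Perm Ω) (x₀ : Ω) (k i j : ℕ) :
    c ^ k * swap (ell c x₀ i) (ell c x₀ j) * (c ^ k)⁻¹ =
      swap (ell c x₀ (i + k)) (ell c x₀ (j + k)) := by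
  rw [← Equiv.swap_apply_apply, pow_ell, pow_ell]

theorem swap_ell_fix {c : Perm Ω} {x₀ : Ω} (hx : x₀ ∈ c.support) (i j : ℕ) {x : Ω}
    (hxs : x ∉ c.support) : swap (ell c x₀ i) (ell c x₀ j) x = x := by
  apply Equiv.swap_apply_of_ne_of_ne
  · rintro rfl; exact hxs (ell_mem_support hx i)
  · rintro rfl; exact hxs (ell_mem_support hx j)

end cyc

theorem coreB1 {Ω : Type*} [DecidableEq Ω] [Fintype Ω] (c : Perm Ω) (hc : c.IsCycle) (hm : 5 ≤ c.support.card) (h3 : 3 ∣ c.support.card) :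
    ∃ v : Perm Ω, v.cycleType = {3} ∧ (∀ x, x ∉ c.support → v x = x) ∧ Good 3 c v := by
  obtain ⟨x₀, hx⟩ : ∃ x, x ∈ c.support := Finset.card_pos.mp (by omega)
  set ℓ := ell c x₀ with hℓ
  obtain ⟨k, hk⟩ : ∃ k, c.support.card = 3 + k := ⟨c.support.card - 3, by omega⟩
  have hne : ∀ i j : ℕ, i < 5 → j < 5 → i ≠ j → ℓ i ≠ ℓ j := by
    intro i j hi hj hij
    apply ell_ne hc hx
    rw [Nat.mod_eq_of_lt (by omega), Nat.mod_eq_of_lt (by omega)]
    exact hij
  set post := (List.range k).map (fun i => ℓ (3 + i)) with hpost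
  have hL : (List.range c.support.card).map ℓ = [ℓ 0, ℓ 1, ℓ 2] ++ post := by
    rw [hk, hℓ, range_map_split]
    simp [List.range_succ, hpost, hℓ]
  have hnd : ([ℓ 0, ℓ 1, ℓ 2] ++ post).Nodup := by
    rw [← hL]; exact nodup_map_ell hc hx
  have hform : ([ℓ 0, ℓ 1, ℓ 2] ++ post).formPerm = c := by
    rw [← hL]; exact formPerm_map_ell hc hx
  -- LF
  have hLF := formPerm_append_cons_append ([] : List Ω) (ℓ 0) [ℓ 1, ℓ 2] post (by simpa using hnd)
  simp only [List.nil_append] at hLF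
  have hv0 : ([ℓ 0, ℓ 1, ℓ 2] : List Ω).formPerm = swap (ℓ 0) (ℓ 1) * swap (ℓ 1) (ℓ 2) := by
    simp [List.formPerm_cons_cons]
  set v₀ := swap (ℓ 0) (ℓ 1) * swap (ℓ 1) (ℓ 2) with hv₀
  set κ := (ℓ 0 :: post).formPerm with hκ
  have hcκ : c = κ * v₀ := by
    rw [← hform, hLF, hv0]
  have h3c : v₀.IsThreeCycle := by
    rw [hv₀, Equiv.swap_comm (ℓ 0) (ℓ 1)]
    exact Equiv.Perm.isThreeCycle_swap_mul_swap_same (hne 1 0 (by omega) (by omega) (by omega))
      (hne 1 2 (by omega) (by omega) (by omega)) (hne 0 2 (by omega) (by omega) (by omega))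
  refine ⟨v₀⁻¹, h3c.inv.cycleType, ?_, ?_, ?_⟩
  · intro x hxs
    rw [Equiv.Perm.inv_eq_iff_eq, hv₀, Equiv.Perm.mul_apply, swap_ell_fix hx 1 2 hxs,
      swap_ell_fix hx 0 1 hxs]
  · -- order
    rintro ⟨e, he⟩
    have hcv : c * v₀⁻¹ = κ := by rw [hcκ]; group
    rw [hcv] at he
    have hndκ : (ℓ 0 :: post).Nodup := by
      have := hnd
      simp only [List.cons_append, List.nil_append, List.nodup_cons, List.mem_cons] at this ⊢
      refine ⟨fun h => this.1 (Or.inr (Or.inr h)), this.2.2.2⟩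
    have hlen : (ℓ 0 :: post).length = k + 1 := by simp [hpost]
    have hcyc : κ.IsCycle := List.isCycle_formPerm hndκ (by rw [hlen]; omega)
    have hsupp : κ.support = (ℓ 0 :: post).toFinset := by
      apply List.support_formPerm_of_nodup _ hndκ
      intro x hx'
      have := congrArg List.length hx'
      rw [hlen] at this
      simp at this
      omega
    have hord : orderOf κ = k + 1 := by
      rw [hcyc.orderOf, hsupp, List.toFinset_card_of_nodup hndκ, hlen]
    rw [hord] at he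
    -- k + 1 = 3 ^ e, 3 ∣ 3 + k, 5 ≤ 3 + k
    rcases Nat.eq_zero_or_pos e with h0 | h0
    · subst h0; simp at he; omega
    · have : 3 ∣ 3 ^ e := dvd_pow_self 3 (by omega)
      omega
  · -- nonsolvable
    apply Cfsg.Agent.Lib.Helper9.APF.not_solvable_of_three_cycles (ℓ 0) (ℓ 1) (ℓ 2) (ℓ 3) (ℓ 4)
    · simp only [List.nodup_cons, List.mem_cons, List.not_mem_nil, or_false, not_or,
        List.nodup_nil, and_true, not_false_eq_true]
      refine ⟨⟨?_, ?_, ?_, ?_⟩, ⟨?_, ?_, ?_⟩, ⟨?_, ?_⟩, ?_⟩ <;>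
        exact hne _ _ (by omega) (by omega) (by omega)
    · have : v₀⁻¹ ∈ Subgroup.closure ({c, v₀⁻¹} : Set (Perm Ω)) :=
        Subgroup.subset_closure (by simp)
      have := Subgroup.inv_mem _ this
      simpa using this
    · have hv : v₀ ∈ Subgroup.closure ({c, v₀⁻¹} : Set (Perm Ω)) := by
        have : v₀⁻¹ ∈ Subgroup.closure ({c, v₀⁻¹} : Set (Perm Ω)) :=
          Subgroup.subset_closure (by simp)
        have := Subgroup.inv_mem _ this
        simpa using this
      have hcm : c ∈ Subgroup.closure ({c, v₀⁻¹} : Set (Perm Ω)) :=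
        Subgroup.subset_closure (by simp)
      have hc2 : c ^ 2 ∈ Subgroup.closure ({c, v₀⁻¹} : Set (Perm Ω)) := Subgroup.pow_mem _ hcm 2
      have hconj : c ^ 2 * v₀ * (c ^ 2)⁻¹ = swap (ℓ 2) (ℓ 3) * swap (ℓ 3) (ℓ 4) := by
        have e1 : c ^ 2 * swap (ℓ 0) (ℓ 1) * (c ^ 2)⁻¹ = swap (ℓ 2) (ℓ 3) :=
          conj_swap_ell c x₀ 2 0 1
        have e2 : c ^ 2 * swap (ℓ 1) (ℓ 2) * (c ^ 2)⁻¹ = swap (ℓ 3) (ℓ 4) :=
          conj_swap_ell c x₀ 2 1 2
        rw [hv₀, ← e1, ← e2]
        group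
      rw [← hconj]
      exact Subgroup.mul_mem _ (Subgroup.mul_mem _ hc2 hv) (Subgroup.inv_mem _ hc2)

end Cfsg.Agent.Lib.Helper8.APF
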