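import Mathlib
import Cfsg.Agent.Lib.Helper6.APFDefs
import Cfsg.Agent.Lib.Helper9.APFNS
import Cfsg.Agent.Lib.Helper7.APFPLUS
import Cfsg.Agent.Lib.Helper8.APFB1

/-!
# S2276 farm, piece B2 (`coreB2`)
-/

set_option autoImplicit false

open Equiv Equiv.Perm
open Cfsg.Agent.Lib.Helper6.APF


namespace Cfsg.Agent.Lib.Helper8.APF

theorem three_fix {Ω : Type*} [DecidableEq Ω] (a b d x : Ω) (h1 : x ≠ a) (h2 : x ≠ b) (h3 : x ≠ d) :
    (swap a b * swap b d) x = x := by
  rw [Equiv.Perm.mul_apply, Equiv.swap_apply_of_ne_of_ne h2 h3, Equiv.swap_apply_of_ne_of_ne h1 h2]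

theorem isThree {Ω : Type*} [DecidableEq Ω] [Fintype Ω] (a b d : Ω) (hab : a ≠ b) (had : a ≠ d)
    (hbd : b ≠ d) : (swap a b * swap b d).IsThreeCycle := by
  rw [Equiv.swap_comm a b]
  exact Equiv.Perm.isThreeCycle_swap_mul_swap_same hab.symm hbd had

theorem orderOf_formPerm_of_nodup {Ω : Type*} [DecidableEq Ω] [Fintype Ω] (l : List Ω) (hnd : l.Nodup)
    (hl : 2 ≤ l.length) : orderOf l.formPerm = l.length := by
  have hcyc : l.formPerm.IsCycle := List.isCycle_formPerm hnd hl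
  have hsupp : l.formPerm.support = l.toFinset := by
    apply List.support_formPerm_of_nodup _ hnd
    intro x hx'
    have := congrArg List.length hx'
    simp at this
    omega
  rw [hcyc.orderOf, hsupp, List.toFinset_card_of_nodup hnd]

set_option maxHeartbeats 1600000 in
theorem coreB2 {Ω : Type*} [DecidableEq Ω] [Fintype Ω] (c : Perm Ω) (hc : c.IsCycle) (hm : 9 ≤ c.support.card) (h3 : 3 ∣ c.support.card) (j : ℕ) (hj : 2 ≤ j) (hj3 : 3 * j ≤ c.support.card) :
    ∃ v : Perm Ω, v.cycleType = Multiset.replicate j 3 ∧ (∀ x, x ∉ c.support → v x = x) ∧ Good 3 c v := by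
  obtain ⟨x₀, hx⟩ : ∃ x, x ∈ c.support := Finset.card_pos.mp (by omega)
  set ℓ := ell c x₀ with hℓ
  obtain ⟨k, hk⟩ : ∃ k, c.support.card = 9 + k := ⟨c.support.card - 9, by omega⟩
  obtain ⟨t, rfl⟩ : ∃ t, j = t + 2 := ⟨j - 2, by omega⟩
  have hne : ∀ i j : ℕ, i < 9 → j < 9 → i ≠ j → ℓ i ≠ ℓ j := by
    intro i j hi hj hij
    apply ell_ne hc hx
    rw [Nat.mod_eq_of_lt (by omega), Nat.mod_eq_of_lt (by omega)]
    exact hij
  have hne9 : ∀ i : ℕ, 4 ≤ i → i < 9 → ℓ 9 ≠ ℓ i := by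
    intro i hi1 hi2
    apply ell_ne hc hx
    rw [hk, Nat.mod_eq_of_lt (show i < 9 + k by omega)]
    rcases Nat.eq_zero_or_pos k with h0 | h0
    · subst h0; simp; omega
    · rw [Nat.mod_eq_of_lt (by omega)]; omega
  set R := (List.range k).map (fun i => ℓ (9 + i)) with hR
  have hL : (List.range c.support.card).map ℓ =
      [ℓ 0, ℓ 1, ℓ 2, ℓ 3, ℓ 4, ℓ 5, ℓ 6, ℓ 7, ℓ 8] ++ R := by
    rw [hk, hℓ, range_map_split]
    simp [List.range_succ, hR, hℓ]
  have hnd : ([ℓ 0, ℓ 1, ℓ 2, ℓ 3, ℓ 4, ℓ 5, ℓ 6, ℓ 7, ℓ 8] ++ R).Nodup := by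
    rw [← hL]; exact nodup_map_ell hc hx
  have hform : ([ℓ 0, ℓ 1, ℓ 2, ℓ 3, ℓ 4, ℓ 5, ℓ 6, ℓ 7, ℓ 8] ++ R).formPerm = c := by
    rw [← hL]; exact formPerm_map_ell hc hx
  have hRnot : ∀ i, i < 9 → ℓ i ∉ R := by
    intro i hi hmem
    have h1 := (List.nodup_append.mp hnd).2.2 (ℓ i) (by
      interval_cases i <;> simp) (ℓ i) hmem
    exact h1 rfl
  have hRsupp : ∀ x ∈ R, x ∈ c.support := by
    intro x hxR
    rw [hR, List.mem_map] at hxR
    obtain ⟨i, -, rfl⟩ := hxR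
    exact ell_mem_support hx _
  -- the two applications of LF
  have hnd8 : ([ℓ 0, ℓ 1, ℓ 2, ℓ 3, ℓ 5, ℓ 6, ℓ 7, ℓ 8] ++ R).Nodup := by
    refine hnd.sublist ?_
    simp
  have hndK : ([ℓ 0, ℓ 1, ℓ 2, ℓ 3, ℓ 5] ++ R).Nodup := by
    refine hnd8.sublist ?_
    simp only [List.cons_append, List.nil_append, List.cons_sublist_cons]
    exact (List.sublist_cons_self _ _).trans ((List.sublist_cons_self _ _).trans
      (List.sublist_cons_self _ _))
  have hLFa : ([ℓ 0, ℓ 1, ℓ 2, ℓ 3, ℓ 4, ℓ 5, ℓ 6, ℓ 7, ℓ 8] ++ R).formPerm =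
      ([ℓ 0, ℓ 1, ℓ 2, ℓ 3, ℓ 5, ℓ 6, ℓ 7, ℓ 8] ++ R).formPerm * [ℓ 3, ℓ 4].formPerm := by
    have := formPerm_append_cons_append [ℓ 0, ℓ 1, ℓ 2] (ℓ 3) [ℓ 4] ([ℓ 5, ℓ 6, ℓ 7, ℓ 8] ++ R)
      (by simpa using hnd)
    simpa only [List.cons_append, List.nil_append, List.append_assoc] using this
  have hLFb : ([ℓ 0, ℓ 1, ℓ 2, ℓ 3, ℓ 5, ℓ 6, ℓ 7, ℓ 8] ++ R).formPerm =
      ([ℓ 0, ℓ 1, ℓ 2, ℓ 3, ℓ 5] ++ R).formPerm * [ℓ 5, ℓ 6, ℓ 7, ℓ 8].formPerm := by
    have := formPerm_append_cons_append [ℓ 0, ℓ 1, ℓ 2, ℓ 3] (ℓ 5) [ℓ 6, ℓ 7, ℓ 8] R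
      (by simpa using hnd8)
    simpa only [List.cons_append, List.nil_append, List.append_assoc] using this
  set K₁ := [ℓ 0, ℓ 1, ℓ 2, ℓ 3, ℓ 5] ++ R with hK₁
  set κ := K₁.formPerm with hκ
  have hc_eq : c = κ * [ℓ 5, ℓ 6, ℓ 7, ℓ 8].formPerm * [ℓ 3, ℓ 4].formPerm := by
    rw [← hform, hLFa, hLFb]
  -- the finite identity
  set v₁ := (swap (ℓ 3) (ℓ 4) * swap (ℓ 4) (ℓ 6)) * (swap (ℓ 5) (ℓ 8) * swap (ℓ 8) (ℓ 7)) with hv₁
  set y := swap (ℓ 4) (ℓ 7) * swap (ℓ 7) (ℓ 6) with hy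
  have hfin : [ℓ 5, ℓ 6, ℓ 7, ℓ 8].formPerm * [ℓ 3, ℓ 4].formPerm * v₁ = y := by
    have hinj : Function.Injective (fun i : Fin 9 => ℓ i.val) := by
      intro a b hab
      by_contra hne'
      exact hne a.val b.val a.isLt b.isLt (fun h => hne' (Fin.ext h)) hab
    let ι : Fin 9 ↪ Ω := ⟨fun i : Fin 9 => ℓ i.val, hinj⟩
    have h9 : (swap (5 : Fin 9) 6 * (swap 6 7 * swap 7 8)) * swap 3 4 *
        ((swap 3 4 * swap 4 6) * (swap 5 8 * swap 8 7)) = swap 4 7 * swap 7 6 := by decide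
    have := congrArg (Equiv.Perm.viaEmbeddingHom ι) h9
    simp only [map_mul, Cfsg.Agent.Lib.Helper9.APF.viaEmbeddingHom_swap] at this
    have e1 : [ℓ 5, ℓ 6, ℓ 7, ℓ 8].formPerm = swap (ℓ 5) (ℓ 6) * (swap (ℓ 6) (ℓ 7) * swap (ℓ 7) (ℓ 8)) := by
      simp [List.formPerm_cons_cons]
    have e2 : [ℓ 3, ℓ 4].formPerm = swap (ℓ 3) (ℓ 4) := by simp
    rw [e1, e2, hv₁, hy]
    exact this
  set d := c * v₁ with hd
  have hd_eq : d = κ * y := by
    rw [hd, hc_eq, ← hfin]
    group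
  -- run
  set run := R ++ [ℓ 0, ℓ 1, ℓ 2] with hrun_def
  have hK₁' : K₁.rotate 5 = run ++ [ℓ 3, ℓ 5] := by
    have := List.rotate_append_length_eq [ℓ 0, ℓ 1, ℓ 2, ℓ 3, ℓ 5] R
    simp only [List.length_cons, List.length_nil] at this
    rw [hK₁, this, hrun_def]
    simp
  have hκ' : (run ++ [ℓ 3, ℓ 5]).formPerm = κ := by
    rw [← hK₁', hκ]
    exact List.formPerm_rotate K₁ hndK 5
  have hnd' : (run ++ [ℓ 3, ℓ 5]).Nodup := by
    rw [← hK₁']
    exact List.nodup_rotate.mpr hndK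
  have hrunnd : run.Nodup := (List.nodup_append.mp hnd').1
  have hrunmem : ∀ x ∈ run, ∀ i, 3 ≤ i → i < 9 → x ≠ ℓ i := by
    intro x hxr i hi1 hi2 hxe
    rw [hrun_def, List.mem_append] at hxr
    rcases hxr with hxr | hxr
    · exact hRnot i hi2 (hxe ▸ hxr)
    · simp only [List.mem_cons, List.not_mem_nil, or_false] at hxr
      rcases hxr with h | h | h
      · exact hne 0 i (by omega) hi2 (by omega) (h ▸ hxe)
      · exact hne 1 i (by omega) hi2 (by omega) (h ▸ hxe)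
      · exact hne 2 i (by omega) hi2 (by omega) (h ▸ hxe)
  have hrunsupp : ∀ x ∈ run, x ∈ c.support := by
    intro x hxr
    rw [hrun_def, List.mem_append] at hxr
    rcases hxr with hxr | hxr
    · exact hRsupp x hxr
    · simp only [List.mem_cons, List.not_mem_nil, or_false] at hxr
      rcases hxr with h | h | h <;> (rw [h]; exact ell_mem_support hx _)
  have hyfix : ∀ x ∈ run, y x = x := by
    intro x hxr
    exact three_fix _ _ _ _ (hrunmem x hxr 4 (by omega) (by omega))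
      (hrunmem x hxr 7 (by omega) (by omega)) (hrunmem x hxr 6 (by omega) (by omega))
  have hrun : ∀ i (hi : i + 1 < run.length), d (run[i]'(by omega)) = run[i + 1] := by
    intro i hi
    rw [hd_eq, Equiv.Perm.mul_apply, hyfix _ (List.getElem_mem _), ← hκ']
    have h1 : (run ++ [ℓ 3, ℓ 5])[i]'(by rw [List.length_append]; omega) = run[i] :=
      List.getElem_append_left (by omega)
    have h2 : (run ++ [ℓ 3, ℓ 5])[i + 1]'(by rw [List.length_append]; omega) = run[i + 1] :=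
      List.getElem_append_left hi
    rw [← h1, ← h2]
    exact List.formPerm_apply_lt_getElem _ hnd' i (by rw [List.length_append]; omega)
  have hrunlen : run.length = k + 3 := by simp [hrun_def, hR]
  obtain ⟨z, S, hz, hzfix, hSfix, hdz⟩ :=
    Cfsg.Agent.Lib.Helper7.APF.mul_triples_conj d t run hrunnd hrun (by rw [hrunlen]; omega)
  -- disjointness facts
  have hA3 : (swap (ℓ 3) (ℓ 4) * swap (ℓ 4) (ℓ 6)).IsThreeCycle :=
    isThree _ _ _ (hne 3 4 (by omega) (by omega) (by omega)) (hne 3 6 (by omega) (by omega) (by omega))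
      (hne 4 6 (by omega) (by omega) (by omega))
  have hB3 : (swap (ℓ 5) (ℓ 8) * swap (ℓ 8) (ℓ 7)).IsThreeCycle :=
    isThree _ _ _ (hne 5 8 (by omega) (by omega) (by omega)) (hne 5 7 (by omega) (by omega) (by omega))
      (hne 8 7 (by omega) (by omega) (by omega))
  have hy3 : y.IsThreeCycle :=
    isThree _ _ _ (hne 4 7 (by omega) (by omega) (by omega)) (hne 4 6 (by omega) (by omega) (by omega))
      (hne 7 6 (by omega) (by omega) (by omega))
  have hAB : Equiv.Perm.Disjoint (swap (ℓ 3) (ℓ 4) * swap (ℓ 4) (ℓ 6))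
      (swap (ℓ 5) (ℓ 8) * swap (ℓ 8) (ℓ 7)) := by
    intro x
    by_cases hx3 : x = ℓ 3 ∨ x = ℓ 4 ∨ x = ℓ 6
    · right
      rcases hx3 with h | h | h <;> subst h <;>
        exact three_fix _ _ _ _ (hne _ _ (by omega) (by omega) (by omega))
          (hne _ _ (by omega) (by omega) (by omega)) (hne _ _ (by omega) (by omega) (by omega))
    · left
      push Not at hx3
      exact three_fix _ _ _ _ hx3.1 hx3.2.1 hx3.2.2
  have hv₁fix : ∀ x ∈ run, v₁ x = x := by
    intro x hxr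
    rw [hv₁, Equiv.Perm.mul_apply,
      three_fix _ _ _ _ (hrunmem x hxr 5 (by omega) (by omega))
        (hrunmem x hxr 8 (by omega) (by omega)) (hrunmem x hxr 7 (by omega) (by omega)),
      three_fix _ _ _ _ (hrunmem x hxr 3 (by omega) (by omega))
        (hrunmem x hxr 4 (by omega) (by omega)) (hrunmem x hxr 6 (by omega) (by omega))]
  have hv₁z : Equiv.Perm.Disjoint v₁ z := by
    intro x
    by_cases hxr : x ∈ run
    · left; exact hv₁fix x hxr
    · right; exact hzfix x hxr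
  have hSy : Equiv.Perm.Disjoint S y := by
    intro x
    by_cases hxr : x ∈ run
    · right; exact hyfix x hxr
    · left; exact hSfix x hxr
  have hκy : Equiv.Perm.Disjoint κ y := by
    intro x
    by_cases hxK : x ∈ K₁
    · right
      have : x ∈ run ∨ x = ℓ 3 ∨ x = ℓ 5 := by
        rw [hK₁] at hxK
        rw [hrun_def]
        simp only [List.cons_append, List.nil_append, List.mem_cons, List.mem_append,
          List.not_mem_nil, or_false] at hxK ⊢
        tauto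
      rcases this with h | h | h
      · exact hyfix x h
      · subst h
        exact three_fix _ _ _ _ (hne _ _ (by omega) (by omega) (by omega))
          (hne _ _ (by omega) (by omega) (by omega)) (hne _ _ (by omega) (by omega) (by omega))
      · subst h
        exact three_fix _ _ _ _ (hne _ _ (by omega) (by omega) (by omega))
          (hne _ _ (by omega) (by omega) (by omega)) (hne _ _ (by omega) (by omega) (by omega))
    · left
      exact List.formPerm_apply_of_notMem hxK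
  have hK₁len : K₁.length = 5 + k := by simp [hK₁, hR]; omega
  have hκord : orderOf κ = 5 + k := by
    rw [hκ, orderOf_formPerm_of_nodup K₁ hndK (by rw [hK₁len]; omega), hK₁len]
  have hcv : c * (v₁ * z) = S * d * S⁻¹ := by
    rw [← mul_assoc, ← hd, hdz]
  refine ⟨v₁ * z, ?_, ?_, ?_, ?_⟩
  · rw [hv₁z.cycleType_mul, hv₁, hAB.cycleType_mul, hA3.cycleType, hB3.cycleType, hz]
    simp [Multiset.replicate_succ]
  · intro x hxs
    have hxr : x ∉ run := fun h => hxs (hrunsupp x h)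
    rw [Equiv.Perm.mul_apply, hzfix x hxr, hv₁, Equiv.Perm.mul_apply, Equiv.Perm.mul_apply,
      Equiv.Perm.mul_apply, swap_ell_fix hx 8 7 hxs, swap_ell_fix hx 5 8 hxs,
      swap_ell_fix hx 4 6 hxs, swap_ell_fix hx 3 4 hxs]
  · -- order
    rintro ⟨e, he⟩
    rw [hcv] at he
    have h1 : orderOf (S * d * S⁻¹) = orderOf d := by
      have := (MulAut.conj S).orderOf_eq d
      rwa [MulAut.conj_apply] at this
    rw [h1, hd_eq, hκy.orderOf, hκord, hy3.orderOf] at he
    have hdvd : (5 + k) ∣ 3 ^ e := by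
      rw [← he]; exact Nat.dvd_lcm_left _ _
    obtain ⟨i, -, hi⟩ := (Nat.dvd_prime_pow Nat.prime_three).mp hdvd
    rcases Nat.eq_zero_or_pos i with h0 | h0
    · subst h0; rw [pow_zero] at hi; omega
    · have : 3 ∣ 3 ^ i := dvd_pow_self 3 (by omega)
      omega
  · -- nonsolvable
    set H := Subgroup.closure ({c, v₁ * z} : Set (Perm Ω)) with hH
    have hcm : c ∈ H := Subgroup.subset_closure (by simp)
    have hvm : v₁ * z ∈ H := Subgroup.subset_closure (by simp)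
    have hc2 : c ^ 2 ∈ H := Subgroup.pow_mem _ hcm 2
    obtain ⟨k', hk'⟩ : ∃ k', k = 3 * k' := by
      obtain ⟨q, hq⟩ := h3
      exact ⟨q - 3, by omega⟩
    have hpow : (c * (v₁ * z)) ^ (2 * (5 + k)) = y := by
      rw [hcv, conj_pow, hd_eq, hκy.commute.mul_pow]
      have e1 : κ ^ (2 * (5 + k)) = 1 := by
        rw [← hκord, mul_comm, pow_mul, pow_orderOf_eq_one, one_pow]
      have e2 : y ^ (2 * (5 + k)) = y := by
        have : 2 * (5 + k) = 3 * (3 + 2 * k') + 1 := by omega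
        rw [this, pow_succ, pow_mul, ← hy3.orderOf, pow_orderOf_eq_one, one_pow, one_mul]
      rw [e1, e2, one_mul]
      have := hSy.commute.eq
      rw [this, mul_inv_cancel_right]
    have hym : y ∈ H := by
      rw [← hpow]
      exact Subgroup.pow_mem _ (Subgroup.mul_mem _ hcm hvm) _
    apply Cfsg.Agent.Lib.Helper9.APF.not_solvable_of_three_cycles (ℓ 4) (ℓ 7) (ℓ 6) (ℓ 9) (ℓ 8)
    · simp only [List.nodup_cons, List.mem_cons, List.not_mem_nil, or_false, not_or,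
        List.nodup_nil, and_true, not_false_eq_true]
      refine ⟨⟨?_, ?_, ?_, ?_⟩, ⟨?_, ?_, ?_⟩, ⟨?_, ?_⟩, ?_⟩
      · exact hne _ _ (by omega) (by omega) (by omega)
      · exact hne _ _ (by omega) (by omega) (by omega)
      · exact (hne9 4 (by omega) (by omega)).symm
      · exact hne _ _ (by omega) (by omega) (by omega)
      · exact hne _ _ (by omega) (by omega) (by omega)
      · exact (hne9 7 (by omega) (by omega)).symm
      · exact hne _ _ (by omega) (by omega) (by omega)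
      · exact (hne9 6 (by omega) (by omega)).symm
      · exact hne _ _ (by omega) (by omega) (by omega)
      · exact hne9 8 (by omega) (by omega)
    · exact hym
    · have e1 : c ^ 2 * swap (ℓ 4) (ℓ 7) * (c ^ 2)⁻¹ = swap (ℓ 6) (ℓ 9) :=
        conj_swap_ell c x₀ 2 4 7
      have e2 : c ^ 2 * swap (ℓ 7) (ℓ 6) * (c ^ 2)⁻¹ = swap (ℓ 9) (ℓ 8) :=
        conj_swap_ell c x₀ 2 7 6
      have hconj : c ^ 2 * y * (c ^ 2)⁻¹ = swap (ℓ 6) (ℓ 9) * swap (ℓ 9) (ℓ 8) := by
        rw [hy, ← e1, ← e2]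
        group
      rw [← hconj]
      exact Subgroup.mul_mem _ (Subgroup.mul_mem _ hc2 hym) (Subgroup.inv_mem _ hc2)

end Cfsg.Agent.Lib.Helper8.APF
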