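import Mathlib
import Cfsg.Agent.Lib.Helper6.APFDefs

/-!
# S2276 farm, piece PAR: odd permutations commuting with a given permutation
-/

set_option autoImplicit false

open Equiv Equiv.Perm
open Cfsg.Agent.Lib.Helper6.APF

namespace Cfsg.Agent.Lib.Helper8.APF

theorem exists_odd_commute {Ω : Type*} [DecidableEq Ω] [Fintype Ω] (w : Perm Ω) (h : ¬ ((∀ c ∈ w.cycleType, Odd c) ∧ Fintype.card Ω ≤ w.cycleType.sum + 1 ∧ ∀ i, w.cycleType.count i ≤ 1)) : ∃ z : Perm Ω, z * w = w * z ∧ Equiv.Perm.sign z = -1 := by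
  have h' : ¬ (Subgroup.centralizer {w} ≤ alternatingGroup Ω) := by
    rw [Equiv.Perm.centralizer_le_alternating_iff]
    exact h
  rw [SetLike.le_def] at h'
  push Not at h'
  obtain ⟨z, hz, hza⟩ := h'
  refine ⟨z, ?_, ?_⟩
  · exact (Subgroup.mem_centralizer_singleton_iff.mp hz)
  · rw [Equiv.Perm.mem_alternatingGroup] at hza
    rcases Int.units_eq_one_or (Equiv.Perm.sign z) with h1 | h1
    · exact absurd h1 hza
    · exact h1

theorem exists_odd_commute_of_lt {Ω : Type*} [DecidableEq Ω] [Fintype Ω] (p : ℕ) (hp : p.Prime) (w : Perm Ω) (hw' : ∃ k : ℕ, orderOf w = p ^ k) (a : ℕ) (ha : 1 ≤ a)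
    (hlt : ∀ b ∈ w.cycleType, b < p ^ a) (hn : p ^ a ≤ Fintype.card Ω) : ∃ z : Perm Ω, z * w = w * z ∧ Equiv.Perm.sign z = -1 := by
  apply exists_odd_commute
  rintro ⟨-, hcard, hcount⟩
  obtain ⟨k, hk⟩ := hw'
  have hnd : w.cycleType.Nodup := Multiset.nodup_iff_count_le_one.mpr hcount
  -- every cycle length is `p ^ i` with `1 ≤ i < a`
  have hmem : ∀ b ∈ w.cycleType, b ∈ (Finset.Ico 1 a).image (fun i => p ^ i) := by
    intro b hb
    have hdvd : b ∣ p ^ k := hk ▸ Equiv.Perm.dvd_of_mem_cycleType hb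
    obtain ⟨i, -, rfl⟩ := (Nat.dvd_prime_pow hp).mp hdvd
    have h2 : 2 ≤ p ^ i := Equiv.Perm.two_le_of_mem_cycleType hb
    have hi1 : 1 ≤ i := by
      rcases Nat.eq_zero_or_pos i with h0 | h0
      · subst h0; simp at h2
      · exact h0
    have hia : i < a := (Nat.pow_lt_pow_iff_right hp.one_lt).mp (hlt _ hb)
    exact Finset.mem_image.mpr ⟨i, Finset.mem_Ico.mpr ⟨hi1, hia⟩, rfl⟩
  have hsum : w.cycleType.sum = ∑ b ∈ w.cycleType.toFinset, b := by
    rw [Finset.sum, Multiset.toFinset_val, Multiset.dedup_eq_self.mpr hnd, Multiset.map_id']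
  have hsub : w.cycleType.toFinset ⊆ (Finset.Ico 1 a).image (fun i => p ^ i) := by
    intro b hb
    exact hmem b (Multiset.mem_toFinset.mp hb)
  have hle : w.cycleType.sum ≤ ∑ i ∈ Finset.Ico 1 a, p ^ i := by
    rw [hsum]
    calc ∑ b ∈ w.cycleType.toFinset, b ≤ ∑ b ∈ (Finset.Ico 1 a).image (fun i => p ^ i), b :=
          Finset.sum_le_sum_of_subset hsub
      _ = ∑ i ∈ Finset.Ico 1 a, p ^ i := by
          rw [Finset.sum_image]
          intro x _ y _ hxy
          exact Nat.pow_right_injective hp.two_le hxy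
  have hgeom : ∑ i ∈ Finset.range a, p ^ i < p ^ a :=
    Nat.geomSum_lt hp.two_le (fun k hk => Finset.mem_range.mp hk)
  have hsplit : ∑ i ∈ Finset.range a, p ^ i = 1 + ∑ i ∈ Finset.Ico 1 a, p ^ i := by
    rw [Finset.range_eq_Ico, Finset.sum_eq_sum_Ico_succ_bot (by omega : 0 < a)]
    simp
  omega

end Cfsg.Agent.Lib.Helper8.APF
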