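import Cfsg.Agent.Lib.Helper9.MTh

/-!
# Farm BMT (S5412, coordinator helper2), unit BM-TW: twisting the Monster-type data by a lattice automorphism

If `(e, ψ)` is a Leech-module identification for `(z, Q)`, then for every `g0 ∈ Co0` so is
`(x ↦ (mk g0)⁻¹ * e x * mk g0, v ↦ ψ (g0 • v))`.  By the transitivity of `Co0` on the vectors of sum of
squares 32 (`S0400`) one can therefore assume that a given element of `Q` lying over a minimal vector lies
over `Spor.leechU = (4, 4, 0²²)`.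
-/

set_option autoImplicit false

namespace Cfsg.Agent.Lib.Helper8.BMTtw

open Cfsg Cfsg.Agent.Lib.Helper4.ES2 Cfsg.Agent.Lib.Helper9.MTa Cfsg.Agent.Lib.Helper9.MTb
  Cfsg.Agent.Lib.Helper9.MTc

variable {G : Type*} [Group G] {z : G}
  {Q : Subgroup (Subgroup.centralizer ({z} : Set G))} [Q.Normal]
  {e : (Subgroup.centralizer ({z} : Set G)) ⧸ Q ≃* Spor.Co1}
  {ψ : leechLattice → Q ⧸ Subgroup.center Q}

theorem co0_smul_add (g : Co0) (v w : leechLattice) : g • (v + w) = g • v + g • w := g.2.1 v w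

/-- the twisted identification of `C/Q` with `Co1` -/
noncomputable def twistE (e : (Subgroup.centralizer ({z} : Set G)) ⧸ Q ≃* Spor.Co1) (g0 : Co0) :
    (Subgroup.centralizer ({z} : Set G)) ⧸ Q ≃* Spor.Co1 :=
  e.trans (MulAut.conj (QuotientGroup.mk g0 : Spor.Co1)⁻¹)

theorem twistE_apply (g0 : Co0) (x : (Subgroup.centralizer ({z} : Set G)) ⧸ Q) :
    twistE e g0 x = (QuotientGroup.mk g0 : Spor.Co1)⁻¹ * e x * (QuotientGroup.mk g0 : Spor.Co1) := by
  simp [twistE]

/-- the twisted module isomorphism -/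
theorem isLeechModTwoIso_twist (hψ : IsLeechModTwoIso Q e ψ) (g0 : Co0) :
    IsLeechModTwoIso Q (twistE e g0) (fun v => ψ (g0 • v)) := by
  obtain ⟨hadd, hsurj, hker, heq⟩ := hψ
  refine ⟨?_, ?_, ?_, ?_⟩
  · intro v w
    show ψ (g0 • (v + w)) = ψ (g0 • v) * ψ (g0 • w)
    rw [co0_smul_add, hadd]
  · intro y
    obtain ⟨v, hv⟩ := hsurj y
    refine ⟨g0⁻¹ • v, ?_⟩
    show ψ (g0 • g0⁻¹ • v) = y
    rw [smul_inv_smul]
    exact hv
  · intro v
    show ψ (g0 • v) = 1 ↔ _
    rw [hker]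
    constructor
    · rintro ⟨w, hw⟩
      refine ⟨g0⁻¹ • w, ?_⟩
      rw [← co0_smul_add, ← hw, inv_smul_smul]
    · rintro ⟨w, rfl⟩
      exact ⟨g0 • w, co0_smul_add g0 w w⟩
  · intro h g hg v q hq
    have hg' : (QuotientGroup.mk (g0 * g * g0⁻¹) : Spor.Co1) = e (QuotientGroup.mk h) := by
      rw [twistE_apply] at hg
      rw [QuotientGroup.mk_mul, QuotientGroup.mk_mul, hg, QuotientGroup.mk_inv]
      group
    have h1 := heq h (g0 * g * g0⁻¹) hg' (g0 • v) q hq
    show ψ (g0 • g • v) = _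
    rw [← h1]
    congr 1
    rw [mul_smul, mul_smul, inv_smul_smul]

/-- unit BM-TW (1): the twist of a Monster-type datum -/
theorem twist (h : MT z Q e ψ) (g0 : Co0) :
    MT z Q (twistE e g0) (fun v => ψ (g0 • v)) :=
  ⟨h.hz, h.hF, h.hQ, h.hcard, isLeechModTwoIso_twist h.hψ g0⟩

/-- unit BM-TW (2): an element over a vector of sum of squares 32 may be assumed to lie over `leechU` -/
theorem exists_twist (h : MT z Q e ψ) (x : Q) (v : leechLattice)
    (hv : sqNorm (v : GolayPt → ℤ) = 32) (hx : ψ v = QuotientGroup.mk x) :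
    ∃ (e' : (Subgroup.centralizer ({z} : Set G)) ⧸ Q ≃* Spor.Co1)
      (ψ' : leechLattice → Q ⧸ Subgroup.center Q),
      MT z Q e' ψ' ∧ ψ' Spor.leechU = QuotientGroup.mk x := by
  have hU : sqNorm ((Spor.leechU : leechLattice) : GolayPt → ℤ) = 32 := by
    show sqNorm Spor.vecU = 32
    decide
  obtain ⟨g0, hg0⟩ := Cfsg.Agent.S0400.result Spor.leechU v hU hv
  refine ⟨twistE e g0, fun w => ψ (g0 • w), twist h g0, ?_⟩
  show ψ (g0 • Spor.leechU) = QuotientGroup.mk x
  rw [hg0, hx]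

variable [Finite G]

/-- unit BM-TW (3): an involution `t` of `Q` that is not conjugate to `z` may be assumed to lie over
`leechU`. -/
theorem exists_twist_of_involution (h : MT z Q e ψ)
    (hfus : ∃ g : G, (∃ hq : g * z * g⁻¹ ∈ Subgroup.centralizer ({z} : Set G),
      (⟨g * z * g⁻¹, hq⟩ : Subgroup.centralizer ({z} : Set G)) ∈ Q) ∧ g * z * g⁻¹ ≠ z)
    (t : G) (htc : t ∈ Subgroup.centralizer ({z} : Set G))
    (htQ : (⟨t, htc⟩ : Subgroup.centralizer ({z} : Set G)) ∈ Q) (ht2 : orderOf t = 2)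
    (ht : ¬ IsConj z t) :
    ∃ (e' : (Subgroup.centralizer ({z} : Set G)) ⧸ Q ≃* Spor.Co1)
      (ψ' : leechLattice → Q ⧸ Subgroup.center Q),
      MT z Q e' ψ' ∧
        ψ' Spor.leechU = QuotientGroup.mk (⟨⟨t, htc⟩, htQ⟩ : Q) := by
  set x : Q := ⟨⟨t, htc⟩, htQ⟩ with hxdef
  have ht1 : t ≠ 1 := by
    intro h1
    rw [h1, orderOf_one] at ht2
    norm_num at ht2
  have htt : t * t = 1 := by rw [← pow_two, ← ht2, pow_orderOf_eq_one]
  have hx1 : (x : Subgroup.centralizer ({z} : Set G)) ≠ 1 := by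
    intro h1
    exact ht1 (congrArg Subtype.val h1)
  have hxz : (x : Subgroup.centralizer ({z} : Set G)) ≠ zC z := by
    intro h1
    have h2 : t = z := congrArg Subtype.val h1
    apply ht
    rw [h2]
  have hx2 : x * x = 1 := by
    apply Subtype.ext
    apply Subtype.ext
    exact htt
  obtain ⟨v, hv, hxv⟩ := h.inv_type x hx1 hxz hx2
  rcases hv with hv | hv
  · exact exists_twist h x v hv hxv
  · exfalso
    exact ht (h.type4_conj hfus x v hv hxv).1

end Cfsg.Agent.Lib.Helper8.BMTtw
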