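import Mathlib
import Cfsg.Agent.Lib.Helper6.CL0
import Cfsg.Agent.Lib.Helper1.CL2990a
import Cfsg.Agent.Lib.Helper2.Cores
import Cfsg.Agent.Lib.Helper3.PU2770c
import Cfsg.Agent.Lib.Helper6.PUKP

/-!
# S2990 / S2989 farm (owner helper6): unit `mcl_step`, verbatim from the stubs
-/

set_option autoImplicit false

namespace Cfsg.Agent.Lib.Helper8.CLP8

open Cfsg.Agent.Lib.Helper6.CLP

variable {G : Type*} [Group G] [Finite G] {p : ℕ} [Fact p.Prime]

omit [Finite G] [Fact p.Prime] in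
theorem card_subgroupOf_of_le {X S : Subgroup G} (h : X ≤ S) :
    Nat.card (X.subgroupOf S) = Nat.card X :=
  Nat.card_congr (Subgroup.subgroupOfEquivOfLe h).toEquiv

/-- U-MCLSTEP : `R` is even minimal centrally large, and `Q = (Q ∩ O) Z(Q)`. -/
theorem mcl_step (S O V Q : Subgroup G) (hS : IsPGroup p S) (hOS : O ≤ S) [O.Normal] (hVO : V ≤ O)
    [V.Normal] (hQ : MCLin S Q) (hR : CLin S ((Q ⊓ O) ⊔ V))
    (e2 : Nat.card (zc Q) * Nat.card (V ⊓ Subgroup.centralizer (zc Q : Set G) : Subgroup G) =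
      Nat.card (zc Q ⊓ O : Subgroup G) * Nat.card V)
    (e4 : Q ⊓ V = V ⊓ Subgroup.centralizer (zc Q : Set G)) :
    MCLin S ((Q ⊓ O) ⊔ V) ∧ (Q ⊓ O) ⊔ zc Q = Q ∧
    Nat.card (zc Q) * Nat.card (Q ⊓ O : Subgroup G) = Nat.card (zc Q ⊓ O : Subgroup G) * Nat.card Q := by
  have hzQ : zc Q ≤ Q := inf_le_left
  -- `|R| |C_V(Z(Q))| = |Q ∩ O| |V|`
  have c1 := Cfsg.Agent.Lib.Helper2.card_sup_mul_card_inf (Q ⊓ O) V
  have hinf : (Q ⊓ O) ⊓ V = V ⊓ Subgroup.centralizer (zc Q : Set G) := by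
    rw [← e4]
    apply le_antisymm
    · exact le_inf (inf_le_left.trans inf_le_left) inf_le_right
    · exact le_inf (le_inf inf_le_left (inf_le_right.trans hVO)) inf_le_right
  rw [hinf] at c1
  have hczpos : 0 < Nat.card (V ⊓ Subgroup.centralizer (zc Q : Set G) : Subgroup G) := Nat.card_pos
  have hzopos : 0 < Nat.card (zc Q ⊓ O : Subgroup G) := Nat.card_pos
  -- `|R| |Z(Q) ∩ O| = |Q ∩ O| |Z(Q)|`
  have c2 : Nat.card ((Q ⊓ O) ⊔ V : Subgroup G) * Nat.card (zc Q ⊓ O : Subgroup G) =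
      Nat.card (Q ⊓ O : Subgroup G) * Nat.card (zc Q) := by
    apply Nat.eq_of_mul_eq_mul_right hczpos
    calc Nat.card ((Q ⊓ O) ⊔ V : Subgroup G) * Nat.card (zc Q ⊓ O : Subgroup G) *
          Nat.card (V ⊓ Subgroup.centralizer (zc Q : Set G) : Subgroup G)
        = (Nat.card ((Q ⊓ O) ⊔ V : Subgroup G) *
            Nat.card (V ⊓ Subgroup.centralizer (zc Q : Set G) : Subgroup G)) *
            Nat.card (zc Q ⊓ O : Subgroup G) := by ring
      _ = Nat.card (Q ⊓ O : Subgroup G) * (Nat.card (zc Q ⊓ O : Subgroup G) * Nat.card V) := by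
          rw [c1]; ring
      _ = Nat.card (Q ⊓ O : Subgroup G) * Nat.card (zc Q) *
            Nat.card (V ⊓ Subgroup.centralizer (zc Q : Set G) : Subgroup G) := by
          rw [← e2]; ring
  -- the index inequality `|Z(Q)| |Q ∩ O| ≤ |Z(Q) ∩ O| |Q|`
  have hidx : Nat.card (zc Q) * Nat.card (Q ⊓ O : Subgroup G) ≤
      Nat.card (zc Q ⊓ O : Subgroup G) * Nat.card Q := by
    have h1 := Cfsg.Agent.Lib.Helper6.PU.card_inf_mul_relIndex O (zc Q)
    have h2 := Cfsg.Agent.Lib.Helper6.PU.card_inf_mul_relIndex O Q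
    have h3 : O.relIndex (zc Q) ≤ O.relIndex Q := by
      apply Subgroup.relIndex_le_of_le_right hzQ
      intro h0
      rw [h0, mul_zero] at h2
      exact (Nat.card_pos (α := Q)).ne' h2.symm
    calc Nat.card (zc Q) * Nat.card (Q ⊓ O : Subgroup G)
        = Nat.card (zc Q ⊓ O : Subgroup G) * O.relIndex (zc Q) *
            Nat.card (Q ⊓ O : Subgroup G) := by rw [h1]
      _ ≤ Nat.card (zc Q ⊓ O : Subgroup G) * O.relIndex Q * Nat.card (Q ⊓ O : Subgroup G) :=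
          Nat.mul_le_mul_right _ (Nat.mul_le_mul_left _ h3)
      _ = Nat.card (zc Q ⊓ O : Subgroup G) * (Nat.card (Q ⊓ O : Subgroup G) * O.relIndex Q) := by
          ring
      _ = _ := by rw [h2]
  -- `|R| ≤ |Q|`
  have hRle : Nat.card ((Q ⊓ O) ⊔ V : Subgroup G) ≤ Nat.card Q := by
    apply Nat.le_of_mul_le_mul_right _ hzopos
    calc Nat.card ((Q ⊓ O) ⊔ V : Subgroup G) * Nat.card (zc Q ⊓ O : Subgroup G)
        = Nat.card (zc Q) * Nat.card (Q ⊓ O : Subgroup G) := by rw [c2]; ring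
      _ ≤ Nat.card (zc Q ⊓ O : Subgroup G) * Nat.card Q := hidx
      _ = Nat.card Q * Nat.card (zc Q ⊓ O : Subgroup G) := by ring
  -- a minimal centrally large subgroup below `R`
  obtain ⟨R0, hR0le, hR0⟩ :=
    Cfsg.Agent.Lib.Helper1.CL2990a.exists_isMinimalCentrallyLarge_le _ hR.2
  have hcard := (Cfsg.Agent.S3007.result (↥S) hS (Q.subgroupOf S) R0 hQ.2 hR0).2.2.1
  rw [card_subgroupOf_of_le hQ.1] at hcard
  have hR0card : Nat.card R0 ≤ Nat.card ((Q ⊓ O) ⊔ V : Subgroup G) := by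
    rw [← card_subgroupOf_of_le hR.1]
    exact Subgroup.card_le_of_le hR0le
  have hReq : Nat.card ((Q ⊓ O) ⊔ V : Subgroup G) = Nat.card Q := by omega
  have hR0eq : R0 = ((Q ⊓ O) ⊔ V).subgroupOf S := by
    apply Subgroup.eq_of_le_of_card_ge hR0le
    rw [card_subgroupOf_of_le hR.1]
    omega
  have c3 : Nat.card (zc Q) * Nat.card (Q ⊓ O : Subgroup G) =
      Nat.card (zc Q ⊓ O : Subgroup G) * Nat.card Q := by
    rw [← hReq, mul_comm (Nat.card (zc Q ⊓ O : Subgroup G)), c2]; ring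
  refine ⟨⟨hR.1, hR0eq ▸ hR0⟩, ?_, c3⟩
  -- `(Q ∩ O) Z(Q) = Q`
  have hXle : (Q ⊓ O) ⊔ zc Q ≤ Q := sup_le inf_le_left hzQ
  have c4 := Cfsg.Agent.Lib.Helper3.PU2770.card_mul_card_le_sup_inf (Q ⊓ O) (zc Q)
  have hinf2 : (Q ⊓ O) ⊓ zc Q = zc Q ⊓ O := by
    apply le_antisymm
    · exact le_inf inf_le_right (inf_le_left.trans inf_le_right)
    · exact le_inf (le_inf (inf_le_left.trans hzQ) inf_le_right) inf_le_left
  rw [hinf2] at c4
  have hXcard : Nat.card Q ≤ Nat.card ((Q ⊓ O) ⊔ zc Q : Subgroup G) := by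
    apply Nat.le_of_mul_le_mul_right _ hzopos
    calc Nat.card Q * Nat.card (zc Q ⊓ O : Subgroup G)
        = Nat.card (Q ⊓ O : Subgroup G) * Nat.card (zc Q) := by rw [mul_comm, ← c3]; ring
      _ ≤ _ := c4
  exact (Subgroup.eq_of_le_of_card_ge hXle hXcard)

end Cfsg.Agent.Lib.Helper8.CLP8
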