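import Mathlib
import Cfsg.Agent.Lib.Helper6.Regular
import Cfsg.Agent.Lib.Helper6.Schur

set_option autoImplicit false

/-!
# Frobenius–Schur theory, matrix level

Invariant bilinear forms of an irreducible matrix representation.
-/

namespace Cfsg.Agent.Lib.Helper8.FS

open scoped ComplexConjugate
open Matrix

variable {G : Type*} [Group G] {n : ℕ}

/-- matrix of `ρ g`. -/
noncomputable def mat (ρ : Representation ℂ G (Fin n → ℂ)) (g : G) : Matrix (Fin n) (Fin n) ℂ :=
  LinearMap.toMatrix' (ρ g)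

theorem mat_mul (ρ : Representation ℂ G (Fin n → ℂ)) (g h : G) :
    mat ρ (g * h) = mat ρ g * mat ρ h := by
  unfold mat
  rw [map_mul]
  exact LinearMap.toMatrix'_mul _ _

theorem mat_one (ρ : Representation ℂ G (Fin n → ℂ)) : mat ρ 1 = 1 := by
  unfold mat
  rw [map_one]
  exact LinearMap.toMatrix'_one

theorem mat_mul_inv (ρ : Representation ℂ G (Fin n → ℂ)) (g : G) :
    mat ρ g * mat ρ g⁻¹ = 1 := by
  rw [← mat_mul, mul_inv_cancel, mat_one]

theorem mat_inv_mul (ρ : Representation ℂ G (Fin n → ℂ)) (g : G) :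
    mat ρ g⁻¹ * mat ρ g = 1 := by
  rw [← mat_mul, inv_mul_cancel, mat_one]

theorem toLin'_mat (ρ : Representation ℂ G (Fin n → ℂ)) (g : G) :
    Matrix.toLin' (mat ρ g) = ρ g := by
  unfold mat
  exact Matrix.toLin'_toMatrix' _

theorem trace_mat (ρ : Representation ℂ G (Fin n → ℂ)) (g : G) :
    (mat ρ g).trace = ρ.character g := by
  unfold mat
  rw [Representation.character, LinearMap.trace_eq_matrix_trace ℂ (Pi.basisFun ℂ (Fin n)),
    LinearMap.toMatrix_eq_toMatrix']

/-- `M` is the matrix of a `ρ`-invariant bilinear form. -/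
def IsInv (ρ : Representation ℂ G (Fin n → ℂ)) (M : Matrix (Fin n) (Fin n) ℂ) : Prop :=
  ∀ g : G, (mat ρ g)ᵀ * M * mat ρ g = M

theorem IsInv.transpose {ρ : Representation ℂ G (Fin n → ℂ)} {M : Matrix (Fin n) (Fin n) ℂ}
    (h : IsInv ρ M) : IsInv ρ Mᵀ := by
  intro g
  have := congrArg Matrix.transpose (h g)
  rw [Matrix.transpose_mul, Matrix.transpose_mul, Matrix.transpose_transpose] at this
  rw [Matrix.mul_assoc]
  exact this

theorem IsInv.smul {ρ : Representation ℂ G (Fin n → ℂ)} {M : Matrix (Fin n) (Fin n) ℂ}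
    (h : IsInv ρ M) (c : ℂ) : IsInv ρ (c • M) := by
  intro g
  rw [Matrix.mul_smul, Matrix.smul_mul, h g]

theorem IsInv.intertwine {ρ : Representation ℂ G (Fin n → ℂ)} {M : Matrix (Fin n) (Fin n) ℂ}
    (h : IsInv ρ M) (g : G) : M * mat ρ g = (mat ρ g⁻¹)ᵀ * M := by
  have h1 : (mat ρ g⁻¹)ᵀ * (mat ρ g)ᵀ = 1 := by
    rw [← Matrix.transpose_mul, mat_mul_inv, Matrix.transpose_one]
  calc M * mat ρ g = ((mat ρ g⁻¹)ᵀ * (mat ρ g)ᵀ) * M * mat ρ g := by rw [h1, Matrix.one_mul]
    _ = (mat ρ g⁻¹)ᵀ * ((mat ρ g)ᵀ * M * mat ρ g) := by simp only [Matrix.mul_assoc]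
    _ = (mat ρ g⁻¹)ᵀ * M := by rw [h g]

/-- The contragredient matrix representation. -/
noncomputable def contra (ρ : Representation ℂ G (Fin n → ℂ)) :
    Representation ℂ G (Fin n → ℂ) where
  toFun g := Matrix.toLin' (mat ρ g⁻¹)ᵀ
  map_one' := by
    rw [inv_one, mat_one, Matrix.transpose_one, Matrix.toLin'_one]
    rfl
  map_mul' g h := by
    rw [_root_.mul_inv_rev, mat_mul, Matrix.transpose_mul, Matrix.toLin'_mul]
    rfl

theorem contra_apply (ρ : Representation ℂ G (Fin n → ℂ)) (g : G) :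
    contra ρ g = Matrix.toLin' (mat ρ g⁻¹)ᵀ := rfl

/-- A nonzero invariant form of an irreducible representation is nondegenerate. -/
theorem IsInv.isUnit {ρ : Representation ℂ G (Fin n → ℂ)} [ρ.IsIrreducible]
    {M : Matrix (Fin n) (Fin n) ℂ} (h : IsInv ρ M) (hM : M ≠ 0) : IsUnit M := by
  let T : Representation.IntertwiningMap ρ (contra ρ) :=
    { toLinearMap := Matrix.toLin' M
      isIntertwining' := fun g => by
        rw [contra_apply, ← toLin'_mat ρ g, ← Matrix.toLin'_mul, ← Matrix.toLin'_mul,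
          h.intertwine g] }
  rcases Representation.IsIrreducible.injective_or_eq_zero T with hinj | h0
  · rw [← Matrix.mulVec_injective_iff_isUnit]
    exact hinj
  · exfalso
    apply hM
    have h1 := congrArg Representation.IntertwiningMap.toLinearMap h0
    have h2 : Matrix.toLin' M = 0 := h1
    have h3 := congrArg LinearMap.toMatrix' h2
    rw [LinearMap.toMatrix'_toLin'] at h3
    rw [h3]
    exact map_zero _

/-- The space of invariant forms of an irreducible representation is at most one-dimensional. -/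
theorem IsInv.exists_smul {ρ : Representation ℂ G (Fin n → ℂ)} [ρ.IsIrreducible]
    {M N : Matrix (Fin n) (Fin n) ℂ} (hM : IsInv ρ M) (hu : IsUnit M) (hN : IsInv ρ N) :
    ∃ c : ℂ, N = c • M := by
  have hdet : IsUnit M.det := (Matrix.isUnit_iff_isUnit_det M).mp hu
  have hMi : M⁻¹ * M = 1 := Matrix.nonsing_inv_mul M hdet
  have hMi' : M * M⁻¹ = 1 := Matrix.mul_nonsing_inv M hdet
  have hcomm : ∀ g : G, (M⁻¹ * N) * mat ρ g = mat ρ g * (M⁻¹ * N) := by
    intro g
    have h1 : mat ρ g * M⁻¹ = M⁻¹ * (mat ρ g⁻¹)ᵀ := by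
      calc mat ρ g * M⁻¹ = (M⁻¹ * M) * mat ρ g * M⁻¹ := by rw [hMi, Matrix.one_mul]
        _ = M⁻¹ * (M * mat ρ g) * M⁻¹ := by simp only [Matrix.mul_assoc]
        _ = M⁻¹ * ((mat ρ g⁻¹)ᵀ * M) * M⁻¹ := by rw [hM.intertwine g]
        _ = M⁻¹ * (mat ρ g⁻¹)ᵀ * (M * M⁻¹) := by simp only [Matrix.mul_assoc]
        _ = M⁻¹ * (mat ρ g⁻¹)ᵀ := by rw [hMi', Matrix.mul_one]
    calc (M⁻¹ * N) * mat ρ g = M⁻¹ * (N * mat ρ g) := by rw [Matrix.mul_assoc]
      _ = M⁻¹ * ((mat ρ g⁻¹)ᵀ * N) := by rw [hN.intertwine g]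
      _ = (M⁻¹ * (mat ρ g⁻¹)ᵀ) * N := by rw [Matrix.mul_assoc]
      _ = mat ρ g * (M⁻¹ * N) := by rw [← h1, Matrix.mul_assoc]
  obtain ⟨c, hc⟩ := Cfsg.Agent.Lib.Helper6.exists_smul_id_of_comm ρ (Matrix.toLin' (M⁻¹ * N))
    (fun g => by
      rw [← toLin'_mat ρ g, ← Matrix.toLin'_mul, ← Matrix.toLin'_mul, hcomm g])
  refine ⟨c, ?_⟩
  have h3 := congrArg LinearMap.toMatrix' hc
  rw [LinearMap.toMatrix'_toLin', map_smul, LinearMap.toMatrix'_id] at h3
  calc N = (M * M⁻¹) * N := by rw [hMi', Matrix.one_mul]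
    _ = M * (M⁻¹ * N) := by rw [Matrix.mul_assoc]
    _ = M * (c • (1 : Matrix (Fin n) (Fin n) ℂ)) := by rw [h3]
    _ = c • M := by rw [Matrix.mul_smul, Matrix.mul_one]

/-- If a nondegenerate invariant form exists, the character is invariant under inversion. -/
theorem IsInv.character_inv {ρ : Representation ℂ G (Fin n → ℂ)}
    {M : Matrix (Fin n) (Fin n) ℂ} (hM : IsInv ρ M) (hu : IsUnit M) (g : G) :
    ρ.character g⁻¹ = ρ.character g := by
  have hdet : IsUnit M.det := (Matrix.isUnit_iff_isUnit_det M).mp hu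
  have hMi' : M * M⁻¹ = 1 := Matrix.mul_nonsing_inv M hdet
  rw [← trace_mat, ← trace_mat, ← Matrix.trace_transpose (mat ρ g⁻¹)]
  have h1 : (mat ρ g⁻¹)ᵀ = M * mat ρ g * M⁻¹ := by
    rw [hM.intertwine g, Matrix.mul_assoc, hMi', Matrix.mul_one]
  rw [h1, Matrix.trace_mul_comm, ← Matrix.mul_assoc, Matrix.nonsing_inv_mul M hdet, Matrix.one_mul]

section avg

variable [Fintype G]

/-- The averaged form. -/
noncomputable def avgForm (ρ : Representation ℂ G (Fin n → ℂ)) (A : Matrix (Fin n) (Fin n) ℂ) :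
    Matrix (Fin n) (Fin n) ℂ :=
  ∑ g : G, (mat ρ g)ᵀ * A * mat ρ g

theorem avgForm_isInv (ρ : Representation ℂ G (Fin n → ℂ)) (A : Matrix (Fin n) (Fin n) ℂ) :
    IsInv ρ (avgForm ρ A) := by
  intro h
  unfold avgForm
  rw [Finset.mul_sum, Finset.sum_mul]
  conv_rhs => rw [← Equiv.sum_comp (Equiv.mulRight h)]
  apply Finset.sum_congr rfl
  intro g _
  rw [Equiv.coe_mulRight, mat_mul, Matrix.transpose_mul]
  simp only [Matrix.mul_assoc]

theorem avgForm_transpose (ρ : Representation ℂ G (Fin n → ℂ)) (A : Matrix (Fin n) (Fin n) ℂ) :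
    (avgForm ρ A)ᵀ = avgForm ρ Aᵀ := by
  unfold avgForm
  rw [Matrix.transpose_sum]
  apply Finset.sum_congr rfl
  intro g _
  rw [Matrix.transpose_mul, Matrix.transpose_mul, Matrix.transpose_transpose, Matrix.mul_assoc]

/-- matrix unit -/
def eMat (a b : Fin n) : Matrix (Fin n) (Fin n) ℂ := Matrix.of fun i j => if i = a ∧ j = b then 1 else 0

theorem eMat_transpose (a b : Fin n) : (eMat a b)ᵀ = eMat b a := by
  ext i j
  simp only [eMat, Matrix.transpose_apply, Matrix.of_apply]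
  simp only [and_comm]

theorem avgForm_eMat_apply (ρ : Representation ℂ G (Fin n → ℂ)) (a b k l : Fin n) :
    avgForm ρ (eMat a b) k l = ∑ g : G, mat ρ g a k * mat ρ g b l := by
  unfold avgForm
  rw [Matrix.sum_apply]
  apply Finset.sum_congr rfl
  intro g _
  rw [Matrix.mul_apply]
  have h1 : ∀ j, ((mat ρ g)ᵀ * eMat a b) k j = if j = b then mat ρ g a k else 0 := by
    intro j
    rw [Matrix.mul_apply]
    simp only [eMat, Matrix.transpose_apply, Matrix.of_apply]
    by_cases hj : j = b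
    · simp [hj]
    · simp [hj]
  simp only [h1]
  simp

theorem sum_avgForm_diag (ρ : Representation ℂ G (Fin n → ℂ)) :
    ∑ i, ∑ j, avgForm ρ (eMat i j) i j = ∑ g : G, ρ.character g * ρ.character g := by
  have h1 : ∀ g : G, ρ.character g * ρ.character g = ∑ i, ∑ j, mat ρ g i i * mat ρ g j j := by
    intro g
    rw [← trace_mat, Matrix.trace, Finset.sum_mul_sum]
    rfl
  simp only [avgForm_eMat_apply, h1]
  conv_rhs => rw [Finset.sum_comm]
  apply Finset.sum_congr rfl
  intro i _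
  rw [Finset.sum_comm]

theorem sum_avgForm_swap (ρ : Representation ℂ G (Fin n → ℂ)) :
    ∑ i, ∑ j, avgForm ρ (eMat j i) i j = ∑ g : G, ρ.character (g * g) := by
  have h1 : ∀ g : G, ρ.character (g * g) = ∑ i, ∑ j, mat ρ g j i * mat ρ g i j := by
    intro g
    rw [← trace_mat, mat_mul, Matrix.trace]
    apply Finset.sum_congr rfl
    intro i _
    rw [Matrix.diag_apply, Matrix.mul_apply]
    apply Finset.sum_congr rfl
    intro j _
    ring
  simp only [avgForm_eMat_apply, h1]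
  conv_rhs => rw [Finset.sum_comm]
  apply Finset.sum_congr rfl
  intro i _
  rw [Finset.sum_comm]

end avg

end Cfsg.Agent.Lib.Helper8.FS
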