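import Mathlib
import Cfsg.Agent.Lib.Helper8.FS1

set_option autoImplicit false

/-!
# Frobenius–Schur theory: the indicator
-/

namespace Cfsg.Agent.Lib.Helper8.FS

open scoped ComplexConjugate
open Matrix

variable {G : Type*} [Group G] [Fintype G] {n : ℕ}

/-- The Frobenius–Schur indicator of a function. -/
noncomputable def fsInd (χ : G → ℂ) : ℂ := (Nat.card G : ℂ)⁻¹ * ∑ g : G, χ (g * g)

theorem card_ne_zero' : (Nat.card G : ℂ) ≠ 0 := by
  have : Nat.card G ≠ 0 := Nat.card_pos.ne'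
  exact_mod_cast this

theorem sum_character_mul_inv (ρ : Representation ℂ G (Fin n → ℂ)) [ρ.IsIrreducible] :
    ∑ g : G, ρ.character g * ρ.character g⁻¹ = (Nat.card G : ℂ) := by
  have h1 := Cfsg.Agent.Lib.Helper6.classInner_irr_self ρ
  rw [Cfsg.Agent.Lib.Helper6.classInner_character] at h1
  have h2 := card_ne_zero' (G := G)
  field_simp at h1
  exact h1

/-- a nonzero invariant form forces the character to be real. -/
theorem real_of_isInv {ρ : Representation ℂ G (Fin n → ℂ)} [ρ.IsIrreducible]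
    {M : Matrix (Fin n) (Fin n) ℂ} (hM : IsInv ρ M) (h0 : M ≠ 0) (g : G) :
    conj (ρ.character g) = ρ.character g := by
  rw [← Cfsg.Agent.Lib.Helper6.character_inv]
  exact hM.character_inv (hM.isUnit h0) g

theorem sum_character_sq_of_isInv {ρ : Representation ℂ G (Fin n → ℂ)} [ρ.IsIrreducible]
    {M : Matrix (Fin n) (Fin n) ℂ} (hM : IsInv ρ M) (h0 : M ≠ 0) :
    ∑ g : G, ρ.character g * ρ.character g = (Nat.card G : ℂ) := by
  rw [← sum_character_mul_inv ρ]
  apply Finset.sum_congr rfl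
  intro g _
  rw [hM.character_inv (hM.isUnit h0) g]

/-- every invariant form is `ν`-symmetric, `ν` the Frobenius–Schur indicator. -/
theorem transpose_eq_of_isInv {ρ : Representation ℂ G (Fin n → ℂ)} [ρ.IsIrreducible]
    {M : Matrix (Fin n) (Fin n) ℂ} (hM : IsInv ρ M) : Mᵀ = fsInd ρ.character • M := by
  by_cases h0 : M = 0
  · rw [h0, Matrix.transpose_zero, smul_zero]
  have hu := hM.isUnit h0
  obtain ⟨ε, hε⟩ := hM.exists_smul hu hM.transpose
  have key : ∀ A : Matrix (Fin n) (Fin n) ℂ, avgForm ρ Aᵀ = ε • avgForm ρ A := by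
    intro A
    obtain ⟨c, hc⟩ := hM.exists_smul hu (avgForm_isInv ρ A)
    rw [← avgForm_transpose, hc, Matrix.transpose_smul, hε, smul_comm]
  have h1 : ∑ g : G, ρ.character (g * g) = ε * ∑ g : G, ρ.character g * ρ.character g := by
    rw [← sum_avgForm_swap, ← sum_avgForm_diag, Finset.mul_sum]
    apply Finset.sum_congr rfl
    intro i _
    rw [Finset.mul_sum]
    apply Finset.sum_congr rfl
    intro j _
    rw [← eMat_transpose i j, key, Matrix.smul_apply, smul_eq_mul]
  have h2 : fsInd ρ.character = ε := by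
    unfold fsInd
    rw [h1, sum_character_sq_of_isInv hM h0]
    have h2 := card_ne_zero' (G := G)
    field_simp
  rw [h2, hε]

theorem exists_isInv_of_real {ρ : Representation ℂ G (Fin n → ℂ)} [ρ.IsIrreducible]
    (hreal : ∀ g : G, conj (ρ.character g) = ρ.character g) :
    ∃ M : Matrix (Fin n) (Fin n) ℂ, M ≠ 0 ∧ IsInv ρ M := by
  by_contra hcon
  have hall : ∀ A, avgForm ρ A = 0 := by
    intro A
    by_contra hA
    exact hcon ⟨_, hA, avgForm_isInv ρ A⟩
  have h1 : ∑ g : G, ρ.character g * ρ.character g = 0 := by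
    rw [← sum_avgForm_diag]
    apply Finset.sum_eq_zero
    intro i _
    apply Finset.sum_eq_zero
    intro j _
    rw [hall]
    rfl
  have h2 : ∑ g : G, ρ.character g * ρ.character g = (Nat.card G : ℂ) := by
    rw [← sum_character_mul_inv ρ]
    apply Finset.sum_congr rfl
    intro g _
    rw [Cfsg.Agent.Lib.Helper6.character_inv, hreal]
  rw [h1] at h2
  exact card_ne_zero' (G := G) h2.symm

theorem fsInd_eq_zero_of_not_real {ρ : Representation ℂ G (Fin n → ℂ)} [ρ.IsIrreducible]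
    (hnr : ∃ g : G, conj (ρ.character g) ≠ ρ.character g) : fsInd ρ.character = 0 := by
  obtain ⟨g0, hg0⟩ := hnr
  have hall : ∀ A, avgForm ρ A = 0 := by
    intro A
    by_contra hA
    exact hg0 (real_of_isInv (avgForm_isInv ρ A) hA g0)
  unfold fsInd
  rw [← sum_avgForm_swap]
  have : ∑ i, ∑ j, avgForm ρ (eMat j i) i j = 0 := by
    apply Finset.sum_eq_zero
    intro i _
    apply Finset.sum_eq_zero
    intro j _
    rw [hall]
    rfl
  rw [this, mul_zero]

theorem fsInd_sq_of_real {ρ : Representation ℂ G (Fin n → ℂ)} [ρ.IsIrreducible]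
    (hreal : ∀ g : G, conj (ρ.character g) = ρ.character g) :
    fsInd ρ.character * fsInd ρ.character = 1 := by
  obtain ⟨M, h0, hM⟩ := exists_isInv_of_real hreal
  have h1 := transpose_eq_of_isInv hM
  have h2 : M = (fsInd ρ.character * fsInd ρ.character) • M := by
    calc M = Mᵀᵀ := (Matrix.transpose_transpose M).symm
      _ = (fsInd ρ.character • M)ᵀ := by rw [h1]
      _ = fsInd ρ.character • Mᵀ := Matrix.transpose_smul _ _
      _ = (fsInd ρ.character * fsInd ρ.character) • M := by rw [h1, smul_smul]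
  by_contra hne
  apply h0
  have h3 : (1 - fsInd ρ.character * fsInd ρ.character) • M = 0 := by
    rw [sub_smul, one_smul, ← h2, sub_self]
  rcases smul_eq_zero.mp h3 with h4 | h4
  · exfalso
    apply hne
    rw [sub_eq_zero] at h4
    exact h4.symm
  · exact h4

/-! ## statements for `IrrCharacter` -/

theorem fsInd_irr_eq_zero (χ : Cfsg.IrrCharacter G)
    (hnr : ∃ g : G, conj ((χ : G → ℂ) g) ≠ (χ : G → ℂ) g) : fsInd (χ : G → ℂ) = 0 := by
  obtain ⟨n, ρ, hρ, hχ⟩ := χ.2
  haveI := hρ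
  rw [← hχ]
  apply fsInd_eq_zero_of_not_real
  rw [hχ]
  exact hnr

theorem fsInd_irr_sq (χ : Cfsg.IrrCharacter G)
    (hreal : ∀ g : G, conj ((χ : G → ℂ) g) = (χ : G → ℂ) g) :
    fsInd (χ : G → ℂ) * fsInd (χ : G → ℂ) = 1 := by
  obtain ⟨n, ρ, hρ, hχ⟩ := χ.2
  haveI := hρ
  rw [← hχ]
  apply fsInd_sq_of_real
  rw [hχ]
  exact hreal

theorem fsInd_irr_of_real (χ : Cfsg.IrrCharacter G)
    (hreal : ∀ g : G, conj ((χ : G → ℂ) g) = (χ : G → ℂ) g) :
    fsInd (χ : G → ℂ) = 1 ∨ fsInd (χ : G → ℂ) = -1 := by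
  have h := fsInd_irr_sq χ hreal
  exact mul_self_eq_one_iff.mp h

theorem fsInd_irr_cases (χ : Cfsg.IrrCharacter G) :
    fsInd (χ : G → ℂ) = 0 ∨ fsInd (χ : G → ℂ) = 1 ∨ fsInd (χ : G → ℂ) = -1 := by
  by_cases hreal : ∀ g : G, conj ((χ : G → ℂ) g) = (χ : G → ℂ) g
  · exact Or.inr (fsInd_irr_of_real χ hreal)
  · left
    apply fsInd_irr_eq_zero
    push Not at hreal
    exact hreal

theorem real_of_fsInd_ne_zero (χ : Cfsg.IrrCharacter G) (h : fsInd (χ : G → ℂ) ≠ 0) (g : G) :
    conj ((χ : G → ℂ) g) = (χ : G → ℂ) g := by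
  by_contra hg
  exact h (fsInd_irr_eq_zero χ ⟨g, hg⟩)

theorem conj_fsInd_irr (χ : Cfsg.IrrCharacter G) :
    conj (fsInd (χ : G → ℂ)) = fsInd (χ : G → ℂ) := by
  rcases fsInd_irr_cases χ with h | h | h <;> rw [h] <;> simp

end Cfsg.Agent.Lib.Helper8.FS
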