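import Mathlib
import Cfsg.Agent.Lib.Helper8.FS2

set_option autoImplicit false

/-!
# Frobenius–Schur count of square roots
-/

namespace Cfsg.Agent.Lib.Helper8.FS

open scoped ComplexConjugate

variable {G : Type*} [Group G] [Fintype G]

/-- number of square roots, as a complex number. -/
noncomputable def sqrtCount (g : G) : ℂ := (Nat.card {s : G // s * s = g} : ℂ)

theorem sqrtCount_isClassFunction : Cfsg.IsClassFunction G (sqrtCount (G := G)) := by
  intro g h
  unfold sqrtCount
  congr 1
  apply Nat.card_congr
  refine ⟨fun s => ⟨h⁻¹ * s.1 * h, ?_⟩, fun s => ⟨h * s.1 * h⁻¹, ?_⟩, ?_, ?_⟩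
  · have := s.2
    calc h⁻¹ * s.1 * h * (h⁻¹ * s.1 * h) = h⁻¹ * (s.1 * s.1) * h := by group
      _ = g := by rw [this]; group
  · have := s.2
    calc h * s.1 * h⁻¹ * (h * s.1 * h⁻¹) = h * (s.1 * s.1) * h⁻¹ := by group
      _ = h * g * h⁻¹ := by rw [this]
  · intro s
    apply Subtype.ext
    show h * (h⁻¹ * s.1 * h) * h⁻¹ = s.1
    group
  · intro s
    apply Subtype.ext
    show h⁻¹ * (h * s.1 * h⁻¹) * h = s.1
    group

theorem sum_sqrtCount_mul (f : G → ℂ) :
    ∑ g : G, sqrtCount g * f g = ∑ s : G, f (s * s) := by
  classical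
  rw [← Finset.sum_fiberwise (Finset.univ : Finset G) (fun s => s * s) (fun s => f (s * s))]
  apply Finset.sum_congr rfl
  intro g _
  have h1 : ∀ s ∈ Finset.univ.filter (fun s : G => s * s = g), f (s * s) = f g := by
    intro s hs
    rw [(Finset.mem_filter.mp hs).2]
  rw [Finset.sum_congr rfl h1, Finset.sum_const, nsmul_eq_mul]
  congr 1
  unfold sqrtCount
  congr 1
  rw [Nat.card_eq_fintype_card, Fintype.card_subtype]

theorem classInner_sqrtCount (χ : Cfsg.IrrCharacter G) :
    Cfsg.classInner (sqrtCount (G := G)) (χ : G → ℂ) = fsInd (χ : G → ℂ) := by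
  unfold Cfsg.classInner
  rw [sum_sqrtCount_mul (fun g => conj ((χ : G → ℂ) g))]
  rw [← conj_fsInd_irr χ]
  unfold fsInd
  rw [map_mul, map_inv₀, Complex.conj_natCast, map_sum]

/-- Frobenius–Schur: the number of square roots of `g` is `∑ ν(χ) χ(g)`. -/
theorem sqrtCount_eq [Fintype (Cfsg.IrrCharacter G)] (g : G) :
    sqrtCount g = ∑ χ : Cfsg.IrrCharacter G, fsInd (χ : G → ℂ) * (χ : G → ℂ) g := by
  have h := Cfsg.Agent.Lib.Helper6.classFunction_eq_sum (sqrtCount (G := G))
    sqrtCount_isClassFunction
  have h2 := congrFun h g
  rw [Finset.sum_apply] at h2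
  rw [h2]
  apply Finset.sum_congr rfl
  intro χ _
  rw [Pi.smul_apply, smul_eq_mul, classInner_sqrtCount]

/-- The number of square roots of `1` is one more than the number of involutions. -/
theorem sqrtCount_one :
    sqrtCount (1 : G) = 1 + (Nat.card {x : G // orderOf x = 2} : ℂ) := by
  classical
  unfold sqrtCount
  have e : {s : G // s * s = 1} ≃ Option {x : G // orderOf x = 2} :=
    { toFun := fun s => if h : s.1 = 1 then none else some ⟨s.1, by
        have h2 : s.1 ^ 2 = 1 := by rw [pow_two]; exact s.2
        exact orderOf_eq_prime h2 h⟩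
      invFun := fun o => match o with
        | none => ⟨1, by simp⟩
        | some x => ⟨x.1, by
            have := pow_orderOf_eq_one x.1
            rw [x.2, pow_two] at this
            exact this⟩
      left_inv := by
        intro s
        by_cases h : s.1 = 1
        · simp only [h, dite_true]
          apply Subtype.ext
          exact h.symm
        · simp only [h, dite_false]
      right_inv := by
        intro o
        cases o with
        | none => simp
        | some x =>
          have hx : x.1 ≠ 1 := by
            intro h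
            have := x.2
            rw [h, orderOf_one] at this
            omega
          simp only [hx, dite_false] }
  rw [Nat.card_congr e, Nat.card_eq_fintype_card, Fintype.card_option, ← Nat.card_eq_fintype_card]
  push_cast
  ring

end Cfsg.Agent.Lib.Helper8.FS
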