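import Mathlib
import Cfsg.Prelude.Def_JordanBlocks
import Cfsg.Prelude.Def_LieClassical
import Cfsg.Agent.Lib.Helper6.GUCDefs
import Cfsg.Agent.Lib.Helper2.GUCC2
import Cfsg.Agent.Lib.Helper3.GUCD
import Cfsg.Agent.Lib.Helper3.GUCE1
import Cfsg.Agent.Lib.Helper5.UnitConj.Unip
import Cfsg.Agent.Lib.Helper5.HermTv
import Cfsg.Agent.Lib.Helper9.AschU16
import Cfsg.Agent.Lib.Helper4.ConjClass

set_option autoImplicit false
set_option linter.unusedSectionVars false

/-!
Farm GUC (statement S2646), unit E2: transport of the model unitary element along an orthonormaliser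
of the model form `H0`, and conjugacy in `GU_n(q)`: the centraliser of a unipotent element of Jordan
type `d` has as many elements as the unitary group of the commutant `Rc K d` with the adjoint `dag`.
-/

namespace Cfsg.Agent.Lib.Helper8.GUC

open Matrix Cfsg Cfsg.Agent.Lib.Helper6.GLC Cfsg.Agent.Lib.Helper6.GUC
  Cfsg.Agent.Lib.Helper5 Cfsg.Agent.Lib.Helper5.UnitConj

universe u

section general

variable {K : Type u} [Field K] {t : ℕ} (d : Fin t → ℕ)

/-- the powers of the nilpotent part vanish on the rows of small height -/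
theorem Nil_pow_apply_eq_zero (m : ℕ) : ∀ x y : Idx d, (x.2 : ℕ) < m → (Nil K d ^ m) x y = 0 := by
  induction m with
  | zero => intro x y h; omega
  | succ m ih =>
    intro x y h
    rw [pow_succ', Nil_mul_apply]
    split_ifs with h1
    · apply ih
      show (x.2 : ℕ) - 1 < m
      omega
    · rfl

theorem Nil_pow_eq_zero : Nil K d ^ (Finset.univ.sup d + 1) = 0 := by
  ext x y
  rw [Matrix.zero_apply]
  apply Nil_pow_apply_eq_zero
  have h1 : d x.1 ≤ Finset.univ.sup d := Finset.le_sup (Finset.mem_univ x.1)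
  have h2 := x.2.isLt
  omega

/-- conjugation by an invertible element of a ring, as a ring isomorphism -/
def conjEquiv {A : Type*} [Ring A] (T Ti : A) (h1 : T * Ti = 1) (h2 : Ti * T = 1) : A ≃+* A where
  toFun y := T * y * Ti
  invFun y := Ti * y * T
  left_inv y := by
    show Ti * (T * y * Ti) * T = y
    have : Ti * (T * y * Ti) * T = (Ti * T) * y * (Ti * T) := by simp only [mul_assoc]
    rw [this, h2, one_mul, mul_one]
  right_inv y := by
    show T * (Ti * y * T) * Ti = y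
    have : T * (Ti * y * T) * Ti = (T * Ti) * y * (T * Ti) := by simp only [mul_assoc]
    rw [this, h1, one_mul, mul_one]
  map_mul' x y := by
    show T * (x * y) * Ti = T * x * Ti * (T * y * Ti)
    have : T * x * Ti * (T * y * Ti) = T * x * (Ti * T) * y * Ti := by simp only [mul_assoc]
    rw [this, h2, mul_one]
    simp only [mul_assoc]
  map_add' x y := by
    show T * (x + y) * Ti = T * x * Ti + T * y * Ti
    rw [mul_add, add_mul]

theorem conjEquiv_apply {A : Type*} [Ring A] (T Ti : A) (h1 : T * Ti = 1) (h2 : Ti * T = 1)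
    (y : A) : conjEquiv T Ti h1 h2 y = T * y * Ti := rfl

end general

section unitary

variable {K : Type u} [Field K] {t : ℕ} [Fintype K] {q n : ℕ} (hK : Fintype.card K = q ^ 2)

/-- a monoid identity: transport of the unitarity condition along `t` -/
theorem monoid_key {M : Type*} [Monoid M] (t ti s si g z : M) (h1 : t * ti = 1) (h2 : ti * t = 1)
    (h3 : s * si = 1) (h4 : si * s = 1) (hg : s * t = g) :
    si * z * ti = 1 ↔ z = g := by
  constructor
  · intro h
    have e1 : z = s * (si * z * ti) * t := by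
      have : s * (si * z * ti) * t = (s * si) * z * (ti * t) := by simp only [mul_assoc]
      rw [this, h3, h2, one_mul, mul_one]
    rw [e1, h, mul_one, hg]
  · intro h
    rw [h, ← hg]
    have : si * (s * t) * ti = (si * s) * (t * ti) := by simp only [mul_assoc]
    rw [this, h4, h1, mul_one]

/-- the orthonormaliser in the form `T† T = G` -/
theorem exists_T (G : Matrix (Fin n) (Fin n) K) (hG : ct (HermBridge.sigma hK) G = G) (hdet : G.det ≠ 0) :
    ∃ T Ti : Matrix (Fin n) (Fin n) K, T * Ti = 1 ∧ Ti * T = 1 ∧ ct (HermBridge.sigma hK) T * T = G := by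
  obtain ⟨Q, hQ⟩ := Cfsg.Agent.Lib.Helper9.AschU.exists_orthonormalizer hK n G (fun i j => by
      have := congrFun (congrFun hG i) j
      exact this) hdet
  obtain ⟨Pm, hPm⟩ : ∃ Pm : Matrix (Fin n) (Fin n) K,
      Pm = (Q : Matrix (Fin n) (Fin n) K).map (HermBridge.sigma hK) := ⟨_, rfl⟩
  have hctP : ct (HermBridge.sigma hK) Pm = (Q : Matrix (Fin n) (Fin n) K)ᵀ := by
    ext i j
    rw [ct_apply, hPm, Matrix.map_apply, HermBridge.sigma_sigma, Matrix.transpose_apply]
  have h1 : ct (HermBridge.sigma hK) Pm * G * Pm = 1 := by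
    rw [hctP, hPm]
    exact hQ
  have h2 : Pm * (ct (HermBridge.sigma hK) Pm * G) = 1 := mul_eq_one_comm.1 h1
  refine ⟨ct (HermBridge.sigma hK) Pm * G, Pm, h1, h2, ?_⟩
  rw [ct_mul, ct_ct (HermBridge.sigma hK) (HermBridge.sigma_sigma hK), hG, Matrix.mul_assoc, h2, Matrix.mul_one]

/-- conjugation by `T` turns isometries of `G = T† T` into unitary matrices -/
theorem conj_unitary_iff {T Ti G : Matrix (Fin n) (Fin n) K} (h1 : T * Ti = 1) (h2 : Ti * T = 1)
    (hTG : ct (HermBridge.sigma hK) T * T = G) (y : Matrix (Fin n) (Fin n) K) :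
    cT hK (T * y * Ti) * (T * y * Ti) = 1 ↔ ct (HermBridge.sigma hK) y * G * y = G := by
  have h3 : ct (HermBridge.sigma hK) T * ct (HermBridge.sigma hK) Ti = 1 := by rw [← ct_mul, h2, ct_one]
  have h4 : ct (HermBridge.sigma hK) Ti * ct (HermBridge.sigma hK) T = 1 := by rw [← ct_mul, h1, ct_one]
  have e : cT hK (T * y * Ti) * (T * y * Ti)
      = ct (HermBridge.sigma hK) Ti * (ct (HermBridge.sigma hK) y * G * y) * Ti := by
    show ct (HermBridge.sigma hK) (T * y * Ti) * (T * y * Ti) = _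
    rw [ct_mul, ct_mul, ← hTG]
    simp only [Matrix.mul_assoc]
  rw [e]
  exact monoid_key T Ti (ct (HermBridge.sigma hK) T) (ct (HermBridge.sigma hK) Ti) G _ h1 h2 h3 h4 hTG


variable (d : Fin t → ℕ)

theorem ct_reindex (σ : K →+* K) (e : Idx d ≃ Fin n) (x : Matrix (Idx d) (Idx d) K) :
    ct σ (Matrix.reindex e e x) = Matrix.reindex e e (ct σ x) := rfl

theorem reindex_mul (e : Idx d ≃ Fin n) (x y : Matrix (Idx d) (Idx d) K) :
    Matrix.reindex e e (x * y) = Matrix.reindex e e x * Matrix.reindex e e y :=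
  map_mul (Matrix.reindexAlgEquiv K K e) x y

theorem reindex_add (e : Idx d ≃ Fin n) (x y : Matrix (Idx d) (Idx d) K) :
    Matrix.reindex e e (x + y) = Matrix.reindex e e x + Matrix.reindex e e y :=
  map_add (Matrix.reindexAlgEquiv K K e) x y

theorem reindex_zero (e : Idx d ≃ Fin n) :
    Matrix.reindex e e (0 : Matrix (Idx d) (Idx d) K) = 0 :=
  map_zero (Matrix.reindexAlgEquiv K K e)

theorem reindex_one (e : Idx d ≃ Fin n) :
    Matrix.reindex e e (1 : Matrix (Idx d) (Idx d) K) = 1 :=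
  map_one (Matrix.reindexAlgEquiv K K e)

/-- the transport `x ↦ T * reindex e e x * T⁻¹` as a ring isomorphism -/
noncomputable def phi (e : Idx d ≃ Fin n) (T Ti : Matrix (Fin n) (Fin n) K) (h1 : T * Ti = 1)
    (h2 : Ti * T = 1) : Matrix (Idx d) (Idx d) K ≃+* Matrix (Fin n) (Fin n) K :=
  (Matrix.reindexAlgEquiv K K e).toRingEquiv.trans (conjEquiv T Ti h1 h2)

theorem phi_apply (e : Idx d ≃ Fin n) (T Ti : Matrix (Fin n) (Fin n) K) (h1 : T * Ti = 1)
    (h2 : Ti * T = 1) (x : Matrix (Idx d) (Idx d) K) :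
    phi d e T Ti h1 h2 x = T * Matrix.reindex e e x * Ti := rfl

theorem rank_phi (e : Idx d ≃ Fin n) (T Ti : Matrix (Fin n) (Fin n) K) (h1 : T * Ti = 1)
    (h2 : Ti * T = 1) (x : Matrix (Idx d) (Idx d) K) : (phi d e T Ti h1 h2 x).rank = x.rank := by
  rw [phi_apply, Matrix.rank_mul_eq_left_of_isUnit_det _ _ (Matrix.isUnit_det_of_left_inverse h1),
    Matrix.rank_mul_eq_right_of_isUnit_det _ _ (Matrix.isUnit_det_of_right_inverse h1),
    Matrix.rank_reindex]

/-- **E2**: transport along an orthonormalizer of `H0` and conjugacy in `GU` -/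
theorem card_centralizer_eq {ε : K} (hε0 : ε ≠ 0) (hε : HermBridge.sigma hK ε = -ε)
    (e : Idx d ≃ Fin n) (u : ↥(Cfsg.GU n K q))
    (hu : IsConj (Matrix.reindex e e (Cfsg.jordanTypeMatrix d K))
      ((u : GL (Fin n) K) : Matrix (Fin n) (Fin n) K)) :
    Nat.card ↥(Subgroup.centralizer ({u} : Set ↥(Cfsg.GU n K q))) =
      Nat.card {x : Matrix (Idx d) (Idx d) K // x ∈ Rc K d ∧
        dag (HermBridge.sigma hK) ε d x * x = 1} := by
  classical
  have hσ : ∀ a, HermBridge.sigma hK (HermBridge.sigma hK a) = a := HermBridge.sigma_sigma hK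
  obtain ⟨a, ha⟩ := HermTv.exists_trace_eq hK 1 (one_pow q)
  have ha' : a + HermBridge.sigma hK a = 1 := ha
  obtain ⟨u', hu'1, hu'c, w, w', hww', hw'w, hwN, hu'N⟩ :=
    Cfsg.Agent.Lib.Helper3.GUC.exists_model_unitary (HermBridge.sigma hK) d hσ hε0 hε ha'
  -- the Gram matrix on `Fin n` and its orthonormaliser
  have hG : ct (HermBridge.sigma hK) (Matrix.reindex e e (H0 ε d)) = Matrix.reindex e e (H0 ε d) := by
    rw [ct_reindex, Cfsg.Agent.Lib.Helper2.GUC.H0_herm (HermBridge.sigma hK) d hε]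
  have hdet : (Matrix.reindex e e (H0 ε d)).det ≠ 0 := by
    have : Matrix.reindex e e (H0 ε d) * Matrix.reindex e e (H0inv ε d) = 1 := by
      rw [← reindex_mul, Cfsg.Agent.Lib.Helper2.GUC.H0_mul_H0inv d hε0, reindex_one]
    exact (Matrix.isUnit_det_of_right_inverse this).ne_zero
  obtain ⟨T, Ti, h1, h2, hTG⟩ := exists_T hK _ hG hdet
  obtain ⟨φ, hφ⟩ : ∃ φ, φ = phi d e T Ti h1 h2 := ⟨_, rfl⟩
  have key : ∀ x, cT hK (φ x) * φ x = 1 ↔ dag (HermBridge.sigma hK) ε d x * x = 1 := by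
    intro x
    rw [hφ, phi_apply, conj_unitary_iff hK h1 h2 hTG,
      Cfsg.Agent.Lib.Helper3.GUC.dag_mul_self_iff (HermBridge.sigma hK) d hε0 x, ct_reindex,
      ← reindex_mul, ← reindex_mul]
    exact (Matrix.reindex e e).injective.eq_iff
  have hrank : ∀ x, (φ x).rank = x.rank := by
    intro x
    rw [hφ]
    exact rank_phi d e T Ti h1 h2 x
  -- the model element on `Fin n`
  have hu'2 : u' * dag (HermBridge.sigma hK) ε d u' = 1 := mul_eq_one_comm.1 hu'1
  have hunit : IsUnit u' := ⟨⟨u', dag (HermBridge.sigma hK) ε d u', hu'2, hu'1⟩, rfl⟩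
  obtain ⟨u0gl, hu0gl⟩ : ∃ g : GL (Fin n) K, (g : Matrix (Fin n) (Fin n) K) = φ u' :=
    ⟨(hunit.map φ).unit, rfl⟩
  have hu0mem : u0gl ∈ Cfsg.GU n K q := by
    rw [mem_GU_iff_cT hK, hu0gl]
    exact (key u').2 hu'1
  -- the characteristic
  obtain ⟨p, hp⟩ := CharP.exists K
  have := hp
  have : Fact p.Prime := ⟨CharP.char_is_prime K p⟩
  -- the nilpotent parts
  have hcomm : Commute (Nil K d) w := hwN.symm
  have hwk : ∀ k : ℕ, IsUnit (w ^ k).det := by
    intro k
    apply Matrix.isUnit_det_of_right_inverse (B := w' ^ k)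
    rw [← (show Commute w w' from hww'.trans hw'w.symm).mul_pow, hww', one_pow]
  have hN0 : ∀ k : ℕ, ((u0gl : Matrix (Fin n) (Fin n) K) - 1) ^ k = φ (Nil K d ^ k * w ^ k) := by
    intro k
    rw [hu0gl, ← hcomm.mul_pow, ← hu'N, map_pow, map_sub, map_one]
  obtain ⟨c, hc⟩ := hu
  have hc' : (c : Matrix (Fin n) (Fin n) K) * Matrix.reindex e e (Cfsg.jordanTypeMatrix d K)
      = ((u : GL (Fin n) K) : Matrix (Fin n) (Fin n) K) * (c : Matrix (Fin n) (Fin n) K) := hc
  have hNu : ∀ k : ℕ, (((u : GL (Fin n) K) : Matrix (Fin n) (Fin n) K) - 1) ^ k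
      = (c : Matrix (Fin n) (Fin n) K) * Matrix.reindex e e (Nil K d ^ k)
        * ((c⁻¹ : (Matrix (Fin n) (Fin n) K)ˣ) : Matrix (Fin n) (Fin n) K) := by
    intro k
    have h4 : ((u : GL (Fin n) K) : Matrix (Fin n) (Fin n) K)
        = (c : Matrix (Fin n) (Fin n) K) * Matrix.reindex e e (Cfsg.jordanTypeMatrix d K)
          * ((c⁻¹ : (Matrix (Fin n) (Fin n) K)ˣ) : Matrix (Fin n) (Fin n) K) := by
      rw [hc', mul_assoc, Units.mul_inv, mul_one]
    have h5 : ((u : GL (Fin n) K) : Matrix (Fin n) (Fin n) K) - 1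
        = (c : Matrix (Fin n) (Fin n) K) * Matrix.reindex e e (Nil K d)
          * ((c⁻¹ : (Matrix (Fin n) (Fin n) K)ˣ) : Matrix (Fin n) (Fin n) K) := by
      rw [h4, jt_eq, reindex_add, reindex_one, mul_add, add_mul, mul_one, Units.mul_inv,
        add_sub_cancel_left]
    rw [h5, Units.conj_pow]
    congr 2
    exact (map_pow (Matrix.reindexAlgEquiv K K e) (Nil K d) k).symm
  have hr : ∀ k : ℕ, (((u0gl : Matrix (Fin n) (Fin n) K) - 1) ^ k).rank
      = ((((u : GL (Fin n) K) : Matrix (Fin n) (Fin n) K) - 1) ^ k).rank := by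
    intro k
    rw [hN0, hrank, Matrix.rank_mul_eq_left_of_isUnit_det _ _ (hwk k), hNu,
      Matrix.rank_mul_eq_left_of_isUnit_det _ _ (Matrix.isUnits_det_units c⁻¹),
      Matrix.rank_mul_eq_right_of_isUnit_det _ _ (Matrix.isUnits_det_units c),
      Matrix.rank_reindex]
  have hU0 : Cfsg.Agent.Lib.Helper4.JordanNil.Unip p u0gl := by
    rw [Cfsg.Agent.Lib.Helper4.JordanNil.unip_iff p]
    refine ⟨Finset.univ.sup d + 1, ?_⟩
    rw [Cfsg.Agent.Lib.Helper4.JordanNil.Nof_pow_eq_zero_iff, hN0, Nil_pow_eq_zero, zero_mul, map_zero]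
  have hU : Cfsg.Agent.Lib.Helper4.JordanNil.Unip p (u : GL (Fin n) K) := by
    rw [Cfsg.Agent.Lib.Helper4.JordanNil.unip_iff p]
    refine ⟨Finset.univ.sup d + 1, ?_⟩
    rw [Cfsg.Agent.Lib.Helper4.JordanNil.Nof_pow_eq_zero_iff, hNu, Nil_pow_eq_zero, reindex_zero, mul_zero, zero_mul]
  have hconjGL : IsConj u0gl (u : GL (Fin n) K) := isConj_of_rank_eq p u0gl u hU0 hU hr
  have hconj : IsConj (⟨u0gl, hu0mem⟩ : ↥(Cfsg.GU n K q)) u :=
    gu_isConj_of_gl_isConj hK ⟨u0gl, hu0mem⟩ u hconjGL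
  rw [← Cfsg.Agent.Lib.Helper4.card_centralizer_eq_of_isConj hconj]
  -- the bijection
  have hcomm_iff : ∀ x : Matrix (Idx d) (Idx d) K,
      φ x * (u0gl : Matrix (Fin n) (Fin n) K) = (u0gl : Matrix (Fin n) (Fin n) K) * φ x
        ↔ x ∈ Rc K d := by
    intro x
    rw [hu0gl, ← map_mul, ← map_mul, φ.injective.eq_iff]
    exact hu'c x
  have hf : ∀ g : ↥(Subgroup.centralizer ({⟨u0gl, hu0mem⟩} : Set ↥(Cfsg.GU n K q))),
      φ.symm (((g : ↥(Cfsg.GU n K q)) : GL (Fin n) K) : Matrix (Fin n) (Fin n) K) ∈ Rc K d ∧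
      dag (HermBridge.sigma hK) ε d
        (φ.symm (((g : ↥(Cfsg.GU n K q)) : GL (Fin n) K) : Matrix (Fin n) (Fin n) K))
        * φ.symm (((g : ↥(Cfsg.GU n K q)) : GL (Fin n) K) : Matrix (Fin n) (Fin n) K) = 1 := by
    intro g
    constructor
    · rw [← hcomm_iff, RingEquiv.apply_symm_apply]
      have h3 := Subgroup.mem_centralizer_singleton_iff.1 g.2
      have h4 := congrArg (fun z : ↥(Cfsg.GU n K q) =>
        ((z : GL (Fin n) K) : Matrix (Fin n) (Fin n) K)) h3
      simpa using h4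
    · rw [← key, RingEquiv.apply_symm_apply]
      exact (mem_GU_iff_cT hK _).1 (g : ↥(Cfsg.GU n K q)).2
  apply Nat.card_congr
  refine Equiv.ofBijective (fun g => ⟨_, hf g⟩) ⟨?_, ?_⟩
  · intro g1 g2 h
    have h3 := congrArg Subtype.val h
    have h4 := φ.symm.injective h3
    exact Subtype.ext (Subtype.ext (Units.ext h4))
  · rintro ⟨x, hx1, hx2⟩
    have hx3 : x * dag (HermBridge.sigma hK) ε d x = 1 := mul_eq_one_comm.1 hx2
    have hxu : IsUnit x := ⟨⟨x, dag (HermBridge.sigma hK) ε d x, hx3, hx2⟩, rfl⟩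
    obtain ⟨ggl, hggl⟩ : ∃ g : GL (Fin n) K, (g : Matrix (Fin n) (Fin n) K) = φ x :=
      ⟨(hxu.map φ).unit, rfl⟩
    have hgmem : ggl ∈ Cfsg.GU n K q := by
      rw [mem_GU_iff_cT hK, hggl]
      exact (key x).2 hx2
    have hgc : (⟨ggl, hgmem⟩ : ↥(Cfsg.GU n K q))
        ∈ Subgroup.centralizer ({⟨u0gl, hu0mem⟩} : Set ↥(Cfsg.GU n K q)) := by
      rw [Subgroup.mem_centralizer_singleton_iff]
      apply Subtype.ext
      apply Units.ext
      show (ggl : Matrix (Fin n) (Fin n) K) * (u0gl : Matrix (Fin n) (Fin n) K)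
        = (u0gl : Matrix (Fin n) (Fin n) K) * (ggl : Matrix (Fin n) (Fin n) K)
      rw [hggl]
      exact (hcomm_iff x).2 hx1
    refine ⟨⟨⟨ggl, hgmem⟩, hgc⟩, ?_⟩
    apply Subtype.ext
    show φ.symm (ggl : Matrix (Fin n) (Fin n) K) = x
    rw [hggl, RingEquiv.symm_apply_apply]

end unitary

end Cfsg.Agent.Lib.Helper8.GUC
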