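import Cfsg.Agent.Lib.Helper6.MIdxDefs

/-! S1589 farm, piece Q6a: a subgroup of `M24` of order 322560 with an orbit of 8 points is the stabilizer of that
orbit, which is an octad. -/

set_option autoImplicit false

namespace Cfsg.Agent.Lib.Helper6.MIdx

open Cfsg Finset MulAction Cfsg.Agent.Lib.Helper9.OutM Cfsg.Agent.Lib.Helper9.M24T3
  Cfsg.Agent.Lib.Helper9.M24T9 Cfsg.Agent.Lib.Helper9.M24P1
open scoped Pointwise

/-- a prime dividing `322560 = 2^10 * 3^2 * 5 * 7` -/
theorem h8_prime_dvd_322560 (p : ℕ) (hp : p.Prime) (h : p ∣ 322560) : p = 2 ∨ p = 3 ∨ p = 5 ∨ p = 7 := by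
  have e : (322560 : ℕ) = 2 ^ 10 * (3 ^ 2 * (5 * 7)) := by norm_num
  rw [e] at h
  rcases (Nat.Prime.dvd_mul hp).mp h with h | h
  · left
    exact (Nat.prime_dvd_prime_iff_eq hp Nat.prime_two).mp (hp.dvd_of_dvd_pow h)
  rcases (Nat.Prime.dvd_mul hp).mp h with h | h
  · right; left
    exact (Nat.prime_dvd_prime_iff_eq hp Nat.prime_three).mp (hp.dvd_of_dvd_pow h)
  rcases (Nat.Prime.dvd_mul hp).mp h with h | h
  · right; right; left
    exact (Nat.prime_dvd_prime_iff_eq hp Nat.prime_five).mp h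
  · right; right; right
    exact (Nat.prime_dvd_prime_iff_eq hp (by norm_num)).mp h

/-- a nontrivial element of finite order has a power of prime order -/
theorem h8_exists_prime_pow {A : Type*} [Group A] [Finite A] (x : A) (hx : x ≠ 1) :
    ∃ (p : ℕ) (k : ℕ), p.Prime ∧ p ∣ orderOf x ∧ x ^ k ≠ 1 ∧ (x ^ k) ^ p = 1 := by
  have hn0 : orderOf x ≠ 0 := (orderOf_pos x).ne'
  have hn1 : orderOf x ≠ 1 := fun h => hx (orderOf_eq_one_iff.mp h)
  have hp : (orderOf x).minFac.Prime := Nat.minFac_prime hn1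
  have hd : (orderOf x).minFac ∣ orderOf x := Nat.minFac_dvd _
  have ho : orderOf (x ^ (orderOf x / (orderOf x).minFac)) = (orderOf x).minFac :=
    orderOf_pow_orderOf_div hn0 hd
  refine ⟨(orderOf x).minFac, orderOf x / (orderOf x).minFac, hp, hd, ?_, ?_⟩
  · intro h
    rw [h, orderOf_one] at ho
    exact hp.one_lt.ne ho
  · have := pow_orderOf_eq_one (x ^ (orderOf x / (orderOf x).minFac))
    rwa [ho] at this

/-- a finite set mapped into itself by a permutation is fixed by it -/
theorem h8_smul_eq_of_invariant (g : Equiv.Perm GolayPt) (B : Finset GolayPt) (h : ∀ b ∈ B, g b ∈ B) :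
    g • B = B := by
  apply eq_of_subset_of_card_le
  · intro x hx
    rw [Finset.mem_smul_finset] at hx
    obtain ⟨b, hb, rfl⟩ := hx
    exact h b hb
  · rw [Finset.card_smul_finset]

theorem octad_of_orbit8 (K : Subgroup (Equiv.Perm GolayPt)) (hK : K ≤ M24) (hc : Nat.card K = 322560)
    (c : GolayPt) (h8 : (orbF K c).card = 8) : orbF K c ∈ octads ∧ K = stabF (orbF K c) := by
  have : Finite ↥K := Nat.finite_of_card_ne_zero (by rw [hc]; norm_num)
  have hKs : K ≤ stabF (orbF K c) := by
    intro g hg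
    rw [mem_stabF]
    exact ⟨hK hg, h8_smul_eq_of_invariant g _ (orbF_invariant K c g hg)⟩
  -- the restriction to the orbit
  let φ : ↥K →* Equiv.Perm ↥(orbF K c) := (resHom (orbF K c)).comp (Subgroup.inclusion hKs)
  have hcardP : Nat.card (Equiv.Perm ↥(orbF K c)) = 40320 := by
    rw [Nat.card_eq_fintype_card, Fintype.card_perm, Fintype.card_coe, h8]
    rfl
  have hninj : ¬ Function.Injective φ := by
    intro hinj
    have := Nat.card_le_card_of_injective φ hinj
    rw [hc, hcardP] at this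
    omega
  -- a nontrivial element of the kernel
  obtain ⟨g, hg1, hgker⟩ : ∃ g : ↥K, g ≠ 1 ∧ φ g = 1 := by
    by_contra hcon
    push Not at hcon
    apply hninj
    rw [injective_iff_map_eq_one]
    intro a ha
    by_contra ha1
    exact hcon a ha1 ha
  obtain ⟨p, k, hp, hpd, hy1, hyp⟩ := h8_exists_prime_pow g hg1
  have hykerr : φ (g ^ k) = 1 := by rw [map_pow, hgker, one_pow]
  -- the element of `Perm GolayPt`
  have hyK : ((g ^ k : ↥K) : Equiv.Perm GolayPt) ∈ K := (g ^ k).2
  have hyM : ((g ^ k : ↥K) : Equiv.Perm GolayPt) ∈ M24 := hK hyK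
  have hy1' : ((g ^ k : ↥K) : Equiv.Perm GolayPt) ≠ 1 := by
    intro h
    exact hy1 (Subtype.ext h)
  have hyp' : ((g ^ k : ↥K) : Equiv.Perm GolayPt) ^ p = 1 := by
    have := congrArg Subtype.val hyp
    simpa using this
  have hfix : orbF K c ⊆ fixF ((g ^ k : ↥K) : Equiv.Perm GolayPt) := by
    intro b hb
    rw [mem_fixF]
    have h1 : φ (g ^ k) ⟨b, hb⟩ = ⟨b, hb⟩ := by rw [hykerr]; rfl
    have h2 := congrArg Subtype.val h1
    exact h2
  have hle : 8 ≤ (fixF ((g ^ k : ↥K) : Equiv.Perm GolayPt)).card := by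
    rw [← h8]
    exact card_le_card hfix
  have hpK : p ∣ 322560 := by
    rw [← hc]
    exact hpd.trans (orderOf_dvd_natCard g)
  have hoct : orbF K c ∈ octads := by
    rcases h8_prime_dvd_322560 p hp hpK with rfl | rfl | rfl | rfl
    · rcases fixF_involution _ hyM hyp' hy1' with h | h
      · rw [h, card_empty] at hle
        omega
      · have heq : orbF K c = fixF ((g ^ k : ↥K) : Equiv.Perm GolayPt) := by
          apply eq_of_subset_of_card_le hfix
          rw [h8, h.2]
        rw [heq]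
        exact h
    · rcases Cfsg.Agent.Lib.Helper9.Idx.card_fixF_three _ hyM hy1' hyp' with h | h <;> omega
    · have := card_fixF_prime _ hyM hy1' 5 (by norm_num) hyp'
      omega
    · have := card_fixF_prime _ hyM hy1' 7 (by norm_num) hyp'
      omega
  refine ⟨hoct, ?_⟩
  have : Finite ↥(stabF (orbF K c)) :=
    Nat.finite_of_card_ne_zero (by rw [card_stabF_octad _ hoct]; norm_num)
  apply Subgroup.eq_of_le_of_card_ge hKs
  rw [card_stabF_octad _ hoct, hc]

end Cfsg.Agent.Lib.Helper6.MIdx
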