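import Cfsg.Agent.Lib.Helper6.MIdxQ1
import Cfsg.Agent.Lib.Helper6.MIdxQ4
import Cfsg.Agent.Lib.Helper9.MIdxQ5
import Cfsg.Agent.Lib.Helper8.MIdxQ6a

/-! S1589 farm, piece Q8: `M24` has no subgroup of order 967680 (index 253). -/

set_option autoImplicit false

namespace Cfsg.Agent.Lib.Helper6.MIdx

open Cfsg Finset MulAction Cfsg.Agent.Lib.Helper9.OutM Cfsg.Agent.Lib.Helper9.M24T3
  Cfsg.Agent.Lib.Helper9.M24T9 Cfsg.Agent.Lib.Helper9.M24P1
open scoped Pointwise

theorem no_967680 (K : Subgroup (Equiv.Perm GolayPt)) (hK : K ≤ M24) (hc : Nat.card K = 967680) : False := by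
  have htr : Trans K := trans_of_orb24 K (fun c => orb_eq24 K hK (Or.inl hc) c)
  obtain ⟨x⟩ : Nonempty GolayPt := ⟨none⟩
  have hcx : Nat.card ↥(pt K x) = 40320 := by
    have := card_of_trans K htr x
    rw [hc] at this
    omega
  have hL : Lvl (pt K x) {x} := h6_lvl_pt K hK x
  rcases Cfsg.Agent.Lib.Helper9.Idx.index253 x (pt K x) hL hcx with ⟨s, hs2, hxs, hEq⟩ | ⟨o, ho, hxo, hEq⟩
  · -- the stabilizer of a point is the stabilizer of a point and a pair
    apply triangle_false K hK htr x s hs2 hxs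
    · intro g hg
      rw [hEq] at hg
      exact ((mem_stabF s g).mp hg.1).2
    · intro p q hp hq
      obtain ⟨u, v, huv, rfl⟩ := Finset.card_eq_two.mp hs2
      simp only [mem_insert, mem_singleton, not_or] at hp hq hxs
      obtain ⟨g, hgM, hmap⟩ := Cfsg.Agent.Lib.Helper9.M24Y1.exists_map_list [x, u, v, p] [x, u, v, q]
        (by
          simp only [List.nodup_cons, List.mem_cons, List.not_mem_nil, or_false, not_or,
            List.nodup_nil, and_true, not_false_eq_true]
          exact ⟨⟨hxs.1, hxs.2, Ne.symm hp.1⟩, ⟨huv, Ne.symm hp.2.1⟩, Ne.symm hp.2.2⟩)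
        (by
          simp only [List.nodup_cons, List.mem_cons, List.not_mem_nil, or_false, not_or,
            List.nodup_nil, and_true, not_false_eq_true]
          exact ⟨⟨hxs.1, hxs.2, Ne.symm hq.1⟩, ⟨huv, Ne.symm hq.2.1⟩, Ne.symm hq.2.2⟩)
        rfl (by simp)
      simp only [List.map_cons, List.map_nil, List.cons.injEq, and_true] at hmap
      obtain ⟨hgx, hgu, hgv, hgp⟩ := hmap
      refine ⟨g, ?_, hgp⟩
      rw [hEq]
      refine ⟨(mem_stabF _ g).mpr ⟨hgM, ?_⟩, mem_stabilizer_iff.mpr hgx⟩
      apply h8_smul_eq_of_invariant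
      intro b hb
      simp only [mem_insert, mem_singleton] at hb ⊢
      rcases hb with rfl | rfl
      · left; exact hgu
      · right; exact hgv
    · right
      exact hcx
  · -- the stabilizer of a point is the stabilizer of a point and an octad
    apply trio_false' K hK htr (by rw [hc]; norm_num) x o ho hxo
    · intro g hg
      have hg' : g ∈ pt K x := by
        rw [hEq]
        exact ⟨fixS_le_stabF o hg, mem_stabilizer_iff.mpr (((mem_fixS o g).mp hg).2 x hxo)⟩
      exact hg'.1
    · rw [hEq]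
      exact inf_le_left

end Cfsg.Agent.Lib.Helper6.MIdx
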