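import Mathlib
import Cfsg.Agent.Lib.Helper5.E6MDefs
import Cfsg.Agent.Lib.Helper6.E6MBlockPerf6
import Cfsg.Agent.Lib.Helper4.SLnGen
import Cfsg.Agent.Lib.Helper8.E6MPROJ

set_option autoImplicit false
set_option linter.unusedSectionVars false
set_option linter.unusedVariables false

/-!
Farm E6M (statement S2340), unit TRIVLINE: an element of `SL₆(F)` fixing a character `l` in the
orbit of a multiple of `e_012` with multiplicity one acts trivially on the line `range (eL l)`.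
Here in `_of` form: the units `eL_conj` (PROJ), MHOM and STAB enter as hypotheses.
-/

namespace Cfsg.Agent.Lib.Helper8.E6M

open Cfsg.Agent.Lib.Helper5.E6M Matrix

/-! ### a group with trivial abelianisation acts trivially on an invariant line -/

section line

variable {V : Type*} [AddCommGroup V] [Module ℂ V] [FiniteDimensional ℂ V]

/-- an idempotent of trace one has rank one: operators commuting with it act on its range by a
scalar -/
theorem rank_one (E : Module.End ℂ V) (hE : E * E = E) (htr : LinearMap.trace ℂ V E = 1)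
    (X : Module.End ℂ V) (hX : X * E = E * X) : ∃ ξ : ℂ, X * E = ξ • E := by
  have hidem : IsIdempotentElem E := hE
  have hfr : Module.finrank ℂ (LinearMap.range E) = 1 := by
    have h := (LinearMap.IsIdempotentElem.isProj_range _ hidem).trace
    rw [htr] at h
    exact_mod_cast h.symm
  obtain ⟨v, hv0, hv⟩ := finrank_eq_one_iff'.mp hfr
  -- `X v ∈ range E`
  obtain ⟨u, hu⟩ := v.2
  have hXv : X v.1 ∈ LinearMap.range E := by
    refine ⟨X u, ?_⟩
    have := congrArg (fun T : Module.End ℂ V => T u) hX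
    simp only [Module.End.mul_apply] at this
    rw [← hu, this]
  obtain ⟨ξ, hξ⟩ := hv ⟨X v.1, hXv⟩
  refine ⟨ξ, ?_⟩
  apply LinearMap.ext
  intro w
  obtain ⟨c, hc⟩ := hv ⟨E w, ⟨w, rfl⟩⟩
  have hc' : E w = c • v.1 := by
    have := congrArg Subtype.val hc
    simpa using this.symm
  have hξ' : X v.1 = ξ • v.1 := by
    have := congrArg Subtype.val hξ
    simpa using this.symm
  rw [Module.End.mul_apply, LinearMap.smul_apply, hc', map_smul, hξ', smul_comm]

theorem ne_zero_of_trace_one (E : Module.End ℂ V) (htr : LinearMap.trace ℂ V E = 1) : E ≠ 0 := by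
  rintro rfl
  simp at htr

/-- a group all of whose homomorphisms to `ℂˣ` are trivial acts trivially on an invariant line -/
theorem line_trivial {H : Type*} [Group H] (E : Module.End ℂ V) (hE : E * E = E)
    (htr : LinearMap.trace ℂ V E = 1) (τ : H →* Module.End ℂ V)
    (hcomm : ∀ h, τ h * E = E * τ h) (hH : ∀ (f : H →* ℂˣ) (h : H), f h = 1) (h : H) :
    τ h * E = E := by
  classical
  have hE0 := ne_zero_of_trace_one E htr
  choose ξ hξ using fun h => rank_one E hE htr (τ h) (hcomm h)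
  have huniq : ∀ a b : ℂ, a • E = b • E → a = b := by
    intro a b hab
    by_contra hne
    have : (a - b) • E = 0 := by rw [sub_smul, hab, sub_self]
    rcases smul_eq_zero.mp this with h1 | h1
    · exact hne (sub_eq_zero.mp h1)
    · exact hE0 h1
  have h1 : ξ 1 = 1 := by
    apply huniq
    rw [← hξ, map_one, one_mul, one_smul]
  have hmul : ∀ a b, ξ (a * b) = ξ a * ξ b := by
    intro a b
    apply huniq
    rw [← hξ, map_mul, mul_assoc, hξ b, mul_smul_comm, hξ a, smul_smul, mul_comm]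
  let f0 : H →* ℂ := { toFun := ξ, map_one' := h1, map_mul' := hmul }
  have := hH f0.toHomUnits h
  have h2 : ξ h = 1 := by
    have h3 := congrArg Units.val this
    simp [MonoidHom.toHomUnits] at h3
    exact h3
  rw [hξ, h2, one_smul]

end line

/-! ### the inverse transpose automorphism of `SL₆(F)` -/

section invT

variable {F : Type*} [Field F]

/-- `g ↦ (g⁻¹)ᵀ` -/
def invT : SL6 F →* SL6 F where
  toFun g := ⟨(g⁻¹).1ᵀ, by rw [Matrix.det_transpose]; exact (g⁻¹).2⟩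
  map_one' := by
    apply Subtype.ext
    show ((1 : SL6 F)⁻¹).1ᵀ = (1 : SL6 F).1
    rw [inv_one, Matrix.SpecialLinearGroup.coe_one, Matrix.transpose_one]
  map_mul' a b := by
    apply Subtype.ext
    show ((a * b)⁻¹).1ᵀ = (a⁻¹).1ᵀ * (b⁻¹).1ᵀ
    rw [_root_.mul_inv_rev, Matrix.SpecialLinearGroup.coe_mul, Matrix.transpose_mul]

theorem invT_coe (g : SL6 F) : (invT g).1 = (g⁻¹).1ᵀ := rfl

theorem invT_invT (g : SL6 F) : invT (invT g) = g := by
  apply Subtype.ext
  rw [invT_coe]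
  have h : (invT g)⁻¹ = invT g⁻¹ := (map_inv invT g).symm
  rw [h, invT_coe, inv_inv, Matrix.transpose_transpose]

theorem invT_inv_coe (g : SL6 F) : ((invT g)⁻¹).1ᵀ = g.1 := by
  have h : (invT g)⁻¹ = invT g⁻¹ := (map_inv invT g).symm
  rw [h, invT_coe, inv_inv, Matrix.transpose_transpose]

end invT

/-! ### unit TRIVLINE -/

section Dm

variable {F : Type*} [Field F] [Fintype F] [DecidableEq F] {G : Type*} [Group G] (D : Data F G)
  (hD : Rel D) (ψ : AddChar F ℂ) (hψ : ψ ≠ 1)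
  {V : Type*} [AddCommGroup V] [Module ℂ V] [FiniteDimensional ℂ V] (ρ : Representation ℂ G V)
  (φ : SL6 F →* G) (hφ : ∀ (p : IJ) (t : F), φ (tv p t) = D.xij p t)

open Cfsg.Agent.Lib.Helper6.E6MBlockPerf in
include hD in
theorem trivline_of
    (hEc : ∀ (g : SL6 F) (l : T3 → F),
      ρ (φ g) ∘ₗ eL D ψ ρ l = eL D ψ ρ (Mm (g⁻¹).1ᵀ *ᵥ l) ∘ₗ ρ (φ g))
    (hMmul : ∀ g g' : SL6 F, Mm (g * g').1 = Mm g.1 * Mm g'.1)
    (hMone : Mm (1 : Matrix (Fin 6) (Fin 6) F) = 1)
    (hstab : ∀ b : SL6 F, Mm b.1 *ᵥ Pi.single I012 1 = Pi.single I012 1 ↔ b ∈ block6 F)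
    (g g0 : SL6 F) (c : F) (l : T3 → F) (hl : l = Mm g0.1 *ᵥ Pi.single I012 c)
    (hfix : Mm (g⁻¹).1ᵀ *ᵥ l = l) (h1 : cM D ψ ρ.character l = 1) :
    ρ (φ g) ∘ₗ eL D ψ ρ l = eL D ψ ρ l := by
  have hEc' : ∀ (g : SL6 F) (l : T3 → F),
      ρ (φ g) * eL D ψ ρ l = eL D ψ ρ (Mm (g⁻¹).1ᵀ *ᵥ l) * ρ (φ g) := hEc
  show ρ (φ g) * eL D ψ ρ l = eL D ψ ρ l
  by_cases hc : c = 0
  · -- `l = 0`, the whole group `SL₆(F)` acts on the line
    have hl0 : l = 0 := by rw [hl, hc, Pi.single_zero, mulVec_zero]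
    subst hl0
    have hE : eL D ψ ρ 0 * eL D ψ ρ 0 = eL D ψ ρ (0 : T3 → F) := eL_idem D hD ψ ρ 0
    have htr : LinearMap.trace ℂ V (eL D ψ ρ 0) = 1 := by rw [trace_eL, h1]
    refine line_trivial (H := SL6 F) _ hE htr ((ρ : G →* Module.End ℂ V).comp φ) ?_ ?_ g
    · intro h
      have := hEc' h 0
      rw [mulVec_zero] at this
      exact this
    · intro f h
      have hk : h ∈ f.ker :=
        Abelianization.commutator_subset_ker f
          (by rw [Cfsg.Agent.Lib.Helper4.SL_commutator_eq_top (by rw [Fintype.card_fin]; norm_num)]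
              exact Subgroup.mem_top _)
      exact hk
  · -- the stabiliser of `l₀ = c e_012` is the perfect group `block6`
    set l₀ : T3 → F := Pi.single I012 c with hl₀
    have hl₀' : l₀ = c • Pi.single I012 (1 : F) := by
      rw [hl₀, ← Pi.single_smul, smul_eq_mul, mul_one]
    have hfixB : ∀ b : SL6 F, b ∈ block6 F → Mm b.1 *ᵥ l₀ = l₀ := by
      intro b hb
      rw [hl₀', mulVec_smul, (hstab b).mpr hb]
    have hE : eL D ψ ρ l₀ * eL D ψ ρ l₀ = eL D ψ ρ l₀ := eL_idem D hD ψ ρ l₀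
    -- `eL l = ρ(φ γ) eL l₀ ρ(φ γ)⁻¹` with `γ = invT g0`
    set γ : SL6 F := invT g0 with hγ
    have hγl : ρ (φ γ) * eL D ψ ρ l₀ = eL D ψ ρ l * ρ (φ γ) := by
      rw [hEc' γ l₀, hγ, invT_inv_coe, ← hl]
    have hcM : cM D ψ ρ.character l₀ = 1 := by
      rw [← trace_eL, ← h1, ← trace_eL]
      have hinv : ρ (φ γ) * ρ (φ γ⁻¹) = 1 := by
        rw [← map_mul, ← map_mul, mul_inv_cancel, map_one, map_one]
      have hinv' : ρ (φ γ⁻¹) * ρ (φ γ) = 1 := by
        rw [← map_mul, ← map_mul, inv_mul_cancel, map_one, map_one]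
      have : eL D ψ ρ l = (ρ (φ γ) * eL D ψ ρ l₀) * ρ (φ γ⁻¹) := by
        rw [hγl, mul_assoc, hinv, mul_one]
      rw [this, LinearMap.trace_mul_comm, ← mul_assoc, hinv', one_mul]
    have htr : LinearMap.trace ℂ V (eL D ψ ρ l₀) = 1 := by rw [trace_eL, hcM]
    -- the element of `block6`
    set b : SL6 F := g0⁻¹ * invT g * g0 with hb
    have hbfix : Mm b.1 *ᵥ Pi.single I012 (1 : F) = Pi.single I012 1 := by
      have h2 : Mm b.1 *ᵥ l₀ = l₀ := by
        rw [hb, hMmul, hMmul, ← mulVec_mulVec, ← mulVec_mulVec, ← hl, invT_coe, hfix, hl,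
          mulVec_mulVec, ← hMmul, inv_mul_cancel]
        show Mm (1 : Matrix (Fin 6) (Fin 6) F) *ᵥ l₀ = l₀
        rw [hMone, one_mulVec]
      rw [hl₀', mulVec_smul] at h2
      have hc' : c • (Mm b.1 *ᵥ Pi.single I012 (1 : F)) = c • Pi.single I012 (1 : F) := h2
      exact smul_right_injective _ hc hc'
    have hbB : b ∈ block6 F := (hstab b).mp hbfix
    -- the action of `block6` through `invT`
    let τ : ↥(block6 F) →* Module.End ℂ V :=
      ((ρ : G →* Module.End ℂ V).comp φ).comp (invT.comp (block6 F).subtype)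
    have hτ : τ ⟨b, hbB⟩ * eL D ψ ρ l₀ = eL D ψ ρ l₀ := by
      refine line_trivial (H := ↥(block6 F)) _ hE htr τ ?_ (fun f h => hom_trivial6 f h) ⟨b, hbB⟩
      intro h
      show ρ (φ (invT h.1)) * eL D ψ ρ l₀ = eL D ψ ρ l₀ * ρ (φ (invT h.1))
      rw [hEc' (invT h.1) l₀, invT_inv_coe, hfixB h.1 h.2]
    have hτ' : ρ (φ (invT b)) * eL D ψ ρ l₀ = eL D ψ ρ l₀ := hτ
    -- `invT b = γ⁻¹ g γ`
    have hib : invT b = γ⁻¹ * g * γ := by
      rw [hb, map_mul, map_mul, invT_invT, map_inv]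
    have hinv : ρ (φ γ) * ρ (φ γ⁻¹) = 1 := by
      rw [← map_mul, ← map_mul, mul_inv_cancel, map_one, map_one]
    have hEl : eL D ψ ρ l = ρ (φ γ) * eL D ψ ρ l₀ * ρ (φ γ⁻¹) := by
      rw [hγl, mul_assoc, hinv, mul_one]
    have hgγ : ρ (φ g) * ρ (φ γ) = ρ (φ γ) * ρ (φ (invT b)) := by
      rw [hib, ← map_mul, ← map_mul, ← map_mul, ← map_mul]
      congr 2
      group
    calc ρ (φ g) * eL D ψ ρ l
        = (ρ (φ g) * ρ (φ γ)) * eL D ψ ρ l₀ * ρ (φ γ⁻¹) := by rw [hEl]; simp only [mul_assoc]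
      _ = ρ (φ γ) * (ρ (φ (invT b)) * eL D ψ ρ l₀) * ρ (φ γ⁻¹) := by
          rw [hgγ]; simp only [mul_assoc]
      _ = eL D ψ ρ l := by rw [hτ', ← hEl]

end Dm

end Cfsg.Agent.Lib.Helper8.E6M
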