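import Mathlib
import Cfsg.Agent.Lib.Helper2.E6M2DefsB
import Cfsg.Agent.Lib.Helper8.E6MTRIV
import Cfsg.Agent.Lib.Helper8.E6M2PROJ

set_option autoImplicit false
set_option linter.unusedSectionVars false
set_option linter.unusedVariables false

/-!
Farm E6M2 (statement S2341), layer B2, unit TRIVLINE2: a subgroup `H` of the Levi part fixing a
character `l` of multiplicity one acts on the line `eL l` by a linear character, so its commutator
subgroup acts trivially.
-/

namespace Cfsg.Agent.Lib.Helper8.E6M2B

open Cfsg.Agent.Lib.Helper2.E6M2B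

section line

variable {V : Type*} [AddCommGroup V] [Module ℂ V] [FiniteDimensional ℂ V]

/-- a group commuting with a rank one idempotent acts on its range by a linear character -/
theorem line_hom {H : Type*} [Group H] (E : Module.End ℂ V) (hE : E * E = E)
    (htr : LinearMap.trace ℂ V E = 1) (τ : H →* Module.End ℂ V)
    (hcomm : ∀ h, τ h * E = E * τ h) :
    ∃ f : H →* ℂˣ, ∀ h, τ h * E = ((f h : ℂˣ) : ℂ) • E := by
  classical
  have hE0 := Helper8.E6M.ne_zero_of_trace_one E htr
  choose ξ hξ using fun h => Helper8.E6M.rank_one E hE htr (τ h) (hcomm h)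
  have huniq : ∀ a b : ℂ, a • E = b • E → a = b := by
    intro a b hab
    by_contra hne
    have : (a - b) • E = 0 := by rw [sub_smul, hab, sub_self]
    rcases smul_eq_zero.mp this with h1 | h1
    · exact hne (sub_eq_zero.mp h1)
    · exact hE0 h1
  have h1 : ξ 1 = 1 := by
    apply huniq
    rw [← hξ, map_one, one_mul, one_smul]
  have hmul : ∀ a b, ξ (a * b) = ξ a * ξ b := by
    intro a b
    apply huniq
    rw [← hξ, map_mul, mul_assoc, hξ b, mul_smul_comm, hξ a, smul_smul, mul_comm]
  let f0 : H →* ℂ := { toFun := ξ, map_one' := h1, map_mul' := hmul }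
  refine ⟨f0.toHomUnits, fun h => ?_⟩
  rw [hξ]
  rfl

/-- the commutator subgroup acts trivially on an invariant line -/
theorem line_commutator {H : Type*} [Group H] (E : Module.End ℂ V) (hE : E * E = E)
    (htr : LinearMap.trace ℂ V E = 1) (τ : H →* Module.End ℂ V)
    (hcomm : ∀ h, τ h * E = E * τ h) (h : H) (hh : h ∈ commutator H) : τ h * E = E := by
  obtain ⟨f, hf⟩ := line_hom E hE htr τ hcomm
  have h1 : f h = 1 := (Abelianization.commutator_subset_ker f) hh
  rw [hf, h1, Units.val_one, one_smul]

end line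

section Dm

variable {F Lam L G : Type*} [Field F] [Fintype F] [DecidableEq F] [AddCommGroup Lam]
  [Module F Lam] [Fintype Lam] [DecidableEq Lam] [Group L] [Group G] (D : Data F Lam L G) (m : ℕ)
  (hD : Rel D m)
  {V : Type*} [AddCommGroup V] [Module ℂ V] [FiniteDimensional ℂ V] (ρ : Representation ℂ G V)

include hD in
theorem trivline (H : Subgroup L) (l : AddChar Lam ℂ) (hfix : ∀ g ∈ H, actC D g l = l)
    (h1 : cM D ρ.character l = 1) (g : L) (hg : g ∈ (commutator H).map H.subtype) :
    ρ (D.phi g) ∘ₗ eL D ρ l = eL D ρ l := by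
  obtain ⟨h, hh, rfl⟩ := Subgroup.mem_map.1 hg
  have hE : eL D ρ l * eL D ρ l = eL D ρ l := eL_idem D m hD ρ l
  have htr : LinearMap.trace ℂ V (eL D ρ l) = 1 := by rw [trace_eL, h1]
  let τ : H →* Module.End ℂ V := (ρ.comp D.phi).comp H.subtype
  have hcomm : ∀ x : H, τ x * eL D ρ l = eL D ρ l * τ x := by
    intro x
    have := eL_conj D m hD ρ x.1 l
    rw [hfix x.1 x.2] at this
    exact this
  exact line_commutator (eL D ρ l) hE htr τ hcomm h hh

end Dm

end Cfsg.Agent.Lib.Helper8.E6M2B
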