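import Mathlib
import Cfsg.Agent.Lib.Helper5.E6MDefs
import Cfsg.Agent.Lib.Helper8.E6MPROJ

set_option autoImplicit false
set_option linter.unusedSectionVars false
set_option linter.unusedVariables false

/-!
Farm E6M (statement S2340), unit TRACE: `q · dim C_V(Z X_{03})` computed on the module side.
Here in `_of` form: the units `eL_conj` (PROJ), TRIVLINE, MHOM (`Mm 1 = 1`) and the description of
the characters moved by `X_{03}` enter as hypotheses.
-/

namespace Cfsg.Agent.Lib.Helper8.E6M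

open Cfsg.Agent.Lib.Helper5.E6M Matrix

section idem

variable {V : Type*} [AddCommGroup V] [Module ℂ V] [FiniteDimensional ℂ V]

/-- an idempotent of trace zero vanishes -/
theorem eq_zero_of_trace_zero (E : Module.End ℂ V) (hE : E * E = E)
    (htr : LinearMap.trace ℂ V E = 0) : E = 0 := by
  have hidem : IsIdempotentElem E := hE
  have hfr : Module.finrank ℂ (LinearMap.range E) = 0 := by
    have h := (LinearMap.IsIdempotentElem.isProj_range _ hidem).trace
    rw [htr] at h
    exact_mod_cast h.symm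
  have hbot : LinearMap.range E = ⊥ := Submodule.finrank_eq_zero.mp hfr
  exact LinearMap.range_eq_bot.mp hbot

end idem

section Dm

variable {F : Type*} [Field F] [Fintype F] [DecidableEq F] {G : Type*} [Group G] (D : Data F G)
  (hD : Rel D) (ψ : AddChar F ℂ) (hψ : ψ ≠ 1)
  {V : Type*} [AddCommGroup V] [Module ℂ V] [FiniteDimensional ℂ V] (ρ : Representation ℂ G V)
  (φ : SL6 F →* G) (hφ : ∀ (p : IJ) (t : F), φ (tv p t) = D.xij p t)

include hD hψ hφ in
theorem trace_identity_of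
    (hEc : ∀ (g : SL6 F) (l : T3 → F),
      ρ (φ g) ∘ₗ eL D ψ ρ l = eL D ψ ρ (Mm (g⁻¹).1ᵀ *ᵥ l) ∘ₗ ρ (φ g))
    (htl : ∀ (g g0 : SL6 F) (c : F) (l : T3 → F), l = Mm g0.1 *ᵥ Pi.single I012 c →
      Mm (g⁻¹).1ᵀ *ᵥ l = l → cM D ψ ρ.character l = 1 → ρ (φ g) ∘ₗ eL D ψ ρ l = eL D ψ ρ l)
    (hMone : Mm (1 : Matrix (Fin 6) (Fin 6) F) = 1)
    (hmoved : ∀ t : F, t ≠ 0 → ∀ l : T3 → F,
      (Mm ((tv p03 t)⁻¹).1ᵀ *ᵥ l = l ↔ ¬ moved l))
    (hS : ∀ l : T3 → F, l ≠ 0 → cM D ψ ρ.character l = 0 ∨ (cM D ψ ρ.character l = 1 ∧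
      ∃ (g : SL6 F) (c : F), l = Mm g.1 *ᵥ Pi.single I012 c))
    (htriv : ∀ t : F, ρ (D.xij p03 t) ∘ₗ eL D ψ ρ 0 = eL D ψ ρ 0) :
    (Fintype.card F : ℂ) * f90 D ρ.character = (Fintype.card F : ℂ) * cM D ψ ρ.character 0 +
      (Fintype.card F : ℂ) * ∑ l ∈ Finset.univ.filter (fun l : T3 → F => l ≠ 0),
        cM D ψ ρ.character l -
      ((Fintype.card F : ℂ) - 1) * ∑ l ∈ Finset.univ.filter (fun l : T3 → F => moved l),
        cM D ψ ρ.character l := by
  classical
  have hq : (Fintype.card F : ℂ) ≠ 0 := Nat.cast_ne_zero.2 Fintype.card_ne_zero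
  have hEc' : ∀ (g : SL6 F) (l : T3 → F),
      ρ (φ g) * eL D ψ ρ l = eL D ψ ρ (Mm (g⁻¹).1ᵀ *ᵥ l) * ρ (φ g) := hEc
  have htl' : ∀ (g g0 : SL6 F) (c : F) (l : T3 → F), l = Mm g0.1 *ᵥ Pi.single I012 c →
      Mm (g⁻¹).1ᵀ *ᵥ l = l → cM D ψ ρ.character l = 1 →
      ρ (φ g) * eL D ψ ρ l = eL D ψ ρ l := htl
  have htriv' : ∀ t : F, ρ (D.xij p03 t) * eL D ψ ρ 0 = eL D ψ ρ 0 := htriv
  have hidem : ∀ l : T3 → F, eL D ψ ρ l * eL D ψ ρ l = eL D ψ ρ l := eL_idem D hD ψ ρ
  have horth : ∀ l l' : T3 → F, l ≠ l' → eL D ψ ρ l * eL D ψ ρ l' = 0 := eL_orth D hD ψ hψ ρ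
  -- the action of `x_t` on the characters
  set act : F → (T3 → F) → (T3 → F) := fun t l => Mm ((tv p03 t)⁻¹).1ᵀ *ᵥ l with hact
  -- the trace of `eL l * ρ (x_t)`
  have hterm : ∀ (t : F) (l : T3 → F),
      LinearMap.trace ℂ V (eL D ψ ρ l * ρ (D.xij p03 t)) =
        if act t l = l then cM D ψ ρ.character l else 0 := by
    intro t l
    rw [LinearMap.trace_mul_comm]
    split_ifs with hfix
    · -- fixed: `ρ (x_t)` is trivial on the range of `eL l`
      have hx : ρ (D.xij p03 t) * eL D ψ ρ l = eL D ψ ρ l := by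
        by_cases hl0 : l = 0
        · subst hl0; exact htriv' t
        · rcases hS l hl0 with h0 | ⟨h1, g0, c, hg0⟩
          · have : eL D ψ ρ l = 0 :=
              eq_zero_of_trace_zero _ (hidem l) (by rw [trace_eL, h0])
            rw [this, mul_zero]
          · rw [← hφ p03 t]
            exact htl' (tv p03 t) g0 c l hg0 hfix h1
      rw [hx, trace_eL]
    · -- moved: orthogonality
      have h1 : ρ (D.xij p03 t) * eL D ψ ρ l =
          (eL D ψ ρ (act t l) * ρ (D.xij p03 t)) * eL D ψ ρ l := by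
        conv_lhs => rw [← hidem l, ← mul_assoc]
        rw [← hφ p03 t, hEc' (tv p03 t) l]
      rw [h1, LinearMap.trace_mul_comm, ← mul_assoc, horth l (act t l) (Ne.symm hfix), zero_mul,
        map_zero]
  -- `q f90` as a sum of traces
  have hf90 : (Fintype.card F : ℂ) * f90 D ρ.character =
      ∑ t : F, ∑ l : T3 → F, LinearMap.trace ℂ V (eL D ψ ρ l * ρ (D.xij p03 t)) := by
    have h1 : ∀ t : F, ∑ l : T3 → F, LinearMap.trace ℂ V (eL D ψ ρ l * ρ (D.xij p03 t)) =
        (Fintype.card F : ℂ)⁻¹ * ∑ r : F, ρ.character (D.z r * D.xij p03 t) := by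
      intro t
      rw [← map_sum, ← Finset.sum_mul, sum_eL D hD ψ hψ ρ, smul_mul_assoc, map_smul, smul_eq_mul,
        Finset.sum_mul, map_sum]
      congr 1
      apply Finset.sum_congr rfl
      intro r _
      rw [← map_mul]
      rfl
    rw [Finset.sum_congr rfl (fun t _ => h1 t), ← Finset.mul_sum, Finset.sum_comm]
    unfold f90
    field_simp
  rw [hf90, Finset.sum_congr rfl (fun t _ => Finset.sum_congr rfl (fun l _ => hterm t l))]
  -- split `t = 0` and `t ≠ 0`
  have hall : ∑ l : T3 → F, cM D ψ ρ.character l = cM D ψ ρ.character 0 +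
      ∑ l ∈ Finset.univ.filter (fun l : T3 → F => l ≠ 0), cM D ψ ρ.character l := by
    rw [← Finset.sum_filter_add_sum_filter_not Finset.univ (fun l : T3 → F => l = 0)]
    congr 1
    rw [Finset.filter_eq' Finset.univ (0 : T3 → F), if_pos (Finset.mem_univ _),
      Finset.sum_singleton]
  have hmv : ∑ l : T3 → F, cM D ψ ρ.character l =
      ∑ l ∈ Finset.univ.filter (fun l : T3 → F => moved l), cM D ψ ρ.character l +
      ∑ l ∈ Finset.univ.filter (fun l : T3 → F => ¬ moved l), cM D ψ ρ.character l :=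
    (Finset.sum_filter_add_sum_filter_not Finset.univ (fun l : T3 → F => moved l) _).symm
  have h0 : ∑ l : T3 → F, (if act 0 l = l then cM D ψ ρ.character l else 0) =
      ∑ l : T3 → F, cM D ψ ρ.character l := by
    apply Finset.sum_congr rfl
    intro l _
    have : act 0 l = l := by
      have h1 : tv p03 (0 : F) = 1 := by
        apply Subtype.ext
        show Matrix.transvection p03.1.1 p03.1.2 (0 : F) = (1 : Matrix (Fin 6) (Fin 6) F)
        simp [Matrix.transvection]
      show Mm ((tv p03 (0 : F))⁻¹).1ᵀ *ᵥ l = l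
      rw [h1, inv_one, Matrix.SpecialLinearGroup.coe_one, Matrix.transpose_one, hMone,
        one_mulVec]
    rw [if_pos this]
  have hne : ∀ t : F, t ≠ 0 →
      ∑ l : T3 → F, (if act t l = l then cM D ψ ρ.character l else 0) =
        ∑ l ∈ Finset.univ.filter (fun l : T3 → F => ¬ moved l), cM D ψ ρ.character l := by
    intro t ht
    rw [Finset.sum_filter]
    apply Finset.sum_congr rfl
    intro l _
    by_cases hm : moved l
    · rw [if_neg (fun h => ((hmoved t ht l).mp h) hm), if_neg (not_not.mpr hm)]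
    · rw [if_pos ((hmoved t ht l).mpr hm), if_pos hm]
  rw [← Finset.sum_filter_add_sum_filter_not Finset.univ (fun t : F => t = 0)]
  rw [Finset.filter_eq' Finset.univ (0 : F), if_pos (Finset.mem_univ _), Finset.sum_singleton, h0]
  rw [Finset.sum_congr rfl (fun t ht => hne t (Finset.mem_filter.mp ht).2), Finset.sum_const,
    ← Nat.cast_smul_eq_nsmul ℂ, smul_eq_mul]
  have hcard : ((Finset.univ.filter (fun t : F => ¬ t = 0)).card : ℂ) = (Fintype.card F : ℂ) - 1 := by
    have : (Finset.univ.filter (fun t : F => ¬ t = 0)).card = Fintype.card F - 1 := by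
      rw [Finset.filter_not, Finset.card_sdiff_of_subset (Finset.subset_univ _),
        Finset.filter_eq' Finset.univ (0 : F), if_pos (Finset.mem_univ _), Finset.card_singleton,
        Finset.card_univ]
    rw [this, Nat.cast_sub Fintype.card_pos, Nat.cast_one]
  rw [hcard]
  have e1 := hall
  have e2 := hmv
  linear_combination (Fintype.card F : ℂ) * e1 - ((Fintype.card F : ℂ) - 1) * e2 +
    ((Fintype.card F : ℂ) - 1) * e1 - ((Fintype.card F : ℂ) - 1) * e1

end Dm

end Cfsg.Agent.Lib.Helper8.E6M
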