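import Mathlib
import Cfsg.Agent.Lib.Helper8.E6MTRIV
import Cfsg.Agent.Lib.Helper8.E6MTRACE
import Cfsg.Agent.Lib.Helper8.E6M2TRIV

set_option autoImplicit false
set_option linter.unusedSectionVars false
set_option linter.unusedVariables false

/-!
Generic Fourier layer for an abelian subgroup: `u : Multiplicative A →* G` (`A` a finite additive
abelian group), `ρ` a complex representation of `G`.  The projectors `proj l` onto the eigenspaces
of the characters `l : AddChar A ℂ`, their multiplicities, the behaviour under elements of `G`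
normalising the image of `u`, the trace formula and the triviality of commutators on components of
multiplicity one.
-/

namespace Cfsg.Agent.Lib.Helper8.AbFourier

section basic

variable {G : Type*} [Group G] {A : Type*} [AddCommGroup A] [Fintype A]
  {V : Type*} [AddCommGroup V] [Module ℂ V]
  (ρ : Representation ℂ G V) (u : Multiplicative A →* G)

/-- `ρ (u a)` -/
def ru (a : A) : Module.End ℂ V := ρ (u (Multiplicative.ofAdd a))

theorem ru_add (a b : A) : ru ρ u (a + b) = ru ρ u a * ru ρ u b := by
  unfold ru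
  rw [ofAdd_add, map_mul, map_mul]

theorem ru_zero : ru ρ u 0 = 1 := by
  unfold ru
  rw [ofAdd_zero, map_one, map_one]

theorem ru_comm (a b : A) : ru ρ u a * ru ρ u b = ru ρ u b * ru ρ u a := by
  rw [← ru_add, ← ru_add, add_comm]

/-- the projector onto the `l`-eigenspace of `u(A)` -/
noncomputable def proj (l : AddChar A ℂ) : Module.End ℂ V :=
  (Fintype.card A : ℂ)⁻¹ • ∑ a : A, l (-a) • ru ρ u a

theorem proj_def (l : AddChar A ℂ) :
    proj ρ u l = (Fintype.card A : ℂ)⁻¹ • ∑ a : A, l (-a) • ru ρ u a := rfl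

theorem cardA_ne : (Fintype.card A : ℂ) ≠ 0 := Nat.cast_ne_zero.2 Fintype.card_ne_zero

theorem ru_mul_proj (a : A) (l : AddChar A ℂ) :
    ru ρ u a * proj ρ u l = l a • proj ρ u l := by
  rw [proj_def, mul_smul_comm, smul_comm (l a)]
  congr 1
  rw [Finset.mul_sum, Finset.smul_sum]
  apply Fintype.sum_equiv (Equiv.addLeft a)
  intro b
  rw [Equiv.coe_addLeft, mul_smul_comm, ← ru_add, smul_smul, ← AddChar.map_add_eq_mul]
  have : a + -(a + b) = -b := by abel
  rw [this]

theorem ru_mul_proj_comm (a : A) (l : AddChar A ℂ) :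
    ru ρ u a * proj ρ u l = proj ρ u l * ru ρ u a := by
  rw [proj_def, mul_smul_comm, smul_mul_assoc, Finset.mul_sum, Finset.sum_mul]
  congr 1
  apply Finset.sum_congr rfl
  intro b _
  rw [mul_smul_comm, smul_mul_assoc, ru_comm]

/-- the product of two projectors -/
theorem proj_mul_proj (l l' : AddChar A ℂ) :
    proj ρ u l * proj ρ u l' =
      ((Fintype.card A : ℂ)⁻¹ * ∑ a : A, (l' - l) a) • proj ρ u l' := by
  conv_lhs => rw [proj_def ρ u l]
  rw [smul_mul_assoc, Finset.sum_mul]
  have h1 : ∀ a : A, (l (-a) • ru ρ u a) * proj ρ u l' = (l' - l) a • proj ρ u l' := by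
    intro a
    rw [smul_mul_assoc, ru_mul_proj, smul_smul, AddChar.sub_apply, mul_comm]
  rw [Finset.sum_congr rfl (fun a _ => h1 a), ← Finset.sum_smul, smul_smul]

theorem proj_idem (l : AddChar A ℂ) : proj ρ u l * proj ρ u l = proj ρ u l := by
  have hA : (Fintype.card A : ℂ) ≠ 0 := cardA_ne
  rw [proj_mul_proj, sub_self]
  simp only [AddChar.zero_apply, Finset.sum_const, Finset.card_univ, nsmul_eq_mul, mul_one]
  rw [inv_mul_cancel₀ hA, one_smul]

theorem proj_orth (l l' : AddChar A ℂ) (h : l ≠ l') : proj ρ u l * proj ρ u l' = 0 := by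
  rw [proj_mul_proj, AddChar.sum_eq_zero_iff_ne_zero.2 (sub_ne_zero.mpr (Ne.symm h)), mul_zero,
    zero_smul]

theorem sum_proj [DecidableEq A] : ∑ l : AddChar A ℂ, proj ρ u l = 1 := by
  have hA : (Fintype.card A : ℂ) ≠ 0 := cardA_ne
  simp only [proj_def]
  rw [← Finset.smul_sum, Finset.sum_comm]
  have h2 : ∀ a : A, ∑ l : AddChar A ℂ, l (-a) • ru ρ u a =
      (if a = 0 then (Fintype.card A : ℂ) else 0) • ru ρ u a := by
    intro a
    rw [← Finset.sum_smul, AddChar.sum_apply_eq_ite]
    simp only [neg_eq_zero]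
  rw [Finset.sum_congr rfl (fun a _ => h2 a)]
  simp only [ite_smul, zero_smul, Finset.sum_ite_eq', Finset.mem_univ, if_true]
  rw [smul_smul, inv_mul_cancel₀ hA, one_smul, ru_zero]

end basic

section mult

variable {G : Type*} [Group G] {A : Type*} [AddCommGroup A] [Fintype A]
  {V : Type*} [AddCommGroup V] [Module ℂ V] [FiniteDimensional ℂ V]
  (ρ : Representation ℂ G V) (u : Multiplicative A →* G)

/-- the multiplicity of the character `l` in the restriction of `ρ` to `u(A)` -/
noncomputable def mult (l : AddChar A ℂ) : ℕ :=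
  Module.finrank ℂ (LinearMap.range (proj ρ u l))

theorem trace_proj (l : AddChar A ℂ) :
    LinearMap.trace ℂ V (proj ρ u l) = (mult ρ u l : ℂ) := by
  have hidem : IsIdempotentElem (proj ρ u l) := proj_idem ρ u l
  exact (LinearMap.IsIdempotentElem.isProj_range _ hidem).trace

/-- the multiplicity as a Fourier coefficient of the character -/
theorem mult_eq (l : AddChar A ℂ) :
    (mult ρ u l : ℂ) =
      (Fintype.card A : ℂ)⁻¹ * ∑ a : A, l (-a) * ρ.character (u (Multiplicative.ofAdd a)) := by
  rw [← trace_proj, proj_def, map_smul, smul_eq_mul, map_sum]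
  congr 1
  apply Finset.sum_congr rfl
  intro a _
  rw [map_smul, smul_eq_mul]
  rfl

theorem proj_eq_zero_of_mult (l : AddChar A ℂ) (h : mult ρ u l = 0) : proj ρ u l = 0 := by
  apply Cfsg.Agent.Lib.Helper8.E6M.eq_zero_of_trace_zero _ (proj_idem ρ u l)
  rw [trace_proj, h, Nat.cast_zero]

/-- Fourier inversion: the character on `u(A)` -/
theorem character_u [DecidableEq A] (a : A) :
    ρ.character (u (Multiplicative.ofAdd a)) = ∑ l : AddChar A ℂ, (mult ρ u l : ℂ) * l a := by
  have h1 : ru ρ u a = ∑ l : AddChar A ℂ, l a • proj ρ u l := by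
    rw [← mul_one (ru ρ u a), ← sum_proj ρ u, Finset.mul_sum]
    apply Finset.sum_congr rfl
    intro l _
    rw [ru_mul_proj]
  show LinearMap.trace ℂ V (ru ρ u a) = _
  rw [h1, map_sum]
  apply Finset.sum_congr rfl
  intro l _
  rw [map_smul, smul_eq_mul, trace_proj, mul_comm]

/-- the degree is the sum of the multiplicities -/
theorem finrank_eq_sum [DecidableEq A] :
    (Module.finrank ℂ V : ℂ) = ∑ l : AddChar A ℂ, (mult ρ u l : ℂ) := by
  have h := character_u ρ u (0 : A)
  rw [ofAdd_zero, map_one, Representation.char_one] at h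
  rw [h]
  apply Finset.sum_congr rfl
  intro l _
  rw [AddChar.map_zero_eq_one, mul_one]

theorem finrank_eq_sum_nat [DecidableEq A] :
    Module.finrank ℂ V = ∑ l : AddChar A ℂ, mult ρ u l := by
  have h := finrank_eq_sum ρ u
  exact_mod_cast h

end mult

section conj

variable {G : Type*} [Group G] {A : Type*} [AddCommGroup A] [Fintype A]
  {V : Type*} [AddCommGroup V] [Module ℂ V] [FiniteDimensional ℂ V]
  (ρ : Representation ℂ G V) (u : Multiplicative A →* G)

/-- the character `l ∘ σ⁻¹` -/
noncomputable def twist (l : AddChar A ℂ) (σ : A ≃+ A) : AddChar A ℂ :=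
  l.compAddMonoidHom (σ.symm : A →+ A)

theorem twist_apply (l : AddChar A ℂ) (σ : A ≃+ A) (b : A) : twist l σ b = l (σ.symm b) := rfl

variable (g : G) (σ : A ≃+ A)
  (hσ : ∀ a : A, g * u (Multiplicative.ofAdd a) * g⁻¹ = u (Multiplicative.ofAdd (σ a)))

include hσ in
theorem rho_mul_ru (a : A) : ρ g * ru ρ u a = ru ρ u (σ a) * ρ g := by
  unfold ru
  rw [← map_mul, ← map_mul, ← hσ a]
  congr 1
  group

include hσ in
/-- an element normalising `u(A)` permutes the projectors -/
theorem rho_mul_proj (l : AddChar A ℂ) :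
    ρ g * proj ρ u l = proj ρ u (twist l σ) * ρ g := by
  rw [proj_def, proj_def, mul_smul_comm, smul_mul_assoc, Finset.mul_sum, Finset.sum_mul]
  congr 1
  apply Fintype.sum_equiv σ.toEquiv
  intro a
  show ρ g * (l (-a) • ru ρ u a) = (twist l σ (-(σ a)) • ru ρ u (σ a)) * ρ g
  have h1 : σ.symm (-(σ a)) = -a := by rw [map_neg, AddEquiv.symm_apply_apply]
  rw [mul_smul_comm, smul_mul_assoc, rho_mul_ru ρ u g σ hσ, twist_apply, h1]

include hσ in
theorem mult_twist (l : AddChar A ℂ) : mult ρ u (twist l σ) = mult ρ u l := by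
  have h1 : proj ρ u (twist l σ) = ρ g * proj ρ u l * ρ g⁻¹ := by
    rw [rho_mul_proj ρ u g σ hσ, mul_assoc, ← map_mul, mul_inv_cancel, map_one, mul_one]
  have h2 : LinearMap.trace ℂ V (proj ρ u (twist l σ)) = LinearMap.trace ℂ V (proj ρ u l) := by
    rw [h1, LinearMap.trace_mul_comm, ← mul_assoc, ← map_mul, inv_mul_cancel, map_one, one_mul]
  rw [trace_proj, trace_proj] at h2
  exact_mod_cast h2

include hσ in
/-- the components moved by `g` do not contribute to its trace -/
theorem trace_rho_mul_proj_of_ne (l : AddChar A ℂ) (h : twist l σ ≠ l) :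
    LinearMap.trace ℂ V (ρ g * proj ρ u l) = 0 := by
  have h1 : ρ g * proj ρ u l = (proj ρ u (twist l σ) * ρ g) * proj ρ u l := by
    conv_lhs => rw [← proj_idem ρ u l, ← mul_assoc]
    rw [rho_mul_proj ρ u g σ hσ]
  rw [h1, LinearMap.trace_mul_comm, ← mul_assoc, proj_orth ρ u l (twist l σ) (Ne.symm h), zero_mul,
    map_zero]

include hσ in
/-- the trace formula -/
theorem character_eq_sum_fixed [DecidableEq A] :
    ρ.character g = ∑ l ∈ Finset.univ.filter (fun l : AddChar A ℂ => twist l σ = l),
      LinearMap.trace ℂ V (ρ g * proj ρ u l) := by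
  classical
  have h1 : ρ g = ∑ l : AddChar A ℂ, ρ g * proj ρ u l := by
    rw [← Finset.mul_sum, sum_proj, mul_one]
  show LinearMap.trace ℂ V (ρ g) = _
  conv_lhs => rw [h1]
  rw [map_sum, Finset.sum_filter]
  apply Finset.sum_congr rfl
  intro l _
  split_ifs with h
  · rfl
  · exact trace_rho_mul_proj_of_ne ρ u g σ hσ l h

end conj

section line

variable {G : Type*} [Group G] {A : Type*} [AddCommGroup A] [Fintype A]
  {V : Type*} [AddCommGroup V] [Module ℂ V] [FiniteDimensional ℂ V]
  (ρ : Representation ℂ G V) (u : Multiplicative A →* G)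

/-- on a component of multiplicity one, the commutator subgroup of any group of operators
commuting with the projector acts trivially -/
theorem rho_mul_proj_of_commutator (l : AddChar A ℂ) (hm : mult ρ u l = 1) (S : Subgroup G)
    (hS : ∀ s ∈ S, ρ s * proj ρ u l = proj ρ u l * ρ s) (x : S) (hx : x ∈ commutator S) :
    ρ x.1 * proj ρ u l = proj ρ u l := by
  have htr : LinearMap.trace ℂ V (proj ρ u l) = 1 := by
    rw [trace_proj, hm, Nat.cast_one]
  exact Cfsg.Agent.Lib.Helper8.E6M2B.line_commutator (proj ρ u l) (proj_idem ρ u l) htr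
    ((ρ : G →* Module.End ℂ V).comp S.subtype) (fun s => hS s.1 s.2) x hx

/-- the same for an explicit commutator -/
theorem rho_commutator_mul_proj (l : AddChar A ℂ) (hm : mult ρ u l = 1) (s t : G)
    (hs : ρ s * proj ρ u l = proj ρ u l * ρ s) (ht : ρ t * proj ρ u l = proj ρ u l * ρ t) :
    ρ (s * t * s⁻¹ * t⁻¹) * proj ρ u l = proj ρ u l := by
  classical
  set S : Subgroup G :=
    { carrier := {x | ρ x * proj ρ u l = proj ρ u l * ρ x}
      one_mem' := by simp
      mul_mem' := by
        intro a b ha hb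
        show ρ (a * b) * _ = _ * ρ (a * b)
        rw [map_mul, mul_assoc, hb, ← mul_assoc, ha, mul_assoc]
      inv_mem' := by
        intro a ha
        show ρ a⁻¹ * _ = _ * ρ a⁻¹
        have h1 : ρ a⁻¹ * ρ a = 1 := by rw [← map_mul, inv_mul_cancel, map_one]
        have h2 : ρ a * ρ a⁻¹ = 1 := by rw [← map_mul, mul_inv_cancel, map_one]
        calc ρ a⁻¹ * proj ρ u l = ρ a⁻¹ * proj ρ u l * (ρ a * ρ a⁻¹) := by rw [h2, mul_one]
          _ = ρ a⁻¹ * (proj ρ u l * ρ a) * ρ a⁻¹ := by simp only [mul_assoc]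
          _ = ρ a⁻¹ * (ρ a * proj ρ u l) * ρ a⁻¹ := by rw [ha]
          _ = (ρ a⁻¹ * ρ a) * proj ρ u l * ρ a⁻¹ := by simp only [mul_assoc]
          _ = proj ρ u l * ρ a⁻¹ := by rw [h1, one_mul] } with hSdef
  have hsS : s ∈ S := hs
  have htS : t ∈ S := ht
  have hx : (⟨s, hsS⟩ * ⟨t, htS⟩ * ⟨s, hsS⟩⁻¹ * ⟨t, htS⟩⁻¹ : S) ∈ commutator S := by
    rw [← commutatorElement_def]
    exact Subgroup.commutator_mem_commutator (Subgroup.mem_top _) (Subgroup.mem_top _)
  exact rho_mul_proj_of_commutator ρ u l hm S (fun x hx => hx) _ hx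

end line

section config

variable {G : Type*} [Group G] {A : Type*} [AddCommGroup A] [Fintype A] [DecidableEq A]
  {V : Type*} [AddCommGroup V] [Module ℂ V] [FiniteDimensional ℂ V]
  (ρ : Representation ℂ G V) (u : Multiplicative A →* G)

theorem twist_zero (σ : A ≃+ A) : twist (0 : AddChar A ℂ) σ = 0 := by
  ext b
  rw [twist_apply, AddChar.zero_apply, AddChar.zero_apply]

variable (O : Finset (AddChar A ℂ)) (h0 : (0 : AddChar A ℂ) ∉ O)
  (h1 : ∀ l ∈ O, mult ρ u l = 1) (h2 : ∀ l : AddChar A ℂ, l ≠ 0 → l ∉ O → mult ρ u l = 0)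

include h0 h1 h2 in
/-- the character on `u(A)` in a multiplicity one configuration -/
theorem character_u_of_config (a : A) :
    ρ.character (u (Multiplicative.ofAdd a)) = (mult ρ u 0 : ℂ) + ∑ l ∈ O, l a := by
  rw [character_u]
  have hS : ∑ l : AddChar A ℂ, (mult ρ u l : ℂ) * l a =
      ∑ l ∈ insert 0 O, (mult ρ u l : ℂ) * l a := by
    symm
    apply Finset.sum_subset (Finset.subset_univ _)
    intro l _ hl
    rw [Finset.mem_insert, not_or] at hl
    rw [h2 l hl.1 hl.2, Nat.cast_zero, zero_mul]
  rw [hS, Finset.sum_insert h0, AddChar.zero_apply, mul_one]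
  congr 1
  apply Finset.sum_congr rfl
  intro l hl
  rw [h1 l hl, Nat.cast_one, one_mul]

include h0 h1 h2 in
/-- the degree in a multiplicity one configuration -/
theorem finrank_of_config : Module.finrank ℂ V = mult ρ u 0 + O.card := by
  have h := character_u_of_config ρ u O h0 h1 h2 (0 : A)
  rw [ofAdd_zero, map_one, Representation.char_one] at h
  have h3 : ∑ l ∈ O, l (0 : A) = (O.card : ℂ) := by
    rw [Finset.sum_congr rfl (fun l _ => AddChar.map_zero_eq_one l), Finset.sum_const,
      nsmul_eq_mul, mul_one]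
  rw [h3] at h
  exact_mod_cast h

include h0 h1 h2 in
/-- the character of an element normalising `u(A)` which acts trivially on the components that it
fixes, in a multiplicity one configuration -/
theorem character_of_config (g : G) (σ : A ≃+ A)
    (hσ : ∀ a : A, g * u (Multiplicative.ofAdd a) * g⁻¹ = u (Multiplicative.ofAdd (σ a)))
    (hfix : ∀ l ∈ O, twist l σ = l → ρ g * proj ρ u l = proj ρ u l) :
    ρ.character g = LinearMap.trace ℂ V (ρ g * proj ρ u 0) +
      ((O.filter (fun l => twist l σ = l)).card : ℂ) := by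
  rw [character_eq_sum_fixed ρ u g σ hσ, Finset.sum_filter]
  have hS : ∑ l : AddChar A ℂ,
      (if twist l σ = l then LinearMap.trace ℂ V (ρ g * proj ρ u l) else 0) =
      ∑ l ∈ insert 0 O,
        (if twist l σ = l then LinearMap.trace ℂ V (ρ g * proj ρ u l) else 0) := by
    symm
    apply Finset.sum_subset (Finset.subset_univ _)
    intro l _ hl
    rw [Finset.mem_insert, not_or] at hl
    rw [proj_eq_zero_of_mult ρ u l (h2 l hl.1 hl.2), mul_zero, map_zero, ite_self]
  rw [hS, Finset.sum_insert h0, if_pos (twist_zero σ)]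
  congr 1
  rw [← Finset.sum_filter]
  have h3 : ∀ l ∈ O.filter (fun l => twist l σ = l),
      LinearMap.trace ℂ V (ρ g * proj ρ u l) = 1 := by
    intro l hl
    rw [Finset.mem_filter] at hl
    rw [hfix l hl.1 hl.2, trace_proj, h1 l hl.1, Nat.cast_one]
  rw [Finset.sum_congr rfl h3, Finset.sum_const, nsmul_eq_mul, mul_one]

end config

section rangeRep

variable {H : Type*} [Group H] {V : Type*} [AddCommGroup V] [Module ℂ V]
  (τ : Representation ℂ H V) (E : Module.End ℂ V) (hcomm : ∀ h, τ h * E = E * τ h)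

include hcomm in
theorem map_range (h : H) : ∀ w ∈ LinearMap.range E, τ h w ∈ LinearMap.range E := by
  rintro _ ⟨v, rfl⟩
  refine ⟨τ h v, ?_⟩
  have := congrArg (fun T : Module.End ℂ V => T v) (hcomm h)
  simp only [Module.End.mul_apply] at this
  exact this.symm

/-- the representation on the range of an idempotent commuting with the group -/
noncomputable def rangeRep : Representation ℂ H (LinearMap.range E) where
  toFun h := (τ h).restrict (map_range τ E hcomm h)
  map_one' := by
    apply LinearMap.ext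
    intro w
    apply Subtype.ext
    simp [LinearMap.restrict_apply]
  map_mul' g g' := by
    apply LinearMap.ext
    intro w
    apply Subtype.ext
    simp [LinearMap.restrict_apply]

theorem rangeRep_apply (h : H) (w : LinearMap.range E) :
    ((rangeRep τ E hcomm h w : LinearMap.range E) : V) = τ h w := rfl

include hcomm in
theorem rangeRep_eq_one_iff (hE : E * E = E) (h : H) :
    rangeRep τ E hcomm h = 1 ↔ τ h * E = E := by
  constructor
  · intro h1
    apply LinearMap.ext
    intro v
    have h2 := LinearMap.congr_fun h1 ⟨E v, LinearMap.mem_range_self E v⟩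
    have h3 := congrArg Subtype.val h2
    rw [rangeRep_apply] at h3
    exact h3
  · intro h1
    apply LinearMap.ext
    intro w
    apply Subtype.ext
    rw [rangeRep_apply]
    obtain ⟨v, hv⟩ := w.2
    have h2 := congrArg (fun T : Module.End ℂ V => T v) h1
    simp only [Module.End.mul_apply] at h2
    rw [← hv, h2]
    show E v = w.1
    exact hv

theorem trace_rangeRep [FiniteDimensional ℂ V] (hE : E * E = E) (h : H) :
    LinearMap.trace ℂ (LinearMap.range E) (rangeRep τ E hcomm h) =
      LinearMap.trace ℂ V (τ h * E) := by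
  have hf : ∀ x, (τ h * E) x ∈ LinearMap.range E := by
    intro x
    rw [hcomm h]
    exact ⟨τ h x, rfl⟩
  rw [← LinearMap.trace_restrict_eq_of_forall_mem (LinearMap.range E) (τ h * E) hf]
  congr 1
  apply LinearMap.ext
  intro w
  apply Subtype.ext
  rw [rangeRep_apply]
  obtain ⟨v, hv⟩ := w.2
  show τ h w.1 = τ h (E w.1)
  have h2 := congrArg (fun T : Module.End ℂ V => T v) hE
  simp only [Module.End.mul_apply] at h2
  rw [← hv, h2]

end rangeRep

end Cfsg.Agent.Lib.Helper8.AbFourier
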