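import Mathlib
import Cfsg.Agent.Lib.Helper8.GlauE1
import Cfsg.Agent.Lib.Helper6.PermCount

/-! Real characters and real classes under the `p`-group Glauberman correspondence. -/
set_option autoImplicit false

namespace Cfsg.Agent.Lib.Helper8.GlauP

open MulAction Cfsg.Agent.Lib.Helper6
open scoped ComplexConjugate

/-- a class is real -/
def RealCls {H : Type*} [Group H] (L : ConjClasses H) : Prop :=
  ∀ h : H, ConjClasses.mk h = L → IsConj h h⁻¹

/-- a function is real-valued -/
def RealFun {H : Type*} (f : H → ℂ) : Prop := ∀ h : H, (f h).im = 0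

theorem realCls_mk_iff {H : Type*} [Group H] (h : H) :
    RealCls (ConjClasses.mk h) ↔ IsConj h h⁻¹ := by
  constructor
  · intro hh
    exact hh h rfl
  · intro hh k hk
    have h1 : IsConj k h := ConjClasses.mk_eq_mk_iff_isConj.mp hk
    have h2 : IsConj k⁻¹ h⁻¹ := by
      obtain ⟨u, hu⟩ := h1
      refine ⟨u, ?_⟩
      have := hu
      unfold SemiconjBy at this ⊢
      have e1 : h = ↑u * k * ↑u⁻¹ := by
        rw [this]
        simp
      rw [e1]
      simp [mul_assoc]
    exact h1.trans (hh.trans h2.symm)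

/-- Brauer's permutation lemma for inversion: as many real classes as real characters -/
theorem card_realCls_eq_card_realIrr (H : Type*) [Group H] [Fintype H] :
    Nat.card {L : ConjClasses H // RealCls L}
      = Nat.card {β : Cfsg.IrrCharacter H // RealFun (β : H → ℂ)} := by
  have h1 := card_fixed_classes_eq_card_fixed_irr (G := H) (fun h => h⁻¹)
    (by
      intro x y hxy
      obtain ⟨u, hu⟩ := hxy
      refine ⟨u, ?_⟩
      unfold SemiconjBy at hu ⊢
      have e1 : y = ↑u * x * ↑u⁻¹ := by
        rw [hu]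
        simp
      rw [e1]
      simp [mul_assoc])
    (by
      intro χ
      have h2 : ((χ : H → ℂ) ∘ fun h => h⁻¹) = fun g => conj ((χ : H → ℂ) g) := by
        funext g
        exact IsCharacter.apply_inv (IsIrrCharacter.isCharacter χ.2) g
      rw [h2]
      exact IsIrrCharacter.conj χ.2)
  have e1 : {L : ConjClasses H // RealCls L}
      = {C : ConjClasses H // ∀ g : H, ConjClasses.mk g = C → IsConj g ((fun h => h⁻¹) g)} := rfl
  rw [e1, h1]
  apply Nat.card_congr
  apply Equiv.subtypeEquivRight
  intro χ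
  constructor
  · intro h g
    have h3 := congrFun h g
    simp only [Function.comp_apply] at h3
    rw [IsCharacter.apply_inv (IsIrrCharacter.isCharacter χ.2)] at h3
    exact Complex.conj_eq_iff_im.mp h3
  · intro h
    funext g
    simp only [Function.comp_apply]
    rw [IsCharacter.apply_inv (IsIrrCharacter.isCharacter χ.2)]
    exact Complex.conj_eq_iff_im.mpr (h g)

variable {p : ℕ} {M : Ideal Cfsg.AlgInt}
variable {G C T : Type*} [Group G] [Group C] [Group T]

namespace PAct

variable (A : PAct p G C T)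

/-- real invariant characters of `G` correspond to real characters of `C` -/
theorem card_real_inv_irr [Fintype G] [Fintype C] [Finite T] (hM : Cfsg.IsPModular p M) :
    Nat.card {χ : Cfsg.IrrCharacter G // RealFun (χ : G → ℂ) ∧ A.Inv (χ : G → ℂ)}
      = Nat.card {β : Cfsg.IrrCharacter C // RealFun (β : C → ℂ)} := by
  apply Nat.card_congr
  refine Equiv.ofBijective
    (fun χ => ⟨A.glau χ.1, (A.glau_real_iff hM χ.1 χ.2.2).mpr χ.2.1⟩) ⟨?_, ?_⟩
  · rintro ⟨χ, hχ⟩ ⟨χ', hχ'⟩ h
    have h1 : A.glau χ = A.glau χ' := congrArg Subtype.val h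
    apply Subtype.ext
    exact A.glau_inj hM χ χ' hχ.2 hχ'.2 h1
  · rintro ⟨β, hβ⟩
    obtain ⟨χ, hχ, hg⟩ := A.glau_surj hM β
    refine ⟨⟨χ, ?_, hχ⟩, ?_⟩
    · rw [← hg] at hβ
      exact (A.glau_real_iff hM χ hχ).mp hβ
    · apply Subtype.ext
      exact hg

theorem ι_inv (c : C) : A.ι c⁻¹ = (A.ι c)⁻¹ := map_inv A.ι c

theorem realCls_map_iff [Fintype G] [Fintype C] [Finite T] [Fact p.Prime] (L : ConjClasses C) :
    RealCls (ConjClasses.map A.ι L) ↔ RealCls L := by
  obtain ⟨c, rfl⟩ := ConjClasses.exists_rep L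
  have e1 : ConjClasses.map A.ι (ConjClasses.mk c) = ConjClasses.mk (A.ι c) := rfl
  rw [e1, realCls_mk_iff, realCls_mk_iff]
  constructor
  · intro h
    rw [← A.ι_inv] at h
    exact A.fusion c c⁻¹ h
  · intro h
    obtain ⟨u, hu⟩ := h
    rw [← A.ι_inv]
    refine ⟨Units.map A.ι u, ?_⟩
    unfold SemiconjBy at hu ⊢
    show A.ι ↑u * A.ι c = A.ι c⁻¹ * A.ι ↑u
    rw [← map_mul, ← map_mul, hu]

/-- real invariant classes of `G` correspond to real classes of `C` -/
theorem card_real_inv_cls [Fintype G] [Fintype C] [Finite T] [Fact p.Prime] :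
    Nat.card {K : ConjClasses G // RealCls K ∧ A.InvCls K}
      = Nat.card {L : ConjClasses C // RealCls L} := by
  symm
  apply Nat.card_congr
  refine Equiv.ofBijective
    (fun L => ⟨ConjClasses.map A.ι L.1, (A.realCls_map_iff L.1).mpr L.2, A.invCls_map L.1⟩)
    ⟨?_, ?_⟩
  · rintro ⟨L, hL⟩ ⟨L', hL'⟩ h
    have h1 : ConjClasses.map A.ι L = ConjClasses.map A.ι L' := congrArg Subtype.val h
    apply Subtype.ext
    exact A.map_injective h1
  · rintro ⟨K, hK1, hK2⟩
    obtain ⟨L, hL⟩ := A.exists_map_eq K hK2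
    refine ⟨⟨L, ?_⟩, ?_⟩
    · rw [← hL] at hK1
      exact (A.realCls_map_iff L).mp hK1
    · apply Subtype.ext
      exact hL

/-- the count of real invariant characters equals that of real invariant classes -/
theorem card_real_inv_irr_eq_cls [Fintype G] [Fintype C] [Finite T]
    (hM : Cfsg.IsPModular p M) :
    Nat.card {χ : Cfsg.IrrCharacter G // RealFun (χ : G → ℂ) ∧ A.Inv (χ : G → ℂ)}
      = Nat.card {K : ConjClasses G // RealCls K ∧ A.InvCls K} := by
  haveI : Fact p.Prime := ⟨hM.1⟩
  rw [A.card_real_inv_irr hM, A.card_real_inv_cls, card_realCls_eq_card_realIrr]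

/-- if all real characters are invariant, all real classes are invariant -/
theorem invCls_of_real [Fintype G] [Fintype C] [Finite T] (hM : Cfsg.IsPModular p M)
    (hall : ∀ χ : Cfsg.IrrCharacter G, RealFun (χ : G → ℂ) → A.Inv (χ : G → ℂ))
    (K : ConjClasses G) (hK : RealCls K) : A.InvCls K := by
  classical
  have h1 := A.card_real_inv_irr_eq_cls hM
  have h2 : Nat.card {χ : Cfsg.IrrCharacter G // RealFun (χ : G → ℂ) ∧ A.Inv (χ : G → ℂ)}
      = Nat.card {χ : Cfsg.IrrCharacter G // RealFun (χ : G → ℂ)} := by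
    apply Nat.card_congr
    apply Equiv.subtypeEquivRight
    intro χ
    exact ⟨fun h => h.1, fun h => ⟨h, hall χ h⟩⟩
  rw [h2, ← card_realCls_eq_card_realIrr] at h1
  by_contra hcon
  have : Fintype (ConjClasses G) := Fintype.ofFinite _
  have h3 : Nat.card {K : ConjClasses G // RealCls K ∧ A.InvCls K}
      < Nat.card {K : ConjClasses G // RealCls K} := by
    rw [Nat.card_eq_fintype_card, Nat.card_eq_fintype_card, Fintype.card_subtype,
      Fintype.card_subtype]
    apply Finset.card_lt_card
    rw [Finset.ssubset_iff_of_subset]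
    · refine ⟨K, ?_, ?_⟩
      · simp only [Finset.mem_filter, Finset.mem_univ, true_and]
        exact hK
      · simp only [Finset.mem_filter, Finset.mem_univ, true_and]
        exact fun h => hcon h.2
    · intro x hx
      simp only [Finset.mem_filter, Finset.mem_univ, true_and] at hx ⊢
      exact hx.1
  omega

end PAct

end Cfsg.Agent.Lib.Helper8.GlauP
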