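import Mathlib
import Cfsg.Agent.Lib.Helper8.GlauL3
import Cfsg.Agent.Lib.Helper8.GlauE2
import Cfsg.Agent.Lib.Helper6.PermCount

/-! Orbits on real characters and real classes of a normal subgroup of odd index:
fixed-point counts for the twisted inversion. -/
set_option autoImplicit false

namespace Cfsg.Agent.Lib.Helper8.RealOrb

open MulAction Cfsg.Agent.Lib.Helper6 Cfsg.Agent.Lib.Helper8.GlauP Cfsg.Agent.Lib.Helper8.GlauL
open scoped ComplexConjugate

variable {G : Type*} [Group G] (K : Subgroup G) [hK : K.Normal]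

/-- inversion followed by conjugation -/
def tw (g : G) (k : K) : K := conjN K g k⁻¹

theorem tw_conjN (g h : G) (k : K) : tw K g (conjN K h k) = conjN K (g * h) k⁻¹ := by
  unfold tw
  rw [← map_inv, map_mul, MulAut.mul_apply]

theorem tw_conjN_inv (g h : G) (k : K) : tw K g (conjN K h k⁻¹) = conjN K (g * h) k := by
  rw [tw_conjN, inv_inv]

theorem tw_iterate (g : G) (k : K) (j : ℕ) :
    (tw K g)^[2 * j] k = conjN K (g ^ (2 * j)) k ∧
      (tw K g)^[2 * j + 1] k = conjN K (g ^ (2 * j + 1)) k⁻¹ := by
  induction j with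
  | zero =>
    constructor
    · simp [conjN]
    · simp [tw]
  | succ j ih =>
    have h1 : (tw K g)^[2 * (j + 1)] k = conjN K (g ^ (2 * (j + 1))) k := by
      have e : 2 * (j + 1) = (2 * j + 1) + 1 := by ring
      rw [e, Function.iterate_succ_apply', ih.2, tw_conjN_inv, ← pow_succ']
    refine ⟨h1, ?_⟩
    rw [Function.iterate_succ_apply', h1, tw_conjN, ← pow_succ']

theorem conjN_coe (g : G) (k : K) : ((conjN K g k : K) : G) = g * k * g⁻¹ := rfl

/-- conjugation by an element of `K` -/
theorem conjN_of_mem {g : G} (hg : g ∈ K) (k : K) :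
    conjN K g k = (⟨g, hg⟩ : K) * k * (⟨g, hg⟩ : K)⁻¹ := by
  apply Subtype.ext
  rfl

theorem isConj_conjN_of_mem {g : G} (hg : g ∈ K) (k : K) : IsConj k (conjN K g k) := by
  rw [conjN_of_mem K hg, isConj_iff]
  exact ⟨⟨g, hg⟩, rfl⟩

/-- the odd iterate of the twisted inversion is conjugate to inversion -/
theorem exists_iterate_isConj_inv (hodd : Odd K.index) (g : G) (k : K) :
    ∃ n : ℕ, IsConj k⁻¹ ((tw K g)^[n] k) := by
  obtain ⟨j, hj⟩ := hodd
  refine ⟨2 * j + 1, ?_⟩
  rw [(tw_iterate K g k j).2]
  apply isConj_conjN_of_mem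
  rw [← hj]
  exact Subgroup.pow_index_mem K g

variable [Finite G]

/-- fixed characters of the twisted inversion -/
theorem comp_tw_eq_iff (hodd : Odd K.index) (g : G) (θ : Cfsg.IrrCharacter K) :
    (θ : K → ℂ) ∘ tw K g = (θ : K → ℂ) ↔
      RealFun (θ : K → ℂ) ∧ ∀ k : K, (θ : K → ℂ) (conjN K g k) = (θ : K → ℂ) k := by
  have hcf := IsIrrCharacter.isClassFunction θ.2
  have hc := IsIrrCharacter.isCharacter θ.2
  constructor
  · intro h
    have h1 : ∀ (n : ℕ) (k : K), (θ : K → ℂ) ((tw K g)^[n] k) = (θ : K → ℂ) k := by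
      intro n
      induction n with
      | zero => intro k; rfl
      | succ n ih =>
        intro k
        rw [Function.iterate_succ_apply']
        have := congrFun h ((tw K g)^[n] k)
        rw [Function.comp_apply] at this
        rw [this, ih]
    have hinv : ∀ k : K, (θ : K → ℂ) k⁻¹ = (θ : K → ℂ) k := by
      intro k
      obtain ⟨n, hn⟩ := exists_iterate_isConj_inv K hodd g k
      obtain ⟨c, hc'⟩ := isConj_iff.mp hn
      rw [← h1 n k, ← hc', hcf]
    have hreal : RealFun (θ : K → ℂ) := by
      intro k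
      have := hinv k
      rw [IsCharacter.apply_inv hc] at this
      exact Complex.conj_eq_iff_im.mp this
    refine ⟨hreal, ?_⟩
    intro k
    have := congrFun h k⁻¹
    rw [Function.comp_apply] at this
    unfold tw at this
    rw [inv_inv] at this
    rw [this, hinv]
  · rintro ⟨hreal, hg⟩
    funext k
    rw [Function.comp_apply]
    unfold tw
    rw [hg, IsCharacter.apply_inv hc]
    exact Complex.conj_eq_iff_im.mpr (hreal k)

/-- fixed classes of the twisted inversion -/
theorem class_tw_iff (hodd : Odd K.index) (g : G) (c : ConjClasses K) :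
    (∀ k : K, ConjClasses.mk k = c → IsConj k (tw K g k)) ↔
      RealCls c ∧ ∀ k : K, ConjClasses.mk k = c → ConjClasses.mk (conjN K g k) = c := by
  constructor
  · intro h
    have h1 : ∀ (n : ℕ) (k : K), ConjClasses.mk k = c → ConjClasses.mk ((tw K g)^[n] k) = c := by
      intro n
      induction n with
      | zero => intro k hk; exact hk
      | succ n ih =>
        intro k hk
        rw [Function.iterate_succ_apply']
        have h2 := ih k hk
        have h3 := h _ h2
        rw [← h2]
        exact (ConjClasses.mk_eq_mk_iff_isConj.mpr h3).symm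
    have hinvmem : ∀ k : K, ConjClasses.mk k = c → ConjClasses.mk k⁻¹ = c := by
      intro k hk
      obtain ⟨n, hn⟩ := exists_iterate_isConj_inv K hodd g k
      rw [← h1 n k hk]
      exact ConjClasses.mk_eq_mk_iff_isConj.mpr hn
    refine ⟨?_, ?_⟩
    · intro k hk
      have := hinvmem k hk
      rw [← hk] at this
      exact (ConjClasses.mk_eq_mk_iff_isConj.mp this).symm
    · intro k hk
      have h2 := hinvmem k hk
      have h3 := h _ h2
      unfold tw at h3
      rw [inv_inv] at h3
      rw [← h2]
      exact (ConjClasses.mk_eq_mk_iff_isConj.mpr h3).symm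
  · rintro ⟨hreal, hg⟩ k hk
    have h1 : ConjClasses.mk k⁻¹ = c := by
      rw [← hk]
      exact (ConjClasses.mk_eq_mk_iff_isConj.mpr (hreal k hk)).symm
    have h2 := hg _ h1
    unfold tw
    rw [← hk] at h2
    exact (ConjClasses.mk_eq_mk_iff_isConj.mp h2).symm

/-- the fixed-point counts agree -/
theorem card_fixed_eq [Fintype K] (hodd : Odd K.index) (g : G) :
    Nat.card {θ : Cfsg.IrrCharacter K // RealFun (θ : K → ℂ) ∧
        ∀ k : K, (θ : K → ℂ) (conjN K g k) = (θ : K → ℂ) k}
      = Nat.card {c : ConjClasses K // RealCls c ∧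
        ∀ k : K, ConjClasses.mk k = c → ConjClasses.mk (conjN K g k) = c} := by
  have h1 := card_fixed_classes_eq_card_fixed_irr (G := K) (tw K g)
    (by
      intro x y hxy
      unfold tw
      obtain ⟨c, hc⟩ := isConj_iff.mp hxy
      rw [isConj_iff]
      refine ⟨conjN K g c, ?_⟩
      rw [← hc]
      simp [mul_assoc])
    (by
      intro χ
      have h2 : ((χ : K → ℂ) ∘ tw K g)
          = fun k => conj ((fun k => (χ : K → ℂ) (conjN K g k)) k) := by
        funext k
        rw [Function.comp_apply]
        unfold tw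
        rw [map_inv, IsCharacter.apply_inv (IsIrrCharacter.isCharacter χ.2)]
      rw [h2]
      exact IsIrrCharacter.conj (IsIrrCharacter.comp_mulEquiv (conjN K g) χ.2))
  rw [Nat.card_congr (Equiv.subtypeEquivRight (fun θ => (comp_tw_eq_iff K hodd g θ).symm)),
    ← h1]
  exact Nat.card_congr (Equiv.subtypeEquivRight (fun c => class_tw_iff K hodd g c))

end Cfsg.Agent.Lib.Helper8.RealOrb
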