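import Mathlib
import Cfsg.Agent.Lib.Helper8.RealOrb1

/-! Orbits on real characters and real classes of a normal subgroup of odd index:
Burnside's lemma. -/
set_option autoImplicit false

namespace Cfsg.Agent.Lib.Helper8.RealOrb

open MulAction Cfsg.Agent.Lib.Helper6 Cfsg.Agent.Lib.Helper8.GlauP Cfsg.Agent.Lib.Helper8.GlauL
open scoped ComplexConjugate

variable {G : Type*} [Group G] [Finite G] (K : Subgroup G) [hK : K.Normal]

/-- the real irreducible characters -/
abbrev RealIrr : Type _ := {θ : Cfsg.IrrCharacter K // RealFun (θ : K → ℂ)}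

/-- the real classes -/
abbrev RealClasses : Type _ := {c : ConjClasses K // RealCls c}

/-- the action on real characters -/
@[reducible] noncomputable def actRealIrr : MulAction G (RealIrr K) :=
  letI := irrAct (conjN K)
  { smul := fun g θ => ⟨g • θ.1, fun k => θ.2 _⟩
    one_smul := fun θ => Subtype.ext (one_smul G θ.1)
    mul_smul := fun g h θ => Subtype.ext (mul_smul g h θ.1) }

theorem actRealIrr_apply (g : G) (θ : RealIrr K) (k : K) :
    (((letI := actRealIrr K; g • θ) : RealIrr K).1 : K → ℂ) k
      = (θ.1 : K → ℂ) ((conjN K g)⁻¹ k) := rfl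

/-- conjugation on classes -/
def clsMap (g : G) (c : ConjClasses K) : ConjClasses K :=
  ConjClasses.map (conjN K g).toMonoidHom c

theorem clsMap_mk (g : G) (k : K) :
    clsMap K g (ConjClasses.mk k) = ConjClasses.mk (conjN K g k) := rfl

theorem realCls_clsMap (g : G) {c : ConjClasses K} (hc : RealCls c) : RealCls (clsMap K g c) := by
  obtain ⟨k, rfl⟩ := ConjClasses.exists_rep c
  rw [clsMap_mk, realCls_mk_iff]
  have h1 := (realCls_mk_iff k).mp hc
  obtain ⟨u, hu⟩ := isConj_iff.mp h1
  rw [isConj_iff]
  refine ⟨conjN K g u, ?_⟩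
  rw [← map_inv (conjN K g) k, ← hu]
  simp

/-- the action on real classes -/
@[reducible] noncomputable def actRealClasses : MulAction G (RealClasses K) where
  smul g c := ⟨clsMap K g c.1, realCls_clsMap K g c.2⟩
  one_smul c := by
    apply Subtype.ext
    show clsMap K 1 c.1 = c.1
    obtain ⟨k, hk⟩ := ConjClasses.exists_rep c.1
    rw [← hk, clsMap_mk, map_one]
    rfl
  mul_smul g h c := by
    apply Subtype.ext
    show clsMap K (g * h) c.1 = clsMap K g (clsMap K h c.1)
    obtain ⟨k, hk⟩ := ConjClasses.exists_rep c.1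
    rw [← hk, clsMap_mk, clsMap_mk, clsMap_mk, map_mul]
    rfl

theorem actRealClasses_coe (g : G) (c : RealClasses K) :
    ((letI := actRealClasses K; g • c) : RealClasses K).1 = clsMap K g c.1 := rfl

/-- the two actions have equally many orbits -/
theorem card_orbits_eq [Fintype K] (hodd : Odd K.index) :
    Nat.card (Quotient (letI := actRealIrr K; MulAction.orbitRel G (RealIrr K)))
      = Nat.card (Quotient (letI := actRealClasses K; MulAction.orbitRel G (RealClasses K))) := by
  classical
  haveI : Fintype G := Fintype.ofFinite G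
  letI a1 := actRealIrr K
  letI a2 := actRealClasses K
  haveI : Fintype (RealIrr K) := Fintype.ofFinite _
  haveI : Fintype (RealClasses K) := Fintype.ofFinite _
  have hB1 := MulAction.sum_card_fixedBy_eq_card_orbits_mul_card_group G (RealIrr K)
  have hB2 := MulAction.sum_card_fixedBy_eq_card_orbits_mul_card_group G (RealClasses K)
  have hfix : ∀ g : G, Fintype.card (MulAction.fixedBy (RealIrr K) g)
      = Fintype.card (MulAction.fixedBy (RealClasses K) g) := by
    intro g
    rw [← Nat.card_eq_fintype_card, ← Nat.card_eq_fintype_card]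
    have e1 : (MulAction.fixedBy (RealIrr K) g) ≃ {θ : Cfsg.IrrCharacter K //
        RealFun (θ : K → ℂ) ∧ ∀ k : K, (θ : K → ℂ) (conjN K g k) = (θ : K → ℂ) k} :=
      { toFun := fun x => ⟨x.1.1, x.1.2, fun k => by
          have h0 : g • x.1 = x.1 := x.2
          have h1 : ((g • x.1 : RealIrr K).1 : K → ℂ) (conjN K g k)
              = (x.1.1 : K → ℂ) (conjN K g k) := by rw [h0]
          rw [actRealIrr_apply, MulAut.inv_apply_self] at h1
          exact h1.symm⟩
        invFun := fun y => ⟨⟨y.1, y.2.1⟩, by
          show g • (⟨y.1, y.2.1⟩ : RealIrr K) = ⟨y.1, y.2.1⟩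
          apply Subtype.ext
          apply Subtype.ext
          funext k
          rw [actRealIrr_apply]
          have := y.2.2 ((conjN K g)⁻¹ k)
          rw [MulAut.apply_inv_self] at this
          exact this.symm⟩
        left_inv := fun x => rfl
        right_inv := fun y => rfl }
    have e2 : (MulAction.fixedBy (RealClasses K) g) ≃ {c : ConjClasses K //
        RealCls c ∧ ∀ k : K, ConjClasses.mk k = c → ConjClasses.mk (conjN K g k) = c} :=
      { toFun := fun x => ⟨x.1.1, x.1.2, fun k hk => by
          have h0 : g • x.1 = x.1 := x.2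
          have h1 : (g • x.1 : RealClasses K).1 = x.1.1 := by rw [h0]
          rw [actRealClasses_coe, ← hk, clsMap_mk] at h1
          rw [h1, hk]⟩
        invFun := fun y => ⟨⟨y.1, y.2.1⟩, by
          show g • (⟨y.1, y.2.1⟩ : RealClasses K) = ⟨y.1, y.2.1⟩
          apply Subtype.ext
          rw [actRealClasses_coe]
          obtain ⟨k, hk⟩ := ConjClasses.exists_rep y.1
          show clsMap K g y.1 = y.1
          rw [← hk, clsMap_mk]
          rw [y.2.2 k hk, hk]⟩
        left_inv := fun x => rfl
        right_inv := fun y => rfl }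
    rw [Nat.card_congr e1, Nat.card_congr e2]
    exact card_fixed_eq K hodd g
  rw [Finset.sum_congr rfl (fun g _ => hfix g), hB2] at hB1
  have hG : 0 < Fintype.card G := Fintype.card_pos
  rw [Nat.card_eq_fintype_card, Nat.card_eq_fintype_card]
  exact (Nat.eq_of_mul_eq_mul_right hG hB1).symm

end Cfsg.Agent.Lib.Helper8.RealOrb
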