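import Mathlib
import Cfsg.Agent.Lib.Helper8.RealOrb2
import Cfsg.Agent.Lib.Helper8.FS3
import Cfsg.Agent.Lib.Helper6.BlkCover

/-! Real characters above real characters of a normal subgroup of odd index. -/
set_option autoImplicit false

namespace Cfsg.Agent.Lib.Helper8.RealOrb

open MulAction Cfsg.Agent.Lib.Helper6 Cfsg.Agent.Lib.Helper8.GlauP Cfsg.Agent.Lib.Helper8.GlauL
open Cfsg.Agent.Lib.Helper8.FS
open scoped ComplexConjugate

variable {G : Type*} [Group G] (K : Subgroup G) [hK : K.Normal]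

/-- an element whose square lies in a normal subgroup of odd index lies in it -/
theorem mem_of_sq_mem (hodd : Odd K.index) {s : G} (h : s * s ∈ K) : s ∈ K := by
  obtain ⟨j, hj⟩ := hodd
  have h1 : s ^ K.index ∈ K := Subgroup.pow_index_mem K s
  have h2 : s = s ^ K.index * ((s * s) ^ j)⁻¹ := by
    rw [hj, ← pow_two, ← pow_mul, pow_succ', mul_inv_cancel_right]
  rw [h2]
  exact K.mul_mem h1 (K.inv_mem (K.pow_mem h j))

theorem conj_pow_of_inverts {x g : G} (h : x * g * x⁻¹ = g⁻¹) (j : ℕ) :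
    x ^ (2 * j + 1) * g * (x ^ (2 * j + 1))⁻¹ = g⁻¹ := by
  induction j with
  | zero => simpa using h
  | succ j ih =>
    have e : 2 * (j + 1) + 1 = (2 * j + 1) + 2 := by ring
    have h' : x * g⁻¹ * x⁻¹ = g := by
      calc x * g⁻¹ * x⁻¹ = (x * g * x⁻¹)⁻¹ := by group
        _ = g := by rw [h, inv_inv]
    rw [e, pow_add, pow_two]
    calc x ^ (2 * j + 1) * (x * x) * g * (x ^ (2 * j + 1) * (x * x))⁻¹
        = x ^ (2 * j + 1) * (x * (x * g * x⁻¹) * x⁻¹) * (x ^ (2 * j + 1))⁻¹ := by group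
      _ = x ^ (2 * j + 1) * g * (x ^ (2 * j + 1))⁻¹ := by rw [h, h']
      _ = g⁻¹ := ih

/-- an element inverted by some element is inverted by an element of `K` -/
theorem exists_mem_inverts (hodd : Odd K.index) {x g : G} (h : x * g * x⁻¹ = g⁻¹) :
    ∃ y ∈ K, y * g * y⁻¹ = g⁻¹ := by
  obtain ⟨j, hj⟩ := hodd
  refine ⟨x ^ (2 * j + 1), ?_, conj_pow_of_inverts h j⟩
  rw [← hj]
  exact Subgroup.pow_index_mem K x

/-- real elements lie in a normal subgroup of odd index -/
theorem mem_of_real (hodd : Odd K.index) {g : G} (h : IsConj g g⁻¹) : g ∈ K := by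
  obtain ⟨x, hx⟩ := isConj_iff.mp h
  obtain ⟨y, hyK, hy⟩ := exists_mem_inverts K hodd hx
  apply mem_of_sq_mem K hodd
  have h0 : g = y⁻¹ * g⁻¹ * y := by
    calc g = y⁻¹ * (y * g * y⁻¹) * y := by group
      _ = y⁻¹ * g⁻¹ * y := by rw [hy]
  have h1 : g * g = (g * y⁻¹ * g⁻¹) * y := by
    calc g * g = g * (y⁻¹ * g⁻¹ * y) := by rw [← h0]
      _ = (g * y⁻¹ * g⁻¹) * y := by group
  rw [h1]
  exact K.mul_mem (hK.conj_mem y⁻¹ (K.inv_mem hyK) g) hyK

theorem real_in_of_real (hodd : Odd K.index) (k : K) (h : IsConj (k : G) (k : G)⁻¹) :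
    IsConj k k⁻¹ := by
  obtain ⟨x, hx⟩ := isConj_iff.mp h
  obtain ⟨y, hyK, hy⟩ := exists_mem_inverts K hodd hx
  rw [isConj_iff]
  refine ⟨⟨y, hyK⟩, ?_⟩
  apply Subtype.ext
  exact hy

variable [Finite G]

/-- real classes of `G` correspond to orbits on the real classes of `K` -/
theorem card_realCls_eq_card_orbits (hodd : Odd K.index) :
    Nat.card {c : ConjClasses G // RealCls c}
      = Nat.card (Quotient (letI := actRealClasses K; MulAction.orbitRel G (RealClasses K))) := by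
  letI a2 := actRealClasses K
  symm
  apply Nat.card_congr
  have hreal : ∀ c : RealClasses K, RealCls (ConjClasses.map K.subtype c.1) := by
    intro c
    obtain ⟨k, hk⟩ := ConjClasses.exists_rep c.1
    rw [← hk]
    show RealCls (ConjClasses.mk (k : G))
    rw [realCls_mk_iff]
    have h1 : IsConj k k⁻¹ := (realCls_mk_iff k).mp (hk ▸ c.2)
    obtain ⟨u, hu⟩ := isConj_iff.mp h1
    rw [isConj_iff]
    exact ⟨(u : G), congrArg Subtype.val hu⟩
  have hwd : ∀ c d : RealClasses K, (MulAction.orbitRel G (RealClasses K)).r c d →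
      (⟨ConjClasses.map K.subtype c.1, hreal c⟩ : {c : ConjClasses G // RealCls c})
        = ⟨ConjClasses.map K.subtype d.1, hreal d⟩ := by
    intro c d hcd
    obtain ⟨g, hg⟩ : c ∈ MulAction.orbit G d := hcd
    apply Subtype.ext
    show ConjClasses.map K.subtype c.1 = ConjClasses.map K.subtype d.1
    have h1 : c.1 = clsMap K g d.1 := by
      rw [← hg]
      rfl
    obtain ⟨k, hk⟩ := ConjClasses.exists_rep d.1
    rw [h1, ← hk, clsMap_mk]
    show ConjClasses.mk ((conjN K g k : K) : G) = ConjClasses.mk (k : G)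
    rw [ConjClasses.mk_eq_mk_iff_isConj, conjN_coe, isConj_comm, isConj_iff]
    exact ⟨g, rfl⟩
  refine Equiv.ofBijective (Quot.lift (fun c => (⟨ConjClasses.map K.subtype c.1, hreal c⟩ :
    {c : ConjClasses G // RealCls c})) hwd) ⟨?_, ?_⟩
  · intro a b
    induction a using Quot.ind with
    | mk c =>
    induction b using Quot.ind with
    | mk d =>
    intro h
    have h1 : ConjClasses.map K.subtype c.1 = ConjClasses.map K.subtype d.1 :=
      congrArg Subtype.val h
    apply Quot.sound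
    show c ∈ MulAction.orbit G d
    obtain ⟨k, hk⟩ := ConjClasses.exists_rep c.1
    obtain ⟨l, hl⟩ := ConjClasses.exists_rep d.1
    rw [← hk, ← hl] at h1
    have h2 : ConjClasses.mk (k : G) = ConjClasses.mk (l : G) := h1
    rw [ConjClasses.mk_eq_mk_iff_isConj, isConj_comm, isConj_iff] at h2
    obtain ⟨g, hg⟩ := h2
    refine ⟨g, ?_⟩
    apply Subtype.ext
    show clsMap K g d.1 = c.1
    rw [← hl, ← hk, clsMap_mk]
    congr 1
    apply Subtype.ext
    rw [conjN_coe]
    exact hg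
  · rintro ⟨c, hc⟩
    obtain ⟨g, rfl⟩ := ConjClasses.exists_rep c
    have hg : IsConj g g⁻¹ := (realCls_mk_iff g).mp hc
    have hgK : g ∈ K := mem_of_real K hodd hg
    have hgr : IsConj (⟨g, hgK⟩ : K) (⟨g, hgK⟩ : K)⁻¹ := real_in_of_real K hodd ⟨g, hgK⟩ hg
    refine ⟨Quot.mk _ ⟨ConjClasses.mk ⟨g, hgK⟩, (realCls_mk_iff _).mpr hgr⟩, ?_⟩
    apply Subtype.ext
    rfl

end Cfsg.Agent.Lib.Helper8.RealOrb
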