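import Mathlib
import Cfsg.Agent.Lib.Helper8.RealOrb3

/-! Real characters above real characters of a normal subgroup of odd index, part 2. -/
set_option autoImplicit false

namespace Cfsg.Agent.Lib.Helper8.RealOrb

open MulAction Cfsg.Agent.Lib.Helper6 Cfsg.Agent.Lib.Helper8.GlauP Cfsg.Agent.Lib.Helper8.GlauL
open Cfsg.Agent.Lib.Helper8.FS
open scoped ComplexConjugate

variable {G : Type*} [Group G] [Fintype G] (K : Subgroup G) [hK : K.Normal] [Fintype K]

theorem sqrtCount_coe (hodd : Odd K.index) (k : K) : sqrtCount (k : G) = sqrtCount k := by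
  unfold sqrtCount
  congr 1
  apply Nat.card_congr
  refine ⟨fun s => ⟨⟨s.1, mem_of_sq_mem K hodd (by rw [s.2]; exact k.2)⟩, Subtype.ext s.2⟩,
    fun s => ⟨(s.1 : G), congrArg Subtype.val s.2⟩, fun s => rfl, fun s => rfl⟩

/-- the Frobenius–Schur restriction formula for a normal subgroup of odd index -/
theorem sum_fsInd_mul_classInner [Fintype (Cfsg.IrrCharacter G)] (hodd : Odd K.index)
    (φ : Cfsg.IrrCharacter K) :
    ∑ χ : Cfsg.IrrCharacter G,
      fsInd (χ : G → ℂ) * Cfsg.classInner (fun k : K => (χ : G → ℂ) k) (φ : K → ℂ)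
      = fsInd (φ : K → ℂ) := by
  rw [← classInner_sqrtCount φ]
  unfold Cfsg.classInner
  have h1 : ∀ k : K, sqrtCount k * conj ((φ : K → ℂ) k)
      = ∑ χ : Cfsg.IrrCharacter G,
        fsInd (χ : G → ℂ) * ((χ : G → ℂ) k * conj ((φ : K → ℂ) k)) := by
    intro k
    rw [← sqrtCount_coe K hodd, sqrtCount_eq, Finset.sum_mul]
    apply Finset.sum_congr rfl
    intro χ _
    ring
  rw [Finset.sum_congr rfl (fun k _ => h1 k), Finset.sum_comm, Finset.mul_sum]
  apply Finset.sum_congr rfl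
  intro χ _
  rw [← Finset.mul_sum]
  ring

theorem classInner_restrict_nat (χ : Cfsg.IrrCharacter G) (φ : Cfsg.IrrCharacter K) :
    ∃ n : ℕ, Cfsg.classInner (fun k : K => (χ : G → ℂ) k) (φ : K → ℂ) = n :=
  IsCharacter.classInner_nat (IsCharacter.restrict K (IsIrrCharacter.isCharacter χ.2))
    (IsIrrCharacter.isCharacter φ.2)

/-- existence of a character of indicator one above a character of indicator one -/
theorem exists_over_of_fsInd_eq_one (hodd : Odd K.index) (φ : Cfsg.IrrCharacter K)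
    (h : fsInd (φ : K → ℂ) = 1) :
    ∃ χ : Cfsg.IrrCharacter G, fsInd (χ : G → ℂ) = 1 ∧
      Cfsg.classInner (fun k : K => (χ : G → ℂ) k) (φ : K → ℂ) ≠ 0 := by
  classical
  haveI : Fintype (Cfsg.IrrCharacter G) := Fintype.ofFinite _
  have hsum := sum_fsInd_mul_classInner K hodd φ
  rw [h] at hsum
  by_contra hcon
  push Not at hcon
  have hre := congrArg Complex.re hsum
  rw [Complex.re_sum, Complex.one_re] at hre
  have hle : ∑ χ : Cfsg.IrrCharacter G,
      (fsInd (χ : G → ℂ) * Cfsg.classInner (fun k : K => (χ : G → ℂ) k) (φ : K → ℂ)).re ≤ 0 := by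
    apply Finset.sum_nonpos
    intro χ _
    obtain ⟨n, hn⟩ := classInner_restrict_nat K χ φ
    rw [hn, Complex.mul_re, Complex.natCast_re, Complex.natCast_im, mul_zero, sub_zero]
    rcases fsInd_irr_cases χ with h0 | h1 | h2
    · rw [h0]; simp
    · have := hcon χ h1
      rw [hn] at this
      have hn0 : n = 0 := by exact_mod_cast this
      rw [hn0]; simp
    · rw [h2]
      simp
  linarith

/-- existence of a real character above a real character -/
theorem exists_real_over (hodd : Odd K.index) (φ : Cfsg.IrrCharacter K)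
    (h : fsInd (φ : K → ℂ) ≠ 0) :
    ∃ χ : Cfsg.IrrCharacter G, fsInd (χ : G → ℂ) ≠ 0 ∧
      Cfsg.classInner (fun k : K => (χ : G → ℂ) k) (φ : K → ℂ) ≠ 0 := by
  classical
  haveI : Fintype (Cfsg.IrrCharacter G) := Fintype.ofFinite _
  have hsum := sum_fsInd_mul_classInner K hodd φ
  by_contra hcon
  push Not at hcon
  apply h
  rw [← hsum]
  apply Finset.sum_eq_zero
  intro χ _
  by_cases h0 : fsInd (χ : G → ℂ) = 0
  · rw [h0, zero_mul]
  · rw [hcon χ h0, mul_zero]

theorem realFun_iff (f : G → ℂ) : RealFun f ↔ ∀ g, conj (f g) = f g := by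
  constructor
  · intro h g
    exact Complex.conj_eq_iff_im.mpr (h g)
  · intro h g
    exact Complex.conj_eq_iff_im.mp (h g)

omit [Fintype G] [Fintype K] in
theorem realFun_iff' (f : K → ℂ) : RealFun f ↔ ∀ g, conj (f g) = f g := by
  constructor
  · intro h g
    exact Complex.conj_eq_iff_im.mpr (h g)
  · intro h g
    exact Complex.conj_eq_iff_im.mp (h g)

/-- two constituents of a restriction lie in the same orbit -/
theorem orbit_eq_of_over (χ : Cfsg.IrrCharacter G) (φ ψ : RealIrr K)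
    (h1 : Cfsg.classInner (fun k : K => (χ : G → ℂ) k) (φ.1 : K → ℂ) ≠ 0)
    (h2 : Cfsg.classInner (fun k : K => (χ : G → ℂ) k) (ψ.1 : K → ℂ) ≠ 0) :
    (letI := actRealIrr K; (Quotient.mk (MulAction.orbitRel G (RealIrr K)) φ
      = Quotient.mk (MulAction.orbitRel G (RealIrr K)) ψ)) := by
  letI := actRealIrr K
  obtain ⟨g, hg⟩ := exists_conjFun_eq_of_constituents K hK χ.2 φ.1.2 ψ.1.2 h1 h2
  symm
  apply Quotient.sound
  show ψ ∈ MulAction.orbit G φ
  refine ⟨g⁻¹, ?_⟩
  apply Subtype.ext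
  apply Subtype.ext
  funext k
  show (φ.1 : K → ℂ) ((conjN K g⁻¹)⁻¹ k) = (ψ.1 : K → ℂ) k
  rw [hg, conjFun_apply]
  refine congrArg _ (Subtype.ext ?_)
  rw [conjN_inv_coe, inv_inv]

/-- uniqueness of the real character above a real character, odd index -/
theorem real_over_unique (hodd : Odd K.index) (φ : RealIrr K) (χ₁ χ₂ : Cfsg.IrrCharacter G)
    (hr1 : RealFun (χ₁ : G → ℂ)) (hr2 : RealFun (χ₂ : G → ℂ))
    (h1 : Cfsg.classInner (fun k : K => (χ₁ : G → ℂ) k) (φ.1 : K → ℂ) ≠ 0)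
    (h2 : Cfsg.classInner (fun k : K => (χ₂ : G → ℂ) k) (φ.1 : K → ℂ) ≠ 0) : χ₁ = χ₂ := by
  classical
  letI a1 := actRealIrr K
  -- existence of real characters above
  have hex : ∀ ψ : RealIrr K, ∃ χ : {χ : Cfsg.IrrCharacter G // RealFun (χ : G → ℂ)},
      Cfsg.classInner (fun k : K => (χ.1 : G → ℂ) k) (ψ.1 : K → ℂ) ≠ 0 := by
    intro ψ
    have hν : fsInd (ψ.1 : K → ℂ) ≠ 0 := by
      rcases fsInd_irr_of_real ψ.1 ((realFun_iff' K _).mp ψ.2) with h | h <;> rw [h] <;> norm_num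
    obtain ⟨χ, hχ1, hχ2⟩ := exists_real_over K hodd ψ.1 hν
    exact ⟨⟨χ, (realFun_iff _).mpr (real_of_fsInd_ne_zero χ hχ1)⟩, hχ2⟩
  let Gm : Quotient (MulAction.orbitRel G (RealIrr K)) →
      {χ : Cfsg.IrrCharacter G // RealFun (χ : G → ℂ)} := fun o => Classical.choose (hex o.out)
  have hGm : ∀ o, Cfsg.classInner (fun k : K => ((Gm o).1 : G → ℂ) k) (o.out.1 : K → ℂ) ≠ 0 :=
    fun o => Classical.choose_spec (hex o.out)
  have hinj : Function.Injective Gm := by
    intro o o' hoo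
    have h3 := hGm o
    have h4 := hGm o'
    rw [← hoo] at h4
    have := orbit_eq_of_over K (Gm o).1 o.out o'.out h3 h4
    rw [Quotient.out_eq, Quotient.out_eq] at this
    exact this
  have hcard : Nat.card {χ : Cfsg.IrrCharacter G // RealFun (χ : G → ℂ)}
      = Nat.card (Quotient (MulAction.orbitRel G (RealIrr K))) := by
    rw [← card_realCls_eq_card_realIrr G, card_realCls_eq_card_orbits K hodd,
      ← card_orbits_eq K hodd]
  haveI : Finite {χ : Cfsg.IrrCharacter G // RealFun (χ : G → ℂ)} := inferInstance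
  have hbij : Function.Bijective Gm :=
    hinj.bijective_of_nat_card_le (le_of_eq hcard)
  -- both characters come from the orbit of φ
  have key : ∀ χ : Cfsg.IrrCharacter G, RealFun (χ : G → ℂ) →
      Cfsg.classInner (fun k : K => (χ : G → ℂ) k) (φ.1 : K → ℂ) ≠ 0 →
      χ = (Gm (Quotient.mk _ φ)).1 := by
    intro χ hr hχ
    obtain ⟨o, ho⟩ := hbij.2 ⟨χ, hr⟩
    have h3 := hGm o
    rw [ho] at h3
    have h5 := orbit_eq_of_over K χ o.out φ h3 hχ
    rw [Quotient.out_eq] at h5
    rw [← h5, ho]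
  rw [key χ₁ hr1 h1, key χ₂ hr2 h2]

end Cfsg.Agent.Lib.Helper8.RealOrb
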