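import Mathlib
import Cfsg.Agent.Lib.Helper6.RvDefs
import Cfsg.Agent.Lib.Helper6.Auto
import Cfsg.Agent.Lib.Helper6.ClassFun
import Cfsg.Agent.Lib.Helper4.SL2Q3
import Cfsg.Agent.Lib.Helper9.RvG3

set_option autoImplicit false
set_option linter.unusedVariables false
set_option linter.unusedSectionVars false
set_option linter.style.longLine false
set_option linter.style.haveILetI false
set_option linter.unusedSimpArgs false

namespace Cfsg.Agent.Lib.Helper6.Rv

open scoped ComplexConjugate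

universe u v

section LA

variable {p : ℕ} [Fact p.Prime] {M : Type v} [AddCommGroup M] [Module (ZMod p) M]

private lemma h8_rv_pow_sub_mem (f : M →ₗ[ZMod p] M) (x : M) (k : ℕ) :
    (f ^ k) x - x ∈ LinearMap.range (f - LinearMap.id) := by
  induction k with
  | zero => simp
  | succ k ih =>
    have : (f ^ (k + 1)) x - x =
        (f - (LinearMap.id : M →ₗ[ZMod p] M)) ((f ^ k) x) + ((f ^ k) x - x) := by
      rw [pow_succ', Module.End.mul_apply]
      simp
    rw [this]
    exact Submodule.add_mem _ (LinearMap.mem_range_self _ _) ih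

/-- decomposition `M = Fix + range (f - 1)` when `f ^ r = 1`, `p ∤ r` -/
private lemma h8_rv_decomp (f : M →ₗ[ZMod p] M) (r : ℕ) (hr : f ^ r = 1) (hrp : ¬ p ∣ r) (x : M) :
    ∃ c : M, f c = c ∧ x - c ∈ LinearMap.range (f - LinearMap.id) := by
  have hr0 : (r : ZMod p) ≠ 0 := by
    rw [Ne, ZMod.natCast_eq_zero_iff]
    exact hrp
  set N : M →ₗ[ZMod p] M := ∑ k ∈ Finset.range r, f ^ k with hN
  have hfN : f * N = N := by
    rw [hN, Finset.mul_sum]
    have h1 : ∑ k ∈ Finset.range r, f * f ^ k = ∑ k ∈ Finset.range r, f ^ (k + 1) :=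
      Finset.sum_congr rfl fun k _ => (pow_succ' f k).symm
    rw [h1]
    have h2 := Finset.sum_range_succ' (fun k => f ^ k) r
    have h3 := Finset.sum_range_succ (fun k => f ^ k) r
    rw [h3] at h2
    simp only [pow_zero, hr] at h2
    exact (add_right_cancel h2).symm
  refine ⟨(r : ZMod p)⁻¹ • N x, ?_, ?_⟩
  · rw [map_smul]
    congr 1
    have := congrArg (fun g : M →ₗ[ZMod p] M => g x) hfN
    simpa [Module.End.mul_apply] using this
  · have h1 : N x - r • x ∈ LinearMap.range (f - LinearMap.id) := by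
      have : N x - r • x = ∑ k ∈ Finset.range r, ((f ^ k) x - x) := by
        rw [Finset.sum_sub_distrib, Finset.sum_const, Finset.card_range, hN, LinearMap.sum_apply]
      rw [this]
      exact Submodule.sum_mem _ fun k _ => h8_rv_pow_sub_mem f x k
    have h2 : x - (r : ZMod p)⁻¹ • N x = (-(r : ZMod p)⁻¹) • (N x - r • x) := by
      rw [smul_sub, ← Nat.cast_smul_eq_nsmul (ZMod p) r x, smul_smul, neg_mul, inv_mul_cancel₀ hr0]
      simp
      abel
    rw [h2]
    exact Submodule.smul_mem _ _ h1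

end LA


section Symp

variable {p : ℕ} [Fact p.Prime] {H : Type u} [Group H] [Finite H] {M : Type v} [AddCommGroup M]
  [Module (ZMod p) M] [Finite M]

private lemma h8_rv_conj_eq (D : SympData p H M) (b a : Heis D) (h : H) :
    (SemidirectProduct.inl b : Gam D) * (SemidirectProduct.inl a * SemidirectProduct.inr h) *
      (SemidirectProduct.inl b)⁻¹ =
    SemidirectProduct.inl (b * a * Heis.act D h b⁻¹) * SemidirectProduct.inr h := by
  apply SemidirectProduct.ext
  · simp
  · simp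

private lemma h8_rv_conj (D : SympData p H M) {Ψ : Gam D → ℂ}
    (hΨ : Cfsg.IsClassFunction (Gam D) Ψ) (b a : Heis D) (h : H) :
    Ψ (SemidirectProduct.inl (b * a * Heis.act D h b⁻¹) * SemidirectProduct.inr h) =
      Ψ (SemidirectProduct.inl a * SemidirectProduct.inr h) := by
  rw [← h8_rv_conj_eq]
  exact hΨ _ _

private lemma h8_rv_central (D : SympData p H M) (t : ZMod p) :
    (SemidirectProduct.inl (⟨0, t⟩ : Heis D) : Gam D) ∈ Subgroup.center (Gam D) := by
  rw [Subgroup.mem_center_iff]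
  intro g
  apply SemidirectProduct.ext
  · simp only [SemidirectProduct.mul_left, SemidirectProduct.left_inl, SemidirectProduct.right_inl,
      map_one, MulAut.one_apply]
    apply Heis.ext
    · simp
    · simp [add_comm]
  · simp


private lemma h8_rv_pow_ne_one {c : ℂ} (hc1 : c ≠ 1) (hcp : c ^ p = 1) {k : ℕ} (hk0 : 0 < k)
    (hkp : k < p) : c ^ k ≠ 1 := by
  intro hk
  have hp : p.Prime := Fact.out
  have h1 : orderOf c ∣ k := orderOf_dvd_of_pow_eq_one hk
  have h2 : orderOf c ∣ p := orderOf_dvd_of_pow_eq_one hcp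
  have hcop : Nat.Coprime k p :=
    ((Nat.Prime.coprime_iff_not_dvd hp).mpr (Nat.not_dvd_of_pos_of_lt hk0 hkp)).symm
  have h3 : orderOf c ∣ 1 := by
    have := Nat.dvd_gcd h1 h2
    rwa [hcop] at this
  exact hc1 (orderOf_eq_one_iff.mp (Nat.dvd_one.mp h3))

/-- the central element `(0,t)` acts by a scalar of absolute value one, nontrivial for `t ≠ 0` -/
private lemma h8_rv_scalar (D : SympData p H M)
    {Φ : Heis D → ℂ} {c : ℂ} {n : ℕ} (hΦ : HeisIrr D Φ c n) {Ψ : Gam D → ℂ}
    (hΨ : CanonExt D Φ Ψ) (t : ZMod p) :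
    ∃ ct : ℂ, ‖ct‖ = 1 ∧ (t ≠ 0 → ct ≠ 1) ∧
      ∀ g : Gam D, Ψ (SemidirectProduct.inl (⟨0, t⟩ : Heis D) * g) = ct * Ψ g := by
  have : Finite (Gam D) := Finite.of_equiv _ SemidirectProduct.equivProd.symm
  obtain ⟨ct, hct, hmul⟩ := Cfsg.Agent.Lib.Helper4.apply_center_mul hΨ.irr (h8_rv_central D t)
  have hn0 : (n : ℂ) ≠ 0 := by
    have hM : 0 < Nat.card M := Nat.card_pos
    have : n ≠ 0 := by
      rintro rfl
      have := hΦ.deg
      simp at this
      omega
    exact_mod_cast this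
  have h1 := hmul 1
  rw [mul_one, hΨ.ext] at h1
  have h11 : Ψ 1 = (n : ℂ) := by
    have : (1 : Gam D) = SemidirectProduct.inl (1 : Heis D) := (map_one _).symm
    rw [this, hΨ.ext]
    have := hΦ.cen 0
    have h0 : (⟨0, 0⟩ : Heis D) = 1 := rfl
    rw [h0] at this
    simpa using this
  rw [hΦ.cen t, h11] at h1
  have hval : ct = c ^ t.val := by
    have : (n : ℂ) * c ^ t.val = (n : ℂ) * ct := by rw [h1]; ring
    exact (mul_left_cancel₀ hn0 this).symm
  refine ⟨ct, ?_, ?_, hmul⟩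
  · have h2 : ‖ct‖ ^ 2 = 1 := by
      have : ((‖ct‖ ^ 2 : ℝ) : ℂ) = 1 := by
        rw [← hct, mul_comm, Complex.mul_conj, Complex.normSq_eq_norm_sq]
      exact_mod_cast this
    have h3 : 0 ≤ ‖ct‖ := norm_nonneg _
    nlinarith
  · intro ht
    rw [hval]
    have : NeZero p := ⟨(Fact.out : p.Prime).ne_zero⟩
    apply h8_rv_pow_ne_one hΦ.hc1 hΦ.hcp
    · exact Nat.pos_of_ne_zero fun h0 => ht ((ZMod.val_eq_zero t).mp h0)
    · exact ZMod.val_lt t


private lemma h8_rv_pow_rho (D : SympData p H M) (h : H) : (D.ρ h) ^ orderOf h = 1 := by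
  rw [← map_pow, pow_orderOf_eq_one, map_one]

private lemma h8_rv_not_dvd (hcop : ¬ p ∣ Nat.card H) (h : H) : ¬ p ∣ orderOf h :=
  fun hd => hcop (hd.trans (orderOf_dvd_natCard h))

/-- conjugating by `(w,0)` -/
private lemma h8_rv_conj_x (D : SympData p H M) {Ψ : Gam D → ℂ}
    (hΨ : Cfsg.IsClassFunction (Gam D) Ψ) (w x : M) (s : ZMod p) (h : H) :
    ∃ s' : ZMod p, Ψ (SemidirectProduct.inl (⟨x, s⟩ : Heis D) * SemidirectProduct.inr h) =
      Ψ (SemidirectProduct.inl (⟨x - (D.ρ h w - w), s'⟩ : Heis D) * SemidirectProduct.inr h) := by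
  refine ⟨((⟨w, 0⟩ : Heis D) * ⟨x, s⟩ * Heis.act D h (⟨w, 0⟩ : Heis D)⁻¹).s, ?_⟩
  rw [← h8_rv_conj D hΨ ⟨w, 0⟩ ⟨x, s⟩ h]
  congr 3
  apply Heis.ext
  · simp
    abel
  · rfl

/-- vanishing at fixed nonzero vectors -/
private lemma h8_rv_vanish (hp2 : p ≠ 2) (hcop : ¬ p ∣ Nat.card H) (D : SympData p H M)
    {Φ : Heis D → ℂ} {c : ℂ} {n : ℕ} (hΦ : HeisIrr D Φ c n) {Ψ : Gam D → ℂ}
    (hΨ : CanonExt D Φ Ψ) (h : H) (cf : M) (hcf : D.ρ h cf = cf) (hne : cf ≠ 0) (s : ZMod p) :
    Ψ (SemidirectProduct.inl (⟨cf, s⟩ : Heis D) * SemidirectProduct.inr h) = 0 := by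
  have : Finite (Gam D) := Finite.of_equiv _ SemidirectProduct.equivProd.symm
  have hcl : Cfsg.IsClassFunction (Gam D) Ψ := Cfsg.Agent.Lib.Helper6.IsIrrCharacter.isClassFunction hΨ.irr
  -- a fixed `y` with `A y cf ≠ 0`
  obtain ⟨y, hy, hyA⟩ : ∃ y : M, D.ρ h y = y ∧ D.A y cf ≠ 0 := by
    by_contra hcon
    push Not at hcon
    apply hne
    apply D.nd
    intro y
    rw [D.skew, neg_eq_zero]
    obtain ⟨yc, hyc, hyi⟩ := h8_rv_decomp (D.ρ h) (orderOf h) (h8_rv_pow_rho D h)
      (h8_rv_not_dvd hcop h) y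
    obtain ⟨w, hw⟩ := hyi
    have hy : y = yc + (D.ρ h w - w) := by
      simp only [LinearMap.sub_apply, LinearMap.id_apply] at hw
      rw [hw]; abel
    rw [hy, map_add, LinearMap.add_apply, hcon yc hyc, zero_add, map_sub, LinearMap.sub_apply]
    have : D.A (D.ρ h w) cf = D.A w cf := by
      conv_lhs => rw [← hcf]
      exact D.inv h w cf
    rw [this, sub_self]
  obtain ⟨ct, _, hct1, hmul⟩ := h8_rv_scalar D hΦ hΨ (D.A y cf)
  have h2 : (2 : ZMod p) ≠ 0 := by
    have hp : p.Prime := Fact.out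
    intro h20
    have : ((2 : ℕ) : ZMod p) = 0 := by exact_mod_cast h20
    rw [ZMod.natCast_eq_zero_iff] at this
    exact hp2 ((Nat.prime_dvd_prime_iff_eq hp Nat.prime_two).mp this)
  have hconj := h8_rv_conj D hcl ⟨y, 0⟩ ⟨cf, s⟩ h
  have hprod : (⟨y, 0⟩ : Heis D) * ⟨cf, s⟩ * Heis.act D h (⟨y, 0⟩ : Heis D)⁻¹ =
      (⟨0, D.A y cf⟩ : Heis D) * ⟨cf, s⟩ := by
    apply Heis.ext
    · simp [hy]
    · simp only [Heis.mul_s, Heis.mul_x, Heis.act_x, Heis.act_s, Heis.inv_x, Heis.inv_s, map_neg, hy,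
        map_add, LinearMap.add_apply, LinearMap.neg_apply, D.alt, neg_zero, zero_add, add_zero,
        map_zero, LinearMap.zero_apply, mul_zero]
      rw [D.skew cf y]
      have hinv : (2 : ZMod p)⁻¹ * 2 = 1 := inv_mul_cancel₀ h2
      linear_combination (D.A y cf) * hinv
  rw [hprod, map_mul, mul_assoc, hmul] at hconj
  have hne1 := hct1 hyA
  have : (ct - 1) * Ψ (SemidirectProduct.inl (⟨cf, s⟩ : Heis D) * SemidirectProduct.inr h) = 0 := by
    rw [sub_mul, hconj]; ring
  rcases mul_eq_zero.mp this with h0 | h0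
  · exact absurd (sub_eq_zero.mp h0) hne1
  · exact h0


/-- C5: the absolute value of the canonical extension on `H` -/
theorem CanonExt.norm_sq (hp2 : p ≠ 2) (hcop : ¬ p ∣ Nat.card H) (D : SympData p H M)
    {Φ : Heis D → ℂ} {c : ℂ} {n : ℕ} (hΦ : HeisIrr D Φ c n) {Ψ : Gam D → ℂ}
    (hΨ : CanonExt D Φ Ψ) (h : H) :
    ‖Ψ (SemidirectProduct.inr h)‖ ^ 2 = (Nat.card {x : M // D.ρ h x = x} : ℝ) := by
  classical
  have hNZ : NeZero p := ⟨(Fact.out : p.Prime).ne_zero⟩
  have hfinG : Finite (Gam D) := Finite.of_equiv _ SemidirectProduct.equivProd.symm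
  letI : Fintype (Gam D) := Fintype.ofFinite _
  letI : Fintype M := Fintype.ofFinite _
  letI : Fintype (Heis D) := Fintype.ofFinite _
  have hcl : Cfsg.IsClassFunction (Gam D) Ψ :=
    Cfsg.Agent.Lib.Helper6.IsIrrCharacter.isClassFunction hΨ.irr
  set I : Submodule (ZMod p) M := LinearMap.range (D.ρ h - LinearMap.id) with hI
  set v : ℝ := ‖Ψ (SemidirectProduct.inr h)‖ ^ 2 with hv
  -- values
  have hval : ∀ (x : M) (s : ZMod p),
      ‖Ψ (SemidirectProduct.inl (⟨x, s⟩ : Heis D) * SemidirectProduct.inr h)‖ ^ 2 =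
        if x ∈ I then v else 0 := by
    intro x s
    split_ifs with hx
    · obtain ⟨w, hw⟩ := hx
      simp only [LinearMap.sub_apply, LinearMap.id_apply] at hw
      obtain ⟨s', hs'⟩ := h8_rv_conj_x D hcl w x s h
      have hx0 : x - (D.ρ h w - w) = 0 := by rw [hw]; abel
      rw [hs', hx0]
      obtain ⟨ct, hct, _, hmul⟩ := h8_rv_scalar D hΦ hΨ s'
      rw [hmul, norm_mul, hct, one_mul]
    · obtain ⟨cf, hcf, hi⟩ := h8_rv_decomp (D.ρ h) (orderOf h) (h8_rv_pow_rho D h)
        (h8_rv_not_dvd hcop h) x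
      obtain ⟨w, hw⟩ := hi
      simp only [LinearMap.sub_apply, LinearMap.id_apply] at hw
      obtain ⟨s', hs'⟩ := h8_rv_conj_x D hcl w x s h
      have hxc : x - (D.ρ h w - w) = cf := by rw [hw]; abel
      have hne : cf ≠ 0 := by
        rintro rfl
        apply hx
        refine ⟨w, ?_⟩
        simp only [LinearMap.sub_apply, LinearMap.id_apply]
        rw [hw]; abel
      rw [hs', hxc, h8_rv_vanish hp2 hcop D hΦ hΨ h cf hcf hne s']
      simp
  -- G3
  let N : Subgroup (Gam D) := (SemidirectProduct.inl : Heis D →* Gam D).range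
  have hN : N.Normal := by
    show (SemidirectProduct.inl : Heis D →* Gam D).range.Normal
    rw [SemidirectProduct.range_inl_eq_ker_rightHom]
    infer_instance
  letI : Fintype N := Fintype.ofFinite _
  let e : Heis D ≃* N := MonoidHom.ofInjective SemidirectProduct.inl_injective
  have he : ∀ a : Heis D, ((e a : N) : Gam D) = SemidirectProduct.inl a := fun a => rfl
  have hres : Cfsg.IsIrrCharacter N (fun n : N => Ψ n) := by
    have h1 := Cfsg.Agent.Lib.Helper6.IsIrrCharacter.comp_mulEquiv e.symm hΦ.irr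
    have h2 : (fun n : N => Ψ n) = fun n : N => Φ (e.symm n) := by
      funext n
      obtain ⟨a, rfl⟩ := e.surjective n
      rw [he, hΨ.ext, MulEquiv.symm_apply_apply]
    rw [h2]
    exact h1
  have hG3 := sum_coset_norm_sq N hΨ.irr hres (SemidirectProduct.inr h)
  have hsum : ∑ a : Heis D,
      ‖Ψ (SemidirectProduct.inl a * SemidirectProduct.inr h)‖ ^ 2 = (Nat.card (Heis D) : ℝ) := by
    rw [Nat.card_congr e.toEquiv, ← hG3]
    exact Fintype.sum_equiv e.toEquiv _ _ (fun a => rfl)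
  -- evaluate the sum
  have hsum2 : ∑ a : Heis D,
      ‖Ψ (SemidirectProduct.inl a * SemidirectProduct.inr h)‖ ^ 2 =
        (p : ℝ) * (Nat.card I : ℝ) * v := by
    rw [← Fintype.sum_equiv (Heis.equivProd D).symm
      (fun y : M × ZMod p => ‖Ψ (SemidirectProduct.inl ((Heis.equivProd D).symm y) *
        SemidirectProduct.inr h)‖ ^ 2) _ (fun y => rfl)]
    rw [Fintype.sum_prod_type]
    have : ∀ x : M, ∑ s : ZMod p, ‖Ψ (SemidirectProduct.inl ((Heis.equivProd D).symm (x, s)) *
        SemidirectProduct.inr h)‖ ^ 2 = if x ∈ I then (p : ℝ) * v else 0 := by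
      intro x
      have : ∀ s : ZMod p, ‖Ψ (SemidirectProduct.inl ((Heis.equivProd D).symm (x, s)) *
        SemidirectProduct.inr h)‖ ^ 2 = if x ∈ I then v else 0 := fun s => hval x s
      rw [Finset.sum_congr rfl fun s _ => this s]
      split_ifs
      · simp [ZMod.card]
      · simp
    rw [Finset.sum_congr rfl fun x _ => this x, Finset.sum_ite, Finset.sum_const, Finset.sum_const]
    simp only [smul_zero, add_zero, nsmul_eq_mul]
    have hcardI : (Finset.univ.filter (fun x : M => x ∈ I)).card = Nat.card I := by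
      rw [Nat.card_eq_fintype_card, Fintype.card_subtype]
    rw [hcardI]
    ring
  -- cardinalities
  have hcardH : Nat.card (Heis D) = p * Nat.card M := by
    rw [Nat.card_congr (Heis.equivProd D), Nat.card_prod, Nat.card_zmod, mul_comm]
  have hrn : Nat.card {x : M // D.ρ h x = x} * Nat.card I = Nat.card M := by
    have h1 := Submodule.card_eq_card_quotient_mul_card (LinearMap.ker (D.ρ h - LinearMap.id))
    have h2 : Nat.card (M ⧸ LinearMap.ker (D.ρ h - LinearMap.id)) = Nat.card I :=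
      Nat.card_congr (LinearMap.quotKerEquivRange (D.ρ h - LinearMap.id)).toEquiv
    have h3 : Nat.card (LinearMap.ker (D.ρ h - LinearMap.id)) = Nat.card {x : M // D.ρ h x = x} := by
      apply Nat.card_congr
      apply Equiv.subtypeEquivRight
      intro x
      simp [LinearMap.mem_ker, sub_eq_zero]
    rw [h1, h2, h3]
  have hIpos : (0 : ℝ) < (Nat.card I : ℝ) := by exact_mod_cast Nat.card_pos
  have hppos : (0 : ℝ) < (p : ℝ) := by exact_mod_cast (Fact.out : p.Prime).pos
  have key : (p : ℝ) * (Nat.card I : ℝ) * v = (p : ℝ) * ((Nat.card {x : M // D.ρ h x = x} : ℝ) * (Nat.card I : ℝ)) := by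
    rw [← hsum2, hsum, hcardH]
    push_cast
    rw [← hrn]
    push_cast
    ring
  have : (p : ℝ) * (Nat.card I : ℝ) * (v - (Nat.card {x : M // D.ρ h x = x} : ℝ)) = 0 := by
    rw [mul_sub, key]; ring
  rcases mul_eq_zero.mp this with h0 | h0
  · exact absurd h0 (mul_pos hppos hIpos).ne'
  · linarith

end Symp

end Cfsg.Agent.Lib.Helper6.Rv
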