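import Mathlib
import Cfsg.Prelude.Def_Solvable
import Cfsg.Agent.Lib.Helper1.ClassTwo
import Cfsg.Agent.Lib.Helper1.PCore
import Cfsg.Agent.Lib.Helper1.Index
import Cfsg.Agent.Lib.Helper1.Nilpotent

/-! Elements of order `p` (or `4`) with `p`-power class size: preliminaries. -/
set_option autoImplicit false
open scoped commutatorElement
universe u

namespace Cfsg.Agent.Lib.Helper8.K7

open Cfsg.Agent.Lib.Helper1

/-- `a` has order dividing `p`, or `p = 2` and order dividing `4` -/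
def Om (p : ℕ) {D : Type*} [Monoid D] (a : D) : Prop := a ^ p = 1 ∨ (p = 2 ∧ a ^ 4 = 1)

theorem om_one (p : ℕ) {D : Type*} [Monoid D] : Om p (1 : D) := Or.inl (one_pow p)

theorem om_inv {p : ℕ} {D : Type*} [Group D] {a : D} (h : Om p a) : Om p a⁻¹ := by
  rcases h with h | ⟨h2, h⟩
  · left; rw [inv_pow, h, inv_one]
  · right; exact ⟨h2, by rw [inv_pow, h, inv_one]⟩

theorem om_conj {p : ℕ} {D : Type*} [Group D] {a : D} (g : D) (h : Om p a) :
    Om p (g * a * g⁻¹) := by
  rcases h with h | ⟨h2, h⟩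
  · left; rw [conj_pow, h]; group
  · right; exact ⟨h2, by rw [conj_pow, h]; group⟩

theorem om_mul {p : ℕ} (hp : p.Prime) {D : Type u} [Group D] (h : CommCentral D)
    (hpow : ∀ x y : D, ⁅y, x⁆ ^ p = 1) {x y : D} (hx : Om p x) (hy : Om p y) :
    Om p (x * y) := by
  by_cases hp2 : p = 2
  · subst hp2
    have h4 : ∀ z : D, Om 2 z → z ^ 4 = 1 := by
      intro z hz
      rcases hz with hz | ⟨-, hz⟩
      · rw [show 4 = 2 * 2 from rfl, pow_mul, hz, one_pow]
      · exact hz
    right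
    refine ⟨rfl, ?_⟩
    rw [h.mul_pow_eq, h4 x hx, h4 y hy, one_mul, one_mul]
    have e : Nat.choose 4 2 = 2 * 3 := by decide
    rw [e, pow_mul, hpow, one_pow]
  · have hxp : x ^ p = 1 := by
      rcases hx with hx | ⟨h2, -⟩
      · exact hx
      · exact absurd h2 hp2
    have hyp : y ^ p = 1 := by
      rcases hy with hy | ⟨h2, -⟩
      · exact hy
      · exact absurd h2 hp2
    left
    rw [h.mul_pow_prime_eq hp hp2 x y (hpow x y), hxp, hyp, one_mul]

/-- Wielandt: a `p`-element with `p`-power class size lies in `O_p(G)`. -/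
theorem mem_pCore_of_ppower_index {G : Type*} [Group G] [Finite G] {p : ℕ} [hp : Fact p.Prime]
    (x : G) (k : ℕ) (hxk : orderOf x = p ^ k) (a : ℕ)
    (hxa : (Subgroup.centralizer ({x} : Set G)).index = p ^ a) : x ∈ Cfsg.pCore p G := by
  have hxp : IsPGroup p (Subgroup.zpowers x) := by
    apply IsPGroup.of_card (n := k); rw [Nat.card_zpowers]; exact hxk
  obtain ⟨S, hS⟩ := hxp.exists_le_sylow
  have hxS : x ∈ (S : Subgroup G) := hS (Subgroup.mem_zpowers x)
  have hSC : ∀ g : G, ∃ s ∈ (S : Subgroup G), ∃ c ∈ Subgroup.centralizer ({x} : Set G),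
      g = s * c := by
    apply Cfsg.Agent.Lib.Helper1.mul_eq_of_coprime_index
    rw [hxa]; apply Nat.Coprime.pow_right
    apply Nat.Coprime.symm; rw [hp.out.coprime_iff_not_dvd]; exact S.not_dvd_index
  have hRS : Subgroup.normalClosure ({x} : Set G) ≤ (S : Subgroup G) := by
    rw [Subgroup.normalClosure, Subgroup.closure_le]
    intro w hw
    rw [Group.mem_conjugatesOfSet_iff] at hw
    obtain ⟨x', hx', hw⟩ := hw
    rw [Set.mem_singleton_iff] at hx'; subst hx'
    rw [isConj_iff] at hw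
    obtain ⟨g, rfl⟩ := hw
    obtain ⟨s, hs, c, hc, rfl⟩ := hSC g
    rw [Subgroup.mem_centralizer_singleton_iff] at hc
    have e : s * c * x' * (s * c)⁻¹ = s * x' * s⁻¹ := by
      rw [mul_inv_rev, mul_assoc s c x', hc]; group
    rw [SetLike.mem_coe, e]
    exact Subgroup.mul_mem _ (Subgroup.mul_mem _ hs hxS) (Subgroup.inv_mem _ hs)
  have hRp : IsPGroup p (Subgroup.normalClosure ({x} : Set G)) := S.2.to_le hRS
  exact le_pCore Subgroup.normalClosure_normal hRp
    (Subgroup.subset_normalClosure (Set.mem_singleton x))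

/-- A nontrivial normal `p`-subgroup all of whose elements have `p`-power class size contains a
nontrivial central element. -/
theorem exists_central {G : Type*} [Group G] [Finite G] {p : ℕ} [hp : Fact p.Prime]
    (E : Subgroup G) [hEn : E.Normal] (hEp : IsPGroup p E) (hE : E ≠ ⊥)
    (hidx : ∀ a ∈ E, ∃ k : ℕ, (Subgroup.centralizer ({a} : Set G)).index = p ^ k) :
    ∃ z ∈ E, z ≠ 1 ∧ z ∈ Subgroup.center G := by
  obtain ⟨S, hES⟩ := hEp.exists_le_sylow
  haveI : Group.IsNilpotent (S : Subgroup G) := S.2.isNilpotent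
  haveI : (E.subgroupOf (S : Subgroup G)).Normal := Subgroup.Normal.subgroupOf hEn _
  have hne : E.subgroupOf (S : Subgroup G) ≠ ⊥ := by
    intro h
    apply hE
    rw [Subgroup.subgroupOf_eq_bot] at h
    rw [eq_bot_iff]
    intro e he
    exact (Subgroup.disjoint_def.1 h) he (hES he) ▸ Subgroup.mem_bot.2 rfl
  have h1 := normal_inf_center_ne_bot (E.subgroupOf (S : Subgroup G)) hne
  obtain ⟨⟨z', hz'⟩, hz'1⟩ := (Subgroup.ne_bot_iff_exists_ne_one).1 h1
  obtain ⟨hz'E, hz'c⟩ := Subgroup.mem_inf.1 hz'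
  have hzE : (z' : G) ∈ E := Subgroup.mem_subgroupOf.1 hz'E
  have hz1 : (z' : G) ≠ 1 := by
    intro h
    apply hz'1
    apply Subtype.ext
    apply Subtype.ext
    exact h
  refine ⟨(z' : G), hzE, hz1, ?_⟩
  have hSle : (S : Subgroup G) ≤ Subgroup.centralizer ({(z' : G)} : Set G) := by
    intro s hs
    rw [Subgroup.mem_centralizer_singleton_iff]
    have := Subgroup.mem_center_iff.1 hz'c ⟨s, hs⟩
    exact congrArg Subtype.val this
  obtain ⟨k, hk⟩ := hidx _ hzE
  have hdvd : p ^ k ∣ (S : Subgroup G).index := hk ▸ Subgroup.index_dvd_of_le hSle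
  have hk0 : k = 0 := by
    by_contra hk0
    exact S.not_dvd_index ((dvd_pow_self p hk0).trans hdvd)
  rw [hk0, pow_zero, Subgroup.index_eq_one] at hk
  rw [Subgroup.mem_center_iff]
  intro g
  have : g ∈ Subgroup.centralizer ({(z' : G)} : Set G) := by rw [hk]; trivial
  rw [Subgroup.mem_centralizer_singleton_iff] at this
  exact this

theorem card_eq_inf_mul_map {Y : Type*} [Group Y] [Finite Y] (A U : Subgroup Y)
    [U.Normal] : Nat.card A = Nat.card ↥(A ⊓ U) * Nat.card ↥(A.map (QuotientGroup.mk' U)) := by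
  obtain ⟨f, hf⟩ : ∃ f : ↥A →* Y ⧸ U, f = (QuotientGroup.mk' U).comp A.subtype := ⟨_, rfl⟩
  have h1 := Subgroup.card_eq_card_quotient_mul_card_subgroup f.ker
  have h2 : Nat.card (↥A ⧸ f.ker) = Nat.card ↥f.range :=
    Nat.card_congr (QuotientGroup.quotientKerEquivRange f).toEquiv
  have h3 : f.range = A.map (QuotientGroup.mk' U) := by
    rw [hf, MonoidHom.range_comp, Subgroup.range_subtype]
  have h4 : f.ker = U.subgroupOf A := by
    rw [hf, ← MonoidHom.comap_ker, QuotientGroup.ker_mk']; rfl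
  have h5 : Nat.card ↥(U.subgroupOf A) = Nat.card ↥(A ⊓ U) := by
    rw [← Subgroup.inf_subgroupOf_left]
    exact Nat.card_congr (Subgroup.subgroupOfEquivOfLe inf_le_left).toEquiv
  rw [h1, h2, h3, h4, h5, mul_comm]

/-- If every element of the normal `p`-subgroup `E` has `p`-power class size, every `p'`-element
centralizes `E`. -/
theorem centralizes_aux : ∀ (n : ℕ) (G : Type u) [Group G] [Finite G] (p : ℕ) [Fact p.Prime]
    (E : Subgroup G) [E.Normal], Nat.card E = n → IsPGroup p E →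
    (∀ a ∈ E, ∃ k : ℕ, (Subgroup.centralizer ({a} : Set G)).index = p ^ k) →
    ∀ g : G, (orderOf g).Coprime p → ∀ a ∈ E, g * a = a * g := by
  intro n
  induction n using Nat.strong_induction_on with
  | _ n ih =>
  intro G _ _ p hpF E hEn hn hEp hidx g hg a ha
  by_cases hE : E = ⊥
  · rw [hE, Subgroup.mem_bot] at ha; rw [ha]; simp
  obtain ⟨z, hzE, hz1, hzc⟩ := exists_central E hEp hE hidx
  obtain ⟨Z, hZ⟩ : ∃ Z : Subgroup G, Z = Subgroup.zpowers z := ⟨_, rfl⟩
  have hZc : Z ≤ Subgroup.center G := by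
    rw [hZ, Subgroup.zpowers_le]; exact hzc
  have hZE : Z ≤ E := by rw [hZ, Subgroup.zpowers_le]; exact hzE
  haveI hZn : Z.Normal :=
    ⟨fun n hn g => by
      rw [(Subgroup.mem_center_iff.1 (hZc hn) g), mul_inv_cancel_right]; exact hn⟩
  have hZcard : 2 ≤ Nat.card Z := by
    rw [hZ, Nat.card_zpowers]
    have h1 : orderOf z ≠ 1 := by rwa [Ne, orderOf_eq_one_iff]
    have h0 : 0 < orderOf z := orderOf_pos z
    omega
  haveI hEn' : (E.map (QuotientGroup.mk' Z)).Normal :=
    Subgroup.Normal.map hEn _ (QuotientGroup.mk'_surjective Z)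
  have hcard : Nat.card (E.map (QuotientGroup.mk' Z)) < n := by
    have h1 := card_eq_inf_mul_map E Z
    rw [inf_eq_right.2 hZE, hn] at h1
    have hpos : 0 < Nat.card (E.map (QuotientGroup.mk' Z)) := Nat.card_pos
    nlinarith
  have hidx' : ∀ b ∈ E.map (QuotientGroup.mk' Z), ∃ k : ℕ,
      (Subgroup.centralizer ({b} : Set (G ⧸ Z))).index = p ^ k := by
    rintro _ ⟨b, hb, rfl⟩
    obtain ⟨k, hk⟩ := hidx b hb
    have hle : (Subgroup.centralizer ({b} : Set G)).map (QuotientGroup.mk' Z) ≤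
        Subgroup.centralizer ({QuotientGroup.mk' Z b} : Set (G ⧸ Z)) := by
      rintro _ ⟨c, hc, rfl⟩
      have hc : c ∈ Subgroup.centralizer ({b} : Set G) := hc
      rw [Subgroup.mem_centralizer_singleton_iff] at hc ⊢
      rw [← map_mul, ← map_mul, hc]
    have h1 : (Subgroup.centralizer ({QuotientGroup.mk' Z b} : Set (G ⧸ Z))).index ∣ p ^ k := by
      rw [← hk]
      exact (Subgroup.index_dvd_of_le hle).trans
        (Subgroup.index_map_dvd _ (QuotientGroup.mk'_surjective Z))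
    obtain ⟨j, -, hj⟩ := (Nat.dvd_prime_pow hpF.out).1 h1
    exact ⟨j, hj⟩
  have hg' : (orderOf (QuotientGroup.mk' Z g)).Coprime p :=
    Nat.Coprime.coprime_dvd_left (orderOf_map_dvd _ g) hg
  have hQ := ih _ hcard (G ⧸ Z) p (E.map (QuotientGroup.mk' Z)) rfl (hEp.map _) hidx'
    (QuotientGroup.mk' Z g) hg' (QuotientGroup.mk' Z a) (Subgroup.mem_map_of_mem _ ha)
  obtain ⟨c, hc⟩ : ∃ c : G, c = g * a * g⁻¹ * a⁻¹ := ⟨_, rfl⟩
  have hcZ : c ∈ Z := by
    rw [← QuotientGroup.eq_one_iff, hc]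
    have h1 : ((g * a * g⁻¹ * a⁻¹ : G) : G ⧸ Z) =
        (QuotientGroup.mk' Z g) * (QuotientGroup.mk' Z a) * (QuotientGroup.mk' Z g)⁻¹ *
          (QuotientGroup.mk' Z a)⁻¹ := by
      simp
    rw [h1, hQ]; group
  have hcc : ∀ y : G, y * c = c * y := fun y => Subgroup.mem_center_iff.1 (hZc hcZ) y
  have hga : g * a * g⁻¹ = a * c := by
    rw [hcc a, hc]; group
  have key : ∀ k : ℕ, g ^ k * a * (g ^ k)⁻¹ = a * c ^ k := by
    intro k
    induction k with
    | zero => simp
    | succ k ihk =>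
      have e1 : g ^ (k + 1) * a * (g ^ (k + 1))⁻¹ = g * (g ^ k * a * (g ^ k)⁻¹) * g⁻¹ := by
        rw [pow_succ']; group
      rw [e1, ihk]
      have e2 : g * (a * c ^ k) * g⁻¹ = (g * a * g⁻¹) * (g * c ^ k * g⁻¹) := by group
      have e3 : g * c ^ k * g⁻¹ = c ^ k := by
        have : g * c ^ k = c ^ k * g := ((Commute.pow_right (hcc g) k)).eq
        rw [this]; group
      rw [e2, e3, hga, mul_assoc, ← pow_succ']
  have h1 := key (orderOf g)
  rw [pow_orderOf_eq_one] at h1
  have h2 : c ^ orderOf g = 1 := by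
    have : a * 1 = a * c ^ orderOf g := by simpa using h1
    exact (mul_left_cancel this).symm
  have h3 : orderOf c ∣ orderOf g := orderOf_dvd_of_pow_eq_one h2
  obtain ⟨j, hj⟩ := (IsPGroup.iff_orderOf.1 hEp) ⟨c, hZE hcZ⟩
  rw [Subgroup.orderOf_mk] at hj
  have h4 : orderOf c = 1 := by
    have h5 : (orderOf c).Coprime (orderOf c) :=
      Nat.Coprime.coprime_dvd_left h3 (by rw [hj]; exact hg.pow_right j)
    exact (Nat.coprime_self _).1 h5
  rw [orderOf_eq_one_iff] at h4
  rw [h4, mul_one] at hga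
  calc g * a = (g * a * g⁻¹) * g := by group
    _ = a * g := by rw [hga]

end Cfsg.Agent.Lib.Helper8.K7
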