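import Mathlib
import Cfsg.Prelude.Def_Characters
import Cfsg.Prelude.Def_Blocks
import Cfsg.Agent.Lib.Helper6.QuotChar
import Cfsg.Agent.Lib.Helper6.Norm
import Cfsg.Agent.Lib.Helper6.Multiplicity
import Cfsg.Agent.Lib.Helper6.Constituent
import Cfsg.Agent.Lib.Helper6.CharMisc
import Cfsg.Agent.Lib.Helper6.CharOps
import Cfsg.Agent.Lib.Helper6.BlkNormalP
import Cfsg.Agent.Lib.Helper6.IrrBasis
import Cfsg.Agent.Lib.Helper6.IndFun
import Cfsg.Agent.Lib.Helper6.Mult
import Cfsg.Agent.Lib.Helper6.Orthogonality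
import Cfsg.Agent.Lib.Helper3.Gagola
import Cfsg.Agent.Lib.Helper3.CharQuot
import Cfsg.Agent.S0146

set_option autoImplicit false

/-! # Broline–Garrison: the basic lemma on maximal subgroups not containing a kernel -/

namespace Cfsg.Agent.Lib.Helper8.BG

open Cfsg Cfsg.Agent.Lib.Helper6
open scoped ComplexConjugate

variable {G : Type*} [Group G] [Fintype G]

/-- Averaging a `K`-invariant function over a supplement `M` of the normal subgroup `K`. -/
theorem sum_eq_index_mul_sum (K M : Subgroup G) [hKn : K.Normal] [Fintype M] (hKM : K ⊔ M = ⊤)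
    (f : G → ℂ) (hf : ∀ k ∈ K, ∀ g, f (k * g) = f g) :
    ∑ g : G, f g = (M.index : ℂ) * ∑ m : M, f m := by
  classical
  haveI : Fintype (G ⧸ M) := Fintype.ofFinite _
  rw [← Equiv.sum_comp (cosetEquiv M) f, Fintype.sum_prod_type]
  have h1 : ∀ q : G ⧸ M, ∑ z : M, f (cosetEquiv M (q, z)) = ∑ m : M, f m := by
    intro q
    have hq : q.out ∈ K ⊔ M := by rw [hKM]; trivial
    rw [Subgroup.mem_sup_of_normal_left] at hq
    obtain ⟨k, hk, m', hm', hkm⟩ := hq
    rw [← Equiv.sum_comp (Equiv.mulLeft (⟨m', hm'⟩ : M)) (fun m : M => f m)]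
    apply Finset.sum_congr rfl
    intro z _
    change f (q.out * (z : G)) = f (((⟨m', hm'⟩ : M) * z : M) : G)
    rw [← hkm, mul_assoc, hf k hk]
    rfl
  rw [Finset.sum_congr rfl (fun q _ => h1 q), Finset.sum_const, Finset.card_univ, nsmul_eq_mul,
    Subgroup.index_eq_card, Nat.card_eq_fintype_card]

/-- If `G = K M` with `K` in the kernel of the irreducible `χ`, then `χ` restricts irreducibly
to `M`. -/
theorem isIrrCharacter_restrict_of_sup_eq_top {χ : G → ℂ} (hχ : IsIrrCharacter G χ)
    (K M : Subgroup G) [K.Normal] [Fintype M] (hK : ∀ k ∈ K, χ k = χ 1) (hKM : K ⊔ M = ⊤) :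
    IsIrrCharacter M (fun m : M => χ m) := by
  classical
  have hc := IsIrrCharacter.isCharacter hχ
  apply isIrrCharacter_of_classInner_self_eq_one (IsCharacter.restrict M hc)
  have h1 := sum_eq_index_mul_sum K M hKM (fun g => χ g * conj (χ g)) (by
    intro k hk g
    rw [IsCharacter.apply_mul_left_of_apply_eq hc (hK k hk)])
  have h2 : classInner χ χ = 1 := by
    rw [classInner_isIrrCharacter hχ hχ, if_pos rfl]
  unfold classInner at h2 ⊢
  rw [h1] at h2
  have hcard : (Nat.card G : ℂ) = (Nat.card M : ℂ) * (M.index : ℂ) := by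
    rw [← Nat.cast_mul, Subgroup.card_mul_index]
  rw [hcard] at h2
  have hM0 : (Nat.card M : ℂ) ≠ 0 := card_ne_zero_complex M
  have hi0 : (M.index : ℂ) ≠ 0 := by
    have := Subgroup.index_ne_zero_of_finite (H := M)
    exact_mod_cast this
  rw [← h2]
  field_simp

/-- The kernel of a character is contained in the kernel of each irreducible constituent. -/
theorem apply_eq_of_constituent {A θ : G → ℂ} (hA : IsCharacter G A) (hθ : IsIrrCharacter G θ)
    (h : classInner A θ ≠ 0) {x : G} (hx : A x = A 1) : θ x = θ 1 := by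
  obtain ⟨B, hB, hAB⟩ := IsCharacter.exists_eq_add_of_constituent hA hθ h
  have hθc := IsIrrCharacter.isCharacter hθ
  have e1 := IsCharacter.apply_one_eq_charDegree hθc
  have e2 := IsCharacter.apply_one_eq_charDegree hB
  have n1 := Cfsg.Agent.Lib.Helper3.Gagola.IsCharacter.norm_apply_le hθc x
  have n2 := Cfsg.Agent.Lib.Helper3.Gagola.IsCharacter.norm_apply_le hB x
  have hx' : θ x + B x = θ 1 + B 1 := by
    have := hx
    rw [hAB] at this
    simpa using this
  have hre : (θ x).re + (B x).re = (charDegree θ : ℝ) + (charDegree B : ℝ) := by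
    have := congrArg Complex.re hx'
    rw [e1, e2] at this
    simpa using this
  have r1 : (θ x).re ≤ charDegree θ := le_trans (Complex.re_le_norm _) n1
  have r2 : (B x).re ≤ charDegree B := le_trans (Complex.re_le_norm _) n2
  have r3 : (θ x).re = charDegree θ := by linarith
  rw [e1]
  have := Cfsg.Agent.Lib.Helper3.Gagola.eq_of_re_eq_of_norm_le n1 r3
  rw [this]
  simp

/-- **Key lemma.** Let `M` be a maximal subgroup not containing the kernel `K` of the irreducible
character `χ`. Then either some irreducible `ψ` has larger degree and strictly smaller kernel, or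
`χ` vanishes on `M` outside the core of `M`. -/
theorem lemmaA {χ : G → ℂ} (hχ : IsIrrCharacter G χ) (K M : Subgroup G) [K.Normal] [Fintype M]
    (hK : ∀ g : G, g ∈ K ↔ χ g = χ 1) (hM : IsCoatom M) (hKM : ¬ K ≤ M) :
    (∃ ψ : IrrCharacter G, charDegree χ < charDegree (ψ : G → ℂ) ∧
      ∃ L : Subgroup G, (∀ g : G, g ∈ L ↔ (ψ : G → ℂ) g = (ψ : G → ℂ) 1) ∧ L < K) ∨
    (∀ x ∈ M, χ x ≠ 0 → ∀ y : G, y⁻¹ * x * y ∈ M) := by
  classical
  haveI : Fintype (IrrCharacter G) := Fintype.ofFinite _
  have hc := IsIrrCharacter.isCharacter hχ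
  have hsup : K ⊔ M = ⊤ :=
    hM.2 _ (lt_of_le_of_ne le_sup_right (fun h => hKM (by rw [h]; exact le_sup_left)))
  set θ : M → ℂ := fun m => χ m with hθdef
  have hθ : IsIrrCharacter M θ :=
    isIrrCharacter_restrict_of_sup_eq_top hχ K M (fun k hk => (hK k).1 hk) hsup
  have hA : IsCharacter G (indFun M θ) := IsCharacter.indFun M (IsIrrCharacter.isCharacter hθ)
  obtain ⟨m, hm, hmi⟩ := IsCharacter.exists_mult hA
  have hcons : ∀ ψ : IrrCharacter G, m ψ ≠ 0 →
      classInner (fun h : M => (ψ : G → ℂ) h) θ ≠ 0 := by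
    intro ψ hψ
    have h1 := Cfsg.Agent.S0146.result M θ (ψ : G → ℂ)
      (IsCharacter.isClassFunction (IsIrrCharacter.isCharacter ψ.2))
    rw [hmi ψ] at h1
    rw [← classInner_conj_symm, ← h1]
    simpa using hψ
  by_cases hex : ∃ ψ : IrrCharacter G, m ψ ≠ 0 ∧ charDegree χ < charDegree (ψ : G → ℂ)
  · left
    obtain ⟨ψ, hψm, hψd⟩ := hex
    refine ⟨ψ, hψd, ?_⟩
    have hψc := IsIrrCharacter.isCharacter ψ.2
    obtain ⟨L, hLn, hL⟩ := Cfsg.Agent.Lib.Helper3.CharQuot.exists_kernel hψc
    refine ⟨L, hL, ?_⟩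
    have hLM : L ≤ M := by
      by_contra hLM
      have hsupL : L ⊔ M = ⊤ :=
        hM.2 _ (lt_of_le_of_ne le_sup_right (fun h => hLM (by rw [h]; exact le_sup_left)))
      have hirr : IsIrrCharacter M (fun h : M => (ψ : G → ℂ) h) :=
        isIrrCharacter_restrict_of_sup_eq_top ψ.2 L M (fun k hk => (hL k).1 hk) hsupL
      have h2 := hcons ψ hψm
      rw [classInner_isIrrCharacter hirr hθ] at h2
      have heq : (fun h : M => (ψ : G → ℂ) h) = θ := by
        by_contra hne
        rw [if_neg hne] at h2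
        exact h2 rfl
      have h3 : (ψ : G → ℂ) 1 = χ 1 := congrFun heq 1
      have : charDegree (ψ : G → ℂ) = charDegree χ := by
        unfold charDegree
        rw [h3]
      omega
    have hLK : L ≤ K := by
      intro x hx
      have hxM := hLM hx
      rw [hK]
      have h3 : (fun h : M => (ψ : G → ℂ) h) ⟨x, hxM⟩ = (fun h : M => (ψ : G → ℂ) h) 1 :=
        (hL x).1 hx
      have := apply_eq_of_constituent (IsCharacter.restrict M hψc) hθ (hcons ψ hψm) h3
      exact this
    exact lt_of_le_of_ne hLK (fun h => hKM (h ▸ hLM))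
  · right
    push Not at hex
    have hres : ∀ ψ : IrrCharacter G, m ψ ≠ 0 → ∀ x : M, (ψ : G → ℂ) x = χ x := by
      intro ψ hψm
      have hψc := IsIrrCharacter.isCharacter ψ.2
      have h2 := hcons ψ hψm
      have hle := IsCharacter.charDegree_le (IsCharacter.restrict M hψc) hθ h2
      have hle2 := hex ψ hψm
      have hd1 : charDegree (fun h : M => (ψ : G → ℂ) h) = charDegree (ψ : G → ℂ) := rfl
      have hd2 : charDegree θ = charDegree χ := rfl
      have hdeq : charDegree (ψ : G → ℂ) = charDegree χ := by omega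
      have h1 : (fun h : M => (ψ : G → ℂ) h) 1 = θ 1 := by
        change (ψ : G → ℂ) 1 = χ 1
        rw [IsCharacter.apply_one_eq_charDegree hψc, IsCharacter.apply_one_eq_charDegree hc, hdeq]
      have heq := IsCharacter.eq_of_constituent_of_apply_one_eq (IsCharacter.restrict M hψc) hθ h2 h1
      intro x
      exact congrFun heq x
    have hAval : ∀ x : M, indFun M θ x = (∑ ψ, (m ψ : ℂ)) * χ x := by
      intro x
      rw [apply_eq_sum_mult hm, Finset.sum_mul]
      apply Finset.sum_congr rfl
      intro ψ _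
      by_cases h0 : m ψ = 0
      · rw [h0]; simp
      · rw [hres ψ h0 x]
    have hχ1 : χ 1 ≠ 0 := IsIrrCharacter.apply_one_ne_zero hχ
    have hsum : (∑ ψ, (m ψ : ℂ)) = (M.index : ℂ) := by
      have h1 := hAval 1
      rw [show ((1 : M) : G) = 1 from rfl, indFun_one] at h1
      have : θ 1 = χ 1 := rfl
      rw [this] at h1
      exact (mul_right_cancel₀ hχ1 h1).symm
    intro x hxM hχx y
    have hdir : indFun M θ x = (Nat.card M : ℂ)⁻¹ *
        (((Finset.univ.filter (fun z : G => z⁻¹ * x * z ∈ M)).card : ℂ) * χ x) := by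
      unfold indFun
      congr 1
      rw [Finset.card_eq_sum_ones, Nat.cast_sum, Finset.sum_mul, Finset.sum_filter]
      apply Finset.sum_congr rfl
      intro z _
      split_ifs with hz
      · rw [extendByZero_of_mem M θ hz]
        change χ (z⁻¹ * x * z) = _
        have := IsCharacter.isClassFunction hc x z⁻¹
        rw [inv_inv] at this
        rw [this]
        simp
      · rw [extendByZero_of_not_mem M θ hz]
    have h1 := hAval ⟨x, hxM⟩
    rw [hsum] at h1
    change indFun M θ x = _ at h1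
    rw [hdir] at h1
    have hM0 := card_ne_zero_complex M
    have hc2 : ((Finset.univ.filter (fun z : G => z⁻¹ * x * z ∈ M)).card : ℂ)
        = (Nat.card G : ℂ) := by
      rw [← mul_assoc] at h1
      have h2 := mul_right_cancel₀ hχx h1
      rw [← Subgroup.card_mul_index M]
      push_cast
      rw [← h2]
      field_simp
    have hc3 : (Finset.univ.filter (fun z : G => z⁻¹ * x * z ∈ M)).card
        = (Finset.univ : Finset G).card := by
      rw [Finset.card_univ, ← Nat.card_eq_fintype_card]
      exact_mod_cast hc2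
    exact (Finset.card_filter_eq_iff.mp hc3) y (Finset.mem_univ y)

end Cfsg.Agent.Lib.Helper8.BG
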