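import Mathlib
import Cfsg.Agent.Lib.Helper8.BG1
import Cfsg.Agent.Lib.Helper8.BG2

set_option autoImplicit false

/-! # The Broline–Garrison theorem (Isaacs 12.19) -/

namespace Cfsg.Agent.Lib.Helper8.BG

open Cfsg Cfsg.Agent.Lib.Helper6 Cfsg.Agent.Lib.Helper1
open scoped ComplexConjugate

universe u

variable {G : Type u} [Group G] [Fintype G]

/-- First alternative: the kernel is not nilpotent. -/
theorem exists_of_not_le_fitting {χ : G → ℂ} (hχ : IsIrrCharacter G χ) (K : Subgroup G)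
    [hKn : K.Normal] (hK : ∀ g : G, g ∈ K ↔ χ g = χ 1)
    (h : ¬ K ≤ Cfsg.fittingSubgroup G) :
    ∃ ψ : IrrCharacter G, charDegree χ < charDegree (ψ : G → ℂ) ∧
      ∃ L : Subgroup G, (∀ g : G, g ∈ L ↔ (ψ : G → ℂ) g = (ψ : G → ℂ) 1) ∧ L < K := by
  classical
  have hnil : ¬ Group.IsNilpotent K := fun hn => h (le_fittingSubgroup hKn hn)
  have hsyl : ∃ (p : ℕ) (_ : Fact p.Prime) (P : Sylow p K), ¬ (P : Subgroup K).Normal := by
    by_contra hcon
    push Not at hcon
    exact hnil (((Group.isNilpotent_of_finite_tfae (G := K)).out 0 3).mpr hcon)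
  obtain ⟨p, hp, P, hPn⟩ := hsyl
  obtain ⟨P', hP'⟩ : ∃ P' : Subgroup G, P' = (P : Subgroup K).map K.subtype := ⟨_, rfl⟩
  have hfrat : Subgroup.normalizer (P' : Set G) ⊔ K = ⊤ := by
    rw [hP']
    exact Sylow.normalizer_sup_eq_top P
  have hNtop : Subgroup.normalizer (P' : Set G) ≠ ⊤ := by
    intro htop
    apply hPn
    have hP'n : P'.Normal := Subgroup.normalizer_eq_top_iff.mp htop
    have e : (P : Subgroup K) = P'.comap K.subtype := by
      rw [hP', Subgroup.comap_map_eq_self_of_injective K.subtype_injective]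
    rw [e]
    exact hP'n.comap _
  obtain ⟨M, hM, hNM⟩ := (eq_top_or_exists_le_coatom _).resolve_left hNtop
  have hKM : ¬ K ≤ M := by
    intro hle
    apply hM.1
    rw [eq_top_iff, ← hfrat]
    exact sup_le hNM hle
  haveI : Fintype M := Fintype.ofFinite M
  rcases lemmaA hχ K M hK hM hKM with h1 | h2
  · exact h1
  · exfalso
    have hχ1 : χ 1 ≠ 0 := IsIrrCharacter.apply_one_ne_zero hχ
    have hDn : (K ⊓ M).Normal := by
      constructor
      intro d hd g
      refine ⟨hKn.conj_mem d hd.1 g, ?_⟩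
      have := h2 d hd.2 (by rw [(hK d).1 hd.1]; exact hχ1) g⁻¹
      rwa [inv_inv] at this
    have hP'K : P' ≤ K := by rw [hP']; exact Subgroup.map_subtype_le _
    have hP'D : P' ≤ K ⊓ M := le_inf hP'K ((Subgroup.le_normalizer).trans hNM)
    have hP'p : IsPGroup p P' := by rw [hP']; exact P.isPGroup'.map _
    -- a Sylow p-subgroup of `D` containing `P'`
    obtain ⟨Q, hQ⟩ := (hP'p.comap_of_injective (K ⊓ M).subtype
      (Subgroup.subtype_injective _)).exists_le_sylow
    obtain ⟨Q', hQ'⟩ : ∃ Q' : Subgroup G, Q' = (Q : Subgroup ↥(K ⊓ M)).map (K ⊓ M).subtype :=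
      ⟨_, rfl⟩
    have hQ'p : IsPGroup p Q' := by rw [hQ']; exact Q.isPGroup'.map _
    have hQ'D : Q' ≤ K ⊓ M := by rw [hQ']; exact Subgroup.map_subtype_le _
    have hP'Q' : P' ≤ Q' := by
      intro z hz
      rw [hQ']
      exact ⟨⟨z, hP'D hz⟩, hQ (Subgroup.mem_comap.mpr hz), rfl⟩
    have hmax : Q'.comap K.subtype = (P : Subgroup K) := by
      apply P.is_maximal' (hQ'p.comap_of_injective K.subtype K.subtype_injective)
      intro z hz
      rw [Subgroup.mem_comap]
      apply hP'Q'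
      rw [hP']
      exact ⟨z, hz, rfl⟩
    have hQP : Q' = P' := by
      rw [hP', ← hmax]
      ext z
      constructor
      · intro hz
        exact ⟨⟨z, (hQ'D hz).1⟩, Subgroup.mem_comap.mpr hz, rfl⟩
      · rintro ⟨w, hw, rfl⟩
        exact Subgroup.mem_comap.mp hw
    have hfr2 : Subgroup.normalizer (Q' : Set G) ⊔ (K ⊓ M) = ⊤ := by
      rw [hQ']
      exact Sylow.normalizer_sup_eq_top Q
    apply hM.1
    rw [eq_top_iff, ← hfr2, hQP]
    exact sup_le hNM inf_le_right

/-- Second alternative: the kernel is the Fitting subgroup of a solvable group. -/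
theorem exists_of_eq_fitting {χ : G → ℂ} (hχ : IsIrrCharacter G χ) (K : Subgroup G)
    [hKn : K.Normal] (hK : ∀ g : G, g ∈ K ↔ χ g = χ 1)
    (hKF : K = Cfsg.fittingSubgroup G) (hsolv : Group.IsSolvable (G ⧸ K)) (hKtop : K ≠ ⊤) :
    ∃ ψ : IrrCharacter G, charDegree χ < charDegree (ψ : G → ℂ) ∧
      ∃ L : Subgroup G, (∀ g : G, g ∈ L ↔ (ψ : G → ℂ) g = (ψ : G → ℂ) 1) ∧ L < K := by
  classical
  haveI hGs : Group.IsSolvable G := by
    haveI : Group.IsNilpotent K := by
      rw [hKF]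
      exact fittingSubgroup_isNilpotent
    haveI : Group.IsSolvable K := inferInstance
    exact Group.isSolvable_of_ker_le_range K.subtype (QuotientGroup.mk' K)
      (by rw [QuotientGroup.ker_mk', Subgroup.range_subtype])
  by_contra hno
  have hc := IsIrrCharacter.isCharacter hχ
  have hvan : ∀ x : G, x ∉ K → χ x = 0 := by
    intro x hx
    have hxF : x ∉ Cfsg.fittingSubgroup G := by rwa [← hKF]
    obtain ⟨M, hM, hFM, v, hv, m', hm', hxv, y, hy⟩ := exists_coatom hxF
    haveI : Fintype M := Fintype.ofFinite M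
    have hKM : ¬ K ≤ M := by rwa [hKF]
    rcases lemmaA hχ K M hK hM hKM with h1 | h2
    · exact absurd h1 hno
    · by_contra hne
      have hvK : v ∈ K := by rwa [hKF]
      have e : χ x = χ m' := by
        rw [hxv]
        exact IsCharacter.apply_mul_left_of_apply_eq hc ((hK v).1 hvK) m'
      rw [e] at hne
      exact hy (h2 m' hm' hne y)
  have hχ1 : χ 1 ≠ 0 := IsIrrCharacter.apply_one_ne_zero hχ
  have hval : ∀ g, χ g = if g ∈ K then χ 1 else 0 := by
    intro g
    split_ifs with hg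
    · exact (hK g).1 hg
    · exact hvan g hg
  have hsum : ∑ g : G, χ g * conj ((fun _ => (1 : ℂ)) g) = (Nat.card K : ℂ) * χ 1 := by
    simp only [map_one, mul_one]
    rw [Finset.sum_congr rfl (fun g _ => hval g), ← Finset.sum_filter, Finset.sum_const,
      nsmul_eq_mul]
    congr 2
    rw [Nat.card_eq_fintype_card, Fintype.card_subtype]
  have hinner : classInner χ (fun _ => (1 : ℂ)) ≠ 0 := by
    unfold classInner
    rw [hsum]
    have h1 := card_ne_zero_complex G
    have h2 := card_ne_zero_complex K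
    exact mul_ne_zero (inv_ne_zero h1) (mul_ne_zero h2 hχ1)
  rw [classInner_isIrrCharacter hχ isIrrCharacter_one] at hinner
  have hχe : χ = fun _ => (1 : ℂ) := by
    by_contra hne
    rw [if_neg hne] at hinner
    exact hinner rfl
  apply hKtop
  rw [eq_top_iff]
  intro g _
  rw [hK, hχe]

/-- **Broline–Garrison.** -/
theorem broline_garrison {χ : G → ℂ} (hχ : IsIrrCharacter G χ) (K : Subgroup G)
    [hKn : K.Normal] (hK : ∀ g : G, g ∈ K ↔ χ g = χ 1)
    (h : ¬ K ≤ Cfsg.fittingSubgroup G ∨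
      (K = Cfsg.fittingSubgroup G ∧ Group.IsSolvable (G ⧸ K) ∧ K ≠ ⊤)) :
    ∃ ψ : IrrCharacter G, charDegree χ < charDegree (ψ : G → ℂ) ∧
      ∃ L : Subgroup G, (∀ g : G, g ∈ L ↔ (ψ : G → ℂ) g = (ψ : G → ℂ) 1) ∧ L < K := by
  rcases h with h | ⟨h1, h2, h3⟩
  · exact exists_of_not_le_fitting hχ K hK h
  · exact exists_of_eq_fitting hχ K hK h1 h2 h3

end Cfsg.Agent.Lib.Helper8.BG
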