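import Mathlib
import Cfsg.Agent.Lib.Helper8.BG3

set_option autoImplicit false

/-! # Garrison's theorem (Isaacs 12.21): nilpotent length at most the number of degrees -/

namespace Cfsg.Agent.Lib.Helper8.BG

open Cfsg Cfsg.Agent.Lib.Helper6 Cfsg.Agent.Lib.Helper1

universe u

/-- The section `B / A` is nilpotent (whenever it makes sense). -/
def NilSection {G : Type u} [Group G] (A B : Subgroup G) : Prop :=
  ∀ h : (A.subgroupOf B).Normal, Group.IsNilpotent (↥B ⧸ A.subgroupOf B)

theorem nilSection_of_isNilpotent {G : Type u} [Group G] (A B : Subgroup G)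
    (hB : Group.IsNilpotent B) : NilSection A B := by
  intro h
  infer_instance

theorem nilSection_of_le {G : Type u} [Group G] (A B : Subgroup G) (hBA : B ≤ A) :
    NilSection A B := by
  intro h
  have : A.subgroupOf B = ⊤ := Subgroup.subgroupOf_eq_top.mpr hBA
  haveI : Subsingleton (↥B ⧸ A.subgroupOf B) := by
    rw [this]
    exact QuotientGroup.subsingleton_quotient_top
  infer_instance

theorem nilSection_comap {G : Type u} [Group G] {H : Type u} [Group H] (π : G →* H)
    (A B : Subgroup H) [hA : A.Normal] (h : NilSection A B) :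
    NilSection (A.comap π) (B.comap π) := by
  intro hn
  haveI := hn
  haveI hAB : (A.subgroupOf B).Normal := inferInstance
  have hnil := h hAB
  let f : ↥(B.comap π) →* ↥B := π.subgroupComap B
  have hle : (A.comap π).subgroupOf (B.comap π) ≤ (A.subgroupOf B).comap f := by
    intro x hx
    exact hx
  have hinj : Function.Injective (QuotientGroup.map _ _ f hle) := by
    rw [← MonoidHom.ker_eq_bot_iff, eq_bot_iff]
    intro q hq
    obtain ⟨x, rfl⟩ := QuotientGroup.mk_surjective q
    rw [MonoidHom.mem_ker, QuotientGroup.map_mk, QuotientGroup.eq_one_iff] at hq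
    rw [Subgroup.mem_bot, QuotientGroup.eq_one_iff]
    exact hq
  haveI := hnil
  exact Subgroup.isNilpotent_of_ker_le_center (QuotientGroup.map _ _ f hle)
    (by rw [(MonoidHom.ker_eq_bot_iff _).mpr hinj]; exact bot_le)

/-- the degree set -/
def cdSet (G : Type u) [Group G] : Set ℕ := {d | ∃ χ : IrrCharacter G, charDegree (χ : G → ℂ) = d}

theorem cdSet_finite (G : Type u) [Group G] [Finite G] : (cdSet G).Finite := by
  haveI : Finite (IrrCharacter G) := inferInstance
  have : cdSet G = Set.range (fun χ : IrrCharacter G => charDegree (χ : G → ℂ)) := by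
    ext d
    simp [cdSet]
  rw [this]
  exact Set.finite_range _

theorem one_mem_cdSet (G : Type u) [Group G] [Finite G] : 1 ∈ cdSet G := by
  refine ⟨⟨fun _ => 1, isIrrCharacter_one⟩, ?_⟩
  unfold charDegree
  simp

theorem cdSet_quotient_subset (G : Type u) [Group G] [Finite G] (N : Subgroup G) [N.Normal] :
    cdSet (G ⧸ N) ⊆ cdSet G := by
  haveI : Fintype G := Fintype.ofFinite G
  rintro d ⟨β, hβ⟩
  have hχ : IsIrrCharacter G (fun g : G => β.1 (QuotientGroup.mk g)) :=
    IsIrrCharacter.comp_mk N β.2
  refine ⟨⟨_, hχ⟩, ?_⟩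
  rw [← hβ]
  unfold charDegree
  simp

theorem max_not_mem_cdSet_quotient (G : Type u) [Group G] [Finite G] [Group.IsSolvable G]
    (hF : Cfsg.fittingSubgroup G ≠ ⊤) (b : ℕ) (hb : ∀ d ∈ cdSet G, d ≤ b)
    (hFn : (Cfsg.fittingSubgroup G).Normal) :
    b ∉ cdSet (G ⧸ Cfsg.fittingSubgroup G) := by
  haveI : Fintype G := Fintype.ofFinite G
  rintro ⟨β, hβ⟩
  have hχ : IsIrrCharacter G (fun g : G => β.1 (QuotientGroup.mk g)) :=
    IsIrrCharacter.comp_mk (Cfsg.fittingSubgroup G) β.2
  obtain ⟨χ, hχdef⟩ : ∃ χ : G → ℂ, χ = fun g : G => β.1 (QuotientGroup.mk g) := ⟨_, rfl⟩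
  rw [← hχdef] at hχ
  have hdeg : charDegree χ = b := by
    rw [← hβ, hχdef]
    unfold charDegree
    simp
  obtain ⟨K, hKn, hK⟩ := Cfsg.Agent.Lib.Helper3.CharQuot.exists_kernel
    (IsIrrCharacter.isCharacter hχ)
  haveI := hKn
  have hFK : Cfsg.fittingSubgroup G ≤ K := by
    intro f hf
    rw [hK, hχdef]
    have : (QuotientGroup.mk f : G ⧸ Cfsg.fittingSubgroup G) = 1 :=
      (QuotientGroup.eq_one_iff f).mpr hf
    simp only [this, QuotientGroup.mk_one]
  have halt : ¬ K ≤ Cfsg.fittingSubgroup G ∨
      (K = Cfsg.fittingSubgroup G ∧ Group.IsSolvable (G ⧸ K) ∧ K ≠ ⊤) := by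
    by_cases hle : K ≤ Cfsg.fittingSubgroup G
    · right
      have hKF : K = Cfsg.fittingSubgroup G := le_antisymm hle hFK
      exact ⟨hKF, inferInstance, by rw [hKF]; exact hF⟩
    · left
      exact hle
  obtain ⟨ψ, hψ, -⟩ := broline_garrison hχ K hK halt
  have := hb _ ⟨ψ, rfl⟩
  omega

/-- **Garrison.** -/
theorem garrison (n : ℕ) : ∀ (G : Type u) [Group G] [Finite G], Group.IsSolvable G →
    Nat.card ↥(cdSet G) = n →
    ∃ N : ℕ → Subgroup G, N 0 = ⊥ ∧ (∀ i, n ≤ i → N i = ⊤) ∧ Monotone N ∧ (∀ i, (N i).Normal) ∧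
      ∀ i, NilSection (N i) (N (i + 1)) := by
  induction n using Nat.strong_induction_on with
  | _ n ih =>
    intro G _ _ hsolv hcard
    haveI := hsolv
    have hfin := cdSet_finite G
    have hn1 : 1 ≤ n := by
      rw [← hcard, Nat.card_coe_set_eq]
      exact (Set.ncard_pos hfin).mpr ⟨1, one_mem_cdSet G⟩
    have hFn : (Cfsg.fittingSubgroup G).Normal := fittingSubgroup_normal
    have hFnil : Group.IsNilpotent (Cfsg.fittingSubgroup G) := fittingSubgroup_isNilpotent
    by_cases hF : Cfsg.fittingSubgroup G = ⊤
    · -- `G` is nilpotent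
      have hGnil : Group.IsNilpotent G := by
        rw [hF] at hFnil
        exact Group.nilpotent_of_mulEquiv Subgroup.topEquiv
      refine ⟨fun i => Nat.casesOn i ⊥ (fun _ => ⊤), rfl, ?_, ?_, ?_, ?_⟩
      · intro i hi
        cases i with
        | zero => omega
        | succ j => rfl
      · apply monotone_nat_of_le_succ
        intro i
        cases i with
        | zero => exact bot_le
        | succ j => exact le_rfl
      · intro i
        cases i with
        | zero => exact Subgroup.normal_bot
        | succ j => exact Subgroup.normal_top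
      · intro i
        cases i with
        | zero => exact nilSection_of_isNilpotent _ _ inferInstance
        | succ j => exact nilSection_of_le _ _ le_rfl
    · -- pass to `G / F(G)`
      obtain ⟨b, hbmem, hbmax⟩ := Set.exists_max_image (cdSet G) id hfin ⟨1, one_mem_cdSet G⟩
      have hbnot := max_not_mem_cdSet_quotient G hF b hbmax hFn
      have hsub := cdSet_quotient_subset G (Cfsg.fittingSubgroup G)
      have hlt : Nat.card ↥(cdSet (G ⧸ Cfsg.fittingSubgroup G)) < n := by
        rw [← hcard, Nat.card_coe_set_eq, Nat.card_coe_set_eq]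
        apply Set.ncard_lt_ncard _ hfin
        exact ⟨hsub, fun h => hbnot (h hbmem)⟩
      obtain ⟨Nq, hN0, hNtop, hNmono, hNnorm, hNsec⟩ :=
        ih _ hlt (G ⧸ Cfsg.fittingSubgroup G) inferInstance rfl
      refine ⟨fun i => Nat.casesOn i ⊥
        (fun j => (Nq j).comap (QuotientGroup.mk' (Cfsg.fittingSubgroup G))), rfl, ?_, ?_, ?_, ?_⟩
      · intro i hi
        cases i with
        | zero => omega
        | succ j =>
          change (Nq j).comap _ = ⊤
          rw [hNtop j (by omega), Subgroup.comap_top]
      · apply monotone_nat_of_le_succ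
        intro i
        cases i with
        | zero => exact bot_le
        | succ j => exact Subgroup.comap_mono (hNmono (Nat.le_succ j))
      · intro i
        cases i with
        | zero => exact Subgroup.normal_bot
        | succ j => exact (hNnorm j).comap _
      · intro i
        cases i with
        | zero =>
          apply nilSection_of_isNilpotent
          change Group.IsNilpotent ↥((Nq 0).comap (QuotientGroup.mk' (Cfsg.fittingSubgroup G)))
          have e : (Nq 0).comap (QuotientGroup.mk' (Cfsg.fittingSubgroup G)) =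
              Cfsg.fittingSubgroup G := by
            rw [hN0, MonoidHom.comap_bot, QuotientGroup.ker_mk']
          rw [e]
          exact hFnil
        | succ j =>
          haveI := hNnorm j
          exact nilSection_comap _ _ _ (hNsec j)

end Cfsg.Agent.Lib.Helper8.BG
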