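import Mathlib
import Cfsg.Agent.Lib.Helper8.GlauL4
import Cfsg.Agent.Lib.Helper6.Linear
import Cfsg.Agent.Lib.Helper6.Multiplicity

set_option autoImplicit false

/-!
# Groups of linear characters acting on irreducible characters
-/

namespace Cfsg.Agent.Lib.Helper8.AFT

open scoped ComplexConjugate
open Cfsg.Agent.Lib.Helper6

variable {G : Type*} [Group G]

instance finite_hom [Finite G] : Finite (G →* ℂˣ) :=
  Finite.of_equiv _ (linearCharEquiv G).symm

/-- The action of the group of linear characters on the irreducible characters. -/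
@[reducible] noncomputable def linAct [Fintype G] : MulAction (G →* ℂˣ) (Cfsg.IrrCharacter G) where
  smul lam χ := Cfsg.Agent.Lib.Helper8.GlauL.linMul lam χ
  one_smul χ := by
    apply Subtype.ext
    funext g
    show (((1 : G →* ℂˣ) g : ℂˣ) : ℂ) * (χ : G → ℂ) g = (χ : G → ℂ) g
    simp
  mul_smul a b χ := by
    apply Subtype.ext
    funext g
    show (((a * b) g : ℂˣ) : ℂ) * (χ : G → ℂ) g
      = ((a g : ℂˣ) : ℂ) * (((b g : ℂˣ) : ℂ) * (χ : G → ℂ) g)
    simp [mul_assoc]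

theorem norm_irr_le [Finite G] (χ : Cfsg.IrrCharacter G) (g : G) :
    ‖(χ : G → ℂ) g‖ ≤ (Cfsg.charDegree (χ : G → ℂ) : ℝ) := by
  obtain ⟨n, ρ, _, hρ⟩ := χ.2
  rw [← hρ, charDegree_character]
  exact norm_character_le ρ g

section sums

variable [Fintype G]

theorem sum_hom (lam : G →* ℂˣ) [Decidable (lam = 1)] :
    ∑ g : G, ((lam g : ℂˣ) : ℂ) = if lam = 1 then (Nat.card G : ℂ) else 0 := by
  split_ifs with h
  · rw [h]
    simp [Nat.card_eq_fintype_card]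
  · have : ∃ h0 : G, lam h0 ≠ 1 := by
      by_contra hcon
      push Not at hcon
      apply h
      ext g
      rw [hcon g]
      rfl
    obtain ⟨h0, hh0⟩ := this
    have h1 : ∑ g : G, ((lam g : ℂˣ) : ℂ) = ((lam h0 : ℂˣ) : ℂ) * ∑ g : G, ((lam g : ℂˣ) : ℂ) := by
      rw [Finset.mul_sum]
      rw [← Equiv.sum_comp (Equiv.mulLeft h0) (fun g : G => ((lam g : ℂˣ) : ℂ))]
      apply Finset.sum_congr rfl
      intro g _
      rw [Equiv.coe_mulLeft, map_mul, Units.val_mul]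
    have h2 : (1 - ((lam h0 : ℂˣ) : ℂ)) * ∑ g : G, ((lam g : ℂˣ) : ℂ) = 0 := by
      rw [sub_mul, one_mul, ← h1, sub_self]
    rcases mul_eq_zero.mp h2 with h3 | h3
    · exfalso
      apply hh0
      apply Units.ext
      rw [sub_eq_zero] at h3
      rw [← h3]
      rfl
    · exact h3

theorem sum_subgroup (Λ : Subgroup (G →* ℂˣ)) [Fintype Λ] (g : G)
    [Decidable (∀ lam ∈ Λ, lam g = 1)] :
    ∑ lam : Λ, (((lam : G →* ℂˣ) g : ℂˣ) : ℂ)
      = if (∀ lam ∈ Λ, lam g = 1) then (Nat.card Λ : ℂ) else 0 := by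
  split_ifs with h
  · have : ∀ lam : Λ, (((lam : G →* ℂˣ) g : ℂˣ) : ℂ) = 1 := by
      intro lam
      rw [h lam.1 lam.2]
      rfl
    simp [this, Nat.card_eq_fintype_card]
  · push Not at h
    obtain ⟨mu, hmu, hmug⟩ := h
    have h1 : ∑ lam : Λ, (((lam : G →* ℂˣ) g : ℂˣ) : ℂ)
        = ((mu g : ℂˣ) : ℂ) * ∑ lam : Λ, (((lam : G →* ℂˣ) g : ℂˣ) : ℂ) := by
      rw [Finset.mul_sum]
      rw [← Equiv.sum_comp (Equiv.mulLeft (⟨mu, hmu⟩ : Λ))
        (fun lam : Λ => (((lam : G →* ℂˣ) g : ℂˣ) : ℂ))]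
      apply Finset.sum_congr rfl
      intro lam _
      rw [Equiv.coe_mulLeft]
      show ((((mu * (lam : G →* ℂˣ)) g : ℂˣ)) : ℂ) = _
      rw [MonoidHom.mul_apply, Units.val_mul]
    have h2 : (1 - ((mu g : ℂˣ) : ℂ)) * ∑ lam : Λ, (((lam : G →* ℂˣ) g : ℂˣ) : ℂ) = 0 := by
      rw [sub_mul, one_mul, ← h1, sub_self]
    rcases mul_eq_zero.mp h2 with h3 | h3
    · exfalso
      apply hmug
      apply Units.ext
      rw [sub_eq_zero] at h3
      rw [← h3]
      rfl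
    · exact h3

/-- The common kernel of a group of linear characters, as a finset. -/
noncomputable def kerSet (Λ : Subgroup (G →* ℂˣ)) : Finset G :=
  by classical exact Finset.univ.filter (fun g => ∀ lam ∈ Λ, lam g = 1)

theorem mem_kerSet (Λ : Subgroup (G →* ℂˣ)) (g : G) :
    g ∈ kerSet Λ ↔ ∀ lam ∈ Λ, lam g = 1 := by
  classical
  unfold kerSet
  simp

theorem card_mul_card_kerSet (Λ : Subgroup (G →* ℂˣ)) :
    Nat.card Λ * (kerSet Λ).card = Nat.card G := by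
  classical
  haveI : Fintype Λ := Fintype.ofFinite Λ
  have h1 : ∑ lam : Λ, ∑ g : G, (((lam : G →* ℂˣ) g : ℂˣ) : ℂ) = (Nat.card G : ℂ) := by
    have : ∀ lam : Λ, ∑ g : G, (((lam : G →* ℂˣ) g : ℂˣ) : ℂ)
        = if lam = 1 then (Nat.card G : ℂ) else 0 := by
      intro lam
      rw [sum_hom]
      by_cases h : lam = 1
      · rw [if_pos h, if_pos (by rw [h]; rfl)]
      · rw [if_neg h, if_neg]
        intro h'
        apply h
        apply Subtype.ext
        exact h'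
    rw [Finset.sum_congr rfl (fun lam _ => this lam)]
    simp
  have h2 : ∑ g : G, ∑ lam : Λ, (((lam : G →* ℂˣ) g : ℂˣ) : ℂ)
      = (Nat.card Λ : ℂ) * ((kerSet Λ).card : ℂ) := by
    rw [Finset.sum_congr rfl (fun g _ => sum_subgroup Λ g)]
    rw [← Finset.sum_filter, Finset.sum_const, nsmul_eq_mul, mul_comm]
    congr 2
  rw [Finset.sum_comm, h2] at h1
  exact_mod_cast h1

theorem one_mem_kerSet (Λ : Subgroup (G →* ℂˣ)) : (1 : G) ∈ kerSet Λ := by
  rw [mem_kerSet]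
  intro lam _
  exact map_one lam

/-- A character fixed by a group `Λ` of linear characters vanishes off the common kernel. -/
theorem apply_eq_zero_of_fixed (Λ : Subgroup (G →* ℂˣ)) (χ : Cfsg.IrrCharacter G)
    (hfix : ∀ lam ∈ Λ, Cfsg.Agent.Lib.Helper8.GlauL.linMul lam χ = χ) (g : G)
    (hg : g ∉ kerSet Λ) : (χ : G → ℂ) g = 0 := by
  rw [mem_kerSet] at hg
  push Not at hg
  obtain ⟨lam, hlam, hlg⟩ := hg
  have h1 := congrArg (fun ψ : Cfsg.IrrCharacter G => (ψ : G → ℂ) g) (hfix lam hlam)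
  simp only [Cfsg.Agent.Lib.Helper8.GlauL.linMul_apply] at h1
  have h2 : (((lam g : ℂˣ) : ℂ) - 1) * (χ : G → ℂ) g = 0 := by
    rw [sub_mul, one_mul, h1, sub_self]
  rcases mul_eq_zero.mp h2 with h3 | h3
  · exfalso
    apply hlg
    apply Units.ext
    rw [sub_eq_zero] at h3
    rw [h3]
    rfl
  · exact h3

/-- A character fixed by a group `Λ` of linear characters has `|Λ| ≤ χ(1)²`. -/
theorem card_le_of_fixed (Λ : Subgroup (G →* ℂˣ)) (χ : Cfsg.IrrCharacter G)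
    (hfix : ∀ lam ∈ Λ, Cfsg.Agent.Lib.Helper8.GlauL.linMul lam χ = χ) :
    Nat.card Λ ≤ Cfsg.charDegree (χ : G → ℂ) ^ 2 := by
  classical
  have h1 := classInner_irrCharacter χ χ
  rw [if_pos rfl] at h1
  unfold Cfsg.classInner at h1
  have hG : (Nat.card G : ℂ) ≠ 0 := by
    have : Nat.card G ≠ 0 := Nat.card_pos.ne'
    exact_mod_cast this
  have h2 : ∑ g : G, (χ : G → ℂ) g * conj ((χ : G → ℂ) g) = (Nat.card G : ℂ) := by
    field_simp at h1
    exact h1
  have h3 : ∀ g : G, (χ : G → ℂ) g * conj ((χ : G → ℂ) g) = ((‖(χ : G → ℂ) g‖ ^ 2 : ℝ) : ℂ) := by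
    intro g
    rw [Complex.mul_conj, Complex.normSq_eq_norm_sq]
  rw [Finset.sum_congr rfl (fun g _ => h3 g), ← Complex.ofReal_sum] at h2
  have h4 : ∑ g : G, ‖(χ : G → ℂ) g‖ ^ 2 = (Nat.card G : ℝ) := by exact_mod_cast h2
  have h5 : ∑ g : G, ‖(χ : G → ℂ) g‖ ^ 2 = ∑ g ∈ kerSet Λ, ‖(χ : G → ℂ) g‖ ^ 2 := by
    symm
    apply Finset.sum_subset (Finset.subset_univ _)
    intro g _ hg
    rw [apply_eq_zero_of_fixed Λ χ hfix g hg]
    simp
  have h6 : ∑ g ∈ kerSet Λ, ‖(χ : G → ℂ) g‖ ^ 2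
      ≤ ∑ _g ∈ kerSet Λ, ((Cfsg.charDegree (χ : G → ℂ) : ℝ)) ^ 2 := by
    apply Finset.sum_le_sum
    intro g _
    apply pow_le_pow_left₀ (norm_nonneg _) (norm_irr_le χ g)
  rw [Finset.sum_const, nsmul_eq_mul] at h6
  rw [h5] at h4
  rw [h4, ← card_mul_card_kerSet Λ] at h6
  have hK : 0 < (kerSet Λ).card := Finset.card_pos.mpr ⟨1, one_mem_kerSet Λ⟩
  have h7 : (Nat.card Λ * (kerSet Λ).card : ℕ) ≤ (kerSet Λ).card * Cfsg.charDegree (χ : G → ℂ) ^ 2 := by
    exact_mod_cast h6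
  rw [mul_comm] at h7
  exact Nat.le_of_mul_le_mul_left h7 hK

end sums

end Cfsg.Agent.Lib.Helper8.AFT
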