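import Mathlib
import Cfsg.Agent.Lib.Helper8.AFT1
import Cfsg.Agent.Lib.Helper8.FS3

set_option autoImplicit false

/-!
# Alperin–Feit–Thompson: preparations
-/

namespace Cfsg.Agent.Lib.Helper8.AFT

open scoped ComplexConjugate
open Cfsg.Agent.Lib.Helper6

/-- fixed points of a 2-group on an invariant subset of odd size -/
theorem odd_card_fixed {Γ X : Type*} [Group Γ] [MulAction Γ X] [Finite X]
    (hΓ : IsPGroup 2 Γ) (P : X → Prop) (hP : ∀ (γ : Γ) (x : X), P x → P (γ • x))
    (hodd : Odd (Nat.card {x : X // P x})) :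
    Odd (Nat.card {x : X // P x ∧ ∀ γ : Γ, γ • x = x}) := by
  classical
  letI act : MulAction Γ {x : X // P x} :=
    { smul := fun γ x => ⟨γ • x.1, hP γ x.1 x.2⟩
      one_smul := fun x => Subtype.ext (one_smul Γ x.1)
      mul_smul := fun a b x => Subtype.ext (mul_smul a b x.1) }
  haveI : Fact (Nat.Prime 2) := ⟨Nat.prime_two⟩
  have h1 := hΓ.card_modEq_card_fixedPoints {x : X // P x}
  have e : MulAction.fixedPoints Γ {x : X // P x} ≃ {x : X // P x ∧ ∀ γ : Γ, γ • x = x} :=
    { toFun := fun y => ⟨y.1.1, y.1.2, fun γ => congrArg Subtype.val (y.2 γ)⟩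
      invFun := fun x => ⟨⟨x.1, x.2.1⟩, fun γ => Subtype.ext (x.2.2 γ)⟩
      left_inv := fun y => rfl
      right_inv := fun x => rfl }
  rw [Nat.card_congr e] at h1
  rw [Nat.odd_iff] at hodd ⊢
  rw [← hodd]
  exact h1.symm

variable {G : Type*} [Group G]

/-- The sign character attached to a subgroup of index two. -/
noncomputable def signHom (M : Subgroup G) (hM : M.index = 2) : G →* ℂˣ := by
  classical
  exact
  { toFun := fun g => if g ∈ M then 1 else -1
    map_one' := by simp [M.one_mem]
    map_mul' := by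
      intro a b
      by_cases ha : a ∈ M <;> by_cases hb : b ∈ M
      · simp [ha, hb, M.mul_mem ha hb]
      · have : a * b ∉ M := fun h => hb ((M.mul_mem_cancel_left ha).mp h)
        simp [ha, hb, this]
      · have : a * b ∉ M := fun h => ha ((M.mul_mem_cancel_right hb).mp h)
        simp [ha, hb, this]
      · have : a * b ∈ M := (Subgroup.mul_mem_iff_of_index_two hM).mpr ⟨fun h => absurd h ha, fun h => absurd h hb⟩
        simp [ha, hb, this] }

theorem signHom_apply_eq_one_iff (M : Subgroup G) (hM : M.index = 2) (g : G) :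
    signHom M hM g = 1 ↔ g ∈ M := by
  classical
  unfold signHom
  simp only [MonoidHom.coe_mk, OneHom.coe_mk]
  by_cases h : g ∈ M
  · simp [h]
  · simp only [h, if_false, iff_false]
    intro h2
    have := congrArg Units.val h2
    simp only [Units.val_neg, Units.val_one] at this
    norm_num at this

theorem signHom_sq (M : Subgroup G) (hM : M.index = 2) : signHom M hM ^ 2 = 1 := by
  classical
  ext g
  unfold signHom
  simp only [MonoidHom.pow_apply, MonoidHom.coe_mk, OneHom.coe_mk, MonoidHom.one_apply]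
  by_cases h : g ∈ M
  · simp [h]
  · simp [h]

/-- the subgroup of characters of exponent dividing `m` -/
def torsionChars (G : Type*) [Group G] (m : ℕ) : Subgroup (G →* ℂˣ) where
  carrier := {lam | lam ^ m = 1}
  one_mem' := one_pow m
  mul_mem' := by
    intro a b ha hb
    have ha' : a ^ m = 1 := ha
    have hb' : b ^ m = 1 := hb
    show (a * b) ^ m = 1
    ext g
    have h1 := DFunLike.congr_fun ha' g
    have h2 := DFunLike.congr_fun hb' g
    simp only [MonoidHom.pow_apply, MonoidHom.mul_apply, MonoidHom.one_apply] at h1 h2 ⊢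
    rw [mul_pow, h1, h2, one_mul]
  inv_mem' := by
    intro a ha
    have ha' : a ^ m = 1 := ha
    show a⁻¹ ^ m = 1
    ext g
    have h1 := DFunLike.congr_fun ha' g
    simp only [MonoidHom.pow_apply, MonoidHom.inv_apply, MonoidHom.one_apply] at h1 ⊢
    rw [inv_pow, h1, inv_one]

theorem mem_torsionChars (m : ℕ) (lam : G →* ℂˣ) : lam ∈ torsionChars G m ↔ lam ^ m = 1 := Iff.rfl

theorem isPGroup_torsionChars (k : ℕ) : IsPGroup 2 (torsionChars G (2 ^ k)) := by
  intro lam
  refine ⟨k, ?_⟩
  apply Subtype.ext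
  exact lam.2

/-- A non-cyclic finite 2-group has at least three characters of order dividing two. -/
theorem three_le_card_torsionChars [Finite G] (hG : IsPGroup 2 G) (hnc : ¬ IsCyclic G) :
    3 ≤ Nat.card (torsionChars G 2) := by
  classical
  haveI : Fact (Nat.Prime 2) := ⟨Nat.prime_two⟩
  obtain ⟨n, hn⟩ := IsPGroup.iff_card.mp hG
  have hn1 : 1 ≤ n := by
    by_contra h0
    have : n = 0 := by omega
    rw [this, pow_zero] at hn
    apply hnc
    haveI : Subsingleton G := (Nat.card_eq_one_iff_unique.mp hn).1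
    infer_instance
  obtain ⟨M1, hM1⟩ := Sylow.exists_subgroup_card_pow_prime 2
    (show 2 ^ (n - 1) ∣ Nat.card G by rw [hn]; exact pow_dvd_pow 2 (by omega))
  have hidx : ∀ M : Subgroup G, Nat.card M = 2 ^ (n - 1) → M.index = 2 := by
    intro M hM
    have h1 := M.card_mul_index
    rw [hM, hn] at h1
    have h2 : 2 ^ n = 2 ^ (n - 1) * 2 := by
      rw [← pow_succ]
      congr 1
      omega
    rw [h2] at h1
    exact Nat.eq_of_mul_eq_mul_left (by positivity) h1
  have hM1i := hidx M1 hM1
  have hM1top : M1 ≠ ⊤ := by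
    intro h
    rw [h, Subgroup.index_top] at hM1i
    omega
  obtain ⟨x, hx⟩ : ∃ x : G, x ∉ M1 := by
    by_contra hcon
    push Not at hcon
    exact hM1top (eq_top_iff.mpr fun y _ => hcon y)
  -- the cyclic subgroup generated by x
  obtain ⟨j, hj⟩ : ∃ j, Nat.card (Subgroup.zpowers x) = 2 ^ j := by
    have h1 : Nat.card (Subgroup.zpowers x) ∣ 2 ^ n := hn ▸ Subgroup.card_subgroup_dvd_card _
    obtain ⟨j, _, hj⟩ := (Nat.dvd_prime_pow Nat.prime_two).mp h1
    exact ⟨j, hj⟩
  have hjn : j ≤ n - 1 := by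
    by_contra hcon
    have h1 : Nat.card (Subgroup.zpowers x) ∣ 2 ^ n := hn ▸ Subgroup.card_subgroup_dvd_card _
    rw [hj] at h1
    have h2 : j ≤ n := (Nat.pow_dvd_pow_iff_le_right (by norm_num)).mp h1
    have h3 : j = n := by omega
    apply hnc
    apply isCyclic_of_orderOf_eq_card x
    rw [← Nat.card_zpowers, hj, h3, hn]
  obtain ⟨M2, hM2, hxM2⟩ := Sylow.exists_subgroup_card_pow_prime_le 2
    (show 2 ^ (n - 1) ∣ Nat.card G by rw [hn]; exact pow_dvd_pow 2 (by omega))
    (Subgroup.zpowers x) hj hjn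
  have hM2i := hidx M2 hM2
  have hx2 : x ∈ M2 := hxM2 (Subgroup.mem_zpowers x)
  -- three distinct elements
  let l1 : torsionChars G 2 := ⟨signHom M1 hM1i, signHom_sq M1 hM1i⟩
  let l2 : torsionChars G 2 := ⟨signHom M2 hM2i, signHom_sq M2 hM2i⟩
  have h12 : l1 ≠ l2 := by
    intro h
    have h1 := congrArg (fun l : torsionChars G 2 => (l : G →* ℂˣ) x) h
    simp only [l1, l2] at h1
    have h2 : signHom M2 hM2i x = 1 := (signHom_apply_eq_one_iff M2 hM2i x).mpr hx2
    rw [h2, signHom_apply_eq_one_iff] at h1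
    exact hx h1
  have h11 : l1 ≠ 1 := by
    intro h
    have h1 := congrArg (fun l : torsionChars G 2 => (l : G →* ℂˣ) x) h
    simp only [l1] at h1
    have h2 : ((1 : torsionChars G 2) : G →* ℂˣ) x = 1 := rfl
    rw [h2, signHom_apply_eq_one_iff] at h1
    exact hx h1
  have h21 : l2 ≠ 1 := by
    obtain ⟨y, hy⟩ : ∃ y : G, y ∉ M2 := by
      by_contra hcon
      push Not at hcon
      have : M2 = ⊤ := eq_top_iff.mpr fun y _ => hcon y
      rw [this, Subgroup.index_top] at hM2i
      omega
    intro h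
    have h1 := congrArg (fun l : torsionChars G 2 => (l : G →* ℂˣ) y) h
    simp only [l2] at h1
    have h2 : ((1 : torsionChars G 2) : G →* ℂˣ) y = 1 := rfl
    rw [h2, signHom_apply_eq_one_iff] at h1
    exact hy h1
  haveI : Fintype (torsionChars G 2) := Fintype.ofFinite _
  rw [Nat.card_eq_fintype_card]
  have hsub : ({1, l1, l2} : Finset (torsionChars G 2)) ⊆ Finset.univ := Finset.subset_univ _
  have hc : ({1, l1, l2} : Finset (torsionChars G 2)).card = 3 := by
    rw [Finset.card_insert_of_notMem, Finset.card_insert_of_notMem, Finset.card_singleton]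
    · simpa using h12
    · simp only [Finset.mem_insert, Finset.mem_singleton, not_or]
      exact ⟨h11.symm, h21.symm⟩
  calc 3 = ({1, l1, l2} : Finset (torsionChars G 2)).card := hc.symm
    _ ≤ Finset.univ.card := Finset.card_le_card hsub
    _ = Fintype.card _ := Finset.card_univ

end Cfsg.Agent.Lib.Helper8.AFT
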