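import Mathlib
import Cfsg.Agent.Lib.Helper8.AFT2

set_option autoImplicit false

/-!
# Alperin–Feit–Thompson: arithmetic
-/

namespace Cfsg.Agent.Lib.Helper8.AFT

open scoped ComplexConjugate
open Cfsg.Agent.Lib.Helper6 Cfsg.Agent.Lib.Helper8.FS Cfsg.Agent.Lib.Helper8.GlauL

variable {G : Type*} [Group G] [Fintype G]

/-- real-valued -/
def IsRe (χ : Cfsg.IrrCharacter G) : Prop := ∀ g : G, conj ((χ : G → ℂ) g) = (χ : G → ℂ) g

/-- the Frobenius–Schur indicator as an integer -/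
noncomputable def nuZ (χ : Cfsg.IrrCharacter G) : ℤ := by
  classical
  exact if fsInd (χ : G → ℂ) = 1 then 1 else if fsInd (χ : G → ℂ) = -1 then -1 else 0

theorem nuZ_cast (χ : Cfsg.IrrCharacter G) : ((nuZ χ : ℤ) : ℂ) = fsInd (χ : G → ℂ) := by
  classical
  unfold nuZ
  rcases fsInd_irr_cases χ with h | h | h
  · rw [h]; simp
  · rw [h]; simp
  · rw [h]
    have : (-1 : ℂ) ≠ 1 := by norm_num
    simp [this]

theorem nuZ_of_not_re (χ : Cfsg.IrrCharacter G) (h : ¬ IsRe χ) : nuZ χ = 0 := by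
  have h1 : fsInd (χ : G → ℂ) = 0 := by
    apply fsInd_irr_eq_zero
    unfold IsRe at h
    push Not at h
    exact h
  have h2 := nuZ_cast χ
  rw [h1] at h2
  exact_mod_cast h2

theorem nuZ_of_re (χ : Cfsg.IrrCharacter G) (h : IsRe χ) : nuZ χ = 1 ∨ nuZ χ = -1 := by
  have h2 := nuZ_cast χ
  rcases fsInd_irr_of_real χ h with h1 | h1
  · left
    rw [h1] at h2
    exact_mod_cast h2
  · right
    rw [h1] at h2
    exact_mod_cast h2

theorem apply_one_of_charDegree {χ : Cfsg.IrrCharacter G} {d : ℕ}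
    (hd : Cfsg.charDegree (χ : G → ℂ) = d) : (χ : G → ℂ) 1 = (d : ℂ) := by
  rw [IsCharacter.apply_one_eq_charDegree (IsIrrCharacter.isCharacter χ.2), hd]

theorem nuZ_linear (χ : Cfsg.IrrCharacter G) (hd : Cfsg.charDegree (χ : G → ℂ) = 1)
    (h : IsRe χ) : nuZ χ = 1 := by
  have h1 : fsInd (χ : G → ℂ) = 1 := by
    have h2 := classInner_irrCharacter χ χ
    rw [if_pos rfl] at h2
    rw [← h2]
    unfold fsInd Cfsg.classInner
    congr 1
    apply Finset.sum_congr rfl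
    intro g _
    rw [h g]
    have h3 : (χ : G → ℂ) 1 = 1 := by
      rw [apply_one_of_charDegree hd]
      simp
    exact IsCharacter.mul_of_apply_one_eq_one (IsIrrCharacter.isCharacter χ.2) h3 g g
  have h2 := nuZ_cast χ
  rw [h1] at h2
  exact_mod_cast h2

theorem sum_nuZ [Fintype (Cfsg.IrrCharacter G)] :
    ∑ χ : Cfsg.IrrCharacter G, nuZ χ * (Cfsg.charDegree (χ : G → ℂ) : ℤ)
      = 1 + (Nat.card {x : G // orderOf x = 2} : ℤ) := by
  have h1 := sqrtCount_eq (1 : G)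
  rw [sqrtCount_one] at h1
  have h2 : ((∑ χ : Cfsg.IrrCharacter G, nuZ χ * (Cfsg.charDegree (χ : G → ℂ) : ℤ) : ℤ) : ℂ)
      = ((1 + (Nat.card {x : G // orderOf x = 2} : ℤ) : ℤ) : ℂ) := by
    push_cast
    rw [h1]
    apply Finset.sum_congr rfl
    intro χ _
    rw [nuZ_cast, IsCharacter.apply_one_eq_charDegree (IsIrrCharacter.isCharacter χ.2)]
  exact_mod_cast h2

/-- the mod 4 contribution of a character of a 2-group -/
theorem nuZ_mul_degree_modEq (hG : IsPGroup 2 G) (χ : Cfsg.IrrCharacter G)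
    [Decidable (Cfsg.charDegree (χ : G → ℂ) = 1 ∧ IsRe χ)]
    [Decidable (Cfsg.charDegree (χ : G → ℂ) = 2 ∧ IsRe χ)] :
    nuZ χ * (Cfsg.charDegree (χ : G → ℂ) : ℤ) ≡
      (if Cfsg.charDegree (χ : G → ℂ) = 1 ∧ IsRe χ then 1 else 0)
      + 2 * (if Cfsg.charDegree (χ : G → ℂ) = 2 ∧ IsRe χ then 1 else 0) [ZMOD 4] := by
  obtain ⟨n, hn⟩ := IsPGroup.iff_card.mp hG
  have hdvd : Cfsg.charDegree (χ : G → ℂ) ∣ 2 ^ n := by
    rw [← hn]
    exact IsIrrCharacter.charDegree_dvd_card χ.2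
  obtain ⟨j, _, hj⟩ := (Nat.dvd_prime_pow Nat.prime_two).mp hdvd
  by_cases hre : IsRe χ
  · rcases Nat.lt_or_ge j 2 with hj2 | hj2
    · interval_cases j
      · -- degree one
        have hd : Cfsg.charDegree (χ : G → ℂ) = 1 := by rw [hj]; rfl
        rw [nuZ_linear χ hd hre]
        simp [hd, hre]
      · have hd : Cfsg.charDegree (χ : G → ℂ) = 2 := by rw [hj]; rfl
        rcases nuZ_of_re χ hre with h | h
        · rw [h]
          simp [hd, hre]
        · rw [h]
          simp only [hd, hre, and_true]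
          decide
    · have h4 : (4 : ℤ) ∣ (Cfsg.charDegree (χ : G → ℂ) : ℤ) := by
        rw [hj]
        obtain ⟨i, rfl⟩ := Nat.exists_eq_add_of_le hj2
        push_cast
        rw [pow_add]
        norm_num
      have hne1 : Cfsg.charDegree (χ : G → ℂ) ≠ 1 := by
        intro h
        rw [h] at h4
        norm_num at h4
      have hne2 : Cfsg.charDegree (χ : G → ℂ) ≠ 2 := by
        intro h
        rw [h] at h4
        norm_num at h4
      simp only [hne1, hne2, false_and, if_false, mul_zero, add_zero]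
      exact (Int.modEq_zero_iff_dvd.mpr (Dvd.dvd.mul_left h4 _))
  · rw [nuZ_of_not_re χ hre]
    simp [hre]

theorem sum_modEq [Fintype (Cfsg.IrrCharacter G)] (hG : IsPGroup 2 G) :
    (1 + (Nat.card {x : G // orderOf x = 2} : ℤ)) ≡
      (Nat.card {χ : Cfsg.IrrCharacter G // Cfsg.charDegree (χ : G → ℂ) = 1 ∧ IsRe χ} : ℤ)
      + 2 * (Nat.card {χ : Cfsg.IrrCharacter G // Cfsg.charDegree (χ : G → ℂ) = 2 ∧ IsRe χ} : ℤ)
      [ZMOD 4] := by
  classical
  rw [← sum_nuZ]
  have h1 := Int.ModEq.sum (s := (Finset.univ : Finset (Cfsg.IrrCharacter G)))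
    (fun χ _ => nuZ_mul_degree_modEq hG χ)
  refine h1.trans ?_
  rw [Finset.sum_add_distrib, ← Finset.mul_sum]
  rw [Finset.sum_boole, Finset.sum_boole]
  rw [Nat.card_eq_fintype_card, Nat.card_eq_fintype_card, Fintype.card_subtype, Fintype.card_subtype]

end Cfsg.Agent.Lib.Helper8.AFT
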