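import Mathlib
import Cfsg.Prelude.Def_Transfer
import Cfsg.Prelude.Def_CaseTheorems

set_option autoImplicit false
set_option linter.unusedVariables false
set_option linter.unusedSectionVars false
set_option linter.style.longLine false

/-! # W2 = S4402: definitions.

`P ≤ S` with `P ≅ D8 ≀ Z2 = Syl₂(S₈)` (order 128).  Inside `P = (D1 × D2)⟨τ⟩`:
`V1, V2` the two normal `E16`, `B = V1 ⊔ V2 = D1 × D2` (order 64), `Z0 = V1 ⊓ V2 = Z(B) = {1, z1, z2, z1 z2}`,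
`Z(P) = ⟨z1 z2⟩`, `τ ∈ P ∖ B` an involution with `τ z1 τ⁻¹ = z2`.
`WD` collects the facts about `P` that the abstract proof uses (all checked by brute force on the 128 elements). -/

namespace Cfsg.Agent.Lib.Helper8.W2

universe u

variable {S : Type u} [Group S]

/-- the commutator `x y x⁻¹ y⁻¹` -/
def cm (x y : S) : S := x * y * x⁻¹ * y⁻¹

/-- `w ∈ B` and `[w, B] ⊆ {1, zi}` -/
def InC (B : Subgroup S) (zi w : S) : Prop := w ∈ B ∧ ∀ d ∈ B, cm w d = 1 ∨ cm w d = zi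

/-- the facts about `P = Syl₂(S₈)` inside `S` -/
structure WD (P V1 V2 B Z0 : Subgroup S) (z1 z2 τ : S) : Prop where
  cardP : Nat.card P = 128
  V1le : V1 ≤ P
  V2le : V2 ≤ P
  V1n : ∀ g ∈ P, ∀ v ∈ V1, g * v * g⁻¹ ∈ V1
  V2n : ∀ g ∈ P, ∀ v ∈ V2, g * v * g⁻¹ ∈ V2
  V1e : Cfsg.IsElementaryAbelian 2 V1
  V2e : Cfsg.IsElementaryAbelian 2 V2
  V1c : Nat.card V1 = 16
  V2c : Nat.card V2 = 16
  ne12 : V1 ≠ V2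
  /-- (P2) the only normal elementary abelian subgroups of order 16 -/
  uniq : ∀ V : Subgroup S, V ≤ P → (∀ g ∈ P, ∀ v ∈ V, g * v * g⁻¹ ∈ V) → Cfsg.IsElementaryAbelian 2 V →
    Nat.card V = 16 → V = V1 ∨ V = V2
  hB : B = V1 ⊔ V2
  hZ0 : Z0 = V1 ⊓ V2
  cardB : Nat.card B = 64
  memZ0 : ∀ x : S, x ∈ Z0 ↔ x = 1 ∨ x = z1 ∨ x = z2 ∨ x = z1 * z2
  z1ne : z1 ≠ 1
  z2ne : z2 ≠ 1
  z12 : z1 ≠ z2
  /-- (P1) -/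
  center : ∀ c ∈ P, (∀ g ∈ P, c * g = g * c) → c = 1 ∨ c = z1 * z2
  zcentral : ∀ g ∈ P, (z1 * z2) * g = g * (z1 * z2)
  /-- (P4) -/
  sqB : ∀ d ∈ B, d * d ∈ Z0
  commB : ∀ d ∈ B, ∀ d' ∈ B, cm d d' ∈ Z0
  Z0c : ∀ c ∈ Z0, ∀ d ∈ B, c * d = d * c
  selfC : ∀ d ∈ B, (∀ d' ∈ B, d * d' = d' * d) → d ∈ Z0
  τP : τ ∈ P
  τB : τ ∉ B
  τsq : τ * τ = 1
  τz : τ * z1 * τ⁻¹ = z2
  /-- (P5) -/
  invol : ∀ t ∈ P, t ∉ B → t * t = 1 → ∃ p ∈ P, t = p * τ * p⁻¹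
  /-- (P6) -/
  centτ : Nat.card (P ⊓ Subgroup.centralizer {τ} : Subgroup S) = 16
  /-- (P7) -/
  Z2 : ∀ n ∈ P, (∀ g ∈ P, cm n g = 1 ∨ cm n g = z1 * z2) → n ∈ Z0
  /-- (P8) -/
  p8a : ∀ zi : S, (zi = z1 ∨ zi = z2) → ∀ u u' : S, ((u ∈ V1 ∧ u' ∈ V1) ∨ (u ∈ V2 ∧ u' ∈ V2)) →
    InC B zi u → InC B zi u' → u ∉ Z0 → u' ∉ Z0 → u' * u⁻¹ ∈ Z0
  p8b : B ≤ Subgroup.closure {u : S | (u ∈ V1 ∨ u ∈ V2) ∧ (InC B z1 u ∨ InC B z2 u)}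

end Cfsg.Agent.Lib.Helper8.W2
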