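import Mathlib
import Cfsg.Agent.Lib.Helper5.GH7Sec
import Cfsg.Agent.Lib.Helper8.W2Defs

/-! # W2 = S4402, STEP1 part a: the core (an element fixing `z1`). -/

set_option autoImplicit false
set_option linter.unusedVariables false
set_option linter.unusedSectionVars false
set_option linter.style.longLine false
set_option maxHeartbeats 1000000

namespace Cfsg.Agent.Lib.Helper8.W2

universe u

variable {S : Type u} [Group S] [Finite S] {P V1 V2 B Z0 : Subgroup S} {z1 z2 τ : S}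

/-- `x` normalises the subgroup `V` (iff form) -/
def Nrm (x : S) (V : Subgroup S) : Prop := ∀ v : S, v ∈ V ↔ x * v * x⁻¹ ∈ V

theorem nrm_of_forall {x : S} {V : Subgroup S} (h : ∀ v ∈ V, x * v * x⁻¹ ∈ V) : Nrm x V := by
  intro v
  refine ⟨h v, fun hv => ?_⟩
  have h' := Cfsg.Agent.Lib.Helper5.GH7.conj_inv_mem_of_conj_mem V x h _ hv
  have e : x⁻¹ * (x * v * x⁻¹) * x = v := by group
  rwa [e] at h'

theorem Nrm.inv_mem {x : S} {V : Subgroup S} (h : Nrm x V) {v : S} (hv : v ∈ V) : x⁻¹ * v * x ∈ V := by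
  rw [h]
  have e : x * (x⁻¹ * v * x) * x⁻¹ = v := by group
  rwa [e]

theorem Nrm.mul {x y : S} {V : Subgroup S} (hx : Nrm x V) (hy : Nrm y V) : Nrm (x * y) V := by
  intro v
  rw [hy v, hx (y * v * y⁻¹)]
  have e : x * y * v * (x * y)⁻¹ = x * (y * v * y⁻¹) * x⁻¹ := by group
  rw [e]

theorem nrm_of_mem {x : S} {V : Subgroup S} (hx : x ∈ V) : Nrm x V := by
  intro v
  constructor
  · intro hv
    exact mul_mem (mul_mem hx hv) (inv_mem hx)
  · intro h
    have e : v = x⁻¹ * (x * v * x⁻¹) * x := by group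
    rw [e]
    exact mul_mem (mul_mem (inv_mem hx) h) hx

theorem nrm_sup {x : S} {V W : Subgroup S} (hV : Nrm x V) (hW : Nrm x W) : Nrm x (V ⊔ W) := by
  apply nrm_of_forall
  intro v hv
  have hle : V ⊔ W ≤ (V ⊔ W).comap (MulAut.conj x).toMonoidHom := by
    apply sup_le
    · intro a ha
      rw [Subgroup.mem_comap]
      show x * a * x⁻¹ ∈ V ⊔ W
      exact Subgroup.mem_sup_left ((hV a).mp ha)
    · intro a ha
      rw [Subgroup.mem_comap]
      show x * a * x⁻¹ ∈ V ⊔ W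
      exact Subgroup.mem_sup_right ((hW a).mp ha)
  exact hle hv

theorem nrm_inf {x : S} {V W : Subgroup S} (hV : Nrm x V) (hW : Nrm x W) : Nrm x (V ⊓ W) := by
  intro v
  rw [Subgroup.mem_inf, Subgroup.mem_inf, hV v, hW v]

theorem cm_conj (x w d : S) : cm (x * w * x⁻¹) d = x * cm w (x⁻¹ * d * x) * x⁻¹ := by
  unfold cm; group

theorem cm_swap (a b : S) : cm a b = (cm b a)⁻¹ := by unfold cm; group

theorem cm_self (a : S) : cm a a = 1 := by unfold cm; group

namespace WD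

theorem Z0_le_V1 (w : WD P V1 V2 B Z0 z1 z2 τ) : Z0 ≤ V1 := by rw [w.hZ0]; exact inf_le_left

theorem Z0_le_B (w : WD P V1 V2 B Z0 z1 z2 τ) : Z0 ≤ B := by
  rw [w.hB]; exact le_trans w.Z0_le_V1 le_sup_left

theorem B_le_P (w : WD P V1 V2 B Z0 z1 z2 τ) : B ≤ P := by
  rw [w.hB]; exact sup_le w.V1le w.V2le

theorem z1_mem (w : WD P V1 V2 B Z0 z1 z2 τ) : z1 ∈ Z0 := (w.memZ0 z1).mpr (Or.inr (Or.inl rfl))
theorem z2_mem (w : WD P V1 V2 B Z0 z1 z2 τ) : z2 ∈ Z0 := (w.memZ0 z2).mpr (Or.inr (Or.inr (Or.inl rfl)))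
theorem z_mem (w : WD P V1 V2 B Z0 z1 z2 τ) : z1 * z2 ∈ Z0 := (w.memZ0 _).mpr (Or.inr (Or.inr (Or.inr rfl)))

theorem sq_Z0 (w : WD P V1 V2 B Z0 z1 z2 τ) {c : S} (hc : c ∈ Z0) : c * c = 1 := by
  have := w.V1e.2 c (w.Z0_le_V1 hc)
  rwa [pow_two] at this

theorem comm_Z0 (w : WD P V1 V2 B Z0 z1 z2 τ) {c d : S} (hc : c ∈ Z0) (hd : d ∈ B) : c * d = d * c :=
  w.Z0c c hc d hd

theorem z_ne_one (w : WD P V1 V2 B Z0 z1 z2 τ) : z1 * z2 ≠ 1 := by
  intro h
  have h1 : z1 * z1 = 1 := w.sq_Z0 w.z1_mem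
  have : z1 = z2 := by
    have e : z2 = z1⁻¹ := eq_inv_of_mul_eq_one_right h
    have e1 : z1⁻¹ = z1 := inv_eq_of_mul_eq_one_left h1
    rw [e, e1]
  exact w.z12 this

theorem card_Z0_le (w : WD P V1 V2 B Z0 z1 z2 τ) : Nat.card Z0 ≤ 4 := by
  classical
  have hsub : (Z0 : Set S) ⊆ ({1, z1, z2, z1 * z2} : Finset S) := by
    intro x hx
    have := (w.memZ0 x).mp hx
    simp only [Finset.coe_insert, Finset.coe_singleton, Set.mem_insert_iff, Set.mem_singleton_iff]
    exact this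
  have h1 : Nat.card Z0 = (Z0 : Set S).ncard := (Nat.card_coe_set_eq _)
  rw [h1]
  calc (Z0 : Set S).ncard ≤ ((({1, z1, z2, z1 * z2} : Finset S)) : Set S).ncard :=
        Set.ncard_le_ncard hsub (Finset.finite_toSet _)
    _ = ({1, z1, z2, z1 * z2} : Finset S).card := Set.ncard_coe_finset _
    _ ≤ 4 := Finset.card_le_four

end WD

/-- the properties of the element that produces the section -/
structure Good (B Z0 : Subgroup S) (g : S) : Prop where
  nB : Nrm g B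
  cmB : ∀ d ∈ B, cm g d ∈ Z0
  fixZ : ∀ c ∈ Z0, g * c * g⁻¹ = c

theorem Good.sq (w : WD P V1 V2 B Z0 z1 z2 τ) {g : S} (h : Good B Z0 g) : Good B Z0 (g * g) := by
  refine ⟨h.nB.mul h.nB, ?_, ?_⟩
  · intro d hd
    have h1 := h.cmB d hd
    have e : cm (g * g) d = (g * cm g d * g⁻¹) * cm g d := by unfold cm; group
    rw [e, h.fixZ _ h1]
    exact mul_mem h1 h1
  · intro c hc
    have e : g * g * c * (g * g)⁻¹ = g * (g * c * g⁻¹) * g⁻¹ := by group
    rw [e, h.fixZ c hc, h.fixZ c hc]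

theorem Good.pow_two_pow (w : WD P V1 V2 B Z0 z1 z2 τ) {g : S} (h : Good B Z0 g) (k : ℕ) :
    Good B Z0 (g ^ (2 ^ k)) := by
  induction k with
  | zero => simpa using h
  | succ k ih =>
    have e : g ^ (2 ^ (k + 1)) = g ^ (2 ^ k) * g ^ (2 ^ k) := by
      rw [pow_succ, pow_mul, pow_two]
    rw [e]
    exact Good.sq w ih

theorem card_ge_two_mul' {H K : Subgroup S} (hle : H ≤ K) {x : S} (hx : x ∈ K) (hxn : x ∉ H) :
    2 * Nat.card H ≤ Nat.card K := by
  obtain ⟨m, hm⟩ := Subgroup.card_dvd_of_le hle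
  have hpos : 0 < Nat.card H := Nat.card_pos
  have hposK : 0 < Nat.card K := Nat.card_pos
  rcases m with _ | _ | m
  · rw [mul_zero] at hm; omega
  · exfalso
    have hEq : H = K := Subgroup.eq_of_le_of_card_ge hle (by rw [hm]; omega)
    exact hxn (hEq ▸ hx)
  · rw [hm]
    calc 2 * Nat.card H = Nat.card H * 2 := by ring
      _ ≤ Nat.card H * (m + 1 + 1) := Nat.mul_le_mul_left _ (by omega)

/-- a good element outside `B` whose square lies in `B` gives an `E32` section -/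
theorem false_of_good (w : WD P V1 V2 B Z0 z1 z2 τ) (hr : Cfsg.SectionalPRankLE 2 4 S) {y : S}
    (hy : Good B Z0 y) (hyB : y ∉ B) (hyy : y * y ∈ B) : False := by
  -- y * y centralises B
  have hcen : ∀ d ∈ B, (y * y) * d = d * (y * y) := by
    intro d hd
    have h1 := hy.cmB d hd
    have e : cm (y * y) d = (y * cm y d * y⁻¹) * cm y d := by unfold cm; group
    have e2 : cm (y * y) d = 1 := by rw [e, hy.fixZ _ h1, w.sq_Z0 h1]
    unfold cm at e2
    have e3 : y * y * d = (y * y * d * (y * y)⁻¹ * d⁻¹) * d * (y * y) := by group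
    rw [e3, e2, one_mul]
  have hyyZ : y * y ∈ Z0 := w.selfC _ hyy hcen
  have hn : ∀ t ∈ ((B : Set S) ∪ {y}), ∀ m ∈ Z0, t * m * t⁻¹ ∈ Z0 := by
    intro t ht m hm
    rcases ht with ht | ht
    · have := w.comm_Z0 hm ht
      have e : t * m * t⁻¹ = m := by rw [← this]; group
      rw [e]; exact hm
    · rw [Set.mem_singleton_iff] at ht
      rw [ht, hy.fixZ m hm]; exact hm
  have hsq : ∀ t ∈ ((B : Set S) ∪ {y}), t * t ∈ Z0 := by
    intro t ht
    rcases ht with ht | ht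
    · exact w.sqB t ht
    · rw [Set.mem_singleton_iff] at ht
      rw [ht]; exact hyyZ
  have hcomm : ∀ t ∈ ((B : Set S) ∪ {y}), ∀ t' ∈ ((B : Set S) ∪ {y}), t * t' * t⁻¹ * t'⁻¹ ∈ Z0 := by
    intro t ht t' ht'
    show cm t t' ∈ Z0
    rcases ht with ht | ht
    · rcases ht' with ht' | ht'
      · exact w.commB t ht t' ht'
      · rw [Set.mem_singleton_iff] at ht'
        rw [ht', cm_swap]
        exact inv_mem (hy.cmB t ht)
    · rw [Set.mem_singleton_iff] at ht
      rcases ht' with ht' | ht'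
      · rw [ht]; exact hy.cmB t' ht'
      · rw [Set.mem_singleton_iff] at ht'
        rw [ht, ht', cm_self]; exact one_mem _
  have hBcl : B ≤ Subgroup.closure ((B : Set S) ∪ {y}) := by
    intro b hb
    exact Subgroup.subset_closure (Or.inl hb)
  have hM : Z0 ≤ Subgroup.closure ((B : Set S) ∪ {y}) := le_trans w.Z0_le_B hBcl
  have hycl : y ∈ Subgroup.closure ((B : Set S) ∪ {y}) :=
    Subgroup.subset_closure (Or.inr (Set.mem_singleton y))
  have hc1 := card_ge_two_mul' hBcl hycl hyB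
  have hc2 := w.card_Z0_le
  have hc3 := w.cardB
  have hcard : 32 * Nat.card Z0 ≤ Nat.card (Subgroup.closure ((B : Set S) ∪ {y})) := by omega
  exact Cfsg.Agent.Lib.Helper5.GH7.false_of_gen_section hr Z0 _ hn hsq hcomm hM hcard

/-- a good element lies in `B` -/
theorem good_mem_B (w : WD P V1 V2 B Z0 z1 z2 τ) (hr : Cfsg.SectionalPRankLE 2 4 S) (h2 : IsPGroup 2 S)
    {x : S} (hx : Good B Z0 x) : x ∈ B := by
  by_contra hxB
  obtain ⟨k, hk⟩ := h2 x
  have hex : ∃ k : ℕ, x ^ (2 ^ k) ∈ B := ⟨k, by rw [hk]; exact one_mem _⟩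
  classical
  have hk0 := Nat.find_spec hex
  have hmin := fun m => Nat.find_min hex (m := m)
  have hpos : Nat.find hex ≠ 0 := by
    intro h0
    rw [h0] at hk0
    simp at hk0
    exact hxB hk0
  obtain ⟨j, hj⟩ := Nat.exists_eq_succ_of_ne_zero hpos
  have hyB : x ^ (2 ^ j) ∉ B := hmin j (by omega)
  have hyy : x ^ (2 ^ j) * x ^ (2 ^ j) ∈ B := by
    have e : x ^ (2 ^ j) * x ^ (2 ^ j) = x ^ (2 ^ (j + 1)) := by
      rw [pow_succ, pow_mul, pow_two]
    rw [e, ← Nat.succ_eq_add_one, ← hj]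
    exact hk0
  exact false_of_good w hr (hx.pow_two_pow w j) hyB hyy

end Cfsg.Agent.Lib.Helper8.W2
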