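import Mathlib
import Cfsg.Agent.Lib.Helper8.W2Step1a

/-! # W2 = S4402, STEP1 part b: an element of `N_S(P)` normalising `V1` lies in `P`. -/

set_option autoImplicit false
set_option linter.unusedVariables false
set_option linter.unusedSectionVars false
set_option linter.style.longLine false
set_option maxHeartbeats 1000000

namespace Cfsg.Agent.Lib.Helper8.W2

universe u

variable {S : Type u} [Group S] [Finite S] {P V1 V2 B Z0 : Subgroup S} {z1 z2 τ : S}

theorem nrm_of_normalizer {x : S} {H : Subgroup S} (h : x ∈ Subgroup.normalizer (H : Set S)) : Nrm x H := by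
  intro v
  exact Subgroup.mem_normalizer_iff.mp h v

/-- `x` fixes `z1 z2` as soon as it normalises `P` -/
theorem WD.fix_z (w : WD P V1 V2 B Z0 z1 z2 τ) {x : S} (nP : Nrm x P) : x * (z1 * z2) * x⁻¹ = z1 * z2 := by
  have hzP : z1 * z2 ∈ P := w.B_le_P (w.Z0_le_B w.z_mem)
  have hcP : x * (z1 * z2) * x⁻¹ ∈ P := (nP _).mp hzP
  have hcomm : ∀ g ∈ P, x * (z1 * z2) * x⁻¹ * g = g * (x * (z1 * z2) * x⁻¹) := by
    intro g hg
    have hg' : x⁻¹ * g * x ∈ P := nP.inv_mem hg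
    have h1 := w.zcentral _ hg'
    calc x * (z1 * z2) * x⁻¹ * g = x * ((z1 * z2) * (x⁻¹ * g * x)) * x⁻¹ := by group
      _ = x * ((x⁻¹ * g * x) * (z1 * z2)) * x⁻¹ := by rw [h1]
      _ = g * (x * (z1 * z2) * x⁻¹) := by group
  rcases w.center _ hcP hcomm with h | h
  · exfalso
    apply w.z_ne_one
    have : z1 * z2 = x⁻¹ * (x * (z1 * z2) * x⁻¹) * x := by group
    rw [this, h]; group
  · exact h

/-- the core: `x` normalises `P, V1, V2` and fixes `z1` ⇒ `x ∈ B` -/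
theorem step1_core (w : WD P V1 V2 B Z0 z1 z2 τ) (hr : Cfsg.SectionalPRankLE 2 4 S) (h2 : IsPGroup 2 S) {x : S}
    (nP : Nrm x P) (nV1 : Nrm x V1) (nV2 : Nrm x V2) (hz1 : x * z1 * x⁻¹ = z1) : x ∈ B := by
  have nB : Nrm x B := by rw [w.hB]; exact nrm_sup nV1 nV2
  have nZ0 : Nrm x Z0 := by rw [w.hZ0]; exact nrm_inf nV1 nV2
  have hz := w.fix_z nP
  have hz2 : x * z2 * x⁻¹ = z2 := by
    have e : x * z2 * x⁻¹ = (x * z1 * x⁻¹)⁻¹ * (x * (z1 * z2) * x⁻¹) := by group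
    rw [e, hz1, hz]; group
  have fixZ : ∀ c ∈ Z0, x * c * x⁻¹ = c := by
    intro c hc
    rcases (w.memZ0 c).mp hc with h | h | h | h
    · rw [h]; group
    · rw [h]; exact hz1
    · rw [h]; exact hz2
    · rw [h]; exact hz
  -- conjugation by `x` preserves `InC B zi`
  have hInC : ∀ zi : S, x * zi * x⁻¹ = zi → ∀ u : S, InC B zi u → InC B zi (x * u * x⁻¹) := by
    intro zi hzi u hu
    refine ⟨(nB _).mp hu.1, ?_⟩
    intro d hd
    have hd' : x⁻¹ * d * x ∈ B := nB.inv_mem hd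
    rw [cm_conj]
    rcases hu.2 _ hd' with h | h
    · left; rw [h]; group
    · right; rw [h]; exact hzi
  -- generators
  have hgen : ∀ u : S, (u ∈ V1 ∨ u ∈ V2) ∧ (InC B z1 u ∨ InC B z2 u) → u ∈ B ∧ cm x u ∈ Z0 := by
    intro u hu
    have huB : u ∈ B := by
      rcases hu.2 with h | h
      · exact h.1
      · exact h.1
    refine ⟨huB, ?_⟩
    by_cases huZ : u ∈ Z0
    · have : cm x u = 1 := by
        unfold cm
        rw [fixZ u huZ]; group
      rw [this]; exact one_mem _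
    · have huZ' : x * u * x⁻¹ ∉ Z0 := fun h => huZ ((nZ0 _).mpr h)
      have hV : (u ∈ V1 ∧ x * u * x⁻¹ ∈ V1) ∨ (u ∈ V2 ∧ x * u * x⁻¹ ∈ V2) := by
        rcases hu.1 with h | h
        · exact Or.inl ⟨h, (nV1 _).mp h⟩
        · exact Or.inr ⟨h, (nV2 _).mp h⟩
      have key : x * u * x⁻¹ * u⁻¹ ∈ Z0 := by
        rcases hu.2 with h | h
        · exact w.p8a z1 (Or.inl rfl) u (x * u * x⁻¹) hV h (hInC z1 hz1 u h) huZ huZ'
        · exact w.p8a z2 (Or.inr rfl) u (x * u * x⁻¹) hV h (hInC z2 hz2 u h) huZ huZ'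
      exact key
  -- closure induction
  have hall : ∀ d ∈ Subgroup.closure {u : S | (u ∈ V1 ∨ u ∈ V2) ∧ (InC B z1 u ∨ InC B z2 u)},
      d ∈ B ∧ cm x d ∈ Z0 := by
    intro d hd
    induction hd using Subgroup.closure_induction with
    | mem u hu => exact hgen u hu
    | one => exact ⟨one_mem _, by unfold cm; simp⟩
    | mul a b _ _ ha hb =>
      refine ⟨mul_mem ha.1 hb.1, ?_⟩
      have e : cm x (a * b) = cm x a * (a * cm x b * a⁻¹) := by unfold cm; group
      have e2 : a * cm x b * a⁻¹ = cm x b := by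
        have := w.comm_Z0 hb.2 ha.1
        rw [← this]; group
      rw [e, e2]; exact mul_mem ha.2 hb.2
    | inv a _ ha =>
      refine ⟨inv_mem ha.1, ?_⟩
      have e : cm x a⁻¹ = a⁻¹ * (cm x a)⁻¹ * a := by unfold cm; group
      have hc : (cm x a)⁻¹ ∈ Z0 := inv_mem ha.2
      have e2 : a⁻¹ * (cm x a)⁻¹ * a = (cm x a)⁻¹ := by
        have := w.comm_Z0 hc ha.1
        rw [mul_assoc, this]; group
      rw [e, e2]; exact hc
  have hgood : Good B Z0 x := ⟨nB, fun d hd => (hall d (w.p8b hd)).2, fixZ⟩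
  exact good_mem_B w hr h2 hgood

/-- elements of `P` normalise `V1`, `V2` -/
theorem WD.nrm_V1 (w : WD P V1 V2 B Z0 z1 z2 τ) {g : S} (hg : g ∈ P) : Nrm g V1 := nrm_of_forall (w.V1n g hg)

theorem WD.nrm_V2 (w : WD P V1 V2 B Z0 z1 z2 τ) {g : S} (hg : g ∈ P) : Nrm g V2 := nrm_of_forall (w.V2n g hg)

/-- an element normalising `P` and `V1` also normalises `V2` -/
theorem WD.nrm_V2_of (w : WD P V1 V2 B Z0 z1 z2 τ) {x : S} (nP : Nrm x P) (nV1 : Nrm x V1) : Nrm x V2 := by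
  classical
  apply nrm_of_forall
  -- the conjugate of `V2`
  set W : Subgroup S := V2.map (MulAut.conj x).toMonoidHom with hW
  have memW : ∀ y : S, y ∈ W ↔ ∃ v ∈ V2, x * v * x⁻¹ = y := by
    intro y
    rw [hW, Subgroup.mem_map]
    simp [MulAut.conj_apply]
  have hWP : W ≤ P := by
    intro y hy
    obtain ⟨v, hv, rfl⟩ := (memW y).mp hy
    exact (nP _).mp (w.V2le hv)
  have hWn : ∀ g ∈ P, ∀ y ∈ W, g * y * g⁻¹ ∈ W := by
    intro g hg y hy
    obtain ⟨v, hv, rfl⟩ := (memW y).mp hy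
    rw [memW]
    refine ⟨(x⁻¹ * g * x) * v * (x⁻¹ * g * x)⁻¹, w.V2n _ (nP.inv_mem hg) v hv, by group⟩
  have hWe : Cfsg.IsElementaryAbelian 2 W := by
    obtain ⟨hc, he⟩ := w.V2e
    refine ⟨⟨⟨fun a b => ?_⟩⟩, ?_⟩
    · obtain ⟨a, ha⟩ := a
      obtain ⟨b, hb⟩ := b
      obtain ⟨v, hv, rfl⟩ := (memW a).mp ha
      obtain ⟨v', hv', rfl⟩ := (memW b).mp hb
      apply Subtype.ext
      show x * v * x⁻¹ * (x * v' * x⁻¹) = x * v' * x⁻¹ * (x * v * x⁻¹)
      have hvv : v * v' = v' * v := by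
        have := hc.is_comm.comm ⟨v, hv⟩ ⟨v', hv'⟩
        exact congrArg Subtype.val this
      calc x * v * x⁻¹ * (x * v' * x⁻¹) = x * (v * v') * x⁻¹ := by group
        _ = x * (v' * v) * x⁻¹ := by rw [hvv]
        _ = x * v' * x⁻¹ * (x * v * x⁻¹) := by group
    · intro a ha
      obtain ⟨v, hv, rfl⟩ := (memW a).mp ha
      have := he v hv
      calc (x * v * x⁻¹) ^ 2 = x * v ^ 2 * x⁻¹ := by rw [pow_two, pow_two]; group
        _ = 1 := by rw [this]; group
  have hWc : Nat.card W = 16 := by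
    rw [hW, Subgroup.card_map_of_injective (MulAut.conj x).injective]
    exact w.V2c
  rcases w.uniq W hWP hWn hWe hWc with h | h
  · exfalso
    apply w.ne12
    have hle : V2 ≤ V1 := by
      intro v hv
      have : x * v * x⁻¹ ∈ W := (memW _).mpr ⟨v, hv, rfl⟩
      rw [h] at this
      exact (nV1 _).mpr this
    have := Subgroup.eq_of_le_of_card_ge hle (by rw [w.V1c, w.V2c])
    exact this.symm
  · intro v hv
    have : x * v * x⁻¹ ∈ W := (memW _).mpr ⟨v, hv, rfl⟩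
    rw [h] at this
    exact this

/-- **STEP1** -/
theorem step1 (w : WD P V1 V2 B Z0 z1 z2 τ) (hr : Cfsg.SectionalPRankLE 2 4 S) (h2 : IsPGroup 2 S) (x : S)
    (hxN : x ∈ Subgroup.normalizer (P : Set S)) (hxV : ∀ v ∈ V1, x * v * x⁻¹ ∈ V1) : x ∈ P := by
  have nP : Nrm x P := nrm_of_normalizer hxN
  have nV1 : Nrm x V1 := nrm_of_forall hxV
  have nV2 : Nrm x V2 := w.nrm_V2_of nP nV1
  have nZ0 : Nrm x Z0 := by rw [w.hZ0]; exact nrm_inf nV1 nV2
  have hz := w.fix_z nP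
  have hτ2 : τ * z2 * τ⁻¹ = z1 := by
    rw [← w.τz]
    have e : τ⁻¹ = τ := by
      have := w.τsq
      exact inv_eq_of_mul_eq_one_left this
    rw [e]
    calc τ * (τ * z1 * τ) * τ = (τ * τ) * z1 * (τ * τ) := by group
      _ = z1 := by rw [w.τsq]; group
  rcases (w.memZ0 _).mp ((nZ0 _).mp w.z1_mem) with h | h | h | h
  · exfalso
    apply w.z1ne
    have : z1 = x⁻¹ * (x * z1 * x⁻¹) * x := by group
    rw [this, h]; group
  · exact w.B_le_P (step1_core w hr h2 nP nV1 nV2 h)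
  · -- swap: use `τ * x`
    have nτP : Nrm τ P := nrm_of_mem w.τP
    have h' : (τ * x) * z1 * (τ * x)⁻¹ = z1 := by
      calc (τ * x) * z1 * (τ * x)⁻¹ = τ * (x * z1 * x⁻¹) * τ⁻¹ := by group
        _ = z1 := by rw [h, hτ2]
    have hB := step1_core w hr h2 (nτP.mul nP) ((w.nrm_V1 w.τP).mul nV1) ((w.nrm_V2 w.τP).mul nV2) h'
    have hP : τ * x ∈ P := w.B_le_P hB
    have : x = τ⁻¹ * (τ * x) := by group
    rw [this]
    exact mul_mem (inv_mem w.τP) hP
  · exfalso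
    apply w.z2ne
    have e : x * z1 * x⁻¹ = x * (z1 * z2) * x⁻¹ := by rw [h, hz]
    have e2 : z1 = z1 * z2 := by
      have := congrArg (fun t => x⁻¹ * t * x) e
      beta_reduce at this
      have a1 : x⁻¹ * (x * z1 * x⁻¹) * x = z1 := by group
      have a2 : x⁻¹ * (x * (z1 * z2) * x⁻¹) * x = z1 * z2 := by group
      rw [a1, a2] at this
      exact this
    have : z1 * 1 = z1 * z2 := by rw [mul_one]; exact e2
    exact (mul_left_cancel this).symm

end Cfsg.Agent.Lib.Helper8.W2
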