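import Mathlib
import Cfsg.Agent.Lib.Helper3.CPDefs
import Cfsg.Agent.Lib.Helper4.CPN
import Cfsg.Agent.Lib.Helper8.CQHg
import Cfsg.Agent.Lib.Helper8.CQDefs

/-!
# S3396 piece Hg: Higman's theorem for the class `CCP P` (verbatim statement).
-/

set_option autoImplicit false
set_option linter.deprecated false

namespace Cfsg.Agent.Lib.Helper8.CQ

open Cfsg.Agent.Lib.Helper4.CP

variable {P : ℕ → Prop}

open Cfsg.Agent.Lib.Helper3.CP

theorem higman {G : Type*} [Group G] [Finite G] (hC : CCP P G) (hs : IsSolvable G) :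
    (Nat.card G).primeFactors.card ≤ 2 :=
  higman_of_norm
    (fun H _ _ W hWab hW1 z y r s hr hs hz hy hzW hyW hnorm hnc hcop hfpf =>
      Cfsg.Agent.Lib.Helper4.CP.N1 W hWab hW1 z y r s hr hs hz hy hzW hyW hnorm hnc hcop hfpf)
    (fun H _ _ W hWab hW1 a b s hs ha hb hab hb' haW hbW hcop =>
      Cfsg.Agent.Lib.Helper4.CP.N2 W hWab hW1 a b s hs ha hb hab hb' haW hbW hcop)
    hC hs

end Cfsg.Agent.Lib.Helper8.CQ
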