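import Mathlib
import Cfsg.Agent.Lib.Helper1.MaxSubgroupSolvable
import Cfsg.Agent.Lib.Helper3.CPDefs
import Cfsg.Agent.Lib.Helper8.CQDefs

set_option linter.style.haveILetI false
set_option linter.deprecated false

/-! S3396, piece LA1: order of a solvable `CCP P` group with nontrivial `O_2`, and a chief factor of
order `r` above `O_2`. -/

namespace Cfsg.Agent.Lib.Helper8.CQ


variable {P : ℕ → Prop}

open Cfsg.Agent.Lib.Helper3.CP

theorem struct_order {L : Type*} [Group L] [Finite L] (hC : CCP P L) (hs : IsSolvable L)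
    (hH : (Nat.card L).primeFactors.card ≤ 2)
    (hN : ∀ (r : ℕ) (Y : Subgroup L), r.Prime → r ≠ 2 → IsPGroup r Y → Nat.card Y ≤ r)
    (Q : Subgroup L) [Q.Normal] (hQ2 : IsPGroup 2 Q) (hQ1 : Q ≠ ⊥)
    (hQmax : ∀ R : Subgroup L, R.Normal → IsPGroup 2 R → R ≤ Q) (hL : ¬ IsPGroup 2 L) :
    ∃ r : ℕ, r.Prime ∧ r ≠ 2 ∧ (∃ a : ℕ, Nat.card L = r * 2 ^ a) ∧
      ∃ K : Subgroup L, K.Normal ∧ Q ≤ K ∧ Nat.card K = r * Nat.card Q := by
  haveI : Fact (Nat.Prime 2) := ⟨Nat.prime_two⟩
  have hn0 : Nat.card L ≠ 0 := Nat.card_pos.ne'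
  -- 2 divides |L|
  have h2Q : 2 ∣ Nat.card Q := by
    rcases hQ2.card_eq_or_dvd with h | h
    · exact absurd (Subgroup.card_eq_one.mp h) hQ1
    · exact h
  have h2L : 2 ∣ Nat.card L := h2Q.trans (Subgroup.card_subgroup_dvd_card Q)
  -- an odd prime divides |L|
  obtain ⟨r, hr, hrL, hr2⟩ : ∃ r : ℕ, r.Prime ∧ r ∣ Nat.card L ∧ r ≠ 2 := by
    by_contra hcon
    push Not at hcon
    apply hL
    have := Nat.eq_prime_pow_of_unique_prime_dvd hn0 (p := 2) (fun {d} hd hdL => hcon d hd hdL)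
    exact IsPGroup.of_card this
  haveI : Fact r.Prime := ⟨hr⟩
  -- prime factors are exactly 2 and r
  have hpf : (Nat.card L).primeFactors = {2, r} := by
    symm
    apply Finset.eq_of_subset_of_card_le
    · intro p hp
      rw [Finset.mem_insert, Finset.mem_singleton] at hp
      rcases hp with rfl | rfl
      · exact Nat.mem_primeFactors.mpr ⟨Nat.prime_two, h2L, hn0⟩
      · exact Nat.mem_primeFactors.mpr ⟨hr, hrL, hn0⟩
    · rw [Finset.card_pair (Ne.symm hr2)]; exact hH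
  have hfac : Nat.card L = 2 ^ (Nat.card L).factorization 2 * r ^ (Nat.card L).factorization r := by
    have h := Nat.factorization_prod_pow_eq_self hn0
    rw [Finsupp.prod, Nat.support_factorization, hpf, Finset.prod_pair (Ne.symm hr2)] at h
    exact h.symm
  -- the r-part is r
  have hfr : (Nat.card L).factorization r = 1 := by
    obtain ⟨P⟩ : Nonempty (Sylow r L) := inferInstance
    have hP := P.card_eq_multiplicity
    have hle := hN r P hr hr2 P.isPGroup'
    rw [hP] at hle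
    have h1 : (Nat.card L).factorization r ≤ 1 := by
      by_contra hcon
      push Not at hcon
      have : r ^ 2 ≤ r ^ (Nat.card L).factorization r := Nat.pow_le_pow_right hr.pos hcon
      have h3 : r < r ^ 2 := by
        have := hr.one_lt
        nlinarith
      omega
    have h2 : 0 < (Nat.card L).factorization r := hr.factorization_pos_of_dvd hn0 hrL
    omega
  obtain ⟨a, ha⟩ : ∃ a, a = (Nat.card L).factorization 2 := ⟨_, rfl⟩
  have hcard : Nat.card L = r * 2 ^ a := by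
    rw [ha]
    conv_lhs => rw [hfac, hfr, pow_one]
    ring
  refine ⟨r, hr, hr2, ⟨a, hcard⟩, ?_⟩
  -- the quotient
  haveI : Group.IsSolvable L := hs
  haveI hsq : Group.IsSolvable (L ⧸ Q) := inferInstance
  have hquot : Nat.card L = Nat.card (L ⧸ Q) * Nat.card Q :=
    Subgroup.card_eq_card_quotient_mul_card_subgroup Q
  obtain ⟨q, hq⟩ := IsPGroup.iff_card.mp hQ2
  have hrLbar : r ∣ Nat.card (L ⧸ Q) := by
    have h1 : r ∣ Nat.card (L ⧸ Q) * Nat.card Q := by rw [← hquot]; exact hrL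
    rcases (Nat.Prime.dvd_mul hr).mp h1 with h | h
    · exact h
    · exfalso
      rw [hq] at h
      exact hr2 ((Nat.prime_dvd_prime_iff_eq hr Nat.prime_two).mp (hr.dvd_of_dvd_pow h))
  haveI : Nontrivial (L ⧸ Q) := by
    rw [← Finite.one_lt_card_iff_nontrivial]
    have := Nat.le_of_dvd Nat.card_pos hrLbar
    have := hr.one_lt
    omega
  obtain ⟨Nb, hNbn, hNb1, hNbmin⟩ := Cfsg.Agent.Lib.Helper1.exists_minimal_normal (G := L ⧸ Q)
  haveI := hNbn
  obtain ⟨-, p, hp, hNbp⟩ := Cfsg.Agent.Lib.Helper1.minimal_normal_of_solvable Nb hNb1 hNbmin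
  haveI : Fact p.Prime := ⟨hp⟩
  have hNbpg : IsPGroup p Nb := by
    intro x
    exact ⟨1, by rw [pow_one]; exact Subtype.ext (hNbp x x.2)⟩
  have hker : (QuotientGroup.mk' Q).ker = Q := QuotientGroup.ker_mk' Q
  have hp2 : p ≠ 2 := by
    intro h
    rw [h] at hNbpg
    have h1 : IsPGroup 2 (Nb.comap (QuotientGroup.mk' Q)) :=
      hNbpg.comap_of_ker_isPGroup (QuotientGroup.mk' Q) (by rw [hker]; exact hQ2)
    have h2 : (Nb.comap (QuotientGroup.mk' Q)).Normal := hNbn.comap _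
    have h3 := hQmax _ h2 h1
    apply hNb1
    rw [Subgroup.eq_bot_iff_forall]
    intro x hx
    obtain ⟨y, rfl⟩ := QuotientGroup.mk'_surjective Q x
    have hy : y ∈ Nb.comap (QuotientGroup.mk' Q) := hx
    have hyQ := h3 hy
    rw [← hker] at hyQ
    exact hyQ
  obtain ⟨k, hk⟩ := IsPGroup.iff_card.mp hNbpg
  have hk0 : k ≠ 0 := by
    intro h
    rw [h, pow_zero] at hk
    exact hNb1 (Subgroup.card_eq_one.mp hk)
  have hdvd : p ^ k ∣ r * 2 ^ a := by
    rw [← hk, ← hcard, hquot]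
    exact (Subgroup.card_subgroup_dvd_card Nb).trans (dvd_mul_right _ _)
  have hcop2 : Nat.Coprime (p ^ k) (2 ^ a) :=
    Nat.Coprime.pow _ _ ((Nat.coprime_primes hp Nat.prime_two).mpr hp2)
  have hdvd' : p ^ k ∣ r := hcop2.dvd_of_dvd_mul_right hdvd
  have hpr : p = r := by
    have : p ∣ r := (dvd_pow_self p hk0).trans hdvd'
    exact (Nat.prime_dvd_prime_iff_eq hp hr).mp this
  have hk1 : k = 1 := by
    rw [hpr] at hdvd'
    by_contra hcon
    have hk2 : 2 ≤ k := by omega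
    have h1 : r ^ 2 ∣ r := (pow_dvd_pow r hk2).trans hdvd'
    have h2 := Nat.le_of_dvd hr.pos h1
    have := hr.one_lt
    nlinarith
  have hNbcard : Nat.card Nb = r := by rw [hk, hpr, hk1, pow_one]
  refine ⟨Nb.comap (QuotientGroup.mk' Q), hNbn.comap _, ?_, ?_⟩
  · have h1 : (QuotientGroup.mk' Q).ker ≤ Nb.comap (QuotientGroup.mk' Q) :=
      MonoidHom.ker_le_comap _ _
    rwa [hker] at h1
  · have := QuotientGroup.card_preimage_mk Q (Nb : Set (L ⧸ Q))
    rw [mul_comm, ← hNbcard]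
    exact this

end Cfsg.Agent.Lib.Helper8.CQ
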