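import Mathlib
import Cfsg.Agent.Lib.Helper3.CPDefs
import Cfsg.Agent.Lib.Helper8.CQHg
import Cfsg.Agent.Lib.Helper8.CQDefs

/-!
# S3396 piece LA2: the action of a 2-local on its chief factor of order `r`.
-/

set_option autoImplicit false
set_option linter.unusedVariables false
set_option linter.deprecated false

namespace Cfsg.Agent.Lib.Helper8.CQ


variable {P : ℕ → Prop}

open Cfsg.Agent.Lib.Helper3.CP

/-- in a `CCP P` group a nonidentity 2-element does not commute with an element of odd prime order. -/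
theorem CCP.not_commute_two_odd {H : Type*} [Group H] (hC : CCP P H) {r : ℕ} (hr : r.Prime)
    (hr2 : r ≠ 2) {a y : H} (ha1 : a ≠ 1) (ha : ∃ k : ℕ, orderOf a = 2 ^ k) (hy : orderOf y = r) :
    a * y ≠ y * a := by
  intro hcomm
  obtain ⟨k, hk⟩ := ha
  have hk0 : k ≠ 0 := by
    intro h
    rw [h, pow_zero] at hk
    exact ha1 (orderOf_eq_one_iff.1 hk)
  have h2 : 2 ∣ orderOf a := hk ▸ dvd_pow_self 2 hk0
  have hord0 : orderOf a ≠ 0 := by rw [hk]; positivity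
  have h1 : orderOf (a ^ (orderOf a / 2)) = 2 := orderOf_pow_orderOf_div hord0 h2
  have h3 : a ^ (orderOf a / 2) * y = y * a ^ (orderOf a / 2) :=
    (Commute.pow_left (show Commute a y from hcomm) _).eq
  exact CCP.false_of_commute hC Nat.prime_two hr (Ne.symm hr2) h1 hy h3

theorem struct_action {L : Type*} [Group L] [Finite L] (hC : CCP P L)
    (Q : Subgroup L) [Q.Normal] (hQ2 : IsPGroup 2 Q)
    (r : ℕ) (hr : r.Prime) (hr2 : r ≠ 2) (a₀ : ℕ) (hcard : Nat.card L = r * 2 ^ a₀)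
    (K : Subgroup L) [K.Normal] (hQK : Q ≤ K) (hK : Nat.card K = r * Nat.card Q) :
    (∀ y a : L, orderOf y = r → (∃ k : ℕ, orderOf a = 2 ^ k) → a ∉ Q →
        orderOf (a⁻¹ * (y * a * y⁻¹)) = r) ∧
      (∀ T : Subgroup L, IsPGroup 2 T →
        (∃ u ∈ T, ∀ a ∈ T, ∃ i : ℕ, a * (u ^ i)⁻¹ ∈ Q) ∧ ∀ a ∈ T, a ^ (r - 1) ∈ Q) := by
  classical
  have hfr : Fact r.Prime := ⟨hr⟩
  have hf2 : Fact (Nat.Prime 2) := ⟨Nat.prime_two⟩
  have hCbar : CCP P (L ⧸ Q) := CCP.quotient hC Q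
  have hQpos : 0 < Nat.card Q := Nat.card_pos
  -- `Q` has index `r` in `K`
  have hrel : Q.relIndex K = r := by
    have h1 : Nat.card (Q.subgroupOf K) * (Q.subgroupOf K).index = Nat.card K :=
      (Q.subgroupOf K).card_mul_index
    have h2 : Nat.card (Q.subgroupOf K) = Nat.card Q :=
      Nat.card_congr (Subgroup.subgroupOfEquivOfLe hQK).toEquiv
    rw [h2, hK, mul_comm] at h1
    exact Nat.eq_of_mul_eq_mul_right hQpos h1
  have hAr : ∀ k ∈ K, k ^ r ∈ Q := by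
    intro k hk
    have := Subgroup.pow_relIndex_mem Q hk
    rwa [hrel] at this
  -- `K` has 2-power index
  obtain ⟨b, hb⟩ : ∃ b : ℕ, K.index = 2 ^ b := by
    have h1 : Nat.card K * K.index = Nat.card L := K.card_mul_index
    rw [hK, hcard, mul_assoc] at h1
    have h2 : Nat.card Q * K.index = 2 ^ a₀ := Nat.eq_of_mul_eq_mul_left hr.pos h1
    have h3 : K.index ∣ 2 ^ a₀ := Dvd.intro_left _ h2
    obtain ⟨b, -, hb⟩ := (Nat.dvd_prime_pow Nat.prime_two).1 h3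
    exact ⟨b, hb⟩
  -- elements of order `r` lie in `K`
  have hyK : ∀ y : L, orderOf y = r → y ∈ K := by
    intro y hy
    have h1 : y ^ K.index ∈ K := K.pow_index_mem y
    have hcop : (K.index).Coprime (orderOf y) := by
      rw [hb, hy]
      exact Nat.Coprime.pow_left b ((Nat.coprime_primes Nat.prime_two hr).2 (Ne.symm hr2))
    obtain ⟨m, hm⟩ := exists_pow_eq_self_of_coprime hcop
    rw [← hm]
    exact K.pow_mem h1 m
  -- elements of order `r` are not in `Q`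
  have hyQ : ∀ y : L, orderOf y = r → y ∉ Q := by
    intro y hy hyQ
    obtain ⟨j, hj⟩ := (IsPGroup.iff_orderOf.1 hQ2) ⟨y, hyQ⟩
    rw [Subgroup.orderOf_mk, hy] at hj
    have : r ∣ 2 ^ j := hj ▸ dvd_rfl
    exact hr2 ((Nat.prime_dvd_prime_iff_eq hr Nat.prime_two).1 (hr.dvd_of_dvd_pow this))
  -- the image of an element of order `r` has order `r`
  have hybar : ∀ y : L, orderOf y = r → orderOf (y : L ⧸ Q) = r := by
    intro y hy
    have hdvd : orderOf (y : L ⧸ Q) ∣ r := by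
      rw [← hy]
      exact orderOf_map_dvd (QuotientGroup.mk' Q) y
    rcases (Nat.dvd_prime hr).1 hdvd with h | h
    · exfalso
      rw [orderOf_eq_one_iff, QuotientGroup.eq_one_iff] at h
      exact hyQ y hy h
    · exact h
  -- the image of a 2-element is a 2-element
  have habar : ∀ a : L, (∃ k : ℕ, orderOf a = 2 ^ k) → ∃ k : ℕ, orderOf (a : L ⧸ Q) = 2 ^ k := by
    rintro a ⟨k, hk⟩
    have hdvd : orderOf (a : L ⧸ Q) ∣ 2 ^ k := by
      rw [← hk]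
      exact orderOf_map_dvd (QuotientGroup.mk' Q) a
    obtain ⟨j, -, hj⟩ := (Nat.dvd_prime_pow Nat.prime_two).1 hdvd
    exact ⟨j, hj⟩
  have hne1 : ∀ a : L, a ∉ Q → (a : L ⧸ Q) ≠ 1 := by
    intro a ha h
    exact ha ((QuotientGroup.eq_one_iff a).1 h)
  -- part (2)
  have part2 : ∀ y a : L, orderOf y = r → (∃ k : ℕ, orderOf a = 2 ^ k) → a ∉ Q →
      orderOf (a⁻¹ * (y * a * y⁻¹)) = r := by
    intro y a hy ha haQ
    have hnc := CCP.not_commute_two_odd hCbar hr hr2 (hne1 a haQ) (habar a ha) (hybar y hy)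
    have hcK : a⁻¹ * (y * a * y⁻¹) ∈ K := by
      have h1 : a⁻¹ * y * a⁻¹⁻¹ ∈ K := ‹K.Normal›.conj_mem y (hyK y hy) a⁻¹
      have h2 : a⁻¹ * (y * a * y⁻¹) = (a⁻¹ * y * a⁻¹⁻¹) * y⁻¹ := by group
      rw [h2]
      exact K.mul_mem h1 (K.inv_mem (hyK y hy))
    have hcQ : a⁻¹ * (y * a * y⁻¹) ∉ Q := by
      intro h
      apply hnc
      have h1 : ((a⁻¹ * (y * a * y⁻¹) : L) : L ⧸ Q) = 1 := (QuotientGroup.eq_one_iff _).2 h
      have h2 : (a : L ⧸ Q)⁻¹ * ((y : L ⧸ Q) * (a : L ⧸ Q) * (y : L ⧸ Q)⁻¹) = 1 := by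
        simpa using h1
      have h3 : (y : L ⧸ Q) * (a : L ⧸ Q) * (y : L ⧸ Q)⁻¹ = (a : L ⧸ Q) := by
        have := congrArg (fun t => (a : L ⧸ Q) * t) h2
        simpa using this
      calc (a : L ⧸ Q) * (y : L ⧸ Q) = ((y : L ⧸ Q) * (a : L ⧸ Q) * (y : L ⧸ Q)⁻¹) * (y : L ⧸ Q) := by
            rw [h3]
        _ = (y : L ⧸ Q) * (a : L ⧸ Q) := by group
    have hc1 : a⁻¹ * (y * a * y⁻¹) ≠ 1 := fun h => hcQ (h ▸ Q.one_mem)
    have hcr : (a⁻¹ * (y * a * y⁻¹)) ^ r ∈ Q := hAr _ hcK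
    -- the order of the image is `r`
    have hbar : orderOf ((a⁻¹ * (y * a * y⁻¹) : L) : L ⧸ Q) = r := by
      have hdvd : orderOf ((a⁻¹ * (y * a * y⁻¹) : L) : L ⧸ Q) ∣ r := by
        apply orderOf_dvd_of_pow_eq_one
        rw [← QuotientGroup.mk_pow]
        exact (QuotientGroup.eq_one_iff _).2 hcr
      rcases (Nat.dvd_prime hr).1 hdvd with h | h
      · exfalso
        rw [orderOf_eq_one_iff, QuotientGroup.eq_one_iff] at h
        exact hcQ h
      · exact h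
    have hrd : r ∣ orderOf (a⁻¹ * (y * a * y⁻¹)) := by
      rw [← hbar]
      exact orderOf_map_dvd (QuotientGroup.mk' Q) _
    rcases hC _ hc1 with ⟨k, hk⟩ | ⟨hp, -⟩
    · exfalso
      rw [hk] at hrd
      exact hr2 ((Nat.prime_dvd_prime_iff_eq hr Nat.prime_two).1 (hr.dvd_of_dvd_pow hrd))
    · exact ((Nat.prime_dvd_prime_iff_eq hr hp).1 hrd).symm
  refine ⟨part2, ?_⟩
  -- part (3): the chief factor `K / Q`
  obtain ⟨Nbar, hNbar⟩ : ∃ Nbar : Subgroup (L ⧸ Q), Nbar = K.map (QuotientGroup.mk' Q) := ⟨_, rfl⟩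
  have hNn : Nbar.Normal := by
    rw [hNbar]
    exact Subgroup.Normal.map ‹K.Normal› _ (QuotientGroup.mk'_surjective Q)
  have hNcard : Nat.card Nbar = r := by
    have h1 : Nat.card (Nbar.comap (QuotientGroup.mk' Q)) = Nat.card Q * Nat.card Nbar :=
      QuotientGroup.card_preimage_mk Q (Nbar : Set (L ⧸ Q))
    have h2 : Nbar.comap (QuotientGroup.mk' Q) = K := by
      rw [hNbar, Subgroup.comap_map_eq, QuotientGroup.ker_mk', sup_eq_left.2 hQK]
    rw [h2, hK, mul_comm] at h1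
    exact (Nat.eq_of_mul_eq_mul_left hQpos h1).symm
  have hNcyc : IsCyclic Nbar := isCyclic_of_prime_card hNcard
  have hcycAut : IsCyclic (MulAut Nbar) := by
    have e := IsCyclic.mulAutMulEquiv ↥Nbar
    have hfp : Fact (Nat.card ↥Nbar).Prime := ⟨hNcard.symm ▸ hr⟩
    have hcz : IsCyclic (ZMod (Nat.card ↥Nbar))ˣ := inferInstance
    exact isCyclic_of_surjective e.symm e.symm.surjective
  have hcardAut : Nat.card (MulAut Nbar) = r - 1 := by
    rw [IsCyclic.card_mulAut, hNcard, Nat.totient_prime hr]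
  obtain ⟨ψ, hψ⟩ : ∃ ψ : L →* MulAut Nbar,
      ψ = (MulAut.conjNormal (H := Nbar)).comp (QuotientGroup.mk' Q) := ⟨_, rfl⟩
  have hψapp : ∀ (g : L) (n : Nbar), ((ψ g n : Nbar) : L ⧸ Q) = (g : L ⧸ Q) * n * (g : L ⧸ Q)⁻¹ := by
    intro g n
    rw [hψ]
    exact MulAut.conjNormal_apply _ n
  -- an element of order `r`
  have hrK : r ∣ Nat.card K := hK ▸ Dvd.intro _ rfl
  obtain ⟨y₀, hy₀⟩ := exists_prime_orderOf_dvd_card' r hrK
  have hy₀' : orderOf (y₀ : L) = r := by rw [Subgroup.orderOf_coe]; exact hy₀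
  have hy₀N : ((y₀ : L) : L ⧸ Q) ∈ Nbar := by
    rw [hNbar]
    exact Subgroup.mem_map_of_mem (QuotientGroup.mk' Q) y₀.2
  -- 2-elements in the kernel of `ψ` lie in `Q`
  have hY : ∀ b : L, (∃ k : ℕ, orderOf b = 2 ^ k) → ψ b = 1 → b ∈ Q := by
    intro b hb hψb
    by_contra hbQ
    have hnc := CCP.not_commute_two_odd hCbar hr hr2 (hne1 b hbQ) (habar b hb) (hybar _ hy₀')
    apply hnc
    have h1 := hψapp b ⟨_, hy₀N⟩
    rw [hψb] at h1
    have h2 : ((y₀ : L) : L ⧸ Q) = (b : L ⧸ Q) * ((y₀ : L) : L ⧸ Q) * (b : L ⧸ Q)⁻¹ := h1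
    calc (b : L ⧸ Q) * ((y₀ : L) : L ⧸ Q)
        = ((b : L ⧸ Q) * ((y₀ : L) : L ⧸ Q) * (b : L ⧸ Q)⁻¹) * (b : L ⧸ Q) := by group
      _ = ((y₀ : L) : L ⧸ Q) * (b : L ⧸ Q) := by rw [← h2]
  intro T hT
  have hT2 : ∀ a ∈ T, ∃ k : ℕ, orderOf a = 2 ^ k := by
    intro a ha
    obtain ⟨k, hk⟩ := (IsPGroup.iff_orderOf.1 hT) ⟨a, ha⟩
    rw [Subgroup.orderOf_mk] at hk
    exact ⟨k, hk⟩
  constructor
  · -- cyclicity modulo `Q`
    have hScyc : IsCyclic (T.map ψ) := Subgroup.isCyclic _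
    obtain ⟨g, hg⟩ := IsCyclic.exists_generator (α := T.map ψ)
    obtain ⟨u, huT, hu⟩ := Subgroup.mem_map.1 g.2
    refine ⟨u, huT, ?_⟩
    intro a ha
    have hmem : (⟨ψ a, Subgroup.mem_map_of_mem ψ ha⟩ : T.map ψ) ∈ Subgroup.zpowers g := hg _
    rw [← mem_powers_iff_mem_zpowers] at hmem
    obtain ⟨i, hi⟩ := (Submonoid.mem_powers_iff _ _).1 hmem
    have hi' : (ψ u) ^ i = ψ a := by
      have := congrArg Subtype.val hi
      rw [hu]
      simpa using this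
    refine ⟨i, ?_⟩
    apply hY _ (hT2 _ (T.mul_mem ha (T.inv_mem (T.pow_mem huT i))))
    rw [map_mul, map_inv, map_pow, hi', mul_inv_cancel]
  · intro a ha
    apply hY _ (hT2 _ (T.pow_mem ha _))
    rw [map_pow, ← hcardAut]
    exact pow_card_eq_one'

end Cfsg.Agent.Lib.Helper8.CQ
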