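import Mathlib
import Cfsg.Prelude.Def_Solvable
import Cfsg.Agent.Lib.Helper1.PCore
import Cfsg.Agent.Lib.Helper3.CPDefs
import Cfsg.Agent.Lib.Helper8.CQDefs

set_option linter.style.haveILetI false
set_option linter.deprecated false

/-! S3396, piece LE: existence of `O_2` of a subgroup and of a member above a 2-local subgroup
that is not a 2-group. -/

namespace Cfsg.Agent.Lib.Helper8.CQ


variable {P : ℕ → Prop}

open Cfsg.Agent.Lib.Helper3.CP

theorem exists_isO2 {G : Type*} [Group G] [Finite G] (M : Subgroup G) :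
    ∃ Q : Subgroup G, IsO2 Q M := by
  haveI : Fact (Nat.Prime 2) := ⟨Nat.prime_two⟩
  refine ⟨(Cfsg.pCore 2 ↥M).map M.subtype, Subgroup.map_subtype_le _, ?_, ?_, ?_⟩
  · exact (Cfsg.Agent.Lib.Helper1.pCore_isPGroup 2).map _
  · intro m hm q hq
    obtain ⟨q', hq', rfl⟩ := Subgroup.mem_map.mp hq
    have hn : (Cfsg.pCore 2 ↥M).Normal := Cfsg.Agent.Lib.Helper1.pCore_normal 2
    refine Subgroup.mem_map.mpr ⟨⟨m, hm⟩ * q' * ⟨m, hm⟩⁻¹, hn.conj_mem q' hq' ⟨m, hm⟩, ?_⟩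
    simp
  · intro R hRM hR2 hRinv
    have hn : (R.subgroupOf M).Normal := by
      constructor
      intro n hn g
      rw [Subgroup.mem_subgroupOf] at hn ⊢
      simpa using hRinv g.1 g.2 n.1 hn
    have hle := Cfsg.Agent.Lib.Helper1.le_pCore hn (hR2.comap_subtype (K := M))
    intro x hx
    exact Subgroup.mem_map.mpr ⟨⟨x, hRM hx⟩, hle (Subgroup.mem_subgroupOf.mpr hx), rfl⟩

theorem exists_mem_of_local' {G : Type*} [Group G] [Finite G] (R : Subgroup G) (hR1 : R ≠ ⊥)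
    (hR2 : IsPGroup 2 R) (hn2 : ¬ IsPGroup 2 ↥(Subgroup.normalizer (R : Set G))) :
    ∃ M Q : Subgroup G, Mem M Q ∧ Subgroup.normalizer (R : Set G) ≤ M := by
  let S : Set (Subgroup G) := {R' | R' ≠ ⊥ ∧ IsPGroup 2 R' ∧
    Subgroup.normalizer (R : Set G) ≤ Subgroup.normalizer (R' : Set G)}
  have hSfin : S.Finite := Set.toFinite S
  have hSne : S.Nonempty := ⟨R, hR1, hR2, le_rfl⟩
  obtain ⟨R', hR'S, hmax⟩ := hSfin.exists_maximalFor
    (fun R' : Subgroup G => Nat.card ↥(Subgroup.normalizer (R' : Set G))) S hSne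
  obtain ⟨hR'1, hR'2, hR'N⟩ := hR'S
  obtain ⟨Q', hO⟩ := exists_isO2 (Subgroup.normalizer (R' : Set G))
  have hR'Q' : R' ≤ Q' := by
    apply hO.2.2.2 R' Subgroup.le_normalizer hR'2
    intro m hm q hq
    exact (Subgroup.mem_normalizer_iff.mp hm q).mp hq
  have hQ'1 : Q' ≠ ⊥ := by
    intro h
    rw [h, le_bot_iff] at hR'Q'
    exact hR'1 hR'Q'
  have hNN : Subgroup.normalizer (R' : Set G) ≤ Subgroup.normalizer (Q' : Set G) := by
    intro m hm
    rw [Subgroup.mem_normalizer_iff]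
    intro b
    constructor
    · exact hO.2.2.1 m hm b
    · intro hb
      have := hO.2.2.1 m⁻¹ (inv_mem hm) _ hb
      have e : m⁻¹ * (m * b * m⁻¹) * m⁻¹⁻¹ = b := by group
      rwa [e] at this
  have hQ'S : Q' ∈ S := ⟨hQ'1, hO.2.1, hR'N.trans hNN⟩
  have hcard : Nat.card ↥(Subgroup.normalizer (Q' : Set G)) ≤
      Nat.card ↥(Subgroup.normalizer (R' : Set G)) := by
    have h1 : Nat.card ↥(Subgroup.normalizer (R' : Set G)) ≤
        Nat.card ↥(Subgroup.normalizer (Q' : Set G)) := Subgroup.card_le_of_le hNN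
    exact hmax hQ'S h1
  have heq : Subgroup.normalizer (R' : Set G) = Subgroup.normalizer (Q' : Set G) :=
    Subgroup.eq_of_le_of_card_ge hNN hcard
  refine ⟨Subgroup.normalizer (R' : Set G), Q', ⟨hQ'1, hO, heq, ?_⟩, hR'N⟩
  intro h
  exact hn2 (h.to_le hR'N)

end Cfsg.Agent.Lib.Helper8.CQ
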