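import Mathlib
import Cfsg.Agent.Lib.Helper3.CPDefs
import Cfsg.Agent.Lib.Helper8.CQN2
import Cfsg.Agent.Lib.Helper8.CQHigman
import Cfsg.Agent.Lib.Helper8.CQLA2
import Cfsg.Agent.Lib.Helper8.CQLA1
import Cfsg.Agent.Lib.Helper8.CQLE
import Cfsg.Agent.Lib.Helper8.CQDefs

set_option linter.style.haveILetI false
set_option linter.deprecated false

/-! S3396, piece L: transport of the abstract structure theorem to subgroups of `G`. -/

namespace Cfsg.Agent.Lib.Helper8.CQ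

open Cfsg.Agent.Lib.Helper4.CP

variable {P : ℕ → Prop}

open Cfsg.Agent.Lib.Helper3.CP

theorem cc_subgroup {G : Type*} [Group G] (hC : CCP P G) (M : Subgroup G) : CCP P ↥M := by
  intro g hg
  have hg' : (g : G) ≠ 1 := fun h => hg (Subtype.ext h)
  have := hC (g : G) hg'
  rwa [Subgroup.orderOf_coe] at this

theorem struct_sub {G : Type*} [Group G] [Finite G] (hC : CCP P G) {M Q : Subgroup G}
    (hsol : IsSolvable ↥M) (hO : IsO2 Q M) (hQ1 : Q ≠ ⊥) (hM2 : ¬ IsPGroup 2 M) :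
    ∃ r : ℕ, r.Prime ∧ r ≠ 2 ∧ (∃ a : ℕ, Nat.card M = r * 2 ^ a) ∧
      (∀ y ∈ M, ∀ a ∈ M, orderOf y = r → (∃ k : ℕ, orderOf a = 2 ^ k) → a ∉ Q →
        orderOf (a⁻¹ * (y * a * y⁻¹)) = r) ∧
      (∀ T : Subgroup G, T ≤ M → IsPGroup 2 T →
        (∃ u ∈ T, ∀ a ∈ T, ∃ i : ℕ, a * (u ^ i)⁻¹ ∈ Q) ∧ ∀ a ∈ T, a ^ (r - 1) ∈ Q) := by
  obtain ⟨hQM, hQ2, hQinv, hQmax⟩ := hO
  have hCM : CCP P ↥M := cc_subgroup hC M
  haveI hQn : (Q.subgroupOf M).Normal := by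
    constructor
    intro n hn g
    rw [Subgroup.mem_subgroupOf] at hn ⊢
    simpa using hQinv g.1 g.2 n.1 hn
  have hQ2' : IsPGroup 2 (Q.subgroupOf M) := hQ2.comap_subtype
  have hQ1' : Q.subgroupOf M ≠ ⊥ := by
    intro h
    apply hQ1
    rw [Subgroup.eq_bot_iff_forall]
    intro q hq
    have : (⟨q, hQM hq⟩ : ↥M) ∈ Q.subgroupOf M := by rw [Subgroup.mem_subgroupOf]; exact hq
    rw [h, Subgroup.mem_bot] at this
    exact congrArg Subtype.val this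
  have hQmax' : ∀ R : Subgroup ↥M, R.Normal → IsPGroup 2 R → R ≤ Q.subgroupOf M := by
    intro R hRn hR2
    have h1 : R.map M.subtype ≤ M := Subgroup.map_subtype_le R
    have h2 : IsPGroup 2 (R.map M.subtype) := hR2.map _
    have h3 : ∀ m ∈ M, ∀ q ∈ R.map M.subtype, m * q * m⁻¹ ∈ R.map M.subtype := by
      intro m hm q hq
      obtain ⟨q', hq', rfl⟩ := Subgroup.mem_map.mp hq
      refine Subgroup.mem_map.mpr ⟨⟨m, hm⟩ * q' * ⟨m, hm⟩⁻¹, hRn.conj_mem q' hq' ⟨m, hm⟩, ?_⟩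
      simp
    have h4 := hQmax _ h1 h2 h3
    intro q' hq'
    rw [Subgroup.mem_subgroupOf]
    exact h4 (Subgroup.mem_map.mpr ⟨q', hq', rfl⟩)
  have hH' := Cfsg.Agent.Lib.Helper8.CQ.higman hCM hsol
  have hN' : ∀ (r : ℕ) (Y : Subgroup ↥M), r.Prime → r ≠ 2 → IsPGroup r Y → Nat.card Y ≤ r := by
    intro r Y hr hr2 hY
    exact Cfsg.Agent.Lib.Helper8.CQ.card_le_of_normalizes hCM r 2 hr hr2 Nat.prime_two hr2 Y
      (Q.subgroupOf M) hY hQ2' hQ1'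
      (fun y _ q hq => hQn.conj_mem q hq y)
  obtain ⟨r, hr, hr2, ⟨a, ha⟩, K, hKn, hQK, hK⟩ :=
    struct_order hCM hsol hH' hN' (Q.subgroupOf M) hQ2' hQ1' hQmax' hM2
  haveI := hKn
  obtain ⟨hcomm, hT⟩ := Cfsg.Agent.Lib.Helper8.CQ.struct_action hCM (Q.subgroupOf M) hQ2' r hr hr2 a ha K hQK hK
  refine ⟨r, hr, hr2, ⟨a, ha⟩, ?_, ?_⟩
  · intro y hy b hb hyo hbo hbQ
    have h1 := hcomm ⟨y, hy⟩ ⟨b, hb⟩ (by rw [Subgroup.orderOf_mk]; exact hyo)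
      (by rw [Subgroup.orderOf_mk]; exact hbo) (by rw [Subgroup.mem_subgroupOf]; exact hbQ)
    rw [← Subgroup.orderOf_coe] at h1
    simpa using h1
  · intro T hTM hT2
    obtain ⟨⟨u, hu, hcyc⟩, hsq⟩ := hT (T.subgroupOf M) hT2.comap_subtype
    refine ⟨⟨u.1, Subgroup.mem_subgroupOf.mp hu, ?_⟩, ?_⟩
    · intro b hb
      obtain ⟨i, hi⟩ := hcyc ⟨b, hTM hb⟩ (by rw [Subgroup.mem_subgroupOf]; exact hb)
      refine ⟨i, ?_⟩
      rw [Subgroup.mem_subgroupOf] at hi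
      simpa using hi
    · intro b hb
      have := hsq ⟨b, hTM hb⟩ (by rw [Subgroup.mem_subgroupOf]; exact hb)
      rw [Subgroup.mem_subgroupOf] at this
      simpa using this

end Cfsg.Agent.Lib.Helper8.CQ
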