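import Mathlib
import Cfsg.Agent.Lib.Helper3.CPDefs
import Cfsg.Agent.Lib.Helper2.Nilpotent
import Cfsg.Agent.Lib.Helper8.CQLC
import Cfsg.Agent.Lib.Helper8.CQDefs

set_option linter.style.haveILetI false
set_option linter.deprecated false

/-! S3396, piece L: 2-local structure (final theorems). -/

namespace Cfsg.Agent.Lib.Helper8.CQ


variable {P : ℕ → Prop}

open Cfsg.Agent.Lib.Helper3.CP

variable {G : Type*} [Group G]

theorem exists_orderOf_of_mem {T : Subgroup G} (hT : IsPGroup 2 T) {a : G} (ha : a ∈ T) :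
    ∃ k : ℕ, orderOf a = 2 ^ k := by
  haveI : Fact (Nat.Prime 2) := ⟨Nat.prime_two⟩
  obtain ⟨k, hk⟩ := (IsPGroup.iff_orderOf.mp hT) ⟨a, ha⟩
  exact ⟨k, by rw [← Subgroup.orderOf_mk a ha]; exact hk⟩

theorem ne_two_pow {r : ℕ} (hr : r.Prime) (hr2 : r ≠ 2) (k : ℕ) : r ≠ 2 ^ k := by
  intro h
  rcases k with _ | k
  · rw [pow_zero] at h; exact hr.one_lt.ne' h
  · have : 2 ∣ r := by rw [h, pow_succ]; exact dvd_mul_left 2 _
    exact hr2 ((Nat.prime_dvd_prime_iff_eq Nat.prime_two hr).mp this).symm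

theorem le_normalizer_of_invariant {A B : Subgroup G}
    (h : ∀ a ∈ A, ∀ b ∈ B, a * b * a⁻¹ ∈ B) : A ≤ Subgroup.normalizer (B : Set G) := by
  intro a ha
  rw [Subgroup.mem_normalizer_iff]
  intro b
  constructor
  · exact h a ha b
  · intro hb
    have := h a⁻¹ (inv_mem ha) _ hb
    have e : a⁻¹ * (a * b * a⁻¹) * a⁻¹⁻¹ = b := by group
    rwa [e] at this

theorem invariant_of_le_normalizer {A B : Subgroup G}
    (h : A ≤ Subgroup.normalizer (B : Set G)) : ∀ a ∈ A, ∀ b ∈ B, a * b * a⁻¹ ∈ B := by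
  intro a ha b hb
  exact (Subgroup.mem_normalizer_iff.mp (h ha) b).mp hb

theorem conj_mem_sup {A B : Subgroup G} {x : G} (hA : ∀ a ∈ A, x * a * x⁻¹ ∈ A)
    (hB : ∀ b ∈ B, x * b * x⁻¹ ∈ B) : ∀ c ∈ A ⊔ B, x * c * x⁻¹ ∈ A ⊔ B := by
  have h : A ⊔ B ≤ (A ⊔ B).comap (MulAut.conj x).toMonoidHom := by
    apply sup_le
    · intro a ha
      rw [Subgroup.mem_comap]
      exact (le_sup_left : A ≤ A ⊔ B) (by simpa using hA a ha)
    · intro b hb
      rw [Subgroup.mem_comap]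
      exact (le_sup_right : B ≤ A ⊔ B) (by simpa using hB b hb)
  intro c hc
  have := h hc
  rw [Subgroup.mem_comap] at this
  simpa using this

/-- no 2-subgroup of `M` strictly above `Q` is normalized by an element of order `r` -/
theorem le_of_invariant_two_group {M Q : Subgroup G} {r : ℕ} (hr : r.Prime) (hr2 : r ≠ 2)
    (hcomm : ∀ y ∈ M, ∀ a ∈ M, orderOf y = r → (∃ k : ℕ, orderOf a = 2 ^ k) → a ∉ Q →
      orderOf (a⁻¹ * (y * a * y⁻¹)) = r)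
    {x : G} (hxM : x ∈ M) (hxo : orderOf x = r) (Y : Subgroup G) (hYM : Y ≤ M)
    (hY2 : IsPGroup 2 Y) (hxY : ∀ a ∈ Y, x * a * x⁻¹ ∈ Y) : Y ≤ Q := by
  intro a ha
  by_contra haQ
  have h1 := hcomm x hxM a (hYM ha) hxo (exists_orderOf_of_mem hY2 ha) haQ
  have h2 : a⁻¹ * (x * a * x⁻¹) ∈ Y := mul_mem (inv_mem ha) (hxY a ha)
  obtain ⟨k, hk⟩ := exists_orderOf_of_mem hY2 h2
  rw [h1] at hk
  exact ne_two_pow hr hr2 k hk

theorem solvable_mem [Finite G] (ctx : CtxP P G) {M Q : Subgroup G} (hM : Mem M Q) :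
    IsSolvable ↥M := by
  have h := ctx.loc Q hM.1 hM.2.1.2.1
  rw [← hM.2.2.1] at h
  exact h

theorem exists_orderOf_eq_of_card [Finite G] {M : Subgroup G} {r a : ℕ} (hr : r.Prime)
    (ha : Nat.card M = r * 2 ^ a) : ∃ x ∈ M, orderOf x = r := by
  haveI : Fact r.Prime := ⟨hr⟩
  obtain ⟨x, hx⟩ := exists_prime_orderOf_dvd_card' (G := ↥M) r (by rw [ha]; exact dvd_mul_right _ _)
  exact ⟨x.1, x.2, by rw [Subgroup.orderOf_coe]; exact hx⟩

/-- (U): a 2-local subgroup containing a member is that member. -/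
theorem local_le_mem [Finite G] (ctx : CtxP P G) {M Q : Subgroup G} (hM : Mem M Q)
    (R : Subgroup G) (hR1 : R ≠ ⊥) (hR2 : IsPGroup 2 R)
    (hML : M ≤ Subgroup.normalizer (R : Set G)) : Subgroup.normalizer (R : Set G) ≤ M := by
  obtain ⟨hQ1, hO, hMN, hM2⟩ := hM
  obtain ⟨L, hL⟩ : ∃ L, L = Subgroup.normalizer (R : Set G) := ⟨_, rfl⟩
  rw [← hL] at hML ⊢
  have hLsol : IsSolvable ↥L := by rw [hL]; exact ctx.loc R hR1 hR2
  have hL2 : ¬ IsPGroup 2 L := fun h => hM2 (h.to_le hML)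
  obtain ⟨QL, hOL⟩ := exists_isO2 L
  have hRL : R ≤ L := by rw [hL]; exact Subgroup.le_normalizer
  have hRQL : R ≤ QL := by
    apply hOL.2.2.2 R hRL hR2
    apply invariant_of_le_normalizer
    rw [hL]
  have hQL1 : QL ≠ ⊥ := by
    intro h
    rw [h, le_bot_iff] at hRQL
    exact hR1 hRQL
  obtain ⟨rL, hrL, hrL2, ⟨aL, haL⟩, hcommL, -⟩ := struct_sub ctx.cc hLsol hOL hQL1 hL2
  have hMsol : IsSolvable ↥M := solvable_mem ctx ⟨hQ1, hO, hMN, hM2⟩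
  obtain ⟨r, hr, hr2, ⟨a, ha⟩, hcommM, -⟩ := struct_sub ctx.cc hMsol hO hQ1 hM2
  have hrr : r = rL := by
    have h1 : Nat.card M ∣ Nat.card L := Subgroup.card_dvd_of_le hML
    rw [ha, haL] at h1
    have h2 : r ∣ rL * 2 ^ aL := (dvd_mul_right r _).trans h1
    rcases (Nat.Prime.dvd_mul hr).mp h2 with h | h
    · exact (Nat.prime_dvd_prime_iff_eq hr hrL).mp h
    · exfalso
      have := hr.dvd_of_dvd_pow h
      exact hr2 ((Nat.prime_dvd_prime_iff_eq hr Nat.prime_two).mp this)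
  subst hrr
  obtain ⟨x, hxM, hxo⟩ := exists_orderOf_eq_of_card hr ha
  have hxL : x ∈ L := hML hxM
  obtain ⟨hQM, hQ2, hQinv, hQmax⟩ := hO
  obtain ⟨hQLL, hQL2, hQLinv, hQLmax⟩ := hOL
  -- Step 1: Q ≤ QL
  have hQQL : Q ≤ QL := by
    have hnorm : Q ≤ Subgroup.normalizer (QL : Set G) :=
      le_normalizer_of_invariant (fun q hq b hb => hQLinv q (hML (hQM hq)) b hb)
    have hY2 : IsPGroup 2 (Q ⊔ QL : Subgroup G) := IsPGroup.to_sup_of_normal_right' hQ2 hQL2 hnorm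
    have hYL : Q ⊔ QL ≤ L := sup_le (hQM.trans hML) hQLL
    have hxY : ∀ c ∈ Q ⊔ QL, x * c * x⁻¹ ∈ Q ⊔ QL :=
      conj_mem_sup (hQinv x hxM) (hQLinv x hxL)
    exact le_sup_left.trans (le_of_invariant_two_group hr hr2 hcommL hxL hxo _ hYL hY2 hxY)
  -- Step 2: QL ⊓ M ≤ Q
  have hstep2 : QL ⊓ M ≤ Q := by
    apply le_of_invariant_two_group hr hr2 hcommM hxM hxo _ inf_le_right (hQL2.to_le inf_le_left)
    intro c hc
    obtain ⟨hc1, hc2⟩ := Subgroup.mem_inf.mp hc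
    exact Subgroup.mem_inf.mpr ⟨hQLinv x hxL c hc1, M.mul_mem (M.mul_mem hxM hc2) (M.inv_mem hxM)⟩
  -- Step 3: QL ≤ Q
  have hQLQ : QL ≤ Q := by
    by_contra hnot
    have hlt : Q < QL := lt_of_le_of_ne hQQL (fun h => hnot (h ▸ le_rfl))
    haveI : Fact (Nat.Prime 2) := ⟨Nat.prime_two⟩
    obtain ⟨n, hnQL, hnN, hnQ⟩ :=
      Cfsg.Agent.Lib.Helper2.exists_mem_normalizer_not_mem hQL2.isNilpotent hlt
    rw [← hMN] at hnN
    exact hnQ (hstep2 (Subgroup.mem_inf.mpr ⟨hnQL, hnN⟩))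
  -- Step 4
  have hQeq : QL = Q := le_antisymm hQLQ hQQL
  rw [hMN, ← hQeq]
  exact le_normalizer_of_invariant hQLinv

theorem mem_no_common' [Finite G] (ctx : CtxP P G) {M Q M' Q' : Subgroup G}
    (hM : Mem M Q) (hM' : Mem M' Q') (hne : M ≠ M') (C : Subgroup G) (hC1 : C ≠ ⊥)
    (hC2 : IsPGroup 2 C) (hCM : ∀ m ∈ M, ∀ c ∈ C, m * c * m⁻¹ ∈ C)
    (hCM' : ∀ m ∈ M', ∀ c ∈ C, m * c * m⁻¹ ∈ C) : False := by
  have h1 : M ≤ Subgroup.normalizer (C : Set G) := le_normalizer_of_invariant hCM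
  have h2 : M' ≤ Subgroup.normalizer (C : Set G) := le_normalizer_of_invariant hCM'
  have h3 := local_le_mem ctx hM C hC1 hC2 h1
  have h4 := local_le_mem ctx hM' C hC1 hC2 h2
  exact hne ((le_antisymm h1 h3).trans (le_antisymm h4 h2))

/-- in a `CCP P` group the centralizer of an involution is a 2-group -/
theorem isPGroup_centralizer_of_cc (hC : CCP P G) {z : G} (hz : orderOf z = 2) :
    IsPGroup 2 (Subgroup.centralizer ({z} : Set G)) := by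
  haveI : Fact (Nat.Prime 2) := ⟨Nat.prime_two⟩
  rw [IsPGroup.iff_orderOf]
  rintro ⟨g, hg⟩
  rw [Subgroup.orderOf_mk]
  rw [Subgroup.mem_centralizer_singleton_iff] at hg
  by_cases hg1 : g = 1
  · exact ⟨0, by rw [hg1, orderOf_one, pow_zero]⟩
  rcases hC g hg1 with h | ⟨hp, -⟩
  · exact h
  by_cases hp2 : orderOf g = 2
  · exact ⟨1, by rw [hp2, pow_one]⟩
  exfalso
  have hcop : (orderOf g).Coprime (orderOf z) := by
    rw [hz]
    exact (Nat.coprime_primes hp Nat.prime_two).mpr hp2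
  have hcomm : Commute g z := hg
  have hord : orderOf (g * z) = orderOf g * 2 := by
    rw [hcomm.orderOf_mul_eq_mul_orderOf_of_coprime hcop, hz]
  have hgz1 : g * z ≠ 1 := by
    intro h
    rw [h, orderOf_one] at hord
    have := hp.pos
    omega
  rcases hC (g * z) hgz1 with ⟨k, hk⟩ | ⟨hq, -⟩
  · rw [hord] at hk
    have h1 : orderOf g ∣ 2 ^ k := by rw [← hk]; exact dvd_mul_right _ _
    exact hp2 ((Nat.prime_dvd_prime_iff_eq hp Nat.prime_two).mp (hp.dvd_of_dvd_pow h1))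
  · rw [hord] at hq
    have := (Nat.prime_mul_iff.mp hq)
    rcases this with ⟨-, h⟩ | ⟨-, h⟩
    · omega
    · exact hp.one_lt.ne' h

theorem exists_invol_of_two_group [Finite G] {C : Subgroup G} (hC1 : C ≠ ⊥) (hC2 : IsPGroup 2 C) :
    ∃ z ∈ C, orderOf z = 2 := by
  haveI : Fact (Nat.Prime 2) := ⟨Nat.prime_two⟩
  have hnt : Nontrivial ↥C := (Subgroup.nontrivial_iff_ne_bot C).mpr hC1
  rcases hC2.card_eq_or_dvd with h | h
  · exfalso
    rw [Subgroup.card_eq_one] at h   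
    exact hC1 h
  · obtain ⟨z, hz⟩ := exists_prime_orderOf_dvd_card' (G := ↥C) 2 h
    exact ⟨z.1, z.2, by rw [Subgroup.orderOf_coe]; exact hz⟩

theorem cent_le [Finite G] (ctx : CtxP P G) {M Q : Subgroup G} (hM : Mem M Q)
    (C : Subgroup G) (hCQ : C ≤ Q) (hC1 : C ≠ ⊥) (hCM : ∀ m ∈ M, ∀ c ∈ C, m * c * m⁻¹ ∈ C) :
    Subgroup.centralizer (C : Set G) ≤ Q := by
  have hC2 : IsPGroup 2 C := hM.2.1.2.1.to_le hCQ
  have h1 : M ≤ Subgroup.normalizer (C : Set G) := le_normalizer_of_invariant hCM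
  have h3 := local_le_mem ctx hM C hC1 hC2 h1
  obtain ⟨z, hzC, hz⟩ := exists_invol_of_two_group hC1 hC2
  have hZ2 : IsPGroup 2 (Subgroup.centralizer (C : Set G)) := by
    apply (isPGroup_centralizer_of_cc ctx.cc hz).to_le
    apply Subgroup.centralizer_le
    simpa using hzC
  have hZM : Subgroup.centralizer (C : Set G) ≤ M :=
    (Subgroup.centralizer_le_normalizer _).trans h3
  apply hM.2.1.2.2.2 _ hZM hZ2
  intro m hm g hg
  rw [Subgroup.mem_centralizer_iff] at hg ⊢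
  intro c hc
  have hc' : m⁻¹ * c * m⁻¹⁻¹ ∈ C := hCM m⁻¹ (inv_mem hm) c hc
  have h := hg _ hc'
  have e1 : c * (m * g * m⁻¹) = m * ((m⁻¹ * c * m⁻¹⁻¹) * g) * m⁻¹ := by group
  have e2 : m * g * m⁻¹ * c = m * (g * (m⁻¹ * c * m⁻¹⁻¹)) * m⁻¹ := by group
  rw [e1, e2, h]

theorem le_syl2_of_invariant {M Q T : Subgroup G} (hT : IsSyl2 T M) (hQM : Q ≤ M)
    (hQ2 : IsPGroup 2 Q) (hQinv : ∀ m ∈ M, ∀ q ∈ Q, m * q * m⁻¹ ∈ Q) : Q ≤ T := by
  obtain ⟨hTM, hT2, hTmax⟩ := hT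
  have hnorm : T ≤ Subgroup.normalizer (Q : Set G) :=
    le_normalizer_of_invariant (fun t ht q hq => hQinv t (hTM ht) q hq)
  have h2 : IsPGroup 2 (T ⊔ Q : Subgroup G) := IsPGroup.to_sup_of_normal_right' hT2 hQ2 hnorm
  have h3 : T ⊔ Q ≤ M := sup_le hTM hQM
  have h4 := hTmax _ h3 h2 le_sup_left
  calc Q ≤ T ⊔ Q := le_sup_right
    _ = T := h4

theorem mem_structure [Finite G] [IsSimpleGroup G] (ctx : CtxP P G) {M Q T : Subgroup G}
    (hM : Mem M Q) (hT : IsSyl2 T M) (hQT : Q ≠ T) : ∃ x r, Loc M Q T x r := by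
  obtain ⟨hQ1, hO, hMN, hM2⟩ := hM
  have hMsol := solvable_mem ctx ⟨hQ1, hO, hMN, hM2⟩
  obtain ⟨r, hr, hr2, ⟨a, ha⟩, hcomm, hTs⟩ := struct_sub ctx.cc hMsol hO hQ1 hM2
  obtain ⟨x, hxM, hxo⟩ := exists_orderOf_eq_of_card hr ha
  have hQTle : Q ≤ T := le_syl2_of_invariant hT hO.1 hO.2.1 hO.2.2.1
  obtain ⟨hTM, hT2, hTmax⟩ := hT
  obtain ⟨hQM, hQ2, hQinv, hQmax⟩ := hO
  obtain ⟨hcyc, hsq⟩ := hTs T hTM hT2
  refine ⟨x, r, ⟨hQTle, hTM, hQinv, hT2, hQ1, hxM, hr, hr2, hxo, ?_, ?_, hcyc, hsq, ?_⟩⟩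
  · intro y hyM hyo q hqQ hyq
    by_contra hq1
    have hz1 : Subgroup.zpowers q ≠ ⊥ := by
      intro h
      rw [Subgroup.zpowers_eq_bot] at h
      exact hq1 h
    have hz2 : IsPGroup 2 (Subgroup.zpowers q) :=
      hQ2.to_le (by rw [Subgroup.zpowers_le]; exact hqQ)
    obtain ⟨z, hzq, hz⟩ := exists_invol_of_two_group hz1 hz2
    obtain ⟨n, rfl⟩ := Subgroup.mem_zpowers_iff.mp hzq
    have hyq' : Commute y q := by
      have : y * q = q * y := by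
        have e : y * q = (y * q * y⁻¹) * y := by group
        rw [e, hyq]
      exact this
    have hyz : y ∈ Subgroup.centralizer ({q ^ n} : Set G) := by
      rw [Subgroup.mem_centralizer_singleton_iff]
      exact (hyq'.zpow_right n)
    obtain ⟨k, hk⟩ := exists_orderOf_of_mem (isPGroup_centralizer_of_cc ctx.cc hz) hyz
    rw [hyo] at hk
    exact ne_two_pow hr hr2 k hk
  · intro b hb hbQ
    exact hcomm x hxM b (hTM hb) hxo (exists_orderOf_of_mem hT2 hb) hbQ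
  · intro C hCQ hC1 hCM
    exact cent_le ctx ⟨hQ1, ⟨hQM, hQ2, hQinv, hQmax⟩, hMN, hM2⟩ C hCQ hC1 hCM

theorem conj_pow_mem {T : Subgroup G} {y : G} (hyT : ∀ t ∈ T, y * t * y⁻¹ ∈ T) (j : ℕ) :
    ∀ t ∈ T, y ^ j * t * (y ^ j)⁻¹ ∈ T := by
  induction j with
  | zero => intro t ht; simpa using ht
  | succ j ih =>
    intro t ht
    have := hyT _ (ih t ht)
    have e : y * (y ^ j * t * (y ^ j)⁻¹) * y⁻¹ = y ^ (j + 1) * t * (y ^ (j + 1))⁻¹ := by
      rw [pow_succ']; group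
    rwa [e] at this

theorem mem_selfnorm [Finite G] [IsSimpleGroup G] (ctx : CtxP P G) {M Q T : Subgroup G}
    (hM : Mem M Q) (hT : IsSyl2 T M) (hQT : Q ≠ T) :
    ∀ y ∈ M, (∀ t ∈ T, y * t * y⁻¹ ∈ T) → y ∈ T := by
  obtain ⟨hQ1, hO, hMN, hM2⟩ := hM
  have hMsol := solvable_mem ctx ⟨hQ1, hO, hMN, hM2⟩
  obtain ⟨r, hr, hr2, ⟨a, ha⟩, hcomm, -⟩ := struct_sub ctx.cc hMsol hO hQ1 hM2
  have hQTle : Q ≤ T := le_syl2_of_invariant hT hO.1 hO.2.1 hO.2.2.1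
  obtain ⟨hTM, hT2, hTmax⟩ := hT
  intro y hyM hyT
  by_cases hy1 : y = 1
  · rw [hy1]; exact one_mem T
  have hcases : (∃ k : ℕ, orderOf y = 2 ^ k) ∨ ((orderOf y).Prime ∧ orderOf y ≠ 2) := by
    rcases ctx.cc y hy1 with h | ⟨hp, -⟩
    · exact Or.inl h
    · by_cases h2 : orderOf y = 2
      · exact Or.inl ⟨1, by rw [h2, pow_one]⟩
      · exact Or.inr ⟨hp, h2⟩
  rcases hcases with ⟨k, hk⟩ | ⟨hp, hp2⟩
  · have hy2 : IsPGroup 2 (Subgroup.zpowers y) :=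
      IsPGroup.of_card (n := k) (by rw [Nat.card_zpowers, hk])
    have hnorm : Subgroup.zpowers y ≤ Subgroup.normalizer (T : Set G) := by
      apply le_normalizer_of_invariant
      intro b hb t ht
      have hb' : b ∈ Submonoid.powers y := (mem_powers_iff_mem_zpowers).mpr hb
      obtain ⟨j, rfl⟩ := (Submonoid.mem_powers_iff _ _).mp hb'
      exact conj_pow_mem hyT j t ht
    have h1 := hTmax (Subgroup.zpowers y ⊔ T)
      (sup_le (by rw [Subgroup.zpowers_le]; exact hyM) hTM)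
      (IsPGroup.to_sup_of_normal_right' hy2 hT2 hnorm) le_sup_right
    rw [← h1]
    exact (le_sup_left : Subgroup.zpowers y ≤ _) (Subgroup.mem_zpowers y)
  · exfalso
    have hdvd : orderOf y ∣ r * 2 ^ a := by rw [← ha]; exact Subgroup.orderOf_dvd_natCard M hyM
    have hyr : orderOf y = r := by
      rcases (Nat.Prime.dvd_mul hp).mp hdvd with h | h
      · exact (Nat.prime_dvd_prime_iff_eq hp hr).mp h
      · exact absurd ((Nat.prime_dvd_prime_iff_eq hp Nat.prime_two).mp (hp.dvd_of_dvd_pow h)) hp2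
    obtain ⟨b, hbT, hbQ⟩ := SetLike.exists_of_lt (lt_of_le_of_ne hQTle hQT)
    have h1 := hcomm y hyM b (hTM hbT) hyr (exists_orderOf_of_mem hT2 hbT) hbQ
    have h2 : b⁻¹ * (y * b * y⁻¹) ∈ T := mul_mem (inv_mem hbT) (hyT b hbT)
    obtain ⟨k, hk⟩ := exists_orderOf_of_mem hT2 h2
    rw [h1] at hk
    exact ne_two_pow hr hr2 k hk

theorem exists_mem_of_local [Finite G] [IsSimpleGroup G] (ctx : CtxP P G) (R : Subgroup G)
    (hR1 : R ≠ ⊥) (hR2 : IsPGroup 2 R)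
    (hn2 : ¬ IsPGroup 2 ↥(Subgroup.normalizer (R : Set G))) :
    ∃ M Q : Subgroup G, Mem M Q ∧ Subgroup.normalizer (R : Set G) ≤ M :=
  exists_mem_of_local' R hR1 hR2 hn2

theorem mem_no_common [Finite G] [IsSimpleGroup G] (ctx : CtxP P G) {M Q M' Q' : Subgroup G}
    (hM : Mem M Q) (hM' : Mem M' Q') (hne : M ≠ M') (C : Subgroup G) (hC1 : C ≠ ⊥)
    (hC2 : IsPGroup 2 C) (hCM : ∀ m ∈ M, ∀ c ∈ C, m * c * m⁻¹ ∈ C)
    (hCM' : ∀ m ∈ M', ∀ c ∈ C, m * c * m⁻¹ ∈ C) : False :=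
  mem_no_common' ctx hM hM' hne C hC1 hC2 hCM hCM'

end Cfsg.Agent.Lib.Helper8.CQ
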