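import Mathlib
import Cfsg.Agent.Lib.Helper8.C5Defs
import Cfsg.Agent.Lib.Helper8.CQLD
import Cfsg.Agent.Lib.Helper8.CQLE
import Cfsg.Agent.Lib.Helper8.CQLC
import Cfsg.Agent.Lib.Helper3.CPPair
import Cfsg.Agent.Lib.Helper1.CPP5C
import Cfsg.Agent.Lib.Helper5.CPEnd2
import Cfsg.Agent.Lib.Helper2.TIZ
import Cfsg.Agent.Lib.Helper1.EPPO1
import Cfsg.Agent.S0183
import Cfsg.Agent.Lib.Helper9.CPFinal
import Cfsg.Agent.S0340

import Cfsg.Agent.Lib.Helper3.C5K2
import Cfsg.Agent.Lib.Helper5.C5K1

set_option autoImplicit false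
set_option maxHeartbeats 4000000
set_option linter.unusedVariables false
set_option linter.unusedSectionVars false
set_option linter.style.longLine false
set_option linter.style.haveILetI false
set_option linter.deprecated false
set_option linter.unusedSimpArgs false
set_option linter.dupNamespace false

/-!
# S3433, Case II: simple `C5` groups all of whose 2-locals are solvable
-/

namespace Cfsg.Agent.Lib.Helper8.C5

open Cfsg.Agent.Lib.Helper3.CP Cfsg.Agent.Lib.Helper8.CQ

universe u

section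
variable {G : Type*} [Group G] [Finite G]

/-- generic form of helper5's P6b: a simple CIT group with a self-centralizing four-group is `PSL₂(F)`. -/
theorem psl2_of_four_group [IsSimpleGroup G]
    (hCIT : ∀ t : G, orderOf t = 2 → IsPGroup 2 (Subgroup.centralizer ({t} : Set G)))
    (hns : ¬ IsSolvable G)
    (E : Subgroup G) (hE : Nat.card E = 4) (hE2 : ∀ e ∈ E, e ^ 2 = 1)
    (hcent : Subgroup.centralizer (E : Set G) ≤ E) :
    ∃ (F : Type) (_ : Field F) (_ : Fintype F),
      Nonempty (G ≃* Matrix.ProjectiveSpecialLinearGroup (Fin 2) F) := by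
  classical
  haveI : Fact (Nat.Prime 2) := ⟨Nat.prime_two⟩
  have hna : ¬ IsMulCommutative G := by
    intro hcomm
    apply hns
    exact isSolvable_of_comm (fun a b => hcomm.is_comm.comm a b)
  -- E is abelian
  have hEcomm : ∀ a ∈ E, ∀ b ∈ E, a * b = b * a := by
    intro a ha b hb
    have h1 := hE2 a ha
    have h2 := hE2 b hb
    have h3 := hE2 (a * b) (E.mul_mem ha hb)
    rw [pow_two] at h1 h2 h3
    have hainv : a⁻¹ = a := inv_eq_of_mul_eq_one_left h1
    have hbinv : b⁻¹ = b := inv_eq_of_mul_eq_one_left h2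
    have habinv : (a * b)⁻¹ = a * b := inv_eq_of_mul_eq_one_left h3
    calc a * b = (a * b)⁻¹ := habinv.symm
      _ = b⁻¹ * a⁻¹ := mul_inv_rev a b
      _ = b * a := by rw [hainv, hbinv]
  have hEp : IsPGroup 2 ↥E := IsPGroup.of_card (n := 2) (by rw [hE]; norm_num)
  obtain ⟨S, hES⟩ := hEp.exists_le_sylow
  have hEnc : ¬ IsCyclic ↥E := Cfsg.Agent.Lib.Helper5.CP.not_isCyclic_of_exp_two E hE hE2
  have hSnc : ¬ IsCyclic ↥(S : Subgroup G) := by
    intro hcyc
    apply hEnc
    have e1 : ↥(E.subgroupOf (S : Subgroup G)) ≃* ↥E := Subgroup.subgroupOfEquivOfLe hES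
    haveI : IsCyclic ↥(E.subgroupOf (S : Subgroup G)) := Subgroup.isCyclic _
    exact isCyclic_of_surjective e1.toMonoidHom e1.surjective
  by_cases hSE : (S : Subgroup G) = E
  · -- Sylow of order four
    have h4 : Nat.card ↥(S : Subgroup G) = 4 := by rw [hSE]; exact hE
    obtain ⟨ψ⟩ := Cfsg.Agent.Lib.Helper5.Fx2.mulEquiv_dihedral_two_of_card_four h4 hSnc
    obtain ⟨F, hField, hFin, _, hiso⟩ :=
      Cfsg.Agent.Lib.Helper5.S3396End.psl_of_dihedral_cit hCIT S 2 le_rfl ⟨ψ⟩
    exact ⟨F, hField, hFin, hiso⟩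
  · -- E < S
    -- the centre of S lies in E
    have hZE : ∀ z ∈ (S : Subgroup G), (∀ s ∈ (S : Subgroup G), s * z = z * s) → z ∈ E := by
      intro z hz hzc
      apply hcent
      rw [Subgroup.mem_centralizer_iff]
      intro e he
      exact hzc e (hES he)
    -- a non-central element of E
    have hu : ∃ u ∈ E, ∃ s ∈ (S : Subgroup G), s * u ≠ u * s := by
      by_contra hno
      push Not at hno
      apply hSE
      apply le_antisymm _ hES
      intro s hs
      apply hcent
      rw [Subgroup.mem_centralizer_iff]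
      intro e he
      exact (hno e he s hs).symm
    obtain ⟨u, huE, s₀, hs₀S, hs₀u⟩ := hu
    have hu1 : u ≠ 1 := by
      rintro rfl
      exact hs₀u (by rw [mul_one, one_mul])
    have huo : orderOf u = 2 := by
      apply orderOf_eq_prime (hE2 u huE) hu1
    -- a central involution
    haveI : Nontrivial ↥(S : Subgroup G) := by
      refine ⟨⟨⟨u, hES huE⟩, 1, ?_⟩⟩
      intro h
      exact hu1 (congrArg Subtype.val h)
    haveI : Nontrivial (Subgroup.center ↥(S : Subgroup G)) := S.isPGroup'.center_nontrivial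
    obtain ⟨⟨z', hz'c⟩, hz'1⟩ := exists_ne (1 : ↥(Subgroup.center ↥(S : Subgroup G)))
    obtain ⟨z, hzdef⟩ : ∃ z : G, z = (z' : G) := ⟨_, rfl⟩
    have hzS : z ∈ (S : Subgroup G) := by rw [hzdef]; exact z'.2
    have hzc : ∀ s ∈ (S : Subgroup G), s * z = z * s := by
      intro s hs
      have := (Subgroup.mem_center_iff.mp hz'c) ⟨s, hs⟩
      have h2 := congrArg Subtype.val this
      rw [hzdef]
      simpa using h2
    have hz1 : z ≠ 1 := by
      intro h
      apply hz'1
      apply Subtype.ext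
      apply Subtype.ext
      rw [← hzdef, h]; rfl
    have hzE : z ∈ E := hZE z hzS hzc
    have hzu : z ≠ u := by
      rintro rfl
      exact hs₀u (hzc s₀ hs₀S)
    -- the centralizer of u in S is E
    obtain ⟨u', hu'def⟩ : ∃ u' : ↥(S : Subgroup G), u' = ⟨u, hES huE⟩ := ⟨_, rfl⟩
    have hu'o : orderOf u' = 2 := by
      rw [← Subgroup.orderOf_coe, hu'def]; exact huo
    have hCu : Subgroup.centralizer ({u'} : Set ↥(S : Subgroup G)) = E.subgroupOf (S : Subgroup G) := by
      ext s
      rw [Subgroup.mem_centralizer_singleton_iff, Subgroup.mem_subgroupOf]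
      constructor
      · intro hsu
        have hsu' : (s : G) * u = u * (s : G) := by
          have := congrArg Subtype.val hsu
          rw [hu'def] at this
          simpa using this
        -- H = E ⊓ C(s) contains 1, u, z
        apply hcent
        rw [Subgroup.mem_centralizer_iff]
        intro e he
        let H : Subgroup G := E ⊓ Subgroup.centralizer ({(s : G)} : Set G)
        have huH : u ∈ H := ⟨huE, Subgroup.mem_centralizer_singleton_iff.mpr hsu'.symm⟩
        have hzH : z ∈ H := ⟨hzE, Subgroup.mem_centralizer_singleton_iff.mpr (hzc s s.2).symm⟩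
        have hHE : H ≤ E := inf_le_left
        have hHcard : Nat.card ↥H = 4 := by
          have hdvd : Nat.card ↥H ∣ 4 := hE ▸ Subgroup.card_dvd_of_le hHE
          have h3 : 3 ≤ Nat.card ↥H := by
            have hinj : Function.Injective (fun i : Fin 3 =>
                (if i = 0 then (⟨1, H.one_mem⟩ : ↥H) else if i = 1 then ⟨u, huH⟩ else ⟨z, hzH⟩)) := by
              intro i j hij
              fin_cases i <;> fin_cases j <;> simp at hij <;> try rfl
              all_goals first
                | exact absurd hij.symm hu1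
                | exact absurd hij hu1
                | exact absurd hij.symm hz1
                | exact absurd hij hz1
                | exact absurd hij.symm hzu
                | exact absurd hij hzu
            have := Nat.card_le_card_of_injective _ hinj
            simpa using this
          have hle : Nat.card ↥H ≤ 4 := Nat.le_of_dvd (by norm_num) hdvd
          interval_cases hH : Nat.card ↥H
          · norm_num at hdvd
          · rfl
        have hHeq : H = E := Subgroup.eq_of_le_of_card_ge hHE (by rw [hHcard, hE])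
        have heH : e ∈ H := by rw [hHeq]; exact he
        exact (Subgroup.mem_centralizer_singleton_iff.mp heH.2)
      · intro hsE
        apply Subtype.ext
        rw [hu'def]
        show (s : G) * u = u * (s : G)
        exact hEcomm _ hsE _ huE
    have hCcard : Nat.card (Subgroup.centralizer ({u'} : Set ↥(S : Subgroup G))) = 4 := by
      rw [hCu, Nat.card_congr (Subgroup.subgroupOfEquivOfLe hES).toEquiv, hE]
    rcases Cfsg.Agent.Lib.Helper5.Fx2.dihedral_or_quasidihedral_of_card_centralizer_four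
      S.isPGroup' u' hu'o hCcard hSnc with ⟨n, ⟨ψ⟩⟩ | hQD
    · -- dihedral
      have hn : 2 ≤ n := by
        by_contra hlt
        have hcS : Nat.card ↥(S : Subgroup G) = 2 * n := by
          rw [Nat.card_congr ψ.toEquiv, DihedralGroup.nat_card]
        have h4 : 4 ≤ Nat.card ↥(S : Subgroup G) := by
          have := Subgroup.card_le_of_le hES
          rwa [hE] at this
        omega
      obtain ⟨F, hField, hFin, _, hiso⟩ :=
        Cfsg.Agent.Lib.Helper5.S3396End.psl_of_dihedral_cit hCIT S n hn ⟨ψ⟩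
      exact ⟨F, hField, hFin, hiso⟩
    · exact (Cfsg.Agent.Lib.Helper5.CP.not_quasiDihedral_of_cit hna hCIT S hQD).elim


/-- a `C5` group is an EPPO group. -/
theorem C5.isEPPO (h : C5 G) : Cfsg.Agent.Lib.Helper1.EPPO.IsEPPO G := by
  intro g hg
  have h1 : orderOf g ≠ 1 := fun h1 => hg (orderOf_eq_one_iff.mp h1)
  rcases h.cases g with h' | h' | h' | h' | h'
  · exact absurd h' h1
  · rw [h']; exact Nat.prime_two.isPrimePow
  · rw [h']; exact Nat.prime_three.isPrimePow
  · rw [h']; exact ⟨2, 2, Nat.prime_two.prime, by norm_num, by norm_num⟩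
  · rw [h']; exact Nat.prime_five.isPrimePow

/-- a `C5` group is a CN-group. -/
theorem C5.isCNGroup (h : C5 G) : Cfsg.IsCNGroup G := by
  intro g hg
  obtain ⟨t, k, ht, hk, htk⟩ := Cfsg.Agent.Lib.Helper1.EPPO.IsEPPO.orderOf_eq h.isEPPO hg
  haveI : Fact t.Prime := ⟨ht⟩
  exact (Cfsg.Agent.Lib.Helper1.EPPO.IsEPPO.isPGroup_centralizer h.isEPPO ht hk htk).isNilpotent

/-- a `C5` group of odd order is solvable (S0183). -/
theorem C5.solvable_of_odd (h : C5 G) (hodd : Odd (Nat.card G)) : Group.IsSolvable G :=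
  Cfsg.Agent.S0183.result hodd h.isCNGroup

/-- a finite `2`-group is solvable. -/
theorem solvable_of_isPGroup_two' (h : IsPGroup 2 G) : Group.IsSolvable G := by
  haveI : Fact (Nat.Prime 2) := ⟨Nat.prime_two⟩
  haveI := h.isNilpotent
  infer_instance

/-- centralizers of nontrivial 2-subgroups are 2-groups. -/
theorem C5.isPGroup_centralizer_of_two (h : C5 G) (Q : Subgroup G) (hQ2 : IsPGroup 2 Q)
    (hQ1 : Q ≠ ⊥) : IsPGroup 2 (Subgroup.centralizer (Q : Set G)) := by
  obtain ⟨q, hqQ, hq1⟩ : ∃ q ∈ Q, q ≠ 1 := by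
    obtain ⟨q, hq⟩ := (Subgroup.ne_bot_iff_exists_ne_one).1 hQ1
    exact ⟨(q : G), q.2, fun h => hq (Subtype.ext h)⟩
  obtain ⟨j, hj, hjo⟩ :=
    Cfsg.Agent.Lib.Helper1.EPPO.orderOf_eq_of_isPGroup Nat.prime_two hQ2 hqQ hq1
  have h1 := Cfsg.Agent.Lib.Helper1.EPPO.IsEPPO.isPGroup_centralizer h.isEPPO Nat.prime_two hj hjo
  refine h1.to_le ?_
  apply Subgroup.centralizer_le
  intro z hz
  rw [Set.mem_singleton_iff] at hz
  subst hz
  exact hqQ

/-- a member `M = N(Q)` has `C_G(Q) ≤ Q`. -/
theorem mem_centralizer_le (h : C5 G) {M Q : Subgroup G} (hM : Mem M Q) :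
    Subgroup.centralizer (Q : Set G) ≤ Q := by
  obtain ⟨hQne, ⟨hQM, hQ2, hQn, hmax⟩, hMN, hM2⟩ := hM
  apply hmax
  · rw [hMN]
    exact Subgroup.centralizer_le_normalizer _
  · exact h.isPGroup_centralizer_of_two Q hQ2 hQne
  · intro m hm c hc
    rw [Subgroup.mem_centralizer_iff] at hc ⊢
    intro q hq
    have hq' : m⁻¹ * q * m ∈ Q := by
      have := hQn m⁻¹ (M.inv_mem hm) q hq
      simpa using this
    have h := hc _ hq'
    calc q * (m * c * m⁻¹) = m * ((m⁻¹ * q * m) * c) * m⁻¹ := by group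
      _ = m * (c * (m⁻¹ * q * m)) * m⁻¹ := by rw [h]
      _ = m * c * m⁻¹ * q := by group

/-- In a `CC` group, a member of `𝓜` with `|Q| = 4` has `Q` of exponent `2`. -/
theorem mem_sq_eq_one (hC : C5 G) {M Q : Subgroup G} (hM : Mem M Q)
    (hQ4 : Nat.card Q = 4) : ∀ e ∈ Q, e ^ 2 = 1 := by
  intro e heQ
  by_contra he2
  obtain ⟨hQne, ⟨hQM, hQ2, hQn, hmax⟩, hMN, hM2⟩ := hM
  -- `e` has order 4
  have hdvd : orderOf e ∣ 4 := by
    have := Subgroup.orderOf_dvd_natCard Q heQ
    rwa [hQ4] at this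
  have ho : orderOf e = 4 := by
    have hle : orderOf e ≤ 4 := Nat.le_of_dvd (by norm_num) hdvd
    have hpos : 0 < orderOf e := Nat.pos_of_dvd_of_pos hdvd (by norm_num)
    have h1 : orderOf e ≠ 1 := by
      intro h
      rw [orderOf_eq_one_iff] at h
      exact he2 (by rw [h, one_pow])
    have h2 : orderOf e ≠ 2 := by
      intro h
      exact he2 (by rw [← h, pow_orderOf_eq_one])
    have h3 : orderOf e ≠ 3 := by
      intro h
      rw [h] at hdvd
      norm_num at hdvd
    omega
  have he4 : e ^ 4 = 1 := by rw [← ho, pow_orderOf_eq_one]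
  -- `Q = ⟨e⟩`
  have hQe : Subgroup.zpowers e = Q := by
    apply Subgroup.eq_of_le_of_card_ge
    · rw [Subgroup.zpowers_le]; exact heQ
    · rw [Nat.card_zpowers, ho, hQ4]
  obtain ⟨y, hyM, r, hr, hr2, hyo⟩ := Cfsg.Agent.Lib.Helper9.CP.exists_odd_prime_order M hM2
  -- the key: a conjugate of `e` by an element `z` of order `r`
  have key : ∀ z : G, orderOf z = r → z * e = e * z → False := by
    intro z hz hcomm
    refine hC.false_of_commute hcomm ?_ ?_ ?_
    · rw [hz, ho]
      have : Nat.Coprime r 2 := (Nat.coprime_primes hr Nat.prime_two).2 hr2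
      exact Nat.Coprime.pow_right 2 this
    · rw [hz]; exact hr.two_le
    · rw [ho]; norm_num
  have hconj : y * e * y⁻¹ ∈ Subgroup.zpowers e := by
    rw [hQe]; exact hQn y hyM e heQ
  rw [← mem_powers_iff_mem_zpowers] at hconj
  obtain ⟨k, hk⟩ := (Submonoid.mem_powers_iff _ _).1 hconj
  have hk' : e ^ (k % 4) = y * e * y⁻¹ := by
    rw [← hk, ← ho, pow_mod_orderOf]
  have hklt : k % 4 < 4 := Nat.mod_lt _ (by norm_num)
  have hconj_ne : y * e * y⁻¹ ≠ 1 := by
    intro h
    have : e = 1 := by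
      have := congrArg (fun w => y⁻¹ * w * y) h
      simpa [mul_assoc] using this
    exact he2 (by rw [this, one_pow])
  have hconj_sq : (y * e * y⁻¹) ^ 2 ≠ 1 := by
    intro h
    have h' : y * e ^ 2 * y⁻¹ = 1 := by
      rw [← h]; simp [pow_two, mul_assoc]
    have : e ^ 2 = 1 := by
      have := congrArg (fun w => y⁻¹ * w * y) h'
      simpa [mul_assoc] using this
    exact he2 this
  interval_cases hkk : k % 4
  · rw [pow_zero] at hk'
    exact hconj_ne hk'.symm
  · rw [pow_one] at hk'
    apply key y hyo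
    calc y * e = (y * e * y⁻¹) * y := by group
      _ = e * y := by rw [← hk']
  · apply hconj_sq
    rw [← hk', ← pow_mul]
    exact he4
  · -- `y e y⁻¹ = e³`, so `y²` commutes with `e`
    have hy2 : orderOf (y ^ 2) = r := by
      rw [Nat.Coprime.orderOf_pow, hyo]
      rw [hyo]
      exact ((Nat.coprime_primes Nat.prime_two hr).2 (Ne.symm hr2)).symm
    apply key (y ^ 2) hy2
    have h3 : y * e ^ 3 * y⁻¹ = e := by
      have : y * e ^ 3 * y⁻¹ = (y * e * y⁻¹) ^ 3 := by
        simp [pow_succ, mul_assoc]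
      rw [this, ← hk', ← pow_mul]
      have : e ^ (3 * 3) = e ^ 4 * e ^ 4 * e := by
        rw [← pow_add, ← pow_succ]
      rw [this, he4, one_mul, one_mul]
    have h4 : y ^ 2 * e * (y ^ 2)⁻¹ = e := by
      calc y ^ 2 * e * (y ^ 2)⁻¹ = y * (y * e * y⁻¹) * y⁻¹ := by
            rw [pow_two]; group
        _ = y * e ^ 3 * y⁻¹ := by rw [← hk']
        _ = e := h3
    calc y ^ 2 * e = (y ^ 2 * e * (y ^ 2)⁻¹) * y ^ 2 := by group
      _ = e * y ^ 2 := by rw [h4]


end

/-- helper1's `no_index_two` for reference: a nonsolvable simple group has no normal subgroup of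
index two. -/
theorem no_index_two' {G : Type*} [Group G] [Finite G] [IsSimpleGroup G] (hns : ¬ IsSolvable G) (N : Subgroup G) (hN : N.Normal) :
    N.index ≠ 2 := by
  intro h2
  rcases hN.eq_bot_or_eq_top with h | h
  · -- G has order 2
    apply hns
    have hcard : Nat.card G = 2 := by
      rw [← Subgroup.index_bot, ← h, h2]
    haveI : Fact (Nat.Prime 2) := ⟨Nat.prime_two⟩
    have : IsPGroup 2 G := IsPGroup.of_card (n := 1) (by rw [hcard, pow_one])
    exact solvable_of_isPGroup_two' this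
  · rw [h, Subgroup.index_top] at h2
    omega

/-- **Case II** of Theorem Y: a simple nonsolvable `C5` group all of whose 2-locals are solvable
has order 60 or 360. -/
theorem caseII {G : Type u} [Group G] [Finite G] [IsSimpleGroup G] (h5 : C5 G)
    (hns : ¬ IsSolvable G)
    (hloc : ∀ R : Subgroup G, R ≠ ⊥ → IsPGroup 2 R →
      IsSolvable ↥(Subgroup.normalizer (R : Set G))) :
    Nat.card G = 60 ∨ Nat.card G = 360 := by
  haveI : Fact (Nat.Prime 2) := ⟨Nat.prime_two⟩
  have ctx : CtxP P5 G := ⟨h5.ccp, hns, hloc⟩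
  have hCIT : ∀ t : G, orderOf t = 2 → IsPGroup 2 (Subgroup.centralizer ({t} : Set G)) :=
    fun t ht => h5.cit t ht
  have hG2 : ¬ IsPGroup 2 G := fun h => hns (solvable_of_isPGroup_two' h)
  have htop2 : ∀ R : Subgroup G, IsPGroup 2 R → R ≠ ⊤ := by
    intro R hR hRtop
    apply hG2
    intro g
    obtain ⟨k, hk⟩ := hR ⟨g, hRtop ▸ Subgroup.mem_top g⟩
    exact ⟨k, by simpa using congrArg Subtype.val hk⟩
  have hpsl : (∃ (F : Type) (_ : Field F) (_ : Fintype F),
      Nonempty (G ≃* Matrix.ProjectiveSpecialLinearGroup (Fin 2) F)) →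
      Nat.card G = 60 ∨ Nat.card G = 360 := by
    rintro ⟨F, hField, hFin, ⟨e⟩⟩
    exact Cfsg.Agent.Lib.Helper5.C5.card_of_psl2 h5 hns F e
  by_cases hnTI : ∃ P Q : Sylow 2 G, P ≠ Q ∧ (P : Subgroup G) ⊓ (Q : Subgroup G) ≠ ⊥
  · obtain ⟨M, Q, hMem, hQ4⟩ :=
      Cfsg.Agent.Lib.Helper1.CP.exists_mem_card_four_of
        (fun h1 h2 h3 => mem_structure ctx h1 h2 h3)
        (fun h1 h2 h3 => mem_selfnorm ctx h1 h2 h3)
        (fun h1 h2 h3 => mem_no_common ctx h1 h2 h3)
        (fun R h1 h2 h3 => exists_mem_of_local ctx R h1 h2 h3)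
        (fun h h' hQQ hQT hQT' hU2 => Cfsg.Agent.Lib.Helper3.CP.pair_lemma h h' hQQ hQT hQT' hU2)
        (fun N hN => no_index_two' hns N hN) hnTI
    exact hpsl (psl2_of_four_group hCIT hns Q hQ4 (mem_sq_eq_one h5 hMem hQ4)
      (mem_centralizer_le h5 hMem))
  · have hTI : ∀ P Q : Sylow 2 G, P ≠ Q → (P : Subgroup G) ⊓ (Q : Subgroup G) = ⊥ := by
      intro P Q hPQ
      by_contra h
      exact hnTI ⟨P, Q, hPQ, h⟩
    have h2 : ∃ P Q : Sylow 2 G, P ≠ Q := by
      by_contra hcon
      push Not at hcon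
      haveI : Subsingleton (Sylow 2 G) := ⟨hcon⟩
      obtain ⟨P⟩ : Nonempty (Sylow 2 G) := inferInstance
      have hPn : (P : Subgroup G).Normal := Sylow.normal_of_subsingleton P
      rcases hPn.eq_bot_or_eq_top with h1 | h1
      · apply hns
        apply h5.solvable_of_odd
        rw [← Nat.not_even_iff_odd]
        intro heven
        exact P.ne_bot_of_dvd_card heven.two_dvd h1
      · exact htop2 P P.isPGroup' h1
    have hZ := Cfsg.Agent.Lib.Helper2.TIZ.zassenhaus_of_cit_ti hCIT hTI h2
    rcases Cfsg.Agent.S0340.result hZ with h | h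
    · exact hpsl h
    · exact (Cfsg.Agent.Lib.Helper3.C5.not_suzuki h5 h).elim


end Cfsg.Agent.Lib.Helper8.C5
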