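import Mathlib
import Cfsg.Agent.Lib.Helper8.C5Defs
import Cfsg.Agent.Lib.Helper8.C5A5
import Cfsg.Agent.Lib.Helper8.C5J

import Cfsg.Agent.Lib.Helper2.C5Hc
import Cfsg.Agent.Lib.Helper2.C5He
import Cfsg.Agent.Lib.Helper4.C5E2
import Cfsg.Agent.Lib.Helper5.C5F
import Cfsg.Agent.Lib.Helper6.C5I
import Cfsg.Agent.Lib.Helper3.C5Hd
import Cfsg.Agent.Lib.Helper6.C5Hb3w
import Cfsg.Agent.Lib.Helper4.C5Hb2

set_option autoImplicit false
set_option maxHeartbeats 4000000
set_option linter.unusedVariables false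
set_option linter.unusedSectionVars false
set_option linter.style.longLine false
set_option linter.style.haveILetI false
set_option linter.deprecated false
set_option linter.unusedSimpArgs false
set_option linter.dupNamespace false

/-!
# S3433, Theorem Y: a simple nonsolvable `C5` group has order 60 or 360
-/

namespace Cfsg.Agent.Lib.Helper8.C5


universe u

/-- **Case I**: some 2-local is nonsolvable. -/
theorem caseI {G : Type u} [Group G] [Finite G] [IsSimpleGroup G] (h5 : C5 G)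
    (hns : ¬ IsSolvable G)
    (IH : ∀ (H : Type u) [Group H] [Finite H], Nat.card H < Nat.card G → C5 H → ¬ IsSolvable H →
      Concl H)
    (hex : ∃ R : Subgroup G, R ≠ ⊥ ∧ IsPGroup 2 ↥R ∧
      ¬ IsSolvable ↥(Subgroup.normalizer (R : Set G))) : False := by
  haveI : Fact (Nat.Prime 2) := ⟨Nat.prime_two⟩
  obtain ⟨Q, hQ1, hQ2, hO, ⟨e⟩⟩ := Cfsg.Agent.Lib.Helper6.C5.exists_A5_local h5 hns IH hex
  set M : Subgroup G := Subgroup.normalizer (Q : Set G) with hM
  have hQM : Q ≤ M := Subgroup.le_normalizer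
  -- Q is elementary abelian (piece F in the group M)
  haveI hnorm : (Q.subgroupOf M).Normal := Subgroup.normal_in_normalizer
  have hQ2' : IsPGroup 2 ↥(Q.subgroupOf M) :=
    hQ2.of_equiv (Subgroup.subgroupOfEquivOfLe hQM).symm
  obtain ⟨hab', hexp'⟩ := Cfsg.Agent.Lib.Helper5.C5.ea_of_quot_A5 (h5.subgroup M) (Q.subgroupOf M) hQ2' e
  have hQab : ∀ a ∈ Q, ∀ b ∈ Q, a * b = b * a := by
    intro a ha b hb
    have := hab' ⟨a, hQM ha⟩ (by rw [Subgroup.mem_subgroupOf]; exact ha) ⟨b, hQM hb⟩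
      (by rw [Subgroup.mem_subgroupOf]; exact hb)
    exact congrArg Subtype.val this
  have hQe : ∀ a ∈ Q, a ^ 2 = 1 := by
    intro a ha
    have := hexp' ⟨a, hQM ha⟩ (by rw [Subgroup.mem_subgroupOf]; exact ha)
    exact congrArg Subtype.val this
  -- the configuration
  obtain ⟨hQc, hT⟩ := Cfsg.Agent.Lib.Helper4.C5.card_of_A5_local h5 hns Q hQ1 e hQab hQe
  have hcfg := Cfsg.Agent.Lib.Helper6.C5.cfg_of_card h5 Q e hQab hQe hQc hT
  obtain ⟨w, hwQ, hw1⟩ : ∃ w ∈ Q, w ≠ 1 := by
    obtain ⟨q, hq⟩ := (Subgroup.ne_bot_iff_exists_ne_one).1 hQ1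
    exact ⟨(q : G), q.2, fun h => hq (Subtype.ext h)⟩
  set T : Subgroup G := Subgroup.centralizer ({w} : Set G) ⊓ M with hTdef
  have hc : Cfg Q T := hcfg w hwQ hw1
  have hT2 : IsPGroup 2 ↥T := IsPGroup.of_card (n := 6) (by rw [hc.Tc]; norm_num)
  obtain ⟨S, hTS⟩ := hT2.exists_le_sylow
  have hST : (S : Subgroup G) = T := Cfsg.Agent.Lib.Helper2.C5.sylow_of_cfg h5 hc S hTS
  have hS64 : Nat.card ↥(S : Subgroup G) = 64 := by rw [hST]; exact hc.Tc
  have hwo : orderOf w = 2 := orderOf_eq_prime (hQe w hwQ) hw1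
  have hwS : w ∈ (S : Subgroup G) := by rw [hST]; exact hc.QT hwQ
  have hwc : ∀ s ∈ (S : Subgroup G), s * w = w * s := by
    intro s hs
    rw [hST] at hs
    have := (Subgroup.mem_inf.mp hs).1
    rw [Subgroup.mem_centralizer_singleton_iff] at this
    exact this
  -- the full centralizer of w is T
  have hCw : Subgroup.centralizer ({w} : Set G) = T := by
    have h1 : (S : Subgroup G) ≤ Subgroup.centralizer ({w} : Set G) := by
      intro s hs
      rw [Subgroup.mem_centralizer_singleton_iff]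
      exact hwc s hs
    have := S.is_maximal' (h5.cit w hwo) h1
    rw [this, hST]
  have hν : Nat.card {u : G // u ^ 2 = w} = 12 := by
    have h12 := Cfsg.Agent.Lib.Helper3.C5.card_sqrt_of_cfg hc w hwQ hw1 (by
      intro t ht
      have := (Subgroup.mem_inf.mp ht).1
      rw [Subgroup.mem_centralizer_singleton_iff] at this
      exact this)
    rw [← h12]
    apply Nat.card_congr
    refine Equiv.subtypeEquivRight ?_
    intro u
    constructor
    · intro hu
      refine ⟨?_, hu⟩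
      rw [← hCw, Subgroup.mem_centralizer_singleton_iff]
      rw [← hu, ← pow_succ, ← pow_succ']
    · intro hu
      exact hu.2
  obtain ⟨h3, h5'⟩ := Cfsg.Agent.Lib.Helper2.C5.exists_inverted_of_A5_local h5 Q hQ2 e hQab
  exact Cfsg.Agent.Lib.Helper4.C5.caseI_arith h5 hns S hS64 w hwo hwS hwc hν h3 h5'

/-- **Theorem Y**. -/
theorem card_of_simple {G : Type u} [Group G] [Finite G] [IsSimpleGroup G] (h5 : C5 G)
    (hns : ¬ IsSolvable G)
    (IH : ∀ (H : Type u) [Group H] [Finite H], Nat.card H < Nat.card G → C5 H → ¬ IsSolvable H →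
      Concl H) :
    Nat.card G = 60 ∨ Nat.card G = 360 := by
  by_cases hex : ∃ R : Subgroup G, R ≠ ⊥ ∧ IsPGroup 2 ↥R ∧
      ¬ IsSolvable ↥(Subgroup.normalizer (R : Set G))
  · exact (caseI h5 hns IH hex).elim
  · push Not at hex
    exact caseII h5 hns (fun R hR1 hR2 => hex R hR1 hR2)

end Cfsg.Agent.Lib.Helper8.C5
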