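import Mathlib
import Cfsg.Agent.Lib.Helper8.C5Defs
import Cfsg.Agent.Lib.Helper8.C5A5
import Cfsg.Agent.Lib.Helper8.C5Y
import Cfsg.Agent.S0494
import Cfsg.Agent.S0497
import Cfsg.Agent.S1475

import Cfsg.Agent.Lib.Helper5.C5F
import Cfsg.Agent.Lib.Helper6.C5M2
import Cfsg.Agent.Lib.Helper9.C5M1
import Cfsg.Agent.Lib.Helper9.C5N1
import Cfsg.Agent.Lib.Helper3.C5N3
import Cfsg.Agent.Lib.Helper5.C5N2

set_option autoImplicit false
set_option maxHeartbeats 4000000
set_option linter.unusedVariables false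
set_option linter.unusedSectionVars false
set_option linter.style.longLine false
set_option linter.style.haveILetI false
set_option linter.deprecated false
set_option linter.unusedSimpArgs false
set_option linter.dupNamespace false

/-!
# S3433, Theorem X: a nonsolvable `C5` group satisfies the conclusion of S3433
-/

namespace Cfsg.Agent.Lib.Helper8.C5


universe u

/-- piece N3 assembled from N1 (helper9), N2 (helper5) and helper3's reduction. -/
theorem no_almost_simple' {G : Type u} [Group G] [Finite G] (h5 : C5 G) (N : Subgroup G) [N.Normal]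
    (hNs : IsSimpleGroup ↥N) (hNns : ¬ IsSolvable ↥N)
    (hcard : Nat.card ↥N = 60 ∨ Nat.card ↥N = 360) (hNtop : N ≠ ⊤) : False :=
  Cfsg.Agent.Lib.Helper3.C5.no_almost_simple_of
    (fun H _ _ h5H N' _ hs hns hc l hl hi => Cfsg.Agent.Lib.Helper9.C5.no_ext_odd h5H N' hs hns hc l hl hi)
    (fun H _ _ h5H N' _ hs hns hc hi => Cfsg.Agent.Lib.Helper5.C5.no_ext_two h5H N' hs hns hc hi)
    h5 N hNs hNns hcard hNtop

/-- a group isomorphic to `A₅` satisfies the conclusion (with `N = ⊥`). -/
theorem concl_of_iso_A5 {G : Type*} [Group G] (e : G ≃* A5) : Concl G := by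
  right
  refine ⟨⊥, inferInstance, ⟨⟨⟨fun a b => ?_⟩⟩, ?_⟩, ⟨(QuotientGroup.quotientBot).trans e⟩⟩
  · have ha : (a : G) = 1 := Subgroup.mem_bot.mp a.2
    have hb : (b : G) = 1 := Subgroup.mem_bot.mp b.2
    apply Subtype.ext
    rw [Subgroup.coe_mul, Subgroup.coe_mul, ha, hb]
  · intro a ha
    rw [Subgroup.mem_bot.mp ha, one_pow]

section
variable {G : Type u} [Group G] [Finite G]

theorem card_quot_lt (A : Subgroup G) [A.Normal] (hA1 : A ≠ ⊥) :
    Nat.card (G ⧸ A) < Nat.card G := by
  have h1 := A.card_mul_index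
  have h2 : Nat.card (G ⧸ A) = A.index := rfl
  have h3 : 1 < Nat.card A := by
    rw [Subgroup.one_lt_card_iff_ne_bot]; exact hA1
  rw [h2]
  have h4 : 0 < A.index := Nat.pos_of_ne_zero (Subgroup.index_ne_zero_of_finite)
  nlinarith

theorem card_sub_lt (K : Subgroup G) (hK : K ≠ ⊤) : Nat.card K < Nat.card G := by
  have h1 : Nat.card K ≤ Nat.card G := Subgroup.card_le_card_group K
  rcases Nat.lt_or_ge (Nat.card K) (Nat.card G) with h | h
  · exact h
  · exact absurd (Subgroup.eq_top_of_card_eq K (le_antisymm h1 h)) hK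

/-- a normal abelian 2-subgroup `A ≠ 1`: induction on `G ⧸ A`. -/
theorem two_case (h5 : C5 G) (hns : ¬ IsSolvable G)
    (IH : ∀ (H : Type u) [Group H] [Finite H], Nat.card H < Nat.card G → C5 H → ¬ IsSolvable H →
      Concl H)
    (A : Subgroup G) [A.Normal] (hA1 : A ≠ ⊥) (hAab : ∀ a ∈ A, ∀ b ∈ A, a * b = b * a)
    (hA2 : IsPGroup 2 ↥A) : Concl G := by
  haveI hAsol : Group.IsSolvable ↥A :=
    Group.isSolvable_of_comm (fun a b => Subtype.ext (hAab a a.2 b b.2))
  have hQns : ¬ IsSolvable (G ⧸ A) := by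
    intro hq
    haveI : Group.IsSolvable (G ⧸ A) := hq
    exact hns (Group.isSolvable_of_ker_le_range (A.subtype) (QuotientGroup.mk' A) (by
      rw [QuotientGroup.ker_mk']; intro x hx; exact ⟨⟨x, hx⟩, rfl⟩))
  rcases IH (G ⧸ A) (card_quot_lt A hA1) (h5.quotient A) hQns with ⟨⟨e⟩⟩ | ⟨E, hEn, hEea, ⟨e⟩⟩
  · exact (Cfsg.Agent.Lib.Helper6.C5.no_A6_quot h5 A hA1 hA2 hAab e).elim
  · haveI := hEn
    -- the preimage of E
    set N1 : Subgroup G := E.comap (QuotientGroup.mk' A) with hN1
    haveI hN1n : N1.Normal := Subgroup.Normal.comap hEn _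
    have hE2 : IsPGroup 2 ↥E := by
      intro x
      refine ⟨1, ?_⟩
      apply Subtype.ext
      rw [Subgroup.coe_pow, pow_one]
      exact hEea.2 x x.2
    have hN12 : IsPGroup 2 ↥N1 := by
      apply IsPGroup.comap_of_ker_isPGroup hE2
      rw [QuotientGroup.ker_mk']
      exact hA2
    let φ : G →* (G ⧸ A) ⧸ E := (QuotientGroup.mk' E).comp (QuotientGroup.mk' A)
    have hφ : Function.Surjective φ :=
      (QuotientGroup.mk'_surjective E).comp (QuotientGroup.mk'_surjective A)
    have hker : φ.ker = N1 := by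
      rw [hN1, ← MonoidHom.comap_ker, QuotientGroup.ker_mk']
    let e' : G ⧸ N1 ≃* A5 :=
      (QuotientGroup.quotientMulEquivOfEq hker.symm).trans
        ((QuotientGroup.quotientKerEquivOfSurjective φ hφ).trans e)
    obtain ⟨hab, hexp⟩ := Cfsg.Agent.Lib.Helper5.C5.ea_of_quot_A5 h5 N1 hN12 e'
    right
    exact ⟨N1, hN1n, ⟨⟨⟨fun a b => Subtype.ext (hab a a.2 b b.2)⟩⟩, hexp⟩, ⟨e'⟩⟩

/-- a normal abelian subgroup `A ≠ 1`. -/
theorem abelian_case (h5 : C5 G) (hns : ¬ IsSolvable G)
    (IH : ∀ (H : Type u) [Group H] [Finite H], Nat.card H < Nat.card G → C5 H → ¬ IsSolvable H →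
      Concl H)
    (A : Subgroup G) [A.Normal] (hA1 : A ≠ ⊥) (hAab : ∀ a ∈ A, ∀ b ∈ A, a * b = b * a) :
    Concl G := by
  by_cases hodd : Odd (Nat.card ↥A)
  · exact (Cfsg.Agent.Lib.Helper9.C5.no_odd_normal h5 hns A hA1 hAab hodd).elim
  · rw [Nat.not_odd_iff_even] at hodd
    haveI : Fact (Nat.Prime 2) := ⟨Nat.prime_two⟩
    obtain ⟨t, ht⟩ := exists_prime_orderOf_dvd_card' 2 hodd.two_dvd
    have hto : orderOf (t : G) = 2 := by rw [Subgroup.orderOf_coe]; exact ht
    have hle : A ≤ Subgroup.centralizer ({(t : G)} : Set G) := by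
      intro a ha
      rw [Subgroup.mem_centralizer_singleton_iff]
      exact hAab a ha t t.2
    exact two_case h5 hns IH A hA1 hAab ((h5.cit (t : G) hto).to_le hle)

/-- the elementary abelian radical `E` of a normal subgroup `N` with `N ⧸ E ≃ A₅` is normal in `G`. -/
theorem map_normal_of_quot_A5 (N : Subgroup G) [N.Normal] (E : Subgroup ↥N) [E.Normal]
    (hE2 : IsPGroup 2 ↥E) (e : ↥N ⧸ E ≃* A5) : (E.map N.subtype).Normal := by
  haveI : Fact (Nat.Prime 2) := ⟨Nat.prime_two⟩
  have key : ∀ g : G, E.map (MulAut.conjNormal g : MulAut ↥N).toMonoidHom ≤ E := by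
    intro g
    set α : ↥N →* ↥N := (MulAut.conjNormal g : MulAut ↥N).toMonoidHom with hα
    have hαs : Function.Surjective α := (MulAut.conjNormal g : MulAut ↥N).surjective
    set Eg : Subgroup ↥N := E.map α with hEg
    haveI hEgn : Eg.Normal := Subgroup.Normal.map inferInstance α hαs
    have hEg2 : IsPGroup 2 ↥Eg := hE2.map α
    set K : Subgroup (↥N ⧸ E) := Eg.map (QuotientGroup.mk' E) with hK
    have hKn : K.Normal := Subgroup.Normal.map hEgn _ (QuotientGroup.mk'_surjective E)
    have hK2 : IsPGroup 2 ↥K := hEg2.map _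
    haveI hsimple : IsSimpleGroup (↥N ⧸ E) := a5_simple e
    rcases hKn.eq_bot_or_eq_top with h | h
    · -- Eg ≤ ker = E
      intro x hx
      have : (QuotientGroup.mk' E) x ∈ K := Subgroup.mem_map_of_mem _ hx
      rw [h, Subgroup.mem_bot] at this
      rw [← QuotientGroup.ker_mk' E]
      exact this
    · exfalso
      have hcard : Nat.card (↥N ⧸ E) = 60 := a5_card e
      have h2 : IsPGroup 2 (↥N ⧸ E) := by
        intro x
        obtain ⟨k, hk⟩ := hK2 ⟨x, h ▸ Subgroup.mem_top x⟩
        exact ⟨k, by simpa using congrArg Subtype.val hk⟩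
      obtain ⟨n, hn⟩ := IsPGroup.iff_card.mp h2
      rw [hcard] at hn
      have h3 : 3 ∣ 2 ^ n := ⟨20, by omega⟩
      have := (Nat.Prime.dvd_of_dvd_pow Nat.prime_three h3)
      omega
  constructor
  intro y hy g
  obtain ⟨x, hx, rfl⟩ := hy
  refine ⟨(MulAut.conjNormal g : MulAut ↥N) x, key g (Subgroup.mem_map_of_mem _ hx), ?_⟩
  simp [MulAut.conjNormal_apply]

/-- a proper nonsolvable normal subgroup. -/
theorem nonsolvable_normal_case (h5 : C5 G) (hns : ¬ IsSolvable G)
    (IH : ∀ (H : Type u) [Group H] [Finite H], Nat.card H < Nat.card G → C5 H → ¬ IsSolvable H →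
      Concl H)
    (N : Subgroup G) [N.Normal] (hNtop : N ≠ ⊤) (hNns : ¬ IsSolvable ↥N) : Concl G := by
  rcases IH ↥N (card_sub_lt N hNtop) (h5.subgroup N) hNns with ⟨⟨e⟩⟩ | ⟨E, hEn, hEea, ⟨e⟩⟩
  · exfalso
    haveI : IsSimpleGroup (alternatingGroup (Fin 6)) := alternatingGroup.isSimpleGroup (by simp)
    haveI : Nontrivial ↥N := e.toEquiv.nontrivial
    have hNs : IsSimpleGroup ↥N :=
      IsSimpleGroup.isSimpleGroup_of_surjective (f := e.symm.toMonoidHom) e.symm.surjective
    have hcard : Nat.card ↥N = 360 := by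
      rw [Nat.card_congr e.toEquiv]
      have h3 := two_mul_nat_card_alternatingGroup (α := Fin 6)
      rw [Nat.card_perm, Nat.card_eq_fintype_card (α := Fin 6), Fintype.card_fin] at h3
      have : Nat.factorial 6 = 720 := by decide
      omega
    exact no_almost_simple' h5 N hNs hNns (Or.inr hcard) hNtop
  · haveI := hEn
    have hE2 : IsPGroup 2 ↥E := by
      intro x
      refine ⟨1, ?_⟩
      apply Subtype.ext
      rw [Subgroup.coe_pow, pow_one]
      exact hEea.2 x x.2
    by_cases hE : E = ⊥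
    · exfalso
      subst hE
      let e2 : ↥N ≃* A5 := (QuotientGroup.quotientBot).symm.trans e
      have hNs : IsSimpleGroup ↥N := a5_simple e2
      exact no_almost_simple' h5 N hNs hNns (Or.inl (a5_card e2)) hNtop
    · haveI hn := map_normal_of_quot_A5 N E hE2 e
      refine abelian_case h5 hns IH (E.map N.subtype) ?_ ?_
      · intro h
        apply hE
        rw [Subgroup.map_eq_bot_iff_of_injective _ N.subtype_injective] at h
        exact h
      · rintro a ⟨x, hx, rfl⟩ b ⟨y, hy, rfl⟩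
        have := hEea.1.is_comm.comm ⟨x, hx⟩ ⟨y, hy⟩
        have h2 := congrArg (fun z : ↥E => ((z : ↥N) : G)) this
        simpa using h2

end

/-- **Theorem X**. -/
theorem concl_of_c5 : ∀ (n : ℕ) (G : Type u) [Group G] [Finite G], Nat.card G = n → C5 G →
    ¬ IsSolvable G → Concl G := by
  intro n
  induction n using Nat.strong_induction_on with
  | _ n IH =>
    intro G _ _ hn h5 hns
    have IH' : ∀ (H : Type u) [Group H] [Finite H], Nat.card H < Nat.card G → C5 H →
        ¬ IsSolvable H → Concl H := by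
      intro H _ _ hlt h5H hnsH
      exact IH (Nat.card H) (hn ▸ hlt) H rfl h5H hnsH
    by_cases hs : IsSimpleGroup G
    · haveI := hs
      rcases card_of_simple h5 hns IH' with h | h
      · obtain ⟨e⟩ := Cfsg.Agent.S0494.result h
        exact concl_of_iso_A5 e
      · exact Or.inl (Cfsg.Agent.S0497.result h)
    · haveI : Nontrivial G := by
        by_contra h
        rw [not_nontrivial_iff_subsingleton] at h
        have hns' : ¬ Group.IsSolvable G := hns
        exact hns' inferInstance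
      have hex : ∃ N : Subgroup G, N.Normal ∧ N ≠ ⊥ ∧ N ≠ ⊤ := by
        by_contra hcon
        push Not at hcon
        apply hs
        refine { exists_pair_ne := exists_pair_ne G, eq_bot_or_eq_top_of_normal := ?_ }
        intro N hN
        by_cases hb : N = ⊥
        · exact Or.inl hb
        · exact Or.inr (hcon N hN hb)
      obtain ⟨N, hNn, hb, ht⟩ := hex
      haveI := hNn
      by_cases hNsol : IsSolvable ↥N
      · obtain ⟨A, hAn, hA1, hAR, hAab⟩ :=
          Cfsg.Agent.Lib.Helper1.EPPO.exists_normal_abelian_of_solvable_normal N hNsol hb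
        haveI := hAn
        exact abelian_case h5 hns IH' A hA1 hAab
      · exact nonsolvable_normal_case h5 hns IH' N ht hNsol

end Cfsg.Agent.Lib.Helper8.C5
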