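import Mathlib
import Cfsg.Agent.Lib.Helper8.D3670A1

/-! S3670 farm, unit A3: the eight linear characters of `B / U` exist. -/

set_option autoImplicit false
set_option linter.style.haveILetI false

namespace Cfsg.Agent.Lib.Helper9.D3670

universe u
variable {G : Type u} [Group G]

/-- a unit of `ℂ` of order `8` -/
theorem h8_exists_zeta : ∃ ζ : ℂˣ, orderOf ζ = 8 := by
  have h := Complex.isPrimitiveRoot_exp 8 (by norm_num)
  have hu : IsUnit (Complex.exp (2 * Real.pi * Complex.I / (8 : ℕ))) := h.isUnit (by norm_num)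
  refine ⟨hu.unit, ?_⟩
  have h2 : IsPrimitiveRoot (hu.unit : ℂˣ) 8 := by
    rw [← IsPrimitiveRoot.coe_units_iff]
    exact h
  exact h2.eq_orderOf.symm

theorem h8_B_le_normalizer (D : BData G) : D.B ≤ Subgroup.normalizer (D.U : Set G) :=
  sup_le Subgroup.le_normalizer (h8_zpowers_le_normalizer D)

/-- A3: the eight linear characters exist. -/
theorem nonempty_linFam (D : BData G) : Nonempty (LinFam D) := by
  obtain ⟨ζ, hζ⟩ := h8_exists_zeta
  haveI hN : (D.U.subgroupOf D.B).Normal :=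
    (Subgroup.normal_subgroupOf_iff_le_normalizer D.U_le_B).mpr (h8_B_le_normalizer D)
  -- the generator of the quotient
  let tB : D.B := ⟨D.t, D.t_mem_B⟩
  let g : D.B ⧸ D.U.subgroupOf D.B := QuotientGroup.mk tB
  have hmkU : ∀ (u : G) (hu : u ∈ D.U),
      (QuotientGroup.mk (⟨u, D.U_le_B hu⟩ : D.B) : D.B ⧸ D.U.subgroupOf D.B) = 1 := by
    intro u hu
    rw [QuotientGroup.eq_one_iff]
    exact Subgroup.mem_subgroupOf.mpr hu
  have hgen : ∀ x : D.B ⧸ D.U.subgroupOf D.B, x ∈ Subgroup.zpowers g := by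
    intro x
    obtain ⟨b, rfl⟩ := QuotientGroup.mk_surjective x
    obtain ⟨u, hu, i, -, hbi⟩ := (mem_B_iff D (b : G)).mp b.2
    have hb : b = (⟨u, D.U_le_B hu⟩ : D.B) * tB ^ i := by
      apply Subtype.ext
      rw [hbi]; rfl
    rw [hb, QuotientGroup.mk_mul, hmkU u hu, one_mul, QuotientGroup.mk_pow]
    exact Subgroup.pow_mem _ (Subgroup.mem_zpowers g) i
  have hord : orderOf g = 8 := by
    apply Nat.dvd_antisymm
    · apply orderOf_dvd_of_pow_eq_one
      change (QuotientGroup.mk tB : D.B ⧸ D.U.subgroupOf D.B) ^ 8 = 1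
      rw [← QuotientGroup.mk_pow]
      have : tB ^ 8 = 1 := by
        apply Subtype.ext
        change D.t ^ 8 = 1
        exact h8_t_pow_eight D
      rw [this, QuotientGroup.mk_one]
    · rw [← D.ordt]
      apply orderOf_dvd_of_pow_eq_one
      have h1 : g ^ orderOf g = 1 := pow_orderOf_eq_one g
      change (QuotientGroup.mk tB : D.B ⧸ D.U.subgroupOf D.B) ^ orderOf g = 1 at h1
      rw [← QuotientGroup.mk_pow, QuotientGroup.eq_one_iff] at h1
      have h2 : D.t ^ orderOf g ∈ D.U := by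
        have := Subgroup.mem_subgroupOf.mp h1
        simpa [tB] using this
      have h3 : D.t ^ orderOf g ∈ Subgroup.zpowers D.t ⊓ D.U :=
        ⟨Subgroup.pow_mem _ (Subgroup.mem_zpowers _) _, h2⟩
      rw [h8_inf_eq_bot D, Subgroup.mem_bot] at h3
      exact h3
  have hdvd : ∀ j : Fin 8, orderOf (ζ ^ (j : ℕ)) ∣ orderOf g := by
    intro j
    rw [hord]
    have h1 : orderOf (ζ ^ (j : ℕ)) ∣ orderOf ζ := orderOf_pow_dvd (j : ℕ)
    rwa [hζ] at h1
  refine ⟨⟨ζ, hζ, fun j => (monoidHomOfForallMemZpowers hgen (hdvd j)).comp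
    (QuotientGroup.mk' (D.U.subgroupOf D.B)), ?_⟩⟩
  intro j
  refine ⟨?_, ?_⟩
  · change (monoidHomOfForallMemZpowers hgen (hdvd j)) g = ζ ^ (j : ℕ)
    exact monoidHomOfForallMemZpowers_apply_gen hgen (hdvd j)
  · intro u hu
    change (monoidHomOfForallMemZpowers hgen (hdvd j))
      (QuotientGroup.mk (⟨u, D.U_le_B hu⟩ : D.B)) = 1
    rw [hmkU u hu, map_one]

end Cfsg.Agent.Lib.Helper9.D3670
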