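import Mathlib
import Cfsg.Agent.Lib.Helper6.Mult
import Cfsg.Agent.Lib.Helper6.Constituent
import Cfsg.Agent.Lib.Helper6.DegreeDvd
import Cfsg.Agent.Lib.Helper6.CharBasic
import Cfsg.Agent.Lib.Helper6.IndFunMore

/-! S3670 farm, unit A2: the parity lemma.

If a `2`-element `t` normalizes a subgroup `U` of odd order and `C_U(t) = 1`, then for every
character `χ` of `G` the degree `χ(1)` and the multiplicity `⟨χ|_U, 1_U⟩` have the same parity.

Proof: the orbits of `⟨t⟩` on `U ∖ {1}` have even size and `χ` is constant on them, so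
`∑_{u ≠ 1} χ(u)` is twice an algebraic integer; it is also the rational integer `|U| m - χ(1)`. -/

set_option autoImplicit false

namespace Cfsg.Agent.Lib.Helper8.U33Parity

open Cfsg Cfsg.Agent.Lib.Helper6
open scoped ComplexConjugate

/-- the algebraic integers of `ℂ` as an additive subgroup -/
def algInt : AddSubgroup ℂ where
  carrier := {z | IsIntegral ℤ z}
  zero_mem' := isIntegral_zero
  add_mem' := fun ha hb => IsIntegral.add ha hb
  neg_mem' := fun ha => IsIntegral.neg ha

theorem mem_algInt {z : ℂ} : z ∈ algInt ↔ IsIntegral ℤ z := Iff.rfl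

/-- A permutation `c` of `2`-power order of a finite set and a `c`-invariant function `f` with values
in an additive subgroup `A`: the sum of `f` is the sum over the fixed points of `c` plus twice an
element of `A`. -/
theorem sum_eq_fixed_add_two_nsmul {R : Type*} [AddCommGroup R] (A : AddSubgroup R) (k : ℕ) :
    ∀ {X : Type*} [Fintype X] [DecidableEq X] (c : Equiv.Perm X), c ^ (2 ^ k) = 1 →
      ∀ f : X → R, (∀ x, f (c x) = f x) → (∀ x, f x ∈ A) →
        ∃ z ∈ A, ∑ x, f x = ∑ x ∈ Finset.univ.filter (fun x => c x = x), f x + 2 • z := by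
  induction k with
  | zero =>
    intro X _ _ c hc f _ _
    rw [pow_zero, pow_one] at hc
    refine ⟨0, A.zero_mem, ?_⟩
    rw [smul_zero, add_zero]
    apply Finset.sum_congr _ (fun _ _ => rfl)
    ext x
    simp [hc]
  | succ k ih =>
    intro X _ _ c hc f hf hA
    have hd : (c * c) ^ (2 ^ k) = 1 := by
      rw [← pow_two, ← pow_mul, ← pow_succ']
      exact hc
    have hfd : ∀ x, f ((c * c) x) = f x := by
      intro x
      rw [Equiv.Perm.mul_apply, hf, hf]
    obtain ⟨z₁, hz₁, h1⟩ := ih (c * c) hd f hfd hA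
    -- an auxiliary injection into `Fin n`, to choose orbit representatives
    let e := Fintype.equivFin X
    let Ylt : Finset X := Finset.univ.filter (fun x => (c * c) x = x ∧ e x < e (c x))
    let Ygt : Finset X := Finset.univ.filter (fun x => (c * c) x = x ∧ e (c x) < e x)
    have hsplit : Finset.univ.filter (fun x => (c * c) x = x) =
        Finset.univ.filter (fun x => c x = x) ∪ (Ylt ∪ Ygt) := by
      ext x
      simp only [Finset.mem_filter, Finset.mem_univ, true_and, Finset.mem_union, Ylt, Ygt]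
      constructor
      · intro hx
        by_cases hcx : c x = x
        · exact Or.inl hcx
        · right
          have hne : e x ≠ e (c x) := fun h => hcx (e.injective h).symm
          rcases lt_or_gt_of_ne hne with h | h
          · exact Or.inl ⟨hx, h⟩
          · exact Or.inr ⟨hx, h⟩
      · rintro (hx | ⟨hx, -⟩ | ⟨hx, -⟩)
        · rw [Equiv.Perm.mul_apply, hx, hx]
        · exact hx
        · exact hx
    have hdisj1 : Disjoint Ylt Ygt := by
      rw [Finset.disjoint_left]
      intro x hx hx'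
      simp only [Finset.mem_filter, Finset.mem_univ, true_and, Ylt, Ygt] at hx hx'
      exact lt_asymm hx.2 hx'.2
    have hdisj2 : Disjoint (Finset.univ.filter (fun x => c x = x)) (Ylt ∪ Ygt) := by
      rw [Finset.disjoint_left]
      intro x hx hx'
      simp only [Finset.mem_filter, Finset.mem_univ, true_and, Finset.mem_union, Ylt, Ygt]
        at hx hx'
      rcases hx' with ⟨-, h⟩ | ⟨-, h⟩
      · rw [hx] at h; exact lt_irrefl _ h
      · rw [hx] at h; exact lt_irrefl _ h
    have hgt : ∑ x ∈ Ygt, f x = ∑ x ∈ Ylt, f x := by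
      symm
      apply Finset.sum_nbij' (fun x => c x) (fun x => c x)
      · intro x hx
        simp only [Finset.mem_filter, Finset.mem_univ, true_and, Ylt, Ygt] at hx ⊢
        have h2 : c (c x) = x := by
          have := hx.1
          rwa [Equiv.Perm.mul_apply] at this
        refine ⟨?_, ?_⟩
        · rw [Equiv.Perm.mul_apply, h2]
        · rw [h2]; exact hx.2
      · intro x hx
        simp only [Finset.mem_filter, Finset.mem_univ, true_and, Ylt, Ygt] at hx ⊢
        have h2 : c (c x) = x := by
          have := hx.1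
          rwa [Equiv.Perm.mul_apply] at this
        refine ⟨?_, ?_⟩
        · rw [Equiv.Perm.mul_apply, h2]
        · rw [h2]; exact hx.2
      · intro x hx
        simp only [Finset.mem_filter, Finset.mem_univ, true_and, Ylt] at hx
        have := hx.1
        rwa [Equiv.Perm.mul_apply] at this
      · intro x hx
        simp only [Finset.mem_filter, Finset.mem_univ, true_and, Ygt] at hx
        have := hx.1
        rwa [Equiv.Perm.mul_apply] at this
      · intro x _
        exact (hf x).symm
    refine ⟨z₁ + ∑ x ∈ Ylt, f x, A.add_mem hz₁ (A.sum_mem fun x _ => hA x), ?_⟩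
    rw [h1, hsplit, Finset.sum_union hdisj2, Finset.sum_union hdisj1, hgt]
    abel

variable {G : Type*} [Group G]

/-- conjugation by `t` as a permutation of a subgroup normalized by `t` -/
def conjPerm (U : Subgroup G) (t : G) (ht : t ∈ Subgroup.normalizer (U : Set G)) :
    Equiv.Perm U where
  toFun u := ⟨t⁻¹ * (u : G) * t, by
    have h := (Subgroup.mem_normalizer_iff.mp (Subgroup.inv_mem _ ht) (u : G)).mp u.2
    simpa using h⟩
  invFun u := ⟨t * (u : G) * t⁻¹, (Subgroup.mem_normalizer_iff.mp ht (u : G)).mp u.2⟩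
  left_inv u := by
    apply Subtype.ext
    simp [mul_assoc]
  right_inv u := by
    apply Subtype.ext
    simp [mul_assoc]

theorem conjPerm_pow_apply (U : Subgroup G) (t : G) (ht : t ∈ Subgroup.normalizer (U : Set G))
    (n : ℕ) (u : U) : (((conjPerm U t ht) ^ n) u : G) = (t ^ n)⁻¹ * (u : G) * t ^ n := by
  induction n generalizing u with
  | zero => simp
  | succ n ih =>
    rw [pow_succ', Equiv.Perm.mul_apply]
    change t⁻¹ * (((conjPerm U t ht) ^ n) u : G) * t = _
    rw [ih, pow_succ]
    simp [mul_assoc]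

variable [Fintype G]

/-- The parity lemma, in sum form. -/
theorem sum_eq (U : Subgroup G) [Fintype U] (t : G) (ht : t ∈ Subgroup.normalizer (U : Set G)) (k : ℕ)
    (ht2 : t ^ (2 ^ k) = 1) (hcent : ∀ u ∈ U, u * t = t * u → u = 1)
    {χ : G → ℂ} (hχ : Cfsg.IsCharacter G χ) :
    ∃ z : ℂ, IsIntegral ℤ z ∧ ∑ u : U, χ (u : G) = (Cfsg.charDegree χ : ℂ) + 2 * z := by
  classical
  have hcls := IsCharacter.isClassFunction hχ
  have hpow : (conjPerm U t ht) ^ (2 ^ k) = 1 := by
    ext u
    rw [conjPerm_pow_apply, ht2]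
    simp
  have hint : ∀ g : G, IsIntegral ℤ (χ g) := by
    intro g
    obtain ⟨n, ρ, rfl⟩ := hχ
    exact isIntegral_character ρ g
  obtain ⟨z, hz, hsum⟩ := sum_eq_fixed_add_two_nsmul algInt k (conjPerm U t ht) hpow
    (fun u : U => χ (u : G))
    (by
      intro u
      change χ (t⁻¹ * (u : G) * t) = χ (u : G)
      have := hcls (u : G) t⁻¹
      rwa [inv_inv] at this)
    (fun u => hint _)
  refine ⟨z, hz, ?_⟩
  have hfix : Finset.univ.filter (fun u : U => (conjPerm U t ht) u = u) = {1} := by
    ext u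
    simp only [Finset.mem_filter, Finset.mem_univ, true_and, Finset.mem_singleton]
    constructor
    · intro h
      have h1 : t⁻¹ * (u : G) * t = (u : G) := congrArg Subtype.val h
      have h2 : (u : G) * t = t * (u : G) := by
        calc (u : G) * t = t * (t⁻¹ * (u : G) * t) := by group
          _ = t * (u : G) := by rw [h1]
      exact Subtype.ext (hcent u u.2 h2)
    · rintro rfl
      apply Subtype.ext
      change t⁻¹ * ((1 : U) : G) * t = ((1 : U) : G)
      simp
  rw [hsum, hfix, Finset.sum_singleton, two_nsmul, two_mul]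
  congr 1
  rw [Subgroup.coe_one]
  exact IsCharacter.apply_one_eq_charDegree hχ

/-- The parity lemma: `χ(1)` and the multiplicity of `1_U` in `χ|_U` have the same parity. -/
theorem parity (U : Subgroup G) [Fintype U] (hodd : Odd (Nat.card U)) (t : G)
    (ht : t ∈ Subgroup.normalizer (U : Set G)) (k : ℕ)
    (ht2 : t ^ (2 ^ k) = 1) (hcent : ∀ u ∈ U, u * t = t * u → u = 1)
    {χ : G → ℂ} (hχ : Cfsg.IsCharacter G χ) :
    ∃ m : ℕ, ∑ u : U, χ (u : G) = (m : ℂ) * (Nat.card U : ℂ) ∧
      m % 2 = Cfsg.charDegree χ % 2 := by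
  classical
  obtain ⟨m, hm⟩ := IsCharacter.classInner_irr_nat (IsCharacter.restrict U hχ)
    (isIrrCharacter_one (G := U))
  have hU0 : (Nat.card U : ℂ) ≠ 0 := by
    have : 0 < Nat.card U := Nat.card_pos
    exact_mod_cast this.ne'
  have hsumm : ∑ u : U, χ (u : G) = (m : ℂ) * (Nat.card U : ℂ) := by
    unfold Cfsg.classInner at hm
    simp only [map_one, mul_one] at hm
    rw [← hm]
    field_simp
  refine ⟨m, hsumm, ?_⟩
  obtain ⟨z, hz, hs⟩ := sum_eq U t ht k ht2 hcent hχ
  -- `2 z` is the integer `m |U| - χ(1)`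
  have h2z : 2 * z = ((m * Nat.card U : ℕ) : ℂ) - (Cfsg.charDegree χ : ℂ) := by
    rw [hsumm] at hs
    push_cast
    rw [hs]; ring
  have hzq : z = (((((m * Nat.card U : ℕ) : ℤ) - (Cfsg.charDegree χ : ℤ)) / 2 : ℚ) : ℂ) := by
    push_cast
    have : z = (2 * z) / 2 := by ring
    rw [this, h2z]
    push_cast
    ring
  rw [hzq] at hz
  obtain ⟨j, hj⟩ := int_of_isIntegral_ratCast hz
  have hjj : 2 * j = ((m * Nat.card U : ℕ) : ℤ) - (Cfsg.charDegree χ : ℤ) := by
    have h3 : (2 : ℚ) * (j : ℚ) =
        ((((m * Nat.card U : ℕ) : ℤ) - (Cfsg.charDegree χ : ℤ) : ℤ) : ℚ) := by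
      rw [hj]; push_cast; ring
    exact_mod_cast h3
  obtain ⟨r, hr⟩ := hodd
  have h4 : ((m * Nat.card U : ℕ) : ℤ) = 2 * ((m : ℤ) * r) + m := by
    rw [hr]; push_cast; ring
  omega

/-- The parity lemma in induced form: the multiplicity of `χ` in `(1_U)^G` has the parity of `χ(1)`. -/
theorem parity_ind (U : Subgroup G) [Fintype U] (hodd : Odd (Nat.card U)) (t : G)
    (ht : t ∈ Subgroup.normalizer (U : Set G)) (k : ℕ)
    (ht2 : t ^ (2 ^ k) = 1) (hcent : ∀ u ∈ U, u * t = t * u → u = 1)
    {χ : G → ℂ} (hχ : Cfsg.IsCharacter G χ) :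
    ∃ m : ℕ, Cfsg.classInner (Cfsg.indFun U (fun _ : U => (1 : ℂ))) χ = (m : ℂ) ∧
      m % 2 = Cfsg.charDegree χ % 2 := by
  obtain ⟨m, hm, hpar⟩ := parity U hodd t ht k ht2 hcent hχ
  refine ⟨m, ?_, hpar⟩
  rw [IndFunMore.classInner_indFun U _ χ (IsCharacter.isClassFunction hχ)]
  have hU0 : (Nat.card U : ℂ) ≠ 0 := by
    have : 0 < Nat.card U := Nat.card_pos
    exact_mod_cast this.ne'
  have h1 : ∑ h : U, (1 : ℂ) * conj (χ (h : G)) = conj (∑ u : U, χ (u : G)) := by
    rw [map_sum]
    apply Finset.sum_congr rfl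
    intro u _
    rw [one_mul]
  rw [h1, hm, map_mul, Complex.conj_natCast, Complex.conj_natCast]
  field_simp

end Cfsg.Agent.Lib.Helper8.U33Parity
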