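import Mathlib
import Cfsg.Agent.Lib.Helper8.D3670A1
import Cfsg.Agent.Lib.Helper8.U33Parity
import Cfsg.Agent.Lib.Helper6.CharOps

/-! S3670 farm, unit A7: the parity lemma `χ(1) ≡ ∑_j ⟨Ind ω_j, χ⟩ (mod 2)`. -/

set_option autoImplicit false
set_option linter.style.haveILetI false

namespace Cfsg.Agent.Lib.Helper9.D3670

open Cfsg Cfsg.Agent.Lib.Helper6
open scoped ComplexConjugate

universe u
variable {G : Type u} [Group G]

open Classical in
/-- the orthogonality relation `∑_j ω_j(b) = 8` or `0` -/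
theorem h8_sum_omega (D : BData G) (L : LinFam D) (b : D.B) :
    ∑ j : Fin 8, ((L.ω j b : ℂˣ) : ℂ) = if (b : G) ∈ D.U then 8 else 0 := by
  split_ifs with hb
  · have h1 : ∀ j : Fin 8, ((L.ω j b : ℂˣ) : ℂ) = 1 := by
      intro j
      have := (L.hω j).2 (b : G) hb
      have hb' : (⟨(b : G), D.U_le_B hb⟩ : D.B) = b := Subtype.ext rfl
      rw [hb'] at this
      rw [this]; rfl
    simp [h1]
  · obtain ⟨u, hu, i, hi, hbi⟩ := (mem_B_iff D (b : G)).mp b.2
    have hi0 : i ≠ 0 := by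
      rintro rfl
      apply hb
      rw [hbi, pow_zero, mul_one]; exact hu
    have hval : ∀ j : Fin 8, ((L.ω j b : ℂˣ) : ℂ) = (((L.ζ : ℂˣ) : ℂ) ^ i) ^ (j : ℕ) := by
      intro j
      have hb' : b = (⟨u, D.U_le_B hu⟩ : D.B) * (⟨D.t, D.t_mem_B⟩ : D.B) ^ i := by
        apply Subtype.ext
        rw [hbi]; rfl
      rw [hb', map_mul, map_pow, (L.hω j).1, (L.hω j).2 u hu, one_mul]
      push_cast
      rw [← pow_mul, ← pow_mul, mul_comm]
    simp_rw [hval]
    rw [Fin.sum_univ_eq_sum_range (fun n => (((L.ζ : ℂˣ) : ℂ) ^ i) ^ n) 8]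
    have hz8 : (((L.ζ : ℂˣ) : ℂ) ^ i) ^ 8 = 1 := by
      rw [← pow_mul, mul_comm, pow_mul]
      have : ((L.ζ : ℂˣ) : ℂ) ^ 8 = 1 := by
        rw [← Units.val_pow_eq_pow_val, ← L.hζ, pow_orderOf_eq_one, Units.val_one]
      rw [this, one_pow]
    have hz1 : ((L.ζ : ℂˣ) : ℂ) ^ i ≠ 1 := by
      intro h
      have h1 : L.ζ ^ i = 1 := by
        apply Units.ext
        rw [Units.val_pow_eq_pow_val, h, Units.val_one]
      have h2 : orderOf L.ζ ∣ i := orderOf_dvd_of_pow_eq_one h1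
      rw [L.hζ] at h2
      have := Nat.le_of_dvd (Nat.pos_of_ne_zero hi0) h2
      omega
    have hgeom := geom_sum_eq hz1 8
    rw [hgeom, hz8, sub_self, zero_div]

/-- A7: parity lemma. -/
theorem parity [Fintype G] (D : BData G) (L : LinFam D) (χ : Cfsg.IrrCharacter G) :
    ∃ n : Fin 8 → ℕ, (∀ j, Cfsg.classInner (L.ind j) (χ : G → ℂ) = (n j : ℂ)) ∧
      Cfsg.charDegree (χ : G → ℂ) % 2 = (∑ j, n j) % 2 := by
  classical
  have hχ : Cfsg.IsCharacter G (χ : G → ℂ) := IsIrrCharacter.isCharacter χ.2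
  have hcls := IsCharacter.isClassFunction hχ
  have hex : ∀ j : Fin 8, ∃ n : ℕ, Cfsg.classInner (L.ind j) (χ : G → ℂ) = (n : ℂ) := by
    intro j
    have hc : Cfsg.IsCharacter G (L.ind j) :=
      IsCharacter.indFun D.B (IsIrrCharacter.isCharacter (isIrrCharacter_of_hom (L.ω j)))
    exact IsCharacter.classInner_irr_nat hc χ.2
  choose n hn using hex
  refine ⟨n, hn, ?_⟩
  haveI : Fintype D.B := Fintype.ofFinite _
  haveI : Fintype D.U := Fintype.ofFinite _
  have hodd : Odd (Nat.card D.U) := by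
    rw [D.cardU]; decide
  obtain ⟨m, hm, hpar⟩ := Cfsg.Agent.Lib.Helper8.U33Parity.parity D.U hodd D.t
    (h8_t_mem_normalizer D) 3 (by norm_num; exact h8_t_pow_eight D)
    (fun u hu h => D.fpf u hu h.symm) hχ
  -- the sum of the multiplicities
  have hsum : ∑ j : Fin 8, (n j : ℂ) = (m : ℂ) := by
    have h1 : ∀ j : Fin 8, (n j : ℂ) =
        (Nat.card D.B : ℂ)⁻¹ * ∑ b : D.B, ((L.ω j b : ℂˣ) : ℂ) * conj ((χ : G → ℂ) b) := by
      intro j
      rw [← hn j]
      exact IndFunMore.classInner_indFun D.B _ _ hcls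
    simp_rw [h1]
    rw [← Finset.mul_sum, Finset.sum_comm]
    simp_rw [← Finset.sum_mul, h8_sum_omega D L]
    have h2 : ∑ b : D.B, (if (b : G) ∈ D.U then (8 : ℂ) else 0) * conj ((χ : G → ℂ) b) =
        8 * conj (∑ u : D.U, (χ : G → ℂ) u) := by
      rw [map_sum, Finset.mul_sum]
      have h3 : ∑ b : D.B, (if (b : G) ∈ D.U then (8 : ℂ) else 0) * conj ((χ : G → ℂ) b) =
          ∑ g ∈ Finset.univ.filter (fun g : G => g ∈ D.B),
            (if g ∈ D.U then (8 : ℂ) else 0) * conj ((χ : G → ℂ) g) := by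
        rw [Finset.sum_subtype (Finset.univ.filter (fun g : G => g ∈ D.B))
          (p := fun g => g ∈ D.B) (by simp)]
      have h4 : ∑ u : D.U, 8 * conj ((χ : G → ℂ) u) =
          ∑ g ∈ Finset.univ.filter (fun g : G => g ∈ D.U), 8 * conj ((χ : G → ℂ) g) := by
        rw [Finset.sum_subtype (Finset.univ.filter (fun g : G => g ∈ D.U))
          (p := fun g => g ∈ D.U) (by simp)]
      rw [h3, h4]
      simp_rw [ite_mul, zero_mul]
      rw [← Finset.sum_filter, Finset.filter_filter]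
      apply Finset.sum_congr _ (fun _ _ => rfl)
      ext g
      simp only [Finset.mem_filter, Finset.mem_univ, true_and]
      exact ⟨fun h => h.2, fun h => ⟨D.U_le_B h, h⟩⟩
    rw [h2, hm, card_B D, D.cardU, map_mul, Complex.conj_natCast, Complex.conj_natCast]
    push_cast
    ring
  have hnat : ∑ j : Fin 8, n j = m := by
    have : ((∑ j : Fin 8, n j : ℕ) : ℂ) = (m : ℂ) := by
      push_cast; exact hsum
    exact_mod_cast this
  rw [hnat, hpar]

end Cfsg.Agent.Lib.Helper9.D3670
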