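import Mathlib

set_option autoImplicit false

namespace Cfsg.Agent.Lib.Helper8.EPAux

/-- helper: `ρ a` on a `mulSingle` -/
theorem rho_mulSingle {T₀ : Type*} [Group T₀]
    {ι : Type*} [DecidableEq ι] {A : Type*} [Group A]
    (ρ : A →* MulAut (ι → T₀)) (π : A →* Equiv.Perm ι) (α : A → ι → MulAut T₀)
    (hcoord : ∀ a f i, ρ a f (π a i) = α a i (f i)) (a : A) (i : ι) (u : T₀) :
    ρ a (Pi.mulSingle i u) = Pi.mulSingle (π a i) (α a i u) := by
  funext k
  obtain ⟨i', rfl⟩ := (π a).surjective k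
  rw [hcoord]
  by_cases h : i' = i
  · subst h; simp
  · rw [Pi.mulSingle_eq_of_ne h, map_one, Pi.mulSingle_eq_of_ne]
    exact fun h' => h ((π a).injective h')

end Cfsg.Agent.Lib.Helper8.EPAux
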