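import Mathlib
import Cfsg.Agent.Lib.Helper8.EPAux

set_option autoImplicit false

namespace Cfsg.Agent.Lib.Helper7.EPAbs

/-- P-C : full diagonal with at least three coordinates is impossible -/
theorem diag_three_false {T₀ : Type*} [Group T₀] [Finite T₀] [IsSimpleGroup T₀]
    (hna : ¬ ∀ a b : T₀, a * b = b * a)
    {ι : Type*} [Fintype ι] [DecidableEq ι] {A : Type*} [Group A]
    (ρ : A →* MulAut (ι → T₀)) (π : A →* Equiv.Perm ι) (α : A → ι → MulAut T₀)
    (D : Subgroup (ι → T₀))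
    (hcoord : ∀ a f i, ρ a f (π a i) = α a i (f i))
    (htrans : ∀ i j, ∃ a, π a i = j)
    (hinn : ∀ d ∈ D, ∃ a, ∀ f, ρ a f = d * f * d⁻¹)
    (hcrit : ∀ (f : ι → T₀) (L : Subgroup A), (∀ a, f⁻¹ * ρ a f ∈ D → a ∈ L) →
      (∀ a ∈ L, f⁻¹ * ρ a f ∈ D) ∨ L = ⊤)
    (hDc : ∀ f, f ∈ D ↔ ∀ i j, f i = f j) (h3 : 3 ≤ Fintype.card ι) : False := by
  classical
  apply hna
  intro t s
  by_cases ht : t = 1
  · subst ht; simp
  obtain ⟨i1, j1, k1, h12, h13, h23⟩ := Fintype.two_lt_card_iff.mp h3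
  have hsingle := Cfsg.Agent.Lib.Helper8.EPAux.rho_mulSingle ρ π α hcoord
  let L : Subgroup A := Subgroup.comap π (MulAction.stabilizer (Equiv.Perm ι) i1)
  have hLmem : ∀ a, a ∈ L ↔ π a i1 = i1 := fun a => by
    simp [L, MulAction.mem_stabilizer_iff]
  set f : ι → T₀ := Pi.mulSingle i1 t with hf
  have hL : ∀ a, f⁻¹ * ρ a f ∈ D → a ∈ L := by
    intro a ha
    rw [hLmem]
    by_contra hne
    rw [hDc] at ha
    obtain ⟨k, hk1, hk2⟩ : ∃ k, k ≠ i1 ∧ k ≠ π a i1 := by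
      by_cases h : j1 = π a i1
      · exact ⟨k1, fun h' => h13 h'.symm, fun h' => h23 (h.trans h'.symm)⟩
      · exact ⟨j1, fun h' => h12 h'.symm, h⟩
    have h1 := ha i1 k
    rw [hf, hsingle] at h1
    simp only [Pi.mul_apply, Pi.inv_apply, Pi.mulSingle_eq_same] at h1
    rw [Pi.mulSingle_eq_of_ne (fun h' => hne h'.symm), Pi.mulSingle_eq_of_ne hk1,
      Pi.mulSingle_eq_of_ne hk2] at h1
    apply ht
    simpa using h1
  have hLtop : L ≠ ⊤ := by
    intro h
    obtain ⟨a, ha⟩ := htrans i1 j1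
    have : a ∈ L := h ▸ Subgroup.mem_top a
    rw [hLmem, ha] at this
    exact h12 this.symm
  have hmain := (hcrit f L hL).resolve_right hLtop
  have hd : (fun _ : ι => s) ∈ D := by
    rw [hDc]; intro i j; rfl
  obtain ⟨a, ha⟩ := hinn _ hd
  have haL : a ∈ L := by
    rw [hLmem]
    by_contra hne
    have h1 := congrFun (ha f) (π a i1)
    rw [hf, hsingle] at h1
    simp only [Pi.mul_apply, Pi.inv_apply, Pi.mulSingle_eq_same] at h1
    rw [Pi.mulSingle_eq_of_ne hne] at h1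
    apply ht
    have h2 : α a i1 t = 1 := by simpa using h1
    have h3' : α a i1 t = α a i1 1 := by rw [h2, map_one]
    exact (α a i1).injective h3'
  have h4 := hmain a haL
  rw [ha f, hDc] at h4
  have h5 := h4 i1 j1
  rw [hf] at h5
  simp only [Pi.mul_apply, Pi.inv_apply, Pi.mulSingle_eq_same] at h5
  rw [Pi.mulSingle_eq_of_ne (fun h' => h12 h'.symm)] at h5
  have h6 : t⁻¹ * (s * t * s⁻¹) = 1 := by simpa using h5
  have h7 : s * t * s⁻¹ = t := by
    have := congrArg (fun x => t * x) h6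
    simpa using this
  calc t * s = (s * t * s⁻¹) * s := by rw [h7]
    _ = s * t := by group

end Cfsg.Agent.Lib.Helper7.EPAbs
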