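import Mathlib
import Cfsg.Agent.Lib.Helper8.EPAux

set_option autoImplicit false

namespace Cfsg.Agent.Lib.Helper7.EPAbs

/-- P-A2 : regular (D = ⊥) with at least two coordinates is impossible -/
theorem regular_false {T₀ : Type*} [Group T₀] [Finite T₀] [IsSimpleGroup T₀]
    {ι : Type*} [Fintype ι] [DecidableEq ι] {A : Type*} [Group A]
    (ρ : A →* MulAut (ι → T₀)) (π : A →* Equiv.Perm ι) (α : A → ι → MulAut T₀)
    (D : Subgroup (ι → T₀))
    (hcoord : ∀ a f i, ρ a f (π a i) = α a i (f i))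
    (htrans : ∀ i j, ∃ a, π a i = j)
    (hcrit : ∀ (f : ι → T₀) (L : Subgroup A), (∀ a, f⁻¹ * ρ a f ∈ D → a ∈ L) →
      (∀ a ∈ L, f⁻¹ * ρ a f ∈ D) ∨ L = ⊤)
    (hmaxP : ∀ X : Subgroup (ι → T₀), D ≤ X → (∀ a, ∀ f ∈ X, ρ a f ∈ X) → X = D ∨ X = ⊤)
    (hD : D = ⊥) (h2 : 2 ≤ Fintype.card ι) : False := by
  classical
  subst hD
  haveI : Nontrivial ι := Fintype.one_lt_card_iff_nontrivial.mp h2
  obtain ⟨i1, i2, h12⟩ := exists_pair_ne ι
  obtain ⟨t, ht⟩ : ∃ t : T₀, t ≠ 1 := exists_ne 1
  have hsingle := Cfsg.Agent.Lib.Helper8.EPAux.rho_mulSingle ρ π α hcoord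
  -- S1
  have hS1 : ∀ i a, π a i = i → ∀ u, α a i u = u := by
    intro i a hai u
    by_cases hu : u = 1
    · subst hu; exact map_one _
    let L : Subgroup A := Subgroup.comap π (MulAction.stabilizer (Equiv.Perm ι) i)
    have hLmem : ∀ a, a ∈ L ↔ π a i = i := fun a => by
      simp [L, MulAction.mem_stabilizer_iff]
    set f : ι → T₀ := Pi.mulSingle i u with hf
    have hL : ∀ a, f⁻¹ * ρ a f ∈ (⊥ : Subgroup (ι → T₀)) → a ∈ L := by
      intro a ha
      rw [Subgroup.mem_bot, inv_mul_eq_one] at ha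
      rw [hLmem]
      by_contra hne
      have h1 := congrFun ha (π a i)
      rw [hf, hsingle] at h1
      rw [Pi.mulSingle_eq_same, Pi.mulSingle_eq_of_ne hne] at h1
      apply hu
      exact (α a i).injective (by rw [← h1, map_one])
    have hLtop : L ≠ ⊤ := by
      intro h
      obtain ⟨j, hj⟩ : ∃ j, j ≠ i := exists_ne i
      obtain ⟨b, hb⟩ := htrans i j
      have : b ∈ L := h ▸ Subgroup.mem_top b
      rw [hLmem, hb] at this
      exact hj this
    have hmain := (hcrit f L hL).resolve_right hLtop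
    have h2' := hmain a ((hLmem a).mpr hai)
    rw [Subgroup.mem_bot, inv_mul_eq_one] at h2'
    have h3 := congrFun h2' i
    rw [hf, hsingle, hai] at h3
    simp only [Pi.mulSingle_eq_same] at h3
    exact h3.symm
  -- S2: cocycle
  have hS2 : ∀ a b i u, α (a * b) i u = α a (π b i) (α b i u) := by
    intro a b i u
    have h1 := hcoord (a * b) (Pi.mulSingle i u) i
    rw [map_mul ρ, MulAut.mul_apply, hsingle, hsingle, map_mul π, Equiv.Perm.mul_apply] at h1
    simp only [Pi.mulSingle_eq_same] at h1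
    exact h1.symm
  choose aj haj using fun j => htrans i1 j
  set g : ι → T₀ := fun j => α (aj j) i1 t with hgdef
  have hg : ∀ b, ρ b g = g := by
    intro b
    funext k
    obtain ⟨j, rfl⟩ := (π b).surjective k
    rw [hcoord]
    show α b j (α (aj j) i1 t) = α (aj (π b j)) i1 t
    have h1 : α (b * aj j) i1 t = α b j (α (aj j) i1 t) := by rw [hS2, haj]
    rw [← h1]
    set c := (aj (π b j))⁻¹ * (b * aj j) with hc
    have hc1 : π c i1 = i1 := by
      rw [hc, map_mul, map_inv, map_mul, Equiv.Perm.mul_apply, Equiv.Perm.mul_apply, haj,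
        Equiv.Perm.inv_eq_iff_eq]
      exact (haj _).symm
    have hc2 : b * aj j = aj (π b j) * c := by rw [hc]; group
    rw [hc2, hS2, hc1, hS1 i1 c hc1]
  let X : Subgroup (ι → T₀) :=
    { carrier := {f | ∀ b, ρ b f = f}
      mul_mem' := by
        intro x y hx hy b
        rw [map_mul, hx b, hy b]
      one_mem' := fun b => map_one _
      inv_mem' := by
        intro x hx b
        rw [map_inv, hx b] }
  have hXmem : ∀ f, f ∈ X ↔ ∀ b, ρ b f = f := fun f => Iff.rfl
  rcases hmaxP X bot_le (fun a f hf => by rw [(hXmem f).mp hf a]; exact hf) with hX | hX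
  · have : g ∈ X := (hXmem g).mpr hg
    rw [hX, Subgroup.mem_bot] at this
    have h1 := congrFun this i1
    apply ht
    exact (α (aj i1) i1).injective (by rw [map_one]; exact h1)
  · have : Pi.mulSingle i1 t ∈ X := hX ▸ Subgroup.mem_top _
    rw [hXmem] at this
    obtain ⟨b, hb⟩ := htrans i1 i2
    have h1 := congrFun (this b) i1
    rw [hsingle, hb, Pi.mulSingle_eq_of_ne h12, Pi.mulSingle_eq_same] at h1
    exact ht h1.symm

end Cfsg.Agent.Lib.Helper7.EPAbs
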