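import Cfsg.Agent.Lib.Helper8.FFT1
import Cfsg.Agent.Lib.Helper1.FF10

/-! Failure of factorization in a semidirect product: existence of a transvection. -/
set_option autoImplicit false
universe u
open Cfsg
open scoped commutatorElement Pointwise

namespace Cfsg.Agent.Lib.Helper8.FFT

open Cfsg.Agent.Lib.Helper1 Cfsg.Agent.Lib.Helper1.FF SemidirectProduct

variable {N X : Type u} [Group N] [Group X]

theorem inr_conj_inl (φ : X →* MulAut N) (g : X) (n : N) :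
    (inr g : N ⋊[φ] X) * inl n * (inr g)⁻¹ = inl (φ g n) := by
  rw [inl_aut, map_inv]

theorem exists_transvection_semidirect [Finite N] [Finite X] {p : ℕ} [hp : Fact p.Prime]
    (φ : X →* MulAut N) (hφ : Function.Injective φ)
    (hNc : ∀ a b : N, a * b = b * a) (hNp : ∀ a : N, a ^ p = 1)
    (Qx : Subgroup X) [hQn : Qx.Normal] (hQ : (Nat.card Qx).Coprime p)
    (hCQ : Subgroup.centralizer (Qx : Set X) ≤ Qx)
    (Ax : Subgroup X) (hAc : ∀ a ∈ Ax, ∀ b ∈ Ax, a * b = b * a) (hAp : IsPGroup p Ax)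
    (hA1 : Ax ≠ ⊥)
    (F : Subgroup N) (hF : ∀ n : N, n ∈ F ↔ ∀ a ∈ Ax, φ a n = n)
    (hoff : Nat.card N ≤ Nat.card Ax * Nat.card F) :
    (p = 2 ∨ p = 3) ∧ ∃ a ∈ Ax, a ≠ 1 ∧ a ^ p = 1 ∧
      ∃ S : Subgroup N, Nat.card S = p ∧ ∀ n : N, φ a n * n⁻¹ ∈ S := by
  haveI : Finite (N ⋊[φ] X) := Finite.of_equiv _ equivProd.symm
  obtain ⟨V', hV'⟩ : ∃ V' : Subgroup (N ⋊[φ] X), V' = (inl : N →* N ⋊[φ] X).range := ⟨_, rfl⟩
  obtain ⟨H', hH'⟩ : ∃ H' : Subgroup (N ⋊[φ] X), H' = (inr : X →* N ⋊[φ] X).range := ⟨_, rfl⟩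
  obtain ⟨Q', hQ'⟩ : ∃ Q' : Subgroup (N ⋊[φ] X), Q' = Qx.map (inr : X →* N ⋊[φ] X) := ⟨_, rfl⟩
  obtain ⟨A', hA'⟩ : ∃ A' : Subgroup (N ⋊[φ] X), A' = Ax.map (inr : X →* N ⋊[φ] X) := ⟨_, rfl⟩
  have hV'n : V'.Normal := by
    rw [hV', range_inl_eq_ker_rightHom]; exact MonoidHom.normal_ker _
  have hV'mem : ∀ v ∈ V', ∃ n : N, inl n = v := by
    intro v hv; rw [hV'] at hv; exact hv
  have hinlV' : ∀ n : N, (inl n : N ⋊[φ] X) ∈ V' := by
    intro n; rw [hV']; exact ⟨n, rfl⟩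
  have hV'el : IsElementaryAbelian p V' := by
    rw [isElementaryAbelian_iff]
    constructor
    · intro a ha b hb
      obtain ⟨n, rfl⟩ := hV'mem a ha
      obtain ⟨m, rfl⟩ := hV'mem b hb
      rw [← map_mul, ← map_mul, hNc]
    · intro a ha
      obtain ⟨n, rfl⟩ := hV'mem a ha
      rw [← map_pow, hNp, map_one]
  have hV'c : ∀ a ∈ V', ∀ b ∈ V', a * b = b * a :=
    fun a ha b hb => isElementaryAbelian_comm hV'el ha hb
  have hcentV' : ∀ g : X, (inr g : N ⋊[φ] X) ∈ Subgroup.centralizer (V' : Set (N ⋊[φ] X)) →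
      g = 1 := by
    intro g hg
    apply hφ
    rw [map_one]
    ext n
    rw [MulAut.one_apply]
    have h1 := Subgroup.mem_centralizer_iff.mp hg (inl n) (hinlV' n)
    have h2 : (inl (φ g n) : N ⋊[φ] X) = inl n := by
      rw [← inr_conj_inl, ← h1]; group
    exact inl_injective h2
  have s : Setup p V' H' Q' := by
    refine ⟨hV'el, ?_, ?_, ?_, ?_, ?_, ?_⟩
    · rw [Subgroup.normalizer_eq_top_iff.mpr hV'n]; exact le_top
    · rw [eq_bot_iff]
      rintro z ⟨hz1, hz2⟩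
      rw [hH'] at hz1
      obtain ⟨g, rfl⟩ := hz1
      rw [Subgroup.mem_bot, hcentV' g hz2, map_one]
    · rw [hQ', hH']; rintro _ ⟨q, _, rfl⟩; exact ⟨q, rfl⟩
    · rw [hH']
      apply le_normalizer_of_conj_mem
      rintro _ ⟨g, rfl⟩ _ hq
      rw [hQ'] at hq ⊢
      obtain ⟨q, hq, rfl⟩ := hq
      refine ⟨g * q * g⁻¹, hQn.conj_mem q hq g, ?_⟩
      rw [map_mul, map_mul, map_inv]
    · rw [hQ', Subgroup.card_map_of_injective inr_injective]; exact hQ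
    · rintro z ⟨hz1, hz2⟩
      rw [hH'] at hz1
      obtain ⟨g, rfl⟩ := hz1
      rw [hQ']
      refine ⟨g, hCQ ?_, rfl⟩
      rw [Subgroup.mem_centralizer_iff]
      intro q hq
      have h1 := Subgroup.mem_centralizer_iff.mp hz2 (inr q) (by rw [hQ']; exact ⟨q, hq, rfl⟩)
      rw [← map_mul, ← map_mul] at h1
      exact inr_injective h1
  have hA'H : A' ≤ H' := by
    rw [hA', hH']; rintro _ ⟨a, _, rfl⟩; exact ⟨a, rfl⟩
  have hA'c : ∀ a ∈ A', ∀ b ∈ A', a * b = b * a := by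
    intro a ha b hb
    rw [hA'] at ha hb
    obtain ⟨a, ha, rfl⟩ := ha
    obtain ⟨b, hb, rfl⟩ := hb
    rw [← map_mul, ← map_mul, hAc a ha b hb]
  have hA'p : IsPGroup p A' := by rw [hA']; exact hAp.map _
  have hnormV' : ∀ B : Subgroup (N ⋊[φ] X), B ≤ Subgroup.normalizer (V' : Set (N ⋊[φ] X)) := by
    intro B; rw [Subgroup.normalizer_eq_top_iff.mpr hV'n]; exact le_top
  have hfaith : ∀ B : Subgroup (N ⋊[φ] X), B ≤ H' → ⁅V', B⁆ = ⊥ → B = ⊥ := by
    intro B hB hcomm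
    rw [Subgroup.commutator_comm, Subgroup.commutator_eq_bot_iff_le_centralizer] at hcomm
    rw [eq_bot_iff, ← s.hf]
    exact le_inf hB hcomm
  have habB : ∀ B : Subgroup (N ⋊[φ] X), B ≤ A' →
      ⁅B, B⁆ ≤ Subgroup.centralizer (V' : Set (N ⋊[φ] X)) := by
    intro B hB
    have : ⁅B, B⁆ = ⊥ := by
      rw [Subgroup.commutator_eq_bot_iff_le_centralizer]
      intro b hb
      rw [Subgroup.mem_centralizer_iff]
      intro c hc
      exact hA'c c (hB hc) b (hB hb)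
    rw [this]; exact bot_le
  have hpowB : ∀ B : Subgroup (N ⋊[φ] X), B ≤ A' → ∀ a ∈ B,
      ∃ k : ℕ, a ^ (p ^ k) ∈ Subgroup.centralizer (V' : Set (N ⋊[φ] X)) := by
    intro B hB a ha
    obtain ⟨k, hk⟩ := hA'p ⟨a, hB ha⟩
    refine ⟨k, ?_⟩
    have : a ^ p ^ k = 1 := by
      have := congrArg Subtype.val hk
      simpa using this
    rw [this]; exact Subgroup.one_mem _
  -- the fixed points of `A'`
  have hfix : V' ⊓ Subgroup.centralizer (A' : Set (N ⋊[φ] X)) = F.map (inl : N →* N ⋊[φ] X) := by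
    ext z
    constructor
    · rintro ⟨hz1, hz2⟩
      obtain ⟨n, rfl⟩ := hV'mem z hz1
      refine ⟨n, ?_, rfl⟩
      rw [SetLike.mem_coe, hF]
      intro a ha
      have h1 := Subgroup.mem_centralizer_iff.mp hz2 (inr a) (by rw [hA']; exact ⟨a, ha, rfl⟩)
      have h2 : (inl (φ a n) : N ⋊[φ] X) = inl n := by
        rw [← inr_conj_inl, h1]; group
      exact inl_injective h2
    · rintro ⟨n, hn, rfl⟩
      refine ⟨hinlV' n, ?_⟩
      show inl n ∈ Subgroup.centralizer (A' : Set (N ⋊[φ] X))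
      rw [Subgroup.mem_centralizer_iff]
      intro b hb
      rw [hA'] at hb
      obtain ⟨a, ha, rfl⟩ := hb
      have h1 := (hF n).mp hn a ha
      have h2 := inr_conj_inl φ a n
      rw [h1] at h2
      calc (inr a : N ⋊[φ] X) * inl n = (inr a * inl n * (inr a)⁻¹) * inr a := by group
        _ = inl n * inr a := by rw [h2]
  have hoff' : Nat.card V' ≤ offVal V' A' := by
    unfold offVal
    rw [hfix, Subgroup.card_map_of_injective inl_injective, hA',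
      Subgroup.card_map_of_injective inr_injective, hV',
      Nat.card_congr (MonoidHom.ofInjective inl_injective).toEquiv.symm]
    exact hoff
  have hA'1 : A' ≠ ⊥ := by
    rw [hA', Ne, Subgroup.map_eq_bot_iff_of_injective _ inr_injective]; exact hA1
  -- a maximizer
  obtain ⟨B₁, hB₁A, hB₁max⟩ := Set.exists_max_image {B : Subgroup (N ⋊[φ] X) | B ≤ A'}
    (fun B => offVal V' B) (Set.toFinite _) ⟨A', (le_rfl : A' ≤ A')⟩
  have hex : ∃ B : Subgroup (N ⋊[φ] X), B ≤ A' ∧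
      (∀ B' : Subgroup (N ⋊[φ] X), B' ≤ A' → offVal V' B' ≤ offVal V' B) ∧ ⁅V', B⁆ ≠ ⊥ := by
    by_cases hB₁ : ⁅V', B₁⁆ = ⊥
    · have hB₁bot := hfaith B₁ (hB₁A.trans hA'H) hB₁
      refine ⟨A', le_rfl, ?_, fun h => hA'1 (hfaith A' hA'H h)⟩
      intro B' hB'
      refine (hB₁max B' hB').trans ?_
      refine le_trans ?_ hoff'
      rw [hB₁bot]
      unfold offVal
      rw [Subgroup.card_bot, one_mul]
      exact Nat.card_mono (Set.toFinite _) inf_le_left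
    · exact ⟨B₁, hB₁A, hB₁max, hB₁⟩
  obtain ⟨B, hBA, hBmax, hBV⟩ := hex
  obtain ⟨hbo, hne⟩ := quadratic_replacement V' B hV'el (hnormV' B) (habB B hBA) (hpowB B hBA)
    (fun B' hB' => hBmax B' (hB'.trans hBA)) hBV
  obtain ⟨B₂, hB₂⟩ : ∃ B₂ : Subgroup (N ⋊[φ] X),
      B₂ = B ⊓ Subgroup.centralizer ((⁅V', B⁆ : Subgroup (N ⋊[φ] X)) : Set (N ⋊[φ] X)) := ⟨_, rfl⟩
  rw [← hB₂] at hbo hne
  have hB₂A : B₂ ≤ A' := by rw [hB₂]; exact inf_le_left.trans hBA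
  -- a minimal one
  obtain ⟨B₃, ⟨hB₃le, hB₃bo, hB₃V⟩, hB₃min⟩ := Set.exists_min_image
    {B' : Subgroup (N ⋊[φ] X) | B' ≤ B₂ ∧ IsBestOffenderOn p V' B' ∧ ⁅V', B'⁆ ≠ ⊥}
    (fun B' => Nat.card B') (Set.toFinite _) ⟨B₂, (le_rfl : B₂ ≤ B₂), hbo, hne⟩
  have hB₃H : B₃ ≤ H' := (hB₃le.trans hB₂A).trans hA'H
  have htr : s.IsTrH B₃ := by
    apply s.isTrH_of_minimal hB₃H hB₃bo hB₃V
    intro B' hB' hB'bo hB'V
    exact Subgroup.eq_of_le_of_card_ge hB' (hB₃min B' ⟨hB'.trans hB₃le, hB'bo, hB'V⟩)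
  refine ⟨htr.p23, ?_⟩
  obtain ⟨⟨b, hb⟩, hb1'⟩ := Subgroup.ne_bot_iff_exists_ne_one.mp htr.ne_bot
  have hb1 : b ≠ 1 := fun e => hb1' (Subtype.ext e)
  have hbA' := (hB₃le.trans hB₂A) hb
  rw [hA'] at hbA'
  obtain ⟨a, haA, rfl⟩ := hbA'
  refine ⟨a, haA, ?_, ?_, ?_⟩
  · rintro rfl; exact hb1 (map_one _)
  · have := htr.pow_eq_one _ hb
    rw [← map_pow] at this
    exact inr_injective (this.trans (map_one _).symm)
  · refine ⟨(⁅V', B₃⁆ : Subgroup (N ⋊[φ] X)).comap (inl : N →* N ⋊[φ] X), ?_, ?_⟩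
    · have hle : ⁅V', B₃⁆ ≤ (inl : N →* N ⋊[φ] X).range := by
        rw [← hV']; exact commutator_le_of_le_normalizer V' B₃ (hnormV' B₃)
      have h1 : ((⁅V', B₃⁆ : Subgroup (N ⋊[φ] X)).comap (inl : N →* N ⋊[φ] X)).map
          (inl : N →* N ⋊[φ] X) = ⁅V', B₃⁆ := by
        rw [Subgroup.map_comap_eq, inf_eq_right.mpr hle]
      rw [← Subgroup.card_map_of_injective (inl_injective (φ := φ)), h1]
      exact htr.hZ
    · intro n
      rw [Subgroup.mem_comap, map_mul, map_inv, ← inr_conj_inl φ a n]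
      have : (inr a : N ⋊[φ] X) * inl n * (inr a)⁻¹ * (inl n)⁻¹ = ⁅(inr a : N ⋊[φ] X), inl n⁆ := by
        rw [commutatorElement_def]
      rw [this, Subgroup.commutator_comm]
      exact Subgroup.commutator_mem_commutator hb (hinlV' n)

end Cfsg.Agent.Lib.Helper8.FFT
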