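import Mathlib

/-!
Norm computation for a Frobenius-like action (towards Mazurov's lemma).
-/

namespace Cfsg.Agent.Lib.Helper8.Mazurov

open Finset

/-- The "trace" over a finite subgroup kills commutators. -/
theorem trace_comm_eq_one {A H : Type*} [CommGroup A] [Group H] (φ : H →* MulAut A)
    (Q : Subgroup H) [Fintype Q] (u : H) (hu : u ∈ Q) (b : A) :
    ∏ w : Q, φ (w : H) (b⁻¹ * φ u b) = 1 := by
  have h1 : ∀ w : Q, φ (w : H) (b⁻¹ * φ u b) = (φ (w : H) b)⁻¹ * φ ((w * ⟨u, hu⟩ : Q) : H) b := by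
    intro w
    rw [map_mul, map_inv, Subgroup.coe_mul, map_mul]
    rfl
  simp_rw [h1]
  rw [Finset.prod_mul_distrib, Finset.prod_inv_distrib]
  have h2 : ∏ w : Q, φ ((w * ⟨u, hu⟩ : Q) : H) b = ∏ w : Q, φ (w : H) b :=
    Fintype.prod_equiv (Equiv.mulRight (⟨u, hu⟩ : Q)) _ _ (fun z => rfl)
  rw [h2, inv_mul_cancel]

theorem frob_norm_abstract {A H : Type*} [CommGroup A] [Group H] (φ : H →* MulAut A)
    (Q : Subgroup H) [Fintype Q] (x : H) (n : ℕ) (hn : 0 < n)
    (hxQ : ∀ z ∈ Q, x * z * x⁻¹ ∈ Q)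
    (hfp : ∀ i : ℕ, ¬ n ∣ i → ∀ z ∈ Q, x ^ i * z * (x ^ i)⁻¹ = z → z = 1)
    (hnorm : ∀ z ∈ Q, ∀ v : A, ∏ i ∈ range n, φ ((z⁻¹ * x * z) ^ i) v = 1)
    (u : H) (hu : u ∈ Q) (a : A) : (a⁻¹ * φ u a) ^ Fintype.card Q = 1 := by
  set v : A := a⁻¹ * φ u a with hv
  -- x^i normalizes Q
  have hxiQ : ∀ i : ℕ, ∀ z ∈ Q, x ^ i * z * (x ^ i)⁻¹ ∈ Q := by
    intro i
    induction i with
    | zero => intro z hz; simpa using hz
    | succ k ih =>
      intro z hz
      have := hxQ _ (ih z hz)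
      have e : x ^ (k + 1) * z * (x ^ (k + 1))⁻¹ = x * (x ^ k * z * (x ^ k)⁻¹) * x⁻¹ := by
        rw [pow_succ']; group
      rw [e]; exact this
  have hsum : ∏ z : Q, ∏ i ∈ range n, φ (((z : H)⁻¹ * x * z) ^ i) v = 1 := by
    apply Finset.prod_eq_one
    intro z _
    exact hnorm z z.2 v
  rw [Finset.prod_comm] at hsum
  obtain ⟨k, rfl⟩ : ∃ k, n = k + 1 := ⟨n - 1, by omega⟩
  rw [Finset.prod_range_succ'] at hsum
  have h0 : ∏ z : Q, φ (((z : H)⁻¹ * x * z) ^ 0) v = v ^ Fintype.card Q := by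
    simp
  rw [h0] at hsum
  have hrest : ∏ i ∈ range k, ∏ z : Q, φ (((z : H)⁻¹ * x * z) ^ (i + 1)) v = 1 := by
    apply Finset.prod_eq_one
    intro i hi
    have hi' : ¬ (k + 1) ∣ (i + 1) := by
      intro hd
      have := Nat.le_of_dvd (by omega) hd
      have := Finset.mem_range.1 hi
      omega
    -- the bijection of Q
    let ψ : Q → Q := fun z => ⟨(z : H)⁻¹ * (x ^ (i + 1) * z * (x ^ (i + 1))⁻¹),
      Q.mul_mem (Q.inv_mem z.2) (hxiQ _ _ z.2)⟩
    have hψinj : Function.Injective ψ := by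
      intro z w hzw
      have h1 : (z : H)⁻¹ * (x ^ (i + 1) * z * (x ^ (i + 1))⁻¹)
          = (w : H)⁻¹ * (x ^ (i + 1) * w * (x ^ (i + 1))⁻¹) := congrArg Subtype.val hzw
      have h2 : x ^ (i + 1) * ((w : H) * (z : H)⁻¹) * (x ^ (i + 1))⁻¹ = (w : H) * (z : H)⁻¹ := by
        have e1 : x ^ (i + 1) * ((w : H) * (z : H)⁻¹) * (x ^ (i + 1))⁻¹
            = (x ^ (i + 1) * w * (x ^ (i + 1))⁻¹) * (x ^ (i + 1) * z * (x ^ (i + 1))⁻¹)⁻¹ := by
          group
        rw [e1]
        have e2 : x ^ (i + 1) * w * (x ^ (i + 1))⁻¹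
            = (w : H) * (z : H)⁻¹ * (x ^ (i + 1) * z * (x ^ (i + 1))⁻¹) := by
          rw [mul_assoc (w : H), h1]; group
        rw [e2]; group
      have h3 := hfp (i + 1) hi' _ (Q.mul_mem w.2 (Q.inv_mem z.2)) h2
      have : (w : H) = z := by
        have := mul_inv_eq_one.1 h3
        exact this
      exact (Subtype.ext this).symm
    have hψbij : Function.Bijective ψ := Finite.injective_iff_bijective.1 hψinj
    have hterm : ∀ z : Q, φ (((z : H)⁻¹ * x * z) ^ (i + 1)) v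
        = φ ((ψ z : Q) : H) (φ (x ^ (i + 1)) v) := by
      intro z
      have e : ((z : H)⁻¹ * x * z) ^ (i + 1) = ((ψ z : Q) : H) * x ^ (i + 1) := by
        have := conj_pow (a := (z : H)⁻¹) (b := x) (i := i + 1)
        simp only [inv_inv] at this
        rw [this]
        show _ = (z : H)⁻¹ * (x ^ (i + 1) * z * (x ^ (i + 1))⁻¹) * x ^ (i + 1)
        group
      rw [e, show φ (((ψ z : Q) : H) * x ^ (i + 1)) = φ ((ψ z : Q) : H) * φ (x ^ (i + 1)) from
        map_mul φ _ _]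
      rfl
    simp_rw [hterm]
    rw [Fintype.prod_bijective ψ hψbij _ (fun w : Q => φ (w : H) (φ (x ^ (i + 1)) v))
      (fun z => rfl)]
    -- φ (x^(i+1)) v is again a commutator
    have hcomm : φ (x ^ (i + 1)) v
        = (φ (x ^ (i + 1)) a)⁻¹ * φ (x ^ (i + 1) * u * (x ^ (i + 1))⁻¹) (φ (x ^ (i + 1)) a) := by
      rw [hv, map_mul, map_inv]
      congr 1
      rw [map_mul, map_mul, map_inv]
      simp
    rw [hcomm]
    exact trace_comm_eq_one φ Q _ (hxiQ _ u hu) _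
  rw [hrest, one_mul] at hsum
  exact hsum

/-- `(v g)^k = (∏_{i<k} g^i v g^{-i}) g^k` inside an abelian subgroup normalised by `g`. -/
theorem pow_mul_conj {G : Type*} [Group G] (A : Subgroup G)
    (hA : ∀ a ∈ A, ∀ b ∈ A, a * b = b * a)
    (g : Subgroup.normalizer (A : Set G)) (v : A) (k : ℕ) :
    letI : CommGroup A := { (inferInstance : Group A) with
      mul_comm := fun a b => Subtype.ext (hA a a.2 b b.2) }
    ((v : G) * (g : G)) ^ k
      = ((∏ i ∈ range k, A.normalizerMonoidHom (g ^ i) v : A) : G) * (g : G) ^ k := by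
  letI : CommGroup A := { (inferInstance : Group A) with
    mul_comm := fun a b => Subtype.ext (hA a a.2 b b.2) }
  induction k with
  | zero => simp
  | succ k ih =>
    rw [pow_succ, ih, Finset.prod_range_succ, Subgroup.coe_mul]
    have h1 : ((A.normalizerMonoidHom (g ^ k) v : A) : G) = (g : G) ^ k * v * ((g : G) ^ k)⁻¹ := by
      rfl
    rw [h1, pow_succ]
    group

theorem frob_centralizes_abelian {G : Type*} [Group G] (A R : Subgroup G) [Finite A] [Finite R]
    (x : G) (n : ℕ) (hn : 0 < n)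
    (hA : ∀ a ∈ A, ∀ b ∈ A, a * b = b * a)
    (hRA : R ≤ Subgroup.normalizer (A : Set G)) (hxA : x ∈ Subgroup.normalizer (A : Set G))
    (hxR : x ∈ Subgroup.normalizer (R : Set G))
    (hcop : (Nat.card R).Coprime (Nat.card A))
    (hfp : ∀ i : ℕ, ¬ n ∣ i → ∀ u ∈ R, x ^ i * u * (x ^ i)⁻¹ = u → u = 1)
    (hnorm : ∀ v ∈ A, ∀ u ∈ R, (v * (u * x * u⁻¹)) ^ n = 1) :
    R ≤ Subgroup.centralizer (A : Set G) := by
  classical
  letI : CommGroup A := { (inferInstance : Group A) with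
    mul_comm := fun a b => Subtype.ext (hA a a.2 b b.2) }
  set Γ := Subgroup.normalizer (A : Set G) with hΓ
  let φ : Γ →* MulAut A := A.normalizerMonoidHom
  let Q : Subgroup Γ := R.subgroupOf Γ
  haveI : Finite Q := Finite.of_injective (fun q : Q => (⟨(q : Γ), q.2⟩ : R))
    (fun a b h => Subtype.ext (Subtype.ext (congrArg (fun r : R => (r : G)) h)))
  letI : Fintype Q := Fintype.ofFinite Q
  let x' : Γ := ⟨x, hxA⟩
  have hφ : ∀ (g : Γ) (a : A), ((φ g a : A) : G) = (g : G) * a * (g : G)⁻¹ := by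
    intro g a
    rfl
  have hcardQ : Fintype.card Q = Nat.card R := by
    rw [← Nat.card_eq_fintype_card]
    exact Nat.card_congr (Subgroup.subgroupOfEquivOfLe hRA).toEquiv
  intro u hu
  rw [Subgroup.mem_centralizer_iff]
  intro a ha
  have key := frob_norm_abstract φ Q x' n hn
    (by
      intro z hz
      rw [Subgroup.mem_subgroupOf] at hz ⊢
      exact (Subgroup.mem_normalizer_iff.1 hxR _).1 hz)
    (by
      intro i hi z hz hfix
      rw [Subgroup.mem_subgroupOf] at hz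
      have h1 := congrArg (fun g : Γ => (g : G)) hfix
      simp only [Subgroup.coe_mul, Subgroup.coe_pow, Subgroup.coe_inv] at h1
      have := hfp i hi _ hz h1
      exact Subtype.ext this)
    (by
      intro z hz v
      rw [Subgroup.mem_subgroupOf] at hz
      have h1 := hnorm v v.2 (z : G)⁻¹ (R.inv_mem hz)
      have h2 := hnorm 1 A.one_mem (z : G)⁻¹ (R.inv_mem hz)
      rw [one_mul, inv_inv] at h2
      rw [inv_inv] at h1
      have h3 := pow_mul_conj A hA (z⁻¹ * x' * z) v n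
      have h4 : ((z⁻¹ * x' * z : Γ) : G) = (z : G)⁻¹ * x * z := by
        simp [x']
      rw [h4, h1, h2, mul_one] at h3
      apply Subtype.ext
      rw [← h3]
      rfl)
    ⟨u, hRA hu⟩ (by rw [Subgroup.mem_subgroupOf]; exact hu) ⟨a, ha⟩
  rw [hcardQ] at key
  set w : A := (⟨a, ha⟩ : A)⁻¹ * φ ⟨u, hRA hu⟩ ⟨a, ha⟩ with hw
  have h1 : orderOf w ∣ Nat.card R := orderOf_dvd_of_pow_eq_one key
  have h2 : orderOf w ∣ Nat.card A := orderOf_dvd_natCard w
  have h3 : orderOf w = 1 := Nat.eq_one_of_dvd_coprimes hcop h1 h2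
  rw [orderOf_eq_one_iff] at h3
  have h4 := congrArg (fun b : A => (b : G)) h3
  simp only [hw, Subgroup.coe_mul, Subgroup.coe_inv, hφ, Subgroup.coe_one] at h4
  -- a⁻¹ * (u * a * u⁻¹) = 1
  have h5 : u * a * u⁻¹ = a := by
    have := mul_eq_one_iff_eq_inv.1 h4
    exact (inv_injective this).symm
  calc a * u = (u * a * u⁻¹) * u := by rw [h5]
    _ = u * a := by group

end Cfsg.Agent.Lib.Helper8.Mazurov
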