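import Mathlib
import Cfsg.Agent.Lib.Helper8.Mazurov1
import Cfsg.Agent.Lib.Helper1.Coprime
import Cfsg.Agent.Lib.Helper1.SZHelpers

/-!
Mazurov's lemma, part 2: sections and solvable subgroups.
-/

namespace Cfsg.Agent.Lib.Helper8.Mazurov

open scoped commutatorElement

/-- In a finite group, `g` normalises `H` as soon as `g H g⁻¹ ⊆ H`. -/
theorem mem_normalizer_of_conj_mem {G : Type*} [Group G] (H : Subgroup G) [Finite H] (g : G)
    (h : ∀ a ∈ H, g * a * g⁻¹ ∈ H) : g ∈ Subgroup.normalizer (H : Set G) := by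
  have hle : H.map (MulAut.conj g).toMonoidHom ≤ H := by
    rintro _ ⟨a, ha, rfl⟩
    exact h a ha
  have heq : H.map (MulAut.conj g).toMonoidHom = H :=
    Subgroup.eq_of_le_of_card_ge hle
      (Subgroup.card_map_of_injective (MulAut.conj g).injective).ge
  rw [Subgroup.mem_normalizer_iff]
  intro x
  constructor
  · exact h x
  · intro hx
    rw [← heq] at hx
    obtain ⟨r, hr, hrx⟩ := hx
    have h1 : g * r * g⁻¹ = g * x * g⁻¹ := hrx
    have h2 := mul_left_cancel (mul_right_cancel h1)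
    rw [← h2]
    exact hr

theorem inf_eq_bot_of_coprime' {G : Type*} [Group G] (R B : Subgroup G) [Finite R] [Finite B]
    (h : (Nat.card R).Coprime (Nat.card B)) : R ⊓ B = ⊥ :=
  (Subgroup.disjoint_of_coprime_natCard h).eq_bot

theorem frob_section {G : Type*} [Group G] [Finite G] (A B R : Subgroup G) (x : G) (n : ℕ)
    (hn : 0 < n)
    (hBA : B ≤ A) (hAB : A ≤ Subgroup.normalizer (B : Set G)) (hab : ⁅A, A⁆ ≤ B)
    (hRA : R ≤ Subgroup.normalizer (A : Set G)) (hRB : R ≤ Subgroup.normalizer (B : Set G))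
    (hxA : x ∈ Subgroup.normalizer (A : Set G)) (hxB : x ∈ Subgroup.normalizer (B : Set G))
    (hxR : x ∈ Subgroup.normalizer (R : Set G))
    (hcop : (Nat.card R).Coprime (Nat.card A))
    (hfp : ∀ i : ℕ, ¬ n ∣ i → ∀ u ∈ R, x ^ i * u * (x ^ i)⁻¹ = u → u = 1)
    (hnorm : ∀ v ∈ A, ∀ u ∈ R, (v * (u * x * u⁻¹)) ^ n = 1) :
    ⁅A, R⁆ ≤ B := by
  classical
  set W := Subgroup.normalizer (B : Set G) with hW
  haveI : (B.subgroupOf W).Normal := Subgroup.normal_in_normalizer
  let π : W →* W ⧸ B.subgroupOf W := QuotientGroup.mk' _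
  have hπ1 : ∀ w : W, π w = 1 ↔ (w : G) ∈ B := by
    intro w
    rw [QuotientGroup.mk'_apply, QuotientGroup.eq_one_iff, Subgroup.mem_subgroupOf]
  set Ab := (A.subgroupOf W).map π with hAb
  set Rb := (R.subgroupOf W).map π with hRb
  let xb := π ⟨x, hxB⟩
  have hRB0 : R ⊓ B = ⊥ := by
    apply inf_eq_bot_of_coprime'
    exact Nat.Coprime.coprime_dvd_right (Subgroup.card_dvd_of_le hBA) hcop
  have hcentr : Rb ≤ Subgroup.centralizer (Ab : Set (W ⧸ B.subgroupOf W)) := by
    apply frob_centralizes_abelian Ab Rb xb n hn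
    · -- abelian
      rintro _ ⟨a, ha, rfl⟩ _ ⟨b, hb, rfl⟩
      simp only [SetLike.mem_coe, Subgroup.mem_subgroupOf] at ha hb
      rw [← map_mul, ← map_mul]
      rw [← mul_inv_eq_one, ← map_inv, ← map_mul, hπ1]
      have : ((a * b * (b * a)⁻¹ : W) : G) = ⁅(a : G), (b : G)⁆ := by
        rw [commutatorElement_def]
        simp only [Subgroup.coe_mul, Subgroup.coe_inv, mul_inv_rev]
        group
      rw [this]
      exact hab (Subgroup.commutator_mem_commutator ha hb)
    · -- Rb normalises Ab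
      rintro _ ⟨u, hu, rfl⟩
      apply mem_normalizer_of_conj_mem
      rintro _ ⟨a, ha, rfl⟩
      simp only [SetLike.mem_coe, Subgroup.mem_subgroupOf] at ha hu
      refine ⟨u * a * u⁻¹, ?_, by simp⟩
      rw [SetLike.mem_coe, Subgroup.mem_subgroupOf]
      simp only [Subgroup.coe_mul, Subgroup.coe_inv]
      exact (Subgroup.mem_normalizer_iff.1 (hRA hu) _).1 ha
    · -- xb normalises Ab
      apply mem_normalizer_of_conj_mem
      rintro _ ⟨a, ha, rfl⟩
      simp only [SetLike.mem_coe, Subgroup.mem_subgroupOf] at ha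
      refine ⟨⟨x, hxB⟩ * a * ⟨x, hxB⟩⁻¹, ?_, by simp [xb]⟩
      rw [SetLike.mem_coe, Subgroup.mem_subgroupOf]
      simp only [Subgroup.coe_mul, Subgroup.coe_inv]
      exact (Subgroup.mem_normalizer_iff.1 hxA _).1 ha
    · -- xb normalises Rb
      apply mem_normalizer_of_conj_mem
      rintro _ ⟨a, ha, rfl⟩
      simp only [SetLike.mem_coe, Subgroup.mem_subgroupOf] at ha
      refine ⟨⟨x, hxB⟩ * a * ⟨x, hxB⟩⁻¹, ?_, by simp [xb]⟩
      rw [SetLike.mem_coe, Subgroup.mem_subgroupOf]
      simp only [Subgroup.coe_mul, Subgroup.coe_inv]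
      exact (Subgroup.mem_normalizer_iff.1 hxR _).1 ha
    · -- coprime
      have h1 : Nat.card Rb ∣ Nat.card R := by
        have := Subgroup.card_map_dvd (H := R.subgroupOf W) π
        rw [Nat.card_congr (Subgroup.subgroupOfEquivOfLe hRB).toEquiv] at this
        exact this
      have h2 : Nat.card Ab ∣ Nat.card A := by
        have := Subgroup.card_map_dvd (H := A.subgroupOf W) π
        rw [Nat.card_congr (Subgroup.subgroupOfEquivOfLe hAB).toEquiv] at this
        exact this
      exact Nat.Coprime.coprime_dvd_left h1 (Nat.Coprime.coprime_dvd_right h2 hcop)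
    · -- fixed points
      rintro i hi _ ⟨u, hu, rfl⟩ hfix
      simp only [SetLike.mem_coe, Subgroup.mem_subgroupOf] at hu
      have h1 : π ((⟨x, hxB⟩ : W) ^ i * u * ((⟨x, hxB⟩ : W) ^ i)⁻¹ * u⁻¹) = 1 := by
        rw [map_mul, map_mul, map_inv, map_inv, map_pow]
        rw [mul_inv_eq_one]
        exact hfix
      rw [hπ1] at h1
      simp only [Subgroup.coe_mul, Subgroup.coe_inv, Subgroup.coe_pow] at h1
      have hxiR : x ^ i * (u : G) * (x ^ i)⁻¹ ∈ R := by
        have hxi : x ^ i ∈ Subgroup.normalizer (R : Set G) := Subgroup.pow_mem _ hxR i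
        exact (Subgroup.mem_normalizer_iff.1 hxi _).1 hu
      have h2 : x ^ i * (u : G) * (x ^ i)⁻¹ * (u : G)⁻¹ ∈ R ⊓ B :=
        Subgroup.mem_inf.2 ⟨R.mul_mem hxiR (R.inv_mem hu), h1⟩
      rw [hRB0, Subgroup.mem_bot, mul_inv_eq_one] at h2
      have h3 := hfp i hi _ hu h2
      have : u = 1 := Subtype.ext h3
      rw [this, map_one]
    · -- norm
      rintro _ ⟨v, hv, rfl⟩ _ ⟨u, hu, rfl⟩
      simp only [SetLike.mem_coe, Subgroup.mem_subgroupOf] at hv hu
      have h1 := hnorm _ hv _ hu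
      have h2 : (v * (u * ⟨x, hxB⟩ * u⁻¹)) ^ n = (1 : W) := by
        apply Subtype.ext
        simp only [Subgroup.coe_mul, Subgroup.coe_inv, Subgroup.coe_pow, Subgroup.coe_one]
        exact h1
      have h3 := congrArg π h2
      rw [map_pow, map_mul, map_mul, map_mul, map_inv, map_one] at h3
      exact h3
  rw [Subgroup.commutator_le]
  intro a ha u hu
  have haW : a ∈ W := hAB ha
  have huW : u ∈ W := hRB hu
  have h1 : π ⟨u, huW⟩ ∈ Rb := ⟨⟨u, huW⟩, by rw [SetLike.mem_coe, Subgroup.mem_subgroupOf]; exact hu, rfl⟩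
  have h2 : π ⟨a, haW⟩ ∈ Ab := ⟨⟨a, haW⟩, by rw [SetLike.mem_coe, Subgroup.mem_subgroupOf]; exact ha, rfl⟩
  have h3 := Subgroup.mem_centralizer_iff.1 (hcentr h1) _ h2
  -- π a * π u = π u * π a
  have h4 : π (⟨a, haW⟩ * ⟨u, huW⟩ * ⟨a, haW⟩⁻¹ * ⟨u, huW⟩⁻¹) = 1 := by
    rw [map_mul, map_mul, map_mul, map_inv, map_inv, h3]
    group
  rw [hπ1] at h4
  rw [commutatorElement_def]
  exact h4

theorem mem_normalizer_of_map_eq {G : Type*} [Group G] (R : Subgroup G) (y : G)
    (h : R.map (MulAut.conj y).toMonoidHom = R) : y ∈ Subgroup.normalizer (R : Set G) := by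
  rw [Subgroup.mem_normalizer_iff]
  intro x
  constructor
  · intro hx
    rw [← h]
    exact ⟨x, hx, rfl⟩
  · intro hx
    rw [← h] at hx
    obtain ⟨r, hr, hrx⟩ := hx
    have : r = x := by
      have h1 : y * r * y⁻¹ = y * x * y⁻¹ := hrx
      have h2 := mul_right_cancel h1
      exact mul_left_cancel h2
    rw [← this]
    exact hr

theorem map_eq_of_mem_normalizer {G : Type*} [Group G] (R : Subgroup G) (y : G)
    (h : y ∈ Subgroup.normalizer (R : Set G)) : R.map (MulAut.conj y).toMonoidHom = R := by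
  apply le_antisymm
  · rintro _ ⟨x, hx, rfl⟩
    exact (Subgroup.mem_normalizer_iff.1 h x).1 hx
  · intro x hx
    refine ⟨y⁻¹ * x * y, ?_, ?_⟩
    · have := (Subgroup.mem_normalizer_iff.1 (Subgroup.inv_mem _ h) x).1 hx
      simpa using this
    · show y * (y⁻¹ * x * y) * y⁻¹ = x
      group

theorem mem_normalizer_commutator {G : Type*} [Group G] (P : Subgroup G) (y : G)
    (h : y ∈ Subgroup.normalizer (P : Set G)) : y ∈ Subgroup.normalizer ((⁅P, P⁆ : Subgroup G) : Set G) := by
  apply mem_normalizer_of_map_eq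
  rw [Subgroup.map_commutator, map_eq_of_mem_normalizer P y h]

theorem frob_centralizes_solvable {G : Type*} [Group G] [Finite G] (R : Subgroup G) (x : G)
    (n : ℕ) (hn : 0 < n) (hRsolv : Group.IsSolvable R)
    (hxR : x ∈ Subgroup.normalizer (R : Set G))
    (hfp : ∀ i : ℕ, ¬ n ∣ i → ∀ u ∈ R, x ^ i * u * (x ^ i)⁻¹ = u → u = 1) :
    ∀ (k : ℕ) (P : Subgroup G), Nat.card P = k → Group.IsSolvable P →
      R ≤ Subgroup.normalizer (P : Set G) → x ∈ Subgroup.normalizer (P : Set G) →
      (Nat.card R).Coprime (Nat.card P) →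
      (∀ v ∈ P, ∀ u ∈ R, (v * (u * x * u⁻¹)) ^ n = 1) →
      R ≤ Subgroup.centralizer (P : Set G) := by
  intro k
  induction k using Nat.strong_induction_on with
  | _ k ih =>
  intro P hk hPsolv hRP hxP hcop hnorm
  by_cases hab : (⁅P, P⁆ : Subgroup G) = ⊥
  · apply frob_centralizes_abelian P R x n hn _ hRP hxP hxR hcop hfp hnorm
    intro a ha b hb
    have := (Subgroup.commutator_eq_bot_iff_le_centralizer.1 hab) ha
    exact (Subgroup.mem_centralizer_iff.1 this b hb).symm
  · have hPne : P ≠ ⊥ := by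
      intro h
      apply hab
      rw [h]
      exact Subgroup.commutator_bot_left _
    have hne := Cfsg.Agent.Lib.Helper1.commutator_self_ne_of_isSolvable P hPne
    have hle : (⁅P, P⁆ : Subgroup G) ≤ P := by
      rw [Subgroup.commutator_le]
      intro a ha b hb
      rw [commutatorElement_def]
      exact P.mul_mem (P.mul_mem (P.mul_mem ha hb) (P.inv_mem ha)) (P.inv_mem hb)
    have hlt : (⁅P, P⁆ : Subgroup G) < P := lt_of_le_of_ne hle hne
    have hcard : Nat.card (⁅P, P⁆ : Subgroup G) < k := by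
      rw [← hk]
      by_contra hcon
      push Not at hcon
      exact hne (Subgroup.eq_of_le_of_card_ge hle hcon)
    have hRP' : R ≤ Subgroup.normalizer ((⁅P, P⁆ : Subgroup G) : Set G) :=
      fun u hu => mem_normalizer_commutator P u (hRP hu)
    have hxP' := mem_normalizer_commutator P x hxP
    have hsolv' : Group.IsSolvable (⁅P, P⁆ : Subgroup G) :=
      Group.isSolvable_of_isSolvable_injective (f := Subgroup.inclusion hle) (Subgroup.inclusion_injective hle)
    have hcop' : (Nat.card R).Coprime (Nat.card (⁅P, P⁆ : Subgroup G)) :=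
      Nat.Coprime.coprime_dvd_right (Subgroup.card_dvd_of_le hle) hcop
    have h1 := ih _ hcard ⁅P, P⁆ rfl hsolv' hRP' hxP' hcop' (fun v hv u hu => hnorm v (hle hv) u hu)
    have h2 : ⁅P, R⁆ ≤ ⁅P, P⁆ :=
      frob_section P ⁅P, P⁆ R x n hn hle
        (fun a ha => mem_normalizer_commutator P a (Subgroup.le_normalizer ha)) le_rfl hRP hRP' hxP hxP'
        hxR hcop hfp hnorm
    have h3 : ⁅⁅P, R⁆, R⁆ = ⊥ := by
      rw [eq_bot_iff]
      have h4 : ⁅(⁅P, P⁆ : Subgroup G), R⁆ = ⊥ := by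
        rw [Subgroup.commutator_comm]
        exact Subgroup.commutator_eq_bot_iff_le_centralizer.2 h1
      rw [← h4]
      exact Subgroup.commutator_mono h2 le_rfl
    have h5 := Cfsg.Agent.Lib.Helper1.coprime_commutator_commutator R P hRP hcop (Or.inl hRsolv)
    rw [h3] at h5
    rw [← Subgroup.commutator_eq_bot_iff_le_centralizer, Subgroup.commutator_comm]
    exact h5.symm

end Cfsg.Agent.Lib.Helper8.Mazurov
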