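import Mathlib
import Cfsg.Agent.Lib.Helper8.Mazurov2

/-!
Thompson's dihedral lemma, part 1: eigenvectors of an elementary abelian 2-group acting on an
abelian section `W / Z`.
-/

namespace Cfsg.Agent.Lib.Helper8.ThompsonDihedral

open scoped commutatorElement

variable {G : Type*} [Group G]

/-- the elements of `W` centralised by `a` modulo `Z` -/
def centMod (Z W : Subgroup G) (a : G) (hWZ : W ≤ Subgroup.normalizer (Z : Set G)) :
    Subgroup G where
  carrier := {w | w ∈ W ∧ a * w * a⁻¹ * w⁻¹ ∈ Z}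
  one_mem' := ⟨W.one_mem, by simp [Z.one_mem]⟩
  mul_mem' := by
    rintro w w' ⟨hw, hz⟩ ⟨hw', hz'⟩
    refine ⟨W.mul_mem hw hw', ?_⟩
    have h1 : w * (a * w' * a⁻¹ * w'⁻¹) * w⁻¹ ∈ Z :=
      (Subgroup.mem_normalizer_iff.mp (hWZ hw) _).mp hz'
    have h2 : a * (w * w') * a⁻¹ * (w * w')⁻¹ =
        (a * w * a⁻¹ * w⁻¹) * (w * (a * w' * a⁻¹ * w'⁻¹) * w⁻¹) := by group
    rw [h2]
    exact Z.mul_mem hz h1
  inv_mem' := by
    rintro w ⟨hw, hz⟩
    refine ⟨W.inv_mem hw, ?_⟩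
    have h1 : w⁻¹ * (a * w * a⁻¹ * w⁻¹)⁻¹ * (w⁻¹)⁻¹ ∈ Z :=
      (Subgroup.mem_normalizer_iff.mp (hWZ (W.inv_mem hw)) _).mp (Z.inv_mem hz)
    have h2 : a * w⁻¹ * a⁻¹ * (w⁻¹)⁻¹ = w⁻¹ * (a * w * a⁻¹ * w⁻¹)⁻¹ * (w⁻¹)⁻¹ := by group
    rw [h2]
    exact h1

theorem mem_centMod {Z W : Subgroup G} {a : G} {hWZ : W ≤ Subgroup.normalizer (Z : Set G)}
    {w : G} : w ∈ centMod Z W a hWZ ↔ w ∈ W ∧ a * w * a⁻¹ * w⁻¹ ∈ Z := Iff.rfl

theorem centMod_le (Z W : Subgroup G) (a : G) (hWZ : W ≤ Subgroup.normalizer (Z : Set G)) :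
    centMod Z W a hWZ ≤ W := fun _ h => h.1

theorem le_centMod (Z W : Subgroup G) (a : G) (hWZ : W ≤ Subgroup.normalizer (Z : Set G))
    (hZW : Z ≤ W) (haZ : a ∈ Subgroup.normalizer (Z : Set G)) :
    Z ≤ centMod Z W a hWZ := by
  intro z hz
  refine ⟨hZW hz, ?_⟩
  exact Z.mul_mem ((Subgroup.mem_normalizer_iff.mp haZ z).mp hz) (Z.inv_mem hz)

/-- **Eigenvector lemma.**  An elementary abelian 2-group `A` acting on an abelian section
`W / Z ≠ 1` has a common "eigenvector" `w ∈ W ∖ Z`: every `a ∈ A` centralises or inverts `w`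
modulo `Z`. -/
theorem eigen_exists [Finite G] (A : Subgroup G) (hAc : ∀ a ∈ A, ∀ b ∈ A, a * b = b * a)
    (hA2 : ∀ a ∈ A, a * a = 1) :
    ∀ (n : ℕ) (Z W : Subgroup G), Nat.card W ≤ n → Z < W →
      W ≤ Subgroup.normalizer (Z : Set G) → ⁅W, W⁆ ≤ Z →
      A ≤ Subgroup.normalizer (Z : Set G) → A ≤ Subgroup.normalizer (W : Set G) →
      ∃ w ∈ W, w ∉ Z ∧ ∀ a ∈ A, a * w * a⁻¹ * w⁻¹ ∈ Z ∨ a * w * a⁻¹ * w ∈ Z := by
  intro n
  induction n with
  | zero =>
    intro Z W hn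
    exact absurd hn (by have := Nat.card_pos (α := W); omega)
  | succ n ih =>
    intro Z W hn hZW hWZ hWW hAZ hAW
    by_cases hex : ∃ a ∈ A, Z < centMod Z W a hWZ ∧ centMod Z W a hWZ < W
    · obtain ⟨a, ha, h1, h2⟩ := hex
      have hcard : Nat.card (centMod Z W a hWZ) ≤ n := by
        by_contra hcon
        have : Nat.card W ≤ Nat.card (centMod Z W a hWZ) := by omega
        exact absurd (Subgroup.eq_of_le_of_card_ge h2.le this) h2.ne
      have hAC : A ≤ Subgroup.normalizer (centMod Z W a hWZ : Set G) := by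
        intro b hb
        apply Mazurov.mem_normalizer_of_conj_mem
        rintro w ⟨hw, hz⟩
        refine ⟨(Subgroup.mem_normalizer_iff.mp (hAW hb) w).mp hw, ?_⟩
        have h3 : a * (b * w * b⁻¹) * a⁻¹ * (b * w * b⁻¹)⁻¹ = b * (a * w * a⁻¹ * w⁻¹) * b⁻¹ := by
          have hab : a * b = b * a := hAc a ha b hb
          have hab' : b⁻¹ * a⁻¹ = a⁻¹ * b⁻¹ := by
            rw [← mul_inv_rev, ← mul_inv_rev, hab]
          calc a * (b * w * b⁻¹) * a⁻¹ * (b * w * b⁻¹)⁻¹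
              = (a * b) * w * (b⁻¹ * a⁻¹) * (b * w * b⁻¹)⁻¹ := by group
            _ = (b * a) * w * (a⁻¹ * b⁻¹) * (b * w * b⁻¹)⁻¹ := by rw [hab, hab']
            _ = b * (a * w * a⁻¹ * w⁻¹) * b⁻¹ := by group
        rw [h3]
        exact (Subgroup.mem_normalizer_iff.mp (hAZ hb) _).mp hz
      obtain ⟨w, hw, hwZ, hwA⟩ := ih Z (centMod Z W a hWZ) hcard h1
        ((centMod_le Z W a hWZ).trans hWZ)
        ((Subgroup.commutator_mono (centMod_le Z W a hWZ) (centMod_le Z W a hWZ)).trans hWW)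
        hAZ hAC
      exact ⟨w, centMod_le Z W a hWZ hw, hwZ, hwA⟩
    · obtain ⟨w, hwW, hwZ⟩ := SetLike.exists_of_lt hZW
      refine ⟨w, hwW, hwZ, ?_⟩
      intro a ha
      have hle1 : Z ≤ centMod Z W a hWZ := le_centMod Z W a hWZ hZW.le (hAZ ha)
      have hle2 : centMod Z W a hWZ ≤ W := centMod_le Z W a hWZ
      by_cases hCW : centMod Z W a hWZ = W
      · left
        have : w ∈ centMod Z W a hWZ := by rw [hCW]; exact hwW
        exact this.2
      · have hCZ : centMod Z W a hWZ = Z := by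
          by_contra hne
          exact hex ⟨a, ha, lt_of_le_of_ne hle1 (Ne.symm hne), lt_of_le_of_ne hle2 hCW⟩
        right
        have hainv : a⁻¹ = a := inv_eq_of_mul_eq_one_left (hA2 a ha)
        have hawW : a * w * a⁻¹ ∈ W := (Subgroup.mem_normalizer_iff.mp (hAW ha) w).mp hwW
        have hu : w * (a * w * a⁻¹) ∈ centMod Z W a hWZ := by
          refine ⟨W.mul_mem hwW hawW, ?_⟩
          have h3 : a * (w * (a * w * a⁻¹)) * a⁻¹ * (w * (a * w * a⁻¹))⁻¹ = ⁅a * w * a⁻¹, w⁆ := by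
            rw [commutatorElement_def]
            have haa : a * a = 1 := hA2 a ha
            calc a * (w * (a * w * a⁻¹)) * a⁻¹ * (w * (a * w * a⁻¹))⁻¹
                = a * w * a⁻¹ * ((a * a) * w * (a * a)⁻¹) * (w * (a * w * a⁻¹))⁻¹ := by group
              _ = a * w * a⁻¹ * w * (a * w * a⁻¹)⁻¹ * w⁻¹ := by rw [haa]; group
          rw [h3]
          exact hWW (Subgroup.commutator_mem_commutator hawW hwW)
        rw [hCZ] at hu
        have h4 : a * w * a⁻¹ * w = w⁻¹ * (w * (a * w * a⁻¹)) * (w⁻¹)⁻¹ := by group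
        rw [h4]
        exact (Subgroup.mem_normalizer_iff.mp (hWZ (W.inv_mem hwW)) _).mp hu

end Cfsg.Agent.Lib.Helper8.ThompsonDihedral
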