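import Mathlib
import Cfsg.Agent.Lib.Helper8.ThompsonDihedral1
import Cfsg.Agent.Lib.Helper8.NormalFour

/-!
Thompson's dihedral lemma, part 2: the abelian case.
-/

namespace Cfsg.Agent.Lib.Helper8.ThompsonDihedral

open scoped commutatorElement

variable {G : Type*} [Group G]

/-- elements of an abelian subgroup `M` inverted by `a` -/
def invSub (M : Subgroup G) (hMc : ∀ x ∈ M, ∀ y ∈ M, x * y = y * x) (a : G) : Subgroup G where
  carrier := {m | m ∈ M ∧ a * m * a⁻¹ = m⁻¹}
  one_mem' := ⟨M.one_mem, by simp⟩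
  mul_mem' := by
    rintro m m' ⟨hm, h1⟩ ⟨hm', h2⟩
    refine ⟨M.mul_mem hm hm', ?_⟩
    have : a * (m * m') * a⁻¹ = (a * m * a⁻¹) * (a * m' * a⁻¹) := by group
    rw [this, h1, h2, mul_inv_rev, hMc _ (M.inv_mem hm) _ (M.inv_mem hm')]
  inv_mem' := by
    rintro m ⟨hm, h1⟩
    refine ⟨M.inv_mem hm, ?_⟩
    have : a * m⁻¹ * a⁻¹ = (a * m * a⁻¹)⁻¹ := by group
    rw [this, h1]

theorem eq_one_of_mul_self_of_odd [Finite G] (M : Subgroup G) (hodd : Odd (Nat.card M)) {x : G}
    (hx : x ∈ M) (h2 : x * x = 1) : x = 1 := by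
  have h1 : orderOf x ∣ 2 := orderOf_dvd_of_pow_eq_one (by rw [pow_two]; exact h2)
  have h3 : orderOf x ∣ Nat.card M := Subgroup.orderOf_dvd_natCard M hx
  have h4 : orderOf x = 1 := by
    rcases (Nat.dvd_prime Nat.prime_two).mp h1 with h | h
    · exact h
    · exfalso
      rw [h] at h3
      exact (Nat.not_even_iff_odd.mpr hodd) (even_iff_two_dvd.mpr h3)
  exact orderOf_eq_one_iff.mp h4

/-- refinement of an element `y` to an `a`-eigenvector, preserving the action of everything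
commuting with `a` -/
theorem refine_eigen [Finite G] (M : Subgroup G) (hMc : ∀ x ∈ M, ∀ y ∈ M, x * y = y * x)
    (hodd : Odd (Nat.card M)) (a : G) (haa : a * a = 1)
    (haM : a ∈ Subgroup.normalizer (M : Set G)) (y : G) (hy : y ∈ M) (hy1 : y ≠ 1) :
    ∃ z ∈ M, z ≠ 1 ∧ (a * z * a⁻¹ = z ∨ a * z * a⁻¹ = z⁻¹) ∧
      ∀ c : G, c * a = a * c →
        (c * y * c⁻¹ = y → c * z * c⁻¹ = z) ∧ (c * y * c⁻¹ = y⁻¹ → c * z * c⁻¹ = z⁻¹) := by
  have hy' : a * y * a⁻¹ ∈ M := (Subgroup.mem_normalizer_iff.mp haM y).mp hy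
  have hay' : a * (a * y * a⁻¹) * a⁻¹ = y := by
    calc a * (a * y * a⁻¹) * a⁻¹ = (a * a) * y * (a * a)⁻¹ := by group
      _ = y := by rw [haa]; group
  have hc' : ∀ c : G, c * a = a * c → ∀ u : G, c * y * c⁻¹ = u →
      c * (a * y * a⁻¹) * c⁻¹ = a * u * a⁻¹ := by
    intro c hca u hu
    have hca' : a⁻¹ * c⁻¹ = c⁻¹ * a⁻¹ := by rw [← mul_inv_rev, ← mul_inv_rev, hca]
    calc c * (a * y * a⁻¹) * c⁻¹ = (c * a) * y * (a⁻¹ * c⁻¹) := by group
      _ = (a * c) * y * (c⁻¹ * a⁻¹) := by rw [hca, hca']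
      _ = a * (c * y * c⁻¹) * a⁻¹ := by group
      _ = a * u * a⁻¹ := by rw [hu]
  by_cases h1 : y * (a * y * a⁻¹) = 1
  · -- use z₂ = y * (a y a⁻¹)⁻¹
    refine ⟨y * (a * y * a⁻¹)⁻¹, M.mul_mem hy (M.inv_mem hy'), ?_, Or.inr ?_, ?_⟩
    · intro h2
      apply hy1
      have e1 : a * y * a⁻¹ = y⁻¹ := (eq_inv_of_mul_eq_one_right h1)
      have e2 : y = a * y * a⁻¹ := by
        have := mul_inv_eq_one.mp h2
        exact this
      apply eq_one_of_mul_self_of_odd M hodd hy
      have : y * y = y * (a * y * a⁻¹) := by rw [← e2]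
      rw [this, h1]
    · calc a * (y * (a * y * a⁻¹)⁻¹) * a⁻¹ = (a * y * a⁻¹) * (a * (a * y * a⁻¹) * a⁻¹)⁻¹ := by group
        _ = (a * y * a⁻¹) * y⁻¹ := by rw [hay']
        _ = (y * (a * y * a⁻¹)⁻¹)⁻¹ := by group
    · intro c hca
      constructor
      · intro hcy
        have := hc' c hca y hcy
        calc c * (y * (a * y * a⁻¹)⁻¹) * c⁻¹ = (c * y * c⁻¹) * (c * (a * y * a⁻¹) * c⁻¹)⁻¹ := by group
          _ = y * (a * y * a⁻¹)⁻¹ := by rw [this, hcy]
      · intro hcy
        have := hc' c hca y⁻¹ hcy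
        calc c * (y * (a * y * a⁻¹)⁻¹) * c⁻¹ = (c * y * c⁻¹) * (c * (a * y * a⁻¹) * c⁻¹)⁻¹ := by group
          _ = y⁻¹ * (a * y⁻¹ * a⁻¹)⁻¹ := by rw [this, hcy]
          _ = y⁻¹ * (a * y * a⁻¹) := by group
          _ = (a * y * a⁻¹) * y⁻¹ := hMc _ (M.inv_mem hy) _ hy'
          _ = (y * (a * y * a⁻¹)⁻¹)⁻¹ := by group
  · refine ⟨y * (a * y * a⁻¹), M.mul_mem hy hy', h1, Or.inl ?_, ?_⟩
    · calc a * (y * (a * y * a⁻¹)) * a⁻¹ = (a * y * a⁻¹) * (a * (a * y * a⁻¹) * a⁻¹) := by group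
        _ = (a * y * a⁻¹) * y := by rw [hay']
        _ = y * (a * y * a⁻¹) := hMc _ hy' _ hy
    · intro c hca
      constructor
      · intro hcy
        have := hc' c hca y hcy
        calc c * (y * (a * y * a⁻¹)) * c⁻¹ = (c * y * c⁻¹) * (c * (a * y * a⁻¹) * c⁻¹) := by group
          _ = y * (a * y * a⁻¹) := by rw [this, hcy]
      · intro hcy
        have := hc' c hca y⁻¹ hcy
        calc c * (y * (a * y * a⁻¹)) * c⁻¹ = (c * y * c⁻¹) * (c * (a * y * a⁻¹) * c⁻¹) := by group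
          _ = y⁻¹ * (a * y⁻¹ * a⁻¹) := by rw [this, hcy]
          _ = y⁻¹ * (a * y * a⁻¹)⁻¹ := by group
          _ = (a * y * a⁻¹)⁻¹ * y⁻¹ := hMc _ (M.inv_mem hy) _ (M.inv_mem hy')
          _ = (y * (a * y * a⁻¹))⁻¹ := by group

/-- the fix-up: multiply `a` by a product of the `b i` so that it centralises all `z i` -/
theorem fixup {d : ℕ} (b z : Fin d → G) (hb : ∀ i, b i * z i * (b i)⁻¹ = (z i)⁻¹)
    (hbz : ∀ i j, i ≠ j → b j * z i * (b j)⁻¹ = z i) (a : G)
    (haz : ∀ i, a * z i * a⁻¹ = z i ∨ a * z i * a⁻¹ = (z i)⁻¹) :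
    ∃ c ∈ Subgroup.closure (Set.range b), ∀ i, (a * c) * z i * (a * c)⁻¹ = z i := by
  classical
  have key : ∀ S : Finset (Fin d), ∃ c ∈ Subgroup.closure (Set.range b),
      (∀ i ∈ S, (a * c) * z i * (a * c)⁻¹ = z i) ∧ (∀ i, i ∉ S → c * z i * c⁻¹ = z i) := by
    intro S
    induction S using Finset.induction_on with
    | empty =>
      exact ⟨1, Subgroup.one_mem _, by simp, by simp⟩
    | insert j S hj ih =>
      obtain ⟨c, hc, h1, h2⟩ := ih
      have hcj : (a * c) * z j * (a * c)⁻¹ = a * z j * a⁻¹ := by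
        calc (a * c) * z j * (a * c)⁻¹ = a * (c * z j * c⁻¹) * a⁻¹ := by group
          _ = a * z j * a⁻¹ := by rw [h2 j hj]
      rcases haz j with h3 | h3
      · refine ⟨c, hc, ?_, ?_⟩
        · intro i hi
          rcases Finset.mem_insert.mp hi with rfl | hi
          · rw [hcj, h3]
          · exact h1 i hi
        · intro i hi
          exact h2 i (fun h => hi (Finset.mem_insert_of_mem h))
      · refine ⟨c * b j, Subgroup.mul_mem _ hc (Subgroup.subset_closure ⟨j, rfl⟩), ?_, ?_⟩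
        · intro i hi
          rcases Finset.mem_insert.mp hi with rfl | hi
          · calc (a * (c * b i)) * z i * (a * (c * b i))⁻¹
                = (a * c) * (b i * z i * (b i)⁻¹) * (a * c)⁻¹ := by group
              _ = (a * c) * (z i)⁻¹ * (a * c)⁻¹ := by rw [hb i]
              _ = ((a * c) * z i * (a * c)⁻¹)⁻¹ := by group
              _ = z i := by rw [hcj, h3, inv_inv]
          · have hij : i ≠ j := fun h => hj (h ▸ hi)
            calc (a * (c * b j)) * z i * (a * (c * b j))⁻¹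
                = (a * c) * (b j * z i * (b j)⁻¹) * (a * c)⁻¹ := by group
              _ = (a * c) * z i * (a * c)⁻¹ := by rw [hbz i j hij]
              _ = z i := h1 i hi
        · intro i hi
          have hij : i ≠ j := fun h => hi (h ▸ Finset.mem_insert_self j S)
          have hiS : i ∉ S := fun h => hi (Finset.mem_insert_of_mem h)
          calc (c * b j) * z i * (c * b j)⁻¹ = c * (b j * z i * (b j)⁻¹) * c⁻¹ := by group
            _ = c * z i * c⁻¹ := by rw [hbz i j hij]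
            _ = z i := h2 i hiS
  obtain ⟨c, hc, h1, -⟩ := key Finset.univ
  exact ⟨c, hc, fun i => h1 i (Finset.mem_univ i)⟩


theorem conj_eq_iff_mem_centralizer {g h : G} :
    g * h * g⁻¹ = h ↔ g ∈ Subgroup.centralizer ({h} : Set G) := by
  rw [Subgroup.mem_centralizer_singleton_iff, mul_inv_eq_iff_eq_mul, eq_comm]

/-- **Abelian case** of Thompson's dihedral lemma: a "dual basis" of involutions and
eigenvectors. -/
theorem abelian_case [Finite G] (M : Subgroup G) (hMc : ∀ x ∈ M, ∀ y ∈ M, x * y = y * x)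
    (hodd : Odd (Nat.card M)) :
    ∀ (d : ℕ) (A : Subgroup G), (∀ a ∈ A, ∀ b ∈ A, a * b = b * a) → (∀ a ∈ A, a * a = 1) →
      Nat.card A = 2 ^ d → A ≤ Subgroup.normalizer (M : Set G) →
      A ⊓ Subgroup.centralizer (M : Set G) = ⊥ →
      ∃ (a x : Fin d → G),
        (∀ i, a i ∈ A ∧ x i ∈ M ∧ x i ≠ 1 ∧ a i * x i * (a i)⁻¹ = (x i)⁻¹) ∧
        (∀ i j, i ≠ j → a j * x i * (a j)⁻¹ = x i) ∧
        Subgroup.closure (Set.range a) = A := by
  intro d
  induction d with
  | zero =>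
    intro A _ _ hcard _ _
    refine ⟨fun i => i.elim0, fun i => i.elim0, fun i => i.elim0, fun i => i.elim0, ?_⟩
    have hA : A = ⊥ := Subgroup.card_eq_one.mp (by simpa using hcard)
    rw [hA, Set.range_eq_empty, Subgroup.closure_empty]
  | succ d ih =>
    intro A hAc hA2 hcard hAM hfaith
    -- a nontrivial element of A
    have hAne : A ≠ ⊥ := by
      intro h
      rw [h, Subgroup.card_bot] at hcard
      have : 2 ≤ 2 ^ (d + 1) := by
        calc 2 = 2 ^ 1 := by norm_num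
          _ ≤ 2 ^ (d + 1) := Nat.pow_le_pow_right (by norm_num) (by omega)
      omega
    obtain ⟨a, haA, ha1⟩ : ∃ a ∈ A, a ≠ 1 := by
      rcases A.bot_or_exists_ne_one with h | h
      · exact absurd h hAne
      · exact h
    have haa : a * a = 1 := hA2 a haA
    have hainv : a⁻¹ = a := inv_eq_of_mul_eq_one_left haa
    -- a does not centralise M
    have haC : a ∉ Subgroup.centralizer (M : Set G) := by
      intro h
      have : a ∈ A ⊓ Subgroup.centralizer (M : Set G) := ⟨haA, h⟩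
      rw [hfaith, Subgroup.mem_bot] at this
      exact ha1 this
    obtain ⟨m, hmM, hma⟩ : ∃ m ∈ M, ¬ (m * a = a * m) := by
      by_contra hcon
      push Not at hcon
      exact haC (Subgroup.mem_centralizer_iff.mpr hcon)
    have hamM : a * m * a⁻¹ ∈ M := (Subgroup.mem_normalizer_iff.mp (hAM haA) m).mp hmM
    -- the inverted subgroup
    set M₁ := invSub M hMc a with hM₁
    have hyM₁ : m⁻¹ * (a * m * a⁻¹) ∈ M₁ := by
      refine ⟨M.mul_mem (M.inv_mem hmM) hamM, ?_⟩
      calc a * (m⁻¹ * (a * m * a⁻¹)) * a⁻¹ = (a * m * a⁻¹)⁻¹ * ((a * a) * m * (a * a)⁻¹) := by group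
        _ = (a * m * a⁻¹)⁻¹ * m := by rw [haa]; group
        _ = (m⁻¹ * (a * m * a⁻¹))⁻¹ := by group
    have hy1 : m⁻¹ * (a * m * a⁻¹) ≠ 1 := by
      intro h
      apply hma
      have : a * m * a⁻¹ = m := by
        have := inv_mul_eq_one.mp h
        exact this.symm
      exact (mul_inv_eq_iff_eq_mul.mp this).symm
    have hM₁ne : ⊥ < M₁ := by
      rw [bot_lt_iff_ne_bot]
      intro h
      rw [h, Subgroup.mem_bot] at hyM₁
      exact hy1 hyM₁
    have hM₁M : M₁ ≤ M := fun _ h => h.1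
    have hAM₁ : A ≤ Subgroup.normalizer (M₁ : Set G) := by
      intro b hb
      apply Mazurov.mem_normalizer_of_conj_mem
      rintro u ⟨hu, hau⟩
      refine ⟨(Subgroup.mem_normalizer_iff.mp (hAM hb) u).mp hu, ?_⟩
      have hab : a * b = b * a := hAc a haA b hb
      have hab' : b⁻¹ * a⁻¹ = a⁻¹ * b⁻¹ := by rw [← mul_inv_rev, ← mul_inv_rev, hab]
      calc a * (b * u * b⁻¹) * a⁻¹ = (a * b) * u * (b⁻¹ * a⁻¹) := by group
        _ = (b * a) * u * (a⁻¹ * b⁻¹) := by rw [hab, hab']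
        _ = b * (a * u * a⁻¹) * b⁻¹ := by group
        _ = (b * u * b⁻¹)⁻¹ := by rw [hau]; group
    have hbotN : ∀ H : Subgroup G, H ≤ Subgroup.normalizer ((⊥ : Subgroup G) : Set G) := by
      intro H g _
      rw [Subgroup.mem_normalizer_iff]
      intro h
      simp only [Subgroup.mem_bot]
      constructor
      · rintro rfl; simp
      · intro h1
        have : g * h * g⁻¹ = g * 1 * g⁻¹ := by rw [h1]; simp
        exact mul_left_cancel (mul_right_cancel this)
    have hM₁comm : ⁅M₁, M₁⁆ ≤ ⊥ := by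
      rw [Subgroup.commutator_le]
      intro g₁ h₁ g₂ h₂
      rw [Subgroup.mem_bot, commutatorElement_eq_one_iff_mul_comm]
      exact hMc _ (hM₁M h₁) _ (hM₁M h₂)
    obtain ⟨x₀, hx₀M₁, hx₀1, hx₀A⟩ := eigen_exists A hAc hA2 (Nat.card M₁) ⊥ M₁ le_rfl hM₁ne
      (hbotN _) hM₁comm (hbotN _) hAM₁
    rw [Subgroup.mem_bot] at hx₀1
    have hx₀M : x₀ ∈ M := hM₁M hx₀M₁
    have hax₀ : a * x₀ * a⁻¹ = x₀⁻¹ := hx₀M₁.2
    have hx₀A' : ∀ b ∈ A, b * x₀ * b⁻¹ = x₀ ∨ b * x₀ * b⁻¹ = x₀⁻¹ := by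
      intro b hb
      rcases hx₀A b hb with h | h
      · left
        rw [Subgroup.mem_bot] at h
        exact mul_inv_eq_one.mp h
      · right
        rw [Subgroup.mem_bot] at h
        exact eq_inv_of_mul_eq_one_left h
    have hx₀inv : x₀⁻¹ ≠ x₀ := by
      intro h
      apply hx₀1
      apply eq_one_of_mul_self_of_odd M hodd hx₀M
      calc x₀ * x₀ = x₀⁻¹ * x₀ := by rw [h]
        _ = 1 := inv_mul_cancel x₀
    -- the hyperplane B
    set B : Subgroup G := A ⊓ Subgroup.centralizer {x₀} with hB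
    have hBA : B ≤ A := inf_le_left
    have hBmem : ∀ c, c ∈ B ↔ c ∈ A ∧ c * x₀ * c⁻¹ = x₀ := by
      intro c
      rw [hB, Subgroup.mem_inf, conj_eq_iff_mem_centralizer]
    have haB : a ∉ B := by
      intro h
      have := ((hBmem a).mp h).2
      rw [hax₀] at this
      exact hx₀inv this
    have hBcard : Nat.card B = 2 ^ d := by
      have h1 : Nat.card A ≤ 2 * Nat.card B := NormalFour.card_le_two_mul_of_invert A x₀ hx₀A'
      have h2 : Nat.card B ∣ 2 ^ (d + 1) := hcard ▸ Subgroup.card_dvd_of_le hBA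
      obtain ⟨k, hk, hkB⟩ := (Nat.dvd_prime_pow Nat.prime_two).mp h2
      have hk' : k ≠ d + 1 := by
        intro h
        apply haB
        have : B = A := Subgroup.eq_of_le_of_card_ge hBA (by rw [hkB, h, hcard])
        rw [this]; exact haA
      have hkd : d ≤ k := by
        by_contra hcon
        push Not at hcon
        have : 2 ^ (k + 1) ≤ 2 ^ d := Nat.pow_le_pow_right (by norm_num) hcon
        rw [hcard, hkB] at h1
        have e1 : 2 ^ (d + 1) = 2 * 2 ^ d := by ring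
        have e2 : 2 ^ (k + 1) = 2 * 2 ^ k := by ring
        have : 0 < 2 ^ d := by positivity
        omega
      have : k = d := by omega
      rw [hkB, this]
    -- induction hypothesis on B
    have hBfaith : B ⊓ Subgroup.centralizer (M : Set G) = ⊥ := by
      rw [eq_bot_iff, ← hfaith]
      exact inf_le_inf_right _ hBA
    obtain ⟨b, y, hby, hbyj, hbcl⟩ := ih B (fun u hu v hv => hAc u (hBA hu) v (hBA hv))
      (fun u hu => hA2 u (hBA hu)) hBcard (hBA.trans hAM) hBfaith
    -- refine the y's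
    have href : ∀ i, ∃ z ∈ M, z ≠ 1 ∧ (a * z * a⁻¹ = z ∨ a * z * a⁻¹ = z⁻¹) ∧
      ∀ c : G, c * a = a * c →
        (c * y i * c⁻¹ = y i → c * z * c⁻¹ = z) ∧ (c * y i * c⁻¹ = (y i)⁻¹ → c * z * c⁻¹ = z⁻¹) :=
      fun i => refine_eigen M hMc hodd a haa (hAM haA) (y i) (hby i).2.1 (hby i).2.2.1
    choose z hzM hz1 hza hzc using href
    have hbA : ∀ i, b i ∈ A := fun i => hBA (hby i).1
    have hbz : ∀ i, b i * z i * (b i)⁻¹ = (z i)⁻¹ :=
      fun i => (hzc i (b i) (hAc _ (hbA i) _ haA)).2 (hby i).2.2.2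
    have hbzj : ∀ i j, i ≠ j → b j * z i * (b j)⁻¹ = z i :=
      fun i j hij => (hzc i (b j) (hAc _ (hbA j) _ haA)).1 (hbyj i j hij)
    obtain ⟨c, hc, hcz⟩ := fixup b z hbz hbzj a hza
    rw [hbcl] at hc
    have hcx₀ : c * x₀ * c⁻¹ = x₀ := ((hBmem c).mp hc).2
    have ha₀A : a * c ∈ A := A.mul_mem haA (hBA hc)
    have ha₀x₀ : (a * c) * x₀ * (a * c)⁻¹ = x₀⁻¹ := by
      calc (a * c) * x₀ * (a * c)⁻¹ = a * (c * x₀ * c⁻¹) * a⁻¹ := by group
        _ = x₀⁻¹ := by rw [hcx₀, hax₀]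
    refine ⟨Fin.cons (a * c) b, Fin.cons x₀ z, ?_, ?_, ?_⟩
    · intro i
      refine Fin.cases ?_ (fun k => ?_) i
      · simp only [Fin.cons_zero]
        exact ⟨ha₀A, hx₀M, hx₀1, ha₀x₀⟩
      · simp only [Fin.cons_succ]
        exact ⟨hbA k, hzM k, hz1 k, hbz k⟩
    · intro i j
      refine Fin.cases ?_ (fun k => ?_) i
      · refine Fin.cases ?_ (fun l => ?_) j
        · intro h; exact absurd rfl h
        · intro _
          simp only [Fin.cons_zero, Fin.cons_succ]
          exact ((hBmem (b l)).mp (hby l).1).2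
      · refine Fin.cases ?_ (fun l => ?_) j
        · intro _
          simp only [Fin.cons_zero, Fin.cons_succ]
          exact hcz k
        · intro hkl
          simp only [Fin.cons_succ]
          exact hbzj k l (fun h => hkl (by rw [h]))
    · rw [Fin.range_cons]
      apply le_antisymm
      · rw [Subgroup.closure_le]
        intro u hu
        rcases hu with rfl | ⟨k, rfl⟩
        · exact ha₀A
        · exact hbA k
      · intro e he
        have hsub : Subgroup.closure (Set.range b) ≤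
            Subgroup.closure (insert (a * c) (Set.range b)) :=
          Subgroup.closure_mono (Set.subset_insert _ _)
        rcases hx₀A' e he with h | h
        · apply hsub
          rw [hbcl]
          exact (hBmem e).mpr ⟨he, h⟩
        · have h1 : (a * c) * e ∈ B := by
            rw [hBmem]
            refine ⟨A.mul_mem ha₀A he, ?_⟩
            calc (a * c) * e * x₀ * ((a * c) * e)⁻¹ = (a * c) * (e * x₀ * e⁻¹) * (a * c)⁻¹ := by group
              _ = (a * c) * x₀⁻¹ * (a * c)⁻¹ := by rw [h]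
              _ = ((a * c) * x₀ * (a * c)⁻¹)⁻¹ := by group
              _ = x₀ := by rw [ha₀x₀, inv_inv]
          have h2 : e = (a * c)⁻¹ * ((a * c) * e) := by group
          rw [h2]
          apply Subgroup.mul_mem
          · exact Subgroup.inv_mem _ (Subgroup.subset_closure (Set.mem_insert _ _))
          · apply hsub
            rw [hbcl]
            exact h1

end Cfsg.Agent.Lib.Helper8.ThompsonDihedral
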