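import Cfsg.Agent.Lib.Helper8.J1b
import Cfsg.Prelude.Def_Spor_J1

set_option autoImplicit false

/-! The group generated by Janko's two matrices modulo 11 is simple of order 175560: it is
isomorphic to a permutation group of degree 266 whose stabiliser chain is certified in `J1b`. -/

namespace Cfsg.Agent.Lib.Helper8.J1

open Cfsg.Agent.Lib.Helper8.SS Cfsg.Agent.Lib.Helper8.MatN MulAction

/-- the permutation group. -/
noncomputable def K : Subgroup (Equiv.Perm (Fin 266)) := grp 266 pN pM L0.S

theorem card_K : Nat.card K = 175560 := by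
  have h := (chain_spec (pM := pM) valid_all id_tab _ chain).2
  have h2 : ([L0, L1, L2, L3].map (fun L => L.U.length)).prod = 175560 := by decide +kernel
  rw [h2] at h
  exact h

theorem prim : IsPreprimitive K (Fin 266) :=
  prim_of_suborbit_data valid_all id_tab L0 L1 [L2, L3] chain cover0 orbs otree orb_ok orb_lt
    orb_cover orb_nodup wit block_cert

theorem simple : IsSimpleGroup K :=
  simple_of_data valid_all L0.S prim 19 1 (by norm_num) (by norm_num)
    (by
      have : Nat.card (grp 266 pN pM L0.S) = 175560 := card_K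
      rw [this]
      norm_num)
    10 w19 w19_mem (by norm_num) w19_tab ord19 ne19 cs conj_all
    (by
      have : Nat.card (grp 266 pN pM L0.S) = 175560 := card_K
      rw [this]
      norm_num)

/-- the matrices of the table. -/
noncomputable def QQ (i : ℕ) : GL (Fin 7) (ZMod 11) := Q 7 11 qN qM i

theorem QQ_val (i : ℕ) (hi : i < 301) :
    ((QQ i : GL (Fin 7) (ZMod 11)) : Matrix (Fin 7) (Fin 7) (ZMod 11)) = dec 7 11 (qN i) :=
  Q_val (by norm_num) (by norm_num) (by norm_num) (validM_all i hi)

theorem dec_one : dec 7 11 (qN 1) = Cfsg.jankoMatrixX := by decide +kernel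

theorem dec_two : dec 7 11 (qN 2) = Cfsg.jankoMatrixY := by decide +kernel

theorem QQ_one_val :
    ((QQ 1 : GL (Fin 7) (ZMod 11)) : Matrix (Fin 7) (Fin 7) (ZMod 11)) = Cfsg.jankoMatrixX := by
  rw [QQ_val 1 (by norm_num), dec_one]

theorem QQ_two_val :
    ((QQ 2 : GL (Fin 7) (ZMod 11)) : Matrix (Fin 7) (Fin 7) (ZMod 11)) = Cfsg.jankoMatrixY := by
  rw [QQ_val 2 (by norm_num), dec_two]

theorem iso : Nonempty (Subgroup.closure ({QQ 1, QQ 2} : Set (GL (Fin 7) (ZMod 11))) ≃* K) := by
  have hQ0 : QQ 0 = 1 :=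
    Q_eq_one (by norm_num) (by norm_num) (by norm_num) (validM_all 0 (by norm_num)) q_zero
  have key := lifted_iso (Q := QQ) valid_all id_tab hQ0 [L0, L1, L2, L3] chain
    (chainQ_of_chainQB (by norm_num) (by norm_num) (by norm_num) validM_all _ chainQ)
    [1, 2] W slpW slp_ok
    (slpQ_of_slpQB (by norm_num) (by norm_num) (by norm_num) validM_all slp_q)
    (by decide) (by decide) simple
    ⟨1, by decide, by
      intro h
      have h1 : ((QQ 1 : GL (Fin 7) (ZMod 11)) : Matrix (Fin 7) (Fin 7) (ZMod 11)) 0 0 = 1 := by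
        rw [h]; rfl
      rw [QQ_one_val] at h1
      revert h1
      decide⟩
  have hset : {g | ∃ i ∈ [1, 2], QQ i = g} = ({QQ 1, QQ 2} : Set (GL (Fin 7) (ZMod 11))) := by
    ext g
    simp only [List.mem_cons, List.mem_nil_iff, or_false, Set.mem_ofPred_eq,
      Set.mem_insert_iff, Set.mem_singleton_iff]
    constructor
    · rintro ⟨i, rfl | rfl, rfl⟩
      · exact Or.inl rfl
      · exact Or.inr rfl
    · rintro (rfl | rfl)
      · exact ⟨1, Or.inl rfl, rfl⟩
      · exact ⟨2, Or.inr rfl, rfl⟩
  rw [hset] at key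
  exact key

end Cfsg.Agent.Lib.Helper8.J1
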