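import Mathlib
import Cfsg.Agent.Lib.Helper4.ES2D
import Cfsg.Agent.Lib.Lead.Invol

/-!
# Groups of Hall–Janko type (S1721 family): the basic local setup

`JSetup z Q π`: `z` an involution of `G`, `Q ≤ C = C_G(z)` an extraspecial group of order 32 with
centre `⟨z⟩` (as `ES2.Data Q z`), normalized by `C`, containing its centralizer in `C`, and
`π : C →* A₅` surjective with kernel `Q`.
-/

set_option autoImplicit false

namespace Cfsg.Agent.Lib.Helper8.J2
open Cfsg.Agent.Lib.Helper4.ES2

variable {G : Type*} [Group G]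

structure JSetup (z : G) (Q : Subgroup G)
    (π : ↥(Subgroup.centralizer ({z} : Set G)) →* alternatingGroup (Fin 5)) : Prop where
  hz : orderOf z = 2
  data : Data Q z
  card : Nat.card Q = 32
  le : Q ≤ Subgroup.centralizer ({z} : Set G)
  norm : ∀ c ∈ Subgroup.centralizer ({z} : Set G), ∀ q ∈ Q, c * q * c⁻¹ ∈ Q
  cent : ∀ c ∈ Subgroup.centralizer ({z} : Set G), (∀ q ∈ Q, c * q * c⁻¹ = q) → c ∈ Q
  surj : Function.Surjective π
  ker : ∀ c : ↥(Subgroup.centralizer ({z} : Set G)), π c = 1 ↔ (c : G) ∈ Q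

/-- membership in the centralizer of `z` -/
theorem mem_C {z x : G} : x ∈ Subgroup.centralizer ({z} : Set G) ↔ x * z = z * x :=
  Subgroup.mem_centralizer_singleton_iff

end Cfsg.Agent.Lib.Helper8.J2
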