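import Mathlib
import Cfsg.Prelude.Def_Local
import Cfsg.Prelude.Def_Transfer
import Cfsg.Prelude.Def_Classical
import Cfsg.Agent.Lib.Helper4.ES2E
import Cfsg.Agent.Lib.Helper6.HJe
import Cfsg.Agent.Lib.Helper7.OmA5
import Cfsg.Agent.Lib.Helper8.FStar
import Cfsg.Agent.Lib.Helper1.Fitting

/-!
# Hall–Janko type (S1721/S5382): translation of the hypotheses to the `G`-level interface
-/

set_option autoImplicit false

namespace Cfsg.Agent.Lib.Helper8.J2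
open Cfsg.Agent.Lib.Helper4.ES2

variable {G : Type*} [Group G]

theorem translate_aux [Finite G] (C : Subgroup G) (z : G) (hz : orderOf z = 2)
    (hC : ∀ g : G, g ∈ C ↔ g * z = z * g)
    (Q0 : Subgroup ↥C) [hQ0n : Q0.Normal]
    (hF : Cfsg.generalizedFittingSubgroup ↥C = Q0)
    (hQ : Cfsg.IsExtraspecial 2 Q0) (hcard : Nat.card Q0 = 2 ^ 5)
    (e : ↥C ⧸ Q0 ≃* Cfsg.Omega (ZMod 2) (Cfsg.quadFormMinus 1 (ZMod 2) 1 1))
    (hnwc : ∃ g : G, (∃ hq : g * z * g⁻¹ ∈ C, (⟨g * z * g⁻¹, hq⟩ : ↥C) ∈ Q0) ∧ g * z * g⁻¹ ≠ z) :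
    ∃ (Q : Subgroup G) (psi : ↥C →* alternatingGroup (Fin 5)),
      Q = Q0.map C.subtype ∧
      Data Q z ∧ Nat.card Q = 32 ∧ Q ≤ C ∧
      (∀ c ∈ C, ∀ q ∈ Q, c * q * c⁻¹ ∈ Q) ∧
      (∀ c ∈ C, (∀ q ∈ Q, c * q = q * c) → c ∈ Q) ∧
      Function.Surjective psi ∧ (∀ c, psi c = 1 ↔ (c : G) ∈ Q) ∧
      (∃ g : G, g * z * g⁻¹ ∈ Q ∧ g * z * g⁻¹ ≠ z) := by
  classical
  obtain ⟨w⟩ := Cfsg.Agent.Lib.Helper7.OmA5.omegaM4_equiv
  have hmemQ : ∀ x : G, x ∈ Q0.map C.subtype ↔ ∃ hx : x ∈ C, (⟨x, hx⟩ : ↥C) ∈ Q0 := by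
    intro x
    constructor
    · rintro ⟨y, hy, rfl⟩
      exact ⟨y.2, hy⟩
    · rintro ⟨hx, h⟩
      exact ⟨⟨x, hx⟩, h, rfl⟩
  have hzC : z ∈ C := (hC z).mpr rfl
  have hz1 : z ≠ 1 := by
    intro h
    rw [h, orderOf_one] at hz
    norm_num at hz
  -- z ∈ Q
  have hzQ0 : (⟨z, hzC⟩ : ↥C) ∈ Q0 := by
    have hcen : ∀ c : ↥C, c * ⟨z, hzC⟩ = ⟨z, hzC⟩ * c := by
      intro c
      apply Subtype.ext
      exact (hC c.1).mp c.2
    have hn : (Subgroup.zpowers (⟨z, hzC⟩ : ↥C)).Normal := by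
      constructor
      intro n hn g
      have hgn : g * n = n * g := by
        obtain ⟨k, rfl⟩ := Subgroup.mem_zpowers_iff.mp hn
        have : Commute g (⟨z, hzC⟩ : ↥C) := hcen g
        exact (this.zpow_right k)
      rw [hgn, mul_assoc, mul_inv_cancel, mul_one]
      exact hn
    have hnil : Group.IsNilpotent (Subgroup.zpowers (⟨z, hzC⟩ : ↥C)) := by
      haveI : Fact (Nat.Prime 2) := ⟨Nat.prime_two⟩
      have hp : IsPGroup 2 (Subgroup.zpowers (⟨z, hzC⟩ : ↥C)) := by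
        apply IsPGroup.of_card (n := 1)
        rw [Nat.card_zpowers, pow_one]
        rw [← hz]
        exact (Subgroup.orderOf_coe (⟨z, hzC⟩ : ↥C)).symm
      exact hp.isNilpotent
    have h1 := Cfsg.Agent.Lib.Helper1.le_fittingSubgroup hn hnil
    have h2 : Cfsg.fittingSubgroup ↥C ≤ Cfsg.generalizedFittingSubgroup ↥C := le_sup_right
    rw [hF] at h2
    exact h2 (h1 (Subgroup.mem_zpowers _))
  -- the data
  obtain ⟨z0, hD0, _⟩ := data_top hQ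
  have hD1 := Cfsg.Agent.Lib.Helper6.HJe.data_map (Q0.subtype) (Subgroup.subtype_injective Q0) ⊤ z0 hD0
  have htop : (⊤ : Subgroup ↥Q0).map Q0.subtype = Q0 := by
    rw [← MonoidHom.range_eq_map, Subgroup.range_subtype]
  rw [htop] at hD1
  have hD2 := Cfsg.Agent.Lib.Helper6.HJe.data_map (C.subtype) (Subgroup.subtype_injective C) Q0 _ hD1
  have hzQ : z ∈ Q0.map C.subtype := (hmemQ z).mpr ⟨hzC, hzQ0⟩
  have hQC : Q0.map C.subtype ≤ C := Subgroup.map_subtype_le _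
  have hzz0 : C.subtype (Q0.subtype z0) = z := by
    have hcomm : ∀ q ∈ Q0.map C.subtype, q * z = z * q := by
      intro q hq
      exact (hC q).mp (hQC hq)
    rcases hD2.center_sub z hzQ hcomm with h | h
    · exact absurd h hz1
    · exact h.symm
  rw [hzz0] at hD2
  obtain ⟨g0, ⟨hq0, hq0'⟩, hg0⟩ := hnwc
  refine ⟨Q0.map C.subtype, (e.trans w).toMonoidHom.comp (QuotientGroup.mk' Q0), rfl, hD2, ?_, hQC,
    ?_, ?_, ?_, ?_, ⟨g0, (hmemQ _).mpr ⟨hq0, hq0'⟩, hg0⟩⟩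
  · rw [Subgroup.card_map_of_injective (Subgroup.subtype_injective C), hcard]
    norm_num
  · intro c hc q hq
    obtain ⟨hqC, hqQ0⟩ := (hmemQ q).mp hq
    have := hQ0n.conj_mem ⟨q, hqC⟩ hqQ0 ⟨c, hc⟩
    exact (hmemQ _).mpr ⟨C.mul_mem (C.mul_mem hc hqC) (C.inv_mem hc), this⟩
  · intro c hc hcq
    have h1 : (⟨c, hc⟩ : ↥C) ∈ Subgroup.centralizer (Cfsg.generalizedFittingSubgroup ↥C : Set ↥C) := by
      rw [Subgroup.mem_centralizer_iff]
      intro q hq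
      rw [hF] at hq
      apply Subtype.ext
      have := hcq q.1 ((hmemQ _).mpr ⟨q.2, hq⟩)
      exact this.symm
    have h2 := Cfsg.Agent.Lib.Helper8.centralizer_generalizedFittingSubgroup_le h1
    rw [hF] at h2
    exact (hmemQ c).mpr ⟨hc, h2⟩
  · intro a
    obtain ⟨b, hb⟩ := (e.trans w).surjective a
    obtain ⟨c, hc⟩ := QuotientGroup.mk'_surjective Q0 b
    refine ⟨c, ?_⟩
    show (e.trans w) ((QuotientGroup.mk' Q0) c) = a
    rw [hc, hb]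
  · intro c
    simp only [MonoidHom.coe_comp, MulEquiv.coe_toMonoidHom, Function.comp_apply]
    rw [MulEquiv.map_eq_one_iff, QuotientGroup.mk'_apply, QuotientGroup.eq_one_iff]
    constructor
    · intro h; exact (hmemQ _).mpr ⟨c.2, h⟩
    · intro h
      obtain ⟨_, h'⟩ := (hmemQ _).mp h
      exact h'

theorem translate [Finite G] (z : G) (hz : orderOf z = 2)
    (Q0 : Subgroup (Subgroup.centralizer ({z} : Set G))) [hQ0n : Q0.Normal]
    (hF : Cfsg.generalizedFittingSubgroup (Subgroup.centralizer ({z} : Set G)) = Q0)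
    (hQ : Cfsg.IsExtraspecial 2 Q0) (hcard : Nat.card Q0 = 2 ^ 5)
    (e : (Subgroup.centralizer ({z} : Set G)) ⧸ Q0 ≃*
      Cfsg.Omega (ZMod 2) (Cfsg.quadFormMinus 1 (ZMod 2) 1 1))
    (hnwc : ∃ g : G, (∃ hq : g * z * g⁻¹ ∈ Subgroup.centralizer ({z} : Set G),
      (⟨g * z * g⁻¹, hq⟩ : Subgroup.centralizer ({z} : Set G)) ∈ Q0) ∧ g * z * g⁻¹ ≠ z) :
    ∃ (Q : Subgroup G) (psi : ↥(Subgroup.centralizer ({z} : Set G)) →* alternatingGroup (Fin 5)),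
      Q = Q0.map (Subgroup.centralizer ({z} : Set G)).subtype ∧
      Data Q z ∧ Nat.card Q = 32 ∧ Q ≤ Subgroup.centralizer ({z} : Set G) ∧
      (∀ c ∈ Subgroup.centralizer ({z} : Set G), ∀ q ∈ Q, c * q * c⁻¹ ∈ Q) ∧
      (∀ c ∈ Subgroup.centralizer ({z} : Set G), (∀ q ∈ Q, c * q = q * c) → c ∈ Q) ∧
      Function.Surjective psi ∧ (∀ c, psi c = 1 ↔ (c : G) ∈ Q) ∧
      (∃ g : G, g * z * g⁻¹ ∈ Q ∧ g * z * g⁻¹ ≠ z) :=
  translate_aux (Subgroup.centralizer ({z} : Set G)) z hz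
    (fun _ => Subgroup.mem_centralizer_singleton_iff) Q0 hF hQ hcard e hnwc

end Cfsg.Agent.Lib.Helper8.J2
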