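import Mathlib
import Cfsg.Prelude
import Cfsg.Agent.Lib.Helper8.J2T
import Cfsg.Agent.Lib.Helper8.J2Base
import Cfsg.Agent.Lib.Helper6.J2A4
import Cfsg.Agent.Lib.Helper5.J2A7
import Cfsg.Agent.Lib.Lead.J2F
import Cfsg.Agent.Lib.Helper6.J2F1

/-! Assembly of the `type J2` analysis, stage 1: all facts about `C = C_G(z)`. -/

namespace Cfsg.Agent.Lib.Helper8.J2

open Cfsg.Agent.Lib.Helper4.ES2

variable {G : Type*} [Group G]

/-- all the facts about `C = C_G(z)` and the fusion of involutions -/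
structure Facts (z : G) (Q : Subgroup G)
    (phi : ↥(Subgroup.centralizer ({z} : Set G)) →* Equiv.Perm (Fin 5)) (u : Fin 5 → G) :
    Prop where
  hz : orderOf z = 2
  hD : Data Q z
  hQ : Nat.card Q = 32
  hQC : Q ≤ Subgroup.centralizer ({z} : Set G)
  hQn : ∀ c ∈ Subgroup.centralizer ({z} : Set G), ∀ q ∈ Q, c * q * c⁻¹ ∈ Q
  hself : ∀ c ∈ Subgroup.centralizer ({z} : Set G), (∀ q ∈ Q, c * q = q * c) → c ∈ Q
  hker : ∀ c : ↥(Subgroup.centralizer ({z} : Set G)), phi c = 1 ↔ (c : G) ∈ Q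
  hran : phi.range = alternatingGroup (Fin 5)
  hu : ∀ i, u i ∈ Q ∧ u i * u i = 1 ∧ u i ≠ 1 ∧ u i ≠ z
  hcm : ∀ i j, i ≠ j → cm (u i) (u j) = z
  hinv : ∀ x ∈ Q, x * x = 1 → x = 1 ∨ x = z ∨ ∃ i, x = u i ∨ x = u i * z
  hact : ∀ (c : ↥(Subgroup.centralizer ({z} : Set G))) (i : Fin 5),
    (c : G) * u i * (c : G)⁻¹ = u (phi c i) ∨ (c : G) * u i * (c : G)⁻¹ = u (phi c i) * z
  hprod : u 0 * u 1 * u 2 * u 3 * u 4 = 1 ∨ u 0 * u 1 * u 2 * u 3 * u 4 = z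
  hgen : Subgroup.closure (Set.range u) = Q
  h12 : invCount Q = 12
  hrk : RkLE 2 Q
  hA7 : ∀ (v : G) (hvC : v ∈ Subgroup.centralizer ({z} : Set G)), v ∉ Q → v * v = 1 →
    ∃ m : Fin 5, phi ⟨v, hvC⟩ m = m ∧ (∀ j, phi ⟨v, hvC⟩ j = j → j = m) ∧
      (∀ q ∈ Q, v * q = q * v ↔ (q = 1 ∨ q = z ∨ q = u m ∨ q = u m * z)) ∧
      Nat.card {c : G // c ∈ Subgroup.centralizer ({z} : Set G) ∧ c * v = v * c} = 16
  hcls : ∀ v ∈ Subgroup.centralizer ({z} : Set G), v ∉ Q → v * v = 1 →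
    ∀ v' ∈ Subgroup.centralizer ({z} : Set G), v' ∉ Q → v' * v' = 1 →
      ∃ c ∈ Subgroup.centralizer ({z} : Set G), c * v' * c⁻¹ = v
  h120 : Nat.card {x : G // x ∈ Subgroup.centralizer ({z} : Set G) ∧ x ∉ Q ∧ x * x = 1} = 120
  hCcard : Nat.card (Subgroup.centralizer ({z} : Set G)) = 1920
  hf1 : ∀ i, ∃ h : G, h * z * h⁻¹ = u i
  hf1' : ∀ i, ∃ h : G, h * z * h⁻¹ = u i * z
  hf2 : ∀ g : G, g * z * g⁻¹ ∈ Subgroup.centralizer ({z} : Set G) → g * z * g⁻¹ ∈ Q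
  hconjI : ∀ x : G, orderOf x = 2 → ¬ IsConj x z →
    ∃ g : G, g * x * g⁻¹ ∈ Subgroup.centralizer ({z} : Set G) ∧ g * x * g⁻¹ ∉ Q
  hQz : ∀ x ∈ Q, orderOf x = 2 → IsConj x z
  hI : ∀ t ∈ Subgroup.centralizer ({z} : Set G), t ∉ Q → orderOf t = 2 →
      ¬ IsConj z t ∧ (∀ x : G, orderOf x = 2 → IsConj x z ∨ IsConj x t) ∧
      (∀ x ∈ Subgroup.centralizer ({z} : Set G), orderOf x = 2 → x ∉ Q → IsConj x t)
  hex : ∃ t ∈ Subgroup.centralizer ({z} : Set G), t ∉ Q ∧ orderOf t = 2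
  hsyl : ∀ P : Sylow 2 G, Nat.card P = 128

theorem facts_of [Finite G] (z : G) (hz : orderOf z = 2) (Q : Subgroup G)
    (psi : ↥(Subgroup.centralizer ({z} : Set G)) →* alternatingGroup (Fin 5))
    (hD : Data Q z) (hQ : Nat.card Q = 32) (hQC : Q ≤ Subgroup.centralizer ({z} : Set G))
    (hQn : ∀ c ∈ Subgroup.centralizer ({z} : Set G), ∀ q ∈ Q, c * q * c⁻¹ ∈ Q)
    (hself : ∀ c ∈ Subgroup.centralizer ({z} : Set G), (∀ q ∈ Q, c * q = q * c) → c ∈ Q)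
    (hpsis : Function.Surjective psi) (hpsik : ∀ c, psi c = 1 ↔ (c : G) ∈ Q)
    (hnwc : ∃ g : G, g * z * g⁻¹ ∈ Q ∧ g * z * g⁻¹ ≠ z)
    (hcl : ∃ x y : G, orderOf x = 2 ∧ orderOf y = 2 ∧ ¬ IsConj x y) :
    ∃ phi u, Facts z Q phi u := by
  have hCz : ∀ c ∈ Subgroup.centralizer ({z} : Set G), c * z = z * c := fun c hc => mem_C.1 hc
  have hC : ∀ g : G, g ∈ Subgroup.centralizer ({z} : Set G) ↔ g * z = z * g := fun g => mem_C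
  obtain ⟨phi, u, hker, hran, hu, hcm, hinv, hact, hprod, hgen, h12, hrk⟩ :=
    Cfsg.Agent.Lib.Helper6.J2A.module_part _ Q z hD hQ hQC hCz hQn hself psi hpsis hpsik
  have hT := fun v hvC hvQ hv2 => Cfsg.Agent.Lib.Helper5.J2A7.inv_trick _ Q z hD hQ hQC hCz hQn
    phi u hker hran hu hcm hact v hvC hvQ hv2
  have hcls : ∀ v ∈ Subgroup.centralizer ({z} : Set G), v ∉ Q → v * v = 1 →
      ∀ v' ∈ Subgroup.centralizer ({z} : Set G), v' ∉ Q → v' * v' = 1 →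
      ∃ c ∈ Subgroup.centralizer ({z} : Set G), c * v' * c⁻¹ = v := by
    intro v hvC hvQ hv2 v' hv'C hv'Q hv'2
    obtain ⟨m, _, _, _, _, _, _, h7, _⟩ := hT v hvC hvQ hv2
    exact h7 v' hv'C hv'Q hv'2
  obtain ⟨hf1, hf1', hf2, _, ⟨t0, ht0C, ht0Q, ht02⟩, _, hconjI⟩ :=
    Cfsg.Agent.Lib.Lead.J2F.fusion _ Q z hz hD hQ hQC hC hself phi u hran hu hinv hact hcls
      hnwc hcl
  obtain ⟨_, _, _, _, _, _, _, _, _, h120, hCcard⟩ := hT t0 ht0C ht0Q ht02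
  obtain ⟨hQz, hsyl, _, hI, hex⟩ :=
    Cfsg.Agent.Lib.Helper6.J2F.fusion z hz Q hD hQ hQC hQn hself hCcard phi u hran hu hcm hinv
      hact hcls hnwc hcl
  refine ⟨phi, u, ⟨hz, hD, hQ, hQC, hQn, hself, hker, hran, hu, hcm, hinv, hact, hprod, hgen,
    h12, hrk, ?_, hcls, h120, hCcard, hf1, hf1', hf2, hconjI, hQz, hI, hex, hsyl⟩⟩
  intro v hvC hvQ hv2
  obtain ⟨m, h1, h2, h3, _, _, _, _, h16, _, _⟩ := hT v hvC hvQ hv2
  exact ⟨m, h1, h2, h3, h16⟩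

end Cfsg.Agent.Lib.Helper8.J2
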