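import Mathlib
import Cfsg.Prelude
import Cfsg.Agent.Lib.Helper8.J2Asm1
import Cfsg.Agent.Lib.Helper7.HJa

/-! Assembly of the `type J2` analysis, stage 2: general glue lemmas. -/

namespace Cfsg.Agent.Lib.Helper8.J2

open Cfsg.Agent.Lib.Helper4.ES2

variable {G : Type*} [Group G]

/-- two involutions of a subgroup `B ≅ A₅` are conjugate in `B` -/
theorem conj_in_A5 (B : Subgroup G) (hB : Nonempty (↥B ≃* alternatingGroup (Fin 5)))
    (x y : G) (hx : x ∈ B) (hy : y ∈ B) (hx2 : x * x = 1) (hx1 : x ≠ 1)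
    (hy2 : y * y = 1) (hy1 : y ≠ 1) : ∃ r ∈ B, r * y * r⁻¹ = x := by
  obtain ⟨φ⟩ := hB
  have key : ∀ (w : G) (hw : w ∈ B), w * w = 1 → w ≠ 1 →
      Equiv.Perm.sign ((φ ⟨w, hw⟩ : alternatingGroup (Fin 5)) : Equiv.Perm (Fin 5)) = 1 ∧
      ((φ ⟨w, hw⟩ : alternatingGroup (Fin 5)) : Equiv.Perm (Fin 5)) *
        ((φ ⟨w, hw⟩ : alternatingGroup (Fin 5)) : Equiv.Perm (Fin 5)) = 1 ∧
      ((φ ⟨w, hw⟩ : alternatingGroup (Fin 5)) : Equiv.Perm (Fin 5)) ≠ 1 := by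
    intro w hw hw2 hw1
    refine ⟨Equiv.Perm.mem_alternatingGroup.1 (φ ⟨w, hw⟩).2, ?_, ?_⟩
    · have : φ ⟨w, hw⟩ * φ ⟨w, hw⟩ = 1 := by
        rw [← map_mul]
        have : (⟨w, hw⟩ : ↥B) * ⟨w, hw⟩ = 1 := Subtype.ext hw2
        rw [this, map_one]
      have h2 := congrArg (fun a : alternatingGroup (Fin 5) => (a : Equiv.Perm (Fin 5))) this
      simpa using h2
    · intro h
      have : φ ⟨w, hw⟩ = 1 := Subtype.ext h
      have h3 : (⟨w, hw⟩ : ↥B) = 1 := by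
        apply φ.injective
        rw [this, map_one]
      exact hw1 (congrArg Subtype.val h3)
  obtain ⟨a1, a2, a3⟩ := key x hx hx2 hx1
  obtain ⟨b1, b2, b3⟩ := key y hy hy2 hy1
  obtain ⟨τ, hτ, e⟩ := Cfsg.Agent.Lib.Helper5.J2A7.perm_conj2 _ _ a1 a2 a3 b1 b2 b3
  let τ' : alternatingGroup (Fin 5) := ⟨τ, Equiv.Perm.mem_alternatingGroup.2 hτ⟩
  refine ⟨(φ.symm τ' : ↥B), (φ.symm τ').2, ?_⟩
  have h4 : φ.symm τ' * ⟨y, hy⟩ * (φ.symm τ')⁻¹ = ⟨x, hx⟩ := by
    apply φ.injective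
    rw [map_mul, map_mul, map_inv, MulEquiv.apply_symm_apply]
    apply Subtype.ext
    simpa [τ'] using e
  simpa using congrArg Subtype.val h4

/-- an element of square one of a group of order 48 lies in a normal subgroup of order 16 -/
theorem mem_of_normal_16_48 [Finite G] (K E : Subgroup G) (hEK : E ≤ K)
    (hK : Nat.card K = 48) (hE : Nat.card E = 16)
    (hn : ∀ g ∈ K, ∀ e ∈ E, g * e * g⁻¹ ∈ E) (b : G) (hb : b ∈ K) (hb2 : b * b = 1) :
    b ∈ E := by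
  haveI : (E.subgroupOf K).Normal := by
    constructor
    intro n hn' g
    rw [Subgroup.mem_subgroupOf] at hn' ⊢
    simpa using hn g g.2 n hn'
  have hcE : Nat.card (E.subgroupOf K) = 16 := by
    rw [Nat.card_congr (Subgroup.subgroupOfEquivOfLe hEK).toEquiv, hE]
  have hq : Nat.card (↥K ⧸ E.subgroupOf K) = 3 := by
    have h1 := Subgroup.card_eq_card_quotient_mul_card_subgroup (E.subgroupOf K)
    rw [hK, hcE] at h1
    omega
  let bb : ↥K ⧸ E.subgroupOf K := QuotientGroup.mk' _ ⟨b, hb⟩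
  have h2 : bb ^ 2 = 1 := by
    show (QuotientGroup.mk' (E.subgroupOf K) (⟨b, hb⟩ : ↥K)) ^ 2 = 1
    rw [← map_pow]
    have : (⟨b, hb⟩ : ↥K) ^ 2 = 1 := by
      apply Subtype.ext
      simp [pow_two, hb2]
    rw [this, map_one]
  have h3 : bb ^ 3 = 1 := by
    rw [← hq]
    exact pow_card_eq_one'
  have h1 : bb = 1 := by
    calc bb = bb ^ 3 * (bb ^ 2)⁻¹ := by group
      _ = 1 := by rw [h2, h3]; simp
  have := (QuotientGroup.eq_one_iff (⟨b, hb⟩ : ↥K)).1 h1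
  simpa [Subgroup.mem_subgroupOf] using this

theorem card_three_of {a b c : G} (hab : a ≠ b) (hac : a ≠ c) (hbc : b ≠ c) (p : G → Prop)
    (hp : ∀ x, p x ↔ x = a ∨ x = b ∨ x = c) : Nat.card {x : G // p x} = 3 := by
  have h1 : Nat.card {x : G // p x} = ({a, b, c} : Set G).ncard := by
    rw [← Nat.card_coe_set_eq]
    apply Nat.card_congr
    apply Equiv.subtypeEquivRight
    intro x
    rw [hp x]
    simp
  rw [h1]
  exact Set.ncard_eq_three.2 ⟨a, b, c, hab, hac, hbc, rfl⟩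

theorem card_four_of {a b c d : G} (hab : a ≠ b) (hac : a ≠ c) (had : a ≠ d) (hbc : b ≠ c)
    (hbd : b ≠ d) (hcd : c ≠ d) (p : G → Prop)
    (hp : ∀ x, p x ↔ x = a ∨ x = b ∨ x = c ∨ x = d) : Nat.card {x : G // p x} = 4 := by
  have h1 : Nat.card {x : G // p x} = ({a, b, c, d} : Set G).ncard := by
    rw [← Nat.card_coe_set_eq]
    apply Nat.card_congr
    apply Equiv.subtypeEquivRight
    intro x
    rw [hp x]
    simp
  rw [h1]
  rw [Set.ncard_insert_of_notMem (by simp [hab, hac, had]),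
    Set.ncard_eq_three.2 ⟨b, c, d, hbc, hbd, hcd, rfl⟩]

end Cfsg.Agent.Lib.Helper8.J2
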