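import Mathlib
import Cfsg.Prelude
import Cfsg.Agent.Lib.Helper8.J2Asm2
import Cfsg.Agent.Lib.Helper6.J2K
import Cfsg.Agent.Lib.Lead.HJe
import Cfsg.Agent.Lib.Lead.ConjCount
import Cfsg.Agent.Lib.Helper9.J2Da

/-! Assembly of the `type J2` analysis, stage 3: the centralizer of a `t`-type involution
of `C` and the order of `G`, given the local analysis. -/

namespace Cfsg.Agent.Lib.Helper8.J2

open Cfsg.Agent.Lib.Helper4.ES2
open Cfsg.Agent.Lib.Helper7.HJa (ord2_iff)

variable {G : Type*} [Group G]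

theorem ord_conj {a b : G} (h : IsConj a b) : orderOf a = orderOf b := by
  obtain ⟨c, hc⟩ := isConj_iff.mp h
  rw [← hc]
  exact (orderOf_injective (MulAut.conj c).toMonoidHom (MulAut.conj c).injective a).symm

theorem per_t_core [Finite G] {z : G} {Q : Subgroup G}
    {phi : ↥(Subgroup.centralizer ({z} : Set G)) →* Equiv.Perm (Fin 5)} {u : Fin 5 → G}
    (F : Facts z Q phi u)
    (t : G) (htC : t ∈ Subgroup.centralizer ({z} : Set G)) (htQ : t ∉ Q) (ht : orderOf t = 2)
    (m : Fin 5)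
    (hCQ : ∀ q ∈ Q, t * q = q * t ↔ (q = 1 ∨ q = z ∨ q = u m ∨ q = u m * z))
    (hE2 : ∀ g ∈ Subgroup.centralizer ({z} : Set G), g * t = t * g → g * g = 1)
    (U E : Subgroup G)
    (hU : ∀ x : G, x ∈ U ↔ (x = 1 ∨ x = z ∨ x = u m ∨ x = u m * z))
    (hE : ∀ x : G, x ∈ E ↔ (x ∈ Subgroup.centralizer ({z} : Set G) ∧ x * t = t * x))
    (hU4 : Nat.card U = 4) (hE16 : Nat.card E = 16)
    (h91 : 91 ≤ Nat.card {w : G // IsConj w z})
    (V B : Subgroup G)
    (hVB : Cfsg.IsInternalDirectProduct V B (Subgroup.centralizer ({t} : Set G)))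
    (hV4 : Nat.card V = 4) (htV : t ∈ V) (hVE : V ≤ E) (hUB : U ≤ B) (hBE : B ⊓ E = U)
    (hdich : Nonempty (↥B ≃* alternatingGroup (Fin 5)) ∨
        (Nat.card (Subgroup.centralizer ({t} : Set G)) = 48 ∧
          ∀ g : G, g * t = t * g → ∀ e ∈ E, g * e * g⁻¹ ∈ E)) :
    Nonempty (↥B ≃* alternatingGroup (Fin 5)) ∧
    (∀ t1 ∈ V, t1 ≠ 1 → ∃ c : G, c * t * c⁻¹ = t1) ∧
    (∀ x ∈ B, orderOf x = 2 → IsConj x z) ∧
    (∀ x ∈ Subgroup.centralizer ({t} : Set G), orderOf x = 2 → x ∉ B → IsConj x t) ∧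
    Nat.card G = 604800 := by
  have hVB' := hVB
  obtain ⟨hVK, hBK, hcomm, hinf, hsup⟩ := hVB
  obtain ⟨ht1, ht2⟩ := (ord2_iff t).1 ht
  obtain ⟨hzt, hcl, hCzt⟩ := F.hI t htC htQ ht
  have hz1 : z ≠ 1 := F.hD.z_ne
  have hUQ : ∀ x ∈ U, x ∈ Q := by
    intro x hx
    rcases (hU x).1 hx with rfl | rfl | rfl | rfl
    · exact Q.one_mem
    · exact F.hD.zQ
    · exact (F.hu m).1
    · exact Q.mul_mem (F.hu m).1 F.hD.zQ
  have hUt : ∀ x ∈ U, x * t = t * x := fun x hx =>
    ((hCQ x (hUQ x hx)).2 ((hU x).1 hx)).symm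
  have hUE : U ≤ E := fun x hx => (hE x).2 ⟨F.hQC (hUQ x hx), hUt x hx⟩
  have hEsq : ∀ e ∈ E, e * e = 1 := fun e he => hE2 e ((hE e).1 he).1 ((hE e).1 he).2
  have hEQ : ∀ e ∈ E, e ∈ Q → e ∈ U := fun e he heQ =>
    (hU e).2 ((hCQ e heQ).1 ((hE e).1 he).2.symm)
  have hImem : ∀ x ∈ E, x ∉ U → IsConj x t := by
    intro x hx hxU
    have hx1 : x ≠ 1 := fun h => hxU (h ▸ U.one_mem)
    exact hCzt x ((hE x).1 hx).1 ((ord2_iff x).2 ⟨hx1, hEsq x hx⟩) (fun hq => hxU (hEQ x hx hq))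
  have hzU : z ∈ U := (hU z).2 (Or.inr (Or.inl rfl))
  have hUz : ∀ x ∈ U, x ≠ 1 → IsConj x z := by
    intro x hx hx1
    rcases (hU x).1 hx with h | h | h | h
    · exact absurd h hx1
    · rw [h]
    · obtain ⟨g, hg⟩ := F.hf1 m
      rw [h]
      exact (isConj_iff.2 ⟨g, hg⟩).symm
    · obtain ⟨g, hg⟩ := F.hf1' m
      rw [h]
      exact (isConj_iff.2 ⟨g, hg⟩).symm
  have hX : ∀ b ∈ B, b * b = 1 → ∃ r ∈ B, ∃ u' ∈ U, b = r * u' * r⁻¹ := by
    intro b hb hb2
    rcases hdich with h5 | ⟨h48, hnorm⟩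
    · by_cases hb1 : b = 1
      · exact ⟨1, B.one_mem, 1, U.one_mem, by simp [hb1]⟩
      · obtain ⟨r, hr, e⟩ := conj_in_A5 B h5 b z hb (hUB hzU) hb2 hb1 F.hD.z_sq hz1
        exact ⟨r, hr, z, hzU, e.symm⟩
    · have hbE : b ∈ E :=
        mem_of_normal_16_48 _ E (fun e he => mem_C.2 ((hE e).1 he).2) h48 hE16
          (fun g hg e he => hnorm g (mem_C.1 hg) e he) b (hBK hb) hb2
      exact ⟨1, B.one_mem, b, by rw [← hBE]; exact ⟨hb, hbE⟩, by simp⟩
  have hBz : ∀ x ∈ B, orderOf x = 2 → IsConj x z := by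
    intro x hx hx2
    obtain ⟨hx1, hxx⟩ := (ord2_iff x).1 hx2
    obtain ⟨r, hr, u', hu', e⟩ := hX x hx hxx
    have hu'1 : u' ≠ 1 := by
      rintro rfl
      apply hx1
      rw [e]
      simp
    have h1 : IsConj u' x := isConj_iff.2 ⟨r, e.symm⟩
    exact h1.symm.trans (hUz u' hu' hu'1)
  have hCt : ∀ x ∈ Subgroup.centralizer ({t} : Set G), orderOf x = 2 → x ∉ B → IsConj x t := by
    intro x hxK hx2 hxB
    obtain ⟨hx1, hxx⟩ := (ord2_iff x).1 hx2
    obtain ⟨v, hv, b, hb, rfl⟩ := Cfsg.Agent.Lib.Helper9.J2D.idp_decomp V B _ hVB' x hxK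
    have hv1 : v ≠ 1 := by
      rintro rfl
      apply hxB
      simpa using hb
    have hvv : v * v = 1 := hEsq v (hVE hv)
    have hbb : b * b = 1 := by
      have hc := hcomm v hv b hb
      have h3 : v * b * (v * b) = v * v * (b * b) := by
        calc v * b * (v * b) = v * (b * v) * b := by group
          _ = v * (v * b) * b := by rw [← hc]
          _ = v * v * (b * b) := by group
      rw [h3, hvv, one_mul] at hxx
      exact hxx
    obtain ⟨r, hr, u', hu', e⟩ := hX b hb hbb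
    have hvU : v ∉ U := by
      intro h
      have h4 : v ∈ V ⊓ B := ⟨hv, hUB h⟩
      rw [hinf] at h4
      exact hv1 (Subgroup.mem_bot.1 h4)
    have hw : v * u' ∈ E := E.mul_mem (hVE hv) (hUE hu')
    have hwU : v * u' ∉ U := by
      intro h
      apply hvU
      have h4 := U.mul_mem h (U.inv_mem hu')
      simpa using h4
    have h1 := hImem _ hw hwU
    have hrv : v * r = r * v := hcomm v hv r hr
    have h2 : r * (v * u') * r⁻¹ = v * b := by
      rw [e]
      calc r * (v * u') * r⁻¹ = (r * v) * u' * r⁻¹ := by group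
        _ = (v * r) * u' * r⁻¹ := by rw [hrv]
        _ = v * (r * u' * r⁻¹) := by group
    exact (isConj_iff.2 ⟨r, h2⟩).symm.trans h1
  have hfuse : ∀ t1 ∈ V, t1 ≠ 1 → ∃ c : G, c * t * c⁻¹ = t1 := by
    intro t1 h1 h11
    have h2 : t1 ∉ U := fun h => by
      have h4 : t1 ∈ V ⊓ B := ⟨h1, hUB h⟩
      rw [hinf] at h4
      exact h11 (Subgroup.mem_bot.1 h4)
    exact isConj_iff.1 (hImem t1 (hVE h1) h2).symm
  -- the order formula
  have hnotQ : ∀ v : G, IsConj t v → v ∉ Q := by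
    intro v hc hvQ
    have h2 : orderOf v = 2 := by rw [← ord_conj hc]; exact ht
    exact hzt ((F.hQz v hvQ h2).symm.trans hc.symm)
  have hI120 : Nat.card {b : G // IsConj t b ∧ b * z = z * b} = 120 := by
    rw [← F.h120]
    apply Nat.card_congr
    apply Equiv.subtypeEquivRight
    intro b
    constructor
    · rintro ⟨hc, hbz⟩
      have h2 : orderOf b = 2 := by rw [← ord_conj hc]; exact ht
      exact ⟨mem_C.2 hbz, hnotQ b hc, ((ord2_iff b).1 h2).2⟩
    · rintro ⟨hbC, hbQ, hbb⟩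
      have hb1 : b ≠ 1 := fun h => hbQ (h ▸ Q.one_mem)
      exact ⟨(hCzt b hbC ((ord2_iff b).2 ⟨hb1, hbb⟩) hbQ).symm, mem_C.1 hbC⟩
  have hfus : ∀ v : G, IsConj t v → v * z = z * v →
      Nat.card {u' : G // u' ∈ Q ∧ orderOf u' = 2 ∧ u' * v = v * u'} = 3 := by
    intro v hc hvz
    have h2 : orderOf v = 2 := by rw [← ord_conj hc]; exact ht
    obtain ⟨m', _, _, hCQ', _⟩ := F.hA7 v (mem_C.2 hvz) (hnotQ v hc) ((ord2_iff v).1 h2).2
    obtain ⟨hm1, hm2, hm3, hm4⟩ := F.hu m'
    have hzc : u m' * z = z * u m' := F.hD.z_comm _ hm1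
    apply card_three_of (a := z) (b := u m') (c := u m' * z)
    · exact fun h => hm4 h.symm
    · intro h
      apply hm3
      have : z * 1 = z * u m' := by rw [mul_one, ← hzc]; exact h
      exact (mul_left_cancel this).symm
    · intro h
      apply hz1
      have : u m' * 1 = u m' * z := by rw [mul_one]; exact h
      exact (mul_left_cancel this).symm
    · intro x
      constructor
      · rintro ⟨hxQ, hx2, hxv⟩
        rcases (hCQ' x hxQ).1 hxv.symm with h | h | h | h
        · rw [h, orderOf_one] at hx2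
          omega
        · exact Or.inl h
        · exact Or.inr (Or.inl h)
        · exact Or.inr (Or.inr h)
      · intro hx
        have hxQ : x ∈ Q := by
          rcases hx with h | h | h <;> rw [h]
          · exact F.hD.zQ
          · exact hm1
          · exact Q.mul_mem hm1 F.hD.zQ
        have hx1 : x ≠ 1 := by
          rcases hx with h | h | h <;> rw [h]
          · exact hz1
          · exact hm3
          · intro h5
            apply hm4
            calc u m' = u m' * z * z := by rw [mul_assoc, F.hD.z_sq, mul_one]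
              _ = z := by rw [h5, one_mul]
        have hxx : x * x = 1 := by
          rcases hx with h | h | h <;> rw [h]
          · exact F.hD.z_sq
          · exact hm2
          · calc u m' * z * (u m' * z) = u m' * (z * u m') * z := by group
              _ = u m' * (u m' * z) * z := by rw [hzc]
              _ = (u m' * u m') * (z * z) := by group
              _ = 1 := by rw [hm2, F.hD.z_sq, one_mul]
        refine ⟨hxQ, (ord2_iff x).2 ⟨hx1, hxx⟩, ?_⟩
        exact ((hCQ' x hxQ).2 (by tauto)).symm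
  have hV2 : ∀ v ∈ V, v ^ 2 = 1 := fun v hv => by rw [pow_two]; exact hEsq v (hVE hv)
  have hcore := Cfsg.Agent.Lib.Helper6.J2K.core' z t F.hz ht hzt hcl Q F.hD F.hQn F.hCcard
    ⟨F.h12, F.hrk⟩ hI120 hfus F.hQz hCzt V B hVB' hV2 htV hBz hCt
  have hB5 : Nonempty (↥B ≃* alternatingGroup (Fin 5)) := by
    rcases hdich with h5 | ⟨h48, hnorm⟩
    · exact h5
    · exfalso
      have hinvB : ∀ b ∈ B, b * b = 1 → b ∈ U := by
        intro b hb hb2
        have hbE : b ∈ E :=
          mem_of_normal_16_48 _ E (fun e he => mem_C.2 ((hE e).1 he).2) h48 hE16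
            (fun g hg e he => hnorm g (mem_C.1 hg) e he) b (hBK hb) hb2
        rw [← hBE]
        exact ⟨hb, hbE⟩
      have hcnt := Cfsg.Agent.Lib.Helper6.J2K.count_A4 B U hU4
        (fun x hx => hEsq x (hUE hx)) hUB hinvB
      rw [hcnt, h48] at hcore
      have h5 := Cfsg.Agent.Lib.Lead.card_conj_mul_card_centralizer z
      rw [F.hCcard, hcore] at h5
      have h6 : Nat.card {b : G // IsConj z b} = Nat.card {w : G // IsConj w z} :=
        Nat.card_congr (Equiv.subtypeEquivRight (fun b => isConj_comm))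
      rw [h6] at h5
      omega
  refine ⟨hB5, hfuse, hBz, hCt, ?_⟩
  have hcnt := Cfsg.Agent.Lib.Helper7.HJa.cntTB B hB5
  have hK : Nat.card (Subgroup.centralizer ({t} : Set G)) = Nat.card V * Nat.card B :=
    Cfsg.Agent.Lib.Lead.HJe.card_of_complement V B _ hsup hinf (by
      intro k hk q hq
      have : k * q * k⁻¹ = q := by rw [hcomm k hk q hq]; group
      rw [this]
      exact hq)
  rw [hcnt, hK, hV4, (Cfsg.Agent.Lib.Helper7.HJa.simpleB B hB5).2.1] at hcore
  rw [hcore]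

end Cfsg.Agent.Lib.Helper8.J2
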