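import Mathlib
import Cfsg.Prelude
import Cfsg.Agent.Lib.Helper8.J2Asm3
import Cfsg.Agent.Lib.Helper7.J2B
import Cfsg.Agent.Lib.Helper4.J2N
import Cfsg.Agent.Lib.Helper4.J2G3
import Cfsg.Agent.Lib.Helper4.J2G1

/-! Assembly of the `type J2` analysis, stage 4: the main theorem. -/

namespace Cfsg.Agent.Lib.Helper8.J2

open Cfsg.Agent.Lib.Helper4.ES2
open Cfsg.Agent.Lib.Helper7.HJa (ord2_iff)

variable {G : Type*} [Group G]

theorem per_t [Finite G] {z : G} {Q : Subgroup G}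
    {phi : ↥(Subgroup.centralizer ({z} : Set G)) →* Equiv.Perm (Fin 5)} {u : Fin 5 → G}
    (F : Facts z Q phi u)
    (t : G) (htC : t ∈ Subgroup.centralizer ({z} : Set G)) (htQ : t ∉ Q) (ht : orderOf t = 2) :
    ∃ V B : Subgroup G,
      Cfsg.IsInternalDirectProduct V B (Subgroup.centralizer ({t} : Set G)) ∧
      Nat.card V = 4 ∧ t ∈ V ∧ Nonempty (↥B ≃* alternatingGroup (Fin 5)) ∧
      (∀ t1 ∈ V, t1 ≠ 1 → ∃ c : G, c * t * c⁻¹ = t1) ∧
      (∀ x ∈ B, orderOf x = 2 → IsConj x z) ∧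
      (∀ x ∈ Subgroup.centralizer ({t} : Set G), orderOf x = 2 → x ∉ B → IsConj x t) ∧
      z ∈ B ∧ Nat.card G = 604800 := by
  obtain ⟨ht1, ht2⟩ := (ord2_iff t).1 ht
  have hCz : ∀ c ∈ Subgroup.centralizer ({z} : Set G), c * z = z * c := fun c hc => mem_C.1 hc
  have hC : ∀ g : G, g ∈ Subgroup.centralizer ({z} : Set G) ↔ g * z = z * g := fun g => mem_C
  obtain ⟨hE2, hEc⟩ := Cfsg.Agent.Lib.Helper7.J2B.cent_elem _ Q z F.hD F.hQ F.hQC hCz F.hQn phi u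
    F.hker F.hran F.hu F.hcm F.hinv F.hact F.hprod F.hgen F.hA7 t htC htQ ht2
  obtain ⟨m, hm, hmu, hCQ, h16⟩ := F.hA7 t htC htQ ht2
  obtain ⟨hm1, hm2, hm3, hm4⟩ := F.hu m
  have hz1 : z ≠ 1 := F.hD.z_ne
  let U : Subgroup G := Q ⊓ Subgroup.centralizer ({t} : Set G)
  let E : Subgroup G := Subgroup.centralizer ({z} : Set G) ⊓ Subgroup.centralizer ({t} : Set G)
  have hU : ∀ x : G, x ∈ U ↔ (x = 1 ∨ x = z ∨ x = u m ∨ x = u m * z) := by
    intro x
    constructor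
    · rintro ⟨hxQ, hxt⟩
      exact (hCQ x hxQ).1 (mem_C.1 hxt).symm
    · intro hx
      have hxQ : x ∈ Q := by
        rcases hx with h | h | h | h <;> rw [h]
        · exact Q.one_mem
        · exact F.hD.zQ
        · exact hm1
        · exact Q.mul_mem hm1 F.hD.zQ
      exact ⟨hxQ, mem_C.2 ((hCQ x hxQ).2 hx).symm⟩
  have hE : ∀ x : G, x ∈ E ↔ (x ∈ Subgroup.centralizer ({z} : Set G) ∧ x * t = t * x) :=
    fun x => ⟨fun h => ⟨h.1, mem_C.1 h.2⟩, fun h => ⟨h.1, mem_C.2 h.2⟩⟩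
  obtain ⟨hN48, hNUE, hS⟩ := Cfsg.Agent.Lib.Helper4.J2N.local_N _ Q z F.hD F.hQ F.hQC hC F.hQn
    phi u F.hker F.hu F.hcm F.hinv F.hact F.hf1 F.hf2 F.hA7 F.hcls t htC htQ ht2 hE2 hEc m hm
    U E hU hE
  have hU4 : Nat.card U = 4 := by
    refine card_four_of (a := 1) (b := z) (c := u m) (d := u m * z) hz1.symm hm3.symm ?_
      hm4.symm ?_ ?_ (fun x => x ∈ U) hU
    · intro h
      apply hm4
      calc u m = u m * z * z := by rw [mul_assoc, F.hD.z_sq, mul_one]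
        _ = z := by rw [← h, one_mul]
    · intro h
      apply hm3
      have : 1 * z = u m * z := by rw [one_mul]; exact h
      exact (mul_right_cancel this).symm
    · intro h
      apply hz1
      have : u m * 1 = u m * z := by rw [mul_one]; exact h
      exact (mul_left_cancel this).symm
  have hE16 : Nat.card E = 16 := by
    rw [← h16]
    exact Nat.card_congr (Equiv.subtypeEquivRight (fun x => hE x))
  have h91 := Cfsg.Agent.Lib.Helper4.J2G.class_ge _ Q z F.hz F.hD F.hQC hC u F.hu F.hcm F.hinv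
    F.hf1 F.hf1' F.hf2
  have hzU : z ∈ U := (hU z).2 (Or.inr (Or.inl rfl))
  have hUE : U ≤ E := fun x hx => ⟨F.hQC hx.1, hx.2⟩
  obtain ⟨V, B, hVB, hV4, htV, hVE, hUB, hBE, hdich⟩ :=
    Cfsg.Agent.Lib.Helper4.J2G.cent_structure_G t z E U ht1 (fun e he => ((hE e).1 he).2) hE16
      (fun e he => hE2 e ((hE e).1 he).1 ((hE e).1 he).2) hS hUE hU4 hzU hz1
      ((hE t).2 ⟨htC, rfl⟩) (fun h => htQ h.1)
      (fun r hrt hrz => (hE r).2 ⟨mem_C.2 hrz, hrt⟩) hN48 hNUE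
  obtain ⟨hB5, hfuse, hBz, hCt, hG⟩ := per_t_core F t htC htQ ht m hCQ hE2 U E hU hE hU4 hE16 h91
    V B hVB hV4 htV hVE hUB hBE hdich
  exact ⟨V, B, hVB, hV4, htV, hB5, hfuse, hBz, hCt, hUB hzU, hG⟩

/-- conjugating an internal direct product decomposition of a centralizer -/
theorem idp_conj (g t : G) (V B : Subgroup G)
    (h : Cfsg.IsInternalDirectProduct V B (Subgroup.centralizer ({g * t * g⁻¹} : Set G))) :
    Cfsg.IsInternalDirectProduct (V.map (MulAut.conj g⁻¹).toMonoidHom)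
      (B.map (MulAut.conj g⁻¹).toMonoidHom) (Subgroup.centralizer ({t} : Set G)) := by
  obtain ⟨hVK, hBK, hcomm, hinf, hsup⟩ := h
  have hinj : Function.Injective (MulAut.conj g⁻¹).toMonoidHom := (MulAut.conj g⁻¹).injective
  have hK : (Subgroup.centralizer ({g * t * g⁻¹} : Set G)).map (MulAut.conj g⁻¹).toMonoidHom =
      Subgroup.centralizer ({t} : Set G) := by
    ext x
    rw [Subgroup.mem_map]
    constructor
    · rintro ⟨y, hy, rfl⟩
      rw [mem_C] at hy ⊢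
      show g⁻¹ * y * g⁻¹⁻¹ * t = t * (g⁻¹ * y * g⁻¹⁻¹)
      rw [inv_inv]
      calc g⁻¹ * y * g * t = g⁻¹ * (y * (g * t * g⁻¹)) * g := by group
        _ = g⁻¹ * ((g * t * g⁻¹) * y) * g := by rw [hy]
        _ = t * (g⁻¹ * y * g) := by group
    · intro hx
      rw [mem_C] at hx
      refine ⟨g * x * g⁻¹, ?_, ?_⟩
      · rw [mem_C]
        calc g * x * g⁻¹ * (g * t * g⁻¹) = g * (x * t) * g⁻¹ := by group
          _ = g * (t * x) * g⁻¹ := by rw [hx]
          _ = g * t * g⁻¹ * (g * x * g⁻¹) := by group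
      · show g⁻¹ * (g * x * g⁻¹) * g⁻¹⁻¹ = x
        group
  refine ⟨?_, ?_, ?_, ?_, ?_⟩
  · rw [← hK]
    exact Subgroup.map_mono hVK
  · rw [← hK]
    exact Subgroup.map_mono hBK
  · rintro a ⟨a', ha', rfl⟩ b ⟨b', hb', rfl⟩
    rw [← map_mul, ← map_mul, hcomm a' ha' b' hb']
  · rw [← Subgroup.map_inf _ _ _ hinj, hinf, Subgroup.map_bot]
  · rw [← Subgroup.map_sup, hsup, hK]

theorem Facts.main [Finite G] {z : G} {Q : Subgroup G}
    {phi : ↥(Subgroup.centralizer ({z} : Set G)) →* Equiv.Perm (Fin 5)} {u : Fin 5 → G}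
    (F : Facts z Q phi u) :
    Nat.card G = 604800 ∧
    ∀ t : G, orderOf t = 2 → ¬ IsConj t z →
      ∃ V B : Subgroup G,
        Cfsg.IsInternalDirectProduct V B (Subgroup.centralizer ({t} : Set G)) ∧
        Nat.card V = 4 ∧ t ∈ V ∧ Nonempty (↥B ≃* alternatingGroup (Fin 5)) ∧
        (∀ t1 ∈ V, t1 ≠ 1 → ∃ c : G, c * t * c⁻¹ = t1) ∧
        (∀ x ∈ B, orderOf x = 2 → IsConj x z) ∧
        (∀ x ∈ Subgroup.centralizer ({t} : Set G), orderOf x = 2 → x ∉ B → IsConj x t) := by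
  constructor
  · obtain ⟨t, htC, htQ, ht⟩ := F.hex
    obtain ⟨V, B, _, _, _, _, _, _, _, _, hG⟩ := per_t F t htC htQ ht
    exact hG
  · intro t ht htz
    obtain ⟨g, hgC, hgQ⟩ := F.hconjI t ht htz
    have hc0 : IsConj t (g * t * g⁻¹) := isConj_iff.2 ⟨g, rfl⟩
    have ht0 : orderOf (g * t * g⁻¹) = 2 := by rw [← ord_conj hc0]; exact ht
    obtain ⟨V, B, hVB, hV4, htV, hB5, hfuse, hBz, hCt, _, _⟩ := per_t F _ hgC hgQ ht0
    have hinj : Function.Injective (MulAut.conj g⁻¹).toMonoidHom := (MulAut.conj g⁻¹).injective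
    have hf : ∀ x : G, (MulAut.conj g⁻¹).toMonoidHom x = g⁻¹ * x * g := by
      intro x
      show g⁻¹ * x * g⁻¹⁻¹ = _
      rw [inv_inv]
    have hfc : ∀ x : G, IsConj x ((MulAut.conj g⁻¹).toMonoidHom x) := by
      intro x
      rw [hf]
      exact isConj_iff.2 ⟨g⁻¹, by rw [inv_inv]⟩
    refine ⟨V.map (MulAut.conj g⁻¹).toMonoidHom, B.map (MulAut.conj g⁻¹).toMonoidHom,
      idp_conj g t V B hVB, ?_, ?_, ?_, ?_, ?_, ?_⟩
    · rw [Subgroup.card_map_of_injective hinj, hV4]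
    · refine ⟨g * t * g⁻¹, htV, ?_⟩
      rw [hf]
      group
    · obtain ⟨w⟩ := hB5
      exact ⟨(B.equivMapOfInjective _ hinj).symm.trans w⟩
    · rintro t1 ⟨v, hv, rfl⟩ ht11
      have hv1 : v ≠ 1 := by
        rintro rfl
        exact ht11 (map_one _)
      obtain ⟨c, hc⟩ := hfuse v hv hv1
      refine ⟨g⁻¹ * c * g, ?_⟩
      rw [hf, ← hc]
      group
    · rintro x ⟨b, hb, rfl⟩ hx2
      have h2 : orderOf b = 2 := by rw [ord_conj (hfc b)]; exact hx2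
      exact (hfc b).symm.trans (hBz b hb h2)
    · intro x hxK hx2 hxB
      have hxc : IsConj x (g * x * g⁻¹) := isConj_iff.2 ⟨g, rfl⟩
      have h1 : g * x * g⁻¹ ∈ Subgroup.centralizer ({g * t * g⁻¹} : Set G) := by
        rw [mem_C] at hxK ⊢
        calc g * x * g⁻¹ * (g * t * g⁻¹) = g * (x * t) * g⁻¹ := by group
          _ = g * (t * x) * g⁻¹ := by rw [hxK]
          _ = g * t * g⁻¹ * (g * x * g⁻¹) := by group
      have h2 : orderOf (g * x * g⁻¹) = 2 := by rw [← ord_conj hxc]; exact hx2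
      have h3 : g * x * g⁻¹ ∉ B := by
        intro h
        apply hxB
        refine ⟨g * x * g⁻¹, h, ?_⟩
        rw [hf]
        group
      exact hxc.trans ((hCt _ h1 h2 h3).trans hc0.symm)

theorem main [Finite G] (z : G) (hz : orderOf z = 2) (Q : Subgroup G)
    (psi : ↥(Subgroup.centralizer ({z} : Set G)) →* alternatingGroup (Fin 5))
    (hD : Data Q z) (hQ : Nat.card Q = 32) (hQC : Q ≤ Subgroup.centralizer ({z} : Set G))
    (hQn : ∀ c ∈ Subgroup.centralizer ({z} : Set G), ∀ q ∈ Q, c * q * c⁻¹ ∈ Q)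
    (hself : ∀ c ∈ Subgroup.centralizer ({z} : Set G), (∀ q ∈ Q, c * q = q * c) → c ∈ Q)
    (hpsis : Function.Surjective psi) (hpsik : ∀ c, psi c = 1 ↔ (c : G) ∈ Q)
    (hnwc : ∃ g : G, g * z * g⁻¹ ∈ Q ∧ g * z * g⁻¹ ≠ z)
    (hcl : ∃ x y : G, orderOf x = 2 ∧ orderOf y = 2 ∧ ¬ IsConj x y) :
    Nat.card G = 604800 ∧
    ∀ t : G, orderOf t = 2 → ¬ IsConj t z →
      ∃ V B : Subgroup G,
        Cfsg.IsInternalDirectProduct V B (Subgroup.centralizer ({t} : Set G)) ∧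
        Nat.card V = 4 ∧ t ∈ V ∧ Nonempty (↥B ≃* alternatingGroup (Fin 5)) ∧
        (∀ t1 ∈ V, t1 ≠ 1 → ∃ c : G, c * t * c⁻¹ = t1) ∧
        (∀ x ∈ B, orderOf x = 2 → IsConj x z) ∧
        (∀ x ∈ Subgroup.centralizer ({t} : Set G), orderOf x = 2 → x ∉ B → IsConj x t) := by
  obtain ⟨phi, u, F⟩ := facts_of z hz Q psi hD hQ hQC hQn hself hpsis hpsik hnwc hcl
  exact F.main

/-- the facts, directly from the hypotheses of the `type J2` statements -/
theorem exists_facts [Finite G] (z : G) (hz : orderOf z = 2)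
    (Q0 : Subgroup (Subgroup.centralizer ({z} : Set G))) [hQ0n : Q0.Normal]
    (hF : Cfsg.generalizedFittingSubgroup (Subgroup.centralizer ({z} : Set G)) = Q0)
    (hQ : Cfsg.IsExtraspecial 2 Q0) (hcard : Nat.card Q0 = 2 ^ 5)
    (e : (Subgroup.centralizer ({z} : Set G)) ⧸ Q0 ≃*
      Cfsg.Omega (ZMod 2) (Cfsg.quadFormMinus 1 (ZMod 2) 1 1))
    (hnwc : ∃ g : G, (∃ hq : g * z * g⁻¹ ∈ Subgroup.centralizer ({z} : Set G),
      (⟨g * z * g⁻¹, hq⟩ : Subgroup.centralizer ({z} : Set G)) ∈ Q0) ∧ g * z * g⁻¹ ≠ z)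
    (hcl : ∃ x y : G, orderOf x = 2 ∧ orderOf y = 2 ∧ ¬ IsConj x y) :
    ∃ (Q : Subgroup G) (phi : ↥(Subgroup.centralizer ({z} : Set G)) →* Equiv.Perm (Fin 5))
      (u : Fin 5 → G),
      Q = Q0.map (Subgroup.centralizer ({z} : Set G)).subtype ∧ Facts z Q phi u := by
  obtain ⟨Q', psi, hQ', hD, hQ32, hQC, hQn, hself, hpsis, hpsik, hnwc'⟩ :=
    translate z hz Q0 hF hQ hcard e hnwc
  obtain ⟨phi, u, F⟩ := facts_of z hz Q' psi hD hQ32 hQC hQn hself hpsis hpsik hnwc' hcl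
  exact ⟨Q', phi, u, hQ', F⟩

end Cfsg.Agent.Lib.Helper8.J2
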