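import Mathlib
import Cfsg.Agent.Lib.Helper8.J2Base
import Cfsg.Agent.Lib.Helper8.HJ3

/-!
# Hall–Janko type (S1721), L1 and L4: minus type, fixed points of 5-elements, Sylow
-/

set_option autoImplicit false

namespace Cfsg.Agent.Lib.Helper8.J2
open Cfsg.Agent.Lib.Helper4.ES2
open Cfsg.Agent.Lib.Helper8.HJ

variable {G : Type*} [Group G]

/-- the fixed points on `Q` of an element with `g ^ 5 = 1` acting nontrivially -/
theorem fixed_eq [Finite G] {Q : Subgroup G} {z : G} (hD : Data Q z) (hQ : Nat.card Q = 32)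
    (g : G) (hg5 : g ^ 5 = 1) (hgQ : ∀ q ∈ Q, g * q * g⁻¹ ∈ Q) (hgz : g * z = z * g)
    (hnc : ¬ (∀ q ∈ Q, g * q * g⁻¹ = q)) : ∀ q ∈ Q, g * q * g⁻¹ = q → q = 1 ∨ q = z := by
  classical
  set F : Subgroup G := Q ⊓ Subgroup.centralizer ({g} : Set G) with hF
  have hmemF : ∀ x : G, x ∈ F ↔ x ∈ Q ∧ g * x * g⁻¹ = x := by
    intro x
    rw [hF, Subgroup.mem_inf, Subgroup.mem_centralizer_singleton_iff]
    constructor
    · rintro ⟨h1, h2⟩
      refine ⟨h1, ?_⟩
      rw [← h2]; group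
    · rintro ⟨h1, h2⟩
      refine ⟨h1, ?_⟩
      calc x * g = (g * x * g⁻¹) * g := by rw [h2]
        _ = g * x := by group
  have hzF : z ∈ F := by
    rw [hmemF]; refine ⟨hD.zQ, ?_⟩
    rw [hgz]; group
  have hcong := card_modEq_fixed (Q : Set G) g hg5 hgQ
  have hcardF : Nat.card {x : G // x ∈ (Q : Set G) ∧ g * x * g⁻¹ = x} = Nat.card F := by
    apply Nat.card_congr
    exact Equiv.subtypeEquivRight (fun x => by rw [hmemF]; rfl)
  rw [hcardF] at hcong
  have hQ' : Nat.card (Q : Set G) = 32 := hQ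
  rw [hQ'] at hcong
  have hdvd : Nat.card F ∣ 32 := by
    rw [← hQ]
    exact Subgroup.card_dvd_of_le inf_le_left
  have hF2 : Nat.card F = 2 := by
    have hle : Nat.card F ≤ 32 := Nat.le_of_dvd (by norm_num) hdvd
    have hmod : Nat.card F % 5 = 2 := by
      have := hcong
      unfold Nat.ModEq at this
      omega
    have h32 : Nat.card F ≠ 32 := by
      intro h
      apply hnc
      have hFQ : F = Q := by
        apply Subgroup.eq_of_le_of_card_ge inf_le_left
        rw [h, hQ]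
      intro q hq
      rw [← hFQ] at hq
      exact ((hmemF q).mp hq).2
    generalize Nat.card F = n at *
    interval_cases n <;> simp_all
  intro x hxQ hxg
  have hx : x ∈ F := (hmemF x).mpr ⟨hxQ, hxg⟩
  obtain ⟨y, hy, huniq⟩ := (Nat.card_eq_two_iff' (1 : F)).mp hF2
  by_cases h1 : x = 1
  · exact Or.inl h1
  · right
    have hx' : (⟨x, hx⟩ : F) = y := huniq _ (fun h => h1 (congrArg Subtype.val h))
    have hz' : (⟨z, hzF⟩ : F) = y := huniq _ (fun h => hD.z_ne (congrArg Subtype.val h))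
    have := hx'.trans hz'.symm
    exact congrArg Subtype.val this

section

variable [Finite G] {z : G} {Q : Subgroup G}
  {π : ↥(Subgroup.centralizer ({z} : Set G)) →* alternatingGroup (Fin 5)}

/-- elements of `Q` have order dividing 32 -/
theorem JSetup.pow32 (J : JSetup z Q π) {q : G} (hq : q ∈ Q) : q ^ 32 = 1 := by
  have h := pow_card_eq_one' (G := ↥Q) (x := ⟨q, hq⟩)
  rw [J.card] at h
  exact congrArg Subtype.val h

/-- an element of order 5 of `C` is not in `Q` -/
theorem JSetup.not_mem_of_order5 (J : JSetup z Q π) {g : G} (hg : orderOf g = 5) : g ∉ Q := by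
  intro hgQ
  have h1 := J.pow32 hgQ
  have h2 : orderOf g ∣ 32 := orderOf_dvd_of_pow_eq_one h1
  rw [hg] at h2
  norm_num at h2

/-- lifting elements of order 5 from `A₅` to elements of order 5 of `C` -/
theorem JSetup.lift5 (J : JSetup z Q π) (gb : alternatingGroup (Fin 5)) (hgb : orderOf gb = 5) :
    ∃ (g : G) (hg : g ∈ Subgroup.centralizer ({z} : Set G)), orderOf g = 5 ∧ π ⟨g, hg⟩ = gb := by
  obtain ⟨h, hh⟩ := J.surj gb
  have hgb5 : gb ^ 5 = 1 := by
    have := pow_orderOf_eq_one gb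
    rwa [hgb] at this
  have h5Q : ((h ^ 5 : ↥(Subgroup.centralizer ({z} : Set G))) : G) ∈ Q := by
    rw [← J.ker, map_pow, hh, hgb5]
  have h160 : h ^ 160 = 1 := by
    have := J.pow32 h5Q
    apply Subtype.ext
    rw [show (160 : ℕ) = 5 * 32 from rfl, pow_mul]
    simpa using this
  refine ⟨((h ^ 96 : ↥(Subgroup.centralizer ({z} : Set G))) : G), (h ^ 96).2, ?_, ?_⟩
  · have hπ : π (h ^ 96) = gb := by
      rw [map_pow, hh, show (96 : ℕ) = 5 * 19 + 1 from rfl, pow_add, pow_mul, hgb5, one_pow,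
        one_mul, pow_one]
    have hne : (h ^ 96) ≠ 1 := by
      intro h1
      rw [h1, map_one] at hπ
      rw [← hπ, orderOf_one] at hgb
      norm_num at hgb
    have hpow : (h ^ 96) ^ 5 = 1 := by
      rw [← pow_mul, show 96 * 5 = 160 * 3 from rfl, pow_mul, h160, one_pow]
    have hord : orderOf (h ^ 96) = 5 := by
      haveI : Fact (Nat.Prime 5) := ⟨by norm_num⟩
      exact orderOf_eq_prime hpow hne
    rw [← hord]
    exact (Subgroup.orderOf_coe (h ^ 96))
  · rw [map_pow, hh, show (96 : ℕ) = 5 * 19 + 1 from rfl, pow_add, pow_mul, hgb5, one_pow,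
      one_mul, pow_one]

/-- `C` contains an element of order 5 -/
theorem JSetup.exists5 (J : JSetup z Q π) :
    ∃ g ∈ Subgroup.centralizer ({z} : Set G), orderOf g = 5 := by
  haveI : Fact (Nat.Prime 5) := ⟨by norm_num⟩
  have hcard : Nat.card (alternatingGroup (Fin 5)) = 60 := by
    rw [Nat.card_eq_fintype_card]
    decide
  obtain ⟨gb, hgb⟩ := exists_prime_orderOf_dvd_card' (G := alternatingGroup (Fin 5)) 5
    (by rw [hcard]; norm_num)
  obtain ⟨g, hg, h1, _⟩ := J.lift5 gb hgb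
  exact ⟨g, hg, h1⟩

/-- (L1) minus type and fixed points of elements of order 5 -/
theorem L1 (J : JSetup z Q π) :
    invCount Q = 12 ∧ RkLE 2 Q ∧
    ∀ g ∈ Subgroup.centralizer ({z} : Set G), orderOf g = 5 →
      ∀ q ∈ Q, g * q * g⁻¹ = q → q = 1 ∨ q = z := by
  have key : ∀ g ∈ Subgroup.centralizer ({z} : Set G), orderOf g = 5 →
      (g ^ 5 = 1 ∧ (∀ q ∈ Q, g * q * g⁻¹ ∈ Q) ∧ g * z = z * g ∧
        ¬ (∀ q ∈ Q, g * q * g⁻¹ = q)) := by
    intro g hg hg5
    refine ⟨by have := pow_orderOf_eq_one g; rwa [hg5] at this, J.norm g hg, mem_C.mp hg, ?_⟩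
    intro hall
    exact J.not_mem_of_order5 hg5 (J.cent g hg hall)
  obtain ⟨g, hg, hg5⟩ := J.exists5
  obtain ⟨k1, k2, k3, k4⟩ := key g hg hg5
  obtain ⟨h1, h2⟩ := minus_type J.data J.card g k1 k2 k3 k4
  refine ⟨h1, h2, ?_⟩
  intro g' hg' hg5'
  obtain ⟨k1, k2, k3, k4⟩ := key g' hg' hg5'
  exact fixed_eq J.data J.card g' k1 k2 k3 k4

/-- (L4) every involution of `G` is conjugate into `C` -/
theorem L4 (J : JSetup z Q π) (x : G) (hx : orderOf x = 2) :
    ∃ y : G, y * x * y⁻¹ ∈ Subgroup.centralizer ({z} : Set G) := by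
  haveI : Fact (Nat.Prime 2) := ⟨Nat.prime_two⟩
  have hQp : IsPGroup 2 Q := J.data.isPGroup
  obtain ⟨P, hQP⟩ := hQp.exists_le_sylow
  -- the centre of `P` is `⟨z⟩`
  have hzP : z ∈ (P : Subgroup G) := hQP J.data.zQ
  have hPnt : Nontrivial (P : Subgroup G) :=
    ⟨⟨⟨z, hzP⟩, 1, fun h => J.data.z_ne (congrArg Subtype.val h)⟩⟩
  have hPfin : Finite (P : Subgroup G) := inferInstance
  obtain ⟨c, hc, hc1⟩ : ∃ c ∈ Subgroup.center (P : Subgroup G), c ≠ 1 := by
    have hnt : Nontrivial (Subgroup.center (P : Subgroup G)) := P.isPGroup'.center_nontrivial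
    obtain ⟨⟨c, hc⟩, hne⟩ := exists_ne (1 : Subgroup.center (P : Subgroup G))
    exact ⟨c, hc, fun h => hne (Subtype.ext h)⟩
  have hccomm : ∀ p ∈ (P : Subgroup G), (c : G) * p = p * c := by
    intro p hp
    have := Subgroup.mem_center_iff.mp hc ⟨p, hp⟩
    exact (congrArg Subtype.val this).symm
  have hcz : (c : G) = z := by
    have hcC : (c : G) ∈ Subgroup.centralizer ({z} : Set G) := mem_C.mpr (hccomm z hzP)
    have hcQ : (c : G) ∈ Q := by
      apply J.cent _ hcC
      intro q hq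
      rw [hccomm q (hQP hq), mul_assoc, mul_inv_cancel, mul_one]
    rcases J.data.center_sub _ hcQ (fun q hq => (hccomm q (hQP hq)).symm) with h | h
    · exact absurd (Subtype.ext h) hc1
    · exact h
  have hPC : (P : Subgroup G) ≤ Subgroup.centralizer ({z} : Set G) := by
    intro p hp
    rw [mem_C, ← hcz]
    exact (hccomm p hp).symm
  -- conjugate x into P
  have hxp : IsPGroup 2 (Subgroup.zpowers x) := by
    rw [IsPGroup.iff_card]
    refine ⟨1, ?_⟩
    rw [Nat.card_zpowers, hx, pow_one]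
  obtain ⟨P', hP'⟩ := hxp.exists_le_sylow
  obtain ⟨y, hy⟩ := MulAction.exists_smul_eq G P' P
  refine ⟨y, hPC ?_⟩
  rw [← hy]
  have h1 : y * x * y⁻¹ ∈ ((MulAut.conj y • P' : Sylow 2 G) : Subgroup G) := by
    rw [Sylow.pointwise_smul_def]
    have h2 := Subgroup.smul_mem_pointwise_smul x (MulAut.conj y) (P' : Subgroup G)
      (hP' (Subgroup.mem_zpowers x))
    simpa [MulAut.smul_def, MulAut.conj_apply] using h2
  exact h1

end

end Cfsg.Agent.Lib.Helper8.J2
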