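import Mathlib
import Cfsg.Prelude
import Cfsg.Agent.Lib.Helper8.J2Asm4
import Cfsg.Agent.Lib.Helper8.J2L1
import Cfsg.Agent.Lib.Helper9.J2Dg

/-! Exports of the `type J2` analysis for the follow-up statements (Sylow 3, 5, 7). -/

namespace Cfsg.Agent.Lib.Helper8.J2

open Cfsg.Agent.Lib.Helper4.ES2
open Cfsg.Agent.Lib.Helper7.HJa (ord2_iff)

variable {G : Type*} [Group G]

set_option maxRecDepth 100000 in
theorem perm_cent5 : ∀ σ τ : Equiv.Perm (Fin 5), σ ^ 5 = 1 → σ ≠ 1 → τ * σ = σ * τ →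
    τ ^ 4 = 1 → τ = 1 := by decide

/-- a `2`-element of `C_G(z)` centralizing an element of order `5` of `C_G(z)` is `1` or `z` -/
theorem Facts.five_cent [Finite G] {z : G} {Q : Subgroup G}
    {phi : ↥(Subgroup.centralizer ({z} : Set G)) →* Equiv.Perm (Fin 5)} {u : Fin 5 → G}
    (F : Facts z Q phi u) (f g : G) (hf : orderOf f = 5) (hfz : f * z = z * f)
    (hgz : g * z = z * g) (hgf : g * f = f * g) (hg4 : g ^ 4 = 1) : g = 1 ∨ g = z := by
  have hfC : f ∈ Subgroup.centralizer ({z} : Set G) := mem_C.2 hfz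
  have hgC : g ∈ Subgroup.centralizer ({z} : Set G) := mem_C.2 hgz
  have hf5 : f ^ 5 = 1 := by rw [← hf]; exact pow_orderOf_eq_one f
  have hfQ : f ∉ Q := by
    intro h
    have h32 : f ^ 32 = 1 := by
      have h1 : (⟨f, h⟩ : ↥Q) ^ 32 = 1 := by
        rw [← F.hQ]
        exact pow_card_eq_one'
      simpa using congrArg Subtype.val h1
    have := orderOf_dvd_of_pow_eq_one h32
    rw [hf] at this
    omega
  have hσ5 : (phi ⟨f, hfC⟩) ^ 5 = 1 := by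
    rw [← map_pow]
    have : (⟨f, hfC⟩ : ↥(Subgroup.centralizer ({z} : Set G))) ^ 5 = 1 := Subtype.ext (by simpa using hf5)
    rw [this, map_one]
  have hσ1 : phi ⟨f, hfC⟩ ≠ 1 := fun h => hfQ ((F.hker _).1 h)
  have hτ4 : (phi ⟨g, hgC⟩) ^ 4 = 1 := by
    rw [← map_pow]
    have : (⟨g, hgC⟩ : ↥(Subgroup.centralizer ({z} : Set G))) ^ 4 = 1 := Subtype.ext (by simpa using hg4)
    rw [this, map_one]
  have hcomm : phi ⟨g, hgC⟩ * phi ⟨f, hfC⟩ = phi ⟨f, hfC⟩ * phi ⟨g, hgC⟩ := by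
    rw [← map_mul, ← map_mul]
    congr 1
    exact Subtype.ext hgf
  have hτ1 := perm_cent5 _ _ hσ5 hσ1 hcomm hτ4
  have hgQ : g ∈ Q := (F.hker _).1 hτ1
  have hnc : ¬ (∀ q ∈ Q, f * q * f⁻¹ = q) := by
    intro h
    apply hfQ
    apply F.hself f hfC
    intro q hq
    have := h q hq
    calc f * q = f * q * f⁻¹ * f := by group
      _ = q * f := by rw [this]
  refine fixed_eq F.hD F.hQ f hf5 (fun q hq => F.hQn f hfC q hq) hfz hnc g hgQ ?_
  calc f * g * f⁻¹ = (g * f) * f⁻¹ := by rw [hgf]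
    _ = g := by group

/-- everything the Sylow-5 analysis needs: `|G|`, two classes, `C_G(t) = V0 × R1`,
`N_G(V0) = D × R1` -/
theorem Facts.exports [Finite G] {z : G} {Q : Subgroup G}
    {phi : ↥(Subgroup.centralizer ({z} : Set G)) →* Equiv.Perm (Fin 5)} {u : Fin 5 → G}
    (F : Facts z Q phi u) :
    ∃ (t : G) (V0 R1 D : Subgroup G),
      Nat.card G = 604800 ∧ orderOf z = 2 ∧ orderOf t = 2 ∧ ¬ IsConj z t ∧
      t ∈ Subgroup.centralizer ({z} : Set G) ∧ t ∉ Q ∧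
      (∀ s : G, orderOf s = 2 → IsConj s z ∨ IsConj s t) ∧
      (∀ f g : G, orderOf f = 5 → f * z = z * f → g * z = z * g → g * f = f * g → g ^ 4 = 1 →
        g = 1 ∨ g = z) ∧
      Cfsg.IsInternalDirectProduct V0 R1 (Subgroup.centralizer ({t} : Set G)) ∧
      Nat.card V0 = 4 ∧ t ∈ V0 ∧ Nonempty (↥R1 ≃* alternatingGroup (Fin 5)) ∧
      (∀ t1 ∈ V0, t1 ≠ 1 → ∃ c : G, c * t * c⁻¹ = t1) ∧
      (∀ x ∈ R1, orderOf x = 2 → IsConj x z) ∧
      (∀ x ∈ Subgroup.centralizer ({t} : Set G), orderOf x = 2 → x ∉ R1 → IsConj x t) ∧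
      z ∈ R1 ∧
      Cfsg.IsInternalDirectProduct D R1 (Subgroup.normalizer (V0 : Set G)) ∧
      V0 ≤ D ∧ Nat.card D = 12 ∧
      (∀ t1 ∈ V0, t1 ≠ 1 →
        Subgroup.centralizer ({t1} : Set G) = Subgroup.centralizer ({t} : Set G)) ∧
      Nonempty (↥D ≃* alternatingGroup (Fin 4)) := by
  obtain ⟨t, htC, htQ, ht⟩ := F.hex
  obtain ⟨hzt, hcl, _⟩ := F.hI t htC htQ ht
  obtain ⟨V, B, hVB, hV4, htV, hB5, hfuse, hBz, hCt, hzB, hG⟩ := per_t F t htC htQ ht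
  obtain ⟨D, hD1, hD2, hD3, hD4, hD5⟩ :=
    Cfsg.Agent.Lib.Helper9.J2D.partD_export t ht V B hVB hV4 htV hB5 hfuse
  exact ⟨t, V, B, D, hG, F.hz, ht, hzt, htC, htQ, hcl, F.five_cent, hVB, hV4, htV, hB5, hfuse,
    hBz, hCt, hzB, hD1, hD2, hD3, hD4, hD5⟩

end Cfsg.Agent.Lib.Helper8.J2
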