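import Mathlib

/-!
# Unit SIMPLE of farm J2S (S5403, owner helper9)

A group of order `604800` whose commutator subgroup has order divisible by `2^7 * 3^3`, with
self-centralising Sylow `7`- and `5`-subgroups and `|N(P_7)| = 42`, is simple.
-/

set_option autoImplicit false

namespace Cfsg.Agent.Lib.Helper8.J2SSIMPLE

open MulAction

/-- A `p`-subgroup `P` normalising a finite subgroup `S`, with `C_S(P) = 1`: `|S| ≡ 1 mod p`. -/
theorem card_modEq_one_of_fpf {G : Type*} [Group G] {p : ℕ} [Fact p.Prime]
    (P S : Subgroup G) [Finite S] (hP : IsPGroup p P)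
    (hnorm : ∀ g ∈ P, ∀ s ∈ S, g * s * g⁻¹ ∈ S)
    (hfix : ∀ s ∈ S, (∀ g ∈ P, g * s = s * g) → s = 1) :
    Nat.card S ≡ 1 [MOD p] := by
  let act : MulAction P S :=
    { smul := fun g s => ⟨(g : G) * s * (g : G)⁻¹, hnorm g g.2 s s.2⟩
      one_smul := fun s => by
        apply Subtype.ext
        show ((1 : P) : G) * s * ((1 : P) : G)⁻¹ = s
        simp
      mul_smul := fun g h s => by
        apply Subtype.ext
        show ((g * h : P) : G) * s * ((g * h : P) : G)⁻¹ = (g : G) * ((h : G) * s * (h : G)⁻¹) * (g : G)⁻¹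
        simp [mul_assoc] }
  have hsm : ∀ (g : P) (s : S), ((g • s : S) : G) = (g : G) * s * (g : G)⁻¹ := fun _ _ => rfl
  have h1 := hP.card_modEq_card_fixedPoints (α := S)
  have hfp : fixedPoints P S = {1} := by
    ext s
    simp only [mem_fixedPoints, Set.mem_singleton_iff]
    constructor
    · intro h
      apply Subtype.ext
      apply hfix s s.2
      intro g hg
      have := congrArg Subtype.val (h ⟨g, hg⟩)
      rw [hsm] at this
      simp only at this
      calc g * s = g * s * g⁻¹ * g := by group
        _ = s * g := by rw [this]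
    · rintro rfl g
      apply Subtype.ext
      rw [hsm]
      simp
  rw [hfp] at h1
  simpa using h1


/-- A nontrivial group of order dividing `6` has a normal subgroup of index `2` or `3`. -/
theorem exists_normal_index_two_or_three {Q : Type*} [Group Q] [Finite Q]
    (h6 : Nat.card Q ∣ 6) (h1 : Nat.card Q ≠ 1) :
    ∃ H : Subgroup Q, H.Normal ∧ (H.index = 2 ∨ H.index = 3) := by
  have hle : Nat.card Q ≤ 6 := Nat.le_of_dvd (by norm_num) h6
  have hpos : 0 < Nat.card Q := Nat.card_pos
  have hbot : (⊥ : Subgroup Q).index = Nat.card Q := Subgroup.index_bot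
  have hcases : Nat.card Q = 2 ∨ Nat.card Q = 3 ∨ Nat.card Q = 6 := by
    interval_cases h : Nat.card Q <;> simp_all
  rcases hcases with h | h | h
  · exact ⟨⊥, inferInstance, Or.inl (hbot.trans h)⟩
  · exact ⟨⊥, inferInstance, Or.inr (hbot.trans h)⟩
  · have : Fact (Nat.Prime 3) := ⟨by norm_num⟩
    obtain ⟨x, hx⟩ := exists_prime_orderOf_dvd_card' (G := Q) 3 (by rw [h]; norm_num)
    have hc : Nat.card (Subgroup.zpowers x) = 3 := by rw [Nat.card_zpowers, hx]
    have hi : (Subgroup.zpowers x).index = 2 := by
      have := Subgroup.card_mul_index (Subgroup.zpowers x)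
      rw [hc, h] at this
      omega
    exact ⟨Subgroup.zpowers x, Subgroup.normal_of_index_eq_two hi, Or.inl hi⟩

/-- In a group of order `604800`, a Sylow `7`-subgroup has order `7`. -/
theorem card_sylow_seven {G : Type*} [Group G] [Finite G] (hcard : Nat.card G = 604800)
    (P : Sylow 7 G) : Nat.card P = 7 := by
  have : Fact (Nat.Prime 7) := ⟨by norm_num⟩
  obtain ⟨k, hk⟩ := IsPGroup.iff_card.mp P.2
  have h7 : 7 ∣ Nat.card P := P.dvd_card_of_dvd_card (by rw [hcard]; norm_num)
  have hdvd : Nat.card P ∣ 604800 := hcard ▸ Subgroup.card_subgroup_dvd_card _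
  rw [hk] at h7 hdvd ⊢
  rcases k with _ | _ | k
  · norm_num at h7
  · norm_num
  · exfalso
    have : 49 ∣ 604800 := dvd_trans ⟨7 ^ k, by ring⟩ hdvd
    norm_num at this

/-- In a group of order `604800`, a subgroup of order `7` is a Sylow `7`-subgroup. -/
theorem exists_sylow_eq_of_card_seven {G : Type*} [Group G] [Finite G]
    (hcard : Nat.card G = 604800) (P : Subgroup G) (hP : Nat.card P = 7) :
    ∃ Q : Sylow 7 G, (Q : Subgroup G) = P := by
  have : Fact (Nat.Prime 7) := ⟨by norm_num⟩
  have hp : IsPGroup 7 P := IsPGroup.of_card (n := 1) (by rw [hP]; norm_num)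
  obtain ⟨Q, hQ⟩ := hp.exists_le_sylow
  refine ⟨Q, (Subgroup.eq_of_le_of_card_ge hQ ?_).symm⟩
  rw [card_sylow_seven hcard Q, hP]


/-- Unit SIMPLE. -/
theorem simple_of_local {G : Type*} [Group G] [Finite G]
    (hcard : Nat.card G = 604800)
    (hc2 : 2 ^ 7 ∣ Nat.card ↥(commutator G)) (hc3 : 3 ^ 3 ∣ Nat.card ↥(commutator G))
    (h7 : ∀ P : Sylow 7 G, Subgroup.centralizer ((P : Subgroup G) : Set G) = P ∧
      Nat.card (Subgroup.normalizer ((P : Subgroup G) : Set G)) = 42)
    (h5 : ∀ P : Sylow 5 G, Subgroup.centralizer ((P : Subgroup G) : Set G) = P) :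
    IsSimpleGroup G := by
  have hp7 : Fact (Nat.Prime 7) := ⟨by norm_num⟩
  have hp5 : Fact (Nat.Prime 5) := ⟨by norm_num⟩
  have hp3 : Fact (Nat.Prime 3) := ⟨by norm_num⟩
  have hp2 : Fact (Nat.Prime 2) := ⟨by norm_num⟩
  have hnt : Nontrivial G := by
    apply Finite.one_lt_card_iff_nontrivial.mp
    rw [hcard]; norm_num
  -- subgroups of order 7 are self-centralising with normaliser of order 42
  have hZ7 : ∀ P : Subgroup G, Nat.card P = 7 →
      Subgroup.centralizer (P : Set G) = P ∧ Nat.card (Subgroup.normalizer (P : Set G)) = 42 := by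
    intro P hP
    obtain ⟨Q, rfl⟩ := exists_sylow_eq_of_card_seven hcard P hP
    exact h7 Q
  refine ⟨fun N hN => ?_⟩
  by_contra hcon
  push Not at hcon
  obtain ⟨hbot, htop⟩ := hcon
  have hNdvd : Nat.card N ∣ 604800 := hcard ▸ Subgroup.card_subgroup_dvd_card N
  by_cases h7N : 7 ∣ Nat.card N
  · -- Case A: Frattini
    let PN : Sylow 7 N := default
    set P' : Subgroup G := (PN : Subgroup N).map N.subtype with hP'
    have hP'N : P' ≤ N := Subgroup.map_subtype_le _
    have hP'card : Nat.card P' = 7 := by
      have e1 : Nat.card P' = Nat.card PN :=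
        Subgroup.card_map_of_injective N.subtype_injective
      obtain ⟨k, hk⟩ := IsPGroup.iff_card.mp PN.2
      have hd7 : 7 ∣ Nat.card PN := PN.dvd_card_of_dvd_card h7N
      have hdvd : Nat.card P' ∣ 604800 := hcard ▸ Subgroup.card_subgroup_dvd_card P'
      rw [e1]
      rw [e1, hk] at hdvd
      rw [hk] at hd7 ⊢
      rcases k with _ | _ | k
      · norm_num at hd7
      · norm_num
      · exfalso
        have : 49 ∣ 604800 := dvd_trans ⟨7 ^ k, by ring⟩ hdvd
        norm_num at this
    obtain ⟨-, hM42⟩ := hZ7 P' hP'card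
    set M : Subgroup G := Subgroup.normalizer (P' : Set G) with hM
    have hfr : M ⊔ N = ⊤ := Sylow.normalizer_sup_eq_top PN
    have hP'M : P' ≤ M := Subgroup.le_normalizer
    -- the index of `N` divides 6
    have hidx : N.index ∣ 6 := by
      have e1 : N.relIndex (M ⊔ N) = N.relIndex M := Subgroup.relIndex_sup_right M N
      rw [hfr, Subgroup.relIndex_top_right] at e1
      rw [e1]
      have e2 : N.relIndex M ∣ P'.relIndex M := Subgroup.relIndex_dvd_of_le_left M hP'N
      refine dvd_trans e2 ?_
      have e3 := Subgroup.card_mul_index (P'.subgroupOf M)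
      have e4 : Nat.card (P'.subgroupOf M) = Nat.card P' :=
        Nat.card_congr (Subgroup.subgroupOfEquivOfLe hP'M).toEquiv
      rw [e4, hP'card, hM42] at e3
      have : (P'.subgroupOf M).index = 6 := by omega
      rw [Subgroup.relIndex, this]
    have hidx1 : N.index ≠ 1 := fun h => htop (Subgroup.index_eq_one.mp h)
    -- a normal subgroup of index 2 or 3 above `N`
    have hQcard : Nat.card (G ⧸ N) = N.index := (Subgroup.index_eq_card N).symm
    obtain ⟨H, hHn, hHi⟩ := exists_normal_index_two_or_three (Q := G ⧸ N)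
      (by rw [hQcard]; exact hidx) (by rw [hQcard]; exact hidx1)
    set M2 : Subgroup G := H.comap (QuotientGroup.mk' N) with hM2
    have hM2n : M2.Normal := hHn.comap _
    have hM2i : M2.index = H.index :=
      Subgroup.index_comap_of_surjective H (QuotientGroup.mk'_surjective N)
    have hcomm : commutator G ≤ M2 := by
      rw [← Subgroup.Normal.quotient_commutative_iff_commutator_le]
      have hc : Nat.card (G ⧸ M2) = M2.index := (Subgroup.index_eq_card M2).symm
      rcases hHi with h | h
      · have : IsCyclic (G ⧸ M2) := isCyclic_of_prime_card (p := 2) (by rw [hc, hM2i, h])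
        infer_instance
      · have : IsCyclic (G ⧸ M2) := isCyclic_of_prime_card (p := 3) (by rw [hc, hM2i, h])
        infer_instance
    have hd1 : Nat.card (commutator G) ∣ Nat.card M2 := Subgroup.card_dvd_of_le hcomm
    have hd2 := Subgroup.card_mul_index M2
    rw [hcard, hM2i] at hd2
    rcases hHi with h | h
    · rw [h] at hd2
      have : Nat.card M2 = 302400 := by omega
      rw [this] at hd1
      have := dvd_trans hc2 hd1
      norm_num at this
    · rw [h] at hd2
      have : Nat.card M2 = 201600 := by omega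
      rw [this] at hd1
      have := dvd_trans hc3 hd1
      norm_num at this
  · -- Case B
    -- a subgroup of order 7 acts without fixed points on the subgroups of `N` it normalises
    have hB1 : ∀ (P S : Subgroup G), Nat.card P = 7 → S ≤ N →
        (∀ g ∈ P, ∀ s ∈ S, g * s * g⁻¹ ∈ S) → Nat.card S ≡ 1 [MOD 7] := by
      intro P S hP hSN hnorm
      have hpg : IsPGroup 7 P := IsPGroup.of_card (n := 1) (by rw [hP]; norm_num)
      refine card_modEq_one_of_fpf P S hpg hnorm ?_
      intro s hs hcomm
      by_contra hs1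
      have hsC : s ∈ Subgroup.centralizer (P : Set G) := by
        rw [Subgroup.mem_centralizer_iff]
        intro g hg
        exact hcomm g hg
      rw [(hZ7 P hP).1] at hsC
      have ho : orderOf s ∣ 7 := by
        have := orderOf_dvd_natCard (⟨s, hsC⟩ : P)
        rw [hP] at this
        rwa [Subgroup.orderOf_mk] at this
      have ho7 : orderOf s = 7 := by
        rcases (Nat.dvd_prime (by norm_num)).mp ho with h | h
        · exact absurd (orderOf_eq_one_iff.mp h) hs1
        · exact h
      apply h7N
      have := orderOf_dvd_natCard (⟨s, hSN hs⟩ : N)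
      rw [Subgroup.orderOf_mk, ho7] at this
      exact this
    -- Sylow subgroups of `N` have order `≡ 1 mod 7`
    have hB2 : ∀ (p : ℕ) [Fact p.Prime] (S : Sylow p N), Nat.card S ≡ 1 [MOD 7] := by
      intro p _ S
      set S' : Subgroup G := (S : Subgroup N).map N.subtype with hS'
      have hS'N : S' ≤ N := Subgroup.map_subtype_le _
      have e1 : Nat.card S' = Nat.card S := Subgroup.card_map_of_injective N.subtype_injective
      set M : Subgroup G := Subgroup.normalizer (S' : Set G) with hM
      have hfr : M ⊔ N = ⊤ := Sylow.normalizer_sup_eq_top S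
      have hidx : N.relIndex M = N.index := by
        have e := Subgroup.relIndex_sup_right M N
        rw [hfr, Subgroup.relIndex_top_right] at e
        exact e.symm
      have h7idx : 7 ∣ N.index := by
        have := Subgroup.card_mul_index N
        rw [hcard] at this
        have h7 : 7 ∣ Nat.card N * N.index := by rw [this]; norm_num
        exact ((Nat.Prime.dvd_mul (by norm_num)).mp h7).resolve_left h7N
      have h7M : 7 ∣ Nat.card M := dvd_trans (hidx ▸ h7idx) (Subgroup.relIndex_dvd_card N M)
      obtain ⟨x, hx⟩ := exists_prime_orderOf_dvd_card' (G := M) 7 h7M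
      set P : Subgroup G := Subgroup.zpowers (x : G) with hP
      have hPcard : Nat.card P = 7 := by rw [Nat.card_zpowers, Subgroup.orderOf_coe, hx]
      have hPM : P ≤ M := by rw [hP, Subgroup.zpowers_le]; exact x.2
      rw [← e1]
      apply hB1 P S' hPcard hS'N
      intro g hg s hs
      exact (Subgroup.mem_normalizer_iff.mp (hPM hg) s).mp hs
    -- primes whose powers are never `≡ 1 mod 7` do not divide `|N|`
    have hno : ∀ (p : ℕ) [Fact p.Prime],
        (∀ k, 1 ≤ k → p ^ k ∣ 604800 → p ^ k % 7 ≠ 1) → ¬ p ∣ Nat.card N := by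
      intro p hp hpk hpN
      let S : Sylow p N := default
      obtain ⟨k, hk⟩ := IsPGroup.iff_card.mp S.2
      have hd : p ∣ Nat.card S := S.dvd_card_of_dvd_card hpN
      have h1 := hB2 p S
      rw [hk] at hd h1
      have hk1 : 1 ≤ k := by
        rcases k with _ | k
        · simp only [pow_zero, Nat.dvd_one] at hd
          exact absurd hd hp.out.ne_one
        · omega
      have hdvd : p ^ k ∣ 604800 := by
        rw [← hk]; exact dvd_trans (Subgroup.card_subgroup_dvd_card _) hNdvd
      exact hpk k hk1 hdvd h1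
    have h3N : ¬ 3 ∣ Nat.card N := by
      apply hno 3
      intro k hk hd
      have hk3 : k ≤ 3 := by
        by_contra hlt
        push Not at hlt
        have : 3 ^ 4 ∣ 604800 := dvd_trans (pow_dvd_pow 3 hlt) hd
        norm_num at this
      interval_cases k <;> norm_num
    have h5N : ¬ 5 ∣ Nat.card N := by
      apply hno 5
      intro k hk hd
      have hk3 : k ≤ 2 := by
        by_contra hlt
        push Not at hlt
        have : 5 ^ 3 ∣ 604800 := dvd_trans (pow_dvd_pow 5 hlt) hd
        norm_num at this
      interval_cases k <;> norm_num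
    -- `N` is a 2-group
    have hcop : Nat.Coprime (Nat.card N) 4725 := by
      have e : (4725 : ℕ) = 3 ^ 3 * 5 ^ 2 * 7 := by norm_num
      rw [e]
      refine Nat.Coprime.mul_right (Nat.Coprime.mul_right ?_ ?_) ?_
      · exact Nat.Coprime.pow_right _ ((Nat.Prime.coprime_iff_not_dvd (by norm_num)).mpr h3N).symm
      · exact Nat.Coprime.pow_right _ ((Nat.Prime.coprime_iff_not_dvd (by norm_num)).mpr h5N).symm
      · exact ((Nat.Prime.coprime_iff_not_dvd (by norm_num)).mpr h7N).symm
    have h2pow : Nat.card N ∣ 2 ^ 7 := by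
      apply Nat.Coprime.dvd_of_dvd_mul_right hcop
      have : (2 : ℕ) ^ 7 * 4725 = 604800 := by norm_num
      rw [this]; exact hNdvd
    obtain ⟨m, hm7, hm⟩ := (Nat.dvd_prime_pow Nat.prime_two).mp h2pow
    -- congruences
    have hN7 : Nat.card N ≡ 1 [MOD 7] := by
      let P0 : Sylow 7 G := default
      exact hB1 P0 N (card_sylow_seven hcard P0) le_rfl (fun g _ s hs => hN.conj_mem s hs g)
    have hN5 : Nat.card N ≡ 1 [MOD 5] := by
      let P0 : Sylow 5 G := default
      refine card_modEq_one_of_fpf (P0 : Subgroup G) N P0.2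
        (fun g _ s hs => hN.conj_mem s hs g) ?_
      intro s hs hcomm
      have hsC : s ∈ Subgroup.centralizer ((P0 : Subgroup G) : Set G) := by
        rw [Subgroup.mem_centralizer_iff]
        intro g hg
        exact hcomm g hg
      rw [h5 P0] at hsC
      obtain ⟨k, hk⟩ := P0.2 ⟨s, hsC⟩
      have hk' : s ^ 5 ^ k = 1 := by
        have := congrArg Subtype.val hk
        simpa using this
      have hm' : s ^ 2 ^ m = 1 := by
        have := pow_card_eq_one' (G := N) (x := ⟨s, hs⟩)
        rw [hm] at this
        have := congrArg Subtype.val this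
        simpa using this
      have ho1 : orderOf s ∣ 5 ^ k := orderOf_dvd_of_pow_eq_one hk'
      have ho2 : orderOf s ∣ 2 ^ m := orderOf_dvd_of_pow_eq_one hm'
      have hc : Nat.Coprime (5 ^ k) (2 ^ m) := Nat.Coprime.pow _ _ (by norm_num)
      have : orderOf s ∣ 1 := hc ▸ Nat.dvd_gcd ho1 ho2
      exact orderOf_eq_one_iff.mp (Nat.dvd_one.mp this)
    have hN1 : Nat.card N ≠ 1 := fun h => hbot (Subgroup.card_eq_one.mp h)
    rw [hm] at hN7 hN5 hN1
    unfold Nat.ModEq at hN7 hN5
    interval_cases m <;> simp_all

end Cfsg.Agent.Lib.Helper8.J2SSIMPLE
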