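import Cfsg.Agent.Lib.Helper8.Sh1

set_option autoImplicit false
set_option linter.unusedSectionVars false
set_option linter.unusedVariables false

/-! Sharply multiply transitive groups: a sharply 5-transitive group of degree 12 is simple. -/

namespace Cfsg.Agent.Lib.Helper8.Sh

open MulAction Subgroup

variable {G : Type*} [Group G] {α : Type*} [MulAction G α]

theorem IsSharp.stabilizer {k : ℕ} (h : IsSharp G α (k + 1)) [IsPretransitive G α] (a : α) :
    IsSharp (stabilizer G a) (SubMulAction.ofStabilizer G a) k := by
  refine ⟨(SubMulAction.ofStabilizer.isMultiplyPretransitive (n := k) (a := a)).mp h.1, ?_⟩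
  intro x
  rw [eq_bot_iff]
  intro g hg
  rw [Subgroup.mem_bot]
  apply Subtype.ext
  have hmem : (g : G) ∈ MulAction.stabilizer G (SubMulAction.ofStabilizer.snoc x) := by
    rw [mem_stabilizer_iff]
    ext i
    rcases Fin.eq_castSucc_or_eq_last i with ⟨i, rfl⟩ | rfl
    · rw [Function.Embedding.smul_apply, SubMulAction.ofStabilizer.snoc_castSucc]
      have := congrArg (fun y : Fin k ↪ SubMulAction.ofStabilizer G a =>
        ((y i : SubMulAction.ofStabilizer G a) : α)) (mem_stabilizer_iff.mp hg)
      exact this
    · rw [Function.Embedding.smul_apply, SubMulAction.ofStabilizer.snoc_last]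
      exact g.2
  rw [h.2] at hmem
  exact Subgroup.mem_bot.mp hmem

variable [Finite G] [Finite α]

/-- A sharply 5-transitive group of degree 12 is simple. -/
theorem simple_of_sharp5 (h : IsSharp G α 5) (hα : Nat.card α = 12) : IsSimpleGroup G := by
  have hG : Nat.card G = 95040 := by
    rw [h.card_eq (by omega), hα]
    rfl
  haveI : Nontrivial G := by
    rw [← Finite.one_lt_card_iff_nontrivial, hG]
    norm_num
  refine ⟨fun N hNn => ?_⟩
  haveI := hNn
  by_cases hN : N = ⊥
  · exact Or.inl hN
  right
  haveI : IsPretransitive N α := h.normal_pretransitive (by omega) (by omega) N hN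
  haveI : IsPretransitive G α := by
    haveI := h.1
    exact isPretransitive_of_is_two_pretransitive
      (h2 := isMultiplyPretransitive_of_le (n := 5) (m := 2) (by omega) (by omega))
  haveI : Nonempty α := by
    rw [← Finite.card_pos_iff, hα]
    norm_num
  obtain ⟨a⟩ := ‹Nonempty α›
  have hS := h.stabilizer a
  have hX : Nat.card (SubMulAction.ofStabilizer G a) = 11 := by
    rw [SubMulAction.nat_card_ofStabilizer_eq, hα]
  haveI : Finite (SubMulAction.ofStabilizer G a) := Nat.finite_of_card_ne_zero (by omega)
  haveI : IsSimpleGroup (MulAction.stabilizer G a) := simple_of_sharp4 hS hX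
  haveI : (N.subgroupOf (MulAction.stabilizer G a)).Normal := inferInstance
  rcases Subgroup.Normal.eq_bot_or_eq_top (inferInstance : (N.subgroupOf (MulAction.stabilizer G a)).Normal) with hb | ht
  · exfalso
    have hreg : ∀ n : G, n ∈ N → n • a = a → n = 1 := by
      intro n hn hna
      have hmem : (⟨n, hna⟩ : MulAction.stabilizer G a) ∈
          N.subgroupOf (MulAction.stabilizer G a) := hn
      rw [hb] at hmem
      exact congrArg Subtype.val (Subgroup.mem_bot.mp hmem)
    have h12 : 12 ∣ Nat.card N := by
      have h1 := index_stabilizer_of_transitive N a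
      rw [hα] at h1
      rw [← h1]
      exact Subgroup.index_dvd_card _
    haveI : Fact (Nat.Prime 2) := ⟨Nat.prime_two⟩
    haveI : Fact (Nat.Prime 3) := ⟨Nat.prime_three⟩
    obtain ⟨u, hu⟩ := exists_prime_orderOf_dvd_card' 2 (Dvd.dvd.trans (by norm_num) h12)
    obtain ⟨v, hv⟩ := exists_prime_orderOf_dvd_card' 3 (Dvd.dvd.trans (by norm_num) h12)
    have huo : orderOf (u : G) = 2 := by rw [Subgroup.orderOf_coe, hu]
    have hvo : orderOf (v : G) = 3 := by rw [Subgroup.orderOf_coe, hv]
    have hua : (u : G) • a ≠ a := by
      intro hcon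
      have := hreg _ u.2 hcon
      rw [this, orderOf_one] at huo
      omega
    have hva : (v : G) • a ≠ a := by
      intro hcon
      have := hreg _ v.2 hcon
      rw [this, orderOf_one] at hvo
      omega
    haveI : IsPretransitive (MulAction.stabilizer G a) (SubMulAction.ofStabilizer G a) := by
      haveI := hS.1
      exact isPretransitive_of_is_two_pretransitive
        (h2 := isMultiplyPretransitive_of_le (n := 4) (m := 2) (by omega) (by omega))
    obtain ⟨g, hg⟩ := exists_smul_eq (MulAction.stabilizer G a)
      (⟨(u : G) • a, (SubMulAction.mem_ofStabilizer_iff G a).mpr hua⟩ :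
        SubMulAction.ofStabilizer G a)
      ⟨(v : G) • a, (SubMulAction.mem_ofStabilizer_iff G a).mpr hva⟩
    have hg' : (g : G) • ((u : G) • a) = (v : G) • a := congrArg Subtype.val hg
    have hga : (g : G)⁻¹ • a = a := by
      rw [inv_smul_eq_iff]
      exact g.2.symm
    have h1 : ((g : G) * u * (g : G)⁻¹) • a = (v : G) • a := by
      rw [mul_smul, mul_smul, hga, hg']
    have h2 : (v : G)⁻¹ * ((g : G) * u * (g : G)⁻¹) = 1 := by
      apply hreg
      · exact N.mul_mem (N.inv_mem v.2) (hNn.conj_mem u u.2 g)
      · rw [mul_smul, h1, inv_smul_smul]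
    have h3 : (g : G) * u * (g : G)⁻¹ = v := by
      rw [inv_mul_eq_one] at h2
      exact h2.symm
    have h4 : orderOf ((g : G) * u * (g : G)⁻¹) = 2 := by
      rw [← MulAut.conj_apply, MulEquiv.orderOf_eq, huo]
    rw [h3, hvo] at h4
    omega
  · rw [eq_top_iff]
    intro g _
    obtain ⟨n, hn⟩ := exists_smul_eq N (g • a) a
    have hn' : ((n : G) * g) • a = a := by
      rw [mul_smul]
      exact hn
    have hmem : (⟨(n : G) * g, hn'⟩ : MulAction.stabilizer G a) ∈
        N.subgroupOf (MulAction.stabilizer G a) := by
      rw [ht]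
      exact Subgroup.mem_top _
    have hmem' : (n : G) * g ∈ N := hmem
    have := N.mul_mem (N.inv_mem n.2) hmem'
    rwa [inv_mul_cancel_left] at this

end Cfsg.Agent.Lib.Helper8.Sh
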