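import Cfsg.Agent.Lib.Helper8.W6
import Cfsg.Agent.Lib.Helper8.Sh2

set_option autoImplicit false
set_option linter.unusedSectionVars false
set_option linter.unusedVariables false

/-! The automorphism group of an S(5,6,12) is sharply 5-transitive, simple, of order 95040. -/

namespace Cfsg.Agent.Lib.Helper8.W

open Finset MulAction

variable {α : Type*} [Fintype α] [DecidableEq α]

theorem aut_isSharp (hα : Fintype.card α = 12) {B : Set (Finset α)}
    (hB : Cfsg.IsSteinerSystem 5 6 B) :
    Cfsg.Agent.Lib.Helper8.Sh.IsSharp (Cfsg.setSystemAut B) α 5 := by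
  constructor
  · refine ⟨fun x y => ?_⟩
    obtain ⟨g, hg, hxy⟩ := aut_trans hα hB x y
    refine ⟨⟨g, hg⟩, ?_⟩
    ext i
    exact hxy i
  · intro x
    rw [eq_bot_iff]
    intro g hg
    rw [Subgroup.mem_bot]
    apply Subtype.ext
    apply aut_sharp hα hB x g.1 g.2
    intro i
    have := congrArg (fun y : Fin 5 ↪ α => y i) (mem_stabilizer_iff.mp hg)
    exact this

theorem aut_simple (hα : Fintype.card α = 12) {B : Set (Finset α)}
    (hB : Cfsg.IsSteinerSystem 5 6 B) : IsSimpleGroup (Cfsg.setSystemAut B) :=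
  Cfsg.Agent.Lib.Helper8.Sh.simple_of_sharp5 (aut_isSharp hα hB)
    (by rw [Nat.card_eq_fintype_card, hα])

theorem aut_card (hα : Fintype.card α = 12) {B : Set (Finset α)}
    (hB : Cfsg.IsSteinerSystem 5 6 B) : Nat.card (Cfsg.setSystemAut B) = 95040 := by
  rw [(aut_isSharp hα hB).card_eq (by rw [Nat.card_eq_fintype_card, hα]; norm_num),
    Nat.card_eq_fintype_card, hα]
  rfl

end Cfsg.Agent.Lib.Helper8.W
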