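import Cfsg.Agent.Lib.Helper8.W5
import Cfsg.Agent.Lib.Helper8.W7

set_option autoImplicit false
set_option linter.unusedSectionVars false
set_option linter.unusedVariables false

/-! The automorphism group of an S(4,5,11) is sharply 4-transitive, simple, of order 7920. -/

namespace Cfsg.Agent.Lib.Helper8.W

open Finset MulAction Cfsg.Agent.Lib.Helper2.S22

section

variable {α : Type*} {β : Type*} [Fintype α] [DecidableEq α] [Fintype β] [DecidableEq β]

/-- an isomorphism of the extended systems fixing the new point restricts to an isomorphism. -/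
theorem restrict_image {D : Set (Finset α)} {D' : Set (Finset β)} (e : Option α ≃ Option β)
    (he0 : e none = none)
    (heE : (fun b : Finset (Option α) => b.image e) '' extSys D = extSys D') :
    (∀ a, e (some a) = some (e.removeNone a)) ∧
      (fun b : Finset α => b.image e.removeNone) '' D = D' := by
  have hsome : ∀ a, ∃ b, e (some a) = some b := by
    intro a
    rcases h : e (some a) with _ | b
    · exfalso
      rw [← he0] at h
      exact Option.some_ne_none a (e.injective h)
    · exact ⟨b, rfl⟩
  have hf : ∀ a, e (some a) = some (e.removeNone a) := fun a =>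
    (Equiv.removeNone_some e (hsome a)).symm
  refine ⟨hf, ?_⟩
  ext b'
  constructor
  · rintro ⟨b, hb, rfl⟩
    have h1 : insertNone b ∈ extSys D :=
      Or.inl ⟨none_mem_insertNone, by rw [eraseNone_insertNone]; exact hb⟩
    have h2 : (insertNone b).image e ∈ extSys D' := by
      rw [← heE]
      exact ⟨_, h1, rfl⟩
    rw [image_insertNone e _ he0 hf] at h2
    rcases h2 with ⟨-, h3⟩ | ⟨h3, -⟩
    · rw [eraseNone_insertNone] at h3
      exact h3
    · exact absurd none_mem_insertNone h3
  · intro hb'
    have h1 : insertNone b' ∈ extSys D' :=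
      Or.inl ⟨none_mem_insertNone, by rw [eraseNone_insertNone]; exact hb'⟩
    rw [← heE] at h1
    obtain ⟨c, hc, hce⟩ := h1
    have hce' : c.image e = insertNone b' := hce
    have hnc : none ∈ c := by
      have : none ∈ c.image e := by rw [hce']; exact none_mem_insertNone
      obtain ⟨x, hx, hxe⟩ := mem_image.mp this
      rw [← he0] at hxe
      rw [← e.injective hxe]
      exact hx
    rcases hc with ⟨-, hc⟩ | ⟨hc, -⟩
    · refine ⟨eraseNone c, hc, ?_⟩
      apply insertNone.injective
      rw [← image_insertNone e _ he0 hf, insertNone_eraseNone, insert_eq_of_mem hnc]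
      exact hce'
    · exact absurd hnc hc

theorem image_compl_equiv (f : α ≃ β) (s : Finset α) : (s.image f)ᶜ = sᶜ.image f := by
  ext y
  simp only [mem_compl, mem_image]
  constructor
  · intro hy
    refine ⟨f.symm y, fun hs => hy ⟨_, hs, f.apply_symm_apply y⟩, f.apply_symm_apply y⟩
  · rintro ⟨x, hx, rfl⟩ ⟨x', hx', hxx⟩
    exact hx (f.injective hxx ▸ hx')

theorem ext_image_mem {D : Set (Finset α)} {D' : Set (Finset β)} (f : α ≃ β)
    (hf : ∀ b ∈ D, b.image f ∈ D') {c : Finset (Option α)} (hc : c ∈ extSys D) :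
    c.image f.optionCongr ∈ extSys D' := by
  rcases hc with ⟨hn, hc⟩ | ⟨hn, hc⟩
  · left
    refine ⟨(none_mem_image_optionCongr f c).mpr hn, ?_⟩
    rw [eraseNone_image_optionCongr]
    exact hf _ hc
  · right
    refine ⟨fun h => hn ((none_mem_image_optionCongr f c).mp h), ?_⟩
    rw [eraseNone_image_optionCongr, image_compl_equiv]
    exact hf _ hc

end

section aut

variable {α : Type*} [Fintype α] [DecidableEq α]

theorem aut_ext {D : Set (Finset α)} (f : Equiv.Perm α) (hf : f ∈ Cfsg.setSystemAut D) :
    (f.optionCongr : Equiv.Perm (Option α)) ∈ Cfsg.setSystemAut (extSys D) := by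
  have hf' := (mem_aut_iff D f).mp hf
  have hfi : f⁻¹ ∈ Cfsg.setSystemAut D := inv_mem hf
  have hfi' := (mem_aut_iff D f⁻¹).mp hfi
  have h1 : ∀ b ∈ D, b.image f ∈ D := fun b hb => by rw [← hf']; exact ⟨b, hb, rfl⟩
  have h2 : ∀ b ∈ D, b.image f.symm ∈ D := fun b hb => by
    have : b.image (f⁻¹ : Equiv.Perm α) ∈ D := by rw [← hfi']; exact ⟨b, hb, rfl⟩
    exact this
  rw [mem_aut_iff]
  ext c
  constructor
  · rintro ⟨b, hb, rfl⟩
    exact ext_image_mem f h1 hb
  · intro hc
    refine ⟨c.image f.symm.optionCongr, ext_image_mem f.symm h2 hc, ?_⟩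
    show (c.image f.symm.optionCongr).image f.optionCongr = c
    rw [image_image]
    have : (f.optionCongr : Option α → Option α) ∘ f.symm.optionCongr = id := by
      funext o
      rcases o with _ | a
      · rfl
      · simp
    rw [this, image_id]

/-- extend an embedding `Fin 4 ↪ α` to `Fin 5 ↪ Option α` by the new point. -/
def extEmb (x : Fin 4 ↪ α) : Fin 5 ↪ Option α :=
  Fin.Embedding.snoc (x.trans Function.Embedding.some) (a := none) (by
    rintro ⟨i, hi⟩
    exact Option.some_ne_none _ hi)

theorem extEmb_castSucc (x : Fin 4 ↪ α) (i : Fin 4) : extEmb x i.castSucc = some (x i) := by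
  unfold extEmb
  rw [Fin.Embedding.snoc_castSucc]
  rfl

theorem extEmb_last (x : Fin 4 ↪ α) : extEmb x (Fin.last 4) = none := by
  unfold extEmb
  rw [Fin.Embedding.snoc_last]

theorem aut11_isSharp (hα : Fintype.card α = 11) {D : Set (Finset α)}
    (hD : Cfsg.IsSteinerSystem 4 5 D) :
    Cfsg.Agent.Lib.Helper8.Sh.IsSharp (Cfsg.setSystemAut D) α 4 := by
  have hα' : Fintype.card (Option α) = 12 := by rw [Fintype.card_option, hα]
  have hE := steiner_ext hα hD
  constructor
  · refine ⟨fun x y => ?_⟩
    obtain ⟨g, hg, hxy⟩ := aut_trans hα' hE (extEmb x) (extEmb y)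
    have hg0 : g none = none := by
      have := hxy (Fin.last 4)
      rwa [extEmb_last, extEmb_last] at this
    obtain ⟨hf, hfD⟩ := restrict_image (D := D) (D' := D) g hg0 ((mem_aut_iff _ g).mp hg)
    refine ⟨⟨g.removeNone, (mem_aut_iff D _).mpr hfD⟩, ?_⟩
    ext i
    show g.removeNone (x i) = y i
    apply Option.some_injective
    rw [← hf, ← extEmb_castSucc, hxy, extEmb_castSucc]
  · intro x
    rw [eq_bot_iff]
    intro f hf
    rw [Subgroup.mem_bot]
    apply Subtype.ext
    have hfx : ∀ i, f.1 (x i) = x i := by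
      intro i
      have := congrArg (fun y : Fin 4 ↪ α => y i) (mem_stabilizer_iff.mp hf)
      exact this
    have h1 := aut_sharp hα' hE (extEmb x) f.1.optionCongr (aut_ext f.1 f.2) (by
      intro i
      refine Fin.lastCases ?_ (fun j => ?_) i
      · rw [extEmb_last]
        rfl
      · rw [extEmb_castSucc, Equiv.optionCongr_apply, Option.map_some, hfx])
    apply Equiv.ext
    intro a
    have h2 := congrArg (fun e : Equiv.Perm (Option α) => e (some a)) h1
    simp only [Equiv.optionCongr_apply, Option.map_some, Equiv.Perm.one_apply] at h2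
    exact Option.some_injective _ h2

theorem aut11_simple (hα : Fintype.card α = 11) {D : Set (Finset α)}
    (hD : Cfsg.IsSteinerSystem 4 5 D) : IsSimpleGroup (Cfsg.setSystemAut D) :=
  Cfsg.Agent.Lib.Helper8.Sh.simple_of_sharp4 (aut11_isSharp hα hD)
    (by rw [Nat.card_eq_fintype_card, hα])

theorem aut11_card (hα : Fintype.card α = 11) {D : Set (Finset α)}
    (hD : Cfsg.IsSteinerSystem 4 5 D) : Nat.card (Cfsg.setSystemAut D) = 7920 :=
  Cfsg.Agent.Lib.Helper8.Sh.card_of_sharp4 (aut11_isSharp hα hD)
    (by rw [Nat.card_eq_fintype_card, hα])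

end aut

end Cfsg.Agent.Lib.Helper8.W
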