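import Cfsg.Agent.Lib.Helper8.O459P1

namespace Cfsg.Agent.Lib.Helper8.O459

variable {G : Type*} [Group G] [Finite G]

/-- Sylow counting inside a subgroup `M` containing `P`: the index of `N(P) ⊓ M` in `M`
is `≡ 1 mod 19`. -/
theorem relIndex_mod (P : Sylow 19 G) (M : Subgroup G) (hPM : (P : Subgroup G) ≤ M) :
    (NP P).relIndex M % 19 = 1 := by
  have h := card_sylow_modEq_one 19 M
  rw [Sylow.card_eq_index_normalizer (P.subtype hPM)] at h
  have e : Subgroup.normalizer (((P.subtype hPM : Sylow 19 M) : Subgroup M) : Set M) =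
      (NP P).subgroupOf M := by
    rw [Sylow.coe_subtype]
    exact (Subgroup.subgroupOf_normalizer_eq hPM).symm
  have h' : (Subgroup.normalizer (((P.subtype hPM : Sylow 19 M) : Subgroup M) : Set M)).index
      ≡ 1 [MOD 19] := h
  rw [e] at h'
  exact h'

/-- P4: `N(P)` is a maximal subgroup when `|N(P)| = 456`. -/
theorem maximal (hcard : Nat.card G = 459648) (P : Sylow 19 G)
    (hN : Nat.card (NP P) = 456) (M : Subgroup G) (hM : NP P ≤ M) : M = NP P ∨ M = ⊤ := by
  have hPM : (P : Subgroup G) ≤ M := (P_le_NP P).trans hM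
  have h1 := relIndex_mod P M hPM
  have h2 : (NP P).relIndex M ∣ (NP P).index := Subgroup.relIndex_dvd_index_of_le hM
  have h3 := index_NP hcard P
  have hidx : (NP P).index = 1008 := by rw [hN] at h3; omega
  rw [hidx] at h2
  have h4 : (NP P).relIndex M ∣ 24192 := dvd_trans h2 (by norm_num)
  have h5 : (NP P).relIndex M * M.index = 1008 := by
    rw [Subgroup.relIndex_mul_index hM, hidx]
  rcases dvd_24192_mod19 _ h4 h1 with h | h | h
  · left
    exact le_antisymm (Subgroup.relIndex_eq_one.mp h) hM
  · exfalso; rw [h] at h2; omega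
  · right
    rw [h] at h5
    have : M.index = 1 := by omega
    exact Subgroup.index_eq_one.mp this

end Cfsg.Agent.Lib.Helper8.O459
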