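import Mathlib
import Cfsg.Agent.Lib.Helper2.PGroupOdd

set_option autoImplicit false

/-! Groups in which abelian subgroups of the same order are conjugate: basic consequences. -/

namespace Cfsg.Agent.Lib.Helper8.BConj

/-- abelian subgroups of the same order are conjugate -/
def IsB (G : Type*) [Group G] : Prop :=
  ∀ A B : Subgroup G, IsMulCommutative ↥A → IsMulCommutative ↥B → Nat.card ↥A = Nat.card ↥B →
    ∃ g : G, B = A.map (MulAut.conj g).toMonoidHom

/-- in a finite cyclic group the subgroups are ordered by divisibility of their orders -/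
theorem cyclic_le_of_card_dvd {R : Type*} [Group R] [Finite R] [IsCyclic R] (U V : Subgroup R)
    (h : Nat.card U ∣ Nat.card V) : U ≤ V := by
  have hc : ∀ x y : R, x * y = y * x := fun x y => (IsCyclic.commGroup (α := R)).mul_comm x y
  set n := Nat.card V with hn
  have hnpos : 0 < n := Nat.card_pos
  let S : Subgroup R :=
    { carrier := {x | x ^ n = 1}
      mul_mem' := by
        intro x y hx hy
        show (x * y) ^ n = 1
        rw [(show Commute x y from hc x y).mul_pow, hx, hy, one_mul]
      one_mem' := one_pow n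
      inv_mem' := by
        intro x hx
        show x⁻¹ ^ n = 1
        rw [inv_pow, hx, inv_one] }
  have hV : V ≤ S := by
    intro v hv
    have := pow_card_eq_one' (G := V) (x := ⟨v, hv⟩)
    exact congrArg Subtype.val this
  have hU : U ≤ S := by
    intro u hu
    have h1 := pow_card_eq_one' (G := U) (x := ⟨u, hu⟩)
    have h2 : u ^ Nat.card U = 1 := congrArg Subtype.val h1
    obtain ⟨k, hk⟩ := h
    show u ^ n = 1
    rw [hk, pow_mul, h2, one_pow]
  have hScard : Nat.card S ≤ n := by
    obtain ⟨g, hg⟩ := IsCyclic.exists_generator (α := S)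
    rw [← orderOf_eq_card_of_forall_mem_zpowers hg]
    apply Nat.le_of_dvd hnpos
    apply orderOf_dvd_of_pow_eq_one
    apply Subtype.ext
    exact g.2
  have hVS : V = S := Subgroup.eq_of_le_of_card_ge hV hScard
  rw [hVS]
  exact hU

section
variable {G : Type*} [Group G] [Finite G]

/-- an element of prime order `r` lies in every normal subgroup of order divisible by `r` -/
theorem mem_of_orderOf_eq_prime (hB : IsB G) (M : Subgroup G) [M.Normal] (r : ℕ) [Fact r.Prime]
    (hr : r ∣ Nat.card M) (g : G) (hg : orderOf g = r) : g ∈ M := by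
  obtain ⟨c, hc⟩ := exists_prime_orderOf_dvd_card' (G := M) r hr
  have hc' : orderOf (c : G) = r := by rw [Subgroup.orderOf_coe]; exact hc
  have h1 : Nat.card (Subgroup.zpowers (c : G)) = Nat.card (Subgroup.zpowers g) := by
    rw [Nat.card_zpowers, Nat.card_zpowers, hc', hg]
  obtain ⟨x, hx⟩ := hB (Subgroup.zpowers (c : G)) (Subgroup.zpowers g) inferInstance inferInstance h1
  have hgm : g ∈ (Subgroup.zpowers (c : G)).map (MulAut.conj x).toMonoidHom := by
    rw [← hx]
    exact Subgroup.mem_zpowers g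
  obtain ⟨y, hy, rfl⟩ := hgm
  have hyM : y ∈ M := (Subgroup.zpowers_le.2 c.2) hy
  exact (inferInstance : M.Normal).conj_mem y hyM x

/-- for an odd prime `r` the Sylow `r`-subgroups are cyclic or all `r`-elements have order at most `r` -/
theorem cyclic_or_exponent (hB : IsB G) (r : ℕ) [hr : Fact r.Prime] (hr2 : r ≠ 2) :
    (∀ R : Sylow r G, IsCyclic ↥R) ∨ (∀ x : G, (∃ k, x ^ (r ^ k) = 1) → x ^ r = 1) := by
  by_cases hcyc : ∀ R : Sylow r G, IsCyclic ↥R
  · exact Or.inl hcyc
  right
  simp only [not_forall] at hcyc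
  obtain ⟨R, hR⟩ := hcyc
  obtain ⟨E, -, hEcard, hEexp⟩ :=
    Cfsg.Agent.Lib.Helper2.exists_normal_elementary_sq (G := ↥R) hr2 R.isPGroup' hR
  set E' : Subgroup G := E.map (R : Subgroup G).subtype with hE'
  have hE'card : Nat.card E' = r ^ 2 := by
    rw [← hEcard]
    exact Nat.card_congr (E.equivMapOfInjective _ (Subgroup.subtype_injective _)).symm.toEquiv
  have hE'exp : ∀ x ∈ E', x ^ r = 1 := by
    rintro x ⟨e, he, rfl⟩
    have := hEexp e he
    rw [← map_pow, this, map_one]
  have hE'comm : IsMulCommutative ↥E' :=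
    IsPGroup.isMulCommutative_of_card_eq_prime_sq hE'card
  rintro x ⟨k, hk⟩
  by_contra hx
  obtain ⟨j, -, hj⟩ := (Nat.dvd_prime_pow hr.out).1 (orderOf_dvd_of_pow_eq_one hk)
  have hj2 : 2 ≤ j := by
    by_contra hlt
    rw [not_le] at hlt
    apply hx
    have : orderOf x ∣ r := by
      rw [hj]
      interval_cases j
      · simp
      · simp
    exact orderOf_dvd_iff_pow_eq_one.1 this
  set y := x ^ (r ^ (j - 2)) with hy
  have hoy : orderOf y = r ^ 2 := by
    have hd : r ^ (j - 2) ∣ orderOf x := by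
      rw [hj]
      exact pow_dvd_pow r (by omega)
    rw [hy, orderOf_pow_of_dvd (pow_ne_zero _ hr.out.ne_zero) hd, hj,
      Nat.pow_div (by omega) hr.out.pos]
    congr 1
    omega
  have hcard : Nat.card (Subgroup.zpowers y) = Nat.card E' := by
    rw [Nat.card_zpowers, hoy, hE'card]
  obtain ⟨g, hg⟩ := hB (Subgroup.zpowers y) E' inferInstance hE'comm hcard
  have hmem : (MulAut.conj g).toMonoidHom y ∈ E' := by
    rw [hg]
    exact ⟨y, Subgroup.mem_zpowers y, rfl⟩
  have h1 := hE'exp _ hmem
  rw [← map_pow] at h1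
  have h2 : y ^ r = 1 := by
    have := (MulAut.conj g).injective (h1.trans (map_one _).symm)
    exact this
  have h3 : r ^ 2 ∣ r := by
    rw [← hoy]
    exact orderOf_dvd_of_pow_eq_one h2
  have h4 : r ^ 2 ≤ r := Nat.le_of_dvd hr.out.pos h3
  have h5 : 2 ≤ r := hr.out.two_le
  nlinarith

/-- the dichotomy for an odd prime dividing the order of a normal subgroup -/
theorem dichotomy_odd (hB : IsB G) (M : Subgroup G) [M.Normal] (r : ℕ) [hr : Fact r.Prime]
    (hr2 : r ≠ 2) (hrM : r ∣ Nat.card M) :
    (∀ R : Sylow r G, IsCyclic ↥R) ∨ (∀ x : G, (∃ k, x ^ (r ^ k) = 1) → x ∈ M) := by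
  rcases cyclic_or_exponent hB r hr2 with h | h
  · exact Or.inl h
  right
  intro x hx
  have hxr := h x hx
  by_cases h1 : x = 1
  · rw [h1]
    exact M.one_mem
  · exact mem_of_orderOf_eq_prime hB M r hrM x (orderOf_eq_prime hxr h1)

end

section MS
variable {H : Type*} [Group H] [Finite H] (N : Subgroup H)
  (hcomm : ∀ x y : H, x * y * x⁻¹ * y⁻¹ ∈ N)
  (hmin : ∀ K : Subgroup H, K ⊔ N = ⊤ → K = ⊤)
include hcomm hmin

/-- all Sylow subgroups of a minimal supplement are normal -/
theorem sylow_normal (r : ℕ) [Fact r.Prime] (Q : Sylow r H) : (Q : Subgroup H).Normal := by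
  set T : Subgroup H := (Q : Subgroup H) ⊔ N with hT
  have hTn : T.Normal := by
    constructor
    intro t ht h
    have e : h * t * h⁻¹ = (h * t * h⁻¹ * t⁻¹) * t := by group
    rw [e]
    exact T.mul_mem ((le_sup_right : N ≤ T) (hcomm h t)) ht
  have hQT : (Q : Subgroup H) ≤ T := le_sup_left
  have h1 := Sylow.normalizer_sup_eq_top' Q hQT
  have h2 : Subgroup.normalizer (Q : Set H) ⊔ N = ⊤ := by
    rw [eq_top_iff, ← h1, hT, ← sup_assoc]
    apply sup_le_sup_right
    exact sup_le le_rfl Subgroup.le_normalizer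
  have h3 := hmin _ h2
  exact Subgroup.normalizer_eq_top_iff.1 h3

/-- a Sylow subgroup of a minimal supplement inside `N` is trivial -/
theorem sylow_eq_bot_of_le (r : ℕ) [Fact r.Prime] (Q : Sylow r H) (h : (Q : Subgroup H) ≤ N) :
    (Q : Subgroup H) = ⊥ := by
  have hn : (Q : Subgroup H).Normal := sylow_normal N hcomm hmin r Q
  have hcop : Nat.Coprime (Nat.card (Q : Subgroup H)) (Q : Subgroup H).index := by
    obtain ⟨k, hk⟩ := IsPGroup.iff_card.1 Q.isPGroup'
    rw [hk]
    exact Nat.Coprime.pow_left _ ((Fact.out : r.Prime).coprime_iff_not_dvd.2 Q.not_dvd_index)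
  obtain ⟨K, hK⟩ := Subgroup.exists_right_complement'_of_coprime hcop
  have h1 : K ⊔ N = ⊤ := by
    rw [eq_top_iff, ← hK.sup_eq_top, sup_comm]
    exact sup_le_sup_left h K
  have h2 := hmin K h1
  have h3 := hK.disjoint
  rw [h2, disjoint_top] at h3
  exact h3

end MS

end Cfsg.Agent.Lib.Helper8.BConj
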