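import Mathlib
import Cfsg.Prelude.Def_Transfer
import Cfsg.Prelude.Def_LieExceptional
import Cfsg.Agent.S0731
import Cfsg.Agent.Lib.Helper4.SLCenter

set_option autoImplicit false

/-! S3043 piece Z3: a Zassenhaus group of order `(m+1)m(m-1)/2` with an abelian regular normal
subgroup `M` (of odd order `m`) in the point stabiliser is `PSL₂(m)`. -/

namespace Cfsg.Agent.Lib.Helper8.S3043

open Subgroup

/-- the degree is `|M| + 1` -/
theorem card_omega_eq {G Ω : Type*} [Group G] [MulAction G Ω] [Finite Ω]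
    (x : Ω) (M : Subgroup G) (hMle : M ≤ MulAction.stabilizer G x)
    (hreg : ∀ y w : Ω, y ≠ x → w ≠ x → ∃! u : M, (u : G) • y = w)
    (y₀ : Ω) (hy₀ : y₀ ≠ x) : Nat.card Ω = Nat.card M + 1 := by
  classical
  have : Fintype Ω := Fintype.ofFinite Ω
  have hfix : ∀ u : M, (u : G) • x = x := fun u => MulAction.mem_stabilizer_iff.mp (hMle u.2)
  have hne : ∀ u : M, (u : G) • y₀ ≠ x := by
    intro u h
    apply hy₀
    have h2 : (u : G) • y₀ = (u : G) • x := by rw [h, hfix u]
    exact smul_left_cancel _ h2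
  let f : M → {w : Ω // w ≠ x} := fun u => ⟨(u : G) • y₀, hne u⟩
  have hbij : Function.Bijective f := by
    constructor
    · intro u v huv
      have h1 : (u : G) • y₀ = (v : G) • y₀ := congrArg Subtype.val huv
      obtain ⟨w, -, hw2⟩ := hreg y₀ ((v : G) • y₀) hy₀ (hne v)
      rw [hw2 u h1, hw2 v rfl]
    · rintro ⟨w, hw⟩
      obtain ⟨u, hu, -⟩ := hreg y₀ w hy₀ hw
      exact ⟨u, Subtype.ext hu⟩
  have h1 : Nat.card M = Nat.card {w : Ω // w ≠ x} := Nat.card_congr (Equiv.ofBijective f hbij)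
  have h2 : Nat.card {w : Ω // w ≠ x} = Nat.card Ω - 1 := by
    rw [Nat.card_eq_fintype_card, Nat.card_eq_fintype_card, Fintype.card_subtype_compl,
      Fintype.card_subtype_eq]
  have h3 : 0 < Nat.card Ω := Nat.card_pos_iff.mpr ⟨⟨x⟩, inferInstance⟩
  omega

theorem cube_inj {a b : ℕ} (ha : 1 ≤ a) (hb : 1 ≤ b)
    (h : a * ((a - 1) * (a + 1)) = b * ((b - 1) * (b + 1))) : a = b := by
  have key : ∀ c d : ℕ, 1 ≤ c → c < d → c * ((c - 1) * (c + 1)) < d * ((d - 1) * (d + 1)) := by
    intro c d hc hcd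
    have h1 : (c - 1) * (c + 1) ≤ (d - 1) * (d + 1) :=
      Nat.mul_le_mul (by omega) (by omega)
    have h2 : 0 < (d - 1) * (d + 1) := Nat.mul_pos (by omega) (by omega)
    calc c * ((c - 1) * (c + 1)) ≤ c * ((d - 1) * (d + 1)) := Nat.mul_le_mul_left _ h1
      _ < d * ((d - 1) * (d + 1)) := Nat.mul_lt_mul_of_pos_right hcd h2
  rcases lt_trichotomy a b with hlt | heq | hgt
  · exact absurd h (Nat.ne_of_lt (key a b ha hlt))
  · exact heq
  · exact absurd h.symm (Nat.ne_of_lt (key b a hb hgt))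

theorem zass_psl {G Ω : Type*} [Group G] [Finite G] [MulAction G Ω] [Finite Ω]
    [FaithfulSMul G Ω] (h2 : MulAction.IsMultiplyPretransitive G Ω 2)
    (hsharp : ∀ g : G, ∀ a b c : Ω, a ≠ b → b ≠ c → a ≠ c → g • a = a → g • b = b → g • c = c → g = 1)
    (hfix2 : ∃ g : G, g ≠ 1 ∧ ∃ a b : Ω, a ≠ b ∧ g • a = a ∧ g • b = b)
    (hinvfix : ∀ t : G, orderOf t = 2 → ∃ a : Ω, t • a = a)
    (x : Ω) (M : Subgroup G) (hMle : M ≤ MulAction.stabilizer G x)
    (hMn : (M.subgroupOf (MulAction.stabilizer G x)).Normal) (hMab : IsMulCommutative M)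
    (hreg : ∀ y w : Ω, y ≠ x → w ≠ x → ∃! u : M, (u : G) • y = w)
    (hodd : Odd (Nat.card M))
    (hG : 2 * Nat.card G = (Nat.card M + 1) * Nat.card M * (Nat.card M - 1)) :
    ∃ (F : Type) (_ : Field F) (_ : Fintype F), Fintype.card F = Nat.card M ∧
      Nonempty (G ≃* Matrix.ProjectiveSpecialLinearGroup (Fin 2) F) := by
  classical
  have : Fintype Ω := Fintype.ofFinite Ω
  set m := Nat.card M with hm
  have hGpos : 0 < Nat.card G := Nat.card_pos
  -- a second point
  obtain ⟨g₀, hg₀, a₀, b₀, hab₀, hga₀, hgb₀⟩ := hfix2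
  obtain ⟨y₀, hy₀⟩ : ∃ y₀ : Ω, y₀ ≠ x := by
    by_cases h : a₀ = x
    · exact ⟨b₀, fun hb => hab₀ (h.trans hb.symm)⟩
    · exact ⟨a₀, h⟩
  have hΩ : Nat.card Ω = m + 1 := card_omega_eq x M hMle hreg y₀ hy₀
  -- Zassenhaus
  have hZ : Cfsg.IsZassenhausGroup G Ω := by
    refine ⟨inferInstance, h2, hsharp, ⟨g₀, hg₀, a₀, b₀, hab₀, hga₀, hgb₀⟩, ?_⟩
    intro N _ hNt
    -- |Ω| divides |N|
    have hdvd : Nat.card Ω ∣ Nat.card N := by
      have h3 : MulAction.orbit N x = Set.univ := by
        ext w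
        simp only [Set.mem_univ, iff_true]
        obtain ⟨n, hn⟩ := hNt.exists_smul_eq x w
        exact ⟨n, hn⟩
      have h4 : (MulAction.stabilizer N x).index = Nat.card Ω := by
        rw [MulAction.index_stabilizer, h3, Set.ncard_univ]
      rw [← h4]
      exact Subgroup.index_dvd_card _
    have h2dvd : 2 ∣ Nat.card N := by
      refine Dvd.dvd.trans ?_ hdvd
      rw [hΩ]
      obtain ⟨k, hk⟩ := hodd
      exact ⟨k + 1, by omega⟩
    have : Fact (Nat.Prime 2) := ⟨Nat.prime_two⟩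
    obtain ⟨t, ht⟩ := exists_prime_orderOf_dvd_card' (G := N) 2 h2dvd
    have ht' : orderOf (t : G) = 2 := by rw [Subgroup.orderOf_coe]; exact ht
    obtain ⟨a, ha⟩ := hinvfix t ht'
    refine ⟨a, ?_⟩
    intro hbot
    have hmem : t ∈ MulAction.stabilizer N a := by
      rw [MulAction.mem_stabilizer_iff]
      exact ha
    rw [hbot, Subgroup.mem_bot] at hmem
    rw [hmem, orderOf_one] at ht
    omega
  rcases Cfsg.Agent.S0731.result hZ x M hMle hMn hMab hreg with ⟨h3, hstab⟩ | ⟨K, iF, iFt, hchar, ⟨e⟩⟩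
  · -- sharply 3-transitive: order (m+1)m(m-1)
    exfalso
    have hm2 : 2 ≤ m := by
      by_contra hlt
      have : m - 1 = 0 := by omega
      rw [this, mul_zero] at hG
      omega
    -- an embedding Fin 3 ↪ Ω exists
    have hcardemb : Nat.card (Fin 3 ↪ Ω) = (m + 1) * m * (m - 1) := by
      rw [Nat.card_eq_fintype_card, Fintype.card_embedding_eq, Fintype.card_fin,
        ← Nat.card_eq_fintype_card, hΩ]
      have : (m + 1).descFactorial 3 = (m + 1) * m * (m - 1) := by
        obtain ⟨k, hk⟩ : ∃ k, m = k + 2 := ⟨m - 2, by omega⟩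
        rw [hk]
        simp [Nat.descFactorial]
        ring
      exact this
    have hpos : 0 < Nat.card (Fin 3 ↪ Ω) := by
      rw [hcardemb]
      exact Nat.mul_pos (Nat.mul_pos (by omega) (by omega)) (by omega)
    have : Nonempty (Fin 3 ↪ Ω) := (Nat.card_pos_iff.mp hpos).1
    obtain ⟨τ⟩ := ‹Nonempty (Fin 3 ↪ Ω)›
    have h4 : MulAction.orbit G τ = Set.univ := by
      ext w
      simp only [Set.mem_univ, iff_true]
      obtain ⟨n, hn⟩ := h3.exists_smul_eq τ w
      exact ⟨n, hn⟩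
    have h5 : (MulAction.stabilizer G τ).index = Nat.card (Fin 3 ↪ Ω) := by
      rw [MulAction.index_stabilizer, h4, Set.ncard_univ]
    rw [hstab τ, Subgroup.index_bot, hcardemb] at h5
    omega
  · -- PSL₂(K)
    refine ⟨K, iF, iFt, ?_, ⟨e⟩⟩
    -- |K| odd
    have hKodd : Fintype.card K % 2 = 1 := by
      obtain ⟨p, hp⟩ := CharP.exists K
      have := hp
      have hpprime : p.Prime := by
        rcases CharP.char_is_prime_or_zero K p with h | h
        · exact h
        · exfalso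
          subst h
          have : CharZero K := CharP.charP_to_charZero K
          exact (not_finite K) 
      have : Fact p.Prime := ⟨hpprime⟩
      obtain ⟨n, -, hn⟩ := FiniteField.card K p
      have hp2 : p ≠ 2 := by
        intro h
        apply hchar
        rw [← h]
        exact ringChar.eq K p
      have hpodd : p % 2 = 1 := by
        rcases Nat.Prime.eq_two_or_odd hpprime with h | h
        · exact absurd h hp2
        · exact h
      rw [hn, Nat.pow_mod, hpodd, one_pow]
      rfl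
    set q := Fintype.card K with hq
    have hq1 : 1 ≤ q := Fintype.card_pos
    have hcard : 2 * Nat.card (Matrix.ProjectiveSpecialLinearGroup (Fin 2) K)
        = q * ((q - 1) * (q + 1)) := by
      have h1 := Cfsg.Agent.Lib.Helper4.card_PSL_mul (F := K) 2 (by norm_num)
      rw [Cfsg.Agent.Lib.Helper4.card_SL2] at h1
      have hg : Nat.gcd 2 (q - 1) = 2 := by
        apply Nat.gcd_eq_left
        omega
      rw [← hq, hg] at h1
      rw [h1]
      congr 1
      obtain ⟨k, hk⟩ : ∃ k, q = k + 1 := ⟨q - 1, by omega⟩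
      rw [hk]
      simp only [Nat.add_sub_cancel]
      apply Nat.sub_eq_of_eq_add
      ring
    have hcG : Nat.card G = Nat.card (Matrix.ProjectiveSpecialLinearGroup (Fin 2) K) :=
      Nat.card_congr e.toEquiv
    have hm1 : 1 ≤ m := Nat.card_pos
    have heq : q * ((q - 1) * (q + 1)) = m * ((m - 1) * (m + 1)) := by
      rw [← hcard, ← hcG, hG]
      ring
    exact cube_inj hq1 hm1 heq
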