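import Mathlib
import Cfsg.Prelude
import Cfsg.Agent.Lib.Helper8.Mono1

set_option autoImplicit false
set_option linter.unusedVariables false
set_option linter.unusedSectionVars false
set_option linter.style.longLine false

/-! Interface for the monomial case (`k = 1`) of the unitary decomposition stabilizers. -/

namespace Cfsg.Agent.Lib.Helper8.UM

open Matrix

/-- the special unitary group inside `GL` -/
abbrev SUg (n : ℕ) (F : Type*) [Field F] (q : ℕ) : Subgroup (GL (Fin n) F) :=
  Cfsg.GU n F q ⊓ Cfsg.Geo.specialLinear (Fin n) F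

/-- `X` lies between the monomial subgroup of `SU` and `SU` -/
structure Ctx (n : ℕ) (F : Type*) [Field F] (q : ℕ) (X : Subgroup (GL (Fin n) F)) : Prop where
  le : X ≤ SUg n F q
  mono : ∀ g : GL (Fin n) F, Mono.IsMono (g : Matrix (Fin n) (Fin n) F) → g ∈ SUg n F q → g ∈ X

end Cfsg.Agent.Lib.Helper8.UM
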