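import Mathlib
import Cfsg.Prelude
import Cfsg.Agent.Lib.Helper5.HermCount
import Cfsg.Agent.Lib.Helper5.HermTv

set_option autoImplicit false
set_option linter.unusedVariables false
set_option linter.unusedSectionVars false
set_option linter.style.longLine false

/-! Arithmetic of norm-one elements of `F_{q^2}`: the four-term lemma. -/

namespace Cfsg.Agent.Lib.Helper8.UM

open Cfsg.Agent.Lib.Helper5 Cfsg.Agent.Lib.Helper5.Herm
open scoped Classical

variable {F : Type*} [Field F] [Fintype F] {q : ℕ} (hF : Fintype.card F = q ^ 2)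

/-- the norm-one elements as a finset -/
noncomputable def muF (F : Type*) [Field F] [Fintype F] (q : ℕ) : Finset F :=
  Finset.univ.filter (fun x => x ^ (q + 1) = 1)

theorem mem_muF {x : F} : x ∈ muF F q ↔ x ^ (q + 1) = 1 := by
  unfold muF
  simp

include hF in
theorem card_muF : (muF F q).card = q + 1 := by
  have h := HermCount.card_norm_one hF
  rw [Nat.card_eq_fintype_card, Fintype.card_subtype] at h
  exact h

theorem mu_ne_zero {x : F} (hx : x ^ (q + 1) = 1) : x ≠ 0 := by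
  rintro rfl
  rw [zero_pow (Nat.succ_ne_zero q)] at hx
  exact zero_ne_one hx

theorem mu_conj {x : F} (hx : x ^ (q + 1) = 1) : x ^ q = x⁻¹ := by
  have h0 := mu_ne_zero hx
  rw [pow_succ] at hx
  exact eq_inv_of_mul_eq_one_left hx

theorem one_mem_mu : (1 : F) ^ (q + 1) = 1 := one_pow _

theorem mu_mul {x y : F} (hx : x ^ (q + 1) = 1) (hy : y ^ (q + 1) = 1) : (x * y) ^ (q + 1) = 1 := by
  rw [mul_pow, hx, hy, mul_one]

theorem mu_inv {x : F} (hx : x ^ (q + 1) = 1) : (x⁻¹) ^ (q + 1) = 1 := by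
  rw [inv_pow, hx, inv_one]

/-- a quadratic with three distinct roots has zero leading coefficient -/
theorem three_roots {a b c x y z : F} (hxy : x ≠ y) (hxz : x ≠ z) (hyz : y ≠ z)
    (hx : a * x ^ 2 + b * x + c = 0) (hy : a * y ^ 2 + b * y + c = 0)
    (hz : a * z ^ 2 + b * z + c = 0) : a = 0 := by
  have h1 : (x - y) * (a * (x + y) + b) = 0 := by linear_combination hx - hy
  have h2 : (x - z) * (a * (x + z) + b) = 0 := by linear_combination hx - hz
  have h1' : a * (x + y) + b = 0 := (mul_eq_zero.mp h1).resolve_left (sub_ne_zero.mpr hxy)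
  have h2' : a * (x + z) + b = 0 := (mul_eq_zero.mp h2).resolve_left (sub_ne_zero.mpr hxz)
  have h3 : a * (y - z) = 0 := by linear_combination h1' - h2'
  exact (mul_eq_zero.mp h3).resolve_right (sub_ne_zero.mpr hyz)

/-- a finset all of whose elements are roots of a quadratic with non-zero leading coefficient
has at most two elements -/
theorem card_le_two_of_quadratic {a b c : F} (ha : a ≠ 0) (s : Finset F)
    (hs : ∀ x ∈ s, a * x ^ 2 + b * x + c = 0) : s.card ≤ 2 := by
  by_contra hcon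
  push Not at hcon
  obtain ⟨x, hx, y, hy, z, hz, hxy, hxz, hyz⟩ := Finset.two_lt_card.mp hcon
  exact ha (three_roots hxy hxz hyz (hs x hx) (hs y hy) (hs z hz))

include hF in
/-- key quadratic: if `t₁, t₂` have norm one and `t₁ c₁ + t₂ c₂ = x` then `t₁` is a root of a
quadratic -/
theorem pair_quadratic {c₁ c₂ x t₁ t₂ : F} (h1 : t₁ ^ (q + 1) = 1) (h2 : t₂ ^ (q + 1) = 1)
    (hx : t₁ * c₁ + t₂ * c₂ = x) :
    (c₁ * x ^ q) * t₁ ^ 2 + (c₂ ^ (q + 1) - x ^ (q + 1) - c₁ ^ (q + 1)) * t₁ + x * c₁ ^ q = 0 := by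
  have ht1 : t₁ ≠ 0 := mu_ne_zero h1
  have hq1 : t₁ ^ q = t₁⁻¹ := mu_conj h1
  have e2 : t₂ * c₂ = x - t₁ * c₁ := by linear_combination hx
  have hn : (x - t₁ * c₁) ^ (q + 1) = c₂ ^ (q + 1) := by
    rw [← e2, mul_pow, h2, one_mul]
  rw [pow_succ, pow_q_sub hF, mul_pow, hq1] at hn
  have hc2 : c₂ ^ (q + 1) = (x ^ q - t₁⁻¹ * c₁ ^ q) * (x - t₁ * c₁) := hn.symm
  rw [hc2, pow_succ x q, pow_succ c₁ q]
  field_simp
  ring

end Cfsg.Agent.Lib.Helper8.UM
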