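import Mathlib
import Cfsg.Prelude
import Cfsg.Agent.Lib.Helper8.UM1

set_option autoImplicit false
set_option linter.unusedVariables false
set_option linter.unusedSectionVars false
set_option linter.style.longLine false

/-! The four-term lemma. -/

namespace Cfsg.Agent.Lib.Helper8.UM

open Cfsg.Agent.Lib.Helper5 Cfsg.Agent.Lib.Helper5.Herm
open scoped Classical

variable {F : Type*} [Field F] [Fintype F] {q : ℕ} (hF : Fintype.card F = q ^ 2)

/-- sums `t₁ c₁ + t₂ c₂` with `t₁, t₂` of norm one -/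
noncomputable def pairSums (q : ℕ) (c₁ c₂ : F) : Finset F :=
  ((muF F q) ×ˢ (muF F q)).image (fun p => p.1 * c₁ + p.2 * c₂)

theorem mem_pairSums {c₁ c₂ x : F} :
    x ∈ pairSums q c₁ c₂ ↔ ∃ t₁ t₂ : F, t₁ ^ (q + 1) = 1 ∧ t₂ ^ (q + 1) = 1 ∧ t₁ * c₁ + t₂ * c₂ = x := by
  unfold pairSums
  simp only [Finset.mem_image, Finset.mem_product, mem_muF, Prod.exists]
  constructor
  · rintro ⟨a, b, ⟨ha, hb⟩, h⟩
    exact ⟨a, b, ha, hb, h⟩
  · rintro ⟨a, b, ha, hb, h⟩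
    exact ⟨a, b, ⟨ha, hb⟩, h⟩

include hF in
theorem fiber_card_le (c₁ c₂ : F) (h1 : c₁ ≠ 0) (h2 : c₂ ≠ 0) (y : F) :
    (((muF F q) ×ˢ (muF F q)).filter (fun p => p.1 * c₁ + p.2 * c₂ = y)).card ≤
      2 + if y = 0 then q + 1 else 0 := by
  set S := ((muF F q) ×ˢ (muF F q)).filter (fun p => p.1 * c₁ + p.2 * c₂ = y) with hS
  have hinj : Set.InjOn (fun p : F × F => p.1) (S : Set (F × F)) := by
    intro p hp p' hp' hpp
    simp only [hS, Finset.coe_filter, Finset.mem_product, Set.mem_setOf_eq] at hp hp'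
    simp only at hpp
    have : p.2 * c₂ = p'.2 * c₂ := by
      have e1 := hp.2
      have e2 := hp'.2
      rw [hpp] at e1
      linear_combination e1 - e2
    have h3 : p.2 = p'.2 := mul_right_cancel₀ h2 this
    exact Prod.ext hpp h3
  have hcard : S.card = (S.image (fun p : F × F => p.1)).card :=
    (Finset.card_image_of_injOn hinj).symm
  rw [hcard]
  by_cases hy : y = 0
  · rw [if_pos hy]
    have hsub : S.image (fun p : F × F => p.1) ⊆ muF F q := by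
      intro t ht
      obtain ⟨p, hp, rfl⟩ := Finset.mem_image.mp ht
      simp only [hS, Finset.mem_filter, Finset.mem_product] at hp
      exact hp.1.1
    have := Finset.card_le_card hsub
    rw [card_muF hF] at this
    omega
  · rw [if_neg hy, add_zero]
    apply card_le_two_of_quadratic (a := c₁ * y ^ q)
      (b := c₂ ^ (q + 1) - y ^ (q + 1) - c₁ ^ (q + 1)) (c := y * c₁ ^ q)
    · exact mul_ne_zero h1 (pow_ne_zero _ hy)
    · intro t ht
      obtain ⟨p, hp, rfl⟩ := Finset.mem_image.mp ht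
      simp only [hS, Finset.mem_filter, Finset.mem_product, mem_muF] at hp
      exact pair_quadratic hF hp.1.1 hp.1.2 hp.2

include hF in
/-- there are many pair sums -/
theorem card_pairSums (c₁ c₂ : F) (h1 : c₁ ≠ 0) (h2 : c₂ ≠ 0) :
    q * (q + 1) ≤ 2 * (pairSums q c₁ c₂).card := by
  have hsum := Finset.card_eq_sum_card_image (fun p : F × F => p.1 * c₁ + p.2 * c₂)
    ((muF F q) ×ˢ (muF F q))
  rw [Finset.card_product, card_muF hF] at hsum
  have hle : ∑ b ∈ ((muF F q) ×ˢ (muF F q)).image (fun p : F × F => p.1 * c₁ + p.2 * c₂),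
      (((muF F q) ×ˢ (muF F q)).filter (fun p => p.1 * c₁ + p.2 * c₂ = b)).card ≤
      ∑ b ∈ ((muF F q) ×ˢ (muF F q)).image (fun p : F × F => p.1 * c₁ + p.2 * c₂),
        (2 + if b = 0 then q + 1 else 0) :=
    Finset.sum_le_sum fun b _ => fiber_card_le hF c₁ c₂ h1 h2 b
  rw [Finset.sum_add_distrib, Finset.sum_const, smul_eq_mul] at hle
  have hite : ∑ b ∈ ((muF F q) ×ˢ (muF F q)).image (fun p : F × F => p.1 * c₁ + p.2 * c₂),
      (if b = 0 then q + 1 else 0) ≤ q + 1 := by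
    rw [Finset.sum_ite_eq']
    split_ifs <;> omega
  have hps : (pairSums q c₁ c₂).card =
      (((muF F q) ×ˢ (muF F q)).image (fun p : F × F => p.1 * c₁ + p.2 * c₂)).card := rfl
  rw [hps]
  nlinarith

include hF in
/-- the four-term lemma, with two solutions -/
theorem four_term (c₁ c₂ c₃ c₄ : F) (h1 : c₁ ≠ 0) (h2 : c₂ ≠ 0) (h3 : c₃ ≠ 0) (h4 : c₄ ≠ 0)
    (s : F) :
    ∃ t₁ t₂ t₃ t₄ u₁ u₂ u₃ u₄ : F, t₁ ^ (q + 1) = 1 ∧ t₂ ^ (q + 1) = 1 ∧ t₃ ^ (q + 1) = 1 ∧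
      t₄ ^ (q + 1) = 1 ∧ u₁ ^ (q + 1) = 1 ∧ u₂ ^ (q + 1) = 1 ∧ u₃ ^ (q + 1) = 1 ∧
      u₄ ^ (q + 1) = 1 ∧ t₁ * c₁ + t₂ * c₂ + t₃ * c₃ + t₄ * c₄ = s ∧
      u₁ * c₁ + u₂ * c₂ + u₃ * c₃ + u₄ * c₄ = s ∧ t₁ * c₁ + t₂ * c₂ ≠ u₁ * c₁ + u₂ * c₂ := by
  have hq := two_le_q hF
  set A := pairSums q c₁ c₂ with hA
  set B := (pairSums q c₃ c₄).image (fun y => s - y) with hB
  have hBc : B.card = (pairSums q c₃ c₄).card := by
    apply Finset.card_image_of_injective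
    intro a b hab
    simp only at hab
    linear_combination -hab
  have hcA := card_pairSums hF c₁ c₂ h1 h2
  have hcB := card_pairSums hF c₃ c₄ h3 h4
  rw [← hBc] at hcB
  have hunion : (A ∪ B).card ≤ q ^ 2 := by
    rw [← hF]
    exact Finset.card_le_univ _
  have hiu := Finset.card_inter_add_card_union A B
  have hinter : 1 < (A ∩ B).card := by nlinarith
  obtain ⟨x, hx, y, hy, hxy⟩ := Finset.one_lt_card.mp hinter
  rw [Finset.mem_inter] at hx hy
  obtain ⟨t₁, t₂, ht1, ht2, hxt⟩ := mem_pairSums.mp hx.1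
  obtain ⟨u₁, u₂, hu1, hu2, hyu⟩ := mem_pairSums.mp hy.1
  obtain ⟨x', hx', hxs⟩ := Finset.mem_image.mp hx.2
  obtain ⟨y', hy', hys⟩ := Finset.mem_image.mp hy.2
  obtain ⟨t₃, t₄, ht3, ht4, hxt'⟩ := mem_pairSums.mp hx'
  obtain ⟨u₃, u₄, hu3, hu4, hyu'⟩ := mem_pairSums.mp hy'
  refine ⟨t₁, t₂, t₃, t₄, u₁, u₂, u₃, u₄, ht1, ht2, ht3, ht4, hu1, hu2, hu3, hu4, ?_, ?_, ?_⟩
  · linear_combination hxt + hxt' - hxs
  · linear_combination hyu + hyu' - hys
  · rw [hxt, hyu]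
    exact hxy

end Cfsg.Agent.Lib.Helper8.UM
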