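import Mathlib
import Cfsg.Prelude
import Cfsg.Agent.Lib.Helper8.UM2
import Cfsg.Agent.Lib.Helper5.SUCentres

set_option autoImplicit false
set_option linter.unusedVariables false
set_option linter.unusedSectionVars false
set_option linter.style.longLine false

/-! Arithmetic of `θ(t) = N(1 - t)` for `t` of norm one. -/

namespace Cfsg.Agent.Lib.Helper8.UM

open Cfsg.Agent.Lib.Helper5 Cfsg.Agent.Lib.Helper5.Herm
open scoped Classical

variable {F : Type*} [Field F] [Fintype F] {q : ℕ} (hF : Fintype.card F = q ^ 2)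

include hF in
theorem theta_eq {t : F} (ht : t ^ (q + 1) = 1) : (1 - t) ^ (q + 1) = 2 - t - t⁻¹ := by
  have h0 := mu_ne_zero ht
  rw [pow_succ, pow_q_sub hF, one_pow, mu_conj ht]
  field_simp
  ring

include hF in
theorem theta_fixed (t : F) : ((1 - t) ^ (q + 1)) ^ q = (1 - t) ^ (q + 1) :=
  SUCentres.pow_q_norm hF _

theorem theta_ne_zero {t : F} (ht : t ≠ 1) : (1 - t) ^ (q + 1) ≠ 0 :=
  pow_ne_zero _ (sub_ne_zero.mpr (Ne.symm ht))

include hF in
theorem theta_inj {t t' : F} (ht : t ^ (q + 1) = 1) (ht' : t' ^ (q + 1) = 1)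
    (h : (1 - t) ^ (q + 1) = (1 - t') ^ (q + 1)) : t' = t ∨ t' = t⁻¹ := by
  rw [theta_eq hF ht, theta_eq hF ht'] at h
  have h0 := mu_ne_zero ht
  have h0' := mu_ne_zero ht'
  have h1 : (t' - t) * (t' * t - 1) = 0 := by
    have h2 : t + t⁻¹ = t' + t'⁻¹ := by linear_combination -h
    field_simp at h2
    linear_combination -h2
  rcases mul_eq_zero.mp h1 with h3 | h3
  · left
    exact sub_eq_zero.mp h3
  · right
    exact eq_inv_of_mul_eq_one_left (sub_eq_zero.mp h3)

/-- the fixed field as a finset -/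
noncomputable def Fq (F : Type*) [Field F] [Fintype F] (q : ℕ) : Finset F :=
  Finset.univ.filter (fun c => c ^ q = c)

/-- the non-zero elements of the fixed field -/
noncomputable def FqX (F : Type*) [Field F] [Fintype F] (q : ℕ) : Finset F :=
  Finset.univ.filter (fun c => c ≠ 0 ∧ c ^ q = c)

theorem mem_Fq {c : F} : c ∈ Fq F q ↔ c ^ q = c := by
  unfold Fq
  simp

theorem mem_FqX {c : F} : c ∈ FqX F q ↔ c ≠ 0 ∧ c ^ q = c := by
  unfold FqX
  simp

include hF in
theorem card_FqX : (FqX F q).card = q - 1 := by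
  have h := HermCount.card_fixed hF
  rw [Nat.card_eq_fintype_card, Fintype.card_subtype] at h
  exact h

include hF in
theorem card_Fq : (Fq F q).card = q := by
  have hq := two_le_q hF
  have h : Fq F q = insert 0 (FqX F q) := by
    ext c
    rw [Finset.mem_insert, mem_Fq, mem_FqX]
    constructor
    · intro hc
      by_cases h0 : c = 0
      · left; exact h0
      · right; exact ⟨h0, hc⟩
    · rintro (rfl | ⟨_, hc⟩)
      · exact zero_pow (q_ne_zero hF)
      · exact hc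
  rw [h, Finset.card_insert_of_notMem, card_FqX hF]
  · omega
  · rw [mem_FqX]
    exact fun h => h.1 rfl

/-- the values of `θ` on a finset of norm-one elements -/
noncomputable def thetaImg (q : ℕ) (s : Finset F) : Finset F := s.image (fun t => (1 - t) ^ (q + 1))

include hF in
theorem card_thetaImg (s : Finset F) (hs : s ⊆ muF F q) : s.card ≤ 2 * (thetaImg q s).card := by
  unfold thetaImg
  apply Finset.card_le_mul_card_image
  intro b hb
  by_cases he : (s.filter (fun t => (1 - t) ^ (q + 1) = b)) = ∅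
  · rw [he]; simp
  · obtain ⟨t, ht⟩ := Finset.nonempty_iff_ne_empty.mpr he
    rw [Finset.mem_filter] at ht
    have hsub : s.filter (fun t => (1 - t) ^ (q + 1) = b) ⊆ {t, t⁻¹} := by
      intro t' ht'
      rw [Finset.mem_filter] at ht'
      rw [Finset.mem_insert, Finset.mem_singleton]
      exact theta_inj hF (mem_muF.mp (hs ht.1)) (mem_muF.mp (hs ht'.1)) (ht.2.trans ht'.2.symm)
    exact (Finset.card_le_card hsub).trans Finset.card_le_two

include hF in
/-- (Z): a zero sum with two non-trivial terms -/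
theorem exists_theta_zero (ν₁ ν₂ : F) (h1 : ν₁ ≠ 0) (h2 : ν₂ ≠ 0) (h1q : ν₁ ^ q = ν₁)
    (h2q : ν₂ ^ q = ν₂) :
    ∃ t₁ t₂ : F, t₁ ^ (q + 1) = 1 ∧ t₂ ^ (q + 1) = 1 ∧ t₁ ≠ 1 ∧ t₂ ≠ 1 ∧
      (1 - t₁) ^ (q + 1) * ν₁ + (1 - t₂) ^ (q + 1) * ν₂ = 0 := by
  have hq := two_le_q hF
  set S := (muF F q).erase 1 with hS
  have hSsub : S ⊆ muF F q := Finset.erase_subset _ _
  have hScard : S.card = q := by
    rw [hS, Finset.card_erase_of_mem (mem_muF.mpr (one_pow _)), card_muF hF]
    rfl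
  have hT := card_thetaImg hF S hSsub
  rw [hScard] at hT
  set A := (thetaImg q S).image (fun x => x * ν₁) with hA
  set B := (thetaImg q S).image (fun x => -(x * ν₂)) with hB
  have hAc : A.card = (thetaImg q S).card :=
    Finset.card_image_of_injective _ (fun a b hab => mul_right_cancel₀ h1 hab)
  have hBc : B.card = (thetaImg q S).card :=
    Finset.card_image_of_injective _ (fun a b hab => mul_right_cancel₀ h2 (neg_injective hab))
  have hmemT : ∀ x ∈ thetaImg q S, x ≠ 0 ∧ x ^ q = x := by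
    intro x hx
    unfold thetaImg at hx
    obtain ⟨t, ht, rfl⟩ := Finset.mem_image.mp hx
    rw [hS, Finset.mem_erase] at ht
    exact ⟨theta_ne_zero ht.1, theta_fixed hF t⟩
  have hAsub : A ⊆ FqX F q := by
    intro y hy
    obtain ⟨x, hx, rfl⟩ := Finset.mem_image.mp hy
    rw [mem_FqX]
    exact ⟨mul_ne_zero (hmemT x hx).1 h1, by rw [mul_pow, (hmemT x hx).2, h1q]⟩
  have hBsub : B ⊆ FqX F q := by
    intro y hy
    obtain ⟨x, hx, rfl⟩ := Finset.mem_image.mp hy
    rw [mem_FqX]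
    refine ⟨neg_ne_zero.mpr (mul_ne_zero (hmemT x hx).1 h2), ?_⟩
    rw [pow_q_neg hF, mul_pow, (hmemT x hx).2, h2q]
  have hne : (A ∩ B).Nonempty := by
    apply Finset.inter_nonempty_of_card_lt_card_add_card hAsub hBsub
    rw [card_FqX hF, hAc, hBc]
    omega
  obtain ⟨y, hy⟩ := hne
  rw [Finset.mem_inter] at hy
  obtain ⟨x₁, hx₁, hy₁⟩ := Finset.mem_image.mp hy.1
  obtain ⟨x₂, hx₂, hy₂⟩ := Finset.mem_image.mp hy.2
  unfold thetaImg at hx₁ hx₂
  obtain ⟨t₁, ht₁, rfl⟩ := Finset.mem_image.mp hx₁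
  obtain ⟨t₂, ht₂, rfl⟩ := Finset.mem_image.mp hx₂
  rw [hS, Finset.mem_erase, mem_muF] at ht₁ ht₂
  refine ⟨t₁, t₂, ht₁.2, ht₂.2, ht₁.1, ht₂.1, ?_⟩
  linear_combination hy₁ - hy₂

include hF in
/-- (O'): a unit sum with a non-trivial first term -/
theorem exists_theta_one (ν₃ ν₄ : F) (h3 : ν₃ ≠ 0) (h4 : ν₄ ≠ 0) (h3q : ν₃ ^ q = ν₃)
    (h4q : ν₄ ^ q = ν₄) :
    ∃ t₃ t₄ : F, t₃ ^ (q + 1) = 1 ∧ t₄ ^ (q + 1) = 1 ∧ t₃ ≠ 1 ∧
      (1 - t₃) ^ (q + 1) * ν₃ + (1 - t₄) ^ (q + 1) * ν₄ = 1 := by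
  have hq := two_le_q hF
  set S := (muF F q).erase 1 with hS
  have hSsub : S ⊆ muF F q := Finset.erase_subset _ _
  have hScard : S.card = q := by
    rw [hS, Finset.card_erase_of_mem (mem_muF.mpr (one_pow _)), card_muF hF]
    rfl
  have hT := card_thetaImg hF S hSsub
  rw [hScard] at hT
  have hT' := card_thetaImg hF (muF F q) (Finset.Subset.refl _)
  rw [card_muF hF] at hT'
  set A := (thetaImg q S).image (fun x => x * ν₃) with hA
  set B := (thetaImg q (muF F q)).image (fun x => 1 - x * ν₄) with hB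
  have hAc : A.card = (thetaImg q S).card :=
    Finset.card_image_of_injective _ (fun a b hab => mul_right_cancel₀ h3 hab)
  have hBc : B.card = (thetaImg q (muF F q)).card := by
    apply Finset.card_image_of_injective
    intro a b hab
    simp only at hab
    exact mul_right_cancel₀ h4 (by linear_combination -hab)
  have hAsub : A ⊆ Fq F q := by
    intro y hy
    obtain ⟨x, hx, rfl⟩ := Finset.mem_image.mp hy
    unfold thetaImg at hx
    obtain ⟨t, ht, rfl⟩ := Finset.mem_image.mp hx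
    rw [mem_Fq, mul_pow, theta_fixed hF, h3q]
  have hBsub : B ⊆ Fq F q := by
    intro y hy
    obtain ⟨x, hx, rfl⟩ := Finset.mem_image.mp hy
    unfold thetaImg at hx
    obtain ⟨t, ht, rfl⟩ := Finset.mem_image.mp hx
    rw [mem_Fq, pow_q_sub hF, one_pow, mul_pow, theta_fixed hF, h4q]
  have hne : (A ∩ B).Nonempty := by
    apply Finset.inter_nonempty_of_card_lt_card_add_card hAsub hBsub
    rw [card_Fq hF, hAc, hBc]
    omega
  obtain ⟨y, hy⟩ := hne
  rw [Finset.mem_inter] at hy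
  obtain ⟨x₁, hx₁, hy₁⟩ := Finset.mem_image.mp hy.1
  obtain ⟨x₂, hx₂, hy₂⟩ := Finset.mem_image.mp hy.2
  unfold thetaImg at hx₁ hx₂
  obtain ⟨t₃, ht₃, rfl⟩ := Finset.mem_image.mp hx₁
  obtain ⟨t₄, ht₄, rfl⟩ := Finset.mem_image.mp hx₂
  rw [hS, Finset.mem_erase, mem_muF] at ht₃
  rw [mem_muF] at ht₄
  refine ⟨t₃, t₄, ht₃.2, ht₄, ht₃.1, ?_⟩
  linear_combination hy₁ - hy₂

end Cfsg.Agent.Lib.Helper8.UM
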