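import Mathlib
import Cfsg.Prelude
import Cfsg.Agent.Lib.Helper8.UM3

set_option autoImplicit false
set_option linter.unusedVariables false
set_option linter.unusedSectionVars false
set_option linter.style.longLine false

/-! Additive subgroups of the trace-zero line. -/

namespace Cfsg.Agent.Lib.Helper8.UM

open Cfsg.Agent.Lib.Helper5 Cfsg.Agent.Lib.Helper5.Herm
open scoped Classical

variable {F : Type*} [Field F] [Fintype F] {q : ℕ} (hF : Fintype.card F = q ^ 2)

include hF in
/-- the trace-zero elements, as an additive subgroup -/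
def Z0 : AddSubgroup F where
  carrier := {c | c ^ q = -c}
  add_mem' := by
    intro a b ha hb
    simp only [Set.mem_setOf_eq] at ha hb ⊢
    rw [pow_q_add hF, ha, hb]
    ring
  zero_mem' := by
    simp only [Set.mem_setOf_eq]
    rw [zero_pow (q_ne_zero hF), neg_zero]
  neg_mem' := by
    intro a ha
    simp only [Set.mem_setOf_eq] at ha ⊢
    rw [pow_q_neg hF, ha]

theorem mem_Z0 {c : F} : c ∈ Z0 hF ↔ c ^ q = -c := Iff.rfl

include hF in
theorem card_Z0_finset : (Finset.univ.filter (fun c : F => c ^ q = -c)).card = q := by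
  obtain ⟨δ, hδ0, hδ⟩ := HermTv.exists_trace_zero hF
  refine Eq.trans (Eq.symm ?_) (card_Fq hF)
  apply Finset.card_bij (fun c _ => δ * c)
  · intro c hc
    rw [mem_Fq] at hc
    simp only [Finset.mem_filter, Finset.mem_univ, true_and]
    rw [mul_pow, hδ, hc]
    ring
  · intro a _ b _ hab
    exact mul_left_cancel₀ hδ0 hab
  · intro z hz
    simp only [Finset.mem_filter, Finset.mem_univ, true_and] at hz
    refine ⟨z / δ, ?_, ?_⟩
    · rw [mem_Fq, div_pow, hz, hδ, neg_div_neg_eq]
    · field_simp

include hF in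
theorem card_Z0 : Nat.card (Z0 hF) = q := by
  have h1 : Nat.card (Z0 hF) = Nat.card {c : F // c ^ q = -c} :=
    Nat.card_congr (Equiv.subtypeEquivRight (fun c => mem_Z0 hF))
  rw [h1, Nat.card_eq_fintype_card, Fintype.card_subtype]
  exact card_Z0_finset hF

include hF in
/-- an additive subgroup of the trace-zero line containing all `θ(t) κ₀` is everything -/
theorem addsub_full (C : AddSubgroup F) (hC : ∀ c ∈ C, c ^ q = -c) (κ₀ : F) (hκ : κ₀ ≠ 0)
    (h : ∀ t : F, t ^ (q + 1) = 1 → t ≠ 1 → (1 - t) ^ (q + 1) * κ₀ ∈ C) :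
    ∀ c : F, c ^ q = -c → c ∈ C := by
  have hq := two_le_q hF
  have hle : C ≤ Z0 hF := fun c hc => hC c hc
  have hdvd := AddSubgroup.card_dvd_of_le hle
  rw [card_Z0 hF] at hdvd
  -- lower bound
  set S := (muF F q).erase 1 with hS
  have hSsub : S ⊆ muF F q := Finset.erase_subset _ _
  have hScard : S.card = q := by
    rw [hS, Finset.card_erase_of_mem (mem_muF.mpr (one_pow _)), card_muF hF]
    rfl
  have hT := card_thetaImg hF S hSsub
  rw [hScard] at hT
  set T : Finset F := insert 0 ((thetaImg q S).image (fun x => x * κ₀)) with hTdef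
  have hTc : T.card = (thetaImg q S).card + 1 := by
    rw [hTdef, Finset.card_insert_of_notMem, Finset.card_image_of_injective _
      (fun a b hab => mul_right_cancel₀ hκ hab)]
    intro h0
    obtain ⟨x, hx, hx0⟩ := Finset.mem_image.mp h0
    unfold thetaImg at hx
    obtain ⟨t, ht, rfl⟩ := Finset.mem_image.mp hx
    rw [hS, Finset.mem_erase] at ht
    exact mul_ne_zero (theta_ne_zero ht.1) hκ hx0
  have hTsub : ∀ x ∈ T, x ∈ C := by
    intro x hx
    rw [hTdef, Finset.mem_insert] at hx
    rcases hx with rfl | hx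
    · exact C.zero_mem
    · obtain ⟨y, hy, rfl⟩ := Finset.mem_image.mp hx
      unfold thetaImg at hy
      obtain ⟨t, ht, rfl⟩ := Finset.mem_image.mp hy
      rw [hS, Finset.mem_erase, mem_muF] at ht
      exact h t ht.2 ht.1
  have hcardC : T.card ≤ Nat.card C := by
    rw [Nat.card_eq_fintype_card, ← Finset.card_univ]
    have : T.card = (T.attach.image (fun x => (⟨x.1, hTsub x.1 x.2⟩ : C))).card := by
      rw [Finset.card_image_of_injective, Finset.card_attach]
      intro a b hab
      exact Subtype.ext (Subtype.mk.inj hab)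
    rw [this]
    exact Finset.card_le_card (Finset.subset_univ _)
  have hCeq : Nat.card C = q := by
    obtain ⟨k, hk⟩ := hdvd
    have hk0 : k ≠ 0 := by
      rintro rfl
      omega
    have hk2 : k < 2 := by
      by_contra hk2
      push Not at hk2
      have : 2 * Nat.card C ≤ q := by
        rw [hk]
        nlinarith
      omega
    have : k = 1 := by omega
    rw [this, mul_one] at hk
    exact hk.symm
  have heq : C = Z0 hF := by
    apply AddSubgroup.eq_of_le_of_card_ge hle
    rw [card_Z0 hF, hCeq]
  intro c hc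
  rw [heq]
  exact hc

end Cfsg.Agent.Lib.Helper8.UM
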