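import Mathlib
import Cfsg.Prelude
import Cfsg.Agent.Lib.Helper8.UM0
import Cfsg.Agent.Lib.Helper8.UM4
import Cfsg.Agent.Lib.Helper5.HermCenter

set_option autoImplicit false
set_option linter.unusedVariables false
set_option linter.unusedSectionVars false
set_option linter.style.longLine false

/-! Basic facts on unitary matrices in `GL`, monomial unitary elements. -/

namespace Cfsg.Agent.Lib.Helper8.UM

open Matrix Cfsg.Agent.Lib.Helper5 Cfsg.Agent.Lib.Helper5.Herm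
open scoped Classical

variable {F : Type*} [Field F] [Fintype F] {q : ℕ} (hF : Fintype.card F = q ^ 2) {n : ℕ}

/-- standard basis vector -/
abbrev ev (i : Fin n) : Fin n → F := Pi.single i 1

theorem mulVec_ev (A : Matrix (Fin n) (Fin n) F) (j : Fin n) : A *ᵥ (ev j : Fin n → F) = fun i => A i j := by
  ext i
  rw [Matrix.mulVec_single_one]
  rfl

theorem GU_herm {g : GL (Fin n) F} (hg : g ∈ Cfsg.GU n F q) (u v : Fin n → F) :
    hermForm n F q ((g : Matrix (Fin n) (Fin n) F) *ᵥ u) ((g : Matrix (Fin n) (Fin n) F) *ᵥ v) =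
      hermForm n F q u v := hg u v

include hF in
theorem GU_inv_val {g : GL (Fin n) F} (hg : g ∈ Cfsg.GU n F q) :
    ((g⁻¹ : GL (Fin n) F) : Matrix (Fin n) (Fin n) F) = ((g : Matrix (Fin n) (Fin n) F).map (· ^ q))ᵀ := by
  have h := (HermBlock.mem_GU_iff hF g).mp hg
  have h2 : (((g : Matrix (Fin n) (Fin n) F).map (· ^ q))ᵀ) * (g : Matrix (Fin n) (Fin n) F) = 1 := by
    have := congrArg Matrix.transpose h
    rw [Matrix.transpose_mul, Matrix.transpose_transpose, Matrix.transpose_one] at this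
    exact this
  rw [Matrix.coe_units_inv]
  exact Matrix.inv_eq_left_inv h2

include hF in
theorem GU_inv_apply {g : GL (Fin n) F} (hg : g ∈ Cfsg.GU n F q) (i j : Fin n) :
    ((g⁻¹ : GL (Fin n) F) : Matrix (Fin n) (Fin n) F) i j = ((g : Matrix (Fin n) (Fin n) F) j i) ^ q := by
  rw [GU_inv_val hF hg]
  rfl

include hF in
theorem GU_col_orth {g : GL (Fin n) F} (hg : g ∈ Cfsg.GU n F q) (x y : Fin n) :
    ∑ k, (g : Matrix (Fin n) (Fin n) F) k x * ((g : Matrix (Fin n) (Fin n) F) k y) ^ q =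
      if x = y then 1 else 0 := by
  have h := (HermBlock.mem_GU_iff hF g).mp hg
  have := congrFun (congrFun h x) y
  rw [Matrix.mul_apply, Matrix.one_apply] at this
  rw [← this]
  rfl

include hF in
theorem GU_row_orth {g : GL (Fin n) F} (hg : g ∈ Cfsg.GU n F q) (x y : Fin n) :
    ∑ k, (g : Matrix (Fin n) (Fin n) F) x k * ((g : Matrix (Fin n) (Fin n) F) y k) ^ q =
      if x = y then 1 else 0 := by
  have h1 : (g : Matrix (Fin n) (Fin n) F) * ((g⁻¹ : GL (Fin n) F) : Matrix (Fin n) (Fin n) F) = 1 := by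
    rw [← Units.val_mul, mul_inv_cancel, Units.val_one]
  have := congrFun (congrFun h1 x) y
  rw [Matrix.mul_apply, Matrix.one_apply] at this
  rw [← this]
  exact Finset.sum_congr rfl (fun k _ => by rw [GU_inv_apply hF hg])

/-- monomial element with permutation `σ` and norm-one entries `τ` -/
noncomputable def mon (σ : Equiv.Perm (Fin n)) (τ : Fin n → F) (hτ : ∀ i, τ i ^ (q + 1) = 1) :
    GL (Fin n) F :=
  Mono.gpm σ (fun i => Units.mk0 (τ i) (mu_ne_zero (hτ i)))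

theorem mon_apply (σ : Equiv.Perm (Fin n)) (τ : Fin n → F) (hτ : ∀ i, τ i ^ (q + 1) = 1)
    (a b : Fin n) :
    ((mon σ τ hτ : GL (Fin n) F) : Matrix (Fin n) (Fin n) F) a b = if a = σ b then τ b else 0 := by
  unfold mon
  rw [Mono.gpm_apply]
  rfl

theorem mon_val (σ : Equiv.Perm (Fin n)) (τ : Fin n → F) (hτ : ∀ i, τ i ^ (q + 1) = 1) :
    ((mon σ τ hτ : GL (Fin n) F) : Matrix (Fin n) (Fin n) F) = Mono.gpmMat σ τ := by
  ext a b
  rw [mon_apply]
  rfl

theorem mon_mulVec (σ : Equiv.Perm (Fin n)) (τ : Fin n → F) (hτ : ∀ i, τ i ^ (q + 1) = 1)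
    (v : Fin n → F) :
    ((mon σ τ hτ : GL (Fin n) F) : Matrix (Fin n) (Fin n) F) *ᵥ v =
      fun a => τ (σ⁻¹ a) * v (σ⁻¹ a) := by
  ext a
  rw [Matrix.mulVec, dotProduct, Finset.sum_eq_single (σ⁻¹ a)]
  · rw [mon_apply, if_pos (by simp)]
  · intro b _ hb
    rw [mon_apply, if_neg, zero_mul]
    intro h
    apply hb
    rw [h]
    simp
  · intro h
    exact absurd (Finset.mem_univ _) h

theorem isMono_mon (σ : Equiv.Perm (Fin n)) (τ : Fin n → F) (hτ : ∀ i, τ i ^ (q + 1) = 1) :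
    Mono.IsMono ((mon σ τ hτ : GL (Fin n) F) : Matrix (Fin n) (Fin n) F) := by
  rw [mon_val]
  exact Mono.isMono_gpmMat σ τ

include hF in
theorem mon_mem_GU (σ : Equiv.Perm (Fin n)) (τ : Fin n → F) (hτ : ∀ i, τ i ^ (q + 1) = 1) :
    mon σ τ hτ ∈ Cfsg.GU n F q := by
  rw [HermCenter.mem_GU_iff' hF, mon_val, Mono.gpmMat_eq]
  exact HermCenter.isU_mul hF (HermCenter.isU_perm hF _) (HermCenter.isU_diagonal hF τ hτ)

theorem det_mon (σ : Equiv.Perm (Fin n)) (τ : Fin n → F) (hτ : ∀ i, τ i ^ (q + 1) = 1) :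
    ((mon σ τ hτ : GL (Fin n) F) : Matrix (Fin n) (Fin n) F).det =
      ((Equiv.Perm.sign σ : ℤ) : F) * ∏ i, τ i := by
  rw [mon_val, Mono.det_gpmMat]

include hF in
theorem mon_mem {X : Subgroup (GL (Fin n) F)} (hX : Ctx n F q X) (σ : Equiv.Perm (Fin n))
    (τ : Fin n → F) (hτ : ∀ i, τ i ^ (q + 1) = 1)
    (hdet : ((Equiv.Perm.sign σ : ℤ) : F) * ∏ i, τ i = 1) : mon σ τ hτ ∈ X := by
  apply hX.mono _ (isMono_mon σ τ hτ)
  refine Subgroup.mem_inf.mpr ⟨mon_mem_GU hF σ τ hτ, ?_⟩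
  rw [Mono.mem_SL, det_mon]
  exact hdet

/-- diagonal element -/
noncomputable def dgm (τ : Fin n → F) (hτ : ∀ i, τ i ^ (q + 1) = 1) : GL (Fin n) F := mon 1 τ hτ

theorem dgm_mulVec (τ : Fin n → F) (hτ : ∀ i, τ i ^ (q + 1) = 1) (v : Fin n → F) :
    ((dgm τ hτ : GL (Fin n) F) : Matrix (Fin n) (Fin n) F) *ᵥ v = fun a => τ a * v a := by
  unfold dgm
  rw [mon_mulVec]
  simp

theorem dgm_apply (τ : Fin n → F) (hτ : ∀ i, τ i ^ (q + 1) = 1) (a b : Fin n) :
    ((dgm τ hτ : GL (Fin n) F) : Matrix (Fin n) (Fin n) F) a b = if a = b then τ b else 0 := by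
  unfold dgm
  rw [mon_apply]
  by_cases h : a = b
  · rw [if_pos h, if_pos (by simpa using h)]
  · rw [if_neg h, if_neg (by simpa using h)]

include hF in
theorem dgm_mem {X : Subgroup (GL (Fin n) F)} (hX : Ctx n F q X) (τ : Fin n → F)
    (hτ : ∀ i, τ i ^ (q + 1) = 1) (hdet : ∏ i, τ i = 1) : dgm τ hτ ∈ X := by
  apply mon_mem hF hX
  rw [Equiv.Perm.sign_one]
  simpa using hdet

include hF in
theorem dgm_mem_GU (τ : Fin n → F) (hτ : ∀ i, τ i ^ (q + 1) = 1) : dgm τ hτ ∈ Cfsg.GU n F q :=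
  mon_mem_GU hF 1 τ hτ

end Cfsg.Agent.Lib.Helper8.UM
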