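import Mathlib
import Cfsg.Prelude.Def_Local
import Cfsg.Prelude.Def_CaseTheorems
import Cfsg.Agent.Lib.Helper3.A8Emb
import Cfsg.Agent.Lib.Helper2.HHDual
import Cfsg.Agent.Lib.Helper4.Sg42K
import Cfsg.Agent.S0495
import Cfsg.Agent.S0255

set_option autoImplicit false
set_option linter.unusedVariables false
set_option linter.unusedSectionVars false
set_option linter.style.longLine false
set_option linter.deprecated false
set_option maxHeartbeats 1000000

/-! # S3104 farm: glue for part (1) (the four-way disjunction), in the `of` pattern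

`concl_of` takes the units (orbit reduction, cases (a), (b), (c), (d)) as hypotheses in the shapes
announced by their owners and produces the conclusion for an abstract `Y`; `part_one_of` specialises
to `Y = X ⧸ O_2(X)`. -/

namespace Cfsg.Agent.Lib.Helper8.A8Glue

open Cfsg

/-- the conclusion of part (1) of S3104 for a group `Y` -/
def Concl (Y : Type*) [Group Y] : Prop :=
  (∃ (F : Type) (_ : Field F) (_ : Fintype F), Fintype.card F = 2 ∧
      Nonempty (Y ≃* Matrix.ProjectiveSpecialLinearGroup (Fin 3) F)) ∨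
    (∃ n : ℕ, 5 ≤ n ∧ n ≤ 8 ∧ Nonempty (Y ≃* ↥(alternatingGroup (Fin n)))) ∨
    (∃ n : ℕ, 5 ≤ n ∧ n ≤ 7 ∧ Nonempty (Y ≃* Equiv.Perm (Fin n))) ∨
    (Nat.card ↥(Cfsg.pCore 3 Y) = 3 ∧
      (Nonempty (Y ⧸ Cfsg.pCore 3 Y ≃* ↥(alternatingGroup (Fin 5))) ∨
        Nonempty (Y ⧸ Cfsg.pCore 3 Y ≃* Equiv.Perm (Fin 5))))

/-- shape of unit (a) (helper3's `case_five`) for a fixed `Y` -/
def UnitA (Y : Type*) [Group Y] : Prop :=
  ∀ g : Y →* Equiv.Perm (Fin 5), ¬ Group.IsSolvable ↥g.range → Nat.card ↥g.ker ∣ 3 →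
    Nonempty (Y ≃* ↥(alternatingGroup (Fin 5))) ∨ Nonempty (Y ≃* Equiv.Perm (Fin 5)) ∨
      (Nat.card ↥(Cfsg.pCore 3 Y) = 3 ∧
        (Nonempty (Y ⧸ Cfsg.pCore 3 Y ≃* ↥(alternatingGroup (Fin 5))) ∨
          Nonempty (Y ⧸ Cfsg.pCore 3 Y ≃* Equiv.Perm (Fin 5))))

/-- shape of unit (b) (helper4's `sub_S6`) -/
def UnitB : Prop :=
  ∀ H : Subgroup (Equiv.Perm (Fin 6)), ¬ Group.IsSolvable ↥H →
    (∀ N : Subgroup ↥H, N.Normal → IsPGroup 2 ↥N → N = ⊥) →
    Nonempty (↥H ≃* ↥(alternatingGroup (Fin 5))) ∨ Nonempty (↥H ≃* Equiv.Perm (Fin 5)) ∨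
      Nonempty (↥H ≃* ↥(alternatingGroup (Fin 6))) ∨ Nonempty (↥H ≃* Equiv.Perm (Fin 6))

/-- shape of unit (c) (helper8's `sub_S7`, with `F := ZMod 2`) -/
def UnitC : Prop :=
  ∀ H : Subgroup (Equiv.Perm (Fin 7)), MulAction.IsPretransitive ↥H (Fin 7) → ¬ Group.IsSolvable ↥H →
    Nonempty (↥H ≃* Matrix.ProjectiveSpecialLinearGroup (Fin 3) (ZMod 2)) ∨
      Nonempty (↥H ≃* ↥(alternatingGroup (Fin 7))) ∨ Nonempty (↥H ≃* Equiv.Perm (Fin 7))

/-- shape of unit (d) (helper9's `transitive_eight`) -/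
def UnitD : Prop :=
  ∀ Y' : Subgroup (Equiv.Perm (Fin 8)), Y' ≤ alternatingGroup (Fin 8) →
    MulAction.IsPretransitive ↥Y' (Fin 8) → ¬ Group.IsSolvable ↥Y' →
    (∀ N : Subgroup ↥Y', N.Normal → IsPGroup 2 ↥N → N = ⊥) →
    (∃ (E : Type) (_ : CommGroup E) (_ : Finite E), (∀ e : E, e * e = 1) ∧ Nat.card E ≤ 16 ∧
      ∃ ρ : ↥Y' →* MulAut E, Function.Injective ρ) →
    (Nat.card ↥Y' = 168 ∧ IsSimpleGroup ↥Y') ∨ Y' = alternatingGroup (Fin 8)

/-- shape of the orbit reduction (helper3's `orbit_reduction`) for fixed `Y`, `f` -/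
def UnitOR (Y : Type*) [Group Y] (f : Y →* ↥(alternatingGroup (Fin 8))) : Prop :=
  (∀ i j : Fin 8, ∃ y : Y, ((f y : ↥(alternatingGroup (Fin 8))) : Equiv.Perm (Fin 8)) i = j) ∨
    ∃ (n : ℕ) (g : Y →* Equiv.Perm (Fin n)), 5 ≤ n ∧ n ≤ 7 ∧ ¬ Group.IsSolvable ↥g.range ∧
      MulAction.IsPretransitive ↥g.range (Fin n) ∧ (6 ≤ n → Function.Injective g) ∧
      (n = 5 → Nat.card ↥g.ker ∣ 3)

/-- a simple group of order 168 is `PSL(3, ZMod 2)` -/
theorem psl32_of_card {G : Type*} [Group G] [Finite G] [IsSimpleGroup G]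
    (h : Nat.card G = 168) :
    Nonempty (G ≃* Matrix.ProjectiveSpecialLinearGroup (Fin 3) (ZMod 2)) := by
  have : Fact (Nat.Prime 7) := ⟨by norm_num⟩
  obtain ⟨e1⟩ := Cfsg.Agent.S0495.result (G := G) h (F := ZMod 7) (by simp [ZMod.card])
  obtain ⟨e2⟩ := Cfsg.Agent.S0255.result (F := ZMod 7) (K := ZMod 2) (by simp [ZMod.card])
    (by simp [ZMod.card])
  exact ⟨e1.trans e2⟩

/-- `O_2 = 1` in the quantified form -/
theorem no_normal_two {H : Type*} [Group H] (h : Cfsg.pCore 2 H = ⊥) :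
    ∀ N : Subgroup H, N.Normal → IsPGroup 2 ↥N → N = ⊥ := by
  intro N hN hp
  have := Cfsg.Agent.Lib.Helper1.le_pCore hN hp
  rw [h] at this
  exact le_bot_iff.mp this

/-- the linear group of `F_2^4` acts on the multiplicative copy of `F_2^4` -/
def linToMulAut : ((Fin 4 → ZMod 2) ≃ₗ[ZMod 2] (Fin 4 → ZMod 2)) →*
    MulAut (Multiplicative (Fin 4 → ZMod 2)) where
  toFun e := AddEquiv.toMultiplicative e.toAddEquiv
  map_one' := by ext; rfl
  map_mul' a b := by ext; rfl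

theorem linToMulAut_injective : Function.Injective linToMulAut := by
  intro a b hab
  ext x i
  have h1 := congrArg (fun φ : MulAut (Multiplicative (Fin 4 → ZMod 2)) =>
    Multiplicative.toAdd (φ (Multiplicative.ofAdd x))) hab
  exact congrFun h1 i

/-- the data `hV` of unit (d), for a group with an injective hom to the linear group of `F_2^4` -/
theorem hV_of {Y' : Type*} [Group Y']
    (σ : Y' →* ((Fin 4 → ZMod 2) ≃ₗ[ZMod 2] (Fin 4 → ZMod 2))) (hσ : Function.Injective σ) :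
    ∃ (E : Type) (_ : CommGroup E) (_ : Finite E), (∀ e : E, e * e = 1) ∧ Nat.card E ≤ 16 ∧
      ∃ ρ : Y' →* MulAut E, Function.Injective ρ := by
  refine ⟨Multiplicative (Fin 4 → ZMod 2), inferInstance, inferInstance, ?_, ?_,
    linToMulAut.comp σ, linToMulAut_injective.comp hσ⟩
  · intro e
    have : Multiplicative.toAdd e + Multiplicative.toAdd e = 0 := by
      ext i
      have h2 : ∀ a : ZMod 2, a + a = 0 := by decide
      exact h2 _
    change Multiplicative.ofAdd (Multiplicative.toAdd e + Multiplicative.toAdd e) = 1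
    rw [this]; rfl
  · have : Nat.card (Multiplicative (Fin 4 → ZMod 2)) = 16 := by
      rw [Nat.card_eq_fintype_card]
      change Fintype.card (Fin 4 → ZMod 2) = 16
      simp [ZMod.card]
    omega

/-- the abstract glue -/
theorem concl_of {Y : Type*} [Group Y] [Finite Y]
    (f : Y →* ↥(alternatingGroup (Fin 8))) (hf : Function.Injective f)
    (hns : ¬ Group.IsSolvable Y) (hO2 : Cfsg.pCore 2 Y = ⊥)
    (σ : Y →* ((Fin 4 → ZMod 2) ≃ₗ[ZMod 2] (Fin 4 → ZMod 2))) (hσ : Function.Injective σ)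
    (hOR : UnitOR Y f) (hA : UnitA Y) (hB : UnitB) (hC : UnitC) (hD : UnitD) : Concl Y := by
  rcases hOR with htr | ⟨n, g, h5, h7, hnsg, htrg, hinj, hker⟩
  · -- transitive on 8 points
    let F8 : Y →* Equiv.Perm (Fin 8) := (alternatingGroup (Fin 8)).subtype.comp f
    have hF8 : Function.Injective F8 := (Subgroup.subtype_injective _).comp hf
    let e : Y ≃* ↥F8.range := MonoidHom.ofInjective hF8
    have hle : F8.range ≤ alternatingGroup (Fin 8) := by
      rintro _ ⟨y, rfl⟩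
      exact (f y).2
    have htr' : MulAction.IsPretransitive ↥F8.range (Fin 8) := by
      refine ⟨fun i j => ?_⟩
      obtain ⟨y, hy⟩ := htr i j
      exact ⟨⟨F8 y, ⟨y, rfl⟩⟩, hy⟩
    have hns' : ¬ Group.IsSolvable ↥F8.range := by
      intro h
      have : Group.IsSolvable ↥F8.range := h
      exact hns (solvable_of_solvable_injective e.injective)
    have hO2' := no_normal_two (Cfsg.Agent.Lib.Helper4.Sg42.pCore_eq_bot_of_equiv e 2 hO2)
    have hV := hV_of (σ.comp e.symm.toMonoidHom) (hσ.comp e.symm.injective)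
    rcases hD F8.range hle htr' hns' hO2' hV with ⟨hc, hs⟩ | hA8
    · left
      have : IsSimpleGroup ↥F8.range := hs
      obtain ⟨e1⟩ := psl32_of_card (G := ↥F8.range) hc
      exact ⟨ZMod 2, inferInstance, inferInstance, by simp [ZMod.card], ⟨e.trans e1⟩⟩
    · right; left
      exact ⟨8, by norm_num, le_refl _, ⟨e.trans (MulEquiv.subgroupCongr hA8)⟩⟩
  · have hn : n = 5 ∨ n = 6 ∨ n = 7 := by omega
    rcases hn with rfl | rfl | rfl
    · -- n = 5
      rcases hA g hnsg (hker rfl) with h | h | h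
      · right; left; exact ⟨5, le_refl _, by norm_num, h⟩
      · right; right; left; exact ⟨5, le_refl _, by norm_num, h⟩
      · right; right; right; exact h
    · -- n = 6
      have hi := hinj (le_refl _)
      let e : Y ≃* ↥g.range := MonoidHom.ofInjective hi
      have hO2' := no_normal_two (Cfsg.Agent.Lib.Helper4.Sg42.pCore_eq_bot_of_equiv e 2 hO2)
      rcases hB g.range hnsg hO2' with ⟨⟨e1⟩⟩ | ⟨⟨e1⟩⟩ | ⟨⟨e1⟩⟩ | ⟨⟨e1⟩⟩
      · right; left; exact ⟨5, le_refl _, by norm_num, ⟨e.trans e1⟩⟩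
      · right; right; left; exact ⟨5, le_refl _, by norm_num, ⟨e.trans e1⟩⟩
      · right; left; exact ⟨6, by norm_num, by norm_num, ⟨e.trans e1⟩⟩
      · right; right; left; exact ⟨6, by norm_num, by norm_num, ⟨e.trans e1⟩⟩
    · -- n = 7
      have hi := hinj (by norm_num)
      let e : Y ≃* ↥g.range := MonoidHom.ofInjective hi
      rcases hC g.range htrg hnsg with ⟨⟨e1⟩⟩ | ⟨⟨e1⟩⟩ | ⟨⟨e1⟩⟩
      · left
        exact ⟨ZMod 2, inferInstance, inferInstance, by simp [ZMod.card], ⟨e.trans e1⟩⟩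
      · right; left; exact ⟨7, by norm_num, by norm_num, ⟨e.trans e1⟩⟩
      · right; right; left; exact ⟨7, by norm_num, le_refl _, ⟨e.trans e1⟩⟩

/-- `X ⧸ O_2(X)` is not solvable when `X` is not -/
theorem quot_not_solvable {X : Type*} [Group X] [Finite X] (hns : ¬ Group.IsSolvable X) :
    ¬ Group.IsSolvable (X ⧸ Cfsg.pCore 2 X) := by
  intro h
  apply hns
  have h1 : IsPGroup 2 ↥(Cfsg.pCore 2 X) := Cfsg.Agent.Lib.Helper1.pCore_isPGroup 2
  have h2 : Group.IsNilpotent ↥(Cfsg.pCore 2 X) := h1.isNilpotent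
  have h3 : Group.IsSolvable ↥(Cfsg.pCore 2 X) := inferInstance
  refine solvable_of_ker_le_range (Cfsg.pCore 2 X).subtype (QuotientGroup.mk' (Cfsg.pCore 2 X)) ?_
  rw [QuotientGroup.ker_mk', Subgroup.range_subtype]

open Cfsg.Agent.Lib.Helper3.A8Emb Cfsg.Agent.Lib.Helper9.A8Emb Cfsg.Agent.Lib.Helper6.A8Emb in
/-- the faithful linear action of `X ⧸ O_2(X)` on `F_2^4` (from the proof of S3103) -/
theorem exists_linear {X : Type*} [Group X] [Finite X] (hc : Cfsg.IsPConstrained 2 X)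
    (hO : Cfsg.oddCore X = ⊥) (h4 : Cfsg.SectionalPRankLE 2 4 ↥(Cfsg.pCore 2 X)) :
    ∃ σ : X ⧸ Cfsg.pCore 2 X →* ((Fin 4 → ZMod 2) ≃ₗ[ZMod 2] (Fin 4 → ZMod 2)),
      Function.Injective σ := by
  set Q := Cfsg.pCore 2 X with hQdef
  have hQ : IsPGroup 2 Q := Cfsg.Agent.Lib.Helper1.pCore_isPGroup 2
  have hcent := centralizer_pCore_le hc hO
  have hmax : ∀ N : Subgroup X, N.Normal → IsPGroup 2 N → N ≤ Q :=
    fun N hN hN2 => Cfsg.Agent.Lib.Helper1.le_pCore hN hN2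
  obtain ⟨φ, hφ⟩ := exists_conjQuot Q (sqSub Q) (sqSub_le Q)
  have hker := ker_le Q hQ hcent hmax φ hφ
  have h2 := sq_eq_one_quot Q
  have hcard := card_quot_le h4 ((sqSub Q).subgroupOf Q) h2
  have hQker : Q ≤ φ.ker := by
    intro g hg
    rw [MonoidHom.mem_ker]
    ext x
    induction x using QuotientGroup.induction_on with
    | H a =>
      rw [hφ g a, MulAut.one_apply]
      have : ((⟨g * (a : X) * g⁻¹, Subgroup.Normal.conj_mem inferInstance (a : X) a.2 g⟩ : ↥Q) : ↥Q ⧸ (sqSub Q).subgroupOf Q)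
          = ((⟨g, hg⟩ : ↥Q) : ↥Q ⧸ (sqSub Q).subgroupOf Q) * (a : ↥Q ⧸ (sqSub Q).subgroupOf Q) *
            ((⟨g, hg⟩ : ↥Q) : ↥Q ⧸ (sqSub Q).subgroupOf Q)⁻¹ := by
        rw [← QuotientGroup.mk_inv, ← QuotientGroup.mk_mul, ← QuotientGroup.mk_mul]
        rfl
      rw [this, Cfsg.Agent.Lib.Helper3.A8Emb.comm_of_sq h2 _ (a : ↥Q ⧸ (sqSub Q).subgroupOf Q), mul_inv_cancel_right]
  let ψ : X ⧸ Q →* MulAut (↥Q ⧸ (sqSub Q).subgroupOf Q) := QuotientGroup.lift Q φ hQker
  have hψ : Function.Injective ψ := by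
    rw [injective_iff_map_eq_one]
    intro x hx
    induction x using QuotientGroup.induction_on with
    | H g =>
      have : φ g = 1 := hx
      rw [QuotientGroup.eq_one_iff]
      exact hker (MonoidHom.mem_ker.mpr this)
  obtain ⟨f1, hf1⟩ := exists_injective_mulAut_to_linearEquiv h2 hcard
  exact ⟨f1.comp ψ, hf1.comp hψ⟩

open Cfsg.Agent.Lib.Helper6.A8Emb in
/-- part (1) of S3104 from the units -/
theorem part_one_of {X : Type*} [Group X] [Finite X] (hns : ¬ Group.IsSolvable X)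
    (hc : Cfsg.IsPConstrained 2 X) (hO : Cfsg.oddCore X = ⊥)
    (h4 : Cfsg.SectionalPRankLE 2 4 ↥(Cfsg.pCore 2 X))
    (hOR : ∀ f : X ⧸ Cfsg.pCore 2 X →* ↥(alternatingGroup (Fin 8)), Function.Injective f →
      UnitOR (X ⧸ Cfsg.pCore 2 X) f)
    (hA : UnitA (X ⧸ Cfsg.pCore 2 X)) (hB : UnitB) (hC : UnitC) (hD : UnitD) :
    Concl (X ⧸ Cfsg.pCore 2 X) := by
  obtain ⟨σ, hσ⟩ := exists_linear hc hO h4
  obtain ⟨f2, hf2⟩ := exists_injective_linearEquiv_to_alt8
  exact concl_of (f2.comp σ) (hf2.comp hσ) (quot_not_solvable hns)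
    (Cfsg.Agent.Lib.Helper2.pCore_quotient_pCore_eq_bot 2) σ hσ
    (hOR _ (hf2.comp hσ)) hA hB hC hD

end Cfsg.Agent.Lib.Helper8.A8Glue
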