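import Mathlib

set_option autoImplicit false
set_option linter.unusedVariables false
set_option linter.unusedSectionVars false
set_option linter.style.longLine false
set_option maxHeartbeats 1000000

/-! # S3104 farm, unit P2-L (backup): the module core of Lemma S

`W` is a group of exponent 2 (hence commutative) of order 16; automorphisms are elements of
`MulAut W`. -/

namespace Cfsg.Agent.Lib.Helper8.A8P2L

variable {W : Type*} [Group W]

/-- the fixed points of an automorphism -/
def fixSub (φ : MulAut W) : Subgroup W where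
  carrier := {w | φ w = w}
  one_mem' := map_one φ
  mul_mem' := by
    intro a b ha hb
    simp only [Set.mem_ofPred_eq] at ha hb ⊢
    rw [map_mul, ha, hb]
  inv_mem' := by
    intro a ha
    simp only [Set.mem_ofPred_eq] at ha ⊢
    rw [map_inv, ha]

theorem mem_fixSub (φ : MulAut W) (w : W) : w ∈ fixSub φ ↔ φ w = w := Iff.rfl

/-- the hom `w ↦ φ w * w⁻¹` -/
def delta (hcomm : ∀ a b : W, a * b = b * a) (φ : MulAut W) : W →* W where
  toFun w := φ w * w⁻¹
  map_one' := by simp
  map_mul' a b := by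
    rw [map_mul, mul_inv_rev, hcomm b⁻¹ a⁻¹, mul_assoc, ← mul_assoc (φ b), hcomm (φ b) a⁻¹,
      mul_assoc, ← mul_assoc]

theorem delta_apply (hcomm : ∀ a b : W, a * b = b * a) (φ : MulAut W) (w : W) :
    delta hcomm φ w = φ w * w⁻¹ := rfl

theorem ker_delta (hcomm : ∀ a b : W, a * b = b * a) (φ : MulAut W) :
    (delta hcomm φ).ker = fixSub φ := by
  ext w
  rw [MonoidHom.mem_ker, delta_apply, mem_fixSub, mul_inv_eq_one]

theorem card_fix_mul_range [Finite W] (hcomm : ∀ a b : W, a * b = b * a) (φ : MulAut W) :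
    Nat.card ↥(fixSub φ) * Nat.card ↥(delta hcomm φ).range = Nat.card W := by
  have h1 := Subgroup.card_eq_card_quotient_mul_card_subgroup (delta hcomm φ).ker
  have h2 : Nat.card (W ⧸ (delta hcomm φ).ker) = Nat.card ↥(delta hcomm φ).range :=
    Nat.card_congr (QuotientGroup.quotientKerEquivRange (delta hcomm φ)).toEquiv
  rw [h2, ker_delta] at h1
  rw [h1, mul_comm]

theorem inv_eq_self (hsq : ∀ w : W, w * w = 1) (w : W) : w⁻¹ = w :=
  inv_eq_of_mul_eq_one_left (hsq w)

theorem range_le_fix (hsq : ∀ w : W, w * w = 1) (hcomm : ∀ a b : W, a * b = b * a)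
    (φ : MulAut W) (hφ : φ * φ = 1) : (delta hcomm φ).range ≤ fixSub φ := by
  rintro _ ⟨w, rfl⟩
  rw [mem_fixSub, delta_apply, map_mul, map_inv]
  have : φ (φ w) = w := by
    have := congrArg (fun ψ : MulAut W => ψ w) hφ
    simpa using this
  rw [this, inv_eq_self hsq, inv_eq_self hsq]
  exact hcomm _ _

/-- an involutive automorphism has a nontrivial fixed point on every nontrivial invariant subgroup -/
theorem inf_fix_ne_bot (hsq : ∀ w : W, w * w = 1) (hcomm : ∀ a b : W, a * b = b * a)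
    (φ : MulAut W) (hφ : φ * φ = 1) (U : Subgroup W) (hU : ∀ u ∈ U, φ u ∈ U) (hne : U ≠ ⊥) :
    U ⊓ fixSub φ ≠ ⊥ := by
  obtain ⟨⟨u, hu⟩, hu1'⟩ := Subgroup.ne_bot_iff_exists_ne_one.mp hne
  have hu1 : u ≠ 1 := fun h => hu1' (Subtype.ext h)
  have h2 : φ (φ u) = u := by
    have := congrArg (fun ψ : MulAut W => ψ u) hφ
    simpa using this
  by_cases hfix : φ u = u
  · intro hbot
    have : u ∈ U ⊓ fixSub φ := ⟨hu, hfix⟩
    rw [hbot, Subgroup.mem_bot] at this
    exact hu1 this
  · intro hbot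
    have : φ u * u ∈ U ⊓ fixSub φ := by
      refine ⟨U.mul_mem (hU u hu) hu, ?_⟩
      rw [mem_fixSub, map_mul, h2]
      exact hcomm _ _
    rw [hbot, Subgroup.mem_bot] at this
    apply hfix
    have h3 : φ u = u⁻¹ := eq_inv_of_mul_eq_one_left this
    rw [h3, inv_eq_self hsq]

/-- fixed point count modulo 3 -/
theorem card_mod3 [Finite W] (β : MulAut W) (hβ : β ^ 3 = 1) (U : Subgroup W)
    (hU : ∀ u ∈ U, β u ∈ U) : Nat.card ↥U ≡ Nat.card ↥(U ⊓ fixSub β) [MOD 3] := by
  classical
  have : Fact (Nat.Prime 3) := ⟨by norm_num⟩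
  have : Fintype ↥U := Fintype.ofFinite _
  let f : Function.End ↥U := fun u => ⟨β u, hU u u.2⟩
  have hβ3 : ∀ w : W, β (β (β w)) = w := by
    intro w
    have := congrArg (fun ψ : MulAut W => ψ w) hβ
    simpa [pow_succ] using this
  have hf : f ^ 3 ^ 1 = 1 := by
    funext u
    apply Subtype.ext
    change β (β (β (u : W))) = u
    exact hβ3 u
  have key := Equiv.Perm.card_fixedPoints_modEq (p := 3) (n := 1) hf
  have e : ↥(Function.fixedPoints f) ≃ ↥(U ⊓ fixSub β) :=
    { toFun := fun x => ⟨(x.1 : W), ⟨x.1.2, congrArg Subtype.val x.2⟩⟩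
      invFun := fun y => ⟨⟨(y : W), y.2.1⟩, Subtype.ext y.2.2⟩
      left_inv := fun x => rfl
      right_inv := fun y => rfl }
  rw [← Nat.card_eq_fintype_card, ← Nat.card_eq_fintype_card, Nat.card_congr e] at key
  exact key

/-- two subgroups, the first of order 2, with nontrivial intersection -/
theorem le_of_card_two [Finite W] {U U' : Subgroup W} (h2 : Nat.card ↥U = 2)
    (hne : U ⊓ U' ≠ ⊥) : U ≤ U' := by
  have hle : U ⊓ U' ≤ U := inf_le_left
  have hd : Nat.card ↥(U ⊓ U') ∣ 2 := h2 ▸ Subgroup.card_dvd_of_le hle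
  have h1 : Nat.card ↥(U ⊓ U') ≠ 1 := fun h => hne (Subgroup.card_eq_one.mp h)
  have h3 : Nat.card ↥(U ⊓ U') = 2 := by
    rcases (Nat.dvd_prime Nat.prime_two).mp hd with h | h
    · exact absurd h h1
    · exact h
  have : U ⊓ U' = U := Subgroup.eq_of_le_of_card_ge hle (by rw [h2, h3])
  rw [← this]
  exact inf_le_right

end Cfsg.Agent.Lib.Helper8.A8P2L
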