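import Mathlib
import Cfsg.Agent.S0678
import Cfsg.Agent.S0495
import Cfsg.Agent.S0255

set_option autoImplicit false

/-! # S3104 farm, unit (c): transitive nonsolvable subgroups of `Perm (Fin 7)` -/

namespace Cfsg.Agent.Lib.Helper8.A8Sub7

/-- a subgroup containing the alternating group is the alternating group or everything -/
theorem eq_alt_or_top {n : ℕ} (hn : 2 ≤ n) (H : Subgroup (Equiv.Perm (Fin n)))
    (hA : alternatingGroup (Fin n) ≤ H) : H = alternatingGroup (Fin n) ∨ H = ⊤ := by
  have : Nontrivial (Fin n) := Fin.nontrivial_iff_two_le.mpr hn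
  have h2 : (alternatingGroup (Fin n)).index = 2 := alternatingGroup.index_eq_two
  have h3 := Subgroup.relIndex_mul_index hA
  rw [h2] at h3
  have h4 : H.index ∣ 2 := Dvd.intro_left _ h3
  have h5 : H.index = 1 ∨ H.index = 2 := by
    have := (Nat.dvd_prime Nat.prime_two).mp h4
    exact this
  rcases h5 with h5 | h5
  · right
    exact Subgroup.index_eq_one.mp h5
  · left
    rw [h5] at h3
    have h6 : (alternatingGroup (Fin n)).relIndex H = 1 := by omega
    exact le_antisymm (Subgroup.relIndex_eq_one.mp h6) hA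

/-- unit (c): a transitive nonsolvable subgroup of `Perm (Fin 7)` is `PSL(3,2)`, `A7` or `S7` -/
theorem sub_S7 (H : Subgroup (Equiv.Perm (Fin 7))) (htr : MulAction.IsPretransitive H (Fin 7))
    (hns : ¬ Group.IsSolvable H) {F : Type*} [Field F] [Fintype F] (hF : Fintype.card F = 2) :
    Nonempty (H ≃* Matrix.ProjectiveSpecialLinearGroup (Fin 3) F) ∨
      Nonempty (H ≃* alternatingGroup (Fin 7)) ∨ Nonempty (H ≃* Equiv.Perm (Fin 7)) := by
  by_cases hA : alternatingGroup (Fin 7) ≤ H
  · right
    rcases eq_alt_or_top (by norm_num) H hA with h | h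
    · left; exact ⟨MulEquiv.subgroupCongr h⟩
    · right; exact ⟨(MulEquiv.subgroupCongr h).trans Subgroup.topEquiv⟩
  · left
    obtain ⟨hc, hs⟩ := Cfsg.Agent.S0678.result (α := Fin 7) (by simp) H hns hA
    have := hs
    have : Fact (Nat.Prime 7) := ⟨by norm_num⟩
    obtain ⟨e1⟩ := Cfsg.Agent.S0495.result (G := H) hc (F := ZMod 7) (by simp [ZMod.card])
    obtain ⟨e2⟩ := Cfsg.Agent.S0255.result (F := ZMod 7) (K := F) (by simp [ZMod.card]) hF
    exact ⟨e1.trans e2⟩

end Cfsg.Agent.Lib.Helper8.A8Sub7
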