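import Mathlib
import Cfsg.Agent.Lib.Helper8.A8Sub7

/-! # S3104 farm, unit U4 (c): seven points, in the glue's shape (wrapper of `A8Sub7.sub_S7`) -/

set_option autoImplicit false
set_option linter.unusedVariables false
set_option linter.style.longLine false

namespace Cfsg.Agent.Lib.Helper8.A8Seven

theorem case_seven {Y : Type*} [Group Y] [Finite Y] (g : Y →* Equiv.Perm (Fin 7))
    (hg : Function.Injective g) (htr : ∀ a b : Fin 7, ∃ y : Y, g y a = b)
    (hns : ¬ Group.IsSolvable Y) :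
    (∃ (F : Type) (_ : Field F) (_ : Fintype F), Fintype.card F = 2 ∧
      Nonempty (Y ≃* Matrix.ProjectiveSpecialLinearGroup (Fin 3) F)) ∨
      Nonempty (Y ≃* ↥(alternatingGroup (Fin 7))) ∨ Nonempty (Y ≃* Equiv.Perm (Fin 7)) := by
  let e : Y ≃* ↥g.range := MonoidHom.ofInjective hg
  have htr' : MulAction.IsPretransitive ↥g.range (Fin 7) := by
    refine ⟨fun a b => ?_⟩
    obtain ⟨y, hy⟩ := htr a b
    exact ⟨⟨g y, y, rfl⟩, hy⟩
  have hns' : ¬ Group.IsSolvable ↥g.range := by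
    intro h
    exact hns (Group.isSolvable_of_isSolvable_injective (f := e.toMonoidHom) e.injective)
  have : Fact (Nat.Prime 2) := ⟨Nat.prime_two⟩
  have hF : Fintype.card (ZMod 2) = 2 := ZMod.card 2
  rcases Cfsg.Agent.Lib.Helper8.A8Sub7.sub_S7 g.range htr' hns' (F := ZMod 2) hF with ⟨⟨i⟩⟩ | ⟨⟨i⟩⟩ | ⟨⟨i⟩⟩
  · left
    exact ⟨ZMod 2, inferInstance, inferInstance, hF, ⟨e.trans i⟩⟩
  · right; left
    exact ⟨e.trans i⟩
  · right; right
    exact ⟨e.trans i⟩

end Cfsg.Agent.Lib.Helper8.A8Seven
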