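import Mathlib
import Cfsg.Agent.Lib.Helper4.A8Sub6a

set_option autoImplicit false
set_option linter.unusedVariables false
set_option linter.style.longLine false

/-! # S3104 farm, sub-unit V2: a nonsolvable group of order 168 is simple -/

namespace Cfsg.Agent.Lib.Helper8.A8V2

open Cfsg.Agent.Lib.Helper4.A8Sub6

universe u

/-- an extension of solvable by solvable, for a normal subgroup -/
theorem solvable_of_normal {H : Type u} [Group H] (N : Subgroup H) [N.Normal]
    (h1 : Group.IsSolvable ↥N) (h2 : Group.IsSolvable (H ⧸ N)) : Group.IsSolvable H := by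
  refine Group.isSolvable_of_ker_le_range N.subtype (QuotientGroup.mk' N) ?_
  rw [QuotientGroup.ker_mk', Subgroup.range_subtype]

/-- groups of order 84 are solvable -/
theorem solvable_84 {H : Type u} [Group H] [Finite H] (h : Nat.card H = 84) :
    Group.IsSolvable H := by
  have : Fact (Nat.Prime 7) := ⟨by norm_num⟩
  obtain ⟨P⟩ : Nonempty (Sylow 7 H) := inferInstance
  have hP : Nat.card ↥(P : Subgroup H) = 7 := by
    rw [Sylow.card_eq_multiplicity, h]
    have : (84 : ℕ).factorization 7 = 1 := by
      have h84 : (84 : ℕ) = 7 ^ 1 * 12 := by norm_num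
      rw [h84, Nat.factorization_mul (by norm_num) (by norm_num), Nat.Prime.factorization_pow (by norm_num)]
      have h12 : (12 : ℕ).factorization 7 = 0 := Nat.factorization_eq_zero_of_not_dvd (by norm_num)
      simp [h12]
    rw [this]; norm_num
  have hidx : (P : Subgroup H).index = 12 := by
    have := (P : Subgroup H).card_mul_index
    rw [hP, h] at this
    omega
  have hn1 : Nat.card (Sylow 7 H) ≡ 1 [MOD 7] := card_sylow_modEq_one 7 H
  have hn2 : Nat.card (Sylow 7 H) ∣ 12 := by
    have := P.card_dvd_index
    rwa [hidx] at this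
  have hn : Nat.card (Sylow 7 H) = 1 := by
    have hle : Nat.card (Sylow 7 H) ≤ 12 := Nat.le_of_dvd (by norm_num) hn2
    have hmod : Nat.card (Sylow 7 H) % 7 = 1 := hn1
    interval_cases hk : Nat.card (Sylow 7 H) <;> omega
  have hsub : Subsingleton (Sylow 7 H) := (Nat.card_eq_one_iff_unique.mp hn).1
  have hPn : (P : Subgroup H).Normal := P.normal_of_subsingleton
  have h1 : Group.IsSolvable ↥(P : Subgroup H) := solvable_of_card_lt_sixty 7 (by norm_num) _ hP
  have h2 : Group.IsSolvable (H ⧸ (P : Subgroup H)) := by
    refine solvable_of_card_lt_sixty 12 (by norm_num) _ ?_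
    rw [← Subgroup.index_eq_card]; exact hidx
  exact solvable_of_normal (P : Subgroup H) h1 h2

/-- groups of order properly dividing 168 are solvable -/
theorem solvable_of_dvd_168 {H : Type u} [Group H] [Finite H] (hd : Nat.card H ∣ 168)
    (hne : Nat.card H ≠ 168) : Group.IsSolvable H := by
  have hle : Nat.card H ≤ 168 := Nat.le_of_dvd (by norm_num) hd
  by_cases h60 : Nat.card H < 60
  · exact solvable_of_card_lt_sixty _ h60 H rfl
  · have h84 : Nat.card H = 84 := by
      obtain ⟨k, hk⟩ := hd
      have hk1 : k ≠ 1 := by rintro rfl; omega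
      have hk0 : k ≠ 0 := by rintro rfl; omega
      have hk2 : k ≤ 2 := by
        by_contra hcon
        have : 3 ≤ k := by omega
        nlinarith
      have : k = 2 := by omega
      subst this; omega
    exact solvable_84 h84

/-- V2: a nonsolvable group of order 168 is simple -/
theorem simple_of_card_168 {Y : Type*} [Group Y] [Finite Y] (hcard : Nat.card Y = 168)
    (hns : ¬ Group.IsSolvable Y) : IsSimpleGroup Y := by
  have : Nontrivial Y := Finite.one_lt_card_iff_nontrivial.1 (by rw [hcard]; norm_num)
  refine { toNontrivial := inferInstance, eq_bot_or_eq_top_of_normal := fun N hN => ?_ }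
  by_contra hcon
  push Not at hcon
  obtain ⟨hb, ht⟩ := hcon
  have := hN
  apply hns
  have hmul := N.card_mul_index
  rw [hcard] at hmul
  have h1 : Group.IsSolvable ↥N := by
    refine solvable_of_dvd_168 (Dvd.intro _ hmul) ?_
    intro h168
    apply ht
    exact N.eq_top_of_card_eq (by rw [h168, hcard])
  have h2 : Group.IsSolvable (Y ⧸ N) := by
    have hq : Nat.card (Y ⧸ N) = N.index := (Subgroup.index_eq_card N).symm
    refine solvable_of_dvd_168 (by rw [hq]; exact Dvd.intro_left _ hmul) ?_
    rw [hq]
    intro h168
    apply hb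
    have : Nat.card ↥N = 1 := by
      rw [h168] at hmul; omega
    exact Subgroup.card_eq_one.mp this
  exact solvable_of_normal N h1 h2

end Cfsg.Agent.Lib.Helper8.A8V2
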