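import Mathlib
import Cfsg.Agent.Lib.Helper8.AFT3

set_option autoImplicit false

/-!
# Alperin–Feit–Thompson
-/

namespace Cfsg.Agent.Lib.Helper8.AFT

open scoped ComplexConjugate
open Cfsg.Agent.Lib.Helper6 Cfsg.Agent.Lib.Helper8.FS Cfsg.Agent.Lib.Helper8.GlauL

variable {G : Type*} [Group G] [Fintype G]

omit [Fintype G] in
theorem real_hom_iff [Finite G] (lam : G →* ℂˣ) :
    (∀ g : G, conj ((lam g : ℂˣ) : ℂ) = ((lam g : ℂˣ) : ℂ)) ↔ lam ^ 2 = 1 := by
  constructor
  · intro h
    ext g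
    have h1 := h g
    rw [conj_hom_apply] at h1
    simp only [MonoidHom.pow_apply, MonoidHom.one_apply, Units.val_pow_eq_pow_val, Units.val_one]
    have h2 : ((lam⁻¹ g : ℂˣ) : ℂ) = (((lam g)⁻¹ : ℂˣ) : ℂ) := rfl
    rw [h2] at h1
    have h3 : (lam g)⁻¹ = lam g := Units.ext h1
    rw [pow_two]
    nth_rewrite 1 [← h3]
    rw [← Units.val_mul, inv_mul_cancel, Units.val_one]
  · intro h g
    rw [conj_hom_apply]
    have h1 := DFunLike.congr_fun h g
    simp only [MonoidHom.pow_apply, MonoidHom.one_apply] at h1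
    have h2 : (lam g)⁻¹ = lam g := by
      rw [inv_eq_iff_mul_eq_one, ← pow_two, h1]
    show (((lam g)⁻¹ : ℂˣ) : ℂ) = _
    rw [h2]

/-- linear real characters correspond to characters of order dividing two -/
theorem card_linear_real :
    Nat.card {χ : Cfsg.IrrCharacter G // Cfsg.charDegree (χ : G → ℂ) = 1 ∧ IsRe χ}
      = Nat.card (torsionChars G 2) := by
  symm
  apply Nat.card_congr
  refine Equiv.ofBijective (fun lam => ⟨(linearCharEquiv G lam.1).1, ?_, ?_⟩) ⟨?_, ?_⟩
  · show Cfsg.charDegree (fun g : G => ((lam.1 g : ℂˣ) : ℂ)) = 1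
    unfold Cfsg.charDegree
    simp
  · intro g
    exact (real_hom_iff lam.1).mpr lam.2 g
  · intro a b hab
    apply Subtype.ext
    have h1 := congrArg (fun x => (x.1 : Cfsg.IrrCharacter G)) hab
    apply (linearCharEquiv G).injective
    apply Subtype.ext
    exact h1
  · rintro ⟨χ, hd, hre⟩
    have h1 : (χ : G → ℂ) 1 = 1 := by
      rw [apply_one_of_charDegree hd]
      simp
    refine ⟨⟨(linearCharEquiv G).symm ⟨χ, h1⟩, ?_⟩, ?_⟩
    · rw [mem_torsionChars, ← real_hom_iff]
      intro g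
      exact hre g
    · apply Subtype.ext
      show ((linearCharEquiv G) ((linearCharEquiv G).symm ⟨χ, h1⟩)).1 = χ
      rw [Equiv.apply_symm_apply]

theorem charDegree_linMul (lam : G →* ℂˣ) (χ : Cfsg.IrrCharacter G) :
    Cfsg.charDegree (linMul lam χ : G → ℂ) = Cfsg.charDegree (χ : G → ℂ) := by
  unfold Cfsg.charDegree
  rw [linMul_apply, map_one, Units.val_one, one_mul]

omit [Fintype G] in
theorem pow_card_hom [Finite G] (lam : G →* ℂˣ) : lam ^ Nat.card G = 1 := by
  ext g
  simp only [MonoidHom.pow_apply, MonoidHom.one_apply]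
  rw [← map_pow, pow_card_eq_one', map_one]

/-- **Alperin–Feit–Thompson**. -/
theorem aft (hG : IsPGroup 2 G) (ht : Nat.card {x : G // orderOf x = 2} % 4 = 1) :
    IsCyclic G ∨ (commutator G).index = 4 := by
  classical
  haveI : Fintype (Cfsg.IrrCharacter G) := Fintype.ofFinite _
  by_cases hc : IsCyclic G
  · left; exact hc
  right
  letI := linAct (G := G)
  have hPΛ : IsPGroup 2 (torsionChars G 2) := isPGroup_torsionChars (G := G) 1
  have hPΛ₂ : IsPGroup 2 (torsionChars G 4) := isPGroup_torsionChars (G := G) 2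
  have ha3 : 3 ≤ Nat.card (torsionChars G 2) := three_le_card_torsionChars hG hc
  obtain ⟨r, hr⟩ := IsPGroup.iff_card.mp hPΛ
  have hr2 : 2 ≤ r := by
    by_contra hcon
    have : r = 0 ∨ r = 1 := by omega
    rcases this with h | h <;> rw [h] at hr <;> omega
  have h4a : 4 ∣ Nat.card (torsionChars G 2) := by
    rw [hr]
    obtain ⟨i, rfl⟩ := Nat.exists_eq_add_of_le hr2
    rw [pow_add]
    exact Dvd.intro _ rfl
  -- the number of real characters of degree two is odd
  have hsodd : Odd (Nat.card {χ : Cfsg.IrrCharacter G //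
      Cfsg.charDegree (χ : G → ℂ) = 2 ∧ IsRe χ}) := by
    have hmod := sum_modEq hG
    rw [card_linear_real] at hmod
    set s := Nat.card {χ : Cfsg.IrrCharacter G // Cfsg.charDegree (χ : G → ℂ) = 2 ∧ IsRe χ}
    set t := Nat.card {x : G // orderOf x = 2}
    obtain ⟨a', ha'⟩ := h4a
    rw [ha'] at hmod
    have h1 := Int.emod_emod_of_dvd (1 + (t : ℤ)) (show (2 : ℤ) ∣ 4 by norm_num)
    have h2 := hmod.eq
    rw [Nat.odd_iff]
    omega
  -- stage one
  have hF := odd_card_fixed (Γ := torsionChars G 2) (X := Cfsg.IrrCharacter G) hPΛ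
    (fun χ => Cfsg.charDegree (χ : G → ℂ) = 2 ∧ IsRe χ)
    (by
      rintro ⟨lam, hlam⟩ χ ⟨hd, hre⟩
      refine ⟨?_, ?_⟩
      · show Cfsg.charDegree (linMul lam χ : G → ℂ) = 2
        rw [charDegree_linMul, hd]
      · intro g
        show conj ((linMul lam χ : G → ℂ) g) = (linMul lam χ : G → ℂ) g
        rw [linMul_apply, map_mul, hre g, (real_hom_iff lam).mpr hlam g])
    hsodd
  -- stage two
  have hF2 := odd_card_fixed (Γ := torsionChars G 4) (X := Cfsg.IrrCharacter G) hPΛ₂
    (fun χ => (Cfsg.charDegree (χ : G → ℂ) = 2 ∧ IsRe χ) ∧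
      ∀ γ : torsionChars G 2, γ • χ = χ)
    (by
      rintro ⟨mu, hmu⟩ χ ⟨⟨hd, hre⟩, hfix⟩
      have hmu2 : mu ^ 2 ∈ torsionChars G 2 := by
        rw [mem_torsionChars, ← pow_mul]
        exact hmu
      refine ⟨⟨?_, ?_⟩, ?_⟩
      · show Cfsg.charDegree (linMul mu χ : G → ℂ) = 2
        rw [charDegree_linMul, hd]
      · intro g
        show conj ((linMul mu χ : G → ℂ) g) = (linMul mu χ : G → ℂ) g
        rw [linMul_apply, map_mul, hre g, conj_hom_apply]
        have h1 := congrArg (fun ψ : Cfsg.IrrCharacter G => (ψ : G → ℂ) g) (hfix ⟨mu ^ 2, hmu2⟩)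
        have h2 : ((mu ^ 2) g : ℂ) * (χ : G → ℂ) g = (χ : G → ℂ) g := h1
        have h3 : ((mu⁻¹ g : ℂˣ) : ℂ) = (((mu g)⁻¹ : ℂˣ) : ℂ) := rfl
        rw [h3]
        nth_rewrite 1 [← h2]
        rw [MonoidHom.pow_apply, Units.val_pow_eq_pow_val, pow_two, ← mul_assoc, ← mul_assoc,
          ← Units.val_mul, inv_mul_cancel, Units.val_one, one_mul]
      · rintro ⟨lam, hlam⟩
        have h1 : lam • χ = χ := hfix ⟨lam, hlam⟩
        show lam • (mu • χ) = mu • χ
        rw [smul_comm, h1])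
    hF
  obtain ⟨⟨χ, ⟨⟨hd, hre⟩, hfixΛ⟩, hfixΛ₂⟩⟩ : Nonempty {χ : Cfsg.IrrCharacter G //
      ((Cfsg.charDegree (χ : G → ℂ) = 2 ∧ IsRe χ) ∧ ∀ γ : torsionChars G 2, γ • χ = χ) ∧
      ∀ γ : torsionChars G 4, γ • χ = χ} := by
    rw [← Finite.card_pos_iff]
    exact hF2.pos
  have hle := card_le_of_fixed (torsionChars G 4) χ (fun lam hlam => hfixΛ₂ ⟨lam, hlam⟩)
  rw [hd] at hle
  have hsub : torsionChars G 2 ≤ torsionChars G 4 := by
    intro lam hlam
    rw [mem_torsionChars] at hlam ⊢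
    have h4 : lam ^ 4 = (lam ^ 2) ^ 2 := by rw [← pow_mul]
    rw [h4, hlam]
    ext g
    simp
  have hcle : Nat.card (torsionChars G 2) ≤ Nat.card (torsionChars G 4) :=
    Subgroup.card_le_of_le hsub
  have ha4 : Nat.card (torsionChars G 2) = 4 := by
    obtain ⟨a', ha'⟩ := h4a
    omega
  have ha4' : Nat.card (torsionChars G 4) = 4 := by omega
  have heq : torsionChars G 2 = torsionChars G 4 :=
    Subgroup.eq_of_le_of_card_ge hsub (by rw [ha4, ha4'])
  -- every linear character has order dividing two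
  have hall : ∀ lam : G →* ℂˣ, lam ∈ torsionChars G 2 := by
    intro lam
    obtain ⟨n, hn⟩ := IsPGroup.iff_card.mp hG
    have hex : ∃ e : ℕ, lam ^ 2 ^ e = 1 := ⟨n, by rw [← hn]; exact pow_card_hom lam⟩
    have hmin : ∀ m : ℕ, m < Nat.find hex → ¬ lam ^ 2 ^ m = 1 := fun m hm => Nat.find_min hex hm
    have hspec := Nat.find_spec hex
    set e := Nat.find hex with he
    rcases Nat.lt_or_ge e 2 with h2 | h2
    · rw [mem_torsionChars]
      interval_cases e
      · rw [pow_zero, pow_one] at hspec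
        rw [hspec]
        ext g
        simp
      · rw [pow_one] at hspec
        exact hspec
    · exfalso
      obtain ⟨i, hi⟩ := Nat.exists_eq_add_of_le h2
      have hmem : lam ^ 2 ^ i ∈ torsionChars G 4 := by
        rw [mem_torsionChars, ← pow_mul]
        have : 2 ^ i * 4 = 2 ^ e := by
          rw [hi, pow_add]
          ring
        rw [this]
        exact hspec
      rw [← heq, mem_torsionChars, ← pow_mul] at hmem
      have h3 : 2 ^ i * 2 = 2 ^ (e - 1) := by
        have : e - 1 = i + 1 := by omega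
        rw [this, pow_succ]
      rw [h3] at hmem
      exact hmin (e - 1) (by omega) hmem
  have htop : torsionChars G 2 = ⊤ := eq_top_iff.mpr fun lam _ => hall lam
  rw [← card_linear_characters, ← Nat.card_congr (linearCharEquiv G), ← ha4, htop]
  exact (Nat.card_congr Subgroup.topEquiv.toEquiv).symm

end Cfsg.Agent.Lib.Helper8.AFT
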