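import Mathlib
import Cfsg.Agent.Lib.Helper8.AFT4
import Cfsg.Agent.Lib.Helper1.FrattiniP

set_option autoImplicit false

/-!
# Counting solutions of `x ^ 2 = 1` in a 2-group with many generators
-/

namespace Cfsg.Agent.Lib.Helper8.AFT

open scoped ComplexConjugate
open Cfsg.Agent.Lib.Helper6 Cfsg.Agent.Lib.Helper8.FS Cfsg.Agent.Lib.Helper8.GlauL

/-- summing an invariant function over a set with a group action -/
theorem dvd_sum_of_forall_orbit {Γ X : Type*} [Group Γ] [MulAction Γ X] [Fintype X] (f : X → ℤ)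
    (N : ℤ) (hinv : ∀ (γ : Γ) (x : X), f (γ • x) = f x)
    (hdvd : ∀ x : X, N ∣ (Nat.card (MulAction.orbit Γ x) : ℤ) * f x) : N ∣ ∑ x, f x := by
  classical
  haveI : Fintype (Quotient (MulAction.orbitRel Γ X)) := Fintype.ofFinite _
  rw [← Finset.sum_fiberwise (s := Finset.univ)
    (g := fun x => (Quotient.mk (MulAction.orbitRel Γ X) x)) (f := f)]
  apply Finset.dvd_sum
  intro b _
  induction b using Quotient.inductionOn with
  | _ x₀ =>
    have hmem : ∀ a : X, Quotient.mk (MulAction.orbitRel Γ X) a =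
        Quotient.mk (MulAction.orbitRel Γ X) x₀ ↔ a ∈ MulAction.orbit Γ x₀ := by
      intro a
      rw [Quotient.eq]
      exact MulAction.orbitRel_apply
    have h1 : ∀ a ∈ Finset.univ.filter (fun a => Quotient.mk (MulAction.orbitRel Γ X) a =
        Quotient.mk (MulAction.orbitRel Γ X) x₀), f a = f x₀ := by
      intro a ha
      rw [Finset.mem_filter] at ha
      obtain ⟨γ, rfl⟩ := (hmem a).mp ha.2
      exact hinv γ x₀
    rw [Finset.sum_congr rfl h1, Finset.sum_const, nsmul_eq_mul]
    have h2 : (Finset.univ.filter (fun a => Quotient.mk (MulAction.orbitRel Γ X) a =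
        Quotient.mk (MulAction.orbitRel Γ X) x₀)).card = Nat.card (MulAction.orbit Γ x₀) := by
      symm
      apply Nat.subtype_card
      intro a
      rw [Finset.mem_filter]
      simp only [Finset.mem_univ, true_and]
      exact hmem a
    rw [h2]
    exact hdvd x₀

variable {G : Type*} [Group G] [Fintype G]

theorem fsInd_linMul (lam : G →* ℂˣ) (hlam : lam ^ 2 = 1) (χ : Cfsg.IrrCharacter G) :
    fsInd (linMul lam χ : G → ℂ) = fsInd (χ : G → ℂ) := by
  unfold fsInd
  congr 1
  apply Finset.sum_congr rfl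
  intro g _
  rw [linMul_apply]
  have h1 : lam (g * g) = 1 := by
    have := DFunLike.congr_fun hlam g
    rw [MonoidHom.pow_apply, MonoidHom.one_apply, pow_two] at this
    rw [map_mul]
    exact this
  rw [h1, Units.val_one, one_mul]

theorem nuZ_linMul (lam : G →* ℂˣ) (hlam : lam ^ 2 = 1) (χ : Cfsg.IrrCharacter G) :
    nuZ (linMul lam χ) = nuZ χ := by
  have h1 := nuZ_cast (linMul lam χ)
  rw [fsInd_linMul lam hlam χ, ← nuZ_cast χ] at h1
  exact_mod_cast h1

theorem card_quot_frattini_le (hG : IsPGroup 2 G) :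
    Nat.card (G ⧸ frattini G) ≤ Nat.card (torsionChars G 2) := by
  classical
  haveI : Fact (Nat.Prime 2) := ⟨Nat.prime_two⟩
  have h1 := card_mul_card_kerSet (torsionChars G 2)
  have hsub : kerSet (torsionChars G 2) ⊆ Finset.univ.filter (fun g => g ∈ frattini G) := by
    intro g hg
    rw [mem_kerSet] at hg
    rw [Finset.mem_filter]
    refine ⟨Finset.mem_univ _, ?_⟩
    unfold frattini Order.radical
    rw [Subgroup.mem_iInf]
    intro M
    rw [Subgroup.mem_iInf]
    intro hM
    have hidx := Cfsg.Agent.Lib.Helper1.index_eq_prime_of_isCoatom 2 hG M hM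
    have h2 := hg (signHom M hidx) (by rw [mem_torsionChars]; exact signHom_sq M hidx)
    exact (signHom_apply_eq_one_iff M hidx g).mp h2
  have h3 : (kerSet (torsionChars G 2)).card ≤ Nat.card (frattini G) := by
    have h4 : Nat.card (frattini G) = (Finset.univ.filter (fun g => g ∈ frattini G)).card := by
      apply Nat.subtype_card
      intro a
      simp
    rw [h4]
    exact Finset.card_le_card hsub
  have h5 : 0 < (kerSet (torsionChars G 2)).card :=
    Finset.card_pos.mpr ⟨1, one_mem_kerSet _⟩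
  have h6 := Subgroup.card_eq_card_quotient_mul_card_subgroup (frattini G)
  by_contra hlt
  push Not at hlt
  have h7 : Nat.card (torsionChars G 2) * (kerSet (torsionChars G 2)).card <
      Nat.card (G ⧸ frattini G) * (kerSet (torsionChars G 2)).card :=
    Nat.mul_lt_mul_of_pos_right hlt h5
  have h8 : Nat.card (G ⧸ frattini G) * (kerSet (torsionChars G 2)).card ≤
      Nat.card (G ⧸ frattini G) * Nat.card (frattini G) := Nat.mul_le_mul_left _ h3
  rw [h1, h6] at h7
  omega

/-- the main divisibility statement -/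
theorem two_pow_dvd_card_sq_eq_one (hG : IsPGroup 2 G) (k : ℕ)
    (hgen : 2 ^ (2 * k + 1) ≤ Nat.card (G ⧸ frattini G)) :
    2 ^ (k + 1) ∣ Nat.card {x : G // x ^ 2 = 1} := by
  classical
  haveI : Fact (Nat.Prime 2) := ⟨Nat.prime_two⟩
  haveI : Fintype (Cfsg.IrrCharacter G) := Fintype.ofFinite _
  letI := linAct (G := G)
  have hPΛ : IsPGroup 2 (torsionChars G 2) := isPGroup_torsionChars (G := G) 1
  obtain ⟨r, hr⟩ := IsPGroup.iff_card.mp hPΛ
  have hr2 : 2 * k + 1 ≤ r := by
    have h1 := le_trans hgen (card_quot_frattini_le hG)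
    rw [hr] at h1
    exact (Nat.pow_le_pow_iff_right (by norm_num)).mp h1
  obtain ⟨n, hn⟩ := IsPGroup.iff_card.mp hG
  -- the count as a character sum
  have hcount : (Nat.card {x : G // x ^ 2 = 1} : ℤ) =
      ∑ χ : Cfsg.IrrCharacter G, nuZ χ * (Cfsg.charDegree (χ : G → ℂ) : ℤ) := by
    have h1 := sqrtCount_eq (1 : G)
    have h2 : sqrtCount (1 : G) = (Nat.card {x : G // x ^ 2 = 1} : ℂ) := by
      unfold sqrtCount
      congr 1
      apply Nat.card_congr
      exact Equiv.subtypeEquivRight (fun x => by rw [pow_two])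
    have h3 : ((Nat.card {x : G // x ^ 2 = 1} : ℤ) : ℂ) =
        ((∑ χ : Cfsg.IrrCharacter G, nuZ χ * (Cfsg.charDegree (χ : G → ℂ) : ℤ) : ℤ) : ℂ) := by
      push_cast
      rw [← h2, h1]
      apply Finset.sum_congr rfl
      intro χ _
      rw [nuZ_cast, IsCharacter.apply_one_eq_charDegree (IsIrrCharacter.isCharacter χ.2)]
    exact_mod_cast h3
  have hmain : ((2 ^ (k + 1) : ℕ) : ℤ) ∣
      ∑ χ : Cfsg.IrrCharacter G, nuZ χ * (Cfsg.charDegree (χ : G → ℂ) : ℤ) := by
    apply dvd_sum_of_forall_orbit (Γ := torsionChars G 2)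
    · rintro ⟨lam, hlam⟩ χ
      show nuZ (linMul lam χ) * (Cfsg.charDegree (linMul lam χ : G → ℂ) : ℤ) = _
      rw [nuZ_linMul lam ((mem_torsionChars 2 lam).mp hlam), charDegree_linMul]
    · intro χ
      have hdvd : Cfsg.charDegree (χ : G → ℂ) ∣ 2 ^ n := by
        rw [← hn]
        exact IsIrrCharacter.charDegree_dvd_card χ.2
      obtain ⟨j, _, hj⟩ := (Nat.dvd_prime_pow Nat.prime_two).mp hdvd
      obtain ⟨St, hSt⟩ : ∃ St : Subgroup (torsionChars G 2),
          St = MulAction.stabilizer (torsionChars G 2) χ := ⟨_, rfl⟩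
      obtain ⟨s, hs⟩ := IsPGroup.iff_card.mp (hPΛ.to_subgroup St)
      have hidx : St.index = Nat.card (MulAction.orbit (torsionChars G 2) χ) := by
        rw [hSt, MulAction.index_stabilizer, Nat.card_coe_set_eq]
      have hle : Nat.card St ≤ Cfsg.charDegree (χ : G → ℂ) ^ 2 := by
        have h1 := card_le_of_fixed (St.map (torsionChars G 2).subtype) χ (by
          rintro _ ⟨γ, hγ, rfl⟩
          have h2 : γ • χ = χ := by
            rw [hSt] at hγ
            exact MulAction.mem_stabilizer_iff.mp hγ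
          exact h2)
        rwa [Subgroup.card_map_of_injective (Subgroup.subtype_injective _)] at h1
      rw [hs, hj, ← pow_mul] at hle
      have hs2 : s ≤ j * 2 := (Nat.pow_le_pow_iff_right (by norm_num)).mp hle
      have hmul := St.card_mul_index
      rw [hs, hr, hidx] at hmul
      have hsr : s ≤ r := by
        have : 2 ^ s ∣ 2 ^ r := Dvd.intro _ hmul
        exact (Nat.pow_dvd_pow_iff_le_right (by norm_num)).mp this
      have horb : Nat.card (MulAction.orbit (torsionChars G 2) χ) = 2 ^ (r - s) := by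
        have h3 : 2 ^ r = 2 ^ s * 2 ^ (r - s) := by
          rw [← pow_add]
          congr 1
          omega
        rw [h3] at hmul
        exact Nat.eq_of_mul_eq_mul_left (by positivity) hmul
      rw [horb, hj]
      have h4 : ((2 ^ (k + 1) : ℕ) : ℤ) ∣ ((2 ^ (r - s) : ℕ) : ℤ) * ((2 ^ j : ℕ) : ℤ) := by
        rw [← Nat.cast_mul, ← pow_add]
        exact Int.natCast_dvd_natCast.mpr (pow_dvd_pow 2 (by omega))
      calc ((2 ^ (k + 1) : ℕ) : ℤ) ∣ ((2 ^ (r - s) : ℕ) : ℤ) * ((2 ^ j : ℕ) : ℤ) := h4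
        _ ∣ ((2 ^ (r - s) : ℕ) : ℤ) * (nuZ χ * ((2 ^ j : ℕ) : ℤ)) :=
          ⟨nuZ χ, by ring⟩
  rw [← hcount] at hmain
  exact Int.natCast_dvd_natCast.mp hmain

end Cfsg.Agent.Lib.Helper8.AFT
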