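import Mathlib
import Cfsg.Agent.Lib.Helper8.C5J
import Cfsg.Agent.S0144
import Cfsg.Agent.Lib.Helper5.DicksonOrders

set_option autoImplicit false
set_option maxHeartbeats 1600000
set_option linter.unusedVariables false
set_option linter.unusedSectionVars false
set_option linter.style.longLine false
set_option linter.deprecated false
set_option linter.style.haveILetI false
set_option linter.unusedSimpArgs false

/-!
# S3406, piece (H): no simple group has spectrum `{1, 2, 4, 5, r}`, `r ≥ 7` prime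

Every finite group all of whose element orders lie in `{1, 2, 4, 5, r}` is solvable
(strong induction; the minimal counterexample is a simple CIT group all of whose proper subgroups
are solvable, and the Case II pipeline of S3433 applies).
-/

namespace Cfsg.Agent.Lib.Helper8.AO

open Cfsg.Agent.Lib.Helper3.CP Cfsg.Agent.Lib.Helper8.CQ Cfsg.Agent.Lib.Helper8.C5

universe u

/-- all element orders lie in `{1, 2, 4, 5, r}` -/
def K5 (r : ℕ) (G : Type*) [Group G] : Prop :=
  ∀ g : G, orderOf g = 1 ∨ orderOf g = 2 ∨ orderOf g = 4 ∨ orderOf g = 5 ∨ orderOf g = r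

/-- the odd primes allowed -/
def P5r (r : ℕ) (p : ℕ) : Prop := p = 5 ∨ p = r

section basic
variable {r : ℕ} {G : Type*} [Group G]

theorem K5.subgroup (h : K5 r G) (H : Subgroup G) : K5 r H := by
  intro g
  have := h (g : G)
  rwa [Subgroup.orderOf_coe] at this

theorem K5.of_dvd (hr : r.Prime) {d n : ℕ} (hd : d ∣ n)
    (hn : n = 1 ∨ n = 2 ∨ n = 4 ∨ n = 5 ∨ n = r) :
    d = 1 ∨ d = 2 ∨ d = 4 ∨ d = 5 ∨ d = r := by
  rcases hn with h | h | h | h | h
  · subst h; left; exact Nat.dvd_one.mp hd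
  · subst h
    rcases (Nat.dvd_prime Nat.prime_two).mp hd with h | h
    · left; exact h
    · right; left; exact h
  · subst h
    have hle : d ≤ 4 := Nat.le_of_dvd (by norm_num) hd
    interval_cases d
    · simp at hd
    · left; rfl
    · right; left; rfl
    · norm_num at hd
    · right; right; left; rfl
  · subst h
    rcases (Nat.dvd_prime (by norm_num : Nat.Prime 5)).mp hd with h | h
    · left; exact h
    · right; right; right; left; exact h
  · subst h
    rcases (Nat.dvd_prime hr).mp hd with h | h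
    · left; exact h
    · right; right; right; right; exact h

theorem K5.quotient (hr : r.Prime) (h : K5 r G) (N : Subgroup G) [N.Normal] : K5 r (G ⧸ N) := by
  intro x
  obtain ⟨g, rfl⟩ := QuotientGroup.mk_surjective x
  have hd : orderOf (QuotientGroup.mk g : G ⧸ N) ∣ orderOf g := by
    apply orderOf_dvd_of_pow_eq_one
    rw [← QuotientGroup.mk_pow, pow_orderOf_eq_one]
    rfl
  exact K5.of_dvd hr hd (h g)

theorem K5.ccp (hr : r.Prime) (h : K5 r G) : CCP (P5r r) G := by
  intro g hg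
  have h1 : orderOf g ≠ 1 := fun h1 => hg (orderOf_eq_one_iff.mp h1)
  rcases h g with h' | h' | h' | h' | h'
  · exact absurd h' h1
  · left; exact ⟨1, by rw [h']; norm_num⟩
  · left; exact ⟨2, by rw [h']; norm_num⟩
  · right; rw [h']; exact ⟨by norm_num, Or.inl rfl⟩
  · right; rw [h']; exact ⟨hr, Or.inr rfl⟩

theorem K5.prime_mem [Finite G] (h : K5 r G) {p : ℕ} (hp : p.Prime) (hd : p ∣ Nat.card G) :
    p = 2 ∨ p = 5 ∨ p = r := by
  have : Fact p.Prime := ⟨hp⟩
  obtain ⟨g, hg⟩ := exists_prime_orderOf_dvd_card' p hd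
  rcases h g with h' | h' | h' | h' | h'
  · rw [hg] at h'; exact absurd h' hp.one_lt.ne'
  · left; rw [← hg, h']
  · rw [hg] at h'; rw [h'] at hp; norm_num at hp
  · right; left; rw [← hg, h']
  · right; right; rw [← hg, h']

end basic

section ccp
variable {P : ℕ → Prop} {G : Type*} [Group G] [Finite G]

/-- centralizers of nontrivial 2-subgroups are 2-groups (CCP version). -/
theorem isPGroup_centralizer_of_two (h : CCP P G) (Q : Subgroup G) (hQ2 : IsPGroup 2 Q)
    (hQ1 : Q ≠ ⊥) : IsPGroup 2 (Subgroup.centralizer (Q : Set G)) := by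
  obtain ⟨z, hzQ, hz⟩ := exists_invol_of_two_group hQ1 hQ2
  refine (isPGroup_centralizer_of_cc h hz).to_le ?_
  apply Subgroup.centralizer_le
  intro w hw
  rw [Set.mem_singleton_iff] at hw
  subst hw
  exact hzQ

/-- a member `M = N(Q)` has `C_G(Q) ≤ Q` (CCP version). -/
theorem mem_centralizer_le' (h : CCP P G) {M Q : Subgroup G} (hM : Mem M Q) :
    Subgroup.centralizer (Q : Set G) ≤ Q := by
  obtain ⟨hQne, ⟨hQM, hQ2, hQn, hmax⟩, hMN, hM2⟩ := hM
  apply hmax
  · rw [hMN]
    exact Subgroup.centralizer_le_normalizer _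
  · exact isPGroup_centralizer_of_two h Q hQ2 hQne
  · intro m hm c hc
    rw [Subgroup.mem_centralizer_iff] at hc ⊢
    intro q hq
    have hq' : m⁻¹ * q * m ∈ Q := by
      have := hQn m⁻¹ (M.inv_mem hm) q hq
      simpa using this
    have h := hc _ hq'
    calc q * (m * c * m⁻¹) = m * ((m⁻¹ * q * m) * c) * m⁻¹ := by group
      _ = m * (c * (m⁻¹ * q * m)) * m⁻¹ := by rw [h]
      _ = m * c * m⁻¹ * q := by group

/-- a member of `𝓜` with `|Q| = 4` has `Q` of exponent `2` (CCP version). -/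
theorem mem_sq_eq_one' (hC : CCP P G) {M Q : Subgroup G} (hM : Mem M Q)
    (hQ4 : Nat.card Q = 4) : ∀ e ∈ Q, e ^ 2 = 1 := by
  intro e heQ
  by_contra he2
  obtain ⟨hQne, ⟨hQM, hQ2, hQn, hmax⟩, hMN, hM2⟩ := hM
  have hdvd : orderOf e ∣ 4 := by
    have := Subgroup.orderOf_dvd_natCard Q heQ
    rwa [hQ4] at this
  have ho : orderOf e = 4 := by
    have hle : orderOf e ≤ 4 := Nat.le_of_dvd (by norm_num) hdvd
    have hpos : 0 < orderOf e := Nat.pos_of_dvd_of_pos hdvd (by norm_num)
    have h1 : orderOf e ≠ 1 := by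
      intro h
      rw [orderOf_eq_one_iff] at h
      exact he2 (by rw [h, one_pow])
    have h2 : orderOf e ≠ 2 := by
      intro h
      exact he2 (by rw [← h, pow_orderOf_eq_one])
    have h3 : orderOf e ≠ 3 := by
      intro h
      rw [h] at hdvd
      norm_num at hdvd
    omega
  have he4 : e ^ 4 = 1 := by rw [← ho, pow_orderOf_eq_one]
  have hQe : Subgroup.zpowers e = Q := by
    apply Subgroup.eq_of_le_of_card_ge
    · rw [Subgroup.zpowers_le]; exact heQ
    · rw [Nat.card_zpowers, ho, hQ4]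
  obtain ⟨y, hyM, r, hr, hr2, hyo⟩ := Cfsg.Agent.Lib.Helper9.CP.exists_odd_prime_order M hM2
  have he2o : orderOf (e ^ 2) = 2 := by
    rw [orderOf_pow' e (by norm_num : (2:ℕ) ≠ 0), ho]
    norm_num
  have key : ∀ z : G, orderOf z = r → z * e = e * z → False := by
    intro z hz hcomm
    refine CCP.false_of_commute hC hr Nat.prime_two hr2 hz he2o ?_
    have hc : Commute z e := hcomm
    exact (hc.pow_right 2).eq
  have hconj : y * e * y⁻¹ ∈ Subgroup.zpowers e := by
    rw [hQe]; exact hQn y hyM e heQ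
  rw [← mem_powers_iff_mem_zpowers] at hconj
  obtain ⟨k, hk⟩ := (Submonoid.mem_powers_iff _ _).1 hconj
  have hk' : e ^ (k % 4) = y * e * y⁻¹ := by
    rw [← hk, ← ho, pow_mod_orderOf]
  have hklt : k % 4 < 4 := Nat.mod_lt _ (by norm_num)
  have hconj_ne : y * e * y⁻¹ ≠ 1 := by
    intro h
    have : e = 1 := by
      have := congrArg (fun w => y⁻¹ * w * y) h
      simpa [mul_assoc] using this
    exact he2 (by rw [this, one_pow])
  have hconj_sq : (y * e * y⁻¹) ^ 2 ≠ 1 := by
    intro h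
    have h' : y * e ^ 2 * y⁻¹ = 1 := by
      rw [← h]; simp [pow_two, mul_assoc]
    have : e ^ 2 = 1 := by
      have := congrArg (fun w => y⁻¹ * w * y) h'
      simpa [mul_assoc] using this
    exact he2 this
  interval_cases hkk : k % 4
  · rw [pow_zero] at hk'
    exact hconj_ne hk'.symm
  · rw [pow_one] at hk'
    apply key y hyo
    calc y * e = (y * e * y⁻¹) * y := by group
      _ = e * y := by rw [← hk']
  · apply hconj_sq
    rw [← hk', ← pow_mul]
    exact he4
  · have hy2 : orderOf (y ^ 2) = r := by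
      rw [Nat.Coprime.orderOf_pow, hyo]
      rw [hyo]
      exact ((Nat.coprime_primes Nat.prime_two hr).2 (Ne.symm hr2)).symm
    apply key (y ^ 2) hy2
    have h3 : y * e ^ 3 * y⁻¹ = e := by
      have : y * e ^ 3 * y⁻¹ = (y * e * y⁻¹) ^ 3 := by
        simp [pow_succ, mul_assoc]
      rw [this, ← hk', ← pow_mul]
      have : e ^ (3 * 3) = e ^ 4 * e ^ 4 * e := by
        rw [← pow_add, ← pow_succ]
      rw [this, he4, one_mul, one_mul]
    have h4 : y ^ 2 * e * (y ^ 2)⁻¹ = e := by
      calc y ^ 2 * e * (y ^ 2)⁻¹ = y * (y * e * y⁻¹) * y⁻¹ := by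
            rw [pow_two]; group
        _ = y * e ^ 3 * y⁻¹ := by rw [← hk']
        _ = e := h3
    calc y ^ 2 * e = (y ^ 2 * e * (y ^ 2)⁻¹) * y ^ 2 := by group
      _ = e * y ^ 2 := by rw [h4]

end ccp

section arith

/-- `3` divides the order of `PSL₂(F)`. -/
theorem three_dvd_card_psl2 (F : Type) [Field F] [Fintype F] :
    3 ∣ Nat.card (Matrix.ProjectiveSpecialLinearGroup (Fin 2) F) := by
  have hmul := Cfsg.Agent.Lib.Helper5.DicksonOrders.card_PSL2_mul (F := F)
  have hq1 : 1 ≤ Fintype.card F := Fintype.card_pos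
  generalize Fintype.card F = q at *
  have h3 : 3 ∣ q * ((q - 1) * (q + 1)) := by
    have : q % 3 = 0 ∨ q % 3 = 1 ∨ q % 3 = 2 := by omega
    rcases this with h | h | h
    · exact Dvd.dvd.mul_right (Nat.dvd_of_mod_eq_zero h) _
    · exact Dvd.dvd.mul_left (Dvd.dvd.mul_right (by omega) _) _
    · exact Dvd.dvd.mul_left (Dvd.dvd.mul_left (by omega) _) _
  rw [← hmul] at h3
  have hd : Nat.gcd 2 (q - 1) = 1 ∨ Nat.gcd 2 (q - 1) = 2 :=
    (Nat.dvd_prime Nat.prime_two).mp (Nat.gcd_dvd_left 2 (q - 1))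
  have hcop : Nat.Coprime 3 (Nat.gcd 2 (q - 1)) := by
    rcases hd with h | h <;> rw [h] <;> decide
  exact hcop.dvd_of_dvd_mul_left h3

/-- the three pairwise coprime odd factors of a Suzuki order need three odd primes. -/
theorem suzuki_arith (r : ℕ) (n m : ℕ) (hm : 1 ≤ m)
    (hn : n = (2 ^ (2 * m + 1)) ^ 2 * ((2 ^ (2 * m + 1)) ^ 2 + 1) * (2 ^ (2 * m + 1) - 1))
    (hpr : ∀ p : ℕ, p.Prime → p ∣ n → p = 2 ∨ p = 5 ∨ p = r) : False := by
  obtain ⟨y, hy⟩ : ∃ y, 2 ^ m = y + 1 := ⟨2 ^ m - 1, by have := Nat.one_le_two_pow (n := m); omega⟩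
  have hy1 : 1 ≤ y := by
    have : 2 ^ 1 ≤ 2 ^ m := Nat.pow_le_pow_right (by norm_num) hm
    omega
  have hq : 2 ^ (2 * m + 1) = 2 * (y + 1) ^ 2 := by
    rw [← hy, pow_succ, pow_mul', mul_comm]
  set a := 2 * (y + 1) * (y + 2) + 1 with ha
  set b := 2 * (y + 1) * y + 1 with hb
  set c := 2 * y * (y + 2) + 1 with hc
  have hab : (2 ^ (2 * m + 1)) ^ 2 + 1 = a * b := by rw [hq, ha, hb]; ring
  have hcq : 2 ^ (2 * m + 1) - 1 = c := by
    rw [hq, hc]
    have : 2 * (y + 1) ^ 2 = 2 * y * (y + 2) + 1 + 1 := by ring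
    omega
  have e1 : (y + 2) * b = y * a + 2 := by rw [ha, hb]; ring
  have e2 : (y + 1) * c = y * a + 1 := by rw [ha, hc]; ring
  have e3 : (y + 2) * b = (y + 1) * c + 1 := by rw [hb, hc]; ring
  have han : a ∣ n := by
    rw [hn, hab]
    exact Dvd.dvd.mul_right (Dvd.dvd.mul_left (Dvd.intro _ rfl) _) _
  have hbn : b ∣ n := by
    rw [hn, hab]
    exact Dvd.dvd.mul_right (Dvd.dvd.mul_left (Dvd.intro_left _ rfl) _) _
  have hcn : c ∣ n := by
    rw [hn, hcq]
    exact Dvd.intro_left _ rfl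
  have ha1 : a ≠ 1 := by rw [ha]; nlinarith
  have hb1 : b ≠ 1 := by rw [hb]; nlinarith
  have hc1 : c ≠ 1 := by rw [hc]; nlinarith
  have haodd : ¬ 2 ∣ a := by
    rw [← even_iff_two_dvd, Nat.not_even_iff_odd]
    exact ⟨(y + 1) * (y + 2), by rw [ha]; ring⟩
  have hbodd : ¬ 2 ∣ b := by
    rw [← even_iff_two_dvd, Nat.not_even_iff_odd]
    exact ⟨(y + 1) * y, by rw [hb]; ring⟩
  have hcodd : ¬ 2 ∣ c := by
    rw [← even_iff_two_dvd, Nat.not_even_iff_odd]
    exact ⟨y * (y + 2), by rw [hc]; ring⟩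
  -- prime factors
  have hpa := Nat.minFac_prime ha1
  have hpb := Nat.minFac_prime hb1
  have hpc := Nat.minFac_prime hc1
  have hda := Nat.minFac_dvd a
  have hdb := Nat.minFac_dvd b
  have hdc := Nat.minFac_dvd c
  have hab_ne : a.minFac ≠ b.minFac := by
    intro h
    have h1 : a.minFac ∣ (y + 2) * b := Dvd.dvd.mul_left (h ▸ hdb) _
    have h2 : a.minFac ∣ y * a := Dvd.dvd.mul_left hda _
    rw [e1] at h1
    have h3 : a.minFac ∣ 2 := (Nat.dvd_add_right h2).mp h1
    have h4 : a.minFac = 2 := (Nat.prime_dvd_prime_iff_eq hpa Nat.prime_two).mp h3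
    exact haodd (h4 ▸ hda)
  have hac_ne : a.minFac ≠ c.minFac := by
    intro h
    have h1 : a.minFac ∣ (y + 1) * c := Dvd.dvd.mul_left (h ▸ hdc) _
    have h2 : a.minFac ∣ y * a := Dvd.dvd.mul_left hda _
    rw [e2] at h1
    have h3 : a.minFac ∣ 1 := (Nat.dvd_add_right h2).mp h1
    exact hpa.one_lt.ne' (Nat.dvd_one.mp h3)
  have hbc_ne : b.minFac ≠ c.minFac := by
    intro h
    have h1 : b.minFac ∣ (y + 2) * b := Dvd.dvd.mul_left hdb _
    have h2 : b.minFac ∣ (y + 1) * c := Dvd.dvd.mul_left (h ▸ hdc) _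
    rw [e3] at h1
    have h3 : b.minFac ∣ 1 := (Nat.dvd_add_right h2).mp h1
    exact hpb.one_lt.ne' (Nat.dvd_one.mp h3)
  have ha2 : a.minFac ≠ 2 := fun h => haodd (h ▸ hda)
  have hb2 : b.minFac ≠ 2 := fun h => hbodd (h ▸ hdb)
  have hc2 : c.minFac ≠ 2 := fun h => hcodd (h ▸ hdc)
  have h1 := hpr _ hpa (hda.trans han)
  have h2 := hpr _ hpb (hdb.trans hbn)
  have h3 := hpr _ hpc (hdc.trans hcn)
  omega

end arith

/-- every finite group with element orders in `{1, 2, 4, 5, r}` (`r ≥ 7` prime) is solvable. -/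
theorem solvable_of_K5 (r : ℕ) (hr : r.Prime) (hr7 : 7 ≤ r) :
    ∀ (n : ℕ) (G : Type u) [Group G] [Finite G], Nat.card G = n → K5 r G → IsSolvable G := by
  intro n
  induction n using Nat.strong_induction_on with
  | _ n ih =>
  intro G _ _ hcard hK
  haveI : Fact (Nat.Prime 2) := ⟨Nat.prime_two⟩
  by_contra hns
  -- proper subgroups are solvable
  have hsub : ∀ H : Subgroup G, H ≠ ⊤ → IsSolvable H := by
    intro H hH
    refine ih (Nat.card H) ?_ H rfl (hK.subgroup H)
    rw [← hcard]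
    have h1 : Nat.card H ≤ Nat.card G := Subgroup.card_le_card_group H
    rcases Nat.lt_or_ge (Nat.card H) (Nat.card G) with h | h
    · exact h
    · exact absurd (Subgroup.eq_top_of_card_eq H (le_antisymm h1 h)) hH
  -- G is simple
  have hnt : Nontrivial G := by
    by_contra h
    rw [not_nontrivial_iff_subsingleton] at h
    apply hns
    exact Group.isSolvable_of_comm (fun a b => Subsingleton.elim _ _)
  have hsimple : IsSimpleGroup G := by
    refine { exists_pair_ne := hnt.exists_pair_ne, eq_bot_or_eq_top_of_normal := ?_ }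
    intro N hN
    by_contra hcon
    push Not at hcon
    obtain ⟨hN1, hN2⟩ := hcon
    haveI := hN
    have h1 : Group.IsSolvable N := hsub N hN2
    have h2 : Group.IsSolvable (G ⧸ N) := by
      refine ih (Nat.card (G ⧸ N)) ?_ (G ⧸ N) rfl (hK.quotient hr N)
      rw [← hcard, ← Subgroup.index_eq_card, ← Subgroup.card_mul_index N]
      have hNc : 1 < Nat.card N := by
        rw [Subgroup.one_lt_card_iff_ne_bot]; exact hN1
      have hi : 0 < N.index := Nat.pos_of_ne_zero Subgroup.index_ne_zero_of_finite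
      nlinarith
    apply hns
    haveI := h1
    haveI := h2
    exact solvable_of_ker_le_range N.subtype (QuotientGroup.mk' N) (by simp)
  haveI := hsimple
  have hccp : CCP (P5r r) G := hK.ccp hr
  have hG2 : ¬ IsPGroup 2 G := fun h => hns (solvable_of_isPGroup_two' h)
  have htop2 : ∀ R : Subgroup G, IsPGroup 2 R → R ≠ ⊤ := by
    intro R hR hRtop
    apply hG2
    intro g
    obtain ⟨k, hk⟩ := hR ⟨g, hRtop ▸ Subgroup.mem_top g⟩
    exact ⟨k, by simpa using congrArg Subtype.val hk⟩
  have hloc : ∀ R : Subgroup G, R ≠ ⊥ → IsPGroup 2 R →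
      IsSolvable ↥(Subgroup.normalizer (R : Set G)) := by
    intro R hR1 hR2
    apply hsub
    intro htop
    have hRn : R.Normal := Subgroup.normalizer_eq_top_iff.mp htop
    rcases hRn.eq_bot_or_eq_top with h | h
    · exact hR1 h
    · exact htop2 R hR2 h
  have ctx : CtxP (P5r r) G := ⟨hccp, hns, hloc⟩
  have hCIT : ∀ t : G, orderOf t = 2 → IsPGroup 2 (Subgroup.centralizer ({t} : Set G)) :=
    fun t ht => isPGroup_centralizer_of_cc hccp ht
  have hprime : ∀ p : ℕ, p.Prime → p ∣ Nat.card G → p = 2 ∨ p = 5 ∨ p = r :=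
    fun p hp hd => hK.prime_mem hp hd
  have hpsl : (∃ (F : Type) (_ : Field F) (_ : Fintype F),
      Nonempty (G ≃* Matrix.ProjectiveSpecialLinearGroup (Fin 2) F)) → False := by
    rintro ⟨F, hField, hFin, ⟨e⟩⟩
    have hcardG : Nat.card G = Nat.card (Matrix.ProjectiveSpecialLinearGroup (Fin 2) F) :=
      Nat.card_congr e.toEquiv
    have h3 : 3 ∣ Nat.card G := by rw [hcardG]; exact three_dvd_card_psl2 F
    have := hprime 3 Nat.prime_three h3
    omega
  by_cases hnTI : ∃ P Q : Sylow 2 G, P ≠ Q ∧ (P : Subgroup G) ⊓ (Q : Subgroup G) ≠ ⊥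
  · obtain ⟨M, Q, hMem, hQ4⟩ :=
      Cfsg.Agent.Lib.Helper1.CP.exists_mem_card_four_of
        (fun h1 h2 h3 => mem_structure ctx h1 h2 h3)
        (fun h1 h2 h3 => mem_selfnorm ctx h1 h2 h3)
        (fun h1 h2 h3 => mem_no_common ctx h1 h2 h3)
        (fun R h1 h2 h3 => exists_mem_of_local ctx R h1 h2 h3)
        (fun h h' hQQ hQT hQT' hU2 => Cfsg.Agent.Lib.Helper3.CP.pair_lemma h h' hQQ hQT hQT' hU2)
        (fun N hN => no_index_two' hns N hN) hnTI
    exact hpsl (psl2_of_four_group hCIT hns Q hQ4 (mem_sq_eq_one' hccp hMem hQ4)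
      (mem_centralizer_le' hccp hMem))
  · have hTI : ∀ P Q : Sylow 2 G, P ≠ Q → (P : Subgroup G) ⊓ (Q : Subgroup G) = ⊥ := by
      intro P Q hPQ
      by_contra h
      exact hnTI ⟨P, Q, hPQ, h⟩
    have h2 : ∃ P Q : Sylow 2 G, P ≠ Q := by
      by_contra hcon
      push Not at hcon
      haveI : Subsingleton (Sylow 2 G) := ⟨hcon⟩
      obtain ⟨P⟩ : Nonempty (Sylow 2 G) := inferInstance
      have hPn : (P : Subgroup G).Normal := Sylow.normal_of_subsingleton P
      rcases hPn.eq_bot_or_eq_top with h1 | h1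
      · -- |G| is odd: a {5, r}-group, solvable by Burnside
        apply hns
        have hodd : ¬ 2 ∣ Nat.card G := fun hd => P.ne_bot_of_dvd_card hd h1
        have hn0 : Nat.card G ≠ 0 := Nat.card_pos.ne'
        have hr5 : (5 : ℕ) ≠ r := by omega
        have hsupp : (Nat.card G).factorization.support ⊆ ({5, r} : Finset ℕ) := by
          intro p hp
          rw [Nat.support_factorization, Nat.mem_primeFactors] at hp
          rcases hprime p hp.1 hp.2.1 with h | h | h
          · exact absurd (h ▸ hp.2.1) hodd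
          · simp [h]
          · simp [h]
        have hfac : Nat.card G = 5 ^ (Nat.card G).factorization 5 * r ^ (Nat.card G).factorization r := by
          have h1 := Nat.factorization_prod_pow_eq_self hn0
          rw [Finsupp.prod_of_support_subset _ hsupp _ (by intro i _; exact pow_zero i),
            Finset.prod_pair hr5] at h1
          exact h1.symm
        exact Cfsg.Agent.S0144.result 5 r _ _ (by norm_num) hr hfac
      · exact htop2 P P.isPGroup' h1
    have hZ := Cfsg.Agent.Lib.Helper2.TIZ.zassenhaus_of_cit_ti hCIT hTI h2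
    rcases Cfsg.Agent.S0340.result hZ with h | h
    · exact hpsl h
    · obtain ⟨-, m, hm, hcardS⟩ := h
      exact suzuki_arith r (Nat.card G) m hm hcardS hprime

/-- S3406, piece (H). -/
theorem no_spec_245r {G : Type*} [Group G] [Finite G] [IsSimpleGroup G] (hG : ¬ IsMulCommutative G) (r : ℕ) (hr : r.Prime) (hr7 : 7 ≤ r) (h : Set.range (orderOf : G → ℕ) = {1, 2, 4, 5, r}) : False := by
  have hK : K5 r G := by
    intro g
    have : orderOf g ∈ Set.range (orderOf : G → ℕ) := ⟨g, rfl⟩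
    rw [h] at this
    simpa using this
  have hs : IsSolvable G := solvable_of_K5 r hr hr7 (Nat.card G) G rfl hK
  apply hG
  have hcomm := (IsSimpleGroup.comm_iff_isSolvable (G := G)).mpr hs
  exact ⟨⟨hcomm⟩⟩

end Cfsg.Agent.Lib.Helper8.AO
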