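import Cfsg.Agent.Lib.Helper9.AbCb
import Cfsg.Agent.Lib.Helper9.T97a

/-! S2202 piece Q (helper9's farm-out): passage to the quotient by the core of `N_G(T)`. -/

set_option autoImplicit false
open Cfsg Cfsg.Agent.Lib.Lead Cfsg.Agent.Lib.Lead.SE Cfsg.Agent.Lib.Helper9.AbC

namespace Cfsg.Agent.Lib.Helper8.AbCQ

variable {G : Type*} [Group G] [Finite G] {T : Sylow 2 G}

local notation "HH" => Subgroup.normalizer ((T : Subgroup G) : Set G)
local notation "NN" => Subgroup.normalCore (Subgroup.normalizer ((T : Subgroup G) : Set G))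
local notation "pq" => QuotientGroup.mk' (Subgroup.normalCore (Subgroup.normalizer ((T : Subgroup G) : Set G)))

theorem pq_eq_iff (a b : G) : pq a = pq b ↔ a⁻¹ * b ∈ NN := by
  exact QuotientGroup.eq

theorem pq_eq_one_iff (a : G) : pq a = 1 ↔ a ∈ NN := by
  exact QuotientGroup.eq_one_iff a

/-- A `2`-element whose image lies in the image of `T` lies in `T`. -/
theorem mem_of_map_mem (h : Hyp T) {x : G} {k : ℕ} (hk : orderOf x = 2 ^ k)
    (hx : pq x ∈ (T : Subgroup G).map pq) : x ∈ T := by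
  obtain ⟨t', ht', hπ⟩ := hx
  have hn : t'⁻¹ * x ∈ NN := (pq_eq_iff t' x).mp hπ
  set n := t'⁻¹ * x with hndef
  have hx' : x = t' * n := by rw [hndef]; group
  have hcomm : Commute t' n := (h.core_cent hn ht').symm
  have hpow : t' ^ (2 ^ k) * n ^ (2 ^ k) = 1 := by
    rw [← hcomm.mul_pow, ← hx', ← hk, pow_orderOf_eq_one]
  have hnT : n ^ (2 ^ k) ∈ T := by
    have : n ^ (2 ^ k) = (t' ^ (2 ^ k))⁻¹ := by
      rw [eq_inv_iff_mul_eq_one, ← hpow]
      exact ((hcomm.pow_pow _ _).eq).symm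
    rw [this]
    exact inv_mem (pow_mem ht' _)
  have hn1 : n ^ (2 ^ k) = 1 := h.core_inf (pow_mem hn _) hnT
  have hdvd : orderOf n ∣ 2 ^ k := orderOf_dvd_of_pow_eq_one hn1
  have hodd : Odd (orderOf n) := h.core_odd hn
  have hcop : (orderOf n).Coprime (2 ^ k) :=
    Nat.Coprime.pow_right _ (Nat.coprime_two_right.mpr hodd)
  have h1 : orderOf n = 1 := hcop.eq_one_of_dvd hdvd
  have hn1' : n = 1 := orderOf_eq_one_iff.mp h1
  rw [hx', hn1', mul_one]
  exact ht'

theorem orderOf_conj' (g t : G) : orderOf (g * t * g⁻¹) = orderOf t := by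
  rw [← MulAut.conj_apply, MulEquiv.orderOf_eq]

/-- KEY LEMMA (K). -/
theorem conj_mem_of_map (h : Hyp T) {t : G} (ht : t ∈ T) (g : G)
    (hx : pq (g * t * g⁻¹) ∈ (T : Subgroup G).map pq) : g * t * g⁻¹ ∈ T := by
  obtain ⟨k, hk⟩ := h.orderOf_mem ht
  exact mem_of_map_mem h (k := k) (by rw [orderOf_conj', hk]) hx

/-- (K'): the preimage of the normalizer of the image of `T` is `N_G(T)`. -/
theorem mem_normalizer_map_iff (h : Hyp T) (g : G) :
    pq g ∈ Subgroup.normalizer (((T : Subgroup G).map pq : Subgroup (G ⧸ NN)) : Set (G ⧸ NN)) ↔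
      g ∈ HH := by
  constructor
  · intro hg
    have key : ∀ g : G, pq g ∈ Subgroup.normalizer
        (((T : Subgroup G).map pq : Subgroup (G ⧸ NN)) : Set (G ⧸ NN)) →
        ∀ t ∈ T, g * t * g⁻¹ ∈ T := by
      intro g hg t ht
      apply conj_mem_of_map h ht
      have := (Subgroup.mem_normalizer_iff.mp hg (pq t)).mp (Subgroup.mem_map_of_mem _ ht)
      simpa using this
    have h1 := key g hg
    have h2 := key g⁻¹ (by rw [map_inv]; exact inv_mem hg)
    rw [Subgroup.mem_normalizer_iff]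
    intro t
    constructor
    · exact h1 t
    · intro ht
      have := h2 _ ht
      have h5 : g⁻¹ * (g * t * g⁻¹) * g⁻¹⁻¹ = t := by group
      rw [h5] at this
      exact this
  · intro hg
    have key : ∀ g : G, g ∈ HH → ∀ y ∈ (T : Subgroup G).map pq,
        pq g * y * (pq g)⁻¹ ∈ (T : Subgroup G).map pq := by
      intro g hg y hy
      obtain ⟨t, ht, rfl⟩ := hy
      have : g * t * g⁻¹ ∈ (T : Subgroup G) := (Subgroup.mem_normalizer_iff.mp hg t).mp ht
      have h3 := Subgroup.mem_map_of_mem pq this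
      simpa using h3
    rw [Subgroup.mem_normalizer_iff]
    intro y
    constructor
    · exact key g hg y
    · intro hy
      have := key g⁻¹ (inv_mem hg) _ hy
      have h5 : pq g⁻¹ * (pq g * y * (pq g)⁻¹) * (pq g⁻¹)⁻¹ = y := by
        rw [map_inv]; group
      rw [h5] at this
      exact this

theorem card_core_coprime (h : Hyp T) : (Nat.card NN).Coprime 2 := by
  rw [Nat.coprime_two_right]
  by_contra hne
  rw [Nat.not_odd_iff_even, even_iff_two_dvd] at hne
  haveI : Fact (Nat.Prime 2) := ⟨Nat.prime_two⟩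
  obtain ⟨x, hx⟩ := exists_prime_orderOf_dvd_card' 2 hne
  have hodd : Odd (orderOf (x : G)) := h.core_odd x.2
  rw [Subgroup.orderOf_coe, hx] at hodd
  exact absurd hodd (by decide)

/-- Any lift of an element commuting with the image of an involution `u` commutes with `u`. -/
theorem lift_commute (h : Hyp T) {u : G} (hu : orderOf u = 2) {a : G}
    (ha : pq a * pq u = pq u * pq a) : a * u = u * a := by
  have hu2 : u ^ 2 = 1 := by
    have := pow_orderOf_eq_one u
    rw [hu] at this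
    exact this
  set n := a * u * a⁻¹ * u⁻¹ with hndef
  have hn : n ∈ NN := by
    rw [← pq_eq_one_iff, hndef]
    simp only [map_mul, map_inv]
    rw [ha]
    group
  have hcomm : Commute n u := h.core_cent_invol hn hu
  have hau : a * u * a⁻¹ = n * u := by rw [hndef]; group
  have h1 : (a * u * a⁻¹) ^ 2 = 1 := by
    rw [show (a * u * a⁻¹) ^ 2 = a * u ^ 2 * a⁻¹ by rw [pow_two, pow_two]; group]
    rw [hu2]; group
  have h2 : n ^ 2 = 1 := by
    rw [hau, hcomm.mul_pow, hu2, mul_one] at h1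
    exact h1
  have hn1 : n = 1 := eq_one_of_odd_of_sq (h.core_odd hn) h2
  rw [hn1, one_mul] at hau
  calc a * u = a * u * a⁻¹ * a := by group
    _ = u * a := by rw [hau]

section quot

variable {T' : Sylow 2 (G ⧸ Subgroup.normalCore (Subgroup.normalizer ((T : Subgroup G) : Set G)))}
  (hT' : (T' : Subgroup (G ⧸ Subgroup.normalCore
      (Subgroup.normalizer ((T : Subgroup G) : Set G)))) =
    (T : Subgroup G).map (QuotientGroup.mk' (Subgroup.normalCore
      (Subgroup.normalizer ((T : Subgroup G) : Set G)))))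

include hT'

theorem pq_mem_T' {t : G} (ht : t ∈ T) : pq t ∈ T' := by
  have h1 : pq t ∈ Subgroup.map pq (T : Subgroup G) := Subgroup.mem_map_of_mem _ ht
  rw [← hT'] at h1
  exact h1

theorem exists_of_mem_T' {y : G ⧸ NN} (hy : y ∈ T') : ∃ t : G, t ∈ T ∧ pq t = y := by
  have h1 : y ∈ T'.toSubgroup := hy
  rw [hT'] at h1
  obtain ⟨t, ht, rfl⟩ := h1
  exact ⟨t, ht, rfl⟩

theorem mem_normalizer_T'_iff (h : Hyp T) (g : G) :
    pq g ∈ Subgroup.normalizer ((T' : Subgroup (G ⧸ NN)) : Set (G ⧸ NN)) ↔ g ∈ HH := by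
  rw [hT']
  exact mem_normalizer_map_iff h g

theorem hyp_quot (h : Hyp T) : Hyp T' := by
  refine ⟨?_, ?_, ?_⟩
  · intro hcyc
    apply h.nc
    have hmem : ∀ x : (T : Subgroup G), (MonoidHom.comp pq (T : Subgroup G).subtype) x ∈
        (T' : Subgroup (G ⧸ NN)) := fun x => pq_mem_T' hT' x.2
    let f : (T : Subgroup G) →* (T' : Subgroup (G ⧸ NN)) :=
      (MonoidHom.comp pq (T : Subgroup G).subtype).codRestrict (T' : Subgroup (G ⧸ NN)) hmem
    have hf : Function.Injective f := by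
      intro a b hab
      have h1 : pq (a : G) = pq (b : G) := by
        have := congrArg Subtype.val hab
        exact this
      have h2 : (a : G)⁻¹ * (b : G) ∈ NN := (pq_eq_iff _ _).mp h1
      have h3 : (a : G)⁻¹ * (b : G) = 1 :=
        h.core_inf h2 (mul_mem (inv_mem a.2) b.2)
      apply Subtype.ext
      rw [inv_mul_eq_one] at h3
      exact h3
    exact isCyclic_of_injective f hf
  · intro hn
    apply h.nn
    refine ⟨fun t ht g => ?_⟩
    apply conj_mem_of_map h ht
    have h1 : pq g * pq t * (pq g)⁻¹ ∈ (T' : Subgroup (G ⧸ NN)) :=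
      hn.conj_mem _ (pq_mem_T' hT' ht) _
    rw [hT'] at h1
    simpa using h1
  · intro tb htb ab bb hab hbb
    have htb1 : tb ≠ 1 := by
      intro h1
      rw [h1, orderOf_one] at htb
      omega
    have htb2 : tb ^ 2 = 1 := by
      have := pow_orderOf_eq_one tb
      rw [htb] at this
      exact this
    obtain ⟨u, hu1, hu2, hu⟩ :=
      Cfsg.Agent.Lib.Helper9.T97.lift_invol NN (card_core_coprime h) tb htb1 htb2
    haveI : Fact (Nat.Prime 2) := ⟨Nat.prime_two⟩
    have huo : orderOf u = 2 := orderOf_eq_prime hu2 hu1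
    obtain ⟨a, rfl⟩ := QuotientGroup.mk'_surjective NN ab
    obtain ⟨b, rfl⟩ := QuotientGroup.mk'_surjective NN bb
    have hau : a * u = u * a := lift_commute h huo (by rw [hu]; exact hab)
    have hbu : b * u = u * b := lift_commute h huo (by rw [hu]; exact hbb)
    have := h.ab u huo a b hau hbu
    rw [← map_mul, ← map_mul, this]

theorem core_quot (h : Hyp T) :
    (Subgroup.normalizer ((T' : Subgroup (G ⧸ NN)) : Set (G ⧸ NN))).normalCore = ⊥ := by
  rw [eq_bot_iff]
  intro xb hxb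
  obtain ⟨x, rfl⟩ := QuotientGroup.mk'_surjective NN xb
  rw [Subgroup.mem_bot, pq_eq_one_iff]
  intro g
  have := hxb (pq g)
  rw [← map_inv, ← map_mul, ← map_mul, mem_normalizer_T'_iff hT' h] at this
  exact this

/-- the map of coset spaces `G ⧸ N_G(T) → (G ⧸ N) ⧸ N(T')`. -/
noncomputable def phi (h : Hyp T) : G ⧸ HH →
    (G ⧸ NN) ⧸ Subgroup.normalizer ((T' : Subgroup (G ⧸ NN)) : Set (G ⧸ NN)) :=
  fun y => Quotient.liftOn' y
    (fun a => ((pq a : G ⧸ NN) :
      (G ⧸ NN) ⧸ Subgroup.normalizer ((T' : Subgroup (G ⧸ NN)) : Set (G ⧸ NN))))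
    (by
      intro a b hab
      rw [QuotientGroup.leftRel_apply] at hab
      rw [QuotientGroup.eq, ← map_inv, ← map_mul, mem_normalizer_T'_iff hT' h]
      exact hab)

theorem phi_mk (h : Hyp T) (a : G) :
    phi hT' h (a : G ⧸ HH) = ((pq a : G ⧸ NN) :
      (G ⧸ NN) ⧸ Subgroup.normalizer ((T' : Subgroup (G ⧸ NN)) : Set (G ⧸ NN))) := rfl

theorem phi_inj (h : Hyp T) : Function.Injective (phi hT' h) := by
  intro y z hyz
  induction y using QuotientGroup.induction_on with
  | H a =>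
    induction z using QuotientGroup.induction_on with
    | H b =>
      rw [phi_mk, phi_mk, QuotientGroup.eq, ← map_inv, ← map_mul,
        mem_normalizer_T'_iff hT' h] at hyz
      exact QuotientGroup.eq.mpr hyz

theorem phi_smul (h : Hyp T) (g : G) (y : G ⧸ HH) :
    phi hT' h (g • y) = pq g • phi hT' h y := by
  induction y using QuotientGroup.induction_on with
  | H a =>
    rw [MulAction.Quotient.smul_mk, phi_mk, phi_mk, MulAction.Quotient.smul_mk, smul_eq_mul,
      smul_eq_mul, map_mul]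

theorem phi_base (h : Hyp T) :
    phi hT' h ((1 : G) : G ⧸ HH) = (((1 : G ⧸ NN)) :
      (G ⧸ NN) ⧸ Subgroup.normalizer ((T' : Subgroup (G ⧸ NN)) : Set (G ⧸ NN))) := by
  rw [phi_mk, map_one]

theorem concl_of_quot (h : Hyp T) (hc : Concl T') : Concl T := by
  have hcore := core_quot hT' h
  have hfix : ∀ (g : G) (x : G ⧸ HH), g • x = x → pq g • phi hT' h x = phi hT' h x := by
    intro g x hx
    rw [← phi_smul, hx]
  have hfix' : ∀ (g : G) (x : G ⧸ HH), pq g • phi hT' h x = phi hT' h x → g • x = x := by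
    intro g x hx
    rw [← phi_smul] at hx
    exact phi_inj hT' h hx
  have hne : ∀ x y : G ⧸ HH, x ≠ y → phi hT' h x ≠ phi hT' h y :=
    fun x y hxy hh => hxy (phi_inj hT' h hh)
  refine ⟨?_, ?_, ?_, ?_, ?_⟩
  · intro t ht
    have h1 := hc.elem _ (pq_mem_T' hT' ht)
    rw [← map_pow, pq_eq_one_iff] at h1
    exact h.core_inf h1 (pow_mem ht 2)
  · intro c hcT hodd
    have h1 : pq c ∈ (Subgroup.normalizer ((T' : Subgroup (G ⧸ NN)) : Set (G ⧸ NN))).normalCore := by
      apply hc.core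
      · intro tb htb
        obtain ⟨t, ht, rfl⟩ := exists_of_mem_T' hT' htb
        rw [← map_mul, ← map_mul, hcT t ht]
      · exact Odd.of_dvd_nat hodd (orderOf_map_dvd _ c)
    rw [hcore, Subgroup.mem_bot, pq_eq_one_iff] at h1
    exact h1
  · intro y z hy hz
    have hy' := hne _ _ hy
    have hz' := hne _ _ hz
    rw [phi_base] at hy' hz'
    obtain ⟨tb, ⟨htb, htby⟩, huniq⟩ := hc.reg _ _ hy' hz'
    obtain ⟨t, ht, rfl⟩ := exists_of_mem_T' hT' htb
    refine ⟨t, ⟨ht, ?_⟩, ?_⟩
    · rw [← phi_smul] at htby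
      exact phi_inj hT' h htby
    · intro t₂ ⟨ht₂, ht₂y⟩
      have h2 : pq t₂ = pq t := by
        apply huniq
        refine ⟨pq_mem_T' hT' ht₂, ?_⟩
        rw [← phi_smul, ht₂y]
      have h3 : t₂⁻¹ * t ∈ NN := (pq_eq_iff _ _).mp h2
      have h4 := h.core_inf h3 (mul_mem (inv_mem ht₂) ht)
      rw [inv_mul_eq_one] at h4
      exact h4
  · intro g x y z hxy hxz hyz hx hy hz
    have h1 := hc.three (pq g) _ _ _ (hne _ _ hxy) (hne _ _ hxz) (hne _ _ hyz)
      (hfix g x hx) (hfix g y hy) (hfix g z hz)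
    rw [hcore, Subgroup.mem_bot, pq_eq_one_iff] at h1
    exact h1
  · intro x y hxy
    obtain ⟨db, hdx, hdy, hd⟩ := hc.gen2 _ _ (hne _ _ hxy)
    obtain ⟨d₀, rfl⟩ := QuotientGroup.mk'_surjective NN db
    refine ⟨d₀, hfix' _ _ hdx, hfix' _ _ hdy, ?_⟩
    intro d hx hy
    obtain ⟨k, nb, hnb, hdk⟩ := hd (pq d) (hfix d x hx) (hfix d y hy)
    rw [hcore, Subgroup.mem_bot] at hnb
    rw [hnb, mul_one, ← map_pow] at hdk
    refine ⟨k, (d₀ ^ k)⁻¹ * d, ?_, by group⟩
    exact (pq_eq_iff _ _).mp hdk.symm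

end quot

theorem exists_quot_aux (h : Hyp T) :
    ∃ T' : Sylow 2 (G ⧸ NN), Hyp T' ∧
      (Subgroup.normalizer ((T' : Subgroup (G ⧸ NN)) : Set (G ⧸ NN))).normalCore = ⊥ ∧
      (Concl T' → Concl T) := by
  obtain ⟨T', hT'⟩ : ∃ T' : Sylow 2 (G ⧸ NN),
      (T' : Subgroup (G ⧸ NN)) = (T : Subgroup G).map pq :=
    ⟨T.mapSurjective (QuotientGroup.mk'_surjective NN),
      Sylow.coe_mapSurjective (QuotientGroup.mk'_surjective NN) T⟩
  have h1 : Hyp T' := hyp_quot (T := T) (T' := T') hT' h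
  have h2 := core_quot (T := T) (T' := T') hT' h
  have h3 : Concl T' → Concl T := concl_of_quot (T := T) (T' := T') hT' h
  exact ⟨T', h1, h2, h3⟩

/-- **S2202, piece Q**. -/
theorem exists_quot {G : Type*} [Group G] [Finite G] {T : Sylow 2 G} (h : Hyp T) :
    ∃ T' : Sylow 2 (G ⧸ (Subgroup.normalizer ((T : Subgroup G) : Set G)).normalCore),
      Hyp T' ∧
      (Subgroup.normalizer ((T' : Subgroup (G ⧸ (Subgroup.normalizer
        ((T : Subgroup G) : Set G)).normalCore)) : Set (G ⧸ (Subgroup.normalizer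
        ((T : Subgroup G) : Set G)).normalCore))).normalCore = ⊥ ∧
      (Concl T' → Concl T) :=
  exists_quot_aux h

end Cfsg.Agent.Lib.Helper8.AbCQ
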