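import Mathlib
import Cfsg.Agent.S0143
import Cfsg.Agent.Lib.Helper1.Hall
import Cfsg.Agent.Lib.Helper1.SZHelpers

/-! Groups with an abelian 2-complement. -/
set_option autoImplicit false
open scoped Pointwise

namespace Cfsg.Agent.Lib.Helper8.AbelCompl

universe u

theorem relIndex_sup_of_normal {G : Type*} [Group G] [Finite G] (H K : Subgroup G) [K.Normal] :
    H.relIndex (H ⊔ K) = H.relIndex K := by
  have hcard_sub : ∀ A B : Subgroup G,
      Nat.card (A.subgroupOf B) = Nat.card (A ⊓ B : Subgroup G) := by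
    intro A B
    rw [← Subgroup.inf_subgroupOf_right A B]
    exact Cfsg.Agent.Lib.Helper1.card_subgroupOf_of_le inf_le_right
  have ha : Nat.card (H ⊓ K : Subgroup G) * H.relIndex K = Nat.card K := by
    rw [← hcard_sub, Subgroup.relIndex]; exact Subgroup.card_mul_index _
  have hb : Nat.card (K ⊓ H : Subgroup G) * K.relIndex H = Nat.card H := by
    rw [← hcard_sub, Subgroup.relIndex]; exact Subgroup.card_mul_index _
  have hc : Nat.card H * H.relIndex (H ⊔ K) = Nat.card (H ⊔ K : Subgroup G) := by
    rw [← Cfsg.Agent.Lib.Helper1.card_subgroupOf_of_le (le_sup_left : H ≤ H ⊔ K),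
      Subgroup.relIndex]
    exact Subgroup.card_mul_index _
  have hd : Nat.card K * K.relIndex (H ⊔ K) = Nat.card (H ⊔ K : Subgroup G) := by
    rw [← Cfsg.Agent.Lib.Helper1.card_subgroupOf_of_le (le_sup_right : K ≤ H ⊔ K),
      Subgroup.relIndex]
    exact Subgroup.card_mul_index _
  have he : K.relIndex (H ⊔ K) = K.relIndex H := Subgroup.relIndex_sup_right H K
  have hI : 0 < Nat.card (H ⊓ K : Subgroup G) := Nat.card_pos
  have hH : 0 < Nat.card H := Nat.card_pos
  apply Nat.eq_of_mul_eq_mul_left (Nat.mul_pos hH hI)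
  have h1 : Nat.card H * Nat.card (H ⊓ K : Subgroup G) * H.relIndex (H ⊔ K) =
      Nat.card H * Nat.card K := by
    calc Nat.card H * Nat.card (H ⊓ K : Subgroup G) * H.relIndex (H ⊔ K)
        = (Nat.card H * H.relIndex (H ⊔ K)) * Nat.card (H ⊓ K : Subgroup G) := by ring
      _ = Nat.card K * K.relIndex (H ⊔ K) * Nat.card (H ⊓ K : Subgroup G) := by rw [hc, ← hd]
      _ = Nat.card K * (Nat.card (K ⊓ H : Subgroup G) * K.relIndex H) := by
        rw [he, inf_comm]; ring
      _ = Nat.card K * Nat.card H := by rw [hb]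
      _ = Nat.card H * Nat.card K := by ring
  have h2 : Nat.card H * Nat.card (H ⊓ K : Subgroup G) * H.relIndex K =
      Nat.card H * Nat.card K := by
    rw [mul_assoc, ha]
  exact h1.trans h2.symm

/-- a finite group with an abelian subgroup of 2-power index is solvable -/
theorem solvable_aux : ∀ (n : ℕ) (H : Type u) [Group H] [Finite H], Nat.card H = n →
    (∃ C : Subgroup H, (∀ x ∈ C, ∀ y ∈ C, x * y = y * x) ∧ ∃ k : ℕ, C.index = 2 ^ k) →
    Group.IsSolvable H := by
  intro n
  induction n using Nat.strong_induction_on with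
  | _ n ih =>
  intro H _ _ hn hQ
  obtain ⟨C, hCab, k, hk⟩ := hQ
  haveI : Fact (Nat.Prime 2) := ⟨Nat.prime_two⟩
  by_cases hsimple : IsSimpleGroup H
  · haveI := hsimple
    by_cases hC : C = ⊥
    · rw [hC, Subgroup.index_bot] at hk
      have h2 : IsPGroup 2 H := IsPGroup.of_card hk
      haveI := h2.isNilpotent
      infer_instance
    · obtain ⟨x, hxC, hx1⟩ : ∃ x ∈ C, x ≠ 1 := by
        by_contra hcon
        push Not at hcon
        apply hC
        rw [eq_bot_iff]
        intro x hx
        rw [Subgroup.mem_bot]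
        exact hcon x hx
      have hle : C ≤ Subgroup.centralizer ({x} : Set H) := by
        intro c hc
        rw [Subgroup.mem_centralizer_singleton_iff]
        exact hCab c hc x hxC
      have hdvd : (Subgroup.centralizer ({x} : Set H)).index ∣ 2 ^ k :=
        hk ▸ Subgroup.index_dvd_of_le hle
      obtain ⟨j, _, hj⟩ := (Nat.dvd_prime_pow Nat.prime_two).mp hdvd
      have hprime := Cfsg.Agent.S0143.result 2 j Nat.prime_two x hx1 hj
      haveI : Fact (Nat.card H).Prime := ⟨hprime⟩
      have h2 : IsPGroup (Nat.card H) H := IsPGroup.of_card (n := 1) (by rw [pow_one])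
      haveI := h2.isNilpotent
      infer_instance
  · by_cases hsub : Subsingleton H
    · haveI := hsub
      infer_instance
    · have hnt : Nontrivial H := not_subsingleton_iff_nontrivial.mp hsub
      obtain ⟨N, hNn, hNbot, hNtop⟩ : ∃ N : Subgroup H, N.Normal ∧ N ≠ ⊥ ∧ N ≠ ⊤ := by
        by_contra hcon
        push Not at hcon
        apply hsimple
        exact { toNontrivial := hnt
                eq_bot_or_eq_top_of_normal := fun N hN => by
                  by_cases h : N = ⊥
                  · exact Or.inl h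
                  · exact Or.inr (hcon N hN h) }
      haveI := hNn
      have hcardN : Nat.card N < n := by
        rw [← hn]
        by_contra hle
        push Not at hle
        apply hNtop
        apply Subgroup.eq_top_of_le_card
        exact hle
      have hcardQ : Nat.card (H ⧸ N) < n := by
        rw [← hn, ← Subgroup.card_mul_index N, ← Subgroup.index_eq_card]
        have h1 : 1 < Nat.card N := by
          rw [Subgroup.one_lt_card_iff_ne_bot]
          exact hNbot
        have h2 : 0 < N.index := Nat.pos_of_ne_zero Subgroup.index_ne_zero_of_finite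
        nlinarith
      have hsN : Group.IsSolvable N := by
        apply ih _ hcardN N rfl
        refine ⟨C.subgroupOf N, ?_, ?_⟩
        · intro x hx y hy
          apply Subtype.ext
          exact hCab _ hx _ hy
        · have h1 : (C.subgroupOf N).index = C.relIndex N := rfl
          have h2 : C.relIndex N ∣ 2 ^ k := by
            rw [← relIndex_sup_of_normal C N, ← hk]
            exact Subgroup.relIndex_dvd_index_of_le le_sup_left
          obtain ⟨j, _, hj⟩ := (Nat.dvd_prime_pow Nat.prime_two).mp h2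
          exact ⟨j, h1.trans hj⟩
      have hsQ : Group.IsSolvable (H ⧸ N) := by
        apply ih _ hcardQ (H ⧸ N) rfl
        refine ⟨C.map (QuotientGroup.mk' N), ?_, ?_⟩
        · rintro _ ⟨x, hx, rfl⟩ _ ⟨y, hy, rfl⟩
          rw [← map_mul, ← map_mul, hCab x hx y hy]
        · have h2 : (C.map (QuotientGroup.mk' N)).index ∣ 2 ^ k := by
            rw [← hk]
            exact Subgroup.index_map_dvd C (QuotientGroup.mk'_surjective N)
          obtain ⟨j, _, hj⟩ := (Nat.dvd_prime_pow Nat.prime_two).mp h2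
          exact ⟨j, hj⟩
      exact Group.isSolvable_of_ker_le_range N.subtype (QuotientGroup.mk' N)
        (by rw [QuotientGroup.ker_mk', Subgroup.range_subtype])

theorem abelian_two_complement {H : Type u} [Group H] [Finite H]
    (S : Sylow 2 H) (C : Subgroup H) (hC : IsMulCommutative ↥C)
    (hSC : Subgroup.IsComplement' (S : Subgroup H) C) :
    Group.IsSolvable H ∧
    (∀ L : Subgroup H, ∃ (P : Sylow 2 ↥L) (D : Subgroup ↥L), IsMulCommutative ↥D ∧
      Subgroup.IsComplement' (P : Subgroup ↥L) D) ∧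
    (∀ (N : Subgroup H) [N.Normal], ∃ (P : Sylow 2 (H ⧸ N)) (D : Subgroup (H ⧸ N)),
      IsMulCommutative ↥D ∧ Subgroup.IsComplement' (P : Subgroup (H ⧸ N)) D) := by
  haveI : Fact (Nat.Prime 2) := ⟨Nat.prime_two⟩
  have hCab : ∀ x ∈ C, ∀ y ∈ C, x * y = y * x := by
    intro x hx y hy
    have := hC.is_comm.comm (⟨x, hx⟩ : ↥C) ⟨y, hy⟩
    exact congrArg Subtype.val this
  have hCidx : C.index = Nat.card (S : Subgroup H) := hSC.index_eq_card
  have hScard : Nat.card C = (S : Subgroup H).index := (hSC.symm.index_eq_card).symm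
  obtain ⟨k, hk⟩ := IsPGroup.iff_card.mp S.2
  have hCodd : ¬ 2 ∣ Nat.card C := by rw [hScard]; exact S.not_dvd_index
  have hsolv : Group.IsSolvable H :=
    solvable_aux _ H rfl ⟨C, hCab, k, hCidx.trans hk⟩
  haveI := hsolv
  have hcopC : (Nat.card C).Coprime C.index := by
    rw [hCidx, hk]
    exact Nat.Coprime.pow_right _ ((Nat.coprime_comm).mp ((Nat.Prime.coprime_iff_not_dvd Nat.prime_two).mpr hCodd))
  refine ⟨hsolv, ?_, ?_⟩
  · intro L
    obtain ⟨P⟩ : Nonempty (Sylow 2 ↥L) := inferInstance
    obtain ⟨j, hj⟩ := IsPGroup.iff_card.mp P.2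
    have hPidx : ¬ 2 ∣ (P : Subgroup ↥L).index := P.not_dvd_index
    have hcop : ((P : Subgroup ↥L).index).Coprime (Nat.card (P : Subgroup ↥L)) := by
      rw [hj]
      exact Nat.Coprime.pow_right _ ((Nat.coprime_comm).mp ((Nat.Prime.coprime_iff_not_dvd Nat.prime_two).mpr hPidx))
    have hcardL : Nat.card ↥L = (P : Subgroup ↥L).index * Nat.card (P : Subgroup ↥L) := by
      rw [mul_comm]; exact ((P : Subgroup ↥L).card_mul_index).symm
    obtain ⟨D, hD⟩ := Cfsg.Agent.Lib.Helper1.hall_exists (G := ↥L) _ _ hcardL hcop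
    refine ⟨P, D, ?_, ?_⟩
    · -- D is abelian
      have hcopD : (Nat.card (D.map L.subtype)).Coprime C.index := by
        rw [Subgroup.card_map_of_injective (Subgroup.subtype_injective L), hD, hCidx, hk]
        exact Nat.Coprime.pow_right _ ((Nat.coprime_comm).mp ((Nat.Prime.coprime_iff_not_dvd Nat.prime_two).mpr hPidx))
      obtain ⟨g, hg⟩ := Cfsg.Agent.Lib.Helper1.hall_dominance C (D.map L.subtype) hcopC hcopD
      refine ⟨⟨fun x y => ?_⟩⟩
      have hx : ((x : ↥L) : H) ∈ MulAut.conj g • C := hg (Subgroup.mem_map_of_mem _ x.2)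
      have hy : ((y : ↥L) : H) ∈ MulAut.conj g • C := hg (Subgroup.mem_map_of_mem _ y.2)
      rw [Subgroup.mem_pointwise_smul_iff_inv_smul_mem] at hx hy
      have h1 := hCab _ hx _ hy
      simp only [MulAut.smul_def, MulAut.conj_inv_apply] at h1
      apply Subtype.ext
      apply Subtype.ext
      show ((x : ↥L) : H) * ((y : ↥L) : H) = ((y : ↥L) : H) * ((x : ↥L) : H)
      have h2 : g⁻¹ * (((x : ↥L) : H) * ((y : ↥L) : H)) * g =
          g⁻¹ * (((y : ↥L) : H) * ((x : ↥L) : H)) * g := by
        calc g⁻¹ * (((x : ↥L) : H) * ((y : ↥L) : H)) * g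
            = (g⁻¹ * ((x : ↥L) : H) * g) * (g⁻¹ * ((y : ↥L) : H) * g) := by group
          _ = (g⁻¹ * ((y : ↥L) : H) * g) * (g⁻¹ * ((x : ↥L) : H) * g) := h1
          _ = g⁻¹ * (((y : ↥L) : H) * ((x : ↥L) : H)) * g := by group
      exact mul_left_cancel (mul_right_cancel h2)
    · apply Subgroup.isComplement'_of_coprime
      · rw [hD, mul_comm]; exact hcardL.symm
      · rw [hD]; exact hcop.symm
  · intro N _
    obtain ⟨D, hDdef⟩ : ∃ D : Subgroup (H ⧸ N), D = C.map (QuotientGroup.mk' N) := ⟨_, rfl⟩
    refine ⟨S.mapSurjective (QuotientGroup.mk'_surjective N), D, ?_, ?_⟩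
    · refine ⟨⟨fun x y => ?_⟩⟩
      obtain ⟨x, hx⟩ := x
      obtain ⟨y, hy⟩ := y
      rw [hDdef] at hx hy
      obtain ⟨x', hx', rfl⟩ := hx
      obtain ⟨y', hy', rfl⟩ := hy
      apply Subtype.ext
      show (QuotientGroup.mk' N) x' * (QuotientGroup.mk' N) y' =
        (QuotientGroup.mk' N) y' * (QuotientGroup.mk' N) x'
      rw [← map_mul, ← map_mul, hCab x' hx' y' hy']
    · apply Subgroup.isComplement'_of_disjoint_and_mul_eq_univ
      · apply Subgroup.disjoint_of_coprime_natCard
        obtain ⟨j, hj⟩ := IsPGroup.iff_card.mp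
          (S.mapSurjective (QuotientGroup.mk'_surjective N)).2
        have hj' : Nat.card ((S.mapSurjective (QuotientGroup.mk'_surjective N) : Sylow 2 (H ⧸ N)) :
            Subgroup (H ⧸ N)) = 2 ^ j := hj
        rw [hj']
        apply Nat.Coprime.pow_left
        rw [Nat.Prime.coprime_iff_not_dvd Nat.prime_two]
        intro h2
        apply hCodd
        rw [hDdef] at h2
        exact h2.trans (Subgroup.card_map_dvd C (QuotientGroup.mk' N))
      · rw [Set.eq_univ_iff_forall]
        intro q
        obtain ⟨h, rfl⟩ := QuotientGroup.mk_surjective q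
        have hh : h ∈ ((S : Subgroup H) : Set H) * (C : Set H) := by
          rw [hSC.mul_eq]; trivial
        obtain ⟨s, hs, c, hc, rfl⟩ := Set.mem_mul.mp hh
        refine Set.mem_mul.mpr ⟨QuotientGroup.mk s, ?_, QuotientGroup.mk c, ?_, ?_⟩
        · exact Subgroup.mem_map_of_mem _ hs
        · rw [hDdef]; exact Subgroup.mem_map_of_mem _ hc
        · exact (QuotientGroup.mk_mul N s c).symm

end Cfsg.Agent.Lib.Helper8.AbelCompl
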