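import Mathlib

set_option autoImplicit false

/-! Aschbacher's theorem, linear case: abstract preliminaries.
A subalgebra `A` of `End_F(V)` acts on `V`; units normalising `A` act on the lattice of
`A`-submodules. -/

namespace Cfsg.Agent.Lib.Helper8.Asch

open Module

variable {F : Type*} [Field F] {V : Type*} [AddCommGroup V] [Module F V]

/-- the general linear group of `V` -/
abbrev GLV (F : Type*) [Field F] (V : Type*) [AddCommGroup V] [Module F V] := (Module.End F V)ˣ

/-- the unit `g` normalises the subalgebra `A` -/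
def Nrm (A : Subalgebra F (Module.End F V)) (g : GLV F V) : Prop :=
  ∀ a ∈ A, (g : Module.End F V) * a * ((g⁻¹ : GLV F V) : Module.End F V) ∈ A

theorem Nrm.one (A : Subalgebra F (Module.End F V)) : Nrm A (1 : GLV F V) := by
  intro a ha
  simpa using ha

theorem Nrm.mul {A : Subalgebra F (Module.End F V)} {g h : GLV F V} (hg : Nrm A g) (hh : Nrm A h) :
    Nrm A (g * h) := by
  intro a ha
  have := hg _ (hh a ha)
  simpa [mul_assoc] using this

theorem apply_inv_apply (g : GLV F V) (v : V) :
    (g : Module.End F V) (((g⁻¹ : GLV F V) : Module.End F V) v) = v := by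
  have : (g : Module.End F V) * ((g⁻¹ : GLV F V) : Module.End F V) = 1 := by
    rw [← Units.val_mul, mul_inv_cancel, Units.val_one]
  calc _ = ((g : Module.End F V) * ((g⁻¹ : GLV F V) : Module.End F V)) v := rfl
    _ = v := by rw [this]; rfl

theorem inv_apply_apply (g : GLV F V) (v : V) :
    ((g⁻¹ : GLV F V) : Module.End F V) ((g : Module.End F V) v) = v := by
  have := apply_inv_apply g⁻¹ v
  rwa [inv_inv] at this

/-- the image of an `A`-submodule under a unit whose inverse normalises `A` -/
def mapSub (A : Subalgebra F (Module.End F V)) (g : GLV F V) (hg : Nrm A g⁻¹)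
    (W : Submodule A V) : Submodule A V where
  carrier := {v | ((g⁻¹ : GLV F V) : Module.End F V) v ∈ W}
  add_mem' := by
    intro a b ha hb
    simp only [Set.mem_setOf_eq, map_add] at ha hb ⊢
    exact W.add_mem ha hb
  zero_mem' := by simp
  smul_mem' := by
    intro c v hv
    simp only [Set.mem_setOf_eq] at hv ⊢
    have h1 := hg c.1 c.2
    rw [inv_inv] at h1
    have h2 : ((g⁻¹ : GLV F V) : Module.End F V) (c • v) =
        (⟨_, h1⟩ : A) • (((g⁻¹ : GLV F V) : Module.End F V) v) := by
      show ((g⁻¹ : GLV F V) : Module.End F V) ((c : Module.End F V) v) =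
        (((g⁻¹ : GLV F V) : Module.End F V) * c * (g : Module.End F V))
          (((g⁻¹ : GLV F V) : Module.End F V) v)
      simp only [Module.End.mul_apply]
      rw [apply_inv_apply]
    rw [h2]
    exact W.smul_mem _ hv

theorem mem_mapSub {A : Subalgebra F (Module.End F V)} {g : GLV F V} {hg : Nrm A g⁻¹}
    {W : Submodule A V} {v : V} :
    v ∈ mapSub A g hg W ↔ ((g⁻¹ : GLV F V) : Module.End F V) v ∈ W := Iff.rfl

theorem apply_mem_mapSub {A : Subalgebra F (Module.End F V)} {g : GLV F V} {hg : Nrm A g⁻¹}
    {W : Submodule A V} {v : V} (hv : v ∈ W) : (g : Module.End F V) v ∈ mapSub A g hg W := by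
  rw [mem_mapSub, inv_apply_apply]
  exact hv

theorem mapSub_mono {A : Subalgebra F (Module.End F V)} {g : GLV F V} {hg : Nrm A g⁻¹}
    {W W' : Submodule A V} (h : W ≤ W') : mapSub A g hg W ≤ mapSub A g hg W' :=
  fun _ hv => h hv

theorem mapSub_inv_mapSub {A : Subalgebra F (Module.End F V)} {g : GLV F V} (hg : Nrm A g⁻¹)
    (hg' : Nrm A g) (W : Submodule A V) :
    mapSub A g⁻¹ (by rwa [inv_inv]) (mapSub A g hg W) = W := by
  ext v
  rw [mem_mapSub, mem_mapSub, inv_inv, inv_apply_apply]

theorem mapSub_mapSub_inv {A : Subalgebra F (Module.End F V)} {g : GLV F V} (hg : Nrm A g⁻¹)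
    (hg' : Nrm A g) (W : Submodule A V) :
    mapSub A g hg (mapSub A g⁻¹ (by rwa [inv_inv]) W) = W := by
  ext v
  rw [mem_mapSub, mem_mapSub, inv_inv, apply_inv_apply]

/-- `mapSub` as an order isomorphism -/
def mapIso (A : Subalgebra F (Module.End F V)) (g : GLV F V) (hg : Nrm A g⁻¹) (hg' : Nrm A g) :
    Submodule A V ≃o Submodule A V where
  toFun := mapSub A g hg
  invFun := mapSub A g⁻¹ (by rwa [inv_inv])
  left_inv := mapSub_inv_mapSub hg hg'
  right_inv := mapSub_mapSub_inv hg hg'
  map_rel_iff' := by
    intro W W'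
    constructor
    · intro h
      change mapSub A g hg W ≤ mapSub A g hg W' at h
      have := mapSub_mono (A := A) (g := g⁻¹) (hg := by rwa [inv_inv]) h
      rwa [mapSub_inv_mapSub hg hg', mapSub_inv_mapSub hg hg'] at this
    · intro h
      exact mapSub_mono (hg := hg) h

theorem mapIso_apply (A : Subalgebra F (Module.End F V)) (g : GLV F V) (hg : Nrm A g⁻¹)
    (hg' : Nrm A g) (W : Submodule A V) : mapIso A g hg hg' W = mapSub A g hg W := rfl

/-- the additive equivalence `W ≃ g W` -/
def mapEquiv (A : Subalgebra F (Module.End F V)) (g : GLV F V) (hg : Nrm A g⁻¹)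
    (W : Submodule A V) : W ≃+ mapSub A g hg W where
  toFun := fun w => ⟨(g : Module.End F V) w.1, apply_mem_mapSub w.2⟩
  invFun := fun w => ⟨((g⁻¹ : GLV F V) : Module.End F V) w.1, w.2⟩
  left_inv := by
    intro w
    ext
    exact inv_apply_apply g _
  right_inv := by
    intro w
    ext
    exact apply_inv_apply g _
  map_add' := by
    intro a b
    ext
    simp

/-- isomorphic submodules have isomorphic images -/
def mapLinearEquiv (A : Subalgebra F (Module.End F V)) (g : GLV F V) (hg : Nrm A g⁻¹)
    (W W' : Submodule A V) (e : W ≃ₗ[A] W') : mapSub A g hg W ≃ₗ[A] mapSub A g hg W' where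
  toFun := fun w => mapEquiv A g hg W' (e ((mapEquiv A g hg W).symm w))
  invFun := fun w => mapEquiv A g hg W (e.symm ((mapEquiv A g hg W').symm w))
  left_inv := by
    intro w
    simp
  right_inv := by
    intro w
    simp
  map_add' := by
    intro a b
    simp
  map_smul' := by
    intro c w
    have h1 := hg c.1 c.2
    rw [inv_inv] at h1
    have key : ∀ (U : Submodule A V) (u : mapSub A g hg U),
        (mapEquiv A g hg U).symm (c • u) = (⟨_, h1⟩ : A) • (mapEquiv A g hg U).symm u := by
      intro U u
      ext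
      show ((g⁻¹ : GLV F V) : Module.End F V) ((c : Module.End F V) u.1) =
        (((g⁻¹ : GLV F V) : Module.End F V) * c * (g : Module.End F V))
          (((g⁻¹ : GLV F V) : Module.End F V) u.1)
      simp only [Module.End.mul_apply]
      rw [apply_inv_apply]
    have key2 : ∀ (U : Submodule A V) (u : U),
        mapEquiv A g hg U ((⟨_, h1⟩ : A) • u) = c • mapEquiv A g hg U u := by
      intro U u
      ext
      show (g : Module.End F V) ((((g⁻¹ : GLV F V) : Module.End F V) * c * (g : Module.End F V)) u.1)
        = (c : Module.End F V) ((g : Module.End F V) u.1)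
      simp only [Module.End.mul_apply]
      rw [apply_inv_apply]
    simp only [RingHom.id_apply]
    rw [key W w, map_smul, key2]

end Cfsg.Agent.Lib.Helper8.Asch
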