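import Mathlib

set_option autoImplicit false

/-! Group theory for Aschbacher's theorem: minimal non-central invariant subgroups. -/

namespace Cfsg.Agent.Lib.Helper8.Asch

variable {G : Type*} [Group G]

/-- `M` is invariant under conjugation by `H` -/
def HInv (H M : Subgroup G) : Prop := ∀ h ∈ H, ∀ x ∈ M, h * x * h⁻¹ ∈ M

/-- the conjugate subgroup -/
def cj (h : G) (P : Subgroup G) : Subgroup G := P.map (MulAut.conj h).toMonoidHom

theorem mem_cj {h : G} {P : Subgroup G} {x : G} : x ∈ cj h P ↔ h⁻¹ * x * h ∈ P := by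
  unfold cj
  rw [Subgroup.mem_map]
  constructor
  · rintro ⟨y, hy, rfl⟩
    simp only [MulEquiv.toMonoidHom_eq_coe, MonoidHom.coe_coe, MulAut.conj_apply]
    have : h⁻¹ * (h * y * h⁻¹) * h = y := by group
    rwa [this]
  · intro hx
    refine ⟨h⁻¹ * x * h, hx, ?_⟩
    simp only [MulEquiv.toMonoidHom_eq_coe, MonoidHom.coe_coe, MulAut.conj_apply]
    group

theorem conj_mem_cj {h : G} {P : Subgroup G} {x : G} (hx : x ∈ P) : h * x * h⁻¹ ∈ cj h P := by
  rw [mem_cj]
  have : h⁻¹ * (h * x * h⁻¹) * h = x := by group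
  rwa [this]

theorem cj_one (P : Subgroup G) : cj 1 P = P := by
  ext x
  rw [mem_cj]
  simp

theorem cj_mul (g h : G) (P : Subgroup G) : cj (g * h) P = cj g (cj h P) := by
  ext x
  rw [mem_cj, mem_cj, mem_cj]
  have : (g * h)⁻¹ * x * (g * h) = h⁻¹ * (g⁻¹ * x * g) * h := by group
  rw [this]

theorem cj_mono {h : G} {P Q : Subgroup G} (hPQ : P ≤ Q) : cj h P ≤ cj h Q := by
  intro x hx
  rw [mem_cj] at hx ⊢
  exact hPQ hx

theorem cj_inv_cj (h : G) (P : Subgroup G) : cj h⁻¹ (cj h P) = P := by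
  rw [← cj_mul, inv_mul_cancel, cj_one]

theorem cj_cj_inv (h : G) (P : Subgroup G) : cj h (cj h⁻¹ P) = P := by
  rw [← cj_mul, mul_inv_cancel, cj_one]

theorem cj_eq_of_HInv {H M : Subgroup G} (hM : HInv H M) {h : G} (hh : h ∈ H) : cj h M = M := by
  apply le_antisymm
  · intro x hx
    rw [mem_cj] at hx
    have := hM h hh _ hx
    have e : h * (h⁻¹ * x * h) * h⁻¹ = x := by group
    rwa [e] at this
  · intro x hx
    rw [mem_cj]
    have := hM h⁻¹ (H.inv_mem hh) x hx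
    rwa [inv_inv] at this

theorem HInv_of_cj_le {H M : Subgroup G} (h : ∀ g ∈ H, cj g M ≤ M) : HInv H M := by
  intro g hg x hx
  exact h g hg (conj_mem_cj hx)

theorem cj_le_of_central {Z : Subgroup G} (hZ : Z ≤ Subgroup.center G) (h : G) : cj h Z = Z := by
  ext x
  rw [mem_cj]
  constructor
  · intro hx
    have hc := hZ hx
    rw [Subgroup.mem_center_iff] at hc
    have e : x = h * (h⁻¹ * x * h) * h⁻¹ := by group
    have e2 : h * (h⁻¹ * x * h) * h⁻¹ = h⁻¹ * x * h := by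
      rw [hc h]
      group
    rw [e, e2]
    exact hx
  · intro hx
    have hc := hZ hx
    rw [Subgroup.mem_center_iff] at hc
    have : h⁻¹ * x * h = x := by
      rw [mul_assoc, ← hc h]
      group
    rwa [this]

theorem card_cj [Finite G] (h : G) (P : Subgroup G) : Nat.card (cj h P) = Nat.card P := by
  unfold cj
  exact Subgroup.card_map_of_injective (MulAut.conj h).injective

/-- `N` is minimal among the `H`-invariant subgroups of `H` not contained in `Z` -/
structure IsMinNC (H Z N : Subgroup G) : Prop where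
  le : N ≤ H
  inv : HInv H N
  not_le : ¬ N ≤ Z
  min : ∀ M : Subgroup G, M ≤ N → HInv H M → ¬ M ≤ Z → M = N

theorem exists_minNC (H Z : Subgroup G) [Finite H] (hH : ¬ H ≤ Z) : ∃ N, IsMinNC H Z N := by
  let S : Set (Subgroup G) := {M | M ≤ H ∧ HInv H M ∧ ¬ M ≤ Z}
  have hS : S.Nonempty := ⟨H, le_rfl, fun h hh x hx => H.mul_mem (H.mul_mem hh hx) (H.inv_mem hh), hH⟩
  obtain ⟨N, hN, hmin⟩ := WellFounded.has_min (measure (fun M : Subgroup G => Nat.card M)).wf S hS
  refine ⟨N, hN.1, hN.2.1, hN.2.2, ?_⟩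
  intro M hMN hMinv hMZ
  have hMS : M ∈ S := ⟨hMN.trans hN.1, hMinv, hMZ⟩
  have h1 := hmin M hMS
  have hfin : Finite N := Finite.of_injective (Subgroup.inclusion hN.1) (Subgroup.inclusion_injective _)
  have h2 : Nat.card M ≤ Nat.card N := Subgroup.card_le_of_le hMN
  have h3 : ¬ Nat.card M < Nat.card N := h1
  exact Subgroup.eq_of_le_of_card_ge hMN (by omega)


/-! ### commutator calculus modulo a central subgroup -/

open scoped commutatorElement

theorem comm_mul_left (a b c : G) : ⁅a * b, c⁆ = a * ⁅b, c⁆ * a⁻¹ * ⁅a, c⁆ := by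
  simp only [commutatorElement_def]
  group

theorem comm_mul_right (a b c : G) : ⁅a, b * c⁆ = ⁅a, b⁆ * (b * ⁅a, c⁆ * b⁻¹) := by
  simp only [commutatorElement_def]
  group

theorem central_conj {Z : Subgroup G} (hZ : Z ≤ Subgroup.center G) {z : G} (hz : z ∈ Z) (a : G) :
    a * z * a⁻¹ = z := by
  have hc := hZ hz
  rw [Subgroup.mem_center_iff] at hc
  rw [hc a]
  group

theorem central_comm {Z : Subgroup G} (hZ : Z ≤ Subgroup.center G) {z : G} (hz : z ∈ Z) (a : G) :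
    a * z = z * a := by
  have hc := hZ hz
  rw [Subgroup.mem_center_iff] at hc
  exact hc a

/-- the elements whose commutators with `S` lie in the central subgroup `Z` -/
def cmodZ (Z : Subgroup G) (hZ : Z ≤ Subgroup.center G) (S : Set G) : Subgroup G where
  carrier := {x | ∀ y ∈ S, ⁅x, y⁆ ∈ Z}
  one_mem' := by
    intro y _
    rw [commutatorElement_one_left]
    exact Z.one_mem
  mul_mem' := by
    intro a b ha hb y hy
    rw [comm_mul_left, central_conj hZ (hb y hy)]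
    exact Z.mul_mem (hb y hy) (ha y hy)
  inv_mem' := by
    intro a ha y hy
    have h1 : ⁅a⁻¹, y⁆ = a⁻¹ * ⁅a, y⁆⁻¹ * a⁻¹⁻¹ := by
      simp only [commutatorElement_def]
      group
    rw [h1, central_conj hZ (Z.inv_mem (ha y hy))]
    exact Z.inv_mem (ha y hy)

theorem mem_cmodZ {Z : Subgroup G} {hZ : Z ≤ Subgroup.center G} {S : Set G} {x : G} :
    x ∈ cmodZ Z hZ S ↔ ∀ y ∈ S, ⁅x, y⁆ ∈ Z := Iff.rfl

theorem comm_mem_of_closure {Z : Subgroup G} (hZ : Z ≤ Subgroup.center G) {S T : Set G}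
    (h : ∀ x ∈ S, ∀ y ∈ T, ⁅x, y⁆ ∈ Z) :
    ∀ x ∈ Subgroup.closure S, ∀ y ∈ Subgroup.closure T, ⁅x, y⁆ ∈ Z := by
  have h1 : ∀ y ∈ T, Subgroup.closure S ≤ cmodZ Z hZ {y} := by
    intro y hy
    rw [Subgroup.closure_le]
    intro x hx y' hy'
    rw [Set.mem_singleton_iff] at hy'
    subst hy'
    exact h x hx y' hy
  intro x hx
  have h2 : Subgroup.closure T ≤ cmodZ Z hZ {x} := by
    rw [Subgroup.closure_le]
    intro y hy x' hx'
    rw [Set.mem_singleton_iff] at hx'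
    subst hx'
    have := h1 y hy hx y rfl
    have e : ⁅y, x'⁆ = ⁅x', y⁆⁻¹ := (commutatorElement_inv x' y).symm
    rw [e]
    exact Z.inv_mem this
  intro y hy
  have := h2 hy x rfl
  have e : ⁅x, y⁆ = ⁅y, x⁆⁻¹ := (commutatorElement_inv y x).symm
  rw [e]
  exact Z.inv_mem this

/-- if `⁅x, y⁆` commutes with `x` then `⁅x ^ n, y⁆ = ⁅x, y⁆ ^ n` -/
theorem comm_pow_left {x y : G} (h : Commute ⁅x, y⁆ x) (n : ℕ) : ⁅x ^ n, y⁆ = ⁅x, y⁆ ^ n := by
  induction n with
  | zero => simp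
  | succ n ih =>
    rw [pow_succ', comm_mul_left, ih]
    have h2 : x * ⁅x, y⁆ ^ n * x⁻¹ = ⁅x, y⁆ ^ n := by
      have := (h.pow_left n).eq
      rw [← this]
      group
    rw [h2, ← pow_succ]

theorem comm_pow_right {x y : G} (h : Commute ⁅x, y⁆ y) (n : ℕ) : ⁅x, y ^ n⁆ = ⁅x, y⁆ ^ n := by
  have h1 : Commute ⁅y, x⁆ y := by
    rw [← commutatorElement_inv x y]
    exact h.inv_left
  have h2 := comm_pow_left h1 n
  rw [← commutatorElement_inv, ← commutatorElement_inv x y, inv_pow] at h2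
  exact inv_injective h2

/-- the power formula in class two: with `c = ⁅y, x⁆` central, `(x y)^n = x^n y^n c^(n choose 2)` -/
theorem mul_pow_class_two {x y : G} (hc : ∀ g : G, Commute ⁅y, x⁆ g) (n : ℕ) :
    (x * y) ^ n = x ^ n * y ^ n * ⁅y, x⁆ ^ (n.choose 2) := by
  induction n with
  | zero => simp
  | succ n ih =>
    have h1 : y ^ n * x = ⁅y, x⁆ ^ n * x * y ^ n := by
      have := comm_pow_left (hc y) n
      rw [← this]
      simp only [commutatorElement_def]
      group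
    have h2 : (n + 1).choose 2 = n + n.choose 2 := by
      rw [Nat.choose_succ_succ, Nat.choose_one_right]
    have c1 : ∀ g : G, Commute (⁅y, x⁆ ^ n) g := fun g => (hc g).pow_left n
    have c2 : ∀ g : G, Commute (⁅y, x⁆ ^ n.choose 2) g := fun g => (hc g).pow_left _
    rw [h2, pow_add ⁅y, x⁆ n (n.choose 2)]
    calc (x * y) ^ (n + 1) = x ^ n * y ^ n * ⁅y, x⁆ ^ n.choose 2 * (x * y) := by
          rw [pow_succ, ih]
      _ = x ^ n * (y ^ n * x) * y * ⁅y, x⁆ ^ n.choose 2 := by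
          rw [mul_assoc (x ^ n * y ^ n), (c2 (x * y)).eq]
          group
      _ = x ^ n * (⁅y, x⁆ ^ n * x * y ^ n) * y * ⁅y, x⁆ ^ n.choose 2 := by rw [h1]
      _ = (x ^ n * ⁅y, x⁆ ^ n) * (x * y ^ n * y) * ⁅y, x⁆ ^ n.choose 2 := by group
      _ = (⁅y, x⁆ ^ n * x ^ n) * (x * y ^ n * y) * ⁅y, x⁆ ^ n.choose 2 := by
          rw [(c1 (x ^ n)).eq]
      _ = ⁅y, x⁆ ^ n * (x ^ n * x * y ^ n * y) * ⁅y, x⁆ ^ n.choose 2 := by group
      _ = (x ^ n * x * y ^ n * y) * ⁅y, x⁆ ^ n * ⁅y, x⁆ ^ n.choose 2 := by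
          rw [(c1 (x ^ n * x * y ^ n * y)).eq]
      _ = x ^ (n + 1) * y ^ (n + 1) * (⁅y, x⁆ ^ n * ⁅y, x⁆ ^ n.choose 2) := by
          rw [pow_succ, pow_succ]
          group

end Cfsg.Agent.Lib.Helper8.Asch
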