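import Cfsg.Agent.Lib.Helper8.Asch11

set_option autoImplicit false

/-! Group theory, continued: the commutator dichotomy and the class-two case. -/

namespace Cfsg.Agent.Lib.Helper8.Asch

open scoped commutatorElement

variable {G : Type*} [Group G]

theorem HInv_commutator {H N : Subgroup G} (hN : HInv H N) : HInv H ⁅N, N⁆ := by
  apply HInv_of_cj_le
  intro g hg
  unfold cj
  rw [Subgroup.map_commutator]
  have : N.map (MulAut.conj g).toMonoidHom = N := cj_eq_of_HInv hN hg
  rw [this]

theorem comm_dichotomy {H Z N : Subgroup G} (hN : IsMinNC H Z N) : ⁅N, N⁆ ≤ Z ∨ ⁅N, N⁆ = N := by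
  by_cases h : ⁅N, N⁆ ≤ Z
  · left; exact h
  · right
    exact hN.min _ (Subgroup.commutator_le_self N) (HInv_commutator hN.inv) h

/-- in a finite cyclic group all of whose elements have `r`-power order, cyclic subgroups form a
chain -/
theorem cyclic_chain {C : Type*} [Group C] [IsCyclic C] [Finite C] (r : ℕ) (hr : r.Prime)
    (hC : ∀ x : C, ∃ k, x ^ r ^ k = 1) (u v : C) :
    u ∈ Subgroup.zpowers v ∨ v ∈ Subgroup.zpowers u := by
  classical
  have : Fintype C := Fintype.ofFinite C
  have key : ∀ u v : C, orderOf u ≤ orderOf v → u ∈ Subgroup.zpowers v := by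
    intro u v huv
    obtain ⟨i, hi⟩ := hC u
    obtain ⟨j, hj⟩ := hC v
    obtain ⟨i', _, hi'⟩ := (Nat.dvd_prime_pow hr).mp (orderOf_dvd_of_pow_eq_one hi)
    obtain ⟨j', _, hj'⟩ := (Nat.dvd_prime_pow hr).mp (orderOf_dvd_of_pow_eq_one hj)
    have hij : i' ≤ j' := by
      rw [hi', hj'] at huv
      exact (Nat.pow_le_pow_iff_right hr.one_lt).mp huv
    have hu : u ^ orderOf v = 1 := by
      rw [hj']
      have : r ^ j' = r ^ i' * r ^ (j' - i') := by rw [← pow_add]; congr 1; omega
      rw [this, pow_mul, ← hi', pow_orderOf_eq_one, one_pow]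
    have hpos : 0 < orderOf v := orderOf_pos v
    have h1 := IsCyclic.card_pow_eq_one_le (α := C) hpos
    let A : Finset C := Finset.univ.filter (fun a : C => a ^ orderOf v = 1)
    let B : Finset C := (Finset.univ.filter (fun a : C => a ∈ Subgroup.zpowers v))
    have hBA : B ⊆ A := by
      intro w hw
      simp only [B, Finset.mem_filter, Finset.mem_univ, true_and] at hw
      simp only [A, Finset.mem_filter, Finset.mem_univ, true_and]
      obtain ⟨k, rfl⟩ := Subgroup.mem_zpowers_iff.mp hw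
      rw [← zpow_natCast, ← zpow_mul, mul_comm, zpow_mul, zpow_natCast, pow_orderOf_eq_one, one_zpow]
    have hBcard : B.card = orderOf v := by
      rw [← Nat.card_zpowers v, Nat.card_eq_fintype_card, Fintype.card_subtype]
    have hAB : A = B := (Finset.eq_of_subset_of_card_le hBA (by rw [hBcard]; exact h1)).symm
    have huA : u ∈ A := by
      simp only [A, Finset.mem_filter, Finset.mem_univ, true_and]
      exact hu
    rw [hAB] at huA
    simpa [B] using huA
  rcases le_total (orderOf u) (orderOf v) with h | h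
  · left; exact key u v h
  · right; exact key v u h


/-- the class-two case -/
structure CaseA (H Z N : Subgroup G) : Prop where
  minNC : IsMinNC H Z N
  central : Z ≤ Subgroup.center G
  comm : ∀ x ∈ N, ∀ y ∈ N, ⁅x, y⁆ ∈ Z
  cent : ∀ x ∈ N, (∀ y ∈ N, x * y = y * x) → x ∈ Z
  fin : Finite N

namespace CaseA

variable {H Z N : Subgroup G} (hA : CaseA H Z N)

include hA

theorem comm_central {x y : G} (hx : x ∈ N) (hy : y ∈ N) (g : G) : Commute ⁅x, y⁆ g := by
  have := central_comm hA.central (hA.comm x hx y hy) g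
  exact this.symm

theorem exists_noncomm : ∃ x ∈ N, ∃ y ∈ N, ⁅x, y⁆ ≠ 1 := by
  by_contra hcon
  push Not at hcon
  apply hA.minNC.not_le
  intro x hx
  apply hA.cent x hx
  intro y hy
  have := hcon x hx y hy
  rw [commutatorElement_eq_one_iff_mul_comm] at this
  exact this

/-- a conjugation-invariant subgroup of `N` not inside `Z` is `N` -/
theorem eq_of_pred (M : Subgroup G) (hMN : M ≤ N) (hinv : HInv H M) (x : G) (hx : x ∈ M)
    (hxZ : x ∉ Z) : M = N :=
  hA.minNC.min M hMN hinv (fun h => hxZ (h hx))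

theorem not_mem_Z_of_comm_ne {x y : G} (h : ⁅x, y⁆ ≠ 1) : x ∉ Z := by
  intro hx
  apply h
  rw [commutatorElement_eq_one_iff_mul_comm]
  exact (central_comm hA.central hx y).symm

/-- the elements of `r`-power order form a subgroup -/
def Tr (r : ℕ) : Subgroup G where
  carrier := {x | x ∈ N ∧ ∃ k, x ^ r ^ k = 1}
  one_mem' := ⟨N.one_mem, 0, one_pow _⟩
  inv_mem' := by
    rintro x ⟨hx, k, hk⟩
    exact ⟨N.inv_mem hx, k, by rw [inv_pow, hk, inv_one]⟩
  mul_mem' := by
    rintro x y ⟨hx, k, hk⟩ ⟨hy, l, hl⟩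
    refine ⟨N.mul_mem hx hy, (k + l) + (k + l), ?_⟩
    set m := r ^ (k + l) with hm
    have hxm : x ^ m = 1 := by rw [hm, pow_add, pow_mul, hk, one_pow]
    have hym : y ^ m = 1 := by rw [hm, pow_add, mul_comm, pow_mul, hl, one_pow]
    have hc : ∀ g : G, Commute ⁅y, x⁆ g := hA.comm_central hy hx
    have hcm : ⁅y, x⁆ ^ m = 1 := by
      rw [← comm_pow_right (hc x) m, hxm, commutatorElement_one_right]
    rw [pow_add, ← hm, pow_mul, mul_pow_class_two hc m, hxm, hym, one_mul, one_mul, ← pow_mul,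
      mul_comm, pow_mul, hcm, one_pow]

theorem HInv_Tr (r : ℕ) : HInv H (hA.Tr r) := by
  rintro h hh x ⟨hx, k, hk⟩
  refine ⟨hA.minNC.inv h hh x hx, k, ?_⟩
  rw [conj_pow, hk, mul_one, mul_inv_cancel]

theorem exists_prime : ∃ r : ℕ, r.Prime ∧ ∀ x ∈ N, ∃ k, x ^ r ^ k = 1 := by
  have hfin : Finite N := hA.fin
  set K₁ : Subgroup N := Z.subgroupOf N with hK₁
  have hK₁top : K₁ ≠ ⊤ := by
    intro h
    apply hA.minNC.not_le
    intro x hx
    have : (⟨x, hx⟩ : N) ∈ K₁ := by rw [h]; trivial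
    exact Subgroup.mem_subgroupOf.mp this
  have hidx : K₁.index ≠ 1 := fun h => hK₁top (Subgroup.index_eq_one.mp h)
  set r := K₁.index.minFac with hr
  have hrp : r.Prime := Nat.minFac_prime hidx
  have : Fact r.Prime := ⟨hrp⟩
  let S : Sylow r N := default
  have hS : ¬ (S : Subgroup N) ≤ K₁ := by
    intro hle
    have h1 : K₁.index ∣ (S : Subgroup N).index := Subgroup.index_dvd_of_le hle
    have h2 : r ∣ (S : Subgroup N).index := (Nat.minFac_dvd _).trans h1
    exact S.not_dvd_index h2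
  obtain ⟨s, hsS, hsK⟩ := SetLike.not_le_iff_exists.mp hS
  obtain ⟨k, hk⟩ := S.2 ⟨s, hsS⟩
  have hk' : (s : G) ^ r ^ k = 1 := by
    have := congrArg (fun t : S => ((t : N) : G)) hk
    simpa using this
  have hsZ : (s : G) ∉ Z := fun h => hsK (Subgroup.mem_subgroupOf.mpr h)
  have hT : hA.Tr r = N :=
    hA.eq_of_pred (hA.Tr r) (fun x hx => hx.1) (hA.HInv_Tr r) (s : G) ⟨s.2, k, hk'⟩ hsZ
  refine ⟨r, hrp, fun x hx => ?_⟩
  have : x ∈ hA.Tr r := by rw [hT]; exact hx
  exact this.2

end CaseA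

end Cfsg.Agent.Lib.Helper8.Asch
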