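import Cfsg.Agent.Lib.Helper8.Asch12

set_option autoImplicit false

/-! The class-two case: commutators have prime order, exponent. -/

namespace Cfsg.Agent.Lib.Helper8.Asch

open scoped commutatorElement

variable {G : Type*} [Group G]

theorem comm_conj (h x y : G) : ⁅h * x * h⁻¹, y⁆ = h * ⁅x, h⁻¹ * y * h⁆ * h⁻¹ := by
  simp only [commutatorElement_def]
  group

namespace CaseA

variable {H Z N : Subgroup G} (hA : CaseA H Z N)

include hA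

theorem comm_mul_left' {a b y : G} (hb : b ∈ N) (hy : y ∈ N) :
    ⁅a * b, y⁆ = ⁅b, y⁆ * ⁅a, y⁆ := by
  rw [comm_mul_left, central_conj hA.central (hA.comm b hb y hy)]

/-- elements all of whose commutators are killed by `r` -/
def Dr (r : ℕ) : Subgroup G where
  carrier := {x | x ∈ N ∧ ∀ y ∈ N, ⁅x, y⁆ ^ r = 1}
  one_mem' := ⟨N.one_mem, fun y _ => by rw [commutatorElement_one_left, one_pow]⟩
  inv_mem' := by
    rintro x ⟨hx, hxr⟩
    refine ⟨N.inv_mem hx, fun y hy => ?_⟩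
    have h1 : ⁅x, y⁆ * ⁅x⁻¹, y⁆ = 1 := by
      rw [← hA.comm_mul_left' (a := x⁻¹) hx hy]
      simp
    have h2 : ⁅x⁻¹, y⁆ = ⁅x, y⁆⁻¹ := eq_inv_of_mul_eq_one_right h1
    rw [h2, inv_pow, hxr y hy, inv_one]
  mul_mem' := by
    rintro a b ⟨ha, har⟩ ⟨hb, hbr⟩
    refine ⟨N.mul_mem ha hb, fun y hy => ?_⟩
    rw [hA.comm_mul_left' hb hy, (hA.comm_central hb hy _).mul_pow, har y hy, hbr y hy, one_mul]

theorem HInv_Dr (r : ℕ) : HInv H (hA.Dr r) := by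
  rintro h hh x ⟨hx, hxr⟩
  refine ⟨hA.minNC.inv h hh x hx, fun y hy => ?_⟩
  rw [comm_conj, conj_pow]
  have hy' : h⁻¹ * y * h ∈ N := by
    have := hA.minNC.inv h⁻¹ (H.inv_mem hh) y hy
    rwa [inv_inv] at this
  rw [hxr _ hy', mul_one, mul_inv_cancel]

theorem comm_pow_eq_one {r : ℕ} (hr : r.Prime) (hN : ∀ x ∈ N, ∃ k, x ^ r ^ k = 1) :
    ∀ x ∈ N, ∀ y ∈ N, ⁅x, y⁆ ^ r = 1 := by
  have hfin : Finite N := hA.fin
  -- maximal order of a commutator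
  obtain ⟨⟨x₀, y₀⟩, -, hmax⟩ := Set.exists_max_image (Set.univ : Set (N × N))
    (fun p => orderOf ⁅(p.1 : G), (p.2 : G)⁆) Set.finite_univ ⟨(1, 1), trivial⟩
  simp only [Set.mem_univ, true_imp_iff, Prod.forall] at hmax
  set c₀ := ⁅(x₀ : G), (y₀ : G)⁆ with hc₀
  have hcN : ∀ x ∈ N, ∀ y ∈ N, ⁅x, y⁆ ∈ N := fun x hx y hy =>
    N.mul_mem (N.mul_mem (N.mul_mem hx hy) (N.inv_mem hx)) (N.inv_mem hy)
  obtain ⟨k₀, hk₀⟩ := hN c₀ (hcN _ x₀.2 _ y₀.2)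
  obtain ⟨j, _, hj⟩ := (Nat.dvd_prime_pow hr).mp (orderOf_dvd_of_pow_eq_one hk₀)
  have hle : ∀ x ∈ N, ∀ y ∈ N, ⁅x, y⁆ ^ r ^ j = 1 := by
    intro x hx y hy
    obtain ⟨k, hk⟩ := hN _ (hcN x hx y hy)
    obtain ⟨i, _, hi⟩ := (Nat.dvd_prime_pow hr).mp (orderOf_dvd_of_pow_eq_one hk)
    have h1 := hmax ⟨x, hx⟩ ⟨y, hy⟩
    simp only at h1
    rw [hi, hj] at h1
    have hij : i ≤ j := (Nat.pow_le_pow_iff_right hr.one_lt).mp h1
    have : r ^ j = r ^ i * r ^ (j - i) := by rw [← pow_add]; congr 1; omega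
    rw [this, pow_mul, ← hi, pow_orderOf_eq_one, one_pow]
  obtain ⟨x₁, hx₁, y₁, hy₁, hne⟩ := hA.exists_noncomm
  have hj0 : j ≠ 0 := by
    rintro rfl
    apply hne
    have := hle x₁ hx₁ y₁ hy₁
    simpa using this
  obtain ⟨j', rfl⟩ := Nat.exists_eq_succ_of_ne_zero hj0
  -- the element x₀ ^ (r ^ j') lies in Dr
  have hxD : (x₀ : G) ^ r ^ j' ∈ hA.Dr r := by
    refine ⟨N.pow_mem x₀.2 _, fun y hy => ?_⟩
    rw [comm_pow_left (hA.comm_central x₀.2 hy _), ← pow_mul, ← pow_succ]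
    exact hle _ x₀.2 y hy
  have hxZ : (x₀ : G) ^ r ^ j' ∉ Z := by
    apply hA.not_mem_Z_of_comm_ne (y := (y₀ : G))
    rw [comm_pow_left (hA.comm_central x₀.2 y₀.2 _)]
    intro h
    have h1 : orderOf c₀ ∣ r ^ j' := orderOf_dvd_of_pow_eq_one h
    rw [hj] at h1
    have := Nat.le_of_dvd (pow_pos hr.pos _) h1
    have h2 : r ^ j' < r ^ (j' + 1) := Nat.pow_lt_pow_right hr.one_lt (Nat.lt_succ_self _)
    exact absurd this (not_le.mpr h2)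
  have hD : hA.Dr r = N :=
    hA.eq_of_pred (hA.Dr r) (fun x hx => hx.1) (hA.HInv_Dr r) _ hxD hxZ
  intro x hx y hy
  have : x ∈ hA.Dr r := by rw [hD]; exact hx
  exact this.2 y hy

theorem pow_mem_Z {r : ℕ} (hc : ∀ x ∈ N, ∀ y ∈ N, ⁅x, y⁆ ^ r = 1) {x : G} (hx : x ∈ N) :
    x ^ r ∈ Z := by
  apply hA.cent _ (N.pow_mem hx r)
  intro y hy
  rw [← commutatorElement_eq_one_iff_mul_comm, comm_pow_left (hA.comm_central hx hy _)]
  exact hc x hx y hy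

end CaseA

end Cfsg.Agent.Lib.Helper8.Asch
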