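import Cfsg.Agent.Lib.Helper8.Asch17

set_option autoImplicit false

/-! Coset representatives of the scalars form a basis of the matrix algebra. -/

namespace Cfsg.Agent.Lib.Helper8.Asch

open scoped commutatorElement
open Matrix

variable {ι : Type*} [Fintype ι] [DecidableEq ι] {F : Type*} [Field F] [Nonempty ι]
  {N : Subgroup (GL ι F)}

/-- the scalars inside `N` -/
abbrev Ksub (N : Subgroup (GL ι F)) : Subgroup N := (Zs ι F).subgroupOf N

/-- a coset representative -/
noncomputable def cosetRep (N : Subgroup (GL ι F)) (q : N ⧸ Ksub N) : N := Quotient.out q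

/-- the matrix of a coset representative -/
noncomputable def repMat (N : Subgroup (GL ι F)) (q : N ⧸ Ksub N) : Matrix ι ι F :=
  ((cosetRep N q : N) : GL ι F)

theorem cosetRep_spec (N : Subgroup (GL ι F)) (x : N) :
    ((cosetRep N (QuotientGroup.mk x) : N) : GL ι F)⁻¹ * (x : GL ι F) ∈ Zs ι F := by
  have h1 : (QuotientGroup.mk (cosetRep N (QuotientGroup.mk x)) : N ⧸ Ksub N) =
      QuotientGroup.mk x := Quotient.out_eq _
  rw [QuotientGroup.eq] at h1
  exact Subgroup.mem_subgroupOf.mp h1

theorem lam_injective (hN : Cl2 N) :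
    Function.Injective (fun q : N ⧸ Ksub N => lam hN (cosetRep N q) (cosetRep N q).2) := by
  intro q q' h
  have h1 := lam_eq_imp hN _ _ (cosetRep N q).2 (cosetRep N q').2 h
  have h2 : (QuotientGroup.mk (cosetRep N q) : N ⧸ Ksub N) = QuotientGroup.mk (cosetRep N q') := by
    rw [QuotientGroup.eq]
    exact Subgroup.mem_subgroupOf.mpr h1
  have e1 : (QuotientGroup.mk (cosetRep N q) : N ⧸ Ksub N) = q := Quotient.out_eq _
  have e2 : (QuotientGroup.mk (cosetRep N q') : N ⧸ Ksub N) = q' := Quotient.out_eq _
  rw [e1, e2] at h2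
  exact h2

theorem repMat_linearIndependent (hN : Cl2 N) : LinearIndependent F (repMat N) := by
  have hfin : Finite N := hN.fin
  have : Fintype (N ⧸ Ksub N) := Fintype.ofFinite _
  rw [Fintype.linearIndependent_iff]
  intro a ha q₀
  have hded := (linearIndependent_monoidHom N F).comp _ (lam_injective hN)
  rw [Fintype.linearIndependent_iff] at hded
  -- conjugate the relation by y
  have hconj : ∀ y : N, ∑ q, (a q * lam hN (cosetRep N q) (cosetRep N q).2 y) • repMat N q = 0 := by
    intro y
    have h1 : ((y : GL ι F) : Matrix ι ι F) * (∑ q, a q • repMat N q) *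
        (((y : GL ι F)⁻¹ : GL ι F) : Matrix ι ι F) = 0 := by rw [ha, mul_zero, zero_mul]
    rw [Finset.mul_sum, Finset.sum_mul] at h1
    rw [← h1]
    apply Finset.sum_congr rfl
    intro q _
    rw [Matrix.mul_smul, Matrix.smul_mul]
    have := conj_eq_lam_smul hN (cosetRep N q) (cosetRep N q).2 y
    unfold repMat
    rw [this, smul_smul]
  have hentry : ∀ i j, a q₀ * repMat N q₀ i j = 0 := by
    intro i j
    have h2 := hded (fun q => a q * repMat N q i j) (by
      funext y
      have h3 := congrFun (congrFun (hconj y) i) j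
      simp only [Matrix.sum_apply, Matrix.smul_apply, smul_eq_mul, Matrix.zero_apply] at h3
      simp only [Finset.sum_apply, Pi.smul_apply, Function.comp_apply, smul_eq_mul, Pi.zero_apply]
      rw [← h3]
      apply Finset.sum_congr rfl
      intro q _
      ring)
    exact h2 q₀
  by_contra ha0
  have hzero : repMat N q₀ = 0 := by
    ext i j
    have := hentry i j
    rcases mul_eq_zero.mp this with h | h
    · exact absurd h ha0
    · exact h
  have hunit : IsUnit (repMat N q₀) := ⟨((cosetRep N q₀ : N) : GL ι F), rfl⟩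
  rw [hzero] at hunit
  exact not_isUnit_zero hunit

theorem mem_span_repMat (N : Subgroup (GL ι F)) {x : GL ι F} (hx : x ∈ N) :
    (x : Matrix ι ι F) ∈ Submodule.span F (Set.range (repMat N)) := by
  have h1 := cosetRep_spec N ⟨x, hx⟩
  set r := ((cosetRep N (QuotientGroup.mk (⟨x, hx⟩ : N)) : N) : GL ι F) with hr
  have h2 : x = r * (r⁻¹ * x) := by group
  have h3 : (x : Matrix ι ι F) = sv (r⁻¹ * x) • (r : Matrix ι ι F) := by
    conv_lhs => rw [h2]
    rw [Units.val_mul, val_eq_sv_smul h1, Matrix.mul_smul, mul_one]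
  rw [h3]
  apply Submodule.smul_mem
  apply Submodule.subset_span
  exact ⟨_, rfl⟩

theorem span_repMat (hN : Cl2 N) : Submodule.span F (Set.range (repMat N)) = ⊤ := by
  rw [eq_top_iff, ← hN.span, Submodule.span_le]
  rintro M ⟨x, hx, rfl⟩
  exact mem_span_repMat N hx

/-- the basis of coset representatives -/
noncomputable def repBasis (hN : Cl2 N) : Module.Basis (N ⧸ Ksub N) F (Matrix ι ι F) :=
  Module.Basis.mk (repMat_linearIndependent hN) (span_repMat hN).ge

theorem repBasis_apply (hN : Cl2 N) (q : N ⧸ Ksub N) : repBasis hN q = repMat N q := by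
  unfold repBasis
  rw [Module.Basis.mk_apply]

theorem card_quot (hN : Cl2 N) : Nat.card (N ⧸ Ksub N) = Fintype.card ι ^ 2 := by
  have hfin : Finite N := hN.fin
  have : Fintype (N ⧸ Ksub N) := Fintype.ofFinite _
  have h1 := Module.finrank_eq_card_basis (repBasis hN)
  rw [Module.finrank_matrix, Module.finrank_self, mul_one] at h1
  rw [Nat.card_eq_fintype_card, ← h1]
  ring

end Cfsg.Agent.Lib.Helper8.Asch
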