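import Cfsg.Agent.Lib.Helper8.Asch18

set_option autoImplicit false

/-! Two representations of a class-two group agreeing on the scalars are conjugate. -/

namespace Cfsg.Agent.Lib.Helper8.Asch

open scoped commutatorElement
open Matrix

variable {ι : Type*} [Fintype ι] [DecidableEq ι] {F : Type*} [Field F] [Nonempty ι]
  {N : Subgroup (GL ι F)}

/-- a linear map which is multiplicative on a spanning multiplicatively closed set is
multiplicative -/
theorem mul_of_span {A : Type*} [Ring A] [Algebra F A] {B : Type*} [Ring B] [Algebra F B]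
    (S : Set A) (hS : Submodule.span F S = ⊤) (Φ : A →ₗ[F] B)
    (h : ∀ x ∈ S, ∀ y ∈ S, Φ (x * y) = Φ x * Φ y) : ∀ x y, Φ (x * y) = Φ x * Φ y := by
  have h1 : ∀ x ∈ S, ∀ y, Φ (x * y) = Φ x * Φ y := by
    intro x hx
    have : Φ ∘ₗ (LinearMap.mulLeft F x) = (LinearMap.mulLeft F (Φ x)) ∘ₗ Φ := by
      apply LinearMap.ext_on hS
      intro y hy
      exact h x hx y hy
    intro y
    exact LinearMap.congr_fun this y
  intro x y
  have : Φ ∘ₗ (LinearMap.mulRight F y) = (LinearMap.mulRight F (Φ y)) ∘ₗ Φ := by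
    apply LinearMap.ext_on hS
    intro x hx
    exact h1 x hx y
  exact LinearMap.congr_fun this x

theorem svn (hN : Cl2 N) (Φ₀ : N →* GL ι F)
    (hΦ : ∀ k : N, (k : GL ι F) ∈ Zs ι F → Φ₀ k = (k : GL ι F)) :
    ∃ U : GL ι F, ∀ x : N, ((Φ₀ x : GL ι F) : Matrix ι ι F) =
      (U : Matrix ι ι F) * ((x : GL ι F) : Matrix ι ι F) * ((U⁻¹ : GL ι F) : Matrix ι ι F) := by
  let Φ : Matrix ι ι F →ₗ[F] Matrix ι ι F :=
    (repBasis hN).constr F (fun q => ((Φ₀ (cosetRep N q) : GL ι F) : Matrix ι ι F))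
  have hΦq : ∀ q, Φ (repMat N q) = ((Φ₀ (cosetRep N q) : GL ι F) : Matrix ι ι F) := by
    intro q
    rw [← repBasis_apply hN q]
    exact (repBasis hN).constr_basis F _ q
  have hΦx : ∀ x : N, Φ ((x : GL ι F) : Matrix ι ι F) = ((Φ₀ x : GL ι F) : Matrix ι ι F) := by
    intro x
    have h1 := cosetRep_spec N x
    set r : N := cosetRep N (QuotientGroup.mk x) with hr
    set k : N := r⁻¹ * x with hk
    have hkZ : (k : GL ι F) ∈ Zs ι F := h1
    have hx : x = r * k := by rw [hk]; group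
    have h3 : ((x : GL ι F) : Matrix ι ι F) = sv (k : GL ι F) • ((r : GL ι F) : Matrix ι ι F) := by
      conv_lhs => rw [hx]
      rw [Subgroup.coe_mul, Units.val_mul, val_eq_sv_smul hkZ, Matrix.mul_smul, mul_one]
    rw [h3, map_smul]
    have h4 : Φ ((r : GL ι F) : Matrix ι ι F) = ((Φ₀ r : GL ι F) : Matrix ι ι F) := hΦq _
    rw [h4]
    conv_rhs => rw [hx, map_mul, hΦ k hkZ, Units.val_mul, val_eq_sv_smul hkZ, Matrix.mul_smul,
      mul_one]
  have hone : Φ 1 = 1 := by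
    have := hΦx 1
    simpa using this
  have hmul : ∀ X Y, Φ (X * Y) = Φ X * Φ Y := by
    apply mul_of_span (mset N) hN.span Φ
    rintro X ⟨x, hx, rfl⟩ Y ⟨y, hy, rfl⟩
    have h1 := hΦx (⟨x, hx⟩ * ⟨y, hy⟩)
    rw [map_mul, Units.val_mul] at h1
    have h2 := hΦx ⟨x, hx⟩
    have h3 := hΦx ⟨y, hy⟩
    simp only at h2 h3
    rw [h2, h3, ← h1]
    rfl
  let θ : Matrix ι ι F →ₐ[F] Matrix ι ι F := AlgHom.ofLinearMap Φ hone hmul
  obtain ⟨U, hU⟩ := algHom_matrix_inner θ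
  refine ⟨U, fun x => ?_⟩
  rw [← hΦx x]
  exact hU _

end Cfsg.Agent.Lib.Helper8.Asch
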