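import Cfsg.Agent.Lib.Helper8.Asch1

set_option autoImplicit false

/-! Clifford's theorem for a subalgebra normalised by an irreducible group. -/

namespace Cfsg.Agent.Lib.Helper8.Asch

open Module

variable {F : Type*} [Field F] {V : Type*} [AddCommGroup V] [Module F V]

/-- `H` acts irreducibly on `V` -/
def Irr (H : Subgroup (GLV F V)) : Prop :=
  ∀ W : Submodule F V, (∀ h ∈ H, ∀ w ∈ W, (h : Module.End F V) w ∈ W) → W = ⊥ ∨ W = ⊤

theorem Nrm.inv_of_subgroup {H : Subgroup (GLV F V)} {A : Subalgebra F (Module.End F V)}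
    (hA : ∀ h ∈ H, Nrm A h) {h : GLV F V} (hh : h ∈ H) : Nrm A h⁻¹ := hA _ (H.inv_mem hh)

theorem restrictScalars_mapSub (A : Subalgebra F (Module.End F V)) (g : GLV F V) (hg : Nrm A g⁻¹)
    (W : Submodule A V) :
    (mapSub A g hg W).restrictScalars F = (W.restrictScalars F).map (g : Module.End F V) := by
  ext v
  simp only [Submodule.restrictScalars_mem, Submodule.mem_map]
  constructor
  · intro hv
    exact ⟨_, hv, apply_inv_apply g v⟩
  · rintro ⟨w, hw, rfl⟩
    exact apply_mem_mapSub hw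

theorem mapSub_one (A : Subalgebra F (Module.End F V)) (h1 : Nrm A (1 : GLV F V)⁻¹)
    (W : Submodule A V) : mapSub A 1 h1 W = W := by
  ext v
  rw [mem_mapSub]
  simp

theorem mapSub_mul (A : Subalgebra F (Module.End F V)) (g h : GLV F V) (hg : Nrm A g⁻¹)
    (hh : Nrm A h⁻¹) (hgh : Nrm A (g * h)⁻¹) (W : Submodule A V) :
    mapSub A (g * h) hgh W = mapSub A g hg (mapSub A h hh W) := by
  ext v
  rw [mem_mapSub, mem_mapSub, mem_mapSub, mul_inv_rev, Units.val_mul]
  rfl

/-- an `A`-submodule stable under all `mapSub h` is trivial, when `H` is irreducible -/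
theorem eq_bot_or_top_of_stable (H : Subgroup (GLV F V)) (hirr : Irr H)
    (A : Subalgebra F (Module.End F V)) (hA : ∀ h ∈ H, Nrm A h) (T : Submodule A V)
    (hT : ∀ h (hh : h ∈ H), mapSub A h (Nrm.inv_of_subgroup hA hh) T ≤ T) : T = ⊥ ∨ T = ⊤ := by
  have := hirr (T.restrictScalars F) (by
    intro h hh w hw
    have h1 : (h : Module.End F V) w ∈ mapSub A h (Nrm.inv_of_subgroup hA hh) T :=
      apply_mem_mapSub hw
    exact hT h hh h1)
  rcases this with h | h
  · left
    exact (Submodule.restrictScalars_eq_bot_iff _ _ _).mp h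
  · right
    exact (Submodule.restrictScalars_eq_top_iff _ _ _).mp h

theorem clifford_semisimple [FiniteDimensional F V] [Nontrivial V] (H : Subgroup (GLV F V))
    (hirr : Irr H) (A : Subalgebra F (Module.End F V)) (hA : ∀ h ∈ H, Nrm A h) :
    IsSemisimpleModule A V := by
  have : IsArtinian A V := isArtinian_of_tower F inferInstance
  obtain ⟨S, hS⟩ := IsAtomic.exists_atom (Submodule A V)
  apply IsSemisimpleModule.of_sSup_simples_eq_top
  set T : Submodule A V := sSup {m : Submodule A V | IsSimpleModule A m} with hTdef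
  have hST : S ≤ T := le_sSup (by
    show IsSimpleModule A S
    exact isSimpleModule_iff_isAtom.mpr hS)
  have hstab : ∀ h (hh : h ∈ H), mapSub A h (Nrm.inv_of_subgroup hA hh) T ≤ T := by
    intro h hh
    have h1 : mapSub A h (Nrm.inv_of_subgroup hA hh) T =
        mapIso A h (Nrm.inv_of_subgroup hA hh) (hA h hh) T := rfl
    rw [h1, hTdef, OrderIso.map_sSup]
    apply iSup₂_le
    intro m hm
    apply le_sSup
    show IsSimpleModule A _
    rw [isSimpleModule_iff_isAtom]
    rw [OrderIso.isAtom_iff]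
    exact isSimpleModule_iff_isAtom.mp hm
  rcases eq_bot_or_top_of_stable H hirr A hA T hstab with h | h
  · exfalso
    rw [h] at hST
    exact hS.1 (le_bot_iff.mp hST)
  · exact h

theorem isSimple_mapSub (A : Subalgebra F (Module.End F V)) (g : GLV F V) (hg : Nrm A g⁻¹)
    (hg' : Nrm A g) (S : Submodule A V) (hS : IsSimpleModule A S) :
    IsSimpleModule A (mapSub A g hg S) := by
  rw [isSimpleModule_iff_isAtom] at hS ⊢
  have : mapSub A g hg S = mapIso A g hg hg' S := rfl
  rw [this, OrderIso.isAtom_iff]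
  exact hS

theorem mapSub_isotypicComponent (A : Subalgebra F (Module.End F V)) (g : GLV F V)
    (hg : Nrm A g⁻¹) (hg' : Nrm A g) (S : Submodule A V) :
    mapSub A g hg (isotypicComponent A V S) = isotypicComponent A V (mapSub A g hg S) := by
  have h1 : mapSub A g hg (isotypicComponent A V S) =
      mapIso A g hg hg' (isotypicComponent A V S) := rfl
  rw [h1, isotypicComponent, isotypicComponent, OrderIso.map_sSup]
  apply le_antisymm
  · apply iSup₂_le
    intro m hm
    apply le_sSup
    obtain ⟨e⟩ := hm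
    exact ⟨mapLinearEquiv A g hg m S e⟩
  · apply sSup_le
    intro m' hm'
    obtain ⟨e⟩ := hm'
    have hginv : Nrm A (g⁻¹)⁻¹ := by rwa [inv_inv]
    have e2 := mapLinearEquiv A g⁻¹ hginv m' (mapSub A g hg S) e
    have h3 : mapSub A g⁻¹ hginv (mapSub A g hg S) = S := mapSub_inv_mapSub hg hg' S
    have h4 : mapIso A g hg hg' (mapSub A g⁻¹ hginv m') = m' := mapSub_mapSub_inv hg hg' m'
    refine le_trans (le_of_eq h4.symm) ?_
    have hmem : mapSub A g⁻¹ hginv m' ∈ {m : Submodule A V | Nonempty (m ≃ₗ[A] S)} :=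
      ⟨e2.trans (LinearEquiv.ofEq _ _ h3)⟩
    exact le_iSup₂_of_le (f := fun a (_ : a ∈ {m : Submodule A V | Nonempty (m ≃ₗ[A] S)}) =>
      mapIso A g hg hg' a) (mapSub A g⁻¹ hginv m') hmem le_rfl

theorem mapSub_mem_isotypicComponents (A : Subalgebra F (Module.End F V)) (g : GLV F V)
    (hg : Nrm A g⁻¹) (hg' : Nrm A g) (c : Submodule A V) (hc : c ∈ isotypicComponents A V) :
    mapSub A g hg c ∈ isotypicComponents A V := by
  obtain ⟨S, hS, rfl⟩ := hc
  exact ⟨mapSub A g hg S, isSimple_mapSub A g hg hg' S hS, mapSub_isotypicComponent A g hg hg' S⟩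

end Cfsg.Agent.Lib.Helper8.Asch
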