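import Mathlib

set_option autoImplicit false

/-! Ordered products over `Fin n` of pairwise commuting families in a monoid. -/

namespace Cfsg.Agent.Lib.Helper8.Asch

variable {R : Type*} [Monoid R]

/-- the ordered product `g 0 * g 1 * ⋯ * g (n-1)` -/
def ordProd : (n : ℕ) → (Fin n → R) → R
  | 0, _ => 1
  | n + 1, g => g 0 * ordProd n (fun i => g i.succ)

theorem ordProd_zero (g : Fin 0 → R) : ordProd 0 g = 1 := rfl

theorem ordProd_succ (n : ℕ) (g : Fin (n + 1) → R) :
    ordProd (n + 1) g = g 0 * ordProd n (fun i => g i.succ) := rfl

theorem ordProd_one (n : ℕ) : ordProd n (fun _ => (1 : R)) = 1 := by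
  induction n with
  | zero => rfl
  | succ n ih => rw [ordProd_succ, ih, one_mul]

theorem commute_ordProd {n : ℕ} (x : R) (g : Fin n → R) (h : ∀ i, Commute x (g i)) :
    Commute x (ordProd n g) := by
  induction n with
  | zero => exact Commute.one_right x
  | succ n ih =>
    rw [ordProd_succ]
    exact (h 0).mul_right (ih _ fun i => h i.succ)

/-- the product of two families, commuting across different indices -/
theorem ordProd_mul {n : ℕ} (g g' : Fin n → R) (h : ∀ i j, i ≠ j → Commute (g i) (g' j)) :
    ordProd n (fun i => g i * g' i) = ordProd n g * ordProd n g' := by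
  induction n with
  | zero => simp [ordProd_zero]
  | succ n ih =>
    rw [ordProd_succ, ordProd_succ, ordProd_succ]
    rw [ih (fun i => g i.succ) (fun i => g' i.succ)
      (fun i j hij => h _ _ (fun hh => hij (Fin.succ_injective _ hh)))]
    have hc : Commute (g' 0) (ordProd n fun i => g i.succ) := by
      apply commute_ordProd
      intro i
      exact (h i.succ 0 (Fin.succ_ne_zero i)).symm
    calc g 0 * g' 0 * ((ordProd n fun i => g i.succ) * ordProd n fun i => g' i.succ)
        = g 0 * (g' 0 * (ordProd n fun i => g i.succ)) * ordProd n fun i => g' i.succ := by
          simp only [mul_assoc]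
      _ = g 0 * ((ordProd n fun i => g i.succ) * g' 0) * ordProd n fun i => g' i.succ := by
          rw [hc.eq]
      _ = _ := by simp only [mul_assoc]

theorem ordProd_update_one {n : ℕ} (x : R) (i : Fin n) :
    ordProd n (Function.update (fun _ => (1 : R)) i x) = x := by
  induction n with
  | zero => exact i.elim0
  | succ n ih =>
    rw [ordProd_succ]
    induction i using Fin.cases with
    | zero =>
      simp only [Function.update_self]
      have : (fun j : Fin n => Function.update (fun _ : Fin (n + 1) => (1 : R)) 0 x j.succ) =
          fun _ => 1 := by
        funext j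
        rw [Function.update_of_ne (Fin.succ_ne_zero j)]
      rw [this, ordProd_one, mul_one]
    | succ i' =>
      have h0 : Function.update (fun _ : Fin (n + 1) => (1 : R)) i'.succ x 0 = 1 := by
        rw [Function.update_of_ne (Fin.succ_ne_zero i').symm]
      rw [h0, one_mul]
      have : (fun j : Fin n => Function.update (fun _ : Fin (n + 1) => (1 : R)) i'.succ x j.succ) =
          Function.update (fun _ : Fin n => (1 : R)) i' x := by
        funext j
        by_cases hj : j = i'
        · subst hj; simp
        · rw [Function.update_of_ne hj, Function.update_of_ne]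
          intro hh
          exact hj (Fin.succ_injective _ hh)
      rw [this]
      exact ih i'

/-- multiplying on the left by an element commuting with all other factors -/
theorem mul_ordProd_update {n : ℕ} (x : R) (g : Fin n → R) (i : Fin n)
    (h : ∀ j, j ≠ i → Commute x (g j)) :
    x * ordProd n g = ordProd n (Function.update g i (x * g i)) := by
  have h1 : ordProd n (Function.update g i (x * g i)) =
      ordProd n (fun j => (Function.update (fun _ => (1 : R)) i x) j * g j) := by
    congr 1
    funext j
    by_cases hj : j = i
    · subst hj; simp
    · simp [Function.update_of_ne hj]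
  rw [h1, ordProd_mul, ordProd_update_one]
  intro a b hab
  by_cases ha : a = i
  · subst ha
    rw [Function.update_self]
    exact h b (Ne.symm hab)
  · rw [Function.update_of_ne ha]
    exact Commute.one_left _

end Cfsg.Agent.Lib.Helper8.Asch
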