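import Cfsg.Agent.Lib.Helper8.Asch22

set_option autoImplicit false

/-! Commuting systems of matrix units give a tensor basis. -/

namespace Cfsg.Agent.Lib.Helper8.Asch

open Module

theorem ordProd_eq_zero {R : Type*} [MonoidWithZero R] {n : ℕ} (g : Fin n → R) (i : Fin n)
    (h : g i = 0) : ordProd n g = 0 := by
  induction n with
  | zero => exact i.elim0
  | succ n ih =>
    rw [ordProd_succ]
    induction i using Fin.cases with
    | zero => rw [h, zero_mul]
    | succ i' => rw [ih (fun j => g j.succ) i' h, mul_zero]

variable {F : Type*} [Field F] {V : Type*} [AddCommGroup V] [Module F V]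

/-- `k` pairwise commuting systems of `m × m` matrix units -/
structure MUnits (k m : ℕ) (e : Fin k → Fin m → Fin m → Module.End F V) : Prop where
  mul : ∀ i p q p' q', e i p q * e i p' q' = if q = p' then e i p q' else 0
  sum_one : ∀ i, ∑ p, e i p p = 1
  comm : ∀ i j, i ≠ j → ∀ p q p' q', Commute (e i p q) (e j p' q')

namespace MUnits

variable {k m : ℕ} {e : Fin k → Fin m → Fin m → Module.End F V}

theorem tail {k : ℕ} {e : Fin (k + 1) → Fin m → Fin m → Module.End F V} (h : MUnits (k + 1) m e) :
    MUnits k m (fun i => e i.succ) where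
  mul := fun i => h.mul i.succ
  sum_one := fun i => h.sum_one i.succ
  comm := fun i j hij => h.comm i.succ j.succ (fun hh => hij (Fin.succ_injective _ hh))

/-- the product of the corner idempotents -/
def eps (e : Fin k → Fin m → Fin m → Module.End F V) (z : Fin m) : Module.End F V :=
  ordProd k (fun i => e i z z)

theorem eps_ne_zero [Nontrivial V] (z : Fin m) :
    ∀ {k : ℕ} {e : Fin k → Fin m → Fin m → Module.End F V}, MUnits k m e → eps e z ≠ 0 := by
  intro k
  induction k with
  | zero =>
    intro e _
    unfold eps
    rw [ordProd_zero]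
    exact one_ne_zero
  | succ k ih =>
    intro e h
    have h' := ih h.tail
    intro h0
    apply h'
    unfold eps at h0 h' ⊢
    rw [ordProd_succ] at h0
    set ε' := ordProd k (fun i : Fin k => e i.succ z z) with hε'
    have hc : ∀ p q, Commute (e 0 p q) ε' := by
      intro p q
      apply commute_ordProd
      intro i
      exact h.comm 0 i.succ (Fin.succ_ne_zero i).symm p q z z
    have h1 : ∀ p, e 0 p p * ε' = 0 := by
      intro p
      have e1 : e 0 p p = e 0 p z * e 0 z z * e 0 z p := by
        rw [h.mul, if_pos rfl, h.mul, if_pos rfl]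
      rw [e1, mul_assoc, (hc z p).eq, ← mul_assoc, mul_assoc (e 0 p z), h0, mul_zero, zero_mul]
    calc ε' = (∑ p, e 0 p p) * ε' := by rw [h.sum_one, one_mul]
      _ = 0 := by rw [Finset.sum_mul]; exact Finset.sum_eq_zero fun p _ => h1 p

variable (h : MUnits k m e) (z : Fin m)

include h

theorem eps_mul_eps : eps e z * eps e z = eps e z := by
  unfold eps
  rw [← ordProd_mul]
  · congr 1
    funext i
    rw [h.mul, if_pos rfl]
  · intro i j hij
    exact h.comm i j hij z z z z

/-- the column product -/
def Ecol (e : Fin k → Fin m → Fin m → Module.End F V) (z : Fin m) (f : Fin k → Fin m) :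
    Module.End F V := ordProd k (fun i => e i (f i) z)

/-- the row product -/
def Erow (e : Fin k → Fin m → Fin m → Module.End F V) (z : Fin m) (f : Fin k → Fin m) :
    Module.End F V := ordProd k (fun i => e i z (f i))

theorem Erow_mul_Ecol (f g : Fin k → Fin m) :
    Erow e z g * Ecol e z f = if g = f then eps e z else 0 := by
  unfold Erow Ecol
  rw [← ordProd_mul]
  · by_cases hgf : g = f
    · subst hgf
      rw [if_pos rfl]
      unfold eps
      congr 1
      funext i
      rw [h.mul, if_pos rfl]
    · rw [if_neg hgf]
      obtain ⟨i, hi⟩ := Function.ne_iff.mp hgf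
      apply ordProd_eq_zero _ i
      rw [h.mul, if_neg hi]
  · intro i j hij
    exact h.comm i j hij _ _ _ _

theorem unit_mul_Ecol (i : Fin k) (p q : Fin m) (f : Fin k → Fin m) :
    e i p q * Ecol e z f = if f i = q then Ecol e z (Function.update f i p) else 0 := by
  unfold Ecol
  rw [mul_ordProd_update _ _ i (fun j hj => h.comm i j (Ne.symm hj) _ _ _ _)]
  by_cases hq : f i = q
  · rw [if_pos hq]
    congr 1
    funext j
    by_cases hj : j = i
    · subst hj
      rw [Function.update_self, Function.update_self, h.mul, if_pos hq.symm]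
    · rw [Function.update_of_ne hj, Function.update_of_ne hj]
  · rw [if_neg hq]
    apply ordProd_eq_zero _ i
    rw [Function.update_self, h.mul, if_neg (Ne.symm hq)]

end MUnits

end Cfsg.Agent.Lib.Helper8.Asch
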