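import Cfsg.Agent.Lib.Helper8.Asch23

set_option autoImplicit false

/-! The tensor basis attached to commuting systems of matrix units acting irreducibly. -/

namespace Cfsg.Agent.Lib.Helper8.Asch

open Module

variable {F : Type*} [Field F] {V : Type*} [AddCommGroup V] [Module F V]

theorem MUnits.exists_tensor_basis [Nontrivial V] {k m : ℕ}
    {e : Fin k → Fin m → Fin m → Module.End F V} (h : MUnits k m e) (z : Fin m)
    (hirr : ∀ W : Submodule F V, (∀ i p q, ∀ w ∈ W, e i p q w ∈ W) → W = ⊥ ∨ W = ⊤) :
    ∃ b : Basis (Fin k → Fin m) F V, ∀ i p q f,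
      e i p q (b f) = if f i = q then b (Function.update f i p) else 0 := by
  classical
  have hε := MUnits.eps_ne_zero z h
  obtain ⟨w, hw⟩ : ∃ w, MUnits.eps e z w ≠ 0 := by
    by_contra hcon
    push Not at hcon
    apply hε
    ext w
    exact hcon w
  set v₀ := MUnits.eps e z w with hv₀
  have hεv : MUnits.eps e z v₀ = v₀ := by
    have := LinearMap.congr_fun (h.eps_mul_eps z) w
    exact this
  let v : (Fin k → Fin m) → V := fun f => MUnits.Ecol e z f v₀
  have key : ∀ i p q f, e i p q (v f) = if f i = q then v (Function.update f i p) else 0 := by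
    intro i p q f
    have := LinearMap.congr_fun (h.unit_mul_Ecol z i p q f) v₀
    rw [Module.End.mul_apply] at this
    rw [this]
    split_ifs <;> rfl
  have hrow : ∀ g f, MUnits.Erow e z g (v f) = if g = f then v₀ else 0 := by
    intro g f
    have := LinearMap.congr_fun (h.Erow_mul_Ecol z f g) v₀
    rw [Module.End.mul_apply] at this
    rw [this]
    split_ifs
    · exact hεv
    · rfl
  have hli : LinearIndependent F v := by
    rw [Fintype.linearIndependent_iff]
    intro c hc g
    have h1 := congrArg (MUnits.Erow e z g) hc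
    rw [map_sum, map_zero] at h1
    simp only [map_smul, hrow] at h1
    rw [Finset.sum_eq_single g] at h1
    · rw [if_pos rfl] at h1
      rcases smul_eq_zero.mp h1 with h2 | h2
      · exact h2
      · exact absurd h2 hw
    · intro f _ hfg
      rw [if_neg (Ne.symm hfg), smul_zero]
    · intro hh
      exact absurd (Finset.mem_univ _) hh
  set W : Submodule F V := Submodule.span F (Set.range v) with hW
  have hWstab : ∀ i p q, ∀ w ∈ W, e i p q w ∈ W := by
    intro i p q w hw'
    induction hw' using Submodule.span_induction with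
    | mem x hx =>
      obtain ⟨f, rfl⟩ := hx
      rw [key]
      split_ifs
      · exact Submodule.subset_span ⟨_, rfl⟩
      · exact W.zero_mem
    | zero => rw [map_zero]; exact W.zero_mem
    | add a b _ _ ha hb => rw [map_add]; exact W.add_mem ha hb
    | smul c a _ ha => rw [map_smul]; exact W.smul_mem c ha
  have hWne : W ≠ ⊥ := by
    intro hbot
    have h1 : v (fun _ => z) ∈ W := Submodule.subset_span ⟨_, rfl⟩
    rw [hbot, Submodule.mem_bot] at h1
    have h2 := hrow (fun _ => z) (fun _ => z)
    rw [if_pos rfl, h1, map_zero] at h2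
    exact hw h2.symm
  have hWtop : W = ⊤ := (hirr W hWstab).resolve_left hWne
  refine ⟨Basis.mk hli hWtop.ge, ?_⟩
  intro i p q f
  rw [Basis.mk_apply, key]
  split_ifs
  · rw [Basis.mk_apply]
  · rfl

end Cfsg.Agent.Lib.Helper8.Asch
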