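import Cfsg.Agent.Lib.Helper8.Asch25
import Cfsg.Agent.Lib.Helper8.Asch9

set_option autoImplicit false

/-! The centraliser of all position matrices; factor permutations; the wreath decomposition. -/

namespace Cfsg.Agent.Lib.Helper8.Asch

open Matrix

variable {k m : ℕ} {F : Type*} [Field F]

theorem mul_posMat_single (M : Matrix (Fin k → Fin m) (Fin k → Fin m) F) (i : Fin k) (p q : Fin m)
    (f g : Fin k → Fin m) :
    (M * posMat i (Matrix.single p q (1 : F))) f g =
      if g i = q then M f (Function.update g i p) else 0 := by
  rw [Matrix.mul_apply]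
  simp only [posMat_single_apply]
  by_cases hq : g i = q
  · rw [if_pos hq, Finset.sum_eq_single (Function.update g i p)]
    · rw [if_pos ⟨hq, rfl⟩, mul_one]
    · intro h _ hh
      rw [if_neg (fun hcon => hh hcon.2), mul_zero]
    · intro hh
      exact absurd (Finset.mem_univ _) hh
  · rw [if_neg hq]
    apply Finset.sum_eq_zero
    intro h _
    rw [if_neg (fun hcon => hq hcon.1), mul_zero]

theorem posMat_single_mul (M : Matrix (Fin k → Fin m) (Fin k → Fin m) F) (i : Fin k) (p q : Fin m)
    (f g : Fin k → Fin m) :
    (posMat i (Matrix.single p q (1 : F)) * M) f g =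
      if f i = p then M (Function.update f i q) g else 0 := by
  rw [Matrix.mul_apply]
  simp only [posMat_single_apply]
  by_cases hp : f i = p
  · rw [if_pos hp, Finset.sum_eq_single (Function.update f i q)]
    · rw [if_pos, one_mul]
      refine ⟨Function.update_self _ _ _, ?_⟩
      rw [Function.update_idem, ← hp, Function.update_eq_self]
    · intro h _ hh
      rw [if_neg, zero_mul]
      rintro ⟨h1, h2⟩
      apply hh
      rw [h2, Function.update_idem, ← h1, Function.update_eq_self]
    · intro hh
      exact absurd (Finset.mem_univ _) hh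
  · rw [if_neg hp]
    apply Finset.sum_eq_zero
    intro h _
    rw [if_neg, zero_mul]
    rintro ⟨_, h2⟩
    apply hp
    rw [h2, Function.update_self]

/-- a function on `Fin k → α` invariant under single updates is constant -/
theorem const_of_update_invariant {α β : Type*} (D : (Fin k → α) → β)
    (h : ∀ f i a, D (Function.update f i a) = D f) (f g : Fin k → α) : D f = D g := by
  classical
  have key : ∀ T : Finset (Fin k), D (fun i => if i ∈ T then g i else f i) = D f := by
    intro T
    induction T using Finset.induction_on with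
    | empty => simp
    | insert a T ha ih =>
      have : (fun i => if i ∈ insert a T then g i else f i) =
          Function.update (fun i => if i ∈ T then g i else f i) a (g a) := by
        funext i
        by_cases hia : i = a
        · subst hia
          simp
        · rw [Function.update_of_ne hia]
          simp [Finset.mem_insert, hia]
      rw [this, h, ih]
  have := key Finset.univ
  simp only [Finset.mem_univ, if_true] at this
  exact this.symm

/-- a matrix commuting with all position matrices is a scalar -/
theorem scalar_of_commute_posMat (M : Matrix (Fin k → Fin m) (Fin k → Fin m) F)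
    (h : ∀ i (X : Matrix (Fin m) (Fin m) F), M * posMat i X = posMat i X * M) :
    ∃ c : F, M = c • (1 : Matrix (Fin k → Fin m) (Fin k → Fin m) F) := by
  have hoff : ∀ f g, f ≠ g → M f g = 0 := by
    intro f g hfg
    obtain ⟨i, hi⟩ := Function.ne_iff.mp hfg
    have h1 := congrFun (congrFun (h i (Matrix.single (g i) (g i) (1 : F))) f) g
    rw [mul_posMat_single, posMat_single_mul, if_pos rfl, if_neg hi, Function.update_eq_self] at h1
    exact h1
  have hdiag : ∀ f i a, M (Function.update f i a) (Function.update f i a) = M f f := by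
    intro f i a
    have h1 := congrFun (congrFun (h i (Matrix.single (f i) a (1 : F))) f) (Function.update f i a)
    rw [mul_posMat_single, posMat_single_mul, if_pos rfl, if_pos (Function.update_self _ _ _),
      Function.update_idem, Function.update_eq_self] at h1
    exact h1.symm
  by_cases hne : Nonempty (Fin k → Fin m)
  · obtain ⟨f₀⟩ := hne
    refine ⟨M f₀ f₀, ?_⟩
    ext f g
    by_cases hfg : f = g
    · subst hfg
      rw [Matrix.smul_apply, Matrix.one_apply_eq, smul_eq_mul, mul_one]
      exact const_of_update_invariant (fun f => M f f) hdiag f f₀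
    · rw [hoff f g hfg, Matrix.smul_apply, Matrix.one_apply_ne hfg, smul_zero]
  · refine ⟨0, ?_⟩
    ext f
    exact absurd ⟨f⟩ hne

/-- the matrix permuting the tensor factors -/
def facPerm (m : ℕ) (F : Type*) [Field F] (σ : Equiv.Perm (Fin k)) :
    Matrix (Fin k → Fin m) (Fin k → Fin m) F :=
  fun x y => if y = x ∘ σ then 1 else 0

theorem facPerm_mul_apply (σ : Equiv.Perm (Fin k)) (M : Matrix (Fin k → Fin m) (Fin k → Fin m) F)
    (x y : Fin k → Fin m) : (facPerm m F σ * M) x y = M (x ∘ σ) y := by
  rw [Matrix.mul_apply, Finset.sum_eq_single (x ∘ σ)]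
  · unfold facPerm
    rw [if_pos rfl, one_mul]
  · intro h _ hh
    unfold facPerm
    rw [if_neg hh, zero_mul]
  · intro hh
    exact absurd (Finset.mem_univ _) hh

theorem mul_facPerm_apply (σ : Equiv.Perm (Fin k)) (M : Matrix (Fin k → Fin m) (Fin k → Fin m) F)
    (x y : Fin k → Fin m) : (M * facPerm m F σ) x y = M x (y ∘ σ.symm) := by
  rw [Matrix.mul_apply, Finset.sum_eq_single (y ∘ σ.symm)]
  · unfold facPerm
    rw [if_pos, mul_one]
    funext i
    simp
  · intro h _ hh
    unfold facPerm
    rw [if_neg, mul_zero]
    intro hcon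
    apply hh
    rw [hcon]
    funext i
    simp
  · intro hh
    exact absurd (Finset.mem_univ _) hh

theorem facPerm_mul (σ τ : Equiv.Perm (Fin k)) :
    facPerm m F σ * facPerm m F τ = facPerm m F (σ * τ) := by
  ext x y
  rw [facPerm_mul_apply]
  unfold facPerm
  rfl

theorem facPerm_one : facPerm m F (1 : Equiv.Perm (Fin k)) = 1 := by
  ext x y
  unfold facPerm
  rw [Matrix.one_apply]
  have e : x ∘ ⇑(1 : Equiv.Perm (Fin k)) = x := rfl
  by_cases h : x = y
  · rw [if_pos h, if_pos (by rw [e]; exact h.symm)]
  · rw [if_neg h, if_neg (by rw [e]; exact Ne.symm h)]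

theorem facPerm_conj_ptM (σ : Equiv.Perm (Fin k)) (Xs : Fin k → Matrix (Fin m) (Fin m) F) :
    facPerm m F σ * ptM Xs * facPerm m F σ⁻¹ = ptM (fun i => Xs (σ.symm i)) := by
  ext x y
  rw [mul_facPerm_apply, facPerm_mul_apply, ptM_apply, ptM_apply]
  have : (σ⁻¹).symm = σ := rfl
  rw [this]
  simp only [Function.comp_apply]
  exact Fintype.prod_equiv σ _ _ (fun i => by simp)

theorem facPerm_conj_posMat (σ : Equiv.Perm (Fin k)) (i : Fin k) (X : Matrix (Fin m) (Fin m) F) :
    facPerm m F σ * posMat i X * facPerm m F σ⁻¹ = posMat (σ i) X := by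
  unfold posMat
  rw [facPerm_conj_ptM]
  congr 1
  funext j
  by_cases hj : j = σ i
  · subst hj
    simp
  · rw [Function.update_of_ne hj, Function.update_of_ne]
    intro hcon
    apply hj
    rw [← hcon]
    simp

end Cfsg.Agent.Lib.Helper8.Asch
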