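import Cfsg.Agent.Lib.Helper8.Asch10
import Cfsg.Agent.Lib.Helper8.Asch24

set_option autoImplicit false

/-! Matrix units inside an isotypic subalgebra with scalar commutant-centre. -/

namespace Cfsg.Agent.Lib.Helper8.Asch

open Module
open scoped Kronecker

variable {F : Type*} [Field F] {V : Type*} [AddCommGroup V] [Module F V]

theorem exists_units [Finite F] [FiniteDimensional F V] [Nontrivial V]
    (A : Subalgebra F (Module.End F V)) [IsSemisimpleModule A V] (hiso : IsIsotypic A V)
    (hZ : ∀ z ∈ ZC A, ∃ c : F, z = c • (1 : Module.End F V)) :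
    ∃ (a : ℕ) (e : Fin a → Fin a → Module.End F V), (∀ p q, e p q ∈ A) ∧
      (∀ p q p' q', e p q * e p' q' = if q = p' then e p q' else 0) ∧
      (∑ p, e p p = 1) ∧
      (∀ x ∈ A, ∃ X : Matrix (Fin a) (Fin a) F, x = ∑ p, ∑ q, X p q • e p q) ∧
      finrank F A = a * a := by
  classical
  obtain ⟨a, e', b, hb1, hb2⟩ := tensor_basis A hiso hZ
  have hne : Nonempty (Fin a × Fin e') := b.index_nonempty
  have hne' : Nonempty (Fin e') := ⟨hne.some.2⟩
  have hinj : Function.Injective (LinearMap.toMatrix b b) := (LinearMap.toMatrix b b).injective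
  choose u hu using hb2
  let e : Fin a → Fin a → Module.End F V := fun p q => u (Matrix.single p q (1 : F))
  have heA : ∀ p q, e p q ∈ A := fun p q => (hu _).1
  have heM : ∀ p q, LinearMap.toMatrix b b (e p q) =
      (Matrix.single p q (1 : F)) ⊗ₖ (1 : Matrix (Fin e') (Fin e') F) := fun p q => (hu _).2
  have hsumM : ∀ X : Matrix (Fin a) (Fin a) F,
      LinearMap.toMatrix b b (∑ p, ∑ q, X p q • e p q) = X ⊗ₖ (1 : Matrix (Fin e') (Fin e') F) := by
    intro X
    simp only [map_sum, map_smul, heM]
    ext ⟨i, j⟩ ⟨i', j'⟩
    simp only [Matrix.sum_apply, Matrix.smul_apply, Matrix.kroneckerMap_apply, smul_eq_mul,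
      Matrix.single_apply]
    rw [Finset.sum_eq_single i]
    · rw [Finset.sum_eq_single i']
      · simp
      · intro q _ hq
        simp [hq]
      · simp
    · intro p _ hp
      apply Finset.sum_eq_zero
      intro q _
      simp [hp]
    · simp
  refine ⟨a, e, heA, ?_, ?_, ?_, ?_⟩
  · intro p q p' q'
    apply hinj
    rw [LinearMap.toMatrix_mul, heM, heM, ← Matrix.mul_kronecker_mul, mul_one]
    by_cases hq : q = p'
    · subst hq
      rw [if_pos rfl, heM, Matrix.single_mul_single_same, mul_one]
    · rw [if_neg hq, map_zero, Matrix.single_mul_single_of_ne (1 : F) p q p' hq (1 : F), Matrix.zero_kronecker]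
  · apply hinj
    rw [map_sum, LinearMap.toMatrix_one]
    simp only [heM]
    rw [← Matrix.one_kronecker_one (α := F) (m := Fin a) (n := Fin e')]
    ext ⟨i, j⟩ ⟨i', j'⟩
    simp only [Matrix.sum_apply, Matrix.kroneckerMap_apply, Matrix.single_apply, Matrix.one_apply]
    rw [← Finset.sum_mul]
    congr 1
    by_cases hii : i = i'
    · subst hii
      rw [if_pos rfl, Finset.sum_eq_single i]
      · simp
      · intro p _ hp
        rw [if_neg]
        rintro ⟨h1, _⟩
        exact hp h1
      · intro hh
        exact absurd (Finset.mem_univ _) hh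
    · rw [if_neg hii]
      apply Finset.sum_eq_zero
      intro p _
      rw [if_neg]
      rintro ⟨h1, h2⟩
      exact hii (h1.symm.trans h2)
  · intro x hx
    obtain ⟨X, hX⟩ := hb1 x hx
    refine ⟨X, ?_⟩
    apply hinj
    rw [hX, hsumM]
  · -- the dimension
    let L : Matrix (Fin a) (Fin a) F →ₗ[F] A :=
      { toFun := fun X => ⟨∑ p, ∑ q, X p q • e p q,
          A.sum_mem fun p _ => A.sum_mem fun q _ => A.smul_mem (heA p q) _⟩
        map_add' := by
          intro X Y
          ext1
          simp only [Matrix.add_apply, add_smul, Finset.sum_add_distrib]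
          rfl
        map_smul' := by
          intro c X
          ext1
          simp only [Matrix.smul_apply, smul_eq_mul, mul_smul]
          show _ = c • ∑ p, ∑ q, X p q • e p q
          simp only [Finset.smul_sum] }
    have hLinj : Function.Injective L := by
      intro X Y hXY
      have h1 : (L X : Module.End F V) = (L Y : Module.End F V) := congrArg Subtype.val hXY
      have h2 := congrArg (LinearMap.toMatrix b b) h1
      change LinearMap.toMatrix b b (∑ p, ∑ q, X p q • e p q) =
        LinearMap.toMatrix b b (∑ p, ∑ q, Y p q • e p q) at h2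
      rw [hsumM, hsumM] at h2
      exact kron_one_injective h2
    have hLsurj : Function.Surjective L := by
      intro x
      obtain ⟨X, hX⟩ := hb1 x.1 x.2
      refine ⟨X, ?_⟩
      ext1
      apply hinj
      change LinearMap.toMatrix b b (∑ p, ∑ q, X p q • e p q) = _
      rw [hsumM, hX]
    have := (LinearEquiv.ofBijective L ⟨hLinj, hLsurj⟩).finrank_eq
    rw [← this, Module.finrank_matrix, Module.finrank_self, mul_one, Fintype.card_fin]

end Cfsg.Agent.Lib.Helper8.Asch
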