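import Cfsg.Agent.Lib.Helper8.Asch2

set_option autoImplicit false

/-! Clifford dichotomy: either the restriction is isotypic or the isotypic components form a
decomposition permuted by `H`. -/

namespace Cfsg.Agent.Lib.Helper8.Asch

open Module

variable {F : Type*} [Field F] {V : Type*} [AddCommGroup V] [Module F V]

theorem iSupIndep_restrictScalars {ι : Type*} (A : Subalgebra F (Module.End F V))
    (t : ι → Submodule A V) (ht : iSupIndep t) :
    iSupIndep (fun i => (t i).restrictScalars F) := by
  intro i
  have h := ht i
  rw [disjoint_iff] at h ⊢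
  have h2 : (⨆ j, ⨆ (_ : j ≠ i), (t j).restrictScalars F) =
      (⨆ j, ⨆ (_ : j ≠ i), t j).restrictScalars F := by
    rw [Submodule.restrictScalars_iSup]
    congr 1
    ext j : 1
    rw [Submodule.restrictScalars_iSup]
  rw [h2, ← Submodule.restrictScalars_inf, h, Submodule.restrictScalars_bot]

theorem clifford [FiniteDimensional F V] [Nontrivial V] (H : Subgroup (GLV F V))
    (hirr : Irr H) (A : Subalgebra F (Module.End F V)) (hA : ∀ h ∈ H, Nrm A h) :
    IsIsotypic A V ∨ ∃ (t m : ℕ) (D : Fin t → Submodule F V), 2 ≤ t ∧ 0 < m ∧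
      (∀ i, Module.finrank F (D i) = m) ∧ iSupIndep D ∧ iSup D = ⊤ ∧
      ∀ h ∈ H, ∃ σ : Equiv.Perm (Fin t), ∀ i, (D i).map (h : Module.End F V) = D (σ i) := by
  have ss : IsSemisimpleModule A V := clifford_semisimple H hirr A hA
  have hnoeth : IsNoetherian A V := isNoetherian_of_tower F inferInstance
  have hfin : Finite (isotypicComponents A V) := inferInstance
  have hsup : sSup (isotypicComponents A V) = ⊤ := sSup_isotypicComponents A V
  have hne : (isotypicComponents A V).Nonempty := by
    by_contra hcon
    rw [Set.not_nonempty_iff_eq_empty] at hcon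
    rw [hcon, sSup_empty] at hsup
    exact bot_ne_top hsup
  obtain ⟨c₀, hc₀⟩ := hne
  -- the orbit of c₀
  set O : Set (Submodule A V) :=
    {c | ∃ h, ∃ hh : h ∈ H, c = mapSub A h (Nrm.inv_of_subgroup hA hh) c₀} with hO
  have hOsub : O ⊆ isotypicComponents A V := by
    rintro c ⟨h, hh, rfl⟩
    exact mapSub_mem_isotypicComponents A h _ (hA h hh) c₀ hc₀
  have hc₀O : c₀ ∈ O := ⟨1, H.one_mem, (mapSub_one A _ c₀).symm⟩
  have hOtop : sSup O = ⊤ := by
    have hstab : ∀ h (hh : h ∈ H), mapSub A h (Nrm.inv_of_subgroup hA hh) (sSup O) ≤ sSup O := by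
      intro h hh
      have h1 : mapSub A h (Nrm.inv_of_subgroup hA hh) (sSup O) =
          mapIso A h (Nrm.inv_of_subgroup hA hh) (hA h hh) (sSup O) := rfl
      rw [h1, OrderIso.map_sSup]
      apply iSup₂_le
      rintro c ⟨g, hg, rfl⟩
      apply le_sSup
      refine ⟨h * g, H.mul_mem hh hg, ?_⟩
      exact (mapSub_mul A h g (Nrm.inv_of_subgroup hA hh) (Nrm.inv_of_subgroup hA hg)
        (Nrm.inv_of_subgroup hA (H.mul_mem hh hg)) c₀).symm
    rcases eq_bot_or_top_of_stable H hirr A hA (sSup O) hstab with h | h
    · exfalso
      have h1 : c₀ ≤ sSup O := le_sSup hc₀O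
      rw [h] at h1
      exact (bot_lt_isotypicComponents hc₀).ne' (le_bot_iff.mp h1)
    · exact h
  have hall : ∀ c ∈ isotypicComponents A V, c ∈ O := by
    intro c hc
    by_contra hcO
    have hind := sSupIndep_isotypicComponents A V hc
    have h1 : sSup O ≤ sSup (isotypicComponents A V \ {c}) := by
      apply sSup_le_sSup
      intro d hd
      refine ⟨hOsub hd, ?_⟩
      rintro rfl
      exact hcO hd
    rw [hOtop, top_le_iff] at h1
    rw [h1, disjoint_top] at hind
    exact (bot_lt_isotypicComponents hc).ne' hind
  -- enumerate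
  set t := Nat.card (isotypicComponents A V) with ht
  have e : Fin t ≃ isotypicComponents A V := (Finite.equivFin _).symm
  by_cases ht2 : 2 ≤ t
  · right
    set m := Module.finrank F (c₀.restrictScalars F) with hm
    refine ⟨t, m, fun i => (e i).1.restrictScalars F, ht2, ?_, ?_, ?_, ?_, ?_⟩
    · rw [hm]
      apply Module.finrank_pos_iff.mpr
      have : c₀.restrictScalars F ≠ ⊥ := by
        intro h
        exact (bot_lt_isotypicComponents hc₀).ne'
          ((Submodule.restrictScalars_eq_bot_iff _ _ _).mp h)
      exact Submodule.nontrivial_iff_ne_bot.mpr this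
    · intro i
      obtain ⟨h, hh, hc⟩ := hall (e i).1 (e i).2
      show Module.finrank F ((e i).1.restrictScalars F) = m
      rw [hc, restrictScalars_mapSub, hm]
      have hinj : Function.Injective (h : Module.End F V) := by
        intro x y hxy
        have := congrArg ((h⁻¹ : GLV F V) : Module.End F V) hxy
        rwa [inv_apply_apply, inv_apply_apply] at this
      exact (LinearEquiv.finrank_eq (Submodule.equivMapOfInjective _ hinj _)).symm
    · apply iSupIndep_restrictScalars A (fun i => (e i).1)
      have h1 := (sSupIndep_iff _).mp (sSupIndep_isotypicComponents A V)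
      exact h1.comp e.injective
    · rw [← Submodule.restrictScalars_iSup, Submodule.restrictScalars_eq_top_iff]
      rw [← hsup, sSup_eq_iSup']
      exact e.iSup_comp (g := fun c : isotypicComponents A V => c.1)
    · intro h hh
      let f : isotypicComponents A V → isotypicComponents A V := fun c =>
        ⟨mapSub A h (Nrm.inv_of_subgroup hA hh) c.1,
          mapSub_mem_isotypicComponents A h _ (hA h hh) c.1 c.2⟩
      have hfinj : Function.Injective f := by
        intro c d hcd
        have h1 : mapSub A h (Nrm.inv_of_subgroup hA hh) c.1 =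
            mapSub A h (Nrm.inv_of_subgroup hA hh) d.1 := congrArg Subtype.val hcd
        have h2 := congrArg (mapSub A h⁻¹ (by rw [inv_inv]; exact hA h hh)) h1
        rw [mapSub_inv_mapSub _ (hA h hh), mapSub_inv_mapSub _ (hA h hh)] at h2
        exact Subtype.ext h2
      have hfbij : Function.Bijective f := Finite.injective_iff_bijective.mp hfinj
      refine ⟨(e.trans (Equiv.ofBijective f hfbij)).trans e.symm, fun i => ?_⟩
      simp only [Equiv.trans_apply, Equiv.apply_symm_apply, Equiv.ofBijective_apply]
      rw [← restrictScalars_mapSub]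
  · left
    push Not at ht2
    -- only one component
    have hsingle : ∀ c ∈ isotypicComponents A V, c = c₀ := by
      intro c hc
      by_contra hne
      have : 1 < t := by
        rw [ht]
        apply Finite.one_lt_card_iff_nontrivial.mpr
        exact ⟨⟨⟨c, hc⟩, ⟨c₀, hc₀⟩, fun h => hne (congrArg Subtype.val h)⟩⟩
      omega
    have hset : isotypicComponents A V = {c₀} := by
      ext c
      constructor
      · intro hc
        exact hsingle c hc
      · rintro rfl
        exact hc₀
    rw [hset, sSup_singleton] at hsup
    obtain ⟨S, hS, rfl⟩ := hc₀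
    exact (IsIsotypicOfType.of_isotypicComponent_eq_top hsup).isIsotypic

end Cfsg.Agent.Lib.Helper8.Asch
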