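import Cfsg.Agent.Lib.Helper8.Asch29

set_option autoImplicit false

/-! The tensor factor basis theorem. -/

namespace Cfsg.Agent.Lib.Helper8.Asch

open Module

variable {F : Type*} [Field F] {V : Type*} [AddCommGroup V] [Module F V]
variable {k : ℕ} {P : Fin k → Subgroup (GLV F V)} {N : Subgroup (GLV F V)}

/-- the per-factor data: the algebra of `P i` is isotypic with scalar commutant-centre -/
theorem factor_isotypic [FiniteDimensional F V] [Nontrivial V]
    (hPN : ∀ i, P i ≤ N)
    (hgen : N ≤ Subgroup.closure (⋃ i, (P i : Set (GLV F V))))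
    (hcomm : ∀ i j, i ≠ j → ∀ x ∈ P i, ∀ y ∈ P j, x * y = y * x)
    (hirr : Irr N)
    (hcent : ∀ z : Module.End F V, (∀ g ∈ N, z * (g : Module.End F V) = (g : Module.End F V) * z) →
      ∃ c : F, z = c • (1 : Module.End F V)) (i : Fin k) :
    ∃ _ : IsSemisimpleModule (algOf (P i)) V, IsIsotypic (algOf (P i)) V ∧
      ∀ z ∈ ZC (algOf (P i)), ∃ c : F, z = c • (1 : Module.End F V) := by
  have hNrm := Nrm_algOf_of_gen hgen hcomm i
  have ss : IsSemisimpleModule (algOf (P i)) V := clifford_semisimple N hirr _ hNrm
  refine ⟨ss, ?_, ?_⟩
  · rw [isIsotypic_iff_isFullyInvariant_imp_bot_or_top]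
    intro W hW
    have hstab : ∀ g ∈ N, ∀ w ∈ W, (g : Module.End F V) w ∈ W := by
      apply gen_induction hgen (fun g => ∀ w ∈ W, (g : Module.End F V) w ∈ W)
      · intro j g hg w hw
        by_cases hji : j = i
        · subst hji
          exact W.smul_mem (⟨_, mem_algOf hg⟩ : algOf (P j)) hw
        · -- g is an endomorphism of the module
          have hgC : (g : Module.End F V) ∈ Cmt (algOf (P i)) := by
            rw [mem_Cmt]
            intro a ha
            exact (algOf_commute (hcomm j i hji) _ (mem_algOf hg) a ha).symm
          exact hW (toEndA _ _ hgC) hw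
      · intro w hw
        simpa using hw
      · intro g h hg hh w hw
        rw [Units.val_mul]
        exact hg _ (hh w hw)
    rcases hirr (W.restrictScalars F) hstab with h | h
    · left
      exact (Submodule.restrictScalars_eq_bot_iff _ _ _).mp h
    · right
      exact (Submodule.restrictScalars_eq_top_iff _ _ _).mp h
  · intro z hz
    rw [mem_ZC] at hz
    apply hcent
    apply gen_induction hgen (fun g => z * (g : Module.End F V) = (g : Module.End F V) * z)
    · intro j g hg
      by_cases hji : j = i
      · subst hji
        exact (hz.1 _ (mem_algOf hg)).symm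
      · have hgC : (g : Module.End F V) ∈ Cmt (algOf (P i)) := by
          rw [mem_Cmt]
          intro a ha
          exact (algOf_commute (hcomm j i hji) _ (mem_algOf hg) a ha).symm
        exact (hz.2 _ hgC).symm
    · simp
    · intro g h hg hh
      rw [Units.val_mul, ← mul_assoc, hg, mul_assoc, hh, mul_assoc]

end Cfsg.Agent.Lib.Helper8.Asch
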