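import Cfsg.Agent.Lib.Helper8.Asch3
import Cfsg.Agent.Lib.Helper8.Asch4

set_option autoImplicit false

/-! The centre of the commutant of a normalised subalgebra acting isotypically is a field. -/

namespace Cfsg.Agent.Lib.Helper8.Asch

open Module

variable {F : Type*} [Field F] {V : Type*} [AddCommGroup V] [Module F V]

/-- the commutant of a subalgebra -/
def Cmt (A : Subalgebra F (Module.End F V)) : Subalgebra F (Module.End F V) :=
  Subalgebra.centralizer F (A : Set (Module.End F V))

theorem mem_Cmt {A : Subalgebra F (Module.End F V)} {c : Module.End F V} :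
    c ∈ Cmt A ↔ ∀ a ∈ A, a * c = c * a := Subalgebra.mem_centralizer_iff F

/-- the centre of the commutant -/
def ZC (A : Subalgebra F (Module.End F V)) : Subalgebra F (Module.End F V) :=
  Cmt A ⊓ Cmt (Cmt A)

theorem mem_ZC {A : Subalgebra F (Module.End F V)} {z : Module.End F V} :
    z ∈ ZC A ↔ (∀ a ∈ A, a * z = z * a) ∧ (∀ c ∈ Cmt A, c * z = z * c) := by
  unfold ZC
  rw [Algebra.mem_inf, mem_Cmt, mem_Cmt]

theorem val_inv_mul (g : GLV F V) : ((g⁻¹ : GLV F V) : Module.End F V) * (g : Module.End F V) = 1 := by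
  rw [← Units.val_mul, inv_mul_cancel, Units.val_one]

theorem val_mul_inv (g : GLV F V) : (g : Module.End F V) * ((g⁻¹ : GLV F V) : Module.End F V) = 1 := by
  rw [← Units.val_mul, mul_inv_cancel, Units.val_one]

theorem Nrm_Cmt {A : Subalgebra F (Module.End F V)} {g : GLV F V} (hg' : Nrm A g⁻¹) :
    Nrm (Cmt A) g := by
  intro c hc
  rw [mem_Cmt] at hc ⊢
  intro a ha
  have h1 := hg' a ha
  rw [inv_inv] at h1
  have h2 := hc _ h1
  set gi := ((g⁻¹ : GLV F V) : Module.End F V) with hgi
  set gg := (g : Module.End F V) with hgg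
  have e1 : gi * gg = 1 := val_inv_mul g
  have e2 : gg * gi = 1 := val_mul_inv g
  calc a * (gg * c * gi) = (gg * gi) * a * (gg * c * gi) := by rw [e2, one_mul]
    _ = gg * ((gi * a * gg) * c) * gi := by simp only [mul_assoc]
    _ = gg * (c * (gi * a * gg)) * gi := by rw [h2]
    _ = gg * c * gi * a * (gg * gi) := by simp only [mul_assoc]
    _ = gg * c * gi * a := by rw [e2, mul_one]

theorem Nrm_ZC {A : Subalgebra F (Module.End F V)} {g : GLV F V} (hg : Nrm A g) (hg' : Nrm A g⁻¹) :
    Nrm (ZC A) g := by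
  intro z hz
  have h1 : Nrm (Cmt A) g := Nrm_Cmt hg'
  have h1' : Nrm (Cmt A) g⁻¹ := Nrm_Cmt (by rwa [inv_inv])
  have h2 : Nrm (Cmt (Cmt A)) g := Nrm_Cmt h1'
  unfold ZC at hz ⊢
  rw [Algebra.mem_inf] at hz ⊢
  exact ⟨h1 z hz.1, h2 z hz.2⟩

/-- the kernel of an element commuting with `A`, as an `A`-submodule -/
def kerSub (A : Subalgebra F (Module.End F V)) (z : Module.End F V) (hz : ∀ a ∈ A, a * z = z * a) :
    Submodule A V where
  carrier := {v | z v = 0}
  add_mem' := by
    intro a b ha hb
    simp only [Set.mem_setOf_eq] at ha hb ⊢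
    rw [map_add, ha, hb, add_zero]
  zero_mem' := by simp
  smul_mem' := by
    intro c v hv
    simp only [Set.mem_setOf_eq] at hv ⊢
    have h1 : z (c • v) = (z * c.1) v := rfl
    rw [h1, ← hz c.1 c.2, Module.End.mul_apply, hv, map_zero]

theorem isFld_ZC [FiniteDimensional F V] [Nontrivial V] (A : Subalgebra F (Module.End F V))
    [IsSemisimpleModule A V] (hiso : IsIsotypic A V) : IsFld (ZC A) where
  comm := by
    intro x hx y hy
    rw [mem_ZC] at hx hy
    have hyC : y ∈ Cmt A := mem_Cmt.mpr hy.1
    exact (hx.2 y hyC).symm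
  inv := by
    intro z hz hz0
    have hz' := mem_ZC.mp hz
    have hfi : (kerSub A z hz'.1).IsFullyInvariant := by
      intro f v hv
      show z (f v) = 0
      have hf : f.restrictScalars F ∈ Cmt A := by
        rw [mem_Cmt]
        intro a ha
        ext w
        show a (f w) = f (a w)
        exact (f.map_smul (⟨a, ha⟩ : A) w).symm
      have h1 := hz'.2 _ hf
      have h2 : z (f v) = (z * f.restrictScalars F) v := rfl
      rw [h2, ← h1]
      show f (z v) = 0
      have : z v = 0 := hv
      rw [this, map_zero]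
    rcases (isIsotypic_iff_isFullyInvariant_imp_bot_or_top.mp hiso) _ hfi with h | h
    · have hinj : Function.Injective z := by
        rw [← LinearMap.ker_eq_bot, LinearMap.ker_eq_bot']
        intro v hv
        have : v ∈ kerSub A z hz'.1 := hv
        rw [h] at this
        exact (Submodule.mem_bot A).mp this
      have hsurj : Function.Surjective z := LinearMap.injective_iff_surjective.mp hinj
      let e : V ≃ₗ[F] V := LinearEquiv.ofBijective z ⟨hinj, hsurj⟩
      let y : Module.End F V := e.symm.toLinearMap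
      have hzy : z * y = 1 := by
        ext v
        exact e.apply_symm_apply v
      have hyz : y * z = 1 := by
        ext v
        exact e.symm_apply_apply v
      have key : ∀ w : Module.End F V, w * z = z * w → w * y = y * w := by
        intro w hw
        calc w * y = (y * z) * w * y := by rw [hyz, one_mul]
          _ = y * (z * w) * y := by simp only [mul_assoc]
          _ = y * (w * z) * y := by rw [hw]
          _ = y * w * (z * y) := by simp only [mul_assoc]
          _ = y * w := by rw [hzy, mul_one]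
      refine ⟨y, ?_, hzy⟩
      rw [mem_ZC]
      exact ⟨fun a ha => key a (hz'.1 a ha), fun c hc => key c (hz'.2 c hc)⟩
    · exfalso
      apply hz0
      ext v
      have : v ∈ kerSub A z hz'.1 := by rw [h]; trivial
      exact this

/-- if the centre of the commutant is not `F`, a field of prime degree is normalised -/
theorem class3_of_ZC_ne [Finite F] [FiniteDimensional F V] [Nontrivial V]
    (H : Subgroup (GLV F V)) (A : Subalgebra F (Module.End F V)) (hA : ∀ h ∈ H, Nrm A h)
    [IsSemisimpleModule A V] (hiso : IsIsotypic A V)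
    (hne : ∃ z ∈ ZC A, ∀ c : F, z ≠ c • (1 : Module.End F V)) :
    ∃ (r : ℕ) (K : Subalgebra F (Module.End F V)), r.Prime ∧ IsFld K ∧ finrank F K = r ∧
      ∀ h ∈ H, ∀ x, x ∈ K ↔
        (h : Module.End F V) * x * ((h⁻¹ : GLV F V) : Module.End F V) ∈ K := by
  have hE : IsFld (ZC A) := isFld_ZC A hiso
  have hd1 : finrank F (ZC A) ≠ 1 := by
    intro h1
    rw [Subalgebra.finrank_eq_one_iff] at h1
    obtain ⟨z, hz, hzc⟩ := hne
    rw [h1, Algebra.mem_bot] at hz
    obtain ⟨c, rfl⟩ := hz
    exact hzc c (Algebra.algebraMap_eq_smul_one c)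
  set r := (finrank F (ZC A)).minFac with hr
  have hrp : r.Prime := Nat.minFac_prime hd1
  have hrd : r ∣ finrank F (ZC A) := Nat.minFac_dvd _
  obtain ⟨K, hKE, hKf, hKr, N, hKN⟩ := exists_subfield_of_dvd (ZC A) hE r hrp.pos hrd
  refine ⟨r, K, hrp, hKf, hKr, ?_⟩
  have key : ∀ h ∈ H, ∀ x, x ∈ K →
      (h : Module.End F V) * x * ((h⁻¹ : GLV F V) : Module.End F V) ∈ K := by
    intro h hh x hx
    rw [hKN] at hx ⊢
    refine ⟨Nrm_ZC (hA h hh) (Nrm.inv_of_subgroup hA hh) x hx.1, ?_⟩
    rw [Units.conj_pow, hx.2]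
  intro h hh x
  refine ⟨key h hh x, fun hx => ?_⟩
  have := key h⁻¹ (H.inv_mem hh) _ hx
  rw [inv_inv] at this
  have e : ((h⁻¹ : GLV F V) : Module.End F V) *
      ((h : Module.End F V) * x * ((h⁻¹ : GLV F V) : Module.End F V)) * (h : Module.End F V) = x := by
    calc _ = (((h⁻¹ : GLV F V) : Module.End F V) * (h : Module.End F V)) * x *
        (((h⁻¹ : GLV F V) : Module.End F V) * (h : Module.End F V)) := by simp only [mul_assoc]
      _ = x := by rw [val_inv_mul, one_mul, mul_one]
  rwa [e] at this

end Cfsg.Agent.Lib.Helper8.Asch
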