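import Cfsg.Agent.Lib.Helper8.Asch5
import Cfsg.Agent.Lib.Helper8.Asch6

set_option autoImplicit false

/-! From "the centre of the commutant is `F`" to "endomorphisms of the simple constituent are
scalars". -/

namespace Cfsg.Agent.Lib.Helper8.Asch

open Module

variable {F : Type*} [Field F] {V : Type*} [AddCommGroup V] [Module F V]

/-- an element of the commutant as an `A`-linear map -/
def toEndA (A : Subalgebra F (Module.End F V)) (c : Module.End F V) (hc : c ∈ Cmt A) :
    Module.End A V where
  toFun := c
  map_add' := c.map_add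
  map_smul' := by
    intro a v
    have h := mem_Cmt.mp hc a.1 a.2
    show c (a.1 v) = a.1 (c v)
    have h2 : (c * a.1) v = (a.1 * c) v := by rw [h]
    exact h2

theorem toEndA_apply (A : Subalgebra F (Module.End F V)) (c : Module.End F V) (hc : c ∈ Cmt A)
    (v : V) : toEndA A c hc v = c v := rfl

theorem restrictScalars_mem_Cmt (A : Subalgebra F (Module.End F V)) (f : Module.End A V) :
    f.restrictScalars F ∈ Cmt A := by
  rw [mem_Cmt]
  intro a ha
  ext w
  show a (f w) = f (a w)
  exact (f.map_smul (⟨a, ha⟩ : A) w).symm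

/-- endomorphisms of a simple module over a finite ring commute -/
theorem end_simple_comm {R : Type*} [Ring R] {S : Type*} [AddCommGroup S] [Module R S]
    [IsSimpleModule R S] [Finite S] (x y : Module.End R S) : x * y = y * x := by
  classical
  have : Finite (Module.End R S) := Finite.of_injective (fun f : Module.End R S => (f : S → S))
    DFunLike.coe_injective
  letI := Module.End.instDivisionRing (R := R) (M := S)
  exact (Finite.isDomain_to_isField (Module.End R S)).mul_comm x y

theorem end_simple_scalar [Finite F] [FiniteDimensional F V] [Nontrivial V]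
    (A : Subalgebra F (Module.End F V)) (hZ : ∀ z ∈ ZC A, ∃ c : F, z = c • (1 : Module.End F V))
    (S : Submodule A V) [IsSimpleModule A S] (e : ℕ) (he : 0 < e) (ψ : V ≃ₗ[A] (Fin e → S))
    (δ : Module.End A S) : ∃ c : F, ∀ s : S, δ s = c • s := by
  classical
  have hfinV : Finite V := Module.finite_of_finite F
  have hfinS : Finite S := Finite.of_injective (fun s : S => (s : V)) Subtype.val_injective
  -- the diagonal endomorphism
  let Δ : Module.End A (Fin e → S) := δ.compLeft (Fin e)
  have hΔ : endVecRingEquivMatrixEnd (Fin e) A S Δ = Matrix.scalar (Fin e) δ := by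
    refine Matrix.ext fun i j => LinearMap.ext fun x => ?_
    rw [Matrix.scalar_apply, Matrix.diagonal_apply]
    show δ ((Pi.single j x : Fin e → S) i) = _
    by_cases hij : i = j
    · subst hij
      simp
    · rw [if_neg hij, Pi.single_apply, if_neg hij]
      simp
  have hcomm : ∀ g : Module.End A (Fin e → S), Δ * g = g * Δ := by
    intro g
    apply (endVecRingEquivMatrixEnd (Fin e) A S).injective
    rw [map_mul, map_mul, hΔ]
    have hδ : ∀ r' : Module.End A S, Commute δ r' := by
      intro r'
      rw [commute_iff_eq]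
      exact end_simple_comm (R := A) (S := S) δ r'
    exact (Matrix.scalar_commute δ hδ _).eq
  -- transport to V
  let Z : Module.End A V := ψ.symm.conjRingEquiv Δ
  have hZC : Z.restrictScalars F ∈ ZC A := by
    rw [mem_ZC]
    refine ⟨mem_Cmt.mp (restrictScalars_mem_Cmt A Z), ?_⟩
    intro c hc
    have h1 : Δ * ψ.conjRingEquiv (toEndA A c hc) = ψ.conjRingEquiv (toEndA A c hc) * Δ :=
      hcomm _
    ext v
    show c (ψ.symm (Δ (ψ v))) = ψ.symm (Δ (ψ (c v)))
    have h2 := congrArg (fun g : Module.End A (Fin e → S) => ψ.symm (g (ψ v))) h1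
    have h3 : ∀ w, (ψ.conjRingEquiv (toEndA A c hc)) w = ψ (c (ψ.symm w)) := fun w => rfl
    simp only [Module.End.mul_apply, h3, LinearEquiv.symm_apply_apply] at h2
    exact h2.symm
  obtain ⟨c, hc⟩ := hZ _ hZC
  refine ⟨c, fun s => ?_⟩
  have h1 : Z (ψ.symm (Pi.single ⟨0, he⟩ s)) = c • ψ.symm (Pi.single ⟨0, he⟩ s) := by
    have := LinearMap.congr_fun hc (ψ.symm (Pi.single ⟨0, he⟩ s))
    exact this
  have h2 : Z (ψ.symm (Pi.single ⟨0, he⟩ s)) = ψ.symm (Δ (Pi.single ⟨0, he⟩ s)) := by
    show ψ.symm (Δ (ψ (ψ.symm _))) = _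
    rw [LinearEquiv.apply_symm_apply]
  rw [h2] at h1
  have h3 : Δ (Pi.single ⟨0, he⟩ s) = c • (Pi.single ⟨0, he⟩ s : Fin e → S) := by
    apply ψ.symm.injective
    rw [h1]
    exact ((ψ.symm.restrictScalars F).map_smul c _).symm
  have h4 := congrFun h3 ⟨0, he⟩
  simpa [Δ] using h4

end Cfsg.Agent.Lib.Helper8.Asch
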