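import Cfsg.Agent.Lib.Helper8.Asch7

set_option autoImplicit false

/-! The tensor basis: an isotypic subalgebra with scalar commutant-centre is `M_a(F) ⊗ 1` in a
suitable basis. -/

namespace Cfsg.Agent.Lib.Helper8.Asch

open Module
open scoped Kronecker

variable {F : Type*} [Field F] {V : Type*} [AddCommGroup V] [Module F V]

theorem tensor_basis [Finite F] [FiniteDimensional F V] [Nontrivial V]
    (A : Subalgebra F (Module.End F V)) [IsSemisimpleModule A V] (hiso : IsIsotypic A V)
    (hZ : ∀ z ∈ ZC A, ∃ c : F, z = c • (1 : Module.End F V)) :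
    ∃ (a e : ℕ) (b : Basis (Fin a × Fin e) F V),
      (∀ x ∈ A, ∃ X : Matrix (Fin a) (Fin a) F,
        LinearMap.toMatrix b b x = X ⊗ₖ (1 : Matrix (Fin e) (Fin e) F)) ∧
      (∀ X : Matrix (Fin a) (Fin a) F, ∃ x ∈ A,
        LinearMap.toMatrix b b x = X ⊗ₖ (1 : Matrix (Fin e) (Fin e) F)) := by
  classical
  have hfinAV : Module.Finite A V := Module.Finite.of_restrictScalars_finite F A V
  obtain ⟨e, he, S, hS, ⟨ψ⟩⟩ := hiso.linearEquiv_fun
  have hD := end_simple_scalar A hZ S e (NeZero.pos e) ψ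
  have hfdS : FiniteDimensional F S :=
    Module.Finite.of_injective ((S.subtype).restrictScalars F) Subtype.val_injective
  have hfree : Module.Free F S := Module.Free.of_divisionRing F S
  have hburn := burnside (F := F) (R := A) (S := S) hD
  set a := finrank F S with ha
  let s : Basis (Fin a) F S := Module.finBasis F S
  let ψF : V ≃ₗ[F] (Fin e → S) := ψ.restrictScalars F
  let b0 : Basis ((_ : Fin e) × Fin a) F (Fin e → S) := Pi.basis (fun _ => s)
  let eqv : ((_ : Fin e) × Fin a) ≃ Fin a × Fin e :=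
    (Equiv.sigmaEquivProd (Fin e) (Fin a)).trans (Equiv.prodComm _ _)
  let b : Basis (Fin a × Fin e) F V := (b0.reindex eqv).map ψF.symm
  have hb_apply : ∀ i j, ψ (b (i, j)) = Pi.single j (s i) := by
    intro i j
    show ψ (ψF.symm ((b0.reindex eqv) (i, j))) = _
    have h1 : ψ (ψF.symm ((b0.reindex eqv) (i, j))) = (b0.reindex eqv) (i, j) :=
      ψ.apply_symm_apply _
    rw [h1, Basis.reindex_apply]
    show b0 ⟨j, i⟩ = _
    rw [Pi.basis_apply]
  have hb_repr : ∀ v i j, b.repr v (i, j) = s.repr (ψ v j) i := by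
    intro v i j
    show (b0.reindex eqv).repr (ψF.symm.symm v) (i, j) = _
    rw [Basis.repr_reindex_apply]
    show b0.repr (ψ v) ⟨j, i⟩ = _
    rw [Pi.basis_repr]
  -- the action of an element of A on S
  let ρ : A → Module.End F S := fun xa => DistribSMul.toLinearMap F S xa
  have key : ∀ xa : A, LinearMap.toMatrix b b xa.1 =
      (LinearMap.toMatrix s s (ρ xa)) ⊗ₖ (1 : Matrix (Fin e) (Fin e) F) := by
    intro xa
    ext ⟨k, l⟩ ⟨i, j⟩
    rw [LinearMap.toMatrix_apply, hb_repr, Matrix.kroneckerMap_apply, LinearMap.toMatrix_apply,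
      Matrix.one_apply]
    have h1 : ψ (xa.1 (b (i, j))) = xa • ψ (b (i, j)) := ψ.map_smul xa (b (i, j))
    rw [h1, hb_apply]
    by_cases hlj : l = j
    · subst hlj
      rw [if_pos rfl, mul_one]
      show s.repr ((xa • (Pi.single l (s i) : Fin e → S)) l) k = _
      rw [Pi.smul_apply, Pi.single_eq_same]
      rfl
    · rw [if_neg hlj, mul_zero]
      show s.repr ((xa • (Pi.single j (s i) : Fin e → S)) l) k = _
      rw [Pi.smul_apply, Pi.single_eq_of_ne hlj, smul_zero, map_zero]
      rfl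
  refine ⟨a, e, b, ?_, ?_⟩
  · intro x hx
    exact ⟨_, key ⟨x, hx⟩⟩
  · intro X
    obtain ⟨xa, hxa⟩ := hburn (Matrix.toLin s s X)
    refine ⟨xa.1, xa.2, ?_⟩
    rw [key xa]
    congr 1
    have : ρ xa = Matrix.toLin s s X := by
      ext t
      exact congrArg Subtype.val (hxa t)
    rw [this, LinearMap.toMatrix_toLin]

end Cfsg.Agent.Lib.Helper8.Asch
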