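import Cfsg.Agent.Lib.Helper8.Asch10
import Cfsg.Prelude.Def_GeometricClasses

set_option autoImplicit false

/-! Bridge between matrix groups and groups of units of `End (ι → F)`; basis change in the form
used by the frozen classes. -/

namespace Cfsg.Agent.Lib.Helper8.Asch

open Module Matrix
open Cfsg.Geo

variable {ι : Type} [Fintype ι] [DecidableEq ι] {F : Type*} [Field F]

/-- an invertible matrix as a unit of the endomorphism algebra of `ι → F` -/
noncomputable def toV : GL ι F →* GLV F (ι → F) :=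
  Units.map ((Matrix.toLinAlgEquiv' : Matrix ι ι F ≃ₐ[F] Module.End F (ι → F)) : Matrix ι ι F →* _)

theorem toV_val (g : GL ι F) :
    ((toV g : GLV F (ι → F)) : Module.End F (ι → F)) = Matrix.toLin' (g : Matrix ι ι F) := rfl

theorem toV_apply (g : GL ι F) (v : ι → F) :
    ((toV g : GLV F (ι → F)) : Module.End F (ι → F)) v = (g : Matrix ι ι F) *ᵥ v := by
  rw [toV_val, Matrix.toLin'_apply]

theorem toV_injective : Function.Injective (toV : GL ι F → GLV F (ι → F)) := by
  intro g h hgh
  apply Units.ext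
  have := congrArg (fun u : GLV F (ι → F) => (u : Module.End F (ι → F))) hgh
  simp only [toV_val] at this
  exact Matrix.toLin'.injective this

/-- the image of a matrix group -/
noncomputable def HV (H : Subgroup (GL ι F)) : Subgroup (GLV F (ι → F)) := H.map toV

theorem mem_HV {H : Subgroup (GL ι F)} {g : GL ι F} (hg : g ∈ H) : toV g ∈ HV H :=
  Subgroup.mem_map_of_mem _ hg

theorem exists_of_mem_HV {H : Subgroup (GL ι F)} {u : GLV F (ι → F)} (hu : u ∈ HV H) :
    ∃ g ∈ H, toV g = u := Subgroup.mem_map.mp hu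

/-- the matrix of `toLin' M` in a basis `b` -/
theorem toMatrix_toLin' {κ : Type} [Fintype κ] [DecidableEq κ] (b : Basis κ F (ι → F))
    (M : Matrix ι ι F) :
    LinearMap.toMatrix b b (Matrix.toLin' M) =
      b.toMatrix (Pi.basisFun F ι) * M * (Pi.basisFun F ι).toMatrix b := by
  rw [← basis_toMatrix_mul_linearMap_toMatrix_mul_basis_toMatrix b (Pi.basisFun F ι) b
    (Pi.basisFun F ι), LinearMap.toMatrix_eq_toMatrix', LinearMap.toMatrix'_toLin']

/-- basis change, in the form used by the frozen classes -/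
theorem mem_conj_reindex {κ : Type} [Fintype κ] [DecidableEq κ] (S : Subgroup (GL κ F))
    (b : Basis κ F (ι → F)) (e : ι ≃ κ) :
    ∃ P : GL ι F, ∀ h : GL ι F,
      (∃ s ∈ S, LinearMap.toMatrix b b (Matrix.toLin' (h : Matrix ι ι F)) = (s : Matrix κ κ F)) →
      h ∈ (S.map (glReindex e.symm).toMonoidHom).map (MulAut.conj P).toMonoidHom := by
  set Q : Matrix κ ι F := b.toMatrix (Pi.basisFun F ι) with hQ
  set Q' : Matrix ι κ F := (Pi.basisFun F ι).toMatrix b with hQ'
  have q1 : Q * Q' = 1 := Basis.toMatrix_mul_toMatrix_flip _ _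
  have q2 : Q' * Q = 1 := Basis.toMatrix_mul_toMatrix_flip _ _
  let Pm : Matrix ι ι F := Q'.submatrix id e
  let Pi' : Matrix ι ι F := Q.submatrix e id
  have p1 : Pm * Pi' = 1 := by
    show Q'.submatrix id e * Q.submatrix e id = 1
    rw [Matrix.submatrix_mul_equiv, q2, Matrix.submatrix_id_id]
  have p2 : Pi' * Pm = 1 := by
    show Q.submatrix e id * Q'.submatrix id e = 1
    have : Q.submatrix e id * Q'.submatrix id e = (Q * Q').submatrix e e := by
      rw [Matrix.submatrix_mul Q Q' e id e Function.bijective_id]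
    rw [this, q1, Matrix.submatrix_one_equiv]
  refine ⟨⟨Pm, Pi', p1, p2⟩, ?_⟩
  rintro h ⟨s, hs, hsM⟩
  rw [toMatrix_toLin'] at hsM
  rw [Subgroup.mem_map]
  refine ⟨glReindex e.symm s, Subgroup.mem_map_of_mem _ hs, ?_⟩
  apply Units.ext
  simp only [MulEquiv.toMonoidHom_eq_coe, MonoidHom.coe_coe, MulAut.conj_apply, Units.val_mul]
  show Pm * (Matrix.reindexAlgEquiv F F e.symm (s : Matrix κ κ F)) * Pi' = (h : Matrix ι ι F)
  have hre : Matrix.reindexAlgEquiv F F e.symm (s : Matrix κ κ F) = (s : Matrix κ κ F).submatrix e e :=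
    rfl
  rw [hre, ← hsM]
  have h1 : Pm * (Q * (h : Matrix ι ι F) * Q').submatrix e e * Pi' =
      (Q' * (Q * (h : Matrix ι ι F) * Q') * Q).submatrix id id := by
    show Q'.submatrix id e * (Q * (h : Matrix ι ι F) * Q').submatrix e e * Q.submatrix e id = _
    rw [Matrix.submatrix_mul_equiv, Matrix.submatrix_mul_equiv]
  rw [h1, Matrix.submatrix_id_id]
  calc Q' * (Q * (h : Matrix ι ι F) * Q') * Q = (Q' * Q) * (h : Matrix ι ι F) * (Q' * Q) := by
        simp only [Matrix.mul_assoc]
    _ = (h : Matrix ι ι F) := by rw [q2, one_mul, mul_one]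

end Cfsg.Agent.Lib.Helper8.Asch
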