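import Cfsg.Agent.Lib.Helper8.Asch19

set_option autoImplicit false

/-! The form of the matrix algebra over a subfield spanned by a group that is abelian modulo
scalars in the subfield. -/

namespace Cfsg.Agent.Lib.Helper8.Asch

open Matrix Module

variable {ι : Type*} [Fintype ι] [DecidableEq ι] {F : Type*} [Field F] [Nonempty ι]
  {N : Subgroup (GL ι F)}

theorem subfield_smul_def (F₁ : Subfield F) (c : F₁) (M : Matrix ι ι F) :
    c • M = (c : F) • M := rfl

/-- matrices whose coordinates in the basis of coset representatives lie in the subfield -/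
def Lsub (hN : Cl2 N) (F₁ : Subfield F) : Submodule F₁ (Matrix ι ι F) where
  carrier := {M | ∀ q, (repBasis hN).repr M q ∈ F₁}
  add_mem' := by
    intro a b ha hb q
    rw [map_add, Finsupp.add_apply]
    exact F₁.add_mem (ha q) (hb q)
  zero_mem' := by
    intro q
    rw [map_zero, Finsupp.zero_apply]
    exact F₁.zero_mem
  smul_mem' := by
    intro c M hM q
    rw [subfield_smul_def, map_smul, Finsupp.smul_apply, smul_eq_mul]
    exact F₁.mul_mem c.2 (hM q)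

theorem mem_Lsub (hN : Cl2 N) (F₁ : Subfield F) {M : Matrix ι ι F} :
    M ∈ Lsub hN F₁ ↔ ∀ q, (repBasis hN).repr M q ∈ F₁ := Iff.rfl

theorem smul_mem_Lsub (hN : Cl2 N) (F₁ : Subfield F) {c : F} (hc : c ∈ F₁) {M : Matrix ι ι F}
    (hM : M ∈ Lsub hN F₁) : c • M ∈ Lsub hN F₁ :=
  (Lsub hN F₁).smul_mem ⟨c, hc⟩ hM

theorem repMat_mem_Lsub (hN : Cl2 N) (F₁ : Subfield F) (q : N ⧸ Ksub N) :
    repMat N q ∈ Lsub hN F₁ := by
  classical
  intro q'
  rw [← repBasis_apply hN, Basis.repr_self, Finsupp.single_apply]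
  split_ifs
  · exact F₁.one_mem
  · exact F₁.zero_mem

theorem mem_Lsub_of_mem (hN : Cl2 N) (F₁ : Subfield F)
    (hF₁ : ∀ k ∈ N, k ∈ Zs ι F → sv k ∈ F₁) {x : GL ι F} (hx : x ∈ N) :
    (x : Matrix ι ι F) ∈ Lsub hN F₁ := by
  set q : N ⧸ Ksub N := QuotientGroup.mk ⟨x, hx⟩ with hq
  set k : GL ι F := ((cosetRep N q : N) : GL ι F)⁻¹ * x with hk
  have hkZ : k ∈ Zs ι F := cosetRep_spec N ⟨x, hx⟩
  have hkN : k ∈ N := N.mul_mem (N.inv_mem (cosetRep N q).2) hx
  have hxk : x = ((cosetRep N q : N) : GL ι F) * k := by rw [hk]; group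
  have : (x : Matrix ι ι F) = sv k • repMat N q := by
    conv_lhs => rw [hxk]
    rw [Units.val_mul, val_eq_sv_smul hkZ, Matrix.mul_smul, Matrix.mul_one]
    rfl
  rw [this]
  exact smul_mem_Lsub hN F₁ (hF₁ k hkN hkZ) (repMat_mem_Lsub hN F₁ q)

theorem mul_mem_Lsub (hN : Cl2 N) (F₁ : Subfield F)
    (hF₁ : ∀ k ∈ N, k ∈ Zs ι F → sv k ∈ F₁) {M M' : Matrix ι ι F}
    (hM : M ∈ Lsub hN F₁) (hM' : M' ∈ Lsub hN F₁) : M * M' ∈ Lsub hN F₁ := by
  haveI : Finite N := hN.fin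
  haveI : Fintype (N ⧸ Ksub N) := Fintype.ofFinite _
  have e1 := (repBasis hN).sum_repr M
  have e2 := (repBasis hN).sum_repr M'
  rw [← e1, ← e2, Finset.sum_mul]
  refine Submodule.sum_mem _ fun q _ => ?_
  rw [Finset.mul_sum]
  refine Submodule.sum_mem _ fun q' _ => ?_
  rw [Matrix.smul_mul, Matrix.mul_smul, smul_smul]
  refine smul_mem_Lsub hN F₁ (F₁.mul_mem (hM q) (hM' q')) ?_
  rw [repBasis_apply, repBasis_apply]
  have : repMat N q * repMat N q' =
      (((cosetRep N q * cosetRep N q' : N) : GL ι F) : Matrix ι ι F) := by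
    unfold repMat
    rw [Subgroup.coe_mul, Units.val_mul]
  rw [this]
  exact mem_Lsub_of_mem hN F₁ hF₁ (cosetRep N q * cosetRep N q').2

theorem one_mem_Lsub (hN : Cl2 N) (F₁ : Subfield F)
    (hF₁ : ∀ k ∈ N, k ∈ Zs ι F → sv k ∈ F₁) : (1 : Matrix ι ι F) ∈ Lsub hN F₁ := by
  have := mem_Lsub_of_mem hN F₁ hF₁ N.one_mem
  rwa [Units.val_one] at this

/-- the algebra over the subfield -/
def LAlg (hN : Cl2 N) (F₁ : Subfield F) (hF₁ : ∀ k ∈ N, k ∈ Zs ι F → sv k ∈ F₁) :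
    Subalgebra F₁ (Matrix ι ι F) :=
  (Lsub hN F₁).toSubalgebra (one_mem_Lsub hN F₁ hF₁)
    (fun _ _ hx hy => mul_mem_Lsub hN F₁ hF₁ hx hy)

theorem mem_LAlg (hN : Cl2 N) (F₁ : Subfield F) (hF₁ : ∀ k ∈ N, k ∈ Zs ι F → sv k ∈ F₁)
    {M : Matrix ι ι F} : M ∈ LAlg hN F₁ hF₁ ↔ M ∈ Lsub hN F₁ := Iff.rfl

/-- coordinates -/
noncomputable def LsubEquiv (hN : Cl2 N) (F₁ : Subfield F) [Fintype (N ⧸ Ksub N)] :
    Lsub hN F₁ ≃ₗ[F₁] ((N ⧸ Ksub N) → F₁) where
  toFun M := fun q => ⟨(repBasis hN).repr M.1 q, M.2 q⟩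
  map_add' := by
    intro a b
    funext q
    apply Subtype.ext
    simp
  map_smul' := by
    intro c a
    funext q
    apply Subtype.ext
    simp [subfield_smul_def]
  invFun c := ⟨∑ q, (c q : F) • repBasis hN q, by
    intro q'
    rw [Basis.repr_sum_self]
    exact (c q').2⟩
  left_inv := by
    intro M
    apply Subtype.ext
    simp only
    exact (repBasis hN).sum_repr M.1
  right_inv := by
    intro c
    funext q
    apply Subtype.ext
    simp only
    rw [Basis.repr_sum_self]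

theorem finrank_Lsub (hN : Cl2 N) (F₁ : Subfield F) :
    finrank F₁ (Lsub hN F₁) = Fintype.card ι ^ 2 := by
  haveI : Finite N := hN.fin
  haveI : Fintype (N ⧸ Ksub N) := Fintype.ofFinite _
  rw [(LsubEquiv hN F₁).finrank_eq, Module.finrank_fintype_fun_eq_card, ← card_quot hN,
    Nat.card_eq_fintype_card]

end Cfsg.Agent.Lib.Helper8.Asch
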