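import Cfsg.Agent.Lib.Helper8.BConjA

set_option autoImplicit false

/-! Minimal supplements of a normal subgroup under an abelian subgroup of the quotient. -/

namespace Cfsg.Agent.Lib.Helper8.BConj

section Supp
variable {G : Type*} [Group G] [Finite G] (M : Subgroup G) [M.Normal]
  (Abar : Subgroup (G ⧸ M)) (hA : IsMulCommutative ↥Abar)
  (X : Subgroup G) (hX : X.map (QuotientGroup.mk' M) = Abar)
  (hXmin : ∀ K : Subgroup G, K.map (QuotientGroup.mk' M) = Abar → Nat.card X ≤ Nat.card K)

/-- the part of the supplement inside `M` -/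
def NX : Subgroup ↥X := M.subgroupOf X

/-- the map from the supplement to the quotient -/
def fX : ↥X →* G ⧸ M := (QuotientGroup.mk' M).comp X.subtype

omit [Finite G] in
theorem ker_fX : (fX M X).ker = NX M X := by
  ext x
  rw [MonoidHom.mem_ker, fX, MonoidHom.comp_apply, QuotientGroup.mk'_apply,
    QuotientGroup.eq_one_iff]
  rfl

omit [Finite G] in
include hX in
theorem range_fX : (fX M X).range = Abar := by
  rw [fX, MonoidHom.range_comp, Subgroup.range_subtype, hX]

omit [Finite G] in
include hX in
theorem card_X : Nat.card ↥X = Nat.card (NX M X) * Nat.card ↥Abar := by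
  have h1 := Subgroup.card_eq_card_quotient_mul_card_subgroup (fX M X).ker
  rw [Nat.card_congr (QuotientGroup.quotientKerEquivRange (fX M X)).toEquiv, range_fX M Abar X hX,
    ker_fX] at h1
  rw [h1, mul_comm]

omit [Finite G] in
include hX hA in
theorem comm_mem_NX (x y : ↥X) : x * y * x⁻¹ * y⁻¹ ∈ NX M X := by
  rw [← ker_fX, MonoidHom.mem_ker]
  have hx : fX M X x ∈ Abar := by rw [← range_fX M Abar X hX]; exact ⟨x, rfl⟩
  have hy : fX M X y ∈ Abar := by rw [← range_fX M Abar X hX]; exact ⟨y, rfl⟩
  have hc : fX M X x * fX M X y = fX M X y * fX M X x := by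
    have := hA.1.comm ⟨_, hx⟩ ⟨_, hy⟩
    exact congrArg Subtype.val this
  rw [map_mul, map_mul, map_mul, map_inv, map_inv, hc]
  group

include hX hXmin in
theorem min_NX (K : Subgroup ↥X) (hK : K ⊔ NX M X = ⊤) : K = ⊤ := by
  have h1 : (K.map X.subtype).map (QuotientGroup.mk' M) = Abar := by
    have e : X = K.map X.subtype ⊔ (NX M X).map X.subtype := by
      rw [← Subgroup.map_sup, hK, ← MonoidHom.range_eq_map, Subgroup.range_subtype]
    have e2 : ((NX M X).map X.subtype).map (QuotientGroup.mk' M) = ⊥ := by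
      rw [eq_bot_iff]
      rintro _ ⟨_, ⟨n, hn, rfl⟩, rfl⟩
      rw [Subgroup.mem_bot, QuotientGroup.mk'_apply, QuotientGroup.eq_one_iff]
      exact hn
    have e3 := hX
    rw [e, Subgroup.map_sup, e2, sup_bot_eq] at e3
    exact e3
  have h2 := hXmin _ h1
  have h3 : Nat.card (K.map X.subtype) = Nat.card K :=
    Nat.card_congr (K.equivMapOfInjective _ (Subgroup.subtype_injective _)).symm.toEquiv
  rw [h3] at h2
  exact (Subgroup.card_eq_iff_eq_top K).1 (le_antisymm (Subgroup.card_le_card_group K) h2)

end Supp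

end Cfsg.Agent.Lib.Helper8.BConj
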