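import Cfsg.Agent.Lib.Helper8.BConjB

set_option autoImplicit false

/-! Minimal supplements: the Sylow subgroups. -/

namespace Cfsg.Agent.Lib.Helper8.BConj

/-- a finite group with normal abelian Sylow subgroups is abelian -/
theorem comm_of_sylow {H : Type*} [Group H] [Finite H]
    (hn : ∀ (p : ℕ) [Fact p.Prime] (P : Sylow p H), (P : Subgroup H).Normal)
    (hc : ∀ (p : ℕ) [Fact p.Prime] (P : Sylow p H), ∀ a ∈ (P : Subgroup H), ∀ b ∈ (P : Subgroup H),
      a * b = b * a) : ∀ x y : H, x * y = y * x := by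
  let e := Sylow.directProductOfNormal (G := H) (fun {p} _ P => hn p P)
  intro x y
  obtain ⟨a, rfl⟩ := e.surjective x
  obtain ⟨b, rfl⟩ := e.surjective y
  rw [← map_mul, ← map_mul]
  congr 1
  funext p P
  have : Fact (p : ℕ).Prime := ⟨Nat.prime_of_mem_primeFactors p.2⟩
  apply Subtype.ext
  exact hc p P _ (a p P).2 _ (b p P).2

section Supp
variable {G : Type*} [Group G] [Finite G] (M : Subgroup G) [M.Normal]
  (Abar : Subgroup (G ⧸ M)) (hA : IsMulCommutative ↥Abar)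
  (X : Subgroup G) (hX : X.map (QuotientGroup.mk' M) = Abar)
  (hXmin : ∀ K : Subgroup G, K.map (QuotientGroup.mk' M) = Abar → Nat.card X ≤ Nat.card K)
  (hD : ∀ r : ℕ, r.Prime → r ∣ Nat.card M →
    (∀ R : Sylow r G, IsCyclic ↥R) ∨ (∀ x : G, (∃ k, x ^ (r ^ k) = 1) → x ∈ M))
include hA hX hXmin

theorem sylowX_normal (r : ℕ) [Fact r.Prime] (Q : Sylow r ↥X) : (Q : Subgroup ↥X).Normal :=
  sylow_normal (NX M X) (comm_mem_NX M Abar hA X hX) (min_NX M Abar X hX hXmin) r Q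

theorem sylowX_eq_bot (r : ℕ) [Fact r.Prime] (Q : Sylow r ↥X) (h : (Q : Subgroup ↥X) ≤ NX M X) :
    (Q : Subgroup ↥X) = ⊥ :=
  sylow_eq_bot_of_le (NX M X) (comm_mem_NX M Abar hA X hX) (min_NX M Abar X hX hXmin) r Q h

include hD

omit [Finite G] hA hX hXmin in
theorem cyclic_of_not_le (r : ℕ) [hr : Fact r.Prime] (hrM : r ∣ Nat.card M) (Q : Sylow r ↥X)
    (hne : ¬ (Q : Subgroup ↥X) ≤ NX M X) : ∀ R : Sylow r G, IsCyclic ↥R := by
  rcases hD r hr.out hrM with h | h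
  · exact h
  exfalso
  apply hne
  intro q hq
  show (q : G) ∈ M
  apply h
  obtain ⟨k, hk⟩ := (IsPGroup.iff_orderOf.1 Q.isPGroup') ⟨q, hq⟩
  refine ⟨k, ?_⟩
  have h1 : orderOf q = r ^ k := by
    rw [← hk]
    exact Subgroup.orderOf_coe (⟨q, hq⟩ : ↥(Q : Subgroup ↥X))
  have h2 : q ^ (r ^ k) = 1 := by rw [← h1]; exact pow_orderOf_eq_one q
  have := congrArg Subtype.val h2
  rwa [Subgroup.coe_pow] at this

theorem sylowX_comm (r : ℕ) [hr : Fact r.Prime] (Q : Sylow r ↥X) :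
    ∀ a ∈ (Q : Subgroup ↥X), ∀ b ∈ (Q : Subgroup ↥X), a * b = b * a := by
  intro a ha b hb
  by_cases hrM : r ∣ Nat.card M
  · by_cases hle : (Q : Subgroup ↥X) ≤ NX M X
    · have hbot := sylowX_eq_bot M Abar hA X hX hXmin r Q hle
      rw [hbot, Subgroup.mem_bot] at ha hb
      rw [ha, hb]
    · have hcyc := cyclic_of_not_le M X hD r hrM Q hle
      have hp : IsPGroup r ((Q : Subgroup ↥X).map X.subtype) := Q.isPGroup'.map _
      obtain ⟨R, hR⟩ := hp.exists_le_sylow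
      have := hcyc R
      have haR : (a : G) ∈ R := hR ⟨a, ha, rfl⟩
      have hbR : (b : G) ∈ R := hR ⟨b, hb, rfl⟩
      have hc := (IsCyclic.commGroup (α := ↥R)).mul_comm ⟨_, haR⟩ ⟨_, hbR⟩
      apply Subtype.ext
      have hc' := congrArg Subtype.val hc
      exact hc'
  · have hc : a * b * a⁻¹ * b⁻¹ ∈ (Q : Subgroup ↥X) :=
      Subgroup.mul_mem _ (Subgroup.mul_mem _ (Subgroup.mul_mem _ ha hb) (Subgroup.inv_mem _ ha))
        (Subgroup.inv_mem _ hb)
    have hcN := comm_mem_NX M Abar hA X hX a b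
    set c := a * b * a⁻¹ * b⁻¹ with hcdef
    obtain ⟨k, hk⟩ := (IsPGroup.iff_orderOf.1 Q.isPGroup') ⟨c, hc⟩
    have h1 : orderOf c = r ^ k := by
      rw [← hk]
      exact Subgroup.orderOf_coe (⟨c, hc⟩ : ↥(Q : Subgroup ↥X))
    have h2 : orderOf (c : G) ∣ Nat.card M := by
      have hcM : (c : G) ∈ M := hcN
      have := orderOf_dvd_natCard (⟨(c : G), hcM⟩ : ↥M)
      rwa [Subgroup.orderOf_mk] at this
    rw [Subgroup.orderOf_coe, h1] at h2
    have hk0 : k = 0 := by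
      by_contra hk0
      exact hrM (dvd_trans (dvd_pow_self r hk0) h2)
    rw [hk0, pow_zero, orderOf_eq_one_iff] at h1
    have : a * b * a⁻¹ * b⁻¹ = 1 := h1
    calc a * b = (a * b * a⁻¹ * b⁻¹) * (b * a) := by group
      _ = b * a := by rw [this, one_mul]

theorem X_comm : IsMulCommutative ↥X :=
  ⟨⟨comm_of_sylow (fun p _ P => sylowX_normal M Abar hA X hX hXmin p P)
    (fun p _ P => sylowX_comm M Abar hA X hX hXmin hD p P)⟩⟩

end Supp

end Cfsg.Agent.Lib.Helper8.BConj
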