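import Cfsg.Agent.Lib.Helper8.BConjC

set_option autoImplicit false

/-! Minimal supplements: the order. -/

namespace Cfsg.Agent.Lib.Helper8.BConj

open scoped Pointwise

theorem le_of_card_dvd_of_le_cyclic {G : Type*} [Group G] (R U V : Subgroup G) [Finite ↥R]
    [IsCyclic ↥R] (hU : U ≤ R) (hV : V ≤ R) (h : Nat.card U ∣ Nat.card V) : U ≤ V := by
  have h1 : Nat.card (U.subgroupOf R) ∣ Nat.card (V.subgroupOf R) := by
    rw [Nat.card_congr (Subgroup.subgroupOfEquivOfLe hU).toEquiv,
      Nat.card_congr (Subgroup.subgroupOfEquivOfLe hV).toEquiv]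
    exact h
  have h2 := cyclic_le_of_card_dvd _ _ h1
  intro u hu
  exact h2 (show (⟨u, hU hu⟩ : ↥R) ∈ U.subgroupOf R from hu)

section Supp
variable {G : Type*} [Group G] [Finite G] (M : Subgroup G) [M.Normal]
  (Abar : Subgroup (G ⧸ M)) (hA : IsMulCommutative ↥Abar)
  (X : Subgroup G) (hX : X.map (QuotientGroup.mk' M) = Abar)
  (hXmin : ∀ K : Subgroup G, K.map (QuotientGroup.mk' M) = Abar → Nat.card X ≤ Nat.card K)
  (hD : ∀ r : ℕ, r.Prime → r ∣ Nat.card M →
    (∀ R : Sylow r G, IsCyclic ↥R) ∨ (∀ x : G, (∃ k, x ^ (r ^ k) = 1) → x ∈ M))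

omit [Finite G] [M.Normal] in
theorem card_NX : Nat.card (NX M X) = Nat.card ↥(M ⊓ X) := by
  rw [← Subgroup.subgroupOf_map_subtype, NX]
  exact Nat.card_congr ((M.subgroupOf X).equivMapOfInjective _ (Subgroup.subtype_injective _)).toEquiv

include hA hX hXmin hD

theorem fact_NX (r : ℕ) [hr : Fact r.Prime] :
    (Nat.card (NX M X)).factorization r =
      if r ∣ Nat.card ↥Abar then (Nat.card M).factorization r else 0 := by
  have hNM : Nat.card (NX M X) ∣ Nat.card M := by
    rw [card_NX]
    exact Subgroup.card_dvd_of_le inf_le_left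
  have hne1 : Nat.card (NX M X) ≠ 0 := Nat.card_pos.ne'
  have hne2 : Nat.card M ≠ 0 := Nat.card_pos.ne'
  let Q : Sylow r ↥X := default
  split_ifs with hdvd
  · apply le_antisymm
    · exact (Nat.factorization_le_iff_dvd hne1 hne2).2 hNM r
    · by_cases hrM : r ∣ Nat.card M
      swap
      · rw [Nat.factorization_eq_zero_of_not_dvd hrM]
        exact Nat.zero_le _
      have hrX : r ∣ Nat.card ↥X := by
        rw [card_X M Abar X hX]
        exact dvd_mul_of_dvd_right hdvd _
      have hQne : (Q : Subgroup ↥X) ≠ ⊥ := Q.ne_bot_of_dvd_card hrX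
      have hle : ¬ (Q : Subgroup ↥X) ≤ NX M X := fun h =>
        hQne (sylowX_eq_bot M Abar hA X hX hXmin r Q h)
      have hcyc := cyclic_of_not_le M X hD r hrM Q hle
      have hQ'p : IsPGroup r ((Q : Subgroup ↥X).map X.subtype) := Q.isPGroup'.map _
      obtain ⟨R, hR⟩ := hQ'p.exists_le_sylow
      let P : Sylow r ↥M := default
      have hU0p : IsPGroup r ((P : Subgroup ↥M).map M.subtype) := P.isPGroup'.map _
      have hU0card : Nat.card ((P : Subgroup ↥M).map M.subtype) = r ^ (Nat.card M).factorization r := by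
        rw [Subgroup.card_map_of_injective (Subgroup.subtype_injective _), P.card_eq_multiplicity]
      obtain ⟨R0, hR0⟩ := hU0p.exists_le_sylow
      obtain ⟨g, hg⟩ := MulAction.exists_smul_eq G R0 R
      set U := ((P : Subgroup ↥M).map M.subtype).map (MulAut.conj g).toMonoidHom with hUdef
      have hUR : U ≤ R := by
        rintro _ ⟨u, hu, rfl⟩
        have h1 : (MulAut.conj g • u) ∈ (MulAut.conj g • (R0 : Subgroup G)) :=
          Subgroup.smul_mem_pointwise_smul u (MulAut.conj g) _ (hR0 hu)
        rw [← Sylow.pointwise_smul_def, ← Sylow.smul_def, hg] at h1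
        exact h1
      have hUM : U ≤ M := by
        rintro _ ⟨u, hu, rfl⟩
        have huM : u ∈ M := Subgroup.map_subtype_le _ hu
        exact (inferInstance : M.Normal).conj_mem u huM g
      have hUcard : Nat.card U = r ^ (Nat.card M).factorization r := by
        rw [hUdef, Subgroup.card_map_of_injective (MulAut.conj g).injective, hU0card]
      have := hcyc R
      obtain ⟨k, hk⟩ := IsPGroup.iff_card.1 hQ'p
      have hQ'R : (Q : Subgroup ↥X).map X.subtype ≤ R := hR
      rcases le_total k ((Nat.card M).factorization r) with hkl | hkl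
      · exfalso
        have h1 : Nat.card ((Q : Subgroup ↥X).map X.subtype) ∣ Nat.card U := by
          rw [hk, hUcard]
          exact pow_dvd_pow r hkl
        have h2 := le_of_card_dvd_of_le_cyclic (R : Subgroup G) _ _ hQ'R hUR h1
        apply hle
        intro q hq
        exact hUM (h2 ⟨q, hq, rfl⟩)
      · have h1 : Nat.card U ∣ Nat.card ((Q : Subgroup ↥X).map X.subtype) := by
          rw [hk, hUcard]
          exact pow_dvd_pow r hkl
        have h2 := le_of_card_dvd_of_le_cyclic (R : Subgroup G) _ _ hUR hQ'R h1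
        have h3 : U ≤ M ⊓ X := le_inf hUM (h2.trans (Subgroup.map_subtype_le _))
        have h4 := Subgroup.card_dvd_of_le h3
        rw [hUcard, ← card_NX] at h4
        exact (hr.out.pow_dvd_iff_le_factorization hne1).1 h4
  · apply Nat.factorization_eq_zero_of_not_dvd
    intro hrN
    have hrX : r ∣ Nat.card ↥X := dvd_trans hrN (Subgroup.card_subgroup_dvd_card _)
    have hQne : (Q : Subgroup ↥X) ≠ ⊥ := Q.ne_bot_of_dvd_card hrX
    apply hQne
    apply sylowX_eq_bot M Abar hA X hX hXmin r Q
    intro q hq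
    rw [← ker_fX, MonoidHom.mem_ker]
    obtain ⟨k, hk⟩ := (IsPGroup.iff_orderOf.1 Q.isPGroup') ⟨q, hq⟩
    have h1 : orderOf q = r ^ k := by
      rw [← hk]
      exact Subgroup.orderOf_coe (⟨q, hq⟩ : ↥(Q : Subgroup ↥X))
    have h2 : orderOf (fX M X q) ∣ r ^ k := by
      rw [← h1]
      exact orderOf_map_dvd _ q
    have hmem : fX M X q ∈ Abar := by
      rw [← range_fX M Abar X hX]
      exact ⟨q, rfl⟩
    have h3 : orderOf (fX M X q) ∣ Nat.card ↥Abar := by
      have := orderOf_dvd_natCard (⟨_, hmem⟩ : ↥Abar)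
      rwa [Subgroup.orderOf_mk] at this
    have hcop : Nat.Coprime (r ^ k) (Nat.card ↥Abar) :=
      Nat.Coprime.pow_left _ (hr.out.coprime_iff_not_dvd.2 hdvd)
    have h4 : orderOf (fX M X q) = 1 := Nat.eq_one_of_dvd_coprimes hcop h2 h3
    exact orderOf_eq_one_iff.1 h4

theorem fact_X (r : ℕ) [hr : Fact r.Prime] :
    (Nat.card ↥X).factorization r = (Nat.card ↥Abar).factorization r +
      if r ∣ Nat.card ↥Abar then (Nat.card M).factorization r else 0 := by
  rw [card_X M Abar X hX, Nat.factorization_mul Nat.card_pos.ne' Nat.card_pos.ne',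
    Finsupp.add_apply, fact_NX M Abar hA X hX hXmin hD r, add_comm]

end Supp

end Cfsg.Agent.Lib.Helper8.BConj
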