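import Cfsg.Agent.Lib.Helper8.BConjD

set_option autoImplicit false

/-! Quotients of groups in which abelian subgroups of the same order are conjugate. -/

namespace Cfsg.Agent.Lib.Helper8.BConj

section
variable {G : Type*} [Group G] [Finite G] (M : Subgroup G) [M.Normal]
  (hD : ∀ r : ℕ, r.Prime → r ∣ Nat.card M →
    (∀ R : Sylow r G, IsCyclic ↥R) ∨ (∀ x : G, (∃ k, x ^ (r ^ k) = 1) → x ∈ M))
include hD

theorem exists_supp (Abar : Subgroup (G ⧸ M)) (hA : IsMulCommutative ↥Abar) :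
    ∃ X : Subgroup G, IsMulCommutative ↥X ∧ X.map (QuotientGroup.mk' M) = Abar ∧
      ∀ r : ℕ, r.Prime → (Nat.card ↥X).factorization r = (Nat.card ↥Abar).factorization r +
        if r ∣ Nat.card ↥Abar then (Nat.card M).factorization r else 0 := by
  classical
  have hex : ∃ n, ∃ X : Subgroup G, X.map (QuotientGroup.mk' M) = Abar ∧ Nat.card X = n :=
    ⟨_, Abar.comap (QuotientGroup.mk' M),
      Subgroup.map_comap_eq_self_of_surjective (QuotientGroup.mk'_surjective M) _, rfl⟩
  obtain ⟨X, hX, hXn⟩ := Nat.find_spec hex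
  have hXmin : ∀ K : Subgroup G, K.map (QuotientGroup.mk' M) = Abar → Nat.card X ≤ Nat.card K := by
    intro K hK
    rw [hXn]
    exact Nat.find_min' hex ⟨K, hK, rfl⟩
  refine ⟨X, X_comm M Abar hA X hX hXmin hD, hX, fun r hr => ?_⟩
  have := Fact.mk hr
  exact fact_X M Abar hA X hX hXmin hD r

theorem isB_quotient (hB : IsB G) : IsB (G ⧸ M) := by
  intro Abar Bbar hA hBc hcard
  obtain ⟨X, hXc, hX, hXf⟩ := exists_supp M hD Abar hA
  obtain ⟨Y, hYc, hY, hYf⟩ := exists_supp M hD Bbar hBc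
  have hXY : Nat.card X = Nat.card Y := by
    apply Nat.eq_of_factorization_eq Nat.card_pos.ne' Nat.card_pos.ne'
    intro r
    by_cases hr : r.Prime
    · rw [hXf r hr, hYf r hr, hcard]
    · rw [Nat.factorization_eq_zero_of_not_prime _ hr, Nat.factorization_eq_zero_of_not_prime _ hr]
  obtain ⟨g, hg⟩ := hB X Y hXc hYc hXY
  refine ⟨QuotientGroup.mk g, ?_⟩
  rw [← hX, ← hY, hg, Subgroup.map_map, Subgroup.map_map]
  congr 1

end

theorem isB_quotient_odd {G : Type*} [Group G] [Finite G] (hB : IsB G) (M : Subgroup G) [M.Normal]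
    (hM : Odd (Nat.card ↥M)) : IsB (G ⧸ M) := by
  apply isB_quotient M ?_ hB
  intro r hr hrM
  have := Fact.mk hr
  have hr2 : r ≠ 2 := by
    rintro rfl
    exact (Nat.not_even_iff_odd.2 hM) (even_iff_two_dvd.2 hrM)
  exact dichotomy_odd hB M r hr2 hrM

end Cfsg.Agent.Lib.Helper8.BConj
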