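import Cfsg.Agent.Lib.Helper8.BConjE

set_option autoImplicit false

/-! Minimal supplements with a third alternative for the prime two. -/

namespace Cfsg.Agent.Lib.Helper8.BConj

open scoped Pointwise

/-- a group of order `p ^ k` with `k ≤ 2` is commutative -/
theorem comm_of_card_pow_le_two {H : Type*} [Group H] [Finite H] (p : ℕ) [hp : Fact p.Prime]
    (k : ℕ) (hk : k ≤ 2) (h : Nat.card H = p ^ k) : ∀ a b : H, a * b = b * a := by
  intro a b
  interval_cases k
  · rw [pow_zero] at h
    have := (Nat.card_eq_one_iff_unique.1 h).1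
    rw [Subsingleton.elim a 1, Subsingleton.elim b 1]
  · rw [pow_one] at h
    have := isCyclic_of_prime_card h
    exact (IsCyclic.commGroup (α := H)).mul_comm a b
  · exact (IsPGroup.isMulCommutative_of_card_eq_prime_sq h).1.comm a b

section Supp
variable {G : Type*} [Group G] [Finite G] (M : Subgroup G) [M.Normal]
  (Abar : Subgroup (G ⧸ M)) (hA : IsMulCommutative ↥Abar)
  (X : Subgroup G) (hX : X.map (QuotientGroup.mk' M) = Abar)
  (hXmin : ∀ K : Subgroup G, K.map (QuotientGroup.mk' M) = Abar → Nat.card X ≤ Nat.card K)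
  (hD : ∀ r : ℕ, r.Prime → r ∣ Nat.card M → r ∣ Nat.card ↥Abar →
    (∀ R : Sylow r G, IsCyclic ↥R) ∨ (∀ x : G, (∃ k, x ^ (r ^ k) = 1) → x ∈ M) ∨
    (r = 2 ∧ (Nat.card M).factorization 2 = 1 ∧ (Nat.card ↥Abar).factorization 2 = 1 ∧
      ∀ x : G, orderOf x = 2 → x ∈ M))

omit [Finite G] in
include hX in
/-- a Sylow subgroup of the supplement for a prime not dividing the order of the image lies in
`M` -/
theorem sylowX_le_of_not_dvd (r : ℕ) [hr : Fact r.Prime] (Q : Sylow r ↥X)
    (hdvd : ¬ r ∣ Nat.card ↥Abar) : (Q : Subgroup ↥X) ≤ NX M X := by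
  intro q hq
  rw [← ker_fX, MonoidHom.mem_ker]
  obtain ⟨k, hk⟩ := (IsPGroup.iff_orderOf.1 Q.isPGroup') ⟨q, hq⟩
  have h1 : orderOf q = r ^ k := by
    rw [← hk]
    exact Subgroup.orderOf_coe (⟨q, hq⟩ : ↥(Q : Subgroup ↥X))
  have h2 : orderOf (fX M X q) ∣ r ^ k := by
    rw [← h1]
    exact orderOf_map_dvd _ q
  have hmem : fX M X q ∈ Abar := by
    rw [← range_fX M Abar X hX]
    exact ⟨q, rfl⟩
  have h3 : orderOf (fX M X q) ∣ Nat.card ↥Abar := by
    have := orderOf_dvd_natCard (⟨_, hmem⟩ : ↥Abar)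
    rwa [Subgroup.orderOf_mk] at this
  have hcop : Nat.Coprime (r ^ k) (Nat.card ↥Abar) :=
    Nat.Coprime.pow_left _ (hr.out.coprime_iff_not_dvd.2 hdvd)
  have h4 : orderOf (fX M X q) = 1 := Nat.eq_one_of_dvd_coprimes hcop h2 h3
  exact orderOf_eq_one_iff.1 h4

omit [Finite G] in
include hX hD in
theorem cyclic_of_not_le3 (r : ℕ) [hr : Fact r.Prime] (hrM : r ∣ Nat.card M) (Q : Sylow r ↥X)
    (hne : ¬ (Q : Subgroup ↥X) ≤ NX M X) : (∀ R : Sylow r G, IsCyclic ↥R) ∨
      (r = 2 ∧ (Nat.card M).factorization 2 = 1 ∧ (Nat.card ↥Abar).factorization 2 = 1 ∧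
        ∀ x : G, orderOf x = 2 → x ∈ M) := by
  have hdvd : r ∣ Nat.card ↥Abar := by
    by_contra h
    exact hne (sylowX_le_of_not_dvd M Abar X hX r Q h)
  rcases hD r hr.out hrM hdvd with h | h | h
  · exact Or.inl h
  · exfalso
    apply hne
    intro q hq
    show (q : G) ∈ M
    apply h
    obtain ⟨k, hk⟩ := (IsPGroup.iff_orderOf.1 Q.isPGroup') ⟨q, hq⟩
    refine ⟨k, ?_⟩
    have h1 : orderOf q = r ^ k := by
      rw [← hk]
      exact Subgroup.orderOf_coe (⟨q, hq⟩ : ↥(Q : Subgroup ↥X))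
    have h2 : q ^ (r ^ k) = 1 := by rw [← h1]; exact pow_orderOf_eq_one q
    have := congrArg Subtype.val h2
    rwa [Subgroup.coe_pow] at this
  · exact Or.inr h

include hA hX hXmin hD

theorem sylowX_comm3 (r : ℕ) [hr : Fact r.Prime] (Q : Sylow r ↥X) :
    ∀ a ∈ (Q : Subgroup ↥X), ∀ b ∈ (Q : Subgroup ↥X), a * b = b * a := by
  intro a ha b hb
  by_cases hrM : r ∣ Nat.card M
  · by_cases hle : (Q : Subgroup ↥X) ≤ NX M X
    · have hbot := sylowX_eq_bot M Abar hA X hX hXmin r Q hle
      rw [hbot, Subgroup.mem_bot] at ha hb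
      rw [ha, hb]
    · rcases cyclic_of_not_le3 M Abar X hX hD r hrM Q hle with hcyc | ⟨rfl, hM2, hA2, -⟩
      · have hp : IsPGroup r ((Q : Subgroup ↥X).map X.subtype) := Q.isPGroup'.map _
        obtain ⟨R, hR⟩ := hp.exists_le_sylow
        have := hcyc R
        have haR : (a : G) ∈ R := hR ⟨a, ha, rfl⟩
        have hbR : (b : G) ∈ R := hR ⟨b, hb, rfl⟩
        have hc := (IsCyclic.commGroup (α := ↥R)).mul_comm ⟨_, haR⟩ ⟨_, hbR⟩
        apply Subtype.ext
        have hc' := congrArg Subtype.val hc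
        exact hc'
      · have hcardQ : Nat.card (Q : Subgroup ↥X) = 2 ^ (Nat.card ↥X).factorization 2 :=
          Q.card_eq_multiplicity
        have hNM : Nat.card (NX M X) ∣ Nat.card M := by
          rw [card_NX]
          exact Subgroup.card_dvd_of_le inf_le_left
        have hne1 : Nat.card (NX M X) ≠ 0 := Nat.card_pos.ne'
        have hne2 : Nat.card M ≠ 0 := Nat.card_pos.ne'
        have hle2 : (Nat.card ↥X).factorization 2 ≤ 2 := by
          rw [card_X M Abar X hX, Nat.factorization_mul hne1 Nat.card_pos.ne',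
            Finsupp.add_apply, hA2]
          have : (Nat.card (NX M X)).factorization 2 ≤ (Nat.card M).factorization 2 :=
            (Nat.factorization_le_iff_dvd hne1 hne2).2 hNM 2
          omega
        have hc := comm_of_card_pow_le_two (H := ↥(Q : Subgroup ↥X)) 2 _ hle2 hcardQ
          ⟨a, ha⟩ ⟨b, hb⟩
        exact congrArg Subtype.val hc
  · have hc : a * b * a⁻¹ * b⁻¹ ∈ (Q : Subgroup ↥X) :=
      Subgroup.mul_mem _ (Subgroup.mul_mem _ (Subgroup.mul_mem _ ha hb) (Subgroup.inv_mem _ ha))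
        (Subgroup.inv_mem _ hb)
    have hcN := comm_mem_NX M Abar hA X hX a b
    set c := a * b * a⁻¹ * b⁻¹ with hcdef
    obtain ⟨k, hk⟩ := (IsPGroup.iff_orderOf.1 Q.isPGroup') ⟨c, hc⟩
    have h1 : orderOf c = r ^ k := by
      rw [← hk]
      exact Subgroup.orderOf_coe (⟨c, hc⟩ : ↥(Q : Subgroup ↥X))
    have h2 : orderOf (c : G) ∣ Nat.card M := by
      have hcM : (c : G) ∈ M := hcN
      have := orderOf_dvd_natCard (⟨(c : G), hcM⟩ : ↥M)
      rwa [Subgroup.orderOf_mk] at this
    rw [Subgroup.orderOf_coe, h1] at h2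
    have hk0 : k = 0 := by
      by_contra hk0
      exact hrM (dvd_trans (dvd_pow_self r hk0) h2)
    rw [hk0, pow_zero, orderOf_eq_one_iff] at h1
    have : a * b * a⁻¹ * b⁻¹ = 1 := h1
    calc a * b = (a * b * a⁻¹ * b⁻¹) * (b * a) := by group
      _ = b * a := by rw [this, one_mul]

theorem X_comm3 : IsMulCommutative ↥X :=
  ⟨⟨comm_of_sylow (fun p _ P => sylowX_normal M Abar hA X hX hXmin p P)
    (fun p _ P => sylowX_comm3 M Abar hA X hX hXmin hD p P)⟩⟩

theorem fact_NX3 (r : ℕ) [hr : Fact r.Prime] :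
    (Nat.card (NX M X)).factorization r =
      if r ∣ Nat.card ↥Abar then (Nat.card M).factorization r else 0 := by
  have hNM : Nat.card (NX M X) ∣ Nat.card M := by
    rw [card_NX]
    exact Subgroup.card_dvd_of_le inf_le_left
  have hne1 : Nat.card (NX M X) ≠ 0 := Nat.card_pos.ne'
  have hne2 : Nat.card M ≠ 0 := Nat.card_pos.ne'
  let Q : Sylow r ↥X := default
  split_ifs with hdvd
  · apply le_antisymm
    · exact (Nat.factorization_le_iff_dvd hne1 hne2).2 hNM r
    · by_cases hrM : r ∣ Nat.card M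
      swap
      · rw [Nat.factorization_eq_zero_of_not_dvd hrM]
        exact Nat.zero_le _
      have hrX : r ∣ Nat.card ↥X := by
        rw [card_X M Abar X hX]
        exact dvd_mul_of_dvd_right hdvd _
      have hQne : (Q : Subgroup ↥X) ≠ ⊥ := Q.ne_bot_of_dvd_card hrX
      have hle : ¬ (Q : Subgroup ↥X) ≤ NX M X := fun h =>
        hQne (sylowX_eq_bot M Abar hA X hX hXmin r Q h)
      rcases cyclic_of_not_le3 M Abar X hX hD r hrM Q hle with hcyc | ⟨rfl, hM2, hA2, hinv⟩
      · have hQ'p : IsPGroup r ((Q : Subgroup ↥X).map X.subtype) := Q.isPGroup'.map _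
        obtain ⟨R, hR⟩ := hQ'p.exists_le_sylow
        let P : Sylow r ↥M := default
        have hU0p : IsPGroup r ((P : Subgroup ↥M).map M.subtype) := P.isPGroup'.map _
        have hU0card : Nat.card ((P : Subgroup ↥M).map M.subtype) =
            r ^ (Nat.card M).factorization r := by
          rw [Subgroup.card_map_of_injective (Subgroup.subtype_injective _),
            P.card_eq_multiplicity]
        obtain ⟨R0, hR0⟩ := hU0p.exists_le_sylow
        obtain ⟨g, hg⟩ := MulAction.exists_smul_eq G R0 R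
        set U := ((P : Subgroup ↥M).map M.subtype).map (MulAut.conj g).toMonoidHom with hUdef
        have hUR : U ≤ R := by
          rintro _ ⟨u, hu, rfl⟩
          have h1 : (MulAut.conj g • u) ∈ (MulAut.conj g • (R0 : Subgroup G)) :=
            Subgroup.smul_mem_pointwise_smul u (MulAut.conj g) _ (hR0 hu)
          rw [← Sylow.pointwise_smul_def, ← Sylow.smul_def, hg] at h1
          exact h1
        have hUM : U ≤ M := by
          rintro _ ⟨u, hu, rfl⟩
          have huM : u ∈ M := Subgroup.map_subtype_le _ hu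
          exact (inferInstance : M.Normal).conj_mem u huM g
        have hUcard : Nat.card U = r ^ (Nat.card M).factorization r := by
          rw [hUdef, Subgroup.card_map_of_injective (MulAut.conj g).injective, hU0card]
        have := hcyc R
        obtain ⟨k, hk⟩ := IsPGroup.iff_card.1 hQ'p
        have hQ'R : (Q : Subgroup ↥X).map X.subtype ≤ R := hR
        rcases le_total k ((Nat.card M).factorization r) with hkl | hkl
        · exfalso
          have h1 : Nat.card ((Q : Subgroup ↥X).map X.subtype) ∣ Nat.card U := by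
            rw [hk, hUcard]
            exact pow_dvd_pow r hkl
          have h2 := le_of_card_dvd_of_le_cyclic (R : Subgroup G) _ _ hQ'R hUR h1
          apply hle
          intro q hq
          exact hUM (h2 ⟨q, hq, rfl⟩)
        · have h1 : Nat.card U ∣ Nat.card ((Q : Subgroup ↥X).map X.subtype) := by
            rw [hk, hUcard]
            exact pow_dvd_pow r hkl
          have h2 := le_of_card_dvd_of_le_cyclic (R : Subgroup G) _ _ hUR hQ'R h1
          have h3 : U ≤ M ⊓ X := le_inf hUM (h2.trans (Subgroup.map_subtype_le _))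
          have h4 := Subgroup.card_dvd_of_le h3
          rw [hUcard, ← card_NX] at h4
          exact (hr.out.pow_dvd_iff_le_factorization hne1).1 h4
      · rw [hM2]
        obtain ⟨x, hx⟩ := exists_prime_orderOf_dvd_card' (G := ↥X) 2 hrX
        have hx' : orderOf (x : G) = 2 := by rw [Subgroup.orderOf_coe]; exact hx
        have hxN : x ∈ NX M X := hinv _ hx'
        have h1 : 2 ∣ Nat.card (NX M X) := by
          have := orderOf_dvd_natCard (⟨x, hxN⟩ : ↥(NX M X))
          rwa [Subgroup.orderOf_mk, hx] at this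
        exact (Nat.Prime.dvd_iff_one_le_factorization Nat.prime_two hne1).1 h1
  · apply Nat.factorization_eq_zero_of_not_dvd
    intro hrN
    have hrX : r ∣ Nat.card ↥X := dvd_trans hrN (Subgroup.card_subgroup_dvd_card _)
    have hQne : (Q : Subgroup ↥X) ≠ ⊥ := Q.ne_bot_of_dvd_card hrX
    apply hQne
    apply sylowX_eq_bot M Abar hA X hX hXmin r Q
    exact sylowX_le_of_not_dvd M Abar X hX r Q hdvd

theorem fact_X3 (r : ℕ) [hr : Fact r.Prime] :
    (Nat.card ↥X).factorization r = (Nat.card ↥Abar).factorization r +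
      if r ∣ Nat.card ↥Abar then (Nat.card M).factorization r else 0 := by
  rw [card_X M Abar X hX, Nat.factorization_mul Nat.card_pos.ne' Nat.card_pos.ne',
    Finsupp.add_apply, fact_NX3 M Abar hA X hX hXmin hD r, add_comm]

end Supp

section
variable {G : Type*} [Group G] [Finite G] (M : Subgroup G) [M.Normal]

theorem exists_supp3 (Abar : Subgroup (G ⧸ M)) (hA : IsMulCommutative ↥Abar)
    (hD : ∀ r : ℕ, r.Prime → r ∣ Nat.card M → r ∣ Nat.card ↥Abar →
      (∀ R : Sylow r G, IsCyclic ↥R) ∨ (∀ x : G, (∃ k, x ^ (r ^ k) = 1) → x ∈ M) ∨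
      (r = 2 ∧ (Nat.card M).factorization 2 = 1 ∧ (Nat.card ↥Abar).factorization 2 = 1 ∧
        ∀ x : G, orderOf x = 2 → x ∈ M)) :
    ∃ X : Subgroup G, IsMulCommutative ↥X ∧ X.map (QuotientGroup.mk' M) = Abar ∧
      ∀ r : ℕ, r.Prime → (Nat.card ↥X).factorization r = (Nat.card ↥Abar).factorization r +
        if r ∣ Nat.card ↥Abar then (Nat.card M).factorization r else 0 := by
  classical
  have hex : ∃ n, ∃ X : Subgroup G, X.map (QuotientGroup.mk' M) = Abar ∧ Nat.card X = n :=
    ⟨_, Abar.comap (QuotientGroup.mk' M),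
      Subgroup.map_comap_eq_self_of_surjective (QuotientGroup.mk'_surjective M) _, rfl⟩
  obtain ⟨X, hX, hXn⟩ := Nat.find_spec hex
  have hXmin : ∀ K : Subgroup G, K.map (QuotientGroup.mk' M) = Abar → Nat.card X ≤ Nat.card K := by
    intro K hK
    rw [hXn]
    exact Nat.find_min' hex ⟨K, hK, rfl⟩
  refine ⟨X, X_comm3 M Abar hA X hX hXmin hD, hX, fun r hr => ?_⟩
  have := Fact.mk hr
  exact fact_X3 M Abar hA X hX hXmin hD r

/-- conjugacy in the quotient from supplements of the same order -/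
theorem conj_of_supp (hB : IsB G) (Abar Bbar : Subgroup (G ⧸ M))
    (hcard : Nat.card ↥Abar = Nat.card ↥Bbar)
    (hXe : ∃ X : Subgroup G, IsMulCommutative ↥X ∧ X.map (QuotientGroup.mk' M) = Abar ∧
      ∀ r : ℕ, r.Prime → (Nat.card ↥X).factorization r = (Nat.card ↥Abar).factorization r +
        if r ∣ Nat.card ↥Abar then (Nat.card M).factorization r else 0)
    (hYe : ∃ X : Subgroup G, IsMulCommutative ↥X ∧ X.map (QuotientGroup.mk' M) = Bbar ∧
      ∀ r : ℕ, r.Prime → (Nat.card ↥X).factorization r = (Nat.card ↥Bbar).factorization r +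
        if r ∣ Nat.card ↥Bbar then (Nat.card M).factorization r else 0) :
    ∃ g : G ⧸ M, Bbar = Abar.map (MulAut.conj g).toMonoidHom := by
  obtain ⟨X, hXc, hX, hXf⟩ := hXe
  obtain ⟨Y, hYc, hY, hYf⟩ := hYe
  have hXY : Nat.card X = Nat.card Y := by
    apply Nat.eq_of_factorization_eq Nat.card_pos.ne' Nat.card_pos.ne'
    intro r
    by_cases hr : r.Prime
    · rw [hXf r hr, hYf r hr, hcard]
    · rw [Nat.factorization_eq_zero_of_not_prime _ hr, Nat.factorization_eq_zero_of_not_prime _ hr]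
  obtain ⟨g, hg⟩ := hB X Y hXc hYc hXY
  refine ⟨QuotientGroup.mk g, ?_⟩
  rw [← hX, ← hY, hg, Subgroup.map_map, Subgroup.map_map]
  congr 1

end

end Cfsg.Agent.Lib.Helper8.BConj
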