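import Cfsg.Agent.Lib.Helper8.BConjF

set_option autoImplicit false

/-! Conjugacy of abelian subgroups containing a full Sylow subgroup. -/

namespace Cfsg.Agent.Lib.Helper8.BConj

open scoped Pointwise

section SylTop
variable {H : Type*} [Group H] [Finite H] (p : ℕ) [hp : Fact p.Prime]

/-- an abelian subgroup is the join of its Sylow `p`-subgroup and a complement -/
theorem exists_decomp (A : Subgroup H) (hA : IsMulCommutative ↥A) :
    ∃ P K : Subgroup H, P ≤ A ∧ K ≤ A ∧ P ⊔ K = A ∧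
      Nat.card P = p ^ (Nat.card A).factorization p ∧
      Nat.card P * Nat.card K = Nat.card A := by
  let Q : Sylow p ↥A := default
  have hn : (Q : Subgroup ↥A).Normal := by
    constructor
    intro n hn g
    have h1 : g * n = n * g := hA.1.comm g n
    have h2 : g * n * g⁻¹ = n := by rw [h1, mul_inv_cancel_right]
    rw [h2]
    exact hn
  have hcop : Nat.Coprime (Nat.card (Q : Subgroup ↥A)) (Q : Subgroup ↥A).index := by
    obtain ⟨k, hk⟩ := IsPGroup.iff_card.1 Q.isPGroup'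
    rw [hk]
    exact Nat.Coprime.pow_left _ (hp.out.coprime_iff_not_dvd.2 Q.not_dvd_index)
  obtain ⟨K0, hK0⟩ := Subgroup.exists_right_complement'_of_coprime hcop
  refine ⟨(Q : Subgroup ↥A).map A.subtype, K0.map A.subtype, Subgroup.map_subtype_le _,
    Subgroup.map_subtype_le _, ?_, ?_, ?_⟩
  · rw [← Subgroup.map_sup, hK0.sup_eq_top, ← MonoidHom.range_eq_map, Subgroup.range_subtype]
  · rw [Subgroup.card_map_of_injective (Subgroup.subtype_injective _), Q.card_eq_multiplicity]
  · rw [Subgroup.card_map_of_injective (Subgroup.subtype_injective _),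
      Subgroup.card_map_of_injective (Subgroup.subtype_injective _)]
    exact hK0.card_mul_card

omit [Finite H] in
theorem comm_of_le {A K : Subgroup H} (hA : IsMulCommutative ↥A) (hK : K ≤ A) :
    IsMulCommutative ↥K :=
  ⟨⟨fun x y => Subtype.ext (by
    have := congrArg Subtype.val (hA.1.comm ⟨x, hK x.2⟩ ⟨y, hK y.2⟩)
    exact this)⟩⟩

theorem conj_of_sylow_top
    (hodd : ∀ A B : Subgroup H, IsMulCommutative ↥A → IsMulCommutative ↥B →
      Nat.card ↥A = Nat.card ↥B → ¬ p ∣ Nat.card ↥A →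
      ∃ g : H, B = A.map (MulAut.conj g).toMonoidHom)
    (A B : Subgroup H) (hA : IsMulCommutative ↥A) (hB : IsMulCommutative ↥B)
    (hcard : Nat.card ↥A = Nat.card ↥B)
    (htop : (Nat.card ↥A).factorization p = (Nat.card H).factorization p) :
    ∃ g : H, B = A.map (MulAut.conj g).toMonoidHom := by
  obtain ⟨P1, K1, hP1A, hK1A, hsup1, hP1c, hK1c⟩ := exists_decomp p A hA
  obtain ⟨P2, K2, hP2B, hK2B, hsup2, hP2c, hK2c⟩ := exists_decomp p B hB
  have hA0 : Nat.card ↥A ≠ 0 := Nat.card_pos.ne'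
  rw [← hcard] at hP2c hK2c
  obtain ⟨v, hv⟩ : ∃ v, v = (Nat.card ↥A).factorization p := ⟨_, rfl⟩
  rw [← hv] at hP1c hP2c htop
  have hppos : 0 < p ^ v := pow_pos hp.out.pos _
  have e1 : p ^ v * Nat.card ↥K1 = Nat.card ↥A := by rw [← hP1c]; exact hK1c
  have e2 : p ^ v * Nat.card ↥K2 = Nat.card ↥A := by rw [← hP2c]; exact hK2c
  have hKcard : Nat.card ↥K1 = Nat.card ↥K2 :=
    Nat.eq_of_mul_eq_mul_left hppos (e1.trans e2.symm)
  have hnd : ¬ p ∣ Nat.card ↥K1 := by
    intro hdvd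
    have h1 : p ^ (v + 1) ∣ Nat.card ↥A := by
      rw [← e1, pow_succ]
      exact Nat.mul_dvd_mul_left _ hdvd
    rw [hv] at h1
    exact Nat.pow_succ_factorization_not_dvd hA0 hp.out h1
  obtain ⟨g, hg⟩ := hodd K1 K2 (comm_of_le hA hK1A) (comm_of_le hB hK2B) hKcard hnd
  set P1' : Subgroup H := P1.map (MulAut.conj g).toMonoidHom with hP1'
  set C : Subgroup H := Subgroup.centralizer (K2 : Set H) with hC
  have hP1'C : P1' ≤ C := by
    rintro _ ⟨u, hu, rfl⟩
    rw [hC, Subgroup.mem_centralizer_iff]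
    intro w hw
    have hw' : w ∈ K1.map (MulAut.conj g).toMonoidHom := by rw [← hg]; exact hw
    obtain ⟨v, hv, rfl⟩ := hw'
    have h1 : u * v = v * u :=
      congrArg Subtype.val (hA.1.comm ⟨u, hP1A hu⟩ ⟨v, hK1A hv⟩)
    show (MulAut.conj g) v * (MulAut.conj g) u = (MulAut.conj g) u * (MulAut.conj g) v
    rw [← map_mul, ← map_mul, h1]
  have hP2C : P2 ≤ C := by
    intro u hu
    rw [hC, Subgroup.mem_centralizer_iff]
    intro w hw
    exact congrArg Subtype.val (hB.1.comm ⟨w, hK2B hw⟩ ⟨u, hP2B hu⟩)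
  have hP1'card : Nat.card ↥P1' = p ^ v := by
    rw [hP1', Subgroup.card_map_of_injective (MulAut.conj g).injective, hP1c]
  have hC0 : Nat.card ↥C ≠ 0 := Nat.card_pos.ne'
  have hH0 : Nat.card H ≠ 0 := Nat.card_pos.ne'
  have hcard1 : Nat.card (P1'.subgroupOf C) = p ^ v := by
    rw [Nat.card_congr (Subgroup.subgroupOfEquivOfLe hP1'C).toEquiv, hP1'card]
  have hcard2 : Nat.card (P2.subgroupOf C) = p ^ v := by
    rw [Nat.card_congr (Subgroup.subgroupOfEquivOfLe hP2C).toEquiv, hP2c]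
  have hfC : (Nat.card ↥C).factorization p = v := by
    apply le_antisymm
    · rw [htop]
      exact (Nat.factorization_le_iff_dvd hC0 hH0).2 (Subgroup.card_subgroup_dvd_card C) p
    · have h1 := Subgroup.card_subgroup_dvd_card (P1'.subgroupOf C)
      rw [hcard1] at h1
      exact (hp.out.pow_dvd_iff_le_factorization hC0).1 h1
  let S1 : Sylow p ↥C := Sylow.ofCard (P1'.subgroupOf C) (by rw [hcard1, hfC])
  let S2 : Sylow p ↥C := Sylow.ofCard (P2.subgroupOf C) (by rw [hcard2, hfC])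
  obtain ⟨c, hc⟩ := MulAction.exists_smul_eq ↥C S1 S2
  refine ⟨(c : H) * g, ?_⟩
  symm
  apply Subgroup.eq_of_le_of_card_ge
  · rw [← hsup1, Subgroup.map_sup]
    apply sup_le
    · rintro _ ⟨u, hu, rfl⟩
      apply hP2B
      have hu' : (MulAut.conj g) u ∈ P1' := ⟨u, hu, rfl⟩
      have h1 : (⟨(MulAut.conj g) u, hP1'C hu'⟩ : ↥C) ∈ (S1 : Subgroup ↥C) := hu'
      have h2 : (MulAut.conj c • (⟨(MulAut.conj g) u, hP1'C hu'⟩ : ↥C)) ∈
          (MulAut.conj c • (S1 : Subgroup ↥C)) :=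
        Subgroup.smul_mem_pointwise_smul _ (MulAut.conj c) _ h1
      rw [← Sylow.pointwise_smul_def, ← Sylow.smul_def, hc] at h2
      have h3 : ((MulAut.conj c • (⟨(MulAut.conj g) u, hP1'C hu'⟩ : ↥C) : ↥C) : H) ∈ P2 := h2
      have h4 : ((MulAut.conj c • (⟨(MulAut.conj g) u, hP1'C hu'⟩ : ↥C) : ↥C) : H) =
          (MulAut.conj ((c : H) * g)).toMonoidHom u := by
        simp [MulAut.smul_def, MulAut.conj_apply, mul_assoc]
      rw [← h4]
      exact h3
    · rintro _ ⟨v, hv, rfl⟩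
      apply hK2B
      have hv' : (MulAut.conj g) v ∈ K2 := by
        rw [hg]
        exact ⟨v, hv, rfl⟩
      have hcC : (c : H) ∈ Subgroup.centralizer (K2 : Set H) := c.2
      rw [Subgroup.mem_centralizer_iff] at hcC
      have h1 := hcC _ hv'
      have h2 : (MulAut.conj ((c : H) * g)).toMonoidHom v = (MulAut.conj g) v := by
        show (MulAut.conj ((c : H) * g)) v = _
        rw [map_mul, MulAut.mul_apply, MulAut.conj_apply (c : H), ← h1, mul_inv_cancel_right]
      rw [h2]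
      exact hv'
  · rw [Subgroup.card_map_of_injective (MulAut.conj ((c : H) * g)).injective, hcard]

end SylTop

end Cfsg.Agent.Lib.Helper8.BConj
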