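import Cfsg.Agent.Lib.Helper8.BConjG
import Cfsg.Agent.Lib.Lead.UniqueP
import Cfsg.Agent.Lib.Helper1.PLengthOne

set_option autoImplicit false

/-! Solvable groups with conjugate cyclic subgroups of order four and a Sylow 2-subgroup with a
unique involution. -/

namespace Cfsg.Agent.Lib.Helper8.BConj

open QuaternionGroup
open Cfsg.Agent.Lib.Lead.UniqueP (UOP)

theorem quat_inv_xa {n : ℕ} (i : ZMod (2 * n)) : (xa i : QuaternionGroup n)⁻¹ = xa ((n : ZMod (2 * n)) + i) := rfl
theorem quat_inv_a {n : ℕ} (i : ZMod (2 * n)) : (a i : QuaternionGroup n)⁻¹ = a (-i) := rfl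

theorem quat_two_n {n : ℕ} : (n : ZMod (2 * n)) + n = 0 := by
  have : ((2 * n : ℕ) : ZMod (2 * n)) = 0 := ZMod.natCast_self _
  push_cast at this
  rw [← this]; ring

/-- conjugating `xa 0` by `xa 1` -/
theorem quat_conj {n : ℕ} : (xa 1 : QuaternionGroup n) * xa 0 * (xa 1)⁻¹ = xa 2 := by
  rw [quat_inv_xa, xa_mul_xa, a_mul_xa]
  congr 1
  ring

theorem quat_le_two {n : ℕ} [NeZero n]
    (h : (xa 2 : QuaternionGroup n) ∈ Subgroup.zpowers (xa 0 : QuaternionGroup n)) : n ≤ 2 := by
  classical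
  rw [mem_zpowers_iff_mem_range_orderOf, orderOf_xa] at h
  simp only [Finset.mem_image, Finset.mem_range] at h
  obtain ⟨k, hk, hk2⟩ := h
  interval_cases k
  · rw [pow_zero, one_def] at hk2
    cases hk2
  · rw [pow_one] at hk2
    have h2 : (0 : ZMod (2 * n)) = 2 := xa.inj hk2
    have h3 : ((2 : ℕ) : ZMod (2 * n)) = 0 := by exact_mod_cast h2.symm
    have h4 := (ZMod.natCast_eq_zero_iff 2 (2 * n)).1 h3
    have := Nat.le_of_dvd (by norm_num) h4
    omega
  · rw [xa_sq] at hk2
    cases hk2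
  · rw [pow_succ, xa_sq, a_mul_xa] at hk2
    have h2 : (0 - n : ZMod (2 * n)) = 2 := xa.inj hk2
    have h3 : ((n + 2 : ℕ) : ZMod (2 * n)) = 0 := by
      push_cast
      rw [← h2]
      ring
    have h4 := (ZMod.natCast_eq_zero_iff (n + 2) (2 * n)).1 h3
    have := Nat.le_of_dvd (by omega) h4
    omega

theorem quat_orderOf_c {n m : ℕ} (hm : 0 < m) (hn : n = 2 * m) :
    orderOf ((a 1 : QuaternionGroup n) ^ m) = 4 := by
  subst hn
  rw [orderOf_pow_of_dvd hm.ne' (by rw [orderOf_a_one]; exact ⟨4, by ring⟩), orderOf_a_one]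
  rw [show 2 * (2 * m) = 4 * m by ring, Nat.mul_div_cancel _ hm]

theorem quat_conj_a_mem {n : ℕ} (t : QuaternionGroup n) (j : ZMod (2 * n)) :
    t * a j * t⁻¹ ∈ Subgroup.zpowers (a j : QuaternionGroup n) := by
  rcases t with i | i
  · have : (a i : QuaternionGroup n) * a j * (a i)⁻¹ = a j := by
      rw [quat_inv_a, a_mul_a, a_mul_a]
      congr 1
      ring
    rw [this]
    exact Subgroup.mem_zpowers _
  · have : (xa i : QuaternionGroup n) * a j * (xa i)⁻¹ = (a j)⁻¹ := by
      rw [quat_inv_xa, quat_inv_a, xa_mul_a, xa_mul_xa]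
      congr 1
      have := quat_two_n (n := n)
      linear_combination this
    rw [this]
    exact Subgroup.inv_mem _ (Subgroup.mem_zpowers _)

theorem quat_conj_c_mem {n : ℕ} (m : ℕ) (t : QuaternionGroup n) :
    t * (a 1 : QuaternionGroup n) ^ m * t⁻¹ ∈
      Subgroup.zpowers ((a 1 : QuaternionGroup n) ^ m) := by
  rw [a_one_pow]
  exact quat_conj_a_mem t _


/-- all cyclic subgroups of order four are conjugate -/
def C4conj (G : Type*) [Group G] : Prop :=
  ∀ x y : G, orderOf x = 4 → orderOf y = 4 → ∃ g : G, g * x * g⁻¹ ∈ Subgroup.zpowers y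

section gen
variable {G : Type*} [Group G]

/-- a 2-element whose square is not trivial has a power of order four -/
theorem exists_pow_orderOf_four (x : G) (hx : ∃ k, x ^ 2 ^ k = 1) (hsq : x ^ 2 ≠ 1) :
    ∃ j : ℕ, orderOf (x ^ j) = 4 := by
  obtain ⟨k, hk⟩ := hx
  obtain ⟨j, -, hj⟩ := (Nat.dvd_prime_pow Nat.prime_two).1 (orderOf_dvd_of_pow_eq_one hk)
  have hj2 : 2 ≤ j := by
    by_contra hlt
    rw [not_le] at hlt
    apply hsq
    have : orderOf x ∣ 2 := by
      rw [hj]
      interval_cases j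
      · simp
      · simp
    exact orderOf_dvd_iff_pow_eq_one.1 this
  refine ⟨2 ^ (j - 2), ?_⟩
  have hd : 2 ^ (j - 2) ∣ orderOf x := by
    rw [hj]
    exact pow_dvd_pow 2 (by omega)
  rw [orderOf_pow_of_dvd (pow_ne_zero _ two_ne_zero) hd, hj, Nat.pow_div (by omega) (by norm_num)]
  have : j - (j - 2) = 2 := by omega
  rw [this]

theorem eq_one_or_eq_of_mem_zpowers {x y : G} (hx : x ^ 2 = 1) (hy : y ∈ Subgroup.zpowers x) :
    y = 1 ∨ y = x := by
  obtain ⟨k, rfl⟩ := Subgroup.mem_zpowers_iff.1 hy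
  rcases Int.emod_two_eq_zero_or_one k with h | h
  · left
    have : k = 2 * (k / 2) := by omega
    rw [this, zpow_mul, zpow_ofNat, hx, one_zpow]
  · right
    have : k = 2 * (k / 2) + 1 := by omega
    rw [this, zpow_add, zpow_mul, zpow_ofNat, hx, one_zpow, one_mul, zpow_one]

theorem conj_mem_zpowers {c t w : G} (h : t * c * t⁻¹ ∈ Subgroup.zpowers c)
    (hw : w ∈ Subgroup.zpowers c) : t * w * t⁻¹ ∈ Subgroup.zpowers c := by
  obtain ⟨k, rfl⟩ := Subgroup.mem_zpowers_iff.1 hw
  have : t * c ^ k * t⁻¹ = (t * c * t⁻¹) ^ k := by rw [conj_zpow]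
  rw [this]
  exact Subgroup.zpow_mem _ h k

theorem sylow_two_elt [Finite G] (T : Sylow 2 G) (y : G) (hy : y ∈ T) : ∃ k, y ^ 2 ^ k = 1 := by
  have hp2 : Fact (Nat.Prime 2) := ⟨Nat.prime_two⟩
  obtain ⟨k, hk⟩ := (IsPGroup.iff_orderOf.1 T.isPGroup') ⟨y, hy⟩
  refine ⟨k, ?_⟩
  have h1 : orderOf y = 2 ^ k := by
    rw [← hk]
    exact Subgroup.orderOf_coe (⟨y, hy⟩ : ↥(T : Subgroup G))
  rw [← h1]
  exact pow_orderOf_eq_one y

end gen

section QPrime
variable {H : Type*} [Group H] [Finite H] [hsol : Group.IsSolvable H]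

theorem card_sylow_eq_eight_of_core (hO : Cfsg.pPrimeCore 2 H = ⊥) (hC4 : C4conj H)
    (T : Sylow 2 H) (hU : UOP 2 ↥T) (hnc : ¬ IsCyclic ↥T) : Nat.card ↥T = 8 := by
  have hp2 : Fact (Nat.Prime 2) := ⟨Nat.prime_two⟩
  rcases Cfsg.Agent.Lib.Lead.UniqueP.cyclic_or_quaternion 2 T.isPGroup' hU with
    hc | ⟨-, n, ⟨e⟩⟩
  · exact absurd hc hnc
  obtain _ | k := n
  · exfalso
    apply hnc
    have : IsCyclic (QuaternionGroup (2 ^ 0)) := quaternionGroup_one_isCyclic
    exact isCyclic_of_surjective e.symm e.symm.surjective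
  generalize hn : 2 ^ (k + 1) = n at e
  have hn' : n = 2 * 2 ^ k := by rw [← hn, pow_succ']
  have hk1 : 1 ≤ 2 ^ k := Nat.one_le_two_pow
  have hne : NeZero n := ⟨by omega⟩
  set R := Cfsg.pCore 2 H with hR
  have hRT : R ≤ T := Cfsg.Agent.Lib.Helper1.pCore_le_sylow 2 T
  have hRn : R.Normal := Cfsg.Agent.Lib.Helper1.pCore_normal 2
  have hcent : Subgroup.centralizer (R : Set H) ≤ R :=
    Cfsg.Agent.Lib.Helper1.centralizer_pCore_le 2 hO
  -- `R` has an element of order four
  have hy0 : ∃ y0 ∈ R, orderOf y0 = 4 := by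
    by_contra hno
    simp only [not_exists, not_and] at hno
    have hsq : ∀ y ∈ R, y ^ 2 = 1 := by
      intro y hy
      by_contra hne
      obtain ⟨j, hj⟩ := exists_pow_orderOf_four y (sylow_two_elt T y (hRT hy)) hne
      exact hno (y ^ j) (R.pow_mem hy j) hj
    apply hnc
    by_cases hbot : ∀ y ∈ R, y = 1
    · have htop : ∀ h : H, h ∈ R := by
        intro h
        apply hcent
        rw [Subgroup.mem_centralizer_iff]
        intro y hy
        rw [hbot y hy, one_mul, mul_one]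
      have hsub : Subsingleton ↥T := ⟨fun a b => by
        apply Subtype.ext
        rw [hbot a (htop a), hbot b (htop b)]⟩
      exact isCyclic_of_subsingleton
    · simp only [not_forall] at hbot
      obtain ⟨x, hxR, hx1⟩ := hbot
      have hR2 : ∀ y ∈ R, y = 1 ∨ y = x := by
        intro y hy
        have h1 := hU ⟨x, hRT hxR⟩ ⟨y, hRT hy⟩ (Subtype.ext (by simpa using hsq x hxR))
          (Subtype.ext (by simpa using hsq y hy)) (fun h => hx1 (congrArg Subtype.val h))
        have h2 : y ∈ Subgroup.zpowers x := by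
          obtain ⟨j, hj⟩ := Subgroup.mem_zpowers_iff.1 h1
          refine Subgroup.mem_zpowers_iff.2 ⟨j, ?_⟩
          have := congrArg Subtype.val hj
          simpa using this
        exact eq_one_or_eq_of_mem_zpowers (hsq x hxR) h2
      have hxc : ∀ g : H, g * x = x * g := by
        intro g
        have h1 : g * x * g⁻¹ ∈ R := hRn.conj_mem x hxR g
        rcases hR2 _ h1 with h2 | h2
        · exfalso
          apply hx1
          have : x = g⁻¹ * (g * x * g⁻¹) * g := by group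
          rw [this, h2]
          group
        · calc g * x = (g * x * g⁻¹) * g := by group
            _ = x * g := by rw [h2]
      have htop : ∀ h : H, h ∈ R := by
        intro h
        apply hcent
        rw [Subgroup.mem_centralizer_iff]
        intro y hy
        rcases hR2 y hy with rfl | rfl
        · rw [one_mul, mul_one]
        · exact (hxc h).symm
      refine ⟨⟨⟨x, hRT hxR⟩, fun t => ?_⟩⟩
      rcases hR2 t (htop t) with h | h
      · exact ⟨0, Subtype.ext (by simpa using h.symm)⟩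
      · exact ⟨1, Subtype.ext (by simpa using h.symm)⟩
  obtain ⟨y0, hy0R, hy0⟩ := hy0
  -- all elements of order four lie in `R`
  have hall4 : ∀ y : H, orderOf y = 4 → y ∈ R := by
    intro y hy
    obtain ⟨g, hg⟩ := hC4 y y0 hy hy0
    have h1 : g * y * g⁻¹ ∈ R := (Subgroup.zpowers_le.2 hy0R) hg
    have h2 := hRn.conj_mem _ h1 g⁻¹
    have : g⁻¹ * (g * y * g⁻¹) * g⁻¹⁻¹ = y := by group
    rwa [this] at h2
  -- a cyclic subgroup of order four normalized by `T`
  set cq : QuaternionGroup n := (a 1) ^ (2 ^ k) with hcq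
  have hcq4 : orderOf cq = 4 := quat_orderOf_c (by omega) hn'
  set c0 : ↥T := e.symm cq with hc0
  have hc04 : orderOf (c0 : H) = 4 := by
    rw [Subgroup.orderOf_coe, ← hcq4]
    exact e.symm.orderOf_eq cq
  have hc0n : ∀ t : H, t ∈ T → t * (c0 : H) * t⁻¹ ∈ Subgroup.zpowers (c0 : H) := by
    intro t ht
    have h1 := quat_conj_c_mem (2 ^ k) (e ⟨t, ht⟩)
    obtain ⟨j, hj⟩ := Subgroup.mem_zpowers_iff.1 h1
    refine Subgroup.mem_zpowers_iff.2 ⟨j, ?_⟩
    have h2 := congrArg e.symm hj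
    rw [map_zpow, map_mul, map_mul, map_inv, e.symm_apply_apply] at h2
    have h3 := congrArg Subtype.val h2
    simpa only [Subgroup.coe_zpow, Subgroup.coe_mul, Subgroup.coe_inv] using h3
  -- `R` normalizes every cyclic subgroup of order four
  have hnorm : ∀ y : H, orderOf y = 4 → ∀ r ∈ R, r * y * r⁻¹ ∈ Subgroup.zpowers y := by
    intro y hy r hr
    obtain ⟨g, hg⟩ := hC4 y (c0 : H) hy hc04
    set y' := g * y * g⁻¹ with hy'
    have hoy' : orderOf y' = 4 := by
      rw [← hy]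
      exact (MulAut.conj g).orderOf_eq y
    have heq : Subgroup.zpowers y' = Subgroup.zpowers (c0 : H) := by
      apply Subgroup.eq_of_le_of_card_ge (Subgroup.zpowers_le.2 hg)
      rw [Nat.card_zpowers, Nat.card_zpowers, hoy', hc04]
    set r' := g * r * g⁻¹ with hr'
    have hr'R : r' ∈ R := hRn.conj_mem r hr g
    have h1 := hc0n r' (hRT hr'R)
    have h2 : r' * y' * r'⁻¹ ∈ Subgroup.zpowers (c0 : H) := conj_mem_zpowers h1 hg
    rw [← heq] at h2
    obtain ⟨j, hj⟩ := Subgroup.mem_zpowers_iff.1 h2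
    refine Subgroup.mem_zpowers_iff.2 ⟨j, ?_⟩
    have h3 : y' ^ j = g * y ^ j * g⁻¹ := by rw [hy', conj_zpow]
    have h4 : r' * y' * r'⁻¹ = g * (r * y * r⁻¹) * g⁻¹ := by
      rw [hr', hy']
      group
    rw [h3, h4] at hj
    exact mul_left_cancel (mul_right_cancel hj)
  -- the contradiction inside the quaternion group
  have hxa0 : orderOf ((e.symm (xa 0) : ↥T) : H) = 4 := by
    rw [Subgroup.orderOf_coe, e.symm.orderOf_eq, orderOf_xa]
  have hxa1 : orderOf ((e.symm (xa 1) : ↥T) : H) = 4 := by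
    rw [Subgroup.orderOf_coe, e.symm.orderOf_eq, orderOf_xa]
  have h1 := hnorm _ hxa0 _ (hall4 _ hxa1)
  obtain ⟨j, hj⟩ := Subgroup.mem_zpowers_iff.1 h1
  have h2 : (e.symm (xa 0) : ↥T) ^ j = e.symm (xa 1) * e.symm (xa 0) * (e.symm (xa 1))⁻¹ := by
    apply Subtype.ext
    simpa using hj
  have h3 := congrArg e h2
  rw [map_zpow, map_mul, map_mul, map_inv, e.apply_symm_apply, e.apply_symm_apply,
    quat_conj] at h3
  have h4 : (xa 2 : QuaternionGroup n) ∈ Subgroup.zpowers (xa 0 : QuaternionGroup n) :=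
    Subgroup.mem_zpowers_iff.2 ⟨j, h3⟩
  have h5 := quat_le_two h4
  have hn2 : n = 2 := by omega
  have hcard : Nat.card ↥T = Nat.card (QuaternionGroup n) := Nat.card_congr e.toEquiv
  rw [hcard, Nat.card_eq_fintype_card, QuaternionGroup.card, hn2]

end QPrime

end Cfsg.Agent.Lib.Helper8.BConj
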