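import Cfsg.Agent.Lib.Helper8.BConjH
import Cfsg.Agent.Lib.Helper5.KleinPairs

set_option autoImplicit false

/-! The prime two in solvable groups with conjugate abelian subgroups. -/

namespace Cfsg.Agent.Lib.Helper8.BConj

open Cfsg.Agent.Lib.Lead.UniqueP (UOP)
open Cfsg.Agent.Lib.Helper5.KleinPairs (kv card_kv mem_kv)

theorem uop_of_equiv {A B : Type*} [Group A] [Group B] (p : ℕ) (e : A ≃* B) (h : UOP p A) :
    UOP p B := by
  intro x y hx hy hx1
  have h1 := h (e.symm x) (e.symm y) (by rw [← map_pow, hx, map_one])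
    (by rw [← map_pow, hy, map_one])
    (fun h0 => hx1 (by
      have := congrArg e h0
      rwa [e.apply_symm_apply, map_one] at this))
  obtain ⟨k, hk⟩ := Subgroup.mem_zpowers_iff.1 h1
  refine Subgroup.mem_zpowers_iff.2 ⟨k, ?_⟩
  apply e.symm.injective
  rw [map_zpow]
  exact hk

/-- a nontrivial 2-element has a power of order two -/
theorem exists_pow_orderOf_two {G : Type*} [Group G] (x : G) (hx : ∃ k, x ^ 2 ^ k = 1)
    (h1 : x ≠ 1) : ∃ j : ℕ, orderOf (x ^ j) = 2 := by
  obtain ⟨k, hk⟩ := hx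
  obtain ⟨j, -, hj⟩ := (Nat.dvd_prime_pow Nat.prime_two).1 (orderOf_dvd_of_pow_eq_one hk)
  have hj1 : 1 ≤ j := by
    by_contra hlt
    rw [not_le, Nat.lt_one_iff] at hlt
    rw [hlt, pow_zero, orderOf_eq_one_iff] at hj
    exact h1 hj
  refine ⟨2 ^ (j - 1), ?_⟩
  have hd : 2 ^ (j - 1) ∣ orderOf x := by
    rw [hj]
    exact pow_dvd_pow 2 (by omega)
  rw [orderOf_pow_of_dvd (pow_ne_zero _ two_ne_zero) hd, hj, Nat.pow_div (by omega) (by norm_num)]
  have : j - (j - 1) = 1 := by omega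
  rw [this, pow_one]

section Lift
variable {G : Type*} [Group G] [Finite G] (N : Subgroup G) [N.Normal]

omit [Finite G] in
theorem exists_lift_orderOf_four (hN : Odd (Nat.card N)) (y' : G ⧸ N) (h : orderOf y' = 4) :
    ∃ y : G, (QuotientGroup.mk' N) y = y' ∧ orderOf y = 4 := by
  obtain ⟨y0, rfl⟩ := QuotientGroup.mk'_surjective N y'
  set n := Nat.card N with hn
  have h1 : y0 ^ 4 ∈ N := by
    rw [← QuotientGroup.eq_one_iff, QuotientGroup.mk_pow, ← h]
    exact pow_orderOf_eq_one _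
  have h2 : (y0 ^ 4) ^ n = 1 := by
    have h3 := pow_card_eq_one' (G := ↥N) (x := ⟨y0 ^ 4, h1⟩)
    have h4 := congrArg Subtype.val h3
    rw [Subgroup.coe_pow, Subgroup.coe_one] at h4
    exact h4
  obtain ⟨t, ht⟩ := hN
  have hnn : n * n = 4 * (t * t + t) + 1 := by rw [ht]; ring
  have hmk : (QuotientGroup.mk' N) (y0 ^ (n * n)) = (QuotientGroup.mk' N) y0 := by
    rw [map_pow, ← pow_mod_orderOf, h]
    have : n * n % 4 = 1 := by omega
    rw [this, pow_one]
  refine ⟨y0 ^ (n * n), hmk, ?_⟩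
  apply Nat.dvd_antisymm
  · apply orderOf_dvd_of_pow_eq_one
    rw [← pow_mul]
    have : n * n * 4 = 4 * n * n := by ring
    rw [this, pow_mul, pow_mul, h2, one_pow]
  · rw [← h, ← hmk]
    exact orderOf_map_dvd _ _

omit [Finite G] in
theorem c4conj_quotient (hN : Odd (Nat.card N)) (h : C4conj G) : C4conj (G ⧸ N) := by
  intro x' y' hx' hy'
  obtain ⟨x, rfl, hx⟩ := exists_lift_orderOf_four N hN x' hx'
  obtain ⟨y, rfl, hy⟩ := exists_lift_orderOf_four N hN y' hy'
  obtain ⟨g, hg⟩ := h x y hx hy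
  refine ⟨QuotientGroup.mk' N g, ?_⟩
  obtain ⟨j, hj⟩ := Subgroup.mem_zpowers_iff.1 hg
  refine Subgroup.mem_zpowers_iff.2 ⟨j, ?_⟩
  rw [← map_zpow, hj, map_mul, map_mul, map_inv]

theorem sylow_equiv_quotient (hN : Odd (Nat.card N)) (S : Sylow 2 G) :
    ∃ T : Sylow 2 (G ⧸ N), Nonempty (↥S ≃* ↥T) := by
  have hp2 : Fact (Nat.Prime 2) := ⟨Nat.prime_two⟩
  have hsurj := QuotientGroup.mk'_surjective N
  refine ⟨S.mapSurjective hsurj, ?_⟩
  have hcoe : ((S.mapSurjective hsurj : Sylow 2 (G ⧸ N)) : Subgroup (G ⧸ N)) =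
      (S : Subgroup G).map (QuotientGroup.mk' N) := Sylow.coe_mapSurjective hsurj S
  have hinj : Function.Injective ((QuotientGroup.mk' N).subgroupMap (S : Subgroup G)) := by
    rw [injective_iff_map_eq_one]
    intro s hs
    have h1 : (QuotientGroup.mk' N) (s : G) = 1 := congrArg Subtype.val hs
    have h2 : (s : G) ∈ N := by
      rwa [QuotientGroup.mk'_apply, QuotientGroup.eq_one_iff] at h1
    obtain ⟨k, hk⟩ := (IsPGroup.iff_orderOf.1 S.isPGroup') s
    have h3 : orderOf (s : G) ∣ Nat.card N := by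
      have := orderOf_dvd_natCard (⟨(s : G), h2⟩ : ↥N)
      rwa [Subgroup.orderOf_mk] at this
    rw [Subgroup.orderOf_coe, hk] at h3
    have hk0 : k = 0 := by
      by_contra hk0
      have : 2 ∣ Nat.card N := dvd_trans (dvd_pow_self 2 hk0) h3
      exact (Nat.not_even_iff_odd.2 hN) (even_iff_two_dvd.2 this)
    rw [hk0, pow_zero, orderOf_eq_one_iff] at hk
    exact hk
  let e1 : ↥(S : Subgroup G) ≃* ↥((S : Subgroup G).map (QuotientGroup.mk' N)) :=
    MulEquiv.ofBijective _ ⟨hinj, (QuotientGroup.mk' N).subgroupMap_surjective _⟩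
  exact ⟨e1.trans (MulEquiv.subgroupCongr hcoe.symm)⟩

end Lift

section E2
variable {G : Type*} [Group G] [Finite G]

theorem card_sylow_eq_eight [Group.IsSolvable G] (hC4 : C4conj G) (S : Sylow 2 G)
    (hU : UOP 2 ↥S) (hnc : ¬ IsCyclic ↥S) : Nat.card ↥S = 8 := by
  have hNn : (Cfsg.pPrimeCore 2 G).Normal := Cfsg.Agent.Lib.Helper1.pPrimeCore_normal 2
  have hNodd : Odd (Nat.card (Cfsg.pPrimeCore 2 G)) :=
    Nat.Coprime.odd_of_right (Cfsg.Agent.Lib.Helper1.pPrimeCore_card_coprime (G := G) 2)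
  obtain ⟨T, ⟨e⟩⟩ := sylow_equiv_quotient _ hNodd S
  have h8 := card_sylow_eq_eight_of_core (Cfsg.Agent.Lib.Helper1.pPrimeCore_quotient_eq_bot 2)
    (c4conj_quotient _ hNodd hC4) T (uop_of_equiv 2 e hU)
    (fun hc => hnc (isCyclic_of_surjective e.symm e.symm.surjective))
  rw [← h8]
  exact Nat.card_congr e.toEquiv

omit [Finite G] in
theorem c4conj_of_isB (hB : IsB G) : C4conj G := by
  intro x y hx hy
  have hcard : Nat.card (Subgroup.zpowers x) = Nat.card (Subgroup.zpowers y) := by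
    rw [Nat.card_zpowers, Nat.card_zpowers, hx, hy]
  obtain ⟨g, hg⟩ := hB (Subgroup.zpowers x) (Subgroup.zpowers y) inferInstance inferInstance hcard
  refine ⟨g, ?_⟩
  rw [hg]
  exact ⟨x, Subgroup.mem_zpowers x, rfl⟩

omit [Finite G] in
/-- once an element of order four exists, every abelian subgroup of order four has one -/
theorem exists_orderOf_four_mem (hB : IsB G) (y0 : G) (hy0 : orderOf y0 = 4) (V : Subgroup G)
    (hV : IsMulCommutative ↥V) (hcard : Nat.card V = 4) : ∃ v ∈ V, orderOf v = 4 := by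
  have hc : Nat.card V = Nat.card (Subgroup.zpowers y0) := by
    rw [Nat.card_zpowers, hy0, hcard]
  obtain ⟨g, hg⟩ := hB V (Subgroup.zpowers y0) hV inferInstance hc
  have : y0 ∈ V.map (MulAut.conj g).toMonoidHom := by
    rw [← hg]
    exact Subgroup.mem_zpowers y0
  obtain ⟨v, hv, rfl⟩ := this
  refine ⟨v, hv, ?_⟩
  rw [← hy0]
  exact ((MulAut.conj g).orderOf_eq v).symm

omit [Finite G] in
theorem commuting_involutions_eq (hB : IsB G) (y0 : G) (hy0 : orderOf y0 = 4) (s t : G)
    (hs : s * s = 1) (ht : t * t = 1) (hst : t * s = s * t) (hs1 : s ≠ 1) (ht1 : t ≠ 1) :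
    s = t := by
  by_contra hne
  have hp2 : Fact (Nat.Prime 2) := ⟨Nat.prime_two⟩
  have hcard := card_kv s t hs ht hst hs1 ht1 hne
  have hcomm : IsMulCommutative ↥(kv s t hs ht hst) :=
    IsPGroup.isMulCommutative_of_card_eq_prime_sq (p := 2) (by rw [hcard]; norm_num)
  obtain ⟨v, hv, hv4⟩ := exists_orderOf_four_mem hB y0 hy0 _ hcomm hcard
  have hvv : v * v = 1 := by
    rcases (mem_kv s t hs ht hst v).1 hv with rfl | rfl | rfl | rfl
    · rw [one_mul]
    · exact hs
    · exact ht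
    · calc s * t * (s * t) = s * (t * s) * t := by group
        _ = s * (s * t) * t := by rw [hst]
        _ = (s * s) * (t * t) := by group
        _ = 1 := by rw [hs, ht, one_mul]
  have h2 : orderOf v ∣ 2 := orderOf_dvd_of_pow_eq_one (by rw [pow_two]; exact hvv)
  rw [hv4] at h2
  norm_num at h2

theorem uop_sylow (hB : IsB G) (y0 : G) (hy0 : orderOf y0 = 4) (S : Sylow 2 G) : UOP 2 ↥S := by
  have hp2 : Fact (Nat.Prime 2) := ⟨Nat.prime_two⟩
  intro x y hx hy hx1
  have hnt : Nontrivial ↥S := ⟨⟨x, 1, hx1⟩⟩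
  have hcn := IsPGroup.center_nontrivial S.isPGroup'
  obtain ⟨c, hc1⟩ := exists_ne (1 : Subgroup.center ↥S)
  have hc1' : (c : ↥S) ≠ 1 := fun h => hc1 (Subtype.ext h)
  have hcel : ∃ k, (c : ↥S) ^ 2 ^ k = 1 := by
    obtain ⟨k, hk⟩ := (IsPGroup.iff_orderOf.1 S.isPGroup') (c : ↥S)
    exact ⟨k, by rw [← hk]; exact pow_orderOf_eq_one _⟩
  obtain ⟨j, hj⟩ := exists_pow_orderOf_two (c : ↥S) hcel hc1'
  set z : ↥S := (c : ↥S) ^ j with hz
  have hzc : z ∈ Subgroup.center ↥S := Subgroup.pow_mem _ c.2 j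
  have hz2 : z ^ 2 = 1 := by
    have := pow_orderOf_eq_one z
    rwa [hj] at this
  have hz1 : z ≠ 1 := by
    intro h
    rw [h, orderOf_one] at hj
    norm_num at hj
  have hzz : (z : G) * (z : G) = 1 := by
    have := congrArg Subtype.val hz2
    simpa [pow_two] using this
  have key : ∀ w : ↥S, w ^ 2 = 1 → w ≠ 1 → (z : G) = (w : G) := by
    intro w hw hw1
    have hww : (w : G) * (w : G) = 1 := by
      have := congrArg Subtype.val hw
      simpa [pow_two] using this
    have hcomm : (w : G) * (z : G) = (z : G) * (w : G) := by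
      have := Subgroup.mem_center_iff.1 hzc w
      have := congrArg Subtype.val this
      simpa using this
    exact commuting_involutions_eq hB y0 hy0 (z : G) (w : G) hzz hww hcomm
      (fun h => hz1 (Subtype.ext h)) (fun h => hw1 (Subtype.ext h))
  by_cases hy1 : y = 1
  · rw [hy1]
    exact Subgroup.one_mem _
  · have h1 := key x hx hx1
    have h2 := key y hy hy1
    have : y = x := Subtype.ext (h2.symm.trans h1)
    rw [this]
    exact Subgroup.mem_zpowers x

theorem sylow_cyclic_of_cyclic (p : ℕ) [Fact p.Prime] (S R : Sylow p G) (h : IsCyclic ↥S) :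
    IsCyclic ↥R := by
  obtain ⟨g, rfl⟩ := MulAction.exists_smul_eq G S R
  exact isCyclic_of_surjective (Sylow.equivSMul S g) (Sylow.equivSMul S g).surjective

theorem dichotomy_two [Group.IsSolvable G] (hB : IsB G) (M : Subgroup G) [M.Normal]
    (h2M : 2 ∣ Nat.card M) :
    (∀ R : Sylow 2 G, IsCyclic ↥R) ∨ (∀ x : G, (∃ k, x ^ (2 ^ k) = 1) → x ∈ M) ∨
      ((Nat.card M).factorization 2 = 1 ∧ (Nat.card G).factorization 2 = 3 ∧
        ∀ x : G, orderOf x = 2 → x ∈ M) := by
  have hp2 : Fact (Nat.Prime 2) := ⟨Nat.prime_two⟩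
  have hinv : ∀ x : G, orderOf x = 2 → x ∈ M :=
    fun x hx => mem_of_orderOf_eq_prime hB M 2 h2M x hx
  by_cases h4 : ∃ y0 : G, orderOf y0 = 4
  swap
  · right; left
    intro x hx
    have hsq : x ^ 2 = 1 := by
      by_contra hne
      obtain ⟨j, hj⟩ := exists_pow_orderOf_four x hx hne
      exact h4 ⟨_, hj⟩
    by_cases h1 : x = 1
    · rw [h1]
      exact M.one_mem
    · exact hinv x (orderOf_eq_prime hsq h1)
  obtain ⟨y0, hy0⟩ := h4
  have hC4 := c4conj_of_isB hB
  let S : Sylow 2 G := default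
  by_cases hcyc : IsCyclic ↥S
  · left
    intro R
    exact sylow_cyclic_of_cyclic 2 S R hcyc
  have hU := uop_sylow hB y0 hy0 S
  have h8 := card_sylow_eq_eight hC4 S hU hcyc
  have hfG : (Nat.card G).factorization 2 = 3 := by
    have h1 : Nat.card ↥S = 2 ^ (Nat.card G).factorization 2 := S.card_eq_multiplicity
    rw [h8] at h1
    have h2 : (2 : ℕ) ^ 3 = 2 ^ (Nat.card G).factorization 2 := by
      rw [← h1]
      norm_num
    exact (Nat.pow_right_injective (le_refl 2) h2).symm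
  by_cases hM4 : ∃ y ∈ M, orderOf y = 4
  · right; left
    obtain ⟨y, hyM, hy4⟩ := hM4
    intro x hx
    obtain ⟨k, hk⟩ := hx
    obtain ⟨j, -, hj⟩ := (Nat.dvd_prime_pow Nat.prime_two).1 (orderOf_dvd_of_pow_eq_one hk)
    have hjle : j ≤ 3 := by
      have h1 : 2 ^ j ∣ Nat.card G := by
        rw [← hj]
        exact orderOf_dvd_natCard x
      have := (Nat.prime_two.pow_dvd_iff_le_factorization Nat.card_pos.ne').1 h1
      omega
    have hj3 : j ≠ 3 := by
      intro h3
      apply hcyc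
      have hc : Nat.card (Subgroup.zpowers x) = 2 ^ (Nat.card G).factorization 2 := by
        rw [Nat.card_zpowers, hj, h3, hfG]
      let R : Sylow 2 G := Sylow.ofCard (Subgroup.zpowers x) hc
      have hR : IsCyclic ↥R := by
        show IsCyclic ↥(Subgroup.zpowers x)
        infer_instance
      exact sylow_cyclic_of_cyclic 2 R S hR
    interval_cases j
    · rw [pow_zero, orderOf_eq_one_iff] at hj
      rw [hj]
      exact M.one_mem
    · exact hinv x (by simpa using hj)
    · obtain ⟨g, hg⟩ := hC4 x y (by simpa using hj) hy4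
      have h1 : g * x * g⁻¹ ∈ M := (Subgroup.zpowers_le.2 hyM) hg
      have h2 := (inferInstance : M.Normal).conj_mem _ h1 g⁻¹
      have : g⁻¹ * (g * x * g⁻¹) * g⁻¹⁻¹ = x := by group
      rwa [this] at h2
    · exact absurd rfl hj3
  · right; right
    refine ⟨?_, hfG, hinv⟩
    have hM0 : Nat.card M ≠ 0 := Nat.card_pos.ne'
    have h1 : 1 ≤ (Nat.card M).factorization 2 :=
      (Nat.prime_two.dvd_iff_one_le_factorization hM0).1 h2M
    by_contra hne
    have h2 : 2 ≤ (Nat.card M).factorization 2 := by omega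
    have h3 : 2 ^ 2 ∣ Nat.card M := (Nat.prime_two.pow_dvd_iff_le_factorization hM0).2 h2
    obtain ⟨K, hK⟩ := Sylow.exists_subgroup_card_pow_prime 2 h3
    set V := K.map M.subtype with hV
    have hVcard : Nat.card V = 4 := by
      rw [hV, Subgroup.card_map_of_injective (Subgroup.subtype_injective _), hK]
      norm_num
    have hVc : IsMulCommutative ↥V :=
      IsPGroup.isMulCommutative_of_card_eq_prime_sq (p := 2) (by rw [hVcard]; norm_num)
    obtain ⟨v, hv, hv4⟩ := exists_orderOf_four_mem hB y0 hy0 V hVc hVcard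
    exact hM4 ⟨v, Subgroup.map_subtype_le _ hv, hv4⟩

/-- quotients of finite solvable groups with conjugate abelian subgroups of equal order -/
theorem isB_quotient_solvable [Group.IsSolvable G] (hB : IsB G) (M : Subgroup G) [M.Normal] :
    IsB (G ⧸ M) := by
  classical
  by_cases hfull : ∀ r : ℕ, r.Prime → r ∣ Nat.card M →
      (∀ R : Sylow r G, IsCyclic ↥R) ∨ (∀ x : G, (∃ k, x ^ (r ^ k) = 1) → x ∈ M)
  · exact isB_quotient M hfull hB
  have hT3 : 2 ∣ Nat.card M ∧ (Nat.card M).factorization 2 = 1 ∧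
      (Nat.card G).factorization 2 = 3 ∧ ∀ x : G, orderOf x = 2 → x ∈ M := by
    simp only [not_forall] at hfull
    obtain ⟨r, hr, hrM, hnot⟩ := hfull
    have := Fact.mk hr
    by_cases hr2 : r = 2
    · subst hr2
      rcases dichotomy_two hB M hrM with h | h | h
      · exact absurd (Or.inl h) hnot
      · exact absurd (Or.inr h) hnot
      · exact ⟨hrM, h⟩
    · exact absurd (dichotomy_odd hB M r hr2 hrM) hnot
  obtain ⟨h2M, hM2, hG2, hinv⟩ := hT3
  have hD' : ∀ Abar : Subgroup (G ⧸ M), (Nat.card ↥Abar).factorization 2 ≤ 1 →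
      ∀ r : ℕ, r.Prime → r ∣ Nat.card M → r ∣ Nat.card ↥Abar →
      (∀ R : Sylow r G, IsCyclic ↥R) ∨ (∀ x : G, (∃ k, x ^ (r ^ k) = 1) → x ∈ M) ∨
      (r = 2 ∧ (Nat.card M).factorization 2 = 1 ∧ (Nat.card ↥Abar).factorization 2 = 1 ∧
        ∀ x : G, orderOf x = 2 → x ∈ M) := by
    intro Abar hA2 r hr hrM hrA
    have := Fact.mk hr
    by_cases hr2 : r = 2
    · subst hr2
      right; right
      refine ⟨rfl, hM2, ?_, hinv⟩
      have : 1 ≤ (Nat.card ↥Abar).factorization 2 :=
        (Nat.prime_two.dvd_iff_one_le_factorization Nat.card_pos.ne').1 hrA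
      omega
    · rcases dichotomy_odd hB M r hr2 hrM with h | h
      · exact Or.inl h
      · exact Or.inr (Or.inl h)
  have hlow : ∀ Abar Bbar : Subgroup (G ⧸ M), IsMulCommutative ↥Abar → IsMulCommutative ↥Bbar →
      Nat.card ↥Abar = Nat.card ↥Bbar → (Nat.card ↥Abar).factorization 2 ≤ 1 →
      ∃ g : G ⧸ M, Bbar = Abar.map (MulAut.conj g).toMonoidHom := by
    intro Abar Bbar hA hBc hcard hA2
    apply conj_of_supp M hB Abar Bbar hcard
    · exact exists_supp3 M Abar hA (hD' Abar hA2)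
    · exact exists_supp3 M Bbar hBc (hD' Bbar (by rw [← hcard]; exact hA2))
  intro Abar Bbar hA hBc hcard
  by_cases hA2 : (Nat.card ↥Abar).factorization 2 ≤ 1
  · exact hlow Abar Bbar hA hBc hcard hA2
  · have hp2 : Fact (Nat.Prime 2) := ⟨Nat.prime_two⟩
    apply conj_of_sylow_top 2 ?_ Abar Bbar hA hBc hcard ?_
    · intro A' B' hA' hB' hc hnd
      apply hlow A' B' hA' hB' hc
      rw [Nat.factorization_eq_zero_of_not_dvd hnd]
      exact Nat.zero_le _
    · have hQ : (Nat.card (G ⧸ M)).factorization 2 = 2 := by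
        have h1 := Subgroup.card_eq_card_quotient_mul_card_subgroup M
        have h2 : (Nat.card G).factorization 2 =
            (Nat.card (G ⧸ M) * Nat.card M).factorization 2 := by rw [← h1]
        rw [Nat.factorization_mul Nat.card_pos.ne' Nat.card_pos.ne', Finsupp.add_apply, hG2,
          hM2] at h2
        omega
      have hle : (Nat.card ↥Abar).factorization 2 ≤ (Nat.card (G ⧸ M)).factorization 2 :=
        (Nat.factorization_le_iff_dvd Nat.card_pos.ne' Nat.card_pos.ne').2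
          (Subgroup.card_subgroup_dvd_card Abar) 2
      omega

end E2

end Cfsg.Agent.Lib.Helper8.BConj
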