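import Mathlib
import Cfsg.Agent.Lib.Helper8.BS1
import Cfsg.Agent.Lib.Helper1.CoprimeSylow

/-! Brauer–Suzuki, part 2: the quaternion Sylow subgroup inside `G`. -/
set_option autoImplicit false
open scoped commutatorElement

namespace Cfsg.Agent.Lib.Helper8.BS

open QuaternionGroup

variable {G : Type*} [Group G] {m : ℕ} [NeZero m]

/-- the embedding of the quaternion group as the subgroup `S` -/
def emb (S : Subgroup G) (e : S ≃* QuaternionGroup m) : QuaternionGroup m →* G :=
  S.subtype.comp e.symm.toMonoidHom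

theorem emb_apply (S : Subgroup G) (e : S ≃* QuaternionGroup m) (q : QuaternionGroup m) :
    emb S e q = ((e.symm q : S) : G) := rfl

theorem emb_injective (S : Subgroup G) (e : S ≃* QuaternionGroup m) :
    Function.Injective (emb S e) := by
  intro p q h
  exact e.symm.injective (Subtype.ext h)

theorem emb_mem (S : Subgroup G) (e : S ≃* QuaternionGroup m) (q : QuaternionGroup m) :
    emb S e q ∈ S := (e.symm q).2

theorem exists_emb_eq (S : Subgroup G) (e : S ≃* QuaternionGroup m) {s : G} (hs : s ∈ S) :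
    ∃ q, emb S e q = s := ⟨e ⟨s, hs⟩, by rw [emb_apply, MulEquiv.symm_apply_apply]⟩

/-- the commutator subgroup of `S` -/
def DG (S : Subgroup G) (e : S ≃* QuaternionGroup m) : Subgroup G := (Dq m).map (emb S e)

/-- the cyclic subgroup of index two of `S` -/
def TG (S : Subgroup G) (e : S ≃* QuaternionGroup m) : Subgroup G := (Tq m).map (emb S e)

theorem TG_le (S : Subgroup G) (e : S ≃* QuaternionGroup m) : TG S e ≤ S := by
  rintro _ ⟨q, _, rfl⟩
  exact emb_mem S e q

theorem DG_le_TG (S : Subgroup G) (e : S ≃* QuaternionGroup m) : DG S e ≤ TG S e :=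
  Subgroup.map_mono Dq_le_Tq

theorem DG_eq_zpowers (S : Subgroup G) (e : S ≃* QuaternionGroup m) :
    DG S e = Subgroup.zpowers (emb S e (a 2)) := by
  unfold DG
  rw [Dq_eq_zpowers, MonoidHom.map_zpowers]

theorem orderOf_emb (S : Subgroup G) (e : S ≃* QuaternionGroup m) (q : QuaternionGroup m) :
    orderOf (emb S e q) = orderOf q := orderOf_injective _ (emb_injective S e) q

theorem card_DG [Finite G] (S : Subgroup G) (e : S ≃* QuaternionGroup m) :
    Nat.card (DG S e) = m := by
  unfold DG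
  rw [Subgroup.card_map_of_injective (emb_injective S e), card_Dq]

theorem card_TG [Finite G] (S : Subgroup G) (e : S ≃* QuaternionGroup m) :
    Nat.card (TG S e) = 2 * m := by
  unfold TG
  rw [Subgroup.card_map_of_injective (emb_injective S e), card_Tq]

theorem isCyclic_TG (S : Subgroup G) (e : S ≃* QuaternionGroup m) : IsCyclic (TG S e) := by
  haveI := isCyclic_Tq (m := m)
  exact isCyclic_of_surjective ((Tq m).equivMapOfInjective (emb S e) (emb_injective S e))
    ((Tq m).equivMapOfInjective (emb S e) (emb_injective S e)).surjective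

theorem DG_eq_commutator (S : Subgroup G) (e : S ≃* QuaternionGroup m) :
    DG S e = ⁅S, S⁆ := by
  apply le_antisymm
  · rw [DG_eq_zpowers, Subgroup.zpowers_le, a_two_eq_commutator, map_mul, map_mul, map_mul,
      map_inv, map_inv]
    exact Subgroup.commutator_mem_commutator (emb_mem S e _) (emb_mem S e _)
  · rw [Subgroup.commutator_le]
    intro g₁ h₁ g₂ h₂
    obtain ⟨q₁, rfl⟩ := exists_emb_eq S e h₁
    obtain ⟨q₂, rfl⟩ := exists_emb_eq S e h₂
    rw [commutatorElement_def, ← map_inv, ← map_inv, ← map_mul, ← map_mul, ← map_mul]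
    exact Subgroup.mem_map_of_mem _ (commutator_mem_Dq q₁ q₂)

theorem Dq_conj_mem (p q : QuaternionGroup m) (hq : q ∈ Dq m) : p * q * p⁻¹ ∈ Dq m := by
  have h := commutator_mem_Dq p q
  have e : p * q * p⁻¹ = p * q * p⁻¹ * q⁻¹ * q := by group
  rw [e]
  exact (Dq m).mul_mem h hq

theorem S_le_normalizer_DG (S : Subgroup G) (e : S ≃* QuaternionGroup m) :
    S ≤ Subgroup.normalizer (DG S e : Set G) := by
  apply Cfsg.Agent.Lib.Helper1.le_normalizer_of_conj_mem
  intro s hs x hx
  obtain ⟨p, rfl⟩ := exists_emb_eq S e hs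
  obtain ⟨q, hq, rfl⟩ := hx
  rw [← map_inv, ← map_mul, ← map_mul]
  exact Subgroup.mem_map_of_mem _ (Dq_conj_mem p q hq)

theorem TG_le_centralizer_DG (S : Subgroup G) (e : S ≃* QuaternionGroup m) :
    TG S e ≤ Subgroup.centralizer (DG S e : Set G) := by
  rintro _ ⟨p, ⟨i, rfl⟩, rfl⟩
  rw [Subgroup.mem_centralizer_iff]
  rintro _ ⟨q, ⟨j, rfl⟩, rfl⟩
  rw [← map_mul, ← map_mul, a_mul_a, a_mul_a, add_comm]

theorem S_inf_centralizer_DG (hm : 2 < m) (S : Subgroup G) (e : S ≃* QuaternionGroup m) :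
    S ⊓ Subgroup.centralizer (DG S e : Set G) = TG S e := by
  apply le_antisymm
  · rintro s ⟨hs, hc⟩
    obtain ⟨q, rfl⟩ := exists_emb_eq S e hs
    have hc' := Subgroup.mem_centralizer_iff.mp hc (emb S e (a 2))
      (Subgroup.mem_map_of_mem _ ⟨1, by rw [mul_one]⟩)
    rw [← map_mul, ← map_mul] at hc'
    have := emb_injective S e hc'
    exact Subgroup.mem_map_of_mem _ (mem_Tq_of_commute_a_two hm q this.symm)
  · exact le_inf (TG_le S e) (TG_le_centralizer_DG S e)

/-- elements of `S` outside `TG` invert `TG` -/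
theorem conj_inv_of_not_mem_TG (S : Subgroup G) (e : S ≃* QuaternionGroup m) {s t : G}
    (hs : s ∈ S) (hsT : s ∉ TG S e) (ht : t ∈ TG S e) : s * t * s⁻¹ = t⁻¹ := by
  obtain ⟨q, rfl⟩ := exists_emb_eq S e hs
  obtain ⟨p, ⟨i, rfl⟩, rfl⟩ := ht
  cases q with
  | a j => exact absurd (Subgroup.mem_map_of_mem _ (a_mem_Tq j)) hsT
  | xa j =>
    rw [← map_inv, ← map_mul, ← map_mul, ← map_inv, xa_conj_a, inv_a]

/-- the involution of `S` -/
theorem orderOf_emb_a_m (S : Subgroup G) (e : S ≃* QuaternionGroup m) :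
    orderOf (emb S e (a (m : ZMod (2 * m)))) = 2 := by
  rw [orderOf_emb, orderOf_a_m]

theorem eq_of_orderOf_eq_two (S : Subgroup G) (e : S ≃* QuaternionGroup m) {s : G} (hs : s ∈ S)
    (h2 : orderOf s = 2) : s = emb S e (a (m : ZMod (2 * m))) := by
  obtain ⟨q, rfl⟩ := exists_emb_eq S e hs
  rw [orderOf_emb] at h2
  rw [eq_a_m_of_orderOf_eq_two q h2]

theorem mem_center_S (hm : 1 < m) (S : Subgroup G) (e : S ≃* QuaternionGroup m) {s : G}
    (hs : s ∈ S) (hc : ∀ x ∈ S, x * s = s * x) :
    s = 1 ∨ s = emb S e (a (m : ZMod (2 * m))) := by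
  obtain ⟨q, rfl⟩ := exists_emb_eq S e hs
  have : ∀ p : QuaternionGroup m, p * q = q * p := by
    intro p
    apply emb_injective S e
    rw [map_mul, map_mul]
    exact hc _ (emb_mem S e p)
  rcases eq_of_mem_center hm q this with h | h
  · left; rw [h, map_one]
  · right; rw [h]

/-- the generator `emb (a 1)` of `TG` -/
theorem TG_eq_zpowers (S : Subgroup G) (e : S ≃* QuaternionGroup m) :
    TG S e = Subgroup.zpowers (emb S e (a 1)) := by
  apply le_antisymm
  · rintro _ ⟨p, ⟨i, rfl⟩, rfl⟩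
    have : (a i : QuaternionGroup m) = (a 1) ^ i.val := by
      rw [a_one_pow, ZMod.natCast_zmod_val]
    rw [this, map_pow]
    exact Subgroup.npow_mem_zpowers _ _
  · rw [Subgroup.zpowers_le]
    exact Subgroup.mem_map_of_mem _ (a_mem_Tq 1)

theorem emb_a_two_eq_sq (S : Subgroup G) (e : S ≃* QuaternionGroup m) :
    emb S e (a 2) = (emb S e (a 1)) ^ 2 := by
  rw [← map_pow, a_one_pow]
  norm_num

theorem card_S [Finite G] (S : Subgroup G) (e : S ≃* QuaternionGroup m) :
    Nat.card S = 4 * m := by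
  rw [Nat.card_congr e.toEquiv, Nat.card_eq_fintype_card, QuaternionGroup.card]

end Cfsg.Agent.Lib.Helper8.BS
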