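import Mathlib
import Cfsg.Agent.Lib.Helper8.BS2
import Cfsg.Agent.Lib.Helper7.HSubC
import Cfsg.Agent.Lib.Helper1.SubnormalSylow
import Cfsg.Agent.Lib.Helper1.NormalPComplement

/-! Brauer–Suzuki, part 3: the local structure of `C_G(D)` and `N_G(D)`. -/
set_option autoImplicit false
open scoped commutatorElement

namespace Cfsg.Agent.Lib.Helper8.BS

open QuaternionGroup

variable {G : Type*} [Group G] {m : ℕ} [NeZero m]

/-- the centralizer of a subgroup is normalized by its normalizer -/
theorem conj_mem_centralizer_of_mem_normalizer (D : Subgroup G) {n c : G}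
    (hn : n ∈ Subgroup.normalizer (D : Set G)) (hc : c ∈ Subgroup.centralizer (D : Set G)) :
    n * c * n⁻¹ ∈ Subgroup.centralizer (D : Set G) := by
  rw [Subgroup.mem_centralizer_iff]
  intro x hx
  have hn' : n⁻¹ ∈ Subgroup.normalizer (D : Set G) := Subgroup.inv_mem _ hn
  have hx' : n⁻¹ * x * n⁻¹⁻¹ ∈ D := (Subgroup.mem_normalizer_iff.mp hn' x).mp hx
  have hc' := Subgroup.mem_centralizer_iff.mp hc _ hx'
  have e1 : x * (n * c * n⁻¹) = n * ((n⁻¹ * x * n⁻¹⁻¹) * c) * n⁻¹ := by group
  have e2 : n * c * n⁻¹ * x = n * (c * (n⁻¹ * x * n⁻¹⁻¹)) * n⁻¹ := by group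
  rw [e1, e2, hc']

theorem centralizer_subgroupOf_normal (D : Subgroup G) :
    ((Subgroup.centralizer (D : Set G)).subgroupOf (Subgroup.normalizer (D : Set G))).Normal := by
  constructor
  intro c hc n
  rw [Subgroup.mem_subgroupOf] at hc ⊢
  simp only [Subgroup.coe_mul, Subgroup.coe_inv]
  exact conj_mem_centralizer_of_mem_normalizer D n.2 hc

section

variable [Finite G] (S : Sylow 2 G) (e : (S : Subgroup G) ≃* QuaternionGroup m)

theorem TG_relIndex_centralizer (hm : 2 < m) :
    ¬ 2 ∣ (TG (S : Subgroup G) e).relIndex (Subgroup.centralizer (DG (S : Subgroup G) e : Set G)) := by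
  haveI : Fact (Nat.Prime 2) := ⟨Nat.prime_two⟩
  set D := DG (S : Subgroup G) e with hD
  set C := Subgroup.centralizer (D : Set G) with hC
  set N := Subgroup.normalizer (D : Set G) with hN
  have hSN : (S : Subgroup G) ≤ N := S_le_normalizer_DG _ e
  have hCN : C ≤ N := Subgroup.centralizer_le_normalizer _
  haveI : (C.subgroupOf N).Normal := centralizer_subgroupOf_normal D
  have h := Cfsg.Agent.Lib.Helper1.not_dvd_relIndex_of_isSubnormal 2 (S.subtype hSN)
    (Subgroup.Normal.isSubnormal (H := C.subgroupOf N) inferInstance)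
  rw [Sylow.coe_subtype, Subgroup.relIndex_subgroupOf hCN] at h
  rw [← S_inf_centralizer_DG hm, Subgroup.inf_relIndex_right]
  exact h

/-- a power of each element of the normalizer of `D` centralizes `D` -/
theorem pow_totient_mem_centralizer {n : G}
    (hn : n ∈ Subgroup.normalizer (DG (S : Subgroup G) e : Set G)) :
    n ^ (Nat.totient m) ∈ Subgroup.centralizer (DG (S : Subgroup G) e : Set G) := by
  set d := emb (S : Subgroup G) e (a 2) with hd
  have hDz : DG (S : Subgroup G) e = Subgroup.zpowers d := DG_eq_zpowers _ e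
  have hod : orderOf d = m := by rw [hd, orderOf_emb, orderOf_a_two]
  have hmpos : 0 < m := Nat.pos_of_ne_zero (NeZero.ne m)
  have hdD : d ∈ DG (S : Subgroup G) e := by rw [hDz]; exact Subgroup.mem_zpowers d
  have hnd : n * d * n⁻¹ ∈ Subgroup.zpowers d := by
    rw [← hDz]; exact (Subgroup.mem_normalizer_iff.mp hn d).mp hdD
  obtain ⟨j, hj⟩ := (Submonoid.mem_powers_iff _ _).mp (mem_powers_iff_mem_zpowers.mpr hnd)
  have hpow : ∀ k : ℕ, n ^ k * d * (n ^ k)⁻¹ = d ^ (j ^ k) := by
    intro k
    induction k with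
    | zero => simp
    | succ k ih =>
      have e1 : n ^ (k + 1) * d * (n ^ (k + 1))⁻¹ = n * (n ^ k * d * (n ^ k)⁻¹) * n⁻¹ := by
        rw [pow_succ']; group
      rw [e1, ih]
      have e2 : n * d ^ (j ^ k) * n⁻¹ = (n * d * n⁻¹) ^ (j ^ k) := by
        rw [conj_pow]
      rw [e2, ← hj, ← pow_mul, pow_succ']
  have hcop : Nat.Coprime j m := by
    have h1 : orderOf (d ^ j) = orderOf d := by
      rw [hj]
      have : n * d * n⁻¹ = MulAut.conj n d := by simp
      rw [this, MulEquiv.orderOf_eq]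
    rw [orderOf_pow, hod] at h1
    have h2 : Nat.gcd m j = 1 := (Nat.div_eq_self.mp h1).resolve_left hmpos.ne'
    exact Nat.coprime_comm.mp h2
  have hmod := Nat.ModEq.pow_totient hcop
  have hfix : n ^ (Nat.totient m) * d * (n ^ (Nat.totient m))⁻¹ = d := by
    rw [hpow]
    have : d ^ (j ^ Nat.totient m) = d ^ 1 := by
      rw [pow_eq_pow_iff_modEq, hod]; exact hmod
    rw [this, pow_one]
  have hcomm : Commute d (n ^ (Nat.totient m)) := by
    have : n ^ (Nat.totient m) * d = d * n ^ (Nat.totient m) := by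
      have := congrArg (fun t => t * n ^ (Nat.totient m)) hfix
      simpa using this
    exact this.symm
  rw [hDz, Subgroup.mem_centralizer_iff]
  intro h hh
  obtain ⟨k, rfl⟩ := Subgroup.mem_zpowers_iff.mp hh
  exact (hcomm.zpow_left k).eq

theorem centralizer_sup_S (hm2 : ∃ k, m = 2 ^ k) :
    Subgroup.centralizer (DG (S : Subgroup G) e : Set G) ⊔ (S : Subgroup G) =
      Subgroup.normalizer (DG (S : Subgroup G) e : Set G) := by
  haveI : Fact (Nat.Prime 2) := ⟨Nat.prime_two⟩
  set D := DG (S : Subgroup G) e with hD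
  set C := Subgroup.centralizer (D : Set G) with hC
  set N := Subgroup.normalizer (D : Set G) with hN
  have hSN : (S : Subgroup G) ≤ N := S_le_normalizer_DG _ e
  have hCN : C ≤ N := Subgroup.centralizer_le_normalizer _
  haveI hCNn : (C.subgroupOf N).Normal := centralizer_subgroupOf_normal D
  apply le_antisymm (sup_le hCN hSN)
  obtain ⟨k, hk⟩ := hm2
  -- the quotient is a 2-group
  have hpg : IsPGroup 2 (↥N ⧸ C.subgroupOf N) := by
    intro x
    obtain ⟨n, rfl⟩ := QuotientGroup.mk_surjective x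
    have h1 := pow_totient_mem_centralizer S e n.2
    have htot : ∃ i, Nat.totient m = 2 ^ i := by
      rcases Nat.eq_zero_or_pos k with h0 | h0
      · refine ⟨0, ?_⟩
        rw [hk, h0]; simp
      · refine ⟨k - 1, ?_⟩
        rw [hk, Nat.totient_prime_pow Nat.prime_two h0]; simp
    obtain ⟨i, hi⟩ := htot
    refine ⟨i, ?_⟩
    rw [← QuotientGroup.mk_pow, QuotientGroup.eq_one_iff, Subgroup.mem_subgroupOf,
      Subgroup.coe_pow, ← hi]
    exact h1
  obtain ⟨j, hj⟩ := IsPGroup.iff_card.mp hpg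
  have hidxC : (C.subgroupOf N).index = 2 ^ j := by rw [Subgroup.index_eq_card]; exact hj
  have hidxS : ¬ 2 ∣ ((S : Subgroup G).subgroupOf N).index := by
    intro h2
    apply S.not_dvd_index
    rw [← Subgroup.relIndex_mul_index hSN]
    exact Dvd.dvd.mul_right h2 _
  have hsup : C.subgroupOf N ⊔ (S : Subgroup G).subgroupOf N = ⊤ := by
    rw [← Subgroup.index_eq_one]
    have h1 : (C.subgroupOf N ⊔ (S : Subgroup G).subgroupOf N).index ∣ 2 ^ j := by
      rw [← hidxC]; exact Subgroup.index_dvd_of_le le_sup_left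
    have h2 : (C.subgroupOf N ⊔ (S : Subgroup G).subgroupOf N).index ∣
        ((S : Subgroup G).subgroupOf N).index := Subgroup.index_dvd_of_le le_sup_right
    obtain ⟨i, _, hi⟩ := (Nat.dvd_prime_pow Nat.prime_two).mp h1
    rcases Nat.eq_zero_or_pos i with h0 | h0
    · rw [hi, h0, pow_zero]
    · exfalso
      apply hidxS
      refine dvd_trans ?_ h2
      rw [hi]
      exact dvd_pow_self 2 (by omega)
  rw [← Subgroup.subgroupOf_sup hCN hSN, Subgroup.subgroupOf_eq_top] at hsup
  exact hsup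

theorem centralizer_index_normalizer (hm : 2 < m) (hm2 : ∃ k, m = 2 ^ k) :
    ((Subgroup.centralizer (DG (S : Subgroup G) e : Set G)).subgroupOf
      (Subgroup.normalizer (DG (S : Subgroup G) e : Set G))).index = 2 := by
  set D := DG (S : Subgroup G) e with hD
  set C := Subgroup.centralizer (D : Set G) with hC
  set N := Subgroup.normalizer (D : Set G) with hN
  have hSN : (S : Subgroup G) ≤ N := S_le_normalizer_DG _ e
  have hCN : C ≤ N := Subgroup.centralizer_le_normalizer _
  haveI hCNn : (C.subgroupOf N).Normal := centralizer_subgroupOf_normal D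
  have hsup : (S : Subgroup G).subgroupOf N ⊔ C.subgroupOf N = ⊤ := by
    rw [← Subgroup.subgroupOf_sup hSN hCN, Subgroup.subgroupOf_eq_top, sup_comm,
      centralizer_sup_S S e hm2]
  rw [← Subgroup.relIndex_top_right, ← hsup, Subgroup.relIndex_sup_right,
    Subgroup.relIndex_subgroupOf hSN, ← Subgroup.inf_relIndex_right, inf_comm,
    S_inf_centralizer_DG hm]
  have h1 := ((TG (S : Subgroup G) e).subgroupOf (S : Subgroup G)).index_mul_card
  rw [Cfsg.Agent.Lib.Helper1.card_subgroupOf_of_le (TG_le _ e), card_TG, card_S _ e] at h1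
  have hmpos : 0 < m := Nat.pos_of_ne_zero (NeZero.ne m)
  unfold Subgroup.relIndex
  nlinarith

/-- The normal 2-complement of the centralizer of `D`. -/
theorem exists_normal_complement_centralizer (hm : 2 < m) :
    ∃ K₀ : Subgroup ↥(Subgroup.centralizer (DG (S : Subgroup G) e : Set G)),
      K₀.Normal ∧ (∀ x, x ∈ K₀ ↔ Nat.Coprime (orderOf x) 2) ∧
      K₀.IsComplement' ((TG (S : Subgroup G) e).subgroupOf
        (Subgroup.centralizer (DG (S : Subgroup G) e : Set G))) ∧ Odd (Nat.card K₀) := by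
  haveI : Fact (Nat.Prime 2) := ⟨Nat.prime_two⟩
  set D := DG (S : Subgroup G) e with hD
  set C := Subgroup.centralizer (D : Set G) with hC
  set T := TG (S : Subgroup G) e with hT
  have hTC : T ≤ C := TG_le_centralizer_DG _ e
  have hT2 : IsPGroup 2 (T.subgroupOf C) := (S.2.to_le (TG_le _ e)).comap_subtype
  have hidx : ¬ 2 ∣ (T.subgroupOf C).index := TG_relIndex_centralizer S e hm
  let PC : Sylow 2 ↥C := hT2.toSylow hidx
  have hPC : (PC : Subgroup ↥C) = T.subgroupOf C := rfl
  haveI hcycT : IsCyclic T := isCyclic_TG _ e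
  have hcyc : IsCyclic ↥(PC : Subgroup ↥C) := by
    rw [hPC]
    exact isCyclic_of_surjective (Subgroup.subgroupOfEquivOfLe hTC).symm
      (Subgroup.subgroupOfEquivOfLe hTC).symm.surjective
  have hnpc := Cfsg.Agent.Lib.Helper7.hasNormalPComplement_of_isCyclic_sylow PC
    (fun q hq _ => hq.two_le) hcyc
  obtain ⟨K₀, hK₀n, hK₀c⟩ := (Cfsg.Agent.Lib.Helper1.hasNormalPComplement_iff PC).mp hnpc
  refine ⟨K₀, hK₀n, ?_, hK₀c, ?_⟩
  · intro x
    haveI := hK₀n
    exact Cfsg.Agent.Lib.Helper1.mem_normal_complement_iff PC K₀ hK₀c x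
  · have h1 : Nat.card K₀ = (PC : Subgroup ↥C).index := hK₀c.index_eq_card.symm
    rw [h1, hPC]
    exact Nat.odd_iff.mpr (by omega)

end

end Cfsg.Agent.Lib.Helper8.BS
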