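import Mathlib
import Cfsg.Agent.Lib.Helper8.BS3

/-! Brauer–Suzuki, part 4: the normal complement `K`, and the TI-set `X`. -/
set_option autoImplicit false
open scoped commutatorElement Pointwise

namespace Cfsg.Agent.Lib.Helper8.BS

open QuaternionGroup

/-- In a finite cyclic group, divisibility of orders gives inclusion of subgroups. -/
theorem le_of_card_dvd_of_isCyclic {T : Type*} [Group T] [Finite T] [IsCyclic T]
    (A B : Subgroup T) (h : Nat.card A ∣ Nat.card B) : A ≤ B := by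
  classical
  haveI : Fintype T := Fintype.ofFinite T
  have hBpos : 0 < Nat.card B := Nat.card_pos
  have hle := IsCyclic.card_pow_eq_one_le (α := T) hBpos
  set F : Finset T := Finset.univ.filter (fun x : T => x ^ Nat.card B = 1) with hF
  have hBF : (B : Set T).toFinset ⊆ F := by
    intro x hx
    rw [Set.mem_toFinset] at hx
    rw [hF, Finset.mem_filter]
    refine ⟨Finset.mem_univ _, ?_⟩
    have := pow_card_eq_one' (G := B) (x := ⟨x, hx⟩)
    exact congrArg Subtype.val this
  have hBcard : ((B : Set T).toFinset).card = Nat.card B := by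
    rw [Set.toFinset_card, Nat.card_eq_fintype_card]
    rfl
  have hEq : (B : Set T).toFinset = F :=
    Finset.eq_of_subset_of_card_le hBF (by rw [hBcard]; convert hle)
  intro x hx
  have hxF : x ∈ F := by
    rw [hF, Finset.mem_filter]
    refine ⟨Finset.mem_univ _, ?_⟩
    obtain ⟨c, hc⟩ := h
    have h1 := pow_card_eq_one' (G := A) (x := ⟨x, hx⟩)
    have h2 : x ^ Nat.card A = 1 := congrArg Subtype.val h1
    rw [hc, pow_mul, h2, one_pow]
  rw [← hEq, Set.mem_toFinset] at hxF
  exact hxF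

variable {G : Type*} [Group G]

/-- the same inside a cyclic subgroup -/
theorem le_of_card_dvd_of_le_isCyclic [Finite G] (Z : Subgroup G) [IsCyclic Z]
    (A B : Subgroup G) (hA : A ≤ Z) (hB : B ≤ Z) (h : Nat.card A ∣ Nat.card B) : A ≤ B := by
  have h1 : A.subgroupOf Z ≤ B.subgroupOf Z := by
    apply le_of_card_dvd_of_isCyclic
    rw [Cfsg.Agent.Lib.Helper1.card_subgroupOf_of_le hA,
      Cfsg.Agent.Lib.Helper1.card_subgroupOf_of_le hB]
    exact h
  intro x hx
  exact h1 (show (⟨x, hA hx⟩ : Z) ∈ A.subgroupOf Z from hx)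

variable {m : ℕ} [NeZero m]

section

variable [Finite G] (S : Sylow 2 G) (e : (S : Subgroup G) ≃* QuaternionGroup m)

theorem normalizer_le_normalizer_K
    (K₀ : Subgroup ↥(Subgroup.centralizer (DG (S : Subgroup G) e : Set G)))
    (hK₀ : ∀ x, x ∈ K₀ ↔ Nat.Coprime (orderOf x) 2) :
    Subgroup.normalizer (DG (S : Subgroup G) e : Set G) ≤
      Subgroup.normalizer
        ((K₀.map (Subgroup.centralizer (DG (S : Subgroup G) e : Set G)).subtype : Subgroup G) :
          Set G) := by
  apply Cfsg.Agent.Lib.Helper1.le_normalizer_of_conj_mem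
  rintro n hn _ ⟨x₀, hx₀, rfl⟩
  have hc := conj_mem_centralizer_of_mem_normalizer (DG (S : Subgroup G) e) hn x₀.2
  refine ⟨⟨n * x₀ * n⁻¹, hc⟩, ?_, rfl⟩
  have hx₀' := (hK₀ x₀).mp hx₀
  show (⟨n * x₀ * n⁻¹, hc⟩ : ↥(Subgroup.centralizer (DG (S : Subgroup G) e : Set G))) ∈ K₀
  rw [hK₀, Subgroup.orderOf_mk]
  have : n * (x₀ : G) * n⁻¹ = MulAut.conj n (x₀ : G) := by simp
  rw [this, MulEquiv.orderOf_eq, Subgroup.orderOf_coe]
  exact hx₀'

theorem K_sup_TG
    (K₀ : Subgroup ↥(Subgroup.centralizer (DG (S : Subgroup G) e : Set G)))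
    (hK₀c : K₀.IsComplement' ((TG (S : Subgroup G) e).subgroupOf
        (Subgroup.centralizer (DG (S : Subgroup G) e : Set G)))) :
    K₀.map (Subgroup.centralizer (DG (S : Subgroup G) e : Set G)).subtype ⊔ TG (S : Subgroup G) e
      = Subgroup.centralizer (DG (S : Subgroup G) e : Set G) := by
  have h := congrArg (Subgroup.map (Subgroup.centralizer (DG (S : Subgroup G) e : Set G)).subtype)
    hK₀c.sup_eq_top
  rw [Subgroup.map_sup, Subgroup.map_subgroupOf_eq_of_le (TG_le_centralizer_DG _ e),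
    ← MonoidHom.range_eq_map, Subgroup.range_subtype] at h
  exact h

/-- The local structure theorem. -/
theorem local_structure (hm : 2 < m) (hm2 : ∃ k, m = 2 ^ k) :
    ∃ K : Subgroup G, Odd (Nat.card K) ∧
      K ≤ Subgroup.centralizer (DG (S : Subgroup G) e : Set G) ∧
      Subgroup.normalizer (DG (S : Subgroup G) e : Set G) ≤ Subgroup.normalizer (K : Set G) ∧
      K ⊔ (S : Subgroup G) = Subgroup.normalizer (DG (S : Subgroup G) e : Set G) ∧
      K ⊔ ((S : Subgroup G) ⊓ Subgroup.centralizer (DG (S : Subgroup G) e : Set G)) =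
        Subgroup.centralizer (DG (S : Subgroup G) e : Set G) ∧
      ((Subgroup.centralizer (DG (S : Subgroup G) e : Set G)).subgroupOf
        (Subgroup.normalizer (DG (S : Subgroup G) e : Set G))).index = 2 := by
  obtain ⟨K₀, hK₀n, hK₀mem, hK₀c, hK₀odd⟩ := exists_normal_complement_centralizer S e hm
  refine ⟨K₀.map (Subgroup.centralizer (DG (S : Subgroup G) e : Set G)).subtype, ?_,
    Subgroup.map_subtype_le _, normalizer_le_normalizer_K S e K₀ hK₀mem, ?_, ?_,
    centralizer_index_normalizer S e hm hm2⟩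
  · rw [Subgroup.card_map_of_injective (Subgroup.subtype_injective _)]
    exact hK₀odd
  · have h1 := K_sup_TG S e K₀ hK₀c
    refine Eq.trans ?_ (centralizer_sup_S S e hm2)
    conv_rhs => rw [← h1]
    rw [sup_assoc, sup_eq_right.mpr (TG_le (S : Subgroup G) e)]
  · rw [S_inf_centralizer_DG hm]
    exact K_sup_TG S e K₀ hK₀c

/-- `D` lies in the cyclic group generated by any element of `X`. -/
theorem DG_le_zpowers (hm : 2 < m) (hm2 : ∃ k, m = 2 ^ k) {y : G}
    (hy : y ∈ Subgroup.centralizer (DG (S : Subgroup G) e : Set G)) (hdvd : m ∣ orderOf y) :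
    DG (S : Subgroup G) e ≤ Subgroup.zpowers y := by
  haveI : Fact (Nat.Prime 2) := ⟨Nat.prime_two⟩
  set D := DG (S : Subgroup G) e with hD
  set C := Subgroup.centralizer (D : Set G) with hC
  set T := TG (S : Subgroup G) e with hT
  have hTC : T ≤ C := TG_le_centralizer_DG _ e
  have hT2 : IsPGroup 2 (T.subgroupOf C) := (S.2.to_le (TG_le _ e)).comap_subtype
  have hidx : ¬ 2 ∣ (T.subgroupOf C).index := TG_relIndex_centralizer S e hm
  let PC : Sylow 2 ↥C := hT2.toSylow hidx
  have hPC : (PC : Subgroup ↥C) = T.subgroupOf C := rfl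
  have ho : orderOf y ≠ 0 := (orderOf_pos y).ne'
  obtain ⟨a', r, hr, hor⟩ := Nat.exists_eq_two_pow_mul_odd ho
  obtain ⟨k, hk⟩ := hm2
  have hrpos : 0 < r := hr.pos
  -- the 2-part of y
  set y₂ : G := y ^ r with hy₂
  have hy₂C : y₂ ∈ C := C.pow_mem hy r
  have hoy₂ : orderOf y₂ = 2 ^ a' := by
    rw [hy₂, orderOf_pow, hor, Nat.gcd_eq_right (dvd_mul_left r (2 ^ a')),
      Nat.mul_div_cancel _ hrpos]
  have hmdvd : m ∣ 2 ^ a' := by
    rw [hor] at hdvd
    have hcop : Nat.Coprime m r := by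
      rw [hk]
      exact Nat.Coprime.pow_left _ (Nat.coprime_two_left.mpr hr)
    exact hcop.dvd_of_dvd_mul_right hdvd
  -- conjugate y₂ into T
  have hZ2 : IsPGroup 2 (Subgroup.zpowers (⟨y₂, hy₂C⟩ : ↥C)) := by
    apply IsPGroup.of_card (n := a')
    rw [Nat.card_zpowers, Subgroup.orderOf_mk, hoy₂]
  obtain ⟨P', hP'⟩ := hZ2.exists_le_sylow
  obtain ⟨c, hc⟩ := MulAction.exists_smul_eq ↥C P' PC
  have hmemP' : (⟨y₂, hy₂C⟩ : ↥C) ∈ (P' : Subgroup ↥C) := hP' (Subgroup.mem_zpowers _)
  have h1 : MulAut.conj c • (⟨y₂, hy₂C⟩ : ↥C) ∈ MulAut.conj c • (P' : Subgroup ↥C) :=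
    Subgroup.smul_mem_pointwise_smul _ _ _ hmemP'
  rw [← Sylow.coe_subgroup_smul, hc, hPC, Subgroup.mem_subgroupOf] at h1
  have hu : (c : G) * y₂ * (c : G)⁻¹ ∈ T := by
    simpa [MulAut.smul_def] using h1
  set u : G := (c : G) * y₂ * (c : G)⁻¹ with hudef
  have hou : orderOf u = 2 ^ a' := by
    have : u = MulAut.conj (c : G) y₂ := by simp [hudef]
    rw [this, MulEquiv.orderOf_eq, hoy₂]
  haveI : IsCyclic T := isCyclic_TG _ e
  have hDu : D ≤ Subgroup.zpowers u := by
    apply le_of_card_dvd_of_le_isCyclic T D (Subgroup.zpowers u) (DG_le_TG _ e)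
      (Subgroup.zpowers_le.mpr hu)
    rw [card_DG, Nat.card_zpowers, hou]
    exact hmdvd
  intro x hx
  obtain ⟨i, hi⟩ := Subgroup.mem_zpowers_iff.mp (hDu hx)
  have hcx : x * (c : G) = (c : G) * x := Subgroup.mem_centralizer_iff.mp c.2 x hx
  have hx2 : x = y₂ ^ i := by
    have h3 : u ^ i = (c : G) * y₂ ^ i * (c : G)⁻¹ := by
      rw [hudef, conj_zpow]
    rw [h3] at hi
    have h4 : (c : G)⁻¹ * x * (c : G) = y₂ ^ i := by rw [← hi]; group
    rw [← h4, mul_assoc, hcx, inv_mul_cancel_left]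
  rw [hx2, hy₂, ← zpow_natCast, ← zpow_mul]
  exact Subgroup.zpow_mem_zpowers y _

/-- The set `X` is a TI-set with normalizer `N`. -/
theorem mem_normalizer_of_conj_mem (hm : 2 < m) (hm2 : ∃ k, m = 2 ^ k) {g y : G}
    (hy : y ∈ Subgroup.centralizer (DG (S : Subgroup G) e : Set G)) (hdvd : m ∣ orderOf y)
    (hgy : g * y * g⁻¹ ∈ Subgroup.centralizer (DG (S : Subgroup G) e : Set G)) :
    g ∈ Subgroup.normalizer (DG (S : Subgroup G) e : Set G) := by
  set D := DG (S : Subgroup G) e with hD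
  have hconj : g * y * g⁻¹ = MulAut.conj g y := by simp
  have ho : orderOf (g * y * g⁻¹) = orderOf y := by rw [hconj, MulEquiv.orderOf_eq]
  have h1 : D ≤ Subgroup.zpowers y := DG_le_zpowers S e hm hm2 hy hdvd
  have h2 : D ≤ Subgroup.zpowers (g * y * g⁻¹) :=
    DG_le_zpowers S e hm hm2 hgy (by rw [ho]; exact hdvd)
  set D' : Subgroup G := D.map (MulAut.conj g).toMonoidHom with hD'
  have h3 : D' ≤ Subgroup.zpowers (g * y * g⁻¹) := by
    rw [hD', hconj]
    have : Subgroup.zpowers ((MulAut.conj g) y) =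
        (Subgroup.zpowers y).map (MulAut.conj g).toMonoidHom := by
      rw [MonoidHom.map_zpowers]; rfl
    rw [this]
    exact Subgroup.map_mono h1
  have hcard : Nat.card D' = Nat.card D := by
    rw [hD']
    exact Subgroup.card_map_of_injective (MulAut.conj g).injective
  have hDD' : D = D' := by
    apply le_antisymm
    · exact le_of_card_dvd_of_le_isCyclic (Subgroup.zpowers (g * y * g⁻¹)) D D' h2 h3
        (by rw [hcard])
    · exact le_of_card_dvd_of_le_isCyclic (Subgroup.zpowers (g * y * g⁻¹)) D' D h3 h2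
        (by rw [hcard])
  rw [Subgroup.mem_normalizer_iff]
  intro h
  constructor
  · intro hh
    rw [hDD']
    exact ⟨h, hh, by simp⟩
  · intro hh
    rw [hDD'] at hh
    obtain ⟨h', hh', hh''⟩ := hh
    have : h' = h := by
      have : g * h' * g⁻¹ = g * h * g⁻¹ := by simpa using hh''
      simpa using this
    rw [← this]; exact hh'

end

end Cfsg.Agent.Lib.Helper8.BS
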