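import Mathlib
import Cfsg.Agent.Lib.Helper8.BS4

/-! Brauer–Suzuki, part 5: the linear character `ν` of `C_G(D)` of order four. -/
set_option autoImplicit false
open scoped commutatorElement Pointwise

namespace Cfsg.Agent.Lib.Helper8.BS

open QuaternionGroup

/-- the unit `i` of `ℂ` -/
noncomputable def Iu : ℂˣ := Units.mk0 Complex.I Complex.I_ne_zero

theorem Iu_sq : Iu ^ 2 = -1 := by
  apply Units.ext
  simp [Iu, Complex.I_sq]

theorem Iu_pow_four : Iu ^ 4 = 1 := by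
  have : (4 : ℕ) = 2 * 2 := rfl
  rw [this, pow_mul, Iu_sq]
  norm_num

theorem orderOf_Iu : orderOf Iu = 4 := by
  have h := orderOf_eq_prime_pow (x := Iu) (p := 2) (n := 1) (by
    rw [pow_one, Iu_sq]
    intro h
    have := congrArg Units.val h
    norm_num at this) (by
    have : (2 : ℕ) ^ (1 + 1) = 4 := rfl
    rw [this, Iu_pow_four])
  exact h

theorem Iu_pow_ne_one {i : ℕ} (h : ¬ 4 ∣ i) : Iu ^ i ≠ 1 := by
  intro h1
  apply h
  rw [← orderOf_Iu]
  exact orderOf_dvd_of_pow_eq_one h1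

variable {G : Type*} [Group G] {m : ℕ} [NeZero m]

section

variable [Finite G] (S : Sylow 2 G) (e : (S : Subgroup G) ≃* QuaternionGroup m)

theorem exists_mul_of_mem_normalizer (hm2 : ∃ k, m = 2 ^ k) {s : G}
    (hs : s ∈ Subgroup.normalizer (DG (S : Subgroup G) e : Set G)) :
    ∃ c ∈ Subgroup.centralizer (DG (S : Subgroup G) e : Set G), ∃ s' ∈ (S : Subgroup G),
      s = c * s' := by
  have hle : (S : Subgroup G) ≤
      Subgroup.normalizer ((Subgroup.centralizer (DG (S : Subgroup G) e : Set G) : Subgroup G) :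
        Set G) := by
    apply Cfsg.Agent.Lib.Helper1.le_normalizer_of_conj_mem
    intro g hg x hx
    exact conj_mem_centralizer_of_mem_normalizer _ (S_le_normalizer_DG _ e hg) hx
  have h1 : s ∈ ((Subgroup.centralizer (DG (S : Subgroup G) e : Set G) ⊔ (S : Subgroup G) :
      Subgroup G) : Set G) := by
    rw [centralizer_sup_S S e hm2]; exact hs
  rw [Subgroup.coe_mul_of_right_le_normalizer_left _ _ hle] at h1
  obtain ⟨c, hc, s', hs', rfl⟩ := Set.mem_mul.mp h1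
  exact ⟨c, hc, s', hs', rfl⟩

theorem orderOf_emb_a_one : orderOf (emb (S : Subgroup G) e (a 1)) = 2 * m := by
  rw [orderOf_emb, orderOf_a_one]

/-- The linear character `ν`. -/
theorem exists_nu (hm : 2 < m) (hm2 : ∃ k, m = 2 ^ k) :
    ∃ ν : ↥(Subgroup.centralizer (DG (S : Subgroup G) e : Set G)) →* ℂˣ,
      (∀ y, (ν y) ^ 4 = 1) ∧
      (∀ y : ↥(Subgroup.centralizer (DG (S : Subgroup G) e : Set G)),
        ν y ≠ 1 → m ∣ orderOf (y : G)) ∧
      (∀ h : emb (S : Subgroup G) e (a 2) ∈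
          Subgroup.centralizer (DG (S : Subgroup G) e : Set G),
        ν ⟨emb (S : Subgroup G) e (a 2), h⟩ = -1) ∧
      (∀ h : emb (S : Subgroup G) e (a 1) ∈
          Subgroup.centralizer (DG (S : Subgroup G) e : Set G),
        ν ⟨emb (S : Subgroup G) e (a 1), h⟩ = Iu) ∧
      (∀ s ∈ Subgroup.normalizer (DG (S : Subgroup G) e : Set G),
        s ∉ Subgroup.centralizer (DG (S : Subgroup G) e : Set G) →
        ∀ (y : ↥(Subgroup.centralizer (DG (S : Subgroup G) e : Set G)))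
          (h : s * (y : G) * s⁻¹ ∈ Subgroup.centralizer (DG (S : Subgroup G) e : Set G)),
          ν ⟨s * (y : G) * s⁻¹, h⟩ = (ν y)⁻¹) := by
  set D := DG (S : Subgroup G) e with hD
  set C := Subgroup.centralizer (D : Set G) with hC
  set N := Subgroup.normalizer (D : Set G) with hN
  set T := TG (S : Subgroup G) e with hT
  obtain ⟨K₀, hK₀n, hK₀mem, hK₀c, hK₀odd⟩ :
      ∃ K₀ : Subgroup ↥C, K₀.Normal ∧ (∀ x, x ∈ K₀ ↔ Nat.Coprime (orderOf x) 2) ∧
        K₀.IsComplement' (T.subgroupOf C) ∧ Odd (Nat.card K₀) :=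
    exists_normal_complement_centralizer S e hm
  haveI := hK₀n
  have hTC : T ≤ C := TG_le_centralizer_DG _ e
  set t₀ : G := emb (S : Subgroup G) e (a 1) with ht₀
  have ht₀T : t₀ ∈ T := by rw [hT, TG_eq_zpowers]; exact Subgroup.mem_zpowers _
  have ht₀C : t₀ ∈ C := hTC ht₀T
  set t₀' : ↥C := ⟨t₀, ht₀C⟩ with ht₀'
  have hot₀ : orderOf t₀ = 2 * m := orderOf_emb_a_one S e
  have hmpos : 0 < m := Nat.pos_of_ne_zero (NeZero.ne m)
  obtain ⟨k, hk⟩ := hm2
  have hk2 : 2 ≤ k := by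
    by_contra hlt
    have : k = 0 ∨ k = 1 := by omega
    rcases this with h | h <;> rw [h] at hk <;> omega
  -- decomposition of elements of `C`
  have hdec : ∀ y : ↥C, ∃ κ ∈ K₀, ∃ i : ℕ, y = κ * t₀' ^ i := by
    intro y
    have hy : y ∈ ((K₀ : Set ↥C) * ((T.subgroupOf C : Subgroup ↥C) : Set ↥C)) := by
      rw [hK₀c.mul_eq]; trivial
    obtain ⟨κ, hκ, t, ht, rfl⟩ := Set.mem_mul.mp hy
    have ht' : (t : G) ∈ Subgroup.zpowers t₀ := by
      rw [← TG_eq_zpowers]; exact Subgroup.mem_subgroupOf.mp ht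
    obtain ⟨i, hi⟩ := (Submonoid.mem_powers_iff _ _).mp (mem_powers_iff_mem_zpowers.mpr ht')
    refine ⟨κ, hκ, i, ?_⟩
    congr 1
    apply Subtype.ext
    rw [Subgroup.coe_pow]
    exact hi.symm
  -- the quotient is generated by the image of t₀
  set tbar : ↥C ⧸ K₀ := QuotientGroup.mk' K₀ t₀' with htbar
  have hgen : ∀ x : ↥C ⧸ K₀, x ∈ Subgroup.zpowers tbar := by
    intro x
    obtain ⟨y, rfl⟩ := QuotientGroup.mk_surjective x
    obtain ⟨κ, hκ, i, rfl⟩ := hdec y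
    have : (QuotientGroup.mk (κ * t₀' ^ i) : ↥C ⧸ K₀) = tbar ^ i := by
      rw [htbar, QuotientGroup.mk'_apply, ← QuotientGroup.mk_pow, QuotientGroup.eq]
      have e1 : (κ * t₀' ^ i)⁻¹ * t₀' ^ i = (t₀' ^ i)⁻¹ * κ⁻¹ * t₀' ^ i := by group
      rw [e1]
      have := hK₀n.conj_mem κ⁻¹ (K₀.inv_mem hκ) (t₀' ^ i)⁻¹
      simpa using this
    rw [this]
    exact Subgroup.npow_mem_zpowers _ _
  have hpow_mem : ∀ j : ℕ, t₀' ^ j ∈ K₀ → 2 * m ∣ j := by
    intro j hj
    have h1 : t₀' ^ j ∈ T.subgroupOf C := by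
      rw [Subgroup.mem_subgroupOf, Subgroup.coe_pow]
      exact T.pow_mem ht₀T j
    have h2 : t₀' ^ j ∈ K₀ ⊓ T.subgroupOf C := Subgroup.mem_inf.mpr ⟨hj, h1⟩
    rw [hK₀c.disjoint.eq_bot, Subgroup.mem_bot] at h2
    have h3 : t₀ ^ j = 1 := by
      have := congrArg Subtype.val h2
      simpa using this
    rw [← hot₀]
    exact orderOf_dvd_of_pow_eq_one h3
  have hotbar : orderOf tbar = 2 * m := by
    apply Nat.dvd_antisymm
    · apply orderOf_dvd_of_pow_eq_one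
      rw [htbar, QuotientGroup.mk'_apply, ← QuotientGroup.mk_pow]
      have : t₀' ^ (2 * m) = 1 := by
        apply Subtype.ext
        rw [Subgroup.coe_pow, ← hot₀]
        exact pow_orderOf_eq_one t₀
      rw [this]; rfl
    · apply hpow_mem
      have h1 : tbar ^ orderOf tbar = 1 := pow_orderOf_eq_one tbar
      rw [htbar, QuotientGroup.mk'_apply, ← QuotientGroup.mk_pow, QuotientGroup.eq_one_iff] at h1
      exact h1
  have h4dvd : orderOf Iu ∣ orderOf tbar := by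
    rw [orderOf_Iu, hotbar, hk]
    have : (4 : ℕ) = 2 * 2 ^ 1 := rfl
    rw [this]
    exact Nat.mul_dvd_mul_left 2 (pow_dvd_pow 2 (by omega))
  set nubar : ↥C ⧸ K₀ →* ℂˣ := monoidHomOfForallMemZpowers hgen h4dvd with hnubar
  set ν : ↥C →* ℂˣ := nubar.comp (QuotientGroup.mk' K₀) with hν
  have hνt : ν t₀' = Iu := by
    rw [hν, MonoidHom.comp_apply]
    exact monoidHomOfForallMemZpowers_apply_gen hgen h4dvd
  have hνK : ∀ κ ∈ K₀, ν κ = 1 := by
    intro κ hκ
    rw [hν, MonoidHom.comp_apply, QuotientGroup.mk'_apply,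
      (QuotientGroup.eq_one_iff κ).mpr hκ, map_one]
  have hνdec : ∀ (κ : ↥C) (i : ℕ), κ ∈ K₀ → ν (κ * t₀' ^ i) = Iu ^ i := by
    intro κ i hκ
    rw [map_mul, hνK κ hκ, one_mul, map_pow, hνt]
  refine ⟨ν, ?_, ?_, ?_, ?_, ?_⟩
  · intro y
    obtain ⟨κ, hκ, i, rfl⟩ := hdec y
    rw [hνdec κ i hκ, ← pow_mul, mul_comm, pow_mul, Iu_pow_four, one_pow]
  · intro y hy
    obtain ⟨κ, hκ, i, rfl⟩ := hdec y
    rw [hνdec κ i hκ] at hy
    have h4 : ¬ 4 ∣ i := by
      intro h4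
      apply hy
      obtain ⟨c, rfl⟩ := h4
      rw [pow_mul, Iu_pow_four, one_pow]
    set y : ↥C := κ * t₀' ^ i with hy'
    set o := orderOf (y : G) with ho
    have hyo : y ^ o = 1 := by
      apply Subtype.ext
      rw [Subgroup.coe_pow, ho]
      exact pow_orderOf_eq_one _
    have hmem : t₀' ^ (i * o) ∈ K₀ := by
      have h1 : (QuotientGroup.mk (y ^ o) : ↥C ⧸ K₀) = 1 := by rw [hyo]; rfl
      have h2 : (QuotientGroup.mk y : ↥C ⧸ K₀) = QuotientGroup.mk (t₀' ^ i) := by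
        rw [hy', QuotientGroup.eq]
        have e1 : (κ * t₀' ^ i)⁻¹ * t₀' ^ i = (t₀' ^ i)⁻¹ * κ⁻¹ * t₀' ^ i := by group
        rw [e1]
        have := hK₀n.conj_mem κ⁻¹ (K₀.inv_mem hκ) (t₀' ^ i)⁻¹
        simpa using this
      rw [QuotientGroup.mk_pow, h2, ← QuotientGroup.mk_pow, ← pow_mul,
        QuotientGroup.eq_one_iff] at h1
      exact h1
    have hdvd : 2 * m ∣ i * o := hpow_mem _ hmem
    rw [hk] at hdvd ⊢
    rcases Nat.even_or_odd' i with ⟨c, hc | hc⟩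
    · -- i = 2c with c odd
      have hcodd : Odd c := by
        rcases Nat.even_or_odd c with hce | hco
        · exfalso
          apply h4
          obtain ⟨c', hc'⟩ := hce
          exact ⟨c', by rw [hc, hc']; ring⟩
        · exact hco
      rw [hc, mul_assoc] at hdvd
      have h5 : 2 ^ k ∣ c * o := Nat.dvd_of_mul_dvd_mul_left two_pos hdvd
      have hcop : Nat.Coprime (2 ^ k) c := Nat.Coprime.pow_left _ (Nat.coprime_two_left.mpr hcodd)
      exact hcop.dvd_of_dvd_mul_left h5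
    · have hiodd : Odd i := ⟨c, hc⟩
      have hcop : Nat.Coprime (2 * 2 ^ k) i := by
        have : 2 * 2 ^ k = 2 ^ (k + 1) := by ring
        rw [this]
        exact Nat.Coprime.pow_left _ (Nat.coprime_two_left.mpr hiodd)
      have h5 : 2 * 2 ^ k ∣ o := hcop.dvd_of_dvd_mul_left hdvd
      exact dvd_trans (dvd_mul_left _ _) h5
  · intro h
    have : (⟨emb (S : Subgroup G) e (a 2), h⟩ : ↥C) = t₀' ^ 2 := by
      apply Subtype.ext
      rw [Subgroup.coe_pow]
      exact emb_a_two_eq_sq _ e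
    rw [this, map_pow, hνt, Iu_sq]
  · intro h
    exact hνt
  · intro s hsN hsC y h
    obtain ⟨c, hc, s', hs', rfl⟩ := exists_mul_of_mem_normalizer S e ⟨k, hk⟩ hsN
    have hs'T : s' ∉ T := by
      intro hs'T
      apply hsC
      exact C.mul_mem hc (hTC hs'T)
    obtain ⟨κ, hκ, i, rfl⟩ := hdec y
    have hκN : (c * s') * (κ : G) * (c * s')⁻¹ ∈
        K₀.map C.subtype := by
      have := normalizer_le_normalizer_K S e K₀ hK₀mem hsN
      exact (Subgroup.mem_normalizer_iff.mp this _).mp (Subgroup.mem_map_of_mem _ hκ)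
    obtain ⟨κ₂, hκ₂, hκ₂e⟩ := hκN
    have hti : s' * t₀ ^ i * s'⁻¹ = (t₀ ^ i)⁻¹ :=
      conj_inv_of_not_mem_TG _ e hs' hs'T (T.pow_mem ht₀T i)
    have heq : (⟨c * s' * ((κ * t₀' ^ i : ↥C) : G) * (c * s')⁻¹, h⟩ : ↥C) =
        κ₂ * (⟨c, hc⟩ * (t₀' ^ i)⁻¹ * ⟨c, hc⟩⁻¹) := by
      apply Subtype.ext
      simp only [Subgroup.coe_mul, Subgroup.coe_pow, Subgroup.coe_inv]
      have hκ₂e' : (κ₂ : G) = c * s' * (κ : G) * (c * s')⁻¹ := hκ₂e
      rw [hκ₂e']
      have e1 : c * s' * ((κ : G) * t₀ ^ i) * (c * s')⁻¹ =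
          c * s' * (κ : G) * (c * s')⁻¹ * (c * (s' * t₀ ^ i * s'⁻¹) * c⁻¹) := by group
      rw [e1, hti]
    rw [heq, map_mul, hνK κ₂ hκ₂, one_mul, map_mul, map_mul, map_inv, map_inv,
      hνdec κ i hκ, map_pow, hνt]
    rw [mul_comm (ν ⟨c, hc⟩), mul_assoc, mul_inv_cancel, mul_one]

end

end Cfsg.Agent.Lib.Helper8.BS
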