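import Mathlib
import Cfsg.Agent.Lib.Helper8.BS5
import Cfsg.Agent.Lib.Helper6.GenChar
import Cfsg.Agent.Lib.Helper6.GenCharOps
import Cfsg.Agent.Lib.Helper6.IndFunTI
import Cfsg.Agent.Lib.Helper6.Mult
import Cfsg.Agent.Lib.Helper6.Orthogonality
import Cfsg.Agent.S0146

/-! Brauer–Suzuki, part 6: the exceptional generalized character. -/
set_option autoImplicit false
open scoped commutatorElement Pointwise ComplexConjugate

namespace Cfsg.Agent.Lib.Helper8.BS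

open QuaternionGroup Cfsg.Agent.Lib.Helper6

theorem sum_hom_eq_zero {H : Type*} [Group H] [Fintype H] (lam : H →* ℂˣ) {h₀ : H}
    (h : lam h₀ ≠ 1) : ∑ x : H, ((lam x : ℂˣ) : ℂ) = 0 := by
  have h1 : ∑ x : H, ((lam x : ℂˣ) : ℂ) = ((lam h₀ : ℂˣ) : ℂ) * ∑ x : H, ((lam x : ℂˣ) : ℂ) := by
    rw [Finset.mul_sum, ← Equiv.sum_comp (Equiv.mulLeft h₀) (fun x => ((lam x : ℂˣ) : ℂ))]
    apply Finset.sum_congr rfl
    intro x _
    simp [map_mul]
  have h2 : (((lam h₀ : ℂˣ) : ℂ) - 1) * ∑ x : H, ((lam x : ℂˣ) : ℂ) = 0 := by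
    rw [sub_mul, one_mul, ← h1, sub_self]
  rcases mul_eq_zero.mp h2 with h3 | h3
  · exfalso
    apply h
    apply Units.ext
    rw [Units.val_one]
    exact sub_eq_zero.mp h3
  · exact h3

theorem Iu_ne_one : Iu ≠ 1 := by
  have := Iu_pow_ne_one (i := 1) (by norm_num)
  rwa [pow_one] at this

theorem neg_one_units_ne_one : (-1 : ℂˣ) ≠ 1 := by
  intro h
  have := congrArg Units.val h
  norm_num at this

theorem theta_aux {G : Type*} [Group G] [Fintype G] (C N : Subgroup G) (hCN : C ≤ N)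
    (hcard : Nat.card N = 2 * Nat.card C) (m : ℕ)
    (ν : ↥C →* ℂˣ) (hν4 : ∀ y, (ν y) ^ 4 = 1)
    (hTI : ∀ (y : G) (g : G), y ∈ C → m ∣ orderOf y → g * y * g⁻¹ ∈ C → g ∈ N)
    (hνdvd : ∀ y : ↥C, ν y ≠ 1 → m ∣ orderOf (y : G))
    (hNC : ∀ s ∈ N, ∀ y ∈ C, s * y * s⁻¹ ∈ C)
    (hνinv : ∀ s ∈ N, s ∉ C → ∀ (y : ↥C) (h : s * (y : G) * s⁻¹ ∈ C),
      ν ⟨s * (y : G) * s⁻¹, h⟩ = (ν y)⁻¹)
    (t : ↥C) (ht : ν t = Iu) :
    ∃ Θ : G → ℂ, Cfsg.IsGeneralizedCharacter G Θ ∧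
      Cfsg.classInner Θ (fun _ => 1) = 1 ∧ Cfsg.classInner Θ Θ = 3 ∧
      (∀ g : G, ¬ m ∣ orderOf g → Θ g = 0) ∧
      (∀ y : ↥C, ν y ≠ 1 → Θ (y : G) = 2 - ((ν y : ℂˣ) : ℂ) - (((ν y : ℂˣ) : ℂ))⁻¹) := by
  classical
  haveI : Fintype ↥C := Fintype.ofFinite _
  haveI : Fintype ↥N := Fintype.ofFinite _
  have hCc : (Nat.card C : ℂ) ≠ 0 := card_ne_zero_complex C
  obtain ⟨φ, hφ⟩ : ∃ φ : ↥C → ℂ, φ = fun y => 1 - ((ν y : ℂˣ) : ℂ) := ⟨_, rfl⟩
  have hφa : ∀ y, φ y = 1 - ((ν y : ℂˣ) : ℂ) := fun y => by rw [hφ]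
  have hφg : Cfsg.IsGeneralizedCharacter ↥C φ :=
    ⟨fun _ => 1, fun y => ((ν y : ℂˣ) : ℂ), isCharacter_one,
      IsIrrCharacter.isCharacter (isIrrCharacter_of_hom ν), hφ⟩
  have hconj : ∀ y : ↥C, conj ((ν y : ℂˣ) : ℂ) = (((ν y : ℂˣ) : ℂ))⁻¹ := by
    intro y
    have h1 : ((ν y : ℂˣ) : ℂ) ^ 4 = 1 := by
      have := congrArg Units.val (hν4 y)
      simpa using this
    have h2 : ‖((ν y : ℂˣ) : ℂ)‖ = 1 := Complex.norm_eq_one_of_pow_eq_one h1 (by norm_num)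
    exact (Complex.inv_eq_conj h2).symm
  have hsum1 : ∑ y : ↥C, ((ν y : ℂˣ) : ℂ) = 0 :=
    sum_hom_eq_zero ν (h₀ := t) (by rw [ht]; exact Iu_ne_one)
  have hsum2 : ∑ y : ↥C, (((ν y : ℂˣ) : ℂ))⁻¹ = 0 := by
    have := sum_hom_eq_zero (ν⁻¹) (h₀ := t) (by
      rw [MonoidHom.inv_apply, ht]
      intro h
      exact Iu_ne_one (inv_eq_one.mp h))
    simpa [MonoidHom.inv_apply] using this
  have hsum3 : ∑ y : ↥C, (((ν y : ℂˣ) : ℂ)) ^ 2 = 0 := by
    have := sum_hom_eq_zero (ν ^ 2) (h₀ := t) (by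
      rw [MonoidHom.pow_apply, ht, Iu_sq]
      exact neg_one_units_ne_one)
    simpa [MonoidHom.pow_apply] using this
  have hval : ∀ y : ↥C, ν y ≠ 1 →
      Cfsg.indFun C φ (y : G) = 2 - ((ν y : ℂˣ) : ℂ) - (((ν y : ℂˣ) : ℂ))⁻¹ := by
    intro y hy
    have hdv := hνdvd y hy
    have hterm : ∀ x : G, Cfsg.extendByZero C φ (x⁻¹ * (y : G) * x)
        = Cfsg.extendByZero C (fun _ => (((ν y : ℂˣ) : ℂ))⁻¹ - ((ν y : ℂˣ) : ℂ)) x
          + Cfsg.extendByZero N (fun _ => 1 - (((ν y : ℂˣ) : ℂ))⁻¹) x := by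
      intro x
      by_cases hxN : x ∈ N
      · have hxN' : x⁻¹ ∈ N := N.inv_mem hxN
        have hmem : x⁻¹ * (y : G) * x ∈ C := by
          have := hNC x⁻¹ hxN' (y : G) y.2
          rwa [inv_inv] at this
        rw [extendByZero_of_mem _ _ hmem, extendByZero_of_mem _ _ hxN, hφa]
        by_cases hxC : x ∈ C
        · rw [extendByZero_of_mem _ _ hxC]
          have h1 : (⟨x⁻¹ * (y : G) * x, hmem⟩ : ↥C) = (⟨x, hxC⟩ : ↥C)⁻¹ * y * ⟨x, hxC⟩ := by
            apply Subtype.ext; simp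
          have h2 : ν ⟨x⁻¹ * (y : G) * x, hmem⟩ = ν y := by
            rw [h1, map_mul, map_mul, map_inv, mul_comm, mul_inv_cancel_left]
          rw [h2]
          ring
        · rw [extendByZero_of_not_mem _ _ hxC]
          have hxC' : x⁻¹ ∉ C := fun h => hxC (by simpa using C.inv_mem h)
          have key : ν ⟨x⁻¹ * (y : G) * x, hmem⟩ = (ν y)⁻¹ := by
            have h' : x⁻¹ * (y : G) * x⁻¹⁻¹ ∈ C := by rwa [inv_inv]
            have := hνinv x⁻¹ hxN' hxC' y h'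
            simpa only [inv_inv] using this
          rw [key, Units.val_inv_eq_inv_val]
          ring
      · have hxC : x ∉ C := fun h => hxN (hCN h)
        have hmem : x⁻¹ * (y : G) * x ∉ C := by
          intro hmem
          apply hxN
          have h' : x⁻¹ * (y : G) * x⁻¹⁻¹ ∈ C := by rwa [inv_inv]
          have := hTI (y : G) x⁻¹ y.2 hdv h'
          simpa using N.inv_mem this
        rw [extendByZero_of_not_mem _ _ hmem, extendByZero_of_not_mem _ _ hxC,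
          extendByZero_of_not_mem _ _ hxN, add_zero]
    unfold Cfsg.indFun
    simp_rw [hterm]
    rw [Finset.sum_add_distrib, sum_extendByZero, sum_extendByZero]
    simp only [Finset.sum_const, Finset.card_univ, nsmul_eq_mul, ← Nat.card_eq_fintype_card]
    rw [hcard]
    have hz : ((ν y : ℂˣ) : ℂ) ≠ 0 := Units.ne_zero _
    push_cast
    field_simp
    ring
  have hin1 : Cfsg.classInner (Cfsg.indFun C φ) (fun _ => (1 : ℂ)) = 1 := by
    rw [Cfsg.Agent.S0146.result C φ (fun _ => 1) (fun _ _ => rfl)]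
    unfold Cfsg.classInner
    simp only [map_one, mul_one, hφa]
    rw [Finset.sum_sub_distrib, hsum1, sub_zero]
    simp only [Finset.sum_const, Finset.card_univ, nsmul_eq_mul, ← Nat.card_eq_fintype_card,
      mul_one]
    exact inv_mul_cancel₀ hCc
  have hin3 : Cfsg.classInner (Cfsg.indFun C φ) (Cfsg.indFun C φ) = 3 := by
    rw [Cfsg.Agent.S0146.result C φ (Cfsg.indFun C φ) (indFun_isClassFunction C φ)]
    unfold Cfsg.classInner
    have hpt : ∀ y : ↥C, φ y * conj (Cfsg.indFun C φ (y : G)) =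
        3 - 3 * ((ν y : ℂˣ) : ℂ) - (((ν y : ℂˣ) : ℂ))⁻¹ + (((ν y : ℂˣ) : ℂ)) ^ 2 := by
      intro y
      have hz : ((ν y : ℂˣ) : ℂ) ≠ 0 := Units.ne_zero _
      rw [hφa]
      by_cases hy : ν y = 1
      · rw [hy]
        simp
      · rw [hval y hy, map_sub, map_sub, map_inv₀, hconj y, inv_inv, map_ofNat]
        field_simp
        ring
    simp_rw [hpt]
    rw [Finset.sum_add_distrib, Finset.sum_sub_distrib, Finset.sum_sub_distrib,
      ← Finset.mul_sum, hsum1, hsum2, hsum3]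
    simp only [Finset.sum_const, Finset.card_univ, nsmul_eq_mul, ← Nat.card_eq_fintype_card,
      mul_zero, sub_zero, add_zero]
    field_simp
  have hvan : ∀ g : G, ¬ m ∣ orderOf g → Cfsg.indFun C φ g = 0 := by
    intro g hg
    unfold Cfsg.indFun
    rw [Finset.sum_eq_zero, mul_zero]
    intro x _
    by_cases hmem : x⁻¹ * g * x ∈ C
    · rw [extendByZero_of_mem _ _ hmem, hφa]
      by_cases h1 : ν ⟨x⁻¹ * g * x, hmem⟩ = 1
      · rw [h1]; simp
      · exfalso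
        apply hg
        have h2 := hνdvd _ h1
        have ho : orderOf (x⁻¹ * g * x) = orderOf g := by
          have : x⁻¹ * g * x = MulAut.conj x⁻¹ g := by simp
          rw [this, MulEquiv.orderOf_eq]
        rw [← ho]; exact h2
    · exact extendByZero_of_not_mem _ _ hmem
  exact ⟨Cfsg.indFun C φ, IsGeneralizedCharacter.indFun C hφg, hin1, hin3, hvan, hval⟩

theorem exists_chars_of_theta {G : Type*} [Group G] [Fintype G] {Θ : G → ℂ}
    (hΘ : Cfsg.IsGeneralizedCharacter G Θ) (h1 : Cfsg.classInner Θ (fun _ => 1) = 1)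
    (h3 : Cfsg.classInner Θ Θ = 3) (h0 : Θ 1 = 0) :
    ∃ χ₁ χ₂ : G → ℂ, Cfsg.IsIrrCharacter G χ₁ ∧ Cfsg.IsIrrCharacter G χ₂ ∧
      χ₁ ≠ (fun _ => 1) ∧ χ₂ ≠ (fun _ => 1) ∧ χ₁ 1 = χ₂ 1 + 1 ∧
      ∀ g, Θ g = 1 + χ₂ g - χ₁ g := by
  classical
  haveI : Fintype (Cfsg.IrrCharacter G) := Fintype.ofFinite _
  obtain ⟨one, hone⟩ : ∃ one : G → ℂ, one = fun _ => 1 := ⟨_, rfl⟩
  rw [← hone] at h1 ⊢
  have hone_irr : Cfsg.IsIrrCharacter G one := by rw [hone]; exact isIrrCharacter_one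
  obtain ⟨Ψ, hΨ⟩ : ∃ Ψ : G → ℂ, Ψ = Θ - one := ⟨_, rfl⟩
  have hΨg : Cfsg.IsGeneralizedCharacter G Ψ := by
    rw [hΨ]
    exact IsGeneralizedCharacter.sub hΘ (IsCharacter.isGeneralizedCharacter (IsIrrCharacter.isCharacter hone_irr))
  have h11 : Cfsg.classInner one one = 1 := by
    rw [classInner_isIrrCharacter hone_irr hone_irr, if_pos rfl]
  have h1' : Cfsg.classInner one Θ = 1 := by
    rw [← classInner_conj_symm, h1, map_one]
  have hΨ1 : Cfsg.classInner Ψ one = 0 := by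
    rw [hΨ, classInner_sub_left, h1, h11, sub_self]
  have hΨΨ : Cfsg.classInner Ψ Ψ = 2 := by
    rw [hΨ, classInner_sub_left, classInner_sub_right, classInner_sub_right, h3, h1, h1', h11]
    norm_num
  obtain ⟨c, hc, hcβ⟩ := IsGeneralizedCharacter.exists_int_coeff hΨg
  have hsq : ∑ β, c β * c β = 2 := by
    have h2 := hΨΨ
    rw [hc, classInner_sum_int] at h2
    exact_mod_cast h2
  obtain ⟨i, j, hij, hci, hcj, hrest⟩ := exists_pair_of_sum_sq_eq_two c hsq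
  have hΨ2 : Ψ = (c i : ℂ) • (i : G → ℂ) + (c j : ℂ) • (j : G → ℂ) := by
    rw [hc, ← Finset.add_sum_erase Finset.univ _ (Finset.mem_univ i),
      ← Finset.add_sum_erase (Finset.univ.erase i) _
        (Finset.mem_erase.mpr ⟨hij.symm, Finset.mem_univ j⟩)]
    rw [Finset.sum_eq_zero, add_zero]
    intro k hk
    have hkj := Finset.ne_of_mem_erase hk
    have hki := Finset.ne_of_mem_erase (Finset.mem_of_mem_erase hk)
    rw [hrest k hki hkj, Int.cast_zero, zero_smul]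
  have hc1 : c ⟨one, hone_irr⟩ = 0 := by
    have := hcβ ⟨one, hone_irr⟩
    rw [hΨ1] at this
    exact_mod_cast this.symm
  have hi1 : (i : G → ℂ) ≠ one := by
    intro h
    have : i = ⟨one, hone_irr⟩ := Subtype.ext h
    rw [this, hc1] at hci
    omega
  have hj1 : (j : G → ℂ) ≠ one := by
    intro h
    have : j = ⟨one, hone_irr⟩ := Subtype.ext h
    rw [this, hc1] at hcj
    omega
  obtain ⟨di, hdi⟩ := IsCharacter.apply_one_eq_natCast (IsIrrCharacter.isCharacter i.2)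
  obtain ⟨dj, hdj⟩ := IsCharacter.apply_one_eq_natCast (IsIrrCharacter.isCharacter j.2)
  have hdi0 : di ≠ 0 := by
    intro h0
    apply IsIrrCharacter.apply_one_ne_zero i.2
    rw [hdi, h0, Nat.cast_zero]
  have hdj0 : dj ≠ 0 := by
    intro h0
    apply IsIrrCharacter.apply_one_ne_zero j.2
    rw [hdj, h0, Nat.cast_zero]
  have hΨone : Ψ 1 = -1 := by
    rw [hΨ, Pi.sub_apply, h0, hone]
    norm_num
  have h5 : (c i : ℂ) * (di : ℂ) + (c j : ℂ) * (dj : ℂ) = -1 := by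
    have := congrFun hΨ2 1
    rw [hΨone, Pi.add_apply, Pi.smul_apply, Pi.smul_apply, smul_eq_mul, smul_eq_mul, hdi, hdj]
      at this
    exact this.symm
  have h6 : c i * (di : ℤ) + c j * (dj : ℤ) = -1 := by exact_mod_cast h5
  have hdi' : (0 : ℤ) < di := by exact_mod_cast Nat.pos_of_ne_zero hdi0
  have hdj' : (0 : ℤ) < dj := by exact_mod_cast Nat.pos_of_ne_zero hdj0
  have hΘ2 : ∀ g, Θ g = one g + Ψ g := by
    intro g
    rw [hΨ, Pi.sub_apply]
    ring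
  rcases hci with hi | hi <;> rcases hcj with hj | hj
  · exfalso; rw [hi, hj] at h6; linarith
  · -- Ψ = i - j
    refine ⟨j, i, j.2, i.2, hj1, hi1, ?_, ?_⟩
    · rw [hi, hj] at h6
      rw [hdi, hdj]
      have : (dj : ℤ) = di + 1 := by linarith
      exact_mod_cast this
    · intro g
      rw [hΘ2 g, hΨ2, hi, hj, hone]
      simp only [Pi.add_apply, Pi.smul_apply, smul_eq_mul]
      push_cast
      ring
  · refine ⟨i, j, i.2, j.2, hi1, hj1, ?_, ?_⟩
    · rw [hi, hj] at h6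
      rw [hdi, hdj]
      have : (di : ℤ) = dj + 1 := by linarith
      exact_mod_cast this
    · intro g
      rw [hΘ2 g, hΨ2, hi, hj, hone]
      simp only [Pi.add_apply, Pi.smul_apply, smul_eq_mul]
      push_cast
      ring
  · exfalso; rw [hi, hj] at h6; linarith

end Cfsg.Agent.Lib.Helper8.BS
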