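import Mathlib
import Cfsg.Agent.Lib.Helper8.BS6
import Cfsg.Agent.Lib.Helper6.BlkAlg
import Cfsg.Agent.Lib.Helper6.CharBasic
import Cfsg.Agent.Lib.Helper6.Extraspecial

/-! Brauer–Suzuki, part 7: the two exceptional characters and the involution. -/
set_option autoImplicit false
open scoped commutatorElement Pointwise ComplexConjugate

namespace Cfsg.Agent.Lib.Helper8.BS

open QuaternionGroup Cfsg.Agent.Lib.Helper6

section

variable {G : Type*} [Group G] [Fintype G] {m : ℕ} [NeZero m]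
  (S : Sylow 2 G) (e : (S : Subgroup G) ≃* QuaternionGroup m)

theorem exists_chars (hm : 2 < m) (hm2 : ∃ k, m = 2 ^ k) :
    ∃ χ₁ χ₂ : G → ℂ, Cfsg.IsIrrCharacter G χ₁ ∧ Cfsg.IsIrrCharacter G χ₂ ∧
      χ₁ ≠ (fun _ => 1) ∧ χ₂ ≠ (fun _ => 1) ∧ χ₁ 1 = χ₂ 1 + 1 ∧
      (∀ g : G, ¬ 4 ∣ orderOf g → χ₁ g - χ₂ g = 1) ∧
      χ₁ (emb (S : Subgroup G) e (a 2)) - χ₂ (emb (S : Subgroup G) e (a 2)) = -3 := by
  obtain ⟨ν, hν4, hνdvd, hνd, hνt, hνinv⟩ := exists_nu S e hm hm2
  have hdC : emb (S : Subgroup G) e (a 2) ∈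
      Subgroup.centralizer (DG (S : Subgroup G) e : Set G) :=
    TG_le_centralizer_DG _ e (DG_le_TG _ e (by
      rw [DG_eq_zpowers]; exact Subgroup.mem_zpowers _))
  have htC : emb (S : Subgroup G) e (a 1) ∈
      Subgroup.centralizer (DG (S : Subgroup G) e : Set G) :=
    TG_le_centralizer_DG _ e (by rw [TG_eq_zpowers]; exact Subgroup.mem_zpowers _)
  have hCN : Subgroup.centralizer (DG (S : Subgroup G) e : Set G) ≤
      Subgroup.normalizer (DG (S : Subgroup G) e : Set G) := Subgroup.centralizer_le_normalizer _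
  have hcard : Nat.card (Subgroup.normalizer (DG (S : Subgroup G) e : Set G)) =
      2 * Nat.card (Subgroup.centralizer (DG (S : Subgroup G) e : Set G)) := by
    have h1 := centralizer_index_normalizer S e hm hm2
    have h2 := Subgroup.card_mul_index ((Subgroup.centralizer (DG (S : Subgroup G) e : Set G)).subgroupOf
      (Subgroup.normalizer (DG (S : Subgroup G) e : Set G)))
    rw [h1, Cfsg.Agent.Lib.Helper1.card_subgroupOf_of_le hCN] at h2
    omega
  obtain ⟨Θ, hΘg, hΘ1, hΘ3, hΘvan, hΘval⟩ := theta_aux _ _ hCN hcard m ν hν4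
     (fun y g hy hdvd hgy => mem_normalizer_of_conj_mem S e hm hm2 hy hdvd hgy) hνdvd
     (fun s hs y hy => conj_mem_centralizer_of_mem_normalizer _ hs hy) hνinv
     ⟨emb (S : Subgroup G) e (a 1), htC⟩ (hνt htC)
  have h0 : Θ 1 = 0 := by
    apply hΘvan
    rw [orderOf_one]
    intro h
    have := Nat.le_of_dvd one_pos h
    omega
  obtain ⟨χ₁, χ₂, h1, h2, h3, h4, h5, h6⟩ := exists_chars_of_theta hΘg hΘ1 hΘ3 h0
  refine ⟨χ₁, χ₂, h1, h2, h3, h4, h5, ?_, ?_⟩
  · intro g hg
    have h4m : 4 ∣ m := by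
      obtain ⟨k, hk⟩ := hm2
      have hk2 : 2 ≤ k := by
        by_contra hlt
        have : k = 0 ∨ k = 1 := by omega
        rcases this with h | h <;> rw [h] at hk <;> omega
      rw [hk]
      exact pow_dvd_pow 2 hk2
    have := hΘvan g (fun h => hg (dvd_trans h4m h))
    rw [h6 g] at this
    linear_combination -this
  · have hne : ν ⟨emb (S : Subgroup G) e (a 2), hdC⟩ ≠ 1 := by
      rw [hνd hdC]; exact neg_one_units_ne_one
    have := hΘval ⟨emb (S : Subgroup G) e (a 2), hdC⟩ hne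
    rw [hνd hdC, h6, Units.val_neg, Units.val_one] at this
    have h7 : ((-1 : ℂ))⁻¹ = -1 := by norm_num
    rw [h7] at this
    linear_combination -this

end

section

variable {G : Type*} [Group G] [Finite G]

theorem exists_conj_mem_sylow {p : ℕ} [Fact p.Prime] (S : Sylow p G) (H : Subgroup G)
    (hH : IsPGroup p H) : ∃ c : G, ∀ h ∈ H, c * h * c⁻¹ ∈ (S : Subgroup G) := by
  obtain ⟨P, hP⟩ := hH.exists_le_sylow
  obtain ⟨c, hc⟩ := MulAction.exists_smul_eq G P S
  refine ⟨c, fun h hh => ?_⟩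
  have h1 : MulAut.conj c • h ∈ MulAut.conj c • (P : Subgroup G) :=
    Subgroup.smul_mem_pointwise_smul _ _ _ (hP hh)
  have h2 : ((c • P : Sylow p G) : Subgroup G) = MulAut.conj c • (P : Subgroup G) :=
    Sylow.pointwise_smul_def
  rw [← h2, hc] at h1
  simpa [MulAut.smul_def] using h1

/-- if a Sylow 2-subgroup has a unique involution, commuting involutions coincide -/
theorem eq_of_commute_of_orderOf_eq_two (S : Sylow 2 G)
    (hS : ∀ s ∈ (S : Subgroup G), ∀ t ∈ (S : Subgroup G), orderOf s = 2 → orderOf t = 2 → s = t) {x u : G}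
    (hx : orderOf x = 2) (hu : orderOf u = 2) (hc : Commute x u) : x = u := by
  haveI : Fact (Nat.Prime 2) := ⟨Nat.prime_two⟩
  have h1 : IsPGroup 2 (Subgroup.zpowers x) := by
    apply IsPGroup.of_card (n := 1)
    rw [Nat.card_zpowers, hx, pow_one]
  have h2 : IsPGroup 2 (Subgroup.zpowers u) := by
    apply IsPGroup.of_card (n := 1)
    rw [Nat.card_zpowers, hu, pow_one]
  have h3 : Subgroup.zpowers x ≤ Subgroup.normalizer (Subgroup.zpowers u : Set G) := by
    rw [Subgroup.zpowers_le]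
    rw [Subgroup.mem_normalizer_iff]
    intro h
    have hconj : ∀ w : G, x * w * x⁻¹ ∈ Subgroup.zpowers u ↔ w ∈ Subgroup.zpowers u := by
      intro w
      constructor
      · rintro ⟨k, hk⟩
        refine ⟨k, ?_⟩
        have h4 : x⁻¹ * (u ^ k) * x = u ^ k := by
          have : Commute x (u ^ k) := hc.zpow_right k
          calc x⁻¹ * (u ^ k) * x = x⁻¹ * (u ^ k * x) := by group
            _ = x⁻¹ * (x * u ^ k) := by rw [this.eq]
            _ = u ^ k := by group
        have hk' : u ^ k = x * w * x⁻¹ := hk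
        calc u ^ k = x⁻¹ * (u ^ k) * x := h4.symm
          _ = x⁻¹ * (x * w * x⁻¹) * x := by rw [hk']
          _ = w := by group
      · rintro ⟨k, rfl⟩
        refine ⟨k, ?_⟩
        have : Commute x (u ^ k) := hc.zpow_right k
        show u ^ k = x * u ^ k * x⁻¹
        rw [this.eq]
        group
    exact (hconj h).symm
  have h4 : IsPGroup 2 ((Subgroup.zpowers x ⊔ Subgroup.zpowers u : Subgroup G)) :=
    IsPGroup.to_sup_of_normal_right' h1 h2 h3
  obtain ⟨c, hc'⟩ := exists_conj_mem_sylow S _ h4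
  have hx' := hc' x (Subgroup.mem_sup_left (Subgroup.mem_zpowers x))
  have hu' := hc' u (Subgroup.mem_sup_right (Subgroup.mem_zpowers u))
  have hox : orderOf (c * x * c⁻¹) = 2 := by
    have : c * x * c⁻¹ = MulAut.conj c x := by simp
    rw [this, MulEquiv.orderOf_eq, hx]
  have hou : orderOf (c * u * c⁻¹) = 2 := by
    have : c * u * c⁻¹ = MulAut.conj c u := by simp
    rw [this, MulEquiv.orderOf_eq, hu]
  have := hS _ hx' _ hu' hox hou
  have h5 : x = c⁻¹ * (c * x * c⁻¹) * c := by group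
  rw [h5, this]
  group

theorem not_four_dvd_orderOf_mul (S : Sylow 2 G)
    (hS : ∀ s ∈ (S : Subgroup G), ∀ t ∈ (S : Subgroup G), orderOf s = 2 → orderOf t = 2 → s = t) {x y : G}
    (hx : orderOf x = 2) (hy : orderOf y = 2) : ¬ 4 ∣ orderOf (x * y) := by
  intro h4
  obtain ⟨k, hk⟩ := h4
  have hkpos : 0 < k := by
    rcases Nat.eq_zero_or_pos k with h | h
    · exfalso
      rw [h, mul_zero] at hk
      exact (orderOf_pos (x * y)).ne' hk
    · exact h
  have hx2 : x * x = 1 := by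
    have := pow_orderOf_eq_one x
    rwa [hx, pow_two] at this
  have hy2 : y * y = 1 := by
    have := pow_orderOf_eq_one y
    rwa [hy, pow_two] at this
  have hxinv : x⁻¹ = x := inv_eq_of_mul_eq_one_left hx2
  have hyinv : y⁻¹ = y := inv_eq_of_mul_eq_one_left hy2
  set g := x * y with hg
  have hconj : x * g * x⁻¹ = g⁻¹ := by
    rw [hg, mul_inv_rev, hxinv, hyinv, ← mul_assoc, hx2, one_mul]
  set u := g ^ (2 * k) with hu
  have hou : orderOf u = 2 := by
    rw [hu, orderOf_pow_of_dvd (by omega) (by rw [hk]; exact ⟨2, by ring⟩), hk]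
    have : 4 * k = 2 * (2 * k) := by ring
    rw [this]
    exact Nat.mul_div_cancel _ (by omega)
  have hu2 : u * u = 1 := by
    have := pow_orderOf_eq_one u
    rwa [hou, pow_two] at this
  have huinv : u⁻¹ = u := inv_eq_of_mul_eq_one_left hu2
  have hconju : x * u * x⁻¹ = u := by
    have h1 : x * u * x⁻¹ = (x * g * x⁻¹) ^ (2 * k) := by
      rw [hu, conj_pow]
    rw [h1, hconj, inv_pow, ← hu, huinv]
  have hcomm : Commute x u := by
    show x * u = u * x
    calc x * u = x * u * x⁻¹ * x := by group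
      _ = u * x := by rw [hconju]
  have hxu : x = u := eq_of_commute_of_orderOf_eq_two S hS hx hou hcomm
  have hcg : Commute x g := by
    rw [hxu, hu]
    exact (Commute.refl g).pow_left _
  have hgg : g = g⁻¹ := by
    calc g = x * g * x⁻¹ := by rw [hcg.eq]; group
      _ = g⁻¹ := hconj
  have hg2 : g ^ 2 = 1 := by
    rw [pow_two]
    nth_rewrite 2 [hgg]
    exact mul_inv_cancel g
  have := orderOf_dvd_of_pow_eq_one hg2
  rw [hk] at this
  have := Nat.le_of_dvd two_pos this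
  omega

end

section

variable {G : Type*} [Group G] [Fintype G]

theorem exists_kernel_not_commutator_le {χ : G → ℂ} (hχ : Cfsg.IsIrrCharacter G χ)
    (hχ1 : χ 1 ≠ 1) :
    ∃ M : Subgroup G, M.Normal ∧ (∀ g, g ∈ M ↔ χ g = χ 1) ∧ ¬ commutator G ≤ M := by
  obtain ⟨n, ρ, hirr, rfl⟩ := hχ
  haveI := hirr
  refine ⟨MonoidHom.ker (ρ : G →* _), inferInstance, ?_, ?_⟩
  · intro g
    rw [MonoidHom.mem_ker, Representation.char_one, character_eq_finrank_iff]
    rfl
  · intro hle
    apply hχ1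
    have := finrank_eq_one_of_commutator_le_ker ρ (fun z hz => by
      have := hle hz
      rw [MonoidHom.mem_ker] at this
      exact this)
    rw [Representation.char_one, this]
    simp

theorem char_involution_eq_degree {χ₁ χ₂ : G → ℂ}
    (h1 : Cfsg.IsIrrCharacter G χ₁) (h2 : Cfsg.IsIrrCharacter G χ₂) (hdeg : χ₁ 1 = χ₂ 1 + 1)
    (hdiff : ∀ g : G, ¬ 4 ∣ orderOf g → χ₁ g - χ₂ g = 1) (z : G) (hz4 : ¬ 4 ∣ orderOf z)
    (hz : ∀ x y : G, IsConj z x → IsConj z y → ¬ 4 ∣ orderOf (x * y)) :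
    χ₂ z = χ₂ 1 := by
  classical
  obtain ⟨ind, hind⟩ : ∃ ind : G → ℂ, ind = fun x => if IsConj z x then (1 : ℂ) else 0 :=
    ⟨_, rfl⟩
  have hind1 : ∀ x, IsConj z x → ind x = 1 := fun x hx => by rw [hind]; exact if_pos hx
  have hind0 : ∀ x, ¬ IsConj z x → ind x = 0 := fun x hx => by rw [hind]; exact if_neg hx
  have hindc : Cfsg.IsClassFunction G ind := by
    intro x h
    have : IsConj z (h * x * h⁻¹) ↔ IsConj z x := by
      constructor
      · intro h1
        exact h1.trans (isConj_iff.mpr ⟨h⁻¹, by group⟩)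
      · intro h1
        exact h1.trans (isConj_iff.mpr ⟨h, rfl⟩)
    rw [hind]
    simp only [this]
  obtain ⟨κ, hκ⟩ : ∃ κ : ℂ, κ = ∑ h : G, ind h := ⟨_, rfl⟩
  have hκ0 : κ ≠ 0 := by
    have h3 : κ = ((Finset.univ.filter (fun x : G => IsConj z x)).card : ℂ) := by
      rw [hκ, hind, Finset.sum_boole]
    rw [h3]
    have : 0 < (Finset.univ.filter (fun x : G => IsConj z x)).card :=
      Finset.card_pos.mpr ⟨z, Finset.mem_filter.mpr ⟨Finset.mem_univ _, IsConj.refl z⟩⟩
    exact_mod_cast this.ne'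
  have hsumχ : ∀ χ : G → ℂ, Cfsg.IsClassFunction G χ → ∑ h : G, ind h * χ h = κ * χ z := by
    intro χ hχ
    rw [hκ, Finset.sum_mul]
    apply Finset.sum_congr rfl
    intro h _
    by_cases hh : IsConj z h
    · obtain ⟨c, hc⟩ := isConj_iff.mp hh
      rw [← hc, hχ z c]
    · rw [hind0 h hh, zero_mul, zero_mul]
  have hA : ∀ χ : G → ℂ, Cfsg.IsIrrCharacter G χ →
      ∑ k : G, ind k * ∑ h : G, ind h * χ (h * k) = κ * χ z * (κ * χ z) / χ 1 := by
    intro χ hχ
    have hcl := IsCharacter.isClassFunction (IsIrrCharacter.isCharacter hχ)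
    have h3 : ∀ k : G, ind k * ∑ h : G, ind h * χ (h * k) =
        (κ * χ z / χ 1) * (ind k * χ k) := by
      intro k
      rw [sum_classFunction_mul_shift hχ hindc k, hsumχ χ hcl]
      ring
    simp_rw [h3]
    rw [← Finset.mul_sum, hsumχ χ hcl]
    ring
  have hzero : ∑ k : G, ind k * ∑ h : G, ind h * (1 + χ₂ (h * k) - χ₁ (h * k)) = 0 := by
    apply Finset.sum_eq_zero
    intro k _
    by_cases hk : IsConj z k
    · rw [Finset.sum_eq_zero, mul_zero]
      intro h _
      by_cases hh : IsConj z h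
      · have := hdiff (h * k) (hz h k hh hk)
        have h0 : 1 + χ₂ (h * k) - χ₁ (h * k) = 0 := by linear_combination -this
        rw [h0, mul_zero]
      · rw [hind0 h hh, zero_mul]
    · rw [hind0 k hk, zero_mul]
  have hexp : ∑ k : G, ind k * ∑ h : G, ind h * (1 + χ₂ (h * k) - χ₁ (h * k)) =
      κ * κ + κ * χ₂ z * (κ * χ₂ z) / χ₂ 1 - κ * χ₁ z * (κ * χ₁ z) / χ₁ 1 := by
    rw [← hA χ₁ h1, ← hA χ₂ h2]
    have h3 : ∀ k : G, ind k * ∑ h : G, ind h * (1 + χ₂ (h * k) - χ₁ (h * k)) =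
        ind k * κ + ind k * ∑ h : G, ind h * χ₂ (h * k) - ind k * ∑ h : G, ind h * χ₁ (h * k) := by
      intro k
      rw [hκ, ← mul_add, ← mul_sub, ← Finset.sum_add_distrib, ← Finset.sum_sub_distrib]
      congr 1
      apply Finset.sum_congr rfl
      intro h _
      ring
    simp_rw [h3]
    rw [Finset.sum_sub_distrib, Finset.sum_add_distrib, ← Finset.sum_mul, ← hκ]
  rw [hexp] at hzero
  have hd2 : χ₂ 1 ≠ 0 := IsIrrCharacter.apply_one_ne_zero h2
  have hd1 : χ₁ 1 ≠ 0 := IsIrrCharacter.apply_one_ne_zero h1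
  have hb : χ₁ z = χ₂ z + 1 := by
    have := hdiff z hz4
    linear_combination this
  rw [hb, hdeg] at hzero
  have hd1' : χ₂ 1 + 1 ≠ 0 := by rw [← hdeg]; exact hd1
  have h5 : κ * κ * ((χ₂ 1 - χ₂ z) ^ 2) = 0 := by
    field_simp at hzero
    linear_combination hzero
  have h6 : (χ₂ 1 - χ₂ z) ^ 2 = 0 := by
    rcases mul_eq_zero.mp h5 with h | h
    · exfalso
      exact hκ0 (mul_self_eq_zero.mp h)
    · exact h
  have h7 : χ₂ 1 - χ₂ z = 0 := by
    exact pow_eq_zero_iff (two_ne_zero) |>.mp h6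
  linear_combination -h7

end

end Cfsg.Agent.Lib.Helper8.BS
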