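import Mathlib
import Cfsg.Agent.Lib.Helper8.BS7
import Cfsg.Agent.Lib.Helper7.HSubC
import Cfsg.Agent.Lib.Helper1.NormalPComplement

/-! Brauer–Suzuki, part 8: the involutions generate a subgroup with cyclic Sylow 2-subgroups;
the centre. -/
set_option autoImplicit false
open scoped commutatorElement Pointwise ComplexConjugate

namespace Cfsg.Agent.Lib.Helper8.BS

open QuaternionGroup Cfsg.Agent.Lib.Helper6

section

variable {G : Type*} [Group G] [Finite G] {m : ℕ} [NeZero m]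
  (S : Sylow 2 G) (e : (S : Subgroup G) ≃* QuaternionGroup m)

include e in
theorem unique_involution_S :
    ∀ s ∈ (S : Subgroup G), ∀ t ∈ (S : Subgroup G), orderOf s = 2 → orderOf t = 2 → s = t := by
  intro s hs t ht hs2 ht2
  rw [eq_of_orderOf_eq_two (S : Subgroup G) e hs hs2,
    eq_of_orderOf_eq_two (S : Subgroup G) e ht ht2]

theorem exists_kernel' {χ : G → ℂ} (hχ : Cfsg.IsCharacter G χ) :
    ∃ K : Subgroup G, K.Normal ∧ ∀ g, g ∈ K ↔ χ g = χ 1 := by
  obtain ⟨n, ρ, rfl⟩ := hχ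
  refine ⟨MonoidHom.ker (ρ : G →* _), inferInstance, ?_⟩
  intro g
  rw [MonoidHom.mem_ker, Representation.char_one, character_eq_finrank_iff]
  rfl

theorem exists_normal_z_not_d (hm : 2 < m) (hm2 : ∃ k, m = 2 ^ k) :
    ∃ M : Subgroup G, M.Normal ∧ emb (S : Subgroup G) e (a (m : ZMod (2 * m))) ∈ M ∧
      emb (S : Subgroup G) e (a 2) ∉ M := by
  classical
  haveI : Fintype G := Fintype.ofFinite G
  obtain ⟨χ₁, χ₂, h1, h2, h3, h4, h5, h6, h7⟩ := exists_chars S e hm hm2
  have hS := unique_involution_S S e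
  set z : G := emb (S : Subgroup G) e (a (m : ZMod (2 * m))) with hzdef
  have hz2 : orderOf z = 2 := orderOf_emb_a_m (S : Subgroup G) e
  have hconj2 : ∀ x : G, IsConj z x → orderOf x = 2 := by
    intro x hx
    obtain ⟨c, hc⟩ := isConj_iff.mp hx
    have : c * z * c⁻¹ = MulAut.conj c z := by simp
    rw [← hc, this, MulEquiv.orderOf_eq, hz2]
  have hz4 : ¬ 4 ∣ orderOf z := by rw [hz2]; norm_num
  have hχ2 : χ₂ z = χ₂ 1 :=
    char_involution_eq_degree h1 h2 h5 h6 z hz4
      (fun x y hx hy => not_four_dvd_orderOf_mul S hS (hconj2 x hx) (hconj2 y hy))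
  have hχ1 : χ₁ z = χ₁ 1 := by
    have := h6 z hz4
    rw [h5, ← hχ2]
    linear_combination this
  obtain ⟨K₁, hK₁n, hK₁⟩ := exists_kernel' (IsIrrCharacter.isCharacter h1)
  obtain ⟨K₂, hK₂n, hK₂⟩ := exists_kernel' (IsIrrCharacter.isCharacter h2)
  refine ⟨K₁ ⊓ K₂, inferInstance, ⟨(hK₁ z).mpr hχ1, (hK₂ z).mpr hχ2⟩, ?_⟩
  rintro ⟨hd1, hd2⟩
  rw [(hK₁ _).mp hd1, (hK₂ _).mp hd2, h5] at h7
  norm_num at h7

theorem involution_mem_of_normal (M : Subgroup G) [hM : M.Normal]
    (hz : emb (S : Subgroup G) e (a (m : ZMod (2 * m))) ∈ M) {x : G} (hx : orderOf x = 2) :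
    x ∈ M := by
  haveI : Fact (Nat.Prime 2) := ⟨Nat.prime_two⟩
  have h1 : IsPGroup 2 (Subgroup.zpowers x) := by
    apply IsPGroup.of_card (n := 1)
    rw [Nat.card_zpowers, hx, pow_one]
  obtain ⟨c, hc⟩ := exists_conj_mem_sylow S _ h1
  have hxS := hc x (Subgroup.mem_zpowers x)
  have hox : orderOf (c * x * c⁻¹) = 2 := by
    have : c * x * c⁻¹ = MulAut.conj c x := by simp
    rw [this, MulEquiv.orderOf_eq, hx]
  have h2 := eq_of_orderOf_eq_two (S : Subgroup G) e hxS hox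
  have h3 : x = c⁻¹ * (c * x * c⁻¹) * c⁻¹⁻¹ := by group
  rw [h3, h2]
  exact hM.conj_mem _ hz _

theorem mem_TG_of_mem_normal (M : Subgroup G) [hM : M.Normal]
    (hd : emb (S : Subgroup G) e (a 2) ∉ M) {s : G} (hs : s ∈ (S : Subgroup G)) (hsM : s ∈ M) :
    s ∈ TG (S : Subgroup G) e := by
  by_contra hsT
  apply hd
  set t₀ : G := emb (S : Subgroup G) e (a 1) with ht₀
  have ht₀T : t₀ ∈ TG (S : Subgroup G) e := by
    rw [TG_eq_zpowers]; exact Subgroup.mem_zpowers _
  have h1 : s * t₀ * s⁻¹ = t₀⁻¹ := conj_inv_of_not_mem_TG _ e hs hsT ht₀T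
  have h2 : s * (t₀ * s⁻¹ * t₀⁻¹) ∈ M := M.mul_mem hsM (hM.conj_mem _ (M.inv_mem hsM) _)
  have h3 : s * (t₀ * s⁻¹ * t₀⁻¹) = (t₀ ^ 2)⁻¹ := by
    calc s * (t₀ * s⁻¹ * t₀⁻¹) = (s * t₀ * s⁻¹) * t₀⁻¹ := by group
      _ = t₀⁻¹ * t₀⁻¹ := by rw [h1]
      _ = (t₀ ^ 2)⁻¹ := by group
  rw [h3] at h2
  rw [emb_a_two_eq_sq]
  exact (M.inv_mem_iff).mp h2

theorem isCyclic_sylow_of_le (M : Subgroup G) [hM : M.Normal]
    (hd : emb (S : Subgroup G) e (a 2) ∉ M) (I : Subgroup G) (hIM : I ≤ M) (Q : Sylow 2 ↥I) :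
    IsCyclic ↥(Q : Subgroup ↥I) := by
  haveI : Fact (Nat.Prime 2) := ⟨Nat.prime_two⟩
  have hH : IsPGroup 2 ((Q : Subgroup ↥I).map I.subtype) := Q.2.map _
  obtain ⟨c, hc⟩ := exists_conj_mem_sylow S _ hH
  have hmemT : ∀ q : ↥(Q : Subgroup ↥I), c * ((q : ↥I) : G) * c⁻¹ ∈ TG (S : Subgroup G) e := by
    intro q
    apply mem_TG_of_mem_normal S e M hd
    · exact hc _ (Subgroup.mem_map_of_mem _ q.2)
    · exact hM.conj_mem _ (hIM (q : ↥I).2) c
  let g : ↥(Q : Subgroup ↥I) →* G :=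
    (MulAut.conj c).toMonoidHom.comp (I.subtype.comp (Q : Subgroup ↥I).subtype)
  have hg : ∀ q, g q ∈ TG (S : Subgroup G) e := fun q => hmemT q
  let f := g.codRestrict (TG (S : Subgroup G) e) hg
  have hf : Function.Injective f := by
    intro x y hxy
    have h1 : g x = g y := congrArg Subtype.val hxy
    have h2 : ((x : ↥I) : G) = ((y : ↥I) : G) := by
      have : c * ((x : ↥I) : G) * c⁻¹ = c * ((y : ↥I) : G) * c⁻¹ := h1
      exact mul_left_cancel (mul_right_cancel this)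
    exact Subtype.ext (Subtype.ext h2)
  haveI := isCyclic_TG (S : Subgroup G) e
  exact isCyclic_of_injective f hf

include S e in
theorem isCyclic_sylow_closure_involutions (hm : 2 < m) (hm2 : ∃ k, m = 2 ^ k)
    (Q : Sylow 2 ↥(Subgroup.closure {g : G | orderOf g = 2})) :
    IsCyclic ↥(Q : Subgroup ↥(Subgroup.closure {g : G | orderOf g = 2})) := by
  obtain ⟨M, hMn, hzM, hdM⟩ := exists_normal_z_not_d S e hm hm2
  haveI := hMn
  apply isCyclic_sylow_of_le S e M hdM
  rw [Subgroup.closure_le]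
  intro x hx
  exact involution_mem_of_normal S e M hzM hx

end

section

variable {G : Type*} [Group G]

theorem normal_closure_involutions : (Subgroup.closure {g : G | orderOf g = 2}).Normal := by
  constructor
  intro n hn g
  have h1 : (Subgroup.closure {g : G | orderOf g = 2}).map (MulAut.conj g).toMonoidHom ≤
      Subgroup.closure {g : G | orderOf g = 2} := by
    rw [MonoidHom.map_closure, Subgroup.closure_le]
    rintro _ ⟨x, hx, rfl⟩
    apply Subgroup.subset_closure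
    show orderOf (MulAut.conj g x) = 2
    rw [MulEquiv.orderOf_eq]
    exact hx
  have h2 : g * n * g⁻¹ = (MulAut.conj g).toMonoidHom n := by simp
  rw [h2]
  exact h1 (Subgroup.mem_map_of_mem _ hn)

theorem isPGroup_two_of_odd_trivial [Finite G] (H : Subgroup G)
    (h : ∀ x ∈ H, Odd (orderOf x) → x = 1) : IsPGroup 2 H := by
  rintro ⟨x, hx⟩
  obtain ⟨k, b, hb, hkb⟩ := Nat.exists_eq_two_pow_mul_odd (orderOf_pos x).ne'
  refine ⟨k, ?_⟩
  apply Subtype.ext
  rw [Subgroup.coe_pow, Subgroup.coe_one]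
  apply h _ (H.pow_mem hx _)
  have h1 : (x ^ 2 ^ k) ^ b = 1 := by
    rw [← pow_mul, ← hkb]
    exact pow_orderOf_eq_one x
  exact Odd.of_dvd_nat hb (orderOf_dvd_of_pow_eq_one h1)

end

section

variable {G : Type*} [Group G] [Finite G] {m : ℕ} [NeZero m]
  (S : Sylow 2 G) (e : (S : Subgroup G) ≃* QuaternionGroup m)

include S e in
theorem card_center_eq_two (hm : 2 < m) (hm2 : ∃ k, m = 2 ^ k)
    (hO : ∀ N : Subgroup G, N.Normal → Odd (Nat.card N) → N = ⊥) :
    Nat.card (Subgroup.center G) = 2 := by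
  haveI : Fact (Nat.Prime 2) := ⟨Nat.prime_two⟩
  obtain ⟨I, hI⟩ : ∃ I : Subgroup G, I = Subgroup.closure {g : G | orderOf g = 2} := ⟨_, rfl⟩
  have hIn : I.Normal := by rw [hI]; exact normal_closure_involutions
  have hcyc : ∀ Q : Sylow 2 ↥I, IsCyclic ↥(Q : Subgroup ↥I) := by
    subst hI
    exact fun Q => isCyclic_sylow_closure_involutions S e hm hm2 Q
  set z : G := emb (S : Subgroup G) e (a (m : ZMod (2 * m))) with hzdef
  have hz2 : orderOf z = 2 := orderOf_emb_a_m (S : Subgroup G) e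
  have hzS : z ∈ (S : Subgroup G) := emb_mem _ e _
  -- normal 2-complement of I
  obtain ⟨Q₀⟩ : Nonempty (Sylow 2 ↥I) := inferInstance
  have hnpc : Cfsg.HasNormalPComplement 2 ↥I :=
    Cfsg.Agent.Lib.Helper7.hasNormalPComplement_of_isCyclic_sylow Q₀
      (fun q hq _ => hq.two_le) (hcyc Q₀)
  obtain ⟨P, K, hKn, hKc⟩ := hnpc
  haveI := hKn
  have hKmem := Cfsg.Agent.Lib.Helper1.mem_normal_complement_iff P K hKc
  have hK₁n : (K.map I.subtype).Normal := by
    constructor
    rintro _ ⟨x, hx, rfl⟩ g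
    have hgx : g * (x : G) * g⁻¹ ∈ I := hIn.conj_mem _ x.2 g
    refine ⟨⟨g * (x : G) * g⁻¹, hgx⟩, ?_, rfl⟩
    rw [SetLike.mem_coe, hKmem]
    have h1 := (hKmem x).mp hx
    have h2 : orderOf (⟨g * (x : G) * g⁻¹, hgx⟩ : ↥I) = orderOf x := by
      rw [← Subgroup.orderOf_coe, ← Subgroup.orderOf_coe]
      have : g * (x : G) * g⁻¹ = MulAut.conj g (x : G) := by simp
      show orderOf (g * (x : G) * g⁻¹) = _
      rw [this, MulEquiv.orderOf_eq]
    rw [h2]
    exact h1
  have hK₁odd : Odd (Nat.card (K.map I.subtype)) := by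
    rw [Subgroup.card_map_of_injective (Subgroup.subtype_injective I)]
    have h1 : Nat.card K = (P : Subgroup ↥I).index := hKc.index_eq_card.symm
    rw [h1, ← Nat.not_even_iff_odd, even_iff_two_dvd]
    exact P.not_dvd_index
  have hK₁bot := hO _ hK₁n hK₁odd
  have hIodd : ∀ x ∈ I, Odd (orderOf x) → x = 1 := by
    intro x hx hodd
    have h1 : (⟨x, hx⟩ : ↥I) ∈ K := by
      rw [hKmem, Subgroup.orderOf_mk]
      exact Nat.Coprime.symm (Nat.coprime_two_left.mpr hodd)
    have h2 : x ∈ K.map I.subtype := ⟨⟨x, hx⟩, h1, rfl⟩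
    rw [hK₁bot, Subgroup.mem_bot] at h2
    exact h2
  have hI2 : IsPGroup 2 I := isPGroup_two_of_odd_trivial I hIodd
  obtain ⟨c, hc⟩ := exists_conj_mem_sylow S I hI2
  have hinv : ∀ x : G, orderOf x = 2 → c * x * c⁻¹ = z := by
    intro x hx
    have hxI : x ∈ I := by rw [hI]; exact Subgroup.subset_closure hx
    have hox : orderOf (c * x * c⁻¹) = 2 := by
      have : c * x * c⁻¹ = MulAut.conj c x := by simp
      rw [this, MulEquiv.orderOf_eq, hx]
    exact eq_of_orderOf_eq_two (S : Subgroup G) e (hc x hxI) hox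
  have huniq : ∀ x : G, orderOf x = 2 → x = z := by
    intro x hx
    have h1 := hinv x hx
    have h2 := hinv z hz2
    have h3 : c * x * c⁻¹ = c * z * c⁻¹ := by rw [h1, h2]
    exact mul_left_cancel (mul_right_cancel h3)
  have hzc : z ∈ Subgroup.center G := by
    rw [Subgroup.mem_center_iff]
    intro g
    have hog : orderOf (g * z * g⁻¹) = 2 := by
      have : g * z * g⁻¹ = MulAut.conj g z := by simp
      rw [this, MulEquiv.orderOf_eq, hz2]
    have := huniq _ hog
    calc g * z = g * z * g⁻¹ * g := by group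
      _ = z * g := by rw [this]
  -- the centre is a 2-group
  have hZ2 : IsPGroup 2 (Subgroup.center G) := by
    apply isPGroup_two_of_odd_trivial
    intro x hx hodd
    have hn : (Subgroup.zpowers x).Normal := by
      constructor
      rintro _ ⟨k, rfl⟩ g
      refine ⟨k, ?_⟩
      have hxk : x ^ k ∈ Subgroup.center G := (Subgroup.center G).zpow_mem hx k
      have := Subgroup.mem_center_iff.mp hxk g
      show x ^ k = g * x ^ k * g⁻¹
      rw [this]
      group
    have hodd' : Odd (Nat.card (Subgroup.zpowers x)) := by rw [Nat.card_zpowers]; exact hodd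
    have := hO _ hn hodd'
    have h1 : x ∈ Subgroup.zpowers x := Subgroup.mem_zpowers x
    rw [this, Subgroup.mem_bot] at h1
    exact h1
  obtain ⟨c', hc'⟩ := exists_conj_mem_sylow S _ hZ2
  have hZS : ∀ x ∈ Subgroup.center G, x ∈ (S : Subgroup G) := by
    intro x hx
    have h1 := hc' x hx
    have h2 : c' * x * c'⁻¹ = x := by
      have := Subgroup.mem_center_iff.mp hx c'
      rw [this]
      group
    rwa [h2] at h1
  have hZ : ∀ x ∈ Subgroup.center G, x = 1 ∨ x = z := by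
    intro x hx
    apply mem_center_S (by omega) (S : Subgroup G) e (hZS x hx)
    intro y _
    exact Subgroup.mem_center_iff.mp hx y
  have hz1 : z ≠ 1 := by
    intro h
    rw [h, orderOf_one] at hz2
    omega
  rw [Nat.card_eq_two_iff' (1 : ↥(Subgroup.center G))]
  refine ⟨⟨z, hzc⟩, ?_, ?_⟩
  · intro h
    exact hz1 (congrArg Subtype.val h)
  · intro y hy
    rcases hZ y y.2 with h | h
    · exfalso
      exact hy (Subtype.ext h)
    · exact Subtype.ext h

end

end Cfsg.Agent.Lib.Helper8.BS
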