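import Mathlib

/-! Baer's additive structure on a group of class at most 2 and odd prime exponent. -/

set_option autoImplicit false

namespace Cfsg.Agent.Lib.Helper8.Baer

open scoped commutatorElement

variable {D : Type*} [Group D]

/-- class ≤ 2 : all commutators are central -/
def Class2 (D : Type*) [Group D] : Prop := ∀ x y z : D, ⁅x, y⁆ * z = z * ⁅x, y⁆

theorem comm_mul_left (hc : Class2 D) (x y z : D) : ⁅x * y, z⁆ = ⁅x, z⁆ * ⁅y, z⁆ := by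
  have e : ⁅x * y, z⁆ = x * ⁅y, z⁆ * x⁻¹ * ⁅x, z⁆ := by
    simp only [commutatorElement_def]; group
  rw [e, ← hc y z x, mul_inv_cancel_right, hc]

theorem comm_mul_right (hc : Class2 D) (x y z : D) : ⁅x, y * z⁆ = ⁅x, y⁆ * ⁅x, z⁆ := by
  rw [← commutatorElement_inv, comm_mul_left hc, mul_inv_rev, commutatorElement_inv,
    commutatorElement_inv, hc]

theorem comm_self (x : D) : ⁅x, x⁆ = 1 := by simp

theorem comm_one_left (x : D) : ⁅(1 : D), x⁆ = 1 := by simp [commutatorElement_def]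

theorem comm_one_right (x : D) : ⁅x, (1 : D)⁆ = 1 := by simp [commutatorElement_def]

theorem comm_pow_left (hc : Class2 D) (x y : D) (n : ℕ) : ⁅x ^ n, y⁆ = ⁅x, y⁆ ^ n := by
  induction n with
  | zero => simp [comm_one_left]
  | succ n ih => rw [pow_succ, comm_mul_left hc, ih, pow_succ]

theorem comm_pow_right (hc : Class2 D) (x y : D) (n : ℕ) : ⁅x, y ^ n⁆ = ⁅x, y⁆ ^ n := by
  induction n with
  | zero => simp [comm_one_right]
  | succ n ih => rw [pow_succ, comm_mul_right hc, ih, pow_succ]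

theorem comm_central_right (hc : Class2 D) (z w c : D) (hcen : ∀ v : D, c * v = v * c) :
    ⁅z, w * c⁆ = ⁅z, w⁆ := by
  rw [comm_mul_right hc]
  have : ⁅z, c⁆ = 1 := by
    rw [commutatorElement_def, ← hcen z, mul_inv_cancel_right, mul_inv_cancel]
  rw [this, mul_one]

theorem comm_central_left (hc : Class2 D) (z w c : D) (hcen : ∀ v : D, c * v = v * c) :
    ⁅w * c, z⁆ = ⁅w, z⁆ := by
  rw [← commutatorElement_inv, comm_central_right hc z w c hcen, commutatorElement_inv]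

theorem pow_central (hc : Class2 D) (x y : D) (n : ℕ) (v : D) : ⁅x, y⁆ ^ n * v = v * ⁅x, y⁆ ^ n := by
  induction n with
  | zero => simp
  | succ n ih => rw [pow_succ, mul_assoc, hc, ← mul_assoc, ih, mul_assoc]

/-- hypotheses for the Baer structure -/
structure Hyp (p : ℕ) (D : Type*) [Group D] : Prop where
  prime : p.Prime
  odd : p ≠ 2
  c2 : Class2 D
  exp : ∀ x : D, x ^ p = 1

namespace Hyp

variable {p : ℕ} (h : Hyp p D)

include h

theorem two_mul_half : 2 * ((p + 1) / 2) = p + 1 := by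
  have := h.prime.eq_one_or_self_of_dvd 2
  have hodd : p % 2 = 1 := by
    rcases Nat.mod_two_eq_zero_or_one p with h0 | h1
    · exfalso
      have : 2 ∣ p := Nat.dvd_of_mod_eq_zero h0
      rcases h.prime.eq_one_or_self_of_dvd 2 this with h2 | h2
      · omega
      · exact h.odd h2.symm
    · exact h1
  omega

theorem comm_pow_p (x y : D) : ⁅x, y⁆ ^ p = 1 := by
  rw [← comm_pow_left h.c2, h.exp, comm_one_left]

/-- `c ^ h * c ^ h = c` for commutators -/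
theorem half_add_half (x y : D) : ⁅x, y⁆ ^ ((p + 1) / 2) * ⁅x, y⁆ ^ ((p + 1) / 2) = ⁅x, y⁆ := by
  rw [← pow_add, ← two_mul, h.two_mul_half, pow_succ, h.comm_pow_p, one_mul]

/-- Baer addition -/
def add (_ : Hyp p D) (x y : D) : D := x * y * ⁅y, x⁆ ^ ((p + 1) / 2)

theorem add_def (x y : D) : h.add x y = x * y * ⁅y, x⁆ ^ ((p + 1) / 2) := rfl

theorem add_comm' (x y : D) : h.add x y = h.add y x := by
  rw [add_def, add_def]
  have e1 : x * y = ⁅x, y⁆ * (y * x) := by simp only [commutatorElement_def]; group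
  rw [e1]
  -- ⁅x,y⁆ * (y * x) * ⁅y,x⁆^h = y * x * ⁅x,y⁆^h
  have e2 : ⁅y, x⁆ ^ ((p + 1) / 2) = (⁅x, y⁆ ^ ((p + 1) / 2))⁻¹ := by
    rw [← inv_pow, commutatorElement_inv]
  rw [e2, h.c2 x y (y * x), mul_assoc]
  congr 1
  rw [mul_inv_eq_iff_eq_mul, h.half_add_half]

theorem add_assoc' (x y z : D) : h.add (h.add x y) z = h.add x (h.add y z) := by
  simp only [add_def]
  set H := (p + 1) / 2
  have c1 : ∀ v : D, ⁅y, x⁆ ^ H * v = v * ⁅y, x⁆ ^ H := pow_central h.c2 y x H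
  have c2 : ∀ v : D, ⁅z, y⁆ ^ H * v = v * ⁅z, y⁆ ^ H := pow_central h.c2 z y H
  have e1 : ⁅z, x * y * ⁅y, x⁆ ^ H⁆ = ⁅z, x⁆ * ⁅z, y⁆ := by
    rw [comm_central_right h.c2 z (x * y) _ c1, comm_mul_right h.c2]
  have e2 : ⁅y * z * ⁅z, y⁆ ^ H, x⁆ = ⁅y, x⁆ * ⁅z, x⁆ := by
    rw [comm_central_left h.c2 x (y * z) _ c2, comm_mul_left h.c2]
  rw [e1, e2]
  have e3 : (⁅z, x⁆ * ⁅z, y⁆) ^ H = ⁅z, x⁆ ^ H * ⁅z, y⁆ ^ H :=
    (Commute.mul_pow (h.c2 z x _) H)
  have e4 : (⁅y, x⁆ * ⁅z, x⁆) ^ H = ⁅y, x⁆ ^ H * ⁅z, x⁆ ^ H :=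
    (Commute.mul_pow (h.c2 y x _) H)
  rw [e3, e4]
  -- x*y*a*z*(b*c) = x*(y*z*c)*(a*b)
  have c3 : ∀ v : D, ⁅z, x⁆ ^ H * v = v * ⁅z, x⁆ ^ H := pow_central h.c2 z x H
  calc x * y * ⁅y, x⁆ ^ H * z * (⁅z, x⁆ ^ H * ⁅z, y⁆ ^ H)
      = x * y * (⁅y, x⁆ ^ H * z) * (⁅z, x⁆ ^ H * ⁅z, y⁆ ^ H) := by group
    _ = x * y * (z * ⁅y, x⁆ ^ H) * (⁅z, x⁆ ^ H * ⁅z, y⁆ ^ H) := by rw [c1]
    _ = x * y * z * (⁅y, x⁆ ^ H * ⁅z, x⁆ ^ H * ⁅z, y⁆ ^ H) := by group
    _ = x * y * z * (⁅z, y⁆ ^ H * (⁅y, x⁆ ^ H * ⁅z, x⁆ ^ H)) := by rw [← c2]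
    _ = x * (y * z * ⁅z, y⁆ ^ H) * (⁅y, x⁆ ^ H * ⁅z, x⁆ ^ H) := by group

theorem add_one (x : D) : h.add x 1 = x := by
  rw [add_def, comm_one_left, one_pow, mul_one, mul_one]

theorem one_add (x : D) : h.add 1 x = x := by
  rw [add_comm', add_one]

theorem inv_add (x : D) : h.add x⁻¹ x = 1 := by
  rw [add_def]
  have : ⁅x, x⁻¹⁆ = 1 := by simp [commutatorElement_def]
  rw [this, one_pow, mul_one, inv_mul_cancel]

/-- the Baer additive group structure -/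
@[reducible] def addCommGroup (h : Hyp p D) : AddCommGroup D :=
  letI : Add D := ⟨h.add⟩
  letI : Neg D := ⟨fun x => x⁻¹⟩
  letI : Zero D := ⟨1⟩
  { AddGroup.ofLeftAxioms (G := D) h.add_assoc' h.one_add h.inv_add with
    add_comm := h.add_comm' }

end Hyp

end Cfsg.Agent.Lib.Helper8.Baer
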