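import Cfsg.Agent.Lib.Helper8.Baer1

/-! A fixed point outside the centre, via Baer's additive structure. -/

set_option autoImplicit false

namespace Cfsg.Agent.Lib.Helper8.Baer

open scoped commutatorElement

variable {D : Type*} [Group D]

theorem pow_eq_self_of_coprime {p n : ℕ} (hp : 1 < p) (hn : n.Coprime p) {x : D} (hx : x ^ p = 1) :
    ∃ m : ℕ, (x ^ n) ^ m = x := by
  obtain ⟨m, -, hm⟩ := Nat.exists_mul_mod_eq_one_of_coprime hn hp
  refine ⟨m, ?_⟩
  rw [← pow_mul, ← Nat.div_add_mod (n * m) p, pow_add, pow_mul, hx, one_pow, one_mul, hm, pow_one]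

theorem baer_fixed [Finite D] {p : ℕ} [hp : Fact p.Prime] (h : Hyp p D)
    {Qt At : Type*} [Group Qt] [Finite Qt] [Group At] [Finite At]
    (ρ : Qt →* MulAut D) (θ : At →* MulAut D)
    (hcop : (Nat.card Qt).Coprime p) (hAt : IsPGroup p At)
    (hcompat : ∀ a : At, ∃ σ : Qt ≃ Qt, ∀ (k : Qt) (x : D), θ a (ρ k x) = ρ (σ k) (θ a x))
    (hfixZ : ∀ x : D, (∀ k, ρ k x = x) → ∀ y, x * y = y * x)
    (hZfix : ∀ z : D, (∀ y, z * y = y * z) → ∀ k, ρ k z = z)
    (hnonab : ∃ x y : D, x * y ≠ y * x) :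
    ∃ u : D, (¬ ∀ y, u * y = y * u) ∧ ∀ a, θ a u = u := by
  classical
  letI := h.addCommGroup
  haveI : Fintype Qt := Fintype.ofFinite Qt
  have hp1 : 1 < p := hp.out.one_lt
  have hadd : ∀ x y : D, x + y = x * y * ⁅y, x⁆ ^ ((p + 1) / 2) := fun x y => rfl
  have hzero : (0 : D) = 1 := rfl
  have hmap : ∀ (φ : MulAut D) (x y : D), φ (x + y) = φ x + φ y := by
    intro φ x y
    rw [hadd, hadd, map_mul, map_mul, map_pow, map_commutatorElement]
  have hnsmul : ∀ (n : ℕ) (x : D), n • x = x ^ n := by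
    intro n x
    induction n with
    | zero => rw [zero_smul, pow_zero]; rfl
    | succ n ih =>
      rw [succ_nsmul, ih, hadd, pow_succ]
      have : ⁅x, x ^ n⁆ = 1 := by
        rw [comm_pow_right h.c2, comm_self, one_pow]
      rw [this, one_pow, mul_one]
  -- automorphisms as additive maps
  let addOf : MulAut D → (D →+ D) := fun φ => AddMonoidHom.mk' φ (hmap φ)
  have haddOf : ∀ φ x, addOf φ x = φ x := fun φ x => rfl
  let Sh : D →+ D := ∑ k : Qt, addOf (ρ k)
  have hSh : ∀ x, Sh x = ∑ k : Qt, ρ k x := by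
    intro x
    simp only [Sh, AddMonoidHom.finsetSum_apply, haddOf]
  have S_theta : ∀ a x, Sh (θ a x) = θ a (Sh x) := by
    intro a x
    obtain ⟨σ, hσ⟩ := hcompat a
    rw [hSh, hSh]
    have e1 : θ a (∑ k : Qt, ρ k x) = ∑ k : Qt, θ a (ρ k x) :=
      map_sum (addOf (θ a)) (fun k => ρ k x) Finset.univ
    rw [e1]
    simp only [hσ]
    exact (Equiv.sum_comp σ (fun k => ρ k (θ a x))).symm
  have S_fix : ∀ k' x, ρ k' (Sh x) = Sh x := by
    intro k' x
    rw [hSh]
    have e1 : ρ k' (∑ k : Qt, ρ k x) = ∑ k : Qt, ρ k' (ρ k x) :=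
      map_sum (addOf (ρ k')) (fun k => ρ k x) Finset.univ
    rw [e1]
    have : ∀ k, (ρ k') ((ρ k) x) = ρ (k' * k) x := by
      intro k; rw [map_mul]; rfl
    simp only [this]
    exact Equiv.sum_comp (Equiv.mulLeft k') (fun k => ρ k x)
  have hSZ : ∀ x y, Sh x * y = y * Sh x := fun x => hfixZ (Sh x) (fun k => S_fix k x)
  have S_central : ∀ z : D, (∀ y, z * y = y * z) → Sh z = z ^ (Nat.card Qt) := by
    intro z hz
    rw [hSh]
    simp only [hZfix z hz]
    rw [Finset.sum_const, Finset.card_univ, hnsmul, Nat.card_eq_fintype_card]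
  -- the p-group structure
  have hDp : IsPGroup p D := by
    intro x
    exact ⟨1, by rw [pow_one]; exact h.exp x⟩
  obtain ⟨m, hm⟩ := IsPGroup.iff_card.mp hDp
  -- U = ker Sh
  have hcardU : ∃ j, Nat.card ↥Sh.ker = p ^ j := by
    have hdvd : Nat.card ↥Sh.ker ∣ Nat.card D := AddSubgroup.card_addSubgroup_dvd_card _
    rw [hm] at hdvd
    obtain ⟨j, -, hj⟩ := (Nat.dvd_prime_pow hp.out).mp hdvd
    exact ⟨j, hj⟩
  -- a nonzero element of the kernel
  obtain ⟨x, y0, hxy⟩ := hnonab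
  have hker_ne : ∃ v : ↥Sh.ker, v ≠ 0 := by
    set n := Nat.card Qt with hn
    have hSS : Sh (Sh x) = n • Sh x := by
      rw [S_central (Sh x) (hSZ x), hnsmul]
    have hv : Sh (n • x - Sh x) = 0 := by
      rw [map_sub, map_nsmul, hSS, sub_self]
    refine ⟨⟨n • x - Sh x, hv⟩, ?_⟩
    intro h0
    have h1 : n • x - Sh x = 0 := congrArg Subtype.val h0
    rw [sub_eq_zero, hnsmul] at h1
    obtain ⟨m', hm'⟩ := pow_eq_self_of_coprime hp1 hcop (h.exp x)
    apply hxy
    rw [← hm', h1]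
    exact Commute.pow_left (hSZ x y0) m'
  have hpdvd : p ∣ Nat.card ↥Sh.ker := by
    obtain ⟨j, hj⟩ := hcardU
    rcases Nat.eq_zero_or_pos j with h0 | hpos
    · exfalso
      rw [h0, pow_zero] at hj
      obtain ⟨v, hv⟩ := hker_ne
      haveI : Subsingleton ↥Sh.ker := (Nat.card_eq_one_iff_unique.mp hj).1
      exact hv (Subsingleton.elim _ _)
    · rw [hj]; exact dvd_pow_self p hpos.ne'
  -- the action of At on the kernel
  letI : MulAction At ↥Sh.ker :=
    { smul := fun a u => ⟨θ a u.1, by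
        rw [AddMonoidHom.mem_ker, S_theta, (AddMonoidHom.mem_ker).mp u.2, hzero, map_one]⟩
      one_smul := fun u => Subtype.ext (by show θ 1 u.1 = u.1; rw [map_one]; rfl)
      mul_smul := fun a b u => Subtype.ext (by
        show θ (a * b) u.1 = θ a (θ b u.1); rw [map_mul]; rfl) }
  have hsmul : ∀ (a : At) (u : ↥Sh.ker), ((a • u : ↥Sh.ker) : D) = θ a u.1 := fun a u => rfl
  have h0fix : (0 : ↥Sh.ker) ∈ MulAction.fixedPoints At ↥Sh.ker := by
    intro a
    apply Subtype.ext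
    rw [hsmul]
    show θ a (0 : D) = 0
    rw [hzero, map_one]
  obtain ⟨b, hbfix, hb0⟩ :=
    hAt.exists_fixed_point_of_prime_dvd_card_of_fixed_point (α := ↥Sh.ker) hpdvd h0fix
  refine ⟨b.1, ?_, ?_⟩
  · intro hcen
    apply hb0
    have h1 : Sh b.1 = b.1 ^ (Nat.card Qt) := S_central b.1 hcen
    rw [(AddMonoidHom.mem_ker).mp b.2, hzero] at h1
    obtain ⟨m', hm'⟩ := pow_eq_self_of_coprime hp1 hcop (h.exp b.1)
    rw [← h1, one_pow] at hm'
    apply Subtype.ext
    show (0 : D) = b.1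
    rw [hzero, hm']
  · intro a
    have := hbfix a
    have h2 := congrArg Subtype.val this
    rw [hsmul] at h2
    exact h2

end Cfsg.Agent.Lib.Helper8.Baer
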