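import Cfsg.Agent.Lib.Helper8.Baer2
import Cfsg.Agent.Lib.Helper1.SpecialCoprime2
import Cfsg.Agent.Lib.Helper1.CoprimeAut

/-! A minimal non-centralised `p`-group under a coprime action has a fixed point of a normalising
`p`-group outside the fixed points of the coprime group. -/

set_option autoImplicit false

namespace Cfsg.Agent.Lib.Helper8.Baer

open scoped commutatorElement

variable {D : Type*} [Group D]

theorem noncentral_fixed [Finite D] {p : ℕ} [hp : Fact p.Prime] (hp2 : p ≠ 2) (hD : IsPGroup p D)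
    {Qt At : Type*} [Group Qt] [Finite Qt] [Group At] [Finite At]
    (ρ : Qt →* MulAut D) (θ : At →* MulAut D)
    (hcop : (Nat.card Qt).Coprime p) (hAt : IsPGroup p At)
    (hcompat : ∀ a : At, ∃ σ : Qt ≃ Qt, ∀ (k : Qt) (x : D), θ a (ρ k x) = ρ (σ k) (θ a x))
    (hgen : Subgroup.closure {x : D | ∃ g : D, ∃ k : Qt, x = g⁻¹ * ρ k g} = ⊤)
    (hprop : ∀ H : Subgroup D, H ≠ ⊤ → (∀ k, ∀ x ∈ H, ρ k x ∈ H) → (∀ a, ∀ x ∈ H, θ a x ∈ H) →
        ∀ k, ∀ x ∈ H, ρ k x = x)
    (hnonab : ∃ x y : D, x * y ≠ y * x) :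
    ∃ u : D, u ^ p = 1 ∧ (∃ k, ρ k u ≠ u) ∧ ∀ a, θ a u = u := by
  classical
  -- characteristic subgroups are invariant
  have hcharinv : ∀ H : Subgroup D, H.Characteristic → ∀ (φ : MulAut D), ∀ x ∈ H, φ x ∈ H := by
    intro H hH φ x hx
    have := (Subgroup.characteristic_iff_map_eq.mp hH) φ
    rw [← this]
    exact ⟨x, hx, rfl⟩
  have hcardA : Nat.Coprime (Nat.card ρ.range) p :=
    Nat.Coprime.coprime_dvd_left (Subgroup.card_range_dvd ρ) hcop
  have hGA : Subgroup.closure {x : D | ∃ g : D, ∃ a ∈ ρ.range, x = g⁻¹ * a g} = ⊤ := by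
    rw [← hgen]
    congr 1
    ext x
    constructor
    · rintro ⟨g, a, ⟨k, rfl⟩, rfl⟩
      exact ⟨g, k, rfl⟩
    · rintro ⟨g, k, rfl⟩
      exact ⟨g, ρ k, ⟨k, rfl⟩, rfl⟩
  have hchar : ∀ H : Subgroup D, H.Characteristic → IsMulCommutative H →
      ∀ a ∈ ρ.range, ∀ h ∈ H, a h = h := by
    intro H hH hHc a ha x hx
    obtain ⟨k, rfl⟩ := ha
    have hne : H ≠ ⊤ := by
      intro htop
      obtain ⟨x0, y0, hxy⟩ := hnonab
      apply hxy
      have hx0 : x0 ∈ H := by rw [htop]; exact Subgroup.mem_top _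
      have hy0 : y0 ∈ H := by rw [htop]; exact Subgroup.mem_top _
      have := mul_comm' (⟨x0, hx0⟩ : H) ⟨y0, hy0⟩
      exact congrArg Subtype.val this
    exact hprop H hne (fun k' => hcharinv H hH (ρ k')) (fun a' => hcharinv H hH (θ a')) k x hx
  obtain ⟨hsp, hcen⟩ := Cfsg.Agent.Lib.Helper1.SpecialCoprime.special_of_coprime hD ρ.range hcardA
    hGA hchar
  have hcc : Cfsg.Agent.Lib.Helper1.CommCentral D :=
    Cfsg.Agent.Lib.Helper1.commCentral_of_commutator_le_center hsp.2.2.le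
  have hcen' : ∀ g : D, (∀ y, g * y = y * g) ↔ ∀ k, ρ k g = g := by
    intro g
    constructor
    · intro hg k
      exact (hcen g).mp (Subgroup.mem_center_iff.mpr (fun y => (hg y).symm)) (ρ k) ⟨k, rfl⟩
    · intro hg y
      have : g ∈ Subgroup.center D := (hcen g).mpr (by
        rintro a ⟨k, rfl⟩
        exact hg k)
      exact (Subgroup.mem_center_iff.mp this y).symm
  -- exponent p
  have hexp : ∀ x : D, x ^ p = 1 := by
    set Ω := Subgroup.closure {x : D | x ^ p = 1} with hΩ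
    have hΩinv : ∀ (φ : MulAut D), ∀ x ∈ Ω, φ x ∈ Ω := by
      intro φ x hx
      induction hx using Subgroup.closure_induction with
      | mem c hc =>
        apply Subgroup.subset_closure
        show (φ c) ^ p = 1
        rw [← map_pow, hc, map_one]
      | one => rw [map_one]; exact Subgroup.one_mem _
      | mul x y _ _ hx hy => rw [map_mul]; exact Subgroup.mul_mem _ hx hy
      | inv x _ hx => rw [map_inv]; exact Subgroup.inv_mem _ hx
    have hΩtop : Ω = ⊤ := by
      by_contra hne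
      have hfix := hprop Ω hne (fun k => hΩinv (ρ k)) (fun a => hΩinv (θ a))
      have htriv : ∀ k, ρ k = 1 := by
        intro k
        apply Cfsg.Agent.Lib.Helper1.coprime_aut_trivial_of_fix_omega hp2 hD (ρ k)
        · have h1 : orderOf (ρ k) ∣ orderOf k := orderOf_map_dvd ρ k
          have h2 : orderOf k ∣ Nat.card Qt := orderOf_dvd_natCard k
          exact Nat.Coprime.coprime_dvd_left (h1.trans h2) hcop
        · intro x hx
          exact hfix k x (Subgroup.subset_closure hx)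
      obtain ⟨x0, y0, hxy⟩ := hnonab
      have hbot : (⊤ : Subgroup D) = ⊥ := by
        rw [← hgen, Subgroup.closure_eq_bot_iff]
        rintro x ⟨g, k, rfl⟩
        rw [htriv k]
        simp
      have hx0 : x0 ∈ (⊥ : Subgroup D) := by rw [← hbot]; exact Subgroup.mem_top _
      have hy0 : y0 ∈ (⊥ : Subgroup D) := by rw [← hbot]; exact Subgroup.mem_top _
      rw [Subgroup.mem_bot] at hx0 hy0
      apply hxy
      rw [hx0, hy0]
    intro x
    apply hcc.omega_exponent hp.out hp2 x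
    rw [← hΩ, hΩtop]
    exact Subgroup.mem_top x
  have hH : Hyp p D := ⟨hp.out, hp2, hcc, hexp⟩
  obtain ⟨u, hu1, hu2⟩ := baer_fixed hH ρ θ hcop hAt hcompat
    (fun x hx => (hcen' x).mpr hx) (fun z hz => (hcen' z).mp hz) hnonab
  refine ⟨u, hexp u, ?_, hu2⟩
  by_contra hcon
  push Not at hcon
  exact hu1 ((hcen' u).mpr hcon)

end Cfsg.Agent.Lib.Helper8.Baer
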