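import Cfsg.Agent.Lib.Helper8.Baer3
import Cfsg.Agent.Lib.Helper8.AxB
import Cfsg.Agent.Lib.Helper1.SCN
import Cfsg.Agent.Lib.Helper1.CoprimeAbelian
import Cfsg.Agent.Lib.Helper3.PGroupFix

/-! An abelian `p`-group `A` (`p` odd) acting on `P ⋊ Q` with `Ω₁(C_P(A)) ≤ A`: then `Q`
centralises `P`. -/

set_option autoImplicit false
set_option linter.style.haveILetI false

namespace Cfsg.Agent.Lib.Helper8.Baer

open scoped commutatorElement
open Cfsg.Agent.Lib.Helper1 Cfsg.Agent.Lib.Helper3

variable {G : Type*} [Group G]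

theorem card_lt_of_le_of_ne [Finite G] {H K : Subgroup G} (hle : H ≤ K) (hne : H ≠ K) :
    Nat.card H < Nat.card K := by
  by_contra h
  push Not at h
  exact hne (Subgroup.eq_of_le_of_card_ge hle h)

/-- conjugation homomorphism of a normalising subgroup -/
def conjHom (Γ K : Subgroup G) (h : Γ ≤ Subgroup.normalizer (K : Set G)) : Γ →* MulAut K :=
  @MulDistribMulAction.toMulAut Γ K _ _ (conjActOfLeNormalizer Γ K h)

theorem conjHom_apply_coe (Γ K : Subgroup G) (h : Γ ≤ Subgroup.normalizer (K : Set G))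
    (g : Γ) (k : K) : ((conjHom Γ K h g k : K) : G) = (g : G) * k * (g : G)⁻¹ := rfl

theorem gt_lemma [Finite G] (p : ℕ) [hp : Fact p.Prime] (hp2 : p ≠ 2) (A Q : Subgroup G)
    (hA : IsPGroup p A)
    (hQ : (Nat.card Q).Coprime p) (hAQ : A ≤ Subgroup.normalizer (Q : Set G)) :
    ∀ (n : ℕ) (P : Subgroup G), Nat.card P = n → IsPGroup p P →
      A ≤ Subgroup.normalizer (P : Set G) → Q ≤ Subgroup.normalizer (P : Set G) →
      (∀ x ∈ P, x ^ p = 1 → (∀ a ∈ A, a * x = x * a) → x ∈ A) → ⁅P, Q⁆ = ⊥ := by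
  intro n
  induction n using Nat.strong_induction_on with
  | _ n ih =>
    intro P hn hP hAP hQP hH
    have hcop : (Nat.card Q).Coprime (Nat.card P) := by
      obtain ⟨k, hk⟩ := hP.exists_card_eq
      rw [hk]; exact Nat.Coprime.pow_right k hQ
    have hPsolv : Group.IsSolvable ↥P := by
      haveI := hP.isNilpotent
      infer_instance
    have hPQ : P ⊓ Q = ⊥ := disjoint_iff.mp (Subgroup.disjoint_of_coprime_natCard hcop.symm)
    have hcPQ : ⁅P, Q⁆ ≤ P := Subgroup.le_normalizer_iff_commutator_le_left.mp hQP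
    have hcQA : ⁅Q, A⁆ ≤ Q := Subgroup.le_normalizer_iff_commutator_le_left.mp hAQ
    -- step 0
    have h0 : ⁅A ⊓ P, Q⁆ = ⊥ := by
      rw [eq_bot_iff, ← hPQ]
      apply le_inf
      · exact (Subgroup.commutator_mono inf_le_right le_rfl).trans hcPQ
      · rw [Subgroup.commutator_comm]
        exact (Subgroup.commutator_mono le_rfl inf_le_left).trans hcQA
    have hA₁cQ : A ⊓ P ≤ Subgroup.centralizer (Q : Set G) := by
      rwa [← Subgroup.commutator_eq_bot_iff_le_centralizer]
    have hQcA₁ : Q ≤ Subgroup.centralizer ((A ⊓ P : Subgroup G) : Set G) := by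
      rw [← Subgroup.commutator_eq_bot_iff_le_centralizer, Subgroup.commutator_comm]
      exact h0
    have hAA₁ : A ≤ Subgroup.normalizer ((A ⊓ P : Subgroup G) : Set G) :=
      le_normalizer_inf Subgroup.le_normalizer hAP
    have hQA₁ : Q ≤ Subgroup.normalizer ((A ⊓ P : Subgroup G) : Set G) :=
      hQcA₁.trans (Subgroup.centralizer_le_normalizer _)
    -- step 1
    have hAD : A ≤ Subgroup.normalizer
        ((P ⊓ Subgroup.centralizer ((A ⊓ P : Subgroup G) : Set G) : Subgroup G) : Set G) :=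
      le_normalizer_inf hAP (hAA₁.trans (normalizer_le_normalizer_centralizer' _))
    have hQD : Q ≤ Subgroup.normalizer
        ((P ⊓ Subgroup.centralizer ((A ⊓ P : Subgroup G) : Set G) : Subgroup G) : Set G) :=
      le_normalizer_inf hQP (hQA₁.trans (normalizer_le_normalizer_centralizer' _))
    by_cases hDP : P ⊓ Subgroup.centralizer ((A ⊓ P : Subgroup G) : Set G) = P
    swap
    · have hlt : Nat.card ↥(P ⊓ Subgroup.centralizer ((A ⊓ P : Subgroup G) : Set G)) < n := by
        rw [← hn]; exact card_lt_of_le_of_ne inf_le_left hDP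
      have hDQ : ⁅P ⊓ Subgroup.centralizer ((A ⊓ P : Subgroup G) : Set G), Q⁆ = ⊥ :=
        ih _ hlt _ rfl (hP.to_le inf_le_left) hAD hQD (fun x hx => hH x hx.1)
      refine thompson_AxB p Q (A ⊓ P) (hA.to_le inf_le_left) hQ
        (by rw [Subgroup.commutator_comm]; exact h0) n P hn hP hQP
        (inf_le_right.trans Subgroup.le_normalizer) ?_
      rw [← Subgroup.commutator_eq_bot_iff_le_centralizer]
      exact hDQ
    -- step 3
    by_cases hP1 : ⁅P, Q⁆ = P
    swap
    · have hlt : Nat.card ↥(⁅P, Q⁆ : Subgroup G) < n := by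
        rw [← hn]; exact card_lt_of_le_of_ne hcPQ hP1
      have h1 : ⁅⁅P, Q⁆, Q⁆ = ⊥ :=
        ih _ hlt ⁅P, Q⁆ rfl (hP.to_le hcPQ)
          (fun a ha => mem_normalizer_commutator_of (hAP ha) (hAQ ha))
          (Subgroup.normalizer_commutator_ge_right P Q) (fun x hx => hH x (hcPQ hx))
      rw [← coprime_commutator_commutator Q P hQP hcop (Or.inr hPsolv)]
      exact h1
    by_cases hPbot : P = ⊥
    · rw [hPbot]; exact Subgroup.commutator_bot_left Q
    exfalso
    -- it suffices to find a bad element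
    suffices hu : ∃ u ∈ P, u ^ p = 1 ∧ (∀ a ∈ A, a * u = u * a) ∧
        u ∉ Subgroup.centralizer (Q : Set G) by
      obtain ⟨u, huP, hup, huA, huQ⟩ := hu
      exact huQ (hA₁cQ (Subgroup.mem_inf.mpr ⟨hH u huP hup huA, huP⟩))
    by_cases hab : ∀ x ∈ P, ∀ y ∈ P, x * y = y * x
    · -- abelian case
      haveI : IsMulCommutative ↥P := ⟨⟨fun a b => Subtype.ext (hab a a.2 b b.2)⟩⟩
      have hdisj := coprime_abelian_centralizer_inf_commutator Q P hQP hcop
      rw [hP1] at hdisj
      have hne := inf_centralizer_ne_bot_of_isPGroup p hP hA hAP hPbot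
      have hFp : IsPGroup p ↥(P ⊓ Subgroup.centralizer (A : Set G)) := hP.to_le inf_le_left
      have hdvd : p ∣ Nat.card ↥(P ⊓ Subgroup.centralizer (A : Set G)) := by
        rcases hFp.card_eq_or_dvd with h1 | h1
        · exact absurd (Subgroup.card_eq_one.mp h1) hne
        · exact h1
      obtain ⟨x, hx⟩ := exists_prime_orderOf_dvd_card' p hdvd
      have hxo : orderOf (x : G) = p := by rw [Subgroup.orderOf_coe]; exact hx
      have hxmem := Subgroup.mem_inf.mp x.2
      refine ⟨x, hxmem.1, ?_, ?_, ?_⟩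
      · rw [← hxo]; exact pow_orderOf_eq_one _
      · intro a ha
        exact (Subgroup.mem_centralizer_iff.mp hxmem.2 a ha)
      · intro hxQ
        have : (x : G) ∈ (P ⊓ Subgroup.centralizer (Q : Set G)) ⊓ P :=
          Subgroup.mem_inf.mpr ⟨Subgroup.mem_inf.mpr ⟨hxmem.1, hxQ⟩, hxmem.1⟩
        rw [hdisj, Subgroup.mem_bot] at this
        rw [this, orderOf_one] at hxo
        exact hp.out.one_lt.ne hxo
    · -- nonabelian case
      push Not at hab
      obtain ⟨x0, hx0, y0, hy0, hxy0⟩ := hab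
      have hgen : Subgroup.closure {x : ↥P | ∃ g : ↥P, ∃ k : ↥Q, x = g⁻¹ * conjHom Q P hQP k g} = ⊤ := by
        apply Subgroup.map_injective P.subtype_injective
        rw [MonoidHom.map_closure, ← MonoidHom.range_eq_map, Subgroup.range_subtype]
        conv_rhs => rw [← hP1, Subgroup.commutator_def]
        congr 1
        ext x
        constructor
        · rintro ⟨_, ⟨g, k, rfl⟩, rfl⟩
          refine ⟨(g : G)⁻¹, Subgroup.inv_mem _ g.2, k, k.2, ?_⟩
          show _ = ((g⁻¹ * conjHom Q P hQP k g : ↥P) : G)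
          rw [Subgroup.coe_mul, conjHom_apply_coe, commutatorElement_def]
          simp [mul_assoc]
        · rintro ⟨g₁, hg₁, g₂, hg₂, rfl⟩
          refine ⟨(⟨g₁, hg₁⟩ : ↥P) * conjHom Q P hQP ⟨g₂, hg₂⟩ (⟨g₁, hg₁⟩⁻¹ : ↥P),
            ⟨(⟨g₁, hg₁⟩ : ↥P)⁻¹, ⟨g₂, hg₂⟩, by rw [inv_inv]⟩, ?_⟩
          show ((⟨g₁, hg₁⟩ * conjHom Q P hQP ⟨g₂, hg₂⟩ (⟨g₁, hg₁⟩⁻¹ : ↥P) : ↥P) : G) = _
          rw [Subgroup.coe_mul, conjHom_apply_coe, commutatorElement_def]
          simp [mul_assoc]
      have hcompat : ∀ a : ↥A, ∃ σ : ↥Q ≃ ↥Q, ∀ (k : ↥Q) (x : ↥P),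
          conjHom A P hAP a (conjHom Q P hQP k x) =
            conjHom Q P hQP (σ k) (conjHom A P hAP a x) := by
        intro a
        refine ⟨(conjHom A Q hAQ a).toEquiv, ?_⟩
        intro k x
        apply Subtype.ext
        rw [conjHom_apply_coe, conjHom_apply_coe, conjHom_apply_coe, conjHom_apply_coe]
        show _ = ((conjHom A Q hAQ a k : ↥Q) : G) * _ * ((conjHom A Q hAQ a k : ↥Q) : G)⁻¹
        rw [conjHom_apply_coe]
        group
      have hprop : ∀ H : Subgroup ↥P, H ≠ ⊤ → (∀ k, ∀ x ∈ H, conjHom Q P hQP k x ∈ H) →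
          (∀ a, ∀ x ∈ H, conjHom A P hAP a x ∈ H) → ∀ k, ∀ x ∈ H, conjHom Q P hQP k x = x := by
        intro H hHne hHQ hHA k x hx
        have hle : H.map P.subtype ≤ P := Subgroup.map_subtype_le H
        have hne : H.map P.subtype ≠ P := by
          intro heq
          apply hHne
          apply Subgroup.map_injective P.subtype_injective
          rw [heq, ← MonoidHom.range_eq_map, Subgroup.range_subtype]
        have hlt : Nat.card ↥(H.map P.subtype) < n := by
          rw [← hn]; exact card_lt_of_le_of_ne hle hne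
        have hQn : Q ≤ Subgroup.normalizer ((H.map P.subtype : Subgroup G) : Set G) := by
          intro k' hk'
          apply mem_normalizer_of_forall_conj_mem
          rintro _ ⟨y, hy, rfl⟩
          exact ⟨conjHom Q P hQP ⟨k', hk'⟩ y, hHQ _ y hy, rfl⟩
        have hAn : A ≤ Subgroup.normalizer ((H.map P.subtype : Subgroup G) : Set G) := by
          intro a' ha'
          apply mem_normalizer_of_forall_conj_mem
          rintro _ ⟨y, hy, rfl⟩
          exact ⟨conjHom A P hAP ⟨a', ha'⟩ y, hHA _ y hy, rfl⟩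
        have h1 : ⁅H.map P.subtype, Q⁆ = ⊥ :=
          ih _ hlt _ rfl (hP.to_le hle) hAn hQn (fun x hx => hH x (hle hx))
        rw [Subgroup.commutator_eq_bot_iff_le_centralizer] at h1
        have h2 : (x : G) ∈ Subgroup.centralizer (Q : Set G) := h1 ⟨x, hx, rfl⟩
        apply Subtype.ext
        rw [conjHom_apply_coe]
        have h3 := Subgroup.mem_centralizer_iff.mp h2 k k.2
        rw [h3, mul_inv_cancel_right]
      obtain ⟨u, hup, ⟨k, hk⟩, hua⟩ := noncentral_fixed hp2 hP (conjHom Q P hQP) (conjHom A P hAP)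
        hQ hA hcompat hgen hprop
        ⟨⟨x0, hx0⟩, ⟨y0, hy0⟩, fun h => hxy0 (congrArg Subtype.val h)⟩
      refine ⟨u, u.2, ?_, ?_, ?_⟩
      · have := congrArg Subtype.val hup
        simpa using this
      · intro a ha
        have := congrArg Subtype.val (hua ⟨a, ha⟩)
        rw [conjHom_apply_coe] at this
        -- a * u * a⁻¹ = u
        calc a * (u : G) = a * u * a⁻¹ * a := by group
          _ = u * a := by rw [this]
      · intro huQ
        apply hk
        apply Subtype.ext
        rw [conjHom_apply_coe]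
        have h3 := Subgroup.mem_centralizer_iff.mp huQ k k.2
        rw [h3, mul_inv_cancel_right]

end Cfsg.Agent.Lib.Helper8.Baer
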