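import Mathlib
import Cfsg.Agent.Lib.Helper8.Bmo1

set_option autoImplicit false
set_option linter.unusedVariables false
set_option linter.unusedSectionVars false
set_option linter.style.longLine false

/-! Block monomial matrices (part 2): block vectors, the two moves. -/

namespace Cfsg.Agent.Lib.Helper8.Bmo

open Matrix Cfsg.Agent.Lib.Helper8.Mono

variable {I J : Type} [Fintype I] [DecidableEq I] [Fintype J] [DecidableEq J]
  {F : Type*} [Field F]

/-- block monomial matrices -/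
def IsBM (g : Matrix (I × J) (I × J) F) : Prop :=
  ∃ σ : Equiv.Perm I, ∀ a b, g a b ≠ 0 → a.1 = σ b.1

theorem IsBM.mul {g g' : Matrix (I × J) (I × J) F} (h : IsBM g) (h' : IsBM g') :
    IsBM (g * g') := by
  obtain ⟨σ, hσ⟩ := h
  obtain ⟨σ', hσ'⟩ := h'
  refine ⟨σ * σ', fun a b hab => ?_⟩
  rw [Matrix.mul_apply] at hab
  obtain ⟨c, -, hc⟩ := Finset.exists_ne_zero_of_sum_ne_zero hab
  have h1 := hσ a c (left_ne_zero_of_mul hc)
  have h2 := hσ' c b (right_ne_zero_of_mul hc)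
  rw [h1, h2]
  rfl

/-- extension of a block vector by zero -/
def ιv (k : I) (a : J → F) : I × J → F := fun x => if x.1 = k then a x.2 else 0

/-- block component of a vector -/
def cmp (b : I × J → F) (k : I) : J → F := fun y => b (k, y)

theorem ιv_apply_same (k : I) (a : J → F) (y : J) : ιv k a (k, y) = a y := by
  simp [ιv]

theorem ιv_apply_ne (k k' : I) (a : J → F) (y : J) (h : k' ≠ k) : ιv k a (k', y) = 0 := by
  simp [ιv, h]

theorem cmp_apply (b : I × J → F) (k : I) (y : J) : cmp b k y = b (k, y) := rfl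

theorem cmp_ιv_same (k : I) (a : J → F) : cmp (ιv k a) k = a := by
  ext y
  rw [cmp_apply, ιv_apply_same]

theorem cmp_ιv_ne (k k' : I) (a : J → F) (h : k' ≠ k) : cmp (ιv k a) k' = 0 := by
  ext y
  rw [cmp_apply, ιv_apply_ne k k' a y h]
  rfl

theorem dot_ιv_left (k : I) (α : J → F) (b : I × J → F) : ιv k α ⬝ᵥ b = α ⬝ᵥ cmp b k := by
  unfold dotProduct
  rw [Fintype.sum_prod_type, Finset.sum_eq_single k]
  · refine Finset.sum_congr rfl fun y _ => ?_
    rw [ιv_apply_same, cmp_apply]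
  · intro k' _ hk'
    refine Finset.sum_eq_zero fun y _ => ?_
    rw [ιv_apply_ne k k' α y hk', zero_mul]
  · intro h
    exact absurd (Finset.mem_univ _) h

theorem dot_ιv_right (k : I) (a : J → F) (β : I × J → F) : β ⬝ᵥ ιv k a = cmp β k ⬝ᵥ a := by
  rw [dotProduct_comm, dot_ιv_left, dotProduct_comm]

theorem ιv_single (k : I) (y : J) (c : F) : ιv k (Pi.single y c) = Pi.single (k, y) c := by
  ext ⟨k', y'⟩
  by_cases hk : k' = k
  · subst hk
    rw [ιv_apply_same]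
    by_cases hy : y' = y
    · subst hy
      rw [Pi.single_eq_same, Pi.single_eq_same]
    · rw [Pi.single_eq_of_ne hy, Pi.single_eq_of_ne (fun e => hy (Prod.mk.inj e).2)]
  · rw [ιv_apply_ne k k' _ y' hk, Pi.single_eq_of_ne (fun e => hk (Prod.mk.inj e).1)]

theorem ιv_smul (k : I) (c : F) (a : J → F) : ιv k (c • a) = c • ιv k a := by
  ext x
  unfold ιv
  by_cases h : x.1 = k
  · simp [h]
  · simp [h]

/-- in-block transvection -/
def tvB (k : I) (a α : J → F) (h : α ⬝ᵥ a = 0) : GL (I × J) F :=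
  tv (ιv k a) (ιv k α) (by rw [dot_ιv_left, cmp_ιv_same]; exact h)

theorem isBM_tvB (k : I) (a α : J → F) (h : α ⬝ᵥ a = 0) :
    IsBM ((tvB k a α h : GL (I × J) F) : Matrix (I × J) (I × J) F) := by
  refine ⟨1, fun x y hxy => ?_⟩
  unfold tvB at hxy
  rw [tv_apply] at hxy
  by_cases hxy' : x = y
  · rw [hxy']
    rfl
  · rw [if_neg hxy', zero_add] at hxy
    have h1 : x.1 = k := by
      by_contra hne
      apply hxy
      unfold ιv
      rw [if_neg hne, zero_mul]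
    have h2 : y.1 = k := by
      by_contra hne
      apply hxy
      unfold ιv
      rw [if_neg hne, mul_zero]
    rw [h1, h2]
    rfl

section moves

variable (X : Subgroup (GL (I × J) F))
  (hX : ∀ g : GL (I × J) F, IsBM (g : Matrix (I × J) (I × J) F) →
    (g : Matrix (I × J) (I × J) F).det = 1 → g ∈ X)

include hX

theorem tvB_mem (k : I) (a α : J → F) (h : α ⬝ᵥ a = 0) : tvB k a α h ∈ X :=
  hX _ (isBM_tvB k a α h) (det_tv _ _ _)

/-- first move -/
theorem moveA (b β : I × J → F) (hb : β ⬝ᵥ b = 0) (hs : tv b β hb ∈ X) (k : I) (a α : J → F)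
    (ha : α ⬝ᵥ a = 0) (hab : α ⬝ᵥ cmp b k = 0) (h' : ιv k α ⬝ᵥ ((cmp β k ⬝ᵥ a) • b) = 0) :
    tv ((cmp β k ⬝ᵥ a) • b) (ιv k α) h' ∈ X := by
  have hu := tvB_mem X hX k a α ha
  have hab' : ιv k α ⬝ᵥ b = 0 := by rw [dot_ιv_left]; exact hab
  have hc := commA b β (ιv k a) (ιv k α) hb (by rw [dot_ιv_left, cmp_ιv_same]; exact ha) hab'
  have hmem : tv b β hb * tvB k a α ha * (tv b β hb)⁻¹ * (tvB k a α ha)⁻¹ ∈ X :=
    X.mul_mem (X.mul_mem (X.mul_mem hs hu) (X.inv_mem hs)) (X.inv_mem hu)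
  unfold tvB at hmem
  rw [hc] at hmem
  have e : tv ((β ⬝ᵥ ιv k a) • b) (ιv k α) (by rw [dotProduct_smul, hab', smul_zero])
      = tv ((cmp β k ⬝ᵥ a) • b) (ιv k α) h' := by
    apply Units.ext
    rw [tv_val, tv_val, dot_ιv_right]
  rw [e] at hmem
  exact hmem

/-- second move -/
theorem moveB (b β : I × J → F) (hb : β ⬝ᵥ b = 0) (hs : tv b β hb ∈ X) (k : I) (a α : J → F)
    (ha : α ⬝ᵥ a = 0) (hba : cmp β k ⬝ᵥ a = 0)
    (h' : (-(α ⬝ᵥ cmp b k) • β) ⬝ᵥ ιv k a = 0) :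
    tv (ιv k a) (-(α ⬝ᵥ cmp b k) • β) h' ∈ X := by
  have hu := tvB_mem X hX k a α ha
  have hba' : β ⬝ᵥ ιv k a = 0 := by rw [dot_ιv_right]; exact hba
  have hc := commB b β (ιv k a) (ιv k α) hb (by rw [dot_ιv_left, cmp_ιv_same]; exact ha) hba'
  have hmem : tv b β hb * tvB k a α ha * (tv b β hb)⁻¹ * (tvB k a α ha)⁻¹ ∈ X :=
    X.mul_mem (X.mul_mem (X.mul_mem hs hu) (X.inv_mem hs)) (X.inv_mem hu)
  unfold tvB at hmem
  rw [hc] at hmem
  have e : tv (ιv k a) (-(ιv k α ⬝ᵥ b) • β) (by rw [smul_dotProduct, hba', smul_zero])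
      = tv (ιv k a) (-(α ⬝ᵥ cmp b k) • β) h' := by
    apply Units.ext
    rw [tv_val, tv_val, dot_ιv_left]
  rw [e] at hmem
  exact hmem

end moves

end Cfsg.Agent.Lib.Helper8.Bmo
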