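import Mathlib
import Cfsg.Agent.Lib.Helper8.Bmo2

set_option autoImplicit false
set_option linter.unusedVariables false
set_option linter.unusedSectionVars false
set_option linter.style.longLine false

/-! Block monomial matrices (part 3): from a transvection in special position to an elementary
transvection; from a mixed elementary transvection to the special linear group. -/

namespace Cfsg.Agent.Lib.Helper8.Bmo

open Matrix Cfsg.Agent.Lib.Helper8.Mono

variable {I J : Type} [Fintype I] [DecidableEq I] [Fintype J] [DecidableEq J]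
  {F : Type*} [Field F]

theorem exists_ne_of_card (hJ : 2 ≤ Fintype.card J) (y : J) : ∃ y', y' ≠ y := by
  haveI : Nontrivial J := Fintype.one_lt_card_iff_nontrivial.mp (by omega)
  exact exists_ne y

theorem tv_mem_congr {ι : Type} [Fintype ι] [DecidableEq ι] (X : Subgroup (GL ι F))
    {b b' β β' : ι → F} {h : β ⬝ᵥ b = 0}
    (hm : tv b β h ∈ X) (hb : b = b') (hβ : β = β') (h' : β' ⬝ᵥ b' = 0) : tv b' β' h' ∈ X := by
  subst hb hβ
  exact hm

theorem tv_single_eq_etv {ι : Type} [Fintype ι] [DecidableEq ι] (p q : ι) (hpq : p ≠ q) (c : F)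
    (h : (c • Pi.single q (1 : F)) ⬝ᵥ Pi.single p (1 : F) = 0) :
    tv (Pi.single p (1 : F)) (c • Pi.single q (1 : F)) h = etv p q hpq c := by
  rw [etv_eq_tv]
  apply Units.ext
  rw [tv_val, tv_val]
  congr 1
  ext a b
  rw [vecMulVec_apply, vecMulVec_apply, Pi.smul_apply, smul_eq_mul]
  by_cases ha : a = p
  · subst ha
    rw [Pi.single_eq_same, Pi.single_eq_same]
    ring
  · rw [Pi.single_eq_of_ne ha, Pi.single_eq_of_ne ha, zero_mul, zero_mul]

theorem tv_single_eq_etv' {ι : Type} [Fintype ι] [DecidableEq ι] (p q : ι) (hpq : p ≠ q) (c : F)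
    (h : Pi.single q (1 : F) ⬝ᵥ (c • Pi.single p (1 : F)) = 0) :
    tv (c • Pi.single p (1 : F)) (Pi.single q (1 : F)) h = etv p q hpq c := by
  rw [etv_eq_tv]
  apply Units.ext
  rw [tv_val, tv_val]
  congr 1
  ext a b
  rw [vecMulVec_apply, vecMulVec_apply, Pi.smul_apply, smul_eq_mul]
  by_cases ha : a = p
  · subst ha
    rw [Pi.single_eq_same, Pi.single_eq_same, mul_one]
  · rw [Pi.single_eq_of_ne ha, Pi.single_eq_of_ne ha, mul_zero]

theorem cmp_single_same (k : I) (y : J) (c : F) :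
    cmp (Pi.single ((k, y) : I × J) c) k = Pi.single y c := by
  rw [← ιv_single, cmp_ιv_same]

theorem cmp_single_ne (k k' : I) (y : J) (c : F) (h : k' ≠ k) :
    cmp (Pi.single ((k, y) : I × J) c) k' = 0 := by
  rw [← ιv_single, cmp_ιv_ne k k' _ h]

section moves

variable (X : Subgroup (GL (I × J) F))
  (hX : ∀ g : GL (I × J) F, IsBM (g : Matrix (I × J) (I × J) F) →
    (g : Matrix (I × J) (I × J) F).det = 1 → g ∈ X)

include hX

theorem moveA' (b β : I × J → F) (hb : β ⬝ᵥ b = 0) (hs : tv b β hb ∈ X) (k : I) (a α : J → F)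
    (ha : α ⬝ᵥ a = 0) (hab : α ⬝ᵥ cmp b k = 0) :
    ∃ h', tv ((cmp β k ⬝ᵥ a) • b) (ιv k α) h' ∈ X :=
  ⟨by rw [dotProduct_smul, dot_ιv_left, hab, smul_zero], moveA X hX b β hb hs k a α ha hab _⟩

theorem moveB' (b β : I × J → F) (hb : β ⬝ᵥ b = 0) (hs : tv b β hb ∈ X) (k : I) (a α : J → F)
    (ha : α ⬝ᵥ a = 0) (hba : cmp β k ⬝ᵥ a = 0) :
    ∃ h', tv (ιv k a) (-(α ⬝ᵥ cmp b k) • β) h' ∈ X :=
  ⟨by rw [smul_dotProduct, dot_ιv_right, hba, smul_zero], moveB X hX b β hb hs k a α ha hba _⟩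

/-- a transvection `1 + b β` with `b` vanishing on a block where `β` does not, and not vanishing
on another block: a mixed elementary transvection -/
theorem etv_of_formP (hJ : 2 ≤ Fintype.card J) (b β : I × J → F) (hb : β ⬝ᵥ b = 0)
    (hs : tv b β hb ∈ X) (i j : I) (hij : i ≠ j) (x y : J) (hbx : b (i, x) ≠ 0)
    (hβy : β (j, y) ≠ 0) (hbj : ∀ z, b (j, z) = 0) :
    ∃ (x' y' : J) (c : F) (hne : ((i, x') : I × J) ≠ (j, y')),
      c ≠ 0 ∧ etv (i, x') (j, y') hne c ∈ X := by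
  obtain ⟨y', hy'⟩ := exists_ne_of_card hJ y
  obtain ⟨x', hx'⟩ := exists_ne_of_card hJ x
  have hne : ((i, x') : I × J) ≠ (j, y') := fun e => hij (Prod.mk.inj e).1
  obtain ⟨h1, hs1⟩ := moveA' X hX b β hb hs j (Pi.single y 1) (Pi.single y' 1)
    (by rw [single_dotProduct, Pi.single_eq_of_ne hy', mul_zero])
    (by rw [single_dotProduct, cmp_apply, hbj, mul_zero])
  have hc1 : cmp β j ⬝ᵥ Pi.single y (1 : F) = β (j, y) := by
    rw [dotProduct_single, mul_one, cmp_apply]
  obtain ⟨h2, hs2⟩ := moveB' X hX _ _ h1 hs1 i (Pi.single x' 1) (Pi.single x 1)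
    (by rw [single_dotProduct, Pi.single_eq_of_ne (Ne.symm hx'), mul_zero])
    (by rw [cmp_ιv_ne j i _ hij, zero_dotProduct])
  set c : F := -(β (j, y) * b (i, x)) with hc
  have hc0 : c ≠ 0 := neg_ne_zero.mpr (mul_ne_zero hβy hbx)
  refine ⟨x', y', c, hne, hc0, ?_⟩
  rw [← tv_single_eq_etv (i, x') (j, y') hne c (by
    rw [smul_dotProduct, single_dotProduct, Pi.single_eq_of_ne (Ne.symm hne), mul_zero, smul_zero])]
  refine tv_mem_congr X hs2 (ιv_single i x' 1) ?_ _
  rw [ιv_single, single_dotProduct, one_mul, cmp_apply, Pi.smul_apply, smul_eq_mul, hc1, hc]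

/-- dual version -/
theorem etv_of_formP' (hJ : 2 ≤ Fintype.card J) (b β : I × J → F) (hb : β ⬝ᵥ b = 0)
    (hs : tv b β hb ∈ X) (i j : I) (hij : i ≠ j) (x y : J) (hbx : b (i, x) ≠ 0)
    (hβy : β (j, y) ≠ 0) (hβi : ∀ z, β (i, z) = 0) :
    ∃ (x' y' : J) (c : F) (hne : ((i, x') : I × J) ≠ (j, y')),
      c ≠ 0 ∧ etv (i, x') (j, y') hne c ∈ X := by
  obtain ⟨y', hy'⟩ := exists_ne_of_card hJ y
  obtain ⟨x', hx'⟩ := exists_ne_of_card hJ x
  have hne : ((i, x') : I × J) ≠ (j, y') := fun e => hij (Prod.mk.inj e).1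
  obtain ⟨h1, hs1⟩ := moveB' X hX b β hb hs i (Pi.single x' 1) (Pi.single x 1)
    (by rw [single_dotProduct, Pi.single_eq_of_ne (Ne.symm hx'), mul_zero])
    (by rw [dotProduct_single, cmp_apply, hβi, zero_mul])
  obtain ⟨h2, hs2⟩ := moveA' X hX _ _ h1 hs1 j (Pi.single y 1) (Pi.single y' 1)
    (by rw [single_dotProduct, Pi.single_eq_of_ne hy', mul_zero])
    (by rw [cmp_ιv_ne i j _ (Ne.symm hij), dotProduct_zero])
  set c : F := -(b (i, x) * β (j, y)) with hc
  have hc0 : c ≠ 0 := neg_ne_zero.mpr (mul_ne_zero hbx hβy)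
  refine ⟨x', y', c, hne, hc0, ?_⟩
  rw [← tv_single_eq_etv' (i, x') (j, y') hne c (by
    rw [dotProduct_smul, single_dotProduct, Pi.single_eq_of_ne (Ne.symm hne), mul_zero, smul_zero])]
  refine tv_mem_congr X hs2 ?_ (ιv_single j y' 1) _
  rw [ιv_single, dotProduct_single, mul_one, cmp_apply, Pi.smul_apply, smul_eq_mul,
    single_dotProduct, one_mul, cmp_apply, hc, neg_mul]

/-- moving the second index inside its block -/
theorem hopA (i j : I) (hij : i ≠ j) (x y y' : J) (hy : y' ≠ y) (c : F) (hc : c ≠ 0)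
    (hne : ((i, x) : I × J) ≠ (j, y)) (hs : etv (i, x) (j, y) hne c ∈ X) (c' : F)
    (hne' : ((i, x) : I × J) ≠ (j, y')) : etv (i, x) (j, y') hne' c' ∈ X := by
  rw [etv_eq_tv] at hs
  obtain ⟨h1, hs1⟩ := moveA' X hX _ _ _ hs j ((c' / c) • Pi.single y 1) (Pi.single y' 1)
    (by rw [dotProduct_smul, single_dotProduct, Pi.single_eq_of_ne hy, mul_zero, smul_zero])
    (by rw [cmp_single_ne i j x c (Ne.symm hij), dotProduct_zero])
  rw [etv_eq_tv]
  refine tv_mem_congr X hs1 ?_ (ιv_single j y' 1) _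
  rw [cmp_single_same, dotProduct_smul, single_dotProduct, Pi.single_eq_same, one_mul, smul_eq_mul,
    mul_one]
  ext z
  rw [Pi.smul_apply, smul_eq_mul]
  by_cases hz : z = (i, x)
  · subst hz
    rw [Pi.single_eq_same, Pi.single_eq_same, div_mul_cancel₀ _ hc]
  · rw [Pi.single_eq_of_ne hz, Pi.single_eq_of_ne hz, mul_zero]

/-- moving the first index inside its block -/
theorem hopB (i j : I) (hij : i ≠ j) (x x' y : J) (hx : x' ≠ x) (c : F) (hc : c ≠ 0)
    (hne : ((i, x) : I × J) ≠ (j, y)) (hs : etv (i, x) (j, y) hne c ∈ X) (c' : F)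
    (hne' : ((i, x') : I × J) ≠ (j, y)) : etv (i, x') (j, y) hne' c' ∈ X := by
  rw [etv_eq_tv] at hs
  obtain ⟨h1, hs1⟩ := moveB' X hX _ _ _ hs i (Pi.single x' 1) ((-c' / c) • Pi.single x 1)
    (by rw [smul_dotProduct, single_dotProduct, Pi.single_eq_of_ne (Ne.symm hx), mul_zero, smul_zero])
    (by rw [cmp_single_ne j i y 1 hij, zero_dotProduct])
  rw [← tv_single_eq_etv (i, x') (j, y) hne' c' (by
    rw [smul_dotProduct, single_dotProduct, Pi.single_eq_of_ne (Ne.symm hne'), mul_zero, smul_zero])]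
  refine tv_mem_congr X hs1 (ιv_single i x' 1) ?_ _
  rw [cmp_single_same, smul_dotProduct, single_dotProduct, Pi.single_eq_same, one_mul, smul_eq_mul]
  congr 1
  field_simp

/-- all elementary transvections for one pair of blocks -/
theorem all_pair (hJ : 2 ≤ Fintype.card J) (i j : I) (hij : i ≠ j) (x y : J) (c : F)
    (hc : c ≠ 0) (hne : ((i, x) : I × J) ≠ (j, y)) (hs : etv (i, x) (j, y) hne c ∈ X)
    (x' y' : J) (c' : F) (hne' : ((i, x') : I × J) ≠ (j, y')) :
    etv (i, x') (j, y') hne' c' ∈ X := by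
  have hnee : ∀ x'' y'', ((i, x'') : I × J) ≠ (j, y'') := fun _ _ e => hij (Prod.mk.inj e).1
  -- all second indices
  have step1 : ∀ y'' c'', etv (i, x) (j, y'') (hnee _ _) c'' ∈ X := by
    intro y'' c''
    by_cases hy : y'' = y
    · subst hy
      obtain ⟨y₂, hy₂⟩ := exists_ne_of_card hJ y''
      have := hopA X hX i j hij x y'' y₂ hy₂ c hc hne hs 1 (hnee _ _)
      exact hopA X hX i j hij x y₂ y'' (Ne.symm hy₂) 1 one_ne_zero (hnee _ _) this c'' (hnee _ _)
    · exact hopA X hX i j hij x y y'' hy c hc hne hs c'' (hnee _ _)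
  by_cases hx : x' = x
  · subst hx
    exact step1 y' c'
  · exact hopB X hX i j hij x x' y' hx 1 one_ne_zero (hnee _ _) (step1 y' 1) c' hne'

end moves

end Cfsg.Agent.Lib.Helper8.Bmo
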