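import Mathlib
import Cfsg.Agent.Lib.Helper8.Bmo3
import Cfsg.Agent.Lib.Helper8.Mono5

set_option autoImplicit false
set_option linter.unusedVariables false
set_option linter.unusedSectionVars false
set_option linter.style.longLine false

/-! Block monomial matrices (part 4): generation of `SL` from a mixed elementary transvection;
existence of a mixed transvection. -/

namespace Cfsg.Agent.Lib.Helper8.Bmo

open Matrix Cfsg.Agent.Lib.Helper8.Mono

variable {I J : Type} [Fintype I] [DecidableEq I] [Fintype J] [DecidableEq J]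
  {F : Type*} [Field F]

section moves

variable (X : Subgroup (GL (I × J) F))
  (hX : ∀ g : GL (I × J) F, IsBM (g : Matrix (I × J) (I × J) F) →
    (g : Matrix (I × J) (I × J) F).det = 1 → g ∈ X)

include hX

/-- elementary transvections inside a block -/
theorem etv_inblock_mem (k : I) (y y' : J) (hne : ((k, y) : I × J) ≠ (k, y')) (c : F) :
    etv (k, y) (k, y') hne c ∈ X := by
  have hyy : y ≠ y' := fun e => hne (by rw [e])
  have h0 : Pi.single y' (1 : F) ⬝ᵥ Pi.single y c = 0 := by
    rw [single_dotProduct, Pi.single_eq_of_ne (Ne.symm hyy), mul_zero]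
  have := tvB_mem X hX k (Pi.single y c) (Pi.single y' 1) h0
  unfold tvB at this
  rw [etv_eq_tv]
  exact tv_mem_congr X this (ιv_single k y c) (ιv_single k y' 1) _

theorem isBM_gpm_prodCongr (σ : Equiv.Perm I) (d : I × J → Fˣ) :
    IsBM ((gpm (Equiv.prodCongr σ (Equiv.refl J)) d : GL (I × J) F) : Matrix (I × J) (I × J) F) := by
  refine ⟨σ, fun a b hab => ?_⟩
  rw [gpm_apply] at hab
  by_cases h : a = (Equiv.prodCongr σ (Equiv.refl J)) b
  · rw [h]
    rfl
  · rw [if_neg h] at hab
    exact absurd rfl hab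

/-- a mixed elementary transvection generates, together with the block monomial matrices of
determinant one, the special linear group -/
theorem SL_le_of_mixed (hJ : 2 ≤ Fintype.card J) (i j : I) (hij : i ≠ j) (x y : J) (c : F)
    (hc : c ≠ 0) (hne : ((i, x) : I × J) ≠ (j, y)) (hs : etv (i, x) (j, y) hne c ∈ X) :
    Cfsg.Geo.specialLinear (I × J) F ≤ X := by
  haveI : Nontrivial (I × J) := ⟨⟨(i, x), (j, y), hne⟩⟩
  apply SL_le_of_etv
  rintro ⟨i', x'⟩ ⟨j', y'⟩ hpq c'
  by_cases hb : i' = j'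
  · subst hb
    exact etv_inblock_mem X hX i' x' y' hpq c'
  · obtain ⟨σ, hσi, hσj⟩ := exists_perm_two i j i' j' hij hb
    set τ : Equiv.Perm (I × J) := Equiv.prodCongr σ (Equiv.refl J) with hτ
    set d : I × J → Fˣ := fun z => if z = (i, x) then sgnU (F := F) τ else 1 with hd
    have hP : gpm τ d ∈ X := by
      apply hX _ (isBM_gpm_prodCongr X hX σ d)
      have := gpmS_mem (F := F) τ (i, x)
      rw [mem_monoSL] at this
      exact this.2
    have hne2 : ((i, x') : I × J) ≠ (j, y') := fun e => hij (Prod.mk.inj e).1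
    have hall := all_pair X hX hJ i j hij x y c hc hne hs x' y'
      (((d (i, x') : Fˣ) : F)⁻¹ * c' * ((d (j, y') : Fˣ) : F)) hne2
    have hmem := X.mul_mem (X.mul_mem hP hall) (X.inv_mem hP)
    rw [gpm_conj_etv] at hmem
    have e : etv (τ (i, x')) (τ (j, y')) (fun e => hne2 (τ.injective e))
        (((d (i, x') : Fˣ) : F) * (((d (i, x') : Fˣ) : F)⁻¹ * c' * ((d (j, y') : Fˣ) : F))
          * (((d (j, y'))⁻¹ : Fˣ) : F)) = etv (i', x') (j', y') hpq c' := by
      have e2 : ((d (i, x') : Fˣ) : F) * (((d (i, x') : Fˣ) : F)⁻¹ * c' * ((d (j, y') : Fˣ) : F))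
          * (((d (j, y'))⁻¹ : Fˣ) : F) = c' := by
        have h1 : ((d (i, x') : Fˣ) : F) ≠ 0 := Units.ne_zero _
        have h2 : ((d (j, y') : Fˣ) : F) ≠ 0 := Units.ne_zero _
        rw [Units.val_inv_eq_inv_val]
        field_simp
      have e3 : τ (i, x') = (i', x') := by rw [hτ]; simp [hσi]
      have e4 : τ (j, y') = (j', y') := by rw [hτ]; simp [hσj]
      unfold etv
      apply Units.ext
      rw [rtv_val, rtv_val, e2, e3, e4]
    rw [e] at hmem
    exact hmem

/-- a column with entries in two different blocks gives a mixed transvection -/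
theorem mixed_of_col (hJ : 2 ≤ Fintype.card J) (g : GL (I × J) F) (hg : g ∈ X) (k : I) (y : J)
    (a a' : I × J) (haa : a.1 ≠ a'.1) (ha : (g : Matrix (I × J) (I × J) F) a (k, y) ≠ 0)
    (ha' : (g : Matrix (I × J) (I × J) F) a' (k, y) ≠ 0) :
    ∃ (b β : I × J → F) (hb : β ⬝ᵥ b = 0), tv b β hb ∈ X ∧
      ∃ p q : I × J, p.1 ≠ q.1 ∧ b p ≠ 0 ∧ β q ≠ 0 := by
  obtain ⟨y', hy'⟩ := exists_ne_of_card hJ y
  have hne : ((k, y) : I × J) ≠ (k, y') := fun e => hy' (Prod.mk.inj e).2.symm
  have hτ := etv_inblock_mem X hX k y y' hne 1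
  have hmem := X.mul_mem (X.mul_mem hg hτ) (X.inv_mem hg)
  rw [etv_eq_tv, conj_tv] at hmem
  refine ⟨_, _, _, hmem, ?_⟩
  -- a non-zero entry of the row of the inverse
  obtain ⟨q, hq⟩ : ∃ q, iv g (k, y') q ≠ 0 := by
    by_contra hz
    push Not at hz
    have := mul_iv_apply g⁻¹ (k, y') (k, y')
    rw [if_pos rfl] at this
    rw [Finset.sum_eq_zero (fun q _ => by
      show ((g⁻¹ : GL (I × J) F) : Matrix (I × J) (I × J) F) (k, y') q * _ = 0
      rw [show ((g⁻¹ : GL (I × J) F) : Matrix (I × J) (I × J) F) (k, y') q = iv g (k, y') q from rfl,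
        hz q, zero_mul])] at this
    exact zero_ne_one this
  have hβ : ∀ q', (Pi.single ((k, y') : I × J) (1 : F) ᵥ* ((g⁻¹ : GL (I × J) F) : Matrix (I × J) (I × J) F)) q'
      = iv g (k, y') q' := by
    intro q'
    rw [single_one_vecMul]
    rfl
  have hbv : ∀ p', ((g : Matrix (I × J) (I × J) F) *ᵥ Pi.single ((k, y) : I × J) (1 : F)) p'
      = (g : Matrix (I × J) (I × J) F) p' (k, y) := by
    intro p'
    rw [mulVec_single_one]
    rfl
  by_cases hqa : q.1 = a.1
  · refine ⟨a', q, fun e => haa (by rw [← hqa, ← e]), ?_, ?_⟩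
    · rw [hbv]; exact ha'
    · rw [hβ]; exact hq
  · refine ⟨a, q, fun e => hqa e.symm, ?_, ?_⟩
    · rw [hbv]; exact ha
    · rw [hβ]; exact hq

/-- an element which is not block monomial gives a mixed transvection -/
theorem exists_mixed_tv (hJ : 2 ≤ Fintype.card J) (g : GL (I × J) F) (hg : g ∈ X)
    (hgb : ¬ IsBM (g : Matrix (I × J) (I × J) F)) :
    ∃ (b β : I × J → F) (hb : β ⬝ᵥ b = 0), tv b β hb ∈ X ∧
      ∃ p q : I × J, p.1 ≠ q.1 ∧ b p ≠ 0 ∧ β q ≠ 0 := by
  have hJne : Nonempty J := Fintype.card_pos_iff.mp (by omega)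
  obtain ⟨y₀⟩ := hJne
  have hcolne : ∀ q, ∃ a, (g : Matrix (I × J) (I × J) F) a q ≠ 0 := by
    intro q
    by_contra hz
    push Not at hz
    have := iv_mul_apply g q q
    rw [if_pos rfl, Finset.sum_eq_zero (fun a _ => by rw [hz a, mul_zero])] at this
    exact zero_ne_one this
  have hrowne : ∀ p, ∃ q, (g : Matrix (I × J) (I × J) F) p q ≠ 0 := by
    intro p
    by_contra hz
    push Not at hz
    have := mul_iv_apply g p p
    rw [if_pos rfl, Finset.sum_eq_zero (fun a _ => by rw [hz a, zero_mul])] at this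
    exact zero_ne_one this
  -- two entries in the same block of columns but in different blocks of rows
  obtain ⟨k, y, y', a, a', haa, ha, ha'⟩ : ∃ (k : I) (y y' : J) (a a' : I × J), a.1 ≠ a'.1 ∧
      (g : Matrix (I × J) (I × J) F) a (k, y) ≠ 0 ∧ (g : Matrix (I × J) (I × J) F) a' (k, y') ≠ 0 := by
    by_contra hcon
    push Not at hcon
    apply hgb
    have hf : ∀ k : I, ∃ r : I, ∀ a y, (g : Matrix (I × J) (I × J) F) a (k, y) ≠ 0 → a.1 = r := by
      intro k
      obtain ⟨a₀, ha₀⟩ := hcolne (k, y₀)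
      refine ⟨a₀.1, fun a y hay => ?_⟩
      by_contra hne
      exact ha₀ (hcon k y y₀ a a₀ hne hay)
    choose f hf using hf
    have hsurj : Function.Surjective f := by
      intro r
      obtain ⟨q, hq⟩ := hrowne (r, y₀)
      exact ⟨q.1, (hf q.1 (r, y₀) q.2 hq).symm⟩
    have hbij : Function.Bijective f := ⟨Finite.injective_iff_surjective.mpr hsurj, hsurj⟩
    refine ⟨Equiv.ofBijective f hbij, fun a b hab => ?_⟩
    rw [Equiv.ofBijective_apply]
    exact hf b.1 a b.2 hab
  by_cases hyy : y = y'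
  · subst hyy
    exact mixed_of_col X hX hJ g hg k y a a' haa ha ha'
  · have hne : ((k, y') : I × J) ≠ (k, y) := fun e => hyy (Prod.mk.inj e).2.symm
    have hτ := etv_inblock_mem X hX k y' y hne 1
    have hmem := X.mul_mem (X.mul_mem hg hτ) (X.inv_mem hg)
    rw [etv_eq_tv, conj_tv] at hmem
    have hβ : ∀ q', (Pi.single ((k, y) : I × J) (1 : F) ᵥ* ((g⁻¹ : GL (I × J) F) : Matrix (I × J) (I × J) F)) q'
        = iv g (k, y) q' := by
      intro q'
      rw [single_one_vecMul]
      rfl
    have hbv : ∀ p', ((g : Matrix (I × J) (I × J) F) *ᵥ Pi.single ((k, y') : I × J) (1 : F)) p'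
        = (g : Matrix (I × J) (I × J) F) p' (k, y') := by
      intro p'
      rw [mulVec_single_one]
      rfl
    by_cases hex : ∃ q, iv g (k, y) q ≠ 0 ∧ q.1 ≠ a'.1
    · obtain ⟨q, hq, hqa⟩ := hex
      refine ⟨_, _, _, hmem, a', q, fun e => hqa e.symm, ?_, ?_⟩
      · rw [hbv]; exact ha'
      · rw [hβ]; exact hq
    · push Not at hex
      -- the column `(k, y)` has an entry in the block of `a'`
      have h1 := iv_mul_apply g (k, y) (k, y)
      rw [if_pos rfl] at h1
      obtain ⟨q, -, hq⟩ := Finset.exists_ne_zero_of_sum_ne_zero (by rw [h1]; exact one_ne_zero)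
      have hq1 := left_ne_zero_of_mul hq
      have hq2 := right_ne_zero_of_mul hq
      have hqa : q.1 = a'.1 := hex q hq1
      exact mixed_of_col X hX hJ g hg k y a q (by rw [hqa]; exact haa) ha hq2

end moves

end Cfsg.Agent.Lib.Helper8.Bmo
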