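import Mathlib
import Cfsg.Agent.Lib.Helper8.Bmo4

set_option autoImplicit false
set_option linter.unusedVariables false
set_option linter.unusedSectionVars false
set_option linter.style.longLine false

/-! Block monomial matrices (part 5): dilations, the third move, and the main theorem. -/

namespace Cfsg.Agent.Lib.Helper8.Bmo

open Matrix Cfsg.Agent.Lib.Helper8.Mono

section dil

variable {ι : Type} [Fintype ι] [DecidableEq ι] {F : Type*} [Field F]

theorem vv_idem (u w : ι → F) (h : w ⬝ᵥ u = 1) : vecMulVec u w * vecMulVec u w = vecMulVec u w := by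
  rw [vv_mul_vv, h, one_smul]

theorem dil_aux (u w : ι → F) (h : w ⬝ᵥ u = 1) (p q : F) :
    (1 + p • vecMulVec u w) * (1 + q • vecMulVec u w) = 1 + (p + q + p * q) • vecMulVec u w := by
  rw [mul_add, mul_one, add_mul, one_mul, Matrix.smul_mul, Matrix.mul_smul, vv_idem u w h,
    smul_smul, add_smul, add_smul]
  abel

/-- the dilation `1 + (c - 1) u wᵀ` (for `w u = 1`) -/
def dil (u w : ι → F) (h : w ⬝ᵥ u = 1) (c : Fˣ) : GL ι F where
  val := 1 + ((c : F) - 1) • vecMulVec u w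
  inv := 1 + (((c⁻¹ : Fˣ) : F) - 1) • vecMulVec u w
  val_inv := by
    rw [dil_aux u w h]
    have : ((c : F) - 1) + (((c⁻¹ : Fˣ) : F) - 1) + ((c : F) - 1) * (((c⁻¹ : Fˣ) : F) - 1) = 0 := by
      have h1 : (c : F) * ((c⁻¹ : Fˣ) : F) = 1 := by rw [← Units.val_mul, mul_inv_cancel, Units.val_one]
      linear_combination h1
    rw [this, zero_smul, add_zero]
  inv_val := by
    rw [dil_aux u w h]
    have : (((c⁻¹ : Fˣ) : F) - 1) + ((c : F) - 1) + (((c⁻¹ : Fˣ) : F) - 1) * ((c : F) - 1) = 0 := by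
      have h1 : (c : F) * ((c⁻¹ : Fˣ) : F) = 1 := by rw [← Units.val_mul, mul_inv_cancel, Units.val_one]
      linear_combination h1
    rw [this, zero_smul, add_zero]

theorem dil_val (u w : ι → F) (h : w ⬝ᵥ u = 1) (c : Fˣ) :
    ((dil u w h c : GL ι F) : Matrix ι ι F) = 1 + ((c : F) - 1) • vecMulVec u w := rfl

theorem det_dil (u w : ι → F) (h : w ⬝ᵥ u = 1) (c : Fˣ) :
    ((dil u w h c : GL ι F) : Matrix ι ι F).det = c := by
  have e : ((c : F) - 1) • vecMulVec u w = vecMulVec (((c : F) - 1) • u) w := by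
    ext i j
    simp only [Matrix.smul_apply, vecMulVec_apply, Pi.smul_apply, smul_eq_mul]
    ring
  rw [dil_val, e, vecMulVec_eq Unit, det_one_add_replicateCol_mul_replicateRow, dotProduct_smul, h]
  simp

theorem vecMul_dil (u w : ι → F) (h : w ⬝ᵥ u = 1) (c : Fˣ) (β : ι → F) :
    β ᵥ* ((dil u w h c : GL ι F) : Matrix ι ι F) = β + (((c : F) - 1) * (β ⬝ᵥ u)) • w := by
  rw [dil_val, Matrix.vecMul_add, Matrix.vecMul_one, Matrix.vecMul_smul, vecMul_vecMulVec, smul_smul]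

theorem dil_mulVec (u w : ι → F) (h : w ⬝ᵥ u = 1) (c : Fˣ) (b : ι → F) :
    ((dil u w h c : GL ι F) : Matrix ι ι F) *ᵥ b = b + (((c : F) - 1) * (w ⬝ᵥ b)) • u := by
  rw [dil_val, Matrix.add_mulVec, Matrix.one_mulVec, Matrix.smul_mulVec, vecMulVec_mulVec,
    op_smul_eq_smul, smul_smul]

end dil

variable {I J : Type} [Fintype I] [DecidableEq I] [Fintype J] [DecidableEq J]
  {F : Type*} [Field F]

theorem isBM_dil (k : I) (u w : J → F) (h : ιv k w ⬝ᵥ ιv k u = 1) (c : Fˣ) :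
    IsBM ((dil (ιv k u) (ιv k w) h c : GL (I × J) F) : Matrix (I × J) (I × J) F) := by
  refine ⟨1, fun x y hxy => ?_⟩
  rw [dil_val, Matrix.add_apply, Matrix.one_apply, Matrix.smul_apply, vecMulVec_apply] at hxy
  by_cases hxy' : x = y
  · rw [hxy']
    rfl
  · rw [if_neg hxy', zero_add] at hxy
    have h1 : x.1 = k := by
      by_contra hne
      apply hxy
      unfold ιv
      rw [if_neg hne, zero_mul, smul_zero]
    have h2 : y.1 = k := by
      by_contra hne
      apply hxy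
      unfold ιv
      rw [if_neg hne, mul_zero, smul_zero]
    rw [h1, h2]
    rfl

/-- a non-zero vector in the kernel of a functional -/
theorem exists_ker (hJ : 2 ≤ Fintype.card J) (v : J → F) :
    ∃ c : J → F, (∃ z, c z ≠ 0) ∧ v ⬝ᵥ c = 0 := by
  haveI : Nontrivial J := Fintype.one_lt_card_iff_nontrivial.mp (by omega)
  obtain ⟨z₁, z₂, hz⟩ := exists_pair_ne J
  by_cases h1 : v z₁ = 0
  · refine ⟨Pi.single z₁ 1, ⟨z₁, by rw [Pi.single_eq_same]; exact one_ne_zero⟩, ?_⟩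
    rw [dotProduct_single, h1, zero_mul]
  · refine ⟨v z₂ • Pi.single z₁ 1 - v z₁ • Pi.single z₂ 1, ⟨z₂, ?_⟩, ?_⟩
    · rw [Pi.sub_apply, Pi.smul_apply, Pi.smul_apply, Pi.single_eq_of_ne (Ne.symm hz),
        Pi.single_eq_same]
      simpa using h1
    · rw [dotProduct_sub, dotProduct_smul, dotProduct_smul, dotProduct_single, dotProduct_single]
      simp only [smul_eq_mul, mul_one]
      ring

section moves

variable (X : Subgroup (GL (I × J) F))
  (hX : ∀ g : GL (I × J) F, IsBM (g : Matrix (I × J) (I × J) F) →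
    (g : Matrix (I × J) (I × J) F).det = 1 → g ∈ X)

include hX

/-- third move: conjugation by a product of two dilations -/
theorem moveMu (b β : I × J → F) (hb : β ⬝ᵥ b = 0) (hs : tv b β hb ∈ X) (i l : I) (hil : i ≠ l)
    (hbi : cmp β i ⬝ᵥ cmp b i = 0) (γi : J → F) (hγi : γi ⬝ᵥ cmp b i = 1)
    (c γl : J → F) (hγl : γl ⬝ᵥ c = 1) (hβc : cmp β l ⬝ᵥ c = 0) (μ : Fˣ) :
    ∃ (κ : F) (h' : β ⬝ᵥ (((μ : F) - 1) • ιv i (cmp b i) + κ • ιv l c) = 0),
      tv (((μ : F) - 1) • ιv i (cmp b i) + κ • ιv l c) β h' ∈ X := by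
  have h1 : ιv i γi ⬝ᵥ ιv i (cmp b i) = 1 := by rw [dot_ιv_left, cmp_ιv_same]; exact hγi
  have h2 : ιv l γl ⬝ᵥ ιv l c = 1 := by rw [dot_ιv_left, cmp_ιv_same]; exact hγl
  set xi := dil (ιv i (cmp b i)) (ιv i γi) h1 μ with hxi
  set xl := dil (ιv l c) (ιv l γl) h2 μ⁻¹ with hxl
  have hd : xi * xl ∈ X := by
    apply hX
    · rw [Units.val_mul]
      exact (isBM_dil i _ _ h1 μ).mul (isBM_dil l _ _ h2 μ⁻¹)
    · rw [Units.val_mul, Matrix.det_mul, det_dil, det_dil, ← Units.val_mul, mul_inv_cancel,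
        Units.val_one]
  -- the functional is fixed
  have hβi : β ⬝ᵥ ιv i (cmp b i) = 0 := by rw [dot_ιv_right]; exact hbi
  have hβl : β ⬝ᵥ ιv l c = 0 := by rw [dot_ιv_right]; exact hβc
  have hβxi : β ᵥ* ((xi : GL (I × J) F) : Matrix (I × J) (I × J) F) = β := by
    rw [hxi, vecMul_dil, hβi, mul_zero, zero_smul, add_zero]
  have hβxl : β ᵥ* ((xl : GL (I × J) F) : Matrix (I × J) (I × J) F) = β := by
    rw [hxl, vecMul_dil, hβl, mul_zero, zero_smul, add_zero]
  have hfix : β ᵥ* ((xi * xl : GL (I × J) F) : Matrix (I × J) (I × J) F) = β := by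
    rw [Units.val_mul, ← Matrix.vecMul_vecMul, hβxi, hβxl]
  have hfix' : β ᵥ* (((xi * xl)⁻¹ : GL (I × J) F) : Matrix (I × J) (I × J) F) = β := by
    conv_lhs => rw [← hfix]
    rw [Matrix.vecMul_vecMul, ← Units.val_mul, mul_inv_cancel, Units.val_one, Matrix.vecMul_one]
  -- the image of the vector
  set κ : F := (((μ⁻¹ : Fˣ) : F) - 1) * (ιv l γl ⬝ᵥ b) with hκ
  have hwi : ιv i γi ⬝ᵥ ιv l c = 0 := by
    rw [dot_ιv_left, cmp_ιv_ne l i c hil, dotProduct_zero]
  have hwib : ιv i γi ⬝ᵥ b = 1 := by rw [dot_ιv_left]; exact hγi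
  have e1 : ((xl : GL (I × J) F) : Matrix (I × J) (I × J) F) *ᵥ b = b + κ • ιv l c := by
    rw [hxl, dil_mulVec]
  have e2 : ((xi : GL (I × J) F) : Matrix (I × J) (I × J) F) *ᵥ (b + κ • ιv l c)
      = (b + κ • ιv l c) + ((μ : F) - 1) • ιv i (cmp b i) := by
    rw [hxi, dil_mulVec, dotProduct_add, dotProduct_smul, hwi, smul_zero, add_zero, hwib, mul_one]
  have himg : ((xi * xl : GL (I × J) F) : Matrix (I × J) (I × J) F) *ᵥ b
      = b + (((μ : F) - 1) • ιv i (cmp b i) + κ • ιv l c) := by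
    rw [Units.val_mul, ← Matrix.mulVec_mulVec, e1, e2]
    abel
  have hconj := X.mul_mem (X.mul_mem hd hs) (X.inv_mem hd)
  rw [conj_tv] at hconj
  have hb2 : β ⬝ᵥ (b + (((μ : F) - 1) • ιv i (cmp b i) + κ • ιv l c)) = 0 := by
    rw [dotProduct_add, hb, zero_add, dotProduct_add, dotProduct_smul, dotProduct_smul, hβi, hβl,
      smul_zero, smul_zero, add_zero]
  have hconj2 := tv_mem_congr X hconj himg hfix' hb2
  have hfin := X.mul_mem (X.inv_mem hs) hconj2
  rw [tv_inv, tv_mul_same] at hfin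
  have hb3 : β ⬝ᵥ (((μ : F) - 1) • ιv i (cmp b i) + κ • ιv l c) = 0 := by
    rw [dotProduct_add, dotProduct_smul, dotProduct_smul, hβi, hβl, smul_zero, smul_zero, add_zero]
  refine ⟨κ, hb3, tv_mem_congr X hfin ?_ rfl hb3⟩
  abel

end moves

end Cfsg.Agent.Lib.Helper8.Bmo
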