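import Mathlib
import Cfsg.Agent.Lib.Helper8.Bmo5

set_option autoImplicit false
set_option linter.unusedVariables false
set_option linter.unusedSectionVars false
set_option linter.style.longLine false

/-! Block monomial matrices (part 6): the main theorem. -/

namespace Cfsg.Agent.Lib.Helper8.Bmo

open Matrix Cfsg.Agent.Lib.Helper8.Mono

theorem exists_ne_two {α : Type} [Fintype α] [DecidableEq α] (h : 3 ≤ Fintype.card α) (a b : α) :
    ∃ k, k ≠ a ∧ k ≠ b := by
  by_contra hcon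
  push Not at hcon
  have : (Finset.univ : Finset α) ⊆ {a, b} := by
    intro x _
    simp only [Finset.mem_insert, Finset.mem_singleton]
    by_cases h1 : x = a
    · exact Or.inl h1
    · exact Or.inr (hcon x h1)
  have := Finset.card_le_card this
  rw [Finset.card_univ] at this
  have h3 : ({a, b} : Finset α).card ≤ 2 := Finset.card_le_two
  omega

variable {I J : Type} [Fintype I] [DecidableEq I] [Fintype J] [DecidableEq J]
  {F : Type*} [Field F]

/-- a non-zero functional killing a vector and a coordinate -/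
theorem exists_ker2 (h3 : 3 ≤ Fintype.card J) (v : J → F) (y : J) :
    ∃ α : J → F, α y = 0 ∧ α ⬝ᵥ v = 0 ∧ ∃ z, α z ≠ 0 := by
  obtain ⟨z₁, hz₁, -⟩ := exists_ne_two h3 y y
  obtain ⟨z₂, hz₂, hz₂₁⟩ := exists_ne_two h3 y z₁
  by_cases h0 : v z₁ = 0
  · refine ⟨Pi.single z₁ 1, ?_, ?_, z₁, ?_⟩
    · rw [Pi.single_eq_of_ne (Ne.symm hz₁)]
    · rw [single_dotProduct, h0, mul_zero]
    · rw [Pi.single_eq_same]; exact one_ne_zero
  · refine ⟨v z₂ • Pi.single z₁ 1 - v z₁ • Pi.single z₂ 1, ?_, ?_, z₂, ?_⟩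
    · rw [Pi.sub_apply, Pi.smul_apply, Pi.smul_apply, Pi.single_eq_of_ne (Ne.symm hz₁),
        Pi.single_eq_of_ne (Ne.symm hz₂)]
      simp
    · rw [sub_dotProduct, smul_dotProduct, smul_dotProduct, single_dotProduct, single_dotProduct]
      simp only [smul_eq_mul, one_mul]
      ring
    · rw [Pi.sub_apply, Pi.smul_apply, Pi.smul_apply, Pi.single_eq_of_ne hz₂₁, Pi.single_eq_same]
      simpa using h0

section moves

variable (X : Subgroup (GL (I × J) F))
  (hX : ∀ g : GL (I × J) F, IsBM (g : Matrix (I × J) (I × J) F) →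
    (g : Matrix (I × J) (I × J) F).det = 1 → g ∈ X)

include hX

/-- from a mixed transvection to a mixed elementary transvection -/
theorem mixed_main (hJ : 2 ≤ Fintype.card J)
    (hcase : 3 ≤ Fintype.card J ∨ (3 ≤ Fintype.card I ∧ ∃ μ : Fˣ, μ ≠ 1))
    (b β : I × J → F) (hb : β ⬝ᵥ b = 0) (hs : tv b β hb ∈ X) (p q : I × J) (hpq : p.1 ≠ q.1)
    (hbp : b p ≠ 0) (hβq : β q ≠ 0) :
    ∃ (i j : I) (x' y' : J) (c : F) (hne : ((i, x') : I × J) ≠ (j, y')),
      i ≠ j ∧ c ≠ 0 ∧ etv (i, x') (j, y') hne c ∈ X := by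
  obtain ⟨i, x⟩ := p
  obtain ⟨j, y⟩ := q
  have hij : i ≠ j := hpq
  rcases hcase with h3 | ⟨h3I, μ, hμ⟩
  · obtain ⟨α, hαy, hαb, z, hz⟩ := exists_ker2 h3 (cmp b j) y
    obtain ⟨h1, hs1⟩ := moveA' X hX b β hb hs j (Pi.single y 1) α
      (by rw [dotProduct_single, hαy, zero_mul]) hαb
    have hc1 : cmp β j ⬝ᵥ Pi.single y (1 : F) = β (j, y) := by
      rw [dotProduct_single, mul_one, cmp_apply]
    obtain ⟨x', y', c, hne, hc, hmem⟩ := etv_of_formP' X hX hJ _ _ h1 hs1 i j hij x z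
      (by rw [Pi.smul_apply, smul_eq_mul, hc1]; exact mul_ne_zero hβq hbp)
      (by rw [ιv_apply_same]; exact hz)
      (fun z' => ιv_apply_ne j i α z' hij)
    exact ⟨i, j, x', y', c, hne, hij, hc, hmem⟩
  · by_cases hbi : cmp β i ⬝ᵥ cmp b i = 0
    · obtain ⟨l, hli, hlj⟩ := exists_ne_two h3I i j
      have hγi : ((b (i, x))⁻¹ • Pi.single x (1 : F)) ⬝ᵥ cmp b i = 1 := by
        rw [smul_dotProduct, single_dotProduct, one_mul, cmp_apply, smul_eq_mul, inv_mul_cancel₀ hbp]
      obtain ⟨c, ⟨z, hz⟩, hβc⟩ := exists_ker hJ (cmp β l)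
      have hγl : ((c z)⁻¹ • Pi.single z (1 : F)) ⬝ᵥ c = 1 := by
        rw [smul_dotProduct, single_dotProduct, one_mul, smul_eq_mul, inv_mul_cancel₀ hz]
      obtain ⟨κ, h', hmem⟩ := moveMu X hX b β hb hs i l (Ne.symm hli) hbi _ hγi c _ hγl hβc μ
      have hμ1 : (μ : F) - 1 ≠ 0 := by
        intro e
        apply hμ
        apply Units.ext
        rw [Units.val_one]
        linear_combination e
      obtain ⟨x', y', c', hne, hc', hmem'⟩ := etv_of_formP X hX hJ _ _ h' hmem i j hij x y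
        (by
          rw [Pi.add_apply, Pi.smul_apply, Pi.smul_apply, ιv_apply_same, ιv_apply_ne l i c x (Ne.symm hli),
            smul_zero, add_zero, smul_eq_mul, cmp_apply]
          exact mul_ne_zero hμ1 hbp)
        hβq
        (by
          intro z'
          rw [Pi.add_apply, Pi.smul_apply, Pi.smul_apply, ιv_apply_ne i j _ z' (Ne.symm hij),
            ιv_apply_ne l j c z' (Ne.symm hlj), smul_zero, smul_zero, add_zero])
      exact ⟨i, j, x', y', c', hne, hij, hc', hmem'⟩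
    · obtain ⟨a, ⟨x'', hx''⟩, hβa⟩ := exists_ker hJ (cmp β i)
      obtain ⟨h1, hs1⟩ := moveB' X hX b β hb hs i a (cmp β i) hβa hβa
      obtain ⟨x', y', c', hne, hc', hmem'⟩ := etv_of_formP X hX hJ _ _ h1 hs1 i j hij x'' y
        (by rw [ιv_apply_same]; exact hx'')
        (by
          rw [Pi.smul_apply, smul_eq_mul]
          exact mul_ne_zero (neg_ne_zero.mpr hbi) hβq)
        (fun z' => ιv_apply_ne i j a z' (Ne.symm hij))
      exact ⟨i, j, x', y', c', hne, hij, hc', hmem'⟩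

/-- **Main theorem for block monomial groups**: a subgroup containing the block monomial matrices
of determinant one and a matrix which is not block monomial contains the special linear group. -/
theorem bm_main (hJ : 2 ≤ Fintype.card J)
    (hcase : 3 ≤ Fintype.card J ∨ (3 ≤ Fintype.card I ∧ ∃ μ : Fˣ, μ ≠ 1))
    (g : GL (I × J) F) (hg : g ∈ X) (hgb : ¬ IsBM (g : Matrix (I × J) (I × J) F)) :
    Cfsg.Geo.specialLinear (I × J) F ≤ X := by
  obtain ⟨b, β, hb, hs, p, q, hpq, hbp, hβq⟩ := exists_mixed_tv X hX hJ g hg hgb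
  obtain ⟨i, j, x', y', c, hne, hij, hc, hmem⟩ :=
    mixed_main X hX hJ hcase b β hb hs p q hpq hbp hβq
  exact SL_le_of_mixed X hX hJ i j hij x' y' c hc hne hmem

end moves

end Cfsg.Agent.Lib.Helper8.Bmo
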