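import Mathlib

set_option autoImplicit false

/-! Brauer--Nesbitt three-prime theorem, part A: the unit-eigenvalue idempotent of a matrix over a
local domain whose characteristic polynomial splits. -/

namespace Cfsg.Agent.Lib.Helper8.Bn

open Polynomial Matrix

section poly

variable {R : Type*} [CommRing R]

theorem isUnit_multiset_prod (s : Multiset R) (h : ∀ x ∈ s, IsUnit x) : IsUnit s.prod := by
  induction s using Multiset.induction_on with
  | empty => simp
  | cons y s ih =>
    rw [Multiset.prod_cons]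
    exact (h y (Multiset.mem_cons_self y s)).mul (ih (fun z hz => h z (Multiset.mem_cons_of_mem hz)))

theorem dvd_prod_shift_sub (f : R[X]) (L : Multiset R) :
    f ∣ (L.map (fun a => f - C (f.eval a))).prod - (L.map (fun a => - C (f.eval a))).prod := by
  induction L using Multiset.induction_on with
  | empty => simp
  | cons a L ih =>
    simp only [Multiset.map_cons, Multiset.prod_cons]
    obtain ⟨g, hg⟩ := ih
    refine ⟨(L.map (fun a => f - C (f.eval a))).prod + (- C (f.eval a)) * g, ?_⟩
    have : (L.map (fun a => f - C (f.eval a))).prod =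
        (L.map (fun a => - C (f.eval a))).prod + f * g := by
      rw [← hg]; ring
    rw [this]; ring

/-- the splitting polynomial -/
theorem exists_split_poly (L0 L1 : Multiset R)
    (h : ∀ a ∈ L1, IsUnit ((L0.map (fun b => X - C b)).prod.eval a)) :
    ∃ ψ : R[X], (L0.map (fun b => X - C b)).prod ∣ ψ ∧
      (L1.map (fun a => X - C a)).prod ∣ 1 - ψ := by
  set f0 : R[X] := (L0.map (fun b => X - C b)).prod with hf0
  have hc : IsUnit ((L1.map (fun a => - f0.eval a)).prod) := by
    apply isUnit_multiset_prod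
    intro x hx
    rw [Multiset.mem_map] at hx
    obtain ⟨a, ha, rfl⟩ := hx
    exact (h a ha).neg
  obtain ⟨c, hcc⟩ := hc
  set H : R[X] := (L1.map (fun a => f0 - C (f0.eval a))).prod with hH
  refine ⟨1 - C (↑c⁻¹ : R) * H, ?_, ?_⟩
  · have h1 := dvd_prod_shift_sub f0 L1
    have h2 : (L1.map (fun a => - C (f0.eval a))).prod = C (c : R) := by
      rw [hcc]
      have : (fun a => - C (f0.eval a)) = (fun a => C (- f0.eval a)) := by
        funext a; simp
      rw [this]
      have := map_multiset_prod (C : R →+* R[X]) (L1.map (fun a => - f0.eval a))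
      rw [Multiset.map_map] at this
      rw [this]; rfl
    rw [h2] at h1
    obtain ⟨g, hg⟩ := h1
    refine ⟨- C (↑c⁻¹ : R) * g, ?_⟩
    have h3 : H = C (c : R) + f0 * g := by rw [← hg]; ring
    rw [h3]
    have h4 : C (↑c⁻¹ : R) * C (c : R) = 1 := by
      rw [← C_mul]; simp
    calc 1 - C (↑c⁻¹ : R) * (C (c : R) + f0 * g)
        = 1 - C (↑c⁻¹ : R) * C (c : R) - C (↑c⁻¹ : R) * (f0 * g) := by ring
      _ = f0 * (- C (↑c⁻¹ : R) * g) := by rw [h4]; ring
  · have h1 : (L1.map (fun a => X - C a)).prod ∣ H :=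
      Multiset.prod_dvd_prod_of_dvd _ _ (fun a _ => X_sub_C_dvd_sub_C_eval)
    have : (1 : R[X]) - (1 - C (↑c⁻¹ : R) * H) = C (↑c⁻¹ : R) * H := by ring
    rw [this]
    exact h1.mul_left _

end poly

section mat

variable {R : Type*} [CommRing R]
variable {n : Type*} [Fintype n] [DecidableEq n]

theorem aeval_mulVec_eigen (T : Matrix n n R) (v : n → R) (μ : R) (h : T *ᵥ v = μ • v)
    (ψ : R[X]) : (aeval T ψ) *ᵥ v = ψ.eval μ • v := by
  induction ψ using Polynomial.induction_on' with
  | add p q hp hq =>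
    rw [map_add, Matrix.add_mulVec, hp, hq, eval_add, add_smul]
  | monomial k a =>
    rw [aeval_monomial, eval_monomial]
    have hk : ∀ k : ℕ, (T ^ k) *ᵥ v = μ ^ k • v := by
      intro k
      induction k with
      | zero => simp
      | succ k ih =>
        rw [pow_succ, ← Matrix.mulVec_mulVec, h, Matrix.mulVec_smul, ih, smul_smul, pow_succ,
          mul_comm]
    rw [← Matrix.mulVec_mulVec, hk, Matrix.mulVec_smul]
    have : (algebraMap R (Matrix n n R)) a *ᵥ v = a • v := by
      rw [Matrix.algebraMap_eq_diagonal]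
      ext i
      simp [Matrix.mulVec_diagonal]
    rw [this, smul_smul, mul_comm]

variable [IsLocalRing R] [IsDomain R]

theorem exists_spectral_idem (T : Matrix n n R) (L : Multiset R)
    (hL : T.charpoly = (L.map (fun a => X - C a)).prod) :
    ∃ ψ S : R[X], aeval T ψ * aeval T ψ = aeval T ψ ∧
      T * aeval T S * aeval T ψ = aeval T ψ ∧
      ∀ (v : n → R) (μ : R), IsUnit μ → T *ᵥ v = μ • v → v ≠ 0 → (aeval T ψ) *ᵥ v = v := by
  classical
  set L1 : Multiset R := L.filter (fun a => IsUnit a) with hL1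
  set L0 : Multiset R := L.filter (fun a => ¬ IsUnit a) with hL0
  have hsplit : L1 + L0 = L := Multiset.filter_add_not _ _
  set f0 : R[X] := (L0.map (fun b => X - C b)).prod with hf0
  set f1 : R[X] := (L1.map (fun b => X - C b)).prod with hf1
  have hchar : T.charpoly = f0 * f1 := by
    rw [hL, ← hsplit, Multiset.map_add, Multiset.prod_add, mul_comm]
  have hunit : ∀ a ∈ L1, IsUnit (f0.eval a) := by
    intro a ha
    rw [hf0, Polynomial.eval_multiset_prod, Multiset.map_map]
    apply isUnit_multiset_prod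
    intro x hx
    rw [Multiset.mem_map] at hx
    obtain ⟨b, hb, rfl⟩ := hx
    simp only [Function.comp_apply, eval_sub, eval_X, eval_C]
    have ha' : IsUnit a := (Multiset.mem_filter.mp ha).2
    have hb' : ¬ IsUnit b := (Multiset.mem_filter.mp hb).2
    by_contra hab
    have : a ∈ nonunits R := by
      have h1 : a - b ∈ nonunits R := hab
      have h2 : b ∈ nonunits R := hb'
      have := IsLocalRing.nonunits_add h1 h2
      simpa using this
    exact this ha'
  obtain ⟨ψ, hψ0, hψ1⟩ := exists_split_poly L0 L1 hunit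
  -- the polynomial S
  have hc1 : IsUnit (f1.eval 0) := by
    rw [hf1, Polynomial.eval_multiset_prod, Multiset.map_map]
    apply isUnit_multiset_prod
    intro x hx
    rw [Multiset.mem_map] at hx
    obtain ⟨b, hb, rfl⟩ := hx
    simp only [Function.comp_apply, eval_sub, eval_X, eval_C, zero_sub]
    exact ((Multiset.mem_filter.mp hb).2).neg
  obtain ⟨c1, hc1'⟩ := hc1
  set S : R[X] := - C (↑c1⁻¹ : R) * f1.divX with hS
  have hXS : X * S - 1 = - C (↑c1⁻¹ : R) * f1 := by
    have h1 : f1.divX * X + C (f1.coeff 0) = f1 := Polynomial.divX_mul_X_add f1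
    have h2 : f1.coeff 0 = (c1 : R) := by rw [hc1', Polynomial.coeff_zero_eq_eval_zero]
    have h4 : C (↑c1⁻¹ : R) * C (c1 : R) = 1 := by rw [← C_mul]; simp
    have h5 : f1.divX * X = f1 - C (c1 : R) := by rw [← h2]; exact eq_sub_of_add_eq h1
    calc X * S - 1 = - C (↑c1⁻¹ : R) * (f1.divX * X) - 1 := by rw [hS]; ring
      _ = - C (↑c1⁻¹ : R) * f1 + (C (↑c1⁻¹ : R) * C (c1 : R) - 1) := by rw [h5]; ring
      _ = - C (↑c1⁻¹ : R) * f1 := by rw [h4]; ring
  have hkill : ∀ g : R[X], T.charpoly ∣ g → aeval T g = 0 := by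
    rintro g ⟨k, rfl⟩
    rw [map_mul, Matrix.aeval_self_charpoly, zero_mul]
  refine ⟨ψ, S, ?_, ?_, ?_⟩
  · have h1 : T.charpoly ∣ ψ * (1 - ψ) := by rw [hchar]; exact mul_dvd_mul hψ0 hψ1
    have h2 := hkill _ h1
    rw [map_mul, map_sub, map_one, mul_sub, mul_one, sub_eq_zero] at h2
    exact h2.symm
  · have h1 : T.charpoly ∣ (X * S - 1) * ψ := by
      rw [hchar, hXS, mul_comm f0 f1]
      exact mul_dvd_mul (Dvd.intro_left _ rfl) hψ0
    have h2 := hkill _ h1
    rw [map_mul, map_sub, map_mul, aeval_X, map_one, sub_mul, one_mul, sub_eq_zero] at h2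
    exact h2
  · intro v μ hμ hv hv0
    rw [aeval_mulVec_eigen T v μ hv ψ]
    have hroot : T.charpoly.eval μ = 0 := by
      rw [Matrix.eval_charpoly]
      rw [← Matrix.exists_mulVec_eq_zero_iff]
      refine ⟨v, hv0, ?_⟩
      rw [Matrix.sub_mulVec, hv]
      ext i
      simp [Matrix.mulVec, dotProduct, Matrix.scalar_apply, Matrix.diagonal_apply]
    have hmem : μ ∈ L := by
      rw [hL, Polynomial.eval_multiset_prod, Multiset.map_map, Multiset.prod_eq_zero_iff] at hroot
      rw [Multiset.mem_map] at hroot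
      obtain ⟨a, ha, ha0⟩ := hroot
      simp only [Function.comp_apply, eval_sub, eval_X, eval_C, sub_eq_zero] at ha0
      rw [ha0]; exact ha
    have hmem1 : μ ∈ L1 := Multiset.mem_filter.mpr ⟨hmem, hμ⟩
    have hf1μ : f1.eval μ = 0 := by
      rw [hf1, Polynomial.eval_multiset_prod, Multiset.map_map, Multiset.prod_eq_zero_iff,
        Multiset.mem_map]
      exact ⟨μ, hmem1, by simp⟩
    obtain ⟨k, hk⟩ := hψ1
    have : ψ.eval μ = 1 := by
      have := congrArg (Polynomial.eval μ) hk
      rw [eval_sub, eval_one, eval_mul, hf1μ, zero_mul, sub_eq_zero] at this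
      exact this.symm
    rw [this, one_smul]

end mat

end Cfsg.Agent.Lib.Helper8.Bn
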