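import Mathlib
import Cfsg.Agent.Lib.Helper8.BnA

set_option autoImplicit false

/-! Brauer--Nesbitt three-prime theorem, part B: a valuation subring of `ℂ` in which `p` is
not a unit, and splitting of integer characteristic polynomials over it. -/

namespace Cfsg.Agent.Lib.Helper8.Bn

open Polynomial Matrix

theorem exists_valuationSubring (p : ℕ) (hp : p.Prime) :
    ∃ O : ValuationSubring ℂ, (p : ℂ) ∈ O.nonunits := by
  set A : Subring ℂ := (Int.castRingHom ℂ).range with hA
  have hpA : (p : ℂ) ∈ A := ⟨(p : ℤ), by simp⟩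
  set I : Ideal A := Ideal.span {⟨(p : ℂ), hpA⟩} with hI
  have hI' : I ≠ ⊤ := by
    intro h
    rw [Ideal.eq_top_iff_one, hI, Ideal.mem_span_singleton'] at h
    obtain ⟨⟨a, k, rfl⟩, ha⟩ := h
    have h1 : ((k : ℤ) : ℂ) * (p : ℂ) = 1 := by
      have := congrArg Subtype.val ha
      simpa using this
    have h2 : (k : ℤ) * (p : ℤ) = 1 := by
      have : (((k * (p : ℤ) : ℤ)) : ℂ) = ((1 : ℤ) : ℂ) := by push_cast; exact h1
      exact_mod_cast this
    have h3 : IsUnit ((p : ℤ)) := IsUnit.of_mul_eq_one _ (by rw [mul_comm]; exact h2)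
    have h4 := Int.isUnit_iff.mp h3
    have := hp.two_le
    omega
  obtain ⟨B, hAB, hB⟩ := Ideal.image_subset_nonunits_valuationSubring I hI'
  refine ⟨B, hB ⟨⟨(p : ℂ), hpA⟩, ?_, rfl⟩⟩
  exact Ideal.subset_span rfl

variable (O : ValuationSubring ℂ)

theorem mem_of_isIntegral {z : ℂ} (hz : IsIntegral ℤ z) : z ∈ O := by
  have h1 : IsIntegral O z := hz.tower_top
  obtain ⟨y, hy⟩ := (IsIntegrallyClosed.isIntegral_iff (R := O) (K := ℂ)).mp h1
  rw [← hy]
  exact y.2

theorem natCast_not_isUnit (p : ℕ) (hpO : (p : ℂ) ∈ O.nonunits) : ¬ IsUnit ((p : ℕ) : O) := by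
  obtain ⟨ha, h⟩ := (ValuationSubring.mem_nonunits_iff_exists_mem_maximalIdeal (A := O)).mp hpO
  have : ((p : ℕ) : O) = ⟨(p : ℂ), ha⟩ := by
    apply Subtype.ext; simp
  rw [this]
  exact (IsLocalRing.mem_maximalIdeal _).mp h

theorem isUnit_natCast_of_coprime (p : ℕ) (hpO : (p : ℂ) ∈ O.nonunits) (k : ℕ)
    (hk : Nat.Coprime k p) : IsUnit ((k : ℕ) : O) := by
  by_contra hku
  have hpu := natCast_not_isUnit O p hpO
  have h1 : ((k : ℕ) : O) ∈ nonunits O := hku
  have h2 : ((p : ℕ) : O) ∈ nonunits O := hpu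
  have hbez : (k : ℤ) * Nat.gcdA k p + (p : ℤ) * Nat.gcdB k p = 1 := by
    have := Nat.gcd_eq_gcd_ab k p
    rw [hk] at this
    simpa using this.symm
  have h3 : ((k : ℕ) : O) * ((Nat.gcdA k p : ℤ) : O) + ((p : ℕ) : O) * ((Nat.gcdB k p : ℤ) : O) = 1 := by
    have := congrArg (fun z : ℤ => (z : O)) hbez
    push_cast at this
    exact this
  have h4 : ((k : ℕ) : O) * ((Nat.gcdA k p : ℤ) : O) ∈ IsLocalRing.maximalIdeal O :=
    Ideal.mul_mem_right _ _ ((IsLocalRing.mem_maximalIdeal _).mpr h1)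
  have h5 : ((p : ℕ) : O) * ((Nat.gcdB k p : ℤ) : O) ∈ IsLocalRing.maximalIdeal O :=
    Ideal.mul_mem_right _ _ ((IsLocalRing.mem_maximalIdeal _).mpr h2)
  have h6 := Ideal.add_mem _ h4 h5
  rw [h3] at h6
  exact (IsLocalRing.maximalIdeal.isMaximal O).ne_top ((Ideal.eq_top_iff_one _).mpr h6)

theorem exists_primitiveRoot (n : ℕ) (hn : 0 < n) : ∃ ζ : O, IsPrimitiveRoot ζ n := by
  have h := Complex.isPrimitiveRoot_exp n hn.ne'
  set z : ℂ := Complex.exp (2 * Real.pi * Complex.I / n) with hz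
  have hint : IsIntegral ℤ z := by
    refine ⟨X ^ n - 1, monic_X_pow_sub_C 1 hn.ne', ?_⟩
    simp [h.pow_eq_one]
  have hmem := mem_of_isIntegral O hint
  refine ⟨⟨z, hmem⟩, ?_⟩
  apply IsPrimitiveRoot.of_map_of_injective (f := O.subtype) (h := by simpa using h)
  exact Subtype.val_injective

/-- integer matrices have split characteristic polynomial over `O` -/
theorem exists_roots_charpoly {n : Type*} [Fintype n] [DecidableEq n] (T : Matrix n n ℤ) :
    ∃ L : Multiset O, (T.map (Int.castRingHom O)).charpoly = (L.map (fun a => X - C a)).prod := by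
  set ι : O →+* ℂ := O.subtype with hι
  have hιinj : Function.Injective ι := Subtype.val_injective
  set fC : ℂ[X] := (T.map (Int.castRingHom ℂ)).charpoly with hfC
  have hfC' : fC = T.charpoly.map (Int.castRingHom ℂ) := by
    rw [hfC, Matrix.charpoly_map]
  have hmonic : fC.Monic := Matrix.charpoly_monic _
  have hsplit : fC.Splits := IsAlgClosed.splits fC
  have hprod : fC = (fC.roots.map (X - C ·)).prod := hsplit.eq_prod_roots_of_monic hmonic
  have hroots : ∀ z ∈ fC.roots, z ∈ O := by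
    intro z hz
    apply mem_of_isIntegral
    refine ⟨T.charpoly, Matrix.charpoly_monic _, ?_⟩
    have := (Polynomial.mem_roots hmonic.ne_zero).mp hz
    rw [hfC', Polynomial.IsRoot.def, Polynomial.eval_map] at this
    exact this
  set L : Multiset O := fC.roots.attach.map (fun z => ⟨z.1, hroots z.1 z.2⟩) with hLdef
  have hLmap : L.map ι = fC.roots := by
    rw [hLdef, Multiset.map_map]
    conv_rhs => rw [← Multiset.attach_map_val fC.roots]
    rfl
  refine ⟨L, ?_⟩
  apply Polynomial.map_injective ι hιinj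
  rw [← Matrix.charpoly_map, Polynomial.map_multiset_prod, Multiset.map_map]
  have h1 : (T.map (Int.castRingHom O)).map ι = T.map (Int.castRingHom ℂ) := by
    ext i j
    simp [hι]
  rw [h1, ← hfC]
  conv_lhs => rw [hprod, ← hLmap, Multiset.map_map]
  congr 1
  apply Multiset.map_congr rfl
  intro a _
  simp [hι]

end Cfsg.Agent.Lib.Helper8.Bn
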