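import Mathlib
import Cfsg.Agent.Lib.Helper3.EndSub1
import Cfsg.Agent.Lib.Helper6.CharOps

set_option autoImplicit false

/-! Brauer--Nesbitt three-prime theorem, part C: `G × G` matrices commuting with right
translations, coset matrices, and the characters they define. -/

namespace Cfsg.Agent.Lib.Helper8.Bn

open Matrix

section basic

variable {G : Type*} [Group G] [Fintype G] [DecidableEq G]
variable (A : Type*) [CommRing A]

/-- right translation permutation matrix -/
def Pm (g : G) : Matrix G G A := fun x y => if y = x * g then 1 else 0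

/-- right invariance -/
def RInv {A : Type*} (M : Matrix G G A) : Prop := ∀ g x y : G, M (x * g) (y * g) = M x y

variable {A}

theorem Pm_mul_apply (g : G) (M : Matrix G G A) (x y : G) : (Pm A g * M) x y = M (x * g) y := by
  simp [Matrix.mul_apply, Pm]

theorem mul_Pm_apply (g : G) (M : Matrix G G A) (x y : G) :
    (M * Pm A g) x y = M x (y * g⁻¹) := by
  simp only [Matrix.mul_apply, Pm]
  rw [Finset.sum_eq_single (y * g⁻¹)]
  · simp
  · intro b _ hb
    have : ¬ y = b * g := by
      intro h; apply hb; rw [h]; group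
    simp [this]
  · simp

theorem Pm_one : Pm A (1 : G) = 1 := by
  ext x y
  simp [Pm, Matrix.one_apply, eq_comm]

theorem Pm_mul (g h : G) : Pm A (g * h) = Pm A g * Pm A h := by
  ext x y
  rw [Pm_mul_apply]
  simp [Pm, mul_assoc]

theorem RInv.comm {M : Matrix G G A} (hM : RInv M) (g : G) : Pm A g * M = M * Pm A g := by
  ext x y
  rw [Pm_mul_apply, mul_Pm_apply]
  have := hM g x (y * g⁻¹)
  simpa using this

theorem rInv_of_comm {M : Matrix G G A} (hM : ∀ g : G, Pm A g * M = M * Pm A g) : RInv M := by
  intro g x y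
  have := congrFun (congrFun (hM g) x) (y * g)
  rw [Pm_mul_apply, mul_Pm_apply] at this
  simpa using this

theorem RInv.mul {M N : Matrix G G A} (hM : RInv M) (hN : RInv N) : RInv (M * N) := by
  apply rInv_of_comm
  intro g
  rw [← Matrix.mul_assoc, hM.comm, Matrix.mul_assoc, hN.comm, Matrix.mul_assoc]

theorem RInv.add {M N : Matrix G G A} (hM : RInv M) (hN : RInv N) : RInv (M + N) := by
  intro g x y
  simp [hM g x y, hN g x y]

theorem RInv.sub {M N : Matrix G G A} (hM : RInv M) (hN : RInv N) : RInv (M - N) := by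
  intro g x y
  simp [hM g x y, hN g x y]

theorem RInv.smul {M : Matrix G G A} (hM : RInv M) (a : A) : RInv (a • M) := by
  intro g x y
  simp [hM g x y]

theorem rInv_one : RInv (1 : Matrix G G A) := by
  intro g x y
  simp [Matrix.one_apply]

theorem rInv_Pm_of_comm (u : G) (hu : ∀ g : G, True) : True := trivial

theorem RInv.pow {M : Matrix G G A} (hM : RInv M) (k : ℕ) : RInv (M ^ k) := by
  induction k with
  | zero => rw [pow_zero]; exact rInv_one
  | succ k ih => rw [pow_succ]; exact ih.mul hM

theorem RInv.aeval {M : Matrix G G A} (hM : RInv M) (ψ : Polynomial A) :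
    RInv (Polynomial.aeval M ψ) := by
  induction ψ using Polynomial.induction_on' with
  | add p q hp hq => rw [map_add]; exact hp.add hq
  | monomial k a =>
    rw [Polynomial.aeval_monomial]
    have : (algebraMap A (Matrix G G A)) a * M ^ k = a • (M ^ k) := by
      rw [Algebra.algebraMap_eq_smul_one, Matrix.smul_mul, Matrix.one_mul]
    rw [this]
    exact (hM.pow k).smul a

theorem RInv.map {B : Type*} [CommRing B] {M : Matrix G G A} (hM : RInv M) (f : A →+* B) :
    RInv (M.map f) := by
  intro g x y
  simp [hM g x y]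

theorem trace_Pm_mul (g : G) (M : Matrix G G A) :
    Matrix.trace (Pm A g * M) = ∑ x, M (x * g) x := by
  simp [Matrix.trace, Pm_mul_apply]

theorem Pm_map {B : Type*} [CommRing B] (f : A →+* B) (g : G) : (Pm A g).map f = Pm B g := by
  ext x y
  simp only [Matrix.map_apply, Pm]
  split_ifs <;> simp

/-- coset matrix -/
def Bm (A : Type*) [CommRing A] (H : Subgroup G) [DecidablePred (· ∈ H)] : Matrix G G A :=
  fun x y => if x * y⁻¹ ∈ H then 1 else 0

variable (H : Subgroup G) [DecidablePred (· ∈ H)]

theorem rInv_Bm : RInv (Bm A H) := by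
  intro g x y
  simp [Bm, mul_assoc]

theorem Bm_map {B : Type*} [CommRing B] (f : A →+* B) : (Bm A H).map f = Bm B H := by
  ext x y
  simp only [Matrix.map_apply, Bm]
  split_ifs <;> simp

theorem Bm_mul_self : Bm A H * Bm A H = (Nat.card H : A) • Bm A H := by
  ext x y
  simp only [Matrix.mul_apply, Bm, Matrix.smul_apply, smul_eq_mul]
  by_cases hxy : x * y⁻¹ ∈ H
  · rw [if_pos hxy, mul_one]
    have : ∀ t : G, ((if x * t⁻¹ ∈ H then (1 : A) else 0) * if t * y⁻¹ ∈ H then 1 else 0)
        = if t * y⁻¹ ∈ H then 1 else 0 := by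
      intro t
      by_cases ht : t * y⁻¹ ∈ H
      · have : x * t⁻¹ ∈ H := by
          have h1 : x * t⁻¹ = (x * y⁻¹) * (t * y⁻¹)⁻¹ := by group
          rw [h1]; exact H.mul_mem hxy (H.inv_mem ht)
        simp [ht, this]
      · simp [ht]
    rw [Finset.sum_congr rfl (fun t _ => this t), Finset.sum_boole]
    congr 1
    rw [Nat.card_eq_fintype_card, ← Fintype.card_subtype]
    apply Fintype.card_congr
    exact { toFun := fun t => ⟨t.1 * y⁻¹, t.2⟩
            invFun := fun h => ⟨h.1 * y, by simp⟩
            left_inv := fun t => by simp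
            right_inv := fun h => by simp }
  · rw [if_neg hxy, mul_zero]
    apply Finset.sum_eq_zero
    intro t _
    by_cases ht : t * y⁻¹ ∈ H
    · have : ¬ x * t⁻¹ ∈ H := by
        intro h
        apply hxy
        have h1 : x * y⁻¹ = (x * t⁻¹) * (t * y⁻¹) := by group
        rw [h1]; exact H.mul_mem h ht
      simp [this]
    · simp [ht]

theorem Bm_mulVec_one : (Bm A H) *ᵥ (fun _ => (1 : A)) = fun _ => (Nat.card H : A) := by
  funext x
  simp only [Matrix.mulVec, dotProduct, Bm, mul_one]
  rw [Finset.sum_boole]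
  congr 1
  rw [Nat.card_eq_fintype_card, ← Fintype.card_subtype]
  apply Fintype.card_congr
  exact { toFun := fun t => ⟨x * t.1⁻¹, t.2⟩
          invFun := fun h => ⟨h.1⁻¹ * x, by simp⟩
          left_inv := fun t => by simp
          right_inv := fun h => by simp }

theorem trace_Pm_mul_Bm (g : G) :
    Matrix.trace (Pm A g * Bm A H) = (Nat.card {x : G // x * g * x⁻¹ ∈ H} : A) := by
  rw [trace_Pm_mul]
  simp only [Bm]
  rw [Finset.sum_boole, Nat.card_eq_fintype_card, ← Fintype.card_subtype]

end basic

section chars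

variable {G : Type*} [Group G] [Fintype G] [DecidableEq G]

theorem trace_toLin'_eq {n : Type*} [Fintype n] [DecidableEq n] (M : Matrix n n ℂ) :
    LinearMap.trace ℂ (n → ℂ) (Matrix.toLin' M) = M.trace := by
  rw [LinearMap.trace_eq_matrix_trace ℂ (Pi.basisFun ℂ n), LinearMap.toMatrix_eq_toMatrix',
    LinearMap.toMatrix'_toLin']

/-- the right regular representation in matrix form -/
noncomputable def regRep : Representation ℂ G (G → ℂ) where
  toFun g := Matrix.toLin' (Pm ℂ g)
  map_one' := by rw [Pm_one, Matrix.toLin'_one]; rfl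
  map_mul' g h := by rw [Pm_mul, Matrix.toLin'_mul]; rfl

theorem isCharacter_of_idem (M : Matrix G G ℂ) (hM : M * M = M) (hinv : RInv M) :
    Cfsg.IsCharacter G (fun g => Matrix.trace (Pm ℂ g * M)) := by
  have h := Cfsg.Agent.Lib.Helper3.EndSub.isCharacter_trace_comp_of_idem (G := G)
    (regRep (G := G)) (Matrix.toLin' M)
    (by
      intro x
      rw [← LinearMap.comp_apply, ← Matrix.toLin'_mul, hM])
    (by
      intro g x
      change Matrix.toLin' (Pm ℂ g) (Matrix.toLin' M x) = Matrix.toLin' M (Matrix.toLin' (Pm ℂ g) x)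
      rw [← LinearMap.comp_apply, ← Matrix.toLin'_mul, hinv.comm, Matrix.toLin'_mul]
      rfl)
  have h2 : (fun g => LinearMap.trace ℂ (G → ℂ) ((regRep (G := G)) g ∘ₗ Matrix.toLin' M))
      = fun g => Matrix.trace (Pm ℂ g * M) := by
    funext g
    change LinearMap.trace ℂ (G → ℂ) (Matrix.toLin' (Pm ℂ g) ∘ₗ Matrix.toLin' M) = _
    rw [← Matrix.toLin'_mul, trace_toLin'_eq]
  rw [← h2]
  exact h

end chars

end Cfsg.Agent.Lib.Helper8.Bn
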