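import Mathlib
import Cfsg.Agent.Lib.Helper8.BnA
import Cfsg.Agent.Lib.Helper8.BnB
import Cfsg.Agent.Lib.Helper8.BnC

set_option autoImplicit false
set_option maxHeartbeats 800000

/-! Brauer--Nesbitt three-prime theorem, part D: the common projective summand of the two
permutation modules, as a character. -/

namespace Cfsg.Agent.Lib.Helper8.Bn

open Matrix Polynomial

variable {G : Type*} [Group G] [Fintype G] [DecidableEq G]

/-- the character cut out by a matrix -/
noncomputable def chOf (M : Matrix G G ℂ) : G → ℂ := fun g => Matrix.trace (Pm ℂ g * M)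

theorem chOf_add (M N : Matrix G G ℂ) (g : G) : chOf (M + N) g = chOf M g + chOf N g := by
  simp [chOf, Matrix.mul_add, Matrix.trace_add]

theorem chOf_sub (M N : Matrix G G ℂ) (g : G) : chOf (M - N) g = chOf M g - chOf N g := by
  simp [chOf, Matrix.mul_sub, Matrix.trace_sub]

/-- the permutation character on cosets of `H`, as an explicit function -/
noncomputable def permOf (H : Subgroup G) : G → ℂ :=
  fun g => (Nat.card H : ℂ)⁻¹ * (Nat.card {x : G // x * g * x⁻¹ ∈ H} : ℂ)

theorem chOf_smul_Bm (H : Subgroup G) [DecidablePred (· ∈ H)] (g : G) :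
    chOf ((Nat.card H : ℂ)⁻¹ • Bm ℂ H) g = permOf H g := by
  unfold chOf permOf
  rw [Matrix.mul_smul, Matrix.trace_smul, trace_Pm_mul_Bm, smul_eq_mul]

theorem exists_common_char (p : ℕ) (hp : p.Prime) (Q R : Subgroup G)
    [DecidablePred (· ∈ Q)] [DecidablePred (· ∈ R)]
    (hQ : (Nat.card Q).Coprime p) (hR : (Nat.card R).Coprime p)
    (hvan : ∀ O : ValuationSubring ℂ, (p : ℂ) ∈ O.nonunits → ∀ E : Matrix G G O, E * E = E →
      RInv E → ∀ h : G, p ∣ orderOf h → ∑ x, E (x * h) x = 0) :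
    ∃ Φ ΦA ΦB : G → ℂ, Cfsg.IsCharacter G Φ ∧ Cfsg.IsCharacter G ΦA ∧ Cfsg.IsCharacter G ΦB ∧
      (∀ g, permOf Q g = Φ g + ΦA g) ∧ (∀ g, permOf R g = Φ g + ΦB g) ∧
      (∀ h, p ∣ orderOf h → Φ h = 0) ∧ ∑ g, Φ g = (Nat.card G : ℂ) := by
  obtain ⟨O, hO⟩ := exists_valuationSubring p hp
  set ι : O →+* ℂ := O.subtype with hι
  -- the integer matrix
  set TO : Matrix G G O := Bm O Q * Bm O R * Bm O Q with hTO
  set TZ : Matrix G G ℤ := Bm ℤ Q * Bm ℤ R * Bm ℤ Q with hTZ
  have hTZO : TZ.map (Int.castRingHom O) = TO := by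
    rw [hTZ, hTO, Matrix.map_mul, Matrix.map_mul, Bm_map, Bm_map]
  obtain ⟨L, hL⟩ := exists_roots_charpoly O TZ
  rw [hTZO] at hL
  obtain ⟨ψ, S, hidem, hTS, heig⟩ := exists_spectral_idem TO L hL
  set πO : Matrix G G O := aeval TO ψ with hπO
  set SO : Matrix G G O := aeval TO S with hSO
  have hTOinv : RInv TO := ((rInv_Bm Q).mul (rInv_Bm R)).mul (rInv_Bm Q)
  have hπOinv : RInv πO := hTOinv.aeval ψ
  have hSOinv : RInv SO := hTOinv.aeval S
  -- eigenvector
  have hqu : IsUnit ((Nat.card Q : ℕ) : O) := isUnit_natCast_of_coprime O p hO _ hQ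
  have hru : IsUnit ((Nat.card R : ℕ) : O) := isUnit_natCast_of_coprime O p hO _ hR
  have hone : πO *ᵥ (fun _ => (1 : O)) = fun _ => (1 : O) := by
    apply heig (fun _ => (1 : O)) (((Nat.card Q : ℕ) : O) * ((Nat.card R : ℕ) : O) * ((Nat.card Q : ℕ) : O))
      ((hqu.mul hru).mul hqu)
    · rw [hTO, ← Matrix.mulVec_mulVec, ← Matrix.mulVec_mulVec, Bm_mulVec_one]
      have h1 : ∀ (H : Subgroup G) [DecidablePred (· ∈ H)] (a : O),
          (Bm O H) *ᵥ (fun _ => a) = fun _ => a * (Nat.card H : O) := by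
        intro H _ a
        have : (fun _ : G => a) = a • (fun _ : G => (1 : O)) := by
          funext x; simp
        rw [this, Matrix.mulVec_smul, Bm_mulVec_one]
        funext x; simp
      rw [h1 R, h1 Q]
      funext x
      simp only [Pi.smul_apply, smul_eq_mul, mul_one]
      try ring
    · intro h
      have := congrFun h (1 : G)
      simp at this
  -- commutation over O
  have hcomm1 : SO * πO = πO * SO := by
    rw [hSO, hπO, ← map_mul, ← map_mul, mul_comm]
  have hcomm2 : TO * πO = πO * TO := by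
    have : TO = aeval TO (X : O[X]) := by simp
    conv_lhs => rw [this]
    conv_rhs => rw [this]
    rw [hπO, ← map_mul, ← map_mul, mul_comm]
  have hcomm3 : TO * SO = SO * TO := by
    have : TO = aeval TO (X : O[X]) := by simp
    conv_lhs => rw [this]
    conv_rhs => rw [this]
    rw [hSO, ← map_mul, ← map_mul, mul_comm]
  -- map to ℂ
  set π : Matrix G G ℂ := πO.map ι with hπ
  set Sm : Matrix G G ℂ := SO.map ι with hSm
  set BQ : Matrix G G ℂ := Bm ℂ Q with hBQ
  set BR : Matrix G G ℂ := Bm ℂ R with hBR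
  set T : Matrix G G ℂ := BQ * BR * BQ with hT
  have hTmap : TO.map ι = T := by
    rw [hTO, hT, Matrix.map_mul, Matrix.map_mul, Bm_map, Bm_map]
  have hπidem : π * π = π := by rw [hπ, ← Matrix.map_mul, hidem]
  have hTSπ : T * Sm * π = π := by
    rw [← hTmap, hSm, hπ, ← Matrix.map_mul, ← Matrix.map_mul, hTS]
  have hπinv : RInv π := hπOinv.map ι
  have hSminv : RInv Sm := hSOinv.map ι
  have hc1 : Sm * π = π * Sm := by rw [hSm, hπ, ← Matrix.map_mul, ← Matrix.map_mul, hcomm1]
  have hc2 : T * π = π * T := by rw [← hTmap, hπ, ← Matrix.map_mul, ← Matrix.map_mul, hcomm2]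
  have hc3 : T * Sm = Sm * T := by rw [← hTmap, hSm, ← Matrix.map_mul, ← Matrix.map_mul, hcomm3]
  -- cardinalities
  have hq0 : (Nat.card Q : ℂ) ≠ 0 := by
    have : 0 < Nat.card Q := Nat.card_pos
    exact_mod_cast this.ne'
  have hr0 : (Nat.card R : ℂ) ≠ 0 := by
    have : 0 < Nat.card R := Nat.card_pos
    exact_mod_cast this.ne'
  set eQ : Matrix G G ℂ := (Nat.card Q : ℂ)⁻¹ • BQ with heQ
  set eR : Matrix G G ℂ := (Nat.card R : ℂ)⁻¹ • BR with heR
  clear_value eQ eR
  have hBQ2 : BQ * BQ = (Nat.card Q : ℂ) • BQ := Bm_mul_self Q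
  have hBR2 : BR * BR = (Nat.card R : ℂ) • BR := Bm_mul_self R
  have heQB : eQ * BQ = BQ := by
    rw [heQ, Matrix.smul_mul, hBQ2, smul_smul, inv_mul_cancel₀ hq0, one_smul]
  have hBeQ : BQ * eQ = BQ := by
    rw [heQ, Matrix.mul_smul, hBQ2, smul_smul, inv_mul_cancel₀ hq0, one_smul]
  have heRB : eR * BR = BR := by
    rw [heR, Matrix.smul_mul, hBR2, smul_smul, inv_mul_cancel₀ hr0, one_smul]
  have hBeR : BR * eR = BR := by
    rw [heR, Matrix.mul_smul, hBR2, smul_smul, inv_mul_cancel₀ hr0, one_smul]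
  have heQidem : eQ * eQ = eQ := by
    nth_rewrite 2 [heQ]
    rw [Matrix.mul_smul, heQB, ← heQ]
  have heRidem : eR * eR = eR := by
    nth_rewrite 2 [heR]
    rw [Matrix.mul_smul, heRB, ← heR]
  have heQT : eQ * T = T := by
    rw [hT, ← Matrix.mul_assoc, ← Matrix.mul_assoc, heQB]
  have hTeQ : T * eQ = T := by
    rw [hT, Matrix.mul_assoc, hBeQ]
  have heQπ : eQ * π = π := by
    conv_lhs => rw [← hTSπ, ← Matrix.mul_assoc, ← Matrix.mul_assoc, heQT]
    exact hTSπ
  have hπeQ : π * eQ = π := by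
    have h1 : π = π * Sm * T := by
      conv_lhs => rw [← hTSπ]
      rw [Matrix.mul_assoc, hc1, ← Matrix.mul_assoc, hc2, Matrix.mul_assoc, hc3,
        ← Matrix.mul_assoc]
    conv_lhs => rw [h1, Matrix.mul_assoc, hTeQ]
    exact h1.symm
  -- the characters on the Q side
  have heQinv : RInv eQ := by rw [heQ]; exact (rInv_Bm Q).smul _
  have heRinv : RInv eR := by rw [heR]; exact (rInv_Bm R).smul _
  have hAidem : (eQ - π) * (eQ - π) = eQ - π := by
    rw [Matrix.sub_mul, Matrix.mul_sub, Matrix.mul_sub, heQidem, heQπ, hπeQ, hπidem]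
    abel
  -- the R side
  set c : ℂ := (Nat.card Q : ℂ) / (Nat.card R : ℂ) with hc
  set x : Matrix G G ℂ := π * BR with hx
  set y : Matrix G G ℂ := c • (BR * BQ * Sm * π) with hy
  have hπBRBQ : π * BR * BQ = (Nat.card Q : ℂ)⁻¹ • (π * T) := by
    conv_lhs => rw [← hπeQ, heQ, Matrix.mul_smul, Matrix.smul_mul, Matrix.smul_mul]
    rw [hT, Matrix.mul_assoc, Matrix.mul_assoc, Matrix.mul_assoc]
  have hxy : x * y = π := by
    rw [hx, hy, Matrix.mul_smul]
    have h1 : π * BR * (BR * BQ * Sm * π) = (Nat.card R : ℂ) • (π * BR * BQ * Sm * π) := by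
      simp only [Matrix.mul_assoc]
      rw [← Matrix.mul_assoc BR BR, hBR2]
      simp only [Matrix.smul_mul, Matrix.mul_smul]
    rw [h1, hπBRBQ, smul_smul]
    simp only [Matrix.smul_mul]
    rw [smul_smul]
    have h2 : π * T * Sm * π = π := by
      rw [Matrix.mul_assoc, Matrix.mul_assoc, ← Matrix.mul_assoc T, hTSπ, hπidem]
    rw [h2]
    have h3 : c * (Nat.card R : ℂ) * (Nat.card Q : ℂ)⁻¹ = 1 := by
      rw [hc]; field_simp
    rw [h3, one_smul]
  set e2 : Matrix G G ℂ := y * x with he2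
  have hπx : π * x = x := by rw [hx, ← Matrix.mul_assoc, hπidem]
  have he2idem : e2 * e2 = e2 := by
    rw [he2, Matrix.mul_assoc, ← Matrix.mul_assoc x, hxy, hπx]
  have hxinv : RInv x := hπinv.mul (rInv_Bm R)
  have hyinv : RInv y := ((((rInv_Bm R).mul (rInv_Bm Q)).mul hSminv).mul hπinv).smul c
  have he2inv : RInv e2 := hyinv.mul hxinv
  have heRy : eR * y = y := by
    rw [hy, Matrix.mul_smul]
    congr 1
    simp only [Matrix.mul_assoc]
    rw [← Matrix.mul_assoc eR BR, heRB]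
  have heRe2 : eR * e2 = e2 := by
    rw [he2, ← Matrix.mul_assoc, heRy]
  have he2eR : e2 * eR = e2 := by
    rw [he2, hx, Matrix.mul_assoc, Matrix.mul_assoc, hBeR]
  have hBidem : (eR - e2) * (eR - e2) = eR - e2 := by
    rw [Matrix.sub_mul, Matrix.mul_sub, Matrix.mul_sub, heRidem, heRe2, he2eR, he2idem]
    abel
  have hche2 : ∀ g, chOf e2 g = chOf π g := by
    intro g
    unfold chOf
    rw [he2, ← Matrix.mul_assoc, Matrix.trace_mul_comm, ← Matrix.mul_assoc, ← hxinv.comm,
      Matrix.mul_assoc, hxy]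
  refine ⟨chOf π, chOf (eQ - π), chOf (eR - e2), isCharacter_of_idem π hπidem hπinv,
    isCharacter_of_idem _ hAidem (heQinv.sub hπinv),
    isCharacter_of_idem _ hBidem (heRinv.sub he2inv), ?_, ?_, ?_, ?_⟩
  · intro g
    rw [chOf_sub, ← chOf_smul_Bm Q g, ← hBQ, ← heQ]
    ring
  · intro g
    rw [chOf_sub, hche2, ← chOf_smul_Bm R g, ← hBR, ← heR]
    ring
  · intro h hh
    have h1 := hvan O hO πO hidem hπOinv h hh
    unfold chOf
    rw [trace_Pm_mul]
    have : ∑ x, π (x * h) x = ι (∑ x, πO (x * h) x) := by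
      rw [map_sum]; rfl
    rw [this, h1, map_zero]
  · unfold chOf
    simp only [trace_Pm_mul]
    rw [Finset.sum_comm]
    have h1 : ∀ y : G, ∑ g : G, π (y * g) y = ∑ z : G, π z y := by
      intro y
      exact Fintype.sum_equiv (Equiv.mulLeft y) _ _ (fun g => rfl)
    rw [Finset.sum_congr rfl (fun y _ => h1 y), Finset.sum_comm]
    have h2 : ∀ z : G, ∑ y : G, π z y = 1 := by
      intro z
      have := congrFun hone z
      simp only [Matrix.mulVec, dotProduct, mul_one] at this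
      have h3 : ∑ y : G, π z y = ι (∑ y : G, πO z y) := by rw [map_sum]; rfl
      rw [h3, this, map_one]
    rw [Finset.sum_congr rfl (fun z _ => h2 z)]
    simp [Nat.card_eq_fintype_card]

end Cfsg.Agent.Lib.Helper8.Bn
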