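import Mathlib
import Cfsg.Agent.Lib.Helper8.BnD
import Cfsg.Agent.Lib.Helper6.IrrBasis
import Cfsg.Agent.Lib.Helper6.CharBasic

set_option autoImplicit false
set_option maxHeartbeats 800000

/-! Brauer--Nesbitt three-prime theorem, part E: inner products and the endgame. -/

namespace Cfsg.Agent.Lib.Helper8.Bn

open Matrix Cfsg Cfsg.Agent.Lib.Helper6
open scoped ComplexConjugate

variable {G : Type*} [Group G] [Fintype G] [DecidableEq G]

theorem classInner_self_eq_ofReal (f : G → ℂ) :
    classInner f f = (((Nat.card G : ℝ)⁻¹ * ∑ g, Complex.normSq (f g) : ℝ) : ℂ) := by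
  unfold classInner
  push_cast
  congr 1
  apply Finset.sum_congr rfl
  intro g _
  rw [Complex.mul_conj]

theorem eq_zero_of_classInner_self_re_nonpos (f : G → ℂ) (h : (classInner f f).re ≤ 0) :
    f = 0 := by
  rw [classInner_self_eq_ofReal, Complex.ofReal_re] at h
  have hpos : (0 : ℝ) < (Nat.card G : ℝ)⁻¹ := by
    apply inv_pos.mpr
    exact_mod_cast Nat.card_pos (α := G)
  have h1 : ∑ g, Complex.normSq (f g) ≤ 0 := by
    by_contra hc
    push Not at hc
    have := mul_pos hpos hc
    linarith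
  have h2 : ∀ g ∈ Finset.univ, Complex.normSq (f g) = 0 := by
    apply (Finset.sum_eq_zero_iff_of_nonneg (fun g _ => Complex.normSq_nonneg _)).mp
    exact le_antisymm h1 (Finset.sum_nonneg (fun g _ => Complex.normSq_nonneg _))
  funext g
  exact Complex.normSq_eq_zero.mp (h2 g (Finset.mem_univ g))

theorem permOf_conj (H : Subgroup G) (g : G) : conj (permOf H g) = permOf H g := by
  unfold permOf
  simp

theorem permOf_one (H : Subgroup G) : permOf H (1 : G) = (Nat.card H : ℂ)⁻¹ * (Nat.card G : ℂ) := by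
  unfold permOf
  congr 2
  apply Nat.card_congr
  exact { toFun := fun x => x.1
          invFun := fun x => ⟨x, by simp⟩
          left_inv := fun x => rfl
          right_inv := fun x => rfl }

theorem permOf_eq_zero (H : Subgroup G) (g : G) (hg : ¬ orderOf g ∣ Nat.card H) :
    permOf H g = 0 := by
  unfold permOf
  have : IsEmpty {x : G // x * g * x⁻¹ ∈ H} := by
    constructor
    rintro ⟨x, hx⟩
    apply hg
    have h1 : orderOf (⟨x * g * x⁻¹, hx⟩ : H) ∣ Nat.card H := orderOf_dvd_natCard _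
    have h2 : orderOf (⟨x * g * x⁻¹, hx⟩ : H) = orderOf (x * g * x⁻¹) := by
      rw [← Subgroup.orderOf_coe]
    have h3 : orderOf (x * g * x⁻¹) = orderOf g := by
      have : x * g * x⁻¹ = MulAut.conj x g := by simp
      rw [this]
      exact MulEquiv.orderOf_eq _ g
    rw [h2, h3] at h1
    exact h1
  have h0 : Nat.card {x : G // x * g * x⁻¹ ∈ H} = 0 := Nat.card_of_isEmpty
  rw [h0]
  simp

theorem classInner_permOf (Q R : Subgroup G) (hQR : (Nat.card Q).Coprime (Nat.card R)) :
    classInner (permOf Q) (permOf R) =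
      (Nat.card G : ℂ) * ((Nat.card Q : ℂ)⁻¹ * (Nat.card R : ℂ)⁻¹) := by
  unfold classInner
  have h1 : ∀ g : G, g ≠ 1 → permOf Q g * conj (permOf R g) = 0 := by
    intro g hg
    by_cases h : orderOf g ∣ Nat.card Q
    · have : ¬ orderOf g ∣ Nat.card R := by
        intro h'
        have := Nat.dvd_gcd h h'
        rw [hQR] at this
        have h2 := Nat.dvd_one.mp this
        exact hg (orderOf_eq_one_iff.mp h2)
      rw [permOf_eq_zero R g this]
      simp
    · rw [permOf_eq_zero Q g h]
      simp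
  rw [Finset.sum_eq_single (1 : G) (fun g _ hg => h1 g hg) (by simp)]
  rw [permOf_conj, permOf_one, permOf_one]
  have hG0 : (Nat.card G : ℂ) ≠ 0 := by exact_mod_cast (Nat.card_pos (α := G)).ne'
  field_simp

theorem main (p : ℕ) (hp : p.Prime) (Q R : Subgroup G) (pa : ℕ)
    (hQ : (Nat.card Q).Coprime p) (hR : (Nat.card R).Coprime p)
    (hQR : (Nat.card Q).Coprime (Nat.card R))
    (hG : Nat.card G = pa * (Nat.card Q * Nat.card R))
    (hX : Nat.card {g : G // ¬ p ∣ orderOf g} = Nat.card Q * Nat.card R)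
    (hvan : ∀ O : ValuationSubring ℂ, (p : ℂ) ∈ O.nonunits → ∀ E : Matrix G G O, E * E = E →
      RInv E → ∀ h : G, p ∣ orderOf h → ∑ x, E (x * h) x = 0) :
    ∃ N : Subgroup G, N.Normal ∧ Nat.card N = Nat.card Q * Nat.card R := by
  classical
  obtain ⟨Φ, ΦA, ΦB, hΦ, hΦA, hΦB, hQdec, hRdec, hΦvan, hΦsum⟩ :=
    exists_common_char p hp Q R hQ hR hvan
  have hq0 : (Nat.card Q : ℂ) ≠ 0 := by exact_mod_cast (Nat.card_pos (α := Q)).ne'
  have hr0 : (Nat.card R : ℂ) ≠ 0 := by exact_mod_cast (Nat.card_pos (α := R)).ne'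
  have hG0 : (Nat.card G : ℂ) ≠ 0 := by exact_mod_cast (Nat.card_pos (α := G)).ne'
  have hpa0 : pa ≠ 0 := by
    rintro rfl
    rw [zero_mul] at hG
    exact (Nat.card_pos (α := G)).ne' hG
  have hGc : (Nat.card G : ℂ) = (pa : ℂ) * ((Nat.card Q : ℂ) * (Nat.card R : ℂ)) := by
    exact_mod_cast hG
  -- (i)
  have hi : classInner (permOf Q) (permOf R) = (pa : ℂ) := by
    rw [classInner_permOf Q R hQR, hGc]
    field_simp
  -- (ii)
  obtain ⟨n0, hn0⟩ := IsCharacter.classInner_nat hΦ hΦ
  obtain ⟨n1, hn1⟩ := IsCharacter.classInner_nat hΦ hΦB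
  obtain ⟨n2, hn2⟩ := IsCharacter.classInner_nat hΦA hΦ
  obtain ⟨n3, hn3⟩ := IsCharacter.classInner_nat hΦA hΦB
  have hQf : permOf Q = Φ + ΦA := funext hQdec
  have hRf : permOf R = Φ + ΦB := funext hRdec
  have hii : n0 ≤ pa := by
    have : ((n0 + n1 + n2 + n3 : ℕ) : ℂ) = (pa : ℂ) := by
      rw [← hi, hQf, hRf, classInner_add_left, classInner_add_right, classInner_add_right,
        hn0, hn1, hn2, hn3]
      push_cast; ring
    have := Nat.cast_injective this
    omega
  -- theta
  set θ : G → ℂ := fun g => if p ∣ orderOf g then 0 else (pa : ℂ) with hθ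
  have hXc : (Fintype.card {g : G // ¬ p ∣ orderOf g} : ℂ) = (Nat.card Q : ℂ) * (Nat.card R : ℂ) := by
    rw [← Nat.card_eq_fintype_card, hX]; push_cast; ring
  have hθθ : classInner θ θ = (pa : ℂ) := by
    unfold classInner
    have h1 : ∀ g : G, θ g * conj (θ g) = if ¬ p ∣ orderOf g then (pa : ℂ) * pa else 0 := by
      intro g
      rw [hθ]
      by_cases h : p ∣ orderOf g <;> simp [h]
    rw [Finset.sum_congr rfl (fun g _ => h1 g), ← Finset.sum_filter, Finset.sum_const,
      ← Fintype.card_subtype, nsmul_eq_mul, hXc, hGc]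
    have : (pa : ℂ) ≠ 0 := by exact_mod_cast hpa0
    field_simp
  have hΦθ : classInner Φ θ = (pa : ℂ) := by
    unfold classInner
    have h1 : ∀ g : G, Φ g * conj (θ g) = (pa : ℂ) * Φ g := by
      intro g
      rw [hθ]
      by_cases h : p ∣ orderOf g
      · simp [h, hΦvan g h]
      · simp [h, mul_comm]
    rw [Finset.sum_congr rfl (fun g _ => h1 g), ← Finset.mul_sum, hΦsum]
    field_simp
  have hθΦ : classInner θ Φ = (pa : ℂ) := by
    rw [← classInner_conj_symm, hΦθ]
    simp
  have hdiff : classInner (Φ - θ) (Φ - θ) = (n0 : ℂ) - (pa : ℂ) := by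
    rw [classInner_sub_left, classInner_sub_right, classInner_sub_right, hn0, hΦθ, hθΦ, hθθ]
    ring
  have hΦeq : Φ = θ := by
    have h1 : (classInner (Φ - θ) (Φ - θ)).re ≤ 0 := by
      rw [hdiff]
      simp only [Complex.sub_re, Complex.natCast_re]
      have : (n0 : ℝ) ≤ (pa : ℝ) := by exact_mod_cast hii
      linarith
    have := eq_zero_of_classInner_self_re_nonpos _ h1
    exact sub_eq_zero.mp this
  -- kernel
  obtain ⟨n, ρ, hρ⟩ := hΦ
  have hn : (n : ℂ) = (pa : ℂ) := by
    have h1 : ρ.character 1 = (Module.finrank ℂ (Fin n → ℂ) : ℂ) := Representation.char_one ρ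
    rw [hρ, hΦeq] at h1
    simp only [hθ, orderOf_one, Nat.dvd_one] at h1
    rw [if_neg hp.one_lt.ne'] at h1
    rw [h1]; simp
  let N : Subgroup G :=
    { carrier := {g | ρ g = 1}
      one_mem' := by simp
      mul_mem' := by
        intro a b ha hb
        change ρ a = 1 at ha; change ρ b = 1 at hb; change ρ (a * b) = 1
        rw [map_mul, ha, hb, mul_one]
      inv_mem' := by
        intro a ha
        change ρ a = 1 at ha; change ρ a⁻¹ = 1
        have : ρ a⁻¹ * ρ a = 1 := by rw [← map_mul, inv_mul_cancel, map_one]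
        rw [ha, mul_one] at this
        exact this }
  have hNmem : ∀ g : G, g ∈ N ↔ ¬ p ∣ orderOf g := by
    intro g
    have h1 : g ∈ N ↔ ρ g = 1 := Iff.rfl
    have h2 := character_eq_finrank_iff ρ g
    rw [h1]
    have h3 : (ρ g = 1) ↔ ρ g = LinearMap.id := Iff.rfl
    rw [h3, ← h2, hρ, hΦeq]
    simp only [hθ, Module.finrank_fin_fun]
    by_cases h : p ∣ orderOf g
    · simp only [h, if_true, not_true_eq_false, iff_false]
      intro h0
      have : (n : ℂ) = 0 := h0.symm
      rw [hn] at this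
      exact hpa0 (by exact_mod_cast this)
    · simp only [h, if_false, not_false_eq_true, iff_true]
      exact hn.symm
  refine ⟨N, ?_, ?_⟩
  · constructor
    intro g hg x
    have hg' : ρ g = 1 := hg
    change ρ (x * g * x⁻¹) = 1
    rw [map_mul, map_mul, hg', mul_one, ← map_mul, mul_inv_cancel, map_one]
  · rw [← hX]
    apply Nat.card_congr
    exact Equiv.subtypeEquivRight hNmem

end Cfsg.Agent.Lib.Helper8.Bn
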