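import Mathlib
import Cfsg.Agent.Lib.Helper8.BnE

set_option autoImplicit false

/-! Brauer--Nesbitt three-prime theorem, part F: assembly modulo the vanishing lemma. -/

namespace Cfsg.Agent.Lib.Helper8.Bn

open Matrix

theorem three_prime_aux {G : Type*} [Group G] [Finite G] (p q r a b c : ℕ) (hp : p.Prime)
    (hq : q.Prime) (hr : r.Prime) (hpq : p ≠ q) (hpr : p ≠ r) (hqr : q ≠ r)
    (hG : Nat.card G = p ^ a * q ^ b * r ^ c)
    (hcount : Nat.card {g : G // ¬ p ∣ orderOf g} = q ^ b * r ^ c)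
    (hvan : ∀ [Fintype G] [DecidableEq G], ∀ O : ValuationSubring ℂ, (p : ℂ) ∈ O.nonunits →
      ∀ E : Matrix G G O, E * E = E → RInv E → ∀ h : G, p ∣ orderOf h → ∑ x, E (x * h) x = 0) :
    ∃ N : Subgroup G, N.Normal ∧ Nat.card N = q ^ b * r ^ c := by
  classical
  haveI : Fintype G := Fintype.ofFinite G
  haveI : Fact q.Prime := ⟨hq⟩
  haveI : Fact r.Prime := ⟨hr⟩
  obtain ⟨Q, hQc⟩ := Sylow.exists_subgroup_card_pow_prime (G := G) q (n := b)
    (by rw [hG]; exact ⟨p ^ a * r ^ c, by ring⟩)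
  obtain ⟨R, hRc⟩ := Sylow.exists_subgroup_card_pow_prime (G := G) r (n := c)
    (by rw [hG]; exact ⟨p ^ a * q ^ b, by ring⟩)
  have h1 : (Nat.card Q).Coprime p := by
    rw [hQc]; exact Nat.Coprime.pow_left _ ((Nat.coprime_primes hq hp).mpr hpq.symm)
  have h2 : (Nat.card R).Coprime p := by
    rw [hRc]; exact Nat.Coprime.pow_left _ ((Nat.coprime_primes hr hp).mpr hpr.symm)
  have h3 : (Nat.card Q).Coprime (Nat.card R) := by
    rw [hQc, hRc]; exact Nat.Coprime.pow _ _ ((Nat.coprime_primes hq hr).mpr hqr)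
  have h4 : Nat.card G = p ^ a * (Nat.card Q * Nat.card R) := by
    rw [hG, hQc, hRc]; ring
  have h5 : Nat.card {g : G // ¬ p ∣ orderOf g} = Nat.card Q * Nat.card R := by
    rw [hcount, hQc, hRc]
  obtain ⟨N, hN, hNc⟩ := main p hp Q R (p ^ a) h1 h2 h3 h4 h5 hvan
  exact ⟨N, hN, by rw [hNc, hQc, hRc]⟩

end Cfsg.Agent.Lib.Helper8.Bn
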