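import Mathlib
import Cfsg.Agent.Lib.Helper7.BReyH

/-!
# Brauer–Tuan (S0997), part 1: the block data and the degree of the exceptional characters.
-/

set_option autoImplicit false
set_option linter.unusedSectionVars false
set_option linter.unusedVariables false
set_option linter.style.longLine false

namespace Cfsg.Agent.Lib.Helper8.Brt

open Cfsg Cfsg.Agent.Lib.Helper6 Cfsg.Agent.Lib.Helper7.Bt
open scoped ComplexConjugate

variable {G : Type*} [Group G] [Fintype G]

/-- helper7's block data together with the values on `P# × C(P)_{p'}`. -/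
structure QData (p e : ℕ) (M : Ideal AlgInt) (P : Sylow p G) (X Y : Finset (IrrCharacter G))
    (εX : IrrCharacter G → ℤ) (ε : ℤ) : Prop extends PData p e M X Y εX ε where
  valXC : ∀ χ ∈ X, ∀ x : G, x ∈ (P : Subgroup G) → x ≠ 1 → ∀ y : G,
    y ∈ Subgroup.centralizer ((P : Subgroup G) : Set G) → ¬ p ∣ orderOf y →
    (χ : G → ℂ) (x * y) = (εX χ : ℂ)

theorem exists_qdata (s : ℕ) [hs : Fact s.Prime] (hodd : s ≠ 2) (M : Ideal AlgInt)
    (hM : IsPModular s M) (S : Sylow s G) (hS : Nat.card S = s) :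
    ∃ (X Y : Finset (IrrCharacter G)) (εX : IrrCharacter G → ℤ) (ε : ℤ),
      QData s ((Subgroup.centralizer ((S : Subgroup G) : Set G)).relIndex
        (Subgroup.normalizer ((S : Subgroup G) : Set G))) M S X Y εX ε := by
  classical
  obtain ⟨X, Y, hXY, hdisj, hcX, hcY, εX, ε, hX, hε, hY, hagree, hrel⟩ :=
    Cfsg.Agent.S4441.result s M hM hodd S hS _ rfl
  have hXf : X.Finite := Set.toFinite X
  have hYf : Y.Finite := Set.toFinite Y
  refine ⟨hXf.toFinset, hYf.toFinset, εX, ε, ?_⟩
  refine { toPData := ?_, valXC := ?_ }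
  · constructor
    · intro χ
      rw [hXY, Set.mem_union, Set.Finite.mem_toFinset, Set.Finite.mem_toFinset]
    · intro χ h1 h2
      rw [Set.Finite.mem_toFinset] at h1 h2
      exact (Set.disjoint_left.1 hdisj) h1 h2
    · rw [← Set.ncard_eq_toFinset_card X hXf, ← Nat.card_coe_set_eq]; exact hcX
    · rw [← Set.ncard_eq_toFinset_card Y hYf, ← Nat.card_coe_set_eq]; exact hcY
    · intro χ hχ
      rw [Set.Finite.mem_toFinset] at hχ
      exact (hX χ hχ).1
    · intro χ hχ
      rw [Set.Finite.mem_toFinset] at hχ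
      exact (hX χ hχ).2.1
    · intro χ hχ x hx
      rw [Set.Finite.mem_toFinset] at hχ
      obtain ⟨t, ht⟩ := PB.exists_conj_mem_P S (u := x) ⟨1, by rw [hx, pow_one]⟩
      have hz1 : t⁻¹ * x * t ≠ 1 := by
        intro h
        have hx1 : x = 1 := by
          have h2 : x = t * (t⁻¹ * x * t) * t⁻¹ := by group
          rw [h2, h]; group
        rw [hx1, orderOf_one] at hx
        exact hs.out.one_lt.ne hx
      have h3 := (hX χ hχ).2.2 (t⁻¹ * x * t) ht hz1 1 (one_mem _)
        (by rw [orderOf_one]; exact hs.out.not_dvd_one)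
      rw [mul_one] at h3
      have hcf := IsIrrCharacter.isClassFunction χ.2 x t⁻¹
      rw [inv_inv] at hcf
      rw [← hcf]; exact h3
    · exact hε
    · intro θ hθ
      rw [Set.Finite.mem_toFinset] at hθ
      exact hY θ hθ
    · intro θ hθ θ' hθ' g hg
      rw [Set.Finite.mem_toFinset] at hθ hθ'
      exact hagree θ hθ θ' hθ' g hg
    · intro θ hθ g hg
      rw [Set.Finite.mem_toFinset] at hθ
      rw [hrel θ hθ g hg]
      exact finsum_mem_eq_finite_toFinset_sum _ hXf
  · intro χ hχ x hx hx1 y hy hyp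
    rw [Set.Finite.mem_toFinset] at hχ
    exact (hX χ hχ).2.2 x hx hx1 y hy hyp

end Cfsg.Agent.Lib.Helper8.Brt
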