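import Mathlib
import Cfsg.Agent.Lib.Helper8.Brt1

/-!
# Brauer–Tuan (S0997), part 2: the first phase (degree of the exceptional characters).
-/

set_option autoImplicit false
set_option linter.unusedSectionVars false
set_option linter.unusedVariables false
set_option linter.style.longLine false

namespace Cfsg.Agent.Lib.Helper8.Brt

open Cfsg Cfsg.Agent.Lib.Helper6 Cfsg.Agent.Lib.Helper7.Bt
open scoped ComplexConjugate

variable {G : Type*} [Group G] [Fintype G]

/-- a degree which is `≡ ±1 (mod p)` and smaller than `p - 1` is `1` -/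
theorem deg_eq_one_of_small {p d : ℕ} {s : ℤ} (hp : 2 ≤ p) (hs : s = 1 ∨ s = -1)
    (hd : (d : ℤ) ≡ s [ZMOD p]) (hd0 : 0 < d) (hlt : d < p - 1) : d = 1 := by
  rcases hs with rfl | rfl
  · have h1 : (p : ℤ) ∣ (d : ℤ) - 1 := (Int.modEq_iff_dvd.mp hd.symm)
    obtain ⟨k, hk⟩ := h1
    have hk0 : 0 ≤ k := by
      by_contra hneg
      push Not at hneg
      have : (p : ℤ) * k ≤ (p : ℤ) * (-1) := by
        apply mul_le_mul_of_nonneg_left (by omega) (by positivity)
      have hd' : (1 : ℤ) ≤ d := by exact_mod_cast hd0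
      have hp' : (2 : ℤ) ≤ p := by exact_mod_cast hp
      nlinarith
    rcases eq_or_lt_of_le hk0 with h0 | h0
    · rw [← h0, mul_zero] at hk
      have : (d : ℤ) = 1 := by linarith
      exact_mod_cast this
    · exfalso
      have : (p : ℤ) * 1 ≤ (p : ℤ) * k := by
        apply mul_le_mul_of_nonneg_left (by omega) (by positivity)
      have hlt' : (d : ℤ) < (p : ℤ) - 1 := by
        have : d + 1 < p := by omega
        have h2 : ((d + 1 : ℕ) : ℤ) < (p : ℤ) := by exact_mod_cast this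
        push_cast at h2
        linarith
      linarith
  · exfalso
    have h1 : (p : ℤ) ∣ (d : ℤ) + 1 := by
      have := (Int.modEq_iff_dvd.mp hd.symm)
      simpa using this
    have h2 : p ∣ d + 1 := by exact_mod_cast h1
    have := Nat.le_of_dvd (by omega) h2
    omega

/-- **Phase 1.**  The block data of a simple group of order `p q^b g₀`, `g₀ < p - 1`. -/
theorem phase1 [IsSimpleGroup G] (hG : ¬ IsCyclic G) (p q b g₀ : ℕ) [hp : Fact p.Prime]
    (hq : q.Prime) (hpq : p ≠ q) (hG' : Nat.card G = p * q ^ b * g₀) (hg : g₀ < p - 1) :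
    ∃ (P : Sylow p G) (e c : ℕ) (M : Ideal AlgInt) (X Y : Finset (IrrCharacter G))
      (εX : IrrCharacter G → ℤ) (ε : ℤ) (θ₀ : IrrCharacter G),
      p ≠ 2 ∧ commutator G = ⊤ ∧ Nat.card P = p ∧
      Nat.card (Subgroup.centralizer ((P : Subgroup G) : Set G)) = p * c ∧
      Nat.card (Subgroup.normalizer ((P : Subgroup G) : Set G)) = p * c * e ∧
      e ∣ p - 1 ∧ 2 ≤ e ∧ Nat.card (Sylow p G) * (p * c * e) = Nat.card G ∧
      IsPModular p M ∧ QData p e M P X Y εX ε ∧ oneIrr G ∈ X ∧ εX (oneIrr G) = 1 ∧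
      (∀ χ ∈ X, χ ≠ oneIrr G → q ∣ deg χ) ∧ θ₀ ∈ Y ∧ deg θ₀ ∣ g₀ ∧
      ((ε = 1 ∧ deg θ₀ = e) ∨ (ε = -1 ∧ deg θ₀ + e = p)) := by
  classical
  have hpp := hp.out
  have hp2le := hpp.two_le
  have hcardpos : 0 < Nat.card G := Nat.card_pos
  have hg0 : 0 < g₀ := by
    rcases Nat.eq_zero_or_pos g₀ with h | h
    · rw [h, mul_zero] at hG'; omega
    · exact h
  have hncomm : ¬ IsMulCommutative G := by
    intro hc
    have h1 := Cfsg.Agent.Lib.Lead.SmallSimple2.prime_card_of_comm hc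
    haveI : Fact (Nat.card G).Prime := ⟨h1⟩
    exact hG (isCyclic_of_prime_card rfl)
  have hna : ∃ a b : G, a * b ≠ b * a := by
    by_contra hno
    push Not at hno
    exact hncomm ⟨⟨fun a b => hno a b⟩⟩
  have hperf : commutator G = ⊤ := perfect_of_simple hna
  have hGne : Nat.card G ≠ p := by
    intro h1
    haveI : Fact (Nat.card G).Prime := ⟨by rw [h1]; exact hpp⟩
    exact hG (isCyclic_of_prime_card rfl)
  have hpq' : ¬ p ∣ q ^ b := by
    intro h
    have := hpp.dvd_of_dvd_pow h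
    exact hpq ((Nat.prime_dvd_prime_iff_eq hpp hq).mp this)
  have hpg : ¬ p ∣ g₀ := by
    intro h
    have := Nat.le_of_dvd hg0 h
    omega
  have hpr : ¬ p ∣ q ^ b * g₀ := by
    intro h
    rcases (Nat.Prime.dvd_mul hpp).mp h with h1 | h1
    · exact hpq' h1
    · exact hpg h1
  have hcardG : Nat.card G = p * (q ^ b * g₀) := by rw [hG', mul_assoc]
  have hc : ∀ P : Sylow p G, Nat.card P = p := fun P =>
    Cfsg.Agent.Lib.Lead.SylowCount.card_sylow_of_card_eq p _ hcardG hpr P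
  obtain ⟨c, e, hCc, hNc, hedvd, he1, hcard, hmod, hne1⟩ :=
    Cfsg.Agent.Lib.Helper7.SylPar.exists_data p hc hGne
  obtain P : Sylow p G := default
  have hP := hc P
  have hp2 : p ≠ 2 := by
    intro h
    rw [h] at hedvd
    simp at hedvd
    exact he1 hedvd
  have hp1 : 0 < p - 1 := by omega
  have he0 : e ≠ 0 := by
    intro h0; rw [h0] at hedvd; have := Nat.eq_zero_of_zero_dvd hedvd; omega
  have he2 : 2 ≤ e := by omega
  have hepos : 0 < e := by omega
  have hele : e ≤ p - 1 := Nat.le_of_dvd hp1 hedvd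
  have hcpos : 0 < c := by
    rcases Nat.eq_zero_or_pos c with h | h
    · have := hCc P
      rw [h, mul_zero] at this
      have h2 : 0 < Nat.card (Subgroup.centralizer ((P : Subgroup G) : Set G)) := Nat.card_pos
      omega
    · exact h
  have hCN : Subgroup.centralizer ((P : Subgroup G) : Set G) ≤
      Subgroup.normalizer ((P : Subgroup G) : Set G) := Subgroup.centralizer_le_normalizer _
  have hrel : (Subgroup.centralizer ((P : Subgroup G) : Set G)).relIndex
      (Subgroup.normalizer ((P : Subgroup G) : Set G)) = e := by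
    have h1 := Subgroup.relIndex_mul_index hCN
    have h2 := Subgroup.card_mul_index (Subgroup.centralizer ((P : Subgroup G) : Set G))
    have h3 := Subgroup.card_mul_index (Subgroup.normalizer ((P : Subgroup G) : Set G))
    have hidx : (Subgroup.normalizer ((P : Subgroup G) : Set G)).index ≠ 0 :=
      Subgroup.index_ne_zero_of_finite
    rw [← h1, hCc P] at h2
    rw [hNc P, ← h2] at h3
    have h4 : p * c * e * (Subgroup.normalizer ((P : Subgroup G) : Set G)).index =
        p * c * ((Subgroup.centralizer ((P : Subgroup G) : Set G)).relIndex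
          (Subgroup.normalizer ((P : Subgroup G) : Set G))) *
          (Subgroup.normalizer ((P : Subgroup G) : Set G)).index := by
      rw [h3]; ring
    have h5 := Nat.eq_of_mul_eq_mul_right (Nat.pos_of_ne_zero hidx) h4
    exact (Nat.eq_of_mul_eq_mul_left (by positivity) h5).symm
  obtain ⟨M, hM⟩ := exists_isPModular p
  obtain ⟨X, Y, εX, ε, D0⟩ := exists_qdata p hp2 M hM P hP
  have D : QData p e M P X Y εX ε := hrel ▸ D0
  have DP : PData p e M X Y εX ε := D.toPData
  -- degrees prime to p and q divide g₀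
  have hdvdg : ∀ χ : IrrCharacter G, ¬ p ∣ deg χ → ¬ q ∣ deg χ → deg χ ∣ g₀ := by
    intro χ h1 h2
    have h3 : deg χ ∣ p * (q ^ b * g₀) := by rw [← hcardG]; exact deg_dvd χ
    have hcp : Nat.Coprime (deg χ) p := ((Nat.Prime.coprime_iff_not_dvd hpp).2 h1).symm
    have h4 : deg χ ∣ q ^ b * g₀ := Nat.Coprime.dvd_of_dvd_mul_left hcp h3
    have hcq : Nat.Coprime (deg χ) (q ^ b) :=
      (((Nat.Prime.coprime_iff_not_dvd hq).2 h2).symm).pow_right b
    exact Nat.Coprime.dvd_of_dvd_mul_left hcq h4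
  -- a member of X of degree prime to q is trivial
  have hsmallX : ∀ χ ∈ X, ¬ q ∣ deg χ → χ = oneIrr G := by
    intro χ hχ hqd
    have h1 := hdvdg χ (DP.not_dvd_X hpp χ hχ) hqd
    have h2 : deg χ < p - 1 := lt_of_le_of_lt (Nat.le_of_dvd hg0 h1) hg
    have h3 := deg_eq_one_of_small hp2le (DP.signX χ hχ) (DP.degX χ hχ) (deg_pos χ) h2
    exact eq_oneIrr_of_deg_one hperf χ h3
  have hone : oneIrr G ∈ principalBlock M G := oneIrr_mem_principalBlock hM
  obtain ⟨θ₀, hθ₀⟩ := DP.nonempty_Y hpp hedvd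
  have hsign1 : ∀ s : ℤ, s = 1 ∨ s = -1 → ¬ (q : ℤ) ∣ s := by
    intro s hs hd
    have h1 : (q : ℤ) ∣ 1 := by
      rcases hs with rfl | rfl
      · exact hd
      · exact (dvd_neg).mp hd
    have h2 : q ∣ 1 := by exact_mod_cast h1
    exact hq.one_lt.ne' (Nat.dvd_one.mp h2)
  have h1X : oneIrr G ∈ X := by
    by_contra h1
    have h2 : oneIrr G ∈ Y := by
      rcases (DP.mem_iff _).1 hone with h | h
      · exact absurd h h1
      · exact h
    have hrel1 := DP.rel_one hpp (oneIrr G) h2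
    rw [deg_oneIrr] at hrel1
    have hall : ∀ χ ∈ X, (q : ℤ) ∣ εX χ * (deg χ : ℤ) := by
      intro χ hχ
      have : q ∣ deg χ := by
        by_contra hqd
        exact h1 (hsmallX χ hχ hqd ▸ hχ)
      exact Dvd.dvd.mul_left (by exact_mod_cast this) _
    have hsum : (q : ℤ) ∣ ∑ χ ∈ X, εX χ * (deg χ : ℤ) := Finset.dvd_sum hall
    rw [← hrel1] at hsum
    have : (q : ℤ) ∣ ε := by simpa using hsum
    exact hsign1 ε DP.sign this
  have hε1 : εX (oneIrr G) = 1 := DP.sign_oneIrr hpp hp2 h1X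
  have hXq : ∀ χ ∈ X, χ ≠ oneIrr G → q ∣ deg χ := by
    intro χ hχ hne
    by_contra hqd
    exact hne (hsmallX χ hχ hqd)
  have hθne : θ₀ ≠ oneIrr G := fun h => DP.disj _ h1X (h ▸ hθ₀)
  have hθq : ¬ q ∣ deg θ₀ := by
    intro hqd
    have hrel1 := DP.rel_one hpp θ₀ hθ₀
    rw [← Finset.add_sum_erase X _ h1X, hε1, deg_oneIrr] at hrel1
    have hall : ∀ χ ∈ X.erase (oneIrr G), (q : ℤ) ∣ εX χ * (deg χ : ℤ) := by
      intro χ hχ
      have h1 := hXq χ (Finset.mem_of_mem_erase hχ) (Finset.ne_of_mem_erase hχ)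
      exact Dvd.dvd.mul_left (by exact_mod_cast h1) _
    have hsum : (q : ℤ) ∣ ∑ χ ∈ X.erase (oneIrr G), εX χ * (deg χ : ℤ) := Finset.dvd_sum hall
    have h2 : (q : ℤ) ∣ ε * (deg θ₀ : ℤ) := Dvd.dvd.mul_left (by exact_mod_cast hqd) _
    have h3 : (q : ℤ) ∣ 1 := by
      have h4 : (1 : ℤ) = ε * (deg θ₀ : ℤ) - ∑ χ ∈ X.erase (oneIrr G), εX χ * (deg χ : ℤ) := by
        rw [hrel1]; simp
      rw [h4]
      exact dvd_sub h2 hsum
    exact hsign1 1 (Or.inl rfl) h3
  have hθg : deg θ₀ ∣ g₀ := hdvdg θ₀ (DP.not_dvd_Y hpp hedvd hepos θ₀ hθ₀) hθq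
  have hθlt : deg θ₀ < p - 1 := lt_of_le_of_lt (Nat.le_of_dvd hg0 hθg) hg
  have hθpos : 0 < deg θ₀ := deg_pos θ₀
  have hdY := DP.degY θ₀ hθ₀
  refine ⟨P, e, c, M, X, Y, εX, ε, θ₀, hp2, hperf, hP, hCc P, hNc P, hedvd, he2, hcard, hM, D,
    h1X, hε1, hXq, hθ₀, hθg, ?_⟩
  rcases DP.sign with hε | hε
  · left
    refine ⟨hε, ?_⟩
    rw [hε, one_mul] at hdY
    have h1 : deg θ₀ ≡ e [MOD p] := Int.natCast_modEq_iff.mp hdY
    unfold Nat.ModEq at h1
    rw [Nat.mod_eq_of_lt (by omega), Nat.mod_eq_of_lt (by omega)] at h1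
    exact h1
  · right
    refine ⟨hε, ?_⟩
    rw [hε] at hdY
    have h1 : (p : ℤ) ∣ (deg θ₀ : ℤ) + (e : ℤ) := by
      have := Int.ModEq.dvd hdY
      have h2 : (-1 : ℤ) * (e : ℤ) - (deg θ₀ : ℤ) = -((deg θ₀ : ℤ) + (e : ℤ)) := by ring
      rw [h2] at this
      exact (dvd_neg).mp this
    have h3 : p ∣ deg θ₀ + e := by exact_mod_cast h1
    obtain ⟨v, hv⟩ := h3
    rcases Nat.eq_zero_or_pos v with h | h
    · rw [h, mul_zero] at hv; omega
    · rcases Nat.lt_or_ge v 2 with h2 | h2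
      · have : v = 1 := by omega
        rw [this, mul_one] at hv
        exact hv
      · have : p * 2 ≤ p * v := Nat.mul_le_mul_left p h2
        omega

end Cfsg.Agent.Lib.Helper8.Brt
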