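import Mathlib
import Cfsg.Agent.Lib.Helper8.Brt2

/-!
# Brauer–Tuan (S0997), part 3: in the `ε = -1` branch the Sylow `p`-subgroup is
self-centralizing.
-/

set_option autoImplicit false
set_option linter.unusedSectionVars false
set_option linter.unusedVariables false
set_option linter.style.longLine false

namespace Cfsg.Agent.Lib.Helper8.Brt

open Cfsg Cfsg.Agent.Lib.Helper6 Cfsg.Agent.Lib.Helper7.Bt
open scoped ComplexConjugate

/-- the sum of a character over a finite group is a natural multiple of the group order -/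
theorem avg_nat {H : Type*} [Group H] [Fintype H] {ψ : H → ℂ} (hψ : IsCharacter H ψ) :
    ∃ n : ℕ, (∑ h : H, ψ h) = (Nat.card H : ℂ) * n := by
  obtain ⟨n, hn⟩ := IsCharacter.classInner_irr_nat hψ (isIrrCharacter_one (G := H))
  refine ⟨n, ?_⟩
  unfold classInner at hn
  simp only [map_one, mul_one] at hn
  have hne : (Nat.card H : ℂ) ≠ 0 := by
    have : 0 < Nat.card H := Nat.card_pos
    exact_mod_cast this.ne'
  rw [← hn, ← mul_assoc, mul_inv_cancel₀ hne, one_mul]

theorem norm_le_deg {H : Type*} [Group H] [Finite H] {ψ : H → ℂ} (hψ : IsCharacter H ψ)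
    (g : H) : ∃ d : ℕ, ψ 1 = d ∧ ‖ψ g‖ ≤ d := by
  obtain ⟨n, ρ, rfl⟩ := hψ
  refine ⟨Module.finrank ℂ (Fin n → ℂ), ?_, ?_⟩
  · rw [Representation.char_one]
  · exact norm_character_le ρ g

theorem eq_of_sum_eq {ι : Type*} (s : Finset ι) (f : ι → ℂ) (d : ℝ) (hb : ∀ i ∈ s, ‖f i‖ ≤ d)
    (hsum : ∑ i ∈ s, f i = (s.card : ℂ) * d) : ∀ i ∈ s, f i = d := by
  have hre : ∑ i ∈ s, (d - (f i).re) = 0 := by
    have h1 := congrArg Complex.re hsum
    rw [Complex.re_sum] at h1
    have h2 : ((s.card : ℂ) * (d : ℂ)).re = s.card * d := by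
      rw [show ((s.card : ℂ) * (d : ℂ)) = (((s.card : ℝ) * d : ℝ) : ℂ) by push_cast; ring]
      exact Complex.ofReal_re _
    rw [h2] at h1
    rw [Finset.sum_sub_distrib, h1, Finset.sum_const, nsmul_eq_mul, sub_self]
  have hnn : ∀ i ∈ s, 0 ≤ d - (f i).re := by
    intro i hi
    have := Complex.re_le_norm (f i)
    have := hb i hi
    linarith
  intro i hi
  have h0 := (Finset.sum_eq_zero_iff_of_nonneg hnn).mp hre i hi
  have hre' : (f i).re = d := by linarith
  have hnorm := hb i hi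
  have hsq : (f i).re ^ 2 + (f i).im ^ 2 ≤ d ^ 2 := by
    have h3 := Complex.sq_norm (f i)
    rw [Complex.normSq_apply] at h3
    have hd0 : 0 ≤ d := le_trans (norm_nonneg _) hnorm
    have h4 : ‖f i‖ ^ 2 ≤ d ^ 2 := pow_le_pow_left₀ (norm_nonneg _) hnorm 2
    nlinarith
  have him : (f i).im = 0 := by
    rw [hre'] at hsq
    have : (f i).im ^ 2 ≤ 0 := by linarith
    exact pow_eq_zero_iff (two_ne_zero) |>.mp (le_antisymm this (sq_nonneg _))
  apply Complex.ext
  · rw [hre', Complex.ofReal_re]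
  · rw [him, Complex.ofReal_im]

variable {G : Type*} [Group G] [Fintype G]

/-- In the `ε = -1` branch with exceptional degree `p - e`, every `p`-regular element
centralizing the Sylow `p`-subgroup is trivial. -/
theorem regular_centralizer_trivial [IsSimpleGroup G] {p e : ℕ} [hp : Fact p.Prime]
    {M : Ideal AlgInt} {P : Sylow p G} {X Y : Finset (IrrCharacter G)}
    {εX : IrrCharacter G → ℤ} {ε : ℤ} (D : QData p e M P X Y εX ε) (hP : Nat.card P = p)
    (hε : ε = -1) {θ₀ : IrrCharacter G} (hθ₀ : θ₀ ∈ Y) (hdeg : deg θ₀ + e = p) (he : 0 < e)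
    (hθne : θ₀ ≠ oneIrr G) (v : G)
    (hv : v ∈ Subgroup.centralizer ((P : Subgroup G) : Set G)) (hvp : ¬ p ∣ orderOf v) :
    v = 1 := by
  classical
  have hpp := hp.out
  set W : Subgroup G := Subgroup.zpowers v with hW
  set Pg : Subgroup G := (P : Subgroup G) with hPg
  haveI : Fintype Pg := Fintype.ofFinite _
  haveI : Fintype W := Fintype.ofFinite _
  have hWle : W ≤ Subgroup.centralizer ((P : Subgroup G) : Set G) := by
    rw [hW, Subgroup.zpowers_le]; exact hv
  have hcomm : ∀ (x : Pg) (w : W),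
      Commute (Pg.subtype x) (W.subtype w) := by
    intro x w
    have h1 := Subgroup.mem_centralizer_iff.mp (hWle w.2) x x.2
    exact h1
  let φ : Pg × W →* G :=
    MonoidHom.noncommCoprod Pg.subtype W.subtype hcomm
  have hφ : ∀ x : Pg, ∀ w : W, φ (x, w) = (x : G) * (w : G) := by
    intro x w
    rfl
  have hWreg : ∀ w : W, ¬ p ∣ orderOf (w : G) := by
    intro w hd
    exact hvp (dvd_trans hd (orderOf_dvd_of_mem_zpowers w.2))
  set m : ℕ := Nat.card W with hm
  have hmpos : 0 < m := Nat.card_pos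
  have hmne : (m : ℂ) ≠ 0 := by exact_mod_cast hmpos.ne'
  have hpne : (p : ℂ) ≠ 0 := by exact_mod_cast hpp.ne_zero
  have hcardPW : Nat.card (Pg × W) = p * m := by
    rw [Nat.card_prod, hm]
    congr 1
  -- the multiplicities
  have hMex : ∀ χ : IrrCharacter G, ∃ n : ℕ,
      (∑ xw : Pg × W, (χ : G → ℂ) (φ xw)) = ((p * m : ℕ) : ℂ) * n := by
    intro χ
    have := avg_nat (IsCharacter.comp φ (IsIrrCharacter.isCharacter χ.2))
    rw [hcardPW] at this
    exact this
  have haex : ∀ χ : IrrCharacter G, ∃ n : ℕ,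
      (∑ w : W, (χ : G → ℂ) (w : G)) = (m : ℂ) * n := by
    intro χ
    exact avg_nat (IsCharacter.restrict W (IsIrrCharacter.isCharacter χ.2))
  choose Mf hMf using hMex
  choose af haf using haex
  -- the relation for members of X
  have hPcard : (Finset.univ : Finset Pg).card = p := by
    rw [Finset.card_univ, ← Nat.card_eq_fintype_card]; exact hP
  have hXrel : ∀ χ ∈ X, (p : ℤ) * (Mf χ : ℤ) = (af χ : ℤ) + ((p : ℤ) - 1) * εX χ := by
    intro χ hχ
    have h1 : (∑ xw : Pg × W, (χ : G → ℂ) (φ xw))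
        = (m : ℂ) * (af χ : ℂ) + ((p : ℂ) - 1) * ((m : ℂ) * (εX χ : ℂ)) := by
      rw [Fintype.sum_prod_type]
      rw [← Finset.add_sum_erase Finset.univ _ (Finset.mem_univ (1 : Pg))]
      congr 1
      · rw [← haf χ]
        apply Finset.sum_congr rfl
        intro w _
        rw [hφ]; simp
      · have h2 : ∀ x ∈ Finset.univ.erase (1 : Pg),
            ∑ w : W, (χ : G → ℂ) (φ (x, w)) = (m : ℂ) * (εX χ : ℂ) := by
          intro x hx
          have hx1 : (x : G) ≠ 1 := by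
            intro h
            exact (Finset.ne_of_mem_erase hx) (Subtype.ext h)
          have h3 : ∀ w ∈ (Finset.univ : Finset W), (χ : G → ℂ) (φ (x, w)) = (εX χ : ℂ) := by
            intro w _
            rw [hφ]
            exact D.valXC χ hχ (x : G) x.2 hx1 (w : G) (hWle w.2) (hWreg w)
          rw [Finset.sum_congr rfl h3, Finset.sum_const, Finset.card_univ,
            ← Nat.card_eq_fintype_card, nsmul_eq_mul]
        rw [Finset.sum_congr rfl h2, Finset.sum_const, Finset.card_erase_of_mem (Finset.mem_univ _),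
          hPcard, nsmul_eq_mul]
        congr 1
        have : 1 ≤ p := hpp.one_lt.le
        push_cast [Nat.cast_sub this]
        ring
    rw [hMf χ] at h1
    have h2 : (m : ℂ) * ((p : ℂ) * (Mf χ : ℂ)) = (m : ℂ) * ((af χ : ℂ) + ((p : ℂ) - 1) * (εX χ : ℂ)) := by
      have h1' : ((p * m : ℕ) : ℂ) * (Mf χ : ℂ) = (m : ℂ) * (af χ : ℂ) + ((p : ℂ) - 1) * ((m : ℂ) * (εX χ : ℂ)) := h1
      push_cast at h1'
      linear_combination h1'
    have h3 := mul_left_cancel₀ hmne h2
    exact_mod_cast h3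
  -- the relation for θ₀
  have hθrel : (af θ₀ : ℤ) = - ∑ χ ∈ X, εX χ * (af χ : ℤ) := by
    have h1 : (∑ w : W, (θ₀ : G → ℂ) (w : G))
        = - ∑ χ ∈ X, (εX χ : ℂ) * ((m : ℂ) * (af χ : ℂ)) := by
      have h2 : ∀ w ∈ (Finset.univ : Finset W), (θ₀ : G → ℂ) (w : G)
          = - ∑ χ ∈ X, (εX χ : ℂ) * (χ : G → ℂ) (w : G) := by
        intro w _
        have := D.rel θ₀ hθ₀ (w : G) (hWreg w)
        rw [hε] at this
        rw [← this]; push_cast; ring
      rw [Finset.sum_congr rfl h2, Finset.sum_neg_distrib, Finset.sum_comm]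
      congr 1
      apply Finset.sum_congr rfl
      intro χ _
      rw [← Finset.mul_sum, haf χ]
    rw [haf θ₀] at h1
    have h2 : (m : ℂ) * (af θ₀ : ℂ) = (m : ℂ) * (- ∑ χ ∈ X, (εX χ : ℂ) * (af χ : ℂ)) := by
      rw [h1, mul_neg, Finset.mul_sum]
      congr 1
      apply Finset.sum_congr rfl
      intro χ _
      ring
    have h3 := mul_left_cancel₀ hmne h2
    exact_mod_cast h3
  -- arithmetic: af θ₀ + e ≡ 0 (mod p)
  have hsq : ∀ χ ∈ X, εX χ * εX χ = 1 := by
    intro χ hχ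
    rcases D.signX χ hχ with h | h <;> rw [h] <;> norm_num
  have hdiv : (p : ℤ) ∣ (af θ₀ : ℤ) + (e : ℤ) := by
    have h1 : (af θ₀ : ℤ) + (e : ℤ)
        = (p : ℤ) * ((e : ℤ) - ∑ χ ∈ X, εX χ * (Mf χ : ℤ)) := by
      rw [hθrel]
      have h2 : ∀ χ ∈ X, εX χ * (af χ : ℤ) = (p : ℤ) * (εX χ * (Mf χ : ℤ)) - ((p : ℤ) - 1) := by
        intro χ hχ
        have h3 := hXrel χ hχ
        have h4 : (af χ : ℤ) = (p : ℤ) * (Mf χ : ℤ) - ((p : ℤ) - 1) * εX χ := by linarith
        rw [h4]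
        have h5 := hsq χ hχ
        linear_combination (-((p : ℤ) - 1)) * h5
      rw [Finset.sum_congr rfl h2, Finset.sum_sub_distrib, Finset.sum_const, D.cardX,
        ← Finset.mul_sum]
      simp only [nsmul_eq_mul]
      ring
    rw [h1]
    exact dvd_mul_right _ _
  -- bound: af θ₀ ≤ deg θ₀
  obtain ⟨d, hd1, -⟩ := norm_le_deg (IsIrrCharacter.isCharacter θ₀.2) (1 : G)
  have hdd : d = deg θ₀ := by
    have := apply_one θ₀
    rw [hd1] at this
    exact_mod_cast this
  have hbound : ∀ w : W, ‖(θ₀ : G → ℂ) (w : G)‖ ≤ (deg θ₀ : ℝ) := by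
    intro w
    obtain ⟨d', hd1', hd2'⟩ := norm_le_deg (IsIrrCharacter.isCharacter θ₀.2) (w : G)
    have : d' = deg θ₀ := by
      have := apply_one θ₀
      rw [hd1'] at this
      exact_mod_cast this
    rw [this] at hd2'
    exact hd2'
  have hale : af θ₀ ≤ deg θ₀ := by
    have h1 : ‖∑ w : W, (θ₀ : G → ℂ) (w : G)‖ ≤ ∑ w : W, ‖(θ₀ : G → ℂ) (w : G)‖ :=
      norm_sum_le _ _
    have h2 : ∑ w : W, ‖(θ₀ : G → ℂ) (w : G)‖ ≤ ∑ w : W, (deg θ₀ : ℝ) :=
      Finset.sum_le_sum (fun w _ => hbound w)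
    rw [Finset.sum_const, Finset.card_univ, ← Nat.card_eq_fintype_card, nsmul_eq_mul] at h2
    rw [haf θ₀] at h1
    have h3 : ‖(m : ℂ) * (af θ₀ : ℂ)‖ = (m : ℝ) * (af θ₀ : ℝ) := by
      rw [norm_mul]
      simp
    rw [h3] at h1
    have h4 : (m : ℝ) * (af θ₀ : ℝ) ≤ (m : ℝ) * (deg θ₀ : ℝ) := le_trans h1 h2
    have hm0 : (0 : ℝ) < m := by exact_mod_cast hmpos
    have h5 := le_of_mul_le_mul_left h4 hm0
    exact_mod_cast h5
  have haeq : af θ₀ = deg θ₀ := by
    have h1 : p ∣ af θ₀ + e := by exact_mod_cast hdiv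
    obtain ⟨k, hk⟩ := h1
    rcases Nat.eq_zero_or_pos k with h | h
    · rw [h, mul_zero] at hk; omega
    · rcases Nat.lt_or_ge k 2 with h2 | h2
      · have : k = 1 := by omega
        rw [this, mul_one] at hk
        omega
      · have : p * 2 ≤ p * k := Nat.mul_le_mul_left p h2
        omega
  -- conclusion
  have hsum : ∑ w ∈ (Finset.univ : Finset W), (θ₀ : G → ℂ) (w : G)
      = ((Finset.univ : Finset W).card : ℂ) * ((deg θ₀ : ℝ) : ℂ) := by
    rw [haf θ₀, haeq, Finset.card_univ, ← Nat.card_eq_fintype_card]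
    push_cast
    rfl
  have hall := eq_of_sum_eq (Finset.univ : Finset W) (fun w => (θ₀ : G → ℂ) (w : G))
    (deg θ₀ : ℝ) (fun w _ => hbound w) hsum
  have hv1 := hall ⟨v, Subgroup.mem_zpowers v⟩ (Finset.mem_univ _)
  have hv2 : (θ₀ : G → ℂ) v = (θ₀ : G → ℂ) 1 := by
    rw [apply_one θ₀]
    have : (θ₀ : G → ℂ) v = ((deg θ₀ : ℝ) : ℂ) := hv1
    rw [this]
    push_cast
    rfl
  exact Cfsg.Agent.Lib.Helper7.BReyH.faithful_of_simple θ₀ hθne v hv2

end Cfsg.Agent.Lib.Helper8.Brt
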