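import Mathlib
import Cfsg.Agent.Lib.Helper6.BlkIdem
import Cfsg.Agent.Lib.Helper6.DegreeDvd
import Cfsg.Agent.Lib.Helper8.Brt3

/-!
# Brauer–Tuan (S0997), part 10: Burnside's vanishing lemma for `2`-central involutions.
An irreducible character of `2`-power degree `> 1` of a nonabelian simple group vanishes at every
involution whose conjugacy class has odd size.
-/

set_option autoImplicit false
set_option linter.unusedSectionVars false
set_option linter.unusedVariables false
set_option linter.style.longLine false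

namespace Cfsg.Agent.Lib.Helper8.Brt

open Cfsg Cfsg.Agent.Lib.Helper6 Cfsg.Agent.Lib.Helper7.Bt
open scoped ComplexConjugate

/-- the value of a character at an involution: `χ 1 + χ σ` is twice a natural number -/
theorem invol_value {G : Type*} [Group G] [Fintype G] (χ : G → ℂ) (hχ : IsCharacter G χ)
    (σ : G) (hσ : orderOf σ = 2) : ∃ a : ℕ, χ 1 + χ σ = 2 * a := by
  classical
  set W : Subgroup G := Subgroup.zpowers σ with hW
  haveI : Fintype W := Fintype.ofFinite _
  obtain ⟨a, ha⟩ := avg_nat (IsCharacter.restrict W hχ)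
  refine ⟨a, ?_⟩
  have hcard : Nat.card W = 2 := by rw [hW, Nat.card_zpowers, hσ]
  rw [hcard] at ha
  have hfin : IsOfFinOrder σ := isOfFinOrder_of_finite σ
  have hsum : ∑ w : W, χ (w : G) = χ 1 + χ σ := by
    rw [← Equiv.sum_comp (finEquivZPowers hfin)]
    have h1 : ∀ k : Fin (orderOf σ), χ (((finEquivZPowers hfin) k : W) : G) = χ (σ ^ (k : ℕ)) := by
      intro k
      rw [finEquivZPowers_apply]
    rw [Finset.sum_congr rfl (fun k _ => h1 k),
      Fin.sum_univ_eq_sum_range (fun k => χ (σ ^ k)) (orderOf σ), hσ,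
      Finset.sum_range_succ, Finset.sum_range_succ, Finset.sum_range_zero]
    simp
  rw [← hsum, ha]
  push_cast
  ring

variable {G : Type*} [Group G] [Fintype G]

/-- **Burnside's vanishing lemma** at `2`-central involutions. -/
theorem vanish_of_two_central [IsSimpleGroup G] (hperf : commutator G = ⊤)
    (χ : Cfsg.IrrCharacter G) (k : ℕ) (hk : 1 ≤ k)
    (hdeg : Cfsg.charDegree (χ : G → ℂ) = 2 ^ k) (σ : G) (hσ : orderOf σ = 2)
    (hodd : ¬ 2 ∣ (Subgroup.centralizer ({σ} : Set G)).index) : (χ : G → ℂ) σ = 0 := by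
  classical
  have hχc := IsIrrCharacter.isCharacter χ.2
  set d : ℕ := 2 ^ k with hd
  have hd2 : 2 ≤ d := by
    calc 2 = 2 ^ 1 := by norm_num
      _ ≤ 2 ^ k := Nat.pow_le_pow_right (by norm_num) hk
  have h1 : (χ : G → ℂ) 1 = (d : ℂ) := by
    have := apply_one χ
    rw [this]
    have : deg χ = d := hdeg
    rw [this]
  obtain ⟨a, ha⟩ := invol_value (χ : G → ℂ) hχc σ hσ
  rw [h1] at ha
  have hval : (χ : G → ℂ) σ = ((2 * (a : ℤ) - (d : ℤ) : ℤ) : ℂ) := by
    push_cast
    linear_combination ha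
  -- bound a ≤ d
  obtain ⟨d', hd1', hd2'⟩ := norm_le_deg hχc σ
  have hdd' : d' = d := by
    rw [h1] at hd1'
    exact_mod_cast hd1'.symm
  rw [hdd'] at hd2'
  have hale : a ≤ d := by
    rw [hval] at hd2'
    have h2 : ‖((2 * (a : ℤ) - (d : ℤ) : ℤ) : ℂ)‖ = |((2 * (a : ℤ) - (d : ℤ) : ℤ) : ℝ)| := by
      rw [← Complex.ofReal_intCast, Complex.norm_real, Real.norm_eq_abs]
    rw [h2] at hd2'
    have h3 := le_trans (le_abs_self _) hd2'
    push_cast at h3
    have h4 : (a : ℝ) ≤ d := by linarith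
    exact_mod_cast h4
  -- integrality of the central character
  set idx : ℕ := (Subgroup.centralizer ({σ} : Set G)).index with hidx
  have hint := IsIrrCharacter.isIntegral_centralChar' χ.2 σ
  unfold Cfsg.centralChar at hint
  rw [h1, hval] at hint
  have hq : ((idx : ℂ) * ((2 * (a : ℤ) - (d : ℤ) : ℤ) : ℂ) / (d : ℂ))
      = (((idx : ℚ) * ((2 * (a : ℤ) - (d : ℤ) : ℤ) : ℚ) / (d : ℚ) : ℚ) : ℂ) := by
    push_cast
    rfl
  rw [hq] at hint
  obtain ⟨m, hm⟩ := int_of_isIntegral_ratCast hint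
  have hd0 : (d : ℚ) ≠ 0 := by
    have : 0 < d := by omega
    exact_mod_cast this.ne'
  have hmz : (d : ℤ) * m = (idx : ℤ) * (2 * (a : ℤ) - (d : ℤ)) := by
    have h2 : (m : ℚ) * (d : ℚ) = (idx : ℚ) * ((2 * (a : ℤ) - (d : ℤ) : ℤ) : ℚ) := by
      rw [hm]
      field_simp
    have h3 : ((m * (d : ℤ) : ℤ) : ℚ) = (((idx : ℤ) * (2 * (a : ℤ) - (d : ℤ)) : ℤ) : ℚ) := by
      push_cast
      push_cast at h2
      exact h2
    have h4 : m * (d : ℤ) = (idx : ℤ) * (2 * (a : ℤ) - (d : ℤ)) := by exact_mod_cast h3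
    rw [mul_comm]; exact h4
  have hcop : IsCoprime (d : ℤ) (idx : ℤ) := by
    have h2 : Nat.Coprime d idx := by
      rw [hd]
      apply Nat.Coprime.pow_left
      exact (Nat.Prime.coprime_iff_not_dvd Nat.prime_two).mpr hodd
    exact Nat.isCoprime_iff_coprime.mpr h2
  have hdvd : (d : ℤ) ∣ 2 * (a : ℤ) - (d : ℤ) :=
    hcop.dvd_of_dvd_mul_left (Dvd.intro _ hmz)
  have hdvd2 : (d : ℤ) ∣ 2 * (a : ℤ) := by
    have := dvd_add hdvd (dvd_refl (d : ℤ))
    simpa using this
  have hdvd3 : d ∣ 2 * a := by exact_mod_cast hdvd2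
  obtain ⟨j, hj⟩ := hdvd3
  have hj2 : j ≤ 2 := by
    by_contra hlt
    push Not at hlt
    have : d * 3 ≤ d * j := Nat.mul_le_mul_left d hlt
    omega
  -- the three cases
  have hσ1 : σ ≠ 1 := by
    intro h
    rw [h, orderOf_one] at hσ
    omega
  have hne1 : χ ≠ oneIrr G := by
    intro h
    have h2 : deg χ = d := hdeg
    rw [h, deg_oneIrr] at h2
    omega
  interval_cases j
  · -- a = 0 : χ σ = -d
    exfalso
    have ha0 : a = 0 := by omega
    have hv : (χ : G → ℂ) σ = -(d : ℂ) := by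
      rw [hval, ha0]; push_cast; ring
    -- the character χ χ̄
    have hψc : IsCharacter G (fun g => (χ : G → ℂ) g * conj ((χ : G → ℂ) g)) :=
      IsCharacter.mul hχc (IsCharacter.conj hχc)
    have hmem : σ ∈ charKer hψc := by
      rw [mem_charKer]
      show (χ : G → ℂ) σ * conj ((χ : G → ℂ) σ) = (χ : G → ℂ) 1 * conj ((χ : G → ℂ) 1)
      rw [hv, h1]
      simp
    rcases (charKer_normal hψc).eq_bot_or_eq_top with h | h
    · rw [h] at hmem
      exact hσ1 (Subgroup.mem_bot.mp hmem)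
    · have hall : ∀ g : G, (χ : G → ℂ) g * conj ((χ : G → ℂ) g) = (d : ℂ) * (d : ℂ) := by
        intro g
        have : g ∈ charKer hψc := h ▸ Subgroup.mem_top g
        rw [mem_charKer] at this
        have h3 : (χ : G → ℂ) g * conj ((χ : G → ℂ) g)
            = (χ : G → ℂ) 1 * conj ((χ : G → ℂ) 1) := this
        rw [h3, h1]
        simp
      have hinner := classInner_irrCharacter χ χ
      rw [if_pos rfl] at hinner
      unfold classInner at hinner
      rw [Finset.sum_congr rfl (fun g _ => hall g), Finset.sum_const, Finset.card_univ,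
        ← Nat.card_eq_fintype_card, nsmul_eq_mul, ← mul_assoc,
        inv_mul_cancel₀ (by exact_mod_cast (Nat.card_pos (α := G)).ne'), one_mul] at hinner
      have : d * d = 1 := by exact_mod_cast hinner
      nlinarith
  · -- 2a = d : χ σ = 0
    rw [hval]
    have : (2 * (a : ℤ) - (d : ℤ) : ℤ) = 0 := by
      have : (2 * a : ℕ) = d := by omega
      have h2 : (2 * (a : ℤ)) = (d : ℤ) := by exact_mod_cast this
      linarith
    rw [this]
    simp
  · -- a = d : χ σ = d = χ 1
    exfalso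
    have had : a = d := by omega
    have hv : (χ : G → ℂ) σ = (χ : G → ℂ) 1 := by
      rw [hval, h1, had]; push_cast; ring
    exact hσ1 (Cfsg.Agent.Lib.Helper7.BReyH.faithful_of_simple χ hne1 σ hv)

end Cfsg.Agent.Lib.Helper8.Brt
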