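import Mathlib
import Cfsg.Agent.Lib.Helper9.ArtE
import Cfsg.Agent.Lib.Helper8.Brt3

/-!
# Brauer–Tuan (S0997), part 4: the block data for a self-centralizing Sylow subgroup of
prime order, without any bound on the number of Sylow subgroups (adapted from helper9's
`ArtD`/`ArtE`, which carry the Brauer–Reynolds bound `2 n < p + 3` as a structure field).
-/

set_option autoImplicit false
set_option linter.unusedSectionVars false
set_option linter.unusedVariables false
set_option linter.style.longLine false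
set_option linter.unusedSimpArgs false

set_option maxHeartbeats 1600000
namespace Cfsg.Agent.Lib.Helper8.Brt

open Subgroup Cfsg Cfsg.Agent.Lib.Helper6 Cfsg.Agent.Lib.Helper7.Bt Cfsg.Agent.Lib.Helper9.Art
open scoped ComplexConjugate

/-- the character-theoretic data of the principal `p`-block, `C(P) = P`, trivial character
non-exceptional; no bound on `n` -/
structure BData (G : Type*) [Group G] [Fintype G] (p e t n : ℕ) (z : G)
    (X Y : Finset (IrrCharacter G)) (εX : IrrCharacter G → ℤ) (ε : ℤ) : Prop where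
  hyp : Hyp G p z
  hperf : commutator G = ⊤
  hp2 : p ≠ 2
  he : Nat.card (NN z ⧸ KK z) = e
  het : e * t = p - 1
  he2 : 2 ≤ e
  hsyl : Nat.card (Sylow p G) = 1 + n * p
  hn1 : 1 ≤ n
  disj : ∀ χ : IrrCharacter G, χ ∈ X → χ ∈ Y → False
  cardX : X.card = e
  cardY : Y.card = t
  signX : ∀ χ ∈ X, εX χ = 1 ∨ εX χ = -1
  degX : ∀ χ ∈ X, (deg χ : ℤ) ≡ εX χ [ZMOD p]
  valX : ∀ χ ∈ X, ∀ x : G, x ∈ zpowers z → x ≠ 1 → (χ : G → ℂ) x = (εX χ : ℂ)
  sign : ε = 1 ∨ ε = -1
  degY : ∀ θ ∈ Y, (deg θ : ℤ) ≡ ε * (e : ℤ) [ZMOD p]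
  agree : ∀ θ ∈ Y, ∀ θ' ∈ Y, ∀ g : G, ¬ p ∣ orderOf g → (θ : G → ℂ) g = (θ' : G → ℂ) g
  rel : ∀ θ ∈ Y, ∀ g : G, ¬ p ∣ orderOf g →
    (ε : ℂ) * (θ : G → ℂ) g = ∑ χ ∈ X, (εX χ : ℂ) * (χ : G → ℂ) g
  vanish : ∀ χ : IrrCharacter G, χ ∉ X → χ ∉ Y → ∀ x : G, p ∣ orderOf x → (χ : G → ℂ) x = 0
  dvdZ : ∀ χ : IrrCharacter G, χ ∉ X → χ ∉ Y → p ∣ deg χ
  one_mem : oneIrr G ∈ X

section

variable {G : Type*} [Group G] [Fintype G] {p : ℕ} [hp : Fact p.Prime] {z : G}

theorem exists_bdata (h : Hyp G p z) (hperf : commutator G = ⊤) (hp2 : p ≠ 2)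
    (S₀ : Sylow p G) (hS₀ : (S₀ : Subgroup G) = zpowers z) {e : ℕ} {M : Ideal AlgInt}
    {X Y : Finset (IrrCharacter G)} {εX : IrrCharacter G → ℤ} {ε : ℤ}
    (D : PData p e M X Y εX ε)
    (heq : (Subgroup.centralizer ((S₀ : Subgroup G) : Set G)).relIndex
      (Subgroup.normalizer ((S₀ : Subgroup G) : Set G)) = e)
    (h1X : oneIrr G ∈ X) :
    ∃ (t n : ℕ), BData G p e t n z X Y εX ε := by
  classical
  haveI : Fintype (IrrCharacter G) := Fintype.ofFinite _
  have he : Nat.card (NN z ⧸ KK z) = e := by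
    rw [h.card_quot_eq, ← heq, hS₀]
  have hedvd : e ∣ p - 1 := he ▸ h.card_quot_dvd
  have hepos : 0 < e := he ▸ Nat.card_pos
  have het : e * ((p - 1) / e) = p - 1 := Nat.mul_div_cancel' hedvd
  obtain ⟨n, hsyl⟩ := h.exists_n
  have hn1 : 1 ≤ n := by
    rcases Nat.eq_zero_or_pos n with h0 | h0
    · exfalso
      apply h.sylow_ne_one hperf
      rw [hsyl, h0]; simp
    · exact h0
  -- the characters of degree prime to p
  have hsub : X ∪ Y ⊆ Finset.univ.filter (fun χ : IrrCharacter G => ¬ p ∣ deg χ) := by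
    intro χ hχ
    rw [Finset.mem_filter]
    refine ⟨Finset.mem_univ _, ?_⟩
    rcases Finset.mem_union.mp hχ with h1 | h1
    · exact D.not_dvd_X hp.out χ h1
    · exact D.not_dvd_Y hp.out hedvd hepos χ h1
  have hdisj : Disjoint X Y := by
    rw [Finset.disjoint_left]
    intro χ h1 h2
    exact D.disj χ h1 h2
  have hcardXY : (X ∪ Y).card = e + (p - 1) / e := by
    rw [Finset.card_union_of_disjoint hdisj, D.cardX, D.cardY]
  have hkN : Nat.card (ConjClasses (NN z)) = e + (p - 1) / e := by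
    have h1 := h.card_conjClasses_N
    rw [he] at h1
    have h2 : Nat.card (ConjClasses (NN z)) * e = (e + (p - 1) / e) * e := by
      rw [h1, add_mul, mul_comm ((p - 1) / e) e, het]
    exact Nat.eq_of_mul_eq_mul_right hepos h2
  have hcardA : (Finset.univ.filter (fun χ : IrrCharacter G => ¬ p ∣ deg χ)).card
      = e + (p - 1) / e := by
    have h1 := Cfsg.Agent.S4502.result p h.p_dvd_card h.not_sq_dvd S₀
    rw [Nat.card_eq_fintype_card, Fintype.card_subtype] at h1
    rw [h1]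
    have h2 : Subgroup.normalizer ((S₀ : Subgroup G) : Set G) = NN z := by rw [hS₀]
    rw [h2, hkN]
  have hEq : X ∪ Y = Finset.univ.filter (fun χ : IrrCharacter G => ¬ p ∣ deg χ) :=
    Finset.eq_of_subset_of_card_le hsub (by rw [hcardA, hcardXY])
  have hdvdZ : ∀ χ : IrrCharacter G, χ ∉ X → χ ∉ Y → p ∣ deg χ := by
    intro χ h1 h2
    by_contra h3
    have : χ ∈ X ∪ Y := by rw [hEq, Finset.mem_filter]; exact ⟨Finset.mem_univ _, h3⟩
    rcases Finset.mem_union.mp this with h4 | h4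
    · exact h1 h4
    · exact h2 h4
  refine ⟨(p - 1) / e, n, ?_⟩
  exact
    { hyp := h
      hperf := hperf
      hp2 := hp2
      he := he
      het := het
      he2 := he ▸ h.two_le_e hperf
      hsyl := hsyl
      hn1 := hn1
      disj := D.disj
      cardX := D.cardX
      cardY := D.cardY
      signX := D.signX
      degX := D.degX
      valX := fun χ hχ x hx hx1 => D.valX χ hχ x (h.orderOf_of_mem hx hx1)
      sign := D.sign
      degY := D.degY
      agree := D.agree
      rel := D.rel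
      vanish := fun χ h1 h2 x hx => h.vanish_of_dvd χ (hdvdZ χ h1 h2) x hx
      dvdZ := hdvdZ
      one_mem := h1X }

end

end Cfsg.Agent.Lib.Helper8.Brt
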