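import Mathlib
import Cfsg.Agent.Lib.Helper8.Brt4

/-!
# Brauer–Tuan (S0997), part 5: values of the exceptional characters on `P#`
(adapted from helper9's `ArtE` to `BData`).
-/

set_option autoImplicit false
set_option linter.unusedSectionVars false
set_option linter.unusedVariables false
set_option linter.style.longLine false
set_option linter.unusedSimpArgs false

set_option maxHeartbeats 1600000
namespace Cfsg.Agent.Lib.Helper8.Brt
open Subgroup Cfsg Cfsg.Agent.Lib.Helper6 Cfsg.Agent.Lib.Helper7.Bt Cfsg.Agent.Lib.Helper9.Art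
open scoped ComplexConjugate

section

variable {G : Type*} [Group G] [Fintype G] [DecidableEq G] {p e t n : ℕ} [hp : Fact p.Prime] {z : G}
  {X Y : Finset (IrrCharacter G)} {εX : IrrCharacter G → ℤ} {ε : ℤ}

/-- splitting a sum over all irreducible characters -/
theorem BData.sum_split [Fintype (IrrCharacter G)] (D : BData G p e t n z X Y εX ε)
    (f : IrrCharacter G → ℂ) :
    ∑ χ : IrrCharacter G, f χ = ∑ χ ∈ X, f χ + ∑ χ ∈ Y, f χ
      + ∑ χ ∈ Finset.univ.filter (fun χ => χ ∉ X ∧ χ ∉ Y), f χ := by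
  classical
  have hdisj : Disjoint X Y := by
    rw [Finset.disjoint_left]
    intro χ h1 h2
    exact D.disj χ h1 h2
  rw [← Finset.sum_union hdisj]
  have h2 : Disjoint (X ∪ Y) (Finset.univ.filter (fun χ => χ ∉ X ∧ χ ∉ Y)) := by
    rw [Finset.disjoint_left]
    intro χ h1 h3
    rw [Finset.mem_filter] at h3
    rcases Finset.mem_union.mp h1 with h4 | h4
    · exact h3.2.1 h4
    · exact h3.2.2 h4
  rw [← Finset.sum_union h2]
  apply Finset.sum_congr _ (fun _ _ => rfl)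
  ext χ
  simp only [Finset.mem_univ, Finset.mem_union, Finset.mem_filter, true_and, true_iff]
  tauto

theorem BData.orderOf_P (D : BData G p e t n z X Y εX ε) {x : G} (hx : x ∈ zpowers z) (hx1 : x ≠ 1) :
    p ∣ orderOf x := by
  rw [D.hyp.orderOf_of_mem hx hx1]

theorem BData.t_pos (D : BData G p e t n z X Y εX ε) : 0 < t := by
  rcases Nat.eq_zero_or_pos t with h0 | h0
  · have := D.het
    rw [h0, mul_zero] at this
    have := hp.out.one_lt
    omega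
  · exact h0

theorem BData.exists_y (D : BData G p e t n z X Y εX ε) :
    ∃ y : ℕ, 0 < y ∧ ∀ θ ∈ Y, deg θ = y := by
  have hY : Y.Nonempty := by rw [← Finset.card_pos, D.cardY]; exact D.t_pos
  obtain ⟨θ₀, hθ₀⟩ := hY
  refine ⟨deg θ₀, deg_pos θ₀, ?_⟩
  intro θ hθ
  have h := D.agree θ hθ θ₀ hθ₀ 1 (by rw [orderOf_one]; exact hp.out.not_dvd_one)
  rw [apply_one, apply_one] at h
  exact_mod_cast h

theorem BData.eps_conj (D : BData G p e t n z X Y εX ε) : conj (ε : ℂ) = (ε : ℂ) := by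
  simp

/-- the degree relation -/
theorem BData.rel_deg (D : BData G p e t n z X Y εX ε) {y : ℕ} (hy : ∀ θ ∈ Y, deg θ = y) :
    (ε : ℂ) * (y : ℂ) = ∑ χ ∈ X, (εX χ : ℂ) * (deg χ : ℂ) := by
  have hY : Y.Nonempty := by rw [← Finset.card_pos, D.cardY]; exact D.t_pos
  obtain ⟨θ₀, hθ₀⟩ := hY
  have h := D.rel θ₀ hθ₀ 1 (by rw [orderOf_one]; exact hp.out.not_dvd_one)
  rw [apply_one, hy θ₀ hθ₀] at h
  rw [h]
  apply Finset.sum_congr rfl
  intro χ _
  rw [apply_one]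

/-- (i): the exceptional characters sum to `-ε` on `P#` -/
theorem BData.sum_Y_apply (D : BData G p e t n z X Y εX ε) {x : G} (hx : x ∈ zpowers z)
    (hx1 : x ≠ 1) : ∑ θ ∈ Y, (θ : G → ℂ) x = -(ε : ℂ) := by
  haveI : Fintype (IrrCharacter G) := Fintype.ofFinite _
  obtain ⟨y, hypos, hy⟩ := D.exists_y
  have hnc : ¬ IsConj (1 : G) x := by
    intro hc
    exact hx1 (isConj_one_right.mp hc)
  have h1 := (sum_irr_mul_conj (1 : G) x).2 hnc
  rw [D.sum_split] at h1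
  have hZ : ∑ χ ∈ Finset.univ.filter (fun χ => χ ∉ X ∧ χ ∉ Y),
      (χ : G → ℂ) 1 * conj ((χ : G → ℂ) x) = 0 := by
    apply Finset.sum_eq_zero
    intro χ hχ
    rw [Finset.mem_filter] at hχ
    rw [D.vanish χ hχ.2.1 hχ.2.2 x (D.orderOf_P hx hx1)]
    simp
  have hX : ∑ χ ∈ X, (χ : G → ℂ) 1 * conj ((χ : G → ℂ) x) = (ε : ℂ) * (y : ℂ) := by
    rw [D.rel_deg hy]
    apply Finset.sum_congr rfl
    intro χ hχ
    rw [D.valX χ hχ x hx hx1, apply_one]
    simp [mul_comm]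
  have hYs : ∑ θ ∈ Y, (θ : G → ℂ) 1 * conj ((θ : G → ℂ) x)
      = (y : ℂ) * conj (∑ θ ∈ Y, (θ : G → ℂ) x) := by
    rw [map_sum, Finset.mul_sum]
    apply Finset.sum_congr rfl
    intro θ hθ
    rw [apply_one, hy θ hθ]
  rw [hZ, hX, hYs, add_zero] at h1
  have hy0 : (y : ℂ) ≠ 0 := by exact_mod_cast hypos.ne'
  have h2 : (ε : ℂ) + conj (∑ θ ∈ Y, (θ : G → ℂ) x) = 0 := by
    have : (y : ℂ) * ((ε : ℂ) + conj (∑ θ ∈ Y, (θ : G → ℂ) x)) = 0 := by
      rw [← h1]; ring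
    rcases mul_eq_zero.mp this with h3 | h3
    · exact absurd h3 hy0
    · exact h3
  have h3 : conj (∑ θ ∈ Y, (θ : G → ℂ) x) = -(ε : ℂ) := by
    linear_combination h2
  have h4 := congrArg conj h3
  rw [Complex.conj_conj] at h4
  rw [h4]
  simp

end

section

variable {G : Type*} [Group G] [Fintype G] [DecidableEq G] {p e t n : ℕ} [hp : Fact p.Prime] {z : G}
  {X Y : Finset (IrrCharacter G)} {εX : IrrCharacter G → ℤ} {ε : ℤ}

theorem BData.sum_eq (D : BData G p e t n z X Y εX ε) (f : G → ℂ) (hf : IsClassFunction G f) :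
    ∑ g : G, f g = ((1 + n * p : ℕ) : ℂ) * sumP z f
      + ∑ g : G, (if p ∣ orderOf g then 0 else f g) := by
  rw [sum_split_sing (p := p) f, D.hyp.sum_singular f hf, D.hsyl]
  rfl

theorem BData.card_G (D : BData G p e t n z X Y εX ε) : Nat.card G = p * e * (1 + n * p) := by
  rw [D.hyp.card_G, D.he, D.hsyl]

theorem BData.syl_ne (D : BData G p e t n z X Y εX ε) : ((1 + n * p : ℕ) : ℂ) ≠ 0 := by
  have : (1 + n * p : ℕ) ≠ 0 := by omega
  exact_mod_cast this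

/-- the sum over `P#` of a class function built from an exceptional character does not depend
on the exceptional character -/
theorem BData.sumP_indep (D : BData G p e t n z X Y εX ε) (F : (G → ℂ) → G → ℂ)
    (hF : ∀ θ : IrrCharacter G, IsClassFunction G (F θ))
    (hloc : ∀ θ θ' : IrrCharacter G, ∀ g : G, (θ : G → ℂ) g = (θ' : G → ℂ) g → F θ g = F θ' g)
    (hsum : ∀ θ ∈ Y, ∀ θ' ∈ Y, ∑ g : G, F θ g = ∑ g : G, F θ' g)
    {θ θ' : IrrCharacter G} (hθ : θ ∈ Y) (hθ' : θ' ∈ Y) :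
    sumP z (F θ) = sumP z (F θ') := by
  have h1 := D.sum_eq (F θ) (hF θ)
  have h2 := D.sum_eq (F θ') (hF θ')
  have h3 : ∑ g : G, (if p ∣ orderOf g then 0 else F θ g)
      = ∑ g : G, (if p ∣ orderOf g then 0 else F θ' g) := by
    apply Finset.sum_congr rfl
    intro g _
    split_ifs with hg
    · rfl
    · exact hloc θ θ' g (D.agree θ hθ θ' hθ' g hg)
  have h4 := hsum θ hθ θ' hθ'
  rw [h1, h2, h3] at h4
  have h5 : ((1 + n * p : ℕ) : ℂ) * sumP z (F θ) = ((1 + n * p : ℕ) : ℂ) * sumP z (F θ') := by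
    linear_combination h4
  exact mul_left_cancel₀ D.syl_ne h5

/-- (ii): `∑_{x ∈ P#} θ(x) = -ε e` -/
theorem BData.sumP_theta (D : BData G p e t n z X Y εX ε) {θ : IrrCharacter G} (hθ : θ ∈ Y) :
    sumP z (θ : G → ℂ) = -(ε : ℂ) * (e : ℂ) := by
  have hne : ∀ θ' ∈ Y, θ' ≠ oneIrr G := fun θ' h' h1 => D.disj _ D.one_mem (h1 ▸ h')
  have hindep : ∀ θ' ∈ Y, sumP z (θ' : G → ℂ) = sumP z (θ : G → ℂ) := by
    intro θ' hθ'
    apply D.sumP_indep (fun f => f) (fun θ => IsIrrCharacter.isClassFunction θ.2)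
      (fun _ _ _ h => h) _ hθ' hθ
    intro θ₁ h₁ θ₂ h₂
    have e1 := sum_eq_of_classInner (θ₁ : G → ℂ) (oneIrr G : G → ℂ) 0 (by
      rw [classInner_irrCharacter, if_neg (hne θ₁ h₁)])
    have e2 := sum_eq_of_classInner (θ₂ : G → ℂ) (oneIrr G : G → ℂ) 0 (by
      rw [classInner_irrCharacter, if_neg (hne θ₂ h₂)])
    simp only [oneIrr_apply, map_one, mul_one, mul_zero] at e1 e2
    rw [e1, e2]
  have htot : ∑ θ' ∈ Y, sumP z (θ' : G → ℂ) = ((p : ℂ) - 1) * (-(ε : ℂ)) := by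
    rw [← sumP_finset_sum, ← sumP_const D.hyp]
    apply sumP_congr
    intro x hx hx1
    exact D.sum_Y_apply hx hx1
  rw [Finset.sum_congr rfl hindep, Finset.sum_const, D.cardY, nsmul_eq_mul] at htot
  have ht0 : (t : ℂ) ≠ 0 := by exact_mod_cast D.t_pos.ne'
  have hpe : ((p : ℂ) - 1) = (e : ℂ) * (t : ℂ) := by
    have := D.het
    have h2 : ((e * t : ℕ) : ℂ) = ((p - 1 : ℕ) : ℂ) := by rw [this]
    rw [Nat.cast_sub hp.out.one_lt.le] at h2
    push_cast at h2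
    rw [← h2]
  rw [hpe] at htot
  have : (t : ℂ) * sumP z (θ : G → ℂ) = (t : ℂ) * (-(ε : ℂ) * (e : ℂ)) := by
    rw [htot]; ring
  exact mul_left_cancel₀ ht0 this

/-- column orthogonality at `x ∈ P#` -/
theorem BData.sum_Y_normSq (D : BData G p e t n z X Y εX ε) {x : G} (hx : x ∈ zpowers z)
    (hx1 : x ≠ 1) :
    ∑ θ ∈ Y, (θ : G → ℂ) x * conj ((θ : G → ℂ) x) = (p : ℂ) - (e : ℂ) := by
  haveI : Fintype (IrrCharacter G) := Fintype.ofFinite _
  have h1 := (sum_irr_mul_conj x x).1 (IsConj.refl x)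
  rw [D.hyp.centralizer_eq hx hx1, D.hyp.card_P, D.sum_split] at h1
  have hZ : ∑ χ ∈ Finset.univ.filter (fun χ => χ ∉ X ∧ χ ∉ Y),
      (χ : G → ℂ) x * conj ((χ : G → ℂ) x) = 0 := by
    apply Finset.sum_eq_zero
    intro χ hχ
    rw [Finset.mem_filter] at hχ
    rw [D.vanish χ hχ.2.1 hχ.2.2 x (D.orderOf_P hx hx1)]
    simp
  have hX : ∑ χ ∈ X, (χ : G → ℂ) x * conj ((χ : G → ℂ) x) = (e : ℂ) := by
    have : ∀ χ ∈ X, (χ : G → ℂ) x * conj ((χ : G → ℂ) x) = 1 := by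
      intro χ hχ
      rw [D.valX χ hχ x hx hx1]
      rcases D.signX χ hχ with h2 | h2 <;> rw [h2] <;> simp
    rw [Finset.sum_congr rfl this, Finset.sum_const, D.cardX]
    simp
  rw [hZ, hX, add_zero] at h1
  linear_combination h1

/-- (iii): `∑_{x ∈ P#} |θ(x)|² = e (p - e)` -/
theorem BData.sumP_normSq (D : BData G p e t n z X Y εX ε) {θ : IrrCharacter G} (hθ : θ ∈ Y) :
    sumP z (fun x => (θ : G → ℂ) x * conj ((θ : G → ℂ) x)) = (e : ℂ) * ((p : ℂ) - (e : ℂ)) := by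
  have hindep : ∀ θ' ∈ Y, sumP z (fun x => (θ' : G → ℂ) x * conj ((θ' : G → ℂ) x))
      = sumP z (fun x => (θ : G → ℂ) x * conj ((θ : G → ℂ) x)) := by
    intro θ' hθ'
    apply D.sumP_indep (fun f => fun x => f x * conj (f x)) _ _ _ hθ' hθ
    · intro θ₁ g k
      show (θ₁ : G → ℂ) (k * g * k⁻¹) * conj ((θ₁ : G → ℂ) (k * g * k⁻¹))
        = (θ₁ : G → ℂ) g * conj ((θ₁ : G → ℂ) g)
      rw [IsIrrCharacter.isClassFunction θ₁.2 g k]
    · intro θ₁ θ₂ g hg
      show (θ₁ : G → ℂ) g * conj ((θ₁ : G → ℂ) g) = (θ₂ : G → ℂ) g * conj ((θ₂ : G → ℂ) g)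
      rw [hg]
    · intro θ₁ h₁ θ₂ h₂
      have e1 := sum_eq_of_classInner (θ₁ : G → ℂ) (θ₁ : G → ℂ) 1 (by
        rw [classInner_irrCharacter, if_pos rfl])
      have e2 := sum_eq_of_classInner (θ₂ : G → ℂ) (θ₂ : G → ℂ) 1 (by
        rw [classInner_irrCharacter, if_pos rfl])
      rw [e1, e2]
  have htot : ∑ θ' ∈ Y, sumP z (fun x => (θ' : G → ℂ) x * conj ((θ' : G → ℂ) x))
      = ((p : ℂ) - 1) * ((p : ℂ) - (e : ℂ)) := by
    rw [← sumP_finset_sum, ← sumP_const D.hyp]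
    apply sumP_congr
    intro x hx hx1
    exact D.sum_Y_normSq hx hx1
  rw [Finset.sum_congr rfl hindep, Finset.sum_const, D.cardY, nsmul_eq_mul] at htot
  have ht0 : (t : ℂ) ≠ 0 := by exact_mod_cast D.t_pos.ne'
  have hpe : ((p : ℂ) - 1) = (e : ℂ) * (t : ℂ) := by
    have := D.het
    have h2 : ((e * t : ℕ) : ℂ) = ((p - 1 : ℕ) : ℂ) := by rw [this]
    rw [Nat.cast_sub hp.out.one_lt.le] at h2
    push_cast at h2
    rw [← h2]
  rw [hpe] at htot
  have : (t : ℂ) * sumP z (fun x => (θ : G → ℂ) x * conj ((θ : G → ℂ) x))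
      = (t : ℂ) * ((e : ℂ) * ((p : ℂ) - (e : ℂ))) := by
    rw [htot]; ring
  exact mul_left_cancel₀ ht0 this

end

end Cfsg.Agent.Lib.Helper8.Brt
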