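import Mathlib
import Cfsg.Agent.Lib.Helper9.ArtH
import Cfsg.Agent.Lib.Helper8.Brt5

/-!
# Brauer–Tuan (S0997), part 6: the Lemma-L bound for values on `N \ P`.
For an irreducible character `ψ` and `k ∈ N(P) \ P`: `‖ψ k‖ ≤ (ψ 1 + ∑_{x ∈ P#} ψ x) / p`.
-/

set_option autoImplicit false
set_option linter.unusedSectionVars false
set_option linter.unusedVariables false
set_option linter.style.longLine false
set_option linter.unusedSimpArgs false

set_option maxHeartbeats 1600000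
namespace Cfsg.Agent.Lib.Helper8.Brt
open Subgroup Cfsg Cfsg.Agent.Lib.Helper6 Cfsg.Agent.Lib.Helper7.Bt Cfsg.Agent.Lib.Helper9.Art
open scoped ComplexConjugate

section

variable {G : Type*} [Group G] [Fintype G] [DecidableEq G] {p : ℕ} [hp : Fact p.Prime] {z : G}

/-- Lemma-L bound: values of an irreducible character off `P` inside `N(P)`. -/
theorem norm_le_of_sumP (h : Hyp G p z) (ψ : IrrCharacter G) {k : G} (hk : k ∈ NN z)
    (hkP : k ∉ zpowers z) (N : ℕ)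
    (hN : (ψ : G → ℂ) 1 + sumP z (ψ : G → ℂ) = (p : ℂ) * N) :
    ‖(ψ : G → ℂ) k‖ ≤ N := by
  classical
  haveI : Fintype (NN z) := Fintype.ofFinite _
  obtain ⟨e, he⟩ : ∃ e, Nat.card (NN z ⧸ KK z) = e := ⟨_, rfl⟩
  have hepos : 0 < e := he ▸ Nat.card_pos
  haveI : NeZero e := ⟨hepos.ne'⟩
  obtain ⟨κ, hκs, hκk⟩ := h.exists_kappa e he
  have hcf := IsIrrCharacter.isClassFunction ψ.2
  have hnat : ∀ j : ZMod e, ∃ m : ℕ, classInner (piChar κ j) (ψ : G → ℂ) = m := fun j =>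
    IsCharacter.classInner_irr_nat (piChar_isCharacter κ j) ψ.2
  choose mf hmf using hnat
  have hk₀ : (⟨k, hk⟩ : NN z) ∉ KK z := by
    intro hc
    exact hkP (Subgroup.mem_subgroupOf.mp hc)
  have h1 := h.lemma_L κ hκk he (ψ : G → ℂ) hcf (k₀ := ⟨k, hk⟩) hk₀
  have h2 := h.sum_classInner_piChar κ hκk he (ψ : G → ℂ) hcf
  have hpne : (p : ℂ) ≠ 0 := by exact_mod_cast hp.out.ne_zero
  have hsum : ∑ j : ZMod e, (mf j : ℂ) = N := by
    rw [← Finset.sum_congr rfl (fun j _ => hmf j), h2, hN]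
    simp only [map_mul, Complex.conj_natCast]
    rw [← mul_assoc, inv_mul_cancel₀ hpne, one_mul]
  have hsumR : ∑ j : ZMod e, (mf j : ℝ) = N := by
    have : ((∑ j : ZMod e, (mf j : ℝ) : ℝ) : ℂ) = ((N : ℝ) : ℂ) := by
      push_cast; exact hsum
    exact_mod_cast this
  have hval : (ψ : G → ℂ) k = ∑ j : ZMod e, (mf j : ℂ) * lam κ j ⟨k, hk⟩ := by
    have : (ψ : G → ℂ) k = (ψ : G → ℂ) ((⟨k, hk⟩ : NN z) : G) := rfl
    rw [this, h1]
    apply Finset.sum_congr rfl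
    intro j _
    rw [hmf j, Complex.conj_natCast]
  rw [hval]
  calc ‖∑ j : ZMod e, (mf j : ℂ) * lam κ j ⟨k, hk⟩‖
      ≤ ∑ j : ZMod e, ‖(mf j : ℂ) * lam κ j ⟨k, hk⟩‖ := norm_sum_le _ _
    _ = ∑ j : ZMod e, (mf j : ℝ) := by
        apply Finset.sum_congr rfl
        intro j _
        rw [norm_mul]
        have hl : ‖lam κ j ⟨k, hk⟩‖ = 1 := by
          have h3 := lam_mul_conj κ j ⟨k, hk⟩
          have h4 : ‖lam κ j ⟨k, hk⟩‖ ^ 2 = 1 := by
            rw [← Complex.normSq_eq_norm_sq, ← Complex.ofReal_inj, Complex.normSq_eq_conj_mul_self]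
            rw [mul_comm, h3]; simp
          have h5 : (‖lam κ j ⟨k, hk⟩‖ - 1) * (‖lam κ j ⟨k, hk⟩‖ + 1) = 0 := by nlinarith
          rcases mul_eq_zero.mp h5 with h6 | h6
          · linarith
          · have := norm_nonneg (lam κ j ⟨k, hk⟩); linarith
        rw [hl, mul_one]
        simp
    _ = N := hsumR

end

section

variable {G : Type*} [Group G] [Fintype G] [DecidableEq G] {p e t n : ℕ} [hp : Fact p.Prime] {z : G}
  {X Y : Finset (IrrCharacter G)} {εX : IrrCharacter G → ℤ} {ε : ℤ}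

theorem BData.sumP_X (D : BData G p e t n z X Y εX ε) {χ : IrrCharacter G} (hχ : χ ∈ X) :
    sumP z (χ : G → ℂ) = ((p : ℂ) - 1) * (εX χ : ℂ) := by
  rw [← sumP_const D.hyp]
  exact sumP_congr (fun x hx hx1 => D.valX χ hχ x hx hx1)

/-- `(-)`-types of degree `p - 1` vanish on `N \ P`. -/
theorem BData.minus_vanish (D : BData G p e t n z X Y εX ε) {χ : IrrCharacter G} (hχ : χ ∈ X)
    (hs : εX χ = -1) (hd : deg χ = p - 1) {k : G} (hk : k ∈ NN z) (hkP : k ∉ zpowers z) :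
    (χ : G → ℂ) k = 0 := by
  have h1 : (χ : G → ℂ) 1 + sumP z (χ : G → ℂ) = (p : ℂ) * ((0 : ℕ) : ℂ) := by
    rw [D.sumP_X hχ, hs, apply_one, hd, Nat.cast_sub hp.out.one_lt.le]
    push_cast; ring
  have h2 := norm_le_of_sumP D.hyp χ hk hkP 0 h1
  have h3 : ‖(χ : G → ℂ) k‖ = 0 := le_antisymm (by simpa using h2) (norm_nonneg _)
  exact norm_eq_zero.mp h3

/-- `(+)`-types of degree `p + 1` have absolute value at most `2` on `N \ P`. -/
theorem BData.plus_le_two (D : BData G p e t n z X Y εX ε) {χ : IrrCharacter G} (hχ : χ ∈ X)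
    (hs : εX χ = 1) (hd : deg χ = p + 1) {k : G} (hk : k ∈ NN z) (hkP : k ∉ zpowers z) :
    ‖(χ : G → ℂ) k‖ ≤ 2 := by
  have h1 : (χ : G → ℂ) 1 + sumP z (χ : G → ℂ) = (p : ℂ) * ((2 : ℕ) : ℂ) := by
    rw [D.sumP_X hχ, hs, apply_one, hd]
    push_cast; ring
  have h2 := norm_le_of_sumP D.hyp χ hk hkP 2 h1
  simpa using h2

/-- exceptional characters of degree `p - e` (`ε = -1`) have absolute value at most `1` on
`N \ P`. -/
theorem BData.theta_le_one (D : BData G p e t n z X Y εX ε) (hε : ε = -1) {θ : IrrCharacter G}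
    (hθ : θ ∈ Y) (hd : deg θ + e = p) {k : G} (hk : k ∈ NN z) (hkP : k ∉ zpowers z) :
    ‖(θ : G → ℂ) k‖ ≤ 1 := by
  have h1 : (θ : G → ℂ) 1 + sumP z (θ : G → ℂ) = (p : ℂ) * ((1 : ℕ) : ℂ) := by
    rw [D.sumP_theta hθ, hε, apply_one]
    have : (p : ℂ) = (deg θ : ℂ) + (e : ℂ) := by rw [← hd]; push_cast; ring
    rw [this]
    push_cast; ring
  have h2 := norm_le_of_sumP D.hyp θ hk hkP 1 h1
  simpa using h2

end

end Cfsg.Agent.Lib.Helper8.Brt
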