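import Mathlib
import Cfsg.Agent.Lib.Helper9.ArtI
import Cfsg.Agent.Lib.Helper6.Multiplicity
import Cfsg.Agent.Lib.Helper8.Brt6

/-!
# Brauer–Tuan (S0997), part 7: the star identity
`⟨θ₁ θ̄₁, χ⟩ - ⟨θ₁ θ̄₂, χ⟩ = ε_χ` for `χ ∈ X` and two different exceptional characters.
-/

set_option autoImplicit false
set_option linter.unusedSectionVars false
set_option linter.unusedVariables false
set_option linter.style.longLine false
set_option linter.unusedSimpArgs false

set_option maxHeartbeats 1600000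
namespace Cfsg.Agent.Lib.Helper8.Brt
open Subgroup Cfsg Cfsg.Agent.Lib.Helper6 Cfsg.Agent.Lib.Helper7.Bt Cfsg.Agent.Lib.Helper9.Art
open scoped ComplexConjugate

section

variable {G : Type*} [Group G] [Fintype G] [DecidableEq G] {p e t n : ℕ} [hp : Fact p.Prime] {z : G}
  {X Y : Finset (IrrCharacter G)} {εX : IrrCharacter G → ℤ} {ε : ℤ}

/-- the difference function `θ₁ (θ̄₁ - θ̄₂)` -/
noncomputable def starFun (θ1 θ2 : IrrCharacter G) : G → ℂ :=
  fun g => (θ1 : G → ℂ) g * conj ((θ1 : G → ℂ) g) - (θ1 : G → ℂ) g * conj ((θ2 : G → ℂ) g)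

theorem starFun_isClassFunction (θ1 θ2 : IrrCharacter G) :
    IsClassFunction G (starFun θ1 θ2) := by
  intro g k
  unfold starFun
  rw [IsIrrCharacter.isClassFunction θ1.2 g k, IsIrrCharacter.isClassFunction θ2.2 g k]

theorem BData.starFun_regular (D : BData G p e t n z X Y εX ε) {θ1 θ2 : IrrCharacter G}
    (h1 : θ1 ∈ Y) (h2 : θ2 ∈ Y) {g : G} (hg : ¬ p ∣ orderOf g) : starFun θ1 θ2 g = 0 := by
  unfold starFun
  rw [D.agree θ2 h2 θ1 h1 g hg, sub_self]

theorem BData.sum_starFun (D : BData G p e t n z X Y εX ε) {θ1 θ2 : IrrCharacter G}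
    (h1 : θ1 ∈ Y) (h2 : θ2 ∈ Y) (hne : θ1 ≠ θ2) :
    ((1 + n * p : ℕ) : ℂ) * sumP z (starFun θ1 θ2) = (Nat.card G : ℂ) := by
  have hs := D.sum_eq (starFun θ1 θ2) (starFun_isClassFunction θ1 θ2)
  have h0 : ∑ g : G, (if p ∣ orderOf g then 0 else starFun θ1 θ2 g) = 0 := by
    apply Finset.sum_eq_zero
    intro g _
    split_ifs with hg
    · rfl
    · exact D.starFun_regular h1 h2 hg
  rw [h0, add_zero] at hs
  rw [← hs]
  have ha := sum_eq_of_classInner (θ1 : G → ℂ) (θ1 : G → ℂ) 1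
    (by rw [classInner_irrCharacter, if_pos rfl])
  have hb := sum_eq_of_classInner (θ1 : G → ℂ) (θ2 : G → ℂ) 0
    (by rw [classInner_irrCharacter, if_neg hne])
  unfold starFun
  rw [Finset.sum_sub_distrib, ha, hb]
  ring

/-- **The star identity.** -/
theorem BData.star (D : BData G p e t n z X Y εX ε) {θ1 θ2 : IrrCharacter G}
    (h1 : θ1 ∈ Y) (h2 : θ2 ∈ Y) (hne : θ1 ≠ θ2) {χ : IrrCharacter G} (hχ : χ ∈ X) :
    classInner (fun g => (θ1 : G → ℂ) g * conj ((θ1 : G → ℂ) g)) (χ : G → ℂ)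
      - classInner (fun g => (θ1 : G → ℂ) g * conj ((θ2 : G → ℂ) g)) (χ : G → ℂ)
      = (εX χ : ℂ) := by
  rw [← classInner_sub_left]
  have hfun : ((fun g => (θ1 : G → ℂ) g * conj ((θ1 : G → ℂ) g))
      - fun g => (θ1 : G → ℂ) g * conj ((θ2 : G → ℂ) g)) = starFun θ1 θ2 := by
    funext g; rfl
  rw [hfun]
  set F : G → ℂ := fun g => starFun θ1 θ2 g * conj ((χ : G → ℂ) g) with hF
  have hFcl : IsClassFunction G F := by
    intro g k
    show starFun θ1 θ2 (k * g * k⁻¹) * conj ((χ : G → ℂ) (k * g * k⁻¹)) = _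
    rw [starFun_isClassFunction θ1 θ2 g k, IsIrrCharacter.isClassFunction χ.2 g k]
  have hs := D.sum_eq F hFcl
  have h0 : ∑ g : G, (if p ∣ orderOf g then 0 else F g) = 0 := by
    apply Finset.sum_eq_zero
    intro g _
    split_ifs with hg
    · rfl
    · show starFun θ1 θ2 g * _ = 0
      rw [D.starFun_regular h1 h2 hg, zero_mul]
  rw [h0, add_zero] at hs
  have hsP : sumP z F = (εX χ : ℂ) * sumP z (starFun θ1 θ2) := by
    rw [← sumP_mul_left]
    apply sumP_congr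
    intro x hx hx1
    show starFun θ1 θ2 x * conj ((χ : G → ℂ) x) = _
    rw [D.valX χ hχ x hx hx1]
    have : conj ((εX χ : ℂ)) = (εX χ : ℂ) := by simp
    rw [this, mul_comm]
  rw [hsP] at hs
  have hG := D.sum_starFun h1 h2 hne
  have hGne : (Nat.card G : ℂ) ≠ 0 := by
    have : 0 < Nat.card G := Nat.card_pos
    exact_mod_cast this.ne'
  unfold classInner
  show (Nat.card G : ℂ)⁻¹ * ∑ g : G, F g = _
  rw [hs]
  have : ((1 + n * p : ℕ) : ℂ) * ((εX χ : ℂ) * sumP z (starFun θ1 θ2))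
      = (εX χ : ℂ) * (Nat.card G : ℂ) := by
    rw [← hG]; ring
  rw [this, mul_comm (εX χ : ℂ), ← mul_assoc, inv_mul_cancel₀ hGne, one_mul]

end

end Cfsg.Agent.Lib.Helper8.Brt
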