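import Mathlib
import Cfsg.Agent.Lib.Helper8.Brt7

/-!
# Brauer–Tuan (S0997), part 8: pinning the degrees in the case `p = 2e + 1`, `ε = -1`.
-/

set_option autoImplicit false
set_option linter.unusedSectionVars false
set_option linter.unusedVariables false
set_option linter.style.longLine false
set_option linter.unusedSimpArgs false

set_option maxHeartbeats 1600000
namespace Cfsg.Agent.Lib.Helper8.Brt
open Subgroup Cfsg Cfsg.Agent.Lib.Helper6 Cfsg.Agent.Lib.Helper7.Bt Cfsg.Agent.Lib.Helper9.Art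
open scoped ComplexConjugate

/-- an even degree `≡ ±1 (mod p)`, `p` odd, has the shape `p ± 1 + 2pk` -/
theorem deg_shape {p d : ℕ} {s : ℤ} (hp3 : 3 ≤ p) (hpodd : p % 2 = 1) (hs : s = 1 ∨ s = -1)
    (hd : (d : ℤ) ≡ s [ZMOD p]) (heven : 2 ∣ d) (hd2 : 2 ≤ d) :
    ∃ k : ℕ, (d : ℤ) = p + s + 2 * p * k := by
  rcases hs with rfl | rfl
  · have h1 : (p : ℤ) ∣ (d : ℤ) - 1 := Int.modEq_iff_dvd.mp hd.symm
    have h2 : p ∣ d - 1 := by
      have : ((d - 1 : ℕ) : ℤ) = (d : ℤ) - 1 := by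
        rw [Nat.cast_sub (by omega)]; simp
      rw [← this] at h1
      exact_mod_cast h1
    obtain ⟨m, hm⟩ := h2
    rcases Nat.even_or_odd' m with ⟨j, hj | hj⟩
    · exfalso
      rw [hj] at hm
      obtain ⟨w, hw⟩ := heven
      have : d - 1 = 2 * (p * j) := by rw [hm]; ring
      omega
    · refine ⟨j, ?_⟩
      rw [hj] at hm
      have h3 : d = 1 + p * (2 * j + 1) := by omega
      rw [h3]
      push_cast
      ring
  · have h1 : (p : ℤ) ∣ (d : ℤ) + 1 := by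
      have := Int.modEq_iff_dvd.mp hd.symm
      simpa using this
    have h2 : p ∣ d + 1 := by exact_mod_cast h1
    obtain ⟨m, hm⟩ := h2
    rcases Nat.even_or_odd' m with ⟨j, hj | hj⟩
    · exfalso
      rw [hj] at hm
      obtain ⟨w, hw⟩ := heven
      have : d + 1 = 2 * (p * j) := by rw [hm]; ring
      omega
    · refine ⟨j, ?_⟩
      rw [hj] at hm
      have h3 : (d : ℤ) + 1 = (p : ℤ) * (2 * (j : ℤ) + 1) := by exact_mod_cast hm
      linarith

/-- the final arithmetic of the pinning argument -/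
theorem pin_arith {e np nm Kp Km Γ : ℕ} (he : 1 ≤ e) (h1 : np + nm = e - 1)
    (h2 : (np : ℤ) - nm + 2 * Kp - 2 * Km = -1)
    (h3 : (e + 1) * (e + 1) = nm * (2 * e) + 2 * (2 * e + 1) * Km + Γ) (hΓ : Γ ≠ 1) :
    Kp = 0 ∧ Km = 0 ∧ 2 * np + 2 = e := by
  have h4 : (2 : ℤ) * nm = e + 2 * Kp - 2 * Km := by
    have : (np : ℤ) + nm = e - 1 := by
      have := congrArg (Nat.cast : ℕ → ℤ) h1
      push_cast [Nat.cast_sub he] at this
      exact this
    linarith
  have h3' : ((e : ℤ) + 1) * (e + 1) = nm * (2 * e) + 2 * (2 * e + 1) * Km + Γ := by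
    exact_mod_cast h3
  have h5 : (2 : ℤ) * e + 1 = 2 * e * (Kp + Km) + 2 * Km + Γ := by
    have h6 : (nm : ℤ) * (2 * e) = e * (e + 2 * Kp - 2 * Km) := by
      rw [← h4]; ring
    rw [h6] at h3'
    linarith
  have hs : Kp + Km = 0 := by
    by_contra hne
    have h7 : 1 ≤ Kp + Km := Nat.one_le_iff_ne_zero.mpr hne
    rcases Nat.lt_or_ge (Kp + Km) 2 with h8 | h8
    · have h9 : Kp + Km = 1 := by omega
      have h10 : ((Kp : ℤ) + Km) = 1 := by exact_mod_cast h9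
      rw [h10] at h5
      have h11 : (2 : ℤ) * Km + Γ = 1 := by linarith
      have h12 : 2 * Km + Γ = 1 := by exact_mod_cast h11
      omega
    · have h9 : (2 : ℤ) ≤ (Kp : ℤ) + Km := by exact_mod_cast h8
      have h10 : (2 : ℤ) * e * 2 ≤ 2 * e * ((Kp : ℤ) + Km) := by
        apply mul_le_mul_of_nonneg_left h9
        positivity
      have h11 : (0 : ℤ) ≤ 2 * Km + Γ := by positivity
      have h12 : (1 : ℤ) ≤ e := by exact_mod_cast he
      linarith
  have hKp : Kp = 0 := by omega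
  have hKm : Km = 0 := by omega
  refine ⟨hKp, hKm, ?_⟩
  subst hKp hKm
  have h13 : (2 : ℤ) * nm = e := by simpa using h4
  have h14 : 2 * nm = e := by exact_mod_cast h13
  omega

section

variable {G : Type*} [Group G] [Fintype G] [DecidableEq G] {p e t n : ℕ} [hp : Fact p.Prime] {z : G}
  {X Y : Finset (IrrCharacter G)} {εX : IrrCharacter G → ℤ} {ε : ℤ}

theorem BData.sign_one (D : BData G p e t n z X Y εX ε) : εX (oneIrr G) = 1 := by
  rcases D.signX _ D.one_mem with h | h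
  · exact h
  · exfalso
    have h1 := D.degX _ D.one_mem
    rw [deg_oneIrr, h] at h1
    have h2 : (p : ℤ) ∣ (-1 : ℤ) - ((1 : ℕ) : ℤ) := Int.ModEq.dvd h1
    have h3 : (p : ℤ) ∣ 2 := by
      have : (-1 : ℤ) - ((1 : ℕ) : ℤ) = -2 := by norm_num
      rw [this] at h2
      exact (dvd_neg).mp h2
    have h4 : p ∣ 2 := by exact_mod_cast h3
    exact D.hp2 ((Nat.prime_dvd_prime_iff_eq hp.out Nat.prime_two).1 h4)

/-- **Pinning.** In the case `p = 2e + 1`, `ε = -1`, all `(-)`-types have degree `p - 1`, all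
nontrivial `(+)`-types have degree `p + 1` and there are `e/2 - 1` of the latter. -/
theorem BData.pin (D : BData G p e t n z X Y εX ε) (hε : ε = -1) (hpe : p = 2 * e + 1)
    (heven : ∀ χ ∈ X, χ ≠ oneIrr G → 2 ∣ deg χ) (y : ℕ) (hy : ∀ θ ∈ Y, deg θ = y)
    (hye : y + e = p) :
    (∀ χ ∈ X, εX χ = -1 → deg χ = p - 1) ∧
    (∀ χ ∈ X, εX χ = 1 → χ ≠ oneIrr G → deg χ = p + 1) ∧
    2 * (X.filter (fun χ => εX χ = 1 ∧ χ ≠ oneIrr G)).card + 2 = e := by
  classical
  haveI : Fintype (IrrCharacter G) := Fintype.ofFinite _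
  have hpp := hp.out
  have he2 := D.he2
  have hp3 : 3 ≤ p := by omega
  have hpodd : p % 2 = 1 := by omega
  have hye' : y = e + 1 := by omega
  -- t = 2
  have ht : t = 2 := by
    have h1 := D.het
    have h2 : e * t = e * 2 := by rw [h1, hpe]; omega
    exact Nat.eq_of_mul_eq_mul_left (by omega) h2
  obtain ⟨θ1, θ2, hne, hY⟩ := Finset.card_eq_two.mp (ht ▸ D.cardY)
  have h1Y : θ1 ∈ Y := by rw [hY]; simp
  have h2Y : θ2 ∈ Y := by rw [hY]; simp
  -- the two product characters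
  have hPi : IsCharacter G (fun g => (θ1 : G → ℂ) g * conj ((θ2 : G → ℂ) g)) :=
    IsCharacter.mul (IsIrrCharacter.isCharacter θ1.2)
      (IsCharacter.conj (IsIrrCharacter.isCharacter θ2.2))
  have hLa : IsCharacter G (fun g => (θ1 : G → ℂ) g * conj ((θ1 : G → ℂ) g)) :=
    IsCharacter.mul (IsIrrCharacter.isCharacter θ1.2)
      (IsCharacter.conj (IsIrrCharacter.isCharacter θ1.2))
  obtain ⟨a, ha, hai⟩ := IsCharacter.exists_mult hPi
  obtain ⟨l, hl, hli⟩ := IsCharacter.exists_mult hLa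
  have hstar : ∀ χ ∈ X, (l χ : ℤ) - (a χ : ℤ) = εX χ := by
    intro χ hχ
    have h := D.star h1Y h2Y hne hχ
    rw [hli χ, hai χ] at h
    exact_mod_cast h
  -- the trivial character does not occur in Π
  have ha1 : a (oneIrr G) = 0 := by
    have h1 := hai (oneIrr G)
    have h2 : classInner (fun g => (θ1 : G → ℂ) g * conj ((θ2 : G → ℂ) g)) (oneIrr G : G → ℂ)
        = classInner (θ1 : G → ℂ) (θ2 : G → ℂ) := by
      unfold classInner
      congr 1
      apply Finset.sum_congr rfl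
      intro g _
      rw [oneIrr_apply, map_one, mul_one]
    rw [h2, classInner_irrCharacter, if_neg hne] at h1
    exact_mod_cast h1.symm
  -- the degree of Π
  have hdegPi : ∑ θ, a θ * deg θ = y * y := by
    have h1 := eval_one ha
    have h2 : (θ1 : G → ℂ) 1 * conj ((θ2 : G → ℂ) 1) = ((y * y : ℕ) : ℂ) := by
      rw [apply_one, apply_one, hy θ1 h1Y, hy θ2 h2Y]
      simp
    have h3 : ((y * y : ℕ) : ℂ) = ((∑ θ, a θ * deg θ : ℕ) : ℂ) := by
      rw [← h2]; exact h1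
    exact_mod_cast h3.symm
  -- the minus types
  set Xm : Finset (IrrCharacter G) := X.filter (fun χ => εX χ = -1) with hXm
  set Xp : Finset (IrrCharacter G) := X.filter (fun χ => εX χ = 1 ∧ χ ≠ oneIrr G) with hXp
  have h1Xm : oneIrr G ∉ Xm := by
    intro h
    have := (Finset.mem_filter.mp h).2
    rw [D.sign_one] at this
    norm_num at this
  have haXm : ∀ χ ∈ Xm, 1 ≤ a χ := by
    intro χ hχ
    obtain ⟨hχX, hs⟩ := Finset.mem_filter.mp hχ
    have := hstar χ hχX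
    rw [hs] at this
    have h2 : (0 : ℤ) ≤ (l χ : ℤ) := Int.natCast_nonneg _
    have h3 : (1 : ℤ) ≤ (a χ : ℤ) := by linarith
    exact_mod_cast h3
  set bf : IrrCharacter G → ℕ := fun θ => if θ ∈ Xm then a θ - 1 else a θ with hbf
  set Γ : ℕ := ∑ θ, bf θ * deg θ with hΓ
  have hsplit : y * y = ∑ χ ∈ Xm, deg χ + Γ := by
    rw [← hdegPi, hΓ]
    have h1 : ∀ θ ∈ (Finset.univ : Finset (IrrCharacter G)),
        a θ * deg θ = (if θ ∈ Xm then deg θ else 0) + bf θ * deg θ := by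
      intro θ _
      by_cases hθ : θ ∈ Xm
      · have := haXm θ hθ
        simp only [hbf, hθ, if_true]
        have h2 : a θ = 1 + (a θ - 1) := by omega
        conv_lhs => rw [h2]
        ring
      · simp only [hbf, hθ, if_false, zero_add]
    rw [Finset.sum_congr rfl h1, Finset.sum_add_distrib]
    congr 1
    rw [Finset.sum_ite_mem, Finset.univ_inter]
  have hΓ1 : Γ ≠ 1 := by
    intro h
    have hex : ∃ θ ∈ (Finset.univ : Finset (IrrCharacter G)), bf θ * deg θ ≠ 0 := by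
      by_contra hno
      push Not at hno
      have : Γ = 0 := Finset.sum_eq_zero hno
      omega
    obtain ⟨θ, _, hθ⟩ := hex
    have hle : bf θ * deg θ ≤ Γ :=
      Finset.single_le_sum (f := fun θ => bf θ * deg θ) (fun _ _ => Nat.zero_le _)
        (Finset.mem_univ θ)
    have h1 : bf θ * deg θ = 1 := by omega
    have hd1 : deg θ = 1 := Nat.eq_one_of_mul_eq_one_left h1
    have hθ1 : θ = oneIrr G := eq_oneIrr_of_deg_one D.hperf θ hd1
    have hb0 : bf θ = 0 := by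
      simp only [hbf]
      rw [hθ1, if_neg h1Xm, ha1]
    rw [hb0, zero_mul] at h1
    omega
  -- shapes of the degrees
  have hshape : ∀ χ ∈ X, χ ≠ oneIrr G → ∃ k : ℕ, (deg χ : ℤ) = p + εX χ + 2 * p * k := by
    intro χ hχ hne1
    have hd2 : 2 ≤ deg χ := by
      have h1 := deg_pos χ
      by_contra hlt
      have : deg χ = 1 := by omega
      exact hne1 (eq_oneIrr_of_deg_one D.hperf χ this)
    exact deg_shape hp3 hpodd (D.signX χ hχ) (D.degX χ hχ) (heven χ hχ hne1) hd2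
  have hkex : ∀ χ : IrrCharacter G, ∃ k : ℕ, χ ∈ X → χ ≠ oneIrr G →
      (deg χ : ℤ) = p + εX χ + 2 * p * k := by
    intro χ
    by_cases h : χ ∈ X ∧ χ ≠ oneIrr G
    · obtain ⟨k, hk⟩ := hshape χ h.1 h.2
      exact ⟨k, fun _ _ => hk⟩
    · exact ⟨0, fun h1 h2 => absurd ⟨h1, h2⟩ h⟩
  choose kf hkf using hkex
  -- membership facts
  have hXm_mem : ∀ χ ∈ Xm, χ ∈ X ∧ χ ≠ oneIrr G ∧ εX χ = -1 := by
    intro χ hχ
    obtain ⟨h1, h2⟩ := Finset.mem_filter.mp hχ
    exact ⟨h1, fun h => h1Xm (h ▸ hχ), h2⟩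
  have hXp_mem : ∀ χ ∈ Xp, χ ∈ X ∧ χ ≠ oneIrr G ∧ εX χ = 1 := by
    intro χ hχ
    obtain ⟨h1, h2, h3⟩ := Finset.mem_filter.mp hχ
    exact ⟨h1, h3, h2⟩
  -- X.erase 1 = Xp ∪ Xm
  have hdisj : Disjoint Xp Xm := by
    rw [Finset.disjoint_left]
    intro χ h1 h2
    have := (hXp_mem χ h1).2.2
    rw [(hXm_mem χ h2).2.2] at this
    norm_num at this
  have hunion : X.erase (oneIrr G) = Xp ∪ Xm := by
    ext χ
    simp only [Finset.mem_erase, Finset.mem_union, hXp, hXm, Finset.mem_filter]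
    constructor
    · rintro ⟨h1, h2⟩
      rcases D.signX χ h2 with h | h
      · left; exact ⟨h2, h, h1⟩
      · right; exact ⟨h2, h⟩
    · rintro (⟨h1, h2, h3⟩ | ⟨h1, h2⟩)
      · exact ⟨h3, h1⟩
      · refine ⟨?_, h1⟩
        intro h
        rw [h, D.sign_one] at h2
        norm_num at h2
  have hcards : Xp.card + Xm.card = e - 1 := by
    rw [← Finset.card_union_of_disjoint hdisj, ← hunion, Finset.card_erase_of_mem D.one_mem,
      D.cardX]
  set Kp : ℕ := ∑ χ ∈ Xp, kf χ with hKp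
  set Km : ℕ := ∑ χ ∈ Xm, kf χ with hKm
  -- the degree relation
  have hrel : -(y : ℤ) = ∑ χ ∈ X, εX χ * (deg χ : ℤ) := by
    have h1 := D.rel_deg hy
    rw [hε] at h1
    have h2 : ((-1 : ℤ) : ℂ) * (y : ℂ) = (((-(y : ℤ)) : ℤ) : ℂ) := by push_cast; ring
    rw [h2] at h1
    have h3 : ∑ χ ∈ X, (εX χ : ℂ) * (deg χ : ℂ) = ((∑ χ ∈ X, εX χ * (deg χ : ℤ) : ℤ) : ℂ) := by
      push_cast; rfl
    rw [h3] at h1
    exact_mod_cast h1
  have hsumP : ∑ χ ∈ Xp, εX χ * (deg χ : ℤ) = (Xp.card : ℤ) * (p + 1) + 2 * p * Kp := by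
    have h1 : ∀ χ ∈ Xp, εX χ * (deg χ : ℤ) = ((p : ℤ) + 1) + 2 * p * (kf χ : ℤ) := by
      intro χ hχ
      obtain ⟨h1, h2, h3⟩ := hXp_mem χ hχ
      rw [hkf χ h1 h2, h3]; ring
    rw [Finset.sum_congr rfl h1, Finset.sum_add_distrib, Finset.sum_const, ← Finset.mul_sum,
      hKp]
    push_cast
    simp only [nsmul_eq_mul]
  have hsumM : ∑ χ ∈ Xm, εX χ * (deg χ : ℤ) = -((Xm.card : ℤ) * (p - 1) + 2 * p * Km) := by
    have h1 : ∀ χ ∈ Xm, εX χ * (deg χ : ℤ) = -(((p : ℤ) - 1) + 2 * p * (kf χ : ℤ)) := by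
      intro χ hχ
      obtain ⟨h1, h2, h3⟩ := hXm_mem χ hχ
      rw [hkf χ h1 h2, h3]; ring
    rw [Finset.sum_congr rfl h1, Finset.sum_neg_distrib, Finset.sum_add_distrib,
      Finset.sum_const, ← Finset.mul_sum, hKm]
    push_cast
    simp only [nsmul_eq_mul]
  have hsumMdeg : ∑ χ ∈ Xm, deg χ = Xm.card * (2 * e) + 2 * (2 * e + 1) * Km := by
    have h1 : ∀ χ ∈ Xm, deg χ = 2 * e + 2 * (2 * e + 1) * kf χ := by
      intro χ hχ
      obtain ⟨h1, h2, h3⟩ := hXm_mem χ hχ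
      have h4 := hkf χ h1 h2
      rw [h3, hpe] at h4
      have h5 : (deg χ : ℤ) = ((2 * e + 2 * (2 * e + 1) * kf χ : ℕ) : ℤ) := by
        rw [h4]; push_cast; ring
      exact_mod_cast h5
    rw [Finset.sum_congr rfl h1, Finset.sum_add_distrib, Finset.sum_const, ← Finset.mul_sum,
      hKm, smul_eq_mul]
  -- E2
  have hE2 : (Xp.card : ℤ) - Xm.card + 2 * Kp - 2 * Km = -1 := by
    rw [← Finset.add_sum_erase X _ D.one_mem, D.sign_one, deg_oneIrr, hunion,
      Finset.sum_union hdisj, hsumP, hsumM] at hrel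
    have hc : (Xp.card : ℤ) + Xm.card = e - 1 := by
      have := congrArg (Nat.cast : ℕ → ℤ) hcards
      push_cast [Nat.cast_sub (by omega : 1 ≤ e)] at this
      exact this
    have hpz : (p : ℤ) = 2 * e + 1 := by exact_mod_cast hpe
    have hyz : (y : ℤ) = e + 1 := by exact_mod_cast hye'
    rw [hyz] at hrel
    -- -(e+1) = 1 + np (p+1) + 2 p Kp - nm (p-1) - 2 p Km
    have h1 : (p : ℤ) * ((Xp.card : ℤ) - Xm.card + 2 * Kp - 2 * Km) = -(p : ℤ) := by
      have : (p : ℤ) * ((Xp.card : ℤ) - Xm.card + 2 * Kp - 2 * Km)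
          = ((Xp.card : ℤ) * (p + 1) + 2 * p * Kp) + -((Xm.card : ℤ) * (p - 1) + 2 * p * Km)
            - ((Xp.card : ℤ) + Xm.card) := by ring
      rw [this, hc]
      push_cast at hrel
      linarith
    have hp0 : (p : ℤ) ≠ 0 := by exact_mod_cast hpp.ne_zero
    have h2 : (p : ℤ) * ((Xp.card : ℤ) - Xm.card + 2 * Kp - 2 * Km) = (p : ℤ) * (-1) := by
      rw [h1]; ring
    exact mul_left_cancel₀ hp0 h2
  have hE3 : (e + 1) * (e + 1) = Xm.card * (2 * e) + 2 * (2 * e + 1) * Km + Γ := by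
    rw [← hsumMdeg, ← hsplit, hye']
  obtain ⟨hKp0, hKm0, hcardp⟩ := pin_arith (by omega : 1 ≤ e) hcards hE2 hE3 hΓ1
  refine ⟨?_, ?_, hcardp⟩
  · intro χ hχ hs
    have hχm : χ ∈ Xm := Finset.mem_filter.mpr ⟨hχ, hs⟩
    have hk0 : kf χ = 0 := (Finset.sum_eq_zero_iff.mp hKm0) χ hχm
    obtain ⟨h1, h2, h3⟩ := hXm_mem χ hχm
    have h4 := hkf χ h1 h2
    rw [h3, hk0] at h4
    have h5 : (deg χ : ℤ) = ((p - 1 : ℕ) : ℤ) := by
      rw [h4, Nat.cast_sub hpp.one_lt.le]; push_cast; ring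
    exact_mod_cast h5
  · intro χ hχ hs hne1
    have hχp : χ ∈ Xp := Finset.mem_filter.mpr ⟨hχ, hs, hne1⟩
    have hk0 : kf χ = 0 := (Finset.sum_eq_zero_iff.mp hKp0) χ hχp
    have h4 := hkf χ hχ hne1
    rw [hs, hk0] at h4
    have h5 : (deg χ : ℤ) = ((p + 1 : ℕ) : ℤ) := by
      rw [h4]; push_cast; ring
    exact_mod_cast h5

end

end Cfsg.Agent.Lib.Helper8.Brt
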