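import Mathlib
import Cfsg.Agent.Lib.Helper6.ClassMult
import Cfsg.Agent.Lib.Helper8.Brt8
import Cfsg.Agent.Lib.Helper8.Brt10

/-!
# Brauer–Tuan (S0997), part 11: the class-multiplication sum `(s, s) → z` for an involution `s`.
-/

set_option autoImplicit false
set_option linter.unusedSectionVars false
set_option linter.unusedVariables false
set_option linter.style.longLine false
set_option linter.unusedSimpArgs false

set_option maxHeartbeats 1600000
namespace Cfsg.Agent.Lib.Helper8.Brt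
open Subgroup Cfsg Cfsg.Agent.Lib.Helper6 Cfsg.Agent.Lib.Helper7.Bt Cfsg.Agent.Lib.Helper9.Art
open scoped ComplexConjugate

section

variable {G : Type*} [Group G] [Fintype G]

/-- character values at involutions are rational integers -/
theorem invol_int (χ : IrrCharacter G) (s : G) (hs : orderOf s = 2) :
    ∃ m : ℤ, (χ : G → ℂ) s = (m : ℂ) := by
  obtain ⟨a, ha⟩ := invol_value (χ : G → ℂ) (IsIrrCharacter.isCharacter χ.2) s hs
  rw [apply_one] at ha
  refine ⟨2 * (a : ℤ) - (deg χ : ℤ), ?_⟩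
  push_cast
  linear_combination ha

end

section

variable {G : Type*} [Group G] [Fintype G] [DecidableEq G] {p e t n : ℕ} [hp : Fact p.Prime] {z : G}
  {X Y : Finset (IrrCharacter G)} {εX : IrrCharacter G → ℤ} {ε : ℤ}

theorem BData.z_mem (D : BData G p e t n z X Y εX ε) : z ∈ zpowers z := mem_zpowers z

theorem BData.invol_regular (D : BData G p e t n z X Y εX ε) {s : G} (hs : orderOf s = 2) :
    ¬ p ∣ orderOf s := by
  rw [hs]
  intro h
  exact D.hp2 ((Nat.prime_dvd_prime_iff_eq hp.out Nat.prime_two).1 h)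

/-- the class-multiplication sum for `(s, s) → z`, `s` an involution, `ε = -1` -/
theorem BData.classmult (D : BData G p e t n z X Y εX ε) (hε : ε = -1) (y : ℕ)
    (hy : ∀ θ ∈ Y, deg θ = y) {θ₀ : IrrCharacter G} (hθ₀ : θ₀ ∈ Y) {s : G}
    (hs : orderOf s = 2) [Fintype (IrrCharacter G)] :
    ∑ χ : IrrCharacter G,
        (χ : G → ℂ) s * (χ : G → ℂ) s * conj ((χ : G → ℂ) z) / (χ : G → ℂ) 1
      = ∑ χ ∈ X, (χ : G → ℂ) s * (χ : G → ℂ) s * (εX χ : ℂ) / (deg χ : ℂ)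
        + (θ₀ : G → ℂ) s * (θ₀ : G → ℂ) s / (y : ℂ) := by
  classical
  have hz1 : z ≠ 1 := D.hyp.z_ne_one
  have hzP : z ∈ zpowers z := mem_zpowers z
  rw [D.sum_split]
  have hZ : ∑ χ ∈ Finset.univ.filter (fun χ : IrrCharacter G => χ ∉ X ∧ χ ∉ Y),
      (χ : G → ℂ) s * (χ : G → ℂ) s * conj ((χ : G → ℂ) z) / (χ : G → ℂ) 1 = 0 := by
    apply Finset.sum_eq_zero
    intro χ hχ
    rw [Finset.mem_filter] at hχ
    rw [D.vanish χ hχ.2.1 hχ.2.2 z (D.orderOf_P hzP hz1), map_zero, mul_zero, zero_div]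
  have hX : ∑ χ ∈ X, (χ : G → ℂ) s * (χ : G → ℂ) s * conj ((χ : G → ℂ) z) / (χ : G → ℂ) 1
      = ∑ χ ∈ X, (χ : G → ℂ) s * (χ : G → ℂ) s * (εX χ : ℂ) / (deg χ : ℂ) := by
    apply Finset.sum_congr rfl
    intro χ hχ
    rw [D.valX χ hχ z hzP hz1, apply_one]
    simp
  have hreg : ¬ p ∣ orderOf s := D.invol_regular hs
  have hypos : 0 < y := by rw [← hy θ₀ hθ₀]; exact deg_pos θ₀
  have hy0 : (y : ℂ) ≠ 0 := by exact_mod_cast hypos.ne'
  have hY : ∑ θ ∈ Y, (θ : G → ℂ) s * (θ : G → ℂ) s * conj ((θ : G → ℂ) z) / (θ : G → ℂ) 1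
      = (θ₀ : G → ℂ) s * (θ₀ : G → ℂ) s / (y : ℂ) := by
    have h1 : ∀ θ ∈ Y, (θ : G → ℂ) s * (θ : G → ℂ) s * conj ((θ : G → ℂ) z) / (θ : G → ℂ) 1
        = (θ₀ : G → ℂ) s * (θ₀ : G → ℂ) s / (y : ℂ) * conj ((θ : G → ℂ) z) := by
      intro θ hθ
      rw [D.agree θ hθ θ₀ hθ₀ s hreg, apply_one, hy θ hθ]
      field_simp
    rw [Finset.sum_congr rfl h1, ← Finset.mul_sum, ← map_sum, D.sum_Y_apply hzP hz1, hε]
    simp
  rw [hX, hY, hZ, add_zero]

end

end Cfsg.Agent.Lib.Helper8.Brt
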