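import Mathlib
import Cfsg.Agent.Lib.Helper6.ClassSum
import Cfsg.Agent.Lib.Lead.SylowCount
import Cfsg.Agent.Lib.Helper7.BReyJ

/-!
# Brauer–Tuan (S0997), part 12: group-theoretic lemmas for the endgame.
-/

set_option autoImplicit false
set_option linter.unusedSectionVars false
set_option linter.unusedVariables false
set_option linter.style.longLine false

namespace Cfsg.Agent.Lib.Helper8.Brt

open Cfsg Cfsg.Agent.Lib.Helper6

variable {G : Type*} [Group G] [Finite G]

/-- a `2`-central involution: its centralizer contains a full Sylow `2`-subgroup -/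
theorem exists_two_central (b m : ℕ) (hb : 1 ≤ b) (hcard : Nat.card G = 2 ^ b * m)
    (hm : ¬ 2 ∣ m) :
    ∃ σ : G, orderOf σ = 2 ∧ ¬ 2 ∣ (Subgroup.centralizer ({σ} : Set G)).index ∧
      2 ^ b ∣ Nat.card (Subgroup.centralizer ({σ} : Set G)) := by
  classical
  haveI : Fact (Nat.Prime 2) := ⟨Nat.prime_two⟩
  obtain S : Sylow 2 G := default
  have hS : Nat.card S = 2 ^ b :=
    Cfsg.Agent.Lib.Lead.SylowCount.card_sylow_of_card_eq_pow 2 b m hcard hm S
  have hSnt : Nontrivial (S : Subgroup G) := by
    rw [← Finite.one_lt_card_iff_nontrivial]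
    show 1 < Nat.card S
    rw [hS]
    exact Nat.one_lt_two_pow (by omega)
  have hSp : IsPGroup 2 (S : Subgroup G) := S.isPGroup'
  haveI := hSnt
  have hZnt : Nontrivial (Subgroup.center (S : Subgroup G)) := hSp.center_nontrivial
  have hZp : IsPGroup 2 (Subgroup.center (S : Subgroup G)) := hSp.to_subgroup _
  have h2Z : 2 ∣ Nat.card (Subgroup.center (S : Subgroup G)) := by
    rcases hZp.card_eq_or_dvd with h | h
    · exfalso
      have := (Finite.one_lt_card_iff_nontrivial).mpr hZnt
      omega
    · exact h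
  obtain ⟨c, hc⟩ := exists_prime_orderOf_dvd_card' (G := Subgroup.center (S : Subgroup G)) 2 h2Z
  set σ : G := ((c : (S : Subgroup G)) : G) with hσ
  have hσ2 : orderOf σ = 2 := by
    rw [hσ, Subgroup.orderOf_coe, Subgroup.orderOf_coe, hc]
  have hle : (S : Subgroup G) ≤ Subgroup.centralizer ({σ} : Set G) := by
    intro s hs
    rw [Subgroup.mem_centralizer_iff]
    intro x hx
    rw [Set.mem_singleton_iff] at hx
    subst hx
    have h1 : (⟨s, hs⟩ : (S : Subgroup G)) * (c : (S : Subgroup G))
        = (c : (S : Subgroup G)) * ⟨s, hs⟩ := Subgroup.mem_center_iff.mp c.2 ⟨s, hs⟩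
    have h2 : s * ((c : (S : Subgroup G)) : G) = ((c : (S : Subgroup G)) : G) * s := by
      have := congrArg (fun w : (S : Subgroup G) => (w : G)) h1
      simpa using this
    exact h2.symm
  have hdvd : 2 ^ b ∣ Nat.card (Subgroup.centralizer ({σ} : Set G)) := by
    have := Subgroup.card_dvd_of_le hle
    rw [show Nat.card (S : Subgroup G) = 2 ^ b from hS] at this
    exact this
  refine ⟨σ, hσ2, ?_, hdvd⟩
  intro h2
  have h3 := Subgroup.card_mul_index (Subgroup.centralizer ({σ} : Set G))
  rw [hcard] at h3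
  obtain ⟨u, hu⟩ := hdvd
  obtain ⟨w, hw⟩ := h2
  rw [hu, hw] at h3
  have h4 : 2 ^ b * (2 * (u * w)) = 2 ^ b * m := by rw [← h3]; ring
  have h5 : 2 * (u * w) = m := Nat.eq_of_mul_eq_mul_left (by positivity) h4
  exact hm ⟨u * w, h5.symm⟩

/-- conjugate elements have centralizers of the same order -/
theorem card_centralizer_of_isConj {a b : G} (h : IsConj a b) :
    Nat.card (Subgroup.centralizer ({a} : Set G)) = Nat.card (Subgroup.centralizer ({b} : Set G)) := by
  classical
  haveI : Fintype G := Fintype.ofFinite G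
  have h1 := card_conj_mul_card_centralizer a
  have h2 := card_conj_mul_card_centralizer b
  have h3 : (Finset.univ.filter (fun x : G => IsConj a x))
      = (Finset.univ.filter (fun x : G => IsConj b x)) := by
    ext x
    simp only [Finset.mem_filter, Finset.mem_univ, true_and]
    exact ⟨fun hx => h.symm.trans hx, fun hx => h.trans hx⟩
  rw [h3] at h1
  have hpos : 0 < (Finset.univ.filter (fun x : G => IsConj b x)).card := by
    rw [Finset.card_pos]
    exact ⟨b, Finset.mem_filter.mpr ⟨Finset.mem_univ _, IsConj.refl b⟩⟩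
  have h4 : (Finset.univ.filter (fun x : G => IsConj b x)).card
      * Nat.card (Subgroup.centralizer ({a} : Set G))
      = (Finset.univ.filter (fun x : G => IsConj b x)).card
      * Nat.card (Subgroup.centralizer ({b} : Set G)) := by rw [h1, h2]
  exact Nat.eq_of_mul_eq_mul_left hpos h4

/-- a product of two conjugates of an involution `σ` equal to `z` forces `σ ~ τ` -/
theorem isConj_of_prod (p : ℕ) [hp : Fact p.Prime] {z : G} (hz : orderOf z = p)
    (hC : Subgroup.centralizer ({z} : Set G) = Subgroup.zpowers z) (hp2 : p ≠ 2) {σ τ : G}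
    (hσ : orderOf σ = 2)
    (hτN : τ ∈ Subgroup.normalizer ((Subgroup.zpowers z : Subgroup G) : Set G))
    (hτ : orderOf τ = 2) {g h : G} (hgh : g * σ * g⁻¹ * (h * σ * h⁻¹) = z) : IsConj σ τ := by
  set u : G := g * σ * g⁻¹ with hu
  set v : G := h * σ * h⁻¹ with hv
  have hσσ : σ * σ = 1 := by
    have := pow_orderOf_eq_one σ
    rw [hσ, pow_two] at this
    exact this
  have huu : u * u = 1 := by
    rw [hu]
    calc g * σ * g⁻¹ * (g * σ * g⁻¹) = g * (σ * σ) * g⁻¹ := by group
      _ = 1 := by rw [hσσ]; group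
  have hvv : v * v = 1 := by
    rw [hv]
    calc h * σ * h⁻¹ * (h * σ * h⁻¹) = h * (σ * σ) * h⁻¹ := by group
      _ = 1 := by rw [hσσ]; group
  have huinv : u⁻¹ = u := inv_eq_of_mul_eq_one_left huu
  have hvinv : v⁻¹ = v := inv_eq_of_mul_eq_one_left hvv
  have hinv : u * z * u⁻¹ = z⁻¹ := by
    rw [← hgh, huinv, mul_inv_rev, huinv, hvinv]
    calc u * (u * v) * u = (u * u) * v * u := by group
      _ = v * u := by rw [huu, one_mul]
  have huN := Cfsg.Agent.Lib.Helper7.BReyJ.mem_N_of_inverts hinv
  have hσu : IsConj σ u := isConj_iff.mpr ⟨g, rfl⟩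
  have hu2 : orderOf u = 2 := by
    rw [hu]
    have : orderOf (g * σ * g⁻¹) = orderOf σ := by
      have := orderOf_injective (MulAut.conj g).toMonoidHom (MulAut.conj g).injective σ
      simpa using this
    rw [this, hσ]
  have huτ := Cfsg.Agent.Lib.Helper7.BReyJ.involution_conj_of_mem_N p hz hC hp2 huN hu2 hτN hτ
  exact hσu.trans huτ

end Cfsg.Agent.Lib.Helper8.Brt
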