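import Mathlib
import Cfsg.Agent.Lib.Helper7.BReyI
import Cfsg.Agent.Lib.Helper8.Brt11
import Cfsg.Agent.Lib.Helper8.Brt12

/-!
# Brauer–Tuan (S0997), part 13: the endgame (Burnside's trick + class constants).
-/

set_option autoImplicit false
set_option linter.unusedSectionVars false
set_option linter.unusedVariables false
set_option linter.style.longLine false
set_option linter.unusedSimpArgs false

set_option maxHeartbeats 1600000
namespace Cfsg.Agent.Lib.Helper8.Brt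
open Subgroup Cfsg Cfsg.Agent.Lib.Helper6 Cfsg.Agent.Lib.Helper7.Bt Cfsg.Agent.Lib.Helper9.Art
open scoped ComplexConjugate

theorem endgame_arith {p e y np : ℕ} (hy : y + e = p) (hypos : 0 < y) (hnp : 2 * np + 2 ≤ e)
    (hcase : e = 2 ∨ p = 2 * e + 1) :
    (1 : ℝ) + 4 * (np : ℝ) / ((p : ℝ) + 1) + 1 / (y : ℝ) ≤ ((p : ℝ) - 1) / (y : ℝ) := by
  have hy0 : (0 : ℝ) < y := by exact_mod_cast hypos
  rcases hcase with h2 | h2
  · have hnp0 : np = 0 := by omega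
    have hp : (p : ℝ) = y + 2 := by
      have : p = y + 2 := by omega
      rw [this]; push_cast; ring
    rw [hnp0, hp]
    have : ((y : ℝ) + 2 - 1) / y = 1 + 1 / y := by field_simp; ring
    rw [this]
    simp
  · have hye : y = e + 1 := by omega
    have hp : (p : ℝ) = 2 * e + 1 := by rw [h2]; push_cast; ring
    have hyr : (y : ℝ) = e + 1 := by rw [hye]; push_cast; ring
    have hp1 : (p : ℝ) + 1 = 2 * y := by rw [hp, hyr]; ring
    have h1 : 4 * (np : ℝ) / ((p : ℝ) + 1) = 2 * (np : ℝ) / y := by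
      rw [hp1]; field_simp; ring
    rw [h1]
    have h3 : (1 : ℝ) + 2 * (np : ℝ) / y + 1 / y = (y + 2 * np + 1) / y := by
      field_simp
    rw [h3]
    apply div_le_div_of_nonneg_right _ hy0.le
    have h4 : (2 * (np : ℝ) + 2) ≤ e := by exact_mod_cast hnp
    rw [hp, hyr]
    linarith

section

variable {G : Type*} [Group G] [Fintype G] [DecidableEq G] {p e t n : ℕ} [hp : Fact p.Prime] {z : G}
  {X Y : Finset (IrrCharacter G)} {εX : IrrCharacter G → ℤ} {ε : ℤ}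

theorem BData.rel_int (D : BData G p e t n z X Y εX ε) (hε : ε = -1) (y : ℕ)
    (hy : ∀ θ ∈ Y, deg θ = y) : -(y : ℤ) = ∑ χ ∈ X, εX χ * (deg χ : ℤ) := by
  have h1 := D.rel_deg hy
  rw [hε] at h1
  have h2 : ((-1 : ℤ) : ℂ) * (y : ℂ) = (((-(y : ℤ)) : ℤ) : ℂ) := by push_cast; ring
  rw [h2] at h1
  have h3 : ∑ χ ∈ X, (εX χ : ℂ) * (deg χ : ℂ) = ((∑ χ ∈ X, εX χ * (deg χ : ℤ) : ℤ) : ℂ) := by
    push_cast; rfl
  rw [h3] at h1
  exact_mod_cast h1

/-- the real form of the class-multiplication count for an involution -/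
theorem BData.count_real (D : BData G p e t n z X Y εX ε) (hε : ε = -1) (y : ℕ)
    (hy : ∀ θ ∈ Y, deg θ = y) {θ₀ : IrrCharacter G} (hθ₀ : θ₀ ∈ Y) {s : G}
    (hs : orderOf s = 2) (mf : IrrCharacter G → ℤ)
    (hmf : ∀ χ : IrrCharacter G, (χ : G → ℂ) s = (mf χ : ℂ)) :
    ((Finset.univ.filter (fun q : G × G => q.1 * s * q.1⁻¹ * (q.2 * s * q.2⁻¹) = z)).card : ℝ)
      = (Nat.card G : ℝ) * (∑ χ ∈ X, (mf χ : ℝ) ^ 2 * (εX χ : ℝ) / (deg χ : ℝ)
          + (mf θ₀ : ℝ) ^ 2 / (y : ℝ)) := by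
  classical
  haveI : Fintype (IrrCharacter G) := Fintype.ofFinite _
  have h1 := card_conj_mul_conj_eq s s z
  rw [D.classmult hε y hy hθ₀ hs] at h1
  have h2 : ∑ χ ∈ X, (χ : G → ℂ) s * (χ : G → ℂ) s * (εX χ : ℂ) / (deg χ : ℂ)
        + (θ₀ : G → ℂ) s * (θ₀ : G → ℂ) s / (y : ℂ)
      = ((∑ χ ∈ X, (mf χ : ℝ) ^ 2 * (εX χ : ℝ) / (deg χ : ℝ)
          + (mf θ₀ : ℝ) ^ 2 / (y : ℝ) : ℝ) : ℂ) := by
    push_cast
    congr 1
    · apply Finset.sum_congr rfl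
      intro χ _
      rw [hmf χ]; ring
    · rw [hmf θ₀]; ring
  rw [h2] at h1
  have h3 : ((((Finset.univ.filter
      (fun q : G × G => q.1 * s * q.1⁻¹ * (q.2 * s * q.2⁻¹) = z)).card : ℝ) : ℝ) : ℂ)
      = (((Nat.card G : ℝ) * (∑ χ ∈ X, (mf χ : ℝ) ^ 2 * (εX χ : ℝ) / (deg χ : ℝ)
          + (mf θ₀ : ℝ) ^ 2 / (y : ℝ)) : ℝ) : ℂ) := by
    push_cast
    push_cast at h1
    exact h1
  exact_mod_cast h3

end

end Cfsg.Agent.Lib.Helper8.Brt
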