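import Mathlib
import Cfsg.Agent.Lib.Helper8.Brt13

/-!
# Brauer–Tuan (S0997), part 14: the endgame theorem `b ≤ κ`.
-/

set_option autoImplicit false
set_option linter.unusedSectionVars false
set_option linter.unusedVariables false
set_option linter.style.longLine false
set_option linter.unusedSimpArgs false

set_option maxHeartbeats 1600000
namespace Cfsg.Agent.Lib.Helper8.Brt
open Subgroup Cfsg Cfsg.Agent.Lib.Helper6 Cfsg.Agent.Lib.Helper7.Bt Cfsg.Agent.Lib.Helper9.Art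
open scoped ComplexConjugate

section

variable {G : Type*} [Group G] [Fintype G] [DecidableEq G] {p e t n : ℕ} [hp : Fact p.Prime] {z : G}
  {X Y : Finset (IrrCharacter G)} {εX : IrrCharacter G → ℤ} {ε : ℤ}

/-- **Endgame.** Burnside's trick: a `2`-central involution is conjugate to the involution
`τ` of `N(P)`; the class constant `(τ, τ) → z` then bounds the `2`-part of `|G|`. -/
theorem endgame [IsSimpleGroup G] (D : BData G p e t n z X Y εX ε) (hε : ε = -1)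
    (y b κ : ℕ) (hy : ∀ θ ∈ Y, deg θ = y) (hye : y + e = p) (heven : 2 ∣ e)
    (hcase : e = 2 ∨ p = 2 * e + 1) (hcard : Nat.card G = p * 2 ^ b * y) (hyodd : ¬ 2 ∣ y)
    (hκ : p - 1 = 2 ^ κ) (hm : ∀ χ ∈ X, εX χ = -1 → deg χ = p - 1)
    (hpl : ∀ χ ∈ X, εX χ = 1 → χ ≠ oneIrr G → deg χ = p + 1)
    (hnp : 2 * (X.filter (fun χ => εX χ = 1 ∧ χ ≠ oneIrr G)).card + 2 ≤ e) : b ≤ κ := by
  classical
  haveI : Fintype (IrrCharacter G) := Fintype.ofFinite _
  have hpp := hp.out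
  have hp2 := D.hp2
  have hp3 : 3 ≤ p := by
    have := hpp.two_le
    omega
  have hz := D.hyp.hz
  have hC := D.hyp.hC
  have hYne : Y.Nonempty := by rw [← Finset.card_pos, D.cardY]; exact D.t_pos
  obtain ⟨θ₀, hθ₀⟩ := hYne
  have hypos : 0 < y := by rw [← hy θ₀ hθ₀]; exact deg_pos θ₀
  have hpodd : ¬ 2 ∣ p := by
    intro h
    exact hp2 ((Nat.prime_dvd_prime_iff_eq Nat.prime_two hpp).1 h).symm
  -- κ ≥ 1
  have hκ1 : 1 ≤ κ := by
    rcases Nat.eq_zero_or_pos κ with h | h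
    · rw [h, pow_zero] at hκ; omega
    · exact h
  -- a minus type exists
  have hexm : ∃ χ ∈ X, εX χ = -1 := by
    by_contra hno
    push Not at hno
    have hall : ∀ χ ∈ X, εX χ = 1 := fun χ hχ => (D.signX χ hχ).resolve_right (hno χ hχ)
    have hpos : (0 : ℤ) ≤ ∑ χ ∈ X, εX χ * (deg χ : ℤ) := by
      apply Finset.sum_nonneg
      intro χ hχ
      rw [hall χ hχ, one_mul]
      exact Int.natCast_nonneg _
    rw [← D.rel_int hε y hy] at hpos
    have : (0 : ℤ) < (y : ℤ) := by exact_mod_cast hypos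
    omega
  obtain ⟨χm, hχmX, hχms⟩ := hexm
  have hdegm : deg χm = 2 ^ κ := by rw [hm χm hχmX hχms, hκ]
  have hodd' : ¬ 2 ∣ p * y := by
    intro h
    rcases (Nat.Prime.dvd_mul Nat.prime_two).mp h with h1 | h1
    · exact hpodd h1
    · exact hyodd h1
  have hcard' : Nat.card G = 2 ^ b * (p * y) := by rw [hcard]; ring
  have hκb : κ ≤ b := by
    have h1 : 2 ^ κ ∣ 2 ^ b * (p * y) := by rw [← hcard', ← hdegm]; exact deg_dvd χm
    have hcop : Nat.Coprime (2 ^ κ) (p * y) :=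
      Nat.Coprime.pow_left κ ((Nat.Prime.coprime_iff_not_dvd Nat.prime_two).mpr hodd')
    have h2 : 2 ^ κ ∣ 2 ^ b := Nat.Coprime.dvd_of_dvd_mul_right hcop h1
    exact (Nat.pow_dvd_pow_iff_le_right (by norm_num)).mp h2
  have hb1 : 1 ≤ b := le_trans hκ1 hκb
  -- the 2-central involution
  obtain ⟨σ, hσ2, hσodd, hσdvd⟩ := exists_two_central b (p * y) hb1 hcard' hodd'
  -- the involution of N
  have hN2 : 2 ∣ Nat.card (NN z) := by
    rw [D.hyp.card_N, D.he]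
    exact Dvd.dvd.mul_left heven p
  haveI : Fact (Nat.Prime 2) := ⟨Nat.prime_two⟩
  obtain ⟨τ₀, hτ₀⟩ := exists_prime_orderOf_dvd_card' (G := NN z) 2 hN2
  set τ : G := (τ₀ : G) with hτdef
  have hτ2 : orderOf τ = 2 := by rw [hτdef, Subgroup.orderOf_coe, hτ₀]
  have hτN : τ ∈ NN z := τ₀.2
  have hτP : τ ∉ zpowers z := Cfsg.Agent.Lib.Helper7.BReyI.invol_not_mem p hz hp2 hτ2
  -- integer values
  have hexσ : ∀ χ : IrrCharacter G, ∃ m : ℤ, (χ : G → ℂ) σ = (m : ℂ) := fun χ =>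
    invol_int χ σ hσ2
  have hexτ : ∀ χ : IrrCharacter G, ∃ m : ℤ, (χ : G → ℂ) τ = (m : ℂ) := fun χ =>
    invol_int χ τ hτ2
  choose mσ hmσ using hexσ
  choose mτ hmτ using hexτ
  have hGpos : (0 : ℝ) < (Nat.card G : ℝ) := by
    have : 0 < Nat.card G := Nat.card_pos
    exact_mod_cast this
  have hy0 : (0 : ℝ) < y := by exact_mod_cast hypos
  have hdegpos : ∀ χ : IrrCharacter G, (0 : ℝ) < (deg χ : ℝ) := fun χ => by
    exact_mod_cast deg_pos χ
  have hone_val : ∀ s : G, ∀ m : ℤ, ((oneIrr G : IrrCharacter G) : G → ℂ) s = (m : ℂ) → m = 1 := by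
    intro s m h
    rw [oneIrr_apply] at h
    exact_mod_cast h.symm
  -- Step (2): σ is conjugate to τ
  have hconj : IsConj σ τ := by
    have hcount := D.count_real hε y hy hθ₀ hσ2 mσ hmσ
    have hvan : ∀ χ ∈ X, εX χ = -1 → mσ χ = 0 := by
      intro χ hχ hs
      have h1 := vanish_of_two_central D.hperf χ κ hκ1 (by rw [← hκ]; exact hm χ hχ hs) σ hσ2 hσodd
      rw [hmσ χ] at h1
      exact_mod_cast h1
    have hR : (1 : ℝ) ≤ ∑ χ ∈ X, (mσ χ : ℝ) ^ 2 * (εX χ : ℝ) / (deg χ : ℝ)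
        + (mσ θ₀ : ℝ) ^ 2 / (y : ℝ) := by
      have h1 : (1 : ℝ) ≤ ∑ χ ∈ X, (mσ χ : ℝ) ^ 2 * (εX χ : ℝ) / (deg χ : ℝ) := by
        rw [← Finset.add_sum_erase X _ D.one_mem]
        have h2 : (mσ (oneIrr G) : ℝ) ^ 2 * (εX (oneIrr G) : ℝ) / (deg (oneIrr G) : ℝ) = 1 := by
          rw [hone_val σ _ (hmσ (oneIrr G)), D.sign_one, deg_oneIrr]
          norm_num
        rw [h2]
        have h3 : (0 : ℝ) ≤ ∑ χ ∈ X.erase (oneIrr G),
            (mσ χ : ℝ) ^ 2 * (εX χ : ℝ) / (deg χ : ℝ) := by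
          apply Finset.sum_nonneg
          intro χ hχ
          have hχX := Finset.mem_of_mem_erase hχ
          rcases D.signX χ hχX with hs | hs
          · rw [hs]
            have := hdegpos χ
            positivity
          · rw [hvan χ hχX hs]
            simp
        linarith
      have h4 : (0 : ℝ) ≤ (mσ θ₀ : ℝ) ^ 2 / (y : ℝ) := by positivity
      linarith
    have hcpos : (0 : ℝ) < ((Finset.univ.filter
        (fun q : G × G => q.1 * σ * q.1⁻¹ * (q.2 * σ * q.2⁻¹) = z)).card : ℝ) := by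
      rw [hcount]
      exact mul_pos hGpos (by linarith)
    have hne : (Finset.univ.filter
        (fun q : G × G => q.1 * σ * q.1⁻¹ * (q.2 * σ * q.2⁻¹) = z)).Nonempty := by
      rw [← Finset.card_pos]
      exact_mod_cast hcpos
    obtain ⟨q, hq⟩ := hne
    rw [Finset.mem_filter] at hq
    exact isConj_of_prod p hz hC hp2 hσ2 hτN hτ2 hq.2
  -- so 2^b divides |C(τ)|
  set cτ : ℕ := Nat.card (Subgroup.centralizer ({τ} : Set G)) with hcτ
  have hcdvd : 2 ^ b ∣ cτ := by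
    rw [hcτ, ← card_centralizer_of_isConj hconj]
    exact hσdvd
  have hcτpos : 0 < cτ := Nat.card_pos
  have hble : 2 ^ b ≤ cτ := Nat.le_of_dvd hcτpos hcdvd
  -- Step (3): the count for τ
  have hcountτ := D.count_real hε y hy hθ₀ hτ2 mτ hmτ
  have hpairs := card_conj_pairs τ τ z
  have hinv := Cfsg.Agent.Lib.Helper7.BReyI.card_involution_pairs p hz hC hp2 τ hτ2 hτN
  rw [hinv] at hpairs
  rw [hpairs] at hcountτ
  -- bounds on the values at τ
  have hbplus : ∀ χ ∈ X, εX χ = 1 → χ ≠ oneIrr G → (mτ χ : ℝ) ^ 2 ≤ 4 := by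
    intro χ hχ hs hne
    have h1 := D.plus_le_two hχ hs (hpl χ hχ hs hne) hτN hτP
    rw [hmτ χ] at h1
    have h2 : ‖((mτ χ : ℤ) : ℂ)‖ = |(mτ χ : ℝ)| := by
      rw [← Complex.ofReal_intCast, Complex.norm_real, Real.norm_eq_abs]
    rw [h2] at h1
    have h3 := abs_le.mp h1
    nlinarith [h3.1, h3.2]
  have hbtheta : (mτ θ₀ : ℝ) ^ 2 ≤ 1 := by
    have h1 := D.theta_le_one hε hθ₀ (by rw [hy θ₀ hθ₀]; exact hye) hτN hτP
    rw [hmτ θ₀] at h1
    have h2 : ‖((mτ θ₀ : ℤ) : ℂ)‖ = |(mτ θ₀ : ℝ)| := by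
      rw [← Complex.ofReal_intCast, Complex.norm_real, Real.norm_eq_abs]
    rw [h2] at h1
    have h3 := abs_le.mp h1
    nlinarith [h3.1, h3.2]
  set np : ℕ := (X.filter (fun χ => εX χ = 1 ∧ χ ≠ oneIrr G)).card with hnpdef
  have hp1pos : (0 : ℝ) < (p : ℝ) + 1 := by positivity
  have hRτ : ∑ χ ∈ X, (mτ χ : ℝ) ^ 2 * (εX χ : ℝ) / (deg χ : ℝ)
      ≤ 1 + 4 * (np : ℝ) / ((p : ℝ) + 1) := by
    have hterm : ∀ χ ∈ X, (mτ χ : ℝ) ^ 2 * (εX χ : ℝ) / (deg χ : ℝ)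
        ≤ (if χ = oneIrr G then (1 : ℝ) else 0)
          + (if εX χ = 1 ∧ χ ≠ oneIrr G then 4 / ((p : ℝ) + 1) else 0) := by
      intro χ hχ
      by_cases h1 : χ = oneIrr G
      · subst h1
        rw [hone_val τ _ (hmτ (oneIrr G)), D.sign_one, deg_oneIrr]
        simp
      · rcases D.signX χ hχ with hs | hs
        · rw [if_neg h1, if_pos ⟨hs, h1⟩, hs, hpl χ hχ hs h1, zero_add]
          push_cast
          rw [mul_one]
          exact div_le_div_of_nonneg_right (hbplus χ hχ hs h1) hp1pos.le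
        · have hs' : ¬ (εX χ = 1 ∧ χ ≠ oneIrr G) := by
            intro h; rw [hs] at h; norm_num at h
          rw [if_neg h1, if_neg hs', hs, add_zero]
          have := hdegpos χ
          have h2 : (mτ χ : ℝ) ^ 2 * ((-1 : ℤ) : ℝ) / (deg χ : ℝ)
              = -((mτ χ : ℝ) ^ 2 / (deg χ : ℝ)) := by push_cast; ring
          rw [h2]
          have : (0 : ℝ) ≤ (mτ χ : ℝ) ^ 2 / (deg χ : ℝ) := by positivity
          linarith
    refine le_trans (Finset.sum_le_sum hterm) ?_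
    rw [Finset.sum_add_distrib, Finset.sum_ite_eq' X (oneIrr G), if_pos D.one_mem,
      ← Finset.sum_filter, Finset.sum_const, nsmul_eq_mul, ← hnpdef]
    apply le_of_eq
    ring
  have hRτ' : ∑ χ ∈ X, (mτ χ : ℝ) ^ 2 * (εX χ : ℝ) / (deg χ : ℝ) + (mτ θ₀ : ℝ) ^ 2 / (y : ℝ)
      ≤ ((p : ℝ) - 1) / (y : ℝ) := by
    have h1 : (mτ θ₀ : ℝ) ^ 2 / (y : ℝ) ≤ 1 / (y : ℝ) :=
      div_le_div_of_nonneg_right hbtheta hy0.le
    have h2 := endgame_arith hye hypos hnp hcase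
    linarith
  -- the final inequality
  have hmain : (cτ : ℝ) * (cτ : ℝ) * (p : ℝ) ≤ (p : ℝ) * (2 : ℝ) ^ b * ((p : ℝ) - 1) := by
    have h1 : ((cτ * cτ * p : ℕ) : ℝ) = (cτ : ℝ) * (cτ : ℝ) * (p : ℝ) := by push_cast; ring
    rw [← h1, hcountτ]
    have h2 : (Nat.card G : ℝ) = (p : ℝ) * (2 : ℝ) ^ b * (y : ℝ) := by
      rw [hcard]; push_cast; ring
    rw [h2]
    have h3 : (p : ℝ) * (2 : ℝ) ^ b * (y : ℝ) * (((p : ℝ) - 1) / (y : ℝ))
        = (p : ℝ) * (2 : ℝ) ^ b * ((p : ℝ) - 1) := by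
      field_simp
    rw [← h3]
    apply mul_le_mul_of_nonneg_left hRτ'
    positivity
  have hpR : (0 : ℝ) < (p : ℝ) := by exact_mod_cast hpp.pos
  have hmain2 : (cτ : ℝ) * (cτ : ℝ) ≤ (2 : ℝ) ^ b * ((p : ℝ) - 1) := by
    have h1 : (cτ : ℝ) * (cτ : ℝ) * (p : ℝ) ≤ ((2 : ℝ) ^ b * ((p : ℝ) - 1)) * (p : ℝ) := by
      calc (cτ : ℝ) * (cτ : ℝ) * (p : ℝ) ≤ (p : ℝ) * (2 : ℝ) ^ b * ((p : ℝ) - 1) := hmain
        _ = ((2 : ℝ) ^ b * ((p : ℝ) - 1)) * (p : ℝ) := by ring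
    exact le_of_mul_le_mul_right h1 hpR
  have hmain3 : cτ * cτ ≤ 2 ^ b * 2 ^ κ := by
    have h1 : ((p : ℝ) - 1) = ((2 ^ κ : ℕ) : ℝ) := by
      rw [← hκ, Nat.cast_sub hpp.one_lt.le]; simp
    rw [h1] at hmain2
    have h2 : ((cτ * cτ : ℕ) : ℝ) ≤ ((2 ^ b * 2 ^ κ : ℕ) : ℝ) := by
      push_cast
      push_cast at hmain2
      exact hmain2
    exact_mod_cast h2
  have h4 : 2 ^ b * 2 ^ b ≤ 2 ^ b * 2 ^ κ :=
    le_trans (Nat.mul_le_mul hble hble) hmain3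
  have h5 : 2 ^ b ≤ 2 ^ κ := Nat.le_of_mul_le_mul_left h4 (by positivity)
  exact (Nat.pow_le_pow_iff_right (by norm_num)).mp h5

end

end Cfsg.Agent.Lib.Helper8.Brt
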