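import Mathlib

/-!
# Brauer–Tuan (S0997), part 9: arithmetic lemmas for the `ε = -1` branch.
-/

set_option autoImplicit false
set_option linter.unusedVariables false
set_option linter.style.longLine false

namespace Cfsg.Agent.Lib.Helper8.Brt

/-- a degree `≡ 2 (mod 4)`, `≡ ±1 (mod p)`, whose odd half divides `f = p - e`, with `4 ∣ e`,
`e ∣ p - 1`, forces `p = 2e + 1`. -/
theorem mod4_arith {p e f d2 : ℕ} {s : ℤ} (hp3 : 3 ≤ p) (he4 : 4 ∣ e) (hep : e ∣ p - 1)
    (hf : f + e = p) (hs : s = 1 ∨ s = -1) (hd : (d2 : ℤ) ≡ s [ZMOD p]) (hmod : d2 % 4 = 2)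
    (hdf : d2 / 2 ∣ f) : p = 2 * e + 1 := by
  obtain ⟨e', he'⟩ := he4
  obtain ⟨t, ht⟩ := hep
  have hepos : 0 < e := by
    rcases Nat.eq_zero_or_pos e with h | h
    · rw [h, zero_mul] at ht; omega
    · exact h
  have hfpos : 0 < f := by
    rcases Nat.eq_zero_or_pos f with h | h
    · exfalso
      rw [h, zero_add] at hf
      rw [hf] at ht
      have : p ∣ p - 1 := Dvd.intro _ ht.symm
      have := Nat.le_of_dvd (by omega) this
      omega
    · exact h
  set d := d2 / 2 with hdd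
  have hd2 : d2 = 2 * d := by omega
  have hdodd : d % 2 = 1 := by omega
  have hdle : d ≤ f := Nat.le_of_dvd hfpos hdf
  have hflt : f < p := by omega
  rcases hs with rfl | rfl
  · -- d2 = 1 + m p
    have h1 : (p : ℤ) ∣ (d2 : ℤ) - 1 := Int.modEq_iff_dvd.mp hd.symm
    have h2 : p ∣ d2 - 1 := by
      have : ((d2 - 1 : ℕ) : ℤ) = (d2 : ℤ) - 1 := by
        rw [Nat.cast_sub (by omega)]; simp
      rw [← this] at h1
      exact_mod_cast h1
    obtain ⟨m, hm⟩ := h2
    have hm1 : m = 1 := by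
      rcases Nat.eq_zero_or_pos m with h | h
      · rw [h, mul_zero] at hm; omega
      · rcases Nat.lt_or_ge m 2 with h3 | h3
        · omega
        · exfalso
          have : p * 2 ≤ p * m := Nat.mul_le_mul_left p h3
          omega
    rw [hm1, mul_one] at hm
    -- 2 d = p + 1, d ∣ f < 2 d
    obtain ⟨k, hk⟩ := hdf
    have hk1 : k = 1 := by
      rcases Nat.eq_zero_or_pos k with h | h
      · rw [h, mul_zero] at hk; omega
      · rcases Nat.lt_or_ge k 2 with h3 | h3
        · omega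
        · exfalso
          have : d * 2 ≤ d * k := Nat.mul_le_mul_left d h3
          omega
    rw [hk1, mul_one] at hk
    omega
  · exfalso
    have h1 : (p : ℤ) ∣ (d2 : ℤ) + 1 := by
      have := Int.modEq_iff_dvd.mp hd.symm
      simpa using this
    have h2 : p ∣ d2 + 1 := by exact_mod_cast h1
    obtain ⟨m, hm⟩ := h2
    rcases Nat.eq_zero_or_pos m with h | h
    · rw [h, mul_zero] at hm; omega
    · rcases Nat.lt_or_ge m 2 with h3 | h3
      · have hm1 : m = 1 := by omega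
        rw [hm1, mul_one] at hm
        -- d2 = p - 1 = e t = 4 e' t
        have : d2 = 4 * (e' * t) := by
          have : p - 1 = 4 * (e' * t) := by rw [ht, he']; ring
          omega
        omega
      · rcases Nat.lt_or_ge m 3 with h4 | h4
        · have hm2 : m = 2 := by omega
          rw [hm2] at hm
          omega
        · have : p * 3 ≤ p * m := Nat.mul_le_mul_left p h4
          omega

/-- the case `e = 2`: the unique nontrivial member of `X` has sign `-1` and degree `p - 1` -/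
theorem e2_arith {p f d : ℕ} {s : ℤ} (hp3 : 3 ≤ p) (hf : f + 2 = p) (hs : s = 1 ∨ s = -1)
    (hd0 : 0 < d) (hrel : -(f : ℤ) = 1 + s * d) : s = -1 ∧ d = p - 1 := by
  rcases hs with rfl | rfl
  · exfalso
    have : (0 : ℤ) < d := by exact_mod_cast hd0
    have : (0 : ℤ) ≤ f := Int.natCast_nonneg _
    linarith
  · refine ⟨rfl, ?_⟩
    have h1 : (d : ℤ) = f + 1 := by linarith
    have h2 : d = f + 1 := by exact_mod_cast h1
    omega

/-- `p - 1 ∣ p * 2^b * (p - 2)` forces `p - 1` to be a power of `2` -/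
theorem pow_two_of_dvd {p b : ℕ} (hp3 : 3 ≤ p) (h : p - 1 ∣ p * 2 ^ b * (p - 2)) :
    ∃ κ : ℕ, p - 1 = 2 ^ κ := by
  have h1 : Nat.Coprime (p - 1) p := by
    have : Nat.Coprime (p - 1) (p - 1 + 1) := (Nat.coprime_self_add_right).mpr (Nat.coprime_one_right _)
    rwa [Nat.sub_add_cancel (by omega)] at this
  have h2 : Nat.Coprime (p - 1) (p - 2) := by
    have : Nat.Coprime (1 + (p - 2)) (p - 2) := (Nat.coprime_add_self_left).mpr (Nat.coprime_one_left _)
    rwa [show 1 + (p - 2) = p - 1 by omega] at this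
  have h3 : p - 1 ∣ p * 2 ^ b := Nat.Coprime.dvd_of_dvd_mul_right h2 h
  have h4 : p - 1 ∣ 2 ^ b := Nat.Coprime.dvd_of_dvd_mul_left h1 h3
  obtain ⟨κ, _, hκ⟩ := (Nat.dvd_prime_pow Nat.prime_two).mp h4
  exact ⟨κ, hκ⟩

/-- the final size estimate -/
theorem card_lt_cube {p e f b κ N : ℕ} (hp3 : 3 ≤ p) (he : 2 ≤ e) (hf : f + e = p)
    (hκ : p - 1 = 2 ^ κ) (hb : b ≤ κ) (hN : N = p * 2 ^ b * f) : N < p ^ 3 := by
  have h1 : 2 ^ b ≤ 2 ^ κ := Nat.pow_le_pow_right (by norm_num) hb
  have h2 : 2 ^ b ≤ p - 1 := by rw [hκ]; exact h1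
  have h3 : f ≤ p - 2 := by omega
  have h4 : 2 ^ b * f ≤ (p - 1) * (p - 2) := Nat.mul_le_mul h2 h3
  have h5 : (p - 1) * (p - 2) < p * p := by
    have : p - 1 < p := by omega
    have : p - 2 < p := by omega
    calc (p - 1) * (p - 2) ≤ (p - 1) * p := Nat.mul_le_mul_left _ (by omega)
      _ < p * p := Nat.mul_lt_mul_of_pos_right (by omega) (by omega)
  rw [hN, mul_assoc]
  calc p * (2 ^ b * f) ≤ p * ((p - 1) * (p - 2)) := Nat.mul_le_mul_left p h4
    _ < p * (p * p) := Nat.mul_lt_mul_of_pos_left h5 (by omega)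
    _ = p ^ 3 := by ring

end Cfsg.Agent.Lib.Helper8.Brt
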