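import Mathlib
import Cfsg.Agent.Lib.Helper8.Brt9
import Cfsg.Agent.Lib.Helper8.Brt14

/-!
# Brauer–Tuan (S0997), part 15: the `ε = -1` branch.
-/

set_option autoImplicit false
set_option linter.unusedSectionVars false
set_option linter.unusedVariables false
set_option linter.style.longLine false
set_option linter.unusedSimpArgs false

set_option maxHeartbeats 1600000
namespace Cfsg.Agent.Lib.Helper8.Brt
open Subgroup Cfsg Cfsg.Agent.Lib.Helper6 Cfsg.Agent.Lib.Helper7.Bt Cfsg.Agent.Lib.Helper9.Art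
open scoped ComplexConjugate

variable {G : Type*} [Group G] [Fintype G]

/-- **The `ε = -1` branch**: `p` is a Fermat prime and `|G| < p³`. -/
theorem minus_branch [IsSimpleGroup G] (p q b g₀ : ℕ) [hp : Fact p.Prime]
    (hq : q.Prime) (hpq : p ≠ q) (hG' : Nat.card G = p * q ^ b * g₀) (hg : g₀ < p - 1)
    (P : Sylow p G) (e c : ℕ) (M : Ideal AlgInt) (X Y : Finset (IrrCharacter G))
    (εX : IrrCharacter G → ℤ) (ε : ℤ) (θ₀ : IrrCharacter G)
    (hp2 : p ≠ 2) (hperf : commutator G = ⊤) (hP : Nat.card P = p)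
    (hCc : Nat.card (Subgroup.centralizer ((P : Subgroup G) : Set G)) = p * c)
    (hNc : Nat.card (Subgroup.normalizer ((P : Subgroup G) : Set G)) = p * c * e)
    (hedvd : e ∣ p - 1) (he2 : 2 ≤ e)
    (hcard : Nat.card (Sylow p G) * (p * c * e) = Nat.card G)
    (hM : IsPModular p M) (D : QData p e M P X Y εX ε) (h1X : oneIrr G ∈ X)
    (hε1 : εX (oneIrr G) = 1) (hXq : ∀ χ ∈ X, χ ≠ oneIrr G → q ∣ deg χ) (hθ₀ : θ₀ ∈ Y)
    (hθg : deg θ₀ ∣ g₀) (hε : ε = -1) (hdeg : deg θ₀ + e = p) :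
    ∃ κ : ℕ, p = 2 ^ κ + 1 ∧ Nat.card G < p ^ 3 := by
  classical
  have hpp := hp.out
  have hp3 : 3 ≤ p := by
    have := hpp.two_le
    omega
  have DP : PData p e M X Y εX ε := D.toPData
  set f : ℕ := deg θ₀ with hf
  have hfpos : 0 < f := deg_pos θ₀
  have hθne : θ₀ ≠ oneIrr G := fun h => DP.disj _ h1X (h ▸ hθ₀)
  have hf1 : f ≠ 1 := fun h => hθne (eq_oneIrr_of_deg_one hperf θ₀ h)
  have hcardpos : 0 < Nat.card G := Nat.card_pos
  have hg0 : 0 < g₀ := by
    rcases Nat.eq_zero_or_pos g₀ with h | h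
    · rw [h, mul_zero] at hG'; omega
    · exact h
  -- 2 e ≤ p - 1
  have h2e : 2 * e ≤ p - 1 := by
    obtain ⟨t, ht⟩ := hedvd
    rcases Nat.lt_or_ge t 2 with h | h
    · exfalso
      have ht1 : t = 1 := by
        rcases Nat.eq_zero_or_pos t with h0 | h0
        · rw [h0, mul_zero] at ht; omega
        · omega
      rw [ht1, mul_one] at ht
      omega
    · rw [ht]
      calc 2 * e = e * 2 := by ring
        _ ≤ e * t := Nat.mul_le_mul_left e h
  -- g₀ = f
  have hgf : g₀ = f := by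
    obtain ⟨k, hk⟩ := hθg
    rcases Nat.eq_zero_or_pos k with h | h
    · rw [h, mul_zero] at hk; omega
    · rcases Nat.lt_or_ge k 2 with h2 | h2
      · have : k = 1 := by omega
        rw [this, mul_one] at hk
        exact hk
      · exfalso
        have : f * 2 ≤ f * k := Nat.mul_le_mul_left f h2
        omega
  rw [hgf] at hG'
  -- e ∣ q ^ b
  have hepos : 0 < e := by omega
  have helt : e < p := by omega
  have heG : e ∣ Nat.card G := by
    rw [← hcard]
    exact Dvd.dvd.mul_left (Dvd.intro_left _ rfl) _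
  have hcop_ep : Nat.Coprime e p :=
    (Nat.Coprime.symm ((Nat.Prime.coprime_iff_not_dvd hpp).mpr
      (fun h => by have := Nat.le_of_dvd hepos h; omega)))
  have hcop_ef : Nat.Coprime e f := by
    have h1 : Nat.Coprime e (f + e) := by rw [hdeg]; exact hcop_ep
    exact (Nat.coprime_add_self_right).mp h1
  have heq : e ∣ q ^ b := by
    rw [hG'] at heG
    have h1 : e ∣ p * q ^ b := Nat.Coprime.dvd_of_dvd_mul_right hcop_ef heG
    exact Nat.Coprime.dvd_of_dvd_mul_left hcop_ep h1
  obtain ⟨c', hc'b, hec'⟩ := (Nat.dvd_prime_pow hq).mp heq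
  have hc'1 : 1 ≤ c' := by
    rcases Nat.eq_zero_or_pos c' with h | h
    · rw [h, pow_zero] at hec'; omega
    · exact h
  have hqe : q ∣ e := by
    rw [hec']
    exact dvd_pow_self q (by omega)
  -- q = 2
  have hrel := DP.rel_one hpp θ₀ hθ₀
  rw [hε, ← Finset.add_sum_erase X _ h1X, hε1, deg_oneIrr] at hrel
  have hq2 : q = 2 := by
    have hall : ∀ χ ∈ X.erase (oneIrr G), (q : ℤ) ∣ εX χ * (deg χ : ℤ) := by
      intro χ hχ
      have h1 := hXq χ (Finset.mem_of_mem_erase hχ) (Finset.ne_of_mem_erase hχ)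
      exact Dvd.dvd.mul_left (by exact_mod_cast h1) _
    have hsum : (q : ℤ) ∣ ∑ χ ∈ X.erase (oneIrr G), εX χ * (deg χ : ℤ) := Finset.dvd_sum hall
    have h2 : (q : ℤ) ∣ (f : ℤ) + 1 := by
      have h3 : (f : ℤ) + 1 = -(∑ χ ∈ X.erase (oneIrr G), εX χ * (deg χ : ℤ)) := by
        have : (-1 : ℤ) * (f : ℤ) = 1 * ((1 : ℕ) : ℤ)
            + ∑ χ ∈ X.erase (oneIrr G), εX χ * (deg χ : ℤ) := hrel
        push_cast at this
        linarith
      rw [h3]
      exact (dvd_neg).mpr hsum
    have h4 : q ∣ f + 1 := by exact_mod_cast h2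
    have h5 : q ∣ f + 1 + e := Nat.dvd_add h4 hqe
    have h6 : q ∣ p - 1 := dvd_trans hqe hedvd
    have h7 : q ∣ p + 1 := by
      have : f + 1 + e = p + 1 := by omega
      rwa [this] at h5
    have h8 : q ∣ (p + 1) - (p - 1) := Nat.dvd_sub h7 h6
    have h9 : (p + 1) - (p - 1) = 2 := by omega
    rw [h9] at h8
    exact (Nat.prime_dvd_prime_iff_eq hq Nat.prime_two).mp h8
  subst hq2
  -- parity facts
  have heven : 2 ∣ e := hqe
  have hpodd : ¬ 2 ∣ p := fun h => hp2 ((Nat.prime_dvd_prime_iff_eq Nat.prime_two hpp).1 h).symm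
  have hfodd : ¬ 2 ∣ f := by
    intro h
    have : 2 ∣ f + e := Nat.dvd_add h heven
    rw [hdeg] at this
    exact hpodd this
  have hflt : f < p := by omega
  -- p exactly divides |G|
  have hsq : ¬ p ^ 2 ∣ Nat.card G := by
    rw [hG', pow_two, mul_assoc]
    intro h
    have h1 : p ∣ 2 ^ b * f := Nat.dvd_of_mul_dvd_mul_left hpp.pos h
    rcases (Nat.Prime.dvd_mul hpp).mp h1 with h2 | h2
    · have := hpp.dvd_of_dvd_pow h2
      exact hp2 ((Nat.prime_dvd_prime_iff_eq hpp Nat.prime_two).mp this)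
    · have := Nat.le_of_dvd hfpos h2
      omega
  -- c = 1
  have hcpos : 0 < c := by
    rcases Nat.eq_zero_or_pos c with h | h
    · rw [h, mul_zero] at hCc
      have h2 : 0 < Nat.card (Subgroup.centralizer ((P : Subgroup G) : Set G)) := Nat.card_pos
      omega
    · exact h
  have hc1 : c = 1 := by
    by_contra hne
    set r := c.minFac with hr'
    have hrp : r.Prime := Nat.minFac_prime hne
    haveI : Fact r.Prime := ⟨hrp⟩
    have hrc : r ∣ c := Nat.minFac_dvd c
    have hpc : ¬ p ∣ c := by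
      intro h
      apply hsq
      have h1 : p ^ 2 ∣ p * c := by rw [pow_two]; exact Nat.mul_dvd_mul_left p h
      have h2 : p * c ∣ Nat.card G := by
        rw [← hCc]
        exact Subgroup.card_subgroup_dvd_card _
      exact dvd_trans h1 h2
    have hrne : r ≠ p := fun h => hpc (h ▸ hrc)
    obtain ⟨u0, hu0⟩ := exists_prime_orderOf_dvd_card'
      (G := Subgroup.centralizer ((P : Subgroup G) : Set G)) r
      (by rw [hCc]; exact Dvd.dvd.mul_left hrc p)
    have hu : orderOf (u0 : G) = r := by rw [Subgroup.orderOf_coe]; exact hu0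
    have hpu : ¬ p ∣ orderOf (u0 : G) := by
      rw [hu]
      intro h
      exact hrne ((Nat.prime_dvd_prime_iff_eq hpp hrp).mp h).symm
    have h1 := regular_centralizer_trivial D hP hε hθ₀ hdeg hepos hθne (u0 : G) u0.2 hpu
    rw [h1, orderOf_one] at hu
    exact hrp.one_lt.ne hu
  rw [hc1, mul_one] at hCc hNc hcard
  -- the generator z
  obtain ⟨z0, hz0⟩ := exists_prime_orderOf_dvd_card' (G := (P : Subgroup G)) p
    (by rw [hP])
  have hz : orderOf (z0 : G) = p := by rw [Subgroup.orderOf_coe]; exact hz0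
  have hzP : Subgroup.zpowers (z0 : G) = (P : Subgroup G) := by
    apply Subgroup.eq_of_le_of_card_ge
    · rw [Subgroup.zpowers_le]; exact z0.2
    · rw [Nat.card_zpowers, hz, hP]
  have hPC : (P : Subgroup G) ≤ Subgroup.centralizer ((P : Subgroup G) : Set G) := by
    intro g hg
    rw [Subgroup.mem_centralizer_iff]
    intro y hy
    rw [← hzP] at hg
    have hy' : y ∈ Subgroup.zpowers (z0 : G) := by rw [hzP]; exact hy
    obtain ⟨k, rfl⟩ := Subgroup.mem_zpowers_iff.mp hg
    obtain ⟨l, rfl⟩ := Subgroup.mem_zpowers_iff.mp hy'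
    exact ((Commute.refl (z0 : G)).zpow_zpow l k).eq
  have hCP : Subgroup.centralizer ((P : Subgroup G) : Set G) = (P : Subgroup G) := by
    symm
    apply Subgroup.eq_of_le_of_card_ge hPC
    rw [hCc, hP]
  have hCz : Subgroup.centralizer ({(z0 : G)} : Set G) = Subgroup.zpowers (z0 : G) := by
    refine Eq.trans ?_ (hCP.trans hzP.symm)
    apply le_antisymm
    · intro g hg
      rw [Subgroup.mem_centralizer_iff]
      intro y hy
      have hy' : y ∈ Subgroup.zpowers (z0 : G) := by rw [hzP]; exact hy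
      obtain ⟨l, rfl⟩ := Subgroup.mem_zpowers_iff.mp hy'
      have h1 : (z0 : G) * g = g * (z0 : G) :=
        (Subgroup.mem_centralizer_iff.mp hg) _ (Set.mem_singleton _)
      exact (Commute.zpow_left h1 l).eq
    · intro g hg
      rw [Subgroup.mem_centralizer_iff]
      intro y hy
      rw [Set.mem_singleton_iff] at hy
      rw [hy]
      exact (Subgroup.mem_centralizer_iff.mp hg) _ z0.2
  set z : G := (z0 : G) with hzdef
  have hyp : Hyp G p z := ⟨hz, hCz⟩
  -- relative index
  have hCN : Subgroup.centralizer ((P : Subgroup G) : Set G) ≤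
      Subgroup.normalizer ((P : Subgroup G) : Set G) := Subgroup.centralizer_le_normalizer _
  have hrelidx : (Subgroup.centralizer ((P : Subgroup G) : Set G)).relIndex
      (Subgroup.normalizer ((P : Subgroup G) : Set G)) = e := by
    have h1 := Subgroup.relIndex_mul_index hCN
    have h2 := Subgroup.card_mul_index (Subgroup.centralizer ((P : Subgroup G) : Set G))
    have h3 := Subgroup.card_mul_index (Subgroup.normalizer ((P : Subgroup G) : Set G))
    have hidx : (Subgroup.normalizer ((P : Subgroup G) : Set G)).index ≠ 0 :=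
      Subgroup.index_ne_zero_of_finite
    rw [← h1, hCc] at h2
    rw [hNc, ← h2] at h3
    have h4 : p * e * (Subgroup.normalizer ((P : Subgroup G) : Set G)).index =
        p * ((Subgroup.centralizer ((P : Subgroup G) : Set G)).relIndex
          (Subgroup.normalizer ((P : Subgroup G) : Set G))) *
          (Subgroup.normalizer ((P : Subgroup G) : Set G)).index := by
      rw [h3]; ring
    have h5 := Nat.eq_of_mul_eq_mul_right (Nat.pos_of_ne_zero hidx) h4
    exact (Nat.eq_of_mul_eq_mul_left hpp.pos h5).symm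
  obtain ⟨t, n, BD⟩ := exists_bdata hyp hperf hp2 P hzP.symm DP hrelidx h1X
  have hy : ∀ θ ∈ Y, deg θ = f := fun θ hθ => DP.deg_eq_of_mem_Y hpp θ θ₀ hθ hθ₀
  have hcardG : Nat.card G = p * 2 ^ b * f := hG'
  -- the two cases
  have hXeven : ∀ χ ∈ X, χ ≠ oneIrr G → 2 ∣ deg χ := hXq
  have hrelint : -(f : ℤ) = 1 + ∑ χ ∈ X.erase (oneIrr G), εX χ * (deg χ : ℤ) := by
    have : (-1 : ℤ) * (f : ℤ) = 1 * ((1 : ℕ) : ℤ)
        + ∑ χ ∈ X.erase (oneIrr G), εX χ * (deg χ : ℤ) := hrel
    push_cast at this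
    linarith
  have hkey : ∃ κ : ℕ, p - 1 = 2 ^ κ ∧ (e = 2 ∨ p = 2 * e + 1) ∧
      (∀ χ ∈ X, εX χ = -1 → deg χ = p - 1) ∧
      (∀ χ ∈ X, εX χ = 1 → χ ≠ oneIrr G → deg χ = p + 1) ∧
      2 * (X.filter (fun χ => εX χ = 1 ∧ χ ≠ oneIrr G)).card + 2 ≤ e := by
    rcases Nat.lt_or_ge c' 2 with hc2 | hc2
    · -- e = 2
      have hc1' : c' = 1 := by omega
      have he : e = 2 := by rw [hec', hc1', pow_one]
      have hXc : (X.erase (oneIrr G)).card = 1 := by
        rw [Finset.card_erase_of_mem h1X, DP.cardX, he]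
      obtain ⟨χ₀, hχ₀⟩ := Finset.card_eq_one.mp hXc
      have hχ₀mem : χ₀ ∈ X.erase (oneIrr G) := by rw [hχ₀]; simp
      have hχ₀X : χ₀ ∈ X := Finset.mem_of_mem_erase hχ₀mem
      have hχ₀ne : χ₀ ≠ oneIrr G := Finset.ne_of_mem_erase hχ₀mem
      rw [hχ₀, Finset.sum_singleton] at hrelint
      obtain ⟨hs0, hd0⟩ := e2_arith hp3 (by omega : f + 2 = p) (DP.signX χ₀ hχ₀X) (deg_pos χ₀)
        hrelint
      have hXmem : ∀ χ ∈ X, χ = oneIrr G ∨ χ = χ₀ := by
        intro χ hχ
        by_cases h : χ = oneIrr G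
        · left; exact h
        · right
          have : χ ∈ X.erase (oneIrr G) := Finset.mem_erase.mpr ⟨h, hχ⟩
          rw [hχ₀] at this
          exact Finset.mem_singleton.mp this
      have hdvd : p - 1 ∣ p * 2 ^ b * (p - 2) := by
        have h1 : deg χ₀ ∣ Nat.card G := deg_dvd χ₀
        rw [hd0, hcardG] at h1
        have : f = p - 2 := by omega
        rw [this] at h1
        exact h1
      obtain ⟨κ, hκ⟩ := pow_two_of_dvd hp3 hdvd
      refine ⟨κ, hκ, Or.inl he, ?_, ?_, ?_⟩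
      · intro χ hχ hs
        rcases hXmem χ hχ with h | h
        · rw [h, hε1] at hs; norm_num at hs
        · rw [h]; exact hd0
      · intro χ hχ hs hne
        rcases hXmem χ hχ with h | h
        · exact absurd h hne
        · rw [h, hs0] at hs; norm_num at hs
      · have hempty : X.filter (fun χ => εX χ = 1 ∧ χ ≠ oneIrr G) = ∅ := by
          rw [Finset.filter_eq_empty_iff]
          intro χ hχ hc
          rcases hXmem χ hχ with h | h
          · exact hc.2 h
          · rw [h, hs0] at hc; norm_num at hc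
        rw [hempty, Finset.card_empty]
        omega
    · -- 4 ∣ e
      have he4 : 4 ∣ e := by
        rw [hec']
        have : (4 : ℕ) = 2 ^ 2 := by norm_num
        rw [this]
        exact pow_dvd_pow 2 hc2
      -- a degree ≡ 2 (mod 4)
      have hex : ∃ χ ∈ X, χ ≠ oneIrr G ∧ deg χ % 4 = 2 := by
        by_contra hno
        push Not at hno
        have hall : ∀ χ ∈ X.erase (oneIrr G), (4 : ℤ) ∣ εX χ * (deg χ : ℤ) := by
          intro χ hχ
          have hχX := Finset.mem_of_mem_erase hχ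
          have hne := Finset.ne_of_mem_erase hχ
          have h1 := hXeven χ hχX hne
          have h2 := hno χ hχX hne
          have h3 : 4 ∣ deg χ := by omega
          exact Dvd.dvd.mul_left (by exact_mod_cast h3) _
        have hsum : (4 : ℤ) ∣ ∑ χ ∈ X.erase (oneIrr G), εX χ * (deg χ : ℤ) :=
          Finset.dvd_sum hall
        have h4 : (4 : ℤ) ∣ (f : ℤ) + 1 := by
          have : (f : ℤ) + 1 = -(∑ χ ∈ X.erase (oneIrr G), εX χ * (deg χ : ℤ)) := by linarith
          rw [this]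
          exact (dvd_neg).mpr hsum
        have h5 : 4 ∣ f + 1 := by exact_mod_cast h4
        have h6 : 4 ∣ p - 1 := dvd_trans he4 hedvd
        omega
      obtain ⟨χ₁, hχ₁X, hχ₁ne, hχ₁mod⟩ := hex
      have hd2f : deg χ₁ / 2 ∣ f := by
        have h1 : deg χ₁ ∣ Nat.card G := deg_dvd χ₁
        rw [hcardG] at h1
        have h2 : deg χ₁ / 2 ∣ deg χ₁ := Nat.div_dvd_of_dvd (by omega)
        have h3 : deg χ₁ / 2 ∣ p * 2 ^ b * f := dvd_trans h2 h1
        have hodd : ¬ 2 ∣ deg χ₁ / 2 := by omega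
        have hcop2 : Nat.Coprime (deg χ₁ / 2) (2 ^ b) :=
          (Nat.Coprime.pow_right b
            ((Nat.Prime.coprime_iff_not_dvd Nat.prime_two).mpr hodd).symm)
        have hpd : ¬ p ∣ deg χ₁ / 2 := fun h =>
          DP.not_dvd_X hpp χ₁ hχ₁X (dvd_trans h h2)
        have hcopp : Nat.Coprime (deg χ₁ / 2) p :=
          ((Nat.Prime.coprime_iff_not_dvd hpp).mpr hpd).symm
        have h4 : deg χ₁ / 2 ∣ p * (2 ^ b * f) := by rw [← mul_assoc]; exact h3
        have h5 : deg χ₁ / 2 ∣ 2 ^ b * f := Nat.Coprime.dvd_of_dvd_mul_left hcopp h4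
        exact Nat.Coprime.dvd_of_dvd_mul_left hcop2 h5
      have hpe : p = 2 * e + 1 :=
        mod4_arith hp3 he4 hedvd hdeg (DP.signX χ₁ hχ₁X) (DP.degX χ₁ hχ₁X) hχ₁mod hd2f
      obtain ⟨hm, hpl, hnp⟩ := BD.pin hε hpe hXeven f hy hdeg
      refine ⟨c' + 1, ?_, Or.inr hpe, hm, hpl, by omega⟩
      rw [hpe, hec']
      have : 2 * 2 ^ c' + 1 - 1 = 2 * 2 ^ c' := by omega
      rw [this, pow_succ]
      ring
  obtain ⟨κ, hκ, hcase, hm, hpl, hnp⟩ := hkey
  have hbκ : b ≤ κ := endgame BD hε f b κ hy hdeg heven hcase hcardG hfodd hκ hm hpl hnp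
  refine ⟨κ, by omega, ?_⟩
  exact card_lt_cube hp3 he2 hdeg hκ hbκ hcardG

end Cfsg.Agent.Lib.Helper8.Brt
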