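import Mathlib
import Cfsg.Agent.Lib.Helper5.MobWild4

/-!
# Brauer–Tuan (S0997), part 16: the `ε = +1` endgame: `G ≅ PSL₂(p)` and the order condition
force `p = 2^m ± 1`.
-/

set_option autoImplicit false
set_option linter.unusedSectionVars false
set_option linter.unusedVariables false
set_option linter.style.longLine false

namespace Cfsg.Agent.Lib.Helper8.Brt

/-- the arithmetic: `2 q^b g₀ = (p-1)(p+1)`, `g₀ < p - 1` forces `p = 2^m ± 1` -/
theorem plus_arith {p q b g₀ : ℕ} (hp3 : 3 ≤ p) (hpodd : p % 2 = 1) (hq : q.Prime)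
    (h : 2 * (q ^ b * g₀) = (p - 1) * (p + 1)) (hg : g₀ < p - 1) :
    ∃ m : ℕ, p = 2 ^ m + 1 ∨ p = 2 ^ m - 1 := by
  have hA : 0 < p - 1 := by omega
  have hg0 : 0 < g₀ := by
    rcases Nat.eq_zero_or_pos g₀ with h0 | h0
    · rw [h0, mul_zero, mul_zero] at h
      have : 0 < (p - 1) * (p + 1) := Nat.mul_pos hA (by omega)
      omega
    · exact h0
  have hqpos : 0 < q ^ b := pow_pos hq.pos b
  -- 2 q^b > p + 1
  have hbig : p + 1 < 2 * q ^ b := by
    by_contra hle
    push Not at hle
    have h1 : 2 * (q ^ b * g₀) < (p - 1) * (p + 1) := by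
      calc 2 * (q ^ b * g₀) = (2 * q ^ b) * g₀ := by ring
        _ ≤ (p + 1) * g₀ := Nat.mul_le_mul_right g₀ hle
        _ < (p + 1) * (p - 1) := Nat.mul_lt_mul_of_pos_left hg (by omega)
        _ = (p - 1) * (p + 1) := by ring
    omega
  by_cases hq2 : q = 2
  · subst hq2
    -- p = 2a + 1
    obtain ⟨a, ha⟩ : ∃ a, p = 2 * a + 1 := ⟨p / 2, by omega⟩
    have ha1 : 1 ≤ a := by omega
    have hb1 : 1 ≤ b := by
      rcases Nat.eq_zero_or_pos b with h0 | h0
      · rw [h0, pow_zero] at hbig; omega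
      · exact h0
    obtain ⟨b', rfl⟩ : ∃ b', b = b' + 1 := ⟨b - 1, by omega⟩
    have h1 : 2 ^ b' * g₀ = a * (a + 1) := by
      have h2 : (p - 1) * (p + 1) = 4 * (a * (a + 1)) := by
        have : p - 1 = 2 * a := by omega
        rw [this, ha]; ring
      rw [h2, pow_succ] at h
      have : 4 * (2 ^ b' * g₀) = 4 * (a * (a + 1)) := by rw [← h]; ring
      omega
    have hbig' : a + 1 < 2 * 2 ^ b' := by
      rw [pow_succ] at hbig
      omega
    have hdvd : 2 ^ b' ∣ a * (a + 1) := Dvd.intro _ h1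
    rcases Nat.even_or_odd a with hev | hod
    · -- a even, a + 1 odd: 2^b' ∣ a
      have hcop : Nat.Coprime (2 ^ b') (a + 1) := by
        apply Nat.Coprime.pow_left
        rw [Nat.coprime_comm]
        exact Nat.Coprime.symm ((Nat.Prime.coprime_iff_not_dvd Nat.prime_two).mpr (by
          intro hd
          obtain ⟨r, hr⟩ := hev
          omega))
      have h3 : 2 ^ b' ∣ a := Nat.Coprime.dvd_of_dvd_mul_right hcop hdvd
      obtain ⟨k, hk⟩ := h3
      have hk1 : k = 1 := by
        rcases Nat.eq_zero_or_pos k with h0 | h0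
        · rw [h0, mul_zero] at hk; omega
        · rcases Nat.lt_or_ge k 2 with h4 | h4
          · omega
          · exfalso
            have : 2 ^ b' * 2 ≤ 2 ^ b' * k := Nat.mul_le_mul_left _ h4
            omega
      rw [hk1, mul_one] at hk
      refine ⟨b' + 1, Or.inl ?_⟩
      rw [ha, hk, pow_succ]; ring
    · -- a odd: 2^b' ∣ a + 1
      have hcop : Nat.Coprime (2 ^ b') a := by
        apply Nat.Coprime.pow_left
        exact (Nat.Prime.coprime_iff_not_dvd Nat.prime_two).mpr (by
          intro hd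
          obtain ⟨r, hr⟩ := hod
          omega)
      have h3 : 2 ^ b' ∣ a + 1 := by
        have : 2 ^ b' ∣ (a + 1) * a := by rw [mul_comm]; exact hdvd
        exact Nat.Coprime.dvd_of_dvd_mul_right hcop this
      obtain ⟨k, hk⟩ := h3
      have hk1 : k = 1 := by
        rcases Nat.eq_zero_or_pos k with h0 | h0
        · rw [h0, mul_zero] at hk; omega
        · rcases Nat.lt_or_ge k 2 with h4 | h4
          · omega
          · exfalso
            have : 2 ^ b' * 2 ≤ 2 ^ b' * k := Nat.mul_le_mul_left _ h4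
            omega
      rw [hk1, mul_one] at hk
      refine ⟨b' + 1, Or.inr ?_⟩
      rw [pow_succ]
      omega
  · -- q odd: impossible
    exfalso
    have hqodd : Odd q := hq.odd_of_ne_two hq2
    have hqbodd : Odd (q ^ b) := hqodd.pow
    have hb1 : 1 ≤ b := by
      rcases Nat.eq_zero_or_pos b with h0 | h0
      · rw [h0, pow_zero] at hbig; omega
      · exact h0
    have hdvd : q ^ b ∣ (p - 1) * (p + 1) := by
      rw [← h]
      exact Dvd.dvd.mul_left (Dvd.intro _ rfl) 2
    have hqq : q ∣ q ^ b := dvd_pow_self q (by omega)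
    have hqAB : q ∣ (p - 1) * (p + 1) := dvd_trans hqq hdvd
    have hnotboth : ¬ (q ∣ p - 1 ∧ q ∣ p + 1) := by
      rintro ⟨h1, h2⟩
      have h3 : q ∣ (p + 1) - (p - 1) := Nat.dvd_sub h2 h1
      have h4 : (p + 1) - (p - 1) = 2 := by omega
      rw [h4] at h3
      exact hq2 ((Nat.prime_dvd_prime_iff_eq hq Nat.prime_two).mp h3)
    rcases (Nat.Prime.dvd_mul hq).mp hqAB with h1 | h1
    · have h2 : ¬ q ∣ p + 1 := fun h2 => hnotboth ⟨h1, h2⟩
      have hcop : Nat.Coprime (q ^ b) (p + 1) :=
        Nat.Coprime.pow_left b ((Nat.Prime.coprime_iff_not_dvd hq).mpr h2)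
      have h3 : q ^ b ∣ p - 1 := Nat.Coprime.dvd_of_dvd_mul_right hcop hdvd
      obtain ⟨k, hk⟩ := h3
      have hk1 : k = 1 := by
        rcases Nat.eq_zero_or_pos k with h0 | h0
        · rw [h0, mul_zero] at hk; omega
        · rcases Nat.lt_or_ge k 2 with h4 | h4
          · omega
          · exfalso
            have : q ^ b * 2 ≤ q ^ b * k := Nat.mul_le_mul_left _ h4
            omega
      rw [hk1, mul_one] at hk
      obtain ⟨r, hr⟩ := hqbodd
      omega
    · have h2 : ¬ q ∣ p - 1 := fun h2 => hnotboth ⟨h2, h1⟩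
      have hcop : Nat.Coprime (q ^ b) (p - 1) :=
        Nat.Coprime.pow_left b ((Nat.Prime.coprime_iff_not_dvd hq).mpr h2)
      have h3 : q ^ b ∣ p + 1 := by
        have : q ^ b ∣ (p + 1) * (p - 1) := by rw [mul_comm]; exact hdvd
        exact Nat.Coprime.dvd_of_dvd_mul_right hcop this
      obtain ⟨k, hk⟩ := h3
      have hk1 : k = 1 := by
        rcases Nat.eq_zero_or_pos k with h0 | h0
        · rw [h0, mul_zero] at hk; omega
        · rcases Nat.lt_or_ge k 2 with h4 | h4
          · omega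
          · exfalso
            have : q ^ b * 2 ≤ q ^ b * k := Nat.mul_le_mul_left _ h4
            omega
      rw [hk1, mul_one] at hk
      obtain ⟨r, hr⟩ := hqbodd
      omega

/-- **The `ε = +1` endgame.** -/
theorem plus_end {G : Type*} [Group G] [Finite G] [IsSimpleGroup G] (hG : ¬ IsCyclic G)
    (p q b g₀ : ℕ) (hp : p.Prime) (hq : q.Prime) (hpq : p ≠ q)
    (hG' : Nat.card G = p * q ^ b * g₀) (hg : g₀ < p - 1)
    (hiso : Nonempty ((G ⧸ Subgroup.center G) ≃*
      Matrix.ProjectiveSpecialLinearGroup (Fin 2) (ZMod p))) :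
    ∃ (m : ℕ) (F : Type) (_ : Field F) (_ : Fintype F), Fintype.card F = p ∧
      (p = 2 ^ m + 1 ∨ p = 2 ^ m - 1) ∧
      Nonempty (G ≃* Matrix.ProjectiveSpecialLinearGroup (Fin 2) F) := by
  classical
  haveI : Fact p.Prime := ⟨hp⟩
  obtain ⟨φ⟩ := hiso
  -- the center is trivial
  have hcenter : Subgroup.center G = ⊥ := by
    rcases (inferInstance : (Subgroup.center G).Normal).eq_bot_or_eq_top with h | h
    · exact h
    · exfalso
      apply hG
      have hcomm : ∀ a b : G, a * b = b * a := by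
        intro a b
        have hb : b ∈ Subgroup.center G := h ▸ Subgroup.mem_top b
        exact (Subgroup.mem_center_iff.mp hb a)
      letI : CommGroup G := { (inferInstance : Group G) with mul_comm := hcomm }
      exact IsSimpleGroup.isCyclic
  let ψ : G ≃* Matrix.ProjectiveSpecialLinearGroup (Fin 2) (ZMod p) :=
    (QuotientGroup.quotientBot.symm.trans
      (QuotientGroup.quotientMulEquivOfEq hcenter.symm)).trans φ
  have hcardeq : Nat.card G = Nat.card (Matrix.ProjectiveSpecialLinearGroup (Fin 2) (ZMod p)) :=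
    Nat.card_congr ψ.toEquiv
  -- p is odd
  have hp2 : p ≠ 2 := by
    intro h2
    rw [h2] at hg
    have hg00 : g₀ = 0 := by omega
    rw [hg00, mul_zero] at hG'
    have : 0 < Nat.card G := Nat.card_pos
    omega
  have hp3 : 3 ≤ p := by
    have := hp.two_le
    omega
  have hpodd : p % 2 = 1 := by
    rcases hp.eq_two_or_odd with h | h
    · exact absurd h hp2
    · exact h
  have hpsl := Cfsg.Agent.Lib.Helper5.MobWild.card_psl (K := ZMod p) p (ZMod.card p) hpodd
  rw [← hcardeq, hG'] at hpsl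
  have h1 : 2 * (q ^ b * g₀) = (p - 1) * (p + 1) := by
    have : p * (2 * (q ^ b * g₀)) = p * ((p - 1) * (p + 1)) := by rw [← hpsl]; ring
    exact Nat.eq_of_mul_eq_mul_left hp.pos this
  obtain ⟨m, hm⟩ := plus_arith hp3 hpodd hq h1 hg
  exact ⟨m, ZMod p, inferInstance, inferInstance, ZMod.card p, hm, ⟨ψ⟩⟩

end Cfsg.Agent.Lib.Helper8.Brt
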