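import Mathlib
import Cfsg.Agent.Lib.Helper8.Brt15
import Cfsg.Agent.Lib.Helper8.Brt16

/-!
# Brauer–Tuan (S0997), part 17: the reduction of S0997 to S4504 and S0999.
-/

set_option autoImplicit false
set_option linter.unusedSectionVars false
set_option linter.unusedVariables false
set_option linter.style.longLine false

namespace Cfsg.Agent.Lib.Helper8.Brt
open Cfsg Cfsg.Agent.Lib.Helper6 Cfsg.Agent.Lib.Helper7.Bt

/-- **S0997 from S4504 and S0999** (the hypotheses are the two statements specialised to `G`). -/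
theorem s0997_of {G : Type*} [Group G] [Finite G] [IsSimpleGroup G] (hG : ¬ IsCyclic G)
    (p q b g₀ : ℕ) (hp : p.Prime) (hq : q.Prime) (hpq : p ≠ q)
    (hG' : Nat.card G = p * q ^ b * g₀) (hg : g₀ < p - 1)
    (h4504 : p ∣ Nat.card G → ¬ p ^ 2 ∣ Nat.card G →
      (∀ H : Subgroup G, H.Normal → Nat.card H ≠ p) →
      ∀ χ : G → ℂ, Cfsg.IsCharacter G χ → (∀ g : G, χ g = χ 1 → g = 1) →
      2 * Cfsg.charDegree χ + 1 = p →
      Nonempty ((G ⧸ Subgroup.center G) ≃* Matrix.ProjectiveSpecialLinearGroup (Fin 2) (ZMod p)))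
    (h0999 : Nat.card G < p ^ 3 →
      (∃ (F : Type) (_ : Field F) (_ : Fintype F), Fintype.card F = p ∧ 3 < p ∧
        Nonempty (G ≃* Matrix.ProjectiveSpecialLinearGroup (Fin 2) F)) ∨
      (∃ (m : ℕ) (F : Type) (_ : Field F) (_ : Fintype F), Fintype.card F = 2 ^ m ∧
        p = 2 ^ m + 1 ∧ 3 < p ∧ Nonempty (G ≃* Matrix.ProjectiveSpecialLinearGroup (Fin 2) F))) :
    (∃ (m : ℕ) (F : Type) (_ : Field F) (_ : Fintype F), Fintype.card F = p ∧
      (p = 2 ^ m + 1 ∨ p = 2 ^ m - 1) ∧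
      Nonempty (G ≃* Matrix.ProjectiveSpecialLinearGroup (Fin 2) F)) ∨
    (∃ (m : ℕ) (F : Type) (_ : Field F) (_ : Fintype F), Fintype.card F = 2 ^ m ∧
      p = 2 ^ m + 1 ∧ 3 < p ∧ Nonempty (G ≃* Matrix.ProjectiveSpecialLinearGroup (Fin 2) F)) := by
  classical
  haveI : Fact p.Prime := ⟨hp⟩
  haveI : Fintype G := Fintype.ofFinite G
  obtain ⟨P, e, c, M, X, Y, εX, ε, θ₀, hp2, hperf, hP, hCc, hNc, hedvd, he2, hcard, hM, D, h1X,
    hε1, hXq, hθ₀, hθg, hcases⟩ := phase1 hG p q b g₀ hq hpq hG' hg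
  have DP : PData p e M X Y εX ε := D.toPData
  have hθne : θ₀ ≠ oneIrr G := fun h => DP.disj _ h1X (h ▸ hθ₀)
  rcases hcases with ⟨hε, hdeg⟩ | ⟨hε, hdeg⟩
  · -- ε = 1
    left
    clear h0999
    have hcardpos : 0 < Nat.card G := Nat.card_pos
    have hg0 : 0 < g₀ := by
      rcases Nat.eq_zero_or_pos g₀ with h | h
      · rw [h, mul_zero] at hG'; omega
      · exact h
    have hdiv : p ∣ Nat.card G := by
      rw [hG', mul_assoc]; exact Dvd.intro _ rfl
    have hsq : ¬ p ^ 2 ∣ Nat.card G := by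
      rw [hG', pow_two, mul_assoc]
      intro h
      have h1 : p ∣ q ^ b * g₀ := Nat.dvd_of_mul_dvd_mul_left hp.pos h
      rcases (Nat.Prime.dvd_mul hp).mp h1 with h2 | h2
      · have := hp.dvd_of_dvd_pow h2
        exact hpq ((Nat.prime_dvd_prime_iff_eq hp hq).mp this)
      · have := Nat.le_of_dvd hg0 h2
        omega
    have hGne : Nat.card G ≠ p := by
      intro h1
      haveI : Fact (Nat.card G).Prime := ⟨by rw [h1]; exact hp⟩
      exact hG (isCyclic_of_prime_card rfl)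
    have hnn : ∀ H : Subgroup G, H.Normal → Nat.card H ≠ p := by
      intro H hH
      rcases hH.eq_bot_or_eq_top with h | h
      · rw [h, Subgroup.card_bot]; exact hp.one_lt.ne
      · rw [h, Subgroup.card_top]; exact hGne
    have hfaith := Cfsg.Agent.Lib.Helper7.BReyH.faithful_of_simple θ₀ hθne
    have hS : p ≤ 2 * deg θ₀ + 1 :=
      Cfsg.Agent.S4503.result p hp hdiv hsq hnn _ (IsIrrCharacter.isCharacter θ₀.2) hfaith
    rw [hdeg] at hS
    have helt : e < p - 1 := by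
      have h1 : e ≤ g₀ := by rw [← hdeg]; exact Nat.le_of_dvd hg0 hθg
      omega
    have h2e : 2 * e ≤ p - 1 := by
      obtain ⟨t, ht⟩ := hedvd
      rcases Nat.lt_or_ge t 2 with h | h
      · exfalso
        have ht1 : t = 1 := by
          rcases Nat.eq_zero_or_pos t with h0 | h0
          · rw [h0, mul_zero] at ht; omega
          · omega
        rw [ht1, mul_one] at ht
        omega
      · rw [ht]
        calc 2 * e = e * 2 := by ring
          _ ≤ e * t := Nat.mul_le_mul_left e h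
    have hpe : 2 * deg θ₀ + 1 = p := by rw [hdeg]; omega
    have hiso := h4504 hdiv hsq hnn _ (IsIrrCharacter.isCharacter θ₀.2) hfaith hpe
    exact plus_end hG p q b g₀ hp hq hpq hG' hg hiso
  · -- ε = -1
    obtain ⟨κ, hκ, hlt⟩ := minus_branch p q b g₀ hq hpq hG' hg P e c M X Y εX ε θ₀ hp2 hperf hP
      hCc hNc hedvd he2 hcard hM D h1X hε1 hXq hθ₀ hθg hε hdeg
    rcases h0999 hlt with ⟨F, hF1, hF2, hcF, h3, hiso⟩ | h2
    · left
      exact ⟨κ, F, hF1, hF2, hcF, Or.inl hκ, hiso⟩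
    · right
      exact h2

end Cfsg.Agent.Lib.Helper8.Brt
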