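import Mathlib
import Cfsg.Agent.Lib.Helper6.CL0
import Cfsg.Agent.Lib.Helper8.CLP8b

/-!
# S2990 / S2989 farm (owner helper6): unit `omegaOneCenter_facts`, verbatim
-/

set_option autoImplicit false

namespace Cfsg.Agent.Lib.Helper8.CLP8

open Cfsg.Agent.Lib.Helper6.CLP

variable {G : Type*} [Group G] [Finite G] {p : ℕ} [Fact p.Prime]

omit [Finite G] [Fact p.Prime] in
theorem omegaOneCenter_facts (p : Nat) (X : Subgroup G) :
    Cfsg.omegaOneCenter p X ≤ Cfsg.Agent.Lib.Helper6.CLP.zc X ∧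
      ∀ e ∈ Cfsg.omegaOneCenter p X, e ^ p = 1 :=
  ⟨fun x hx => ((mem_omegaOneCenter_iff p X x).1 hx).1,
    fun e he => ((mem_omegaOneCenter_iff p X e).1 he).2⟩

end Cfsg.Agent.Lib.Helper8.CLP8
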