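import Mathlib
import Cfsg.Agent.Lib.Helper8.CTTDefs

/-!
# Farm CTT (S3246), unit U3a: `E = Ω₁(A)`.
-/

set_option autoImplicit false

namespace Cfsg.Agent.Lib.Helper8.CTT3a

open Cfsg

theorem exists_E {G : Type*} [Group G] [Finite G] (S : Sylow 2 G) (A : Subgroup G)
    (hA : Cfsg.IsSCN (S : Subgroup G) A) (hA3 : ¬ Cfsg.PRankLE 2 2 ↥A) :
    ∃ E : Subgroup G, E ≤ (S : Subgroup G) ∧ (S : Subgroup G) ≤ Subgroup.normalizer (E : Set G) ∧
      (∀ a ∈ E, a ^ 2 = 1) ∧ (∀ a ∈ E, ∀ b ∈ E, a * b = b * a) ∧ 4 < Nat.card ↥E := by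
  obtain ⟨hAS, hSA, hCA⟩ := hA
  have hab : ∀ a ∈ A, ∀ b ∈ A, a * b = b * a := by
    intro a ha b hb
    have h1 : a ∈ (S : Subgroup G) ⊓ Subgroup.centralizer (A : Set G) := by rw [hCA]; exact ha
    have h2 := (Subgroup.mem_inf.mp h1).2
    exact (Subgroup.mem_centralizer_iff.mp h2 b hb).symm
  let E : Subgroup G :=
    { carrier := {a | a ∈ A ∧ a ^ 2 = 1}
      one_mem' := ⟨A.one_mem, one_pow 2⟩
      mul_mem' := by
        rintro a b ⟨haA, ha2⟩ ⟨hbA, hb2⟩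
        refine ⟨A.mul_mem haA hbA, ?_⟩
        have hc : Commute a b := hab a haA b hbA
        rw [hc.mul_pow, ha2, hb2, mul_one]
      inv_mem' := by
        rintro a ⟨haA, ha2⟩
        refine ⟨A.inv_mem haA, ?_⟩
        rw [inv_pow, ha2, inv_one] }
  have hEmem : ∀ a, a ∈ E ↔ (a ∈ A ∧ a ^ 2 = 1) := fun a => Iff.rfl
  refine ⟨E, fun a ha => hAS ((hEmem a).mp ha).1, ?_, fun a ha => ((hEmem a).mp ha).2,
    fun a ha b hb => hab a ((hEmem a).mp ha).1 b ((hEmem b).mp hb).1, ?_⟩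
  · intro s hs
    apply Subgroup.mem_normalizer_fintype
    intro n hn
    rw [SetLike.mem_coe, hEmem] at hn ⊢
    obtain ⟨hnA, hn2⟩ := hn
    refine ⟨(Subgroup.mem_normalizer_iff.mp (hSA hs) n).mp hnA, ?_⟩
    rw [conj_pow, hn2, mul_one, mul_inv_cancel]
  · unfold PRankLE at hA3
    push Not at hA3
    obtain ⟨B, hBc, hB2, hBcard⟩ := hA3
    have hBE : B.map A.subtype ≤ E := by
      rintro _ ⟨b, hb, rfl⟩
      rw [hEmem]
      refine ⟨b.2, ?_⟩
      have h := congrArg Subtype.val (hB2 b hb)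
      rw [Subgroup.coe_pow, Subgroup.coe_one] at h
      exact h
    have hcard : Nat.card ↥(B.map A.subtype) = Nat.card ↥B :=
      (Nat.card_congr (B.equivMapOfInjective _ (Subgroup.subtype_injective A)).toEquiv).symm
    calc 4 = 2 ^ 2 := by norm_num
      _ < Nat.card ↥B := hBcard
      _ = Nat.card ↥(B.map A.subtype) := hcard.symm
      _ ≤ Nat.card ↥E := Subgroup.card_le_of_le hBE

end Cfsg.Agent.Lib.Helper8.CTT3a
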