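import Mathlib
import Cfsg.Agent.Lib.Helper8.CTTDefs
import Cfsg.Agent.Lib.Lead.RVA

/-!
# Farm CTT (S3246), unit U5: `C_X(a) = 1` by the index-two chain trick.
-/

set_option autoImplicit false

namespace Cfsg.Agent.Lib.Helper8.CTT5

open Cfsg Cfsg.Agent.Lib.Helper8.CTT

/-- an element of a 2-group killed by an odd power is trivial -/
theorem eq_one_of_odd_pow {G : Type*} [Group G] {Q : Subgroup G} (hQ : IsPGroup 2 ↥Q) {m : ℕ}
    (hm : Odd m) {c : G} (hc : c ∈ Q) (hcm : c ^ m = 1) : c = 1 := by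
  obtain ⟨k, hk⟩ := hQ ⟨c, hc⟩
  have hk' : c ^ 2 ^ k = 1 := by simpa using congrArg Subtype.val hk
  have h1 : orderOf c ∣ 2 ^ k := orderOf_dvd_of_pow_eq_one hk'
  have h2 : orderOf c ∣ m := orderOf_dvd_of_pow_eq_one hcm
  have h3 : Nat.Coprime m (2 ^ k) := Nat.Coprime.pow_right k hm.coprime_two_right
  have : orderOf c = 1 := Nat.eq_one_of_dvd_coprimes h3 h2 h1
  exact orderOf_eq_one_iff.mp this

theorem cent_trivial {G : Type*} [Group G] [Finite G] (S₀ X H Q : Subgroup G) (a : G)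
    (hX : Odd (Nat.card ↥X)) (hS₀X : S₀ ≤ Subgroup.normalizer (X : Set G))
    (hS₀a : S₀ ≤ Subgroup.centralizer ({a} : Set G))
    (hH : Subgroup.centralizer ({a} : Set G) ≤ H) (hQ : Cons H Q)
    (hidx : ∀ q₁ ∈ Q, ∀ q₂ ∈ Q, q₁ ∉ S₀ → q₂ ∉ S₀ → q₁⁻¹ * q₂ ∈ S₀) :
    ∀ x ∈ X, x * a = a * x → x = 1 := by
  intro y hyX hya
  have hyCa : y ∈ Subgroup.centralizer ({a} : Set G) := by
    rw [Subgroup.mem_centralizer_iff]
    intro g hg
    rw [Set.mem_singleton_iff] at hg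
    rw [hg]; exact hya.symm
  have hyH : y ∈ H := hH hyCa
  have hyNQ : y ∈ Subgroup.normalizer (Q : Set G) := hQ.norm hyH
  have hyo : Odd (orderOf y) := Odd.of_dvd_nat hX (Subgroup.orderOf_dvd_natCard X hyX)
  -- conjugation by `y` preserves `Q`
  have hconjQ : ∀ q ∈ Q, y * q * y⁻¹ ∈ Q := fun q hq =>
    (Subgroup.mem_normalizer_iff.mp hyNQ q).mp hq
  -- (A) `y` centralizes `Q ⊓ S₀`
  have hA : ∀ c ∈ Q ⊓ S₀, y * c * y⁻¹ = c := by
    intro c hc
    obtain ⟨hcQ, hcS⟩ := Subgroup.mem_inf.mp hc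
    have hwQ : y * c * y⁻¹ * c⁻¹ ∈ Q := Q.mul_mem (hconjQ c hcQ) (Q.inv_mem hcQ)
    have hwX : y * c * y⁻¹ * c⁻¹ ∈ X := by
      have h1 : c * y⁻¹ * c⁻¹ ∈ X :=
        (Subgroup.mem_normalizer_iff.mp (hS₀X hcS) y⁻¹).mp (X.inv_mem hyX)
      have e : y * c * y⁻¹ * c⁻¹ = y * (c * y⁻¹ * c⁻¹) := by group
      rw [e]; exact X.mul_mem hyX h1
    have hw1 : (y * c * y⁻¹ * c⁻¹) ^ Nat.card ↥X = 1 := by
      exact orderOf_dvd_iff_pow_eq_one.mp (Subgroup.orderOf_dvd_natCard X hwX)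
    have hw := eq_one_of_odd_pow hQ.two hX hwQ hw1
    calc y * c * y⁻¹ = (y * c * y⁻¹ * c⁻¹) * c := by group
      _ = c := by rw [hw, one_mul]
  -- chain step
  have hφ : (MulAut.conj y) ^ orderOf y = 1 := by
    rw [← map_pow, pow_orderOf_eq_one, map_one]
  have hchain := Cfsg.Agent.Lib.Lead.RVA.chain_step (MulAut.conj y) (orderOf y) hφ (Q ⊓ S₀) Q
    (fun c hc hcn => eq_one_of_odd_pow hQ.two hyo (Subgroup.mem_inf.mp hc).1 hcn)
    (fun c hc => by rw [MulAut.conj_apply]; exact hA c hc)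
    (by
      intro b hb
      rw [MulAut.conj_apply]
      refine Subgroup.mem_inf.mpr ⟨Q.mul_mem (hconjQ b hb) (Q.inv_mem hb), ?_⟩
      by_cases hbS : b ∈ S₀
      · rw [hA b (Subgroup.mem_inf.mpr ⟨hb, hbS⟩), mul_inv_cancel]; exact S₀.one_mem
      · have hb'S : y * b * y⁻¹ ∉ S₀ := by
          intro h
          apply hbS
          have h1 := hA _ (Subgroup.mem_inf.mpr ⟨hconjQ b hb, h⟩)
          have h2 : y * b * y⁻¹ = b := by
            calc y * b * y⁻¹ = y⁻¹ * (y * (y * b * y⁻¹) * y⁻¹) * y := by group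
              _ = y⁻¹ * (y * b * y⁻¹) * y := by rw [h1]
              _ = b := by group
          rw [← h2]; exact h
        have h3 := hidx (y * b * y⁻¹)⁻¹ (Q.inv_mem (hconjQ b hb)) b⁻¹ (Q.inv_mem hb)
          (fun h => hb'S (by simpa using S₀.inv_mem h))
          (fun h => hbS (by simpa using S₀.inv_mem h))
        rwa [inv_inv] at h3)
  have hyCQ : y ∈ Subgroup.centralizer (Q : Set G) := by
    rw [Subgroup.mem_centralizer_iff]
    intro q hq
    have h1 := hchain q hq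
    rw [MulAut.conj_apply] at h1
    calc q * y = (y * q * y⁻¹) * y := by rw [h1]
      _ = y * q := by group
  have hyQ : y ∈ Q := hQ.cent (Subgroup.mem_inf.mpr ⟨hyH, hyCQ⟩)
  exact eq_one_of_odd_pow hQ.two hyo hyQ (pow_orderOf_eq_one y)

end Cfsg.Agent.Lib.Helper8.CTT5
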