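import Mathlib
import Cfsg.Agent.Lib.Helper8.CTTDefs

/-!
# Farm CTT (S3246), unit U7c: a nontrivial 2-group has a central involution.
-/

set_option autoImplicit false

namespace Cfsg.Agent.Lib.Helper8.CTT7c

theorem exists_central_involution {G : Type*} [Group G] [Finite G] (T : Subgroup G)
    (hT : IsPGroup 2 ↥T) (hT1 : T ≠ ⊥) :
    ∃ e ∈ T, orderOf e = 2 ∧ ∀ t ∈ T, t * e = e * t := by
  have : Fact (Nat.Prime 2) := ⟨Nat.prime_two⟩
  have hnt : Nontrivial ↥T := (Subgroup.nontrivial_iff_ne_bot T).mpr hT1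
  have hZ : Nontrivial (Subgroup.center ↥T) := hT.center_nontrivial
  have hZp : IsPGroup 2 (Subgroup.center ↥T) := hT.to_subgroup _
  obtain ⟨k, hk⟩ := IsPGroup.iff_card.mp hZp
  have h2 : 2 ∣ Nat.card (Subgroup.center ↥T) := by
    rw [hk]
    have hk0 : k ≠ 0 := by
      rintro rfl
      have h0 : Nat.card (Subgroup.center ↥T) = 1 := by simpa using hk
      have h1 := Finite.one_lt_card (α := Subgroup.center ↥T)
      omega
    exact dvd_pow_self 2 hk0
  obtain ⟨x, hx⟩ := exists_prime_orderOf_dvd_card' 2 h2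
  refine ⟨((x : ↥T) : G), (x : ↥T).2, ?_, ?_⟩
  · rw [Subgroup.orderOf_coe, Subgroup.orderOf_coe]; exact hx
  · intro t ht
    have := Subgroup.mem_center_iff.mp x.2 ⟨t, ht⟩
    exact congrArg Subtype.val this

end Cfsg.Agent.Lib.Helper8.CTT7c
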