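import Mathlib
import Cfsg.Agent.Lib.Helper8.CTTDefs
import Cfsg.Agent.Lib.Helper7.CharP8
import Cfsg.Agent.Lib.Helper1.PConstrainedQuotient

/-!
# Farm CTT (S3246), unit U8: `K = L ⊓ C(O_2(L))` a 2-group ⇒ `L` is 2-constrained.
-/

set_option autoImplicit false

namespace Cfsg.Agent.Lib.Helper8.CTT8

open Cfsg Cfsg.Agent.Lib.Helper7 Cfsg.Agent.Lib.Helper8.CTT

theorem constrained_of_isPGroup {G : Type*} [Group G] [Finite G] (L : Subgroup G)
    (hK : IsPGroup 2 ↥(L ⊓ Subgroup.centralizer (pCoreIn 2 L : Set G))) :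
    Cfsg.IsPConstrained 2 ↥L := by
  have : Fact (Nat.Prime 2) := ⟨Nat.prime_two⟩
  have hLP := le_normalizer_pCoreIn 2 L
  have hKn : L ≤ Subgroup.normalizer
      ((L ⊓ Subgroup.centralizer (pCoreIn 2 L : Set G) : Subgroup G) : Set G) := by
    intro l hl
    apply Subgroup.mem_normalizer_fintype
    intro k hk
    rw [SetLike.mem_coe, Subgroup.mem_inf] at hk ⊢
    obtain ⟨hkL, hkC⟩ := hk
    refine ⟨L.mul_mem (L.mul_mem hl hkL) (L.inv_mem hl), ?_⟩
    rw [Subgroup.mem_centralizer_iff] at hkC ⊢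
    intro z hz
    -- `l⁻¹ z l ∈ P`
    have hz' : l⁻¹ * z * l ∈ pCoreIn 2 L := by
      have h1 := (Subgroup.mem_normalizer_iff.mp (hLP hl) (l⁻¹ * z * l)).mpr
      apply h1
      have e : l * (l⁻¹ * z * l) * l⁻¹ = z := by group
      rw [e]; exact hz
    have h2 := hkC _ hz'
    calc z * (l * k * l⁻¹) = l * ((l⁻¹ * z * l) * k) * l⁻¹ := by group
      _ = l * (k * (l⁻¹ * z * l)) * l⁻¹ := by rw [h2]
      _ = l * k * l⁻¹ * z := by group
  have hKP : L ⊓ Subgroup.centralizer (pCoreIn 2 L : Set G) ≤ pCoreIn 2 L :=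
    le_pCoreIn inf_le_left hK hKn
  have hchar : Subgroup.centralizer (pCore 2 ↥L : Set ↥L) ≤ pCore 2 ↥L := by
    intro y hy
    have h1 : (y : G) ∈ L ⊓ Subgroup.centralizer (pCoreIn 2 L : Set G) := by
      refine Subgroup.mem_inf.mpr ⟨y.2, ?_⟩
      rw [Subgroup.mem_centralizer_iff]
      intro z hz
      have hzL := pCoreIn_le 2 L hz
      have hz' := (mem_pCoreIn_iff hzL).mp hz
      have := Subgroup.mem_centralizer_iff.mp hy ⟨z, hzL⟩ hz'
      exact congrArg Subtype.val this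
    exact (mem_pCoreIn_iff y.2).mp (hKP h1)
  exact (Cfsg.Agent.Lib.Helper1.isPConstrained_iff_of_pPrimeCore_eq_bot
    (pPrimeCore_eq_bot_of_charP hchar)).mpr hchar

end Cfsg.Agent.Lib.Helper8.CTT8
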