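import Mathlib
import Cfsg.Agent.Lib.Helper8.CTTDefs

/-!
# Farm CTT (S3246): STUBS (sorry'd; NEVER import this file).  Blueprint: helper8 tip "NOMINATE S3246".
Each unit: new file `Cfsg/Agent/Lib/<Seat>/CTT<unit>.lean`, own namespace, statement VERBATIM, importing
Mathlib + `Cfsg.Agent.Lib.Helper8.CTTDefs` (+ any existing main lib).  Useful landed material:
`Cfsg.Agent.Lib.Helper7` (`PCoreSub.lean`: `pCoreIn`, `pCoreIn_le`, `pCoreIn_isPGroup`, `mem_pCoreIn_iff`,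
`le_normalizer_pCoreIn`, `le_pCoreIn`), `Cfsg.Agent.Lib.Helper3.TW.pCoreIn_le_pCoreIn` (`Helper3/TW1.lean`),
`Cfsg.Agent.Lib.Lead.RVA.chain_step` (`Lead/RVA.lean`), `Cfsg.Agent.Lib.Helper8.thompson_AxB`
(`Helper8/AxB.lean`), `Cfsg.Agent.Lib.Helper1.normal_inf_center_ne_bot` (`Helper1/Nilpotent.lean`).
-/

set_option autoImplicit false

namespace Cfsg.Agent.Lib.Helper8.CTTStubs

open Cfsg Cfsg.Agent.Lib.Helper7 Cfsg.Agent.Lib.Helper8.CTT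

/-! ## The abstract hypothesis from alternative (i) -/

/-- UNIT U2.  For an involution `e`, `C_G(e) ≤ N_G(⟨e⟩)`, a 2-local; among the 2-locals containing it take
one of largest order: it is a maximal 2-local `M`; then `Cons M (pCoreIn 2 M)` by `cons_of_constrained`. -/
theorem hyp_of_maximal {G : Type*} [Group G] [Finite G]
    (h : ∀ M : Subgroup G, Cfsg.IsMaximalTwoLocal M →
      Cfsg.IsPConstrained 2 ↥M ∧ Cfsg.oddCore ↥M = ⊥) : Hyp G := by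
  sorry

/-! ## Part 1: `S` normalizes no nontrivial subgroup of odd order -/

/-- UNIT U3a.  `A` is abelian (`C_S(A) = A`); `E = Ω₁(A) = {a ∈ A | a ^ 2 = 1}` is a subgroup, normalized by `S`
(as `A` is), and contains the image of the subgroup of `↥A` witnessing `¬ PRankLE 2 2 ↥A`. -/
theorem exists_E {G : Type*} [Group G] [Finite G] (S : Sylow 2 G) (A : Subgroup G)
    (hA : Cfsg.IsSCN (S : Subgroup G) A) (hA3 : ¬ Cfsg.PRankLE 2 2 ↥A) :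
    ∃ E : Subgroup G, E ≤ (S : Subgroup G) ∧ (S : Subgroup G) ≤ Subgroup.normalizer (E : Set G) ∧
      (∀ a ∈ E, a ^ 2 = 1) ∧ (∀ a ∈ E, ∀ b ∈ E, a * b = b * a) ∧ 4 < Nat.card ↥E := by
  sorry

/-- UNIT U3b.  `z ≠ 1` in `E ∩ Z(S)` (`normal_inf_center_ne_bot` in `↥S`).  Then `E/⟨z⟩` is a nontrivial normal
subgroup of `S/⟨z⟩`, so it meets the centre: `e ∈ E`, `e ∉ ⟨z⟩ = {1, z}`, `[s, e] ∈ {1, z}` for all `s ∈ S`.
(Or: `S` acts on the `|E|/2` cosets of `⟨z⟩` in `E`, an even number, fixing the trivial coset, hence another one.) -/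
theorem exists_z_e {G : Type*} [Group G] [Finite G] (S : Sylow 2 G) (E : Subgroup G)
    (hES : E ≤ (S : Subgroup G)) (hSE : (S : Subgroup G) ≤ Subgroup.normalizer (E : Set G))
    (hE2 : ∀ a ∈ E, a ^ 2 = 1) (hEc : ∀ a ∈ E, ∀ b ∈ E, a * b = b * a) (hcard : 4 < Nat.card ↥E) :
    ∃ z e : G, z ∈ E ∧ e ∈ E ∧ z ≠ 1 ∧ e ≠ 1 ∧ e ≠ z ∧ (∀ s ∈ (S : Subgroup G), s * z * s⁻¹ = z) ∧
      (∀ s ∈ (S : Subgroup G), s * e * s⁻¹ = e ∨ s * e * s⁻¹ = e * z) := by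
  sorry

/-- UNIT U4.  `S₀ = C_S(a)` has `|S| ≤ 2 |S₀|` (two elements of `S` moving `a` to `b ≠ a` differ by `S₀`).
`S₀ ≤ C_G(a) ≤ H ≤ N(Q)`, so `Q ⊔ S₀` is a 2-group, `|Q ⊔ S₀| ≤ |S|`, hence `|Q : Q ⊓ S₀| = |Q ⊔ S₀ : S₀| ≤ 2`. -/
theorem index_two {G : Type*} [Group G] [Finite G] (S : Sylow 2 G) (a b : G)
    (hab : ∀ s ∈ (S : Subgroup G), s * a * s⁻¹ = a ∨ s * a * s⁻¹ = b)
    (H Q : Subgroup G) (hH : Subgroup.centralizer ({a} : Set G) ≤ H) (hQ : Cons H Q) :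
    ∀ q₁ ∈ Q, ∀ q₂ ∈ Q, q₁ ∉ (S : Subgroup G) ⊓ Subgroup.centralizer ({a} : Set G) →
      q₂ ∉ (S : Subgroup G) ⊓ Subgroup.centralizer ({a} : Set G) →
      q₁⁻¹ * q₂ ∈ (S : Subgroup G) ⊓ Subgroup.centralizer ({a} : Set G) := by
  sorry

/-- UNIT U5.  `Y = C_X(a)` (odd order, `Y ≤ C_G(a) ≤ H ≤ N(Q)`, normalized by `S₀`).  `Q₁ = Q ⊓ S₀`: `[Q₁, Y] ≤ Q ⊓ Y = 1`.
For `q ∈ Q \ S₀`, `y ∈ Y`: `y q y⁻¹ ∉ S₀` (else `y` centralizes it and `q ∈ S₀`), so `c = (y q y⁻¹) q⁻¹`... lies in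
`Q₁` (use `hidx` on inverses), commutes with `y`; `chain_step` with `φ = MulAut.conj y`, `n = orderOf y` (odd),
`N = Q ⊓ S₀`, `B = Q` gives `y q y⁻¹ = q`.  So `y ∈ H ⊓ C(Q) ≤ Q`, a 2-group, and `y` has odd order: `y = 1`. -/
theorem cent_trivial {G : Type*} [Group G] [Finite G] (S₀ X H Q : Subgroup G) (a : G)
    (hX : Odd (Nat.card ↥X)) (hS₀X : S₀ ≤ Subgroup.normalizer (X : Set G))
    (hS₀a : S₀ ≤ Subgroup.centralizer ({a} : Set G))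
    (hH : Subgroup.centralizer ({a} : Set G) ≤ H) (hQ : Cons H Q)
    (hidx : ∀ q₁ ∈ Q, ∀ q₂ ∈ Q, q₁ ∉ S₀ → q₂ ∉ S₀ → q₁⁻¹ * q₂ ∈ S₀) :
    ∀ x ∈ X, x * a = a * x → x = 1 := by
  sorry

/-- UNIT U6.  A fixed-point-free involution `a` normalizing `X` inverts `X`: `x ↦ x⁻¹ * (a * x * a⁻¹)` is injective
on the finite set `X`, hence onto, and `a` inverts every element of that form.  `e * z` then acts on `X` both
as inversion and as the identity, so `x = x⁻¹`, `x ^ 2 = 1`, `x = 1` (odd order). -/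
theorem eq_bot_of_fpf {G : Type*} [Group G] [Finite G] (X : Subgroup G) (hX : Odd (Nat.card ↥X))
    (z e : G) (hz : orderOf z = 2) (he : orderOf e = 2) (hez : orderOf (e * z) = 2)
    (hzX : z ∈ Subgroup.normalizer (X : Set G)) (heX : e ∈ Subgroup.normalizer (X : Set G))
    (hz1 : ∀ x ∈ X, x * z = z * x → x = 1) (he1 : ∀ x ∈ X, x * e = e * x → x = 1)
    (hez1 : ∀ x ∈ X, x * (e * z) = (e * z) * x → x = 1) : X = ⊥ := by
  sorry

/-! ## Part 2: every 2-local is 2-constrained -/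

/-- UNIT U7c.  A nontrivial 2-group has a central involution. -/
theorem exists_central_involution {G : Type*} [Group G] [Finite G] (T : Subgroup G)
    (hT : IsPGroup 2 ↥T) (hT1 : T ≠ ⊥) :
    ∃ e ∈ T, orderOf e = 2 ∧ ∀ t ∈ T, t * e = e * t := by
  sorry

/-- UNIT U7a.  `L = N(T)`, `P = pCoreIn 2 L ≥ T`, `K = L ⊓ C(P) ≤ C(T) ≤ H`, `L ≤ N(K)`.
`Q ⊓ K ≤ pCoreIn 2 K` (`le_pCoreIn`; `K ≤ H ≤ N(Q)`), `pCoreIn 2 K ≤ P` (`TW.pCoreIn_le_pCoreIn`), so `y` centralizes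
`Q ⊓ K`.  For `d ∈ Q ⊓ C(T) ≤ L`: `y d y⁻¹ d⁻¹ ∈ Q ⊓ K`.  `chain_step` (`φ = MulAut.conj y`, `n = orderOf y`,
`N = Q ⊓ K`, `B = Q ⊓ C(T)`) gives `y d y⁻¹ = d`. -/
theorem centralizes_CQT {G : Type*} [Group G] [Finite G] (T H Q : Subgroup G) (hT : IsPGroup 2 ↥T)
    (hTH : Subgroup.centralizer (T : Set G) ≤ H) (hQ : Cons H Q) (y : G)
    (hyL : y ∈ Subgroup.normalizer (T : Set G))
    (hyC : y ∈ Subgroup.centralizer (pCoreIn 2 (Subgroup.normalizer (T : Set G)) : Set G))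
    (hyo : Odd (orderOf y)) :
    ∀ d ∈ Q ⊓ Subgroup.centralizer (T : Set G), d * y = y * d := by
  sorry

/-- UNIT U7b.  `thompson_AxB 2 (zpowers y) T` on `Q` gives `⁅Q, zpowers y⁆ = ⊥`, so `y ∈ H ⊓ C(Q) ≤ Q`,
a 2-group; `y` has odd order, so `y = 1`. -/
theorem eq_one_of_odd {G : Type*} [Group G] [Finite G] (T H Q : Subgroup G) (hT : IsPGroup 2 ↥T)
    (hTH : T ≤ H) (hQ : Cons H Q) (y : G) (hyH : y ∈ H)
    (hyT : y ∈ Subgroup.centralizer (T : Set G)) (hyo : Odd (orderOf y))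
    (hyD : ∀ d ∈ Q ⊓ Subgroup.centralizer (T : Set G), d * y = y * d) : y = 1 := by
  sorry

/-- UNIT U8.  `K = L ⊓ C(pCoreIn 2 L)` is normalized by `L`, so `K ≤ pCoreIn 2 L` (`le_pCoreIn`); translate to
`centralizer (pCore 2 ↥L) ≤ pCore 2 ↥L` (`mem_pCoreIn_iff`), then `Helper7.pPrimeCore_eq_bot_of_charP` (`CharP8.lean`)
and `Helper1.isPConstrained_iff_of_pPrimeCore_eq_bot` (`PConstrainedQuotient.lean`). -/
theorem constrained_of_isPGroup {G : Type*} [Group G] [Finite G] (L : Subgroup G)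
    (hK : IsPGroup 2 ↥(L ⊓ Subgroup.centralizer (pCoreIn 2 L : Set G))) :
    Cfsg.IsPConstrained 2 ↥L := by
  sorry

end Cfsg.Agent.Lib.Helper8.CTTStubs
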