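import Mathlib
import Cfsg.Agent.Lib.Helper8.CUBFour

/-!
# Farm CUB (S4415): rank bounds for `b - 1` from the frozen hypotheses

From `E = E₀ ⊕ E₁`, `b` trivial on `E₁`, `E₀` invariant of order `27` carrying a cubic Jordan
block, we get `rank (b - 1) ≤ 2` and `rank (b - 1) ^ 2 ≤ 1`, and hence `FourData` for every
four-group normalized but not centralized by `B = ⟨b⟩`.
-/

set_option autoImplicit false
set_option maxHeartbeats 1000000

namespace Cfsg.Agent.Lib.Helper8.CUB

section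

variable {E : Type*} [AddCommGroup E] [Module (ZMod 3) E] [Finite E]

theorem finrank_sup_of_disjoint (s t : Submodule (ZMod 3) E) (h : s ⊓ t = ⊥) :
    Module.finrank (ZMod 3) ↥(s ⊔ t)
      = Module.finrank (ZMod 3) s + Module.finrank (ZMod 3) t := by
  have := Submodule.finrank_sup_add_finrank_inf_eq s t
  rw [h, finrank_bot, add_zero] at this
  exact this

theorem rank_bounds (β : E →ₗ[ZMod 3] E) (hβ3 : ∀ v, β (β (β v)) = v)
    (E₀ E₁ : Submodule (ZMod 3) E) (hE01 : E₀ ⊓ E₁ = ⊥) (hE01' : E₀ ⊔ E₁ = ⊤)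
    (hE1 : ∀ v ∈ E₁, β v = v) (hE0inv : ∀ v ∈ E₀, β v ∈ E₀) (hE0 : Nat.card ↥E₀ = 27)
    (hind : ∃ v ∈ E₀, β (β v - v) - (β v - v) ≠ 0) :
    Module.finrank (ZMod 3) (LinearMap.range (β - 1)) ≤ 2 ∧
    Module.finrank (ZMod 3) (LinearMap.range ((β - 1) * (β - 1))) ≤ 1 := by
  set n : E →ₗ[ZMod 3] E := β - 1 with hn
  have hnx : ∀ x, n x = β x - x := fun x => by simp [hn]
  have hn3 : ∀ x, n (n (n x)) = 0 := by
    intro x
    have e : n (n (n x)) = (β (β (β x)) - x) - (β (β x) + β (β x) + β (β x))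
        + (β x + β x + β x) := by
      simp only [hnx, map_sub]; abel
    rw [e, hβ3, add3, add3]; simp
  obtain ⟨v, hv0, hv⟩ := hind
  have hw2 : n (n v) ≠ 0 := by
    rw [hnx (n v), hnx v]; exact hv
  have hw1 : n v ≠ 0 := fun h => hw2 (by rw [h, map_zero])
  have hnE0 : ∀ x ∈ E₀, n x ∈ E₀ := fun x hx => by
    rw [hnx]; exact E₀.sub_mem (hE0inv x hx) hx
  have hw2E0 : n (n v) ∈ E₀ := hnE0 _ (hnE0 _ hv0)
  have hf0 : Module.finrank (ZMod 3) E₀ = 3 := by
    have h1 := Module.natCard_eq_pow_finrank (K := ZMod 3) (V := E₀)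
    rw [hE0, Nat.card_zmod] at h1
    have h2 : 3 ^ Module.finrank (ZMod 3) E₀ = 3 ^ 3 := by rw [← h1]; norm_num
    exact Nat.pow_right_injective (a := 3) (by norm_num) h2
  have hfE : Module.finrank (ZMod 3) E = 3 + Module.finrank (ZMod 3) E₁ := by
    have h1 := finrank_sup_of_disjoint E₀ E₁ hE01
    rw [hE01', finrank_top, hf0] at h1
    exact h1
  have hE1K : E₁ ≤ LinearMap.ker n := fun x hx => by
    rw [LinearMap.mem_ker, hnx, hE1 x hx, sub_self]
  have hspanK : Submodule.span (ZMod 3) {n (n v)} ≤ LinearMap.ker n := by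
    rw [Submodule.span_singleton_le_iff_mem, LinearMap.mem_ker]
    exact hn3 v
  have hdisj1 : E₁ ⊓ Submodule.span (ZMod 3) {n (n v)} = ⊥ := by
    rw [eq_bot_iff]
    intro x hx
    rw [Submodule.mem_inf] at hx
    have hx0 : x ∈ E₀ := (Submodule.span_singleton_le_iff_mem _ _).2 hw2E0 hx.2
    have : x ∈ E₀ ⊓ E₁ := ⟨hx0, hx.1⟩
    rw [hE01] at this
    exact this
  have hK1 : Module.finrank (ZMod 3) E₁ + 1 ≤ Module.finrank (ZMod 3) (LinearMap.ker n) := by
    have h1 := finrank_sup_of_disjoint _ _ hdisj1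
    rw [finrank_span_singleton hw2] at h1
    have h2 := Submodule.finrank_mono (sup_le hE1K hspanK)
    omega
  have hrn := LinearMap.finrank_range_add_finrank_ker n
  have hker12 : LinearMap.ker n ≤ LinearMap.ker (n * n) := fun x hx => by
    rw [LinearMap.mem_ker] at hx ⊢
    rw [Module.End.mul_apply, hx, map_zero]
  have hw1K : Submodule.span (ZMod 3) {n v} ≤ LinearMap.ker (n * n) := by
    rw [Submodule.span_singleton_le_iff_mem, LinearMap.mem_ker, Module.End.mul_apply]
    exact hn3 v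
  have hdisj2 : LinearMap.ker n ⊓ Submodule.span (ZMod 3) {n v} = ⊥ := by
    rw [eq_bot_iff]
    intro x hx
    rw [Submodule.mem_inf] at hx
    obtain ⟨s, rfl⟩ := Submodule.mem_span_singleton.1 hx.2
    have h1 : s • n (n v) = 0 := by
      have := hx.1
      rw [LinearMap.mem_ker, map_smul] at this
      exact this
    rcases smul_eq_zero.1 h1 with h | h
    · rw [h, zero_smul]; exact Submodule.zero_mem _
    · exact absurd h hw2
  have hK2 : Module.finrank (ZMod 3) (LinearMap.ker n) + 1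
      ≤ Module.finrank (ZMod 3) (LinearMap.ker (n * n)) := by
    have h1 := finrank_sup_of_disjoint _ _ hdisj2
    rw [finrank_span_singleton hw1] at h1
    have h2 := Submodule.finrank_mono (sup_le hker12 hw1K)
    omega
  have hrn2 := LinearMap.finrank_range_add_finrank_ker (n * n)
  constructor <;> omega

end

section

variable {S E : Type*} [Group S] [AddCommGroup E] [Module (ZMod 3) E] [Finite E]

/-- `FourData` from the frozen hypotheses of S4415, for an arbitrary four-group `Q`. -/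
theorem fourData_of_frozen (ρ : Representation (ZMod 3) S E) (hfaith : Function.Injective ρ)
    (B : Subgroup S) (hB : Nat.card ↥B = 3) (b : S) (hb : Subgroup.zpowers b = B)
    (E₀ E₁ : Submodule (ZMod 3) E) (hE01 : E₀ ⊓ E₁ = ⊥) (hE01' : E₀ ⊔ E₁ = ⊤)
    (hE1 : ∀ v ∈ E₁, ρ b v = v) (hE0inv : ∀ v ∈ E₀, ρ b v ∈ E₀) (hE0 : Nat.card ↥E₀ = 27)
    (hind : ∃ v ∈ E₀, ρ b (ρ b v - v) - (ρ b v - v) ≠ 0)
    (Q : Subgroup S) (hQ : Cfsg.IsElementaryAbelian 2 Q) (hQ4 : Nat.card ↥Q = 4)
    (hBQ : B ≤ Subgroup.normalizer (Q : Set S))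
    (hBQ' : ¬ B ≤ Subgroup.centralizer (Q : Set S)) : FourData ρ b Q := by
  have hb3 : b ^ 3 = 1 := by
    have h1 : orderOf b = 3 := by rw [← Nat.card_zpowers, hb, hB]
    rw [← h1]; exact pow_orderOf_eq_one b
  have hbB : b ∈ B := by rw [← hb]; exact Subgroup.mem_zpowers b
  have hβ3 : ∀ v, ρ b (ρ b (ρ b v)) = v := by
    intro v
    rw [rho_mul_apply, rho_mul_apply]
    have : b * b * b = 1 := by rw [← hb3]; simp [pow_succ]
    rw [this, map_one]; rfl
  obtain ⟨r2, r1⟩ := rank_bounds (ρ b) hβ3 E₀ E₁ hE01 hE01' hE1 hE0inv hE0 hind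
  exact
    { faith := hfaith
      b3 := hb3
      rk2 := r2
      rk1 := r1
      elem := hQ
      card := hQ4
      norm := hBQ hbB
      ncent := fun h => hBQ' (by rw [← hb]; exact (Subgroup.zpowers_le).2 h) }

end

end Cfsg.Agent.Lib.Helper8.CUB
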