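import Mathlib

set_option autoImplicit false

/-! A bound for the order of a centraliser from fixed points: if `G` is transitive on `X` and `S` is a set
of conjugates of `z` fixing a point, then `|C(z)| |S| |X| ≤ |G| |Fix(z)|`. -/

namespace Cfsg.Agent.Lib.Helper8.CentBd

theorem fix_aux {G X : Type*} [Group G] [MulAction G X] (z c a t y : G) (x0 x : X)
    (hc : c * z * c⁻¹ = z) (ha : a * z * a⁻¹ = y) (ht : t • x0 = x) (hy : y • x0 = x0) :
    z • ((t * a * c)⁻¹ • x) = (t * a * c)⁻¹ • x := by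
  have h1 : t * a * c * z * (t * a * c)⁻¹ = t * (a * (c * z * c⁻¹) * a⁻¹) * t⁻¹ := by group
  rw [hc, ha] at h1
  have h2 : z * (t * a * c)⁻¹ = (t * a * c)⁻¹ * (t * a * c * z * (t * a * c)⁻¹) := by group
  have h3 : t⁻¹ • x = x0 := by rw [inv_smul_eq_iff, ht]
  rw [← mul_smul, h2, h1, mul_smul, mul_smul, mul_smul, h3, hy, ht]

theorem conj_aux {G : Type*} [Group G] (z c a : G) (hc : c * z * c⁻¹ = z) :
    (a * c) * z * (a * c)⁻¹ = a * z * a⁻¹ := by
  have : (a * c) * z * (a * c)⁻¹ = a * (c * z * c⁻¹) * a⁻¹ := by group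
  rw [this, hc]

theorem card_centralizer_le {G X : Type*} [Group G] [Finite G] [MulAction G X] [Finite X]
    [MulAction.IsPretransitive G X] (z : G) (x0 : X) (S : Finset G)
    (hS : ∀ y ∈ S, (∃ a : G, a * z * a⁻¹ = y) ∧ y • x0 = x0) :
    Nat.card (Subgroup.centralizer ({z} : Set G)) * S.card * Nat.card X ≤
      Nat.card G * Nat.card {x : X // z • x = x} := by
  classical
  have ha : ∀ y : S, ∃ a : G, a * z * a⁻¹ = y.1 := fun y => (hS y.1 y.2).1
  choose a ha using ha
  have ht : ∀ x : X, ∃ t : G, t • x0 = x := fun x => MulAction.exists_smul_eq G x0 x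
  choose t ht using ht
  have hc : ∀ c : Subgroup.centralizer ({z} : Set G), c.1 * z * c.1⁻¹ = z := by
    intro c
    have := Subgroup.mem_centralizer_iff.1 c.2 z (Set.mem_singleton z)
    rw [← this, mul_inv_cancel_right]
  let Φ : Subgroup.centralizer ({z} : Set G) × S × X → G × {x : X // z • x = x} := fun q =>
    (t q.2.2 * a q.2.1 * q.1.1, ⟨(t q.2.2 * a q.2.1 * q.1.1)⁻¹ • q.2.2,
      fix_aux z q.1.1 (a q.2.1) (t q.2.2) q.2.1.1 x0 q.2.2 (hc q.1) (ha q.2.1) (ht q.2.2)
        (hS q.2.1.1 q.2.1.2).2⟩)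
  have hΦ : Function.Injective Φ := by
    rintro ⟨c, y, x⟩ ⟨c', y', x'⟩ e
    have e1 : t x * a y * c.1 = t x' * a y' * c'.1 := congrArg Prod.fst e
    have e2 : (t x * a y * c.1)⁻¹ • x = (t x' * a y' * c'.1)⁻¹ • x' := by
      have := congrArg (fun r => (r.2 : X)) e
      exact this
    have hx : x = x' := by
      rw [← e1] at e2
      exact smul_left_cancel _ e2
    subst hx
    have e3 : a y * c.1 = a y' * c'.1 := by
      rw [mul_assoc, mul_assoc] at e1
      exact mul_left_cancel e1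
    have hy : y = y' := by
      apply Subtype.ext
      rw [← ha y, ← ha y', ← conj_aux z c.1 (a y) (hc c), ← conj_aux z c'.1 (a y') (hc c'), e3]
    subst hy
    have hcc : c = c' := Subtype.ext (mul_left_cancel e3)
    subst hcc
    rfl
  have h := Nat.card_le_card_of_injective Φ hΦ
  rw [Nat.card_prod, Nat.card_prod, Nat.card_prod, Nat.card_eq_fintype_card (α := S),
    Fintype.card_coe, ← mul_assoc] at h
  exact h

end Cfsg.Agent.Lib.Helper8.CentBd
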