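import Mathlib
import Cfsg.Prelude.Def_ChevStructure
import Cfsg.Agent.Lib.Helper8.ChevPsi3

set_option autoImplicit false

/-!
The linear character `ψ` of `U`, with `U` regarded as a subgroup of an arbitrary subgroup `K` of the
ambient general linear group (for instance `K = G·Ĥ`, the Chevalley group extended by the diagonal
automorphisms).
-/

namespace Cfsg.Agent.Lib.Helper8.ChevPsi

open Cfsg Cfsg.Lie Cfsg.Agent.Lib.Helper5.ChevSym Cfsg.Agent.Lib.Helper5.ChevStruct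

variable {F : Type*} [Field F]

/-- `U` as a subgroup of `K` maps to `U` as a subgroup of `GL` -/
def toPosIn (D : ChevalleyDatum) (K : Subgroup (GL D.Idx F)) :
    ↥((D.posUnipotent F).subgroupOf K) →* ↥(D.posUnipotent F) where
  toFun u := ⟨((u : ↥K) : GL D.Idx F), u.2⟩
  map_one' := rfl
  map_mul' _ _ := rfl

/-- the character `ψ` on `U` regarded as a subgroup of `K` -/
noncomputable def chevPsiIn (D : ChevalleyDatum) (hD : D ∈ Seven) (ψ0 : Multiplicative F →* ℂˣ)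
    (K : Subgroup (GL D.Idx F)) : ↥((D.posUnipotent F).subgroupOf K) →* ℂˣ :=
  (chevPsi D hD ψ0).comp (toPosIn D K)

theorem chevPsiIn_apply (D : ChevalleyDatum) (hD : D ∈ Seven) (ψ0 : Multiplicative F →* ℂˣ)
    (K : Subgroup (GL D.Idx F)) (u : ↥((D.posUnipotent F).subgroupOf K)) :
    chevPsiIn D hD ψ0 K u = chevPsi D hD ψ0 ⟨((u : ↥K) : GL D.Idx F), u.2⟩ := rfl

theorem chevPsiIn_simple (D : ChevalleyDatum) (hD : D ∈ Seven) (ψ0 : Multiplicative F →* ℂˣ)
    (K : Subgroup (GL D.Idx F)) (u : ↥((D.posUnipotent F).subgroupOf K)) (i : ℕ)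
    (hi : i < D.rank) (t : F) (hu : ((u : ↥K) : GL D.Idx F) = xGL D hD (D.simple i) t) :
    chevPsiIn D hD ψ0 K u = ψ0 (Multiplicative.ofAdd t) := by
  rw [chevPsiIn_apply]
  exact chevPsi_simple D hD ψ0 _ i hi t hu

theorem chevPsiIn_nonsimple (D : ChevalleyDatum) (hD : D ∈ Seven) (ψ0 : Multiplicative F →* ℂˣ)
    (K : Subgroup (GL D.Idx F)) (u : ↥((D.posUnipotent F).subgroupOf K)) (r : ℕ)
    (hr : D.IsPosRoot r) (hns : ∀ i < D.rank, r ≠ D.simple i) (t : F)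
    (hu : ((u : ↥K) : GL D.Idx F) = xGL D hD r t) :
    chevPsiIn D hD ψ0 K u = 1 := by
  rw [chevPsiIn_apply]
  exact chevPsi_nonsimple D hD ψ0 _ r hr hns t hu

/-- **unit PSI, ambient form**: for every subgroup `K ≥ U` of `GL`, a linear character of
`U ≤ K` which is nontrivial at `x_{p_i}(1)` for every fundamental root `p_i` -/
theorem exists_chevPsiIn [Fintype F] (D : ChevalleyDatum) (hD : D ∈ Seven)
    (K : Subgroup (GL D.Idx F)) (hK : D.posUnipotent F ≤ K) :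
    ∃ ψ : ↥((D.posUnipotent F).subgroupOf K) →* ℂˣ,
      ∀ i < D.rank, ∃ u : ↥((D.posUnipotent F).subgroupOf K),
        ((u : ↥K) : GL D.Idx F) = xGL D hD (D.simple i) 1 ∧ ψ u ≠ 1 := by
  obtain ⟨ψ0, hψ0⟩ := exists_addChar_ne_one (F := F)
  refine ⟨chevPsiIn D hD ψ0 K, ?_⟩
  intro i hi
  have hmem : xGL D hD (D.simple i) (1 : F) ∈ D.posUnipotent F :=
    xGL_mem_posUnipotent D hD _ (simple_isPosRoot D hD i hi) 1
  refine ⟨⟨⟨xGL D hD (D.simple i) 1, hK hmem⟩, ?_⟩, rfl, ?_⟩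
  · show xGL D hD (D.simple i) 1 ∈ D.posUnipotent F
    exact hmem
  · rw [chevPsiIn_simple D hD ψ0 K _ i hi 1 rfl]
    exact hψ0

/-- the character `ψ` directly on `U ≤ GL`: nontrivial at every `x_{p_i}(1)` -/
theorem exists_chevPsi [Fintype F] (D : ChevalleyDatum) (hD : D ∈ Seven) :
    ∃ ψ : ↥(D.posUnipotent F) →* ℂˣ,
      (∀ i < D.rank, ∀ u : ↥(D.posUnipotent F),
        (u : GL D.Idx F) = xGL D hD (D.simple i) 1 → ψ u ≠ 1) ∧
      ∀ r, D.IsPosRoot r → (∀ i < D.rank, r ≠ D.simple i) → ∀ (t : F) (u : ↥(D.posUnipotent F)),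
        (u : GL D.Idx F) = xGL D hD r t → ψ u = 1 := by
  obtain ⟨ψ0, hψ0⟩ := exists_addChar_ne_one (F := F)
  refine ⟨chevPsi D hD ψ0, ?_, ?_⟩
  · intro i hi u hu
    rw [chevPsi_simple D hD ψ0 u i hi 1 hu]
    exact hψ0
  · intro r hr hns t u hu
    exact chevPsi_nonsimple D hD ψ0 u r hr hns t hu

end Cfsg.Agent.Lib.Helper8.ChevPsi
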