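import Mathlib
import Cfsg.Agent.Lib.Helper6.CliffordStab

/-! Injectivity of the Clifford correspondence. -/
set_option autoImplicit false

namespace Cfsg.Agent.Lib.Helper8.CliffInj

open Cfsg.Agent.Lib.Helper6
open scoped ComplexConjugate

variable {G : Type*} [Group G] [Fintype G]
variable (N : Subgroup G) [Fintype N] (hN : N.Normal) (T : Subgroup G) [Fintype T] (hNT : N ≤ T)

/-- the Clifford correspondence is injective -/
theorem indFun_injective_of_stab (θ : Cfsg.IrrCharacter N)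
    (hstab : ∀ g : G, conjFun N hN (θ : N → ℂ) g = (θ : N → ℂ) → g ∈ T)
    (ψ₁ ψ₂ : Cfsg.IrrCharacter T)
    (hc₁ : Cfsg.classInner (fun n : N => (ψ₁ : T → ℂ) ⟨n, hNT n.2⟩) (θ : N → ℂ) ≠ 0)
    (hc₂ : Cfsg.classInner (fun n : N => (ψ₂ : T → ℂ) ⟨n, hNT n.2⟩) (θ : N → ℂ) ≠ 0)
    (h : Cfsg.indFun T (ψ₁ : T → ℂ) = Cfsg.indFun T (ψ₂ : T → ℂ)) : ψ₁ = ψ₂ := by
  classical
  haveI : Fintype (Cfsg.IrrCharacter T) := Fintype.ofFinite _
  by_contra hne
  have hirr := indFun_isIrrCharacter_of_stab N hN T hNT θ hstab ψ₁ hc₁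
  have hm1 := classInner_indFun_restrict_of_stab N hN T hNT θ hstab ψ₁ hc₁
  have hm2 := classInner_indFun_restrict_of_stab N hN T hNT θ hstab ψ₂ hc₂
  rw [← h] at hm2
  -- decompose the restriction to T
  have hχT : Cfsg.IsCharacter T (fun t : T => Cfsg.indFun T (ψ₁ : T → ℂ) t) :=
    IsCharacter.restrict T (IsIrrCharacter.isCharacter hirr)
  obtain ⟨μ, hμ, hμi⟩ := IsCharacter.exists_mult hχT
  have hfrob : ∀ ψ : Cfsg.IrrCharacter T, Cfsg.indFun T (ψ : T → ℂ) = Cfsg.indFun T (ψ₁ : T → ℂ) →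
      μ ψ = 1 := by
    intro ψ hψ
    have h1 := hμi ψ
    rw [← classInner_conj_symm, ← Cfsg.Agent.S0146.result T (ψ : T → ℂ) _
      (IsIrrCharacter.isClassFunction hirr), hψ, classInner_isIrrCharacter hirr hirr, if_pos rfl,
      map_one] at h1
    exact_mod_cast h1.symm
  have hμ1 := hfrob ψ₁ rfl
  have hμ2 := hfrob ψ₂ h.symm
  -- restrict to N
  have hχN : (fun n : N => Cfsg.indFun T (ψ₁ : T → ℂ) n)
      = ∑ β : Cfsg.IrrCharacter T, (μ β : ℂ) • (fun n : N => (β : T → ℂ) ⟨n, hNT n.2⟩) := by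
    funext n
    have h1 := congrFun hμ ⟨(n : G), hNT n.2⟩
    simp only [Finset.sum_apply, nsmul_eq_mul] at h1
    simp only [Finset.sum_apply, Pi.smul_apply, smul_eq_mul]
    exact h1
  have hnat : ∀ β : Cfsg.IrrCharacter T, ∃ k : ℕ,
      Cfsg.classInner (fun n : N => (β : T → ℂ) ⟨n, hNT n.2⟩) (θ : N → ℂ) = k := by
    intro β
    have hβN : Cfsg.IsCharacter N (fun n : N => (β : T → ℂ) ⟨n, hNT n.2⟩) :=
      IsCharacter.comp (Subgroup.inclusion hNT) (IsIrrCharacter.isCharacter β.2)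
    exact IsCharacter.classInner_nat hβN (IsIrrCharacter.isCharacter θ.2)
  choose k hk using hnat
  have hsum : Cfsg.classInner (fun n : N => Cfsg.indFun T (ψ₁ : T → ℂ) n) (θ : N → ℂ)
      = ((∑ β : Cfsg.IrrCharacter T, μ β * k β : ℕ) : ℂ) := by
    rw [hχN, classInner_sum_left]
    push_cast
    apply Finset.sum_congr rfl
    intro β _
    rw [classInner_smul_left, hk β]
  rw [hsum, hk ψ₁] at hm1
  rw [hsum, hk ψ₂] at hm2
  have hm1' : ∑ β : Cfsg.IrrCharacter T, μ β * k β = k ψ₁ := by exact_mod_cast hm1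
  have hk2 : k ψ₂ ≠ 0 := by
    intro h0
    apply hc₂
    rw [hk ψ₂, h0]
    simp
  have hge : μ ψ₁ * k ψ₁ + μ ψ₂ * k ψ₂ ≤ ∑ β : Cfsg.IrrCharacter T, μ β * k β := by
    rw [← Finset.add_sum_erase _ _ (Finset.mem_univ ψ₁)]
    apply Nat.add_le_add_left
    have hmem : ψ₂ ∈ Finset.univ.erase ψ₁ := Finset.mem_erase.mpr ⟨fun h => hne h.symm, Finset.mem_univ _⟩
    exact Finset.single_le_sum (f := fun β => μ β * k β) (fun _ _ => Nat.zero_le _) hmem
  rw [hμ1, hμ2, hm1'] at hge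
  have : 0 < k ψ₂ := Nat.pos_of_ne_zero hk2
  omega

end Cfsg.Agent.Lib.Helper8.CliffInj
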