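import Mathlib

/-!
# A cocycle into an abelian normal `p`-subgroup that vanishes on a Sylow `p`-subgroup is a coboundary

Concretely: an automorphism `α` of `G` fixing a Sylow `p`-subgroup elementwise and with
`α g * g⁻¹ ∈ Z` for all `g`, where `Z` is an abelian normal `p`-subgroup, is conjugation by an
element of `Z`.
-/

namespace Helper8.CocycleSylow

variable {G : Type*} [Group G]

theorem inner_of_fix [Finite G] {p : ℕ} [hp : Fact p.Prime] (T : Sylow p G) (α : MulAut G)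
    (Z : Subgroup G) [hZn : Z.Normal] (hZc : ∀ a ∈ Z, ∀ b ∈ Z, a * b = b * a)
    (hZp : IsPGroup p Z) (hfixT : ∀ x ∈ (T : Subgroup G), α x = x)
    (hf : ∀ g : G, α g * g⁻¹ ∈ Z) : ∃ u ∈ Z, ∀ x : G, α x = u * x * u⁻¹ := by
  classical
  letI : CommGroup ↥Z :=
    { (inferInstance : Group ↥Z) with
      mul_comm := fun a b => Subtype.ext (hZc a a.2 b b.2) }
  letI : Fintype (G ⧸ (T : Subgroup G)) := Fintype.ofFinite _
  -- the function `f`
  set fZ : G → ↥Z := fun g => ⟨α g * g⁻¹, hf g⟩ with hfZ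
  have hfZ_mul : ∀ h g : G, fZ (h * g) = fZ h * MulAut.conjNormal h (fZ g) := by
    intro h g
    apply Subtype.ext
    rw [Subgroup.coe_mul, MulAut.conjNormal_apply]
    show α (h * g) * (h * g)⁻¹ = α h * h⁻¹ * (h * (α g * g⁻¹) * h⁻¹)
    rw [map_mul]
    group
  have hfZ_T : ∀ (g t : G), t ∈ (T : Subgroup G) → fZ (g * t) = fZ g := by
    intro g t ht
    apply Subtype.ext
    show α (g * t) * (g * t)⁻¹ = α g * g⁻¹
    rw [map_mul, hfixT t ht]
    group
  have hfZ_out : ∀ g : G, fZ ((g : G ⧸ (T : Subgroup G))).out = fZ g := by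
    intro g
    obtain ⟨t, ht⟩ := QuotientGroup.mk_out_eq_mul (T : Subgroup G) g
    rw [ht]
    exact hfZ_T g t t.2
  set w : ↥Z := ∏ q : G ⧸ (T : Subgroup G), fZ q.out with hw
  set n : ℕ := Nat.card (G ⧸ (T : Subgroup G)) with hn
  have hkey : ∀ h : G, w = fZ h ^ n * MulAut.conjNormal h w := by
    intro h
    have h1 : w = ∏ q : G ⧸ (T : Subgroup G), fZ (h • q).out := by
      rw [hw]
      exact (Fintype.prod_equiv (MulAction.toPerm h) _ _ (fun q => rfl)).symm
    have h2 : ∀ q : G ⧸ (T : Subgroup G), fZ (h • q).out = fZ h * MulAut.conjNormal h (fZ q.out) := by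
      intro q
      have : h • q = ((h * q.out : G) : G ⧸ (T : Subgroup G)) := by
        conv_lhs => rw [← QuotientGroup.out_eq' q]
        rfl
      rw [this, hfZ_out, hfZ_mul]
    calc w = ∏ q : G ⧸ (T : Subgroup G), fZ (h • q).out := h1
      _ = ∏ q : G ⧸ (T : Subgroup G), (fZ h * MulAut.conjNormal h (fZ q.out)) :=
        Finset.prod_congr rfl (fun q _ => h2 q)
      _ = fZ h ^ n * MulAut.conjNormal h w := by
        rw [Finset.prod_mul_distrib, Finset.prod_const, ← map_prod, Finset.card_univ, hn,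
          Nat.card_eq_fintype_card]
  -- Bezout
  obtain ⟨k, hk⟩ := IsPGroup.iff_card.1 hZp
  have hcop : Nat.Coprime n (p ^ k) := by
    apply Nat.Coprime.pow_right
    rw [Nat.coprime_comm, Nat.Prime.coprime_iff_not_dvd hp.out]
    exact T.not_dvd_index
  have hbez := Nat.gcd_eq_gcd_ab n (p ^ k)
  rw [hcop.gcd_eq_one] at hbez
  set a : ℤ := Nat.gcdA n (p ^ k) with ha
  set b : ℤ := Nat.gcdB n (p ^ k) with hb
  have hpow : ∀ z : ↥Z, (z ^ n) ^ a = z := by
    intro z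
    have h1 : z ^ (p ^ k) = 1 := by
      rw [← hk]; exact pow_card_eq_one'
    calc (z ^ n) ^ a = z ^ ((n : ℤ) * a) := by rw [zpow_mul, zpow_natCast]
      _ = z ^ ((n : ℤ) * a + ((p ^ k : ℕ) : ℤ) * b) := by
        rw [zpow_add, zpow_mul _ ((p ^ k : ℕ) : ℤ), zpow_natCast, h1, one_zpow, mul_one]
      _ = z := by rw [← hbez]; simp
  refine ⟨((w ^ a : ↥Z) : G), (w ^ a).2, ?_⟩
  intro x
  have h1 : fZ x ^ n = w * (MulAut.conjNormal x w)⁻¹ := by
    rw [eq_mul_inv_iff_mul_eq]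
    exact (hkey x).symm
  have h2 : fZ x = w ^ a * (MulAut.conjNormal x (w ^ a))⁻¹ := by
    rw [← hpow (fZ x), h1, mul_zpow, inv_zpow, map_zpow]
  have h3 := congrArg Subtype.val h2
  rw [Subgroup.coe_mul, Subgroup.coe_inv, MulAut.conjNormal_apply] at h3
  have h4 : α x * x⁻¹ = ((w ^ a : ↥Z) : G) * (x * ((w ^ a : ↥Z) : G) * x⁻¹)⁻¹ := h3
  calc α x = α x * x⁻¹ * x := by group
    _ = ((w ^ a : ↥Z) : G) * (x * ((w ^ a : ↥Z) : G) * x⁻¹)⁻¹ * x := by rw [h4]
    _ = ((w ^ a : ↥Z) : G) * x * ((w ^ a : ↥Z) : G)⁻¹ := by group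

end Helper8.CocycleSylow
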