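import Mathlib
import Cfsg.Agent.Lib.Helper8.CompBal5
import Cfsg.Agent.Lib.Helper8.CoprimeLift
import Cfsg.Agent.Lib.Helper1.PLengthOne

set_option autoImplicit false
set_option linter.style.haveILetI false

namespace Cfsg.Agent.Lib.Helper8.CompBal

open Cfsg Cfsg.Agent.Lib.Helper8.CompNorm Cfsg.Agent.Lib.Helper8.CoreIn
  Cfsg.Agent.Lib.Helper8.AutQuot
open scoped commutatorElement

variable {G : Type*} [Group G]

/-- the image of `O(C_G(x)) ∩ C_G(y)` in `C_G(y) / O(C_G(y))` lies in `O(C(x̄))`. -/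
theorem map_inf_le_centralizerPPrimeCore [Finite G] {x y : G} (hx : x ^ 2 = 1)
    (hxy : x * y = y * x) :
    ((centralizerPPrimeCore 2 x ⊓ Subgroup.centralizer {y}).subgroupOf
      (Subgroup.centralizer ({y} : Set G))).map
        (QuotientGroup.mk' (pPrimeCore 2 ↥(Subgroup.centralizer ({y} : Set G)))) ≤
      centralizerPPrimeCore 2 ((QuotientGroup.mk' (pPrimeCore 2 ↥(Subgroup.centralizer ({y} : Set G))))
        (⟨x, Subgroup.mem_centralizer_singleton_iff.2 hxy⟩ : ↥(Subgroup.centralizer ({y} : Set G)))) := by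
  haveI : Fact (Nat.Prime 2) := ⟨Nat.prime_two⟩
  set Cy := Subgroup.centralizer ({y} : Set G) with hCy
  set X : ↥Cy := ⟨x, Subgroup.mem_centralizer_singleton_iff.2 hxy⟩ with hX
  set q := QuotientGroup.mk' (pPrimeCore 2 ↥Cy) with hq
  have hDle : centralizerPPrimeCore 2 x ⊓ Cy ≤ Cy := inf_le_right
  apply le_coreIn
  · rintro _ ⟨d, hd, rfl⟩
    refine Subgroup.mem_centralizer_singleton_iff.2 ?_
    rw [← map_mul, ← map_mul]
    congr 1
    apply Subtype.ext
    rw [Subgroup.coe_mul, Subgroup.coe_mul]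
    have hd' : (d : G) ∈ centralizerPPrimeCore 2 x := (Subgroup.mem_subgroupOf.1 hd).1
    exact Subgroup.mem_centralizer_singleton_iff.1 (coreIn_le 2 _ hd')
  · intro cbar hcbar
    obtain ⟨c, rfl⟩ := QuotientGroup.mk'_surjective _ cbar
    have h1 := Subgroup.mem_centralizer_singleton_iff.1 hcbar
    have hXp : X ^ 2 = 1 := by
      apply Subtype.ext
      rw [Subgroup.coe_pow, Subgroup.coe_one]
      exact hx
    have hA : IsPGroup 2 ↥(Subgroup.zpowers X) := isPGroup_zpowers hXp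
    have hcomm : ∀ a ∈ Subgroup.zpowers X, c⁻¹ * a * c * a⁻¹ ∈ pPrimeCore 2 ↥Cy := by
      intro a ha
      obtain ⟨k, rfl⟩ := Subgroup.mem_zpowers_iff.1 ha
      rw [← QuotientGroup.eq_one_iff, ← QuotientGroup.mk'_apply, ← hq]
      have hc : Commute (q c) (q X) := h1
      rw [map_mul, map_mul, map_mul, map_inv, map_inv, map_zpow]
      have hc2 : Commute (q c) (q X ^ k) := hc.zpow_right k
      calc (q c)⁻¹ * q X ^ k * q c * (q X ^ k)⁻¹ = (q c)⁻¹ * (q X ^ k * q c) * (q X ^ k)⁻¹ := by group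
        _ = (q c)⁻¹ * (q c * q X ^ k) * (q X ^ k)⁻¹ := by rw [hc2.eq]
        _ = 1 := by group
    obtain ⟨g, hg1, hg2⟩ := Cfsg.Agent.Lib.Helper8.CoprimeLift.exists_mem_coset_commute
      (pPrimeCore 2 ↥Cy) (Subgroup.zpowers X) (Cfsg.Agent.Lib.Helper1.pPrimeCore_card_coprime 2) hA c hcomm
    have hqg : q c = q g := by
      rw [hq, QuotientGroup.mk'_apply, QuotientGroup.mk'_apply, QuotientGroup.eq]
      exact hg1
    rw [hqg]
    have hgX : X * g = g * X := hg2 X (Subgroup.mem_zpowers X)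
    have hgx : (g : G) ∈ Subgroup.centralizer ({x} : Set G) := by
      refine Subgroup.mem_centralizer_singleton_iff.2 ?_
      have := congrArg Subtype.val hgX
      rw [Subgroup.coe_mul, Subgroup.coe_mul] at this
      exact this.symm
    have hgN : (g : G) ∈ Subgroup.normalizer ((centralizerPPrimeCore 2 x ⊓ Cy : Subgroup G) : Set G) :=
      mem_normalizer_inf (le_normalizer_coreIn 2 _ hgx) (Subgroup.le_normalizer g.2)
    have h5 : g ∈ Subgroup.normalizer
        (((centralizerPPrimeCore 2 x ⊓ Cy).subgroupOf Cy : Subgroup ↥Cy) : Set ↥Cy) := by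
      rw [Subgroup.mem_normalizer_iff] at hgN ⊢
      intro d
      rw [Subgroup.mem_subgroupOf, Subgroup.mem_subgroupOf]
      exact hgN d
    exact Subgroup.le_normalizer_map _ ⟨g, h5, rfl⟩
  · refine Nat.Coprime.coprime_dvd_left (Subgroup.card_map_dvd _ _) ?_
    rw [Nat.card_congr (Subgroup.subgroupOfEquivOfLe hDle).toEquiv]
    exact Nat.Coprime.coprime_dvd_left (Subgroup.card_dvd_of_le inf_le_left)
      (coreIn_card_coprime 2 _)

/-- half of balance. -/
theorem inf_centralizer_le_of_isLocallyBalanced [Finite G] {x y : G} (hx : orderOf x = 2)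
    (hxy : x * y = y * x)
    (h : ∀ K : Subgroup (↥(Subgroup.centralizer ({y} : Set G)) ⧸
      pPrimeCore 2 ↥(Subgroup.centralizer ({y} : Set G))), IsComponent K →
        IsLocallyBalanced (↥K ⧸ Subgroup.center ↥K)) :
    centralizerPPrimeCore 2 x ⊓ Subgroup.centralizer {y} ≤ centralizerPPrimeCore 2 y := by
  haveI : Fact (Nat.Prime 2) := ⟨Nat.prime_two⟩
  have hx2 : x ^ 2 = 1 := by rw [← hx]; exact pow_orderOf_eq_one x
  have hOQ : pPrimeCore 2 (↥(Subgroup.centralizer ({y} : Set G)) ⧸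
      pPrimeCore 2 ↥(Subgroup.centralizer ({y} : Set G))) = ⊥ :=
    Cfsg.Agent.Lib.Helper1.pPrimeCore_quotient_eq_bot 2
  have hmap := map_inf_le_centralizerPPrimeCore hx2 hxy
  set Cy := Subgroup.centralizer ({y} : Set G) with hCy
  set X : ↥Cy := ⟨x, Subgroup.mem_centralizer_singleton_iff.2 hxy⟩ with hX
  set q := QuotientGroup.mk' (pPrimeCore 2 ↥Cy) with hq
  have hxbar : (q X) ^ 2 = 1 := by
    rw [← map_pow]
    have : X ^ 2 = 1 := by
      apply Subtype.ext
      rw [Subgroup.coe_pow, Subgroup.coe_one]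
      exact hx2
    rw [this, map_one]
  have key : centralizerPPrimeCore 2 (q X) = ⊥ := by
    apply eq_bot_of_centralizes_components hOQ hxbar le_rfl
    intro L hL hLx
    have hxN : q X ∈ Subgroup.normalizer (L : Set _) := by
      have : Subgroup.zpowers (q X) ≤ Subgroup.normalizer (L : Set _) := by
        rw [Subgroup.le_normalizer_iff_commutator_le_left, hLx]
      exact this (Subgroup.mem_zpowers _)
    have hW : centralizerPPrimeCore 2 (q X) ≤ W1 2 (q X) L := by
      apply le_coreIn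
      · exact le_inf (centralizerPPrimeCore_le_normalizer hOQ hxbar hL) (coreIn_le 2 _)
      · exact inf_le_right.trans (le_normalizer_coreIn 2 _)
      · exact coreIn_card_coprime 2 _
    have h1 := commutator_W1_eq_bot_of_isLocallyBalanced hOQ hxbar hL hLx (h L hL)
    rw [eq_bot_iff, ← h1]
    exact Subgroup.commutator_mono le_rfl hW
  rw [key] at hmap
  intro d hd
  have hdC : d ∈ Cy := hd.2
  have h1 : q ⟨d, hdC⟩ ∈ (⊥ : Subgroup _) := hmap ⟨⟨d, hdC⟩, Subgroup.mem_subgroupOf.2 hd, rfl⟩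
  have h2 : (⟨d, hdC⟩ : ↥Cy) ∈ pPrimeCore 2 ↥Cy := by
    rw [Subgroup.mem_bot, hq, QuotientGroup.mk'_apply, QuotientGroup.eq_one_iff] at h1
    exact h1
  exact ⟨⟨d, hdC⟩, h2, rfl⟩

end Cfsg.Agent.Lib.Helper8.CompBal
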