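import Mathlib
import Cfsg.Agent.Lib.Helper6.FiniteOrder

/-! Eigenvalue bookkeeping for an endomorphism of finite order with a given eigenbasis. -/
set_option autoImplicit false

namespace Cfsg.Agent.Lib.Helper8.CycEig

open Module Cfsg.Agent.Lib.Helper6
open scoped ComplexConjugate

theorem geom_sum_root {μ : ℂ} {n : ℕ} (hμ : μ ^ n = 1) :
    ∑ k ∈ Finset.range n, μ ^ k = if μ = 1 then (n : ℂ) else 0 := by
  split_ifs with h
  · subst h
    simp
  · rw [geom_sum_eq h, hμ, sub_self, zero_div]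

variable {V : Type*} [AddCommGroup V] [Module ℂ V]
variable {ι : Type*} [Fintype ι] (b : Basis ι ℂ V) (μ : ι → ℂ) (T : Module.End ℂ V)

omit [Fintype ι] in
theorem pow_apply_basis (hb : ∀ i, T (b i) = μ i • b i) (k : ℕ) (i : ι) :
    (T ^ k) (b i) = μ i ^ k • b i := by
  induction k with
  | zero => simp
  | succ k ih =>
    rw [pow_succ, Module.End.mul_apply, hb, map_smul, ih, smul_smul, pow_succ, mul_comm]

theorem trace_pow (hb : ∀ i, T (b i) = μ i • b i) (k : ℕ) :
    LinearMap.trace ℂ V (T ^ k) = ∑ i, μ i ^ k :=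
  trace_eq_sum_of_eigenbasis b (fun i => μ i ^ k) (T ^ k) (pow_apply_basis b μ T hb k)

theorem sum_trace_pow [DecidableEq ι] (hb : ∀ i, T (b i) = μ i • b i) {n : ℕ}
    (hμ : ∀ i, μ i ^ n = 1) :
    ∑ k ∈ Finset.range n, LinearMap.trace ℂ V (T ^ k)
      = (n : ℂ) * ((Finset.univ.filter (fun i => μ i = 1)).card : ℂ) := by
  classical
  simp_rw [trace_pow b μ T hb]
  rw [Finset.sum_comm]
  simp_rw [fun i => geom_sum_root (hμ i)]
  rw [Finset.sum_ite, Finset.sum_const_zero, add_zero, Finset.sum_const, nsmul_eq_mul, mul_comm]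

theorem norm_eq_one_of_pow {z : ℂ} {n : ℕ} (hn : 0 < n) (hz : z ^ n = 1) : ‖z‖ = 1 :=
  norm_eq_one_of_pow_eq_one hn hz

theorem conj_eq_inv_of_pow {z : ℂ} {n : ℕ} (hn : 0 < n) (hz : z ^ n = 1) : conj z = z⁻¹ :=
  (inv_eq_conj_of_pow_eq_one hn hz).symm

theorem sum_normSq_trace_pow (hb : ∀ i, T (b i) = μ i • b i) {n : ℕ} (hn : 0 < n)
    (hμ : ∀ i, μ i ^ n = 1) :
    ∑ k ∈ Finset.range n, LinearMap.trace ℂ V (T ^ k) * conj (LinearMap.trace ℂ V (T ^ k))
      = (n : ℂ) * (((Finset.univ ×ˢ Finset.univ).filter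
          (fun ij : ι × ι => μ ij.1 = μ ij.2)).card : ℂ) := by
  classical
  simp_rw [trace_pow b μ T hb, map_sum, Finset.sum_mul_sum]
  have h0 : ∀ i, μ i ≠ 0 := by
    intro i h
    have := hμ i
    rw [h, zero_pow hn.ne'] at this
    exact zero_ne_one this
  have h1 : ∀ (k : ℕ) (i j : ι), μ i ^ k * conj (μ j ^ k) = (μ i * (μ j)⁻¹) ^ k := by
    intro k i j
    rw [map_pow, conj_eq_inv_of_pow hn (hμ j), mul_pow]
  simp_rw [h1]
  rw [Finset.sum_comm]
  have h2 : ∀ i : ι, ∑ k ∈ Finset.range n, ∑ j, (μ i * (μ j)⁻¹) ^ k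
      = ∑ j, if μ i = μ j then (n : ℂ) else 0 := by
    intro i
    rw [Finset.sum_comm]
    apply Finset.sum_congr rfl
    intro j _
    have hij : (μ i * (μ j)⁻¹) ^ n = 1 := by
      rw [mul_pow, inv_pow, hμ i, hμ j, inv_one, mul_one]
    rw [geom_sum_root hij]
    have : (μ i * (μ j)⁻¹ = 1) ↔ μ i = μ j := by
      rw [mul_inv_eq_one₀ (h0 j)]
    simp only [this]
  rw [Finset.sum_congr rfl (fun i _ => h2 i), ← Finset.sum_product', Finset.sum_ite,
    Finset.sum_const_zero, add_zero, Finset.sum_const, nsmul_eq_mul, mul_comm]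

theorem card_pairs_ge [DecidableEq ι] :
    (Finset.univ.filter (fun i => μ i = 1)).card ^ 2
      + (Fintype.card ι - (Finset.univ.filter (fun i => μ i = 1)).card)
      ≤ ((Finset.univ ×ˢ Finset.univ).filter (fun ij : ι × ι => μ ij.1 = μ ij.2)).card := by
  classical
  set A := Finset.univ.filter (fun i => μ i = 1) with hA
  set B := Finset.univ.filter (fun i => ¬ μ i = 1) with hB
  have hAB : A.card + B.card = Fintype.card ι := by
    rw [hA, hB, Finset.card_filter_add_card_filter_not, Finset.card_univ]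
  have hBc : Fintype.card ι - A.card = B.card := by omega
  rw [hBc, sq, ← Finset.card_product]
  have hinj : Function.Injective (fun i : ι => (i, i)) := fun i j h => (Prod.ext_iff.mp h).1
  rw [← Finset.card_image_of_injective B hinj]
  have hdisj : Disjoint (A ×ˢ A) (B.image (fun i : ι => (i, i))) := by
    rw [Finset.disjoint_left]
    rintro ⟨i, j⟩ h1 h2
    rw [Finset.mem_product] at h1
    rw [Finset.mem_image] at h2
    obtain ⟨k, hk, hkk⟩ := h2
    obtain rfl : k = i := (Prod.ext_iff.mp hkk).1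
    rw [hB, Finset.mem_filter] at hk
    rw [hA, Finset.mem_filter] at h1
    exact hk.2 h1.1.2
  rw [← Finset.card_union_of_disjoint hdisj]
  apply Finset.card_le_card
  intro ij hij
  rw [Finset.mem_filter]
  refine ⟨Finset.mem_product.mpr ⟨Finset.mem_univ _, Finset.mem_univ _⟩, ?_⟩
  rcases Finset.mem_union.mp hij with h | h
  · rw [Finset.mem_product, hA, Finset.mem_filter, Finset.mem_filter] at h
    rw [h.1.2, h.2.2]
  · obtain ⟨k, _, hkk⟩ := Finset.mem_image.mp h
    rw [← hkk]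

omit [Fintype ι] in
theorem sum_pow_eq_zero (hb : ∀ i, T (b i) = μ i • b i) {n : ℕ} (hμ : ∀ i, μ i ^ n = 1)
    (h1 : ∀ i, μ i ≠ 1) : ∑ k ∈ Finset.range n, T ^ k = 0 := by
  apply b.ext
  intro i
  rw [LinearMap.sum_apply, LinearMap.zero_apply]
  simp_rw [pow_apply_basis b μ T hb]
  rw [← Finset.sum_smul, geom_sum_root (hμ i), if_neg (h1 i), zero_smul]

theorem det_eq_prod [DecidableEq ι] (hb : ∀ i, T (b i) = μ i • b i) :
    LinearMap.det T = ∏ i, μ i := by
  rw [← LinearMap.det_toMatrix b]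
  have : LinearMap.toMatrix b b T = Matrix.diagonal μ := by
    ext i j
    rw [LinearMap.toMatrix_apply, hb, map_smul, Finsupp.smul_apply, Basis.repr_self,
      Matrix.diagonal_apply]
    by_cases h : i = j
    · subst h
      simp
    · rw [if_neg h, Finsupp.single_eq_of_ne h]
      simp
  rw [this, Matrix.det_diagonal]

/-- if the traces of the nontrivial powers vanish, all `q`-th roots of unity are eigenvalues
with the same multiplicity -/
theorem card_filter_of_trace_zero [DecidableEq ι] (hb : ∀ i, T (b i) = μ i • b i) {q : ℕ}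
    (hq : 0 < q) (hμ : ∀ i, μ i ^ q = 1)
    (htr : ∀ j, 0 < j → j < q → LinearMap.trace ℂ V (T ^ j) = 0) (ω : ℂ) (hω : ω ^ q = 1) :
    q * (Finset.univ.filter (fun i => μ i = ω)).card = Fintype.card ι := by
  classical
  have hω0 : ω ≠ 0 := by
    intro h
    rw [h, zero_pow hq.ne'] at hω
    exact zero_ne_one hω
  have h1 : ∑ j ∈ Finset.range q, (ω⁻¹) ^ j * LinearMap.trace ℂ V (T ^ j)
      = (Fintype.card ι : ℂ) := by
    rw [Finset.sum_eq_single_of_mem 0 (Finset.mem_range.mpr hq)]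
    · have h0 := trace_pow b μ T hb 0
      rw [h0, pow_zero, one_mul]
      simp
    · intro j hj hj0
      rw [htr j (Nat.pos_of_ne_zero hj0) (Finset.mem_range.mp hj), mul_zero]
  have h2 : ∑ j ∈ Finset.range q, (ω⁻¹) ^ j * LinearMap.trace ℂ V (T ^ j)
      = (q : ℂ) * ((Finset.univ.filter (fun i => μ i = ω)).card : ℂ) := by
    simp_rw [trace_pow b μ T hb, Finset.mul_sum, ← mul_pow]
    rw [Finset.sum_comm]
    have h3 : ∀ i, (ω⁻¹ * μ i) ^ q = 1 := by
      intro i
      rw [mul_pow, inv_pow, hω, hμ i, inv_one, one_mul]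
    simp_rw [fun i => geom_sum_root (h3 i)]
    have h4 : ∀ i, (ω⁻¹ * μ i = 1) ↔ μ i = ω := by
      intro i
      rw [inv_mul_eq_one₀ hω0]
      exact eq_comm
    simp only [h4]
    rw [Finset.sum_ite, Finset.sum_const_zero, add_zero, Finset.sum_const, nsmul_eq_mul, mul_comm]
  rw [h1] at h2
  exact_mod_cast h2.symm

theorem prod_nthRoots_of_even {q : ℕ} (hq : 0 < q) (he : Even q) :
    ∏ ω ∈ Polynomial.nthRootsFinset q (1 : ℂ), ω = -1 := by
  have hprim := Complex.isPrimitiveRoot_exp q hq.ne'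
  have h1 := Polynomial.X_pow_sub_one_eq_prod hq hprim
  have h2 := congrArg (Polynomial.eval 0) h1
  rw [Polynomial.eval_prod] at h2
  simp only [Polynomial.eval_sub, Polynomial.eval_pow, Polynomial.eval_X, Polynomial.eval_one,
    Polynomial.eval_C, zero_pow hq.ne', zero_sub] at h2
  rw [Finset.prod_neg, hprim.card_nthRootsFinset, he.neg_one_pow, one_mul] at h2
  exact h2.symm

theorem det_eq_neg_one [DecidableEq ι] (hb : ∀ i, T (b i) = μ i • b i) {q m : ℕ}
    (hq : 0 < q) (he : Even q) (hμ : ∀ i, μ i ^ q = 1)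
    (htr : ∀ j, 0 < j → j < q → LinearMap.trace ℂ V (T ^ j) = 0)
    (hcard : Fintype.card ι = q * m) (hm : Odd m) : LinearMap.det T = -1 := by
  classical
  rw [det_eq_prod b μ T hb]
  have hmem : ∀ i ∈ (Finset.univ : Finset ι), μ i ∈ Polynomial.nthRootsFinset q (1 : ℂ) := by
    intro i _
    rw [Polynomial.mem_nthRootsFinset hq]
    exact hμ i
  rw [← Finset.prod_fiberwise_of_maps_to hmem (fun i => μ i)]
  have h1 : ∀ ω ∈ Polynomial.nthRootsFinset q (1 : ℂ),
      ∏ i ∈ Finset.univ.filter (fun i => μ i = ω), μ i = ω ^ m := by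
    intro ω hω
    rw [Polynomial.mem_nthRootsFinset hq] at hω
    have h2 := card_filter_of_trace_zero b μ T hb hq hμ htr ω hω
    rw [hcard] at h2
    have h3 : (Finset.univ.filter (fun i => μ i = ω)).card = m :=
      Nat.eq_of_mul_eq_mul_left hq h2
    rw [Finset.prod_congr rfl (fun i hi => (Finset.mem_filter.mp hi).2), Finset.prod_const, h3]
  rw [Finset.prod_congr rfl h1, Finset.prod_pow, prod_nthRoots_of_even hq he, hm.neg_one_pow]

end Cfsg.Agent.Lib.Helper8.CycEig
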