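import Mathlib

set_option autoImplicit false

namespace Cfsg.Agent.Lib.Helper8.DQ

/-- common shape of dihedral and generalized quaternion 2-groups -/
def HasShape (G : Type*) [Group G] (e : ℕ) : Prop :=
  ∃ c x : G, orderOf c = 2 ^ e ∧ (∀ g : G, ∃ i : ℕ, g = c ^ i ∨ g = x * c ^ i) ∧
    (∀ i : ℕ, orderOf (x * c ^ i) ≤ 4) ∧ x * c ≠ c * x

theorem odd_aut_trivial {G : Type*} [Group G] (c x : G) (e : ℕ) (he : 3 ≤ e)
    (hc : orderOf c = 2 ^ e)
    (hall : ∀ g : G, ∃ i : ℕ, g = c ^ i ∨ g = x * c ^ i)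
    (hord : ∀ i : ℕ, orderOf (x * c ^ i) ≤ 4)
    (hnc : x * c ≠ c * x)
    (α : MulAut G) (o : ℕ) (ho : Odd o) (hα : α ^ o = 1) : α = 1 := by
  have h8le : 8 ≤ 2 ^ e := by
    calc 8 = 2 ^ 3 := by norm_num
      _ ≤ 2 ^ e := Nat.pow_le_pow_right (by norm_num) he
  have h1 : ∃ u : ℕ, α c = c ^ u := by
    obtain ⟨i, h | h⟩ := hall (α c)
    · exact ⟨i, h⟩
    · exfalso
      have h1 : orderOf (α c) = 2 ^ e := by rw [MulEquiv.orderOf_eq, hc]
      rw [h] at h1
      have := hord i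
      omega
  obtain ⟨u, hu⟩ := h1
  have h2 : ∀ t : ℕ, (α ^ t) c = c ^ (u ^ t) := by
    intro t
    induction t with
    | zero => simp
    | succ t ih =>
      rw [pow_succ', MulAut.mul_apply, ih, map_pow, hu, ← pow_mul, pow_succ']
  have h3 : c ^ (u ^ o) = c ^ 1 := by rw [← h2 o, hα]; simp
  have h4 : u ^ o ≡ 1 [MOD 2 ^ e] := by
    rw [← hc]; exact pow_eq_pow_iff_modEq.mp h3
  have h5 : ((u : ZMod (2 ^ e))) ^ o = 1 := by
    have := (ZMod.natCast_eq_natCast_iff _ _ _).mpr h4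
    push_cast at this; exact this
  have h6 : IsUnit (u : ZMod (2 ^ e)) := by
    obtain ⟨o', rfl⟩ : ∃ o', o = o' + 1 := ⟨o - 1, by have := ho.pos; omega⟩
    exact IsUnit.of_mul_eq_one ((u : ZMod (2 ^ e)) ^ o') (by rw [← pow_succ']; exact h5)
  obtain ⟨U, hU⟩ := h6
  have h7 : (u : ZMod (2 ^ e)) ^ (2 ^ (e - 1)) = 1 := by
    have h := ZMod.pow_totient U
    rw [Nat.totient_prime_pow Nat.prime_two (by omega : 0 < e)] at h
    have h' := congrArg Units.val h
    simpa [hU] using h'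
  have h8 : (u : ZMod (2 ^ e)) = 1 := by
    have h := pow_gcd_eq_one.mpr ⟨h5, h7⟩
    have hg : Nat.gcd o (2 ^ (e - 1)) = 1 :=
      Nat.Coprime.pow_right _ ho.coprime_two_right
    rwa [hg, pow_one] at h
  have h9 : α c = c := by
    rw [hu]
    have h : u ≡ 1 [MOD 2 ^ e] := by
      rw [← ZMod.natCast_eq_natCast_iff]; simpa using h8
    rw [← hc] at h
    have h' := pow_eq_pow_iff_modEq.mpr h
    simpa using h'
  have h10 : ∃ k : ℕ, α x = x * c ^ k := by
    obtain ⟨i, h | h⟩ := hall (α x)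
    · exfalso
      apply hnc
      apply α.injective
      rw [map_mul, map_mul, h9, h, ← pow_succ, ← pow_succ']
    · exact ⟨i, h⟩
  obtain ⟨k, hk⟩ := h10
  have h11 : ∀ t : ℕ, (α ^ t) x = x * c ^ (t * k) := by
    intro t
    induction t with
    | zero => simp
    | succ t ih =>
      rw [pow_succ', MulAut.mul_apply, ih, map_mul, map_pow, h9, hk, mul_assoc, ← pow_add]
      congr 2; ring
  have h12 : c ^ (o * k) = 1 := by
    have h := h11 o
    rw [hα] at h
    simpa using h.symm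
  have h13 : c ^ k = 1 := by
    have h : 2 ^ e ∣ o * k := by rw [← hc]; exact orderOf_dvd_of_pow_eq_one h12
    have hcop : Nat.Coprime (2 ^ e) o :=
      Nat.Coprime.pow_left _ ho.coprime_two_right.symm
    have h' : 2 ^ e ∣ k := hcop.dvd_of_dvd_mul_left h
    rw [← hc] at h'
    exact orderOf_dvd_iff_pow_eq_one.mp h'
  have h14 : α x = x := by rw [hk, h13, mul_one]
  ext g
  obtain ⟨i, h | h⟩ := hall g
  · rw [h]; simp [map_pow, h9]
  · rw [h]; simp [map_mul, map_pow, h9, h14]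

theorem HasShape.of_mulEquiv {G H : Type*} [Group G] [Group H] {e : ℕ} (h : HasShape H e)
    (f : G ≃* H) : HasShape G e := by
  obtain ⟨c, x, hc, hall, hord, hnc⟩ := h
  refine ⟨f.symm c, f.symm x, ?_, ?_, ?_, ?_⟩
  · rw [MulEquiv.orderOf_eq, hc]
  · intro g
    obtain ⟨i, h | h⟩ := hall (f g)
    · refine ⟨i, Or.inl ?_⟩
      rw [← map_pow, ← h]; simp
    · refine ⟨i, Or.inr ?_⟩
      rw [← map_pow, ← map_mul, ← h]; simp
  · intro i
    rw [← map_pow, ← map_mul, MulEquiv.orderOf_eq]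
    exact hord i
  · intro h
    apply hnc
    apply f.symm.injective
    rw [map_mul, map_mul, h]

theorem isPGroup_mulAut_of_hasShape {G : Type*} [Group G] [Finite G] {e : ℕ} (he : 3 ≤ e)
    (h : HasShape G e) : IsPGroup 2 (MulAut G) := by
  obtain ⟨c, x, hc, hall, hord, hnc⟩ := h
  intro α
  have hfin : IsOfFinOrder α := isOfFinOrder_of_finite α
  have hne : orderOf α ≠ 0 := hfin.orderOf_pos.ne'
  obtain ⟨k, m, hm, hkm⟩ := Nat.exists_eq_two_pow_mul_odd hne
  refine ⟨k, ?_⟩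
  apply odd_aut_trivial c x e he hc hall hord hnc (α ^ 2 ^ k) m hm
  rw [← pow_mul, ← hkm, pow_orderOf_eq_one]

theorem hasShape_dihedral (e : ℕ) (he : 3 ≤ e) : HasShape (DihedralGroup (2 ^ e)) e := by
  have h8le : 8 ≤ 2 ^ e := by
    calc 8 = 2 ^ 3 := by norm_num
      _ ≤ 2 ^ e := Nat.pow_le_pow_right (by norm_num) he
  refine ⟨DihedralGroup.r 1, DihedralGroup.sr 0, DihedralGroup.orderOf_r_one, ?_, ?_, ?_⟩
  · intro g
    cases g with
    | r i =>
      refine ⟨i.val, Or.inl ?_⟩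
      rw [DihedralGroup.r_one_pow, ZMod.natCast_zmod_val]
    | sr i =>
      refine ⟨i.val, Or.inr ?_⟩
      rw [DihedralGroup.r_one_pow, ZMod.natCast_zmod_val, DihedralGroup.sr_mul_r, zero_add]
  · intro i
    rw [DihedralGroup.r_one_pow, DihedralGroup.sr_mul_r, DihedralGroup.orderOf_sr]
    norm_num
  · rw [DihedralGroup.sr_mul_r, DihedralGroup.r_mul_sr]
    intro h
    have h1 : (0 + 1 : ZMod (2 ^ e)) = 0 - 1 := DihedralGroup.sr.inj h
    have h2 : ((2 : ℕ) : ZMod (2 ^ e)) = 0 := by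
      have : (2 : ZMod (2 ^ e)) = 0 := by linear_combination h1
      exact_mod_cast this
    rw [ZMod.natCast_eq_zero_iff] at h2
    have := Nat.le_of_dvd (by norm_num) h2
    omega

theorem hasShape_quaternion (m : ℕ) (hm : 2 ≤ m) :
    HasShape (QuaternionGroup (2 ^ m)) (m + 1) := by
  have h4le : 4 ≤ 2 ^ m := by
    calc 4 = 2 ^ 2 := by norm_num
      _ ≤ 2 ^ m := Nat.pow_le_pow_right (by norm_num) hm
  refine ⟨QuaternionGroup.a 1, QuaternionGroup.xa 0, ?_, ?_, ?_, ?_⟩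
  · rw [QuaternionGroup.orderOf_a_one, pow_succ']
  · intro g
    cases g with
    | a i =>
      refine ⟨i.val, Or.inl ?_⟩
      rw [QuaternionGroup.a_one_pow, ZMod.natCast_zmod_val]
    | xa i =>
      refine ⟨i.val, Or.inr ?_⟩
      rw [QuaternionGroup.a_one_pow, ZMod.natCast_zmod_val, QuaternionGroup.xa_mul_a, zero_add]
  · intro i
    rw [QuaternionGroup.a_one_pow, QuaternionGroup.xa_mul_a, QuaternionGroup.orderOf_xa]
  · rw [QuaternionGroup.xa_mul_a, QuaternionGroup.a_mul_xa]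
    intro h
    have h1 : (0 + 1 : ZMod (2 * 2 ^ m)) = 0 - 1 := QuaternionGroup.xa.inj h
    have h2 : ((2 : ℕ) : ZMod (2 * 2 ^ m)) = 0 := by
      have : (2 : ZMod (2 * 2 ^ m)) = 0 := by linear_combination h1
      exact_mod_cast this
    rw [ZMod.natCast_eq_zero_iff] at h2
    have := Nat.le_of_dvd (by norm_num) h2
    omega

end Cfsg.Agent.Lib.Helper8.DQ
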