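import Mathlib
import Cfsg.Prelude.Def_DStar
import Cfsg.Prelude.Def_PLocal
import Cfsg.Agent.Lib.Helper1.MaxAbelianNormal
import Cfsg.Agent.Lib.Helper1.MaxAbelianInter

/-! Basic facts on `Cfsg.dStar`. -/
set_option autoImplicit false
open scoped commutatorElement Pointwise

namespace Helper8.DStar

variable {G : Type*} [Group G]

/-- commutators of elements of a closure lie in `K`, when `K` is centralized by the generators
and contains the commutators of generators -/
theorem comm_mem_of_closure (K : Subgroup G) (X : Set G)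
    (hXK : ∀ s ∈ X, ∀ k ∈ K, s * k = k * s)
    (hX : ∀ s ∈ X, ∀ t ∈ X, ⁅s, t⁆ ∈ K) :
    ∀ g ∈ Subgroup.closure X, ∀ h ∈ Subgroup.closure X, ⁅g, h⁆ ∈ K := by
  have hHK : ∀ g ∈ Subgroup.closure X, ∀ k ∈ K, g * k = k * g := by
    intro g hg
    have : Subgroup.closure X ≤ Subgroup.centralizer (K : Set G) := by
      rw [Subgroup.closure_le]
      intro s hs
      exact Subgroup.mem_centralizer_iff.2 fun k hk => (hXK s hs k hk).symm
    intro k hk
    exact (Subgroup.mem_centralizer_iff.1 (this hg) k hk).symm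
  have key : ∀ T : Set G, (∀ s ∈ X, ∀ t ∈ T, ⁅s, t⁆ ∈ K) →
      ∀ g ∈ Subgroup.closure X, ∀ t ∈ T, ⁅g, t⁆ ∈ K := by
    intro T hT g hg
    induction hg using Subgroup.closure_induction with
    | mem x hx => exact hT x hx
    | one => intro t _; rw [commutatorElement_one_left]; exact K.one_mem
    | mul x y hx hy ihx ihy =>
      intro t ht
      have e : ⁅x * y, t⁆ = x * ⁅y, t⁆ * x⁻¹ * ⁅x, t⁆ := by
        simp only [commutatorElement_def]; group
      rw [e]
      have h1 : x * ⁅y, t⁆ * x⁻¹ = ⁅y, t⁆ := by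
        rw [hHK x hx _ (ihy t ht)]; group
      rw [h1]
      exact K.mul_mem (ihy t ht) (ihx t ht)
    | inv x hx ihx =>
      intro t ht
      have e : ⁅x⁻¹, t⁆ = x⁻¹ * (⁅x, t⁆)⁻¹ * x := by
        simp only [commutatorElement_def]; group
      rw [e]
      have h1 : x⁻¹ * (⁅x, t⁆)⁻¹ * x = (⁅x, t⁆)⁻¹ := by
        have := hHK x hx _ (K.inv_mem (ihx t ht))
        rw [mul_assoc, ← this]; group
      rw [h1]
      exact K.inv_mem (ihx t ht)
  have h1 := key X hX
  have h2 : ∀ s ∈ X, ∀ t ∈ (Subgroup.closure X : Set G), ⁅s, t⁆ ∈ K := by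
    intro s hs t ht
    have := h1 t ht s hs
    rw [← commutatorElement_inv]
    exact K.inv_mem this
  exact key _ h2

/-- the class two criterion used with `dStarFamily` -/
theorem class_two (A : Subgroup G) (x : G) (K : Subgroup G)
    (hA : ∀ a ∈ A, ∀ b ∈ A, a * b = b * a)
    (hKA : ∀ a ∈ A, ∀ k ∈ K, a * k = k * a) (hKx : ∀ k ∈ K, x * k = k * x)
    (hax : ∀ a ∈ A, ⁅a, x⁆ ∈ K) :
    ⁅⁅A ⊔ Subgroup.zpowers x, A ⊔ Subgroup.zpowers x⁆, A ⊔ Subgroup.zpowers x⁆ = ⊥ := by
  have hcl : A ⊔ Subgroup.zpowers x = Subgroup.closure ((A : Set G) ∪ {x}) := by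
    rw [Subgroup.closure_union, Subgroup.closure_eq, Subgroup.zpowers_eq_closure]
  rw [hcl]
  set X : Set G := (A : Set G) ∪ {x} with hX
  have hXK : ∀ s ∈ X, ∀ k ∈ K, s * k = k * s := by
    rintro s (hs | hs) k hk
    · exact hKA s hs k hk
    · rw [Set.mem_singleton_iff] at hs; rw [hs]; exact hKx k hk
  have hXX : ∀ s ∈ X, ∀ t ∈ X, ⁅s, t⁆ ∈ K := by
    rintro s (hs | hs) t (ht | ht)
    · have : ⁅s, t⁆ = 1 := by
        rw [commutatorElement_eq_one_iff_mul_comm]; exact hA s hs t ht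
      rw [this]; exact K.one_mem
    · rw [Set.mem_singleton_iff] at ht; rw [ht]; exact hax s hs
    · rw [Set.mem_singleton_iff] at hs; rw [hs, ← commutatorElement_inv]
      exact K.inv_mem (hax t ht)
    · rw [Set.mem_singleton_iff] at hs ht; rw [hs, ht, commutatorElement_self]; exact K.one_mem
  have h1 := comm_mem_of_closure K X hXK hXX
  have h2 : ⁅Subgroup.closure X, Subgroup.closure X⁆ ≤ K := Subgroup.commutator_le.2 h1
  have h3 : Subgroup.closure X ≤ Subgroup.centralizer (K : Set G) := by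
    rw [Subgroup.closure_le]
    intro s hs
    exact Subgroup.mem_centralizer_iff.2 fun k hk => (hXK s hs k hk).symm
  have h4 : ⁅K, Subgroup.closure X⁆ = ⊥ := by
    rw [Subgroup.commutator_comm]
    exact Subgroup.commutator_eq_bot_iff_le_centralizer.2 h3
  exact le_bot_iff.1 (h4 ▸ Subgroup.commutator_mono h2 le_rfl)

/-- The family is invariant under automorphisms. -/
theorem map_mem_dStarFamily (φ : G ≃* G) {A : Subgroup G} (hA : A ∈ Cfsg.dStarFamily G) :
    A.map φ.toMonoidHom ∈ Cfsg.dStarFamily G := by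
  obtain ⟨hAc, hAx⟩ := hA
  refine ⟨?_, ?_⟩
  · refine ⟨⟨?_⟩⟩
    rintro ⟨_, a, ha, rfl⟩ ⟨_, b, hb, rfl⟩
    apply Subtype.ext
    have := congrArg Subtype.val (mul_comm' (⟨a, ha⟩ : A) ⟨b, hb⟩)
    simp only [Subgroup.coe_mul] at this ⊢
    change φ a * φ b = φ b * φ a
    rw [← map_mul, ← map_mul, this]
  · intro x hx
    set y := φ.symm x with hy
    have hxy : φ y = x := by rw [hy]; simp
    have hmap : (A ⊔ Subgroup.zpowers y).map φ.toMonoidHom =
        A.map φ.toMonoidHom ⊔ Subgroup.zpowers x := by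
      rw [Subgroup.map_sup, MonoidHom.map_zpowers]
      congr 2
    have h0 : (⁅⁅A ⊔ Subgroup.zpowers y, A ⊔ Subgroup.zpowers y⁆, A ⊔ Subgroup.zpowers y⁆).map
        φ.toMonoidHom = ⊥ := by
      rw [Subgroup.map_commutator, Subgroup.map_commutator, hmap, hx]
    have h1 : ⁅⁅A ⊔ Subgroup.zpowers y, A ⊔ Subgroup.zpowers y⁆, A ⊔ Subgroup.zpowers y⁆ = ⊥ :=
      (Subgroup.map_eq_bot_iff_of_injective _ φ.injective).1 h0
    have h2 := hAx y h1
    rintro _ ⟨a, ha, rfl⟩
    have := h2 a ha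
    change φ a * x = x * φ a
    rw [← hxy, ← map_mul, ← map_mul, this]

instance dStar_normal : (Cfsg.dStar G).Normal := by
  constructor
  intro d hd g
  have h1 : (Cfsg.dStar G).map (MulAut.conj g).toMonoidHom ≤ Cfsg.dStar G := by
    rw [Subgroup.map_le_iff_le_comap]
    unfold Cfsg.dStar
    apply sSup_le
    intro A hA
    rw [← Subgroup.map_le_iff_le_comap]
    exact le_sSup (map_mem_dStarFamily (MulAut.conj g) hA)
  have := h1 (Subgroup.mem_map_of_mem _ hd)
  simpa using this

theorem center_mem_dStarFamily : Subgroup.center G ∈ Cfsg.dStarFamily G := by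
  refine ⟨inferInstance, ?_⟩
  intro x _ a ha
  exact (Subgroup.mem_center_iff.1 ha x).symm

/-- members of the family lie in every maximal normal abelian subgroup of a nilpotent group -/
theorem le_of_mem_dStarFamily [Group.IsNilpotent G] {A : Subgroup G} (hA : A ∈ Cfsg.dStarFamily G)
    (M : Subgroup G) (hMn : M.Normal) (hMc : IsMulCommutative M)
    (hmax : ∀ B : Subgroup G, B.Normal → IsMulCommutative B → M ≤ B → B = M) : A ≤ M := by
  obtain ⟨hAc, hAx⟩ := hA
  have hAcomm : ∀ a ∈ A, ∀ b ∈ A, a * b = b * a := fun a ha b hb =>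
    congrArg Subtype.val (mul_comm' (⟨a, ha⟩ : A) ⟨b, hb⟩)
  have hMcomm : ∀ a ∈ M, ∀ b ∈ M, a * b = b * a := fun a ha b hb =>
    congrArg Subtype.val (mul_comm' (⟨a, ha⟩ : M) ⟨b, hb⟩)
  have hcent := Cfsg.Agent.Lib.Helper1.centralizer_eq_of_maximal_abelian_normal M hmax
  have key : ∀ n : ℕ, ∀ x ∈ M ⊓ Subgroup.upperCentralSeries G n, ∀ a ∈ A, a * x = x * a := by
    intro n
    induction n with
    | zero =>
      intro x hx a _
      have : x = 1 := by
        have := (Subgroup.mem_inf.1 hx).2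
        rw [Subgroup.upperCentralSeries_zero, Subgroup.mem_bot] at this
        exact this
      rw [this, mul_one, one_mul]
    | succ n ih =>
      intro x hx
      have hxM : x ∈ M := (Subgroup.mem_inf.1 hx).1
      have hxZ := Subgroup.mem_upperCentralSeries_succ_iff.1 (Subgroup.mem_inf.1 hx).2
      apply hAx x
      apply class_two A x (M ⊓ Subgroup.upperCentralSeries G n) hAcomm
      · intro a ha k hk; exact ih k hk a ha
      · intro k hk; exact hMcomm x hxM k (Subgroup.mem_inf.1 hk).1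
      · intro a ha
        refine Subgroup.mem_inf.2 ⟨?_, ?_⟩
        · rw [commutatorElement_def]
          exact M.mul_mem (hMn.conj_mem x hxM a) (M.inv_mem hxM)
        · have := hxZ a
          have e : ⁅a, x⁆ = (x * a * x⁻¹ * a⁻¹)⁻¹ := by
            rw [commutatorElement_def]; group
          rw [e]
          exact Subgroup.inv_mem _ this
  obtain ⟨n, hn⟩ := Group.IsNilpotent.nilpotent G
  intro a ha
  rw [← hcent]
  rw [Subgroup.mem_centralizer_iff]
  intro x hx
  have : x ∈ M ⊓ Subgroup.upperCentralSeries G n :=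
    Subgroup.mem_inf.2 ⟨hx, by rw [hn]; exact Subgroup.mem_top x⟩
  exact (key n x this a ha).symm

theorem dStar_le_of_maximal [Group.IsNilpotent G]
    (M : Subgroup G) (hMn : M.Normal) (hMc : IsMulCommutative M)
    (hmax : ∀ B : Subgroup G, B.Normal → IsMulCommutative B → M ≤ B → B = M) :
    Cfsg.dStar G ≤ M := by
  unfold Cfsg.dStar
  apply sSup_le
  intro A hA
  exact le_of_mem_dStarFamily hA M hMn hMc hmax

theorem exists_maximal_normal_abelian [Finite G] :
    ∃ M : Subgroup G, M.Normal ∧ IsMulCommutative M ∧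
      ∀ B : Subgroup G, B.Normal → IsMulCommutative B → M ≤ B → B = M := by
  obtain ⟨M, hM, hmax⟩ := Set.exists_max_image {N : Subgroup G | N.Normal ∧ IsMulCommutative N}
    (fun N => Nat.card N) (Set.toFinite _) ⟨⊥, inferInstance, inferInstance⟩
  refine ⟨M, hM.1, hM.2, ?_⟩
  intro B hBn hBc hMB
  exact (Subgroup.eq_of_le_of_card_ge hMB (hmax B ⟨hBn, hBc⟩)).symm

theorem dStar_comm [Finite G] [Group.IsNilpotent G] :
    ∀ a ∈ Cfsg.dStar G, ∀ b ∈ Cfsg.dStar G, a * b = b * a := by
  obtain ⟨M, hMn, hMc, hmax⟩ := exists_maximal_normal_abelian (G := G)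
  have h := dStar_le_of_maximal M hMn hMc hmax
  intro a ha b hb
  exact congrArg Subtype.val (mul_comm' (⟨a, h ha⟩ : M) ⟨b, h hb⟩)

end Helper8.DStar
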