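import Mathlib
import Cfsg.Prelude.Def_DStar
import Cfsg.Prelude.Def_PLocal
import Cfsg.Agent.Lib.Helper8.DStar1
import Cfsg.Agent.Lib.Helper1.NormalizerGrow
import Cfsg.Agent.Lib.Helper1.GlaubermanRepl7

/-! `D*(S) ≤ Z(J(S))` for a `p`-group `S`. -/
set_option autoImplicit false
open scoped commutatorElement Pointwise

namespace Helper8.DStar

variable {S : Type*} [Group S]

theorem centralizer_le_of_maxAbelian [Finite S] {B : Subgroup S}
    (hB : B ∈ Cfsg.maxAbelianSubgroups S) : Subgroup.centralizer (B : Set S) ≤ B := by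
  intro x hx
  have hc := Cfsg.Agent.Lib.Helper1.isMulCommutative_sup_zpowers hB.1 hx
  have h1 := hB.2 _ hc
  have h2 : B ≤ B ⊔ Subgroup.zpowers x := le_sup_left
  have h3 := Subgroup.eq_of_le_of_card_ge h2 h1
  rw [h3]
  exact Subgroup.mem_sup_right (Subgroup.mem_zpowers x)

theorem exists_maxAbelian [Finite S] : ∃ B : Subgroup S, B ∈ Cfsg.maxAbelianSubgroups S := by
  obtain ⟨M, hM, hmax⟩ := Set.exists_max_image {N : Subgroup S | IsMulCommutative N}
    (fun N => Nat.card N) (Set.toFinite _) ⟨⊥, (inferInstance : IsMulCommutative (⊥ : Subgroup S))⟩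
  exact ⟨M, hM, fun B hB => hmax B hB⟩

/-- if `D*(S)` normalizes a largest abelian subgroup `B`, then `D*(S) ≤ B` -/
theorem dStar_le_of_le_normalizer [Finite S] [Group.IsNilpotent S] {B : Subgroup S}
    (hB : B ∈ Cfsg.maxAbelianSubgroups S)
    (hN : Cfsg.dStar S ≤ Subgroup.normalizer (B : Set S)) : Cfsg.dStar S ≤ B := by
  have hDc := dStar_comm (G := S)
  have hBc : ∀ a ∈ B, ∀ b ∈ B, a * b = b * a := fun a ha b hb =>
    congrArg Subtype.val (@mul_comm' _ _ hB.1 (⟨a, ha⟩ : B) ⟨b, hb⟩)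
  have hDn : (Cfsg.dStar S).Normal := inferInstance
  have hstep : ∀ A ∈ Cfsg.dStarFamily S, A ≤ B := by
    intro A hA
    have hAD : A ≤ Cfsg.dStar S := le_sSup hA
    refine le_trans ?_ (centralizer_le_of_maxAbelian hB)
    intro a ha
    rw [Subgroup.mem_centralizer_iff]
    intro x hx
    have hAcomm : ∀ a ∈ A, ∀ b ∈ A, a * b = b * a := fun a ha b hb =>
      hDc a (hAD ha) b (hAD hb)
    have h2 := class_two A x (Cfsg.dStar S ⊓ B) hAcomm
      (fun a ha k hk => hDc a (hAD ha) k (Subgroup.mem_inf.1 hk).1)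
      (fun k hk => hBc x hx k (Subgroup.mem_inf.1 hk).2)
      (fun a ha => by
        refine Subgroup.mem_inf.2 ⟨?_, ?_⟩
        · have e : ⁅a, x⁆ = a * (x * a⁻¹ * x⁻¹) := by rw [commutatorElement_def]; group
          rw [e]
          exact Subgroup.mul_mem _ (hAD ha) (hDn.conj_mem _ (Subgroup.inv_mem _ (hAD ha)) x)
        · rw [commutatorElement_def]
          have h3 := (Subgroup.mem_normalizer_iff.1 (hN (hAD ha)) x).1 hx
          exact B.mul_mem h3 (B.inv_mem hx))
    exact (hA.2 x h2 a ha).symm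
  unfold Cfsg.dStar
  exact sSup_le hstep

theorem dStar_le_normalizer [Finite S] {p : ℕ} [hp : Fact p.Prime] (hS : IsPGroup p S) :
    ∀ B ∈ Cfsg.maxAbelianSubgroups S, Cfsg.dStar S ≤ Subgroup.normalizer (B : Set S) := by
  haveI : Group.IsNilpotent S := hS.isNilpotent
  by_contra hcon
  push Not at hcon
  have hne : {B : Subgroup S | B ∈ Cfsg.maxAbelianSubgroups S ∧
      ¬ Cfsg.dStar S ≤ Subgroup.normalizer (B : Set S)}.Nonempty := hcon
  obtain ⟨B, ⟨hB, hBN⟩, hmax⟩ := Set.exists_max_image _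
    (fun A : Subgroup S => Nat.card (A ⊓ Cfsg.dStar S : Subgroup S)) (Set.toFinite _) hne
  obtain ⟨b, hb, hbN, hbA⟩ :=
    Cfsg.Agent.Lib.Helper1.exists_mem_normal_normalizer_not_mem hS (Cfsg.dStar S) _ hBN
  have hDc := dStar_comm (G := S)
  have hDab : IsMulCommutative (Cfsg.dStar S) :=
    ⟨⟨fun x y => Subtype.ext (hDc x x.2 y y.2)⟩⟩
  have hcomm : ⁅Cfsg.dStar S, Cfsg.dStar S⁆ ≤ B := by
    have : ⁅Cfsg.dStar S, Cfsg.dStar S⁆ = ⊥ := by
      rw [Subgroup.commutator_eq_bot_iff_le_centralizer]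
      intro x hx
      rw [Subgroup.mem_centralizer_iff]
      intro y hy
      exact hDc y hy x hx
    rw [this]; exact bot_le
  obtain ⟨h1, h2, -, h4, h5, -⟩ := Cfsg.Agent.Lib.Helper1.GlaubermanRepl.glauberman_replacement hS
    (Cfsg.dStar S) (fun _ => hDab) B hB.1 hcomm b hb hbN hbA
  set B' := Cfsg.Agent.Lib.Helper1.GlaubermanRepl.Astar B b with hB'
  have hB'max : B' ∈ Cfsg.maxAbelianSubgroups S := by
    refine ⟨h2, ?_⟩
    intro C hC
    rw [h1]
    exact hB.2 C hC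
  by_cases hB'N : Cfsg.dStar S ≤ Subgroup.normalizer (B' : Set S)
  · have h6 := dStar_le_of_le_normalizer hB'max hB'N
    have h7 : B' ⊓ Cfsg.dStar S = Cfsg.dStar S := inf_eq_right.2 h6
    rw [h7] at h5
    exact lt_irrefl _ h5
  · have h6 := hmax B' ⟨hB'max, hB'N⟩
    have h7 := Cfsg.Agent.Lib.Helper1.GlaubermanRepl.card_lt_card_of_lt h4
    omega

theorem dStar_le_center_thompson [Finite S] {p : ℕ} [hp : Fact p.Prime] (hS : IsPGroup p S) :
    Cfsg.dStar S ≤ Cfsg.thompsonSubgroupA S ⊓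
      Subgroup.centralizer (Cfsg.thompsonSubgroupA S : Set S) := by
  haveI : Group.IsNilpotent S := hS.isNilpotent
  have hall : ∀ B ∈ Cfsg.maxAbelianSubgroups S, Cfsg.dStar S ≤ B := fun B hB =>
    dStar_le_of_le_normalizer hB (dStar_le_normalizer hS B hB)
  refine le_inf ?_ ?_
  · obtain ⟨B, hB⟩ := exists_maxAbelian (S := S)
    exact (hall B hB).trans (le_sSup hB)
  · rw [Subgroup.le_centralizer_iff]
    unfold Cfsg.thompsonSubgroupA
    apply sSup_le
    intro B hB b hb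
    rw [Subgroup.mem_centralizer_iff]
    intro d hd
    have hdB : d ∈ B := hall B hB hd
    exact congrArg Subtype.val (@mul_comm' _ _ hB.1 (⟨d, hdB⟩ : B) ⟨b, hb⟩)

end Helper8.DStar
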