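import Mathlib
import Cfsg.Prelude.Def_DStar
import Cfsg.Prelude.Def_PLocal
import Cfsg.Agent.Lib.Helper8.DStar1
import Cfsg.Agent.Lib.Helper7.PCore
import Cfsg.Agent.S3061

/-! The `D*`-theorem of Glauberman and Solomon. -/
set_option autoImplicit false
open scoped commutatorElement Pointwise

namespace Helper8.DStar

variable {G : Type*} [Group G]

/-- transfer of triple commutators along the inclusion of a subgroup -/
theorem triple_map (H : Subgroup G) (A : Subgroup H) (x : H) :
    (⁅⁅A ⊔ Subgroup.zpowers x, A ⊔ Subgroup.zpowers x⁆, A ⊔ Subgroup.zpowers x⁆ = ⊥) ↔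
    (⁅⁅A.map H.subtype ⊔ Subgroup.zpowers (x : G), A.map H.subtype ⊔ Subgroup.zpowers (x : G)⁆,
      A.map H.subtype ⊔ Subgroup.zpowers (x : G)⁆ = ⊥) := by
  have hmap : (A ⊔ Subgroup.zpowers x).map H.subtype =
      A.map H.subtype ⊔ Subgroup.zpowers (x : G) := by
    rw [Subgroup.map_sup, MonoidHom.map_zpowers]; rfl
  rw [← hmap, ← Subgroup.map_commutator, ← Subgroup.map_commutator]
  exact (Subgroup.map_eq_bot_iff_of_injective _ H.subtype_injective).symm

theorem dStarOf_normal [Finite G] {p : ℕ} [hp : Fact p.Prime]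
    (hc : Subgroup.centralizer (Cfsg.pCore p G : Set G) ≤ Cfsg.pCore p G)
    (hst : ∀ (P : Subgroup G) [P.Normal], IsPGroup p P → Cfsg.IsPStableOn p P) (S : Sylow p G) :
    (Cfsg.dStarOf (S : Subgroup G)).Normal := by
  classical
  set D := Cfsg.dStarOf (S : Subgroup G) with hD
  have hSp : IsPGroup p (S : Subgroup G) := S.isPGroup'
  haveI : Group.IsNilpotent (S : Subgroup G) := hSp.isNilpotent
  have hmem : Cfsg.dStar (S : Subgroup G) ∈ Cfsg.dStarFamily (S : Subgroup G) :=
    Cfsg.Agent.S3061.result hSp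
  have hDS : D ≤ S := Subgroup.map_subtype_le _
  have hDcomm : ∀ a ∈ D, ∀ b ∈ D, a * b = b * a := by
    rintro _ ⟨a, ha, rfl⟩ _ ⟨b, hb, rfl⟩
    have := dStar_comm (G := (S : Subgroup G)) a ha b hb
    exact congrArg Subtype.val this
  have hDnorm : ∀ s ∈ S, ∀ d ∈ D, s * d * s⁻¹ ∈ D := by
    rintro s hs _ ⟨d, hd, rfl⟩
    exact ⟨⟨s, hs⟩ * d * ⟨s, hs⟩⁻¹,
      (dStar_normal (G := (S : Subgroup G))).conj_mem d hd ⟨s, hs⟩, rfl⟩
  have hF2 : ∀ x ∈ S, ⁅⁅D ⊔ Subgroup.zpowers x, D ⊔ Subgroup.zpowers x⁆,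
      D ⊔ Subgroup.zpowers x⁆ = ⊥ → ∀ a ∈ D, a * x = x * a := by
    intro x hx h
    have h' := (triple_map (S : Subgroup G) (Cfsg.dStar (S : Subgroup G)) ⟨x, hx⟩).2 h
    rintro _ ⟨a, ha, rfl⟩
    exact congrArg Subtype.val (hmem.2 ⟨x, hx⟩ h' a ha)
  have hF3 : ∀ W : Subgroup G, W ≤ S → (∀ a ∈ W, ∀ b ∈ W, a * b = b * a) →
      (∀ x ∈ S, ⁅⁅W ⊔ Subgroup.zpowers x, W ⊔ Subgroup.zpowers x⁆, W ⊔ Subgroup.zpowers x⁆ = ⊥ →
        ∀ a ∈ W, a * x = x * a) → W ≤ D := by
    intro W hWS hWc hWx
    have h1 : W.subgroupOf S ∈ Cfsg.dStarFamily (S : Subgroup G) := by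
      refine ⟨⟨⟨?_⟩⟩, ?_⟩
      · rintro ⟨a, ha⟩ ⟨b, hb⟩
        apply Subtype.ext
        apply Subtype.ext
        exact hWc a ha b hb
      · intro x hx a ha
        have h2 := (triple_map (S : Subgroup G) (W.subgroupOf S) x).1 hx
        rw [Subgroup.map_subgroupOf_eq_of_le hWS] at h2
        exact Subtype.ext (hWx x x.2 h2 a ha)
    have h2 : W.subgroupOf S ≤ Cfsg.dStar (S : Subgroup G) := le_sSup h1
    have h3 := Subgroup.map_mono (f := (S : Subgroup G).subtype) h2
    rwa [Subgroup.map_subgroupOf_eq_of_le hWS] at h3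
  -- Step 2
  set P := Cfsg.pCore p G with hP
  haveI hPn : P.Normal := Cfsg.Agent.Lib.Helper7.pCore_normal p G
  have hPp : IsPGroup p P := Cfsg.Agent.Lib.Helper7.pCore_isPGroup p G
  have hPS : P ≤ S := Cfsg.Agent.Lib.Helper7.pCore_le_sylow S
  have hDD : ⁅D, D⁆ = ⊥ := by
    rw [Subgroup.commutator_eq_bot_iff_le_centralizer]
    intro x hx
    rw [Subgroup.mem_centralizer_iff]
    intro y hy; exact hDcomm y hy x hx
  have hDP : D ≤ P := by
    intro a ha
    have hq : ⁅⁅P, Subgroup.zpowers a⁆, Subgroup.zpowers a⁆ = ⊥ := by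
      have hza : Subgroup.zpowers a ≤ D := by rw [Subgroup.zpowers_le]; exact ha
      have h1 : ⁅P, Subgroup.zpowers a⁆ ≤ D := by
        rw [Subgroup.commutator_le]
        intro y hy z hz
        rw [commutatorElement_def]
        exact D.mul_mem (hDnorm y (hPS hy) z (hza hz)) (D.inv_mem (hza hz))
      exact le_bot_iff.1 (hDD ▸ Subgroup.commutator_mono h1 hza)
    have h3 := hst P hPp a hq
    have hQp : IsPGroup p ((Cfsg.pCore p (G ⧸ Subgroup.centralizer (P : Set G))).comap
        (QuotientGroup.mk' (Subgroup.centralizer (P : Set G)))) := by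
      apply (Cfsg.Agent.Lib.Helper7.pCore_isPGroup p _).comap_of_ker_isPGroup
      rw [QuotientGroup.ker_mk']
      exact hPp.to_le hc
    have hQn : ((Cfsg.pCore p (G ⧸ Subgroup.centralizer (P : Set G))).comap
        (QuotientGroup.mk' (Subgroup.centralizer (P : Set G)))).Normal :=
      (Cfsg.Agent.Lib.Helper7.pCore_normal p _).comap _
    exact Cfsg.Agent.Lib.Helper7.le_pCore hQn hQp (Subgroup.mem_comap.2 h3)
  -- Step 3
  have hstep3 : ∀ g : G, ∀ d ∈ D, ∀ e ∈ D, (g * e * g⁻¹) * d = d * (g * e * g⁻¹) := by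
    intro g d hd e he
    set x := g * e * g⁻¹ with hx
    have hxP : x ∈ P := hPn.conj_mem e (hDP he) g
    set E : Subgroup G := D.map (MulAut.conj g).toMonoidHom with hE
    have hmemE : ∀ z ∈ D, g * z * g⁻¹ ∈ E := fun z hz => ⟨z, hz, by simp [MulAut.conj_apply]⟩
    have hEmem : ∀ z ∈ E, ∃ w ∈ D, z = g * w * g⁻¹ := by
      rintro _ ⟨w, hw, rfl⟩
      exact ⟨w, hw, by simp [MulAut.conj_apply]⟩
    have hxE : x ∈ E := hmemE e he
    have hEcomm : ∀ a ∈ E, ∀ b ∈ E, a * b = b * a := by
      intro a ha b hb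
      obtain ⟨a', ha', rfl⟩ := hEmem a ha
      obtain ⟨b', hb', rfl⟩ := hEmem b hb
      have := hDcomm a' ha' b' hb'
      calc g * a' * g⁻¹ * (g * b' * g⁻¹) = g * (a' * b') * g⁻¹ := by group
        _ = g * (b' * a') * g⁻¹ := by rw [this]
        _ = g * b' * g⁻¹ * (g * a' * g⁻¹) := by group
    have hEnorm : ∀ y ∈ P, ∀ z ∈ E, y * z * y⁻¹ ∈ E := by
      intro y hy z hz
      obtain ⟨w, hw, rfl⟩ := hEmem z hz
      have h1 : g⁻¹ * y * g ∈ P := by
        have := hPn.conj_mem y hy g⁻¹; simpa using this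
      have h2 := hDnorm _ (hPS h1) w hw
      have h3 := hmemE _ h2
      have e1 : y * (g * w * g⁻¹) * y⁻¹ = g * (g⁻¹ * y * g * w * (g⁻¹ * y * g)⁻¹) * g⁻¹ := by group
      rw [e1]; exact h3
    have h2 := class_two D x (D ⊓ E) hDcomm
      (fun a ha k hk => hDcomm a ha k (Subgroup.mem_inf.1 hk).1)
      (fun k hk => hEcomm x hxE k (Subgroup.mem_inf.1 hk).2)
      (fun a ha => by
        refine Subgroup.mem_inf.2 ⟨?_, ?_⟩
        · have e : ⁅a, x⁆ = a * (x * a⁻¹ * x⁻¹) := by rw [commutatorElement_def]; group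
          rw [e]
          exact D.mul_mem ha (hDnorm x (hPS hxP) _ (D.inv_mem ha))
        · rw [commutatorElement_def]
          exact E.mul_mem (hEnorm a (hDP ha) x hxE) (E.inv_mem hxE))
    exact (hF2 x (hPS hxP) h2 d hd).symm
  -- Step 4
  have hWn : (Subgroup.normalClosure (D : Set G)).Normal := Subgroup.normalClosure_normal
  have hDW : D ≤ Subgroup.normalClosure (D : Set G) := Subgroup.le_normalClosure
  have hWP : Subgroup.normalClosure (D : Set G) ≤ P := Subgroup.normalClosure_le_normal hDP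
  have hconjset : ∀ y ∈ Group.conjugatesOfSet (D : Set G), ∃ g : G, ∃ d ∈ D, y = g * d * g⁻¹ := by
    intro y hy
    rw [Group.mem_conjugatesOfSet_iff] at hy
    obtain ⟨d, hd, hdy⟩ := hy
    rw [isConj_iff] at hdy
    obtain ⟨g, hg⟩ := hdy
    exact ⟨g, d, hd, hg.symm⟩
  have hWcomm : ∀ a ∈ Subgroup.normalClosure (D : Set G),
      ∀ b ∈ Subgroup.normalClosure (D : Set G), a * b = b * a := by
    have hWc : IsMulCommutative (Subgroup.normalClosure (D : Set G)) := by
      unfold Subgroup.normalClosure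
      apply Subgroup.isMulCommutative_closure
      intro a ha b hb
      obtain ⟨g, d, hd, rfl⟩ := hconjset a ha
      obtain ⟨h, e, he, rfl⟩ := hconjset b hb
      have := hstep3 (h⁻¹ * g) e he d hd
      have e1 : g * d * g⁻¹ * (h * e * h⁻¹) =
          h * ((h⁻¹ * g) * d * (h⁻¹ * g)⁻¹ * e) * h⁻¹ := by group
      have e2 : h * e * h⁻¹ * (g * d * g⁻¹) =
          h * (e * ((h⁻¹ * g) * d * (h⁻¹ * g)⁻¹)) * h⁻¹ := by group
      rw [e1, e2, this]
    intro a ha b hb
    exact congrArg Subtype.val (mul_comm' (⟨a, ha⟩ : Subgroup.normalClosure (D : Set G)) ⟨b, hb⟩)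
  -- Step 5
  have hWD : Subgroup.normalClosure (D : Set G) ≤ D := by
    set W := Subgroup.normalClosure (D : Set G) with hW
    apply hF3 W (hWP.trans hPS) hWcomm
    intro x hxS hx
    have hq : ⁅⁅W, Subgroup.zpowers x⁆, Subgroup.zpowers x⁆ = ⊥ :=
      le_bot_iff.1 (hx ▸ Subgroup.commutator_mono
        (Subgroup.commutator_mono le_sup_left le_sup_right) le_sup_right)
    have hWp : IsPGroup p W := hPp.to_le hWP
    have h3 := hst W hWp x hq
    have hall : ∀ g : G, ∀ d ∈ D, (g * d * g⁻¹) * x = x * (g * d * g⁻¹) := by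
      intro g d hd
      set y := g⁻¹ * x * g with hy
      have hqy : ⁅⁅W, Subgroup.zpowers y⁆, Subgroup.zpowers y⁆ = ⊥ := by
        have hmapW : W.map (MulAut.conj g⁻¹).toMonoidHom = W := by
          apply le_antisymm
          · rintro _ ⟨w, hw, rfl⟩
            have := hWn.conj_mem w hw g⁻¹
            simpa [MulAut.conj_apply] using this
          · intro w hw
            refine ⟨g * w * g⁻¹, hWn.conj_mem w hw g, ?_⟩
            simp [MulAut.conj_apply]; group
        have hmapz : (Subgroup.zpowers x).map (MulAut.conj g⁻¹).toMonoidHom =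
            Subgroup.zpowers y := by
          rw [MonoidHom.map_zpowers]
          congr 1
          simp [hy, MulAut.conj_apply]
        have := congrArg (Subgroup.map (MulAut.conj g⁻¹).toMonoidHom) hq
        rw [Subgroup.map_commutator, Subgroup.map_commutator, hmapW, hmapz, Subgroup.map_bot]
          at this
        exact this
      have hyQ : (QuotientGroup.mk y : G ⧸ Subgroup.centralizer (W : Set G)) ∈
          Cfsg.pCore p (G ⧸ Subgroup.centralizer (W : Set G)) := by
        have e1 : (QuotientGroup.mk y : G ⧸ Subgroup.centralizer (W : Set G)) =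
            (QuotientGroup.mk g : G ⧸ Subgroup.centralizer (W : Set G))⁻¹ * QuotientGroup.mk x *
              ((QuotientGroup.mk g : G ⧸ Subgroup.centralizer (W : Set G))⁻¹)⁻¹ := by
          rw [hy, inv_inv]; rfl
        rw [e1]
        exact (Cfsg.Agent.Lib.Helper7.pCore_normal p
          (G ⧸ Subgroup.centralizer (W : Set G))).conj_mem _ h3 _
      obtain ⟨c, hc', t, ht, hyct⟩ : ∃ c ∈ Subgroup.centralizer (W : Set G), ∃ t ∈ S,
          y = c * t := by
        have hS' := Cfsg.Agent.Lib.Helper7.pCore_le_sylow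
          (Sylow.mapSurjective (QuotientGroup.mk'_surjective (Subgroup.centralizer (W : Set G))) S)
          hyQ
        obtain ⟨t, ht, hty⟩ := hS'
        refine ⟨y * t⁻¹, ?_, t, ht, by group⟩
        have : (QuotientGroup.mk (y * t⁻¹) : G ⧸ Subgroup.centralizer (W : Set G)) = 1 := by
          rw [QuotientGroup.mk_mul, QuotientGroup.mk_inv, ← hty]
          simp
        exact (QuotientGroup.eq_one_iff _).1 this
      have hcW : ∀ w ∈ W, c * w = w * c := fun w hw =>
        (Subgroup.mem_centralizer_iff.1 hc' w hw).symm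
      have hKW : ⁅W, Subgroup.zpowers y⁆ ≤ W := Subgroup.commutator_le_left _ _
      have hKy : ∀ k ∈ ⁅W, Subgroup.zpowers y⁆, y * k = k * y := by
        have := Subgroup.commutator_eq_bot_iff_le_centralizer.1 hqy
        intro k hk
        exact Subgroup.mem_centralizer_iff.1 (this hk) y (Subgroup.mem_zpowers y)
      have hKt : ∀ k ∈ ⁅W, Subgroup.zpowers y⁆, t * k = k * t := by
        intro k hk
        have ht' : t = c⁻¹ * y := by rw [hyct]; group
        have h6 := hKy k hk
        have h7 := hcW k (hKW hk)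
        rw [ht']
        calc c⁻¹ * y * k = c⁻¹ * (y * k) := by group
          _ = c⁻¹ * (k * y) := by rw [h6]
          _ = c⁻¹ * (k * c) * (c⁻¹ * y) := by group
          _ = c⁻¹ * (c * k) * (c⁻¹ * y) := by rw [h7]
          _ = k * (c⁻¹ * y) := by group
      have hwt : ∀ w ∈ W, ⁅w, t⁆ ∈ ⁅W, Subgroup.zpowers y⁆ := by
        intro w hw
        have h8 : ⁅w, y⁆ ∈ ⁅W, Subgroup.zpowers y⁆ :=
          Subgroup.commutator_mem_commutator hw (Subgroup.mem_zpowers y)
        have h9 : ⁅w, y⁆ = ⁅w, t⁆ := by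
          have hwtW : ⁅w, t⁆ ∈ W := by
            rw [commutatorElement_def]
            have : w * t * w⁻¹ * t⁻¹ = w * (t * w⁻¹ * t⁻¹) := by group
            rw [this]; exact W.mul_mem hw (hWn.conj_mem _ (W.inv_mem hw) t)
          have h10 := hcW _ hwtW
          have h11 := hcW w hw
          rw [hyct]
          calc ⁅w, c * t⁆ = (w * c) * t * w⁻¹ * t⁻¹ * c⁻¹ := by
                rw [commutatorElement_def]; group
            _ = (c * w) * t * w⁻¹ * t⁻¹ * c⁻¹ := by rw [h11]
            _ = (c * ⁅w, t⁆) * c⁻¹ := by rw [commutatorElement_def]; group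
            _ = (⁅w, t⁆ * c) * c⁻¹ := by rw [h10]
            _ = ⁅w, t⁆ := by group
        rw [← h9]; exact h8
      have h12 := class_two W t ⁅W, Subgroup.zpowers y⁆ hWcomm
        (fun a ha k hk => hWcomm a ha k (hKW hk)) hKt hwt
      have h13 : ⁅⁅D ⊔ Subgroup.zpowers t, D ⊔ Subgroup.zpowers t⁆, D ⊔ Subgroup.zpowers t⁆ = ⊥ :=
        le_bot_iff.1 (h12 ▸ Subgroup.commutator_mono (Subgroup.commutator_mono
          (sup_le_sup_right hDW _) (sup_le_sup_right hDW _)) (sup_le_sup_right hDW _))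
      have h14 := hF2 t ht h13 d hd
      have h15 : d * (g⁻¹ * x * g) = (g⁻¹ * x * g) * d := by
        have := hcW d (hDW hd)
        rw [← hy, hyct]
        calc d * (c * t) = (d * c) * t := by group
          _ = (c * d) * t := by rw [this]
          _ = c * (d * t) := by group
          _ = c * (t * d) := by rw [h14]
          _ = c * t * d := by group
      calc g * d * g⁻¹ * x = g * (d * (g⁻¹ * x * g)) * g⁻¹ := by group
        _ = g * ((g⁻¹ * x * g) * d) * g⁻¹ := by rw [h15]
        _ = x * (g * d * g⁻¹) := by group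
    have hcent : W ≤ Subgroup.centralizer {x} := by
      rw [hW]
      unfold Subgroup.normalClosure
      rw [Subgroup.closure_le]
      intro z hz
      obtain ⟨g, d, hd, rfl⟩ := hconjset z hz
      rw [SetLike.mem_coe, Subgroup.mem_centralizer_singleton_iff]
      exact hall g d hd
    intro a ha
    have := hcent ha
    rw [Subgroup.mem_centralizer_singleton_iff] at this
    exact this
  have hEq : D = Subgroup.normalClosure (D : Set G) := le_antisymm hDW hWD
  rw [hEq]
  exact hWn

end Helper8.DStar
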