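import Mathlib
import Cfsg.Agent.Lib.Helper9.BswE
import Cfsg.Agent.Lib.Helper9.BswG

set_option autoImplicit false
set_option linter.unusedSectionVars false
set_option linter.unusedVariables false
set_option linter.style.longLine false
set_option linter.unusedSimpArgs false

set_option maxHeartbeats 1600000
namespace Cfsg.Agent.Lib.Helper8.Dh

open Cfsg Cfsg.Agent.Lib.Helper6 Cfsg.Agent.Lib.Helper6.IndFunMore Cfsg.Agent.Lib.Helper9.Bsw
open scoped ComplexConjugate

/-- `K` is an abelian T.I. subgroup whose normalizer is `K ∪ K s`, `s` an involution inverting `K`. -/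
structure Dh {G : Type*} [Group G] (s : G) (K : Subgroup G) : Prop where
  hKab : ∀ x ∈ K, ∀ y ∈ K, x * y = y * x
  hss : s * s = 1
  hsK : s ∉ K
  hinv : ∀ x ∈ K, s * x * s = x⁻¹
  hTI : ∀ x ∈ K, x ≠ 1 → ∀ g : G, g⁻¹ * x * g ∈ K → g ∈ K ∨ g * s ∈ K

namespace Dh

section phi

variable {G : Type*} [Group G] [Fintype G] {s : G} {K : Subgroup G} [Fintype K]

theorem s_inv (h : Dh s K) : s⁻¹ = s := by
  have := h.hss
  exact inv_eq_of_mul_eq_one_left this

theorem mul_s_not_mem (h : Dh s K) {y : G} (hy : y ∈ K) : y * s ∉ K := by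
  intro hys
  apply h.hsK
  have : s = y⁻¹ * (y * s) := by group
  rw [this]
  exact K.mul_mem (K.inv_mem hy) hys

theorem isMulComm (h : Dh s K) : IsMulCommutative K :=
  ⟨⟨fun a b => Subtype.ext (h.hKab a a.2 b b.2)⟩⟩

variable (h : Dh s K)
include h

theorem Phi_one (μ : IrrCharacter K) : Phi K μ 1 = 0 := by
  unfold Phi
  rw [indFun_one, theta_apply, irr_one (isMulComm h), sub_self, mul_zero]

/-- values of `Phi` on `K#` -/
theorem Phi_of_mem (μ : IrrCharacter K) (x0 : K) (hx0 : x0 ≠ 1) :
    Phi K μ x0 = 2 - (μ : K → ℂ) x0 - conj ((μ : K → ℂ) x0) := by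
  classical
  have hx0' : (x0 : G) ≠ 1 := fun h1 => hx0 (Subtype.ext h1)
  have hK0 : (Nat.card K : ℂ) ≠ 0 := card_ne_zero_complex K
  have hpt : ∀ x : G, Cfsg.extendByZero K (theta K μ) (x⁻¹ * (x0 : G) * x)
      = Cfsg.extendByZero K (fun _ => theta K μ x0) x
        + Cfsg.extendByZero K (fun _ => theta K μ x0⁻¹) (x * s) := by
    intro x
    by_cases hx : x ∈ K
    · have hxs : x * s ∉ K := h.mul_s_not_mem hx
      rw [extendByZero_of_mem _ _ hx, extendByZero_of_not_mem _ _ hxs, add_zero]
      have : x⁻¹ * (x0 : G) * x = (x0 : G) := by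
        rw [mul_assoc, h.hKab _ x0.2 _ hx, ← mul_assoc, inv_mul_cancel, one_mul]
      rw [this, extendByZero_coe]
    · by_cases hxs : x * s ∈ K
      · rw [extendByZero_of_not_mem _ _ hx, extendByZero_of_mem _ _ hxs, zero_add]
        have : x⁻¹ * (x0 : G) * x = ((x0⁻¹ : K) : G) := by
          have e1 : x = (x * s) * s := by
            calc x = x * (s * s) := by rw [h.hss, mul_one]
              _ = _ := by group
          have e2 : (x * s)⁻¹ * (x0 : G) * (x * s) = (x0 : G) := by
            rw [mul_assoc, h.hKab _ x0.2 _ hxs, ← mul_assoc, inv_mul_cancel, one_mul]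
          have e3 : x⁻¹ * (x0 : G) * x = s * ((x * s)⁻¹ * (x0 : G) * (x * s)) * s := by
            conv_lhs => rw [e1]
            rw [mul_inv_rev, h.s_inv]
            group
          rw [e3, e2, h.hinv _ x0.2]
          rfl
        rw [this, extendByZero_coe]
      · rw [extendByZero_of_not_mem _ _ hx, extendByZero_of_not_mem _ _ hxs, add_zero]
        apply extendByZero_of_not_mem
        intro hm
        rcases h.hTI _ x0.2 hx0' x hm with h1 | h1
        · exact hx h1
        · exact hxs h1
  unfold Phi Cfsg.indFun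
  rw [Finset.sum_congr rfl (fun x _ => hpt x), Finset.sum_add_distrib]
  have h3 : ∑ x : G, Cfsg.extendByZero K (fun _ => theta K μ x0⁻¹) (x * s) =
      ∑ x : G, Cfsg.extendByZero K (fun _ => theta K μ x0⁻¹) x :=
    Fintype.sum_equiv (Equiv.mulRight s) _ _ (fun x => rfl)
  rw [h3, sum_extendByZero_const, sum_extendByZero_const, theta_apply, theta_apply, irr_inv]
  field_simp
  ring

/-- values of `Phi` on all of `K` -/
theorem Phi_of_mem' (μ : IrrCharacter K) (x0 : K) :
    Phi K μ x0 = 2 - (μ : K → ℂ) x0 - conj ((μ : K → ℂ) x0) := by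
  by_cases hx0 : x0 = 1
  · rw [hx0]
    have : ((1 : K) : G) = 1 := rfl
    rw [this, Phi_one h, irr_one (isMulComm h)]
    simp
    norm_num
  · exact Phi_of_mem h μ x0 hx0

theorem Phi_barI (μ : IrrCharacter K) : Phi K (barI μ) = Phi K μ := by
  funext g
  by_cases hg : ∀ x : G, x⁻¹ * g * x ∉ K
  · rw [Phi_of_not_conj _ g hg, Phi_of_not_conj _ g hg]
  · push Not at hg
    obtain ⟨x, hx⟩ := hg
    have e1 : ∀ ν : IrrCharacter K, Phi K ν g = Phi K ν (x⁻¹ * g * x) := by
      intro ν
      have := Phi_isClassFunction ν g x⁻¹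
      rw [inv_inv] at this
      exact this.symm
    rw [e1, e1]
    have e2 := Phi_of_mem' h μ ⟨_, hx⟩
    have e3 := Phi_of_mem' h (barI μ) ⟨_, hx⟩
    simp only at e2 e3
    rw [e2, e3, barI_apply, Complex.conj_conj]
    ring

end phi

open scoped Classical

section inner

variable {G : Type*} [Group G] [Fintype G] {s : G} {K : Subgroup G} [Fintype K]
variable (h : Dh s K)
include h

theorem restrict_Phi (μ : IrrCharacter K) :
    (fun x : K => Phi K μ x) = (2 : ℂ) • (oneI K : K → ℂ) - (μ : K → ℂ) - (barI μ : K → ℂ) := by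
  funext x
  rw [Phi_of_mem' h μ x]
  simp [oneI_apply, barI_apply]

theorem classInner_Phi_Phi (lam μ : IrrCharacter K) (hl : lam ≠ oneI K) (hμ : μ ≠ oneI K) :
    classInner (Phi K lam) (Phi K μ)
      = 2 + (if lam = μ then 1 else 0) + (if lam = barI μ then 1 else 0) := by
  rw [classInner_Phi lam _ (Phi_isClassFunction μ), restrict_Phi h μ]
  unfold theta
  have hμ' : oneI K ≠ μ := fun h1 => hμ h1.symm
  have hμb : oneI K ≠ barI μ := fun h1 => hμ ((barI_eq_oneI_iff μ).1 h1.symm)
  rw [classInner_sub_left, classInner_sub_right, classInner_sub_right, classInner_sub_right,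
    classInner_sub_right, classInner_smul_right, classInner_smul_right,
    classInner_irrCharacter, classInner_irrCharacter, classInner_irrCharacter,
    classInner_irrCharacter, classInner_irrCharacter, classInner_irrCharacter,
    if_pos rfl, if_neg hμ', if_neg hμb, if_neg hl]
  have h2 : (starRingEnd ℂ) 2 = 2 := map_ofNat _ 2
  rw [h2]
  ring

theorem classInner_Phi_self_nonreal (μ : IrrCharacter K) (hμ : μ ≠ oneI K) (hb : barI μ ≠ μ) :
    classInner (Phi K μ) (Phi K μ) = 3 := by
  rw [classInner_Phi_Phi h μ μ hμ hμ, if_pos rfl, if_neg (fun h1 => hb h1.symm)]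
  norm_num

theorem classInner_Phi_Phi_ne (lam μ : IrrCharacter K) (hl : lam ≠ oneI K) (hμ : μ ≠ oneI K)
    (h1 : lam ≠ μ) (h2 : lam ≠ barI μ) : classInner (Phi K lam) (Phi K μ) = 2 := by
  rw [classInner_Phi_Phi h lam μ hl hμ, if_neg h1, if_neg h2]
  norm_num

/-- values of a character of `G` on `K#` in terms of the inner products with the `Phi ν` -/
theorem restrict_apply [Fintype (IrrCharacter K)] {χ : G → ℂ} (hχ : IsCharacter G χ) (x : K)
    (hx : x ≠ 1) :
    χ x = - ∑ ν : IrrCharacter K, classInner (Phi K ν) χ * (ν : K → ℂ) x := by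
  have hr := IsCharacter.restrict K hχ
  have h1 := congrFun (classFunction_eq_sum (fun x : K => χ x) (IsCharacter.isClassFunction hr)) x
  simp only [Finset.sum_apply, Pi.smul_apply, smul_eq_mul] at h1
  have h2 : ∀ ν : IrrCharacter K, classInner (Phi K ν) χ * (ν : K → ℂ) x
      = classInner (fun x : K => χ x) (oneI K : K → ℂ) * (ν : K → ℂ) x
        - classInner (fun x : K => χ x) (ν : K → ℂ) * (ν : K → ℂ) x := by
    intro ν
    rw [classInner_Phi_char ν hχ, sub_mul]
  rw [Finset.sum_congr rfl (fun ν _ => h2 ν), Finset.sum_sub_distrib, ← Finset.mul_sum,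
    sum_irr_apply (isMulComm h) x, if_neg hx, mul_zero, zero_sub, neg_neg]
  exact h1

/-- the degree of a character of `G` in terms of the inner products with the `Phi ν` -/
theorem restrict_degree [Fintype (IrrCharacter K)] {χ : G → ℂ} (hχ : IsCharacter G χ) :
    χ 1 = (Nat.card K : ℂ) * classInner (fun x : K => χ x) (oneI K : K → ℂ)
      - ∑ ν : IrrCharacter K, classInner (Phi K ν) χ := by
  have hr := IsCharacter.restrict K hχ
  have h1 := congrFun (classFunction_eq_sum (fun x : K => χ x) (IsCharacter.isClassFunction hr)) 1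
  simp only [Finset.sum_apply, Pi.smul_apply, smul_eq_mul] at h1
  have h2 : ∀ ν : IrrCharacter K, classInner (Phi K ν) χ
      = classInner (fun x : K => χ x) (oneI K : K → ℂ)
        - classInner (fun x : K => χ x) (ν : K → ℂ) * (ν : K → ℂ) 1 := by
    intro ν
    rw [classInner_Phi_char ν hχ, irr_one (isMulComm h), mul_one]
  rw [Finset.sum_congr rfl (fun ν _ => h2 ν), Finset.sum_sub_distrib, Finset.sum_const,
    Finset.card_univ, card_irr (isMulComm h), nsmul_eq_mul]
  have : ((1 : K) : G) = 1 := rfl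
  rw [this] at h1
  rw [← h1]
  ring

end inner

end Dh

end Cfsg.Agent.Lib.Helper8.Dh
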