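import Mathlib
import Cfsg.Agent.Lib.Helper8.DhB

set_option autoImplicit false
set_option linter.unusedSectionVars false
set_option linter.unusedVariables false
set_option linter.style.longLine false
set_option linter.unusedSimpArgs false
set_option linter.dupNamespace false

set_option maxHeartbeats 1600000
namespace Cfsg.Agent.Lib.Helper8.Dh

open Cfsg Cfsg.Agent.Lib.Helper6 Cfsg.Agent.Lib.Helper6.IndFunMore Cfsg.Agent.Lib.Helper9.Bsw
open scoped ComplexConjugate
open scoped Classical

/-- an orthogonality fact on an abelian group: a combination of the irreducible characters that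
vanishes off the identity has all coefficients equal -/
theorem coeff_all_eq {A : Type*} [Group A] [Fintype A] (hA : IsMulCommutative A)
    [Fintype (IrrCharacter A)] (c : IrrCharacter A → ℂ)
    (hc : ∀ x : A, x ≠ 1 → ∑ ν : IrrCharacter A, c ν * (ν : A → ℂ) x = 0) :
    ∀ ν : IrrCharacter A, c ν = c (oneI A) := by
  set f : A → ℂ := ∑ ν : IrrCharacter A, c ν • (ν : A → ℂ) with hf
  have hfx : ∀ x : A, f x = ∑ ν : IrrCharacter A, c ν * (ν : A → ℂ) x := by
    intro x
    rw [hf]
    simp only [Finset.sum_apply, Pi.smul_apply, smul_eq_mul]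
  have h1 : ∀ ν : IrrCharacter A, classInner f (ν : A → ℂ) = c ν := by
    intro ν
    rw [hf, classInner_sum_left]
    rw [Finset.sum_eq_single ν]
    · rw [classInner_smul_left, classInner_irrCharacter, if_pos rfl, mul_one]
    · intro b _ hb
      rw [classInner_smul_left, classInner_irrCharacter, if_neg hb, mul_zero]
    · intro hh; exact absurd (Finset.mem_univ ν) hh
  have h2 : ∀ ν : IrrCharacter A, classInner f (ν : A → ℂ) = (Nat.card A : ℂ)⁻¹ * f 1 := by
    intro ν
    unfold Cfsg.classInner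
    congr 1
    rw [Finset.sum_eq_single (1 : A)]
    · rw [irr_one hA, map_one, mul_one]
    · intro b _ hb
      rw [hfx b, hc b hb, zero_mul]
    · intro hh; exact absurd (Finset.mem_univ _) hh
  intro ν
  rw [← h1 ν, ← h1 (oneI A), h2, h2]

namespace Dh

section star

variable {G : Type*} [Group G] [Fintype G] {s : G} {K : Subgroup G} [Fintype K]

/-- the exceptional characters attached to `K` -/
structure Star (K : Subgroup G) [Fintype K] (ε : ℂ) (Y : IrrCharacter G)
    (X : IrrCharacter K → IrrCharacter G) : Prop where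
  hε : ε = 1 ∨ ε = -1
  hXY : ∀ μ : IrrCharacter K, μ ≠ oneI K → X μ ≠ Y
  hXX : ∀ μ ν : IrrCharacter K, μ ≠ oneI K → ν ≠ oneI K → (X μ = X ν ↔ (μ = ν ∨ μ = barI ν))
  hPhi : ∀ μ : IrrCharacter K, μ ≠ oneI K →
    Phi K μ = (oneI G : G → ℂ) + ε • (Y : G → ℂ) - ε • (X μ : G → ℂ)

theorem exists_Star (h : Dh s K) (hnr : ∀ μ : IrrCharacter K, μ ≠ oneI K → barI μ ≠ μ) :
    ∃ (ε : ℂ) (Y : IrrCharacter G) (X : IrrCharacter K → IrrCharacter G), Star K ε Y X := by
  obtain ⟨ε, Y, X, hε, h1, h2, h3⟩ := exists_star h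
  exact ⟨ε, Y, X, hε, fun μ hμ => h1 μ (hnr μ hμ),
    fun μ ν hμ hν => h2 μ ν (hnr μ hμ) (hnr ν hν), fun μ hμ => h3 μ (hnr μ hμ)⟩

variable {ε : ℂ} {Y : IrrCharacter G} {X : IrrCharacter K → IrrCharacter G}

theorem Star.eps_mul_eps (S : Star K ε Y X) : ε * ε = 1 := by
  rcases S.hε with h1 | h1 <;> rw [h1] <;> norm_num

theorem Star.conj_eps (S : Star K ε Y X) : conj ε = ε := by
  rcases S.hε with h1 | h1 <;> rw [h1] <;> simp

/-- inner product of `Phi μ` with an arbitrary function, by linearity -/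
theorem Star.inner_Phi (S : Star K ε Y X) (μ : IrrCharacter K) (hμ : μ ≠ oneI K) (f : G → ℂ) :
    classInner (Phi K μ) f = classInner (oneI G : G → ℂ) f + ε * classInner (Y : G → ℂ) f
      - ε * classInner (X μ : G → ℂ) f := by
  rw [S.hPhi μ hμ, classInner_sub_left, classInner_add_left, classInner_smul_left,
    classInner_smul_left]

/-- the coefficients of `Phi μ` -/
theorem Star.coeff (S : Star K ε Y X) (μ : IrrCharacter K) (hμ : μ ≠ oneI K)
    (φ : IrrCharacter G) :
    classInner (Phi K μ) (φ : G → ℂ) = (if oneI G = φ then 1 else 0)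
      + ε * (if Y = φ then 1 else 0) - ε * (if X μ = φ then 1 else 0) := by
  rw [S.inner_Phi μ hμ, classInner_irrCharacter, classInner_irrCharacter, classInner_irrCharacter]

theorem Star.Y_ne_one (S : Star K ε Y X) (μ : IrrCharacter K) (hμ : μ ≠ oneI K) :
    Y ≠ oneI G ∧ X μ ≠ oneI G := by
  have h1 := S.coeff μ hμ (oneI G)
  rw [classInner_Phi_oneG μ hμ, if_pos rfl] at h1
  have hXY := S.hXY μ hμ
  by_cases hY : Y = oneI G
  · have hX : X μ ≠ oneI G := fun hX => hXY (hX.trans hY.symm)
    rw [if_pos hY, if_neg hX] at h1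
    exfalso
    rcases S.hε with h2 | h2 <;> rw [h2] at h1 <;> norm_num at h1
  · by_cases hX : X μ = oneI G
    · rw [if_neg hY, if_pos hX] at h1
      exfalso
      rcases S.hε with h2 | h2 <;> rw [h2] at h1 <;> norm_num at h1
    · exact ⟨hY, hX⟩

variable (h : Dh s K)
include h

/-- a character constant `= v` on `K#` has all coefficients against the `Phi ν` equal to `v` -/
theorem coeff_of_const [Fintype (IrrCharacter K)] {χ : G → ℂ} (hχ : IsCharacter G χ) (v : ℂ)
    (hv : ∀ x : K, x ≠ 1 → χ x = v) (ν : IrrCharacter K) (hν : ν ≠ oneI K) :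
    classInner (Phi K ν) χ = v := by
  have hA := isMulComm h
  have key := coeff_all_eq hA
    (fun ν : IrrCharacter K => classInner (Phi K ν) χ + (if ν = oneI K then v else 0)) (by
      intro x hx
      have h1 := restrict_apply h hχ x hx
      rw [hv x hx] at h1
      have h2 : ∀ ν : IrrCharacter K,
          (classInner (Phi K ν) χ + (if ν = oneI K then v else 0)) * (ν : K → ℂ) x
          = classInner (Phi K ν) χ * (ν : K → ℂ) x
            + (if ν = oneI K then v else 0) * (ν : K → ℂ) x := fun ν => add_mul _ _ _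
      rw [Finset.sum_congr rfl (fun ν _ => h2 ν), Finset.sum_add_distrib]
      rw [Finset.sum_eq_single (oneI K) (s := Finset.univ)
        (f := fun ν : IrrCharacter K => (if ν = oneI K then v else 0) * (ν : K → ℂ) x)]
      · rw [if_pos rfl, oneI_apply, mul_one]
        rw [h1]; ring
      · intro b _ hb
        rw [if_neg hb, zero_mul]
      · intro hh; exact absurd (Finset.mem_univ _) hh)
  have h3 : classInner (Phi K ν) χ + (if ν = oneI K then v else 0)
      = classInner (Phi K (oneI K)) χ + (if oneI K = oneI K then v else 0) := key ν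
  rw [if_neg hν, if_pos rfl, add_zero, Phi_oneI, classInner_zero_left, zero_add] at h3
  exact h3

/-- conversely -/
theorem const_of_coeff [Fintype (IrrCharacter K)] {χ : G → ℂ} (hχ : IsCharacter G χ) (v : ℂ)
    (hc : ∀ ν : IrrCharacter K, ν ≠ oneI K → classInner (Phi K ν) χ = v)
    (x : K) (hx : x ≠ 1) : χ x = v := by
  have hA := isMulComm h
  rw [restrict_apply h hχ x hx]
  have h2 : ∀ ν : IrrCharacter K, classInner (Phi K ν) χ * (ν : K → ℂ) x
      = v * (ν : K → ℂ) x - (if ν = oneI K then v else 0) := by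
    intro ν
    by_cases hν : ν = oneI K
    · rw [hν, if_pos rfl, Phi_oneI, classInner_zero_left, oneI_apply]; ring
    · rw [if_neg hν, hc ν hν, sub_zero]
  rw [Finset.sum_congr rfl (fun ν _ => h2 ν), Finset.sum_sub_distrib, ← Finset.mul_sum,
    sum_irr_apply hA x, if_neg hx, mul_zero, zero_sub, neg_neg]
  rw [Finset.sum_ite_eq' Finset.univ (oneI K) (fun _ => v), if_pos (Finset.mem_univ _)]

variable (S : Star K ε Y X)
include S

/-- `Y` is constant `ε` on `K#` -/
theorem Y_apply [Fintype (IrrCharacter K)] (x : K) (hx : x ≠ 1) : (Y : G → ℂ) x = ε := by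
  apply const_of_coeff h (IsIrrCharacter.isCharacter Y.2) ε _ x hx
  intro ν hν
  rw [S.coeff ν hν, if_pos rfl, if_neg (S.Y_ne_one ν hν).1.symm, if_neg (S.hXY ν hν)]
  ring

/-- irreducible characters other than `1`, `Y`, `X μ` vanish on `K#` -/
theorem other_apply [Fintype (IrrCharacter K)] (φ : IrrCharacter G) (h1 : φ ≠ oneI G) (hY : φ ≠ Y)
    (hX : ∀ μ : IrrCharacter K, μ ≠ oneI K → φ ≠ X μ) (x : K) (hx : x ≠ 1) :
    (φ : G → ℂ) x = 0 := by
  apply const_of_coeff h (IsIrrCharacter.isCharacter φ.2) 0 _ x hx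
  intro ν hν
  rw [S.coeff ν hν, if_neg h1.symm, if_neg hY.symm, if_neg (hX ν hν).symm]
  ring

/-- the exceptional characters on `K#` -/
theorem X_apply [Fintype (IrrCharacter K)] (hnr : ∀ μ : IrrCharacter K, μ ≠ oneI K → barI μ ≠ μ)
    (μ : IrrCharacter K) (hμ : μ ≠ oneI K) (x : K) (hx : x ≠ 1) :
    (X μ : G → ℂ) x = ε * ((μ : K → ℂ) x + conj ((μ : K → ℂ) x)) := by
  have hA := isMulComm h
  rw [restrict_apply h (IsIrrCharacter.isCharacter (X μ).2) x hx]
  have hbμ : barI μ ≠ oneI K := fun h1 => hμ ((barI_eq_oneI_iff μ).1 h1)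
  have h2 : ∀ ν : IrrCharacter K, classInner (Phi K ν) (X μ : G → ℂ) * (ν : K → ℂ) x
      = - ε * ((if ν = μ then (μ : K → ℂ) x else 0)
        + (if ν = barI μ then (barI μ : K → ℂ) x else 0)) := by
    intro ν
    by_cases hν : ν = oneI K
    · rw [hν, Phi_oneI, classInner_zero_left, if_neg (fun h1 => hμ h1.symm),
        if_neg (fun h1 => hbμ h1.symm)]
      ring
    · rw [S.coeff ν hν, if_neg (S.Y_ne_one μ hμ).2.symm, if_neg (S.hXY μ hμ).symm]
      by_cases h3 : ν = μ
      · rw [h3, if_pos rfl, if_pos rfl, if_neg (fun h4 => hnr μ hμ h4.symm)]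
        ring
      · by_cases h4 : ν = barI μ
        · have h5 : X ν = X μ := (S.hXX ν μ hν hμ).2 (Or.inr h4)
          rw [if_pos h5, if_neg h3, if_pos h4, h4]
          ring
        · have h5 : X ν ≠ X μ := fun h6 => by
            rcases (S.hXX ν μ hν hμ).1 h6 with h7 | h7
            · exact h3 h7
            · exact h4 h7
          rw [if_neg h5, if_neg h3, if_neg h4]
          ring
  rw [Finset.sum_congr rfl (fun ν _ => h2 ν), ← Finset.mul_sum, Finset.sum_add_distrib,
    Finset.sum_ite_eq' Finset.univ μ (fun _ => (μ : K → ℂ) x), if_pos (Finset.mem_univ _),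
    Finset.sum_ite_eq' Finset.univ (barI μ) (fun _ => (barI μ : K → ℂ) x),
    if_pos (Finset.mem_univ _), barI_apply]
  ring

omit h in
/-- off the conjugates of `K#`, `X μ = Y + ε` -/
theorem X_apply_off (μ : IrrCharacter K) (hμ : μ ≠ oneI K) (g : G)
    (hg : Phi K μ g = 0) : (X μ : G → ℂ) g = (Y : G → ℂ) g + ε := by
  have h1 := congrFun (S.hPhi μ hμ) g
  rw [hg] at h1
  simp only [Pi.add_apply, Pi.sub_apply, Pi.smul_apply, smul_eq_mul, oneI_apply] at h1
  have h2 := S.eps_mul_eps
  have h3 : (X μ : G → ℂ) g = (ε * ε) * (X μ : G → ℂ) g := by rw [h2, one_mul]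
  rw [h3]
  have h4 : ε * (X μ : G → ℂ) g = 1 + ε * (Y : G → ℂ) g := by
    have := h1
    linear_combination this
  rw [mul_assoc, h4]
  linear_combination (Y : G → ℂ) g * h2

end star

end Dh

end Cfsg.Agent.Lib.Helper8.Dh
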