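import Mathlib
import Cfsg.Agent.Lib.Helper8.DhC

set_option autoImplicit false
set_option linter.unusedSectionVars false
set_option linter.unusedVariables false
set_option linter.style.longLine false
set_option linter.unusedSimpArgs false
set_option linter.dupNamespace false

set_option maxHeartbeats 1600000
namespace Cfsg.Agent.Lib.Helper8.Dh

open Cfsg Cfsg.Agent.Lib.Helper6 Cfsg.Agent.Lib.Helper6.IndFunMore Cfsg.Agent.Lib.Helper9.Bsw
open scoped ComplexConjugate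
open scoped Classical

/-- on an abelian group of odd order the nonprincipal irreducible characters are nonreal -/
theorem nonreal_of_odd {A : Type*} [Group A] [Fintype A] (hA : IsMulCommutative A)
    (hodd : Odd (Nat.card A)) (μ : IrrCharacter A) (hμ : μ ≠ oneI A) : barI μ ≠ μ := by
  intro hb
  apply hμ
  apply Subtype.ext
  funext b
  rw [oneI_apply]
  obtain ⟨m, hm⟩ := hodd
  have hb1 : b ^ (Nat.card A) = 1 := pow_card_eq_one'
  have hsq : b = (b ^ (m + 1)) * (b ^ (m + 1)) := by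
    rw [← pow_add]
    have : m + 1 + (m + 1) = Nat.card A + 1 := by omega
    rw [this, pow_succ, hb1, one_mul]
  have h1 : ∀ a : A, (μ : A → ℂ) a * (μ : A → ℂ) a = 1 := by
    intro a
    have h2 := irr_mul_conj hA μ a
    have h3 : conj ((μ : A → ℂ) a) = (μ : A → ℂ) a := by
      rw [← barI_apply, hb]
    rw [h3] at h2
    exact h2
  rw [hsq, irr_mul hA, h1]

namespace Dh

section stepA

variable {G : Type*} [Group G] [Fintype G] {s : G} {K : Subgroup G} [Fintype K]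
variable {ε : ℂ} {Y : IrrCharacter G} {X : IrrCharacter K → IrrCharacter G}

/-- the four types of irreducible characters and their coefficients -/
theorem Star.coeff_one (S : Star K ε Y X) (ν : IrrCharacter K) (hν : ν ≠ oneI K) :
    classInner (Phi K ν) (oneI G : G → ℂ) = 1 := classInner_Phi_oneG ν hν

theorem Star.coeff_Y (S : Star K ε Y X) (ν : IrrCharacter K) (hν : ν ≠ oneI K) :
    classInner (Phi K ν) (Y : G → ℂ) = ε := by
  rw [S.coeff ν hν, if_pos rfl, if_neg (S.Y_ne_one ν hν).1.symm, if_neg (S.hXY ν hν)]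
  ring

theorem Star.coeff_X_eq (S : Star K ε Y X) (μ ν : IrrCharacter K) (hμ : μ ≠ oneI K)
    (hν : ν ≠ oneI K) (hνμ : X ν = X μ) : classInner (Phi K ν) (X μ : G → ℂ) = -ε := by
  rw [S.coeff ν hν, if_neg (S.Y_ne_one μ hμ).2.symm, if_neg (S.hXY μ hμ).symm, if_pos hνμ]
  ring

theorem Star.coeff_X_ne (S : Star K ε Y X) (μ ν : IrrCharacter K) (hμ : μ ≠ oneI K)
    (hν : ν ≠ oneI K) (hνμ : X ν ≠ X μ) : classInner (Phi K ν) (X μ : G → ℂ) = 0 := by
  rw [S.coeff ν hν, if_neg (S.Y_ne_one μ hμ).2.symm, if_neg (S.hXY μ hμ).symm, if_neg hνμ]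
  ring

theorem Star.coeff_other (S : Star K ε Y X) (ν : IrrCharacter K) (hν : ν ≠ oneI K)
    (φ : IrrCharacter G) (h1 : φ ≠ oneI G) (hY : φ ≠ Y) (hX : φ ≠ X ν) :
    classInner (Phi K ν) (φ : G → ℂ) = 0 := by
  rw [S.coeff ν hν, if_neg h1.symm, if_neg hY.symm, if_neg hX.symm]
  ring

/-- every coefficient is `1`, `ε`, `-ε` or `0` -/
theorem Star.coeff_cases (S : Star K ε Y X) (ν : IrrCharacter K) (hν : ν ≠ oneI K)
    (φ : IrrCharacter G) :
    (φ = oneI G ∧ classInner (Phi K ν) (φ : G → ℂ) = 1) ∨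
    (φ = Y ∧ classInner (Phi K ν) (φ : G → ℂ) = ε) ∨
    (φ = X ν ∧ classInner (Phi K ν) (φ : G → ℂ) = -ε) ∨
    (φ ≠ oneI G ∧ φ ≠ Y ∧ φ ≠ X ν ∧ classInner (Phi K ν) (φ : G → ℂ) = 0) := by
  by_cases h1 : φ = oneI G
  · left; exact ⟨h1, by rw [h1]; exact S.coeff_one ν hν⟩
  · by_cases h2 : φ = Y
    · right; left; exact ⟨h2, by rw [h2]; exact S.coeff_Y ν hν⟩
    · by_cases h3 : φ = X ν
      · right; right; left; exact ⟨h3, by rw [h3]; exact S.coeff_X_eq ν ν hν hν rfl⟩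
      · right; right; right; exact ⟨h1, h2, h3, S.coeff_other ν hν φ h1 h2 h3⟩

variable (h : Dh s K)
include h

/-- the basic equation for two irreducible characters `χ`, `ψ` with `1 + χ + ψ = 0` on `K#` -/
theorem eq_of_sum_zero [Fintype (IrrCharacter K)] (χ ψ : IrrCharacter G)
    (hθ : ∀ x : K, x ≠ 1 → 1 + (χ : G → ℂ) x + (ψ : G → ℂ) x = 0)
    (ν : IrrCharacter K) (hν : ν ≠ oneI K) :
    1 + classInner (Phi K ν) (χ : G → ℂ) + classInner (Phi K ν) (ψ : G → ℂ) = 0 := by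
  have hchar : IsCharacter G ((oneI G : G → ℂ) + (χ : G → ℂ) + (ψ : G → ℂ)) :=
    IsCharacter.add (IsCharacter.add (IsIrrCharacter.isCharacter (oneI G).2)
      (IsIrrCharacter.isCharacter χ.2)) (IsIrrCharacter.isCharacter ψ.2)
  have h1 := coeff_of_const h hchar 0 (by
    intro x hx
    simp only [Pi.add_apply, oneI_apply]
    exact hθ x hx) ν hν
  rw [classInner_add_right, classInner_add_right, classInner_Phi_oneG ν hν] at h1
  exact h1

variable (S : Star K ε Y X)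
include S

/-- for `|K| ≥ 7`, a constituent of `θ = 1 + χ + ψ` vanishing on `K#` is not exceptional -/
theorem not_exc [Fintype (IrrCharacter K)] (hcard : 7 ≤ Nat.card K)
    (hnr : ∀ μ : IrrCharacter K, μ ≠ oneI K → barI μ ≠ μ) (χ ψ : IrrCharacter G) (hχψ : χ ≠ ψ)
    (hθ : ∀ x : K, x ≠ 1 → 1 + (χ : G → ℂ) x + (ψ : G → ℂ) x = 0)
    (μ : IrrCharacter K) (hμ : μ ≠ oneI K) : χ ≠ X μ := by
  intro hχ
  have hA := isMulComm h
  have hci : Fintype.card (IrrCharacter K) = Nat.card K := card_irr hA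
  -- choose ν outside {1, μ, μ̄}
  obtain ⟨ν, hν⟩ : ∃ ν : IrrCharacter K, ν ∉ ({oneI K, μ, barI μ} : Finset (IrrCharacter K)) := by
    by_contra hcon
    push Not at hcon
    have h1 : (Finset.univ : Finset (IrrCharacter K)) ⊆ {oneI K, μ, barI μ} := fun x _ => hcon x
    have h2 := Finset.card_le_card h1
    have h3 : ({oneI K, μ, barI μ} : Finset (IrrCharacter K)).card ≤ 3 := Finset.card_le_three
    rw [Finset.card_univ, hci] at h2
    omega
  obtain ⟨ν', hν'⟩ : ∃ ν' : IrrCharacter K,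
      ν' ∉ ({oneI K, μ, barI μ, ν, barI ν} : Finset (IrrCharacter K)) := by
    by_contra hcon
    push Not at hcon
    have h1 : (Finset.univ : Finset (IrrCharacter K)) ⊆ {oneI K, μ, barI μ, ν, barI ν} :=
      fun x _ => hcon x
    have h2 := Finset.card_le_card h1
    have h3 : ({oneI K, μ, barI μ, ν, barI ν} : Finset (IrrCharacter K)).card ≤ 5 :=
      Finset.card_le_five
    rw [Finset.card_univ, hci] at h2
    omega
  simp only [Finset.mem_insert, Finset.mem_singleton, not_or] at hν hν'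
  obtain ⟨hν1, hνμ, hνμb⟩ := hν
  obtain ⟨hν'1, hν'μ, hν'μb, hν'ν, hν'νb⟩ := hν'
  have hXνμ : X ν ≠ X μ := fun h1 => by
    rcases (S.hXX ν μ hν1 hμ).1 h1 with h2 | h2
    · exact hνμ h2
    · exact hνμb h2
  have hXν'μ : X ν' ≠ X μ := fun h1 => by
    rcases (S.hXX ν' μ hν'1 hμ).1 h1 with h2 | h2
    · exact hν'μ h2
    · exact hν'μb h2
  have hXν'ν : X ν' ≠ X ν := fun h1 => by
    rcases (S.hXX ν' ν hν'1 hν1).1 h1 with h2 | h2
    · exact hν'ν h2
    · exact hν'νb h2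
  have e1 := eq_of_sum_zero h χ ψ hθ ν hν1
  have e2 := eq_of_sum_zero h χ ψ hθ ν' hν'1
  have e3 := eq_of_sum_zero h χ ψ hθ μ hμ
  rw [hχ, S.coeff_X_ne μ ν hμ hν1 hXνμ] at e1
  rw [hχ, S.coeff_X_ne μ ν' hμ hν'1 hXν'μ] at e2
  rw [hχ, S.coeff_X_eq μ μ hμ hμ rfl] at e3
  have hψμ : ψ ≠ X μ := fun h1 => hχψ (hχ.trans h1.symm)
  rcases S.coeff_cases ν hν1 ψ with ⟨h1, h2⟩ | ⟨h1, h2⟩ | ⟨h1, h2⟩ | ⟨h1, h1', h1'', h2⟩
  · rw [h2] at e1; norm_num at e1
  · rw [h2] at e1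
    have hε : ε = -1 := by linear_combination e1
    have h3 : classInner (Phi K μ) (ψ : G → ℂ) = ε := by rw [h1]; exact S.coeff_Y μ hμ
    rw [h3, hε] at e3
    norm_num at e3
  · have h3 : classInner (Phi K ν') (ψ : G → ℂ) = 0 := by
      rw [h1]; exact S.coeff_X_ne ν ν' hν1 hν'1 hXν'ν
    rw [h3] at e2; norm_num at e2
  · rw [h2] at e1; norm_num at e1

/-- Step A: for `|K| ≥ 7`, if `1 + χ + ψ` vanishes on `K#` then `ε = -1`, one of `χ`, `ψ` is `Y`
and the other one is not among `1`, `Y`, `X μ` -/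
theorem stepA [Fintype (IrrCharacter K)] (hcard : 7 ≤ Nat.card K)
    (hnr : ∀ μ : IrrCharacter K, μ ≠ oneI K → barI μ ≠ μ) (χ ψ : IrrCharacter G) (hχψ : χ ≠ ψ)
    (hθ : ∀ x : K, x ≠ 1 → 1 + (χ : G → ℂ) x + (ψ : G → ℂ) x = 0) :
    ε = -1 ∧ ((χ = Y ∧ ψ ≠ oneI G ∧ ψ ≠ Y ∧ ∀ μ : IrrCharacter K, μ ≠ oneI K → ψ ≠ X μ) ∨
      (ψ = Y ∧ χ ≠ oneI G ∧ χ ≠ Y ∧ ∀ μ : IrrCharacter K, μ ≠ oneI K → χ ≠ X μ)) := by
  have hA := isMulComm h
  have hci : Fintype.card (IrrCharacter K) = Nat.card K := card_irr hA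
  have hχX := not_exc h S hcard hnr χ ψ hχψ hθ
  have hψX := not_exc h S hcard hnr ψ χ hχψ.symm (by
    intro x hx
    have := hθ x hx
    linear_combination this)
  obtain ⟨ν, hν⟩ : ∃ ν : IrrCharacter K, ν ≠ oneI K := by
    by_contra hcon
    push Not at hcon
    have h1 : (Finset.univ : Finset (IrrCharacter K)) ⊆ {oneI K} := fun x _ => by
      rw [Finset.mem_singleton]; exact hcon x
    have h2 := Finset.card_le_card h1
    rw [Finset.card_univ, hci, Finset.card_singleton] at h2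
    omega
  have e1 := eq_of_sum_zero h χ ψ hθ ν hν
  rcases S.coeff_cases ν hν χ with ⟨h1, h2⟩ | ⟨h1, h2⟩ | ⟨h1, h2⟩ | ⟨h1, h1', h1'', h2⟩
  · rw [h2] at e1
    rcases S.coeff_cases ν hν ψ with ⟨h3, h4⟩ | ⟨h3, h4⟩ | ⟨h3, h4⟩ | ⟨h3, h3', h3'', h4⟩
    · rw [h4] at e1; norm_num at e1
    · rw [h4] at e1
      exfalso
      rcases S.hε with h5 | h5 <;> rw [h5] at e1 <;> norm_num at e1
    · exact absurd h3 (hψX ν hν)
    · rw [h4] at e1; norm_num at e1
  · rw [h2] at e1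
    rcases S.coeff_cases ν hν ψ with ⟨h3, h4⟩ | ⟨h3, h4⟩ | ⟨h3, h4⟩ | ⟨h3, h3', h3'', h4⟩
    · rw [h4] at e1
      exfalso
      rcases S.hε with h5 | h5 <;> rw [h5] at e1 <;> norm_num at e1
    · exact absurd (h1.trans h3.symm) hχψ
    · exact absurd h3 (hψX ν hν)
    · rw [h4] at e1
      have hε : ε = -1 := by linear_combination e1
      exact ⟨hε, Or.inl ⟨h1, h3, h3', hψX⟩⟩
  · exact absurd h1 (hχX ν hν)
  · rw [h2] at e1
    rcases S.coeff_cases ν hν ψ with ⟨h3, h4⟩ | ⟨h3, h4⟩ | ⟨h3, h4⟩ | ⟨h3, h3', h3'', h4⟩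
    · rw [h4] at e1; norm_num at e1
    · rw [h4] at e1
      have hε : ε = -1 := by linear_combination e1
      exact ⟨hε, Or.inr ⟨h3, h1, h1', hχX⟩⟩
    · exact absurd h3 (hψX ν hν)
    · rw [h4] at e1; norm_num at e1

end stepA

end Dh

end Cfsg.Agent.Lib.Helper8.Dh
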