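import Mathlib
import Cfsg.Agent.Lib.Helper8.DhD

set_option autoImplicit false
set_option linter.unusedSectionVars false
set_option linter.unusedVariables false
set_option linter.style.longLine false
set_option linter.unusedSimpArgs false
set_option linter.dupNamespace false

set_option maxHeartbeats 1600000
namespace Cfsg.Agent.Lib.Helper8.Dh

open Cfsg Cfsg.Agent.Lib.Helper6 Cfsg.Agent.Lib.Helper6.IndFunMore Cfsg.Agent.Lib.Helper9.Bsw
open scoped ComplexConjugate
open scoped Classical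

namespace Dh

section stepD

variable {G : Type*} [Group G] [Fintype G] {s : G} {K : Subgroup G} [Fintype K]
variable {ε : ℂ} {Y : IrrCharacter G} {X : IrrCharacter K → IrrCharacter G}

/-- the map `X` is two-to-one on the nonprincipal characters -/
theorem Star.sum_X {M : Type*} [AddCommMonoid M] [Fintype (IrrCharacter K)] (S : Star K ε Y X)
    (hnr : ∀ μ : IrrCharacter K, μ ≠ oneI K → barI μ ≠ μ) (F : IrrCharacter G → M) :
    ∑ ν ∈ Finset.univ.filter (fun ν : IrrCharacter K => ν ≠ oneI K), F (X ν)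
      = 2 • ∑ φ ∈ (Finset.univ.filter (fun ν : IrrCharacter K => ν ≠ oneI K)).image X, F φ := by
  rw [Finset.sum_comp F X, Finset.smul_sum]
  apply Finset.sum_congr rfl
  intro b hb
  rw [Finset.mem_image] at hb
  obtain ⟨μ, hμ, rfl⟩ := hb
  rw [Finset.mem_filter] at hμ
  have hμ1 := hμ.2
  have hbμ : barI μ ≠ oneI K := fun h1 => hμ1 ((barI_eq_oneI_iff μ).1 h1)
  have hfib : (Finset.univ.filter (fun ν : IrrCharacter K => ν ≠ oneI K)).filter
      (fun ν => X ν = X μ) = {μ, barI μ} := by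
    ext ν
    simp only [Finset.mem_filter, Finset.mem_univ, true_and, Finset.mem_insert,
      Finset.mem_singleton]
    constructor
    · rintro ⟨hν1, hν⟩
      exact (S.hXX ν μ hν1 hμ1).1 hν
    · rintro (h1 | h1)
      · rw [h1]; exact ⟨hμ1, rfl⟩
      · rw [h1]; exact ⟨hbμ, (S.hXX (barI μ) μ hbμ hμ1).2 (Or.inr rfl)⟩
  rw [hfib, Finset.card_pair (fun h1 => hnr μ hμ1 h1.symm)]

variable (h : Dh s K)
include h

/-- Step D: a character `L` with `L = 1` on `K#`, no principal constituent and degree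
`(p-1)(p-2)/2` is the sum of the exceptional characters. -/
theorem stepD [Fintype (IrrCharacter K)] (S : Star K ε Y X) (hε : ε = -1) (p : ℕ) (hp : 3 ≤ p)
    (hcard : Nat.card K = p)
    (hnr : ∀ μ : IrrCharacter K, μ ≠ oneI K → barI μ ≠ μ)
    (hY1 : (Y : G → ℂ) 1 = (p : ℂ) - 1) (L : G → ℂ) (hL : IsCharacter G L)
    (hLK : ∀ x : K, x ≠ 1 → L x = 1) (hL0 : classInner L (oneI G : G → ℂ) = 0)
    (hL1 : 2 * L 1 = ((p : ℂ) - 1) * ((p : ℂ) - 2)) (g : G)
    (hg : ∀ μ : IrrCharacter K, μ ≠ oneI K → Phi K μ g = 0) :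
    2 * L g = ((p : ℂ) - 1) * ((Y : G → ℂ) g - 1) := by
  haveI : Fintype (IrrCharacter G) := Fintype.ofFinite _
  have hA := isMulComm h
  have hci : Fintype.card (IrrCharacter K) = Nat.card K := card_irr hA
  obtain ⟨m, hm⟩ := IsCharacter.eq_sum_irr hL
  have hin : ∀ φ : IrrCharacter G, classInner (φ : G → ℂ) L = (m φ : ℂ) := by
    intro φ
    rw [hm, classInner_sum_right, Finset.sum_eq_single φ]
    · rw [← Nat.cast_smul_eq_nsmul ℂ, classInner_smul_right, classInner_irrCharacter, if_pos rfl,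
        mul_one, Complex.conj_natCast]
    · intro b _ hb
      rw [← Nat.cast_smul_eq_nsmul ℂ, classInner_smul_right, classInner_irrCharacter,
        if_neg (Ne.symm hb), mul_zero]
    · intro hh; exact absurd (Finset.mem_univ _) hh
  have hm1 : m (oneI G) = 0 := by
    have h1 := hin (oneI G)
    rw [← classInner_conj_symm, hL0, map_zero] at h1
    exact_mod_cast h1.symm
  have hmX : ∀ ν : IrrCharacter K, ν ≠ oneI K → m (X ν) = 1 + m Y := by
    intro ν hν
    have h1 := coeff_of_const h hL 1 hLK ν hν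
    rw [S.inner_Phi ν hν, hin, hin, hin, hm1, hε] at h1
    have : ((m (X ν) : ℕ) : ℂ) = ((1 + m Y : ℕ) : ℂ) := by
      push_cast; linear_combination h1
    exact_mod_cast this
  -- degrees
  set D : IrrCharacter G → ℕ := fun φ => charDegree (φ : G → ℂ) with hD
  have hD1 : ∀ φ : IrrCharacter G, (φ : G → ℂ) 1 = (D φ : ℂ) := fun φ =>
    IsCharacter.apply_one_eq_charDegree (IsIrrCharacter.isCharacter φ.2)
  have hDpos : ∀ φ : IrrCharacter G, 0 < D φ := fun φ => IsIrrCharacter.charDegree_pos φ.2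
  obtain ⟨q, rfl⟩ : ∃ q, p = q + 2 := ⟨p - 2, by omega⟩
  have hDY : D Y = q + 1 := by
    have h1 := hD1 Y
    rw [hY1] at h1
    have : ((D Y : ℕ) : ℂ) = ((q + 1 : ℕ) : ℂ) := by
      rw [← h1]; push_cast; ring
    exact_mod_cast this
  have hXoff : ∀ ν : IrrCharacter K, ν ≠ oneI K → ∀ g' : G, Phi K ν g' = 0 →
      (X ν : G → ℂ) g' = (Y : G → ℂ) g' - 1 := by
    intro ν hν g' hg'
    rw [X_apply_off S ν hν g' hg', hε]; ring
  have hDX : ∀ ν : IrrCharacter K, ν ≠ oneI K → D (X ν) = q := by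
    intro ν hν
    have h1 := hD1 (X ν)
    rw [hXoff ν hν 1 (Phi_one h ν), hY1] at h1
    have : ((D (X ν) : ℕ) : ℂ) = ((q : ℕ) : ℂ) := by
      rw [← h1]; push_cast; ring
    exact_mod_cast this
  set s0 : Finset (IrrCharacter K) := Finset.univ.filter (fun ν : IrrCharacter K => ν ≠ oneI K)
    with hs0
  set T : Finset (IrrCharacter G) := s0.image X with hT
  have hs0card : s0.card = q + 1 := by
    rw [hs0, Finset.filter_ne' Finset.univ (oneI K), Finset.card_erase_of_mem (Finset.mem_univ _),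
      Finset.card_univ, hci, hcard]
    omega
  have hT2 : 2 * T.card = q + 1 := by
    have h1 := S.sum_X hnr (fun _ => (1 : ℕ))
    rw [← hs0, ← hT] at h1
    simp only [Finset.sum_const, smul_eq_mul, mul_one] at h1
    rw [← h1, hs0card]
  have hYT : Y ∉ T := by
    intro h1
    rw [hT, Finset.mem_image] at h1
    obtain ⟨ν, hν, hνY⟩ := h1
    rw [hs0, Finset.mem_filter] at hν
    exact S.hXY ν hν.2 hνY
  have hmT : ∀ φ ∈ T, m φ = 1 + m Y ∧ D φ = q := by
    intro φ hφ
    rw [hT, Finset.mem_image] at hφ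
    obtain ⟨ν, hν, rfl⟩ := hφ
    rw [hs0, Finset.mem_filter] at hν
    exact ⟨hmX ν hν.2, hDX ν hν.2⟩
  -- the degree equation in ℕ
  have hdeg : 2 * ∑ φ : IrrCharacter G, m φ * D φ = (q + 1) * q := by
    have h1 : L 1 = ∑ φ : IrrCharacter G, (m φ : ℂ) * (D φ : ℂ) := by
      rw [hm]
      simp only [Finset.sum_apply, Pi.smul_apply]
      apply Finset.sum_congr rfl
      intro φ _
      rw [hD1, nsmul_eq_mul]
    have h2 : ((2 * ∑ φ : IrrCharacter G, m φ * D φ : ℕ) : ℂ) = (((q + 1) * q : ℕ) : ℂ) := by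
      push_cast
      rw [← h1, hL1]
      push_cast; ring
    exact_mod_cast h2
  have hsplit : ∑ φ : IrrCharacter G, m φ * D φ
      = ∑ φ ∈ T, m φ * D φ + ∑ φ ∈ Tᶜ, m φ * D φ := (Finset.sum_add_sum_compl T _).symm
  have hsumT : ∑ φ ∈ T, m φ * D φ = T.card * ((1 + m Y) * q) := by
    rw [Finset.sum_congr rfl (fun φ hφ => by rw [(hmT φ hφ).1, (hmT φ hφ).2]),
      Finset.sum_const, smul_eq_mul]
  have hYc : Y ∈ Tᶜ := Finset.mem_compl.2 hYT
  have hge : m Y * D Y ≤ ∑ φ ∈ Tᶜ, m φ * D φ :=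
    Finset.single_le_sum (f := fun φ => m φ * D φ) (fun _ _ => Nat.zero_le _) hYc
  have hmY : m Y = 0 := by
    by_contra hne
    have h1 : 1 ≤ m Y := Nat.one_le_iff_ne_zero.2 hne
    rw [hsplit, hsumT] at hdeg
    rw [hDY] at hge
    have h3 : 2 * (T.card * ((1 + m Y) * q)) = (q + 1) * ((1 + m Y) * q) := by
      rw [← mul_assoc, hT2]
    have h4 : (q + 1) * q ≤ (q + 1) * ((1 + m Y) * q) :=
      Nat.mul_le_mul_left _ (Nat.le_mul_of_pos_left q (by omega))
    have h5 : 1 * (q + 1) ≤ m Y * (q + 1) := Nat.mul_le_mul_right _ h1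
    generalize (q + 1) * ((1 + m Y) * q) = A at h3 h4
    generalize T.card * ((1 + m Y) * q) = TA at h3 hdeg
    generalize (q + 1) * q = B at h4 hdeg
    generalize m Y * (q + 1) = C at h5 hge
    generalize ∑ φ ∈ Tᶜ, m φ * D φ = R at hge hdeg
    omega
  have hrest : ∀ φ ∈ Tᶜ, m φ = 0 := by
    have h1 : ∑ φ ∈ Tᶜ, m φ * D φ = 0 := by
      rw [hsplit, hsumT, hmY] at hdeg
      have h3 : 2 * (T.card * ((1 + 0) * q)) = (q + 1) * q := by
        rw [← mul_assoc, hT2]; ring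
      omega
    intro φ hφ
    have h2 := (Finset.sum_eq_zero_iff.1 h1) φ hφ
    rcases Nat.mul_eq_zero.1 h2 with h3 | h3
    · exact h3
    · exact absurd h3 (Nat.pos_iff_ne_zero.1 (hDpos φ))
  -- evaluation at g
  have hLg : L g = ∑ φ ∈ T, (φ : G → ℂ) g := by
    rw [hm]
    simp only [Finset.sum_apply, Pi.smul_apply]
    rw [← Finset.sum_add_sum_compl T]
    rw [Finset.sum_eq_zero (s := Tᶜ) (fun φ hφ => by rw [hrest φ hφ]; simp), add_zero]
    apply Finset.sum_congr rfl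
    intro φ hφ
    rw [(hmT φ hφ).1, hmY]; simp
  have hTg : ∀ φ ∈ T, (φ : G → ℂ) g = (Y : G → ℂ) g - 1 := by
    intro φ hφ
    rw [hT, Finset.mem_image] at hφ
    obtain ⟨ν, hν, rfl⟩ := hφ
    rw [hs0, Finset.mem_filter] at hν
    exact hXoff ν hν.2 g (hg ν hν.2)
  rw [hLg, Finset.sum_congr rfl hTg, Finset.sum_const, nsmul_eq_mul, ← mul_assoc]
  have h5 : (2 : ℂ) * (T.card : ℂ) = ((q + 2 : ℕ) : ℂ) - 1 := by
    have : ((2 * T.card : ℕ) : ℂ) = ((q + 1 : ℕ) : ℂ) := by rw [hT2]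
    push_cast at this ⊢
    linear_combination this
  rw [h5]

end stepD

end Dh

end Cfsg.Agent.Lib.Helper8.Dh
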