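import Mathlib
import Cfsg.Prelude.Def_GeometricClasses
import Cfsg.Agent.Lib.Helper8.Mono1

set_option autoImplicit false
set_option linter.unusedVariables false
set_option linter.unusedSectionVars false
set_option linter.style.longLine false

/-! Transport of the stabiliser of a decomposition to coordinates with respect to an adapted
basis. -/

namespace Cfsg.Agent.Lib.Helper8.Dtr

open Matrix Cfsg.Agent.Lib.Helper8.Mono

variable {F : Type*} [Field F] {n : ℕ} {ι : Type} [Fintype ι] [DecidableEq ι]

/-- matrices in coordinates -/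
noncomputable def coordAlg (b : Module.Basis ι F (Fin n → F)) :
    Matrix (Fin n) (Fin n) F ≃ₐ[F] Matrix ι ι F :=
  (Matrix.toLinAlgEquiv' : Matrix (Fin n) (Fin n) F ≃ₐ[F] _).trans (LinearMap.toMatrixAlgEquiv b)

/-- the general linear group in coordinates -/
noncomputable def coordGL (b : Module.Basis ι F (Fin n → F)) : GL (Fin n) F ≃* GL ι F :=
  Units.mapEquiv (coordAlg b).toMulEquiv

theorem coordGL_apply (b : Module.Basis ι F (Fin n → F)) (g : GL (Fin n) F) (a c : ι) :
    ((coordGL b g : GL ι F) : Matrix ι ι F) a c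
      = b.repr ((g : Matrix (Fin n) (Fin n) F) *ᵥ b c) a := by
  show (coordAlg b (g : Matrix (Fin n) (Fin n) F)) a c = _
  unfold coordAlg
  rw [AlgEquiv.trans_apply, LinearMap.toMatrixAlgEquiv_apply, Matrix.toLinAlgEquiv'_apply]

theorem det_coordGL (b : Module.Basis ι F (Fin n → F)) (g : GL (Fin n) F) :
    ((coordGL b g : GL ι F) : Matrix ι ι F).det = (g : Matrix (Fin n) (Fin n) F).det := by
  show (coordAlg b (g : Matrix (Fin n) (Fin n) F)).det = _
  unfold coordAlg
  rw [AlgEquiv.trans_apply]
  show (LinearMap.toMatrix b b (Matrix.toLin' (g : Matrix (Fin n) (Fin n) F))).det = _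
  rw [LinearMap.det_toMatrix, LinearMap.det_toLin']

theorem mulVec_basis (b : Module.Basis ι F (Fin n → F)) (g : GL (Fin n) F) (a : ι) :
    (g : Matrix (Fin n) (Fin n) F) *ᵥ b a
      = ∑ c, ((coordGL b g : GL ι F) : Matrix ι ι F) c a • b c := by
  rw [← b.sum_repr ((g : Matrix (Fin n) (Fin n) F) *ᵥ b a)]
  refine Finset.sum_congr rfl fun c _ => ?_
  rw [coordGL_apply]

theorem mem_SL_iff (b : Module.Basis ι F (Fin n → F)) (g : GL (Fin n) F) :
    g ∈ Cfsg.Geo.specialLinear (Fin n) F ↔ ((coordGL b g : GL ι F) : Matrix ι ι F).det = 1 := by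
  rw [mem_SL, det_coordGL]

/-- block monomial matrices with respect to a map to the set of blocks -/
def IsBMp {I : Type} (p : ι → I) (g : Matrix ι ι F) : Prop :=
  ∃ σ : Equiv.Perm I, ∀ a c, g a c ≠ 0 → p a = σ (p c)

theorem toLin'_injective (g : GL (Fin n) F) :
    Function.Injective (Matrix.toLin' (g : Matrix (Fin n) (Fin n) F)) := by
  apply Function.LeftInverse.injective (g := Matrix.toLin' ((g⁻¹ : GL (Fin n) F) : Matrix (Fin n) (Fin n) F))
  intro v
  rw [← LinearMap.comp_apply, ← Matrix.toLin'_mul, ← Units.val_mul, inv_mul_cancel, Units.val_one,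
    Matrix.toLin'_one]
  rfl

section decomp

variable {t m : ℕ} {D : Fin t → Submodule F (Fin n → F)}

/-- the stabiliser of the decomposition in coordinates -/
theorem mem_stab_iff (hD : Cfsg.Geo.IsMDecomposition m D) (b : Module.Basis ι F (Fin n → F))
    (p : ι → Fin t) (hmem : ∀ a, b a ∈ D (p a))
    (hrepr : ∀ k, ∀ v ∈ D k, ∀ a, p a ≠ k → b.repr v a = 0) (g : GL (Fin n) F) :
    g ∈ Cfsg.Geo.decompositionStabilizer D ↔
      IsBMp p ((coordGL b g : GL ι F) : Matrix ι ι F) := by
  constructor
  · rintro ⟨σ, hσ⟩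
    refine ⟨σ, fun a c hac => ?_⟩
    rw [coordGL_apply] at hac
    by_contra hne
    apply hac
    apply hrepr (σ (p c)) _ _ a hne
    rw [← hσ (p c)]
    exact ⟨b c, hmem c, by rw [Matrix.toLin'_apply]⟩
  · rintro ⟨σ, hσ⟩
    refine ⟨σ, fun k => ?_⟩
    have hle : (D k).map (Matrix.toLin' (g : Matrix (Fin n) (Fin n) F)) ≤ D (σ k) := by
      rintro _ ⟨v, hv, rfl⟩
      rw [Matrix.toLin'_apply, ← b.sum_repr v, Matrix.mulVec_sum]
      refine Submodule.sum_mem _ fun a _ => ?_
      rw [Matrix.mulVec_smul]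
      by_cases hpa : p a = k
      · apply Submodule.smul_mem
        rw [mulVec_basis]
        refine Submodule.sum_mem _ fun c _ => ?_
        by_cases hca : ((coordGL b g : GL ι F) : Matrix ι ι F) c a = 0
        · rw [hca, zero_smul]
          exact Submodule.zero_mem _
        · have := hσ c a hca
          rw [hpa] at this
          rw [← this]
          exact Submodule.smul_mem _ _ (hmem c)
      · rw [hrepr k v hv a hpa, zero_smul]
        exact Submodule.zero_mem _
    apply Submodule.eq_of_le_of_finrank_eq hle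
    rw [hD.finrank_eq (σ k), ← hD.finrank_eq k]
    exact (LinearEquiv.finrank_eq
      (Submodule.equivMapOfInjective _ (toLin'_injective g) (D k))).symm

end decomp

end Cfsg.Agent.Lib.Helper8.Dtr
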