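import Mathlib
import Cfsg.Agent.Lib.Helper8.Mono9

set_option autoImplicit false
set_option linter.unusedVariables false
set_option linter.unusedSectionVars false
set_option linter.style.longLine false

/-! Monomial matrices (part 10): block upper triangular matrices over `Fin (k+1)`. -/

namespace Cfsg.Agent.Lib.Helper8.Mono

open Matrix

section general

variable {ι : Type} [Fintype ι] [DecidableEq ι] {F : Type*} [Field F]

theorem gpm_mul_apply (σ : Equiv.Perm ι) (d : ι → Fˣ) (h : GL ι F) (i b : ι) :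
    ((gpm σ d * h : GL ι F) : Matrix ι ι F) i b
      = (d (σ⁻¹ i) : F) * (h : Matrix ι ι F) (σ⁻¹ i) b := by
  rw [Units.val_mul, Matrix.mul_apply, Finset.sum_eq_single (σ⁻¹ i)]
  · rw [gpm_apply, if_pos (by simp)]
  · intro a _ ha
    rw [gpm_apply, if_neg, zero_mul]
    intro e
    apply ha
    rw [e]
    simp
  · intro h'
    exact absurd (Finset.mem_univ _) h'

theorem mul_gpm_apply (σ : Equiv.Perm ι) (d : ι → Fˣ) (h : GL ι F) (a o : ι) :
    ((h * gpm σ d : GL ι F) : Matrix ι ι F) a o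
      = (h : Matrix ι ι F) a (σ o) * (d o : F) := by
  rw [Units.val_mul, Matrix.mul_apply, Finset.sum_eq_single (σ o)]
  · rw [gpm_apply, if_pos rfl]
  · intro b _ hb
    rw [gpm_apply, if_neg hb, mul_zero]
  · intro h'
    exact absurd (Finset.mem_univ _) h'

/-- moving a monomial column to a prescribed position -/
theorem exists_normal_form (X : Subgroup (GL ι F)) (hN : monoSL ι F ≤ X) (h : GL ι F)
    (hX : h ∈ X) (hh : ¬ IsMono (h : Matrix ι ι F)) (l : ι)
    (hcol : MonoCol (h : Matrix ι ι F) l) (o : ι) :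
    ∃ h' ∈ X, ¬ IsMono (h' : Matrix ι ι F) ∧ ∀ i, i ≠ o → (h' : Matrix ι ι F) i o = 0 := by
  obtain ⟨p, hp⟩ := hcol
  set P₁ : GL ι F := gpmS (Equiv.swap o p) o with hP₁
  set P₂ : GL ι F := gpmS (Equiv.swap o l) o with hP₂
  have h1 : P₁ ∈ monoSL ι F := gpmS_mem _ _
  have h2 : P₂ ∈ monoSL ι F := gpmS_mem _ _
  refine ⟨P₁ * h * P₂, X.mul_mem (X.mul_mem (hN h1) hX) (hN h2), ?_, ?_⟩
  · intro hm
    apply hh
    have e : h = P₁⁻¹ * (P₁ * h * P₂) * P₂⁻¹ := by group
    have hmem : P₁⁻¹ * (P₁ * h * P₂) * P₂⁻¹ ∈ monoSub ι F :=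
      (monoSub ι F).mul_mem ((monoSub ι F).mul_mem ((monoSub ι F).inv_mem h1.1) hm)
        ((monoSub ι F).inv_mem h2.1)
    rw [← e] at hmem
    exact hmem
  · intro i hi
    rw [hP₂]
    unfold gpmS
    rw [mul_gpm_apply, Equiv.swap_apply_left, hP₁]
    unfold gpmS
    rw [gpm_mul_apply]
    have : (Equiv.swap o p)⁻¹ i ≠ p := by
      intro e
      apply hi
      have := congrArg (Equiv.swap o p) e
      rw [Equiv.swap_apply_right] at this
      rw [← this]
      simp
    rw [hp _ this, mul_zero, zero_mul]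

end general

section blocks

variable {k : ℕ} {F : Type*} [Field F]

/-- block upper triangular matrix -/
def blkMat (lam : F) (γ : Fin k → F) (A : Matrix (Fin k) (Fin k) F) :
    Matrix (Fin (k + 1)) (Fin (k + 1)) F :=
  fun a b => Fin.cases (Fin.cases lam γ b) (fun a' => Fin.cases 0 (A a') b) a

@[simp] theorem blkMat_zero_zero (lam : F) (γ : Fin k → F) (A : Matrix (Fin k) (Fin k) F) :
    blkMat lam γ A 0 0 = lam := by simp [blkMat]

@[simp] theorem blkMat_zero_succ (lam : F) (γ : Fin k → F) (A : Matrix (Fin k) (Fin k) F)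
    (b : Fin k) : blkMat lam γ A 0 b.succ = γ b := by simp [blkMat]

@[simp] theorem blkMat_succ_zero (lam : F) (γ : Fin k → F) (A : Matrix (Fin k) (Fin k) F)
    (a : Fin k) : blkMat lam γ A a.succ 0 = 0 := by simp [blkMat]

@[simp] theorem blkMat_succ_succ (lam : F) (γ : Fin k → F) (A : Matrix (Fin k) (Fin k) F)
    (a b : Fin k) : blkMat lam γ A a.succ b.succ = A a b := by simp [blkMat]

theorem blkMat_mul (lam lam' : F) (γ γ' : Fin k → F) (A A' : Matrix (Fin k) (Fin k) F) :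
    blkMat lam γ A * blkMat lam' γ' A' = blkMat (lam * lam') (lam • γ' + γ ᵥ* A') (A * A') := by
  ext a b
  rw [Matrix.mul_apply, Fin.sum_univ_succ]
  refine Fin.cases ?_ (fun a' => ?_) a <;> refine Fin.cases ?_ (fun b' => ?_) b
  · simp
  · simp [Matrix.vecMul, dotProduct]
  · simp
  · simp [Matrix.mul_apply]

theorem blkMat_one : blkMat (1 : F) (0 : Fin k → F) (1 : Matrix (Fin k) (Fin k) F) = 1 := by
  ext a b
  refine Fin.cases ?_ (fun a' => ?_) a <;> refine Fin.cases ?_ (fun b' => ?_) b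
  · simp
  · simp [Matrix.one_apply, Fin.succ_ne_zero, (Fin.succ_ne_zero _).symm]
  · simp [Matrix.one_apply, Fin.succ_ne_zero]
  · simp [Matrix.one_apply]

theorem det_blkMat (lam : F) (γ : Fin k → F) (A : Matrix (Fin k) (Fin k) F) :
    (blkMat lam γ A).det = lam * A.det := by
  rw [Matrix.det_succ_column_zero, Fin.sum_univ_succ]
  have e : (blkMat lam γ A).submatrix Fin.succ Fin.succ = A := by
    ext a b
    simp
  simp [e]

/-- block upper triangular element of `GL` -/
noncomputable def blk (lam : Fˣ) (γ : Fin k → F) (A : GL (Fin k) F) : GL (Fin (k + 1)) F :=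
  Matrix.GeneralLinearGroup.mk'' (blkMat (lam : F) γ (A : Matrix (Fin k) (Fin k) F)) (by
    rw [det_blkMat]
    exact lam.isUnit.mul ((Matrix.isUnit_iff_isUnit_det _).mp A.isUnit))

theorem blk_val (lam : Fˣ) (γ : Fin k → F) (A : GL (Fin k) F) :
    ((blk lam γ A : GL (Fin (k + 1)) F) : Matrix (Fin (k + 1)) (Fin (k + 1)) F)
      = blkMat (lam : F) γ (A : Matrix (Fin k) (Fin k) F) := rfl

theorem blk_mul (lam lam' : Fˣ) (γ γ' : Fin k → F) (A A' : GL (Fin k) F) :
    blk lam γ A * blk lam' γ' A'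
      = blk (lam * lam') ((lam : F) • γ' + γ ᵥ* (A' : Matrix (Fin k) (Fin k) F)) (A * A') := by
  apply Units.ext
  rw [Units.val_mul, blk_val, blk_val, blk_val, blkMat_mul, Units.val_mul, Units.val_mul]

theorem blk_one : blk (1 : Fˣ) (0 : Fin k → F) (1 : GL (Fin k) F) = 1 := by
  apply Units.ext
  rw [blk_val, Units.val_one, Units.val_one, Units.val_one, blkMat_one]

theorem blk_congr {lam lam' : Fˣ} {γ γ' : Fin k → F} {A A' : GL (Fin k) F} (h1 : lam = lam')
    (h2 : γ = γ') (h3 : A = A') : blk lam γ A = blk lam' γ' A' := by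
  subst h1 h2 h3
  rfl

theorem vecMul_inv_mul (γ : Fin k → F) (A : GL (Fin k) F) :
    (γ ᵥ* ((A⁻¹ : GL (Fin k) F) : Matrix (Fin k) (Fin k) F)) ᵥ* (A : Matrix (Fin k) (Fin k) F) = γ := by
  rw [Matrix.vecMul_vecMul, ← Units.val_mul, inv_mul_cancel, Units.val_one, Matrix.vecMul_one]

theorem blk_inv (lam : Fˣ) (γ : Fin k → F) (A : GL (Fin k) F) :
    (blk lam γ A)⁻¹ = blk lam⁻¹
      (-((lam⁻¹ : Fˣ) : F) • (γ ᵥ* ((A⁻¹ : GL (Fin k) F) : Matrix (Fin k) (Fin k) F))) A⁻¹ := by
  rw [inv_eq_iff_mul_eq_one, blk_mul, ← blk_one]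
  apply blk_congr
  · exact mul_inv_cancel lam
  · rw [smul_smul, mul_neg, ← Units.val_mul, mul_inv_cancel, Units.val_one, neg_one_smul,
      neg_add_cancel]
  · exact mul_inv_cancel A

theorem det_blk (lam : Fˣ) (γ : Fin k → F) (A : GL (Fin k) F) :
    ((blk lam γ A : GL (Fin (k + 1)) F) : Matrix (Fin (k + 1)) (Fin (k + 1)) F).det
      = (lam : F) * (A : Matrix (Fin k) (Fin k) F).det := by
  rw [blk_val, det_blkMat]

theorem isMono_blkMat (lam : F) (A : Matrix (Fin k) (Fin k) F) (hA : IsMono A) :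
    IsMono (blkMat lam 0 A) := by
  intro b
  refine Fin.cases ?_ (fun b' => ?_) b
  · refine ⟨0, fun i hi => ?_⟩
    obtain ⟨i', rfl⟩ := Fin.exists_succ_eq.mpr hi
    simp
  · obtain ⟨p, hp⟩ := hA b'
    refine ⟨p.succ, fun i => ?_⟩
    refine Fin.cases ?_ (fun i' => ?_) i
    · intro _
      simp
    · intro hi
      rw [blkMat_succ_succ]
      exact hp i' (fun e => hi (by rw [e]))

end blocks

end Cfsg.Agent.Lib.Helper8.Mono
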