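import Mathlib
import Cfsg.Agent.Lib.Helper8.Mono10

set_option autoImplicit false
set_option linter.unusedVariables false
set_option linter.unusedSectionVars false
set_option linter.style.longLine false

/-! Monomial matrices (part 11): descent from `Fin (k+1)` to `Fin k`. -/

namespace Cfsg.Agent.Lib.Helper8.Mono

open Matrix

variable {k : ℕ} {F : Type*} [Field F]

/-- an element whose first column is a multiple of the first basis vector is block triangular -/
theorem exists_blk (h : GL (Fin (k + 1)) F)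
    (hcol : ∀ j : Fin k, (h : Matrix (Fin (k + 1)) (Fin (k + 1)) F) j.succ 0 = 0) :
    ∃ (lam : Fˣ) (γ : Fin k → F) (A : GL (Fin k) F), h = blk lam γ A := by
  have e00 := iv_mul_apply h 0 0
  rw [if_pos rfl, Fin.sum_univ_succ, Finset.sum_eq_zero (fun j _ => by rw [hcol j, mul_zero]),
    add_zero] at e00
  have h00 : (h : Matrix (Fin (k + 1)) (Fin (k + 1)) F) 0 0 ≠ 0 := fun e => by
    rw [e, mul_zero] at e00; exact zero_ne_one e00
  have hz : ∀ a : Fin k, iv h a.succ 0 = 0 := by
    intro a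
    have := iv_mul_apply h a.succ 0
    rw [if_neg (Fin.succ_ne_zero a), Fin.sum_univ_succ,
      Finset.sum_eq_zero (fun j _ => by rw [hcol j, mul_zero]), add_zero] at this
    rcases mul_eq_zero.mp this with e | e
    · exact e
    · exact absurd e h00
  let A : GL (Fin k) F :=
    { val := Matrix.of fun a b => (h : Matrix (Fin (k + 1)) (Fin (k + 1)) F) a.succ b.succ
      inv := Matrix.of fun a b => iv h a.succ b.succ
      val_inv := by
        ext a b
        rw [Matrix.mul_apply]
        simp only [Matrix.of_apply]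
        have := mul_iv_apply h a.succ b.succ
        rw [Fin.sum_univ_succ, hcol a, zero_mul, zero_add] at this
        rw [this, Matrix.one_apply]
        simp only [Fin.succ_inj]
      inv_val := by
        ext a b
        rw [Matrix.mul_apply]
        simp only [Matrix.of_apply]
        have := iv_mul_apply h a.succ b.succ
        rw [Fin.sum_univ_succ, hz a, zero_mul, zero_add] at this
        rw [this, Matrix.one_apply]
        simp only [Fin.succ_inj] }
  refine ⟨Units.mk0 _ h00, fun b => (h : Matrix (Fin (k + 1)) (Fin (k + 1)) F) 0 b.succ, A, ?_⟩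
  apply Units.ext
  rw [blk_val]
  ext a b
  refine Fin.cases ?_ (fun a' => ?_) a <;> refine Fin.cases ?_ (fun b' => ?_) b
  · simp
  · simp
  · simp [hcol]
  · rw [blkMat_succ_succ]
    rfl

theorem blk_one_rtv (γ : Fin k → F) :
    blk (1 : Fˣ) γ (1 : GL (Fin k) F)
      = rtv 0 (Fin.cons (0 : F) γ : Fin (k + 1) → F) (by simp) := by
  apply Units.ext
  rw [blk_val, rtv_val]
  ext a b
  rw [Matrix.add_apply, rowMat_apply]
  refine Fin.cases ?_ (fun a' => ?_) a <;> refine Fin.cases ?_ (fun b' => ?_) b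
  · simp
  · simp [Matrix.one_apply, (Fin.succ_ne_zero _).symm]
  · simp [Matrix.one_apply, Fin.succ_ne_zero]
  · simp [Matrix.one_apply, Fin.succ_ne_zero]

theorem blk_etv (a b : Fin k) (hab : a ≠ b) (c : F) :
    blk (1 : Fˣ) 0 (etv a b hab c)
      = etv a.succ b.succ (fun e => hab (Fin.succ_injective _ e)) c := by
  apply Units.ext
  rw [blk_val, etv_val, etv_val]
  ext x y
  refine Fin.cases ?_ (fun x' => ?_) x <;> refine Fin.cases ?_ (fun y' => ?_) y
  · simp [Matrix.transvection, Matrix.single_apply, Fin.succ_ne_zero]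
  · simp [Matrix.transvection, Matrix.single_apply, Fin.succ_ne_zero, Matrix.one_apply,
      (Fin.succ_ne_zero _).symm]
  · simp [Matrix.transvection, Matrix.single_apply, Fin.succ_ne_zero, Matrix.one_apply]
  · simp [Matrix.transvection, Matrix.single_apply, Matrix.one_apply]

/-- the image in `GL (Fin k)` of the block triangular elements of `X` -/
def imgSub (X : Subgroup (GL (Fin (k + 1)) F)) : Subgroup (GL (Fin k) F) where
  carrier := {A | ∃ (lam : Fˣ) (γ : Fin k → F), blk lam γ A ∈ X}
  mul_mem' := by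
    rintro A A' ⟨lam, γ, h⟩ ⟨lam', γ', h'⟩
    exact ⟨_, _, by rw [← blk_mul]; exact X.mul_mem h h'⟩
  one_mem' := ⟨1, 0, by rw [blk_one]; exact X.one_mem⟩
  inv_mem' := by
    rintro A ⟨lam, γ, h⟩
    exact ⟨_, _, by rw [← blk_inv]; exact X.inv_mem h⟩

theorem mem_imgSub (X : Subgroup (GL (Fin (k + 1)) F)) (A : GL (Fin k) F) :
    A ∈ imgSub X ↔ ∃ (lam : Fˣ) (γ : Fin k → F), blk lam γ A ∈ X := Iff.rfl

/-- the embedding `A ↦ 1 ⊕ A` -/
noncomputable def emb1 : GL (Fin k) F →* GL (Fin (k + 1)) F where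
  toFun A := blk 1 0 A
  map_one' := blk_one
  map_mul' A B := by
    rw [blk_mul]
    apply blk_congr
    · simp
    · simp
    · rfl

theorem emb1_apply (A : GL (Fin k) F) : emb1 A = blk 1 0 A := rfl

theorem isMono_blk_zero (lam : Fˣ) (A : GL (Fin k) F)
    (hA : IsMono (A : Matrix (Fin k) (Fin k) F)) :
    IsMono ((blk lam 0 A : GL (Fin (k + 1)) F) : Matrix (Fin (k + 1)) (Fin (k + 1)) F) := by
  rw [blk_val]
  exact isMono_blkMat _ _ hA

theorem isMono_one_GL {ι : Type} [Fintype ι] [DecidableEq ι] :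
    IsMono (((1 : GL ι F) : Matrix ι ι F)) := by
  rw [Units.val_one]
  exact isMono_one

/-- descent for subgroups containing all monomial matrices -/
theorem descent_GL (hF : ∃ θ : Fˣ, θ ≠ 1) (X : Subgroup (GL (Fin (k + 1)) F))
    (hN : monoSub (Fin (k + 1)) F ≤ X) (h : GL (Fin (k + 1)) F) (hX : h ∈ X)
    (hh : ¬ IsMono (h : Matrix (Fin (k + 1)) (Fin (k + 1)) F)) (l : Fin (k + 1))
    (hcol : MonoCol (h : Matrix (Fin (k + 1)) (Fin (k + 1)) F) l) :
    Cfsg.Geo.specialLinear (Fin (k + 1)) F ≤ X ∨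
      ∃ A : GL (Fin k) F, ¬ IsMono (A : Matrix (Fin k) (Fin k) F) ∧ blk 1 0 A ∈ X := by
  have hN' : monoSL (Fin (k + 1)) F ≤ X := le_trans inf_le_left hN
  obtain ⟨h', hX', hh', hcol'⟩ := exists_normal_form X hN' h hX hh l hcol 0
  obtain ⟨lam, γ, A, rfl⟩ := exists_blk h' (fun j => hcol' _ (Fin.succ_ne_zero j))
  by_cases hγ : γ = 0
  · right
    subst hγ
    refine ⟨A, fun hA => hh' (isMono_blk_zero lam A hA), ?_⟩
    have hd : blk lam⁻¹ 0 (1 : GL (Fin k) F) ∈ X := hN (isMono_blk_zero _ _ isMono_one_GL)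
    have := X.mul_mem hd hX'
    rw [blk_mul] at this
    convert this using 1
    apply blk_congr
    · simp
    · simp
    · simp
  · left
    obtain ⟨θ, hθ⟩ := hF
    set d : GL (Fin (k + 1)) F := blk θ 0 1 with hd
    have hdX : d ∈ X := hN (isMono_blk_zero _ _ isMono_one_GL)
    set ψ : Fin k → F := (1 - (θ : F)) • (γ ᵥ* ((A⁻¹ : GL (Fin k) F) : Matrix (Fin k) (Fin k) F))
      with hψ
    have e : blk 1 ψ 1 * (d * blk lam γ A) = blk lam γ A * d := by
      rw [hd, blk_mul, blk_mul, blk_mul]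
      apply blk_congr
      · simp [mul_comm]
      · rw [hψ]
        simp only [Units.val_one, one_smul, Matrix.zero_vecMul, add_zero, one_mul, smul_zero,
          zero_add, Matrix.vecMul_one, Matrix.smul_vecMul, vecMul_inv_mul]
        rw [sub_smul, one_smul]
        abel
      · simp
    have hc : blk 1 ψ 1 ∈ X := by
      have : blk 1 ψ 1 = (blk lam γ A * d) * (d * blk lam γ A)⁻¹ := by
        rw [← e]
        group
      rw [this]
      exact X.mul_mem (X.mul_mem hX' hdX) (X.inv_mem (X.mul_mem hdX hX'))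
    rw [blk_one_rtv] at hc
    refine SL_le_of_rtv_GL ⟨θ, hθ⟩ X hN 0 _ _ ?_ hc
    intro e0
    apply hγ
    have hψ0 : ψ = 0 := by
      ext j
      have := congrFun e0 j.succ
      simpa using this
    have h1 : γ ᵥ* ((A⁻¹ : GL (Fin k) F) : Matrix (Fin k) (Fin k) F) = 0 := by
      rcases smul_eq_zero.mp hψ0 with e1 | e1
      · exfalso
        apply hθ
        apply Units.ext
        rw [Units.val_one]
        linear_combination -e1
      · exact e1
    rw [← vecMul_inv_mul γ A, h1, Matrix.zero_vecMul]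

/-- descent for subgroups of `SL` containing the monomial matrices of determinant one -/
theorem descent_SL (hk : 5 ≤ k) (hF : ∃ θ : Fˣ, θ ≠ 1) (X : Subgroup (GL (Fin (k + 1)) F))
    (hdet : ∀ x ∈ X, (x : Matrix (Fin (k + 1)) (Fin (k + 1)) F).det = 1)
    (hN : monoSL (Fin (k + 1)) F ≤ X)
    (hG : ∀ Y : Subgroup (GL (Fin k) F), monoSub (Fin k) F ≤ Y →
      (∃ y ∈ Y, ¬ IsMono (y : Matrix (Fin k) (Fin k) F)) → Cfsg.Geo.specialLinear (Fin k) F ≤ Y)
    (h : GL (Fin (k + 1)) F) (hX : h ∈ X)
    (hh : ¬ IsMono (h : Matrix (Fin (k + 1)) (Fin (k + 1)) F)) (l : Fin (k + 1))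
    (hcol : MonoCol (h : Matrix (Fin (k + 1)) (Fin (k + 1)) F) l) :
    Cfsg.Geo.specialLinear (Fin (k + 1)) F ≤ X := by
  obtain ⟨h', hX', hh', hcol'⟩ := exists_normal_form X hN h hX hh l hcol 0
  obtain ⟨lam, γ, A, rfl⟩ := exists_blk h' (fun j => hcol' _ (Fin.succ_ne_zero j))
  have hcard : 4 ≤ Fintype.card (Fin (k + 1)) := by
    rw [Fintype.card_fin]; omega
  have hmemN : ∀ ν : GL (Fin k) F, IsMono (ν : Matrix (Fin k) (Fin k) F) →
      blk (Matrix.GeneralLinearGroup.det ν)⁻¹ 0 ν ∈ X := by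
    intro ν hν
    apply hN
    rw [mem_monoSL]
    refine ⟨isMono_blk_zero _ _ hν, ?_⟩
    rw [det_blk, ← Matrix.GeneralLinearGroup.val_det_apply, ← Units.val_mul, inv_mul_cancel,
      Units.val_one]
  have himg : monoSub (Fin k) F ≤ imgSub X := fun ν hν => ⟨_, 0, hmemN ν hν⟩
  by_cases hA : IsMono (A : Matrix (Fin k) (Fin k) F)
  · set δ := Matrix.GeneralLinearGroup.det A with hδ
    have hNX := hmemN A hA
    have e : blk (lam * δ) (γ ᵥ* ((A⁻¹ : GL (Fin k) F) : Matrix (Fin k) (Fin k) F)) 1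
        * blk δ⁻¹ 0 A = blk lam γ A := by
      rw [blk_mul]
      apply blk_congr
      · rw [mul_inv_cancel_right]
      · rw [smul_zero, zero_add, vecMul_inv_mul]
      · rw [one_mul]
    have hc : blk (lam * δ) (γ ᵥ* ((A⁻¹ : GL (Fin k) F) : Matrix (Fin k) (Fin k) F)) 1 ∈ X := by
      have := X.mul_mem hX' (X.inv_mem hNX)
      rw [← e, mul_inv_cancel_right] at this
      exact this
    have hdet1 := hdet _ hc
    rw [det_blk, Units.val_one, Matrix.det_one, mul_one] at hdet1
    have h1 : lam * δ = 1 := Units.ext hdet1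
    rw [h1, blk_one_rtv] at hc
    refine SL_le_of_rtv hcard hF X hN 0 _ _ ?_ hc
    intro e0
    apply hh'
    have h2 : γ ᵥ* ((A⁻¹ : GL (Fin k) F) : Matrix (Fin k) (Fin k) F) = 0 := by
      ext j
      have := congrFun e0 j.succ
      simpa using this
    have hγ : γ = 0 := by rw [← vecMul_inv_mul γ A, h2, Matrix.zero_vecMul]
    subst hγ
    exact isMono_blk_zero lam A hA
  · have hAimg : A ∈ imgSub X := ⟨lam, γ, hX'⟩
    have hSL := hG (imgSub X) himg ⟨A, hAimg, hA⟩
    set a : Fin k := ⟨0, by omega⟩ with ha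
    set b : Fin k := ⟨1, by omega⟩ with hb
    have hab : a ≠ b := by
      intro e
      have := congrArg Fin.val e
      simp [ha, hb] at this
    have hE : etv a b hab (1 : F) ∈ Cfsg.Geo.specialLinear (Fin k) F := by
      rw [mem_SL, etv_val, Matrix.det_transvection_of_ne _ _ hab]
    obtain ⟨lam', γ', hy⟩ := hSL hE
    have hd1 := hdet _ hy
    rw [det_blk, etv_val, Matrix.det_transvection_of_ne _ _ hab, mul_one] at hd1
    have hl : lam' = 1 := Units.ext hd1
    subst hl
    have hyER : blk 1 γ' (etv a b hab (1 : F))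
        = etv a.succ b.succ (fun e => hab (Fin.succ_injective _ e)) (1 : F)
          * rtv 0 (Fin.cons (0 : F) γ' : Fin (k + 1) → F) (by simp) := by
      rw [← blk_etv, ← blk_one_rtv, blk_mul]
      apply blk_congr
      · simp
      · simp
      · simp
    by_cases hγ' : γ' = 0
    · subst hγ'
      rw [blk_etv] at hy
      unfold etv at hy
      refine SL_le_of_rtv hcard hF X hN _ _ _ ?_ hy
      intro e0
      have := congrFun e0 b.succ
      simp at this
    · obtain ⟨j, hj⟩ := Function.ne_iff.mp hγ'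
      obtain ⟨k', hk'a, hk'b, hk'j, -⟩ := exists_not_mem_four (ι := Fin k)
        (by rw [Fintype.card_fin]; exact hk) a b j j
      obtain ⟨θ, hθ⟩ := hF
      set t := t2 (0 : Fin (k + 1)) k'.succ θ⁻¹ with ht
      have h0k' : (0 : Fin (k + 1)) ≠ k'.succ := (Fin.succ_ne_zero k').symm
      have hd : dg t ∈ X := hN (t2_mem 0 k'.succ h0k' θ⁻¹)
      set E' := etv a.succ b.succ (fun e => hab (Fin.succ_injective _ e)) (1 : F) with hE'
      set R := rtv 0 (Fin.cons (0 : F) γ' : Fin (k + 1) → F) (by simp) with hR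
      have hER : E' * R ∈ X := by rw [← hyER]; exact hy
      have hta : t a.succ = 1 :=
        t2_other _ _ _ _ (Fin.succ_ne_zero a) (fun e => hk'a (Fin.succ_injective _ e).symm)
      have htb : t b.succ = 1 :=
        t2_other _ _ _ _ (Fin.succ_ne_zero b) (fun e => hk'b (Fin.succ_injective _ e).symm)
      have hconjE : dg t * E' * (dg t)⁻¹ = E' := by
        rw [hE']
        unfold dg
        rw [gpm_conj_etv]
        unfold etv
        apply Units.ext
        rw [rtv_val, rtv_val, hta, htb]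
        simp
      have hc : R⁻¹ * (dg t * R * (dg t)⁻¹) ∈ X := by
        have h1 := X.mul_mem (X.mul_mem hd hER) (X.inv_mem hd)
        have h2 := X.mul_mem (X.inv_mem hER) h1
        have e1 : (E' * R)⁻¹ * (dg t * (E' * R) * (dg t)⁻¹) = R⁻¹ * (dg t * R * (dg t)⁻¹) := by
          have e2 : dg t * (E' * R) * (dg t)⁻¹
              = (dg t * E' * (dg t)⁻¹) * (dg t * R * (dg t)⁻¹) := by group
          rw [e2, hconjE]
          group
        rwa [e1] at h2
      rw [hR, dg_conj_rtv, rtv_inv, rtv_mul] at hc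
      refine SL_le_of_rtv hcard ⟨θ, hθ⟩ X hN 0 _ _ ?_ hc
      intro e0
      have := congrFun e0 j.succ
      have ht0 : t 0 = θ⁻¹ := t2_a _ _ _
      have htj : t j.succ = 1 :=
        t2_other _ _ _ _ (Fin.succ_ne_zero j) (fun e => hk'j (Fin.succ_injective _ e).symm)
      rw [Pi.add_apply, Pi.neg_apply, ht0, htj] at this
      simp only [Fin.cons_succ, inv_one, Units.val_one, mul_one, Pi.zero_apply] at this
      have h3 : (((θ⁻¹ : Fˣ) : F) - 1) * γ' j = 0 := by linear_combination this
      rcases mul_eq_zero.mp h3 with e3 | e3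
      · apply hθ
        have : ((θ⁻¹ : Fˣ) : F) = 1 := by linear_combination e3
        have h4 : θ⁻¹ = 1 := Units.ext (by rw [this, Units.val_one])
        exact inv_eq_one.mp h4
      · exact hj e3

end Cfsg.Agent.Lib.Helper8.Mono
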