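import Mathlib
import Cfsg.Agent.Lib.Helper8.Mono11

set_option autoImplicit false
set_option linter.unusedVariables false
set_option linter.unusedSectionVars false
set_option linter.style.longLine false

/-! Monomial matrices (part 12): the two-dimensional base case. -/

namespace Cfsg.Agent.Lib.Helper8.Mono

open Matrix

variable {F : Type*} [Field F]

theorem det_ne_zero_GL {ι : Type} [Fintype ι] [DecidableEq ι] (B : GL ι F) :
    (B : Matrix ι ι F).det ≠ 0 :=
  ((Matrix.isUnit_iff_isUnit_det _).mp B.isUnit).ne_zero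

/-- an upper triangular, non-diagonal element yields an elementary transvection -/
theorem tri_etv (Y : Subgroup (GL (Fin 2) F)) (hN : monoSub (Fin 2) F ≤ Y) (B : GL (Fin 2) F)
    (hB : B ∈ Y) (h10 : (B : Matrix (Fin 2) (Fin 2) F) 1 0 = 0)
    (h01 : (B : Matrix (Fin 2) (Fin 2) F) 0 1 ≠ 0) :
    ∃ c : F, c ≠ 0 ∧ etv (0 : Fin 2) 1 (by decide) c ∈ Y := by
  have hdet := det_ne_zero_GL B
  rw [Matrix.det_fin_two, h10, mul_zero, sub_zero] at hdet
  have h00 : (B : Matrix (Fin 2) (Fin 2) F) 0 0 ≠ 0 := left_ne_zero_of_mul hdet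
  have h11 : (B : Matrix (Fin 2) (Fin 2) F) 1 1 ≠ 0 := right_ne_zero_of_mul hdet
  set d : Fin 2 → Fˣ := fun i => if i = 0 then Units.mk0 _ h00 else Units.mk0 _ h11 with hd
  have hdY : dg d ∈ Y := hN (dg_mem_monoSub d)
  refine ⟨(B : Matrix (Fin 2) (Fin 2) F) 0 1 / (B : Matrix (Fin 2) (Fin 2) F) 0 0,
    div_ne_zero h01 h00, ?_⟩
  have e : etv (0 : Fin 2) 1 (by decide)
      ((B : Matrix (Fin 2) (Fin 2) F) 0 1 / (B : Matrix (Fin 2) (Fin 2) F) 0 0) = (dg d)⁻¹ * B := by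
    apply Units.ext
    rw [etv_val, Units.val_mul, dg_inv, dg_val]
    ext i j
    rw [Matrix.diagonal_mul]
    fin_cases i <;> fin_cases j
    · simp [Matrix.transvection, hd, Matrix.single_apply]
      field_simp
    · simp [Matrix.transvection, hd, Matrix.single_apply]
      field_simp
    · simp [Matrix.transvection, hd, Matrix.single_apply, h10]
    · simp [Matrix.transvection, hd, Matrix.single_apply]
      field_simp
  rw [e]
  exact Y.mul_mem (Y.inv_mem hdY) hB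

/-- the swap as an element of `GL (Fin 2)` -/
def sw2 : GL (Fin 2) F := gpm (Equiv.swap (0 : Fin 2) 1) (fun _ => 1)

theorem sw2_mul_apply (B : GL (Fin 2) F) (i j : Fin 2) :
    ((sw2 * B : GL (Fin 2) F) : Matrix (Fin 2) (Fin 2) F) i j
      = (B : Matrix (Fin 2) (Fin 2) F) (Equiv.swap (0 : Fin 2) 1 i) j := by
  unfold sw2
  rw [gpm_mul_apply, Units.val_one, one_mul, Equiv.swap_inv]

theorem mul_sw2_apply (B : GL (Fin 2) F) (i j : Fin 2) :
    ((B * sw2 : GL (Fin 2) F) : Matrix (Fin 2) (Fin 2) F) i j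
      = (B : Matrix (Fin 2) (Fin 2) F) i (Equiv.swap (0 : Fin 2) 1 j) := by
  unfold sw2
  rw [mul_gpm_apply, Units.val_one, mul_one]

theorem sw2_mem : (sw2 : GL (Fin 2) F) ∈ monoSub (Fin 2) F := gpm_mem_monoSub _ _

theorem isMono_of_diag (B : Matrix (Fin 2) (Fin 2) F) (h10 : B 1 0 = 0) (h01 : B 0 1 = 0) :
    IsMono B := by
  intro j
  fin_cases j
  · refine ⟨0, fun i hi => ?_⟩
    fin_cases i
    · exact absurd rfl hi
    · exact h10
  · refine ⟨1, fun i hi => ?_⟩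
    fin_cases i
    · exact h01
    · exact absurd rfl hi

/-- a non-monomial element with the lower left entry zero -/
theorem etv_of_zero10 (Y : Subgroup (GL (Fin 2) F)) (hN : monoSub (Fin 2) F ≤ Y)
    (B : GL (Fin 2) F) (hB : B ∈ Y) (hBm : ¬ IsMono (B : Matrix (Fin 2) (Fin 2) F))
    (h10 : (B : Matrix (Fin 2) (Fin 2) F) 1 0 = 0) :
    ∃ c : F, c ≠ 0 ∧ etv (0 : Fin 2) 1 (by decide) c ∈ Y :=
  tri_etv Y hN B hB h10 (fun h01 => hBm (isMono_of_diag _ h10 h01))

theorem not_isMono_mul_left {ι : Type} [Fintype ι] [DecidableEq ι] (P B : GL ι F)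
    (hP : P ∈ monoSub ι F) (hB : ¬ IsMono (B : Matrix ι ι F)) :
    ¬ IsMono ((P * B : GL ι F) : Matrix ι ι F) := by
  intro hm
  apply hB
  have : B = P⁻¹ * (P * B) := by group
  have h2 : P⁻¹ * (P * B) ∈ monoSub ι F := (monoSub ι F).mul_mem ((monoSub ι F).inv_mem hP) hm
  rw [← this] at h2
  exact h2

theorem not_isMono_mul_right {ι : Type} [Fintype ι] [DecidableEq ι] (P B : GL ι F)
    (hP : P ∈ monoSub ι F) (hB : ¬ IsMono (B : Matrix ι ι F)) :
    ¬ IsMono ((B * P : GL ι F) : Matrix ι ι F) := by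
  intro hm
  apply hB
  have : B = (B * P) * P⁻¹ := by group
  have h2 : (B * P) * P⁻¹ ∈ monoSub ι F := (monoSub ι F).mul_mem hm ((monoSub ι F).inv_mem hP)
  rw [← this] at h2
  exact h2

/-- a non-monomial element with some zero entry -/
theorem etv_of_zero (Y : Subgroup (GL (Fin 2) F)) (hN : monoSub (Fin 2) F ≤ Y)
    (B : GL (Fin 2) F) (hB : B ∈ Y) (hBm : ¬ IsMono (B : Matrix (Fin 2) (Fin 2) F))
    (i j : Fin 2) (hij : (B : Matrix (Fin 2) (Fin 2) F) i j = 0) :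
    ∃ c : F, c ≠ 0 ∧ etv (0 : Fin 2) 1 (by decide) c ∈ Y := by
  have hs : (sw2 : GL (Fin 2) F) ∈ Y := hN sw2_mem
  fin_cases i <;> fin_cases j
  · -- zero at (0,0): sw2 * B has zero at (1,0)
    refine etv_of_zero10 Y hN (sw2 * B) (Y.mul_mem hs hB) (not_isMono_mul_left _ _ sw2_mem hBm) ?_
    rw [sw2_mul_apply]
    simpa using hij
  · -- zero at (0,1): sw2 * B * sw2
    refine etv_of_zero10 Y hN (sw2 * B * sw2) (Y.mul_mem (Y.mul_mem hs hB) hs)
      (not_isMono_mul_right _ _ sw2_mem (not_isMono_mul_left _ _ sw2_mem hBm)) ?_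
    rw [mul_sw2_apply, sw2_mul_apply]
    simpa using hij
  · exact etv_of_zero10 Y hN B hB hBm hij
  · refine etv_of_zero10 Y hN (B * sw2) (Y.mul_mem hB hs) (not_isMono_mul_right _ _ sw2_mem hBm) ?_
    rw [mul_sw2_apply]
    simpa using hij

/-- normal form of a matrix without zero entries -/
theorem exists_normal2 (Y : Subgroup (GL (Fin 2) F)) (hN : monoSub (Fin 2) F ≤ Y)
    (B : GL (Fin 2) F) (hB : B ∈ Y)
    (hnz : ∀ i j, (B : Matrix (Fin 2) (Fin 2) F) i j ≠ 0) :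
    ∃ a ∈ Y, ∃ lam : F, lam ≠ 0 ∧ lam ≠ 1 ∧
      (a : Matrix (Fin 2) (Fin 2) F) = !![1, 1; 1, lam] := by
  set b00 := (B : Matrix (Fin 2) (Fin 2) F) 0 0 with hb00
  set b01 := (B : Matrix (Fin 2) (Fin 2) F) 0 1 with hb01
  set b10 := (B : Matrix (Fin 2) (Fin 2) F) 1 0 with hb10
  set b11 := (B : Matrix (Fin 2) (Fin 2) F) 1 1 with hb11
  have h00 : b00 ≠ 0 := hnz 0 0
  have h01 : b01 ≠ 0 := hnz 0 1
  have h10 : b10 ≠ 0 := hnz 1 0
  have h11 : b11 ≠ 0 := hnz 1 1
  set r : Fin 2 → Fˣ := fun i => if i = 0 then Units.mk0 (1 / b00) (div_ne_zero one_ne_zero h00)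
    else Units.mk0 (1 / b10) (div_ne_zero one_ne_zero h10) with hr
  set c : Fin 2 → Fˣ := fun i => if i = 0 then 1
    else Units.mk0 (b00 / b01) (div_ne_zero h00 h01) with hc
  have hdet := det_ne_zero_GL B
  rw [Matrix.det_fin_two] at hdet
  refine ⟨dg r * B * dg c, Y.mul_mem (Y.mul_mem (hN (dg_mem_monoSub r)) hB) (hN (dg_mem_monoSub c)),
    b00 * b11 / (b01 * b10), div_ne_zero (mul_ne_zero h00 h11) (mul_ne_zero h01 h10), ?_, ?_⟩
  · intro e
    apply hdet
    rw [div_eq_one_iff_eq (mul_ne_zero h01 h10)] at e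
    rw [← hb00, ← hb01, ← hb10, ← hb11]
    linear_combination e
  · rw [Units.val_mul, Units.val_mul, dg_val, dg_val]
    ext i j
    rw [Matrix.mul_diagonal, Matrix.diagonal_mul]
    fin_cases i <;> fin_cases j
    · simp [hr, hc, ← hb00]
      field_simp
    · simp [hr, hc, ← hb01]
      field_simp
    · simp [hr, hc, ← hb10]
      field_simp
    · simp [hr, hc, ← hb11]
      field_simp

/-- the main computation: a word in `a` and diagonal matrices is upper triangular -/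
theorem g2_core (lam θ : F) (hθ0 : θ ≠ 0) (hθ1 : θ + 1 ≠ 0) (hθl : θ + lam ≠ 0) (hl0 : lam ≠ 0)
    (hl1 : lam ≠ 1) (hP : θ ^ 2 + (1 + lam) * θ + lam ^ 2 ≠ 0)
    (Y : Subgroup (GL (Fin 2) F)) (hN : monoSub (Fin 2) F ≤ Y) (a : GL (Fin 2) F) (ha : a ∈ Y)
    (hav : (a : Matrix (Fin 2) (Fin 2) F) = !![1, 1; 1, lam]) :
    ∃ c : F, c ≠ 0 ∧ etv (0 : Fin 2) 1 (by decide) c ∈ Y := by
  set θ' := -lam * (θ + lam) / (θ + 1) with hθ'
  have hθ'0 : θ' ≠ 0 := div_ne_zero (mul_ne_zero (neg_ne_zero.mpr hl0) hθl) hθ1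
  set D : GL (Fin 2) F := dg (fun i => if i = 0 then Units.mk0 θ hθ0 else 1) with hD
  set D' : GL (Fin 2) F := dg (fun i => if i = 0 then Units.mk0 θ' hθ'0 else 1) with hD'
  have hDY : D ∈ Y := hN (dg_mem_monoSub _)
  have hD'Y : D' ∈ Y := hN (dg_mem_monoSub _)
  set v := a * D' * a * D * a with hv
  have hvY : v ∈ Y := Y.mul_mem (Y.mul_mem (Y.mul_mem (Y.mul_mem ha hD'Y) ha) hDY) ha
  have hDv : (D : Matrix (Fin 2) (Fin 2) F) = !![θ, 0; 0, 1] := by
    rw [hD, dg_val]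
    ext i j
    fin_cases i <;> fin_cases j <;> simp
  have hD'v : (D' : Matrix (Fin 2) (Fin 2) F) = !![θ', 0; 0, 1] := by
    rw [hD', dg_val]
    ext i j
    fin_cases i <;> fin_cases j <;> simp
  have hvv : (v : Matrix (Fin 2) (Fin 2) F)
      = !![1, 1; 1, lam] * !![θ', 0; 0, 1] * !![1, 1; 1, lam] * !![θ, 0; 0, 1] * !![1, 1; 1, lam] := by
    rw [hv, Units.val_mul, Units.val_mul, Units.val_mul, Units.val_mul, hav, hDv, hD'v]
  refine tri_etv Y hN v hvY ?_ ?_
  · rw [hvv]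
    simp [Matrix.mul_apply, Fin.sum_univ_two]
    rw [hθ']
    field_simp
    ring
  · rw [hvv]
    simp [Matrix.mul_apply, Fin.sum_univ_two]
    rw [hθ']
    intro e
    apply hP
    have h1l : (1 : F) - lam ≠ 0 := fun e' => hl1 (by linear_combination -e')
    field_simp at e
    have : (1 - lam) * (θ ^ 2 + (1 + lam) * θ + lam ^ 2) = 0 := by linear_combination e
    rcases mul_eq_zero.mp this with e' | e'
    · exact absurd e' h1l
    · exact e'

end Cfsg.Agent.Lib.Helper8.Mono
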