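import Mathlib
import Cfsg.Agent.Lib.Helper8.Mono12

set_option autoImplicit false
set_option linter.unusedVariables false
set_option linter.unusedSectionVars false
set_option linter.style.longLine false

/-! Monomial matrices (part 13): base cases and the induction. -/

namespace Cfsg.Agent.Lib.Helper8.Mono

open Matrix

variable {F : Type*} [Field F]

/-- analysis of a non-monomial element in dimension two -/
theorem g2_analysis (Y : Subgroup (GL (Fin 2) F)) (hN : monoSub (Fin 2) F ≤ Y)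
    (A : GL (Fin 2) F) (hA : A ∈ Y) (hAm : ¬ IsMono (A : Matrix (Fin 2) (Fin 2) F)) :
    (∃ c : F, c ≠ 0 ∧ etv (0 : Fin 2) 1 (by decide) c ∈ Y) ∨
      ∃ a ∈ Y, ∃ lam : F, lam ≠ 0 ∧ lam ≠ 1 ∧
        (a : Matrix (Fin 2) (Fin 2) F) = !![1, 1; 1, lam] := by
  by_cases hz : ∃ i j, (A : Matrix (Fin 2) (Fin 2) F) i j = 0
  · obtain ⟨i, j, hij⟩ := hz
    exact Or.inl (etv_of_zero Y hN A hA hAm i j hij)
  · push Not at hz
    exact Or.inr (exists_normal2 Y hN A hA hz)

/-- large fields: a good parameter exists -/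
theorem exists_theta [Fintype F] (hq : 6 ≤ Fintype.card F) (lam : F) (hl0 : lam ≠ 0)
    (hl1 : lam ≠ 1) :
    ∃ θ : F, θ ≠ 0 ∧ θ + 1 ≠ 0 ∧ θ + lam ≠ 0 ∧ θ ^ 2 + (1 + lam) * θ + lam ^ 2 ≠ 0 := by
  classical
  set T : Finset F := Finset.univ \ {0, -1, -lam} with hT
  have hcard : 2 < T.card := by
    have h1 : ({0, -1, -lam} : Finset F).card ≤ 3 := Finset.card_le_three
    have h2 := Finset.card_sdiff_add_card_eq_card (Finset.subset_univ ({0, -1, -lam} : Finset F))
    rw [Finset.card_univ] at h2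
    rw [hT]
    omega
  obtain ⟨θ₁, h1, θ₂, h2, θ₃, h3, h12, h13, h23⟩ := Finset.two_lt_card.mp hcard
  have hmem : ∀ θ ∈ T, θ ≠ 0 ∧ θ + 1 ≠ 0 ∧ θ + lam ≠ 0 := by
    intro θ hθ
    rw [hT, Finset.mem_sdiff] at hθ
    have := hθ.2
    simp only [Finset.mem_insert, Finset.mem_singleton, not_or] at this
    refine ⟨this.1, fun e => this.2.1 (by linear_combination e),
      fun e => this.2.2 (by linear_combination e)⟩
  by_cases hP1 : θ₁ ^ 2 + (1 + lam) * θ₁ + lam ^ 2 = 0
  · by_cases hP2 : θ₂ ^ 2 + (1 + lam) * θ₂ + lam ^ 2 = 0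
    · by_cases hP3 : θ₃ ^ 2 + (1 + lam) * θ₃ + lam ^ 2 = 0
      · exfalso
        have e1 : (θ₁ - θ₂) * (θ₁ + θ₂ + 1 + lam) = 0 := by linear_combination hP1 - hP2
        have e2 : (θ₁ - θ₃) * (θ₁ + θ₃ + 1 + lam) = 0 := by linear_combination hP1 - hP3
        have f1 : θ₁ + θ₂ + 1 + lam = 0 := by
          rcases mul_eq_zero.mp e1 with e | e
          · exact absurd (sub_eq_zero.mp e) h12
          · exact e
        have f2 : θ₁ + θ₃ + 1 + lam = 0 := by
          rcases mul_eq_zero.mp e2 with e | e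
          · exact absurd (sub_eq_zero.mp e) h13
          · exact e
        exact h23 (by linear_combination f1 - f2)
      · exact ⟨θ₃, (hmem θ₃ h3).1, (hmem θ₃ h3).2.1, (hmem θ₃ h3).2.2, hP3⟩
    · exact ⟨θ₂, (hmem θ₂ h2).1, (hmem θ₂ h2).2.1, (hmem θ₂ h2).2.2, hP2⟩
  · exact ⟨θ₁, (hmem θ₁ h1).1, (hmem θ₁ h1).2.1, (hmem θ₁ h1).2.2, hP1⟩

/-- the field with five elements: a good parameter exists unless `lam = -1` -/
theorem exists_theta_five [Fintype F] (hq : Fintype.card F = 5) (lam : F) (hl0 : lam ≠ 0)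
    (hl1 : lam ≠ 1) (hlm : lam ≠ -1) :
    ∃ θ : F, θ ≠ 0 ∧ θ + 1 ≠ 0 ∧ θ + lam ≠ 0 ∧ θ ^ 2 + (1 + lam) * θ + lam ^ 2 ≠ 0 := by
  have h5 : (5 : F) = 0 := by
    have := Nat.cast_card_eq_zero F
    rw [hq] at this
    exact_mod_cast this
  have h2 := two_ne_zero_of_five h5
  have h3 := three_ne_zero_of_five h5
  have h4 : lam ^ 4 = 1 := by
    have := FiniteField.pow_card_sub_one_eq_one lam hl0
    rwa [hq] at this
  have hprod : (lam - 1) * (lam + 1) * ((lam - 2) * (lam + 2)) = 0 := by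
    linear_combination h4 + (1 - lam ^ 2) * h5
  have hcases : lam = 2 ∨ lam = -2 := by
    rcases mul_eq_zero.mp hprod with e | e
    · rcases mul_eq_zero.mp e with e' | e'
      · exact absurd (sub_eq_zero.mp e') hl1
      · exact absurd (by linear_combination e') hlm
    · rcases mul_eq_zero.mp e with e' | e'
      · exact Or.inl (by linear_combination e')
      · exact Or.inr (by linear_combination e')
  refine ⟨1, one_ne_zero, ?_, ?_, ?_⟩
  · intro e
    exact h2 (by linear_combination e)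
  · rcases hcases with e | e
    · rw [e]
      intro e'
      exact h3 (by linear_combination e')
    · rw [e]
      intro e'
      exact one_ne_zero (by linear_combination -e')
  · rcases hcases with e | e
    · rw [e]
      intro e'
      exact h3 (by linear_combination e' - h5)
    · rw [e]
      intro e'
      have : (4 : F) = 0 := by linear_combination e'
      exact one_ne_zero (by linear_combination h5 - this)

/-- the inductive statement -/
def GProp (F : Type*) [Field F] (k : ℕ) : Prop :=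
  ∀ X : Subgroup (GL (Fin k) F), monoSub (Fin k) F ≤ X →
    (∃ g ∈ X, ¬ IsMono (g : Matrix (Fin k) (Fin k) F)) → Cfsg.Geo.specialLinear (Fin k) F ≤ X

theorem G2 [Fintype F] (hq : 6 ≤ Fintype.card F) : GProp F 2 := by
  intro Y hN ⟨A, hA, hAm⟩
  have hetv : ∃ c : F, c ≠ 0 ∧ etv (0 : Fin 2) 1 (by decide) c ∈ Y := by
    rcases g2_analysis Y hN A hA hAm with h | ⟨a, ha, lam, hl0, hl1, hav⟩
    · exact h
    · obtain ⟨θ, hθ0, hθ1, hθl, hP⟩ := exists_theta hq lam hl0 hl1
      exact g2_core lam θ hθ0 hθ1 hθl hl0 hl1 hP Y hN a ha hav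
  obtain ⟨c, hc, hcY⟩ := hetv
  exact SL_le_of_etv_GL Y hN 0 1 (by decide) c hc hcY

end Cfsg.Agent.Lib.Helper8.Mono
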