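import Mathlib
import Cfsg.Agent.Lib.Helper8.Mono13

set_option autoImplicit false
set_option linter.unusedVariables false
set_option linter.unusedSectionVars false
set_option linter.style.longLine false

/-! Monomial matrices (part 14): the three-dimensional base case over the field with five
elements, the induction, and the main theorem for the monomial group. -/

namespace Cfsg.Agent.Lib.Helper8.Mono

open Matrix

variable {F : Type*} [Field F]

def yZ : Matrix (Fin 3) (Fin 3) ℤ := !![1, 0, 0; 0, 1, 1; 0, 1, -1]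
def cZ : Matrix (Fin 3) (Fin 3) ℤ := !![0, 0, 1; 1, 0, 0; 0, 1, 0]
def dZ : Matrix (Fin 3) (Fin 3) ℤ := !![2, 0, 0; 0, 1, 0; 0, 0, 1]
def sZ : Matrix (Fin 3) (Fin 3) ℤ := !![0, 1, 0; 1, 0, 0; 0, 0, 1]

set_option maxRecDepth 100000 in
theorem wordZ : yZ * cZ * dZ * sZ * yZ * cZ * yZ * cZ * dZ * yZ * cZ * yZ * sZ * yZ
    = !![-4, 0, 0; 5, -4, 10; 3, 4, 6] := by
  decide

/-- the explicit word: over the field with five elements, the monomial matrices together with
`1 ⊕ [[1,1],[1,-1]]` generate a row transvection -/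
theorem word_five (h5 : (5 : F) = 0) (X : Subgroup (GL (Fin 3) F)) (hN : monoSub (Fin 3) F ≤ X)
    (a₀ : GL (Fin 2) F) (ha₀ : (a₀ : Matrix (Fin 2) (Fin 2) F) = !![1, 1; 1, -1])
    (hy : blk 1 0 a₀ ∈ X) (hφ : (![3, 4, 0] : Fin 3 → F) 2 = 0) :
    rtv (2 : Fin 3) ![3, 4, 0] hφ ∈ X := by
  have h2 := two_ne_zero_of_five h5
  set f := Int.castRingHom F with hf
  set y := blk 1 0 a₀ with hyd
  set c : GL (Fin 3) F := gpm (Equiv.swap (0 : Fin 3) 1 * Equiv.swap (1 : Fin 3) 2) (fun _ => 1) with hc
  set d : GL (Fin 3) F := dg (d1 (0 : Fin 3) (Units.mk0 2 h2)) with hd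
  set s : GL (Fin 3) F := gpm (Equiv.swap (0 : Fin 3) 1) (fun _ => 1) with hs
  have hcX : c ∈ X := hN (gpm_mem_monoSub _ _)
  have hdX : d ∈ X := hN (dg_mem_monoSub _)
  have hsX : s ∈ X := hN (gpm_mem_monoSub _ _)
  have hyv : (y : Matrix (Fin 3) (Fin 3) F) = yZ.map f := by
    rw [hyd, blk_val, ha₀]
    ext i j
    fin_cases i <;> fin_cases j <;> simp [yZ, hf] <;> rfl
  have hcv : (c : Matrix (Fin 3) (Fin 3) F) = cZ.map f := by
    rw [hc]
    ext i j
    rw [gpm_apply]
    fin_cases i <;> fin_cases j <;> simp [cZ, hf, Equiv.swap_apply_def]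
  have hdv : (d : Matrix (Fin 3) (Fin 3) F) = dZ.map f := by
    rw [hd, dg_val]
    ext i j
    fin_cases i <;> fin_cases j <;> simp [dZ, hf, d1]
  have hsv : (s : Matrix (Fin 3) (Fin 3) F) = sZ.map f := by
    rw [hs]
    ext i j
    rw [gpm_apply]
    fin_cases i <;> fin_cases j <;> simp [sZ, hf, Equiv.swap_apply_def]
  have hW : y * c * d * s * y * c * y * c * d * y * c * y * s * y ∈ X := by
    repeat (first | exact hy | exact hcX | exact hdX | exact hsX | apply X.mul_mem)
  have e : rtv (2 : Fin 3) ![3, 4, 0] hφ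
      = y * c * d * s * y * c * y * c * d * y * c * y * s * y := by
    apply Units.ext
    simp only [Units.val_mul]
    rw [hyv, hcv, hdv, hsv]
    simp only [← Matrix.map_mul]
    rw [wordZ, rtv_val]
    ext i j
    fin_cases i <;> fin_cases j <;> simp [rowMat_apply, hf]
    · linear_combination h5
    · linear_combination -h5
    · linear_combination h5
    · linear_combination (-2) * h5
    · linear_combination -h5
  rw [e]
  exact hW

theorem comap_emb1_mono {k : ℕ} (X : Subgroup (GL (Fin (k + 1)) F))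
    (hN : monoSub (Fin (k + 1)) F ≤ X) : monoSub (Fin k) F ≤ X.comap emb1 := by
  intro ν hν
  rw [Subgroup.mem_comap, emb1_apply]
  exact hN (isMono_blk_zero 1 ν hν)

theorem exists_unit_ne_one [Fintype F] (hq : 3 ≤ Fintype.card F) : ∃ θ : Fˣ, θ ≠ 1 := by
  classical
  obtain ⟨x, hx⟩ := exists_avoid ({0, 1} : Finset F) (by
    have : ({0, 1} : Finset F).card ≤ 2 := Finset.card_le_two
    omega)
  simp only [Finset.mem_insert, Finset.mem_singleton, not_or] at hx
  refine ⟨Units.mk0 x hx.1, fun e => hx.2 ?_⟩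
  have := congrArg Units.val e
  simpa using this

theorem G3_five [Fintype F] (hq : Fintype.card F = 5) : GProp F 3 := by
  intro X hN ⟨g, hg, hgm⟩
  have h5 : (5 : F) = 0 := by
    have := Nat.cast_card_eq_zero F
    rw [hq] at this
    exact_mod_cast this
  have h3 := three_ne_zero_of_five h5
  have hF : ∃ θ : Fˣ, θ ≠ 1 := exists_unit_ne_one (by omega)
  by_cases hCN : CN X
  · exact (cruxGL (by omega) (by rw [Fintype.card_fin]) X hN hCN g hg hgm).elim
  · unfold CN at hCN
    push Not at hCN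
    obtain ⟨h, hX, l, hcol, hh⟩ := hCN
    rcases descent_GL hF X hN h hX hh l hcol with hSL | ⟨A, hAm, hA⟩
    · exact hSL
    · set Y := X.comap (emb1 (k := 2) (F := F)) with hY
      have hNY : monoSub (Fin 2) F ≤ Y := comap_emb1_mono X hN
      have hAY : A ∈ Y := hA
      have key : (∃ c : F, c ≠ 0 ∧ etv (0 : Fin 2) 1 (by decide) c ∈ Y) ∨
          ∃ a ∈ Y, (a : Matrix (Fin 2) (Fin 2) F) = !![1, 1; 1, -1] := by
        rcases g2_analysis Y hNY A hAY hAm with h | ⟨a, ha, lam, hl0, hl1, hav⟩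
        · exact Or.inl h
        · by_cases hlm : lam = -1
          · subst hlm
            exact Or.inr ⟨a, ha, hav⟩
          · obtain ⟨θ, hθ0, hθ1, hθl, hP⟩ := exists_theta_five hq lam hl0 hl1 hlm
            exact Or.inl (g2_core lam θ hθ0 hθ1 hθl hl0 hl1 hP Y hNY a ha hav)
      rcases key with ⟨c, hc, hcY⟩ | ⟨a, ha, hav⟩
      · have hcX : emb1 (etv (0 : Fin 2) 1 (by decide) c) ∈ X := hcY
        rw [emb1_apply, blk_etv] at hcX
        exact SL_le_of_etv_GL X hN _ _ _ c hc hcX
      · have hy : blk 1 0 a ∈ X := ha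
        have hw := word_five h5 X hN a hav hy (by simp)
        refine SL_le_of_rtv_GL hF X hN 2 _ _ ?_ hw
        intro e
        have := congrFun e 0
        simp at this
        exact h3 this

theorem G_step [Fintype F] (hq : 5 ≤ Fintype.card F) (k : ℕ) (hk : 2 ≤ k) (hG : GProp F k) :
    GProp F (k + 1) := by
  intro X hN ⟨g, hg, hgm⟩
  have hF : ∃ θ : Fˣ, θ ≠ 1 := exists_unit_ne_one (by omega)
  by_cases hCN : CN X
  · exact (cruxGL hq (by rw [Fintype.card_fin]; omega) X hN hCN g hg hgm).elim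
  · unfold CN at hCN
    push Not at hCN
    obtain ⟨h, hX, l, hcol, hh⟩ := hCN
    rcases descent_GL hF X hN h hX hh l hcol with hSL | ⟨A, hAm, hA⟩
    · exact hSL
    · have hSLk := hG (X.comap emb1) (comap_emb1_mono X hN) ⟨A, hA, hAm⟩
      set a : Fin k := ⟨0, by omega⟩ with ha
      set b : Fin k := ⟨1, by omega⟩ with hb
      have hab : a ≠ b := by
        intro e
        have := congrArg Fin.val e
        simp [ha, hb] at this
      have hE : etv a b hab (1 : F) ∈ Cfsg.Geo.specialLinear (Fin k) F := by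
        rw [mem_SL, etv_val, Matrix.det_transvection_of_ne _ _ hab]
      have := hSLk hE
      rw [Subgroup.mem_comap, emb1_apply, blk_etv] at this
      exact SL_le_of_etv_GL X hN _ _ _ 1 one_ne_zero this

theorem G_all [Fintype F] (hq : 5 ≤ Fintype.card F) : ∀ k, 3 ≤ k → GProp F k := by
  intro k hk
  induction k, hk using Nat.le_induction with
  | base =>
    by_cases h5 : Fintype.card F = 5
    · exact G3_five h5
    · exact G_step hq 2 le_rfl (G2 (by omega))
  | succ k hk ih => exact G_step hq k (by omega) ih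

/-- **Main theorem for the monomial group**: over a field with at least five elements, a subgroup
of `SL_n` (`n ≥ 10`) containing the monomial matrices of determinant one and a non-monomial matrix
is the whole special linear group. -/
theorem mono_main [Fintype F] (hq : 5 ≤ Fintype.card F) (n : ℕ) (hn : 10 ≤ n)
    (X : Subgroup (GL (Fin n) F))
    (hdet : ∀ x ∈ X, (x : Matrix (Fin n) (Fin n) F).det = 1) (hN : monoSL (Fin n) F ≤ X)
    (g : GL (Fin n) F) (hg : g ∈ X) (hgm : ¬ IsMono (g : Matrix (Fin n) (Fin n) F)) :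
    Cfsg.Geo.specialLinear (Fin n) F ≤ X := by
  obtain ⟨k, rfl⟩ : ∃ k, n = k + 1 := ⟨n - 1, by omega⟩
  have hF : ∃ θ : Fˣ, θ ≠ 1 := exists_unit_ne_one (by omega)
  by_cases hCN : CN X
  · exact (cruxSL hq (by rw [Fintype.card_fin]; omega) X hN hCN g hg hgm).elim
  · unfold CN at hCN
    push Not at hCN
    obtain ⟨h, hX, l, hcol, hh⟩ := hCN
    exact descent_SL (by omega) hF X hdet hN (G_all hq k (by omega)) h hX hh l hcol

end Cfsg.Agent.Lib.Helper8.Mono
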