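import Mathlib
import Cfsg.Prelude.Def_GeometricClasses
import Cfsg.Agent.Lib.Helper8.Dtr1
import Cfsg.Agent.Lib.Helper8.Mono14
import Cfsg.Agent.Lib.Helper8.Bmo6

set_option autoImplicit false
set_option linter.unusedVariables false
set_option linter.unusedSectionVars false
set_option linter.style.longLine false

/-! The stabiliser of a decomposition is maximal in the special linear group. -/

namespace Cfsg.Agent.Lib.Helper8.Dtr

open Matrix Cfsg.Agent.Lib.Helper8.Mono Cfsg.Agent.Lib.Helper8.Bmo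

variable {F : Type*} [Field F] {n : ℕ}

section basis

variable {t m : ℕ} {D : Fin t → Submodule F (Fin n → F)}
  (hD : Cfsg.Geo.IsMDecomposition m D)

include hD in
theorem isInternal' : DirectSum.IsInternal D :=
  DirectSum.isInternal_submodule_of_iSupIndep_of_iSup_eq_top hD.indep hD.iSup_eq_top

/-- a basis adapted to the decomposition -/
noncomputable def adBasis : Module.Basis (Fin t × Fin m) F (Fin n → F) :=
  ((isInternal' hD).collectedBasis
    (fun i => Module.finBasisOfFinrankEq F (D i) (hD.finrank_eq i))).reindex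
      (Equiv.sigmaEquivProd (Fin t) (Fin m))

theorem adBasis_mem (a : Fin t × Fin m) : adBasis hD a ∈ D a.1 := by
  unfold adBasis
  rw [Module.Basis.reindex_apply]
  exact (isInternal' hD).collectedBasis_mem _ ((Equiv.sigmaEquivProd (Fin t) (Fin m)).symm a)

theorem adBasis_repr {x : Fin n → F} {i : Fin t} (hx : x ∈ D i) (a : Fin t × Fin m)
    (ha : a.1 ≠ i) : (adBasis hD).repr x a = 0 := by
  unfold adBasis
  rw [Module.Basis.repr_reindex_apply]
  obtain ⟨j, k⟩ := a
  exact (isInternal' hD).collectedBasis_repr_of_mem_ne _ (fun h => ha h.symm) hx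

include hD in
theorem card_eq' : t * m = n := by
  have h1 := Module.finrank_eq_card_basis (adBasis hD)
  rw [Module.finrank_fintype_fun_eq_card, Fintype.card_fin, Fintype.card_prod, Fintype.card_fin,
    Fintype.card_fin] at h1
  exact h1.symm

end basis

section assembly

variable {ι : Type} [Fintype ι] [DecidableEq ι] {t m : ℕ} {D : Fin t → Submodule F (Fin n → F)}

/-- the general assembly: maximality follows from the theorem in coordinates -/
theorem maximal_of_main (hD : Cfsg.Geo.IsMDecomposition m D) (b : Module.Basis ι F (Fin n → F))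
    (p : ι → Fin t) (hmem : ∀ a, b a ∈ D (p a))
    (hrepr : ∀ k, ∀ v ∈ D k, ∀ a, p a ≠ k → b.repr v a = 0)
    (hmain : ∀ X : Subgroup (GL ι F),
      (∀ g' : GL ι F, IsBMp p (g' : Matrix ι ι F) → (g' : Matrix ι ι F).det = 1 → g' ∈ X) →
      (∀ x ∈ X, (x : Matrix ι ι F).det = 1) →
      (∃ g' ∈ X, ¬ IsBMp p (g' : Matrix ι ι F)) → Cfsg.Geo.specialLinear ι F ≤ X)
    (hprop : ∃ g' : GL ι F, (g' : Matrix ι ι F).det = 1 ∧ ¬ IsBMp p (g' : Matrix ι ι F)) :
    Cfsg.Geo.IsMaximalIn (Cfsg.Geo.specialLinear (Fin n) F)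
      (Cfsg.Geo.decompositionStabilizer D ⊓ Cfsg.Geo.specialLinear (Fin n) F) := by
  set Φ := coordGL (ι := ι) b with hΦ
  have hstab : ∀ g : GL (Fin n) F, g ∈ Cfsg.Geo.decompositionStabilizer D ↔
      IsBMp p ((Φ g : GL ι F) : Matrix ι ι F) := mem_stab_iff hD b p hmem hrepr
  have hSL : ∀ g : GL (Fin n) F, g ∈ Cfsg.Geo.specialLinear (Fin n) F ↔
      ((Φ g : GL ι F) : Matrix ι ι F).det = 1 := mem_SL_iff b
  refine ⟨lt_of_le_of_ne inf_le_right ?_, ?_⟩
  · intro heq
    obtain ⟨g', hdet, hnb⟩ := hprop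
    have h1 : Φ.symm g' ∈ Cfsg.Geo.specialLinear (Fin n) F := by
      rw [hSL, MulEquiv.apply_symm_apply]
      exact hdet
    rw [← heq] at h1
    have h2 := (hstab _).mp h1.1
    rw [MulEquiv.apply_symm_apply] at h2
    exact hnb h2
  · intro M hHM hMK
    by_cases hMH : M ≤ Cfsg.Geo.decompositionStabilizer D ⊓ Cfsg.Geo.specialLinear (Fin n) F
    · exact Or.inl (le_antisymm hMH hHM)
    · right
      apply le_antisymm hMK
      obtain ⟨g, hgM, hgH⟩ := SetLike.not_le_iff_exists.mp hMH
      have hgS : g ∉ Cfsg.Geo.decompositionStabilizer D := fun h => hgH ⟨h, hMK hgM⟩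
      set X : Subgroup (GL ι F) := M.map Φ.toMonoidHom with hX
      have hXmem : ∀ x : GL (Fin n) F, x ∈ M → Φ x ∈ X := fun x hx => ⟨x, hx, rfl⟩
      have h1 : ∀ g' : GL ι F, IsBMp p (g' : Matrix ι ι F) → (g' : Matrix ι ι F).det = 1 →
          g' ∈ X := by
        intro g' hb hd
        have : Φ.symm g' ∈ M := by
          apply hHM
          refine ⟨(hstab _).mpr ?_, (hSL _).mpr ?_⟩
          · rw [MulEquiv.apply_symm_apply]; exact hb
          · rw [MulEquiv.apply_symm_apply]; exact hd
        have := hXmem _ this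
        rwa [MulEquiv.apply_symm_apply] at this
      have h2 : ∀ x ∈ X, (x : Matrix ι ι F).det = 1 := by
        rintro _ ⟨x, hx, rfl⟩
        exact (hSL x).mp (hMK hx)
      have h3 : ∃ g' ∈ X, ¬ IsBMp p (g' : Matrix ι ι F) :=
        ⟨Φ g, hXmem g hgM, fun hb => hgS ((hstab g).mpr hb)⟩
      have hSLX := hmain X h1 h2 h3
      intro k hk
      have : Φ k ∈ X := hSLX (mem_SL.mpr ((hSL k).mp hk))
      obtain ⟨x, hx, hxe⟩ := this
      have : x = k := Φ.injective hxe
      rw [← this]
      exact hx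

end assembly

end Cfsg.Agent.Lib.Helper8.Dtr
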