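import Mathlib
import Cfsg.Agent.Lib.Helper8.Dtr2

set_option autoImplicit false
set_option linter.unusedVariables false
set_option linter.unusedSectionVars false
set_option linter.style.longLine false

/-! The stabiliser of a decomposition is maximal in the special linear group: final assembly. -/

namespace Cfsg.Agent.Lib.Helper8.Dtr

open Matrix Cfsg.Agent.Lib.Helper8.Mono Cfsg.Agent.Lib.Helper8.Bmo

variable {F : Type*} [Field F] {n : ℕ}

theorem det_etv {ι : Type} [Fintype ι] [DecidableEq ι] (a c : ι) (h : a ≠ c) (x : F) :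
    ((etv a c h x : GL ι F) : Matrix ι ι F).det = 1 := by
  rw [etv_val, Matrix.det_transvection_of_ne _ _ h]

theorem not_isBMp_etv {ι I : Type} [Fintype ι] [DecidableEq ι] (p : ι → I) (a c : ι)
    (hac : p a ≠ p c) (h : a ≠ c) :
    ¬ IsBMp p ((etv a c h (1 : F) : GL ι F) : Matrix ι ι F) := by
  rintro ⟨σ, hσ⟩
  have e1 : ((etv a c h (1 : F) : GL ι F) : Matrix ι ι F) a c ≠ 0 := by
    rw [etv_val, Matrix.transvection, Matrix.add_apply, Matrix.one_apply_ne h, zero_add,
      Matrix.single_apply_same]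
    exact one_ne_zero
  have e2 : ((etv a c h (1 : F) : GL ι F) : Matrix ι ι F) c c ≠ 0 := by
    rw [etv_val, Matrix.transvection, Matrix.add_apply, Matrix.one_apply_eq,
      Matrix.single_apply_of_row_ne h]
    simp
  exact hac ((hσ a c e1).trans (hσ c c e2).symm)

section final

variable {t m : ℕ} {D : Fin t → Submodule F (Fin n → F)}

/-- blocks of dimension at least two -/
theorem max_blocks (hD : Cfsg.Geo.IsMDecomposition m D) (hm : 2 ≤ m)
    (hcase : 3 ≤ m ∨ (3 ≤ t ∧ ∃ μ : Fˣ, μ ≠ 1)) :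
    Cfsg.Geo.IsMaximalIn (Cfsg.Geo.specialLinear (Fin n) F)
      (Cfsg.Geo.decompositionStabilizer D ⊓ Cfsg.Geo.specialLinear (Fin n) F) := by
  apply maximal_of_main hD (adBasis hD) Prod.fst (adBasis_mem hD)
    (fun k v hv a ha => adBasis_repr hD hv a ha)
  · intro X h1 h2 ⟨g', hg', hnb⟩
    refine bm_main X h1 (by rw [Fintype.card_fin]; exact hm) ?_ g' hg' hnb
    rw [Fintype.card_fin, Fintype.card_fin]
    exact hcase
  · have ht := hD.two_le
    have hne : (((⟨0, by omega⟩ : Fin t), (⟨0, by omega⟩ : Fin m)) : Fin t × Fin m)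
        ≠ ((⟨1, by omega⟩ : Fin t), (⟨0, by omega⟩ : Fin m)) := by
      intro e
      have := congrArg (fun z => (z.1 : ℕ)) e
      simp at this
    refine ⟨etv _ _ hne 1, det_etv _ _ hne 1, not_isBMp_etv Prod.fst _ _ ?_ hne⟩
    intro e
    have := congrArg (fun z : Fin t => (z : ℕ)) e
    simp at this

end final

/-- blocks of dimension one -/
theorem max_lines [Fintype F] (hq : 5 ≤ Fintype.card F) {t : ℕ} (hn : 10 ≤ n)
    {D : Fin t → Submodule F (Fin n → F)} (hD : Cfsg.Geo.IsMDecomposition 1 D) :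
    Cfsg.Geo.IsMaximalIn (Cfsg.Geo.specialLinear (Fin n) F)
      (Cfsg.Geo.decompositionStabilizer D ⊓ Cfsg.Geo.specialLinear (Fin n) F) := by
  obtain rfl : t = n := by
    have := card_eq' hD
    omega
  set e : Fin t × Fin 1 ≃ Fin t := Equiv.prodUnique (Fin t) (Fin 1) with he
  set b := (adBasis hD).reindex e with hb
  have hmem : ∀ a, b a ∈ D (id a) := by
    intro a
    rw [hb, Module.Basis.reindex_apply]
    have := adBasis_mem hD (e.symm a)
    rwa [he, Equiv.prodUnique_symm_apply] at this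
  have hrepr : ∀ k, ∀ v ∈ D k, ∀ a, id a ≠ k → b.repr v a = 0 := by
    intro k v hv a ha
    rw [hb, Module.Basis.repr_reindex_apply]
    apply adBasis_repr hD hv
    rw [he, Equiv.prodUnique_symm_apply]
    exact ha
  have hiff1 : ∀ g' : Matrix (Fin t) (Fin t) F, IsBMp (id : Fin t → Fin t) g' → IsMono g' := by
    rintro g' ⟨σ, hσ⟩ c
    refine ⟨σ c, fun a ha => ?_⟩
    by_contra hne
    exact ha (hσ a c hne)
  have hiff2 : ∀ g' : GL (Fin t) F, IsMono (g' : Matrix (Fin t) (Fin t) F) →
      IsBMp (id : Fin t → Fin t) (g' : Matrix (Fin t) (Fin t) F) := by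
    intro g' hg'
    obtain ⟨σ, d, rfl⟩ := eq_gpm_of_isMono g' hg'
    refine ⟨σ, fun a c hac => ?_⟩
    rw [gpm_apply] at hac
    by_contra hne
    exact hac (if_neg hne)
  apply maximal_of_main hD b id hmem hrepr
  · intro X h1 h2 ⟨g', hg', hnb⟩
    refine mono_main hq t hn X h2 ?_ g' hg' (fun hm => hnb (hiff2 g' hm))
    intro x hx
    rw [mem_monoSL] at hx
    exact h1 x (hiff2 x hx.1) hx.2
  · have hne : (⟨0, by omega⟩ : Fin t) ≠ ⟨1, by omega⟩ := by
      intro e'
      have := congrArg (fun z : Fin t => (z : ℕ)) e'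
      simp at this
    exact ⟨etv _ _ hne 1, det_etv _ _ hne 1, not_isBMp_etv id _ _ hne hne⟩

/-- **The stabiliser of a decomposition is maximal in the special linear group.** -/
theorem decomposition_stabilizer_maximal [Fintype F] (hn : 13 ≤ n) {t : ℕ} (m : ℕ)
    (D : Fin t → Submodule F (Fin n → F)) (hD : Cfsg.Geo.IsMDecomposition m D)
    (h1 : ¬ (m = 1 ∧ Fintype.card F ≤ 4)) (h2 : ¬ (m = 2 ∧ Fintype.card F = 2)) :
    Cfsg.Geo.IsMaximalIn (Cfsg.Geo.specialLinear (Fin n) F)
      (Cfsg.Geo.decompositionStabilizer D ⊓ Cfsg.Geo.specialLinear (Fin n) F) := by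
  have hpos := hD.pos
  by_cases hm1 : m = 1
  · subst hm1
    have hq : 5 ≤ Fintype.card F := by
      by_contra hlt
      exact h1 ⟨rfl, by omega⟩
    exact max_lines hq (by omega) hD
  · have hm : 2 ≤ m := by omega
    apply max_blocks hD hm
    by_cases hm2 : m = 2
    · right
      have hcard := card_eq' hD
      refine ⟨by subst hm2; omega, ?_⟩
      apply exists_unit_ne_one
      have h1lt : 1 < Fintype.card F := Fintype.one_lt_card
      by_contra hlt
      exact h2 ⟨hm2, by omega⟩
    · left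
      omega

end Cfsg.Agent.Lib.Helper8.Dtr
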