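import Mathlib

set_option autoImplicit false

/-!
Farm E6M2 (statement S2341): the arithmetic of the final assembly (unit ASM2).
-/

namespace Cfsg.Agent.Lib.Helper8.E6M2

theorem asm2_sub (m : ℕ) : (m + 2) ^ 6 - (m + 2) ^ 3 =
    (m + 2) ^ 3 * ((m + 1) * ((m + 2) ^ 2 + (m + 2) + 1)) := by
  apply Nat.sub_eq_of_eq_add; ring

/-- the case `a ≥ 2` -/
theorem asm2_arith_two (q k S a : ℕ) (hq : 2 ≤ q) (ha : 2 ≤ a)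
    (hk : k = S + (q - 1) * q ^ 10 * a) (hS : (q - 1) * q ^ 9 * a ≤ S) :
    q * (q ^ 6 - q ^ 3 + 1) * (q ^ 4 + 1) ≤ k := by
  obtain ⟨m, rfl⟩ : ∃ m, q = m + 2 := ⟨q - 2, by omega⟩
  obtain ⟨b, rfl⟩ : ∃ b, a = b + 2 := ⟨a - 2, by omega⟩
  have e1 : m + 2 - 1 = m + 1 := by omega
  rw [e1] at hk hS
  rw [asm2_sub]
  have h1 : (m + 1) * (m + 2) ^ 9 * 2 ≤ (m + 1) * (m + 2) ^ 9 * (b + 2) :=
    Nat.mul_le_mul_left _ (by omega)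
  have h2 : (m + 1) * (m + 2) ^ 10 * 2 ≤ (m + 1) * (m + 2) ^ 10 * (b + 2) :=
    Nat.mul_le_mul_left _ (by omega)
  have h3 : (m + 2) * ((m + 2) ^ 3 * ((m + 1) * ((m + 2) ^ 2 + (m + 2) + 1)) + 1) *
      ((m + 2) ^ 4 + 1) ≤ (m + 1) * (m + 2) ^ 9 * 2 + (m + 1) * (m + 2) ^ 10 * 2 := by
    nlinarith [pow_pos (show 0 < m + 2 by omega) 9, pow_pos (show 0 < m + 2 by omega) 10,
      pow_pos (show 0 < m + 2 by omega) 3, pow_pos (show 0 < m + 2 by omega) 4,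
      Nat.zero_le (m * (m + 2) ^ 9), Nat.zero_le (m * (m + 2) ^ 10)]
  omega

/-- `(q^6 - 1) / (q + 1) = (q - 1) (q^4 + q^2 + 1)` -/
theorem asm2_div (q : ℕ) (hq : 2 ≤ q) :
    (q ^ 6 - 1) / (q + 1) = (q - 1) * (q ^ 4 + q ^ 2 + 1) := by
  obtain ⟨m, rfl⟩ : ∃ m, q = m + 2 := ⟨q - 2, by omega⟩
  have e1 : m + 2 - 1 = m + 1 := by omega
  rw [e1]
  apply Nat.div_eq_of_eq_mul_right (by omega)
  apply Nat.sub_eq_of_eq_add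
  ring

/-- the case `a = 1`, `W` non-trivial -/
theorem asm2_arith_one (q k c0 Snz : ℕ) (hq : 2 ≤ q)
    (hk : k = c0 + Snz + (q - 1) * q ^ 10) (hn : (q ^ 6 - 1) / (q + 1) ≤ c0)
    (hdec : (q ^ 2 - 1) * (q ^ 3 + 1) * (q ^ 5 + 1) ≤ Snz) :
    q * (q ^ 6 - q ^ 3 + 1) * (q ^ 4 + 1) - 2 ≤ k := by
  rw [asm2_div q hq] at hn
  obtain ⟨m, rfl⟩ : ∃ m, q = m + 2 := ⟨q - 2, by omega⟩
  have e1 : m + 2 - 1 = m + 1 := by omega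
  have e2 : (m + 2) ^ 2 - 1 = (m + 1) * (m + 3) := by
    apply Nat.sub_eq_of_eq_add; ring
  rw [e1] at hk hn
  rw [e2] at hdec
  rw [asm2_sub]
  have h3 : (m + 2) * ((m + 2) ^ 3 * ((m + 1) * ((m + 2) ^ 2 + (m + 2) + 1)) + 1) *
      ((m + 2) ^ 4 + 1) =
      (m + 1) * ((m + 2) ^ 4 + (m + 2) ^ 2 + 1) +
        (m + 1) * (m + 3) * ((m + 2) ^ 3 + 1) * ((m + 2) ^ 5 + 1) +
        (m + 1) * (m + 2) ^ 10 + 2 := by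
    ring
  omega

/-- the case `a = 1`, `W` trivial: the trace identity fails -/
theorem asm2_arith_contra (q c0 Snz SP SX S34 NP NM : ℕ) (f90 : ℂ) (hq : 2 ≤ q)
    (hf : f90 = ((q : ℂ) - 1) * (q : ℂ) ^ 8 + SP)
    (hall : c0 + Snz = SP + SX + S34)
    (h34 : S34 + NP = (q - 1) * q ^ 9)
    (hSX : SX = (q - 1) * q ^ 9)
    (hNP : NP = (q - 1) ^ 2 * q ^ 6 * (q ^ 2 + 1))
    (hNM : NM = (q ^ 2 - 1) * (q ^ 3 + 1) * q ^ 5)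
    (htr : (q : ℂ) * f90 = (q : ℂ) * c0 + (q : ℂ) * Snz - ((q : ℂ) - 1) * NM) : False := by
  obtain ⟨m, rfl⟩ : ∃ m, q = m + 2 := ⟨q - 2, by omega⟩
  have e1 : m + 2 - 1 = m + 1 := by omega
  have e2 : (m + 2) ^ 2 - 1 = (m + 1) * (m + 3) := by
    apply Nat.sub_eq_of_eq_add; ring
  rw [e1] at h34 hSX hNP
  rw [e2] at hNM
  have hallC : (c0 : ℂ) + Snz = SP + SX + S34 := by exact_mod_cast hall
  have h34C : (S34 : ℂ) + NP = ((m : ℂ) + 1) * ((m : ℂ) + 2) ^ 9 := by exact_mod_cast h34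
  have hSXC : (SX : ℂ) = ((m : ℂ) + 1) * ((m : ℂ) + 2) ^ 9 := by exact_mod_cast hSX
  have hNPC : (NP : ℂ) = ((m : ℂ) + 1) ^ 2 * ((m : ℂ) + 2) ^ 6 * (((m : ℂ) + 2) ^ 2 + 1) := by
    exact_mod_cast hNP
  have hNMC : (NM : ℂ) = (((m : ℂ) + 1) * ((m : ℂ) + 3)) * (((m : ℂ) + 2) ^ 3 + 1) *
      ((m : ℂ) + 2) ^ 5 := by exact_mod_cast hNM
  push_cast at hf htr
  have key : ((m : ℂ) + 1) * ((m : ℂ) + 2) ^ 5 = 0 := by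
    rw [hf] at htr
    linear_combination (-1 : ℂ) * htr - ((m : ℂ) + 2) * hallC - ((m : ℂ) + 2) * h34C
      - ((m : ℂ) + 2) * hSXC + ((m : ℂ) + 2) * hNPC + ((m : ℂ) + 2 - 1) * hNMC
  have hm1 : ((m : ℂ) + 1) ≠ 0 := by exact_mod_cast (Nat.succ_ne_zero m)
  have hm2 : ((m : ℂ) + 2) ≠ 0 := by exact_mod_cast (Nat.succ_ne_zero (m + 1))
  exact mul_ne_zero hm1 (pow_ne_zero _ hm2) key

end Cfsg.Agent.Lib.Helper8.E6M2
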