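import Mathlib
import Cfsg.Agent.Lib.Helper2.E6M2DefsB
import Cfsg.Agent.Lib.Helper3.E6M2DefsC

set_option autoImplicit false

/-!
Farm E6M2 (statement S2341): the BRIDGE interface between layer B2 (characters of an abstract
`F_q`-space `Lam`, helper2) and layer C2 (the `σ`-fixed lattice `{l : T3 → K | InLam q l}` in
`K`-coordinates, helper3).  The assembly `e6m2_bound` (unit ASM2) assumes a `Bridge`; the concrete
side (CONC2/BRIDGE) constructs one.
-/

namespace Cfsg.Agent.Lib.Helper8.E6M2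

open Cfsg.Agent.Lib.Helper5.E6M Cfsg.Agent.Lib.Helper2.E6M2B Cfsg.Agent.Lib.Helper3.E6M2C Matrix

/-- the bridge between the characters of `Lam` (layer B2) and the `σ`-fixed lattice in
`K`-coordinates (layer C2) -/
structure Bridge {F Lam L G : Type*} [Field F] [AddCommGroup Lam] [Module F Lam] [Group L]
    [Group G] (D : Helper2.E6M2B.Data F Lam L G) (q : ℕ) (K : Type*) [Field K] where
  /-- the character attached to a vector of the lattice (junk outside the lattice) -/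
  Θ : (T3 → K) → AddChar Lam ℂ
  bij : Set.BijOn Θ {l | InLam q l} Set.univ
  zero : Θ 0 = 0
  /-- non-trivial on the line `F e1` iff the coordinate `012` is non-zero -/
  e1 : ∀ l, InLam q l → ((¬ ∀ t : F, Θ l (t • D.e1) = 1) ↔ l I012 ≠ 0)
  /-- trivial on the line `F e2` iff the coordinate `034` vanishes -/
  e2 : ∀ l, InLam q l → ((∀ u : F, Θ l (u • D.e2) = 1) ↔ l I034 = 0)
  /-- every element of `RJ q` is induced by an element of `L` -/
  act : ∀ g' : SL6 K, g' ∈ RJ q → ∀ l, InLam q l → ∃ g : L, actC D g (Θ l) = Θ (Mm g'.1 *ᵥ l)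
  /-- the characters not moved by `X_δ` -/
  mov : ∀ l, InLam q l → ¬ moved2 l → ∀ t : F, actC D (D.xd t) (Θ l) = Θ l
  free : ∀ t : F, t ≠ 0 → ∀ l, InLam q l → actC D (D.xd t) (Θ l) = Θ l → ¬ moved2 l
  /-- the stabiliser of a decomposable character fixed by `x_δ(t)` contains a subgroup `H` with
  `x_δ(t) ∈ [H, H]` (unit STABPERF2) -/
  stab : ∀ g' : SL6 K, g' ∈ RJ q → ∀ c : K, c ^ q = c → c ≠ 0 → ∀ t : F,
    actC D (D.xd t) (Θ (Mm g'.1 *ᵥ Pi.single I012 c)) = Θ (Mm g'.1 *ᵥ Pi.single I012 c) →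
    ∃ H : Subgroup L, (∀ h ∈ H, actC D h (Θ (Mm g'.1 *ᵥ Pi.single I012 c)) =
      Θ (Mm g'.1 *ᵥ Pi.single I012 c)) ∧ D.xd t ∈ (commutator H).map H.subtype
  /-- the bound of NONTRIV2 for the Levi part -/
  nontriv : ∀ (W : Type) [AddCommGroup W] [Module ℂ W] [FiniteDimensional ℂ W]
    (σ : Representation ℂ L W), (∃ t : F, σ (D.xd t) ≠ 1) →
      (q ^ 6 - 1) / (q + 1) ≤ Module.finrank ℂ W

section reindex

variable {F Lam L G : Type*} [Field F] [AddCommGroup Lam] [Module F Lam] [Fintype Lam]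
  [Group L] [Group G] {K : Type*} [Field K] [Fintype K] [DecidableEq K]

/-- reindexing a sum over the characters by the lattice -/
theorem Bridge.reindex {q : ℕ} {D : Helper2.E6M2B.Data F Lam L G} (B : Bridge D q K)
    (P' : AddChar Lam ℂ → Prop) [DecidablePred P']
    (P : (T3 → K) → Prop) [DecidablePred P]
    (h : ∀ l, InLam q l → (P' (B.Θ l) ↔ P l)) (f : AddChar Lam ℂ → ℂ) :
    ∑ χ ∈ Finset.univ.filter P', f χ =
      ∑ l ∈ Finset.univ.filter (fun l : T3 → K => InLam q l ∧ P l), f (B.Θ l) := by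
  symm
  apply Finset.sum_bij (fun l _ => B.Θ l)
  · intro l hl
    rw [Finset.mem_filter] at hl ⊢
    exact ⟨Finset.mem_univ _, (h l hl.2.1).2 hl.2.2⟩
  · intro l hl l' hl' heq
    rw [Finset.mem_filter] at hl hl'
    exact B.bij.injOn hl.2.1 hl'.2.1 heq
  · intro χ hχ
    rw [Finset.mem_filter] at hχ
    obtain ⟨l, hl, rfl⟩ := B.bij.surjOn (Set.mem_univ χ)
    exact ⟨l, Finset.mem_filter.2 ⟨Finset.mem_univ _, hl, (h l hl).1 hχ.2⟩, rfl⟩
  · intro l _
    rfl

end reindex

end Cfsg.Agent.Lib.Helper8.E6M2
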