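import Mathlib

set_option autoImplicit false

/-!
Farm E6M2 (statement S2341, `²E₆(q)`), unit DIV2: with `D' = q (q^6 - q^3 + 1) (q^4 + 1)`, neither
`D' - 1` nor `D' - 2` divides `q^36 (q^2-1)(q^5+1)(q^6-1)(q^8-1)(q^9+1)(q^12-1)` for any natural
number `q ≥ 2`.  Pure arithmetic, Mathlib only.
-/

namespace Cfsg.Agent.Lib.Helper8.E6M2

/-! ### generic gcd lemmas over `ℤ` -/

theorem gcd_dvd_of_lin {G X A B c : ℤ} (h : A * G + B * X = c) : gcd G X ∣ c := by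
  rw [← h]
  exact dvd_add (dvd_mul_of_dvd_right (gcd_dvd_left _ _) _) (dvd_mul_of_dvd_right (gcd_dvd_right _ _) _)

theorem isCoprime_two_of_odd {X : ℤ} (m : ℤ) (h : X = 2 * m + 1) : IsCoprime (2 : ℤ) X :=
  ⟨-m, 1, by rw [h]; ring⟩

theorem gcd_dvd_of_lin_odd {G X A B c : ℤ} {j : ℕ} (h : A * G + B * X = 2 ^ j * c) (m : ℤ)
    (hX : X = 2 * m + 1) : gcd G X ∣ c := by
  have h1 : gcd G X ∣ 2 ^ j * c := gcd_dvd_of_lin h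
  obtain ⟨e, he⟩ := gcd_dvd_right G X
  have h2 : IsCoprime (2 : ℤ) (gcd G X) := by
    have := isCoprime_two_of_odd m hX
    rw [he] at this
    exact this.of_mul_right_left
  exact (h2.pow_left (m := j)).symm.dvd_of_dvd_mul_left h1

theorem gcd_mul_dvd {G a b ca cb : ℤ} (ha : gcd G a ∣ ca) (hb : gcd G b ∣ cb) :
    gcd G (a * b) ∣ ca * cb :=
  (gcd_mul_dvd_mul_gcd G a b).trans (mul_dvd_mul ha hb)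

theorem gcd_pow_dvd {G a ca : ℤ} (n : ℕ) (ha : gcd G a ∣ ca) : gcd G (a ^ n) ∣ ca ^ n :=
  gcd_pow_right_dvd_pow_gcd.trans (pow_dvd_pow_of_dvd ha n)

/-! ### the survivor `D' - 1` -/

def g1 (Q : ℤ) : ℤ := Q ^ 7 + Q ^ 5 - Q ^ 4 + Q ^ 3 - Q ^ 2 + Q - 1

theorem Dm1_eq (Q : ℤ) :
    Q * (Q ^ 6 - Q ^ 3 + 1) * (Q ^ 4 + 1) - 1 = (Q ^ 4 - Q ^ 2 + 1) * g1 Q := by
  unfold g1; ring

theorem order_factor1 (Q : ℤ) :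
    Q ^ 36 * (Q ^ 2 - 1) * (Q ^ 5 + 1) * (Q ^ 6 - 1) * (Q ^ 8 - 1) * (Q ^ 9 + 1) * (Q ^ 12 - 1) =
      (Q ^ 4 - Q ^ 2 + 1) *
        (Q ^ 36 * (Q - 1) ^ 4 * (Q + 1) ^ 6 * (Q ^ 2 + Q + 1) ^ 2 * (Q ^ 2 + 1) ^ 2 *
          (Q ^ 2 - Q + 1) ^ 3 * (Q ^ 4 + 1) * (Q ^ 4 - Q ^ 3 + Q ^ 2 - Q + 1) *
          (Q ^ 6 - Q ^ 3 + 1)) := by
  ring

theorem g1_dvd_const (Q : ℤ)
    (h : g1 Q ∣ Q ^ 36 * (Q - 1) ^ 4 * (Q + 1) ^ 6 * (Q ^ 2 + Q + 1) ^ 2 * (Q ^ 2 + 1) ^ 2 *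
          (Q ^ 2 - Q + 1) ^ 3 * (Q ^ 4 + 1) * (Q ^ 4 - Q ^ 3 + Q ^ 2 - Q + 1) *
          (Q ^ 6 - Q ^ 3 + 1)) : g1 Q ∣ 7 ^ 6 := by
  have c0 : gcd (g1 Q) Q ∣ 1 :=
    gcd_dvd_of_lin (A := -1) (B := 1 - Q + Q ^ 2 - Q ^ 3 + Q ^ 4 + Q ^ 6) (by unfold g1; ring)
  have c1 : gcd (g1 Q) (Q - 1) ∣ 1 :=
    gcd_dvd_of_lin (A := 1) (B := -2 - Q - 2 * Q ^ 2 - Q ^ 3 - 2 * Q ^ 4 - Q ^ 5 - Q ^ 6)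
      (by unfold g1; ring)
  have c2 : gcd (g1 Q) (Q + 1) ∣ 7 :=
    gcd_dvd_of_lin (A := -1) (B := 6 - 5 * Q + 4 * Q ^ 2 - 3 * Q ^ 3 + 2 * Q ^ 4 - Q ^ 5 + Q ^ 6)
      (by unfold g1; ring)
  have c3 : gcd (g1 Q) (Q ^ 2 + Q + 1) ∣ 1 :=
    gcd_dvd_of_lin (A := -1 - Q) (B := Q ^ 6) (by unfold g1; ring)
  have c4 : gcd (g1 Q) (Q ^ 2 + 1) ∣ 1 :=
    gcd_dvd_of_lin (A := -1) (B := Q - Q ^ 2 + Q ^ 5) (by unfold g1; ring)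
  have c6 : gcd (g1 Q) (Q ^ 2 - Q + 1) ∣ 1 :=
    gcd_dvd_of_lin (A := 1 - Q) (B := 2 - 2 * Q ^ 3 + Q ^ 6) (by unfold g1; ring)
  have c8 : gcd (g1 Q) (Q ^ 4 + 1) ∣ 1 :=
    gcd_dvd_of_lin (A := Q ^ 2) (B := 1 + Q ^ 2 - Q ^ 3 - Q ^ 5) (by unfold g1; ring)
  have c10 : gcd (g1 Q) (Q ^ 4 - Q ^ 3 + Q ^ 2 - Q + 1) ∣ 1 :=
    gcd_dvd_of_lin (A := -Q + Q ^ 2) (B := 1 + Q ^ 2 - Q ^ 5) (by unfold g1; ring)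
  have c18 : gcd (g1 Q) (Q ^ 6 - Q ^ 3 + 1) ∣ 1 :=
    gcd_dvd_of_lin (A := -1 + Q ^ 2 - Q ^ 4) (B := Q + Q ^ 5) (by unfold g1; ring)
  have hall := gcd_mul_dvd (gcd_mul_dvd (gcd_mul_dvd (gcd_mul_dvd (gcd_mul_dvd (gcd_mul_dvd
    (gcd_mul_dvd (gcd_mul_dvd (gcd_pow_dvd 36 c0) (gcd_pow_dvd 4 c1)) (gcd_pow_dvd 6 c2))
    (gcd_pow_dvd 2 c3)) (gcd_pow_dvd 2 c4)) (gcd_pow_dvd 3 c6)) c8) c10) c18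
  have h2 := (dvd_gcd dvd_rfl h).trans hall
  norm_num at h2
  exact h2

theorem not_g1_dvd (Q : ℤ) (hQ : 2 ≤ Q) :
    ¬ g1 Q ∣ Q ^ 36 * (Q - 1) ^ 4 * (Q + 1) ^ 6 * (Q ^ 2 + Q + 1) ^ 2 * (Q ^ 2 + 1) ^ 2 *
          (Q ^ 2 - Q + 1) ^ 3 * (Q ^ 4 + 1) * (Q ^ 4 - Q ^ 3 + Q ^ 2 - Q + 1) *
          (Q ^ 6 - Q ^ 3 + 1) := by
  intro h
  have h1 := g1_dvd_const Q h
  have hle : g1 Q ≤ 7 ^ 6 := Int.le_of_dvd (by norm_num) h1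
  have hQ5 : Q ≤ 5 := by
    by_contra hcon
    push Not at hcon
    have h6 : (6 : ℤ) ≤ Q := by omega
    have h7 : (6 : ℤ) ^ 7 ≤ Q ^ 7 := pow_le_pow_left₀ (by norm_num) h6 7
    have hpos : 0 ≤ Q ^ 5 - Q ^ 4 + Q ^ 3 - Q ^ 2 + Q - 1 := by
      have e : Q ^ 5 - Q ^ 4 + Q ^ 3 - Q ^ 2 + Q - 1 = (Q - 1) * (Q ^ 4 + Q ^ 2 + 1) := by ring
      rw [e]
      have : 0 ≤ Q ^ 4 + Q ^ 2 + 1 := by positivity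
      exact mul_nonneg (by omega) this
    unfold g1 at hle
    norm_num at hle h7
    linarith
  interval_cases Q <;> (unfold g1 at h1; norm_num at h1)

theorem not_dvd_order_one_int (Q : ℤ) (hQ : 2 ≤ Q) :
    ¬ (Q * (Q ^ 6 - Q ^ 3 + 1) * (Q ^ 4 + 1) - 1) ∣
      Q ^ 36 * (Q ^ 2 - 1) * (Q ^ 5 + 1) * (Q ^ 6 - 1) * (Q ^ 8 - 1) * (Q ^ 9 + 1) * (Q ^ 12 - 1) := by
  intro h
  rw [Dm1_eq, order_factor1] at h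
  have hne : Q ^ 4 - Q ^ 2 + 1 ≠ 0 := by
    have e : Q ^ 4 - Q ^ 2 + 1 = Q ^ 2 * (Q ^ 2 - 1) + 1 := by ring
    have : 0 ≤ Q ^ 2 * (Q ^ 2 - 1) := mul_nonneg (by positivity) (by nlinarith)
    rw [e]; omega
  exact not_g1_dvd Q hQ ((mul_dvd_mul_iff_left hne).mp h)

/-! ### the survivor `D' - 2` -/

def g2 (Q : ℤ) : ℤ :=
  Q ^ 10 + Q ^ 9 + Q ^ 8 + Q ^ 6 + Q ^ 5 + 2 * Q ^ 4 + Q ^ 3 + Q ^ 2 + Q + 2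

theorem Dm2_eq (Q : ℤ) :
    Q * (Q ^ 6 - Q ^ 3 + 1) * (Q ^ 4 + 1) - 2 = (Q - 1) * g2 Q := by
  unfold g2; ring

theorem order_factor2 (Q : ℤ) :
    Q ^ 36 * (Q ^ 2 - 1) * (Q ^ 5 + 1) * (Q ^ 6 - 1) * (Q ^ 8 - 1) * (Q ^ 9 + 1) * (Q ^ 12 - 1) =
      (Q - 1) *
        (Q ^ 36 * (Q - 1) ^ 3 * (Q + 1) ^ 6 * (Q ^ 2 + Q + 1) ^ 2 * (Q ^ 2 + 1) ^ 2 *
          (Q ^ 2 - Q + 1) ^ 3 * (Q ^ 4 + 1) * (Q ^ 4 - Q ^ 3 + Q ^ 2 - Q + 1) *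
          (Q ^ 4 - Q ^ 2 + 1) * (Q ^ 6 - Q ^ 3 + 1)) := by
  ring

section
variable (Q : ℤ)

theorem d0 : gcd (g2 Q) Q ∣ 2 :=
  gcd_dvd_of_lin (A := 1)
    (B := -1 - Q - Q ^ 2 - 2 * Q ^ 3 - Q ^ 4 - Q ^ 5 - Q ^ 7 - Q ^ 8 - Q ^ 9) (by unfold g2; ring)

theorem d1 : gcd (g2 Q) (Q - 1) ∣ 12 :=
  gcd_dvd_of_lin (A := 1)
    (B := -10 - 9 * Q - 8 * Q ^ 2 - 7 * Q ^ 3 - 5 * Q ^ 4 - 4 * Q ^ 5 - 3 * Q ^ 6 - 3 * Q ^ 7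
      - 2 * Q ^ 8 - Q ^ 9) (by unfold g2; ring)

theorem d2 : gcd (g2 Q) (Q + 1) ∣ 4 :=
  gcd_dvd_of_lin (A := 1)
    (B := 2 - 3 * Q + 2 * Q ^ 2 - 3 * Q ^ 3 + Q ^ 4 - 2 * Q ^ 5 + Q ^ 6 - Q ^ 7 - Q ^ 9)
    (by unfold g2; ring)

theorem d3 : gcd (g2 Q) (Q ^ 2 + Q + 1) ∣ 3 :=
  gcd_dvd_of_lin (A := 1 - Q)
    (B := 1 - Q ^ 2 + Q ^ 3 - Q ^ 4 + Q ^ 5 - Q ^ 8 + Q ^ 9) (by unfold g2; ring)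

theorem d4 : gcd (g2 Q) (Q ^ 2 + 1) ∣ 4 :=
  gcd_dvd_of_lin (A := 1 - Q)
    (B := 2 + Q - 2 * Q ^ 2 - Q ^ 3 + Q ^ 4 + 2 * Q ^ 5 - Q ^ 6 - Q ^ 7 + Q ^ 9)
    (by unfold g2; ring)

theorem d6 : gcd (g2 Q) (Q ^ 2 - Q + 1) ∣ 1 :=
  gcd_dvd_of_lin (A := -1 + Q)
    (B := 3 + 2 * Q - Q ^ 2 - 3 * Q ^ 3 - Q ^ 4 + Q ^ 5 + 2 * Q ^ 6 - Q ^ 8 - Q ^ 9)
    (by unfold g2; ring)

theorem d8 : gcd (g2 Q) (Q ^ 4 + 1) ∣ 2 :=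
  gcd_dvd_of_lin (A := 1 - Q) (B := Q - Q ^ 4 + Q ^ 7) (by unfold g2; ring)

theorem d10 : gcd (g2 Q) (Q ^ 4 - Q ^ 3 + Q ^ 2 - Q + 1) ∣ 11 :=
  gcd_dvd_of_lin (A := 6 - 3 * Q - Q ^ 2 - Q ^ 3)
    (B := -1 - Q - Q ^ 2 - Q ^ 3 - 7 * Q ^ 4 - 4 * Q ^ 5 + 3 * Q ^ 6 + 7 * Q ^ 7 + 3 * Q ^ 8 + Q ^ 9)
    (by unfold g2; ring)

theorem d12 : gcd (g2 Q) (Q ^ 4 - Q ^ 2 + 1) ∣ 1 :=
  gcd_dvd_of_lin (A := 1 - Q)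
    (B := -1 + Q - Q ^ 2 + Q ^ 3 - Q ^ 4 + Q ^ 5 + Q ^ 7) (by unfold g2; ring)

/-- `Φ₁₈(Q)` is always odd -/
theorem d18 : gcd (g2 Q) (Q ^ 6 - Q ^ 3 + 1) ∣ 1 := by
  obtain ⟨m, hm⟩ := Int.even_mul_pred_self (Q ^ 3)
  refine gcd_dvd_of_lin_odd (A := 1 - Q) (B := Q + Q ^ 5) (j := 1) (by unfold g2; ring) m ?_
  have : Q ^ 6 - Q ^ 3 + 1 = Q ^ 3 * (Q ^ 3 - 1) + 1 := by ring
  rw [this, hm]; ring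

end

/-- the cofactor of `Q - 1` in the order polynomial -/
def R2 (Q : ℤ) : ℤ :=
  Q ^ 36 * (Q - 1) ^ 3 * (Q + 1) ^ 6 * (Q ^ 2 + Q + 1) ^ 2 * (Q ^ 2 + 1) ^ 2 *
    (Q ^ 2 - Q + 1) ^ 3 * (Q ^ 4 + 1) * (Q ^ 4 - Q ^ 3 + Q ^ 2 - Q + 1) *
    (Q ^ 4 - Q ^ 2 + 1) * (Q ^ 6 - Q ^ 3 + 1)

theorem gcd_R2_dvd (Q c0 c1 c2 c4 c8 : ℤ) (h0 : gcd (g2 Q) Q ∣ c0) (h1 : gcd (g2 Q) (Q - 1) ∣ c1)
    (h2 : gcd (g2 Q) (Q + 1) ∣ c2) (h4 : gcd (g2 Q) (Q ^ 2 + 1) ∣ c4)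
    (h8 : gcd (g2 Q) (Q ^ 4 + 1) ∣ c8) :
    gcd (g2 Q) (R2 Q) ∣ c0 ^ 36 * c1 ^ 3 * c2 ^ 6 * 3 ^ 2 * c4 ^ 2 * 1 ^ 3 * c8 * 11 * 1 * 1 :=
  gcd_mul_dvd (gcd_mul_dvd (gcd_mul_dvd (gcd_mul_dvd (gcd_mul_dvd (gcd_mul_dvd
    (gcd_mul_dvd (gcd_mul_dvd (gcd_mul_dvd (gcd_pow_dvd 36 h0) (gcd_pow_dvd 3 h1))
      (gcd_pow_dvd 6 h2)) (gcd_pow_dvd 2 (d3 Q))) (gcd_pow_dvd 2 h4)) (gcd_pow_dvd 3 (d6 Q)))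
        h8) (d10 Q)) (d12 Q)) (d18 Q)

theorem g2_ge (Q : ℤ) (hQ : 0 ≤ Q) : Q ^ 10 ≤ g2 Q := by
  unfold g2
  have := pow_nonneg hQ 9
  have := pow_nonneg hQ 8
  have := pow_nonneg hQ 6
  have := pow_nonneg hQ 5
  have := pow_nonneg hQ 4
  have := pow_nonneg hQ 3
  have := pow_nonneg hQ 2
  linarith

theorem not_g2_dvd_odd (Q m : ℤ) (hQ : 2 ≤ Q) (hm : Q = 2 * m + 1) : ¬ g2 Q ∣ R2 Q := by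
  intro h
  have h0 : gcd (g2 Q) Q ∣ 1 :=
    gcd_dvd_of_lin_odd (A := 1)
      (B := -1 - Q - Q ^ 2 - 2 * Q ^ 3 - Q ^ 4 - Q ^ 5 - Q ^ 7 - Q ^ 8 - Q ^ 9) (j := 1) (c := 1)
      (by unfold g2; ring) m hm
  have hall := gcd_R2_dvd Q 1 12 4 4 2 h0 (d1 Q) (d2 Q) (d4 Q) (d8 Q)
  have h2 := (dvd_gcd dvd_rfl h).trans hall
  norm_num at h2
  have hle : g2 Q ≤ 22422749184 := Int.le_of_dvd (by norm_num) h2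
  have hQ10 : Q ≤ 10 := by
    by_contra hcon
    push Not at hcon
    have h11 : (11 : ℤ) ≤ Q := by omega
    have hp : (11 : ℤ) ^ 10 ≤ Q ^ 10 := pow_le_pow_left₀ (by norm_num) h11 10
    have := g2_ge Q (by omega)
    norm_num at hp
    linarith
  interval_cases Q <;> (unfold g2 at h2; norm_num at h2)

theorem not_g2_dvd_even (Q m : ℤ) (hQ : 2 ≤ Q) (hm : Q = 2 * m) : ¬ g2 Q ∣ R2 Q := by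
  intro h
  have h1 : gcd (g2 Q) (Q - 1) ∣ 3 :=
    gcd_dvd_of_lin_odd (A := 1)
      (B := -10 - 9 * Q - 8 * Q ^ 2 - 7 * Q ^ 3 - 5 * Q ^ 4 - 4 * Q ^ 5 - 3 * Q ^ 6 - 3 * Q ^ 7
        - 2 * Q ^ 8 - Q ^ 9) (j := 2) (c := 3) (by unfold g2; ring) (m - 1) (by rw [hm]; ring)
  have h2 : gcd (g2 Q) (Q + 1) ∣ 1 :=
    gcd_dvd_of_lin_odd (A := 1)
      (B := 2 - 3 * Q + 2 * Q ^ 2 - 3 * Q ^ 3 + Q ^ 4 - 2 * Q ^ 5 + Q ^ 6 - Q ^ 7 - Q ^ 9)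
      (j := 2) (c := 1) (by unfold g2; ring) m (by rw [hm])
  have h4 : gcd (g2 Q) (Q ^ 2 + 1) ∣ 1 :=
    gcd_dvd_of_lin_odd (A := 1 - Q)
      (B := 2 + Q - 2 * Q ^ 2 - Q ^ 3 + Q ^ 4 + 2 * Q ^ 5 - Q ^ 6 - Q ^ 7 + Q ^ 9)
      (j := 2) (c := 1) (by unfold g2; ring) (2 * m ^ 2) (by rw [hm]; ring)
  have h8 : gcd (g2 Q) (Q ^ 4 + 1) ∣ 1 :=
    gcd_dvd_of_lin_odd (A := 1 - Q) (B := Q - Q ^ 4 + Q ^ 7)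
      (j := 1) (c := 1) (by unfold g2; ring) (8 * m ^ 4) (by rw [hm]; ring)
  have hall := gcd_R2_dvd Q 2 3 1 1 1 (d0 Q) h1 h2 h4 h8
  have h3 := (dvd_gcd dvd_rfl h).trans hall
  norm_num at h3
  have hle : g2 Q ≤ 183687161315328 := Int.le_of_dvd (by norm_num) h3
  have hQ26 : Q ≤ 26 := by
    by_contra hcon
    push Not at hcon
    have h27 : (27 : ℤ) ≤ Q := by omega
    have hp : (27 : ℤ) ^ 10 ≤ Q ^ 10 := pow_le_pow_left₀ (by norm_num) h27 10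
    have := g2_ge Q (by omega)
    norm_num at hp
    linarith
  interval_cases Q <;> (unfold g2 at h3; norm_num at h3)

theorem not_dvd_order_two_int (Q : ℤ) (hQ : 2 ≤ Q) :
    ¬ (Q * (Q ^ 6 - Q ^ 3 + 1) * (Q ^ 4 + 1) - 2) ∣
      Q ^ 36 * (Q ^ 2 - 1) * (Q ^ 5 + 1) * (Q ^ 6 - 1) * (Q ^ 8 - 1) * (Q ^ 9 + 1) * (Q ^ 12 - 1) := by
  intro h
  rw [Dm2_eq, order_factor2] at h
  have hne : Q - 1 ≠ 0 := by omega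
  have h' : g2 Q ∣ R2 Q := (mul_dvd_mul_iff_left hne).mp h
  rcases Int.even_or_odd' Q with ⟨m, hm | hm⟩
  · exact not_g2_dvd_even Q m hQ hm h'
  · exact not_g2_dvd_odd Q m hQ hm h'

/-! ### natural number forms (shapes of S2341 and S1066) -/

theorem cast_D (q : ℕ) (hq : 1 ≤ q) :
    ((q * (q ^ 6 - q ^ 3 + 1) * (q ^ 4 + 1) : ℕ) : ℤ) =
      (q : ℤ) * ((q : ℤ) ^ 6 - (q : ℤ) ^ 3 + 1) * ((q : ℤ) ^ 4 + 1) := by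
  have e63 : q ^ 3 ≤ q ^ 6 := Nat.pow_le_pow_right hq (by norm_num)
  push_cast [Nat.cast_sub e63]
  ring

theorem cast_order (q : ℕ) (hq : 1 ≤ q) :
    ((q ^ 36 * (q ^ 2 - 1) * (q ^ 5 + 1) * (q ^ 6 - 1) * (q ^ 8 - 1) * (q ^ 9 + 1) *
        (q ^ 12 - 1) : ℕ) : ℤ) =
      (q : ℤ) ^ 36 * ((q : ℤ) ^ 2 - 1) * ((q : ℤ) ^ 5 + 1) * ((q : ℤ) ^ 6 - 1) *
        ((q : ℤ) ^ 8 - 1) * ((q : ℤ) ^ 9 + 1) * ((q : ℤ) ^ 12 - 1) := by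
  have e2 : 1 ≤ q ^ 2 := Nat.one_le_pow _ _ hq
  have e6 : 1 ≤ q ^ 6 := Nat.one_le_pow _ _ hq
  have e8 : 1 ≤ q ^ 8 := Nat.one_le_pow _ _ hq
  have e12 : 1 ≤ q ^ 12 := Nat.one_le_pow _ _ hq
  push_cast [Nat.cast_sub e2, Nat.cast_sub e6, Nat.cast_sub e8, Nat.cast_sub e12]
  ring

theorem D_ge (q : ℕ) (hq : 2 ≤ q) : 2 ≤ q * (q ^ 6 - q ^ 3 + 1) * (q ^ 4 + 1) := by
  have h1 : 1 ≤ q ^ 6 - q ^ 3 + 1 := by omega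
  have h2 : 1 ≤ q ^ 4 + 1 := by omega
  calc 2 ≤ q := hq
    _ = q * 1 * 1 := by ring
    _ ≤ q * (q ^ 6 - q ^ 3 + 1) * (q ^ 4 + 1) :=
        Nat.mul_le_mul (Nat.mul_le_mul_left _ h1) h2

/-- DIV2 (a): `D' - 1` does not divide the order polynomial of `²E₆(q)` (shape of S1066). -/
theorem not_dvd_order_one (q : ℕ) (hq : 2 ≤ q) :
    ¬ (q * (q ^ 6 - q ^ 3 + 1) * (q ^ 4 + 1) - 1) ∣
      q ^ 36 * (q ^ 2 - 1) * (q ^ 5 + 1) * (q ^ 6 - 1) * (q ^ 8 - 1) * (q ^ 9 + 1) * (q ^ 12 - 1) := by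
  intro h
  have hZ := Int.natCast_dvd_natCast.mpr h
  have hD := D_ge q hq
  rw [Nat.cast_sub (by omega), cast_D q (by omega), cast_order q (by omega)] at hZ
  exact not_dvd_order_one_int (q : ℤ) (by exact_mod_cast hq) (by simpa using hZ)

/-- DIV2 (b): `D' - 2` does not divide the order polynomial of `²E₆(q)` (shape of S1066). -/
theorem not_dvd_order_two (q : ℕ) (hq : 2 ≤ q) :
    ¬ (q * (q ^ 6 - q ^ 3 + 1) * (q ^ 4 + 1) - 2) ∣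
      q ^ 36 * (q ^ 2 - 1) * (q ^ 5 + 1) * (q ^ 6 - 1) * (q ^ 8 - 1) * (q ^ 9 + 1) * (q ^ 12 - 1) := by
  intro h
  have hZ := Int.natCast_dvd_natCast.mpr h
  have hD := D_ge q hq
  rw [Nat.cast_sub hD, cast_D q (by omega), cast_order q (by omega)] at hZ
  exact not_dvd_order_two_int (q : ℤ) (by exact_mod_cast hq) (by simpa using hZ)

/-- DIV2, assembly form: from `D' - 2 ≤ k` and `k ∣ |G|` get `D' ≤ k`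
(`c := Nat.card (twistedE6 K q)`, `hc :=` S1066). -/
theorem le_of_pred_le (q k c : ℕ) (hq : 2 ≤ q) (hk : k ∣ c)
    (hc : Nat.gcd 3 (q + 1) * c =
      q ^ 36 * (q ^ 2 - 1) * (q ^ 5 + 1) * (q ^ 6 - 1) * (q ^ 8 - 1) * (q ^ 9 + 1) * (q ^ 12 - 1))
    (hle : q * (q ^ 6 - q ^ 3 + 1) * (q ^ 4 + 1) - 2 ≤ k) :
    q * (q ^ 6 - q ^ 3 + 1) * (q ^ 4 + 1) ≤ k := by
  have hk' : k ∣ q ^ 36 * (q ^ 2 - 1) * (q ^ 5 + 1) * (q ^ 6 - 1) * (q ^ 8 - 1) * (q ^ 9 + 1) *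
      (q ^ 12 - 1) := hc ▸ hk.mul_left _
  have h1 : k ≠ q * (q ^ 6 - q ^ 3 + 1) * (q ^ 4 + 1) - 1 := by
    rintro rfl; exact not_dvd_order_one q hq hk'
  have h2 : k ≠ q * (q ^ 6 - q ^ 3 + 1) * (q ^ 4 + 1) - 2 := by
    rintro rfl; exact not_dvd_order_two q hq hk'
  omega

end Cfsg.Agent.Lib.Helper8.E6M2
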