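import Mathlib
import Cfsg.Agent.Lib.Helper5.E6MDefs
import Cfsg.Agent.Lib.Helper7.E6MC1
import Cfsg.Agent.Lib.Helper7.E6MCONJ

set_option autoImplicit false

/-!
Farm E6M (statement S2340), unit RR: the two relations between the multiplicities `cM` and the
Heisenberg number `a`, from unit H (`heis`, here a hypothesis), unit C1 (Fourier inversion) and
unit CONJ (the Weyl element).
-/

namespace Cfsg.Agent.Lib.Helper8.E6M

open Cfsg.Agent.Lib.Helper5.E6M Matrix

section RR

variable {F : Type*} [Field F] [Fintype F] [DecidableEq F] {G : Type*} [Group G] (D : Data F G)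
  (hD : Rel D) (ψ : AddChar F ℂ) (hψ : ψ ≠ 1)

/-- the character of a representation is a class function -/
theorem character_conj {V : Type*} [AddCommGroup V] [Module ℂ V]
    (ρ : Representation ℂ G V) (x y : G) : ρ.character (x * y * x⁻¹) = ρ.character y := by
  unfold Representation.character
  have h : ρ (x * y * x⁻¹) = ρ (x * y) * ρ x⁻¹ := map_mul ρ _ _
  rw [h, LinearMap.trace_mul_comm, ← map_mul ρ, ← mul_assoc, inv_mul_cancel, one_mul]

include hD hψ in
/-- unit RR with unit H as a hypothesis -/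
theorem char_side_of {V : Type*} [AddCommGroup V] [Module ℂ V] [FiniteDimensional ℂ V]
    (ρ : Representation ℂ G V)
    (hheis : ∃ a : ℕ, (Module.finrank ℂ V : ℂ) = fZ D ρ.character +
        ((Fintype.card F : ℂ) - 1) * (Fintype.card F : ℂ) ^ 10 * a ∧
      f1 D ρ.character = ZS D ρ.character {I012} +
        ((Fintype.card F : ℂ) - 1) * (Fintype.card F : ℂ) ^ 9 * a ∧
      f2 D ρ.character = ZS D ρ.character {I012, I045} +
        ((Fintype.card F : ℂ) - 1) * (Fintype.card F : ℂ) ^ 8 * a) :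
    ∃ a : ℕ, (Module.finrank ℂ V : ℂ) = fZ D ρ.character +
        ((Fintype.card F : ℂ) - 1) * (Fintype.card F : ℂ) ^ 10 * a ∧
      fZ D ρ.character = ∑ l : T3 → F, cM D ψ ρ.character l ∧
      ∑ l ∈ Finset.univ.filter (fun l : T3 → F => l I012 ≠ 0), cM D ψ ρ.character l =
        ((Fintype.card F : ℂ) - 1) * (Fintype.card F : ℂ) ^ 9 * a ∧
      f90 D ρ.character = ((Fintype.card F : ℂ) - 1) * (Fintype.card F : ℂ) ^ 8 * a +
        ∑ l ∈ Finset.univ.filter (fun l : T3 → F => l I012 = 0 ∧ l I045 = 0),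
          cM D ψ ρ.character l := by
  obtain ⟨a, h1, h2, h3⟩ := hheis
  have hχ : ∀ x y, ρ.character (x * y * x⁻¹) = ρ.character y := character_conj ρ
  have hall : fZ D ρ.character = ∑ l : T3 → F, cM D ψ ρ.character l := by
    rw [← Helper7.E6M.ZS_empty D hD, ← Helper7.E6M.sum_cM_vanish D hD ψ hψ _ ∅]
    simp
  have h0 : ∑ l ∈ Finset.univ.filter (fun l : T3 → F => l I012 = 0), cM D ψ ρ.character l =
      ZS D ρ.character {I012} := by
    rw [← Helper7.E6M.sum_cM_vanish D hD ψ hψ _ {I012}]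
    simp
  have h00 : ∑ l ∈ Finset.univ.filter (fun l : T3 → F => l I012 = 0 ∧ l I045 = 0),
      cM D ψ ρ.character l = ZS D ρ.character {I012, I045} := by
    rw [← Helper7.E6M.sum_cM_vanish D hD ψ hψ _ {I012, I045}]
    simp
  refine ⟨a, h1, hall, ?_, ?_⟩
  · have hsplit := Finset.sum_filter_add_sum_filter_not (Finset.univ : Finset (T3 → F))
      (fun l => l I012 = 0) (cM D ψ ρ.character)
    rw [h0, ← hall, Helper7.E6M.fZ_eq_f1 D hD _ hχ, h2] at hsplit
    linear_combination hsplit
  · rw [Helper7.E6M.f90_eq_f2 D hD _ hχ, h3, h00]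
    ring

end RR

end Cfsg.Agent.Lib.Helper8.E6M
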