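import Mathlib
import Cfsg.Agent.Lib.Helper2.E6M2DefsB
import Cfsg.Agent.Lib.Helper8.E6MRR

set_option autoImplicit false
set_option linter.unusedSectionVars false
set_option linter.unusedVariables false

/-!
Farm E6M2 (statement S2341), layer B2, unit RR2: the two relations between the multiplicities `cM`
and the Heisenberg number `a`.  Here with the units H2 (`heis`), C12 (`sum_cM`, `sum_cM_e1`,
`sum_cM_e12`) and CONJ2 (`fZ_eq_f1`, `f90_eq_f2`) as hypotheses.
-/

namespace Cfsg.Agent.Lib.Helper8.E6M2B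

open Cfsg.Agent.Lib.Helper2.E6M2B

section B

variable {F Lam L G : Type*} [Field F] [Fintype F] [DecidableEq F] [AddCommGroup Lam]
  [Module F Lam] [Fintype Lam] [DecidableEq Lam] [Group L] [Group G] (D : Data F Lam L G) (m : ℕ)

/-- unit RR2 with the other units as hypotheses -/
theorem char_side_of {V : Type*} [AddCommGroup V] [Module ℂ V] [FiniteDimensional ℂ V]
    (ρ : Representation ℂ G V) (hm : 2 ≤ m)
    (hheis : ∃ a : ℕ, (Module.finrank ℂ V : ℂ) = fZ D ρ.character +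
        ((Fintype.card F : ℂ) - 1) * (Fintype.card F : ℂ) ^ m * a ∧
      (Fintype.card F : ℂ) * f1 D ρ.character = (Fintype.card F : ℂ) * ZS1 D ρ.character +
        ((Fintype.card F : ℂ) - 1) * (Fintype.card F : ℂ) ^ m * a ∧
      (Fintype.card F : ℂ) ^ 2 * f2 D ρ.character = (Fintype.card F : ℂ) ^ 2 * ZS2 D ρ.character +
        ((Fintype.card F : ℂ) - 1) * (Fintype.card F : ℂ) ^ m * a)
    (hsum : ∑ l : AddChar Lam ℂ, cM D ρ.character l = fZ D ρ.character)
    (hsum1 : ∑ l ∈ Finset.univ.filter (fun l : AddChar Lam ℂ => ∀ t : F, l (t • D.e1) = 1),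
      cM D ρ.character l = ZS1 D ρ.character)
    (hsum12 : ∑ l ∈ Finset.univ.filter (fun l : AddChar Lam ℂ =>
      (∀ t : F, l (t • D.e1) = 1) ∧ ∀ u : F, l (u • D.e2) = 1), cM D ρ.character l =
        ZS2 D ρ.character)
    (hf1 : fZ D ρ.character = f1 D ρ.character)
    (hf2 : f90 D ρ.character = f2 D ρ.character) :
    ∃ a : ℕ, (Module.finrank ℂ V : ℂ) = fZ D ρ.character +
        ((Fintype.card F : ℂ) - 1) * (Fintype.card F : ℂ) ^ m * a ∧
      fZ D ρ.character = ∑ l : AddChar Lam ℂ, cM D ρ.character l ∧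
      ∑ l ∈ Finset.univ.filter (fun l : AddChar Lam ℂ => ¬ ∀ t : F, l (t • D.e1) = 1),
          cM D ρ.character l =
        ((Fintype.card F : ℂ) - 1) * (Fintype.card F : ℂ) ^ (m - 1) * a ∧
      f90 D ρ.character = ((Fintype.card F : ℂ) - 1) * (Fintype.card F : ℂ) ^ (m - 2) * a +
        ∑ l ∈ Finset.univ.filter (fun l : AddChar Lam ℂ =>
          (∀ t : F, l (t • D.e1) = 1) ∧ ∀ u : F, l (u • D.e2) = 1), cM D ρ.character l := by
  classical
  obtain ⟨a, h1, h2, h3⟩ := hheis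
  have hq : (Fintype.card F : ℂ) ≠ 0 := Nat.cast_ne_zero.2 Fintype.card_ne_zero
  obtain ⟨n, rfl⟩ : ∃ n, m = n + 2 := ⟨m - 2, by omega⟩
  have e1 : n + 2 - 1 = n + 1 := by omega
  have e2 : n + 2 - 2 = n := by omega
  rw [e1, e2]
  refine ⟨a, h1, hsum.symm, ?_, ?_⟩
  · have hsplit := Finset.sum_filter_add_sum_filter_not (Finset.univ : Finset (AddChar Lam ℂ))
      (fun l => ∀ t : F, l (t • D.e1) = 1) (cM D ρ.character)
    rw [hsum1, hsum, hf1] at hsplit
    have h4 : (Fintype.card F : ℂ) * (∑ l ∈ Finset.univ.filter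
        (fun l : AddChar Lam ℂ => ¬ ∀ t : F, l (t • D.e1) = 1), cM D ρ.character l) =
        (Fintype.card F : ℂ) *
          (((Fintype.card F : ℂ) - 1) * (Fintype.card F : ℂ) ^ (n + 1) * a) := by
      linear_combination (Fintype.card F : ℂ) * hsplit + h2
    exact mul_left_cancel₀ hq h4
  · rw [hf2, hsum12]
    have h4 : (Fintype.card F : ℂ) ^ 2 * f2 D ρ.character = (Fintype.card F : ℂ) ^ 2 *
        (((Fintype.card F : ℂ) - 1) * (Fintype.card F : ℂ) ^ n * a + ZS2 D ρ.character) := by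
      rw [h3]; ring
    exact mul_left_cancel₀ (pow_ne_zero 2 hq) h4

end B

end Cfsg.Agent.Lib.Helper8.E6M2B
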