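import Mathlib
import Cfsg.Agent.Lib.Helper2.E6M2DefsB
import Cfsg.Agent.Lib.Helper2.E6M2H
import Cfsg.Agent.Lib.Helper2.E6M2C12
import Cfsg.Agent.Lib.Helper6.E6M2CONJ
import Cfsg.Agent.Lib.Helper8.E6M2RR

set_option autoImplicit false

/-!
Farm E6M2 (statement S2341), layer B2, unit RR2 in its verbatim form.
-/

namespace Cfsg.Agent.Lib.Helper8.E6M2BV

open Cfsg.Agent.Lib.Helper2.E6M2B

section B

variable {F Lam L G : Type*} [Field F] [Fintype F] [DecidableEq F] [AddCommGroup Lam]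
  [Module F Lam] [Fintype Lam] [DecidableEq Lam] [Group L] [Group G] (D : Data F Lam L G) (m : ℕ)
  (hD : Rel D m)

include hD in
theorem char_side {V : Type*} [AddCommGroup V] [Module ℂ V] [FiniteDimensional ℂ V]
    (ρ : Representation ℂ G V) (hm : 2 ≤ m) :
    ∃ a : ℕ, (Module.finrank ℂ V : ℂ) = fZ D ρ.character +
        ((Fintype.card F : ℂ) - 1) * (Fintype.card F : ℂ) ^ m * a ∧
      fZ D ρ.character = ∑ l : AddChar Lam ℂ, cM D ρ.character l ∧
      ∑ l ∈ Finset.univ.filter (fun l : AddChar Lam ℂ => ¬ ∀ t : F, l (t • D.e1) = 1),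
          cM D ρ.character l =
        ((Fintype.card F : ℂ) - 1) * (Fintype.card F : ℂ) ^ (m - 1) * a ∧
      f90 D ρ.character = ((Fintype.card F : ℂ) - 1) * (Fintype.card F : ℂ) ^ (m - 2) * a +
        ∑ l ∈ Finset.univ.filter (fun l : AddChar Lam ℂ =>
          (∀ t : F, l (t • D.e1) = 1) ∧ ∀ u : F, l (u • D.e2) = 1), cM D ρ.character l :=
  Helper8.E6M2B.char_side_of D m ρ hm (Helper2.E6M2H.heis D m hD ρ)
    (Helper2.E6M2C12.sum_cM D m hD ρ.character) (Helper2.E6M2C12.sum_cM_e1 D m hD ρ.character)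
    (Helper2.E6M2C12.sum_cM_e12 D m hD ρ.character)
    (Helper6.E6M2CONJ.fZ_eq_f1 D m hD ρ.character (Helper8.E6M.character_conj ρ))
    (Helper6.E6M2CONJ.f90_eq_f2 D m hD ρ.character (Helper8.E6M.character_conj ρ))

end B

end Cfsg.Agent.Lib.Helper8.E6M2BV
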