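import Mathlib
import Cfsg.Agent.Lib.Helper2.E6M2DefsB
import Cfsg.Agent.Lib.Helper8.E6MTRACE
import Cfsg.Agent.Lib.Helper8.E6M2PROJ

set_option autoImplicit false
set_option linter.unusedSectionVars false
set_option linter.unusedVariables false

/-!
Farm E6M2 (statement S2341), layer B2, unit TRACE2: `q · dim C_V(Z X_δ)` computed on the module
side.
-/

namespace Cfsg.Agent.Lib.Helper8.E6M2B

open Cfsg.Agent.Lib.Helper2.E6M2B

section Dm

variable {F Lam L G : Type*} [Field F] [Fintype F] [DecidableEq F] [AddCommGroup Lam]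
  [Module F Lam] [Fintype Lam] [DecidableEq Lam] [Group L] [Group G] (D : Data F Lam L G) (m : ℕ)
  (hD : Rel D m)
  {V : Type*} [AddCommGroup V] [Module ℂ V] [FiniteDimensional ℂ V] (ρ : Representation ℂ G V)

theorem actC_one (l : AddChar Lam ℂ) : actC D 1 l = l := by
  apply DFunLike.ext
  intro s
  rw [actC_apply, inv_one, map_one]
  rfl

include hD in
theorem trace_identity
    (hS : ∀ l : AddChar Lam ℂ, l ≠ 0 → cM D ρ.character l = 0 ∨ cM D ρ.character l = 1)
    (htl : ∀ (t : F) (l : AddChar Lam ℂ), l ≠ 0 → cM D ρ.character l = 1 →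
      actC D (D.xd t) l = l → ρ (D.phi (D.xd t)) ∘ₗ eL D ρ l = eL D ρ l)
    (hfree : ∀ (t : F), t ≠ 0 → ∀ l : AddChar Lam ℂ, actC D (D.xd t) l = l → ¬ moved D l)
    (htriv : ∀ t : F, ρ (D.phi (D.xd t)) ∘ₗ eL D ρ 0 = eL D ρ 0) :
    (Fintype.card F : ℂ) * f90 D ρ.character = (Fintype.card F : ℂ) * cM D ρ.character 0 +
      (Fintype.card F : ℂ) * ∑ l ∈ Finset.univ.filter (fun l : AddChar Lam ℂ => l ≠ 0),
        cM D ρ.character l -
      ((Fintype.card F : ℂ) - 1) *
        ∑ l ∈ Finset.univ.filter (fun l : AddChar Lam ℂ => ∃ t : F, actC D (D.xd t) l ≠ l),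
          cM D ρ.character l := by
  classical
  have hq : (Fintype.card F : ℂ) ≠ 0 := Nat.cast_ne_zero.2 Fintype.card_ne_zero
  have hEc' : ∀ (g : L) (l : AddChar Lam ℂ),
      ρ (D.phi g) * eL D ρ l = eL D ρ (actC D g l) * ρ (D.phi g) := eL_conj D m hD ρ
  have htl' : ∀ (t : F) (l : AddChar Lam ℂ), l ≠ 0 → cM D ρ.character l = 1 →
      actC D (D.xd t) l = l → ρ (D.phi (D.xd t)) * eL D ρ l = eL D ρ l := htl
  have htriv' : ∀ t : F, ρ (D.phi (D.xd t)) * eL D ρ 0 = eL D ρ 0 := htriv
  have hidem : ∀ l : AddChar Lam ℂ, eL D ρ l * eL D ρ l = eL D ρ l := eL_idem D m hD ρ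
  have horth : ∀ l l' : AddChar Lam ℂ, l ≠ l' → eL D ρ l * eL D ρ l' = 0 := eL_orth D m hD ρ
  -- the action of `x_t` on the characters
  set act : F → AddChar Lam ℂ → AddChar Lam ℂ := fun t l => actC D (D.xd t) l with hact
  -- the trace of `eL l * ρ (x_t)`
  have hterm : ∀ (t : F) (l : AddChar Lam ℂ),
      LinearMap.trace ℂ V (eL D ρ l * ρ (D.phi (D.xd t))) =
        if act t l = l then cM D ρ.character l else 0 := by
    intro t l
    rw [LinearMap.trace_mul_comm]
    split_ifs with hfix
    · -- fixed: `ρ (x_t)` is trivial on the range of `eL l`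
      have hx : ρ (D.phi (D.xd t)) * eL D ρ l = eL D ρ l := by
        by_cases hl0 : l = 0
        · subst hl0; exact htriv' t
        · rcases hS l hl0 with h0 | h1
          · have : eL D ρ l = 0 :=
              Helper8.E6M.eq_zero_of_trace_zero _ (hidem l) (by rw [trace_eL, h0])
            rw [this, mul_zero]
          · exact htl' t l hl0 h1 hfix
      rw [hx, trace_eL]
    · -- moved: orthogonality
      have h1 : ρ (D.phi (D.xd t)) * eL D ρ l =
          (eL D ρ (act t l) * ρ (D.phi (D.xd t))) * eL D ρ l := by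
        conv_lhs => rw [← hidem l, ← mul_assoc]
        rw [hEc' (D.xd t) l]
      rw [h1, LinearMap.trace_mul_comm, ← mul_assoc, horth l (act t l) (Ne.symm hfix), zero_mul,
        map_zero]
  -- `q f90` as a sum of traces
  have hf90 : (Fintype.card F : ℂ) * f90 D ρ.character =
      ∑ t : F, ∑ l : AddChar Lam ℂ, LinearMap.trace ℂ V (eL D ρ l * ρ (D.phi (D.xd t))) := by
    have h1 : ∀ t : F, ∑ l : AddChar Lam ℂ,
        LinearMap.trace ℂ V (eL D ρ l * ρ (D.phi (D.xd t))) =
        (Fintype.card F : ℂ)⁻¹ * ∑ r : F, ρ.character (D.Psi r 0 * D.phi (D.xd t)) := by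
      intro t
      rw [← map_sum, ← Finset.sum_mul, sum_eL D m hD ρ, smul_mul_assoc, map_smul, smul_eq_mul,
        Finset.sum_mul, map_sum]
      congr 1
      apply Finset.sum_congr rfl
      intro r _
      rw [← map_mul]
      rfl
    rw [Finset.sum_congr rfl (fun t _ => h1 t), ← Finset.mul_sum, Finset.sum_comm]
    unfold f90
    field_simp
  rw [hf90, Finset.sum_congr rfl (fun t _ => Finset.sum_congr rfl (fun l _ => hterm t l))]
  -- split `t = 0` and `t ≠ 0`
  have hall : ∑ l : AddChar Lam ℂ, cM D ρ.character l = cM D ρ.character 0 +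
      ∑ l ∈ Finset.univ.filter (fun l : AddChar Lam ℂ => l ≠ 0), cM D ρ.character l := by
    rw [← Finset.sum_filter_add_sum_filter_not Finset.univ (fun l : AddChar Lam ℂ => l = 0)]
    congr 1
    rw [Finset.filter_eq' Finset.univ (0 : AddChar Lam ℂ), if_pos (Finset.mem_univ _),
      Finset.sum_singleton]
  have hmv : ∑ l : AddChar Lam ℂ, cM D ρ.character l =
      ∑ l ∈ Finset.univ.filter (fun l : AddChar Lam ℂ => ∃ t : F, actC D (D.xd t) l ≠ l),
        cM D ρ.character l +
      ∑ l ∈ Finset.univ.filter (fun l : AddChar Lam ℂ => ¬ ∃ t : F, actC D (D.xd t) l ≠ l),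
        cM D ρ.character l :=
    (Finset.sum_filter_add_sum_filter_not Finset.univ
      (fun l : AddChar Lam ℂ => ∃ t : F, actC D (D.xd t) l ≠ l) _).symm
  have h0 : ∑ l : AddChar Lam ℂ, (if act 0 l = l then cM D ρ.character l else 0) =
      ∑ l : AddChar Lam ℂ, cM D ρ.character l := by
    apply Finset.sum_congr rfl
    intro l _
    have : act 0 l = l := by
      show actC D (D.xd 0) l = l
      rw [hD.xd_zero, actC_one]
    rw [if_pos this]
  have hne : ∀ t : F, t ≠ 0 →
      ∑ l : AddChar Lam ℂ, (if act t l = l then cM D ρ.character l else 0) =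
        ∑ l ∈ Finset.univ.filter (fun l : AddChar Lam ℂ => ¬ ∃ t : F, actC D (D.xd t) l ≠ l),
          cM D ρ.character l := by
    intro t ht
    rw [Finset.sum_filter]
    apply Finset.sum_congr rfl
    intro l _
    by_cases hm : ∃ t : F, actC D (D.xd t) l ≠ l
    · rw [if_neg (fun h => (hfree t ht l h) hm), if_neg (not_not.mpr hm)]
    · have : act t l = l := by
        by_contra hcon
        exact hm ⟨t, hcon⟩
      rw [if_pos this, if_pos hm]
  rw [← Finset.sum_filter_add_sum_filter_not Finset.univ (fun t : F => t = 0)]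
  rw [Finset.filter_eq' Finset.univ (0 : F), if_pos (Finset.mem_univ _), Finset.sum_singleton, h0]
  rw [Finset.sum_congr rfl (fun t ht => hne t (Finset.mem_filter.mp ht).2), Finset.sum_const,
    ← Nat.cast_smul_eq_nsmul ℂ, smul_eq_mul]
  have hcard : ((Finset.univ.filter (fun t : F => ¬ t = 0)).card : ℂ) =
      (Fintype.card F : ℂ) - 1 := by
    have : (Finset.univ.filter (fun t : F => ¬ t = 0)).card = Fintype.card F - 1 := by
      rw [Finset.filter_not, Finset.card_sdiff_of_subset (Finset.subset_univ _),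
        Finset.filter_eq' Finset.univ (0 : F), if_pos (Finset.mem_univ _), Finset.card_singleton,
        Finset.card_univ]
    rw [this, Nat.cast_sub Fintype.card_pos, Nat.cast_one]
  rw [hcard]
  have e1 := hall
  have e2 := hmv
  linear_combination (Fintype.card F : ℂ) * e1 - ((Fintype.card F : ℂ) - 1) * e2 +
    ((Fintype.card F : ℂ) - 1) * e1 - ((Fintype.card F : ℂ) - 1) * e1

end Dm

end Cfsg.Agent.Lib.Helper8.E6M2B
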