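import Mathlib

set_option autoImplicit false

/-!
Farm E6M (statement S2340): the arithmetic of the final assembly (unit ASM).
-/

namespace Cfsg.Agent.Lib.Helper8.E6M

/-- the case `a ≥ 2` -/
theorem asm_arith_two (q k S a : ℕ) (hq : 2 ≤ q) (ha : 2 ≤ a)
    (hk : k = S + (q - 1) * q ^ 10 * a) (hS : (q - 1) * q ^ 9 * a ≤ S) :
    q * (q ^ 6 + q ^ 3 + 1) * (q ^ 4 + 1) ≤ k := by
  obtain ⟨m, rfl⟩ : ∃ m, q = m + 2 := ⟨q - 2, by omega⟩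
  obtain ⟨b, rfl⟩ : ∃ b, a = b + 2 := ⟨a - 2, by omega⟩
  have e1 : m + 2 - 1 = m + 1 := by omega
  rw [e1] at hk hS
  have h1 : (m + 1) * (m + 2) ^ 9 * 2 ≤ (m + 1) * (m + 2) ^ 9 * (b + 2) :=
    Nat.mul_le_mul_left _ (by omega)
  have h2 : (m + 1) * (m + 2) ^ 10 * 2 ≤ (m + 1) * (m + 2) ^ 10 * (b + 2) :=
    Nat.mul_le_mul_left _ (by omega)
  have h3 : (m + 1) * (m + 2) ^ 9 * 2 + (m + 1) * (m + 2) ^ 10 * 2 =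
      (m + 2) * ((m + 2) ^ 6 + (m + 2) ^ 3 + 1) * ((m + 2) ^ 4 + 1) +
        (590 + 5071 * m + 16376 * m ^ 2 + 29088 * m ^ 3 + 32765 * m ^ 4 + 25003 * m ^ 5 +
          13314 * m ^ 6 + 4975 * m ^ 7 + 1283 * m ^ 8 + 218 * m ^ 9 + 22 * m ^ 10 + m ^ 11) := by
    ring
  omega

/-- `(q^6 - q) / (q - 1) = q^5 + q^4 + q^3 + q^2 + q` -/
theorem asm_div (q : ℕ) (hq : 2 ≤ q) :
    (q ^ 6 - q) / (q - 1) = q ^ 5 + q ^ 4 + q ^ 3 + q ^ 2 + q := by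
  obtain ⟨m, rfl⟩ : ∃ m, q = m + 2 := ⟨q - 2, by omega⟩
  have e1 : m + 2 - 1 = m + 1 := by omega
  rw [e1]
  apply Nat.div_eq_of_eq_mul_right (by omega)
  apply Nat.sub_eq_of_eq_add
  ring

/-- the case `a = 1`, `W` non-trivial -/
theorem asm_arith_one (q k c0 Snz : ℕ) (hq : 2 ≤ q)
    (hk : k = c0 + Snz + (q - 1) * q ^ 10) (hn : (q ^ 6 - q) / (q - 1) ≤ c0)
    (hdec : (q ^ 3 + 1) * (q ^ 2 + 1) * (q ^ 5 - 1) ≤ Snz) :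
    q * (q ^ 6 + q ^ 3 + 1) * (q ^ 4 + 1) - 1 ≤ k := by
  rw [asm_div q hq] at hn
  obtain ⟨m, rfl⟩ : ∃ m, q = m + 2 := ⟨q - 2, by omega⟩
  have e1 : m + 2 - 1 = m + 1 := by omega
  rw [e1] at hk
  have e5 : (m + 2) ^ 5 - 1 + 1 = (m + 2) ^ 5 := Nat.sub_add_cancel (Nat.one_le_pow _ _ (by omega))
  have h3 : (m + 2) * ((m + 2) ^ 6 + (m + 2) ^ 3 + 1) * ((m + 2) ^ 4 + 1) +
      ((m + 2) ^ 3 + 1) * ((m + 2) ^ 2 + 1) =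
      ((m + 2) ^ 5 + (m + 2) ^ 4 + (m + 2) ^ 3 + (m + 2) ^ 2 + (m + 2)) +
        ((m + 2) ^ 3 + 1) * ((m + 2) ^ 2 + 1) * ((m + 2) ^ 5 - 1 + 1) +
        (m + 1) * (m + 2) ^ 10 + 1 := by
    rw [e5]; ring
  have h4 : ((m + 2) ^ 3 + 1) * ((m + 2) ^ 2 + 1) * ((m + 2) ^ 5 - 1 + 1) =
      ((m + 2) ^ 3 + 1) * ((m + 2) ^ 2 + 1) * ((m + 2) ^ 5 - 1) +
        ((m + 2) ^ 3 + 1) * ((m + 2) ^ 2 + 1) := by ring
  omega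

/-- the case `a = 1`, `W` trivial: the trace identity fails -/
theorem asm_arith_contra (q c0 Snz SP SX S45 NP NM : ℕ) (f90 : ℂ) (hq : 2 ≤ q)
    (hf : f90 = ((q : ℂ) - 1) * (q : ℂ) ^ 8 + SP)
    (hall : c0 + Snz = SP + SX + S45)
    (h45 : S45 + NP = (q - 1) * q ^ 9)
    (hSX : SX = (q - 1) * q ^ 9)
    (hNP : NP = (q - 1) * q ^ 5 * ((q ^ 2 - 1) * (q ^ 2 - q)))
    (hNM : NM = (q - 1) * (q ^ 9 + q ^ 8 + 2 * q ^ 7 + q ^ 6 + q ^ 5))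
    (htr : (q : ℂ) * f90 = (q : ℂ) * c0 + (q : ℂ) * Snz - ((q : ℂ) - 1) * NM) : False := by
  obtain ⟨m, rfl⟩ : ∃ m, q = m + 2 := ⟨q - 2, by omega⟩
  have e1 : m + 2 - 1 = m + 1 := by omega
  have e2 : (m + 2) ^ 2 - 1 = (m + 1) * (m + 3) := by
    apply Nat.sub_eq_of_eq_add; ring
  have e3 : (m + 2) ^ 2 - (m + 2) = (m + 1) * (m + 2) := by
    apply Nat.sub_eq_of_eq_add; ring
  rw [e1] at h45 hSX hNP hNM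
  rw [e2, e3] at hNP
  have hallC : (c0 : ℂ) + Snz = SP + SX + S45 := by exact_mod_cast hall
  have h45C : (S45 : ℂ) + NP = ((m : ℂ) + 1) * ((m : ℂ) + 2) ^ 9 := by exact_mod_cast h45
  have hSXC : (SX : ℂ) = ((m : ℂ) + 1) * ((m : ℂ) + 2) ^ 9 := by exact_mod_cast hSX
  have hNPC : (NP : ℂ) = ((m : ℂ) + 1) * ((m : ℂ) + 2) ^ 5 *
      ((((m : ℂ) + 1) * ((m : ℂ) + 3)) * (((m : ℂ) + 1) * ((m : ℂ) + 2))) := by exact_mod_cast hNP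
  have hNMC : (NM : ℂ) = ((m : ℂ) + 1) * (((m : ℂ) + 2) ^ 9 + ((m : ℂ) + 2) ^ 8 +
      2 * ((m : ℂ) + 2) ^ 7 + ((m : ℂ) + 2) ^ 6 + ((m : ℂ) + 2) ^ 5) := by exact_mod_cast hNM
  push_cast at hf htr
  have key : ((m : ℂ) + 1) * ((m : ℂ) + 2) ^ 5 = 0 := by
    rw [hf] at htr
    linear_combination (-1 : ℂ) * htr - ((m : ℂ) + 2) * hallC - ((m : ℂ) + 2) * h45C
      - ((m : ℂ) + 2) * hSXC + ((m : ℂ) + 2) * hNPC + ((m : ℂ) + 2 - 1) * hNMC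
  have hm1 : ((m : ℂ) + 1) ≠ 0 := by exact_mod_cast (Nat.succ_ne_zero m)
  have hm2 : ((m : ℂ) + 2) ≠ 0 := by exact_mod_cast (Nat.succ_ne_zero (m + 1))
  exact mul_ne_zero hm1 (pow_ne_zero _ hm2) key

end Cfsg.Agent.Lib.Helper8.E6M
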