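import Mathlib

set_option autoImplicit false

/-!
Farm E6M (statement S2340), unit DIV: the number `D - 1`, where
`D = q (q^6 + q^3 + 1) (q^4 + 1)`, does not divide
`q^36 (q^2-1)(q^5-1)(q^6-1)(q^8-1)(q^9-1)(q^12-1)` for any natural number `q ≥ 2`.
Pure arithmetic, Mathlib only.
-/

namespace Cfsg.Agent.Lib.Helper8.E6M

/-- the cofactor `g` of `D - 1 = (q^2 - q + 1) g` -/
def gZ (Q : ℤ) : ℤ := Q ^ 9 + Q ^ 8 + Q ^ 5 + Q ^ 4 + Q ^ 3 + Q ^ 2 - 1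

theorem Dm1_eq (Q : ℤ) :
    Q * (Q ^ 6 + Q ^ 3 + 1) * (Q ^ 4 + 1) - 1 = (Q ^ 2 - Q + 1) * gZ Q := by
  unfold gZ; ring

theorem isCoprime_two_of_odd {X : ℤ} (m : ℤ) (h : X = 2 * m + 1) : IsCoprime (2 : ℤ) X :=
  ⟨-m, 1, by rw [h]; ring⟩

theorem isCoprime_of_lin {G X A B : ℤ} {j : ℕ} (h : A * G + B * X = 2 ^ j) (m : ℤ)
    (hX : X = 2 * m + 1) : IsCoprime G X := by
  have h2 : IsCoprime ((2 : ℤ) ^ j) X := (isCoprime_two_of_odd m hX).pow_left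
  rw [← h] at h2
  have h3 : IsCoprime (A * G) X := IsCoprime.add_mul_right_left_iff.mp h2
  exact h3.of_mul_left_right

theorem cop_Q (Q : ℤ) : IsCoprime (gZ Q) Q :=
  ⟨-1, Q + Q ^ 2 + Q ^ 3 + Q ^ 4 + Q ^ 7 + Q ^ 8, by unfold gZ; ring⟩

theorem cop_Qp1 (Q : ℤ) : IsCoprime (gZ Q) (Q + 1) :=
  ⟨-1, Q ^ 2 + Q ^ 4 + Q ^ 8, by unfold gZ; ring⟩

theorem cop_Q2p1 (Q : ℤ) : IsCoprime (gZ Q) (Q ^ 2 + 1) :=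
  ⟨-Q, 1 - Q - Q ^ 2 + 2 * Q ^ 3 + 2 * Q ^ 4 - Q ^ 5 - Q ^ 6 + Q ^ 7 + Q ^ 8, by unfold gZ; ring⟩

theorem cop_Q4p1 (Q : ℤ) : IsCoprime (gZ Q) (Q ^ 4 + 1) :=
  ⟨-1 + Q - Q ^ 2, Q + Q ^ 4 + Q ^ 7, by unfold gZ; ring⟩

theorem cop_Phi9 (Q : ℤ) : IsCoprime (gZ Q) (Q ^ 6 + Q ^ 3 + 1) :=
  ⟨-1 + Q - Q ^ 2, Q + Q ^ 5, by unfold gZ; ring⟩

theorem cop_Phi3 (Q : ℤ) : IsCoprime (gZ Q) (Q ^ 2 + Q + 1) := by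
  obtain ⟨m, hm⟩ := Int.even_mul_succ_self Q
  refine isCoprime_of_lin (A := Q)
    (B := 2 - Q - Q ^ 2 + Q ^ 3 - Q ^ 4 - Q ^ 5 + Q ^ 6 - Q ^ 8) (j := 1) ?_ m ?_
  · unfold gZ; ring
  · have : Q ^ 2 + Q + 1 = Q * (Q + 1) + 1 := by ring
    rw [this, hm]; ring

theorem cop_Phi6 (Q : ℤ) : IsCoprime (gZ Q) (Q ^ 2 - Q + 1) := by
  obtain ⟨m, hm⟩ := Int.even_mul_pred_self Q
  refine isCoprime_of_lin (A := -1)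
    (B := 3 + 3 * Q + Q ^ 2 - Q ^ 3 - Q ^ 4 + Q ^ 5 + 2 * Q ^ 6 + Q ^ 7) (j := 2) ?_ m ?_
  · unfold gZ; ring
  · have : Q ^ 2 - Q + 1 = Q * (Q - 1) + 1 := by ring
    rw [this, hm]; ring

theorem cop_Phi12 (Q : ℤ) : IsCoprime (gZ Q) (Q ^ 4 - Q ^ 2 + 1) := by
  obtain ⟨m, hm⟩ := Int.even_mul_pred_self Q
  refine isCoprime_of_lin (A := -1 + Q - Q ^ 2)
    (B := 1 + Q + Q ^ 2 + Q ^ 3 + Q ^ 4 + Q ^ 5 + Q ^ 7) (j := 1) ?_ (m * (Q * (Q + 1))) ?_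
  · unfold gZ; ring
  · have : Q ^ 4 - Q ^ 2 + 1 = Q * (Q - 1) * (Q * (Q + 1)) + 1 := by ring
    rw [this, hm]; ring

theorem dvd_five_Qm1 (Q d : ℤ) (h1 : d ∣ gZ Q) (h2 : d ∣ Q - 1) : d ∣ 5 := by
  have e : (5 : ℤ) = 1 * gZ Q +
      (-6 - 6 * Q - 5 * Q ^ 2 - 4 * Q ^ 3 - 3 * Q ^ 4 - 2 * Q ^ 5 - 2 * Q ^ 6 - 2 * Q ^ 7 - Q ^ 8)
        * (Q - 1) := by unfold gZ; ring
  rw [e]
  exact dvd_add (dvd_mul_of_dvd_right h1 _) (dvd_mul_of_dvd_right h2 _)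

theorem dvd_five_Phi5 (Q d : ℤ) (h1 : d ∣ gZ Q) (h2 : d ∣ Q ^ 4 + Q ^ 3 + Q ^ 2 + Q + 1) :
    d ∣ 5 := by
  have e : (5 : ℤ) = (-4 + 2 * Q - 2 * Q ^ 2 - Q ^ 3) * gZ Q +
      (1 + Q - Q ^ 3 + 3 * Q ^ 4 + 2 * Q ^ 5 - 3 * Q ^ 6 + 2 * Q ^ 7 + Q ^ 8)
        * (Q ^ 4 + Q ^ 3 + Q ^ 2 + Q + 1) := by unfold gZ; ring
  rw [e]
  exact dvd_add (dvd_mul_of_dvd_right h1 _) (dvd_mul_of_dvd_right h2 _)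

/-- factorisation of the order polynomial -/
theorem order_factor (Q : ℤ) :
    Q ^ 36 * (Q ^ 2 - 1) * (Q ^ 5 - 1) * (Q ^ 6 - 1) * (Q ^ 8 - 1) * (Q ^ 9 - 1) * (Q ^ 12 - 1) =
      ((Q - 1) ^ 6 * (Q ^ 4 + Q ^ 3 + Q ^ 2 + Q + 1)) *
        (Q ^ 36 * (Q + 1) ^ 4 * (Q ^ 2 + Q + 1) ^ 3 * (Q ^ 2 + 1) ^ 2 * (Q ^ 2 - Q + 1) ^ 2 *
          (Q ^ 4 + 1) * (Q ^ 6 + Q ^ 3 + 1) * (Q ^ 4 - Q ^ 2 + 1)) := by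
  ring

theorem gZ_dvd_pow_five (Q : ℤ)
    (h : gZ Q ∣ Q ^ 36 * (Q ^ 2 - 1) * (Q ^ 5 - 1) * (Q ^ 6 - 1) * (Q ^ 8 - 1) * (Q ^ 9 - 1) *
      (Q ^ 12 - 1)) : gZ Q ∣ 5 ^ 7 := by
  rw [order_factor] at h
  have hc : IsCoprime (gZ Q)
      (Q ^ 36 * (Q + 1) ^ 4 * (Q ^ 2 + Q + 1) ^ 3 * (Q ^ 2 + 1) ^ 2 * (Q ^ 2 - Q + 1) ^ 2 *
          (Q ^ 4 + 1) * (Q ^ 6 + Q ^ 3 + 1) * (Q ^ 4 - Q ^ 2 + 1)) := by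
    refine IsCoprime.mul_right (IsCoprime.mul_right (IsCoprime.mul_right (IsCoprime.mul_right
      (IsCoprime.mul_right (IsCoprime.mul_right (IsCoprime.mul_right ?_ ?_) ?_) ?_) ?_) ?_) ?_) ?_
    · exact (cop_Q Q).pow_right
    · exact (cop_Qp1 Q).pow_right
    · exact (cop_Phi3 Q).pow_right
    · exact (cop_Q2p1 Q).pow_right
    · exact (cop_Phi6 Q).pow_right
    · exact cop_Q4p1 Q
    · exact cop_Phi9 Q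
    · exact cop_Phi12 Q
  have h1 : gZ Q ∣ (Q - 1) ^ 6 * (Q ^ 4 + Q ^ 3 + Q ^ 2 + Q + 1) := hc.dvd_of_dvd_mul_right h
  have h2 : gZ Q ∣ gcd (gZ Q) ((Q - 1) ^ 6 * (Q ^ 4 + Q ^ 3 + Q ^ 2 + Q + 1)) :=
    dvd_gcd dvd_rfl h1
  have h3 := gcd_mul_dvd_mul_gcd (gZ Q) ((Q - 1) ^ 6) (Q ^ 4 + Q ^ 3 + Q ^ 2 + Q + 1)
  have h4 : gcd (gZ Q) ((Q - 1) ^ 6) ∣ gcd (gZ Q) (Q - 1) ^ 6 := gcd_pow_right_dvd_pow_gcd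
  have h5 : gcd (gZ Q) (Q - 1) ∣ 5 :=
    dvd_five_Qm1 Q _ (gcd_dvd_left _ _) (gcd_dvd_right _ _)
  have h6 : gcd (gZ Q) (Q ^ 4 + Q ^ 3 + Q ^ 2 + Q + 1) ∣ 5 :=
    dvd_five_Phi5 Q _ (gcd_dvd_left _ _) (gcd_dvd_right _ _)
  have h7 : gcd (gZ Q) ((Q - 1) ^ 6) * gcd (gZ Q) (Q ^ 4 + Q ^ 3 + Q ^ 2 + Q + 1) ∣
      (5 : ℤ) ^ 6 * 5 := mul_dvd_mul (h4.trans (pow_dvd_pow_of_dvd h5 6)) h6
  have h8 : (5 : ℤ) ^ 6 * 5 = 5 ^ 7 := by norm_num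
  rw [h8] at h7
  exact h2.trans (h3.trans h7)

theorem not_gZ_dvd (Q : ℤ) (hQ : 2 ≤ Q) :
    ¬ gZ Q ∣ Q ^ 36 * (Q ^ 2 - 1) * (Q ^ 5 - 1) * (Q ^ 6 - 1) * (Q ^ 8 - 1) * (Q ^ 9 - 1) *
      (Q ^ 12 - 1) := by
  intro h
  have h1 := gZ_dvd_pow_five Q h
  have hle : gZ Q ≤ 5 ^ 7 := Int.le_of_dvd (by norm_num) h1
  have hQ3 : Q ≤ 3 := by
    by_contra hcon
    push Not at hcon
    have h4 : (4 : ℤ) ≤ Q := by omega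
    have h9 : (4 : ℤ) ^ 9 ≤ Q ^ 9 := pow_le_pow_left₀ (by norm_num) h4 9
    have hpos : 0 ≤ Q ^ 8 + Q ^ 5 + Q ^ 4 + Q ^ 3 + Q ^ 2 - 1 := by
      have : (1 : ℤ) ≤ Q ^ 2 := by nlinarith
      have := pow_nonneg (by omega : (0 : ℤ) ≤ Q) 8
      have := pow_nonneg (by omega : (0 : ℤ) ≤ Q) 5
      have := pow_nonneg (by omega : (0 : ℤ) ≤ Q) 4
      have := pow_nonneg (by omega : (0 : ℤ) ≤ Q) 3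
      linarith
    unfold gZ at hle
    norm_num at hle h9
    linarith
  interval_cases Q
  · unfold gZ at h1; norm_num at h1
  · unfold gZ at h1; norm_num at h1

/-- DIV, integer form -/
theorem not_dvd_order_int (Q : ℤ) (hQ : 2 ≤ Q) :
    ¬ (Q * (Q ^ 6 + Q ^ 3 + 1) * (Q ^ 4 + 1) - 1) ∣
      Q ^ 36 * (Q ^ 2 - 1) * (Q ^ 5 - 1) * (Q ^ 6 - 1) * (Q ^ 8 - 1) * (Q ^ 9 - 1) * (Q ^ 12 - 1) := by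
  intro h
  rw [Dm1_eq] at h
  exact not_gZ_dvd Q hQ ((Dvd.intro_left _ rfl).trans h)

/-- DIV: `D - 1` does not divide the order polynomial of `E₆(q)` (shape of S1063). -/
theorem not_dvd_order (q : ℕ) (hq : 2 ≤ q) :
    ¬ (q * (q ^ 6 + q ^ 3 + 1) * (q ^ 4 + 1) - 1) ∣
      q ^ 36 * (q ^ 2 - 1) * (q ^ 5 - 1) * (q ^ 6 - 1) * (q ^ 8 - 1) * (q ^ 9 - 1) * (q ^ 12 - 1) := by
  intro h
  have hq1 : 1 ≤ q := by omega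
  have e2 : 1 ≤ q ^ 2 := Nat.one_le_pow _ _ hq1
  have e5 : 1 ≤ q ^ 5 := Nat.one_le_pow _ _ hq1
  have e6 : 1 ≤ q ^ 6 := Nat.one_le_pow _ _ hq1
  have e8 : 1 ≤ q ^ 8 := Nat.one_le_pow _ _ hq1
  have e9 : 1 ≤ q ^ 9 := Nat.one_le_pow _ _ hq1
  have e12 : 1 ≤ q ^ 12 := Nat.one_le_pow _ _ hq1
  have eD : 1 ≤ q * (q ^ 6 + q ^ 3 + 1) * (q ^ 4 + 1) := by
    have : 1 ≤ q ^ 6 + q ^ 3 + 1 := by omega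
    have : 1 ≤ q ^ 4 + 1 := by omega
    exact Nat.one_le_iff_ne_zero.mpr (by positivity)
  have hZ := Int.natCast_dvd_natCast.mpr h
  push_cast [Nat.cast_sub e2, Nat.cast_sub e5, Nat.cast_sub e6, Nat.cast_sub e8, Nat.cast_sub e9,
    Nat.cast_sub e12, Nat.cast_sub eD] at hZ
  exact not_dvd_order_int (q : ℤ) (by exact_mod_cast hq) hZ

/-- DIV, corollary form: a divisor `k` of `|G|`, where `gcd(3,q-1)·|G|` is the order polynomial,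
is not `D - 1`. -/
theorem ne_of_dvd_card (q k c : ℕ) (hq : 2 ≤ q) (hk : k ∣ c)
    (hc : Nat.gcd 3 (q - 1) * c =
      q ^ 36 * (q ^ 2 - 1) * (q ^ 5 - 1) * (q ^ 6 - 1) * (q ^ 8 - 1) * (q ^ 9 - 1) * (q ^ 12 - 1)) :
    k ≠ q * (q ^ 6 + q ^ 3 + 1) * (q ^ 4 + 1) - 1 := by
  rintro rfl
  exact not_dvd_order q hq (hc ▸ hk.mul_left _)

/-- DIV, the form used in the final assembly: from `D - 1 ≤ k` and `k ∣ |G|` get `D ≤ k`. -/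
theorem le_of_pred_le (q k c : ℕ) (hq : 2 ≤ q) (hk : k ∣ c)
    (hc : Nat.gcd 3 (q - 1) * c =
      q ^ 36 * (q ^ 2 - 1) * (q ^ 5 - 1) * (q ^ 6 - 1) * (q ^ 8 - 1) * (q ^ 9 - 1) * (q ^ 12 - 1))
    (hle : q * (q ^ 6 + q ^ 3 + 1) * (q ^ 4 + 1) - 1 ≤ k) :
    q * (q ^ 6 + q ^ 3 + 1) * (q ^ 4 + 1) ≤ k := by
  have := ne_of_dvd_card q k c hq hk hc
  omega

end Cfsg.Agent.Lib.Helper8.E6M
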