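import Mathlib
import Cfsg.Agent.Lib.Helper5.E6MDefs
import Cfsg.Agent.Lib.Helper5.E6MDefs2

set_option autoImplicit false
set_option linter.unusedSectionVars false
set_option linter.unusedVariables false

/-!
Farm E6M (statement S2340): the characters of `Q/Z` fixed by `x_{03}(t)`, `t ≠ 0`, are exactly the
ones that are not `moved` (from the unit MTV, here a hypothesis).
-/

namespace Cfsg.Agent.Lib.Helper8.E6M

open Cfsg.Agent.Lib.Helper5.E6M Matrix

variable {F : Type*} [Field F]

/-- the position `(3,0)` -/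
def p30 : IJ := ⟨(3, 0), by decide⟩

theorem tv_inv_transpose (t : F) :
    ((tv p03 t)⁻¹).1ᵀ = Matrix.transvection (3 : Fin 6) 0 (-t) := by
  have h1 : (tv p03 t)⁻¹ = tv p03 (-t) := by
    apply inv_eq_of_mul_eq_one_right
    apply Subtype.ext
    show Matrix.transvection (0 : Fin 6) 3 t * Matrix.transvection (0 : Fin 6) 3 (-t) = 1
    rw [Matrix.transvection_mul_transvection_same (i := (0 : Fin 6)) (j := 3) (by decide) t (-t),
      add_neg_cancel, Matrix.transvection_zero]
  rw [h1]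
  show (Matrix.transvection (0 : Fin 6) 3 (-t))ᵀ = Matrix.transvection (3 : Fin 6) 0 (-t)
  simp [Matrix.transvection, Matrix.transpose_add]

theorem rsgn_cast_ne_zero (I : T3) (i j : Fin 6) : ((rsgn I i j : ℤ) : F) ≠ 0 := by
  unfold rsgn
  push_cast
  exact pow_ne_zero _ (neg_ne_zero.mpr one_ne_zero)

/-- `repl · 3 0` is injective on the 3-subsets containing `0` and not `3` -/
theorem repl_inj {I I' : T3} (hI : (0 : Fin 6) ∈ I.1 ∧ (3 : Fin 6) ∉ I.1)
    (hI' : (0 : Fin 6) ∈ I'.1 ∧ (3 : Fin 6) ∉ I'.1) (h : repl I 3 0 = repl I' 3 0) : I = I' := by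
  have e1 : (repl I 3 0).1 = insert 3 (I.1.erase 0) := by unfold repl; rw [dif_pos hI]
  have e2 : (repl I' 3 0).1 = insert 3 (I'.1.erase 0) := by unfold repl; rw [dif_pos hI']
  have h3 : insert (3 : Fin 6) (I.1.erase 0) = insert 3 (I'.1.erase 0) := by rw [← e1, ← e2, h]
  apply Subtype.ext
  ext x
  by_cases hx0 : x = 0
  · subst hx0; exact ⟨fun _ => hI'.1, fun _ => hI.1⟩
  · by_cases hx3 : x = 3
    · subst hx3; exact ⟨fun hh => absurd hh hI.2, fun hh => absurd hh hI'.2⟩
    · have := congrArg (fun s : Finset (Fin 6) => x ∈ s) h3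
      simp only [Finset.mem_insert, Finset.mem_erase, hx3, hx0, false_or, ne_eq, not_false_eq_true,
        true_and, eq_iff_iff] at this
      exact this

variable [Fintype F] [DecidableEq F]

/-- MTV summed over the coordinates -/
theorem Mm_tv30_mulVec
    (hMTV : ∀ (p : IJ) (t : F) (I : T3) (a : F),
      Mm (Matrix.transvection p.1.1 p.1.2 t) *ᵥ Pi.single I a =
        Pi.single I a + (if p.1.2 ∈ I.1 ∧ p.1.1 ∉ I.1 then
          Pi.single (repl I p.1.1 p.1.2) (((rsgn I p.1.1 p.1.2 : ℤ) : F) * t * a) else 0))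
    (u : F) (l : T3 → F) :
    Mm (Matrix.transvection (3 : Fin 6) 0 u) *ᵥ l = l + ∑ I : T3,
      (if (0 : Fin 6) ∈ I.1 ∧ (3 : Fin 6) ∉ I.1 then
        Pi.single (repl I 3 0) (((rsgn I 3 0 : ℤ) : F) * u * l I) else 0) := by
  have hl : l = ∑ I : T3, Pi.single I (l I) := (Finset.univ_sum_single l).symm
  conv_lhs => rw [hl]
  rw [Matrix.mulVec_sum]
  have := fun I => hMTV p30 u I (l I)
  simp only [p30] at this
  rw [Finset.sum_congr rfl (fun I _ => this I), Finset.sum_add_distrib, ← hl]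
  rfl

theorem moved_iff_of
    (hMTV : ∀ (p : IJ) (t : F) (I : T3) (a : F),
      Mm (Matrix.transvection p.1.1 p.1.2 t) *ᵥ Pi.single I a =
        Pi.single I a + (if p.1.2 ∈ I.1 ∧ p.1.1 ∉ I.1 then
          Pi.single (repl I p.1.1 p.1.2) (((rsgn I p.1.1 p.1.2 : ℤ) : F) * t * a) else 0))
    (t : F) (ht : t ≠ 0) (l : T3 → F) :
    Mm ((tv p03 t)⁻¹).1ᵀ *ᵥ l = l ↔ ¬ moved l := by
  rw [tv_inv_transpose, Mm_tv30_mulVec hMTV]
  constructor
  · intro h
    rintro ⟨I₀, h0, h3, hne⟩
    have hsum : ∑ I : T3, (if (0 : Fin 6) ∈ I.1 ∧ (3 : Fin 6) ∉ I.1 then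
        Pi.single (repl I 3 0) (((rsgn I 3 0 : ℤ) : F) * (-t) * l I) else 0) = (0 : T3 → F) := by
      have := congrArg (fun v => v - l) h
      simpa using this
    have hK := congrFun hsum (repl I₀ 3 0)
    rw [Finset.sum_apply, Finset.sum_eq_single I₀] at hK
    · rw [if_pos ⟨h0, h3⟩, Pi.single_eq_same] at hK
      simp only [Pi.zero_apply, mul_eq_zero, neg_eq_zero] at hK
      rcases hK with (hK | hK) | hK
      · exact rsgn_cast_ne_zero I₀ 3 0 hK
      · exact ht hK
      · exact hne hK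
    · intro I _ hII
      split_ifs with hc
      · rw [Pi.single_apply, if_neg]
        intro heq
        exact hII (repl_inj hc ⟨h0, h3⟩ heq.symm)
      · rfl
    · intro hh; exact absurd (Finset.mem_univ _) hh
  · intro h
    have : ∀ I : T3, (if (0 : Fin 6) ∈ I.1 ∧ (3 : Fin 6) ∉ I.1 then
        Pi.single (repl I 3 0) (((rsgn I 3 0 : ℤ) : F) * (-t) * l I) else 0) = (0 : T3 → F) := by
      intro I
      split_ifs with hc
      · have hl0 : l I = 0 := by
          by_contra hne
          exact h ⟨I, hc.1, hc.2, hne⟩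
        rw [hl0, mul_zero, Pi.single_zero]
      · rfl
    rw [Finset.sum_congr rfl (fun I _ => this I), Finset.sum_const_zero, add_zero]

end Cfsg.Agent.Lib.Helper8.E6M
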