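import Mathlib
import Cfsg.Agent.Lib.Helper5.E6MDefs
import Cfsg.Agent.Lib.Helper6.E6MMHOM
import Cfsg.Agent.Lib.Helper6.E6MLING
import Cfsg.Agent.Lib.Helper6.E6MSTAB
import Cfsg.Agent.Lib.Helper4.E6MMTV
import Cfsg.Agent.Lib.Helper8.E6MPROJ
import Cfsg.Agent.Lib.Helper8.E6MTRIV
import Cfsg.Agent.Lib.Helper8.E6MTRACE
import Cfsg.Agent.Lib.Helper8.E6MMOVED

set_option autoImplicit false
set_option linter.unusedSectionVars false
set_option linter.unusedVariables false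

/-!
Farm E6M (statement S2340): the units `eL_conj` (PROJ), TRIVLINE and TRACE in their verbatim form,
from the `_of` versions and the units LING, MHOM, STAB, MTV.
-/

namespace Cfsg.Agent.Lib.Helper8.E6MV

open Cfsg.Agent.Lib.Helper5.E6M Matrix

section Dm

variable {F : Type*} [Field F] [Fintype F] [DecidableEq F] {G : Type*} [Group G] (D : Data F G)
  (hD : Rel D) (ψ : AddChar F ℂ) (hψ : ψ ≠ 1)
  {V : Type*} [AddCommGroup V] [Module ℂ V] [FiniteDimensional ℂ V] (ρ : Representation ℂ G V)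
  (φ : SL6 F →* G) (hφ : ∀ (p : IJ) (t : F), φ (tv p t) = D.xij p t)

include hD hφ in
theorem eL_conj (g : SL6 F) (l : T3 → F) :
    ρ (φ g) ∘ₗ eL D ψ ρ l = eL D ψ ρ (Mm (g⁻¹).1ᵀ *ᵥ l) ∘ₗ ρ (φ g) :=
  Helper8.E6M.eL_conj_of (D := D) (ψ := ψ) (ρ := ρ) (φ := φ)
    (fun g s => Helper6.E6MLING.phi_conj_Phi D hD φ hφ g s)
    (fun g g' => Helper6.E6MMHOM.Mm_mul g g') Helper6.E6MMHOM.Mm_one
    Helper6.E6MMHOM.Mm_transpose g l

include hD hψ hφ in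
theorem trivline (g g0 : SL6 F) (c : F) (l : T3 → F) (hl : l = Mm g0.1 *ᵥ Pi.single I012 c)
    (hfix : Mm (g⁻¹).1ᵀ *ᵥ l = l) (h1 : cM D ψ ρ.character l = 1) :
    ρ (φ g) ∘ₗ eL D ψ ρ l = eL D ψ ρ l :=
  Helper8.E6M.trivline_of (D := D) (hD := hD) (ψ := ψ) (ρ := ρ) (φ := φ)
    (eL_conj D hD ψ ρ φ hφ)
    (fun g g' => Helper6.E6MMHOM.Mm_mul g g') Helper6.E6MMHOM.Mm_one
    (fun b => Helper6.E6MSTAB.stab b) g g0 c l hl hfix h1

include hD hψ hφ in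
theorem trace_identity
    (hS : ∀ l : T3 → F, l ≠ 0 → cM D ψ ρ.character l = 0 ∨ (cM D ψ ρ.character l = 1 ∧
      ∃ (g : SL6 F) (c : F), l = Mm g.1 *ᵥ Pi.single I012 c))
    (htriv : ∀ t : F, ρ (D.xij p03 t) ∘ₗ eL D ψ ρ 0 = eL D ψ ρ 0) :
    (Fintype.card F : ℂ) * f90 D ρ.character = (Fintype.card F : ℂ) * cM D ψ ρ.character 0 +
      (Fintype.card F : ℂ) * ∑ l ∈ Finset.univ.filter (fun l : T3 → F => l ≠ 0),
        cM D ψ ρ.character l -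
      ((Fintype.card F : ℂ) - 1) * ∑ l ∈ Finset.univ.filter (fun l : T3 → F => moved l),
        cM D ψ ρ.character l :=
  Helper8.E6M.trace_identity_of (D := D) (hD := hD) (ψ := ψ) (hψ := hψ) (ρ := ρ) (φ := φ)
    (hφ := hφ) (eL_conj D hD ψ ρ φ hφ) (trivline D hD ψ hψ ρ φ hφ) Helper6.E6MMHOM.Mm_one
    (fun t ht l => Helper8.E6M.moved_iff_of
      (fun p t I a => Helper4.E6MMTV.Mm_transvection_single p t I a) t ht l)
    hS htriv

end Dm

end Cfsg.Agent.Lib.Helper8.E6MV
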