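import Mathlib
import Cfsg.Agent.Lib.Helper5.E6MDefs
import Cfsg.Agent.Lib.Helper5.E6MQL
import Cfsg.Agent.Lib.Helper6.E6MPHI
import Cfsg.Agent.Lib.Helper6.E6MCELLS
import Cfsg.Agent.Lib.Helper6.E6MNPAIR
import Cfsg.Agent.Lib.Helper6.DegreeDvd
import Cfsg.Agent.Lib.Helper2.E6MCell
import Cfsg.Agent.Lib.Helper6.E6MLING
import Cfsg.Agent.Lib.Helper6.E6MSUPP
import Cfsg.Agent.Lib.Helper2.E6MNMOV
import Cfsg.Agent.Lib.Helper2.E6MWREP
import Cfsg.Agent.Lib.Helper7.E6MC1
import Cfsg.Agent.Lib.Helper7.E6MINV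
import Cfsg.Agent.Lib.Helper8.E6MTTV
import Cfsg.Agent.Lib.Helper7.TDMAVG
import Cfsg.Agent.Lib.Helper8.E6MDiv
import Cfsg.Agent.Lib.Helper8.E6MASMArith
import Cfsg.Agent.Lib.Helper8.E6MRR

set_option autoImplicit false

namespace Cfsg.Agent.Lib.Helper8.E6M

open Cfsg.Agent.Lib.Helper5.E6M Matrix

/-!
Farm E6M (statement S2340), unit ASM: everything abstract put together.  Here with unit H (`heis`)
as a hypothesis; all other units are the landed ones.
-/

section E

variable {F : Type*} [Field F] [Fintype F] [DecidableEq F] {G : Type*} [Group G] [Finite G]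
  (D : Data F G) (hD : Rel D)

/-- counting a `0/1`-valued function: the sum over a filter is the number of points where it is
one -/
theorem sum_indicator_card {α : Type*} [Fintype α] [DecidableEq α] (c : α → ℕ) (P : α → Prop)
    [DecidablePred P] (S : Set α) (h1 : ∀ x, P x → x ∈ S → c x = 1)
    (h0 : ∀ x, P x → x ∉ S → c x = 0) :
    ∑ x ∈ Finset.univ.filter P, c x = Nat.card {x : α // x ∈ S ∧ P x} := by
  classical
  rw [Nat.card_eq_fintype_card, Fintype.card_subtype]
  rw [Finset.card_eq_sum_ones, Finset.sum_filter, Finset.sum_filter]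
  apply Finset.sum_congr rfl
  intro x _
  by_cases hP : P x
  · by_cases hS : x ∈ S
    · simp [hP, hS, h1 x hP hS]
    · simp [hP, hS, h0 x hP hS]
  · simp [hP]

include hD in
/-- unit ASM with unit H as a hypothesis -/
theorem e6m_bound_of {V : Type*} [AddCommGroup V] [Module ℂ V] [FiniteDimensional ℂ V]
    (ρ : Representation ℂ G V)
    (hheis : ∀ ψ : AddChar F ℂ, ψ ≠ 1 →
      ∃ a : ℕ, (Module.finrank ℂ V : ℂ) = fZ D ρ.character +
        ((Fintype.card F : ℂ) - 1) * (Fintype.card F : ℂ) ^ 10 * a ∧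
      f1 D ρ.character = ZS D ρ.character {I012} +
        ((Fintype.card F : ℂ) - 1) * (Fintype.card F : ℂ) ^ 9 * a ∧
      f2 D ρ.character = ZS D ρ.character {I012, I045} +
        ((Fintype.card F : ℂ) - 1) * (Fintype.card F : ℂ) ^ 8 * a)
    (hirr : ρ.IsIrreducible)
    (hfaith : (∀ r : F, ρ (D.z r) = 1) → Module.finrank ℂ V ≤ 1)
    (hcard : Nat.gcd 3 (Fintype.card F - 1) * Nat.card G =
      Fintype.card F ^ 36 * (Fintype.card F ^ 2 - 1) * (Fintype.card F ^ 5 - 1) *
        (Fintype.card F ^ 6 - 1) * (Fintype.card F ^ 8 - 1) * (Fintype.card F ^ 9 - 1) *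
        (Fintype.card F ^ 12 - 1))
    (h2 : 2 ≤ Module.finrank ℂ V) :
    Fintype.card F * (Fintype.card F ^ 6 + Fintype.card F ^ 3 + 1) * (Fintype.card F ^ 4 + 1) ≤
      Module.finrank ℂ V := by
  classical
  have hq2 : 2 ≤ Fintype.card F := Fintype.one_lt_card
  have hq1 : ((Fintype.card F - 1 : ℕ) : ℂ) = (Fintype.card F : ℂ) - 1 := by
    rw [Nat.cast_sub (by omega)]; simp
  obtain ⟨ψ, hψ1⟩ := (AddChar.exists_apply_ne_zero (α := F) (a := 1)).mpr one_ne_zero
  have hψ : ψ ≠ 1 := by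
    intro h
    rw [h] at hψ1
    exact hψ1 rfl
  obtain ⟨φ, hφ⟩ := Helper6.E6MPHI.exists_phi D hD
  have hχ : ∀ x y, ρ.character (x * y * x⁻¹) = ρ.character y := character_conj ρ
  obtain ⟨a, hk, hfZ, hX, hf90⟩ := char_side_of D hD ψ hψ ρ (hheis ψ hψ)
  -- the multiplicities as natural numbers
  choose c hc using fun l => Helper7.E6M.cM_nat D hD ψ ρ l
  have hinv : ∀ (g : SL6 F) (l : T3 → F), c (Mm g.1 *ᵥ l) = c l := by
    intro g l
    have := Helper7.E6M.cM_inv_of D ψ ρ.character hχ φ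
      (fun g s => Helper6.E6MLING.phi_conj_Phi D hD φ hφ g s) g l
    rw [hc, hc] at this
    exact_mod_cast this
  -- `k = ∑ c + (q-1) q^10 a`
  have hkN : Module.finrank ℂ V = ∑ l : T3 → F, c l +
      (Fintype.card F - 1) * Fintype.card F ^ 10 * a := by
    have : (Module.finrank ℂ V : ℂ) = ((∑ l : T3 → F, c l +
        (Fintype.card F - 1) * Fintype.card F ^ 10 * a : ℕ) : ℂ) := by
      rw [hk, hfZ]
      push_cast
      rw [hq1]
      congr 1
      exact Finset.sum_congr rfl fun l _ => hc l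
    exact_mod_cast this
  have hXN : ∑ l ∈ Finset.univ.filter (fun l : T3 → F => l I012 ≠ 0), c l =
      (Fintype.card F - 1) * Fintype.card F ^ 9 * a := by
    have : ((∑ l ∈ Finset.univ.filter (fun l : T3 → F => l I012 ≠ 0), c l : ℕ) : ℂ) =
        (((Fintype.card F - 1) * Fintype.card F ^ 9 * a : ℕ) : ℂ) := by
      push_cast
      rw [hq1, ← hX]
      exact Finset.sum_congr rfl fun l _ => (hc l).symm
    exact_mod_cast this
  have hXle : ∑ l ∈ Finset.univ.filter (fun l : T3 → F => l I012 ≠ 0), c l ≤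
      ∑ l : T3 → F, c l := Finset.sum_le_sum_of_subset (Finset.filter_subset _ _)
  -- the three cases
  rcases Nat.lt_or_ge a 1 with ha0 | ha1
  · -- `a = 0`: `Z` acts trivially
    have ha : a = 0 := by omega
    subst ha
    exfalso
    have hzadd : ∀ r r', D.z (r + r') = D.z r * D.z r' := by
      intro r r'
      rw [hD.z_eq r', Helper5.E6MQL.z_mul_Phi D hD, ← hD.z_eq]
    have hZ : ∀ r, ρ (D.z r) = 1 := by
      apply Helper7.TDM.rho_eq_one_of_avg ρ D.z hzadd
      rw [hk]
      simp [fZ]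
    have := hfaith hZ
    omega
  rcases Nat.lt_or_ge a 2 with ha1' | ha2
  swap
  · -- `a ≥ 2`
    exact asm_arith_two _ _ _ a hq2 ha2 hkN (hXN ▸ hXle)
  -- `a = 1`
  have ha : a = 1 := by omega
  subst ha
  rw [mul_one] at hkN hXN
  have hcell := Helper6.E6MSUPP.supp c hinv hXN
  have hdec := Helper6.E6MCELLS.cells c hcell
  have hmov := Helper2.E6MNMOVV.nmov c hcell
  -- `k ∣ |G|`
  have := hirr
  have := Fintype.ofFinite G
  have hdvd : Module.finrank ℂ V ∣ Nat.card G := Helper6.finrank_dvd_card ρ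
  -- split `∑ c = c 0 + ∑_{l ≠ 0} c`
  have hsplit0 : ∑ l : T3 → F, c l = c 0 +
      ∑ l ∈ Finset.univ.filter (fun l : T3 → F => l ≠ 0), c l := by
    rw [← Finset.sum_filter_add_sum_filter_not Finset.univ (fun l : T3 → F => l = 0)]
    congr 1
    rw [Finset.filter_eq' Finset.univ (0 : T3 → F)]
    simp
  by_cases htriv : ∀ t : F, ρ (D.xij p03 t) ∘ₗ eL D ψ ρ 0 = eL D ψ ρ 0
  · -- the trace identity fails
    exfalso
    have hS : ∀ l : T3 → F, l ≠ 0 → cM D ψ ρ.character l = 0 ∨ (cM D ψ ρ.character l = 1 ∧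
        ∃ (g : SL6 F) (c : F), l = Mm g.1 *ᵥ Pi.single I012 c) := by
      intro l hl
      obtain ⟨I, hI⟩ : ∃ I : T3, l I ≠ 0 := by
        by_contra hcon
        push Not at hcon
        exact hl (funext hcon)
      by_cases hmem : l ∈ Cell I
      · right
        refine ⟨by rw [hc, (hcell I l hI).1 hmem]; simp, ?_⟩
        obtain ⟨c', A, -, rfl⟩ := hmem
        obtain ⟨g, hg⟩ := Helper2.E6MCellV.cell_orbit I A c'
        exact ⟨g, c', hg⟩
      · left
        rw [hc, (hcell I l hI).2 hmem]; simp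
    have htr := Helper8.E6MV.trace_identity D hD ψ hψ ρ φ hφ hS htriv
    -- the sums
    have hcellsub : ∀ (I : T3) (l : T3 → F), l ∈ Cell I → l I ≠ 0 := by
      rintro I _ ⟨c', A, hc', rfl⟩
      simp only [Pi.smul_apply, smul_eq_mul, Helper2.E6MCellV.cell_coord, mul_one]
      exact hc'
    -- `∑_{l_045 ≠ 0} c = |Cell 045|`
    have h045 : ∑ l ∈ Finset.univ.filter (fun l : T3 → F => l I045 ≠ 0), c l =
        (Fintype.card F - 1) * Fintype.card F ^ 9 := by
      rw [sum_indicator_card c (fun l : T3 → F => l I045 ≠ 0) (Cell I045)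
        (fun l hl hm => (hcell I045 l hl).1 hm) (fun l hl hm => (hcell I045 l hl).2 hm),
        ← Helper2.E6MCellV.cell_card (F := F) I045]
      apply Nat.card_congr
      exact ⟨fun x => ⟨x.1, x.2.1⟩, fun x => ⟨x.1, x.2, hcellsub _ _ x.2⟩, fun _ => rfl,
        fun _ => rfl⟩
    -- `∑_{l_012 ≠ 0, l_045 ≠ 0} c = npair`
    have hboth : ∑ l ∈ Finset.univ.filter (fun l : T3 → F => l I012 ≠ 0 ∧ l I045 ≠ 0), c l =
        (Fintype.card F - 1) * Fintype.card F ^ 5 *
          ((Fintype.card F ^ 2 - 1) * (Fintype.card F ^ 2 - Fintype.card F)) := by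
      rw [sum_indicator_card c (fun l : T3 → F => l I012 ≠ 0 ∧ l I045 ≠ 0) (Cell I012)
        (fun l hl hm => (hcell I012 l hl.1).1 hm) (fun l hl hm => (hcell I012 l hl.1).2 hm),
        ← Helper6.E6MNPAIR.npair (F := F)]
      apply Nat.card_congr
      exact ⟨fun x => ⟨x.1, x.2.1, x.2.2.2⟩, fun x => ⟨x.1, x.2.1, hcellsub _ _ x.2.1, x.2.2⟩,
        fun _ => rfl, fun _ => rfl⟩
    -- partition of everything
    have hp1 : ∑ l : T3 → F, c l =
        ∑ l ∈ Finset.univ.filter (fun l : T3 → F => l I012 = 0 ∧ l I045 = 0), c l +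
        ∑ l ∈ Finset.univ.filter (fun l : T3 → F => l I012 ≠ 0), c l +
        ∑ l ∈ Finset.univ.filter (fun l : T3 → F => l I012 = 0 ∧ l I045 ≠ 0), c l := by
      rw [← Finset.sum_filter_add_sum_filter_not Finset.univ (fun l : T3 → F => l I012 = 0)]
      rw [← Finset.sum_filter_add_sum_filter_not
        (Finset.univ.filter (fun l : T3 → F => l I012 = 0)) (fun l : T3 → F => l I045 = 0)]
      rw [Finset.filter_filter, Finset.filter_filter]
      ring
    have hp2 : ∑ l ∈ Finset.univ.filter (fun l : T3 → F => l I045 ≠ 0), c l =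
        ∑ l ∈ Finset.univ.filter (fun l : T3 → F => l I012 = 0 ∧ l I045 ≠ 0), c l +
        ∑ l ∈ Finset.univ.filter (fun l : T3 → F => l I012 ≠ 0 ∧ l I045 ≠ 0), c l := by
      rw [← Finset.sum_filter_add_sum_filter_not
        (Finset.univ.filter (fun l : T3 → F => l I045 ≠ 0)) (fun l : T3 → F => l I012 = 0)]
      rw [Finset.filter_filter, Finset.filter_filter]
      congr 1
      · apply Finset.sum_congr _ fun _ _ => rfl
        ext l; simp only [Finset.mem_filter, Finset.mem_univ, true_and]; tauto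
      · apply Finset.sum_congr _ fun _ _ => rfl
        ext l; simp only [Finset.mem_filter, Finset.mem_univ, true_and]; tauto
    refine asm_arith_contra (Fintype.card F) (c 0)
      (∑ l ∈ Finset.univ.filter (fun l : T3 → F => l ≠ 0), c l)
      (∑ l ∈ Finset.univ.filter (fun l : T3 → F => l I012 = 0 ∧ l I045 = 0), c l)
      (∑ l ∈ Finset.univ.filter (fun l : T3 → F => l I012 ≠ 0), c l)
      (∑ l ∈ Finset.univ.filter (fun l : T3 → F => l I012 = 0 ∧ l I045 ≠ 0), c l)
      (∑ l ∈ Finset.univ.filter (fun l : T3 → F => l I012 ≠ 0 ∧ l I045 ≠ 0), c l)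
      (∑ l ∈ Finset.univ.filter (fun l : T3 → F => moved l), c l)
      (f90 D ρ.character) hq2 ?_ ?_ ?_ hXN hboth hmov ?_
    · rw [hf90, Nat.cast_one, mul_one]
      congr 1
      push_cast
      exact Finset.sum_congr rfl fun l _ => hc l
    · rw [← hsplit0, hp1]
    · rw [← hp2, h045]
    · have hcs : ∀ s : Finset (T3 → F), ∑ l ∈ s, cM D ψ ρ.character l =
          ((∑ l ∈ s, c l : ℕ) : ℂ) := by
        intro s
        push_cast
        exact Finset.sum_congr rfl fun l _ => hc l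
      rw [htr, hc 0, hcs, hcs]
  · -- `W` is a non-trivial `SL₆`-module
    obtain ⟨n, hn, hle⟩ := Helper2.E6MWREPV.c0_ge D hD ψ ρ φ hφ htriv
    have hn' : c 0 = n := by
      rw [hc] at hn
      exact_mod_cast hn
    apply le_of_pred_le (Fintype.card F) _ (Nat.card G) hq2 hdvd hcard
    apply asm_arith_one (Fintype.card F) _ (c 0)
      (∑ l ∈ Finset.univ.filter (fun l : T3 → F => l ≠ 0), c l) hq2 ?_ (hn' ▸ hle) hdec
    rw [hkN, hsplit0]

end E

end Cfsg.Agent.Lib.Helper8.E6M
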