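import Mathlib
import Cfsg.Agent.Lib.Helper2.E6M2DefsB
import Cfsg.Agent.Lib.Helper3.E6M2DefsC
import Cfsg.Agent.Lib.Helper8.E6M2RRV
import Cfsg.Agent.Lib.Helper2.E6M2C12
import Cfsg.Agent.Lib.Helper6.E6M2INV
import Cfsg.Agent.Lib.Helper8.E6M2TRIV
import Cfsg.Agent.Lib.Helper8.E6M2TRACE
import Cfsg.Agent.Lib.Helper2.E6M2WREP
import Cfsg.Agent.Lib.Helper6.E6M2SUPP
import Cfsg.Agent.Lib.Helper6.E6M2CELL
import Cfsg.Agent.Lib.Helper3.E6M2SUPPFULLV
import Cfsg.Agent.Lib.Helper3.E6M2NPAIRV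
import Cfsg.Agent.Lib.Helper2.E6M2NMOVV
import Cfsg.Agent.Lib.Helper7.E6M2LAM
import Cfsg.Agent.Lib.Helper6.DegreeDvd
import Cfsg.Agent.Lib.Helper7.TDMAVG
import Cfsg.Agent.Lib.Helper8.E6M2Div
import Cfsg.Agent.Lib.Helper8.E6M2ASMArith
import Cfsg.Agent.Lib.Helper8.E6MASM
import Cfsg.Agent.Lib.Helper8.E6M2Bridge

set_option autoImplicit false

/-!
Farm E6M2 (statement S2341), unit ASM2: the abstract assembly from layer B2 (characters), layer C2
(combinatorics of the `σ`-fixed lattice) and DIV2, over an explicit bridge between the two layers.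
-/

namespace Cfsg.Agent.Lib.Helper8.E6M2

open Cfsg.Agent.Lib.Helper5.E6M Cfsg.Agent.Lib.Helper2.E6M2B Cfsg.Agent.Lib.Helper3.E6M2C Matrix

-- the units of the layers B2 and C2
open Cfsg.Agent.Lib.Helper8.E6M2BV (char_side)
open Cfsg.Agent.Lib.Helper2.E6M2C12 (cM_nat)
open Cfsg.Agent.Lib.Helper6.E6M2INV (cM_inv)
open Cfsg.Agent.Lib.Helper8.E6M2B (trivline trace_identity)
open Cfsg.Agent.Lib.Helper2.E6M2WREP (c0_ge)
open Cfsg.Agent.Lib.Helper6.E6M2SUPP (supp2)
open Cfsg.Agent.Lib.Helper6.E6M2CELL (cell_card2 cell_orbit2)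
open Cfsg.Agent.Lib.Helper3.E6M2SUPPFULLV (supp_full)
open Cfsg.Agent.Lib.Helper3.E6M2NPAIRV (npair2)
open Cfsg.Agent.Lib.Helper2.E6M2NMOVV (nmov2 cells2)
open Cfsg.Agent.Lib.Helper7.E6M2C (inLam_RJ inLam_zero)

section E

variable {F Lam L G : Type*} [Field F] [Fintype F] [DecidableEq F] [AddCommGroup Lam]
  [Module F Lam] [Fintype Lam] [DecidableEq Lam] [Group L] [Group G] [Finite G]
  {K : Type*} [Field K] [Fintype K] [DecidableEq K]
  (q : ℕ) (hq : IsPrimePow q) (hF : Fintype.card F = q) (hK : Fintype.card K = q ^ 2)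
  (D : Data F Lam L G) (hD : Rel D 10) (B : Bridge D q K)

include hq hF hK hD B in
/-- unit ASM2 -/
theorem e6m2_bound {V : Type} [AddCommGroup V] [Module ℂ V] [FiniteDimensional ℂ V]
    (ρ : Representation ℂ G V) (hirr : ρ.IsIrreducible)
    (hfaith : (∀ r : F, ρ (D.Psi r 0) = 1) → Module.finrank ℂ V ≤ 1)
    (hcard : Nat.gcd 3 (q + 1) * Nat.card G =
      q ^ 36 * (q ^ 2 - 1) * (q ^ 5 + 1) * (q ^ 6 - 1) * (q ^ 8 - 1) * (q ^ 9 + 1) * (q ^ 12 - 1))
    (h2 : 2 ≤ Module.finrank ℂ V) :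
    q * (q ^ 6 - q ^ 3 + 1) * (q ^ 4 + 1) ≤ Module.finrank ℂ V := by
  classical
  have hq2 : 2 ≤ q := hq.two_le
  have hqF : (Fintype.card F : ℂ) = (q : ℂ) := by rw [hF]
  have hq1 : ((q - 1 : ℕ) : ℂ) = (q : ℂ) - 1 := by
    rw [Nat.cast_sub (by omega)]; simp
  have hχ : ∀ x y, ρ.character (x * y * x⁻¹) = ρ.character y := Helper8.E6M.character_conj ρ
  obtain ⟨a, hk, hfZ, hX, hf90⟩ := char_side D 10 hD ρ (by norm_num)
  rw [hqF] at hk hX hf90
  rw [show (10 : ℕ) - 1 = 9 from rfl] at hX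
  rw [show (10 : ℕ) - 2 = 8 from rfl] at hf90
  -- the multiplicities as natural numbers
  choose n hn using fun l => cM_nat D 10 hD ρ l
  set c : (T3 → K) → ℕ := fun l => if InLam q l then n (B.Θ l) else 0 with hcdef
  have hcL : ∀ l, InLam q l → c l = n (B.Θ l) := fun l hl => by rw [hcdef]; simp [hl]
  have hinv : ∀ (g : SL6 K), g ∈ RJ q → ∀ l : T3 → K, InLam q l → c (Mm g.1 *ᵥ l) = c l := by
    intro g hg l hl
    rw [hcL _ (inLam_RJ q hq hK g hg l hl), hcL l hl]
    obtain ⟨g0, hg0⟩ := B.act g hg l hl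
    have := cM_inv D 10 hD ρ.character hχ g0 (B.Θ l)
    rw [hg0, hn, hn] at this
    exact_mod_cast this
  -- sums over characters as sums over the lattice
  have hre : ∀ (P' : AddChar Lam ℂ → Prop) [DecidablePred P'] (P : (T3 → K) → Prop)
      [DecidablePred P], (∀ l, InLam q l → (P' (B.Θ l) ↔ P l)) →
      ∑ χ ∈ Finset.univ.filter P', cM D ρ.character χ =
        ((∑ l ∈ Finset.univ.filter (fun l : T3 → K => InLam q l ∧ P l), c l : ℕ) : ℂ) := by
    intro P' _ P _ h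
    rw [B.reindex P' P h]
    push_cast
    apply Finset.sum_congr rfl
    intro l hl
    rw [hcL l (Finset.mem_filter.1 hl).2.1, hn]
  have hall : ∑ χ : AddChar Lam ℂ, cM D ρ.character χ =
      ((∑ l ∈ Finset.univ.filter (fun l : T3 → K => InLam q l), c l : ℕ) : ℂ) := by
    have := hre (fun _ => True) (fun _ => True) (fun _ _ => Iff.rfl)
    simpa using this
  -- `k = ∑ c + (q-1) q^10 a`
  have hkN : Module.finrank ℂ V = ∑ l ∈ Finset.univ.filter (fun l : T3 → K => InLam q l), c l +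
      (q - 1) * q ^ 10 * a := by
    have : (Module.finrank ℂ V : ℂ) = ((∑ l ∈ Finset.univ.filter
        (fun l : T3 → K => InLam q l), c l + (q - 1) * q ^ 10 * a : ℕ) : ℂ) := by
      rw [hk, hfZ, hall]
      push_cast
      rw [hq1]
    exact_mod_cast this
  have hXN : ∑ l ∈ Finset.univ.filter (fun l : T3 → K => InLam q l ∧ l I012 ≠ 0), c l =
      (q - 1) * q ^ 9 * a := by
    have h1 := hre (fun χ => ¬ ∀ t : F, χ (t • D.e1) = 1) (fun l => l I012 ≠ 0) B.e1
    have : ((∑ l ∈ Finset.univ.filter (fun l : T3 → K => InLam q l ∧ l I012 ≠ 0), c l : ℕ) : ℂ) =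
        (((q - 1) * q ^ 9 * a : ℕ) : ℂ) := by
      rw [← h1, hX]
      push_cast
      rw [hq1]
    exact_mod_cast this
  have hXle : ∑ l ∈ Finset.univ.filter (fun l : T3 → K => InLam q l ∧ l I012 ≠ 0), c l ≤
      ∑ l ∈ Finset.univ.filter (fun l : T3 → K => InLam q l), c l := by
    apply Finset.sum_le_sum_of_subset
    intro l hl
    rw [Finset.mem_filter] at hl ⊢
    exact ⟨hl.1, hl.2.1⟩
  -- the three cases
  rcases Nat.lt_or_ge a 1 with ha0 | ha1
  · -- `a = 0`: `Z` acts trivially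
    have ha : a = 0 := by omega
    subst ha
    exfalso
    have hzadd : ∀ r r', D.Psi (r + r') 0 = D.Psi r 0 * D.Psi r' 0 := by
      intro r r'
      rw [hD.qlaw]
      simp
    have hZ : ∀ r, ρ (D.Psi r 0) = 1 := by
      apply Helper7.TDM.rho_eq_one_of_avg ρ (fun r => D.Psi r 0) hzadd
      rw [hk]
      simp [Helper2.E6M2B.fZ]
    have := hfaith hZ
    omega
  rcases Nat.lt_or_ge a 2 with ha1' | ha2
  swap
  · -- `a ≥ 2`
    exact asm2_arith_two _ _ _ a hq2 ha2 hkN (hXN ▸ hXle)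
  -- `a = 1`
  have ha : a = 1 := by omega
  subst ha
  rw [mul_one] at hkN hXN
  have hcell := supp2 q hq hK c hinv hXN
  have hfull := supp_full q hq hK c hinv hcell
  have hdec := cells2 q hq hK c hcell
  have hmov := nmov2 q hq hK c hcell hfull
  -- `k ∣ |G|`
  have := hirr
  have := Fintype.ofFinite G
  have hdvd : Module.finrank ℂ V ∣ Nat.card G := Helper6.finrank_dvd_card ρ
  have hL0 : InLam q (0 : T3 → K) := inLam_zero q hq
  -- split `∑ c = c 0 + ∑_{l ≠ 0} c`
  have hsplit0 : ∑ l ∈ Finset.univ.filter (fun l : T3 → K => InLam q l), c l = c 0 +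
      ∑ l ∈ Finset.univ.filter (fun l : T3 → K => InLam q l ∧ l ≠ 0), c l := by
    rw [← Finset.sum_filter_add_sum_filter_not (Finset.univ.filter (fun l : T3 → K => InLam q l))
      (fun l : T3 → K => l = 0), Finset.filter_filter, Finset.filter_filter]
    congr 1
    have : Finset.univ.filter (fun l : T3 → K => InLam q l ∧ l = 0) = {0} := by
      ext l
      simp only [Finset.mem_filter, Finset.mem_univ, true_and, Finset.mem_singleton]
      exact ⟨fun h => h.2, fun h => ⟨h ▸ hL0, h⟩⟩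
    rw [this, Finset.sum_singleton]
  have hc0 : cM D ρ.character 0 = (c 0 : ℂ) := by
    rw [hcL 0 hL0, B.zero, hn]
  by_cases htriv : ∀ t : F, ρ (D.phi (D.xd t)) ∘ₗ eL D ρ 0 = eL D ρ 0
  · -- the trace identity fails
    exfalso
    have hS' : ∀ l : T3 → K, InLam q l → l ≠ 0 → c l = 0 ∨ (c l = 1 ∧
        ∃ (g : SL6 K) (c' : K), g ∈ RJ q ∧ c' ^ q = c' ∧ c' ≠ 0 ∧
          l = Mm g.1 *ᵥ Pi.single I012 c') := by
      intro l hl hl0
      rcases hfull l hl hl0 with h0 | ⟨h1, I, hI, -, hmem⟩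
      · exact Or.inl h0
      · exact Or.inr ⟨h1, cell_orbit2 q hq hK I hI l hmem hl⟩
    have hS : ∀ χ : AddChar Lam ℂ, χ ≠ 0 → cM D ρ.character χ = 0 ∨ cM D ρ.character χ = 1 := by
      intro χ hχ0
      obtain ⟨l, hl, rfl⟩ := B.bij.surjOn (Set.mem_univ χ)
      have hl0 : l ≠ 0 := by
        rintro rfl
        exact hχ0 B.zero
      rw [hn, ← hcL l hl]
      rcases hS' l hl hl0 with h0 | ⟨h1, -⟩
      · left; rw [h0]; simp
      · right; rw [h1]; simp
    have htl : ∀ (t : F) (χ : AddChar Lam ℂ), χ ≠ 0 → cM D ρ.character χ = 1 →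
        actC D (D.xd t) χ = χ → ρ (D.phi (D.xd t)) ∘ₗ eL D ρ χ = eL D ρ χ := by
      intro t χ hχ0 h1 hfix
      obtain ⟨l, hl, rfl⟩ := B.bij.surjOn (Set.mem_univ χ)
      have hl0 : l ≠ 0 := by
        rintro rfl
        exact hχ0 B.zero
      rcases hS' l hl hl0 with h0 | ⟨-, g, c', hg, hc', hc'0, rfl⟩
      · exfalso
        rw [hn, ← hcL l hl, h0] at h1
        simp at h1
      · obtain ⟨H, hH, hmem⟩ := B.stab g hg c' hc' hc'0 t hfix
        exact trivline D 10 hD ρ H _ hH h1 _ hmem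
    have hfree : ∀ (t : F), t ≠ 0 → ∀ χ : AddChar Lam ℂ, actC D (D.xd t) χ = χ →
        ¬ moved D χ := by
      intro t ht χ hfix
      obtain ⟨l, hl, rfl⟩ := B.bij.surjOn (Set.mem_univ χ)
      rintro ⟨u, hu⟩
      exact hu (B.mov l hl (B.free t ht l hl hfix) u)
    have htr := trace_identity D 10 hD ρ hS htl hfree htriv
    rw [hqF] at htr
    -- the sums
    have hmv : ∑ χ ∈ Finset.univ.filter (fun χ : AddChar Lam ℂ => ∃ t : F,
        actC D (D.xd t) χ ≠ χ), cM D ρ.character χ =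
        ((∑ l ∈ Finset.univ.filter (fun l : T3 → K => InLam q l ∧ moved2 l), c l : ℕ) : ℂ) := by
      apply hre
      intro l hl
      constructor
      · rintro ⟨t, ht⟩
        by_contra hm
        exact ht (B.mov l hl hm t)
      · intro hm
        by_contra hcon
        push Not at hcon
        obtain ⟨t, ht⟩ : ∃ t : F, t ≠ 0 := ⟨1, one_ne_zero⟩
        exact B.free t ht l hl (hcon t) hm
    have hnz : ∑ χ ∈ Finset.univ.filter (fun χ : AddChar Lam ℂ => χ ≠ 0), cM D ρ.character χ =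
        ((∑ l ∈ Finset.univ.filter (fun l : T3 → K => InLam q l ∧ l ≠ 0), c l : ℕ) : ℂ) := by
      apply hre
      intro l hl
      constructor
      · intro h1 h0
        exact h1 (h0 ▸ B.zero)
      · intro h1 h0
        apply h1
        exact B.bij.injOn hl hL0 (h0.trans B.zero.symm)
    have hP : ∑ χ ∈ Finset.univ.filter (fun χ : AddChar Lam ℂ =>
        (∀ t : F, χ (t • D.e1) = 1) ∧ ∀ u : F, χ (u • D.e2) = 1), cM D ρ.character χ =
        ((∑ l ∈ Finset.univ.filter (fun l : T3 → K => InLam q l ∧ (l I012 = 0 ∧ l I034 = 0)),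
          c l : ℕ) : ℂ) := by
      apply hre
      intro l hl
      have h1 := B.e1 l hl
      have h2 := B.e2 l hl
      constructor
      · rintro ⟨ha, hb⟩
        refine ⟨?_, h2.1 hb⟩
        by_contra hne
        exact (h1.2 hne) ha
      · rintro ⟨ha, hb⟩
        refine ⟨?_, h2.2 hb⟩
        by_contra hne
        exact (h1.1 hne) ha
    rw [hmv, hnz, hc0] at htr
    rw [hP] at hf90
    have hcellsub : ∀ (I : T3) (l : T3 → K), l ∈ Cell I → l I ≠ 0 := by
      rintro I _ ⟨c', A, hc', rfl⟩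
      simp only [Pi.smul_apply, smul_eq_mul, Helper2.E6MCellV.cell_coord, mul_one]
      exact hc'
    have hI034 : IsLong I034 := by decide
    have hI012 : IsLong I012 := by decide
    -- `∑_{l_034 ≠ 0} c = |Cell 034 ∩ Λ|`
    have h034 : ∑ l ∈ Finset.univ.filter (fun l : T3 → K => InLam q l ∧ l I034 ≠ 0), c l =
        (q - 1) * q ^ 9 := by
      rw [Helper8.E6M.sum_indicator_card c (fun l : T3 → K => InLam q l ∧ l I034 ≠ 0) (Cell I034)
        (fun l hl hm => (hcell I034 hI034 l hl.1 hl.2).1 hm)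
        (fun l hl hm => (hcell I034 hI034 l hl.1 hl.2).2 hm),
        ← cell_card2 q hq hK I034 hI034]
      apply Nat.card_congr
      exact ⟨fun x => ⟨x.1, x.2.1, x.2.2.1⟩, fun x => ⟨x.1, x.2.1, x.2.2, hcellsub _ _ x.2.1⟩,
        fun _ => rfl, fun _ => rfl⟩
    have hboth : ∑ l ∈ Finset.univ.filter
        (fun l : T3 → K => InLam q l ∧ (l I012 ≠ 0 ∧ l I034 ≠ 0)), c l =
        (q - 1) ^ 2 * q ^ 6 * (q ^ 2 + 1) := by
      rw [Helper8.E6M.sum_indicator_card c
        (fun l : T3 → K => InLam q l ∧ (l I012 ≠ 0 ∧ l I034 ≠ 0)) (Cell I012)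
        (fun l hl hm => (hcell I012 hI012 l hl.1 hl.2.1).1 hm)
        (fun l hl hm => (hcell I012 hI012 l hl.1 hl.2.1).2 hm),
        ← npair2 q hq hK]
      apply Nat.card_congr
      exact ⟨fun x => ⟨x.1, x.2.1, x.2.2.1, x.2.2.2.2⟩,
        fun x => ⟨x.1, x.2.1, x.2.2.1, hcellsub _ _ x.2.1, x.2.2.2⟩, fun _ => rfl, fun _ => rfl⟩
    -- partitions
    have hp1 : ∑ l ∈ Finset.univ.filter (fun l : T3 → K => InLam q l), c l =
        ∑ l ∈ Finset.univ.filter (fun l : T3 → K => InLam q l ∧ (l I012 = 0 ∧ l I034 = 0)), c l +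
        ∑ l ∈ Finset.univ.filter (fun l : T3 → K => InLam q l ∧ l I012 ≠ 0), c l +
        ∑ l ∈ Finset.univ.filter (fun l : T3 → K => InLam q l ∧ (l I012 = 0 ∧ l I034 ≠ 0)),
          c l := by
      rw [← Finset.sum_filter_add_sum_filter_not
        (Finset.univ.filter (fun l : T3 → K => InLam q l)) (fun l : T3 → K => l I012 = 0)]
      rw [← Finset.sum_filter_add_sum_filter_not
        ((Finset.univ.filter (fun l : T3 → K => InLam q l)).filter
          (fun l : T3 → K => l I012 = 0)) (fun l : T3 → K => l I034 = 0)]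
      simp only [Finset.filter_filter, and_assoc]
      ring
    have hp2 : ∑ l ∈ Finset.univ.filter (fun l : T3 → K => InLam q l ∧ l I034 ≠ 0), c l =
        ∑ l ∈ Finset.univ.filter (fun l : T3 → K => InLam q l ∧ (l I012 = 0 ∧ l I034 ≠ 0)), c l +
        ∑ l ∈ Finset.univ.filter (fun l : T3 → K => InLam q l ∧ (l I012 ≠ 0 ∧ l I034 ≠ 0)),
          c l := by
      rw [← Finset.sum_filter_add_sum_filter_not
        (Finset.univ.filter (fun l : T3 → K => InLam q l ∧ l I034 ≠ 0))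
        (fun l : T3 → K => l I012 = 0)]
      rw [Finset.filter_filter, Finset.filter_filter]
      congr 1
      · apply Finset.sum_congr _ fun _ _ => rfl
        ext l; simp only [Finset.mem_filter, Finset.mem_univ, true_and]; tauto
      · apply Finset.sum_congr _ fun _ _ => rfl
        ext l; simp only [Finset.mem_filter, Finset.mem_univ, true_and]; tauto
    refine asm2_arith_contra q (c 0)
      (∑ l ∈ Finset.univ.filter (fun l : T3 → K => InLam q l ∧ l ≠ 0), c l)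
      (∑ l ∈ Finset.univ.filter (fun l : T3 → K => InLam q l ∧ (l I012 = 0 ∧ l I034 = 0)), c l)
      (∑ l ∈ Finset.univ.filter (fun l : T3 → K => InLam q l ∧ l I012 ≠ 0), c l)
      (∑ l ∈ Finset.univ.filter (fun l : T3 → K => InLam q l ∧ (l I012 = 0 ∧ l I034 ≠ 0)), c l)
      (∑ l ∈ Finset.univ.filter (fun l : T3 → K => InLam q l ∧ (l I012 ≠ 0 ∧ l I034 ≠ 0)), c l)
      (∑ l ∈ Finset.univ.filter (fun l : T3 → K => InLam q l ∧ moved2 l), c l)
      (f90 D ρ.character) hq2 ?_ ?_ ?_ hXN hboth hmov htr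
    · rw [hf90]; simp
    · rw [← hsplit0, hp1]
    · rw [← hp2, h034]
  · -- `W` is a non-trivial `L`-module
    obtain ⟨n0, hn0, hle⟩ := c0_ge D 10 hD ρ ((q ^ 6 - 1) / (q + 1)) B.nontriv htriv
    have hn' : c 0 = n0 := by
      rw [hc0] at hn0
      exact_mod_cast hn0
    apply le_of_pred_le q _ (Nat.card G) hq2 hdvd hcard
    apply asm2_arith_one q _ (c 0)
      (∑ l ∈ Finset.univ.filter (fun l : T3 → K => InLam q l ∧ l ≠ 0), c l) hq2 ?_
      (hn' ▸ hle) hdec
    rw [hkN, hsplit0]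

end E

end Cfsg.Agent.Lib.Helper8.E6M2
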