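import Mathlib
import Cfsg.Agent.Lib.Helper3.E6M2DefsC
import Cfsg.Agent.Lib.Helper6.E6M2Frob
import Cfsg.Agent.Lib.Helper6.E6M2TORUS
import Cfsg.Agent.Lib.Helper6.E6MSUPP
import Cfsg.Agent.Lib.Helper8.E6MTRIV
import Cfsg.Agent.Lib.Helper8.E6MMOVED

set_option autoImplicit false

/-!
Farm E6M2 (statement S2341), BRIDGE part 1 (pure `K`-coordinates):
* `RJ q` is stable under the inverse-transpose automorphism `invT` of `SL₆(K)`;
* MOVED2: for `t ≠ 0` the element `((x_{05}(t))⁻¹)ᵀ` fixes `l` iff `¬ moved2 l`.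
-/

namespace Cfsg.Agent.Lib.Helper8.E6M2

open Cfsg.Agent.Lib.Helper5.E6M Cfsg.Agent.Lib.Helper3.E6M2C Cfsg.Agent.Lib.Helper8.E6M Matrix

section invT

variable {K : Type*} [Field K]

theorem tv_inv (p : IJ) (t : K) : (tv p t)⁻¹ = tv p (-t) := by
  apply inv_eq_of_mul_eq_one_right
  apply Subtype.ext
  show Matrix.transvection p.1.1 p.1.2 t * Matrix.transvection p.1.1 p.1.2 (-t) = 1
  rw [Matrix.transvection_mul_transvection_same (i := p.1.1) (j := p.1.2) p.2 t (-t),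
    add_neg_cancel, Matrix.transvection_zero]

/-- the transposed position -/
def swp (p : IJ) : IJ := ⟨(p.1.2, p.1.1), fun h => p.2 h.symm⟩

theorem invT_tv (p : IJ) (t : K) : invT (tv p t) = tv (swp p) (-t) := by
  apply Subtype.ext
  rw [invT_coe, tv_inv]
  show (Matrix.transvection p.1.1 p.1.2 (-t))ᵀ = Matrix.transvection p.1.2 p.1.1 (-t)
  rw [Matrix.transvection, Matrix.transvection, Matrix.transpose_add, Matrix.transpose_one,
    Matrix.transpose_single]

theorem swp_revp : ∀ p : IJ, swp (revp p) = revp (swp p) := by decide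

theorem swp_lpos : ∀ i : Fin 6, swp (lpos i) = lpos (Fin.rev i) := by decide

theorem mS_swp : ∀ p : IJ, mS (swp p).1.1 * mS (swp p).1.2 = mS p.1.1 * mS p.1.2 := by decide

end invT

section closure

variable {K : Type*} [Field K] [Fintype K] (q : ℕ) (hq : IsPrimePow q)
  (hK : Fintype.card K = q ^ 2)

include hq hK in
theorem invT_xs (p : IJ) (t : K) : invT (xs q p t) = xs q (swp p) (-t) := by
  unfold xs
  rw [map_mul, invT_tv, invT_tv, swp_revp, Helper6.E6M2Frob.neg_pow_q q hq hK, mS_swp]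
  congr 2
  ring

omit [Fintype K] in
theorem invT_xl (i : Fin 6) (t : K) : invT (xl i t) = xl (Fin.rev i) (-t) := by
  unfold xl
  rw [invT_tv, swp_lpos]

include hq hK in
/-- `RJ q` is stable under `g ↦ (g⁻¹)ᵀ` -/
theorem invT_mem_RJ (g : SL6 K) (hg : g ∈ RJ q) : invT g ∈ RJ q := by
  have hle : RJ q ≤ (RJ q).comap (invT (F := K)) := by
    unfold RJ
    rw [Subgroup.closure_le]
    rintro x (⟨p, t, rfl⟩ | ⟨i, t, ht, rfl⟩)
    · show invT (xs q p t) ∈ Subgroup.closure _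
      rw [invT_xs q hq hK]
      exact Helper6.E6M2TORUS.xs_mem q _ _
    · show invT (xl i t) ∈ Subgroup.closure _
      rw [invT_xl]
      apply Helper6.E6M2TORUS.xl_mem q
      rw [Helper6.E6M2Frob.neg_pow_q q hq hK, ht]
  exact hle hg

end closure

section moved

variable {K : Type*} [Field K]

set_option maxRecDepth 100000 in
theorem repl05_facts : ∀ I : T3, (0 : Fin 6) ∈ I.1 → (5 : Fin 6) ∉ I.1 →
    ((5 : Fin 6) ∈ (repl I 5 0).1 ∧ (0 : Fin 6) ∉ (repl I 5 0).1 ∧ repl (repl I 5 0) 0 5 = I) := by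
  decide +kernel

set_option maxRecDepth 100000 in
theorem repl50_facts : ∀ J : T3, (5 : Fin 6) ∈ J.1 → (0 : Fin 6) ∉ J.1 →
    ((0 : Fin 6) ∈ (repl J 0 5).1 ∧ (5 : Fin 6) ∉ (repl J 0 5).1) := by
  decide +kernel

/-- the position `(5,0)` -/
def p50 : IJ := ⟨(5, 0), by decide⟩

theorem invT_xl0 (t : K) : ((xl 0 t)⁻¹).1ᵀ = Matrix.transvection (5 : Fin 6) 0 (-t) := by
  have h := invT_tv (lpos 0) t
  have h2 := congrArg Subtype.val h
  rw [invT_coe] at h2
  exact h2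

/-- the characters not moved by `X_{05}` are fixed by every `x_{05}(t)` -/
theorem not_moved2_fixed (t : K) (l : T3 → K) (h : ¬ moved2 l) :
    Mm ((xl 0 t)⁻¹).1ᵀ *ᵥ l = l := by
  rw [invT_xl0]
  funext J
  have hco := Helper6.E6MSUPP.tv_coord p50 (-t) l J
  rw [show Matrix.transvection p50.1.1 p50.1.2 (-t) = Matrix.transvection (5 : Fin 6) 0 (-t)
    from rfl] at hco
  rw [hco]
  split_ifs with hc
  · obtain ⟨g1, g2⟩ := repl50_facts J hc.1 hc.2
    have hl0 : l (repl J p50.1.2 p50.1.1) = 0 := by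
      by_contra hne
      exact h ⟨repl J 0 5, g1, g2, hne⟩
    rw [hl0, mul_zero, mul_zero, add_zero]
  · rw [mul_zero, add_zero]

/-- a character fixed by `x_{05}(t)`, `t ≠ 0`, is not moved -/
theorem not_moved2_of_fixed (t : K) (ht : t ≠ 0) (l : T3 → K)
    (h : Mm ((xl 0 t)⁻¹).1ᵀ *ᵥ l = l) : ¬ moved2 l := by
  rw [invT_xl0] at h
  rintro ⟨I, h0, h5, hne⟩
  obtain ⟨f1, f2, f3⟩ := repl05_facts I h0 h5
  have hJ := congrFun h (repl I 5 0)
  have hco := Helper6.E6MSUPP.tv_coord p50 (-t) l (repl I 5 0)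
  rw [show Matrix.transvection p50.1.1 p50.1.2 (-t) = Matrix.transvection (5 : Fin 6) 0 (-t)
    from rfl] at hco
  rw [hco] at hJ
  have hcond : p50.1.1 ∈ (repl I 5 0).1 ∧ p50.1.2 ∉ (repl I 5 0).1 := ⟨f1, f2⟩
  rw [if_pos hcond] at hJ
  have hr : repl (repl I 5 0) p50.1.2 p50.1.1 = I := f3
  rw [hr] at hJ
  have h3 : -t * (((rsgn I p50.1.1 p50.1.2 : ℤ) : K) * l I) = 0 := by
    have := hJ
    linear_combination this
  rcases mul_eq_zero.1 h3 with h4 | h4
  · exact ht (neg_eq_zero.1 h4)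
  · rcases mul_eq_zero.1 h4 with h5' | h5'
    · exact rsgn_cast_ne_zero I _ _ h5'
    · exact hne h5'

/-- MOVED2: the characters fixed by `x_{05}(t)`, `t ≠ 0` -/
theorem moved2_iff (t : K) (ht : t ≠ 0) (l : T3 → K) :
    Mm ((xl 0 t)⁻¹).1ᵀ *ᵥ l = l ↔ ¬ moved2 l :=
  ⟨not_moved2_of_fixed t ht l, not_moved2_fixed t l⟩

end moved

end Cfsg.Agent.Lib.Helper8.E6M2
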