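import Mathlib
import Cfsg.Agent.Lib.Helper3.E6M2DefsC
import Cfsg.Agent.Lib.Helper6.E6M2Frob
import Cfsg.Agent.Lib.Helper2.E6M2DUAL

set_option autoImplicit false

/-!
Farm E6M2 (statement S2341), BRIDGE part 2: the dot product is `F_q`-valued and non-degenerate on
the `σ`-fixed lattice `{l : T3 → K | InLam q l}`.
-/

namespace Cfsg.Agent.Lib.Helper8.E6M2

open Cfsg.Agent.Lib.Helper5.E6M Cfsg.Agent.Lib.Helper3.E6M2C Matrix

theorem tauI_tauI : ∀ I : T3, tauI (tauI I) = I := by decide

theorem epsI_tauI : ∀ I : T3, epsI (tauI I) = epsI I := by decide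

theorem epsI_long : ∀ I : T3, IsLong I → epsI I = 1 := by decide

theorem isLong_012 : IsLong I012 := by decide

theorem isLong_034 : IsLong I034 := by decide

/-- `tauI` as a permutation -/
def tauPerm : Equiv.Perm T3 := Function.Involutive.toPerm tauI tauI_tauI

section lattice

variable {K : Type*} [Field K] [Fintype K] (q : ℕ) (hq : IsPrimePow q)
  (hK : Fintype.card K = q ^ 2)

omit [Fintype K] in
theorem epsI_sq (I : T3) : ((epsI I : ℤ) : K) * ((epsI I : ℤ) : K) = 1 := by
  unfold epsI
  split_ifs <;> simp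

omit [Fintype K] in
/-- `(l I)^q` in terms of the coordinate `tauI I` -/
theorem pow_q_of_inLam (l : T3 → K) (hl : InLam q l) (I : T3) :
    l I ^ q = ((epsI I : ℤ) : K) * l (tauI I) := by
  rw [hl I, ← mul_assoc, epsI_sq, one_mul]

include hq hK in
/-- the dot product of two vectors of the lattice is fixed by the Frobenius -/
theorem dot_fix (l s : T3 → K) (hl : InLam q l) (hs : InLam q s) :
    (l ⬝ᵥ s) ^ q = l ⬝ᵥ s := by
  unfold dotProduct
  rw [Helper6.E6M2Frob.sum_pow_q q hq hK]
  rw [← Equiv.sum_comp tauPerm (fun I => l I * s I)]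
  apply Finset.sum_congr rfl
  intro I _
  show (l I * s I) ^ q = l (tauI I) * s (tauI I)
  rw [mul_pow, pow_q_of_inLam q l hl, pow_q_of_inLam q s hs]
  have := epsI_sq (K := K) I
  linear_combination (l (tauI I) * s (tauI I)) * this

include hq hK in
/-- the test vectors `y e_I + ε_I y^q e_{τ I}` of the lattice -/
theorem inLam_test (I : T3) (y : K) :
    InLam q ((Pi.single I y + Pi.single (tauI I) (((epsI I : ℤ) : K) * y ^ q) : T3 → K)) := by
  intro J
  simp only [Pi.add_apply]
  have hqq : (y ^ q) ^ q = y := Helper6.E6M2Frob.pow_q_pow_q q hK y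
  have he : (((epsI I : ℤ) : K)) ^ q = ((epsI I : ℤ) : K) :=
    Helper6.E6M2Frob.intCast_pow_q q hq hK _
  rw [Helper6.E6M2Frob.add_pow_q q hq hK]
  by_cases h1 : J = I
  · subst h1
    by_cases h2 : tauI J = J
    · rw [h2, Pi.single_eq_same, Pi.single_eq_same, mul_pow, he, hqq]
      have := epsI_sq (K := K) J
      linear_combination (-y) * this
    · have h3 : J ≠ tauI J := fun h => h2 h.symm
      rw [Pi.single_eq_same, Pi.single_eq_of_ne h2, Pi.single_eq_same, Pi.single_eq_of_ne h3]
      simp [zero_pow (IsPrimePow.pos hq).ne']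
  · by_cases h2 : J = tauI I
    · subst h2
      rw [tauI_tauI]
      have h3 : I ≠ tauI I := fun h => h1 h.symm
      rw [Pi.single_eq_of_ne h3, Pi.single_eq_same, Pi.single_eq_of_ne h1, Pi.single_eq_same,
        mul_pow, he, hqq, epsI_tauI]
      have := epsI_sq (K := K) I
      simp only [zero_pow (IsPrimePow.pos hq).ne', zero_add, add_zero]
      linear_combination (-y) * this
    · have h3 : tauI J ≠ I := by
        intro h
        apply h2
        rw [← h, tauI_tauI]
      have h4 : tauI J ≠ tauI I := by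
        intro h
        apply h1
        rw [← tauI_tauI J, h, tauI_tauI]
      rw [Pi.single_eq_of_ne h3, Pi.single_eq_of_ne h4, Pi.single_eq_of_ne h1,
        Pi.single_eq_of_ne h2]
      simp [zero_pow (IsPrimePow.pos hq).ne']

omit [Fintype K] in
/-- the dot product with a test vector is a trace -/
theorem dot_test (l : T3 → K) (hl : InLam q l) (I : T3) (y : K) :
    l ⬝ᵥ ((Pi.single I y + Pi.single (tauI I) (((epsI I : ℤ) : K) * y ^ q) : T3 → K)) =
      l I * y + (l I * y) ^ q := by
  rw [dotProduct_add, dotProduct_single, dotProduct_single, hl I, mul_pow]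
  have := epsI_sq (K := K) I
  linear_combination (l I ^ q * y ^ q) * this

end lattice

end Cfsg.Agent.Lib.Helper8.E6M2
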