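import Mathlib
import Cfsg.Agent.Lib.Helper2.E6M2DefsB
import Cfsg.Agent.Lib.Helper3.E6M2DefsC
import Cfsg.Agent.Lib.Helper2.E6M2DUAL
import Cfsg.Agent.Lib.Helper8.E6M2BR2

set_option autoImplicit false
set_option linter.unusedSectionVars false
set_option linter.unusedVariables false

/-!
Farm E6M2 (statement S2341), BRIDGE part 3: the pairing `P x s = co x ⬝ᵥ co s ∈ F` on an
`F`-space `Lam` with coordinates `co : Lam →ₗ[F] (T3 → K)` onto the lattice, the characters
`Θ l = ψ ∘ P (co⁻¹ l)`, and the first half of the bridge (`bij`, `zero`, `e1`, `e2`).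
-/

namespace Cfsg.Agent.Lib.Helper8.E6M2

open Cfsg.Agent.Lib.Helper5.E6M Cfsg.Agent.Lib.Helper3.E6M2C Matrix

section setup

variable {F K : Type*} [Field F] [Fintype F] [Field K] [Fintype K] [Algebra F K]
  (q : ℕ) (hq : IsPrimePow q) (hF : Fintype.card F = q) (hK : Fintype.card K = q ^ 2)
  (fix : ∀ x : K, x ^ q = x ↔ ∃ y : F, algebraMap F K y = x)

/-- a retraction of `K` onto `F` -/
noncomputable def ret (x : K) : F := by
  classical
  exact if h : ∃ y : F, algebraMap F K y = x then h.choose else 0

theorem ret_algebraMap (y : F) : ret (algebraMap F K y) = y := by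
  classical
  unfold ret
  have h : ∃ y' : F, algebraMap F K y' = algebraMap F K y := ⟨y, rfl⟩
  rw [dif_pos h]
  exact (algebraMap F K).injective h.choose_spec

include fix in
theorem algebraMap_ret (x : K) (hx : x ^ q = x) : algebraMap F K (ret x : F) = x := by
  classical
  unfold ret
  have h : ∃ y : F, algebraMap F K y = x := (fix x).1 hx
  rw [dif_pos h]
  exact h.choose_spec

include fix in
theorem ret_eq_zero_iff (x : K) (hx : x ^ q = x) : (ret x : F) = 0 ↔ x = 0 := by
  constructor
  · intro h
    rw [← algebraMap_ret q fix x hx, h, map_zero]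
  · rintro rfl
    have := ret_algebraMap (F := F) (K := K) 0
    rwa [map_zero] at this

include hq hK fix in
theorem ret_add (a b : K) (ha : a ^ q = a) (hb : b ^ q = b) :
    (ret (a + b) : F) = ret a + ret b := by
  apply (algebraMap F K).injective
  have hab : (a + b) ^ q = a + b := by rw [Helper6.E6M2Frob.add_pow_q q hq hK, ha, hb]
  rw [map_add, algebraMap_ret q fix _ hab, algebraMap_ret q fix _ ha, algebraMap_ret q fix _ hb]

include fix in
theorem ret_mul (t : F) (a : K) (ha : a ^ q = a) :
    (ret (algebraMap F K t * a) : F) = t * ret a := by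
  apply (algebraMap F K).injective
  have ht : (algebraMap F K t) ^ q = algebraMap F K t := (fix _).2 ⟨t, rfl⟩
  have hta : (algebraMap F K t * a) ^ q = algebraMap F K t * a := by rw [mul_pow, ht, ha]
  rw [map_mul, algebraMap_ret q fix _ hta, algebraMap_ret q fix _ ha]

include hq hF hK fix in
/-- not every element of `K` is fixed by the Frobenius -/
theorem exists_trace_ne_zero : ∃ z : K, z + z ^ q ≠ 0 := by
  by_contra hcon
  push Not at hcon
  have h1 : (1 : K) + 1 = 0 := by simpa using hcon 1
  have hfixall : ∀ z : K, z ^ q = z := by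
    intro z
    have h2 := hcon z
    have h3 : z ^ q = -z := by linear_combination h2
    have h4 : -z = z := by linear_combination (-z) * h1
    rw [h3, h4]
  have hsurj : Function.Surjective (algebraMap F K) := fun z => (fix z).1 (hfixall z)
  have hle : Fintype.card K ≤ Fintype.card F := Fintype.card_le_of_surjective _ hsurj
  rw [hF, hK] at hle
  have hq2 : 2 ≤ q := hq.two_le
  nlinarith

end setup

section pairing

variable {F K : Type*} [Field F] [Fintype F] [Field K] [Fintype K] [Algebra F K]
  (q : ℕ) (hq : IsPrimePow q) (hF : Fintype.card F = q) (hK : Fintype.card K = q ^ 2)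
  (fix : ∀ x : K, x ^ q = x ↔ ∃ y : F, algebraMap F K y = x)
  {Lam : Type*} [AddCommGroup Lam] [Module F Lam]
  (co : Lam →ₗ[F] (T3 → K)) (hco : Function.Injective co)
  (hran : ∀ s : T3 → K, InLam q s ↔ ∃ x, co x = s)

include hran in
theorem inLam_co (x : Lam) : InLam q (co x) := (hran _).2 ⟨x, rfl⟩

include hq hK hran in
theorem dot_co_fix (x s : Lam) : (co x ⬝ᵥ co s) ^ q = co x ⬝ᵥ co s :=
  dot_fix q hq hK _ _ (inLam_co q co hran x) (inLam_co q co hran s)

include hq hK fix hran in
/-- the pairing -/
noncomputable def pair : Lam →ₗ[F] Lam →ₗ[F] F :=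
  LinearMap.mk₂ F (fun x s => (ret (co x ⬝ᵥ co s) : F))
    (by
      intro x x' s
      show (ret (co (x + x') ⬝ᵥ co s) : F) = ret (co x ⬝ᵥ co s) + ret (co x' ⬝ᵥ co s)
      rw [map_add co, add_dotProduct, ret_add q hq hK fix _ _ (dot_co_fix q hq hK co hran _ _)
        (dot_co_fix q hq hK co hran _ _)])
    (by
      intro t x s
      show (ret (co (t • x) ⬝ᵥ co s) : F) = t • ret (co x ⬝ᵥ co s)
      rw [map_smul co, smul_dotProduct, Algebra.smul_def, smul_eq_mul,
        ret_mul q fix _ _ (dot_co_fix q hq hK co hran _ _)])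
    (by
      intro x s s'
      show (ret (co x ⬝ᵥ co (s + s')) : F) = ret (co x ⬝ᵥ co s) + ret (co x ⬝ᵥ co s')
      rw [map_add co, dotProduct_add, ret_add q hq hK fix _ _ (dot_co_fix q hq hK co hran _ _)
        (dot_co_fix q hq hK co hran _ _)])
    (by
      intro t x s
      show (ret (co x ⬝ᵥ co (t • s)) : F) = t • ret (co x ⬝ᵥ co s)
      rw [map_smul co, dotProduct_smul, Algebra.smul_def, smul_eq_mul,
        ret_mul q fix _ _ (dot_co_fix q hq hK co hran _ _)])

theorem pair_apply (x s : Lam) :
    pair q hq hK fix co hran x s = (ret (co x ⬝ᵥ co s) : F) := rfl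

theorem algebraMap_pair (x s : Lam) :
    algebraMap F K (pair q hq hK fix co hran x s) = co x ⬝ᵥ co s := by
  rw [pair_apply, algebraMap_ret q fix _ (dot_co_fix q hq hK co hran _ _)]

include hF hco in
/-- the pairing is non-degenerate -/
theorem pair_nondeg (x : Lam) (h : ∀ s : Lam, pair q hq hK fix co hran x s = 0) : x = 0 := by
  apply hco
  rw [map_zero]
  have hdot : ∀ s : Lam, co x ⬝ᵥ co s = 0 := by
    intro s
    rw [← algebraMap_pair q hq hK fix co hran x s, h s, map_zero]
  obtain ⟨z, hz⟩ := exists_trace_ne_zero q hq hF hK fix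
  funext I
  by_contra hne
  have hne' : co x I ≠ 0 := hne
  obtain ⟨s, hs⟩ := (hran _).1 (inLam_test q hq hK I (z / co x I))
  have h1 := hdot s
  rw [hs, dot_test q (co x) (inLam_co q co hran x) I, mul_div_cancel₀ _ hne'] at h1
  exact hz h1

end pairing

end Cfsg.Agent.Lib.Helper8.E6M2
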