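import Mathlib
import Cfsg.Agent.Lib.Helper2.E6M2DefsB
import Cfsg.Agent.Lib.Helper3.E6M2DefsC
import Cfsg.Agent.Lib.Helper2.E6M2DUAL
import Cfsg.Agent.Lib.Helper6.E6MMHOM
import Cfsg.Agent.Lib.Helper8.E6M2BR1
import Cfsg.Agent.Lib.Helper8.E6M2BR3

set_option autoImplicit false
set_option linter.unusedSectionVars false
set_option linter.unusedVariables false

/-!
Farm E6M2 (statement S2341), BRIDGE part 4: the characters `Θ l = ψ ∘ P (co⁻¹ l)` and the fields
`bij`, `zero`, `e1`, `e2`, `act`, `mov`, `free` of the bridge.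
-/

namespace Cfsg.Agent.Lib.Helper8.E6M2

open Cfsg.Agent.Lib.Helper5.E6M Cfsg.Agent.Lib.Helper3.E6M2C Cfsg.Agent.Lib.Helper2.E6M2B
  Cfsg.Agent.Lib.Helper2.E6M2DUAL Cfsg.Agent.Lib.Helper8.E6M Matrix

section theta

variable {F K : Type*} [Field F] [Fintype F] [Field K] [Fintype K] [Algebra F K]
  (q : ℕ) (hq : IsPrimePow q) (hF : Fintype.card F = q) (hK : Fintype.card K = q ^ 2)
  (fix : ∀ x : K, x ^ q = x ↔ ∃ y : F, algebraMap F K y = x)
  {Lam : Type*} [AddCommGroup Lam] [Module F Lam] [Fintype Lam]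
  (co : Lam →ₗ[F] (T3 → K)) (hco : Function.Injective co)
  (hran : ∀ s : T3 → K, InLam q s ↔ ∃ x, co x = s)
  (ψ : AddChar F ℂ) (hψ : ψ ≠ 0)

/-- the inverse of the coordinate map (junk outside the lattice) -/
noncomputable def lift (l : T3 → K) : Lam := by
  classical
  exact if h : ∃ x, co x = l then h.choose else 0

include hran in
theorem co_lift (l : T3 → K) (hl : InLam q l) : co (lift co l) = l := by
  classical
  unfold lift
  have h : ∃ x, co x = l := (hran l).1 hl
  rw [dif_pos h]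
  exact h.choose_spec

include hco in
theorem lift_co (x : Lam) : lift co (co x) = x := by
  classical
  unfold lift
  have h : ∃ x', co x' = co x := ⟨x, rfl⟩
  rw [dif_pos h]
  exact hco h.choose_spec

/-- the character of `Lam` attached to a vector of the lattice -/
noncomputable def Theta (l : T3 → K) : AddChar Lam ℂ :=
  pairChar ψ (pair q hq hK fix co hran) (lift co l)

theorem Theta_apply (l : T3 → K) (hl : InLam q l) (s : Lam) :
    Theta q hq hK fix co hran ψ l s = ψ (ret (l ⬝ᵥ co s) : F) := by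
  unfold Theta
  rw [pairChar_apply, pair_apply, co_lift q co hran l hl]

include hF hco hψ in
theorem Theta_bij :
    Set.BijOn (Theta q hq hK fix co hran ψ) {l | InLam q l} Set.univ := by
  have hb := pairChar_bijective ψ hψ (pair q hq hK fix co hran)
    (pair_nondeg q hq hF hK fix co hco hran) rfl
  refine ⟨fun _ _ => Set.mem_univ _, ?_, ?_⟩
  · intro l hl l' hl' h
    have h1 : lift co l = lift co l' := hb.1 h
    rw [← co_lift q co hran l hl, ← co_lift q co hran l' hl', h1]
  · intro χ _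
    obtain ⟨x, rfl⟩ := hb.2 χ
    refine ⟨co x, inLam_co q co hran x, ?_⟩
    unfold Theta
    rw [lift_co co hco]

include hco in
theorem Theta_zero : Theta q hq hK fix co hran ψ 0 = 0 := by
  unfold Theta
  have : lift co (0 : T3 → K) = 0 := by
    have := lift_co co hco (0 : Lam)
    rwa [map_zero] at this
  rw [this, pairChar_zero]

/-- the long coordinates of a vector of the lattice are fixed by the Frobenius -/
theorem long_fix (l : T3 → K) (hl : InLam q l) (I : T3) (hI : IsLong I) : l I ^ q = l I := by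
  have h := hl I
  rw [hI, epsI_long I hI] at h
  simpa using h.symm

include hψ in
theorem Theta_e1 (e1 : Lam) (he1 : co e1 = Pi.single I012 1) (l : T3 → K) (hl : InLam q l) :
    (¬ ∀ t : F, Theta q hq hK fix co hran ψ l (t • e1) = 1) ↔ l I012 ≠ 0 := by
  unfold Theta
  rw [pairChar_line_iff ψ hψ, pair_apply, co_lift q co hran l hl, he1, dotProduct_single,
    mul_one, ret_eq_zero_iff q fix _ (long_fix q l hl I012 isLong_012)]

include hψ in
theorem Theta_e2 (e2 : Lam) (he2 : ∃ u : K, u ≠ 0 ∧ co e2 = Pi.single I034 u) (l : T3 → K)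
    (hl : InLam q l) :
    (∀ u : F, Theta q hq hK fix co hran ψ l (u • e2) = 1) ↔ l I034 = 0 := by
  obtain ⟨u, hu, he2⟩ := he2
  unfold Theta
  have hfx : (l ⬝ᵥ co e2) ^ q = l ⬝ᵥ co e2 :=
    dot_fix q hq hK _ _ hl (inLam_co q co hran e2)
  rw [pairChar_line_iff ψ hψ, pair_apply, co_lift q co hran l hl,
    ret_eq_zero_iff q fix _ hfx, he2, dotProduct_single]
  constructor
  · intro h
    rcases mul_eq_zero.1 h with h1 | h1
    · exact h1
    · exact absurd h1 hu
  · intro h
    rw [h, zero_mul]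

end theta

section action

variable {F K : Type*} [Field F] [Fintype F] [Field K] [Fintype K] [Algebra F K]
  (q : ℕ) (hq : IsPrimePow q) (hF : Fintype.card F = q) (hK : Fintype.card K = q ^ 2)
  (fix : ∀ x : K, x ^ q = x ↔ ∃ y : F, algebraMap F K y = x)
  {Lam : Type*} [AddCommGroup Lam] [Module F Lam] [Fintype Lam]
  (co : Lam →ₗ[F] (T3 → K)) (hco : Function.Injective co)
  (hran : ∀ s : T3 → K, InLam q s ↔ ∃ x, co x = s)
  (ψ : AddChar F ℂ) (hψ : ψ ≠ 0)
  {L G : Type*} [Group L] [Group G] (D : Helper2.E6M2B.Data F Lam L G)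
  (j : L →* SL6 K) (hjmem : ∀ g, j g ∈ RJ q) (hjsurj : ∀ g' : SL6 K, g' ∈ RJ q → ∃ g, j g = g')
  (hact : ∀ g s, co (D.act g s) = Mm (j g).1 *ᵥ co s)
  (hlam : ∀ g : SL6 K, g ∈ RJ q → ∀ s : T3 → K, InLam q s → InLam q (Mm g.1 *ᵥ s))
  (hxd : ∀ t : F, j (D.xd t) = xl 0 (algebraMap F K t))

include hq hK hjmem hlam in
theorem inLam_invT (g : L) (l : T3 → K) (hl : InLam q l) :
    InLam q (Mm ((j g)⁻¹).1ᵀ *ᵥ l) := by
  have h1 : invT (j g) ∈ RJ q := invT_mem_RJ q hq hK _ (hjmem g)
  have := hlam _ h1 l hl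
  rwa [invT_coe] at this

include hjmem hact hlam in
/-- the action of `L` on the characters in coordinates -/
theorem actC_Theta (g : L) (l : T3 → K) (hl : InLam q l) :
    actC D g (Theta q hq hK fix co hran ψ l) =
      Theta q hq hK fix co hran ψ (Mm ((j g)⁻¹).1ᵀ *ᵥ l) := by
  apply DFunLike.ext
  intro s
  have h1 : actC D g (Theta q hq hK fix co hran ψ l) s =
      Theta q hq hK fix co hran ψ l (D.act g⁻¹ s) := rfl
  rw [h1, Theta_apply q hq hK fix co hran ψ l hl,
    Theta_apply q hq hK fix co hran ψ _ (inLam_invT q hq hK j hjmem hlam g l hl), hact, map_inv,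
    Helper6.E6MMHOM.Mm_transpose, Matrix.mulVec_transpose, ← Matrix.dotProduct_mulVec]

include hF hco hψ hjmem hjsurj hact hlam in
theorem Theta_act (g' : SL6 K) (hg' : g' ∈ RJ q) (l : T3 → K) (hl : InLam q l) :
    ∃ g : L, actC D g (Theta q hq hK fix co hran ψ l) =
      Theta q hq hK fix co hran ψ (Mm g'.1 *ᵥ l) := by
  obtain ⟨g, hg⟩ := hjsurj (invT g') (invT_mem_RJ q hq hK g' hg')
  refine ⟨g, ?_⟩
  rw [actC_Theta q hq hK fix co hran ψ D j hjmem hact hlam g l hl, hg, ← invT_coe, invT_invT]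

include hjmem hact hlam hxd in
theorem Theta_mov (l : T3 → K) (hl : InLam q l) (hm : ¬ moved2 l) (t : F) :
    actC D (D.xd t) (Theta q hq hK fix co hran ψ l) = Theta q hq hK fix co hran ψ l := by
  rw [actC_Theta q hq hK fix co hran ψ D j hjmem hact hlam _ l hl, hxd,
    not_moved2_fixed _ l hm]

include hF hco hψ hjmem hact hlam hxd in
theorem Theta_free (t : F) (ht : t ≠ 0) (l : T3 → K) (hl : InLam q l)
    (hfix : actC D (D.xd t) (Theta q hq hK fix co hran ψ l) = Theta q hq hK fix co hran ψ l) :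
    ¬ moved2 l := by
  rw [actC_Theta q hq hK fix co hran ψ D j hjmem hact hlam _ l hl] at hfix
  have hb := Theta_bij q hq hF hK fix co hco hran ψ hψ
  have h1 := hb.injOn (inLam_invT q hq hK j hjmem hlam _ l hl) hl hfix
  rw [hxd] at h1
  have ht' : algebraMap F K t ≠ 0 := by
    intro h
    apply ht
    have := (algebraMap F K).injective (h.trans (map_zero _).symm)
    exact this
  exact not_moved2_of_fixed _ ht' l h1

end action

end Cfsg.Agent.Lib.Helper8.E6M2
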