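import Mathlib
import Cfsg.Agent.Lib.Helper2.E6M2DefsB
import Cfsg.Agent.Lib.Helper3.E6M2DefsC
import Cfsg.Agent.Lib.Helper8.E6M2BR4
import Cfsg.Agent.Lib.Helper8.E6M2Bridge

set_option autoImplicit false
set_option linter.unusedSectionVars false
set_option linter.unusedVariables false

/-!
Farm E6M2 (statement S2341), BRIDGE part 5: the field `stab` (from STABPERF2) and the constructor
`mkBridge` of the bridge from simple hypotheses on the concrete data.
-/

namespace Cfsg.Agent.Lib.Helper8.E6M2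

open Cfsg.Agent.Lib.Helper5.E6M Cfsg.Agent.Lib.Helper3.E6M2C Cfsg.Agent.Lib.Helper2.E6M2B
  Cfsg.Agent.Lib.Helper8.E6M Matrix

section stabS

variable {K : Type*} [Field K] [Fintype K] (q : ℕ)

theorem Mm_mul_mulVec (a b : SL6 K) (v : T3 → K) :
    Mm (a * b).1 *ᵥ v = Mm a.1 *ᵥ (Mm b.1 *ᵥ v) := by
  rw [Matrix.mulVec_mulVec, ← Helper6.E6MMHOM.Mm_mul]

theorem Mm_one_mulVec (v : T3 → K) : Mm (1 : SL6 K).1 *ᵥ v = v := by
  rw [Matrix.SpecialLinearGroup.coe_one, Helper6.E6MMHOM.Mm_one, Matrix.one_mulVec]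

/-- the stabiliser of `e_012` in `RJ q` as a subgroup -/
def stabS : Subgroup (SL6 K) where
  carrier := {g | IsStab q g}
  mul_mem' := by
    rintro a b ⟨ha, ha'⟩ ⟨hb, hb'⟩
    exact ⟨(RJ q).mul_mem ha hb, by rw [Mm_mul_mulVec, hb', ha']⟩
  one_mem' := ⟨(RJ q).one_mem, Mm_one_mulVec _⟩
  inv_mem' := by
    rintro a ⟨ha, ha'⟩
    refine ⟨(RJ q).inv_mem ha, ?_⟩
    conv_lhs => rw [← ha']
    rw [← Mm_mul_mulVec, inv_mul_cancel, Mm_one_mulVec]

theorem Mm_inv_mulVec (g : SL6 K) (v : T3 → K) : Mm (g⁻¹).1 *ᵥ (Mm g.1 *ᵥ v) = v := by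
  rw [← Mm_mul_mulVec, inv_mul_cancel, Mm_one_mulVec]

theorem mem_stabS (g : SL6 K) : g ∈ stabS (K := K) q ↔ IsStab q g := Iff.rfl

end stabS

section stab

variable {F K : Type*} [Field F] [Fintype F] [Field K] [Fintype K] [Algebra F K]
  (q : ℕ) (hq : IsPrimePow q) (hF : Fintype.card F = q) (hK : Fintype.card K = q ^ 2)
  (fix : ∀ x : K, x ^ q = x ↔ ∃ y : F, algebraMap F K y = x)
  {Lam : Type*} [AddCommGroup Lam] [Module F Lam] [Fintype Lam]
  (co : Lam →ₗ[F] (T3 → K)) (hco : Function.Injective co)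
  (hran : ∀ s : T3 → K, InLam q s ↔ ∃ x, co x = s)
  (ψ : AddChar F ℂ) (hψ : ψ ≠ 0)
  {L G : Type*} [Group L] [Group G] (D : Helper2.E6M2B.Data F Lam L G)
  (j : L →* SL6 K) (hjinj : Function.Injective j) (hjmem : ∀ g, j g ∈ RJ q)
  (hjsurj : ∀ g' : SL6 K, g' ∈ RJ q → ∃ g, j g = g')
  (hact : ∀ g s, co (D.act g s) = Mm (j g).1 *ᵥ co s)
  (hlam : ∀ g : SL6 K, g ∈ RJ q → ∀ s : T3 → K, InLam q s → InLam q (Mm g.1 *ᵥ s))
  (hsingle : ∀ c : K, c ^ q = c → InLam q (Pi.single I012 c))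
  (hSP : ∀ g : SL6 K, IsStab q g → g ∈ Subgroup.closure {x : SL6 K | ∃ a b : SL6 K,
    IsStab q a ∧ IsStab q b ∧ x = a * b * a⁻¹ * b⁻¹})

/-- `g ↦ g'⁻¹ (j g)⁻ᵀ g'` -/
noncomputable def kap (g' : SL6 K) : L →* SL6 K :=
  (MulAut.conj g'⁻¹).toMonoidHom.comp ((invT (F := K)).comp j)

theorem kap_apply (g' : SL6 K) (g : L) : kap j g' g = g'⁻¹ * invT (j g) * g' := by
  show g'⁻¹ * invT (j g) * g'⁻¹⁻¹ = _
  rw [inv_inv]

include hjinj in
theorem kap_injective (g' : SL6 K) : Function.Injective (kap j g') := by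
  intro a b h
  rw [kap_apply, kap_apply] at h
  have h1 : invT (j a) = invT (j b) := by
    have := congrArg (fun x => g' * x * g'⁻¹) h
    simp only [mul_assoc, mul_inv_cancel_left, mul_inv_cancel, mul_one] at this
    exact this
  have h2 : j a = j b := by rw [← invT_invT (j a), h1, invT_invT]
  exact hjinj h2

include hq hK hjsurj in
theorem kap_surj (g' : SL6 K) (hg' : g' ∈ RJ q) (a : SL6 K) (ha : a ∈ RJ q) :
    ∃ g : L, kap j g' g = a := by
  have h1 : g' * a * g'⁻¹ ∈ RJ q := (RJ q).mul_mem ((RJ q).mul_mem hg' ha) ((RJ q).inv_mem hg')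
  obtain ⟨g, hg⟩ := hjsurj _ (invT_mem_RJ q hq hK _ h1)
  refine ⟨g, ?_⟩
  rw [kap_apply, hg, invT_invT]
  group

include hq hF hK hco hψ hjinj hjmem hjsurj hact hlam hsingle hSP in
theorem Theta_stab (g' : SL6 K) (hg' : g' ∈ RJ q) (c : K) (hc : c ^ q = c) (hc0 : c ≠ 0) (t : F)
    (hfix : actC D (D.xd t) (Theta q hq hK fix co hran ψ (Mm g'.1 *ᵥ Pi.single I012 c)) =
      Theta q hq hK fix co hran ψ (Mm g'.1 *ᵥ Pi.single I012 c)) :
    ∃ H : Subgroup L, (∀ h ∈ H, actC D h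
        (Theta q hq hK fix co hran ψ (Mm g'.1 *ᵥ Pi.single I012 c)) =
      Theta q hq hK fix co hran ψ (Mm g'.1 *ᵥ Pi.single I012 c)) ∧
      D.xd t ∈ (commutator H).map H.subtype := by
  set l₀ : T3 → K := Mm g'.1 *ᵥ Pi.single I012 c with hl₀
  have hl₀L : InLam q l₀ := hlam g' hg' _ (hsingle c hc)
  have hsc : (Pi.single I012 c : T3 → K) = c • Pi.single I012 (1 : K) := by
    rw [← Pi.single_smul, smul_eq_mul, mul_one]
  -- the action through `kap`
  have hkey : ∀ g : L, Mm ((j g)⁻¹).1ᵀ *ᵥ l₀ = Mm g'.1 *ᵥ (Mm (kap j g' g).1 *ᵥ Pi.single I012 c) := by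
    intro g
    have heq : invT (j g) * g' = g' * kap j g' g := by
      rw [kap_apply]; group
    rw [← invT_coe, hl₀, ← Mm_mul_mulVec, ← Mm_mul_mulVec, heq]
  set H : Subgroup L := (stabS (K := K) q).comap (kap j g') with hH
  refine ⟨H, ?_, ?_⟩
  · intro h hh
    have hh' : IsStab q (kap j g' h) := hh
    rw [actC_Theta q hq hK fix co hran ψ D j hjmem hact hlam h l₀ hl₀L, hkey h, hsc,
      Matrix.mulVec_smul, hh'.2, ← hsc]
  · -- `x_δ(t)` lies in `H`
    have hb := Theta_bij q hq hF hK fix co hco hran ψ hψ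
    rw [actC_Theta q hq hK fix co hran ψ D j hjmem hact hlam _ l₀ hl₀L] at hfix
    have h1 := hb.injOn (inLam_invT q hq hK j hjmem hlam _ l₀ hl₀L) hl₀L hfix
    rw [hkey] at h1
    have h2 : Mm (kap j g' (D.xd t)).1 *ᵥ Pi.single I012 c = Pi.single I012 c := by
      have h1' : Mm (g'⁻¹).1 *ᵥ (Mm g'.1 *ᵥ (Mm (kap j g' (D.xd t)).1 *ᵥ Pi.single I012 c)) =
          Mm (g'⁻¹).1 *ᵥ (Mm g'.1 *ᵥ Pi.single I012 c) := by rw [h1]
      rwa [Mm_inv_mulVec, Mm_inv_mulVec] at h1'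
    have h3 : Mm (kap j g' (D.xd t)).1 *ᵥ Pi.single I012 (1 : K) = Pi.single I012 1 := by
      rw [hsc, Matrix.mulVec_smul] at h2
      exact smul_right_injective (T3 → K) hc0 h2
    have hkmem : ∀ g : L, kap j g' g ∈ RJ q := by
      intro g
      rw [kap_apply]
      exact (RJ q).mul_mem ((RJ q).mul_mem ((RJ q).inv_mem hg')
        (invT_mem_RJ q hq hK _ (hjmem g))) hg'
    have hxS : IsStab q (kap j g' (D.xd t)) := ⟨hkmem _, h3⟩
    -- the commutators
    set T : Subgroup L := (commutator H).map H.subtype with hT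
    have hle : Subgroup.closure {x : SL6 K | ∃ a b : SL6 K,
        IsStab q a ∧ IsStab q b ∧ x = a * b * a⁻¹ * b⁻¹} ≤ T.map (kap j g') := by
      rw [Subgroup.closure_le]
      rintro x ⟨a, b, ha, hb', rfl⟩
      obtain ⟨ga, hga⟩ := kap_surj q hq hK j hjsurj g' hg' a ha.1
      obtain ⟨gb, hgb⟩ := kap_surj q hq hK j hjsurj g' hg' b hb'.1
      have hgaH : ga ∈ H := by
        show kap j g' ga ∈ stabS q
        rw [hga]; exact ha
      have hgbH : gb ∈ H := by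
        show kap j g' gb ∈ stabS q
        rw [hgb]; exact hb'
      refine ⟨ga * gb * ga⁻¹ * gb⁻¹, ?_, ?_⟩
      · rw [SetLike.mem_coe, hT, Subgroup.map_subtype_commutator, ← commutatorElement_def]
        exact Subgroup.commutator_mem_commutator hgaH hgbH
      · rw [map_mul, map_mul, map_mul, map_inv, map_inv, hga, hgb]
    obtain ⟨g, hgT, hg⟩ := hle (hSP _ hxS)
    have : g = D.xd t := kap_injective j hjinj g' hg
    rw [← this]
    exact hgT

end stab

end Cfsg.Agent.Lib.Helper8.E6M2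

namespace Cfsg.Agent.Lib.Helper8.E6M2

open Cfsg.Agent.Lib.Helper5.E6M Cfsg.Agent.Lib.Helper3.E6M2C Cfsg.Agent.Lib.Helper2.E6M2B
  Cfsg.Agent.Lib.Helper8.E6M Matrix

section mk

variable {F K : Type*} [Field F] [Fintype F] [Field K] [Fintype K] [Algebra F K]
  (q : ℕ) (hq : IsPrimePow q) (hF : Fintype.card F = q) (hK : Fintype.card K = q ^ 2)
  (fix : ∀ x : K, x ^ q = x ↔ ∃ y : F, algebraMap F K y = x)
  {Lam : Type*} [AddCommGroup Lam] [Module F Lam] [Fintype Lam]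
  (co : Lam →ₗ[F] (T3 → K)) (hco : Function.Injective co)
  (hran : ∀ s : T3 → K, InLam q s ↔ ∃ x, co x = s)
  {L G : Type*} [Group L] [Group G] (D : Helper2.E6M2B.Data F Lam L G)
  (j : L →* SL6 K) (hjinj : Function.Injective j) (hjmem : ∀ g, j g ∈ RJ q)
  (hjsurj : ∀ g' : SL6 K, g' ∈ RJ q → ∃ g, j g = g')
  (hact : ∀ g s, co (D.act g s) = Mm (j g).1 *ᵥ co s)
  (he1 : co D.e1 = Pi.single I012 1)
  (he2 : ∃ u : K, u ≠ 0 ∧ co D.e2 = Pi.single I034 u)
  (hxd : ∀ t : F, j (D.xd t) = xl 0 (algebraMap F K t))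
  (hlam : ∀ g : SL6 K, g ∈ RJ q → ∀ s : T3 → K, InLam q s → InLam q (Mm g.1 *ᵥ s))
  (hsingle : ∀ c : K, c ^ q = c → InLam q (Pi.single I012 c))
  (hSP : ∀ g : SL6 K, IsStab q g → g ∈ Subgroup.closure {x : SL6 K | ∃ a b : SL6 K,
    IsStab q a ∧ IsStab q b ∧ x = a * b * a⁻¹ * b⁻¹})
  (hnontriv : ∀ (W : Type) [AddCommGroup W] [Module ℂ W] [FiniteDimensional ℂ W]
    (σ : Representation ℂ L W), (∃ t : F, σ (D.xd t) ≠ 1) →
      (q ^ 6 - 1) / (q + 1) ≤ Module.finrank ℂ W)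

include hq hF hK fix hco hran hjinj hjmem hjsurj hact he1 he2 hxd hlam hsingle hSP hnontriv in
/-- BRIDGE: the bridge between the layers B2 and C2 from simple hypotheses on the concrete data:
`F` is the fixed field of the Frobenius of `K`, `co` identifies `Lam` with the lattice, `j`
identifies `L` with `RJ q`, compatibly with the actions, the marked vectors and `x_δ`. -/
theorem nonempty_bridge : Nonempty (Bridge D q K) := by
  obtain ⟨ψ, hψ1⟩ := (AddChar.exists_apply_ne_zero (α := F) (a := 1)).mpr one_ne_zero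
  have hψ : ψ ≠ 0 := by
    intro h
    rw [h] at hψ1
    exact hψ1 rfl
  exact ⟨{
    Θ := Theta q hq hK fix co hran ψ
    bij := Theta_bij q hq hF hK fix co hco hran ψ hψ
    zero := Theta_zero q hq hK fix co hco hran ψ
    e1 := Theta_e1 q hq hK fix co hran ψ hψ D.e1 he1
    e2 := Theta_e2 q hq hK fix co hran ψ hψ D.e2 he2
    act := Theta_act q hq hF hK fix co hco hran ψ hψ D j hjmem hjsurj hact hlam
    mov := Theta_mov q hq hK fix co hran ψ D j hjmem hact hlam hxd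
    free := Theta_free q hq hF hK fix co hco hran ψ hψ D j hjmem hact hlam hxd
    stab := Theta_stab q hq hF hK fix co hco hran ψ hψ D j hjinj hjmem hjsurj hact hlam hsingle hSP
    nontriv := hnontriv }⟩

end mk

end Cfsg.Agent.Lib.Helper8.E6M2
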