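import Mathlib
import Cfsg.Agent.Lib.Helper5.E6M2ConcDefs
import Cfsg.Agent.Lib.Helper5.FrobFix
import Cfsg.Agent.Lib.Helper7.E6M2LAM
import Cfsg.Agent.Lib.Helper1.E6M2StabPerf
import Cfsg.Agent.Lib.Helper8.E6M2BR5

set_option autoImplicit false
set_option linter.unusedSectionVars false
set_option linter.unusedVariables false

/-!
Farm E6M2 (statement S2341), unit BRIDGE2: the bridge for the concrete data of
`Lib/Helper5/E6M2ConcDefs` (`F = FF f`, `Lam = LamS f`, `L = RJ q`), as an instance of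
`nonempty_bridge`.
-/

namespace Cfsg.Agent.Lib.Helper8.E6M2

open Cfsg.Agent.Lib.Helper5.E6M Cfsg.Agent.Lib.Helper3.E6M2C Cfsg.Agent.Lib.Helper2.E6M2B
  Cfsg.Agent.Lib.Helper5.E6M2K Matrix

section conc

variable {K : Type*} [Field K] [Fintype K] [DecidableEq K] (f : K →+* K) (q : ℕ)
  (hq : IsPrimePow q) (hK : Fintype.card K = q ^ 2) (hf : ∀ x, f x = x ^ q)

include hq hK hf in
/-- the fixed field of the Frobenius has `q` elements -/
theorem card_FF' [Fintype (FF f)] : Fintype.card (FF f) = q := by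
  rw [← Nat.card_eq_fintype_card]
  have h := Cfsg.Agent.Lib.Helper5.FrobFix.card_fixed (K := K) (q := q) (m := 2) hq.two_le hK
  rw [← h]
  apply Nat.card_congr
  exact Equiv.subtypeEquivRight (fun x => by rw [mem_FF, hf])

include hq hK hf in
/-- BRIDGE2: the bridge for the concrete data -/
theorem bridge_of [Fintype (FF f)] [Fintype (LamS f)] {G : Type*} [Group G]
    (hT : ∀ g : SL6 K, g ∈ RJ q → ∀ s ∈ LamS f, Mm g.1 *ᵥ s ∈ LamS f)
    (D : Helper2.E6M2B.Data (FF f) (LamS f) (RJ (K := K) q) G)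
    (hact : D.act = actL f hT) (h1 : D.e1 = e1L f) (h2 : D.e2 = e2L f) (hxd : D.xd = xdL f hf)
    (hnontriv : ∀ (W : Type) [AddCommGroup W] [Module ℂ W] [FiniteDimensional ℂ W]
      (σ : Representation ℂ (RJ (K := K) q) W), (∃ t : FF f, σ (xdL f hf t) ≠ 1) →
        (q ^ 6 - 1) / (q + 1) ≤ Module.finrank ℂ W) :
    Nonempty (Bridge D q K) := by
  refine nonempty_bridge (F := FF f) (K := K) q hq (card_FF' f q hq hK hf) hK ?_
    ((LamS f).subtype) Subtype.val_injective ?_ D (RJ (K := K) q).subtype Subtype.val_injective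
    (fun g => g.2) (fun g' hg' => ⟨⟨g', hg'⟩, rfl⟩) ?_ ?_ ?_ ?_
    (Cfsg.Agent.Lib.Helper7.E6M2C.inLam_RJ q hq hK)
    (fun c hc => Cfsg.Agent.Lib.Helper7.E6M2C.inLam_single q hq I012 (by decide) c hc)
    (Cfsg.Agent.Lib.Helper1.E6M2StabPerf.stab_perfect q hq hK) ?_
  · -- the fixed field
    intro x
    rw [← hf]
    constructor
    · intro hx
      exact ⟨⟨x, hx⟩, rfl⟩
    · rintro ⟨y, rfl⟩
      exact y.2
  · -- the lattice
    intro s
    rw [← mem_LamS_iff f hf]
    constructor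
    · intro hs
      exact ⟨⟨s, hs⟩, rfl⟩
    · rintro ⟨x, rfl⟩
      exact x.2
  · -- the action
    intro g s
    rw [hact]
    exact actL_apply f hT g s
  · rw [h1]; rfl
  · refine ⟨1, one_ne_zero, ?_⟩
    rw [h2]; rfl
  · intro t
    rw [hxd]; rfl
  · intro W _ _ _ σ hσ
    apply hnontriv W σ
    obtain ⟨t, ht⟩ := hσ
    rw [hxd] at ht
    exact ⟨t, ht⟩

end conc

end Cfsg.Agent.Lib.Helper8.E6M2
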