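import Mathlib
import Cfsg.Agent.Lib.Helper8.E6M2ASM
import Cfsg.Agent.Lib.Helper8.E6M2BR6
import Cfsg.Agent.Lib.Helper1.E6M2BridgeNS

set_option autoImplicit false
set_option linter.unusedSectionVars false
set_option linter.unusedVariables false

/-!
Farm E6M2 (statement S2341): the assembly `e6m2_bound` for the concrete data of
`Lib/Helper5/E6M2ConcDefs` (`F = FF f`, `Lam = LamS f`, `L = RJ q`), with the bridge `bridge_of`
and the bound `nontriv_RJ` of helper1 plugged in.  What remains for the statement is the group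
side: a `Data` with these components satisfying `Rel D 10`, faithfulness and the order of `G`.
-/

namespace Cfsg.Agent.Lib.Helper8.E6M2

open Cfsg.Agent.Lib.Helper5.E6M Cfsg.Agent.Lib.Helper3.E6M2C Cfsg.Agent.Lib.Helper2.E6M2B
  Cfsg.Agent.Lib.Helper5.E6M2K Matrix

section conc

variable {K : Type*} [Field K] [Fintype K] [DecidableEq K] (f : K →+* K) (q : ℕ)
  (hq : IsPrimePow q) (hK : Fintype.card K = q ^ 2) (hf : ∀ x, f x = x ^ q)

include hq hK hf in
/-- the bound of S2341 from the concrete data -/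
theorem e6m2_bound_conc {G : Type*} [Group G] [Finite G]
    (hT : ∀ g : SL6 K, g ∈ RJ q → ∀ s ∈ LamS f, Mm g.1 *ᵥ s ∈ LamS f)
    (D : Helper2.E6M2B.Data (FF f) (LamS f) (RJ (K := K) q) G) (hD : Rel D 10)
    (hact : D.act = actL f hT) (h1 : D.e1 = e1L f) (h2 : D.e2 = e2L f) (hxd : D.xd = xdL f hf)
    {V : Type} [AddCommGroup V] [Module ℂ V] [FiniteDimensional ℂ V]
    (ρ : Representation ℂ G V) (hirr : ρ.IsIrreducible)
    (hfaith : (∀ r : FF f, ρ (D.Psi r 0) = 1) → Module.finrank ℂ V ≤ 1)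
    (hcard : Nat.gcd 3 (q + 1) * Nat.card G =
      q ^ 36 * (q ^ 2 - 1) * (q ^ 5 + 1) * (q ^ 6 - 1) * (q ^ 8 - 1) * (q ^ 9 + 1) * (q ^ 12 - 1))
    (hV : 2 ≤ Module.finrank ℂ V) :
    q * (q ^ 6 - q ^ 3 + 1) * (q ^ 4 + 1) ≤ Module.finrank ℂ V := by
  classical
  have : Fintype (FF f) := Fintype.ofFinite _
  have : Fintype (LamS f) := Fintype.ofFinite _
  obtain ⟨B⟩ := bridge_of f q hq hK hf hT D hact h1 h2 hxd
    (fun W _ _ _ σ hσ => by
      obtain ⟨t, ht⟩ := hσ
      exact Cfsg.Agent.Lib.Helper1.E6M2BridgeNS.nontriv_RJ q hK σ _ ht)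
  exact e6m2_bound q hq (card_FF' f q hq hK hf) hK D hD B ρ hirr hfaith hcard hV

include hq hK hf in
/-- the lattice is stable under `RJ q` (the hypothesis `hT` of `actL`) -/
theorem hT_conc : ∀ g : SL6 K, g ∈ RJ q → ∀ s ∈ LamS f, Mm g.1 *ᵥ s ∈ LamS f := by
  intro g hg s hs
  rw [mem_LamS_iff f hf] at hs ⊢
  exact Cfsg.Agent.Lib.Helper7.E6M2C.inLam_RJ q hq hK g hg s hs

end conc

end Cfsg.Agent.Lib.Helper8.E6M2
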