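import Mathlib
import Cfsg.Agent.Lib.Helper5.E6M2ConcDefs
import Cfsg.Agent.Lib.Helper9.E6M2RELM
import Cfsg.Agent.Lib.Helper2.E6M2DefsB

set_option autoImplicit false
set_option linter.unusedSectionVars false
set_option linter.unusedVariables false

/-!
Farm E6M2 (statement S2341): glue.  The relations `Rel D 10` for a `Data` with the concrete
matrix-side components of `Lib/Helper5/E6M2ConcDefs`, from the matrix-side fields (unit RELM2,
helper9) and the five group-side fields as hypotheses.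
-/

namespace Cfsg.Agent.Lib.Helper8.E6M2

open Cfsg.Agent.Lib.Helper5.E6M Cfsg.Agent.Lib.Helper3.E6M2C Cfsg.Agent.Lib.Helper2.E6M2B
  Cfsg.Agent.Lib.Helper5.E6M2K Matrix

section conc

variable {K : Type*} [Field K] [Fintype K] (f : K →+* K) (q : ℕ)
  (hq : IsPrimePow q) (hK : Fintype.card K = q ^ 2) (hf : ∀ x, f x = x ^ q)
  (hf2 : ∀ x, f (f x) = x)

include hq hK hf hf2 in
/-- `Rel D 10` from the group-side fields -/
theorem rel_conc {G : Type*} [Group G]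
    (D : Helper2.E6M2B.Data (FF f) (LamS f) (RJ (K := K) q) G)
    (hbeta : D.beta = betaL f) (hA : D.A = AL f) (h1 : D.e1 = e1L f) (h2 : D.e2 = e2L f)
    (hxd : D.xd = xdL f hf)
    (qlaw : ∀ (r : FF f) (s : LamS f) (r' : FF f) (s' : LamS f),
      D.Psi r s * D.Psi r' s' = D.Psi (r + r' + D.beta s s') (s + s'))
    (conj : ∀ (g : RJ (K := K) q) (s : LamS f), ∃ c : FF f, ∀ r : FF f,
      D.phi g * D.Psi r s * (D.phi g)⁻¹ = D.Psi (r + c) (D.act g s))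
    (n1_z : ∃ e : FF f, e ≠ 0 ∧ ∀ r, D.n1 * D.Psi r 0 * D.n1⁻¹ = D.Psi 0 ((e * r) • D.e1))
    (n1_x : ∃ e : FF f, e ≠ 0 ∧ ∀ t, D.n1 * D.phi (D.xd t) * D.n1⁻¹ = D.Psi 0 ((e * t) • D.e2))
    (h_z : ∀ (c : (FF f)ˣ) (r : FF f), D.h c * D.Psi r 0 * (D.h c)⁻¹ = D.Psi ((c : FF f) * r) 0) :
    Rel D 10 where
  qlaw := qlaw
  conj := conj
  xd_zero := by rw [hxd]; exact Cfsg.Agent.Lib.Helper9.E6M2RELM.xdL_zero f hf
  n1_z := n1_z
  n1_x := n1_x
  h_z := h_z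
  lag := by
    rw [hbeta, hA]
    exact Cfsg.Agent.Lib.Helper9.E6M2RELM.lag f
  nondeg := by
    rw [hbeta, hA]
    exact Cfsg.Agent.Lib.Helper9.E6M2RELM.nondeg f hq hK hf hf2
  e1_mem := by rw [h1, hA]; exact Cfsg.Agent.Lib.Helper9.E6M2RELM.e1L_mem f
  e2_mem := by rw [h2, hA]; exact Cfsg.Agent.Lib.Helper9.E6M2RELM.e2L_mem f
  indep := by rw [h1, h2]; exact Cfsg.Agent.Lib.Helper9.E6M2RELM.indep f
  card_A := by rw [hA]; exact Cfsg.Agent.Lib.Helper9.E6M2RELM.card_A f hq hK hf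

end conc

end Cfsg.Agent.Lib.Helper8.E6M2
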