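import Mathlib
import Cfsg.Agent.Lib.Helper5.E6MDefs
import Cfsg.Agent.Lib.Helper7.E6MH
import Cfsg.Agent.Lib.Helper8.E6MASM

set_option autoImplicit false

/-!
Farm E6M (statement S2340), unit ASM in its verbatim form.
-/

namespace Cfsg.Agent.Lib.Helper8.E6MV

open Cfsg.Agent.Lib.Helper5.E6M Matrix

section E

variable {F : Type*} [Field F] [Fintype F] [DecidableEq F] {G : Type*} [Group G] [Finite G]
  (D : Data F G) (hD : Rel D)

include hD in
/-- unit ASM: everything abstract put together -/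
theorem e6m_bound {V : Type*} [AddCommGroup V] [Module ℂ V] [FiniteDimensional ℂ V]
    (ρ : Representation ℂ G V) (hirr : ρ.IsIrreducible)
    (hfaith : (∀ r : F, ρ (D.z r) = 1) → Module.finrank ℂ V ≤ 1)
    (hcard : Nat.gcd 3 (Fintype.card F - 1) * Nat.card G =
      Fintype.card F ^ 36 * (Fintype.card F ^ 2 - 1) * (Fintype.card F ^ 5 - 1) *
        (Fintype.card F ^ 6 - 1) * (Fintype.card F ^ 8 - 1) * (Fintype.card F ^ 9 - 1) *
        (Fintype.card F ^ 12 - 1))
    (h2 : 2 ≤ Module.finrank ℂ V) :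
    Fintype.card F * (Fintype.card F ^ 6 + Fintype.card F ^ 3 + 1) * (Fintype.card F ^ 4 + 1) ≤
      Module.finrank ℂ V :=
  Helper8.E6M.e6m_bound_of D hD ρ (fun ψ hψ => Helper7.E6M.heis D hD ψ hψ ρ) hirr hfaith hcard h2

end E

end Cfsg.Agent.Lib.Helper8.E6MV
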