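import Mathlib
import Cfsg.Agent.Lib.Helper8.E8CoreGen
import Cfsg.Agent.Lib.Helper6.E8CoreADD2
import Cfsg.Agent.Lib.Helper9.E8CoreDATA2
import Cfsg.Agent.Lib.Helper4.F4CentCC
import Cfsg.Agent.Lib.Helper4.Tw6EvC
import Cfsg.Agent.Lib.Helper5.ChevPara

set_option autoImplicit false
set_option maxRecDepth 100000

/-!
# Farm E8CORE (S5751), units STEP and FIN

`QQ k y` says that the ordered product of `y ∈ U` has no factor of level at most `k`. If every
`s n_w`-conjugate (`w` a word in the reflections of `J`) of `y` raises the level filtration by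
`k + 1` (`k ≥ 1`), resp. lies in `P_J` (`k = 0`), then `QQ (k + 1) y`.
-/

namespace Cfsg.Agent.Lib.Helper8.E8Core

open Cfsg Cfsg.Lie Cfsg.Agent.Lib.Helper5.ChevSym Cfsg.Agent.Lib.Helper5.ChevStruct
  Cfsg.Agent.Lib.Helper4.F4Cent Cfsg.Agent.Lib.Helper4.Tw6Ev
  Cfsg.Agent.Lib.Helper6.E8Core Cfsg.Agent.Lib.Helper9.E8Core

instance : CharP F2 2 := ZMod.charP 2

theorem mem_posRoots {r : ℕ} : r ∈ chevE8.posRoots ↔ chevE8.IsPosRoot r := by
  unfold ChevalleyDatum.posRoots
  rw [List.mem_filter, List.mem_range, decide_eq_true_eq]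
  exact ⟨fun h => h.2, fun h => ⟨h.1, h⟩⟩

theorem posRoots_nodup : chevE8.posRoots.Nodup := by
  unfold ChevalleyDatum.posRoots
  exact List.Nodup.filter _ List.nodup_range

theorem JWord.wd {w : List ℕ} (hw : JWord w) : Wd chevE8 w := fun i hi => (hw i hi).1

theorem JWord.cons_node {w : List ℕ} (hw : JWord w) : Wd chevE8 (node :: w) := by
  intro i hi
  rcases List.mem_cons.1 hi with h | h
  · rw [h]; exact node_lt
  · exact (hw i h).1

theorem lev_wAct {w : List ℕ} (hw : JWord w) (r : ℕ) (hr : r < chevE8.nroots) :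
    lev (wAct chevE8 w r) = lev r := by
  induction w with
  | nil => rfl
  | cons i w ih =>
    have hw' : JWord w := fun j hj => hw j (List.mem_cons_of_mem _ hj)
    have hi := hw i (List.mem_cons_self ..)
    show lev (chevE8.reflectRoot i (wAct chevE8 w r)) = lev r
    rw [DATA_lev_reflect i hi.1 hi.2 _ (wAct_lt chevE8 hE8 w hw'.wd r hr), ih hw']

theorem wAct_cons (i : ℕ) (w : List ℕ) (r : ℕ) :
    wAct chevE8 (i :: w) r = chevE8.reflectRoot i (wAct chevE8 w r) := rfl

theorem wAct_injective {w : List ℕ} (hw : Wd chevE8 w) {a b : ℕ} (ha : a < chevE8.nroots)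
    (hb : b < chevE8.nroots) (h : wAct chevE8 w a = wAct chevE8 w b) : a = b := by
  have h1 := wAct_reverse chevE8 hE8 w.reverse hw.reverse a ha
  have h2 := wAct_reverse chevE8 hE8 w.reverse hw.reverse b hb
  rw [List.reverse_reverse] at h1 h2
  rw [← h1, ← h2, h]

/-- the canonical word with coefficients `t` -/
def canon (t : ℕ → F2) : List (ℕ × F2) := chevE8.posRoots.map fun r => (r, t r)

theorem eq_wordGL {y : GL chevE8.Idx F2} {t : ℕ → F2}
    (h : (y : Matrix chevE8.Idx chevE8.Idx F2) = chevE8.wordMat F2 (canon t)) :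
    y = wordGL chevE8 hE8 (canon t) := by
  apply Units.ext
  rw [h, wordGL_val]

theorem conj_canon {W : List ℕ} (hW : Wd chevE8 W) (t : ℕ → F2) :
    wGL chevE8 hE8 W * wordGL chevE8 hE8 (canon t) * (wGL chevE8 hE8 W)⁻¹
      = wordGL chevE8 hE8 (chevE8.posRoots.map fun s => (wAct chevE8 W s, t s)) := by
  unfold wordGL canon
  rw [List.map_map, List.map_map]
  exact h4_conj_prod chevE8 hE8 W hW chevE8.posRoots (fun s hs => (mem_posRoots.1 hs).1) t

theorem sum_ite_posRoots (t : ℕ → F2) (f : ℕ → ℕ) (r : ℕ) (hr : chevE8.IsPosRoot r)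
    (hf : ∀ s, chevE8.IsPosRoot s → f s = f r → s = r) :
    ((chevE8.posRoots.map fun s => (f s, t s)).map fun p => if p.1 = f r then p.2 else 0).sum
      = t r := by
  rw [List.map_map]
  have h1 : (chevE8.posRoots.map ((fun p : ℕ × F2 => if p.1 = f r then p.2 else 0) ∘
      fun s => (f s, t s))).sum = (chevE8.posRoots.map fun s => if s = r then t s else 0).sum := by
    congr 1
    apply List.map_congr_left
    intro s hs
    show (if f s = f r then t s else 0) = if s = r then t s else 0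
    by_cases h : s = r
    · rw [if_pos h, if_pos (by rw [h])]
    · rw [if_neg h, if_neg (fun e => h (hf s (mem_posRoots.1 hs) e))]
  rw [h1, ← List.sum_toFinset _ posRoots_nodup, Finset.sum_ite_eq']
  rw [if_pos (List.mem_toFinset.2 (mem_posRoots.2 hr))]

/-- **Unit STEP**, levels `k ≥ 1` -/
theorem STEP_pos (k : ℤ) (hk : 1 ≤ k) (y : GL chevE8.Idx F2) (hy : QQ k y)
    (hz : ∀ w, JWord w → BlockUpK (k + 1)
      ((wGL chevE8 hE8 (node :: w) * y * (wGL chevE8 hE8 (node :: w))⁻¹ : GL chevE8.Idx F2) :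
        Matrix chevE8.Idx chevE8.Idx F2)) : QQ (k + 1) y := by
  obtain ⟨t, ht0, htk, hyv⟩ := hy
  refine ⟨t, ht0, ?_, hyv⟩
  intro r hr
  by_cases hpos : chevE8.IsPosRoot r
  swap
  · exact ht0 r hpos
  rcases lt_or_eq_of_le hr with h | h
  · exact htk r (by omega)
  obtain ⟨w, hw, -, hbad⟩ := DATA_bad r hpos (by omega)
  have hWd : Wd chevE8 (node :: w) := hw.cons_node
  have hρlt : wAct chevE8 (node :: w) r < chevE8.nroots := wAct_lt chevE8 hE8 _ hWd r hpos.1
  have hlevρ : lev (wAct chevE8 (node :: w) r) = k := by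
    rw [hbad (by omega)]; omega
  have hyG := eq_wordGL (t := t) hyv
  have hB := hz w hw
  rw [hyG, conj_canon hWd t, wordGL_val] at hB
  have hletters : ∀ p ∈ (chevE8.posRoots.map fun s => (wAct chevE8 (node :: w) s, t s)),
      p.1 < chevE8.nroots ∧ (p.2 = 0 ∨ k ≤ lev p.1) := by
    intro p hp
    rw [List.mem_map] at hp
    obtain ⟨s, hs, rfl⟩ := hp
    have hsp := mem_posRoots.1 hs
    refine ⟨wAct_lt chevE8 hE8 _ hWd s hsp.1, ?_⟩
    by_cases hts : t s = 0
    · exact Or.inl hts
    · right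
      have hls : k < lev s := by
        by_contra hle
        exact hts (htk s (by omega))
      have hx : wAct chevE8 w s < chevE8.nroots := wAct_lt chevE8 hE8 w hw.wd s hsp.1
      have hlx : lev (wAct chevE8 w s) = lev s := lev_wAct hw s hsp.1
      have hxpos : chevE8.IsPosRoot (wAct chevE8 w s) := DATA_pos_of_lev _ hx (by omega)
      have h3 := (DATA_s3_level _ hxpos (by omega)).2
      show k ≤ lev (chevE8.reflectRoot node (wAct chevE8 w s))
      omega
  obtain ⟨i, hi⟩ := DATA_coroot_odd (wAct chevE8 (node :: w) r) hρlt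
  have hnlt := (neg_lt chevE8 hE8 _ hρlt).1
  have hent := ADD_word_entry_ite k hk _ hletters (wAct chevE8 (node :: w) r) hρlt hlevρ
    ⟨chevE8.neg (wAct chevE8 (node :: w) r), hnlt⟩ rfl i
  rw [hi, one_mul, sum_ite_posRoots t (wAct chevE8 (node :: w)) r hpos
    (fun s hs e => wAct_injective hWd hs.1 hpos.1 e)] at hent
  rw [← hent]
  by_contra hne
  have h1 := hB (Sum.inl i) (Sum.inr ⟨chevE8.neg (wAct chevE8 (node :: w) r), hnlt⟩) (by
    rw [Matrix.sub_apply, Matrix.one_apply_ne (by simp), sub_zero]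
    exact hne)
  have h2 : idxLev (Sum.inr ⟨chevE8.neg (wAct chevE8 (node :: w) r), hnlt⟩) = -k := by
    show lev (chevE8.neg (wAct chevE8 (node :: w) r)) = -k
    rw [DATA_lev_neg _ hρlt, hlevρ]
  have h3 : idxLev (Sum.inl i) = 0 := rfl
  rw [h2, h3] at h1
  omega

theorem xGL_pos_mem_parabolic (r : ℕ) (hr : chevE8.IsPosRoot r) (a : F2) :
    xGL chevE8 hE8 r a ∈ chevE8.parabolicSubgroup F2 JN :=
  pos_le_parabolic chevE8 JN (Subgroup.subset_closure ⟨r, a, hr, xGL_val chevE8 hE8 r a⟩)

theorem F2_cases (a : F2) : a = 0 ∨ a = 1 := by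
  revert a
  decide

/-- **Unit STEP**, level `0` -/
theorem STEP_zero (y : GL chevE8.Idx F2) (hy : QQ 0 y)
    (hs3 : (nGL chevE8 hE8 node : GL chevE8.Idx F2) ∉ chevE8.parabolicSubgroup F2 JN)
    (hz : ∀ w, JWord w →
      wGL chevE8 hE8 (node :: w) * y * (wGL chevE8 hE8 (node :: w))⁻¹
        ∈ chevE8.parabolicSubgroup F2 JN) : QQ 1 y := by
  obtain ⟨t, ht0, htk, hyv⟩ := hy
  refine ⟨t, ht0, ?_, hyv⟩
  intro r hr
  by_cases hpos : chevE8.IsPosRoot r
  swap
  · exact ht0 r hpos
  rcases lt_or_eq_of_le hr with h | h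
  · exact htk r (by omega)
  obtain ⟨w, hw, hbad, -⟩ := DATA_bad r hpos (by omega)
  have hwr := hbad h
  have hWd : Wd chevE8 (node :: w) := hw.cons_node
  have hyG := eq_wordGL (t := t) hyv
  have hB := hz w hw
  rw [hyG, conj_canon hWd t] at hB
  rcases F2_cases (t r) with h0 | h1
  · exact h0
  exfalso
  apply hs3
  -- split the list of positive roots at `r`
  obtain ⟨l1, l2, hl⟩ := List.append_of_mem (mem_posRoots.2 hpos)
  have hnd := posRoots_nodup
  rw [hl] at hnd
  have hr1 : r ∉ l1 := fun hm => by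
    have := (List.nodup_append.1 hnd).2.2 r hm r (List.mem_cons_self ..)
    exact this rfl
  have hr2 : r ∉ l2 := fun hm => by
    have h' := (List.nodup_append.1 hnd).2.1
    exact (List.nodup_cons.1 h').1 hm
  have hmemP : ∀ l : List ℕ, (∀ s ∈ l, s ∈ chevE8.posRoots ∧ s ≠ r) →
      wordGL chevE8 hE8 (l.map fun s => (wAct chevE8 (node :: w) s, t s))
        ∈ chevE8.parabolicSubgroup F2 JN := by
    intro l hlm
    unfold wordGL
    apply Subgroup.list_prod_mem
    intro g hg
    rw [List.map_map, List.mem_map] at hg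
    obtain ⟨s, hs, rfl⟩ := hg
    obtain ⟨hsP, hsr⟩ := hlm s hs
    have hsp := mem_posRoots.1 hsP
    show xGL chevE8 hE8 (wAct chevE8 (node :: w) s) (t s) ∈ _
    by_cases hts : t s = 0
    · rw [hts, h4_xGL_zero]
      exact one_mem _
    · have hls : 0 < lev s := by
        by_contra hle
        exact hts (htk s (by omega))
      have hx : wAct chevE8 w s < chevE8.nroots := wAct_lt chevE8 hE8 w hw.wd s hsp.1
      have hlx : lev (wAct chevE8 w s) = lev s := lev_wAct hw s hsp.1
      have hxpos : chevE8.IsPosRoot (wAct chevE8 w s) := DATA_pos_of_lev _ hx (by omega)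
      have hne : wAct chevE8 w s ≠ chevE8.simple node := by
        intro e
        rw [← hwr] at e
        exact hsr (wAct_injective hw.wd hsp.1 hpos.1 e)
      exact xGL_pos_mem_parabolic _ (DATA_s3_pos _ hxpos hne) _
  have hm1 : ∀ s ∈ l1, s ∈ chevE8.posRoots := by
    intro s hs
    rw [hl]
    exact List.mem_append_left _ hs
  have hm2 : ∀ s ∈ l2, s ∈ chevE8.posRoots := by
    intro s hs
    rw [hl]
    exact List.mem_append_right _ (List.mem_cons_of_mem _ hs)
  have h1' := hmemP l1 (fun s hs => ⟨hm1 s hs, fun e => hr1 (e ▸ hs)⟩)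
  have h2' := hmemP l2 (fun s hs => ⟨hm2 s hs, fun e => hr2 (e ▸ hs)⟩)
  rw [hl, List.map_append, List.map_cons] at hB
  have hsplit : wordGL chevE8 hE8 (List.map (fun s => (wAct chevE8 (node :: w) s, t s)) l1 ++
      (wAct chevE8 (node :: w) r, t r) :: List.map (fun s => (wAct chevE8 (node :: w) s, t s)) l2)
      = wordGL chevE8 hE8 (l1.map fun s => (wAct chevE8 (node :: w) s, t s))
        * xGL chevE8 hE8 (wAct chevE8 (node :: w) r) (t r)
        * wordGL chevE8 hE8 (l2.map fun s => (wAct chevE8 (node :: w) s, t s)) := by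
    unfold wordGL
    rw [List.map_append, List.prod_append, List.map_cons, List.prod_cons, mul_assoc]
  rw [hsplit] at hB
  have hmid : xGL chevE8 hE8 (wAct chevE8 (node :: w) r) (t r)
      ∈ chevE8.parabolicSubgroup F2 JN := by
    have e : xGL chevE8 hE8 (wAct chevE8 (node :: w) r) (t r)
        = (wordGL chevE8 hE8 (l1.map fun s => (wAct chevE8 (node :: w) s, t s)))⁻¹
          * (wordGL chevE8 hE8 (l1.map fun s => (wAct chevE8 (node :: w) s, t s))
            * xGL chevE8 hE8 (wAct chevE8 (node :: w) r) (t r)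
            * wordGL chevE8 hE8 (l2.map fun s => (wAct chevE8 (node :: w) s, t s)))
          * (wordGL chevE8 hE8 (l2.map fun s => (wAct chevE8 (node :: w) s, t s)))⁻¹ := by
      group
    rw [e]
    exact mul_mem (mul_mem (inv_mem h1') hB) (inv_mem h2')
  -- the middle factor is `x_{-p}(1)`
  have hν : wAct chevE8 (node :: w) r = chevE8.neg (chevE8.simple node) := by
    rw [wAct_cons, hwr]
    decide
  rw [hν, h1] at hmid
  have hp : chevE8.IsPosRoot (chevE8.simple node) := by decide
  have e : (nGL chevE8 hE8 node : GL chevE8.Idx F2)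
      = xGL chevE8 hE8 (chevE8.simple node) 1 * xGL chevE8 hE8 (chevE8.neg (chevE8.simple node)) 1
        * xGL chevE8 hE8 (chevE8.simple node) 1 := by
    apply Units.ext
    rw [nGL_val, nMat_eq, Units.val_mul, Units.val_mul, xGL_val, xGL_val]
    have : (-(1 : F2)⁻¹) = 1 := by rw [inv_one, CharTwo.neg_eq]
    rw [this]
  rw [e]
  exact mul_mem (mul_mem (xGL_pos_mem_parabolic _ hp 1) hmid) (xGL_pos_mem_parabolic _ hp 1)

/-- **Unit FIN.** -/
theorem FIN (y : GL chevE8.Idx F2) (h : QQ 6 y) : y = 1 := by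
  obtain ⟨t, ht0, ht6, hyv⟩ := h
  have ht : ∀ r, t r = 0 := by
    intro r
    by_cases hp : chevE8.IsPosRoot r
    · exact ht6 r (DATA_lev_le r hp).2
    · exact ht0 r hp
  apply Units.ext
  rw [hyv, Units.val_one]
  have : ∀ L : List ℕ, chevE8.wordMat F2 (L.map fun r => (r, t r)) = 1 := by
    intro L
    induction L with
    | nil => simp [ChevalleyDatum.wordMat]
    | cons a L ih =>
      rw [List.map_cons, wordMat_cons, ih, ht, x_at_zero, one_mul]
  exact this _

/-- `QQ k` implies that the level filtration is raised by `k + 1` -/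
theorem QQ_blockUp (k : ℤ) (hk : 0 ≤ k) (y : GL chevE8.Idx F2) (hy : QQ k y) :
    BlockUpK (k + 1) (y : Matrix chevE8.Idx chevE8.Idx F2) := by
  obtain ⟨t, ht0, htk, hyv⟩ := hy
  rw [hyv]
  apply ADD_word_blockUp (k + 1) (by omega)
  intro p hp
  rw [List.mem_map] at hp
  obtain ⟨s, hs, rfl⟩ := hp
  refine ⟨(mem_posRoots.1 hs).1, ?_⟩
  by_cases hts : t s = 0
  · exact Or.inl hts
  · right
    show k + 1 ≤ lev s
    by_contra hle
    exact hts (htk s (by omega))

end Cfsg.Agent.Lib.Helper8.E8Core
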