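import Mathlib
import Cfsg.Agent.Lib.Helper8.E8CoreStep
import Cfsg.Agent.Lib.Helper5.ChevParaNorm
import Cfsg.Agent.Lib.Helper3.E8CoreMAX
import Cfsg.Agent.Lib.Helper3.E8CoreBR
import Cfsg.Agent.Lib.Helper6.E8CorePSI

set_option autoImplicit false
set_option maxRecDepth 100000

/-!
# Farm E8CORE (S5751), unit Z : the chain `A k ⊆ QQ k` and the assembly
-/

namespace Cfsg.Agent.Lib.Helper8.E8Core

open Cfsg Cfsg.Lie Cfsg.Agent.Lib.Helper5.ChevSym Cfsg.Agent.Lib.Helper5.ChevStruct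
  Cfsg.Agent.Lib.Helper4.F4Cent Cfsg.Agent.Lib.Helper4.Tw6Ev
  Cfsg.Agent.Lib.Helper6.E8Core Cfsg.Agent.Lib.Helper9.E8Core Cfsg.Agent.Lib.Helper3.E8Core

theorem wGL_J_mem_parabolic {w : List ℕ} (hw : JWord w) :
    (wGL chevE8 hE8 w : GL chevE8.Idx F2) ∈ chevE8.parabolicSubgroup F2 JN := by
  induction w with
  | nil =>
    rw [wGL_nil]
    exact one_mem _
  | cons i w ih =>
    have hi := hw i (List.mem_cons_self ..)
    rw [wGL_cons]
    exact mul_mem (nGL_mem_parabolic chevE8 hE8 JN i hi.2 hi.1)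
      (ih fun j hj => hw j (List.mem_cons_of_mem _ hj))

theorem nGL_node_inv :
    ((nGL chevE8 hE8 node)⁻¹ : GL chevE8.Idx F2) = nGL chevE8 hE8 node := by
  have h := h4_wGL_inv (K := F2) chevE8 hE8 [node] (by
    intro i hi
    rw [List.mem_singleton] at hi
    rw [hi]
    exact node_lt)
  rw [List.reverse_singleton, wGL_cons, wGL_nil, mul_one] at h
  exact h

theorem mem_M1_iff (g : GE) :
    g ∈ M1 ↔ (g : GL chevE8.Idx F2) ∈ chevE8.parabolicSubgroup F2 JN := by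
  rw [BR_M1_eq, Subgroup.mem_subgroupOf]

/-- the conjugate `s n_w y (s n_w)⁻¹`, computed inside the group -/
theorem exists_conj (w : List ℕ) (hw : JWord w) (y : GE) :
    ∃ nw : GE, nw ∈ M1 ∧ ((s3⁻¹ * (nw * y * nw⁻¹) * s3 : GE) : GL chevE8.Idx F2)
      = wGL chevE8 hE8 (node :: w) * (y : GL chevE8.Idx F2) * (wGL chevE8 hE8 (node :: w))⁻¹ := by
  have hmem := wGL_J_mem_parabolic hw
  refine ⟨⟨wGL chevE8 hE8 w, parabolic_le_group chevE8 hE8 JN hmem⟩, ?_, ?_⟩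
  · rw [mem_M1_iff]
    exact hmem
  · have e1 : ((s3⁻¹ * ((⟨wGL chevE8 hE8 w, parabolic_le_group chevE8 hE8 JN hmem⟩ : GE) * y *
        (⟨wGL chevE8 hE8 w, parabolic_le_group chevE8 hE8 JN hmem⟩ : GE)⁻¹) * s3 : GE) :
          GL chevE8.Idx F2)
        = (nGL chevE8 hE8 node)⁻¹ * (wGL chevE8 hE8 w * (y : GL chevE8.Idx F2) *
          (wGL chevE8 hE8 w)⁻¹) * nGL chevE8 hE8 node := rfl
    rw [e1, wGL_cons, mul_inv_rev, nGL_node_inv]
    group

/-- **the chain**: the elements of `A k` have no factor of level at most `k` -/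
theorem A_QQ
    (hUP0 : A 1 ≤ (chevE8.unipotentRadical F2 JN).subgroupOf (chevE8.group F2))
    (k : ℕ) (hk1 : 1 ≤ k) (hk6 : k ≤ 6) :
    ∀ y ∈ A k, QQ (k : ℤ) ((y : GE) : GL chevE8.Idx F2) := by
  induction k, hk1 using Nat.le_induction with
  | base =>
    intro y hy
    have h0 : QQ 0 ((y : GE) : GL chevE8.Idx F2) := by
      apply PSI_QQ_zero
      have := hUP0 hy
      rwa [Subgroup.mem_subgroupOf] at this
    have hs3 : (nGL chevE8 hE8 node : GL chevE8.Idx F2) ∉ chevE8.parabolicSubgroup F2 JN := by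
      intro h
      apply MAX_s3_not_mem
      rw [mem_M1_iff]
      exact h
    have h1 := STEP_zero _ h0 hs3 (by
      intro w hw
      obtain ⟨nw, hnw, hval⟩ := exists_conj w hw y
      have h2 : nw * y * nw⁻¹ ∈ A (0 + 1) := A_succ_conj_mem hy hnw
      have h3 := conj_mem_A_of_mem_B (A_succ_le_B 0 h2)
      rw [A_zero, mem_M1_iff, hval] at h3
      exact h3)
    exact_mod_cast h1
  | succ k hk ih =>
    intro y hy
    have hk6' : k ≤ 6 := by omega
    have hQ := ih hk6' y (A_succ_le k hy)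
    have h1 := STEP_pos (k : ℤ) (by exact_mod_cast hk) _ hQ (by
      intro w hw
      obtain ⟨nw, hnw, hval⟩ := exists_conj w hw y
      have h2 : nw * y * nw⁻¹ ∈ A (k + 1) := A_succ_conj_mem hy hnw
      have h3 := conj_mem_A_of_mem_B (A_succ_le_B k h2)
      have h4 := QQ_blockUp (k : ℤ) (by positivity) _ (ih hk6' _ h3)
      rw [hval] at h4
      exact h4)
    exact_mod_cast h1

theorem A_six
    (hUP0 : A 1 ≤ (chevE8.unipotentRadical F2 JN).subgroupOf (chevE8.group F2)) :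
    A 6 = ⊥ := by
  rw [eq_bot_iff]
  intro y hy
  rw [Subgroup.mem_bot]
  have h := FIN _ (A_QQ hUP0 6 (by norm_num) le_rfl y hy)
  apply Subtype.ext
  rw [h]
  rfl

theorem A_five (hLOWa : ∀ k : ℕ, UlevG ((k : ℤ) + 1) ≤ A k) (hLOWb : UlevG 6 ≠ ⊥) :
    A 5 ≠ ⊥ := by
  intro h
  apply hLOWb
  rw [eq_bot_iff, ← h]
  have := hLOWa 5
  norm_num at this
  exact this

instance : Finite GE := by
  have : Finite (GL chevE8.Idx F2) := by
    have : Finite (Matrix chevE8.Idx chevE8.Idx F2) := inferInstance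
    exact Finite.of_injective (fun g : GL chevE8.Idx F2 => (g : Matrix chevE8.Idx chevE8.Idx F2))
      Units.val_injective
  exact inferInstance

/-- **S5751**, given the units LOW and UP0 -/
theorem main_of (hLOWa : ∀ k : ℕ, UlevG ((k : ℤ) + 1) ≤ A k) (hLOWb : UlevG 6 ≠ ⊥)
    (hUP0 : A 1 ≤ (chevE8.unipotentRadical F2 JN).subgroupOf (chevE8.group F2)) :
    ∃ (G : Type) (_ : Group G) (_ : Finite G) (M₁ M₂ : Subgroup G) (g : G)
      (A B : ℕ → Subgroup G),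
      IsCoatom M₁ ∧ M₂ = M₁.map (MulAut.conj g).toMonoidHom ∧ M₁ ≠ M₂ ∧ M₁.normalCore = ⊥ ∧
      A 0 = M₁ ∧ B 0 = M₂ ∧
      (∀ i, A (i + 1) = ((A i ⊓ B i).subgroupOf M₁).normalCore.map M₁.subtype) ∧
      (∀ i, B (i + 1) = ((A i ⊓ B i).subgroupOf M₂).normalCore.map M₂.subtype) ∧
      A 6 = ⊥ ∧ A 5 ≠ ⊥ :=
  ⟨GE, inferInstance, inferInstance, M1, M2, s3, A, B, MAX_isCoatom, rfl, MAX_ne, MAX_core,
    rfl, rfl, A_succ, B_succ, A_six hUP0, A_five hLOWa hLOWb⟩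

end Cfsg.Agent.Lib.Helper8.E8Core
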