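import Mathlib
import Cfsg.Prelude.Def_ChevStructure
import Cfsg.Prelude.Def_ChevE8
import Cfsg.Agent.Lib.Helper5.ChevGen
import Cfsg.Agent.Lib.Helper7.ChG2A
import Cfsg.Agent.Lib.Helper5.ChevTorusKer
import Cfsg.Agent.Lib.Helper5.ChevNConj

set_option autoImplicit false
set_option linter.style.haveILetI false

/-!
S4281 unit P2 (port of helper2's `F4DiagInv` to `E₈`): the involutions of the split torus `H` of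
`E₈(F)` fall into the two `N`-classes of `h_λ(-1)` for `λ = lamA` (class of the coroots, 120
elements, centralizer of type `A₁E₇`) and `λ = lamB` (135 elements, centralizer of type `D₈`).
-/

namespace Cfsg.Agent.Lib.Helper8.E8Inv

open Cfsg Cfsg.Lie Cfsg.Agent.Lib.Helper5.ChevStruct Cfsg.Agent.Lib.Helper5.ChevSym
  Cfsg.Agent.Lib.Helper5.MatPow Cfsg.Agent.Lib.Helper7.Ch2G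

variable {F : Type*} [Field F]

theorem memE8 : chevE8 ∈ Seven := by simp [Seven]

/-- the inverse of the Cartan matrix of `E₈` -/
def cartInvE8 : Matrix (Fin chevE8.rank) (Fin chevE8.rank) ℤ :=
  fmat (lfun [[4, 5, 7, 10, 8, 6, 4, 2], [5, 8, 10, 15, 12, 9, 6, 3], [7, 10, 14, 20, 16, 12, 8, 4],
    [10, 15, 20, 30, 24, 18, 12, 6], [8, 12, 16, 24, 20, 15, 10, 5], [6, 9, 12, 18, 15, 12, 8, 4],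
    [4, 6, 8, 12, 10, 8, 6, 3], [2, 3, 4, 6, 5, 4, 3, 2]]) chevE8.rank

theorem cart_mul_inv : fmat (cartanFn chevE8) chevE8.rank * cartInvE8 = 1 := by
  unfold cartInvE8
  rw [fmat_mul]
  exact fmat_eq_one _ _ (by decide +kernel)

/-- the torus parametrisation of `E₈` is injective (any field) -/
theorem torHom_E8_injective : Function.Injective (torHom chevE8 F) := by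
  rw [← MonoidHom.ker_eq_bot_iff, Subgroup.eq_bot_iff_forall]
  intro c hc
  rw [mem_ker_torHom_iff chevE8 memE8, MonoidHom.mem_ker] at hc
  have h := mpow_mpow (fmat (cartanFn chevE8) chevE8.rank) cartInvE8 c
  rw [hc, map_one, cart_mul_inv, mpow_one] at h
  exact h.symm

/-- an involution of `H` is `h_λ(-1)` with `λ ∈ {0,1}⁸` -/
theorem invol_diag_eq_E8 (h : GL chevE8.Idx F) (hh : h ∈ chevE8.diagonalSubgroup F)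
    (h2 : h * h = 1) :
    ∃ lam : Fin chevE8.rank → ℤ, (∀ j, lam j = 0 ∨ lam j = 1) ∧ h = hLam chevE8 F (-1) lam := by
  classical
  rw [← torHom_range chevE8 memE8] at hh
  obtain ⟨c, rfl⟩ := hh
  rw [← map_mul] at h2
  have hc : c * c = 1 := torHom_E8_injective (by rw [h2, map_one])
  have hcj : ∀ j, c j = 1 ∨ c j = -1 := by
    intro j
    have h1 : c j * c j = 1 := by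
      have := congrFun hc j
      simpa using this
    have h2 : ((c j : Fˣ) : F) * ((c j : Fˣ) : F) = 1 := by
      rw [← Units.val_mul, h1, Units.val_one]
    rcases mul_self_eq_one_iff.1 h2 with h3 | h3
    · left; exact Units.ext h3
    · right; apply Units.ext; rw [h3]; simp
  refine ⟨fun j => if c j = 1 then 0 else 1, fun j => by by_cases hj : c j = 1 <;> simp [hj], ?_⟩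
  unfold hLam
  congr 1
  funext j
  by_cases hj : c j = 1
  · simp [hj]
  · rcases hcj j with h1 | h1
    · exact absurd h1 hj
    · simp [h1]

/-- `h_λ(-1)` depends only on `λ` modulo 2 -/
theorem hLam_neg_one_congr (D : ChevalleyDatum) (lam mu : Fin D.rank → ℤ)
    (h : ∀ j, Even (lam j - mu j)) : hLam D F (-1) lam = hLam D F (-1) mu := by
  unfold hLam
  congr 1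
  funext j
  obtain ⟨k, hk⟩ := h j
  have : lam j = mu j + (k + k) := by omega
  rw [this, zpow_add, ← two_mul, zpow_mul]
  simp

/-- a word of moves is valid from `λ` -/
def Valid (lam : Fin chevE8.rank → ℤ) : List (Fin chevE8.rank) → Prop
  | [] => True
  | i :: w => Odd (pairLam chevE8 lam (chevE8.simple i.val)) ∧ Valid (lam + Pi.single i 1) w

instance (lam : Fin chevE8.rank → ℤ) (w : List (Fin chevE8.rank)) : Decidable (Valid lam w) := by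
  induction w generalizing lam with
  | nil => exact isTrue trivial
  | cons i w ih =>
    unfold Valid
    exact inferInstanceAs (Decidable (_ ∧ _))

/-- the end point of a word of moves -/
def run (lam : Fin chevE8.rank → ℤ) : List (Fin chevE8.rank) → (Fin chevE8.rank → ℤ)
  | [] => lam
  | i :: w => run (lam + Pi.single i 1) w

theorem reach_of_valid (lam : Fin chevE8.rank → ℤ) (w : List (Fin chevE8.rank))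
    (hv : Valid lam w) :
    ∃ n ∈ chevE8.monomialSubgroup F,
      n * hLam chevE8 F (-1) lam * n⁻¹ = hLam chevE8 F (-1) (run lam w) := by
  induction w generalizing lam with
  | nil =>
    exact ⟨1, one_mem _, by rw [one_mul, inv_one, mul_one]; rfl⟩
  | cons i w ih =>
    obtain ⟨hodd, hv'⟩ := hv
    obtain ⟨n, hn, e⟩ := ih (lam + Pi.single i 1) hv'
    have hni : (nGL chevE8 memE8 i.val : GL chevE8.Idx F) ∈ chevE8.monomialSubgroup F :=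
      nGL_mem chevE8 memE8 i.val i.isLt
    refine ⟨n * nGL chevE8 memE8 i.val, mul_mem hn hni, ?_⟩
    have e1 := Cfsg.Agent.Lib.Helper7.ChG2.nGL_conj_hLam_odd (F := F) chevE8 memE8 i lam hodd
    have e2 : n * nGL chevE8 memE8 i.val * hLam chevE8 F (-1) lam
          * (n * nGL chevE8 memE8 i.val)⁻¹
        = n * (nGL chevE8 memE8 i.val * hLam chevE8 F (-1) lam * (nGL chevE8 memE8 i.val)⁻¹)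
          * n⁻¹ := by group
    rw [e2, e1, e]
    rfl

/-- the vector with entries `0`, `1` given by the binary digits of `k` -/
def vecN (k : ℕ) : Fin chevE8.rank → ℤ := fun j => if k.testBit j.val then 1 else 0

/-- the representative of the class of the coroots (`ω₈^∨` modulo 2): centralizer `A₁E₇` -/
def lamA : Fin chevE8.rank → ℤ := vecN 82

/-- the representative of the other class (`ω₁^∨` modulo 2): centralizer `D₈` -/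
def lamB : Fin chevE8.rank → ℤ := vecN 6

/-- the certificates: for every `k < 256` a word of moves from `vecN k` to `lamA` or `lamB` -/
def certTab : List (List ℕ) := [
  [],
  [2, 3, 4, 5, 6, 7, 1, 3, 4, 5, 6, 2, 3, 4, 5, 1, 3, 4, 2, 3, 0, 2, 1, 3, 4, 5, 6, 7],
  [3, 4, 5, 6, 7, 2, 3, 4, 5, 6, 0, 2, 3, 4, 5, 1, 3, 4, 2, 3, 0, 2, 1, 3, 4, 5, 6, 7],
  [2, 0],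
  [3, 4, 5, 6, 7, 1, 3, 4, 5, 6, 0, 2, 3, 4, 5, 1, 3, 4, 2, 3, 0, 2, 1, 3, 4, 5, 6, 7],
  [3, 4, 5, 6, 7, 1, 3, 4, 5, 6, 2, 3, 4, 5, 1, 3, 4, 2, 3, 0, 2, 1, 3, 4, 5, 6, 7],
  [],
  [0],
  [4, 5, 6, 7, 2, 1, 3, 4, 5, 6, 0, 2, 3, 4, 5, 1, 3, 4, 2, 3, 0, 2, 1, 3, 4, 5, 6, 7],
  [1, 3, 2, 0],
  [4, 5, 6, 7, 2, 3, 4, 5, 6, 0, 2, 3, 4, 5, 1, 3, 4, 2, 3, 0, 2, 1, 3, 4, 5, 6, 7],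
  [3, 2, 0],
  [4, 5, 6, 7, 1, 3, 4, 5, 6, 0, 2, 3, 4, 5, 1, 3, 4, 2, 3, 0, 2, 1, 3, 4, 5, 6, 7],
  [4, 5, 6, 7, 1, 3, 4, 5, 6, 2, 3, 4, 5, 1, 3, 4, 2, 3, 0, 2, 1, 3, 4, 5, 6, 7],
  [4, 5, 6, 7, 3, 4, 5, 6, 0, 2, 3, 4, 5, 1, 3, 4, 2, 3, 0, 2, 1, 3, 4, 5, 6, 7],
  [4, 5, 6, 7, 3, 4, 5, 6, 2, 3, 4, 5, 1, 3, 4, 2, 3, 0, 2, 1, 3, 4, 5, 6, 7],
  [5, 6, 7, 3, 2, 1, 3, 4, 5, 6, 0, 2, 3, 4, 5, 1, 3, 4, 2, 3, 0, 2, 1, 3, 4, 5, 6, 7],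
  [3, 4, 1, 3, 2, 0],
  [5, 4, 3, 2, 1, 3, 4, 5, 0, 2, 3, 4, 1, 3, 2, 0],
  [5, 6, 7, 4, 5, 6, 3, 4, 5, 1, 3, 4, 2, 3, 0, 2, 1, 3, 4, 5, 6, 7],
  [0, 2, 3, 4, 1, 3, 2, 0],
  [2, 3, 4, 1, 3, 2, 0],
  [5, 6, 7, 4, 5, 6, 0, 2, 3, 4, 5, 1, 3, 4, 2, 3, 0, 2, 1, 3, 4, 5, 6, 7],
  [5, 6, 7, 4, 5, 6, 2, 3, 4, 5, 1, 3, 4, 2, 3, 0, 2, 1, 3, 4, 5, 6, 7],
  [5, 6, 7, 2, 1, 3, 4, 5, 6, 0, 2, 3, 4, 5, 1, 3, 4, 2, 3, 0, 2, 1, 3, 4, 5, 6, 7],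
  [4, 1, 3, 2, 0],
  [5, 6, 7, 2, 3, 4, 5, 6, 0, 2, 3, 4, 5, 1, 3, 4, 2, 3, 0, 2, 1, 3, 4, 5, 6, 7],
  [4, 3, 2, 0],
  [5, 6, 7, 1, 3, 4, 5, 6, 0, 2, 3, 4, 5, 1, 3, 4, 2, 3, 0, 2, 1, 3, 4, 5, 6, 7],
  [5, 6, 7, 1, 3, 4, 5, 6, 2, 3, 4, 5, 1, 3, 4, 2, 3, 0, 2, 1, 3, 4, 5, 6, 7],
  [5, 6, 7, 3, 4, 5, 6, 0, 2, 3, 4, 5, 1, 3, 4, 2, 3, 0, 2, 1, 3, 4, 5, 6, 7],
  [5, 6, 7, 3, 4, 5, 6, 2, 3, 4, 5, 1, 3, 4, 2, 3, 0, 2, 1, 3, 4, 5, 6, 7],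
  [6, 7, 4, 3, 2, 1, 3, 4, 5, 6, 0, 2, 3, 4, 5, 1, 3, 4, 2, 3, 0, 2, 1, 3, 4, 5, 6, 7],
  [4, 5, 3, 4, 1, 3, 2, 0],
  [3, 2, 1, 3, 4, 5, 0, 2, 3, 4, 1, 3, 2, 0],
  [6, 7, 5, 6, 3, 4, 5, 1, 3, 4, 2, 3, 0, 2, 1, 3, 4, 5, 6, 7],
  [4, 5, 0, 2, 3, 4, 1, 3, 2, 0],
  [4, 5, 2, 3, 4, 1, 3, 2, 0],
  [6, 7, 5, 6, 0, 2, 3, 4, 5, 1, 3, 4, 2, 3, 0, 2, 1, 3, 4, 5, 6, 7],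
  [6, 7, 5, 6, 2, 3, 4, 5, 1, 3, 4, 2, 3, 0, 2, 1, 3, 4, 5, 6, 7],
  [2, 3, 4, 5, 0, 2, 3, 4, 1, 3, 2, 0],
  [6, 7, 5, 6, 4, 5, 3, 4, 2, 3, 0, 2, 1, 3, 4, 5, 6, 7],
  [2, 1, 3, 4, 5, 0, 2, 3, 4, 1, 3, 2, 0],
  [6, 7, 5, 6, 4, 5, 1, 3, 4, 2, 3, 0, 2, 1, 3, 4, 5, 6, 7],
  [3, 4, 5, 0, 2, 3, 4, 1, 3, 2, 0],
  [3, 4, 5, 2, 3, 4, 1, 3, 2, 0],
  [1, 3, 4, 5, 0, 2, 3, 4, 1, 3, 2, 0],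
  [1, 3, 4, 5, 2, 3, 4, 1, 3, 2, 0],
  [6, 7, 3, 2, 1, 3, 4, 5, 6, 0, 2, 3, 4, 5, 1, 3, 4, 2, 3, 0, 2, 1, 3, 4, 5, 6, 7],
  [5, 3, 4, 1, 3, 2, 0],
  [4, 3, 2, 1, 3, 4, 5, 0, 2, 3, 4, 1, 3, 2, 0],
  [6, 7, 4, 5, 6, 3, 4, 5, 1, 3, 4, 2, 3, 0, 2, 1, 3, 4, 5, 6, 7],
  [5, 0, 2, 3, 4, 1, 3, 2, 0],
  [5, 2, 3, 4, 1, 3, 2, 0],
  [6, 7, 4, 5, 6, 0, 2, 3, 4, 5, 1, 3, 4, 2, 3, 0, 2, 1, 3, 4, 5, 6, 7],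
  [6, 7, 4, 5, 6, 2, 3, 4, 5, 1, 3, 4, 2, 3, 0, 2, 1, 3, 4, 5, 6, 7],
  [6, 7, 2, 1, 3, 4, 5, 6, 0, 2, 3, 4, 5, 1, 3, 4, 2, 3, 0, 2, 1, 3, 4, 5, 6, 7],
  [5, 4, 1, 3, 2, 0],
  [6, 7, 2, 3, 4, 5, 6, 0, 2, 3, 4, 5, 1, 3, 4, 2, 3, 0, 2, 1, 3, 4, 5, 6, 7],
  [5, 4, 3, 2, 0],
  [6, 7, 1, 3, 4, 5, 6, 0, 2, 3, 4, 5, 1, 3, 4, 2, 3, 0, 2, 1, 3, 4, 5, 6, 7],
  [6, 7, 1, 3, 4, 5, 6, 2, 3, 4, 5, 1, 3, 4, 2, 3, 0, 2, 1, 3, 4, 5, 6, 7],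
  [6, 7, 3, 4, 5, 6, 0, 2, 3, 4, 5, 1, 3, 4, 2, 3, 0, 2, 1, 3, 4, 5, 6, 7],
  [6, 7, 3, 4, 5, 6, 2, 3, 4, 5, 1, 3, 4, 2, 3, 0, 2, 1, 3, 4, 5, 6, 7],
  [7, 5, 4, 3, 2, 1, 3, 4, 5, 6, 0, 2, 3, 4, 5, 1, 3, 4, 2, 3, 0, 2, 1, 3, 4, 5, 6, 7],
  [5, 6, 4, 5, 3, 4, 1, 3, 2, 0],
  [5, 6, 3, 2, 1, 3, 4, 5, 0, 2, 3, 4, 1, 3, 2, 0],
  [7, 6, 3, 4, 5, 1, 3, 4, 2, 3, 0, 2, 1, 3, 4, 5, 6, 7],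
  [5, 6, 4, 5, 0, 2, 3, 4, 1, 3, 2, 0],
  [5, 6, 4, 5, 2, 3, 4, 1, 3, 2, 0],
  [7, 6, 0, 2, 3, 4, 5, 1, 3, 4, 2, 3, 0, 2, 1, 3, 4, 5, 6, 7],
  [7, 6, 2, 3, 4, 5, 1, 3, 4, 2, 3, 0, 2, 1, 3, 4, 5, 6, 7],
  [5, 6, 2, 3, 4, 5, 0, 2, 3, 4, 1, 3, 2, 0],
  [7, 6, 4, 5, 3, 4, 2, 3, 0, 2, 1, 3, 4, 5, 6, 7],
  [5, 6, 2, 1, 3, 4, 5, 0, 2, 3, 4, 1, 3, 2, 0],
  [7, 6, 4, 5, 1, 3, 4, 2, 3, 0, 2, 1, 3, 4, 5, 6, 7],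
  [5, 6, 3, 4, 5, 0, 2, 3, 4, 1, 3, 2, 0],
  [5, 6, 3, 4, 5, 2, 3, 4, 1, 3, 2, 0],
  [5, 6, 1, 3, 4, 5, 0, 2, 3, 4, 1, 3, 2, 0],
  [5, 6, 1, 3, 4, 5, 2, 3, 4, 1, 3, 2, 0],
  [3, 4, 5, 6, 2, 3, 4, 5, 0, 2, 3, 4, 1, 3, 2, 0],
  [7, 6, 5, 4, 2, 3, 0, 2, 1, 3, 4, 5, 6, 7],
  [],
  [2, 3, 4, 5, 6, 1, 3, 4, 5, 2, 3, 4, 1, 3, 2, 0],
  [7, 6, 5, 4, 3, 2, 1, 3, 4, 5, 6, 7],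
  [7, 6, 5, 4, 3, 0, 2, 1, 3, 4, 5, 6, 7],
  [3, 4, 5, 6, 1, 3, 4, 5, 0, 2, 3, 4, 1, 3, 2, 0],
  [3, 4, 5, 6, 1, 3, 4, 5, 2, 3, 4, 1, 3, 2, 0],
  [4, 5, 6, 2, 3, 4, 5, 0, 2, 3, 4, 1, 3, 2, 0],
  [7, 6, 5, 3, 4, 2, 3, 0, 2, 1, 3, 4, 5, 6, 7],
  [4, 5, 6, 2, 1, 3, 4, 5, 0, 2, 3, 4, 1, 3, 2, 0],
  [7, 6, 5, 1, 3, 4, 2, 3, 0, 2, 1, 3, 4, 5, 6, 7],
  [4, 5, 6, 3, 4, 5, 0, 2, 3, 4, 1, 3, 2, 0],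
  [4, 5, 6, 3, 4, 5, 2, 3, 4, 1, 3, 2, 0],
  [4, 5, 6, 1, 3, 4, 5, 0, 2, 3, 4, 1, 3, 2, 0],
  [4, 5, 6, 1, 3, 4, 5, 2, 3, 4, 1, 3, 2, 0],
  [7, 4, 3, 2, 1, 3, 4, 5, 6, 0, 2, 3, 4, 5, 1, 3, 4, 2, 3, 0, 2, 1, 3, 4, 5, 6, 7],
  [6, 4, 5, 3, 4, 1, 3, 2, 0],
  [6, 3, 2, 1, 3, 4, 5, 0, 2, 3, 4, 1, 3, 2, 0],
  [7, 5, 6, 3, 4, 5, 1, 3, 4, 2, 3, 0, 2, 1, 3, 4, 5, 6, 7],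
  [6, 4, 5, 0, 2, 3, 4, 1, 3, 2, 0],
  [6, 4, 5, 2, 3, 4, 1, 3, 2, 0],
  [7, 5, 6, 0, 2, 3, 4, 5, 1, 3, 4, 2, 3, 0, 2, 1, 3, 4, 5, 6, 7],
  [7, 5, 6, 2, 3, 4, 5, 1, 3, 4, 2, 3, 0, 2, 1, 3, 4, 5, 6, 7],
  [6, 2, 3, 4, 5, 0, 2, 3, 4, 1, 3, 2, 0],
  [7, 5, 6, 4, 5, 3, 4, 2, 3, 0, 2, 1, 3, 4, 5, 6, 7],
  [6, 2, 1, 3, 4, 5, 0, 2, 3, 4, 1, 3, 2, 0],
  [7, 5, 6, 4, 5, 1, 3, 4, 2, 3, 0, 2, 1, 3, 4, 5, 6, 7],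
  [6, 3, 4, 5, 0, 2, 3, 4, 1, 3, 2, 0],
  [6, 3, 4, 5, 2, 3, 4, 1, 3, 2, 0],
  [6, 1, 3, 4, 5, 0, 2, 3, 4, 1, 3, 2, 0],
  [6, 1, 3, 4, 5, 2, 3, 4, 1, 3, 2, 0],
  [7, 3, 2, 1, 3, 4, 5, 6, 0, 2, 3, 4, 5, 1, 3, 4, 2, 3, 0, 2, 1, 3, 4, 5, 6, 7],
  [6, 5, 3, 4, 1, 3, 2, 0],
  [6, 4, 3, 2, 1, 3, 4, 5, 0, 2, 3, 4, 1, 3, 2, 0],
  [7, 4, 5, 6, 3, 4, 5, 1, 3, 4, 2, 3, 0, 2, 1, 3, 4, 5, 6, 7],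
  [6, 5, 0, 2, 3, 4, 1, 3, 2, 0],
  [6, 5, 2, 3, 4, 1, 3, 2, 0],
  [7, 4, 5, 6, 0, 2, 3, 4, 5, 1, 3, 4, 2, 3, 0, 2, 1, 3, 4, 5, 6, 7],
  [7, 4, 5, 6, 2, 3, 4, 5, 1, 3, 4, 2, 3, 0, 2, 1, 3, 4, 5, 6, 7],
  [7, 2, 1, 3, 4, 5, 6, 0, 2, 3, 4, 5, 1, 3, 4, 2, 3, 0, 2, 1, 3, 4, 5, 6, 7],
  [6, 5, 4, 1, 3, 2, 0],
  [7, 2, 3, 4, 5, 6, 0, 2, 3, 4, 5, 1, 3, 4, 2, 3, 0, 2, 1, 3, 4, 5, 6, 7],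
  [6, 5, 4, 3, 2, 0],
  [7, 1, 3, 4, 5, 6, 0, 2, 3, 4, 5, 1, 3, 4, 2, 3, 0, 2, 1, 3, 4, 5, 6, 7],
  [7, 1, 3, 4, 5, 6, 2, 3, 4, 5, 1, 3, 4, 2, 3, 0, 2, 1, 3, 4, 5, 6, 7],
  [7, 3, 4, 5, 6, 0, 2, 3, 4, 5, 1, 3, 4, 2, 3, 0, 2, 1, 3, 4, 5, 6, 7],
  [7, 3, 4, 5, 6, 2, 3, 4, 5, 1, 3, 4, 2, 3, 0, 2, 1, 3, 4, 5, 6, 7],
  [6, 5, 4, 3, 2, 1, 3, 4, 5, 6, 0, 2, 3, 4, 5, 1, 3, 4, 2, 3, 0, 2, 1, 3, 4, 5, 6, 7],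
  [6, 7, 5, 6, 4, 5, 3, 4, 1, 3, 2, 0],
  [6, 7, 5, 6, 3, 2, 1, 3, 4, 5, 0, 2, 3, 4, 1, 3, 2, 0],
  [3, 4, 5, 1, 3, 4, 2, 3, 0, 2, 1, 3, 4, 5, 6, 7],
  [6, 7, 5, 6, 4, 5, 0, 2, 3, 4, 1, 3, 2, 0],
  [6, 7, 5, 6, 4, 5, 2, 3, 4, 1, 3, 2, 0],
  [0, 2, 3, 4, 5, 1, 3, 4, 2, 3, 0, 2, 1, 3, 4, 5, 6, 7],
  [2, 3, 4, 5, 1, 3, 4, 2, 3, 0, 2, 1, 3, 4, 5, 6, 7],
  [6, 7, 5, 6, 2, 3, 4, 5, 0, 2, 3, 4, 1, 3, 2, 0],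
  [4, 5, 3, 4, 2, 3, 0, 2, 1, 3, 4, 5, 6, 7],
  [6, 7, 5, 6, 2, 1, 3, 4, 5, 0, 2, 3, 4, 1, 3, 2, 0],
  [4, 5, 1, 3, 4, 2, 3, 0, 2, 1, 3, 4, 5, 6, 7],
  [6, 7, 5, 6, 3, 4, 5, 0, 2, 3, 4, 1, 3, 2, 0],
  [6, 7, 5, 6, 3, 4, 5, 2, 3, 4, 1, 3, 2, 0],
  [6, 7, 5, 6, 1, 3, 4, 5, 0, 2, 3, 4, 1, 3, 2, 0],
  [6, 7, 5, 6, 1, 3, 4, 5, 2, 3, 4, 1, 3, 2, 0],
  [6, 7, 3, 4, 5, 6, 2, 3, 4, 5, 0, 2, 3, 4, 1, 3, 2, 0],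
  [5, 4, 2, 3, 0, 2, 1, 3, 4, 5, 6, 7],
  [6, 7],
  [6, 7, 2, 3, 4, 5, 6, 1, 3, 4, 5, 2, 3, 4, 1, 3, 2, 0],
  [5, 4, 3, 2, 1, 3, 4, 5, 6, 7],
  [5, 4, 3, 0, 2, 1, 3, 4, 5, 6, 7],
  [6, 7, 3, 4, 5, 6, 1, 3, 4, 5, 0, 2, 3, 4, 1, 3, 2, 0],
  [6, 7, 3, 4, 5, 6, 1, 3, 4, 5, 2, 3, 4, 1, 3, 2, 0],
  [6, 7, 4, 5, 6, 2, 3, 4, 5, 0, 2, 3, 4, 1, 3, 2, 0],
  [5, 3, 4, 2, 3, 0, 2, 1, 3, 4, 5, 6, 7],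
  [6, 7, 4, 5, 6, 2, 1, 3, 4, 5, 0, 2, 3, 4, 1, 3, 2, 0],
  [5, 1, 3, 4, 2, 3, 0, 2, 1, 3, 4, 5, 6, 7],
  [6, 7, 4, 5, 6, 3, 4, 5, 0, 2, 3, 4, 1, 3, 2, 0],
  [6, 7, 4, 5, 6, 3, 4, 5, 2, 3, 4, 1, 3, 2, 0],
  [6, 7, 4, 5, 6, 1, 3, 4, 5, 0, 2, 3, 4, 1, 3, 2, 0],
  [6, 7, 4, 5, 6, 1, 3, 4, 5, 2, 3, 4, 1, 3, 2, 0],
  [4, 5, 6, 7, 3, 4, 5, 6, 2, 3, 4, 5, 0, 2, 3, 4, 1, 3, 2, 0],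
  [2, 3, 0, 2, 1, 3, 4, 5, 6, 7],
  [4, 5, 6, 7],
  [4, 5, 6, 7, 2, 3, 4, 5, 6, 1, 3, 4, 5, 2, 3, 4, 1, 3, 2, 0],
  [3, 2, 1, 3, 4, 5, 6, 7],
  [3, 0, 2, 1, 3, 4, 5, 6, 7],
  [4, 5, 6, 7, 3, 4, 5, 6, 1, 3, 4, 5, 0, 2, 3, 4, 1, 3, 2, 0],
  [4, 5, 6, 7, 3, 4, 5, 6, 1, 3, 4, 5, 2, 3, 4, 1, 3, 2, 0],
  [1, 3, 4, 5, 6, 7],
  [1, 3, 4, 5, 6, 7, 2, 3, 4, 5, 6, 1, 3, 4, 5, 2, 3, 4, 1, 3, 2, 0],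
  [3, 4, 5, 6, 7],
  [3, 4, 5, 6, 7, 2, 3, 4, 5, 6, 1, 3, 4, 5, 2, 3, 4, 1, 3, 2, 0],
  [2, 1, 3, 4, 5, 6, 7],
  [0, 2, 1, 3, 4, 5, 6, 7],
  [2, 3, 4, 5, 6, 7],
  [0, 2, 3, 4, 5, 6, 7],
  [5, 6, 7, 3, 4, 5, 6, 2, 3, 4, 5, 0, 2, 3, 4, 1, 3, 2, 0],
  [4, 2, 3, 0, 2, 1, 3, 4, 5, 6, 7],
  [5, 6, 7],
  [5, 6, 7, 2, 3, 4, 5, 6, 1, 3, 4, 5, 2, 3, 4, 1, 3, 2, 0],
  [4, 3, 2, 1, 3, 4, 5, 6, 7],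
  [4, 3, 0, 2, 1, 3, 4, 5, 6, 7],
  [5, 6, 7, 3, 4, 5, 6, 1, 3, 4, 5, 0, 2, 3, 4, 1, 3, 2, 0],
  [5, 6, 7, 3, 4, 5, 6, 1, 3, 4, 5, 2, 3, 4, 1, 3, 2, 0],
  [5, 6, 7, 4, 5, 6, 2, 3, 4, 5, 0, 2, 3, 4, 1, 3, 2, 0],
  [3, 4, 2, 3, 0, 2, 1, 3, 4, 5, 6, 7],
  [5, 6, 7, 4, 5, 6, 2, 1, 3, 4, 5, 0, 2, 3, 4, 1, 3, 2, 0],
  [1, 3, 4, 2, 3, 0, 2, 1, 3, 4, 5, 6, 7],
  [5, 6, 7, 4, 5, 6, 3, 4, 5, 0, 2, 3, 4, 1, 3, 2, 0],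
  [5, 6, 7, 4, 5, 6, 3, 4, 5, 2, 3, 4, 1, 3, 2, 0],
  [5, 6, 7, 4, 5, 6, 1, 3, 4, 5, 0, 2, 3, 4, 1, 3, 2, 0],
  [5, 6, 7, 4, 5, 6, 1, 3, 4, 5, 2, 3, 4, 1, 3, 2, 0],
  [5, 4, 3, 2, 1, 3, 4, 5, 6, 0, 2, 3, 4, 5, 1, 3, 4, 2, 3, 0, 2, 1, 3, 4, 5, 6, 7],
  [7, 5, 6, 4, 5, 3, 4, 1, 3, 2, 0],
  [7, 5, 6, 3, 2, 1, 3, 4, 5, 0, 2, 3, 4, 1, 3, 2, 0],
  [6, 3, 4, 5, 1, 3, 4, 2, 3, 0, 2, 1, 3, 4, 5, 6, 7],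
  [7, 5, 6, 4, 5, 0, 2, 3, 4, 1, 3, 2, 0],
  [7, 5, 6, 4, 5, 2, 3, 4, 1, 3, 2, 0],
  [6, 0, 2, 3, 4, 5, 1, 3, 4, 2, 3, 0, 2, 1, 3, 4, 5, 6, 7],
  [6, 2, 3, 4, 5, 1, 3, 4, 2, 3, 0, 2, 1, 3, 4, 5, 6, 7],
  [7, 5, 6, 2, 3, 4, 5, 0, 2, 3, 4, 1, 3, 2, 0],
  [6, 4, 5, 3, 4, 2, 3, 0, 2, 1, 3, 4, 5, 6, 7],
  [7, 5, 6, 2, 1, 3, 4, 5, 0, 2, 3, 4, 1, 3, 2, 0],
  [6, 4, 5, 1, 3, 4, 2, 3, 0, 2, 1, 3, 4, 5, 6, 7],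
  [7, 5, 6, 3, 4, 5, 0, 2, 3, 4, 1, 3, 2, 0],
  [7, 5, 6, 3, 4, 5, 2, 3, 4, 1, 3, 2, 0],
  [7, 5, 6, 1, 3, 4, 5, 0, 2, 3, 4, 1, 3, 2, 0],
  [7, 5, 6, 1, 3, 4, 5, 2, 3, 4, 1, 3, 2, 0],
  [7, 3, 4, 5, 6, 2, 3, 4, 5, 0, 2, 3, 4, 1, 3, 2, 0],
  [6, 5, 4, 2, 3, 0, 2, 1, 3, 4, 5, 6, 7],
  [7],
  [7, 2, 3, 4, 5, 6, 1, 3, 4, 5, 2, 3, 4, 1, 3, 2, 0],
  [6, 5, 4, 3, 2, 1, 3, 4, 5, 6, 7],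
  [6, 5, 4, 3, 0, 2, 1, 3, 4, 5, 6, 7],
  [7, 3, 4, 5, 6, 1, 3, 4, 5, 0, 2, 3, 4, 1, 3, 2, 0],
  [7, 3, 4, 5, 6, 1, 3, 4, 5, 2, 3, 4, 1, 3, 2, 0],
  [7, 4, 5, 6, 2, 3, 4, 5, 0, 2, 3, 4, 1, 3, 2, 0],
  [6, 5, 3, 4, 2, 3, 0, 2, 1, 3, 4, 5, 6, 7],
  [7, 4, 5, 6, 2, 1, 3, 4, 5, 0, 2, 3, 4, 1, 3, 2, 0],
  [6, 5, 1, 3, 4, 2, 3, 0, 2, 1, 3, 4, 5, 6, 7],
  [7, 4, 5, 6, 3, 4, 5, 0, 2, 3, 4, 1, 3, 2, 0],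
  [7, 4, 5, 6, 3, 4, 5, 2, 3, 4, 1, 3, 2, 0],
  [7, 4, 5, 6, 1, 3, 4, 5, 0, 2, 3, 4, 1, 3, 2, 0],
  [7, 4, 5, 6, 1, 3, 4, 5, 2, 3, 4, 1, 3, 2, 0],
  [4, 3, 2, 1, 3, 4, 5, 6, 0, 2, 3, 4, 5, 1, 3, 4, 2, 3, 0, 2, 1, 3, 4, 5, 6, 7],
  [7, 6, 4, 5, 3, 4, 1, 3, 2, 0],
  [7, 6, 3, 2, 1, 3, 4, 5, 0, 2, 3, 4, 1, 3, 2, 0],
  [5, 6, 3, 4, 5, 1, 3, 4, 2, 3, 0, 2, 1, 3, 4, 5, 6, 7],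
  [7, 6, 4, 5, 0, 2, 3, 4, 1, 3, 2, 0],
  [7, 6, 4, 5, 2, 3, 4, 1, 3, 2, 0],
  [5, 6, 0, 2, 3, 4, 5, 1, 3, 4, 2, 3, 0, 2, 1, 3, 4, 5, 6, 7],
  [5, 6, 2, 3, 4, 5, 1, 3, 4, 2, 3, 0, 2, 1, 3, 4, 5, 6, 7],
  [7, 6, 2, 3, 4, 5, 0, 2, 3, 4, 1, 3, 2, 0],
  [5, 6, 4, 5, 3, 4, 2, 3, 0, 2, 1, 3, 4, 5, 6, 7],
  [7, 6, 2, 1, 3, 4, 5, 0, 2, 3, 4, 1, 3, 2, 0],
  [5, 6, 4, 5, 1, 3, 4, 2, 3, 0, 2, 1, 3, 4, 5, 6, 7],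
  [7, 6, 3, 4, 5, 0, 2, 3, 4, 1, 3, 2, 0],
  [7, 6, 3, 4, 5, 2, 3, 4, 1, 3, 2, 0],
  [7, 6, 1, 3, 4, 5, 0, 2, 3, 4, 1, 3, 2, 0],
  [7, 6, 1, 3, 4, 5, 2, 3, 4, 1, 3, 2, 0],
  [3, 2, 1, 3, 4, 5, 6, 0, 2, 3, 4, 5, 1, 3, 4, 2, 3, 0, 2, 1, 3, 4, 5, 6, 7],
  [7, 6, 5, 3, 4, 1, 3, 2, 0],
  [7, 6, 4, 3, 2, 1, 3, 4, 5, 0, 2, 3, 4, 1, 3, 2, 0],
  [4, 5, 6, 3, 4, 5, 1, 3, 4, 2, 3, 0, 2, 1, 3, 4, 5, 6, 7],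
  [7, 6, 5, 0, 2, 3, 4, 1, 3, 2, 0],
  [7, 6, 5, 2, 3, 4, 1, 3, 2, 0],
  [4, 5, 6, 0, 2, 3, 4, 5, 1, 3, 4, 2, 3, 0, 2, 1, 3, 4, 5, 6, 7],
  [4, 5, 6, 2, 3, 4, 5, 1, 3, 4, 2, 3, 0, 2, 1, 3, 4, 5, 6, 7],
  [2, 1, 3, 4, 5, 6, 0, 2, 3, 4, 5, 1, 3, 4, 2, 3, 0, 2, 1, 3, 4, 5, 6, 7],
  [7, 6, 5, 4, 1, 3, 2, 0],
  [2, 3, 4, 5, 6, 0, 2, 3, 4, 5, 1, 3, 4, 2, 3, 0, 2, 1, 3, 4, 5, 6, 7],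
  [7, 6, 5, 4, 3, 2, 0],
  [1, 3, 4, 5, 6, 0, 2, 3, 4, 5, 1, 3, 4, 2, 3, 0, 2, 1, 3, 4, 5, 6, 7],
  [1, 3, 4, 5, 6, 2, 3, 4, 5, 1, 3, 4, 2, 3, 0, 2, 1, 3, 4, 5, 6, 7],
  [3, 4, 5, 6, 0, 2, 3, 4, 5, 1, 3, 4, 2, 3, 0, 2, 1, 3, 4, 5, 6, 7],
  [3, 4, 5, 6, 2, 3, 4, 5, 1, 3, 4, 2, 3, 0, 2, 1, 3, 4, 5, 6, 7]]

/-- words of natural numbers as words in `Fin 8` -/
def toFin (w : List ℕ) : List (Fin chevE8.rank) := w.map fun i => ⟨i % 8, Nat.mod_lt _ (by decide)⟩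

/-- the certificate of `k` -/
def cert (k : ℕ) : List (Fin chevE8.rank) := toFin (certTab.getD k [])

theorem cert_ok : ∀ k < 256, k ≠ 0 →
    Valid (vecN k) (cert k) ∧
      ((∀ j, Even (run (vecN k) (cert k) j - lamA j)) ∨
       (∀ j, Even (run (vecN k) (cert k) j - lamB j))) := by
  decide +kernel

/-- the number with given binary digits -/
def numOf (b : Fin chevE8.rank → Bool) : ℕ :=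
  (List.finRange chevE8.rank).foldr (fun j acc => (if b j then 2 ^ j.val else 0) + acc) 0

theorem numOf_spec : ∀ b : Fin chevE8.rank → Bool,
    numOf b < 256 ∧ (∀ j, (numOf b).testBit j.val = b j) := by
  decide +kernel

/-- **P2** for `E₈` -/
theorem diag_invol_E8 (h : GL chevE8.Idx F) (hh : h ∈ chevE8.diagonalSubgroup F)
    (h2 : h * h = 1) (h1 : h ≠ 1) :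
    ∃ n ∈ chevE8.monomialSubgroup F,
      n * h * n⁻¹ = hLam chevE8 F (-1) lamA ∨ n * h * n⁻¹ = hLam chevE8 F (-1) lamB := by
  obtain ⟨lam, hlam, rfl⟩ := invol_diag_eq_E8 h hh h2
  let b : Fin chevE8.rank → Bool := fun j => decide (lam j = 1)
  obtain ⟨hk256, hbits⟩ := numOf_spec b
  have hvec : lam = vecN (numOf b) := by
    funext j
    unfold vecN
    rw [hbits j]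
    rcases hlam j with h0 | h0
    · simp [b, h0]
    · simp [b, h0]
  have hne : numOf b ≠ 0 := by
    intro hcon
    apply h1
    have : lam = 0 := by
      rw [hvec, hcon]
      funext j
      simp [vecN]
    rw [this]
    exact Cfsg.Agent.Lib.Helper7.ChG2.hLam_zero chevE8 _
  obtain ⟨hv, hend⟩ := cert_ok (numOf b) hk256 hne
  obtain ⟨n, hn, e⟩ := reach_of_valid (F := F) (vecN (numOf b)) (cert (numOf b)) hv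
  refine ⟨n, hn, ?_⟩
  rw [hvec, e]
  rcases hend with hA | hB
  · left
    exact hLam_neg_one_congr chevE8 _ _ hA
  · right
    exact hLam_neg_one_congr chevE8 _ _ hB

end Cfsg.Agent.Lib.Helper8.E8Inv
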