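import Mathlib
import Cfsg.Agent.Lib.Helper8.E8DiagInv
import Cfsg.Agent.Lib.Helper1.E8InvDefs

set_option autoImplicit false

/-!
S4281 unit P2 in the shape of helper1's definitions `tA`, `tB` (`Lib/Helper1/E8InvDefs`).
-/

namespace Cfsg.Agent.Lib.Helper8.E8Inv

open Cfsg Cfsg.Lie Cfsg.Agent.Lib.Helper5.ChevStruct Cfsg.Agent.Lib.Helper5.ChevSym
  Cfsg.Agent.Lib.Helper7.Ch2G

variable {F : Type*} [Field F]

theorem lamB_eq_h1_lamA : lamB = Cfsg.Agent.Lib.Helper1.E8Inv.lamA := by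
  funext j
  revert j
  decide

theorem lamA_eq_h1_lamB : lamA = Cfsg.Agent.Lib.Helper1.E8Inv.lamB := by
  funext j
  revert j
  decide

/-- **P2** for `E₈`, with helper1's representatives -/
theorem diag_invol_E8' (h : GL chevE8.Idx F) (hh : h ∈ chevE8.diagonalSubgroup F)
    (h2 : h * h = 1) (h1 : h ≠ 1) :
    ∃ n ∈ chevE8.monomialSubgroup F,
      n * h * n⁻¹ = Cfsg.Agent.Lib.Helper1.E8Inv.tA F ∨
        n * h * n⁻¹ = Cfsg.Agent.Lib.Helper1.E8Inv.tB F := by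
  obtain ⟨n, hn, hcase⟩ := diag_invol_E8 h hh h2 h1
  refine ⟨n, hn, ?_⟩
  rcases hcase with e | e
  · right
    rw [e, lamA_eq_h1_lamB]
    rfl
  · left
    rw [e, lamB_eq_h1_lamA]
    rfl

end Cfsg.Agent.Lib.Helper8.E8Inv
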