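import Mathlib
import Cfsg.Prelude.Def_ChevStructure
import Cfsg.Prelude.Def_ChevE8
import Cfsg.Agent.Lib.Helper5.ChevWRel
import Cfsg.Agent.Lib.Helper5.ChevWCount
import Cfsg.Agent.Lib.Helper5.ChevCoLin
import Cfsg.Agent.Lib.Helper9.InvolXD

set_option autoImplicit false

/-!
# S4281 farm, unit COX: involutions of the Weyl group, as words

* `act_trivial_of_simple_pos` (COX3): a word mapping the fundamental roots to positive roots acts
  trivially;
* `exists_conj_std` (COX1): an involutive word is conjugate to one which maps every fundamental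
  root to its negative or to a positive root;
* `std_act_eq` (COX2): such a word is determined by the set `J` of fundamental roots it negates: it
  acts as the inverse of any word `u` that behaves like the longest element of `W_J`;
* `phiCount_conj`: the number of negated roots is invariant under conjugation.
-/

namespace Cfsg.Agent.Lib.Helper8.E8Inv

open Cfsg Cfsg.Lie Cfsg.Agent.Lib.Helper5.ChevSym Cfsg.Agent.Lib.Helper5.ChevStruct
  Cfsg.Agent.Lib.Helper9.InvolX

/-! ## COX3 -/

/-- **COX3** (any of the seven types) -/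
theorem act_trivial_of_simple_pos_gen (D : ChevalleyDatum) (hD : D ∈ Seven) (w : List ℕ)
    (hw : Wd D w) (h : ∀ j < D.rank, D.IsPosRoot (wAct D w (D.simple j))) :
    ∀ r < D.nroots, wAct D w r = r := by
  have h0 : (negSet D w).card = 0 := by
    rw [Finset.card_eq_zero, Finset.eq_empty_iff_forall_notMem]
    intro r hr
    rw [mem_negSet] at hr
    exact hr.2 (wAct_pos_of_simple D hD w hw h r hr.1)
  have hrel := wrel_nil_of_card_eq_zero D hD w hw h0
  intro r hr
  exact hrel.act hD r hr

/-! ## COX1 -/

theorem wAct_conj_single (D : ChevalleyDatum) (w : List ℕ) (j x : ℕ) :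
    wAct D ([j] ++ w ++ [j]) x = D.reflectRoot j (wAct D w (D.reflectRoot j x)) := by
  rw [wAct_append_single]
  rfl

/-- conjugating an involutive word by a fundamental reflection keeps it involutive -/
theorem invol_conj_single (D : ChevalleyDatum) (hD : D ∈ Seven) (w : List ℕ) (hw : Wd D w)
    (hinv : ∀ r < D.nroots, wAct D (w ++ w) r = r) (j : ℕ) (hj : j < D.rank) :
    ∀ r < D.nroots, wAct D (([j] ++ w ++ [j]) ++ ([j] ++ w ++ [j])) r = r := by
  intro r hr
  have hσ := fun x hx => reflectRoot_invol D hD j hj x hx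
  rw [wAct_append, wAct_conj_single, wAct_conj_single]
  have h1 : D.reflectRoot j r < D.nroots := (hσ r hr).1
  have h2 : wAct D w (D.reflectRoot j r) < D.nroots := wAct_lt D hD w hw _ h1
  rw [(hσ _ h2).2, ← wAct_append, hinv _ h1, (hσ r hr).2]

/-- the length drops by two -/
theorem conj_step_card (D : ChevalleyDatum) (hD : D ∈ Seven) (w : List ℕ) (hw : Wd D w)
    (hinv : ∀ r < D.nroots, wAct D (w ++ w) r = r) (j : ℕ) (hj : j < D.rank)
    (hneg : ¬ D.IsPosRoot (wAct D w (D.simple j)))
    (hne : wAct D w (D.simple j) ≠ D.neg (D.simple j)) :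
    (negSet D ([j] ++ w ++ [j])).card + 2 = (negSet D w).card := by
  have hσ := fun x hx => reflectRoot_invol D hD j hj x hx
  have hp := simple_lt D hD j hj
  have h1 := card_negSet_append D hD w hw j hj hneg
  have hu : Wd D (w ++ [j]) := hw.append (Wd.single hj)
  have hw' : Wd D (j :: (w ++ [j])) := Wd.cons hj hu
  set a := wAct D w (D.simple j) with ha
  have halt : a < D.nroots := wAct_lt D hD w hw _ hp
  have hnapos : D.IsPosRoot (D.neg a) := pos_neg_of_not_pos D hD a halt hneg
  have hnane : D.neg a ≠ D.simple j := by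
    intro h
    apply hne
    rw [← (neg_lt D hD a halt).2.2, h]
  have hρ : D.IsPosRoot (D.reflectRoot j (D.neg a)) :=
    (checkCoLin_spec D j (chkCoLin_all D hD j hj) _ hnapos.1).2 hnapos hnane
  have hwa : wAct D w a = D.simple j := by
    rw [ha, ← wAct_append, hinv _ hp]
  have hact : wAct D (j :: (w ++ [j])) (D.reflectRoot j (D.neg a)) = D.simple j := by
    have e : wAct D (j :: (w ++ [j])) (D.reflectRoot j (D.neg a))
        = D.reflectRoot j (wAct D w (D.reflectRoot j (D.reflectRoot j (D.neg a)))) := by
      rw [← wAct_conj_single]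
      rfl
    rw [e, (hσ _ hnapos.1).2, wAct_neg D hD w hw a halt, hwa, ← reflectRoot_simple, (hσ _ hp).2]
  have h2 := card_negSet_cons_of_witness D hD j hj (j :: (w ++ [j])) hw' _ hρ hact
  have h3 : negSet D (j :: j :: (w ++ [j])) = negSet D (w ++ [j]) := by
    apply negSet_congr
    intro r hr
    show D.reflectRoot j (D.reflectRoot j (wAct D (w ++ [j]) r)) = _
    rw [(hσ _ (wAct_lt D hD _ hu r hr)).2]
  rw [h3] at h2
  have e0 : [j] ++ w ++ [j] = j :: (w ++ [j]) := rfl
  rw [e0]
  omega

/-- **COX1** (any of the seven types) -/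
theorem exists_conj_std_gen (D : ChevalleyDatum) (hD : D ∈ Seven) (w : List ℕ) (hw : Wd D w)
    (hinv : ∀ r < D.nroots, wAct D (w ++ w) r = r) :
    ∃ v, Wd D v ∧ ∀ j < D.rank,
      wAct D (v ++ w ++ v.reverse) (D.simple j) = D.neg (D.simple j) ∨
        D.IsPosRoot (wAct D (v ++ w ++ v.reverse) (D.simple j)) := by
  induction hn : (negSet D w).card using Nat.strong_induction_on generalizing w with
  | _ n ih =>
    by_cases hall : ∀ j < D.rank, wAct D w (D.simple j) = D.neg (D.simple j) ∨
        D.IsPosRoot (wAct D w (D.simple j))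
    · refine ⟨[], Wd.nil D, fun j hj => ?_⟩
      have e : ([] : List ℕ) ++ w ++ ([] : List ℕ).reverse = w := by simp
      rw [e]
      exact hall j hj
    · push Not at hall
      obtain ⟨j, hj, hne, hneg⟩ := hall
      have hcard := conj_step_card D hD w hw hinv j hj hneg hne
      have hw' : Wd D ([j] ++ w ++ [j]) := ((Wd.single hj).append hw).append (Wd.single hj)
      obtain ⟨v, hv, hprop⟩ := ih (negSet D ([j] ++ w ++ [j])).card (by omega) _ hw'
        (invol_conj_single D hD w hw hinv j hj) rfl
      refine ⟨v ++ [j], hv.append (Wd.single hj), fun k hk => ?_⟩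
      have e : (v ++ [j]) ++ w ++ (v ++ [j]).reverse = v ++ ([j] ++ w ++ [j]) ++ v.reverse := by
        simp [List.reverse_append, List.append_assoc]
      rw [e]
      exact hprop k hk

/-! ## the number of negated roots -/

theorem phiCount_eq_card (D : ChevalleyDatum) (w : List ℕ) :
    phiCount D w = ((Finset.range D.nroots).filter fun r => wAct D w r = D.neg r).card := by
  unfold phiCount
  rw [← List.toFinset_card_of_nodup (List.nodup_range.filter _)]
  congr 1
  ext r
  rw [List.mem_toFinset, List.mem_filter, Finset.mem_filter, List.mem_range, Finset.mem_range,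
    wActC_eq]
  constructor
  · rintro ⟨h1, h2⟩
    exact ⟨h1, Nat.eq_of_beq_eq_true h2⟩
  · rintro ⟨h1, h2⟩
    refine ⟨h1, ?_⟩
    rw [h2]
    exact Nat.beq_refl _

theorem wAct_reverse' (D : ChevalleyDatum) (hD : D ∈ Seven) (v : List ℕ) (hv : Wd D v) (r : ℕ)
    (hr : r < D.nroots) : wAct D v.reverse (wAct D v r) = r := by
  have := wAct_reverse D hD v.reverse hv.reverse r hr
  rwa [List.reverse_reverse] at this

theorem phiCount_le_conj (D : ChevalleyDatum) (hD : D ∈ Seven) (v w : List ℕ) (hv : Wd D v)
    (hw : Wd D w) : phiCount D w ≤ phiCount D (v ++ w ++ v.reverse) := by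
  rw [phiCount_eq_card, phiCount_eq_card]
  apply Finset.card_le_card_of_injOn (fun r => wAct D v r)
  · intro r hr
    rw [Finset.coe_filter, Set.mem_ofPred_eq, Finset.mem_range] at hr
    rw [Finset.coe_filter, Set.mem_ofPred_eq, Finset.mem_range]
    refine ⟨wAct_lt D hD v hv r hr.1, ?_⟩
    show wAct D (v ++ w ++ v.reverse) (wAct D v r) = D.neg (wAct D v r)
    rw [wAct_append, wAct_append, wAct_reverse' D hD v hv r hr.1, hr.2,
      wAct_neg D hD v hv r hr.1]
  · intro r hr s hs h
    rw [Finset.coe_filter, Set.mem_ofPred_eq, Finset.mem_range] at hr hs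
    exact wAct_injective D hD v hv r s hr.1 hs.1 h

/-- the number of negated roots is a class function -/
theorem phiCount_conj_gen (D : ChevalleyDatum) (hD : D ∈ Seven) (v w : List ℕ) (hv : Wd D v)
    (hw : Wd D w) : phiCount D (v ++ w ++ v.reverse) = phiCount D w := by
  apply le_antisymm _ (phiCount_le_conj D hD v w hv hw)
  have h1 := phiCount_le_conj D hD v.reverse (v ++ w ++ v.reverse) hv.reverse
    ((hv.append hw).append hv.reverse)
  have h2 : phiCount D (v.reverse ++ (v ++ w ++ v.reverse) ++ v.reverse.reverse) = phiCount D w := by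
    apply phiCount_congr
    intro r hr
    rw [List.reverse_reverse]
    have hr1 : wAct D v r < D.nroots := wAct_lt D hD v hv r hr
    rw [wAct_append, wAct_append, wAct_append, wAct_append,
      wAct_reverse' D hD v hv r hr,
      wAct_reverse' D hD v hv _ (wAct_lt D hD w hw r hr)]
  rw [h2] at h1
  exact h1

/-! ## COX2 -/

/-- a root with a positive coordinate is positive -/
theorem pos_of_co_pos (D : ChevalleyDatum) (hD : D ∈ Seven) (r k : ℕ) (hr : r < D.nroots)
    (hk : k < D.rank) (h : 0 < co D r k) : D.IsPosRoot r := by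
  by_contra hn
  have hneg := isNegRoot_of_not_pos D hD r hr hn
  have hsize := (checkCoBasis_spec D (chkCoBasis_all D hD)).2 r hr
  have : co D r k ≤ 0 := hneg.2 _ (getD_mem_toList _ k (by rw [hsize]; exact hk))
  omega

/-- **COX2**, for a datum whose negated fundamental roots have the expected coordinates -/
theorem std_act_eq_gen (D : ChevalleyDatum) (hD : D ∈ Seven)
    (hcn : ∀ i < D.rank, ∀ m < D.rank, co D (D.neg (D.simple i)) m = if m = i then -1 else 0)
    (w : List ℕ) (hw : Wd D w) (hinv : ∀ r < D.nroots, wAct D (w ++ w) r = r) (J : ℕ → Bool)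
    (hJ1 : ∀ j < D.rank, J j = true → wAct D w (D.simple j) = D.neg (D.simple j))
    (hJ0 : ∀ j < D.rank, J j = false → D.IsPosRoot (wAct D w (D.simple j)))
    (u : List ℕ) (hu : Wd D u)
    (hu1 : ∀ j < D.rank, J j = true →
      ∃ j' < D.rank, J j' = true ∧ wAct D u (D.simple j) = D.neg (D.simple j'))
    (hu0 : ∀ k < D.rank, J k = false → D.IsPosRoot (wAct D u (D.simple k)) ∧
      ∃ k' < D.rank, J k' = false ∧ 0 < co D (wAct D u (D.simple k)) k') :
    ∀ r < D.nroots, wAct D w r = wAct D u.reverse r := by
  -- the image under `w` of a fundamental root outside `J` has a positive coordinate outside `J`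
  have hout : ∀ k' < D.rank, J k' = false →
      ∃ m < D.rank, J m = false ∧ 0 < co D (wAct D w (D.simple k')) m := by
    intro k' hk' hJk'
    by_contra hcon
    push Not at hcon
    have hpos := hJ0 k' hk' hJk'
    have hco := (isPosRoot_iff_co D hD _).1 hpos
    have hzero : ∀ m < D.rank, J m = false → co D (wAct D w (D.simple k')) m = 0 := by
      intro m hm hJm
      have h1 := hcon m hm hJm
      have h2 := hco.2 m hm
      omega
    have hsk := simple_lt D hD k' hk'
    have h1 := co_wAct_eq_sum D hD w hw (wAct D w (D.simple k')) hco.1 k' hk'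
    rw [← wAct_append, hinv _ hsk, co_simple D hD k' hk' k' hk'] at h1
    have h2 : ∑ j ∈ Finset.range D.rank,
        co D (wAct D w (D.simple k')) j * co D (wAct D w (D.simple j)) k' = 0 := by
      apply Finset.sum_eq_zero
      intro i hi
      have hi' := Finset.mem_range.1 hi
      cases hJi : J i with
      | false => rw [hzero i hi' hJi, zero_mul]
      | true =>
        rw [hJ1 i hi' hJi, hcn i hi' k' hk']
        have : k' ≠ i := by
          rintro rfl
          rw [hJi] at hJk'
          exact Bool.noConfusion hJk'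
        rw [if_neg this, mul_zero]
    rw [h2] at h1
    simp [basisVec] at h1
  -- `w ++ u` maps the fundamental roots to positive roots
  have hposall : ∀ j < D.rank, D.IsPosRoot (wAct D (w ++ u) (D.simple j)) := by
    intro j hj
    rw [wAct_append]
    cases hJj : J j with
    | true =>
      obtain ⟨j', hj', hJj', e⟩ := hu1 j hj hJj
      have hsj' := simple_lt D hD j' hj'
      rw [e, wAct_neg D hD w hw _ hsj', hJ1 j' hj' hJj', (neg_lt D hD _ hsj').2.2]
      exact simple_pos D hD j' hj'
    | false =>
      obtain ⟨hrpos, k', hk', hJk', hcopos⟩ := hu0 j hj hJj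
      obtain ⟨m, hm, hJm, hmpos⟩ := hout k' hk' hJk'
      set r := wAct D u (D.simple j) with hr
      have hrco := (isPosRoot_iff_co D hD r).1 hrpos
      apply pos_of_co_pos D hD _ m (wAct_lt D hD w hw r hrco.1) hm
      rw [co_wAct_eq_sum D hD w hw r hrco.1 m hm]
      have hnonneg : ∀ i ∈ Finset.range D.rank,
          0 ≤ co D r i * co D (wAct D w (D.simple i)) m := by
        intro i hi
        have hi' := Finset.mem_range.1 hi
        cases hJi : J i with
        | true =>
          rw [hJ1 i hi' hJi, hcn i hi' m hm]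
          have : m ≠ i := by
            rintro rfl
            rw [hJi] at hJm
            exact Bool.noConfusion hJm
          rw [if_neg this, mul_zero]
        | false =>
          exact mul_nonneg (hrco.2 i hi')
            (((isPosRoot_iff_co D hD _).1 (hJ0 i hi' hJi)).2 m hm)
      calc (0 : ℤ) < co D r k' * co D (wAct D w (D.simple k')) m := mul_pos hcopos hmpos
        _ ≤ ∑ i ∈ Finset.range D.rank, co D r i * co D (wAct D w (D.simple i)) m :=
          Finset.single_le_sum hnonneg (Finset.mem_range.2 hk')
  have htriv := act_trivial_of_simple_pos_gen D hD (w ++ u) (hw.append hu) hposall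
  intro r hr
  have h1 : wAct D u.reverse r < D.nroots := wAct_lt D hD _ hu.reverse r hr
  have h2 := htriv _ h1
  rw [wAct_append, wAct_reverse D hD u hu r hr] at h2
  exact h2

/-! ## the case of `E₈` -/

theorem memE8' : chevE8 ∈ Seven := by simp [Seven]

theorem co_neg_simple_E8 : ∀ i < chevE8.rank, ∀ m < chevE8.rank,
    co chevE8 (chevE8.neg (chevE8.simple i)) m = if m = i then -1 else 0 := by
  decide +kernel

/-- **COX3** -/
theorem act_trivial_of_simple_pos (w : List ℕ) (hw : Wd chevE8 w)
    (h : ∀ j < chevE8.rank, chevE8.IsPosRoot (wAct chevE8 w (chevE8.simple j))) :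
    ∀ r < chevE8.nroots, wAct chevE8 w r = r :=
  act_trivial_of_simple_pos_gen chevE8 memE8' w hw h

/-- **COX1** -/
theorem exists_conj_std (w : List ℕ) (hw : Wd chevE8 w)
    (hinv : ∀ r < chevE8.nroots, wAct chevE8 (w ++ w) r = r) :
    ∃ v, Wd chevE8 v ∧ ∀ j < chevE8.rank,
      wAct chevE8 (v ++ w ++ v.reverse) (chevE8.simple j) = chevE8.neg (chevE8.simple j) ∨
        chevE8.IsPosRoot (wAct chevE8 (v ++ w ++ v.reverse) (chevE8.simple j)) :=
  exists_conj_std_gen chevE8 memE8' w hw hinv

/-- **COX2** -/
theorem std_act_eq (w : List ℕ) (hw : Wd chevE8 w)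
    (hinv : ∀ r < chevE8.nroots, wAct chevE8 (w ++ w) r = r) (J : ℕ → Bool)
    (hJ1 : ∀ j < chevE8.rank, J j = true →
      wAct chevE8 w (chevE8.simple j) = chevE8.neg (chevE8.simple j))
    (hJ0 : ∀ j < chevE8.rank, J j = false → chevE8.IsPosRoot (wAct chevE8 w (chevE8.simple j)))
    (u : List ℕ) (hu : Wd chevE8 u)
    (hu1 : ∀ j < chevE8.rank, J j = true →
      ∃ j' < chevE8.rank, J j' = true ∧
        wAct chevE8 u (chevE8.simple j) = chevE8.neg (chevE8.simple j'))
    (hu0 : ∀ k < chevE8.rank, J k = false → chevE8.IsPosRoot (wAct chevE8 u (chevE8.simple k)) ∧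
      ∃ k' < chevE8.rank, J k' = false ∧ 0 < co chevE8 (wAct chevE8 u (chevE8.simple k)) k') :
    ∀ r < chevE8.nroots, wAct chevE8 w r = wAct chevE8 u.reverse r :=
  std_act_eq_gen chevE8 memE8' co_neg_simple_E8 w hw hinv J hJ1 hJ0 u hu hu1 hu0

/-- the number of negated roots is invariant under conjugation -/
theorem phiCount_conj (v w : List ℕ) (hv : Wd chevE8 v) (hw : Wd chevE8 w) :
    phiCount chevE8 (v ++ w ++ v.reverse) = phiCount chevE8 w :=
  phiCount_conj_gen chevE8 memE8' v w hv hw

end Cfsg.Agent.Lib.Helper8.E8Inv
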