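import Mathlib
import Cfsg.Agent.Lib.Helper1.WChainE8
import Cfsg.Agent.Lib.Helper3.E8ChainB
import Cfsg.Agent.Lib.Helper8.E8InvDataB2

set_option autoImplicit false

/-!
S4281 farm, unit DATA-B (part 3: levels 1 and 3): kernel evaluation of helper1's chain checkers on helper3's tables
for `tB = h_θ(-1)` (`Φ_t = A₁ × E₇`). The files `E8InvDataB1 … B4` import each other in a row only to
make the heavy kernel evaluations run one after the other (peak memory).
-/

namespace Cfsg.Agent.Lib.Helper8.E8Inv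

open Cfsg Cfsg.Lie Cfsg.Agent.Lib.Helper5.ChevStruct Cfsg.Agent.Lib.Helper5.ChevSym
  Cfsg.Agent.Lib.Helper7.Ch2G Cfsg.Agent.Lib.Helper7.ChCent Cfsg.Agent.Lib.Helper1.WChain
  Cfsg.Agent.Lib.Helper1.E8Inv Cfsg.Agent.Lib.Helper3.E8Inv

set_option maxRecDepth 1000000
set_option Elab.async false

theorem hlvB1 : chkLvl chevE8 topB.par [] topB.S lvlB1 = true := by decide +kernel

theorem hlvB3 : chkLvl chevE8 topB.par [(lvlB2.P, lvlB2.v), (lvlB1.P, lvlB1.v)] lvlB2.S lvlB3 = true := by decide +kernel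

end Cfsg.Agent.Lib.Helper8.E8Inv
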