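import Mathlib
import Cfsg.Agent.Lib.Helper1.WChainE8
import Cfsg.Agent.Lib.Helper3.E8ChainB
import Cfsg.Agent.Lib.Helper8.E8InvDataB3

set_option autoImplicit false

/-!
S4281 farm, unit DATA-B (part 4: levels 4 to 8, the Poincaré polynomial, the chain): kernel evaluation of helper1's chain checkers on helper3's tables
for `tB = h_θ(-1)` (`Φ_t = A₁ × E₇`). The files `E8InvDataB1 … B4` import each other in a row only to
make the heavy kernel evaluations run one after the other (peak memory).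
-/

namespace Cfsg.Agent.Lib.Helper8.E8Inv

open Cfsg Cfsg.Lie Cfsg.Agent.Lib.Helper5.ChevStruct Cfsg.Agent.Lib.Helper5.ChevSym
  Cfsg.Agent.Lib.Helper7.Ch2G Cfsg.Agent.Lib.Helper7.ChCent Cfsg.Agent.Lib.Helper1.WChain
  Cfsg.Agent.Lib.Helper1.E8Inv Cfsg.Agent.Lib.Helper3.E8Inv

set_option maxRecDepth 1000000
set_option Elab.async false

theorem hlvB4 : chkLvl chevE8 topB.par [(lvlB3.P, lvlB3.v), (lvlB2.P, lvlB2.v), (lvlB1.P, lvlB1.v)] lvlB3.S lvlB4 = true := by decide +kernel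

theorem hlvB5 : chkLvl chevE8 topB.par [(lvlB4.P, lvlB4.v), (lvlB3.P, lvlB3.v), (lvlB2.P, lvlB2.v), (lvlB1.P, lvlB1.v)] lvlB4.S lvlB5 = true := by decide +kernel

theorem hlvB6 : chkLvl chevE8 topB.par [(lvlB5.P, lvlB5.v), (lvlB4.P, lvlB4.v), (lvlB3.P, lvlB3.v), (lvlB2.P, lvlB2.v), (lvlB1.P, lvlB1.v)] lvlB5.S lvlB6 = true := by decide +kernel

theorem hlvB7 : chkLvl chevE8 topB.par [(lvlB6.P, lvlB6.v), (lvlB5.P, lvlB5.v), (lvlB4.P, lvlB4.v), (lvlB3.P, lvlB3.v), (lvlB2.P, lvlB2.v), (lvlB1.P, lvlB1.v)] lvlB6.S lvlB7 = true := by decide +kernel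

theorem hlvB8 : chkLvl chevE8 topB.par [(lvlB7.P, lvlB7.v), (lvlB6.P, lvlB6.v), (lvlB5.P, lvlB5.v), (lvlB4.P, lvlB4.v), (lvlB3.P, lvlB3.v), (lvlB2.P, lvlB2.v), (lvlB1.P, lvlB1.v)] lvlB7.S lvlB8 = true := by decide +kernel

theorem hdsB : chainP chevE8 topB.par lvlsB = degPoly [2, 2, 6, 8, 10, 12, 14, 18] := by
  decide +kernel

theorem hchkB : chkChain chevE8 topB.par [] topB.S lvlsB = true := by
  unfold lvlsB
  rw [chkChain, chkChain, chkChain, chkChain, chkChain, chkChain, chkChain, chkChain, chkChain,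
    hlvB1, hlvB2, hlvB3, hlvB4, hlvB5, hlvB6, hlvB7, hlvB8]
  rfl

end Cfsg.Agent.Lib.Helper8.E8Inv
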