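import Mathlib
import Cfsg.Prelude.Def_ChevE8
import Cfsg.Agent.Lib.Helper5.ChevGen
import Cfsg.Agent.Lib.Helper7.G2CentT
import Cfsg.Agent.Lib.Helper1.E8InvDefs
import Cfsg.Agent.Lib.Helper8.E8DiagInv2

set_option autoImplicit false

/-!
S4281 (`E₈(q)`, `q` odd: exactly two classes of involutions, with the centralizer orders): the
assembly (unit ASM), with Part I (every involution is conjugate into `H`) and the two centralizer
orders as hypotheses.
-/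

namespace Cfsg.Agent.Lib.Helper8.E8Inv

open Cfsg Cfsg.Lie Cfsg.Agent.Lib.Helper5.ChevStruct Cfsg.Agent.Lib.Helper5.ChevSym
  Cfsg.Agent.Lib.Helper7.Ch2G Cfsg.Agent.Lib.Helper1.E8Inv

variable {F : Type*} [Field F]

/-- conjugate elements have centralizers of the same order -/
theorem card_centralizer_of_isConj' {G : Type*} [Group G] {s t : G} (h : IsConj s t) :
    Nat.card ↥(Subgroup.centralizer ({s} : Set G))
      = Nat.card ↥(Subgroup.centralizer ({t} : Set G)) := by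
  obtain ⟨c, hc⟩ := isConj_iff.1 h
  have e := Cfsg.Agent.Lib.Helper7.G2CentT.centralizer_map_equiv (MulAut.conj c) s
  have e2 : (MulAut.conj c) s = t := by rw [MulAut.conj_apply]; exact hc
  rw [e2] at e
  rw [← e]
  exact (Nat.card_congr ((MulAut.conj c).subgroupMap _).toEquiv)

theorem one_le_pow_sub_one (q : ℕ) (hq : 2 ≤ q) (k : ℕ) (hk : 1 ≤ k) : 1 ≤ q ^ k - 1 := by
  have : 2 ≤ q ^ k := by
    calc 2 ≤ q := hq
      _ = q ^ 1 := (pow_one q).symm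
      _ ≤ q ^ k := Nat.pow_le_pow_right (by omega) hk
  omega

theorem prod_Icc_one_seven (q : ℕ) :
    ∏ i ∈ Finset.Icc 1 7, (q ^ (2 * i) - 1)
      = (q ^ 2 - 1) * (q ^ 4 - 1) * (q ^ 6 - 1) * (q ^ 8 - 1) * (q ^ 10 - 1) * (q ^ 12 - 1)
        * (q ^ 14 - 1) := by
  have e : Finset.Icc 1 7 = {1, 2, 3, 4, 5, 6, 7} := by decide
  rw [e]
  simp [Finset.prod_insert, mul_assoc]

/-- the two orders are different -/
theorem orders_ne_E8 (q : ℕ) (hq : 2 ≤ q) :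
    q ^ 56 * (q ^ 8 - 1) * ∏ i ∈ Finset.Icc 1 7, (q ^ (2 * i) - 1)
      ≠ q ^ 64 * (q ^ 2 - 1) ^ 2 * (q ^ 6 - 1) * (q ^ 8 - 1) * (q ^ 10 - 1) * (q ^ 12 - 1)
        * (q ^ 14 - 1) * (q ^ 18 - 1) := by
  rw [prod_Icc_one_seven]
  have hq0 : 0 < q := by omega
  have h2 := one_le_pow_sub_one q hq 2 (by omega)
  have h4 := one_le_pow_sub_one q hq 4 (by omega)
  have h6 := one_le_pow_sub_one q hq 6 (by omega)
  have h8 := one_le_pow_sub_one q hq 8 (by omega)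
  have h10 := one_le_pow_sub_one q hq 10 (by omega)
  have h12 := one_le_pow_sub_one q hq 12 (by omega)
  have h14 := one_le_pow_sub_one q hq 14 (by omega)
  have h18 := one_le_pow_sub_one q hq 18 (by omega)
  intro h
  -- the common factor
  have hC : 0 < q ^ 56 * (q ^ 2 - 1) * (q ^ 6 - 1) * (q ^ 8 - 1) * (q ^ 10 - 1) * (q ^ 12 - 1)
      * (q ^ 14 - 1) := by positivity
  have e1 : q ^ 56 * (q ^ 8 - 1) * ((q ^ 2 - 1) * (q ^ 4 - 1) * (q ^ 6 - 1) * (q ^ 8 - 1)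
        * (q ^ 10 - 1) * (q ^ 12 - 1) * (q ^ 14 - 1))
      = (q ^ 56 * (q ^ 2 - 1) * (q ^ 6 - 1) * (q ^ 8 - 1) * (q ^ 10 - 1) * (q ^ 12 - 1)
        * (q ^ 14 - 1)) * ((q ^ 8 - 1) * (q ^ 4 - 1)) := by ring
  have e2 : q ^ 64 * (q ^ 2 - 1) ^ 2 * (q ^ 6 - 1) * (q ^ 8 - 1) * (q ^ 10 - 1) * (q ^ 12 - 1)
        * (q ^ 14 - 1) * (q ^ 18 - 1)
      = (q ^ 56 * (q ^ 2 - 1) * (q ^ 6 - 1) * (q ^ 8 - 1) * (q ^ 10 - 1) * (q ^ 12 - 1)
        * (q ^ 14 - 1)) * (q ^ 8 * (q ^ 2 - 1) * (q ^ 18 - 1)) := by ring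
  rw [e1, e2] at h
  have h' := Nat.eq_of_mul_eq_mul_left hC h
  -- `(q^8 - 1)(q^4 - 1) < q^12 ≤ q^8 (q^2 - 1)(q^18 - 1)`
  have hl : (q ^ 8 - 1) * (q ^ 4 - 1) < q ^ 8 * q ^ 4 := by
    have a : q ^ 8 - 1 < q ^ 8 := by have := pow_pos hq0 8; omega
    have b : q ^ 4 - 1 < q ^ 4 := by have := pow_pos hq0 4; omega
    exact Nat.mul_lt_mul'' a b
  have hr : q ^ 8 * q ^ 4 ≤ q ^ 8 * (q ^ 2 - 1) * (q ^ 18 - 1) := by
    have c : q ^ 4 ≤ q ^ 18 - 1 := by
      have : q ^ 4 * 2 ≤ q ^ 18 := by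
        calc q ^ 4 * 2 ≤ q ^ 4 * q := Nat.mul_le_mul_left _ hq
          _ = q ^ 5 := by ring
          _ ≤ q ^ 18 := Nat.pow_le_pow_right hq0 (by omega)
      have := pow_pos hq0 4
      omega
    calc q ^ 8 * q ^ 4 = q ^ 8 * 1 * q ^ 4 := by ring
      _ ≤ q ^ 8 * (q ^ 2 - 1) * (q ^ 18 - 1) :=
        Nat.mul_le_mul (Nat.mul_le_mul_left _ h2) c
  omega

/-- **S4281**, from Part I and the two centralizer orders as hypotheses -/
theorem s4281_of [Fintype F] (hF : Odd (Fintype.card F))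
    (hP1 : ∀ t : GL chevE8.Idx F, t ∈ chevE8.group F → t * t = 1 →
      ∃ g ∈ chevE8.group F, g * t * g⁻¹ ∈ chevE8.diagonalSubgroup F)
    (hA : Nat.card (Subgroup.centralizer
        ({(⟨tA F, tA_mem⟩ : ↥(Cfsg.Lie.chevE8.group F))} : Set ↥(Cfsg.Lie.chevE8.group F)))
      = Fintype.card F ^ 56 * (Fintype.card F ^ 8 - 1)
        * ∏ i ∈ Finset.Icc 1 7, (Fintype.card F ^ (2 * i) - 1))
    (hB : Nat.card (Subgroup.centralizer
        ({(⟨tB F, tB_mem⟩ : ↥(Cfsg.Lie.chevE8.group F))} : Set ↥(Cfsg.Lie.chevE8.group F)))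
      = Fintype.card F ^ 64 * (Fintype.card F ^ 2 - 1) ^ 2 * (Fintype.card F ^ 6 - 1)
        * (Fintype.card F ^ 8 - 1) * (Fintype.card F ^ 10 - 1) * (Fintype.card F ^ 12 - 1)
        * (Fintype.card F ^ 14 - 1) * (Fintype.card F ^ 18 - 1)) :
    ∃ s t : ↥(Cfsg.Lie.chevE8.group F), orderOf s = 2 ∧ orderOf t = 2 ∧ ¬ IsConj s t ∧
      (∀ u : ↥(Cfsg.Lie.chevE8.group F), orderOf u = 2 → IsConj u s ∨ IsConj u t) ∧
      Nat.card (Subgroup.centralizer ({s} : Set ↥(Cfsg.Lie.chevE8.group F)))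
        = Fintype.card F ^ 56 * (Fintype.card F ^ 8 - 1)
          * ∏ i ∈ Finset.Icc 1 7, (Fintype.card F ^ (2 * i) - 1) ∧
      Nat.card (Subgroup.centralizer ({t} : Set ↥(Cfsg.Lie.chevE8.group F)))
        = Fintype.card F ^ 64 * (Fintype.card F ^ 2 - 1) ^ 2 * (Fintype.card F ^ 6 - 1)
          * (Fintype.card F ^ 8 - 1) * (Fintype.card F ^ 10 - 1) * (Fintype.card F ^ 12 - 1)
          * (Fintype.card F ^ 14 - 1) * (Fintype.card F ^ 18 - 1) := by
  have hq : 2 ≤ Fintype.card F := Fintype.one_lt_card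
  refine ⟨⟨tA F, tA_mem⟩, ⟨tB F, tB_mem⟩, ?_, ?_, ?_, ?_, hA, hB⟩
  · apply Cfsg.Agent.Lib.Helper7.G2CentT.orderOf_eq_two_of
    · exact Subtype.ext tA_sq
    · intro h
      exact tA_ne_one hF (congrArg Subtype.val h)
  · apply Cfsg.Agent.Lib.Helper7.G2CentT.orderOf_eq_two_of
    · exact Subtype.ext tB_sq
    · intro h
      exact tB_ne_one hF (congrArg Subtype.val h)
  · intro hc
    have := card_centralizer_of_isConj' hc
    rw [hA, hB] at this
    exact orders_ne_E8 _ hq this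
  · intro u hu
    have hu2 : (u : GL chevE8.Idx F) * u = 1 := by
      have : u ^ 2 = 1 := by rw [← hu]; exact pow_orderOf_eq_one u
      have h := congrArg Subtype.val this
      simpa [pow_two] using h
    have hu1 : (u : GL chevE8.Idx F) ≠ 1 := by
      intro h
      have : u = 1 := Subtype.ext h
      rw [this, orderOf_one] at hu
      omega
    obtain ⟨g, hg, hgd⟩ := hP1 u u.2 hu2
    have hd2 : (g * u * g⁻¹) * (g * u * g⁻¹) = 1 := by
      calc (g * (u : GL chevE8.Idx F) * g⁻¹) * (g * u * g⁻¹) = g * (u * u) * g⁻¹ := by group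
        _ = 1 := by rw [hu2, mul_one, mul_inv_cancel]
    have hd1 : g * (u : GL chevE8.Idx F) * g⁻¹ ≠ 1 := by
      intro h
      apply hu1
      have : (u : GL chevE8.Idx F) = g⁻¹ * (g * u * g⁻¹) * g := by group
      rw [this, h]; group
    obtain ⟨n, hn, hcase⟩ := diag_invol_E8' _ hgd hd2 hd1
    have hnG : n ∈ chevE8.group F := monomial_le_group chevE8 memE8 hn
    rcases hcase with h | h
    · left
      rw [isConj_iff]
      refine ⟨⟨n * g, mul_mem hnG hg⟩, Subtype.ext ?_⟩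
      show (n * g) * (u : GL chevE8.Idx F) * (n * g)⁻¹ = tA F
      rw [← h]; group
    · right
      rw [isConj_iff]
      refine ⟨⟨n * g, mul_mem hnG hg⟩, Subtype.ext ?_⟩
      show (n * g) * (u : GL chevE8.Idx F) * (n * g)⁻¹ = tB F
      rw [← h]; group

end Cfsg.Agent.Lib.Helper8.E8Inv
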