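import Mathlib
import Cfsg.Agent.Lib.Helper1.WChainE8
import Cfsg.Agent.Lib.Helper3.E8ChainB
import Cfsg.Agent.Lib.Helper8.E8InvDataB4
import Cfsg.Agent.Lib.Helper8.E8InvMain

set_option autoImplicit false

/-!
S4281 farm, unit DATA-B (the order of the centraliser of `tB`): kernel evaluation of helper1's
chain checkers on helper3's tables for `tB = h_θ(-1)` (`Φ_t = A₁ × E₇`). The files
`E8InvDataB1 … B4` import each other in a row only to make the heavy kernel evaluations run one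
after the other (peak memory).
-/

namespace Cfsg.Agent.Lib.Helper8.E8Inv

open Cfsg Cfsg.Lie Cfsg.Agent.Lib.Helper5.ChevStruct Cfsg.Agent.Lib.Helper5.ChevSym
  Cfsg.Agent.Lib.Helper7.Ch2G Cfsg.Agent.Lib.Helper7.ChCent Cfsg.Agent.Lib.Helper1.WChain
  Cfsg.Agent.Lib.Helper1.E8Inv Cfsg.Agent.Lib.Helper3.E8Inv

variable {F : Type*} [Field F]

/-- **DATA-B**: the order of the centraliser of `tB` in `E₈(q)`, `q` odd -/
theorem card_centralizer_tB [Fintype F] (hodd : Odd (Fintype.card F)) :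
    Nat.card (Subgroup.centralizer
        ({(⟨tB F, tB_mem⟩ : ↥(Cfsg.Lie.chevE8.group F))} : Set ↥(Cfsg.Lie.chevE8.group F)))
      = Fintype.card F ^ 64 * (Fintype.card F ^ 2 - 1) ^ 2 * (Fintype.card F ^ 6 - 1)
        * (Fintype.card F ^ 8 - 1) * (Fintype.card F ^ 10 - 1) * (Fintype.card F ^ 12 - 1)
        * (Fintype.card F ^ 14 - 1) * (Fintype.card F ^ 18 - 1) := by
  have hp := parOK_E8 Cfsg.Agent.Lib.Helper1.E8Inv.lamB topB.par hparB
  have hch : ChainOK chevE8 Cfsg.Agent.Lib.Helper1.E8Inv.lamB [] topB.S lvlsB :=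
    chkChain_spec chevE8 Cfsg.Agent.Lib.Helper1.E8Inv.memE8 Cfsg.Agent.Lib.Helper1.E8Inv.lamB topB.par hp lvlsB [] topB.S
      (all_wdB_spec chevE8 topB.S hwdSB) hchkB
  have h := card_centralizer_E8 (F := F) hodd Cfsg.Agent.Lib.Helper1.E8Inv.lamB topB lvlsB hparB htopB hch 64 hNB
    [2, 2, 6, 8, 10, 12, 14, 18] hdsB rfl
  have e : (⟨tB F, tB_mem⟩ : ↥(Cfsg.Lie.chevE8.group F))
      = ⟨hLam chevE8 F (-1) Cfsg.Agent.Lib.Helper1.E8Inv.lamB, hLam_mem_group chevE8 Cfsg.Agent.Lib.Helper1.E8Inv.memE8 _ _⟩ :=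
    rfl
  rw [e, h]
  simp only [List.map_cons, List.map_nil, List.prod_cons, List.prod_nil]
  ring

end Cfsg.Agent.Lib.Helper8.E8Inv
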