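import Mathlib

set_option autoImplicit false

/-! The orders of the even permutations of at most 8 points. -/

namespace Cfsg.Agent.Lib.Helper8.EvenOrd

/-- the largest possible multiset of cycle lengths other than 2 -/
def M1 : Multiset ℕ := {3, 3, 4, 4, 5, 6, 7, 8}

theorem key : ∀ c < 5, ∀ m ∈ M1.powerset, 2 * c + m.sum ≤ 8 →
    Even (2 * c + m.sum + (c + Multiset.card m)) →
    (Multiset.replicate c 2 + m).lcm ∈ ({1, 2, 3, 4, 5, 6, 7, 15} : Finset ℕ) := by
  decide +kernel

theorem sum_ge_of_le {s t : Multiset ℕ} (h : s ≤ t) : s.sum ≤ t.sum := by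
  obtain ⟨u, rfl⟩ := Multiset.le_iff_exists_add.mp h
  rw [Multiset.sum_add]
  exact Nat.le_add_right _ _

theorem count_mul_le (m : Multiset ℕ) (a : ℕ) : m.count a * a ≤ m.sum := by
  have hrep : Multiset.replicate (m.count a) a ≤ m := Multiset.le_count_iff_replicate_le.mp le_rfl
  have hsum := sum_ge_of_le hrep
  rw [Multiset.sum_replicate, smul_eq_mul] at hsum
  exact hsum

theorem le_M1 (m : Multiset ℕ) (h2 : ∀ a ∈ m, 3 ≤ a) (hs : m.sum ≤ 8) : m ≤ M1 := by
  rw [Multiset.le_iff_count]
  intro a
  have hca : m.count a * a ≤ 8 := (count_mul_le m a).trans hs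
  by_cases ha2 : a < 3
  · rw [Multiset.count_eq_zero_of_notMem (fun hmem => absurd (h2 a hmem) (not_le.mpr ha2))]
    exact Nat.zero_le _
  by_cases ha8 : 8 < a
  · have : m.count a = 0 := by
      by_contra hne
      have : 1 ≤ m.count a := Nat.one_le_iff_ne_zero.mpr hne
      nlinarith
    rw [this]
    exact Nat.zero_le _
  have h2a : 3 ≤ a := not_lt.mp ha2
  have ha8' : a ≤ 8 := not_lt.mp ha8
  interval_cases a
  · have : Multiset.count 3 M1 = 2 := by decide
    omega
  · have : Multiset.count 4 M1 = 2 := by decide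
    omega
  · have : Multiset.count 5 M1 = 1 := by decide
    omega
  · have : Multiset.count 6 M1 = 1 := by decide
    omega
  · have : Multiset.count 7 M1 = 1 := by decide
    omega
  · have : Multiset.count 8 M1 = 1 := by decide
    omega

/-- an even permutation of at most 8 points has order 1, ..., 7 or 15 -/
theorem orderOf_mem_of_sign {α : Type*} [Fintype α] [DecidableEq α] (hα : Fintype.card α ≤ 8)
    (σ : Equiv.Perm α) (hs : Equiv.Perm.sign σ = 1) :
    orderOf σ ∈ ({1, 2, 3, 4, 5, 6, 7, 15} : Finset ℕ) := by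
  have h1 : σ.cycleType.lcm = orderOf σ := Equiv.Perm.lcm_cycleType σ
  have h2 : σ.cycleType.sum ≤ 8 := by
    rw [Equiv.Perm.sum_cycleType]
    exact (Finset.card_le_univ _).trans hα
  have h3 : ∀ a ∈ σ.cycleType, 2 ≤ a := fun a ha => Equiv.Perm.two_le_of_mem_cycleType ha
  have h4 : Even (σ.cycleType.sum + Multiset.card σ.cycleType) := by
    rw [Equiv.Perm.sign_of_cycleType] at hs
    by_contra hodd
    rw [Nat.not_even_iff_odd] at hodd
    rw [hodd.neg_one_pow] at hs
    exact absurd hs (by decide)
  -- split off the parts equal to 2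
  set m := σ.cycleType with hm
  set m' := m.filter (fun a => ¬ 2 = a) with hm'
  have hsplit : m = Multiset.replicate (m.count 2) 2 + m' := by
    rw [hm', ← Multiset.filter_eq, Multiset.filter_add_not]
  have hm'3 : ∀ a ∈ m', 3 ≤ a := by
    intro a ha
    rw [hm', Multiset.mem_filter] at ha
    have := h3 a ha.1
    have hne : ¬ 2 = a := ha.2
    omega
  have hsum : m.sum = 2 * m.count 2 + m'.sum := by
    conv_lhs => rw [hsplit]
    rw [Multiset.sum_add, Multiset.sum_replicate, smul_eq_mul, mul_comm]
  have hcard : Multiset.card m = m.count 2 + Multiset.card m' := by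
    conv_lhs => rw [hsplit]
    rw [Multiset.card_add, Multiset.card_replicate]
  have hc5 : m.count 2 < 5 := by
    have := count_mul_le m 2
    omega
  have hm'8 : m'.sum ≤ 8 := by omega
  rw [← h1, hsplit]
  apply key _ hc5 _ (Multiset.mem_powerset.mpr (le_M1 _ hm'3 hm'8))
  · omega
  · rw [← hsum, ← hcard]
    exact h4

end Cfsg.Agent.Lib.Helper8.EvenOrd
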