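import Mathlib
import Cfsg.Agent.Lib.Helper8.Ext1

set_option autoImplicit false

/-! Theorem B: groups of order 32 with centre of order 2 (helper8). -/

namespace Cfsg.Agent.Lib.Helper8.Ext

open Subgroup

section charmap

variable {G : Type*} [Group G]

theorem char_map_subtype (D : Subgroup G) [hD : D.Characteristic] (A : Subgroup D)
    (hA : A.Characteristic) : (A.map D.subtype).Characteristic := by
  rw [characteristic_iff_map_le]
  intro φ
  have hDφ : D.map φ.toMonoidHom = D := characteristic_iff_map_eq.mp hD φ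
  let ψ : D ≃* D := (φ.subgroupMap D).trans (MulEquiv.subgroupCongr hDφ)
  rintro x ⟨y, ⟨a, ha, rfl⟩, rfl⟩
  have h1 : ψ a ∈ A := characteristic_iff_map_le.mp hA ψ (Subgroup.mem_map_of_mem _ ha)
  exact ⟨ψ a, h1, rfl⟩

theorem card_center_subtype [Finite G] (D : Subgroup G) :
    Nat.card (center D) = Nat.card (D ⊓ centralizer (D : Set G) : Subgroup G) := by
  have : (center D).map D.subtype = D ⊓ centralizer (D : Set G) := by
    ext x
    rw [Subgroup.mem_map, Subgroup.mem_inf]
    constructor
    · rintro ⟨d, hd, rfl⟩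
      refine ⟨d.2, ?_⟩
      rw [mem_centralizer_iff]
      intro y hy
      have := mem_center_iff.mp hd ⟨y, hy⟩
      exact congrArg Subtype.val this
    · rintro ⟨hxD, hxC⟩
      refine ⟨⟨x, hxD⟩, ?_, rfl⟩
      rw [mem_center_iff]
      intro y
      exact Subtype.ext (mem_centralizer_iff.mp hxC y.1 y.2)
  rw [← this, Subgroup.card_map_of_injective (Subgroup.subtype_injective D)]

theorem SType.subgroup [Finite G] (h : SType G) (D : Subgroup G) [D.Characteristic] : SType D where
  exp4 := fun d => Subtype.ext (by simpa using h.exp4 d.1)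
  cyc := by
    intro A hA hAc
    have hchar := char_map_subtype D A hA
    have hcomm : IsMulCommutative (A.map D.subtype) := by
      refine ⟨⟨?_⟩⟩
      rintro ⟨_, a, ha, rfl⟩ ⟨_, b, hb, rfl⟩
      apply Subtype.ext
      have := hAc.is_comm.comm ⟨a, ha⟩ ⟨b, hb⟩
      have h2 := congrArg (fun x : A => ((x : D) : G)) this
      simpa using h2
    haveI hcyc := h.cyc _ hchar hcomm
    exact isCyclic_of_surjective
      (Subgroup.equivMapOfInjective A D.subtype (Subgroup.subtype_injective D)).symm.toMonoidHom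
      (MulEquiv.surjective _)

theorem cm_T_aux {Q : Type*} [Group Q] (T δ : Q) (hδ : δ * δ = 1)
    (hc : δ * (T * δ * T⁻¹) = (T * δ * T⁻¹) * δ) (hs : T * T * δ = δ * (T * T)) :
    cm T (cm T δ) = 1 := by
  rw [cm_eq_one_iff]
  have hδinv : δ⁻¹ = δ := inv_eq_of_mul_eq_one_left hδ
  have e1 : cm T δ = T * δ * T⁻¹ * δ := by
    unfold cm
    rw [hδinv]
  rw [e1]
  calc T * (T * δ * T⁻¹ * δ) = (T * T * δ) * T⁻¹ * δ := by group
    _ = δ * (T * T) * T⁻¹ * δ := by rw [hs]
    _ = (δ * (T * δ * T⁻¹)) * T := by group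
    _ = (T * δ * T⁻¹ * δ) * T := by rw [hc]

end charmap


section thmB

variable {G : Type*} [Group G] [Finite G]

theorem ZK_le_KK : ZK G ≤ KK G := by
  unfold ZK
  exact inf_le_left

set_option maxHeartbeats 1000000 in
/-- Theorem B: order 32, centre of order 2. -/
theorem SType.KK_eq_top_of_card_32 (h : SType G) (h32 : Nat.card G = 32)
    (h2 : Nat.card (center G) = 2) : KK G = ⊤ := by
  by_cases hZK : ZK G ≤ center G
  · exact h.KK_eq_top_of_ZK_le hZK
  exfalso
  have hZK4 : Nat.card (ZK G) = 4 := by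
    have hle : Nat.card (ZK G) ≤ 4 := h.card_le_four (ZK G) inferInstance ZK_comm
    have hdvd : Nat.card (center G) ∣ Nat.card (ZK G) := Subgroup.card_dvd_of_le center_le_ZK
    rw [h2] at hdvd
    have hne : Nat.card (ZK G) ≠ 2 := by
      intro h'
      apply hZK
      have : center G = ZK G := Subgroup.eq_of_le_of_card_ge center_le_ZK (by rw [h2, h'])
      rw [← this]
    have hpos : 0 < Nat.card (ZK G) := Nat.card_pos
    obtain ⟨m, hm⟩ := hdvd
    omega
  have hZKcyc : IsCyclic (ZK G) :=
    h.cyc _ inferInstance ⟨⟨fun a b => Subtype.ext (ZK_comm (G := G) a.1 a.2 b.1 b.2)⟩⟩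
  obtain ⟨c0, hc0Z, hc01⟩ : ∃ c0 ∈ center G, c0 ≠ 1 := by
    have : center G ≠ ⊥ := by
      rw [← Subgroup.one_lt_card_iff_ne_bot, h2]
      norm_num
    obtain ⟨a, ha⟩ := (Subgroup.ne_bot_iff_exists_ne_one).mp this
    exact ⟨a.1, a.2, fun h' => ha (Subtype.ext h')⟩
  have hc02 : c0 ^ 2 = 1 := by
    have : (⟨c0, hc0Z⟩ : center G) ^ Nat.card (center G) = 1 := pow_card_eq_one'
    rw [h2] at this
    exact congrArg Subtype.val this
  have hsq1 : ∀ x ∈ ZK G, x ^ 2 = 1 → x ∈ center G := by
    intro x hx hx2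
    by_cases hx1 : x = 1
    · rw [hx1]
      exact Subgroup.one_mem _
    · rw [unique_invol_of_cyclic (ZK G) hZKcyc x c0 hx (center_le_ZK hc0Z) hx2 hc02 hx1 hc01]
      exact hc0Z
  have hidxZ : ((center G).subgroupOf (ZK G)).index = 2 := by
    have h1 := Subgroup.card_mul_index ((center G).subgroupOf (ZK G))
    rw [Nat.card_congr (Subgroup.subgroupOfEquivOfLe (center_le_ZK (G := G))).toEquiv, h2, hZK4] at h1
    omega
  have hprodZ : ∀ a ∈ ZK G, ∀ b ∈ ZK G, a ∉ center G → b ∉ center G → a * b ∈ center G := by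
    intro a ha b hb ha' hb'
    have := Subgroup.mul_mem_iff_of_index_two hidxZ (a := ⟨a, ha⟩) (b := ⟨b, hb⟩)
    simp only [Subgroup.mem_subgroupOf] at this
    exact this.mpr ⟨fun h => absurd h ha', fun h => absurd h hb'⟩
  -- the subgroup D
  obtain ⟨D, hD⟩ : ∃ D : Subgroup G, D = centralizer (ZK G : Set G) := ⟨_, rfl⟩
  have hDchar : D.Characteristic := by
    rw [hD]
    infer_instance
  have hDn : D.Normal := inferInstance
  have hcardD : Nat.card D = 16 := by
    have hpc := pair_count h.unique_invol (ZK G) ZK_le_KK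
    rw [Nat.card_congr (Subgroup.subgroupOfEquivOfLe (center_le_ZK (G := G))).toEquiv, h32, h2, hZK4,
      ← hD] at hpc
    omega
  have hidxD : D.index = 2 := by
    have := Subgroup.card_mul_index D
    rw [hcardD, h32] at this
    omega
  have hmulD : ∀ a b : G, a * b ∈ D ↔ (a ∈ D ↔ b ∈ D) :=
    fun a b => Subgroup.mul_mem_iff_of_index_two hidxD
  have hKD : KK G ≤ D := by
    intro k hk
    rw [hD, mem_centralizer_iff]
    intro z hz
    exact (mem_centralizer_iff.mp hz.2 k hk).symm
  have hZKD : ZK G ≤ D := fun z hz => hKD hz.1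
  have hZD : D ⊓ centralizer (D : Set G) = ZK G := by
    have hle : ZK G ≤ D ⊓ centralizer (D : Set G) := by
      intro z hz
      refine Subgroup.mem_inf.mpr ⟨hZKD hz, ?_⟩
      rw [mem_centralizer_iff]
      intro d hd
      rw [hD] at hd
      exact (mem_centralizer_iff.mp hd z hz).symm
    have hchar : (D ⊓ centralizer (D : Set G)).Characteristic := inferInstance
    have hcard : Nat.card (D ⊓ centralizer (D : Set G) : Subgroup G) ≤ 4 :=
      h.card_le_four _ hchar (by
        intro a ha b hb
        exact mem_centralizer_iff.mp hb.2 a ha.1)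
    exact (Subgroup.eq_of_le_of_card_ge hle (by rw [hZK4]; exact hcard)).symm
  have hmemZD : ∀ x, x ∈ ZK G → x ∈ centralizer (D : Set G) := by
    intro x hx
    rw [← hZD] at hx
    exact hx.2
  have hDtop : KK D = ⊤ := by
    apply (h.subgroup D).KK_eq_top_of_center_four
    rw [card_center_subtype, hZD, hZK4]
  have hD2 : ∀ d ∈ D, ∀ d' ∈ D, cm d d' ∈ center G := by
    intro d hd d' hd'
    have hh := cm_mem_center_of_KK_top hDtop (⟨d, hd⟩ : D) ⟨d', hd'⟩
    have hval : ((cm (⟨d, hd⟩ : D) ⟨d', hd'⟩ : D) : G) = cm d d' := by simp [cm]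
    apply hsq1 (cm d d')
    · rw [← hZD, ← hval]
      refine Subgroup.mem_inf.mpr ⟨Subtype.property _, ?_⟩
      rw [mem_centralizer_iff]
      intro y hy
      exact congrArg Subtype.val (mem_center_iff.mp hh.1 ⟨y, hy⟩)
    · rw [← hval]
      have := congrArg Subtype.val hh.2
      simpa using this
  have hD1 : ∀ d ∈ D, d ^ 2 ∈ center G := by
    intro d hd
    have hh := sq_mem_center_of_KK_top hDtop (⟨d, hd⟩ : D)
    apply hsq1
    · rw [← hZD]
      refine Subgroup.mem_inf.mpr ⟨pow_mem hd 2, ?_⟩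
      rw [mem_centralizer_iff]
      intro y hy
      have := congrArg Subtype.val (mem_center_iff.mp hh ⟨y, hy⟩)
      simpa using this
    · rw [← pow_mul]
      exact h.exp4 d
  obtain ⟨t, ht⟩ : ∃ t, t ∉ D := by
    by_contra hno
    push Not at hno
    have : D = ⊤ := eq_top_iff.mpr (fun x _ => hno x)
    rw [this, Subgroup.card_top, h32] at hcardD
    omega
  have ht2 : t * t ∈ D := (hmulD t t).mpr Iff.rfl
  have hcos : ∀ g, g ∉ D → t⁻¹ * g ∈ D := by
    intro g hg
    rw [hmulD]
    constructor
    · intro h'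
      exact absurd (inv_mem_iff.mp h') ht
    · intro h'
      exact absurd h' hg
  have hcmD : ∀ d ∈ D, cm t d ∈ D := by
    intro d hd
    unfold cm
    exact mul_mem (hDn.conj_mem d hd t) (inv_mem hd)
  -- E2
  have hE2 : ∀ d ∈ D, cm t (cm t d) ∈ center G := by
    intro d hd
    let π := QuotientGroup.mk' (center G)
    have hπcomm : ∀ a ∈ D, ∀ b ∈ D, π a * π b = π b * π a := by
      intro a ha b hb
      rw [← cm_eq_one_iff, ← map_cm']
      exact (QuotientGroup.eq_one_iff _).mpr (hD2 a ha b hb)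
    have hπsq : ∀ a ∈ D, π a * π a = 1 := by
      intro a ha
      rw [← map_mul, ← pow_two]
      exact (QuotientGroup.eq_one_iff _).mpr (hD1 a ha)
    have h1 : π (cm t (cm t d)) = 1 := by
      rw [map_cm', map_cm']
      apply cm_T_aux
      · exact hπsq d hd
      · have := hπcomm d hd (t * d * t⁻¹) (hDn.conj_mem d hd t)
        simpa using this
      · have := hπcomm (t * t) ht2 d hd
        simpa using this
    exact (QuotientGroup.eq_one_iff _).mp h1
  -- Step 1
  have step1 : ∃ d ∈ D, d ∉ ZK G ∧ cm t d ∈ center G := by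
    by_contra H0
    push Not at H0
    have hE : ∀ d ∈ D, cm t d ∈ ZK G := by
      intro d hd
      by_contra hn
      exact H0 (cm t d) (hcmD d hd) hn (hE2 d hd)
    obtain ⟨d, hd, hdZ⟩ : ∃ d ∈ D, d ∉ ZK G := by
      by_contra hno
      push Not at hno
      have hle : D ≤ ZK G := hno
      have := Subgroup.card_le_of_le hle
      omega
    have hdc : d ∉ centralizer (D : Set G) := fun hc => hdZ (hZD ▸ ⟨hd, hc⟩)
    rw [mem_centralizer_iff] at hdc
    push Not at hdc
    obtain ⟨d', hd', hne⟩ := hdc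
    have hd'Z : d' ∉ ZK G := by
      intro hz
      exact hne (mem_centralizer_iff.mp (hmemZD d' hz) d hd).symm
    have hdd'Z : d * d' ∉ ZK G := by
      intro hz
      have h3 := mem_centralizer_iff.mp (hmemZD _ hz) d hd
      apply hne
      have h4 : d * (d * d') = d * (d' * d) := by
        rw [h3]
        group
      exact (mul_left_cancel h4).symm
    have hmul : cm t (d * d') = cm t d * cm t d' := by
      have h1 : cm t (d * d') = cm t d * (d * cm t d') * d⁻¹ := by
        unfold cm
        group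
      rw [h1]
      have hcomm : d * cm t d' = cm t d' * d :=
        mem_centralizer_iff.mp (hmemZD _ (hE d' hd')) d hd
      rw [hcomm]
      group
    have hprod := hprodZ (cm t d) (hE d hd) (cm t d') (hE d' hd') (H0 d hd hdZ) (H0 d' hd' hd'Z)
    rw [← hmul] at hprod
    exact H0 (d * d') (mul_mem hd hd') hdd'Z hprod
  obtain ⟨d, hd, hdZ, hcd⟩ := step1
  have hdK : d ∈ KK G := by
    apply mem_KK_of (hD1 d hd)
    intro g
    by_cases hg : g ∈ D
    · exact hD2 d hd g hg
    · have hg' := hcos g hg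
      have hge : g = t * (t⁻¹ * g) := by group
      rw [hge, cm_mul_right d t (t⁻¹ * g) (hD2 d hd _ hg')]
      refine mul_mem ?_ (hD2 d hd _ hg')
      rw [cm_symm]
      exact inv_mem hcd
  have hKcard : Nat.card (KK G) = 16 := by
    have hdvd : Nat.card (KK G) ∣ 16 := hcardD ▸ Subgroup.card_dvd_of_le hKD
    have h4dvd : 4 ∣ Nat.card (KK G) :=
      hZK4 ▸ Subgroup.card_dvd_of_le (ZK_le_KK (G := G))
    have hne4 : Nat.card (KK G) ≠ 4 := by
      intro h4
      have : ZK G = KK G := Subgroup.eq_of_le_of_card_ge ZK_le_KK (by rw [h4, hZK4])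
      exact hdZ (this ▸ hdK)
    have hne8 : Nat.card (KK G) ≠ 8 := by
      intro h8
      have hidx : ((ZK G).subgroupOf (KK G)).index = 2 := by
        have h1 := Subgroup.card_mul_index ((ZK G).subgroupOf (KK G))
        rw [Nat.card_congr (Subgroup.subgroupOfEquivOfLe (ZK_le_KK (G := G))).toEquiv,
          hZK4, h8] at h1
        omega
      apply hdZ
      refine Subgroup.mem_inf.mpr ⟨hdK, ?_⟩
      rw [mem_centralizer_iff]
      intro k hk
      by_cases hkZ : k ∈ ZK G
      · exact (mem_centralizer_iff.mp hkZ.2 d hdK).symm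
      · have := Subgroup.mul_mem_iff_of_index_two hidx (a := (⟨d, hdK⟩ : KK G)⁻¹) (b := ⟨k, hk⟩)
        simp only [Subgroup.mem_subgroupOf] at this
        have hz : d⁻¹ * k ∈ ZK G := by
          have h5 := this.mpr ⟨fun h' => absurd (by simpa using h') hdZ, fun h' => absurd h' hkZ⟩
          simpa using h5
        have hzc := mem_centralizer_iff.mp hz.2 d hdK
        calc k * d = d * ((d⁻¹ * k) * d) := by group
          _ = d * (d * (d⁻¹ * k)) := by rw [hzc]
          _ = d * k := by group
    have hpos : 0 < Nat.card (KK G) := Nat.card_pos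
    have hle : Nat.card (KK G) ≤ 16 := Nat.le_of_dvd (by norm_num) hdvd
    generalize Nat.card (KK G) = n at *
    interval_cases n <;> omega
  have hKeqD : KK G = D := Subgroup.eq_of_le_of_card_ge hKD (by rw [hKcard, hcardD])
  have hs : t ^ 2 ∉ center G := by
    intro hs
    apply ht
    rw [← hKeqD]
    apply mem_KK_of hs
    intro g
    by_cases hg : g ∈ D
    · rw [cm_symm]
      exact inv_mem ((hKeqD ▸ hg : g ∈ KK G) t).1
    · have hg' := hcos g hg
      have hge : g = t * (t⁻¹ * g) := by group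
      have hc : cm t (t⁻¹ * g) ∈ center G := by
        rw [cm_symm]
        exact inv_mem ((hKeqD ▸ hg' : _ ∈ KK G) t).1
      rw [hge, cm_mul_right t t _ hc]
      have : cm t t = 1 := by simp [cm]
      rw [this, one_mul]
      exact hc
  obtain ⟨s, hs_def⟩ : ∃ s, s = t ^ 2 := ⟨_, rfl⟩
  rw [← hs_def] at hs
  have hstt : s = t * t := by rw [hs_def, pow_two]
  have hsK : s ∈ KK G := by
    rw [hKeqD, hstt]
    exact ht2
  have hs2 : s ^ 2 = 1 := by
    rw [hs_def, ← pow_mul]
    exact h.exp4 t
  have hs1 : s ≠ 1 := fun h1 => hs (h1 ▸ Subgroup.one_mem _)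
  have hsq : ∀ g : G, g ^ 2 ∈ center G ∨ ∃ z ∈ center G, g ^ 2 = z * s := by
    intro g
    by_cases hg : g ∈ D
    · left
      exact hD1 g hg
    · right
      have hg' := hcos g hg
      obtain ⟨e, he⟩ : ∃ e, e = t⁻¹ * g := ⟨_, rfl⟩
      rw [← he] at hg'
      have hgK : e ∈ KK G := hKeqD ▸ hg'
      have hg_eq : g = t * e := by
        rw [he]
        group
      have hz1 : cm t e ∈ center G := by
        rw [cm_symm]
        exact inv_mem (hgK t).1
      have hz2 : cm s e ∈ center G := by
        rw [cm_symm]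
        exact inv_mem (hgK s).1
      have hz3 : e ^ 2 ∈ center G := sq_mem_center_of_mem_KK hgK
      refine ⟨cm t e * cm s e * e ^ 2, mul_mem (mul_mem hz1 hz2) hz3, ?_⟩
      have e1 : t * e = cm t e * (e * t) := by
        unfold cm
        group
      have e2 : s * e = cm s e * (e * s) := by
        unfold cm
        group
      have hc2 : e * cm s e = cm s e * e := mem_center_iff.mp hz2 e
      calc g ^ 2 = (t * e) * (t * e) := by rw [hg_eq, pow_two]
        _ = (cm t e * (e * t)) * (t * e) := by rw [← e1]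
        _ = cm t e * (e * (s * e)) := by
            rw [hstt]
            group
        _ = cm t e * (e * (cm s e * (e * s))) := by rw [← e2]
        _ = cm t e * ((e * cm s e) * (e * s)) := by group
        _ = cm t e * ((cm s e * e) * (e * s)) := by rw [hc2]
        _ = cm t e * cm s e * e ^ 2 * s := by
            rw [pow_two]
            group
  have hsqcomm : ∀ g g' : G, g ^ 2 * g' ^ 2 = g' ^ 2 * g ^ 2 := by
    intro g g'
    rcases hsq g with hz | ⟨z, hz, hgz⟩
    · exact (mem_center_iff.mp hz _).symm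
    · rcases hsq g' with hz' | ⟨z', hz', hgz'⟩
      · exact mem_center_iff.mp hz' _
      · rw [hgz, hgz']
        have a1 := mem_center_iff.mp hz
        have a2 := mem_center_iff.mp hz'
        calc z * s * (z' * s) = z * (s * z') * s := by group
          _ = z * (z' * s) * s := by rw [a2 s]
          _ = (z * z') * s * s := by group
          _ = (z' * z) * s * s := by rw [a1 z']
          _ = z' * (z * s) * s := by group
          _ = z' * (s * z) * s := by rw [a1 s]
          _ = z' * s * (z * s) := by group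
  obtain ⟨J, hJ⟩ : ∃ J : Subgroup G, J = closure {x | ∃ g : G, x = g ^ 2} := ⟨_, rfl⟩
  have hJchar : J.Characteristic := by
    rw [characteristic_iff_map_le]
    intro φ
    rw [hJ, MonoidHom.map_closure, closure_le]
    rintro x ⟨y, ⟨g, rfl⟩, rfl⟩
    apply Subgroup.subset_closure
    exact ⟨φ g, by simp⟩
  have hJcomm : ∀ a ∈ J, ∀ b ∈ J, a * b = b * a := by
    have h1 : ∀ a ∈ J, ∀ g : G, g ^ 2 * a = a * g ^ 2 := by
      intro a ha g
      have hle : J ≤ centralizer {g ^ 2} := by
        rw [hJ, closure_le]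
        rintro x ⟨g', rfl⟩
        rw [SetLike.mem_coe, mem_centralizer_iff]
        rintro y rfl
        exact hsqcomm g g'
      have := mem_centralizer_iff.mp (hle ha) (g ^ 2) rfl
      exact this
    intro a ha b hb
    have hle : J ≤ centralizer {a} := by
      rw [hJ, closure_le]
      rintro x ⟨g', rfl⟩
      rw [SetLike.mem_coe, mem_centralizer_iff]
      rintro y rfl
      exact (h1 y ha g').symm
    exact mem_centralizer_iff.mp (hle hb) a rfl
  have hJcyc : IsCyclic J :=
    h.cyc J hJchar ⟨⟨fun a b => Subtype.ext (hJcomm a a.2 b b.2)⟩⟩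
  obtain ⟨γ, hγ⟩ := hZKcyc.exists_generator
  have hγord : orderOf γ = 4 := by
    rw [orderOf_eq_card_of_forall_mem_zpowers hγ, hZK4]
  have hγ2 : (γ : G) ^ 2 ≠ 1 := by
    intro h'
    have : orderOf γ ∣ 2 := orderOf_dvd_of_pow_eq_one (Subtype.ext (by simpa using h'))
    rw [hγord] at this
    omega
  have hγ2Z : (γ : G) ^ 2 ∈ center G :=
    hsq1 _ (pow_mem γ.2 2) (by rw [← pow_mul]; exact h.exp4 _)
  have hmemJ : ∀ g : G, g ^ 2 ∈ J := by
    intro g
    rw [hJ]
    exact Subgroup.subset_closure ⟨g, rfl⟩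
  have hfin : (γ : G) ^ 2 = s :=
    unique_invol_of_cyclic J hJcyc _ _ (hmemJ γ) (hs_def ▸ hmemJ t)
      (by rw [← pow_mul]; exact h.exp4 _) hs2 hγ2 hs1
  exact hs (hfin ▸ hγ2Z)

end thmB

end Cfsg.Agent.Lib.Helper8.Ext
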