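import Mathlib
import Cfsg.Prelude.Def_GeometricClasses
import Cfsg.Agent.Lib.Helper8.Ext2

set_option autoImplicit false

/-! Matrix-level structure of absolutely irreducible symplectic-type 2-groups (helper8). -/

namespace Cfsg.Agent.Lib.Helper8.Ext

open scoped MatrixGroups Matrix
open Subgroup

variable {ι : Type} [Fintype ι] [DecidableEq ι] {F : Type*} [Field F]

/-- the matrix of a GL element is scalar -/
def IsScal (u : GL ι F) : Prop := ∃ c : F, (u : Matrix ι ι F) = c • (1 : Matrix ι ι F)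

/-- extraspecial-like structure, at the level of `GL`. -/
structure XS (R : Subgroup (GL ι F)) : Prop where
  negOne : (-1 : GL ι F) ∈ R
  sq : ∀ ρ ∈ R, ρ * ρ = 1 ∨ ρ * ρ = -1
  comm : ∀ ρ ∈ R, ∀ σ ∈ R, ρ * σ = σ * ρ ∨ ρ * σ = -(σ * ρ)
  anti : ∀ ρ ∈ R, ¬ IsScal ρ → ∃ σ ∈ R, ρ * σ = -(σ * ρ)

theorem isScal_one : IsScal (1 : GL ι F) := ⟨1, by simp⟩

theorem isScal_neg_one : IsScal (-1 : GL ι F) := ⟨-1, by simp⟩

theorem scal_sq [Nonempty ι] (u : GL ι F) (hu : IsScal u) (h : u * u = 1) :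
    u = 1 ∨ u = -1 := by
  obtain ⟨c, hc⟩ := hu
  have h1 : (u : Matrix ι ι F) * (u : Matrix ι ι F) = 1 := by
    rw [← Units.val_mul, h, Units.val_one]
  rw [hc, Matrix.smul_mul, Matrix.mul_smul, Matrix.mul_one, smul_smul] at h1
  obtain ⟨i⟩ := ‹Nonempty ι›
  have h2 := congrFun (congrFun h1 i) i
  simp only [Matrix.smul_apply, Matrix.one_apply_eq, smul_eq_mul, mul_one] at h2
  have h3 : (c - 1) * (c + 1) = 0 := by ring_nf; ring_nf at h2; rw [h2]; ring
  rcases mul_eq_zero.mp h3 with h4 | h4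
  · left
    apply Units.ext
    rw [hc, sub_eq_zero.mp h4, one_smul, Units.val_one]
  · right
    apply Units.ext
    rw [hc, eq_neg_of_add_eq_zero_left h4, Units.val_neg, Units.val_one, neg_smul, one_smul]

theorem central_isScal (R : Subgroup (GL ι F))
    (hirr : ∀ M : Matrix ι ι F, (∀ s ∈ Cfsg.Geo.matrixSet R, M * s = s * M) → ∃ c : F, M = c • (1 : Matrix ι ι F))
    (g : R) (hg : g ∈ center R) : IsScal g.1 := by
  apply hirr
  rintro s ⟨σ, hσ, rfl⟩
  have := mem_center_iff.mp hg ⟨σ, hσ⟩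
  have h2 := congrArg (fun x : R => ((x : GL ι F) : Matrix ι ι F)) this
  simp only [Subgroup.coe_mul, Units.val_mul] at h2
  exact h2.symm

theorem isScal_central (R : Subgroup (GL ι F)) (g : R) (hg : IsScal g.1) : g ∈ center R := by
  rw [mem_center_iff]
  intro h
  obtain ⟨c, hc⟩ := hg
  apply Subtype.ext
  apply Units.ext
  simp only [Subgroup.coe_mul, Units.val_mul]
  rw [hc]
  simp

theorem xs_of [Nonempty ι] (R : Subgroup (GL ι F)) [Finite R] (hS : SType R) (hK : KK R = ⊤)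
    (hirr : ∀ M : Matrix ι ι F, (∀ s ∈ Cfsg.Geo.matrixSet R, M * s = s * M) → ∃ c : F, M = c • (1 : Matrix ι ι F))
    (heven : 2 ∣ Nat.card (center R)) : XS R := by
  have hsq : ∀ ρ ∈ R, ρ * ρ = 1 ∨ ρ * ρ = -1 := by
    intro ρ hρ
    have h1 := sq_mem_center_of_KK_top hK (⟨ρ, hρ⟩ : R)
    have h2 := central_isScal R hirr _ h1
    have h3 : ((⟨ρ, hρ⟩ : R) ^ 2 : R).1 = ρ * ρ := by simp [pow_two]
    rw [h3] at h2
    apply scal_sq _ h2
    have h4 : ρ ^ 4 = 1 := by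
      have := congrArg Subtype.val (hS.exp4 ⟨ρ, hρ⟩)
      simpa using this
    calc ρ * ρ * (ρ * ρ) = ρ ^ 4 := by
          rw [show (4 : ℕ) = 2 + 2 from rfl, pow_add, pow_two]
      _ = 1 := h4
  have hcomm : ∀ ρ ∈ R, ∀ σ ∈ R, ρ * σ = σ * ρ ∨ ρ * σ = -(σ * ρ) := by
    intro ρ hρ σ hσ
    have h1 := cm_mem_center_of_KK_top hK (⟨ρ, hρ⟩ : R) ⟨σ, hσ⟩
    have h2 := central_isScal R hirr _ h1.1
    have h3 : (cm (⟨ρ, hρ⟩ : R) ⟨σ, hσ⟩ : R).1 = cm ρ σ := by simp [cm]
    rw [h3] at h2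
    have h4 : cm ρ σ * cm ρ σ = 1 := by
      have := congrArg Subtype.val h1.2
      simp only [Subgroup.coe_pow, Subgroup.coe_one, h3] at this
      rw [← pow_two]
      exact this
    rcases scal_sq _ h2 h4 with h5 | h5
    · left
      exact (cm_eq_one_iff ρ σ).mp h5
    · right
      unfold cm at h5
      have : ρ * σ = (ρ * σ * ρ⁻¹ * σ⁻¹) * (σ * ρ) := by group
      rw [this, h5, neg_mul, one_mul]
  refine ⟨?_, hsq, hcomm, ?_⟩
  · haveI : Fact (Nat.Prime 2) := ⟨Nat.prime_two⟩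
    obtain ⟨z, hz⟩ := exists_prime_orderOf_dvd_card' 2 heven
    have hz2 : z ^ 2 = 1 := by rw [← hz]; exact pow_orderOf_eq_one z
    have hz1 : z ≠ 1 := by
      intro h1
      rw [h1, orderOf_one] at hz
      omega
    have hsc := central_isScal R hirr z.1 z.2
    have h4 : (z.1.1 : GL ι F) * z.1.1 = 1 := by
      have := congrArg (fun x : center R => ((x : R) : GL ι F)) hz2
      simpa [pow_two] using this
    rcases scal_sq _ hsc h4 with h5 | h5
    · exfalso
      apply hz1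
      apply Subtype.ext
      apply Subtype.ext
      exact h5
    · rw [← h5]
      exact z.1.2
  · intro ρ hρ hns
    have hnc : (⟨ρ, hρ⟩ : R) ∉ center R := by
      intro hc
      exact hns (central_isScal R hirr _ hc)
    rw [mem_center_iff] at hnc
    push Not at hnc
    obtain ⟨σ, hσ⟩ := hnc
    refine ⟨σ.1, σ.2, ?_⟩
    rcases hcomm ρ hρ σ.1 σ.2 with h1 | h1
    · exfalso
      apply hσ
      apply Subtype.ext
      exact h1.symm
    · exact h1

theorem XS.trace_eq_zero {R : Subgroup (GL ι F)} (hX : XS R) (h2 : (2 : F) ≠ 0)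
    (ρ : GL ι F) (hρ : ρ ∈ R) (hns : ¬ IsScal ρ) : Matrix.trace (ρ : Matrix ι ι F) = 0 := by
  obtain ⟨σ, hσ, hanti⟩ := hX.anti ρ hρ hns
  have h1 : ρ = -(σ * ρ * σ⁻¹) := by
    calc ρ = (ρ * σ) * σ⁻¹ := (mul_inv_cancel_right ρ σ).symm
      _ = (-(σ * ρ)) * σ⁻¹ := by rw [hanti]
      _ = -(σ * ρ * σ⁻¹) := by rw [neg_mul]
  have h3 : Matrix.trace (ρ : Matrix ι ι F) = - Matrix.trace (ρ : Matrix ι ι F) := by
    conv_lhs => rw [h1]
    rw [Units.val_neg, Matrix.trace_neg, Units.val_mul, Units.val_mul, Matrix.trace_mul_cycle,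
      ← Units.val_mul, inv_mul_cancel, Units.val_one, Matrix.one_mul]
  have h4 : (2 : F) * Matrix.trace (ρ : Matrix ι ι F) = 0 := by linear_combination h3
  exact (mul_eq_zero.mp h4).resolve_left h2

end Cfsg.Agent.Lib.Helper8.Ext
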