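import Mathlib
import Cfsg.Prelude.Def_GeometricClasses
import Cfsg.Agent.Lib.Helper8.Ext3

set_option autoImplicit false

/-! Trace formula for normalizers of extraspecial-type matrix groups (helper8). -/

namespace Cfsg.Agent.Lib.Helper8.Ext

open scoped MatrixGroups Matrix
open Subgroup

variable {ι : Type} [Fintype ι] [DecidableEq ι] {F : Type*} [Field F]

theorem isScal_comm {u : GL ι F} (hu : IsScal u) (v : GL ι F) : u * v = v * u := by
  obtain ⟨c, hc⟩ := hu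
  apply Units.ext
  rw [Units.val_mul, Units.val_mul, hc]
  simp

theorem isScal_mul {u v : GL ι F} (hu : IsScal u) (hv : IsScal v) : IsScal (u * v) := by
  obtain ⟨c, hc⟩ := hu
  obtain ⟨d, hd⟩ := hv
  refine ⟨c * d, ?_⟩
  rw [Units.val_mul, hc, hd]
  simp [smul_smul, mul_comm]

theorem isScal_of_comm_all (R : Subgroup (GL ι F))
    (hirr : ∀ M : Matrix ι ι F, (∀ s ∈ Cfsg.Geo.matrixSet R, M * s = s * M) → ∃ c : F, M = c • (1 : Matrix ι ι F))
    (x : GL ι F) (h : ∀ ρ ∈ R, x * ρ = ρ * x) : IsScal x := by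
  apply hirr
  rintro s ⟨σ, hσ, rfl⟩
  have := congrArg Units.val (h σ hσ)
  simpa using this

/-- averaging over the group -/
theorem avg_eq (R : Subgroup (GL ι F)) [Fintype R]
    (hirr : ∀ M : Matrix ι ι F, (∀ s ∈ Cfsg.Geo.matrixSet R, M * s = s * M) → ∃ c : F, M = c • (1 : Matrix ι ι F))
    (M : Matrix ι ι F) :
    ∃ c : F, (∑ ρ : R, (ρ.1 : Matrix ι ι F) * M * ((ρ.1⁻¹ : GL ι F) : Matrix ι ι F)) = c • (1 : Matrix ι ι F) ∧
      (Fintype.card ι : F) * c = (Fintype.card R : F) * Matrix.trace M := by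
  set A : Matrix ι ι F := ∑ ρ : R, (ρ.1 : Matrix ι ι F) * M * ((ρ.1⁻¹ : GL ι F) : Matrix ι ι F) with hA
  have hconj : ∀ σ : R, (σ.1 : Matrix ι ι F) * A * ((σ.1⁻¹ : GL ι F) : Matrix ι ι F) = A := by
    intro σ
    rw [hA, Finset.mul_sum, Finset.sum_mul]
    apply Fintype.sum_equiv (Equiv.mulLeft σ)
    intro ρ
    simp only [Equiv.coe_mulLeft, Subgroup.coe_mul, Units.val_mul, mul_inv_rev, Matrix.mul_assoc]
  have hcomm : ∀ s ∈ Cfsg.Geo.matrixSet R, A * s = s * A := by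
    rintro s ⟨σ, hσ, rfl⟩
    have h1 := hconj ⟨σ, hσ⟩
    have h2 : ((σ⁻¹ : GL ι F) : Matrix ι ι F) * (σ : Matrix ι ι F) = 1 := by
      rw [← Units.val_mul, inv_mul_cancel, Units.val_one]
    calc A * (σ : Matrix ι ι F)
        = ((σ : Matrix ι ι F) * A * ((σ⁻¹ : GL ι F) : Matrix ι ι F)) * (σ : Matrix ι ι F) := by rw [h1]
      _ = (σ : Matrix ι ι F) * A := by rw [Matrix.mul_assoc, h2, Matrix.mul_one]
  obtain ⟨c, hc⟩ := hirr A hcomm
  refine ⟨c, hc, ?_⟩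
  have ht : Matrix.trace A = (Fintype.card R : F) * Matrix.trace M := by
    rw [hA, Matrix.trace_sum]
    have : ∀ ρ : R, Matrix.trace ((ρ.1 : Matrix ι ι F) * M * ((ρ.1⁻¹ : GL ι F) : Matrix ι ι F)) =
        Matrix.trace M := by
      intro ρ
      rw [Matrix.trace_mul_cycle, ← Units.val_mul, inv_mul_cancel, Units.val_one, Matrix.one_mul]
    simp only [this]
    rw [Finset.sum_const, Finset.card_univ, nsmul_eq_mul]
  rw [hc, Matrix.trace_smul, Matrix.trace_one, smul_eq_mul] at ht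
  rw [← ht]
  ring

/-- the centraliser of `x` in `R` as a subgroup of `R` -/
def CR (R : Subgroup (GL ι F)) (x : GL ι F) : Subgroup R := (centralizer {x}).subgroupOf R

theorem mem_CR_iff (R : Subgroup (GL ι F)) (x : GL ι F) (ρ : R) : ρ ∈ CR R x ↔ x * ρ.1 = ρ.1 * x := by
  unfold CR
  rw [Subgroup.mem_subgroupOf, mem_centralizer_iff]
  simp

theorem trace_formula (R : Subgroup (GL ι F)) [Finite R] (hX : XS R)
    (hirr : ∀ M : Matrix ι ι F, (∀ s ∈ Cfsg.Geo.matrixSet R, M * s = s * M) → ∃ c : F, M = c • (1 : Matrix ι ι F))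
    (h2 : (2 : F) ≠ 0) (hι : (Fintype.card ι : F) ≠ 0) (x : GL ι F) (hx : x ∈ normalizer (R : Set (GL ι F)))
    (hodd : ∀ ρ ∈ R, IsScal (x⁻¹ * ρ * x * ρ⁻¹) → x⁻¹ * ρ * x * ρ⁻¹ = 1) :
    (Nat.card R : F) * Matrix.trace (x : Matrix ι ι F) * Matrix.trace ((x⁻¹ : GL ι F) : Matrix ι ι F) =
      (Fintype.card ι : F) ^ 2 * (Nat.card (CR R x) : F) := by
  classical
  haveI : Fintype R := Fintype.ofFinite R
  obtain ⟨c, hc, hcc⟩ := avg_eq R hirr (x : Matrix ι ι F)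
  have hterm : ∀ ρ : R, Matrix.trace (((x⁻¹ : GL ι F) : Matrix ι ι F) *
      ((ρ.1 : Matrix ι ι F) * (x : Matrix ι ι F) * ((ρ.1⁻¹ : GL ι F) : Matrix ι ι F))) =
      if ρ ∈ CR R x then (Fintype.card ι : F) else 0 := by
    intro ρ
    have hκ : x⁻¹ * ρ.1 * x * ρ.1⁻¹ ∈ R :=
      mul_mem ((mem_normalizer_iff''.mp hx ρ.1).mp ρ.2) (inv_mem ρ.2)
    have hval : ((x⁻¹ : GL ι F) : Matrix ι ι F) *
        ((ρ.1 : Matrix ι ι F) * (x : Matrix ι ι F) * ((ρ.1⁻¹ : GL ι F) : Matrix ι ι F)) =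
        ((x⁻¹ * ρ.1 * x * ρ.1⁻¹ : GL ι F) : Matrix ι ι F) := by
      simp only [Units.val_mul, Matrix.mul_assoc]
    rw [hval]
    split_ifs with hρ
    · have h1 : x⁻¹ * ρ.1 * x * ρ.1⁻¹ = 1 := by
        rw [mem_CR_iff] at hρ
        rw [mul_assoc x⁻¹, ← hρ]
        group
      rw [h1, Units.val_one, Matrix.trace_one]
    · apply hX.trace_eq_zero h2 _ hκ
      intro hs
      apply hρ
      rw [mem_CR_iff]
      have h1 := hodd ρ.1 ρ.2 hs
      have : x * ρ.1 = x * (x⁻¹ * ρ.1 * x * ρ.1⁻¹) * ρ.1 := by rw [h1, mul_one]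
      rw [this]
      group
  have hsum : ∑ ρ : R, Matrix.trace (((x⁻¹ : GL ι F) : Matrix ι ι F) *
      ((ρ.1 : Matrix ι ι F) * (x : Matrix ι ι F) * ((ρ.1⁻¹ : GL ι F) : Matrix ι ι F))) =
      c * Matrix.trace ((x⁻¹ : GL ι F) : Matrix ι ι F) := by
    rw [← Matrix.trace_sum, ← Finset.mul_sum, hc, Matrix.mul_smul, Matrix.mul_one, Matrix.trace_smul,
      smul_eq_mul]
  simp only [hterm] at hsum
  rw [Finset.sum_ite, Finset.sum_const_zero, add_zero, Finset.sum_const, nsmul_eq_mul] at hsum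
  have hcard : ((Finset.univ.filter (fun ρ : R => ρ ∈ CR R x)).card : F) = (Nat.card (CR R x) : F) := by
    rw [Nat.card_eq_fintype_card, Fintype.card_subtype]
  rw [hcard] at hsum
  rw [Nat.card_eq_fintype_card]
  have : (Fintype.card ι : F) * ((Fintype.card R : F) * Matrix.trace (x : Matrix ι ι F) *
      Matrix.trace ((x⁻¹ : GL ι F) : Matrix ι ι F)) =
      (Fintype.card ι : F) * ((Fintype.card ι : F) ^ 2 * (Nat.card (CR R x) : F)) := by
    rw [← hcc]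
    linear_combination (Fintype.card ι : F) ^ 2 * hsum.symm
  exact mul_left_cancel₀ hι this

end Cfsg.Agent.Lib.Helper8.Ext
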