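import Mathlib
import Cfsg.Prelude.Def_GeometricClasses
import Cfsg.Agent.Lib.Helper8.Ext4

set_option autoImplicit false

/-! Elements of odd prime order normalising an extraspecial-type matrix group (helper8). -/

namespace Cfsg.Agent.Lib.Helper8.Ext

open scoped MatrixGroups Matrix
open Subgroup

variable {ι : Type} [Fintype ι] [DecidableEq ι] {F : Type*} [Field F]

theorem isScal_pow {u : GL ι F} (hu : IsScal u) (k : ℕ) : IsScal (u ^ k) := by
  induction k with
  | zero => rw [pow_zero]; exact isScal_one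
  | succ k ih => rw [pow_succ]; exact isScal_mul ih hu

theorem conj_pow_eq (x ρ κ : GL ι F) (hκ : ∀ v, κ * v = v * κ) (h : x⁻¹ * ρ * x = κ * ρ) (k : ℕ) :
    x⁻¹ ^ k * ρ * x ^ k = κ ^ k * ρ := by
  induction k with
  | zero => simp
  | succ k ih =>
    have hk : ∀ v, κ ^ k * v = v * κ ^ k := fun v => ((show Commute κ v from hκ v).pow_left k)
    calc x⁻¹ ^ (k + 1) * ρ * x ^ (k + 1) = x⁻¹ * (x⁻¹ ^ k * ρ * x ^ k) * x := by
          rw [pow_succ' x⁻¹, pow_succ x]
          group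
      _ = x⁻¹ * (κ ^ k * ρ) * x := by rw [ih]
      _ = κ ^ k * (x⁻¹ * ρ * x) := by
          rw [← mul_assoc x⁻¹, ← hk x⁻¹]
          group
      _ = κ ^ (k + 1) * ρ := by
          rw [h, pow_succ]
          group

theorem odd_exact (R : Subgroup (GL ι F)) (hX : XS R) (x : GL ι F)
    (hx : x ∈ normalizer (R : Set (GL ι F))) (r : ℕ) (hr : Odd r) (hxr : IsScal (x ^ r)) :
    ∀ ρ ∈ R, IsScal (x⁻¹ * ρ * x * ρ⁻¹) → x⁻¹ * ρ * x * ρ⁻¹ = 1 := by
  intro ρ hρ hs
  obtain ⟨κ, hκdef⟩ : ∃ κ, κ = x⁻¹ * ρ * x * ρ⁻¹ := ⟨_, rfl⟩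
  rw [← hκdef] at hs ⊢
  have hκR : κ ∈ R := by
    rw [hκdef]
    exact mul_mem ((mem_normalizer_iff''.mp hx ρ).mp hρ) (inv_mem hρ)
  have hκc : ∀ v, κ * v = v * κ := fun v => isScal_comm hs v
  have h1 : x⁻¹ * ρ * x = κ * ρ := by
    rw [hκdef]
    group
  have h2 := conj_pow_eq x ρ κ hκc h1 r
  have h3 : x⁻¹ ^ r * ρ * x ^ r = ρ := by
    rw [mul_assoc, ← isScal_comm hxr ρ, ← mul_assoc, inv_pow, inv_mul_cancel, one_mul]
  rw [h3] at h2
  have h4 : κ ^ r = 1 := by
    have : κ ^ r * ρ = 1 * ρ := by rw [one_mul]; exact h2.symm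
    exact mul_right_cancel this
  have h5 : κ ^ 4 = 1 := by
    have : κ ^ 4 = (κ * κ) * (κ * κ) := by
      rw [show (4 : ℕ) = 2 + 2 from rfl, pow_add, pow_two]
    rw [this]
    rcases hX.sq κ hκR with h | h
    · rw [h, one_mul]
    · rw [h, neg_mul_neg, one_mul]
  have h6 : orderOf κ ∣ Nat.gcd r 4 :=
    Nat.dvd_gcd (orderOf_dvd_of_pow_eq_one h4) (orderOf_dvd_of_pow_eq_one h5)
  have h7 : Nat.gcd r 4 = 1 := by
    have : Nat.Coprime r 2 := Nat.coprime_two_right.mpr hr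
    exact Nat.Coprime.pow_right 2 this
  rw [h7, Nat.dvd_one] at h6
  exact orderOf_eq_one_iff.mp h6

theorem card_modEq (R : Subgroup (GL ι F)) [Finite R] (x : GL ι F)
    (hx : x ∈ normalizer (R : Set (GL ι F))) (r : ℕ) [Fact r.Prime] (hxr : IsScal (x ^ r)) :
    Nat.card R ≡ Nat.card (CR R x) [MOD r] := by
  classical
  haveI : Fintype R := Fintype.ofFinite R
  let f : Function.End R := fun ρ => ⟨x⁻¹ * ρ.1 * x, (mem_normalizer_iff''.mp hx ρ.1).mp ρ.2⟩
  have hpow : ∀ k : ℕ, ∀ ρ : R, ((f ^ k) ρ).1 = x⁻¹ ^ k * ρ.1 * x ^ k := by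
    intro k
    induction k with
    | zero =>
      intro ρ
      rw [pow_zero, pow_zero, pow_zero, one_mul, mul_one]
      rfl
    | succ k ih =>
      intro ρ
      rw [pow_succ']
      change (f ((f ^ k) ρ)).1 = _
      change x⁻¹ * ((f ^ k) ρ).1 * x = _
      rw [ih ρ, pow_succ' x⁻¹, pow_succ x]
      group
  have hf : f ^ r ^ 1 = 1 := by
    rw [pow_one]
    funext ρ
    apply Subtype.ext
    rw [hpow r ρ]
    change _ = ρ.1
    rw [mul_assoc, ← isScal_comm hxr ρ.1, ← mul_assoc, inv_pow, inv_mul_cancel, one_mul]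
  have h1 := Equiv.Perm.card_fixedPoints_modEq hf
  rw [Nat.card_eq_fintype_card, Nat.card_eq_fintype_card]
  refine h1.trans ?_
  apply Nat.ModEq.of_dvd (dvd_refl r)
  have : Fintype.card (Function.fixedPoints f) = Fintype.card (CR R x) := by
    apply Fintype.card_congr
    apply Equiv.subtypeEquivRight
    intro ρ
    rw [Function.mem_fixedPoints, Function.IsFixedPt, mem_CR_iff]
    constructor
    · intro h
      have h2 := congrArg Subtype.val h
      change x⁻¹ * ρ.1 * x = ρ.1 at h2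
      calc x * ρ.1 = x * (x⁻¹ * ρ.1 * x) := by rw [h2]
        _ = ρ.1 * x := by group
    · intro h
      apply Subtype.ext
      change x⁻¹ * ρ.1 * x = ρ.1
      rw [mul_assoc, ← h]
      group
  rw [this]

end Cfsg.Agent.Lib.Helper8.Ext
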