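import Mathlib
import Cfsg.Prelude.Def_GeometricClasses
import Cfsg.Agent.Lib.Helper8.Ext5

set_option autoImplicit false

/-! Key counting/trace theorem (helper8). -/

namespace Cfsg.Agent.Lib.Helper8.Ext

open scoped MatrixGroups Matrix
open Subgroup

variable {ι : Type} [Fintype ι] [DecidableEq ι] {F : Type*} [Field F]

theorem ne_neg_self [Nonempty ι] (h2 : (2 : F) ≠ 0) (u : GL ι F) : u ≠ -u := by
  intro h
  have h1 : (u : Matrix ι ι F) = -(u : Matrix ι ι F) := by
    conv_lhs => rw [h]
    rw [Units.val_neg]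
  have h3 : (2 : F) • (u : Matrix ι ι F) = 0 := by
    rw [two_smul]
    nth_rewrite 1 [h1]
    exact neg_add_cancel _
  have h4 : (u : Matrix ι ι F) = 0 := by
    rcases smul_eq_zero.mp h3 with h | h
    · exact absurd h h2
    · exact h
  have h5 : (1 : Matrix ι ι F) = 0 := by
    rw [← Units.inv_mul u, h4, Matrix.mul_zero]
  obtain ⟨i⟩ := ‹Nonempty ι›
  have := congrFun (congrFun h5 i) i
  simp at this

theorem key (R : Subgroup (GL ι F)) [Finite R] (hX : XS R)
    (hirr : ∀ M : Matrix ι ι F, (∀ s ∈ Cfsg.Geo.matrixSet R, M * s = s * M) → ∃ c : F, M = c • (1 : Matrix ι ι F))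
    (h2 : (2 : F) ≠ 0) (hι : Fintype.card ι = 4) (z : ℕ) (hz24 : z = 2 ∨ z = 4)
    (hz : Nat.card (center R) = z) (hR : Nat.card R = 16 * z)
    (x : GL ι F) (hx : x ∈ normalizer (R : Set (GL ι F))) (r : ℕ) [hrp : Fact r.Prime] (hr : Odd r)
    (hxr : IsScal (x ^ r)) :
    ∃ m : ℕ, m ∣ 16 ∧ Nat.card (CR R x) = z * m ∧ r ∣ 16 - m ∧
      Matrix.trace (x : Matrix ι ι F) * Matrix.trace ((x⁻¹ : GL ι F) : Matrix ι ι F) = (m : F) := by
  have hz0 : 0 < z := by rcases hz24 with h | h <;> omega
  have hle : center R ≤ CR R x := by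
    intro g hg
    rw [mem_CR_iff]
    exact (isScal_comm (central_isScal R hirr g hg) x).symm
  have hd1 : z ∣ Nat.card (CR R x) := hz ▸ Subgroup.card_dvd_of_le hle
  have hd2 : Nat.card (CR R x) ∣ 16 * z := hR ▸ Subgroup.card_subgroup_dvd_card _
  obtain ⟨m, hm⟩ := hd1
  have hm16 : m ∣ 16 := by
    rw [hm, mul_comm 16 z] at hd2
    exact Nat.dvd_of_mul_dvd_mul_left hz0 hd2
  have hmle : m ≤ 16 := Nat.le_of_dvd (by norm_num) hm16
  have hmod := card_modEq R x hx r hxr
  rw [hR, hm] at hmod
  have hdvd : r ∣ 16 * z - z * m := (Nat.modEq_iff_dvd' (by nlinarith)).mp hmod.symm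
  have hdvd2 : r ∣ z * (16 - m) := by
    have : 16 * z - z * m = z * (16 - m) := by
      rw [Nat.mul_sub, mul_comm 16 z]
    rw [← this]
    exact hdvd
  have hcop : Nat.Coprime r z := by
    have h2r : Nat.Coprime r 2 := Nat.coprime_two_right.mpr hr
    rcases hz24 with h | h
    · rw [h]; exact h2r
    · rw [h]; exact Nat.Coprime.pow_right 2 h2r
  have hrm : r ∣ 16 - m := hcop.dvd_of_dvd_mul_left hdvd2
  refine ⟨m, hm16, hm, hrm, ?_⟩
  have hι' : (Fintype.card ι : F) ≠ 0 := by
    rw [hι]
    have : (4 : F) = 2 * 2 := by norm_num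
    push_cast
    rw [this]
    exact mul_ne_zero h2 h2
  have htf := trace_formula R hX hirr h2 hι' x hx (odd_exact R hX x hx r hr hxr)
  rw [hR, hm, hι] at htf
  have hzF : (z : F) ≠ 0 := by
    rcases hz24 with h | h
    · rw [h]; exact_mod_cast h2
    · rw [h]
      have : ((4 : ℕ) : F) = 2 * 2 := by norm_num
      rw [this]
      exact mul_ne_zero h2 h2
  have h16 : ((16 : ℕ) : F) ≠ 0 := by
    have : ((16 : ℕ) : F) = 2 * 2 * (2 * 2) := by norm_num
    rw [this]
    exact mul_ne_zero (mul_ne_zero h2 h2) (mul_ne_zero h2 h2)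
  simp only [Nat.cast_mul, Nat.cast_ofNat] at htf h16
  have h3 : (16 * (z : F)) * (Matrix.trace (x : Matrix ι ι F) *
      Matrix.trace ((x⁻¹ : GL ι F) : Matrix ι ι F)) = (16 * (z : F)) * (m : F) := by
    linear_combination htf
  exact mul_left_cancel₀ (mul_ne_zero h16 hzF) h3


theorem card_CR_eq (H : Subgroup (GL ι F)) (x : GL ι F) :
    Nat.card (CR H x) = Nat.card (H ⊓ centralizer {x} : Subgroup (GL ι F)) := by
  unfold CR
  rw [← Subgroup.inf_subgroupOf_left (centralizer {x}) H]
  exact Nat.card_congr (Subgroup.subgroupOfEquivOfLe inf_le_left).toEquiv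

set_option maxHeartbeats 1000000 in
theorem scal_of_prime_ge_seven [Nonempty ι] (R : Subgroup (GL ι F)) [Finite R] (hX : XS R)
    (hirr : ∀ M : Matrix ι ι F, (∀ s ∈ Cfsg.Geo.matrixSet R, M * s = s * M) → ∃ c : F, M = c • (1 : Matrix ι ι F))
    (h2 : (2 : F) ≠ 0) (hι : Fintype.card ι = 4) (z : ℕ) (hz24 : z = 2 ∨ z = 4)
    (hz : Nat.card (center R) = z) (hR : Nat.card R = 16 * z)
    (x : GL ι F) (hx : x ∈ normalizer (R : Set (GL ι F))) (r : ℕ) [hrp : Fact r.Prime] (hr7 : 7 ≤ r)
    (hxr : IsScal (x ^ r)) : IsScal x := by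
  have hr : Odd r := hrp.out.odd_of_ne_two (by omega)
  obtain ⟨m, hm16, hcard, hrm, -⟩ := key R hX hirr h2 hι z hz24 hz hR x hx r hr hxr
  have hmle : m ≤ 16 := Nat.le_of_dvd (by norm_num) hm16
  have hcases : m = 16 ∨ (r = 7 ∧ m = 2) := by
    have hp := hrp.out
    have hle : r ≤ 16 ∨ m = 16 := by
      by_cases h : m = 16
      · right; exact h
      · left
        have h0 : 0 < 16 - m := by omega
        exact (Nat.le_of_dvd h0 hrm).trans (by omega)
    rcases hle with hle | h
    · have hr' : r = 7 ∨ r = 11 ∨ r = 13 := by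
        interval_cases r <;> first | omega | (exfalso; norm_num at hp)
      have hm' : m = 1 ∨ m = 2 ∨ m = 4 ∨ m = 8 ∨ m = 16 := by
        interval_cases m <;> first | omega | (exfalso; norm_num at hm16)
      rcases hr' with rfl | rfl | rfl <;> rcases hm' with rfl | rfl | rfl | rfl | rfl <;>
        first | (left; rfl) | (right; exact ⟨rfl, rfl⟩) | (exfalso; norm_num at hrm)
    · left; exact h
  rcases hcases with h16 | ⟨h7, hm2⟩
  · -- x centralises R
    have htop : CR R x = ⊤ := by
      apply (Subgroup.card_eq_iff_eq_top _).mp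
      rw [hcard, hR, h16, mul_comm]
    apply isScal_of_comm_all R hirr
    intro ρ hρ
    have : (⟨ρ, hρ⟩ : R) ∈ CR R x := htop ▸ Subgroup.mem_top _
    exact (mem_CR_iff R x _).mp this
  · exfalso
    have hz0 : 0 < z := by rcases hz24 with h | h <;> omega
    -- a noncentral element of C
    obtain ⟨c, hcC, hcZ⟩ : ∃ c : R, c ∈ CR R x ∧ c ∉ center R := by
      by_contra hno
      push Not at hno
      have hle : CR R x ≤ center R := hno
      have := Subgroup.card_le_of_le hle
      rw [hcard, hz, hm2] at this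
      omega
    have hns : ¬ IsScal c.1 := fun h => hcZ (isScal_central R c h)
    have hxc : x * c.1 = c.1 * x := (mem_CR_iff R x c).mp hcC
    obtain ⟨σ, hσ, hanti⟩ := hX.anti c.1 c.2 hns
    obtain ⟨E, hE⟩ : ∃ E : Subgroup (GL ι F), E = R ⊓ centralizer {c.1} := ⟨_, rfl⟩
    have hER : E ≤ R := hE ▸ inf_le_left
    have hmemE : ∀ g, g ∈ E ↔ g ∈ R ∧ c.1 * g = g * c.1 := by
      intro g
      rw [hE, Subgroup.mem_inf, mem_centralizer_iff]
      simp
    haveI : Finite E := Finite.of_injective (Subgroup.inclusion hER)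
      (Subgroup.inclusion_injective hER)
    have hidx : (E.subgroupOf R).index = 2 := by
      rw [Subgroup.index_eq_two_iff]
      refine ⟨⟨σ, hσ⟩, fun b => ?_⟩
      simp only [Subgroup.mem_subgroupOf, Subgroup.coe_mul, hmemE]
      rcases hX.comm b.1 b.2 c.1 c.2 with hbc | hbc
      · right
        refine ⟨⟨b.2, hbc.symm⟩, ?_⟩
        rintro ⟨-, h⟩
        have : c.1 * (b.1 * σ) = -(b.1 * σ * c.1) := by
          calc c.1 * (b.1 * σ) = (c.1 * b.1) * σ := by group
            _ = (b.1 * c.1) * σ := by rw [hbc]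
            _ = b.1 * (c.1 * σ) := by group
            _ = b.1 * (-(σ * c.1)) := by rw [hanti]
            _ = -(b.1 * σ * c.1) := by rw [mul_neg, mul_assoc]
        rw [this] at h
        exact ne_neg_self h2 _ h.symm
      · left
        refine ⟨⟨mul_mem b.2 hσ, ?_⟩, ?_⟩
        · calc c.1 * (b.1 * σ) = (c.1 * b.1) * σ := by group
            _ = (-(-(c.1 * b.1))) * σ := by rw [neg_neg]
            _ = (-(b.1 * c.1)) * σ := by rw [hbc]
            _ = -(b.1 * (c.1 * σ)) := by rw [neg_mul, mul_assoc]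
            _ = -(b.1 * (-(σ * c.1))) := by rw [hanti]
            _ = b.1 * σ * c.1 := by rw [mul_neg, neg_neg, mul_assoc]
        · rintro ⟨-, h⟩
          have : b.1 * c.1 = -(b.1 * c.1) := by
            conv_lhs => rw [hbc]
            rw [h]
          exact ne_neg_self h2 _ this
    have hcardE : Nat.card E = 8 * z := by
      have h1 := Subgroup.card_mul_index (E.subgroupOf R)
      rw [hidx, Nat.card_congr (Subgroup.subgroupOfEquivOfLe hER).toEquiv, hR] at h1
      omega
    have hxE : x ∈ normalizer (E : Set (GL ι F)) := by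
      apply Subgroup.mem_normalizer_fintype
      intro n hn
      rw [SetLike.mem_coe, hmemE] at hn ⊢
      refine ⟨(mem_normalizer_iff.mp hx n).mp hn.1, ?_⟩
      calc c.1 * (x * n * x⁻¹) = (c.1 * x) * n * x⁻¹ := by group
        _ = (x * c.1) * n * x⁻¹ := by rw [hxc]
        _ = x * (c.1 * n) * x⁻¹ := by group
        _ = x * (n * c.1) * x⁻¹ := by rw [hn.2]
        _ = x * n * (c.1 * x⁻¹) := by group
        _ = x * n * (x⁻¹ * c.1) := by
            have : c.1 * x⁻¹ = x⁻¹ * c.1 := by
              calc c.1 * x⁻¹ = x⁻¹ * (x * c.1) * x⁻¹ := by group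
                _ = x⁻¹ * (c.1 * x) * x⁻¹ := by rw [hxc]
                _ = x⁻¹ * c.1 := by group
            rw [this]
        _ = x * n * x⁻¹ * c.1 := by group
    have hmodE := card_modEq E x hxE r hxr
    rw [hcardE, card_CR_eq E x, h7] at hmodE
    -- the three subgroups
    obtain ⟨A, hA⟩ : ∃ A : Subgroup (GL ι F), A = E ⊓ centralizer {x} := ⟨_, rfl⟩
    rw [← hA] at hmodE
    have hAle : A ≤ R ⊓ centralizer {x} := by
      rw [hA]
      exact inf_le_inf_right _ hER
    have hcardC : Nat.card (R ⊓ centralizer {x} : Subgroup (GL ι F)) = 2 * z := by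
      rw [← card_CR_eq R x, hcard, hm2, mul_comm]
    have hZle : (center R).map R.subtype ≤ A := by
      rintro _ ⟨g, hg, rfl⟩
      have hsc := central_isScal R hirr g hg
      rw [hA, Subgroup.mem_inf, hmemE, mem_centralizer_iff]
      refine ⟨⟨g.2, (isScal_comm hsc c.1).symm⟩, ?_⟩
      rintro y rfl
      exact (isScal_comm hsc y).symm
    have hcardZ : Nat.card ((center R).map R.subtype) = z := by
      rw [Subgroup.card_map_of_injective (Subgroup.subtype_injective R), hz]
    have hcA : c.1 ∈ A := by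
      rw [hA, Subgroup.mem_inf, hmemE, mem_centralizer_iff]
      refine ⟨⟨c.2, rfl⟩, ?_⟩
      rintro y rfl
      exact hxc
    have hcnZ : c.1 ∉ (center R).map R.subtype := by
      rintro ⟨g, hg, hgc⟩
      apply hcZ
      have : g = c := Subtype.ext hgc
      rw [← this]
      exact hg
    haveI : Finite A := Finite.of_injective (Subgroup.inclusion (hAle.trans inf_le_left))
      (Subgroup.inclusion_injective (hAle.trans inf_le_left))
    have hd1 : z ∣ Nat.card A := hcardZ ▸ Subgroup.card_dvd_of_le hZle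
    have hd2 : Nat.card A ∣ 2 * z := hcardC ▸ Subgroup.card_dvd_of_le hAle
    have hne : Nat.card A ≠ z := by
      intro h
      have : (center R).map R.subtype = A :=
        Subgroup.eq_of_le_of_card_ge hZle (by rw [hcardZ, h])
      exact hcnZ (this ▸ hcA)
    obtain ⟨k, hk⟩ := hd1
    have hk2 : k ∣ 2 := by
      rw [hk, mul_comm 2 z] at hd2
      exact Nat.dvd_of_mul_dvd_mul_left hz0 hd2
    have hkle : k ≤ 2 := Nat.le_of_dvd (by norm_num) hk2
    have hk' : k = 2 := by
      interval_cases k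
      · omega
      · exfalso; apply hne; rw [hk, mul_one]
      · rfl
    rw [hk, hk'] at hmodE
    have := (Nat.modEq_iff_dvd' (by omega)).mp hmodE.symm
    rcases hz24 with h | h <;> rw [h] at this <;> omega

end Cfsg.Agent.Lib.Helper8.Ext
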