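import Mathlib
import Cfsg.Prelude.Def_GeometricClasses
import Cfsg.Agent.Lib.Helper8.Ext6

set_option autoImplicit false

/-! transvections do not normalise an `XS` group -/

namespace Cfsg.Agent.Lib.Helper8.Ext

open scoped MatrixGroups Matrix
open Subgroup

variable {ι : Type} [Fintype ι] [DecidableEq ι] {F : Type*} [Field F]

/-- pure algebra: for `κ = (1 - N)(1 + N')` with `N² = N'² = 0`, `N N' N = s N`. -/
theorem alg_identity (N N' : Matrix ι ι F) (s : F) (hN : N * N = 0) (hN' : N' * N' = 0)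
    (hs : N * N' * N = s • N) :
    N * (((1 - N) * (1 + N')) * ((1 - N) * (1 + N'))) * N = (2 * s - s ^ 2) • N := by
  have h1 : N * ((1 - N) * (1 + N')) = N + N * N' := by
    have : N * ((1 - N) * (1 + N')) = N + N * N' - (N * N) - (N * N) * N' := by noncomm_ring
    rw [this, hN]; simp
  have h2 : ((1 - N) * (1 + N')) * N = N + N' * N - s • N := by
    have : ((1 - N) * (1 + N')) * N = N + N' * N - (N * N) - (N * N' * N) := by noncomm_ring
    rw [this, hN, hs]; simp
  have h3 : N * (((1 - N) * (1 + N')) * ((1 - N) * (1 + N'))) * N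
      = (N * ((1 - N) * (1 + N'))) * (((1 - N) * (1 + N')) * N) := by
    simp only [mul_assoc]
  rw [h3, h1, h2]
  have h4 : (N + N * N') * (N + N' * N - s • N)
      = N * N + N * N' * N - s • (N * N) + N * N' * N + N * (N' * N') * N - s • (N * N' * N) := by
    simp only [mul_add, add_mul, mul_sub, mul_smul_comm, mul_assoc]
    module
  rw [h4, hN, hN', hs]
  simp only [smul_zero, mul_zero, zero_mul, add_zero, sub_zero, zero_add, smul_smul]
  module

theorem not_transv' [Nonempty ι] (R : Subgroup (GL ι F)) (hX : XS R)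
    (h2 : (2 : F) ≠ 0) (p : ℕ) (hp0 : (p : F) = 0) (hpodd : Odd p)
    (x : GL ι F) (hx : x ∈ normalizer (R : Set (GL ι F)))
    (N : Matrix ι ι F) (hNN : N * N = 0) (htr : Matrix.trace N = 0)
    (hrank : ∀ B : Matrix ι ι F, N * B * N = Matrix.trace (N * B) • N)
    (hι : ((Fintype.card ι : ℕ) : F) = 4)
    (hxm : (x : Matrix ι ι F) = 1 + N) : ∀ ρ ∈ R, x * ρ = ρ * x := by
  have hpow : ∀ k : ℕ, (1 + N) ^ k = 1 + (k : F) • N := by
    intro k
    induction k with
    | zero => simp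
    | succ k ih =>
      rw [pow_succ, ih]
      simp only [add_mul, mul_add, one_mul, mul_one, smul_mul_assoc, hNN, smul_zero, add_zero,
        Nat.cast_succ, add_smul, one_smul]
      abel
  have hxp : IsScal (x ^ p) := by
    refine ⟨1, ?_⟩
    rw [Units.val_pow_eq_pow_val, hxm, hpow, hp0]
    simp
  have hodd := odd_exact R hX x hx p hpodd hxp
  have hinv : ((x⁻¹ : GL ι F) : Matrix ι ι F) = 1 - N := by
    rw [Matrix.coe_units_inv]
    apply Matrix.inv_eq_right_inv
    rw [hxm]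
    have : (1 + N) * (1 - N) = 1 - N * N := by noncomm_ring
    rw [this, hNN, sub_zero]
  intro ρ hρ
  by_contra hne
  obtain ⟨κ, hκdef⟩ : ∃ κ, κ = x⁻¹ * ρ * x * ρ⁻¹ := ⟨_, rfl⟩
  have hκR : κ ∈ R := by
    rw [hκdef]
    exact mul_mem ((mem_normalizer_iff''.mp hx ρ).mp hρ) (inv_mem hρ)
  have hκ1 : κ ≠ 1 := by
    intro h
    apply hne
    rw [hκdef] at h
    calc x * ρ = x * ((x⁻¹ * ρ * x * ρ⁻¹) * ρ * x⁻¹) * x := by rw [h]; group
      _ = ρ * x := by group
  have hκns : ¬ IsScal κ := by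
    intro hs
    apply hκ1
    rw [hκdef] at hs ⊢
    exact hodd ρ hρ hs
  have htrκ := hX.trace_eq_zero h2 κ hκR hκns
  obtain ⟨N', hN'def⟩ : ∃ N' : Matrix ι ι F,
      N' = (ρ : Matrix ι ι F) * N * ((ρ⁻¹ : GL ι F) : Matrix ι ι F) := ⟨_, rfl⟩
  have hρρ : ((ρ⁻¹ : GL ι F) : Matrix ι ι F) * (ρ : Matrix ι ι F) = 1 := by
    rw [← Units.val_mul, inv_mul_cancel, Units.val_one]
  have hρρ' : (ρ : Matrix ι ι F) * ((ρ⁻¹ : GL ι F) : Matrix ι ι F) = 1 := by
    rw [← Units.val_mul, mul_inv_cancel, Units.val_one]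
  have hN'N' : N' * N' = 0 := by
    rw [hN'def]
    calc (ρ : Matrix ι ι F) * N * ((ρ⁻¹ : GL ι F) : Matrix ι ι F) *
          ((ρ : Matrix ι ι F) * N * ((ρ⁻¹ : GL ι F) : Matrix ι ι F))
        = (ρ : Matrix ι ι F) * N * (((ρ⁻¹ : GL ι F) : Matrix ι ι F) * (ρ : Matrix ι ι F)) * N *
          ((ρ⁻¹ : GL ι F) : Matrix ι ι F) := by simp only [mul_assoc]
      _ = 0 := by rw [hρρ, mul_one, mul_assoc (ρ : Matrix ι ι F), hNN]; simp
  have hκm : (κ : Matrix ι ι F) = (1 - N) * (1 + N') := by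
    rw [hκdef, Units.val_mul, Units.val_mul, Units.val_mul, hinv, hxm, hN'def]
    calc (1 - N) * (ρ : Matrix ι ι F) * (1 + N) * ((ρ⁻¹ : GL ι F) : Matrix ι ι F)
        = (1 - N) * ((ρ : Matrix ι ι F) * ((ρ⁻¹ : GL ι F) : Matrix ι ι F) +
          (ρ : Matrix ι ι F) * N * ((ρ⁻¹ : GL ι F) : Matrix ι ι F)) := by
          simp only [mul_add, add_mul, mul_one, mul_assoc]
      _ = _ := by rw [hρρ']
  obtain ⟨s, hsdef⟩ : ∃ s : F, s = Matrix.trace (N * N') := ⟨_, rfl⟩
  have hs : N * N' * N = s • N := by rw [hsdef]; exact hrank N'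
  have htrN' : Matrix.trace N' = 0 := by
    rw [hN'def, Matrix.trace_units_conj, htr]
  have hs4 : s = 4 := by
    have : Matrix.trace (κ : Matrix ι ι F) = (Fintype.card ι : F) - s := by
      rw [hκm]
      have : (1 - N) * (1 + N') = 1 - N + N' - N * N' := by noncomm_ring
      rw [this, Matrix.trace_sub, Matrix.trace_add, Matrix.trace_sub, Matrix.trace_one, htr, htrN',
        ← hsdef]
      ring
    rw [htrκ, hι] at this
    linear_combination this
  have hid := alg_identity N N' s hNN hN'N' hs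
  rw [← hκm] at hid
  have hκκ : (κ : Matrix ι ι F) * (κ : Matrix ι ι F) = 1 ∨
      (κ : Matrix ι ι F) * (κ : Matrix ι ι F) = -1 := by
    rcases hX.sq κ hκR with h | h
    · left; rw [← Units.val_mul, h, Units.val_one]
    · right; rw [← Units.val_mul, h]; simp
  have hzero : (2 * s - s ^ 2) • N = 0 := by
    rw [← hid]
    rcases hκκ with h | h
    · rw [h, mul_one, hNN]
    · rw [h, mul_neg, mul_one, neg_mul, hNN, neg_zero]
  have hN0 : N = 0 := by
    rw [hs4] at hzero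
    have h8 : (2 * (4 : F) - 4 ^ 2) ≠ 0 := by
      have : (2 * (4 : F) - 4 ^ 2) = -(2 * 2 * 2) := by ring
      rw [this]
      exact neg_ne_zero.mpr (mul_ne_zero (mul_ne_zero h2 h2) h2)
    exact (smul_eq_zero.mp hzero).resolve_left h8
  apply hne
  have hx1 : x = 1 := by
    apply Units.ext
    rw [hxm, hN0, add_zero, Units.val_one]
  rw [hx1, one_mul, mul_one]

/-- the rank one case -/
theorem not_transv [Nonempty ι] (R : Subgroup (GL ι F)) (hX : XS R)
    (h2 : (2 : F) ≠ 0) (p : ℕ) (hp0 : (p : F) = 0) (hpodd : Odd p)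
    (x : GL ι F) (hx : x ∈ normalizer (R : Set (GL ι F)))
    (v φ : ι → F) (hvφ : φ ⬝ᵥ v = 0)
    (hι : ((Fintype.card ι : ℕ) : F) = 4)
    (hxm : (x : Matrix ι ι F) = 1 + Matrix.vecMulVec v φ) : ∀ ρ ∈ R, x * ρ = ρ * x := by
  apply not_transv' R hX h2 p hp0 hpodd x hx (Matrix.vecMulVec v φ) _ _ _ hι hxm
  · rw [Matrix.vecMulVec_mul_vecMulVec, hvφ, zero_smul]
    ext i j
    simp [Matrix.vecMulVec_apply]
  · rw [Matrix.trace_vecMulVec, dotProduct_comm, hvφ]
  · intro B
    rw [Matrix.vecMulVec_mul, Matrix.vecMulVec_mul_vecMulVec, Matrix.trace_vecMulVec]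
    ext i j
    simp only [Matrix.vecMulVec_apply, Matrix.smul_apply, Pi.smul_apply, smul_eq_mul]
    rw [dotProduct_comm]
    ring

end Cfsg.Agent.Lib.Helper8.Ext
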