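import Mathlib
import Cfsg.Prelude.Def_GeometricClasses
import Cfsg.Agent.Lib.Helper8.Ext7

set_option autoImplicit false

/-! sign calculus and the elementary abelian subgroup of order 8 -/

namespace Cfsg.Agent.Lib.Helper8.Ext

open scoped MatrixGroups Matrix
open Subgroup

theorem sq_cm' {G : Type*} [Group G] {a b : G} (h : a * b = b * a) :
    (a * b) * (a * b) = (a * a) * (b * b) := by
  calc (a * b) * (a * b) = a * ((b * a) * b) := by simp only [mul_assoc]
    _ = a * ((a * b) * b) := by rw [h]
    _ = (a * a) * (b * b) := by simp only [mul_assoc]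

section signcalc
variable {G : Type*} [Group G] [HasDistribNeg G]

/-- anticommuting -/
def AC (a b : G) : Prop := a * b = -(b * a)

theorem AC.symm {a b : G} (h : AC a b) : AC b a := by
  unfold AC at *
  rw [h, neg_neg]

theorem cm_mul {a b c : G} (h1 : a * c = c * a) (h2 : b * c = c * b) : (a * b) * c = c * (a * b) := by
  rw [mul_assoc, h2, ← mul_assoc, h1, mul_assoc]

theorem ac_mul_cm {a b c : G} (h1 : AC a c) (h2 : b * c = c * b) : AC (a * b) c := by
  unfold AC at *
  rw [mul_assoc, h2, ← mul_assoc, h1, neg_mul, mul_assoc]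

theorem cm_mul_ac {a b c : G} (h1 : a * c = c * a) (h2 : AC b c) : AC (a * b) c := by
  unfold AC at *
  rw [mul_assoc, h2, mul_neg, ← mul_assoc, h1, mul_assoc]

theorem ac_mul_ac {a b c : G} (h1 : AC a c) (h2 : AC b c) : (a * b) * c = c * (a * b) := by
  unfold AC at *
  rw [mul_assoc, h2, mul_neg, ← mul_assoc, h1, neg_mul, neg_neg, mul_assoc]

theorem cm_mul' {a b c : G} (h1 : c * a = a * c) (h2 : c * b = b * c) : c * (a * b) = (a * b) * c :=
  (cm_mul h1.symm h2.symm).symm

theorem ac_mul_cm' {a b c : G} (h1 : AC c a) (h2 : c * b = b * c) : AC c (a * b) :=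
  (ac_mul_cm h1.symm h2.symm).symm

theorem cm_mul_ac' {a b c : G} (h1 : c * a = a * c) (h2 : AC c b) : AC c (a * b) :=
  (cm_mul_ac h1.symm h2.symm).symm

theorem ac_mul_ac' {a b c : G} (h1 : AC c a) (h2 : AC c b) : c * (a * b) = (a * b) * c :=
  (ac_mul_ac h1.symm h2.symm).symm

theorem sq_cm {a b : G} (h : a * b = b * a) : (a * b) * (a * b) = (a * a) * (b * b) := by
  calc (a * b) * (a * b) = a * ((b * a) * b) := by simp only [mul_assoc]
    _ = a * ((a * b) * b) := by rw [h]
    _ = (a * a) * (b * b) := by simp only [mul_assoc]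

theorem sq_ac {a b : G} (h : AC a b) : (a * b) * (a * b) = -((a * a) * (b * b)) := by
  have h' : b * a = -(a * b) := h.symm
  calc (a * b) * (a * b) = a * ((b * a) * b) := by simp only [mul_assoc]
    _ = a * ((-(a * b)) * b) := by rw [h']
    _ = -((a * a) * (b * b)) := by simp only [neg_mul, mul_neg, mul_assoc]

theorem ac_neg_left {a b : G} (h : AC a b) : AC (-a) b := by
  unfold AC at *
  rw [neg_mul, h, mul_neg]

theorem ac_neg_right {a b : G} (h : AC a b) : AC a (-b) := by
  unfold AC at *
  rw [mul_neg, h, neg_mul]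

theorem ac_self_mul {a b : G} (h : AC a b) : AC a (a * b) := cm_mul_ac' rfl h

theorem ac_mul_self {a b : G} (h : AC a b) : AC b (a * b) := ac_mul_cm' h.symm rfl

theorem inv_of_sq_one {q : G} (h : q * q = 1) : q⁻¹ = q := inv_eq_of_mul_eq_one_left h

theorem inv_of_sq_neg_one {q : G} (h : q * q = -1) : q⁻¹ = -q := by
  apply inv_eq_of_mul_eq_one_left
  rw [neg_mul, h, neg_neg]

end signcalc

variable {ι : Type} [Fintype ι] [DecidableEq ι] {F : Type*} [Field F]

theorem not_ac_cm [Nonempty ι] (h2 : (2 : F) ≠ 0) {a b : GL ι F} (h1 : AC a b) (h3 : a * b = b * a) :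
    False := by
  unfold AC at h1
  rw [← h3] at h1
  exact ne_neg_self h2 _ h1

theorem not_isScal_of_ac [Nonempty ι] (h2 : (2 : F) ≠ 0) {a b : GL ι F} (h1 : AC a b) : ¬ IsScal a :=
  fun hs => not_ac_cm h2 h1 (isScal_comm hs b)

theorem isScal_neg {u : GL ι F} (hu : IsScal u) : IsScal (-u) := by
  obtain ⟨c, hc⟩ := hu
  exact ⟨-c, by rw [Units.val_neg, hc, neg_smul]⟩

theorem isScal_neg_iff {u : GL ι F} : IsScal (-u) ↔ IsScal u :=
  ⟨fun h => by simpa using isScal_neg h, isScal_neg⟩

theorem exists_notMem_of_card_lt {G : Type*} [Group G] [DecidableEq G] (R : Subgroup G) [Finite R]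
    (S : Finset G) (h : S.card < Nat.card R) : ∃ g ∈ R, g ∉ S := by
  by_contra hno
  push Not at hno
  have hsub : (R : Set G) ⊆ (S : Set G) := fun g hg => hno g hg
  have h1 : Nat.card R = Set.ncard (R : Set G) := (Nat.card_coe_set_eq _)
  have h2 := Set.ncard_le_ncard hsub (Finset.finite_toSet S)
  rw [Set.ncard_coe_finset] at h2
  omega

/-- commuting nonscalar involutions with nonscalar product give an elementary abelian subgroup of
order at least `8`. -/
theorem e8 [Nonempty ι] (R : Subgroup (GL ι F)) [Finite R] (h2 : (2 : F) ≠ 0)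
    (hcard : Nat.card R = 32) (hneg : (-1 : GL ι F) ∈ R)
    (a b : GL ι F) (ha : a ∈ R) (hb : b ∈ R) (haa : a * a = 1) (hbb : b * b = 1)
    (hab : a * b = b * a) (hsa : ¬ IsScal a) (hsb : ¬ IsScal b) (hsab : ¬ IsScal (a * b)) :
    ∃ A : Subgroup R, IsMulCommutative A ∧ (∀ x ∈ A, x * x = 1) ∧ 8 ≤ Nat.card A := by
  classical
  obtain ⟨n, hn⟩ : ∃ n : R, n = ⟨-1, hneg⟩ := ⟨_, rfl⟩
  obtain ⟨a', ha'⟩ : ∃ a' : R, a' = ⟨a, ha⟩ := ⟨_, rfl⟩
  obtain ⟨b', hb'⟩ : ∃ b' : R, b' = ⟨b, hb⟩ := ⟨_, rfl⟩
  have hnc : ∀ g : R, n * g = g * n := by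
    intro g
    apply Subtype.ext
    rw [hn]
    show (-1 : GL ι F) * g.1 = g.1 * (-1)
    rw [neg_one_mul, mul_neg_one]
  have hnn : n * n = 1 := by
    apply Subtype.ext
    rw [hn]
    show (-1 : GL ι F) * (-1) = 1
    simp
  have ha'a' : a' * a' = 1 := by
    apply Subtype.ext; rw [ha']; exact haa
  have hb'b' : b' * b' = 1 := by
    apply Subtype.ext; rw [hb']; exact hbb
  have ha'b' : a' * b' = b' * a' := by
    apply Subtype.ext; rw [ha', hb']; exact hab
  obtain ⟨S, hS⟩ : ∃ S : Set R, S = {n, a', b'} := ⟨_, rfl⟩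
  have hcomm : ∀ x ∈ S, ∀ y ∈ S, x * y = y * x := by
    intro x hx y hy
    rw [hS] at hx hy
    simp only [Set.mem_insert_iff, Set.mem_singleton_iff] at hx hy
    rcases hx with rfl | rfl | rfl
    · exact hnc y
    · rcases hy with rfl | rfl | rfl
      · exact (hnc _).symm
      · rfl
      · exact ha'b'
    · rcases hy with rfl | rfl | rfl
      · exact (hnc _).symm
      · exact ha'b'.symm
      · rfl
  have hAc : IsMulCommutative (closure S) := Subgroup.isMulCommutative_closure hcomm
  refine ⟨closure S, hAc, ?_, ?_⟩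
  · intro x hx
    induction hx using Subgroup.closure_induction with
    | mem x hx =>
      rw [hS] at hx
      simp only [Set.mem_insert_iff, Set.mem_singleton_iff] at hx
      rcases hx with rfl | rfl | rfl
      · exact hnn
      · exact ha'a'
      · exact hb'b'
    | one => simp
    | mul x y hx hy ihx ihy =>
      have hc : x * y = y * x := by
        have := hAc.is_comm.comm (⟨x, hx⟩ : closure S) ⟨y, hy⟩
        exact congrArg Subtype.val this
      rw [sq_cm' hc, ihx, ihy, one_mul]
    | inv x hx ih =>
      have : x⁻¹ = x := inv_eq_of_mul_eq_one_left ih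
      rw [this, ih]
  · -- cardinality
    have hdvd : Nat.card (closure S) ∣ 32 := hcard ▸ Subgroup.card_subgroup_dvd_card (closure S)
    obtain ⟨k, hk5, hk⟩ := (Nat.dvd_prime_pow Nat.prime_two (m := 5)).mp (by simpa using hdvd)
    have hmemS : ∀ x ∈ S, x ∈ closure S := fun x hx => Subgroup.subset_closure hx
    have hnA : n ∈ closure S := hmemS n (by rw [hS]; simp)
    have haA : a' ∈ closure S := hmemS a' (by rw [hS]; simp)
    have hbA : b' ∈ closure S := hmemS b' (by rw [hS]; simp)
    -- distinctness
    have d1 : (1 : R) ≠ n := by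
      intro h
      have := congrArg Subtype.val h
      rw [hn] at this
      exact ne_neg_self h2 (1 : GL ι F) this
    have d2 : a' ≠ 1 := by
      intro h; apply hsa
      have := congrArg Subtype.val h
      rw [ha'] at this
      show IsScal a
      rw [show a = 1 from this]; exact isScal_one
    have d3 : a' ≠ n := by
      intro h; apply hsa
      have := congrArg Subtype.val h
      rw [ha', hn] at this
      rw [show a = -1 from this]; exact isScal_neg_one
    have d4 : b' ≠ 1 := by
      intro h; apply hsb
      have := congrArg Subtype.val h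
      rw [hb'] at this
      rw [show b = 1 from this]; exact isScal_one
    have d5 : b' ≠ n := by
      intro h; apply hsb
      have := congrArg Subtype.val h
      rw [hb', hn] at this
      rw [show b = -1 from this]; exact isScal_neg_one
    have d6 : b' ≠ a' := by
      intro h; apply hsab
      have := congrArg Subtype.val h
      rw [hb', ha'] at this
      rw [show b = a from this, haa]; exact isScal_one
    have d7 : a' * b' ≠ 1 := by
      intro h; apply hsab
      have := congrArg Subtype.val h
      rw [ha', hb'] at this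
      rw [show a * b = 1 from this]; exact isScal_one
    have d8 : a' * b' ≠ n := by
      intro h; apply hsab
      have := congrArg Subtype.val h
      rw [ha', hb', hn] at this
      rw [show a * b = -1 from this]; exact isScal_neg_one
    have d9 : a' * b' ≠ a' := by
      intro h; apply d4
      exact mul_left_cancel (h.trans (mul_one a').symm)
    have d10 : a' * b' ≠ b' := by
      intro h; apply d2
      exact mul_right_cancel (h.trans (one_mul b').symm)
    obtain ⟨T, hT⟩ : ∃ T : Finset R, T = {a' * b', b', a', n, 1} := ⟨_, rfl⟩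
    have hTcard : T.card = 5 := by
      rw [hT, Finset.card_insert_of_notMem, Finset.card_insert_of_notMem,
        Finset.card_insert_of_notMem, Finset.card_insert_of_notMem, Finset.card_singleton]
      · simp [d1.symm]
      · simp [d2, d3]
      · simp [d4, d5, d6]
      · simp [d7, d8, d9, d10]
    have hTsub : (T : Set R) ⊆ (closure S : Set R) := by
      intro x hx
      rw [hT] at hx
      simp only [Finset.coe_insert, Finset.coe_singleton, Set.mem_insert_iff,
        Set.mem_singleton_iff] at hx
      rcases hx with rfl | rfl | rfl | rfl | rfl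
      · exact mul_mem haA hbA
      · exact hbA
      · exact haA
      · exact hnA
      · exact one_mem _
    have h5 : 5 ≤ Nat.card (closure S) := by
      have h1 := Set.ncard_le_ncard hTsub (Set.toFinite _)
      rw [Set.ncard_coe_finset, hTcard] at h1
      have h3 : Nat.card (closure S) = Set.ncard ((closure S : Subgroup R) : Set R) :=
        (Nat.card_coe_set_eq _)
      omega
    rw [hk] at h5 ⊢
    interval_cases k <;> omega

end Cfsg.Agent.Lib.Helper8.Ext
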