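import Mathlib
import Cfsg.Prelude.Def_GeometricClasses
import Cfsg.Agent.Lib.Helper8.Ext8

set_option autoImplicit false

/-! Clifford generators of an extraspecial group of minus type, order `32` -/

namespace Cfsg.Agent.Lib.Helper8.Ext

open scoped MatrixGroups Matrix
open Subgroup

variable {ι : Type} [Fintype ι] [DecidableEq ι] {F : Type*} [Field F]

/-- five pairwise anticommuting involutions -/
structure Cliff (R : Subgroup (GL ι F)) (t0 t1 t2 t3 t4 : GL ι F) : Prop where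
  m0 : t0 ∈ R
  m1 : t1 ∈ R
  m2 : t2 ∈ R
  m3 : t3 ∈ R
  m4 : t4 ∈ R
  s0 : t0 * t0 = 1
  s1 : t1 * t1 = 1
  s2 : t2 * t2 = 1
  s3 : t3 * t3 = 1
  s4 : t4 * t4 = 1
  a01 : AC t0 t1
  a02 : AC t0 t2
  a03 : AC t0 t3
  a04 : AC t0 t4
  a12 : AC t1 t2
  a13 : AC t1 t3
  a14 : AC t1 t4
  a23 : AC t2 t3
  a24 : AC t2 t4
  a34 : AC t3 t4

theorem cliff_of_DQ (R : Subgroup (GL ι F)) (e f a b : GL ι F)
    (he : e ∈ R) (hf : f ∈ R) (ha : a ∈ R) (hb : b ∈ R)
    (hee : e * e = 1) (hff : f * f = 1) (hef : AC e f)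
    (haa : a * a = -1) (hbb : b * b = -1) (hab : AC a b)
    (hea : e * a = a * e) (heb : e * b = b * e) (hfa : f * a = a * f) (hfb : f * b = b * f) :
    Cliff R e f ((e * f) * a) ((e * f) * b) ((e * f) * (a * b)) := by
  obtain ⟨w, hw⟩ : ∃ w, w = e * f := ⟨_, rfl⟩
  rw [← hw]
  have hwR : w ∈ R := hw ▸ mul_mem he hf
  have hww : w * w = -1 := by rw [hw, sq_ac hef, hee, hff, one_mul]
  have hwa : w * a = a * w := by rw [hw]; exact cm_mul hea hfa
  have hwb : w * b = b * w := by rw [hw]; exact cm_mul heb hfb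
  have hwab : w * (a * b) = (a * b) * w := cm_mul' hwa hwb
  have habab : (a * b) * (a * b) = -1 := by rw [sq_ac hab, haa, hbb]; simp
  have hew : AC e w := by rw [hw]; exact ac_self_mul hef
  have hfw : AC f w := by rw [hw]; exact ac_mul_self hef
  have heab : e * (a * b) = (a * b) * e := cm_mul' hea heb
  have hfab : f * (a * b) = (a * b) * f := cm_mul' hfa hfb
  refine ⟨he, hf, mul_mem hwR ha, mul_mem hwR hb, mul_mem hwR (mul_mem ha hb), hee, hff, ?_, ?_, ?_,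
    hef, ?_, ?_, ?_, ?_, ?_, ?_, ?_, ?_, ?_⟩
  · rw [sq_cm hwa, hww, haa]; simp
  · rw [sq_cm hwb, hww, hbb]; simp
  · rw [sq_cm hwab, hww, habab]; simp
  · exact ac_mul_cm' hew hea
  · exact ac_mul_cm' hew heb
  · exact ac_mul_cm' hew heab
  · exact ac_mul_cm' hfw hfa
  · exact ac_mul_cm' hfw hfb
  · exact ac_mul_cm' hfw hfab
  · exact cm_mul_ac (cm_mul' rfl hwb) (cm_mul_ac' hwa.symm hab)
  · exact cm_mul_ac (cm_mul' rfl hwab) (cm_mul_ac' hwa.symm (ac_self_mul hab))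
  · exact cm_mul_ac (cm_mul' rfl hwab) (cm_mul_ac' hwb.symm (ac_mul_self hab))

theorem normal_form (R : Subgroup (GL ι F)) (hX : XS R) (a b : GL ι F) (ha : a ∈ R) (hb : b ∈ R)
    (hab : AC a b) :
    (a * a = -1 ∧ b * b = -1) ∨ ∃ e f, e ∈ R ∧ f ∈ R ∧ e * e = 1 ∧ f * f = 1 ∧ AC e f ∧
      ∀ c, a * c = c * a → b * c = c * b → (e * c = c * e ∧ f * c = c * f) := by
  rcases hX.sq a ha with haa | haa <;> rcases hX.sq b hb with hbb | hbb
  · right
    exact ⟨a, b, ha, hb, haa, hbb, hab, fun c h1 h2 => ⟨h1, h2⟩⟩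
  · right
    refine ⟨a, a * b, ha, mul_mem ha hb, haa, ?_, ac_self_mul hab, fun c h1 h2 => ⟨h1, cm_mul h1 h2⟩⟩
    rw [sq_ac hab, haa, hbb]; simp
  · right
    refine ⟨b, a * b, hb, mul_mem ha hb, hbb, ?_, ac_mul_self hab, fun c h1 h2 => ⟨h2, cm_mul h1 h2⟩⟩
    rw [sq_ac hab, haa, hbb]; simp
  · left
    exact ⟨haa, hbb⟩

theorem adjust (R : Subgroup (GL ι F)) (hX : XS R) (r1 r2 : GL ι F) (h1 : r1 ∈ R) (h2 : r2 ∈ R)
    (h12 : AC r1 r2) (g : GL ι F) (hg : g ∈ R) :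
    ∃ q, (q = 1 ∨ q = r1 ∨ q = r2 ∨ q = r1 * r2) ∧ (g * q) * r1 = r1 * (g * q) ∧
      (g * q) * r2 = r2 * (g * q) := by
  rcases hX.comm g hg r1 h1 with c1 | c1 <;> rcases hX.comm g hg r2 h2 with c2 | c2
  · exact ⟨1, Or.inl rfl, by rw [mul_one]; exact c1, by rw [mul_one]; exact c2⟩
  · exact ⟨r1, Or.inr (Or.inl rfl), cm_mul c1 rfl, ac_mul_ac c2 h12⟩
  · exact ⟨r2, Or.inr (Or.inr (Or.inl rfl)), ac_mul_ac c1 h12.symm, cm_mul c2 rfl⟩
  · exact ⟨r1 * r2, Or.inr (Or.inr (Or.inr rfl)), ac_mul_ac c1 (cm_mul_ac rfl h12.symm),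
      ac_mul_ac c2 (ac_mul_cm h12 rfl)⟩

theorem inv_pm (R : Subgroup (GL ι F)) (hX : XS R) (q : GL ι F) (hq : q ∈ R) :
    q⁻¹ = q ∨ q⁻¹ = -q := by
  rcases hX.sq q hq with h | h
  · left; exact inv_of_sq_one h
  · right; exact inv_of_sq_neg_one h

section main
variable [Nonempty ι] (R : Subgroup (GL ι F)) [Finite R] (h2 : (2 : F) ≠ 0) (hX : XS R)
  (hcard : Nat.card R = 32) (hZ : ∀ ρ ∈ R, IsScal ρ → ρ = 1 ∨ ρ = -1)
  (hm : ∀ A : Subgroup R, IsMulCommutative A → (∀ x ∈ A, x * x = 1) → Nat.card A < 8)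

include h2 hX hcard hZ hm

/-- commuting nonscalar involutions of a minus type group are equal up to sign -/
theorem inv_comm (a b : GL ι F) (ha : a ∈ R) (hb : b ∈ R) (haa : a * a = 1) (hbb : b * b = 1)
    (hab : a * b = b * a) (hsa : ¬ IsScal a) (hsb : ¬ IsScal b) : a = b ∨ a = -b := by
  by_contra hno
  push Not at hno
  have hsab : ¬ IsScal (a * b) := by
    intro hs
    rcases hZ (a * b) (mul_mem ha hb) hs with h | h
    · apply hno.1
      rw [eq_inv_of_mul_eq_one_left h, inv_of_sq_one hbb]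
    · apply hno.2
      have : (-a) * b = 1 := by rw [neg_mul, h, neg_neg]
      have h3 := eq_inv_of_mul_eq_one_left this
      rw [inv_of_sq_one hbb] at h3
      rw [← h3, neg_neg]
  obtain ⟨A, hA1, hA2, hA3⟩ := e8 R h2 hcard hX.negOne a b ha hb haa hbb hab hsa hsb hsab
  have := hm A hA1 hA2
  omega

theorem exists_third (r1 r2 : GL ι F) (h1 : r1 ∈ R) (hr2 : r2 ∈ R) (h12 : AC r1 r2) :
    ∃ r3 ∈ R, ¬ IsScal r3 ∧ r3 * r1 = r1 * r3 ∧ r3 * r2 = r2 * r3 := by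
  classical
  obtain ⟨g, hg, hgS⟩ := exists_notMem_of_card_lt R
    ([1, -1, r1, -r1, r2, -r2, r1 * r2, -(r1 * r2)] : List (GL ι F)).toFinset
    (lt_of_le_of_lt (List.toFinset_card_le _) (by rw [hcard]; simp))
  obtain ⟨q, hq, hq1, hq2⟩ := adjust R hX r1 r2 h1 hr2 h12 g hg
  have hqR : q ∈ R := by
    rcases hq with rfl | rfl | rfl | rfl
    · exact one_mem _
    · exact h1
    · exact hr2
    · exact mul_mem h1 hr2
  refine ⟨g * q, mul_mem hg hqR, ?_, hq1, hq2⟩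
  intro hs
  apply hgS
  have hgq : g = q ∨ g = -q := by
    rcases hZ (g * q) (mul_mem hg hqR) hs with h | h
    · have h3 := eq_inv_of_mul_eq_one_left h
      rcases inv_pm R hX q hqR with h4 | h4
      · left; rw [h3, h4]
      · right; rw [h3, h4]
    · have : (-g) * q = 1 := by rw [neg_mul, h, neg_neg]
      have h3 := eq_inv_of_mul_eq_one_left this
      rcases inv_pm R hX q hqR with h4 | h4
      · right; rw [← neg_neg g, h3, h4]
      · left; rw [← neg_neg g, h3, h4, neg_neg]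
  rcases hq with rfl | rfl | rfl | rfl <;> rcases hgq with rfl | rfl <;> simp

theorem exists_cliff : ∃ t0 t1 t2 t3 t4 : GL ι F, Cliff R t0 t1 t2 t3 t4 := by
  classical
  -- a nonscalar element
  obtain ⟨r1, hr1, hr1S⟩ := exists_notMem_of_card_lt R
    ([1, -1] : List (GL ι F)).toFinset
    (lt_of_le_of_lt (List.toFinset_card_le _) (by rw [hcard]; simp))
  have hr1ns : ¬ IsScal r1 := by
    intro hs
    apply hr1S
    rcases hZ r1 hr1 hs with rfl | rfl <;> simp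
  obtain ⟨r2, hr2, h12'⟩ := hX.anti r1 hr1 hr1ns
  have h12 : AC r1 r2 := h12'
  obtain ⟨r3, hr3, hr3ns, h31, h32⟩ := exists_third R h2 hX hcard hZ hm r1 r2 hr1 hr2 h12
  obtain ⟨σ, hσ, h3σ'⟩ := hX.anti r3 hr3 hr3ns
  have h3σ : AC r3 σ := h3σ'
  obtain ⟨q, hq, hq1, hq2⟩ := adjust R hX r1 r2 hr1 hr2 h12 σ hσ
  have hqR : q ∈ R := by
    rcases hq with rfl | rfl | rfl | rfl
    · exact one_mem _
    · exact hr1
    · exact hr2
    · exact mul_mem hr1 hr2
  have h3q : r3 * q = q * r3 := by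
    rcases hq with rfl | rfl | rfl | rfl
    · simp
    · exact h31
    · exact h32
    · exact cm_mul' h31 h32
  obtain ⟨r4, hr4def⟩ : ∃ r4, r4 = σ * q := ⟨_, rfl⟩
  have hr4 : r4 ∈ R := hr4def ▸ mul_mem hσ hqR
  have h34 : AC r3 r4 := by rw [hr4def]; exact ac_mul_cm' h3σ h3q
  have h41 : r4 * r1 = r1 * r4 := by rw [hr4def]; exact hq1
  have h42 : r4 * r2 = r2 * r4 := by rw [hr4def]; exact hq2
  -- normal forms
  rcases normal_form R hX r1 r2 hr1 hr2 h12 with ⟨h11, h22⟩ | ⟨e, f, he, hf, hee, hff, hef, htr⟩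
  · rcases normal_form R hX r3 r4 hr3 hr4 h34 with ⟨h33, h44⟩ | ⟨e', f', he', hf', hee', hff', hef', htr'⟩
    · -- (Q,Q)
      exfalso
      have hu : (r1 * r3) * (r1 * r3) = 1 := by rw [sq_cm h31.symm, h11, h33]; simp
      have hv : (r2 * r4) * (r2 * r4) = 1 := by rw [sq_cm h42.symm, h22, h44]; simp
      have hub : AC (r1 * r3) r2 := ac_mul_cm h12 h32
      have hub' : AC (r1 * r3) r4 := cm_mul_ac h41.symm h34
      have huv : (r1 * r3) * (r2 * r4) = (r2 * r4) * (r1 * r3) := ac_mul_ac' hub hub'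
      have hva : AC (r2 * r4) r1 := ac_mul_cm h12.symm h41
      have hvb : (r2 * r4) * r2 = r2 * (r2 * r4) := cm_mul rfl h42
      rcases inv_comm R h2 hX hcard hZ hm (r1 * r3) (r2 * r4) (mul_mem hr1 hr3) (mul_mem hr2 hr4)
        hu hv huv (not_isScal_of_ac h2 hub) (not_isScal_of_ac h2 hva) with h | h
      · rw [h] at hub
        exact not_ac_cm h2 hub hvb
      · rw [h] at hub
        have := ac_neg_left hub
        rw [neg_neg] at this
        exact not_ac_cm h2 this hvb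
    · -- (Q,D)
      obtain ⟨hc1, hc2⟩ := htr' r1 h31 h41
      obtain ⟨hc3, hc4⟩ := htr' r2 h32 h42
      exact ⟨_, _, _, _, _, cliff_of_DQ R e' f' r1 r2 he' hf' hr1 hr2 hee' hff' hef' h11 h22 h12
        hc1 hc3 hc2 hc4⟩
  · obtain ⟨hc1, hc2⟩ := htr r3 h31.symm h32.symm
    obtain ⟨hc3, hc4⟩ := htr r4 h41.symm h42.symm
    rcases normal_form R hX r3 r4 hr3 hr4 h34 with ⟨h33, h44⟩ | ⟨e', f', he', hf', hee', hff', hef', htr'⟩
    · -- (D,Q)
      exact ⟨_, _, _, _, _, cliff_of_DQ R e f r3 r4 he hf hr3 hr4 hee hff hef h33 h44 h34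
        hc1 hc3 hc2 hc4⟩
    · -- (D,D)
      exfalso
      obtain ⟨hd1, hd2⟩ := htr' e hc1.symm hc3.symm
      obtain ⟨hd3, hd4⟩ := htr' f hc2.symm hc4.symm
      rcases inv_comm R h2 hX hcard hZ hm e e' he he' hee hee' hd1.symm
        (not_isScal_of_ac h2 hef) (not_isScal_of_ac h2 hef') with h | h
      · rw [h] at hef
        exact not_ac_cm h2 hef hd3
      · rw [h] at hef
        have := ac_neg_left hef
        rw [neg_neg] at this
        exact not_ac_cm h2 this hd3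

end main

end Cfsg.Agent.Lib.Helper8.Ext
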