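import Mathlib
import Cfsg.Prelude.Def_GeometricClasses
import Cfsg.Agent.Lib.Helper8.Ext9

set_option autoImplicit false

/-! the elements `1 + τ` and an element of order `5` in the normaliser -/

namespace Cfsg.Agent.Lib.Helper8.Ext

open scoped MatrixGroups Matrix
open Subgroup

section cj
variable {G : Type*} [Group G]

/-- `g a g⁻¹ = b` -/
def Cj (g a b : G) : Prop := g * a = b * g

theorem Cj.mul {g h a b c : G} (h1 : Cj g a b) (h2 : Cj h b c) : Cj (h * g) a c := by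
  unfold Cj at *
  rw [mul_assoc, h1, ← mul_assoc, h2, mul_assoc]

theorem Cj.inv {g a b : G} (h1 : Cj g a b) : Cj g⁻¹ b a := by
  unfold Cj at *
  calc g⁻¹ * b = g⁻¹ * (b * g) * g⁻¹ := by group
    _ = g⁻¹ * (g * a) * g⁻¹ := by rw [h1]
    _ = a * g⁻¹ := by group

theorem Cj.one (a : G) : Cj 1 a a := by
  unfold Cj; rw [one_mul, mul_one]

theorem Cj.eq_of_one {a b : G} (h : Cj 1 a b) : a = b := by
  unfold Cj at h; rwa [one_mul, mul_one] at h

theorem Cj.neg [HasDistribNeg G] {g a b : G} (h1 : Cj g a b) : Cj g (-a) (-b) := by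
  unfold Cj at *
  rw [mul_neg, h1, neg_mul]

theorem Cj.neg' [HasDistribNeg G] {g a b : G} (h1 : Cj g (-a) b) : Cj g a (-b) := by
  have := h1.neg
  rwa [neg_neg] at this

theorem Cj.neg'' [HasDistribNeg G] {g a b : G} (h1 : Cj g a (-b)) : Cj g (-a) b := by
  have := h1.neg
  rwa [neg_neg] at this

/-- a `5`-cycle under conjugation forces `5 ∣ n` when `y ^ n = 1` -/
theorem five_dvd (y s0 s1 s2 s3 s4 : G) (h0 : Cj y s0 s1) (h1 : Cj y s1 s2) (h2 : Cj y s2 s3)
    (h3 : Cj y s3 s4) (h4 : Cj y s4 s0) (d1 : s0 ≠ s1) (d2 : s0 ≠ s2) (d3 : s0 ≠ s3) (d4 : s0 ≠ s4)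
    (n : ℕ) (hn : y ^ n = 1) : 5 ∣ n := by
  obtain ⟨sel, hsel⟩ : ∃ sel : ℕ → G, sel = fun j => if j = 0 then s0 else if j = 1 then s1 else
    if j = 2 then s2 else if j = 3 then s3 else s4 := ⟨_, rfl⟩
  have hstep : ∀ j, j < 5 → Cj y (sel j) (sel ((j + 1) % 5)) := by
    intro j hj
    rw [hsel]
    interval_cases j <;> simp <;> assumption
  have hall : ∀ k : ℕ, Cj (y ^ k) s0 (sel (k % 5)) := by
    intro k
    induction k with
    | zero =>
      rw [pow_zero, hsel]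
      simp
      exact Cj.one s0
    | succ k ih =>
      rw [pow_succ']
      have h5 : (k + 1) % 5 = ((k % 5) + 1) % 5 := by omega
      rw [h5]
      exact ih.mul (hstep (k % 5) (Nat.mod_lt _ (by norm_num)))
  have := hall n
  rw [hn] at this
  have heq := this.eq_of_one
  have hlt : n % 5 < 5 := Nat.mod_lt _ (by norm_num)
  rw [hsel] at heq
  have h0' : n % 5 = 0 := by
    interval_cases h : n % 5
    · rfl
    · exact absurd (by simpa using heq) d1
    · exact absurd (by simpa using heq) d2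
    · exact absurd (by simpa using heq) d3
    · exact absurd (by simpa using heq) d4
  exact Nat.dvd_of_mod_eq_zero h0'

/-- an element of order five from an element whose order is a multiple of five -/
theorem exists_order_five (y : G) (hy : IsOfFinOrder y) (h5 : ∀ n : ℕ, y ^ n = 1 → 5 ∣ n) :
    ∃ k : ℕ, (y ^ k) ^ 5 = 1 ∧ y ^ k ≠ 1 := by
  have hpos : 0 < orderOf y := hy.orderOf_pos
  obtain ⟨k, hk⟩ := h5 (orderOf y) (pow_orderOf_eq_one y)
  refine ⟨k, ?_, ?_⟩
  · rw [← pow_mul, mul_comm, ← hk, pow_orderOf_eq_one]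
  · intro h
    have := orderOf_dvd_of_pow_eq_one h
    have := Nat.le_of_dvd (by omega) this
    omega

end cj

variable {ι : Type} [Fintype ι] [DecidableEq ι] {F : Type*} [Field F]

theorem XS.neg_mem {R : Subgroup (GL ι F)} (hX : XS R) {ρ : GL ι F} (h : ρ ∈ R) : -ρ ∈ R := by
  have : -ρ = (-1) * ρ := by rw [neg_one_mul]
  rw [this]
  exact mul_mem hX.negOne h

/-- the unit `1 + τ` for `τ² = -1` -/
noncomputable def UU (h2 : (2 : F) ≠ 0) (τ : GL ι F) (hτ : τ * τ = -1) : GL ι F where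
  val := 1 + (τ : Matrix ι ι F)
  inv := (2 : F)⁻¹ • (1 - (τ : Matrix ι ι F))
  val_inv := by
    have h : (τ : Matrix ι ι F) * (τ : Matrix ι ι F) = -1 := by
      rw [← Units.val_mul, hτ]; simp
    rw [Matrix.mul_smul]
    have : (1 + (τ : Matrix ι ι F)) * (1 - (τ : Matrix ι ι F)) = (2 : F) • (1 : Matrix ι ι F) := by
      have h3 : (1 + (τ : Matrix ι ι F)) * (1 - (τ : Matrix ι ι F))
          = 1 - (τ : Matrix ι ι F) * (τ : Matrix ι ι F) := by noncomm_ring
      rw [h3, h, sub_neg_eq_add, two_smul]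
    rw [this, smul_smul, inv_mul_cancel₀ h2, one_smul]
  inv_val := by
    have h : (τ : Matrix ι ι F) * (τ : Matrix ι ι F) = -1 := by
      rw [← Units.val_mul, hτ]; simp
    rw [Matrix.smul_mul]
    have : (1 - (τ : Matrix ι ι F)) * (1 + (τ : Matrix ι ι F)) = (2 : F) • (1 : Matrix ι ι F) := by
      have h3 : (1 - (τ : Matrix ι ι F)) * (1 + (τ : Matrix ι ι F))
          = 1 - (τ : Matrix ι ι F) * (τ : Matrix ι ι F) := by noncomm_ring
      rw [h3, h, sub_neg_eq_add, two_smul]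
    rw [this, smul_smul, inv_mul_cancel₀ h2, one_smul]

theorem UU_val (h2 : (2 : F) ≠ 0) (τ : GL ι F) (hτ : τ * τ = -1) :
    ((UU h2 τ hτ : GL ι F) : Matrix ι ι F) = 1 + (τ : Matrix ι ι F) := rfl

theorem UU_cm (h2 : (2 : F) ≠ 0) (τ : GL ι F) (hτ : τ * τ = -1) (ρ : GL ι F)
    (h : ρ * τ = τ * ρ) : Cj (UU h2 τ hτ) ρ ρ := by
  unfold Cj
  apply Units.ext
  rw [Units.val_mul, Units.val_mul, UU_val]
  have h' : (ρ : Matrix ι ι F) * (τ : Matrix ι ι F) = (τ : Matrix ι ι F) * (ρ : Matrix ι ι F) := by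
    rw [← Units.val_mul, h, Units.val_mul]
  rw [add_mul, mul_add, one_mul, mul_one, h']

theorem UU_ac (h2 : (2 : F) ≠ 0) (τ : GL ι F) (hτ : τ * τ = -1) (ρ : GL ι F)
    (h : AC ρ τ) : Cj (UU h2 τ hτ) ρ (-(ρ * τ)) := by
  unfold Cj
  apply Units.ext
  rw [Units.val_mul, Units.val_mul, UU_val, Units.val_neg, Units.val_mul]
  have h' : (ρ : Matrix ι ι F) * (τ : Matrix ι ι F) = -((τ : Matrix ι ι F) * (ρ : Matrix ι ι F)) := by
    rw [← Units.val_mul, h, Units.val_neg, Units.val_mul]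
  have hτ' : (τ : Matrix ι ι F) * (τ : Matrix ι ι F) = -1 := by
    rw [← Units.val_mul, hτ]; simp
  rw [add_mul, mul_add, one_mul, mul_one, neg_mul, mul_assoc, hτ', mul_neg, mul_one, neg_neg,
    h', neg_neg]
  abel

theorem UU_mem_normalizer (h2 : (2 : F) ≠ 0) (R : Subgroup (GL ι F)) [Finite R] (hX : XS R)
    (τ : GL ι F) (hτR : τ ∈ R) (hτ : τ * τ = -1) :
    UU h2 τ hτ ∈ normalizer (R : Set (GL ι F)) := by
  apply Subgroup.mem_normalizer_fintype
  intro ρ hρ
  rw [SetLike.mem_coe] at hρ ⊢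
  rcases hX.comm ρ hρ τ hτR with h | h
  · have := UU_cm h2 τ hτ ρ h
    unfold Cj at this
    rw [this, mul_inv_cancel_right]
    exact hρ
  · have := UU_ac h2 τ hτ ρ h
    unfold Cj at this
    rw [this, mul_inv_cancel_right]
    exact hX.neg_mem (mul_mem hρ hτR)

end Cfsg.Agent.Lib.Helper8.Ext
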