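import Mathlib
import Cfsg.Prelude.Def_GeometricClasses
import Cfsg.Agent.Lib.Helper8.Ext10

set_option autoImplicit false

/-! the element of order `5` built from Clifford generators -/

namespace Cfsg.Agent.Lib.Helper8.Ext

open scoped MatrixGroups Matrix
open Subgroup

variable {ι : Type} [Fintype ι] [DecidableEq ι] {F : Type*} [Field F]

theorem sq_of_ac_inv {a b : GL ι F} (hab : AC a b) (haa : a * a = 1) (hbb : b * b = 1) :
    (a * b) * (a * b) = -1 := by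
  rw [sq_ac hab, haa, hbb, one_mul]

theorem ne_of_ac [Nonempty ι] (h2 : (2 : F) ≠ 0) {a b : GL ι F} (hab : AC a b) : a ≠ b ∧ a ≠ -b := by
  constructor
  · rintro rfl
    exact not_ac_cm h2 hab rfl
  · rintro rfl
    have := ac_neg_left hab
    rw [neg_neg] at this
    exact not_ac_cm h2 this rfl

theorem UU_conj (h2 : (2 : F) ≠ 0) (a b : GL ι F) (haa : a * a = 1) (hbb : b * b = 1) (hab : AC a b) :
    Cj (UU h2 (a * b) (sq_of_ac_inv hab haa hbb)) a (-b) ∧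
    Cj (UU h2 (a * b) (sq_of_ac_inv hab haa hbb)) b a ∧
    ∀ c, AC c a → AC c b → Cj (UU h2 (a * b) (sq_of_ac_inv hab haa hbb)) c c := by
  refine ⟨?_, ?_, ?_⟩
  · have := UU_ac h2 (a * b) (sq_of_ac_inv hab haa hbb) a (ac_self_mul hab)
    rwa [← mul_assoc, haa, one_mul] at this
  · have := UU_ac h2 (a * b) (sq_of_ac_inv hab haa hbb) b (ac_mul_self hab)
    have h3 : b * (a * b) = -a := by
      have : b * a = -(a * b) := hab.symm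
      rw [← mul_assoc, this, neg_mul, mul_assoc, hbb, mul_one]
    rwa [h3, neg_neg] at this
  · intro c h1 h3
    exact UU_cm h2 (a * b) _ c (ac_mul_ac' h1 h3)

section five
variable [Nonempty ι] (R : Subgroup (GL ι F)) [Finite R] (h2 : (2 : F) ≠ 0) (hX : XS R)
  (t0 t1 t2 t3 t4 : GL ι F) (hC : Cliff R t0 t1 t2 t3 t4)

/-- the product `U₀₁ U₁₂⁻¹ U₂₃ U₃₄⁻¹` -/
noncomputable def yel (h2 : (2 : F) ≠ 0) {R : Subgroup (GL ι F)} {t0 t1 t2 t3 t4 : GL ι F}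
    (hC : Cliff R t0 t1 t2 t3 t4) : GL ι F :=
  UU h2 (t0 * t1) (sq_of_ac_inv hC.a01 hC.s0 hC.s1) *
  ((UU h2 (t1 * t2) (sq_of_ac_inv hC.a12 hC.s1 hC.s2))⁻¹ *
  (UU h2 (t2 * t3) (sq_of_ac_inv hC.a23 hC.s2 hC.s3) *
  (UU h2 (t3 * t4) (sq_of_ac_inv hC.a34 hC.s3 hC.s4))⁻¹))

include hX in
theorem yel_mem_normalizer : yel h2 hC ∈ normalizer (R : Set (GL ι F)) := by
  unfold yel
  exact mul_mem (UU_mem_normalizer h2 R hX _ (mul_mem hC.m0 hC.m1) _)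
    (mul_mem (inv_mem (UU_mem_normalizer h2 R hX _ (mul_mem hC.m1 hC.m2) _))
    (mul_mem (UU_mem_normalizer h2 R hX _ (mul_mem hC.m2 hC.m3) _)
    (inv_mem (UU_mem_normalizer h2 R hX _ (mul_mem hC.m3 hC.m4) _))))

theorem yel_five (n : ℕ) (hn : (yel h2 hC) ^ n = 1) : 5 ∣ n := by
  obtain ⟨a0, a1, a2⟩ := UU_conj h2 t0 t1 hC.s0 hC.s1 hC.a01
  obtain ⟨b0, b1, b2⟩ := UU_conj h2 t1 t2 hC.s1 hC.s2 hC.a12
  obtain ⟨c0, c1, c2⟩ := UU_conj h2 t2 t3 hC.s2 hC.s3 hC.a23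
  obtain ⟨d0, d1, d2⟩ := UU_conj h2 t3 t4 hC.s3 hC.s4 hC.a34
  -- fixed points
  have a_2 := a2 t2 hC.a02.symm hC.a12.symm
  have a_3 := a2 t3 hC.a03.symm hC.a13.symm
  have a_4 := a2 t4 hC.a04.symm hC.a14.symm
  have b_0 := b2 t0 hC.a01 hC.a02
  have b_3 := b2 t3 hC.a13.symm hC.a23.symm
  have b_4 := b2 t4 hC.a14.symm hC.a24.symm
  have c_0 := c2 t0 hC.a02 hC.a03
  have c_1 := c2 t1 hC.a12 hC.a13
  have c_4 := c2 t4 hC.a24.symm hC.a34.symm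
  have d_0 := d2 t0 hC.a03 hC.a04
  have d_1 := d2 t1 hC.a13 hC.a14
  have d_2 := d2 t2 hC.a23 hC.a24
  -- inverses
  have bi1 : Cj _ t1 t2 := b1.inv
  have bi2 : Cj _ t2 (-t1) := (b0.inv).neg'
  have di3 : Cj _ t3 t4 := d1.inv
  have di4 : Cj _ t4 (-t3) := (d0.inv).neg'
  have e0 : Cj (yel h2 hC) t0 (-t1) := ((d_0.inv.mul c_0).mul b_0.inv).mul a0
  have e1 : Cj (yel h2 hC) (-t1) (-t2) := (((d_1.inv.mul c_1).mul bi1).mul a_2).neg
  have e2 : Cj (yel h2 hC) (-t2) t3 := (((d_2.inv.mul c0).mul b_3.inv.neg).mul a_3.neg).neg''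
  have e3 : Cj (yel h2 hC) t3 t4 := ((di3.mul c_4).mul b_4.inv).mul a_4
  have e4 : Cj (yel h2 hC) t4 t0 := ((di4.mul c1.neg).mul bi2.neg'').mul a1
  refine five_dvd (yel h2 hC) t0 (-t1) (-t2) t3 t4 e0 e1 e2 e3 e4 ?_ ?_ ?_ ?_ n hn
  · exact (ne_of_ac h2 hC.a01).2
  · exact (ne_of_ac h2 hC.a02).2
  · exact (ne_of_ac h2 hC.a03).1
  · exact (ne_of_ac h2 hC.a04).1

end five

end Cfsg.Agent.Lib.Helper8.Ext
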