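import Mathlib
import Cfsg.Prelude.Def_GeometricClasses
import Cfsg.Agent.Lib.Helper8.Ext11

set_option autoImplicit false

/-! structure of `4 ∘ 2^{1+4}` (centre of order four): quaternion pairs and Clifford generators -/

namespace Cfsg.Agent.Lib.Helper8.Ext

open scoped MatrixGroups Matrix
open Subgroup

variable {ι : Type} [Fintype ι] [DecidableEq ι] {F : Type*} [Field F]

/-- two commuting quaternion pairs and a central element of order four -/
structure QQ (R : Subgroup (GL ι F)) (ζ a b a' b' : GL ι F) : Prop where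
  mζ : ζ ∈ R
  ma : a ∈ R
  mb : b ∈ R
  ma' : a' ∈ R
  mb' : b' ∈ R
  sζ : IsScal ζ
  ζζ : ζ * ζ = -1
  aa : a * a = -1
  bb : b * b = -1
  aa' : a' * a' = -1
  bb' : b' * b' = -1
  ab : AC a b
  ab' : AC a' b'
  c1 : a' * a = a * a'
  c2 : a' * b = b * a'
  c3 : b' * a = a * b'
  c4 : b' * b = b * b'

section main4
variable [Nonempty ι] (R : Subgroup (GL ι F)) [Finite R] (h2 : (2 : F) ≠ 0) (hX : XS R)
  (hcard : Nat.card R = 64) (hz : Nat.card (center R) = 4)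
  (hirr : ∀ M : Matrix ι ι F, (∀ s ∈ Cfsg.Geo.matrixSet R, M * s = s * M) →
    ∃ c : F, M = c • (1 : Matrix ι ι F))

include h2 hX hz hirr in
theorem exists_zeta : ∃ ζ ∈ R, IsScal ζ ∧ ζ * ζ = -1 := by
  classical
  obtain ⟨n, hn⟩ : ∃ n : R, n = ⟨-1, hX.negOne⟩ := ⟨_, rfl⟩
  obtain ⟨c, hcZ, hcS⟩ := exists_notMem_of_card_lt (center R) ([1, n] : List R).toFinset
    (lt_of_le_of_lt (List.toFinset_card_le _) (by rw [hz]; simp))
  have hsc : IsScal c.1 := central_isScal R hirr c hcZ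
  refine ⟨c.1, c.2, hsc, ?_⟩
  rcases hX.sq c.1 c.2 with h | h
  · exfalso
    apply hcS
    rcases scal_sq c.1 hsc h with h1 | h1
    · have : c = 1 := Subtype.ext h1
      rw [this]; simp
    · have : c = n := by rw [hn]; exact Subtype.ext h1
      rw [this]; simp
  · exact h

include h2 hX in
theorem scal_cases (ζ : GL ι F) (hζs : IsScal ζ) (hζζ : ζ * ζ = -1) (ρ : GL ι F) (hρ : ρ ∈ R)
    (hs : IsScal ρ) : ρ = 1 ∨ ρ = -1 ∨ ρ = ζ ∨ ρ = -ζ := by
  rcases hX.sq ρ hρ with h | h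
  · rcases scal_sq ρ hs h with h1 | h1
    · left; exact h1
    · right; left; exact h1
  · right; right
    have hc : ρ * ζ⁻¹ * (ρ * ζ⁻¹) = 1 := by
      have h1 : ζ⁻¹ * ρ = ρ * ζ⁻¹ := by
        have := isScal_comm hζs ρ
        calc ζ⁻¹ * ρ = ζ⁻¹ * (ρ * ζ) * ζ⁻¹ := by group
          _ = ζ⁻¹ * (ζ * ρ) * ζ⁻¹ := by rw [this]
          _ = ρ * ζ⁻¹ := by group
      calc ρ * ζ⁻¹ * (ρ * ζ⁻¹) = ρ * (ζ⁻¹ * ρ) * ζ⁻¹ := by group
        _ = ρ * (ρ * ζ⁻¹) * ζ⁻¹ := by rw [h1]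
        _ = (ρ * ρ) * (ζ * ζ)⁻¹ := by group
        _ = 1 := by rw [h, hζζ]; simp
    have hs' : IsScal (ρ * ζ⁻¹) := by
      apply isScal_mul hs
      obtain ⟨c, hc⟩ := hζs
      have hinv : ζ⁻¹ = -ζ := inv_of_sq_neg_one hζζ
      rw [hinv]
      exact isScal_neg ⟨c, hc⟩
    rcases scal_sq _ hs' hc with h1 | h1
    · left
      calc ρ = ρ * ζ⁻¹ * ζ := by group
        _ = ζ := by rw [h1, one_mul]
    · right
      calc ρ = ρ * ζ⁻¹ * ζ := by group
        _ = -ζ := by rw [h1, neg_one_mul]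

/-- multiply by `ζ` if necessary to make the square `-1` -/
theorem exists_sq_neg (hX : XS R) (ζ : GL ι F) (hζR : ζ ∈ R) (hζs : IsScal ζ) (hζζ : ζ * ζ = -1)
    (ρ : GL ι F) (hρ : ρ ∈ R) :
    ∃ a ∈ R, a * a = -1 ∧ (∀ c, ρ * c = c * ρ → a * c = c * a) ∧ (∀ c, AC ρ c → AC a c) ∧
      (∀ c, AC c ρ → AC c a) := by
  rcases hX.sq ρ hρ with h | h
  · refine ⟨ζ * ρ, mul_mem hζR hρ, ?_, ?_, ?_, ?_⟩
    · rw [sq_cm (isScal_comm hζs ρ), hζζ, h, mul_one]
    · intro c hc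
      exact cm_mul (isScal_comm hζs c) hc
    · intro c hc
      exact cm_mul_ac (isScal_comm hζs c) hc
    · intro c hc
      exact cm_mul_ac' (isScal_comm hζs c).symm hc
  · exact ⟨ρ, hρ, h, fun c hc => hc, fun c hc => hc, fun c hc => hc⟩

include h2 hX hcard hz hirr in
theorem exists_QQ : ∃ ζ a b a' b' : GL ι F, QQ R ζ a b a' b' := by
  classical
  obtain ⟨ζ, hζR, hζs, hζζ⟩ := exists_zeta R h2 hX hz hirr
  have hZ := scal_cases R h2 hX ζ hζs hζζ
  -- a nonscalar element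
  obtain ⟨r1, hr1, hr1S⟩ := exists_notMem_of_card_lt R
    ([1, -1, ζ, -ζ] : List (GL ι F)).toFinset
    (lt_of_le_of_lt (List.toFinset_card_le _) (by rw [hcard]; simp))
  have hr1ns : ¬ IsScal r1 := by
    intro hs
    apply hr1S
    rcases hZ r1 hr1 hs with rfl | rfl | rfl | rfl <;> simp
  obtain ⟨r2, hr2, h12'⟩ := hX.anti r1 hr1 hr1ns
  have h12 : AC r1 r2 := h12'
  -- normalise the squares
  obtain ⟨a, haR, haa, -, ha2, -⟩ := exists_sq_neg R hX ζ hζR hζs hζζ r1 hr1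
  obtain ⟨b, hbR, hbb, -, -, hb3⟩ := exists_sq_neg R hX ζ hζR hζs hζζ r2 hr2
  have hab : AC a b := hb3 a (ha2 r2 h12)
  -- third element
  obtain ⟨g, hg, hgS⟩ := exists_notMem_of_card_lt R
    ([1, -1, ζ, -ζ, a, -a, ζ * a, -(ζ * a), b, -b, ζ * b, -(ζ * b), a * b, -(a * b),
      ζ * (a * b), -(ζ * (a * b))] : List (GL ι F)).toFinset
    (lt_of_le_of_lt (List.toFinset_card_le _) (by rw [hcard]; simp))
  obtain ⟨q, hq, hq1, hq2⟩ := adjust R hX a b haR hbR hab g hg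
  have hqR : q ∈ R := by
    rcases hq with rfl | rfl | rfl | rfl
    · exact one_mem _
    · exact haR
    · exact hbR
    · exact mul_mem haR hbR
  have h3ns : ¬ IsScal (g * q) := by
    intro hs
    apply hgS
    have hgq : g = q⁻¹ ∨ g = -q⁻¹ ∨ g = ζ * q⁻¹ ∨ g = -(ζ * q⁻¹) := by
      have hg' : g = (g * q) * q⁻¹ := by group
      rcases hZ (g * q) (mul_mem hg hqR) hs with h | h | h | h
      · left; rw [hg', h, one_mul]
      · right; left; rw [hg', h, neg_one_mul]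
      · right; right; left; rw [hg', h]
      · right; right; right; rw [hg', h, neg_mul]
    have hqi : q⁻¹ = q ∨ q⁻¹ = -q := inv_pm R hX q hqR
    rcases hq with rfl | rfl | rfl | rfl <;> rcases hqi with h' | h' <;>
      rcases hgq with rfl | rfl | rfl | rfl <;> rw [h'] <;> simp
  obtain ⟨σ, hσ, h3σ'⟩ := hX.anti (g * q) (mul_mem hg hqR) h3ns
  have h3σ : AC (g * q) σ := h3σ'
  obtain ⟨q', hq', hq'1, hq'2⟩ := adjust R hX a b haR hbR hab σ hσ
  have hq'R : q' ∈ R := by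
    rcases hq' with rfl | rfl | rfl | rfl
    · exact one_mem _
    · exact haR
    · exact hbR
    · exact mul_mem haR hbR
  have h3q' : (g * q) * q' = q' * (g * q) := by
    rcases hq' with rfl | rfl | rfl | rfl
    · simp
    · exact hq1
    · exact hq2
    · exact cm_mul' hq1 hq2
  have h34 : AC (g * q) (σ * q') := ac_mul_cm' h3σ h3q'
  -- normalise
  obtain ⟨a', ha'R, ha'a', ha'1, ha'2, -⟩ := exists_sq_neg R hX ζ hζR hζs hζζ (g * q) (mul_mem hg hqR)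
  obtain ⟨b', hb'R, hb'b', hb'1, -, hb'3⟩ := exists_sq_neg R hX ζ hζR hζs hζζ (σ * q')
    (mul_mem hσ hq'R)
  exact ⟨ζ, a, b, a', b', hζR, haR, hbR, ha'R, hb'R, hζs, hζζ, haa, hbb, ha'a', hb'b', hab,
    hb'3 a' (ha'2 _ h34), ha'1 a hq1, ha'1 b hq2, hb'1 a hq'1, hb'1 b hq'2⟩

end main4

/-- Clifford generators from two quaternion pairs -/
theorem QQ.cliff [Nonempty ι] {R : Subgroup (GL ι F)} {ζ a b a' b' : GL ι F} (h : QQ R ζ a b a' b') :
    Cliff R (ζ * a) (ζ * b) ((ζ * a * (ζ * b)) * a') ((ζ * a * (ζ * b)) * b')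
      ((ζ * a * (ζ * b)) * (a' * b')) := by
  have hc : ∀ c, ζ * c = c * ζ := fun c => isScal_comm h.sζ c
  apply cliff_of_DQ R (ζ * a) (ζ * b) a' b' (mul_mem h.mζ h.ma) (mul_mem h.mζ h.mb) h.ma' h.mb'
  · rw [sq_cm (hc a), h.ζζ, h.aa]; simp
  · rw [sq_cm (hc b), h.ζζ, h.bb]; simp
  · exact cm_mul_ac (hc _) (cm_mul_ac' (hc _).symm h.ab)
  · exact h.aa'
  · exact h.bb'
  · exact h.ab'
  · exact cm_mul (hc a') h.c1.symm
  · exact cm_mul (hc b') h.c3.symm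
  · exact cm_mul (hc a') h.c2.symm
  · exact cm_mul (hc b') h.c4.symm

end Cfsg.Agent.Lib.Helper8.Ext
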