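import Mathlib
import Cfsg.Prelude.Def_GeometricClasses
import Cfsg.Agent.Lib.Helper8.Exl1

set_option autoImplicit false

/-! ring identities for Hurwitz units and reflections; scalar elements of `GL` -/

namespace Cfsg.Agent.Lib.Helper8.Ext

open scoped MatrixGroups Matrix
open Subgroup

section ringid
variable {S : Type*} [Ring S]

theorem hur_sq (A B : S) (hA : A * A = -1) (hB : B * B = -1) (hBA : B * A = -(A * B)) :
    ((1 + A) * (1 + B)) * ((1 + A) * (1 + B)) =
      ((1 + A) * (1 + B)) + ((1 + A) * (1 + B)) - (1 + 1 + 1 + 1) := by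
  have hA' : ∀ X, A * (A * X) = -X := fun X => by rw [← mul_assoc, hA, neg_one_mul]
  have hB' : ∀ X, B * (B * X) = -X := fun X => by rw [← mul_assoc, hB, neg_one_mul]
  have hBA' : ∀ X, B * (A * X) = -(A * (B * X)) := fun X => by
    rw [← mul_assoc, hBA, neg_mul, mul_assoc]
  simp only [mul_add, add_mul, mul_one, one_mul, mul_assoc, hA, hB, hBA, hA', hB', hBA',
    mul_neg, neg_mul, neg_neg]
  abel

theorem cube_of_quad (Y : S) (h : Y * Y + Y + 1 = 0) : Y * Y * Y = 1 := by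
  calc Y * Y * Y = (Y * Y + Y + 1) * Y - (Y * Y + Y + 1) + 1 := by noncomm_ring
    _ = 1 := by rw [h]; simp

theorem quad_of_hur (w : S) (h : w * w = w - 1) : (w - 1) * (w - 1) + (w - 1) + 1 = 0 := by
  have : (w - 1) * (w - 1) + (w - 1) + 1 = w * w - w + 1 := by noncomm_ring
  rw [this, h]; abel

theorem refl_expand (P Q Z : S) (hP : P * P = -1) (hQ : Q * Q = -1)
    (hQP : Q * P = P * Q) (hPZ : P * Z = Z * P) (hQZ : Q * Z = Z * Q) :
    (1 + P) * (1 + Q) * (1 + Z * (P * Q)) =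
      (1 + Z) + (P - Z * P) + (Q - Z * Q) + (P * Q + Z * (P * Q)) := by
  have hP' : ∀ X, P * (P * X) = -X := fun X => by rw [← mul_assoc, hP, neg_one_mul]
  have hQ' : ∀ X, Q * (Q * X) = -X := fun X => by rw [← mul_assoc, hQ, neg_one_mul]
  have hQP' : ∀ X, Q * (P * X) = P * (Q * X) := fun X => by
    rw [← mul_assoc, hQP, mul_assoc]
  have hPZ' : ∀ X, P * (Z * X) = Z * (P * X) := fun X => by
    rw [← mul_assoc, hPZ, mul_assoc]
  have hQZ' : ∀ X, Q * (Z * X) = Z * (Q * X) := fun X => by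
    rw [← mul_assoc, hQZ, mul_assoc]
  simp only [mul_add, add_mul, mul_one, one_mul, mul_assoc, hP, hQ, hQP, hPZ, hQZ, hP', hQ',
    hQP', hPZ', hQZ', mul_neg, neg_mul, neg_neg]
  abel

theorem refl_sq (P Q Z : S) (hP : P * P = -1) (hQ : Q * Q = -1) (hZ : Z * Z = -1)
    (hQP : Q * P = P * Q) (hPZ : P * Z = Z * P) (hQZ : Q * Z = Z * Q) :
    ((1 + P) * (1 + Q) * (1 + Z * (P * Q))) * ((1 + P) * (1 + Q) * (1 + Z * (P * Q))) =
      Z + Z + Z + Z + Z + Z + Z + Z := by
  have hP' : ∀ X, P * (P * X) = -X := fun X => by rw [← mul_assoc, hP, neg_one_mul]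
  have hQ' : ∀ X, Q * (Q * X) = -X := fun X => by rw [← mul_assoc, hQ, neg_one_mul]
  have hZ' : ∀ X, Z * (Z * X) = -X := fun X => by rw [← mul_assoc, hZ, neg_one_mul]
  have hQP' : ∀ X, Q * (P * X) = P * (Q * X) := fun X => by
    rw [← mul_assoc, hQP, mul_assoc]
  have hPZ' : ∀ X, P * (Z * X) = Z * (P * X) := fun X => by
    rw [← mul_assoc, hPZ, mul_assoc]
  have hQZ' : ∀ X, Q * (Z * X) = Z * (Q * X) := fun X => by
    rw [← mul_assoc, hQZ, mul_assoc]
  simp only [mul_add, add_mul, mul_one, one_mul, mul_assoc, hP, hQ, hZ, hQP, hPZ, hQZ, hP', hQ',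
    hZ', hQP', hPZ', hQZ', mul_neg, neg_mul, neg_neg]
  abel

end ringid

section scal
variable {ι : Type} [Fintype ι] [DecidableEq ι] {F : Type*} [Field F]

/-- scalar element of `GL` -/
noncomputable def sc (c : F) (hc : c ≠ 0) : GL ι F where
  val := c • 1
  inv := c⁻¹ • 1
  val_inv := by rw [Matrix.smul_mul, Matrix.one_mul, smul_smul, mul_inv_cancel₀ hc, one_smul]
  inv_val := by rw [Matrix.smul_mul, Matrix.one_mul, smul_smul, inv_mul_cancel₀ hc, one_smul]

theorem sc_val (c : F) (hc : c ≠ 0) : ((sc c hc : GL ι F) : Matrix ι ι F) = c • 1 := rfl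

theorem sc_isScal (c : F) (hc : c ≠ 0) : IsScal (sc c hc : GL ι F) := ⟨c, rfl⟩

theorem sc_mul_val (c : F) (hc : c ≠ 0) (x : GL ι F) :
    ((sc c hc * x : GL ι F) : Matrix ι ι F) = c • (x : Matrix ι ι F) := by
  rw [Units.val_mul, sc_val, Matrix.smul_mul, Matrix.one_mul]

theorem isScal_mem_normalizer (R : Subgroup (GL ι F)) {u : GL ι F} (hu : IsScal u) :
    u ∈ normalizer (R : Set (GL ι F)) := by
  rw [Subgroup.mem_normalizer_iff]
  intro h
  rw [isScal_comm hu h, mul_inv_cancel_right]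

theorem isScal_iff_sc [Nonempty ι] {u : GL ι F} : IsScal u ↔ ∃ c : F, ∃ hc : c ≠ 0, u = sc c hc := by
  constructor
  · rintro ⟨c, hc⟩
    have hc0 : c ≠ 0 := by
      rintro rfl
      rw [zero_smul] at hc
      have h1 : (u : Matrix ι ι F) * ((u⁻¹ : GL ι F) : Matrix ι ι F) = 1 := by
        rw [← Units.val_mul, mul_inv_cancel, Units.val_one]
      rw [hc, zero_mul] at h1
      exact zero_ne_one h1
    exact ⟨c, hc0, Units.ext hc⟩
  · rintro ⟨c, hc, rfl⟩
    exact sc_isScal c hc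

theorem sc_comm (c : F) (hc : c ≠ 0) (x : GL ι F) : sc c hc * x = x * sc c hc :=
  isScal_comm (sc_isScal c hc) x

theorem sc_pow (c : F) (hc : c ≠ 0) (n : ℕ) :
    (sc c hc : GL ι F) ^ n = sc (c ^ n) (pow_ne_zero n hc) := by
  apply Units.ext
  rw [Units.val_pow_eq_pow_val, sc_val, sc_val, smul_pow, one_pow]

theorem sc_one : (sc (1 : F) one_ne_zero : GL ι F) = 1 := by
  apply Units.ext
  rw [sc_val, one_smul, Units.val_one]

end scal

end Cfsg.Agent.Lib.Helper8.Ext
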