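import Mathlib
import Cfsg.Prelude.Def_GeometricClasses
import Cfsg.Agent.Lib.Helper8.Exl2

set_option autoImplicit false

/-! elements of order two and three in the normaliser of `4 ∘ 2^{1+4}` -/

namespace Cfsg.Agent.Lib.Helper8.Ext

open scoped MatrixGroups Matrix
open Subgroup

variable {ι : Type} [Fintype ι] [DecidableEq ι] {F : Type*} [Field F]

theorem tr0 [Nonempty ι] {R : Subgroup (GL ι F)} (hX : XS R) (h2 : (2 : F) ≠ 0) {ρ σ : GL ι F}
    (hρ : ρ ∈ R) (hac : AC ρ σ) : Matrix.trace (ρ : Matrix ι ι F) = 0 :=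
  hX.trace_eq_zero h2 ρ hρ (not_isScal_of_ac h2 hac)

theorem smul_one_inj [Nonempty ι] {c d : F} (h : c • (1 : Matrix ι ι F) = d • 1) : c = d := by
  obtain ⟨i⟩ := (inferInstance : Nonempty ι)
  have := congrFun (congrFun h i) i
  simpa using this

section hur
variable (h2 : (2 : F) ≠ 0) (a b : GL ι F) (ha : a * a = -1) (hb : b * b = -1)

/-- Hurwitz unit `(1 + a)(1 + b)/2` -/
noncomputable def hw : GL ι F := sc (2 : F)⁻¹ (inv_ne_zero h2) * (UU h2 a ha * UU h2 b hb)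

theorem hw_val : ((hw h2 a b ha hb : GL ι F) : Matrix ι ι F) =
    (2 : F)⁻¹ • ((1 + (a : Matrix ι ι F)) * (1 + (b : Matrix ι ι F))) := by
  unfold hw
  rw [sc_mul_val, Units.val_mul, UU_val, UU_val]

theorem hw_sq (hab : AC a b) : ((hw h2 a b ha hb : GL ι F) : Matrix ι ι F) *
    ((hw h2 a b ha hb : GL ι F) : Matrix ι ι F) = ((hw h2 a b ha hb : GL ι F) : Matrix ι ι F) - 1 := by
  have hA : (a : Matrix ι ι F) * (a : Matrix ι ι F) = -1 := by rw [← Units.val_mul, ha]; simp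
  have hB : (b : Matrix ι ι F) * (b : Matrix ι ι F) = -1 := by rw [← Units.val_mul, hb]; simp
  have hBA : (b : Matrix ι ι F) * (a : Matrix ι ι F) = -((a : Matrix ι ι F) * (b : Matrix ι ι F)) := by
    rw [← Units.val_mul, ← Units.val_mul, hab.symm]; simp
  rw [hw_val, smul_mul_smul_comm, hur_sq _ _ hA hB hBA]
  obtain ⟨W, hW⟩ : ∃ W, W = (1 + (a : Matrix ι ι F)) * (1 + (b : Matrix ι ι F)) := ⟨_, rfl⟩
  rw [← hW]
  obtain ⟨c, hc⟩ : ∃ c, c = (2 : F)⁻¹ := ⟨_, rfl⟩
  rw [← hc]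
  have h2c : (2 : F) * c = 1 := by rw [hc]; exact mul_inv_cancel₀ h2
  have e1 : c * c + c * c = c := by linear_combination c * h2c
  have e2 : c * c + c * c + c * c + c * c = 1 := by linear_combination (2 * c + 1) * h2c
  calc (c * c) • (W + W - (1 + 1 + 1 + 1)) =
      (c * c + c * c) • W - (c * c + c * c + c * c + c * c) • (1 : Matrix ι ι F) := by module
    _ = c • W - 1 := by rw [e2, e1, one_smul]

theorem hw_mem_normalizer (R : Subgroup (GL ι F)) [Finite R] (hX : XS R) (haR : a ∈ R)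
    (hbR : b ∈ R) : hw h2 a b ha hb ∈ normalizer (R : Set (GL ι F)) :=
  mul_mem (isScal_mem_normalizer R (sc_isScal _ _))
    (mul_mem (UU_mem_normalizer h2 R hX a haR ha) (UU_mem_normalizer h2 R hX b hbR hb))

theorem y2_val (hab : AC a b) :
    ((hw h2 a b ha hb * hw h2 a b ha hb : GL ι F) : Matrix ι ι F) =
      ((hw h2 a b ha hb : GL ι F) : Matrix ι ι F) - 1 := by
  rw [Units.val_mul, hw_sq h2 a b ha hb hab]

theorem y2_cube (hab : AC a b) : (hw h2 a b ha hb * hw h2 a b ha hb) ^ 3 = 1 := by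
  apply Units.ext
  rw [Units.val_pow_eq_pow_val, pow_three', y2_val h2 a b ha hb hab,
    cube_of_quad _ (quad_of_hur _ (hw_sq h2 a b ha hb hab)), Units.val_one]

theorem hw_trace [Nonempty ι] (R : Subgroup (GL ι F)) (hX : XS R) (haR : a ∈ R)
    (hbR : b ∈ R) (hab : AC a b) (hι : ((Fintype.card ι : ℕ) : F) = 4) :
    Matrix.trace ((hw h2 a b ha hb : GL ι F) : Matrix ι ι F) = 2 := by
  have e : (1 + (a : Matrix ι ι F)) * (1 + (b : Matrix ι ι F)) =
      1 + (a : Matrix ι ι F) + (b : Matrix ι ι F) + ((a * b : GL ι F) : Matrix ι ι F) := by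
    rw [Units.val_mul]; noncomm_ring
  rw [hw_val, Matrix.trace_smul, e, Matrix.trace_add, Matrix.trace_add, Matrix.trace_add,
    Matrix.trace_one, tr0 hX h2 haR hab, tr0 hX h2 hbR hab.symm,
    tr0 hX h2 (mul_mem haR hbR) (ac_mul_self hab).symm, hι]
  have h2c : (2 : F) * (2 : F)⁻¹ = 1 := mul_inv_cancel₀ h2
  rw [smul_eq_mul]
  linear_combination 2 * h2c

theorem y2_trace [Nonempty ι] (R : Subgroup (GL ι F)) (hX : XS R) (haR : a ∈ R)
    (hbR : b ∈ R) (hab : AC a b) (hι : ((Fintype.card ι : ℕ) : F) = 4) :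
    Matrix.trace ((hw h2 a b ha hb * hw h2 a b ha hb : GL ι F) : Matrix ι ι F) = -2 := by
  rw [y2_val h2 a b ha hb hab, Matrix.trace_sub, hw_trace h2 a b ha hb R hX haR hbR hab hι,
    Matrix.trace_one, hι]
  norm_num

end hur

end Cfsg.Agent.Lib.Helper8.Ext
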