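import Mathlib
import Cfsg.Prelude.Def_GeometricClasses
import Cfsg.Agent.Lib.Helper8.Exl3

set_option autoImplicit false

/-! targets in the normaliser of `4 ∘ 2^{1+4}`: involutions of trace `0, 2, -2`, elements of
order three of trace `1, -2` -/

namespace Cfsg.Agent.Lib.Helper8.Ext

open scoped MatrixGroups Matrix
open Subgroup

variable {ι : Type} [Fintype ι] [DecidableEq ι] {F : Type*} [Field F]

section targets
variable [Nonempty ι] {R : Subgroup (GL ι F)} [Finite R] {ζ a b a' b' : GL ι F}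
  (h2 : (2 : F) ≠ 0) (hX : XS R) (h : QQ R ζ a b a' b') (hι : ((Fintype.card ι : ℕ) : F) = 4)

include h2 hX h in
theorem exists_inv_tr0 : ∃ y ∈ normalizer (R : Set (GL ι F)), y ^ 2 = 1 ∧
    Matrix.trace (y : Matrix ι ι F) = 0 := by
  have hc : ∀ c, ζ * c = c * ζ := fun c => isScal_comm h.sζ c
  refine ⟨ζ * a, Subgroup.le_normalizer (mul_mem h.mζ h.ma), ?_, ?_⟩
  · rw [pow_two, sq_cm (hc a), h.ζζ, h.aa]; simp
  · exact tr0 hX h2 (mul_mem h.mζ h.ma) (cm_mul_ac (hc b) h.ab)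

include h2 hX h hι in
theorem exists_ord3_trm2 : ∃ y ∈ normalizer (R : Set (GL ι F)), y ^ 3 = 1 ∧
    Matrix.trace (y : Matrix ι ι F) = -2 :=
  ⟨hw h2 a b h.aa h.bb * hw h2 a b h.aa h.bb,
    mul_mem (hw_mem_normalizer h2 a b h.aa h.bb R hX h.ma h.mb)
      (hw_mem_normalizer h2 a b h.aa h.bb R hX h.ma h.mb),
    y2_cube h2 a b h.aa h.bb h.ab, y2_trace h2 a b h.aa h.bb R hX h.ma h.mb h.ab hι⟩

include h2 hX h hι in
theorem ord3_tr1_spec : ∃ y, y = (hw h2 a b h.aa h.bb * hw h2 a b h.aa h.bb) *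
      (hw h2 a' b' h.aa' h.bb' * hw h2 a' b' h.aa' h.bb') ∧
    y ∈ normalizer (R : Set (GL ι F)) ∧ y ^ 3 = 1 ∧
    Matrix.trace (y : Matrix ι ι F) = 1 := by
  obtain ⟨w1, hw1⟩ : ∃ w1, w1 = hw h2 a b h.aa h.bb := ⟨_, rfl⟩
  obtain ⟨w2, hw2⟩ : ∃ w2, w2 = hw h2 a' b' h.aa' h.bb' := ⟨_, rfl⟩
  have hN1 : w1 ∈ normalizer (R : Set (GL ι F)) :=
    hw1 ▸ hw_mem_normalizer h2 a b h.aa h.bb R hX h.ma h.mb
  have hN2 : w2 ∈ normalizer (R : Set (GL ι F)) :=
    hw2 ▸ hw_mem_normalizer h2 a' b' h.aa' h.bb' R hX h.ma' h.mb'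
  have hv1 : ((w1 * w1 : GL ι F) : Matrix ι ι F) = (w1 : Matrix ι ι F) - 1 :=
    hw1 ▸ y2_val h2 a b h.aa h.bb h.ab
  have hv2 : ((w2 * w2 : GL ι F) : Matrix ι ι F) = (w2 : Matrix ι ι F) - 1 :=
    hw2 ▸ y2_val h2 a' b' h.aa' h.bb' h.ab'
  have hc1 : (w1 * w1) ^ 3 = 1 := hw1 ▸ y2_cube h2 a b h.aa h.bb h.ab
  have hc2 : (w2 * w2) ^ 3 = 1 := hw2 ▸ y2_cube h2 a' b' h.aa' h.bb' h.ab'
  have ht1 : Matrix.trace (w1 : Matrix ι ι F) = 2 :=
    hw1 ▸ hw_trace h2 a b h.aa h.bb R hX h.ma h.mb h.ab hι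
  have ht2 : Matrix.trace (w2 : Matrix ι ι F) = 2 :=
    hw2 ▸ hw_trace h2 a' b' h.aa' h.bb' R hX h.ma' h.mb' h.ab' hι
  -- matrices
  have hA1 : Commute (a : Matrix ι ι F) (a' : Matrix ι ι F) := by
    unfold Commute SemiconjBy; rw [← Units.val_mul, ← Units.val_mul, h.c1]
  have hA2 : Commute (a : Matrix ι ι F) (b' : Matrix ι ι F) := by
    unfold Commute SemiconjBy; rw [← Units.val_mul, ← Units.val_mul, h.c3]
  have hB1 : Commute (b : Matrix ι ι F) (a' : Matrix ι ι F) := by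
    unfold Commute SemiconjBy; rw [← Units.val_mul, ← Units.val_mul, h.c2]
  have hB2 : Commute (b : Matrix ι ι F) (b' : Matrix ι ι F) := by
    unfold Commute SemiconjBy; rw [← Units.val_mul, ← Units.val_mul, h.c4]
  have hW : Commute ((1 + (a : Matrix ι ι F)) * (1 + (b : Matrix ι ι F)))
      ((1 + (a' : Matrix ι ι F)) * (1 + (b' : Matrix ι ι F))) := by
    have key : ∀ x y : Matrix ι ι F, Commute x y → Commute (1 + x) (1 + y) := fun x y hxy =>
      Commute.add_left (Commute.one_left _) (Commute.add_right (Commute.one_right x) hxy)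
    apply Commute.mul_left
    · exact Commute.mul_right (key _ _ hA1) (key _ _ hA2)
    · exact Commute.mul_right (key _ _ hB1) (key _ _ hB2)
  have hcomm : Commute w1 w2 := by
    unfold Commute SemiconjBy
    apply Units.ext
    rw [Units.val_mul, Units.val_mul, hw1, hw2, hw_val, hw_val]
    exact (hW.smul_left _).smul_right _
  have hcomm2 : Commute (w1 * w1) (w2 * w2) :=
    Commute.mul_right (Commute.mul_left hcomm hcomm) (Commute.mul_left hcomm hcomm)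
  have h2c : (2 : F) * (2 : F)⁻¹ = 1 := mul_inv_cancel₀ h2
  have t1 : Matrix.trace (a : Matrix ι ι F) = 0 := tr0 hX h2 h.ma h.ab
  have t2 : Matrix.trace (b : Matrix ι ι F) = 0 := tr0 hX h2 h.mb h.ab.symm
  have t3 : Matrix.trace ((a : Matrix ι ι F) * (b : Matrix ι ι F)) = 0 := by
    simp only [← Units.val_mul]
    exact tr0 hX h2 (mul_mem h.ma h.mb) (ac_mul_self h.ab).symm
  have t4 : Matrix.trace (a' : Matrix ι ι F) = 0 := tr0 hX h2 h.ma' h.ab'
  have t5 : Matrix.trace (b' : Matrix ι ι F) = 0 := tr0 hX h2 h.mb' h.ab'.symm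
  have t6 : Matrix.trace ((a' : Matrix ι ι F) * (b' : Matrix ι ι F)) = 0 := by
    simp only [← Units.val_mul]
    exact tr0 hX h2 (mul_mem h.ma' h.mb') (ac_mul_self h.ab').symm
  have t7 : Matrix.trace ((a : Matrix ι ι F) * (a' : Matrix ι ι F)) = 0 := by
    simp only [← Units.val_mul]
    exact tr0 hX h2 (mul_mem h.ma h.ma') (ac_mul_cm h.ab h.c2)
  have t8 : Matrix.trace ((a : Matrix ι ι F) * (b' : Matrix ι ι F)) = 0 := by
    simp only [← Units.val_mul]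
    exact tr0 hX h2 (mul_mem h.ma h.mb') (ac_mul_cm h.ab h.c4)
  have t9 : Matrix.trace ((a : Matrix ι ι F) * ((a' : Matrix ι ι F) * (b' : Matrix ι ι F))) = 0 := by
    simp only [← Units.val_mul]
    exact tr0 hX h2 (mul_mem h.ma (mul_mem h.ma' h.mb')) (ac_mul_cm h.ab (cm_mul h.c2 h.c4))
  have t10 : Matrix.trace ((b : Matrix ι ι F) * (a' : Matrix ι ι F)) = 0 := by
    simp only [← Units.val_mul]
    exact tr0 hX h2 (mul_mem h.mb h.ma') (ac_mul_cm h.ab.symm h.c1)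
  have t11 : Matrix.trace ((b : Matrix ι ι F) * (b' : Matrix ι ι F)) = 0 := by
    simp only [← Units.val_mul]
    exact tr0 hX h2 (mul_mem h.mb h.mb') (ac_mul_cm h.ab.symm h.c3)
  have t12 : Matrix.trace ((b : Matrix ι ι F) * ((a' : Matrix ι ι F) * (b' : Matrix ι ι F))) = 0 := by
    simp only [← Units.val_mul]
    exact tr0 hX h2 (mul_mem h.mb (mul_mem h.ma' h.mb')) (ac_mul_cm h.ab.symm (cm_mul h.c1 h.c3))
  have t13 : Matrix.trace ((a : Matrix ι ι F) * ((b : Matrix ι ι F) * (a' : Matrix ι ι F))) = 0 := by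
    simp only [← Units.val_mul]
    exact tr0 hX h2 (mul_mem h.ma (mul_mem h.mb h.ma')) (cm_mul_ac rfl (ac_mul_cm h.ab.symm h.c1))
  have t14 : Matrix.trace ((a : Matrix ι ι F) * ((b : Matrix ι ι F) * (b' : Matrix ι ι F))) = 0 := by
    simp only [← Units.val_mul]
    exact tr0 hX h2 (mul_mem h.ma (mul_mem h.mb h.mb')) (cm_mul_ac rfl (ac_mul_cm h.ab.symm h.c3))
  have t15 : Matrix.trace ((a : Matrix ι ι F) * ((b : Matrix ι ι F) *
      ((a' : Matrix ι ι F) * (b' : Matrix ι ι F)))) = 0 := by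
    simp only [← Units.val_mul]
    exact tr0 hX h2 (mul_mem h.ma (mul_mem h.mb (mul_mem h.ma' h.mb')))
      (cm_mul_ac rfl (ac_mul_cm h.ab.symm (cm_mul h.c1 h.c3)))
  have ht12 : Matrix.trace ((w1 : Matrix ι ι F) * (w2 : Matrix ι ι F)) = 1 := by
    rw [hw1, hw2, hw_val, hw_val, smul_mul_smul_comm, Matrix.trace_smul]
    have : Matrix.trace ((1 + (a : Matrix ι ι F)) * (1 + (b : Matrix ι ι F)) *
        ((1 + (a' : Matrix ι ι F)) * (1 + (b' : Matrix ι ι F)))) = 4 := by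
      simp only [mul_add, add_mul, mul_one, one_mul, mul_assoc, Matrix.trace_add, t1, t2, t3, t4,
        t5, t6, t7, t8, t9, t10, t11, t12, t13, t14, t15, Matrix.trace_one, hι, add_zero, zero_add]
    rw [this, smul_eq_mul]
    linear_combination (2 * (2 : F)⁻¹ + 1) * h2c
  refine ⟨(w1 * w1) * (w2 * w2), by rw [hw1, hw2], mul_mem (mul_mem hN1 hN1) (mul_mem hN2 hN2), ?_, ?_⟩
  · rw [hcomm2.mul_pow, hc1, hc2, one_mul]
  · rw [Units.val_mul, hv1, hv2]
    have e : ((w1 : Matrix ι ι F) - 1) * ((w2 : Matrix ι ι F) - 1) =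
        (w1 : Matrix ι ι F) * (w2 : Matrix ι ι F) - (w1 : Matrix ι ι F) - (w2 : Matrix ι ι F) + 1 := by
      noncomm_ring
    rw [e, Matrix.trace_add, Matrix.trace_sub, Matrix.trace_sub, ht1, ht2, ht12, Matrix.trace_one, hι]
    norm_num

include h2 hX h hι in
theorem exists_ord3_tr1 : ∃ y ∈ normalizer (R : Set (GL ι F)), y ^ 3 = 1 ∧
    Matrix.trace (y : Matrix ι ι F) = 1 := by
  obtain ⟨y, -, h1, h3, h4⟩ := ord3_tr1_spec h2 hX h hι
  exact ⟨y, h1, h3, h4⟩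

include h2 hX h hι in
theorem exists_inv_tr2 : ∃ y ∈ normalizer (R : Set (GL ι F)), y ^ 2 = 1 ∧
    Matrix.trace (y : Matrix ι ι F) = 2 := by
  have hc : ∀ c, ζ * c = c * ζ := fun c => isScal_comm h.sζ c
  obtain ⟨i, hi⟩ := h.sζ
  have hZ : (ζ : Matrix ι ι F) * (ζ : Matrix ι ι F) = -1 := by rw [← Units.val_mul, h.ζζ]; simp
  have hii : i * i = -1 := by
    have h1 := hZ
    rw [hi, Matrix.smul_mul, Matrix.mul_smul, Matrix.mul_one, smul_smul] at h1
    apply smul_one_inj (ι := ι)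
    rw [h1]; simp
  have h1i : 1 + i ≠ 0 := by
    intro h0
    have hi1 : i = -1 := by linear_combination h0
    rw [hi1] at hii
    apply h2
    linear_combination hii
  obtain ⟨γ, hγ⟩ : ∃ γ, γ = ζ * (a * a') := ⟨_, rfl⟩
  have hγR : γ ∈ R := hγ ▸ mul_mem h.mζ (mul_mem h.ma h.ma')
  have hγγ : γ * γ = -1 := by
    rw [hγ, sq_cm (hc _), h.ζζ, sq_cm' h.c1.symm, h.aa, h.aa']; simp
  obtain ⟨y0, hy0⟩ : ∃ y0, y0 = UU h2 a h.aa * UU h2 a' h.aa' * UU h2 γ hγγ := ⟨_, rfl⟩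
  have hy0N : y0 ∈ normalizer (R : Set (GL ι F)) :=
    hy0 ▸ mul_mem (mul_mem (UU_mem_normalizer h2 R hX a h.ma h.aa)
      (UU_mem_normalizer h2 R hX a' h.ma' h.aa')) (UU_mem_normalizer h2 R hX γ hγR hγγ)
  have hy0v : (y0 : Matrix ι ι F) = (1 + (a : Matrix ι ι F)) * (1 + (a' : Matrix ι ι F)) *
      (1 + (ζ : Matrix ι ι F) * ((a : Matrix ι ι F) * (a' : Matrix ι ι F))) := by
    rw [hy0, Units.val_mul, Units.val_mul, UU_val, UU_val, UU_val, hγ, Units.val_mul, Units.val_mul]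
  have hP : (a : Matrix ι ι F) * (a : Matrix ι ι F) = -1 := by rw [← Units.val_mul, h.aa]; simp
  have hQ : (a' : Matrix ι ι F) * (a' : Matrix ι ι F) = -1 := by rw [← Units.val_mul, h.aa']; simp
  have hQP : (a' : Matrix ι ι F) * (a : Matrix ι ι F) = (a : Matrix ι ι F) * (a' : Matrix ι ι F) := by
    rw [← Units.val_mul, ← Units.val_mul, h.c1]
  have hPZ : (a : Matrix ι ι F) * (ζ : Matrix ι ι F) = (ζ : Matrix ι ι F) * (a : Matrix ι ι F) := by
    rw [← Units.val_mul, ← Units.val_mul, hc a]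
  have hQZ : (a' : Matrix ι ι F) * (ζ : Matrix ι ι F) = (ζ : Matrix ι ι F) * (a' : Matrix ι ι F) := by
    rw [← Units.val_mul, ← Units.val_mul, hc a']
  have hsq := refl_sq _ _ _ hP hQ hZ hQP hPZ hQZ
  have hex := refl_expand _ _ _ hP hQ hQP hPZ hQZ
  rw [← hy0v] at hsq hex
  obtain ⟨s, hs⟩ : ∃ s, s = (2 * (1 + i))⁻¹ := ⟨_, rfl⟩
  have hs0 : s ≠ 0 := hs ▸ inv_ne_zero (mul_ne_zero h2 h1i)
  have hs1 : s * (2 * (1 + i)) = 1 := by rw [hs]; exact inv_mul_cancel₀ (mul_ne_zero h2 h1i)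
  refine ⟨sc s hs0 * y0, mul_mem (isScal_mem_normalizer R (sc_isScal _ _)) hy0N, ?_, ?_⟩
  · apply Units.ext
    rw [Units.val_pow_eq_pow_val, pow_two, sc_mul_val, smul_mul_smul_comm, hsq, hi, Units.val_one]
    have e8 : i • (1 : Matrix ι ι F) + i • 1 + i • 1 + i • 1 + i • 1 + i • 1 + i • 1 + i • 1 =
        (8 * i) • 1 := by module
    rw [e8, smul_smul]
    have : s * s * (8 * i) = 1 := by
      linear_combination (s * (2 * (1 + i)) + 1) * hs1 - 4 * s * s * hii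
    rw [this, one_smul]
  · have t1 : Matrix.trace (a : Matrix ι ι F) = 0 := tr0 hX h2 h.ma h.ab
    have t2 : Matrix.trace (a' : Matrix ι ι F) = 0 := tr0 hX h2 h.ma' h.ab'
    have t3 : Matrix.trace ((ζ : Matrix ι ι F) * (a : Matrix ι ι F)) = 0 := by
      simp only [← Units.val_mul]
      exact tr0 hX h2 (mul_mem h.mζ h.ma) (cm_mul_ac (hc b) h.ab)
    have t4 : Matrix.trace ((ζ : Matrix ι ι F) * (a' : Matrix ι ι F)) = 0 := by
      simp only [← Units.val_mul]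
      exact tr0 hX h2 (mul_mem h.mζ h.ma') (cm_mul_ac (hc b') h.ab')
    have t5 : Matrix.trace ((a : Matrix ι ι F) * (a' : Matrix ι ι F)) = 0 := by
      simp only [← Units.val_mul]
      exact tr0 hX h2 (mul_mem h.ma h.ma') (ac_mul_cm h.ab h.c2)
    have t6 : Matrix.trace ((ζ : Matrix ι ι F) * ((a : Matrix ι ι F) * (a' : Matrix ι ι F))) = 0 := by
      simp only [← Units.val_mul]
      exact tr0 hX h2 (mul_mem h.mζ (mul_mem h.ma h.ma')) (cm_mul_ac (hc b) (ac_mul_cm h.ab h.c2))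
    have t7 : Matrix.trace (ζ : Matrix ι ι F) = i * 4 := by
      rw [hi, Matrix.trace_smul, Matrix.trace_one, hι, smul_eq_mul]
    rw [sc_mul_val, Matrix.trace_smul, hex]
    simp only [Matrix.trace_add, Matrix.trace_sub, t1, t2, t3, t4, t5, t6, t7, Matrix.trace_one, hι,
      smul_eq_mul]
    linear_combination 2 * hs1

include h2 hX h hι in
theorem exists_inv_trm2 : ∃ y ∈ normalizer (R : Set (GL ι F)), y ^ 2 = 1 ∧
    Matrix.trace (y : Matrix ι ι F) = -2 := by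
  obtain ⟨y, hyN, hy2, hyt⟩ := exists_inv_tr2 h2 hX h hι
  refine ⟨-y, ?_, ?_, ?_⟩
  · have : -y = (-1) * y := by simp
    rw [this]
    exact mul_mem (Subgroup.le_normalizer hX.negOne) hyN
  · rw [neg_sq, hy2]
  · rw [Units.val_neg, Matrix.trace_neg, hyt]

end targets

end Cfsg.Agent.Lib.Helper8.Ext
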