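import Mathlib
import Cfsg.Agent.Lib.Helper5.SemiConj.Cyc
import Cfsg.Agent.Lib.Helper5.SemiConj.Gram
import Cfsg.Agent.Lib.Helper5.SemiConj.Poly

set_option autoImplicit false

/-! Semisimple operators with the same characteristic polynomial are conjugate -/

namespace Cfsg.Agent.Lib.Helper8.Slc

open Polynomial Module Cfsg.Agent.Lib.Helper5.SemiConj

universe u v

section conj
variable {F : Type u} [Field F]

theorem exists_conj_aux :
    ∀ n : ℕ, ∀ (V V' : Type v) [AddCommGroup V] [Module F V] [AddCommGroup V'] [Module F V']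
      [FiniteDimensional F V] [FiniteDimensional F V'] (g : End F V) (g' : End F V'),
      g.IsSemisimple → g'.IsSemisimple → finrank F V = n →
      LinearMap.charpoly g = LinearMap.charpoly g' →
      ∃ φ : V ≃ₗ[F] V', ∀ x, φ (g x) = g' (φ x) := by
  intro n
  induction n using Nat.strong_induction_on with
  | _ n ih =>
    intro V V' _ _ _ _ _ _ g g' hss hss' hn hchar
    have hn' : finrank F V' = n := by
      rw [← LinearMap.charpoly_natDegree g', ← hchar, LinearMap.charpoly_natDegree, hn]
    rcases Nat.eq_zero_or_pos n with h0 | hpos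
    · rw [h0] at hn hn'
      have : Subsingleton V := Module.finrank_zero_iff.mp hn
      have : Subsingleton V' := Module.finrank_zero_iff.mp hn'
      exact ⟨LinearEquiv.ofSubsingleton V V', fun x => Subsingleton.elim _ _⟩
    · have hdeg : (LinearMap.charpoly g).natDegree = finrank F V := LinearMap.charpoly_natDegree g
      have hnu : ¬ IsUnit (LinearMap.charpoly g) := fun h => by
        have := Polynomial.natDegree_eq_zero_of_isUnit h
        omega
      have hn0 : LinearMap.charpoly g ≠ 0 := (LinearMap.charpoly_monic g).ne_zero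
      obtain ⟨f, hf, hfd⟩ := WfDvdMonoid.exists_irreducible_factor hnu hn0
      obtain ⟨x, hxne, hx⟩ := exists_ne_zero_of_dvd_charpoly g hf hfd
      obtain ⟨x', hxne', hx'⟩ := exists_ne_zero_of_dvd_charpoly g' hf (hchar ▸ hfd)
      obtain ⟨P, hPdef⟩ : ∃ P : Submodule F V, P = LinearMap.range (evalAt g x) := ⟨_, rfl⟩
      obtain ⟨P', hP'def⟩ : ∃ P' : Submodule F V', P' = LinearMap.range (evalAt g' x') := ⟨_, rfl⟩
      have hPg : ∀ v ∈ P, g v ∈ P := by
        intro v hv
        rw [hPdef] at hv ⊢
        obtain ⟨a, rfl⟩ := hv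
        refine ⟨X * a, ?_⟩
        rw [evalAt_apply, evalAt_apply, map_mul, aeval_X, Module.End.mul_apply]
      have hP'g : ∀ v ∈ P', g' v ∈ P' := by
        intro v hv
        rw [hP'def] at hv ⊢
        obtain ⟨a, rfl⟩ := hv
        refine ⟨X * a, ?_⟩
        rw [evalAt_apply, evalAt_apply, map_mul, aeval_X, Module.End.mul_apply]
      have hPne : P ≠ ⊥ := by
        intro h
        apply hxne
        have : x ∈ P := by
          rw [hPdef]
          exact ⟨1, by rw [evalAt_apply, map_one, Module.End.one_apply]⟩
        rw [h] at this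
        exact (Submodule.mem_bot F).mp this
      obtain ⟨ψ, hψ⟩ : ∃ ψ : P ≃ₗ[F] P', ∀ a : F[X], ∀ (h1 : aeval g a x ∈ P),
          ((ψ ⟨aeval g a x, h1⟩ : P') : V') = aeval g' a x' := by
        subst hPdef hP'def
        refine ⟨(cycIso g hf hx hxne).symm ≪≫ₗ cycIso g' hf hx' hxne', ?_⟩
        intro a h1
        have : (⟨aeval g a x, h1⟩ : LinearMap.range (evalAt g x)) =
            cycIso g hf hx hxne (AdjoinRoot.mk f a) := by
          apply Subtype.ext
          rw [cycIso_mk]
        rw [this, LinearEquiv.trans_apply, LinearEquiv.symm_apply_apply, cycIso_mk]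
      have hψg : ∀ p : P, ((ψ ⟨g p, hPg _ p.2⟩ : P') : V') = g' (ψ p : V') := by
        intro p
        have hp : (p : V) ∈ LinearMap.range (evalAt g x) := hPdef ▸ p.2
        obtain ⟨a, ha⟩ := hp
        rw [evalAt_apply] at ha
        have h1 : (p : V) = aeval g a x := ha.symm
        have h2 : g (p : V) = aeval g (X * a) x := by
          rw [h1, map_mul, aeval_X, Module.End.mul_apply]
        have e1 : (⟨g p, hPg _ p.2⟩ : P) = ⟨aeval g (X * a) x, h2 ▸ hPg _ p.2⟩ := Subtype.ext h2
        have e2 : p = ⟨aeval g a x, h1 ▸ p.2⟩ := Subtype.ext h1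
        rw [e1, hψ]
        conv_rhs => rw [e2, hψ]
        rw [map_mul, aeval_X, Module.End.mul_apply]
      -- complements
      obtain ⟨Q, hQinv, hc⟩ := (Module.End.isSemisimple_iff.mp hss) P hPg
      obtain ⟨Q', hQ'inv, hc'⟩ := (Module.End.isSemisimple_iff.mp hss') P' hP'g
      have hQg : ∀ v ∈ Q, g v ∈ Q := hQinv
      have hQ'g : ∀ v ∈ Q', g' v ∈ Q' := hQ'inv
      have h1 := charpoly_eq_mul_of_isCompl g P Q hc hPg hQg
      have h2 := charpoly_eq_mul_of_isCompl g' P' Q' hc' hP'g hQ'g
      have h3 : LinearMap.charpoly (g.restrict hPg) = LinearMap.charpoly (g'.restrict hP'g) := by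
        rw [← LinearEquiv.charpoly_conj ψ (g.restrict hPg)]
        congr 1
        apply LinearMap.ext
        intro p'
        apply Subtype.ext
        rw [LinearEquiv.conj_apply, LinearMap.comp_apply, LinearMap.comp_apply, LinearEquiv.coe_coe,
          LinearEquiv.coe_coe]
        have := hψg (ψ.symm p')
        rw [LinearEquiv.apply_symm_apply] at this
        exact this
      have h4 : LinearMap.charpoly (g.restrict hQg) = LinearMap.charpoly (g'.restrict hQ'g) := by
        rw [h1, h2, h3] at hchar
        exact mul_left_cancel₀ (LinearMap.charpoly_monic _).ne_zero hchar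
      have h5 : finrank F Q < n := by
        have := Submodule.finrank_add_eq_of_isCompl hc
        have hp : 0 < finrank F P := by
          rw [Nat.pos_iff_ne_zero, Ne, Submodule.finrank_eq_zero]
          exact hPne
        omega
      obtain ⟨φ₂, hφg⟩ := ih _ h5 Q Q' (g.restrict hQg) (g'.restrict hQ'g)
        (Module.End.IsSemisimple.restrict hQinv hss) (Module.End.IsSemisimple.restrict hQ'inv hss')
        rfl h4
      obtain ⟨φ, hφ⟩ := exists_glue P Q P' Q' hc hc' ψ φ₂
      refine ⟨φ, fun v => ?_⟩
      obtain ⟨p, q, rfl⟩ := exists_decomp hc v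
      have e1 : g ((p : V) + (q : V)) =
          ((⟨g p, hPg _ p.2⟩ : P) : V) + ((⟨g q, hQg _ q.2⟩ : Q) : V) := by
        rw [map_add]
      rw [e1, hφ, hφ, map_add, hψg p]
      congr 1
      exact congrArg Subtype.val (hφg q)

/-- semisimple operators with the same characteristic polynomial are conjugate -/
theorem exists_conj {V V' : Type v} [AddCommGroup V] [Module F V] [AddCommGroup V'] [Module F V']
    [FiniteDimensional F V] [FiniteDimensional F V'] (g : End F V) (g' : End F V')
    (hss : g.IsSemisimple) (hss' : g'.IsSemisimple)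
    (hchar : LinearMap.charpoly g = LinearMap.charpoly g') :
    ∃ φ : V ≃ₗ[F] V', ∀ x, φ (g x) = g' (φ x) :=
  exists_conj_aux _ V V' g g' hss hss' rfl hchar

end conj

end Cfsg.Agent.Lib.Helper8.Slc
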