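import Mathlib
import Cfsg.Agent.Lib.Helper8.Slc1

set_option autoImplicit false

/-! Characteristic polynomials of operators annihilated by a product of irreducibles -/

namespace Cfsg.Agent.Lib.Helper8.Slc

open Polynomial Module Cfsg.Agent.Lib.Helper5.SemiConj

universe u v

section poly
variable {F : Type u} [Field F]

theorem eq_pow_of_factors (P q : F[X]) (hP : P.Monic) (hq : q.Monic) (hqi : Irreducible q)
    (h : ∀ f, Irreducible f → f ∣ P → Associated f q) : ∃ k, P = q ^ k := by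
  have hdeg : (0 : WithBot ℕ) < degree q := degree_pos_of_irreducible hqi
  have hfin := finiteMultiplicity_of_degree_pos_of_monic hdeg hq hP.ne_zero
  obtain ⟨c, hc, hnd⟩ := hfin.exists_eq_pow_mul_and_not_dvd
  have hcm : c.Monic := Monic.of_mul_monic_left (hq.pow _) (hc ▸ hP)
  have hcu : IsUnit c := by
    by_contra hnu
    obtain ⟨f, hf, hfd⟩ := WfDvdMonoid.exists_irreducible_factor hnu hcm.ne_zero
    have hfP : f ∣ P := hc ▸ Dvd.dvd.mul_left hfd _
    exact hnd ((h f hf hfP).symm.dvd.trans hfd)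
  rw [hcm.eq_one_of_isUnit hcu, mul_one] at hc
  exact ⟨_, hc⟩

theorem eq_pow_mul_pow (P q₁ q₂ : F[X]) (hP : P.Monic) (hq₁ : q₁.Monic) (hq₂ : q₂.Monic)
    (hi₁ : Irreducible q₁) (hi₂ : Irreducible q₂)
    (h : ∀ f, Irreducible f → f ∣ P → Associated f q₁ ∨ Associated f q₂) :
    ∃ k₁ k₂, P = q₁ ^ k₁ * q₂ ^ k₂ := by
  have hdeg : (0 : WithBot ℕ) < degree q₁ := degree_pos_of_irreducible hi₁
  have hfin := finiteMultiplicity_of_degree_pos_of_monic hdeg hq₁ hP.ne_zero
  obtain ⟨c, hc, hnd⟩ := hfin.exists_eq_pow_mul_and_not_dvd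
  have hcm : c.Monic := Monic.of_mul_monic_left (hq₁.pow _) (hc ▸ hP)
  obtain ⟨k₂, hk₂⟩ := eq_pow_of_factors c q₂ hcm hq₂ hi₂ (by
    intro f hf hfd
    have hfP : f ∣ P := hc ▸ Dvd.dvd.mul_left hfd _
    rcases h f hf hfP with h1 | h1
    · exact absurd (h1.symm.dvd.trans hfd) hnd
    · exact h1)
  exact ⟨_, k₂, by rw [← hk₂]; exact hc⟩

end poly

section charpoly
variable {F : Type u} [Field F] {V : Type v} [AddCommGroup V] [Module F V] [FiniteDimensional F V]

theorem dvd_of_factor (g : End F V) (q : F[X]) (hq : aeval g q = 0) (f : F[X]) (hf : Irreducible f)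
    (hfd : f ∣ LinearMap.charpoly g) : f ∣ q := by
  by_contra hnd
  have hco : IsCoprime f q := hf.coprime_iff_not_dvd.mpr hnd
  obtain ⟨x, hxne, hx⟩ := exists_ne_zero_of_dvd_charpoly g hf hfd
  obtain ⟨a, b, hab⟩ := hco
  apply hxne
  have h1 : aeval g (a * f + b * q) x = x := by rw [hab, map_one, Module.End.one_apply]
  rw [map_add, map_mul, map_mul, hq, mul_zero, add_zero, Module.End.mul_apply, hx, map_zero] at h1
  exact h1.symm

theorem charpoly_primary (g : End F V) (q : F[X]) (hqm : q.Monic) (hqi : Irreducible q)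
    (hq : aeval g q = 0) : ∃ k, LinearMap.charpoly g = q ^ k := by
  apply eq_pow_of_factors _ q (LinearMap.charpoly_monic g) hqm hqi
  intro f hf hfd
  exact hf.associated_of_dvd hqi (dvd_of_factor g q hq f hf hfd)

theorem charpoly_two (g : End F V) (q₁ q₂ : F[X]) (hm₁ : q₁.Monic) (hm₂ : q₂.Monic)
    (hi₁ : Irreducible q₁) (hi₂ : Irreducible q₂) (hne : ¬ Associated q₁ q₂)
    (hq : aeval g (q₁ * q₂) = 0) :
    ∃ k₁ k₂, LinearMap.charpoly g = q₁ ^ k₁ * q₂ ^ k₂ ∧ (k₁ = 0 → aeval g q₂ = 0) ∧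
      (k₂ = 0 → aeval g q₁ = 0) := by
  obtain ⟨k₁, k₂, hk⟩ := eq_pow_mul_pow _ q₁ q₂ (LinearMap.charpoly_monic g) hm₁ hm₂ hi₁ hi₂ (by
    intro f hf hfd
    have h1 := dvd_of_factor g _ hq f hf hfd
    rcases hf.prime.dvd_or_dvd h1 with h | h
    · left; exact hf.associated_of_dvd hi₁ h
    · right; exact hf.associated_of_dvd hi₂ h)
  have hco : IsCoprime q₁ q₂ := hi₁.coprime_iff_not_dvd.mpr (fun h => hne (hi₁.associated_of_dvd hi₂ h))
  have hCH : aeval g (LinearMap.charpoly g) = 0 := LinearMap.aeval_self_charpoly g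
  have hprod : aeval g q₁ * aeval g q₂ = 0 := by rw [← map_mul, hq]
  have hprod' : aeval g q₂ * aeval g q₁ = 0 := by rw [← map_mul, mul_comm, hq]
  refine ⟨k₁, k₂, hk, ?_, ?_⟩
  · intro h0
    rw [hk, h0, pow_zero, one_mul] at hCH
    obtain ⟨a, b, hab⟩ := (hco.pow_right (n := k₂))
    have h1 := congrArg (aeval g) hab
    rw [map_add, map_mul, map_mul, hCH, mul_zero, add_zero, map_one] at h1
    calc aeval g q₂ = (aeval g a * aeval g q₁) * aeval g q₂ := by rw [h1, one_mul]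
      _ = 0 := by rw [mul_assoc, hprod, mul_zero]
  · intro h0
    rw [hk, h0, pow_zero, mul_one] at hCH
    obtain ⟨a, b, hab⟩ := (hco.symm.pow_right (n := k₁))
    have h1 := congrArg (aeval g) hab
    rw [map_add, map_mul, map_mul, hCH, mul_zero, add_zero, map_one] at h1
    calc aeval g q₁ = (aeval g a * aeval g q₂) * aeval g q₁ := by rw [h1, one_mul]
      _ = 0 := by rw [mul_assoc, hprod', mul_zero]

end charpoly

end Cfsg.Agent.Lib.Helper8.Slc
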