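import Mathlib
import Cfsg.Agent.Lib.Helper8.Slc2

set_option autoImplicit false

/-! Characteristic polynomials of matrices of order two and three -/

namespace Cfsg.Agent.Lib.Helper8.Slc

open Polynomial Module

section mat
variable {ι : Type} [Fintype ι] [DecidableEq ι] {F : Type*} [Field F]

theorem aeval_toLin' (M : Matrix ι ι F) (q : F[X]) :
    aeval (Matrix.toLin' M) q = Matrix.toLin' (aeval M q) := by
  have := aeval_algHom_apply (Matrix.toLinAlgEquiv' : Matrix ι ι F ≃ₐ[F] _).toAlgHom M q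
  exact this

theorem mat_charpoly_two (M : Matrix ι ι F) (q₁ q₂ : F[X]) (hm₁ : q₁.Monic) (hm₂ : q₂.Monic)
    (hi₁ : Irreducible q₁) (hi₂ : Irreducible q₂) (hne : ¬ Associated q₁ q₂)
    (hq : aeval M (q₁ * q₂) = 0) :
    ∃ k₁ k₂, M.charpoly = q₁ ^ k₁ * q₂ ^ k₂ ∧ (k₁ = 0 → aeval M q₂ = 0) ∧
      (k₂ = 0 → aeval M q₁ = 0) := by
  obtain ⟨k₁, k₂, h1, h2, h3⟩ := charpoly_two (Matrix.toLin' M) q₁ q₂ hm₁ hm₂ hi₁ hi₂ hne
    (by rw [aeval_toLin', hq, map_zero])
  rw [Matrix.charpoly_toLin'] at h1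
  refine ⟨k₁, k₂, h1, fun h => ?_, fun h => ?_⟩
  · have := h2 h
    rw [aeval_toLin'] at this
    exact Matrix.toLin'.injective (by rw [this, map_zero])
  · have := h3 h
    rw [aeval_toLin'] at this
    exact Matrix.toLin'.injective (by rw [this, map_zero])

theorem X_sub_ne (h2 : (2 : F) ≠ 0) : ¬ Associated (X - C (1 : F)) (X - C (-1)) := by
  intro h
  have h1 := eq_of_monic_of_associated (monic_X_sub_C 1) (monic_X_sub_C (-1)) h
  have h3 : (-1 : F) = 1 := by
    have := congrArg (fun q => q.coeff 0) h1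
    simpa using this
  apply h2
  linear_combination (-1 : F) * h3

theorem inv_type (h2 : (2 : F) ≠ 0) (hι : Fintype.card ι = 4) (M : Matrix ι ι F)
    (hM : M * M = 1) :
    ∃ k₁ k₂ : ℕ, k₁ + k₂ = 4 ∧ M.charpoly = (X - C 1) ^ k₁ * (X - C (-1)) ^ k₂ ∧
      (k₁ = 0 → M = -1) ∧ (k₂ = 0 → M = 1) ∧ M.trace = (k₁ : F) - (k₂ : F) := by
  obtain ⟨k₁, k₂, hc, h0, h0'⟩ := mat_charpoly_two M _ _ (monic_X_sub_C 1) (monic_X_sub_C (-1))
    (irreducible_X_sub_C 1) (irreducible_X_sub_C (-1)) (X_sub_ne h2) (by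
      simp only [map_mul, map_sub, aeval_X, aeval_C, map_one, map_neg]
      have : (M - 1) * (M - -1) = M * M - 1 := by noncomm_ring
      rw [this, hM, sub_self])
  have hdeg : k₁ + k₂ = 4 := by
    have := congrArg natDegree hc
    rw [Matrix.charpoly_natDegree_eq_dim, hι, natDegree_mul (pow_ne_zero _ (X_sub_C_ne_zero 1))
      (pow_ne_zero _ (X_sub_C_ne_zero (-1))), natDegree_pow, natDegree_pow, natDegree_X_sub_C,
      natDegree_X_sub_C] at this
    omega
  refine ⟨k₁, k₂, hdeg, hc, ?_, ?_, ?_⟩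
  · intro h
    have := h0 h
    simp only [map_sub, aeval_X, aeval_C, map_one, map_neg] at this
    rw [sub_neg_eq_add] at this
    exact eq_neg_of_add_eq_zero_left this
  · intro h
    have := h0' h
    simp only [map_sub, aeval_X, aeval_C, map_one] at this
    exact sub_eq_zero.mp this
  · rw [Matrix.trace_eq_neg_charpoly_nextCoeff, hc,
      Monic.nextCoeff_mul ((monic_X_sub_C 1).pow k₁) ((monic_X_sub_C (-1)).pow k₂),
      Monic.nextCoeff_pow (monic_X_sub_C _), Monic.nextCoeff_pow (monic_X_sub_C _),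
      nextCoeff_X_sub_C, nextCoeff_X_sub_C]
    simp only [nsmul_eq_mul]
    ring

theorem inv_same (p : ℕ) [CharP F p] (hp : 5 ≤ p) (h2 : (2 : F) ≠ 0) (hι : Fintype.card ι = 4)
    (M M' : Matrix ι ι F) (hM : M * M = 1) (hM' : M' * M' = 1) (ht : M.trace = M'.trace) :
    M.charpoly = M'.charpoly := by
  obtain ⟨k₁, k₂, hk, hc, -, -, htr⟩ := inv_type h2 hι M hM
  obtain ⟨k₁', k₂', hk', hc', -, -, htr'⟩ := inv_type h2 hι M' hM'
  have e1 : (k₂ : F) = 4 - k₁ := by
    have := congrArg (Nat.cast (R := F)) hk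
    push_cast at this
    linear_combination this
  have e2 : (k₂' : F) = 4 - k₁' := by
    have := congrArg (Nat.cast (R := F)) hk'
    push_cast at this
    linear_combination this
  have e3 : (k₁ : F) = (k₁' : F) := by
    have h4 : (2 : F) * ((k₁ : F) - k₁') = 0 := by
      rw [htr, htr', e1, e2] at ht
      linear_combination ht
    rcases mul_eq_zero.mp h4 with h | h
    · exact absurd h h2
    · exact sub_eq_zero.mp h
  have e4 : k₁ = k₁' := by
    have := (CharP.natCast_eq_natCast F p).mp e3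
    exact Nat.ModEq.eq_of_lt_of_lt this (by omega) (by omega)
  have e5 : k₂ = k₂' := by omega
  rw [hc, hc', e4, e5]

end mat

section three
variable {ι : Type} [Fintype ι] [DecidableEq ι] {F : Type*} [Field F]

/-- `X^2+X+1` -/
noncomputable def q3 (F : Type*) [Field F] : F[X] := X ^ 2 + X + 1

theorem q3_eq : q3 F = cyclotomic 3 F := (cyclotomic_three F).symm

theorem q3_monic : (q3 F).Monic := by rw [q3_eq]; exact cyclotomic.monic 3 F

theorem q3_natDegree : (q3 F).natDegree = 2 := by unfold q3; compute_degree!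

theorem q3_nextCoeff : (q3 F).nextCoeff = 1 := by
  rw [nextCoeff_of_natDegree_pos (by rw [q3_natDegree]; norm_num), q3_natDegree]
  unfold q3
  simp [coeff_X, coeff_one]

theorem q3_ne : ¬ Associated (X - C (1 : F)) (q3 F) := by
  intro h
  have h1 := eq_of_monic_of_associated (monic_X_sub_C 1) q3_monic h
  have := congrArg natDegree h1
  rw [natDegree_X_sub_C, q3_natDegree] at this
  omega

theorem q3_irreducible [Fintype F] (h3 : (3 : F) ≠ 0) (hcard : Fintype.card F % 3 = 2) :
    Irreducible (q3 F) := by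
  rw [Monic.irreducible_iff_roots_eq_zero_of_degree_le_three q3_monic (by rw [q3_natDegree])
    (by rw [q3_natDegree]; norm_num)]
  apply Multiset.eq_zero_of_forall_notMem
  intro ω hω
  rw [mem_roots q3_monic.ne_zero, IsRoot.def] at hω
  unfold q3 at hω
  simp only [eval_add, eval_pow, eval_X, eval_one] at hω
  have hω0 : ω ≠ 0 := by
    rintro rfl
    simp at hω
  have hω3 : ω ^ 3 = 1 := by linear_combination (ω - 1) * hω
  have hω1 : ω ≠ 1 := by
    rintro rfl
    apply h3
    linear_combination hω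
  have hord : orderOf ω = 3 := orderOf_eq_prime hω3 hω1
  have hdvd : 3 ∣ Fintype.card F - 1 := by
    rw [← hord]
    exact orderOf_dvd_of_pow_eq_one (FiniteField.pow_card_sub_one_eq_one ω hω0)
  obtain ⟨k, hk⟩ := hdvd
  omega

theorem ord3_type (hι : Fintype.card ι = 4) (hq : Irreducible (q3 F)) (M : Matrix ι ι F)
    (hM : M * M * M = 1) :
    ∃ k₁ k₂ : ℕ, k₁ + 2 * k₂ = 4 ∧ M.charpoly = (X - C 1) ^ k₁ * (q3 F) ^ k₂ ∧
      (k₂ = 0 → M = 1) ∧ M.trace = (k₁ : F) - (k₂ : F) := by
  obtain ⟨k₁, k₂, hc, -, h0'⟩ := mat_charpoly_two M _ _ (monic_X_sub_C 1) q3_monic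
    (irreducible_X_sub_C 1) hq q3_ne (by
      unfold q3
      simp only [map_mul, map_sub, map_add, map_pow, aeval_X, aeval_C, map_one]
      have : (M - 1) * (M ^ 2 + M + 1) = M * M * M - 1 := by noncomm_ring
      rw [this, hM, sub_self])
  have hdeg : k₁ + 2 * k₂ = 4 := by
    have := congrArg natDegree hc
    rw [Matrix.charpoly_natDegree_eq_dim, hι, natDegree_mul (pow_ne_zero _ (X_sub_C_ne_zero 1))
      (pow_ne_zero _ q3_monic.ne_zero), natDegree_pow, natDegree_pow, natDegree_X_sub_C,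
      q3_natDegree] at this
    omega
  refine ⟨k₁, k₂, hdeg, hc, ?_, ?_⟩
  · intro h
    have := h0' h
    simp only [map_sub, aeval_X, aeval_C, map_one] at this
    exact sub_eq_zero.mp this
  · rw [Matrix.trace_eq_neg_charpoly_nextCoeff, hc,
      Monic.nextCoeff_mul ((monic_X_sub_C 1).pow k₁) (q3_monic.pow k₂),
      Monic.nextCoeff_pow (monic_X_sub_C _), Monic.nextCoeff_pow q3_monic,
      nextCoeff_X_sub_C, q3_nextCoeff]
    simp only [nsmul_eq_mul]
    ring

theorem ord3_same (p : ℕ) [CharP F p] (hp : 5 ≤ p) (h3 : (3 : F) ≠ 0) (hι : Fintype.card ι = 4)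
    (hq : Irreducible (q3 F))
    (M M' : Matrix ι ι F) (hM : M * M * M = 1) (hM' : M' * M' * M' = 1) (ht : M.trace = M'.trace) :
    M.charpoly = M'.charpoly := by
  obtain ⟨k₁, k₂, hk, hc, -, htr⟩ := ord3_type hι hq M hM
  obtain ⟨k₁', k₂', hk', hc', -, htr'⟩ := ord3_type hι hq M' hM'
  have e1 : (k₁ : F) = 4 - 2 * k₂ := by
    have := congrArg (Nat.cast (R := F)) hk
    push_cast at this
    linear_combination this
  have e2 : (k₁' : F) = 4 - 2 * k₂' := by
    have := congrArg (Nat.cast (R := F)) hk'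
    push_cast at this
    linear_combination this
  have e3 : (k₂ : F) = (k₂' : F) := by
    have h4 : (3 : F) * ((k₂ : F) - k₂') = 0 := by
      rw [htr, htr', e1, e2] at ht
      linear_combination -ht
    rcases mul_eq_zero.mp h4 with h | h
    · exact absurd h h3
    · exact sub_eq_zero.mp h
  have e4 : k₂ = k₂' := by
    have := (CharP.natCast_eq_natCast F p).mp e3
    exact Nat.ModEq.eq_of_lt_of_lt this (by omega) (by omega)
  have e5 : k₁ = k₁' := by omega
  rw [hc, hc', e4, e5]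

end three

end Cfsg.Agent.Lib.Helper8.Slc
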