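import Mathlib
import Cfsg.Prelude.Def_GeometricClasses
import Cfsg.Agent.Lib.Helper8.Ext11
import Cfsg.Agent.Lib.Helper5.SpCentres
import Cfsg.Agent.Lib.Helper5.SympTv

set_option autoImplicit false

/-! similitudes of the symplectic form; `yel` is symplectic -/

namespace Cfsg.Agent.Lib.Helper8.Ext

open scoped MatrixGroups Matrix
open Subgroup Cfsg
open Cfsg.Agent.Lib.Helper5.SympTv Cfsg.Agent.Lib.Helper5.SpCentres

variable {F : Type*} [Field F] {m : ℕ}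

/-- similitude with multiplier `c` -/
def Sim (c : F) (g : GL (Fin m ⊕ Fin m) F) : Prop :=
  ∀ u v, sympForm m F ((g : Matrix (Fin m ⊕ Fin m) (Fin m ⊕ Fin m) F) *ᵥ u)
    ((g : Matrix (Fin m ⊕ Fin m) (Fin m ⊕ Fin m) F) *ᵥ v) = c * sympForm m F u v

theorem Sim.mul {a b : F} {g h : GL (Fin m ⊕ Fin m) F} (h1 : Sim a g) (h3 : Sim b h) :
    Sim (a * b) (g * h) := by
  intro u v
  rw [Units.val_mul, ← Matrix.mulVec_mulVec, ← Matrix.mulVec_mulVec, h1, h3, mul_assoc]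

theorem Sim.inv {c : F} {g : GL (Fin m ⊕ Fin m) F} (h1 : Sim c g) (hc : c ≠ 0) : Sim c⁻¹ g⁻¹ := by
  intro u v
  have := h1 (((g⁻¹ : GL (Fin m ⊕ Fin m) F) : Matrix (Fin m ⊕ Fin m) (Fin m ⊕ Fin m) F) *ᵥ u)
    (((g⁻¹ : GL (Fin m ⊕ Fin m) F) : Matrix (Fin m ⊕ Fin m) (Fin m ⊕ Fin m) F) *ᵥ v)
  rw [Matrix.mulVec_mulVec, Matrix.mulVec_mulVec, ← Units.val_mul, mul_inv_cancel, Units.val_one,
    Matrix.one_mulVec, Matrix.one_mulVec] at this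
  rw [this, ← mul_assoc, inv_mul_cancel₀ hc, one_mul]

theorem sim_one_iff (g : GL (Fin m ⊕ Fin m) F) : Sim 1 g ↔ g ∈ spGL m F := by
  rw [mem_spGL_iff]
  unfold Sim
  simp only [one_mul]

theorem UU_sim (h2 : (2 : F) ≠ 0) (τ : GL (Fin m ⊕ Fin m) F) (hτ : τ * τ = -1)
    (hτS : τ ∈ spGL m F) : Sim 2 (UU h2 τ hτ) := by
  intro u v
  have hS := (mem_spGL_iff m τ).mp hτS
  have hττ : ∀ w : Fin m ⊕ Fin m → F, (τ : Matrix (Fin m ⊕ Fin m) (Fin m ⊕ Fin m) F) *ᵥ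
      ((τ : Matrix (Fin m ⊕ Fin m) (Fin m ⊕ Fin m) F) *ᵥ w) = (-1 : F) • w := by
    intro w
    rw [Matrix.mulVec_mulVec, ← Units.val_mul, hτ, Units.val_neg, Units.val_one, Matrix.neg_mulVec,
      Matrix.one_mulVec, neg_smul, one_smul]
  have h1 : sympForm m F u ((τ : Matrix (Fin m ⊕ Fin m) (Fin m ⊕ Fin m) F) *ᵥ v) =
      - sympForm m F ((τ : Matrix (Fin m ⊕ Fin m) (Fin m ⊕ Fin m) F) *ᵥ u) v := by
    rw [← hS u, hττ, sympForm_smul_right]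
    ring
  rw [UU_val, Matrix.add_mulVec, Matrix.add_mulVec, Matrix.one_mulVec, Matrix.one_mulVec,
    sympForm_add_left, sympForm_add_right, sympForm_add_right, hS, h1]
  ring

theorem yel_mem_spGL (h2 : (2 : F) ≠ 0) {R : Subgroup (GL (Fin m ⊕ Fin m) F)}
    (hR : R ≤ spGL m F) {t0 t1 t2 t3 t4 : GL (Fin m ⊕ Fin m) F} (hC : Cliff R t0 t1 t2 t3 t4) :
    yel h2 hC ∈ spGL m F := by
  rw [← sim_one_iff]
  have h01 := UU_sim h2 (t0 * t1) (sq_of_ac_inv hC.a01 hC.s0 hC.s1) (hR (mul_mem hC.m0 hC.m1))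
  have h12 := UU_sim h2 (t1 * t2) (sq_of_ac_inv hC.a12 hC.s1 hC.s2) (hR (mul_mem hC.m1 hC.m2))
  have h23 := UU_sim h2 (t2 * t3) (sq_of_ac_inv hC.a23 hC.s2 hC.s3) (hR (mul_mem hC.m2 hC.m3))
  have h34 := UU_sim h2 (t3 * t4) (sq_of_ac_inv hC.a34 hC.s3 hC.s4) (hR (mul_mem hC.m3 hC.m4))
  have := h01.mul ((h12.inv h2).mul (h23.mul (h34.inv h2)))
  have hc : (2 : F) * (2⁻¹ * (2 * 2⁻¹)) = 1 := by
    rw [mul_inv_cancel₀ h2, mul_one, mul_inv_cancel₀ h2]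
  rw [hc] at this
  exact this

end Cfsg.Agent.Lib.Helper8.Ext
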