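import Mathlib
import Cfsg.Prelude.Def_GeometricClasses
import Cfsg.Agent.Lib.Helper8.Ext12
import Cfsg.Agent.Lib.Helper5.SemiConj.Sp
import Cfsg.Agent.Lib.Helper5.SemiCount.SpChar

set_option autoImplicit false

/-! conjugacy in `spGL` through characteristic polynomials -/

namespace Cfsg.Agent.Lib.Helper8.Ext

open scoped MatrixGroups Matrix
open Subgroup Cfsg Polynomial
open Cfsg.Agent.Lib.Helper5.SympTv Cfsg.Agent.Lib.Helper5.SpCentres
  Cfsg.Agent.Lib.Helper5.SympBridge

section conj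
variable {F : Type*} [Field F] [Finite F] (p : ℕ) [Fact p.Prime] [CharP F p] (m : ℕ)

theorem toGL_injective : Function.Injective (toGL : Matrix.symplecticGroup (Fin m) F → GL (Fin m ⊕ Fin m) F) := by
  intro A B h
  apply Subtype.ext
  exact congrArg Units.val h

theorem toGL_mem (A : Matrix.symplecticGroup (Fin m) F) : toGL A ∈ spGL m F := by
  rw [mem_spGL_iff]
  exact (mem_symplectic_iff m _).mp A.2

/-- `p'`-elements of `spGL` with the same characteristic polynomial are conjugate in `spGL` -/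
theorem conj_spGL (x h : GL (Fin m ⊕ Fin m) F) (hx : x ∈ spGL m F) (hh : h ∈ spGL m F)
    (k : ℕ) (hk : k.Coprime p) (hxk : x ^ k = 1) (hhk : h ^ k = 1)
    (hc : (x : Matrix (Fin m ⊕ Fin m) (Fin m ⊕ Fin m) F).charpoly =
      (h : Matrix (Fin m ⊕ Fin m) (Fin m ⊕ Fin m) F).charpoly) :
    ∃ g ∈ spGL m F, g⁻¹ * x * g = h := by
  obtain ⟨A, hA⟩ : ∃ A : Matrix.symplecticGroup (Fin m) F, toGL A = x :=
    ⟨⟨x.1, (mem_symplectic_iff m _).mpr ((mem_spGL_iff m x).mp hx)⟩, Units.ext rfl⟩
  obtain ⟨B, hB⟩ : ∃ B : Matrix.symplecticGroup (Fin m) F, toGL B = h :=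
    ⟨⟨h.1, (mem_symplectic_iff m _).mpr ((mem_spGL_iff m h).mp hh)⟩, Units.ext rfl⟩
  have hAk : A ^ k = 1 := by
    apply toGL_injective m
    rw [map_pow, map_one, hA, hxk]
  have hBk : B ^ k = 1 := by
    apply toGL_injective m
    rw [map_pow, map_one, hB, hhk]
  have hoA : (orderOf A).Coprime p := Nat.Coprime.coprime_dvd_left (orderOf_dvd_of_pow_eq_one hAk) hk
  have hoB : (orderOf B).Coprime p := Nat.Coprime.coprime_dvd_left (orderOf_dvd_of_pow_eq_one hBk) hk
  have hc' : (A : Matrix (Fin m ⊕ Fin m) (Fin m ⊕ Fin m) F).charpoly =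
      (B : Matrix (Fin m ⊕ Fin m) (Fin m ⊕ Fin m) F).charpoly := by
    have h1 : (A : Matrix (Fin m ⊕ Fin m) (Fin m ⊕ Fin m) F) = (x : Matrix _ _ F) := by
      rw [← hA]; rfl
    have h3 : (B : Matrix (Fin m ⊕ Fin m) (Fin m ⊕ Fin m) F) = (h : Matrix _ _ F) := by
      rw [← hB]; rfl
    rw [h1, h3, hc]
  have hconj := Cfsg.Agent.Lib.Helper5.SemiConj.symp_conj_of_charpoly_eq p m A B hoA hoB hc'
  rw [isConj_iff] at hconj
  obtain ⟨c, hc⟩ := hconj
  refine ⟨(toGL c)⁻¹, inv_mem (toGL_mem m c), ?_⟩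
  rw [inv_inv, ← hA, ← hB, ← map_inv, ← map_mul, ← map_mul, hc]

end conj

section zsq
variable {F : Type*} [Field F] {m : ℕ}

theorem sq_eq_one_of_scalar (hm : 0 < m) (x : GL (Fin m ⊕ Fin m) F) (hx : x ∈ spGL m F) (z : F)
    (hz : (x : Matrix (Fin m ⊕ Fin m) (Fin m ⊕ Fin m) F) = z • 1) : z * z = 1 := by
  obtain ⟨u, hu⟩ : ∃ u : Fin m ⊕ Fin m → F, u ≠ 0 := by
    refine ⟨Pi.single (Sum.inl ⟨0, hm⟩) 1, ?_⟩
    intro h
    have := congrFun h (Sum.inl ⟨0, hm⟩)
    simp at this
  obtain ⟨v, hv⟩ : ∃ v, sympForm m F u v ≠ 0 := by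
    by_contra hno
    push Not at hno
    exact hu (eq_zero_of_sympForm_right m u hno)
  have := (mem_spGL_iff m x).mp hx u v
  rw [hz, Matrix.smul_mulVec, Matrix.smul_mulVec, Matrix.one_mulVec, Matrix.one_mulVec,
    sympForm_smul_left, sympForm_smul_right, ← mul_assoc] at this
  have h3 : (z * z - 1) * sympForm m F u v = 0 := by linear_combination this
  rcases mul_eq_zero.mp h3 with h | h
  · linear_combination h
  · exact absurd h hv

theorem pm_one_of_sq {z : F} (hz : z * z = 1) : z = 1 ∨ z = -1 := by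
  have : (z - 1) * (z + 1) = 0 := by linear_combination hz
  rcases mul_eq_zero.mp this with h | h
  · left; linear_combination h
  · right; linear_combination h

end zsq

section cp5
variable {F : Type*} [Field F] [Fintype F] {ι : Type} [Fintype ι] [DecidableEq ι]

theorem charpoly_order_five (p : ℕ) [hp : Fact p.Prime] (hF : Fintype.card F = p)
    (hord : orderOf (p : ZMod 5) = 4) (hι : Fintype.card ι = 4)
    (M : Matrix ι ι F) (hM5 : M ^ 5 = 1) (hM1 : M ≠ 1) : M.charpoly = cyclotomic 5 F := by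
  haveI : Fact (Nat.Prime 5) := ⟨by norm_num⟩
  have hp5 : p ≠ 5 := by
    rintro rfl
    have : ((5 : ℕ) : ZMod 5) = 0 := by rfl
    rw [this, orderOf_eq_zero_iff.mpr] at hord
    · omega
    · intro h
      obtain ⟨n, hn, hn'⟩ := h.exists_pow_eq_one
      rw [zero_pow hn.ne'] at hn'
      exact zero_ne_one hn'
  have hcop : p.Coprime 5 := (Nat.coprime_primes hp.out (by norm_num)).mpr hp5
  have hirr : Irreducible (cyclotomic 5 F) := by
    apply Polynomial.irreducible_of_dvd_cyclotomic_of_natDegree (p := p) (f := 1) (n := 5)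
      (by rw [hF, pow_one]) hcop dvd_rfl
    rw [natDegree_cyclotomic, ← orderOf_units, ZMod.coe_unitOfCoprime]
    simp only [pow_one]
    rw [hord]
    rfl
  have hmul : cyclotomic 5 F * (X - 1) = X ^ 5 - 1 := cyclotomic_prime_mul_X_sub_one F 5
  have hev : aeval M (cyclotomic 5 F) * (M - 1) = 0 := by
    have := congrArg (aeval M) hmul
    rw [map_mul, map_sub, map_sub, map_pow, aeval_X, map_one, hM5, sub_self] at this
    exact this
  have hdvd : cyclotomic 5 F ∣ M.charpoly := by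
    rcases hirr.isCoprime_or_dvd M.charpoly with hco | hd
    · exfalso
      obtain ⟨a, b, hab⟩ := hco
      have := congrArg (aeval M) hab
      rw [map_add, map_mul, map_mul, Matrix.aeval_self_charpoly, mul_zero, add_zero, map_one] at this
      apply hM1
      have h3 : M - 1 = 0 := by
        calc M - 1 = (aeval M a * aeval M (cyclotomic 5 F)) * (M - 1) := by rw [this, one_mul]
          _ = 0 := by rw [mul_assoc, hev, mul_zero]
      exact sub_eq_zero.mp h3
    · exact hd
  apply Polynomial.eq_of_monic_of_dvd_of_natDegree_le (cyclotomic.monic 5 F) (Matrix.charpoly_monic M)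
    hdvd
  rw [Matrix.charpoly_natDegree_eq_dim, hι, natDegree_cyclotomic]
  decide

end cp5

end Cfsg.Agent.Lib.Helper8.Ext
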