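import Mathlib
import Cfsg.Prelude.Def_GeometricClasses
import Cfsg.Agent.Lib.Helper8.Slc2
import Cfsg.Agent.Lib.Helper2.SfrF
import Cfsg.Agent.Lib.Helper5.SemiConj.Sp

set_option autoImplicit false

/-! `p'`-elements of `GL_n(q)` with the same characteristic polynomial are conjugate under `SL_n(q)` -/

namespace Cfsg.Agent.Lib.Helper8.Slc

open scoped MatrixGroups Matrix
open Polynomial Module

variable {F : Type*} [Field F] [Fintype F] {ι : Type} [Fintype ι] [DecidableEq ι]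

theorem conj_SL [Nonempty ι] (x y : GL ι F) (k : ℕ) (hk : (k : F) ≠ 0) (hxk : x ^ k = 1)
    (hyk : y ^ k = 1)
    (hc : (x : Matrix ι ι F).charpoly = (y : Matrix ι ι F).charpoly) :
    ∃ g ∈ Cfsg.Geo.specialLinear ι F, g⁻¹ * x * g = y := by
  obtain ⟨T, hT⟩ : ∃ T : End F (ι → F), T = Matrix.toLin' (x : Matrix ι ι F) := ⟨_, rfl⟩
  obtain ⟨T', hT'⟩ : ∃ T' : End F (ι → F), T' = Matrix.toLin' (y : Matrix ι ι F) := ⟨_, rfl⟩
  have hss : T.IsSemisimple := by
    rw [hT]
    apply Cfsg.Agent.Lib.Helper5.SemiConj.isSemisimple_toLin'_of_pow_eq_one _ k hk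
    rw [← Units.val_pow_eq_pow_val, hxk, Units.val_one]
  have hss' : T'.IsSemisimple := by
    rw [hT']
    apply Cfsg.Agent.Lib.Helper5.SemiConj.isSemisimple_toLin'_of_pow_eq_one _ k hk
    rw [← Units.val_pow_eq_pow_val, hyk, Units.val_one]
  have hchar : LinearMap.charpoly T' = LinearMap.charpoly T := by
    rw [hT, hT', Matrix.charpoly_toLin', Matrix.charpoly_toLin', hc]
  obtain ⟨ψ, hψ⟩ := exists_conj T' T hss' hss hchar
  -- ψ (T' v) = T (ψ v)
  have hdet0 : LinearMap.det (ψ : (ι → F) →ₗ[F] (ι → F)) ≠ 0 := by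
    intro h
    have := LinearEquiv.isUnit_det' ψ
    rw [h] at this
    exact not_isUnit_zero this
  haveI : Nontrivial (ι → F) := inferInstance
  obtain ⟨h, hcomm, hdet⟩ := Cfsg.Agent.Lib.Helper2.Sfr.exists_cent_det T' hss'
    (LinearMap.det (ψ : (ι → F) →ₗ[F] (ι → F)))⁻¹
  obtain ⟨G, hG⟩ : ∃ G : Matrix ι ι F,
      G = LinearMap.toMatrix' ((ψ : (ι → F) →ₗ[F] (ι → F)) ∘ₗ h) := ⟨_, rfl⟩
  have hGdet : G.det = 1 := by
    rw [hG, LinearMap.det_toMatrix', LinearMap.det_comp, hdet, mul_inv_cancel₀ hdet0]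
  have hGx : (x : Matrix ι ι F) * G = G * (y : Matrix ι ι F) := by
    apply Matrix.toLin'.injective
    rw [Matrix.toLin'_mul, Matrix.toLin'_mul, hG, Matrix.toLin'_toMatrix', ← hT, ← hT']
    apply LinearMap.ext
    intro v
    have h1 : h (T' v) = T' (h v) := by
      have := congrArg (fun f : End F (ι → F) => f v) hcomm
      simpa [Module.End.mul_apply] using this
    simp only [LinearMap.comp_apply, LinearEquiv.coe_coe]
    rw [h1, hψ]
  obtain ⟨g, hg⟩ : ∃ g : GL ι F, (g : Matrix ι ι F) = G :=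
    ⟨Matrix.GeneralLinearGroup.mkOfDetNeZero G (by rw [hGdet]; exact one_ne_zero), rfl⟩
  refine ⟨g, ?_, ?_⟩
  · show g ∈ (Matrix.GeneralLinearGroup.det : GL ι F →* Fˣ).ker
    rw [MonoidHom.mem_ker]
    apply Units.ext
    rw [Matrix.GeneralLinearGroup.val_det_apply, hg, hGdet, Units.val_one]
  · rw [mul_assoc, inv_mul_eq_iff_eq_mul]
    apply Units.ext
    rw [Units.val_mul, Units.val_mul, hg, hGx]

end Cfsg.Agent.Lib.Helper8.Slc
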