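import Mathlib
import Cfsg.Prelude.Def_GeometricClasses
import Cfsg.Agent.Lib.Helper8.Exl4
import Cfsg.Agent.Lib.Helper8.Exl5
import Cfsg.Agent.Lib.Helper8.Slc3
import Cfsg.Agent.Lib.Helper8.Ext13
import Cfsg.Agent.Lib.Helper2.SubfB

set_option autoImplicit false

/-! S6000, the backward direction -/

namespace Cfsg.Agent.Lib.Helper8.Ext

open scoped MatrixGroups Matrix
open Subgroup Polynomial
open Cfsg.Agent.Lib.Helper8.Slc

section gen
variable {ι : Type} [Fintype ι] [DecidableEq ι] {F : Type*} [Field F]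

theorem det_of_mem_SL {x : GL ι F} (hx : x ∈ Cfsg.Geo.specialLinear ι F) :
    (x : Matrix ι ι F).det = 1 := by
  have h1 : Matrix.GeneralLinearGroup.det x = 1 := MonoidHom.mem_ker.mp hx
  have := congrArg Units.val h1
  rwa [Matrix.GeneralLinearGroup.val_det_apply, Units.val_one] at this

theorem scalar_pow_card {x : GL ι F} (hx : x ∈ Cfsg.Geo.specialLinear ι F) (r : ℕ) (z : F)
    (hz : ((x ^ r : GL ι F) : Matrix ι ι F) = z • 1) : z ^ Fintype.card ι = 1 := by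
  have h1 := congrArg Matrix.det hz
  rw [Units.val_pow_eq_pow_val, Matrix.det_pow, det_of_mem_SL hx, one_pow, Matrix.det_smul,
    Matrix.det_one, mul_one] at h1
  exact h1.symm

theorem sc_inv_mul (s : F) (hs : s ≠ 0) :
    (sc s⁻¹ (inv_ne_zero hs) : GL ι F) * sc s hs = 1 := by
  apply Units.ext
  rw [Units.val_mul, sc_val, sc_val, Matrix.smul_mul, Matrix.one_mul, smul_smul,
    inv_mul_cancel₀ hs, one_smul, Units.val_one]

theorem isScal_of_sc_mul {s : F} {hs : s ≠ 0} {x : GL ι F} (h : IsScal (sc s hs * x)) : IsScal x := by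
  have : x = sc s⁻¹ (inv_ne_zero hs) * (sc s hs * x) := by
    rw [← mul_assoc, sc_inv_mul, one_mul]
  rw [this]
  exact isScal_mul (sc_isScal _ _) h

theorem scale_pow (x : GL ι F) (s : F) (hs : s ≠ 0) (z : F) (r : ℕ)
    (hz : ((x ^ r : GL ι F) : Matrix ι ι F) = z • 1) (hsz : s ^ r * z = 1) :
    (sc s hs * x) ^ r = 1 := by
  have hcomm : Commute (sc s hs : GL ι F) x := sc_comm s hs x
  rw [hcomm.mul_pow]
  apply Units.ext
  rw [Units.val_mul, sc_pow, sc_val, hz, Matrix.smul_mul, Matrix.one_mul, smul_smul, hsz, one_smul,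
    Units.val_one]

theorem back_core [Fintype F] [Nonempty ι] (R : Subgroup (GL ι F)) (x x' : GL ι F) (s : F) (hs : s ≠ 0)
    (hx : x' = sc s hs * x) (y : GL ι F) (hyN : y ∈ normalizer (R : Set (GL ι F)))
    (k : ℕ) (hk : (k : F) ≠ 0) (hxk : x' ^ k = 1) (hyk : y ^ k = 1)
    (hch : (x' : Matrix ι ι F).charpoly = (y : Matrix ι ι F).charpoly) :
    ∃ g ∈ Cfsg.Geo.specialLinear ι F, g⁻¹ * x * g ∈ Cfsg.Geo.subgroupNormalizer R := by
  obtain ⟨g, hg, hgx⟩ := conj_SL x' y k hk hxk hyk hch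
  refine ⟨g, hg, ?_⟩
  have hx2 : x = sc s⁻¹ (inv_ne_zero hs) * x' := by
    rw [hx, ← mul_assoc, sc_inv_mul, one_mul]
  have : g⁻¹ * x * g = sc s⁻¹ (inv_ne_zero hs) * y := by
    rw [hx2, ← hgx, ← mul_assoc g⁻¹, ← sc_comm _ _ g⁻¹]
    simp only [mul_assoc]
  rw [this]
  show _ ∈ normalizer (R : Set (GL ι F))
  exact mul_mem (isScal_mem_normalizer R (sc_isScal _ _)) hyN

end gen

section back
variable {F : Type*} [Field F] [Fintype F] {p : ℕ} [Fact p.Prime] [CharP F p]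
  (hF : Fintype.card F = p) (hp4 : p % 4 = 1)
  {R : Subgroup (GL (Fin 4) F)} [Finite R] (hX : XS R) {ζ a b a' b' : GL (Fin 4) F}
  (h : QQ R ζ a b a' b')

include hp4 in
theorem five_le_p : 5 ≤ p := by
  have := (Fact.out : p.Prime).two_le
  omega

include hp4 in
theorem natCast_ne_zero_of_lt (n : ℕ) (hn0 : 0 < n) (hn : n < 5) : ((n : ℕ) : F) ≠ 0 := by
  intro h0
  rw [CharP.cast_eq_zero_iff F p] at h0
  have := Nat.le_of_dvd hn0 h0
  have := five_le_p (p := p) hp4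
  omega

include hF hp4 hX h in
theorem back2 : ∀ x ∈ Cfsg.Geo.specialLinear (Fin 4) F,
    (∃ z : F, ((x ^ 2 : GL (Fin 4) F) : Matrix (Fin 4) (Fin 4) F) =
      z • (1 : Matrix (Fin 4) (Fin 4) F)) →
    (∀ z : F, (x : Matrix (Fin 4) (Fin 4) F) ≠ z • (1 : Matrix (Fin 4) (Fin 4) F)) →
    ∃ g ∈ Cfsg.Geo.specialLinear (Fin 4) F, g⁻¹ * x * g ∈ Cfsg.Geo.subgroupNormalizer R := by
  intro x hx ⟨z, hz⟩ hns
  have hp5 : 5 ≤ p := five_le_p hp4
  have h2 : (2 : F) ≠ 0 := by exact_mod_cast natCast_ne_zero_of_lt (F := F) hp4 2 (by norm_num) (by norm_num)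
  have hι : Fintype.card (Fin 4) = 4 := by simp
  have hιF : ((Fintype.card (Fin 4) : ℕ) : F) = 4 := by simp
  have hdet := det_of_mem_SL hx
  have hz4 : z ^ 4 = 1 := by
    have := scalar_pow_card hx 2 z hz
    simpa using this
  have hz0 : z ≠ 0 := by
    rintro rfl
    simp at hz4
  have hv : padicValNat 2 4 ≤ padicValNat 2 (Fintype.card F - 1) := by
    have h4 : (4 : ℕ) = 2 ^ 2 := by norm_num
    rw [h4, padicValNat.prime_pow]
    apply (padicValNat_dvd_iff_le (by rw [hF]; omega)).mp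
    rw [hF]
    exact Nat.dvd_of_mod_eq_zero (by omega)
  have hy : Matrix.toLin' (x : Matrix (Fin 4) (Fin 4) F) ^ 2 = z • 1 := by
    rw [pow_two, Module.End.mul_eq_comp, ← Matrix.toLin'_mul, ← pow_two, ← Units.val_pow_eq_pow_val,
      hz, map_smul, Matrix.toLin'_one]
    rfl
  obtain ⟨c, hc⟩ := Cfsg.Agent.Lib.Helper2.Subf.sq_of_cond (n := 4) (by norm_num)
    (by rw [hF]; exact Nat.dvd_of_mod_eq_zero (by omega)) h2 hv
    (Matrix.toLin' (x : Matrix (Fin 4) (Fin 4) F)) z hy (by rw [LinearMap.det_toLin', hdet])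
  have hc0 : c ≠ 0 := by
    rintro rfl
    apply hz0
    rw [← hc, mul_zero]
  obtain ⟨x', hx'⟩ : ∃ x', x' = sc c⁻¹ (inv_ne_zero hc0) * x := ⟨_, rfl⟩
  have hx'2 : x' ^ 2 = 1 := by
    rw [hx']
    apply scale_pow x c⁻¹ _ z 2 hz
    rw [← hc]
    field_simp
  have hx'ns : ¬ IsScal x' := by
    intro hs
    rw [hx'] at hs
    obtain ⟨d, hd⟩ := isScal_of_sc_mul hs
    exact hns d hd
  have hM' : (x' : Matrix (Fin 4) (Fin 4) F) * (x' : Matrix (Fin 4) (Fin 4) F) = 1 := by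
    rw [← Units.val_mul, ← pow_two, hx'2, Units.val_one]
  obtain ⟨k₁, k₂, hk, hch, h0, h0', htr⟩ := inv_type h2 hι _ hM'
  have hk1 : k₁ ≠ 0 := by
    intro hk0
    apply hx'ns
    exact ⟨-1, by rw [h0 hk0]; simp⟩
  have hk2 : k₂ ≠ 0 := by
    intro hk0
    apply hx'ns
    exact ⟨1, by rw [h0' hk0]; simp⟩
  have hsel : ∃ y ∈ normalizer (R : Set (GL (Fin 4) F)), y ^ 2 = 1 ∧
      Matrix.trace (y : Matrix (Fin 4) (Fin 4) F) =
        Matrix.trace (x' : Matrix (Fin 4) (Fin 4) F) := by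
    have hk1' : k₁ = 1 ∨ k₁ = 2 ∨ k₁ = 3 := by omega
    rcases hk1' with rfl | rfl | rfl
    · obtain rfl : k₂ = 3 := by omega
      obtain ⟨y, hyN, hy2, hyt⟩ := exists_inv_trm2 h2 hX h hιF
      exact ⟨y, hyN, hy2, by rw [hyt, htr]; norm_num⟩
    · obtain rfl : k₂ = 2 := by omega
      obtain ⟨y, hyN, hy2, hyt⟩ := exists_inv_tr0 h2 hX h
      exact ⟨y, hyN, hy2, by rw [hyt, htr]; norm_num⟩
    · obtain rfl : k₂ = 1 := by omega
      obtain ⟨y, hyN, hy2, hyt⟩ := exists_inv_tr2 h2 hX h hιF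
      exact ⟨y, hyN, hy2, by rw [hyt, htr]; norm_num⟩
  obtain ⟨y, hyN, hy2, hyt⟩ := hsel
  have hMy : (y : Matrix (Fin 4) (Fin 4) F) * (y : Matrix (Fin 4) (Fin 4) F) = 1 := by
    rw [← Units.val_mul, ← pow_two, hy2, Units.val_one]
  have hch' := inv_same p hp5 h2 hι _ _ hM' hMy hyt.symm
  exact back_core R x x' c⁻¹ (inv_ne_zero hc0) hx' y hyN 2 (by exact_mod_cast h2) hx'2 hy2 hch'

include hF hp4 hX h in
theorem back3 (hp3 : p % 3 = 2) : ∀ x ∈ Cfsg.Geo.specialLinear (Fin 4) F,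
    (∃ z : F, ((x ^ 3 : GL (Fin 4) F) : Matrix (Fin 4) (Fin 4) F) =
      z • (1 : Matrix (Fin 4) (Fin 4) F)) →
    (∀ z : F, (x : Matrix (Fin 4) (Fin 4) F) ≠ z • (1 : Matrix (Fin 4) (Fin 4) F)) →
    ∃ g ∈ Cfsg.Geo.specialLinear (Fin 4) F, g⁻¹ * x * g ∈ Cfsg.Geo.subgroupNormalizer R := by
  intro x hx ⟨z, hz⟩ hns
  have hp5 : 5 ≤ p := five_le_p hp4
  have h2 : (2 : F) ≠ 0 := by exact_mod_cast natCast_ne_zero_of_lt (F := F) hp4 2 (by norm_num) (by norm_num)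
  have h3 : (3 : F) ≠ 0 := by exact_mod_cast natCast_ne_zero_of_lt (F := F) hp4 3 (by norm_num) (by norm_num)
  have hι : Fintype.card (Fin 4) = 4 := by simp
  have hιF : ((Fintype.card (Fin 4) : ℕ) : F) = 4 := by simp
  have hq : Irreducible (q3 F) := q3_irreducible h3 (by rw [hF]; exact hp3)
  have hz4 : z ^ 4 = 1 := by
    have := scalar_pow_card hx 3 z hz
    simpa using this
  have hz0 : z ≠ 0 := by
    rintro rfl
    simp at hz4
  obtain ⟨x', hx'⟩ : ∃ x', x' = sc z hz0 * x := ⟨_, rfl⟩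
  have hx'3 : x' ^ 3 = 1 := by
    rw [hx']
    apply scale_pow x z _ z 3 hz
    rw [← hz4]
    ring
  have hx'ns : ¬ IsScal x' := by
    intro hs
    rw [hx'] at hs
    obtain ⟨d, hd⟩ := isScal_of_sc_mul hs
    exact hns d hd
  have hM' : (x' : Matrix (Fin 4) (Fin 4) F) * (x' : Matrix (Fin 4) (Fin 4) F) *
      (x' : Matrix (Fin 4) (Fin 4) F) = 1 := by
    rw [← pow_three', ← Units.val_pow_eq_pow_val, hx'3, Units.val_one]
  obtain ⟨k₁, k₂, hk, hch, h0, htr⟩ := ord3_type hι hq _ hM'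
  have hk2 : k₂ ≠ 0 := by
    intro hk0
    apply hx'ns
    exact ⟨1, by rw [h0 hk0]; simp⟩
  have hsel : ∃ y ∈ normalizer (R : Set (GL (Fin 4) F)), y ^ 3 = 1 ∧
      Matrix.trace (y : Matrix (Fin 4) (Fin 4) F) =
        Matrix.trace (x' : Matrix (Fin 4) (Fin 4) F) := by
    have hk2' : k₂ = 1 ∨ k₂ = 2 := by omega
    rcases hk2' with rfl | rfl
    · obtain rfl : k₁ = 2 := by omega
      obtain ⟨y, hyN, hy3, hyt⟩ := exists_ord3_tr1 h2 hX h hιF
      exact ⟨y, hyN, hy3, by rw [hyt, htr]; norm_num⟩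
    · obtain rfl : k₁ = 0 := by omega
      obtain ⟨y, hyN, hy3, hyt⟩ := exists_ord3_trm2 h2 hX h hιF
      exact ⟨y, hyN, hy3, by rw [hyt, htr]; norm_num⟩
  obtain ⟨y, hyN, hy3, hyt⟩ := hsel
  have hMy : (y : Matrix (Fin 4) (Fin 4) F) * (y : Matrix (Fin 4) (Fin 4) F) *
      (y : Matrix (Fin 4) (Fin 4) F) = 1 := by
    rw [← pow_three', ← Units.val_pow_eq_pow_val, hy3, Units.val_one]
  have hch' := ord3_same p hp5 h3 hι hq _ _ hM' hMy hyt.symm
  exact back_core R x x' z hz0 hx' y hyN 3 (by exact_mod_cast h3) hx'3 hy3 hch'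

include hF hp4 hX h in
theorem back5 (hord : orderOf (p : ZMod 5) = 4) : ∀ x ∈ Cfsg.Geo.specialLinear (Fin 4) F,
    (∃ z : F, ((x ^ 5 : GL (Fin 4) F) : Matrix (Fin 4) (Fin 4) F) =
      z • (1 : Matrix (Fin 4) (Fin 4) F)) →
    (∀ z : F, (x : Matrix (Fin 4) (Fin 4) F) ≠ z • (1 : Matrix (Fin 4) (Fin 4) F)) →
    ∃ g ∈ Cfsg.Geo.specialLinear (Fin 4) F, g⁻¹ * x * g ∈ Cfsg.Geo.subgroupNormalizer R := by
  intro x hx ⟨z, hz⟩ hns
  have h2 : (2 : F) ≠ 0 := by exact_mod_cast natCast_ne_zero_of_lt (F := F) hp4 2 (by norm_num) (by norm_num)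
  have hι : Fintype.card (Fin 4) = 4 := by simp
  have hp5 : p ≠ 5 := by
    rintro rfl
    have : ((5 : ℕ) : ZMod 5) = 0 := by rfl
    rw [this, orderOf_eq_zero_iff.mpr] at hord
    · omega
    · intro h
      obtain ⟨n, hn, hn'⟩ := h.exists_pow_eq_one
      rw [zero_pow hn.ne'] at hn'
      exact zero_ne_one hn'
  have h5 : ((5 : ℕ) : F) ≠ 0 := by
    intro h0
    rw [CharP.cast_eq_zero_iff F p] at h0
    exact hp5 ((Nat.prime_dvd_prime_iff_eq (Fact.out : p.Prime) (by norm_num)).mp h0)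
  have hz4 : z ^ 4 = 1 := by
    have := scalar_pow_card hx 5 z hz
    simpa using this
  have hz0 : z ≠ 0 := by
    rintro rfl
    simp at hz4
  obtain ⟨x', hx'⟩ : ∃ x', x' = sc (z ^ 3) (pow_ne_zero 3 hz0) * x := ⟨_, rfl⟩
  have hx'5 : x' ^ 5 = 1 := by
    rw [hx']
    apply scale_pow x (z ^ 3) _ z 5 hz
    have : (z ^ 3) ^ 5 * z = (z ^ 4) ^ 4 := by ring
    rw [this, hz4, one_pow]
  have hx'ns : ¬ IsScal x' := by
    intro hs
    rw [hx'] at hs
    obtain ⟨d, hd⟩ := isScal_of_sc_mul hs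
    exact hns d hd
  have hC := h.cliff
  obtain ⟨k, hk5, hk1⟩ := exists_order_five (yel h2 hC) (isOfFinOrder_of_finite _)
    (yel_five R h2 _ _ _ _ _ hC)
  obtain ⟨y0, hy0⟩ : ∃ y0, y0 = (yel h2 hC) ^ k := ⟨_, rfl⟩
  rw [← hy0] at hk5 hk1
  have hy0N : y0 ∈ normalizer (R : Set (GL (Fin 4) F)) :=
    hy0 ▸ pow_mem (yel_mem_normalizer R h2 hX _ _ _ _ _ hC) k
  have hcy : (y0 : Matrix (Fin 4) (Fin 4) F).charpoly = cyclotomic 5 F := by
    apply charpoly_order_five p hF hord hι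
    · rw [← Units.val_pow_eq_pow_val, hk5, Units.val_one]
    · intro h
      apply hk1
      exact Units.ext h
  have hcx : (x' : Matrix (Fin 4) (Fin 4) F).charpoly = cyclotomic 5 F := by
    apply charpoly_order_five p hF hord hι
    · rw [← Units.val_pow_eq_pow_val, hx'5, Units.val_one]
    · intro h
      apply hx'ns
      exact ⟨1, by rw [h]; simp⟩
  exact back_core R x x' (z ^ 3) (pow_ne_zero 3 hz0) hx' y0 hy0N 5 h5 hx'5 hk5 (hcx.trans hcy.symm)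

end back

end Cfsg.Agent.Lib.Helper8.Ext
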