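import Mathlib
import Cfsg.Prelude.Def_GeometricClasses
import Cfsg.Agent.Lib.Helper8.Ext13

set_option autoImplicit false

/-! characteristic polynomial of symplectic elements with `x² = ±1` -/

namespace Cfsg.Agent.Lib.Helper8.Ext

open scoped MatrixGroups Matrix
open Subgroup Cfsg Polynomial
open Cfsg.Agent.Lib.Helper5.SympTv Cfsg.Agent.Lib.Helper5.SpCentres
  Cfsg.Agent.Lib.Helper5.SympBridge

section core
variable {F : Type*} [Field F] {ι : Type} [Fintype ι] [DecidableEq ι]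

theorem charpoly_sq_core [Nonempty ι] (hι : Fintype.card ι = 4) (M : Matrix ι ι F) (c : F)
    (hMM : M * M = c • (1 : Matrix ι ι F)) (hcc : c * c = 1) (hns : ∀ z : F, M ≠ z • 1)
    (h0 : M.charpoly.coeff 0 = 1) (h13 : M.charpoly.coeff 1 = M.charpoly.coeff 3)
    (h3 : (1 + c) * M.charpoly.coeff 3 = 0 → M.charpoly.coeff 3 = 0) :
    M.charpoly = (X ^ 2 - C c) ^ 2 := by
  obtain ⟨χ, hχdef⟩ : ∃ χ, χ = M.charpoly := ⟨_, rfl⟩
  rw [← hχdef] at h0 h13 h3 ⊢
  have hdeg : χ.natDegree = 4 := by rw [hχdef, Matrix.charpoly_natDegree_eq_dim, hι]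
  have h4 : χ.coeff 4 = 1 := by
    have := (hχdef ▸ Matrix.charpoly_monic M : χ.Monic).coeff_natDegree
    rwa [hdeg] at this
  have hsum : χ = C (χ.coeff 0) + C (χ.coeff 1) * X + C (χ.coeff 2) * X ^ 2 + C (χ.coeff 3) * X ^ 3
      + C (χ.coeff 4) * X ^ 4 := by
    conv_lhs => rw [as_sum_range' χ 5 (by omega)]
    simp only [Finset.sum_range_succ, Finset.sum_range_zero, zero_add, ← C_mul_X_pow_eq_monomial,
      pow_zero, mul_one, pow_one]
  have hCH : aeval M χ = 0 := by rw [hχdef]; exact Matrix.aeval_self_charpoly M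
  have hM2 : M ^ 2 = c • (1 : Matrix ι ι F) := by rw [pow_two, hMM]
  have hM3 : M ^ 3 = c • M := by
    rw [pow_succ, hM2, smul_mul_assoc, one_mul]
  have hM4 : M ^ 4 = (1 : Matrix ι ι F) := by
    have : M ^ 4 = M ^ 2 * M ^ 2 := by rw [← pow_add]
    rw [this, hM2, smul_mul_smul_comm, hcc, one_mul, one_smul]
  rw [hsum] at hCH
  simp only [map_add, map_mul, map_pow, aeval_C, aeval_X, Algebra.algebraMap_eq_smul_one,
    smul_mul_assoc, one_mul, hM2, hM3, hM4, h4, h0, h13, one_smul, smul_smul] at hCH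
  have hlin : ((1 + c) * χ.coeff 3) • M + (2 + χ.coeff 2 * c) • (1 : Matrix ι ι F) = 0 := by
    rw [← hCH]
    module
  have hα : (1 + c) * χ.coeff 3 = 0 := by
    by_contra hα
    apply hns (-(((1 + c) * χ.coeff 3)⁻¹ * (2 + χ.coeff 2 * c)))
    calc M = ((1 + c) * χ.coeff 3)⁻¹ • (((1 + c) * χ.coeff 3) • M) := by
          rw [smul_smul, inv_mul_cancel₀ hα, one_smul]
      _ = ((1 + c) * χ.coeff 3)⁻¹ • (-((2 + χ.coeff 2 * c) • (1 : Matrix ι ι F))) := by
          rw [eq_neg_of_add_eq_zero_left hlin]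
      _ = _ := by rw [smul_neg, smul_smul, neg_smul]
  have ha3 := h3 hα
  rw [hα, zero_smul, zero_add] at hlin
  have hβ : 2 + χ.coeff 2 * c = 0 := by
    obtain ⟨i⟩ := (inferInstance : Nonempty ι)
    have := congrFun (congrFun hlin i) i
    simpa using this
  have ha2 : χ.coeff 2 = -2 * c := by
    have : χ.coeff 2 * (c * c) = -2 * c := by linear_combination c * hβ
    rwa [hcc, mul_one] at this
  rw [hsum, h0, h13, ha3, ha2, h4]
  have hC : (C c : F[X]) * C c = 1 := by rw [← C_mul, hcc, C_1]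
  simp only [map_mul, map_neg, map_zero, map_one, zero_mul, add_zero, one_mul]
  have h2C : (C (2 : F) : F[X]) = 2 := map_ofNat C 2
  rw [h2C]
  linear_combination -hC

end core

section symp
variable {F : Type*} [Field F]

theorem charpoly_sq (h2 : (2 : F) ≠ 0) (M : Matrix (Fin 2 ⊕ Fin 2) (Fin 2 ⊕ Fin 2) F)
    (hM : M ∈ Matrix.symplecticGroup (Fin 2) F) (c : F) (hc : c = 1 ∨ c = -1)
    (hMM : M * M = c • (1 : Matrix (Fin 2 ⊕ Fin 2) (Fin 2 ⊕ Fin 2) F)) (hns : ∀ z : F, M ≠ z • 1) :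
    M.charpoly = (X ^ 2 - C c) ^ 2 := by
  have hι : Fintype.card (Fin 2 ⊕ Fin 2) = 4 := by simp
  have hcc : c * c = 1 := by rcases hc with rfl | rfl <;> simp
  have hdeg : M.charpoly.natDegree = 4 := by rw [Matrix.charpoly_natDegree_eq_dim, hι]
  have h4 : M.charpoly.coeff 4 = 1 := by
    have := (Matrix.charpoly_monic M).coeff_natDegree
    rwa [hdeg] at this
  have h0 : M.charpoly.coeff 0 = 1 := by
    rw [Cfsg.Agent.Lib.Helper5.SemiCount.symp_charpoly_coeff_symm 2 M hM 0 (by norm_num)]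
    exact h4
  have h13 : M.charpoly.coeff 1 = M.charpoly.coeff 3 :=
    Cfsg.Agent.Lib.Helper5.SemiCount.symp_charpoly_coeff_symm 2 M hM 1 (by norm_num)
  apply charpoly_sq_core hι M c hMM hcc hns h0 h13
  intro h
  rcases hc with rfl | rfl
  · have : (2 : F) * M.charpoly.coeff 3 = 0 := by linear_combination h
    exact (mul_eq_zero.mp this).resolve_left h2
  · -- trace argument
    have htr : Matrix.trace M = -M.charpoly.coeff 3 := by
      rw [Matrix.trace_eq_neg_charpoly_coeff, hι]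
    have hinv : M⁻¹ = -M := by
      apply Matrix.inv_eq_right_inv
      rw [mul_neg, hMM]
      simp
    have htr' : Matrix.trace M⁻¹ = -M.charpoly.coeff 3 := by
      rw [Matrix.trace_eq_neg_charpoly_coeff, hι,
        Cfsg.Agent.Lib.Helper5.SemiCount.symp_charpoly_inv 2 M hM]
    rw [hinv, Matrix.trace_neg, htr] at htr'
    have : (2 : F) * M.charpoly.coeff 3 = 0 := by linear_combination htr'
    exact (mul_eq_zero.mp this).resolve_left h2

end symp

end Cfsg.Agent.Lib.Helper8.Ext
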