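import Mathlib
import Cfsg.Prelude.Def_GeometricClasses
import Cfsg.Agent.Lib.Helper8.Ext14

set_option autoImplicit false

/-! S6002, the direction "every class meets the normaliser" -/

namespace Cfsg.Agent.Lib.Helper8.Ext

open scoped MatrixGroups Matrix
open Subgroup Cfsg Polynomial
open Cfsg.Agent.Lib.Helper5.SympTv Cfsg.Agent.Lib.Helper5.SpCentres
  Cfsg.Agent.Lib.Helper5.SympBridge

variable {F : Type*} [Field F]

theorem two_ne_zero_of_odd (p : ℕ) [hp : Fact p.Prime] [CharP F p] (hodd : Odd p) : (2 : F) ≠ 0 := by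
  intro h
  have h1 : ((2 : ℕ) : F) = 0 := by exact_mod_cast h
  have h3 := (CharP.cast_eq_zero_iff F p 2).mp h1
  have h4 := (Nat.prime_dvd_prime_iff_eq hp.out Nat.prime_two).mp h3
  rw [h4] at hodd
  exact absurd hodd (by decide)

theorem neg_mem_spGL {x : GL (Fin 2 ⊕ Fin 2) F} (hx : x ∈ spGL 2 F) : -x ∈ spGL 2 F := by
  rw [mem_spGL_iff] at hx ⊢
  intro u v
  rw [Units.val_neg, Matrix.neg_mulVec, Matrix.neg_mulVec]
  have h1 : ∀ a b : Fin 2 ⊕ Fin 2 → F, sympForm 2 F (-a) (-b) = sympForm 2 F a b := by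
    intro a b
    have ha : -a = (-1 : F) • a := by simp
    have hb : -b = (-1 : F) • b := by simp
    rw [ha, hb, sympForm_smul_left, sympForm_smul_right]
    ring
  rw [h1, hx]

section back
variable [Fintype F] (p : ℕ) [Fact p.Prime] [CharP F p] (hF : Fintype.card F = p) (hodd : Odd p)
  (R : Subgroup (GL (Fin 2 ⊕ Fin 2) F)) (hRf : R ≤ spGL 2 F) (hX : XS R)
  (hcard : Nat.card R = 32) (hZ : ∀ ρ ∈ R, IsScal ρ → ρ = 1 ∨ ρ = -1)
  (hm : ∀ A : Subgroup R, IsMulCommutative A → (∀ x ∈ A, x * x = 1) → Nat.card A < 8)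

include hodd hRf hX hcard hZ hm in
theorem back_two : ∀ x ∈ spGL 2 F,
    (∃ z : F, ((x ^ 2 : GL (Fin 2 ⊕ Fin 2) F) : Matrix (Fin 2 ⊕ Fin 2) (Fin 2 ⊕ Fin 2) F) = z • 1) →
    (∀ z : F, (x : Matrix (Fin 2 ⊕ Fin 2) (Fin 2 ⊕ Fin 2) F) ≠ z • 1) →
    ∃ g ∈ spGL 2 F, g⁻¹ * x * g ∈ Cfsg.Geo.subgroupNormalizer R := by
  intro x hx ⟨z, hz⟩ hns
  have h2 : (2 : F) ≠ 0 := two_ne_zero_of_odd p hodd
  haveI : Finite R := inferInstance
  obtain ⟨t0, t1, t2, t3, t4, hC⟩ := exists_cliff R h2 hX hcard hZ hm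
  have hzz : z * z = 1 := sq_eq_one_of_scalar (by norm_num) (x ^ 2) (pow_mem hx 2) z hz
  have hMM : (x : Matrix (Fin 2 ⊕ Fin 2) (Fin 2 ⊕ Fin 2) F) * (x : Matrix _ _ F) = z • 1 := by
    rw [← hz, Units.val_pow_eq_pow_val, pow_two]
  have hsymp : ∀ y : GL (Fin 2 ⊕ Fin 2) F, y ∈ spGL 2 F →
      (y : Matrix (Fin 2 ⊕ Fin 2) (Fin 2 ⊕ Fin 2) F) ∈ Matrix.symplecticGroup (Fin 2) F :=
    fun y hy => (mem_symplectic_iff 2 _).mpr ((mem_spGL_iff 2 y).mp hy)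
  have hcx := charpoly_sq h2 _ (hsymp x hx) z (pm_one_of_sq hzz) hMM hns
  -- the target element
  obtain ⟨h, hhR, hhh, hhns⟩ : ∃ h : GL (Fin 2 ⊕ Fin 2) F, h ∈ R ∧
      (h : Matrix (Fin 2 ⊕ Fin 2) (Fin 2 ⊕ Fin 2) F) * (h : Matrix _ _ F) = z • 1 ∧ ¬ IsScal h := by
    rcases pm_one_of_sq hzz with rfl | rfl
    · refine ⟨t0, hC.m0, ?_, not_isScal_of_ac h2 hC.a01⟩
      rw [← Units.val_mul, hC.s0, Units.val_one, one_smul]
    · refine ⟨t0 * t1, mul_mem hC.m0 hC.m1, ?_, ?_⟩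
      · rw [← Units.val_mul, sq_of_ac_inv hC.a01 hC.s0 hC.s1]
        simp
      · exact not_isScal_of_ac h2 (ac_self_mul hC.a01).symm
  have hhns' : ∀ z' : F, (h : Matrix (Fin 2 ⊕ Fin 2) (Fin 2 ⊕ Fin 2) F) ≠ z' • 1 :=
    fun z' hz' => hhns ⟨z', hz'⟩
  have hch := charpoly_sq h2 _ (hsymp h (hRf hhR)) z (pm_one_of_sq hzz) hhh hhns'
  have hpow4 : ∀ y : GL (Fin 2 ⊕ Fin 2) F,
      (y : Matrix (Fin 2 ⊕ Fin 2) (Fin 2 ⊕ Fin 2) F) * (y : Matrix _ _ F) = z • 1 → y ^ 4 = 1 := by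
    intro y hy
    apply Units.ext
    have : y ^ 4 = (y * y) * (y * y) := by rw [← pow_two y, ← pow_add]
    rw [this, Units.val_mul, Units.val_mul, hy, smul_mul_smul_comm, hzz, one_mul, one_smul,
      Units.val_one]
  have hcop : Nat.Coprime 4 p := by
    have : Nat.Coprime 2 p := by
      rw [Nat.coprime_comm]
      exact Nat.Coprime.symm (Nat.coprime_two_left.mpr hodd)
    exact Nat.Coprime.pow_left 2 this
  obtain ⟨g, hg, hgx⟩ := conj_spGL p 2 x h hx (hRf hhR) 4 hcop (hpow4 x hMM) (hpow4 h hhh)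
    (hcx.trans hch.symm)
  refine ⟨g, hg, ?_⟩
  rw [hgx]
  exact Subgroup.le_normalizer hhR

include hF hodd hRf hX hcard hZ hm in
theorem back_five (hord : orderOf (p : ZMod 5) = 4) : ∀ x ∈ spGL 2 F,
    (∃ z : F, ((x ^ 5 : GL (Fin 2 ⊕ Fin 2) F) : Matrix (Fin 2 ⊕ Fin 2) (Fin 2 ⊕ Fin 2) F) = z • 1) →
    (∀ z : F, (x : Matrix (Fin 2 ⊕ Fin 2) (Fin 2 ⊕ Fin 2) F) ≠ z • 1) →
    ∃ g ∈ spGL 2 F, g⁻¹ * x * g ∈ Cfsg.Geo.subgroupNormalizer R := by
  intro x hx ⟨z, hz⟩ hns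
  have h2 : (2 : F) ≠ 0 := two_ne_zero_of_odd p hodd
  haveI : Finite R := inferInstance
  obtain ⟨t0, t1, t2, t3, t4, hC⟩ := exists_cliff R h2 hX hcard hZ hm
  have hzz : z * z = 1 := sq_eq_one_of_scalar (by norm_num) (x ^ 5) (pow_mem hx 5) z hz
  have hι : Fintype.card (Fin 2 ⊕ Fin 2) = 4 := by simp
  have hp5 : p ≠ 5 := by
    rintro rfl
    have : ((5 : ℕ) : ZMod 5) = 0 := by rfl
    rw [this, orderOf_eq_zero_iff.mpr] at hord
    · omega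
    · intro h
      obtain ⟨n, hn, hn'⟩ := h.exists_pow_eq_one
      rw [zero_pow hn.ne'] at hn'
      exact zero_ne_one hn'
  have hcop : Nat.Coprime 5 p :=
    (Nat.coprime_primes (by norm_num) (Fact.out : p.Prime)).mpr (Ne.symm hp5)
  -- the element of order five in the normaliser
  obtain ⟨k, hk5, hk1⟩ := exists_order_five (yel h2 hC) (isOfFinOrder_of_finite _)
    (yel_five R h2 t0 t1 t2 t3 t4 hC)
  obtain ⟨y0, hy0⟩ : ∃ y0, y0 = (yel h2 hC) ^ k := ⟨_, rfl⟩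
  rw [← hy0] at hk5 hk1
  have hy0S : y0 ∈ spGL 2 F := hy0 ▸ pow_mem (yel_mem_spGL h2 hRf hC) k
  have hy0N : y0 ∈ normalizer (R : Set (GL (Fin 2 ⊕ Fin 2) F)) :=
    hy0 ▸ pow_mem (yel_mem_normalizer R h2 hX t0 t1 t2 t3 t4 hC) k
  have hcy : (y0 : Matrix (Fin 2 ⊕ Fin 2) (Fin 2 ⊕ Fin 2) F).charpoly = cyclotomic 5 F := by
    apply charpoly_order_five p hF hord hι
    · rw [← Units.val_pow_eq_pow_val, hk5, Units.val_one]
    · intro h
      apply hk1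
      exact Units.ext h
  have hmain : ∀ x' : GL (Fin 2 ⊕ Fin 2) F, x' ∈ spGL 2 F → x' ^ 5 = 1 → x' ≠ 1 →
      ∃ g ∈ spGL 2 F, g⁻¹ * x' * g = y0 := by
    intro x' hx' h5 h1
    have hcx : (x' : Matrix (Fin 2 ⊕ Fin 2) (Fin 2 ⊕ Fin 2) F).charpoly = cyclotomic 5 F := by
      apply charpoly_order_five p hF hord hι
      · rw [← Units.val_pow_eq_pow_val, h5, Units.val_one]
      · intro h
        apply h1
        exact Units.ext h
    exact conj_spGL p 2 x' y0 hx' hy0S 5 hcop h5 hk5 (hcx.trans hcy.symm)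
  rcases pm_one_of_sq hzz with rfl | rfl
  · have h5 : x ^ 5 = 1 := by
      apply Units.ext
      rw [hz, one_smul, Units.val_one]
    have h1 : x ≠ 1 := by
      rintro rfl
      exact hns 1 (by simp)
    obtain ⟨g, hg, hgx⟩ := hmain x hx h5 h1
    exact ⟨g, hg, hgx ▸ hy0N⟩
  · have h5 : (-x) ^ 5 = 1 := by
      rw [Odd.neg_pow (by decide)]
      apply Units.ext
      rw [Units.val_neg, hz]
      simp
    have h1 : -x ≠ 1 := by
      intro h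
      have : x = -1 := by rw [← h, neg_neg]
      exact hns (-1) (by rw [this]; simp)
    obtain ⟨g, hg, hgx⟩ := hmain (-x) (neg_mem_spGL hx) h5 h1
    refine ⟨g, hg, ?_⟩
    have : g⁻¹ * x * g = (-1) * y0 := by
      rw [← hgx]
      simp
    rw [this]
    exact mul_mem (Subgroup.le_normalizer hX.negOne) hy0N

end back

end Cfsg.Agent.Lib.Helper8.Ext
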