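import Mathlib
import Cfsg.Prelude.Def_GeometricClasses
import Cfsg.Agent.Lib.Helper8.Ext15

set_option autoImplicit false

/-! the embedding `SL₂ → Sp₄` on the first hyperbolic plane, and explicit elements -/

namespace Cfsg.Agent.Lib.Helper8.Ext

open scoped MatrixGroups Matrix
open Subgroup Cfsg Polynomial
open Cfsg.Agent.Lib.Helper5.SympTv Cfsg.Agent.Lib.Helper5.SpCentres
  Cfsg.Agent.Lib.Helper5.SympBridge

variable {F : Type*} [Field F]

/-- `Λ` acting on the plane spanned by `e_{inl 0}, e_{inr 0}` -/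
def BB (Λ : Matrix (Fin 2) (Fin 2) F) : Matrix (Fin 2 ⊕ Fin 2) (Fin 2 ⊕ Fin 2) F :=
  Matrix.fromBlocks (Matrix.diagonal ![Λ 0 0, 1]) (Matrix.diagonal ![Λ 0 1, 0])
    (Matrix.diagonal ![Λ 1 0, 0]) (Matrix.diagonal ![Λ 1 1, 1])

theorem BB_mul (Λ Λ' : Matrix (Fin 2) (Fin 2) F) : BB Λ * BB Λ' = BB (Λ * Λ') := by
  unfold BB
  rw [Matrix.fromBlocks_multiply]
  simp only [Matrix.diagonal_mul_diagonal, Matrix.diagonal_add]
  congr 1 <;>
  · congr 1
    ext i
    fin_cases i <;> simp [Matrix.mul_apply, Fin.sum_univ_two]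

theorem BB_one : BB (1 : Matrix (Fin 2) (Fin 2) F) = 1 := by
  unfold BB
  rw [← Matrix.fromBlocks_one]
  congr 1 <;>
  · ext i j
    fin_cases i <;> fin_cases j <;> simp

theorem trace_BB (Λ : Matrix (Fin 2) (Fin 2) F) : Matrix.trace (BB Λ) = Matrix.trace Λ + 2 := by
  simp [BB, Matrix.trace, Fintype.sum_sum_type, Fin.sum_univ_two]
  ring

theorem BB_symp (Λ : Matrix (Fin 2) (Fin 2) F) (hdet : Λ 0 0 * Λ 1 1 - Λ 0 1 * Λ 1 0 = 1) :
    BB Λ ∈ Matrix.symplecticGroup (Fin 2) F := by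
  rw [SymplecticGroup.mem_iff]
  unfold BB Matrix.J
  rw [Matrix.fromBlocks_transpose, Matrix.fromBlocks_multiply, Matrix.fromBlocks_multiply]
  simp only [Matrix.diagonal_transpose, Matrix.mul_zero, Matrix.mul_one,
    Matrix.mul_neg, zero_add, add_zero, Matrix.neg_mul, Matrix.diagonal_mul_diagonal]
  congr 1 <;>
  · ext i j
    fin_cases i <;> fin_cases j <;> simp [Matrix.diagonal] <;>
      first | ring1 | linear_combination hdet | linear_combination -hdet

theorem BB_not_scalar (Λ : Matrix (Fin 2) (Fin 2) F) (h : Λ 0 1 ≠ 0) (z : F) : BB Λ ≠ z • 1 := by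
  intro he
  have := congrFun (congrFun he (Sum.inl 0)) (Sum.inr 0)
  simp [BB] at this
  exact h this

end Cfsg.Agent.Lib.Helper8.Ext
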