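import Mathlib
import Cfsg.Prelude.Def_GeometricClasses
import Cfsg.Agent.Lib.Helper8.Ext16

set_option autoImplicit false

/-! explicit elements of order `3` and `5` of `Sp₄` with a fixed plane -/

namespace Cfsg.Agent.Lib.Helper8.Ext

open scoped MatrixGroups Matrix
open Subgroup Cfsg Polynomial
open Cfsg.Agent.Lib.Helper5.SympTv Cfsg.Agent.Lib.Helper5.SpCentres
  Cfsg.Agent.Lib.Helper5.SympBridge

variable {F : Type*} [Field F]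

theorem BB_pow (Λ : Matrix (Fin 2) (Fin 2) F) (k : ℕ) : BB Λ ^ k = BB (Λ ^ k) := by
  induction k with
  | zero => rw [pow_zero, pow_zero, BB_one]
  | succ k ih => rw [pow_succ, pow_succ, ih, BB_mul]

/-- `BB Λ` as a unit -/
def BBu (Λ Λ' : Matrix (Fin 2) (Fin 2) F) (h : Λ * Λ' = 1) (h' : Λ' * Λ = 1) :
    GL (Fin 2 ⊕ Fin 2) F :=
  ⟨BB Λ, BB Λ', by rw [BB_mul, h, BB_one], by rw [BB_mul, h', BB_one]⟩

theorem BBu_val (Λ Λ' : Matrix (Fin 2) (Fin 2) F) (h : Λ * Λ' = 1) (h' : Λ' * Λ = 1) :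
    ((BBu Λ Λ' h h' : GL (Fin 2 ⊕ Fin 2) F) : Matrix (Fin 2 ⊕ Fin 2) (Fin 2 ⊕ Fin 2) F) = BB Λ := rfl

theorem BBu_inv_val (Λ Λ' : Matrix (Fin 2) (Fin 2) F) (h : Λ * Λ' = 1) (h' : Λ' * Λ = 1) :
    (((BBu Λ Λ' h h')⁻¹ : GL (Fin 2 ⊕ Fin 2) F) : Matrix (Fin 2 ⊕ Fin 2) (Fin 2 ⊕ Fin 2) F) = BB Λ' :=
  rfl

theorem BBu_mem (Λ Λ' : Matrix (Fin 2) (Fin 2) F) (h : Λ * Λ' = 1) (h' : Λ' * Λ = 1)
    (hdet : Λ 0 0 * Λ 1 1 - Λ 0 1 * Λ 1 0 = 1) : BBu Λ Λ' h h' ∈ spGL 2 F := by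
  rw [mem_spGL_iff]
  exact (mem_symplectic_iff 2 _).mp (BB_symp Λ hdet)

theorem BBu_pow_eq_one (Λ Λ' : Matrix (Fin 2) (Fin 2) F) (h : Λ * Λ' = 1) (h' : Λ' * Λ = 1)
    (k : ℕ) (hk : Λ ^ k = 1) : (BBu Λ Λ' h h') ^ k = 1 := by
  apply Units.ext
  rw [Units.val_pow_eq_pow_val, BBu_val, BB_pow, hk, BB_one, Units.val_one]

/-- order three -/
def L3 : Matrix (Fin 2) (Fin 2) F := !![0, -1; 1, -1]

/-- its inverse -/
def L3' : Matrix (Fin 2) (Fin 2) F := !![-1, 1; -1, 0]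

theorem L3_mul : (L3 : Matrix (Fin 2) (Fin 2) F) * L3' = 1 := by
  ext i j
  fin_cases i <;> fin_cases j <;> simp [L3, L3', Matrix.mul_apply, Fin.sum_univ_two]

theorem L3'_mul : (L3' : Matrix (Fin 2) (Fin 2) F) * L3 = 1 := by
  ext i j
  fin_cases i <;> fin_cases j <;> simp [L3, L3', Matrix.mul_apply, Fin.sum_univ_two]

theorem L3_sq : (L3 : Matrix (Fin 2) (Fin 2) F) * L3 = L3' := by
  ext i j
  fin_cases i <;> fin_cases j <;> simp [L3, L3', Matrix.mul_apply, Fin.sum_univ_two]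

theorem L3_cube : (L3 : Matrix (Fin 2) (Fin 2) F) ^ 3 = 1 := by
  rw [pow_succ, pow_two, L3_sq, L3'_mul]

/-- the element of order three of `Sp₄` -/
def X3 : GL (Fin 2 ⊕ Fin 2) F := BBu L3 L3' L3_mul L3'_mul

theorem X3_mem : (X3 : GL (Fin 2 ⊕ Fin 2) F) ∈ spGL 2 F := by
  apply BBu_mem
  simp [L3]

theorem X3_cube : (X3 : GL (Fin 2 ⊕ Fin 2) F) ^ 3 = 1 := BBu_pow_eq_one _ _ _ _ 3 L3_cube

theorem X3_trace : Matrix.trace ((X3 : GL (Fin 2 ⊕ Fin 2) F) : Matrix (Fin 2 ⊕ Fin 2) (Fin 2 ⊕ Fin 2) F) = 1 := by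
  unfold X3
  rw [BBu_val, trace_BB]
  simp [L3, Matrix.trace, Fin.sum_univ_two]
  ring

theorem X3_inv_trace :
    Matrix.trace (((X3 : GL (Fin 2 ⊕ Fin 2) F)⁻¹ : GL (Fin 2 ⊕ Fin 2) F) : Matrix (Fin 2 ⊕ Fin 2) (Fin 2 ⊕ Fin 2) F) = 1 := by
  unfold X3
  rw [BBu_inv_val, trace_BB]
  simp [L3', Matrix.trace, Fin.sum_univ_two]
  ring

theorem X3_not_scalar (z : F) : ((X3 : GL (Fin 2 ⊕ Fin 2) F) : Matrix (Fin 2 ⊕ Fin 2) (Fin 2 ⊕ Fin 2) F) ≠ z • 1 := by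
  unfold X3
  rw [BBu_val]
  apply BB_not_scalar
  simp [L3]

section five
variable (t : F) (ht : t ^ 2 + t - 1 = 0)

/-- order five -/
def L5 (t : F) : Matrix (Fin 2) (Fin 2) F := !![0, -1; 1, t]

/-- its inverse -/
def L5' (t : F) : Matrix (Fin 2) (Fin 2) F := !![t, 1; -1, 0]

theorem L5_mul : L5 t * L5' t = 1 := by
  ext i j
  fin_cases i <;> fin_cases j <;> simp [L5, L5', Matrix.mul_apply, Fin.sum_univ_two]

theorem L5'_mul : L5' t * L5 t = 1 := by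
  ext i j
  fin_cases i <;> fin_cases j <;> simp [L5, L5', Matrix.mul_apply, Fin.sum_univ_two]

theorem L5_sq : L5 t * L5 t = !![-1, -t; t, t ^ 2 - 1] := by
  ext i j
  fin_cases i <;> fin_cases j <;> simp [L5, Matrix.mul_apply, Fin.sum_univ_two] <;> ring

include ht in
theorem L5_four : (!![-1, -t; t, t ^ 2 - 1] : Matrix (Fin 2) (Fin 2) F) * !![-1, -t; t, t ^ 2 - 1]
    = L5' t := by
  ext i j
  fin_cases i <;> fin_cases j <;> simp [L5', Matrix.mul_apply, Fin.sum_univ_two] <;>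
    first
    | linear_combination (-1) * ht
    | linear_combination (1 - t) * ht
    | linear_combination (t - 1) * ht
    | linear_combination (t ^ 2 - t - 1) * ht

include ht in
theorem L5_pow : L5 t ^ 5 = 1 := by
  have h4 : L5 t ^ 4 = L5' t := by
    have : L5 t ^ 4 = (L5 t * L5 t) * (L5 t * L5 t) := by rw [← pow_two (L5 t), ← pow_add]
    rw [this, L5_sq, L5_four t ht]
  rw [pow_succ, h4, L5'_mul]

/-- the element of order five of `Sp₄` -/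
def X5 (t : F) : GL (Fin 2 ⊕ Fin 2) F := BBu (L5 t) (L5' t) (L5_mul t) (L5'_mul t)

theorem X5_mem : X5 t ∈ spGL 2 F := by
  apply BBu_mem
  simp [L5]

include ht in
theorem X5_pow : X5 t ^ 5 = 1 := BBu_pow_eq_one _ _ _ _ 5 (L5_pow t ht)

theorem X5_trace : Matrix.trace ((X5 t : GL (Fin 2 ⊕ Fin 2) F) : Matrix (Fin 2 ⊕ Fin 2) (Fin 2 ⊕ Fin 2) F) = t + 2 := by
  unfold X5
  rw [BBu_val, trace_BB]
  simp [L5, Matrix.trace, Fin.sum_univ_two]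

theorem X5_inv_trace :
    Matrix.trace (((X5 t)⁻¹ : GL (Fin 2 ⊕ Fin 2) F) : Matrix (Fin 2 ⊕ Fin 2) (Fin 2 ⊕ Fin 2) F) = t + 2 := by
  unfold X5
  rw [BBu_inv_val, trace_BB]
  simp [L5', Matrix.trace, Fin.sum_univ_two]

theorem X5_not_scalar (z : F) : ((X5 t : GL (Fin 2 ⊕ Fin 2) F) : Matrix (Fin 2 ⊕ Fin 2) (Fin 2 ⊕ Fin 2) F) ≠ z • 1 := by
  unfold X5
  rw [BBu_val]
  apply BB_not_scalar
  simp [L5]

end five

/-- a root of `t² + t - 1` when `p ≡ ±1 (mod 5)` -/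
theorem exists_golden (p : ℕ) [hp : Fact p.Prime] [CharP F p] (hp2 : p ≠ 2)
    (h5 : p % 5 = 1 ∨ p % 5 = 4) : ∃ t : F, t ^ 2 + t - 1 = 0 := by
  have hsq : IsSquare ((p : ℕ) : ZMod 5) := by
    rw [← ZMod.natCast_mod]
    rcases h5 with h | h <;> rw [h]
    · exact ⟨1, by decide⟩
    · exact ⟨2, by decide⟩
  haveI : Fact (Nat.Prime 5) := ⟨by norm_num⟩
  have h1 := (ZMod.exists_sq_eq_prime_iff_of_mod_four_eq_one (p := 5) (q := p) (by norm_num) hp2).mp hsq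
  obtain ⟨a, ha⟩ := h1
  obtain ⟨s, hs⟩ : ∃ s : F, s * s = 5 := by
    refine ⟨ZMod.castHom (dvd_refl p) F a, ?_⟩
    rw [← map_mul, ← ha, map_natCast]
    norm_num
  have h2 : (2 : F) ≠ 0 := by
    intro h
    have h1 : ((2 : ℕ) : F) = 0 := by exact_mod_cast h
    have h3 := (CharP.cast_eq_zero_iff F p 2).mp h1
    exact hp2 ((Nat.prime_dvd_prime_iff_eq hp.out Nat.prime_two).mp h3)
  refine ⟨(s - 1) / 2, ?_⟩
  field_simp
  linear_combination hs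

end Cfsg.Agent.Lib.Helper8.Ext
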