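import Mathlib
import Cfsg.Prelude.Def_GeometricClasses
import Cfsg.Agent.Lib.Helper8.Ext17

set_option autoImplicit false

/-! fixed-point-free elements of order three; transvections -/

namespace Cfsg.Agent.Lib.Helper8.Ext

open scoped MatrixGroups Matrix
open Subgroup Cfsg Polynomial
open Cfsg.Agent.Lib.Helper5.SympTv Cfsg.Agent.Lib.Helper5.SpCentres
  Cfsg.Agent.Lib.Helper5.SympBridge

section cj2
variable {G : Type*} [Group G]

theorem Cj.mul' {g a b a' b' : G} (h1 : Cj g a b) (h2 : Cj g a' b') : Cj g (a * a') (b * b') := by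
  unfold Cj at *
  rw [← mul_assoc, h1, mul_assoc, h2, mul_assoc]

theorem Cj.sq_one {g a b : G} (h1 : Cj g a b) (ha : a * a = 1) : b * b = 1 := by
  unfold Cj at h1
  have hb : b = g * a * g⁻¹ := eq_mul_inv_of_mul_eq h1.symm
  rw [hb]
  calc g * a * g⁻¹ * (g * a * g⁻¹) = g * (a * a) * g⁻¹ := by group
    _ = 1 := by rw [ha]; group

theorem Cj.conj (g a : G) : Cj g a (g * a * g⁻¹) := by
  unfold Cj
  rw [inv_mul_cancel_right]

end cj2

variable {ι : Type} [Fintype ι] [DecidableEq ι] {F : Type*} [Field F]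

theorem Cj.eq_of_isScal {g a b : GL ι F} (h1 : Cj g a b) (hb : IsScal b) : a = b := by
  unfold Cj at h1
  rw [isScal_comm hb g] at h1
  exact mul_left_cancel h1

section fpf
variable [Nonempty ι] (R : Subgroup (GL ι F)) [Finite R] (h2 : (2 : F) ≠ 0) (hX : XS R)
  (hcard : Nat.card R = 32) (hZ : ∀ ρ ∈ R, IsScal ρ → ρ = 1 ∨ ρ = -1)
  (hm : ∀ A : Subgroup R, IsMulCommutative A → (∀ x ∈ A, x * x = 1) → Nat.card A < 8)

include h2 hX hcard hZ hm in
theorem no_fpf3 (x : GL ι F) (hx : x ∈ normalizer (R : Set (GL ι F))) (hx3 : x ^ 3 = 1)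
    (hfix : ∀ ρ ∈ R, x * ρ = ρ * x → ρ = 1 ∨ ρ = -1) : False := by
  obtain ⟨a, t1, t2, t3, t4, hC⟩ := exists_cliff R h2 hX hcard hZ hm
  have haR : a ∈ R := hC.m0
  have haa : a * a = 1 := hC.s0
  have hans : ¬ IsScal a := not_isScal_of_ac h2 hC.a01
  obtain ⟨b, hbdef⟩ : ∃ b, b = x * a * x⁻¹ := ⟨_, rfl⟩
  obtain ⟨c, hcdef⟩ : ∃ c, c = x * b * x⁻¹ := ⟨_, rfl⟩
  have hbR : b ∈ R := hbdef ▸ (mem_normalizer_iff.mp hx a).mp haR
  have hcR : c ∈ R := hcdef ▸ (mem_normalizer_iff.mp hx b).mp hbR
  have j1 : Cj x a b := hbdef ▸ Cj.conj x a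
  have j2 : Cj x b c := hcdef ▸ Cj.conj x b
  have hxxx : x * x * x = 1 := by rw [← hx3, pow_three', ]
  have hinv2 : x⁻¹ * x⁻¹ = x := by
    calc x⁻¹ * x⁻¹ = x⁻¹ * x⁻¹ * (x * x * x) := by rw [hxxx, mul_one]
      _ = x := by group
  have j3 : Cj x c a := by
    unfold Cj
    calc x * c = (x * x * x) * a * (x⁻¹ * x⁻¹) := by rw [hcdef, hbdef]; group
      _ = a * x := by rw [hxxx, hinv2, one_mul]
  have hbb : b * b = 1 := j1.sq_one haa
  have hcc : c * c = 1 := j2.sq_one hbb
  have hbns : ¬ IsScal b := fun hs => hans (by rw [j1.eq_of_isScal hs]; exact hs)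
  have hcns : ¬ IsScal c := fun hs => hbns (by rw [j2.eq_of_isScal hs]; exact hs)
  obtain ⟨d, hddef⟩ : ∃ d, d = a * b * c := ⟨_, rfl⟩
  have hdR : d ∈ R := hddef ▸ mul_mem (mul_mem haR hbR) hcR
  have j4 : Cj x d (b * c * a) := hddef ▸ (j1.mul' j2).mul' j3
  have hada : a * d * a = b * c * a := by
    rw [hddef]
    calc a * (a * b * c) * a = (a * a) * b * c * a := by group
      _ = b * c * a := by rw [haa, one_mul]
  have hd : d = 1 ∨ d = -1 := by
    rcases hX.comm a haR d hdR with h | h
    · have he : b * c * a = d := by rw [← hada, h, mul_assoc, haa, mul_one]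
      rw [he] at j4
      exact hfix d hdR j4
    · exfalso
      have he : b * c * a = -d := by
        have h' : a * d = -(d * a) := h
        rw [← hada, h', neg_mul, mul_assoc, haa, mul_one]
      rw [he] at j4
      have j5 : Cj x (-d) d := by
        have := j4.neg
        rwa [neg_neg] at this
      have j6 : Cj (x * (x * x)) d (-d) := (j4.mul j5).mul j4
      have h1 : x * (x * x) = 1 := by rw [← mul_assoc, hxxx]
      rw [h1] at j6
      exact ne_neg_self h2 d j6.eq_of_one
  -- c = ± b a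
  have hc' : c = b * a ∨ c = -(b * a) := by
    have hinv : (a * b)⁻¹ = b * a := by
      rw [mul_inv_rev, inv_of_sq_one haa, inv_of_sq_one hbb]
    rcases hd with h | h
    · left
      rw [hddef] at h
      rw [← hinv]
      exact eq_inv_of_mul_eq_one_right h
    · right
      rw [hddef] at h
      have : (a * b) * (-c) = 1 := by rw [mul_neg, h, neg_neg]
      have h3 := eq_inv_of_mul_eq_one_right this
      rw [hinv] at h3
      rw [← h3, neg_neg]
  have hbaba : (b * a) * (b * a) = 1 := by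
    rcases hc' with h | h
    · rw [← h]; exact hcc
    · have : (b * a) * (b * a) = c * c := by rw [h, neg_mul_neg]
      rw [this]; exact hcc
  have hab : a * b = b * a := by
    rcases hX.comm a haR b hbR with h | h
    · exact h
    · exfalso
      have h' : AC b a := AC.symm h
      rw [sq_ac h', hbb, haa, one_mul] at hbaba
      exact ne_neg_self h2 (1 : GL ι F) hbaba.symm
  have hcs : IsScal c := by
    rcases inv_comm R h2 hX hcard hZ hm a b haR hbR haa hbb hab hans hbns with h | h
    · rcases hc' with h' | h'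
      · rw [h', ← h, haa]; exact isScal_one
      · rw [h', ← h, haa]; exact isScal_neg_one
    · have hb' : b = -a := by rw [h, neg_neg]
      rcases hc' with h' | h'
      · rw [h', hb', neg_mul, haa]; exact isScal_neg_one
      · rw [h', hb', neg_mul, haa, neg_neg]; exact isScal_one
  exact hcns hcs

end fpf

theorem one_add_pow_sq_zero (N : Matrix ι ι F) (hNN : N * N = 0) (k : ℕ) :
    (1 + N) ^ k = 1 + (k : F) • N := by
  induction k with
  | zero => simp
  | succ k ih =>
    rw [pow_succ, ih]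
    simp only [add_mul, mul_add, one_mul, mul_one, smul_mul_assoc, hNN, smul_zero, add_zero,
      Nat.cast_succ, add_smul, one_smul]
    abel

end Cfsg.Agent.Lib.Helper8.Ext
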