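import Mathlib
import Cfsg.Prelude.Def_GeometricClasses
import Cfsg.Agent.Lib.Helper8.Ext18

set_option autoImplicit false

/-! S6002: the forward direction -/

namespace Cfsg.Agent.Lib.Helper8.Ext

open scoped MatrixGroups Matrix
open Subgroup Cfsg Polynomial
open Cfsg.Agent.Lib.Helper5.SympTv Cfsg.Agent.Lib.Helper5.SpCentres
  Cfsg.Agent.Lib.Helper5.SympBridge

section gen
variable {ι : Type} [Fintype ι] [DecidableEq ι] {F : Type*} [Field F]

theorem isScal_of_conj {x g : GL ι F} (h : IsScal (g⁻¹ * x * g)) : IsScal x := by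
  have hc := isScal_comm h g
  have h1 : g * (g⁻¹ * x * g) = x * g := by group
  rw [h1] at hc
  have : g⁻¹ * x * g = x := mul_right_cancel hc
  rwa [this] at h

theorem conj_pow_one {x g : GL ι F} {r : ℕ} (h : x ^ r = 1) : (g⁻¹ * x * g) ^ r = 1 := by
  have := conj_pow (i := r) (a := g⁻¹) (b := x)
  rw [inv_inv] at this
  rw [this, h, mul_one, inv_mul_cancel]

theorem trace_conj (x g : GL ι F) :
    Matrix.trace ((g⁻¹ * x * g : GL ι F) : Matrix ι ι F) = Matrix.trace (x : Matrix ι ι F) := by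
  rw [Units.val_mul, Units.val_mul, Matrix.trace_units_conj']

theorem trace_conj_inv (x g : GL ι F) :
    Matrix.trace (((g⁻¹ * x * g)⁻¹ : GL ι F) : Matrix ι ι F) =
      Matrix.trace ((x⁻¹ : GL ι F) : Matrix ι ι F) := by
  have : (g⁻¹ * x * g)⁻¹ = g⁻¹ * x⁻¹ * g := by group
  rw [this, trace_conj]

variable [Nonempty ι] (R : Subgroup (GL ι F)) [Finite R] (hX : XS R)
  (hirr : ∀ M : Matrix ι ι F, (∀ s ∈ Cfsg.Geo.matrixSet R, M * s = s * M) →
    ∃ c : F, M = c • (1 : Matrix ι ι F))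
  (h2 : (2 : F) ≠ 0) (hι : Fintype.card ι = 4)
  (hz : Nat.card (center R) = 2) (hcard : Nat.card R = 32)

include hX hirr h2 hι hz hcard in
theorem key' (x : GL ι F) (hx : x ∈ normalizer (R : Set (GL ι F))) (r : ℕ) [hrp : Fact r.Prime]
    (hr : Odd r) (hxr : x ^ r = 1) (hns : ¬ IsScal x) :
    ∃ m : ℕ, m ∣ 16 ∧ m ≠ 16 ∧ Nat.card (CR R x) = 2 * m ∧ r ∣ 16 - m ∧
      Matrix.trace (x : Matrix ι ι F) * Matrix.trace ((x⁻¹ : GL ι F) : Matrix ι ι F) = (m : F) := by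
  obtain ⟨m, h1, h3, h4, h5⟩ := key R hX hirr h2 hι 2 (Or.inl rfl) hz (by rw [hcard]) x hx r hr
    (by rw [hxr]; exact isScal_one)
  refine ⟨m, h1, ?_, h3, h4, h5⟩
  intro hm
  apply hns
  have htop : CR R x = ⊤ := by
    apply (Subgroup.card_eq_iff_eq_top _).mp
    rw [h3, hcard, hm]
  apply isScal_of_comm_all R hirr
  intro ρ hρ
  have : (⟨ρ, hρ⟩ : R) ∈ CR R x := htop ▸ Subgroup.mem_top _
  exact (mem_CR_iff R x _).mp this

include hirr hz in
theorem fix_of_card_two (hZ : ∀ ρ ∈ R, IsScal ρ → ρ = 1 ∨ ρ = -1) (x : GL ι F)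
    (h : Nat.card (CR R x) = 2) : ∀ ρ ∈ R, x * ρ = ρ * x → ρ = 1 ∨ ρ = -1 := by
  have hle : center R ≤ CR R x := by
    intro g hg
    rw [mem_CR_iff]
    exact (isScal_comm (central_isScal R hirr g hg) x).symm
  have heq : center R = CR R x := Subgroup.eq_of_le_of_card_ge hle (by rw [h, hz])
  intro ρ hρ hc
  have h1 : (⟨ρ, hρ⟩ : R) ∈ CR R x := (mem_CR_iff R x _).mpr hc
  rw [← heq] at h1
  exact hZ ρ hρ (central_isScal R hirr _ h1)

end gen

section symp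
variable {F : Type*} [Field F]

/-- the property of the statement -/
def PP (R : Subgroup (GL (Fin 2 ⊕ Fin 2) F)) (r : ℕ) : Prop :=
  ∀ x ∈ spGL 2 F,
    (∃ z : F, ((x ^ r : GL (Fin 2 ⊕ Fin 2) F) : Matrix (Fin 2 ⊕ Fin 2) (Fin 2 ⊕ Fin 2) F) = z • 1) →
    (∀ z : F, (x : Matrix (Fin 2 ⊕ Fin 2) (Fin 2 ⊕ Fin 2) F) ≠ z • 1) →
    ∃ g ∈ spGL 2 F, g⁻¹ * x * g ∈ Cfsg.Geo.subgroupNormalizer R

theorem PP_apply {R : Subgroup (GL (Fin 2 ⊕ Fin 2) F)} {r : ℕ} (hP : PP R r)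
    (x : GL (Fin 2 ⊕ Fin 2) F) (hx : x ∈ spGL 2 F) (hxr : x ^ r = 1)
    (hns : ∀ z : F, (x : Matrix (Fin 2 ⊕ Fin 2) (Fin 2 ⊕ Fin 2) F) ≠ z • 1) :
    ∃ g ∈ spGL 2 F, g⁻¹ * x * g ∈ normalizer (R : Set (GL (Fin 2 ⊕ Fin 2) F)) ∧
      (g⁻¹ * x * g) ^ r = 1 ∧ ¬ IsScal (g⁻¹ * x * g) := by
  obtain ⟨g, hg, hgN⟩ := hP x hx ⟨1, by rw [hxr]; simp⟩ hns
  refine ⟨g, hg, hgN, conj_pow_one hxr, ?_⟩
  intro hs
  obtain ⟨c, hc⟩ := isScal_of_conj hs
  exact hns c hc

variable (R : Subgroup (GL (Fin 2 ⊕ Fin 2) F)) [Finite R] (hX : XS R)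
  (hirr : ∀ M : Matrix (Fin 2 ⊕ Fin 2) (Fin 2 ⊕ Fin 2) F,
    (∀ s ∈ Cfsg.Geo.matrixSet R, M * s = s * M) → ∃ c : F, M = c • (1 : Matrix _ _ F))
  (h2 : (2 : F) ≠ 0)
  (hz : Nat.card (center R) = 2) (hcard : Nat.card R = 32)
  (hZ : ∀ ρ ∈ R, IsScal ρ → ρ = 1 ∨ ρ = -1)
  (hm : ∀ A : Subgroup R, IsMulCommutative A → (∀ x ∈ A, x * x = 1) → Nat.card A < 8)

include hX hirr h2 in
theorem not_PP_char (p : ℕ) [Fact p.Prime] [CharP F p] (hodd : Odd p) : ¬ PP R p := by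
  intro hP
  obtain ⟨v, hv⟩ : ∃ v : Fin 2 ⊕ Fin 2 → F, v = Pi.single (Sum.inl 0) 1 := ⟨_, rfl⟩
  have hv0 : v ≠ 0 := by
    intro h
    have := congrFun h (Sum.inl 0)
    rw [hv] at this
    simp at this
  have hmat : ∀ w : Fin 2 ⊕ Fin 2 → F, ((tvGL 2 w 1 : GL (Fin 2 ⊕ Fin 2) F) :
      Matrix (Fin 2 ⊕ Fin 2) (Fin 2 ⊕ Fin 2) F) = 1 + Matrix.vecMulVec w (Matrix.J (Fin 2) F *ᵥ w) := by
    intro w
    show sympTransvection 2 w 1 = _
    unfold sympTransvection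
    rw [one_smul]
  have hdot : ∀ w : Fin 2 ⊕ Fin 2 → F, (Matrix.J (Fin 2) F *ᵥ w) ⬝ᵥ w = 0 := by
    intro w
    rw [dotProduct_comm]
    exact sympForm_self 2 w
  have hNN : ∀ w : Fin 2 ⊕ Fin 2 → F, Matrix.vecMulVec w (Matrix.J (Fin 2) F *ᵥ w) *
      Matrix.vecMulVec w (Matrix.J (Fin 2) F *ᵥ w) = 0 := by
    intro w
    rw [Matrix.vecMulVec_mul_vecMulVec, hdot, zero_smul]
    ext i j
    simp [Matrix.vecMulVec_apply]
  have hp0 : ((p : ℕ) : F) = 0 := CharP.cast_eq_zero F p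
  have hxp : (tvGL 2 v 1 : GL (Fin 2 ⊕ Fin 2) F) ^ p = 1 := by
    apply Units.ext
    rw [Units.val_pow_eq_pow_val, hmat, one_add_pow_sq_zero _ (hNN v), hp0, zero_smul, add_zero,
      Units.val_one]
  have hns : ∀ z : F, ((tvGL 2 v 1 : GL (Fin 2 ⊕ Fin 2) F) :
      Matrix (Fin 2 ⊕ Fin 2) (Fin 2 ⊕ Fin 2) F) ≠ z • 1 := by
    intro z hz
    have h1 : ∀ w : Fin 2 ⊕ Fin 2 → F, z • w = w + (1 * sympForm 2 F w v) • v := by
      intro w
      rw [← tvGL_mulVec, hz, Matrix.smul_mulVec, Matrix.one_mulVec]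
    have hz1 : z = 1 := by
      have := h1 v
      rw [sympForm_self, mul_zero, zero_smul, add_zero] at this
      have h3 : (z - 1) • v = 0 := by rw [sub_smul, this, one_smul, sub_self]
      rcases smul_eq_zero.mp h3 with h | h
      · linear_combination h
      · exact absurd h hv0
    apply hv0
    have h3 : ∀ w, sympForm 2 F v w = 0 := by
      intro w
      have := h1 w
      rw [hz1, one_smul, one_mul] at this
      have h4 : sympForm 2 F w v • v = 0 := by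
        have : w + sympForm 2 F w v • v = w + 0 := by rw [add_zero]; exact this.symm
        exact add_left_cancel this
      rcases smul_eq_zero.mp h4 with h | h
      · rw [sympForm_swap, h, neg_zero]
      · exact absurd h hv0
    exact eq_zero_of_sympForm_right 2 v h3
  obtain ⟨g, hg, hgN, -, hgns⟩ := PP_apply hP (tvGL 2 v 1) (tvGL_mem 2 v 1) hxp hns
  have hconj := conj_tvGL 2 g⁻¹ (inv_mem hg) v 1
  rw [inv_inv] at hconj
  rw [hconj] at hgN hgns
  apply hgns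
  apply isScal_of_comm_all R hirr
  exact not_transv R hX h2 p hp0 hodd _ hgN _ _ (hdot _) (by simp) (hmat _)

include hX hirr h2 hz hcard in
theorem not_PP_ge_seven (r : ℕ) [hrp : Fact r.Prime] (hr7 : 7 ≤ r)
    (hdvd : r ∣ Nat.card (spGL 2 F)) [Finite (spGL 2 F)] : ¬ PP R r := by
  intro hP
  obtain ⟨x0, hx0⟩ := exists_prime_orderOf_dvd_card' r hdvd
  have hxr : (x0 : GL (Fin 2 ⊕ Fin 2) F) ^ r = 1 := by
    have := pow_orderOf_eq_one x0
    rw [hx0] at this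
    exact_mod_cast congrArg Subtype.val this
  have hns : ∀ z : F, ((x0 : GL (Fin 2 ⊕ Fin 2) F) :
      Matrix (Fin 2 ⊕ Fin 2) (Fin 2 ⊕ Fin 2) F) ≠ z • 1 := by
    intro z hz
    have hzz := sq_eq_one_of_scalar (by norm_num) (x0 : GL (Fin 2 ⊕ Fin 2) F) x0.2 z hz
    have h1 : x0 ^ 2 = 1 := by
      apply Subtype.ext
      apply Units.ext
      rw [Subgroup.coe_pow, Units.val_pow_eq_pow_val, hz, pow_two, smul_mul_smul_comm, hzz, one_mul,
        one_smul]
      rfl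
    have := orderOf_dvd_of_pow_eq_one h1
    rw [hx0] at this
    have := Nat.le_of_dvd (by norm_num) this
    omega
  obtain ⟨g, hg, hgN, hgr, hgns⟩ := PP_apply hP x0 x0.2 hxr hns
  apply hgns
  exact scal_of_prime_ge_seven R hX hirr h2 (by simp) 2 (Or.inl rfl) hz (by rw [hcard]) _ hgN r hr7
    (by rw [hgr]; exact isScal_one)

include hX hirr h2 hz hcard hZ hm in
theorem not_PP_three (h3 : (3 : F) ≠ 0) : ¬ PP R 3 := by
  intro hP
  obtain ⟨g, hg, hgN, hgr, hgns⟩ := PP_apply hP X3 X3_mem X3_cube X3_not_scalar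
  haveI : Fact (Nat.Prime 3) := ⟨by norm_num⟩
  obtain ⟨m, hm16, hmne, hcr, hdvd, htr⟩ := key' R hX hirr h2 (by simp) hz hcard _ hgN 3
    (by decide) hgr hgns
  rw [trace_conj, trace_conj_inv, X3_trace, X3_inv_trace, one_mul] at htr
  have hmle : m ≤ 16 := Nat.le_of_dvd (by norm_num) hm16
  have hcases : m = 1 ∨ m = 4 := by
    interval_cases m <;> first | omega | (exfalso; revert hm16; decide) | (exfalso; revert hdvd; decide)
  rcases hcases with rfl | rfl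
  · rw [mul_one] at hcr
    exact no_fpf3 R h2 hX hcard hZ hm _ hgN hgr (fix_of_card_two R hirr hz hZ _ hcr)
  · apply h3
    have : ((4 : ℕ) : F) = 4 := by norm_num
    rw [this] at htr
    linear_combination -htr

include hX hirr h2 hz hcard in
theorem not_PP_five (t : F) (ht : t ^ 2 + t - 1 = 0) (h5 : (5 : F) ≠ 0) : ¬ PP R 5 := by
  intro hP
  obtain ⟨g, hg, hgN, hgr, hgns⟩ := PP_apply hP (X5 t) (X5_mem t) (X5_pow t ht) (X5_not_scalar t)
  haveI : Fact (Nat.Prime 5) := ⟨by norm_num⟩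
  obtain ⟨m, hm16, hmne, hcr, hdvd, htr⟩ := key' R hX hirr h2 (by simp) hz hcard _ hgN 5
    (by decide) hgr hgns
  rw [trace_conj, trace_conj_inv, X5_trace, X5_inv_trace] at htr
  have hmle : m ≤ 16 := Nat.le_of_dvd (by norm_num) hm16
  have hcases : m = 1 := by
    interval_cases m <;> first | omega | (exfalso; revert hm16; decide) | (exfalso; revert hdvd; decide)
  rw [hcases, Nat.cast_one] at htr
  have h13 : (t + 1) * (t + 3) = 0 := by linear_combination htr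
  rcases mul_eq_zero.mp h13 with h | h
  · have ht1 : t = -1 := by linear_combination h
    rw [ht1] at ht
    have : (1 : F) = 0 := by linear_combination -ht
    exact one_ne_zero this
  · have ht3 : t = -3 := by linear_combination h
    rw [ht3] at ht
    apply h5
    linear_combination ht

end symp

end Cfsg.Agent.Lib.Helper8.Ext
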