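import Mathlib
import Cfsg.Prelude.Def_GeometricClasses
import Cfsg.Agent.Lib.Helper8.Exl6
import Cfsg.Agent.Lib.Helper8.Ext19

set_option autoImplicit false

/-! S6000, the forward direction -/

namespace Cfsg.Agent.Lib.Helper8.Ext

open scoped MatrixGroups Matrix
open Subgroup
open Cfsg.Agent.Lib.Helper5.SympTv Cfsg.Agent.Lib.Helper5.SpCentres
  Cfsg.Agent.Lib.Helper5.SympBridge

section gen
variable {ι : Type} [Fintype ι] [DecidableEq ι] {F : Type*} [Field F]

/-- the property of the statement, for the special linear group -/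
def PL (R : Subgroup (GL ι F)) (r : ℕ) : Prop :=
  ∀ x ∈ Cfsg.Geo.specialLinear ι F,
    (∃ z : F, ((x ^ r : GL ι F) : Matrix ι ι F) = z • (1 : Matrix ι ι F)) →
    (∀ z : F, (x : Matrix ι ι F) ≠ z • (1 : Matrix ι ι F)) →
    ∃ g ∈ Cfsg.Geo.specialLinear ι F, g⁻¹ * x * g ∈ Cfsg.Geo.subgroupNormalizer R

theorem PL_apply {R : Subgroup (GL ι F)} {r : ℕ} (hP : PL R r)
    (x : GL ι F) (hx : x ∈ Cfsg.Geo.specialLinear ι F) (hxr : x ^ r = 1) (hns : ¬ IsScal x) :
    ∃ g ∈ Cfsg.Geo.specialLinear ι F, g⁻¹ * x * g ∈ normalizer (R : Set (GL ι F)) ∧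
      (g⁻¹ * x * g) ^ r = 1 ∧ ¬ IsScal (g⁻¹ * x * g) := by
  obtain ⟨g, hg, hgN⟩ := hP x hx ⟨1, by rw [hxr]; simp⟩ (fun z hz => hns ⟨z, hz⟩)
  exact ⟨g, hg, hgN, conj_pow_one hxr, fun hs => hns (isScal_of_conj hs)⟩

variable [Nonempty ι] (R : Subgroup (GL ι F)) [Finite R] (hX : XS R)
  (hirr : ∀ M : Matrix ι ι F, (∀ s ∈ Cfsg.Geo.matrixSet R, M * s = s * M) →
    ∃ c : F, M = c • (1 : Matrix ι ι F))
  (h2 : (2 : F) ≠ 0) (hι : Fintype.card ι = 4)
  (hz : Nat.card (center R) = 4) (hcard : Nat.card R = 64)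

include hX hirr h2 hι hz hcard in
theorem key4 (x : GL ι F) (hx : x ∈ normalizer (R : Set (GL ι F))) (r : ℕ) [hrp : Fact r.Prime]
    (hr : Odd r) (hxr : x ^ r = 1) (hns : ¬ IsScal x) :
    ∃ m : ℕ, m ∣ 16 ∧ m ≠ 16 ∧ r ∣ 16 - m ∧
      Matrix.trace (x : Matrix ι ι F) * Matrix.trace ((x⁻¹ : GL ι F) : Matrix ι ι F) = (m : F) := by
  obtain ⟨m, h1, h3, h4, h5⟩ := key R hX hirr h2 hι 4 (Or.inr rfl) hz (by rw [hcard]) x hx r hr
    (by rw [hxr]; exact isScal_one)
  refine ⟨m, h1, ?_, h4, h5⟩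
  intro hm
  apply hns
  have htop : CR R x = ⊤ := by
    apply (Subgroup.card_eq_iff_eq_top _).mp
    rw [h3, hcard, hm]
  apply isScal_of_comm_all R hirr
  intro ρ hρ
  have : (⟨ρ, hρ⟩ : R) ∈ CR R x := htop ▸ Subgroup.mem_top _
  exact (mem_CR_iff R x _).mp this

include hX hirr h2 hι hz hcard in
theorem not_PL_ge_seven (r : ℕ) [hrp : Fact r.Prime] (hr7 : 7 ≤ r)
    (hdvd : r ∣ Nat.card (Cfsg.Geo.specialLinear ι F)) [Finite (Cfsg.Geo.specialLinear ι F)] :
    ¬ PL R r := by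
  intro hP
  obtain ⟨x0, hx0⟩ := exists_prime_orderOf_dvd_card' r hdvd
  have hxr : (x0 : GL ι F) ^ r = 1 := by
    have := pow_orderOf_eq_one x0
    rw [hx0] at this
    exact_mod_cast congrArg Subtype.val this
  have hns : ¬ IsScal (x0 : GL ι F) := by
    rintro ⟨z, hz'⟩
    have hz4 : z ^ 4 = 1 := by
      have := scalar_pow_card x0.2 1 z (by rw [pow_one]; exact hz')
      rwa [hι] at this
    have h1 : x0 ^ 4 = 1 := by
      apply Subtype.ext
      apply Units.ext
      rw [Subgroup.coe_pow, Units.val_pow_eq_pow_val, hz', smul_pow, one_pow, hz4, one_smul]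
      rfl
    have := orderOf_dvd_of_pow_eq_one h1
    rw [hx0] at this
    have := Nat.le_of_dvd (by norm_num) this
    omega
  obtain ⟨g, hg, hgN, hgr, hgns⟩ := PL_apply hP x0 x0.2 hxr hns
  exact hgns (scal_of_prime_ge_seven R hX hirr h2 hι 4 (Or.inr rfl) hz (by rw [hcard]) _ hgN r hr7
    (by rw [hgr]; exact isScal_one))

include hX hirr h2 hι in
theorem not_PL_char (p : ℕ) [Fact p.Prime] [CharP F p] (hodd : Odd p) (i j : ι) (hij : i ≠ j) :
    ¬ PL R p := by
  intro hP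
  have hp0 : ((p : ℕ) : F) = 0 := CharP.cast_eq_zero F p
  have hιF : ((Fintype.card ι : ℕ) : F) = 4 := by rw [hι]; norm_num
  obtain ⟨E, hE⟩ : ∃ E : Matrix ι ι F, E = Matrix.single i j 1 := ⟨_, rfl⟩
  have hEE : E * E = 0 := by
    rw [hE]
    apply Matrix.single_mul_single_of_ne
    exact hij.symm
  have hEtr : Matrix.trace E = 0 := by
    rw [hE]
    exact Matrix.trace_single_eq_of_ne _ _ _ hij
  have hErank : ∀ B : Matrix ι ι F, E * B * E = Matrix.trace (E * B) • E := by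
    intro B
    rw [hE, Matrix.single_mul_mul_single, Matrix.trace_single_mul, Matrix.smul_single]
    simp
  obtain ⟨x0, hx0⟩ : ∃ x0 : GL ι F, (x0 : Matrix ι ι F) = 1 + E := by
    refine ⟨⟨1 + E, 1 - E, ?_, ?_⟩, rfl⟩
    · have : (1 + E) * (1 - E) = 1 - E * E := by noncomm_ring
      rw [this, hEE, sub_zero]
    · have : (1 - E) * (1 + E) = 1 - E * E := by noncomm_ring
      rw [this, hEE, sub_zero]
  have hxS : x0 ∈ Cfsg.Geo.specialLinear ι F := by
    show x0 ∈ (Matrix.GeneralLinearGroup.det : GL ι F →* Fˣ).ker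
    rw [MonoidHom.mem_ker]
    apply Units.ext
    rw [Matrix.GeneralLinearGroup.val_det_apply, hx0, hE, Units.val_one]
    exact Matrix.det_transvection_of_ne i j hij 1
  have hxp : x0 ^ p = 1 := by
    apply Units.ext
    rw [Units.val_pow_eq_pow_val, hx0, one_add_pow_sq_zero _ hEE, hp0, zero_smul, add_zero,
      Units.val_one]
  have hns : ¬ IsScal x0 := by
    rintro ⟨z, hz'⟩
    have := congrFun (congrFun hz' i) j
    rw [hx0, hE] at this
    simp [Matrix.one_apply_ne hij] at this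
  obtain ⟨g, hg, hgN, hgr, hgns⟩ := PL_apply hP x0 hxS hxp hns
  apply hgns
  apply isScal_of_comm_all R hirr
  obtain ⟨G, hG⟩ : ∃ G : Matrix ι ι F, G = (g : Matrix ι ι F) := ⟨_, rfl⟩
  obtain ⟨G', hG'⟩ : ∃ G' : Matrix ι ι F, G' = ((g⁻¹ : GL ι F) : Matrix ι ι F) := ⟨_, rfl⟩
  have h1 : G * G' = 1 := by rw [hG, hG', ← Units.val_mul, mul_inv_cancel, Units.val_one]
  have h1' : G' * G = 1 := by rw [hG, hG', ← Units.val_mul, inv_mul_cancel, Units.val_one]
  have hNN : (G' * E * G) * (G' * E * G) = 0 := by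
    have : (G' * E * G) * (G' * E * G) = G' * (E * (G * G') * E) * G := by simp only [mul_assoc]
    rw [this, h1, mul_one, hEE, mul_zero, zero_mul]
  have htr : Matrix.trace (G' * E * G) = 0 := by
    rw [Matrix.trace_mul_cycle, h1, one_mul, hEtr]
  have hrank : ∀ B : Matrix ι ι F,
      (G' * E * G) * B * (G' * E * G) = Matrix.trace ((G' * E * G) * B) • (G' * E * G) := by
    intro B
    have e1 : (G' * E * G) * B * (G' * E * G) = G' * (E * (G * B * G') * E) * G := by
      simp only [mul_assoc]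
    have e2 : Matrix.trace ((G' * E * G) * B) = Matrix.trace (E * (G * B * G')) := by
      have : (G' * E * G) * B = G' * (E * G * B) := by simp only [mul_assoc]
      rw [this, Matrix.trace_mul_comm]
      simp only [mul_assoc]
    rw [e1, e2, hErank, Matrix.mul_smul, Matrix.smul_mul]
  have hxm : ((g⁻¹ * x0 * g : GL ι F) : Matrix ι ι F) = 1 + G' * E * G := by
    rw [Units.val_mul, Units.val_mul, hx0, ← hG, ← hG', mul_add, add_mul, mul_one, h1']
  exact not_transv' R hX h2 p hp0 hodd _ hgN _ hNN htr hrank hιF hxm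

end gen

section reidx
variable {ι κ : Type} [Fintype ι] [DecidableEq ι] [Fintype κ] [DecidableEq κ] {F : Type*} [Field F]

/-- reindexing of `GL` -/
noncomputable def reGL (e : ι ≃ κ) : GL ι F →* GL κ F :=
  Units.map (MonoidHomClass.toMonoidHom (Matrix.reindexAlgEquiv F F e))

theorem reGL_val (e : ι ≃ κ) (u : GL ι F) :
    ((reGL e u : GL κ F) : Matrix κ κ F) = Matrix.reindex e e (u : Matrix ι ι F) := rfl

theorem reGL_trace (e : ι ≃ κ) (u : GL ι F) :
    Matrix.trace ((reGL e u : GL κ F) : Matrix κ κ F) = Matrix.trace (u : Matrix ι ι F) := by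
  rw [reGL_val]
  simp only [Matrix.trace, Matrix.diag, Matrix.reindex_apply, Matrix.submatrix_apply]
  exact Equiv.sum_comp e.symm (fun i => (u : Matrix ι ι F) i i)

theorem reGL_det (e : ι ≃ κ) (u : GL ι F) :
    ((reGL e u : GL κ F) : Matrix κ κ F).det = (u : Matrix ι ι F).det := by
  rw [reGL_val]
  exact Matrix.det_reindex_self e _

theorem reGL_not_scalar (e : ι ≃ κ) (u : GL ι F) (h : ¬ IsScal u) : ¬ IsScal (reGL e u) := by
  rintro ⟨z, hz⟩
  apply h
  refine ⟨z, ?_⟩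
  rw [reGL_val] at hz
  have := congrArg (Matrix.reindex e.symm e.symm) hz
  rw [Matrix.reindex_apply, Matrix.reindex_apply, Matrix.submatrix_submatrix] at this
  have h4 : ((z • (1 : Matrix κ κ F)).submatrix e e) = z • 1 := by
    ext i j
    simp [Matrix.one_apply]
  simpa [h4] using this

end reidx

section small
variable {F : Type*} [Field F] (R : Subgroup (GL (Fin 4) F)) [Finite R] (hX : XS R)
  (hirr : ∀ M : Matrix (Fin 4) (Fin 4) F, (∀ s ∈ Cfsg.Geo.matrixSet R, M * s = s * M) →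
    ∃ c : F, M = c • (1 : Matrix (Fin 4) (Fin 4) F))
  (h2 : (2 : F) ≠ 0)
  (hz : Nat.card (center R) = 4) (hcard : Nat.card R = 64)

include hX hirr h2 hz hcard in
theorem not_PL_three (ω : F) (hω : ω ^ 2 + ω + 1 = 0) (h3 : (3 : F) ≠ 0) : ¬ PL R 3 := by
  intro hP
  have hω3 : ω ^ 3 = 1 := by linear_combination (ω - 1) * hω
  have hω1 : ω ≠ 1 := by
    rintro rfl
    apply h3
    linear_combination hω
  obtain ⟨D, hD⟩ : ∃ D : Matrix (Fin 4) (Fin 4) F, D = Matrix.diagonal ![ω, ω, ω, 1] := ⟨_, rfl⟩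
  obtain ⟨D', hD'⟩ : ∃ D' : Matrix (Fin 4) (Fin 4) F,
    D' = Matrix.diagonal ![ω ^ 2, ω ^ 2, ω ^ 2, 1] := ⟨_, rfl⟩
  have hDD' : D * D' = 1 := by
    rw [hD, hD', Matrix.diagonal_mul_diagonal, ← Matrix.diagonal_one]
    congr 1
    funext i
    fin_cases i <;> simp <;> linear_combination hω3
  have hD'D : D' * D = 1 := by
    rw [hD, hD', Matrix.diagonal_mul_diagonal, ← Matrix.diagonal_one]
    congr 1
    funext i
    fin_cases i <;> simp <;> linear_combination hω3
  obtain ⟨x0, hx0, hx0'⟩ : ∃ x0 : GL (Fin 4) F, (x0 : Matrix (Fin 4) (Fin 4) F) = D ∧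
      ((x0⁻¹ : GL (Fin 4) F) : Matrix (Fin 4) (Fin 4) F) = D' := ⟨⟨D, D', hDD', hD'D⟩, rfl, rfl⟩
  have hxS : x0 ∈ Cfsg.Geo.specialLinear (Fin 4) F := by
    show x0 ∈ (Matrix.GeneralLinearGroup.det : GL (Fin 4) F →* Fˣ).ker
    rw [MonoidHom.mem_ker]
    apply Units.ext
    rw [Matrix.GeneralLinearGroup.val_det_apply, hx0, hD, Units.val_one, Matrix.det_diagonal,
      Fin.prod_univ_four]
    simp
    linear_combination hω3
  have hx3 : x0 ^ 3 = 1 := by
    apply Units.ext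
    rw [Units.val_pow_eq_pow_val, hx0, hD, Matrix.diagonal_pow, Units.val_one, ← Matrix.diagonal_one]
    congr 1
    funext i
    fin_cases i <;> simp [hω3]
  have hns : ¬ IsScal x0 := by
    rintro ⟨z, hz'⟩
    rw [hx0, hD] at hz'
    have e0 := congrFun (congrFun hz' 0) 0
    have e3 := congrFun (congrFun hz' 3) 3
    simp at e0 e3
    apply hω1
    rw [e0, ← e3]
  obtain ⟨g, hg, hgN, hgr, hgns⟩ := PL_apply hP x0 hxS hx3 hns
  haveI : Fact (Nat.Prime 3) := ⟨by norm_num⟩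
  obtain ⟨m, hm16, hmne, hdvd, htr⟩ := key4 R hX hirr h2 (by simp) hz hcard _ hgN 3
    (by decide) hgr hgns
  rw [trace_conj, trace_conj_inv, hx0, hx0', hD, hD', Matrix.trace_diagonal, Matrix.trace_diagonal,
    Fin.sum_univ_four, Fin.sum_univ_four] at htr
  simp at htr
  have hmle : m ≤ 16 := Nat.le_of_dvd (by norm_num) hm16
  have hcases : m = 1 ∨ m = 4 := by
    interval_cases m <;> first | omega | (exfalso; revert hm16; decide) | (exfalso; revert hdvd; decide)
  rcases hcases with rfl | rfl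
  · apply h3
    have h6 : (2 : F) * 3 = 0 := by
      rw [Nat.cast_one] at htr
      linear_combination htr - 9 * hω3 - 3 * hω
    rcases mul_eq_zero.mp h6 with h | h
    · exact absurd h h2
    · exact h
  · apply h3
    have : ((4 : ℕ) : F) = 4 := by norm_num
    rw [this] at htr
    linear_combination htr - 9 * hω3 - 3 * hω

include hX hirr h2 hz hcard in
theorem not_PL_five (t : F) (ht : t ^ 2 + t - 1 = 0) (h5 : (5 : F) ≠ 0) : ¬ PL R 5 := by
  intro hP
  obtain ⟨e⟩ : Nonempty (Fin 2 ⊕ Fin 2 ≃ Fin 4) := ⟨Fintype.equivFinOfCardEq (by simp)⟩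
  obtain ⟨x0, hx0⟩ : ∃ x0 : GL (Fin 4) F, x0 = reGL e (X5 t) := ⟨_, rfl⟩
  have hxS : x0 ∈ Cfsg.Geo.specialLinear (Fin 4) F := by
    show x0 ∈ (Matrix.GeneralLinearGroup.det : GL (Fin 4) F →* Fˣ).ker
    rw [MonoidHom.mem_ker]
    apply Units.ext
    rw [Matrix.GeneralLinearGroup.val_det_apply, hx0, reGL_det, Units.val_one]
    have := X5_mem t
    rw [mem_spGL_iff] at this
    exact SymplecticGroup.det_eq_one ((mem_symplectic_iff 2 _).mpr this)
  have hx5 : x0 ^ 5 = 1 := by rw [hx0, ← map_pow, X5_pow t ht, map_one]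
  have hns : ¬ IsScal x0 := by
    rw [hx0]
    apply reGL_not_scalar
    rintro ⟨z, hz'⟩
    exact X5_not_scalar t z hz'
  obtain ⟨g, hg, hgN, hgr, hgns⟩ := PL_apply hP x0 hxS hx5 hns
  haveI : Fact (Nat.Prime 5) := ⟨by norm_num⟩
  obtain ⟨m, hm16, hmne, hdvd, htr⟩ := key4 R hX hirr h2 (by simp) hz hcard _ hgN 5
    (by decide) hgr hgns
  have hinv : x0⁻¹ = reGL e (X5 t)⁻¹ := by rw [hx0, map_inv]
  rw [trace_conj, trace_conj_inv, hinv, hx0, reGL_trace, reGL_trace, X5_trace, X5_inv_trace] at htr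
  have hmle : m ≤ 16 := Nat.le_of_dvd (by norm_num) hm16
  have hcases : m = 1 := by
    interval_cases m <;> first | omega | (exfalso; revert hm16; decide) | (exfalso; revert hdvd; decide)
  rw [hcases, Nat.cast_one] at htr
  have h13 : (t + 1) * (t + 3) = 0 := by linear_combination htr
  rcases mul_eq_zero.mp h13 with h | h
  · have ht1 : t = -1 := by linear_combination h
    rw [ht1] at ht
    have : (1 : F) = 0 := by linear_combination -ht
    exact one_ne_zero this
  · have ht3 : t = -3 := by linear_combination h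
    rw [ht3] at ht
    apply h5
    linear_combination ht

end small

end Cfsg.Agent.Lib.Helper8.Ext
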