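import Mathlib
import Cfsg.Prelude.Def_GeometricClasses
import Cfsg.Agent.Lib.Helper8.Ext19

set_option autoImplicit false

/-! S6002: the main theorem -/

namespace Cfsg.Agent.Lib.Helper8.Ext

open scoped MatrixGroups Matrix
open Subgroup Cfsg Polynomial
open Cfsg.Agent.Lib.Helper5.SympTv Cfsg.Agent.Lib.Helper5.SpCentres
  Cfsg.Agent.Lib.Helper5.SympBridge

theorem orderOf_two_zmod5 : orderOf (2 : ZMod 5) = 4 := by
  rw [orderOf_eq_iff (by norm_num)]
  refine ⟨by decide, ?_⟩
  intro m hm hm0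
  interval_cases m <;> decide

theorem orderOf_three_zmod5 : orderOf (3 : ZMod 5) = 4 := by
  rw [orderOf_eq_iff (by norm_num)]
  refine ⟨by decide, ?_⟩
  intro m hm hm0
  interval_cases m <;> decide

theorem mod_five_cases (p : ℕ) (hp : p.Prime) (hp5 : p ≠ 5) (hord : orderOf (p : ZMod 5) ≠ 4) :
    p % 5 = 1 ∨ p % 5 = 4 := by
  have hlt : p % 5 < 5 := Nat.mod_lt _ (by norm_num)
  have hcast : (p : ZMod 5) = ((p % 5 : ℕ) : ZMod 5) := (ZMod.natCast_mod p 5).symm
  have h0 : p % 5 ≠ 0 := by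
    intro h
    have h5 : 5 ∣ p := Nat.dvd_of_mod_eq_zero h
    exact hp5 ((Nat.prime_dvd_prime_iff_eq (by norm_num) hp).mp h5).symm
  interval_cases h : p % 5
  · exact absurd rfl h0
  · left; rfl
  · exfalso; apply hord; rw [hcast]; exact_mod_cast orderOf_two_zmod5
  · exfalso; apply hord; rw [hcast]; exact_mod_cast orderOf_three_zmod5
  · right; rfl

theorem main6002 {F : Type*} [Field F] [Fintype F] {p : ℕ} [Fact p.Prime] [CharP F p]
    (hF : Fintype.card F = p) (hodd : Odd p)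
    (R : Subgroup (GL (Fin 2 ⊕ Fin 2) F)) (hRs : Cfsg.Geo.IsSymplecticTypeGroup 2 R)
    (hRi : Cfsg.Geo.ActsAbsolutelyIrreducibly (Cfsg.Geo.matrixSet R))
    (hRf : R ≤ Cfsg.spGL 2 F) (hR5 : Nat.card R = 2 ^ 5) (hRZ : Nat.card (Subgroup.center R) = 2)
    (hRm : Cfsg.Geo.IsOfMinusType 2 R)
    (r : ℕ) [hrp : Fact r.Prime]
    (hΩ : r ∣ (Cfsg.Geo.subgroupNormalizer R).relIndex (Cfsg.spGL 2 F)) :
    PP R r ↔ (r = 2 ∨ (r = 5 ∧ orderOf (p : ZMod 5) = 4)) := by
  have h2 : (2 : F) ≠ 0 := two_ne_zero_of_odd p hodd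
  haveI : Finite R := inferInstance
  haveI : Finite (spGL 2 F) := inferInstance
  have hcard : Nat.card R = 32 := by rw [hR5]; norm_num
  have hS : SType R := by
    refine ⟨fun g => ?_, hRs.cyclic_of_characteristic⟩
    have := Monoid.pow_exponent_eq_one g
    rw [hRs.exponent_eq] at this
    exact this
  have hK : KK R = ⊤ := hS.KK_eq_top_of_card_32 hcard hRZ
  have hirr := hRi.2
  have hX : XS R := xs_of R hS hK hirr (by rw [hRZ])
  have hZ : ∀ ρ ∈ R, IsScal ρ → ρ = 1 ∨ ρ = -1 := by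
    intro ρ hρ hs
    have hc : (⟨ρ, hρ⟩ : R) ∈ center R := isScal_central R ⟨ρ, hρ⟩ hs
    have h1 : (⟨⟨ρ, hρ⟩, hc⟩ : center R) ^ 2 = 1 := by
      have := pow_card_eq_one' (G := center R) (x := ⟨⟨ρ, hρ⟩, hc⟩)
      rwa [hRZ] at this
    have h3 : ρ * ρ = 1 := by
      have := congrArg (fun g : center R => ((g : R) : GL (Fin 2 ⊕ Fin 2) F)) h1
      simpa [pow_two] using this
    exact scal_sq ρ hs h3
  have hm : ∀ A : Subgroup R, IsMulCommutative A → (∀ x ∈ A, x * x = 1) → Nat.card A < 8 := by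
    intro A hA1 hA2
    have := hRm A hA1 hA2
    simpa using this
  have hdvd : r ∣ Nat.card (spGL 2 F) := hΩ.trans (Subgroup.relIndex_dvd_card _ _)
  constructor
  · intro hP
    by_cases hr2 : r = 2
    · left; exact hr2
    right
    by_cases hrp' : r = p
    · exfalso
      subst hrp'
      exact not_PP_char R hX hirr h2 r hodd hP
    have hFr : ((r : ℕ) : F) ≠ 0 := by
      intro h
      have h3 := (CharP.cast_eq_zero_iff F p r).mp h
      exact hrp' ((Nat.prime_dvd_prime_iff_eq (Fact.out : p.Prime) hrp.out).mp h3).symm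
    by_cases hr3 : r = 3
    · exfalso
      subst hr3
      exact not_PP_three R hX hirr h2 hRZ hcard hZ hm (by exact_mod_cast hFr) hP
    by_cases hr5 : r = 5
    · subst hr5
      by_cases hord : orderOf (p : ZMod 5) = 4
      · exact ⟨rfl, hord⟩
      exfalso
      have hp5 : p ≠ 5 := fun h => hrp' h.symm
      have hp2 : p ≠ 2 := by
        rintro rfl
        exact absurd hodd (by decide)
      obtain ⟨t, ht⟩ := exists_golden (F := F) p hp2 (mod_five_cases p Fact.out hp5 hord)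
      exact not_PP_five R hX hirr h2 hRZ hcard t ht (by exact_mod_cast hFr) hP
    exfalso
    have hr7 : 7 ≤ r := by
      by_contra hlt
      push Not at hlt
      have hpr := hrp.out
      interval_cases r <;> first | omega | (revert hpr; decide)
    exact not_PP_ge_seven R hX hirr h2 hRZ hcard r hr7 hdvd hP
  · rintro (rfl | ⟨rfl, hord⟩)
    · exact back_two p hodd R hRf hX hcard hZ hm
    · exact back_five p hF hodd R hRf hX hcard hZ hm hord

end Cfsg.Agent.Lib.Helper8.Ext
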