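import Mathlib
import Cfsg.Prelude.Def_GeometricClasses
import Cfsg.Agent.Lib.Helper8.Exl7
import Cfsg.Agent.Lib.Helper8.Ext20

set_option autoImplicit false

/-! S6000: the main theorem -/

namespace Cfsg.Agent.Lib.Helper8.Ext

open scoped MatrixGroups Matrix
open Subgroup Cfsg Polynomial

theorem exists_omega {F : Type*} [Field F] [Fintype F] (h3 : (3 : F) ≠ 0)
    (hcard : Fintype.card F % 3 = 1) : ∃ ω : F, ω ^ 2 + ω + 1 = 0 := by
  classical
  haveI : Fact (Nat.Prime 3) := ⟨by norm_num⟩
  have hdvd : 3 ∣ Fintype.card Fˣ := by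
    rw [Fintype.card_units]
    have := Fintype.card_pos (α := F)
    omega
  obtain ⟨u, hu⟩ := exists_prime_orderOf_dvd_card 3 hdvd
  have hu3 : (u : F) ^ 3 = 1 := by
    have := pow_orderOf_eq_one u
    rw [hu] at this
    have h4 := congrArg Units.val this
    rwa [Units.val_pow_eq_pow_val, Units.val_one] at h4
  have hu1 : (u : F) ≠ 1 := by
    intro h
    have : u = 1 := Units.ext h
    rw [this, orderOf_one] at hu
    omega
  refine ⟨(u : F), ?_⟩
  have h0 : ((u : F) - 1) * ((u : F) ^ 2 + (u : F) + 1) = 0 := by linear_combination hu3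
  rcases mul_eq_zero.mp h0 with h | h
  · exact absurd (sub_eq_zero.mp h) hu1
  · exact h

theorem main6000 {F : Type*} [Field F] [Fintype F] {p : ℕ} [Fact p.Prime] [CharP F p]
    (hF : Fintype.card F = p) (hp4 : p % 4 = 1)
    (R : Subgroup (GL (Fin 4) F)) (hR : Cfsg.Geo.IsLinearSymplecticTypeData 2 R)
    (hR6 : Nat.card R = 2 ^ 6)
    (r : ℕ) [hrp : Fact r.Prime]
    (hΩ : r ∣ (Cfsg.Geo.subgroupNormalizer R).relIndex (Cfsg.Geo.specialLinear (Fin 4) F)) :
    PL R r ↔ (r = 2 ∨ (r = 3 ∧ p % 3 = 2) ∨ (r = 5 ∧ orderOf (p : ZMod 5) = 4)) := by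
  have hp5 : 5 ≤ p := five_le_p hp4
  have h2 : (2 : F) ≠ 0 := by
    exact_mod_cast natCast_ne_zero_of_lt (F := F) hp4 2 (by norm_num) (by norm_num)
  have h3 : (3 : F) ≠ 0 := by
    exact_mod_cast natCast_ne_zero_of_lt (F := F) hp4 3 (by norm_num) (by norm_num)
  have hodd : Odd p := by
    rw [Nat.odd_iff]
    omega
  haveI : Finite R := inferInstance
  haveI : Finite (Cfsg.Geo.specialLinear (Fin 4) F) := inferInstance
  have hcard : Nat.card R = 64 := by rw [hR6]; norm_num
  have hRs := hR.symplecticType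
  have hS : SType R := by
    refine ⟨fun g => ?_, hRs.cyclic_of_characteristic⟩
    have := Monoid.pow_exponent_eq_one g
    rw [hRs.exponent_eq] at this
    exact this
  have hRZ : Nat.card (center R) = 4 := by
    obtain ⟨p', e, hne, hmin, h | h | h⟩ := hR.field
    · exact absurd h.1 (by decide)
    · exact h.2.2.1
    · have := h.2.2.1
      simp at this
  have hK : KK R = ⊤ := hS.KK_eq_top_of_center_four hRZ
  have hirr := hR.absIrred.2
  have hX : XS R := xs_of R hS hK hirr (by rw [hRZ]; decide)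
  obtain ⟨ζ, a, b, a', b', hQ⟩ := exists_QQ R h2 hX hcard hRZ hirr
  have hdvd : r ∣ Nat.card (Cfsg.Geo.specialLinear (Fin 4) F) :=
    hΩ.trans (Subgroup.relIndex_dvd_card _ _)
  constructor
  · intro hP
    by_cases hr2 : r = 2
    · left; exact hr2
    right
    by_cases hrp' : r = p
    · exfalso
      subst hrp'
      exact not_PL_char R hX hirr h2 (by simp) r hodd 0 1 (by decide) hP
    have hFr : ((r : ℕ) : F) ≠ 0 := by
      intro h
      have h3 := (CharP.cast_eq_zero_iff F p r).mp h
      exact hrp' ((Nat.prime_dvd_prime_iff_eq (Fact.out : p.Prime) hrp.out).mp h3).symm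
    by_cases hr3 : r = 3
    · subst hr3
      left
      refine ⟨rfl, ?_⟩
      by_contra hne
      have hp3 : p % 3 ≠ 0 := by
        intro h
        have h3' : 3 ∣ p := Nat.dvd_of_mod_eq_zero h
        have := (Nat.prime_dvd_prime_iff_eq (by norm_num) (Fact.out : p.Prime)).mp h3'
        omega
      have hp31 : p % 3 = 1 := by omega
      obtain ⟨ω, hω⟩ := exists_omega (F := F) h3 (by rw [hF]; exact hp31)
      exact not_PL_three R hX hirr h2 hRZ hcard ω hω h3 hP
    by_cases hr5 : r = 5
    · subst hr5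
      right
      by_cases hord : orderOf (p : ZMod 5) = 4
      · exact ⟨rfl, hord⟩
      exfalso
      have hp5' : p ≠ 5 := fun h => hrp' h.symm
      have hp2 : p ≠ 2 := by omega
      obtain ⟨t, ht⟩ := exists_golden (F := F) p hp2 (mod_five_cases p Fact.out hp5' hord)
      exact not_PL_five R hX hirr h2 hRZ hcard t ht (by exact_mod_cast hFr) hP
    exfalso
    have hr7 : 7 ≤ r := by
      by_contra hlt
      push Not at hlt
      have hpr := hrp.out
      interval_cases r <;> first | omega | (revert hpr; decide)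
    exact not_PL_ge_seven R hX hirr h2 (by simp) hRZ hcard r hr7 hdvd hP
  · rintro (rfl | ⟨rfl, hp3⟩ | ⟨rfl, hord⟩)
    · exact back2 hF hp4 hX hQ
    · exact back3 hF hp4 hX hQ hp3
    · exact back5 hF hp4 hX hQ hord

end Cfsg.Agent.Lib.Helper8.Ext
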