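import Mathlib
import Cfsg.Agent.Lib.Helper8.ExtLayer2
import Cfsg.Agent.Lib.Helper8.SigFun
import Cfsg.Agent.Lib.Helper7.PGroupComm
import Cfsg.Agent.Lib.Helper1.SubnormalSylow
set_option autoImplicit false
set_option linter.style.haveILetI false

namespace Cfsg.Agent.Lib.Helper8.ExtLayer

open Cfsg Cfsg.Agent.Lib.Helper8.PComp Cfsg.Agent.Lib.Helper8.CoreIn

variable {X : Type*} [Group X]

theorem not_two_dvd_of_coprime {n : ℕ} (h : n.Coprime 2) : ¬ 2 ∣ n := by
  intro hd
  have := Nat.eq_one_of_dvd_coprimes h hd (dvd_refl 2)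
  omega

theorem not_two_dvd_card_DT [Finite X] (T : Sylow 2 ↥(RR X)) : ¬ 2 ∣ Nat.card ↥(DT T) :=
  not_two_dvd_of_coprime (coreIn_card_coprime 2 _)

theorem not_two_dvd_card_oddCore [Finite X] : ¬ 2 ∣ Nat.card ↥(oddCore X) :=
  not_two_dvd_of_coprime (Cfsg.Agent.Lib.Helper1.pPrimeCore_card_coprime 2)

/-- A Sylow `2`-subgroup of `RR X` is the intersection with a Sylow `2`-subgroup of `X`. -/
theorem T1_eq_inf [Finite X] (T : Sylow 2 ↥(RR X)) (S : Sylow 2 X)
    (hS : T1 T ≤ (S : Subgroup X)) : T1 T = (S : Subgroup X) ⊓ RR X := by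
  have hp : IsPGroup 2 ↥(((S : Subgroup X) ⊓ RR X).subgroupOf (RR X)) :=
    (S.2.to_le inf_le_left).comap_subtype
  have hle : (T : Subgroup ↥(RR X)) ≤ ((S : Subgroup X) ⊓ RR X).subgroupOf (RR X) := by
    intro x hx
    rw [Subgroup.mem_subgroupOf]
    exact ⟨hS ⟨x, hx, rfl⟩, x.2⟩
  have h := T.is_maximal' hp hle
  unfold T1
  have h2 : (T : Subgroup ↥(RR X)) = ((S : Subgroup X) ⊓ RR X).subgroupOf (RR X) := h.symm
  rw [h2, Subgroup.subgroupOf_map_subtype, inf_assoc, inf_idem]

theorem sylow_le_normalizer_T1 [Finite X] (T : Sylow 2 ↥(RR X)) (S : Sylow 2 X)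
    (hS : T1 T ≤ (S : Subgroup X)) :
    (S : Subgroup X) ≤ Subgroup.normalizer ((T1 T : Subgroup X) : Set X) := by
  rw [T1_eq_inf T S hS]
  apply Cfsg.Agent.Lib.Helper1.le_normalizer_inf Subgroup.le_normalizer
  rw [Subgroup.normalizer_eq_top]
  exact le_top

/-- The extended `2`-layer is `L_{2'}(X) F` with `F` of odd order normalized by a Sylow
`2`-subgroup. -/
theorem extendedTwoLayer_odd_complement [Finite X] :
    ∃ F : Subgroup X, Odd (Nat.card ↥F) ∧
      (∃ S : Sylow 2 X, (S : Subgroup X) ≤ Subgroup.normalizer (F : Set X)) ∧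
      extendedTwoLayer X = pLayer 2 X ⊔ F := by
  obtain T : Sylow 2 ↥(RR X) := default
  refine ⟨oddCore X ⊔ DT T, ?_, ?_, ?_⟩
  · have hn : DT T ≤ Subgroup.normalizer ((oddCore X : Subgroup X) : Set X) := by
      rw [Subgroup.normalizer_eq_top]; exact le_top
    have h := Cfsg.Agent.Lib.Helper8.SigFun.not_dvd_card_sup (p := 2) hn
      not_two_dvd_card_oddCore (not_two_dvd_card_DT T)
    rw [Nat.odd_iff]
    omega
  · have hTp : IsPGroup 2 ↥(T1 T) := T.2.map _
    obtain ⟨S, hS⟩ := hTp.exists_le_sylow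
    refine ⟨S, ?_⟩
    apply Cfsg.Agent.Lib.Helper7.le_normalizer_sup
    · rw [Subgroup.normalizer_eq_top]; exact le_top
    · exact (sylow_le_normalizer_T1 T S hS).trans (normalizer_T1_le T)
  · rw [extendedTwoLayer_eq_of_sylow T, sup_assoc]

/-- The subgroup of elements of `K` whose image centralizes the image of `K`. -/
theorem DT_le_normalizer [Finite X] (T : Sylow 2 ↥(RR X)) {K : Subgroup X}
    (hK : IsPComponent 2 K) : DT T ≤ Subgroup.normalizer (K : Set X) := by
  set π := QuotientGroup.mk' (pPrimeCore 2 X) with hπ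
  apply le_normalizer_of_map_le hK
  rintro _ ⟨d, hd, rfl⟩
  have hdC : d ∈ Subgroup.centralizer ((T1 T : Subgroup X) : Set X) := coreIn_le 2 _ hd
  rw [Subgroup.mem_normalizer_iff_map_conj_eq]
  have hc' : IsComponent ((K.map π).map (MulAut.conj (π d)).toMonoidHom) :=
    Cfsg.Agent.Lib.Helper2.isComponent_conj _ hK.2.1
  rcases Cfsg.Agent.Lib.Helper2.isComponent_eq_or_commutator_eq_bot hK.2.1 hc' with h | h
  · exact h.symm
  · exfalso
    -- a Sylow 2-subgroup of X containing T
    have hTp : IsPGroup 2 ↥(T1 T) := T.2.map _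
    obtain ⟨S, hS⟩ := hTp.exists_le_sylow
    have hT1 := T1_eq_inf T S hS
    obtain ⟨Q, hQ⟩ := Cfsg.Agent.Lib.Helper1.subnormal_inf_sylow 2 K hK.1 S
    -- the subgroup of K acting trivially on the image of K
    set Z : Subgroup X := K ⊓ (Subgroup.centralizer ((K.map π : Subgroup _) : Set _)).comap π
      with hZ
    have hKR : K ≤ RR X := (le_pLayer hK).trans le_sup_left
    have hSK : (S : Subgroup X) ⊓ K ≤ Z := by
      intro t ht
      refine ⟨ht.2, Subgroup.mem_comap.2 ?_⟩
      have htT : t ∈ T1 T := by rw [hT1]; exact ⟨ht.1, hKR ht.2⟩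
      have hdt : d * t = t * d := (Subgroup.mem_centralizer_iff.1 hdC t htT).symm
      have h1 : π t ∈ (K.map π).map (MulAut.conj (π d)).toMonoidHom := by
        refine ⟨π t, ⟨t, ht.2, rfl⟩, ?_⟩
        simp only [MulEquiv.coe_toMonoidHom, MulAut.conj_apply]
        rw [← map_mul, ← map_inv, ← map_mul, hdt]
        congr 1
        group
      rw [Subgroup.commutator_comm, Subgroup.commutator_eq_bot_iff_le_centralizer] at h
      exact h h1
    have hZK : Z ≤ K := inf_le_left
    have hn : K ≤ Subgroup.normalizer (Z : Set X) := by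
      apply Cfsg.Agent.Lib.Helper1.le_normalizer_inf Subgroup.le_normalizer
      intro k hk
      have h1 := Cfsg.Agent.Lib.Helper7.normalizer_le_normalizer_centralizer (K.map π)
          (Subgroup.le_normalizer (Subgroup.mem_map_of_mem π hk))
      have h2 := Subgroup.le_normalizer_comap π (Subgroup.mem_comap.2 h1)
      exact h2
    have hidx : (Z.relIndex K).Coprime 2 := by
      have h1 : (Q : Subgroup ↥K) ≤ Z.subgroupOf K := by
        rw [hQ]
        intro x hx
        rw [Subgroup.mem_subgroupOf] at hx ⊢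
        exact hSK ⟨hx, x.2⟩
      have h2 : (Z.subgroupOf K).index ∣ (Q : Subgroup ↥K).index := Subgroup.index_dvd_of_le h1
      have h3 : ¬ 2 ∣ (Q : Subgroup ↥K).index := Q.not_dvd_index
      rw [Nat.coprime_comm, Nat.Prime.coprime_iff_not_dvd Nat.prime_two]
      intro h4
      exact h3 (h4.trans h2)
    have hZeq := isPComponent_eq_of_relIndex_coprime hK hZK hn hidx
    apply Cfsg.Agent.Lib.Helper2.isComponent_not_commutative hK.2.1
    rw [Subgroup.commutator_eq_bot_iff_le_centralizer]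
    rintro _ ⟨k, hk, rfl⟩
    have : k ∈ Z := hZeq ▸ hk
    exact Subgroup.mem_comap.1 this.2

theorem oddCore_le_normalizer [Finite X] {K : Subgroup X} (hK : IsPComponent 2 K) :
    oddCore X ≤ Subgroup.normalizer (K : Set X) := by
  apply le_normalizer_of_map_le hK
  have : (oddCore X).map (QuotientGroup.mk' (pPrimeCore 2 X)) = ⊥ := by
    rw [Subgroup.map_eq_bot_iff, QuotientGroup.ker_mk']
  rw [this]
  exact bot_le

theorem extendedTwoLayer_le_normalizer [Finite X] {K : Subgroup X} (hK : IsPComponent 2 K) :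
    extendedTwoLayer X ≤ Subgroup.normalizer (K : Set X) := by
  obtain T : Sylow 2 ↥(RR X) := default
  rw [extendedTwoLayer_eq_of_sylow T]
  exact sup_le (sup_le (pLayer_le_normalizer hK) (oddCore_le_normalizer hK))
    (DT_le_normalizer T hK)

theorem le_extendedTwoLayer {K : Subgroup X} (hK : IsPComponent 2 K) :
    K ≤ extendedTwoLayer X :=
  (le_pLayer hK).trans (le_sup_left.trans le_sup_left)

end Cfsg.Agent.Lib.Helper8.ExtLayer
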