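import Mathlib
import Cfsg.Prelude.Def_GeometricClasses
import Cfsg.Prelude.Def_LieClassical
import Cfsg.Agent.Lib.Helper8.Exl4
import Cfsg.Agent.Lib.Helper5.Herm

set_option autoImplicit false

/-! similitudes of the hermitian form -/

namespace Cfsg.Agent.Lib.Helper8.Ext

open scoped MatrixGroups Matrix
open Subgroup Cfsg
open Cfsg.Agent.Lib.Helper5.Herm

variable {F : Type*} [Field F] [Fintype F] {q : ℕ} (hF : Fintype.card F = q ^ 2) {n : ℕ}

/-- similitude of the hermitian form with multiplier `c` -/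
def HS (q : ℕ) (c : F) (g : GL (Fin n) F) : Prop :=
  ∀ u v, hermForm n F q ((g : Matrix (Fin n) (Fin n) F) *ᵥ u)
    ((g : Matrix (Fin n) (Fin n) F) *ᵥ v) = c * hermForm n F q u v

omit [Fintype F] in
theorem HS.mul {a b : F} {g h : GL (Fin n) F} (h1 : HS q a g) (h3 : HS q b h) :
    HS q (a * b) (g * h) := by
  intro u v
  rw [Units.val_mul, ← Matrix.mulVec_mulVec, ← Matrix.mulVec_mulVec, h1, h3, mul_assoc]

omit [Fintype F] in
theorem HS.inv {c : F} {g : GL (Fin n) F} (h1 : HS q c g) (hc : c ≠ 0) : HS q c⁻¹ g⁻¹ := by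
  intro u v
  have := h1 (((g⁻¹ : GL (Fin n) F) : Matrix (Fin n) (Fin n) F) *ᵥ u)
    (((g⁻¹ : GL (Fin n) F) : Matrix (Fin n) (Fin n) F) *ᵥ v)
  rw [Matrix.mulVec_mulVec, Matrix.mulVec_mulVec, ← Units.val_mul, mul_inv_cancel, Units.val_one,
    Matrix.one_mulVec, Matrix.one_mulVec] at this
  rw [this, ← mul_assoc, inv_mul_cancel₀ hc, one_mul]

omit [Fintype F] in
theorem hs_one_iff (g : GL (Fin n) F) : HS q 1 g ↔ g ∈ Cfsg.GU n F q := by
  unfold HS
  simp only [one_mul]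
  rfl

omit [Fintype F] in
theorem HS.pow {g : GL (Fin n) F} (h1 : HS q 1 g) (k : ℕ) : HS q 1 (g ^ k) := by
  rw [hs_one_iff] at h1 ⊢
  exact pow_mem h1 k

omit [Fintype F] in
theorem sc_hs (c : F) (hc : c ≠ 0) : HS q (c ^ (q + 1)) (sc c hc : GL (Fin n) F) := by
  intro u v
  rw [sc_val, Matrix.smul_mulVec, Matrix.smul_mulVec, Matrix.one_mulVec, Matrix.one_mulVec,
    hermForm_smul_left, hermForm_smul_right]
  ring

include hF in
theorem UU_hs (h2 : (2 : F) ≠ 0) (τ : GL (Fin n) F) (hτ : τ * τ = -1)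
    (hτS : τ ∈ Cfsg.GU n F q) : HS q 2 (UU h2 τ hτ) := by
  intro u v
  have hS : ∀ u v, hermForm n F q ((τ : Matrix (Fin n) (Fin n) F) *ᵥ u)
      ((τ : Matrix (Fin n) (Fin n) F) *ᵥ v) = hermForm n F q u v := hτS
  have hττ : ∀ w : Fin n → F, (τ : Matrix (Fin n) (Fin n) F) *ᵥ
      ((τ : Matrix (Fin n) (Fin n) F) *ᵥ w) = (-1 : F) • w := by
    intro w
    rw [Matrix.mulVec_mulVec, ← Units.val_mul, hτ, Units.val_neg, Units.val_one, Matrix.neg_mulVec,
      Matrix.one_mulVec, neg_smul, one_smul]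
  have h1 : hermForm n F q u ((τ : Matrix (Fin n) (Fin n) F) *ᵥ v) =
      - hermForm n F q ((τ : Matrix (Fin n) (Fin n) F) *ᵥ u) v := by
    rw [← hS u, hττ, hermForm_smul_right, pow_q_neg_one hF]
    ring
  rw [UU_val, Matrix.add_mulVec, Matrix.add_mulVec, Matrix.one_mulVec, Matrix.one_mulVec,
    hermForm_add_left, hermForm_add_right hF, hermForm_add_right hF, hS, h1]
  ring

end Cfsg.Agent.Lib.Helper8.Ext
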