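import Mathlib
import Cfsg.Prelude.Def_GeometricClasses
import Cfsg.Prelude.Def_LieClassical
import Cfsg.Agent.Lib.Helper8.Exu1

set_option autoImplicit false

/-! unitary targets in the normaliser of `4 ∘ 2^{1+4}` -/

namespace Cfsg.Agent.Lib.Helper8.Ext

open scoped MatrixGroups Matrix
open Subgroup Cfsg
open Cfsg.Agent.Lib.Helper5.Herm

variable {F : Type*} [Field F] [Fintype F] {p : ℕ} [Fact p.Prime] [CharP F p]
  (hF : Fintype.card F = p ^ 2) {n : ℕ}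

omit [Fintype F] in
theorem natCast_pow_p (k : ℕ) : ((k : ℕ) : F) ^ p = k := by
  rw [← frobenius_def, map_natCast]

omit [Fintype F] in
theorem two_pow_p : (2 : F) ^ p = 2 := by
  have := natCast_pow_p (F := F) (p := p) 2
  exact_mod_cast this

include hF in
theorem hw_hs (h2 : (2 : F) ≠ 0) (a b : GL (Fin n) F) (ha : a * a = -1) (hb : b * b = -1)
    (haU : a ∈ Cfsg.GU n F p) (hbU : b ∈ Cfsg.GU n F p) : hw h2 a b ha hb ∈ Cfsg.GU n F p := by
  rw [← hs_one_iff]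
  have h := (sc_hs (q := p) (n := n) (2 : F)⁻¹ (inv_ne_zero h2)).mul
    ((UU_hs hF h2 a ha haU).mul (UU_hs hF h2 b hb hbU))
  have hc : ((2 : F)⁻¹) ^ (p + 1) * (2 * 2) = 1 := by
    rw [pow_succ, inv_pow, two_pow_p]
    field_simp
  rw [hc] at h
  exact h

include hF in
theorem yel_mem_GU (h2 : (2 : F) ≠ 0) {R : Subgroup (GL (Fin n) F)}
    (hR : R ≤ Cfsg.GU n F p) {t0 t1 t2 t3 t4 : GL (Fin n) F} (hC : Cliff R t0 t1 t2 t3 t4) :
    yel h2 hC ∈ Cfsg.GU n F p := by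
  rw [← hs_one_iff]
  have h01 := UU_hs hF h2 (t0 * t1) (sq_of_ac_inv hC.a01 hC.s0 hC.s1) (hR (mul_mem hC.m0 hC.m1))
  have h12 := UU_hs hF h2 (t1 * t2) (sq_of_ac_inv hC.a12 hC.s1 hC.s2) (hR (mul_mem hC.m1 hC.m2))
  have h23 := UU_hs hF h2 (t2 * t3) (sq_of_ac_inv hC.a23 hC.s2 hC.s3) (hR (mul_mem hC.m2 hC.m3))
  have h34 := UU_hs hF h2 (t3 * t4) (sq_of_ac_inv hC.a34 hC.s3 hC.s4) (hR (mul_mem hC.m3 hC.m4))
  have := h01.mul ((h12.inv h2).mul (h23.mul (h34.inv h2)))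
  have hc : (2 : F) * (2⁻¹ * (2 * 2⁻¹)) = 1 := by
    rw [mul_inv_cancel₀ h2, mul_one, mul_inv_cancel₀ h2]
  rw [hc] at this
  exact this

omit [Fintype F] [Fact p.Prime] [CharP F p] in
theorem i_pow_p (hp4 : p % 4 = 3) (i : F) (hii : i * i = -1) : i ^ p = -i := by
  have hp : p = 4 * (p / 4) + 3 := by omega
  have h4 : i ^ 4 = 1 := by
    have : i ^ 4 = (i * i) * (i * i) := by ring
    rw [this, hii]; ring
  rw [hp, pow_add, pow_mul, h4, one_pow, one_mul]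
  have : i ^ 3 = (i * i) * i := by ring
  rw [this, hii]; ring

section targets
variable [Nonempty (Fin n)] {R : Subgroup (GL (Fin n) F)} [Finite R] {ζ a b a' b' : GL (Fin n) F}
  (h2 : (2 : F) ≠ 0) (hX : XS R) (h : QQ R ζ a b a' b') (hι : ((Fintype.card (Fin n) : ℕ) : F) = 4)
  (hRU : R ≤ Cfsg.GU n F p) (hp4 : p % 4 = 3)

include hF h2 hX h hι hRU hp4 in
theorem exists_uinv_tr2 : ∃ y ∈ normalizer (R : Set (GL (Fin n) F)), y ∈ Cfsg.GU n F p ∧ y ^ 2 = 1 ∧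
    Matrix.trace (y : Matrix (Fin n) (Fin n) F) = 2 := by
  have hc : ∀ c, ζ * c = c * ζ := fun c => isScal_comm h.sζ c
  obtain ⟨i, hi⟩ := h.sζ
  have hZ : (ζ : Matrix (Fin n) (Fin n) F) * (ζ : Matrix (Fin n) (Fin n) F) = -1 := by
    rw [← Units.val_mul, h.ζζ]; simp
  have hii : i * i = -1 := by
    have h1 := hZ
    rw [hi, Matrix.smul_mul, Matrix.mul_smul, Matrix.mul_one, smul_smul] at h1
    apply smul_one_inj (ι := Fin n)
    rw [h1]; simp
  have h1i : 1 + i ≠ 0 := by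
    intro h0
    have hi1 : i = -1 := by linear_combination h0
    rw [hi1] at hii
    apply h2
    linear_combination hii
  obtain ⟨γ, hγ⟩ : ∃ γ, γ = ζ * (a * a') := ⟨_, rfl⟩
  have hγR : γ ∈ R := hγ ▸ mul_mem h.mζ (mul_mem h.ma h.ma')
  have hγγ : γ * γ = -1 := by
    rw [hγ, sq_cm (hc _), h.ζζ, sq_cm' h.c1.symm, h.aa, h.aa']; simp
  obtain ⟨y0, hy0⟩ : ∃ y0, y0 = UU h2 a h.aa * UU h2 a' h.aa' * UU h2 γ hγγ := ⟨_, rfl⟩
  have hy0N : y0 ∈ normalizer (R : Set (GL (Fin n) F)) :=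
    hy0 ▸ mul_mem (mul_mem (UU_mem_normalizer h2 R hX a h.ma h.aa)
      (UU_mem_normalizer h2 R hX a' h.ma' h.aa')) (UU_mem_normalizer h2 R hX γ hγR hγγ)
  have hy0S : HS p (2 * 2 * 2) y0 :=
    hy0 ▸ ((UU_hs hF h2 a h.aa (hRU h.ma)).mul (UU_hs hF h2 a' h.aa' (hRU h.ma'))).mul
      (UU_hs hF h2 γ hγγ (hRU hγR))
  have hy0v : (y0 : Matrix (Fin n) (Fin n) F) = (1 + (a : Matrix (Fin n) (Fin n) F)) *
      (1 + (a' : Matrix (Fin n) (Fin n) F)) *
      (1 + (ζ : Matrix (Fin n) (Fin n) F) * ((a : Matrix (Fin n) (Fin n) F) *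
        (a' : Matrix (Fin n) (Fin n) F))) := by
    rw [hy0, Units.val_mul, Units.val_mul, UU_val, UU_val, UU_val, hγ, Units.val_mul, Units.val_mul]
  have hP : (a : Matrix (Fin n) (Fin n) F) * (a : Matrix (Fin n) (Fin n) F) = -1 := by
    rw [← Units.val_mul, h.aa]; simp
  have hQ : (a' : Matrix (Fin n) (Fin n) F) * (a' : Matrix (Fin n) (Fin n) F) = -1 := by
    rw [← Units.val_mul, h.aa']; simp
  have hQP : (a' : Matrix (Fin n) (Fin n) F) * (a : Matrix (Fin n) (Fin n) F) =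
      (a : Matrix (Fin n) (Fin n) F) * (a' : Matrix (Fin n) (Fin n) F) := by
    rw [← Units.val_mul, ← Units.val_mul, h.c1]
  have hPZ : (a : Matrix (Fin n) (Fin n) F) * (ζ : Matrix (Fin n) (Fin n) F) =
      (ζ : Matrix (Fin n) (Fin n) F) * (a : Matrix (Fin n) (Fin n) F) := by
    rw [← Units.val_mul, ← Units.val_mul, hc a]
  have hQZ : (a' : Matrix (Fin n) (Fin n) F) * (ζ : Matrix (Fin n) (Fin n) F) =
      (ζ : Matrix (Fin n) (Fin n) F) * (a' : Matrix (Fin n) (Fin n) F) := by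
    rw [← Units.val_mul, ← Units.val_mul, hc a']
  have hsq := refl_sq _ _ _ hP hQ hZ hQP hPZ hQZ
  have hex := refl_expand _ _ _ hP hQ hQP hPZ hQZ
  rw [← hy0v] at hsq hex
  obtain ⟨s, hs⟩ : ∃ s, s = (2 * (1 + i))⁻¹ := ⟨_, rfl⟩
  have hs0 : s ≠ 0 := hs ▸ inv_ne_zero (mul_ne_zero h2 h1i)
  have hs1 : s * (2 * (1 + i)) = 1 := by rw [hs]; exact inv_mul_cancel₀ (mul_ne_zero h2 h1i)
  have hsN : s ^ (p + 1) * (2 * 2 * 2) = 1 := by
    have e1 : (2 * (1 + i)) ^ (p + 1) = 2 * 2 * 2 := by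
      rw [pow_succ, mul_pow, two_pow_p, add_pow_char, one_pow, i_pow_p hp4 i hii]
      linear_combination (-4 : F) * hii
    have e2 : (s * (2 * (1 + i))) ^ (p + 1) = 1 := by rw [hs1, one_pow]
    rw [mul_pow, e1] at e2
    exact e2
  refine ⟨sc s hs0 * y0, mul_mem (isScal_mem_normalizer R (sc_isScal _ _)) hy0N, ?_, ?_, ?_⟩
  · rw [← hs_one_iff]
    have := (sc_hs (q := p) (n := n) s hs0).mul hy0S
    rw [hsN] at this
    exact this
  · apply Units.ext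
    rw [Units.val_pow_eq_pow_val, pow_two, sc_mul_val, smul_mul_smul_comm, hsq, hi, Units.val_one]
    have e8 : i • (1 : Matrix (Fin n) (Fin n) F) + i • 1 + i • 1 + i • 1 + i • 1 + i • 1 + i • 1
        + i • 1 = (8 * i) • 1 := by module
    rw [e8, smul_smul]
    have : s * s * (8 * i) = 1 := by
      linear_combination (s * (2 * (1 + i)) + 1) * hs1 - 4 * s * s * hii
    rw [this, one_smul]
  · have t1 : Matrix.trace (a : Matrix (Fin n) (Fin n) F) = 0 := tr0 hX h2 h.ma h.ab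
    have t2 : Matrix.trace (a' : Matrix (Fin n) (Fin n) F) = 0 := tr0 hX h2 h.ma' h.ab'
    have t3 : Matrix.trace ((ζ : Matrix (Fin n) (Fin n) F) * (a : Matrix (Fin n) (Fin n) F)) = 0 := by
      simp only [← Units.val_mul]
      exact tr0 hX h2 (mul_mem h.mζ h.ma) (cm_mul_ac (hc b) h.ab)
    have t4 : Matrix.trace ((ζ : Matrix (Fin n) (Fin n) F) * (a' : Matrix (Fin n) (Fin n) F)) = 0 := by
      simp only [← Units.val_mul]
      exact tr0 hX h2 (mul_mem h.mζ h.ma') (cm_mul_ac (hc b') h.ab')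
    have t5 : Matrix.trace ((a : Matrix (Fin n) (Fin n) F) * (a' : Matrix (Fin n) (Fin n) F)) = 0 := by
      simp only [← Units.val_mul]
      exact tr0 hX h2 (mul_mem h.ma h.ma') (ac_mul_cm h.ab h.c2)
    have t6 : Matrix.trace ((ζ : Matrix (Fin n) (Fin n) F) * ((a : Matrix (Fin n) (Fin n) F) *
        (a' : Matrix (Fin n) (Fin n) F))) = 0 := by
      simp only [← Units.val_mul]
      exact tr0 hX h2 (mul_mem h.mζ (mul_mem h.ma h.ma')) (cm_mul_ac (hc b) (ac_mul_cm h.ab h.c2))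
    have t7 : Matrix.trace (ζ : Matrix (Fin n) (Fin n) F) = i * 4 := by
      rw [hi, Matrix.trace_smul, Matrix.trace_one, hι, smul_eq_mul]
    rw [sc_mul_val, Matrix.trace_smul, hex]
    simp only [Matrix.trace_add, Matrix.trace_sub, t1, t2, t3, t4, t5, t6, t7, Matrix.trace_one, hι,
      smul_eq_mul]
    linear_combination 2 * hs1

end targets

end Cfsg.Agent.Lib.Helper8.Ext
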