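import Mathlib
import Cfsg.Prelude.Def_GeometricClasses
import Cfsg.Prelude.Def_LieClassical
import Cfsg.Agent.Lib.Helper8.Exu2
import Cfsg.Agent.Lib.Helper8.Exl6
import Cfsg.Agent.Lib.Helper5.SemiConj.SU
import Cfsg.Agent.Lib.Helper5.SemiCount.GUPrime
import Cfsg.Agent.Lib.Helper5.HermSU

set_option autoImplicit false

/-! conjugacy in `SU_n(p)` for elements of `GL`, and the classes of elements of order three and
five of `GU_4(p)` -/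

namespace Cfsg.Agent.Lib.Helper8.Ext

open scoped MatrixGroups Matrix
open Subgroup Cfsg
open Cfsg.Agent.Lib.Helper5.HermSU Cfsg.Agent.Lib.Helper5.SemiConj Cfsg.Agent.Lib.Helper5.SemiCount

universe u
variable {F : Type u} [Field F] [Fintype F] {p : ℕ} [Fact p.Prime] [CharP F p]
  (hF : Fintype.card F = p ^ 2) {n : ℕ}

/-- the special unitary group inside `GL` -/
abbrev SUg (n : ℕ) (F : Type*) [Field F] (p : ℕ) : Subgroup (GL (Fin n) F) :=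
  Cfsg.GU n F p ⊓ Cfsg.Geo.specialLinear (Fin n) F

omit [Fintype F] [Fact p.Prime] [CharP F p] in
theorem mem_SL_of_det {x : GL (Fin n) F} (h : (x : Matrix (Fin n) (Fin n) F).det = 1) :
    x ∈ Cfsg.Geo.specialLinear (Fin n) F := by
  show x ∈ (Matrix.GeneralLinearGroup.det : GL (Fin n) F →* Fˣ).ker
  rw [MonoidHom.mem_ker]
  apply Units.ext
  rw [Matrix.GeneralLinearGroup.val_det_apply, h, Units.val_one]

include hF in
theorem su_conj_GL (x y : GL (Fin n) F) (hx : x ∈ SUg n F p) (hy : y ∈ SUg n F p)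
    (k : ℕ) (hk : k.Coprime p) (hxk : x ^ k = 1) (hyk : y ^ k = 1)
    (hc : (x : Matrix (Fin n) (Fin n) F).charpoly = (y : Matrix (Fin n) (Fin n) F).charpoly) :
    ∃ g ∈ SUg n F p, g⁻¹ * x * g = y := by
  obtain ⟨X, hX⟩ := exists_toGU_eq n (⟨x, hx.1⟩ : ↥(Cfsg.GU n F p)) (det_of_mem_SL hx.2)
  obtain ⟨Y, hY⟩ := exists_toGU_eq n (⟨y, hy.1⟩ : ↥(Cfsg.GU n F p)) (det_of_mem_SL hy.2)
  have hXk : X ^ k = 1 := by
    apply toGU_injective n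
    rw [map_pow, hX, map_one]
    apply Subtype.ext
    rw [Subgroup.coe_pow]
    exact hxk
  have hYk : Y ^ k = 1 := by
    apply toGU_injective n
    rw [map_pow, hY, map_one]
    apply Subtype.ext
    rw [Subgroup.coe_pow]
    exact hyk
  have hXo : (orderOf X).Coprime p :=
    Nat.Coprime.coprime_dvd_left (orderOf_dvd_of_pow_eq_one hXk) hk
  have hYo : (orderOf Y).Coprime p :=
    Nat.Coprime.coprime_dvd_left (orderOf_dvd_of_pow_eq_one hYk) hk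
  have eX : suMat n X = (x : Matrix (Fin n) (Fin n) F) :=
    congrArg (fun g : ↥(Cfsg.GU n F p) => ((g : GL (Fin n) F) : Matrix (Fin n) (Fin n) F)) hX
  have eY : suMat n Y = (y : Matrix (Fin n) (Fin n) F) :=
    congrArg (fun g : ↥(Cfsg.GU n F p) => ((g : GL (Fin n) F) : Matrix (Fin n) (Fin n) F)) hY
  have hcXY : (suMat n X).charpoly = (suMat n Y).charpoly := by rw [eX, eY, hc]
  obtain ⟨c, hcc⟩ := isConj_iff.mp (su_conj_of_charpoly_eq hF p n X Y hXo hYo hcXY)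
  refine ⟨((toGU n c⁻¹ : ↥(Cfsg.GU n F p)) : GL (Fin n) F),
    ⟨(toGU n c⁻¹).2, mem_SL_of_det (det_toGU n c⁻¹)⟩, ?_⟩
  have h1 := congrArg (fun A => ((toGU n A : ↥(Cfsg.GU n F p)) : GL (Fin n) F)) hcc
  simp only [map_mul, map_inv, Subgroup.coe_mul, Subgroup.coe_inv, hX, hY] at h1
  rw [map_inv, Subgroup.coe_inv, inv_inv]
  exact h1

section classes

omit [Fintype F] [Fact p.Prime] [CharP F p] in
theorem gu_orderOf (r : ℕ) [Fact r.Prime] (x : GL (Fin n) F) (hx : x ∈ Cfsg.GU n F p)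
    (hxr : x ^ r = 1) (hx1 : x ≠ 1) : orderOf (⟨x, hx⟩ : ↥(Cfsg.GU n F p)) = r := by
  apply orderOf_eq_prime
  · apply Subtype.ext
    rw [Subgroup.coe_pow]
    exact hxr
  · intro h
    exact hx1 (congrArg Subtype.val h)

include hF in
theorem gu_five (hord : orderOf (p : ZMod 5) = 4) (x y : GL (Fin 4) F)
    (hx : x ∈ Cfsg.GU 4 F p) (hy : y ∈ Cfsg.GU 4 F p)
    (hx5 : x ^ 5 = 1) (hx1 : x ≠ 1) (hy5 : y ^ 5 = 1) (hy1 : y ≠ 1) :
    (x : Matrix (Fin 4) (Fin 4) F).charpoly = (y : Matrix (Fin 4) (Fin 4) F).charpoly := by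
  haveI : Fact (Nat.Prime 5) := ⟨by norm_num⟩
  have hp5 : (5 : ℕ) ≠ p := by
    rintro rfl
    have : ((5 : ℕ) : ZMod 5) = 0 := by rfl
    rw [this, orderOf_eq_zero_iff.mpr] at hord
    · omega
    · intro h
      obtain ⟨m, hm, hm'⟩ := h.exists_pow_eq_one
      rw [zero_pow hm.ne'] at hm'
      exact zero_ne_one hm'
  have hcount := card_gu_prime_order_classes (K := F) (p := p) (q := p) (n := 4) (r := 5) (i := 4)
    (b := 2) (s := 2) hF (by norm_num) (by norm_num) hp5 hord.symm (by norm_num [Nat.odd_iff]) (by norm_num)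
  have h1 : Nat.card {C : ConjClasses ↥(Cfsg.GU 4 F p) //
      ∃ g : ↥(Cfsg.GU 4 F p), ConjClasses.mk g = C ∧ orderOf g = 5} = 1 := by
    rw [hcount]
    norm_num [Nat.choose]
  have hoX := gu_orderOf 5 x hx hx5 hx1
  have hoY := gu_orderOf 5 y hy hy5 hy1
  haveI : Subsingleton {C : ConjClasses ↥(Cfsg.GU 4 F p) //
      ∃ g : ↥(Cfsg.GU 4 F p), ConjClasses.mk g = C ∧ orderOf g = 5} :=
    (Nat.card_eq_one_iff_unique.mp h1).1
  have h3 : (⟨ConjClasses.mk (⟨x, hx⟩ : ↥(Cfsg.GU 4 F p)), ⟨x, hx⟩, rfl, hoX⟩ :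
      {C : ConjClasses ↥(Cfsg.GU 4 F p) //
        ∃ g : ↥(Cfsg.GU 4 F p), ConjClasses.mk g = C ∧ orderOf g = 5}) =
      ⟨ConjClasses.mk (⟨y, hy⟩ : ↥(Cfsg.GU 4 F p)), ⟨y, hy⟩, rfl, hoY⟩ := Subsingleton.elim _ _
  have hconj : IsConj (⟨x, hx⟩ : ↥(Cfsg.GU 4 F p)) ⟨y, hy⟩ :=
    ConjClasses.mk_eq_mk_iff_isConj.mp (congrArg Subtype.val h3)
  exact gu_charpoly_conj 4 (⟨x, hx⟩ : ↥(Cfsg.GU 4 F p)) ⟨y, hy⟩ hconj

include hF in
theorem gu_three (hp3 : p % 3 = 1) (x y₁ y₂ : GL (Fin 4) F)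
    (hx : x ∈ Cfsg.GU 4 F p) (hy₁ : y₁ ∈ Cfsg.GU 4 F p) (hy₂ : y₂ ∈ Cfsg.GU 4 F p)
    (hx3 : x ^ 3 = 1) (hx1 : x ≠ 1) (hy₁3 : y₁ ^ 3 = 1) (hy₁1 : y₁ ≠ 1)
    (hy₂3 : y₂ ^ 3 = 1) (hy₂1 : y₂ ≠ 1)
    (hne : (y₁ : Matrix (Fin 4) (Fin 4) F).charpoly ≠ (y₂ : Matrix (Fin 4) (Fin 4) F).charpoly) :
    (x : Matrix (Fin 4) (Fin 4) F).charpoly = (y₁ : Matrix (Fin 4) (Fin 4) F).charpoly ∨
    (x : Matrix (Fin 4) (Fin 4) F).charpoly = (y₂ : Matrix (Fin 4) (Fin 4) F).charpoly := by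
  classical
  haveI : Fact (Nat.Prime 3) := ⟨by norm_num⟩
  have hp3' : (3 : ℕ) ≠ p := by
    rintro rfl
    omega
  have hord : 1 = orderOf ((p : ℕ) : ZMod 3) := by
    symm
    rw [orderOf_eq_one_iff]
    have : ((p : ℕ) : ZMod 3) = ((p % 3 : ℕ) : ZMod 3) := (ZMod.natCast_mod p 3).symm
    rw [this, hp3, Nat.cast_one]
  have hcount := card_gu_prime_order_classes (K := F) (p := p) (q := p) (n := 4) (r := 3) (i := 1)
    (b := 1) (s := 2) hF (by norm_num) (by norm_num) hp3' hord (by norm_num [Nat.odd_iff]) (by norm_num)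
  have h1 : Nat.card {C : ConjClasses ↥(Cfsg.GU 4 F p) //
      ∃ g : ↥(Cfsg.GU 4 F p), ConjClasses.mk g = C ∧ orderOf g = 3} = 2 := by
    rw [hcount]
    norm_num [Nat.choose]
  have hoX := gu_orderOf 3 x hx hx3 hx1
  have hoY₁ := gu_orderOf 3 y₁ hy₁ hy₁3 hy₁1
  have hoY₂ := gu_orderOf 3 y₂ hy₂ hy₂3 hy₂1
  obtain ⟨ea, hea⟩ : ∃ ea : {C : ConjClasses ↥(Cfsg.GU 4 F p) //
      ∃ g : ↥(Cfsg.GU 4 F p), ConjClasses.mk g = C ∧ orderOf g = 3},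
      ea = ⟨ConjClasses.mk (⟨x, hx⟩ : ↥(Cfsg.GU 4 F p)), ⟨x, hx⟩, rfl, hoX⟩ := ⟨_, rfl⟩
  obtain ⟨eb, heb⟩ : ∃ eb : {C : ConjClasses ↥(Cfsg.GU 4 F p) //
      ∃ g : ↥(Cfsg.GU 4 F p), ConjClasses.mk g = C ∧ orderOf g = 3},
      eb = ⟨ConjClasses.mk (⟨y₁, hy₁⟩ : ↥(Cfsg.GU 4 F p)), ⟨y₁, hy₁⟩, rfl, hoY₁⟩ := ⟨_, rfl⟩
  obtain ⟨ec, hec⟩ : ∃ ec : {C : ConjClasses ↥(Cfsg.GU 4 F p) //
      ∃ g : ↥(Cfsg.GU 4 F p), ConjClasses.mk g = C ∧ orderOf g = 3},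
      ec = ⟨ConjClasses.mk (⟨y₂, hy₂⟩ : ↥(Cfsg.GU 4 F p)), ⟨y₂, hy₂⟩, rfl, hoY₂⟩ := ⟨_, rfl⟩
  have hbc : eb ≠ ec := by
    intro h
    rw [heb, hec] at h
    have hconj : IsConj (⟨y₁, hy₁⟩ : ↥(Cfsg.GU 4 F p)) ⟨y₂, hy₂⟩ :=
      ConjClasses.mk_eq_mk_iff_isConj.mp (congrArg Subtype.val h)
    exact hne (gu_charpoly_conj 4 (⟨y₁, hy₁⟩ : ↥(Cfsg.GU 4 F p)) ⟨y₂, hy₂⟩ hconj)
  have hcases : ea = eb ∨ ea = ec := by
    by_contra hno
    push Not at hno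
    haveI : Finite {C : ConjClasses ↥(Cfsg.GU 4 F p) //
        ∃ g : ↥(Cfsg.GU 4 F p), ConjClasses.mk g = C ∧ orderOf g = 3} :=
      Nat.finite_of_card_ne_zero (by rw [h1]; norm_num)
    haveI := Fintype.ofFinite {C : ConjClasses ↥(Cfsg.GU 4 F p) //
        ∃ g : ↥(Cfsg.GU 4 F p), ConjClasses.mk g = C ∧ orderOf g = 3}
    have h3 : ({ea, eb, ec} : Finset _).card = 3 := by
      rw [Finset.card_insert_of_notMem, Finset.card_insert_of_notMem, Finset.card_singleton]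
      · simpa using hbc
      · simp only [Finset.mem_insert, Finset.mem_singleton]
        rintro (h | h)
        · exact hno.1 h
        · exact hno.2 h
    have h4 := Finset.card_le_univ ({ea, eb, ec} : Finset _)
    rw [h3, ← Nat.card_eq_fintype_card, h1] at h4
    omega
  rcases hcases with h | h
  · left
    rw [hea, heb] at h
    exact gu_charpoly_conj 4 (⟨x, hx⟩ : ↥(Cfsg.GU 4 F p)) ⟨y₁, hy₁⟩
      (ConjClasses.mk_eq_mk_iff_isConj.mp (congrArg Subtype.val h))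
  · right
    rw [hea, hec] at h
    exact gu_charpoly_conj 4 (⟨x, hx⟩ : ↥(Cfsg.GU 4 F p)) ⟨y₂, hy₂⟩
      (ConjClasses.mk_eq_mk_iff_isConj.mp (congrArg Subtype.val h))

end classes

end Cfsg.Agent.Lib.Helper8.Ext
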