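import Mathlib
import Cfsg.Prelude.Def_GeometricClasses
import Cfsg.Prelude.Def_LieClassical
import Cfsg.Agent.Lib.Helper8.Exu3
import Cfsg.Agent.Lib.Helper5.HermBlock

set_option autoImplicit false

/-! S6001: tools for the backward direction -/

namespace Cfsg.Agent.Lib.Helper8.Ext

open scoped MatrixGroups Matrix
open Subgroup Cfsg Polynomial
open Cfsg.Agent.Lib.Helper8.Slc Cfsg.Agent.Lib.Helper5.Herm

section gen2
variable {ι : Type} [Fintype ι] [DecidableEq ι] {F : Type*} [Field F]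

theorem X_sub_ne' (h2 : (2 : F) ≠ 0) (c : F) (hc : c ≠ 0) :
    ¬ Associated (X - C c) (X - C (-c)) := by
  intro h
  have h1 := eq_of_monic_of_associated (monic_X_sub_C c) (monic_X_sub_C (-c)) h
  have h3 : -c = c := by
    have := congrArg (fun q => q.coeff 0) h1
    simpa using this
  have : (2 : F) * c = 0 := by linear_combination (-1 : F) * h3
  rcases mul_eq_zero.mp this with h | h
  · exact h2 h
  · exact hc h

theorem gen_inv_type (h2 : (2 : F) ≠ 0) (hι : Fintype.card ι = 4) (c : F) (hc : c ≠ 0)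
    (M : Matrix ι ι F) (hM : M * M = (c * c) • (1 : Matrix ι ι F)) :
    ∃ k₁ k₂ : ℕ, k₁ + k₂ = 4 ∧ M.charpoly = (X - C c) ^ k₁ * (X - C (-c)) ^ k₂ ∧
      (k₁ = 0 → M = (-c) • (1 : Matrix ι ι F)) ∧ (k₂ = 0 → M = c • (1 : Matrix ι ι F)) ∧
      M.trace = ((k₁ : F) - (k₂ : F)) * c := by
  obtain ⟨k₁, k₂, hch, h0, h0'⟩ := mat_charpoly_two M _ _ (monic_X_sub_C c) (monic_X_sub_C (-c))
    (irreducible_X_sub_C c) (irreducible_X_sub_C (-c)) (X_sub_ne' h2 c hc) (by
      simp only [map_mul, map_sub, aeval_X, aeval_C, Algebra.algebraMap_eq_smul_one]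
      have : (M - c • (1 : Matrix ι ι F)) * (M - (-c) • (1 : Matrix ι ι F)) =
          M * M - (c * c) • (1 : Matrix ι ι F) := by
        simp only [sub_mul, mul_sub, Matrix.smul_mul, Matrix.mul_smul, Matrix.one_mul,
          Matrix.mul_one, smul_smul]
        module
      rw [this, hM, sub_self])
  have hdeg : k₁ + k₂ = 4 := by
    have := congrArg natDegree hch
    rw [Matrix.charpoly_natDegree_eq_dim, hι, natDegree_mul (pow_ne_zero _ (X_sub_C_ne_zero c))
      (pow_ne_zero _ (X_sub_C_ne_zero (-c))), natDegree_pow, natDegree_pow, natDegree_X_sub_C,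
      natDegree_X_sub_C] at this
    omega
  refine ⟨k₁, k₂, hdeg, hch, ?_, ?_, ?_⟩
  · intro h
    have := h0 h
    simp only [map_sub, aeval_X, aeval_C, Algebra.algebraMap_eq_smul_one] at this
    exact sub_eq_zero.mp this
  · intro h
    have := h0' h
    simp only [map_sub, aeval_X, aeval_C, Algebra.algebraMap_eq_smul_one] at this
    exact sub_eq_zero.mp this
  · rw [Matrix.trace_eq_neg_charpoly_nextCoeff, hch,
      Monic.nextCoeff_mul ((monic_X_sub_C c).pow k₁) ((monic_X_sub_C (-c)).pow k₂),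
      Monic.nextCoeff_pow (monic_X_sub_C _), Monic.nextCoeff_pow (monic_X_sub_C _),
      nextCoeff_X_sub_C, nextCoeff_X_sub_C]
    simp only [nsmul_eq_mul]
    ring

theorem gen_inv_det (hι : Fintype.card ι = 4) (c : F) (M : Matrix ι ι F) (k₁ k₂ : ℕ)
    (hch : M.charpoly = (X - C c) ^ k₁ * (X - C (-c)) ^ k₂) (hk : k₁ + k₂ = 4) :
    M.det = (-1) ^ k₁ * c ^ 4 := by
  rw [Matrix.det_eq_sign_charpoly_coeff, hι, hch, coeff_zero_eq_eval_zero]
  simp only [eval_mul, eval_pow, eval_sub, eval_X, eval_C]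
  have : (0 - c) ^ k₁ * (0 - -c) ^ k₂ = (-1) ^ k₁ * c ^ (k₁ + k₂) := by
    rw [zero_sub, zero_sub, neg_neg, neg_pow, pow_add]
    ring
  rw [this, hk]
  norm_num

theorem gen_inv_same (p : ℕ) [CharP F p] (hp : 3 ≤ p) (h2 : (2 : F) ≠ 0)
    (hι : Fintype.card ι = 4) (c : F) (hc : c ≠ 0)
    (M M' : Matrix ι ι F) (hM : M * M = (c * c) • (1 : Matrix ι ι F))
    (hM' : M' * M' = (c * c) • (1 : Matrix ι ι F))
    (hns : ∀ z : F, M ≠ z • (1 : Matrix ι ι F)) (hns' : ∀ z : F, M' ≠ z • (1 : Matrix ι ι F))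
    (ht : M.trace = M'.trace) : M.charpoly = M'.charpoly := by
  obtain ⟨k₁, k₂, hk, hch, h0, h0', htr⟩ := gen_inv_type h2 hι c hc M hM
  obtain ⟨k₁', k₂', hk', hch', g0, g0', htr'⟩ := gen_inv_type h2 hι c hc M' hM'
  have a1 : k₁ ≠ 0 := fun h => hns _ (h0 h)
  have a2 : k₂ ≠ 0 := fun h => hns _ (h0' h)
  have a1' : k₁' ≠ 0 := fun h => hns' _ (g0 h)
  have a2' : k₂' ≠ 0 := fun h => hns' _ (g0' h)
  have e1 : (k₂ : F) = 4 - k₁ := by
    have := congrArg (Nat.cast (R := F)) hk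
    push_cast at this
    linear_combination this
  have e2 : (k₂' : F) = 4 - k₁' := by
    have := congrArg (Nat.cast (R := F)) hk'
    push_cast at this
    linear_combination this
  have e3 : (k₁ : F) = (k₁' : F) := by
    have h4 : (2 * c) * ((k₁ : F) - k₁') = 0 := by
      rw [htr, htr', e1, e2] at ht
      linear_combination ht
    rcases mul_eq_zero.mp h4 with h | h
    · exact absurd h (mul_ne_zero h2 hc)
    · exact sub_eq_zero.mp h
  have e4 : k₁ = k₁' := by
    have h5 := (CharP.natCast_eq_natCast F p).mp e3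
    have h6 := (Nat.modEq_iff_dvd).mp h5
    have h7 : ((k₁' : ℤ) - (k₁ : ℤ)) = 0 := by
      apply Int.eq_zero_of_abs_lt_dvd h6
      rw [abs_lt]
      constructor <;> omega
    omega
  have e5 : k₂ = k₂' := by omega
  rw [hch, hch', e4, e5]

end gen2

section unit
variable {F : Type*} [Field F] [Fintype F] {q : ℕ} (hF : Fintype.card F = q ^ 2) {n : ℕ}

include hF in
theorem trace_inv_of_mem_GU (x : GL (Fin n) F) (hx : x ∈ Cfsg.GU n F q) :
    Matrix.trace ((x⁻¹ : GL (Fin n) F) : Matrix (Fin n) (Fin n) F) =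
      (Matrix.trace (x : Matrix (Fin n) (Fin n) F)) ^ q := by
  have h1 := (Cfsg.Agent.Lib.Helper5.HermBlock.mem_GU_iff hF x).mp hx
  have h2 : (x : Matrix (Fin n) (Fin n) F)ᵀ *
      (((x⁻¹ : GL (Fin n) F) : Matrix (Fin n) (Fin n) F))ᵀ = 1 := by
    rw [← Matrix.transpose_mul, ← Units.val_mul, inv_mul_cancel, Units.val_one,
      Matrix.transpose_one]
  have h3 : (x : Matrix (Fin n) (Fin n) F).map (· ^ q) =
      (((x⁻¹ : GL (Fin n) F) : Matrix (Fin n) (Fin n) F))ᵀ := by
    rw [← Matrix.inv_eq_right_inv h1, ← Matrix.inv_eq_right_inv h2]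
  have h4 := congrArg Matrix.trace h3
  rw [Matrix.trace_transpose] at h4
  rw [← h4]
  simp only [Matrix.trace, Matrix.diag, Matrix.map_apply]
  exact (pow_q_sum hF _ _).symm

end unit

end Cfsg.Agent.Lib.Helper8.Ext
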