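import Mathlib
import Cfsg.Prelude.Def_GeometricClasses
import Cfsg.Prelude.Def_LieClassical
import Cfsg.Agent.Lib.Helper8.Exu4

set_option autoImplicit false

/-! S6001: the backward direction -/

namespace Cfsg.Agent.Lib.Helper8.Ext

open scoped MatrixGroups Matrix
open Subgroup Cfsg Polynomial
open Cfsg.Agent.Lib.Helper8.Slc Cfsg.Agent.Lib.Helper5.Herm

universe u
variable {F : Type u} [Field F] [Fintype F] {p : ℕ} [Fact p.Prime] [CharP F p]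
  (hF : Fintype.card F = p ^ 2)

section core
variable {n : ℕ}

omit [Fintype F] [Fact p.Prime] [CharP F p] in
theorem sc_mem_GU (c : F) (hc : c ≠ 0) (h : c ^ (p + 1) = 1) :
    (sc c hc : GL (Fin n) F) ∈ Cfsg.GU n F p := by
  rw [← hs_one_iff]
  have := sc_hs (q := p) (n := n) c hc
  rwa [h] at this

omit [Fintype F] [Fact p.Prime] [CharP F p] in
theorem pow_p_add_one_of_pow_four (hp4 : p % 4 = 3) (c : F) (h : c ^ 4 = 1) : c ^ (p + 1) = 1 := by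
  have : p + 1 = 4 * ((p + 1) / 4) := by omega
  rw [this, pow_mul, h, one_pow]

omit [Fintype F] [Fact p.Prime] [CharP F p] in
theorem sc_mem_SL (c : F) (hc : c ≠ 0) (h : c ^ 4 = 1) :
    (sc c hc : GL (Fin 4) F) ∈ Cfsg.Geo.specialLinear (Fin 4) F := by
  apply mem_SL_of_det
  rw [sc_val, Matrix.det_smul, Matrix.det_one, mul_one]
  simpa using h

omit [Fintype F] [Fact p.Prime] [CharP F p] in
theorem sc_mem_SUg (hp4 : p % 4 = 3) (c : F) (hc : c ≠ 0) (h : c ^ 4 = 1) :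
    (sc c hc : GL (Fin 4) F) ∈ SUg 4 F p :=
  ⟨sc_mem_GU c hc (pow_p_add_one_of_pow_four hp4 c h), sc_mem_SL c hc h⟩

include hF in
theorem back_core_u [Nonempty (Fin n)] (R : Subgroup (GL (Fin n) F)) (x x' : GL (Fin n) F) (s : F)
    (hs : s ≠ 0)
    (hx : x' = sc s hs * x) (hx'S : x' ∈ SUg n F p) (y : GL (Fin n) F)
    (hyN : y ∈ normalizer (R : Set (GL (Fin n) F))) (hyU : y ∈ Cfsg.GU n F p)
    (k : ℕ) (hk : k.Coprime p) (hxk : x' ^ k = 1) (hyk : y ^ k = 1)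
    (hch : (x' : Matrix (Fin n) (Fin n) F).charpoly = (y : Matrix (Fin n) (Fin n) F).charpoly) :
    ∃ g ∈ SUg n F p, g⁻¹ * x * g ∈ Cfsg.Geo.subgroupNormalizer R := by
  have hdet : (y : Matrix (Fin n) (Fin n) F).det = 1 := by
    rw [Matrix.det_eq_sign_charpoly_coeff, ← hch, ← Matrix.det_eq_sign_charpoly_coeff]
    exact det_of_mem_SL hx'S.2
  obtain ⟨g, hg, hgx⟩ := su_conj_GL hF x' y hx'S ⟨hyU, mem_SL_of_det hdet⟩ k hk hxk hyk hch
  refine ⟨g, hg, ?_⟩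
  have hx2 : x = sc s⁻¹ (inv_ne_zero hs) * x' := by
    rw [hx, ← mul_assoc, sc_inv_mul, one_mul]
  have : g⁻¹ * x * g = sc s⁻¹ (inv_ne_zero hs) * y := by
    rw [hx2, ← hgx, ← mul_assoc g⁻¹, ← sc_comm _ _ g⁻¹]
    simp only [mul_assoc]
  rw [this]
  show _ ∈ normalizer (R : Set (GL (Fin n) F))
  exact mul_mem (isScal_mem_normalizer R (sc_isScal _ _)) hyN

end core

section back
variable (hp4 : p % 4 = 3)
  {R : Subgroup (GL (Fin 4) F)} [Finite R] (hX : XS R) {ζ a b a' b' : GL (Fin 4) F}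
  (h : QQ R ζ a b a' b') (hRU : R ≤ Cfsg.GU 4 F p)

include hp4 in
theorem two_ne_zero_u : (2 : F) ≠ 0 := by
  intro h0
  have h1 : ((2 : ℕ) : F) = 0 := by exact_mod_cast h0
  rw [CharP.cast_eq_zero_iff F p] at h1
  have := Nat.le_of_dvd (by norm_num) h1
  have := (Fact.out : p.Prime).two_le
  omega

include hF hp4 hX h hRU in
theorem back5u (hord : orderOf (p : ZMod 5) = 4) : ∀ x ∈ SUg 4 F p,
    (∃ z : F, ((x ^ 5 : GL (Fin 4) F) : Matrix (Fin 4) (Fin 4) F) =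
      z • (1 : Matrix (Fin 4) (Fin 4) F)) →
    (∀ z : F, (x : Matrix (Fin 4) (Fin 4) F) ≠ z • (1 : Matrix (Fin 4) (Fin 4) F)) →
    ∃ g ∈ SUg 4 F p, g⁻¹ * x * g ∈ Cfsg.Geo.subgroupNormalizer R := by
  intro x hx ⟨z, hz⟩ hns
  have h2 : (2 : F) ≠ 0 := two_ne_zero_u hp4
  have hp5 : p ≠ 5 := by
    rintro rfl
    have : ((5 : ℕ) : ZMod 5) = 0 := by rfl
    rw [this, orderOf_eq_zero_iff.mpr] at hord
    · omega
    · intro h
      obtain ⟨m, hm, hm'⟩ := h.exists_pow_eq_one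
      rw [zero_pow hm.ne'] at hm'
      exact zero_ne_one hm'
  have hcop : Nat.Coprime 5 p :=
    (Nat.coprime_primes (by norm_num) (Fact.out : p.Prime)).mpr (Ne.symm hp5)
  have hz4 : z ^ 4 = 1 := by
    have := scalar_pow_card hx.2 5 z hz
    simpa using this
  have hz0 : z ≠ 0 := by
    rintro rfl
    simp at hz4
  have hz34 : (z ^ 3) ^ 4 = 1 := by rw [← pow_mul, mul_comm, pow_mul, hz4, one_pow]
  obtain ⟨x', hx'⟩ : ∃ x', x' = sc (z ^ 3) (pow_ne_zero 3 hz0) * x := ⟨_, rfl⟩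
  have hx'S : x' ∈ SUg 4 F p := hx' ▸ mul_mem (sc_mem_SUg hp4 _ _ hz34) hx
  have hx'5 : x' ^ 5 = 1 := by
    rw [hx']
    apply scale_pow x (z ^ 3) _ z 5 hz
    have : (z ^ 3) ^ 5 * z = (z ^ 4) ^ 4 := by ring
    rw [this, hz4, one_pow]
  have hx'ns : ¬ IsScal x' := by
    intro hs
    rw [hx'] at hs
    obtain ⟨d, hd⟩ := isScal_of_sc_mul hs
    exact hns d hd
  have hx'1 : x' ≠ 1 := by
    rintro rfl
    exact hx'ns isScal_one
  have hC := h.cliff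
  obtain ⟨k, hk5, hk1⟩ := exists_order_five (yel h2 hC) (isOfFinOrder_of_finite _)
    (yel_five R h2 _ _ _ _ _ hC)
  obtain ⟨y0, hy0⟩ : ∃ y0, y0 = (yel h2 hC) ^ k := ⟨_, rfl⟩
  rw [← hy0] at hk5 hk1
  have hy0N : y0 ∈ normalizer (R : Set (GL (Fin 4) F)) :=
    hy0 ▸ pow_mem (yel_mem_normalizer R h2 hX _ _ _ _ _ hC) k
  have hy0U : y0 ∈ Cfsg.GU 4 F p := hy0 ▸ pow_mem (yel_mem_GU hF h2 hRU hC) k
  have hch := gu_five hF hord x' y0 hx'S.1 hy0U hx'5 hx'1 hk5 hk1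
  exact back_core_u hF R x x' (z ^ 3) (pow_ne_zero 3 hz0) hx' hx'S y0 hy0N hy0U 5 hcop hx'5 hk5 hch

include hF hp4 hX h hRU in
theorem back3u (hp3 : p % 3 = 1) : ∀ x ∈ SUg 4 F p,
    (∃ z : F, ((x ^ 3 : GL (Fin 4) F) : Matrix (Fin 4) (Fin 4) F) =
      z • (1 : Matrix (Fin 4) (Fin 4) F)) →
    (∀ z : F, (x : Matrix (Fin 4) (Fin 4) F) ≠ z • (1 : Matrix (Fin 4) (Fin 4) F)) →
    ∃ g ∈ SUg 4 F p, g⁻¹ * x * g ∈ Cfsg.Geo.subgroupNormalizer R := by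
  intro x hx ⟨z, hz⟩ hns
  have h2 : (2 : F) ≠ 0 := two_ne_zero_u hp4
  have hp7 : 7 ≤ p := by
    have := (Fact.out : p.Prime).two_le
    omega
  have hne : ∀ k : ℕ, 0 < k → k < 7 → ((k : ℕ) : F) ≠ 0 := by
    intro k hk0 hk7 h0
    rw [CharP.cast_eq_zero_iff F p] at h0
    have := Nat.le_of_dvd hk0 h0
    omega
  have h3 : (3 : F) ≠ 0 := by exact_mod_cast hne 3 (by norm_num) (by norm_num)
  have h6 : (6 : F) ≠ 0 := by exact_mod_cast hne 6 (by norm_num) (by norm_num)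
  have hιF : ((Fintype.card (Fin 4) : ℕ) : F) = 4 := by simp
  have hcop : Nat.Coprime 3 p := by
    apply (Nat.coprime_primes (by norm_num) (Fact.out : p.Prime)).mpr
    omega
  have hz4 : z ^ 4 = 1 := by
    have := scalar_pow_card hx.2 3 z hz
    simpa using this
  have hz0 : z ≠ 0 := by
    rintro rfl
    simp at hz4
  obtain ⟨x', hx'⟩ : ∃ x', x' = sc z hz0 * x := ⟨_, rfl⟩
  have hx'S : x' ∈ SUg 4 F p := hx' ▸ mul_mem (sc_mem_SUg hp4 _ _ hz4) hx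
  have hx'3 : x' ^ 3 = 1 := by
    rw [hx']
    apply scale_pow x z _ z 3 hz
    rw [← hz4]
    ring
  have hx'ns : ¬ IsScal x' := by
    intro hs
    rw [hx'] at hs
    obtain ⟨d, hd⟩ := isScal_of_sc_mul hs
    exact hns d hd
  have hx'1 : x' ≠ 1 := by
    rintro rfl
    exact hx'ns isScal_one
  -- the two targets
  obtain ⟨y₁, hy₁e, hy₁N, hy₁3, hy₁t⟩ := ord3_tr1_spec h2 hX h hιF
  have hwU : hw h2 a b h.aa h.bb ∈ Cfsg.GU 4 F p := hw_hs hF h2 a b h.aa h.bb (hRU h.ma) (hRU h.mb)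
  have hwU' : hw h2 a' b' h.aa' h.bb' ∈ Cfsg.GU 4 F p :=
    hw_hs hF h2 a' b' h.aa' h.bb' (hRU h.ma') (hRU h.mb')
  have hy₁U : y₁ ∈ Cfsg.GU 4 F p := by
    rw [hy₁e]
    exact mul_mem (mul_mem hwU hwU) (mul_mem hwU' hwU')
  obtain ⟨y₂, hy₂⟩ : ∃ y₂, y₂ = hw h2 a b h.aa h.bb * hw h2 a b h.aa h.bb := ⟨_, rfl⟩
  have hy₂U : y₂ ∈ Cfsg.GU 4 F p := hy₂ ▸ mul_mem hwU hwU
  have hy₂N : y₂ ∈ normalizer (R : Set (GL (Fin 4) F)) :=
    hy₂ ▸ mul_mem (hw_mem_normalizer h2 a b h.aa h.bb R hX h.ma h.mb)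
      (hw_mem_normalizer h2 a b h.aa h.bb R hX h.ma h.mb)
  have hy₂3 : y₂ ^ 3 = 1 := hy₂ ▸ y2_cube h2 a b h.aa h.bb h.ab
  have hy₂t : Matrix.trace (y₂ : Matrix (Fin 4) (Fin 4) F) = -2 :=
    hy₂ ▸ y2_trace h2 a b h.aa h.bb R hX h.ma h.mb h.ab hιF
  have hy₁1 : y₁ ≠ 1 := by
    rintro rfl
    rw [Units.val_one, Matrix.trace_one, hιF] at hy₁t
    apply h3
    linear_combination hy₁t
  have hy₂1 : y₂ ≠ 1 := by
    rintro rfl
    rw [Units.val_one, Matrix.trace_one, hιF] at hy₂t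
    apply h6
    linear_combination hy₂t
  have hne12 : (y₁ : Matrix (Fin 4) (Fin 4) F).charpoly ≠ (y₂ : Matrix (Fin 4) (Fin 4) F).charpoly := by
    intro hc
    have ht : Matrix.trace (y₁ : Matrix (Fin 4) (Fin 4) F) =
        Matrix.trace (y₂ : Matrix (Fin 4) (Fin 4) F) := by
      rw [Matrix.trace_eq_neg_charpoly_nextCoeff, Matrix.trace_eq_neg_charpoly_nextCoeff, hc]
    rw [hy₁t, hy₂t] at ht
    apply h3
    linear_combination ht
  rcases gu_three hF hp3 x' y₁ y₂ hx'S.1 hy₁U hy₂U hx'3 hx'1 hy₁3 hy₁1 hy₂3 hy₂1 hne12 with hch | hch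
  · exact back_core_u hF R x x' z hz0 hx' hx'S y₁ hy₁N hy₁U 3 hcop hx'3 hy₁3 hch
  · exact back_core_u hF R x x' z hz0 hx' hx'S y₂ hy₂N hy₂U 3 hcop hx'3 hy₂3 hch

end back

end Cfsg.Agent.Lib.Helper8.Ext
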