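import Mathlib
import Cfsg.Prelude.Def_GeometricClasses
import Cfsg.Prelude.Def_LieClassical
import Cfsg.Agent.Lib.Helper8.Exu5

set_option autoImplicit false

/-! S6001: the backward direction for involutions -/

namespace Cfsg.Agent.Lib.Helper8.Ext

open scoped MatrixGroups Matrix
open Subgroup Cfsg Polynomial
open Cfsg.Agent.Lib.Helper8.Slc Cfsg.Agent.Lib.Helper5.Herm

universe u
variable {F : Type u} [Field F] [Fintype F] {p : ℕ} [Fact p.Prime] [CharP F p]
  (hF : Fintype.card F = p ^ 2)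

omit [Fintype F] [Fact p.Prime] [CharP F p] in
theorem pow_eight {n : ℕ} (u : GL (Fin n) F) (z : F)
    (h : (u : Matrix (Fin n) (Fin n) F) * (u : Matrix (Fin n) (Fin n) F) = z • 1)
    (hz4 : z ^ 4 = 1) : u ^ 8 = 1 := by
  apply Units.ext
  have : (u : Matrix (Fin n) (Fin n) F) ^ 8 =
      ((u : Matrix (Fin n) (Fin n) F) * (u : Matrix (Fin n) (Fin n) F)) ^ 4 := by
    rw [← pow_two, ← pow_mul]
  rw [Units.val_pow_eq_pow_val, this, h, _root_.smul_pow, one_pow, hz4, one_smul, Units.val_one]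

omit [Fintype F] in
theorem unit_of_trace (hodd : Odd p) (c e t z : F) (he : e ^ p = e) (he0 : e ≠ 0) (hz : z = c * c)
    (hc0 : c ≠ 0) (ht : t = e * c) (h : z⁻¹ * t = t ^ p) : c ^ (p + 1) = 1 := by
  have hz0 : z ≠ 0 := by rw [hz]; exact mul_ne_zero hc0 hc0
  rw [ht, mul_pow, he] at h
  have h1 : e * (z⁻¹ * c - c ^ p) = 0 := by linear_combination h
  rcases mul_eq_zero.mp h1 with h3 | h3
  · exact absurd h3 he0
  · have h4 : c ^ p = z⁻¹ * c := by linear_combination -h3
    rw [pow_succ, h4, hz]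
    field_simp

section back
variable (hp4 : p % 4 = 3)
  {R : Subgroup (GL (Fin 4) F)} [Finite R] (hX : XS R) {ζ a b a' b' : GL (Fin 4) F}
  (h : QQ R ζ a b a' b') (hRU : R ≤ Cfsg.GU 4 F p)

include hF hp4 hX h hRU in
theorem back2u : ∀ x ∈ SUg 4 F p,
    (∃ z : F, ((x ^ 2 : GL (Fin 4) F) : Matrix (Fin 4) (Fin 4) F) =
      z • (1 : Matrix (Fin 4) (Fin 4) F)) →
    (∀ z : F, (x : Matrix (Fin 4) (Fin 4) F) ≠ z • (1 : Matrix (Fin 4) (Fin 4) F)) →
    ∃ g ∈ SUg 4 F p, g⁻¹ * x * g ∈ Cfsg.Geo.subgroupNormalizer R := by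
  intro x hx ⟨z, hz⟩ hns
  have h2 : (2 : F) ≠ 0 := two_ne_zero_u hp4
  have hp3 : 3 ≤ p := by
    have := (Fact.out : p.Prime).two_le
    omega
  have hodd : Odd p := by
    rw [Nat.odd_iff]
    omega
  have hι : Fintype.card (Fin 4) = 4 := by simp
  have hιF : ((Fintype.card (Fin 4) : ℕ) : F) = 4 := by simp
  have hζc : ∀ c, ζ * c = c * ζ := fun c => isScal_comm h.sζ c
  have hz4 : z ^ 4 = 1 := by
    have := scalar_pow_card hx.2 2 z hz
    simpa using this
  have hz0 : z ≠ 0 := by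
    rintro rfl
    simp at hz4
  have hsq : IsSquare z := by
    rw [FiniteField.isSquare_iff (Cfsg.Agent.Lib.Helper2.Subf.ringChar_ne_two h2) hz0, hF]
    obtain ⟨k, hk⟩ : ∃ k, p = 4 * k + 3 := ⟨p / 4, by omega⟩
    obtain ⟨N, hN⟩ : ∃ N, N = p ^ 2 := ⟨_, rfl⟩
    obtain ⟨kk, hkk⟩ : ∃ kk, kk = k * k := ⟨_, rfl⟩
    have h1 : N = 2 * (4 * (2 * kk + 3 * k + 1)) + 1 := by rw [hN, hkk, hk]; ring
    have h3 : N / 2 = 4 * (2 * kk + 3 * k + 1) := by omega
    rw [← hN, h3, pow_mul, hz4, one_pow]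
  obtain ⟨c, hc⟩ := hsq
  have hc0 : c ≠ 0 := by
    rintro rfl
    apply hz0
    rw [hc, mul_zero]
  have hM : (x : Matrix (Fin 4) (Fin 4) F) * (x : Matrix (Fin 4) (Fin 4) F) =
      (c * c) • (1 : Matrix (Fin 4) (Fin 4) F) := by
    rw [← Units.val_mul, ← pow_two, hz, hc]
  obtain ⟨k₁, k₂, hk, hch, h0, h0', htr⟩ := gen_inv_type h2 hι c hc0 _ hM
  have hk1 : k₁ ≠ 0 := fun h => hns _ (h0 h)
  have hk2 : k₂ ≠ 0 := fun h => hns _ (h0' h)
  have hdet := gen_inv_det hι c _ k₁ k₂ hch hk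
  rw [det_of_mem_SL hx.2] at hdet
  have hx8 : x ^ 8 = 1 := pow_eight x z (by rw [hM, hc]) hz4
  have hinv : ((x⁻¹ : GL (Fin 4) F) : Matrix (Fin 4) (Fin 4) F) =
      z⁻¹ • (x : Matrix (Fin 4) (Fin 4) F) := by
    apply Units.inv_eq_of_mul_eq_one_right
    rw [Matrix.mul_smul, hM, ← hc, smul_smul, inv_mul_cancel₀ hz0, one_smul]
  have htinv := trace_inv_of_mem_GU hF x hx.1
  rw [hinv, Matrix.trace_smul, smul_eq_mul] at htinv
  -- the case of an odd number of eigenvalues `c`
  have hoddcase : ∀ e : F, e ^ p = e → e ≠ 0 →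
      Matrix.trace (x : Matrix (Fin 4) (Fin 4) F) = e * c → (-1 : F) * c ^ 4 = 1 →
      c ^ (p + 1) = 1 ∧ (6 : F) ≠ 0 := by
    intro e he he0 het hc4
    have hcu := unit_of_trace hodd c e _ z he he0 hc hc0 het htinv
    refine ⟨hcu, ?_⟩
    have hp7 : 7 ≤ p := by
      by_contra hlt
      have hp3' : p = 3 := by
        have := (Fact.out : p.Prime).two_le
        omega
      rw [hp3'] at hcu
      apply h2
      have : c ^ (3 + 1) = c ^ 4 := rfl
      rw [this] at hcu
      rw [hcu] at hc4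
      linear_combination (-1 : F) * hc4
    intro h6
    have h6' : ((6 : ℕ) : F) = 0 := by exact_mod_cast h6
    rw [CharP.cast_eq_zero_iff F p] at h6'
    have := Nat.le_of_dvd (by norm_num) h6'
    omega
  -- reflection
  obtain ⟨rf, hrfN, hrfU, hrf2, hrft⟩ := exists_uinv_tr2 hF h2 hX h hιF hRU hp4
  have hrfM : (rf : Matrix (Fin 4) (Fin 4) F) * (rf : Matrix (Fin 4) (Fin 4) F) = 1 := by
    rw [← Units.val_mul, ← pow_two, hrf2, Units.val_one]
  have hrfns : (6 : F) ≠ 0 → ¬ IsScal rf := by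
    rintro h6 ⟨d, hd⟩
    rw [hd, Matrix.smul_mul, Matrix.mul_smul, Matrix.mul_one, smul_smul] at hrfM
    have hdd : d * d = 1 := by
      apply smul_one_inj (ι := Fin 4)
      rw [hrfM, one_smul]
    rw [hd, Matrix.trace_smul, Matrix.trace_one, hιF, smul_eq_mul] at hrft
    have : (d - 1) * (d + 1) = 0 := by linear_combination hdd
    rcases mul_eq_zero.mp this with h1 | h1
    · have hd1 : d = 1 := by linear_combination h1
      rw [hd1] at hrft
      apply h2
      linear_combination hrft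
    · have hd1 : d = -1 := by linear_combination h1
      rw [hd1] at hrft
      apply h6
      linear_combination (-1 : F) * hrft
  have hsel : ∃ y : GL (Fin 4) F, y ∈ normalizer (R : Set (GL (Fin 4) F)) ∧ y ∈ Cfsg.GU 4 F p ∧
      (y : Matrix (Fin 4) (Fin 4) F) * (y : Matrix (Fin 4) (Fin 4) F) =
        (c * c) • (1 : Matrix (Fin 4) (Fin 4) F) ∧
      Matrix.trace (y : Matrix (Fin 4) (Fin 4) F) =
        Matrix.trace (x : Matrix (Fin 4) (Fin 4) F) ∧
      (∀ w : F, (y : Matrix (Fin 4) (Fin 4) F) ≠ w • (1 : Matrix (Fin 4) (Fin 4) F)) := by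
    have hk1' : k₁ = 1 ∨ k₁ = 2 ∨ k₁ = 3 := by omega
    rcases hk1' with rfl | rfl | rfl
    · obtain rfl : k₂ = 3 := by omega
      have het : Matrix.trace (x : Matrix (Fin 4) (Fin 4) F) = (-2) * c := by
        rw [htr]; push_cast; ring
      obtain ⟨hcu, h6⟩ := hoddcase (-2) (by rw [Odd.neg_pow hodd, two_pow_p]) (by
        intro h; apply h2; linear_combination (-1 : F) * h) het (by
          rw [pow_one] at hdet; exact hdet.symm)
      refine ⟨sc c hc0 * (-rf), ?_, ?_, ?_, ?_, ?_⟩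
      · apply mul_mem (isScal_mem_normalizer R (sc_isScal _ _))
        have : -rf = (-1) * rf := by simp
        rw [this]
        exact mul_mem (Subgroup.le_normalizer hX.negOne) hrfN
      · apply mul_mem (sc_mem_GU c hc0 hcu)
        have : -rf = (-1) * rf := by simp
        rw [this]
        exact mul_mem (hRU hX.negOne) hrfU
      · rw [sc_mul_val, Units.val_neg, smul_mul_smul_comm, neg_mul_neg, hrfM]
      · rw [sc_mul_val, Units.val_neg, Matrix.trace_smul, Matrix.trace_neg, hrft, het, smul_eq_mul]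
        ring
      · intro w hw
        apply hrfns h6
        refine ⟨-(c⁻¹ * w), ?_⟩
        rw [sc_mul_val, Units.val_neg] at hw
        calc (rf : Matrix (Fin 4) (Fin 4) F)
            = (-c⁻¹) • (c • -(rf : Matrix (Fin 4) (Fin 4) F)) := by
              rw [smul_smul, neg_mul, inv_mul_cancel₀ hc0, neg_one_smul, neg_neg]
          _ = (-c⁻¹) • (w • (1 : Matrix (Fin 4) (Fin 4) F)) := by rw [hw]
          _ = (-(c⁻¹ * w)) • (1 : Matrix (Fin 4) (Fin 4) F) := by rw [smul_smul, neg_mul]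
    · obtain rfl : k₂ = 2 := by omega
      have hc4 : c ^ 4 = 1 := by
        rw [hdet]; ring
      have hcu := pow_p_add_one_of_pow_four hp4 c hc4
      have het : Matrix.trace (x : Matrix (Fin 4) (Fin 4) F) = 0 := by
        rw [htr]; push_cast; ring
      have htt : (ζ * a) * (ζ * a) = 1 := by
        rw [sq_cm (hζc a), h.ζζ, h.aa]; simp
      have htM : ((ζ * a : GL (Fin 4) F) : Matrix (Fin 4) (Fin 4) F) *
          ((ζ * a : GL (Fin 4) F) : Matrix (Fin 4) (Fin 4) F) = 1 := by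
        rw [← Units.val_mul, htt, Units.val_one]
      have hac : AC (ζ * a) b := cm_mul_ac (hζc b) h.ab
      refine ⟨sc c hc0 * (ζ * a), ?_, ?_, ?_, ?_, ?_⟩
      · exact mul_mem (isScal_mem_normalizer R (sc_isScal _ _))
          (Subgroup.le_normalizer (mul_mem h.mζ h.ma))
      · exact mul_mem (sc_mem_GU c hc0 hcu) (hRU (mul_mem h.mζ h.ma))
      · rw [sc_mul_val, smul_mul_smul_comm, htM]
      · rw [sc_mul_val, Matrix.trace_smul, tr0 hX h2 (mul_mem h.mζ h.ma) hac, het, smul_zero]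
      · intro w hw
        apply not_isScal_of_ac h2 hac
        refine ⟨c⁻¹ * w, ?_⟩
        rw [sc_mul_val] at hw
        have := congrArg (fun M => c⁻¹ • M) hw
        simp only [smul_smul, inv_mul_cancel₀ hc0, one_smul] at this
        exact this
    · obtain rfl : k₂ = 1 := by omega
      have het : Matrix.trace (x : Matrix (Fin 4) (Fin 4) F) = 2 * c := by
        rw [htr]; push_cast; ring
      obtain ⟨hcu, h6⟩ := hoddcase 2 two_pow_p h2 het (by
        have : (-1 : F) ^ 3 = -1 := by norm_num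
        rw [this] at hdet; exact hdet.symm)
      refine ⟨sc c hc0 * rf, ?_, ?_, ?_, ?_, ?_⟩
      · exact mul_mem (isScal_mem_normalizer R (sc_isScal _ _)) hrfN
      · exact mul_mem (sc_mem_GU c hc0 hcu) hrfU
      · rw [sc_mul_val, smul_mul_smul_comm, hrfM]
      · rw [sc_mul_val, Matrix.trace_smul, hrft, het, smul_eq_mul, mul_comm]
      · intro w hw
        apply hrfns h6
        refine ⟨c⁻¹ * w, ?_⟩
        rw [sc_mul_val] at hw
        have := congrArg (fun M => c⁻¹ • M) hw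
        simp only [smul_smul, inv_mul_cancel₀ hc0, one_smul] at this
        exact this
  obtain ⟨y, hyN, hyU, hyM, hyt, hyns⟩ := hsel
  have hch' := gen_inv_same p hp3 h2 hι c hc0 _ _ hM hyM hns hyns hyt.symm
  have hy8 : y ^ 8 = 1 := pow_eight y z (by rw [hyM, hc]) hz4
  have hcop : Nat.Coprime 8 p := by
    have : Nat.Coprime (2 ^ 3) p :=
      Nat.Coprime.pow_left 3 ((Nat.coprime_primes Nat.prime_two (Fact.out : p.Prime)).mpr (by omega))
    exact this
  exact back_core_u hF R x x 1 one_ne_zero (by rw [sc_one, one_mul]) hx y hyN hyU 8 hcop hx8 hy8 hch'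

end back

end Cfsg.Agent.Lib.Helper8.Ext
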