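import Mathlib
import Cfsg.Prelude.Def_GeometricClasses
import Cfsg.Prelude.Def_LieClassical
import Cfsg.Agent.Lib.Helper8.Exu6
import Cfsg.Agent.Lib.Helper8.Exl7
import Cfsg.Agent.Lib.Helper5.HermGen
import Cfsg.Agent.Lib.Helper5.HermCenter
import Cfsg.Agent.Lib.Helper5.HermCount
import Cfsg.Agent.Lib.Helper5.HermTv

set_option autoImplicit false

/-! S6001: the forward direction -/

namespace Cfsg.Agent.Lib.Helper8.Ext

open scoped MatrixGroups Matrix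
open Subgroup Cfsg Polynomial
open Cfsg.Agent.Lib.Helper5.Herm

universe u
variable {F : Type u} [Field F] [Fintype F] {p : ℕ} [Fact p.Prime] [CharP F p]
  (hF : Fintype.card F = p ^ 2)

/-- the property of the statement, for the special unitary group -/
def PU (p : ℕ) (R : Subgroup (GL (Fin 4) F)) (r : ℕ) : Prop :=
  ∀ x ∈ Cfsg.GU 4 F p ⊓ Cfsg.Geo.specialLinear (Fin 4) F,
    (∃ z : F, ((x ^ r : GL (Fin 4) F) : Matrix (Fin 4) (Fin 4) F) =
      z • (1 : Matrix (Fin 4) (Fin 4) F)) →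
    (∀ z : F, (x : Matrix (Fin 4) (Fin 4) F) ≠ z • (1 : Matrix (Fin 4) (Fin 4) F)) →
    ∃ g ∈ Cfsg.GU 4 F p ⊓ Cfsg.Geo.specialLinear (Fin 4) F,
      g⁻¹ * x * g ∈ Cfsg.Geo.subgroupNormalizer R

omit [Fintype F] [Fact p.Prime] [CharP F p] in
theorem PU_apply {R : Subgroup (GL (Fin 4) F)} {r : ℕ} (hP : PU p R r)
    (x : GL (Fin 4) F) (hx : x ∈ SUg 4 F p) (hxr : x ^ r = 1) (hns : ¬ IsScal x) :
    ∃ g ∈ SUg 4 F p, g⁻¹ * x * g ∈ normalizer (R : Set (GL (Fin 4) F)) ∧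
      (g⁻¹ * x * g) ^ r = 1 ∧ ¬ IsScal (g⁻¹ * x * g) := by
  obtain ⟨g, hg, hgN⟩ := hP x hx ⟨1, by rw [hxr]; simp⟩ (fun z hz => hns ⟨z, hz⟩)
  exact ⟨g, hg, hgN, conj_pow_one hxr, fun hs => hns (isScal_of_conj hs)⟩

section fwd
variable (R : Subgroup (GL (Fin 4) F)) [Finite R] (hX : XS R)
  (hirr : ∀ M : Matrix (Fin 4) (Fin 4) F, (∀ s ∈ Cfsg.Geo.matrixSet R, M * s = s * M) →
    ∃ c : F, M = c • (1 : Matrix (Fin 4) (Fin 4) F))
  (h2 : (2 : F) ≠ 0)
  (hz : Nat.card (center R) = 4) (hcard : Nat.card R = 64)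

omit [Fact p.Prime] [CharP F p] in
include hX hirr h2 hz hcard in
theorem not_PU_ge_seven (r : ℕ) [hrp : Fact r.Prime] (hr7 : 7 ≤ r)
    (hdvd : r ∣ Nat.card (SUg 4 F p)) : ¬ PU p R r := by
  intro hP
  haveI : Finite (SUg 4 F p) := inferInstance
  obtain ⟨x0, hx0⟩ := exists_prime_orderOf_dvd_card' r hdvd
  have hxr : (x0 : GL (Fin 4) F) ^ r = 1 := by
    have := pow_orderOf_eq_one x0
    rw [hx0] at this
    exact_mod_cast congrArg Subtype.val this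
  have hns : ¬ IsScal (x0 : GL (Fin 4) F) := by
    rintro ⟨z, hz'⟩
    have hz4 : z ^ 4 = 1 := by
      have := scalar_pow_card x0.2.2 1 z (by rw [pow_one]; exact hz')
      simpa using this
    have h1 : x0 ^ 4 = 1 := by
      apply Subtype.ext
      apply Units.ext
      rw [Subgroup.coe_pow, Units.val_pow_eq_pow_val, hz', _root_.smul_pow, one_pow, hz4, one_smul]
      rfl
    have := orderOf_dvd_of_pow_eq_one h1
    rw [hx0] at this
    have := Nat.le_of_dvd (by norm_num) this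
    omega
  obtain ⟨g, hg, hgN, hgr, hgns⟩ := PU_apply hP x0 x0.2 hxr hns
  exact hgns (scal_of_prime_ge_seven R hX hirr h2 (by simp) 4 (Or.inr rfl) hz (by rw [hcard]) _ hgN r
    hr7 (by rw [hgr]; exact isScal_one))

include hF hX hirr h2 in
theorem not_PU_char (hodd : Odd p) : ¬ PU p R p := by
  intro hP
  have hp0 : ((p : ℕ) : F) = 0 := CharP.cast_eq_zero F p
  have hιF : ((Fintype.card (Fin 4) : ℕ) : F) = 4 := by simp
  obtain ⟨c, hc0, hc⟩ := Cfsg.Agent.Lib.Helper5.HermTv.exists_trace_zero hF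
  obtain ⟨l, hl⟩ := Cfsg.Agent.Lib.Helper5.HermCount.exists_norm_eq hF (-1 : F)
    (neg_ne_zero.mpr one_ne_zero) (pow_q_neg_one hF)
  obtain ⟨v, hv⟩ : ∃ v : Fin 4 → F, v = ![1, l, 0, 0] := ⟨_, rfl⟩
  have hpz : p ≠ 0 := (Fact.out : p.Prime).ne_zero
  have hiso : hermForm 4 F p v v = 0 := by
    unfold hermForm
    rw [Fin.sum_univ_four, hv]
    simp [hpz]
    have : l * l ^ p = l ^ (p + 1) := by ring
    rw [this, hl]
    ring
  obtain ⟨φ, hφ⟩ : ∃ φ : Fin 4 → F, φ = fun j => (v j) ^ p := ⟨_, rfl⟩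
  have hφv : φ ⬝ᵥ v = 0 := by
    have : φ ⬝ᵥ v = hermForm 4 F p v v := by
      unfold hermForm
      rw [dotProduct, hφ]
      exact Finset.sum_congr rfl (fun i _ => mul_comm _ _)
    rw [this, hiso]
  have hQ : Cfsg.Agent.Lib.Helper5.HermTv.QCond 4 p v c := by
    unfold Cfsg.Agent.Lib.Helper5.HermTv.QCond
    rw [hiso, hc]
    ring
  obtain ⟨x0, hx0⟩ : ∃ x0 : GL (Fin 4) F, x0 =
    ((Cfsg.Agent.Lib.Helper5.HermTv.qtv hF 4 v c hQ : ↥(Cfsg.GU 4 F p)) : GL (Fin 4) F) := ⟨_, rfl⟩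
  have hx0v : (x0 : Matrix (Fin 4) (Fin 4) F) = 1 + Matrix.vecMulVec (c • v) φ := by
    rw [hx0, Cfsg.Agent.Lib.Helper5.HermTv.qtv_coe]
    unfold unitaryTransvection
    rw [hφ, Matrix.smul_vecMulVec]
  have hxU : x0 ∈ Cfsg.GU 4 F p := by
    rw [hx0]
    exact (Cfsg.Agent.Lib.Helper5.HermTv.qtv hF 4 v c hQ).2
  have hxS : x0 ∈ SUg 4 F p := by
    refine ⟨hxU, mem_SL_of_det ?_⟩
    rw [hx0, Cfsg.Agent.Lib.Helper5.HermTv.qtv_coe, Cfsg.Agent.Lib.Helper5.HermGen.det_tv, hiso,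
      mul_zero, add_zero]
  have hNN : Matrix.vecMulVec (c • v) φ * Matrix.vecMulVec (c • v) φ = 0 := by
    rw [Matrix.vecMulVec_mul_vecMulVec, dotProduct_smul, hφv, smul_zero, zero_smul]
    ext i j
    simp [Matrix.vecMulVec_apply]
  have hxp : x0 ^ p = 1 := by
    apply Units.ext
    rw [Units.val_pow_eq_pow_val, hx0v, one_add_pow_sq_zero _ hNN, hp0, zero_smul, add_zero,
      Units.val_one]
  have hv0 : v 0 = 1 := by rw [hv]; rfl
  have hv1 : v 1 = l := by rw [hv]; rfl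
  have hns : ¬ IsScal x0 := by
    rintro ⟨w, hw⟩
    rw [hx0v] at hw
    have e01 := congrFun (congrFun hw 0) 1
    rw [Matrix.add_apply, Matrix.one_apply_ne (by decide), zero_add, Matrix.vecMulVec_apply,
      Matrix.smul_apply, Matrix.one_apply_ne (by decide), smul_zero, hφ, Pi.smul_apply, hv0] at e01
    simp only [hv1, smul_eq_mul, mul_one] at e01
    rcases mul_eq_zero.mp e01 with h | h
    · exact hc0 h
    · have hl0 : l = 0 := pow_eq_zero_iff hpz |>.mp h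
      rw [hl0, zero_pow (Nat.succ_ne_zero p)] at hl
      exact one_ne_zero (by linear_combination hl)
  obtain ⟨g, hg, hgN, hgr, hgns⟩ := PU_apply hP x0 hxS hxp hns
  apply hgns
  apply isScal_of_comm_all R hirr
  obtain ⟨G, hG⟩ : ∃ G : Matrix (Fin 4) (Fin 4) F, G = (g : Matrix (Fin 4) (Fin 4) F) := ⟨_, rfl⟩
  obtain ⟨G', hG'⟩ : ∃ G' : Matrix (Fin 4) (Fin 4) F,
    G' = ((g⁻¹ : GL (Fin 4) F) : Matrix (Fin 4) (Fin 4) F) := ⟨_, rfl⟩
  have h1 : G * G' = 1 := by rw [hG, hG', ← Units.val_mul, mul_inv_cancel, Units.val_one]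
  have h1' : G' * G = 1 := by rw [hG, hG', ← Units.val_mul, inv_mul_cancel, Units.val_one]
  have hdot : (φ ᵥ* G) ⬝ᵥ (G' *ᵥ (c • v)) = 0 := by
    rw [← Matrix.dotProduct_mulVec, Matrix.mulVec_mulVec, h1, Matrix.one_mulVec, dotProduct_smul,
      hφv, smul_zero]
  have hxm : ((g⁻¹ * x0 * g : GL (Fin 4) F) : Matrix (Fin 4) (Fin 4) F) =
      1 + Matrix.vecMulVec (G' *ᵥ (c • v)) (φ ᵥ* G) := by
    rw [Units.val_mul, Units.val_mul, hx0v, ← hG, ← hG', mul_add, add_mul, mul_one, h1',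
      Matrix.mul_vecMulVec, Matrix.vecMulVec_mul]
  exact not_transv R hX h2 p hp0 hodd _ hgN _ _ hdot hιF hxm

end fwd

end Cfsg.Agent.Lib.Helper8.Ext
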