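import Mathlib
import Cfsg.Prelude.Def_GeometricClasses
import Cfsg.Prelude.Def_LieClassical
import Cfsg.Agent.Lib.Helper8.Exu7
import Cfsg.Agent.Lib.Helper5.HermBlock

set_option autoImplicit false

/-! S6001: the forward direction, elements of order three and five -/

namespace Cfsg.Agent.Lib.Helper8.Ext

open scoped MatrixGroups Matrix
open Subgroup Cfsg Polynomial
open Cfsg.Agent.Lib.Helper5.Herm Cfsg.Agent.Lib.Helper5.HermBlock

universe u
variable {F : Type u} [Field F] [Fintype F] {p : ℕ} [Fact p.Prime] [CharP F p]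
  (hF : Fintype.card F = p ^ 2)

section gold
variable {ι : Type} [Fintype ι] [DecidableEq ι] {K : Type*} [Field K]

theorem pow_five_of_golden (A : Matrix ι ι K) (t : K) (ht : t ^ 2 + t - 1 = 0)
    (hA : A * A = t • A - 1) : A ^ 5 = 1 := by
  have h3 : A * A * A = (t ^ 2 - 1) • A - t • (1 : Matrix ι ι K) := by
    calc A * A * A = (t • A - 1) * A := by rw [hA]
      _ = t • (A * A) - A := by rw [sub_mul, smul_mul_assoc, one_mul]
      _ = t • (t • A - 1) - A := by rw [hA]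
      _ = (t ^ 2 - 1) • A - t • (1 : Matrix ι ι K) := by module
  have e1 : t ^ 4 - 3 * t ^ 2 + 1 = 0 := by linear_combination (t ^ 2 - t - 1) * ht
  have e2 : -t ^ 3 + 2 * t = 1 := by linear_combination (-(t - 1)) * ht
  have h5 : A ^ 5 = (A * A) * (A * A * A) := by
    simp only [pow_succ, pow_zero, one_mul, mul_assoc]
  calc A ^ 5 = (A * A) * (A * A * A) := h5
    _ = (t • A - 1) * ((t ^ 2 - 1) • A - t • (1 : Matrix ι ι K)) := by rw [h3, hA]
    _ = (t * (t ^ 2 - 1)) • (A * A) - (t * t) • A - (t ^ 2 - 1) • A + t • (1 : Matrix ι ι K) := by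
      simp only [sub_mul, mul_sub, smul_mul_assoc, mul_smul_comm, one_mul, mul_one, smul_smul]
      module
    _ = (t * (t ^ 2 - 1)) • (t • A - 1) - (t * t) • A - (t ^ 2 - 1) • A
        + t • (1 : Matrix ι ι K) := by rw [hA]
    _ = (t ^ 4 - 3 * t ^ 2 + 1) • A + (-t ^ 3 + 2 * t) • (1 : Matrix ι ι K) := by module
    _ = 1 := by rw [e1, e2, zero_smul, zero_add, one_smul]

theorem fin_two_sq (M : Matrix (Fin 2) (Fin 2) K) :
    M * M = M.trace • M - M.det • (1 : Matrix (Fin 2) (Fin 2) K) := by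
  have h := Matrix.aeval_self_charpoly M
  rw [Matrix.charpoly_fin_two] at h
  simp only [map_add, map_sub, map_mul, map_pow, aeval_X, aeval_C,
    Algebra.algebraMap_eq_smul_one] at h
  rw [pow_two, smul_mul_assoc, one_mul] at h
  rw [eq_sub_iff_add_eq, ← sub_eq_zero]
  rw [← h]
  abel

end gold

omit [Fintype F] in
/-- a root of `t² + t - 1` in the prime field when `p ≡ ±1 (mod 5)` -/
theorem exists_golden' (hp2 : p ≠ 2) (h5 : p % 5 = 1 ∨ p % 5 = 4) :
    ∃ t : F, t ^ 2 + t - 1 = 0 ∧ t ^ p = t := by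
  have hsq : IsSquare ((p : ℕ) : ZMod 5) := by
    rw [← ZMod.natCast_mod]
    rcases h5 with h | h <;> rw [h]
    · exact ⟨1, by decide⟩
    · exact ⟨2, by decide⟩
  haveI : Fact (Nat.Prime 5) := ⟨by norm_num⟩
  have h1 := (ZMod.exists_sq_eq_prime_iff_of_mod_four_eq_one (p := 5) (q := p) (by norm_num) hp2).mp hsq
  obtain ⟨a, ha⟩ := h1
  obtain ⟨s, hs, hsp⟩ : ∃ s : F, s * s = 5 ∧ s ^ p = s := by
    refine ⟨ZMod.castHom (dvd_refl p) F a, ?_, ?_⟩
    · rw [← map_mul, ← ha, map_natCast]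
      norm_num
    · rw [← map_pow, ZMod.pow_card]
  have h2 : (2 : F) ≠ 0 := by
    intro h
    have h1 : ((2 : ℕ) : F) = 0 := by exact_mod_cast h
    have h3 := (CharP.cast_eq_zero_iff F p 2).mp h1
    exact hp2 ((Nat.prime_dvd_prime_iff_eq (Fact.out : p.Prime) Nat.prime_two).mp h3)
  refine ⟨(s - 1) / 2, ?_, ?_⟩
  · field_simp
    linear_combination hs
  · rw [div_pow, sub_pow_char, hsp, one_pow, two_pow_p]

section fwd
variable (R : Subgroup (GL (Fin 4) F)) [Finite R] (hX : XS R)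
  (hirr : ∀ M : Matrix (Fin 4) (Fin 4) F, (∀ s ∈ Cfsg.Geo.matrixSet R, M * s = s * M) →
    ∃ c : F, M = c • (1 : Matrix (Fin 4) (Fin 4) F))
  (h2 : (2 : F) ≠ 0)
  (hz : Nat.card (center R) = 4) (hcard : Nat.card R = 64)

include hF hX hirr h2 hz hcard in
theorem not_PU_three (ω : F) (hω : ω ^ 2 + ω + 1 = 0) (hωu : ω ^ (p + 1) = 1) (h3 : (3 : F) ≠ 0) :
    ¬ PU p R 3 := by
  intro hP
  have hω3 : ω ^ 3 = 1 := by linear_combination (ω - 1) * hω
  have hω1 : ω ≠ 1 := by
    rintro rfl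
    apply h3
    linear_combination hω
  obtain ⟨D, hD⟩ : ∃ D : Matrix (Fin 4) (Fin 4) F, D = Matrix.diagonal ![ω, ω, ω, 1] := ⟨_, rfl⟩
  obtain ⟨D', hD'⟩ : ∃ D' : Matrix (Fin 4) (Fin 4) F,
    D' = Matrix.diagonal ![ω ^ 2, ω ^ 2, ω ^ 2, 1] := ⟨_, rfl⟩
  have hDD' : D * D' = 1 := by
    rw [hD, hD', Matrix.diagonal_mul_diagonal, ← Matrix.diagonal_one]
    congr 1
    funext i
    fin_cases i <;> simp <;> linear_combination hω3
  have hD'D : D' * D = 1 := by
    rw [hD, hD', Matrix.diagonal_mul_diagonal, ← Matrix.diagonal_one]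
    congr 1
    funext i
    fin_cases i <;> simp <;> linear_combination hω3
  obtain ⟨x0, hx0, hx0'⟩ : ∃ x0 : GL (Fin 4) F, (x0 : Matrix (Fin 4) (Fin 4) F) = D ∧
      ((x0⁻¹ : GL (Fin 4) F) : Matrix (Fin 4) (Fin 4) F) = D' := ⟨⟨D, D', hDD', hD'D⟩, rfl, rfl⟩
  have hxU : x0 ∈ Cfsg.GU 4 F p := by
    rw [Cfsg.Agent.Lib.Helper5.HermCenter.mem_GU_iff' hF, hx0, hD]
    apply Cfsg.Agent.Lib.Helper5.HermCenter.isU_diagonal hF
    intro i
    fin_cases i <;> simp [hωu]
  have hxS : x0 ∈ SUg 4 F p := by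
    refine ⟨hxU, mem_SL_of_det ?_⟩
    rw [hx0, hD, Matrix.det_diagonal, Fin.prod_univ_four]
    simp
    linear_combination hω3
  have hx3 : x0 ^ 3 = 1 := by
    apply Units.ext
    rw [Units.val_pow_eq_pow_val, hx0, hD, Matrix.diagonal_pow, Units.val_one, ← Matrix.diagonal_one]
    congr 1
    funext i
    fin_cases i <;> simp [hω3]
  have hns : ¬ IsScal x0 := by
    rintro ⟨z, hz'⟩
    rw [hx0, hD] at hz'
    have e0 := congrFun (congrFun hz' 0) 0
    have e3 := congrFun (congrFun hz' 3) 3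
    simp at e0 e3
    apply hω1
    rw [e0, ← e3]
  obtain ⟨g, hg, hgN, hgr, hgns⟩ := PU_apply hP x0 hxS hx3 hns
  haveI : Fact (Nat.Prime 3) := ⟨by norm_num⟩
  obtain ⟨m, hm16, hmne, hdvd, htr⟩ := key4 R hX hirr h2 (by simp) hz hcard _ hgN 3
    (by decide) hgr hgns
  rw [trace_conj, trace_conj_inv, hx0, hx0', hD, hD', Matrix.trace_diagonal, Matrix.trace_diagonal,
    Fin.sum_univ_four, Fin.sum_univ_four] at htr
  simp at htr
  have hmle : m ≤ 16 := Nat.le_of_dvd (by norm_num) hm16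
  have hcases : m = 1 ∨ m = 4 := by
    interval_cases m <;> first | omega | (exfalso; revert hm16; decide) | (exfalso; revert hdvd; decide)
  rcases hcases with rfl | rfl
  · apply h3
    have h6 : (2 : F) * 3 = 0 := by
      rw [Nat.cast_one] at htr
      linear_combination htr - 9 * hω3 - 3 * hω
    rcases mul_eq_zero.mp h6 with h | h
    · exact absurd h h2
    · exact h
  · apply h3
    have : ((4 : ℕ) : F) = 4 := by norm_num
    rw [this] at htr
    linear_combination htr - 9 * hω3 - 3 * hω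

end fwd

end Cfsg.Agent.Lib.Helper8.Ext
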