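import Mathlib
import Cfsg.Prelude.Def_GeometricClasses
import Cfsg.Prelude.Def_LieClassical
import Cfsg.Agent.Lib.Helper8.Exu8

set_option autoImplicit false

/-! S6001: the forward direction, elements of order five -/

namespace Cfsg.Agent.Lib.Helper8.Ext

open scoped MatrixGroups Matrix
open Subgroup Cfsg Polynomial
open Cfsg.Agent.Lib.Helper5.Herm Cfsg.Agent.Lib.Helper5.HermBlock

universe u
variable {F : Type u} [Field F] [Fintype F] {p : ℕ} [Fact p.Prime] [CharP F p]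
  (hF : Fintype.card F = p ^ 2)

include hF in
/-- an element of order five of `SU_2(p)` with trace `t` -/
theorem exists_su2_five (hodd : Odd p) (h2 : (2 : F) ≠ 0) (h5 : (5 : F) ≠ 0) (t : F)
    (ht : t ^ 2 + t - 1 = 0) (htp : t ^ p = t) :
    ∃ L : GL (Fin 2) F, L ∈ Cfsg.GU 2 F p ∧ L ^ 5 = 1 ∧
      (L : Matrix (Fin 2) (Fin 2) F).det = 1 ∧ (L : Matrix (Fin 2) (Fin 2) F).trace = t := by
  obtain ⟨α, hα⟩ : ∃ α : F, α = t / 2 := ⟨_, rfl⟩
  have hαt : 2 * α = t := by rw [hα, mul_comm, div_mul_cancel₀ t h2]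
  have hαp : α ^ p = α := by rw [hα, div_pow, htp, two_pow_p]
  have hn0 : 1 - α ^ 2 ≠ 0 := by
    intro h0
    have h4 : t ^ 2 = 4 := by rw [← hαt]; linear_combination (-4 : F) * h0
    have h3 : t = -3 := by linear_combination ht - h4
    rw [h3] at h4
    apply h5
    linear_combination h4
  have hnp : (1 - α ^ 2) ^ p = 1 - α ^ 2 := by
    rw [sub_pow_char, one_pow, ← pow_mul, mul_comm, pow_mul, hαp]
  obtain ⟨β, hβ⟩ := Cfsg.Agent.Lib.Helper5.HermCount.exists_norm_eq hF (1 - α ^ 2) hn0 hnp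
  have hββ : β * β ^ p = 1 - α ^ 2 := by rw [← hβ]; ring
  have hβpp : (β ^ p) ^ p = β := pow_q_pow_q hF β
  obtain ⟨L, hL⟩ : ∃ L : Matrix (Fin 2) (Fin 2) F, L = !![α, β; -(β ^ p), α] := ⟨_, rfl⟩
  obtain ⟨L', hL'⟩ : ∃ L' : Matrix (Fin 2) (Fin 2) F, L' = !![α, -β; β ^ p, α] := ⟨_, rfl⟩
  have hLL' : L * L' = 1 := by
    rw [hL, hL', Matrix.mul_fin_two, Matrix.one_fin_two]
    congr 1
    have e1 : α * α + β * β ^ p = 1 := by rw [hββ]; ring
    have e2 : α * -β + β * α = 0 := by ring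
    have e3 : -(β ^ p) * α + α * β ^ p = 0 := by ring
    have e4 : -(β ^ p) * -β + α * α = 1 := by linear_combination hββ
    rw [e1, e2, e3, e4]
  have hL'L : L' * L = 1 := by
    rw [hL, hL', Matrix.mul_fin_two, Matrix.one_fin_two]
    congr 1
    have e1 : α * α + -β * -(β ^ p) = 1 := by linear_combination hββ
    have e2 : α * β + -β * α = 0 := by ring
    have e3 : β ^ p * α + α * -(β ^ p) = 0 := by ring
    have e4 : β ^ p * β + α * α = 1 := by linear_combination hββ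
    rw [e1, e2, e3, e4]
  have hdet : L.det = 1 := by
    rw [hL, Matrix.det_fin_two_of]
    linear_combination hββ
  have htr : L.trace = t := by
    rw [hL, Matrix.trace_fin_two_of, ← hαt]
    ring
  have hsq : L * L = t • L - 1 := by
    rw [fin_two_sq, hdet, htr, one_smul]
  have hL5 : L ^ 5 = 1 := pow_five_of_golden L t ht hsq
  refine ⟨⟨L, L', hLL', hL'L⟩, ?_, ?_, hdet, htr⟩
  · rw [Cfsg.Agent.Lib.Helper5.HermBlock.mem_GU_iff hF]
    show Lᵀ * L.map (· ^ p) = 1
    have hT : Lᵀ = !![α, -(β ^ p); β, α] := by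
      rw [hL]
      ext i j
      fin_cases i <;> fin_cases j <;> rfl
    have hm : L.map (· ^ p) = !![α ^ p, β ^ p; (-(β ^ p)) ^ p, α ^ p] := by
      rw [hL]
      ext i j
      fin_cases i <;> fin_cases j <;> rfl
    rw [hT, hm, Matrix.mul_fin_two, Matrix.one_fin_two, hαp, Odd.neg_pow hodd, hβpp]
    congr 1
    have e1 : α * α + -(β ^ p) * -β = 1 := by linear_combination hββ
    have e2 : α * β ^ p + -(β ^ p) * α = 0 := by ring
    have e3 : β * α + α * -β = 0 := by ring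
    have e4 : β * β ^ p + α * α = 1 := by linear_combination hββ
    rw [e1, e2, e3, e4]
  · apply Units.ext
    rw [Units.val_pow_eq_pow_val, Units.val_one]
    exact hL5

section fwd
variable (R : Subgroup (GL (Fin 4) F)) [Finite R] (hX : XS R)
  (hirr : ∀ M : Matrix (Fin 4) (Fin 4) F, (∀ s ∈ Cfsg.Geo.matrixSet R, M * s = s * M) →
    ∃ c : F, M = c • (1 : Matrix (Fin 4) (Fin 4) F))
  (h2 : (2 : F) ≠ 0)
  (hz : Nat.card (center R) = 4) (hcard : Nat.card R = 64)

include hF hX hirr h2 hz hcard in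
theorem not_PU_five (hodd : Odd p) (t : F) (ht : t ^ 2 + t - 1 = 0) (htp : t ^ p = t)
    (h5 : (5 : F) ≠ 0) : ¬ PU p R 5 := by
  intro hP
  obtain ⟨L, hLU, hL5, hLdet, hLtr⟩ := exists_su2_five hF hodd h2 h5 t ht htp
  obtain ⟨x0, hx0⟩ : ∃ x0 : GL (Fin 4) F, x0 = blockGL 2 2 (L, 1) := ⟨_, rfl⟩
  have hxU : x0 ∈ Cfsg.GU 4 F p := by
    rw [hx0]
    exact blockGL_mem_GU hF 2 2 (L, 1) hLU (one_mem _)
  have hx0v : (x0 : Matrix (Fin 4) (Fin 4) F) =
      (Matrix.fromBlocks (L : Matrix (Fin 2) (Fin 2) F) (0 : Matrix (Fin 2) (Fin 2) F) (0 : Matrix (Fin 2) (Fin 2) F) (1 : Matrix (Fin 2) (Fin 2) F)).submatrix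
        (finSumFinEquiv (m := 2) (n := 2)).symm (finSumFinEquiv (m := 2) (n := 2)).symm := by
    rw [hx0]
    rfl
  have hxdet : (x0 : Matrix (Fin 4) (Fin 4) F).det = 1 := by
    rw [hx0v, Matrix.det_submatrix_equiv_self, Matrix.det_fromBlocks_zero₂₁, hLdet, Matrix.det_one,
      mul_one]
  have hxS : x0 ∈ SUg 4 F p := ⟨hxU, mem_SL_of_det hxdet⟩
  have hx5 : x0 ^ 5 = 1 := by
    rw [hx0, ← map_pow, Prod.pow_mk, hL5, one_pow]
    exact map_one _
  have hxtr : Matrix.trace (x0 : Matrix (Fin 4) (Fin 4) F) = t + 2 := by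
    rw [hx0v]
    have e1 : Matrix.trace ((Matrix.fromBlocks (L : Matrix (Fin 2) (Fin 2) F) (0 : Matrix (Fin 2) (Fin 2) F) (0 : Matrix (Fin 2) (Fin 2) F) (1 : Matrix (Fin 2) (Fin 2) F)).submatrix
        (finSumFinEquiv (m := 2) (n := 2)).symm (finSumFinEquiv (m := 2) (n := 2)).symm) =
        Matrix.trace (Matrix.fromBlocks (L : Matrix (Fin 2) (Fin 2) F) (0 : Matrix (Fin 2) (Fin 2) F) (0 : Matrix (Fin 2) (Fin 2) F) (1 : Matrix (Fin 2) (Fin 2) F)) := by
      simp only [Matrix.trace, Matrix.diag, Matrix.submatrix_apply]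
      exact Equiv.sum_comp (finSumFinEquiv (m := 2) (n := 2)).symm
        (fun i => (Matrix.fromBlocks (L : Matrix (Fin 2) (Fin 2) F) (0 : Matrix (Fin 2) (Fin 2) F) (0 : Matrix (Fin 2) (Fin 2) F) (1 : Matrix (Fin 2) (Fin 2) F)) i i)
    rw [e1]
    have e2 : Matrix.trace (Matrix.fromBlocks (L : Matrix (Fin 2) (Fin 2) F) (0 : Matrix (Fin 2) (Fin 2) F) (0 : Matrix (Fin 2) (Fin 2) F)
        (1 : Matrix (Fin 2) (Fin 2) F)) = Matrix.trace (L : Matrix (Fin 2) (Fin 2) F) +
        Matrix.trace (1 : Matrix (Fin 2) (Fin 2) F) := by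
      simp [Matrix.trace, Fintype.sum_sum_type]
    rw [e2, hLtr, Matrix.trace_one]
    simp
  have hxtr' : Matrix.trace ((x0⁻¹ : GL (Fin 4) F) : Matrix (Fin 4) (Fin 4) F) = t + 2 := by
    rw [trace_inv_of_mem_GU hF x0 hxU, hxtr, add_pow_char, htp, two_pow_p]
  have hns : ¬ IsScal x0 := by
    rintro ⟨w, hw⟩
    have hw4 : w ^ 4 = 1 := by
      have := scalar_pow_card hxS.2 1 w (by rw [pow_one]; exact hw)
      simpa using this
    have hw5 : w ^ 5 = 1 := by
      have h1 : ((x0 ^ 5 : GL (Fin 4) F) : Matrix (Fin 4) (Fin 4) F) = 1 := by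
        rw [hx5, Units.val_one]
      rw [Units.val_pow_eq_pow_val, hw, _root_.smul_pow, one_pow] at h1
      apply smul_one_inj (ι := Fin 4)
      rw [h1, one_smul]
    have hw1 : w = 1 := by
      have : w ^ 5 = w ^ 4 * w := by ring
      rw [this, hw4, one_mul] at hw5
      exact hw5
    rw [hw, hw1, one_smul, Matrix.trace_one] at hxtr
    have ht2 : t = 2 := by
      simp at hxtr
      linear_combination (-1 : F) * hxtr
    rw [ht2] at ht
    apply h5
    linear_combination ht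
  obtain ⟨g, hg, hgN, hgr, hgns⟩ := PU_apply hP x0 hxS hx5 hns
  haveI : Fact (Nat.Prime 5) := ⟨by norm_num⟩
  obtain ⟨m, hm16, hmne, hdvd, htr⟩ := key4 R hX hirr h2 (by simp) hz hcard _ hgN 5
    (by decide) hgr hgns
  rw [trace_conj, trace_conj_inv, hxtr, hxtr'] at htr
  have hmle : m ≤ 16 := Nat.le_of_dvd (by norm_num) hm16
  have hcases : m = 1 := by
    interval_cases m <;> first | omega | (exfalso; revert hm16; decide) | (exfalso; revert hdvd; decide)
  rw [hcases, Nat.cast_one] at htr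
  have h13 : (t + 1) * (t + 3) = 0 := by linear_combination htr
  rcases mul_eq_zero.mp h13 with h | h
  · have ht1 : t = -1 := by linear_combination h
    rw [ht1] at ht
    have : (1 : F) = 0 := by linear_combination -ht
    exact one_ne_zero this
  · have ht3 : t = -3 := by linear_combination h
    rw [ht3] at ht
    apply h5
    linear_combination ht

end fwd

end Cfsg.Agent.Lib.Helper8.Ext
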