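import Mathlib
import Cfsg.Prelude.Def_GeometricClasses
import Cfsg.Prelude.Def_LieClassical
import Cfsg.Agent.Lib.Helper8.Exu9
import Cfsg.Agent.Lib.Helper8.Exl8

set_option autoImplicit false

/-! S6001: the main theorem -/

namespace Cfsg.Agent.Lib.Helper8.Ext

open scoped MatrixGroups Matrix
open Subgroup Cfsg Polynomial

universe u

theorem main6001 {F : Type u} [Field F] [Fintype F] {p : ℕ} [Fact p.Prime] [CharP F p]
    (hF : Fintype.card F = p ^ 2) (hp4 : p % 4 = 3)
    (R : Subgroup (GL (Fin 4) F)) (hRs : Cfsg.Geo.IsSymplecticTypeGroup 2 R)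
    (hRi : Cfsg.Geo.ActsAbsolutelyIrreducibly (Cfsg.Geo.matrixSet R))
    (hRU : R ≤ Cfsg.GU 4 F p) (hR6 : Nat.card R = 2 ^ 6) (hRZ : Nat.card (Subgroup.center R) = 4)
    (r : ℕ) [hrp : Fact r.Prime]
    (hΩ : r ∣ (Cfsg.Geo.subgroupNormalizer R).relIndex
      (Cfsg.GU 4 F p ⊓ Cfsg.Geo.specialLinear (Fin 4) F)) :
    PU p R r ↔ (r = 2 ∨ (r = 3 ∧ p % 3 = 1) ∨ (r = 5 ∧ orderOf (p : ZMod 5) = 4)) := by
  have h2 : (2 : F) ≠ 0 := two_ne_zero_u hp4
  have hodd : Odd p := by
    rw [Nat.odd_iff]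
    omega
  haveI : Finite R := inferInstance
  have hcard : Nat.card R = 64 := by rw [hR6]; norm_num
  have hS : SType R := by
    refine ⟨fun g => ?_, hRs.cyclic_of_characteristic⟩
    have := Monoid.pow_exponent_eq_one g
    rw [hRs.exponent_eq] at this
    exact this
  have hK : KK R = ⊤ := hS.KK_eq_top_of_center_four hRZ
  have hirr := hRi.2
  have hX : XS R := xs_of R hS hK hirr (by rw [hRZ]; decide)
  obtain ⟨ζ, a, b, a', b', hQ⟩ := exists_QQ R h2 hX hcard hRZ hirr
  have hdvd : r ∣ Nat.card (SUg 4 F p) := hΩ.trans (Subgroup.relIndex_dvd_card _ _)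
  constructor
  · intro hP
    by_cases hr2 : r = 2
    · left; exact hr2
    right
    by_cases hrp' : r = p
    · exfalso
      subst hrp'
      exact not_PU_char hF R hX hirr h2 hodd hP
    have hFr : ((r : ℕ) : F) ≠ 0 := by
      intro h
      have h3 := (CharP.cast_eq_zero_iff F p r).mp h
      exact hrp' ((Nat.prime_dvd_prime_iff_eq (Fact.out : p.Prime) hrp.out).mp h3).symm
    by_cases hr3 : r = 3
    · subst hr3
      left
      refine ⟨rfl, ?_⟩
      by_contra hne
      have h3 : (3 : F) ≠ 0 := by exact_mod_cast hFr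
      have hp3 : p % 3 ≠ 0 := by
        intro h
        have h3' : 3 ∣ p := Nat.dvd_of_mod_eq_zero h
        have := (Nat.prime_dvd_prime_iff_eq (by norm_num) (Fact.out : p.Prime)).mp h3'
        exact hrp' this
      have hp32 : p % 3 = 2 := by omega
      have hc3 : Fintype.card F % 3 = 1 := by
        rw [hF, Nat.pow_mod, hp32]
      obtain ⟨ω, hω⟩ := exists_omega (F := F) h3 hc3
      have hω3 : ω ^ 3 = 1 := by linear_combination (ω - 1) * hω
      have hωu : ω ^ (p + 1) = 1 := by
        have : p + 1 = 3 * ((p + 1) / 3) := by omega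
        rw [this, pow_mul, hω3, one_pow]
      exact not_PU_three hF R hX hirr h2 hRZ hcard ω hω hωu h3 hP
    by_cases hr5 : r = 5
    · subst hr5
      right
      by_cases hord : orderOf (p : ZMod 5) = 4
      · exact ⟨rfl, hord⟩
      exfalso
      have hp5' : p ≠ 5 := fun h => hrp' h.symm
      have hp2 : p ≠ 2 := by omega
      obtain ⟨t, ht, htp⟩ := exists_golden' (F := F) (p := p) hp2
        (mod_five_cases p Fact.out hp5' hord)
      exact not_PU_five hF R hX hirr h2 hRZ hcard hodd t ht htp (by exact_mod_cast hFr) hP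
    exfalso
    have hr7 : 7 ≤ r := by
      by_contra hlt
      push Not at hlt
      have hpr := hrp.out
      interval_cases r <;> first | omega | (revert hpr; decide)
    exact not_PU_ge_seven R hX hirr h2 hRZ hcard r hr7 hdvd hP
  · rintro (rfl | ⟨rfl, hp3⟩ | ⟨rfl, hord⟩)
    · exact back2u hF hp4 hX hQ hRU
    · exact back3u hF hp4 hX hQ hRU hp3
    · exact back5u hF hp4 hX hQ hRU hord

end Cfsg.Agent.Lib.Helper8.Ext
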