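import Cfsg.Agent.Lib.Helper8.F3O1a
import Cfsg.Agent.Lib.Helper8.F3O1b
import Cfsg.Agent.Lib.Helper8.F3O1c
import Cfsg.Agent.Lib.Helper8.F3O1d
import Cfsg.Agent.Lib.Helper8.F3O1e
import Cfsg.Agent.Lib.Helper8.F3O1f
import Cfsg.Agent.Lib.Helper8.F3O1g
import Cfsg.Agent.Lib.Helper8.F3O1h
import Cfsg.Agent.Lib.Helper8.F3O1i
import Cfsg.Agent.Lib.Helper8.F3O1j

set_option autoImplicit false
set_option maxRecDepth 100000
set_option Elab.async false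

/-! The Fischer group Fi23 on 31671 points: the tables (generated). -/

namespace Cfsg.Agent.Lib.Helper8.F3O

/-- the table chunk of generator `k` -/
def selB (k c : ℕ) : ℕ := @Bool.rec (fun _ => Nat) (@Bool.rec (fun _ => Nat) (@Bool.rec (fun _ => Nat) (sel0 c) (sel1 c) (Nat.ble 1 k)) (@Bool.rec (fun _ => Nat) (sel2 c) (@Bool.rec (fun _ => Nat) (sel3 c) (sel4 c) (Nat.ble 4 k)) (Nat.ble 3 k)) (Nat.ble 2 k)) (@Bool.rec (fun _ => Nat) (@Bool.rec (fun _ => Nat) (sel5 c) (sel6 c) (Nat.ble 6 k)) (@Bool.rec (fun _ => Nat) (sel7 c) (@Bool.rec (fun _ => Nat) (sel8 c) (sel9 c) (Nat.ble 9 k)) (Nat.ble 8 k)) (Nat.ble 7 k)) (Nat.ble 5 k)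
def ub (k x : ℕ) : ℕ := Nat.land (Nat.shiftRight (selB k (Nat.shiftRight x 12)) (Nat.mul 15 (Nat.land x 4095))) 32767

end Cfsg.Agent.Lib.Helper8.F3O
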