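import Cfsg.Agent.Lib.Helper8.F3O1

set_option autoImplicit false
set_option maxRecDepth 100000
set_option Elab.async false

/-! The Fischer group Fi23 on 31671 points: certificates of the tables (generated). -/

namespace Cfsg.Agent.Lib.Helper8.F3O

theorem cert_13_0 : SQ.allR 0 31671 (fun x => Nat.beq (u12 (u12 (x))) (u13 (x))) = true := by decide +kernel
theorem cert_13_all : ∀ x, x < 31671 → (Nat.beq (u12 (u12 (x))) (u13 (x))) = true := by
  intro x hp
  exact SQ.allR_spec cert_13_0 x (by omega) (by omega)

theorem cert_14_0 : SQ.allR 0 31671 (fun x => Nat.beq (u13 (u13 (x))) (u14 (x))) = true := by decide +kernel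
theorem cert_14_all : ∀ x, x < 31671 → (Nat.beq (u13 (u13 (x))) (u14 (x))) = true := by
  intro x hp
  exact SQ.allR_spec cert_14_0 x (by omega) (by omega)

theorem cert_15_0 : SQ.allR 0 31671 (fun x => Nat.beq (u14 (u14 (x))) (u15 (x))) = true := by decide +kernel
theorem cert_15_all : ∀ x, x < 31671 → (Nat.beq (u14 (u14 (x))) (u15 (x))) = true := by
  intro x hp
  exact SQ.allR_spec cert_15_0 x (by omega) (by omega)


end Cfsg.Agent.Lib.Helper8.F3O
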