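import Cfsg.Agent.Lib.Helper8.F3O1

set_option autoImplicit false
set_option maxRecDepth 100000
set_option Elab.async false

/-! The Fischer group Fi23 on 31671 points: certificates of the tables (generated). -/

namespace Cfsg.Agent.Lib.Helper8.F3O

theorem cert_19_0 : SQ.allR 0 15836 (fun x => Nat.beq (u9 (u16 (u1 (u9 (u13 (u5 (u12 (x)))))))) (u19 (u9 (u8 (u16 (u9 (u16 (u7 (u16 (x)))))))))) = true := by decide +kernel
theorem cert_19_1 : SQ.allR 15836 15835 (fun x => Nat.beq (u9 (u16 (u1 (u9 (u13 (u5 (u12 (x)))))))) (u19 (u9 (u8 (u16 (u9 (u16 (u7 (u16 (x)))))))))) = true := by decide +kernel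
theorem cert_19_all : ∀ x, x < 31671 → (Nat.beq (u9 (u16 (u1 (u9 (u13 (u5 (u12 (x)))))))) (u19 (u9 (u8 (u16 (u9 (u16 (u7 (u16 (x)))))))))) = true := by
  intro x hp
  rcases Nat.lt_or_ge x 15836 with h | h
  · exact SQ.allR_spec cert_19_0 x (by omega) (by omega)
  exact SQ.allR_spec cert_19_1 x (by omega) (by omega)

theorem cert_20_0 : SQ.allR 0 15836 (fun x => Nat.beq (u18 (u19 (u19 (u19 (u19 (u19 (u18 (u18 (u18 (u19 (u19 (u19 (u18 (x)))))))))))))) (u20 (u18 (u19 (u18 (u18 (u18 (u19 (u18 (u19 (u18 (u19 (x))))))))))))) = true := by decide +kernel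
theorem cert_20_1 : SQ.allR 15836 15835 (fun x => Nat.beq (u18 (u19 (u19 (u19 (u19 (u19 (u18 (u18 (u18 (u19 (u19 (u19 (u18 (x)))))))))))))) (u20 (u18 (u19 (u18 (u18 (u18 (u19 (u18 (u19 (u18 (u19 (x))))))))))))) = true := by decide +kernel
theorem cert_20_all : ∀ x, x < 31671 → (Nat.beq (u18 (u19 (u19 (u19 (u19 (u19 (u18 (u18 (u18 (u19 (u19 (u19 (u18 (x)))))))))))))) (u20 (u18 (u19 (u18 (u18 (u18 (u19 (u18 (u19 (u18 (u19 (x))))))))))))) = true := by
  intro x hp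
  rcases Nat.lt_or_ge x 15836 with h | h
  · exact SQ.allR_spec cert_20_0 x (by omega) (by omega)
  exact SQ.allR_spec cert_20_1 x (by omega) (by omega)

theorem cert_21_0 : SQ.allR 0 15836 (fun x => Nat.beq (u18 (u19 (u18 (u18 (u19 (u18 (u18 (u18 (u19 (u18 (u18 (u1 (u11 (u3 (u9 (u0 (x))))))))))))))))) (u21 (u1 (u11 (u3 (u9 (x))))))) = true := by decide +kernel
theorem cert_21_1 : SQ.allR 15836 15835 (fun x => Nat.beq (u18 (u19 (u18 (u18 (u19 (u18 (u18 (u18 (u19 (u18 (u18 (u1 (u11 (u3 (u9 (u0 (x))))))))))))))))) (u21 (u1 (u11 (u3 (u9 (x))))))) = true := by decide +kernel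
theorem cert_21_all : ∀ x, x < 31671 → (Nat.beq (u18 (u19 (u18 (u18 (u19 (u18 (u18 (u18 (u19 (u18 (u18 (u1 (u11 (u3 (u9 (u0 (x))))))))))))))))) (u21 (u1 (u11 (u3 (u9 (x))))))) = true := by
  intro x hp
  rcases Nat.lt_or_ge x 15836 with h | h
  · exact SQ.allR_spec cert_21_0 x (by omega) (by omega)
  exact SQ.allR_spec cert_21_1 x (by omega) (by omega)


end Cfsg.Agent.Lib.Helper8.F3O
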