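import Cfsg.Agent.Lib.Helper8.F3O1

set_option autoImplicit false
set_option maxRecDepth 100000
set_option Elab.async false

/-! The Fischer group Fi23 on 31671 points: certificates of the tables (generated). -/

namespace Cfsg.Agent.Lib.Helper8.F3O

theorem cert_22_0 : SQ.allR 0 10557 (fun x => Nat.beq (u20 (u20 (u20 (u21 (u20 (u20 (u20 (u21 (u21 (u21 (u21 (u18 (u18 (u19 (u19 (u18 (u18 (u18 (u21 (u18 (x))))))))))))))))))))) (u22 (u19 (u19 (u19 (u21 (u21 (u19 (u19 (u19 (x))))))))))) = true := by decide +kernel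
theorem cert_22_1 : SQ.allR 10557 10557 (fun x => Nat.beq (u20 (u20 (u20 (u21 (u20 (u20 (u20 (u21 (u21 (u21 (u21 (u18 (u18 (u19 (u19 (u18 (u18 (u18 (u21 (u18 (x))))))))))))))))))))) (u22 (u19 (u19 (u19 (u21 (u21 (u19 (u19 (u19 (x))))))))))) = true := by decide +kernel
theorem cert_22_2 : SQ.allR 21114 10557 (fun x => Nat.beq (u20 (u20 (u20 (u21 (u20 (u20 (u20 (u21 (u21 (u21 (u21 (u18 (u18 (u19 (u19 (u18 (u18 (u18 (u21 (u18 (x))))))))))))))))))))) (u22 (u19 (u19 (u19 (u21 (u21 (u19 (u19 (u19 (x))))))))))) = true := by decide +kernel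
theorem cert_22_all : ∀ x, x < 31671 → (Nat.beq (u20 (u20 (u20 (u21 (u20 (u20 (u20 (u21 (u21 (u21 (u21 (u18 (u18 (u19 (u19 (u18 (u18 (u18 (u21 (u18 (x))))))))))))))))))))) (u22 (u19 (u19 (u19 (u21 (u21 (u19 (u19 (u19 (x))))))))))) = true := by
  intro x hp
  rcases Nat.lt_or_ge x 10557 with h | h
  · exact SQ.allR_spec cert_22_0 x (by omega) (by omega)
  rcases Nat.lt_or_ge x 21114 with h | h
  · exact SQ.allR_spec cert_22_1 x (by omega) (by omega)
  exact SQ.allR_spec cert_22_2 x (by omega) (by omega)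

theorem cert_23_0 : SQ.allR 0 15836 (fun x => Nat.beq (u20 (u21 (u22 (u22 (u21 (u21 (u22 (u22 (x))))))))) (u23 (u20 (u21 (u22 (u20 (u22 (u21 (u20 (x)))))))))) = true := by decide +kernel
theorem cert_23_1 : SQ.allR 15836 15835 (fun x => Nat.beq (u20 (u21 (u22 (u22 (u21 (u21 (u22 (u22 (x))))))))) (u23 (u20 (u21 (u22 (u20 (u22 (u21 (u20 (x)))))))))) = true := by decide +kernel
theorem cert_23_all : ∀ x, x < 31671 → (Nat.beq (u20 (u21 (u22 (u22 (u21 (u21 (u22 (u22 (x))))))))) (u23 (u20 (u21 (u22 (u20 (u22 (u21 (u20 (x)))))))))) = true := by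
  intro x hp
  rcases Nat.lt_or_ge x 15836 with h | h
  · exact SQ.allR_spec cert_23_0 x (by omega) (by omega)
  exact SQ.allR_spec cert_23_1 x (by omega) (by omega)

theorem cert_24_0 : SQ.allR 0 10557 (fun x => Nat.beq (u22 (u23 (u22 (u22 (u22 (u23 (u22 (u22 (u22 (u20 (u20 (u21 (u20 (u21 (u22 (u20 (u21 (u18 (u18 (u18 (u19 (u21 (u21 (u19 (u19 (u2 (u9 (u15 (u2 (u16 (u9 (x)))))))))))))))))))))))))))))))) (u24 (u9 (u11 (u2 (u17 (u2 (x)))))))) = true := by decide +kernel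
theorem cert_24_1 : SQ.allR 10557 10557 (fun x => Nat.beq (u22 (u23 (u22 (u22 (u22 (u23 (u22 (u22 (u22 (u20 (u20 (u21 (u20 (u21 (u22 (u20 (u21 (u18 (u18 (u18 (u19 (u21 (u21 (u19 (u19 (u2 (u9 (u15 (u2 (u16 (u9 (x)))))))))))))))))))))))))))))))) (u24 (u9 (u11 (u2 (u17 (u2 (x)))))))) = true := by decide +kernel
theorem cert_24_2 : SQ.allR 21114 10557 (fun x => Nat.beq (u22 (u23 (u22 (u22 (u22 (u23 (u22 (u22 (u22 (u20 (u20 (u21 (u20 (u21 (u22 (u20 (u21 (u18 (u18 (u18 (u19 (u21 (u21 (u19 (u19 (u2 (u9 (u15 (u2 (u16 (u9 (x)))))))))))))))))))))))))))))))) (u24 (u9 (u11 (u2 (u17 (u2 (x)))))))) = true := by decide +kernel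
theorem cert_24_all : ∀ x, x < 31671 → (Nat.beq (u22 (u23 (u22 (u22 (u22 (u23 (u22 (u22 (u22 (u20 (u20 (u21 (u20 (u21 (u22 (u20 (u21 (u18 (u18 (u18 (u19 (u21 (u21 (u19 (u19 (u2 (u9 (u15 (u2 (u16 (u9 (x)))))))))))))))))))))))))))))))) (u24 (u9 (u11 (u2 (u17 (u2 (x)))))))) = true := by
  intro x hp
  rcases Nat.lt_or_ge x 10557 with h | h
  · exact SQ.allR_spec cert_24_0 x (by omega) (by omega)
  rcases Nat.lt_or_ge x 21114 with h | h
  · exact SQ.allR_spec cert_24_1 x (by omega) (by omega)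
  exact SQ.allR_spec cert_24_2 x (by omega) (by omega)


end Cfsg.Agent.Lib.Helper8.F3O
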