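import Cfsg.Agent.Lib.Helper8.F3O1

set_option autoImplicit false
set_option maxRecDepth 100000
set_option Elab.async false

/-! The Fischer group Fi23 on 31671 points: certificates of the tables (generated). -/

namespace Cfsg.Agent.Lib.Helper8.F3O

theorem cert_25_0 : SQ.allR 0 10557 (fun x => Nat.beq (u22 (u24 (u22 (u23 (u23 (u24 (u20 (u24 (u22 (u22 (u20 (u24 (u24 (u18 (u19 (u24 (u21 (u18 (u18 (u1 (u9 (u13 (u0 (u9 (u12 (u5 (u10 (x)))))))))))))))))))))))))))) (u25 (u0 (u9 (u16 (u1 (u9 (u17 (u9 (x)))))))))) = true := by decide +kernel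
theorem cert_25_1 : SQ.allR 10557 10557 (fun x => Nat.beq (u22 (u24 (u22 (u23 (u23 (u24 (u20 (u24 (u22 (u22 (u20 (u24 (u24 (u18 (u19 (u24 (u21 (u18 (u18 (u1 (u9 (u13 (u0 (u9 (u12 (u5 (u10 (x)))))))))))))))))))))))))))) (u25 (u0 (u9 (u16 (u1 (u9 (u17 (u9 (x)))))))))) = true := by decide +kernel
theorem cert_25_2 : SQ.allR 21114 10557 (fun x => Nat.beq (u22 (u24 (u22 (u23 (u23 (u24 (u20 (u24 (u22 (u22 (u20 (u24 (u24 (u18 (u19 (u24 (u21 (u18 (u18 (u1 (u9 (u13 (u0 (u9 (u12 (u5 (u10 (x)))))))))))))))))))))))))))) (u25 (u0 (u9 (u16 (u1 (u9 (u17 (u9 (x)))))))))) = true := by decide +kernel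
theorem cert_25_all : ∀ x, x < 31671 → (Nat.beq (u22 (u24 (u22 (u23 (u23 (u24 (u20 (u24 (u22 (u22 (u20 (u24 (u24 (u18 (u19 (u24 (u21 (u18 (u18 (u1 (u9 (u13 (u0 (u9 (u12 (u5 (u10 (x)))))))))))))))))))))))))))) (u25 (u0 (u9 (u16 (u1 (u9 (u17 (u9 (x)))))))))) = true := by
  intro x hp
  rcases Nat.lt_or_ge x 10557 with h | h
  · exact SQ.allR_spec cert_25_0 x (by omega) (by omega)
  rcases Nat.lt_or_ge x 21114 with h | h
  · exact SQ.allR_spec cert_25_1 x (by omega) (by omega)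
  exact SQ.allR_spec cert_25_2 x (by omega) (by omega)

theorem cert_26_0 : SQ.allR 0 10557 (fun x => Nat.beq (u24 (u25 (u24 (u24 (u25 (u24 (u24 (u23 (u22 (u23 (u22 (u25 (u20 (u20 (u21 (u24 (u22 (u21 (u22 (u25 (x))))))))))))))))))))) (u26 (u21 (u25 (u24 (u21 (u22 (x)))))))) = true := by decide +kernel
theorem cert_26_1 : SQ.allR 10557 10557 (fun x => Nat.beq (u24 (u25 (u24 (u24 (u25 (u24 (u24 (u23 (u22 (u23 (u22 (u25 (u20 (u20 (u21 (u24 (u22 (u21 (u22 (u25 (x))))))))))))))))))))) (u26 (u21 (u25 (u24 (u21 (u22 (x)))))))) = true := by decide +kernel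
theorem cert_26_2 : SQ.allR 21114 10557 (fun x => Nat.beq (u24 (u25 (u24 (u24 (u25 (u24 (u24 (u23 (u22 (u23 (u22 (u25 (u20 (u20 (u21 (u24 (u22 (u21 (u22 (u25 (x))))))))))))))))))))) (u26 (u21 (u25 (u24 (u21 (u22 (x)))))))) = true := by decide +kernel
theorem cert_26_all : ∀ x, x < 31671 → (Nat.beq (u24 (u25 (u24 (u24 (u25 (u24 (u24 (u23 (u22 (u23 (u22 (u25 (u20 (u20 (u21 (u24 (u22 (u21 (u22 (u25 (x))))))))))))))))))))) (u26 (u21 (u25 (u24 (u21 (u22 (x)))))))) = true := by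
  intro x hp
  rcases Nat.lt_or_ge x 10557 with h | h
  · exact SQ.allR_spec cert_26_0 x (by omega) (by omega)
  rcases Nat.lt_or_ge x 21114 with h | h
  · exact SQ.allR_spec cert_26_1 x (by omega) (by omega)
  exact SQ.allR_spec cert_26_2 x (by omega) (by omega)

theorem cert_27_0 : SQ.allR 0 15836 (fun x => Nat.beq (u24 (u25 (u25 (u25 (u25 (u22 (u23 (u22 (u22 (u22 (u22 (x)))))))))))) (u27 (u23 (u26 (u22 (u25 (x))))))) = true := by decide +kernel
theorem cert_27_1 : SQ.allR 15836 15835 (fun x => Nat.beq (u24 (u25 (u25 (u25 (u25 (u22 (u23 (u22 (u22 (u22 (u22 (x)))))))))))) (u27 (u23 (u26 (u22 (u25 (x))))))) = true := by decide +kernel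
theorem cert_27_all : ∀ x, x < 31671 → (Nat.beq (u24 (u25 (u25 (u25 (u25 (u22 (u23 (u22 (u22 (u22 (u22 (x)))))))))))) (u27 (u23 (u26 (u22 (u25 (x))))))) = true := by
  intro x hp
  rcases Nat.lt_or_ge x 15836 with h | h
  · exact SQ.allR_spec cert_27_0 x (by omega) (by omega)
  exact SQ.allR_spec cert_27_1 x (by omega) (by omega)


end Cfsg.Agent.Lib.Helper8.F3O
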