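import Cfsg.Agent.Lib.Helper8.F3O1

set_option autoImplicit false
set_option maxRecDepth 100000
set_option Elab.async false

/-! The Fischer group Fi23 on 31671 points: certificates of the tables (generated). -/

namespace Cfsg.Agent.Lib.Helper8.F3O

theorem cert_28_0 : SQ.allR 0 15836 (fun x => Nat.beq (u26 (u27 (u27 (u26 (u27 (u27 (u24 (u25 (u26 (u26 (u22 (u23 (u22 (u22 (u22 (u25 (x))))))))))))))))) (u28 (u22 (u22 (u23 (u26 (x))))))) = true := by decide +kernel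
theorem cert_28_1 : SQ.allR 15836 15835 (fun x => Nat.beq (u26 (u27 (u27 (u26 (u27 (u27 (u24 (u25 (u26 (u26 (u22 (u23 (u22 (u22 (u22 (u25 (x))))))))))))))))) (u28 (u22 (u22 (u23 (u26 (x))))))) = true := by decide +kernel
theorem cert_28_all : ∀ x, x < 31671 → (Nat.beq (u26 (u27 (u27 (u26 (u27 (u27 (u24 (u25 (u26 (u26 (u22 (u23 (u22 (u22 (u22 (u25 (x))))))))))))))))) (u28 (u22 (u22 (u23 (u26 (x))))))) = true := by
  intro x hp
  rcases Nat.lt_or_ge x 15836 with h | h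
  · exact SQ.allR_spec cert_28_0 x (by omega) (by omega)
  exact SQ.allR_spec cert_28_1 x (by omega) (by omega)

theorem cert_29_0 : SQ.allR 0 15836 (fun x => Nat.beq (u26 (u27 (u28 (u27 (u25 (u24 (u27 (u27 (u22 (u26 (u24 (u25 (u24 (u23 (x))))))))))))))) (u29 (u22 (u22 (u23 (u26 (u24 (x)))))))) = true := by decide +kernel
theorem cert_29_1 : SQ.allR 15836 15835 (fun x => Nat.beq (u26 (u27 (u28 (u27 (u25 (u24 (u27 (u27 (u22 (u26 (u24 (u25 (u24 (u23 (x))))))))))))))) (u29 (u22 (u22 (u23 (u26 (u24 (x)))))))) = true := by decide +kernel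
theorem cert_29_all : ∀ x, x < 31671 → (Nat.beq (u26 (u27 (u28 (u27 (u25 (u24 (u27 (u27 (u22 (u26 (u24 (u25 (u24 (u23 (x))))))))))))))) (u29 (u22 (u22 (u23 (u26 (u24 (x)))))))) = true := by
  intro x hp
  rcases Nat.lt_or_ge x 15836 with h | h
  · exact SQ.allR_spec cert_29_0 x (by omega) (by omega)
  exact SQ.allR_spec cert_29_1 x (by omega) (by omega)

theorem cert_30_0 : SQ.allR 0 7918 (fun x => Nat.beq (u29 (u28 (u26 (u27 (u29 (u26 (u25 (u24 (u29 (u22 (u25 (u23 (u24 (u20 (u25 (u21 (u21 (u25 (u25 (u18 (u25 (u18 (u21 (u18 (u18 (u7 (u9 (u17 (u0 (u6 (u9 (u16 (x))))))))))))))))))))))))))))))))) (u30 (u1 (u15 (u9 (u16 (u9 (u10 (x))))))))) = true := by decide +kernel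
theorem cert_30_1 : SQ.allR 7918 7918 (fun x => Nat.beq (u29 (u28 (u26 (u27 (u29 (u26 (u25 (u24 (u29 (u22 (u25 (u23 (u24 (u20 (u25 (u21 (u21 (u25 (u25 (u18 (u25 (u18 (u21 (u18 (u18 (u7 (u9 (u17 (u0 (u6 (u9 (u16 (x))))))))))))))))))))))))))))))))) (u30 (u1 (u15 (u9 (u16 (u9 (u10 (x))))))))) = true := by decide +kernel
theorem cert_30_2 : SQ.allR 15836 7918 (fun x => Nat.beq (u29 (u28 (u26 (u27 (u29 (u26 (u25 (u24 (u29 (u22 (u25 (u23 (u24 (u20 (u25 (u21 (u21 (u25 (u25 (u18 (u25 (u18 (u21 (u18 (u18 (u7 (u9 (u17 (u0 (u6 (u9 (u16 (x))))))))))))))))))))))))))))))))) (u30 (u1 (u15 (u9 (u16 (u9 (u10 (x))))))))) = true := by decide +kernel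
theorem cert_30_3 : SQ.allR 23754 7917 (fun x => Nat.beq (u29 (u28 (u26 (u27 (u29 (u26 (u25 (u24 (u29 (u22 (u25 (u23 (u24 (u20 (u25 (u21 (u21 (u25 (u25 (u18 (u25 (u18 (u21 (u18 (u18 (u7 (u9 (u17 (u0 (u6 (u9 (u16 (x))))))))))))))))))))))))))))))))) (u30 (u1 (u15 (u9 (u16 (u9 (u10 (x))))))))) = true := by decide +kernel
theorem cert_30_all : ∀ x, x < 31671 → (Nat.beq (u29 (u28 (u26 (u27 (u29 (u26 (u25 (u24 (u29 (u22 (u25 (u23 (u24 (u20 (u25 (u21 (u21 (u25 (u25 (u18 (u25 (u18 (u21 (u18 (u18 (u7 (u9 (u17 (u0 (u6 (u9 (u16 (x))))))))))))))))))))))))))))))))) (u30 (u1 (u15 (u9 (u16 (u9 (u10 (x))))))))) = true := by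
  intro x hp
  rcases Nat.lt_or_ge x 7918 with h | h
  · exact SQ.allR_spec cert_30_0 x (by omega) (by omega)
  rcases Nat.lt_or_ge x 15836 with h | h
  · exact SQ.allR_spec cert_30_1 x (by omega) (by omega)
  rcases Nat.lt_or_ge x 23754 with h | h
  · exact SQ.allR_spec cert_30_2 x (by omega) (by omega)
  exact SQ.allR_spec cert_30_3 x (by omega) (by omega)


end Cfsg.Agent.Lib.Helper8.F3O
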