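import Cfsg.Agent.Lib.Helper8.F3O1

set_option autoImplicit false
set_option maxRecDepth 100000
set_option Elab.async false

/-! The Fischer group Fi23 on 31671 points: certificates of the tables (generated). -/

namespace Cfsg.Agent.Lib.Helper8.F3O

theorem cert_31_0 : SQ.allR 0 7918 (fun x => Nat.beq (u10 (u10 (u10 (u10 (u10 (u10 (u10 (u10 (u10 (u10 (u30 (u26 (u26 (u29 (u25 (u24 (u24 (u23 (u26 (u26 (u30 (u23 (u20 (u22 (u24 (u24 (u20 (u18 (u21 (u19 (u21 (u25 (u21 (u9 (u13 (u2 (u9 (u12 (u0 (x)))))))))))))))))))))))))))))))))))))))) (u31 (x))) = true := by decide +kernel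
theorem cert_31_1 : SQ.allR 7918 7918 (fun x => Nat.beq (u10 (u10 (u10 (u10 (u10 (u10 (u10 (u10 (u10 (u10 (u30 (u26 (u26 (u29 (u25 (u24 (u24 (u23 (u26 (u26 (u30 (u23 (u20 (u22 (u24 (u24 (u20 (u18 (u21 (u19 (u21 (u25 (u21 (u9 (u13 (u2 (u9 (u12 (u0 (x)))))))))))))))))))))))))))))))))))))))) (u31 (x))) = true := by decide +kernel
theorem cert_31_2 : SQ.allR 15836 7918 (fun x => Nat.beq (u10 (u10 (u10 (u10 (u10 (u10 (u10 (u10 (u10 (u10 (u30 (u26 (u26 (u29 (u25 (u24 (u24 (u23 (u26 (u26 (u30 (u23 (u20 (u22 (u24 (u24 (u20 (u18 (u21 (u19 (u21 (u25 (u21 (u9 (u13 (u2 (u9 (u12 (u0 (x)))))))))))))))))))))))))))))))))))))))) (u31 (x))) = true := by decide +kernel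
theorem cert_31_3 : SQ.allR 23754 7917 (fun x => Nat.beq (u10 (u10 (u10 (u10 (u10 (u10 (u10 (u10 (u10 (u10 (u30 (u26 (u26 (u29 (u25 (u24 (u24 (u23 (u26 (u26 (u30 (u23 (u20 (u22 (u24 (u24 (u20 (u18 (u21 (u19 (u21 (u25 (u21 (u9 (u13 (u2 (u9 (u12 (u0 (x)))))))))))))))))))))))))))))))))))))))) (u31 (x))) = true := by decide +kernel
theorem cert_31_all : ∀ x, x < 31671 → (Nat.beq (u10 (u10 (u10 (u10 (u10 (u10 (u10 (u10 (u10 (u10 (u30 (u26 (u26 (u29 (u25 (u24 (u24 (u23 (u26 (u26 (u30 (u23 (u20 (u22 (u24 (u24 (u20 (u18 (u21 (u19 (u21 (u25 (u21 (u9 (u13 (u2 (u9 (u12 (u0 (x)))))))))))))))))))))))))))))))))))))))) (u31 (x))) = true := by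
  intro x hp
  rcases Nat.lt_or_ge x 7918 with h | h
  · exact SQ.allR_spec cert_31_0 x (by omega) (by omega)
  rcases Nat.lt_or_ge x 15836 with h | h
  · exact SQ.allR_spec cert_31_1 x (by omega) (by omega)
  rcases Nat.lt_or_ge x 23754 with h | h
  · exact SQ.allR_spec cert_31_2 x (by omega) (by omega)
  exact SQ.allR_spec cert_31_3 x (by omega) (by omega)

theorem cert_32_0 : SQ.allR 0 31671 (fun x => Nat.beq (u31 (x)) (u32 (x))) = true := by decide +kernel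
theorem cert_32_all : ∀ x, x < 31671 → (Nat.beq (u31 (x)) (u32 (x))) = true := by
  intro x hp
  exact SQ.allR_spec cert_32_0 x (by omega) (by omega)

theorem cert_33_0 : SQ.allR 0 15836 (fun x => Nat.beq (u7 (u6 (u9 (u16 (u4 (u9 (u16 (u2 (x))))))))) (u33 (u9 (u12 (u9 (u12 (u1 (u8 (x))))))))) = true := by decide +kernel
theorem cert_33_1 : SQ.allR 15836 15835 (fun x => Nat.beq (u7 (u6 (u9 (u16 (u4 (u9 (u16 (u2 (x))))))))) (u33 (u9 (u12 (u9 (u12 (u1 (u8 (x))))))))) = true := by decide +kernel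
theorem cert_33_all : ∀ x, x < 31671 → (Nat.beq (u7 (u6 (u9 (u16 (u4 (u9 (u16 (u2 (x))))))))) (u33 (u9 (u12 (u9 (u12 (u1 (u8 (x))))))))) = true := by
  intro x hp
  rcases Nat.lt_or_ge x 15836 with h | h
  · exact SQ.allR_spec cert_33_0 x (by omega) (by omega)
  exact SQ.allR_spec cert_33_1 x (by omega) (by omega)


end Cfsg.Agent.Lib.Helper8.F3O
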