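import Cfsg.Agent.Lib.Helper8.F3O1

set_option autoImplicit false
set_option maxRecDepth 100000
set_option Elab.async false

/-! The Fischer group Fi23 on 31671 points: certificates of the tables (generated). -/

namespace Cfsg.Agent.Lib.Helper8.F3O

theorem cert_34_0 : SQ.allR 0 31671 (fun x => Nat.beq (u33 (u33 (u33 (u33 (u33 (u33 (u33 (x)))))))) (u34 (x))) = true := by decide +kernel
theorem cert_34_all : ∀ x, x < 31671 → (Nat.beq (u33 (u33 (u33 (u33 (u33 (u33 (u33 (x)))))))) (u34 (x))) = true := by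
  intro x hp
  exact SQ.allR_spec cert_34_0 x (by omega) (by omega)

theorem cert_35_0 : SQ.allR 0 15836 (fun x => Nat.beq (u9 (u16 (u1 (u9 (u13 (u5 (u12 (x)))))))) (u35 (u9 (u8 (u16 (u9 (u16 (u7 (u16 (x)))))))))) = true := by decide +kernel
theorem cert_35_1 : SQ.allR 15836 15835 (fun x => Nat.beq (u9 (u16 (u1 (u9 (u13 (u5 (u12 (x)))))))) (u35 (u9 (u8 (u16 (u9 (u16 (u7 (u16 (x)))))))))) = true := by decide +kernel
theorem cert_35_all : ∀ x, x < 31671 → (Nat.beq (u9 (u16 (u1 (u9 (u13 (u5 (u12 (x)))))))) (u35 (u9 (u8 (u16 (u9 (u16 (u7 (u16 (x)))))))))) = true := by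
  intro x hp
  rcases Nat.lt_or_ge x 15836 with h | h
  · exact SQ.allR_spec cert_35_0 x (by omega) (by omega)
  exact SQ.allR_spec cert_35_1 x (by omega) (by omega)

theorem cert_36_0 : SQ.allR 0 10557 (fun x => Nat.beq (u33 (u33 (u33 (u35 (u33 (u33 (u35 (u35 (u35 (u33 (u35 (u33 (u35 (u35 (u33 (x)))))))))))))))) (u36 (u33 (u33 (u33 (u33 (u33 (u33 (u35 (u33 (u33 (u35 (x))))))))))))) = true := by decide +kernel
theorem cert_36_1 : SQ.allR 10557 10557 (fun x => Nat.beq (u33 (u33 (u33 (u35 (u33 (u33 (u35 (u35 (u35 (u33 (u35 (u33 (u35 (u35 (u33 (x)))))))))))))))) (u36 (u33 (u33 (u33 (u33 (u33 (u33 (u35 (u33 (u33 (u35 (x))))))))))))) = true := by decide +kernel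
theorem cert_36_2 : SQ.allR 21114 10557 (fun x => Nat.beq (u33 (u33 (u33 (u35 (u33 (u33 (u35 (u35 (u35 (u33 (u35 (u33 (u35 (u35 (u33 (x)))))))))))))))) (u36 (u33 (u33 (u33 (u33 (u33 (u33 (u35 (u33 (u33 (u35 (x))))))))))))) = true := by decide +kernel
theorem cert_36_all : ∀ x, x < 31671 → (Nat.beq (u33 (u33 (u33 (u35 (u33 (u33 (u35 (u35 (u35 (u33 (u35 (u33 (u35 (u35 (u33 (x)))))))))))))))) (u36 (u33 (u33 (u33 (u33 (u33 (u33 (u35 (u33 (u33 (u35 (x))))))))))))) = true := by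
  intro x hp
  rcases Nat.lt_or_ge x 10557 with h | h
  · exact SQ.allR_spec cert_36_0 x (by omega) (by omega)
  rcases Nat.lt_or_ge x 21114 with h | h
  · exact SQ.allR_spec cert_36_1 x (by omega) (by omega)
  exact SQ.allR_spec cert_36_2 x (by omega) (by omega)


end Cfsg.Agent.Lib.Helper8.F3O
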