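import Cfsg.Agent.Lib.Helper8.F3O1

set_option autoImplicit false
set_option maxRecDepth 100000
set_option Elab.async false

/-! The Fischer group Fi23 on 31671 points: certificates of the tables (generated). -/

namespace Cfsg.Agent.Lib.Helper8.F3O

theorem cert_37_0 : SQ.allR 0 7918 (fun x => Nat.beq (u34 (u36 (u36 (u36 (u34 (u36 (u36 (u36 (u36 (u34 (u36 (u36 (u36 (u34 (u36 (u36 (u36 (u36 (u34 (u36 (u36 (u36 (u35 (u35 (u35 (u35 (u35 (u35 (u33 (u35 (u33 (u35 (u33 (u33 (u35 (u1 (u9 (u12 (u3 (u5 (u17 (u9 (u17 (x)))))))))))))))))))))))))))))))))))))))))))) (u37 (u9 (u16 (u5 (u9 (u15 (u3 (x))))))))) = true := by decide +kernel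
theorem cert_37_1 : SQ.allR 7918 7918 (fun x => Nat.beq (u34 (u36 (u36 (u36 (u34 (u36 (u36 (u36 (u36 (u34 (u36 (u36 (u36 (u34 (u36 (u36 (u36 (u36 (u34 (u36 (u36 (u36 (u35 (u35 (u35 (u35 (u35 (u35 (u33 (u35 (u33 (u35 (u33 (u33 (u35 (u1 (u9 (u12 (u3 (u5 (u17 (u9 (u17 (x)))))))))))))))))))))))))))))))))))))))))))) (u37 (u9 (u16 (u5 (u9 (u15 (u3 (x))))))))) = true := by decide +kernel
theorem cert_37_2 : SQ.allR 15836 7918 (fun x => Nat.beq (u34 (u36 (u36 (u36 (u34 (u36 (u36 (u36 (u36 (u34 (u36 (u36 (u36 (u34 (u36 (u36 (u36 (u36 (u34 (u36 (u36 (u36 (u35 (u35 (u35 (u35 (u35 (u35 (u33 (u35 (u33 (u35 (u33 (u33 (u35 (u1 (u9 (u12 (u3 (u5 (u17 (u9 (u17 (x)))))))))))))))))))))))))))))))))))))))))))) (u37 (u9 (u16 (u5 (u9 (u15 (u3 (x))))))))) = true := by decide +kernel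
theorem cert_37_3 : SQ.allR 23754 7917 (fun x => Nat.beq (u34 (u36 (u36 (u36 (u34 (u36 (u36 (u36 (u36 (u34 (u36 (u36 (u36 (u34 (u36 (u36 (u36 (u36 (u34 (u36 (u36 (u36 (u35 (u35 (u35 (u35 (u35 (u35 (u33 (u35 (u33 (u35 (u33 (u33 (u35 (u1 (u9 (u12 (u3 (u5 (u17 (u9 (u17 (x)))))))))))))))))))))))))))))))))))))))))))) (u37 (u9 (u16 (u5 (u9 (u15 (u3 (x))))))))) = true := by decide +kernel
theorem cert_37_all : ∀ x, x < 31671 → (Nat.beq (u34 (u36 (u36 (u36 (u34 (u36 (u36 (u36 (u36 (u34 (u36 (u36 (u36 (u34 (u36 (u36 (u36 (u36 (u34 (u36 (u36 (u36 (u35 (u35 (u35 (u35 (u35 (u35 (u33 (u35 (u33 (u35 (u33 (u33 (u35 (u1 (u9 (u12 (u3 (u5 (u17 (u9 (u17 (x)))))))))))))))))))))))))))))))))))))))))))) (u37 (u9 (u16 (u5 (u9 (u15 (u3 (x))))))))) = true := by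
  intro x hp
  rcases Nat.lt_or_ge x 7918 with h | h
  · exact SQ.allR_spec cert_37_0 x (by omega) (by omega)
  rcases Nat.lt_or_ge x 15836 with h | h
  · exact SQ.allR_spec cert_37_1 x (by omega) (by omega)
  rcases Nat.lt_or_ge x 23754 with h | h
  · exact SQ.allR_spec cert_37_2 x (by omega) (by omega)
  exact SQ.allR_spec cert_37_3 x (by omega) (by omega)

theorem cert_38_0 : SQ.allR 0 10557 (fun x => Nat.beq (u36 (u36 (u34 (u37 (u34 (u37 (u37 (u37 (u37 (u36 (u35 (u33 (u35 (u33 (u35 (u35 (u37 (u33 (u37 (u35 (u9 (u13 (u9 (u16 (u2 (u3 (u7 (u12 (x))))))))))))))))))))))))))))) (u38 (u9 (u12 (u9 (u16 (u6 (u15 (u0 (x)))))))))) = true := by decide +kernel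
theorem cert_38_1 : SQ.allR 10557 10557 (fun x => Nat.beq (u36 (u36 (u34 (u37 (u34 (u37 (u37 (u37 (u37 (u36 (u35 (u33 (u35 (u33 (u35 (u35 (u37 (u33 (u37 (u35 (u9 (u13 (u9 (u16 (u2 (u3 (u7 (u12 (x))))))))))))))))))))))))))))) (u38 (u9 (u12 (u9 (u16 (u6 (u15 (u0 (x)))))))))) = true := by decide +kernel
theorem cert_38_2 : SQ.allR 21114 10557 (fun x => Nat.beq (u36 (u36 (u34 (u37 (u34 (u37 (u37 (u37 (u37 (u36 (u35 (u33 (u35 (u33 (u35 (u35 (u37 (u33 (u37 (u35 (u9 (u13 (u9 (u16 (u2 (u3 (u7 (u12 (x))))))))))))))))))))))))))))) (u38 (u9 (u12 (u9 (u16 (u6 (u15 (u0 (x)))))))))) = true := by decide +kernel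
theorem cert_38_all : ∀ x, x < 31671 → (Nat.beq (u36 (u36 (u34 (u37 (u34 (u37 (u37 (u37 (u37 (u36 (u35 (u33 (u35 (u33 (u35 (u35 (u37 (u33 (u37 (u35 (u9 (u13 (u9 (u16 (u2 (u3 (u7 (u12 (x))))))))))))))))))))))))))))) (u38 (u9 (u12 (u9 (u16 (u6 (u15 (u0 (x)))))))))) = true := by
  intro x hp
  rcases Nat.lt_or_ge x 10557 with h | h
  · exact SQ.allR_spec cert_38_0 x (by omega) (by omega)
  rcases Nat.lt_or_ge x 21114 with h | h
  · exact SQ.allR_spec cert_38_1 x (by omega) (by omega)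
  exact SQ.allR_spec cert_38_2 x (by omega) (by omega)

theorem cert_39_0 : SQ.allR 0 10557 (fun x => Nat.beq (u36 (u37 (u36 (u38 (u34 (u37 (u37 (u34 (u33 (u38 (u38 (u37 (u33 (u33 (u38 (u33 (u33 (x)))))))))))))))))) (u39 (u33 (u37 (u33 (u38 (u35 (u35 (u35 (u35 (x))))))))))) = true := by decide +kernel
theorem cert_39_1 : SQ.allR 10557 10557 (fun x => Nat.beq (u36 (u37 (u36 (u38 (u34 (u37 (u37 (u34 (u33 (u38 (u38 (u37 (u33 (u33 (u38 (u33 (u33 (x)))))))))))))))))) (u39 (u33 (u37 (u33 (u38 (u35 (u35 (u35 (u35 (x))))))))))) = true := by decide +kernel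
theorem cert_39_2 : SQ.allR 21114 10557 (fun x => Nat.beq (u36 (u37 (u36 (u38 (u34 (u37 (u37 (u34 (u33 (u38 (u38 (u37 (u33 (u33 (u38 (u33 (u33 (x)))))))))))))))))) (u39 (u33 (u37 (u33 (u38 (u35 (u35 (u35 (u35 (x))))))))))) = true := by decide +kernel
theorem cert_39_all : ∀ x, x < 31671 → (Nat.beq (u36 (u37 (u36 (u38 (u34 (u37 (u37 (u34 (u33 (u38 (u38 (u37 (u33 (u33 (u38 (u33 (u33 (x)))))))))))))))))) (u39 (u33 (u37 (u33 (u38 (u35 (u35 (u35 (u35 (x))))))))))) = true := by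
  intro x hp
  rcases Nat.lt_or_ge x 10557 with h | h
  · exact SQ.allR_spec cert_39_0 x (by omega) (by omega)
  rcases Nat.lt_or_ge x 21114 with h | h
  · exact SQ.allR_spec cert_39_1 x (by omega) (by omega)
  exact SQ.allR_spec cert_39_2 x (by omega) (by omega)


end Cfsg.Agent.Lib.Helper8.F3O
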