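import Cfsg.Agent.Lib.Helper8.F3O1

set_option autoImplicit false
set_option maxRecDepth 100000
set_option Elab.async false

/-! The Fischer group Fi23 on 31671 points: certificates of the tables (generated). -/

namespace Cfsg.Agent.Lib.Helper8.F3O

theorem cert_40_0 : SQ.allR 0 10557 (fun x => Nat.beq (u39 (u37 (u37 (u38 (u37 (u38 (u37 (u39 (u34 (u37 (u39 (u38 (u38 (u36 (u39 (u33 (u37 (u37 (u35 (u38 (u37 (u37 (u38 (u33 (u38 (x)))))))))))))))))))))))))) (u40 (u33 (u35 (u35 (u35 (u33 (u37 (u38 (u37 (u37 (x)))))))))))) = true := by decide +kernel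
theorem cert_40_1 : SQ.allR 10557 10557 (fun x => Nat.beq (u39 (u37 (u37 (u38 (u37 (u38 (u37 (u39 (u34 (u37 (u39 (u38 (u38 (u36 (u39 (u33 (u37 (u37 (u35 (u38 (u37 (u37 (u38 (u33 (u38 (x)))))))))))))))))))))))))) (u40 (u33 (u35 (u35 (u35 (u33 (u37 (u38 (u37 (u37 (x)))))))))))) = true := by decide +kernel
theorem cert_40_2 : SQ.allR 21114 10557 (fun x => Nat.beq (u39 (u37 (u37 (u38 (u37 (u38 (u37 (u39 (u34 (u37 (u39 (u38 (u38 (u36 (u39 (u33 (u37 (u37 (u35 (u38 (u37 (u37 (u38 (u33 (u38 (x)))))))))))))))))))))))))) (u40 (u33 (u35 (u35 (u35 (u33 (u37 (u38 (u37 (u37 (x)))))))))))) = true := by decide +kernel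
theorem cert_40_all : ∀ x, x < 31671 → (Nat.beq (u39 (u37 (u37 (u38 (u37 (u38 (u37 (u39 (u34 (u37 (u39 (u38 (u38 (u36 (u39 (u33 (u37 (u37 (u35 (u38 (u37 (u37 (u38 (u33 (u38 (x)))))))))))))))))))))))))) (u40 (u33 (u35 (u35 (u35 (u33 (u37 (u38 (u37 (u37 (x)))))))))))) = true := by
  intro x hp
  rcases Nat.lt_or_ge x 10557 with h | h
  · exact SQ.allR_spec cert_40_0 x (by omega) (by omega)
  rcases Nat.lt_or_ge x 21114 with h | h
  · exact SQ.allR_spec cert_40_1 x (by omega) (by omega)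
  exact SQ.allR_spec cert_40_2 x (by omega) (by omega)

theorem cert_41_0 : SQ.allR 0 15836 (fun x => Nat.beq (u37 (u37 (u38 (u37 (u37 (u38 (u40 (u39 (u38 (x)))))))))) (u41 (u38 (u37 (u38 (u37 (u37 (u39 (u37 (x)))))))))) = true := by decide +kernel
theorem cert_41_1 : SQ.allR 15836 15835 (fun x => Nat.beq (u37 (u37 (u38 (u37 (u37 (u38 (u40 (u39 (u38 (x)))))))))) (u41 (u38 (u37 (u38 (u37 (u37 (u39 (u37 (x)))))))))) = true := by decide +kernel
theorem cert_41_all : ∀ x, x < 31671 → (Nat.beq (u37 (u37 (u38 (u37 (u37 (u38 (u40 (u39 (u38 (x)))))))))) (u41 (u38 (u37 (u38 (u37 (u37 (u39 (u37 (x)))))))))) = true := by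
  intro x hp
  rcases Nat.lt_or_ge x 15836 with h | h
  · exact SQ.allR_spec cert_41_0 x (by omega) (by omega)
  exact SQ.allR_spec cert_41_1 x (by omega) (by omega)

theorem cert_42_0 : SQ.allR 0 15836 (fun x => Nat.beq (u39 (u38 (u38 (u40 (u39 (u36 (u37 (u40 (u40 (u37 (u40 (x)))))))))))) (u42 (u36 (u37 (u38 (u36 (u38 (u39 (x))))))))) = true := by decide +kernel
theorem cert_42_1 : SQ.allR 15836 15835 (fun x => Nat.beq (u39 (u38 (u38 (u40 (u39 (u36 (u37 (u40 (u40 (u37 (u40 (x)))))))))))) (u42 (u36 (u37 (u38 (u36 (u38 (u39 (x))))))))) = true := by decide +kernel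
theorem cert_42_all : ∀ x, x < 31671 → (Nat.beq (u39 (u38 (u38 (u40 (u39 (u36 (u37 (u40 (u40 (u37 (u40 (x)))))))))))) (u42 (u36 (u37 (u38 (u36 (u38 (u39 (x))))))))) = true := by
  intro x hp
  rcases Nat.lt_or_ge x 15836 with h | h
  · exact SQ.allR_spec cert_42_0 x (by omega) (by omega)
  exact SQ.allR_spec cert_42_1 x (by omega) (by omega)


end Cfsg.Agent.Lib.Helper8.F3O
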