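import Cfsg.Agent.Lib.Helper8.F3O1

set_option autoImplicit false
set_option maxRecDepth 100000
set_option Elab.async false

/-! The Fischer group Fi23 on 31671 points: certificates of the tables (generated). -/

namespace Cfsg.Agent.Lib.Helper8.F3O

theorem cert_43_0 : SQ.allR 0 10557 (fun x => Nat.beq (u42 (u42 (u38 (u39 (u40 (u39 (u42 (u42 (u34 (u36 (u37 (u38 (u36 (u40 (u39 (u36 (u35 (u38 (u35 (u35 (u38 (u33 (u0 (u13 (u9 (u8 (u17 (u9 (u13 (x)))))))))))))))))))))))))))))) (u43 (x))) = true := by decide +kernel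
theorem cert_43_1 : SQ.allR 10557 10557 (fun x => Nat.beq (u42 (u42 (u38 (u39 (u40 (u39 (u42 (u42 (u34 (u36 (u37 (u38 (u36 (u40 (u39 (u36 (u35 (u38 (u35 (u35 (u38 (u33 (u0 (u13 (u9 (u8 (u17 (u9 (u13 (x)))))))))))))))))))))))))))))) (u43 (x))) = true := by decide +kernel
theorem cert_43_2 : SQ.allR 21114 10557 (fun x => Nat.beq (u42 (u42 (u38 (u39 (u40 (u39 (u42 (u42 (u34 (u36 (u37 (u38 (u36 (u40 (u39 (u36 (u35 (u38 (u35 (u35 (u38 (u33 (u0 (u13 (u9 (u8 (u17 (u9 (u13 (x)))))))))))))))))))))))))))))) (u43 (x))) = true := by decide +kernel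
theorem cert_43_all : ∀ x, x < 31671 → (Nat.beq (u42 (u42 (u38 (u39 (u40 (u39 (u42 (u42 (u34 (u36 (u37 (u38 (u36 (u40 (u39 (u36 (u35 (u38 (u35 (u35 (u38 (u33 (u0 (u13 (u9 (u8 (u17 (u9 (u13 (x)))))))))))))))))))))))))))))) (u43 (x))) = true := by
  intro x hp
  rcases Nat.lt_or_ge x 10557 with h | h
  · exact SQ.allR_spec cert_43_0 x (by omega) (by omega)
  rcases Nat.lt_or_ge x 21114 with h | h
  · exact SQ.allR_spec cert_43_1 x (by omega) (by omega)
  exact SQ.allR_spec cert_43_2 x (by omega) (by omega)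

theorem cert_44_0 : SQ.allR 0 15836 (fun x => Nat.beq (u31 (u31 (u31 (u31 (u31 (u43 (u10 (u43 (x))))))))) (u44 (u10 (u31 (u31 (u10 (u43 (u10 (u31 (x)))))))))) = true := by decide +kernel
theorem cert_44_1 : SQ.allR 15836 15835 (fun x => Nat.beq (u31 (u31 (u31 (u31 (u31 (u43 (u10 (u43 (x))))))))) (u44 (u10 (u31 (u31 (u10 (u43 (u10 (u31 (x)))))))))) = true := by decide +kernel
theorem cert_44_all : ∀ x, x < 31671 → (Nat.beq (u31 (u31 (u31 (u31 (u31 (u43 (u10 (u43 (x))))))))) (u44 (u10 (u31 (u31 (u10 (u43 (u10 (u31 (x)))))))))) = true := by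
  intro x hp
  rcases Nat.lt_or_ge x 15836 with h | h
  · exact SQ.allR_spec cert_44_0 x (by omega) (by omega)
  exact SQ.allR_spec cert_44_1 x (by omega) (by omega)

theorem cert_45_0 : SQ.allR 0 10557 (fun x => Nat.beq (u10 (u10 (u10 (u43 (u10 (u10 (u10 (u10 (u31 (u10 (u10 (u43 (u10 (u10 (u10 (u10 (x))))))))))))))))) (u45 (u10 (u10 (u43 (u10 (u10 (u31 (u43 (u10 (u31 (u31 (u43 (x)))))))))))))) = true := by decide +kernel
theorem cert_45_1 : SQ.allR 10557 10557 (fun x => Nat.beq (u10 (u10 (u10 (u43 (u10 (u10 (u10 (u10 (u31 (u10 (u10 (u43 (u10 (u10 (u10 (u10 (x))))))))))))))))) (u45 (u10 (u10 (u43 (u10 (u10 (u31 (u43 (u10 (u31 (u31 (u43 (x)))))))))))))) = true := by decide +kernel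
theorem cert_45_2 : SQ.allR 21114 10557 (fun x => Nat.beq (u10 (u10 (u10 (u43 (u10 (u10 (u10 (u10 (u31 (u10 (u10 (u43 (u10 (u10 (u10 (u10 (x))))))))))))))))) (u45 (u10 (u10 (u43 (u10 (u10 (u31 (u43 (u10 (u31 (u31 (u43 (x)))))))))))))) = true := by decide +kernel
theorem cert_45_all : ∀ x, x < 31671 → (Nat.beq (u10 (u10 (u10 (u43 (u10 (u10 (u10 (u10 (u31 (u10 (u10 (u43 (u10 (u10 (u10 (u10 (x))))))))))))))))) (u45 (u10 (u10 (u43 (u10 (u10 (u31 (u43 (u10 (u31 (u31 (u43 (x)))))))))))))) = true := by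
  intro x hp
  rcases Nat.lt_or_ge x 10557 with h | h
  · exact SQ.allR_spec cert_45_0 x (by omega) (by omega)
  rcases Nat.lt_or_ge x 21114 with h | h
  · exact SQ.allR_spec cert_45_1 x (by omega) (by omega)
  exact SQ.allR_spec cert_45_2 x (by omega) (by omega)


end Cfsg.Agent.Lib.Helper8.F3O
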