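import Cfsg.Agent.Lib.Helper8.F3O1

set_option autoImplicit false
set_option maxRecDepth 100000
set_option Elab.async false

/-! The Fischer group Fi23 on 31671 points: certificates of the tables (generated). -/

namespace Cfsg.Agent.Lib.Helper8.F3O

theorem cert_49_0 : SQ.allR 0 7918 (fun x => Nat.beq (u46 (u46 (u47 (u46 (u47 (u47 (u47 (u46 (u46 (u47 (u46 (u45 (u44 (u44 (u44 (u44 (u44 (u45 (u45 (u44 (u45 (u43 (u10 (u31 (u10 (u43 (u10 (u10 (u43 (u10 (u31 (u10 (u43 (u10 (u43 (x)))))))))))))))))))))))))))))))))))) (u49 (u10 (u10 (u43 (u10 (u31 (u10 (u10 (u31 (u10 (u43 (u10 (u43 (u10 (x)))))))))))))))) = true := by decide +kernel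
theorem cert_49_1 : SQ.allR 7918 7918 (fun x => Nat.beq (u46 (u46 (u47 (u46 (u47 (u47 (u47 (u46 (u46 (u47 (u46 (u45 (u44 (u44 (u44 (u44 (u44 (u45 (u45 (u44 (u45 (u43 (u10 (u31 (u10 (u43 (u10 (u10 (u43 (u10 (u31 (u10 (u43 (u10 (u43 (x)))))))))))))))))))))))))))))))))))) (u49 (u10 (u10 (u43 (u10 (u31 (u10 (u10 (u31 (u10 (u43 (u10 (u43 (u10 (x)))))))))))))))) = true := by decide +kernel
theorem cert_49_2 : SQ.allR 15836 7918 (fun x => Nat.beq (u46 (u46 (u47 (u46 (u47 (u47 (u47 (u46 (u46 (u47 (u46 (u45 (u44 (u44 (u44 (u44 (u44 (u45 (u45 (u44 (u45 (u43 (u10 (u31 (u10 (u43 (u10 (u10 (u43 (u10 (u31 (u10 (u43 (u10 (u43 (x)))))))))))))))))))))))))))))))))))) (u49 (u10 (u10 (u43 (u10 (u31 (u10 (u10 (u31 (u10 (u43 (u10 (u43 (u10 (x)))))))))))))))) = true := by decide +kernel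
theorem cert_49_3 : SQ.allR 23754 7917 (fun x => Nat.beq (u46 (u46 (u47 (u46 (u47 (u47 (u47 (u46 (u46 (u47 (u46 (u45 (u44 (u44 (u44 (u44 (u44 (u45 (u45 (u44 (u45 (u43 (u10 (u31 (u10 (u43 (u10 (u10 (u43 (u10 (u31 (u10 (u43 (u10 (u43 (x)))))))))))))))))))))))))))))))))))) (u49 (u10 (u10 (u43 (u10 (u31 (u10 (u10 (u31 (u10 (u43 (u10 (u43 (u10 (x)))))))))))))))) = true := by decide +kernel
theorem cert_49_all : ∀ x, x < 31671 → (Nat.beq (u46 (u46 (u47 (u46 (u47 (u47 (u47 (u46 (u46 (u47 (u46 (u45 (u44 (u44 (u44 (u44 (u44 (u45 (u45 (u44 (u45 (u43 (u10 (u31 (u10 (u43 (u10 (u10 (u43 (u10 (u31 (u10 (u43 (u10 (u43 (x)))))))))))))))))))))))))))))))))))) (u49 (u10 (u10 (u43 (u10 (u31 (u10 (u10 (u31 (u10 (u43 (u10 (u43 (u10 (x)))))))))))))))) = true := by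
  intro x hp
  rcases Nat.lt_or_ge x 7918 with h | h
  · exact SQ.allR_spec cert_49_0 x (by omega) (by omega)
  rcases Nat.lt_or_ge x 15836 with h | h
  · exact SQ.allR_spec cert_49_1 x (by omega) (by omega)
  rcases Nat.lt_or_ge x 23754 with h | h
  · exact SQ.allR_spec cert_49_2 x (by omega) (by omega)
  exact SQ.allR_spec cert_49_3 x (by omega) (by omega)

theorem cert_50_0 : SQ.allR 0 15836 (fun x => Nat.beq (u48 (u48 (u49 (u48 (u49 (u49 (u46 (u49 (u47 (u47 (u46 (u49 (u49 (u49 (x))))))))))))))) (u50 (u46 (u46 (u47 (u49 (u47 (u46 (u46 (u47 (x))))))))))) = true := by decide +kernel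
theorem cert_50_1 : SQ.allR 15836 15835 (fun x => Nat.beq (u48 (u48 (u49 (u48 (u49 (u49 (u46 (u49 (u47 (u47 (u46 (u49 (u49 (u49 (x))))))))))))))) (u50 (u46 (u46 (u47 (u49 (u47 (u46 (u46 (u47 (x))))))))))) = true := by decide +kernel
theorem cert_50_all : ∀ x, x < 31671 → (Nat.beq (u48 (u48 (u49 (u48 (u49 (u49 (u46 (u49 (u47 (u47 (u46 (u49 (u49 (u49 (x))))))))))))))) (u50 (u46 (u46 (u47 (u49 (u47 (u46 (u46 (u47 (x))))))))))) = true := by
  intro x hp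
  rcases Nat.lt_or_ge x 15836 with h | h
  · exact SQ.allR_spec cert_50_0 x (by omega) (by omega)
  exact SQ.allR_spec cert_50_1 x (by omega) (by omega)

theorem cert_51_0 : SQ.allR 0 10557 (fun x => Nat.beq (u48 (u50 (u49 (u48 (u50 (u48 (u46 (u49 (u47 (u46 (u49 (u49 (u46 (u46 (u46 (u44 (u49 (u49 (u44 (u45 (u45 (u49 (u45 (u45 (x))))))))))))))))))))))))) (u51 (u45 (u44 (u45 (u44 (u45 (u44 (u44 (x)))))))))) = true := by decide +kernel
theorem cert_51_1 : SQ.allR 10557 10557 (fun x => Nat.beq (u48 (u50 (u49 (u48 (u50 (u48 (u46 (u49 (u47 (u46 (u49 (u49 (u46 (u46 (u46 (u44 (u49 (u49 (u44 (u45 (u45 (u49 (u45 (u45 (x))))))))))))))))))))))))) (u51 (u45 (u44 (u45 (u44 (u45 (u44 (u44 (x)))))))))) = true := by decide +kernel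
theorem cert_51_2 : SQ.allR 21114 10557 (fun x => Nat.beq (u48 (u50 (u49 (u48 (u50 (u48 (u46 (u49 (u47 (u46 (u49 (u49 (u46 (u46 (u46 (u44 (u49 (u49 (u44 (u45 (u45 (u49 (u45 (u45 (x))))))))))))))))))))))))) (u51 (u45 (u44 (u45 (u44 (u45 (u44 (u44 (x)))))))))) = true := by decide +kernel
theorem cert_51_all : ∀ x, x < 31671 → (Nat.beq (u48 (u50 (u49 (u48 (u50 (u48 (u46 (u49 (u47 (u46 (u49 (u49 (u46 (u46 (u46 (u44 (u49 (u49 (u44 (u45 (u45 (u49 (u45 (u45 (x))))))))))))))))))))))))) (u51 (u45 (u44 (u45 (u44 (u45 (u44 (u44 (x)))))))))) = true := by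
  intro x hp
  rcases Nat.lt_or_ge x 10557 with h | h
  · exact SQ.allR_spec cert_51_0 x (by omega) (by omega)
  rcases Nat.lt_or_ge x 21114 with h | h
  · exact SQ.allR_spec cert_51_1 x (by omega) (by omega)
  exact SQ.allR_spec cert_51_2 x (by omega) (by omega)


end Cfsg.Agent.Lib.Helper8.F3O
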