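import Cfsg.Agent.Lib.Helper8.F3O1

set_option autoImplicit false
set_option maxRecDepth 100000
set_option Elab.async false

/-! The Fischer group Fi23 on 31671 points: certificates of the tables (generated). -/

namespace Cfsg.Agent.Lib.Helper8.F3O

theorem genw_0_0 : SQ.allR 0 7918 (fun x => Nat.beq (u52 (u52 (u53 (u50 (u50 (u54 (u51 (u49 (u51 (u53 (u46 (u47 (u52 (u47 (u52 (u47 (u45 (u44 (u44 (u45 (u44 (u44 (u45 (u45 (u10 (u10 (u10 (u10 (u31 (u43 (u10 (u31 (u10 (u10 (u43 (u10 (u31 (u10 (u31 (u43 (x))))))))))))))))))))))))))))))))))))))))) (u0 x)) = true := by decide +kernel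
theorem genw_0_1 : SQ.allR 7918 7918 (fun x => Nat.beq (u52 (u52 (u53 (u50 (u50 (u54 (u51 (u49 (u51 (u53 (u46 (u47 (u52 (u47 (u52 (u47 (u45 (u44 (u44 (u45 (u44 (u44 (u45 (u45 (u10 (u10 (u10 (u10 (u31 (u43 (u10 (u31 (u10 (u10 (u43 (u10 (u31 (u10 (u31 (u43 (x))))))))))))))))))))))))))))))))))))))))) (u0 x)) = true := by decide +kernel
theorem genw_0_2 : SQ.allR 15836 7918 (fun x => Nat.beq (u52 (u52 (u53 (u50 (u50 (u54 (u51 (u49 (u51 (u53 (u46 (u47 (u52 (u47 (u52 (u47 (u45 (u44 (u44 (u45 (u44 (u44 (u45 (u45 (u10 (u10 (u10 (u10 (u31 (u43 (u10 (u31 (u10 (u10 (u43 (u10 (u31 (u10 (u31 (u43 (x))))))))))))))))))))))))))))))))))))))))) (u0 x)) = true := by decide +kernel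
theorem genw_0_3 : SQ.allR 23754 7917 (fun x => Nat.beq (u52 (u52 (u53 (u50 (u50 (u54 (u51 (u49 (u51 (u53 (u46 (u47 (u52 (u47 (u52 (u47 (u45 (u44 (u44 (u45 (u44 (u44 (u45 (u45 (u10 (u10 (u10 (u10 (u31 (u43 (u10 (u31 (u10 (u10 (u43 (u10 (u31 (u10 (u31 (u43 (x))))))))))))))))))))))))))))))))))))))))) (u0 x)) = true := by decide +kernel
theorem genw_0_all : ∀ x, x < 31671 → (Nat.beq (u52 (u52 (u53 (u50 (u50 (u54 (u51 (u49 (u51 (u53 (u46 (u47 (u52 (u47 (u52 (u47 (u45 (u44 (u44 (u45 (u44 (u44 (u45 (u45 (u10 (u10 (u10 (u10 (u31 (u43 (u10 (u31 (u10 (u10 (u43 (u10 (u31 (u10 (u31 (u43 (x))))))))))))))))))))))))))))))))))))))))) (u0 x)) = true := by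
  intro x hp
  rcases Nat.lt_or_ge x 7918 with h | h
  · exact SQ.allR_spec genw_0_0 x (by omega) (by omega)
  rcases Nat.lt_or_ge x 15836 with h | h
  · exact SQ.allR_spec genw_0_1 x (by omega) (by omega)
  rcases Nat.lt_or_ge x 23754 with h | h
  · exact SQ.allR_spec genw_0_2 x (by omega) (by omega)
  exact SQ.allR_spec genw_0_3 x (by omega) (by omega)

theorem genw_1_0 : SQ.allR 0 7918 (fun x => Nat.beq (u53 (u53 (u53 (u52 (u53 (u52 (u53 (u52 (u52 (u50 (u52 (u52 (u48 (u51 (u53 (u54 (u46 (u47 (u46 (u46 (u49 (u47 (u44 (u49 (u45 (u44 (u45 (u45 (u44 (u45 (u44 (u10 (u31 (u10 (u31 (u31 (u31 (x)))))))))))))))))))))))))))))))))))))) (u1 x)) = true := by decide +kernel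
theorem genw_1_1 : SQ.allR 7918 7918 (fun x => Nat.beq (u53 (u53 (u53 (u52 (u53 (u52 (u53 (u52 (u52 (u50 (u52 (u52 (u48 (u51 (u53 (u54 (u46 (u47 (u46 (u46 (u49 (u47 (u44 (u49 (u45 (u44 (u45 (u45 (u44 (u45 (u44 (u10 (u31 (u10 (u31 (u31 (u31 (x)))))))))))))))))))))))))))))))))))))) (u1 x)) = true := by decide +kernel
theorem genw_1_2 : SQ.allR 15836 7918 (fun x => Nat.beq (u53 (u53 (u53 (u52 (u53 (u52 (u53 (u52 (u52 (u50 (u52 (u52 (u48 (u51 (u53 (u54 (u46 (u47 (u46 (u46 (u49 (u47 (u44 (u49 (u45 (u44 (u45 (u45 (u44 (u45 (u44 (u10 (u31 (u10 (u31 (u31 (u31 (x)))))))))))))))))))))))))))))))))))))) (u1 x)) = true := by decide +kernel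
theorem genw_1_3 : SQ.allR 23754 7917 (fun x => Nat.beq (u53 (u53 (u53 (u52 (u53 (u52 (u53 (u52 (u52 (u50 (u52 (u52 (u48 (u51 (u53 (u54 (u46 (u47 (u46 (u46 (u49 (u47 (u44 (u49 (u45 (u44 (u45 (u45 (u44 (u45 (u44 (u10 (u31 (u10 (u31 (u31 (u31 (x)))))))))))))))))))))))))))))))))))))) (u1 x)) = true := by decide +kernel
theorem genw_1_all : ∀ x, x < 31671 → (Nat.beq (u53 (u53 (u53 (u52 (u53 (u52 (u53 (u52 (u52 (u50 (u52 (u52 (u48 (u51 (u53 (u54 (u46 (u47 (u46 (u46 (u49 (u47 (u44 (u49 (u45 (u44 (u45 (u45 (u44 (u45 (u44 (u10 (u31 (u10 (u31 (u31 (u31 (x)))))))))))))))))))))))))))))))))))))) (u1 x)) = true := by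
  intro x hp
  rcases Nat.lt_or_ge x 7918 with h | h
  · exact SQ.allR_spec genw_1_0 x (by omega) (by omega)
  rcases Nat.lt_or_ge x 15836 with h | h
  · exact SQ.allR_spec genw_1_1 x (by omega) (by omega)
  rcases Nat.lt_or_ge x 23754 with h | h
  · exact SQ.allR_spec genw_1_2 x (by omega) (by omega)
  exact SQ.allR_spec genw_1_3 x (by omega) (by omega)

theorem genw_2_0 : SQ.allR 0 7918 (fun x => Nat.beq (u54 (u53 (u53 (u54 (u52 (u53 (u52 (u52 (u54 (u53 (u50 (u52 (u51 (u48 (u48 (u53 (u54 (u46 (u46 (u52 (u47 (u51 (u52 (u44 (u49 (u49 (u44 (u49 (u44 (u45 (u49 (u10 (u10 (u43 (u10 (u10 (u10 (u43 (u10 (u43 (u10 (u10 (u10 (u10 (x))))))))))))))))))))))))))))))))))))))))))))) (u2 x)) = true := by decide +kernel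
theorem genw_2_1 : SQ.allR 7918 7918 (fun x => Nat.beq (u54 (u53 (u53 (u54 (u52 (u53 (u52 (u52 (u54 (u53 (u50 (u52 (u51 (u48 (u48 (u53 (u54 (u46 (u46 (u52 (u47 (u51 (u52 (u44 (u49 (u49 (u44 (u49 (u44 (u45 (u49 (u10 (u10 (u43 (u10 (u10 (u10 (u43 (u10 (u43 (u10 (u10 (u10 (u10 (x))))))))))))))))))))))))))))))))))))))))))))) (u2 x)) = true := by decide +kernel
theorem genw_2_2 : SQ.allR 15836 7918 (fun x => Nat.beq (u54 (u53 (u53 (u54 (u52 (u53 (u52 (u52 (u54 (u53 (u50 (u52 (u51 (u48 (u48 (u53 (u54 (u46 (u46 (u52 (u47 (u51 (u52 (u44 (u49 (u49 (u44 (u49 (u44 (u45 (u49 (u10 (u10 (u43 (u10 (u10 (u10 (u43 (u10 (u43 (u10 (u10 (u10 (u10 (x))))))))))))))))))))))))))))))))))))))))))))) (u2 x)) = true := by decide +kernel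
theorem genw_2_3 : SQ.allR 23754 7917 (fun x => Nat.beq (u54 (u53 (u53 (u54 (u52 (u53 (u52 (u52 (u54 (u53 (u50 (u52 (u51 (u48 (u48 (u53 (u54 (u46 (u46 (u52 (u47 (u51 (u52 (u44 (u49 (u49 (u44 (u49 (u44 (u45 (u49 (u10 (u10 (u43 (u10 (u10 (u10 (u43 (u10 (u43 (u10 (u10 (u10 (u10 (x))))))))))))))))))))))))))))))))))))))))))))) (u2 x)) = true := by decide +kernel
theorem genw_2_all : ∀ x, x < 31671 → (Nat.beq (u54 (u53 (u53 (u54 (u52 (u53 (u52 (u52 (u54 (u53 (u50 (u52 (u51 (u48 (u48 (u53 (u54 (u46 (u46 (u52 (u47 (u51 (u52 (u44 (u49 (u49 (u44 (u49 (u44 (u45 (u49 (u10 (u10 (u43 (u10 (u10 (u10 (u43 (u10 (u43 (u10 (u10 (u10 (u10 (x))))))))))))))))))))))))))))))))))))))))))))) (u2 x)) = true := by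
  intro x hp
  rcases Nat.lt_or_ge x 7918 with h | h
  · exact SQ.allR_spec genw_2_0 x (by omega) (by omega)
  rcases Nat.lt_or_ge x 15836 with h | h
  · exact SQ.allR_spec genw_2_1 x (by omega) (by omega)
  rcases Nat.lt_or_ge x 23754 with h | h
  · exact SQ.allR_spec genw_2_2 x (by omega) (by omega)
  exact SQ.allR_spec genw_2_3 x (by omega) (by omega)


end Cfsg.Agent.Lib.Helper8.F3O
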