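import Cfsg.Agent.Lib.Helper8.F3O1

set_option autoImplicit false
set_option maxRecDepth 100000
set_option Elab.async false

/-! The Fischer group Fi23 on 31671 points: certificates of the tables (generated). -/

namespace Cfsg.Agent.Lib.Helper8.F3O

theorem genw_3_0 : SQ.allR 0 15836 (fun x => Nat.beq (u53 (u53 (u53 (u52 (u52 (u53 (u54 (u52 (u52 (u50 (u50 (u51 (u51 (u49 (u49 (u52 (u47 (u46 (u49 (u51 (u49 (u47 (x))))))))))))))))))))))) (u3 x)) = true := by decide +kernel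
theorem genw_3_1 : SQ.allR 15836 15835 (fun x => Nat.beq (u53 (u53 (u53 (u52 (u52 (u53 (u54 (u52 (u52 (u50 (u50 (u51 (u51 (u49 (u49 (u52 (u47 (u46 (u49 (u51 (u49 (u47 (x))))))))))))))))))))))) (u3 x)) = true := by decide +kernel
theorem genw_3_all : ∀ x, x < 31671 → (Nat.beq (u53 (u53 (u53 (u52 (u52 (u53 (u54 (u52 (u52 (u50 (u50 (u51 (u51 (u49 (u49 (u52 (u47 (u46 (u49 (u51 (u49 (u47 (x))))))))))))))))))))))) (u3 x)) = true := by
  intro x hp
  rcases Nat.lt_or_ge x 15836 with h | h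
  · exact SQ.allR_spec genw_3_0 x (by omega) (by omega)
  exact SQ.allR_spec genw_3_1 x (by omega) (by omega)

theorem genw_4_0 : SQ.allR 0 10557 (fun x => Nat.beq (u54 (u52 (u53 (u52 (u54 (u53 (u53 (u51 (u50 (u51 (u53 (u48 (u48 (u51 (u48 (u51 (u47 (u47 (u47 (u52 (u52 (u44 (u49 (u49 (u49 (u45 (u45 (u45 (u49 (u49 (x))))))))))))))))))))))))))))))) (u4 x)) = true := by decide +kernel
theorem genw_4_1 : SQ.allR 10557 10557 (fun x => Nat.beq (u54 (u52 (u53 (u52 (u54 (u53 (u53 (u51 (u50 (u51 (u53 (u48 (u48 (u51 (u48 (u51 (u47 (u47 (u47 (u52 (u52 (u44 (u49 (u49 (u49 (u45 (u45 (u45 (u49 (u49 (x))))))))))))))))))))))))))))))) (u4 x)) = true := by decide +kernel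
theorem genw_4_2 : SQ.allR 21114 10557 (fun x => Nat.beq (u54 (u52 (u53 (u52 (u54 (u53 (u53 (u51 (u50 (u51 (u53 (u48 (u48 (u51 (u48 (u51 (u47 (u47 (u47 (u52 (u52 (u44 (u49 (u49 (u49 (u45 (u45 (u45 (u49 (u49 (x))))))))))))))))))))))))))))))) (u4 x)) = true := by decide +kernel
theorem genw_4_all : ∀ x, x < 31671 → (Nat.beq (u54 (u52 (u53 (u52 (u54 (u53 (u53 (u51 (u50 (u51 (u53 (u48 (u48 (u51 (u48 (u51 (u47 (u47 (u47 (u52 (u52 (u44 (u49 (u49 (u49 (u45 (u45 (u45 (u49 (u49 (x))))))))))))))))))))))))))))))) (u4 x)) = true := by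
  intro x hp
  rcases Nat.lt_or_ge x 10557 with h | h
  · exact SQ.allR_spec genw_4_0 x (by omega) (by omega)
  rcases Nat.lt_or_ge x 21114 with h | h
  · exact SQ.allR_spec genw_4_1 x (by omega) (by omega)
  exact SQ.allR_spec genw_4_2 x (by omega) (by omega)

theorem genw_5_0 : SQ.allR 0 31671 (fun x => Nat.beq (u53 (u53 (u51 (u50 (u52 (x)))))) (u5 x)) = true := by decide +kernel
theorem genw_5_all : ∀ x, x < 31671 → (Nat.beq (u53 (u53 (u51 (u50 (u52 (x)))))) (u5 x)) = true := by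
  intro x hp
  exact SQ.allR_spec genw_5_0 x (by omega) (by omega)


end Cfsg.Agent.Lib.Helper8.F3O
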