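import Cfsg.Agent.Lib.Helper8.F3O1

set_option autoImplicit false
set_option maxRecDepth 100000
set_option Elab.async false

/-! The Fischer group Fi23 on 31671 points: certificates of the tables (generated). -/

namespace Cfsg.Agent.Lib.Helper8.F3O

theorem genw_6_0 : SQ.allR 0 15836 (fun x => Nat.beq (u53 (u52 (u52 (u53 (u52 (u51 (u50 (u50 (u54 (u49 (u51 (u48 (u51 (u46 (u46 (u52 (u46 (u51 (u46 (u45 (u45 (u44 (u49 (x)))))))))))))))))))))))) (u6 x)) = true := by decide +kernel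
theorem genw_6_1 : SQ.allR 15836 15835 (fun x => Nat.beq (u53 (u52 (u52 (u53 (u52 (u51 (u50 (u50 (u54 (u49 (u51 (u48 (u51 (u46 (u46 (u52 (u46 (u51 (u46 (u45 (u45 (u44 (u49 (x)))))))))))))))))))))))) (u6 x)) = true := by decide +kernel
theorem genw_6_all : ∀ x, x < 31671 → (Nat.beq (u53 (u52 (u52 (u53 (u52 (u51 (u50 (u50 (u54 (u49 (u51 (u48 (u51 (u46 (u46 (u52 (u46 (u51 (u46 (u45 (u45 (u44 (u49 (x)))))))))))))))))))))))) (u6 x)) = true := by
  intro x hp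
  rcases Nat.lt_or_ge x 15836 with h | h
  · exact SQ.allR_spec genw_6_0 x (by omega) (by omega)
  exact SQ.allR_spec genw_6_1 x (by omega) (by omega)

theorem genw_7_0 : SQ.allR 0 7918 (fun x => Nat.beq (u54 (u53 (u53 (u53 (u52 (u52 (u52 (u50 (u51 (u53 (u49 (u48 (u52 (u46 (u52 (u51 (u52 (u46 (u46 (u44 (u44 (u49 (u45 (u44 (u45 (u44 (u49 (u43 (u10 (u43 (u10 (u31 (u10 (u31 (u10 (u10 (u43 (u10 (u10 (u43 (x))))))))))))))))))))))))))))))))))))))))) (u7 x)) = true := by decide +kernel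
theorem genw_7_1 : SQ.allR 7918 7918 (fun x => Nat.beq (u54 (u53 (u53 (u53 (u52 (u52 (u52 (u50 (u51 (u53 (u49 (u48 (u52 (u46 (u52 (u51 (u52 (u46 (u46 (u44 (u44 (u49 (u45 (u44 (u45 (u44 (u49 (u43 (u10 (u43 (u10 (u31 (u10 (u31 (u10 (u10 (u43 (u10 (u10 (u43 (x))))))))))))))))))))))))))))))))))))))))) (u7 x)) = true := by decide +kernel
theorem genw_7_2 : SQ.allR 15836 7918 (fun x => Nat.beq (u54 (u53 (u53 (u53 (u52 (u52 (u52 (u50 (u51 (u53 (u49 (u48 (u52 (u46 (u52 (u51 (u52 (u46 (u46 (u44 (u44 (u49 (u45 (u44 (u45 (u44 (u49 (u43 (u10 (u43 (u10 (u31 (u10 (u31 (u10 (u10 (u43 (u10 (u10 (u43 (x))))))))))))))))))))))))))))))))))))))))) (u7 x)) = true := by decide +kernel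
theorem genw_7_3 : SQ.allR 23754 7917 (fun x => Nat.beq (u54 (u53 (u53 (u53 (u52 (u52 (u52 (u50 (u51 (u53 (u49 (u48 (u52 (u46 (u52 (u51 (u52 (u46 (u46 (u44 (u44 (u49 (u45 (u44 (u45 (u44 (u49 (u43 (u10 (u43 (u10 (u31 (u10 (u31 (u10 (u10 (u43 (u10 (u10 (u43 (x))))))))))))))))))))))))))))))))))))))))) (u7 x)) = true := by decide +kernel
theorem genw_7_all : ∀ x, x < 31671 → (Nat.beq (u54 (u53 (u53 (u53 (u52 (u52 (u52 (u50 (u51 (u53 (u49 (u48 (u52 (u46 (u52 (u51 (u52 (u46 (u46 (u44 (u44 (u49 (u45 (u44 (u45 (u44 (u49 (u43 (u10 (u43 (u10 (u31 (u10 (u31 (u10 (u10 (u43 (u10 (u10 (u43 (x))))))))))))))))))))))))))))))))))))))))) (u7 x)) = true := by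
  intro x hp
  rcases Nat.lt_or_ge x 7918 with h | h
  · exact SQ.allR_spec genw_7_0 x (by omega) (by omega)
  rcases Nat.lt_or_ge x 15836 with h | h
  · exact SQ.allR_spec genw_7_1 x (by omega) (by omega)
  rcases Nat.lt_or_ge x 23754 with h | h
  · exact SQ.allR_spec genw_7_2 x (by omega) (by omega)
  exact SQ.allR_spec genw_7_3 x (by omega) (by omega)

theorem genw_8_0 : SQ.allR 0 10557 (fun x => Nat.beq (u54 (u52 (u54 (u53 (u52 (u52 (u54 (u53 (u50 (u52 (u53 (u51 (u48 (u49 (u51 (u53 (u46 (u47 (u52 (u51 (u49 (u46 (u45 (u45 (u49 (u49 (u49 (u45 (u49 (u49 (x))))))))))))))))))))))))))))))) (u8 x)) = true := by decide +kernel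
theorem genw_8_1 : SQ.allR 10557 10557 (fun x => Nat.beq (u54 (u52 (u54 (u53 (u52 (u52 (u54 (u53 (u50 (u52 (u53 (u51 (u48 (u49 (u51 (u53 (u46 (u47 (u52 (u51 (u49 (u46 (u45 (u45 (u49 (u49 (u49 (u45 (u49 (u49 (x))))))))))))))))))))))))))))))) (u8 x)) = true := by decide +kernel
theorem genw_8_2 : SQ.allR 21114 10557 (fun x => Nat.beq (u54 (u52 (u54 (u53 (u52 (u52 (u54 (u53 (u50 (u52 (u53 (u51 (u48 (u49 (u51 (u53 (u46 (u47 (u52 (u51 (u49 (u46 (u45 (u45 (u49 (u49 (u49 (u45 (u49 (u49 (x))))))))))))))))))))))))))))))) (u8 x)) = true := by decide +kernel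
theorem genw_8_all : ∀ x, x < 31671 → (Nat.beq (u54 (u52 (u54 (u53 (u52 (u52 (u54 (u53 (u50 (u52 (u53 (u51 (u48 (u49 (u51 (u53 (u46 (u47 (u52 (u51 (u49 (u46 (u45 (u45 (u49 (u49 (u49 (u45 (u49 (u49 (x))))))))))))))))))))))))))))))) (u8 x)) = true := by
  intro x hp
  rcases Nat.lt_or_ge x 10557 with h | h
  · exact SQ.allR_spec genw_8_0 x (by omega) (by omega)
  rcases Nat.lt_or_ge x 21114 with h | h
  · exact SQ.allR_spec genw_8_1 x (by omega) (by omega)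
  exact SQ.allR_spec genw_8_2 x (by omega) (by omega)


end Cfsg.Agent.Lib.Helper8.F3O
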