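import Cfsg.Agent.Lib.Helper8.F3O1

set_option autoImplicit false
set_option maxRecDepth 100000
set_option Elab.async false

/-! The Fischer group Fi23 on 31671 points: certificates of the tables (generated). -/

namespace Cfsg.Agent.Lib.Helper8.F3O

theorem genw_9_0 : SQ.allR 0 7918 (fun x => Nat.beq (u53 (u53 (u54 (u52 (u52 (u53 (u52 (u53 (u52 (u54 (u50 (u50 (u52 (u51 (u49 (u52 (u49 (u50 (u46 (u47 (u51 (u51 (u52 (u52 (u51 (u44 (u45 (u44 (u45 (u45 (u44 (u49 (u49 (u49 (u31 (u10 (u31 (u10 (u10 (u43 (u10 (u10 (u31 (u43 (u10 (x)))))))))))))))))))))))))))))))))))))))))))))) (u9 x)) = true := by decide +kernel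
theorem genw_9_1 : SQ.allR 7918 7918 (fun x => Nat.beq (u53 (u53 (u54 (u52 (u52 (u53 (u52 (u53 (u52 (u54 (u50 (u50 (u52 (u51 (u49 (u52 (u49 (u50 (u46 (u47 (u51 (u51 (u52 (u52 (u51 (u44 (u45 (u44 (u45 (u45 (u44 (u49 (u49 (u49 (u31 (u10 (u31 (u10 (u10 (u43 (u10 (u10 (u31 (u43 (u10 (x)))))))))))))))))))))))))))))))))))))))))))))) (u9 x)) = true := by decide +kernel
theorem genw_9_2 : SQ.allR 15836 7918 (fun x => Nat.beq (u53 (u53 (u54 (u52 (u52 (u53 (u52 (u53 (u52 (u54 (u50 (u50 (u52 (u51 (u49 (u52 (u49 (u50 (u46 (u47 (u51 (u51 (u52 (u52 (u51 (u44 (u45 (u44 (u45 (u45 (u44 (u49 (u49 (u49 (u31 (u10 (u31 (u10 (u10 (u43 (u10 (u10 (u31 (u43 (u10 (x)))))))))))))))))))))))))))))))))))))))))))))) (u9 x)) = true := by decide +kernel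
theorem genw_9_3 : SQ.allR 23754 7917 (fun x => Nat.beq (u53 (u53 (u54 (u52 (u52 (u53 (u52 (u53 (u52 (u54 (u50 (u50 (u52 (u51 (u49 (u52 (u49 (u50 (u46 (u47 (u51 (u51 (u52 (u52 (u51 (u44 (u45 (u44 (u45 (u45 (u44 (u49 (u49 (u49 (u31 (u10 (u31 (u10 (u10 (u43 (u10 (u10 (u31 (u43 (u10 (x)))))))))))))))))))))))))))))))))))))))))))))) (u9 x)) = true := by decide +kernel
theorem genw_9_all : ∀ x, x < 31671 → (Nat.beq (u53 (u53 (u54 (u52 (u52 (u53 (u52 (u53 (u52 (u54 (u50 (u50 (u52 (u51 (u49 (u52 (u49 (u50 (u46 (u47 (u51 (u51 (u52 (u52 (u51 (u44 (u45 (u44 (u45 (u45 (u44 (u49 (u49 (u49 (u31 (u10 (u31 (u10 (u10 (u43 (u10 (u10 (u31 (u43 (u10 (x)))))))))))))))))))))))))))))))))))))))))))))) (u9 x)) = true := by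
  intro x hp
  rcases Nat.lt_or_ge x 7918 with h | h
  · exact SQ.allR_spec genw_9_0 x (by omega) (by omega)
  rcases Nat.lt_or_ge x 15836 with h | h
  · exact SQ.allR_spec genw_9_1 x (by omega) (by omega)
  rcases Nat.lt_or_ge x 23754 with h | h
  · exact SQ.allR_spec genw_9_2 x (by omega) (by omega)
  exact SQ.allR_spec genw_9_3 x (by omega) (by omega)


end Cfsg.Agent.Lib.Helper8.F3O
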