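import Cfsg.Agent.Lib.Helper8.F3O2a
import Cfsg.Agent.Lib.Helper8.F3O2b
import Cfsg.Agent.Lib.Helper8.F3O2c
import Cfsg.Agent.Lib.Helper8.F3O2d
import Cfsg.Agent.Lib.Helper8.F3O2e
import Cfsg.Agent.Lib.Helper8.F3O2f
import Cfsg.Agent.Lib.Helper8.F3O2g
import Cfsg.Agent.Lib.Helper8.F3O2h
import Cfsg.Agent.Lib.Helper8.F3O2i
import Cfsg.Agent.Lib.Helper8.F3O2j
import Cfsg.Agent.Lib.Helper8.F3O2k
import Cfsg.Agent.Lib.Helper8.F3O2l
import Cfsg.Agent.Lib.Helper8.F3O2m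
import Cfsg.Agent.Lib.Helper8.F3O2n
import Cfsg.Agent.Lib.Helper8.F3O2o
import Cfsg.Agent.Lib.Helper8.F3O2p
import Cfsg.Agent.Lib.Helper8.F3O2q
import Cfsg.Agent.Lib.Helper8.F3O2r
import Cfsg.Agent.Lib.Helper8.F3O2s

set_option autoImplicit false
set_option maxRecDepth 100000
set_option Elab.async false

/-! The Fischer group Fi23 on 31671 points: the certificates of the tables (generated). -/

namespace Cfsg.Agent.Lib.Helper8.F3O


end Cfsg.Agent.Lib.Helper8.F3O
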