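import Cfsg.Agent.Lib.Helper8.F3O1

set_option autoImplicit false
set_option maxRecDepth 100000
set_option Elab.async false

/-! The Fischer group Fi23 on 31671 points: certificates of the tables (generated). -/

namespace Cfsg.Agent.Lib.Helper8.F3O

theorem cert_10_0 : SQ.allR 0 15836 (fun x => Nat.beq (u5 (u6 (u9 (u7 (u1 (u4 (u1 (u9 (u3 (u1 (u0 (u4 (u8 (u2 (u4 (x)))))))))))))))) (u10 (x))) = true := by decide +kernel
theorem cert_10_1 : SQ.allR 15836 15835 (fun x => Nat.beq (u5 (u6 (u9 (u7 (u1 (u4 (u1 (u9 (u3 (u1 (u0 (u4 (u8 (u2 (u4 (x)))))))))))))))) (u10 (x))) = true := by decide +kernel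
theorem cert_10_all : ∀ x, x < 31671 → (Nat.beq (u5 (u6 (u9 (u7 (u1 (u4 (u1 (u9 (u3 (u1 (u0 (u4 (u8 (u2 (u4 (x)))))))))))))))) (u10 (x))) = true := by
  intro x hp
  rcases Nat.lt_or_ge x 15836 with h | h
  · exact SQ.allR_spec cert_10_0 x (by omega) (by omega)
  exact SQ.allR_spec cert_10_1 x (by omega) (by omega)

theorem cert_11_0 : SQ.allR 0 31671 (fun x => Nat.beq (u10 (u10 (x))) (u11 (x))) = true := by decide +kernel
theorem cert_11_all : ∀ x, x < 31671 → (Nat.beq (u10 (u10 (x))) (u11 (x))) = true := by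
  intro x hp
  exact SQ.allR_spec cert_11_0 x (by omega) (by omega)

theorem cert_12_0 : SQ.allR 0 31671 (fun x => Nat.beq (u11 (u11 (x))) (u12 (x))) = true := by decide +kernel
theorem cert_12_all : ∀ x, x < 31671 → (Nat.beq (u11 (u11 (x))) (u12 (x))) = true := by
  intro x hp
  exact SQ.allR_spec cert_12_0 x (by omega) (by omega)


end Cfsg.Agent.Lib.Helper8.F3O
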