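import Cfsg.Agent.Lib.Helper8.F3O1

set_option autoImplicit false
set_option maxRecDepth 100000
set_option Elab.async false

/-! The Fischer group Fi23 on 31671 points: certificates of the tables (generated). -/

namespace Cfsg.Agent.Lib.Helper8.F3O

theorem cert_46_0 : SQ.allR 0 10557 (fun x => Nat.beq (u45 (u44 (u45 (u45 (u45 (u44 (u44 (u44 (u45 (u45 (u44 (u45 (u45 (x)))))))))))))) (u46 (u44 (u44 (u45 (u45 (u44 (u44 (u44 (u45 (u44 (u45 (u44 (u44 (u44 (x)))))))))))))))) = true := by decide +kernel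
theorem cert_46_1 : SQ.allR 10557 10557 (fun x => Nat.beq (u45 (u44 (u45 (u45 (u45 (u44 (u44 (u44 (u45 (u45 (u44 (u45 (u45 (x)))))))))))))) (u46 (u44 (u44 (u45 (u45 (u44 (u44 (u44 (u45 (u44 (u45 (u44 (u44 (u44 (x)))))))))))))))) = true := by decide +kernel
theorem cert_46_2 : SQ.allR 21114 10557 (fun x => Nat.beq (u45 (u44 (u45 (u45 (u45 (u44 (u44 (u44 (u45 (u45 (u44 (u45 (u45 (x)))))))))))))) (u46 (u44 (u44 (u45 (u45 (u44 (u44 (u44 (u45 (u44 (u45 (u44 (u44 (u44 (x)))))))))))))))) = true := by decide +kernel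
theorem cert_46_all : ∀ x, x < 31671 → (Nat.beq (u45 (u44 (u45 (u45 (u45 (u44 (u44 (u44 (u45 (u45 (u44 (u45 (u45 (x)))))))))))))) (u46 (u44 (u44 (u45 (u45 (u44 (u44 (u44 (u45 (u44 (u45 (u44 (u44 (u44 (x)))))))))))))))) = true := by
  intro x hp
  rcases Nat.lt_or_ge x 10557 with h | h
  · exact SQ.allR_spec cert_46_0 x (by omega) (by omega)
  rcases Nat.lt_or_ge x 21114 with h | h
  · exact SQ.allR_spec cert_46_1 x (by omega) (by omega)
  exact SQ.allR_spec cert_46_2 x (by omega) (by omega)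

theorem cert_47_0 : SQ.allR 0 10557 (fun x => Nat.beq (u44 (u44 (u45 (u45 (u44 (u44 (u45 (u44 (u45 (u45 (u45 (u44 (u44 (x)))))))))))))) (u47 (u44 (u44 (u44 (u44 (u45 (u45 (u45 (u45 (u45 (u45 (u44 (u45 (u45 (x)))))))))))))))) = true := by decide +kernel
theorem cert_47_1 : SQ.allR 10557 10557 (fun x => Nat.beq (u44 (u44 (u45 (u45 (u44 (u44 (u45 (u44 (u45 (u45 (u45 (u44 (u44 (x)))))))))))))) (u47 (u44 (u44 (u44 (u44 (u45 (u45 (u45 (u45 (u45 (u45 (u44 (u45 (u45 (x)))))))))))))))) = true := by decide +kernel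
theorem cert_47_2 : SQ.allR 21114 10557 (fun x => Nat.beq (u44 (u44 (u45 (u45 (u44 (u44 (u45 (u44 (u45 (u45 (u45 (u44 (u44 (x)))))))))))))) (u47 (u44 (u44 (u44 (u44 (u45 (u45 (u45 (u45 (u45 (u45 (u44 (u45 (u45 (x)))))))))))))))) = true := by decide +kernel
theorem cert_47_all : ∀ x, x < 31671 → (Nat.beq (u44 (u44 (u45 (u45 (u44 (u44 (u45 (u44 (u45 (u45 (u45 (u44 (u44 (x)))))))))))))) (u47 (u44 (u44 (u44 (u44 (u45 (u45 (u45 (u45 (u45 (u45 (u44 (u45 (u45 (x)))))))))))))))) = true := by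
  intro x hp
  rcases Nat.lt_or_ge x 10557 with h | h
  · exact SQ.allR_spec cert_47_0 x (by omega) (by omega)
  rcases Nat.lt_or_ge x 21114 with h | h
  · exact SQ.allR_spec cert_47_1 x (by omega) (by omega)
  exact SQ.allR_spec cert_47_2 x (by omega) (by omega)

theorem cert_48_0 : SQ.allR 0 15836 (fun x => Nat.beq (u46 (u46 (u46 (u46 (u46 (u47 (u47 (u47 (u47 (u46 (u47 (u46 (u47 (x)))))))))))))) (u48 (u46 (u47 (u46 (u46 (u46 (u46 (x))))))))) = true := by decide +kernel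
theorem cert_48_1 : SQ.allR 15836 15835 (fun x => Nat.beq (u46 (u46 (u46 (u46 (u46 (u47 (u47 (u47 (u47 (u46 (u47 (u46 (u47 (x)))))))))))))) (u48 (u46 (u47 (u46 (u46 (u46 (u46 (x))))))))) = true := by decide +kernel
theorem cert_48_all : ∀ x, x < 31671 → (Nat.beq (u46 (u46 (u46 (u46 (u46 (u47 (u47 (u47 (u47 (u46 (u47 (u46 (u47 (x)))))))))))))) (u48 (u46 (u47 (u46 (u46 (u46 (u46 (x))))))))) = true := by
  intro x hp
  rcases Nat.lt_or_ge x 15836 with h | h
  · exact SQ.allR_spec cert_48_0 x (by omega) (by omega)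
  exact SQ.allR_spec cert_48_1 x (by omega) (by omega)


end Cfsg.Agent.Lib.Helper8.F3O
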