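import Cfsg.Agent.Lib.Helper8.F3O3

set_option autoImplicit false
set_option maxRecDepth 100000
set_option Elab.async false

/-! The Fischer group Fi23 on 31671 points: the centraliser and transporter searches (generated). -/

namespace Cfsg.Agent.Lib.Helper8.F3O

/-- the candidates for the image of the first base point under an element centralising `x` -/
def passC (p : ℕ) : Bool :=
  match SQ.sift LsX (SQ.iterL u10 8 p ++ [1, u10 1]) with
  | some [r0, s0] => Nat.beq s0 (u10 r0)
  | _ => false

def xorbB (p : ℕ) : Bool := Nat.beq p 2 || Nat.beq p 3665 || Nat.beq p 3817 || Nat.beq p 8 || Nat.beq p 3528 || Nat.beq p 3526 || Nat.beq p 3588 || Nat.beq p 3747 || Nat.beq p 376 || Nat.beq p 1168 || Nat.beq p 1825 || Nat.beq p 750 || Nat.beq p 144 || Nat.beq p 3575 || Nat.beq p 3549 || Nat.beq p 3568 || Nat.beq p 3546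

/-- the element centralising `t` and taking `p` to the first base point, at `q` -/
def FQ (p q : ℕ) : ℕ :=
  match SQ.sift LsZ (SQ.iterL u32 6 p ++ [q]) with
  | some [r] => r
  | _ => 31671

def pre0 (q : ℕ) : ℕ := u10 (q)
def itQ0 (p : ℕ) : ℕ → ℕ → ℕ
  | 0, q => q
  | k + 1, q => itQ0 p k (pre0 (FQ p q))

def pre1 (q : ℕ) : ℕ := u10 (u10 (u31 (q)))
def itQ1 (p : ℕ) : ℕ → ℕ → ℕ
  | 0, q => q
  | k + 1, q => itQ1 p k (pre1 (FQ p q))

def testQ (p : ℕ) : Bool :=
  (SQ.sift LsZ (SQ.iterL u32 6 p ++ [])).isSome && Nat.beq (itQ0 p 10 1) 1 && Nat.beq (itQ1 p 14 1) 1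

theorem passC_0 : SQ.allR 0 1584 (fun p => !(passC p) || xorbB p) = true := by decide +kernel
theorem passC_1 : SQ.allR 1584 1584 (fun p => !(passC p) || xorbB p) = true := by decide +kernel
theorem passC_2 : SQ.allR 3168 1584 (fun p => !(passC p) || xorbB p) = true := by decide +kernel
theorem passC_3 : SQ.allR 4752 1584 (fun p => !(passC p) || xorbB p) = true := by decide +kernel
theorem passC_4 : SQ.allR 6336 1584 (fun p => !(passC p) || xorbB p) = true := by decide +kernel
theorem passC_5 : SQ.allR 7920 1584 (fun p => !(passC p) || xorbB p) = true := by decide +kernel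
theorem passC_6 : SQ.allR 9504 1584 (fun p => !(passC p) || xorbB p) = true := by decide +kernel
theorem passC_7 : SQ.allR 11088 1584 (fun p => !(passC p) || xorbB p) = true := by decide +kernel
theorem passC_8 : SQ.allR 12672 1584 (fun p => !(passC p) || xorbB p) = true := by decide +kernel
theorem passC_9 : SQ.allR 14256 1584 (fun p => !(passC p) || xorbB p) = true := by decide +kernel
theorem passC_10 : SQ.allR 15840 1584 (fun p => !(passC p) || xorbB p) = true := by decide +kernel
theorem passC_11 : SQ.allR 17424 1584 (fun p => !(passC p) || xorbB p) = true := by decide +kernel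
theorem passC_12 : SQ.allR 19008 1584 (fun p => !(passC p) || xorbB p) = true := by decide +kernel
theorem passC_13 : SQ.allR 20592 1584 (fun p => !(passC p) || xorbB p) = true := by decide +kernel
theorem passC_14 : SQ.allR 22176 1584 (fun p => !(passC p) || xorbB p) = true := by decide +kernel
theorem passC_15 : SQ.allR 23760 1584 (fun p => !(passC p) || xorbB p) = true := by decide +kernel
theorem passC_16 : SQ.allR 25344 1584 (fun p => !(passC p) || xorbB p) = true := by decide +kernel
theorem passC_17 : SQ.allR 26928 1584 (fun p => !(passC p) || xorbB p) = true := by decide +kernel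
theorem passC_18 : SQ.allR 28512 1584 (fun p => !(passC p) || xorbB p) = true := by decide +kernel
theorem passC_19 : SQ.allR 30096 1575 (fun p => !(passC p) || xorbB p) = true := by decide +kernel
theorem passC_all : ∀ p, p < 31671 → (!(passC p) || xorbB p) = true := by
  intro p hp
  rcases Nat.lt_or_ge p 1584 with h | h
  · exact SQ.allR_spec passC_0 p (by omega) (by omega)
  rcases Nat.lt_or_ge p 3168 with h | h
  · exact SQ.allR_spec passC_1 p (by omega) (by omega)
  rcases Nat.lt_or_ge p 4752 with h | h
  · exact SQ.allR_spec passC_2 p (by omega) (by omega)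
  rcases Nat.lt_or_ge p 6336 with h | h
  · exact SQ.allR_spec passC_3 p (by omega) (by omega)
  rcases Nat.lt_or_ge p 7920 with h | h
  · exact SQ.allR_spec passC_4 p (by omega) (by omega)
  rcases Nat.lt_or_ge p 9504 with h | h
  · exact SQ.allR_spec passC_5 p (by omega) (by omega)
  rcases Nat.lt_or_ge p 11088 with h | h
  · exact SQ.allR_spec passC_6 p (by omega) (by omega)
  rcases Nat.lt_or_ge p 12672 with h | h
  · exact SQ.allR_spec passC_7 p (by omega) (by omega)
  rcases Nat.lt_or_ge p 14256 with h | h
  · exact SQ.allR_spec passC_8 p (by omega) (by omega)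
  rcases Nat.lt_or_ge p 15840 with h | h
  · exact SQ.allR_spec passC_9 p (by omega) (by omega)
  rcases Nat.lt_or_ge p 17424 with h | h
  · exact SQ.allR_spec passC_10 p (by omega) (by omega)
  rcases Nat.lt_or_ge p 19008 with h | h
  · exact SQ.allR_spec passC_11 p (by omega) (by omega)
  rcases Nat.lt_or_ge p 20592 with h | h
  · exact SQ.allR_spec passC_12 p (by omega) (by omega)
  rcases Nat.lt_or_ge p 22176 with h | h
  · exact SQ.allR_spec passC_13 p (by omega) (by omega)
  rcases Nat.lt_or_ge p 23760 with h | h
  · exact SQ.allR_spec passC_14 p (by omega) (by omega)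
  rcases Nat.lt_or_ge p 25344 with h | h
  · exact SQ.allR_spec passC_15 p (by omega) (by omega)
  rcases Nat.lt_or_ge p 26928 with h | h
  · exact SQ.allR_spec passC_16 p (by omega) (by omega)
  rcases Nat.lt_or_ge p 28512 with h | h
  · exact SQ.allR_spec passC_17 p (by omega) (by omega)
  rcases Nat.lt_or_ge p 30096 with h | h
  · exact SQ.allR_spec passC_18 p (by omega) (by omega)
  exact SQ.allR_spec passC_19 p (by omega) (by omega)

theorem testQ_0 : SQ.allR 0 1584 (fun p => !(testQ p) || Nat.beq p 3159) = true := by decide +kernel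
theorem testQ_1 : SQ.allR 1584 1584 (fun p => !(testQ p) || Nat.beq p 3159) = true := by decide +kernel
theorem testQ_2 : SQ.allR 3168 1584 (fun p => !(testQ p) || Nat.beq p 3159) = true := by decide +kernel
theorem testQ_3 : SQ.allR 4752 1584 (fun p => !(testQ p) || Nat.beq p 3159) = true := by decide +kernel
theorem testQ_4 : SQ.allR 6336 1584 (fun p => !(testQ p) || Nat.beq p 3159) = true := by decide +kernel
theorem testQ_5 : SQ.allR 7920 1584 (fun p => !(testQ p) || Nat.beq p 3159) = true := by decide +kernel
theorem testQ_6 : SQ.allR 9504 1584 (fun p => !(testQ p) || Nat.beq p 3159) = true := by decide +kernel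
theorem testQ_7 : SQ.allR 11088 1584 (fun p => !(testQ p) || Nat.beq p 3159) = true := by decide +kernel
theorem testQ_8 : SQ.allR 12672 1584 (fun p => !(testQ p) || Nat.beq p 3159) = true := by decide +kernel
theorem testQ_9 : SQ.allR 14256 1584 (fun p => !(testQ p) || Nat.beq p 3159) = true := by decide +kernel
theorem testQ_10 : SQ.allR 15840 1584 (fun p => !(testQ p) || Nat.beq p 3159) = true := by decide +kernel
theorem testQ_11 : SQ.allR 17424 1584 (fun p => !(testQ p) || Nat.beq p 3159) = true := by decide +kernel
theorem testQ_12 : SQ.allR 19008 1584 (fun p => !(testQ p) || Nat.beq p 3159) = true := by decide +kernel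
theorem testQ_13 : SQ.allR 20592 1584 (fun p => !(testQ p) || Nat.beq p 3159) = true := by decide +kernel
theorem testQ_14 : SQ.allR 22176 1584 (fun p => !(testQ p) || Nat.beq p 3159) = true := by decide +kernel
theorem testQ_15 : SQ.allR 23760 1584 (fun p => !(testQ p) || Nat.beq p 3159) = true := by decide +kernel
theorem testQ_16 : SQ.allR 25344 1584 (fun p => !(testQ p) || Nat.beq p 3159) = true := by decide +kernel
theorem testQ_17 : SQ.allR 26928 1584 (fun p => !(testQ p) || Nat.beq p 3159) = true := by decide +kernel
theorem testQ_18 : SQ.allR 28512 1584 (fun p => !(testQ p) || Nat.beq p 3159) = true := by decide +kernel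
theorem testQ_19 : SQ.allR 30096 1575 (fun p => !(testQ p) || Nat.beq p 3159) = true := by decide +kernel
theorem testQ_all : ∀ p, p < 31671 → (!(testQ p) || Nat.beq p 3159) = true := by
  intro p hp
  rcases Nat.lt_or_ge p 1584 with h | h
  · exact SQ.allR_spec testQ_0 p (by omega) (by omega)
  rcases Nat.lt_or_ge p 3168 with h | h
  · exact SQ.allR_spec testQ_1 p (by omega) (by omega)
  rcases Nat.lt_or_ge p 4752 with h | h
  · exact SQ.allR_spec testQ_2 p (by omega) (by omega)
  rcases Nat.lt_or_ge p 6336 with h | h
  · exact SQ.allR_spec testQ_3 p (by omega) (by omega)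
  rcases Nat.lt_or_ge p 7920 with h | h
  · exact SQ.allR_spec testQ_4 p (by omega) (by omega)
  rcases Nat.lt_or_ge p 9504 with h | h
  · exact SQ.allR_spec testQ_5 p (by omega) (by omega)
  rcases Nat.lt_or_ge p 11088 with h | h
  · exact SQ.allR_spec testQ_6 p (by omega) (by omega)
  rcases Nat.lt_or_ge p 12672 with h | h
  · exact SQ.allR_spec testQ_7 p (by omega) (by omega)
  rcases Nat.lt_or_ge p 14256 with h | h
  · exact SQ.allR_spec testQ_8 p (by omega) (by omega)
  rcases Nat.lt_or_ge p 15840 with h | h
  · exact SQ.allR_spec testQ_9 p (by omega) (by omega)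
  rcases Nat.lt_or_ge p 17424 with h | h
  · exact SQ.allR_spec testQ_10 p (by omega) (by omega)
  rcases Nat.lt_or_ge p 19008 with h | h
  · exact SQ.allR_spec testQ_11 p (by omega) (by omega)
  rcases Nat.lt_or_ge p 20592 with h | h
  · exact SQ.allR_spec testQ_12 p (by omega) (by omega)
  rcases Nat.lt_or_ge p 22176 with h | h
  · exact SQ.allR_spec testQ_13 p (by omega) (by omega)
  rcases Nat.lt_or_ge p 23760 with h | h
  · exact SQ.allR_spec testQ_14 p (by omega) (by omega)
  rcases Nat.lt_or_ge p 25344 with h | h
  · exact SQ.allR_spec testQ_15 p (by omega) (by omega)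
  rcases Nat.lt_or_ge p 26928 with h | h
  · exact SQ.allR_spec testQ_16 p (by omega) (by omega)
  rcases Nat.lt_or_ge p 28512 with h | h
  · exact SQ.allR_spec testQ_17 p (by omega) (by omega)
  rcases Nat.lt_or_ge p 30096 with h | h
  · exact SQ.allR_spec testQ_18 p (by omega) (by omega)
  exact SQ.allR_spec testQ_19 p (by omega) (by omega)


end Cfsg.Agent.Lib.Helper8.F3O
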