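import Cfsg.Agent.Lib.Helper8.F3O3

set_option autoImplicit false
set_option maxRecDepth 100000
set_option Elab.async false

/-! The Fischer group Fi23 on 31671 points: the checks for the automorphism group (generated). -/

namespace Cfsg.Agent.Lib.Helper8.F3O

theorem nu_ok_0 : SQ.allR 0 31671 (fun q => Nat.beq (u10 (u31 q)) (u31 (u10 (u10 (u10 (q)))))) = true := by decide +kernel
theorem nu_ok_all : ∀ q, q < 31671 → (Nat.beq (u10 (u31 q)) (u31 (u10 (u10 (u10 (q)))))) = true := by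
  intro q hp
  exact SQ.allR_spec nu_ok_0 q (by omega) (by omega)

theorem x_ord_0 : SQ.allR 0 15836 (fun q => Nat.beq (u10 (u10 (u10 (u10 (u10 (u10 (u10 (u10 (u10 (u10 (u10 (u10 (u10 (u10 (u10 (u10 (u10 (q)))))))))))))))))) q) = true := by decide +kernel
theorem x_ord_1 : SQ.allR 15836 15835 (fun q => Nat.beq (u10 (u10 (u10 (u10 (u10 (u10 (u10 (u10 (u10 (u10 (u10 (u10 (u10 (u10 (u10 (u10 (u10 (q)))))))))))))))))) q) = true := by decide +kernel
theorem x_ord_all : ∀ q, q < 31671 → (Nat.beq (u10 (u10 (u10 (u10 (u10 (u10 (u10 (u10 (u10 (u10 (u10 (u10 (u10 (u10 (u10 (u10 (u10 (q)))))))))))))))))) q) = true := by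
  intro q hp
  rcases Nat.lt_or_ge q 15836 with h | h
  · exact SQ.allR_spec x_ord_0 q (by omega) (by omega)
  exact SQ.allR_spec x_ord_1 q (by omega) (by omega)

theorem x_ne : u10 2 = 3665 := by decide +kernel
theorem zt_comm_0 : SQ.allR 0 31671 (fun q => Nat.beq (u43 (u32 q)) (u32 (u43 q))) = true := by decide +kernel
theorem zt_comm_all : ∀ q, q < 31671 → (Nat.beq (u43 (u32 q)) (u32 (u43 q))) = true := by
  intro q hp
  exact SQ.allR_spec zt_comm_0 q (by omega) (by omega)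

theorem rel_0_0 : SQ.allR 0 15836 (fun q => Nat.beq (u10 (u43 (u10 (u43 (u10 (u43 (u10 (u43 (u10 (u43 (u10 (u43 (u10 (u43 (u10 (u43 (u10 (u43 (u10 (u43 (q))))))))))))))))))))) q) = true := by decide +kernel
theorem rel_0_1 : SQ.allR 15836 15835 (fun q => Nat.beq (u10 (u43 (u10 (u43 (u10 (u43 (u10 (u43 (u10 (u43 (u10 (u43 (u10 (u43 (u10 (u43 (u10 (u43 (u10 (u43 (q))))))))))))))))))))) q) = true := by decide +kernel
theorem rel_0_all : ∀ q, q < 31671 → (Nat.beq (u10 (u43 (u10 (u43 (u10 (u43 (u10 (u43 (u10 (u43 (u10 (u43 (u10 (u43 (u10 (u43 (u10 (u43 (u10 (u43 (q))))))))))))))))))))) q) = true := by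
  intro q hp
  rcases Nat.lt_or_ge q 15836 with h | h
  · exact SQ.allR_spec rel_0_0 q (by omega) (by omega)
  exact SQ.allR_spec rel_0_1 q (by omega) (by omega)

theorem rel_1_0 : SQ.allR 0 6335 (fun q => Nat.beq (u10 (u10 (u31 (u43 (u10 (u10 (u31 (u43 (u10 (u10 (u31 (u43 (u10 (u10 (u31 (u43 (u10 (u10 (u31 (u43 (u10 (u10 (u31 (u43 (u10 (u10 (u31 (u43 (u10 (u10 (u31 (u43 (u10 (u10 (u31 (u43 (u10 (u10 (u31 (u43 (u10 (u10 (u31 (u43 (u10 (u10 (u31 (u43 (u10 (u10 (u31 (u43 (u10 (u10 (u31 (u43 (q))))))))))))))))))))))))))))))))))))))))))))))))))))))))) q) = true := by decide +kernel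
theorem rel_1_1 : SQ.allR 6335 6335 (fun q => Nat.beq (u10 (u10 (u31 (u43 (u10 (u10 (u31 (u43 (u10 (u10 (u31 (u43 (u10 (u10 (u31 (u43 (u10 (u10 (u31 (u43 (u10 (u10 (u31 (u43 (u10 (u10 (u31 (u43 (u10 (u10 (u31 (u43 (u10 (u10 (u31 (u43 (u10 (u10 (u31 (u43 (u10 (u10 (u31 (u43 (u10 (u10 (u31 (u43 (u10 (u10 (u31 (u43 (u10 (u10 (u31 (u43 (q))))))))))))))))))))))))))))))))))))))))))))))))))))))))) q) = true := by decide +kernel
theorem rel_1_2 : SQ.allR 12670 6335 (fun q => Nat.beq (u10 (u10 (u31 (u43 (u10 (u10 (u31 (u43 (u10 (u10 (u31 (u43 (u10 (u10 (u31 (u43 (u10 (u10 (u31 (u43 (u10 (u10 (u31 (u43 (u10 (u10 (u31 (u43 (u10 (u10 (u31 (u43 (u10 (u10 (u31 (u43 (u10 (u10 (u31 (u43 (u10 (u10 (u31 (u43 (u10 (u10 (u31 (u43 (u10 (u10 (u31 (u43 (u10 (u10 (u31 (u43 (q))))))))))))))))))))))))))))))))))))))))))))))))))))))))) q) = true := by decide +kernel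
theorem rel_1_3 : SQ.allR 19005 6335 (fun q => Nat.beq (u10 (u10 (u31 (u43 (u10 (u10 (u31 (u43 (u10 (u10 (u31 (u43 (u10 (u10 (u31 (u43 (u10 (u10 (u31 (u43 (u10 (u10 (u31 (u43 (u10 (u10 (u31 (u43 (u10 (u10 (u31 (u43 (u10 (u10 (u31 (u43 (u10 (u10 (u31 (u43 (u10 (u10 (u31 (u43 (u10 (u10 (u31 (u43 (u10 (u10 (u31 (u43 (u10 (u10 (u31 (u43 (q))))))))))))))))))))))))))))))))))))))))))))))))))))))))) q) = true := by decide +kernel
theorem rel_1_4 : SQ.allR 25340 6331 (fun q => Nat.beq (u10 (u10 (u31 (u43 (u10 (u10 (u31 (u43 (u10 (u10 (u31 (u43 (u10 (u10 (u31 (u43 (u10 (u10 (u31 (u43 (u10 (u10 (u31 (u43 (u10 (u10 (u31 (u43 (u10 (u10 (u31 (u43 (u10 (u10 (u31 (u43 (u10 (u10 (u31 (u43 (u10 (u10 (u31 (u43 (u10 (u10 (u31 (u43 (u10 (u10 (u31 (u43 (u10 (u10 (u31 (u43 (q))))))))))))))))))))))))))))))))))))))))))))))))))))))))) q) = true := by decide +kernel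
theorem rel_1_all : ∀ q, q < 31671 → (Nat.beq (u10 (u10 (u31 (u43 (u10 (u10 (u31 (u43 (u10 (u10 (u31 (u43 (u10 (u10 (u31 (u43 (u10 (u10 (u31 (u43 (u10 (u10 (u31 (u43 (u10 (u10 (u31 (u43 (u10 (u10 (u31 (u43 (u10 (u10 (u31 (u43 (u10 (u10 (u31 (u43 (u10 (u10 (u31 (u43 (u10 (u10 (u31 (u43 (u10 (u10 (u31 (u43 (u10 (u10 (u31 (u43 (q))))))))))))))))))))))))))))))))))))))))))))))))))))))))) q) = true := by
  intro q hp
  rcases Nat.lt_or_ge q 6335 with h | h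
  · exact SQ.allR_spec rel_1_0 q (by omega) (by omega)
  rcases Nat.lt_or_ge q 12670 with h | h
  · exact SQ.allR_spec rel_1_1 q (by omega) (by omega)
  rcases Nat.lt_or_ge q 19005 with h | h
  · exact SQ.allR_spec rel_1_2 q (by omega) (by omega)
  rcases Nat.lt_or_ge q 25340 with h | h
  · exact SQ.allR_spec rel_1_3 q (by omega) (by omega)
  exact SQ.allR_spec rel_1_4 q (by omega) (by omega)

theorem z_pz : u43 3159 = 2 := by decide +kernel
theorem xorb_eq : SQ.iterL u10 17 2 = [2, 3665, 3817, 8, 3528, 3526, 3588, 3747, 376, 1168, 1825, 750, 144, 3575, 3549, 3568, 3546] := by decide +kernel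
theorem baseX : LsX.map (fun L => L.b) = SQ.iterL u10 8 2 := by decide +kernel
theorem baseZ : LsZ.map (fun L => L.b) = SQ.iterL u32 6 2 := by decide +kernel

end Cfsg.Agent.Lib.Helper8.F3O
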