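import Cfsg.Agent.S1697
import Cfsg.Agent.Lib.Helper8.F3O2
import Cfsg.Agent.Lib.Helper8.F3O3

set_option autoImplicit false
set_option maxRecDepth 100000

/-! The Fischer group Fi23 on 31671 points: the tables are realised by group elements; the two verified chains; generation (generated). -/

namespace Cfsg.Agent.Lib.Helper8.F3O

open Cfsg.Spor Cfsg.Agent.Lib.Helper4.TC Cfsg.Agent.Lib.Helper4.TCD Cfsg.Agent.Lib.Helper4.TC.Log

theorem gen_0 : SQ.allB 31671 (fun i => Nat.beq (u0 i) (Tab.act Fi23a.T Fi23a.D [0] i)) = true := by decide +kernel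
theorem gen_1 : SQ.allB 31671 (fun i => Nat.beq (u1 i) (Tab.act Fi23a.T Fi23a.D [1] i)) = true := by decide +kernel
theorem gen_2 : SQ.allB 31671 (fun i => Nat.beq (u2 i) (Tab.act Fi23a.T Fi23a.D [2] i)) = true := by decide +kernel
theorem gen_3 : SQ.allB 31671 (fun i => Nat.beq (u3 i) (Tab.act Fi23a.T Fi23a.D [3] i)) = true := by decide +kernel
theorem gen_4 : SQ.allB 31671 (fun i => Nat.beq (u4 i) (Tab.act Fi23a.T Fi23a.D [4] i)) = true := by decide +kernel
theorem gen_5 : SQ.allB 31671 (fun i => Nat.beq (u5 i) (Tab.act Fi23a.T Fi23a.D [5] i)) = true := by decide +kernel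
theorem gen_6 : SQ.allB 31671 (fun i => Nat.beq (u6 i) (Tab.act Fi23a.T Fi23a.D [6] i)) = true := by decide +kernel
theorem gen_7 : SQ.allB 31671 (fun i => Nat.beq (u7 i) (Tab.act Fi23a.T Fi23a.D [7] i)) = true := by decide +kernel
theorem gen_8 : SQ.allB 31671 (fun i => Nat.beq (u8 i) (Tab.act Fi23a.T Fi23a.D [8] i)) = true := by decide +kernel
theorem gen_9 : SQ.allB 31671 (fun i => Nat.beq (u9 i) (Tab.act Fi23a.T Fi23a.D [9] i)) = true := by decide +kernel

/-- the presented group -/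
abbrev Gp : Type := PFi23.P.Grp

/-- the action on the 31671 points -/
noncomputable def φ : Gp →* Equiv.Perm (Fin 31671) := Fi23a.inst.phi

theorem finGp : Finite Gp := Cfsg.Agent.S1697.order_aux.1

theorem cardGp : Nat.card Gp = 4089470473293004800 := Cfsg.Agent.S1697.order_aux.2.2

theorem φ_inj : Function.Injective φ := Cfsg.Agent.S1697.order_aux.2.1

theorem φ_word (w : List ℕ) (hw : ∀ y ∈ w, y < 10) (x : Fin 31671) :
    (φ (wordP PFi23.P.gR w) x).1 = Tab.act Fi23a.T Fi23a.D w x.1 := by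
  show (Fi23a.inst.phi (wordP PFi23.P.gR w) x).1 = Tab.act Fi23a.T Fi23a.D w x.1
  rw [← Fi23a.inst.gE_word w hw]
  exact Fi23a.inst.hC.phi_word Fi23a.inst.phi Fi23a.inst.hphi w
    (fun y hy => by rw [Fi23a.inst.hk]; exact hw y hy) x

/-- the permutation group on the 31671 points -/
noncomputable abbrev Kp : Subgroup (Equiv.Perm (Fin 31671)) := φ.range

theorem ub_act (k : ℕ) (hk : k < 10) (i : ℕ) (hi : i < 31671) :
    ub k i = Tab.act Fi23a.T Fi23a.D [k] i := by
  interval_cases k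
  · exact Nat.eq_of_beq_eq_true (SQ.allB_spec gen_0 i hi)
  · exact Nat.eq_of_beq_eq_true (SQ.allB_spec gen_1 i hi)
  · exact Nat.eq_of_beq_eq_true (SQ.allB_spec gen_2 i hi)
  · exact Nat.eq_of_beq_eq_true (SQ.allB_spec gen_3 i hi)
  · exact Nat.eq_of_beq_eq_true (SQ.allB_spec gen_4 i hi)
  · exact Nat.eq_of_beq_eq_true (SQ.allB_spec gen_5 i hi)
  · exact Nat.eq_of_beq_eq_true (SQ.allB_spec gen_6 i hi)
  · exact Nat.eq_of_beq_eq_true (SQ.allB_spec gen_7 i hi)
  · exact Nat.eq_of_beq_eq_true (SQ.allB_spec gen_8 i hi)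
  · exact Nat.eq_of_beq_eq_true (SQ.allB_spec gen_9 i hi)

/-- the action of a word in the generators -/
def actU (w : List ℕ) (i : ℕ) : ℕ := w.foldr (fun k acc => ub k acc) i

theorem actU_cons (k : ℕ) (w : List ℕ) (i : ℕ) : actU (k :: w) i = ub k (actU w i) := rfl

theorem act_lt (w : List ℕ) (hw : ∀ y ∈ w, y < 10) (i : ℕ) (hi : i < 31671) :
    Tab.act Fi23a.T Fi23a.D w i < 31671 := by
  have := φ_word w hw ⟨i, hi⟩
  show Tab.act Fi23a.T Fi23a.D w (⟨i, hi⟩ : Fin 31671).1 < 31671
  rw [← this]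
  exact (φ (wordP PFi23.P.gR w) ⟨i, hi⟩).2

theorem act_eq (w : List ℕ) (hw : ∀ y ∈ w, y < 10) (i : ℕ) (hi : i < 31671) :
    Tab.act Fi23a.T Fi23a.D w i = actU w i := by
  induction w with
  | nil => rfl
  | cons k w ih =>
    have hw' : ∀ y ∈ w, y < 10 := fun y hy => hw y (List.mem_cons_of_mem _ hy)
    have e : Tab.act Fi23a.T Fi23a.D (k :: w) i =
        Tab.act Fi23a.T Fi23a.D [k] (Tab.act Fi23a.T Fi23a.D w i) := rfl
    rw [e, ← ub_act k (hw k List.mem_cons_self) _ (act_lt w hw' i hi), ih hw', actU_cons]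

theorem gN_word (w : List ℕ) (hw : ∀ y ∈ w, y < 10) (i : ℕ) (hi : i < 31671) :
    SQ.gN (φ (wordP PFi23.P.gR w)) i = actU w i := by
  rw [SQ.gN_of_lt _ hi, ← act_eq w hw i hi]
  exact φ_word w hw ⟨i, hi⟩

theorem real_gen (k : ℕ) (hk : k < 10) : SQ.Real Kp (ub k) := by
  refine ⟨φ (wordP PFi23.P.gR [k]), ⟨_, rfl⟩, fun i hi => ?_⟩
  rw [gN_word [k] (by intro y hy; rw [List.mem_singleton] at hy; omega) i hi]
  rfl

theorem real_0 : SQ.Real Kp u0 := real_gen 0 (by decide)
theorem real_1 : SQ.Real Kp u1 := real_gen 1 (by decide)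
theorem real_2 : SQ.Real Kp u2 := real_gen 2 (by decide)
theorem real_3 : SQ.Real Kp u3 := real_gen 3 (by decide)
theorem real_4 : SQ.Real Kp u4 := real_gen 4 (by decide)
theorem real_5 : SQ.Real Kp u5 := real_gen 5 (by decide)
theorem real_6 : SQ.Real Kp u6 := real_gen 6 (by decide)
theorem real_7 : SQ.Real Kp u7 := real_gen 7 (by decide)
theorem real_8 : SQ.Real Kp u8 := real_gen 8 (by decide)
theorem real_9 : SQ.Real Kp u9 := real_gen 9 (by decide)

theorem real_10 : SQ.Real Kp u10 :=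
  SQ.real_of_eq (fL := fun x => u5 (u6 (u9 (u7 (u1 (u4 (u1 (u9 (u3 (u1 (u0 (u4 (u8 (u2 (u4 (x)))))))))))))))) (fR := fun x => x)
    ((real_5).comp ((real_6).comp ((real_9).comp ((real_7).comp ((real_1).comp ((real_4).comp ((real_1).comp ((real_9).comp ((real_3).comp ((real_1).comp ((real_0).comp ((real_4).comp ((real_8).comp ((real_2).comp (real_4)))))))))))))))
    (SQ.real_id)
    (fun x hx => Nat.eq_of_beq_eq_true (cert_10_all x hx))
theorem real_11 : SQ.Real Kp u11 :=
  SQ.real_of_eq (fL := fun x => u10 (u10 (x))) (fR := fun x => x)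
    ((real_10).comp (real_10))
    (SQ.real_id)
    (fun x hx => Nat.eq_of_beq_eq_true (cert_11_all x hx))
theorem real_12 : SQ.Real Kp u12 :=
  SQ.real_of_eq (fL := fun x => u11 (u11 (x))) (fR := fun x => x)
    ((real_11).comp (real_11))
    (SQ.real_id)
    (fun x hx => Nat.eq_of_beq_eq_true (cert_12_all x hx))
theorem real_13 : SQ.Real Kp u13 :=
  SQ.real_of_eq (fL := fun x => u12 (u12 (x))) (fR := fun x => x)
    ((real_12).comp (real_12))
    (SQ.real_id)
    (fun x hx => Nat.eq_of_beq_eq_true (cert_13_all x hx))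
theorem real_14 : SQ.Real Kp u14 :=
  SQ.real_of_eq (fL := fun x => u13 (u13 (x))) (fR := fun x => x)
    ((real_13).comp (real_13))
    (SQ.real_id)
    (fun x hx => Nat.eq_of_beq_eq_true (cert_14_all x hx))
theorem real_15 : SQ.Real Kp u15 :=
  SQ.real_of_eq (fL := fun x => u14 (u14 (x))) (fR := fun x => x)
    ((real_14).comp (real_14))
    (SQ.real_id)
    (fun x hx => Nat.eq_of_beq_eq_true (cert_15_all x hx))
theorem real_16 : SQ.Real Kp u16 :=
  SQ.real_of_eq (fL := fun x => u15 (u15 (x))) (fR := fun x => x)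
    ((real_15).comp (real_15))
    (SQ.real_id)
    (fun x hx => Nat.eq_of_beq_eq_true (cert_16_all x hx))
theorem real_17 : SQ.Real Kp u17 :=
  SQ.real_of_eq (fL := fun x => u16 (u16 (x))) (fR := fun x => x)
    ((real_16).comp (real_16))
    (SQ.real_id)
    (fun x hx => Nat.eq_of_beq_eq_true (cert_17_all x hx))
theorem real_18 : SQ.Real Kp u18 :=
  SQ.real_of_eq (fL := fun x => u7 (u6 (u9 (u16 (u4 (u9 (u16 (u2 (x))))))))) (fR := fun x => u9 (u12 (u9 (u12 (u1 (u8 (x)))))))
    ((real_7).comp ((real_6).comp ((real_9).comp ((real_16).comp ((real_4).comp ((real_9).comp ((real_16).comp (real_2))))))))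
    ((real_9).comp ((real_12).comp ((real_9).comp ((real_12).comp ((real_1).comp (real_8))))))
    (fun x hx => Nat.eq_of_beq_eq_true (cert_18_all x hx))
theorem real_19 : SQ.Real Kp u19 :=
  SQ.real_of_eq (fL := fun x => u9 (u16 (u1 (u9 (u13 (u5 (u12 (x)))))))) (fR := fun x => u9 (u8 (u16 (u9 (u16 (u7 (u16 (x))))))))
    ((real_9).comp ((real_16).comp ((real_1).comp ((real_9).comp ((real_13).comp ((real_5).comp (real_12)))))))
    ((real_9).comp ((real_8).comp ((real_16).comp ((real_9).comp ((real_16).comp ((real_7).comp (real_16)))))))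
    (fun x hx => Nat.eq_of_beq_eq_true (cert_19_all x hx))
theorem real_20 : SQ.Real Kp u20 :=
  SQ.real_of_eq (fL := fun x => u18 (u19 (u19 (u19 (u19 (u19 (u18 (u18 (u18 (u19 (u19 (u19 (u18 (x)))))))))))))) (fR := fun x => u18 (u19 (u18 (u18 (u18 (u19 (u18 (u19 (u18 (u19 (x)))))))))))
    ((real_18).comp ((real_19).comp ((real_19).comp ((real_19).comp ((real_19).comp ((real_19).comp ((real_18).comp ((real_18).comp ((real_18).comp ((real_19).comp ((real_19).comp ((real_19).comp (real_18)))))))))))))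
    ((real_18).comp ((real_19).comp ((real_18).comp ((real_18).comp ((real_18).comp ((real_19).comp ((real_18).comp ((real_19).comp ((real_18).comp (real_19))))))))))
    (fun x hx => Nat.eq_of_beq_eq_true (cert_20_all x hx))
theorem real_21 : SQ.Real Kp u21 :=
  SQ.real_of_eq (fL := fun x => u18 (u19 (u18 (u18 (u19 (u18 (u18 (u18 (u19 (u18 (u18 (u1 (u11 (u3 (u9 (u0 (x))))))))))))))))) (fR := fun x => u1 (u11 (u3 (u9 (x)))))
    ((real_18).comp ((real_19).comp ((real_18).comp ((real_18).comp ((real_19).comp ((real_18).comp ((real_18).comp ((real_18).comp ((real_19).comp ((real_18).comp ((real_18).comp ((real_1).comp ((real_11).comp ((real_3).comp ((real_9).comp (real_0))))))))))))))))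
    ((real_1).comp ((real_11).comp ((real_3).comp (real_9))))
    (fun x hx => Nat.eq_of_beq_eq_true (cert_21_all x hx))
theorem real_22 : SQ.Real Kp u22 :=
  SQ.real_of_eq (fL := fun x => u20 (u20 (u20 (u21 (u20 (u20 (u20 (u21 (u21 (u21 (u21 (u18 (u18 (u19 (u19 (u18 (u18 (u18 (u21 (u18 (x))))))))))))))))))))) (fR := fun x => u19 (u19 (u19 (u21 (u21 (u19 (u19 (u19 (x)))))))))
    ((real_20).comp ((real_20).comp ((real_20).comp ((real_21).comp ((real_20).comp ((real_20).comp ((real_20).comp ((real_21).comp ((real_21).comp ((real_21).comp ((real_21).comp ((real_18).comp ((real_18).comp ((real_19).comp ((real_19).comp ((real_18).comp ((real_18).comp ((real_18).comp ((real_21).comp (real_18))))))))))))))))))))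
    ((real_19).comp ((real_19).comp ((real_19).comp ((real_21).comp ((real_21).comp ((real_19).comp ((real_19).comp (real_19))))))))
    (fun x hx => Nat.eq_of_beq_eq_true (cert_22_all x hx))
theorem real_23 : SQ.Real Kp u23 :=
  SQ.real_of_eq (fL := fun x => u20 (u21 (u22 (u22 (u21 (u21 (u22 (u22 (x))))))))) (fR := fun x => u20 (u21 (u22 (u20 (u22 (u21 (u20 (x))))))))
    ((real_20).comp ((real_21).comp ((real_22).comp ((real_22).comp ((real_21).comp ((real_21).comp ((real_22).comp (real_22))))))))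
    ((real_20).comp ((real_21).comp ((real_22).comp ((real_20).comp ((real_22).comp ((real_21).comp (real_20)))))))
    (fun x hx => Nat.eq_of_beq_eq_true (cert_23_all x hx))
theorem real_24 : SQ.Real Kp u24 :=
  SQ.real_of_eq (fL := fun x => u22 (u23 (u22 (u22 (u22 (u23 (u22 (u22 (u22 (u20 (u20 (u21 (u20 (u21 (u22 (u20 (u21 (u18 (u18 (u18 (u19 (u21 (u21 (u19 (u19 (u2 (u9 (u15 (u2 (u16 (u9 (x)))))))))))))))))))))))))))))))) (fR := fun x => u9 (u11 (u2 (u17 (u2 (x))))))
    ((real_22).comp ((real_23).comp ((real_22).comp ((real_22).comp ((real_22).comp ((real_23).comp ((real_22).comp ((real_22).comp ((real_22).comp ((real_20).comp ((real_20).comp ((real_21).comp ((real_20).comp ((real_21).comp ((real_22).comp ((real_20).comp ((real_21).comp ((real_18).comp ((real_18).comp ((real_18).comp ((real_19).comp ((real_21).comp ((real_21).comp ((real_19).comp ((real_19).comp ((real_2).comp ((real_9).comp ((real_15).comp ((real_2).comp ((real_16).comp (real_9)))))))))))))))))))))))))))))))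
    ((real_9).comp ((real_11).comp ((real_2).comp ((real_17).comp (real_2)))))
    (fun x hx => Nat.eq_of_beq_eq_true (cert_24_all x hx))
theorem real_25 : SQ.Real Kp u25 :=
  SQ.real_of_eq (fL := fun x => u22 (u24 (u22 (u23 (u23 (u24 (u20 (u24 (u22 (u22 (u20 (u24 (u24 (u18 (u19 (u24 (u21 (u18 (u18 (u1 (u9 (u13 (u0 (u9 (u12 (u5 (u10 (x)))))))))))))))))))))))))))) (fR := fun x => u0 (u9 (u16 (u1 (u9 (u17 (u9 (x))))))))
    ((real_22).comp ((real_24).comp ((real_22).comp ((real_23).comp ((real_23).comp ((real_24).comp ((real_20).comp ((real_24).comp ((real_22).comp ((real_22).comp ((real_20).comp ((real_24).comp ((real_24).comp ((real_18).comp ((real_19).comp ((real_24).comp ((real_21).comp ((real_18).comp ((real_18).comp ((real_1).comp ((real_9).comp ((real_13).comp ((real_0).comp ((real_9).comp ((real_12).comp ((real_5).comp (real_10)))))))))))))))))))))))))))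
    ((real_0).comp ((real_9).comp ((real_16).comp ((real_1).comp ((real_9).comp ((real_17).comp (real_9)))))))
    (fun x hx => Nat.eq_of_beq_eq_true (cert_25_all x hx))
theorem real_26 : SQ.Real Kp u26 :=
  SQ.real_of_eq (fL := fun x => u24 (u25 (u24 (u24 (u25 (u24 (u24 (u23 (u22 (u23 (u22 (u25 (u20 (u20 (u21 (u24 (u22 (u21 (u22 (u25 (x))))))))))))))))))))) (fR := fun x => u21 (u25 (u24 (u21 (u22 (x))))))
    ((real_24).comp ((real_25).comp ((real_24).comp ((real_24).comp ((real_25).comp ((real_24).comp ((real_24).comp ((real_23).comp ((real_22).comp ((real_23).comp ((real_22).comp ((real_25).comp ((real_20).comp ((real_20).comp ((real_21).comp ((real_24).comp ((real_22).comp ((real_21).comp ((real_22).comp (real_25))))))))))))))))))))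
    ((real_21).comp ((real_25).comp ((real_24).comp ((real_21).comp (real_22)))))
    (fun x hx => Nat.eq_of_beq_eq_true (cert_26_all x hx))
theorem real_27 : SQ.Real Kp u27 :=
  SQ.real_of_eq (fL := fun x => u24 (u25 (u25 (u25 (u25 (u22 (u23 (u22 (u22 (u22 (u22 (x)))))))))))) (fR := fun x => u23 (u26 (u22 (u25 (x)))))
    ((real_24).comp ((real_25).comp ((real_25).comp ((real_25).comp ((real_25).comp ((real_22).comp ((real_23).comp ((real_22).comp ((real_22).comp ((real_22).comp (real_22)))))))))))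
    ((real_23).comp ((real_26).comp ((real_22).comp (real_25))))
    (fun x hx => Nat.eq_of_beq_eq_true (cert_27_all x hx))
theorem real_28 : SQ.Real Kp u28 :=
  SQ.real_of_eq (fL := fun x => u26 (u27 (u27 (u26 (u27 (u27 (u24 (u25 (u26 (u26 (u22 (u23 (u22 (u22 (u22 (u25 (x))))))))))))))))) (fR := fun x => u22 (u22 (u23 (u26 (x)))))
    ((real_26).comp ((real_27).comp ((real_27).comp ((real_26).comp ((real_27).comp ((real_27).comp ((real_24).comp ((real_25).comp ((real_26).comp ((real_26).comp ((real_22).comp ((real_23).comp ((real_22).comp ((real_22).comp ((real_22).comp (real_25))))))))))))))))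
    ((real_22).comp ((real_22).comp ((real_23).comp (real_26))))
    (fun x hx => Nat.eq_of_beq_eq_true (cert_28_all x hx))
theorem real_29 : SQ.Real Kp u29 :=
  SQ.real_of_eq (fL := fun x => u26 (u27 (u28 (u27 (u25 (u24 (u27 (u27 (u22 (u26 (u24 (u25 (u24 (u23 (x))))))))))))))) (fR := fun x => u22 (u22 (u23 (u26 (u24 (x))))))
    ((real_26).comp ((real_27).comp ((real_28).comp ((real_27).comp ((real_25).comp ((real_24).comp ((real_27).comp ((real_27).comp ((real_22).comp ((real_26).comp ((real_24).comp ((real_25).comp ((real_24).comp (real_23))))))))))))))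
    ((real_22).comp ((real_22).comp ((real_23).comp ((real_26).comp (real_24)))))
    (fun x hx => Nat.eq_of_beq_eq_true (cert_29_all x hx))
theorem real_30 : SQ.Real Kp u30 :=
  SQ.real_of_eq (fL := fun x => u29 (u28 (u26 (u27 (u29 (u26 (u25 (u24 (u29 (u22 (u25 (u23 (u24 (u20 (u25 (u21 (u21 (u25 (u25 (u18 (u25 (u18 (u21 (u18 (u18 (u7 (u9 (u17 (u0 (u6 (u9 (u16 (x))))))))))))))))))))))))))))))))) (fR := fun x => u1 (u15 (u9 (u16 (u9 (u10 (x)))))))
    ((real_29).comp ((real_28).comp ((real_26).comp ((real_27).comp ((real_29).comp ((real_26).comp ((real_25).comp ((real_24).comp ((real_29).comp ((real_22).comp ((real_25).comp ((real_23).comp ((real_24).comp ((real_20).comp ((real_25).comp ((real_21).comp ((real_21).comp ((real_25).comp ((real_25).comp ((real_18).comp ((real_25).comp ((real_18).comp ((real_21).comp ((real_18).comp ((real_18).comp ((real_7).comp ((real_9).comp ((real_17).comp ((real_0).comp ((real_6).comp ((real_9).comp (real_16))))))))))))))))))))))))))))))))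
    ((real_1).comp ((real_15).comp ((real_9).comp ((real_16).comp ((real_9).comp (real_10))))))
    (fun x hx => Nat.eq_of_beq_eq_true (cert_30_all x hx))
theorem real_31 : SQ.Real Kp u31 :=
  SQ.real_of_eq (fL := fun x => u10 (u10 (u10 (u10 (u10 (u10 (u10 (u10 (u10 (u10 (u30 (u26 (u26 (u29 (u25 (u24 (u24 (u23 (u26 (u26 (u30 (u23 (u20 (u22 (u24 (u24 (u20 (u18 (u21 (u19 (u21 (u25 (u21 (u9 (u13 (u2 (u9 (u12 (u0 (x)))))))))))))))))))))))))))))))))))))))) (fR := fun x => x)
    ((real_10).comp ((real_10).comp ((real_10).comp ((real_10).comp ((real_10).comp ((real_10).comp ((real_10).comp ((real_10).comp ((real_10).comp ((real_10).comp ((real_30).comp ((real_26).comp ((real_26).comp ((real_29).comp ((real_25).comp ((real_24).comp ((real_24).comp ((real_23).comp ((real_26).comp ((real_26).comp ((real_30).comp ((real_23).comp ((real_20).comp ((real_22).comp ((real_24).comp ((real_24).comp ((real_20).comp ((real_18).comp ((real_21).comp ((real_19).comp ((real_21).comp ((real_25).comp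 ((real_21).comp ((real_9).comp ((real_13).comp ((real_2).comp ((real_9).comp ((real_12).comp (real_0)))))))))))))))))))))))))))))))))))))))
    (SQ.real_id)
    (fun x hx => Nat.eq_of_beq_eq_true (cert_31_all x hx))
theorem real_32 : SQ.Real Kp u32 :=
  SQ.real_of_eq (fL := fun x => u31 (x)) (fR := fun x => x)
    (real_31)
    (SQ.real_id)
    (fun x hx => Nat.eq_of_beq_eq_true (cert_32_all x hx))
theorem real_33 : SQ.Real Kp u33 :=
  SQ.real_of_eq (fL := fun x => u7 (u6 (u9 (u16 (u4 (u9 (u16 (u2 (x))))))))) (fR := fun x => u9 (u12 (u9 (u12 (u1 (u8 (x)))))))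
    ((real_7).comp ((real_6).comp ((real_9).comp ((real_16).comp ((real_4).comp ((real_9).comp ((real_16).comp (real_2))))))))
    ((real_9).comp ((real_12).comp ((real_9).comp ((real_12).comp ((real_1).comp (real_8))))))
    (fun x hx => Nat.eq_of_beq_eq_true (cert_33_all x hx))
theorem real_34 : SQ.Real Kp u34 :=
  SQ.real_of_eq (fL := fun x => u33 (u33 (u33 (u33 (u33 (u33 (u33 (x)))))))) (fR := fun x => x)
    ((real_33).comp ((real_33).comp ((real_33).comp ((real_33).comp ((real_33).comp ((real_33).comp (real_33)))))))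
    (SQ.real_id)
    (fun x hx => Nat.eq_of_beq_eq_true (cert_34_all x hx))
theorem real_35 : SQ.Real Kp u35 :=
  SQ.real_of_eq (fL := fun x => u9 (u16 (u1 (u9 (u13 (u5 (u12 (x)))))))) (fR := fun x => u9 (u8 (u16 (u9 (u16 (u7 (u16 (x))))))))
    ((real_9).comp ((real_16).comp ((real_1).comp ((real_9).comp ((real_13).comp ((real_5).comp (real_12)))))))
    ((real_9).comp ((real_8).comp ((real_16).comp ((real_9).comp ((real_16).comp ((real_7).comp (real_16)))))))
    (fun x hx => Nat.eq_of_beq_eq_true (cert_35_all x hx))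
theorem real_36 : SQ.Real Kp u36 :=
  SQ.real_of_eq (fL := fun x => u33 (u33 (u33 (u35 (u33 (u33 (u35 (u35 (u35 (u33 (u35 (u33 (u35 (u35 (u33 (x)))))))))))))))) (fR := fun x => u33 (u33 (u33 (u33 (u33 (u33 (u35 (u33 (u33 (u35 (x)))))))))))
    ((real_33).comp ((real_33).comp ((real_33).comp ((real_35).comp ((real_33).comp ((real_33).comp ((real_35).comp ((real_35).comp ((real_35).comp ((real_33).comp ((real_35).comp ((real_33).comp ((real_35).comp ((real_35).comp (real_33)))))))))))))))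
    ((real_33).comp ((real_33).comp ((real_33).comp ((real_33).comp ((real_33).comp ((real_33).comp ((real_35).comp ((real_33).comp ((real_33).comp (real_35))))))))))
    (fun x hx => Nat.eq_of_beq_eq_true (cert_36_all x hx))
theorem real_37 : SQ.Real Kp u37 :=
  SQ.real_of_eq (fL := fun x => u34 (u36 (u36 (u36 (u34 (u36 (u36 (u36 (u36 (u34 (u36 (u36 (u36 (u34 (u36 (u36 (u36 (u36 (u34 (u36 (u36 (u36 (u35 (u35 (u35 (u35 (u35 (u35 (u33 (u35 (u33 (u35 (u33 (u33 (u35 (u1 (u9 (u12 (u3 (u5 (u17 (u9 (u17 (x)))))))))))))))))))))))))))))))))))))))))))) (fR := fun x => u9 (u16 (u5 (u9 (u15 (u3 (x)))))))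
    ((real_34).comp ((real_36).comp ((real_36).comp ((real_36).comp ((real_34).comp ((real_36).comp ((real_36).comp ((real_36).comp ((real_36).comp ((real_34).comp ((real_36).comp ((real_36).comp ((real_36).comp ((real_34).comp ((real_36).comp ((real_36).comp ((real_36).comp ((real_36).comp ((real_34).comp ((real_36).comp ((real_36).comp ((real_36).comp ((real_35).comp ((real_35).comp ((real_35).comp ((real_35).comp ((real_35).comp ((real_35).comp ((real_33).comp ((real_35).comp ((real_33).comp ((real_35).comp ((real_33).comp ((real_33).comp ((real_35).comp ((real_1).comp ((real_9).comp ((real_12).comp ((real_3).comp ((real_5).comp ((real_17).comp ((real_9).comp (real_17)))))))))))))))))))))))))))))))))))))))))))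
    ((real_9).comp ((real_16).comp ((real_5).comp ((real_9).comp ((real_15).comp (real_3))))))
    (fun x hx => Nat.eq_of_beq_eq_true (cert_37_all x hx))
theorem real_38 : SQ.Real Kp u38 :=
  SQ.real_of_eq (fL := fun x => u36 (u36 (u34 (u37 (u34 (u37 (u37 (u37 (u37 (u36 (u35 (u33 (u35 (u33 (u35 (u35 (u37 (u33 (u37 (u35 (u9 (u13 (u9 (u16 (u2 (u3 (u7 (u12 (x))))))))))))))))))))))))))))) (fR := fun x => u9 (u12 (u9 (u16 (u6 (u15 (u0 (x))))))))
    ((real_36).comp ((real_36).comp ((real_34).comp ((real_37).comp ((real_34).comp ((real_37).comp ((real_37).comp ((real_37).comp ((real_37).comp ((real_36).comp ((real_35).comp ((real_33).comp ((real_35).comp ((real_33).comp ((real_35).comp ((real_35).comp ((real_37).comp ((real_33).comp ((real_37).comp ((real_35).comp ((real_9).comp ((real_13).comp ((real_9).comp ((real_16).comp ((real_2).comp ((real_3).comp ((real_7).comp (real_12))))))))))))))))))))))))))))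
    ((real_9).comp ((real_12).comp ((real_9).comp ((real_16).comp ((real_6).comp ((real_15).comp (real_0)))))))
    (fun x hx => Nat.eq_of_beq_eq_true (cert_38_all x hx))
theorem real_39 : SQ.Real Kp u39 :=
  SQ.real_of_eq (fL := fun x => u36 (u37 (u36 (u38 (u34 (u37 (u37 (u34 (u33 (u38 (u38 (u37 (u33 (u33 (u38 (u33 (u33 (x)))))))))))))))))) (fR := fun x => u33 (u37 (u33 (u38 (u35 (u35 (u35 (u35 (x)))))))))
    ((real_36).comp ((real_37).comp ((real_36).comp ((real_38).comp ((real_34).comp ((real_37).comp ((real_37).comp ((real_34).comp ((real_33).comp ((real_38).comp ((real_38).comp ((real_37).comp ((real_33).comp ((real_33).comp ((real_38).comp ((real_33).comp (real_33)))))))))))))))))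
    ((real_33).comp ((real_37).comp ((real_33).comp ((real_38).comp ((real_35).comp ((real_35).comp ((real_35).comp (real_35))))))))
    (fun x hx => Nat.eq_of_beq_eq_true (cert_39_all x hx))
theorem real_40 : SQ.Real Kp u40 :=
  SQ.real_of_eq (fL := fun x => u39 (u37 (u37 (u38 (u37 (u38 (u37 (u39 (u34 (u37 (u39 (u38 (u38 (u36 (u39 (u33 (u37 (u37 (u35 (u38 (u37 (u37 (u38 (u33 (u38 (x)))))))))))))))))))))))))) (fR := fun x => u33 (u35 (u35 (u35 (u33 (u37 (u38 (u37 (u37 (x))))))))))
    ((real_39).comp ((real_37).comp ((real_37).comp ((real_38).comp ((real_37).comp ((real_38).comp ((real_37).comp ((real_39).comp ((real_34).comp ((real_37).comp ((real_39).comp ((real_38).comp ((real_38).comp ((real_36).comp ((real_39).comp ((real_33).comp ((real_37).comp ((real_37).comp ((real_35).comp ((real_38).comp ((real_37).comp ((real_37).comp ((real_38).comp ((real_33).comp (real_38)))))))))))))))))))))))))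
    ((real_33).comp ((real_35).comp ((real_35).comp ((real_35).comp ((real_33).comp ((real_37).comp ((real_38).comp ((real_37).comp (real_37)))))))))
    (fun x hx => Nat.eq_of_beq_eq_true (cert_40_all x hx))
theorem real_41 : SQ.Real Kp u41 :=
  SQ.real_of_eq (fL := fun x => u37 (u37 (u38 (u37 (u37 (u38 (u40 (u39 (u38 (x)))))))))) (fR := fun x => u38 (u37 (u38 (u37 (u37 (u39 (u37 (x))))))))
    ((real_37).comp ((real_37).comp ((real_38).comp ((real_37).comp ((real_37).comp ((real_38).comp ((real_40).comp ((real_39).comp (real_38)))))))))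
    ((real_38).comp ((real_37).comp ((real_38).comp ((real_37).comp ((real_37).comp ((real_39).comp (real_37)))))))
    (fun x hx => Nat.eq_of_beq_eq_true (cert_41_all x hx))
theorem real_42 : SQ.Real Kp u42 :=
  SQ.real_of_eq (fL := fun x => u39 (u38 (u38 (u40 (u39 (u36 (u37 (u40 (u40 (u37 (u40 (x)))))))))))) (fR := fun x => u36 (u37 (u38 (u36 (u38 (u39 (x)))))))
    ((real_39).comp ((real_38).comp ((real_38).comp ((real_40).comp ((real_39).comp ((real_36).comp ((real_37).comp ((real_40).comp ((real_40).comp ((real_37).comp (real_40)))))))))))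
    ((real_36).comp ((real_37).comp ((real_38).comp ((real_36).comp ((real_38).comp (real_39))))))
    (fun x hx => Nat.eq_of_beq_eq_true (cert_42_all x hx))
theorem real_43 : SQ.Real Kp u43 :=
  SQ.real_of_eq (fL := fun x => u42 (u42 (u38 (u39 (u40 (u39 (u42 (u42 (u34 (u36 (u37 (u38 (u36 (u40 (u39 (u36 (u35 (u38 (u35 (u35 (u38 (u33 (u0 (u13 (u9 (u8 (u17 (u9 (u13 (x)))))))))))))))))))))))))))))) (fR := fun x => x)
    ((real_42).comp ((real_42).comp ((real_38).comp ((real_39).comp ((real_40).comp ((real_39).comp ((real_42).comp ((real_42).comp ((real_34).comp ((real_36).comp ((real_37).comp ((real_38).comp ((real_36).comp ((real_40).comp ((real_39).comp ((real_36).comp ((real_35).comp ((real_38).comp ((real_35).comp ((real_35).comp ((real_38).comp ((real_33).comp ((real_0).comp ((real_13).comp ((real_9).comp ((real_8).comp ((real_17).comp ((real_9).comp (real_13)))))))))))))))))))))))))))))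
    (SQ.real_id)
    (fun x hx => Nat.eq_of_beq_eq_true (cert_43_all x hx))

theorem real_stepX0 : ∀ l, 2 ≤ l → l < LX0.ng + 2 → SQ.Real Kp (LX0.step l) := by
  intro l h1 h2
  have h3 : l < 20 := h2
  interval_cases l
  · exact real_0
  · exact real_1
  · exact real_2
  · exact real_3
  · exact real_4
  · exact real_5
  · exact real_6
  · exact real_7
  · exact real_8
  · exact real_9
  · exact real_10
  · exact real_11
  · exact real_12
  · exact real_13
  · exact real_14
  · exact real_15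
  · exact real_16
  · exact real_17

theorem real_stepX1 : ∀ l, 2 ≤ l → l < LX1.ng + 2 → SQ.Real Kp (LX1.step l) := by
  intro l h1 h2
  have h3 : l < 8 := h2
  interval_cases l
  · exact real_18
  · exact real_19
  · exact real_21
  · exact real_24
  · exact real_25
  · exact real_30

theorem real_stepX2 : ∀ l, 2 ≤ l → l < LX2.ng + 2 → SQ.Real Kp (LX2.step l) := by
  intro l h1 h2
  have h3 : l < 8 := h2
  interval_cases l
  · exact real_20
  · exact real_21
  · exact real_22
  · exact real_24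
  · exact real_25
  · exact real_30

theorem real_stepX3 : ∀ l, 2 ≤ l → l < LX3.ng + 2 → SQ.Real Kp (LX3.step l) := by
  intro l h1 h2
  have h3 : l < 8 := h2
  interval_cases l
  · exact real_22
  · exact real_23
  · exact real_24
  · exact real_25
  · exact real_26
  · exact real_30

theorem real_stepX4 : ∀ l, 2 ≤ l → l < LX4.ng + 2 → SQ.Real Kp (LX4.step l) := by
  intro l h1 h2
  have h3 : l < 9 := h2
  interval_cases l
  · exact real_24
  · exact real_25
  · exact real_26
  · exact real_27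
  · exact real_28
  · exact real_29
  · exact real_30

theorem real_stepX5 : ∀ l, 2 ≤ l → l < LX5.ng + 2 → SQ.Real Kp (LX5.step l) := by
  intro l h1 h2
  have h3 : l < 7 := h2
  interval_cases l
  · exact real_26
  · exact real_27
  · exact real_28
  · exact real_29
  · exact real_30

theorem real_stepX6 : ∀ l, 2 ≤ l → l < LX6.ng + 2 → SQ.Real Kp (LX6.step l) := by
  intro l h1 h2
  have h3 : l < 5 := h2
  interval_cases l
  · exact real_28
  · exact real_29
  · exact real_30

theorem real_stepX7 : ∀ l, 2 ≤ l → l < LX7.ng + 2 → SQ.Real Kp (LX7.step l) := by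
  intro l h1 h2
  have h3 : l < 3 := h2
  interval_cases l
  · exact real_30

theorem real_stepZ1 : ∀ l, 2 ≤ l → l < LZ1.ng + 2 → SQ.Real Kp (LZ1.step l) := by
  intro l h1 h2
  have h3 : l < 6 := h2
  interval_cases l
  · exact real_33
  · exact real_35
  · exact real_37
  · exact real_38

theorem real_stepZ2 : ∀ l, 2 ≤ l → l < LZ2.ng + 2 → SQ.Real Kp (LZ2.step l) := by
  intro l h1 h2
  have h3 : l < 8 := h2
  interval_cases l
  · exact real_34
  · exact real_36
  · exact real_37
  · exact real_38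
  · exact real_39
  · exact real_40

theorem real_stepZ3 : ∀ l, 2 ≤ l → l < LZ3.ng + 2 → SQ.Real Kp (LZ3.step l) := by
  intro l h1 h2
  have h3 : l < 7 := h2
  interval_cases l
  · exact real_37
  · exact real_38
  · exact real_39
  · exact real_40
  · exact real_42

theorem real_stepZ4 : ∀ l, 2 ≤ l → l < LZ4.ng + 2 → SQ.Real Kp (LZ4.step l) := by
  intro l h1 h2
  have h3 : l < 5 := h2
  interval_cases l
  · exact real_40
  · exact real_41
  · exact real_42

theorem real_stepZ5 : ∀ l, 2 ≤ l → l < LZ5.ng + 2 → SQ.Real Kp (LZ5.step l) := by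
  intro l h1 h2
  have h3 : l < 3 := h2
  interval_cases l
  · exact real_40

theorem real_steps_X : ∀ L ∈ LsX, ∀ l, 2 ≤ l → l < L.ng + 2 → SQ.Real Kp (L.step l) := by
  intro L hL
  simp only [LsX, List.mem_cons, List.not_mem_nil, or_false] at hL
  rcases hL with rfl | rfl | rfl | rfl | rfl | rfl | rfl | rfl
  · exact real_stepX0
  · exact real_stepX1
  · exact real_stepX2
  · exact real_stepX3
  · exact real_stepX4
  · exact real_stepX5
  · exact real_stepX6
  · exact real_stepX7

theorem real_steps_Z : ∀ L ∈ LsZ, ∀ l, 2 ≤ l → l < L.ng + 2 → SQ.Real Kp (L.step l) := by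
  intro L hL
  simp only [LsZ, List.mem_cons, List.not_mem_nil, or_false] at hL
  rcases hL with rfl | rfl | rfl | rfl | rfl | rfl
  · exact real_stepX0
  · exact real_stepZ1
  · exact real_stepZ2
  · exact real_stepZ3
  · exact real_stepZ4
  · exact real_stepZ5

theorem card_Kp : Nat.card Kp = 4089470473293004800 := by
  rw [← cardGp]
  exact (Nat.card_congr (MonoidHom.ofInjective φ_inj).toEquiv).symm

theorem chainX : SQ.ChainOK Kp LsX :=
  SQ.chainOK_of_checks Kp LsX real_steps_X lvOK_LsX fixOK_X (by rw [card_Kp]; exact size_X)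

theorem chainZ : SQ.ChainOK Kp LsZ :=
  SQ.chainOK_of_checks Kp LsZ real_steps_Z lvOK_LsZ fixOK_Z (by rw [card_Kp]; exact size_Z)

/-! ### generation by `x`, `n`, `z` -/

theorem real2_44 (K' : Subgroup (Equiv.Perm (Fin 31671))) (hx : SQ.Real K' u10) (hn : SQ.Real K' u31) (hz : SQ.Real K' u43) : SQ.Real K' u44 :=
  SQ.real_of_eq (fL := fun x => u31 (u31 (u31 (u31 (u31 (u43 (u10 (u43 (x))))))))) (fR := fun x => u10 (u31 (u31 (u10 (u43 (u10 (u31 (x))))))))
    ((hn).comp ((hn).comp ((hn).comp ((hn).comp ((hn).comp ((hz).comp ((hx).comp (hz))))))))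
    ((hx).comp ((hn).comp ((hn).comp ((hx).comp ((hz).comp ((hx).comp (hn)))))))
    (fun x hx => Nat.eq_of_beq_eq_true (cert_44_all x hx))
theorem real2_45 (K' : Subgroup (Equiv.Perm (Fin 31671))) (hx : SQ.Real K' u10) (hn : SQ.Real K' u31) (hz : SQ.Real K' u43) : SQ.Real K' u45 :=
  SQ.real_of_eq (fL := fun x => u10 (u10 (u10 (u43 (u10 (u10 (u10 (u10 (u31 (u10 (u10 (u43 (u10 (u10 (u10 (u10 (x))))))))))))))))) (fR := fun x => u10 (u10 (u43 (u10 (u10 (u31 (u43 (u10 (u31 (u31 (u43 (x))))))))))))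
    ((hx).comp ((hx).comp ((hx).comp ((hz).comp ((hx).comp ((hx).comp ((hx).comp ((hx).comp ((hn).comp ((hx).comp ((hx).comp ((hz).comp ((hx).comp ((hx).comp ((hx).comp (hx))))))))))))))))
    ((hx).comp ((hx).comp ((hz).comp ((hx).comp ((hx).comp ((hn).comp ((hz).comp ((hx).comp ((hn).comp ((hn).comp (hz)))))))))))
    (fun x hx => Nat.eq_of_beq_eq_true (cert_45_all x hx))
theorem real2_46 (K' : Subgroup (Equiv.Perm (Fin 31671))) (hx : SQ.Real K' u10) (hn : SQ.Real K' u31) (hz : SQ.Real K' u43) : SQ.Real K' u46 :=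
  SQ.real_of_eq (fL := fun x => u45 (u44 (u45 (u45 (u45 (u44 (u44 (u44 (u45 (u45 (u44 (u45 (u45 (x)))))))))))))) (fR := fun x => u44 (u44 (u45 (u45 (u44 (u44 (u44 (u45 (u44 (u45 (u44 (u44 (u44 (x))))))))))))))
    ((real2_45 K' hx hn hz).comp ((real2_44 K' hx hn hz).comp ((real2_45 K' hx hn hz).comp ((real2_45 K' hx hn hz).comp ((real2_45 K' hx hn hz).comp ((real2_44 K' hx hn hz).comp ((real2_44 K' hx hn hz).comp ((real2_44 K' hx hn hz).comp ((real2_45 K' hx hn hz).comp ((real2_45 K' hx hn hz).comp ((real2_44 K' hx hn hz).comp ((real2_45 K' hx hn hz).comp (real2_45 K' hx hn hz)))))))))))))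
    ((real2_44 K' hx hn hz).comp ((real2_44 K' hx hn hz).comp ((real2_45 K' hx hn hz).comp ((real2_45 K' hx hn hz).comp ((real2_44 K' hx hn hz).comp ((real2_44 K' hx hn hz).comp ((real2_44 K' hx hn hz).comp ((real2_45 K' hx hn hz).comp ((real2_44 K' hx hn hz).comp ((real2_45 K' hx hn hz).comp ((real2_44 K' hx hn hz).comp ((real2_44 K' hx hn hz).comp (real2_44 K' hx hn hz)))))))))))))
    (fun x hx => Nat.eq_of_beq_eq_true (cert_46_all x hx))
theorem real2_47 (K' : Subgroup (Equiv.Perm (Fin 31671))) (hx : SQ.Real K' u10) (hn : SQ.Real K' u31) (hz : SQ.Real K' u43) : SQ.Real K' u47 :=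
  SQ.real_of_eq (fL := fun x => u44 (u44 (u45 (u45 (u44 (u44 (u45 (u44 (u45 (u45 (u45 (u44 (u44 (x)))))))))))))) (fR := fun x => u44 (u44 (u44 (u44 (u45 (u45 (u45 (u45 (u45 (u45 (u44 (u45 (u45 (x))))))))))))))
    ((real2_44 K' hx hn hz).comp ((real2_44 K' hx hn hz).comp ((real2_45 K' hx hn hz).comp ((real2_45 K' hx hn hz).comp ((real2_44 K' hx hn hz).comp ((real2_44 K' hx hn hz).comp ((real2_45 K' hx hn hz).comp ((real2_44 K' hx hn hz).comp ((real2_45 K' hx hn hz).comp ((real2_45 K' hx hn hz).comp ((real2_45 K' hx hn hz).comp ((real2_44 K' hx hn hz).comp (real2_44 K' hx hn hz)))))))))))))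
    ((real2_44 K' hx hn hz).comp ((real2_44 K' hx hn hz).comp ((real2_44 K' hx hn hz).comp ((real2_44 K' hx hn hz).comp ((real2_45 K' hx hn hz).comp ((real2_45 K' hx hn hz).comp ((real2_45 K' hx hn hz).comp ((real2_45 K' hx hn hz).comp ((real2_45 K' hx hn hz).comp ((real2_45 K' hx hn hz).comp ((real2_44 K' hx hn hz).comp ((real2_45 K' hx hn hz).comp (real2_45 K' hx hn hz)))))))))))))
    (fun x hx => Nat.eq_of_beq_eq_true (cert_47_all x hx))
theorem real2_48 (K' : Subgroup (Equiv.Perm (Fin 31671))) (hx : SQ.Real K' u10) (hn : SQ.Real K' u31) (hz : SQ.Real K' u43) : SQ.Real K' u48 :=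
  SQ.real_of_eq (fL := fun x => u46 (u46 (u46 (u46 (u46 (u47 (u47 (u47 (u47 (u46 (u47 (u46 (u47 (x)))))))))))))) (fR := fun x => u46 (u47 (u46 (u46 (u46 (u46 (x)))))))
    ((real2_46 K' hx hn hz).comp ((real2_46 K' hx hn hz).comp ((real2_46 K' hx hn hz).comp ((real2_46 K' hx hn hz).comp ((real2_46 K' hx hn hz).comp ((real2_47 K' hx hn hz).comp ((real2_47 K' hx hn hz).comp ((real2_47 K' hx hn hz).comp ((real2_47 K' hx hn hz).comp ((real2_46 K' hx hn hz).comp ((real2_47 K' hx hn hz).comp ((real2_46 K' hx hn hz).comp (real2_47 K' hx hn hz)))))))))))))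
    ((real2_46 K' hx hn hz).comp ((real2_47 K' hx hn hz).comp ((real2_46 K' hx hn hz).comp ((real2_46 K' hx hn hz).comp ((real2_46 K' hx hn hz).comp (real2_46 K' hx hn hz))))))
    (fun x hx => Nat.eq_of_beq_eq_true (cert_48_all x hx))
theorem real2_49 (K' : Subgroup (Equiv.Perm (Fin 31671))) (hx : SQ.Real K' u10) (hn : SQ.Real K' u31) (hz : SQ.Real K' u43) : SQ.Real K' u49 :=
  SQ.real_of_eq (fL := fun x => u46 (u46 (u47 (u46 (u47 (u47 (u47 (u46 (u46 (u47 (u46 (u45 (u44 (u44 (u44 (u44 (u44 (u45 (u45 (u44 (u45 (u43 (u10 (u31 (u10 (u43 (u10 (u10 (u43 (u10 (u31 (u10 (u43 (u10 (u43 (x)))))))))))))))))))))))))))))))))))) (fR := fun x => u10 (u10 (u43 (u10 (u31 (u10 (u10 (u31 (u10 (u43 (u10 (u43 (u10 (x))))))))))))))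
    ((real2_46 K' hx hn hz).comp ((real2_46 K' hx hn hz).comp ((real2_47 K' hx hn hz).comp ((real2_46 K' hx hn hz).comp ((real2_47 K' hx hn hz).comp ((real2_47 K' hx hn hz).comp ((real2_47 K' hx hn hz).comp ((real2_46 K' hx hn hz).comp ((real2_46 K' hx hn hz).comp ((real2_47 K' hx hn hz).comp ((real2_46 K' hx hn hz).comp ((real2_45 K' hx hn hz).comp ((real2_44 K' hx hn hz).comp ((real2_44 K' hx hn hz).comp ((real2_44 K' hx hn hz).comp ((real2_44 K' hx hn hz).comp ((real2_44 K' hx hn hz).comp ((real2_45 K' hx hn hz).comp ((real2_45 K' hx hn hz).comp ((real2_44 K' hx hn hz).comp ((real2_45 K' hx hn hz).comp ((hz).comp ((hx).comp ((hn).comp ((hx).comp ((hz).comp ((hx).comp ((hx).comp ((hz).comp ((hx).comp ((hn).comp ((hx).comp ((hz).comp ((hx).comp (hz)))))))))))))))))))))))))))))))))))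
    ((hx).comp ((hx).comp ((hz).comp ((hx).comp ((hn).comp ((hx).comp ((hx).comp ((hn).comp ((hx).comp ((hz).comp ((hx).comp ((hz).comp (hx)))))))))))))
    (fun x hx => Nat.eq_of_beq_eq_true (cert_49_all x hx))
theorem real2_50 (K' : Subgroup (Equiv.Perm (Fin 31671))) (hx : SQ.Real K' u10) (hn : SQ.Real K' u31) (hz : SQ.Real K' u43) : SQ.Real K' u50 :=
  SQ.real_of_eq (fL := fun x => u48 (u48 (u49 (u48 (u49 (u49 (u46 (u49 (u47 (u47 (u46 (u49 (u49 (u49 (x))))))))))))))) (fR := fun x => u46 (u46 (u47 (u49 (u47 (u46 (u46 (u47 (x)))))))))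
    ((real2_48 K' hx hn hz).comp ((real2_48 K' hx hn hz).comp ((real2_49 K' hx hn hz).comp ((real2_48 K' hx hn hz).comp ((real2_49 K' hx hn hz).comp ((real2_49 K' hx hn hz).comp ((real2_46 K' hx hn hz).comp ((real2_49 K' hx hn hz).comp ((real2_47 K' hx hn hz).comp ((real2_47 K' hx hn hz).comp ((real2_46 K' hx hn hz).comp ((real2_49 K' hx hn hz).comp ((real2_49 K' hx hn hz).comp (real2_49 K' hx hn hz))))))))))))))
    ((real2_46 K' hx hn hz).comp ((real2_46 K' hx hn hz).comp ((real2_47 K' hx hn hz).comp ((real2_49 K' hx hn hz).comp ((real2_47 K' hx hn hz).comp ((real2_46 K' hx hn hz).comp ((real2_46 K' hx hn hz).comp (real2_47 K' hx hn hz))))))))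
    (fun x hx => Nat.eq_of_beq_eq_true (cert_50_all x hx))
theorem real2_51 (K' : Subgroup (Equiv.Perm (Fin 31671))) (hx : SQ.Real K' u10) (hn : SQ.Real K' u31) (hz : SQ.Real K' u43) : SQ.Real K' u51 :=
  SQ.real_of_eq (fL := fun x => u48 (u50 (u49 (u48 (u50 (u48 (u46 (u49 (u47 (u46 (u49 (u49 (u46 (u46 (u46 (u44 (u49 (u49 (u44 (u45 (u45 (u49 (u45 (u45 (x))))))))))))))))))))))))) (fR := fun x => u45 (u44 (u45 (u44 (u45 (u44 (u44 (x))))))))
    ((real2_48 K' hx hn hz).comp ((real2_50 K' hx hn hz).comp ((real2_49 K' hx hn hz).comp ((real2_48 K' hx hn hz).comp ((real2_50 K' hx hn hz).comp ((real2_48 K' hx hn hz).comp ((real2_46 K' hx hn hz).comp ((real2_49 K' hx hn hz).comp ((real2_47 K' hx hn hz).comp ((real2_46 K' hx hn hz).comp ((real2_49 K' hx hn hz).comp ((real2_49 K' hx hn hz).comp ((real2_46 K' hx hn hz).comp ((real2_46 K' hx hn hz).comp ((real2_46 K' hx hn hz).comp ((real2_44 K' hx hn hz).comp ((real2_49 K' hx hn hz).comp ((real2_49 K' hx hn hz).comp ((real2_44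 K' hx hn hz).comp ((real2_45 K' hx hn hz).comp ((real2_45 K' hx hn hz).comp ((real2_49 K' hx hn hz).comp ((real2_45 K' hx hn hz).comp (real2_45 K' hx hn hz))))))))))))))))))))))))
    ((real2_45 K' hx hn hz).comp ((real2_44 K' hx hn hz).comp ((real2_45 K' hx hn hz).comp ((real2_44 K' hx hn hz).comp ((real2_45 K' hx hn hz).comp ((real2_44 K' hx hn hz).comp (real2_44 K' hx hn hz)))))))
    (fun x hx => Nat.eq_of_beq_eq_true (cert_51_all x hx))
theorem real2_52 (K' : Subgroup (Equiv.Perm (Fin 31671))) (hx : SQ.Real K' u10) (hn : SQ.Real K' u31) (hz : SQ.Real K' u43) : SQ.Real K' u52 :=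
  SQ.real_of_eq (fL := fun x => u50 (u51 (u50 (u48 (u48 (u49 (u48 (u50 (u46 (u47 (u51 (u49 (u51 (u46 (u45 (u44 (u44 (u44 (u49 (u44 (u44 (u49 (u49 (x)))))))))))))))))))))))) (fR := fun x => u44 (u49 (u45 (u44 (u45 (u49 (u45 (u49 (u44 (x))))))))))
    ((real2_50 K' hx hn hz).comp ((real2_51 K' hx hn hz).comp ((real2_50 K' hx hn hz).comp ((real2_48 K' hx hn hz).comp ((real2_48 K' hx hn hz).comp ((real2_49 K' hx hn hz).comp ((real2_48 K' hx hn hz).comp ((real2_50 K' hx hn hz).comp ((real2_46 K' hx hn hz).comp ((real2_47 K' hx hn hz).comp ((real2_51 K' hx hn hz).comp ((real2_49 K' hx hn hz).comp ((real2_51 K' hx hn hz).comp ((real2_46 K' hx hn hz).comp ((real2_45 K' hx hn hz).comp ((real2_44 K' hx hn hz).comp ((real2_44 K' hx hn hz).comp ((real2_44 K' hx hn hz).comp ((real2_49 K' hx hn hz).comp ((real2_44 K' hx hn hz).comp ((real2_44 K' hx hn hz).comp ((real2_49 K' hx hn hz).comp (real2_49 K' hx hn hz)))))))))))))))))))))))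
    ((real2_44 K' hx hn hz).comp ((real2_49 K' hx hn hz).comp ((real2_45 K' hx hn hz).comp ((real2_44 K' hx hn hz).comp ((real2_45 K' hx hn hz).comp ((real2_49 K' hx hn hz).comp ((real2_45 K' hx hn hz).comp ((real2_49 K' hx hn hz).comp (real2_44 K' hx hn hz)))))))))
    (fun x hx => Nat.eq_of_beq_eq_true (cert_52_all x hx))
theorem real2_53 (K' : Subgroup (Equiv.Perm (Fin 31671))) (hx : SQ.Real K' u10) (hn : SQ.Real K' u31) (hz : SQ.Real K' u43) : SQ.Real K' u53 :=
  SQ.real_of_eq (fL := fun x => u52 (u52 (u52 (u52 (u52 (u50 (u50 (u49 (u51 (u52 (u49 (u47 (u51 (u46 (u49 (u52 (u51 (x)))))))))))))))))) (fR := fun x => u46 (u47 (u49 (u52 (u46 (u49 (x)))))))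
    ((real2_52 K' hx hn hz).comp ((real2_52 K' hx hn hz).comp ((real2_52 K' hx hn hz).comp ((real2_52 K' hx hn hz).comp ((real2_52 K' hx hn hz).comp ((real2_50 K' hx hn hz).comp ((real2_50 K' hx hn hz).comp ((real2_49 K' hx hn hz).comp ((real2_51 K' hx hn hz).comp ((real2_52 K' hx hn hz).comp ((real2_49 K' hx hn hz).comp ((real2_47 K' hx hn hz).comp ((real2_51 K' hx hn hz).comp ((real2_46 K' hx hn hz).comp ((real2_49 K' hx hn hz).comp ((real2_52 K' hx hn hz).comp (real2_51 K' hx hn hz)))))))))))))))))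
    ((real2_46 K' hx hn hz).comp ((real2_47 K' hx hn hz).comp ((real2_49 K' hx hn hz).comp ((real2_52 K' hx hn hz).comp ((real2_46 K' hx hn hz).comp (real2_49 K' hx hn hz))))))
    (fun x hx => Nat.eq_of_beq_eq_true (cert_53_all x hx))
theorem real2_54 (K' : Subgroup (Equiv.Perm (Fin 31671))) (hx : SQ.Real K' u10) (hn : SQ.Real K' u31) (hz : SQ.Real K' u43) : SQ.Real K' u54 :=
  SQ.real_of_eq (fL := fun x => u53 (u53 (u52 (u52 (u53 (u52 (u52 (u52 (u52 (u50 (u50 (u51 (u50 (u52 (u48 (u50 (u49 (u50 (u46 (u47 (u46 (u52 (u52 (u49 (u46 (x)))))))))))))))))))))))))) (fR := fun x => u46 (u49 (u49 (u52 (u49 (u51 (x)))))))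
    ((real2_53 K' hx hn hz).comp ((real2_53 K' hx hn hz).comp ((real2_52 K' hx hn hz).comp ((real2_52 K' hx hn hz).comp ((real2_53 K' hx hn hz).comp ((real2_52 K' hx hn hz).comp ((real2_52 K' hx hn hz).comp ((real2_52 K' hx hn hz).comp ((real2_52 K' hx hn hz).comp ((real2_50 K' hx hn hz).comp ((real2_50 K' hx hn hz).comp ((real2_51 K' hx hn hz).comp ((real2_50 K' hx hn hz).comp ((real2_52 K' hx hn hz).comp ((real2_48 K' hx hn hz).comp ((real2_50 K' hx hn hz).comp ((real2_49 K' hx hn hz).comp ((real2_50 K' hx hn hz).comp ((real2_46 K' hx hn hz).comp ((real2_47 K' hx hn hz).comp ((real2_46 K' hx hn hz).comp ((real2_52 K' hx hn hz).comp ((real2_52 K' hx hn hz).comp ((real2_49 K' hx hn hz).comp (real2_46 K' hx hn hz)))))))))))))))))))))))))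
    ((real2_46 K' hx hn hz).comp ((real2_49 K' hx hn hz).comp ((real2_49 K' hx hn hz).comp ((real2_52 K' hx hn hz).comp ((real2_49 K' hx hn hz).comp (real2_51 K' hx hn hz))))))
    (fun x hx => Nat.eq_of_beq_eq_true (cert_54_all x hx))
theorem real2_g0 (K' : Subgroup (Equiv.Perm (Fin 31671))) (hx : SQ.Real K' u10) (hn : SQ.Real K' u31) (hz : SQ.Real K' u43) : SQ.Real K' u0 :=
  SQ.real_of_eq (fL := fun x => u52 (u52 (u53 (u50 (u50 (u54 (u51 (u49 (u51 (u53 (u46 (u47 (u52 (u47 (u52 (u47 (u45 (u44 (u44 (u45 (u44 (u44 (u45 (u45 (u10 (u10 (u10 (u10 (u31 (u43 (u10 (u31 (u10 (u10 (u43 (u10 (u31 (u10 (u31 (u43 (x))))))))))))))))))))))))))))))))))))))))) (fR := fun x => x)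
    ((real2_52 K' hx hn hz).comp ((real2_52 K' hx hn hz).comp ((real2_53 K' hx hn hz).comp ((real2_50 K' hx hn hz).comp ((real2_50 K' hx hn hz).comp ((real2_54 K' hx hn hz).comp ((real2_51 K' hx hn hz).comp ((real2_49 K' hx hn hz).comp ((real2_51 K' hx hn hz).comp ((real2_53 K' hx hn hz).comp ((real2_46 K' hx hn hz).comp ((real2_47 K' hx hn hz).comp ((real2_52 K' hx hn hz).comp ((real2_47 K' hx hn hz).comp ((real2_52 K' hx hn hz).comp ((real2_47 K' hx hn hz).comp ((real2_45 K' hx hn hz).comp ((real2_44 K' hx hn hz).comp ((real2_44 K' hx hn hz).comp ((real2_45 K' hx hn hz).comp ((real2_44 K' hx hn hz).comp ((real2_44 K' hx hn hz).comp ((real2_45 K' hx hn hz).comp ((real2_45 K' hx hn hz).comp ((hx).comp ((hx).comp ((hx).comp ((hx).comp ((hn).comp ((hz).comp ((hx).comp ((hn).comp ((hx).comp ((hx).comp ((hz).comp ((hx).comp ((hn).comp ((hx).comp ((hn).comp (hz))))))))))))))))))))))))))))))))))))))))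
    (SQ.real_id)
    (fun x hx => Nat.eq_of_beq_eq_true (genw_0_all x hx))
theorem real2_g1 (K' : Subgroup (Equiv.Perm (Fin 31671))) (hx : SQ.Real K' u10) (hn : SQ.Real K' u31) (hz : SQ.Real K' u43) : SQ.Real K' u1 :=
  SQ.real_of_eq (fL := fun x => u53 (u53 (u53 (u52 (u53 (u52 (u53 (u52 (u52 (u50 (u52 (u52 (u48 (u51 (u53 (u54 (u46 (u47 (u46 (u46 (u49 (u47 (u44 (u49 (u45 (u44 (u45 (u45 (u44 (u45 (u44 (u10 (u31 (u10 (u31 (u31 (u31 (x)))))))))))))))))))))))))))))))))))))) (fR := fun x => x)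
    ((real2_53 K' hx hn hz).comp ((real2_53 K' hx hn hz).comp ((real2_53 K' hx hn hz).comp ((real2_52 K' hx hn hz).comp ((real2_53 K' hx hn hz).comp ((real2_52 K' hx hn hz).comp ((real2_53 K' hx hn hz).comp ((real2_52 K' hx hn hz).comp ((real2_52 K' hx hn hz).comp ((real2_50 K' hx hn hz).comp ((real2_52 K' hx hn hz).comp ((real2_52 K' hx hn hz).comp ((real2_48 K' hx hn hz).comp ((real2_51 K' hx hn hz).comp ((real2_53 K' hx hn hz).comp ((real2_54 K' hx hn hz).comp ((real2_46 K' hx hn hz).comp ((real2_47 K' hx hn hz).comp ((real2_46 K' hx hn hz).comp ((real2_46 K' hx hn hz).comp ((real2_49 K' hx hn hz).comp ((real2_47 K' hx hn hz).comp ((real2_44 K' hx hn hz).comp ((real2_49 K' hx hn hz).comp ((real2_45 K' hx hn hz).comp ((real2_44 K' hx hn hz).comp ((real2_45 K' hx hn hz).comp ((real2_45 K' hx hn hz).comp ((real2_44 K' hx hn hz).comp ((real2_45 K' hx hn hz).comp ((real2_44 K' hx hn hz).comp ((hx).comp ((hn).comp ((hx).comp ((hn).comp ((hn).comp (hn)))))))))))))))))))))))))))))))))))))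
    (SQ.real_id)
    (fun x hx => Nat.eq_of_beq_eq_true (genw_1_all x hx))
theorem real2_g2 (K' : Subgroup (Equiv.Perm (Fin 31671))) (hx : SQ.Real K' u10) (hn : SQ.Real K' u31) (hz : SQ.Real K' u43) : SQ.Real K' u2 :=
  SQ.real_of_eq (fL := fun x => u54 (u53 (u53 (u54 (u52 (u53 (u52 (u52 (u54 (u53 (u50 (u52 (u51 (u48 (u48 (u53 (u54 (u46 (u46 (u52 (u47 (u51 (u52 (u44 (u49 (u49 (u44 (u49 (u44 (u45 (u49 (u10 (u10 (u43 (u10 (u10 (u10 (u43 (u10 (u43 (u10 (u10 (u10 (u10 (x))))))))))))))))))))))))))))))))))))))))))))) (fR := fun x => x)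
    ((real2_54 K' hx hn hz).comp ((real2_53 K' hx hn hz).comp ((real2_53 K' hx hn hz).comp ((real2_54 K' hx hn hz).comp ((real2_52 K' hx hn hz).comp ((real2_53 K' hx hn hz).comp ((real2_52 K' hx hn hz).comp ((real2_52 K' hx hn hz).comp ((real2_54 K' hx hn hz).comp ((real2_53 K' hx hn hz).comp ((real2_50 K' hx hn hz).comp ((real2_52 K' hx hn hz).comp ((real2_51 K' hx hn hz).comp ((real2_48 K' hx hn hz).comp ((real2_48 K' hx hn hz).comp ((real2_53 K' hx hn hz).comp ((real2_54 K' hx hn hz).comp ((real2_46 K' hx hn hz).comp ((real2_46 K' hx hn hz).comp ((real2_52 K' hx hn hz).comp ((real2_47 K' hx hn hz).comp ((real2_51 K' hx hn hz).comp ((real2_52 K' hx hn hz).comp ((real2_44 K' hx hn hz).comp ((real2_49 K' hx hn hz).comp ((real2_49 K' hx hn hz).comp ((real2_44 K' hx hn hz).comp ((real2_49 K' hx hn hz).comp ((real2_44 K' hx hn hz).comp ((real2_45 K' hx hn hz).comp ((real2_49 K' hx hn hz).comp ((hx).comp ((hx).comp ((hz).comp ((hx).comp ((hx).comp ((hx).comp ((hz).comp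 ((hx).comp ((hz).comp ((hx).comp ((hx).comp ((hx).comp (hx))))))))))))))))))))))))))))))))))))))))))))
    (SQ.real_id)
    (fun x hx => Nat.eq_of_beq_eq_true (genw_2_all x hx))
theorem real2_g3 (K' : Subgroup (Equiv.Perm (Fin 31671))) (hx : SQ.Real K' u10) (hn : SQ.Real K' u31) (hz : SQ.Real K' u43) : SQ.Real K' u3 :=
  SQ.real_of_eq (fL := fun x => u53 (u53 (u53 (u52 (u52 (u53 (u54 (u52 (u52 (u50 (u50 (u51 (u51 (u49 (u49 (u52 (u47 (u46 (u49 (u51 (u49 (u47 (x))))))))))))))))))))))) (fR := fun x => x)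
    ((real2_53 K' hx hn hz).comp ((real2_53 K' hx hn hz).comp ((real2_53 K' hx hn hz).comp ((real2_52 K' hx hn hz).comp ((real2_52 K' hx hn hz).comp ((real2_53 K' hx hn hz).comp ((real2_54 K' hx hn hz).comp ((real2_52 K' hx hn hz).comp ((real2_52 K' hx hn hz).comp ((real2_50 K' hx hn hz).comp ((real2_50 K' hx hn hz).comp ((real2_51 K' hx hn hz).comp ((real2_51 K' hx hn hz).comp ((real2_49 K' hx hn hz).comp ((real2_49 K' hx hn hz).comp ((real2_52 K' hx hn hz).comp ((real2_47 K' hx hn hz).comp ((real2_46 K' hx hn hz).comp ((real2_49 K' hx hn hz).comp ((real2_51 K' hx hn hz).comp ((real2_49 K' hx hn hz).comp (real2_47 K' hx hn hz))))))))))))))))))))))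
    (SQ.real_id)
    (fun x hx => Nat.eq_of_beq_eq_true (genw_3_all x hx))
theorem real2_g4 (K' : Subgroup (Equiv.Perm (Fin 31671))) (hx : SQ.Real K' u10) (hn : SQ.Real K' u31) (hz : SQ.Real K' u43) : SQ.Real K' u4 :=
  SQ.real_of_eq (fL := fun x => u54 (u52 (u53 (u52 (u54 (u53 (u53 (u51 (u50 (u51 (u53 (u48 (u48 (u51 (u48 (u51 (u47 (u47 (u47 (u52 (u52 (u44 (u49 (u49 (u49 (u45 (u45 (u45 (u49 (u49 (x))))))))))))))))))))))))))))))) (fR := fun x => x)
    ((real2_54 K' hx hn hz).comp ((real2_52 K' hx hn hz).comp ((real2_53 K' hx hn hz).comp ((real2_52 K' hx hn hz).comp ((real2_54 K' hx hn hz).comp ((real2_53 K' hx hn hz).comp ((real2_53 K' hx hn hz).comp ((real2_51 K' hx hn hz).comp ((real2_50 K' hx hn hz).comp ((real2_51 K' hx hn hz).comp ((real2_53 K' hx hn hz).comp ((real2_48 K' hx hn hz).comp ((real2_48 K' hx hn hz).comp ((real2_51 K' hx hn hz).comp ((real2_48 K' hx hn hz).comp ((real2_51 K' hx hn hz).comp ((real2_47 K' hx hn hz).comp ((real2_47 K' hx hn hz).comp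 ((real2_47 K' hx hn hz).comp ((real2_52 K' hx hn hz).comp ((real2_52 K' hx hn hz).comp ((real2_44 K' hx hn hz).comp ((real2_49 K' hx hn hz).comp ((real2_49 K' hx hn hz).comp ((real2_49 K' hx hn hz).comp ((real2_45 K' hx hn hz).comp ((real2_45 K' hx hn hz).comp ((real2_45 K' hx hn hz).comp ((real2_49 K' hx hn hz).comp (real2_49 K' hx hn hz))))))))))))))))))))))))))))))
    (SQ.real_id)
    (fun x hx => Nat.eq_of_beq_eq_true (genw_4_all x hx))
theorem real2_g5 (K' : Subgroup (Equiv.Perm (Fin 31671))) (hx : SQ.Real K' u10) (hn : SQ.Real K' u31) (hz : SQ.Real K' u43) : SQ.Real K' u5 :=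
  SQ.real_of_eq (fL := fun x => u53 (u53 (u51 (u50 (u52 (x)))))) (fR := fun x => x)
    ((real2_53 K' hx hn hz).comp ((real2_53 K' hx hn hz).comp ((real2_51 K' hx hn hz).comp ((real2_50 K' hx hn hz).comp (real2_52 K' hx hn hz)))))
    (SQ.real_id)
    (fun x hx => Nat.eq_of_beq_eq_true (genw_5_all x hx))
theorem real2_g6 (K' : Subgroup (Equiv.Perm (Fin 31671))) (hx : SQ.Real K' u10) (hn : SQ.Real K' u31) (hz : SQ.Real K' u43) : SQ.Real K' u6 :=
  SQ.real_of_eq (fL := fun x => u53 (u52 (u52 (u53 (u52 (u51 (u50 (u50 (u54 (u49 (u51 (u48 (u51 (u46 (u46 (u52 (u46 (u51 (u46 (u45 (u45 (u44 (u49 (x)))))))))))))))))))))))) (fR := fun x => x)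
    ((real2_53 K' hx hn hz).comp ((real2_52 K' hx hn hz).comp ((real2_52 K' hx hn hz).comp ((real2_53 K' hx hn hz).comp ((real2_52 K' hx hn hz).comp ((real2_51 K' hx hn hz).comp ((real2_50 K' hx hn hz).comp ((real2_50 K' hx hn hz).comp ((real2_54 K' hx hn hz).comp ((real2_49 K' hx hn hz).comp ((real2_51 K' hx hn hz).comp ((real2_48 K' hx hn hz).comp ((real2_51 K' hx hn hz).comp ((real2_46 K' hx hn hz).comp ((real2_46 K' hx hn hz).comp ((real2_52 K' hx hn hz).comp ((real2_46 K' hx hn hz).comp ((real2_51 K' hx hn hz).comp ((real2_46 K' hx hn hz).comp ((real2_45 K' hx hn hz).comp ((real2_45 K' hx hn hz).comp ((real2_44 K' hx hn hz).comp (real2_49 K' hx hn hz)))))))))))))))))))))))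
    (SQ.real_id)
    (fun x hx => Nat.eq_of_beq_eq_true (genw_6_all x hx))
theorem real2_g7 (K' : Subgroup (Equiv.Perm (Fin 31671))) (hx : SQ.Real K' u10) (hn : SQ.Real K' u31) (hz : SQ.Real K' u43) : SQ.Real K' u7 :=
  SQ.real_of_eq (fL := fun x => u54 (u53 (u53 (u53 (u52 (u52 (u52 (u50 (u51 (u53 (u49 (u48 (u52 (u46 (u52 (u51 (u52 (u46 (u46 (u44 (u44 (u49 (u45 (u44 (u45 (u44 (u49 (u43 (u10 (u43 (u10 (u31 (u10 (u31 (u10 (u10 (u43 (u10 (u10 (u43 (x))))))))))))))))))))))))))))))))))))))))) (fR := fun x => x)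
    ((real2_54 K' hx hn hz).comp ((real2_53 K' hx hn hz).comp ((real2_53 K' hx hn hz).comp ((real2_53 K' hx hn hz).comp ((real2_52 K' hx hn hz).comp ((real2_52 K' hx hn hz).comp ((real2_52 K' hx hn hz).comp ((real2_50 K' hx hn hz).comp ((real2_51 K' hx hn hz).comp ((real2_53 K' hx hn hz).comp ((real2_49 K' hx hn hz).comp ((real2_48 K' hx hn hz).comp ((real2_52 K' hx hn hz).comp ((real2_46 K' hx hn hz).comp ((real2_52 K' hx hn hz).comp ((real2_51 K' hx hn hz).comp ((real2_52 K' hx hn hz).comp ((real2_46 K' hx hn hz).comp ((real2_46 K' hx hn hz).comp ((real2_44 K' hx hn hz).comp ((real2_44 K' hx hn hz).comp ((real2_49 K' hx hn hz).comp ((real2_45 K' hx hn hz).comp ((real2_44 K' hx hn hz).comp ((real2_45 K' hx hn hz).comp ((real2_44 K' hx hn hz).comp ((real2_49 K' hx hn hz).comp ((hz).comp ((hx).comp ((hz).comp ((hx).comp ((hn).comp ((hx).comp ((hn).comp ((hx).comp ((hx).comp ((hz).comp ((hx).comp ((hx).comp (hz))))))))))))))))))))))))))))))))))))))))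
    (SQ.real_id)
    (fun x hx => Nat.eq_of_beq_eq_true (genw_7_all x hx))
theorem real2_g8 (K' : Subgroup (Equiv.Perm (Fin 31671))) (hx : SQ.Real K' u10) (hn : SQ.Real K' u31) (hz : SQ.Real K' u43) : SQ.Real K' u8 :=
  SQ.real_of_eq (fL := fun x => u54 (u52 (u54 (u53 (u52 (u52 (u54 (u53 (u50 (u52 (u53 (u51 (u48 (u49 (u51 (u53 (u46 (u47 (u52 (u51 (u49 (u46 (u45 (u45 (u49 (u49 (u49 (u45 (u49 (u49 (x))))))))))))))))))))))))))))))) (fR := fun x => x)
    ((real2_54 K' hx hn hz).comp ((real2_52 K' hx hn hz).comp ((real2_54 K' hx hn hz).comp ((real2_53 K' hx hn hz).comp ((real2_52 K' hx hn hz).comp ((real2_52 K' hx hn hz).comp ((real2_54 K' hx hn hz).comp ((real2_53 K' hx hn hz).comp ((real2_50 K' hx hn hz).comp ((real2_52 K' hx hn hz).comp ((real2_53 K' hx hn hz).comp ((real2_51 K' hx hn hz).comp ((real2_48 K' hx hn hz).comp ((real2_49 K' hx hn hz).comp ((real2_51 K' hx hn hz).comp ((real2_53 K' hx hn hz).comp ((real2_46 K' hx hn hz).comp ((real2_47 K' hx hn hz).comp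 ((real2_52 K' hx hn hz).comp ((real2_51 K' hx hn hz).comp ((real2_49 K' hx hn hz).comp ((real2_46 K' hx hn hz).comp ((real2_45 K' hx hn hz).comp ((real2_45 K' hx hn hz).comp ((real2_49 K' hx hn hz).comp ((real2_49 K' hx hn hz).comp ((real2_49 K' hx hn hz).comp ((real2_45 K' hx hn hz).comp ((real2_49 K' hx hn hz).comp (real2_49 K' hx hn hz))))))))))))))))))))))))))))))
    (SQ.real_id)
    (fun x hx => Nat.eq_of_beq_eq_true (genw_8_all x hx))
theorem real2_g9 (K' : Subgroup (Equiv.Perm (Fin 31671))) (hx : SQ.Real K' u10) (hn : SQ.Real K' u31) (hz : SQ.Real K' u43) : SQ.Real K' u9 :=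
  SQ.real_of_eq (fL := fun x => u53 (u53 (u54 (u52 (u52 (u53 (u52 (u53 (u52 (u54 (u50 (u50 (u52 (u51 (u49 (u52 (u49 (u50 (u46 (u47 (u51 (u51 (u52 (u52 (u51 (u44 (u45 (u44 (u45 (u45 (u44 (u49 (u49 (u49 (u31 (u10 (u31 (u10 (u10 (u43 (u10 (u10 (u31 (u43 (u10 (x)))))))))))))))))))))))))))))))))))))))))))))) (fR := fun x => x)
    ((real2_53 K' hx hn hz).comp ((real2_53 K' hx hn hz).comp ((real2_54 K' hx hn hz).comp ((real2_52 K' hx hn hz).comp ((real2_52 K' hx hn hz).comp ((real2_53 K' hx hn hz).comp ((real2_52 K' hx hn hz).comp ((real2_53 K' hx hn hz).comp ((real2_52 K' hx hn hz).comp ((real2_54 K' hx hn hz).comp ((real2_50 K' hx hn hz).comp ((real2_50 K' hx hn hz).comp ((real2_52 K' hx hn hz).comp ((real2_51 K' hx hn hz).comp ((real2_49 K' hx hn hz).comp ((real2_52 K' hx hn hz).comp ((real2_49 K' hx hn hz).comp ((real2_50 K' hx hn hz).comp ((real2_46 K' hx hn hz).comp ((real2_47 K' hx hn hz).comp ((real2_51 K' hx hn hz).comp ((real2_51 K' hx hn hz).comp ((real2_52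 K' hx hn hz).comp ((real2_52 K' hx hn hz).comp ((real2_51 K' hx hn hz).comp ((real2_44 K' hx hn hz).comp ((real2_45 K' hx hn hz).comp ((real2_44 K' hx hn hz).comp ((real2_45 K' hx hn hz).comp ((real2_45 K' hx hn hz).comp ((real2_44 K' hx hn hz).comp ((real2_49 K' hx hn hz).comp ((real2_49 K' hx hn hz).comp ((real2_49 K' hx hn hz).comp ((hn).comp ((hx).comp ((hn).comp ((hx).comp ((hx).comp ((hz).comp ((hx).comp ((hx).comp ((hn).comp ((hz).comp (hx)))))))))))))))))))))))))))))))))))))))))))))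
    (SQ.real_id)
    (fun x hx => Nat.eq_of_beq_eq_true (genw_9_all x hx))

end Cfsg.Agent.Lib.Helper8.F3O
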