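import Cfsg.Agent.Lib.Helper8.OutG3

set_option autoImplicit false

/-! General forms of the criteria of `OutG3`: the normalising element `n` acts on `x` with an
arbitrary exponent `e`, and the third generator `z` is pinned down by `x` and `n`. -/

namespace Cfsg.Agent.Lib.Helper8.OutG

/-- if `x n = n x^e` then `x^k n = n x^(e k)` -/
theorem pow_mul_of_rel' {H : Type*} [Group H] {x n : H} {e : ℕ} (h : x * n = n * x ^ e) (k : ℕ) :
    x ^ k * n = n * x ^ (e * k) := by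
  induction k with
  | zero => simp
  | succ k ih =>
    calc x ^ (k + 1) * n = x ^ k * (x * n) := by rw [pow_succ, mul_assoc]
      _ = x ^ k * n * x ^ e := by rw [h, mul_assoc]
      _ = n * (x ^ (e * k) * x ^ e) := by rw [ih, mul_assoc]
      _ = n * x ^ (e * (k + 1)) := by rw [← pow_add, mul_add, mul_one]

/-- elements acting on `x` like `n` lie in the coset of `n` -/
theorem coset_of_rel' {H : Type*} [Group H] {x n : H} {e : ℕ}
    (hC : ∀ g : H, g * x = x * g → ∃ i : ℕ, g = x ^ i)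
    (h : x * n = n * x ^ e) (a : H) (ha : x * a = a * x ^ e) : ∃ j : ℕ, a = x ^ j * n := by
  have hc : (a * n⁻¹) * x = x * (a * n⁻¹) := by
    have e1 : n⁻¹ * x = x ^ e * n⁻¹ := by
      have : x ^ e = n⁻¹ * (x * n) := by rw [h]; group
      rw [this]; group
    calc a * n⁻¹ * x = a * (n⁻¹ * x) := by group
      _ = a * (x ^ e * n⁻¹) := by rw [e1]
      _ = (a * x ^ e) * n⁻¹ := by group
      _ = x * a * n⁻¹ := by rw [← ha]
      _ = x * (a * n⁻¹) := by group
  obtain ⟨j, hj⟩ := hC _ hc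
  refine ⟨j, ?_⟩
  rw [← hj]; group

theorem pow_eq_pow_mod' {H : Type*} [Group H] {x : H} {p : ℕ} (hp : x ^ p = 1) (a : ℕ) :
    x ^ a = x ^ (a % p) := by
  conv_lhs => rw [← Nat.div_add_mod a p]
  rw [pow_add, pow_mul, hp, one_pow, one_mul]

/-- the elements `x^j n` are conjugate to `n` under powers of `x` -/
theorem conj_of_arith {H : Type*} [Group H] {x n : H} {e p : ℕ} (hp0 : 0 < p) (hp : x ^ p = 1)
    (h : x * n = n * x ^ e) (harith : ∀ j : ℕ, j < p → ∃ i : ℕ, (e * i) % p = (e * j + i) % p)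
    (j : ℕ) : ∃ i : ℕ, x ^ i * n * (x ^ i)⁻¹ = x ^ j * n := by
  obtain ⟨i, hi⟩ := harith (j % p) (Nat.mod_lt _ hp0)
  refine ⟨i, ?_⟩
  have e1 : x ^ (e * i) = x ^ (e * (j % p)) * x ^ i := by
    rw [← pow_add, pow_eq_pow_mod' hp (e * i), hi, ← pow_eq_pow_mod' hp]
  have e2 : x ^ j = x ^ (j % p) := pow_eq_pow_mod' hp j
  calc x ^ i * n * (x ^ i)⁻¹ = n * x ^ (e * i) * (x ^ i)⁻¹ := by rw [pow_mul_of_rel' h i]
    _ = n * x ^ (e * (j % p)) * x ^ i * (x ^ i)⁻¹ := by rw [e1]; group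
    _ = x ^ (j % p) * n := by rw [← pow_mul_of_rel' h (j % p)]; group
    _ = x ^ j * n := by rw [← e2]

/-- automorphisms fixing `x` are conjugations by powers of `x` -/
theorem fix_inner' {H : Type*} [Group H] (x n z : H) (e : ℕ)
    (hC : ∀ g : H, g * x = x * g → ∃ i : ℕ, g = x ^ i)
    (hn : x * n = n * x ^ e)
    (hconj : ∀ j : ℕ, ∃ i : ℕ, x ^ i * n * (x ^ i)⁻¹ = x ^ j * n)
    (hz : ∀ ψ : MulAut H, ψ x = x → ψ n = n → ψ z = z)
    (hgen : Subgroup.closure {x, n, z} = ⊤)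
    (φ : MulAut H) (hφ : φ x = x) : ∃ i : ℕ, φ = MulAut.conj (x ^ i) := by
  have ha : x * φ n = φ n * x ^ e := by
    have := congrArg φ hn
    rwa [map_mul, map_mul, map_pow, hφ] at this
  obtain ⟨j, hj⟩ := coset_of_rel' hC hn (φ n) ha
  obtain ⟨i, hi⟩ := hconj j
  refine ⟨i, ?_⟩
  set ψ : MulAut H := (MulAut.conj (x ^ i))⁻¹ * φ with hψ
  have hψx : ψ x = x := by
    rw [hψ, MulAut.mul_apply, hφ, MulAut.conj_inv_apply]
    rw [mul_assoc, inv_mul_eq_iff_eq_mul, ← pow_succ, ← pow_succ']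
  have hψn : ψ n = n := by
    rw [hψ, MulAut.mul_apply, hj, ← hi, MulAut.conj_inv_apply]
    group
  have hψz : ψ z = z := hz ψ hψx hψn
  have e1 : ψ = 1 := eq_one_of_fix3 x n z hgen ψ hψx hψn hψz
  have : φ = MulAut.conj (x ^ i) * ψ := by rw [hψ]; group
  rw [this, e1, mul_one]

/-- the outer automorphism group is trivial if every automorphism preserves the class of `x`
and the automorphisms fixing `x` are inner -/
theorem card_out_one_of_fix {H : Type*} [Group H] (x : H)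
    (h1 : ∀ φ : MulAut H, ∃ k : H, φ x = k * x * k⁻¹)
    (h2 : ∀ φ : MulAut H, φ x = x → ∃ i : ℕ, φ = MulAut.conj (x ^ i)) :
    Nat.card (Cfsg.Out H) = 1 := by
  show Nat.card (MulAut H ⧸ (MulAut.conj : H →* MulAut H).range) = 1
  rw [← Subgroup.index_eq_card, Subgroup.index_eq_one, eq_top_iff]
  intro φ _
  obtain ⟨k, hk⟩ := h1 φ
  set φ1 : MulAut H := (MulAut.conj k)⁻¹ * φ with hφ1
  have hφ1x : φ1 x = x := by
    rw [hφ1, MulAut.mul_apply, hk, MulAut.conj_inv_apply]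
    group
  obtain ⟨i, hi⟩ := h2 φ1 hφ1x
  have e : φ = MulAut.conj k * MulAut.conj (x ^ i) := by
    rw [← hi, hφ1]; group
  rw [e]
  exact Subgroup.mul_mem _ ⟨k, rfl⟩ ⟨_, rfl⟩

end Cfsg.Agent.Lib.Helper8.OutG
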