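import Cfsg.Agent.Lib.Helper8.SQ3

set_option autoImplicit false

/-! Further lemmas on permutations as functions on `ℕ`: powers, commuting elements. -/

namespace Cfsg.Agent.Lib.Helper8.SQ

variable {N : ℕ}

theorem gN_pow (g : Equiv.Perm (Fin N)) (n : ℕ) (x : ℕ) : gN (g ^ n) x = (gN g)^[n] x := by
  induction n generalizing x with
  | zero => rw [pow_zero, gN_one]; rfl
  | succ n ih => rw [pow_succ, gN_mul, ih, Function.iterate_succ_apply]

theorem mem_iterL {f : ℕ → ℕ} : ∀ (n p x : ℕ), x ∈ iterL f n p → ∃ j, x = f^[j] p := by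
  intro n
  induction n with
  | zero => intro p x h; exact absurd h List.not_mem_nil
  | succ n ih =>
    intro p x h
    rw [iterL] at h
    rcases List.mem_cons.1 h with rfl | h
    · exact ⟨0, rfl⟩
    · obtain ⟨j, hj⟩ := ih (f p) x h
      exact ⟨j + 1, by rw [hj, Function.iterate_succ_apply]⟩

/-- an element intertwining `py` and `py'` maps the orbit of `b0` as prescribed -/
theorem gN_intertwine {yT yT' : ℕ → ℕ} {py py' g : Equiv.Perm (Fin N)}
    (hy : ∀ x, x < N → gN py x = yT x) (hy' : ∀ x, x < N → gN py' x = yT' x)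
    (hc : g * py = py' * g) {b0 : ℕ} (hb0 : b0 < N) (j : ℕ) :
    yT^[j] b0 < N ∧ gN g (yT^[j] b0) = yT'^[j] (gN g b0) := by
  induction j with
  | zero => exact ⟨hb0, rfl⟩
  | succ j ih =>
    rw [Function.iterate_succ_apply', Function.iterate_succ_apply']
    refine ⟨by rw [← hy _ ih.1]; exact gN_lt py ih.1, ?_⟩
    rw [← hy _ ih.1, ← gN_mul, hc, gN_mul, ih.2]
    have h1 : yT'^[j] (gN g b0) < N := by rw [← ih.2]; exact gN_lt g ih.1
    exact hy' _ h1

/-- two elements of the group commuting with `py` that agree on `b0` are equal, when the base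
is a segment of the orbit of `b0` under `py` -/
theorem eq_of_commute [NeZero N] {K : Subgroup (Equiv.Perm (Fin N))} {Ls : List Lv}
    (h : ChainOK K Ls) {yT : ℕ → ℕ} {py : Equiv.Perm (Fin N)}
    (hy : ∀ x, x < N → gN py x = yT x) {b0 : ℕ} (hb0 : b0 < N)
    (hbase : Ls.map (fun L => L.b) = iterL yT Ls.length b0)
    {g g' : Equiv.Perm (Fin N)} (hg : g ∈ K) (hg' : g' ∈ K) (hc : g * py = py * g)
    (hc' : g' * py = py * g') (h0 : gN g b0 = gN g' b0) : g = g' := by
  apply h.eq_of_base hg hg'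
  intro L hL
  have hm : L.b ∈ iterL yT Ls.length b0 := by
    rw [← hbase]; exact List.mem_map.2 ⟨L, hL, rfl⟩
  obtain ⟨j, hj⟩ := mem_iterL _ _ _ hm
  rw [hj, (gN_intertwine hy hy hc hb0 j).2, (gN_intertwine hy hy hc' hb0 j).2, h0]

/-- an element of the group is trivial if it acts trivially -/
theorem eq_one_of_gN {g : Equiv.Perm (Fin N)} (h : ∀ x, x < N → gN g x = x) : g = 1 := by
  apply ext_gN
  intro x hx
  rw [h x hx, gN_one]

end Cfsg.Agent.Lib.Helper8.SQ
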