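import Cfsg.Agent.Lib.Helper8.F3O6
import Cfsg.Agent.Lib.Helper8.F3O5
import Cfsg.Agent.Lib.Helper8.SQ4
import Cfsg.Agent.Lib.Helper8.F3O4
import Cfsg.Agent.Lib.Helper8.OutG4

set_option autoImplicit false
set_option maxRecDepth 100000

/-! The presented group (The Fischer group Fi23): an element `x` of order 17, an element `n` normalising
`⟨x⟩`, and an element `z` in the centraliser of a power `t` of `n`. -/

namespace Cfsg.Agent.Lib.Helper8.F3O

open Cfsg.Spor Cfsg.Agent.Lib.Helper4.TC Cfsg.Agent.Lib.Helper4.TCD Cfsg.Agent.Lib.Helper4.TC.Log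

def xW : List ℕ := [5, 6, 9, 7, 1, 4, 1, 9, 3, 1, 0, 4, 8, 2, 4]

/-- an element of order 17 -/
noncomputable def xE : Gp := wordP PFi23.P.gR xW

theorem gN_xE (i : ℕ) (hi : i < 31671) : SQ.gN (φ xE) i = u10 i := by
  rw [xE, gN_word xW (by decide) i hi]
  exact Nat.eq_of_beq_eq_true (cert_10_all i hi)

theorem exists_nE : ∃ n : Gp, ∀ i, i < 31671 → SQ.gN (φ n) i = u31 i := by
  obtain ⟨ν, ⟨n', rfl⟩, hν⟩ := real_31
  exact ⟨n', hν⟩

/-- an element normalising `⟨x⟩` -/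
noncomputable def nE : Gp := Classical.choose exists_nE

theorem gN_nE (i : ℕ) (hi : i < 31671) : SQ.gN (φ nE) i = u31 i :=
  Classical.choose_spec exists_nE i hi

theorem exists_zE : ∃ z : Gp, ∀ i, i < 31671 → SQ.gN (φ z) i = u43 i := by
  obtain ⟨ν, ⟨z', rfl⟩, hν⟩ := real_43
  exact ⟨z', hν⟩

/-- an element centralising `t` -/
noncomputable def zE : Gp := Classical.choose exists_zE

theorem gN_zE (i : ℕ) (hi : i < 31671) : SQ.gN (φ zE) i = u43 i :=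
  Classical.choose_spec exists_zE i hi

theorem u_lt {f : ℕ → ℕ} (h : SQ.Real Kp f) {i : ℕ} (hi : i < 31671) : f i < 31671 := h.lt hi

theorem mem_Kp (g : Gp) : φ g ∈ Kp := ⟨g, rfl⟩

/-- an element acting trivially is trivial -/
theorem eq_one_of_gN (g : Gp) (h : ∀ i, i < 31671 → SQ.gN (φ g) i = i) : g = 1 := by
  apply φ_inj
  rw [map_one]
  exact SQ.eq_one_of_gN h

theorem eq_of_gN (g g' : Gp) (h : ∀ i, i < 31671 → SQ.gN (φ g) i = SQ.gN (φ g') i) : g = g' := by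
  apply φ_inj
  exact SQ.ext_gN h

theorem gN_pow_iter (g : Gp) (f : ℕ → ℕ) (hf : ∀ i, i < 31671 → SQ.gN (φ g) i = f i) (n : ℕ) :
    ∀ i, i < 31671 → SQ.gN (φ (g ^ n)) i = f^[n] i ∧ f^[n] i < 31671 := by
  induction n with
  | zero =>
    intro i hi
    rw [pow_zero, map_one, SQ.gN_one]
    exact ⟨rfl, hi⟩
  | succ n ih =>
    intro i hi
    rw [pow_succ, map_mul, SQ.gN_mul, hf i hi, Function.iterate_succ_apply]
    have h1 : f i < 31671 := by rw [← hf i hi]; exact SQ.gN_lt _ hi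
    exact ih (f i) h1

/-- the power of `n` whose centraliser is used -/
noncomputable def tE : Gp := nE ^ 1

theorem gN_tE (i : ℕ) (hi : i < 31671) : SQ.gN (φ tE) i = u32 i := by
  rw [tE, (gN_pow_iter nE u31 gN_nE 1 i hi).1]
  exact Nat.eq_of_beq_eq_true (cert_32_all i hi)

theorem xE_pow : xE ^ 17 = 1 := by
  apply eq_one_of_gN
  intro i hi
  rw [(gN_pow_iter xE u10 gN_xE 17 i hi).1]
  exact Nat.eq_of_beq_eq_true (x_ord_all i hi)

theorem xE_ne_one : xE ≠ 1 := by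
  intro h
  have := gN_xE 2 (by decide)
  rw [h, map_one, SQ.gN_one, x_ne] at this
  exact absurd this (by decide)

instance : Fact (Nat.Prime 17) := ⟨by norm_num⟩

theorem orderOf_xE : orderOf xE = 17 := orderOf_eq_prime xE_pow xE_ne_one

instance : Finite Gp := finGp

theorem fact_p : (Nat.card Gp).factorization 17 = 1 := by
  rw [cardGp, show 4089470473293004800 = 17 * 240557086664294400 from by norm_num]
  rw [Nat.factorization_mul (by norm_num) (by norm_num), Finsupp.add_apply,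
    (show Nat.Prime 17 by norm_num).factorization_self,
    Nat.factorization_eq_zero_of_not_dvd (by norm_num)]

theorem gN_xE_pow (n : ℕ) (i : ℕ) (hi : i < 31671) : SQ.gN (φ (xE ^ n)) i = u10^[n] i :=
  (gN_pow_iter xE u10 gN_xE n i hi).1

/-- `n` normalises `⟨x⟩` -/
theorem hxn : xE * nE = nE * xE ^ 3 := by
  apply eq_of_gN
  intro i hi
  have h1 : u31 i < 31671 := u_lt real_31 hi
  have h2 : u10^[3] i < 31671 := (gN_pow_iter xE u10 gN_xE 3 i hi).2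
  rw [map_mul, map_mul, SQ.gN_mul, SQ.gN_mul, gN_nE i hi, gN_xE _ h1, gN_xE_pow 3 i hi,
    gN_nE _ h2]
  exact Nat.eq_of_beq_eq_true (nu_ok_all i hi)

theorem hzt : zE * tE = tE * zE := by
  apply eq_of_gN
  intro i hi
  rw [map_mul, map_mul, SQ.gN_mul, SQ.gN_mul, gN_tE i hi, gN_zE _ (u_lt real_32 hi),
    gN_zE i hi, gN_tE _ (u_lt real_43 hi)]
  exact Nat.eq_of_beq_eq_true (zt_comm_all i hi)

theorem harith_conj : ∀ j : ℕ, j < 17 → ∃ i : ℕ, (3 * i) % 17 = (3 * j + i) % 17 := by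
  intro j hj
  interval_cases j
  · exact ⟨0, rfl⟩
  · exact ⟨10, rfl⟩
  · exact ⟨3, rfl⟩
  · exact ⟨13, rfl⟩
  · exact ⟨6, rfl⟩
  · exact ⟨16, rfl⟩
  · exact ⟨9, rfl⟩
  · exact ⟨2, rfl⟩
  · exact ⟨12, rfl⟩
  · exact ⟨5, rfl⟩
  · exact ⟨15, rfl⟩
  · exact ⟨8, rfl⟩
  · exact ⟨1, rfl⟩
  · exact ⟨11, rfl⟩
  · exact ⟨4, rfl⟩
  · exact ⟨14, rfl⟩
  · exact ⟨7, rfl⟩

theorem hconj : ∀ j : ℕ, ∃ i : ℕ, xE ^ i * nE * (xE ^ i)⁻¹ = xE ^ j * nE :=
  OutG.conj_of_arith (by norm_num) xE_pow hxn harith_conj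

/-- a prefix of a relation pinning down `z` -/
noncomputable def P0 : Gp := xE

theorem gN_P0 (q : ℕ) (hq : q < 31671) : SQ.gN (φ P0) q = pre0 q := by
  unfold P0
  exact gN_xE q hq

theorem gN_Pz0 (q : ℕ) (hq : q < 31671) : SQ.gN (φ (P0 * zE)) q = pre0 (u43 q) := by
  rw [map_mul φ P0 zE, SQ.gN_mul, gN_zE q hq, gN_P0 _ (u_lt real_43 hq)]

theorem hrel0 : (P0 * zE) ^ 10 = 1 := by
  apply eq_one_of_gN
  intro i hi
  rw [(gN_pow_iter (P0 * zE) (fun q => pre0 (u43 q)) gN_Pz0 10 i hi).1]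
  exact Nat.eq_of_beq_eq_true (rel_0_all i hi)

/-- a prefix of a relation pinning down `z` -/
noncomputable def P1 : Gp := xE ^ 2 * nE

theorem gN_P1 (q : ℕ) (hq : q < 31671) : SQ.gN (φ P1) q = pre1 q := by
  unfold P1
  rw [map_mul, SQ.gN_mul, gN_nE q hq, (gN_pow_iter xE u10 gN_xE 2 _ (u_lt real_31 hq)).1]
  rfl

theorem gN_Pz1 (q : ℕ) (hq : q < 31671) : SQ.gN (φ (P1 * zE)) q = pre1 (u43 q) := by
  rw [map_mul φ P1 zE, SQ.gN_mul, gN_zE q hq, gN_P1 _ (u_lt real_43 hq)]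

theorem hrel1 : (P1 * zE) ^ 14 = 1 := by
  apply eq_one_of_gN
  intro i hi
  rw [(gN_pow_iter (P1 * zE) (fun q => pre1 (u43 q)) gN_Pz1 14 i hi).1]
  exact Nat.eq_of_beq_eq_true (rel_1_all i hi)

theorem exists_n : ∃ n : Gp, n * xE * n⁻¹ = xE ^ 3 := by
  refine ⟨nE⁻¹, ?_⟩
  calc nE⁻¹ * xE * nE⁻¹⁻¹ = nE⁻¹ * (xE * nE) := by group
    _ = nE⁻¹ * (nE * xE ^ 3) := by rw [hxn]
    _ = xE ^ 3 := by group

end Cfsg.Agent.Lib.Helper8.F3O
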