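import Cfsg.Agent.Lib.Helper8.F3O8

set_option autoImplicit false
set_option maxRecDepth 100000

/-! The outer automorphism group of the presented group (The Fischer group Fi23). -/

namespace Cfsg.Agent.Lib.Helper8.F3O

open Cfsg.Spor Cfsg.Agent.Lib.Helper4.TC Cfsg.Agent.Lib.Helper4.TCD Cfsg.Agent.Lib.Helper4.TC.Log

/-! ### the centraliser of `x` -/

theorem mem_of_xorbB (p : ℕ) (h : xorbB p = true) : p ∈ SQ.iterL u10 17 2 := by
  rw [xorb_eq]
  unfold xorbB at h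
  simp only [Bool.or_eq_true, or_assoc] at h
  have hb : ∀ a : ℕ, Nat.beq p a = true → p = a := fun a => Nat.eq_of_beq_eq_true
  rcases h with h | h | h | h | h | h | h | h | h | h | h | h | h | h | h | h | h
  all_goals (rw [hb _ h]; simp)

theorem centralizer_x (g : Gp) (hg : g * xE = xE * g) : ∃ i : ℕ, g = xE ^ i := by
  have hc : φ g * φ xE = φ xE * φ g := by rw [← map_mul, ← map_mul, hg]
  have h := SQ.transporter_test chainX u10 u10 (φ xE) (φ xE) gN_xE gN_xE 2 (by decide) baseX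
    (mem_Kp g) hc [1, u10 1] (by
      intro x hx
      simp only [List.mem_cons, List.not_mem_nil, or_false] at hx
      rcases hx with rfl | rfl
      · decide
      · exact u_lt real_10 (by decide))
  have hlt : SQ.gN (φ g) 2 < 31671 := SQ.gN_lt _ (by decide)
  have hp : passC (SQ.gN (φ g) 2) = true := by
    unfold passC
    have e : LsX.length = 8 := rfl
    rw [e] at h
    rw [h.1]
    show (Nat.beq (SQ.gN (φ g)⁻¹ (u10 1)) (u10 (SQ.gN (φ g)⁻¹ 1))) = true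
    rw [h.2 1 (by decide), Nat.beq_refl]
  have h2 := passC_all _ hlt
  rw [hp] at h2
  have h3 : xorbB (SQ.gN (φ g) 2) = true := by simpa using h2
  obtain ⟨j, hj⟩ := SQ.mem_iterL _ _ _ (mem_of_xorbB _ h3)
  refine ⟨j, ?_⟩
  apply φ_inj
  apply SQ.eq_of_commute chainX gN_xE (by decide : 2 < 31671) baseX (mem_Kp g) (mem_Kp _) hc
  · rw [← map_mul, ← map_mul]
    congr 1
    rw [← pow_succ, ← pow_succ']
  · rw [hj, gN_xE_pow j 2 (by decide)]

/-! ### the centraliser of `t` -/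

theorem FQ_eq (g : Gp) (hg : g * tE = tE * g) (q : ℕ) (hq : q < 31671) :
    FQ (SQ.gN (φ g) 2) q = SQ.gN (φ g⁻¹) q := by
  have hc : φ g * φ tE = φ tE * φ g := by rw [← map_mul, ← map_mul, hg]
  have h := SQ.transporter_test chainZ u32 u32 (φ tE) (φ tE) gN_tE gN_tE 2
    (by decide) baseZ (mem_Kp g) hc [q] (by
      intro x hx
      rw [List.mem_singleton] at hx
      rw [hx]; exact hq)
  unfold FQ
  have e : LsZ.length = 6 := rfl
  rw [e] at h
  rw [h.1, map_inv]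
  rfl

theorem comm_inv {g t : Gp} (hg : g * t = t * g) : g⁻¹ * t = t * g⁻¹ := by
  calc g⁻¹ * t = g⁻¹ * (t * g) * g⁻¹ := by group
    _ = g⁻¹ * (g * t) * g⁻¹ := by rw [hg]
    _ = t * g⁻¹ := by group

theorem itQ0_eq (g : Gp) (hg : g * tE = tE * g) :
    ∀ (k q : ℕ), q < 31671 → itQ0 (SQ.gN (φ g) 2) k q = SQ.gN (φ ((P0 * g⁻¹) ^ k)) q := by
  intro k
  induction k with
  | zero =>
    intro q _
    rw [pow_zero, map_one, SQ.gN_one]
    rfl
  | succ k ih =>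
    intro q hq
    have h1 : SQ.gN (φ g⁻¹) q < 31671 := SQ.gN_lt _ hq
    have e1 : pre0 (FQ (SQ.gN (φ g) 2) q) = SQ.gN (φ (P0 * g⁻¹)) q := by
      rw [FQ_eq g hg q hq, map_mul φ P0 g⁻¹, SQ.gN_mul, gN_P0 _ h1]
    have h2 : SQ.gN (φ (P0 * g⁻¹)) q < 31671 := SQ.gN_lt _ hq
    show itQ0 (SQ.gN (φ g) 2) k (pre0 (FQ (SQ.gN (φ g) 2) q)) = _
    rw [e1, ih _ h2, pow_succ, map_mul φ ((P0 * g⁻¹) ^ k) (P0 * g⁻¹), SQ.gN_mul]

theorem itQ1_eq (g : Gp) (hg : g * tE = tE * g) :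
    ∀ (k q : ℕ), q < 31671 → itQ1 (SQ.gN (φ g) 2) k q = SQ.gN (φ ((P1 * g⁻¹) ^ k)) q := by
  intro k
  induction k with
  | zero =>
    intro q _
    rw [pow_zero, map_one, SQ.gN_one]
    rfl
  | succ k ih =>
    intro q hq
    have h1 : SQ.gN (φ g⁻¹) q < 31671 := SQ.gN_lt _ hq
    have e1 : pre1 (FQ (SQ.gN (φ g) 2) q) = SQ.gN (φ (P1 * g⁻¹)) q := by
      rw [FQ_eq g hg q hq, map_mul φ P1 g⁻¹, SQ.gN_mul, gN_P1 _ h1]
    have h2 : SQ.gN (φ (P1 * g⁻¹)) q < 31671 := SQ.gN_lt _ hq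
    show itQ1 (SQ.gN (φ g) 2) k (pre1 (FQ (SQ.gN (φ g) 2) q)) = _
    rw [e1, ih _ h2, pow_succ, map_mul φ ((P1 * g⁻¹) ^ k) (P1 * g⁻¹), SQ.gN_mul]

theorem centralizer_t_test (g : Gp) (hg : g * tE = tE * g) (h0 : (P0 * g) ^ 10 = 1) (h1 : (P1 * g) ^ 14 = 1) : g = zE := by
  have hgi : g⁻¹ * tE = tE * g⁻¹ := comm_inv hg
  have hc : φ g⁻¹ * φ tE = φ tE * φ g⁻¹ := by rw [← map_mul, ← map_mul, hgi]
  have hlt : SQ.gN (φ g⁻¹) 2 < 31671 := SQ.gN_lt _ (by decide)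
  have h := SQ.transporter_test chainZ u32 u32 (φ tE) (φ tE) gN_tE gN_tE 2
    (by decide) baseZ (mem_Kp g⁻¹) hc [] (by intro x hx; exact absurd hx List.not_mem_nil)
  have hp : testQ (SQ.gN (φ g⁻¹) 2) = true := by
    unfold testQ
    have e : LsZ.length = 6 := rfl
    rw [e] at h
    rw [h.1, itQ0_eq g⁻¹ hgi 10 1 (by decide), inv_inv, h0, map_one, SQ.gN_one, itQ1_eq g⁻¹ hgi 14 1 (by decide), inv_inv, h1, map_one, SQ.gN_one]
    rfl
  have h2 := testQ_all _ hlt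
  rw [hp] at h2
  have h3 : SQ.gN (φ g⁻¹) 2 = 3159 := by
    have : Nat.beq (SQ.gN (φ g⁻¹) 2) 3159 = true := by simpa using h2
    exact Nat.eq_of_beq_eq_true this
  have h4 : SQ.gN (φ zE⁻¹) 2 = 3159 := by
    have e1 : SQ.gN (φ zE) 3159 = 2 := by rw [gN_zE 3159 (by decide)]; exact z_pz
    rw [← e1, ← SQ.gN_mul, ← map_mul, inv_mul_cancel, map_one, SQ.gN_one]
  have h5 : g⁻¹ = zE⁻¹ := by
    apply φ_inj
    apply SQ.eq_of_commute chainZ gN_tE (by decide : 2 < 31671) baseZ (mem_Kp g⁻¹) (mem_Kp _) hc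
    · rw [← map_mul, ← map_mul, comm_inv hzt]
    · rw [h3, h4]
  exact inv_injective h5

/-! ### generation -/

theorem wordP_single (l : ℕ) : wordP PFi23.P.gR [l] = PFi23.P.gR l := by
  rw [wordP_cons, wordP_nil, mul_one]

theorem gen_top : Subgroup.closure ({xE, nE, zE} : Set Gp) = ⊤ := by
  set H' : Subgroup Gp := Subgroup.closure ({xE, nE, zE} : Set Gp) with hH'
  have hx : SQ.Real (H'.map φ) u10 :=
    ⟨φ xE, Subgroup.mem_map_of_mem φ (Subgroup.subset_closure (by simp)), gN_xE⟩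
  have hn : SQ.Real (H'.map φ) u31 :=
    ⟨φ nE, Subgroup.mem_map_of_mem φ (Subgroup.subset_closure (by simp)), gN_nE⟩
  have hz : SQ.Real (H'.map φ) u43 :=
    ⟨φ zE, Subgroup.mem_map_of_mem φ (Subgroup.subset_closure (by simp)), gN_zE⟩
  have key : ∀ l, l < 10 → PFi23.P.gR l ∈ H' := by
    intro l hl
    have hr : SQ.Real (H'.map φ) (ub l) := by
      interval_cases l
      · exact real2_g0 _ hx hn hz
      · exact real2_g1 _ hx hn hz
      · exact real2_g2 _ hx hn hz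
      · exact real2_g3 _ hx hn hz
      · exact real2_g4 _ hx hn hz
      · exact real2_g5 _ hx hn hz
      · exact real2_g6 _ hx hn hz
      · exact real2_g7 _ hx hn hz
      · exact real2_g8 _ hx hn hz
      · exact real2_g9 _ hx hn hz
    obtain ⟨p, ⟨h, hh, rfl⟩, hp⟩ := hr
    have e : h = PFi23.P.gR l := by
      apply eq_of_gN
      intro i hi
      rw [hp i hi, ← wordP_single l,
        gN_word [l] (by intro y hy; rw [List.mem_singleton] at hy; omega) i hi]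
      rfl
    rw [← e]
    exact hh
  rw [eq_top_iff, ← PFi23.valid.gen_top, Subgroup.closure_le]
  rintro _ ⟨l, hl, rfl⟩
  exact key l hl

/-! ### the outer automorphism group -/

theorem hz (ψ : MulAut Gp) (hx : ψ xE = xE) (hn : ψ nE = nE) : ψ zE = zE := by
  have ht : ψ tE = tE := by rw [tE, map_pow, hn]
  apply centralizer_t_test
  · have := congrArg ψ hzt
    rwa [map_mul, map_mul, ht] at this
  · have := congrArg ψ hrel0
    have hP : ψ P0 = P0 := by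
      unfold P0
      simp only [map_mul, map_pow, hx, hn]
    rwa [map_pow, map_mul, map_one, hP] at this
  · have := congrArg ψ hrel1
    have hP : ψ P1 = P1 := by
      unfold P1
      simp only [map_mul, map_pow, hx, hn]
    rwa [map_pow, map_mul, map_one, hP] at this

theorem h2 (α : MulAut Gp) (hα : α xE = xE) : ∃ i : ℕ, α = MulAut.conj (xE ^ i) :=
  OutG.fix_inner' xE nE zE 3 centralizer_x hxn hconj hz gen_top α hα

theorem arith_p : ∀ j, j < 17 → j ≠ 0 → ∃ i, j = 3 ^ i % 17 ∨ j = 1 * 3 ^ i % 17 := by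
  intro j hj h0
  interval_cases j
  · exact absurd rfl h0
  · exact ⟨0, Or.inl rfl⟩
  · exact ⟨14, Or.inl rfl⟩
  · exact ⟨1, Or.inl rfl⟩
  · exact ⟨12, Or.inl rfl⟩
  · exact ⟨5, Or.inl rfl⟩
  · exact ⟨15, Or.inl rfl⟩
  · exact ⟨11, Or.inl rfl⟩
  · exact ⟨10, Or.inl rfl⟩
  · exact ⟨2, Or.inl rfl⟩
  · exact ⟨3, Or.inl rfl⟩
  · exact ⟨7, Or.inl rfl⟩
  · exact ⟨13, Or.inl rfl⟩
  · exact ⟨4, Or.inl rfl⟩
  · exact ⟨9, Or.inl rfl⟩
  · exact ⟨6, Or.inl rfl⟩
  · exact ⟨8, Or.inl rfl⟩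

theorem h1 (α : MulAut Gp) : ∃ k : Gp, α xE = k * xE * k⁻¹ := by
  have h := OutG.class_dichotomy 17 fact_p xE orderOf_xE (1 : MulAut Gp) 3 1 exists_n
    ⟨1, by simp⟩ arith_p α
  rcases h with h | ⟨k, hk⟩
  · exact h
  · exact ⟨k, by simpa using hk⟩

theorem card_out : Nat.card (Cfsg.Out Gp) = 1 :=
  OutG.card_out_one_of_fix xE h1 h2

end Cfsg.Agent.Lib.Helper8.F3O
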