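import Mathlib

set_option autoImplicit false

namespace Cfsg.Agent.Lib.Helper8.F3S

/-- product over the bits `< n` of `v` -/
def bprod {G : Type*} [Group G] (b : ℕ → G) : ℕ → ℕ → G
  | 0, _ => 1
  | n+1, v => bprod b n v * (if v.testBit n then b n else 1)

/-- xor-combination of the masks `m s` over the bits `s < n` of `v` -/
def lin (m : ℕ → ℕ) : ℕ → ℕ → ℕ
  | 0, _ => 0
  | n+1, v => lin m n v ^^^ (if v.testBit n then m n else 0)

section
variable {G : Type*} [Group G] (b : ℕ → G) (N : ℕ)

theorem bprod_zero (n : ℕ) : bprod b n 0 = 1 := by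
  induction n with
  | zero => rfl
  | succ n ih => simp [bprod, ih]

theorem bprod_commute (hbc : ∀ s < N, ∀ s' < N, b s * b s' = b s' * b s) (n : ℕ) (hn : n ≤ N) (v s : ℕ)
    (hs : s < N) : Commute (bprod b n v) (b s) := by
  induction n with
  | zero => exact Commute.one_left _
  | succ n ih =>
    have h1 := ih (by omega)
    rw [bprod]
    refine Commute.mul_left h1 ?_
    split_ifs
    · exact hbc n (by omega) s hs
    · exact Commute.one_left _

theorem bprod_commute' (hbc : ∀ s < N, ∀ s' < N, b s * b s' = b s' * b s) (n n' : ℕ) (hn : n ≤ N)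
    (hn' : n' ≤ N) (v v' : ℕ) : Commute (bprod b n v) (bprod b n' v') := by
  induction n' with
  | zero => exact Commute.one_right _
  | succ n' ih =>
    rw [bprod]
    refine Commute.mul_right (ih (by omega)) ?_
    split_ifs
    · exact bprod_commute b N hbc n hn v n' (by omega)
    · exact Commute.one_right _

theorem bprod_xor (hbc : ∀ s < N, ∀ s' < N, b s * b s' = b s' * b s) (hb2 : ∀ s < N, b s * b s = 1)
    (n : ℕ) (hn : n ≤ N) (v w : ℕ) : bprod b n (v ^^^ w) = bprod b n v * bprod b n w := by
  induction n with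
  | zero => simp [bprod]
  | succ n ih =>
    have h1 := ih (by omega)
    rw [bprod, bprod, bprod, h1, Nat.testBit_xor]
    have key : ∀ p q : Bool, (if (p ^^ q) = true then b n else 1) =
        (if p = true then b n else 1) * (if q = true then b n else 1) := by
      intro p q
      cases p <;> cases q <;> simp [hb2 n (by omega)]
    have hc : ∀ p : Bool, Commute (if p = true then b n else 1) (bprod b n w) := by
      intro p
      cases p
      · simp
      · simpa using (bprod_commute b N hbc n (by omega) w n (by omega)).symm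
    rw [key]
    have hx := (hc (v.testBit n)).eq
    set x : G := (if v.testBit n = true then b n else 1) with hxdef
    set y : G := (if w.testBit n = true then b n else 1) with hydef
    calc bprod b n v * bprod b n w * (x * y) = bprod b n v * (bprod b n w * x) * y := by
          simp only [mul_assoc]
      _ = bprod b n v * (x * bprod b n w) * y := by rw [hx]
      _ = bprod b n v * x * (bprod b n w * y) := by simp only [mul_assoc]

theorem bprod_two_pow (n s : ℕ) (hs : s < n) : bprod b n (2 ^ s) = b s := by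
  induction n with
  | zero => omega
  | succ n ih =>
    rw [bprod, Nat.testBit_two_pow]
    by_cases h : s = n
    · subst h
      have : ∀ m, m ≤ s → bprod b m (2 ^ s) = 1 := by
        intro m hm
        induction m with
        | zero => rfl
        | succ m ihm =>
          rw [bprod, Nat.testBit_two_pow, ihm (by omega)]
          have : ¬ (s = m) := by omega
          simp [this]
      rw [this s le_rfl]
      simp
    · rw [ih (by omega)]
      have : ¬ (s = n) := h
      simp [this]

theorem bprod_mod (n v : ℕ) : bprod b n (v % 2 ^ n) = bprod b n v := by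
  have : ∀ m, m ≤ n → bprod b m (v % 2 ^ n) = bprod b m v := by
    intro m hm
    induction m with
    | zero => rfl
    | succ m ih =>
      rw [bprod, bprod, ih (by omega), Nat.testBit_mod_two_pow]
      have : m < n := by omega
      simp [this]
  exact this n le_rfl

theorem bprod_sq (hbc : ∀ s < N, ∀ s' < N, b s * b s' = b s' * b s) (hb2 : ∀ s < N, b s * b s = 1)
    (v : ℕ) : bprod b N v * bprod b N v = 1 := by
  rw [← bprod_xor b N hbc hb2 N le_rfl, Nat.xor_self, bprod_zero]

theorem bprod_inv (hbc : ∀ s < N, ∀ s' < N, b s * b s' = b s' * b s) (hb2 : ∀ s < N, b s * b s = 1)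
    (v : ℕ) : (bprod b N v)⁻¹ = bprod b N v :=
  inv_eq_of_mul_eq_one_left (bprod_sq b N hbc hb2 v)

theorem bprod_mem (n v : ℕ) (hn : n ≤ N) : bprod b n v ∈ Subgroup.closure (b '' Set.Iio N) := by
  induction n with
  | zero => exact Subgroup.one_mem _
  | succ n ih =>
    rw [bprod]
    refine Subgroup.mul_mem _ (ih (by omega)) ?_
    split_ifs
    · exact Subgroup.subset_closure ⟨n, by simp only [Set.mem_Iio]; omega, rfl⟩
    · exact Subgroup.one_mem _

theorem exists_bprod (hbc : ∀ s < N, ∀ s' < N, b s * b s' = b s' * b s) (hb2 : ∀ s < N, b s * b s = 1)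
    (g : G) (hg : g ∈ Subgroup.closure (b '' Set.Iio N)) : ∃ v, v < 2 ^ N ∧ bprod b N v = g := by
  induction hg using Subgroup.closure_induction with
  | mem x hx =>
    obtain ⟨s, hs, rfl⟩ := hx
    exact ⟨2 ^ s, Nat.pow_lt_pow_right (by norm_num) hs, bprod_two_pow b N s hs⟩
  | one => exact ⟨0, by positivity, bprod_zero b N⟩
  | mul x y _ _ hx hy =>
    obtain ⟨v, hv, rfl⟩ := hx
    obtain ⟨w, hw, rfl⟩ := hy
    exact ⟨v ^^^ w, Nat.xor_lt_two_pow hv hw, bprod_xor b N hbc hb2 N le_rfl v w⟩
  | inv x _ hx =>
    obtain ⟨v, hv, rfl⟩ := hx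
    exact ⟨v, hv, (bprod_inv b N hbc hb2 v).symm⟩

theorem bprod_inj (hbc : ∀ s < N, ∀ s' < N, b s * b s' = b s' * b s) (hb2 : ∀ s < N, b s * b s = 1)
    (hker : ∀ v < 2 ^ N, bprod b N v = 1 → v = 0) (v w : ℕ) (hv : v < 2 ^ N) (hw : w < 2 ^ N)
    (h : bprod b N v = bprod b N w) : v = w := by
  have h1 : bprod b N (v ^^^ w) = 1 := by
    rw [bprod_xor b N hbc hb2 N le_rfl, h, bprod_sq b N hbc hb2]
  have := hker _ (Nat.xor_lt_two_pow hv hw) h1
  exact Nat.xor_eq_zero_iff.1 this

theorem lin_lt (m : ℕ → ℕ) (K : ℕ) (hm : ∀ s, m s < 2 ^ K) (n v : ℕ) : lin m n v < 2 ^ K := by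
  induction n with
  | zero => exact Nat.pos_of_ne_zero (by positivity)
  | succ n ih =>
    rw [lin]
    refine Nat.xor_lt_two_pow ih ?_
    split_ifs
    · exact hm n
    · exact Nat.pos_of_ne_zero (by positivity)

theorem conj_bprod (hbc : ∀ s < N, ∀ s' < N, b s * b s' = b s' * b s) (hb2 : ∀ s < N, b s * b s = 1)
    (g : G) (m : ℕ → ℕ) (hg : ∀ s < N, g * b s * g⁻¹ = bprod b N (m s)) (n : ℕ) (hn : n ≤ N) (v : ℕ) :
    g * bprod b n v * g⁻¹ = bprod b N (lin m n v) := by
  induction n with
  | zero => simp [bprod, lin, bprod_zero]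
  | succ n ih =>
    rw [bprod, lin, bprod_xor b N hbc hb2 N le_rfl, ← ih (by omega)]
    have : g * (bprod b n v * if v.testBit n = true then b n else 1) * g⁻¹ =
        (g * bprod b n v * g⁻¹) * (g * (if v.testBit n = true then b n else 1) * g⁻¹) := by group
    rw [this]
    congr 1
    split_ifs
    · exact hg n (by omega)
    · simp [bprod_zero]

end

end Cfsg.Agent.Lib.Helper8.F3S
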