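import Cfsg.Agent.Lib.Helper8.F3S0

set_option autoImplicit false

namespace Cfsg.Agent.Lib.Helper8.F3S

/-- the action table of a word in the three generators -/
def tabW (sg : ℕ → ℕ → ℕ) : List ℕ → ℕ → ℕ
  | [], j => j
  | k :: w, j => sg k (tabW sg w j)

/-- the word acts as an involution -/
def isInv (sg : ℕ → ℕ → ℕ) (w : List ℕ) : Prop := ∀ j < 23, tabW sg w (tabW sg w j) = j

/-- the word does not act trivially -/
def nonId (sg : ℕ → ℕ → ℕ) (w : List ℕ) : Prop := ∃ j < 23, tabW sg w j ≠ j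

/-- the masks of the action of a word on `Q` -/
def mW (co bas : ℕ → ℕ) (sg : ℕ → ℕ → ℕ) (w : List ℕ) (s : ℕ) : ℕ := co (tabW sg w (bas s))

/-- the vector `v` is fixed by the word -/
def fixQ (co bas : ℕ → ℕ) (sg : ℕ → ℕ → ℕ) (w : List ℕ) (v : ℕ) : Prop := lin (mW co bas sg w) 11 v = v

instance (co bas : ℕ → ℕ) (sg : ℕ → ℕ → ℕ) (w : List ℕ) (v : ℕ) : Decidable (fixQ co bas sg w v) := by
  unfold fixQ; infer_instance

section Main
variable {G : Type*} [Group G] (b t : ℕ → G) (co bas : ℕ → ℕ) (sg : ℕ → ℕ → ℕ) (W : List (List ℕ))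

/-- the 23 commuting involutions -/
def dd (j : ℕ) : G := bprod b 11 (co j)

structure Hyp : Prop where
  hb2 : ∀ s < 11, b s * b s = 1
  hbc : ∀ s < 11, ∀ s' < 11, b s * b s' = b s' * b s
  hker : ∀ v < 2 ^ 11, bprod b 11 v = 1 → v = 0
  ht : ∀ k < 3, ∀ s < 11, t k * b s * (t k)⁻¹ = bprod b 11 (co (sg k (bas s)))
  ht2 : ∀ k < 3, t k * t k = 1
  d1 : ∀ s < 11, bas s < 23 ∧ co (bas s) = 2 ^ s
  d2 : ∀ j < 23, co j < 2 ^ 11
  d2' : ∀ j < 23, ∀ j' < 23, co j = co j' → j = j'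
  d3 : ∀ k < 3, ∀ j < 23, sg k j < 23 ∧ sg k (sg k j) = j ∧
    lin (fun s => co (sg k (bas s))) 11 (co j) = co (sg k j)
  d4a : [] ∈ W
  d4b : ∀ w ∈ W, ∀ k < 3, ∃ w' ∈ W, ∀ j < 23, tabW sg (k :: w) j = tabW sg w' j
  d4c : ∀ w ∈ W, ∀ k ∈ w, k < 3
  d5 : ∀ w ∈ W, ∀ w' ∈ W, (∀ j < 23, tabW sg w j = tabW sg w' j) → w = w'
  d5n : W.Nodup
  d5l : W.length = 128
  d6 : ∀ w ∈ W, isInv sg w → nonId sg w →
    ((List.range 23).filter (fun j => tabW sg w j = j)).length = 7 ∧
    ((List.range (2 ^ 11)).filter (fun v => fixQ co bas sg w v)).length ≤ 128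
  d7 : ∀ w ∈ W, ∀ w' ∈ W, isInv sg w → nonId sg w → isInv sg w' → nonId sg w' →
    (∃ j < 23, tabW sg w j ≠ tabW sg w' j) →
    ∃ v < 2 ^ 11, ¬ (fixQ co bas sg w v ↔ fixQ co bas sg w' v)

variable {b t co bas sg W}

/-- the elementary abelian subgroup -/
def QQ (b : ℕ → G) : Subgroup G := Subgroup.closure (b '' Set.Iio 11)

/-- the subgroup generated by `Q` and the three lifts -/
def RR (b t : ℕ → G) : Subgroup G := Subgroup.closure (b '' Set.Iio 11 ∪ t '' Set.Iio 3)

theorem QQ_le_RR : QQ b ≤ RR b t := Subgroup.closure_mono Set.subset_union_left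

theorem dd_mem (j : ℕ) : dd b co j ∈ QQ b := bprod_mem b 11 11 _ le_rfl

theorem dd_bas (H : Hyp b t co bas sg W) (s : ℕ) (hs : s < 11) : dd b co (bas s) = b s := by
  rw [dd, (H.d1 s hs).2, bprod_two_pow b 11 s hs]

theorem dd_inj (H : Hyp b t co bas sg W) (j j' : ℕ) (hj : j < 23) (hj' : j' < 23)
    (h : dd b co j = dd b co j') : j = j' :=
  H.d2' j hj j' hj' (bprod_inj b 11 H.hbc H.hb2 H.hker _ _ (H.d2 j hj) (H.d2 j' hj') h)

theorem tabW_lt (H : Hyp b t co bas sg W) (w : List ℕ) (hw : ∀ k ∈ w, k < 3) (j : ℕ) (hj : j < 23) :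
    tabW sg w j < 23 := by
  induction w with
  | nil => exact hj
  | cons k w ih =>
    exact (H.d3 k (hw k List.mem_cons_self) _ (ih fun k' hk' => hw k' (List.mem_cons_of_mem _ hk'))).1

theorem conj_t (H : Hyp b t co bas sg W) (k : ℕ) (hk : k < 3) (j : ℕ) (hj : j < 23) :
    t k * dd b co j * (t k)⁻¹ = dd b co (sg k j) := by
  rw [dd, conj_bprod b 11 H.hbc H.hb2 (t k) (fun s => co (sg k (bas s))) (H.ht k hk) 11 le_rfl,
    (H.d3 k hk j hj).2.2, dd]

theorem conj_b (H : Hyp b t co bas sg W) (s : ℕ) (hs : s < 11) (j : ℕ) :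
    b s * dd b co j * (b s)⁻¹ = dd b co j := by
  have := (bprod_commute b 11 H.hbc 11 le_rfl (co j) s hs).eq
  rw [dd, ← this, mul_inv_cancel_right]

/-- every element of `R` permutes the `d j` according to the table of a word in `W` -/
theorem exists_word (H : Hyp b t co bas sg W) (g : G) (hg : g ∈ RR b t) :
    ∃ w ∈ W, ∀ j < 23, g * dd b co j * g⁻¹ = dd b co (tabW sg w j) := by
  induction hg using Subgroup.closure_induction_left with
  | one => exact ⟨[], H.d4a, fun j _ => by simp [tabW]⟩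
  | mul_left x hx y _ ih =>
    obtain ⟨w, hw, hy⟩ := ih
    have e : ∀ j, x * y * dd b co j * (x * y)⁻¹ = x * (y * dd b co j * y⁻¹) * x⁻¹ := by
      intro j; group
    rcases hx with ⟨s, hs, rfl⟩ | ⟨k, hk, rfl⟩
    · refine ⟨w, hw, fun j hj => ?_⟩
      rw [e, hy j hj, conj_b H s hs]
    · obtain ⟨w', hw', h'⟩ := H.d4b w hw k hk
      refine ⟨w', hw', fun j hj => ?_⟩
      rw [e, hy j hj, conj_t H k hk _ (tabW_lt H w (H.d4c w hw) j hj), ← h' j hj]
      rfl
  | inv_mul_cancel x hx y _ ih =>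
    obtain ⟨w, hw, hy⟩ := ih
    have e : ∀ j, x⁻¹ * y * dd b co j * (x⁻¹ * y)⁻¹ = x⁻¹ * (y * dd b co j * y⁻¹) * x⁻¹⁻¹ := by
      intro j; group
    rcases hx with ⟨s, hs, rfl⟩ | ⟨k, hk, rfl⟩
    · refine ⟨w, hw, fun j hj => ?_⟩
      have hi : (b s)⁻¹ = b s := inv_eq_of_mul_eq_one_left (H.hb2 s hs)
      rw [e, hy j hj, hi, conj_b H s hs]
    · obtain ⟨w', hw', h'⟩ := H.d4b w hw k hk
      refine ⟨w', hw', fun j hj => ?_⟩
      have hi : (t k)⁻¹ = t k := inv_eq_of_mul_eq_one_left (H.ht2 k hk)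
      rw [e, hy j hj, hi, conj_t H k hk _ (tabW_lt H w (H.d4c w hw) j hj), ← h' j hj]
      rfl


section Act
variable (H : Hyp b t co bas sg W)

/-- a word describing the action of an element of `R` -/
noncomputable def wordOf (g : ↥(RR b t)) : List ℕ := Classical.choose (exists_word H g.1 g.2)

theorem wordOf_mem (g : ↥(RR b t)) : wordOf H g ∈ W := (Classical.choose_spec (exists_word H g.1 g.2)).1

theorem wordOf_spec (g : ↥(RR b t)) (j : ℕ) (hj : j < 23) :
    (g : G) * dd b co j * (g : G)⁻¹ = dd b co (tabW sg (wordOf H g) j) :=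
  (Classical.choose_spec (exists_word H g.1 g.2)).2 j hj

/-- the action on the indices -/
noncomputable def actF (g : ↥(RR b t)) : Function.End (Fin 23) := fun j =>
  ⟨tabW sg (wordOf H g) j, tabW_lt H _ (H.d4c _ (wordOf_mem H g)) j j.2⟩

theorem actF_spec (g : ↥(RR b t)) (j : Fin 23) :
    (g : G) * dd b co j * (g : G)⁻¹ = dd b co (actF H g j : Fin 23) := wordOf_spec H g j j.2

theorem actF_unique (g : ↥(RR b t)) (f : Fin 23 → Fin 23)
    (hf : ∀ j : Fin 23, (g : G) * dd b co j * (g : G)⁻¹ = dd b co (f j)) : actF H g = f := by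
  funext j
  apply Fin.ext
  exact dd_inj H _ _ (actF H g j).2 (f j).2 ((actF_spec H g j).symm.trans (hf j))

/-- the action as a homomorphism to the symmetric group -/
noncomputable def psi : ↥(RR b t) →* Equiv.Perm (Fin 23) :=
  MonoidHom.toHomPerm
    { toFun := actF H
      map_one' := by
        apply actF_unique
        intro j
        simp only [OneMemClass.coe_one, one_mul, inv_one, mul_one]
        rfl
      map_mul' := by
        intro g g'
        apply actF_unique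
        intro j
        have : ((g * g' : ↥(RR b t)) : G) * dd b co j * ((g * g' : ↥(RR b t)) : G)⁻¹ =
            (g : G) * ((g' : G) * dd b co j * (g' : G)⁻¹) * (g : G)⁻¹ := by
          rw [Subgroup.coe_mul]; group
        rw [this, actF_spec H g' j, actF_spec H g]
        rfl }

theorem psi_apply (g : ↥(RR b t)) (j : Fin 23) : psi H g j = actF H g j := rfl

theorem psi_spec (g : ↥(RR b t)) (j : Fin 23) :
    (g : G) * dd b co j * (g : G)⁻¹ = dd b co (psi H g j : Fin 23) := actF_spec H g j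

theorem psi_eq_of (g : ↥(RR b t)) (a : Equiv.Perm (Fin 23))
    (h : ∀ j : Fin 23, (g : G) * dd b co j * (g : G)⁻¹ = dd b co (a j)) : psi H g = a := by
  apply Equiv.ext
  intro j
  rw [psi_apply, actF_unique H g a h]

theorem psi_table (g : ↥(RR b t)) : ∃ w ∈ W, ∀ j : Fin 23, ((psi H g j : Fin 23) : ℕ) = tabW sg w j :=
  ⟨wordOf H g, wordOf_mem H g, fun _ => rfl⟩


/-- the product of the lifts along a word -/
def tword (t : ℕ → G) (w : List ℕ) : G := (w.map t).prod

theorem tword_mem (w : List ℕ) (hw : ∀ k ∈ w, k < 3) : tword t w ∈ RR b t := by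
  induction w with
  | nil => exact Subgroup.one_mem _
  | cons k w ih =>
    rw [tword, List.map_cons, List.prod_cons]
    refine Subgroup.mul_mem _ (Subgroup.subset_closure (Or.inr ⟨k, hw k List.mem_cons_self, rfl⟩)) ?_
    exact ih fun k' hk' => hw k' (List.mem_cons_of_mem _ hk')

include H in
theorem tword_act (w : List ℕ) (hw : ∀ k ∈ w, k < 3) (j : ℕ) (hj : j < 23) :
    tword t w * dd b co j * (tword t w)⁻¹ = dd b co (tabW sg w j) := by
  induction w with
  | nil => simp [tword, tabW]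
  | cons k w ih =>
    have hw' : ∀ k' ∈ w, k' < 3 := fun k' hk' => hw k' (List.mem_cons_of_mem _ hk')
    have e : tword t (k :: w) = t k * tword t w := by rw [tword, List.map_cons, List.prod_cons]; rfl
    have : t k * tword t w * dd b co j * (t k * tword t w)⁻¹ =
        t k * (tword t w * dd b co j * (tword t w)⁻¹) * (t k)⁻¹ := by group
    rw [e, this, ih hw', conj_t H k (hw k List.mem_cons_self) _ (tabW_lt H w hw' j hj)]
    rfl

theorem card_range_psi : Nat.card (psi H).range = 128 := by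
  classical
  have hW : Nat.card {w // w ∈ W} = 128 := by
    rw [Nat.card_eq_fintype_card, Fintype.card_of_subtype W.toFinset (fun w => List.mem_toFinset),
      List.toFinset_card_of_nodup H.d5n, H.d5l]
  rw [← hW]
  symm
  let F : {w // w ∈ W} → (psi H).range := fun w =>
    ⟨psi H ⟨tword t w.1, tword_mem w.1 (H.d4c w.1 w.2)⟩, ⟨_, rfl⟩⟩
  have hF : ∀ w : {w // w ∈ W}, ∀ j : Fin 23,
      (((F w : (psi H).range) : Equiv.Perm (Fin 23)) j : ℕ) = tabW sg w.1 j := by
    intro w j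
    have h1 := psi_spec H ⟨tword t w.1, tword_mem w.1 (H.d4c w.1 w.2)⟩ j
    have h2 := tword_act H w.1 (H.d4c w.1 w.2) j j.2
    exact dd_inj H _ _ (Fin.is_lt _) (tabW_lt H w.1 (H.d4c w.1 w.2) j j.2) (h1.symm.trans h2)
  apply Nat.card_eq_of_bijective F
  constructor
  · intro w w' h
    apply Subtype.ext
    apply H.d5 w.1 w.2 w'.1 w'.2
    intro j hj
    have := hF w ⟨j, hj⟩
    rw [h, hF w' ⟨j, hj⟩] at this
    exact this.symm
  · rintro ⟨a, g, rfl⟩
    obtain ⟨w, hw, hwt⟩ := psi_table H g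
    refine ⟨⟨w, hw⟩, ?_⟩
    apply Subtype.ext
    apply Equiv.ext
    intro j
    apply Fin.ext
    rw [hF ⟨w, hw⟩ j, hwt j]

end Act

end Main

end Cfsg.Agent.Lib.Helper8.F3S
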