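import Cfsg.Agent.Lib.Helper8.F3S0b

set_option autoImplicit false

namespace Cfsg.Agent.Lib.Helper8.F3S

theorem card_filter_range (n : ℕ) (p : ℕ → Prop) [DecidablePred p] :
    ((Finset.range n).filter p).card = ((List.range n).filter (fun j => decide (p j))).length := by
  rw [Finset.card_def, Finset.filter_val, Finset.range_val, Multiset.range, Multiset.filter_coe,
    Multiset.coe_card]

theorem card_fin_filter (n : ℕ) (p : ℕ → Prop) [DecidablePred p] :
    Nat.card {v : Fin n // p v} = ((List.range n).filter (fun j => decide (p j))).length := by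
  classical
  rw [← card_filter_range, ← Nat.card_eq_finsetCard]
  apply Nat.card_congr
  exact
    { toFun := fun v => ⟨v.1.1, Finset.mem_filter.2 ⟨Finset.mem_range.2 v.1.2, v.2⟩⟩
      invFun := fun j => ⟨⟨j.1, Finset.mem_range.1 (Finset.mem_filter.1 j.2).1⟩,
        (Finset.mem_filter.1 j.2).2⟩
      left_inv := fun v => rfl
      right_inv := fun j => rfl }

theorem two_mul_card_le {G : Type*} [Group G] (K C : Subgroup G) [Finite C] (h : K ≤ C) (hne : K ≠ C) :
    2 * Nat.card K ≤ Nat.card C := by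
  have : Finite K := Finite.of_injective (Subgroup.inclusion h) (Subgroup.inclusion_injective h)
  obtain ⟨q, hq⟩ := Subgroup.card_dvd_of_le h
  have hlt : Nat.card K < Nat.card C := by
    rcases lt_or_ge (Nat.card K) (Nat.card C) with h1 | h1
    · exact h1
    · exact absurd (Subgroup.eq_of_le_of_card_ge h h1) hne
  have hKpos : 0 < Nat.card K := Nat.card_pos
  rw [hq] at hlt ⊢
  have : 2 ≤ q := by
    by_contra hq2
    interval_cases q
    · simp at hlt
    · simp at hlt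
  nlinarith

theorem fact2 (e k : ℕ) (hk : Odd k) : (2 ^ e * k).factorization 2 = e := by
  have hk0 : k ≠ 0 := by rintro rfl; simp at hk
  rw [Nat.factorization_mul (by positivity) hk0, Nat.Prime.factorization_pow Nat.prime_two]
  have : k.factorization 2 = 0 := by
    apply Nat.factorization_eq_zero_of_not_dvd
    rw [← even_iff_two_dvd, Nat.not_even_iff_odd]
    exact hk
  simp [this]


section Main
variable {G : Type*} [Group G] {b t : ℕ → G} {co bas : ℕ → ℕ} {sg : ℕ → ℕ → ℕ} {W : List (List ℕ)}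
variable (H : Hyp b t co bas sg W)
include H

theorem card_QQ : Nat.card (QQ b) = 2 ^ 11 := by
  have : Nat.card (Fin (2 ^ 11)) = 2 ^ 11 := by simp
  rw [← this]
  symm
  let F : Fin (2 ^ 11) → QQ b := fun v => ⟨bprod b 11 v, bprod_mem b 11 11 v le_rfl⟩
  apply Nat.card_eq_of_bijective F
  constructor
  · intro v w h
    apply Fin.ext
    exact bprod_inj b 11 H.hbc H.hb2 H.hker v w v.2 w.2 (congrArg Subtype.val h)
  · rintro ⟨g, hg⟩
    obtain ⟨v, hv, rfl⟩ := exists_bprod b 11 H.hbc H.hb2 g hg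
    exact ⟨⟨v, hv⟩, rfl⟩

theorem QQ_comm (x y : G) (hx : x ∈ QQ b) (hy : y ∈ QQ b) : x * y = y * x := by
  obtain ⟨v, _, rfl⟩ := exists_bprod b 11 H.hbc H.hb2 x hx
  obtain ⟨w, _, rfl⟩ := exists_bprod b 11 H.hbc H.hb2 y hy
  exact (bprod_commute' b 11 H.hbc 11 11 le_rfl le_rfl v w).eq

theorem QQ_sq (x : G) (hx : x ∈ QQ b) : x ^ 2 = 1 := by
  obtain ⟨v, _, rfl⟩ := exists_bprod b 11 H.hbc H.hb2 x hx
  rw [pow_two]
  exact bprod_sq b 11 H.hbc H.hb2 v

/-- the masks of the conjugation action of an element of `R` -/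
noncomputable def mG (g : ↥(RR b t)) (s : ℕ) : ℕ := co (psi H g ⟨bas s % 23, Nat.mod_lt _ (by norm_num)⟩)

theorem conj_RR (g : ↥(RR b t)) (v : ℕ) :
    (g : G) * bprod b 11 v * (g : G)⁻¹ = bprod b 11 (lin (mG H g) 11 v) := by
  refine conj_bprod b 11 H.hbc H.hb2 _ _ ?_ 11 le_rfl v
  intro s hs
  have h1 := psi_spec H g ⟨bas s, (H.d1 s hs).1⟩
  rw [← dd_bas H s hs]
  simp only at h1
  rw [h1, mG, dd]
  congr 3
  apply Fin.ext
  simp [Nat.mod_eq_of_lt (H.d1 s hs).1]

theorem mG_lt (g : ↥(RR b t)) (s : ℕ) : mG H g s < 2 ^ 11 := H.d2 _ (Fin.is_lt _)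

theorem conj_mem_QQ (g : G) (hg : g ∈ RR b t) (x : G) (hx : x ∈ QQ b) : g * x * g⁻¹ ∈ QQ b := by
  obtain ⟨v, _, rfl⟩ := exists_bprod b 11 H.hbc H.hb2 x hx
  have := conj_RR H ⟨g, hg⟩ v
  simp only at this
  rw [this]
  exact bprod_mem b 11 11 _ le_rfl

theorem QQ_le_ker (x : ↥(RR b t)) (hx : (x : G) ∈ QQ b) : x ∈ (psi H).ker := by
  rw [MonoidHom.mem_ker]
  apply psi_eq_of
  intro j
  rw [Equiv.Perm.one_apply, QQ_comm H _ _ hx (dd_mem j), mul_inv_cancel_right]

theorem mem_ker_iff (x : ↥(RR b t)) : x ∈ (psi H).ker ↔ ∀ j < 23, (x : G) * dd b co j = dd b co j * (x : G) := by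
  rw [MonoidHom.mem_ker]
  constructor
  · intro h j hj
    have := psi_spec H x ⟨j, hj⟩
    rw [h, Equiv.Perm.one_apply] at this
    simp only at this
    calc (x : G) * dd b co j = (x : G) * dd b co j * (x : G)⁻¹ * (x : G) := by group
      _ = dd b co j * (x : G) := by rw [this]
  · intro h
    apply psi_eq_of
    intro j
    rw [Equiv.Perm.one_apply, h j j.2, mul_inv_cancel_right]


/-- `Q` as a subgroup of `R` -/
def QR (b t : ℕ → G) : Subgroup ↥(RR b t) := (QQ b).subgroupOf (RR b t)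

theorem card_QR : Nat.card (QR b t) = 2 ^ 11 := by
  rw [← card_QQ H]
  exact Nat.card_congr (Subgroup.subgroupOfEquivOfLe QQ_le_RR).toEquiv

theorem QR_le_ker : QR b t ≤ (psi H).ker := fun x hx => QQ_le_ker H x hx

theorem QR_normal : (QR b t).Normal := by
  constructor
  intro x hx g
  show ((g * x * g⁻¹ : ↥(RR b t)) : G) ∈ QQ b
  rw [Subgroup.coe_mul, Subgroup.coe_mul, Subgroup.coe_inv]
  exact conj_mem_QQ H g g.2 x hx

section Fin
variable [Finite G] (m0 : ℕ) (hcard : Nat.card G = 2 ^ 18 * m0) (hm0 : Odd m0)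
include hcard hm0

theorem card_facts : ∃ k, Odd k ∧ Nat.card (psi H).ker = 2 ^ 11 * k ∧ Nat.card ↥(RR b t) = 2 ^ 18 * k := by
  have h1 : Nat.card ↥(RR b t) = Nat.card (psi H).ker * 128 := by
    rw [Subgroup.card_eq_card_quotient_mul_card_subgroup (psi H).ker,
      Nat.card_congr (QuotientGroup.quotientKerEquivRange (psi H)).toEquiv, card_range_psi H, mul_comm]
  have h2 : 2 ^ 11 ∣ Nat.card (psi H).ker := by
    rw [← card_QR H]
    exact Subgroup.card_dvd_of_le (QR_le_ker H)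
  have h3 : Nat.card ↥(RR b t) ∣ Nat.card G := Subgroup.card_subgroup_dvd_card _
  obtain ⟨k, hk⟩ := h2
  refine ⟨k, ?_, hk, by rw [h1, hk]; ring⟩
  rw [h1, hk, hcard] at h3
  have : 2 ^ 18 * k ∣ 2 ^ 18 * m0 := by
    have e : 2 ^ 11 * k * 128 = 2 ^ 18 * k := by ring
    rwa [e] at h3
  have hk' : k ∣ m0 := (Nat.mul_dvd_mul_iff_left (by positivity)).1 this
  exact Odd.of_dvd_nat hm0 hk'

end Fin


section Syl
variable [Finite G] (m0 : ℕ) (hcard : Nat.card G = 2 ^ 18 * m0) (hm0 : Odd m0) (P : Sylow 2 ↥(RR b t))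
include hcard hm0

theorem card_P : Nat.card P = 2 ^ 18 := by
  obtain ⟨k, hk, -, h2⟩ := card_facts H m0 hcard hm0
  rw [Sylow.card_eq_multiplicity, h2, fact2 18 k hk]

theorem isPGroup_QR : IsPGroup 2 (QR b t) := IsPGroup.of_card (card_QR H)

omit hcard hm0 in
theorem QR_le_P : QR b t ≤ P := by
  have := QR_normal H
  have h1 : IsPGroup 2 ((P : Subgroup ↥(RR b t)) ⊔ QR b t : Subgroup ↥(RR b t)) :=
    IsPGroup.to_sup_of_normal_right P.2 (IsPGroup.of_card (card_QR H))
  have h2 := P.is_maximal' h1 le_sup_left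
  calc QR b t ≤ (P : Subgroup ↥(RR b t)) ⊔ QR b t := le_sup_right
    _ = P := h2

theorem P_inf_ker_le : (P : Subgroup ↥(RR b t)) ⊓ (psi H).ker ≤ QR b t := by
  have := QR_normal H
  obtain ⟨k, hk, h1, -⟩ := card_facts H m0 hcard hm0
  set X : Subgroup ↥(RR b t) := ((P : Subgroup ↥(RR b t)) ⊓ (psi H).ker) ⊔ QR b t with hX
  have hXp : IsPGroup 2 X :=
    IsPGroup.to_sup_of_normal_right (P.2.to_le inf_le_left) (IsPGroup.of_card (card_QR H))
  have hXk : X ≤ (psi H).ker := sup_le inf_le_right (QR_le_ker H)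
  obtain ⟨e, he⟩ := IsPGroup.iff_card.1 hXp
  have hd : Nat.card X ∣ Nat.card (psi H).ker := Subgroup.card_dvd_of_le hXk
  rw [he, h1] at hd
  have he11 : e ≤ 11 := by
    have hc : Nat.Coprime (2 ^ e) k := Nat.Coprime.pow_left _ (Nat.coprime_two_left.2 hk)
    have := hc.dvd_of_dvd_mul_right hd
    exact (Nat.pow_dvd_pow_iff_le_right (by norm_num)).1 this
  have hXQ : X = QR b t := by
    symm
    apply Subgroup.eq_of_le_of_card_ge le_sup_right
    rw [he, card_QR H]
    exact Nat.pow_le_pow_right (by norm_num) he11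
  calc (P : Subgroup ↥(RR b t)) ⊓ (psi H).ker ≤ X := le_sup_left
    _ = QR b t := hXQ

end Syl

end Main

end Cfsg.Agent.Lib.Helper8.F3S
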