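import Cfsg.Agent.Lib.Helper8.F3S0c

set_option autoImplicit false

namespace Cfsg.Agent.Lib.Helper8.F3S

theorem burnside16 (A : Subgroup (Equiv.Perm (Fin 23)))
    (h : ∀ a ∈ A, a ≠ 1 → Nat.card {j : Fin 23 // a j = j} = 7) : Nat.card A ∣ 16 := by
  classical
  have : Fintype A := Fintype.ofFinite _
  have : ∀ a : A, Fintype (MulAction.fixedBy (Fin 23) a) := fun a => Fintype.ofFinite _
  have : Fintype (Quotient (MulAction.orbitRel A (Fin 23))) := Fintype.ofFinite _
  have hB := MulAction.sum_card_fixedBy_eq_card_orbits_mul_card_group A (Fin 23)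
  have h1 : ∀ a : A, a ≠ 1 → Fintype.card (MulAction.fixedBy (Fin 23) a) = 7 := by
    intro a ha
    rw [← Nat.card_eq_fintype_card]
    have := h a.1 a.2 (fun h1 => ha (Subtype.ext h1))
    rw [← this]
    rfl
  have h0 : Fintype.card (MulAction.fixedBy (Fin 23) (1 : A)) = 23 := by
    rw [← Nat.card_eq_fintype_card]
    have : MulAction.fixedBy (Fin 23) (1 : A) = Set.univ := by
      ext j; simp
    rw [this, Nat.card_coe_set_eq, Set.ncard_univ]
    simp
  rw [← Finset.add_sum_erase Finset.univ _ (Finset.mem_univ (1 : A)), h0] at hB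
  have h2 : ∑ a ∈ Finset.univ.erase (1 : A), Fintype.card (MulAction.fixedBy (Fin 23) a) =
      7 * (Fintype.card A - 1) := by
    rw [Finset.sum_congr rfl (fun a ha => h1 a (Finset.ne_of_mem_erase ha)), Finset.sum_const,
      Finset.card_erase_of_mem (Finset.mem_univ _), Finset.card_univ, smul_eq_mul, mul_comm]
  rw [h2] at hB
  rw [Nat.card_eq_fintype_card]
  set n := Fintype.card A with hn
  set c := Fintype.card (Quotient (MulAction.orbitRel A (Fin 23))) with hc
  have hn1 : 1 ≤ n := Fintype.card_pos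
  have e : 16 + 7 * n = c * n := by
    have : 7 * (n - 1) + 7 = 7 * n := by
      have : n - 1 + 1 = n := by omega
      calc 7 * (n - 1) + 7 = 7 * (n - 1 + 1) := by ring
        _ = 7 * n := by rw [this]
    omega
  have : n ∣ 16 + 7 * n := ⟨c, by rw [e, mul_comm]⟩
  exact (Nat.dvd_add_left (Dvd.intro_left 7 rfl)).1 this


theorem lin_congr (m m' : ℕ → ℕ) (n v : ℕ) (h : ∀ s < n, m s = m' s) : lin m n v = lin m' n v := by
  induction n with
  | zero => rfl
  | succ n ih =>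
    rw [lin, lin, ih (fun s hs => h s (by omega)), h n (by omega)]

theorem lin_lt' (m : ℕ → ℕ) (K n v : ℕ) (hm : ∀ s < n, m s < 2 ^ K) : lin m n v < 2 ^ K := by
  induction n with
  | zero => exact Nat.pos_of_ne_zero (by positivity)
  | succ n ih =>
    rw [lin]
    refine Nat.xor_lt_two_pow (ih fun s hs => hm s (by omega)) ?_
    split_ifs
    · exact hm n (by omega)
    · exact Nat.pos_of_ne_zero (by positivity)

section Main
variable {G : Type*} [Group G] {b t : ℕ → G} {co bas : ℕ → ℕ} {sg : ℕ → ℕ → ℕ} {W : List (List ℕ)}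
variable (H : Hyp b t co bas sg W)
include H

theorem psi_val (r : ↥(RR b t)) (j : ℕ) (hj : j < 23) :
    ((psi H r ⟨j, hj⟩ : Fin 23) : ℕ) = tabW sg (wordOf H r) j := rfl

theorem lin_mG (r : ↥(RR b t)) (v : ℕ) : lin (mG H r) 11 v = lin (mW co bas sg (wordOf H r)) 11 v := by
  apply lin_congr
  intro s hs
  rw [mG, mW]
  congr 1
  have h1 := (H.d1 s hs).1
  have : (⟨bas s % 23, Nat.mod_lt _ (by norm_num)⟩ : Fin 23) = ⟨bas s, h1⟩ := by
    apply Fin.ext
    exact Nat.mod_eq_of_lt h1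
  rw [this, psi_val]

/-- commuting with `r` in terms of the fixed vectors -/
theorem comm_iff_fixQ (r : ↥(RR b t)) (v : ℕ) (hv : v < 2 ^ 11) :
    (r : G) * bprod b 11 v = bprod b 11 v * (r : G) ↔ fixQ co bas sg (wordOf H r) v := by
  have h1 := conj_RR H r v
  rw [lin_mG] at h1
  unfold fixQ
  constructor
  · intro h
    have h2 : (r : G) * bprod b 11 v * (r : G)⁻¹ = bprod b 11 v := by
      rw [h, mul_inv_cancel_right]
    rw [h1] at h2
    refine bprod_inj b 11 H.hbc H.hb2 H.hker _ _ (lin_lt' _ 11 11 v fun s hs => ?_) hv h2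
    exact H.d2 _ (tabW_lt H _ (H.d4c _ (wordOf_mem H r)) _ (H.d1 s hs).1)
  · intro h
    rw [h] at h1
    calc (r : G) * bprod b 11 v = (r : G) * bprod b 11 v * (r : G)⁻¹ * (r : G) := by group
      _ = bprod b 11 v * (r : G) := by rw [h1]


theorem inv_nonId (r : ↥(RR b t)) (h2 : psi H r * psi H r = 1) (h1 : psi H r ≠ 1) :
    isInv sg (wordOf H r) ∧ nonId sg (wordOf H r) := by
  constructor
  · intro j hj
    have := congrArg (fun a : Equiv.Perm (Fin 23) => ((a ⟨j, hj⟩ : Fin 23) : ℕ)) h2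
    simp only [Equiv.Perm.mul_apply, Equiv.Perm.one_apply] at this
    have e : psi H r ⟨j, hj⟩ = ⟨tabW sg (wordOf H r) j, tabW_lt H _ (H.d4c _ (wordOf_mem H r)) j hj⟩ :=
      Fin.ext (psi_val H r j hj)
    rw [e, psi_val] at this
    exact this
  · by_contra hc
    apply h1
    apply Equiv.ext
    intro j
    apply Fin.ext
    rw [Equiv.Perm.one_apply]
    by_contra hne
    exact hc ⟨j, j.2, by rwa [← psi_val H r j j.2]⟩

theorem card_fix7 (r : ↥(RR b t)) (h2 : psi H r * psi H r = 1) (h1 : psi H r ≠ 1) :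
    Nat.card {j : Fin 23 // psi H r j = j} = 7 := by
  obtain ⟨hi, hn⟩ := inv_nonId H r h2 h1
  rw [← (H.d6 _ (wordOf_mem H r) hi hn).1, ← card_fin_filter 23 (fun j => tabW sg (wordOf H r) j = j)]
  apply Nat.card_congr
  apply Equiv.subtypeEquivRight
  intro j
  rw [Fin.ext_iff, psi_val]

/-- the centraliser in `Q` of an element of `R` -/
def centQ (b : ℕ → G) (r : G) : Subgroup G := QQ b ⊓ Subgroup.centralizer {r}

omit H in
theorem mem_centQ (r x : G) : x ∈ centQ b r ↔ x ∈ QQ b ∧ r * x = x * r := by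
  rw [centQ, Subgroup.mem_inf, Subgroup.mem_centralizer_iff]
  simp only [Set.mem_singleton_iff, forall_eq]

theorem card_centQ_le (r : ↥(RR b t)) (h2 : psi H r * psi H r = 1) (h1 : psi H r ≠ 1) :
    Nat.card (centQ b (r : G)) ≤ 128 := by
  obtain ⟨hi, hn⟩ := inv_nonId H r h2 h1
  refine le_trans ?_ (H.d6 _ (wordOf_mem H r) hi hn).2
  rw [← card_fin_filter (2 ^ 11) (fun v => fixQ co bas sg (wordOf H r) v)]
  let F : {v : Fin (2 ^ 11) // fixQ co bas sg (wordOf H r) v} → centQ b (r : G) := fun v =>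
    ⟨bprod b 11 v.1, (mem_centQ _ _).2 ⟨bprod_mem b 11 11 _ le_rfl, (comm_iff_fixQ H r v.1 v.1.2).2 v.2⟩⟩
  apply Nat.card_le_card_of_surjective F
  rintro ⟨x, hx⟩
  obtain ⟨hxQ, hxr⟩ := (mem_centQ _ _).1 hx
  obtain ⟨v, hv, rfl⟩ := exists_bprod b 11 H.hbc H.hb2 x hxQ
  exact ⟨⟨⟨v, hv⟩, (comm_iff_fixQ H r v hv).1 hxr⟩, rfl⟩

theorem centQ_ne (r r' : ↥(RR b t)) (h2 : psi H r * psi H r = 1) (h1 : psi H r ≠ 1)
    (h2' : psi H r' * psi H r' = 1) (h1' : psi H r' ≠ 1) (hne : psi H r ≠ psi H r') :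
    centQ b (r : G) ≠ centQ b (r' : G) := by
  obtain ⟨hi, hn⟩ := inv_nonId H r h2 h1
  obtain ⟨hi', hn'⟩ := inv_nonId H r' h2' h1'
  have hj : ∃ j < 23, tabW sg (wordOf H r) j ≠ tabW sg (wordOf H r') j := by
    by_contra hc
    apply hne
    apply Equiv.ext
    intro j
    apply Fin.ext
    rw [psi_val, psi_val]
    by_contra hx
    exact hc ⟨j, j.2, hx⟩
  obtain ⟨v, hv, hvf⟩ := H.d7 _ (wordOf_mem H r) _ (wordOf_mem H r') hi hn hi' hn' hj
  intro heq
  apply hvf
  rw [← comm_iff_fixQ H r v hv, ← comm_iff_fixQ H r' v hv]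
  have hm : bprod b 11 v ∈ QQ b := bprod_mem b 11 11 _ le_rfl
  constructor
  · intro h
    have : bprod b 11 v ∈ centQ b (r : G) := (mem_centQ _ _).2 ⟨hm, h⟩
    rw [heq] at this
    exact ((mem_centQ _ _).1 this).2
  · intro h
    have : bprod b 11 v ∈ centQ b (r' : G) := (mem_centQ _ _).2 ⟨hm, h⟩
    rw [← heq] at this
    exact ((mem_centQ _ _).1 this).2

theorem card_centQ_inf_le [Finite G] (r r' : ↥(RR b t)) (h2 : psi H r * psi H r = 1) (h1 : psi H r ≠ 1)
    (h2' : psi H r' * psi H r' = 1) (h1' : psi H r' ≠ 1) (hne : psi H r ≠ psi H r') :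
    Nat.card (centQ b (r : G) ⊓ centQ b (r' : G) : Subgroup G) ≤ 64 := by
  have hne' := centQ_ne H r r' h2 h1 h2' h1' hne
  by_cases hc : centQ b (r : G) ⊓ centQ b (r' : G) = centQ b (r : G)
  · have hc' : centQ b (r : G) ⊓ centQ b (r' : G) ≠ centQ b (r' : G) := by
      intro h
      exact hne' (hc.symm.trans h)
    have := two_mul_card_le _ _ (inf_le_right : centQ b (r : G) ⊓ centQ b (r' : G) ≤ _) hc'
    have := card_centQ_le H r' h2' h1'
    omega
  · have := two_mul_card_le _ _ (inf_le_left : centQ b (r : G) ⊓ centQ b (r' : G) ≤ _) hc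
    have := card_centQ_le H r h2 h1
    omega

end Main

end Cfsg.Agent.Lib.Helper8.F3S
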