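import Cfsg.Agent.Lib.Helper8.F3S0d
import Cfsg.Prelude.Def_Transfer

set_option autoImplicit false

namespace Cfsg.Agent.Lib.Helper8.F3S

section Transfer

variable {G : Type*} [Group G]

theorem ea_comm {A : Subgroup G} (h : Cfsg.IsElementaryAbelian 2 A) (x y : G) (hx : x ∈ A) (hy : y ∈ A) :
    x * y = y * x := by
  have := h.1.is_comm.comm ⟨x, hx⟩ ⟨y, hy⟩
  exact congrArg Subtype.val this

theorem ea_of {A : Subgroup G} (hc : ∀ x ∈ A, ∀ y ∈ A, x * y = y * x) (hs : ∀ x ∈ A, x ^ 2 = 1) :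
    Cfsg.IsElementaryAbelian 2 A :=
  ⟨⟨⟨fun x y => Subtype.ext (hc x.1 x.2 y.1 y.2)⟩⟩, hs⟩

/-- the conjugate `g⁻¹ A g` -/
def cjs (g : G) (A : Subgroup G) : Subgroup G := A.comap (MulAut.conj g).toMonoidHom

theorem mem_cjs (g : G) (A : Subgroup G) (x : G) : x ∈ cjs g A ↔ g * x * g⁻¹ ∈ A := Iff.rfl

theorem cjs_mono (g : G) {A B : Subgroup G} (h : A ≤ B) : cjs g A ≤ cjs g B := Subgroup.comap_mono h

theorem card_cjs (g : G) (A : Subgroup G) : Nat.card (cjs g A) = Nat.card A := by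
  refine Nat.card_congr ⟨fun x => ⟨g * x.1 * g⁻¹, x.2⟩, fun y => ⟨g⁻¹ * y.1 * g, ?_⟩, ?_, ?_⟩
  · rw [mem_cjs]
    have : g * (g⁻¹ * y.1 * g) * g⁻¹ = y.1 := by group
    rw [this]
    exact y.2
  · intro x
    apply Subtype.ext
    show g⁻¹ * (g * x.1 * g⁻¹) * g = x.1
    group
  · intro y
    apply Subtype.ext
    show g * (g⁻¹ * y.1 * g) * g⁻¹ = y.1
    group

theorem ea_cjs (g : G) (A : Subgroup G) (h : Cfsg.IsElementaryAbelian 2 A) :
    Cfsg.IsElementaryAbelian 2 (cjs g A) := by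
  apply ea_of
  · intro x hx y hy
    have : (g * x * g⁻¹) * (g * y * g⁻¹) = (g * y * g⁻¹) * (g * x * g⁻¹) :=
      ea_comm h _ _ ((mem_cjs g A x).1 hx) ((mem_cjs g A y).1 hy)
    have e1 : x * y = g⁻¹ * ((g * x * g⁻¹) * (g * y * g⁻¹)) * g := by group
    have e2 : y * x = g⁻¹ * ((g * y * g⁻¹) * (g * x * g⁻¹)) * g := by group
    rw [e1, e2, this]
  · intro x hx
    have : (g * x * g⁻¹) ^ 2 = 1 := h.2 _ ((mem_cjs g A x).1 hx)
    have e : x ^ 2 = g⁻¹ * (g * x * g⁻¹) ^ 2 * g := by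
      rw [pow_two, pow_two]
      group
    rw [e, this]
    group

theorem cjs_inv_cjs (g : G) (A : Subgroup G) : cjs g⁻¹ (cjs g A) = A := by
  ext x
  rw [mem_cjs, mem_cjs]
  have : g * (g⁻¹ * x * g⁻¹⁻¹) * g⁻¹ = x := by group
  rw [this]

theorem good_of_cjs [Finite G] (g : G) (T Q : Subgroup G)
    (h1 : ∀ A : Subgroup G, A ≤ cjs g T → Cfsg.IsElementaryAbelian 2 A → ¬ A ≤ Q → Nat.card A ≤ 2 ^ 10)
    (hQ1 : Q ≤ cjs g T) (hQn : ∀ q ∈ Q, ∀ x ∈ cjs g T, x * q * x⁻¹ ∈ Q)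
    (hQea : Cfsg.IsElementaryAbelian 2 Q) (hQc : Nat.card Q = 2 ^ 11) :
    (∀ A : Subgroup G, A ≤ T → (A.subgroupOf T).Normal → Cfsg.IsElementaryAbelian 2 A →
        Nat.card A ≤ 2 ^ 11) ∧
    ∃! A : Subgroup G, A ≤ T ∧ (A.subgroupOf T).Normal ∧ Cfsg.IsElementaryAbelian 2 A ∧
        Nat.card A = 2 ^ 11 := by
  have key : ∀ A : Subgroup G, A ≤ T → Cfsg.IsElementaryAbelian 2 A → ¬ cjs g A ≤ Q →
      Nat.card A ≤ 2 ^ 10 := by
    intro A hA hea hn
    rw [← card_cjs g A]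
    exact h1 _ (cjs_mono g hA) (ea_cjs g A hea) hn
  constructor
  · intro A hA _ hea
    by_cases hq : cjs g A ≤ Q
    · rw [← card_cjs g A, ← hQc]
      exact Subgroup.card_le_of_le hq
    · exact le_trans (key A hA hea hq) (by norm_num)
  · have hAT : cjs g⁻¹ Q ≤ T := by
      intro x hx
      have : g * (g⁻¹ * x * g⁻¹⁻¹) * g⁻¹ ∈ T := (mem_cjs g T _).1 (hQ1 ((mem_cjs g⁻¹ Q x).1 hx))
      have e : g * (g⁻¹ * x * g⁻¹⁻¹) * g⁻¹ = x := by group
      rwa [e] at this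
    refine ⟨cjs g⁻¹ Q, ⟨hAT, ?_, ea_cjs g⁻¹ Q hQea, by rw [card_cjs, hQc]⟩, ?_⟩
    · rw [Subgroup.normal_subgroupOf_iff hAT]
      intro h k hh hk
      have hh : g⁻¹ * h * g⁻¹⁻¹ ∈ Q := (mem_cjs g⁻¹ Q h).1 hh
      show g⁻¹ * (k * h * k⁻¹) * g⁻¹⁻¹ ∈ Q
      have hx : g⁻¹ * k * g⁻¹⁻¹ ∈ cjs g T := by
        rw [mem_cjs]
        have e : g * (g⁻¹ * k * g⁻¹⁻¹) * g⁻¹ = k := by group
        rwa [e]
      have := hQn _ hh _ hx
      have e : g⁻¹ * (k * h * k⁻¹) * g⁻¹⁻¹ =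
          g⁻¹ * k * g⁻¹⁻¹ * (g⁻¹ * h * g⁻¹⁻¹) * (g⁻¹ * k * g⁻¹⁻¹)⁻¹ := by group
      rwa [e]
    · rintro A ⟨hA, -, hea, hc⟩
      have hq : cjs g A ≤ Q := by
        by_contra hn
        have := key A hA hea hn
        rw [hc] at this
        norm_num at this
      have : cjs g A = Q := by
        apply Subgroup.eq_of_le_of_card_ge hq
        rw [card_cjs, hc, hQc]
      rw [← this, cjs_inv_cjs]

end Transfer

section KL
variable {G : Type*} [Group G] {b t : ℕ → G} {co bas : ℕ → ℕ} {sg : ℕ → ℕ → ℕ} {W : List (List ℕ)}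
variable (H : Hyp b t co bas sg W)
variable [Finite G] (m0 : ℕ) (hcard : Nat.card G = 2 ^ 18 * m0) (hm0 : Odd m0) (P : Sylow 2 ↥(RR b t))

/-- a Sylow `2`-subgroup of `R`, seen in `G` -/
def T0 (P : Sylow 2 ↥(RR b t)) : Subgroup G := (P : Subgroup ↥(RR b t)).map (RR b t).subtype

include H hcard hm0

theorem KL (A : Subgroup G) (hA : A ≤ T0 P) (hcomm : ∀ x ∈ A, ∀ y ∈ A, x * y = y * x)
    (hsq : ∀ x ∈ A, x ^ 2 = 1) (hnot : ¬ A ≤ QQ b) : Nat.card A ≤ 2 ^ 10 := by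
  have hT0R : T0 P ≤ RR b t := by
    rintro x ⟨y, _, rfl⟩
    exact y.2
  have hAR : A ≤ RR b t := hA.trans hT0R
  set AR : Subgroup ↥(RR b t) := A.subgroupOf (RR b t) with hARdef
  have hcardAR : Nat.card AR = Nat.card A :=
    Nat.card_congr (Subgroup.subgroupOfEquivOfLe hAR).toEquiv
  have hARP : AR ≤ P := by
    intro x hx
    obtain ⟨y, hy, hyx⟩ := hA (Subgroup.mem_subgroupOf.1 hx)
    have : y = x := Subtype.ext hyx
    rwa [← this]
  let ρ : AR →* Equiv.Perm (Fin 23) := (psi H).comp AR.subtype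
  have hfac : Nat.card AR = Nat.card ρ.range * Nat.card ρ.ker := by
    rw [Subgroup.card_eq_card_quotient_mul_card_subgroup ρ.ker,
      Nat.card_congr (QuotientGroup.quotientKerEquivRange ρ).toEquiv]
  have hinv : ∀ x ∈ AR, psi H x * psi H x = 1 := by
    intro x hx
    rw [← map_mul]
    have : x * x = 1 := by
      apply Subtype.ext
      have := hsq _ (Subgroup.mem_subgroupOf.1 hx)
      rw [pow_two] at this
      exact this
    rw [this, map_one]
  have hdvd : Nat.card ρ.range ∣ 16 := by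
    apply burnside16
    rintro a ⟨x, rfl⟩ ha
    exact card_fix7 H x.1 (hinv x.1 x.2) ha
  have hle16 : Nat.card ρ.range ≤ 16 := Nat.le_of_dvd (by norm_num) hdvd
  have hker : ∀ x : AR, x ∈ ρ.ker → ((x : ↥(RR b t)) : G) ∈ QQ b := by
    intro x hx
    have h1 : (x : ↥(RR b t)) ∈ (P : Subgroup ↥(RR b t)) ⊓ (psi H).ker := ⟨hARP x.2, hx⟩
    exact P_inf_ker_le H m0 hcard hm0 P h1
  by_cases h1 : ∀ x ∈ AR, psi H x = 1
  · exfalso
    apply hnot
    intro a ha
    have hm : (⟨a, hAR ha⟩ : ↥(RR b t)) ∈ AR := Subgroup.mem_subgroupOf.2 ha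
    exact hker ⟨⟨a, hAR ha⟩, hm⟩ (MonoidHom.mem_ker.2 (h1 _ hm))
  · push Not at h1
    obtain ⟨r, hr, hr1⟩ := h1
    by_cases h2 : ∀ x ∈ AR, psi H x = 1 ∨ psi H x = psi H r
    · have hk : Nat.card ρ.ker ≤ 128 := by
        refine le_trans ?_ (card_centQ_le H r (hinv r hr) hr1)
        let F : ρ.ker → centQ b (r : G) := fun x =>
          ⟨((x : AR) : ↥(RR b t)), (mem_centQ _ _).2 ⟨hker x.1 x.2,
            hcomm _ (Subgroup.mem_subgroupOf.1 hr) _ (Subgroup.mem_subgroupOf.1 x.1.2)⟩⟩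
        apply Nat.card_le_card_of_injective F
        intro x y hxy
        apply Subtype.ext
        apply Subtype.ext
        apply Subtype.ext
        have h3 : ((F x).1 : G) = (F y).1 := by rw [hxy]
        exact h3
      have hr2 : Nat.card ρ.range ≤ 2 := by
        classical
        let F : ρ.range → Bool := fun y => decide ((y : Equiv.Perm (Fin 23)) = 1)
        have hF : Function.Injective F := by
          intro y y' hyy
          obtain ⟨x, hx⟩ := y.2
          obtain ⟨x', hx'⟩ := y'.2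
          apply Subtype.ext
          have e : ((y : Equiv.Perm (Fin 23)) = 1) ↔ ((y' : Equiv.Perm (Fin 23)) = 1) := by
            simpa [F] using hyy
          have hy := h2 x.1 x.2
          have hy' := h2 x'.1 x'.2
          have ex : psi H x.1 = y := hx
          have ex' : psi H x'.1 = y' := hx'
          rw [ex] at hy
          rw [ex'] at hy'
          rcases hy with hy | hy
          · rw [hy, e.1 hy]
          · rcases hy' with hy' | hy'
            · rw [hy', e.2 hy']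
            · rw [hy, hy']
        have := Nat.card_le_card_of_injective F hF
        simpa using this
      calc Nat.card A = Nat.card ρ.range * Nat.card ρ.ker := by rw [← hcardAR, hfac]
        _ ≤ 2 * 128 := Nat.mul_le_mul hr2 hk
        _ ≤ 2 ^ 10 := by norm_num
    · push Not at h2
      obtain ⟨r', hr', hr'1, hr'r⟩ := h2
      have hk : Nat.card ρ.ker ≤ 64 := by
        refine le_trans ?_
          (card_centQ_inf_le H r r' (hinv r hr) hr1 (hinv r' hr') hr'1 (Ne.symm hr'r))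
        let F : ρ.ker → (centQ b (r : G) ⊓ centQ b (r' : G) : Subgroup G) := fun x =>
          ⟨((x : AR) : ↥(RR b t)), ⟨(mem_centQ _ _).2 ⟨hker x.1 x.2,
            hcomm _ (Subgroup.mem_subgroupOf.1 hr) _ (Subgroup.mem_subgroupOf.1 x.1.2)⟩,
            (mem_centQ _ _).2 ⟨hker x.1 x.2,
            hcomm _ (Subgroup.mem_subgroupOf.1 hr') _ (Subgroup.mem_subgroupOf.1 x.1.2)⟩⟩⟩
        apply Nat.card_le_card_of_injective F
        intro x y hxy
        apply Subtype.ext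
        apply Subtype.ext
        apply Subtype.ext
        have h3 : ((F x).1 : G) = (F y).1 := by rw [hxy]
        exact h3
      calc Nat.card A = Nat.card ρ.range * Nat.card ρ.ker := by rw [← hcardAR, hfac]
        _ ≤ 16 * 64 := Nat.mul_le_mul hle16 hk
        _ ≤ 2 ^ 10 := by norm_num

theorem card_T0 : Nat.card (T0 P) = 2 ^ 18 := by
  rw [T0, Subgroup.card_map_of_injective (Subgroup.subtype_injective _)]
  exact card_P H m0 hcard hm0 P

omit P in
theorem main (T : Sylow 2 G) :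
    (∀ A : Subgroup G, A ≤ T → (A.subgroupOf T).Normal → Cfsg.IsElementaryAbelian 2 A →
        Nat.card A ≤ 2 ^ 11) ∧
    ∃! A : Subgroup G, A ≤ T ∧ (A.subgroupOf T).Normal ∧ Cfsg.IsElementaryAbelian 2 A ∧
        Nat.card A = 2 ^ 11 := by
  have : Fact (Nat.Prime 2) := ⟨Nat.prime_two⟩
  obtain ⟨P⟩ : Nonempty (Sylow 2 ↥(RR b t)) := inferInstance
  have hc := card_T0 H m0 hcard hm0 P
  have hf : (Nat.card G).factorization 2 = 18 := by rw [hcard, fact2 18 m0 hm0]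
  let T0S : Sylow 2 G := Sylow.ofCard (T0 P) (by rw [hc, hf])
  obtain ⟨g, hg⟩ := MulAction.exists_smul_eq G T0S T
  have hT0 : cjs g (T : Subgroup G) = T0 P := by
    ext y
    rw [mem_cjs, ← hg, Sylow.coe_subgroup_smul, Subgroup.mem_pointwise_smul_iff_inv_smul_mem,
      MulAut.smul_def, MulAut.conj_inv_apply]
    have e : g⁻¹ * (g * y * g⁻¹) * g = y := by group
    rw [e]
    rfl
  have hT0R : T0 P ≤ RR b t := by
    rintro x ⟨y, _, rfl⟩
    exact y.2
  apply good_of_cjs g (T : Subgroup G) (QQ b)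
  · intro A hA hea hn
    rw [hT0] at hA
    exact KL H m0 hcard hm0 P A hA (fun x hx y hy => ea_comm hea x y hx hy) hea.2 hn
  · rw [hT0]
    intro x hx
    exact ⟨⟨x, QQ_le_RR hx⟩, QR_le_P H P (Subgroup.mem_subgroupOf.2 hx), rfl⟩
  · intro q hq x hx
    rw [hT0] at hx
    exact conj_mem_QQ H x (hT0R hx) q hq
  · exact ea_of (fun x hx y hy => QQ_comm H x y hx hy) (fun x hx => QQ_sq H x hx)
  · exact card_QQ H

end KL

end Cfsg.Agent.Lib.Helper8.F3S
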