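import Cfsg.Agent.Lib.Helper8.F3S1a
import Cfsg.Agent.Lib.Helper8.F3S1b
import Cfsg.Agent.Lib.Helper8.F3S1c
import Cfsg.Agent.Lib.Helper8.F3S1d
import Cfsg.Agent.Lib.Helper8.F3S1e
import Cfsg.Agent.Lib.Helper8.F3O1

set_option autoImplicit false
set_option maxRecDepth 100000
set_option Elab.async false

/-! Fi23 on 31671 points: the tables for S2652 (generated). -/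

namespace Cfsg.Agent.Lib.Helper8.F3S

/-- the tables of the eleven basis involutions -/
def vb (s x : ℕ) : ℕ := @Bool.rec (fun _ => Nat) (@Bool.rec (fun _ => Nat) (@Bool.rec (fun _ => Nat) (vv0 x) (vv1 x) (Nat.ble 1 s)) (@Bool.rec (fun _ => Nat) (vv2 x) (@Bool.rec (fun _ => Nat) (vv3 x) (vv4 x) (Nat.ble 4 s)) (Nat.ble 3 s)) (Nat.ble 2 s)) (@Bool.rec (fun _ => Nat) (@Bool.rec (fun _ => Nat) (vv5 x) (@Bool.rec (fun _ => Nat) (vv6 x) (vv7 x) (Nat.ble 7 s)) (Nat.ble 6 s)) (@Bool.rec (fun _ => Nat) (vv8 x) (@Bool.rec (fun _ => Nat) (vv9 x) (vv10 x) (Nat.ble 10 s)) (Nat.ble 9 s)) (Nat.ble 8 s)) (Nat.ble 5 s)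
/-- the tables of the three lifts -/
def vt (k x : ℕ) : ℕ := @Bool.rec (fun _ => Nat) (vv11 x) (@Bool.rec (fun _ => Nat) (vv12 x) (vv13 x) (Nat.ble 2 k)) (Nat.ble 1 k)
/-- the action of a word in the generators -/
def actV (w : List ℕ) (i : ℕ) : ℕ := w.foldr (fun k acc => F3O.ub k acc) i
def WW0 : List ℕ := [0]
def nst0 (x : ℕ) : ℕ := F3O.u0 (x)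
def WW1 : List ℕ := [2]
def nst1 (x : ℕ) : ℕ := F3O.u2 (x)
def WW2 : List ℕ := [4]
def nst2 (x : ℕ) : ℕ := F3O.u4 (x)
def WW3 : List ℕ := [6]
def nst3 (x : ℕ) : ℕ := F3O.u6 (x)
def WW4 : List ℕ := [8]
def nst4 (x : ℕ) : ℕ := F3O.u8 (x)
def WW5 : List ℕ := [5, 4, 1, 4, 3, 5, 4, 8, 3, 2, 1, 2, 3, 8, 4, 5, 3, 4, 1, 4, 5]
def nst5 (x : ℕ) : ℕ := F3O.u5 (F3O.u4 (F3O.u1 (F3O.u4 (F3O.u3 (F3O.u5 (F3O.u4 (F3O.u8 (F3O.u3 (F3O.u2 (F3O.u1 (F3O.u2 (F3O.u3 (F3O.u8 (F3O.u4 (F3O.u5 (F3O.u3 (F3O.u4 (F3O.u1 (F3O.u4 (F3O.u5 (x)))))))))))))))))))))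
def WW6 : List ℕ := [1, 2, 3, 8, 7, 5, 7, 6, 8, 3, 2, 4, 3, 5, 4, 8, 3, 2, 1, 2, 3, 8, 4, 5, 3, 4, 2, 3, 8, 6, 7, 5, 7, 8, 3, 2, 1]
def nst6 (x : ℕ) : ℕ := F3O.u1 (F3O.u2 (F3O.u3 (F3O.u8 (F3O.u7 (F3O.u5 (F3O.u7 (F3O.u6 (F3O.u8 (F3O.u3 (F3O.u2 (F3O.u4 (F3O.u3 (F3O.u5 (F3O.u4 (F3O.u8 (F3O.u3 (F3O.u2 (F3O.u1 (F3O.u2 (F3O.u3 (F3O.u8 (F3O.u4 (F3O.u5 (F3O.u3 (F3O.u4 (F3O.u2 (F3O.u3 (F3O.u8 (F3O.u6 (F3O.u7 (F3O.u5 (F3O.u7 (F3O.u8 (F3O.u3 (F3O.u2 (F3O.u1 (x)))))))))))))))))))))))))))))))))))))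
def WW7 : List ℕ := [7, 6, 5, 4, 3, 2, 1, 8, 3, 2, 4, 3, 5, 4, 6, 5, 7, 6, 8, 3, 2, 4, 3, 5, 4, 8, 3, 2, 1, 2, 3, 8, 4, 5, 3, 4, 2, 3, 8, 6, 7, 5, 6, 4, 5, 3, 4, 2, 3, 8, 1, 2, 3, 4, 5, 6, 7]
def nst7 (x : ℕ) : ℕ := F3O.u7 (F3O.u6 (F3O.u5 (F3O.u4 (F3O.u3 (F3O.u2 (F3O.u1 (F3O.u8 (F3O.u3 (F3O.u2 (F3O.u4 (F3O.u3 (F3O.u5 (F3O.u4 (F3O.u6 (F3O.u5 (F3O.u7 (F3O.u6 (F3O.u8 (F3O.u3 (F3O.u2 (F3O.u4 (F3O.u3 (F3O.u5 (F3O.u4 (F3O.u8 (F3O.u3 (F3O.u2 (F3O.u1 (F3O.u2 (F3O.u3 (F3O.u8 (F3O.u4 (F3O.u5 (F3O.u3 (F3O.u4 (F3O.u2 (F3O.u3 (F3O.u8 (F3O.u6 (F3O.u7 (F3O.u5 (F3O.u6 (F3O.u4 (F3O.u5 (F3O.u3 (F3O.u4 (F3O.u2 (F3O.u3 (F3O.u8 (F3O.u1 (F3O.u2 (F3O.u3 (F3O.u4 (F3O.u5 (F3O.u6 (F3O.u7 (x)))))))))))))))))))))))))))))))))))))))))))))))))))))))))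
def WW8 : List ℕ := [7, 6, 5, 4, 1, 2, 3, 8, 0, 8, 3, 2, 4, 3, 5, 4, 6, 5, 7, 6, 8, 3, 2, 4, 3, 5, 4, 8, 3, 2, 1, 2, 3, 8, 4, 5, 3, 4, 2, 3, 8, 6, 7, 5, 6, 4, 5, 3, 4, 2, 3, 8, 0, 8, 3, 2, 1, 4, 5, 6, 7]
def nst8 (x : ℕ) : ℕ := F3O.u7 (F3O.u6 (F3O.u5 (F3O.u4 (F3O.u1 (F3O.u2 (F3O.u3 (F3O.u8 (F3O.u0 (F3O.u8 (F3O.u3 (F3O.u2 (F3O.u4 (F3O.u3 (F3O.u5 (F3O.u4 (F3O.u6 (F3O.u5 (F3O.u7 (F3O.u6 (F3O.u8 (F3O.u3 (F3O.u2 (F3O.u4 (F3O.u3 (F3O.u5 (F3O.u4 (F3O.u8 (F3O.u3 (F3O.u2 (F3O.u1 (F3O.u2 (F3O.u3 (F3O.u8 (F3O.u4 (F3O.u5 (F3O.u3 (F3O.u4 (F3O.u2 (F3O.u3 (F3O.u8 (F3O.u6 (F3O.u7 (F3O.u5 (F3O.u6 (F3O.u4 (F3O.u5 (F3O.u3 (F3O.u4 (F3O.u2 (F3O.u3 (F3O.u8 (F3O.u0 (F3O.u8 (F3O.u3 (F3O.u2 (F3O.u1 (F3O.u4 (F3O.u5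 (F3O.u6 (F3O.u7 (x)))))))))))))))))))))))))))))))))))))))))))))))))))))))))))))
def WW9 : List ℕ := [7, 6, 3, 4, 5, 2, 3, 4, 1, 2, 3, 8, 0, 8, 3, 2, 4, 3, 5, 4, 6, 5, 7, 6, 8, 3, 2, 4, 3, 5, 4, 8, 3, 2, 1, 2, 3, 8, 4, 5, 3, 4, 2, 3, 8, 6, 7, 5, 6, 4, 5, 3, 4, 2, 3, 8, 0, 8, 3, 2, 1, 4, 3, 2, 5, 4, 3, 6, 7]
def nst9 (x : ℕ) : ℕ := F3O.u7 (F3O.u6 (F3O.u3 (F3O.u4 (F3O.u5 (F3O.u2 (F3O.u3 (F3O.u4 (F3O.u1 (F3O.u2 (F3O.u3 (F3O.u8 (F3O.u0 (F3O.u8 (F3O.u3 (F3O.u2 (F3O.u4 (F3O.u3 (F3O.u5 (F3O.u4 (F3O.u6 (F3O.u5 (F3O.u7 (F3O.u6 (F3O.u8 (F3O.u3 (F3O.u2 (F3O.u4 (F3O.u3 (F3O.u5 (F3O.u4 (F3O.u8 (F3O.u3 (F3O.u2 (F3O.u1 (F3O.u2 (F3O.u3 (F3O.u8 (F3O.u4 (F3O.u5 (F3O.u3 (F3O.u4 (F3O.u2 (F3O.u3 (F3O.u8 (F3O.u6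 (F3O.u7 (F3O.u5 (F3O.u6 (F3O.u4 (F3O.u5 (F3O.u3 (F3O.u4 (F3O.u2 (F3O.u3 (F3O.u8 (F3O.u0 (F3O.u8 (F3O.u3 (F3O.u2 (F3O.u1 (F3O.u4 (F3O.u3 (F3O.u2 (F3O.u5 (F3O.u4 (F3O.u3 (F3O.u6 (F3O.u7 (x)))))))))))))))))))))))))))))))))))))))))))))))))))))))))))))))))))))
def WW10 : List ℕ := [9, 8, 3, 4, 2, 3, 8, 9, 7, 6, 5, 4, 1, 2, 3, 8, 0, 8, 3, 2, 4, 3, 5, 4, 6, 5, 7, 6, 8, 3, 2, 4, 3, 5, 4, 8, 3, 2, 1, 2, 3, 8, 4, 5, 3, 4, 2, 3, 8, 6, 7, 5, 6, 4, 5, 3, 4, 2, 3, 8, 0, 8, 3, 2, 1, 4, 5, 6, 7, 9, 8, 3, 2, 4, 3, 8, 9]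
def nst10 (x : ℕ) : ℕ := F3O.u9 (F3O.u8 (F3O.u3 (F3O.u4 (F3O.u2 (F3O.u3 (F3O.u8 (F3O.u9 (F3O.u7 (F3O.u6 (F3O.u5 (F3O.u4 (F3O.u1 (F3O.u2 (F3O.u3 (F3O.u8 (F3O.u0 (F3O.u8 (F3O.u3 (F3O.u2 (F3O.u4 (F3O.u3 (F3O.u5 (F3O.u4 (F3O.u6 (F3O.u5 (F3O.u7 (F3O.u6 (F3O.u8 (F3O.u3 (F3O.u2 (F3O.u4 (F3O.u3 (F3O.u5 (F3O.u4 (F3O.u8 (F3O.u3 (F3O.u2 (F3O.u1 (F3O.u2 (F3O.u3 (F3O.u8 (F3O.u4 (F3O.u5 (F3O.u3 (F3O.u4 (F3O.u2 (F3O.u3 (F3O.u8 (F3O.u6 (F3O.u7 (F3O.u5 (F3O.u6 (F3O.u4 (F3O.u5 (F3O.u3 (F3O.u4 (F3O.u2 (F3O.u3 (F3O.u8 (F3O.u0 (F3O.u8 (F3O.u3 (F3O.u2 (F3O.u1 (F3O.u4 (F3O.u5 (F3O.u6 (F3O.u7 (F3O.u9 (F3O.u8 (F3O.u3 (F3O.u2 (F3O.u4 (F3O.u3 (F3O.u8 (F3O.u9 (x)))))))))))))))))))))))))))))))))))))))))))))))))))))))))))))))))))))))))))))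
def WW11 : List ℕ := [3, 8, 9, 4, 1, 2, 3, 8, 0, 8, 3, 2, 4, 3, 5, 4, 6, 5, 7, 6, 8, 3, 2, 4, 3, 5, 4, 8, 3, 2, 1, 2, 3, 8, 4, 5, 3, 4, 2, 3, 8, 6, 7, 5, 6, 4, 5, 3, 4, 2, 3, 8, 0, 8, 3, 2, 1, 4, 9, 8, 3, 4, 2, 3, 8, 9, 4, 1, 2, 3, 8, 0, 8, 3, 2, 4, 3, 5, 4, 6, 5, 7, 6, 8, 3, 2, 4, 3, 5, 4, 8, 3, 2, 1, 2, 3, 8, 4, 5, 3, 4, 2, 3, 8, 6, 7, 5, 6, 4, 5, 3, 4, 2, 3, 8, 0, 8, 3, 2, 1, 4, 9, 8, 3, 2, 4]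
def nst11 (x : ℕ) : ℕ := F3O.u3 (F3O.u8 (F3O.u9 (F3O.u4 (F3O.u1 (F3O.u2 (F3O.u3 (F3O.u8 (F3O.u0 (F3O.u8 (F3O.u3 (F3O.u2 (F3O.u4 (F3O.u3 (F3O.u5 (F3O.u4 (F3O.u6 (F3O.u5 (F3O.u7 (F3O.u6 (F3O.u8 (F3O.u3 (F3O.u2 (F3O.u4 (F3O.u3 (F3O.u5 (F3O.u4 (F3O.u8 (F3O.u3 (F3O.u2 (F3O.u1 (F3O.u2 (F3O.u3 (F3O.u8 (F3O.u4 (F3O.u5 (F3O.u3 (F3O.u4 (F3O.u2 (F3O.u3 (F3O.u8 (F3O.u6 (F3O.u7 (F3O.u5 (F3O.u6 (F3O.u4 (F3O.u5 (F3O.u3 (F3O.u4 (F3O.u2 (F3O.u3 (F3O.u8 (F3O.u0 (F3O.u8 (F3O.u3 (F3O.u2 (F3O.u1 (F3O.u4 (F3O.u9 (F3O.u8 (F3O.u3 (F3O.u4 (F3O.u2 (F3O.u3 (F3O.u8 (F3O.u9 (F3O.u4 (F3O.u1 (F3O.u2 (F3O.u3 (F3O.u8 (F3O.u0 (F3O.u8 (F3O.u3 (F3O.u2 (F3O.u4 (F3O.u3 (F3O.u5 (F3O.u4 (F3O.u6 (F3O.u5 (F3O.u7 (F3O.u6 (F3O.u8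 (F3O.u3 (F3O.u2 (F3O.u4 (F3O.u3 (F3O.u5 (F3O.u4 (F3O.u8 (F3O.u3 (F3O.u2 (F3O.u1 (F3O.u2 (F3O.u3 (F3O.u8 (F3O.u4 (F3O.u5 (F3O.u3 (F3O.u4 (F3O.u2 (F3O.u3 (F3O.u8 (F3O.u6 (F3O.u7 (F3O.u5 (F3O.u6 (F3O.u4 (F3O.u5 (F3O.u3 (F3O.u4 (F3O.u2 (F3O.u3 (F3O.u8 (F3O.u0 (F3O.u8 (F3O.u3 (F3O.u2 (F3O.u1 (F3O.u4 (F3O.u9 (F3O.u8 (F3O.u3 (F3O.u2 (F3O.u4 (x))))))))))))))))))))))))))))))))))))))))))))))))))))))))))))))))))))))))))))))))))))))))))))))))))))))))))))))))))))))))))))))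
def WW12 : List ℕ := [3, 8, 9, 8, 3, 4, 1, 2, 3, 8, 0, 8, 3, 2, 4, 3, 5, 4, 6, 5, 7, 6, 8, 3, 2, 4, 3, 5, 4, 8, 3, 2, 1, 2, 3, 8, 4, 5, 3, 4, 2, 3, 8, 6, 7, 5, 6, 4, 5, 3, 4, 2, 3, 8, 0, 8, 3, 2, 1, 4, 3, 8, 9, 8, 3, 7, 6, 5, 4, 2, 3, 8, 9, 5, 2, 3, 4, 1, 2, 3, 8, 0, 8, 3, 2, 4, 3, 5, 4, 6, 5, 7, 6, 8, 3, 2, 4, 3, 5, 4, 8, 3, 2, 1, 2, 3, 8, 4, 5, 3, 4, 2, 3, 8, 6, 7, 5, 6, 4, 5, 3, 4, 2, 3, 8, 0, 8, 3, 2, 1, 4, 3, 2, 5, 9, 8, 3, 2, 4, 5, 6, 7]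
def nst12 (x : ℕ) : ℕ := F3O.u3 (F3O.u8 (F3O.u9 (F3O.u8 (F3O.u3 (F3O.u4 (F3O.u1 (F3O.u2 (F3O.u3 (F3O.u8 (F3O.u0 (F3O.u8 (F3O.u3 (F3O.u2 (F3O.u4 (F3O.u3 (F3O.u5 (F3O.u4 (F3O.u6 (F3O.u5 (F3O.u7 (F3O.u6 (F3O.u8 (F3O.u3 (F3O.u2 (F3O.u4 (F3O.u3 (F3O.u5 (F3O.u4 (F3O.u8 (F3O.u3 (F3O.u2 (F3O.u1 (F3O.u2 (F3O.u3 (F3O.u8 (F3O.u4 (F3O.u5 (F3O.u3 (F3O.u4 (F3O.u2 (F3O.u3 (F3O.u8 (F3O.u6 (F3O.u7 (F3O.u5 (F3O.u6 (F3O.u4 (F3O.u5 (F3O.u3 (F3O.u4 (F3O.u2 (F3O.u3 (F3O.u8 (F3O.u0 (F3O.u8 (F3O.u3 (F3O.u2 (F3O.u1 (F3O.u4 (F3O.u3 (F3O.u8 (F3O.u9 (F3O.u8 (F3O.u3 (F3O.u7 (F3O.u6 (F3O.u5 (F3O.u4 (F3O.u2 (F3O.u3 (F3O.u8 (F3O.u9 (F3O.u5 (F3O.u2 (F3O.u3 (F3O.u4 (F3O.u1 (F3O.u2 (F3O.u3 (F3O.u8 (F3O.u0 (F3O.u8 (F3O.u3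 (F3O.u2 (F3O.u4 (F3O.u3 (F3O.u5 (F3O.u4 (F3O.u6 (F3O.u5 (F3O.u7 (F3O.u6 (F3O.u8 (F3O.u3 (F3O.u2 (F3O.u4 (F3O.u3 (F3O.u5 (F3O.u4 (F3O.u8 (F3O.u3 (F3O.u2 (F3O.u1 (F3O.u2 (F3O.u3 (F3O.u8 (F3O.u4 (F3O.u5 (F3O.u3 (F3O.u4 (F3O.u2 (F3O.u3 (F3O.u8 (F3O.u6 (F3O.u7 (F3O.u5 (F3O.u6 (F3O.u4 (F3O.u5 (F3O.u3 (F3O.u4 (F3O.u2 (F3O.u3 (F3O.u8 (F3O.u0 (F3O.u8 (F3O.u3 (F3O.u2 (F3O.u1 (F3O.u4 (F3O.u3 (F3O.u2 (F3O.u5 (F3O.u9 (F3O.u8 (F3O.u3 (F3O.u2 (F3O.u4 (F3O.u5 (F3O.u6 (F3O.u7 (x))))))))))))))))))))))))))))))))))))))))))))))))))))))))))))))))))))))))))))))))))))))))))))))))))))))))))))))))))))))))))))))))))))))))))))))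
def WW13 : List ℕ := [1, 2, 3, 8, 4, 5, 3, 4, 2, 3, 8, 9, 4, 5, 2, 3, 4, 1, 2, 3, 8, 0, 8, 3, 2, 4, 3, 5, 4, 6, 5, 7, 6, 8, 3, 2, 4, 3, 5, 4, 8, 3, 2, 1, 2, 3, 8, 4, 5, 3, 4, 2, 3, 8, 6, 7, 5, 6, 4, 5, 3, 4, 2, 3, 8, 0, 8, 3, 2, 1, 4, 3, 2, 5, 4, 9, 8, 3, 2, 4, 3, 5, 4, 8, 3, 2, 1, 0, 1, 2, 3, 8, 4, 5, 3, 4, 1, 2, 3, 8, 9, 4, 5, 2, 3, 4, 1, 2, 3, 8, 0, 8, 3, 2, 4, 3, 5, 4, 6, 5, 7, 6, 8, 3, 2, 4, 3, 5, 4, 8, 3, 2, 1, 2, 3, 8, 4, 5, 3, 4, 2, 3, 8, 6, 7, 5, 6, 4, 5, 3, 4, 2, 3, 8, 0, 8, 3, 2, 1, 4, 3, 2, 5, 4, 9, 8, 3, 2, 1, 4, 3, 5, 4, 8, 3, 2, 1, 0]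
def nst13 (x : ℕ) : ℕ := F3O.u1 (F3O.u2 (F3O.u3 (F3O.u8 (F3O.u4 (F3O.u5 (F3O.u3 (F3O.u4 (F3O.u2 (F3O.u3 (F3O.u8 (F3O.u9 (F3O.u4 (F3O.u5 (F3O.u2 (F3O.u3 (F3O.u4 (F3O.u1 (F3O.u2 (F3O.u3 (F3O.u8 (F3O.u0 (F3O.u8 (F3O.u3 (F3O.u2 (F3O.u4 (F3O.u3 (F3O.u5 (F3O.u4 (F3O.u6 (F3O.u5 (F3O.u7 (F3O.u6 (F3O.u8 (F3O.u3 (F3O.u2 (F3O.u4 (F3O.u3 (F3O.u5 (F3O.u4 (F3O.u8 (F3O.u3 (F3O.u2 (F3O.u1 (F3O.u2 (F3O.u3 (F3O.u8 (F3O.u4 (F3O.u5 (F3O.u3 (F3O.u4 (F3O.u2 (F3O.u3 (F3O.u8 (F3O.u6 (F3O.u7 (F3O.u5 (F3O.u6 (F3O.u4 (F3O.u5 (F3O.u3 (F3O.u4 (F3O.u2 (F3O.u3 (F3O.u8 (F3O.u0 (F3O.u8 (F3O.u3 (F3O.u2 (F3O.u1 (F3O.u4 (F3O.u3 (F3O.u2 (F3O.u5 (F3O.u4 (F3O.u9 (F3O.u8 (F3O.u3 (F3O.u2 (F3O.u4 (F3O.u3 (F3O.u5 (F3O.u4 (F3O.u8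 (F3O.u3 (F3O.u2 (F3O.u1 (F3O.u0 (F3O.u1 (F3O.u2 (F3O.u3 (F3O.u8 (F3O.u4 (F3O.u5 (F3O.u3 (F3O.u4 (F3O.u1 (F3O.u2 (F3O.u3 (F3O.u8 (F3O.u9 (F3O.u4 (F3O.u5 (F3O.u2 (F3O.u3 (F3O.u4 (F3O.u1 (F3O.u2 (F3O.u3 (F3O.u8 (F3O.u0 (F3O.u8 (F3O.u3 (F3O.u2 (F3O.u4 (F3O.u3 (F3O.u5 (F3O.u4 (F3O.u6 (F3O.u5 (F3O.u7 (F3O.u6 (F3O.u8 (F3O.u3 (F3O.u2 (F3O.u4 (F3O.u3 (F3O.u5 (F3O.u4 (F3O.u8 (F3O.u3 (F3O.u2 (F3O.u1 (F3O.u2 (F3O.u3 (F3O.u8 (F3O.u4 (F3O.u5 (F3O.u3 (F3O.u4 (F3O.u2 (F3O.u3 (F3O.u8 (F3O.u6 (F3O.u7 (F3O.u5 (F3O.u6 (F3O.u4 (F3O.u5 (F3O.u3 (F3O.u4 (F3O.u2 (F3O.u3 (F3O.u8 (F3O.u0 (F3O.u8 (F3O.u3 (F3O.u2 (F3O.u1 (F3O.u4 (F3O.u3 (F3O.u2 (F3O.u5 (F3O.u4 (F3O.u9 (F3O.u8 (F3O.u3 (F3O.u2 (F3O.u1 (F3O.u4 (F3O.u3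 (F3O.u5 (F3O.u4 (F3O.u8 (F3O.u3 (F3O.u2 (F3O.u1 (F3O.u0 (x))))))))))))))))))))))))))))))))))))))))))))))))))))))))))))))))))))))))))))))))))))))))))))))))))))))))))))))))))))))))))))))))))))))))))))))))))))))))))))))))))))))))))))))))))
theorem actV_cons (k : ℕ) (w : List ℕ) (i : ℕ) : actV (k :: w) i = F3O.ub k (actV w i) := rfl
theorem actV_nil (i : ℕ) : actV [] i = i := rfl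
theorem ub_0 (x : ℕ) : F3O.ub 0 x = F3O.u0 x := rfl
theorem ub_1 (x : ℕ) : F3O.ub 1 x = F3O.u1 x := rfl
theorem ub_2 (x : ℕ) : F3O.ub 2 x = F3O.u2 x := rfl
theorem ub_3 (x : ℕ) : F3O.ub 3 x = F3O.u3 x := rfl
theorem ub_4 (x : ℕ) : F3O.ub 4 x = F3O.u4 x := rfl
theorem ub_5 (x : ℕ) : F3O.ub 5 x = F3O.u5 x := rfl
theorem ub_6 (x : ℕ) : F3O.ub 6 x = F3O.u6 x := rfl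
theorem ub_7 (x : ℕ) : F3O.ub 7 x = F3O.u7 x := rfl
theorem ub_8 (x : ℕ) : F3O.ub 8 x = F3O.u8 x := rfl
theorem ub_9 (x : ℕ) : F3O.ub 9 x = F3O.u9 x := rfl
theorem lk0 (x : ℕ) : actV WW0 x = nst0 x := by
  simp only [nst0, WW0, actV_cons, actV_nil, ub_0, ub_1, ub_2, ub_3, ub_4, ub_5, ub_6, ub_7, ub_8, ub_9]
theorem lk1 (x : ℕ) : actV WW1 x = nst1 x := by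
  simp only [nst1, WW1, actV_cons, actV_nil, ub_0, ub_1, ub_2, ub_3, ub_4, ub_5, ub_6, ub_7, ub_8, ub_9]
theorem lk2 (x : ℕ) : actV WW2 x = nst2 x := by
  simp only [nst2, WW2, actV_cons, actV_nil, ub_0, ub_1, ub_2, ub_3, ub_4, ub_5, ub_6, ub_7, ub_8, ub_9]
theorem lk3 (x : ℕ) : actV WW3 x = nst3 x := by
  simp only [nst3, WW3, actV_cons, actV_nil, ub_0, ub_1, ub_2, ub_3, ub_4, ub_5, ub_6, ub_7, ub_8, ub_9]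
theorem lk4 (x : ℕ) : actV WW4 x = nst4 x := by
  simp only [nst4, WW4, actV_cons, actV_nil, ub_0, ub_1, ub_2, ub_3, ub_4, ub_5, ub_6, ub_7, ub_8, ub_9]
theorem lk5 (x : ℕ) : actV WW5 x = nst5 x := by
  simp only [nst5, WW5, actV_cons, actV_nil, ub_0, ub_1, ub_2, ub_3, ub_4, ub_5, ub_6, ub_7, ub_8, ub_9]
theorem lk6 (x : ℕ) : actV WW6 x = nst6 x := by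
  simp only [nst6, WW6, actV_cons, actV_nil, ub_0, ub_1, ub_2, ub_3, ub_4, ub_5, ub_6, ub_7, ub_8, ub_9]
theorem lk7 (x : ℕ) : actV WW7 x = nst7 x := by
  simp only [nst7, WW7, actV_cons, actV_nil, ub_0, ub_1, ub_2, ub_3, ub_4, ub_5, ub_6, ub_7, ub_8, ub_9]
theorem lk8 (x : ℕ) : actV WW8 x = nst8 x := by
  simp only [nst8, WW8, actV_cons, actV_nil, ub_0, ub_1, ub_2, ub_3, ub_4, ub_5, ub_6, ub_7, ub_8, ub_9]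
theorem lk9 (x : ℕ) : actV WW9 x = nst9 x := by
  simp only [nst9, WW9, actV_cons, actV_nil, ub_0, ub_1, ub_2, ub_3, ub_4, ub_5, ub_6, ub_7, ub_8, ub_9]
theorem lk10 (x : ℕ) : actV WW10 x = nst10 x := by
  simp only [nst10, WW10, actV_cons, actV_nil, ub_0, ub_1, ub_2, ub_3, ub_4, ub_5, ub_6, ub_7, ub_8, ub_9]
theorem lk11 (x : ℕ) : actV WW11 x = nst11 x := by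
  simp only [nst11, WW11, actV_cons, actV_nil, ub_0, ub_1, ub_2, ub_3, ub_4, ub_5, ub_6, ub_7, ub_8, ub_9]
theorem lk12 (x : ℕ) : actV WW12 x = nst12 x := by
  simp only [nst12, WW12, actV_cons, actV_nil, ub_0, ub_1, ub_2, ub_3, ub_4, ub_5, ub_6, ub_7, ub_8, ub_9]
theorem lk13 (x : ℕ) : actV WW13 x = nst13 x := by
  simp only [nst13, WW13, actV_cons, actV_nil, ub_0, ub_1, ub_2, ub_3, ub_4, ub_5, ub_6, ub_7, ub_8, ub_9]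
/-- the product of the basis tables over the bits of `v` -/
def evB : ℕ → ℕ → ℕ → ℕ
  | 0, _, x => x
  | n+1, v, x => evB n v (cond (Nat.testBit v n) (vb n x) x)
def COp : ℕ := nat_lit 0x1acb1eda7a3ddaa6af89041001e33f108096cb6a002003f84001001001001001
def co (j : ℕ) : ℕ := Nat.land (Nat.shiftRight COp (Nat.mul 11 j)) 2047
def BASp : ℕ := nat_lit 0x39072ade418820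
def bas (s : ℕ) : ℕ := Nat.land (Nat.shiftRight BASp (Nat.mul 5 s)) 31
def SGp0 : ℕ := nat_lit 0x16a894cf07ada4728d48a6cc18440
def SGp1 : ℕ := nat_lit 0x3aaf28a26a592c0a1aa3c2641c960
def SGp2 : ℕ := nat_lit 0x22ae1a970151ac8c936298e49bc01
def sg (k j : ℕ) : ℕ := Nat.land (Nat.shiftRight (@Bool.rec (fun _ => Nat) (SGp0) (@Bool.rec (fun _ => Nat) (SGp1) (SGp2) (Nat.ble 2 k)) (Nat.ble 1 k)) (Nat.mul 5 j)) 31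
def WL : List (List ℕ) := [[], [0], [1], [2], [1, 0], [2, 0], [0, 1], [2, 1], [0, 2], [1, 2], [0, 1, 0], [2, 1, 0], [0, 2, 0], [1, 2, 0], [1, 0, 1], [2, 0, 1], [0, 2, 1], [1, 2, 1], [1, 0, 2], [2, 0, 2], [0, 1, 2], [2, 1, 2], [1, 0, 1, 0], [2, 0, 1, 0], [0, 2, 1, 0], [1, 2, 1, 0], [1, 0, 2, 0], [2, 0, 2, 0], [0, 1, 2, 0], [2, 1, 2, 0], [2, 1, 0, 1], [0, 2, 0, 1], [1, 2, 0, 1], [1, 0, 2, 1], [2, 0, 2, 1], [0, 1, 2, 1], [2, 1, 2, 1], [0, 1, 0, 2], [2, 1, 0, 2], [1, 2, 0, 2], [1, 0, 1, 2], [2, 0, 1, 2], [0, 2, 1, 2], [2, 1, 0, 1, 0], [0, 2, 0, 1, 0], [1, 2, 0, 1, 0], [1, 0, 2, 1, 0], [2, 0, 2, 1, 0], [0, 1, 2, 1, 0], [2, 1, 2, 1, 0], [0, 1, 0, 2, 0], [2, 1, 0, 2, 0], [1, 2, 0, 2, 0], [1, 0,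 1, 2, 0], [2, 0, 1, 2, 0], [0, 2, 1, 2, 0], [0, 2, 1, 0, 1], [1, 2, 1, 0, 1], [1, 0, 2, 0, 1], [2, 0, 2, 0, 1], [0, 1, 2, 0, 1], [2, 1, 2, 0, 1], [0, 1, 0, 2, 1], [2, 1, 0, 2, 1], [1, 2, 0, 2, 1], [1, 0, 1, 2, 1], [2, 0, 1, 2, 1], [0, 2, 1, 2, 1], [1, 0, 1, 0, 2], [2, 0, 1, 0, 2], [0, 2, 1, 0, 2], [1, 2, 1, 0, 2], [0, 1, 2, 0, 2], [2, 1, 2, 0, 2], [2, 1, 0, 1, 2], [0, 2, 0, 1, 2], [1, 2, 0, 1, 2], [1, 0, 2, 1, 2], [2, 0, 2, 1, 2], [0, 2, 1, 0, 1, 0], [1, 2, 1, 0, 1, 0], [1, 0, 2, 0, 1, 0], [2, 0, 2, 0, 1, 0], [0, 1, 2, 0, 1, 0], [2, 1, 2, 0, 1, 0], [0, 1, 0, 2, 1, 0], [2, 1, 0, 2, 1, 0], [1, 2, 0, 2, 1, 0], [1, 0, 1, 2, 1, 0], [2, 0, 1, 2, 1, 0], [0, 2, 1, 2, 1, 0], [1, 0, 1, 0, 2, 0], [2,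 0, 1, 0, 2, 0], [0, 2, 1, 0, 2, 0], [1, 2, 1, 0, 2, 0], [0, 1, 2, 0, 2, 0], [2, 1, 2, 0, 2, 0], [2, 1, 0, 1, 2, 0], [0, 2, 0, 1, 2, 0], [1, 2, 0, 1, 2, 0], [1, 0, 2, 1, 2, 0], [2, 0, 2, 1, 2, 0], [1, 0, 2, 1, 0, 1], [2, 1, 2, 1, 0, 1], [0, 1, 0, 2, 0, 1], [2, 1, 0, 2, 0, 1], [1, 0, 1, 2, 0, 1], [2, 0, 1, 0, 2, 1], [1, 0, 2, 1, 2, 1], [2, 0, 2, 1, 2, 1], [0, 2, 0, 1, 0, 2], [2, 1, 2, 1, 0, 2], [1, 0, 2, 1, 0, 1, 0], [2, 1, 2, 1, 0, 1, 0], [0, 1, 0, 2, 0, 1, 0], [2, 1, 0, 2, 0, 1, 0], [1, 0, 1, 2, 0, 1, 0], [2, 0, 1, 0, 2, 1, 0], [1, 0, 2, 1, 2, 1, 0], [2, 0, 2, 1, 2, 1, 0], [0, 2, 0, 1, 0, 2, 0], [2, 1, 2, 1, 0, 2, 0], [0, 1, 0, 2, 1, 0, 1], [1, 0, 1, 0, 2, 0, 1], [2, 0, 1, 0, 2, 0, 1], [0,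 1, 0, 2, 1, 0, 1, 0], [1, 0, 1, 0, 2, 0, 1, 0], [2, 0, 1, 0, 2, 0, 1, 0]]

end Cfsg.Agent.Lib.Helper8.F3S
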