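import Cfsg.Agent.Lib.Helper8.F3S1

set_option autoImplicit false
set_option maxRecDepth 100000
set_option Elab.async false

/-! Fi23 on 31671 points: word certificates for S2652 (generated). -/

namespace Cfsg.Agent.Lib.Helper8.F3S

theorem cw7_3 : SQ.allR 11877 3959 (fun x => Nat.beq (nst7 x) (vv7 x)) = true := by decide +kernel
theorem cw7_4 : SQ.allR 15836 3959 (fun x => Nat.beq (nst7 x) (vv7 x)) = true := by decide +kernel
theorem cw7_5 : SQ.allR 19795 3959 (fun x => Nat.beq (nst7 x) (vv7 x)) = true := by decide +kernel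
theorem cw7_6 : SQ.allR 23754 3959 (fun x => Nat.beq (nst7 x) (vv7 x)) = true := by decide +kernel
theorem cw7_7 : SQ.allR 27713 3958 (fun x => Nat.beq (nst7 x) (vv7 x)) = true := by decide +kernel
theorem cw8_0 : SQ.allR 0 3959 (fun x => Nat.beq (nst8 x) (vv8 x)) = true := by decide +kernel
theorem cw8_1 : SQ.allR 3959 3959 (fun x => Nat.beq (nst8 x) (vv8 x)) = true := by decide +kernel
theorem cw8_2 : SQ.allR 7918 3959 (fun x => Nat.beq (nst8 x) (vv8 x)) = true := by decide +kernel
theorem cw8_3 : SQ.allR 11877 3959 (fun x => Nat.beq (nst8 x) (vv8 x)) = true := by decide +kernel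
theorem cw8_4 : SQ.allR 15836 3959 (fun x => Nat.beq (nst8 x) (vv8 x)) = true := by decide +kernel
theorem cw8_5 : SQ.allR 19795 3959 (fun x => Nat.beq (nst8 x) (vv8 x)) = true := by decide +kernel
theorem cw8_6 : SQ.allR 23754 3959 (fun x => Nat.beq (nst8 x) (vv8 x)) = true := by decide +kernel

end Cfsg.Agent.Lib.Helper8.F3S
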