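import Cfsg.Agent.Lib.Helper8.F3S1

set_option autoImplicit false
set_option maxRecDepth 100000
set_option Elab.async false

/-! Fi23 on 31671 points: word certificates for S2652 (generated). -/

namespace Cfsg.Agent.Lib.Helper8.F3S

theorem cw8_7 : SQ.allR 27713 3958 (fun x => Nat.beq (nst8 x) (vv8 x)) = true := by decide +kernel
theorem cw9_0 : SQ.allR 0 3519 (fun x => Nat.beq (nst9 x) (vv9 x)) = true := by decide +kernel
theorem cw9_1 : SQ.allR 3519 3519 (fun x => Nat.beq (nst9 x) (vv9 x)) = true := by decide +kernel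
theorem cw9_2 : SQ.allR 7038 3519 (fun x => Nat.beq (nst9 x) (vv9 x)) = true := by decide +kernel
theorem cw9_3 : SQ.allR 10557 3519 (fun x => Nat.beq (nst9 x) (vv9 x)) = true := by decide +kernel
theorem cw9_4 : SQ.allR 14076 3519 (fun x => Nat.beq (nst9 x) (vv9 x)) = true := by decide +kernel
theorem cw9_5 : SQ.allR 17595 3519 (fun x => Nat.beq (nst9 x) (vv9 x)) = true := by decide +kernel
theorem cw9_6 : SQ.allR 21114 3519 (fun x => Nat.beq (nst9 x) (vv9 x)) = true := by decide +kernel
theorem cw9_7 : SQ.allR 24633 3519 (fun x => Nat.beq (nst9 x) (vv9 x)) = true := by decide +kernel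
theorem cw9_8 : SQ.allR 28152 3519 (fun x => Nat.beq (nst9 x) (vv9 x)) = true := by decide +kernel
theorem cw10_0 : SQ.allR 0 3168 (fun x => Nat.beq (nst10 x) (vv10 x)) = true := by decide +kernel
theorem cw10_1 : SQ.allR 3168 3168 (fun x => Nat.beq (nst10 x) (vv10 x)) = true := by decide +kernel

end Cfsg.Agent.Lib.Helper8.F3S
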