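import Cfsg.Agent.Lib.Helper8.F3S1

set_option autoImplicit false
set_option maxRecDepth 100000
set_option Elab.async false

/-! Fi23 on 31671 points: word certificates for S2652 (generated). -/

namespace Cfsg.Agent.Lib.Helper8.F3S

theorem cw10_2 : SQ.allR 6336 3168 (fun x => Nat.beq (nst10 x) (vv10 x)) = true := by decide +kernel
theorem cw10_3 : SQ.allR 9504 3168 (fun x => Nat.beq (nst10 x) (vv10 x)) = true := by decide +kernel
theorem cw10_4 : SQ.allR 12672 3168 (fun x => Nat.beq (nst10 x) (vv10 x)) = true := by decide +kernel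
theorem cw10_5 : SQ.allR 15840 3168 (fun x => Nat.beq (nst10 x) (vv10 x)) = true := by decide +kernel
theorem cw10_6 : SQ.allR 19008 3168 (fun x => Nat.beq (nst10 x) (vv10 x)) = true := by decide +kernel
theorem cw10_7 : SQ.allR 22176 3168 (fun x => Nat.beq (nst10 x) (vv10 x)) = true := by decide +kernel
theorem cw10_8 : SQ.allR 25344 3168 (fun x => Nat.beq (nst10 x) (vv10 x)) = true := by decide +kernel
theorem cw10_9 : SQ.allR 28512 3159 (fun x => Nat.beq (nst10 x) (vv10 x)) = true := by decide +kernel
theorem cw11_0 : SQ.allR 0 1863 (fun x => Nat.beq (nst11 x) (vv11 x)) = true := by decide +kernel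
theorem cw11_1 : SQ.allR 1863 1863 (fun x => Nat.beq (nst11 x) (vv11 x)) = true := by decide +kernel
theorem cw11_2 : SQ.allR 3726 1863 (fun x => Nat.beq (nst11 x) (vv11 x)) = true := by decide +kernel
theorem cw11_3 : SQ.allR 5589 1863 (fun x => Nat.beq (nst11 x) (vv11 x)) = true := by decide +kernel

end Cfsg.Agent.Lib.Helper8.F3S
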