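import Cfsg.Agent.Lib.Helper8.F3S1

set_option autoImplicit false
set_option maxRecDepth 100000
set_option Elab.async false

/-! Fi23 on 31671 points: word certificates for S2652 (generated). -/

namespace Cfsg.Agent.Lib.Helper8.F3S

theorem cw11_4 : SQ.allR 7452 1863 (fun x => Nat.beq (nst11 x) (vv11 x)) = true := by decide +kernel
theorem cw11_5 : SQ.allR 9315 1863 (fun x => Nat.beq (nst11 x) (vv11 x)) = true := by decide +kernel
theorem cw11_6 : SQ.allR 11178 1863 (fun x => Nat.beq (nst11 x) (vv11 x)) = true := by decide +kernel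
theorem cw11_7 : SQ.allR 13041 1863 (fun x => Nat.beq (nst11 x) (vv11 x)) = true := by decide +kernel
theorem cw11_8 : SQ.allR 14904 1863 (fun x => Nat.beq (nst11 x) (vv11 x)) = true := by decide +kernel
theorem cw11_9 : SQ.allR 16767 1863 (fun x => Nat.beq (nst11 x) (vv11 x)) = true := by decide +kernel
theorem cw11_10 : SQ.allR 18630 1863 (fun x => Nat.beq (nst11 x) (vv11 x)) = true := by decide +kernel
theorem cw11_11 : SQ.allR 20493 1863 (fun x => Nat.beq (nst11 x) (vv11 x)) = true := by decide +kernel
theorem cw11_12 : SQ.allR 22356 1863 (fun x => Nat.beq (nst11 x) (vv11 x)) = true := by decide +kernel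
theorem cw11_13 : SQ.allR 24219 1863 (fun x => Nat.beq (nst11 x) (vv11 x)) = true := by decide +kernel
theorem cw11_14 : SQ.allR 26082 1863 (fun x => Nat.beq (nst11 x) (vv11 x)) = true := by decide +kernel
theorem cw11_15 : SQ.allR 27945 1863 (fun x => Nat.beq (nst11 x) (vv11 x)) = true := by decide +kernel

end Cfsg.Agent.Lib.Helper8.F3S
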