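import Cfsg.Agent.Lib.Helper8.F3S1

set_option autoImplicit false
set_option maxRecDepth 100000
set_option Elab.async false

/-! Fi23 on 31671 points: word certificates for S2652 (generated). -/

namespace Cfsg.Agent.Lib.Helper8.F3S

theorem cw11_16 : SQ.allR 29808 1863 (fun x => Nat.beq (nst11 x) (vv11 x)) = true := by decide +kernel
theorem cw12_0 : SQ.allR 0 1667 (fun x => Nat.beq (nst12 x) (vv12 x)) = true := by decide +kernel
theorem cw12_1 : SQ.allR 1667 1667 (fun x => Nat.beq (nst12 x) (vv12 x)) = true := by decide +kernel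
theorem cw12_2 : SQ.allR 3334 1667 (fun x => Nat.beq (nst12 x) (vv12 x)) = true := by decide +kernel
theorem cw12_3 : SQ.allR 5001 1667 (fun x => Nat.beq (nst12 x) (vv12 x)) = true := by decide +kernel
theorem cw12_4 : SQ.allR 6668 1667 (fun x => Nat.beq (nst12 x) (vv12 x)) = true := by decide +kernel
theorem cw12_5 : SQ.allR 8335 1667 (fun x => Nat.beq (nst12 x) (vv12 x)) = true := by decide +kernel
theorem cw12_6 : SQ.allR 10002 1667 (fun x => Nat.beq (nst12 x) (vv12 x)) = true := by decide +kernel
theorem cw12_7 : SQ.allR 11669 1667 (fun x => Nat.beq (nst12 x) (vv12 x)) = true := by decide +kernel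
theorem cw12_8 : SQ.allR 13336 1667 (fun x => Nat.beq (nst12 x) (vv12 x)) = true := by decide +kernel
theorem cw12_9 : SQ.allR 15003 1667 (fun x => Nat.beq (nst12 x) (vv12 x)) = true := by decide +kernel
theorem cw12_10 : SQ.allR 16670 1667 (fun x => Nat.beq (nst12 x) (vv12 x)) = true := by decide +kernel

end Cfsg.Agent.Lib.Helper8.F3S
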