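import Cfsg.Agent.Lib.Helper8.F3S1

set_option autoImplicit false
set_option maxRecDepth 100000
set_option Elab.async false

/-! Fi23 on 31671 points: word certificates for S2652 (generated). -/

namespace Cfsg.Agent.Lib.Helper8.F3S

theorem cw12_11 : SQ.allR 18337 1667 (fun x => Nat.beq (nst12 x) (vv12 x)) = true := by decide +kernel
theorem cw12_12 : SQ.allR 20004 1667 (fun x => Nat.beq (nst12 x) (vv12 x)) = true := by decide +kernel
theorem cw12_13 : SQ.allR 21671 1667 (fun x => Nat.beq (nst12 x) (vv12 x)) = true := by decide +kernel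
theorem cw12_14 : SQ.allR 23338 1667 (fun x => Nat.beq (nst12 x) (vv12 x)) = true := by decide +kernel
theorem cw12_15 : SQ.allR 25005 1667 (fun x => Nat.beq (nst12 x) (vv12 x)) = true := by decide +kernel
theorem cw12_16 : SQ.allR 26672 1667 (fun x => Nat.beq (nst12 x) (vv12 x)) = true := by decide +kernel
theorem cw12_17 : SQ.allR 28339 1667 (fun x => Nat.beq (nst12 x) (vv12 x)) = true := by decide +kernel
theorem cw12_18 : SQ.allR 30006 1665 (fun x => Nat.beq (nst12 x) (vv12 x)) = true := by decide +kernel
theorem cw13_0 : SQ.allR 0 1377 (fun x => Nat.beq (nst13 x) (vv13 x)) = true := by decide +kernel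
theorem cw13_1 : SQ.allR 1377 1377 (fun x => Nat.beq (nst13 x) (vv13 x)) = true := by decide +kernel
theorem cw13_2 : SQ.allR 2754 1377 (fun x => Nat.beq (nst13 x) (vv13 x)) = true := by decide +kernel
theorem cw13_3 : SQ.allR 4131 1377 (fun x => Nat.beq (nst13 x) (vv13 x)) = true := by decide +kernel

end Cfsg.Agent.Lib.Helper8.F3S
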