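import Cfsg.Agent.Lib.Helper8.F3S1

set_option autoImplicit false
set_option maxRecDepth 100000
set_option Elab.async false

/-! Fi23 on 31671 points: word certificates for S2652 (generated). -/

namespace Cfsg.Agent.Lib.Helper8.F3S

theorem cw13_4 : SQ.allR 5508 1377 (fun x => Nat.beq (nst13 x) (vv13 x)) = true := by decide +kernel
theorem cw13_5 : SQ.allR 6885 1377 (fun x => Nat.beq (nst13 x) (vv13 x)) = true := by decide +kernel
theorem cw13_6 : SQ.allR 8262 1377 (fun x => Nat.beq (nst13 x) (vv13 x)) = true := by decide +kernel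
theorem cw13_7 : SQ.allR 9639 1377 (fun x => Nat.beq (nst13 x) (vv13 x)) = true := by decide +kernel
theorem cw13_8 : SQ.allR 11016 1377 (fun x => Nat.beq (nst13 x) (vv13 x)) = true := by decide +kernel
theorem cw13_9 : SQ.allR 12393 1377 (fun x => Nat.beq (nst13 x) (vv13 x)) = true := by decide +kernel
theorem cw13_10 : SQ.allR 13770 1377 (fun x => Nat.beq (nst13 x) (vv13 x)) = true := by decide +kernel
theorem cw13_11 : SQ.allR 15147 1377 (fun x => Nat.beq (nst13 x) (vv13 x)) = true := by decide +kernel
theorem cw13_12 : SQ.allR 16524 1377 (fun x => Nat.beq (nst13 x) (vv13 x)) = true := by decide +kernel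
theorem cw13_13 : SQ.allR 17901 1377 (fun x => Nat.beq (nst13 x) (vv13 x)) = true := by decide +kernel
theorem cw13_14 : SQ.allR 19278 1377 (fun x => Nat.beq (nst13 x) (vv13 x)) = true := by decide +kernel
theorem cw13_15 : SQ.allR 20655 1377 (fun x => Nat.beq (nst13 x) (vv13 x)) = true := by decide +kernel

end Cfsg.Agent.Lib.Helper8.F3S
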