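import Cfsg.Agent.Lib.Helper8.F3S1

set_option autoImplicit false
set_option maxRecDepth 100000
set_option Elab.async false

/-! Fi23 on 31671 points: word certificates for S2652 (generated). -/

namespace Cfsg.Agent.Lib.Helper8.F3S

theorem cw13_16 : SQ.allR 22032 1377 (fun x => Nat.beq (nst13 x) (vv13 x)) = true := by decide +kernel
theorem cw13_17 : SQ.allR 23409 1377 (fun x => Nat.beq (nst13 x) (vv13 x)) = true := by decide +kernel
theorem cw13_18 : SQ.allR 24786 1377 (fun x => Nat.beq (nst13 x) (vv13 x)) = true := by decide +kernel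
theorem cw13_19 : SQ.allR 26163 1377 (fun x => Nat.beq (nst13 x) (vv13 x)) = true := by decide +kernel
theorem cw13_20 : SQ.allR 27540 1377 (fun x => Nat.beq (nst13 x) (vv13 x)) = true := by decide +kernel
theorem cw13_21 : SQ.allR 28917 1377 (fun x => Nat.beq (nst13 x) (vv13 x)) = true := by decide +kernel
theorem cw13_22 : SQ.allR 30294 1377 (fun x => Nat.beq (nst13 x) (vv13 x)) = true := by decide +kernel

end Cfsg.Agent.Lib.Helper8.F3S
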