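import Cfsg.Agent.Lib.Helper8.F3S2a
import Cfsg.Agent.Lib.Helper8.F3S2b
import Cfsg.Agent.Lib.Helper8.F3S2c
import Cfsg.Agent.Lib.Helper8.F3S2d
import Cfsg.Agent.Lib.Helper8.F3S2e
import Cfsg.Agent.Lib.Helper8.F3S2f
import Cfsg.Agent.Lib.Helper8.F3S2g
import Cfsg.Agent.Lib.Helper8.F3S2h
import Cfsg.Agent.Lib.Helper8.F3S2i

set_option autoImplicit false
set_option maxRecDepth 100000
set_option Elab.async false

/-! Fi23 on 31671 points: the word certificates for S2652 (generated). -/

namespace Cfsg.Agent.Lib.Helper8.F3S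

theorem cw0_all : ∀ x, x < 31671 → actV WW0 x = vv0 x := by
  intro x hp
  rw [lk0]
  apply Nat.eq_of_beq_eq_true
  exact SQ.allR_spec cw0_0 x (by omega) (by omega)

theorem cw1_all : ∀ x, x < 31671 → actV WW1 x = vv1 x := by
  intro x hp
  rw [lk1]
  apply Nat.eq_of_beq_eq_true
  exact SQ.allR_spec cw1_0 x (by omega) (by omega)

theorem cw2_all : ∀ x, x < 31671 → actV WW2 x = vv2 x := by
  intro x hp
  rw [lk2]
  apply Nat.eq_of_beq_eq_true
  exact SQ.allR_spec cw2_0 x (by omega) (by omega)

theorem cw3_all : ∀ x, x < 31671 → actV WW3 x = vv3 x := by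
  intro x hp
  rw [lk3]
  apply Nat.eq_of_beq_eq_true
  exact SQ.allR_spec cw3_0 x (by omega) (by omega)

theorem cw4_all : ∀ x, x < 31671 → actV WW4 x = vv4 x := by
  intro x hp
  rw [lk4]
  apply Nat.eq_of_beq_eq_true
  exact SQ.allR_spec cw4_0 x (by omega) (by omega)

theorem cw5_all : ∀ x, x < 31671 → actV WW5 x = vv5 x := by
  intro x hp
  rw [lk5]
  apply Nat.eq_of_beq_eq_true
  rcases Nat.lt_or_ge x 10557 with h | h
  · exact SQ.allR_spec cw5_0 x (by omega) (by omega)
  rcases Nat.lt_or_ge x 21114 with h | h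
  · exact SQ.allR_spec cw5_1 x (by omega) (by omega)
  exact SQ.allR_spec cw5_2 x (by omega) (by omega)

theorem cw6_all : ∀ x, x < 31671 → actV WW6 x = vv6 x := by
  intro x hp
  rw [lk6]
  apply Nat.eq_of_beq_eq_true
  rcases Nat.lt_or_ge x 6335 with h | h
  · exact SQ.allR_spec cw6_0 x (by omega) (by omega)
  rcases Nat.lt_or_ge x 12670 with h | h
  · exact SQ.allR_spec cw6_1 x (by omega) (by omega)
  rcases Nat.lt_or_ge x 19005 with h | h
  · exact SQ.allR_spec cw6_2 x (by omega) (by omega)
  rcases Nat.lt_or_ge x 25340 with h | h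
  · exact SQ.allR_spec cw6_3 x (by omega) (by omega)
  exact SQ.allR_spec cw6_4 x (by omega) (by omega)

theorem cw7_all : ∀ x, x < 31671 → actV WW7 x = vv7 x := by
  intro x hp
  rw [lk7]
  apply Nat.eq_of_beq_eq_true
  rcases Nat.lt_or_ge x 3959 with h | h
  · exact SQ.allR_spec cw7_0 x (by omega) (by omega)
  rcases Nat.lt_or_ge x 7918 with h | h
  · exact SQ.allR_spec cw7_1 x (by omega) (by omega)
  rcases Nat.lt_or_ge x 11877 with h | h
  · exact SQ.allR_spec cw7_2 x (by omega) (by omega)
  rcases Nat.lt_or_ge x 15836 with h | h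
  · exact SQ.allR_spec cw7_3 x (by omega) (by omega)
  rcases Nat.lt_or_ge x 19795 with h | h
  · exact SQ.allR_spec cw7_4 x (by omega) (by omega)
  rcases Nat.lt_or_ge x 23754 with h | h
  · exact SQ.allR_spec cw7_5 x (by omega) (by omega)
  rcases Nat.lt_or_ge x 27713 with h | h
  · exact SQ.allR_spec cw7_6 x (by omega) (by omega)
  exact SQ.allR_spec cw7_7 x (by omega) (by omega)

theorem cw8_all : ∀ x, x < 31671 → actV WW8 x = vv8 x := by
  intro x hp
  rw [lk8]
  apply Nat.eq_of_beq_eq_true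
  rcases Nat.lt_or_ge x 3959 with h | h
  · exact SQ.allR_spec cw8_0 x (by omega) (by omega)
  rcases Nat.lt_or_ge x 7918 with h | h
  · exact SQ.allR_spec cw8_1 x (by omega) (by omega)
  rcases Nat.lt_or_ge x 11877 with h | h
  · exact SQ.allR_spec cw8_2 x (by omega) (by omega)
  rcases Nat.lt_or_ge x 15836 with h | h
  · exact SQ.allR_spec cw8_3 x (by omega) (by omega)
  rcases Nat.lt_or_ge x 19795 with h | h
  · exact SQ.allR_spec cw8_4 x (by omega) (by omega)
  rcases Nat.lt_or_ge x 23754 with h | h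
  · exact SQ.allR_spec cw8_5 x (by omega) (by omega)
  rcases Nat.lt_or_ge x 27713 with h | h
  · exact SQ.allR_spec cw8_6 x (by omega) (by omega)
  exact SQ.allR_spec cw8_7 x (by omega) (by omega)

theorem cw9_all : ∀ x, x < 31671 → actV WW9 x = vv9 x := by
  intro x hp
  rw [lk9]
  apply Nat.eq_of_beq_eq_true
  rcases Nat.lt_or_ge x 3519 with h | h
  · exact SQ.allR_spec cw9_0 x (by omega) (by omega)
  rcases Nat.lt_or_ge x 7038 with h | h
  · exact SQ.allR_spec cw9_1 x (by omega) (by omega)
  rcases Nat.lt_or_ge x 10557 with h | h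
  · exact SQ.allR_spec cw9_2 x (by omega) (by omega)
  rcases Nat.lt_or_ge x 14076 with h | h
  · exact SQ.allR_spec cw9_3 x (by omega) (by omega)
  rcases Nat.lt_or_ge x 17595 with h | h
  · exact SQ.allR_spec cw9_4 x (by omega) (by omega)
  rcases Nat.lt_or_ge x 21114 with h | h
  · exact SQ.allR_spec cw9_5 x (by omega) (by omega)
  rcases Nat.lt_or_ge x 24633 with h | h
  · exact SQ.allR_spec cw9_6 x (by omega) (by omega)
  rcases Nat.lt_or_ge x 28152 with h | h
  · exact SQ.allR_spec cw9_7 x (by omega) (by omega)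
  exact SQ.allR_spec cw9_8 x (by omega) (by omega)

theorem cw10_all : ∀ x, x < 31671 → actV WW10 x = vv10 x := by
  intro x hp
  rw [lk10]
  apply Nat.eq_of_beq_eq_true
  rcases Nat.lt_or_ge x 3168 with h | h
  · exact SQ.allR_spec cw10_0 x (by omega) (by omega)
  rcases Nat.lt_or_ge x 6336 with h | h
  · exact SQ.allR_spec cw10_1 x (by omega) (by omega)
  rcases Nat.lt_or_ge x 9504 with h | h
  · exact SQ.allR_spec cw10_2 x (by omega) (by omega)
  rcases Nat.lt_or_ge x 12672 with h | h
  · exact SQ.allR_spec cw10_3 x (by omega) (by omega)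
  rcases Nat.lt_or_ge x 15840 with h | h
  · exact SQ.allR_spec cw10_4 x (by omega) (by omega)
  rcases Nat.lt_or_ge x 19008 with h | h
  · exact SQ.allR_spec cw10_5 x (by omega) (by omega)
  rcases Nat.lt_or_ge x 22176 with h | h
  · exact SQ.allR_spec cw10_6 x (by omega) (by omega)
  rcases Nat.lt_or_ge x 25344 with h | h
  · exact SQ.allR_spec cw10_7 x (by omega) (by omega)
  rcases Nat.lt_or_ge x 28512 with h | h
  · exact SQ.allR_spec cw10_8 x (by omega) (by omega)
  exact SQ.allR_spec cw10_9 x (by omega) (by omega)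

theorem cw11_all : ∀ x, x < 31671 → actV WW11 x = vv11 x := by
  intro x hp
  rw [lk11]
  apply Nat.eq_of_beq_eq_true
  rcases Nat.lt_or_ge x 1863 with h | h
  · exact SQ.allR_spec cw11_0 x (by omega) (by omega)
  rcases Nat.lt_or_ge x 3726 with h | h
  · exact SQ.allR_spec cw11_1 x (by omega) (by omega)
  rcases Nat.lt_or_ge x 5589 with h | h
  · exact SQ.allR_spec cw11_2 x (by omega) (by omega)
  rcases Nat.lt_or_ge x 7452 with h | h
  · exact SQ.allR_spec cw11_3 x (by omega) (by omega)
  rcases Nat.lt_or_ge x 9315 with h | h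
  · exact SQ.allR_spec cw11_4 x (by omega) (by omega)
  rcases Nat.lt_or_ge x 11178 with h | h
  · exact SQ.allR_spec cw11_5 x (by omega) (by omega)
  rcases Nat.lt_or_ge x 13041 with h | h
  · exact SQ.allR_spec cw11_6 x (by omega) (by omega)
  rcases Nat.lt_or_ge x 14904 with h | h
  · exact SQ.allR_spec cw11_7 x (by omega) (by omega)
  rcases Nat.lt_or_ge x 16767 with h | h
  · exact SQ.allR_spec cw11_8 x (by omega) (by omega)
  rcases Nat.lt_or_ge x 18630 with h | h
  · exact SQ.allR_spec cw11_9 x (by omega) (by omega)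
  rcases Nat.lt_or_ge x 20493 with h | h
  · exact SQ.allR_spec cw11_10 x (by omega) (by omega)
  rcases Nat.lt_or_ge x 22356 with h | h
  · exact SQ.allR_spec cw11_11 x (by omega) (by omega)
  rcases Nat.lt_or_ge x 24219 with h | h
  · exact SQ.allR_spec cw11_12 x (by omega) (by omega)
  rcases Nat.lt_or_ge x 26082 with h | h
  · exact SQ.allR_spec cw11_13 x (by omega) (by omega)
  rcases Nat.lt_or_ge x 27945 with h | h
  · exact SQ.allR_spec cw11_14 x (by omega) (by omega)
  rcases Nat.lt_or_ge x 29808 with h | h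
  · exact SQ.allR_spec cw11_15 x (by omega) (by omega)
  exact SQ.allR_spec cw11_16 x (by omega) (by omega)

theorem cw12_all : ∀ x, x < 31671 → actV WW12 x = vv12 x := by
  intro x hp
  rw [lk12]
  apply Nat.eq_of_beq_eq_true
  rcases Nat.lt_or_ge x 1667 with h | h
  · exact SQ.allR_spec cw12_0 x (by omega) (by omega)
  rcases Nat.lt_or_ge x 3334 with h | h
  · exact SQ.allR_spec cw12_1 x (by omega) (by omega)
  rcases Nat.lt_or_ge x 5001 with h | h
  · exact SQ.allR_spec cw12_2 x (by omega) (by omega)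
  rcases Nat.lt_or_ge x 6668 with h | h
  · exact SQ.allR_spec cw12_3 x (by omega) (by omega)
  rcases Nat.lt_or_ge x 8335 with h | h
  · exact SQ.allR_spec cw12_4 x (by omega) (by omega)
  rcases Nat.lt_or_ge x 10002 with h | h
  · exact SQ.allR_spec cw12_5 x (by omega) (by omega)
  rcases Nat.lt_or_ge x 11669 with h | h
  · exact SQ.allR_spec cw12_6 x (by omega) (by omega)
  rcases Nat.lt_or_ge x 13336 with h | h
  · exact SQ.allR_spec cw12_7 x (by omega) (by omega)
  rcases Nat.lt_or_ge x 15003 with h | h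
  · exact SQ.allR_spec cw12_8 x (by omega) (by omega)
  rcases Nat.lt_or_ge x 16670 with h | h
  · exact SQ.allR_spec cw12_9 x (by omega) (by omega)
  rcases Nat.lt_or_ge x 18337 with h | h
  · exact SQ.allR_spec cw12_10 x (by omega) (by omega)
  rcases Nat.lt_or_ge x 20004 with h | h
  · exact SQ.allR_spec cw12_11 x (by omega) (by omega)
  rcases Nat.lt_or_ge x 21671 with h | h
  · exact SQ.allR_spec cw12_12 x (by omega) (by omega)
  rcases Nat.lt_or_ge x 23338 with h | h
  · exact SQ.allR_spec cw12_13 x (by omega) (by omega)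
  rcases Nat.lt_or_ge x 25005 with h | h
  · exact SQ.allR_spec cw12_14 x (by omega) (by omega)
  rcases Nat.lt_or_ge x 26672 with h | h
  · exact SQ.allR_spec cw12_15 x (by omega) (by omega)
  rcases Nat.lt_or_ge x 28339 with h | h
  · exact SQ.allR_spec cw12_16 x (by omega) (by omega)
  rcases Nat.lt_or_ge x 30006 with h | h
  · exact SQ.allR_spec cw12_17 x (by omega) (by omega)
  exact SQ.allR_spec cw12_18 x (by omega) (by omega)

theorem cw13_all : ∀ x, x < 31671 → actV WW13 x = vv13 x := by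
  intro x hp
  rw [lk13]
  apply Nat.eq_of_beq_eq_true
  rcases Nat.lt_or_ge x 1377 with h | h
  · exact SQ.allR_spec cw13_0 x (by omega) (by omega)
  rcases Nat.lt_or_ge x 2754 with h | h
  · exact SQ.allR_spec cw13_1 x (by omega) (by omega)
  rcases Nat.lt_or_ge x 4131 with h | h
  · exact SQ.allR_spec cw13_2 x (by omega) (by omega)
  rcases Nat.lt_or_ge x 5508 with h | h
  · exact SQ.allR_spec cw13_3 x (by omega) (by omega)
  rcases Nat.lt_or_ge x 6885 with h | h
  · exact SQ.allR_spec cw13_4 x (by omega) (by omega)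
  rcases Nat.lt_or_ge x 8262 with h | h
  · exact SQ.allR_spec cw13_5 x (by omega) (by omega)
  rcases Nat.lt_or_ge x 9639 with h | h
  · exact SQ.allR_spec cw13_6 x (by omega) (by omega)
  rcases Nat.lt_or_ge x 11016 with h | h
  · exact SQ.allR_spec cw13_7 x (by omega) (by omega)
  rcases Nat.lt_or_ge x 12393 with h | h
  · exact SQ.allR_spec cw13_8 x (by omega) (by omega)
  rcases Nat.lt_or_ge x 13770 with h | h
  · exact SQ.allR_spec cw13_9 x (by omega) (by omega)
  rcases Nat.lt_or_ge x 15147 with h | h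
  · exact SQ.allR_spec cw13_10 x (by omega) (by omega)
  rcases Nat.lt_or_ge x 16524 with h | h
  · exact SQ.allR_spec cw13_11 x (by omega) (by omega)
  rcases Nat.lt_or_ge x 17901 with h | h
  · exact SQ.allR_spec cw13_12 x (by omega) (by omega)
  rcases Nat.lt_or_ge x 19278 with h | h
  · exact SQ.allR_spec cw13_13 x (by omega) (by omega)
  rcases Nat.lt_or_ge x 20655 with h | h
  · exact SQ.allR_spec cw13_14 x (by omega) (by omega)
  rcases Nat.lt_or_ge x 22032 with h | h
  · exact SQ.allR_spec cw13_15 x (by omega) (by omega)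
  rcases Nat.lt_or_ge x 23409 with h | h
  · exact SQ.allR_spec cw13_16 x (by omega) (by omega)
  rcases Nat.lt_or_ge x 24786 with h | h
  · exact SQ.allR_spec cw13_17 x (by omega) (by omega)
  rcases Nat.lt_or_ge x 26163 with h | h
  · exact SQ.allR_spec cw13_18 x (by omega) (by omega)
  rcases Nat.lt_or_ge x 27540 with h | h
  · exact SQ.allR_spec cw13_19 x (by omega) (by omega)
  rcases Nat.lt_or_ge x 28917 with h | h
  · exact SQ.allR_spec cw13_20 x (by omega) (by omega)
  rcases Nat.lt_or_ge x 30294 with h | h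
  · exact SQ.allR_spec cw13_21 x (by omega) (by omega)
  exact SQ.allR_spec cw13_22 x (by omega) (by omega)


end Cfsg.Agent.Lib.Helper8.F3S
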