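import Cfsg.Agent.Lib.Helper8.F3S1

set_option autoImplicit false
set_option maxRecDepth 100000
set_option Elab.async false

/-! Fi23 on 31671 points: word certificates for S2652 (generated). -/

namespace Cfsg.Agent.Lib.Helper8.F3S

theorem cw0_0 : SQ.allR 0 31671 (fun x => Nat.beq (nst0 x) (vv0 x)) = true := by decide +kernel
theorem cw1_0 : SQ.allR 0 31671 (fun x => Nat.beq (nst1 x) (vv1 x)) = true := by decide +kernel
theorem cw2_0 : SQ.allR 0 31671 (fun x => Nat.beq (nst2 x) (vv2 x)) = true := by decide +kernel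
theorem cw3_0 : SQ.allR 0 31671 (fun x => Nat.beq (nst3 x) (vv3 x)) = true := by decide +kernel
theorem cw4_0 : SQ.allR 0 31671 (fun x => Nat.beq (nst4 x) (vv4 x)) = true := by decide +kernel
theorem cw5_0 : SQ.allR 0 10557 (fun x => Nat.beq (nst5 x) (vv5 x)) = true := by decide +kernel
theorem cw5_1 : SQ.allR 10557 10557 (fun x => Nat.beq (nst5 x) (vv5 x)) = true := by decide +kernel
theorem cw5_2 : SQ.allR 21114 10557 (fun x => Nat.beq (nst5 x) (vv5 x)) = true := by decide +kernel
theorem cw6_0 : SQ.allR 0 6335 (fun x => Nat.beq (nst6 x) (vv6 x)) = true := by decide +kernel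
theorem cw6_1 : SQ.allR 6335 6335 (fun x => Nat.beq (nst6 x) (vv6 x)) = true := by decide +kernel
theorem cw6_2 : SQ.allR 12670 6335 (fun x => Nat.beq (nst6 x) (vv6 x)) = true := by decide +kernel
theorem cw6_3 : SQ.allR 19005 6335 (fun x => Nat.beq (nst6 x) (vv6 x)) = true := by decide +kernel
theorem cw6_4 : SQ.allR 25340 6331 (fun x => Nat.beq (nst6 x) (vv6 x)) = true := by decide +kernel
theorem cw7_0 : SQ.allR 0 3959 (fun x => Nat.beq (nst7 x) (vv7 x)) = true := by decide +kernel
theorem cw7_1 : SQ.allR 3959 3959 (fun x => Nat.beq (nst7 x) (vv7 x)) = true := by decide +kernel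
theorem cw7_2 : SQ.allR 7918 3959 (fun x => Nat.beq (nst7 x) (vv7 x)) = true := by decide +kernel

end Cfsg.Agent.Lib.Helper8.F3S
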