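import Cfsg.Agent.Lib.Helper8.F3S1

set_option autoImplicit false
set_option maxRecDepth 100000
set_option Elab.async false

/-! Fi23 on 31671 points: checks for S2652 (generated). -/

namespace Cfsg.Agent.Lib.Helper8.F3S

theorem commB_5_2 : SQ.allR 0 31671 (fun x => Nat.beq (vv5 (vv2 x)) (vv2 (vv5 x))) = true := by decide +kernel
theorem commB_5_3 : SQ.allR 0 31671 (fun x => Nat.beq (vv5 (vv3 x)) (vv3 (vv5 x))) = true := by decide +kernel
theorem commB_5_4 : SQ.allR 0 31671 (fun x => Nat.beq (vv5 (vv4 x)) (vv4 (vv5 x))) = true := by decide +kernel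
theorem commB_6_0 : SQ.allR 0 31671 (fun x => Nat.beq (vv6 (vv0 x)) (vv0 (vv6 x))) = true := by decide +kernel
theorem commB_6_1 : SQ.allR 0 31671 (fun x => Nat.beq (vv6 (vv1 x)) (vv1 (vv6 x))) = true := by decide +kernel
theorem commB_6_2 : SQ.allR 0 31671 (fun x => Nat.beq (vv6 (vv2 x)) (vv2 (vv6 x))) = true := by decide +kernel
theorem commB_6_3 : SQ.allR 0 31671 (fun x => Nat.beq (vv6 (vv3 x)) (vv3 (vv6 x))) = true := by decide +kernel
theorem commB_6_4 : SQ.allR 0 31671 (fun x => Nat.beq (vv6 (vv4 x)) (vv4 (vv6 x))) = true := by decide +kernel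
theorem commB_6_5 : SQ.allR 0 31671 (fun x => Nat.beq (vv6 (vv5 x)) (vv5 (vv6 x))) = true := by decide +kernel
theorem commB_7_0 : SQ.allR 0 31671 (fun x => Nat.beq (vv7 (vv0 x)) (vv0 (vv7 x))) = true := by decide +kernel
theorem commB_7_1 : SQ.allR 0 31671 (fun x => Nat.beq (vv7 (vv1 x)) (vv1 (vv7 x))) = true := by decide +kernel
theorem commB_7_2 : SQ.allR 0 31671 (fun x => Nat.beq (vv7 (vv2 x)) (vv2 (vv7 x))) = true := by decide +kernel
theorem commB_7_3 : SQ.allR 0 31671 (fun x => Nat.beq (vv7 (vv3 x)) (vv3 (vv7 x))) = true := by decide +kernel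
theorem commB_7_4 : SQ.allR 0 31671 (fun x => Nat.beq (vv7 (vv4 x)) (vv4 (vv7 x))) = true := by decide +kernel
theorem commB_7_5 : SQ.allR 0 31671 (fun x => Nat.beq (vv7 (vv5 x)) (vv5 (vv7 x))) = true := by decide +kernel
theorem commB_7_6 : SQ.allR 0 31671 (fun x => Nat.beq (vv7 (vv6 x)) (vv6 (vv7 x))) = true := by decide +kernel
theorem commB_8_0 : SQ.allR 0 31671 (fun x => Nat.beq (vv8 (vv0 x)) (vv0 (vv8 x))) = true := by decide +kernel
theorem commB_8_1 : SQ.allR 0 31671 (fun x => Nat.beq (vv8 (vv1 x)) (vv1 (vv8 x))) = true := by decide +kernel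
theorem commB_8_2 : SQ.allR 0 31671 (fun x => Nat.beq (vv8 (vv2 x)) (vv2 (vv8 x))) = true := by decide +kernel

end Cfsg.Agent.Lib.Helper8.F3S
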