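import Cfsg.Agent.Lib.Helper8.F3S1

set_option autoImplicit false
set_option maxRecDepth 100000
set_option Elab.async false

/-! Fi23 on 31671 points: checks for S2652 (generated). -/

namespace Cfsg.Agent.Lib.Helper8.F3S

theorem commB_8_3 : SQ.allR 0 31671 (fun x => Nat.beq (vv8 (vv3 x)) (vv3 (vv8 x))) = true := by decide +kernel
theorem commB_8_4 : SQ.allR 0 31671 (fun x => Nat.beq (vv8 (vv4 x)) (vv4 (vv8 x))) = true := by decide +kernel
theorem commB_8_5 : SQ.allR 0 31671 (fun x => Nat.beq (vv8 (vv5 x)) (vv5 (vv8 x))) = true := by decide +kernel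
theorem commB_8_6 : SQ.allR 0 31671 (fun x => Nat.beq (vv8 (vv6 x)) (vv6 (vv8 x))) = true := by decide +kernel
theorem commB_8_7 : SQ.allR 0 31671 (fun x => Nat.beq (vv8 (vv7 x)) (vv7 (vv8 x))) = true := by decide +kernel
theorem commB_9_0 : SQ.allR 0 31671 (fun x => Nat.beq (vv9 (vv0 x)) (vv0 (vv9 x))) = true := by decide +kernel
theorem commB_9_1 : SQ.allR 0 31671 (fun x => Nat.beq (vv9 (vv1 x)) (vv1 (vv9 x))) = true := by decide +kernel
theorem commB_9_2 : SQ.allR 0 31671 (fun x => Nat.beq (vv9 (vv2 x)) (vv2 (vv9 x))) = true := by decide +kernel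
theorem commB_9_3 : SQ.allR 0 31671 (fun x => Nat.beq (vv9 (vv3 x)) (vv3 (vv9 x))) = true := by decide +kernel
theorem commB_9_4 : SQ.allR 0 31671 (fun x => Nat.beq (vv9 (vv4 x)) (vv4 (vv9 x))) = true := by decide +kernel
theorem commB_9_5 : SQ.allR 0 31671 (fun x => Nat.beq (vv9 (vv5 x)) (vv5 (vv9 x))) = true := by decide +kernel
theorem commB_9_6 : SQ.allR 0 31671 (fun x => Nat.beq (vv9 (vv6 x)) (vv6 (vv9 x))) = true := by decide +kernel
theorem commB_9_7 : SQ.allR 0 31671 (fun x => Nat.beq (vv9 (vv7 x)) (vv7 (vv9 x))) = true := by decide +kernel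
theorem commB_9_8 : SQ.allR 0 31671 (fun x => Nat.beq (vv9 (vv8 x)) (vv8 (vv9 x))) = true := by decide +kernel
theorem commB_10_0 : SQ.allR 0 31671 (fun x => Nat.beq (vv10 (vv0 x)) (vv0 (vv10 x))) = true := by decide +kernel
theorem commB_10_1 : SQ.allR 0 31671 (fun x => Nat.beq (vv10 (vv1 x)) (vv1 (vv10 x))) = true := by decide +kernel
theorem commB_10_2 : SQ.allR 0 31671 (fun x => Nat.beq (vv10 (vv2 x)) (vv2 (vv10 x))) = true := by decide +kernel
theorem commB_10_3 : SQ.allR 0 31671 (fun x => Nat.beq (vv10 (vv3 x)) (vv3 (vv10 x))) = true := by decide +kernel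
theorem commB_10_4 : SQ.allR 0 31671 (fun x => Nat.beq (vv10 (vv4 x)) (vv4 (vv10 x))) = true := by decide +kernel

end Cfsg.Agent.Lib.Helper8.F3S
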