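import Cfsg.Agent.Lib.Helper8.F3S1

set_option autoImplicit false
set_option maxRecDepth 100000
set_option Elab.async false

/-! Fi23 on 31671 points: checks for S2652 (generated). -/

namespace Cfsg.Agent.Lib.Helper8.F3S

theorem conjT_0_9 : SQ.allR 0 31671 (fun x => Nat.beq (vv11 (vv9 x)) (evB 11 1447 (vv11 x))) = true := by decide +kernel
theorem conjT_0_10 : SQ.allR 0 31671 (fun x => Nat.beq (vv11 (vv10 x)) (evB 11 64 (vv11 x))) = true := by decide +kernel
theorem conjT_1_0 : SQ.allR 0 31671 (fun x => Nat.beq (vv12 (vv0 x)) (evB 11 1 (vv12 x))) = true := by decide +kernel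
theorem conjT_1_1 : SQ.allR 0 31671 (fun x => Nat.beq (vv12 (vv1 x)) (evB 11 64 (vv12 x))) = true := by decide +kernel
theorem conjT_1_2 : SQ.allR 0 31671 (fun x => Nat.beq (vv12 (vv2 x)) (evB 11 1898 (vv12 x))) = true := by decide +kernel
theorem conjT_1_3 : SQ.allR 0 31671 (fun x => Nat.beq (vv12 (vv3 x)) (evB 11 8 (vv12 x))) = true := by decide +kernel
theorem conjT_1_4 : SQ.allR 0 31671 (fun x => Nat.beq (vv12 (vv4 x)) (evB 11 16 (vv12 x))) = true := by decide +kernel
theorem conjT_1_5 : SQ.allR 0 31671 (fun x => Nat.beq (vv12 (vv5 x)) (evB 11 1447 (vv12 x))) = true := by decide +kernel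
theorem conjT_1_6 : SQ.allR 0 31671 (fun x => Nat.beq (vv12 (vv6 x)) (evB 11 2 (vv12 x))) = true := by decide +kernel
theorem conjT_1_7 : SQ.allR 0 31671 (fun x => Nat.beq (vv12 (vv7 x)) (evB 11 1310 (vv12 x))) = true := by decide +kernel
theorem conjT_1_8 : SQ.allR 0 31671 (fun x => Nat.beq (vv12 (vv8 x)) (evB 11 256 (vv12 x))) = true := by decide +kernel
theorem conjT_1_9 : SQ.allR 0 31671 (fun x => Nat.beq (vv12 (vv9 x)) (evB 11 603 (vv12 x))) = true := by decide +kernel

end Cfsg.Agent.Lib.Helper8.F3S
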