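import Cfsg.Agent.Lib.Helper8.F3S3a
import Cfsg.Agent.Lib.Helper8.F3S3b
import Cfsg.Agent.Lib.Helper8.F3S3c
import Cfsg.Agent.Lib.Helper8.F3S3d
import Cfsg.Agent.Lib.Helper8.F3S3e
import Cfsg.Agent.Lib.Helper8.F3S3f

set_option autoImplicit false
set_option maxRecDepth 100000
set_option Elab.async false

/-! Fi23 on 31671 points: the checks for S2652 (generated). -/

namespace Cfsg.Agent.Lib.Helper8.F3S

theorem vb_0 (x : ℕ) : vb 0 x = vv0 x := rfl
theorem vb_1 (x : ℕ) : vb 1 x = vv1 x := rfl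
theorem vb_2 (x : ℕ) : vb 2 x = vv2 x := rfl
theorem vb_3 (x : ℕ) : vb 3 x = vv3 x := rfl
theorem vb_4 (x : ℕ) : vb 4 x = vv4 x := rfl
theorem vb_5 (x : ℕ) : vb 5 x = vv5 x := rfl
theorem vb_6 (x : ℕ) : vb 6 x = vv6 x := rfl
theorem vb_7 (x : ℕ) : vb 7 x = vv7 x := rfl
theorem vb_8 (x : ℕ) : vb 8 x = vv8 x := rfl
theorem vb_9 (x : ℕ) : vb 9 x = vv9 x := rfl
theorem vb_10 (x : ℕ) : vb 10 x = vv10 x := rfl
theorem vt_0 (x : ℕ) : vt 0 x = vv11 x := rfl
theorem vt_1 (x : ℕ) : vt 1 x = vv12 x := rfl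
theorem vt_2 (x : ℕ) : vt 2 x = vv13 x := rfl

theorem sqB_all (s : ℕ) (hs : s < 11) (x : ℕ) (hx : x < 31671) : vb s (vb s x) = x := by
  interval_cases s
  · exact Nat.eq_of_beq_eq_true (SQ.allR_spec sqB_0 x (by omega) (by omega))
  · exact Nat.eq_of_beq_eq_true (SQ.allR_spec sqB_1 x (by omega) (by omega))
  · exact Nat.eq_of_beq_eq_true (SQ.allR_spec sqB_2 x (by omega) (by omega))
  · exact Nat.eq_of_beq_eq_true (SQ.allR_spec sqB_3 x (by omega) (by omega))
  · exact Nat.eq_of_beq_eq_true (SQ.allR_spec sqB_4 x (by omega) (by omega))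
  · exact Nat.eq_of_beq_eq_true (SQ.allR_spec sqB_5 x (by omega) (by omega))
  · exact Nat.eq_of_beq_eq_true (SQ.allR_spec sqB_6 x (by omega) (by omega))
  · exact Nat.eq_of_beq_eq_true (SQ.allR_spec sqB_7 x (by omega) (by omega))
  · exact Nat.eq_of_beq_eq_true (SQ.allR_spec sqB_8 x (by omega) (by omega))
  · exact Nat.eq_of_beq_eq_true (SQ.allR_spec sqB_9 x (by omega) (by omega))
  · exact Nat.eq_of_beq_eq_true (SQ.allR_spec sqB_10 x (by omega) (by omega))

theorem sqT_all (k : ℕ) (hk : k < 3) (x : ℕ) (hx : x < 31671) : vt k (vt k x) = x := by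
  interval_cases k
  · exact Nat.eq_of_beq_eq_true (SQ.allR_spec sqT_0 x (by omega) (by omega))
  · exact Nat.eq_of_beq_eq_true (SQ.allR_spec sqT_1 x (by omega) (by omega))
  · exact Nat.eq_of_beq_eq_true (SQ.allR_spec sqT_2 x (by omega) (by omega))

theorem commB_all (s s' : ℕ) (hs : s < 11) (hs' : s' < s) (x : ℕ) (hx : x < 31671) :
    vb s (vb s' x) = vb s' (vb s x) := by
  interval_cases s
  · omega
  · interval_cases s'
    · exact Nat.eq_of_beq_eq_true (SQ.allR_spec commB_1_0 x (by omega) (by omega))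
  · interval_cases s'
    · exact Nat.eq_of_beq_eq_true (SQ.allR_spec commB_2_0 x (by omega) (by omega))
    · exact Nat.eq_of_beq_eq_true (SQ.allR_spec commB_2_1 x (by omega) (by omega))
  · interval_cases s'
    · exact Nat.eq_of_beq_eq_true (SQ.allR_spec commB_3_0 x (by omega) (by omega))
    · exact Nat.eq_of_beq_eq_true (SQ.allR_spec commB_3_1 x (by omega) (by omega))
    · exact Nat.eq_of_beq_eq_true (SQ.allR_spec commB_3_2 x (by omega) (by omega))
  · interval_cases s'
    · exact Nat.eq_of_beq_eq_true (SQ.allR_spec commB_4_0 x (by omega) (by omega))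
    · exact Nat.eq_of_beq_eq_true (SQ.allR_spec commB_4_1 x (by omega) (by omega))
    · exact Nat.eq_of_beq_eq_true (SQ.allR_spec commB_4_2 x (by omega) (by omega))
    · exact Nat.eq_of_beq_eq_true (SQ.allR_spec commB_4_3 x (by omega) (by omega))
  · interval_cases s'
    · exact Nat.eq_of_beq_eq_true (SQ.allR_spec commB_5_0 x (by omega) (by omega))
    · exact Nat.eq_of_beq_eq_true (SQ.allR_spec commB_5_1 x (by omega) (by omega))
    · exact Nat.eq_of_beq_eq_true (SQ.allR_spec commB_5_2 x (by omega) (by omega))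
    · exact Nat.eq_of_beq_eq_true (SQ.allR_spec commB_5_3 x (by omega) (by omega))
    · exact Nat.eq_of_beq_eq_true (SQ.allR_spec commB_5_4 x (by omega) (by omega))
  · interval_cases s'
    · exact Nat.eq_of_beq_eq_true (SQ.allR_spec commB_6_0 x (by omega) (by omega))
    · exact Nat.eq_of_beq_eq_true (SQ.allR_spec commB_6_1 x (by omega) (by omega))
    · exact Nat.eq_of_beq_eq_true (SQ.allR_spec commB_6_2 x (by omega) (by omega))
    · exact Nat.eq_of_beq_eq_true (SQ.allR_spec commB_6_3 x (by omega) (by omega))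
    · exact Nat.eq_of_beq_eq_true (SQ.allR_spec commB_6_4 x (by omega) (by omega))
    · exact Nat.eq_of_beq_eq_true (SQ.allR_spec commB_6_5 x (by omega) (by omega))
  · interval_cases s'
    · exact Nat.eq_of_beq_eq_true (SQ.allR_spec commB_7_0 x (by omega) (by omega))
    · exact Nat.eq_of_beq_eq_true (SQ.allR_spec commB_7_1 x (by omega) (by omega))
    · exact Nat.eq_of_beq_eq_true (SQ.allR_spec commB_7_2 x (by omega) (by omega))
    · exact Nat.eq_of_beq_eq_true (SQ.allR_spec commB_7_3 x (by omega) (by omega))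
    · exact Nat.eq_of_beq_eq_true (SQ.allR_spec commB_7_4 x (by omega) (by omega))
    · exact Nat.eq_of_beq_eq_true (SQ.allR_spec commB_7_5 x (by omega) (by omega))
    · exact Nat.eq_of_beq_eq_true (SQ.allR_spec commB_7_6 x (by omega) (by omega))
  · interval_cases s'
    · exact Nat.eq_of_beq_eq_true (SQ.allR_spec commB_8_0 x (by omega) (by omega))
    · exact Nat.eq_of_beq_eq_true (SQ.allR_spec commB_8_1 x (by omega) (by omega))
    · exact Nat.eq_of_beq_eq_true (SQ.allR_spec commB_8_2 x (by omega) (by omega))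
    · exact Nat.eq_of_beq_eq_true (SQ.allR_spec commB_8_3 x (by omega) (by omega))
    · exact Nat.eq_of_beq_eq_true (SQ.allR_spec commB_8_4 x (by omega) (by omega))
    · exact Nat.eq_of_beq_eq_true (SQ.allR_spec commB_8_5 x (by omega) (by omega))
    · exact Nat.eq_of_beq_eq_true (SQ.allR_spec commB_8_6 x (by omega) (by omega))
    · exact Nat.eq_of_beq_eq_true (SQ.allR_spec commB_8_7 x (by omega) (by omega))
  · interval_cases s'
    · exact Nat.eq_of_beq_eq_true (SQ.allR_spec commB_9_0 x (by omega) (by omega))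
    · exact Nat.eq_of_beq_eq_true (SQ.allR_spec commB_9_1 x (by omega) (by omega))
    · exact Nat.eq_of_beq_eq_true (SQ.allR_spec commB_9_2 x (by omega) (by omega))
    · exact Nat.eq_of_beq_eq_true (SQ.allR_spec commB_9_3 x (by omega) (by omega))
    · exact Nat.eq_of_beq_eq_true (SQ.allR_spec commB_9_4 x (by omega) (by omega))
    · exact Nat.eq_of_beq_eq_true (SQ.allR_spec commB_9_5 x (by omega) (by omega))
    · exact Nat.eq_of_beq_eq_true (SQ.allR_spec commB_9_6 x (by omega) (by omega))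
    · exact Nat.eq_of_beq_eq_true (SQ.allR_spec commB_9_7 x (by omega) (by omega))
    · exact Nat.eq_of_beq_eq_true (SQ.allR_spec commB_9_8 x (by omega) (by omega))
  · interval_cases s'
    · exact Nat.eq_of_beq_eq_true (SQ.allR_spec commB_10_0 x (by omega) (by omega))
    · exact Nat.eq_of_beq_eq_true (SQ.allR_spec commB_10_1 x (by omega) (by omega))
    · exact Nat.eq_of_beq_eq_true (SQ.allR_spec commB_10_2 x (by omega) (by omega))
    · exact Nat.eq_of_beq_eq_true (SQ.allR_spec commB_10_3 x (by omega) (by omega))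
    · exact Nat.eq_of_beq_eq_true (SQ.allR_spec commB_10_4 x (by omega) (by omega))
    · exact Nat.eq_of_beq_eq_true (SQ.allR_spec commB_10_5 x (by omega) (by omega))
    · exact Nat.eq_of_beq_eq_true (SQ.allR_spec commB_10_6 x (by omega) (by omega))
    · exact Nat.eq_of_beq_eq_true (SQ.allR_spec commB_10_7 x (by omega) (by omega))
    · exact Nat.eq_of_beq_eq_true (SQ.allR_spec commB_10_8 x (by omega) (by omega))
    · exact Nat.eq_of_beq_eq_true (SQ.allR_spec commB_10_9 x (by omega) (by omega))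

theorem mask_0_0 : co (sg 0 (bas 0)) = 1 := by decide
theorem mask_0_1 : co (sg 0 (bas 1)) = 4 := by decide
theorem mask_0_2 : co (sg 0 (bas 2)) = 2 := by decide
theorem mask_0_3 : co (sg 0 (bas 3)) = 8 := by decide
theorem mask_0_4 : co (sg 0 (bas 4)) = 1009 := by decide
theorem mask_0_5 : co (sg 0 (bas 5)) = 32 := by decide
theorem mask_0_6 : co (sg 0 (bas 6)) = 1024 := by decide
theorem mask_0_7 : co (sg 0 (bas 7)) = 1714 := by decide
theorem mask_0_8 : co (sg 0 (bas 8)) = 1237 := by decide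
theorem mask_0_9 : co (sg 0 (bas 9)) = 1447 := by decide
theorem mask_0_10 : co (sg 0 (bas 10)) = 64 := by decide
theorem mask_1_0 : co (sg 1 (bas 0)) = 1 := by decide
theorem mask_1_1 : co (sg 1 (bas 1)) = 64 := by decide
theorem mask_1_2 : co (sg 1 (bas 2)) = 1898 := by decide
theorem mask_1_3 : co (sg 1 (bas 3)) = 8 := by decide
theorem mask_1_4 : co (sg 1 (bas 4)) = 16 := by decide
theorem mask_1_5 : co (sg 1 (bas 5)) = 1447 := by decide
theorem mask_1_6 : co (sg 1 (bas 6)) = 2 := by decide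
theorem mask_1_7 : co (sg 1 (bas 7)) = 1310 := by decide
theorem mask_1_8 : co (sg 1 (bas 8)) = 256 := by decide
theorem mask_1_9 : co (sg 1 (bas 9)) = 603 := by decide
theorem mask_1_10 : co (sg 1 (bas 10)) = 1714 := by decide
theorem mask_2_0 : co (sg 2 (bas 0)) = 2 := by decide
theorem mask_2_1 : co (sg 2 (bas 1)) = 1 := by decide
theorem mask_2_2 : co (sg 2 (bas 2)) = 32 := by decide
theorem mask_2_3 : co (sg 2 (bas 3)) = 1310 := by decide
theorem mask_2_4 : co (sg 2 (bas 4)) = 16 := by decide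
theorem mask_2_5 : co (sg 2 (bas 5)) = 4 := by decide
theorem mask_2_6 : co (sg 2 (bas 6)) = 1237 := by decide
theorem mask_2_7 : co (sg 2 (bas 7)) = 256 := by decide
theorem mask_2_8 : co (sg 2 (bas 8)) = 128 := by decide
theorem mask_2_9 : co (sg 2 (bas 9)) = 1714 := by decide
theorem mask_2_10 : co (sg 2 (bas 10)) = 1447 := by decide

theorem conjT_all (k s : ℕ) (hk : k < 3) (hs : s < 11) (x : ℕ) (hx : x < 31671) :
    vt k (vb s x) = evB 11 (co (sg k (bas s))) (vt k x) := by
  interval_cases k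
  · interval_cases s
    · rw [mask_0_0]
      exact Nat.eq_of_beq_eq_true (SQ.allR_spec conjT_0_0 x (by omega) (by omega))
    · rw [mask_0_1]
      exact Nat.eq_of_beq_eq_true (SQ.allR_spec conjT_0_1 x (by omega) (by omega))
    · rw [mask_0_2]
      exact Nat.eq_of_beq_eq_true (SQ.allR_spec conjT_0_2 x (by omega) (by omega))
    · rw [mask_0_3]
      exact Nat.eq_of_beq_eq_true (SQ.allR_spec conjT_0_3 x (by omega) (by omega))
    · rw [mask_0_4]
      exact Nat.eq_of_beq_eq_true (SQ.allR_spec conjT_0_4 x (by omega) (by omega))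
    · rw [mask_0_5]
      exact Nat.eq_of_beq_eq_true (SQ.allR_spec conjT_0_5 x (by omega) (by omega))
    · rw [mask_0_6]
      exact Nat.eq_of_beq_eq_true (SQ.allR_spec conjT_0_6 x (by omega) (by omega))
    · rw [mask_0_7]
      exact Nat.eq_of_beq_eq_true (SQ.allR_spec conjT_0_7 x (by omega) (by omega))
    · rw [mask_0_8]
      exact Nat.eq_of_beq_eq_true (SQ.allR_spec conjT_0_8 x (by omega) (by omega))
    · rw [mask_0_9]
      exact Nat.eq_of_beq_eq_true (SQ.allR_spec conjT_0_9 x (by omega) (by omega))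
    · rw [mask_0_10]
      exact Nat.eq_of_beq_eq_true (SQ.allR_spec conjT_0_10 x (by omega) (by omega))
  · interval_cases s
    · rw [mask_1_0]
      exact Nat.eq_of_beq_eq_true (SQ.allR_spec conjT_1_0 x (by omega) (by omega))
    · rw [mask_1_1]
      exact Nat.eq_of_beq_eq_true (SQ.allR_spec conjT_1_1 x (by omega) (by omega))
    · rw [mask_1_2]
      exact Nat.eq_of_beq_eq_true (SQ.allR_spec conjT_1_2 x (by omega) (by omega))
    · rw [mask_1_3]
      exact Nat.eq_of_beq_eq_true (SQ.allR_spec conjT_1_3 x (by omega) (by omega))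
    · rw [mask_1_4]
      exact Nat.eq_of_beq_eq_true (SQ.allR_spec conjT_1_4 x (by omega) (by omega))
    · rw [mask_1_5]
      exact Nat.eq_of_beq_eq_true (SQ.allR_spec conjT_1_5 x (by omega) (by omega))
    · rw [mask_1_6]
      exact Nat.eq_of_beq_eq_true (SQ.allR_spec conjT_1_6 x (by omega) (by omega))
    · rw [mask_1_7]
      exact Nat.eq_of_beq_eq_true (SQ.allR_spec conjT_1_7 x (by omega) (by omega))
    · rw [mask_1_8]
      exact Nat.eq_of_beq_eq_true (SQ.allR_spec conjT_1_8 x (by omega) (by omega))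
    · rw [mask_1_9]
      exact Nat.eq_of_beq_eq_true (SQ.allR_spec conjT_1_9 x (by omega) (by omega))
    · rw [mask_1_10]
      exact Nat.eq_of_beq_eq_true (SQ.allR_spec conjT_1_10 x (by omega) (by omega))
  · interval_cases s
    · rw [mask_2_0]
      exact Nat.eq_of_beq_eq_true (SQ.allR_spec conjT_2_0 x (by omega) (by omega))
    · rw [mask_2_1]
      exact Nat.eq_of_beq_eq_true (SQ.allR_spec conjT_2_1 x (by omega) (by omega))
    · rw [mask_2_2]
      exact Nat.eq_of_beq_eq_true (SQ.allR_spec conjT_2_2 x (by omega) (by omega))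
    · rw [mask_2_3]
      exact Nat.eq_of_beq_eq_true (SQ.allR_spec conjT_2_3 x (by omega) (by omega))
    · rw [mask_2_4]
      exact Nat.eq_of_beq_eq_true (SQ.allR_spec conjT_2_4 x (by omega) (by omega))
    · rw [mask_2_5]
      exact Nat.eq_of_beq_eq_true (SQ.allR_spec conjT_2_5 x (by omega) (by omega))
    · rw [mask_2_6]
      exact Nat.eq_of_beq_eq_true (SQ.allR_spec conjT_2_6 x (by omega) (by omega))
    · rw [mask_2_7]
      exact Nat.eq_of_beq_eq_true (SQ.allR_spec conjT_2_7 x (by omega) (by omega))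
    · rw [mask_2_8]
      exact Nat.eq_of_beq_eq_true (SQ.allR_spec conjT_2_8 x (by omega) (by omega))
    · rw [mask_2_9]
      exact Nat.eq_of_beq_eq_true (SQ.allR_spec conjT_2_9 x (by omega) (by omega))
    · rw [mask_2_10]
      exact Nat.eq_of_beq_eq_true (SQ.allR_spec conjT_2_10 x (by omega) (by omega))

theorem kerC_all (v : ℕ) (h1 : 1 ≤ v) (h2 : v < 2048) :
    (!(Nat.beq (evB 11 v 4402) 4402 && Nat.beq (evB 11 v 18651) 18651)) = true :=
  SQ.allR_spec kerC v h1 (by omega)

end Cfsg.Agent.Lib.Helper8.F3S
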