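import Cfsg.Agent.Lib.Helper8.F3S1

set_option autoImplicit false
set_option maxRecDepth 100000
set_option Elab.async false

/-! Fi23 on 31671 points: checks for S2652 (generated). -/

namespace Cfsg.Agent.Lib.Helper8.F3S

theorem sqB_0 : SQ.allR 0 31671 (fun x => Nat.beq (vv0 (vv0 x)) x) = true := by decide +kernel
theorem sqB_1 : SQ.allR 0 31671 (fun x => Nat.beq (vv1 (vv1 x)) x) = true := by decide +kernel
theorem sqB_2 : SQ.allR 0 31671 (fun x => Nat.beq (vv2 (vv2 x)) x) = true := by decide +kernel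
theorem sqB_3 : SQ.allR 0 31671 (fun x => Nat.beq (vv3 (vv3 x)) x) = true := by decide +kernel
theorem sqB_4 : SQ.allR 0 31671 (fun x => Nat.beq (vv4 (vv4 x)) x) = true := by decide +kernel
theorem sqB_5 : SQ.allR 0 31671 (fun x => Nat.beq (vv5 (vv5 x)) x) = true := by decide +kernel
theorem sqB_6 : SQ.allR 0 31671 (fun x => Nat.beq (vv6 (vv6 x)) x) = true := by decide +kernel
theorem sqB_7 : SQ.allR 0 31671 (fun x => Nat.beq (vv7 (vv7 x)) x) = true := by decide +kernel
theorem sqB_8 : SQ.allR 0 31671 (fun x => Nat.beq (vv8 (vv8 x)) x) = true := by decide +kernel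
theorem sqB_9 : SQ.allR 0 31671 (fun x => Nat.beq (vv9 (vv9 x)) x) = true := by decide +kernel
theorem sqB_10 : SQ.allR 0 31671 (fun x => Nat.beq (vv10 (vv10 x)) x) = true := by decide +kernel
theorem sqT_0 : SQ.allR 0 31671 (fun x => Nat.beq (vv11 (vv11 x)) x) = true := by decide +kernel
theorem sqT_1 : SQ.allR 0 31671 (fun x => Nat.beq (vv12 (vv12 x)) x) = true := by decide +kernel
theorem sqT_2 : SQ.allR 0 31671 (fun x => Nat.beq (vv13 (vv13 x)) x) = true := by decide +kernel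
theorem kerC : SQ.allR 1 2047 (fun v => !(Nat.beq (evB 11 v 4402) 4402 && Nat.beq (evB 11 v 18651) 18651)) = true := by decide +kernel
theorem commB_1_0 : SQ.allR 0 31671 (fun x => Nat.beq (vv1 (vv0 x)) (vv0 (vv1 x))) = true := by decide +kernel
theorem commB_2_0 : SQ.allR 0 31671 (fun x => Nat.beq (vv2 (vv0 x)) (vv0 (vv2 x))) = true := by decide +kernel
theorem commB_2_1 : SQ.allR 0 31671 (fun x => Nat.beq (vv2 (vv1 x)) (vv1 (vv2 x))) = true := by decide +kernel
theorem commB_3_0 : SQ.allR 0 31671 (fun x => Nat.beq (vv3 (vv0 x)) (vv0 (vv3 x))) = true := by decide +kernel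
theorem commB_3_1 : SQ.allR 0 31671 (fun x => Nat.beq (vv3 (vv1 x)) (vv1 (vv3 x))) = true := by decide +kernel
theorem commB_3_2 : SQ.allR 0 31671 (fun x => Nat.beq (vv3 (vv2 x)) (vv2 (vv3 x))) = true := by decide +kernel
theorem commB_4_0 : SQ.allR 0 31671 (fun x => Nat.beq (vv4 (vv0 x)) (vv0 (vv4 x))) = true := by decide +kernel
theorem commB_4_1 : SQ.allR 0 31671 (fun x => Nat.beq (vv4 (vv1 x)) (vv1 (vv4 x))) = true := by decide +kernel
theorem commB_4_2 : SQ.allR 0 31671 (fun x => Nat.beq (vv4 (vv2 x)) (vv2 (vv4 x))) = true := by decide +kernel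
theorem commB_4_3 : SQ.allR 0 31671 (fun x => Nat.beq (vv4 (vv3 x)) (vv3 (vv4 x))) = true := by decide +kernel
theorem commB_5_0 : SQ.allR 0 31671 (fun x => Nat.beq (vv5 (vv0 x)) (vv0 (vv5 x))) = true := by decide +kernel
theorem commB_5_1 : SQ.allR 0 31671 (fun x => Nat.beq (vv5 (vv1 x)) (vv1 (vv5 x))) = true := by decide +kernel

end Cfsg.Agent.Lib.Helper8.F3S
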