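import Cfsg.Agent.Lib.Helper8.F3S1
import Cfsg.Agent.Lib.Helper8.F3S0b

set_option autoImplicit false
set_option maxRecDepth 100000
set_option Elab.async false

/-! Fi23: the combinatorial data of the `2^11.M23`-part for S2652. -/

namespace Cfsg.Agent.Lib.Helper8.F3S

instance instDecIsInv (sg : ℕ → ℕ → ℕ) (w : List ℕ) : Decidable (isInv sg w) := by
  unfold isInv; infer_instance

instance instDecNonId (sg : ℕ → ℕ → ℕ) (w : List ℕ) : Decidable (nonId sg w) := by
  unfold nonId; infer_instance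

theorem dat1 : ∀ s < 11, bas s < 23 ∧ co (bas s) = 2 ^ s := by decide +kernel

theorem dat2 : ∀ j < 23, co j < 2 ^ 11 := by decide +kernel

theorem dat2' : ∀ j < 23, ∀ j' < 23, co j = co j' → j = j' := by decide +kernel

theorem dat3 : ∀ k < 3, ∀ j < 23, sg k j < 23 ∧ sg k (sg k j) = j ∧
    lin (fun s => co (sg k (bas s))) 11 (co j) = co (sg k j) := by decide +kernel

theorem dat4a : [] ∈ WL := by decide +kernel

theorem dat4b : ∀ w ∈ WL, ∀ k < 3, ∃ w' ∈ WL, ∀ j < 23, tabW sg (k :: w) j = tabW sg w' j := by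
  decide +kernel

theorem dat4c : ∀ w ∈ WL, ∀ k ∈ w, k < 3 := by decide +kernel

theorem dat5 : ∀ w ∈ WL, ∀ w' ∈ WL, (∀ j < 23, tabW sg w j = tabW sg w' j) → w = w' := by
  decide +kernel

theorem dat5n : WL.Nodup := by decide +kernel

theorem dat5l : WL.length = 128 := by decide +kernel

end Cfsg.Agent.Lib.Helper8.F3S
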