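import Cfsg.Agent.Lib.Helper8.F3S4

set_option autoImplicit false
set_option maxRecDepth 100000
set_option Elab.async false

/-! Fi23: the combinatorial data of the `2^11.M23`-part for S2652. -/

namespace Cfsg.Agent.Lib.Helper8.F3S

theorem dat6 : ∀ w ∈ WL, isInv sg w → nonId sg w →
    ((List.range 23).filter (fun j => tabW sg w j = j)).length = 7 ∧
    ((List.range (2 ^ 11)).filter (fun v => fixQ co bas sg w v)).length ≤ 128 := by
  decide +kernel

theorem dat7a : ∀ w ∈ WL, ∀ w' ∈ WL, isInv sg w → nonId sg w → isInv sg w' → nonId sg w' →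
    (∃ j < 23, tabW sg w j ≠ tabW sg w' j) →
    ∃ v < 258, ¬ (fixQ co bas sg w v ↔ fixQ co bas sg w' v) := by
  decide +kernel

theorem dat7 : ∀ w ∈ WL, ∀ w' ∈ WL, isInv sg w → nonId sg w → isInv sg w' → nonId sg w' →
    (∃ j < 23, tabW sg w j ≠ tabW sg w' j) →
    ∃ v < 2 ^ 11, ¬ (fixQ co bas sg w v ↔ fixQ co bas sg w' v) := by
  intro w hw w' hw' h1 h2 h3 h4 h5
  obtain ⟨v, hv, h⟩ := dat7a w hw w' hw' h1 h2 h3 h4 h5
  exact ⟨v, by omega, h⟩

end Cfsg.Agent.Lib.Helper8.F3S
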