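import Cfsg.Agent.Lib.Helper8.F3O8
import Cfsg.Agent.Lib.Helper8.F3S0e
import Cfsg.Agent.Lib.Helper8.F3S2
import Cfsg.Agent.Lib.Helper8.F3S3
import Cfsg.Agent.Lib.Helper8.F3S4b

set_option autoImplicit false
set_option maxRecDepth 100000

/-! Fi23: a Sylow 2-subgroup has exactly one normal elementary abelian subgroup of order `2^11`. -/

namespace Cfsg.Agent.Lib.Helper8.F3S

open Cfsg.Spor Cfsg.Agent.Lib.Helper4.TC Cfsg.Agent.Lib.Helper4.TCD Cfsg.Agent.Lib.Helper4.TC.Log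
open F3O (Gp φ gN_word eq_of_gN eq_one_of_gN cardGp finGp)

/-- the words of the basis involutions -/
def bw (s : ℕ) : List ℕ := [WW0, WW1, WW2, WW3, WW4, WW5, WW6, WW7, WW8, WW9, WW10].getD s []

/-- the words of the three lifts -/
def tw (k : ℕ) : List ℕ := [WW11, WW12, WW13].getD k []

/-- the basis involutions -/
noncomputable def bE (s : ℕ) : Gp := wordP PFi23.P.gR (bw s)

/-- the three lifts -/
noncomputable def tE (k : ℕ) : Gp := wordP PFi23.P.gR (tw k)

theorem hbw (s : ℕ) (hs : s < 11) : ∀ y ∈ bw s, y < 10 := by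
  interval_cases s <;> decide

theorem htw (k : ℕ) (hk : k < 3) : ∀ y ∈ tw k, y < 10 := by
  interval_cases k <;> decide

theorem act_bw (s : ℕ) (hs : s < 11) (i : ℕ) (hi : i < 31671) : F3O.actU (bw s) i = vb s i := by
  interval_cases s
  · exact cw0_all i hi
  · exact cw1_all i hi
  · exact cw2_all i hi
  · exact cw3_all i hi
  · exact cw4_all i hi
  · exact cw5_all i hi
  · exact cw6_all i hi
  · exact cw7_all i hi
  · exact cw8_all i hi
  · exact cw9_all i hi
  · exact cw10_all i hi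

theorem act_tw (k : ℕ) (hk : k < 3) (i : ℕ) (hi : i < 31671) : F3O.actU (tw k) i = vt k i := by
  interval_cases k
  · exact cw11_all i hi
  · exact cw12_all i hi
  · exact cw13_all i hi

theorem gN_bE (s : ℕ) (hs : s < 11) (i : ℕ) (hi : i < 31671) : SQ.gN (φ (bE s)) i = vb s i := by
  rw [bE, gN_word _ (hbw s hs) i hi]
  exact act_bw s hs i hi

theorem gN_tE (k : ℕ) (hk : k < 3) (i : ℕ) (hi : i < 31671) : SQ.gN (φ (tE k)) i = vt k i := by
  rw [tE, gN_word _ (htw k hk) i hi]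
  exact act_tw k hk i hi

theorem vb_lt (s : ℕ) (hs : s < 11) (i : ℕ) (hi : i < 31671) : vb s i < 31671 := by
  rw [← gN_bE s hs i hi]
  exact SQ.gN_lt _ hi

theorem vt_lt (k : ℕ) (hk : k < 3) (i : ℕ) (hi : i < 31671) : vt k i < 31671 := by
  rw [← gN_tE k hk i hi]
  exact SQ.gN_lt _ hi

theorem hb2 (s : ℕ) (hs : s < 11) : bE s * bE s = 1 := by
  apply eq_one_of_gN
  intro i hi
  rw [map_mul, SQ.gN_mul, gN_bE s hs i hi, gN_bE s hs _ (vb_lt s hs i hi)]
  exact sqB_all s hs i hi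

theorem ht2 (k : ℕ) (hk : k < 3) : tE k * tE k = 1 := by
  apply eq_one_of_gN
  intro i hi
  rw [map_mul, SQ.gN_mul, gN_tE k hk i hi, gN_tE k hk _ (vt_lt k hk i hi)]
  exact sqT_all k hk i hi

theorem hbc (s : ℕ) (hs : s < 11) (s' : ℕ) (hs' : s' < 11) : bE s * bE s' = bE s' * bE s := by
  have key : ∀ a < 11, ∀ c < a, bE a * bE c = bE c * bE a := by
    intro a ha c hc
    apply eq_of_gN
    intro i hi
    have hc' : c < 11 := by omega
    rw [map_mul, map_mul, SQ.gN_mul, SQ.gN_mul, gN_bE c hc' i hi, gN_bE a ha i hi,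
      gN_bE a ha _ (vb_lt c hc' i hi), gN_bE c hc' _ (vb_lt a ha i hi)]
    exact commB_all a c ha hc i hi
  rcases Nat.lt_trichotomy s s' with h | h | h
  · exact (key s' hs' s h).symm
  · rw [h]
  · exact key s hs s' h

theorem gN_bprod (n : ℕ) (hn : n ≤ 11) (v i : ℕ) (hi : i < 31671) :
    SQ.gN (φ (bprod bE n v)) i = evB n v i := by
  induction n generalizing i with
  | zero =>
    rw [bprod, map_one, SQ.gN_one]
    rfl
  | succ n ih =>
    rw [bprod, map_mul, SQ.gN_mul, evB]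
    cases h : Nat.testBit v n
    · simp only [Bool.false_eq_true, if_false, cond_false, map_one, SQ.gN_one]
      exact ih (by omega) i hi
    · rw [if_pos rfl, cond_true, gN_bE n (by omega) i hi]
      exact ih (by omega) _ (vb_lt n (by omega) i hi)

theorem hker (v : ℕ) (hv : v < 2 ^ 11) (h : bprod bE 11 v = 1) : v = 0 := by
  by_contra hne
  have h1 : 1 ≤ v := Nat.one_le_iff_ne_zero.2 hne
  have hc := kerC_all v h1 (by norm_num at hv; exact hv)
  have e1 : evB 11 v 4402 = 4402 := by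
    rw [← gN_bprod 11 le_rfl v 4402 (by norm_num), h, map_one, SQ.gN_one]
  have e2 : evB 11 v 18651 = 18651 := by
    rw [← gN_bprod 11 le_rfl v 18651 (by norm_num), h, map_one, SQ.gN_one]
  rw [e1, e2] at hc
  exact absurd hc (by decide)

theorem ht (k : ℕ) (hk : k < 3) (s : ℕ) (hs : s < 11) :
    tE k * bE s * (tE k)⁻¹ = bprod bE 11 (co (sg k (bas s))) := by
  rw [mul_inv_eq_iff_eq_mul]
  apply eq_of_gN
  intro i hi
  rw [map_mul, map_mul, SQ.gN_mul, SQ.gN_mul, gN_bE s hs i hi, gN_tE k hk i hi,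
    gN_tE k hk _ (vb_lt s hs i hi), gN_bprod 11 le_rfl _ _ (vt_lt k hk i hi)]
  exact conjT_all k s hk hs i hi

theorem hyp : Hyp bE tE co bas sg WL where
  hb2 := hb2
  hbc := hbc
  hker := hker
  ht := ht
  ht2 := ht2
  d1 := dat1
  d2 := dat2
  d2' := dat2'
  d3 := dat3
  d4a := dat4a
  d4b := dat4b
  d4c := dat4c
  d5 := dat5
  d5n := dat5n
  d5l := dat5l
  d6 := dat6
  d7 := dat7

theorem m0_odd : Odd (3 ^ 13 * 5 ^ 2 * 7 * 11 * 13 * 17 * 23 : ℕ) := by
  rw [Nat.odd_iff]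
  norm_num

theorem fi23_main (T : Sylow 2 Gp) :
    (∀ A : Subgroup Gp, A ≤ T → (A.subgroupOf T).Normal → Cfsg.IsElementaryAbelian 2 A →
        Nat.card A ≤ 2 ^ 11) ∧
    ∃! A : Subgroup Gp, A ≤ T ∧ (A.subgroupOf T).Normal ∧ Cfsg.IsElementaryAbelian 2 A ∧
        Nat.card A = 2 ^ 11 := by
  have := finGp
  exact main hyp (3 ^ 13 * 5 ^ 2 * 7 * 11 * 13 * 17 * 23) (by rw [cardGp]; norm_num) m0_odd T

end Cfsg.Agent.Lib.Helper8.F3S
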