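import Cfsg.Agent.Lib.Helper8.F3S0e

set_option autoImplicit false

/-! The setwise normaliser `E` of the 23 commuting involutions and its action on them. -/

namespace Cfsg.Agent.Lib.Helper8.F3S

section NEsec
variable {G : Type*} [Group G] {b t : ℕ → G} {co bas : ℕ → ℕ} {sg : ℕ → ℕ → ℕ} {W : List (List ℕ)}

/-- the setwise normaliser of the 23 involutions -/
def NE (b : ℕ → G) (co : ℕ → ℕ) : Subgroup G where
  carrier := {g | (∀ j : Fin 23, ∃ j' : Fin 23, g * dd b co j * g⁻¹ = dd b co j') ∧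
    (∀ j : Fin 23, ∃ j' : Fin 23, g⁻¹ * dd b co j * g = dd b co j')}
  one_mem' := ⟨fun j => ⟨j, by simp⟩, fun j => ⟨j, by simp⟩⟩
  mul_mem' := by
    rintro g h ⟨hg1, hg2⟩ ⟨hh1, hh2⟩
    constructor
    · intro j
      obtain ⟨j1, h1⟩ := hh1 j
      obtain ⟨j2, h2⟩ := hg1 j1
      refine ⟨j2, ?_⟩
      rw [← h2, ← h1]
      group
    · intro j
      obtain ⟨j1, h1⟩ := hg2 j
      obtain ⟨j2, h2⟩ := hh2 j1
      refine ⟨j2, ?_⟩
      rw [← h2, ← h1]
      group
  inv_mem' := by
    rintro g ⟨hg1, hg2⟩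
    refine ⟨fun j => ?_, fun j => ?_⟩
    · obtain ⟨j', h⟩ := hg2 j
      exact ⟨j', by rw [inv_inv]; exact h⟩
    · obtain ⟨j', h⟩ := hg1 j
      exact ⟨j', by rw [inv_inv]; exact h⟩

/-- the action on the 23 positions -/
noncomputable def actE (g : ↥(NE b co)) (j : Fin 23) : Fin 23 := Classical.choose (g.2.1 j)

theorem actE_spec (g : ↥(NE b co)) (j : Fin 23) :
    (g : G) * dd b co j * (g : G)⁻¹ = dd b co (actE g j) :=
  Classical.choose_spec (g.2.1 j)

variable (H : Hyp b t co bas sg W)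
include H

theorem actE_unique (g : ↥(NE b co)) (j j' : Fin 23)
    (h : (g : G) * dd b co j * (g : G)⁻¹ = dd b co j') : actE g j = j' := by
  apply Fin.ext
  apply dd_inj H _ _ (actE g j).2 j'.2
  rw [← actE_spec, h]

theorem actE_one (j : Fin 23) : actE (1 : ↥(NE b co)) j = j :=
  actE_unique H 1 j j (by simp)

theorem actE_mul (g h : ↥(NE b co)) (j : Fin 23) : actE (g * h) j = actE g (actE h j) := by
  apply actE_unique H
  rw [← actE_spec g, ← actE_spec h]
  simp only [Subgroup.coe_mul, mul_inv_rev, mul_assoc]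

/-- the action as a homomorphism -/
noncomputable def psiE : ↥(NE b co) →* Equiv.Perm (Fin 23) where
  toFun g := ⟨actE g, actE g⁻¹,
    fun j => by rw [← actE_mul H, inv_mul_cancel, actE_one H],
    fun j => by rw [← actE_mul H, mul_inv_cancel, actE_one H]⟩
  map_one' := Equiv.ext (actE_one H)
  map_mul' g h := Equiv.ext (actE_mul H g h)

theorem psiE_spec (g : ↥(NE b co)) (j : Fin 23) :
    (g : G) * dd b co j * (g : G)⁻¹ = dd b co (psiE H g j) := actE_spec g j

theorem psiE_eq (g : ↥(NE b co)) (j j' : Fin 23)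
    (h : (g : G) * dd b co j * (g : G)⁻¹ = dd b co j') : psiE H g j = j' := actE_unique H g j j' h

omit H in
/-- membership in `E` for an involution permuting the 23 involutions -/
theorem mem_NE_of_invol (τ : G) (σ : ℕ → ℕ) (h2 : τ * τ = 1)
    (h : ∀ j < 23, σ j < 23 ∧ τ * dd b co j * τ⁻¹ = dd b co (σ j)) : τ ∈ NE b co := by
  have hinv : τ⁻¹ = τ := inv_eq_of_mul_eq_one_left h2
  constructor
  · intro j
    exact ⟨⟨σ j, (h j j.2).1⟩, (h j j.2).2⟩
  · intro j
    refine ⟨⟨σ j, (h j j.2).1⟩, ?_⟩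
    have := (h j j.2).2
    rw [hinv] at this
    show τ⁻¹ * dd b co j * τ = dd b co (σ j)
    rw [hinv]
    exact this

theorem QQ_le_NE : QQ b ≤ NE b co := by
  intro x hx
  have key : ∀ y ∈ QQ b, ∀ j : Fin 23, y * dd b co j * y⁻¹ = dd b co j := by
    intro y hy j
    rw [QQ_comm H y _ hy (dd_mem j), mul_inv_cancel_right]
  exact ⟨fun j => ⟨j, key x hx j⟩, fun j => ⟨j, by
    have := key x⁻¹ ((QQ b).inv_mem hx) j
    rwa [inv_inv] at this⟩⟩

/-- `Q` inside `E` -/
def QE (b : ℕ → G) (co : ℕ → ℕ) : Subgroup ↥(NE b co) := (QQ b).subgroupOf (NE b co)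

theorem mem_kerE_iff (g : ↥(NE b co)) :
    g ∈ (psiE H).ker ↔ ∀ j : Fin 23, (g : G) * dd b co j = dd b co j * (g : G) := by
  rw [MonoidHom.mem_ker]
  constructor
  · intro h j
    have := psiE_spec H g j
    rw [h, Equiv.Perm.one_apply] at this
    calc (g : G) * dd b co j = (g : G) * dd b co j * (g : G)⁻¹ * (g : G) := by group
      _ = dd b co j * (g : G) := by rw [this]
  · intro h
    apply Equiv.ext
    intro j
    rw [Equiv.Perm.one_apply]
    apply psiE_eq H
    rw [h j, mul_inv_cancel_right]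

theorem QE_le_ker : QE b co ≤ (psiE H).ker := by
  intro g hg
  rw [mem_kerE_iff]
  intro j
  exact QQ_comm H _ _ hg (dd_mem j)

/-- elements of the kernel centralise `Q` -/
theorem ker_comm (g : ↥(NE b co)) (hg : g ∈ (psiE H).ker) (x : G) (hx : x ∈ QQ b) :
    (g : G) * x = x * (g : G) := by
  have h1 := (mem_kerE_iff H g).1 hg
  have hb : ∀ s < 11, (g : G) * b s = b s * (g : G) := by
    intro s hs
    have := h1 ⟨bas s, (H.d1 s hs).1⟩
    rwa [dd_bas H s hs] at this
  have hcl : QQ b ≤ Subgroup.centralizer {(g : G)} := by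
    rw [QQ, Subgroup.closure_le]
    rintro y ⟨s, hs, rfl⟩
    rw [SetLike.mem_coe, Subgroup.mem_centralizer_iff]
    intro z hz
    rw [Set.mem_singleton_iff] at hz
    rw [hz]
    exact hb s hs
  have := hcl hx
  rw [Subgroup.mem_centralizer_iff] at this
  exact this _ rfl

end NEsec

end Cfsg.Agent.Lib.Helper8.F3S
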