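import Cfsg.Agent.Lib.Helper8.F3T0
import Mathlib.GroupTheory.SchurZassenhaus

set_option autoImplicit false

/-! The kernel of the action of `E` is `Q × O` with `O` of odd order, normal in `E`. -/

namespace Cfsg.Agent.Lib.Helper8.F3S

/-- a central elementary abelian 2-subgroup of odd index has a characteristic complement -/
theorem exists_odd_core {K : Type*} [Group K] [Finite K] (Z : Subgroup K)
    (hZc : ∀ z ∈ Z, ∀ x : K, z * x = x * z) (hZ2 : ∀ z ∈ Z, z * z = 1) (e k : ℕ)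
    (hZcard : Nat.card Z = 2 ^ e) (hk : Odd k) (hK : Nat.card K = 2 ^ e * k) :
    ∃ C : Subgroup K, Nat.card C = k ∧ (∀ x : K, ∃ z ∈ Z, ∃ c ∈ C, x = z * c) ∧
      (∀ x : K, x ∈ C ↔ x ^ k = 1) := by
  have hn : Z.Normal := by
    constructor
    intro z hz g
    rw [← hZc z hz g, mul_inv_cancel_right]
    exact hz
  have hidx : Z.index = k := by
    have := Subgroup.card_mul_index Z
    rw [hZcard, hK] at this
    exact Nat.eq_of_mul_eq_mul_left (by positivity) this
  have hcop : Nat.Coprime (Nat.card Z) Z.index := by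
    rw [hZcard, hidx]
    exact Nat.Coprime.pow_left _ (Nat.coprime_two_left.2 hk)
  obtain ⟨C, hC⟩ := Subgroup.exists_right_complement'_of_coprime hcop
  have hCcard : Nat.card C = k := by
    have := hC.card_mul_card
    rw [hZcard, hK] at this
    exact Nat.eq_of_mul_eq_mul_left (by positivity) this
  have hdec : ∀ x : K, ∃ z ∈ Z, ∃ c ∈ C, x = z * c := by
    intro x
    obtain ⟨⟨z, c⟩, h, -⟩ := (Subgroup.isComplement'_def.1 hC).existsUnique x
    exact ⟨z.1, z.2, c.1, c.2, h.symm⟩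
  have hzk : ∀ z ∈ Z, z ^ k = z := by
    intro z hz
    obtain ⟨m, rfl⟩ := hk
    rw [pow_succ, pow_mul, pow_two, hZ2 z hz, one_pow, one_mul]
  have hck : ∀ c ∈ C, c ^ k = 1 := by
    intro c hc
    have := pow_card_eq_one' (G := C) (x := ⟨c, hc⟩)
    rw [hCcard] at this
    exact congrArg Subtype.val this
  refine ⟨C, hCcard, hdec, ?_⟩
  intro x
  constructor
  · exact hck x
  · intro hx
    obtain ⟨z, hz, c, hc, rfl⟩ := hdec x
    have hcomm : Commute z c := hZc z hz c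
    rw [hcomm.mul_pow, hzk z hz, hck c hc, mul_one] at hx
    rw [hx, one_mul]
    exact hc

section Core
variable {G : Type*} [Group G] {b t : ℕ → G} {co bas : ℕ → ℕ} {sg : ℕ → ℕ → ℕ} {W : List (List ℕ)}
variable (H : Hyp b t co bas sg W)
include H

theorem card_QE : Nat.card (QE b co) = 2 ^ 11 := by
  rw [← card_QQ H]
  exact Nat.card_congr (Subgroup.subgroupOfEquivOfLe (QQ_le_NE H)).toEquiv

variable [Finite G] (m0 : ℕ) (hcard : Nat.card G = 2 ^ 18 * m0) (hm0 : Odd m0)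
  (h128 : 2 ^ 7 ∣ Nat.card (psiE H).range)
include hcard hm0 h128

theorem card_kerE : ∃ k, Odd k ∧ Nat.card (psiE H).ker = 2 ^ 11 * k := by
  have h1 : Nat.card ↥(NE b co) = Nat.card (psiE H).ker * Nat.card (psiE H).range := by
    rw [Subgroup.card_eq_card_quotient_mul_card_subgroup (psiE H).ker,
      Nat.card_congr (QuotientGroup.quotientKerEquivRange (psiE H)).toEquiv, mul_comm]
  have h2 : 2 ^ 11 ∣ Nat.card (psiE H).ker := by
    rw [← card_QE H]
    exact Subgroup.card_dvd_of_le (QE_le_ker H)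
  have h3 : Nat.card ↥(NE b co) ∣ Nat.card G := Subgroup.card_subgroup_dvd_card _
  obtain ⟨k, hk⟩ := h2
  obtain ⟨r, hr⟩ := h128
  refine ⟨k, ?_, hk⟩
  rw [h1, hk, hr, hcard] at h3
  by_contra hodd
  rw [Nat.not_odd_iff_even] at hodd
  obtain ⟨k', rfl⟩ := hodd
  have h4 : 2 ^ 19 ∣ 2 ^ 18 * m0 := by
    refine Dvd.dvd.trans ⟨k' * r, ?_⟩ h3
    ring
  have h5 : 2 ∣ m0 := by
    have e : (2 : ℕ) ^ 19 = 2 ^ 18 * 2 := by norm_num
    rw [e] at h4
    exact (Nat.mul_dvd_mul_iff_left (by positivity)).1 h4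
  exact (Nat.not_even_iff_odd.2 hm0) (even_iff_two_dvd.2 h5)

/-- the odd core of the kernel -/
theorem exists_O : ∃ (O : Subgroup ↥(NE b co)) (k : ℕ), O.Normal ∧ Odd k ∧ O ≤ (psiE H).ker ∧
    (∀ x ∈ (psiE H).ker, ∃ q ∈ QE b co, ∃ o ∈ O, x = q * o) ∧ (∀ x ∈ O, x ^ k = 1) := by
  obtain ⟨k, hk, hKc⟩ := card_kerE H m0 hcard hm0 h128
  set K := (psiE H).ker with hKdef
  let Z : Subgroup ↥K := (QE b co).subgroupOf K
  have hZcard : Nat.card Z = 2 ^ 11 := by
    rw [← card_QE H]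
    exact Nat.card_congr (Subgroup.subgroupOfEquivOfLe (QE_le_ker H)).toEquiv
  have hZc : ∀ z ∈ Z, ∀ x : ↥K, z * x = x * z := by
    intro z hz x
    apply Subtype.ext
    apply Subtype.ext
    have := ker_comm H x.1 x.2 _ hz
    exact this.symm
  have hZ2 : ∀ z ∈ Z, z * z = 1 := by
    intro z hz
    apply Subtype.ext
    apply Subtype.ext
    have := QQ_sq H _ hz
    rw [pow_two] at this
    exact this
  obtain ⟨C, hCcard, hdec, hchar⟩ := exists_odd_core Z hZc hZ2 11 k hZcard hk hKc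
  refine ⟨C.map K.subtype, k, ?_, hk, ?_, ?_, ?_⟩
  · constructor
    rintro x ⟨c, hc, rfl⟩ g
    have hmem : g * K.subtype c * g⁻¹ ∈ K := (inferInstance : K.Normal).conj_mem _ c.2 g
    refine ⟨⟨_, hmem⟩, ?_, rfl⟩
    rw [SetLike.mem_coe, hchar]
    apply Subtype.ext
    have hck := (hchar c).1 hc
    have e : ((⟨g * K.subtype c * g⁻¹, hmem⟩ : ↥K) ^ k : ↥K).1 = g * (c ^ k : ↥K).1 * g⁻¹ := by
      rw [Subgroup.coe_pow, Subgroup.coe_pow]
      show (g * c.1 * g⁻¹) ^ k = g * c.1 ^ k * g⁻¹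
      rw [conj_pow]
    rw [e, hck]
    simp
  · rintro x ⟨c, _, rfl⟩
    exact c.2
  · intro x hx
    obtain ⟨z, hz, c, hc, h⟩ := hdec ⟨x, hx⟩
    refine ⟨z.1, hz, c.1, ⟨c, hc, rfl⟩, ?_⟩
    have := congrArg Subtype.val h
    exact this
  · rintro x ⟨c, hc, rfl⟩
    have hck := (hchar c).1 hc
    have := congrArg Subtype.val hck
    rw [Subgroup.coe_pow] at this
    exact this

end Core

end Cfsg.Agent.Lib.Helper8.F3S
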