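import Cfsg.Agent.Lib.Helper8.F3T1

set_option autoImplicit false

/-! The quotient of the setwise normaliser `E` by the odd core `O` of the kernel of its action. -/

namespace Cfsg.Agent.Lib.Helper8.F3S

section Quot
variable {G : Type*} [Group G] {b t : ℕ → G} {co bas : ℕ → ℕ} {sg : ℕ → ℕ → ℕ} {W : List (List ℕ)}
variable (H : Hyp b t co bas sg W)
include H

theorem t_mem_NE (k : ℕ) (hk : k < 3) : t k ∈ NE b co :=
  mem_NE_of_invol (t k) (sg k) (H.ht2 k hk)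
    (fun j hj => ⟨(H.d3 k hk j hj).1, conj_t H k hk j hj⟩)

theorem RR_le_NE : RR b t ≤ NE b co := by
  rw [RR, Subgroup.closure_le]
  rintro x (⟨s, hs, rfl⟩ | ⟨k, hk, rfl⟩)
  · exact QQ_le_NE H (Subgroup.subset_closure ⟨s, hs, rfl⟩)
  · exact t_mem_NE H k hk

theorem h128 : 2 ^ 7 ∣ Nat.card (psiE H).range := by
  have hle : (psi H).range ≤ (psiE H).range := by
    rintro a ⟨g, rfl⟩
    refine ⟨⟨g.1, RR_le_NE H g.2⟩, ?_⟩
    symm
    apply psi_eq_of
    intro j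
    exact psiE_spec H ⟨g.1, RR_le_NE H g.2⟩ j
  have h := Subgroup.card_dvd_of_le hle
  rw [card_range_psi] at h
  exact h

/-- the elements of `Q` inside `E` -/
def qE (v : ℕ) : ↥(NE b co) := ⟨bprod b 11 v, QQ_le_NE H (bprod_mem b 11 11 v le_rfl)⟩

theorem qE_mem_QE (v : ℕ) : qE H v ∈ QE b co := by
  show (qE H v : G) ∈ QQ b
  exact bprod_mem b 11 11 v le_rfl

theorem qE_xor (v w : ℕ) : qE H (v ^^^ w) = qE H v * qE H w :=
  Subtype.ext (bprod_xor b 11 H.hbc H.hb2 11 le_rfl v w)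

theorem qE_sq (v : ℕ) : qE H v * qE H v = 1 :=
  Subtype.ext (bprod_sq b 11 H.hbc H.hb2 v)

theorem qE_mem_ker (v : ℕ) : qE H v ∈ (psiE H).ker := QE_le_ker H (qE_mem_QE H v)

variable (O : Subgroup ↥(NE b co)) [O.Normal]

/-- the action of the quotient -/
noncomputable def psiO (hO : O ≤ (psiE H).ker) : ↥(NE b co) ⧸ O →* Equiv.Perm (Fin 23) :=
  QuotientGroup.lift O (psiE H) hO

theorem psiO_mk (hO : O ≤ (psiE H).ker) (g : ↥(NE b co)) :
    psiO H O hO (QuotientGroup.mk g) = psiE H g := rfl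

/-- the elements of `Q` in the quotient -/
def qel (v : ℕ) : ↥(NE b co) ⧸ O := QuotientGroup.mk (qE H v)

theorem qel_xor (v w : ℕ) : qel H O (v ^^^ w) = qel H O v * qel H O w := by
  rw [qel, qE_xor, QuotientGroup.mk_mul]
  rfl

theorem qel_zero : qel H O 0 = 1 := by
  have : qE H 0 = 1 := Subtype.ext (bprod_zero b 11)
  rw [qel, this]
  rfl

theorem qel_sq (v : ℕ) : qel H O v * qel H O v = 1 := by
  rw [← qel_xor, Nat.xor_self, qel_zero]

theorem qel_inv (v : ℕ) : (qel H O v)⁻¹ = qel H O v :=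
  inv_eq_of_mul_eq_one_left (qel_sq H O v)

theorem qel_mem_ker (hO : O ≤ (psiE H).ker) (v : ℕ) : qel H O v ∈ (psiO H O hO).ker := by
  rw [MonoidHom.mem_ker, qel, psiO_mk]
  exact qE_mem_ker H v

theorem qel_eq_one (k : ℕ) (hk : Odd k) (hOk : ∀ x ∈ O, x ^ k = 1) (v : ℕ)
    (h : qel H O v = 1) : bprod b 11 v = 1 := by
  have hm : qE H v ∈ O := (QuotientGroup.eq_one_iff _).1 h
  have h1 := hOk _ hm
  have h2 : (qE H v) ^ 2 = 1 := by rw [pow_two]; exact qE_sq H v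
  obtain ⟨m, rfl⟩ := hk
  rw [pow_succ, pow_mul, h2, one_pow, one_mul] at h1
  exact congrArg Subtype.val h1

theorem qel_eq_one' (k : ℕ) (hk : Odd k) (hOk : ∀ x ∈ O, x ^ k = 1) (v : ℕ)
    (h : qel H O v = 1) : v % 2 ^ 11 = 0 := by
  have h1 := qel_eq_one H O k hk hOk v h
  rw [← bprod_mod] at h1
  exact H.hker _ (Nat.mod_lt _ (by positivity)) h1

theorem mem_ker_psiO (hO : O ≤ (psiE H).ker)
    (hdec : ∀ x ∈ (psiE H).ker, ∃ q ∈ QE b co, ∃ o ∈ O, x = q * o)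
    (x : ↥(NE b co) ⧸ O) (hx : x ∈ (psiO H O hO).ker) : ∃ v < 2 ^ 11, x = qel H O v := by
  induction x using QuotientGroup.induction_on with
  | H g =>
    have hg : g ∈ (psiE H).ker := by
      rw [MonoidHom.mem_ker, psiO_mk] at hx
      exact hx
    obtain ⟨q, hq, o, ho, rfl⟩ := hdec g hg
    have hq' : (q : G) ∈ QQ b := hq
    obtain ⟨v, hv, hv'⟩ := exists_bprod b 11 H.hbc H.hb2 q.1 hq'
    refine ⟨v, hv, ?_⟩
    rw [QuotientGroup.mk_mul, (QuotientGroup.eq_one_iff o).2 ho, mul_one, qel]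
    congr 1
    exact Subtype.ext hv'.symm

/-- conjugation in the quotient permutes the images of the 23 involutions -/
theorem conj_qel (g : ↥(NE b co)) (j : Fin 23) :
    (QuotientGroup.mk g : ↥(NE b co) ⧸ O) * qel H O (co j) * (QuotientGroup.mk g)⁻¹ =
      qel H O (co (psiE H g j)) := by
  have e : g * qE H (co j) * g⁻¹ = qE H (co (psiE H g j)) := Subtype.ext (psiE_spec H g j)
  rw [qel, qel, ← e]
  rfl

end Quot

end Cfsg.Agent.Lib.Helper8.F3S
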