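import Cfsg.Agent.Lib.Helper8.F3T2
import Cfsg.Agent.Lib.Helper9.GolayM24a
import Cfsg.Agent.Lib.Helper9.M24T7
import Cfsg.Prelude.Def_Spor_Mathieu

set_option autoImplicit false

/-! Binary words on the 24 points: the vector of a word, the parity, permutations of the 23
positions as permutations of the 24 points, the order of `M23`. -/

namespace Cfsg.Agent.Lib.Helper8.F3S

open Cfsg

/-- xor of the masks over the support of a word -/
def xsum (c : ZMod 23 → ℕ) (w : GolayPt → ZMod 2) : List (ZMod 23) → ℕ
  | [] => 0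
  | x :: l => (if w (some x) = 1 then c x else 0) ^^^ xsum c w l

/-- the list of all residues -/
def allZ : List (ZMod 23) := List.finRange 23

theorem allZ_nodup : allZ.Nodup := List.nodup_finRange 23

theorem mem_allZ (x : ZMod 23) : x ∈ allZ := List.mem_finRange (n := 23) x

/-- the vector of a word -/
def vecN (c : ZMod 23 → ℕ) (w : GolayPt → ZMod 2) : ℕ := xsum c w allZ

theorem ite_add_zmod2 (a a' : ZMod 2) (n : ℕ) :
    (if a + a' = 1 then n else 0) = (if a = 1 then n else 0) ^^^ (if a' = 1 then n else 0) := by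
  have h : ∀ a a' : ZMod 2, (a + a' = 1 ↔ ¬ (a = 1 ↔ a' = 1)) := by decide
  by_cases h1 : a = 1 <;> by_cases h2 : a' = 1 <;> simp [h, h1, h2]

theorem xsum_add (c : ZMod 23 → ℕ) (w w' : GolayPt → ZMod 2) (l : List (ZMod 23)) :
    xsum c (w + w') l = xsum c w l ^^^ xsum c w' l := by
  induction l with
  | nil => simp [xsum]
  | cons x l ih =>
    simp only [xsum, ih, Pi.add_apply, ite_add_zmod2]
    ac_rfl

theorem xsum_zero (c : ZMod 23 → ℕ) (l : List (ZMod 23)) : xsum c 0 l = 0 := by
  induction l with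
  | nil => rfl
  | cons x l ih => simp [xsum, ih]

theorem xsum_single_none (c : ZMod 23 → ℕ) (l : List (ZMod 23)) :
    xsum c (Pi.single none 1) l = 0 := by
  induction l with
  | nil => rfl
  | cons x l ih => simp [xsum, ih]

theorem xsum_single_some (c : ZMod 23 → ℕ) (x : ZMod 23) (l : List (ZMod 23)) (hl : l.Nodup) :
    xsum c (Pi.single (some x) 1) l = if x ∈ l then c x else 0 := by
  induction l with
  | nil => rfl
  | cons y l ih =>
    rw [List.nodup_cons] at hl
    rw [xsum, ih hl.2]
    by_cases hxy : y = x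
    · subst hxy
      simp [hl.1]
    · have hyx : ¬ x = y := fun h => hxy h.symm
      simp [hxy, hyx]

theorem xsum_lt (c : ZMod 23 → ℕ) (hc : ∀ x, c x < 2 ^ 11) (w : GolayPt → ZMod 2)
    (l : List (ZMod 23)) : xsum c w l < 2 ^ 11 := by
  induction l with
  | nil => exact Nat.pos_of_ne_zero (by positivity)
  | cons x l ih =>
    rw [xsum]
    refine Nat.xor_lt_two_pow ?_ ih
    split_ifs
    · exact hc x
    · exact Nat.pos_of_ne_zero (by positivity)

theorem vecN_add (c : ZMod 23 → ℕ) (w w' : GolayPt → ZMod 2) :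
    vecN c (w + w') = vecN c w ^^^ vecN c w' := xsum_add c w w' allZ

theorem vecN_zero (c : ZMod 23 → ℕ) : vecN c 0 = 0 := xsum_zero c allZ

theorem vecN_single_none (c : ZMod 23 → ℕ) : vecN c (Pi.single none 1) = 0 :=
  xsum_single_none c allZ

theorem vecN_single_some (c : ZMod 23 → ℕ) (x : ZMod 23) :
    vecN c (Pi.single (some x) 1) = c x := by
  rw [vecN, xsum_single_some c x allZ allZ_nodup, if_pos (mem_allZ x)]

theorem vecN_lt (c : ZMod 23 → ℕ) (hc : ∀ x, c x < 2 ^ 11) (w : GolayPt → ZMod 2) :
    vecN c w < 2 ^ 11 := xsum_lt c hc w allZ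

/-- additive maps on binary words are determined by their values on the unit words -/
theorem hom_ext_single {ι A : Type*} [Fintype ι] [DecidableEq ι] [AddMonoid A]
    (f g : (ι → ZMod 2) →+ A) (h : ∀ i, f (Pi.single i 1) = g (Pi.single i 1)) : f = g := by
  have hcl : AddSubmonoid.closure (Set.range fun i : ι => (Pi.single i 1 : ι → ZMod 2)) = ⊤ := by
    rw [eq_top_iff]
    intro w _
    rw [← Finset.univ_sum_single w]
    refine AddSubmonoid.sum_mem _ fun i _ => ?_
    have h01 : ∀ a : ZMod 2, a = 0 ∨ a = 1 := by decide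
    rcases h01 (w i) with h0 | h1
    · rw [h0, Pi.single_zero]
      exact zero_mem _
    · rw [h1]
      exact AddSubmonoid.subset_closure ⟨i, rfl⟩
  exact AddMonoidHom.eq_of_eqOn_denseM hcl (by rintro _ ⟨i, rfl⟩; exact h i)


/-- permutations of the 23 positions as permutations of the 24 points -/
def extHom (e : ZMod 23 ≃ Fin 23) : Equiv.Perm (Fin 23) →* Equiv.Perm GolayPt where
  toFun σ := Equiv.optionCongr ((e.trans σ).trans e.symm)
  map_one' := by
    refine Equiv.ext fun p => ?_
    cases p with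
    | none => rfl
    | some x =>
      show some (e.symm ((1 : Equiv.Perm (Fin 23)) (e x))) = some x
      rw [Equiv.Perm.one_apply, Equiv.symm_apply_apply]
  map_mul' σ τ := by
    refine Equiv.ext fun p => ?_
    cases p with
    | none => rfl
    | some x =>
      show some (e.symm ((σ * τ) (e x))) = some (e.symm (σ (e (e.symm (τ (e x))))))
      rw [Equiv.apply_symm_apply, Equiv.Perm.mul_apply]

theorem extHom_none (e : ZMod 23 ≃ Fin 23) (σ : Equiv.Perm (Fin 23)) : extHom e σ none = none := rfl

theorem extHom_some (e : ZMod 23 ≃ Fin 23) (σ : Equiv.Perm (Fin 23)) (x : ZMod 23) :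
    extHom e σ (some x) = some (e.symm (σ (e x))) := rfl

theorem extHom_injective (e : ZMod 23 ≃ Fin 23) : Function.Injective (extHom e) := by
  intro σ τ h
  ext j
  have := congrArg (fun π : Equiv.Perm GolayPt => π (some (e.symm j))) h
  simp only [extHom_some, Equiv.apply_symm_apply, Option.some.injEq,
    EmbeddingLike.apply_eq_iff_eq] at this
  rw [this]

/-- the parity of a word -/
def parW (w : GolayPt → ZMod 2) : ZMod 2 := ∑ p, w p

theorem parW_code (w : GolayPt → ZMod 2) (hw : w ∈ golayCode) : parW w = 0 := by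
  have h1 : (1 : GolayPt → ZMod 2) ∈ golayCode := Submodule.subset_span (Or.inr rfl)
  have := Cfsg.Agent.Lib.Helper9.GolayQR4.self_orth w 1 hw h1
  simpa [parW] using this

theorem parW_comp (w : GolayPt → ZMod 2) (π : Equiv.Perm GolayPt) : parW (w ∘ π) = parW w :=
  Equiv.sum_comp π w

theorem parW_add_single (w : GolayPt → ZMod 2) : parW (w + Pi.single none 1) = parW w + 1 := by
  simp [parW, Finset.sum_add_distrib]

theorem single_not_mem : (Pi.single none 1 : GolayPt → ZMod 2) ∉ golayCode := by
  intro h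
  have h1 := parW_code _ h
  have h2 := parW_add_single 0
  rw [zero_add, h1] at h2
  simp [parW] at h2

theorem M23_eq : Spor.M23 = Cfsg.Agent.Lib.Helper9.M24T3.fixL M24 [none] := by
  ext x
  constructor
  · rintro ⟨h1, h2⟩
    refine ⟨h1, ?_⟩
    intro b hb
    rw [List.mem_singleton] at hb
    rw [hb]
    exact MulAction.mem_stabilizer_iff.mp h2
  · rintro ⟨h1, h2⟩
    exact Subgroup.mem_inf.mpr ⟨h1, MulAction.mem_stabilizer_iff.mpr (h2 none (by simp))⟩

theorem card_M23 : Nat.card ↥Spor.M23 = 10200960 := by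
  rw [M23_eq, Cfsg.Agent.Lib.Helper9.M24T7.card_fix_point]

end Cfsg.Agent.Lib.Helper8.F3S
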