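import Cfsg.Agent.Lib.Helper8.F3T3

set_option autoImplicit false

/-! The words with vector zero: counting. -/

namespace Cfsg.Agent.Lib.Helper8.F3S

open Cfsg

/-- the code together with the unit word of the extra point -/
def codeX : Submodule (ZMod 2) (GolayPt → ZMod 2) :=
  golayCode ⊔ Submodule.span (ZMod 2) {Pi.single none 1}

theorem single_ne_zero : (Pi.single none 1 : GolayPt → ZMod 2) ≠ 0 := by
  intro h
  have := congrFun h none
  simp at this

theorem finrank_codeX : Module.finrank (ZMod 2) codeX = 13 := by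
  have hdisj : Disjoint golayCode (Submodule.span (ZMod 2) {(Pi.single none 1 : GolayPt → ZMod 2)}) :=
    (Submodule.disjoint_span_singleton' single_ne_zero).2 single_not_mem
  have := Submodule.finrank_sup_add_finrank_inf_eq golayCode
    (Submodule.span (ZMod 2) {(Pi.single none 1 : GolayPt → ZMod 2)})
  rw [disjoint_iff.1 hdisj, finrank_bot, finrank_span_singleton single_ne_zero,
    Cfsg.Agent.Lib.Helper9.GolayQR4.finrank_golayCode] at this
  exact this

theorem card_codeX : Nat.card codeX = 2 ^ 13 := by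
  rw [Module.natCard_eq_pow_finrank (K := ZMod 2), finrank_codeX, Nat.card_zmod]

theorem mem_codeX (w : GolayPt → ZMod 2) :
    w ∈ codeX ↔ (w ∈ golayCode ∨ w + Pi.single none 1 ∈ golayCode) := by
  have h01 : ∀ a : ZMod 2, a = 0 ∨ a = 1 := by decide
  have hee : (Pi.single none 1 : GolayPt → ZMod 2) + Pi.single none 1 = 0 :=
    CharTwo.add_self_eq_zero _
  rw [codeX, Submodule.mem_sup]
  constructor
  · rintro ⟨y, hy, z, hz, rfl⟩
    obtain ⟨a, rfl⟩ := Submodule.mem_span_singleton.1 hz
    rcases h01 a with rfl | rfl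
    · left
      rw [zero_smul, add_zero]
      exact hy
    · right
      rw [one_smul, add_assoc, hee, add_zero]
      exact hy
  · rintro (h | h)
    · exact ⟨w, h, 0, Submodule.zero_mem _, add_zero w⟩
    · refine ⟨_, h, _, Submodule.subset_span rfl, ?_⟩
      rw [add_assoc, hee, add_zero]

section Ker
variable {G : Type*} [Group G] {b t : ℕ → G} {co bas : ℕ → ℕ} {sg : ℕ → ℕ → ℕ} {W : List (List ℕ)}
variable (H : Hyp b t co bas sg W)
include H

/-- the additive map from the words to `Q` -/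
def thQ (c : ZMod 23 → ℕ) : (GolayPt → ZMod 2) →+ Additive ↥(QQ b) where
  toFun w := Additive.ofMul ⟨bprod b 11 (vecN c w), bprod_mem b 11 11 _ le_rfl⟩
  map_zero' := by
    rw [ofMul_eq_zero]
    apply Subtype.ext
    rw [vecN_zero]
    exact bprod_zero b 11
  map_add' w w' := by
    rw [← ofMul_mul]
    congr 1
    apply Subtype.ext
    show bprod b 11 (vecN c (w + w')) = bprod b 11 (vecN c w) * bprod b 11 (vecN c w')
    rw [vecN_add, bprod_xor b 11 H.hbc H.hb2 11 le_rfl]

theorem thQ_eq_zero_iff (c : ZMod 23 → ℕ) (hc : ∀ x, c x < 2 ^ 11) (w : GolayPt → ZMod 2) :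
    thQ H c w = 0 ↔ vecN c w = 0 := by
  constructor
  · intro h
    have h1 := ofMul_eq_zero.1 h
    exact H.hker _ (vecN_lt c hc w) (congrArg Subtype.val h1)
  · intro h
    show Additive.ofMul (⟨bprod b 11 (vecN c w), bprod_mem b 11 11 _ le_rfl⟩ : ↥(QQ b)) = 0
    rw [ofMul_eq_zero]
    apply Subtype.ext
    show bprod b 11 (vecN c w) = 1
    rw [h, bprod_zero]

theorem thQ_surj (c : ZMod 23 → ℕ) (hsurj : ∀ v < 2 ^ 11, ∃ w, vecN c w = v) :
    Function.Surjective (thQ H c) := by
  intro y
  obtain ⟨v, hv, hv'⟩ := exists_bprod b 11 H.hbc H.hb2 (Additive.toMul y).1 (Additive.toMul y).2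
  obtain ⟨w, hw⟩ := hsurj v hv
  refine ⟨w, ?_⟩
  show Additive.ofMul (⟨bprod b 11 (vecN c w), bprod_mem b 11 11 _ le_rfl⟩ : ↥(QQ b)) = y
  rw [← ofMul_toMul y]
  congr 1
  apply Subtype.ext
  show bprod b 11 (vecN c w) = _
  rw [hw, hv']

theorem card_ker_thQ (c : ZMod 23 → ℕ) (hsurj : ∀ v < 2 ^ 11, ∃ w, vecN c w = v) :
    Nat.card (thQ H c).ker = 2 ^ 13 := by
  have h1 := AddSubgroup.card_eq_card_quotient_mul_card_addSubgroup (thQ H c).ker
  have h2 : Nat.card ((GolayPt → ZMod 2) ⧸ (thQ H c).ker) = 2 ^ 11 := by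
    rw [Nat.card_congr (QuotientAddGroup.quotientKerEquivOfSurjective (thQ H c)
      (thQ_surj H c hsurj)).toEquiv]
    exact card_QQ H
  have h3 : Nat.card (GolayPt → ZMod 2) = 2 ^ 24 := by
    simp [Nat.card_eq_fintype_card, ZMod.card]
  rw [h2, h3] at h1
  have e : (2 : ℕ) ^ 24 = 2 ^ 11 * 2 ^ 13 := by norm_num
  rw [e] at h1
  exact (Nat.eq_of_mul_eq_mul_left (by positivity) h1).symm

/-- the words with vector zero are those of the code, up to the extra point -/
theorem vecN_eq_zero_iff (c : ZMod 23 → ℕ) (hc : ∀ x, c x < 2 ^ 11)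
    (hsurj : ∀ v < 2 ^ 11, ∃ w, vecN c w = v) (hqr : ∀ t : ZMod 23, vecN c (qrWord t) = 0)
    (hone : vecN c 1 = 0) (w : GolayPt → ZMod 2) :
    vecN c w = 0 ↔ (w ∈ golayCode ∨ w + Pi.single none 1 ∈ golayCode) := by
  have hcode : ∀ w ∈ golayCode, vecN c w = 0 := by
    intro w hw
    unfold golayCode at hw
    induction hw using Submodule.span_induction with
    | mem x hx =>
      rcases hx with ⟨t, rfl⟩ | hx
      · exact hqr t
      · rw [Set.mem_singleton_iff] at hx
        rw [hx]
        exact hone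
    | zero => exact vecN_zero c
    | add x y _ _ hx hy => rw [vecN_add, hx, hy]; rfl
    | smul a x _ hx =>
      have h01 : ∀ a : ZMod 2, a = 0 ∨ a = 1 := by decide
      rcases h01 a with rfl | rfl
      · rw [zero_smul]; exact vecN_zero c
      · rw [one_smul]; exact hx
  have hle : codeX.toAddSubgroup ≤ (thQ H c).ker := by
    intro w hw
    rw [AddMonoidHom.mem_ker, thQ_eq_zero_iff H c hc]
    rcases (mem_codeX w).1 hw with h | h
    · exact hcode w h
    · have := hcode _ h
      rw [vecN_add, vecN_single_none, Nat.xor_zero] at this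
      exact this
  have heq : codeX.toAddSubgroup = (thQ H c).ker := by
    apply AddSubgroup.eq_of_le_of_card_ge hle
    rw [card_ker_thQ H c hsurj]
    exact card_codeX.ge
  rw [← mem_codeX, ← thQ_eq_zero_iff H c hc, ← AddMonoidHom.mem_ker, ← heq]
  rfl

end Ker

end Cfsg.Agent.Lib.Helper8.F3S
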