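import Cfsg.Agent.Lib.Helper8.F3T4

set_option autoImplicit false

/-! The extension `E` of `M23` by the cocode module: the maps. -/

namespace Cfsg.Agent.Lib.Helper8.F3S

open Cfsg

/-- composition with a permutation as an additive map -/
def precomp (π : Equiv.Perm GolayPt) : (GolayPt → ZMod 2) →+ (GolayPt → ZMod 2) where
  toFun w := w ∘ π
  map_zero' := rfl
  map_add' _ _ := rfl

theorem single_comp_inv (π : Equiv.Perm GolayPt) (p : GolayPt) :
    (Pi.single p 1 : GolayPt → ZMod 2) ∘ ⇑π⁻¹ = Pi.single (π p) 1 := by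
  funext q
  simp only [Function.comp_apply, Pi.single_apply]
  have : (π⁻¹ q = p) ↔ (q = π p) := by
    rw [Equiv.Perm.inv_eq_iff_eq]
  simp only [this]

/-- the masks of the residues -/
def cZ (co : ℕ → ℕ) (lamE : ZMod 23 ≃ Fin 23) (x : ZMod 23) : ℕ := co (lamE x)

section Main
variable {G : Type*} [Group G] {b t : ℕ → G} {co bas : ℕ → ℕ} {sg : ℕ → ℕ → ℕ} {W : List (List ℕ)}
variable (H : Hyp b t co bas sg W) (O : Subgroup ↥(NE b co)) [O.Normal]
variable (hO : O ≤ (psiE H).ker) (lamE : ZMod 23 ≃ Fin 23)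
include H

theorem cZ_lt (x : ZMod 23) : cZ co lamE x < 2 ^ 11 := H.d2 _ (lamE x).2

/-- the action of the quotient on the 24 points -/
noncomputable def Phi : ↥(NE b co) ⧸ O →* Equiv.Perm GolayPt := (extHom lamE).comp (psiO H O hO)

theorem Phi_mk (g : ↥(NE b co)) : Phi H O hO lamE (QuotientGroup.mk g) = extHom lamE (psiE H g) := rfl

theorem mem_ker_Phi (x : ↥(NE b co) ⧸ O) : x ∈ (Phi H O hO lamE).ker ↔ x ∈ (psiO H O hO).ker := by
  rw [MonoidHom.mem_ker, MonoidHom.mem_ker, Phi, MonoidHom.comp_apply,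
    map_eq_one_iff _ (extHom_injective lamE)]

theorem Phi_none (x : ↥(NE b co) ⧸ O) : Phi H O hO lamE x none = none := rfl

/-- the map from the words onto the kernel -/
noncomputable def theta : (GolayPt → ZMod 2) →+ Additive ↥(Phi H O hO lamE).ker where
  toFun w := Additive.ofMul ⟨qel H O (vecN (cZ co lamE) w),
    (mem_ker_Phi H O hO lamE _).2 (qel_mem_ker H O hO _)⟩
  map_zero' := by
    rw [ofMul_eq_zero]
    apply Subtype.ext
    show qel H O (vecN (cZ co lamE) 0) = 1
    rw [vecN_zero, qel_zero]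
  map_add' w w' := by
    rw [← ofMul_mul]
    congr 1
    apply Subtype.ext
    show qel H O (vecN (cZ co lamE) (w + w')) = qel H O (vecN (cZ co lamE) w) * qel H O (vecN (cZ co lamE) w')
    rw [vecN_add, qel_xor]

theorem theta_val (w : GolayPt → ZMod 2) :
    ((Additive.toMul (theta H O hO lamE w) : ↥(Phi H O hO lamE).ker) : ↥(NE b co) ⧸ O) =
      qel H O (vecN (cZ co lamE) w) := rfl

theorem theta_surj (hdec : ∀ x ∈ (psiE H).ker, ∃ q ∈ QE b co, ∃ o ∈ O, x = q * o)
    (hsurj : ∀ v < 2 ^ 11, ∃ w, vecN (cZ co lamE) w = v) :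
    Function.Surjective (theta H O hO lamE) := by
  intro y
  have hy := (mem_ker_Phi H O hO lamE _).1 (Additive.toMul y).2
  obtain ⟨v, hv, hv'⟩ := mem_ker_psiO H O hO hdec _ hy
  obtain ⟨w, hw⟩ := hsurj v hv
  refine ⟨w, ?_⟩
  rw [← ofMul_toMul y]
  apply congrArg Additive.ofMul
  apply Subtype.ext
  rw [hv']
  show qel H O (vecN (cZ co lamE) w) = _
  rw [hw]

theorem theta_eq_zero_iff (k : ℕ) (hk : Odd k) (hOk : ∀ x ∈ O, x ^ k = 1)
    (w : GolayPt → ZMod 2) : theta H O hO lamE w = 0 ↔ vecN (cZ co lamE) w = 0 := by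
  constructor
  · intro h
    have h1 : qel H O (vecN (cZ co lamE) w) = 1 := by
      have h0 := theta_val H O hO lamE w
      rw [h] at h0
      exact h0.symm
    have h2 := qel_eq_one' H O k hk hOk _ h1
    rwa [Nat.mod_eq_of_lt (vecN_lt _ (cZ_lt H lamE) w)] at h2
  · intro h
    apply Additive.toMul.injective
    apply Subtype.ext
    rw [theta_val, h, qel_zero]
    rfl

/-- the action on the words is compatible with conjugation -/
theorem theta_equivariant (g : ↥(NE b co) ⧸ O) (w : GolayPt → ZMod 2) :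
    ((Additive.toMul (theta H O hO lamE (w ∘ ⇑(Phi H O hO lamE g)⁻¹)) : ↥(Phi H O hO lamE).ker) :
      ↥(NE b co) ⧸ O) =
      g * ((Additive.toMul (theta H O hO lamE w) : ↥(Phi H O hO lamE).ker) : ↥(NE b co) ⧸ O) * g⁻¹ := by
  let N := (Phi H O hO lamE).ker
  let A : (GolayPt → ZMod 2) →+ Additive (↥(NE b co) ⧸ O) :=
    (MonoidHom.toAdditive N.subtype).comp ((theta H O hO lamE).comp (precomp (Phi H O hO lamE g)⁻¹))
  let B : (GolayPt → ZMod 2) →+ Additive (↥(NE b co) ⧸ O) :=
    (MonoidHom.toAdditive (MulAut.conj g).toMonoidHom).comp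
      ((MonoidHom.toAdditive N.subtype).comp (theta H O hO lamE))
  have hAB : A = B := by
    apply hom_ext_single
    intro p
    show Additive.ofMul (qel H O (vecN (cZ co lamE) ((Pi.single p 1 : GolayPt → ZMod 2) ∘
        ⇑(Phi H O hO lamE g)⁻¹))) =
      Additive.ofMul (g * qel H O (vecN (cZ co lamE) (Pi.single p 1)) * g⁻¹)
    apply congrArg Additive.ofMul
    rw [single_comp_inv]
    cases p with
    | none =>
      rw [Phi_none, vecN_single_none, qel_zero, mul_one, mul_inv_cancel]
    | some x =>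
      induction g using QuotientGroup.induction_on with
      | H g0 =>
        rw [Phi_mk, extHom_some, vecN_single_some, vecN_single_some, cZ, cZ,
          Equiv.apply_symm_apply]
        exact (conj_qel H O g0 (lamE x)).symm
  exact congrArg Additive.toMul (DFunLike.congr_fun hAB w)

end Main

end Cfsg.Agent.Lib.Helper8.F3S
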