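import Cfsg.Agent.Lib.Helper8.F3T5

set_option autoImplicit false

/-! The extension `E` of `M23` by the cocode module: the image of the action and non-splitting. -/

namespace Cfsg.Agent.Lib.Helper8.F3S

open Cfsg

/-- the conjugate of a vector by a word -/
def cjw (M : ℕ → ℕ → ℕ) : List ℕ → ℕ → ℕ
  | [], u => u
  | k :: w, u => cjw M w (lin (M k) 11 u)

/-- the vector collected from a product of the elements `t k * B (v k)` -/
def acc (M : ℕ → ℕ → ℕ) (v : ℕ → ℕ) : List ℕ → ℕ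
  | [] => 0
  | k :: w => cjw M w (v k) ^^^ acc M v w

theorem move_right {Γ : Type*} [Group Γ] (t' : ℕ → Γ) (B : ℕ → Γ) (M : ℕ → ℕ → ℕ)
    (hconj : ∀ k < 3, ∀ u, B u * t' k = t' k * B (lin (M k) 11 u))
    (w : List ℕ) (hw : ∀ k ∈ w, k < 3) (u : ℕ) :
    B u * (w.map t').prod = (w.map t').prod * B (cjw M w u) := by
  induction w generalizing u with
  | nil => simp [cjw]
  | cons k w ih =>
    have hw' : ∀ k' ∈ w, k' < 3 := fun k' hk' => hw k' (List.mem_cons_of_mem _ hk')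
    rw [List.map_cons, List.prod_cons, cjw, ← mul_assoc, hconj k (hw k List.mem_cons_self),
      mul_assoc, ih hw', mul_assoc]

theorem prod_formula {Γ : Type*} [Group Γ] (t' : ℕ → Γ) (B : ℕ → Γ) (M : ℕ → ℕ → ℕ)
    (hB : ∀ v w, B (v ^^^ w) = B v * B w) (hB0 : B 0 = 1)
    (hconj : ∀ k < 3, ∀ u, B u * t' k = t' k * B (lin (M k) 11 u))
    (v : ℕ → ℕ) (r : List ℕ) (hr : ∀ k ∈ r, k < 3) :
    (r.map fun k => t' k * B (v k)).prod = (r.map t').prod * B (acc M v r) := by
  induction r with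
  | nil => simp [acc, hB0]
  | cons k r ih =>
    have hr' : ∀ k' ∈ r, k' < 3 := fun k' hk' => hr k' (List.mem_cons_of_mem _ hk')
    rw [List.map_cons, List.prod_cons, List.map_cons, List.prod_cons, ih hr', acc, hB]
    have := move_right t' B M hconj r hr' (v k)
    calc t' k * B (v k) * ((r.map t').prod * B (acc M v r))
        = t' k * (B (v k) * (r.map t').prod) * B (acc M v r) := by group
      _ = t' k * ((r.map t').prod * B (cjw M r (v k))) * B (acc M v r) := by rw [this]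
      _ = t' k * (r.map t').prod * (B (cjw M r (v k)) * B (acc M v r)) := by group

section Range
variable {G : Type*} [Group G] {b t : ℕ → G} {co bas : ℕ → ℕ} {sg : ℕ → ℕ → ℕ} {W : List (List ℕ)}
variable (H : Hyp b t co bas sg W) (O : Subgroup ↥(NE b co)) [O.Normal]
variable (hO : O ≤ (psiE H).ker) (lamE : ZMod 23 ≃ Fin 23)
variable (k : ℕ) (hk : Odd k) (hOk : ∀ x ∈ O, x ^ k = 1)
variable (hdec : ∀ x ∈ (psiE H).ker, ∃ q ∈ QE b co, ∃ o ∈ O, x = q * o)
include H

theorem range_psiO : (psiO H O hO).range = (psiE H).range := by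
  ext a
  constructor
  · rintro ⟨x, rfl⟩
    induction x using QuotientGroup.induction_on with
    | H g => exact ⟨g, rfl⟩
  · rintro ⟨g, rfl⟩
    exact ⟨QuotientGroup.mk g, rfl⟩

theorem card_range_Phi : Nat.card (Phi H O hO lamE).range = Nat.card (psiE H).range := by
  rw [Phi, MonoidHom.range_comp, Subgroup.card_map_of_injective (extHom_injective lamE),
    range_psiO]

section
variable (hsurj : ∀ v < 2 ^ 11, ∃ w, vecN (cZ co lamE) w = v)
  (hqr : ∀ t : ZMod 23, vecN (cZ co lamE) (qrWord t) = 0) (hone : vecN (cZ co lamE) 1 = 0)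
include hk hOk hsurj hqr hone

theorem theta_ker_iff (w : GolayPt → ZMod 2) :
    theta H O hO lamE w = 0 ↔ (w ∈ golayCode ∨ w + Pi.single none 1 ∈ golayCode) := by
  rw [theta_eq_zero_iff H O hO lamE k hk hOk,
    vecN_eq_zero_iff H _ (cZ_lt H lamE) hsurj hqr hone]

theorem Phi_mem_M23 (x : ↥(NE b co) ⧸ O) : Phi H O hO lamE x ∈ Spor.M23 := by
  refine Subgroup.mem_inf.2 ⟨?_, MulAction.mem_stabilizer_iff.2 (Phi_none H O hO lamE x)⟩
  apply Cfsg.Agent.Lib.Helper9.GolayM24a.mem_M24_of_gens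
  intro t
  have hw : qrWord t ∈ golayCode := Submodule.subset_span (Or.inl ⟨t, rfl⟩)
  have h0 : theta H O hO lamE (qrWord t) = 0 :=
    (theta_ker_iff H O hO lamE k hk hOk hsurj hqr hone _).2 (Or.inl hw)
  have he := theta_equivariant H O hO lamE x⁻¹ (qrWord t)
  rw [map_inv, inv_inv, h0] at he
  have h1 : theta H O hO lamE (qrWord t ∘ ⇑(Phi H O hO lamE x)) = 0 := by
    apply Additive.toMul.injective
    apply Subtype.ext
    rw [he]
    simp
  rcases (theta_ker_iff H O hO lamE k hk hOk hsurj hqr hone _).1 h1 with h | h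
  · exact h
  · exfalso
    have := parW_code _ h
    rw [parW_add_single, parW_comp, parW_code _ hw] at this
    exact absurd this (by decide)

theorem range_Phi (hge : 10200960 ≤ Nat.card (psiE H).range) :
    (Phi H O hO lamE).range = Spor.M23 := by
  apply Subgroup.eq_of_le_of_card_ge
  · rintro _ ⟨x, rfl⟩
    exact Phi_mem_M23 H O hO lamE k hk hOk hsurj hqr hone x
  · rw [card_M23, card_range_Phi]
    exact hge

end

/-- the three lifts as elements of `E` -/
noncomputable def tN (j : ℕ) : ↥(NE b co) := if h : j < 3 then ⟨t j, t_mem_NE H j h⟩ else 1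

theorem tN_val (j : ℕ) (hj : j < 3) : (tN H j : G) = t j := by
  rw [tN, dif_pos hj]

theorem conj_tN (j : ℕ) (hj : j < 3) (u : ℕ) :
    qel H O u * (QuotientGroup.mk (tN H j) : ↥(NE b co) ⧸ O) =
      QuotientGroup.mk (tN H j) * qel H O (lin (fun s => co (sg j (bas s))) 11 u) := by
  have e : qE H u * tN H j = tN H j * qE H (lin (fun s => co (sg j (bas s))) 11 u) := by
    apply Subtype.ext
    show bprod b 11 u * (tN H j : G) = (tN H j : G) * bprod b 11 _
    rw [tN_val H j hj]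
    have h1 := conj_bprod b 11 H.hbc H.hb2 (t j) (fun s => co (sg j (bas s))) (H.ht j hj) 11 le_rfl u
    have hi : (t j)⁻¹ = t j := inv_eq_of_mul_eq_one_left (H.ht2 j hj)
    rw [hi] at h1
    rw [← h1, ← mul_assoc, ← mul_assoc, H.ht2 j hj, one_mul]
  show (QuotientGroup.mk (qE H u * tN H j) : ↥(NE b co) ⧸ O) = QuotientGroup.mk (tN H j * qE H _)
  rw [e]

theorem tprod_eq (r : List ℕ) (hr : ∀ j ∈ r, j < 3) (c : ℕ) (hT : tword t r = bprod b 11 c) :
    (r.map fun j => (QuotientGroup.mk (tN H j) : ↥(NE b co) ⧸ O)).prod = qel H O c := by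
  have h1 : (r.map fun j => (QuotientGroup.mk (tN H j) : ↥(NE b co) ⧸ O)).prod =
      QuotientGroup.mk ((r.map (tN H)).prod) := by
    rw [← QuotientGroup.mk'_apply, map_list_prod, List.map_map]
    rfl
  have h2 : (r.map (tN H)).prod = qE H c := by
    apply Subtype.ext
    show (NE b co).subtype _ = _
    rw [map_list_prod, List.map_map]
    have : r.map ((NE b co).subtype ∘ tN H) = r.map t :=
      List.map_congr_left fun j hj => tN_val H j (hr j hj)
    rw [this]
    exact hT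
  rw [h1, h2]
  rfl

include hk hOk hdec in
/-- the extension does not split -/
theorem nonsplit (r1 r2 : List ℕ) (c1 c2 : ℕ) (hr1 : ∀ j ∈ r1, j < 3) (hr2 : ∀ j ∈ r2, j < 3)
    (hT1 : tword t r1 = bprod b 11 c1) (hT2 : tword t r2 = bprod b 11 c2)
    (hcert : ∀ v0 < 2 ^ 11, ∀ v1 < 2 ^ 11, ∀ v2 < 2 ^ 11,
      ¬ ((c1 ^^^ acc (fun j s => co (sg j (bas s))) (fun j => [v0, v1, v2].getD j 0) r1) % 2 ^ 11 = 0 ∧
        (c2 ^^^ acc (fun j s => co (sg j (bas s))) (fun j => [v0, v1, v2].getD j 0) r2) % 2 ^ 11 = 0))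
    (Hs : Subgroup (↥(NE b co) ⧸ O)) (hinf : Hs ⊓ (Phi H O hO lamE).ker = ⊥) :
    Hs ⊔ (Phi H O hO lamE).ker ≠ ⊤ := by
  intro hsup
  have key : ∀ j < 3, ∃ v < 2 ^ 11,
      (QuotientGroup.mk (tN H j) : ↥(NE b co) ⧸ O) * qel H O v ∈ Hs := by
    intro j _
    have hm : (QuotientGroup.mk (tN H j) : ↥(NE b co) ⧸ O) ∈ Hs ⊔ (Phi H O hO lamE).ker := by
      rw [hsup]
      exact Subgroup.mem_top _
    rw [← SetLike.mem_coe, Subgroup.mul_normal, Set.mem_mul] at hm
    obtain ⟨h, hh, n, hn, e⟩ := hm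
    obtain ⟨v, hv, rfl⟩ := mem_ker_psiO H O hO hdec n ((mem_ker_Phi H O hO lamE n).1 hn)
    refine ⟨v, hv, ?_⟩
    rw [← e, mul_assoc, qel_sq, mul_one]
    exact hh
  obtain ⟨v0, hv0, m0⟩ := key 0 (by norm_num)
  obtain ⟨v1, hv1, m1⟩ := key 1 (by norm_num)
  obtain ⟨v2, hv2, m2⟩ := key 2 (by norm_num)
  set v : ℕ → ℕ := fun j => [v0, v1, v2].getD j 0 with hv
  have hu : ∀ j < 3, (QuotientGroup.mk (tN H j) : ↥(NE b co) ⧸ O) * qel H O (v j) ∈ Hs := by
    intro j hj
    interval_cases j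
    · exact m0
    · exact m1
    · exact m2
  have hform : ∀ (r : List ℕ) (c : ℕ), (∀ j ∈ r, j < 3) → tword t r = bprod b 11 c →
      (c ^^^ acc (fun j s => co (sg j (bas s))) v r) % 2 ^ 11 = 0 := by
    intro r c hr hT
    have hp : (r.map fun j => (QuotientGroup.mk (tN H j) : ↥(NE b co) ⧸ O) * qel H O (v j)).prod ∈ Hs := by
      apply Subgroup.list_prod_mem
      intro x hx
      rw [List.mem_map] at hx
      obtain ⟨j, hj, rfl⟩ := hx
      exact hu j (hr j hj)
    rw [prod_formula (fun j => (QuotientGroup.mk (tN H j) : ↥(NE b co) ⧸ O)) (qel H O)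
      (fun j s => co (sg j (bas s))) (qel_xor H O) (qel_zero H O) (conj_tN H O) v r hr,
      tprod_eq H O r hr c hT, ← qel_xor] at hp
    have hn : qel H O (c ^^^ acc (fun j s => co (sg j (bas s))) v r) ∈ (Phi H O hO lamE).ker :=
      (mem_ker_Phi H O hO lamE _).2 (qel_mem_ker H O hO _)
    have h1 : qel H O (c ^^^ acc (fun j s => co (sg j (bas s))) v r) ∈ Hs ⊓ (Phi H O hO lamE).ker :=
      Subgroup.mem_inf.2 ⟨hp, hn⟩
    rw [hinf, Subgroup.mem_bot] at h1
    exact qel_eq_one' H O k hk hOk _ h1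
  exact hcert v0 hv0 v1 hv1 v2 hv2 ⟨hform r1 c1 hr1 hT1, hform r2 c2 hr2 hT2⟩

end Range

end Cfsg.Agent.Lib.Helper8.F3S
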