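import Cfsg.Agent.Lib.Helper8.F3T6

set_option autoImplicit false

/-! The extension `E` of `M23` by the cocode module: the abstract theorem. -/

namespace Cfsg.Agent.Lib.Helper8.F3S

open Cfsg

theorem ext_main {G : Type} [Group G] [Finite G] {b t : ℕ → G} {co bas : ℕ → ℕ}
    {sg : ℕ → ℕ → ℕ} {W : List (List ℕ)} (H : Hyp b t co bas sg W) (m0 : ℕ)
    (hcard : Nat.card G = 2 ^ 18 * m0) (hm0 : Odd m0) (lamE : ZMod 23 ≃ Fin 23)
    (hsurj : ∀ v < 2 ^ 11, ∃ w, vecN (cZ co lamE) w = v)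
    (hqr : ∀ t : ZMod 23, vecN (cZ co lamE) (qrWord t) = 0) (hone : vecN (cZ co lamE) 1 = 0)
    (hge : 10200960 ≤ Nat.card (psiE H).range)
    (r1 r2 : List ℕ) (c1 c2 : ℕ) (hr1 : ∀ j ∈ r1, j < 3) (hr2 : ∀ j ∈ r2, j < 3)
    (hT1 : tword t r1 = bprod b 11 c1) (hT2 : tword t r2 = bprod b 11 c2)
    (hcert : ∀ v0 < 2 ^ 11, ∀ v1 < 2 ^ 11, ∀ v2 < 2 ^ 11,
      ¬ ((c1 ^^^ acc (fun j s => co (sg j (bas s))) (fun j => [v0, v1, v2].getD j 0) r1) % 2 ^ 11 = 0 ∧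
        (c2 ^^^ acc (fun j s => co (sg j (bas s))) (fun j => [v0, v1, v2].getD j 0) r2) % 2 ^ 11 = 0)) :
    ∃ (E : Type) (_ : Group E) (_ : Finite E) (N : Subgroup E) (_ : N.Normal)
      (φ : E ⧸ N ≃* ↥Cfsg.Spor.M23) (θ : (Cfsg.GolayPt → ZMod 2) →+ Additive ↥N),
      Function.Surjective θ ∧
      (∀ w : Cfsg.GolayPt → ZMod 2, θ w = 0 ↔
        (w ∈ Cfsg.golayCode ∨ w + Pi.single none 1 ∈ Cfsg.golayCode)) ∧
      (∀ (g : E) (w : Cfsg.GolayPt → ZMod 2),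
        ((θ (w ∘ ⇑(((φ (QuotientGroup.mk g) : ↥Cfsg.Spor.M23) : Equiv.Perm Cfsg.GolayPt)⁻¹))).toMul : E) =
          g * ((θ w).toMul : E) * g⁻¹) ∧
      ∀ H : Subgroup E, H ⊓ N = ⊥ → H ⊔ N ≠ ⊤ := by
  obtain ⟨O, k, hOn, hk, hO, hdec, hOk⟩ := exists_O H m0 hcard hm0 (h128 H)
  have := hOn
  have hrange := range_Phi H O hO lamE k hk hOk hsurj hqr hone hge
  refine ⟨↥(NE b co) ⧸ O, inferInstance, inferInstance, (Phi H O hO lamE).ker, inferInstance,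
    (QuotientGroup.quotientKerEquivRange (Phi H O hO lamE)).trans (MulEquiv.subgroupCongr hrange),
    theta H O hO lamE, theta_surj H O hO lamE hdec hsurj,
    theta_ker_iff H O hO lamE k hk hOk hsurj hqr hone, ?_,
    nonsplit H O hO lamE k hk hOk hdec r1 r2 c1 c2 hr1 hr2 hT1 hT2 hcert⟩
  intro g w
  exact theta_equivariant H O hO lamE g w

end Cfsg.Agent.Lib.Helper8.F3S
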