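import Cfsg.Agent.Lib.Helper8.F3T6

set_option autoImplicit false

/-! The certificate of non-splitting from checks on the three generators. -/

namespace Cfsg.Agent.Lib.Helper8.F3S

theorem xor_cancel4 (A A' c : ℕ) : (A ^^^ c) ^^^ (A' ^^^ c) = A ^^^ A' := by
  apply Nat.eq_of_testBit_eq
  intro i
  simp only [Nat.testBit_xor]
  cases A.testBit i <;> cases A'.testBit i <;> cases c.testBit i <;> rfl

theorem lin_xor (m : ℕ → ℕ) (n u u' : ℕ) : lin m n (u ^^^ u') = lin m n u ^^^ lin m n u' := by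
  induction n with
  | zero => simp [lin]
  | succ n ih =>
    rw [lin, lin, lin, ih, Nat.testBit_xor]
    cases u.testBit n <;> cases u'.testBit n
    · simp
    · simp only [Bool.false_bne, if_true, Bool.false_eq_true, if_false, Nat.xor_zero]
      ac_rfl
    · simp only [Bool.bne_false, if_true, Bool.false_eq_true, if_false, Nat.xor_zero]
      ac_rfl
    · simp only [bne_self_eq_false, Bool.false_eq_true, if_false, Nat.xor_zero, if_true]
      exact (xor_cancel4 _ _ _).symm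

theorem lin_zero_right (m : ℕ → ℕ) (n : ℕ) : lin m n 0 = 0 := by
  induction n with
  | zero => rfl
  | succ n ih => simp [lin, ih]

theorem cjw_xor (M : ℕ → ℕ → ℕ) (w : List ℕ) (u u' : ℕ) :
    cjw M w (u ^^^ u') = cjw M w u ^^^ cjw M w u' := by
  induction w generalizing u u' with
  | nil => rfl
  | cons k w ih => rw [cjw, cjw, cjw, lin_xor, ih]

theorem cjw_zero (M : ℕ → ℕ → ℕ) (w : List ℕ) : cjw M w 0 = 0 := by
  induction w with
  | nil => rfl
  | cons k w ih => rw [cjw, lin_zero_right, ih]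

theorem acc_xor (M : ℕ → ℕ → ℕ) (v v' : ℕ → ℕ) (r : List ℕ) :
    acc M (fun j => v j ^^^ v' j) r = acc M v r ^^^ acc M v' r := by
  induction r with
  | nil => simp [acc]
  | cons k r ih =>
    rw [acc, acc, acc, ih, cjw_xor]
    ac_rfl

/-- the vector with one nonzero entry -/
def dl (k u : ℕ) : ℕ → ℕ := fun j => if j = k then u else 0

theorem getD_eq (v0 v1 v2 : ℕ) :
    (fun j => [v0, v1, v2].getD j 0) = fun j => dl 0 v0 j ^^^ (dl 1 v1 j ^^^ dl 2 v2 j) := by
  funext j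
  match j with
  | 0 => simp [dl]
  | 1 => simp [dl]
  | 2 => simp [dl]
  | (n + 3) => simp [dl]

/-- the parity of the bits at the given places -/
def Lb (bits : List ℕ) (x : ℕ) : Bool := bits.foldr (fun i a => xor (x.testBit i) a) false

theorem Lb_xor (bits : List ℕ) (x y : ℕ) : Lb bits (x ^^^ y) = xor (Lb bits x) (Lb bits y) := by
  induction bits with
  | nil => rfl
  | cons i l ih =>
    have e : ∀ z, Lb (i :: l) z = xor (z.testBit i) (Lb l z) := fun _ => rfl
    rw [e, e, e, ih, Nat.testBit_xor]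
    cases x.testBit i <;> cases y.testBit i <;> cases Lb l x <;> cases Lb l y <;> rfl

theorem Lb_of_mod (bits : List ℕ) (hb : ∀ i ∈ bits, i < 11) (x : ℕ) (hx : x % 2 ^ 11 = 0) :
    Lb bits x = false := by
  induction bits with
  | nil => rfl
  | cons i l ih =>
    have e : Lb (i :: l) x = xor (x.testBit i) (Lb l x) := rfl
    rw [e, ih fun j hj => hb j (List.mem_cons_of_mem _ hj)]
    have h1 := Nat.testBit_mod_two_pow x 11 i
    rw [hx, Nat.zero_testBit] at h1
    have hi : i < 11 := hb i List.mem_cons_self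
    simp only [hi, decide_true, Bool.true_and] at h1
    rw [← h1]
    rfl

theorem cert_of_checks (M : ℕ → ℕ → ℕ) (r1 r2 : List ℕ) (c1 c2 : ℕ) (B1 B2 : List ℕ)
    (hB1 : ∀ i ∈ B1, i < 11) (hB2 : ∀ i ∈ B2, i < 11)
    (h0 : xor (Lb B1 c1) (Lb B2 c2) = true)
    (hF : ∀ k < 3, ∀ u < 2 ^ 11,
      xor (Lb B1 (acc M (dl k u) r1)) (Lb B2 (acc M (dl k u) r2)) = false) :
    ∀ v0 < 2 ^ 11, ∀ v1 < 2 ^ 11, ∀ v2 < 2 ^ 11,
      ¬ ((c1 ^^^ acc M (fun j => [v0, v1, v2].getD j 0) r1) % 2 ^ 11 = 0 ∧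
        (c2 ^^^ acc M (fun j => [v0, v1, v2].getD j 0) r2) % 2 ^ 11 = 0) := by
  rintro v0 hv0 v1 hv1 v2 hv2 ⟨h1, h2⟩
  have e1 := Lb_of_mod B1 hB1 _ h1
  have e2 := Lb_of_mod B2 hB2 _ h2
  rw [getD_eq, acc_xor, acc_xor, Lb_xor, Lb_xor, Lb_xor] at e1 e2
  have f0 := hF 0 (by norm_num) v0 hv0
  have f1 := hF 1 (by norm_num) v1 hv1
  have f2 := hF 2 (by norm_num) v2 hv2
  revert h0 e1 e2 f0 f1 f2
  generalize Lb B1 c1 = a1
  generalize Lb B2 c2 = a2
  generalize Lb B1 (acc M (dl 0 v0) r1) = x0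
  generalize Lb B2 (acc M (dl 0 v0) r2) = y0
  generalize Lb B1 (acc M (dl 1 v1) r1) = x1
  generalize Lb B2 (acc M (dl 1 v1) r2) = y1
  generalize Lb B1 (acc M (dl 2 v2) r1) = x2
  generalize Lb B2 (acc M (dl 2 v2) r2) = y2
  revert a1 a2 x0 y0 x1 y1 x2 y2
  decide

/-- an additive function to `Bool` vanishing on the powers of two vanishes -/
theorem bool_lin_zero (f : ℕ → Bool) (hadd : ∀ x y, f (x ^^^ y) = xor (f x) (f y)) (n : ℕ)
    (hb : ∀ s < n, f (2 ^ s) = false) : ∀ u < 2 ^ n, f u = false := by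
  induction n with
  | zero =>
    intro u hu
    have h0 : u = 0 := by
      rw [pow_zero] at hu
      omega
    have := hadd 0 0
    rw [Nat.xor_self] at this
    rw [h0, this]
    cases f 0 <;> rfl
  | succ n ih =>
    intro u hu
    have hhi : ∀ i, n < i → u.testBit i = false := fun i hi =>
      Nat.testBit_lt_two_pow (lt_of_lt_of_le hu (Nat.pow_le_pow_right (by norm_num) hi))
    by_cases hbit : u.testBit n = true
    · have hlt : u ^^^ 2 ^ n < 2 ^ n := by
        apply Nat.lt_pow_two_of_testBit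
        intro i hi
        rw [Nat.testBit_xor, Nat.testBit_two_pow]
        rcases Nat.eq_or_lt_of_le hi with h | h
        · subst h
          simp [hbit]
        · rw [hhi i h]
          have : ¬ n = i := by omega
          simp [this]
      have e : u = (u ^^^ 2 ^ n) ^^^ 2 ^ n := by rw [Nat.xor_assoc, Nat.xor_self, Nat.xor_zero]
      rw [e, hadd, ih (fun s hs => hb s (by omega)) _ hlt, hb n (by omega)]
      rfl
    · have hlt : u < 2 ^ n := by
        apply Nat.lt_pow_two_of_testBit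
        intro i hi
        rcases Nat.eq_or_lt_of_le hi with h | h
        · subst h
          simpa using hbit
        · exact hhi i h
      exact ih (fun s hs => hb s (by omega)) u hlt

theorem dl_xor (k u u' : ℕ) : dl k (u ^^^ u') = fun j => dl k u j ^^^ dl k u' j := by
  funext j
  unfold dl
  split_ifs <;> simp

theorem cert_of_basis (M : ℕ → ℕ → ℕ) (r1 r2 : List ℕ) (c1 c2 : ℕ) (B1 B2 : List ℕ)
    (hB1 : ∀ i ∈ B1, i < 11) (hB2 : ∀ i ∈ B2, i < 11)
    (h0 : xor (Lb B1 c1) (Lb B2 c2) = true)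
    (hF : ∀ k < 3, ∀ s < 11,
      xor (Lb B1 (acc M (dl k (2 ^ s)) r1)) (Lb B2 (acc M (dl k (2 ^ s)) r2)) = false) :
    ∀ v0 < 2 ^ 11, ∀ v1 < 2 ^ 11, ∀ v2 < 2 ^ 11,
      ¬ ((c1 ^^^ acc M (fun j => [v0, v1, v2].getD j 0) r1) % 2 ^ 11 = 0 ∧
        (c2 ^^^ acc M (fun j => [v0, v1, v2].getD j 0) r2) % 2 ^ 11 = 0) := by
  apply cert_of_checks M r1 r2 c1 c2 B1 B2 hB1 hB2 h0
  intro k hk
  apply bool_lin_zero (fun u => xor (Lb B1 (acc M (dl k u) r1)) (Lb B2 (acc M (dl k u) r2)))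
  · intro x y
    show xor (Lb B1 (acc M (dl k (x ^^^ y)) r1)) (Lb B2 (acc M (dl k (x ^^^ y)) r2)) =
      xor (xor (Lb B1 (acc M (dl k x) r1)) (Lb B2 (acc M (dl k x) r2)))
        (xor (Lb B1 (acc M (dl k y) r1)) (Lb B2 (acc M (dl k y) r2)))
    rw [dl_xor, acc_xor, acc_xor, Lb_xor, Lb_xor]
    generalize Lb B1 (acc M (dl k x) r1) = a
    generalize Lb B2 (acc M (dl k x) r2) = b
    generalize Lb B1 (acc M (dl k y) r1) = c
    generalize Lb B2 (acc M (dl k y) r2) = d
    revert a b c d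
    decide
  · exact hF k hk

end Cfsg.Agent.Lib.Helper8.F3S
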