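import Cfsg.Agent.Lib.Helper8.SQ4

set_option autoImplicit false

/-! Lower bounds for the order of a permutation group from a chain of partial orbits; checks of
levels split into ranges. -/

namespace Cfsg.Agent.Lib.Helper8.SQ

variable {N : ℕ}

/-- the product of the sizes of the partial orbits is a lower bound for the order -/
theorem card_ge_of_checks [NeZero N] (K : Subgroup (Equiv.Perm (Fin N))) (Ls : List Lv)
    (hm : ∀ L ∈ Ls, ∀ l, 2 ≤ l → l < L.ng + 2 → Real K (L.step l))
    (hok : ∀ L ∈ Ls, lvOK N L = true)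
    (hfix : fixOK [] Ls = true) : sizesN N Ls ≤ Nat.card K := by
  have gf : GensFix K [] Ls := gensFix_of_checks Ls [] hm hok hfix
  have h := card_ge K (Ls.map (pairOf N)) [] (good_of_gensFix Ls [] gf)
  rwa [fixG_nil, sizes_eq] at h

/-- the pointwise part of the check of a level -/
def lvP (L : Lv) (p : ℕ) : Bool :=
  Nat.beq (L.lab p) 0 || (Nat.beq (L.lab p) 1 && Nat.beq p L.b) ||
    (Nat.ble 2 (L.lab p) && Nat.blt (L.lab p) (L.ng + 2) &&
      !(Nat.beq (L.lab (L.step (L.lab p) p)) 0) &&
      Nat.beq (Nat.succ (L.rk (L.step (L.lab p) p))) (L.rk p))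

/-- the check of a level from its head and the pointwise checks -/
theorem lvOK_of_pointwise (L : Lv)
    (h0 : (Nat.blt L.b N && Nat.beq (L.lab L.b) 1 && Nat.beq (L.rk L.b) 0) = true)
    (h : ∀ p, p < N → lvP L p = true) : lvOK N L = true := by
  unfold lvOK
  rw [h0, Bool.true_and]
  have : ∀ n, n ≤ N → allB n (lvP L) = true := by
    intro n
    induction n with
    | zero => intro _; rfl
    | succ n ih =>
      intro hn
      show (lvP L n && allB n (lvP L)) = true
      rw [ih (by omega), h n (by omega)]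
      rfl
  exact this N le_rfl

/-- the inverse of a realised function is realised -/
theorem real_inv {K : Subgroup (Equiv.Perm (Fin N))} {f f' : ℕ → ℕ} (h : Real K f)
    (hf : ∀ x, x < N → f' (f x) = x) : Real K f' :=
  real_of_eq (fL := fun x => x) (fR := f) real_id h (fun x hx => (hf x hx).symm)

/-- the action of the inverse from an inverse table -/
theorem gN_inv_eq {g : Equiv.Perm (Fin N)} {f f' : ℕ → ℕ} (hf : ∀ x, x < N → gN g x = f x)
    (hff : ∀ x, x < N → f' (f x) = x) (i : ℕ) (hi : i < N) : gN g⁻¹ i = f' i := by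
  have hj : gN g⁻¹ i < N := gN_lt _ hi
  have e : f (gN g⁻¹ i) = i := by rw [← hf _ hj, gN_gN_inv]
  calc gN g⁻¹ i = f' (f (gN g⁻¹ i)) := (hff _ hj).symm
    _ = f' i := by rw [e]

/-- the action of a product of realised functions, the first letter applied first -/
theorem evalApp_lt {K : Subgroup (Equiv.Perm (Fin N))} {tb : ℕ → ℕ → ℕ} (w : List ℕ)
    (h : ∀ k ∈ w, Real K (tb k)) {x : ℕ} (hx : x < N) : evalApp tb w x < N :=
  (real_evalApp w h).lt hx

end Cfsg.Agent.Lib.Helper8.SQ
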