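import Cfsg.Agent.Lib.Helper8.F3T2
import Cfsg.Agent.Lib.Helper8.SQ5

set_option autoImplicit false

/-! Elements of the setwise normaliser from conjugation data, and the functions they realise. -/

namespace Cfsg.Agent.Lib.Helper8.F3S

theorem real_of_data {G : Type*} [Group G] {b t : ℕ → G} {co bas : ℕ → ℕ} {sg : ℕ → ℕ → ℕ}
    {W : List (List ℕ)} (H : Hyp b t co bas sg W) (τ : G) (σ : ℕ → ℕ) (h2 : τ * τ = 1)
    (hc : ∀ s < 11, τ * b s * τ⁻¹ = bprod b 11 (co (σ (bas s))))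
    (hd : ∀ j < 23, σ j < 23 ∧ lin (fun s => co (σ (bas s))) 11 (co j) = co (σ j)) :
    SQ.Real (psiE H).range σ := by
  have hconj : ∀ j < 23, τ * dd b co j * τ⁻¹ = dd b co (σ j) := by
    intro j hj
    rw [dd, conj_bprod b 11 H.hbc H.hb2 τ (fun s => co (σ (bas s))) hc 11 le_rfl, (hd j hj).2, dd]
  have hmem : τ ∈ NE b co := mem_NE_of_invol τ σ h2 (fun j hj => ⟨(hd j hj).1, hconj j hj⟩)
  refine ⟨psiE H ⟨τ, hmem⟩, ⟨_, rfl⟩, fun x hx => ?_⟩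
  rw [SQ.gN_of_lt _ hx]
  have := psiE_eq H ⟨τ, hmem⟩ ⟨x, hx⟩ ⟨σ x, (hd x hx).1⟩ (hconj x hx)
  rw [this]

end Cfsg.Agent.Lib.Helper8.F3S
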