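import Cfsg.Agent.Lib.Helper8.F3U1

set_option autoImplicit false
set_option maxRecDepth 100000
set_option Elab.async false

/-! Fi23 on 31671 points: word certificate of the fourth lift for S2650 (generated). -/

namespace Cfsg.Agent.Lib.Helper8.F3S

theorem cw14_0 : SQ.allR 0 3519 (fun x => Nat.beq (nst14 x) (vv14 x)) = true := by decide +kernel
theorem cw14_1 : SQ.allR 3519 3519 (fun x => Nat.beq (nst14 x) (vv14 x)) = true := by decide +kernel
theorem cw14_2 : SQ.allR 7038 3519 (fun x => Nat.beq (nst14 x) (vv14 x)) = true := by decide +kernel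
theorem cw14_3 : SQ.allR 10557 3519 (fun x => Nat.beq (nst14 x) (vv14 x)) = true := by decide +kernel
theorem cw14_4 : SQ.allR 14076 3519 (fun x => Nat.beq (nst14 x) (vv14 x)) = true := by decide +kernel
theorem cw14_5 : SQ.allR 17595 3519 (fun x => Nat.beq (nst14 x) (vv14 x)) = true := by decide +kernel
theorem cw14_6 : SQ.allR 21114 3519 (fun x => Nat.beq (nst14 x) (vv14 x)) = true := by decide +kernel
theorem cw14_7 : SQ.allR 24633 3519 (fun x => Nat.beq (nst14 x) (vv14 x)) = true := by decide +kernel
theorem cw14_8 : SQ.allR 28152 3519 (fun x => Nat.beq (nst14 x) (vv14 x)) = true := by decide +kernel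

theorem cw14_all : ∀ x, x < 31671 → actV WW14 x = vv14 x := by
  intro x hp
  rw [lk14]
  apply Nat.eq_of_beq_eq_true
  rcases Nat.lt_or_ge x 3519 with h | h
  · exact SQ.allR_spec cw14_0 x (by omega) (by omega)
  rcases Nat.lt_or_ge x 7038 with h | h
  · exact SQ.allR_spec cw14_1 x (by omega) (by omega)
  rcases Nat.lt_or_ge x 10557 with h | h
  · exact SQ.allR_spec cw14_2 x (by omega) (by omega)
  rcases Nat.lt_or_ge x 14076 with h | h
  · exact SQ.allR_spec cw14_3 x (by omega) (by omega)
  rcases Nat.lt_or_ge x 17595 with h | h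
  · exact SQ.allR_spec cw14_4 x (by omega) (by omega)
  rcases Nat.lt_or_ge x 21114 with h | h
  · exact SQ.allR_spec cw14_5 x (by omega) (by omega)
  rcases Nat.lt_or_ge x 24633 with h | h
  · exact SQ.allR_spec cw14_6 x (by omega) (by omega)
  rcases Nat.lt_or_ge x 28152 with h | h
  · exact SQ.allR_spec cw14_7 x (by omega) (by omega)
  exact SQ.allR_spec cw14_8 x (by omega) (by omega)

end Cfsg.Agent.Lib.Helper8.F3S
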