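import Cfsg.Agent.Lib.Helper8.F3U3a

set_option autoImplicit false
set_option maxRecDepth 100000
set_option Elab.async false

/-! Fi23 on 31671 points: the checks for S2650 (generated). -/

namespace Cfsg.Agent.Lib.Helper8.F3S

theorem sqT3_all (x : ℕ) (hx : x < 31671) : vv14 (vv14 x) = x := by
  apply Nat.eq_of_beq_eq_true
  exact SQ.allR_spec sqT3_0 x (by omega) (by omega)

theorem mask3_0 : co (s3 (bas 0)) = 1024 := by decide
theorem mask3_1 : co (s3 (bas 1)) = 2 := by decide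
theorem mask3_2 : co (s3 (bas 2)) = 4 := by decide
theorem mask3_3 : co (s3 (bas 3)) = 8 := by decide
theorem mask3_4 : co (s3 (bas 4)) = 128 := by decide
theorem mask3_5 : co (s3 (bas 5)) = 254 := by decide
theorem mask3_6 : co (s3 (bas 6)) = 64 := by decide
theorem mask3_7 : co (s3 (bas 7)) = 16 := by decide
theorem mask3_8 : co (s3 (bas 8)) = 1714 := by decide
theorem mask3_9 : co (s3 (bas 9)) = 365 := by decide
theorem mask3_10 : co (s3 (bas 10)) = 1 := by decide
theorem conj3_0_all (x : ℕ) (hx : x < 31671) : vv14 (vb 0 x) = evB 11 (co (s3 (bas 0))) (vv14 x) := by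
  rw [mask3_0]
  show vv14 (vv0 x) = _
  apply Nat.eq_of_beq_eq_true
  exact SQ.allR_spec conj3_0_0 x (by omega) (by omega)

theorem conj3_1_all (x : ℕ) (hx : x < 31671) : vv14 (vb 1 x) = evB 11 (co (s3 (bas 1))) (vv14 x) := by
  rw [mask3_1]
  show vv14 (vv1 x) = _
  apply Nat.eq_of_beq_eq_true
  exact SQ.allR_spec conj3_1_0 x (by omega) (by omega)

theorem conj3_2_all (x : ℕ) (hx : x < 31671) : vv14 (vb 2 x) = evB 11 (co (s3 (bas 2))) (vv14 x) := by
  rw [mask3_2]
  show vv14 (vv2 x) = _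
  apply Nat.eq_of_beq_eq_true
  exact SQ.allR_spec conj3_2_0 x (by omega) (by omega)

theorem conj3_3_all (x : ℕ) (hx : x < 31671) : vv14 (vb 3 x) = evB 11 (co (s3 (bas 3))) (vv14 x) := by
  rw [mask3_3]
  show vv14 (vv3 x) = _
  apply Nat.eq_of_beq_eq_true
  exact SQ.allR_spec conj3_3_0 x (by omega) (by omega)

theorem conj3_4_all (x : ℕ) (hx : x < 31671) : vv14 (vb 4 x) = evB 11 (co (s3 (bas 4))) (vv14 x) := by
  rw [mask3_4]
  show vv14 (vv4 x) = _
  apply Nat.eq_of_beq_eq_true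
  exact SQ.allR_spec conj3_4_0 x (by omega) (by omega)

theorem conj3_5_all (x : ℕ) (hx : x < 31671) : vv14 (vb 5 x) = evB 11 (co (s3 (bas 5))) (vv14 x) := by
  rw [mask3_5]
  show vv14 (vv5 x) = _
  apply Nat.eq_of_beq_eq_true
  rcases Nat.lt_or_ge x 15836 with h | h
  · exact SQ.allR_spec conj3_5_0 x (by omega) (by omega)
  exact SQ.allR_spec conj3_5_1 x (by omega) (by omega)

theorem conj3_6_all (x : ℕ) (hx : x < 31671) : vv14 (vb 6 x) = evB 11 (co (s3 (bas 6))) (vv14 x) := by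
  rw [mask3_6]
  show vv14 (vv6 x) = _
  apply Nat.eq_of_beq_eq_true
  exact SQ.allR_spec conj3_6_0 x (by omega) (by omega)

theorem conj3_7_all (x : ℕ) (hx : x < 31671) : vv14 (vb 7 x) = evB 11 (co (s3 (bas 7))) (vv14 x) := by
  rw [mask3_7]
  show vv14 (vv7 x) = _
  apply Nat.eq_of_beq_eq_true
  exact SQ.allR_spec conj3_7_0 x (by omega) (by omega)

theorem conj3_8_all (x : ℕ) (hx : x < 31671) : vv14 (vb 8 x) = evB 11 (co (s3 (bas 8))) (vv14 x) := by
  rw [mask3_8]
  show vv14 (vv8 x) = _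
  apply Nat.eq_of_beq_eq_true
  rcases Nat.lt_or_ge x 15836 with h | h
  · exact SQ.allR_spec conj3_8_0 x (by omega) (by omega)
  exact SQ.allR_spec conj3_8_1 x (by omega) (by omega)

theorem conj3_9_all (x : ℕ) (hx : x < 31671) : vv14 (vb 9 x) = evB 11 (co (s3 (bas 9))) (vv14 x) := by
  rw [mask3_9]
  show vv14 (vv9 x) = _
  apply Nat.eq_of_beq_eq_true
  rcases Nat.lt_or_ge x 15836 with h | h
  · exact SQ.allR_spec conj3_9_0 x (by omega) (by omega)
  exact SQ.allR_spec conj3_9_1 x (by omega) (by omega)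

theorem conj3_10_all (x : ℕ) (hx : x < 31671) : vv14 (vb 10 x) = evB 11 (co (s3 (bas 10))) (vv14 x) := by
  rw [mask3_10]
  show vv14 (vv10 x) = _
  apply Nat.eq_of_beq_eq_true
  exact SQ.allR_spec conj3_10_0 x (by omega) (by omega)

theorem conj3_all (s : ℕ) (hs : s < 11) (x : ℕ) (hx : x < 31671) :
    vv14 (vb s x) = evB 11 (co (s3 (bas s))) (vv14 x) := by
  interval_cases s
  · exact conj3_0_all x hx
  · exact conj3_1_all x hx
  · exact conj3_2_all x hx
  · exact conj3_3_all x hx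
  · exact conj3_4_all x hx
  · exact conj3_5_all x hx
  · exact conj3_6_all x hx
  · exact conj3_7_all x hx
  · exact conj3_8_all x hx
  · exact conj3_9_all x hx
  · exact conj3_10_all x hx

theorem rel1_all (x : ℕ) (hx : x < 31671) : vv11 (vv13 (vv11 (vv13 (vv11 (vv13 (vv11 (vv13 (x)))))))) = x := by
  apply Nat.eq_of_beq_eq_true
  rcases Nat.lt_or_ge x 15836 with h | h
  · exact SQ.allR_spec rel1_0 x (by omega) (by omega)
  exact SQ.allR_spec rel1_1 x (by omega) (by omega)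

theorem rel2_all (x : ℕ) (hx : x < 31671) : vv12 (vv13 (vv12 (vv11 (vv12 (vv13 (vv11 (vv13 (vv11 (vv12 (vv13 (vv11 (x)))))))))))) = evB 11 1174 x := by
  apply Nat.eq_of_beq_eq_true
  rcases Nat.lt_or_ge x 10557 with h | h
  · exact SQ.allR_spec rel2_0 x (by omega) (by omega)
  rcases Nat.lt_or_ge x 21114 with h | h
  · exact SQ.allR_spec rel2_1 x (by omega) (by omega)
  exact SQ.allR_spec rel2_2 x (by omega) (by omega)


end Cfsg.Agent.Lib.Helper8.F3S
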