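import Cfsg.Agent.Lib.Helper8.F3U1

set_option autoImplicit false
set_option maxRecDepth 100000
set_option Elab.async false

/-! Fi23 on 31671 points: checks for S2650 (generated). -/

namespace Cfsg.Agent.Lib.Helper8.F3S

theorem sqT3_0 : SQ.allR 0 31671 (fun x => Nat.beq (vv14 (vv14 x)) x) = true := by decide +kernel
theorem conj3_0_0 : SQ.allR 0 31671 (fun x => Nat.beq (vv14 (vv0 x)) (evB 11 1024 (vv14 x))) = true := by decide +kernel
theorem conj3_1_0 : SQ.allR 0 31671 (fun x => Nat.beq (vv14 (vv1 x)) (evB 11 2 (vv14 x))) = true := by decide +kernel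
theorem conj3_2_0 : SQ.allR 0 31671 (fun x => Nat.beq (vv14 (vv2 x)) (evB 11 4 (vv14 x))) = true := by decide +kernel
theorem conj3_3_0 : SQ.allR 0 31671 (fun x => Nat.beq (vv14 (vv3 x)) (evB 11 8 (vv14 x))) = true := by decide +kernel
theorem conj3_4_0 : SQ.allR 0 31671 (fun x => Nat.beq (vv14 (vv4 x)) (evB 11 128 (vv14 x))) = true := by decide +kernel
theorem conj3_5_0 : SQ.allR 0 15836 (fun x => Nat.beq (vv14 (vv5 x)) (evB 11 254 (vv14 x))) = true := by decide +kernel
theorem conj3_5_1 : SQ.allR 15836 15835 (fun x => Nat.beq (vv14 (vv5 x)) (evB 11 254 (vv14 x))) = true := by decide +kernel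
theorem conj3_6_0 : SQ.allR 0 31671 (fun x => Nat.beq (vv14 (vv6 x)) (evB 11 64 (vv14 x))) = true := by decide +kernel
theorem conj3_7_0 : SQ.allR 0 31671 (fun x => Nat.beq (vv14 (vv7 x)) (evB 11 16 (vv14 x))) = true := by decide +kernel
theorem conj3_8_0 : SQ.allR 0 15836 (fun x => Nat.beq (vv14 (vv8 x)) (evB 11 1714 (vv14 x))) = true := by decide +kernel
theorem conj3_8_1 : SQ.allR 15836 15835 (fun x => Nat.beq (vv14 (vv8 x)) (evB 11 1714 (vv14 x))) = true := by decide +kernel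
theorem conj3_9_0 : SQ.allR 0 15836 (fun x => Nat.beq (vv14 (vv9 x)) (evB 11 365 (vv14 x))) = true := by decide +kernel
theorem conj3_9_1 : SQ.allR 15836 15835 (fun x => Nat.beq (vv14 (vv9 x)) (evB 11 365 (vv14 x))) = true := by decide +kernel
theorem conj3_10_0 : SQ.allR 0 31671 (fun x => Nat.beq (vv14 (vv10 x)) (evB 11 1 (vv14 x))) = true := by decide +kernel
theorem rel1_0 : SQ.allR 0 15836 (fun x => Nat.beq (vv11 (vv13 (vv11 (vv13 (vv11 (vv13 (vv11 (vv13 (x))))))))) x) = true := by decide +kernel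
theorem rel1_1 : SQ.allR 15836 15835 (fun x => Nat.beq (vv11 (vv13 (vv11 (vv13 (vv11 (vv13 (vv11 (vv13 (x))))))))) x) = true := by decide +kernel
theorem rel2_0 : SQ.allR 0 10557 (fun x => Nat.beq (vv12 (vv13 (vv12 (vv11 (vv12 (vv13 (vv11 (vv13 (vv11 (vv12 (vv13 (vv11 (x))))))))))))) (evB 11 1174 x)) = true := by decide +kernel
theorem rel2_1 : SQ.allR 10557 10557 (fun x => Nat.beq (vv12 (vv13 (vv12 (vv11 (vv12 (vv13 (vv11 (vv13 (vv11 (vv12 (vv13 (vv11 (x))))))))))))) (evB 11 1174 x)) = true := by decide +kernel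
theorem rel2_2 : SQ.allR 21114 10557 (fun x => Nat.beq (vv12 (vv13 (vv12 (vv11 (vv12 (vv13 (vv11 (vv13 (vv11 (vv12 (vv13 (vv11 (x))))))))))))) (evB 11 1174 x)) = true := by decide +kernel

end Cfsg.Agent.Lib.Helper8.F3S
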