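import Cfsg.Agent.Lib.Helper8.F3U1
import Cfsg.Agent.Lib.Helper8.F3T8

set_option autoImplicit false
set_option maxRecDepth 100000

/-! Small data for S2650 (generated). -/

namespace Cfsg.Agent.Lib.Helper8.F3S

open Cfsg

def lamL : List ℕ := [0, 1, 2, 3, 4, 5, 14, 9, 6, 16, 17, 11, 20, 15, 22, 7, 12, 21, 19, 8, 10, 18, 13]
def lamI : List ℕ := [0, 1, 2, 3, 4, 5, 8, 15, 19, 7, 20, 11, 16, 22, 6, 13, 9, 10, 21, 18, 12, 17, 14]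
def lamF (x : ZMod 23) : Fin 23 := Fin.ofNat 23 (lamL.getD (ZMod.val x) 0)
def lamG (j : Fin 23) : ZMod 23 := ((lamI.getD j.val 0 : ℕ) : ZMod 23)
/-- the residues modulo 23 label the 23 positions -/
def lamE : ZMod 23 ≃ Fin 23 := ⟨lamF, lamG, by decide, by decide⟩

theorem hqr : ∀ t : ZMod 23, vecN (cZ co lamE) (qrWord t) = 0 := by decide +kernel

theorem hone : vecN (cZ co lamE) 1 = 0 := by decide +kernel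

def sIdx : List ℕ := [1, 2, 3, 4, 5, 8, 11, 0, 0, 0, 0, 7, 0, 6, 0, 9, 0, 0, 0, 10, 0, 0, 0]
/-- a word with a given vector -/
def wOf (v : ℕ) : GolayPt → ZMod 2 := fun p =>
  match p with
  | none => 0
  | some x => if (sIdx.getD (ZMod.val x) 0 != 0 && v.testBit (sIdx.getD (ZMod.val x) 0 - 1)) = true then 1 else 0

theorem hsurj_chk : SQ.allR 0 2048 (fun v => Nat.beq (vecN (cZ co lamE) (wOf v)) v) = true := by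
  decide +kernel

theorem hsurj : ∀ v < 2 ^ 11, ∃ w, vecN (cZ co lamE) w = v := fun v hv =>
  ⟨wOf v, Nat.eq_of_beq_eq_true (SQ.allR_spec hsurj_chk v (Nat.zero_le _) (by norm_num at hv ⊢; exact hv))⟩

theorem dat3' : ∀ j < 23, s3 j < 23 ∧ lin (fun s => co (s3 (bas s))) 11 (co j) = co (s3 j) := by decide

/-- the four generators on the 23 positions -/
def s4 (k j : ℕ) : ℕ := match k with
  | 0 => sg 0 j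
  | 1 => sg 1 j
  | 2 => sg 2 j
  | _ => s3 j

/-- a level from lists -/
def mkLv (b ng : ℕ) (ws : List (List ℕ)) (lab rk : List ℕ) : SQ.Lv :=
  ⟨b, ng, fun l => SQ.evalApp s4 (ws.getD (l - 2) []), fun p => lab.getD p 0, fun p => rk.getD p 0⟩

def lv0 : SQ.Lv := mkLv 21 4 [[3], [1], [2], [0]] [2, 5, 3, 4, 2, 3, 2, 4, 4, 2, 4, 4, 5, 3, 3, 4, 3, 5, 5, 2, 2, 1, 5] [5, 4, 3, 2, 3, 2, 5, 3, 4, 5, 3, 5, 4, 6, 4, 4, 6, 4, 2, 1, 4, 0, 3]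
def lv1 : SQ.Lv := mkLv 4 2 [[2, 0, 3, 2, 3, 1, 0, 1, 3, 1, 0, 2, 3, 1], [3, 0, 3, 1, 3, 1, 0, 3]] [2, 2, 2, 2, 1, 2, 2, 3, 3, 3, 2, 3, 2, 2, 2, 3, 2, 3, 2, 3, 2, 0, 2] [5, 5, 4, 6, 0, 5, 1, 4, 3, 4, 2, 1, 4, 5, 2, 2, 3, 3, 3, 5, 4, 0, 4]
def lv2 : SQ.Lv := mkLv 0 2 [[0, 2, 3, 2, 3, 1, 2, 3, 2, 1, 0, 2], [2, 3, 1, 0, 3, 2, 1, 2, 0, 3, 0, 3, 1, 2, 3, 1, 0]] [1, 2, 3, 3, 0, 3, 2, 3, 3, 2, 3, 2, 2, 3, 2, 2, 3, 2, 3, 3, 3, 0, 2] [0, 5, 3, 5, 0, 2, 2, 2, 3, 3, 3, 5, 1, 1, 4, 3, 4, 4, 4, 5, 4, 0, 4]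
def lv3 : SQ.Lv := mkLv 1 2 [[0, 1, 0, 3, 0, 3, 1, 3, 2, 0, 2, 1, 0, 3], [3, 2, 1, 3, 0, 3, 2, 1, 0, 3, 2, 3, 2, 3, 1, 3, 2, 0]] [0, 1, 2, 2, 0, 2, 3, 3, 2, 3, 3, 3, 2, 3, 3, 2, 3, 2, 2, 2, 2, 0, 2] [0, 0, 5, 3, 0, 3, 4, 1, 3, 3, 2, 2, 2, 4, 3, 4, 5, 4, 5, 1, 4, 0, 2]
def lv4 : SQ.Lv := mkLv 2 3 [[3, 2, 0, 2, 3, 0, 1, 3, 2, 0, 3, 2, 3, 2], [2, 3, 0, 1, 2, 0, 2, 3, 1, 3, 0, 3, 2], [0, 1, 3, 2, 3, 0, 1, 0, 2, 3, 1, 0]] [0, 0, 1, 2, 0, 3, 3, 4, 3, 2, 4, 2, 2, 3, 0, 4, 0, 4, 3, 2, 0, 0, 3] [0, 0, 0, 3, 0, 3, 2, 3, 1, 2, 2, 2, 3, 3, 0, 4, 0, 3, 2, 1, 0, 0, 3]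
def lv5 : SQ.Lv := mkLv 3 1 [[0, 1, 3, 2, 3, 0, 1, 0, 2, 3, 1, 0]] [0, 0, 0, 1, 0, 2, 0, 0, 0, 0, 0, 0, 0, 0, 0, 0, 0, 0, 0, 0, 0, 0, 2] [0, 0, 0, 0, 0, 1, 0, 0, 0, 0, 0, 0, 0, 0, 0, 0, 0, 0, 0, 0, 0, 0, 2]
def lvs : List SQ.Lv := [lv0, lv1, lv2, lv3, lv4, lv5]

theorem lvs_ok : ∀ L ∈ lvs, SQ.lvOK 23 L = true := by decide

theorem lvs_fix : SQ.fixOK [] lvs = true := by decide

theorem lvs_size : SQ.sizesN 23 lvs = 10200960 := by decide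

def rl1 : List ℕ := [0, 2, 0, 2, 0, 2, 0, 2]
def rl2 : List ℕ := [1, 2, 1, 0, 1, 2, 0, 2, 0, 1, 2, 0]

theorem ns_h0 : xor (Lb [0, 1] 0) (Lb [1, 3, 8] 1174) = true := by decide

theorem ns_hF : ∀ k < 3, ∀ s < 11,
    xor (Lb [0, 1] (acc (fun j s => co (sg j (bas s))) (dl k (2 ^ s)) rl1))
      (Lb [1, 3, 8] (acc (fun j s => co (sg j (bas s))) (dl k (2 ^ s)) rl2)) = false := by decide +kernel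

theorem ns_cert : ∀ v0 < 2 ^ 11, ∀ v1 < 2 ^ 11, ∀ v2 < 2 ^ 11,
    ¬ ((0 ^^^ acc (fun j s => co (sg j (bas s))) (fun j => [v0, v1, v2].getD j 0) rl1) % 2 ^ 11 = 0 ∧
      (1174 ^^^ acc (fun j s => co (sg j (bas s))) (fun j => [v0, v1, v2].getD j 0) rl2) % 2 ^ 11 = 0) :=
  cert_of_basis _ rl1 rl2 0 1174 [0, 1] [1, 3, 8] (by decide) (by decide) ns_h0 ns_hF

end Cfsg.Agent.Lib.Helper8.F3S
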