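import Cfsg.Agent.Lib.Helper8.F3S5
import Cfsg.Agent.Lib.Helper8.F3U2
import Cfsg.Agent.Lib.Helper8.F3U3
import Cfsg.Agent.Lib.Helper8.F3U4
import Cfsg.Agent.Lib.Helper8.F3T7
import Cfsg.Agent.Lib.Helper8.F3T9

set_option autoImplicit false

/-! The non-split extension of `M23` by the cocode module inside `Fi23`. -/

namespace Cfsg.Agent.Lib.Helper8.F3S

open Cfsg.Spor Cfsg.Agent.Lib.Helper4.TC Cfsg.Agent.Lib.Helper4.TCD Cfsg.Agent.Lib.Helper4.TC.Log
open F3O (Gp φ gN_word eq_of_gN eq_one_of_gN cardGp finGp)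

/-- the fourth lift -/
noncomputable def t3E : Gp := wordP PFi23.P.gR WW14

theorem hww14 : ∀ y ∈ WW14, y < 10 := by decide

theorem gN_t3E (i : ℕ) (hi : i < 31671) : SQ.gN (φ t3E) i = vv14 i := by
  rw [t3E, gN_word _ hww14 i hi]
  exact cw14_all i hi

theorem vv14_lt (i : ℕ) (hi : i < 31671) : vv14 i < 31671 := by
  rw [← gN_t3E i hi]
  exact SQ.gN_lt _ hi

theorem t3_sq : t3E * t3E = 1 := by
  apply eq_one_of_gN
  intro i hi
  rw [map_mul, SQ.gN_mul, gN_t3E i hi, gN_t3E _ (vv14_lt i hi)]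
  exact sqT3_all i hi

theorem t3_conj (s : ℕ) (hs : s < 11) : t3E * bE s * t3E⁻¹ = bprod bE 11 (co (s3 (bas s))) := by
  rw [mul_inv_eq_iff_eq_mul]
  apply eq_of_gN
  intro i hi
  rw [map_mul, map_mul, SQ.gN_mul, SQ.gN_mul, gN_bE s hs i hi, gN_t3E i hi,
    gN_t3E _ (vb_lt s hs i hi), gN_bprod 11 le_rfl _ _ (vv14_lt i hi)]
  exact conj3_all s hs i hi

theorem real_s4 (k : ℕ) : SQ.Real (psiE hyp).range (s4 k) := by
  match k with
  | 0 =>
    exact real_of_data hyp (tE 0) (sg 0) (ht2 0 (by norm_num)) (ht 0 (by norm_num))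
      (fun j hj => ⟨(dat3 0 (by norm_num) j hj).1, (dat3 0 (by norm_num) j hj).2.2⟩)
  | 1 =>
    exact real_of_data hyp (tE 1) (sg 1) (ht2 1 (by norm_num)) (ht 1 (by norm_num))
      (fun j hj => ⟨(dat3 1 (by norm_num) j hj).1, (dat3 1 (by norm_num) j hj).2.2⟩)
  | 2 =>
    exact real_of_data hyp (tE 2) (sg 2) (ht2 2 (by norm_num)) (ht 2 (by norm_num))
      (fun j hj => ⟨(dat3 2 (by norm_num) j hj).1, (dat3 2 (by norm_num) j hj).2.2⟩)
  | (n + 3) => exact real_of_data hyp t3E s3 t3_sq t3_conj dat3'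

theorem hge : 10200960 ≤ Nat.card (psiE hyp).range := by
  have hm : ∀ L ∈ lvs, ∀ l, 2 ≤ l → l < L.ng + 2 → SQ.Real (psiE hyp).range (L.step l) := by
    intro L hL l _ _
    simp only [lvs, List.mem_cons, List.not_mem_nil, or_false] at hL
    rcases hL with rfl | rfl | rfl | rfl | rfl | rfl <;>
      exact SQ.real_evalApp _ (fun k _ => real_s4 k)
  have h := SQ.card_ge_of_checks (N := 23) (psiE hyp).range lvs hm lvs_ok lvs_fix
  rw [lvs_size] at h
  exact h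

/-- the action of a word in the lifts -/
def evT : List ℕ → ℕ → ℕ
  | [], x => x
  | k :: w, x => vt k (evT w x)

theorem gN_tword (w : List ℕ) (hw : ∀ k ∈ w, k < 3) (i : ℕ) (hi : i < 31671) :
    SQ.gN (φ (tword tE w)) i = evT w i ∧ evT w i < 31671 := by
  induction w with
  | nil =>
    refine ⟨?_, hi⟩
    show SQ.gN (φ 1) i = i
    rw [map_one, SQ.gN_one]
  | cons k w ih =>
    have hw' : ∀ k' ∈ w, k' < 3 := fun k' hk' => hw k' (List.mem_cons_of_mem _ hk')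
    have hk : k < 3 := hw k List.mem_cons_self
    obtain ⟨h1, h2⟩ := ih hw'
    have e : tword tE (k :: w) = tE k * tword tE w := by
      rw [tword, List.map_cons, List.prod_cons]
      rfl
    rw [e, map_mul, SQ.gN_mul, h1, gN_tE k hk _ h2]
    exact ⟨rfl, vt_lt k hk _ h2⟩

theorem hT1 : tword tE rl1 = bprod bE 11 0 := by
  apply eq_of_gN
  intro i hi
  rw [(gN_tword rl1 (by decide) i hi).1, gN_bprod 11 le_rfl 0 i hi]
  have e : evB 11 0 i = i := rfl
  rw [e]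
  simp only [evT, rl1, vt_0, vt_2]
  exact rel1_all i hi

theorem hT2 : tword tE rl2 = bprod bE 11 1174 := by
  apply eq_of_gN
  intro i hi
  rw [(gN_tword rl2 (by decide) i hi).1, gN_bprod 11 le_rfl 1174 i hi]
  simp only [evT, rl2, vt_0, vt_1, vt_2]
  exact rel2_all i hi

theorem ext_fi23 :
    ∃ (E : Type) (_ : Group E) (_ : Finite E) (N : Subgroup E) (_ : N.Normal)
      (φ : E ⧸ N ≃* ↥Cfsg.Spor.M23) (θ : (Cfsg.GolayPt → ZMod 2) →+ Additive ↥N),
      Function.Surjective θ ∧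
      (∀ w : Cfsg.GolayPt → ZMod 2, θ w = 0 ↔
        (w ∈ Cfsg.golayCode ∨ w + Pi.single none 1 ∈ Cfsg.golayCode)) ∧
      (∀ (g : E) (w : Cfsg.GolayPt → ZMod 2),
        ((θ (w ∘ ⇑(((φ (QuotientGroup.mk g) : ↥Cfsg.Spor.M23) : Equiv.Perm Cfsg.GolayPt)⁻¹))).toMul : E) =
          g * ((θ w).toMul : E) * g⁻¹) ∧
      ∀ H : Subgroup E, H ⊓ N = ⊥ → H ⊔ N ≠ ⊤ := by
  have := finGp
  exact ext_main hyp (3 ^ 13 * 5 ^ 2 * 7 * 11 * 13 * 17 * 23) (by rw [cardGp]; norm_num) m0_odd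
    lamE hsurj hqr hone hge rl1 rl2 0 1174 (by decide) (by decide) hT1 hT2 ns_cert

end Cfsg.Agent.Lib.Helper8.F3S
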