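import Cfsg.Agent.Lib.Helper8.MatN

set_option autoImplicit false
set_option linter.unusedVariables false

/-! Square matrices of size 9 over the field with 4 elements, coded by one natural number
(81 digits in base 4, column by column; the digit `0, 1, 2, 3` stands for `0, 1, ω, ω + 1`),
with a product that the kernel evaluates with a few operations on big numbers. -/

namespace Cfsg.Agent.Lib.Helper8.F4M

open Cfsg.Agent.Lib.Helper8.MatN

/-- the number with digit `1` at each of the 81 places (base 4) -/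
def M81 : ℕ := 1948668849774537224271579776955044026207910057301

/-- the number with bit `18 * j` set for `j < 9` -/
def ONES : ℕ := 22300830269446873167754772512960987242168321

/-- multiply every digit by `ω` -/
def smulW (G : ℕ) : ℕ :=
  withVal (Nat.shiftRight G 1) fun G1 =>
    Nat.lor (Nat.land G1 M81) (Nat.shiftLeft (Nat.land (Nat.xor G G1) M81) 1)

/-- column `k` (9 digits) -/
def blkc (G k : ℕ) : ℕ := Nat.land (Nat.shiftRight G (Nat.mul 18 k)) 262143

/-- low bits of row `k`, one per column block -/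
def rowL (H k : ℕ) : ℕ := Nat.land (Nat.shiftRight H (Nat.mul 2 k)) ONES

/-- high bits of row `k`, one per column block -/
def rowU (H k : ℕ) : ℕ := Nat.land (Nat.shiftRight H (Nat.succ (Nat.mul 2 k))) ONES

/-- exclusive or of `f k` for `k < n` -/
noncomputable def xorSum (n : ℕ) (f : ℕ → ℕ) : ℕ :=
  Nat.rec (motive := fun _ => ℕ) 0 (fun k ih => Nat.xor ih (f k)) n

/-- the product of two coded matrices (also: matrix times coded vector) -/
noncomputable def mulB (G H : ℕ) : ℕ :=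
  withVal (smulW G) fun W =>
    xorSum 9 fun k => Nat.xor (Nat.mul (blkc G k) (rowL H k)) (Nat.mul (blkc W k) (rowU H k))

/-! ### bits and digits -/

/-- bit `i` of `X` as a number -/
def bt (X i : ℕ) : ℕ := X / 2 ^ i % 2

theorem bt_lt (X i : ℕ) : bt X i < 2 := Nat.mod_lt _ (by norm_num)

theorem bt_eq_toNat (X i : ℕ) : bt X i = (X.testBit i).toNat := (Nat.toNat_testBit X i).symm

theorem div_pow2 (X a b : ℕ) : X / 2 ^ a / 2 ^ b = X / 2 ^ (a + b) := by
  rw [Nat.div_div_eq_div_mul, ← pow_add]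

theorem dig4_bits (X e : ℕ) : dig 4 X e = bt X (2 * e) + 2 * bt X (2 * e + 1) := by
  unfold dig bt
  have h1 : (2 : ℕ) ^ (2 * e) = 4 ^ e := by rw [pow_mul]; norm_num
  have h2 : X / 2 ^ (2 * e + 1) = X / 4 ^ e / 2 := by
    rw [pow_succ, ← h1, Nat.div_div_eq_div_mul]
  rw [h1, h2]
  omega

theorem dig4_lt (X e : ℕ) : dig 4 X e < 4 := Nat.mod_lt _ (by norm_num)

theorem bt_xor (a b i : ℕ) : bt (a ^^^ b) i = (bt a i + bt b i) % 2 := by
  rw [bt_eq_toNat, bt_eq_toNat, bt_eq_toNat, Nat.testBit_xor]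
  cases a.testBit i <;> cases b.testBit i <;> rfl

theorem dig_xor (a b e : ℕ) : dig 4 (a ^^^ b) e = dig 4 a e ^^^ dig 4 b e := by
  unfold dig
  have h1 : (4 : ℕ) ^ e = 2 ^ (2 * e) := by rw [pow_mul]; norm_num
  rw [h1, show (4 : ℕ) = 2 ^ 2 by norm_num, Nat.xor_div_two_pow, Nat.xor_mod_two_pow]

theorem xorSum_succ (n : ℕ) (f : ℕ → ℕ) : xorSum (n + 1) f = xorSum n f ^^^ f n := rfl

theorem dig_xorSum (n : ℕ) (f : ℕ → ℕ) (e : ℕ) :
    dig 4 (xorSum n f) e = xorSum n (fun k => dig 4 (f k) e) := by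
  induction n with
  | zero => show dig 4 0 e = 0; simp [dig]
  | succ n ih => rw [xorSum_succ, xorSum_succ, dig_xor, ih]

/-- general two level digits -/
theorem dig_two (b m : ℕ) (hb : 0 < b) {w : ℕ} (hw : w < m) (X j : ℕ) :
    dig b X (w + m * j) = dig b (dig (b ^ m) X j) w := by
  rw [show dig (b ^ m) X j = X / (b ^ m) ^ j % b ^ m from rfl, dig_mod_pow b hb _ m w hw,
    ← pow_mul, dig_div, add_comm]

/-! ### multiplying the digits by ω -/

theorem smulW_eq (G : ℕ) :
    smulW G = ((G >>> 1) &&& M81) ||| (((G ^^^ (G >>> 1)) &&& M81) <<< 1) := by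
  unfold smulW
  rw [withVal_eq]
  rfl

theorem M81_bits : ∀ e < 81, M81.testBit (2 * e) = true ∧ M81.testBit (2 * e + 1) = false := by
  decide +kernel

theorem testBit_smulW_even (G e : ℕ) (he : e < 81) :
    (smulW G).testBit (2 * e) = G.testBit (2 * e + 1) := by
  rw [smulW_eq, Nat.testBit_or, Nat.testBit_and, Nat.testBit_shiftRight, Nat.testBit_shiftLeft,
    Nat.testBit_and, (M81_bits e he).1, Bool.and_true, add_comm 1]
  rcases Nat.eq_zero_or_pos e with h0 | hp
  · subst h0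
    simp
  · have h1 : 2 * e - 1 = 2 * (e - 1) + 1 := by omega
    rw [h1, (M81_bits (e - 1) (by omega)).2]
    simp

theorem testBit_smulW_odd (G e : ℕ) (he : e < 81) :
    (smulW G).testBit (2 * e + 1) = (G.testBit (2 * e) ^^ G.testBit (2 * e + 1)) := by
  rw [smulW_eq, Nat.testBit_or, Nat.testBit_and, (M81_bits e he).2, Bool.and_false,
    Bool.false_or, Nat.testBit_shiftLeft, Nat.testBit_and, Nat.testBit_xor,
    Nat.testBit_shiftRight]
  have h1 : 2 * e + 1 - 1 = 2 * e := by omega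
  rw [h1, (M81_bits e he).1, Bool.and_true, add_comm 1]
  simp

/-- the digit of `ω d` -/
def mw (d : ℕ) : ℕ := d / 2 + 2 * ((d + d / 2) % 2)

theorem dig_smulW (G e : ℕ) (he : e < 81) : dig 4 (smulW G) e = mw (dig 4 G e) := by
  rw [dig4_bits, dig4_bits, bt_eq_toNat, bt_eq_toNat, bt_eq_toNat, bt_eq_toNat,
    testBit_smulW_even G e he, testBit_smulW_odd G e he]
  unfold mw
  cases G.testBit (2 * e) <;> cases G.testBit (2 * e + 1) <;> rfl

/-! ### the rows -/

theorem ONES_lt : ONES < (2 ^ 18) ^ 9 := by decide +kernel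

theorem ONES_dig : ∀ j < 9, dig (2 ^ 18) ONES j = 1 := by decide +kernel

theorem dig_and_pow2 (t a b e : ℕ) :
    dig (2 ^ t) (a &&& b) e = dig (2 ^ t) a e &&& dig (2 ^ t) b e := by
  unfold dig
  rw [← pow_mul, Nat.and_div_two_pow, Nat.and_mod_two_pow]

theorem and_ONES (Y : ℕ) :
    Y &&& ONES = ∑ j ∈ Finset.range 9, bt Y (18 * j) * (2 ^ 18) ^ j := by
  have hlt : Y &&& ONES < (2 ^ 18) ^ 9 := lt_of_le_of_lt Nat.and_le_right ONES_lt
  rw [← Nat.mod_eq_of_lt hlt, mod_pow_eq_sum]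
  apply Finset.sum_congr rfl
  intro j hj
  have hj' : j < 9 := Finset.mem_range.mp hj
  rw [dig_and_pow2, ONES_dig j hj', Nat.and_one_is_mod]
  congr 1
  unfold dig bt
  rw [← pow_mul, Nat.mod_mod_of_dvd _ (dvd_pow_self 2 (by norm_num))]

theorem rowL_eq (H k : ℕ) :
    rowL H k = ∑ j ∈ Finset.range 9, bt H (2 * k + 18 * j) * (2 ^ 18) ^ j := by
  show (H >>> (2 * k)) &&& ONES = _
  rw [and_ONES]
  apply Finset.sum_congr rfl
  intro j _
  congr 1
  unfold bt
  rw [Nat.shiftRight_eq_div_pow, div_pow2]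

theorem rowU_eq (H k : ℕ) :
    rowU H k = ∑ j ∈ Finset.range 9, bt H (2 * k + 1 + 18 * j) * (2 ^ 18) ^ j := by
  show (H >>> (2 * k + 1)) &&& ONES = _
  rw [and_ONES]
  apply Finset.sum_congr rfl
  intro j _
  congr 1
  unfold bt
  rw [Nat.shiftRight_eq_div_pow, div_pow2]

theorem blkc_eq (G k : ℕ) : blkc G k = dig (4 ^ 9) G k := by
  show (G >>> (18 * k)) &&& 262143 = _
  rw [show (262143 : ℕ) = 2 ^ 18 - 1 by norm_num, Nat.and_two_pow_sub_one_eq_mod,
    Nat.shiftRight_eq_div_pow]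
  unfold dig
  rw [show (4 : ℕ) ^ 9 = 2 ^ 18 by norm_num, ← pow_mul]

theorem blkc_lt (G k : ℕ) : blkc G k < 2 ^ 18 := by
  rw [blkc_eq]
  unfold dig
  rw [show (4 : ℕ) ^ 9 = 2 ^ 18 by norm_num]
  exact Nat.mod_lt _ (by norm_num)

/-- digits of a column times a row of bits -/
theorem dig_mul_row (c : ℕ) (hc : c < 2 ^ 18) (f : ℕ → ℕ) (hf : ∀ j, f j < 2) {w j : ℕ}
    (hw : w < 9) (hj : j < 9) :
    dig 4 (c * ∑ j ∈ Finset.range 9, f j * (2 ^ 18) ^ j) (w + 9 * j) = f j * dig 4 c w := by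
  rw [dig_two 4 9 (by norm_num) hw, show (4 : ℕ) ^ 9 = 2 ^ 18 by norm_num, Finset.mul_sum]
  have h1 : ∀ i ∈ Finset.range 9, c * (f i * (2 ^ 18) ^ i) = (c * f i) * (2 ^ 18) ^ i := by
    intro i _; ring
  rw [Finset.sum_congr rfl h1, dig_sum (2 ^ 18) (fun i => c * f i) 9 _ j hj]
  · have := hf j
    interval_cases (f j)
    · simp [dig]
    · simp
  · intro i _
    have := hf i
    interval_cases (f i)
    · simp
    · simpa using hc

/-- the digits of the product -/
theorem dig_mulB (G H : ℕ) {w j : ℕ} (hw : w < 9) (hj : j < 9) :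
    dig 4 (mulB G H) (w + 9 * j) =
      xorSum 9 (fun k => bt H (2 * k + 18 * j) * dig 4 G (w + 9 * k) ^^^
        bt H (2 * k + 1 + 18 * j) * mw (dig 4 G (w + 9 * k))) := by
  unfold mulB
  rw [withVal_eq]
  show dig 4 (xorSum 9 fun k => (blkc G k * rowL H k) ^^^ (blkc (smulW G) k * rowU H k)) _ = _
  rw [dig_xorSum]
  have key : ∀ k, k < 9 → dig 4 ((blkc G k * rowL H k) ^^^ (blkc (smulW G) k * rowU H k)) (w + 9 * j) =
      bt H (2 * k + 18 * j) * dig 4 G (w + 9 * k) ^^^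
        bt H (2 * k + 1 + 18 * j) * mw (dig 4 G (w + 9 * k)) := by
    intro k hk
    rw [dig_xor, rowL_eq, rowU_eq,
      dig_mul_row _ (blkc_lt G k) (fun j => bt H (2 * k + 18 * j)) (fun _ => bt_lt _ _) hw hj,
      dig_mul_row _ (blkc_lt (smulW G) k) (fun j => bt H (2 * k + 1 + 18 * j)) (fun _ => bt_lt _ _) hw hj,
      blkc_eq, blkc_eq, ← dig_two 4 9 (by norm_num) hw, ← dig_two 4 9 (by norm_num) hw,
      dig_smulW G (w + 9 * k) (by omega)]
  -- replace under xorSum for k < 9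
  have hx : ∀ (n : ℕ) (f g : ℕ → ℕ), (∀ k < n, f k = g k) → xorSum n f = xorSum n g := by
    intro n f g h
    induction n with
    | zero => rfl
    | succ n ih =>
      rw [xorSum_succ, xorSum_succ, ih (fun k hk => h k (Nat.lt_succ_of_lt hk)), h n (Nat.lt_succ_self n)]
  exact hx 9 _ _ key

end Cfsg.Agent.Lib.Helper8.F4M
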