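import Cfsg.Agent.Lib.Helper8.F4a

set_option autoImplicit false
set_option linter.unusedVariables false
set_option linter.unusedSectionVars false

/-! Decoding the coded matrices of `F4a` to matrices over a field `F` with an element `ω`
(`2 = 0` and `ω² + ω + 1 = 0` are hypotheses of the statements that need them). -/

namespace Cfsg.Agent.Lib.Helper8.F4M

open Cfsg.Agent.Lib.Helper8.MatN

variable {F : Type*} [Field F] (ω : F)

/-- the element coded by a digit: `0, 1, 2, 3 ↦ 0, 1, ω, ω + 1` -/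
def decF (d : ℕ) : F := ((d % 2 : ℕ) : F) + ((d / 2 % 2 : ℕ) : F) * ω

theorem cast_mod_two (h2 : (2 : F) = 0) (n : ℕ) : ((n % 2 : ℕ) : F) = (n : F) := by
  have h := Nat.div_add_mod n 2
  have h' : (n : F) = ((2 * (n / 2) + n % 2 : ℕ) : F) := by rw [h]
  rw [h']
  push_cast
  rw [h2]
  ring

theorem decF_bt (d : ℕ) : decF ω d = ((bt d 0 : ℕ) : F) + ((bt d 1 : ℕ) : F) * ω := by
  unfold decF bt
  simp

theorem decF_xor (h2 : (2 : F) = 0) (a b : ℕ) : decF ω (a ^^^ b) = decF ω a + decF ω b := by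
  rw [decF_bt, decF_bt, decF_bt, bt_xor, bt_xor, cast_mod_two h2, cast_mod_two h2]
  push_cast
  ring

theorem decF_zero : decF ω 0 = 0 := by simp [decF]

theorem decF_one : decF ω 1 = 1 := by norm_num [decF]

theorem decF_two : decF ω 2 = ω := by norm_num [decF]

theorem decF_three : decF ω 3 = 1 + ω := by norm_num [decF]

theorem decF_bit_mul (l g : ℕ) (hl : l < 2) : decF ω (l * g) = (l : F) * decF ω g := by
  interval_cases l
  · simp [decF]
  · simp

theorem decF_mw (h2 : (2 : F) = 0) (hω : ω ^ 2 + ω + 1 = 0) (d : ℕ) (hd : d < 4) :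
    decF ω (mw d) = ω * decF ω d := by
  interval_cases d
  · norm_num [decF, mw]
  · norm_num [decF, mw]
  · norm_num [decF, mw]
    linear_combination (1 + ω) * h2 - hω
  · norm_num [decF, mw]
    linear_combination h2 - hω

theorem decF_bits (b0 b1 : ℕ) (h0 : b0 < 2) (h1 : b1 < 2) :
    decF ω (b0 + 2 * b1) = (b0 : F) + (b1 : F) * ω := by
  interval_cases b0 <;> interval_cases b1 <;> norm_num [decF]

theorem decF_xorSum (h2 : (2 : F) = 0) (n : ℕ) (t : ℕ → ℕ) :
    decF ω (xorSum n t) = ∑ k ∈ Finset.range n, decF ω (t k) := by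
  induction n with
  | zero => show decF ω 0 = _; simp [decF]
  | succ n ih => rw [xorSum_succ, decF_xor ω h2, ih, Finset.sum_range_succ]

theorem decF_dig_mulB (h2 : (2 : F) = 0) (hω : ω ^ 2 + ω + 1 = 0) (G H : ℕ) {w j : ℕ}
    (hw : w < 9) (hj : j < 9) :
    decF ω (dig 4 (mulB G H) (w + 9 * j)) =
      ∑ k ∈ Finset.range 9, decF ω (dig 4 G (w + 9 * k)) * decF ω (dig 4 H (k + 9 * j)) := by
  rw [dig_mulB G H hw hj, decF_xorSum ω h2]
  apply Finset.sum_congr rfl
  intro k _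
  rw [decF_xor ω h2, decF_bit_mul ω _ _ (bt_lt _ _), decF_bit_mul ω _ _ (bt_lt _ _),
    decF_mw ω h2 hω _ (dig4_lt _ _), dig4_bits H (k + 9 * j),
    decF_bits ω _ _ (bt_lt _ _) (bt_lt _ _),
    show 2 * (k + 9 * j) = 2 * k + 18 * j by ring,
    show 2 * k + 18 * j + 1 = 2 * k + 1 + 18 * j by ring]
  ring

/-! ### matrices and vectors -/

/-- the place of an index -/
def idx (z : ZMod 3 × ZMod 3) : ℕ := 3 * z.1.val + z.2.val

theorem idx_lt (z : ZMod 3 × ZMod 3) : idx z < 9 := by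
  have h1 := ZMod.val_lt z.1
  have h2 := ZMod.val_lt z.2
  unfold idx
  omega

/-- indices and places -/
def idxE : (ZMod 3 × ZMod 3) ≃ Fin 9 where
  toFun z := ⟨idx z, idx_lt z⟩
  invFun i := (((i.val / 3 : ℕ) : ZMod 3), ((i.val % 3 : ℕ) : ZMod 3))
  left_inv := by decide
  right_inv := by decide

theorem sum_idx {M : Type*} [AddCommMonoid M] (f : ℕ → M) :
    ∑ y : ZMod 3 × ZMod 3, f (idx y) = ∑ k ∈ Finset.range 9, f k :=
  (Fintype.sum_equiv idxE (fun y => f (idx y)) (fun i => f i.val) (fun y => rfl)).trans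
    (Fin.sum_univ_eq_sum_range f 9)

/-- the matrix coded by `G` -/
def decM (G : ℕ) : Matrix (ZMod 3 × ZMod 3) (ZMod 3 × ZMod 3) F :=
  fun w z => decF ω (dig 4 G (idx w + 9 * idx z))

/-- the vector coded by `v` -/
def decV (v : ℕ) : ZMod 3 × ZMod 3 → F := fun w => decF ω (dig 4 v (idx w))

theorem decM_mulB (h2 : (2 : F) = 0) (hω : ω ^ 2 + ω + 1 = 0) (G H : ℕ) :
    decM ω (mulB G H) = decM ω G * decM ω H := by
  ext w z
  rw [Matrix.mul_apply]
  show decF ω (dig 4 (mulB G H) (idx w + 9 * idx z)) =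
    ∑ y, decF ω (dig 4 G (idx w + 9 * idx y)) * decF ω (dig 4 H (idx y + 9 * idx z))
  rw [sum_idx (fun k => decF ω (dig 4 G (idx w + 9 * k)) * decF ω (dig 4 H (k + 9 * idx z)))]
  exact decF_dig_mulB ω h2 hω G H (idx_lt w) (idx_lt z)

theorem decV_mulB (h2 : (2 : F) = 0) (hω : ω ^ 2 + ω + 1 = 0) (G v : ℕ) :
    decV ω (mulB G v) = (decM ω G).mulVec (decV ω v) := by
  ext w
  show decF ω (dig 4 (mulB G v) (idx w)) = ∑ y, decM ω G w y * decV ω v y
  have h := decF_dig_mulB ω h2 hω G v (idx_lt w) (show 0 < 9 by norm_num)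
  rw [Nat.mul_zero, Nat.add_zero] at h
  rw [h]
  show _ = ∑ y, decF ω (dig 4 G (idx w + 9 * idx y)) * decF ω (dig 4 v (idx y))
  rw [sum_idx (fun k => decF ω (dig 4 G (idx w + 9 * k)) * decF ω (dig 4 v k))]
  apply Finset.sum_congr rfl
  intro k _
  rfl

theorem decM_xor (h2 : (2 : F) = 0) (A B : ℕ) : decM ω (A ^^^ B) = decM ω A + decM ω B := by
  ext w z
  show decF ω (dig 4 (A ^^^ B) _) = decF ω _ + decF ω _
  rw [dig_xor, decF_xor ω h2]

theorem decV_xor (h2 : (2 : F) = 0) (a b : ℕ) : decV ω (a ^^^ b) = decV ω a + decV ω b := by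
  ext w
  show decF ω (dig 4 (a ^^^ b) _) = decF ω _ + decF ω _
  rw [dig_xor, decF_xor ω h2]

theorem decM_smulW (h2 : (2 : F) = 0) (hω : ω ^ 2 + ω + 1 = 0) (G : ℕ) :
    decM ω (smulW G) = ω • decM ω G := by
  ext w z
  show decF ω (dig 4 (smulW G) (idx w + 9 * idx z)) = ω * decF ω _
  have h1 := idx_lt w
  have h3 := idx_lt z
  rw [dig_smulW G _ (by omega), decF_mw ω h2 hω _ (dig4_lt _ _)]

theorem decV_smulW (h2 : (2 : F) = 0) (hω : ω ^ 2 + ω + 1 = 0) (v : ℕ) :
    decV ω (smulW v) = ω • decV ω v := by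
  ext w
  show decF ω (dig 4 (smulW v) (idx w)) = ω * decF ω _
  have h1 := idx_lt w
  rw [dig_smulW v _ (by omega), decF_mw ω h2 hω _ (dig4_lt _ _)]

/-- the code of the identity matrix -/
def ID : ℕ := 1461503031128807055631067903726780805968804446209

theorem ID_dig : ∀ w z : ZMod 3 × ZMod 3,
    dig 4 ID (idx w + 9 * idx z) = if w = z then 1 else 0 := by decide +kernel

theorem decM_ID : decM ω ID = 1 := by
  ext w z
  show decF ω (dig 4 ID (idx w + 9 * idx z)) = _
  rw [ID_dig w z, Matrix.one_apply]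
  split_ifs
  · exact decF_one ω
  · exact decF_zero ω

end Cfsg.Agent.Lib.Helper8.F4M
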