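import Cfsg.Agent.Lib.Helper8.F4b

set_option autoImplicit false
set_option linter.unusedVariables false
set_option linter.unusedSectionVars false

/-! The coded matrices of `F4a` as elements of the general linear group, their action on vectors
and on lines, and the facts that the chain certificates need about both actions. -/

namespace Cfsg.Agent.Lib.Helper8.F4M

open Cfsg.Agent.Lib.Helper8.MatN

/-- the index type -/
abbrev I9 : Type := ZMod 3 × ZMod 3

variable {F : Type*} [Field F] (ω : F)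

/-! ### the field -/

theorem omega_ne_zero (hω : ω ^ 2 + ω + 1 = 0) : ω ≠ 0 := by
  intro h
  rw [h] at hω
  norm_num at hω

theorem omega_ne_one (h2 : (2 : F) = 0) (hω : ω ^ 2 + ω + 1 = 0) : ω ≠ 1 := by
  intro h
  rw [h] at hω
  have : (1 : F) = 0 := by linear_combination hω - h2
  exact one_ne_zero this

theorem omega_cube (hω : ω ^ 2 + ω + 1 = 0) : ω ^ 3 = 1 := by
  linear_combination (ω - 1) * hω

theorem decF_eq_zero (h2 : (2 : F) = 0) (hω : ω ^ 2 + ω + 1 = 0) (c : ℕ) (hc : c < 4)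
    (h : decF ω c = 0) : c = 0 := by
  interval_cases c
  · rfl
  · rw [decF_one] at h
    exact absurd h one_ne_zero
  · rw [decF_two] at h
    exact absurd h (omega_ne_zero ω hω)
  · rw [decF_three] at h
    exfalso
    apply omega_ne_one ω h2 hω
    linear_combination h - h2

theorem decF_inj (h2 : (2 : F) = 0) (hω : ω ^ 2 + ω + 1 = 0) (a b : ℕ) (ha : a < 4) (hb : b < 4)
    (h : decF ω a = decF ω b) : a = b := by
  have hx : decF ω (a ^^^ b) = 0 := by
    rw [decF_xor ω h2, h]
    linear_combination decF ω b * h2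
  have hlt : a ^^^ b < 2 ^ 2 := Nat.xor_lt_two_pow (by norm_num; exact ha) (by norm_num; exact hb)
  exact Nat.xor_eq_zero_iff.mp (decF_eq_zero ω h2 hω _ (by norm_num at hlt; exact hlt) hx)

theorem two_eq_zero [Fintype F] (hF : Fintype.card F = 4) : (2 : F) = 0 := by
  have h := FiniteField.cast_card_eq_zero F
  rw [hF] at h
  have h4 : (2 : F) ^ 2 = 0 := by
    have : ((4 : ℕ) : F) = (2 : F) ^ 2 := by norm_num
    rw [← this]
    exact h
  exact pow_eq_zero_iff (by norm_num) |>.mp h4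

/-- every element of a field with four elements is coded by a digit -/
theorem exists_digit [Fintype F] (hF : Fintype.card F = 4) (hω : ω ^ 2 + ω + 1 = 0) (x : F) :
    ∃ d < 4, decF ω d = x := by
  have h2 := two_eq_zero hF
  have hb : Function.Bijective (fun d : Fin 4 => decF ω d.val) := by
    rw [Fintype.bijective_iff_injective_and_card]
    refine ⟨?_, by rw [hF]; rfl⟩
    intro a b h
    exact Fin.ext (decF_inj ω h2 hω a.val b.val a.2 b.2 h)
  obtain ⟨d, hd⟩ := hb.2 x
  exact ⟨d.val, d.2, hd⟩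

/-! ### the general linear group -/

/-- the element of the general linear group coded by `G` (`1` if the matrix is not invertible) -/
noncomputable def Q (G : ℕ) : Matrix.GeneralLinearGroup I9 F := by
  classical exact if h : IsUnit (decM ω G) then h.unit else 1

theorem Q_val {G : ℕ} (h : IsUnit (decM ω G)) :
    ((Q ω G : Matrix.GeneralLinearGroup I9 F) : Matrix I9 I9 F) = decM ω G := by
  unfold Q
  rw [dif_pos h]
  exact h.unit_spec

theorem isUnit_mulB (h2 : (2 : F) = 0) (hω : ω ^ 2 + ω + 1 = 0) {G H : ℕ}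
    (hG : IsUnit (decM ω G)) (hH : IsUnit (decM ω H)) : IsUnit (decM ω (mulB G H)) := by
  rw [decM_mulB ω h2 hω]
  exact hG.mul hH

theorem Q_mulB (h2 : (2 : F) = 0) (hω : ω ^ 2 + ω + 1 = 0) {G H : ℕ}
    (hG : IsUnit (decM ω G)) (hH : IsUnit (decM ω H)) : Q ω (mulB G H) = Q ω G * Q ω H := by
  apply Units.ext
  rw [Units.val_mul, Q_val ω (isUnit_mulB ω h2 hω hG hH), Q_val ω hG, Q_val ω hH,
    decM_mulB ω h2 hω]

theorem isUnit_ID : IsUnit (decM ω ID) := by
  rw [decM_ID]
  exact isUnit_one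

theorem Q_ID : Q ω ID = 1 := by
  apply Units.ext
  rw [Q_val ω (isUnit_ID ω), decM_ID]
  rfl

theorem eq_Q (g : Matrix.GeneralLinearGroup I9 F) (G : ℕ)
    (e : (g : Matrix I9 I9 F) = decM ω G) : IsUnit (decM ω G) ∧ g = Q ω G := by
  have hu : IsUnit (decM ω G) := by
    rw [← e]
    exact g.isUnit
  exact ⟨hu, Units.ext (by rw [Q_val ω hu, e])⟩

theorem isUnit_of_mulB (h2 : (2 : F) = 0) (hω : ω ^ 2 + ω + 1 = 0) {G G' : ℕ}
    (h : mulB G G' = ID) : IsUnit (decM ω G) := by
  have h1 : decM ω G * decM ω G' = 1 := by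
    rw [← decM_mulB ω h2 hω, h, decM_ID]
  have h3 : decM ω G' * decM ω G = 1 := mul_eq_one_comm.mp h1
  exact ⟨⟨decM ω G, decM ω G', h1, h3⟩, rfl⟩

/-! ### vectors -/

/-- the action on vectors -/
def actV (g : Matrix.GeneralLinearGroup I9 F) (v : I9 → F) : I9 → F :=
  (g : Matrix I9 I9 F).mulVec v

theorem actV_one (v : I9 → F) : actV 1 v = v := by
  unfold actV
  rw [Units.val_one, Matrix.one_mulVec]

theorem actV_mul (g h : Matrix.GeneralLinearGroup I9 F) (v : I9 → F) :
    actV (g * h) v = actV g (actV h v) := by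
  unfold actV
  rw [Units.val_mul, Matrix.mulVec_mulVec]

theorem actV_Q (h2 : (2 : F) = 0) (hω : ω ^ 2 + ω + 1 = 0) (g v : ℕ) (hg : IsUnit (decM ω g)) :
    actV (Q ω g) (decV ω v) = decV ω (mulB g v) := by
  unfold actV
  rw [Q_val ω hg, decV_mulB ω h2 hω]

theorem exists_idx (k : ℕ) (hk : k < 9) : ∃ w : I9, idx w = k :=
  ⟨idxE.symm ⟨k, hk⟩, congrArg Fin.val (idxE.apply_symm_apply ⟨k, hk⟩)⟩

theorem decV_inj (h2 : (2 : F) = 0) (hω : ω ^ 2 + ω + 1 = 0) (v v' : ℕ) (hv : v < 2 ^ 18)
    (hv' : v' < 2 ^ 18) (h : decV ω v = decV ω v') : v = v' := by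
  have h18 : (2 : ℕ) ^ 18 = 4 ^ 9 := by norm_num
  rw [h18] at hv hv'
  rw [← Nat.mod_eq_of_lt hv, ← Nat.mod_eq_of_lt hv', mod_pow_eq_sum, mod_pow_eq_sum]
  apply Finset.sum_congr rfl
  intro k hk
  obtain ⟨w, rfl⟩ := exists_idx k (Finset.mem_range.mp hk)
  congr 1
  exact decF_inj ω h2 hω _ _ (dig4_lt _ _) (dig4_lt _ _) (congrFun h w)

/-! ### lines -/

/-- the action on subspaces -/
def actL (g : Matrix.GeneralLinearGroup I9 F) (L : Submodule F (I9 → F)) : Submodule F (I9 → F) :=
  L.map (Matrix.mulVecLin (g : Matrix I9 I9 F))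

theorem actL_one (L : Submodule F (I9 → F)) : actL 1 L = L := by
  unfold actL
  rw [Units.val_one, Matrix.mulVecLin_one, Submodule.map_id]

theorem actL_mul (g h : Matrix.GeneralLinearGroup I9 F) (L : Submodule F (I9 → F)) :
    actL (g * h) L = actL g (actL h L) := by
  unfold actL
  rw [Units.val_mul, Matrix.mulVecLin_mul, Submodule.map_comp]

/-- the line through a coded vector -/
def ptL (v : ℕ) : Submodule F (I9 → F) := Submodule.span F {decV ω v}

theorem actL_span (g : Matrix.GeneralLinearGroup I9 F) (v : I9 → F) :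
    actL g (Submodule.span F {v}) = Submodule.span F {actV g v} := by
  unfold actL actV
  rw [Submodule.map_span, Set.image_singleton, Matrix.mulVecLin_apply]

/-- the smaller of two numbers -/
def minN (a b : ℕ) : ℕ := cond (Nat.ble a b) a b

theorem minN_eq (a b : ℕ) : minN a b = min a b := by
  unfold minN
  by_cases h : a ≤ b
  · rw [Nat.ble_eq_true_of_le h, min_eq_left h]
    rfl
  · have : Nat.ble a b = false := by
      rw [← Bool.not_eq_true, Nat.ble_eq]
      exact h
    rw [this, min_eq_right (le_of_not_ge h)]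
    rfl

/-- the least of the three multiples of a coded vector by nonzero scalars -/
def canon (v : ℕ) : ℕ :=
  withVal (smulW v) fun v1 => withVal (smulW v1) fun v2 => minN v (minN v1 v2)

theorem canon_eq (v : ℕ) : canon v = min v (min (smulW v) (smulW (smulW v))) := by
  unfold canon
  rw [withVal_eq, withVal_eq, minN_eq, minN_eq]

theorem smulW_lt (v : ℕ) (hv : v < 2 ^ 18) : smulW v < 2 ^ 18 := by
  apply Nat.lt_pow_two_of_testBit
  intro i hi
  have hb : ∀ k, 18 ≤ k → v.testBit k = false := by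
    intro k hk
    exact Nat.testBit_lt_two_pow (lt_of_lt_of_le hv (Nat.pow_le_pow_right (by norm_num) hk))
  rw [smulW_eq, Nat.testBit_or, Nat.testBit_and, Nat.testBit_shiftRight, Nat.testBit_shiftLeft,
    Nat.testBit_and, Nat.testBit_xor, Nat.testBit_shiftRight, hb (1 + i) (by omega)]
  have h1 : 1 + (i - 1) = i := by omega
  rw [h1, hb i hi]
  rcases Nat.eq_or_lt_of_le hi with e | hlt
  · subst e
    have : M81.testBit (18 - 1) = false := (M81_bits 8 (by norm_num)).2
    rw [this]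
    simp
  · rw [hb (i - 1) (by omega)]
    simp

theorem dig_eq_of_lt (a b : ℕ) (ha : a < 2 ^ 18) (hb : b < 2 ^ 18)
    (h : ∀ k < 9, dig 4 a k = dig 4 b k) : a = b := by
  have h18 : (2 : ℕ) ^ 18 = 4 ^ 9 := by norm_num
  rw [h18] at ha hb
  rw [← Nat.mod_eq_of_lt ha, ← Nat.mod_eq_of_lt hb, mod_pow_eq_sum, mod_pow_eq_sum]
  apply Finset.sum_congr rfl
  intro k hk
  rw [h k (Finset.mem_range.mp hk)]

theorem mw3 (d : ℕ) (hd : d < 4) : mw (mw (mw d)) = d := by
  interval_cases d <;> rfl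

theorem smulW3 (v : ℕ) (hv : v < 2 ^ 18) : smulW (smulW (smulW v)) = v := by
  have h1 := smulW_lt v hv
  have h2 := smulW_lt _ h1
  have h3 := smulW_lt _ h2
  apply dig_eq_of_lt _ _ h3 hv
  intro k hk
  rw [dig_smulW _ k (by omega), dig_smulW _ k (by omega), dig_smulW _ k (by omega),
    mw3 _ (dig4_lt _ _)]

theorem canon_smulW (v : ℕ) (hv : v < 2 ^ 18) : canon (smulW v) = canon v := by
  rw [canon_eq, canon_eq, smulW3 v hv]
  omega

theorem canon_lt (v : ℕ) (hv : v < 2 ^ 18) : canon v < 2 ^ 18 := by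
  rw [canon_eq]
  exact lt_of_le_of_lt (min_le_left _ _) hv

theorem ptL_smulW (h2 : (2 : F) = 0) (hω : ω ^ 2 + ω + 1 = 0) (v : ℕ) :
    ptL ω (smulW v) = ptL ω v := by
  unfold ptL
  rw [decV_smulW ω h2 hω]
  exact Submodule.span_singleton_smul_eq (Ne.isUnit (omega_ne_zero ω hω)) _

theorem ptL_canon (h2 : (2 : F) = 0) (hω : ω ^ 2 + ω + 1 = 0) (v : ℕ) :
    ptL ω (canon v) = ptL ω v := by
  rw [canon_eq]
  rcases min_choice v (min (smulW v) (smulW (smulW v))) with h | h
  · rw [h]
  · rw [h]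
    rcases min_choice (smulW v) (smulW (smulW v)) with h' | h'
    · rw [h', ptL_smulW ω h2 hω]
    · rw [h', ptL_smulW ω h2 hω, ptL_smulW ω h2 hω]

theorem actL_Q (h2 : (2 : F) = 0) (hω : ω ^ 2 + ω + 1 = 0) (g v : ℕ) (hg : IsUnit (decM ω g)) :
    actL (Q ω g) (ptL ω v) = ptL ω (canon (mulB g v)) := by
  rw [ptL_canon ω h2 hω]
  unfold ptL
  rw [actL_span, actV_Q ω h2 hω g v hg]

theorem ptL_inj [Fintype F] (hF : Fintype.card F = 4) (hω : ω ^ 2 + ω + 1 = 0) (v v' : ℕ)
    (hv : v < 2 ^ 18) (hv' : v' < 2 ^ 18) (hc : canon v = v) (hc' : canon v' = v')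
    (h : ptL ω v = ptL ω v') : v = v' := by
  have h2 := two_eq_zero hF
  unfold ptL at h
  rw [Submodule.span_singleton_eq_span_singleton] at h
  obtain ⟨z, hz⟩ := h
  obtain ⟨d, hd, hdz⟩ := exists_digit ω hF hω (z : F)
  have hz' : (z : F) • decV ω v = decV ω v' := hz
  rw [← hdz] at hz'
  interval_cases d
  · exfalso
    rw [decF_zero] at hdz
    exact z.ne_zero hdz.symm
  · rw [decF_one, one_smul] at hz'
    exact decV_inj ω h2 hω v v' hv hv' hz'
  · rw [decF_two, ← decV_smulW ω h2 hω] at hz'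
    have e := decV_inj ω h2 hω _ _ (smulW_lt v hv) hv' hz'
    rw [← hc, ← hc', ← e, canon_smulW v hv]
  · have e1 : decV ω (smulW (smulW v)) = decV ω v' := by
      rw [decV_smulW ω h2 hω, decV_smulW ω h2 hω, ← hz', decF_three, smul_smul]
      congr 1
      linear_combination hω - ω * h2 - h2
    have e := decV_inj ω h2 hω _ _ (smulW_lt _ (smulW_lt v hv)) hv' e1
    rw [← hc, ← hc', ← e, canon_smulW _ (smulW_lt v hv), canon_smulW v hv]

end Cfsg.Agent.Lib.Helper8.F4M
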