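import Mathlib

set_option autoImplicit false

/-! A decision procedure for bounded quantifiers over the natural numbers that the kernel
evaluates in linear time (the standard instance is quadratic). -/

namespace Cfsg.Agent.Lib.Helper8.FastDec

/-- `p` holds below `n`. -/
noncomputable def allLt (n : ℕ) (p : ℕ → Bool) : Bool :=
  Nat.rec (motive := fun _ => Bool) true (fun k ih => ih && p k) n

theorem allLt_zero (p : ℕ → Bool) : allLt 0 p = true := rfl

theorem allLt_succ (k : ℕ) (p : ℕ → Bool) : allLt (k + 1) p = (allLt k p && p k) := rfl

theorem allLt_iff (n : ℕ) (p : ℕ → Bool) : allLt n p = true ↔ ∀ x < n, p x = true := by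
  induction n with
  | zero => simp [allLt_zero]
  | succ k ih =>
    rw [allLt_succ, Bool.and_eq_true, ih]
    constructor
    · rintro ⟨h1, h2⟩ x hx
      rcases Nat.lt_succ_iff_lt_or_eq.mp hx with h | rfl
      · exact h1 x h
      · exact h2
    · intro h
      exact ⟨fun x hx => h x (Nat.lt_succ_of_lt hx), h k (Nat.lt_succ_self k)⟩

/-- the fast instance. -/
noncomputable instance (priority := 10000) fastBall (n : ℕ) (P : ℕ → Prop) [DecidablePred P] :
    Decidable (∀ x < n, P x) :=
  decidable_of_iff (allLt n (fun x => decide (P x)) = true)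
    ((allLt_iff n _).trans (by simp))

end Cfsg.Agent.Lib.Helper8.FastDec
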