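import Mathlib

set_option autoImplicit false
set_option linter.unusedVariables false
set_option linter.unusedSectionVars false

/-! One level of a stabiliser chain, for a finite group `Γ` acting (on the left, by a plain
function `act`) on a type `X`: from a transversal `u` and Schreier equations `s * u i = u j * h`
with `h` in a subgroup `H` fixing the base point, the group generated by `S` has order
`n * |H|` and `H` is the stabiliser of the base point. -/

namespace Cfsg.Agent.Lib.Helper8.GCh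

variable {Γ : Type*} [Group Γ] [Finite Γ] {X : Type*}

/-- the hypotheses for one level -/
structure Level (act : Γ → X → X) (S : Set Γ) (H : Subgroup Γ) (β : X) (n : ℕ) (u : ℕ → Γ) :
    Prop where
  act_mul : ∀ g h x, act (g * h) x = act g (act h x)
  hH : H ≤ Subgroup.closure S
  hfix : ∀ h ∈ H, act h β = β
  hu : ∀ i < n, u i ∈ Subgroup.closure S
  h0 : ∃ i0 < n, u i0 ∈ H
  hinj : ∀ i < n, ∀ j < n, act (u i) β = act (u j) β → i = j
  hsch : ∀ i < n, ∀ s ∈ S, ∃ j < n, ∃ h ∈ H, s * u i = u j * h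

variable {act : Γ → X → X} {S : Set Γ} {H : Subgroup Γ} {β : X} {n : ℕ} {u : ℕ → Γ}

theorem Level.rep_monoid (L : Level act S H β n u) (g : Γ) (hg : g ∈ Submonoid.closure S) :
    ∃ j < n, ∃ h ∈ H, g = u j * h := by
  induction hg using Submonoid.closure_induction_left with
  | one =>
    obtain ⟨i0, hi0, h0⟩ := L.h0
    exact ⟨i0, hi0, (u i0)⁻¹, H.inv_mem h0, by simp⟩
  | mul_left x hx y hy ih =>
    obtain ⟨i, hi, h, hh, rfl⟩ := ih
    obtain ⟨j, hj, h', hh', e⟩ := L.hsch i hi x hx
    exact ⟨j, hj, h' * h, H.mul_mem hh' hh, by rw [← mul_assoc, e, mul_assoc]⟩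

theorem Level.rep (L : Level act S H β n u) (g : Γ) (hg : g ∈ Subgroup.closure S) :
    ∃ j < n, ∃ h ∈ H, g = u j * h := by
  apply L.rep_monoid g
  rw [← Subgroup.closure_toSubmonoid_of_finite]
  exact hg

theorem Level.act_rep (L : Level act S H β n u) (j : ℕ) (h : Γ) (hh : h ∈ H) :
    act (u j * h) β = act (u j) β := by
  rw [L.act_mul, L.hfix h hh]

theorem Level.stab (L : Level act S H β n u) (g : Γ) (hg : g ∈ Subgroup.closure S)
    (hfix : act g β = β) : g ∈ H := by
  obtain ⟨j, hj, h, hh, rfl⟩ := L.rep g hg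
  obtain ⟨i0, hi0, h0⟩ := L.h0
  rw [L.act_rep j h hh] at hfix
  have e : j = i0 := L.hinj j hj i0 hi0 (hfix.trans (L.hfix _ h0).symm)
  rw [e]
  exact H.mul_mem h0 hh

theorem Level.card (L : Level act S H β n u) :
    Nat.card (Subgroup.closure S) = n * Nat.card H := by
  let φ : Fin n × H → Subgroup.closure S := fun p =>
    ⟨u p.1.1 * p.2.1, (Subgroup.closure S).mul_mem (L.hu p.1.1 p.1.2) (L.hH p.2.2)⟩
  have hinj : Function.Injective φ := by
    rintro ⟨⟨j, hj⟩, ⟨h, hh⟩⟩ ⟨⟨j', hj'⟩, ⟨h', hh'⟩⟩ e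
    have e' : u j * h = u j' * h' := congrArg Subtype.val e
    have e2 : act (u j) β = act (u j') β := by
      rw [← L.act_rep j h hh, ← L.act_rep j' h' hh', e']
    have ej : j = j' := L.hinj j hj j' hj' e2
    subst ej
    have eh : h = h' := mul_left_cancel e'
    subst eh
    rfl
  have hsurj : Function.Surjective φ := by
    rintro ⟨g, hg⟩
    obtain ⟨j, hj, h, hh, rfl⟩ := L.rep g hg
    exact ⟨(⟨j, hj⟩, ⟨h, hh⟩), rfl⟩
  rw [← Nat.card_congr (Equiv.ofBijective φ ⟨hinj, hsurj⟩), Nat.card_prod, Nat.card_fin]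

/-- membership: an element of the group moves the base point into the orbit -/
theorem Level.orbit (L : Level act S H β n u) (g : Γ) (hg : g ∈ Subgroup.closure S) :
    ∃ j < n, act g β = act (u j) β := by
  obtain ⟨j, hj, h, hh, rfl⟩ := L.rep g hg
  exact ⟨j, hj, L.act_rep j h hh⟩

end Cfsg.Agent.Lib.Helper8.GCh
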