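import Cfsg.Agent.Lib.Helper8.F4c
import Cfsg.Agent.Lib.Helper8.GCh
import Cfsg.Agent.Lib.Helper8.FastDec

set_option autoImplicit false
set_option linter.unusedVariables false
set_option linter.unusedSectionVars false

/-! Certificates (boolean, evaluated by the kernel) for one level of a stabiliser chain of a group
of coded 9 × 9 matrices over the field with four elements, and their soundness. -/

namespace Cfsg.Agent.Lib.Helper8.F4M

open Cfsg.Agent.Lib.Helper8.MatN Cfsg.Agent.Lib.Helper8.FastDec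

/-- the data of one level; the big tables are lists of chunks, each chunk packing 1024 fields -/
structure LData where
  /-- length of the orbit -/
  n : ℕ
  /-- number of generators -/
  ng : ℕ
  /-- the generators (packed, 162 bits each) -/
  GN : ℕ
  /-- their inverses (packed) -/
  GI : ℕ
  /-- the transversal (162 bits each) -/
  T : List ℕ
  /-- the points of the orbit, increasing (18 bits each) -/
  PT : List ℕ
  /-- tree records (32 bits: parent 15, generator 4, depth 13) -/
  TR : List ℕ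
  /-- Schreier records (32 bits: index 15, element of the next group 17), at `i * ng + gi` -/
  SR : List ℕ
  /-- number of elements of the next group -/
  mH : ℕ
  /-- the elements of the next group (162 bits each) -/
  HT : List ℕ
  /-- the base point -/
  b0 : ℕ
  /-- the place of the base point -/
  i0 : ℕ
  /-- records for the generators of the next group (40 bits: index 15, generator 4, index 15) -/
  LW : ℕ

def M162 : ℕ := 5846006549323611672814739330865132078623730171903
def M32 : ℕ := 4294967295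
def M40 : ℕ := 1099511627775

/-- field `i` of width `w` (mask `msk`) of `T` -/
def fld (w msk T i : ℕ) : ℕ := Nat.land (Nat.shiftRight T (Nat.mul w i)) msk

/-- field `i` of a chunked table -/
noncomputable def fldC (w msk : ℕ) (TL : List ℕ) (i : ℕ) : ℕ :=
  fld w msk (nthR TL (Nat.div i 1024) 0) (Nat.mod i 1024)

namespace LData

noncomputable def getT (D : LData) (i : ℕ) : ℕ := fldC 162 M162 D.T i
noncomputable def getH (D : LData) (m : ℕ) : ℕ := fldC 162 M162 D.HT m
def getG (D : LData) (gi : ℕ) : ℕ := fld 162 M162 D.GN gi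
def getGI (D : LData) (gi : ℕ) : ℕ := fld 162 M162 D.GI gi
noncomputable def getP (D : LData) (i : ℕ) : ℕ := fldC 18 262143 D.PT i
noncomputable def recT (D : LData) (j : ℕ) : ℕ := fldC 32 M32 D.TR j
noncomputable def recS (D : LData) (i gi : ℕ) : ℕ := fldC 32 M32 D.SR (Nat.add (Nat.mul i D.ng) gi)

end LData

/-! ### the checks -/

/-- the base point has the identity as its transversal element -/
noncomputable def chk0 (D : LData) : Bool :=
  Nat.blt D.i0 D.n && Nat.beq (D.getT D.i0) ID

/-- the generators have the stated inverses -/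
noncomputable def chkInv (D : LData) : Bool :=
  allLt D.ng fun gi => Nat.beq (mulB (D.getG gi) (D.getGI gi)) ID

/-- the transversal is built along a tree -/
noncomputable def chkTree (D : LData) : Bool :=
  allLt D.n fun j =>
    withVal (D.recT j) fun r =>
      cond (Nat.beq (Nat.shiftRight r 19) 0)
        (Nat.beq (D.getT j) ID)
        (withVal (Nat.land r 32767) fun par =>
          withVal (Nat.land (Nat.shiftRight r 15) 15) fun gi =>
            Nat.blt par D.n && (Nat.blt gi D.ng &&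
              (Nat.beq (Nat.succ (Nat.shiftRight (D.recT par) 19)) (Nat.shiftRight r 19) &&
                Nat.beq (D.getT j) (mulB (D.getG gi) (D.getT par)))))

/-- the transversal elements move the base point to the stated points, which increase -/
noncomputable def chkPts (D : LData) (nm : ℕ → ℕ) : Bool :=
  allLt D.n fun i =>
    withVal (D.getP i) fun p =>
      Nat.beq (nm (mulB (D.getT i) D.b0)) p && (Nat.beq (nm p) p &&
        cond (Nat.beq i 0) true (Nat.blt (D.getP (Nat.pred i)) p))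

/-- the Schreier equations -/
noncomputable def chkSch (D : LData) : Bool :=
  allLt D.n fun i =>
    withVal (D.getT i) fun ti =>
      allLt D.ng fun gi =>
        withVal (D.recS i gi) fun r =>
          withVal (Nat.land r 32767) fun j =>
            withVal (Nat.shiftRight r 15) fun m =>
              Nat.blt j D.n && (Nat.blt m D.mH &&
                Nat.beq (mulB (D.getG gi) ti) (mulB (D.getT j) (D.getH m)))

/-- the table of the next group lists the products of its transversal and its own table -/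
noncomputable def chkHT (D D' : LData) : Bool :=
  Nat.beq D.mH (Nat.mul D'.n D'.mH) && allLt D.mH fun m =>
    Nat.beq (D.getH m) (mulB (D'.getT (Nat.div m D'.mH)) (D'.getH (Nat.mod m D'.mH)))

/-- the generators of the next group are Schreier generators of this one -/
noncomputable def chkLow (D D' : LData) : Bool :=
  allLt D'.ng fun g' =>
    withVal (fld 40 M40 D.LW g') fun r =>
      withVal (Nat.land r 32767) fun i =>
        withVal (Nat.land (Nat.shiftRight r 15) 15) fun gi =>
          withVal (Nat.shiftRight r 19) fun j =>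
            Nat.blt i D.n && (Nat.blt gi D.ng && (Nat.blt j D.n &&
              Nat.beq (mulB (D.getT j) (D'.getG g')) (mulB (D.getG gi) (D.getT i))))

/-- the generators of the next group fix the base point -/
noncomputable def chkFix (D D' : LData) (nm : ℕ → ℕ) : Bool :=
  allLt D'.ng fun g' => Nat.beq (nm (mulB (D'.getG g') D.b0)) D.b0

theorem blt_iff (a b : ℕ) : Nat.blt a b = true ↔ a < b := by
  simp [Nat.blt]

theorem beq_iff (a b : ℕ) : Nat.beq a b = true ↔ a = b :=
  ⟨Nat.eq_of_beq_eq_true, fun h => by rw [h]; exact Nat.beq_refl b⟩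

/-! ### what the checks say -/

theorem chk0_spec (D : LData) (h : chk0 D = true) : D.i0 < D.n ∧ D.getT D.i0 = ID := by
  unfold chk0 at h
  rw [Bool.and_eq_true, blt_iff, beq_iff] at h
  exact h

theorem chkInv_spec (D : LData) (h : chkInv D = true) (gi : ℕ) (hgi : gi < D.ng) :
    mulB (D.getG gi) (D.getGI gi) = ID := by
  unfold chkInv at h
  rw [allLt_iff] at h
  exact (beq_iff _ _).mp (h gi hgi)

theorem chkTree_spec (D : LData) (h : chkTree D = true) (j : ℕ) (hj : j < D.n) :
    D.getT j = ID ∨ ∃ par gi, par < D.n ∧ gi < D.ng ∧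
      (D.recT par >>> 19) + 1 = D.recT j >>> 19 ∧ D.getT j = mulB (D.getG gi) (D.getT par) := by
  unfold chkTree at h
  rw [allLt_iff] at h
  have h1 := h j hj
  simp only [withVal_eq] at h1
  cases hb : Nat.beq (Nat.shiftRight (D.recT j) 19) 0
  · rw [hb] at h1
    simp only [cond_false, Bool.and_eq_true, blt_iff, beq_iff] at h1
    obtain ⟨h2, h3, h4, h5⟩ := h1
    exact Or.inr ⟨_, _, h2, h3, h4, h5⟩
  · rw [hb] at h1
    simp only [cond_true, beq_iff] at h1
    exact Or.inl h1

theorem chkPts_spec (D : LData) (nm : ℕ → ℕ) (h : chkPts D nm = true) (i : ℕ) (hi : i < D.n) :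
    nm (mulB (D.getT i) D.b0) = D.getP i ∧ nm (D.getP i) = D.getP i ∧
      (i ≠ 0 → D.getP (i - 1) < D.getP i) := by
  unfold chkPts at h
  rw [allLt_iff] at h
  have h1 := h i hi
  simp only [withVal_eq, Bool.and_eq_true, beq_iff] at h1
  obtain ⟨h2, h3, h4⟩ := h1
  refine ⟨h2, h3, fun hne => ?_⟩
  have hb : Nat.beq i 0 = false := by
    rw [← Bool.not_eq_true, beq_iff]
    exact hne
  rw [hb] at h4
  simp only [cond_false, blt_iff] at h4
  exact h4

theorem getP_mono (D : LData) (nm : ℕ → ℕ) (h : chkPts D nm = true) :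
    ∀ i', i' < D.n → ∀ i < i', D.getP i < D.getP i' := by
  intro i'
  induction i' with
  | zero => intro _ i hi; exact absurd hi (Nat.not_lt_zero _)
  | succ k ih =>
    intro hk i hi
    have h1 := (chkPts_spec D nm h (k + 1) hk).2.2 (Nat.succ_ne_zero k)
    rw [Nat.add_sub_cancel] at h1
    rcases Nat.lt_succ_iff_lt_or_eq.mp hi with h2 | rfl
    · exact lt_trans (ih (Nat.lt_of_succ_lt hk) i h2) h1
    · exact h1

theorem getP_inj (D : LData) (nm : ℕ → ℕ) (h : chkPts D nm = true) (i j : ℕ) (hi : i < D.n)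
    (hj : j < D.n) (e : D.getP i = D.getP j) : i = j := by
  rcases Nat.lt_trichotomy i j with h1 | h1 | h1
  · exact absurd e (ne_of_lt (getP_mono D nm h j hj i h1))
  · exact h1
  · exact absurd e.symm (ne_of_lt (getP_mono D nm h i hi j h1))

theorem chkSch_spec (D : LData) (h : chkSch D = true) (i : ℕ) (hi : i < D.n) (gi : ℕ)
    (hgi : gi < D.ng) : ∃ j m, j < D.n ∧ m < D.mH ∧
      mulB (D.getG gi) (D.getT i) = mulB (D.getT j) (D.getH m) := by
  unfold chkSch at h
  rw [allLt_iff] at h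
  have h1 := h i hi
  simp only [withVal_eq] at h1
  rw [allLt_iff] at h1
  have h2 := h1 gi hgi
  simp only [Bool.and_eq_true, blt_iff, beq_iff] at h2
  exact ⟨_, _, h2.1, h2.2.1, h2.2.2⟩

theorem chkHT_spec (D D' : LData) (h : chkHT D D' = true) :
    D.mH = D'.n * D'.mH ∧ ∀ m < D.mH,
      D.getH m = mulB (D'.getT (m / D'.mH)) (D'.getH (m % D'.mH)) := by
  unfold chkHT at h
  rw [Bool.and_eq_true, beq_iff, allLt_iff] at h
  exact ⟨h.1, fun m hm => (beq_iff _ _).mp (h.2 m hm)⟩

theorem chkLow_spec (D D' : LData) (h : chkLow D D' = true) (g' : ℕ) (hg' : g' < D'.ng) :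
    ∃ i gi j, i < D.n ∧ gi < D.ng ∧ j < D.n ∧
      mulB (D.getT j) (D'.getG g') = mulB (D.getG gi) (D.getT i) := by
  unfold chkLow at h
  rw [allLt_iff] at h
  have h1 := h g' hg'
  simp only [withVal_eq, Bool.and_eq_true, blt_iff, beq_iff] at h1
  exact ⟨_, _, _, h1.1, h1.2.1, h1.2.2.1, h1.2.2.2⟩

theorem chkFix_spec (D D' : LData) (nm : ℕ → ℕ) (h : chkFix D D' nm = true) (g' : ℕ)
    (hg' : g' < D'.ng) : nm (mulB (D'.getG g') D.b0) = D.b0 := by
  unfold chkFix at h
  rw [allLt_iff] at h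
  exact (beq_iff _ _).mp (h g' hg')

theorem getP_lt (D : LData) (i : ℕ) : D.getP i < 2 ^ 18 := by
  show (_ >>> _) &&& 262143 < 2 ^ 18
  exact lt_of_le_of_lt Nat.and_le_right (by norm_num)

/-! ### soundness -/

variable {F : Type*} [Field F] [Fintype F] (ω : F)

/-- the generators of a level -/
def LData.S (D : LData) : Set (Matrix.GeneralLinearGroup I9 F) :=
  {g | ∃ gi < D.ng, g = Q ω (D.getG gi)}

/-- the group of a level -/
def LData.grp (D : LData) : Subgroup (Matrix.GeneralLinearGroup I9 F) :=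
  Subgroup.closure (D.S ω)

/-- the tables of a level consist of invertible matrices, in the group of the level -/
structure Tab (D : LData) : Prop where
  tabG : ∀ gi < D.ng, IsUnit (decM ω (D.getG gi))
  tabT : ∀ j < D.n, IsUnit (decM ω (D.getT j)) ∧ Q ω (D.getT j) ∈ D.grp ω
  tabH : ∀ m < D.mH, IsUnit (decM ω (D.getH m)) ∧ Q ω (D.getH m) ∈ D.grp ω

theorem gens_unit (h2 : (2 : F) = 0) (hω : ω ^ 2 + ω + 1 = 0) (D : LData)
    (h : chkInv D = true) : ∀ gi < D.ng, IsUnit (decM ω (D.getG gi)) :=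
  fun gi hgi => isUnit_of_mulB ω h2 hω (chkInv_spec D h gi hgi)

theorem tree_sound (h2 : (2 : F) = 0) (hω : ω ^ 2 + ω + 1 = 0) (D : LData)
    (hg : ∀ gi < D.ng, IsUnit (decM ω (D.getG gi))) (h : chkTree D = true) :
    ∀ j < D.n, IsUnit (decM ω (D.getT j)) ∧ Q ω (D.getT j) ∈ D.grp ω := by
  have key : ∀ d j, j < D.n → D.recT j >>> 19 = d →
      IsUnit (decM ω (D.getT j)) ∧ Q ω (D.getT j) ∈ D.grp ω := by
    intro d
    induction d using Nat.strong_induction_on with
    | _ d ih =>
      intro j hj hd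
      rcases chkTree_spec D h j hj with e | ⟨par, gi, hpar, hgi, hdep, e⟩
      · rw [e]
        exact ⟨isUnit_ID ω, by rw [Q_ID]; exact one_mem _⟩
      · obtain ⟨u1, m1⟩ := ih (D.recT par >>> 19) (by omega) par hpar rfl
        rw [e]
        refine ⟨isUnit_mulB ω h2 hω (hg gi hgi) u1, ?_⟩
        rw [Q_mulB ω h2 hω (hg gi hgi) u1]
        exact mul_mem (Subgroup.subset_closure ⟨gi, hgi, rfl⟩) m1
  intro j hj
  exact key _ j hj rfl

/-- the certificate of a level gives the hypotheses of `GCh.Level` -/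
theorem level_of_chk (h2 : (2 : F) = 0) (hω : ω ^ 2 + ω + 1 = 0) {X : Type*} (D : LData)
    (nm : ℕ → ℕ) (act : Matrix.GeneralLinearGroup I9 F → X → X) (pt : ℕ → X)
    (act_mul : ∀ g h x, act (g * h) x = act g (act h x))
    (P1 : ∀ g v, IsUnit (decM ω g) → act (Q ω g) (pt v) = pt (nm (mulB g v)))
    (P2 : ∀ v v', v < 2 ^ 18 → v' < 2 ^ 18 → nm v = v → nm v' = v' → pt v = pt v' → v = v')
    (hg : ∀ gi < D.ng, IsUnit (decM ω (D.getG gi)))
    (H : Subgroup (Matrix.GeneralLinearGroup I9 F))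
    (hHT : ∀ m < D.mH, IsUnit (decM ω (D.getH m)) ∧ Q ω (D.getH m) ∈ H)
    (hH : H ≤ D.grp ω) (hfix : ∀ h ∈ H, act h (pt D.b0) = pt D.b0)
    (c0 : chk0 D = true) (c1 : chkTree D = true) (c2 : chkPts D nm = true)
    (c3 : chkSch D = true) :
    GCh.Level act (D.S ω) H (pt D.b0) D.n (fun i => Q ω (D.getT i)) := by
  have hT := tree_sound ω h2 hω D hg c1
  have hpt : ∀ i < D.n, act (Q ω (D.getT i)) (pt D.b0) = pt (D.getP i) := by
    intro i hi
    rw [P1 _ _ (hT i hi).1, (chkPts_spec D nm c2 i hi).1]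
  refine ⟨act_mul, hH, hfix, fun i hi => (hT i hi).2, ?_, ?_, ?_⟩
  · obtain ⟨h1, h3⟩ := chk0_spec D c0
    refine ⟨D.i0, h1, ?_⟩
    show Q ω (D.getT D.i0) ∈ H
    rw [h3, Q_ID]
    exact one_mem _
  · intro i hi j hj e
    rw [hpt i hi, hpt j hj] at e
    exact getP_inj D nm c2 i j hi hj
      (P2 _ _ (getP_lt D i) (getP_lt D j) (chkPts_spec D nm c2 i hi).2.1
        (chkPts_spec D nm c2 j hj).2.1 e)
  · rintro i hi s ⟨gi, hgi, rfl⟩
    obtain ⟨j, m, hj, hm, e⟩ := chkSch_spec D c3 i hi gi hgi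
    refine ⟨j, hj, Q ω (D.getH m), (hHT m hm).2, ?_⟩
    show Q ω (D.getG gi) * Q ω (D.getT i) = Q ω (D.getT j) * Q ω (D.getH m)
    rw [← Q_mulB ω h2 hω (hg gi hgi) (hT i hi).1, ← Q_mulB ω h2 hω (hT j hj).1 (hHT m hm).1, e]

/-- the lowest level: the next group is trivial -/
theorem level_bot (h2 : (2 : F) = 0) (hω : ω ^ 2 + ω + 1 = 0) {X : Type*} (D : LData)
    (nm : ℕ → ℕ) (act : Matrix.GeneralLinearGroup I9 F → X → X) (pt : ℕ → X)
    (act_one : ∀ x, act 1 x = x)
    (act_mul : ∀ g h x, act (g * h) x = act g (act h x))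
    (P1 : ∀ g v, IsUnit (decM ω g) → act (Q ω g) (pt v) = pt (nm (mulB g v)))
    (P2 : ∀ v v', v < 2 ^ 18 → v' < 2 ^ 18 → nm v = v → nm v' = v' → pt v = pt v' → v = v')
    (hmH : D.mH = 1) (hH0 : D.getH 0 = ID)
    (ci : chkInv D = true) (c0 : chk0 D = true) (c1 : chkTree D = true)
    (c2 : chkPts D nm = true) (c3 : chkSch D = true) :
    GCh.Level act (D.S ω) ⊥ (pt D.b0) D.n (fun i => Q ω (D.getT i)) ∧ Tab ω D := by
  have hg := gens_unit ω h2 hω D ci
  have hHT : ∀ m < D.mH, IsUnit (decM ω (D.getH m)) ∧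
      Q ω (D.getH m) ∈ (⊥ : Subgroup (Matrix.GeneralLinearGroup I9 F)) := by
    intro m hm
    have : m = 0 := by omega
    subst this
    rw [hH0, Q_ID]
    exact ⟨isUnit_ID ω, Subgroup.mem_bot.mpr rfl⟩
  refine ⟨level_of_chk ω h2 hω D nm act pt act_mul P1 P2 hg ⊥ hHT bot_le ?_ c0 c1 c2 c3,
    hg, tree_sound ω h2 hω D hg c1, fun m hm => ⟨(hHT m hm).1, ?_⟩⟩
  · intro h hh
    rw [Subgroup.mem_bot.mp hh, act_one]
  · rw [Subgroup.mem_bot.mp (hHT m hm).2]
    exact one_mem _

/-- a level above another one -/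
theorem level_step (h2 : (2 : F) = 0) (hω : ω ^ 2 + ω + 1 = 0) {X : Type*} (D D' : LData)
    (nm : ℕ → ℕ) (act : Matrix.GeneralLinearGroup I9 F → X → X) (pt : ℕ → X)
    (act_one : ∀ x, act 1 x = x)
    (act_mul : ∀ g h x, act (g * h) x = act g (act h x))
    (P1 : ∀ g v, IsUnit (decM ω g) → act (Q ω g) (pt v) = pt (nm (mulB g v)))
    (P2 : ∀ v v', v < 2 ^ 18 → v' < 2 ^ 18 → nm v = v → nm v' = v' → pt v = pt v' → v = v')
    (hD' : Tab ω D')
    (ci : chkInv D = true) (c0 : chk0 D = true) (c1 : chkTree D = true)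
    (c2 : chkPts D nm = true) (c3 : chkSch D = true) (c4 : chkHT D D' = true)
    (c5 : chkLow D D' = true) (c6 : chkFix D D' nm = true) :
    GCh.Level act (D.S ω) (D'.grp ω) (pt D.b0) D.n (fun i => Q ω (D.getT i)) ∧ Tab ω D := by
  have hg := gens_unit ω h2 hω D ci
  have hT := tree_sound ω h2 hω D hg c1
  obtain ⟨hm, hHe⟩ := chkHT_spec D D' c4
  have hD'n : 0 < D'.mH → ∀ m < D.mH, m / D'.mH < D'.n ∧ m % D'.mH < D'.mH := by
    intro hpos m hm'
    rw [hm] at hm'
    exact ⟨Nat.div_lt_of_lt_mul (by rw [Nat.mul_comm]; exact hm'), Nat.mod_lt _ hpos⟩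
  have hHT : ∀ m < D.mH, IsUnit (decM ω (D.getH m)) ∧ Q ω (D.getH m) ∈ D'.grp ω := by
    intro m hm'
    have hpos : 0 < D'.mH := by
      rcases Nat.eq_zero_or_pos D'.mH with h0 | h0
      · rw [hm, h0, Nat.mul_zero] at hm'
        exact absurd hm' (Nat.not_lt_zero _)
      · exact h0
    obtain ⟨h3, h4⟩ := hD'n hpos m hm'
    obtain ⟨u1, m1⟩ := hD'.tabT _ h3
    obtain ⟨u2, m2⟩ := hD'.tabH _ h4
    rw [hHe m hm']
    exact ⟨isUnit_mulB ω h2 hω u1 u2, by rw [Q_mulB ω h2 hω u1 u2]; exact mul_mem m1 m2⟩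
  have hH : D'.grp ω ≤ D.grp ω := by
    apply (Subgroup.closure_le _).mpr
    rintro s ⟨g', hg', rfl⟩
    obtain ⟨i, gi, j, hi, hgi, hj, e⟩ := chkLow_spec D D' c5 g' hg'
    have u' := hD'.tabG g' hg'
    have e1 : Q ω (D.getT j) * Q ω (D'.getG g') = Q ω (D.getG gi) * Q ω (D.getT i) := by
      rw [← Q_mulB ω h2 hω (hT j hj).1 u', ← Q_mulB ω h2 hω (hg gi hgi) (hT i hi).1, e]
    have e2 : Q ω (D'.getG g') = (Q ω (D.getT j))⁻¹ * (Q ω (D.getG gi) * Q ω (D.getT i)) := by
      rw [← e1, inv_mul_cancel_left]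
    show Q ω (D'.getG g') ∈ D.grp ω
    rw [e2]
    exact mul_mem (inv_mem (hT j hj).2)
      (mul_mem (Subgroup.subset_closure ⟨gi, hgi, rfl⟩) (hT i hi).2)
  have hfix : ∀ h ∈ D'.grp ω, act h (pt D.b0) = pt D.b0 := by
    intro h hh
    induction hh using Subgroup.closure_induction with
    | mem s hs =>
      obtain ⟨g', hg', rfl⟩ := hs
      rw [P1 _ _ (hD'.tabG g' hg'), chkFix_spec D D' nm c6 g' hg']
    | one => exact act_one _
    | mul a b _ _ ha hb => rw [act_mul, hb, ha]
    | inv a _ ha =>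
      have : act a⁻¹ (act a (pt D.b0)) = pt D.b0 := by
        rw [← act_mul, inv_mul_cancel, act_one]
      rw [ha] at this
      exact this
  exact ⟨level_of_chk ω h2 hω D nm act pt act_mul P1 P2 hg (D'.grp ω) hHT hH hfix c0 c1 c2 c3,
    hg, hT, fun m hm' => ⟨(hHT m hm').1, hH (hHT m hm').2⟩⟩

end Cfsg.Agent.Lib.Helper8.F4M
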