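import Cfsg.Agent.Lib.Helper8.FP4c

/-! A finite solvable group with a fixed-point-free automorphism `σ`, `σ ^ 4 = 1`, has nilpotent
derived subgroup. -/

set_option autoImplicit false
set_option linter.style.haveILetI false
set_option maxHeartbeats 1000000

universe u

namespace Cfsg.Agent.Lib.Helper8.FP4

open scoped IsMulCommutative
open Cfsg.Agent.Lib.Helper8.HT

theorem fpf4_step {G : Type u} [Group G] [Finite G] (hG : Group.IsSolvable G) (σ : MulAut G)
    (h4 : σ ^ 4 = 1) (hfpf : Fpf σ)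
    (IH : ∀ (N : Subgroup G) [N.Normal], Inv σ N → N ≠ ⊥ →
      Group.IsNilpotent ↥(commutator (G ⧸ N))) :
    Group.IsNilpotent ↥(commutator G) := by
  classical
  by_contra hcon
  -- `G` is nontrivial
  have htop : (⊤ : Subgroup G) ≠ ⊥ := by
    intro h
    apply hcon
    haveI : Subsingleton (Subgroup G) := subsingleton_of_bot_eq_top h.symm
    haveI : Subsingleton G := Subgroup.subsingleton_iff.mp this
    infer_instance
  have hE : ∀ (N₁ N₂ : Subgroup G) [N₁.Normal] [N₂.Normal], Inv σ N₁ → Inv σ N₂ → N₁ ≠ ⊥ →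
      N₂ ≠ ⊥ → N₁ ⊓ N₂ = ⊥ → False := by
    intro N₁ N₂ _ _ h1 h2 h1' h2' h
    exact hcon (nilpotent_comm_of_inf_eq_bot N₁ N₂ h (IH N₁ h1 h1') (IH N₂ h2 h2'))
  -- a minimal invariant normal subgroup `V`
  obtain ⟨V, hVn, hVi, hVne, -, hVmin⟩ :=
    exists_min_inv_normal σ ⊤ inferInstance (fun x _ => Subgroup.mem_top _) htop
  haveI := hVn
  haveI hVc : IsMulCommutative ↥V := min_inv_normal_comm hG σ V hVi hVne hVmin
  obtain ⟨p, hp, hVexp⟩ := min_inv_normal_exp σ V hVi hVne hVmin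
  haveI : Fact p.Prime := ⟨hp⟩
  have hVcomm : ∀ a ∈ V, ∀ b ∈ V, a * b = b * a := by
    intro a ha b hb
    exact congrArg Subtype.val (mul_comm (⟨a, ha⟩ : ↥V) ⟨b, hb⟩)
  have hVp : IsPGroup p ↥V := by
    intro v
    refine ⟨1, ?_⟩
    rw [pow_one]
    exact Subtype.ext (by rw [Subgroup.coe_pow, hVexp v v.2]; rfl)
  have hKnil := IH V hVi hVne
  have hodd : Odd (Nat.card G) := hfpf.odd_card h4
  -- the case where `(G/V)'` is a `p`-group
  by_cases hq : ∃ q : ℕ, q.Prime ∧ q ≠ p ∧ q ∣ Nat.card ↥(commutator (G ⧸ V))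
  swap
  · push Not at hq
    apply hcon
    have hcard := Nat.eq_prime_pow_of_unique_prime_dvd
      (n := Nat.card ↥(commutator (G ⧸ V))) (p := p) Nat.card_pos.ne'
      (fun {d} hd hdvd => by
        by_contra hne
        exact hq d hd hne hdvd)
    have hKp : IsPGroup p ↥(commutator (G ⧸ V)) := IsPGroup.of_card hcard
    have hGp : IsPGroup p ↥(commutator G) := by
      intro g
      have hmem : (QuotientGroup.mk' V) (g : G) ∈ commutator (G ⧸ V) := by
        rw [← map_commutator_mk V]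
        exact Subgroup.mem_map_of_mem _ g.2
      obtain ⟨k, hk⟩ := hKp ⟨_, hmem⟩
      have hk' : (QuotientGroup.mk' V) ((g : G) ^ p ^ k) = 1 := by
        have := congrArg Subtype.val hk
        rw [map_pow]
        simpa using this
      rw [QuotientGroup.mk'_apply, QuotientGroup.eq_one_iff] at hk'
      refine ⟨k + 1, ?_⟩
      apply Subtype.ext
      rw [Subgroup.coe_pow, pow_succ, pow_mul, hVexp _ hk']
      rfl
    exact hGp.isNilpotent
  obtain ⟨q, hqp, hqne, hqdvd⟩ := hq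
  haveI : Fact q.Prime := ⟨hqp⟩
  have hq2 : q ≠ 2 := by
    rintro rfl
    have h1 : 2 ∣ Nat.card (G ⧸ V) := dvd_trans hqdvd (Subgroup.card_subgroup_dvd_card _)
    have h2 : 2 ∣ Nat.card G := by
      rw [Subgroup.card_eq_card_quotient_mul_card_subgroup V]
      exact dvd_mul_of_dvd_left h1 _
    exact (Nat.not_even_iff_odd.mpr hodd) (even_iff_two_dvd.mpr h2)
  have hcopqp : Nat.Coprime q p := (Nat.coprime_primes hqp hp).mpr hqne
  -- the `q`-part of `(G/V)'`
  obtain ⟨T, hTne, hTK, hTq, hTmem⟩ := exists_qpart (commutator (G ⧸ V)) hKnil q hqdvd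
  set σ' : MulAut (G ⧸ V) := quotAut σ V hVi with hσ'
  have hσ'4 : σ' ^ 4 = 1 := quotAut_pow_eq_one σ V hVi 4 h4
  have hσ'fpf : Fpf σ' := hfpf.quot V hVi
  have hTn : T.Normal := by
    refine ⟨fun x hx g => ?_⟩
    rw [hTmem] at hx ⊢
    obtain ⟨hxK, k, hk⟩ := hx
    refine ⟨Subgroup.Normal.conj_mem inferInstance x hxK g, k, ?_⟩
    rw [conj_pow, hk, mul_one, mul_inv_cancel]
  have hTi : Inv σ' T := by
    intro x hx
    rw [hTmem] at hx ⊢
    obtain ⟨hxK, k, hk⟩ := hx
    refine ⟨?_, k, by rw [← map_pow, hk, map_one]⟩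
    have hchar : (commutator (G ⧸ V)).Characteristic := inferInstance
    have := Subgroup.characteristic_iff_map_le.mp hchar σ'
    exact this (Subgroup.mem_map_of_mem _ hxK)
  obtain ⟨Lb, hLbn, hLbi, hLbne, hLbT, hLbmin⟩ := exists_min_inv_normal σ' T hTn hTi hTne
  haveI := hLbn
  haveI hLbc : IsMulCommutative ↥Lb :=
    min_inv_normal_comm (Group.isSolvable_of_surjective (QuotientGroup.mk'_surjective V))
      σ' Lb hLbi hLbne hLbmin
  have hLbq : IsPGroup q ↥Lb := hTq.to_le hLbT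
  -- the preimage `L`
  set L : Subgroup G := Lb.comap (QuotientGroup.mk' V) with hL
  haveI hLn : L.Normal := inferInstance
  have hVL : V ≤ L := by
    intro v hv
    rw [hL, Subgroup.mem_comap, QuotientGroup.mk'_apply, (QuotientGroup.eq_one_iff v).mpr hv]
    exact Subgroup.one_mem _
  have hLi : Inv σ L := by
    intro x hx
    rw [hL, Subgroup.mem_comap] at hx ⊢
    exact hLbi _ hx
  have hLmap : L.map (QuotientGroup.mk' V) = Lb :=
    Subgroup.map_comap_eq_self_of_surjective (QuotientGroup.mk'_surjective V) Lb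
  -- an invariant Sylow `q`-subgroup of `L`
  obtain ⟨S₀, hS₀i⟩ := (hfpf.restrict L hLi).exists_inv_sylow q
  set Z₀ : Subgroup G := (S₀ : Subgroup ↥L).map L.subtype with hZ₀
  have hZ₀L : Z₀ ≤ L := by
    rintro _ ⟨x, _, rfl⟩
    exact x.2
  have hZ₀q : IsPGroup q ↥Z₀ := S₀.isPGroup'.map _
  have hZ₀i : Inv σ Z₀ := by
    rintro _ ⟨x, hx, rfl⟩
    exact ⟨restrictAut σ L hLi x, hS₀i x hx, rfl⟩
  have hZ₀V : Z₀ ⊓ V = ⊥ := by
    rw [Subgroup.eq_bot_iff_forall]
    rintro x ⟨hx1, hx2⟩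
    obtain ⟨k, hk⟩ := hZ₀q ⟨x, hx1⟩
    have hk' : x ^ q ^ k = 1 := by
      have := congrArg Subtype.val hk
      simpa using this
    have h1 : orderOf x ∣ q ^ k := orderOf_dvd_of_pow_eq_one hk'
    have h2 : orderOf x ∣ p := orderOf_dvd_of_pow_eq_one (hVexp x hx2)
    have h3 : orderOf x ∣ 1 := by
      have := Nat.dvd_gcd h1 h2
      rwa [Nat.Coprime.pow_left k hcopqp] at this
    exact orderOf_eq_one_iff.mp (Nat.dvd_one.mp h3)
  have hLbcomm : ∀ a ∈ Lb, ∀ b ∈ Lb, a * b = b * a := by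
    intro a ha b hb
    exact congrArg Subtype.val (mul_comm (⟨a, ha⟩ : ↥Lb) ⟨b, hb⟩)
  have hmkL : ∀ l ∈ L, (QuotientGroup.mk' V) l ∈ Lb := fun l hl => hl
  have hZ₀comm : ∀ a ∈ Z₀, ∀ b ∈ Z₀, a * b = b * a := by
    intro a ha b hb
    have h1 : a * b * a⁻¹ * b⁻¹ ∈ Z₀ :=
      Z₀.mul_mem (Z₀.mul_mem (Z₀.mul_mem ha hb) (Z₀.inv_mem ha)) (Z₀.inv_mem hb)
    have h2 : a * b * a⁻¹ * b⁻¹ ∈ V := by
      rw [← QuotientGroup.eq_one_iff (N := V)]
      have e := hLbcomm _ (hmkL a (hZ₀L ha)) _ (hmkL b (hZ₀L hb))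
      simp only [QuotientGroup.mk'_apply] at e
      rw [QuotientGroup.mk_mul, QuotientGroup.mk_mul, QuotientGroup.mk_mul, QuotientGroup.mk_inv,
        QuotientGroup.mk_inv, e]
      group
    have h3 : a * b * a⁻¹ * b⁻¹ ∈ Z₀ ⊓ V := ⟨h1, h2⟩
    rw [hZ₀V] at h3
    have h4 := Subgroup.mem_bot.mp h3
    calc a * b = a * b * a⁻¹ * b⁻¹ * (b * a) := by group
      _ = b * a := by rw [h4, one_mul]
  -- `L = Z₀ V`
  have hLdec : ∀ l ∈ L, ∃ z ∈ Z₀, ∃ v ∈ V, l = z * v := by
    obtain ⟨m, hm⟩ := IsPGroup.iff_card.mp hLbq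
    have hidx : (V.subgroupOf L).index = q ^ m := by
      have e : (V.subgroupOf L).index = V.relIndex L := rfl
      rw [e, ← hm, ← hLmap, ← Subgroup.relIndex_bot_left, ← Subgroup.relIndex_comap,
        MonoidHom.comap_bot, QuotientGroup.ker_mk']
    have hsup := sylow_sup_eq_top_of_index_pow S₀ (V.subgroupOf L) hidx
    intro l hl
    have hmem : (⟨l, hl⟩ : ↥L) ∈ (S₀ : Subgroup ↥L) ⊔ V.subgroupOf L := by
      rw [hsup]; exact Subgroup.mem_top _
    obtain ⟨y, hy, z, hz, hyz⟩ := Subgroup.mem_sup_of_normal_right.mp hmem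
    refine ⟨(y : G), ⟨y, hy, rfl⟩, (z : G), Subgroup.mem_subgroupOf.mp hz, ?_⟩
    have := congrArg Subtype.val hyz
    simpa using this.symm
  have hZ₀ne : Z₀ ≠ ⊥ := by
    intro hbot
    apply hLbne
    rw [Subgroup.eq_bot_iff_forall]
    intro x hx
    obtain ⟨l, rfl⟩ := QuotientGroup.mk'_surjective V x
    obtain ⟨z, hz, v, hv, rfl⟩ := hLdec l hx
    rw [hbot] at hz
    rw [Subgroup.mem_bot.mp hz, one_mul, QuotientGroup.mk'_apply]
    exact (QuotientGroup.eq_one_iff v).mpr hv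
  have hVcent : V ≤ Subgroup.centralizer (V : Set G) := by
    intro a ha
    rw [Subgroup.mem_centralizer_iff]
    intro b hb
    exact hVcomm b hb a ha
  have hcenti : Inv σ (Subgroup.centralizer (V : Set G)) := hVi.centralizer
  -- `Z₀` acts faithfully on `V`
  have hN₀ : Z₀ ⊓ Subgroup.centralizer (V : Set G) = ⊥ := by
    set D : Subgroup G := L ⊓ Subgroup.centralizer (V : Set G) with hD
    have hDi : Inv σ D := hLi.inf hcenti
    have hDn : D.Normal := inferInstance
    set Db : Subgroup (G ⧸ V) := D.map (QuotientGroup.mk' V) with hDb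
    have hDbn : Db.Normal := Subgroup.Normal.map hDn _ (QuotientGroup.mk'_surjective V)
    have hDbi : Inv σ' Db := by
      rintro _ ⟨d, hd, rfl⟩
      exact ⟨σ d, hDi d hd, rfl⟩
    have hDbL : Db ≤ Lb := by
      rintro _ ⟨d, hd, rfl⟩
      exact hmkL d hd.1
    by_cases hDbot : Db = ⊥
    · have hDV : D ≤ V := by
        intro d hd
        have : (QuotientGroup.mk' V) d ∈ Db := Subgroup.mem_map_of_mem _ hd
        rw [hDbot, Subgroup.mem_bot, QuotientGroup.mk'_apply, QuotientGroup.eq_one_iff] at this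
        exact this
      rw [eq_bot_iff, ← hZ₀V]
      intro x hx
      exact ⟨hx.1, hDV ⟨hZ₀L hx.1, hx.2⟩⟩
    · exfalso
      have hDL := hLbmin Db hDbn hDbi hDbL hDbot
      have hLcent : L ≤ Subgroup.centralizer (V : Set G) := by
        intro l hl
        have h1 : (QuotientGroup.mk' V) l ∈ Db := by rw [hDL]; exact hmkL l hl
        obtain ⟨d, hd, hdl⟩ := h1
        have h2 : d⁻¹ * l ∈ V := by
          rw [← QuotientGroup.eq]
          exact hdl
        have h3 : l = d * (d⁻¹ * l) := by group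
        rw [h3]
        exact Subgroup.mul_mem _ hd.2 (hVcent h2)
      -- `Z₀` is normal in `G`
      have hZ₀pow : ∀ z ∈ Z₀, z ^ Nat.card ↥Z₀ = 1 := by
        intro z hz
        have h1 : (⟨z, hz⟩ : ↥Z₀) ^ Nat.card ↥Z₀ = 1 := pow_card_eq_one'
        have h2 := congrArg Subtype.val h1
        rw [Subgroup.coe_pow, Subgroup.coe_one] at h2
        exact h2
      obtain ⟨m, hm⟩ := IsPGroup.iff_card.mp hZ₀q
      have hZ₀char : ∀ x ∈ L, x ^ Nat.card ↥Z₀ = 1 → x ∈ Z₀ := by
        intro x hx hxp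
        obtain ⟨z, hz, v, hv, rfl⟩ := hLdec x hx
        have hc : Commute z v := by
          have := Subgroup.mem_centralizer_iff.mp (hLcent (hZ₀L hz)) v hv
          exact this.symm
        rw [hc.mul_pow, hZ₀pow z hz, one_mul] at hxp
        have h1 : orderOf v ∣ Nat.card ↥Z₀ := orderOf_dvd_of_pow_eq_one hxp
        have h2 : orderOf v ∣ p := orderOf_dvd_of_pow_eq_one (hVexp v hv)
        have h3 : orderOf v ∣ 1 := by
          have := Nat.dvd_gcd h1 h2
          rwa [hm, Nat.Coprime.pow_left m hcopqp] at this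
        rw [orderOf_eq_one_iff.mp (Nat.dvd_one.mp h3), mul_one]
        exact hz
      haveI hZ₀n : Z₀.Normal := by
        refine ⟨fun z hz g => ?_⟩
        apply hZ₀char _ (hLn.conj_mem z (hZ₀L hz) g)
        rw [conj_pow, hZ₀pow z hz, mul_one, mul_inv_cancel]
      exact hE V Z₀ hVi hZ₀i hVne hZ₀ne (by rw [inf_comm]; exact hZ₀V)
  -- the part of `Z₀` inverted by `σ ^ 2`
  let X : Subgroup G :=
    { carrier := {x | x ∈ Z₀ ∧ σ (σ x) = x⁻¹}
      one_mem' := ⟨Z₀.one_mem, by simp⟩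
      mul_mem' := by
        rintro a b ⟨ha, ha'⟩ ⟨hb, hb'⟩
        refine ⟨Z₀.mul_mem ha hb, ?_⟩
        rw [map_mul, map_mul, ha', hb', mul_inv_rev]
        exact hZ₀comm _ (Z₀.inv_mem ha) _ (Z₀.inv_mem hb)
      inv_mem' := by
        rintro a ⟨ha, ha'⟩
        exact ⟨Z₀.inv_mem ha, by rw [map_inv, map_inv, ha']⟩ }
  have hXmem : ∀ x, x ∈ X ↔ x ∈ Z₀ ∧ σ (σ x) = x⁻¹ := fun x => Iff.rfl
  have hXbot : X = ⊥ := by
    set s : MulAut ↥V := restrictAut σ V hVi with hs
    set ρ : G →* MulAut ↥V := MulAut.conjNormal with hρ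
    haveI : Finite (MulAut ↥V) := finite_mulAut ↥V
    have hXq : IsPGroup q ↥X := hZ₀q.to_le (fun x hx => hx.1)
    have hQq : IsPGroup q ↥(X.map ρ) := hXq.map ρ
    have hconj : ∀ x : G, s * ρ x * s⁻¹ = ρ (σ x) := fun x => conj_restrict σ V hVi x
    have hQ : X.map ρ = ⊥ := by
      apply frob4 (X.map ρ) s (restrictAut_pow_eq_one σ V hVi 4 h4) (hfpf.restrict V hVi)
      · rintro _ ⟨x, hx, rfl⟩
        rw [hconj]
        refine Subgroup.mem_map_of_mem ρ ?_
        have hx' := (hXmem x).mp hx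
        refine (hXmem _).mpr ⟨hZ₀i x hx'.1, ?_⟩
        rw [hx'.2, map_inv]
      · rintro _ ⟨x, hx, rfl⟩
        have e : s ^ 2 * ρ x * (s ^ 2)⁻¹ = s * (s * ρ x * s⁻¹) * s⁻¹ := by
          rw [pow_two, mul_inv_rev]
          simp only [mul_assoc]
        rw [e, hconj, hconj, ((hXmem x).mp hx).2, map_inv]
      · rintro _ ⟨x, hx, rfl⟩ _ ⟨y, hy, rfl⟩
        rw [← map_mul, ← map_mul, hZ₀comm x hx.1 y hy.1]
      · intro u hu hu2
        obtain ⟨k, hk⟩ := hQq ⟨u, hu⟩
        have hk' : u ^ q ^ k = 1 := by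
          have := congrArg Subtype.val hk
          simpa using this
        have h1 : orderOf u ∣ q ^ k := orderOf_dvd_of_pow_eq_one hk'
        have h2 : orderOf u ∣ 2 := orderOf_dvd_of_pow_eq_one hu2
        have hc2 : Nat.Coprime (q ^ k) 2 :=
          Nat.Coprime.pow_left k ((Nat.coprime_primes hqp Nat.prime_two).mpr hq2)
        have h3 : orderOf u ∣ 1 := by
          have := Nat.dvd_gcd h1 h2
          rwa [hc2] at this
        exact orderOf_eq_one_iff.mp (Nat.dvd_one.mp h3)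
      · obtain ⟨a, ha⟩ := IsPGroup.iff_card.mp hVp
        obtain ⟨b, hb⟩ := IsPGroup.iff_card.mp hQq
        rw [ha, hb]
        exact Nat.Coprime.pow a b hcopqp.symm
    rw [eq_bot_iff, ← hN₀]
    intro x hx
    refine ⟨hx.1, ?_⟩
    have h1 : ρ x = 1 := by
      have : ρ x ∈ X.map ρ := Subgroup.mem_map_of_mem ρ hx
      rw [hQ] at this
      exact Subgroup.mem_bot.mp this
    show x ∈ Subgroup.centralizer (V : Set G)
    rw [Subgroup.mem_centralizer_iff]
    intro v hv
    have h2 : ρ x ⟨v, hv⟩ = ⟨v, hv⟩ := by rw [h1]; rfl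
    have h3 : x * v * x⁻¹ = v := by
      have := congrArg Subtype.val h2
      rwa [hρ, MulAut.conjNormal_apply] at this
    calc v * x = x * v * x⁻¹ * x := by rw [h3]
      _ = x * v := by group
  have hσ4 : ∀ g : G, σ (σ (σ (σ g))) = g := by
    intro g
    have := congrArg (fun t : MulAut G => t g) h4
    simpa [pow_succ, MulAut.mul_apply] using this
  have hZ₀fix : ∀ z ∈ Z₀, σ (σ z) = z := by
    intro z hz
    have hz2 : σ (σ z) ∈ Z₀ := hZ₀i _ (hZ₀i _ hz)
    have hy : z * (σ (σ z))⁻¹ ∈ X := by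
      rw [hXmem]
      refine ⟨Z₀.mul_mem hz (Z₀.inv_mem hz2), ?_⟩
      rw [map_mul, map_mul, map_inv, map_inv, hσ4, mul_inv_rev, inv_inv]
    rw [hXbot] at hy
    have := Subgroup.mem_bot.mp hy
    exact (mul_inv_eq_one.mp this).symm
  -- `σ ^ 2` has no fixed points on `V`
  have hVfix : ∀ v ∈ V, σ (σ v) = v → v = 1 := by
    set M₀ : Subgroup G := V ⊓ Subgroup.centralizer (L : Set G) with hM₀
    have hM₀n : M₀.Normal := inferInstance
    have hM₀i : Inv σ M₀ := hVi.inf hLi.centralizer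
    have hM₀bot : M₀ = ⊥ := by
      by_contra hne
      have hM₀V := hVmin M₀ hM₀n hM₀i inf_le_left hne
      have hZ₀cent : Z₀ ≤ Subgroup.centralizer (V : Set G) := by
        intro z hz
        rw [Subgroup.mem_centralizer_iff]
        intro v hv
        have hv' : v ∈ M₀ := by rw [hM₀V]; exact hv
        exact (Subgroup.mem_centralizer_iff.mp hv'.2 z (hZ₀L hz)).symm
      apply hZ₀ne
      rw [eq_bot_iff, ← hN₀]
      exact fun z hz => ⟨hz, hZ₀cent hz⟩
    intro v hv hfix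
    have hvM : v ∈ M₀ := by
      refine ⟨hv, ?_⟩
      show v ∈ Subgroup.centralizer (L : Set G)
      rw [Subgroup.mem_centralizer_iff]
      intro l hl
      obtain ⟨z, hz, w, hw, rfl⟩ := hLdec l hl
      have h1 : z * v = v * z := fix_comm hfpf z v (hZ₀fix z hz) hfix
      have h2 : w * v = v * w := hVcomm w hw v hv
      calc z * w * v = z * (w * v) := by group
        _ = z * (v * w) := by rw [h2]
        _ = (z * v) * w := by group
        _ = v * z * w := by rw [h1]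
        _ = v * (z * w) := by group
    rw [hM₀bot] at hvM
    exact Subgroup.mem_bot.mp hvM
  -- `σ ^ 2` inverts `V`
  have hVinv : ∀ v ∈ V, σ (σ v) = v⁻¹ := by
    intro v hv
    set s : MulAut ↥V := restrictAut σ V hVi with hs
    have h1 : Fpf (s ^ 2) := by
      intro a ha
      have h2 := congrArg Subtype.val ha
      rw [restrictAut_pow_apply_coe, sq_apply] at h2
      exact Subtype.ext (hVfix a a.2 h2)
    have h2 : (s ^ 2) ^ 2 = 1 := by
      rw [← pow_mul]
      exact restrictAut_pow_eq_one σ V hVi 4 h4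
    have h3 := h1.inverts_of_sq h2 ⟨v, hv⟩
    have h4' := congrArg Subtype.val h3
    rw [restrictAut_pow_apply_coe, sq_apply] at h4'
    exact h4'
  -- `G / C_G(V)` is abelian
  set C : Subgroup G := Subgroup.centralizer (V : Set G) with hC
  haveI hCn : C.Normal := inferInstance
  have hφC : ∀ g : G, g⁻¹ * σ (σ g) ∈ C := by
    intro g
    rw [hC, Subgroup.mem_centralizer_iff]
    intro v hv
    have hw : g * v⁻¹ * g⁻¹ ∈ V := hVn.conj_mem _ (V.inv_mem hv) g
    have h1 := hVinv _ hw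
    rw [map_mul, map_mul, map_mul, map_mul, map_inv, map_inv, map_inv, map_inv,
      hVinv v hv, inv_inv] at h1
    -- h1 : σσg * v * (σσg)⁻¹ = (g * v⁻¹ * g⁻¹)⁻¹
    have h2 : σ (σ g) * v * (σ (σ g))⁻¹ = g * v * g⁻¹ := by
      rw [h1]; group
    calc v * (g⁻¹ * σ (σ g)) = g⁻¹ * (g * v * g⁻¹) * σ (σ g) := by group
      _ = g⁻¹ * (σ (σ g) * v * (σ (σ g))⁻¹) * σ (σ g) := by rw [h2]
      _ = g⁻¹ * σ (σ g) * v := by group
  have hGC : commutator G ≤ C := by
    set τ : MulAut (G ⧸ C) := quotAut σ C hcenti with hτ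
    have hτ2 : τ ^ 2 = 1 := by
      ext x
      induction x using QuotientGroup.induction_on with
      | H g =>
        rw [quotAut_pow_mk, sq_apply]
        change ((σ (σ g) : G) : G ⧸ C) = (g : G ⧸ C)
        rw [eq_comm, QuotientGroup.eq]
        exact hφC g
    have hτfpf : Fpf τ := hfpf.quot C hcenti
    rw [commutator_def, Subgroup.commutator_le]
    intro g₁ _ g₂ _
    rw [← QuotientGroup.eq_one_iff (N := C), commutatorElement_def, QuotientGroup.mk_mul,
      QuotientGroup.mk_mul, QuotientGroup.mk_mul, QuotientGroup.mk_inv, QuotientGroup.mk_inv,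
      hτfpf.comm_of_sq hτ2 (g₁ : G ⧸ C) (g₂ : G ⧸ C)]
    group
  -- contradiction
  apply hZ₀ne
  rw [eq_bot_iff, ← hN₀]
  intro z hz
  refine ⟨hz, ?_⟩
  have h1 : (QuotientGroup.mk' V) z ∈ commutator (G ⧸ V) := hTK (hLbT (hmkL z (hZ₀L hz)))
  rw [← map_commutator_mk V] at h1
  obtain ⟨c, hc, hcz⟩ := h1
  have h2 : c⁻¹ * z ∈ V := by
    rw [← QuotientGroup.eq]
    exact hcz
  have h3 : z = c * (c⁻¹ * z) := by group
  rw [h3]
  exact Subgroup.mul_mem _ (hGC hc) (hVcent h2)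

end Cfsg.Agent.Lib.Helper8.FP4

namespace Cfsg.Agent.Lib.Helper8.FP4

theorem card_quot_lt {G : Type*} [Group G] [Finite G] (N : Subgroup G)
    (h : N ≠ ⊥) : Nat.card (G ⧸ N) < Nat.card G := by
  have h1 := Subgroup.card_eq_card_quotient_mul_card_subgroup N
  haveI : Nontrivial ↥N := (Subgroup.nontrivial_iff_ne_bot N).mpr h
  have h2 : 1 < Nat.card ↥N := Finite.one_lt_card
  have h3 : 0 < Nat.card (G ⧸ N) := Nat.card_pos
  rw [h1]
  nlinarith

theorem fpf4_aux : ∀ (n : ℕ) (G : Type u) [Group G] [Finite G], Nat.card G = n →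
    Group.IsSolvable G → ∀ σ : MulAut G, σ ^ 4 = 1 → Fpf σ →
    Group.IsNilpotent ↥(commutator G) := by
  intro n
  induction n using Nat.strong_induction_on with
  | _ n ih =>
    intro G _ _ hn hG σ h4 hfpf
    apply fpf4_step hG σ h4 hfpf
    intro N _ hNi hNne
    exact ih (Nat.card (G ⧸ N)) (hn ▸ card_quot_lt N hNne)
      (G ⧸ N) rfl (Group.isSolvable_of_surjective (QuotientGroup.mk'_surjective N))
      (quotAut σ N hNi) (quotAut_pow_eq_one σ N hNi 4 h4) (hfpf.quot N hNi)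

end Cfsg.Agent.Lib.Helper8.FP4
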