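import Mathlib
import Cfsg.Agent.Lib.Helper8.FS3

set_option autoImplicit false

/-!
# A representation with an irreducible character is irreducible; real representations have
indicator one.
-/

namespace Cfsg.Agent.Lib.Helper8.FS

open scoped ComplexConjugate
open Matrix Cfsg.Agent.Lib.Helper6

variable {G : Type*} [Group G] [Fintype G] {m n : ℕ}

/-- rectangular matrix unit -/
def eMat' (a : Fin n) (b : Fin m) : Matrix (Fin n) (Fin m) ℂ :=
  Matrix.of fun i j => if i = a ∧ j = b then 1 else 0

/-- averaged intertwiner -/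
noncomputable def avgHom (ρ : Representation ℂ G (Fin m → ℂ)) (σ : Representation ℂ G (Fin n → ℂ))
    (A : Matrix (Fin n) (Fin m) ℂ) : Matrix (Fin n) (Fin m) ℂ :=
  ∑ g : G, mat σ g * A * mat ρ g⁻¹

theorem avgHom_comm (ρ : Representation ℂ G (Fin m → ℂ)) (σ : Representation ℂ G (Fin n → ℂ))
    (A : Matrix (Fin n) (Fin m) ℂ) (h : G) :
    mat σ h * avgHom ρ σ A = avgHom ρ σ A * mat ρ h := by
  unfold avgHom
  rw [Matrix.mul_sum, Matrix.sum_mul]
  rw [← Equiv.sum_comp (Equiv.mulLeft h⁻¹)
    (fun g => mat σ h * (mat σ g * A * mat ρ g⁻¹))]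
  apply Finset.sum_congr rfl
  intro g _
  rw [Equiv.coe_mulLeft]
  have h1 : mat σ h * (mat σ (h⁻¹ * g) * A * mat ρ (h⁻¹ * g)⁻¹)
      = (mat σ h * mat σ (h⁻¹ * g)) * A * mat ρ (h⁻¹ * g)⁻¹ := by
    simp only [Matrix.mul_assoc]
  rw [h1, ← mat_mul, mul_inv_cancel_left, _root_.mul_inv_rev, inv_inv, mat_mul]
  simp only [Matrix.mul_assoc]

theorem avgHom_eMat'_apply (ρ : Representation ℂ G (Fin m → ℂ))
    (σ : Representation ℂ G (Fin n → ℂ)) (a : Fin n) (b : Fin m) (k : Fin n) (l : Fin m) :
    avgHom ρ σ (eMat' a b) k l = ∑ g : G, mat σ g k a * mat ρ g⁻¹ b l := by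
  unfold avgHom
  rw [Matrix.sum_apply]
  apply Finset.sum_congr rfl
  intro g _
  rw [Matrix.mul_apply]
  have h1 : ∀ j, (mat σ g * eMat' a b) k j = if j = b then mat σ g k a else 0 := by
    intro j
    rw [Matrix.mul_apply]
    simp only [eMat', Matrix.of_apply]
    by_cases hj : j = b
    · simp [hj]
    · simp [hj]
  simp only [h1]
  simp

theorem sum_avgHom_diag (ρ : Representation ℂ G (Fin m → ℂ))
    (σ : Representation ℂ G (Fin n → ℂ)) :
    ∑ k, ∑ l, avgHom ρ σ (eMat' k l) k l = ∑ g : G, σ.character g * ρ.character g⁻¹ := by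
  have h1 : ∀ g : G, σ.character g * ρ.character g⁻¹
      = ∑ k, ∑ l, mat σ g k k * mat ρ g⁻¹ l l := by
    intro g
    rw [← trace_mat, ← trace_mat, Matrix.trace, Matrix.trace, Finset.sum_mul_sum]
    rfl
  simp only [avgHom_eMat'_apply, h1]
  conv_rhs => rw [Finset.sum_comm]
  apply Finset.sum_congr rfl
  intro i _
  rw [Finset.sum_comm]

/-- A representation whose character is that of an irreducible representation is irreducible. -/
theorem isIrreducible_of_character_eq (ρ : Representation ℂ G (Fin m → ℂ)) [ρ.IsIrreducible]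
    (σ : Representation ℂ G (Fin n → ℂ)) (h : σ.character = ρ.character) :
    σ.IsIrreducible := by
  have hmn : m = n := by
    have h1 := congrFun h 1
    rw [Representation.char_one, Representation.char_one] at h1
    simp only [Module.finrank_fintype_fun_eq_card, Fintype.card_fin] at h1
    exact_mod_cast h1.symm
  -- a nonzero intertwiner
  have hex : ∃ A, avgHom ρ σ A ≠ 0 := by
    by_contra hcon
    push Not at hcon
    have h1 : ∑ g : G, σ.character g * ρ.character g⁻¹ = 0 := by
      rw [← sum_avgHom_diag]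
      apply Finset.sum_eq_zero
      intro i _
      apply Finset.sum_eq_zero
      intro j _
      rw [hcon]
      rfl
    rw [h, sum_character_mul_inv ρ] at h1
    exact card_ne_zero' (G := G) h1
  obtain ⟨A, hA⟩ := hex
  let T : Representation.IntertwiningMap ρ σ :=
    { toLinearMap := Matrix.toLin' (avgHom ρ σ A)
      isIntertwining' := fun g => by
        rw [← toLin'_mat ρ g, ← toLin'_mat σ g, ← Matrix.toLin'_mul, ← Matrix.toLin'_mul,
          avgHom_comm] }
  rcases Representation.IsIrreducible.injective_or_eq_zero T with hinj | h0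
  · have hinj' : Function.Injective (Matrix.toLin' (avgHom ρ σ A)) := hinj
    let e : (Fin m → ℂ) ≃ₗ[ℂ] (Fin n → ℂ) :=
      LinearMap.linearEquivOfInjective (Matrix.toLin' (avgHom ρ σ A)) hinj' (by rw [hmn])
    have he : ∀ g, (e : (Fin m → ℂ) →ₗ[ℂ] (Fin n → ℂ)) ∘ₗ ρ g
        = σ g ∘ₗ (e : (Fin m → ℂ) →ₗ[ℂ] (Fin n → ℂ)) := by
      intro g
      have := T.isIntertwining' g
      exact this
    exact isIrreducible_of_equiv (Representation.Equiv.mk e he)
  · exfalso
    apply hA
    have h1 := congrArg Representation.IntertwiningMap.toLinearMap h0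
    have h2 : Matrix.toLin' (avgHom ρ σ A) = 0 := h1
    have h3 := congrArg LinearMap.toMatrix' h2
    rw [LinearMap.toMatrix'_toLin'] at h3
    rw [h3]
    exact map_zero _

/-- The complexification of a real matrix representation. -/
noncomputable def complexify (ρ : Representation ℝ G (Fin n → ℝ)) :
    Representation ℂ G (Fin n → ℂ) where
  toFun g := Matrix.toLin' ((LinearMap.toMatrix' (ρ g)).map Complex.ofRealHom)
  map_one' := by
    rw [map_one]
    have : LinearMap.toMatrix' (1 : Module.End ℝ (Fin n → ℝ)) = 1 := LinearMap.toMatrix'_one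
    rw [this, Matrix.map_one _ (map_zero _) (map_one _), Matrix.toLin'_one]
    rfl
  map_mul' g h := by
    rw [map_mul]
    have : LinearMap.toMatrix' (ρ g * ρ h) = LinearMap.toMatrix' (ρ g) * LinearMap.toMatrix' (ρ h) :=
      LinearMap.toMatrix'_mul _ _
    rw [this, Matrix.map_mul, Matrix.toLin'_mul]
    rfl

theorem mat_complexify (ρ : Representation ℝ G (Fin n → ℝ)) (g : G) :
    mat (complexify ρ) g = (LinearMap.toMatrix' (ρ g)).map Complex.ofRealHom := by
  unfold mat complexify
  exact LinearMap.toMatrix'_toLin' _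

theorem character_complexify (ρ : Representation ℝ G (Fin n → ℝ)) (g : G) :
    (complexify ρ).character g = ((LinearMap.trace ℝ (Fin n → ℝ) (ρ g) : ℝ) : ℂ) := by
  rw [← trace_mat, mat_complexify, LinearMap.trace_eq_matrix_trace ℝ (Pi.basisFun ℝ (Fin n)),
    LinearMap.toMatrix_eq_toMatrix']
  unfold Matrix.trace
  push_cast
  rfl

/-- If an irreducible character is afforded by a real representation, its indicator is `1`. -/
theorem fsInd_eq_one_of_real_rep (χ : Cfsg.IrrCharacter G) (ρ : Representation ℝ G (Fin n → ℝ))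
    (h : ∀ g : G, ((LinearMap.trace ℝ (Fin n → ℝ) (ρ g) : ℝ) : ℂ) = (χ : G → ℂ) g) :
    fsInd (χ : G → ℂ) = 1 := by
  obtain ⟨m, ρ₀, hρ₀, hχ⟩ := χ.2
  haveI := hρ₀
  have hchar : (complexify ρ).character = ρ₀.character := by
    funext g
    rw [character_complexify, h g, hχ]
  haveI : (complexify ρ).IsIrreducible := isIrreducible_of_character_eq ρ₀ (complexify ρ) hchar
  have hinv := avgForm_isInv (complexify ρ) 1
  have htr := transpose_eq_of_isInv hinv
  have hsymm : (avgForm (complexify ρ) 1)ᵀ = avgForm (complexify ρ) 1 := by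
    rw [avgForm_transpose, Matrix.transpose_one]
  -- the averaged form is nonzero: look at its trace
  have hne : avgForm (complexify ρ) 1 ≠ 0 := by
    intro h0
    have h1 : (avgForm (complexify ρ) 1).trace = 0 := by rw [h0]; simp
    unfold avgForm at h1
    rw [Matrix.trace_sum] at h1
    have h2 : ∀ g : G, ((mat (complexify ρ) g)ᵀ * 1 * mat (complexify ρ) g).trace
        = ((∑ i, ∑ j, (LinearMap.toMatrix' (ρ g) i j) ^ 2 : ℝ) : ℂ) := by
      intro g
      rw [Matrix.mul_one, mat_complexify, Matrix.trace]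
      push_cast
      rw [Finset.sum_comm]
      apply Finset.sum_congr rfl
      intro i _
      rw [Matrix.diag_apply, Matrix.mul_apply]
      apply Finset.sum_congr rfl
      intro j _
      simp only [Matrix.transpose_apply, Matrix.map_apply, Complex.ofRealHom_eq_coe]
      ring
    rw [Finset.sum_congr rfl (fun g _ => h2 g), ← Complex.ofReal_sum] at h1
    have h3 : ∑ g : G, ∑ i, ∑ j, (LinearMap.toMatrix' (ρ g) i j) ^ 2 = 0 := by exact_mod_cast h1
    have h4 : ∀ g ∈ (Finset.univ : Finset G),
        0 ≤ ∑ i, ∑ j, (LinearMap.toMatrix' (ρ g) i j) ^ 2 := by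
      intro g _
      apply Finset.sum_nonneg
      intro i _
      apply Finset.sum_nonneg
      intro j _
      positivity
    have h5 := (Finset.sum_eq_zero_iff_of_nonneg h4).mp h3 1 (Finset.mem_univ _)
    rw [map_one] at h5
    have h6 : LinearMap.toMatrix' (1 : Module.End ℝ (Fin n → ℝ)) = 1 := LinearMap.toMatrix'_one
    rw [h6] at h5
    -- n must be zero, contradiction with irreducibility
    have hn : 0 < n := by
      have := finrank_pos_of_isIrreducible (complexify ρ)
      simpa using this
    have h7 : ∀ i ∈ (Finset.univ : Finset (Fin n)),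
        0 ≤ ∑ j, ((1 : Matrix (Fin n) (Fin n) ℝ) i j) ^ 2 := by
      intro i _
      apply Finset.sum_nonneg
      intro j _
      positivity
    have h8 := (Finset.sum_eq_zero_iff_of_nonneg h7).mp h5 ⟨0, hn⟩ (Finset.mem_univ _)
    have h9 : ∀ j ∈ (Finset.univ : Finset (Fin n)),
        0 ≤ ((1 : Matrix (Fin n) (Fin n) ℝ) ⟨0, hn⟩ j) ^ 2 := by
      intro j _
      positivity
    have h10 := (Finset.sum_eq_zero_iff_of_nonneg h9).mp h8 ⟨0, hn⟩ (Finset.mem_univ _)
    simp at h10
  rw [hsymm] at htr
  have h3 : (1 - fsInd (complexify ρ).character) • avgForm (complexify ρ) 1 = 0 := by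
    rw [sub_smul, one_smul, ← htr, sub_self]
  rcases smul_eq_zero.mp h3 with h4 | h4
  · rw [sub_eq_zero] at h4
    rw [← hχ, ← hchar]
    exact h4.symm
  · exact absurd h4 hne

end Cfsg.Agent.Lib.Helper8.FS
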