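import Mathlib
import Cfsg.Agent.Lib.Helper8.FS4

set_option autoImplicit false

/-!
# Frobenius–Schur: indicator one implies a real form (part 1)
-/

namespace Cfsg.Agent.Lib.Helper8.FS

open scoped ComplexConjugate ComplexOrder
open Matrix Cfsg.Agent.Lib.Helper6

variable {n : ℕ}

/-- entrywise conjugate -/
noncomputable def cj (A : Matrix (Fin n) (Fin n) ℂ) : Matrix (Fin n) (Fin n) ℂ :=
  A.map (starRingEnd ℂ)

theorem cj_apply (A : Matrix (Fin n) (Fin n) ℂ) (i j : Fin n) : cj A i j = conj (A i j) := rfl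

theorem cj_mul (A B : Matrix (Fin n) (Fin n) ℂ) : cj (A * B) = cj A * cj B := Matrix.map_mul

theorem cj_add (A B : Matrix (Fin n) (Fin n) ℂ) : cj (A + B) = cj A + cj B := by
  ext i j
  simp [cj_apply]

theorem cj_cj (A : Matrix (Fin n) (Fin n) ℂ) : cj (cj A) = A := by
  ext i j
  simp [cj_apply]

theorem cj_one : cj (1 : Matrix (Fin n) (Fin n) ℂ) = 1 :=
  Matrix.map_one _ (map_zero _) (map_one _)

theorem cj_smul (c : ℂ) (A : Matrix (Fin n) (Fin n) ℂ) : cj (c • A) = conj c • cj A := by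
  ext i j
  simp [cj_apply]

theorem cj_transpose (A : Matrix (Fin n) (Fin n) ℂ) : cj Aᵀ = (cj A)ᵀ := by
  ext i j
  rfl

theorem conjTranspose_eq (A : Matrix (Fin n) (Fin n) ℂ) : Aᴴ = (cj A)ᵀ := by
  ext i j
  rfl

theorem cj_conjTranspose (A : Matrix (Fin n) (Fin n) ℂ) : cj Aᴴ = Aᵀ := by
  rw [conjTranspose_eq, cj_transpose, cj_cj]

theorem cj_inv (A : Matrix (Fin n) (Fin n) ℂ) (h : IsUnit A.det) : cj A⁻¹ = (cj A)⁻¹ := by
  symm
  apply Matrix.inv_eq_right_inv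
  rw [← cj_mul, Matrix.mul_nonsing_inv A h, cj_one]

theorem cj_injective : Function.Injective (cj : Matrix (Fin n) (Fin n) ℂ → _) := by
  intro A B h
  rw [← cj_cj A, h, cj_cj]

variable {G : Type*} [Group G] [Fintype G]

/-- The averaged hermitian form. -/
noncomputable def hForm (ρ : Representation ℂ G (Fin n → ℂ)) : Matrix (Fin n) (Fin n) ℂ :=
  ∑ g : G, (mat ρ g)ᴴ * mat ρ g

theorem hForm_posDef (ρ : Representation ℂ G (Fin n → ℂ)) : (hForm ρ).PosDef := by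
  classical
  unfold hForm
  rw [← Finset.add_sum_erase _ (fun g => (mat ρ g)ᴴ * mat ρ g) (Finset.mem_univ (1 : G))]
  apply Matrix.PosDef.add_posSemidef
  · rw [mat_one, Matrix.conjTranspose_one, Matrix.one_mul]
    exact Matrix.PosDef.one
  · apply Matrix.posSemidef_sum
    intro g _
    exact Matrix.posSemidef_conjTranspose_mul_self _

theorem hForm_intertwine (ρ : Representation ℂ G (Fin n → ℂ)) (h : G) :
    hForm ρ * mat ρ h = (mat ρ h⁻¹)ᴴ * hForm ρ := by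
  unfold hForm
  rw [Finset.sum_mul, Finset.mul_sum]
  rw [← Equiv.sum_comp (Equiv.mulRight h⁻¹) (fun g => (mat ρ g)ᴴ * mat ρ g * mat ρ h)]
  apply Finset.sum_congr rfl
  intro g _
  rw [Equiv.coe_mulRight]
  have h1 : mat ρ (g * h⁻¹) * mat ρ h = mat ρ g := by
    rw [← mat_mul, inv_mul_cancel_right]
  rw [Matrix.mul_assoc, h1, mat_mul, Matrix.conjTranspose_mul, Matrix.mul_assoc]

/-- With a symmetric invariant form there is a conjugate-linear structure of square one. -/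
theorem exists_conj_intertwiner (ρ : Representation ℂ G (Fin n → ℂ)) [ρ.IsIrreducible]
    {M : Matrix (Fin n) (Fin n) ℂ} (hM : IsInv ρ M) (hM0 : M ≠ 0) (hsym : Mᵀ = M) :
    ∃ S : Matrix (Fin n) (Fin n) ℂ, (∀ g, S * mat ρ g = cj (mat ρ g) * S) ∧ cj S * S = 1 := by
  have hH := hForm_posDef ρ
  have hcjH : cj (hForm ρ) = (hForm ρ)ᵀ := by
    rw [← cj_conjTranspose, hH.isHermitian.eq]
  have hHt : (cj (hForm ρ)).PosDef := by
    rw [hcjH]
    exact hH.transpose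
  have hHtu : IsUnit (cj (hForm ρ)).det := (Matrix.isUnit_iff_isUnit_det _).mp hHt.isUnit
  have hHu : IsUnit (hForm ρ).det := (Matrix.isUnit_iff_isUnit_det _).mp hH.isUnit
  have hMu := hM.isUnit hM0
  -- intertwining
  have hint : ∀ g, ((cj (hForm ρ))⁻¹ * M) * mat ρ g = cj (mat ρ g) * ((cj (hForm ρ))⁻¹ * M) := by
    intro g
    have ha := hM.intertwine g
    have hb := hForm_intertwine ρ g
    have hb' : cj (hForm ρ) * cj (mat ρ g) = (mat ρ g⁻¹)ᵀ * cj (hForm ρ) := by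
      have := congrArg cj hb
      rw [cj_mul, cj_mul, cj_conjTranspose] at this
      exact this
    have hc : (mat ρ g⁻¹)ᵀ = cj (hForm ρ) * cj (mat ρ g) * (cj (hForm ρ))⁻¹ := by
      rw [hb', Matrix.mul_assoc, Matrix.mul_nonsing_inv _ hHtu, Matrix.mul_one]
    calc ((cj (hForm ρ))⁻¹ * M) * mat ρ g = (cj (hForm ρ))⁻¹ * (M * mat ρ g) := Matrix.mul_assoc _ _ _
      _ = (cj (hForm ρ))⁻¹ * ((mat ρ g⁻¹)ᵀ * M) := by rw [ha]
      _ = (cj (hForm ρ))⁻¹ * (cj (hForm ρ) * cj (mat ρ g) * (cj (hForm ρ))⁻¹ * M) := by rw [hc]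
      _ = ((cj (hForm ρ))⁻¹ * cj (hForm ρ)) * cj (mat ρ g) * ((cj (hForm ρ))⁻¹ * M) := by
          simp only [Matrix.mul_assoc]
      _ = cj (mat ρ g) * ((cj (hForm ρ))⁻¹ * M) := by
          rw [Matrix.nonsing_inv_mul _ hHtu, Matrix.one_mul]
  have hcomm : ∀ g, (cj ((cj (hForm ρ))⁻¹ * M) * ((cj (hForm ρ))⁻¹ * M)) * mat ρ g
      = mat ρ g * (cj ((cj (hForm ρ))⁻¹ * M) * ((cj (hForm ρ))⁻¹ * M)) := by
    intro g
    have h1 : cj ((cj (hForm ρ))⁻¹ * M) * cj (mat ρ g) = mat ρ g * cj ((cj (hForm ρ))⁻¹ * M) := by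
      have := congrArg cj (hint g)
      rw [cj_mul _ (mat ρ g), cj_mul (cj (mat ρ g)), cj_cj] at this
      exact this
    rw [Matrix.mul_assoc, hint g, ← Matrix.mul_assoc, h1, Matrix.mul_assoc]
  obtain ⟨c, hc⟩ : ∃ c : ℂ, cj ((cj (hForm ρ))⁻¹ * M) * ((cj (hForm ρ))⁻¹ * M)
      = c • (1 : Matrix (Fin n) (Fin n) ℂ) := by
    obtain ⟨c, hc⟩ := exists_smul_id_of_comm ρ
      (Matrix.toLin' (cj ((cj (hForm ρ))⁻¹ * M) * ((cj (hForm ρ))⁻¹ * M))) (fun g => by
      rw [← toLin'_mat ρ g, ← Matrix.toLin'_mul, ← Matrix.toLin'_mul, hcomm g])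
    refine ⟨c, ?_⟩
    have h3 := congrArg LinearMap.toMatrix' hc
    rw [LinearMap.toMatrix'_toLin', map_smul, LinearMap.toMatrix'_id] at h3
    exact h3
  -- positivity of c
  have hcpos : 0 < c.re ∧ c.im = 0 := by
    have h1 : cj ((cj (hForm ρ))⁻¹ * M) = (hForm ρ)⁻¹ * cj M := by
      rw [cj_mul, cj_inv _ hHtu, cj_cj]
    have hcjM : cj M = Mᴴ := by rw [conjTranspose_eq, ← cj_transpose, hsym]
    have h2 : Mᴴ * (cj (hForm ρ))⁻¹ * M = c • hForm ρ := by
      rw [← hcjM]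
      have h3 : hForm ρ * (cj ((cj (hForm ρ))⁻¹ * M) * ((cj (hForm ρ))⁻¹ * M))
          = cj M * (cj (hForm ρ))⁻¹ * M := by
        rw [h1]
        calc hForm ρ * ((hForm ρ)⁻¹ * cj M * ((cj (hForm ρ))⁻¹ * M))
            = (hForm ρ * (hForm ρ)⁻¹) * cj M * (cj (hForm ρ))⁻¹ * M := by
              simp only [Matrix.mul_assoc]
          _ = cj M * (cj (hForm ρ))⁻¹ * M := by
              rw [Matrix.mul_nonsing_inv _ hHu, Matrix.one_mul]
      rw [← h3, hc, Matrix.mul_smul, Matrix.mul_one]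
    have hpd : (Mᴴ * (cj (hForm ρ))⁻¹ * M).PosDef :=
      Matrix.PosDef.conjTranspose_mul_mul_same hHt.inv (Matrix.mulVec_injective_iff_isUnit.mpr hMu)
    rw [h2] at hpd
    have hn : 0 < n := by
      have := finrank_pos_of_isIrreducible ρ
      simpa using this
    have hd1 := hpd.diag_pos (i := ⟨0, hn⟩)
    have hd2 := hH.diag_pos (i := ⟨0, hn⟩)
    rw [Matrix.smul_apply, smul_eq_mul] at hd1
    rw [Complex.pos_iff] at hd1 hd2
    obtain ⟨hd2r, hd2i'⟩ := hd2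
    obtain ⟨hd1r, hd1i'⟩ := hd1
    have hd2i := hd2i'.symm
    have hd1i := hd1i'.symm
    rw [Complex.mul_re, hd2i, mul_zero, sub_zero] at hd1r
    rw [Complex.mul_im, hd2i, mul_zero, zero_add] at hd1i
    constructor
    · by_contra hneg
      push Not at hneg
      have := mul_nonpos_of_nonpos_of_nonneg hneg hd2r.le
      linarith
    · rcases mul_eq_zero.mp hd1i with h | h
      · exact h
      · exact absurd h hd2r.ne'
  obtain ⟨hcre, hcim⟩ := hcpos
  -- normalise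
  set r : ℝ := Real.sqrt c.re with hr
  have hrpos : 0 < r := Real.sqrt_pos.mpr hcre
  have hr2 : ((r : ℂ)) * (r : ℂ) = c := by
    apply Complex.ext
    · rw [← Complex.ofReal_mul, Complex.ofReal_re, hr, Real.mul_self_sqrt hcre.le]
    · rw [← Complex.ofReal_mul, Complex.ofReal_im, hcim]
  have hrne : (r : ℂ) ≠ 0 := by exact_mod_cast hrpos.ne'
  refine ⟨((r : ℂ)⁻¹) • ((cj (hForm ρ))⁻¹ * M), ?_, ?_⟩
  · intro g
    rw [Matrix.smul_mul, hint g, Matrix.mul_smul]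
  · rw [cj_smul, Matrix.smul_mul, Matrix.mul_smul, hc, smul_smul, smul_smul, map_inv₀,
      Complex.conj_ofReal]
    have : (r : ℂ)⁻¹ * (r : ℂ)⁻¹ * c = 1 := by
      rw [← hr2]
      field_simp
    rw [this, one_smul]

end Cfsg.Agent.Lib.Helper8.FS
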