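import Mathlib
import Cfsg.Agent.Lib.Helper8.FS5

set_option autoImplicit false

/-!
# Frobenius–Schur: indicator one implies a real form (part 2)
-/

namespace Cfsg.Agent.Lib.Helper8.FS

open scoped ComplexConjugate
open Matrix Cfsg.Agent.Lib.Helper6

variable {n : ℕ}

/-- Hilbert 90 for `GL_n(ℂ)/ℝ`. -/
theorem hilbert90 (S : Matrix (Fin n) (Fin n) ℂ) (hS : cj S * S = 1) :
    ∃ P : Matrix (Fin n) (Fin n) ℂ, IsUnit P.det ∧ S * P = cj P := by
  have hS' : S * cj S = 1 := _root_.mul_eq_one_comm.mp hS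
  -- the family of candidates
  have hfam : ∀ a : ℂ, S * (conj a • (1 : Matrix (Fin n) (Fin n) ℂ) + a • cj S)
      = cj (conj a • (1 : Matrix (Fin n) (Fin n) ℂ) + a • cj S) := by
    intro a
    rw [Matrix.mul_add, Matrix.mul_smul, Matrix.mul_smul, Matrix.mul_one, hS', cj_add, cj_smul,
      cj_smul, cj_cj, cj_one, Complex.conj_conj, add_comm]
  -- find a good parameter
  set p := (-(cj S)).charpoly with hp
  have hpne : p ≠ 0 := (Matrix.charpoly_monic _).ne_zero
  let z : ℝ → ℂ := fun t => conj (1 + (t : ℂ) * Complex.I) / (1 + (t : ℂ) * Complex.I)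
  have hane : ∀ t : ℝ, (1 + (t : ℂ) * Complex.I) ≠ 0 := by
    intro t h
    have := congrArg Complex.re h
    simp at this
  have hzinj : Function.Injective z := by
    intro s t hst
    simp only [z] at hst
    rw [div_eq_div_iff (hane s) (hane t)] at hst
    simp only [map_add, map_one, map_mul, Complex.conj_ofReal, Complex.conj_I] at hst
    have h1 := congrArg Complex.im hst
    simp at h1
    linarith
  have hex : ∃ t : ℝ, p.eval (z t) ≠ 0 := by
    by_contra hcon
    push Not at hcon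
    apply hpne
    apply Polynomial.eq_zero_of_infinite_isRoot
    apply Set.Infinite.mono _ (Set.infinite_range_of_injective hzinj)
    rintro _ ⟨t, rfl⟩
    exact hcon t
  obtain ⟨t, ht⟩ := hex
  refine ⟨conj (1 + (t : ℂ) * Complex.I) • (1 : Matrix (Fin n) (Fin n) ℂ)
    + (1 + (t : ℂ) * Complex.I) • cj S, ?_, hfam _⟩
  rw [hp, Matrix.eval_charpoly] at ht
  have h1 : conj (1 + (t : ℂ) * Complex.I) • (1 : Matrix (Fin n) (Fin n) ℂ)
      + (1 + (t : ℂ) * Complex.I) • cj S
      = (1 + (t : ℂ) * Complex.I) • (Matrix.scalar (Fin n) (z t) - (-(cj S))) := by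
    rw [sub_neg_eq_add, smul_add]
    congr 1
    ext i j
    simp only [z, Matrix.smul_apply, Matrix.scalar_apply, Matrix.diagonal_apply, Matrix.one_apply,
      smul_eq_mul]
    by_cases hij : i = j
    · simp only [hij, if_true]
      field_simp [hane t]
    · simp [hij]
  rw [h1, Matrix.det_smul]
  exact IsUnit.mul ((isUnit_iff_ne_zero.mpr (hane t)).pow _) (isUnit_iff_ne_zero.mpr ht)

variable {G : Type*} [Group G] [Fintype G]

/-- A conjugate-linear structure of square one gives a real form. -/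
theorem exists_real_rep (ρ : Representation ℂ G (Fin n → ℂ))
    (S : Matrix (Fin n) (Fin n) ℂ) (hint : ∀ g, S * mat ρ g = cj (mat ρ g) * S)
    (hS : cj S * S = 1) :
    ∃ σ : Representation ℝ G (Fin n → ℝ),
      ∀ g : G, ((LinearMap.trace ℝ (Fin n → ℝ) (σ g) : ℝ) : ℂ) = ρ.character g := by
  obtain ⟨P, hP, hSP⟩ := hilbert90 S hS
  have hPi : P⁻¹ * P = 1 := Matrix.nonsing_inv_mul P hP
  have hPi' : P * P⁻¹ = 1 := Matrix.mul_nonsing_inv P hP
  have hSinv : S⁻¹ = cj S := Matrix.inv_eq_left_inv hS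
  -- the conjugated representation is real
  have hreal : ∀ g : G, cj (P⁻¹ * mat ρ g * P) = P⁻¹ * mat ρ g * P := by
    intro g
    rw [cj_mul, cj_mul, cj_inv P hP, ← hSP, Matrix.mul_inv_rev, hSinv]
    have h1 : cj S * cj (mat ρ g) * S = mat ρ g := by
      rw [Matrix.mul_assoc, ← hint g, ← Matrix.mul_assoc, hS, Matrix.one_mul]
    calc P⁻¹ * cj S * cj (mat ρ g) * (S * P) = P⁻¹ * (cj S * cj (mat ρ g) * S) * P := by
          simp only [Matrix.mul_assoc]
      _ = P⁻¹ * mat ρ g * P := by rw [h1]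
  have hmap : ∀ g : G, ((P⁻¹ * mat ρ g * P).map Complex.re).map Complex.ofRealHom
      = P⁻¹ * mat ρ g * P := by
    intro g
    ext i j
    simp only [Matrix.map_apply, Complex.ofRealHom_eq_coe]
    have h1 := congrFun (congrFun (hreal g) i) j
    rw [cj_apply] at h1
    exact (Complex.conj_eq_iff_re.mp h1)
  have hinj : Function.Injective
      (fun A : Matrix (Fin n) (Fin n) ℝ => A.map Complex.ofRealHom) := by
    intro A B hAB
    ext i j
    have := congrFun (congrFun hAB i) j
    simp only [Matrix.map_apply, Complex.ofRealHom_eq_coe] at this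
    exact_mod_cast this
  let σ : Representation ℝ G (Fin n → ℝ) :=
    { toFun := fun g => Matrix.toLin' ((P⁻¹ * mat ρ g * P).map Complex.re)
      map_one' := by
        have : (P⁻¹ * mat ρ 1 * P).map Complex.re = 1 := by
          apply hinj
          show ((P⁻¹ * mat ρ 1 * P).map Complex.re).map Complex.ofRealHom
            = (1 : Matrix (Fin n) (Fin n) ℝ).map Complex.ofRealHom
          rw [hmap, mat_one, Matrix.mul_one, hPi, Matrix.map_one _ (map_zero _) (map_one _)]
        rw [this, Matrix.toLin'_one]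
        rfl
      map_mul' := by
        intro g h
        have : (P⁻¹ * mat ρ (g * h) * P).map Complex.re
            = (P⁻¹ * mat ρ g * P).map Complex.re * (P⁻¹ * mat ρ h * P).map Complex.re := by
          apply hinj
          show ((P⁻¹ * mat ρ (g * h) * P).map Complex.re).map Complex.ofRealHom
            = ((P⁻¹ * mat ρ g * P).map Complex.re * (P⁻¹ * mat ρ h * P).map Complex.re).map
              Complex.ofRealHom
          rw [Matrix.map_mul, hmap, hmap, hmap, mat_mul]
          calc P⁻¹ * (mat ρ g * mat ρ h) * P = P⁻¹ * mat ρ g * (1 : Matrix (Fin n) (Fin n) ℂ) * mat ρ h * P := by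
                rw [Matrix.mul_one]
                simp only [Matrix.mul_assoc]
            _ = P⁻¹ * mat ρ g * P * (P⁻¹ * mat ρ h * P) := by
                rw [← hPi']
                simp only [Matrix.mul_assoc]
        rw [this, Matrix.toLin'_mul]
        rfl }
  refine ⟨σ, ?_⟩
  intro g
  show ((LinearMap.trace ℝ (Fin n → ℝ)
    (Matrix.toLin' ((P⁻¹ * mat ρ g * P).map Complex.re)) : ℝ) : ℂ) = ρ.character g
  rw [LinearMap.trace_eq_matrix_trace ℝ (Pi.basisFun ℝ (Fin n)), LinearMap.toMatrix_eq_toMatrix',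
    LinearMap.toMatrix'_toLin']
  have h1 : (((P⁻¹ * mat ρ g * P).map Complex.re).trace : ℂ)
      = (((P⁻¹ * mat ρ g * P).map Complex.re).map Complex.ofRealHom).trace := by
    unfold Matrix.trace
    push_cast
    rfl
  rw [h1, hmap, Matrix.trace_mul_comm, ← Matrix.mul_assoc, hPi', Matrix.one_mul, trace_mat]

/-- Indicator one implies realisability over the reals. -/
theorem exists_real_rep_of_fsInd_eq_one (χ : Cfsg.IrrCharacter G)
    (h : fsInd (χ : G → ℂ) = 1) :
    ∃ (n : ℕ) (σ : Representation ℝ G (Fin n → ℝ)),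
      ∀ g : G, ((LinearMap.trace ℝ (Fin n → ℝ) (σ g) : ℝ) : ℂ) = (χ : G → ℂ) g := by
  have hre : ∀ g : G, conj ((χ : G → ℂ) g) = (χ : G → ℂ) g :=
    real_of_fsInd_ne_zero χ (by rw [h]; exact one_ne_zero)
  obtain ⟨n, ρ, hρ, hχ⟩ := χ.2
  haveI := hρ
  obtain ⟨M, hM0, hM⟩ := exists_isInv_of_real (ρ := ρ) (by rw [hχ]; exact hre)
  have hsym : Mᵀ = M := by
    rw [transpose_eq_of_isInv hM, hχ, h, one_smul]
  obtain ⟨S, hint, hS⟩ := exists_conj_intertwiner ρ hM hM0 hsym
  obtain ⟨σ, hσ⟩ := exists_real_rep ρ S hint hS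
  refine ⟨n, σ, ?_⟩
  intro g
  rw [hσ g, hχ]

end Cfsg.Agent.Lib.Helper8.FS
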