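import Mathlib
import Cfsg.Agent.Lib.Helper8.FS3
import Cfsg.Agent.Lib.Helper8.AFT1
import Cfsg.Agent.Lib.Helper6.CharOps
import Cfsg.Agent.Lib.Helper6.QuotChar
import Cfsg.Agent.Lib.Helper3.CharQuot

set_option autoImplicit false

/-!
# Frobenius–Schur indicators and permutation characters
-/

namespace Cfsg.Agent.Lib.Helper8.FS

open scoped ComplexConjugate
open Cfsg.Agent.Lib.Helper6

variable {G : Type*} [Group G] [Fintype G]

/-- the indicator is additive over decompositions -/
theorem fsInd_eq_sum_mult [Fintype (Cfsg.IrrCharacter G)] {ψ : G → ℂ}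
    (m : Cfsg.IrrCharacter G → ℕ) (hψ : ψ = ∑ θ, m θ • (θ : G → ℂ)) :
    fsInd ψ = ∑ θ : Cfsg.IrrCharacter G, (m θ : ℂ) * fsInd (θ : G → ℂ) := by
  have hpt : ∀ g, ψ g = ∑ θ : Cfsg.IrrCharacter G, (m θ : ℂ) * (θ : G → ℂ) g := by
    intro g
    rw [hψ, Finset.sum_apply]
    apply Finset.sum_congr rfl
    intro θ _
    rw [Pi.smul_apply, nsmul_eq_mul]
  unfold fsInd
  simp only [hpt]
  rw [Finset.sum_comm, Finset.mul_sum]
  apply Finset.sum_congr rfl
  intro θ _
  rw [← Finset.mul_sum]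
  ring

/-- the permutation character -/
theorem indFun_one_apply (H : Subgroup G) [DecidablePred (· ∈ H)] (g : G) :
    Cfsg.indFun H (fun _ : H => (1 : ℂ)) g
      = (Nat.card H : ℂ)⁻¹ * ((Finset.univ.filter (fun x : G => x⁻¹ * g * x ∈ H)).card : ℂ) := by
  unfold Cfsg.indFun
  congr 1
  rw [Finset.card_filter]
  push_cast
  apply Finset.sum_congr rfl
  intro x _
  by_cases h : x⁻¹ * g * x ∈ H
  · rw [extendByZero_of_mem H _ h, if_pos h]
  · rw [extendByZero_of_not_mem H _ h, if_neg h]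

/-- the indicator of a permutation character counts the elements whose square lies in `H`. -/
theorem fsInd_perm (H : Subgroup G) [DecidablePred (· ∈ H)] :
    fsInd (Cfsg.indFun H (fun _ : H => (1 : ℂ)))
      = (Nat.card H : ℂ)⁻¹ * ((Finset.univ.filter (fun g : G => g * g ∈ H)).card : ℂ) := by
  unfold fsInd
  simp only [indFun_one_apply]
  rw [← Finset.mul_sum]
  have h1 : ∑ g : G, ((Finset.univ.filter (fun x : G => x⁻¹ * (g * g) * x ∈ H)).card : ℂ)
      = (Nat.card G : ℂ) * ((Finset.univ.filter (fun g : G => g * g ∈ H)).card : ℂ) := by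
    simp only [Finset.card_filter]
    push_cast
    rw [Finset.sum_comm]
    have h2 : ∀ x : G, ∑ g : G, (if x⁻¹ * (g * g) * x ∈ H then (1 : ℂ) else 0)
        = ∑ g : G, (if g * g ∈ H then (1 : ℂ) else 0) := by
      intro x
      rw [← Equiv.sum_comp (MulAut.conj x).toEquiv (fun g : G => if x⁻¹ * (g * g) * x ∈ H then (1 : ℂ) else 0)]
      apply Finset.sum_congr rfl
      intro g _
      have : x⁻¹ * ((MulAut.conj x).toEquiv g * (MulAut.conj x).toEquiv g) * x = g * g := by
        show x⁻¹ * ((x * g * x⁻¹) * (x * g * x⁻¹)) * x = g * g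
        group
      rw [this]
    rw [Finset.sum_congr rfl (fun x _ => h2 x), Finset.sum_const, Finset.card_univ,
      nsmul_eq_mul, Nat.card_eq_fintype_card]
  rw [h1]
  have := card_ne_zero' (G := G)
  field_simp

/-- constituents of a character contain its kernel in their kernels -/
theorem apply_eq_of_mult_ne_zero [Fintype (Cfsg.IrrCharacter G)] {ψ : G → ℂ}
    (m : Cfsg.IrrCharacter G → ℕ) (hψ : ψ = ∑ θ, m θ • (θ : G → ℂ)) (k : G) (hk : ψ k = ψ 1)
    (θ : Cfsg.IrrCharacter G) (hθ : m θ ≠ 0) : (θ : G → ℂ) k = (θ : G → ℂ) 1 := by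
  have h1 : ∑ χ : Cfsg.IrrCharacter G, (m χ : ℝ) *
      ((Cfsg.charDegree (χ : G → ℂ) : ℝ) - ((χ : G → ℂ) k).re) = 0 := by
    have hpt : ∀ g, ψ g = ∑ θ : Cfsg.IrrCharacter G, (m θ : ℂ) * (θ : G → ℂ) g := by
      intro g
      rw [hψ, Finset.sum_apply]
      apply Finset.sum_congr rfl
      intro θ _
      rw [Pi.smul_apply, nsmul_eq_mul]
    have h2 := congrArg Complex.re hk
    rw [hpt, hpt] at h2
    simp only [Complex.re_sum, Complex.mul_re,
      Complex.natCast_re, Complex.natCast_im, zero_mul, sub_zero] at h2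
    have h3 : ∀ χ : Cfsg.IrrCharacter G, ((χ : G → ℂ) 1).re = (Cfsg.charDegree (χ : G → ℂ) : ℝ) := by
      intro χ
      rw [IsCharacter.apply_one_eq_charDegree (IsIrrCharacter.isCharacter χ.2)]
      simp
    simp only [h3] at h2
    simp only [mul_sub, Finset.sum_sub_distrib]
    rw [h2, sub_self]
  have hnn : ∀ χ ∈ (Finset.univ : Finset (Cfsg.IrrCharacter G)), 0 ≤ (m χ : ℝ) *
      ((Cfsg.charDegree (χ : G → ℂ) : ℝ) - ((χ : G → ℂ) k).re) := by
    intro χ _
    apply mul_nonneg (Nat.cast_nonneg _)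
    have := Cfsg.Agent.Lib.Helper8.AFT.norm_irr_le χ k
    have h4 := Complex.re_le_norm ((χ : G → ℂ) k)
    linarith
  have h5 := (Finset.sum_eq_zero_iff_of_nonneg hnn).mp h1 θ (Finset.mem_univ _)
  have h6 : (Cfsg.charDegree (θ : G → ℂ) : ℝ) = ((θ : G → ℂ) k).re := by
    rcases mul_eq_zero.mp h5 with h | h
    · exfalso
      exact hθ (by exact_mod_cast h)
    · linarith
  have h7 := Cfsg.Agent.Lib.Helper8.AFT.norm_irr_le θ k
  rw [IsCharacter.apply_one_eq_charDegree (IsIrrCharacter.isCharacter θ.2)]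
  -- a complex number whose real part equals a bound on its norm
  have h8 : ((θ : G → ℂ) k).im = 0 := by
    have h9 := Complex.sq_norm ((θ : G → ℂ) k)
    rw [Complex.normSq_apply] at h9
    have h10 : ‖(θ : G → ℂ) k‖ ^ 2 ≤ (Cfsg.charDegree (θ : G → ℂ) : ℝ) ^ 2 :=
      pow_le_pow_left₀ (norm_nonneg _) h7 2
    rw [h9, h6] at h10
    have h11 : ((θ : G → ℂ) k).im * ((θ : G → ℂ) k).im ≤ 0 := by nlinarith
    have h12 := mul_self_nonneg ((θ : G → ℂ) k).im
    exact mul_self_eq_zero.mp (le_antisymm h11 h12)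
  apply Complex.ext
  · rw [Complex.natCast_re, h6]
  · rw [Complex.natCast_im, h8]

/-- the permutation character is constant on the core -/
theorem indFun_one_apply_of_mem_core (H : Subgroup G) (k : G) (hk : k ∈ H.normalCore) :
    Cfsg.indFun H (fun _ : H => (1 : ℂ)) k = Cfsg.indFun H (fun _ : H => (1 : ℂ)) 1 := by
  classical
  rw [indFun_one_apply, indFun_one_apply]
  congr 3
  ext x
  simp only [Finset.mem_filter, Finset.mem_univ, true_and]
  constructor
  · intro _
    have : x⁻¹ * 1 * x = 1 := by group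
    rw [this]
    exact H.one_mem
  · intro _
    have := hk x⁻¹
    rw [inv_inv] at this
    exact this

end Cfsg.Agent.Lib.Helper8.FS
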