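import Mathlib
import Cfsg.Agent.Lib.Helper8.FS4

set_option autoImplicit false

/-!
# Schur orthogonality for two inequivalent matrix representations (bilinear version)
-/

namespace Cfsg.Agent.Lib.Helper8.FS

open scoped ComplexConjugate
open Matrix

variable {G : Type*} [Group G] [Fintype G] {n : ℕ}

/-- The averaged mixed form. -/
noncomputable def avgForm₂ (ρ σ : Representation ℂ G (Fin n → ℂ)) (A : Matrix (Fin n) (Fin n) ℂ) :
    Matrix (Fin n) (Fin n) ℂ :=
  ∑ g : G, (mat ρ g)ᵀ * A * mat σ g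

theorem avgForm₂_inv (ρ σ : Representation ℂ G (Fin n → ℂ)) (A : Matrix (Fin n) (Fin n) ℂ)
    (h : G) : (mat ρ h)ᵀ * avgForm₂ ρ σ A * mat σ h = avgForm₂ ρ σ A := by
  unfold avgForm₂
  rw [Finset.mul_sum, Finset.sum_mul]
  conv_rhs => rw [← Equiv.sum_comp (Equiv.mulRight h)]
  apply Finset.sum_congr rfl
  intro g _
  rw [Equiv.coe_mulRight, mat_mul, mat_mul, Matrix.transpose_mul]
  simp only [Matrix.mul_assoc]

theorem avgForm₂_intertwine (ρ σ : Representation ℂ G (Fin n → ℂ)) (A : Matrix (Fin n) (Fin n) ℂ)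
    (g : G) : avgForm₂ ρ σ A * mat σ g = (mat ρ g⁻¹)ᵀ * avgForm₂ ρ σ A := by
  have h1 : (mat ρ g⁻¹)ᵀ * (mat ρ g)ᵀ = 1 := by
    rw [← Matrix.transpose_mul, mat_mul_inv, Matrix.transpose_one]
  calc avgForm₂ ρ σ A * mat σ g
      = ((mat ρ g⁻¹)ᵀ * (mat ρ g)ᵀ) * avgForm₂ ρ σ A * mat σ g := by rw [h1, Matrix.one_mul]
    _ = (mat ρ g⁻¹)ᵀ * ((mat ρ g)ᵀ * avgForm₂ ρ σ A * mat σ g) := by simp only [Matrix.mul_assoc]
    _ = (mat ρ g⁻¹)ᵀ * avgForm₂ ρ σ A := by rw [avgForm₂_inv]

/-- The mixed averaged form vanishes if the characters are not dual to each other. -/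
theorem avgForm₂_eq_zero (ρ σ : Representation ℂ G (Fin n → ℂ)) [σ.IsIrreducible]
    (hne : ∃ g : G, σ.character g ≠ ρ.character g⁻¹) (A : Matrix (Fin n) (Fin n) ℂ) :
    avgForm₂ ρ σ A = 0 := by
  set M := avgForm₂ ρ σ A with hM
  let T : Representation.IntertwiningMap σ (contra ρ) :=
    { toLinearMap := Matrix.toLin' M
      isIntertwining' := fun g => by
        rw [contra_apply, ← toLin'_mat σ g, ← Matrix.toLin'_mul, ← Matrix.toLin'_mul,
          avgForm₂_intertwine] }
  rcases Representation.IsIrreducible.injective_or_eq_zero T with hinj | h0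
  · exfalso
    have hu : IsUnit M := by
      rw [← Matrix.mulVec_injective_iff_isUnit]
      exact hinj
    have hdet : IsUnit M.det := (Matrix.isUnit_iff_isUnit_det M).mp hu
    have hMi' : M * M⁻¹ = 1 := Matrix.mul_nonsing_inv M hdet
    obtain ⟨g, hg⟩ := hne
    apply hg
    rw [← trace_mat, ← trace_mat, ← Matrix.trace_transpose (mat ρ g⁻¹)]
    have h1 : (mat ρ g⁻¹)ᵀ = M * mat σ g * M⁻¹ := by
      rw [avgForm₂_intertwine, Matrix.mul_assoc, hMi', Matrix.mul_one]
    rw [h1, Matrix.trace_mul_comm, ← Matrix.mul_assoc, Matrix.nonsing_inv_mul M hdet,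
      Matrix.one_mul]
  · have h1 := congrArg Representation.IntertwiningMap.toLinearMap h0
    have h2 : Matrix.toLin' M = 0 := h1
    have h3 := congrArg LinearMap.toMatrix' h2
    rw [LinearMap.toMatrix'_toLin'] at h3
    rw [h3]
    exact map_zero _

theorem avgForm₂_eMat_apply (ρ σ : Representation ℂ G (Fin n → ℂ)) (a b k l : Fin n) :
    avgForm₂ ρ σ (eMat a b) k l = ∑ g : G, mat ρ g a k * mat σ g b l := by
  unfold avgForm₂
  rw [Matrix.sum_apply]
  apply Finset.sum_congr rfl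
  intro g _
  rw [Matrix.mul_apply]
  have h1 : ∀ j, ((mat ρ g)ᵀ * eMat a b) k j = if j = b then mat ρ g a k else 0 := by
    intro j
    rw [Matrix.mul_apply]
    simp only [eMat, Matrix.transpose_apply, Matrix.of_apply]
    by_cases hj : j = b
    · simp [hj]
    · simp [hj]
  simp only [h1]
  simp

/-- Schur orthogonality, bilinear form, for representations which are not dual to each other. -/
theorem sum_mat_mul_mat_eq_zero (ρ σ : Representation ℂ G (Fin n → ℂ)) [σ.IsIrreducible]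
    (hne : ∃ g : G, σ.character g ≠ ρ.character g⁻¹) (a b k l : Fin n) :
    ∑ g : G, mat ρ g a k * mat σ g b l = 0 := by
  rw [← avgForm₂_eMat_apply, avgForm₂_eq_zero ρ σ hne]
  rfl

/-- The trace form of the orthogonality relation. -/
theorem sum_trace_mul_eq_zero (ρ σ : Representation ℂ G (Fin n → ℂ)) [σ.IsIrreducible]
    (hne : ∃ g : G, σ.character g ≠ ρ.character g⁻¹) (R : Matrix (Fin n) (Fin n) ℂ) :
    ∑ g : G, (R * mat ρ g * mat σ g).trace = 0 := by
  have h1 : ∀ g : G, (R * mat ρ g * mat σ g).trace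
      = ∑ i, ∑ j, ∑ k, R i j * (mat ρ g j k * mat σ g k i) := by
    intro g
    rw [Matrix.trace]
    apply Finset.sum_congr rfl
    intro i _
    rw [Matrix.diag_apply, Matrix.mul_assoc, Matrix.mul_apply]
    apply Finset.sum_congr rfl
    intro j _
    rw [Matrix.mul_apply, Finset.mul_sum]
  simp only [h1]
  rw [Finset.sum_comm]
  apply Finset.sum_eq_zero
  intro i _
  rw [Finset.sum_comm]
  apply Finset.sum_eq_zero
  intro j _
  rw [Finset.sum_comm]
  apply Finset.sum_eq_zero
  intro k _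
  rw [← Finset.mul_sum, sum_mat_mul_mat_eq_zero ρ σ hne, mul_zero]

end Cfsg.Agent.Lib.Helper8.FS
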