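import Mathlib
import Cfsg.Agent.Lib.Helper8.FS8
import Cfsg.Agent.Lib.Helper6.CliffordStab

set_option autoImplicit false

/-!
# The Frobenius–Schur indicator of a character induced from the inertia group
-/

namespace Cfsg.Agent.Lib.Helper8.FS

open scoped ComplexConjugate
open Matrix Cfsg.Agent.Lib.Helper6

variable {G : Type*} [Group G] [Fintype G]

/-- the indicator of an induced function -/
theorem fsInd_indFun (H : Subgroup G) (θ : H → ℂ) :
    fsInd (Cfsg.indFun H θ) = (Nat.card H : ℂ)⁻¹ * ∑ g : G, Cfsg.extendByZero H θ (g * g) := by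
  unfold fsInd Cfsg.indFun
  have h1 : ∀ x : G, ∑ g : G, Cfsg.extendByZero H θ (x⁻¹ * (g * g) * x)
      = ∑ g : G, Cfsg.extendByZero H θ (g * g) := by
    intro x
    rw [← Equiv.sum_comp (MulAut.conj x⁻¹).toEquiv (fun g => Cfsg.extendByZero H θ (g * g))]
    apply Finset.sum_congr rfl
    intro g _
    congr 1
    simp only [MulEquiv.toEquiv_eq_coe, MulEquiv.coe_toEquiv, MulAut.conj_apply, inv_inv]
    group
  rw [← Finset.mul_sum, Finset.sum_comm, Finset.sum_congr rfl (fun x _ => h1 x), Finset.sum_const,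
    Finset.card_univ, nsmul_eq_mul, ← Nat.card_eq_fintype_card]
  have hG := card_ne_zero' (G := G)
  field_simp

/-- conjugation by `g⁻¹` as a homomorphism from a normal subgroup into an overgroup -/
def conjHom (N : Subgroup G) (hN : N.Normal) (I : Subgroup G) (hNI : N ≤ I) (g : G) : N →* I where
  toFun n := ⟨g⁻¹ * n * g, hNI (by have := hN.conj_mem n n.2 g⁻¹; rwa [inv_inv] at this)⟩
  map_one' := Subtype.ext (by simp)
  map_mul' a b := Subtype.ext (by
    show g⁻¹ * ((a : G) * (b : G)) * g = (g⁻¹ * a * g) * (g⁻¹ * b * g)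
    group)

variable (N : Subgroup G) (hN : N.Normal) (I : Subgroup G) (hNI : N ≤ I)

include hN in
/-- the orthogonality relation over a coset outside the inertia group -/
theorem sum_coset_eq_zero [Fintype N] (φ : Cfsg.IrrCharacter N) (ψ : Cfsg.IrrCharacter I)
    (hψ : ∀ n : N, (ψ : I → ℂ) ⟨n, hNI n.2⟩ = (φ : N → ℂ) n)
    (hreal : ∀ n : N, conj ((φ : N → ℂ) n) = (φ : N → ℂ) n)
    (hstab : ∀ g : G, conjFun N hN (φ : N → ℂ) g = (φ : N → ℂ) → g ∈ I)
    (g : G) (hg : g ∉ I) :
    ∑ n : N, Cfsg.extendByZero I (ψ : I → ℂ) ((g * n) * (g * n)) = 0 := by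
  have hprod : ∀ n : N, (g * (n : G)) * (g * n) = (g * g) * (g⁻¹ * n * g) * n := by
    intro n; group
  have hmemN : ∀ n : N, g⁻¹ * (n : G) * g ∈ N := by
    intro n
    have := hN.conj_mem n n.2 g⁻¹
    rwa [inv_inv] at this
  by_cases hg2 : g * g ∈ I
  · obtain ⟨m, ρ, hρ, hχ⟩ := ψ.2
    haveI := hρ
    obtain ⟨m₀, ρ₀, hρ₀, hχ₀⟩ := φ.2
    haveI := hρ₀
    set A : Representation ℂ N (Fin m → ℂ) := ρ.comp (Subgroup.inclusion hNI) with hA
    set B : Representation ℂ N (Fin m → ℂ) := ρ.comp (conjHom N hN I hNI g) with hB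
    have hAchar : ∀ n : N, A.character n = (φ : N → ℂ) n := by
      intro n
      show ρ.character (Subgroup.inclusion hNI n) = _
      rw [hχ]
      exact hψ n
    have hBchar : ∀ n : N, B.character n = (φ : N → ℂ) ⟨g⁻¹ * n * g, hmemN n⟩ := by
      intro n
      show ρ.character (conjHom N hN I hNI g n) = _
      rw [hχ]
      exact hψ ⟨g⁻¹ * n * g, hmemN n⟩
    haveI : A.IsIrreducible := isIrreducible_of_character_eq ρ₀ A (by
      funext n
      rw [hAchar n, hχ₀])
    have hne : ∃ n : N, A.character n ≠ B.character n⁻¹ := by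
      by_contra hcon
      push Not at hcon
      apply hg
      have h1 : conjFun N hN (φ : N → ℂ) g⁻¹ = (φ : N → ℂ) := by
        funext n
        rw [conjFun_apply]
        have h2 := hcon n
        rw [hAchar, hBchar] at h2
        have h3 : (⟨g⁻¹ * ((n⁻¹ : N) : G) * g, hmemN n⁻¹⟩ : N)
            = (⟨g⁻¹ * (n : G) * g, hmemN n⟩ : N)⁻¹ := by
          apply Subtype.ext
          show g⁻¹ * ((n⁻¹ : N) : G) * g = (g⁻¹ * (n : G) * g)⁻¹
          rw [Subgroup.coe_inv]
          group
        rw [h3, ← hχ₀, character_inv, hχ₀, hreal] at h2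
        rw [h2]
        refine congrArg _ (Subtype.ext ?_)
        show g⁻¹ * (n : G) * g⁻¹⁻¹ = g⁻¹ * n * g
        rw [inv_inv]
      have := hstab g⁻¹ h1
      have h4 := I.inv_mem this
      rwa [inv_inv] at h4
    have hzero := sum_trace_mul_eq_zero B A hne (mat ρ ⟨g * g, hg2⟩)
    rw [← hzero]
    apply Finset.sum_congr rfl
    intro n _
    have hmem : (g * (n : G)) * (g * n) ∈ I := by
      rw [hprod]
      exact I.mul_mem (I.mul_mem hg2 (hNI (hmemN n))) (hNI n.2)
    rw [extendByZero_of_mem _ _ hmem, ← hχ, ← trace_mat]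
    have h5 : (⟨(g * (n : G)) * (g * n), hmem⟩ : I)
        = ⟨g * g, hg2⟩ * conjHom N hN I hNI g n * Subgroup.inclusion hNI n := by
      apply Subtype.ext
      exact hprod n
    rw [h5, mat_mul, mat_mul]
    rfl
  · apply Finset.sum_eq_zero
    intro n _
    apply extendByZero_of_not_mem
    intro hmem
    apply hg2
    rw [hprod] at hmem
    have h1 : g⁻¹ * (n : G) * g * n ∈ I := I.mul_mem (hNI (hmemN n)) (hNI n.2)
    have h2 : g * g = (g * g * (g⁻¹ * n * g) * n) * (g⁻¹ * (n : G) * g * n)⁻¹ := by group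
    rw [h2]
    exact I.mul_mem hmem (I.inv_mem h1)

include hN in
/-- the indicator of the Clifford correspondent of an extension of a real character -/
theorem fsInd_indFun_of_stab [Fintype N] [Fintype I] (φ : Cfsg.IrrCharacter N)
    (ψ : Cfsg.IrrCharacter I)
    (hψ : ∀ n : N, (ψ : I → ℂ) ⟨n, hNI n.2⟩ = (φ : N → ℂ) n)
    (hreal : ∀ n : N, conj ((φ : N → ℂ) n) = (φ : N → ℂ) n)
    (hstab : ∀ g : G, conjFun N hN (φ : N → ℂ) g = (φ : N → ℂ) → g ∈ I) :
    fsInd (Cfsg.indFun I (ψ : I → ℂ)) = fsInd (ψ : I → ℂ) := by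
  classical
  rw [fsInd_indFun]
  unfold fsInd
  congr 1
  rw [← Finset.sum_filter_add_sum_filter_not Finset.univ (fun g : G => g ∈ I)]
  have hA : ∑ g ∈ Finset.univ.filter (fun g : G => g ∈ I),
      Cfsg.extendByZero I (ψ : I → ℂ) (g * g) = ∑ i : I, (ψ : I → ℂ) (i * i) := by
    rw [Finset.sum_subtype (Finset.univ.filter (fun g : G => g ∈ I)) (p := fun g => g ∈ I)
      (fun g => by simp)]
    apply Finset.sum_congr rfl
    intro i _
    rw [extendByZero_of_mem _ _ (I.mul_mem i.2 i.2)]
    rfl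
  have hB : ∑ g ∈ Finset.univ.filter (fun g : G => ¬ g ∈ I),
      Cfsg.extendByZero I (ψ : I → ℂ) (g * g) = 0 := by
    have h1 : ∀ n : N, ∑ g ∈ Finset.univ.filter (fun g : G => ¬ g ∈ I),
        Cfsg.extendByZero I (ψ : I → ℂ) ((g * n) * (g * n))
        = ∑ g ∈ Finset.univ.filter (fun g : G => ¬ g ∈ I),
          Cfsg.extendByZero I (ψ : I → ℂ) (g * g) := by
      intro n
      apply Finset.sum_equiv (Equiv.mulRight (n : G))
      · intro g
        simp only [Finset.mem_filter, Finset.mem_univ, true_and, Equiv.coe_mulRight]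
        constructor
        · intro h h'
          apply h
          have : g = (g * n) * (n : G)⁻¹ := by group
          rw [this]
          exact I.mul_mem h' (I.inv_mem (hNI n.2))
        · intro h h'
          exact h (I.mul_mem h' (hNI n.2))
      · intro g _
        rfl
    have h2 : (Nat.card N : ℂ) * ∑ g ∈ Finset.univ.filter (fun g : G => ¬ g ∈ I),
        Cfsg.extendByZero I (ψ : I → ℂ) (g * g) = 0 := by
      have h3 : ∑ n : N, ∑ g ∈ Finset.univ.filter (fun g : G => ¬ g ∈ I),
          Cfsg.extendByZero I (ψ : I → ℂ) ((g * n) * (g * n)) = 0 := by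
        rw [Finset.sum_comm]
        apply Finset.sum_eq_zero
        intro g hg
        rw [Finset.mem_filter] at hg
        exact sum_coset_eq_zero N hN I hNI φ ψ hψ hreal hstab g hg.2
      rw [Finset.sum_congr rfl (fun n _ => h1 n), Finset.sum_const, Finset.card_univ,
        nsmul_eq_mul, ← Nat.card_eq_fintype_card] at h3
      exact h3
    rcases mul_eq_zero.1 h2 with h | h
    · exfalso
      have : Nat.card N ≠ 0 := Nat.card_pos.ne'
      exact this (by exact_mod_cast h)
    · exact h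
  rw [hA, hB, add_zero]

end Cfsg.Agent.Lib.Helper8.FS
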