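import Mathlib

/-! Generic group theory for recognising a non-split double cover from two permutation
representations with the same image. -/

set_option autoImplicit false

namespace Cfsg.Agent.Lib.Helper8.FaU

/-- Two permutation representations, the image of the second inside the image of the first; the
kernel of the second is central, the first group has twice the order of the central quotient of the
second, and the kernel of the first is not trivial: then the kernel of the first has order two and
the quotients are isomorphic. -/
theorem cover_iso {U S X : Type*} [Group U] [Group S] [Finite U] [Finite S]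
    (m : ℕ) (hm : 0 < m)
    (hU : Nat.card U = 2 * m) (hS : Nat.card (S ⧸ Subgroup.center S) = m)
    (τ : U →* Equiv.Perm X) (ρ : S →* Equiv.Perm X)
    (hker : ρ.ker ≤ Subgroup.center S) (hrange : ρ.range ≤ τ.range)
    (z : U) (hz1 : z ≠ 1) (hz : τ z = 1) :
    Nat.card τ.ker = 2 ∧ Nonempty (U ⧸ τ.ker ≃* S ⧸ Subgroup.center S) := by
  haveI : Finite τ.range := Finite.of_surjective τ.rangeRestrict τ.rangeRestrict_surjective
  have h1 : Nat.card τ.ker * Nat.card τ.range = 2 * m := by
    rw [← hU, ← Subgroup.index_ker, Subgroup.card_mul_index]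
  have h2 : Nat.card ρ.ker * Nat.card ρ.range = Nat.card S := by
    rw [← Subgroup.index_ker, Subgroup.card_mul_index]
  have h3 : Nat.card S = m * Nat.card (Subgroup.center S) := by
    rw [← hS]
    exact Subgroup.card_eq_card_quotient_mul_card_subgroup _
  have h4 : Nat.card ρ.ker ∣ Nat.card (Subgroup.center S) := Subgroup.card_dvd_of_le hker
  have h5 : 2 ≤ Nat.card τ.ker := by
    have : τ.ker ≠ ⊥ := by
      intro h
      have hz' : z ∈ τ.ker := hz
      rw [h, Subgroup.mem_bot] at hz'
      exact hz1 hz'
    have := (Subgroup.one_lt_card_iff_ne_bot τ.ker).2 this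
    omega
  have h6 : Nat.card ρ.range ≤ Nat.card τ.range := Subgroup.card_le_of_le hrange
  obtain ⟨d, hd⟩ := h4
  have hkpos : 0 < Nat.card ρ.ker := Nat.card_pos
  have hcpos : 0 < Nat.card (Subgroup.center S) := Nat.card_pos
  have hdpos : 0 < d := by
    rcases Nat.eq_zero_or_pos d with h0 | h0
    · rw [h0, mul_zero] at hd
      omega
    · exact h0
  have h7 : Nat.card ρ.range = d * m := by
    have : Nat.card ρ.ker * Nat.card ρ.range = Nat.card ρ.ker * (d * m) := by
      rw [h2, h3, hd]
      ring
    exact Nat.eq_of_mul_eq_mul_left hkpos this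
  have h8 : Nat.card τ.range ≤ m := by
    have : 2 * Nat.card τ.range ≤ 2 * m := by
      rw [← h1]
      exact Nat.mul_le_mul_right _ h5
    omega
  have h9 : m ≤ d * m := Nat.le_mul_of_pos_left m hdpos
  have hr1 : Nat.card τ.range = m := by omega
  have hr2 : Nat.card ρ.range = m := by omega
  have hd1 : d = 1 := by
    have : d * m = 1 * m := by rw [← h7, hr2, one_mul]
    exact Nat.eq_of_mul_eq_mul_right hm this
  rw [hd1, mul_one] at hd
  have hk2 : Nat.card τ.ker = 2 := by
    rw [hr1] at h1
    exact Nat.eq_of_mul_eq_mul_right hm h1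
  refine ⟨hk2, ?_⟩
  have hkeq : ρ.ker = Subgroup.center S :=
    Subgroup.eq_of_le_of_card_ge hker (by rw [hd])
  have hreq : ρ.range = τ.range :=
    Subgroup.eq_of_le_of_card_ge hrange (by rw [hr1, hr2])
  exact ⟨(QuotientGroup.quotientKerEquivRange τ).trans
    ((MulEquiv.subgroupCongr hreq.symm).trans
      ((QuotientGroup.quotientKerEquivRange ρ).symm.trans
        (QuotientGroup.quotientMulEquivOfEq hkeq)))⟩

/-- a normal subgroup of order two is central -/
theorem le_center_of_card_two {U : Type*} [Group U] (N : Subgroup U) [N.Normal]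
    (hN : Nat.card N = 2) : N ≤ Subgroup.center U := by
  intro n hn
  rw [Subgroup.mem_center_iff]
  intro g
  by_cases h1 : n = 1
  · rw [h1, mul_one, one_mul]
  · have hc : g * n * g⁻¹ ∈ N := Subgroup.Normal.conj_mem inferInstance n hn g
    have hne : g * n * g⁻¹ ≠ 1 := by
      intro h
      apply h1
      have : n = g⁻¹ * (g * n * g⁻¹) * g := by group
      rw [this, h]
      group
    have : Finite N := Nat.finite_of_card_ne_zero (by rw [hN]; norm_num)
    obtain ⟨x, y, hxy, huniv⟩ := Nat.card_eq_two_iff.1 hN
    have key : ∀ a b : N, a ≠ 1 → b ≠ 1 → a = b := by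
      intro a b ha hb
      have ha' := Set.mem_univ a
      have hb' := Set.mem_univ b
      have h1' := Set.mem_univ (1 : N)
      rw [← huniv] at ha' hb' h1'
      simp only [Set.mem_insert_iff, Set.mem_singleton_iff] at ha' hb' h1'
      rcases h1' with h | h <;> rcases ha' with ha' | ha' <;> rcases hb' with hb' | hb' <;>
        simp_all
    have := key ⟨g * n * g⁻¹, hc⟩ ⟨n, hn⟩ (fun h => hne (congrArg Subtype.val h))
      (fun h => h1 (congrArg Subtype.val h))
    have h2 : g * n * g⁻¹ = n := congrArg Subtype.val this
    calc g * n = g * n * g⁻¹ * g := by group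
      _ = n * g := by rw [h2]

/-- if the quotient by a normal subgroup of order two is simple of composite order, then that
subgroup is the centre -/
theorem center_eq_of_simple_quotient {U : Type*} [Group U] [Finite U] (N : Subgroup U) [N.Normal]
    (hN : Nat.card N = 2) (hQ : IsSimpleGroup (U ⧸ N)) (hnp : ¬ (Nat.card (U ⧸ N)).Prime) :
    Subgroup.center U = N := by
  apply le_antisymm _ (le_center_of_card_two N hN)
  have hnorm : ((Subgroup.center U).map (QuotientGroup.mk' N)).Normal :=
    Subgroup.Normal.map inferInstance _ (QuotientGroup.mk'_surjective N)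
  rcases hnorm.eq_bot_or_eq_top with h | h
  · intro x hx
    have : QuotientGroup.mk' N x ∈ (Subgroup.center U).map (QuotientGroup.mk' N) :=
      Subgroup.mem_map_of_mem _ hx
    rw [h, Subgroup.mem_bot] at this
    exact (QuotientGroup.eq_one_iff x).1 this
  · exfalso
    apply hnp
    have hcomm : ∀ a b : U ⧸ N, a * b = b * a := by
      intro a b
      have ha : a ∈ (Subgroup.center U).map (QuotientGroup.mk' N) := by rw [h]; trivial
      obtain ⟨x, hx, rfl⟩ := ha
      obtain ⟨y, rfl⟩ := QuotientGroup.mk'_surjective N b
      rw [← map_mul, ← map_mul, (Subgroup.mem_center_iff.1 hx y).symm]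
    letI : CommGroup (U ⧸ N) := { (inferInstance : Group (U ⧸ N)) with mul_comm := hcomm }
    exact IsSimpleGroup.prime_card

/-- a central element that is a product of commutators lies in no complement of a centre of order
two -/
theorem not_isComplement'_center {U : Type*} [Group U] [Finite U]
    (hc : Nat.card (Subgroup.center U) = 2) (z : U) (hz : z ∈ Subgroup.center U) (hz1 : z ≠ 1)
    (hzc : z ∈ commutator U) (L : Subgroup U) : ¬ (Subgroup.center U).IsComplement' L := by
  intro h
  have hidx : L.index = 2 := by rw [h.index_eq_card, hc]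
  have hnorm : L.Normal := Subgroup.normal_of_index_eq_two hidx
  have hcard : Nat.card (U ⧸ L) = 2 := hidx
  haveI : Fact (Nat.Prime 2) := ⟨Nat.prime_two⟩
  have hcyc : IsCyclic (U ⧸ L) := isCyclic_of_prime_card hcard
  letI : CommGroup (U ⧸ L) := IsCyclic.commGroup
  have hle : commutator U ≤ (QuotientGroup.mk' L).ker :=
    Abelianization.commutator_subset_ker (QuotientGroup.mk' L)
  rw [QuotientGroup.ker_mk'] at hle
  have hzL : z ∈ L := hle hzc
  have hdis := h.disjoint
  rw [Subgroup.disjoint_def] at hdis
  exact hz1 (hdis hz hzL)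

end Cfsg.Agent.Lib.Helper8.FaU
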