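import Cfsg.Agent.Lib.Helper8.FaUC
import Cfsg.Agent.Lib.Helper8.FaUD
import Cfsg.Agent.Lib.Helper8.FaUF
import Cfsg.Agent.Lib.Helper8.HeSpB
import Cfsg.Agent.Lib.Helper5.HermSimple
import Cfsg.Agent.S0280

/-! The subgroup of index 3510 of the presented Fischer group `Fi22` is a double cover of
`PSU(6,2)`: its centre has order two and the central quotient is `PSU(6,2)`. -/

set_option autoImplicit false

namespace Cfsg.Agent.Lib.Helper8.FaU

open Cfsg.Agent.Lib.Helper4.TC Cfsg.Agent.Lib.Helper4.TCD Cfsg.Agent.Lib.Helper4.TC.Log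
open Cfsg.Agent.Lib.Helper8.HeSp (blockSubgroup blockHom blockHom_eq K4)

set_option maxRecDepth 100000

/-- the subgroup of index 3510 -/
abbrev UFa : Subgroup PFi22.P.Grp := Inst.subG PFi22.P Fi22a.subs

/-- the label of a natural number -/
def cN (n : ℕ) : Option (Fin 693) := if h : cT n < 693 then some ⟨cT n, h⟩ else none

/-- the point of a table index -/
def cB (x : Fin Fi22a.T.N) : Option (Fin 693) := cN x.1

theorem cB_surj : ∀ y : Fin 693, ∃ x, cB x = some y := by
  intro y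
  obtain ⟨h1, h2⟩ := c_sec y
  refine ⟨⟨y.1 + 1, h1⟩, ?_⟩
  show cN (y.1 + 1) = some y
  unfold cN
  rw [dif_pos (by rw [h2]; exact y.2)]
  congr 1
  exact Fin.ext h2

theorem cN_resp (k : Fin 9) (i : ℕ) (hi : i < 3510) :
    cN (Tab.act Fi22a.T Fi22a.D (subsW k.1) i) = (cN i).map (pi k) := by
  unfold cN
  rw [c_resp k i hi]
  by_cases h : cT i < 693
  · have h' : pT k.1 (cT i) < 693 := (p_ok k ⟨cT i, h⟩).1
    rw [dif_pos h, dif_pos h', Option.map_some]
    rfl
  · have h693 : cT i = 693 := by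
      have := cT_le i hi
      omega
    rw [dif_neg h, Option.map_none, h693, p_693 k, dif_neg (by decide)]

theorem phi_word' (u : List ℕ) (hu : ∀ y ∈ u, y < 9) (x : Fin Fi22a.T.N) :
    (Fi22a.inst.phi (wordP PFi22.P.gR u) x).1 = Tab.act Fi22a.T Fi22a.D u x.1 := by
  rw [← Fi22a.inst.gE_word u hu]
  exact Fi22a.inst.hC.phi_word Fi22a.inst.phi Fi22a.inst.hphi u
    (fun y hy => by rw [Fi22a.inst.hk]; exact hu y hy) x

theorem subsW_lt : ∀ k : Fin 9, ∀ y ∈ subsW k.1, y < 9 := by decide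

theorem resp (k : Fin 9) (x : Fin Fi22a.T.N) :
    cB (Fi22a.inst.phi (wordP PFi22.P.gR (subsW k.1)) x) = (cB x).map (pi k) := by
  show cN (Fi22a.inst.phi (wordP PFi22.P.gR (subsW k.1)) x).1 = (cN x.1).map (pi k)
  rw [phi_word' _ (subsW_lt k)]
  exact cN_resp k x.1 x.2

theorem hmem (u : UFa) : Fi22a.inst.phi u.1 ∈ blockSubgroup cB := by
  have h : UFa ≤ (blockSubgroup cB).comap Fi22a.inst.phi := by
    unfold UFa Inst.subG
    rw [Subgroup.closure_le]
    rintro s ⟨u, hu, rfl⟩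
    obtain ⟨k, rfl⟩ := subs_cover u hu
    exact ⟨pi k, resp k⟩
  exact h u.2

/-- the action of the subgroup on the 693 points -/
noncomputable def tau : UFa →* Equiv.Perm (Fin 693) :=
  (blockHom cB cB_surj).comp
    ((Fi22a.inst.phi.comp UFa.subtype).codRestrict (blockSubgroup cB) hmem)

/-- the generators of the subgroup -/
noncomputable def uE (k : Fin 9) : UFa :=
  ⟨wordP PFi22.P.gR (subsW k.1), Subgroup.subset_closure ⟨subsW k.1, subsW_mem k, rfl⟩⟩

theorem tau_uE (k : Fin 9) : tau (uE k) = pi k :=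
  blockHom_eq cB cB_surj _ (pi k) (resp k)

theorem pimatch0 : ∀ j : Fin 693, pi 0 j = idx6 (gact 0 (W6 j)) := by decide +kernel
theorem pimatch1 : ∀ j : Fin 693, pi 1 j = idx6 (gact 1 (W6 j)) := by decide +kernel
theorem pimatch2 : ∀ j : Fin 693, pi 2 j = idx6 (gact 2 (W6 j)) := by decide +kernel
theorem pimatch3 : ∀ j : Fin 693, pi 3 j = idx6 (gact 3 (W6 j)) := by decide +kernel
theorem pimatch4 : ∀ j : Fin 693, pi 4 j = idx6 (gact 4 (W6 j)) := by decide +kernel
theorem pimatch5 : ∀ j : Fin 693, pi 5 j = idx6 (gact 5 (W6 j)) := by decide +kernel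
theorem pimatch6 : ∀ j : Fin 693, pi 6 j = idx6 (gact 6 (W6 j)) := by decide +kernel
theorem pimatch7 : ∀ j : Fin 693, pi 7 j = idx6 (gact 7 (W6 j)) := by decide +kernel
theorem pimatch8 : ∀ j : Fin 693, pi 8 j = idx6 (gact 8 (W6 j)) := by decide +kernel

theorem pimatch (k : Fin 9) (j : Fin 693) : pi k j = idx6 (gact k.1 (W6 j)) := by
  fin_cases k
  · exact pimatch0 j
  · exact pimatch1 j
  · exact pimatch2 j
  · exact pimatch3 j
  · exact pimatch4 j
  · exact pimatch5 j
  · exact pimatch6 j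
  · exact pimatch7 j
  · exact pimatch8 j

theorem tau_eq_rho (k : Fin 9) : tau (uE k) = rho (spOf k) := by
  rw [tau_uE]
  ext j
  rw [rho_spOf, pimatch]

theorem range_le : rho.range ≤ tau.range := by
  rw [MonoidHom.range_eq_map, ← closure_spOf, MonoidHom.map_closure, Subgroup.closure_le]
  rintro _ ⟨_, ⟨k, rfl⟩, rfl⟩
  exact ⟨uE k, tau_eq_rho k⟩

theorem card_PSU6 : Nat.card (Cfsg.PSU 6 K4 2) = 9196830720 := by
  have h := Cfsg.Agent.S0280.result k4card 6 (by norm_num)
  have h1 : Nat.gcd 6 (2 + 1) = 3 := by decide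
  rw [h1] at h
  have h2 : (2 : ℕ) ^ (6 * (6 - 1) / 2) * ∏ i ∈ Finset.range 6,
      (if Even i then 2 ^ (i + 1) + 1 else 2 ^ (i + 1) - 1) = 3 * ((2 + 1) * 9196830720) := by
    decide
  rw [h2] at h
  omega

theorem card_UFa (hcard : Nat.card PFi22.P.Grp = 64561751654400) :
    Nat.card UFa = 2 * 9196830720 := by
  have := UFa.index_mul_card
  rw [Fi22a.index_eq, hcard] at this
  omega

theorem ker_rho_le : rho.ker ≤ Subgroup.center SU6 := by
  rcases Cfsg.Agent.Lib.Helper5.HermSimple.normal_le_center_or_eq_top k4card 6 (by norm_num)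
    (by norm_num) rho.ker with h | h
  · exact h
  · exfalso
    have h1 : spOf 1 ∈ rho.ker := by rw [h]; trivial
    have h2 : rho (spOf 1) = 1 := h1
    have h3 := congrArg (fun p : Equiv.Perm (Fin 693) => p 2) h2
    rw [← tau_eq_rho, tau_uE] at h3
    revert h3
    decide +kernel

/-- the central involution: the first generator -/
theorem phi_a_ne_one : Fi22a.inst.phi (wordP PFi22.P.gR [0]) ≠ 1 := by
  intro h2
  have h3 : (Fi22a.inst.phi (wordP PFi22.P.gR [0]) ⟨694, by decide⟩).1 = 694 := by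
    rw [h2]
    rfl
  rw [phi_word' _ (by decide)] at h3
  exact wit_a h3

theorem uE0_ne_one : uE 0 ≠ 1 := by
  intro h
  have h1 : (uE 0).1 = 1 := congrArg Subtype.val h
  apply phi_a_ne_one
  have : (uE 0).1 = wordP PFi22.P.gR [0] := rfl
  rw [← this, h1, map_one]

theorem tau_uE0 : tau (uE 0) = 1 := by rw [tau_uE, pi_zero]

theorem cover (hfin : Finite PFi22.P.Grp) (hcard : Nat.card PFi22.P.Grp = 64561751654400) :
    Nat.card tau.ker = 2 ∧ Nonempty (UFa ⧸ tau.ker ≃* Cfsg.PSU 6 K4 2) :=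
  cover_iso 9196830720 (by norm_num) (card_UFa hcard) card_PSU6 tau rho ker_rho_le range_le (uE 0)
    uE0_ne_one tau_uE0

theorem center_eq (hfin : Finite PFi22.P.Grp) (hcard : Nat.card PFi22.P.Grp = 64561751654400) :
    Subgroup.center UFa = tau.ker := by
  obtain ⟨h2, ⟨e⟩⟩ := cover hfin hcard
  have hs : IsSimpleGroup (Cfsg.PSU 6 K4 2) :=
    Cfsg.Agent.Lib.Helper5.HermSimple.isSimpleGroup_PSU k4card 6 (by norm_num) (by norm_num)
  have hs' : IsSimpleGroup (UFa ⧸ tau.ker) := (MulEquiv.isSimpleGroup_congr e).2 hs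
  apply center_eq_of_simple_quotient tau.ker h2 hs'
  rw [Nat.card_congr e.toEquiv, card_PSU6]
  norm_num

end Cfsg.Agent.Lib.Helper8.FaU
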