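import Cfsg.Agent.Lib.Helper8.FaUE

/-! The subgroup of index 3510 of the presented Fischer group `Fi22` is a non-split double cover of
`PSU(6,2)`: the central involution is a product of commutators. -/

set_option autoImplicit false

namespace Cfsg.Agent.Lib.Helper8.FaU

open Cfsg.Spor Cfsg.Agent.Lib.Helper4.TC Cfsg.Agent.Lib.Helper4.TCD Cfsg.Agent.Lib.Helper4.TC.Log
open Cfsg.Agent.Lib.Helper8.HeSp (K4)

set_option maxRecDepth 100000

theorem phi_injective (hs : IsSimpleGroup PFi22.P.Grp) : Function.Injective Fi22a.inst.phi := by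
  rw [← MonoidHom.ker_eq_bot_iff]
  rcases Subgroup.Normal.eq_bot_or_eq_top (inferInstance : Fi22a.inst.phi.ker.Normal) with h | h
  · exact h
  · exfalso
    have h1 : wordP PFi22.P.gR [0] ∈ Fi22a.inst.phi.ker := by rw [h]; trivial
    exact phi_a_ne_one h1

/-- a word that acts trivially on the 3510 points is trivial -/
theorem rel_of_act (hinj : Function.Injective Fi22a.inst.phi) (w : List ℕ) (hw : ∀ y ∈ w, y < 9)
    (h : allBelow (fun i => Nat.beq (Tab.act Fi22a.T Fi22a.D w i) i) 3510 = true) :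
    wordP PFi22.P.gR w = 1 := by
  apply hinj
  rw [map_one]
  ext x
  rw [phi_word' w hw]
  exact beq_eq (allBelow_eq_true.1 h x.1 x.2)

def cycW : List ℕ :=
  subsW 4 ++ subsW 8 ++ subsW 4 ++ subsW 8 ++ subsW 3 ++ subsW 2 ++ subsW 1 ++ subsW 6

def relW : List ℕ := (List.replicate 5 cycW).flatten ++ subsW 0

theorem relW_lt : ∀ y ∈ relW, y < 9 := by decide

theorem relW_act : allBelow (fun i => Nat.beq (Tab.act Fi22a.T Fi22a.D relW i) i) 3510 = true := by
  decide +kernel

theorem sq_lt : ∀ k : Fin 9, ∀ y ∈ subsW k.1 ++ subsW k.1, y < 9 := by decide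

theorem sq_act : ∀ k : Fin 9,
    allBelow (fun i => Nat.beq (Tab.act Fi22a.T Fi22a.D (subsW k.1 ++ subsW k.1) i) i) 3510 = true := by
  decide +kernel

theorem br_lt : ∀ k : Fin 9, ∀ y ∈ (List.replicate 3 (subsW k.1 ++ subsW 2)).flatten, y < 9 := by decide

theorem br_act_1 : allBelow (fun i => Nat.beq
    (Tab.act Fi22a.T Fi22a.D (List.replicate 3 (subsW 1 ++ subsW 2)).flatten i) i) 3510 = true := by
  decide +kernel
theorem br_act_3 : allBelow (fun i => Nat.beq
    (Tab.act Fi22a.T Fi22a.D (List.replicate 3 (subsW 3 ++ subsW 2)).flatten i) i) 3510 = true := by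
  decide +kernel
theorem br_act_6 : allBelow (fun i => Nat.beq
    (Tab.act Fi22a.T Fi22a.D (List.replicate 3 (subsW 6 ++ subsW 2)).flatten i) i) 3510 = true := by
  decide +kernel

theorem uE_coe (k : Fin 9) : ((uE k : UFa) : PFi22.P.Grp) = wordP PFi22.P.gR (subsW k.1) := rfl

theorem uE_sq (hinj : Function.Injective Fi22a.inst.phi) (k : Fin 9) : uE k * uE k = 1 := by
  apply Subtype.ext
  rw [Subgroup.coe_mul, Subgroup.coe_one, uE_coe, ← wordP_append]
  exact rel_of_act hinj _ (sq_lt k) (sq_act k)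

theorem uE_braid (hinj : Function.Injective Fi22a.inst.phi) (k : Fin 9)
    (h : allBelow (fun i => Nat.beq
      (Tab.act Fi22a.T Fi22a.D (List.replicate 3 (subsW k.1 ++ subsW 2)).flatten i) i) 3510 = true) :
    (uE k * uE 2) ^ 3 = 1 := by
  apply Subtype.ext
  rw [Subgroup.coe_pow, Subgroup.coe_mul, Subgroup.coe_one, uE_coe, uE_coe, ← wordP_append,
    ← wordP_replicate_flatten]
  exact rel_of_act hinj _ (br_lt k) h

/-- the product whose fifth power is the central involution -/
noncomputable def cyc : UFa := uE 4 * uE 8 * uE 4 * uE 8 * uE 3 * uE 2 * uE 1 * uE 6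

theorem cyc_rel (hinj : Function.Injective Fi22a.inst.phi) : cyc ^ 5 * uE 0 = 1 := by
  apply Subtype.ext
  have h := rel_of_act hinj relW relW_lt relW_act
  unfold relW cycW at h
  rw [wordP_append, wordP_replicate_flatten, wordP_append, wordP_append, wordP_append, wordP_append,
    wordP_append, wordP_append, wordP_append] at h
  unfold cyc
  simp only [Subgroup.coe_mul, Subgroup.coe_pow, Subgroup.coe_one, uE_coe]
  exact h

theorem ab_eq {A : Type*} [CommGroup A] (x y : A) (hx : x * x = 1) (hy : y * y = 1)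
    (h3 : (x * y) ^ 3 = 1) : x = y := by
  have h2 : (x * y) ^ 2 = 1 := by
    rw [pow_two, mul_mul_mul_comm, hx, hy, one_mul]
  have h1 : x * y = 1 := by
    rw [pow_succ, h2, one_mul] at h3
    exact h3
  have hy' : y⁻¹ = y := inv_eq_of_mul_eq_one_left hy
  rw [← hy']
  exact eq_inv_of_mul_eq_one_left h1

theorem uE0_mem_commutator (hinj : Function.Injective Fi22a.inst.phi) : uE 0 ∈ commutator UFa := by
  rw [← Abelianization.ker_of]
  show Abelianization.of (uE 0) = 1
  have sq : ∀ k : Fin 9, Abelianization.of (uE k) * Abelianization.of (uE k) = 1 := by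
    intro k
    rw [← map_mul, uE_sq hinj, map_one]
  have br : ∀ k : Fin 9, (uE k * uE 2) ^ 3 = 1 →
      Abelianization.of (uE k) = Abelianization.of (uE 2) := by
    intro k hk
    apply ab_eq _ _ (sq k) (sq 2)
    rw [← map_mul, ← map_pow, hk, map_one]
  have e1 := br 1 (uE_braid hinj 1 br_act_1)
  have e3 := br 3 (uE_braid hinj 3 br_act_3)
  have e6 := br 6 (uE_braid hinj 6 br_act_6)
  have hbig := congrArg Abelianization.of (cyc_rel hinj)
  unfold cyc at hbig
  simp only [map_mul, map_pow, map_one] at hbig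
  rw [e1, e3, e6] at hbig
  have hone : Abelianization.of (uE 4) * Abelianization.of (uE 8) * Abelianization.of (uE 4) *
      Abelianization.of (uE 8) * Abelianization.of (uE 2) * Abelianization.of (uE 2) *
      Abelianization.of (uE 2) * Abelianization.of (uE 2) = 1 := by
    calc _ = (Abelianization.of (uE 4) * Abelianization.of (uE 4)) *
        (Abelianization.of (uE 8) * Abelianization.of (uE 8)) *
        ((Abelianization.of (uE 2) * Abelianization.of (uE 2)) *
        (Abelianization.of (uE 2) * Abelianization.of (uE 2))) := by ac_rfl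
      _ = 1 := by rw [sq 4, sq 8, sq 2, one_mul, one_mul]
  rw [hone, one_pow, one_mul] at hbig
  exact hbig

/-- the subgroup of index 3510 is a non-split double cover of `PSU(6,2)` -/
theorem nonsplit (hfin : Finite PFi22.P.Grp) (hcard : Nat.card PFi22.P.Grp = 64561751654400)
    (hs : IsSimpleGroup PFi22.P.Grp) : Cfsg.IsNonsplitDoubleCover UFa (Cfsg.PSU 6 K4 2) := by
  have hinj := phi_injective hs
  obtain ⟨h2, ⟨e⟩⟩ := cover hfin hcard
  have hc := center_eq hfin hcard
  have hc2 : Nat.card (Subgroup.center UFa) = 2 := by rw [hc]; exact h2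
  refine ⟨hc2, ⟨(QuotientGroup.quotientMulEquivOfEq hc).trans e⟩, ?_⟩
  intro L
  exact not_isComplement'_center hc2 (uE 0) (by rw [hc]; exact tau_uE0) uE0_ne_one
    (uE0_mem_commutator hinj) L

theorem HFa_eq :
    ((Subgroup.closure ({Fi22.a, Fi22.c, Fi22.d, Fi22.e, Fi22.f, Fi22.g, Fi22.h, Fi22.i,
        (Fi22.a * Fi22.b * Fi22.c * Fi22.d * Fi22.e * Fi22.h) ^ 5} : Set (FreeGroup Fi22.Gen))).map
        (PresentedGroup.mk PFi22.P.rels) : Subgroup PFi22.P.Grp) = UFa := by
  rw [MonoidHom.map_closure]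
  unfold UFa Inst.subG
  congr 1
  ext x
  simp only [Set.image_insert_eq, Set.image_singleton, Set.mem_insert_iff, Set.mem_singleton_iff,
    Set.mem_setOf_eq, Fi22a.subs, List.mem_cons, List.not_mem_nil, or_false, exists_eq_or_imp,
    exists_eq_left, Log.wordP_cons, Log.wordP_nil, wordP_replicate_flatten, mul_one, map_mul, map_pow]
  rfl

end Cfsg.Agent.Lib.Helper8.FaU
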