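import Cfsg.Agent.Lib.Helper8.FaUA
import Cfsg.Agent.Lib.Helper5.HermSU

/-! The action of `SU(6,2)` on the 693 isotropic points, as a permutation representation, and the
unitary transvections. -/

set_option autoImplicit false

namespace Cfsg.Agent.Lib.Helper8.FaU

open Matrix Cfsg.Agent.Lib.Helper8.HeSp Cfsg.Agent.Lib.Helper5.Herm Cfsg.Agent.Lib.Helper5.HermTv
  Cfsg.Agent.Lib.Helper5.HermGen

/-- the special unitary group `SU(6,2)` over the concrete field with four elements -/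
abbrev SU6 : Type := ↥(Cfsg.SU 6 K4 2)

theorem k4card : Fintype.card K4 = 2 ^ 2 := rfl

/-- the matrix of an element -/
abbrev mat (A : SU6) : Matrix (Fin 6) (Fin 6) K4 := A.1.1

theorem mat_one : mat 1 = 1 := rfl

theorem mat_mul (A B : SU6) : mat (A * B) = mat A * mat B := rfl

theorem mat_herm (A : SU6) (x y : Fin 6 → K4) :
    Cfsg.hermForm 6 K4 2 (mat A *ᵥ x) (mat A *ᵥ y) = Cfsg.hermForm 6 K4 2 x y := A.2 x y

theorem mat_inv_mul (A : SU6) (x : Fin 6 → K4) : mat A⁻¹ *ᵥ (mat A *ᵥ x) = x := by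
  rw [mulVec_mulVec, ← mat_mul, inv_mul_cancel, mat_one, one_mulVec]

theorem mat_ext {A B : SU6} (h : mat A = mat B) : A = B := Subtype.ext (Subtype.ext h)

theorem mat_mulVec_ne_zero (A : SU6) (x : Fin 6 → K4) (hx : x ≠ 0) : mat A *ᵥ x ≠ 0 := by
  intro h
  have h1 := mat_inv_mul A x
  rw [h, mulVec_zero] at h1
  exact hx h1.symm

/-- the action on point indices -/
noncomputable def pact (A : SU6) (j : Fin 693) : Fin 693 := idx6 (V6.ofV (mat A *ᵥ (W6 j).toV))

theorem W6_toV_ne_zero (j : Fin 693) : (W6 j).toV ≠ 0 := by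
  intro h
  apply (W6_iso j).2
  apply V6.toV_injective
  rw [h, V6.toV_zero]

theorem pact_one (j : Fin 693) : pact 1 j = j := by
  unfold pact
  rw [mat_one, one_mulVec, V6.ofV_toV, idx6_W6]

theorem pact_mul (A B : SU6) (j : Fin 693) : pact (A * B) j = pact A (pact B j) := by
  unfold pact
  have hy0 : V6.ofV (mat B *ᵥ (W6 j).toV) ≠ V6.zero := by
    rw [Ne, V6.ofV_eq_zero_iff]
    exact mat_mulVec_ne_zero B _ (W6_toV_ne_zero j)
  have hyi : V6.herm (V6.ofV (mat B *ᵥ (W6 j).toV)) (V6.ofV (mat B *ᵥ (W6 j).toV)) = 0 := by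
    rw [← V6.herm_toV, V6.toV_ofV, mat_herm, V6.herm_toV]
    exact (W6_iso j).1
  obtain ⟨l, hl, hW⟩ := W6_idx6' _ hy0 hyi
  rw [hW, V6.toV_smul, V6.toV_ofV, mulVec_smul, V6.ofV_smul, idx6_smul' _ _ hl, mulVec_mulVec, mat_mul]

noncomputable instance instMulActionSU6 : MulAction SU6 (Fin 693) where
  smul := pact
  one_smul := pact_one
  mul_smul := pact_mul

/-- the permutation representation on the 693 isotropic points -/
noncomputable def rho : SU6 →* Equiv.Perm (Fin 693) := MulAction.toPermHom SU6 (Fin 693)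

theorem rho_apply (A : SU6) (j : Fin 693) : rho A j = pact A j := rfl

/-! ### transvections -/

theorem qc1 (t : V6) (h : V6.herm t t = 0) : QCond 6 2 t.toV (1 : K4) := by
  unfold QCond
  rw [V6.herm_toV, h]
  decide

/-- the transvection `x ↦ x + h(x,t) t` for an isotropic vector `t` (and `1` otherwise) -/
noncomputable def tv (t : V6) : SU6 :=
  if h : V6.herm t t = 0 then
    ⟨⟨Cfsg.unitaryTransvection 6 2 t.toV 1, by
        rw [det_tv, V6.herm_toV, h, mul_zero, add_zero]⟩,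
      fun x y => (qtv k4card 6 t.toV 1 (qc1 t h)).2 x y⟩
  else 1

theorem mat_tv (t : V6) (h : V6.herm t t = 0) : mat (tv t) = Cfsg.unitaryTransvection 6 2 t.toV 1 := by
  unfold tv
  rw [dif_pos h]

/-- the transvection on vectors -/
def tvV (t x : V6) : V6 := V6.add x (V6.smul (V6.herm x t) t)

theorem tv_mulVec (t x : V6) (h : V6.herm t t = 0) : mat (tv t) *ᵥ x.toV = (tvV t x).toV := by
  rw [mat_tv t h, unitaryTransvection_mulVec, one_mul, V6.herm_toV, tvV, V6.toV_add, V6.toV_smul]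

theorem herm_ofV (x y : Fin 6 → K4) : V6.herm (V6.ofV x) (V6.ofV y) = Cfsg.hermForm 6 K4 2 x y := by
  rw [← V6.herm_toV, V6.toV_ofV, V6.toV_ofV]

theorem tv_conj (A : SU6) (t : V6) (h : V6.herm t t = 0) :
    A * tv t * A⁻¹ = tv (V6.ofV (mat A *ᵥ t.toV)) := by
  have h' : V6.herm (V6.ofV (mat A *ᵥ t.toV)) (V6.ofV (mat A *ᵥ t.toV)) = 0 := by
    rw [herm_ofV, mat_herm, V6.herm_toV, h]
  rw [mul_inv_eq_iff_eq_mul]
  apply mat_ext
  rw [mat_mul, mat_mul, mat_tv _ h, mat_tv _ h', V6.toV_ofV, Matrix.ext_iff_mulVec]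
  intro x
  rw [← mulVec_mulVec, ← mulVec_mulVec, unitaryTransvection_mulVec, unitaryTransvection_mulVec,
    mulVec_add, mulVec_smul, mat_herm]

theorem pact_tv (t : V6) (h : V6.herm t t = 0) (j : Fin 693) : pact (tv t) j = idx6 (tvV t (W6 j)) := by
  unfold pact
  rw [tv_mulVec t _ h, V6.ofV_toV]

end Cfsg.Agent.Lib.Helper8.FaU
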