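import Cfsg.Agent.Lib.Helper8.FaUG
import Cfsg.Agent.Lib.Helper4.TC13
import Cfsg.Agent.S1696

/-! The presented Fischer group `Fi22` as a 3-transposition group: the class of the generator `a` has
3510 elements, any two of which have a product of order at most 3, and the centraliser of each is a
non-split double cover of `PSU(6,2)`.  (The argument follows the one of `Helper4.Fi23Trans`.) -/

set_option autoImplicit false

namespace Cfsg.Agent.Lib.Helper8.FaU

open Cfsg.Spor Cfsg.Agent.Lib.Helper4.TC Cfsg.Agent.Lib.Helper4.TCD Cfsg.Agent.Lib.Helper4.TC.Log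
open Cfsg.Agent.Lib.Helper8.HeSp (K4)

set_option maxRecDepth 100000

/-! ### transport of double covers along isomorphisms -/

theorem center_map_equiv' {A B : Type*} [Group A] [Group B] (e : A ≃* B) :
    (Subgroup.center A).map e.toMonoidHom = Subgroup.center B := by
  ext b
  constructor
  · rintro ⟨a, ha, rfl⟩
    have ha' : a ∈ Subgroup.center A := ha
    rw [Subgroup.mem_center_iff] at ha' ⊢
    intro y
    obtain ⟨x, rfl⟩ := e.surjective y
    show e x * e a = e a * e x
    rw [← map_mul, ← map_mul, ha' x]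
  · intro hb
    have hsym : e.symm b ∈ Subgroup.center A := by
      rw [Subgroup.mem_center_iff] at hb ⊢
      intro x
      apply e.injective
      rw [map_mul, map_mul, e.apply_symm_apply]
      exact hb (e x)
    exact ⟨e.symm b, hsym, by simp⟩

theorem nonsplit_of_equiv' {A B X : Type*} [Group A] [Group B] [Group X] [Finite A] (e : A ≃* B)
    (h : Cfsg.IsNonsplitDoubleCover A X) : Cfsg.IsNonsplitDoubleCover B X := by
  obtain ⟨h1, ⟨i⟩, h3⟩ := h
  have hc := center_map_equiv' e
  refine ⟨?_, ?_, ?_⟩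
  · rw [← hc]
    rw [← h1]
    exact (Nat.card_congr (e.subgroupMap (Subgroup.center A)).toEquiv).symm
  · have q : A ⧸ Subgroup.center A ≃* B ⧸ Subgroup.center B :=
      QuotientGroup.congr (Subgroup.center A) (Subgroup.center B) e hc
    exact ⟨q.symm.trans i⟩
  · intro L hL
    have hfB : Finite B := Finite.of_equiv A e.toEquiv
    apply h3 (L.map e.symm.toMonoidHom)
    rw [Subgroup.isComplement'_iff_card_mul_and_disjoint] at hL ⊢
    obtain ⟨c1, c2⟩ := hL
    refine ⟨?_, ?_⟩
    · have e1 : Nat.card (L.map e.symm.toMonoidHom) = Nat.card L :=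
        (Nat.card_congr (e.symm.subgroupMap L).toEquiv).symm
      have e2 : Nat.card (Subgroup.center A) = Nat.card (Subgroup.center B) := by
        rw [← hc]
        exact Nat.card_congr (e.subgroupMap (Subgroup.center A)).toEquiv
      rw [e1, e2, c1]
      exact (Nat.card_congr e.toEquiv).symm
    · rw [Subgroup.disjoint_def] at c2 ⊢
      intro x hx1 hx2
      obtain ⟨y, hy, rfl⟩ := hx2
      have hy1 : y ∈ Subgroup.center B := by
        rw [← hc]
        exact ⟨e.symm y, hx1, by simp⟩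
      have := c2 hy1 hy
      rw [this]
      simp

/-! ### the group, the subgroup and the transposition -/

/-- the presented group -/
abbrev G22 : Type := PFi22.P.Grp

/-- the generator `a` -/
noncomputable def zT : G22 := wordP PFi22.P.gR [0]

/-- the action on the 3510 points -/
noncomputable abbrev φT : G22 →* Equiv.Perm (Fin Fi22a.T.N) := Fi22a.inst.phi

theorem fin22 : Finite G22 := Cfsg.Agent.S1696.order_aux.1

theorem card22 : Nat.card G22 = 64561751654400 := Cfsg.Agent.S1696.order_aux.2.2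

theorem simple22 : IsSimpleGroup G22 := Cfsg.Agent.S1696.simple_aux

theorem φT_inj : Function.Injective φT := phi_injective simple22

theorem cover22 : Cfsg.IsNonsplitDoubleCover UFa (Cfsg.PSU 6 K4 2) := nonsplit fin22 card22 simple22

theorem zT_coe : ((uE 0 : UFa) : G22) = zT := rfl

theorem zT_comm (y : G22) (hy : y ∈ UFa) : y * zT = zT * y := by
  have h1 : uE 0 ∈ Subgroup.center UFa := by
    rw [center_eq fin22 card22]
    exact tau_uE0
  rw [Subgroup.mem_center_iff] at h1
  have h2 := h1 ⟨y, hy⟩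
  have h3 := congrArg (Subtype.val) h2
  exact h3

theorem prim22 : MulAction.IsPreprimitive G22 (G22 ⧸ UFa) := by
  apply preprimitive_of_intervals UFa Fi22a.inst.equiv [1, 693, 2816] Fi22a.inst.hC.hN (by decide) _ _
    (by decide)
  · intro h hh
    rw [Fi22a.inst.smul_equiv, Fi22a.inst.hfix h hh]
  · refine ⟨?_, ?_, ?_, trivial⟩
    · intro j j' _ h2 _ h4
      have e1 : j = j' := Fin.ext (by omega)
      exact ⟨1, one_mem _, by rw [one_smul, e1]⟩
    · intro j j' h1 h2 h3 h4
      exact Fi22a.inst.trans_of_orbit_eq 1 694 (by decide) (by decide)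
        (Fi22a.inst.orbit_eq Fi22a.oparTab Fi22a.olabTab 1 694 (by decide) (by decide) Fi22a.orb_inv_0
          Fi22a.orb_tree_0) j j' (by omega) (by omega) (by omega) (by omega)
    · intro j j' h1 h2 h3 h4
      exact Fi22a.inst.trans_of_orbit_eq 694 3510 (by decide) (by decide)
        (Fi22a.inst.orbit_eq Fi22a.oparTab Fi22a.olabTab 694 3510 (by decide) (by decide) Fi22a.orb_inv_1
          Fi22a.orb_tree_1) j j' (by omega) (by omega) (by omega) (by omega)

theorem UFa_index : (UFa : Subgroup G22).index = 3510 := Fi22a.index_eq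

theorem UFa_coatom : IsCoatom UFa := by
  haveI := prim22
  haveI := fin22
  haveI : Nontrivial (G22 ⧸ UFa) := by
    rw [← Finite.one_lt_card_iff_nontrivial]
    have : Nat.card (G22 ⧸ UFa) = 3510 := UFa_index
    omega
  have h := MulAction.IsPreprimitive.isCoatom_stabilizer_of_isPreprimitive (G := G22) (X := G22 ⧸ UFa)
    ((1 : G22) : G22 ⧸ UFa)
  rwa [MulAction.stabilizer_quotient] at h

theorem zT_ne_one : zT ≠ 1 := by
  intro h
  exact phi_a_ne_one (by rw [show wordP PFi22.P.gR [0] = zT from rfl, h, map_one])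

theorem zT_sq : zT * zT = 1 := by
  have h := uE_sq φT_inj 0
  have h2 := congrArg (Subtype.val) h
  exact h2

theorem zT_inv : zT⁻¹ = zT := inv_eq_of_mul_eq_one_right zT_sq

theorem orderOf_zT : orderOf zT = 2 := orderOf_eq_prime (by rw [pow_two]; exact zT_sq) zT_ne_one

theorem ab_act : Tab.act Fi22a.T Fi22a.D [0, 1] 0 ≠ Tab.act Fi22a.T Fi22a.D [1, 0] 0 := by
  decide +kernel

theorem not_comm22 : PFi22.P.gR 0 * PFi22.P.gR 1 ≠ PFi22.P.gR 1 * PFi22.P.gR 0 := by
  intro h
  have h1 : wordP PFi22.P.gR [0, 1] = wordP PFi22.P.gR [1, 0] := by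
    simp only [wordP_cons, wordP_nil, mul_one]
    exact h
  have h2 : (φT (wordP PFi22.P.gR [0, 1]) ⟨0, Fi22a.inst.hC.hN⟩).1 =
      (φT (wordP PFi22.P.gR [1, 0]) ⟨0, Fi22a.inst.hC.hN⟩).1 := by rw [h1]
  rw [phi_word' _ (by decide), phi_word' _ (by decide)] at h2
  exact ab_act h2

theorem centralizer_zT : Subgroup.centralizer {zT} = UFa := by
  have hle : UFa ≤ Subgroup.centralizer {zT} := by
    intro y hy
    rw [Subgroup.mem_centralizer_iff]
    intro w hw
    rw [Set.mem_singleton_iff] at hw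
    rw [hw]
    exact (zT_comm y hy).symm
  rcases eq_or_lt_of_le hle with h | h
  · exact h.symm
  · exfalso
    have htop := UFa_coatom.2 _ h
    have hz : zT ∈ Subgroup.center G22 := by
      rw [Subgroup.mem_center_iff]
      intro y
      have : y ∈ Subgroup.centralizer {zT} := by rw [htop]; trivial
      rw [Subgroup.mem_centralizer_iff] at this
      exact (this zT rfl).symm
    have hs := simple22
    rcases hs.eq_bot_or_eq_top_of_normal (Subgroup.center G22) inferInstance with hc | hc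
    · rw [hc, Subgroup.mem_bot] at hz
      exact zT_ne_one hz
    · have : PFi22.P.gR 1 ∈ Subgroup.center G22 := by rw [hc]; trivial
      rw [Subgroup.mem_center_iff] at this
      exact not_comm22 (this (PFi22.P.gR 0))

/-! ### the three suborbit representatives -/

theorem gR_inv22 (l : ℕ) (hl : l < 9) : (PFi22.P.gR l)⁻¹ = PFi22.P.gR l := by
  have := (PFi22.valid.invR_sound l (show l ≤ PFi22.P.k from le_of_lt hl)).2
  have hinv : PFi22.P.invR l = l := rfl
  rw [hinv] at this
  exact this.symm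

theorem word_inv22 (u : List ℕ) (hu : ∀ x ∈ u, x < 9) :
    (wordP PFi22.P.gR u)⁻¹ = wordP PFi22.P.gR u.reverse := by
  induction u with
  | nil => simp
  | cons x u ih =>
    rw [wordP_cons, mul_inv_rev, ih fun y hy => hu y (List.mem_cons_of_mem _ hy),
      gR_inv22 x (hu x List.mem_cons_self), List.reverse_cons, wordP_append, wordP_cons, wordP_nil, mul_one]

/-- the word of the first representative -/
def g1W : List ℕ := [1, 2, 0, 1]
/-- the word of the second representative -/
def g2W : List ℕ := [1]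

noncomputable def G1 : G22 := wordP PFi22.P.gR g1W
noncomputable def G2 : G22 := wordP PFi22.P.gR g2W
noncomputable def e1 : G22 := G1 * zT * G1⁻¹
noncomputable def e2 : G22 := G2 * zT * G2⁻¹

theorem ze1_word : zT * e1 = wordP PFi22.P.gR ([0] ++ g1W ++ [0] ++ g1W.reverse) := by
  rw [e1, G1, word_inv22 _ (by decide), zT, wordP_append, wordP_append, wordP_append]
  group

theorem ze2_word : zT * e2 = wordP PFi22.P.gR ([0] ++ g2W ++ [0] ++ g2W.reverse) := by
  rw [e2, G2, word_inv22 _ (by decide), zT, wordP_append, wordP_append, wordP_append]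
  group

theorem ze1_act : allBelow (fun i => Nat.beq (Tab.act Fi22a.T Fi22a.D
    (([0] ++ g1W ++ [0] ++ g1W.reverse) ++ ([0] ++ g1W ++ [0] ++ g1W.reverse)) i) i) 3510 = true := by
  decide +kernel

theorem ze2_act : allBelow (fun i => Nat.beq (Tab.act Fi22a.T Fi22a.D
    (([0] ++ g2W ++ [0] ++ g2W.reverse) ++ (([0] ++ g2W ++ [0] ++ g2W.reverse) ++
      ([0] ++ g2W ++ [0] ++ g2W.reverse))) i) i) 3510 = true := by
  decide +kernel

theorem ze1_sq : (zT * e1) ^ 2 = 1 := by
  rw [ze1_word, pow_two, ← wordP_append]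
  exact rel_of_act φT_inj _ (by decide) ze1_act

theorem ze2_cube : (zT * e2) ^ 3 = 1 := by
  rw [ze2_word, pow_succ, pow_two, ← wordP_append, ← wordP_append, List.append_assoc]
  exact rel_of_act φT_inj _ (by decide) ze2_act

theorem g1_act : Tab.act Fi22a.T Fi22a.D g1W 0 = 1 := by decide +kernel
theorem g2_act : Tab.act Fi22a.T Fi22a.D g2W 0 = 694 := by decide +kernel

/-- the coset of `g` corresponds to the image of the base point -/
theorem mk_eq_equiv22 (g : G22) :
    (QuotientGroup.mk g : G22 ⧸ UFa) = Fi22a.inst.equiv (φT g ⟨0, Fi22a.inst.hC.hN⟩) := by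
  have h0 : Fi22a.inst.equiv ⟨0, Fi22a.inst.hC.hN⟩ = (QuotientGroup.mk (1 : G22) : G22 ⧸ UFa) := by
    show cosetEquiv _ _ _ _ _ _ _ _ = _
    rw [cosetEquiv_apply, Tab.repG]
    have : Fi22a.T.nameOf 0 = 0 := Fi22a.inst.hC.hname0
    rw [this, Log.V_zero, inv_one]
  have := Fi22a.inst.smul_equiv g ⟨0, Fi22a.inst.hC.hN⟩
  rw [h0] at this
  show _ = Fi22a.inst.equiv (Fi22a.inst.phi g ⟨0, Fi22a.inst.hC.hN⟩)
  rw [← this]
  show _ = (QuotientGroup.mk (g * 1) : G22 ⧸ UFa)
  rw [mul_one]

/-- every conjugate of `a` is conjugate under the subgroup to `a`, `e1` or `e2` -/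
theorem conj_cases22 (g : G22) : ∃ k ∈ UFa, k * (g * zT * g⁻¹) * k⁻¹ = zT ∨
    k * (g * zT * g⁻¹) * k⁻¹ = e1 ∨ k * (g * zT * g⁻¹) * k⁻¹ = e2 := by
  have step : ∀ (k g' : G22), k ∈ UFa → (QuotientGroup.mk (k * g) : G22 ⧸ UFa) = QuotientGroup.mk g' →
      k * (g * zT * g⁻¹) * k⁻¹ = g' * zT * g'⁻¹ := by
    intro k g' _ h
    have hk' : (k * g)⁻¹ * g' ∈ UFa := QuotientGroup.eq.1 h
    set k' := (k * g)⁻¹ * g' with hk'def
    have hg' : g' = k * g * k' := by rw [hk'def]; group
    have hc := zT_comm k' hk'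
    rw [hg']
    have : k * g * k' * zT * (k * g * k')⁻¹ = k * g * (k' * zT * k'⁻¹) * g⁻¹ * k⁻¹ := by group
    rw [this]
    have : k' * zT * k'⁻¹ = zT := by rw [hc, mul_inv_cancel_right]
    rw [this]
    group
  set j := φT g ⟨0, Fi22a.inst.hC.hN⟩ with hj
  have hjN : j.1 < 3510 := j.2
  have hmk : ∀ k : G22, (QuotientGroup.mk (k * g) : G22 ⧸ UFa) = k • Fi22a.inst.equiv j := by
    intro k
    rw [hj, ← mk_eq_equiv22]
    rfl
  rcases Nat.lt_or_ge j.1 1 with h0 | h0
  · refine ⟨1, one_mem _, Or.inl ?_⟩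
    have hj0 : j = ⟨0, Fi22a.inst.hC.hN⟩ := Fin.ext (show j.1 = 0 by omega)
    have := step 1 1 (one_mem _) (by
      rw [hmk 1, one_smul, hj0]
      have := mk_eq_equiv22 1
      rw [map_one] at this
      exact this.symm)
    rw [this]
    group
  rcases Nat.lt_or_ge j.1 694 with h1 | h1
  · have hj1 : (φT G1 ⟨0, Fi22a.inst.hC.hN⟩).1 = 1 := by
      rw [G1, phi_word' _ (by decide)]
      exact g1_act
    obtain ⟨k, hk, hke⟩ := Fi22a.inst.trans_of_orbit_eq 1 694 (by decide) (by decide)
      (Fi22a.inst.orbit_eq Fi22a.oparTab Fi22a.olabTab 1 694 (by decide) (by decide) Fi22a.orb_inv_0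
        Fi22a.orb_tree_0) j (φT G1 ⟨0, Fi22a.inst.hC.hN⟩) h0 h1 (by omega) (by omega)
    refine ⟨k, hk, Or.inr (Or.inl ?_)⟩
    rw [e1]
    apply step k G1 hk
    rw [hmk k, hke, ← mk_eq_equiv22]
  · have hj2 : (φT G2 ⟨0, Fi22a.inst.hC.hN⟩).1 = 694 := by
      rw [G2, phi_word' _ (by decide)]
      exact g2_act
    obtain ⟨k, hk, hke⟩ := Fi22a.inst.trans_of_orbit_eq 694 3510 (by decide) (by decide)
      (Fi22a.inst.orbit_eq Fi22a.oparTab Fi22a.olabTab 694 3510 (by decide) (by decide) Fi22a.orb_inv_1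
        Fi22a.orb_tree_1) j (φT G2 ⟨0, Fi22a.inst.hC.hN⟩) h1 hjN (by omega) (by omega)
    refine ⟨k, hk, Or.inr (Or.inr ?_)⟩
    rw [e2]
    apply step k G2 hk
    rw [hmk k, hke, ← mk_eq_equiv22]

/-- products of `a` with its conjugates -/
theorem zT_conj_pow (g : G22) : (zT * (g * zT * g⁻¹)) ^ 2 = 1 ∨ (zT * (g * zT * g⁻¹)) ^ 3 = 1 := by
  obtain ⟨k, hk, hcase⟩ := conj_cases22 g
  have hkz : k * zT * k⁻¹ = zT := by
    have := zT_comm k hk
    rw [this, mul_inv_cancel_right]
  have hconj : ∀ y : G22, k * (zT * y) * k⁻¹ = zT * (k * y * k⁻¹) := by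
    intro y
    calc k * (zT * y) * k⁻¹ = (k * zT * k⁻¹) * (k * y * k⁻¹) := by group
      _ = zT * (k * y * k⁻¹) := by rw [hkz]
  have hpow : ∀ n : ℕ, (zT * (k * (g * zT * g⁻¹) * k⁻¹)) ^ n = 1 → (zT * (g * zT * g⁻¹)) ^ n = 1 := by
    intro n hn
    rw [← hconj, conj_pow] at hn
    have : (zT * (g * zT * g⁻¹)) ^ n = k⁻¹ * (k * (zT * (g * zT * g⁻¹)) ^ n * k⁻¹) * k := by group
    rw [this, hn]
    group
  rcases hcase with h | h | h
  · left
    apply hpow
    rw [h, zT_sq, one_pow]
  · left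
    apply hpow
    rw [h]
    exact ze1_sq
  · right
    apply hpow
    rw [h]
    exact ze2_cube

/-- the class of 3-transpositions -/
def Dz22 : Set G22 := conjugatesOf zT

theorem mem_Dz22 (d : G22) : d ∈ Dz22 ↔ ∃ c : G22, c * zT * c⁻¹ = d := by
  show IsConj zT d ↔ _
  exact isConj_iff

theorem three_transposition_set22 : Cfsg.IsThreeTranspositionSet Dz22 := by
  refine ⟨?_, ?_⟩
  · intro d hd
    obtain ⟨c, rfl⟩ := (mem_Dz22 d).1 hd
    have : c * zT * c⁻¹ = MulAut.conj c zT := rfl
    rw [this, MulEquiv.orderOf_eq]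
    exact orderOf_zT
  · intro d hd e he
    obtain ⟨c, rfl⟩ := (mem_Dz22 d).1 hd
    obtain ⟨c', rfl⟩ := (mem_Dz22 e).1 he
    have key : c * zT * c⁻¹ * (c' * zT * c'⁻¹) =
        c * (zT * ((c⁻¹ * c') * zT * (c⁻¹ * c')⁻¹)) * c⁻¹ := by group
    rw [key, conj_pow, conj_pow]
    rcases zT_conj_pow (c⁻¹ * c') with h | h
    · left; rw [h]; group
    · right; rw [h]; group

theorem closure_Dz22 : Subgroup.closure Dz22 = ⊤ := by
  have hn : (Subgroup.closure Dz22).Normal := by
    have : Subgroup.closure Dz22 = Subgroup.normalClosure {zT} := by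
      rw [Subgroup.normalClosure]
      congr 1
      ext d
      rw [Group.mem_conjugatesOfSet_iff]
      constructor
      · intro hd
        exact ⟨zT, rfl, hd⟩
      · rintro ⟨a, ha, hd⟩
        rw [Set.mem_singleton_iff] at ha
        rw [ha] at hd
        exact hd
    rw [this]
    exact Subgroup.normalClosure_normal
  have hs := simple22
  rcases hs.eq_bot_or_eq_top_of_normal _ hn with h | h
  · exfalso
    have : zT ∈ Subgroup.closure Dz22 := Subgroup.subset_closure mem_conjugatesOf_self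
    rw [h, Subgroup.mem_bot] at this
    exact zT_ne_one this
  · exact h

theorem three_transposition_class22 : Cfsg.IsThreeTranspositionClass Dz22 :=
  ⟨three_transposition_set22, ⟨zT, mem_conjugatesOf_self, rfl⟩, closure_Dz22⟩

/-! ### the size of the class -/

theorem card_Dz22 : Nat.card Dz22 = 3510 := by
  have hwd : ∀ a b : G22, (QuotientGroup.leftRel UFa) a b → a * zT * a⁻¹ = b * zT * b⁻¹ := by
    intro a b hab
    have hk : a⁻¹ * b ∈ UFa := QuotientGroup.leftRel_apply.1 hab
    have hc := zT_comm _ hk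
    have : b = a * (a⁻¹ * b) := by group
    rw [this]
    have : a * (a⁻¹ * b) * zT * (a * (a⁻¹ * b))⁻¹ = a * ((a⁻¹ * b) * zT * (a⁻¹ * b)⁻¹) * a⁻¹ := by
      group
    rw [this, hc, mul_inv_cancel_right]
  let F : G22 ⧸ UFa → Dz22 := fun q => Quotient.liftOn' q
    (fun a => (⟨a * zT * a⁻¹, (mem_Dz22 _).2 ⟨a, rfl⟩⟩ : Dz22))
    (fun a b hab => Subtype.ext (hwd a b hab))
  have hF : Function.Bijective F := by
    constructor
    · intro q q' h
      induction q using QuotientGroup.induction_on with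
      | H a =>
        induction q' using QuotientGroup.induction_on with
        | H b =>
          have h1 : a * zT * a⁻¹ = b * zT * b⁻¹ := congrArg Subtype.val h
          apply QuotientGroup.eq.2
          rw [← centralizer_zT, Subgroup.mem_centralizer_iff]
          intro w hw
          rw [Set.mem_singleton_iff] at hw
          rw [hw]
          have : zT = a⁻¹ * (b * zT * b⁻¹) * a := by rw [← h1]; group
          calc zT * (a⁻¹ * b) = a⁻¹ * (b * zT * b⁻¹) * a * (a⁻¹ * b) := by rw [← this]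
            _ = a⁻¹ * b * zT := by group
    · rintro ⟨d, hd⟩
      obtain ⟨c, rfl⟩ := (mem_Dz22 d).1 hd
      exact ⟨QuotientGroup.mk c, rfl⟩
  rw [← Nat.card_congr (Equiv.ofBijective F hF)]
  exact UFa_index

/-! ### the centralisers -/

/-- the centraliser of a conjugate of `a` is isomorphic to the subgroup -/
noncomputable def centEquiv22 (c : G22) : UFa ≃* Subgroup.centralizer ({c * zT * c⁻¹} : Set G22) where
  toFun k := ⟨c * k.1 * c⁻¹, by
    rw [Subgroup.mem_centralizer_iff]
    intro w hw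
    rw [Set.mem_singleton_iff] at hw
    rw [hw]
    have hc := zT_comm k.1 k.2
    calc c * zT * c⁻¹ * (c * k.1 * c⁻¹) = c * (zT * k.1) * c⁻¹ := by group
      _ = c * (k.1 * zT) * c⁻¹ := by rw [hc]
      _ = c * k.1 * c⁻¹ * (c * zT * c⁻¹) := by group⟩
  invFun y := ⟨c⁻¹ * y.1 * c, by
    rw [← centralizer_zT, Subgroup.mem_centralizer_iff]
    intro w hw
    rw [Set.mem_singleton_iff] at hw
    rw [hw]
    have hy := y.2
    rw [Subgroup.mem_centralizer_iff] at hy
    have h1 := hy (c * zT * c⁻¹) rfl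
    calc zT * (c⁻¹ * y.1 * c) = c⁻¹ * (c * zT * c⁻¹ * y.1) * c := by group
      _ = c⁻¹ * (y.1 * (c * zT * c⁻¹)) * c := by rw [h1]
      _ = c⁻¹ * y.1 * c * zT := by group⟩
  left_inv k := by
    apply Subtype.ext
    show c⁻¹ * (c * k.1 * c⁻¹) * c = k.1
    group
  right_inv y := by
    apply Subtype.ext
    show c * (c⁻¹ * y.1 * c) * c⁻¹ = y.1
    group
  map_mul' k k' := by
    apply Subtype.ext
    show c * (k.1 * k'.1) * c⁻¹ = c * k.1 * c⁻¹ * (c * k'.1 * c⁻¹)
    group

theorem centralizer_cover22 (d : G22) (hd : d ∈ Dz22) :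
    Cfsg.IsNonsplitDoubleCover (Subgroup.centralizer ({d} : Set G22)) (Cfsg.PSU 6 K4 2) := by
  obtain ⟨c, rfl⟩ := (mem_Dz22 d).1 hd
  haveI := fin22
  exact nonsplit_of_equiv' (centEquiv22 c) cover22

end Cfsg.Agent.Lib.Helper8.FaU
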