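import Mathlib

/-! Generic group theory: two permutation representations, the image of the second inside the image
of the first, the kernel of the second central, and the first group of the order of the central
quotient of the second. -/

set_option autoImplicit false

namespace Cfsg.Agent.Lib.Helper8.FbO

theorem iso_of_range_le {U S X : Type*} [Group U] [Group S] [Finite U] [Finite S]
    (m : ℕ) (hm : 0 < m) (hU : Nat.card U = m) (hS : Nat.card (S ⧸ Subgroup.center S) = m)
    (τ : U →* Equiv.Perm X) (ρ : S →* Equiv.Perm X)
    (hker : ρ.ker ≤ Subgroup.center S) (hrange : ρ.range ≤ τ.range) :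
    Nonempty (U ≃* S ⧸ Subgroup.center S) := by
  haveI : Finite τ.range := Finite.of_surjective τ.rangeRestrict τ.rangeRestrict_surjective
  have h1 : Nat.card τ.ker * Nat.card τ.range = m := by
    rw [← hU, ← Subgroup.index_ker, Subgroup.card_mul_index]
  have h2 : Nat.card ρ.ker * Nat.card ρ.range = Nat.card S := by
    rw [← Subgroup.index_ker, Subgroup.card_mul_index]
  have h3 : Nat.card S = m * Nat.card (Subgroup.center S) := by
    rw [← hS]
    exact Subgroup.card_eq_card_quotient_mul_card_subgroup _
  have h4 : Nat.card ρ.ker ∣ Nat.card (Subgroup.center S) := Subgroup.card_dvd_of_le hker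
  have h5 : 0 < Nat.card τ.ker := Nat.card_pos
  have h6 : Nat.card ρ.range ≤ Nat.card τ.range := Subgroup.card_le_of_le hrange
  obtain ⟨d, hd⟩ := h4
  have hkpos : 0 < Nat.card ρ.ker := Nat.card_pos
  have hcpos : 0 < Nat.card (Subgroup.center S) := Nat.card_pos
  have hdpos : 0 < d := by
    rcases Nat.eq_zero_or_pos d with h0 | h0
    · rw [h0, mul_zero] at hd
      omega
    · exact h0
  have h7 : Nat.card ρ.range = d * m := by
    have : Nat.card ρ.ker * Nat.card ρ.range = Nat.card ρ.ker * (d * m) := by
      rw [h2, h3, hd]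
      ring
    exact Nat.eq_of_mul_eq_mul_left hkpos this
  have h8 : Nat.card τ.range ≤ m := by
    rw [← h1]
    exact Nat.le_mul_of_pos_left _ h5
  have h9 : m ≤ d * m := Nat.le_mul_of_pos_left m hdpos
  have hr1 : Nat.card τ.range = m := by omega
  have hr2 : Nat.card ρ.range = m := by omega
  have hd1 : d = 1 := by
    have : d * m = 1 * m := by rw [← h7, hr2, one_mul]
    exact Nat.eq_of_mul_eq_mul_right hm this
  rw [hd1, mul_one] at hd
  have hk1 : Nat.card τ.ker = 1 := by
    rw [hr1] at h1
    have : Nat.card τ.ker * m = 1 * m := by rw [h1, one_mul]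
    exact Nat.eq_of_mul_eq_mul_right hm this
  have hinj : Function.Injective τ := by
    rw [← MonoidHom.ker_eq_bot_iff]
    exact Subgroup.card_eq_one.1 hk1
  have hkeq : ρ.ker = Subgroup.center S :=
    Subgroup.eq_of_le_of_card_ge hker (by rw [hd])
  have hreq : ρ.range = τ.range :=
    Subgroup.eq_of_le_of_card_ge hrange (by rw [hr1, hr2])
  exact ⟨(MonoidHom.ofInjective hinj).trans
    ((MulEquiv.subgroupCongr hreq.symm).trans
      ((QuotientGroup.quotientKerEquivRange ρ).symm.trans
        (QuotientGroup.quotientMulEquivOfEq hkeq)))⟩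

end Cfsg.Agent.Lib.Helper8.FbO
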