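import Cfsg.Agent.Lib.Helper8.FbOG
import Cfsg.Agent.Lib.Helper8.FbOD
import Cfsg.Agent.Lib.Helper8.FbOF
import Cfsg.Agent.Lib.Helper8.HeSpB
import Cfsg.Agent.Lib.Helper4.TCD_Fi22b_Fin
import Cfsg.Agent.S0292

/-! The subgroup generated by `b, …, i` in the presented Fischer group `Fi22` is isomorphic to
`PΩ(7,3)`. -/

set_option autoImplicit false

namespace Cfsg.Agent.Lib.Helper8.FbO

open Cfsg.Spor Cfsg.Agent.Lib.Helper4.TC Cfsg.Agent.Lib.Helper4.TCD Cfsg.Agent.Lib.Helper4.TC.Log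
open Cfsg.Agent.Lib.Helper8.HeSp (blockSubgroup blockHom blockHom_eq)
open Cfsg.Agent.Lib.Helper5.SpinorHyp2 Cfsg.Agent.Lib.Helper5.OmegaSimple

set_option maxRecDepth 100000

/-- the subgroup of index 14080 -/
abbrev HFb : Subgroup PFi22.P.Grp := Inst.subG PFi22.P Fi22b.subs

/-- the label of a natural number -/
def cN (n : ℕ) : Option (Fin 351) := if h : cT n < 351 then some ⟨cT n, h⟩ else none

/-- the point of a table index -/
def cB (x : Fin Fi22a.T.N) : Option (Fin 351) := cN x.1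

theorem cB_surj : ∀ y : Fin 351, ∃ x, cB x = some y := by
  intro y
  obtain ⟨h1, h2⟩ := c_sec y
  refine ⟨⟨secT y.1, h1⟩, ?_⟩
  show cN (secT y.1) = some y
  unfold cN
  rw [dif_pos (by rw [h2]; exact y.2)]
  congr 1
  exact Fin.ext h2

theorem cN_resp (k : Fin 8) (i : ℕ) (hi : i < 3510) :
    cN (Tab.act Fi22a.T Fi22a.D [k.1 + 1] i) = (cN i).map (pi k) := by
  unfold cN
  rw [c_resp k i hi]
  by_cases h : cT i < 351
  · have h' : pT k.1 (cT i) < 351 := (p_ok k ⟨cT i, h⟩).1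
    rw [dif_pos h, dif_pos h', Option.map_some]
    rfl
  · have h351 : cT i = 351 := by
      have := cT_le i hi
      omega
    rw [dif_neg h, Option.map_none, h351, p_351 k, dif_neg (by decide)]

theorem phi_word' (u : List ℕ) (hu : ∀ y ∈ u, y < 9) (x : Fin Fi22a.T.N) :
    (Fi22a.inst.phi (wordP PFi22.P.gR u) x).1 = Tab.act Fi22a.T Fi22a.D u x.1 := by
  rw [← Fi22a.inst.gE_word u hu]
  exact Fi22a.inst.hC.phi_word Fi22a.inst.phi Fi22a.inst.hphi u
    (fun y hy => by rw [Fi22a.inst.hk]; exact hu y hy) x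

theorem resp (k : Fin 8) (x : Fin Fi22a.T.N) :
    cB (Fi22a.inst.phi (wordP PFi22.P.gR [k.1 + 1]) x) = (cB x).map (pi k) := by
  show cN (Fi22a.inst.phi (wordP PFi22.P.gR [k.1 + 1]) x).1 = (cN x.1).map (pi k)
  rw [phi_word' _ (by intro y hy; rw [List.mem_singleton] at hy; omega)]
  exact cN_resp k x.1 x.2

theorem subs_cover : ∀ u ∈ Fi22b.subs, ∃ k : Fin 8, u = [k.1 + 1] := by decide

theorem subs_mem : ∀ k : Fin 8, [k.1 + 1] ∈ Fi22b.subs := by decide

theorem hmem (u : HFb) : Fi22a.inst.phi u.1 ∈ blockSubgroup cB := by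
  have h : HFb ≤ (blockSubgroup cB).comap Fi22a.inst.phi := by
    unfold HFb Inst.subG
    rw [Subgroup.closure_le]
    rintro s ⟨u, hu, rfl⟩
    obtain ⟨k, rfl⟩ := subs_cover u hu
    exact ⟨pi k, resp k⟩
  exact h u.2

/-- the action of the subgroup on the 351 points -/
noncomputable def tau : HFb →* Equiv.Perm (Fin 351) :=
  (blockHom cB cB_surj).comp
    ((Fi22a.inst.phi.comp HFb.subtype).codRestrict (blockSubgroup cB) hmem)

/-- the generators of the subgroup -/
noncomputable def uE (k : Fin 8) : HFb :=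
  ⟨wordP PFi22.P.gR [k.1 + 1], Subgroup.subset_closure ⟨[k.1 + 1], subs_mem k, rfl⟩⟩

theorem tau_uE (k : Fin 8) : tau (uE k) = pi k :=
  blockHom_eq cB cB_surj _ (pi k) (resp k)

theorem pimatch0 : ∀ j : Fin 351, pi 0 j = idx7 (gact 0 (W7 j)) := by decide +kernel
theorem pimatch1 : ∀ j : Fin 351, pi 1 j = idx7 (gact 1 (W7 j)) := by decide +kernel
theorem pimatch2 : ∀ j : Fin 351, pi 2 j = idx7 (gact 2 (W7 j)) := by decide +kernel
theorem pimatch3 : ∀ j : Fin 351, pi 3 j = idx7 (gact 3 (W7 j)) := by decide +kernel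
theorem pimatch4 : ∀ j : Fin 351, pi 4 j = idx7 (gact 4 (W7 j)) := by decide +kernel
theorem pimatch5 : ∀ j : Fin 351, pi 5 j = idx7 (gact 5 (W7 j)) := by decide +kernel
theorem pimatch6 : ∀ j : Fin 351, pi 6 j = idx7 (gact 6 (W7 j)) := by decide +kernel
theorem pimatch7 : ∀ j : Fin 351, pi 7 j = idx7 (gact 7 (W7 j)) := by decide +kernel

theorem pimatch (k : Fin 8) (j : Fin 351) : pi k j = idx7 (gact k.1 (W7 j)) := by
  fin_cases k
  · exact pimatch0 j
  · exact pimatch1 j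
  · exact pimatch2 j
  · exact pimatch3 j
  · exact pimatch4 j
  · exact pimatch5 j
  · exact pimatch6 j
  · exact pimatch7 j

theorem tau_eq_rho (k : Fin 8) : tau (uE k) = rho7 (gG k) := by
  rw [tau_uE]
  ext j
  rw [rho7_gG, pimatch]

/-- the commutator subgroup of the isometry group -/
noncomputable abbrev Om7 : Subgroup G7 := Cfsg.Omega (ZMod 3) ⇑Q7

/-- its action on the 351 points -/
noncomputable def rhoO : ↥Om7 →* Equiv.Perm (Fin 351) := rho7.comp Om7.subtype

theorem range_le : rhoO.range ≤ tau.range := by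
  rintro _ ⟨g, rfl⟩
  have hg : g.1 ∈ XG := omega_le g.2
  have h : XG ≤ tau.range.comap rho7 := by
    unfold XG
    rw [Subgroup.closure_le]
    rintro _ ⟨k, rfl⟩
    exact ⟨uE k, tau_eq_rho k⟩
  exact h hg

theorem pi0_ne : pi 0 ≠ 1 := by
  intro h
  have := congrArg (fun p : Equiv.Perm (Fin 351) => (p 0).1) h
  revert this
  decide +kernel

theorem ker_rhoO_le : rhoO.ker ≤ Subgroup.center ↥Om7 := by
  rcases normal_le_center_or_eq_top hyp7 rhoO.ker with h | h
  · exact h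
  · exfalso
    have h1 : (⟨gG 0, XG_le (gG_mem 0)⟩ : ↥Om7) ∈ rhoO.ker := by rw [h]; trivial
    have h2 : rho7 (gG 0) = 1 := h1
    rw [← tau_eq_rho, tau_uE] at h2
    exact pi0_ne h2

theorem card_POmega : Nat.card (↥Om7 ⧸ Subgroup.center ↥Om7) = 4585351680 := by
  have h := Cfsg.Agent.S0292.result (F := ZMod 3) (q := 3) (ZMod.card 3) (by decide) 3 (le_refl 3)
  rw [← coe_oddForm] at h
  have h2 : (3 : ℕ) ^ (3 ^ 2) * ∏ i ∈ Finset.range 3, (3 ^ (2 * (i + 1)) - 1) = 2 * 4585351680 := by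
    decide
  rw [h2] at h
  have h3 : Nat.card (Cfsg.POmega (ZMod 3) ⇑(oddForm 3 (ZMod 3))) = 4585351680 := by omega
  exact h3

theorem card_HFb (hcard : Nat.card PFi22.P.Grp = 64561751654400) : Nat.card HFb = 4585351680 := by
  have := HFb.index_mul_card
  rw [Fi22b.index_eq, hcard] at this
  omega

/-- the subgroup of index 14080 is isomorphic to `PΩ(7,3)` -/
theorem iso (hfin : Finite PFi22.P.Grp) (hcard : Nat.card PFi22.P.Grp = 64561751654400) :
    Nonempty (HFb ≃* Cfsg.POmega (ZMod 3) (Cfsg.quadFormOdd 3 (ZMod 3))) := by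
  rw [← coe_oddForm]
  haveI : Finite G7 := by
    unfold G7
    infer_instance
  exact iso_of_range_le 4585351680 (by norm_num) (card_HFb hcard) card_POmega tau rhoO ker_rhoO_le
    range_le

theorem HFb_eq :
    ((Subgroup.closure ({Fi22.b, Fi22.c, Fi22.d, Fi22.e, Fi22.f, Fi22.g, Fi22.h, Fi22.i} :
        Set (FreeGroup Fi22.Gen))).map (PresentedGroup.mk PFi22.P.rels) : Subgroup PFi22.P.Grp) =
      HFb := by
  rw [MonoidHom.map_closure]
  unfold HFb Inst.subG
  congr 1
  ext x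
  simp only [Set.image_insert_eq, Set.image_singleton, Set.mem_insert_iff, Set.mem_singleton_iff,
    Fi22b.subs, List.mem_cons, List.not_mem_nil, or_false, exists_eq_or_imp, exists_eq_left,
    Log.wordP_cons, Log.wordP_nil, mul_one]
  rfl

end Cfsg.Agent.Lib.Helper8.FbO
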