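import Cfsg.Agent.Lib.Helper8.FbOA
import Cfsg.Agent.Lib.Helper5.ThreeTransOrth
import Cfsg.Agent.Lib.Helper5.OmegaSimple

/-! The action of the isometry group of the seven-dimensional quadratic form over `ZMod 3` on the
351 points of norm `2`, and the negatives of the reflections. -/

set_option autoImplicit false

namespace Cfsg.Agent.Lib.Helper8.FbO

open Matrix QuadraticMap Cfsg.Agent.Lib.Helper5.CartanDieudonne Cfsg.Agent.Lib.Helper5.Siegel
  Cfsg.Agent.Lib.Helper5.Eichler Cfsg.Agent.Lib.Helper5.SpinorNorm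
  Cfsg.Agent.Lib.Helper5.ThreeTransOrth Cfsg.Agent.Lib.Helper5.SpinorHyp2

/-- the isometry group -/
abbrev G7 : Type := ↥(Cfsg.isometryGroup (ZMod 3) ⇑Q7)

theorem act_one (x : I7 → ZMod 3) : act Q7 (1 : G7) x = x := one_mulVec x

theorem Qs_ofV (x : I7 → ZMod 3) : V7.Qs (V7.ofV x) = Q7 x := by
  rw [← V7.Qs_toV, V7.toV_ofV]

/-- the action on point indices -/
noncomputable def pact (A : G7) (j : Fin 351) : Fin 351 := idx7 (V7.ofV (act Q7 A (W7 j).toV))

theorem pact_one (j : Fin 351) : pact 1 j = j := by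
  unfold pact
  rw [act_one, V7.ofV_toV, idx7_W7]

theorem pact_mul (A B : G7) (j : Fin 351) : pact (A * B) j = pact A (pact B j) := by
  unfold pact
  have hy : V7.Qs (V7.ofV (act Q7 B (W7 j).toV)) = 2 := by
    rw [Qs_ofV, quad_act, V7.Qs_toV, W7_norm]
  rcases W7_idx7' _ hy with h | h
  · rw [h, V7.toV_ofV, act_mul]
  · rw [h, V7.toV_neg, V7.toV_ofV, act_neg, V7.ofV_neg, idx7_neg', act_mul]

noncomputable instance instMulActionG7 : MulAction G7 (Fin 351) where
  smul := pact
  one_smul := pact_one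
  mul_smul := pact_mul

/-- the permutation representation on the 351 points -/
noncomputable def rho7 : G7 →* Equiv.Perm (Fin 351) := MulAction.toPermHom G7 (Fin 351)

theorem rho7_apply (A : G7) (j : Fin 351) : rho7 A j = pact A j := rfl

/-! ### negatives of reflections -/

/-- minus the identity -/
noncomputable def negI : G7 :=
  ⟨-1, fun u _ => by
    show Q7 ((-1 : Matrix I7 I7 (ZMod 3)) *ᵥ u) = Q7 u
    rw [neg_mulVec, one_mulVec, QuadraticMap.map_neg]⟩

theorem act_negI (x : I7 → ZMod 3) : act Q7 negI x = -x := by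
  show (-1 : Matrix I7 I7 (ZMod 3)) *ᵥ x = -x
  rw [neg_mulVec, one_mulVec]

theorem negI_mul_self : negI * negI = 1 := by
  apply ext_act
  intro x
  rw [act_mul, act_negI, act_negI, neg_neg, act_one]

theorem negI_comm (g : G7) : negI * g = g * negI := by
  apply ext_act
  intro x
  rw [act_mul, act_mul, act_negI, act_negI, act_neg]

theorem zmod3_sq : ∀ a : ZMod 3, a ≠ 0 → a * a = 1 := by decide

theorem zmod3_inv (a : ZMod 3) : a⁻¹ = a := by
  by_cases h : a = 0
  · rw [h, _root_.inv_zero]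
  · exact inv_eq_of_mul_eq_one_left (zmod3_sq a h)

/-- minus the reflection in the vector `t` -/
noncomputable def T (t : V7) : G7 := negI * reflE Q7 t.toV

/-- minus the reflection on vectors -/
def nrV (t x : V7) : V7 := V7.add (V7.neg x) (V7.smul (V7.Qs t * V7.Bs t x) t)

theorem act_T (t x : V7) (ht : V7.Qs t ≠ 0) : act Q7 (T t) x.toV = (nrV t x).toV := by
  have hv : Q7 t.toV ≠ 0 := by rw [V7.Qs_toV]; exact ht
  unfold T
  rw [act_mul, act_negI, act_reflE Q7 _ hv, zmod3_inv, V7.Qs_toV, V7.Bs_toV, nrV, V7.toV_add,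
    V7.toV_neg, V7.toV_smul]
  abel

theorem T_conj (A : G7) (t : V7) : A * T t * A⁻¹ = T (V7.ofV (act Q7 A t.toV)) := by
  unfold T
  rw [V7.toV_ofV, ← reflE_conj, ← mul_assoc A negI, ← negI_comm A, mul_assoc negI A, mul_assoc negI]

theorem pact_T (t : V7) (ht : V7.Qs t ≠ 0) (j : Fin 351) : pact (T t) j = idx7 (nrV t (W7 j)) := by
  unfold pact
  rw [act_T t _ ht, V7.ofV_toV]

theorem T_mul_T (s t : V7) : T s * T t = reflE Q7 s.toV * reflE Q7 t.toV := by
  unfold T
  rw [mul_assoc, ← mul_assoc (reflE Q7 s.toV), ← negI_comm, mul_assoc, ← mul_assoc, negI_mul_self,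
    one_mul]

end Cfsg.Agent.Lib.Helper8.FbO
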