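import Cfsg.Agent.Lib.Helper8.FiO9

set_option autoImplicit false
set_option maxRecDepth 100000

/-! The outer automorphism group of the presented Fischer group `Fi22` has order two: an
automorphism fixing the element `x` of order 13 is conjugation by a power of `x`. -/

namespace Cfsg.Agent.Lib.Helper8.FiO

open Cfsg.Spor Cfsg.Agent.Lib.Helper4.TC Cfsg.Agent.Lib.Helper4.TCD Cfsg.Agent.Lib.Helper4.TC.Log
open Cfsg.Agent.Lib.Helper8.FaU

theorem lab0_all : SQ.allB 3510 (fun p => !(Nat.beq (LX0.lab p) 0)) = true := by decide +kernel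

theorem lab0_ne (p : ℕ) (hp : p < 3510) : LX0.lab p ≠ 0 := by
  intro h
  have := SQ.allB_spec lab0_all p hp
  rw [h] at this
  exact absurd this (by decide)

theorem xo_0 : u9^[0] 0 = 0 := by decide +kernel
theorem xo_1 : u9^[1] 0 = 694 := by decide +kernel
theorem xo_2 : u9^[2] 0 = 700 := by decide +kernel
theorem xo_3 : u9^[3] 0 = 789 := by decide +kernel
theorem xo_4 : u9^[4] 0 = 421 := by decide +kernel
theorem xo_5 : u9^[5] 0 = 2073 := by decide +kernel
theorem xo_6 : u9^[6] 0 = 3375 := by decide +kernel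
theorem xo_7 : u9^[7] 0 = 3391 := by decide +kernel
theorem xo_8 : u9^[8] 0 = 2870 := by decide +kernel
theorem xo_9 : u9^[9] 0 = 363 := by decide +kernel
theorem xo_10 : u9^[10] 0 = 895 := by decide +kernel
theorem xo_11 : u9^[11] 0 = 701 := by decide +kernel
theorem xo_12 : u9^[12] 0 = 696 := by decide +kernel

theorem adjv_1 : Nat.beq (u0 (u9^[1] 0)) (u9^[1] 0) = false := by decide +kernel
theorem adjv_2 : Nat.beq (u0 (u9^[2] 0)) (u9^[2] 0) = false := by decide +kernel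
theorem adjv_3 : Nat.beq (u0 (u9^[3] 0)) (u9^[3] 0) = false := by decide +kernel
theorem adjv_4 : Nat.beq (u0 (u9^[4] 0)) (u9^[4] 0) = true := by decide +kernel
theorem adjv_5 : Nat.beq (u0 (u9^[5] 0)) (u9^[5] 0) = false := by decide +kernel
theorem adjv_6 : Nat.beq (u0 (u9^[6] 0)) (u9^[6] 0) = false := by decide +kernel

/-- the letters of the generators with the given labels -/
def lw (w : List ℕ) : List ℕ := w.map (fun l => l - 2)

theorem lw_lt (w : List ℕ) (hw : ∀ l ∈ w, 2 ≤ l ∧ l < 11) : ∀ y ∈ lw w, y < 9 := by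
  intro y hy
  obtain ⟨l, hl, rfl⟩ := List.mem_map.1 hy
  have := hw l hl
  omega

theorem step0_eq (l : ℕ) (h1 : 2 ≤ l) (h2 : l < 11) (x : ℕ) : LX0.step l x = ub (l - 2) x := by
  interval_cases l <;> rfl

theorem evalL_actU : ∀ (w : List ℕ), (∀ l ∈ w, 2 ≤ l ∧ l < 11) → ∀ x,
    SQ.evalL LX0 w x = actU (lw w).reverse x := by
  intro w
  induction w with
  | nil => intro _ x; rfl
  | cons l w ih =>
    intro hw x
    have hl := hw l List.mem_cons_self
    have e : (lw (l :: w)).reverse = (lw w).reverse ++ [l - 2] := by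
      rw [lw, lw, List.map_cons, List.reverse_cons]
    rw [SQ.evalL, ih (fun l' hl' => hw l' (List.mem_cons_of_mem _ hl')), e, actU_append,
      step0_eq l hl.1 hl.2]
    rfl

/-- the element of the group with the given walk -/
noncomputable def vE (w : List ℕ) : G22 := wordP PFi22.P.gR (lw w).reverse

theorem gN_vE (w : List ℕ) (hw : ∀ l ∈ w, 2 ≤ l ∧ l < 11) (i : ℕ) (hi : i < 3510) :
    SQ.gN (φ (vE w)) i = SQ.evalL LX0 w i := by
  have h9 : ∀ y ∈ (lw w).reverse, y < 9 := fun y hy => lw_lt w hw y (List.mem_reverse.1 hy)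
  rw [vE, gN_word _ h9 i hi, evalL_actU w hw]

theorem gN_vE_inv (w : List ℕ) (hw : ∀ l ∈ w, 2 ≤ l ∧ l < 11) (i : ℕ) (hi : i < 3510) :
    SQ.gN (φ (vE w)⁻¹) i = SQ.evalL LX0 w.reverse i := by
  have h9 : ∀ y ∈ (lw w).reverse, y < 9 := fun y hy => lw_lt w hw y (List.mem_reverse.1 hy)
  have hw' : ∀ l ∈ w.reverse, 2 ≤ l ∧ l < 11 := fun l hl => hw l (List.mem_reverse.1 hl)
  rw [vE, word_inv22 _ h9, List.reverse_reverse, gN_word _ (lw_lt w hw) i hi, evalL_actU _ hw']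
  congr 1
  rw [lw, lw, List.map_reverse, List.reverse_reverse]

theorem itN_eq (w : List ℕ) : ∀ (n q : ℕ), itN w n q = (fun q => u10 (dP w q))^[n] q := by
  intro n
  induction n with
  | zero => intro q; rfl
  | succ n ih => intro q; rw [itN, ih, Function.iterate_succ_apply]

theorem gN_xE6 (i : ℕ) (hi : i < 3510) : SQ.gN (φ (xE ^ 6)) i = u10 i := by
  rw [gN_xE_pow 6 i hi]
  exact Nat.eq_of_beq_eq_true (SQ.allB_spec cert_10 i hi)

theorem x6z_pow : (xE ^ 6 * zT) ^ 7 = 1 := by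
  apply eq_one_of_gN
  intro i hi
  have hf : ∀ i, i < 3510 → SQ.gN (φ (xE ^ 6 * zT)) i = u10 (u0 i) := by
    intro i hi
    have h1 : u0 i < 3510 := by rw [← gN_zT i hi]; exact SQ.gN_lt _ hi
    rw [map_mul, SQ.gN_mul, gN_zT i hi, gN_xE6 _ h1]
  rw [(gN_pow_iter _ _ hf 7 i hi).1]
  exact Nat.eq_of_beq_eq_true (SQ.allB_spec x6a_ord i hi)

/-- an automorphism fixing `x` maps the first generator to a conjugate under a power of `x` -/
theorem h2 (α : MulAut G22) (hx : α xE = xE) : ∃ i : ℕ, α zT = xE ^ i * zT * (xE ^ i)⁻¹ := by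
  have h0 : (0 : ℕ) < 3510 := by decide
  obtain ⟨c', hc'⟩ := zT_class α
  have hpN : ptE c' < 3510 := ptE_lt c'
  obtain ⟨hl', hev⟩ := SQ.walk_spec lvOK_X0 real_stepX0 (LX0.rk (ptE c')) (ptE c') hpN
    (lab0_ne _ hpN) rfl
  have hl : ∀ l ∈ SQ.walkW LX0 (LX0.rk (ptE c')) (ptE c'), 2 ≤ l ∧ l < 11 := hl'
  have hev0 : SQ.evalL LX0 (SQ.walkW LX0 (LX0.rk (ptE c')) (ptE c')) (ptE c') = 0 := hev
  generalize hw : SQ.walkW LX0 (LX0.rk (ptE c')) (ptE c') = w at hl hev0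
  generalize hp : ptE c' = p at hpN hev0 hw
  have hv := gN_vE w hl
  have hvi := gN_vE_inv w hl
  -- the image of the generator is the transposition of the point `p`
  have hz' : α zT = trE (vE w)⁻¹ := by
    rw [hc', trE_eq_iff, hp, ptE]
    have := hv p hpN
    rw [hev0] at this
    rw [← this, ← SQ.gN_mul, ← map_mul, inv_mul_cancel, map_one, SQ.gN_one]
  have hd : ∀ q, q < 3510 → SQ.gN (φ (α zT)) q = dP w q := by
    intro q hq
    have h1 : SQ.evalL LX0 w q < 3510 := by rw [← hv q hq]; exact SQ.gN_lt _ hq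
    have h2 : u0 (SQ.evalL LX0 w q) < 3510 := by rw [← gN_zT _ h1]; exact SQ.gN_lt _ h1
    rw [hz', gN_trE _ q hq, inv_inv, hv q hq, hvi _ h2]
    rfl
  have hptv : ptE (vE w)⁻¹ = p := by
    rw [ptE]
    have := hv p hpN
    rw [hev0] at this
    rw [← this, ← SQ.gN_mul, ← map_mul, inv_mul_cancel, map_one, SQ.gN_one]
  -- the commuting pattern
  have hadj : ∀ j : ℕ, Nat.beq (u0 (SQ.evalL LX0 w (u9^[j] p))) (SQ.evalL LX0 w (u9^[j] p)) =
      Nat.beq (u0 (u9^[j] 0)) (u9^[j] 0) := by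
    intro j
    have hq : u9^[j] p < 3510 := (gN_pow_iter xE u9 gN_xE j p hpN).2
    have hq0 : u9^[j] 0 < 3510 := (gN_pow_iter xE u9 gN_xE j 0 h0).2
    have hL : (zT * (xE ^ j * zT * (xE ^ j)⁻¹) = xE ^ j * zT * (xE ^ j)⁻¹ * zT) ↔
        u0 (u9^[j] 0) = u9^[j] 0 := by
      have e1 : zT = trE 1 := trE_one.symm
      have e2 : xE ^ j * zT * (xE ^ j)⁻¹ = trE (xE ^ j) := by
        rw [e1, trE_conj, mul_one]
      rw [e2]
      conv_lhs => rw [e1]
      rw [trE_commute_iff, trE_one, ptE, gN_xE_pow j 0 h0, gN_zT _ hq0]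
    have hR : (α zT * (xE ^ j * α zT * (xE ^ j)⁻¹) = xE ^ j * α zT * (xE ^ j)⁻¹ * α zT) ↔
        u0 (SQ.evalL LX0 w (u9^[j] p)) = SQ.evalL LX0 w (u9^[j] p) := by
      have e2 : xE ^ j * α zT * (xE ^ j)⁻¹ = trE (xE ^ j * (vE w)⁻¹) := by
        rw [hz', trE_conj]
      rw [e2]
      conv_lhs => rw [hz']
      rw [trE_commute_iff, ptE_mul, hptv, gN_xE_pow j p hpN, ← hz', hd _ hq]
      have h1 : SQ.evalL LX0 w (u9^[j] p) < 3510 := by rw [← hv _ hq]; exact SQ.gN_lt _ hq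
      have h2 : u0 (SQ.evalL LX0 w (u9^[j] p)) < 3510 := by
        rw [← gN_zT _ h1]; exact SQ.gN_lt _ h1
      constructor
      · intro h
        have := congrArg (SQ.evalL LX0 w) h
        rw [dP, ← hvi _ h2, ← hv _ (SQ.gN_lt _ h2), ← SQ.gN_mul, ← map_mul, mul_inv_cancel,
          map_one, SQ.gN_one] at this
        exact this
      · intro h
        rw [dP, h, ← hv _ hq, ← hvi _ (SQ.gN_lt _ hq), ← SQ.gN_mul, ← map_mul, inv_mul_cancel,
          map_one, SQ.gN_one]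
    have hα : (zT * (xE ^ j * zT * (xE ^ j)⁻¹) = xE ^ j * zT * (xE ^ j)⁻¹ * zT) ↔
        (α zT * (xE ^ j * α zT * (xE ^ j)⁻¹) = xE ^ j * α zT * (xE ^ j)⁻¹ * α zT) := by
      have e : ∀ a b : G22, α (a * (xE ^ j * b * (xE ^ j)⁻¹)) = α a * (xE ^ j * α b * (xE ^ j)⁻¹) := by
        intro a b
        rw [map_mul, map_mul, map_mul, map_inv, map_pow, hx]
      have e' : ∀ a b : G22, α (xE ^ j * b * (xE ^ j)⁻¹ * a) = xE ^ j * α b * (xE ^ j)⁻¹ * α a := by
        intro a b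
        rw [map_mul, map_mul, map_mul, map_inv, map_pow, hx]
      constructor
      · intro h
        rw [← e, ← e', h]
      · intro h
        apply α.injective
        rw [e, e', h]
    rw [Bool.eq_iff_iff]
    constructor
    · intro h
      have := (hα.trans hR).2 (Nat.eq_of_beq_eq_true h)
      rw [hL.1 this]
      exact Nat.beq_refl _
    · intro h
      have := (hα.trans hR).1 (hL.2 (Nat.eq_of_beq_eq_true h))
      rw [this]
      exact Nat.beq_refl _
  have hadjOK : adjOK p = true := by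
    have a1 := hadj 1
    have a2 := hadj 2
    have a3 := hadj 3
    have a4 := hadj 4
    have a5 := hadj 5
    have a6 := hadj 6
    rw [adjv_1] at a1
    rw [adjv_2] at a2
    rw [adjv_3] at a3
    rw [adjv_4] at a4
    rw [adjv_5] at a5
    rw [adjv_6] at a6
    unfold adjOK adjT
    rw [SQ.walkT_eq, hw]
    show (!(Nat.beq (u0 (SQ.evalL LX0 w (u9^[1] p))) (SQ.evalL LX0 w (u9^[1] p))) &&
      !(Nat.beq (u0 (SQ.evalL LX0 w (u9^[2] p))) (SQ.evalL LX0 w (u9^[2] p))) &&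
      !(Nat.beq (u0 (SQ.evalL LX0 w (u9^[3] p))) (SQ.evalL LX0 w (u9^[3] p))) &&
      Nat.beq (u0 (SQ.evalL LX0 w (u9^[4] p))) (SQ.evalL LX0 w (u9^[4] p)) &&
      !(Nat.beq (u0 (SQ.evalL LX0 w (u9^[5] p))) (SQ.evalL LX0 w (u9^[5] p))) &&
      !(Nat.beq (u0 (SQ.evalL LX0 w (u9^[6] p))) (SQ.evalL LX0 w (u9^[6] p)))) = true
    rw [a1, a2, a3, a4, a5, a6]
    rfl
  -- the order of the product with `x^6`
  have hord : ∀ t, t < 3510 → itN w 7 t = t := by
    intro t ht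
    have hf : ∀ i, i < 3510 → SQ.gN (φ (xE ^ 6 * α zT)) i = u10 (dP w i) := by
      intro i hi
      have h1 : dP w i < 3510 := by rw [← hd i hi]; exact SQ.gN_lt _ hi
      rw [map_mul, SQ.gN_mul, hd i hi, gN_xE6 _ h1]
    have e : (xE ^ 6 * α zT) ^ 7 = 1 := by
      have : xE ^ 6 * α zT = α (xE ^ 6 * zT) := by rw [map_mul, map_pow, hx]
      rw [this, ← map_pow, x6z_pow, map_one]
    have := (gN_pow_iter _ _ hf 7 t ht).1
    rw [e, map_one, SQ.gN_one] at this
    rw [itN_eq]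
    exact this.symm
  have hordOK : ordOK p = true := by
    unfold ordOK
    rw [hw, hord 5 (by decide), hord 17 (by decide), hord 1000 (by decide)]
    rfl
  have hx' := h2_all p hpN
  rw [h2ok, hadjOK, hordOK] at hx'
  have hxo : xorbB p = true := by
    simpa using hx'
  obtain ⟨i, hi⟩ : ∃ i, p = u9^[i] 0 := by
    unfold xorbB at hxo
    simp only [Bool.or_eq_true] at hxo
    rcases hxo with (((((((((((h | h) | h) | h) | h) | h) | h) | h) | h) | h) | h) | h) | h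
    · exact ⟨0, by rw [Nat.eq_of_beq_eq_true h, xo_0]⟩
    · exact ⟨1, by rw [Nat.eq_of_beq_eq_true h, xo_1]⟩
    · exact ⟨2, by rw [Nat.eq_of_beq_eq_true h, xo_2]⟩
    · exact ⟨3, by rw [Nat.eq_of_beq_eq_true h, xo_3]⟩
    · exact ⟨4, by rw [Nat.eq_of_beq_eq_true h, xo_4]⟩
    · exact ⟨5, by rw [Nat.eq_of_beq_eq_true h, xo_5]⟩
    · exact ⟨6, by rw [Nat.eq_of_beq_eq_true h, xo_6]⟩
    · exact ⟨7, by rw [Nat.eq_of_beq_eq_true h, xo_7]⟩
    · exact ⟨8, by rw [Nat.eq_of_beq_eq_true h, xo_8]⟩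
    · exact ⟨9, by rw [Nat.eq_of_beq_eq_true h, xo_9]⟩
    · exact ⟨10, by rw [Nat.eq_of_beq_eq_true h, xo_10]⟩
    · exact ⟨11, by rw [Nat.eq_of_beq_eq_true h, xo_11]⟩
    · exact ⟨12, by rw [Nat.eq_of_beq_eq_true h, xo_12]⟩
  refine ⟨i, ?_⟩
  have e1 : xE ^ i * zT * (xE ^ i)⁻¹ = trE (xE ^ i) := by
    rw [← trE_one, trE_conj, mul_one]
  rw [e1, hc', trE_eq_iff, hp, hi, ptE, gN_xE_pow i 0 h0]

end Cfsg.Agent.Lib.Helper8.FiO
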