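import Cfsg.Agent.Lib.Helper8.FiO10

set_option autoImplicit false
set_option maxRecDepth 100000

/-! The outer automorphism group of the presented Fischer group `Fi22` has order two: the
element `x` of order 13 and the first generator generate the group. -/

namespace Cfsg.Agent.Lib.Helper8.FiO

open Cfsg.Spor Cfsg.Agent.Lib.Helper4.TC Cfsg.Agent.Lib.Helper4.TCD Cfsg.Agent.Lib.Helper4.TC.Log
open Cfsg.Agent.Lib.Helper8.FaU

/-- the subgroup generated by `x` and the first generator -/
noncomputable def M22 : Subgroup G22 := Subgroup.closure {xE, zT}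

theorem xE_mem : xE ∈ M22 := Subgroup.subset_closure (Set.mem_insert _ _)
theorem zT_mem : zT ∈ M22 := Subgroup.subset_closure (Set.mem_insert_of_mem _ rfl)

/-- a word in `x` (`true`) and the first generator (`false`), the first letter applied first -/
noncomputable def mE : List Bool → G22
  | [] => 1
  | b :: w => mE w * (if b then xE else zT)

/-- the action of such a word -/
def evalXZ : List Bool → ℕ → ℕ
  | [], q => q
  | b :: w, q => evalXZ w (if b then u9 q else u0 q)

theorem mE_mem : ∀ w : List Bool, mE w ∈ M22 := by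
  intro w
  induction w with
  | nil => exact M22.one_mem
  | cons b w ih =>
    rw [mE]
    apply M22.mul_mem ih
    cases b
    · exact zT_mem
    · exact xE_mem

theorem gN_mE : ∀ (w : List Bool) (q : ℕ), q < 3510 → SQ.gN (φ (mE w)) q = evalXZ w q := by
  intro w
  induction w with
  | nil => intro q _; rw [mE, map_one, SQ.gN_one]; rfl
  | cons b w ih =>
    intro q hq
    rw [mE, map_mul, SQ.gN_mul, evalXZ]
    cases b
    · have h1 : u0 q < 3510 := by rw [← gN_zT q hq]; exact SQ.gN_lt _ hq
      show SQ.gN (φ (mE w)) (SQ.gN (φ zT) q) = evalXZ w (u0 q)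
      rw [gN_zT q hq, ih _ h1]
    · have h1 : u9 q < 3510 := by rw [← gN_xE q hq]; exact SQ.gN_lt _ hq
      show SQ.gN (φ (mE w)) (SQ.gN (φ xE) q) = evalXZ w (u9 q)
      rw [gN_xE q hq, ih _ h1]

/-- a transposition whose point is mapped to the base point by a word in `x` and the first
generator lies in the subgroup -/
theorem trE_mem (c : G22) (w : List Bool) (h : evalXZ w (ptE c) = 0) : trE c ∈ M22 := by
  have e : trE c = trE (mE w)⁻¹ := by
    rw [trE_eq_iff]
    have h1 := gN_mE w (ptE c) (ptE_lt c)
    rw [h] at h1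
    have : ptE (mE w)⁻¹ = SQ.gN (φ (mE w)⁻¹) (SQ.gN (φ (mE w)) (ptE c)) := by rw [h1]; rfl
    rw [this, ← SQ.gN_mul, ← map_mul, inv_mul_cancel, map_one, SQ.gN_one]
  rw [e, trE]
  exact M22.mul_mem (M22.mul_mem (M22.inv_mem (mE_mem w)) zT_mem) (M22.inv_mem (M22.inv_mem (mE_mem w)))

/-- a generator is the transposition of the point of a conjugating word -/
theorem gR_eq_trE (k : ℕ) (hk : k < 9) (cw : List ℕ) (hcw : ∀ y ∈ cw, y < 9)
    (h : ∀ i, i < 3510 → actU (k :: cw) i = actU (cw ++ [0]) i) :
    PFi22.P.gR k = trE (wordP PFi22.P.gR cw) := by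
  have e := eq_of_actU (k :: cw) (cw ++ [0])
    (by intro y hy; rcases List.mem_cons.1 hy with rfl | hy; exact hk; exact hcw y hy)
    (by intro y hy; rcases List.mem_append.1 hy with hy | hy; exact hcw y hy;
        rw [List.mem_singleton] at hy; omega) h
  rw [wordP_cons, wordP_append] at e
  have e2 : wordP PFi22.P.gR [0] = zT := rfl
  rw [e2] at e
  rw [trE, ← e]
  group

theorem gen_mem_aux (k : ℕ) (hk : k < 9) (cw : List ℕ) (hcw : ∀ y ∈ cw, y < 9)
    (h : ∀ i, i < 3510 → actU (k :: cw) i = actU (cw ++ [0]) i) (q : ℕ) (hq : actU cw 0 = q)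
    (w : List Bool) (hw : evalXZ w q = 0) : PFi22.P.gR k ∈ M22 := by
  rw [gR_eq_trE k hk cw hcw h]
  apply trE_mem _ w
  rw [ptE, gN_word cw hcw 0 (by decide), hq]
  exact hw

theorem gmem_1 : PFi22.P.gR 1 ∈ M22 :=
  gen_mem_aux 1 (by decide) [0, 1] (by decide)
    (fun i hi => Nat.eq_of_beq_eq_true (SQ.allB_spec crel_1 i hi)) 695 cpt_1
    [false, true, true, true, true, true, true, true, true, true, true, true, true] (by decide +kernel)
theorem gmem_2 : PFi22.P.gR 2 ∈ M22 :=
  gen_mem_aux 2 (by decide) [1, 2, 0, 1] (by decide)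
    (fun i hi => Nat.eq_of_beq_eq_true (SQ.allB_spec crel_2 i hi)) 1 cpt_2
    [true, false, true, true, true, true, true, true, true, true, true, true, true] (by decide +kernel)
theorem gmem_3 : PFi22.P.gR 3 ∈ M22 :=
  gen_mem_aux 3 (by decide) [2, 3, 1, 2, 0, 1] (by decide)
    (fun i hi => Nat.eq_of_beq_eq_true (SQ.allB_spec crel_3 i hi)) 3 cpt_3
    [true, true, true, true, false, true, true, true, false, true, true, true, true, true, true, true, true, false, true, true, true] (by decide +kernel)
theorem gmem_4 : PFi22.P.gR 4 ∈ M22 :=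
  gen_mem_aux 4 (by decide) [3, 4, 2, 3, 1, 2, 0, 1] (by decide)
    (fun i hi => Nat.eq_of_beq_eq_true (SQ.allB_spec crel_4 i hi)) 11 cpt_4
    [true, true, true, false, true, true, false, true, true, true, false, true, false, true, false, true, true, true, true, true] (by decide +kernel)
theorem gmem_5 : PFi22.P.gR 5 ∈ M22 :=
  gen_mem_aux 5 (by decide) [4, 5, 3, 4, 2, 3, 1, 2, 0, 1] (by decide)
    (fun i hi => Nat.eq_of_beq_eq_true (SQ.allB_spec crel_5 i hi)) 38 cpt_5
    [true, true, true, true, true, true, true, false, true, true, true, false, true, true, true, true, true, true, true, true, false, true, true, true] (by decide +kernel)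
theorem gmem_6 : PFi22.P.gR 6 ∈ M22 :=
  gen_mem_aux 6 (by decide) [5, 6, 4, 5, 3, 4, 2, 3, 1, 2, 0, 1] (by decide)
    (fun i hi => Nat.eq_of_beq_eq_true (SQ.allB_spec crel_6 i hi)) 106 cpt_6
    [true, true, true, true, true, true, false, true, true, true, false, true, true, true, true, true, true, true, true, false, true, true, true] (by decide +kernel)
theorem gmem_7 : PFi22.P.gR 7 ∈ M22 :=
  gen_mem_aux 7 (by decide) [3, 7, 2, 3, 1, 2, 0, 1] (by decide)
    (fun i hi => Nat.eq_of_beq_eq_true (SQ.allB_spec crel_7 i hi)) 14 cpt_7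
    [true, true, false, true, true, true, true, false, true, true, false, true, true, true, true, true, false, true, true, true, true, true] (by decide +kernel)
theorem gmem_8 : PFi22.P.gR 8 ∈ M22 :=
  gen_mem_aux 8 (by decide) [7, 8, 3, 7, 2, 3, 1, 2, 0, 1] (by decide)
    (fun i hi => Nat.eq_of_beq_eq_true (SQ.allB_spec crel_8 i hi)) 47 cpt_8
    [true, true, true, true, false, true, false, true, false, true, true, true, true, true, true, true, true] (by decide +kernel)

theorem gmem_0 : PFi22.P.gR 0 ∈ M22 := by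
  have : PFi22.P.gR 0 = zT := by
    rw [zT, wordP_cons]
    exact (mul_one _).symm
  rw [this]
  exact zT_mem

theorem h3 : Subgroup.closure {xE, zT} = ⊤ := by
  rw [eq_top_iff, ← PFi22.valid.gen_top, Subgroup.closure_le]
  rintro _ ⟨l, hl, rfl⟩
  have hl' : l < 9 := hl
  interval_cases l
  · exact gmem_0
  · exact gmem_1
  · exact gmem_2
  · exact gmem_3
  · exact gmem_4
  · exact gmem_5
  · exact gmem_6
  · exact gmem_7
  · exact gmem_8

/-- the outer automorphism group of the presented group has order two -/
theorem card_out_G22 : Nat.card (Cfsg.Out G22) = 2 :=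
  OutG.card_out_two_of_swap xE zT sig h1 h2 h3 not_conj

end Cfsg.Agent.Lib.Helper8.FiO
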