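import Cfsg.Agent.Lib.Helper8.FiO1

set_option autoImplicit false
set_option maxRecDepth 100000

/-! Fi22 on 3510 points: the certificates of the tables (generated). -/

namespace Cfsg.Agent.Lib.Helper8.FiO

theorem cert_9 : SQ.allB 3510 (fun x => Nat.beq (u4 (u5 (u3 (u1 (u8 (u6 (u2 (u7 (x))))))))) (u9 (x))) = true := by decide +kernel
theorem cert_10 : SQ.allB 3510 (fun x => Nat.beq (u9 (u9 (u9 (u9 (u9 (u9 (x))))))) (u10 (x))) = true := by decide +kernel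
theorem cert_11 : SQ.allB 3510 (fun x => Nat.beq (u2 (u1 (u3 (u5 (u8 (u0 (u4 (u7 (x))))))))) (u11 (x))) = true := by decide +kernel
theorem cert_12 : SQ.allB 3510 (fun x => Nat.beq (u4 (u7 (u5 (u8 (u0 (u4 (u5 (u1 (u3 (u7 (u5 (u0 (u8 (u2 (u5 (u4 (u8 (u1 (u3 (u8 (u6 (u4 (u7 (u5 (u8 (u0 (u4 (u5 (u1 (u3 (u7 (u5 (u0 (u8 (u2 (u5 (u4 (u8 (u1 (u3 (u8 (u6 (x))))))))))))))))))))))))))))))))))))))))))) (u12 (x))) = true := by decide +kernel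
theorem cert_13 : SQ.allB 3510 (fun x => Nat.beq (u1 (u2 (u3 (u4 (u5 (u6 (u7 (u3 (u2 (u1 (u4 (u3 (u5 (u8 (u7 (u3 (u2 (u4 (u3 (u5 (u4 (u7 (u3 (u2 (u1 (u0 (u1 (x)))))))))))))))))))))))))))) (u13 (u1 (u2 (u3 (u4 (u5 (u6 (u7 (u3 (u2 (u1 (u4 (u3 (u5 (u8 (u7 (u3 (u2 (u4 (u3 (u5 (u4 (u7 (u3 (u2 (u1 (u0 (x))))))))))))))))))))))))))))) = true := by decide +kernel
theorem cert_14 : SQ.allB 3510 (fun x => Nat.beq (u1 (u2 (u3 (u4 (u5 (u6 (u7 (u3 (u2 (u1 (u4 (u3 (u5 (u4 (u7 (u8 (u7 (u3 (u2 (u1 (u4 (u3 (u5 (u4 (u7 (u3 (u2 (u1 (u8 (u7 (u3 (u6 (x))))))))))))))))))))))))))))))))) (u14 (u1 (u2 (u3 (u4 (u5 (u6 (u7 (u3 (u2 (u1 (u4 (u3 (u2 (u5 (u4 (u8 (u7 (u3 (u2 (u1 (u0 (u4 (u3 (u2 (u5 (u7 (u3 (u4 (u5 (u8 (u7 (u3 (x))))))))))))))))))))))))))))))))))) = true := by decide +kernel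
theorem cert_15 : SQ.allB 3510 (fun x => Nat.beq (u13 (u14 (u14 (u14 (u13 (u14 (u14 (u13 (u14 (u14 (u14 (u13 (x))))))))))))) (u15 (u13 (u14 (u14 (u14 (u13 (u14 (u14 (u13 (u14 (u14 (u14 (x)))))))))))))) = true := by decide +kernel
theorem cert_16 : SQ.allB 3510 (fun x => Nat.beq (u1 (u2 (u3 (u4 (u5 (u6 (u7 (u3 (u2 (u1 (u4 (u3 (u2 (u5 (u4 (u8 (u7 (u3 (u2 (u4 (u3 (u5 (u4 (u7 (u3 (u2 (u1 (u8 (u7 (u3 (x))))))))))))))))))))))))))))))) (u16 (u1 (u2 (u3 (u4 (u5 (u6 (u7 (u3 (u2 (u1 (u4 (u3 (u2 (u5 (u4 (u8 (u7 (u3 (u2 (u1 (u4 (u3 (u5 (u4 (u6 (u5 (u7 (u3 (u8 (u7 (x))))))))))))))))))))))))))))))))) = true := by decide +kernel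
theorem cert_17 : SQ.allB 3510 (fun x => Nat.beq (u13 (u16 (u16 (u14 (u14 (u13 (u16 (u14 (u14 (u13 (u16 (u14 (u16 (x)))))))))))))) (u17 (u16 (u16 (u14 (u14 (u16 (u16 (u14 (u13 (u16 (u14 (u14 (x)))))))))))))) = true := by decide +kernel
theorem cert_18 : SQ.allB 3510 (fun x => Nat.beq (u1 (u2 (u3 (u4 (u5 (u6 (u7 (u3 (u2 (u1 (u4 (u3 (u2 (u5 (u4 (u3 (u8 (u7 (u3 (u2 (u1 (u0 (u4 (u3 (u2 (u1 (u7 (u3 (u2 (u8 (u7 (u8 (x))))))))))))))))))))))))))))))))) (u18 (u1 (u2 (u3 (u4 (u5 (u6 (u7 (u3 (u2 (u1 (u4 (u3 (u2 (u5 (u4 (u3 (u8 (u7 (u3 (u2 (u1 (u0 (u4 (u3 (u2 (u1 (u7 (u3 (u2 (u8 (u7 (x)))))))))))))))))))))))))))))))))) = true := by decide +kernel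
theorem cert_19 : SQ.allB 3510 (fun x => Nat.beq (u1 (u0 (u2 (u1 (u3 (u4 (u5 (u7 (u3 (u7 (x))))))))))) (u19 (u1 (u0 (u2 (u1 (u3 (u4 (u5 (u7 (u3 (x)))))))))))) = true := by decide +kernel
theorem cert_20 : SQ.allB 3510 (fun x => Nat.beq (u13 (u18 (u19 (u14 (u18 (u16 (u14 (u1 (u2 (u3 (u4 (u5 (u6 (u7 (u3 (u2 (u4 (u3 (u8 (u7 (u3 (u2 (u4 (u3 (u5 (u6 (u1 (x)))))))))))))))))))))))))))) (u20 (u1 (u2 (u3 (u4 (u5 (u6 (u7 (u3 (u2 (u4 (u3 (u7 (u8 (u7 (u3 (u2 (u1 (u0 (u4 (u5 (x))))))))))))))))))))))) = true := by decide +kernel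
theorem cert_21 : SQ.allB 3510 (fun x => Nat.beq (u18 (u20 (u15 (u20 (u17 (u18 (u19 (u20 (u18 (x)))))))))) (u21 (u20 (u17 (u20 (u18 (u20 (u17 (u20 (x)))))))))) = true := by decide +kernel
theorem cert_22 : SQ.allB 3510 (fun x => Nat.beq (u15 (u18 (u20 (u18 (u20 (u17 (x))))))) (u22 (u15 (u18 (u20 (u18 (u20 (x)))))))) = true := by decide +kernel
theorem cert_23 : SQ.allB 3510 (fun x => Nat.beq (u17 (u18 (u20 (u15 (u20 (u17 (u18 (u13 (u16 (u20 (u14 (u14 (u16 (u19 (x))))))))))))))) (u23 (u13 (u20 (u16 (u20 (u16 (u18 (x))))))))) = true := by decide +kernel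
theorem cert_24 : SQ.allB 3510 (fun x => Nat.beq (u19 (u20 (u17 (u20 (u17 (u13 (u20 (u14 (u20 (u14 (u14 (u13 (u16 (x)))))))))))))) (u24 (u14 (u20 (u18 (u13 (u16 (u16 (u20 (x)))))))))) = true := by decide +kernel
theorem cert_25 : SQ.allB 3510 (fun x => Nat.beq (u18 (u24 (u20 (u24 (u20 (u19 (x))))))) (u25 (u18 (u24 (u20 (u24 (u20 (x)))))))) = true := by decide +kernel
theorem cert_26 : SQ.allB 3510 (fun x => Nat.beq (u22 (u24 (u24 (u23 (u24 (x)))))) (u26 (u23 (u24 (u23 (x)))))) = true := by decide +kernel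
theorem cert_27 : SQ.allB 3510 (fun x => Nat.beq (u25 (u26 (u23 (u22 (u24 (u15 (u17 (u18 (u24 (u23 (u18 (u17 (x))))))))))))) (u27 (u19 (u20 (u24 (u15 (u24 (x)))))))) = true := by decide +kernel
theorem cert_28 : SQ.allB 3510 (fun x => Nat.beq (u26 (u27 (u21 (u22 (u23 (u27 (u15 (u20 (u18 (u24 (u24 (u13 (u14 (u14 (u16 (u20 (u14 (u19 (u20 (x)))))))))))))))))))) (u28 (u16 (u16 (u19 (u18 (u14 (u18 (x))))))))) = true := by decide +kernel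
theorem cert_29 : SQ.allB 3510 (fun x => Nat.beq (u1 (u2 (u3 (u4 (u5 (u6 (u7 (u3 (u2 (u1 (u4 (u3 (u5 (u8 (u7 (u3 (u2 (u4 (u3 (u5 (u4 (u7 (u3 (u2 (u1 (u0 (u1 (x)))))))))))))))))))))))))))) (u29 (u1 (u2 (u3 (u4 (u5 (u6 (u7 (u3 (u2 (u1 (u4 (u3 (u5 (u8 (u7 (u3 (u2 (u4 (u3 (u5 (u4 (u7 (u3 (u2 (u1 (u0 (x))))))))))))))))))))))))))))) = true := by decide +kernel
theorem cert_30 : SQ.allB 3510 (fun x => Nat.beq (u1 (u2 (u3 (u4 (u5 (u6 (u7 (u3 (u2 (u1 (u4 (u3 (u5 (u4 (u7 (u8 (u7 (u3 (u2 (u1 (u4 (u3 (u5 (u4 (u7 (u3 (u2 (u1 (u8 (u7 (u3 (u6 (x))))))))))))))))))))))))))))))))) (u30 (u1 (u2 (u3 (u4 (u5 (u6 (u7 (u3 (u2 (u1 (u4 (u3 (u2 (u5 (u4 (u8 (u7 (u3 (u2 (u1 (u0 (u4 (u3 (u2 (u5 (u7 (u3 (u4 (u5 (u8 (u7 (u3 (x))))))))))))))))))))))))))))))))))) = true := by decide +kernel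
theorem cert_31 : SQ.allB 3510 (fun x => Nat.beq (u29 (u30 (u30 (u29 (u30 (u30 (u29 (u30 (u30 (u30 (u1 (u0 (u2 (u3 (u4 (u5 (u7 (u3 (u8 (u7 (u8 (x)))))))))))))))))))))) (u31 (u1 (u0 (u2 (u3 (u4 (u5 (u7 (u3 (u8 (u7 (x))))))))))))) = true := by decide +kernel
theorem cert_32 : SQ.allB 3510 (fun x => Nat.beq (u30 (u29 (u30 (u30 (u30 (u30 (u31 (u30 (u29 (x)))))))))) (u32 (u30 (u30 (u30 (u31 (u30 (u30 (u30 (x)))))))))) = true := by decide +kernel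
theorem cert_33 : SQ.allB 3510 (fun x => Nat.beq (u1 (u2 (u3 (u4 (u5 (u6 (u7 (u3 (u2 (u1 (u4 (u3 (u2 (u5 (u8 (u7 (u3 (u2 (u1 (u0 (u4 (u3 (u2 (u1 (u5 (u4 (u7 (u3 (u2 (u7 (x))))))))))))))))))))))))))))))) (u33 (u1 (u2 (u3 (u4 (u5 (u6 (u7 (u3 (u2 (u1 (u4 (u3 (u2 (u5 (u4 (u8 (u7 (u3 (u2 (u1 (u0 (u4 (u3 (u2 (u1 (u5 (u4 (u7 (u3 (u4 (x))))))))))))))))))))))))))))))))) = true := by decide +kernel
theorem cert_34 : SQ.allB 3510 (fun x => Nat.beq (u30 (u30 (u33 (u29 (u30 (u30 (u33 (u31 (u33 (x)))))))))) (u34 (u29 (u30 (u30 (u29 (u33 (u29 (u30 (u30 (x))))))))))) = true := by decide +kernel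
theorem cert_35 : SQ.allB 3510 (fun x => Nat.beq (u33 (u29 (u33 (u31 (u33 (u31 (u30 (u33 (u29 (x)))))))))) (u35 (u33 (u29 (u33 (u31 (u33 (u31 (u30 (u33 (x))))))))))) = true := by decide +kernel
theorem cert_36 : SQ.allB 3510 (fun x => Nat.beq (u32 (u35 (u34 (u32 (u35 (u30 (u29 (u30 (u33 (u1 (u2 (u3 (u4 (u5 (u6 (u7 (u3 (u2 (u1 (u4 (u3 (u2 (u5 (u4 (u3 (u8 (u7 (u3 (u2 (u1 (u4 (u3 (u2 (u7 (u3 (u6 (x))))))))))))))))))))))))))))))))))))) (u36 (u1 (u2 (u3 (u4 (u5 (u6 (u7 (u3 (u2 (u1 (u4 (u3 (u2 (u5 (u4 (u3 (u8 (u7 (u3 (u2 (u1 (u4 (u3 (u2 (u7 (u3 (x))))))))))))))))))))))))))))) = true := by decide +kernel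
theorem cert_37 : SQ.allB 3510 (fun x => Nat.beq (u34 (u36 (u36 (u35 (u36 (u31 (x))))))) (u37 (u34 (u35 (u32 (u34 (u36 (u36 (x))))))))) = true := by decide +kernel
theorem cert_38 : SQ.allB 3510 (fun x => Nat.beq (u36 (u37 (u37 (u37 (u36 (u36 (u36 (u37 (x))))))))) (u38 (u37 (u36 (u36 (u36 (x))))))) = true := by decide +kernel
theorem cert_39 : SQ.allB 3510 (fun x => Nat.beq (u36 (u36 (u36 (u37 (u36 (u31 (u32 (u36 (u34 (u35 (u36 (u32 (u33 (u31 (u30 (u30 (u36 (u36 (x))))))))))))))))))) (u39 (u33 (u30 (u30 (u30 (x))))))) = true := by decide +kernel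
theorem cert_40 : SQ.allB 3510 (fun x => Nat.beq (u39 (u38 (u38 (u38 (u39 (u38 (x))))))) (u40 (u38 (u38 (u39 (u38 (u39 (u39 (x))))))))) = true := by decide +kernel
theorem cert_41 : SQ.allB 3510 (fun x => Nat.beq (u39 (u38 (u38 (u38 (u37 (u36 (u37 (u39 (u36 (u35 (u36 (u36 (u39 (u39 (x))))))))))))))) (u41 (u32 (u34 (u36 (x)))))) = true := by decide +kernel

end Cfsg.Agent.Lib.Helper8.FiO
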