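import Cfsg.Agent.Lib.Helper8.FiO3

set_option autoImplicit false
set_option maxRecDepth 100000

/-! Fi22 on 3510 points: the centraliser and transporter searches (generated). -/

namespace Cfsg.Agent.Lib.Helper8.FiO

/-- the candidates for the image of the first base point under an involution centralising `y` -/
def passY (p : ℕ) : Bool :=
  match SQ.sift LsY (SQ.iterL u12 6 p ++ [0]) with
  | some [r] => Nat.beq r p
  | _ => false

/-- the candidates for the image of the first base point under an element conjugating `x` to
its image under the diagram automorphism -/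
def passN (p : ℕ) : Bool :=
  match SQ.sift LsX (SQ.iterL u11 6 p ++ [1, u11 1, 2, u11 2]) with
  | some [r1, s1, r2, s2] => Nat.beq s1 (u9 r1) && Nat.beq s2 (u9 r2)
  | _ => false

theorem passY_0 : SQ.allR 0 585 (fun p => !(passY p) || Nat.beq p 0 || Nat.beq p 1896) = true := by decide +kernel
theorem passY_1 : SQ.allR 585 585 (fun p => !(passY p) || Nat.beq p 0 || Nat.beq p 1896) = true := by decide +kernel
theorem passY_2 : SQ.allR 1170 585 (fun p => !(passY p) || Nat.beq p 0 || Nat.beq p 1896) = true := by decide +kernel
theorem passY_3 : SQ.allR 1755 585 (fun p => !(passY p) || Nat.beq p 0 || Nat.beq p 1896) = true := by decide +kernel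
theorem passY_4 : SQ.allR 2340 585 (fun p => !(passY p) || Nat.beq p 0 || Nat.beq p 1896) = true := by decide +kernel
theorem passY_5 : SQ.allR 2925 585 (fun p => !(passY p) || Nat.beq p 0 || Nat.beq p 1896) = true := by decide +kernel
theorem passN_0 : SQ.allR 0 585 (fun p => !(passN p)) = true := by decide +kernel
theorem passN_1 : SQ.allR 585 585 (fun p => !(passN p)) = true := by decide +kernel
theorem passN_2 : SQ.allR 1170 585 (fun p => !(passN p)) = true := by decide +kernel
theorem passN_3 : SQ.allR 1755 585 (fun p => !(passN p)) = true := by decide +kernel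
theorem passN_4 : SQ.allR 2340 585 (fun p => !(passN p)) = true := by decide +kernel
theorem passN_5 : SQ.allR 2925 585 (fun p => !(passN p)) = true := by decide +kernel

theorem passY_all : ∀ p, p < 3510 → (!(passY p) || Nat.beq p 0 || Nat.beq p 1896) = true := by
  intro p hp
  rcases Nat.lt_or_ge p 585 with h | h
  · exact SQ.allR_spec passY_0 p (by omega) (by omega)
  rcases Nat.lt_or_ge p 1170 with h | h
  · exact SQ.allR_spec passY_1 p (by omega) (by omega)
  rcases Nat.lt_or_ge p 1755 with h | h
  · exact SQ.allR_spec passY_2 p (by omega) (by omega)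
  rcases Nat.lt_or_ge p 2340 with h | h
  · exact SQ.allR_spec passY_3 p (by omega) (by omega)
  rcases Nat.lt_or_ge p 2925 with h | h
  · exact SQ.allR_spec passY_4 p (by omega) (by omega)
  exact SQ.allR_spec passY_5 p (by omega) (by omega)

theorem passN_all : ∀ p, p < 3510 → (!(passN p)) = true := by
  intro p hp
  rcases Nat.lt_or_ge p 585 with h | h
  · exact SQ.allR_spec passN_0 p (by omega) (by omega)
  rcases Nat.lt_or_ge p 1170 with h | h
  · exact SQ.allR_spec passN_1 p (by omega) (by omega)
  rcases Nat.lt_or_ge p 1755 with h | h
  · exact SQ.allR_spec passN_2 p (by omega) (by omega)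
  rcases Nat.lt_or_ge p 2340 with h | h
  · exact SQ.allR_spec passN_3 p (by omega) (by omega)
  rcases Nat.lt_or_ge p 2925 with h | h
  · exact SQ.allR_spec passN_4 p (by omega) (by omega)
  exact SQ.allR_spec passN_5 p (by omega) (by omega)

end Cfsg.Agent.Lib.Helper8.FiO
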