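import Cfsg.Agent.Lib.Helper8.FiO3

set_option autoImplicit false
set_option maxRecDepth 100000

/-! Fi22 on 3510 points: the checks for the automorphism group (generated). -/

namespace Cfsg.Agent.Lib.Helper8.FiO

/-- the images under the walk from `p` of the points `x^j p`, `j = 1, …, 6` -/
def adjT (p : ℕ) : List ℕ := SQ.walkT LX0 (LX0.rk p) p (SQ.iterL u9 6 (u9 p))

/-- the transposition of the point `p` commutes with its conjugates under the powers of `x`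
in the same way as the first generator does -/
def adjOK (p : ℕ) : Bool :=
  match adjT p with
  | [q1, q2, q3, q4, q5, q6] => !(Nat.beq (u0 q1) q1) && !(Nat.beq (u0 q2) q2) && !(Nat.beq (u0 q3) q3) && Nat.beq (u0 q4) q4 && !(Nat.beq (u0 q5) q5) && !(Nat.beq (u0 q6) q6)
  | _ => false

/-- the transposition of the point with walk `w` -/
def dP (w : List ℕ) (q : ℕ) : ℕ := SQ.evalL LX0 w.reverse (u0 (SQ.evalL LX0 w q))

/-- iterate `x^6` times the transposition -/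
def itN (w : List ℕ) : ℕ → ℕ → ℕ
  | 0, q => q
  | n + 1, q => itN w n (u10 (dP w q))

def ordOK (p : ℕ) : Bool :=
  Nat.beq (itN (SQ.walkW LX0 (LX0.rk p) p) 7 5) 5 && Nat.beq (itN (SQ.walkW LX0 (LX0.rk p) p) 7 17) 17 && Nat.beq (itN (SQ.walkW LX0 (LX0.rk p) p) 7 1000) 1000

def h2ok (p : ℕ) : Bool := adjOK p && ordOK p

def xorbB (p : ℕ) : Bool := Nat.beq p 0 || Nat.beq p 694 || Nat.beq p 700 || Nat.beq p 789 || Nat.beq p 421 || Nat.beq p 2073 || Nat.beq p 3375 || Nat.beq p 3391 || Nat.beq p 2870 || Nat.beq p 363 || Nat.beq p 895 || Nat.beq p 701 || Nat.beq p 696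

theorem h2_0 : SQ.allR 0 877 (fun p => !(h2ok p) || xorbB p) = true := by decide +kernel
theorem h2_1 : SQ.allR 877 877 (fun p => !(h2ok p) || xorbB p) = true := by decide +kernel
theorem h2_2 : SQ.allR 1754 877 (fun p => !(h2ok p) || xorbB p) = true := by decide +kernel
theorem h2_3 : SQ.allR 2631 879 (fun p => !(h2ok p) || xorbB p) = true := by decide +kernel
theorem h2_all : ∀ p, p < 3510 → (!(h2ok p) || xorbB p) = true := by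
  intro p hp
  rcases Nat.lt_or_ge p 877 with h | h
  · exact SQ.allR_spec h2_0 p (by omega) (by omega)
  rcases Nat.lt_or_ge p 1754 with h | h
  · exact SQ.allR_spec h2_1 p (by omega) (by omega)
  rcases Nat.lt_or_ge p 2631 with h | h
  · exact SQ.allR_spec h2_2 p (by omega) (by omega)
  exact SQ.allR_spec h2_3 p (by omega) (by omega)

/-- the conjugator of `x` to `x^4` (inverse direction) -/
def nuF (q : ℕ) : ℕ := u25 (u28 (u22 (u21 (u28 (u23 (u17 (u18 (u28 (u17 (u14 (u14 (u19 (u16 (u14 (u14 (u19 (u1 (u2 (u3 (u4 (u5 (u6 (u7 (u3 (u2 (u1 (u4 (u3 (u5 (u4 (u7 (u3 (u8 (u7 (u3 (u2 (u4 (u3 (u5 (u4 (u6 (u7 (q)))))))))))))))))))))))))))))))))))))))))))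
def muF (q : ℕ) : ℕ := u27 (u25 (u21 (u23 (u21 (u23 (u18 (u24 (u17 (u20 (u14 (u14 (u13 (u16 (u18 (u20 (u1 (u2 (u3 (u4 (u5 (u6 (u7 (u3 (u2 (u1 (u4 (u3 (u5 (u4 (u8 (u7 (u3 (u2 (u1 (u4 (u3 (u5 (u4 (u6 (u5 (u7 (q))))))))))))))))))))))))))))))))))))))))))
theorem nu_ok : SQ.allB 3510 (fun q => Nat.beq (u9 (nuF q)) (nuF (u9 (u9 (u9 (u9 q)))))) = true := by decide +kernel
theorem mu_ok : SQ.allB 3510 (fun q => Nat.beq (u9 (muF q)) (muF (u11 (u11 q)))) = true := by decide +kernel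
theorem x_ord : SQ.allB 3510 (fun q => Nat.beq (u9 (u9 (u9 (u9 (u9 (u9 (u9 (u9 (u9 (u9 (u9 (u9 (u9 (q)))))))))))))) q) = true := by decide +kernel
theorem xs_ord : SQ.allB 3510 (fun q => Nat.beq (u11 (u11 (u11 (u11 (u11 (u11 (u11 (u11 (u11 (u11 (u11 (u11 (u11 (q)))))))))))))) q) = true := by decide +kernel
theorem y_ord : SQ.allB 3510 (fun q => Nat.beq (u12 (u12 (u12 (u12 (u12 (u12 (u12 (u12 (u12 (u12 (u12 (q)))))))))))) q) = true := by decide +kernel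
theorem x_ne : u9 0 = 694 := by decide +kernel
theorem y_ne : u12 0 = 366 := by decide +kernel
theorem x6a_ord : SQ.allB 3510 (fun q => Nat.beq (u10 (u0 (u10 (u0 (u10 (u0 (u10 (u0 (u10 (u0 (u10 (u0 (u10 (u0 (q))))))))))))))) q) = true := by decide +kernel
theorem srel_0 : SQ.allB 3510 (fun q => Nat.beq (u3 (u4 (u5 (u3 (u2 (u1 (u3 (u7 (u8 (u3 (u4 (u5 (u3 (u2 (u1 (u3 (u7 (u8 (u3 (u4 (u5 (u3 (u2 (u1 (u3 (u7 (u8 (u3 (u4 (u5 (u3 (u2 (u1 (u3 (u7 (u8 (u3 (u4 (u5 (u3 (u2 (u1 (u3 (u7 (u8 (u3 (u4 (u5 (u3 (u2 (u1 (u3 (u7 (u8 (u3 (u4 (u5 (u3 (u2 (u1 (u3 (u7 (u8 (u3 (u4 (u5 (u3 (u2 (u1 (u3 (u7 (u8 (u3 (u4 (u5 (u3 (u2 (u1 (u3 (u7 (u8 (u3 (u4 (u5 (u3 (u2 (u1 (u3 (u7 (u8 (q))))))))))))))))))))))))))))))))))))))))))))))))))))))))))))))))))))))))))))))))))))))))))) q) = true := by decide +kernel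
theorem srel_1 : SQ.allB 3510 (fun q => Nat.beq (u6 (u5 (u4 (u3 (u2 (u1 (u7 (u6 (u5 (u4 (u3 (u2 (u1 (u7 (u6 (u5 (u4 (u3 (u2 (u1 (u7 (u6 (u5 (u4 (u3 (u2 (u1 (u7 (u6 (u5 (u4 (u3 (u2 (u1 (u7 (u6 (u5 (u4 (u3 (u2 (u1 (u7 (u6 (u5 (u4 (u3 (u2 (u1 (u7 (u6 (u5 (u4 (u3 (u2 (u1 (u7 (u6 (u5 (u4 (u3 (u2 (u1 (u7 (q)))))))))))))))))))))))))))))))))))))))))))))))))))))))))))))))) q) = true := by decide +kernel
theorem srel_2 : SQ.allB 3510 (fun q => Nat.beq (u5 (u4 (u3 (u2 (u1 (u0 (u7 (u5 (u4 (u3 (u2 (u1 (u0 (u7 (u5 (u4 (u3 (u2 (u1 (u0 (u7 (u5 (u4 (u3 (u2 (u1 (u0 (u7 (u5 (u4 (u3 (u2 (u1 (u0 (u7 (u5 (u4 (u3 (u2 (u1 (u0 (u7 (u5 (u4 (u3 (u2 (u1 (u0 (u7 (u5 (u4 (u3 (u2 (u1 (u0 (u7 (u5 (u4 (u3 (u2 (u1 (u0 (u7 (q)))))))))))))))))))))))))))))))))))))))))))))))))))))))))))))))) q) = true := by decide +kernel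
def cF1 (q : ℕ) : ℕ := u0 (u1 (q))
theorem crel_1 : SQ.allB 3510 (fun q => Nat.beq (u1 (cF1 q)) (cF1 (u0 q))) = true := by decide +kernel
theorem cpt_1 : cF1 0 = 695 := by decide +kernel
theorem mpt_1 : u9 (u9 (u9 (u9 (u9 (u9 (u9 (u9 (u9 (u9 (u9 (u9 (u0 (695))))))))))))) = 0 := by decide +kernel
def cF2 (q : ℕ) : ℕ := u1 (u2 (u0 (u1 (q))))
theorem crel_2 : SQ.allB 3510 (fun q => Nat.beq (u2 (cF2 q)) (cF2 (u0 q))) = true := by decide +kernel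
theorem cpt_2 : cF2 0 = 1 := by decide +kernel
theorem mpt_2 : u9 (u9 (u9 (u9 (u9 (u9 (u9 (u9 (u9 (u9 (u9 (u0 (u9 (1))))))))))))) = 0 := by decide +kernel
def cF3 (q : ℕ) : ℕ := u2 (u3 (u1 (u2 (u0 (u1 (q))))))
theorem crel_3 : SQ.allB 3510 (fun q => Nat.beq (u3 (cF3 q)) (cF3 (u0 q))) = true := by decide +kernel
theorem cpt_3 : cF3 0 = 3 := by decide +kernel
theorem mpt_3 : u9 (u9 (u9 (u0 (u9 (u9 (u9 (u9 (u9 (u9 (u9 (u9 (u0 (u9 (u9 (u9 (u0 (u9 (u9 (u9 (u9 (3))))))))))))))))))))) = 0 := by decide +kernel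
def cF4 (q : ℕ) : ℕ := u3 (u4 (u2 (u3 (u1 (u2 (u0 (u1 (q))))))))
theorem crel_4 : SQ.allB 3510 (fun q => Nat.beq (u4 (cF4 q)) (cF4 (u0 q))) = true := by decide +kernel
theorem cpt_4 : cF4 0 = 11 := by decide +kernel
theorem mpt_4 : u9 (u9 (u9 (u9 (u9 (u0 (u9 (u0 (u9 (u0 (u9 (u9 (u9 (u0 (u9 (u9 (u0 (u9 (u9 (u9 (11)))))))))))))))))))) = 0 := by decide +kernel
def cF5 (q : ℕ) : ℕ := u4 (u5 (u3 (u4 (u2 (u3 (u1 (u2 (u0 (u1 (q))))))))))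
theorem crel_5 : SQ.allB 3510 (fun q => Nat.beq (u5 (cF5 q)) (cF5 (u0 q))) = true := by decide +kernel
theorem cpt_5 : cF5 0 = 38 := by decide +kernel
theorem mpt_5 : u9 (u9 (u9 (u0 (u9 (u9 (u9 (u9 (u9 (u9 (u9 (u9 (u0 (u9 (u9 (u9 (u0 (u9 (u9 (u9 (u9 (u9 (u9 (u9 (38)))))))))))))))))))))))) = 0 := by decide +kernel
def cF6 (q : ℕ) : ℕ := u5 (u6 (u4 (u5 (u3 (u4 (u2 (u3 (u1 (u2 (u0 (u1 (q))))))))))))
theorem crel_6 : SQ.allB 3510 (fun q => Nat.beq (u6 (cF6 q)) (cF6 (u0 q))) = true := by decide +kernel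
theorem cpt_6 : cF6 0 = 106 := by decide +kernel
theorem mpt_6 : u9 (u9 (u9 (u0 (u9 (u9 (u9 (u9 (u9 (u9 (u9 (u9 (u0 (u9 (u9 (u9 (u0 (u9 (u9 (u9 (u9 (u9 (u9 (106))))))))))))))))))))))) = 0 := by decide +kernel
def cF7 (q : ℕ) : ℕ := u3 (u7 (u2 (u3 (u1 (u2 (u0 (u1 (q))))))))
theorem crel_7 : SQ.allB 3510 (fun q => Nat.beq (u7 (cF7 q)) (cF7 (u0 q))) = true := by decide +kernel
theorem cpt_7 : cF7 0 = 14 := by decide +kernel
theorem mpt_7 : u9 (u9 (u9 (u9 (u9 (u0 (u9 (u9 (u9 (u9 (u9 (u0 (u9 (u9 (u0 (u9 (u9 (u9 (u9 (u0 (u9 (u9 (14)))))))))))))))))))))) = 0 := by decide +kernel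
def cF8 (q : ℕ) : ℕ := u7 (u8 (u3 (u7 (u2 (u3 (u1 (u2 (u0 (u1 (q))))))))))
theorem crel_8 : SQ.allB 3510 (fun q => Nat.beq (u8 (cF8 q)) (cF8 (u0 q))) = true := by decide +kernel
theorem cpt_8 : cF8 0 = 47 := by decide +kernel
theorem mpt_8 : u9 (u9 (u9 (u9 (u9 (u9 (u9 (u9 (u0 (u9 (u0 (u9 (u0 (u9 (u9 (u9 (u9 (47))))))))))))))))) = 0 := by decide +kernel
def cF (q : ℕ) : ℕ := u8 (u7 (u6 (u4 (u5 (u2 (u3 (u4 (u1 (u2 (u3 (u7 (u8 (u5 (u2 (u3 (u4 (u1 (u2 (u3 (u7 (u6 (u5 (u4 (u3 (u2 (u1 (q)))))))))))))))))))))))))))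
def cFi (q : ℕ) : ℕ := u1 (u2 (u3 (u4 (u5 (u6 (u7 (u3 (u2 (u1 (u4 (u3 (u2 (u5 (u8 (u7 (u3 (u2 (u1 (u4 (u3 (u2 (u5 (u4 (u6 (u7 (u8 (q)))))))))))))))))))))))))))
theorem p0_eq : cF 0 = 2087 := by decide +kernel
theorem p0_fix : u12 2087 = 2087 := by decide +kernel
theorem pd_eq : cF (u0 (cFi 0)) = 1896 := by decide +kernel
theorem adj0_1 : Nat.beq (u0 694) 694 = false := by decide +kernel
theorem adj0_2 : Nat.beq (u0 700) 700 = false := by decide +kernel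
theorem adj0_3 : Nat.beq (u0 789) 789 = false := by decide +kernel
theorem adj0_4 : Nat.beq (u0 421) 421 = true := by decide +kernel
theorem adj0_5 : Nat.beq (u0 2073) 2073 = false := by decide +kernel
theorem adj0_6 : Nat.beq (u0 3375) 3375 = false := by decide +kernel
theorem xorb_eq : SQ.iterL u9 13 0 = [0, 694, 700, 789, 421, 2073, 3375, 3391, 2870, 363, 895, 701, 696] := by decide +kernel
theorem baseX : LsX.map (fun L => L.b) = SQ.iterL u9 6 0 := by decide +kernel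
theorem baseY : LsY.map (fun L => L.b) = SQ.iterL u12 6 0 := by decide +kernel

end Cfsg.Agent.Lib.Helper8.FiO
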