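import Cfsg.Agent.Lib.Helper8.FaUT
import Cfsg.Agent.Lib.Helper8.FiO2
import Cfsg.Agent.Lib.Helper8.FiO3

set_option autoImplicit false
set_option maxRecDepth 100000

/-! Fi22 on 3510 points: the tables are realised by group elements; the two verified chains (generated). -/

namespace Cfsg.Agent.Lib.Helper8.FiO

open Cfsg.Spor Cfsg.Agent.Lib.Helper4.TC Cfsg.Agent.Lib.Helper4.TCD Cfsg.Agent.Lib.Helper4.TC.Log
open Cfsg.Agent.Lib.Helper8.FaU

theorem gen_0 : SQ.allB 3510 (fun i => Nat.beq (u0 i) (Tab.act Fi22a.T Fi22a.D [0] i)) = true := by decide +kernel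
theorem gen_1 : SQ.allB 3510 (fun i => Nat.beq (u1 i) (Tab.act Fi22a.T Fi22a.D [1] i)) = true := by decide +kernel
theorem gen_2 : SQ.allB 3510 (fun i => Nat.beq (u2 i) (Tab.act Fi22a.T Fi22a.D [2] i)) = true := by decide +kernel
theorem gen_3 : SQ.allB 3510 (fun i => Nat.beq (u3 i) (Tab.act Fi22a.T Fi22a.D [3] i)) = true := by decide +kernel
theorem gen_4 : SQ.allB 3510 (fun i => Nat.beq (u4 i) (Tab.act Fi22a.T Fi22a.D [4] i)) = true := by decide +kernel
theorem gen_5 : SQ.allB 3510 (fun i => Nat.beq (u5 i) (Tab.act Fi22a.T Fi22a.D [5] i)) = true := by decide +kernel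
theorem gen_6 : SQ.allB 3510 (fun i => Nat.beq (u6 i) (Tab.act Fi22a.T Fi22a.D [6] i)) = true := by decide +kernel
theorem gen_7 : SQ.allB 3510 (fun i => Nat.beq (u7 i) (Tab.act Fi22a.T Fi22a.D [7] i)) = true := by decide +kernel
theorem gen_8 : SQ.allB 3510 (fun i => Nat.beq (u8 i) (Tab.act Fi22a.T Fi22a.D [8] i)) = true := by decide +kernel

/-- the action on the 3510 points -/
noncomputable def φ : G22 →* Equiv.Perm (Fin 3510) := φT

theorem φ_inj : Function.Injective φ := φT_inj

theorem φ_word (w : List ℕ) (hw : ∀ y ∈ w, y < 9) (x : Fin 3510) :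
    (φ (wordP PFi22.P.gR w) x).1 = Tab.act Fi22a.T Fi22a.D w x.1 := phi_word' w hw x

/-- the permutation group on the 3510 points -/
noncomputable abbrev K22 : Subgroup (Equiv.Perm (Fin 3510)) := φ.range

theorem ub_act (k : ℕ) (hk : k < 9) (i : ℕ) (hi : i < 3510) :
    ub k i = Tab.act Fi22a.T Fi22a.D [k] i := by
  interval_cases k
  · exact Nat.eq_of_beq_eq_true (SQ.allB_spec gen_0 i hi)
  · exact Nat.eq_of_beq_eq_true (SQ.allB_spec gen_1 i hi)
  · exact Nat.eq_of_beq_eq_true (SQ.allB_spec gen_2 i hi)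
  · exact Nat.eq_of_beq_eq_true (SQ.allB_spec gen_3 i hi)
  · exact Nat.eq_of_beq_eq_true (SQ.allB_spec gen_4 i hi)
  · exact Nat.eq_of_beq_eq_true (SQ.allB_spec gen_5 i hi)
  · exact Nat.eq_of_beq_eq_true (SQ.allB_spec gen_6 i hi)
  · exact Nat.eq_of_beq_eq_true (SQ.allB_spec gen_7 i hi)
  · exact Nat.eq_of_beq_eq_true (SQ.allB_spec gen_8 i hi)

/-- the action of a word in the generators -/
def actU (w : List ℕ) (i : ℕ) : ℕ := w.foldr (fun k acc => ub k acc) i

theorem actU_nil (i : ℕ) : actU [] i = i := rfl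

theorem actU_cons (k : ℕ) (w : List ℕ) (i : ℕ) : actU (k :: w) i = ub k (actU w i) := rfl

theorem actU_append (w w' : List ℕ) (i : ℕ) : actU (w ++ w') i = actU w (actU w' i) := by
  unfold actU
  rw [List.foldr_append]

theorem act_lt (w : List ℕ) (hw : ∀ y ∈ w, y < 9) (i : ℕ) (hi : i < 3510) :
    Tab.act Fi22a.T Fi22a.D w i < 3510 := by
  have := φ_word w hw ⟨i, hi⟩
  show Tab.act Fi22a.T Fi22a.D w (⟨i, hi⟩ : Fin 3510).1 < 3510
  rw [← this]
  exact (φ (wordP PFi22.P.gR w) ⟨i, hi⟩).2

theorem act_eq (w : List ℕ) (hw : ∀ y ∈ w, y < 9) (i : ℕ) (hi : i < 3510) :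
    Tab.act Fi22a.T Fi22a.D w i = actU w i := by
  induction w with
  | nil => rfl
  | cons k w ih =>
    have hw' : ∀ y ∈ w, y < 9 := fun y hy => hw y (List.mem_cons_of_mem _ hy)
    have e : Tab.act Fi22a.T Fi22a.D (k :: w) i =
        Tab.act Fi22a.T Fi22a.D [k] (Tab.act Fi22a.T Fi22a.D w i) := rfl
    rw [e, ← ub_act k (hw k List.mem_cons_self) _ (act_lt w hw' i hi), ih hw', actU_cons]

theorem gN_word (w : List ℕ) (hw : ∀ y ∈ w, y < 9) (i : ℕ) (hi : i < 3510) :
    SQ.gN (φ (wordP PFi22.P.gR w)) i = actU w i := by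
  rw [SQ.gN_of_lt _ hi, ← act_eq w hw i hi]
  exact φ_word w hw ⟨i, hi⟩

theorem real_gen (k : ℕ) (hk : k < 9) : SQ.Real K22 (ub k) := by
  refine ⟨φ (wordP PFi22.P.gR [k]), ⟨_, rfl⟩, fun i hi => ?_⟩
  rw [gN_word [k] (by intro y hy; rw [List.mem_singleton] at hy; omega) i hi]
  rfl

theorem real_0 : SQ.Real K22 u0 := real_gen 0 (by decide)
theorem real_1 : SQ.Real K22 u1 := real_gen 1 (by decide)
theorem real_2 : SQ.Real K22 u2 := real_gen 2 (by decide)
theorem real_3 : SQ.Real K22 u3 := real_gen 3 (by decide)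
theorem real_4 : SQ.Real K22 u4 := real_gen 4 (by decide)
theorem real_5 : SQ.Real K22 u5 := real_gen 5 (by decide)
theorem real_6 : SQ.Real K22 u6 := real_gen 6 (by decide)
theorem real_7 : SQ.Real K22 u7 := real_gen 7 (by decide)
theorem real_8 : SQ.Real K22 u8 := real_gen 8 (by decide)

theorem real_9 : SQ.Real K22 u9 :=
  SQ.real_of_eq (fL := fun x => u4 (u5 (u3 (u1 (u8 (u6 (u2 (u7 (x))))))))) (fR := fun x => x)
    ((real_4).comp ((real_5).comp ((real_3).comp ((real_1).comp ((real_8).comp ((real_6).comp ((real_2).comp (real_7))))))))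
    (SQ.real_id)
    (fun x hx => Nat.eq_of_beq_eq_true (SQ.allB_spec cert_9 x hx))
theorem real_10 : SQ.Real K22 u10 :=
  SQ.real_of_eq (fL := fun x => u9 (u9 (u9 (u9 (u9 (u9 (x))))))) (fR := fun x => x)
    ((real_9).comp ((real_9).comp ((real_9).comp ((real_9).comp ((real_9).comp (real_9))))))
    (SQ.real_id)
    (fun x hx => Nat.eq_of_beq_eq_true (SQ.allB_spec cert_10 x hx))
theorem real_11 : SQ.Real K22 u11 :=
  SQ.real_of_eq (fL := fun x => u2 (u1 (u3 (u5 (u8 (u0 (u4 (u7 (x))))))))) (fR := fun x => x)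
    ((real_2).comp ((real_1).comp ((real_3).comp ((real_5).comp ((real_8).comp ((real_0).comp ((real_4).comp (real_7))))))))
    (SQ.real_id)
    (fun x hx => Nat.eq_of_beq_eq_true (SQ.allB_spec cert_11 x hx))
theorem real_12 : SQ.Real K22 u12 :=
  SQ.real_of_eq (fL := fun x => u4 (u7 (u5 (u8 (u0 (u4 (u5 (u1 (u3 (u7 (u5 (u0 (u8 (u2 (u5 (u4 (u8 (u1 (u3 (u8 (u6 (u4 (u7 (u5 (u8 (u0 (u4 (u5 (u1 (u3 (u7 (u5 (u0 (u8 (u2 (u5 (u4 (u8 (u1 (u3 (u8 (u6 (x))))))))))))))))))))))))))))))))))))))))))) (fR := fun x => x)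
    ((real_4).comp ((real_7).comp ((real_5).comp ((real_8).comp ((real_0).comp ((real_4).comp ((real_5).comp ((real_1).comp ((real_3).comp ((real_7).comp ((real_5).comp ((real_0).comp ((real_8).comp ((real_2).comp ((real_5).comp ((real_4).comp ((real_8).comp ((real_1).comp ((real_3).comp ((real_8).comp ((real_6).comp ((real_4).comp ((real_7).comp ((real_5).comp ((real_8).comp ((real_0).comp ((real_4).comp ((real_5).comp ((real_1).comp ((real_3).comp ((real_7).comp ((real_5).comp ((real_0).comp ((real_8).comp ((real_2).comp ((real_5).comp ((real_4).comp ((real_8).comp ((real_1).comp ((real_3).comp ((real_8).comp (real_6))))))))))))))))))))))))))))))))))))))))))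
    (SQ.real_id)
    (fun x hx => Nat.eq_of_beq_eq_true (SQ.allB_spec cert_12 x hx))
theorem real_13 : SQ.Real K22 u13 :=
  SQ.real_of_eq (fL := fun x => u1 (u2 (u3 (u4 (u5 (u6 (u7 (u3 (u2 (u1 (u4 (u3 (u5 (u8 (u7 (u3 (u2 (u4 (u3 (u5 (u4 (u7 (u3 (u2 (u1 (u0 (u1 (x)))))))))))))))))))))))))))) (fR := fun x => u1 (u2 (u3 (u4 (u5 (u6 (u7 (u3 (u2 (u1 (u4 (u3 (u5 (u8 (u7 (u3 (u2 (u4 (u3 (u5 (u4 (u7 (u3 (u2 (u1 (u0 (x)))))))))))))))))))))))))))
    ((real_1).comp ((real_2).comp ((real_3).comp ((real_4).comp ((real_5).comp ((real_6).comp ((real_7).comp ((real_3).comp ((real_2).comp ((real_1).comp ((real_4).comp ((real_3).comp ((real_5).comp ((real_8).comp ((real_7).comp ((real_3).comp ((real_2).comp ((real_4).comp ((real_3).comp ((real_5).comp ((real_4).comp ((real_7).comp ((real_3).comp ((real_2).comp ((real_1).comp ((real_0).comp (real_1)))))))))))))))))))))))))))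
    ((real_1).comp ((real_2).comp ((real_3).comp ((real_4).comp ((real_5).comp ((real_6).comp ((real_7).comp ((real_3).comp ((real_2).comp ((real_1).comp ((real_4).comp ((real_3).comp ((real_5).comp ((real_8).comp ((real_7).comp ((real_3).comp ((real_2).comp ((real_4).comp ((real_3).comp ((real_5).comp ((real_4).comp ((real_7).comp ((real_3).comp ((real_2).comp ((real_1).comp (real_0))))))))))))))))))))))))))
    (fun x hx => Nat.eq_of_beq_eq_true (SQ.allB_spec cert_13 x hx))
theorem real_14 : SQ.Real K22 u14 :=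
  SQ.real_of_eq (fL := fun x => u1 (u2 (u3 (u4 (u5 (u6 (u7 (u3 (u2 (u1 (u4 (u3 (u5 (u4 (u7 (u8 (u7 (u3 (u2 (u1 (u4 (u3 (u5 (u4 (u7 (u3 (u2 (u1 (u8 (u7 (u3 (u6 (x))))))))))))))))))))))))))))))))) (fR := fun x => u1 (u2 (u3 (u4 (u5 (u6 (u7 (u3 (u2 (u1 (u4 (u3 (u2 (u5 (u4 (u8 (u7 (u3 (u2 (u1 (u0 (u4 (u3 (u2 (u5 (u7 (u3 (u4 (u5 (u8 (u7 (u3 (x)))))))))))))))))))))))))))))))))
    ((real_1).comp ((real_2).comp ((real_3).comp ((real_4).comp ((real_5).comp ((real_6).comp ((real_7).comp ((real_3).comp ((real_2).comp ((real_1).comp ((real_4).comp ((real_3).comp ((real_5).comp ((real_4).comp ((real_7).comp ((real_8).comp ((real_7).comp ((real_3).comp ((real_2).comp ((real_1).comp ((real_4).comp ((real_3).comp ((real_5).comp ((real_4).comp ((real_7).comp ((real_3).comp ((real_2).comp ((real_1).comp ((real_8).comp ((real_7).comp ((real_3).comp (real_6))))))))))))))))))))))))))))))))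
    ((real_1).comp ((real_2).comp ((real_3).comp ((real_4).comp ((real_5).comp ((real_6).comp ((real_7).comp ((real_3).comp ((real_2).comp ((real_1).comp ((real_4).comp ((real_3).comp ((real_2).comp ((real_5).comp ((real_4).comp ((real_8).comp ((real_7).comp ((real_3).comp ((real_2).comp ((real_1).comp ((real_0).comp ((real_4).comp ((real_3).comp ((real_2).comp ((real_5).comp ((real_7).comp ((real_3).comp ((real_4).comp ((real_5).comp ((real_8).comp ((real_7).comp (real_3))))))))))))))))))))))))))))))))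
    (fun x hx => Nat.eq_of_beq_eq_true (SQ.allB_spec cert_14 x hx))
theorem real_15 : SQ.Real K22 u15 :=
  SQ.real_of_eq (fL := fun x => u13 (u14 (u14 (u14 (u13 (u14 (u14 (u13 (u14 (u14 (u14 (u13 (x))))))))))))) (fR := fun x => u13 (u14 (u14 (u14 (u13 (u14 (u14 (u13 (u14 (u14 (u14 (x))))))))))))
    ((real_13).comp ((real_14).comp ((real_14).comp ((real_14).comp ((real_13).comp ((real_14).comp ((real_14).comp ((real_13).comp ((real_14).comp ((real_14).comp ((real_14).comp (real_13))))))))))))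
    ((real_13).comp ((real_14).comp ((real_14).comp ((real_14).comp ((real_13).comp ((real_14).comp ((real_14).comp ((real_13).comp ((real_14).comp ((real_14).comp (real_14)))))))))))
    (fun x hx => Nat.eq_of_beq_eq_true (SQ.allB_spec cert_15 x hx))
theorem real_16 : SQ.Real K22 u16 :=
  SQ.real_of_eq (fL := fun x => u1 (u2 (u3 (u4 (u5 (u6 (u7 (u3 (u2 (u1 (u4 (u3 (u2 (u5 (u4 (u8 (u7 (u3 (u2 (u4 (u3 (u5 (u4 (u7 (u3 (u2 (u1 (u8 (u7 (u3 (x))))))))))))))))))))))))))))))) (fR := fun x => u1 (u2 (u3 (u4 (u5 (u6 (u7 (u3 (u2 (u1 (u4 (u3 (u2 (u5 (u4 (u8 (u7 (u3 (u2 (u1 (u4 (u3 (u5 (u4 (u6 (u5 (u7 (u3 (u8 (u7 (x)))))))))))))))))))))))))))))))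
    ((real_1).comp ((real_2).comp ((real_3).comp ((real_4).comp ((real_5).comp ((real_6).comp ((real_7).comp ((real_3).comp ((real_2).comp ((real_1).comp ((real_4).comp ((real_3).comp ((real_2).comp ((real_5).comp ((real_4).comp ((real_8).comp ((real_7).comp ((real_3).comp ((real_2).comp ((real_4).comp ((real_3).comp ((real_5).comp ((real_4).comp ((real_7).comp ((real_3).comp ((real_2).comp ((real_1).comp ((real_8).comp ((real_7).comp (real_3))))))))))))))))))))))))))))))
    ((real_1).comp ((real_2).comp ((real_3).comp ((real_4).comp ((real_5).comp ((real_6).comp ((real_7).comp ((real_3).comp ((real_2).comp ((real_1).comp ((real_4).comp ((real_3).comp ((real_2).comp ((real_5).comp ((real_4).comp ((real_8).comp ((real_7).comp ((real_3).comp ((real_2).comp ((real_1).comp ((real_4).comp ((real_3).comp ((real_5).comp ((real_4).comp ((real_6).comp ((real_5).comp ((real_7).comp ((real_3).comp ((real_8).comp (real_7))))))))))))))))))))))))))))))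
    (fun x hx => Nat.eq_of_beq_eq_true (SQ.allB_spec cert_16 x hx))
theorem real_17 : SQ.Real K22 u17 :=
  SQ.real_of_eq (fL := fun x => u13 (u16 (u16 (u14 (u14 (u13 (u16 (u14 (u14 (u13 (u16 (u14 (u16 (x)))))))))))))) (fR := fun x => u16 (u16 (u14 (u14 (u16 (u16 (u14 (u13 (u16 (u14 (u14 (x))))))))))))
    ((real_13).comp ((real_16).comp ((real_16).comp ((real_14).comp ((real_14).comp ((real_13).comp ((real_16).comp ((real_14).comp ((real_14).comp ((real_13).comp ((real_16).comp ((real_14).comp (real_16)))))))))))))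
    ((real_16).comp ((real_16).comp ((real_14).comp ((real_14).comp ((real_16).comp ((real_16).comp ((real_14).comp ((real_13).comp ((real_16).comp ((real_14).comp (real_14)))))))))))
    (fun x hx => Nat.eq_of_beq_eq_true (SQ.allB_spec cert_17 x hx))
theorem real_18 : SQ.Real K22 u18 :=
  SQ.real_of_eq (fL := fun x => u1 (u2 (u3 (u4 (u5 (u6 (u7 (u3 (u2 (u1 (u4 (u3 (u2 (u5 (u4 (u3 (u8 (u7 (u3 (u2 (u1 (u0 (u4 (u3 (u2 (u1 (u7 (u3 (u2 (u8 (u7 (u8 (x))))))))))))))))))))))))))))))))) (fR := fun x => u1 (u2 (u3 (u4 (u5 (u6 (u7 (u3 (u2 (u1 (u4 (u3 (u2 (u5 (u4 (u3 (u8 (u7 (u3 (u2 (u1 (u0 (u4 (u3 (u2 (u1 (u7 (u3 (u2 (u8 (u7 (x))))))))))))))))))))))))))))))))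
    ((real_1).comp ((real_2).comp ((real_3).comp ((real_4).comp ((real_5).comp ((real_6).comp ((real_7).comp ((real_3).comp ((real_2).comp ((real_1).comp ((real_4).comp ((real_3).comp ((real_2).comp ((real_5).comp ((real_4).comp ((real_3).comp ((real_8).comp ((real_7).comp ((real_3).comp ((real_2).comp ((real_1).comp ((real_0).comp ((real_4).comp ((real_3).comp ((real_2).comp ((real_1).comp ((real_7).comp ((real_3).comp ((real_2).comp ((real_8).comp ((real_7).comp (real_8))))))))))))))))))))))))))))))))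
    ((real_1).comp ((real_2).comp ((real_3).comp ((real_4).comp ((real_5).comp ((real_6).comp ((real_7).comp ((real_3).comp ((real_2).comp ((real_1).comp ((real_4).comp ((real_3).comp ((real_2).comp ((real_5).comp ((real_4).comp ((real_3).comp ((real_8).comp ((real_7).comp ((real_3).comp ((real_2).comp ((real_1).comp ((real_0).comp ((real_4).comp ((real_3).comp ((real_2).comp ((real_1).comp ((real_7).comp ((real_3).comp ((real_2).comp ((real_8).comp (real_7)))))))))))))))))))))))))))))))
    (fun x hx => Nat.eq_of_beq_eq_true (SQ.allB_spec cert_18 x hx))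
theorem real_19 : SQ.Real K22 u19 :=
  SQ.real_of_eq (fL := fun x => u1 (u0 (u2 (u1 (u3 (u4 (u5 (u7 (u3 (u7 (x))))))))))) (fR := fun x => u1 (u0 (u2 (u1 (u3 (u4 (u5 (u7 (u3 (x))))))))))
    ((real_1).comp ((real_0).comp ((real_2).comp ((real_1).comp ((real_3).comp ((real_4).comp ((real_5).comp ((real_7).comp ((real_3).comp (real_7))))))))))
    ((real_1).comp ((real_0).comp ((real_2).comp ((real_1).comp ((real_3).comp ((real_4).comp ((real_5).comp ((real_7).comp (real_3)))))))))
    (fun x hx => Nat.eq_of_beq_eq_true (SQ.allB_spec cert_19 x hx))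
theorem real_20 : SQ.Real K22 u20 :=
  SQ.real_of_eq (fL := fun x => u13 (u18 (u19 (u14 (u18 (u16 (u14 (u1 (u2 (u3 (u4 (u5 (u6 (u7 (u3 (u2 (u4 (u3 (u8 (u7 (u3 (u2 (u4 (u3 (u5 (u6 (u1 (x)))))))))))))))))))))))))))) (fR := fun x => u1 (u2 (u3 (u4 (u5 (u6 (u7 (u3 (u2 (u4 (u3 (u7 (u8 (u7 (u3 (u2 (u1 (u0 (u4 (u5 (x)))))))))))))))))))))
    ((real_13).comp ((real_18).comp ((real_19).comp ((real_14).comp ((real_18).comp ((real_16).comp ((real_14).comp ((real_1).comp ((real_2).comp ((real_3).comp ((real_4).comp ((real_5).comp ((real_6).comp ((real_7).comp ((real_3).comp ((real_2).comp ((real_4).comp ((real_3).comp ((real_8).comp ((real_7).comp ((real_3).comp ((real_2).comp ((real_4).comp ((real_3).comp ((real_5).comp ((real_6).comp (real_1)))))))))))))))))))))))))))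
    ((real_1).comp ((real_2).comp ((real_3).comp ((real_4).comp ((real_5).comp ((real_6).comp ((real_7).comp ((real_3).comp ((real_2).comp ((real_4).comp ((real_3).comp ((real_7).comp ((real_8).comp ((real_7).comp ((real_3).comp ((real_2).comp ((real_1).comp ((real_0).comp ((real_4).comp (real_5))))))))))))))))))))
    (fun x hx => Nat.eq_of_beq_eq_true (SQ.allB_spec cert_20 x hx))
theorem real_21 : SQ.Real K22 u21 :=
  SQ.real_of_eq (fL := fun x => u18 (u20 (u15 (u20 (u17 (u18 (u19 (u20 (u18 (x)))))))))) (fR := fun x => u20 (u17 (u20 (u18 (u20 (u17 (u20 (x))))))))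
    ((real_18).comp ((real_20).comp ((real_15).comp ((real_20).comp ((real_17).comp ((real_18).comp ((real_19).comp ((real_20).comp (real_18)))))))))
    ((real_20).comp ((real_17).comp ((real_20).comp ((real_18).comp ((real_20).comp ((real_17).comp (real_20)))))))
    (fun x hx => Nat.eq_of_beq_eq_true (SQ.allB_spec cert_21 x hx))
theorem real_22 : SQ.Real K22 u22 :=
  SQ.real_of_eq (fL := fun x => u15 (u18 (u20 (u18 (u20 (u17 (x))))))) (fR := fun x => u15 (u18 (u20 (u18 (u20 (x))))))
    ((real_15).comp ((real_18).comp ((real_20).comp ((real_18).comp ((real_20).comp (real_17))))))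
    ((real_15).comp ((real_18).comp ((real_20).comp ((real_18).comp (real_20)))))
    (fun x hx => Nat.eq_of_beq_eq_true (SQ.allB_spec cert_22 x hx))
theorem real_23 : SQ.Real K22 u23 :=
  SQ.real_of_eq (fL := fun x => u17 (u18 (u20 (u15 (u20 (u17 (u18 (u13 (u16 (u20 (u14 (u14 (u16 (u19 (x))))))))))))))) (fR := fun x => u13 (u20 (u16 (u20 (u16 (u18 (x)))))))
    ((real_17).comp ((real_18).comp ((real_20).comp ((real_15).comp ((real_20).comp ((real_17).comp ((real_18).comp ((real_13).comp ((real_16).comp ((real_20).comp ((real_14).comp ((real_14).comp ((real_16).comp (real_19))))))))))))))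
    ((real_13).comp ((real_20).comp ((real_16).comp ((real_20).comp ((real_16).comp (real_18))))))
    (fun x hx => Nat.eq_of_beq_eq_true (SQ.allB_spec cert_23 x hx))
theorem real_24 : SQ.Real K22 u24 :=
  SQ.real_of_eq (fL := fun x => u19 (u20 (u17 (u20 (u17 (u13 (u20 (u14 (u20 (u14 (u14 (u13 (u16 (x)))))))))))))) (fR := fun x => u14 (u20 (u18 (u13 (u16 (u16 (u20 (x))))))))
    ((real_19).comp ((real_20).comp ((real_17).comp ((real_20).comp ((real_17).comp ((real_13).comp ((real_20).comp ((real_14).comp ((real_20).comp ((real_14).comp ((real_14).comp ((real_13).comp (real_16)))))))))))))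
    ((real_14).comp ((real_20).comp ((real_18).comp ((real_13).comp ((real_16).comp ((real_16).comp (real_20)))))))
    (fun x hx => Nat.eq_of_beq_eq_true (SQ.allB_spec cert_24 x hx))
theorem real_25 : SQ.Real K22 u25 :=
  SQ.real_of_eq (fL := fun x => u18 (u24 (u20 (u24 (u20 (u19 (x))))))) (fR := fun x => u18 (u24 (u20 (u24 (u20 (x))))))
    ((real_18).comp ((real_24).comp ((real_20).comp ((real_24).comp ((real_20).comp (real_19))))))
    ((real_18).comp ((real_24).comp ((real_20).comp ((real_24).comp (real_20)))))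
    (fun x hx => Nat.eq_of_beq_eq_true (SQ.allB_spec cert_25 x hx))
theorem real_26 : SQ.Real K22 u26 :=
  SQ.real_of_eq (fL := fun x => u22 (u24 (u24 (u23 (u24 (x)))))) (fR := fun x => u23 (u24 (u23 (x))))
    ((real_22).comp ((real_24).comp ((real_24).comp ((real_23).comp (real_24)))))
    ((real_23).comp ((real_24).comp (real_23)))
    (fun x hx => Nat.eq_of_beq_eq_true (SQ.allB_spec cert_26 x hx))
theorem real_27 : SQ.Real K22 u27 :=
  SQ.real_of_eq (fL := fun x => u25 (u26 (u23 (u22 (u24 (u15 (u17 (u18 (u24 (u23 (u18 (u17 (x))))))))))))) (fR := fun x => u19 (u20 (u24 (u15 (u24 (x))))))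
    ((real_25).comp ((real_26).comp ((real_23).comp ((real_22).comp ((real_24).comp ((real_15).comp ((real_17).comp ((real_18).comp ((real_24).comp ((real_23).comp ((real_18).comp (real_17))))))))))))
    ((real_19).comp ((real_20).comp ((real_24).comp ((real_15).comp (real_24)))))
    (fun x hx => Nat.eq_of_beq_eq_true (SQ.allB_spec cert_27 x hx))
theorem real_28 : SQ.Real K22 u28 :=
  SQ.real_of_eq (fL := fun x => u26 (u27 (u21 (u22 (u23 (u27 (u15 (u20 (u18 (u24 (u24 (u13 (u14 (u14 (u16 (u20 (u14 (u19 (u20 (x)))))))))))))))))))) (fR := fun x => u16 (u16 (u19 (u18 (u14 (u18 (x)))))))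
    ((real_26).comp ((real_27).comp ((real_21).comp ((real_22).comp ((real_23).comp ((real_27).comp ((real_15).comp ((real_20).comp ((real_18).comp ((real_24).comp ((real_24).comp ((real_13).comp ((real_14).comp ((real_14).comp ((real_16).comp ((real_20).comp ((real_14).comp ((real_19).comp (real_20)))))))))))))))))))
    ((real_16).comp ((real_16).comp ((real_19).comp ((real_18).comp ((real_14).comp (real_18))))))
    (fun x hx => Nat.eq_of_beq_eq_true (SQ.allB_spec cert_28 x hx))
theorem real_29 : SQ.Real K22 u29 :=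
  SQ.real_of_eq (fL := fun x => u1 (u2 (u3 (u4 (u5 (u6 (u7 (u3 (u2 (u1 (u4 (u3 (u5 (u8 (u7 (u3 (u2 (u4 (u3 (u5 (u4 (u7 (u3 (u2 (u1 (u0 (u1 (x)))))))))))))))))))))))))))) (fR := fun x => u1 (u2 (u3 (u4 (u5 (u6 (u7 (u3 (u2 (u1 (u4 (u3 (u5 (u8 (u7 (u3 (u2 (u4 (u3 (u5 (u4 (u7 (u3 (u2 (u1 (u0 (x)))))))))))))))))))))))))))
    ((real_1).comp ((real_2).comp ((real_3).comp ((real_4).comp ((real_5).comp ((real_6).comp ((real_7).comp ((real_3).comp ((real_2).comp ((real_1).comp ((real_4).comp ((real_3).comp ((real_5).comp ((real_8).comp ((real_7).comp ((real_3).comp ((real_2).comp ((real_4).comp ((real_3).comp ((real_5).comp ((real_4).comp ((real_7).comp ((real_3).comp ((real_2).comp ((real_1).comp ((real_0).comp (real_1)))))))))))))))))))))))))))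
    ((real_1).comp ((real_2).comp ((real_3).comp ((real_4).comp ((real_5).comp ((real_6).comp ((real_7).comp ((real_3).comp ((real_2).comp ((real_1).comp ((real_4).comp ((real_3).comp ((real_5).comp ((real_8).comp ((real_7).comp ((real_3).comp ((real_2).comp ((real_4).comp ((real_3).comp ((real_5).comp ((real_4).comp ((real_7).comp ((real_3).comp ((real_2).comp ((real_1).comp (real_0))))))))))))))))))))))))))
    (fun x hx => Nat.eq_of_beq_eq_true (SQ.allB_spec cert_29 x hx))
theorem real_30 : SQ.Real K22 u30 :=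
  SQ.real_of_eq (fL := fun x => u1 (u2 (u3 (u4 (u5 (u6 (u7 (u3 (u2 (u1 (u4 (u3 (u5 (u4 (u7 (u8 (u7 (u3 (u2 (u1 (u4 (u3 (u5 (u4 (u7 (u3 (u2 (u1 (u8 (u7 (u3 (u6 (x))))))))))))))))))))))))))))))))) (fR := fun x => u1 (u2 (u3 (u4 (u5 (u6 (u7 (u3 (u2 (u1 (u4 (u3 (u2 (u5 (u4 (u8 (u7 (u3 (u2 (u1 (u0 (u4 (u3 (u2 (u5 (u7 (u3 (u4 (u5 (u8 (u7 (u3 (x)))))))))))))))))))))))))))))))))
    ((real_1).comp ((real_2).comp ((real_3).comp ((real_4).comp ((real_5).comp ((real_6).comp ((real_7).comp ((real_3).comp ((real_2).comp ((real_1).comp ((real_4).comp ((real_3).comp ((real_5).comp ((real_4).comp ((real_7).comp ((real_8).comp ((real_7).comp ((real_3).comp ((real_2).comp ((real_1).comp ((real_4).comp ((real_3).comp ((real_5).comp ((real_4).comp ((real_7).comp ((real_3).comp ((real_2).comp ((real_1).comp ((real_8).comp ((real_7).comp ((real_3).comp (real_6))))))))))))))))))))))))))))))))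
    ((real_1).comp ((real_2).comp ((real_3).comp ((real_4).comp ((real_5).comp ((real_6).comp ((real_7).comp ((real_3).comp ((real_2).comp ((real_1).comp ((real_4).comp ((real_3).comp ((real_2).comp ((real_5).comp ((real_4).comp ((real_8).comp ((real_7).comp ((real_3).comp ((real_2).comp ((real_1).comp ((real_0).comp ((real_4).comp ((real_3).comp ((real_2).comp ((real_5).comp ((real_7).comp ((real_3).comp ((real_4).comp ((real_5).comp ((real_8).comp ((real_7).comp (real_3))))))))))))))))))))))))))))))))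
    (fun x hx => Nat.eq_of_beq_eq_true (SQ.allB_spec cert_30 x hx))
theorem real_31 : SQ.Real K22 u31 :=
  SQ.real_of_eq (fL := fun x => u29 (u30 (u30 (u29 (u30 (u30 (u29 (u30 (u30 (u30 (u1 (u0 (u2 (u3 (u4 (u5 (u7 (u3 (u8 (u7 (u8 (x)))))))))))))))))))))) (fR := fun x => u1 (u0 (u2 (u3 (u4 (u5 (u7 (u3 (u8 (u7 (x)))))))))))
    ((real_29).comp ((real_30).comp ((real_30).comp ((real_29).comp ((real_30).comp ((real_30).comp ((real_29).comp ((real_30).comp ((real_30).comp ((real_30).comp ((real_1).comp ((real_0).comp ((real_2).comp ((real_3).comp ((real_4).comp ((real_5).comp ((real_7).comp ((real_3).comp ((real_8).comp ((real_7).comp (real_8)))))))))))))))))))))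
    ((real_1).comp ((real_0).comp ((real_2).comp ((real_3).comp ((real_4).comp ((real_5).comp ((real_7).comp ((real_3).comp ((real_8).comp (real_7))))))))))
    (fun x hx => Nat.eq_of_beq_eq_true (SQ.allB_spec cert_31 x hx))
theorem real_32 : SQ.Real K22 u32 :=
  SQ.real_of_eq (fL := fun x => u30 (u29 (u30 (u30 (u30 (u30 (u31 (u30 (u29 (x)))))))))) (fR := fun x => u30 (u30 (u30 (u31 (u30 (u30 (u30 (x))))))))
    ((real_30).comp ((real_29).comp ((real_30).comp ((real_30).comp ((real_30).comp ((real_30).comp ((real_31).comp ((real_30).comp (real_29)))))))))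
    ((real_30).comp ((real_30).comp ((real_30).comp ((real_31).comp ((real_30).comp ((real_30).comp (real_30)))))))
    (fun x hx => Nat.eq_of_beq_eq_true (SQ.allB_spec cert_32 x hx))
theorem real_33 : SQ.Real K22 u33 :=
  SQ.real_of_eq (fL := fun x => u1 (u2 (u3 (u4 (u5 (u6 (u7 (u3 (u2 (u1 (u4 (u3 (u2 (u5 (u8 (u7 (u3 (u2 (u1 (u0 (u4 (u3 (u2 (u1 (u5 (u4 (u7 (u3 (u2 (u7 (x))))))))))))))))))))))))))))))) (fR := fun x => u1 (u2 (u3 (u4 (u5 (u6 (u7 (u3 (u2 (u1 (u4 (u3 (u2 (u5 (u4 (u8 (u7 (u3 (u2 (u1 (u0 (u4 (u3 (u2 (u1 (u5 (u4 (u7 (u3 (u4 (x)))))))))))))))))))))))))))))))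
    ((real_1).comp ((real_2).comp ((real_3).comp ((real_4).comp ((real_5).comp ((real_6).comp ((real_7).comp ((real_3).comp ((real_2).comp ((real_1).comp ((real_4).comp ((real_3).comp ((real_2).comp ((real_5).comp ((real_8).comp ((real_7).comp ((real_3).comp ((real_2).comp ((real_1).comp ((real_0).comp ((real_4).comp ((real_3).comp ((real_2).comp ((real_1).comp ((real_5).comp ((real_4).comp ((real_7).comp ((real_3).comp ((real_2).comp (real_7))))))))))))))))))))))))))))))
    ((real_1).comp ((real_2).comp ((real_3).comp ((real_4).comp ((real_5).comp ((real_6).comp ((real_7).comp ((real_3).comp ((real_2).comp ((real_1).comp ((real_4).comp ((real_3).comp ((real_2).comp ((real_5).comp ((real_4).comp ((real_8).comp ((real_7).comp ((real_3).comp ((real_2).comp ((real_1).comp ((real_0).comp ((real_4).comp ((real_3).comp ((real_2).comp ((real_1).comp ((real_5).comp ((real_4).comp ((real_7).comp ((real_3).comp (real_4))))))))))))))))))))))))))))))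
    (fun x hx => Nat.eq_of_beq_eq_true (SQ.allB_spec cert_33 x hx))
theorem real_34 : SQ.Real K22 u34 :=
  SQ.real_of_eq (fL := fun x => u30 (u30 (u33 (u29 (u30 (u30 (u33 (u31 (u33 (x)))))))))) (fR := fun x => u29 (u30 (u30 (u29 (u33 (u29 (u30 (u30 (x)))))))))
    ((real_30).comp ((real_30).comp ((real_33).comp ((real_29).comp ((real_30).comp ((real_30).comp ((real_33).comp ((real_31).comp (real_33)))))))))
    ((real_29).comp ((real_30).comp ((real_30).comp ((real_29).comp ((real_33).comp ((real_29).comp ((real_30).comp (real_30))))))))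
    (fun x hx => Nat.eq_of_beq_eq_true (SQ.allB_spec cert_34 x hx))
theorem real_35 : SQ.Real K22 u35 :=
  SQ.real_of_eq (fL := fun x => u33 (u29 (u33 (u31 (u33 (u31 (u30 (u33 (u29 (x)))))))))) (fR := fun x => u33 (u29 (u33 (u31 (u33 (u31 (u30 (u33 (x)))))))))
    ((real_33).comp ((real_29).comp ((real_33).comp ((real_31).comp ((real_33).comp ((real_31).comp ((real_30).comp ((real_33).comp (real_29)))))))))
    ((real_33).comp ((real_29).comp ((real_33).comp ((real_31).comp ((real_33).comp ((real_31).comp ((real_30).comp (real_33))))))))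
    (fun x hx => Nat.eq_of_beq_eq_true (SQ.allB_spec cert_35 x hx))
theorem real_36 : SQ.Real K22 u36 :=
  SQ.real_of_eq (fL := fun x => u32 (u35 (u34 (u32 (u35 (u30 (u29 (u30 (u33 (u1 (u2 (u3 (u4 (u5 (u6 (u7 (u3 (u2 (u1 (u4 (u3 (u2 (u5 (u4 (u3 (u8 (u7 (u3 (u2 (u1 (u4 (u3 (u2 (u7 (u3 (u6 (x))))))))))))))))))))))))))))))))))))) (fR := fun x => u1 (u2 (u3 (u4 (u5 (u6 (u7 (u3 (u2 (u1 (u4 (u3 (u2 (u5 (u4 (u3 (u8 (u7 (u3 (u2 (u1 (u4 (u3 (u2 (u7 (u3 (x)))))))))))))))))))))))))))
    ((real_32).comp ((real_35).comp ((real_34).comp ((real_32).comp ((real_35).comp ((real_30).comp ((real_29).comp ((real_30).comp ((real_33).comp ((real_1).comp ((real_2).comp ((real_3).comp ((real_4).comp ((real_5).comp ((real_6).comp ((real_7).comp ((real_3).comp ((real_2).comp ((real_1).comp ((real_4).comp ((real_3).comp ((real_2).comp ((real_5).comp ((real_4).comp ((real_3).comp ((real_8).comp ((real_7).comp ((real_3).comp ((real_2).comp ((real_1).comp ((real_4).comp ((real_3).comp ((real_2).comp ((real_7).comp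 ((real_3).comp (real_6))))))))))))))))))))))))))))))))))))
    ((real_1).comp ((real_2).comp ((real_3).comp ((real_4).comp ((real_5).comp ((real_6).comp ((real_7).comp ((real_3).comp ((real_2).comp ((real_1).comp ((real_4).comp ((real_3).comp ((real_2).comp ((real_5).comp ((real_4).comp ((real_3).comp ((real_8).comp ((real_7).comp ((real_3).comp ((real_2).comp ((real_1).comp ((real_4).comp ((real_3).comp ((real_2).comp ((real_7).comp (real_3))))))))))))))))))))))))))
    (fun x hx => Nat.eq_of_beq_eq_true (SQ.allB_spec cert_36 x hx))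
theorem real_37 : SQ.Real K22 u37 :=
  SQ.real_of_eq (fL := fun x => u34 (u36 (u36 (u35 (u36 (u31 (x))))))) (fR := fun x => u34 (u35 (u32 (u34 (u36 (u36 (x)))))))
    ((real_34).comp ((real_36).comp ((real_36).comp ((real_35).comp ((real_36).comp (real_31))))))
    ((real_34).comp ((real_35).comp ((real_32).comp ((real_34).comp ((real_36).comp (real_36))))))
    (fun x hx => Nat.eq_of_beq_eq_true (SQ.allB_spec cert_37 x hx))
theorem real_38 : SQ.Real K22 u38 :=
  SQ.real_of_eq (fL := fun x => u36 (u37 (u37 (u37 (u36 (u36 (u36 (u37 (x))))))))) (fR := fun x => u37 (u36 (u36 (u36 (x)))))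
    ((real_36).comp ((real_37).comp ((real_37).comp ((real_37).comp ((real_36).comp ((real_36).comp ((real_36).comp (real_37))))))))
    ((real_37).comp ((real_36).comp ((real_36).comp (real_36))))
    (fun x hx => Nat.eq_of_beq_eq_true (SQ.allB_spec cert_38 x hx))
theorem real_39 : SQ.Real K22 u39 :=
  SQ.real_of_eq (fL := fun x => u36 (u36 (u36 (u37 (u36 (u31 (u32 (u36 (u34 (u35 (u36 (u32 (u33 (u31 (u30 (u30 (u36 (u36 (x))))))))))))))))))) (fR := fun x => u33 (u30 (u30 (u30 (x)))))
    ((real_36).comp ((real_36).comp ((real_36).comp ((real_37).comp ((real_36).comp ((real_31).comp ((real_32).comp ((real_36).comp ((real_34).comp ((real_35).comp ((real_36).comp ((real_32).comp ((real_33).comp ((real_31).comp ((real_30).comp ((real_30).comp ((real_36).comp (real_36))))))))))))))))))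
    ((real_33).comp ((real_30).comp ((real_30).comp (real_30))))
    (fun x hx => Nat.eq_of_beq_eq_true (SQ.allB_spec cert_39 x hx))
theorem real_40 : SQ.Real K22 u40 :=
  SQ.real_of_eq (fL := fun x => u39 (u38 (u38 (u38 (u39 (u38 (x))))))) (fR := fun x => u38 (u38 (u39 (u38 (u39 (u39 (x)))))))
    ((real_39).comp ((real_38).comp ((real_38).comp ((real_38).comp ((real_39).comp (real_38))))))
    ((real_38).comp ((real_38).comp ((real_39).comp ((real_38).comp ((real_39).comp (real_39))))))
    (fun x hx => Nat.eq_of_beq_eq_true (SQ.allB_spec cert_40 x hx))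
theorem real_41 : SQ.Real K22 u41 :=
  SQ.real_of_eq (fL := fun x => u39 (u38 (u38 (u38 (u37 (u36 (u37 (u39 (u36 (u35 (u36 (u36 (u39 (u39 (x))))))))))))))) (fR := fun x => u32 (u34 (u36 (x))))
    ((real_39).comp ((real_38).comp ((real_38).comp ((real_38).comp ((real_37).comp ((real_36).comp ((real_37).comp ((real_39).comp ((real_36).comp ((real_35).comp ((real_36).comp ((real_36).comp ((real_39).comp (real_39))))))))))))))
    ((real_32).comp ((real_34).comp (real_36)))
    (fun x hx => Nat.eq_of_beq_eq_true (SQ.allB_spec cert_41 x hx))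

theorem real_stepX0 : ∀ l, 2 ≤ l → l < LX0.ng + 2 → SQ.Real K22 (LX0.step l) := by
  intro l h1 h2
  have h3 : l < 11 := h2
  interval_cases l
  · exact real_0
  · exact real_1
  · exact real_2
  · exact real_3
  · exact real_4
  · exact real_5
  · exact real_6
  · exact real_7
  · exact real_8

theorem real_stepX1 : ∀ l, 2 ≤ l → l < LX1.ng + 2 → SQ.Real K22 (LX1.step l) := by
  intro l h1 h2
  have h3 : l < 8 := h2
  interval_cases l
  · exact real_13
  · exact real_14
  · exact real_16
  · exact real_18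
  · exact real_19
  · exact real_20

theorem real_stepX2 : ∀ l, 2 ≤ l → l < LX2.ng + 2 → SQ.Real K22 (LX2.step l) := by
  intro l h1 h2
  have h3 : l < 10 := h2
  interval_cases l
  · exact real_15
  · exact real_17
  · exact real_18
  · exact real_19
  · exact real_20
  · exact real_23
  · exact real_24
  · exact real_28

theorem real_stepX3 : ∀ l, 2 ≤ l → l < LX3.ng + 2 → SQ.Real K22 (LX3.step l) := by
  intro l h1 h2
  have h3 : l < 9 := h2
  interval_cases l
  · exact real_21
  · exact real_22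
  · exact real_23
  · exact real_24
  · exact real_25
  · exact real_27
  · exact real_28

theorem real_stepX4 : ∀ l, 2 ≤ l → l < LX4.ng + 2 → SQ.Real K22 (LX4.step l) := by
  intro l h1 h2
  have h3 : l < 6 := h2
  interval_cases l
  · exact real_25
  · exact real_26
  · exact real_27
  · exact real_28

theorem real_stepX5 : ∀ l, 2 ≤ l → l < LX5.ng + 2 → SQ.Real K22 (LX5.step l) := by
  intro l h1 h2
  have h3 : l < 4 := h2
  interval_cases l
  · exact real_27
  · exact real_28

theorem real_stepY1 : ∀ l, 2 ≤ l → l < LY1.ng + 2 → SQ.Real K22 (LY1.step l) := by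
  intro l h1 h2
  have h3 : l < 7 := h2
  interval_cases l
  · exact real_29
  · exact real_30
  · exact real_31
  · exact real_33
  · exact real_36

theorem real_stepY2 : ∀ l, 2 ≤ l → l < LY2.ng + 2 → SQ.Real K22 (LY2.step l) := by
  intro l h1 h2
  have h3 : l < 8 := h2
  interval_cases l
  · exact real_31
  · exact real_32
  · exact real_34
  · exact real_35
  · exact real_36
  · exact real_39

theorem real_stepY3 : ∀ l, 2 ≤ l → l < LY3.ng + 2 → SQ.Real K22 (LY3.step l) := by
  intro l h1 h2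
  have h3 : l < 6 := h2
  interval_cases l
  · exact real_36
  · exact real_37
  · exact real_39
  · exact real_41

theorem real_stepY4 : ∀ l, 2 ≤ l → l < LY4.ng + 2 → SQ.Real K22 (LY4.step l) := by
  intro l h1 h2
  have h3 : l < 5 := h2
  interval_cases l
  · exact real_38
  · exact real_39
  · exact real_41

theorem real_stepY5 : ∀ l, 2 ≤ l → l < LY5.ng + 2 → SQ.Real K22 (LY5.step l) := by
  intro l h1 h2
  have h3 : l < 4 := h2
  interval_cases l
  · exact real_40
  · exact real_41

theorem real_steps_X : ∀ L ∈ LsX, ∀ l, 2 ≤ l → l < L.ng + 2 → SQ.Real K22 (L.step l) := by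
  intro L hL
  simp only [LsX, List.mem_cons, List.not_mem_nil, or_false] at hL
  rcases hL with rfl | rfl | rfl | rfl | rfl | rfl
  · exact real_stepX0
  · exact real_stepX1
  · exact real_stepX2
  · exact real_stepX3
  · exact real_stepX4
  · exact real_stepX5

theorem real_steps_Y : ∀ L ∈ LsY, ∀ l, 2 ≤ l → l < L.ng + 2 → SQ.Real K22 (L.step l) := by
  intro L hL
  simp only [LsY, List.mem_cons, List.not_mem_nil, or_false] at hL
  rcases hL with rfl | rfl | rfl | rfl | rfl | rfl
  · exact real_stepX0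
  · exact real_stepY1
  · exact real_stepY2
  · exact real_stepY3
  · exact real_stepY4
  · exact real_stepY5

theorem card_K22 : Nat.card K22 = 64561751654400 := by
  rw [← card22]
  exact (Nat.card_congr (MonoidHom.ofInjective φ_inj).toEquiv).symm

theorem chainX : SQ.ChainOK K22 LsX :=
  SQ.chainOK_of_checks K22 LsX real_steps_X lvOK_LsX fixOK_X (by rw [card_K22]; exact size_X)

theorem chainY : SQ.ChainOK K22 LsY :=
  SQ.chainOK_of_checks K22 LsY real_steps_Y lvOK_LsY fixOK_Y (by rw [card_K22]; exact size_Y)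

end Cfsg.Agent.Lib.Helper8.FiO
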