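import Cfsg.Agent.Lib.Helper8.FiO5
import Cfsg.Agent.Lib.Helper8.FiO6
import Cfsg.Agent.Lib.Helper8.SQ4

set_option autoImplicit false
set_option maxRecDepth 100000

/-! The diagram automorphism of the presented Fischer group `Fi22` (swapping the two long arms
of the `Y₃₃₂` diagram). -/

namespace Cfsg.Agent.Lib.Helper8.FiO

open Cfsg.Spor Cfsg.Agent.Lib.Helper4.TC Cfsg.Agent.Lib.Helper4.TCD Cfsg.Agent.Lib.Helper4.TC.Log
open Cfsg.Agent.Lib.Helper8.FaU

/-- the diagram symmetry on the letters -/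
def swN (n : ℕ) : ℕ := if n < 7 then 6 - n else n

theorem swN_lt (l : ℕ) (hl : l < 9) : swN l < 9 := by
  unfold swN; split_ifs <;> omega

theorem swN_swN (l : ℕ) : swN (swN l) = l := by
  unfold swN; split_ifs <;> omega

/-- a word that acts trivially on the 3510 points is trivial -/
theorem eq_one_of_actU (w : List ℕ) (hw : ∀ y ∈ w, y < 9) (h : ∀ i, i < 3510 → actU w i = i) :
    wordP PFi22.P.gR w = 1 := by
  apply φ_inj
  rw [map_one]
  apply SQ.eq_one_of_gN
  intro i hi
  rw [gN_word w hw i hi, h i hi]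

/-- two words with the same action are equal -/
theorem eq_of_actU (w w' : List ℕ) (hw : ∀ y ∈ w, y < 9) (hw' : ∀ y ∈ w', y < 9)
    (h : ∀ i, i < 3510 → actU w i = actU w' i) : wordP PFi22.P.gR w = wordP PFi22.P.gR w' := by
  apply φ_inj
  apply SQ.ext_gN
  intro i hi
  rw [gN_word w hw i hi, gN_word w' hw' i hi, h i hi]

/-- the images of the generators under the diagram automorphism -/
noncomputable def sigF (s : Fi22.Gen) : G22 := PFi22.P.gR (swN (PFi22.enc s))

theorem lift_dec (l : ℕ) (hl : l < 9) :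
    FreeGroup.lift sigF (PFi22.P.dec l) = PFi22.P.gR (swN l) := by
  interval_cases l <;>
  · show FreeGroup.lift sigF (FreeGroup.of _) = _
    rw [FreeGroup.lift_apply_of]
    rfl

theorem word_lift (L : List ℕ) (hL : ∀ x ∈ L, x < 9) :
    wordP (fun l => FreeGroup.lift sigF (PFi22.P.dec l)) L = wordP PFi22.P.gR (L.map swN) := by
  induction L with
  | nil => rfl
  | cons x L ih =>
    rw [wordP_cons, List.map_cons, wordP_cons, ih fun y hy => hL y (List.mem_cons_of_mem _ hy),
      lift_dec x (hL x List.mem_cons_self)]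

def sW0 : List ℕ := (List.replicate 10 [3, 4, 5, 3, 2, 1, 3, 7, 8]).flatten
def sW1 : List ℕ := (List.replicate 9 [6, 5, 4, 3, 2, 1, 7]).flatten
def sW2 : List ℕ := (List.replicate 9 [5, 4, 3, 2, 1, 0, 7]).flatten

theorem real_cases : ∀ L ∈ PFi22.P.real, L.map swN ∈ PFi22.P.real ∨
    (∃ t ∈ PFi22.P.tri, L.map swN = altW (t.2.1, t.1, t.2.2)) ∨
    L.map swN = sW0 ∨ L.map swN = sW1 ∨ L.map swN = sW2 := by
  decide +kernel

theorem pow_swap {Γ : Type*} [Group Γ] (a b : Γ) (m : ℕ) (h : (a * b) ^ m = 1) :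
    (b * a) ^ m = 1 := by
  have e : b * a = a⁻¹ * (a * b) * a⁻¹⁻¹ := by group
  rw [e, conj_pow, h]
  group

theorem sW0_one : wordP PFi22.P.gR sW0 = 1 := by
  apply eq_one_of_actU _ (by decide)
  intro i hi
  exact Nat.eq_of_beq_eq_true (SQ.allB_spec srel_0 i hi)

theorem sW1_one : wordP PFi22.P.gR sW1 = 1 := by
  apply eq_one_of_actU _ (by decide)
  intro i hi
  exact Nat.eq_of_beq_eq_true (SQ.allB_spec srel_1 i hi)

theorem sW2_one : wordP PFi22.P.gR sW2 = 1 := by
  apply eq_one_of_actU _ (by decide)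
  intro i hi
  exact Nat.eq_of_beq_eq_true (SQ.allB_spec srel_2 i hi)

theorem rels_hold : ∀ r ∈ PFi22.P.rels, FreeGroup.lift sigF r = 1 := by
  rw [PFi22.valid.rels_iff G22 sigF]
  intro L hL
  have hlt : ∀ x ∈ L, x < 9 := PFi22.valid.real_lt L hL
  rw [word_lift L hlt]
  rcases real_cases L hL with h | ⟨t, ht, h⟩ | h | h | h
  · exact (PFi22.valid.real_sound _ h).2
  · rw [h, wordP_altW]
    have hmem : altW t ∈ PFi22.P.real := by
      show altW t ∈ List.map altW PFi22.P.tri ++ PFi22.P.extraW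
      exact List.mem_append_left _ (List.mem_map.2 ⟨t, ht, rfl⟩)
    have h1 := (PFi22.valid.real_sound _ hmem).2
    rw [wordP_altW] at h1
    exact pow_swap _ _ _ h1
  · rw [h]; exact sW0_one
  · rw [h]; exact sW1_one
  · rw [h]; exact sW2_one

/-- the diagram automorphism, as a homomorphism -/
noncomputable def sigHom : G22 →* G22 := PresentedGroup.toGroup rels_hold

theorem sigHom_gR (l : ℕ) (hl : l < 9) : sigHom (PFi22.P.gR l) = PFi22.P.gR (swN l) := by
  rw [CoxEnc.gR_lt (show l < PFi22.P.k from hl)]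
  show FreeGroup.lift sigF (PFi22.P.dec l) = _
  exact lift_dec l hl

theorem sigHom_word (w : List ℕ) (hw : ∀ y ∈ w, y < 9) :
    sigHom (wordP PFi22.P.gR w) = wordP PFi22.P.gR (w.map swN) := by
  induction w with
  | nil => exact map_one _
  | cons x w ih =>
    rw [wordP_cons, map_mul, List.map_cons, wordP_cons,
      ih fun y hy => hw y (List.mem_cons_of_mem _ hy), sigHom_gR x (hw x List.mem_cons_self)]

theorem sigHom_sigHom (g : G22) : sigHom (sigHom g) = g := by
  have h : (sigHom.comp sigHom) = MonoidHom.id G22 := by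
    apply MonoidHom.eq_of_eqOn_dense PFi22.valid.gen_top
    rintro _ ⟨l, hl, rfl⟩
    have hl' : l < 9 := hl
    show sigHom (sigHom (PFi22.P.gR l)) = PFi22.P.gR l
    rw [sigHom_gR l hl', sigHom_gR _ (swN_lt l hl'), swN_swN]
  exact DFunLike.congr_fun h g

/-- the diagram automorphism -/
noncomputable def sig : MulAut G22 where
  toFun := sigHom
  invFun := sigHom
  left_inv := sigHom_sigHom
  right_inv := sigHom_sigHom
  map_mul' := map_mul sigHom

theorem sig_word (w : List ℕ) (hw : ∀ y ∈ w, y < 9) :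
    sig (wordP PFi22.P.gR w) = wordP PFi22.P.gR (w.map swN) := sigHom_word w hw

end Cfsg.Agent.Lib.Helper8.FiO
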