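import Cfsg.Agent.Lib.Helper8.FiO7

set_option autoImplicit false
set_option maxRecDepth 100000

/-! The presented Fischer group `Fi22`: the elements of orders 13 and 11 used to determine the
automorphism group, and the transpositions as conjugates of the first generator. -/

namespace Cfsg.Agent.Lib.Helper8.FiO

open Cfsg.Spor Cfsg.Agent.Lib.Helper4.TC Cfsg.Agent.Lib.Helper4.TCD Cfsg.Agent.Lib.Helper4.TC.Log
open Cfsg.Agent.Lib.Helper8.FaU

def xW : List ℕ := [4, 5, 3, 1, 8, 6, 2, 7]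
def yW : List ℕ := [4, 7, 5, 8, 0, 4, 5, 1, 3, 7, 5, 0, 8, 2, 5, 4, 8, 1, 3, 8, 6, 4, 7, 5, 8, 0, 4, 5, 1, 3, 7, 5, 0, 8, 2, 5, 4, 8, 1, 3, 8, 6]

/-- an element of order 13 -/
noncomputable def xE : G22 := wordP PFi22.P.gR xW
/-- its image under the diagram automorphism -/
noncomputable def xsE : G22 := wordP PFi22.P.gR (xW.map swN)
/-- an element of order 11 -/
noncomputable def yE : G22 := wordP PFi22.P.gR yW

theorem sig_xE : sig xE = xsE := sig_word xW (by decide)

theorem gN_xE (i : ℕ) (hi : i < 3510) : SQ.gN (φ xE) i = u9 i := by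
  rw [xE, gN_word xW (by decide) i hi]
  exact Nat.eq_of_beq_eq_true (SQ.allB_spec cert_9 i hi)

theorem gN_xsE (i : ℕ) (hi : i < 3510) : SQ.gN (φ xsE) i = u11 i := by
  rw [xsE, gN_word _ (by decide) i hi]
  exact Nat.eq_of_beq_eq_true (SQ.allB_spec cert_11 i hi)

theorem gN_yE (i : ℕ) (hi : i < 3510) : SQ.gN (φ yE) i = u12 i := by
  rw [yE, gN_word yW (by decide) i hi]
  exact Nat.eq_of_beq_eq_true (SQ.allB_spec cert_12 i hi)

theorem gN_zT (i : ℕ) (hi : i < 3510) : SQ.gN (φ zT) i = u0 i := by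
  rw [zT, gN_word [0] (by decide) i hi]
  rfl

theorem u_lt {f : ℕ → ℕ} (h : SQ.Real K22 f) {i : ℕ} (hi : i < 3510) : f i < 3510 := h.lt hi

/-- an element acting trivially is trivial -/
theorem eq_one_of_gN (g : G22) (h : ∀ i, i < 3510 → SQ.gN (φ g) i = i) : g = 1 := by
  apply φ_inj
  rw [map_one]
  exact SQ.eq_one_of_gN h

theorem eq_of_gN (g g' : G22) (h : ∀ i, i < 3510 → SQ.gN (φ g) i = SQ.gN (φ g') i) : g = g' := by
  apply φ_inj
  exact SQ.ext_gN h

theorem gN_pow_iter (g : G22) (f : ℕ → ℕ) (hf : ∀ i, i < 3510 → SQ.gN (φ g) i = f i) (n : ℕ) :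
    ∀ i, i < 3510 → SQ.gN (φ (g ^ n)) i = f^[n] i ∧ f^[n] i < 3510 := by
  induction n with
  | zero =>
    intro i hi
    rw [pow_zero, map_one, SQ.gN_one]
    exact ⟨rfl, hi⟩
  | succ n ih =>
    intro i hi
    rw [pow_succ, map_mul, SQ.gN_mul, hf i hi, Function.iterate_succ_apply]
    have h1 : f i < 3510 := by rw [← hf i hi]; exact SQ.gN_lt _ hi
    exact ih (f i) h1

theorem xE_pow13 : xE ^ 13 = 1 := by
  apply eq_one_of_gN
  intro i hi
  rw [(gN_pow_iter xE u9 gN_xE 13 i hi).1]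
  exact Nat.eq_of_beq_eq_true (SQ.allB_spec x_ord i hi)

theorem xsE_pow13 : xsE ^ 13 = 1 := by
  apply eq_one_of_gN
  intro i hi
  rw [(gN_pow_iter xsE u11 gN_xsE 13 i hi).1]
  exact Nat.eq_of_beq_eq_true (SQ.allB_spec xs_ord i hi)

theorem yE_pow11 : yE ^ 11 = 1 := by
  apply eq_one_of_gN
  intro i hi
  rw [(gN_pow_iter yE u12 gN_yE 11 i hi).1]
  exact Nat.eq_of_beq_eq_true (SQ.allB_spec y_ord i hi)

theorem xE_ne_one : xE ≠ 1 := by
  intro h
  have := gN_xE 0 (by decide)
  rw [h, map_one, SQ.gN_one, x_ne] at this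
  exact absurd this (by decide)

theorem yE_ne_one : yE ≠ 1 := by
  intro h
  have := gN_yE 0 (by decide)
  rw [h, map_one, SQ.gN_one, y_ne] at this
  exact absurd this (by decide)

instance : Fact (Nat.Prime 13) := ⟨by norm_num⟩
instance : Fact (Nat.Prime 11) := ⟨by norm_num⟩

theorem orderOf_xE : orderOf xE = 13 := orderOf_eq_prime xE_pow13 xE_ne_one

theorem orderOf_yE : orderOf yE = 11 := orderOf_eq_prime yE_pow11 yE_ne_one

theorem fact_one (p m : ℕ) (hp : p.Prime) (hm : ¬ p ∣ m) (hm0 : m ≠ 0) :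
    (p * m).factorization p = 1 := by
  rw [Nat.factorization_mul hp.ne_zero hm0, Finsupp.add_apply, hp.factorization_self,
    Nat.factorization_eq_zero_of_not_dvd hm]

instance : Finite G22 := fin22

theorem fact13 : (Nat.card G22).factorization 13 = 1 := by
  rw [card22, show 64561751654400 = 13 * 4966288588800 from by norm_num]
  exact fact_one 13 _ (by norm_num) (by norm_num) (by norm_num)

theorem fact11 : (Nat.card G22).factorization 11 = 1 := by
  rw [card22, show 64561751654400 = 11 * 5869250150400 from by norm_num]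
  exact fact_one 11 _ (by norm_num) (by norm_num) (by norm_num)

/-! ### the transpositions -/

/-- the conjugate of the first generator by `c` -/
noncomputable def trE (c : G22) : G22 := c * zT * c⁻¹

theorem trE_one : trE 1 = zT := by rw [trE]; group

theorem trE_conj (g c : G22) : g * trE c * g⁻¹ = trE (g * c) := by
  rw [trE, trE]; group

theorem trE_sq (c : G22) : trE c * trE c = 1 := by
  have : trE c * trE c = c * (zT * zT) * c⁻¹ := by rw [trE]; group
  rw [this, zT_sq]; group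

theorem trE_ne_one (c : G22) : trE c ≠ 1 := by
  intro h
  apply zT_ne_one
  have : zT = c⁻¹ * trE c * c := by rw [trE]; group
  rw [this, h]; group

/-- the point of a transposition -/
noncomputable def ptE (c : G22) : ℕ := SQ.gN (φ c) 0

theorem ptE_lt (c : G22) : ptE c < 3510 := SQ.gN_lt _ (by decide)

theorem ptE_mul (g c : G22) : ptE (g * c) = SQ.gN (φ g) (ptE c) := by
  rw [ptE, map_mul, SQ.gN_mul]; rfl

theorem mem_UFa_iff (g : G22) : g ∈ UFa ↔ ptE g = 0 := by
  have h0 : (0 : ℕ) < 3510 := by decide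
  constructor
  · intro h
    have := Fi22a.inst.hfix g h
    rw [ptE, SQ.gN_of_lt _ h0]
    exact congrArg Fin.val this
  · intro h
    have h1 : (QuotientGroup.mk g : G22 ⧸ UFa) = QuotientGroup.mk (1 : G22) := by
      rw [mk_eq_equiv22 g, mk_eq_equiv22 1]
      congr 1
      apply Fin.ext
      rw [ptE, SQ.gN_of_lt _ h0] at h
      show (φ g ⟨0, h0⟩).1 = (φ 1 ⟨0, h0⟩).1
      rw [h, map_one]
      rfl
    have := QuotientGroup.eq.1 h1
    rw [mul_one] at this
    exact inv_mem_iff.1 this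

theorem trE_eq_iff (c c' : G22) : trE c = trE c' ↔ ptE c = ptE c' := by
  have key : trE c = trE c' ↔ c⁻¹ * c' ∈ UFa := by
    rw [← centralizer_zT, Subgroup.mem_centralizer_iff]
    constructor
    · intro h w hw
      rw [Set.mem_singleton_iff] at hw
      subst hw
      have : zT = c⁻¹ * (c' * zT * c'⁻¹) * c := by
        rw [← trE, ← h, trE]; group
      calc zT * (c⁻¹ * c') = c⁻¹ * (c' * zT * c'⁻¹) * c * (c⁻¹ * c') := by rw [← this]
        _ = c⁻¹ * c' * zT := by group
    · intro h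
      have h1 := h zT rfl
      rw [trE, trE]
      calc c * zT * c⁻¹ = c * (zT * (c⁻¹ * c')) * c'⁻¹ := by group
        _ = c * (c⁻¹ * c' * zT) * c'⁻¹ := by rw [h1]
        _ = c' * zT * c'⁻¹ := by group
  rw [key, mem_UFa_iff, ptE_mul]
  constructor
  · intro h
    have := congrArg (SQ.gN (φ c)) h
    rw [← SQ.gN_mul, ← map_mul, mul_inv_cancel, map_one, SQ.gN_one] at this
    exact this.symm
  · intro h
    rw [← h, ptE, ← SQ.gN_mul, ← map_mul, inv_mul_cancel, map_one, SQ.gN_one]

/-- the action of a transposition -/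
theorem gN_trE (c : G22) (q : ℕ) (hq : q < 3510) :
    SQ.gN (φ (trE c)) q = SQ.gN (φ c) (u0 (SQ.gN (φ c⁻¹) q)) := by
  rw [trE, map_mul, map_mul, SQ.gN_mul, SQ.gN_mul, gN_zT _ (SQ.gN_lt _ hq)]

/-- two transpositions commute if and only if the first fixes the point of the second -/
theorem trE_commute_iff (c1 c2 : G22) :
    trE c1 * trE c2 = trE c2 * trE c1 ↔ SQ.gN (φ (trE c1)) (ptE c2) = ptE c2 := by
  rw [← ptE_mul, ← trE_eq_iff, ← trE_conj]
  constructor
  · intro h
    rw [h]; group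
  · intro h
    calc trE c1 * trE c2 = trE c1 * trE c2 * (trE c1)⁻¹ * trE c1 := by group
      _ = trE c2 * trE c1 := by rw [h]

end Cfsg.Agent.Lib.Helper8.FiO
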