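import Cfsg.Agent.Lib.Helper8.OutG

set_option autoImplicit false

/-! A criterion for the outer automorphism group to have order two, from a generating pair
`x`, `z` with `⟨x⟩` a self-centralising Sylow subgroup of prime order, when the outer
automorphism does not preserve the class of `x`. -/

namespace Cfsg.Agent.Lib.Helper8.OutG

/-- elements of prime order `p` are conjugate to powers of each other when `p` divides the
group order exactly once -/
theorem conj_pow_of_prime_sylow {G : Type*} [Group G] [Finite G] (p : ℕ) [hp : Fact p.Prime]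
    (hf : (Nat.card G).factorization p = 1) (x y : G) (hx : orderOf x = p) (hy : orderOf y = p) :
    ∃ g : G, ∃ j : ℕ, y = g * x ^ j * g⁻¹ := by
  have cx : Nat.card (Subgroup.zpowers x) = p ^ (Nat.card G).factorization p := by
    rw [hf, pow_one, Nat.card_zpowers, hx]
  have cy : Nat.card (Subgroup.zpowers y) = p ^ (Nat.card G).factorization p := by
    rw [hf, pow_one, Nat.card_zpowers, hy]
  let P : Sylow p G := Sylow.ofCard (Subgroup.zpowers x) cx
  let Q : Sylow p G := Sylow.ofCard (Subgroup.zpowers y) cy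
  obtain ⟨g, hg⟩ := MulAction.exists_smul_eq G P Q
  have hyQ : y ∈ (Q : Subgroup G) := Subgroup.mem_zpowers y
  rw [← hg, Sylow.coe_subgroup_smul, Subgroup.mem_pointwise_smul_iff_inv_smul_mem] at hyQ
  have hyP : g⁻¹ * y * g ∈ Subgroup.zpowers x := by
    have : (MulAut.conj g)⁻¹ • y = g⁻¹ * y * g := by
      rw [MulAut.smul_def, MulAut.conj_inv_apply]
    rw [← this]
    exact hyQ
  obtain ⟨k, hk⟩ := Subgroup.mem_zpowers_iff.1 hyP
  have hfin : IsOfFinOrder x := isOfFinOrder_of_finite x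
  obtain ⟨j, hj⟩ : ∃ j : ℕ, x ^ j = x ^ k := by
    have := hfin.mem_powers_iff_mem_zpowers.2 (Subgroup.mem_zpowers_iff.2 ⟨k, rfl⟩)
    obtain ⟨j, hj⟩ := Submonoid.mem_powers_iff _ _ |>.1 this
    exact ⟨j, hj⟩
  refine ⟨g, j, ?_⟩
  rw [hj, hk]
  group

/-- iterating a conjugation that raises `x` to a power -/
theorem conj_pow_iter {G : Type*} [Group G] (x n : G) (e : ℕ) (h : n * x * n⁻¹ = x ^ e) (i : ℕ) :
    n ^ i * x * (n ^ i)⁻¹ = x ^ (e ^ i) := by
  induction i with
  | zero => simp
  | succ i ih =>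
    have h1 : n ^ (i + 1) * x * (n ^ (i + 1))⁻¹ = n * (n ^ i * x * (n ^ i)⁻¹) * n⁻¹ := by
      rw [pow_succ']; group
    rw [h1, ih]
    have h2 : ∀ k : ℕ, n * x ^ k * n⁻¹ = (n * x * n⁻¹) ^ k := by
      intro k
      induction k with
      | zero => simp
      | succ k ihk =>
        rw [pow_succ, pow_succ, ← ihk]; group
    rw [h2, h, ← pow_mul, pow_succ, mul_comm]

/-- every automorphism maps `x` into the class of `x` or the class of `τ x` -/
theorem class_dichotomy {G : Type*} [Group G] [Finite G] (p : ℕ) [hp : Fact p.Prime]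
    (hf : (Nat.card G).factorization p = 1) (x : G) (hx : orderOf x = p) (τ : MulAut G)
    (e f : ℕ) (hn : ∃ n : G, n * x * n⁻¹ = x ^ e) (hm : ∃ m : G, τ x = m * x ^ f * m⁻¹)
    (harith : ∀ j, j < p → j ≠ 0 → ∃ i, j = e ^ i % p ∨ j = f * e ^ i % p) (φ : MulAut G) :
    (∃ k : G, φ x = k * x * k⁻¹) ∨ (∃ k : G, φ x = k * τ x * k⁻¹) := by
  obtain ⟨n, hn⟩ := hn
  obtain ⟨m, hm⟩ := hm
  have hφx : orderOf (φ x) = p := by rw [MulEquiv.orderOf_eq, hx]
  obtain ⟨g, j, hj⟩ := conj_pow_of_prime_sylow p hf x (φ x) hx hφx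
  have hxp : x ^ p = 1 := by rw [← hx]; exact pow_orderOf_eq_one x
  have hmod : ∀ a : ℕ, x ^ a = x ^ (a % p) := by
    intro a
    rw [← hx]; exact (pow_mod_orderOf x a).symm
  have hj0 : j % p ≠ 0 := by
    intro h0
    rw [hmod j, h0, pow_zero, mul_one, mul_inv_cancel] at hj
    have h1 : orderOf (φ x) = 1 := by rw [hj]; exact orderOf_one
    rw [hφx] at h1
    exact hp.out.one_lt.ne' h1
  obtain ⟨i, hi | hi⟩ := harith (j % p) (Nat.mod_lt _ hp.out.pos) hj0
  · left
    refine ⟨g * n ^ i, ?_⟩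
    rw [hj, hmod j, hi, ← hmod, ← conj_pow_iter x n e hn i]
    group
  · right
    refine ⟨g * n ^ i * m⁻¹, ?_⟩
    have h1 : x ^ (f * e ^ i) = n ^ i * x ^ f * (n ^ i)⁻¹ := by
      rw [mul_comm, pow_mul, ← conj_pow_iter x n e hn i]
      have h2 : ∀ k : ℕ, (n ^ i * x * (n ^ i)⁻¹) ^ k = n ^ i * x ^ k * (n ^ i)⁻¹ := by
        intro k
        induction k with
        | zero => simp
        | succ k ihk => rw [pow_succ, ihk, pow_succ]; group
      exact h2 f
    rw [hj, hmod j, hi, ← hmod, h1, hm]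
    group

/-- the outer automorphism group has order two: `x`, `z` generate, every automorphism maps
`x` into the class of `x` or of `τ x`, these two classes are different, and an automorphism
fixing `x` maps `z` to a conjugate under a power of `x` -/
theorem card_out_two_of_swap {H : Type*} [Group H] (x z : H) (τ : MulAut H)
    (h1 : ∀ φ : MulAut H, (∃ k : H, φ x = k * x * k⁻¹) ∨ (∃ k : H, φ x = k * τ x * k⁻¹))
    (h2 : ∀ φ : MulAut H, φ x = x → ∃ i : ℕ, φ z = x ^ i * z * (x ^ i)⁻¹)
    (h3 : Subgroup.closure {x, z} = ⊤)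
    (h5 : ¬ ∃ k : H, τ x = k * x * k⁻¹) :
    Nat.card (Cfsg.Out H) = 2 := by
  show Nat.card (MulAut H ⧸ (MulAut.conj : H →* MulAut H).range) = 2
  rw [← Subgroup.index_eq_card, Subgroup.index_eq_two_iff]
  set I : Subgroup (MulAut H) := (MulAut.conj : H →* MulAut H).range with hI
  have hconj : ∀ k : H, MulAut.conj k ∈ I := fun k => ⟨k, rfl⟩
  have hτn : τ ∉ I := by
    intro h
    obtain ⟨k, hk⟩ := (mem_inn_iff τ).mp h
    exact h5 ⟨k, hk x⟩
  -- automorphisms preserving the class of `x` are inner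
  have inner : ∀ φ : MulAut H, (∃ k : H, φ x = k * x * k⁻¹) → φ ∈ I := by
    rintro φ ⟨k, hk⟩
    set φ1 : MulAut H := (MulAut.conj k)⁻¹ * φ with hφ1
    have hφ1x : φ1 x = x := by
      rw [hφ1, MulAut.mul_apply, hk, MulAut.conj_inv_apply]
      group
    obtain ⟨i, hi⟩ := h2 φ1 hφ1x
    set φ2 : MulAut H := (MulAut.conj (x ^ i))⁻¹ * φ1 with hφ2
    have e2 : φ2 = 1 := by
      apply eq_one_of_fix x z h3
      · rw [hφ2, MulAut.mul_apply, hφ1x, MulAut.conj_inv_apply]
        rw [mul_assoc, inv_mul_eq_iff_eq_mul, ← pow_succ, ← pow_succ']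
      · rw [hφ2, MulAut.mul_apply, hi, MulAut.conj_inv_apply]
        group
    have e : φ = MulAut.conj k * MulAut.conj (x ^ i) := by
      have : φ = MulAut.conj k * (MulAut.conj (x ^ i) * φ2) := by
        rw [hφ2, hφ1]; group
      rw [this, e2, mul_one]
    rw [e]
    exact I.mul_mem (hconj k) (hconj _)
  have key : ∀ φ : MulAut H, φ ∈ I ∨ τ⁻¹ * φ ∈ I := by
    intro φ
    rcases h1 φ with h | ⟨k, hk⟩
    · exact Or.inl (inner φ h)
    · right
      apply inner
      refine ⟨τ⁻¹ k, ?_⟩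
      rw [MulAut.mul_apply, hk, map_mul, map_mul, map_inv]
      have : τ⁻¹ (τ x) = x := by
        rw [← MulAut.mul_apply, inv_mul_cancel]; rfl
      rw [this]
  have hnormal : I.Normal := by
    rw [hI]
    infer_instance
  refine ⟨τ⁻¹, ?_⟩
  intro b
  have hswap : b * τ⁻¹ ∈ I ↔ τ⁻¹ * b ∈ I := by
    constructor
    · intro h
      have := hnormal.conj_mem _ h τ⁻¹
      have e : τ⁻¹ * (b * τ⁻¹) * τ⁻¹⁻¹ = τ⁻¹ * b := by group
      rwa [e] at this
    · intro h
      have := hnormal.conj_mem _ h τ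
      have e : τ * (τ⁻¹ * b) * τ⁻¹ = b * τ⁻¹ := by group
      rwa [e] at this
  rcases key b with hb | hb
  · right
    refine ⟨hb, ?_⟩
    intro h
    apply hτn
    have h3' := I.mul_mem (I.inv_mem h) hb
    have e : (b * τ⁻¹)⁻¹ * b = τ := by group
    rwa [e] at h3'
  · by_cases hbI : b ∈ I
    · right
      refine ⟨hbI, ?_⟩
      intro h
      apply hτn
      have h3' := I.mul_mem (I.inv_mem h) hbI
      have e : (b * τ⁻¹)⁻¹ * b = τ := by group
      rwa [e] at h3'
    · left
      exact ⟨hswap.2 hb, hbI⟩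

/-- the class of an involution `d` is invariant under all automorphisms if `d` is the only
involution centralising an element `y` of prime order `q`, where `q` divides the group order
exactly once -/
theorem class_invariant {G : Type*} [Group G] [Finite G] (q : ℕ) [hq : Fact q.Prime]
    (hf : (Nat.card G).factorization q = 1) (y d : G) (hy : orderOf y = q)
    (hd2 : d * d = 1) (hd1 : d ≠ 1)
    (huniq : ∀ t : G, t * t = 1 → t ≠ 1 → t * y = y * t → t = d) (hdy : d * y = y * d)
    (φ : MulAut G) : ∃ g : G, φ d = g * d * g⁻¹ := by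
  have hφy : orderOf (φ y) = q := by rw [MulEquiv.orderOf_eq, hy]
  obtain ⟨g, j, hj⟩ := conj_pow_of_prime_sylow q hf y (φ y) hy hφy
  have hmod : ∀ a : ℕ, y ^ a = y ^ (a % q) := by
    intro a
    rw [← hy]; exact (pow_mod_orderOf y a).symm
  have hj0 : j % q ≠ 0 := by
    intro h0
    rw [hmod j, h0, pow_zero, mul_one, mul_inv_cancel] at hj
    have h1 : orderOf (φ y) = 1 := by rw [hj]; exact orderOf_one
    rw [hφy] at h1
    exact hq.out.one_lt.ne' h1
  have hcop : Nat.Coprime j q := by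
    rw [Nat.coprime_comm, hq.out.coprime_iff_not_dvd]
    intro hdvd
    exact hj0 (Nat.mod_eq_zero_of_dvd hdvd)
  obtain ⟨k, -, hk⟩ := Nat.exists_mul_mod_eq_one_of_coprime hcop hq.out.one_lt
  set t : G := g⁻¹ * φ d * g with ht
  have ht2 : t * t = 1 := by
    have : t * t = g⁻¹ * (φ d * φ d) * g := by rw [ht]; group
    rw [this, ← map_mul, hd2, map_one]; group
  have ht1 : t ≠ 1 := by
    intro h
    apply hd1
    have : φ d = 1 := by
      have : φ d = g * t * g⁻¹ := by rw [ht]; group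
      rw [this, h]; group
    exact (map_eq_one_iff φ φ.injective).1 this
  have hcj : t * y ^ j = y ^ j * t := by
    have e1 : y ^ j = g⁻¹ * φ y * g := by rw [hj]; group
    rw [e1, ht]
    have : φ d * φ y = φ y * φ d := by rw [← map_mul, ← map_mul, hdy]
    calc g⁻¹ * φ d * g * (g⁻¹ * φ y * g) = g⁻¹ * (φ d * φ y) * g := by group
      _ = g⁻¹ * (φ y * φ d) * g := by rw [this]
      _ = g⁻¹ * φ y * g * (g⁻¹ * φ d * g) := by group
  have hcy : t * y = y * t := by
    have e : y = (y ^ j) ^ k := by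
      rw [← pow_mul, hmod (j * k), hk, pow_one]
    have hc : Commute t ((y ^ j) ^ k) := (show Commute t (y ^ j) from hcj).pow_right k
    rw [← e] at hc
    exact hc
  have := huniq t ht2 ht1 hcy
  refine ⟨g, ?_⟩
  have e : φ d = g * t * g⁻¹ := by rw [ht]; group
  rw [e, this]

end Cfsg.Agent.Lib.Helper8.OutG
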