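import Cfsg.Agent.Lib.Helper8.FiO8
import Cfsg.Agent.Lib.Helper8.FiO4
import Cfsg.Agent.Lib.Helper8.OutG2

set_option autoImplicit false
set_option maxRecDepth 100000

/-! The outer automorphism group of the presented Fischer group `Fi22` has order two. -/

namespace Cfsg.Agent.Lib.Helper8.FiO

open Cfsg.Spor Cfsg.Agent.Lib.Helper4.TC Cfsg.Agent.Lib.Helper4.TCD Cfsg.Agent.Lib.Helper4.TC.Log
open Cfsg.Agent.Lib.Helper8.FaU

theorem mem_K22 (g : G22) : φ g ∈ K22 := ⟨g, rfl⟩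

/-! ### the diagram automorphism does not preserve the class of `x` -/

theorem not_conj : ¬ ∃ k : G22, sig xE = k * xE * k⁻¹ := by
  rintro ⟨k, hk⟩
  rw [sig_xE] at hk
  have hc : φ k * φ xE = φ xsE * φ k := by
    rw [← map_mul, ← map_mul, hk]
    congr 1
    group
  have h1 : u11 1 < 3510 := u_lt real_11 (by decide)
  have h2 : u11 2 < 3510 := u_lt real_11 (by decide)
  have h := SQ.transporter_test chainX u9 u11 (φ xE) (φ xsE) gN_xE gN_xsE 0 (by decide) baseX
    (mem_K22 k) hc [1, u11 1, 2, u11 2] (by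
      intro x hx
      simp only [List.mem_cons, List.not_mem_nil, or_false] at hx
      rcases hx with rfl | rfl | rfl | rfl
      · decide
      · exact h1
      · decide
      · exact h2)
  have hp : passN (SQ.gN (φ k) 0) = true := by
    unfold passN
    have e : LsX.length = 6 := rfl
    rw [e] at h
    rw [h.1]
    show (Nat.beq (SQ.gN (φ k)⁻¹ (u11 1)) (u9 (SQ.gN (φ k)⁻¹ 1)) &&
      Nat.beq (SQ.gN (φ k)⁻¹ (u11 2)) (u9 (SQ.gN (φ k)⁻¹ 2))) = true
    rw [h.2 1 (by decide), h.2 2 (by decide), Nat.beq_refl, Nat.beq_refl]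
    rfl
  have := passN_all _ (SQ.gN_lt (φ k) (by decide : 0 < 3510))
  rw [hp] at this
  exact absurd this (by decide)

/-! ### every automorphism maps `x` into the class of `x` or of its image -/

theorem real_nuF : SQ.Real K22 nuF :=
  (real_25).comp ((real_28).comp ((real_22).comp ((real_21).comp ((real_28).comp ((real_23).comp ((real_17).comp ((real_18).comp ((real_28).comp ((real_17).comp ((real_14).comp ((real_14).comp ((real_19).comp ((real_16).comp ((real_14).comp ((real_14).comp ((real_19).comp ((real_1).comp ((real_2).comp ((real_3).comp ((real_4).comp ((real_5).comp ((real_6).comp ((real_7).comp ((real_3).comp ((real_2).comp ((real_1).comp ((real_4).comp ((real_3).comp ((real_5).comp ((real_4).comp ((real_7).comp ((real_3).comp ((real_8).comp ((real_7).comp ((real_3).comp ((real_2).comp ((real_4).comp ((real_3).comp ((real_5).comp ((real_4).comp ((real_6).comp (real_7))))))))))))))))))))))))))))))))))))))))))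

theorem real_muF : SQ.Real K22 muF :=
  (real_27).comp ((real_25).comp ((real_21).comp ((real_23).comp ((real_21).comp ((real_23).comp ((real_18).comp ((real_24).comp ((real_17).comp ((real_20).comp ((real_14).comp ((real_14).comp ((real_13).comp ((real_16).comp ((real_18).comp ((real_20).comp ((real_1).comp ((real_2).comp ((real_3).comp ((real_4).comp ((real_5).comp ((real_6).comp ((real_7).comp ((real_3).comp ((real_2).comp ((real_1).comp ((real_4).comp ((real_3).comp ((real_5).comp ((real_4).comp ((real_8).comp ((real_7).comp ((real_3).comp ((real_2).comp ((real_1).comp ((real_4).comp ((real_3).comp ((real_5).comp ((real_4).comp ((real_6).comp ((real_5).comp (real_7)))))))))))))))))))))))))))))))))))))))))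

theorem gN_xE_pow (n : ℕ) (i : ℕ) (hi : i < 3510) : SQ.gN (φ (xE ^ n)) i = u9^[n] i :=
  (gN_pow_iter xE u9 gN_xE n i hi).1

theorem exists_n : ∃ n : G22, n * xE * n⁻¹ = xE ^ 4 := by
  obtain ⟨ν, ⟨n', rfl⟩, hν⟩ := real_nuF
  refine ⟨n'⁻¹, ?_⟩
  have e : xE * n' = n' * xE ^ 4 := by
    apply eq_of_gN
    intro i hi
    have h1 : nuF i < 3510 := by rw [← hν i hi]; exact SQ.gN_lt _ hi
    have h2 : u9^[4] i < 3510 := (gN_pow_iter xE u9 gN_xE 4 i hi).2
    rw [map_mul, map_mul, SQ.gN_mul, SQ.gN_mul, hν i hi, gN_xE _ h1, gN_xE_pow 4 i hi, hν _ h2]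
    exact Nat.eq_of_beq_eq_true (SQ.allB_spec nu_ok i hi)
  calc n'⁻¹ * xE * n'⁻¹⁻¹ = n'⁻¹ * (xE * n') := by group
    _ = n'⁻¹ * (n' * xE ^ 4) := by rw [e]
    _ = xE ^ 4 := by group

theorem exists_m : ∃ m : G22, sig xE = m * xE ^ 7 * m⁻¹ := by
  obtain ⟨μ, ⟨m', rfl⟩, hμ⟩ := real_muF
  refine ⟨m'⁻¹, ?_⟩
  have e : xE * m' = m' * xsE ^ 2 := by
    apply eq_of_gN
    intro i hi
    have h1 : muF i < 3510 := by rw [← hμ i hi]; exact SQ.gN_lt _ hi
    have h2 : u11^[2] i < 3510 := (gN_pow_iter xsE u11 gN_xsE 2 i hi).2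
    rw [map_mul, map_mul, SQ.gN_mul, SQ.gN_mul, hμ i hi, gN_xE _ h1,
      (gN_pow_iter xsE u11 gN_xsE 2 i hi).1, hμ _ h2]
    exact Nat.eq_of_beq_eq_true (SQ.allB_spec mu_ok i hi)
  have e2 : xsE ^ 2 = m'⁻¹ * xE * m' := by
    calc xsE ^ 2 = m'⁻¹ * (m' * xsE ^ 2) := by group
      _ = m'⁻¹ * (xE * m') := by rw [e]
      _ = m'⁻¹ * xE * m' := by group
  have e3 : xsE = (xsE ^ 2) ^ 7 := by
    rw [← pow_mul, show 2 * 7 = 13 + 1 from rfl, pow_add, xsE_pow13, one_mul, pow_one]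
  rw [sig_xE, e3, e2]
  have : m'⁻¹ * xE * m' = m'⁻¹ * xE * m'⁻¹⁻¹ := by group
  rw [this, conj_pow]

theorem arith13 : ∀ j, j < 13 → j ≠ 0 → ∃ i, j = 4 ^ i % 13 ∨ j = 7 * 4 ^ i % 13 := by
  intro j hj h0
  interval_cases j
  · exact absurd rfl h0
  · exact ⟨0, Or.inl rfl⟩
  · exact ⟨1, Or.inr rfl⟩
  · exact ⟨2, Or.inl rfl⟩
  · exact ⟨1, Or.inl rfl⟩
  · exact ⟨5, Or.inr rfl⟩
  · exact ⟨3, Or.inr rfl⟩
  · exact ⟨0, Or.inr rfl⟩
  · exact ⟨2, Or.inr rfl⟩
  · exact ⟨4, Or.inl rfl⟩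
  · exact ⟨5, Or.inl rfl⟩
  · exact ⟨4, Or.inr rfl⟩
  · exact ⟨3, Or.inl rfl⟩

theorem h1 (α : MulAut G22) :
    (∃ k : G22, α xE = k * xE * k⁻¹) ∨ (∃ k : G22, α xE = k * sig xE * k⁻¹) :=
  OutG.class_dichotomy 13 fact13 xE orderOf_xE sig 4 7 exists_n exists_m arith13 α

/-! ### the class of the transpositions is invariant -/

def cW : List ℕ := [8, 7, 6, 4, 5, 2, 3, 4, 1, 2, 3, 7, 8, 5, 2, 3, 4, 1, 2, 3, 7, 6, 5, 4, 3, 2, 1]

noncomputable def cE : G22 := wordP PFi22.P.gR cW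

/-- the transposition centralising `y` -/
noncomputable def dE : G22 := trE cE

theorem gN_cE (i : ℕ) (hi : i < 3510) : SQ.gN (φ cE) i = cF i := by
  rw [cE, gN_word cW (by decide) i hi]
  rfl

theorem gN_cE_inv (i : ℕ) (hi : i < 3510) : SQ.gN (φ cE⁻¹) i = cFi i := by
  rw [cE, word_inv22 cW (by decide), gN_word cW.reverse (by decide) i hi]
  rfl

theorem ptE_cE : ptE cE = 2087 := by
  rw [ptE, gN_cE 0 (by decide)]
  exact p0_eq

theorem dE_comm : dE * yE = yE * dE := by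
  have : yE * dE * yE⁻¹ = dE := by
    rw [dE, trE_conj, trE_eq_iff, ptE_mul, ptE_cE, gN_yE _ (by decide)]
    exact p0_fix
  calc dE * yE = yE * dE * yE⁻¹ * yE := by rw [this]
    _ = yE * dE := by group

theorem gN_dE_zero : SQ.gN (φ dE) 0 = 1896 := by
  have h0 : (0 : ℕ) < 3510 := by decide
  have h1 : cFi 0 < 3510 := by rw [← gN_cE_inv 0 h0]; exact SQ.gN_lt _ h0
  have h2 : u0 (cFi 0) < 3510 := by rw [← gN_zT _ h1]; exact SQ.gN_lt _ h1
  rw [dE, gN_trE cE 0 h0, gN_cE_inv 0 h0, gN_cE _ h2]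
  exact pd_eq

theorem dE_unique (t : G22) (h2 : t * t = 1) (h1 : t ≠ 1) (hc : t * yE = yE * t) : t = dE := by
  have h0 : (0 : ℕ) < 3510 := by decide
  have hcφ : φ t * φ yE = φ yE * φ t := by rw [← map_mul, ← map_mul, hc]
  have hinv : (φ t)⁻¹ = φ t := by
    rw [← map_inv]
    congr 1
    exact inv_eq_of_mul_eq_one_right h2
  have h := (SQ.transporter_test chainY u12 u12 (φ yE) (φ yE) gN_yE gN_yE 0 h0 baseY
    (mem_K22 t) hcφ [0] (by decide)).1
  rw [hinv] at h
  have hp : passY (SQ.gN (φ t) 0) = true := by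
    unfold passY
    have e : LsY.length = 6 := rfl
    rw [e] at h
    rw [h]
    show Nat.beq (SQ.gN (φ t) 0) (SQ.gN (φ t) 0) = true
    exact Nat.beq_refl _
  have h3 := passY_all _ (SQ.gN_lt (φ t) h0)
  rw [hp] at h3
  have h4 : SQ.gN (φ t) 0 = 0 ∨ SQ.gN (φ t) 0 = 1896 := by
    simp only [Bool.not_true, Bool.false_or, Bool.or_eq_true] at h3
    rcases h3 with h | h
    · exact Or.inl (Nat.eq_of_beq_eq_true h)
    · exact Or.inr (Nat.eq_of_beq_eq_true h)
  rcases h4 with h4 | h4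
  · exfalso
    apply h1
    apply φ_inj
    rw [map_one]
    exact SQ.eq_of_commute chainY gN_yE h0 baseY (mem_K22 t) K22.one_mem hcφ
      (by rw [one_mul, mul_one]) (by rw [h4, SQ.gN_one])
  · apply φ_inj
    exact SQ.eq_of_commute chainY gN_yE h0 baseY (mem_K22 t) (mem_K22 dE) hcφ
      (by rw [← map_mul, ← map_mul, dE_comm]) (by rw [h4, gN_dE_zero])

theorem dE_class (α : MulAut G22) : ∃ g : G22, α dE = g * dE * g⁻¹ :=
  OutG.class_invariant 11 fact11 yE dE orderOf_yE (trE_sq cE) (trE_ne_one cE) dE_unique dE_comm α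

theorem zT_class (α : MulAut G22) : ∃ c : G22, α zT = trE c := by
  obtain ⟨g, hg⟩ := dE_class α
  have e : zT = cE⁻¹ * dE * cE := by rw [dE, trE]; group
  refine ⟨(α cE)⁻¹ * g * cE, ?_⟩
  have e2 : α zT = (α cE)⁻¹ * α dE * α cE := by
    conv_lhs => rw [e]
    rw [map_mul, map_mul, map_inv]
  rw [e2, hg, dE, trE, trE]
  group

end Cfsg.Agent.Lib.Helper8.FiO
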