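import Mathlib

set_option autoImplicit false

/-! Fibre powers of a finite group over the quotient by a normal subgroup of exponent 2: groups
of arbitrarily large order with the same element orders. -/

namespace Cfsg.Agent.Lib.Helper8.FiberFam

variable {X : Type} [Group X]

/-- the fibre power: the tuples whose entries are congruent modulo `N` -/
def fib (N : Subgroup X) [N.Normal] (k : ℕ) : Subgroup (Fin k → X) where
  carrier := {f | ∀ i j, (f i)⁻¹ * f j ∈ N}
  one_mem' := by
    intro i j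
    simp
  mul_mem' := by
    intro f g hf hg i j
    have h1 : (g i)⁻¹ * ((f i)⁻¹ * f j) * ((g i)⁻¹)⁻¹ ∈ N :=
      Subgroup.Normal.conj_mem inferInstance _ (hf i j) _
    have h2 := N.mul_mem h1 (hg i j)
    have e : (g i)⁻¹ * ((f i)⁻¹ * f j) * ((g i)⁻¹)⁻¹ * ((g i)⁻¹ * g j) =
        ((f * g) i)⁻¹ * (f * g) j := by
      simp only [Pi.mul_apply]
      group
    rw [← e]
    exact h2
  inv_mem' := by
    intro f hf i j
    have h1 : f j * ((f j)⁻¹ * f i) * (f j)⁻¹ ∈ N :=
      Subgroup.Normal.conj_mem inferInstance _ (hf j i) _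
    have e : f j * ((f j)⁻¹ * f i) * (f j)⁻¹ = ((f⁻¹) i)⁻¹ * (f⁻¹) j := by
      simp only [Pi.inv_apply]
      group
    rw [← e]
    exact h1

/-- the order of the image in the quotient -/
noncomputable def qo (N : Subgroup X) [N.Normal] (x : X) : ℕ := orderOf (QuotientGroup.mk' N x)

theorem qo_eq {N : Subgroup X} [N.Normal] (x y : X) (hxy : x⁻¹ * y ∈ N) : qo N x = qo N y := by
  unfold qo
  rw [QuotientGroup.mk'_apply, QuotientGroup.mk'_apply, QuotientGroup.eq.mpr hxy]

theorem qo_pos {N : Subgroup X} [N.Normal] [Finite X] (x : X) : 0 < qo N x := orderOf_pos _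

theorem orderOf_cases {N : Subgroup X} [N.Normal] [Finite X] (h2 : ∀ v ∈ N, v ^ 2 = 1)
    (x : X) : orderOf x = qo N x ∨ orderOf x = 2 * qo N x := by
  have hd1 : qo N x ∣ orderOf x := orderOf_map_dvd (QuotientGroup.mk' N) x
  have hmem : x ^ qo N x ∈ N := by
    rw [← QuotientGroup.eq_one_iff, ← QuotientGroup.mk'_apply, map_pow]
    exact pow_orderOf_eq_one _
  have hd2 : orderOf x ∣ 2 * qo N x := by
    apply orderOf_dvd_of_pow_eq_one
    rw [mul_comm, pow_mul]
    exact h2 _ hmem
  obtain ⟨t, ht⟩ := hd1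
  have hpos : 0 < qo N x := qo_pos x
  rw [ht] at hd2
  have ht2 : t ∣ 2 := by
    rw [mul_comm 2] at hd2
    exact Nat.dvd_of_mul_dvd_mul_left hpos hd2
  rcases (Nat.dvd_prime Nat.prime_two).mp ht2 with rfl | rfl
  · left; rw [ht, mul_one]
  · right; rw [ht, mul_comm]

/-- the order of an element of the fibre power is the order of one of its entries -/
theorem orderOf_fib {N : Subgroup X} [N.Normal] [Finite X] (h2 : ∀ v ∈ N, v ^ 2 = 1) (k : ℕ)
    (f : Fin (k + 1) → X) (hf : f ∈ fib N (k + 1)) : ∃ i, orderOf f = orderOf (f i) := by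
  have hdiv : ∀ i, orderOf (f i) ∣ orderOf f := fun i =>
    orderOf_map_dvd (Pi.evalMonoidHom (fun _ : Fin (k + 1) => X) i) f
  have hq : ∀ i, qo N (f i) = qo N (f 0) := fun i => (qo_eq (f 0) (f i) (hf 0 i)).symm
  by_cases hall : ∀ i, orderOf (f i) = qo N (f 0)
  · refine ⟨0, Nat.dvd_antisymm ?_ (hdiv 0)⟩
    apply orderOf_dvd_of_pow_eq_one
    funext i
    rw [Pi.pow_apply, hall 0, ← hall i, pow_orderOf_eq_one]
    rfl
  · rw [not_forall] at hall
    obtain ⟨j, hj⟩ := hall
    have hj2 : orderOf (f j) = 2 * qo N (f 0) := by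
      rcases orderOf_cases h2 (f j) with h | h
      · exact absurd (h.trans (hq j)) hj
      · rw [h, hq j]
    refine ⟨j, Nat.dvd_antisymm ?_ (hdiv j)⟩
    apply orderOf_dvd_of_pow_eq_one
    funext i
    rw [Pi.pow_apply, hj2]
    rcases orderOf_cases h2 (f i) with h | h
    · rw [mul_comm, pow_mul, ← hq i, ← h, pow_orderOf_eq_one, one_pow]
      rfl
    · rw [← hq i, ← h, pow_orderOf_eq_one]
      rfl

/-- groups of arbitrarily large order with the same element orders -/
theorem exists_large {N : Subgroup X} [N.Normal] [Fintype X] (h2 : ∀ v ∈ N, v ^ 2 = 1)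
    (hne : ∃ v ∈ N, v ≠ 1) (B : ℕ) :
    ∃ (H : Type) (_ : Group H) (_ : Fintype H), B < Fintype.card H ∧
      Set.range (orderOf : H → ℕ) = Set.range (orderOf : X → ℕ) := by
  classical
  haveI : Finite ↥(fib N (B + 1)) := inferInstance
  refine ⟨↥(fib N (B + 1)), inferInstance, Fintype.ofFinite _, ?_, ?_⟩
  · -- the order
    rw [← @Nat.card_eq_fintype_card _ (Fintype.ofFinite _)]
    have hinj : Function.Injective (fun v : Fin (B + 1) → ↥N =>
        (⟨fun i => (v i : X), fun i j => N.mul_mem (N.inv_mem (v i).2) (v j).2⟩ :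
          ↥(fib N (B + 1)))) := by
      intro v w hvw
      funext i
      have := congrFun (congrArg Subtype.val hvw) i
      exact Subtype.ext this
    have hle := Nat.card_le_card_of_injective _ hinj
    have hN2 : 2 ≤ Nat.card ↥N := by
      obtain ⟨v, hv, hv1⟩ := hne
      have : Nontrivial ↥N := ⟨⟨⟨v, hv⟩, 1, fun h => hv1 (congrArg Subtype.val h)⟩⟩
      exact Finite.one_lt_card
    rw [Nat.card_fun, Nat.card_fin] at hle
    calc B < 2 ^ (B + 1) := (Nat.lt_succ_self B).trans Nat.lt_two_pow_self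
      _ ≤ Nat.card ↥N ^ (B + 1) := Nat.pow_le_pow_left hN2 _
      _ ≤ _ := hle
  · ext o
    constructor
    · rintro ⟨f, rfl⟩
      obtain ⟨i, hi⟩ := orderOf_fib h2 B f.1 f.2
      exact ⟨f.1 i, by rw [← hi, Subgroup.orderOf_coe]⟩
    · rintro ⟨x, rfl⟩
      refine ⟨⟨fun _ => x, fun i j => by simp⟩, ?_⟩
      let φ : X →* ↥(fib N (B + 1)) :=
        { toFun := fun x => ⟨fun _ => x, fun i j => by simp⟩
          map_one' := rfl
          map_mul' := fun a b => rfl }
      have hφ : Function.Injective φ := by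
        intro a b hab
        exact congrFun (congrArg Subtype.val hab) 0
      exact orderOf_injective φ hφ x

end Cfsg.Agent.Lib.Helper8.FiberFam
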