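import Mathlib
import Cfsg.Agent.Lib.Helper1.PNilpotentLocal
import Cfsg.Agent.Lib.Helper1.NormalPComplement
import Cfsg.Agent.Lib.Helper1.CoprimeAut
import Cfsg.Agent.Lib.Helper1.Coprime
import Cfsg.Agent.Lib.Helper2.OmegaTwoAut
import Cfsg.Agent.Lib.Helper7.ConjK
import Cfsg.Agent.Lib.Helper7.SylowAux
import Cfsg.Agent.Lib.Helper7.PGroupComm
import Cfsg.Agent.Lib.Helper8.SigFun

set_option autoImplicit false
set_option linter.style.haveILetI false

/-! Normal `p`-complements and control of fusion of elements of small order. -/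

namespace Cfsg.Agent.Lib.Helper8.FusionOmega

open Cfsg Cfsg.Agent.Lib.Helper1
open scoped commutatorElement

variable {G : Type*} [Group G]

/-- the small-order condition. -/
def IsSmall (p : ℕ) (a : G) : Prop := a ^ p = 1 ∨ (p = 2 ∧ a ^ 4 = 1)

theorem IsSmall.inv {p : ℕ} {a : G} (h : IsSmall p a) : IsSmall p a⁻¹ := by
  rcases h with h | ⟨h2, h⟩
  · left; rw [inv_pow, h, inv_one]
  · right; exact ⟨h2, by rw [inv_pow, h, inv_one]⟩

theorem IsSmall.conj {p : ℕ} {a : G} (g : G) (h : IsSmall p a) : IsSmall p (g * a * g⁻¹) := by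
  rcases h with h | ⟨h2, h⟩
  · left; rw [conj_pow, h, mul_one, mul_inv_cancel]
  · right; exact ⟨h2, by rw [conj_pow, h, mul_one, mul_inv_cancel]⟩

/-- a normal `p`-complement forces control of fusion. -/
theorem control_of_complement {p : ℕ} {P N : Subgroup G} [hN : N.Normal]
    (hc : N.IsComplement' P) {a g : G} (ha : a ∈ P) (hg : g * a * g⁻¹ ∈ P) :
    ∃ x ∈ P, g * a * g⁻¹ = x * a * x⁻¹ := by
  have htop := hc.sup_eq_top
  have hdisj := hc.disjoint
  have hgm : g ∈ N ⊔ P := by rw [htop]; exact Subgroup.mem_top g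
  have hPN : P ≤ Subgroup.normalizer (N : Set G) := by
    rw [Subgroup.normalizer_eq_top_iff.2 hN]; exact le_top
  obtain ⟨n, hn, x, hx, rfl⟩ :=
    (Cfsg.Agent.Lib.Helper8.SigFun.mem_sup_iff_of_le_normalizer hPN).1 hgm
  refine ⟨x, hx, ?_⟩
  set b := x * a * x⁻¹ with hb
  have hbP : b ∈ P := P.mul_mem (P.mul_mem hx ha) (P.inv_mem hx)
  have e : n * x * a * (n * x)⁻¹ = n * b * n⁻¹ := by rw [hb]; group
  rw [e] at hg ⊢
  have h1 : n * b * n⁻¹ * b⁻¹ ∈ P := P.mul_mem hg (P.inv_mem hbP)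
  have h2 : n * b * n⁻¹ * b⁻¹ ∈ N := by
    have : n * b * n⁻¹ * b⁻¹ = n * (b * n⁻¹ * b⁻¹) := by group
    rw [this]
    exact N.mul_mem hn (hN.conj_mem _ (N.inv_mem hn) b)
  have h3 : n * b * n⁻¹ * b⁻¹ = 1 := by
    have := hdisj.le_bot ⟨h2, h1⟩
    exact Subgroup.mem_bot.1 this
  calc n * b * n⁻¹ = (n * b * n⁻¹ * b⁻¹) * b := by group
    _ = b := by rw [h3, one_mul]

/-- the subgroup generated by the small elements of `Q`. -/
def omegaS (p : ℕ) (Q : Subgroup G) : Subgroup G :=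
  Subgroup.closure {a | a ∈ Q ∧ IsSmall p a}

theorem omegaS_le (p : ℕ) (Q : Subgroup G) : omegaS p Q ≤ Q := by
  unfold omegaS
  rw [Subgroup.closure_le]
  intro a ha
  exact ha.1

theorem mem_normalizer_omegaS [Finite G] (p : ℕ) {Q : Subgroup G} {g : G}
    (hg : g ∈ Subgroup.normalizer (Q : Set G)) : g ∈ Subgroup.normalizer (omegaS p Q : Set G) := by
  apply Cfsg.Agent.Lib.Helper7.mem_normalizer_of_map_conj_le
  unfold omegaS
  rw [MonoidHom.map_closure, Subgroup.closure_le]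
  rintro _ ⟨a, ⟨haQ, ha⟩, rfl⟩
  apply Subgroup.subset_closure
  rw [MulEquiv.coe_toMonoidHom, MulAut.conj_apply]
  exact ⟨(Subgroup.mem_normalizer_iff.1 hg a).1 haQ, ha.conj g⟩

/-- a `p'`-element normalizing the `p`-group `Q` and centralizing its small elements
centralizes `Q`. -/
theorem mem_centralizer_of_omegaS [Finite G] {p : ℕ} [hp : Fact p.Prime] {Q : Subgroup G}
    (hQ : IsPGroup p ↥Q) {g : G} (hg : g ∈ Subgroup.normalizer (Q : Set G))
    (hgo : (orderOf g).Coprime p) (hc : g ∈ Subgroup.centralizer (omegaS p Q : Set G)) :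
    g ∈ Subgroup.centralizer (Q : Set G) := by
  set α : MulAut ↥Q := Cfsg.Agent.Lib.Helper7.conjKHom Q ⟨g, hg⟩ with hα
  have hαo : (orderOf α).Coprime p := by
    have h1 : orderOf α ∣ orderOf (⟨g, hg⟩ : ↥(Subgroup.normalizer (Q : Set G))) :=
      orderOf_map_dvd _ _
    rw [Subgroup.orderOf_mk] at h1
    exact Nat.Coprime.coprime_dvd_left h1 hgo
  have hfix : ∀ x : ↥Q, IsSmall p (x : G) → α x = x := by
    intro x hx
    apply Subtype.ext
    rw [hα, Cfsg.Agent.Lib.Helper7.conjKHom_apply_coe]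
    have hxm : (x : G) ∈ omegaS p Q := Subgroup.subset_closure ⟨x.2, hx⟩
    have h1 : (x : G) * g = g * x := Subgroup.mem_centralizer_iff.1 hc _ hxm
    show g * (x : G) * g⁻¹ = x
    rw [← h1]; group
  have hα1 : α = 1 := by
    by_cases hp2 : p = 2
    · subst hp2
      apply Cfsg.Agent.Lib.Helper2.coprime_aut_trivial_of_fix_omega_two hQ α hαo
      intro x hx
      apply hfix x
      right
      refine ⟨rfl, ?_⟩
      have := congrArg Subtype.val hx
      rwa [Subgroup.coe_pow, Subgroup.coe_one] at this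
    · apply coprime_aut_trivial_of_fix_omega hp2 hQ α hαo
      intro x hx
      apply hfix x
      left
      have := congrArg Subtype.val hx
      rwa [Subgroup.coe_pow, Subgroup.coe_one] at this
  refine Subgroup.mem_centralizer_iff.2 ?_
  intro x hx
  have h1 : α ⟨x, hx⟩ = ⟨x, hx⟩ := by rw [hα1]; rfl
  have h2 := congrArg Subtype.val h1
  rw [hα, Cfsg.Agent.Lib.Helper7.conjKHom_apply_coe] at h2
  have h3 : g * x * g⁻¹ = x := h2
  calc x * g = (g * x * g⁻¹) * g := by rw [h3]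
    _ = g * x := by group

end Cfsg.Agent.Lib.Helper8.FusionOmega
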