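import Mathlib
import Cfsg.Agent.Lib.Helper8.FusionOmega

set_option autoImplicit false
set_option linter.style.haveILetI false

namespace Cfsg.Agent.Lib.Helper8.FusionOmega

open Cfsg Cfsg.Agent.Lib.Helper1
open scoped commutatorElement

variable {G : Type*} [Group G]

/-- `[Q, ⟨g⟩] ≤ [Q, P]` when `Q` is generated by small elements whose fusion `P` controls. -/
theorem commutator_zpowers_le {p : ℕ} {P Q : Subgroup G} (hQP : Q ≤ P)
    (hctl : ∀ a ∈ P, IsSmall p a → ∀ g : G, g * a * g⁻¹ ∈ P → ∃ x ∈ P, g * a * g⁻¹ = x * a * x⁻¹)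
    {g : G} (hg : g ∈ Subgroup.normalizer (Q : Set G)) (hgen : omegaS p Q = Q) :
    ⁅Q, Subgroup.zpowers g⁆ ≤ ⁅Q, P⁆ := by
  have hQN : Q ≤ Subgroup.normalizer ((⁅Q, P⁆ : Subgroup G) : Set G) :=
    Subgroup.normalizer_commutator_ge_left Q P
  rw [Subgroup.commutator_le]
  intro w hw h hh
  have hhN : h ∈ Subgroup.normalizer (Q : Set G) := (Subgroup.zpowers_le.2 hg) hh
  rw [← hgen] at hw
  have key : w ∈ Q ∧ ⁅w, h⁆ ∈ ⁅Q, P⁆ := by
    unfold omegaS at hw
    induction hw using Subgroup.closure_induction with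
    | mem a ha =>
      refine ⟨ha.1, ?_⟩
      have h1 : h * a⁻¹ * h⁻¹ ∈ Q := (Subgroup.mem_normalizer_iff.1 hhN a⁻¹).1 (Q.inv_mem ha.1)
      obtain ⟨x, hx, hxe⟩ := hctl a⁻¹ (P.inv_mem (hQP ha.1)) ha.2.inv h (hQP h1)
      have e : ⁅a, h⁆ = ⁅a, x⁆ := by
        rw [commutatorElement_def, commutatorElement_def]
        calc a * h * a⁻¹ * h⁻¹ = a * (h * a⁻¹ * h⁻¹) := by group
          _ = a * (x * a⁻¹ * x⁻¹) := by rw [hxe]
          _ = a * x * a⁻¹ * x⁻¹ := by group
      rw [e]
      exact Subgroup.commutator_mem_commutator ha.1 hx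
    | one =>
      refine ⟨Q.one_mem, ?_⟩
      rw [commutatorElement_one_left]
      exact Subgroup.one_mem _
    | mul u v _ _ hu hv =>
      refine ⟨Q.mul_mem hu.1 hv.1, ?_⟩
      rw [Cfsg.Agent.Lib.Helper7.commutatorElement_mul_left]
      exact Subgroup.mul_mem _ ((Subgroup.mem_normalizer_iff.1 (hQN hu.1) _).1 hv.2) hu.2
    | inv u _ hu =>
      refine ⟨Q.inv_mem hu.1, ?_⟩
      have e : ⁅u⁻¹, h⁆ = u⁻¹ * ⁅u, h⁆⁻¹ * u⁻¹⁻¹ := by
        rw [commutatorElement_def, commutatorElement_def]; group
      rw [e]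
      exact (Subgroup.mem_normalizer_iff.1 (hQN (Q.inv_mem hu.1)) _).1 (Subgroup.inv_mem _ hu.2)
  exact key.2

/-- a subgroup `Q ≤ P` of a nilpotent group with `Q ≤ [Q, P]` is trivial. -/
theorem eq_bot_of_le_commutator {P Q : Subgroup G} (hP : Group.IsNilpotent ↥P) (hQP : Q ≤ P)
    (h : Q ≤ ⁅Q, P⁆) : Q = ⊥ := by
  obtain ⟨n, hn⟩ := (Subgroup.isNilpotent_iff_lowerCentralSeries P).1 hP
  have key : ∀ k : ℕ, Q ≤ P.lowerCentralSeries k := by
    intro k
    induction k with
    | zero => rw [Subgroup.lowerCentralSeries_zero]; exact hQP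
    | succ k ih =>
      rw [Subgroup.lowerCentralSeries_succ]
      exact h.trans (Subgroup.commutator_mono ih le_rfl)
  rw [eq_bot_iff, ← hn]
  exact key n

/-- control of fusion of small elements gives Frobenius' condition. -/
theorem frobeniusCondition_of_control [Finite G] {p : ℕ} [hp : Fact p.Prime] (P : Sylow p G)
    (hctl : ∀ a ∈ (P : Subgroup G), IsSmall p a → ∀ g : G, g * a * g⁻¹ ∈ (P : Subgroup G) →
      ∃ x ∈ (P : Subgroup G), g * a * g⁻¹ = x * a * x⁻¹) : FrobeniusCondition p G := by
  apply frobeniusCondition_of_sylow P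
  intro Q hQP g hg hgo
  have main : ∀ n : ℕ, ∀ Q : Subgroup G, Q ≤ (P : Subgroup G) → Nat.card ↥Q = n →
      g ∈ Subgroup.normalizer (Q : Set G) → g ∈ Subgroup.centralizer (Q : Set G) := by
    intro n
    induction n using Nat.strong_induction_on with
    | _ n ih =>
      intro Q hQP hn hg
      have hQp : IsPGroup p ↥Q := P.2.to_le hQP
      by_contra hcon
      have hlt : ∀ Q' : Subgroup G, Q' ≤ Q → Q' ≠ Q → g ∈ Subgroup.normalizer (Q' : Set G) →
          g ∈ Subgroup.centralizer (Q' : Set G) := by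
        intro Q' hle hne hg'
        have hcard : Nat.card ↥Q' < Nat.card ↥Q := by
          by_contra hc
          push Not at hc
          exact hne (Subgroup.eq_of_le_of_card_ge hle hc)
        exact ih _ (hn ▸ hcard) Q' (hle.trans hQP) rfl hg'
      -- `Q` is generated by its small elements
      have hgen : omegaS p Q = Q := by
        by_contra hne
        exact hcon (mem_centralizer_of_omegaS hQp hg hgo
          (hlt _ (omegaS_le p Q) hne (mem_normalizer_omegaS p hg)))
      -- `Q = [Q, g]`
      have hzN : Subgroup.zpowers g ≤ Subgroup.normalizer (Q : Set G) := Subgroup.zpowers_le.2 hg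
      have hDle : ⁅Q, Subgroup.zpowers g⁆ ≤ Q :=
        Subgroup.le_normalizer_iff_commutator_le_left.mp hzN
      have hDeq : ⁅Q, Subgroup.zpowers g⁆ = Q := by
        by_contra hne
        have hgD : g ∈ Subgroup.normalizer ((⁅Q, Subgroup.zpowers g⁆ : Subgroup G) : Set G) :=
          Subgroup.normalizer_commutator_ge_right Q (Subgroup.zpowers g) (Subgroup.mem_zpowers g)
        have h1 := hlt _ hDle hne hgD
        have h2 : ⁅⁅Q, Subgroup.zpowers g⁆, Subgroup.zpowers g⁆ = ⊥ := by
          rw [Subgroup.commutator_eq_bot_iff_le_centralizer]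
          intro d hd
          refine Subgroup.mem_centralizer_iff.2 ?_
          intro z hz
          obtain ⟨k, rfl⟩ := Subgroup.mem_zpowers_iff.1 hz
          have hc1 : Commute g d := (Subgroup.mem_centralizer_iff.1 h1 d hd).symm
          exact (hc1.zpow_left k).eq
        have hcop : (Nat.card ↥(Subgroup.zpowers g)).Coprime (Nat.card ↥Q) := by
          rw [Nat.card_zpowers]
          obtain ⟨k, hk⟩ := hQp.exists_card_eq
          rw [hk]
          exact Nat.Coprime.pow_right k hgo
        have hsolv : Group.IsSolvable ↥Q := by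
          haveI := hQp.isNilpotent
          infer_instance
        have h3 := coprime_commutator_commutator (Subgroup.zpowers g) Q hzN hcop (Or.inr hsolv)
        rw [h2] at h3
        apply hcon
        rw [eq_comm, Subgroup.commutator_eq_bot_iff_le_centralizer] at h3
        have h4 : Commute g g := Commute.refl g
        refine Subgroup.mem_centralizer_iff.2 ?_
        intro x hx
        exact Subgroup.mem_centralizer_iff.1 (h3 hx) g (Subgroup.mem_zpowers g) |>.symm
      -- descent
      have h5 : Q ≤ ⁅Q, (P : Subgroup G)⁆ := by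
        have := commutator_zpowers_le hQP hctl hg hgen
        rwa [hDeq] at this
      have hPn : Group.IsNilpotent ↥(P : Subgroup G) := P.2.isNilpotent
      have h6 := eq_bot_of_le_commutator hPn hQP h5
      apply hcon
      rw [h6]
      refine Subgroup.mem_centralizer_iff.2 ?_
      intro x hx
      rw [Subgroup.mem_bot.1 hx, one_mul, mul_one]
  exact main _ Q hQP rfl hg

end Cfsg.Agent.Lib.Helper8.FusionOmega
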