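import Cfsg.Agent.Lib.Helper8.G2SA

/-! The action of the root elements of `G₂(4)` on the 1365 long root lines: kernel checks on codes
and their translation. -/

set_option autoImplicit false

namespace Cfsg.Agent.Lib.Helper8.G2S

open Matrix Cfsg.Agent.Lib.Helper8.HeSp

set_option maxRecDepth 100000

/-- the code of the coordinate at a position -/
def dig (n p : ℕ) : ℕ := Nat.land (Nat.shiftRight n (Nat.mul 2 p)) 3

/-- multiplication of codes -/
def mulN (a b : ℕ) : ℕ := rdN 2 3 2625168384 (Nat.add (Nat.mul 4 a) b)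

/-- powers of codes -/
def tpwN (tq k : ℕ) : ℕ := rdN 2 3 1421141077 (Nat.add (Nat.mul 4 k) tq)

theorem dig_lt (n p : ℕ) : dig n p < 4 := by
  have h : Nat.land (Nat.shiftRight n (Nat.mul 2 p)) 3 ≤ 3 := Nat.and_le_right
  unfold dig
  omega

theorem dec_mod (a : ℕ) : K4.dec (a % 4) = K4.dec a := by
  unfold K4.dec
  rw [Nat.mod_mod]

theorem dec_land (a : ℕ) : K4.dec (Nat.land a 3) = K4.dec a := by
  have h : Nat.land a 3 = a % 4 := Nat.and_two_pow_sub_one_eq_mod a 2
  rw [h, dec_mod]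

theorem vec_dig (n : ℕ) (x : I14) : vec n x = K4.dec (dig n (pos x)) := by
  unfold vec dig
  rw [dec_land]

theorem dec_xor : ∀ a b : Fin 4,
    K4.dec (Nat.xor a.1 b.1) = K4.dec a.1 + K4.dec b.1 ∧ Nat.xor a.1 b.1 < 4 := by decide

theorem dec_mulN : ∀ a b : Fin 4,
    K4.dec (mulN a.1 b.1) = K4.dec a.1 * K4.dec b.1 ∧ mulN a.1 b.1 < 4 := by decide

theorem dec_tpwN : ∀ t : K4, ∀ k : Fin 4,
    K4.dec (tpwN t.enc k.1) = tpow t k.1 ∧ tpwN t.enc k.1 < 4 := by decide

theorem dec_xor' (a b : ℕ) (ha : a < 4) (hb : b < 4) :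
    K4.dec (Nat.xor a b) = K4.dec a + K4.dec b ∧ Nat.xor a b < 4 := dec_xor ⟨a, ha⟩ ⟨b, hb⟩

theorem dec_mulN' (a b : ℕ) (ha : a < 4) (hb : b < 4) :
    K4.dec (mulN a b) = K4.dec a * K4.dec b ∧ mulN a b < 4 := dec_mulN ⟨a, ha⟩ ⟨b, hb⟩

theorem dec_tpwN' (t : K4) (k : ℕ) (hk : k < 4) :
    K4.dec (tpwN t.enc k) = tpow t k ∧ tpwN t.enc k < 4 := dec_tpwN t ⟨k, hk⟩

/-- the sum over the sparse entries of a row, on codes -/
def rowSumN (tq n : ℕ) (row : List (ℕ × ℕ)) : ℕ :=
  @List.rec (ℕ × ℕ) (fun _ => ℕ) 0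
    (fun e _ ih => Nat.xor (mulN (tpwN tq e.2) (dig n e.1)) ih) row

theorem rowSumN_cons (tq n : ℕ) (e : ℕ × ℕ) (row : List (ℕ × ℕ)) :
    rowSumN tq n (e :: row) = Nat.xor (mulN (tpwN tq e.2) (dig n e.1)) (rowSumN tq n row) := rfl

theorem vec_ofPos (n c : ℕ) (hc : c < 14) : vec n (ofPos c) = K4.dec (dig n c) := by
  rw [vec_dig, pos_ofPos ⟨c, hc⟩]

theorem rowSumN_spec (t : K4) (n : ℕ) (row : List (ℕ × ℕ)) (h : ∀ e ∈ row, e.1 < 14 ∧ e.2 < 4) :
    rowSumN t.enc n row < 4 ∧ K4.dec (rowSumN t.enc n row) =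
      (row.map (fun e => tpow t e.2 * vec n (ofPos e.1))).sum := by
  induction row with
  | nil => exact ⟨show (0 : ℕ) < 4 by decide, rfl⟩
  | cons e row ih =>
    obtain ⟨h1, h2⟩ := ih (fun e' he' => h e' (List.mem_cons_of_mem _ he'))
    obtain ⟨hc, hk⟩ := h e List.mem_cons_self
    obtain ⟨ht1, ht2⟩ := dec_tpwN' t e.2 hk
    have hd := dig_lt n e.1
    obtain ⟨hm1, hm2⟩ := dec_mulN' _ _ ht2 hd
    obtain ⟨hx1, hx2⟩ := dec_xor' _ _ hm2 h1
    rw [rowSumN_cons]
    refine ⟨hx2, ?_⟩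
    rw [hx1, hm1, ht1, h2, List.map_cons, List.sum_cons, vec_ofPos n e.1 hc]

/-- the check of all coordinates of an image, on codes -/
def rowsOKN (tq n m c : ℕ) (rows : List (List (ℕ × ℕ))) : ℕ → Bool :=
  @List.rec (List (ℕ × ℕ)) (fun _ => ℕ → Bool) (fun _ => true)
    (fun row _ ih p => and (Nat.beq (Nat.xor (dig n p) (rowSumN tq n row)) (mulN c (dig m p)))
      (ih (Nat.succ p))) rows

theorem rowsOKN_cons (tq n m c : ℕ) (row : List (ℕ × ℕ)) (rows : List (List (ℕ × ℕ))) (p : ℕ) :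
    rowsOKN tq n m c (row :: rows) p =
      and (Nat.beq (Nat.xor (dig n p) (rowSumN tq n row)) (mulN c (dig m p)))
        (rowsOKN tq n m c rows (Nat.succ p)) := rfl

theorem rowsOKN_spec (tq n m c : ℕ) (rows : List (List (ℕ × ℕ))) (p : ℕ)
    (h : rowsOKN tq n m c rows p = true) (i : ℕ) (hi : i < rows.length) :
    Nat.xor (dig n (p + i)) (rowSumN tq n (rows.getD i [])) = mulN c (dig m (p + i)) := by
  induction rows generalizing p i with
  | nil => simp at hi
  | cons row rows ih =>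
    rw [rowsOKN_cons, Bool.and_eq_true] at h
    cases i with
    | zero => exact Nat.eq_of_beq_eq_true h.1
    | succ i =>
      have h3 := ih (Nat.succ p) h.2 i (by simpa using hi)
      rw [List.getD_cons_succ]
      have e : p + (i + 1) = Nat.succ p + i := by omega
      rw [e]
      exact h3

/-- packed image and scalar, by the code of the parameter -/
def PCN (r tq j : ℕ) : ℕ := rdN 13 8191 (PCtab.getD (Nat.add (Nat.mul 4 r) tq) 0) j

theorem PC_eq (r : ℕ) (t : K4) (j : ℕ) : PC r t j = PCN r t.enc j := rfl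

/-- the check of the image of the `j`-th line -/
def lineOKN (r tq j : ℕ) : Bool :=
  and (rowsOKN tq (WW j) (WW (Nat.div (PCN r tq j) 4)) (Nat.mod (PCN r tq j) 4) (LRNtab.getD r []) 0)
    (and (Nat.blt (Nat.div (PCN r tq j) 4) 1365) (Nat.blt 0 (Nat.mod (PCN r tq j) 4)))

theorem LRN_ok : ∀ r : Fin 12, (LRNtab.getD r.1 []).length = 14 ∧
    ∀ row ∈ LRNtab.getD r.1 [], ∀ e ∈ row, e.1 < 14 ∧ e.2 < 4 := by decide

theorem chkN_0_0 : allR (lineOKN 0 0) 1365 = true := by decide +kernel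
theorem chkN_0_1 : allR (lineOKN 0 1) 1365 = true := by decide +kernel
theorem chkN_0_2 : allR (lineOKN 0 2) 1365 = true := by decide +kernel
theorem chkN_0_3 : allR (lineOKN 0 3) 1365 = true := by decide +kernel
theorem chkN_1_0 : allR (lineOKN 1 0) 1365 = true := by decide +kernel
theorem chkN_1_1 : allR (lineOKN 1 1) 1365 = true := by decide +kernel
theorem chkN_1_2 : allR (lineOKN 1 2) 1365 = true := by decide +kernel
theorem chkN_1_3 : allR (lineOKN 1 3) 1365 = true := by decide +kernel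
theorem chkN_2_0 : allR (lineOKN 2 0) 1365 = true := by decide +kernel
theorem chkN_2_1 : allR (lineOKN 2 1) 1365 = true := by decide +kernel
theorem chkN_2_2 : allR (lineOKN 2 2) 1365 = true := by decide +kernel
theorem chkN_2_3 : allR (lineOKN 2 3) 1365 = true := by decide +kernel
theorem chkN_3_0 : allR (lineOKN 3 0) 1365 = true := by decide +kernel
theorem chkN_3_1 : allR (lineOKN 3 1) 1365 = true := by decide +kernel
theorem chkN_3_2 : allR (lineOKN 3 2) 1365 = true := by decide +kernel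
theorem chkN_3_3 : allR (lineOKN 3 3) 1365 = true := by decide +kernel
theorem chkN_4_0 : allR (lineOKN 4 0) 1365 = true := by decide +kernel
theorem chkN_4_1 : allR (lineOKN 4 1) 1365 = true := by decide +kernel
theorem chkN_4_2 : allR (lineOKN 4 2) 1365 = true := by decide +kernel
theorem chkN_4_3 : allR (lineOKN 4 3) 1365 = true := by decide +kernel
theorem chkN_5_0 : allR (lineOKN 5 0) 1365 = true := by decide +kernel
theorem chkN_5_1 : allR (lineOKN 5 1) 1365 = true := by decide +kernel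
theorem chkN_5_2 : allR (lineOKN 5 2) 1365 = true := by decide +kernel
theorem chkN_5_3 : allR (lineOKN 5 3) 1365 = true := by decide +kernel
theorem chkN_6_0 : allR (lineOKN 6 0) 1365 = true := by decide +kernel
theorem chkN_6_1 : allR (lineOKN 6 1) 1365 = true := by decide +kernel
theorem chkN_6_2 : allR (lineOKN 6 2) 1365 = true := by decide +kernel
theorem chkN_6_3 : allR (lineOKN 6 3) 1365 = true := by decide +kernel
theorem chkN_7_0 : allR (lineOKN 7 0) 1365 = true := by decide +kernel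
theorem chkN_7_1 : allR (lineOKN 7 1) 1365 = true := by decide +kernel
theorem chkN_7_2 : allR (lineOKN 7 2) 1365 = true := by decide +kernel
theorem chkN_7_3 : allR (lineOKN 7 3) 1365 = true := by decide +kernel
theorem chkN_8_0 : allR (lineOKN 8 0) 1365 = true := by decide +kernel
theorem chkN_8_1 : allR (lineOKN 8 1) 1365 = true := by decide +kernel
theorem chkN_8_2 : allR (lineOKN 8 2) 1365 = true := by decide +kernel
theorem chkN_8_3 : allR (lineOKN 8 3) 1365 = true := by decide +kernel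
theorem chkN_9_0 : allR (lineOKN 9 0) 1365 = true := by decide +kernel
theorem chkN_9_1 : allR (lineOKN 9 1) 1365 = true := by decide +kernel
theorem chkN_9_2 : allR (lineOKN 9 2) 1365 = true := by decide +kernel
theorem chkN_9_3 : allR (lineOKN 9 3) 1365 = true := by decide +kernel
theorem chkN_10_0 : allR (lineOKN 10 0) 1365 = true := by decide +kernel
theorem chkN_10_1 : allR (lineOKN 10 1) 1365 = true := by decide +kernel
theorem chkN_10_2 : allR (lineOKN 10 2) 1365 = true := by decide +kernel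
theorem chkN_10_3 : allR (lineOKN 10 3) 1365 = true := by decide +kernel
theorem chkN_11_0 : allR (lineOKN 11 0) 1365 = true := by decide +kernel
theorem chkN_11_1 : allR (lineOKN 11 1) 1365 = true := by decide +kernel
theorem chkN_11_2 : allR (lineOKN 11 2) 1365 = true := by decide +kernel
theorem chkN_11_3 : allR (lineOKN 11 3) 1365 = true := by decide +kernel

theorem chkN (r tq : ℕ) (hr : r < 12) (ht : tq < 4) : allR (lineOKN r tq) 1365 = true := by
  interval_cases r <;> interval_cases tq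
  · exact chkN_0_0
  · exact chkN_0_1
  · exact chkN_0_2
  · exact chkN_0_3
  · exact chkN_1_0
  · exact chkN_1_1
  · exact chkN_1_2
  · exact chkN_1_3
  · exact chkN_2_0
  · exact chkN_2_1
  · exact chkN_2_2
  · exact chkN_2_3
  · exact chkN_3_0
  · exact chkN_3_1
  · exact chkN_3_2
  · exact chkN_3_3
  · exact chkN_4_0
  · exact chkN_4_1
  · exact chkN_4_2
  · exact chkN_4_3
  · exact chkN_5_0
  · exact chkN_5_1
  · exact chkN_5_2
  · exact chkN_5_3
  · exact chkN_6_0
  · exact chkN_6_1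
  · exact chkN_6_2
  · exact chkN_6_3
  · exact chkN_7_0
  · exact chkN_7_1
  · exact chkN_7_2
  · exact chkN_7_3
  · exact chkN_8_0
  · exact chkN_8_1
  · exact chkN_8_2
  · exact chkN_8_3
  · exact chkN_9_0
  · exact chkN_9_1
  · exact chkN_9_2
  · exact chkN_9_3
  · exact chkN_10_0
  · exact chkN_10_1
  · exact chkN_10_2
  · exact chkN_10_3
  · exact chkN_11_0
  · exact chkN_11_1
  · exact chkN_11_2
  · exact chkN_11_3

theorem pos_lt (x : I14) : pos x < 14 := by
  rcases x with i | s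
  · have : i.1 < 2 := i.2
    show i.1 < 14
    omega
  · have : s.1 < 12 := s.2
    show 2 + s.1 < 14
    omega

theorem enc_lt (t : K4) : t.enc < 4 := by cases t <;> decide

theorem PT_ok (r : ℕ) (hr : r < 12) (t : K4) (j : Fin 1365) : PT r t j.1 < 1365 ∧ CT r t j.1 ≠ 0 := by
  have h := allR_spec _ _ (chkN r t.enc hr (enc_lt t)) j.1 j.2
  unfold lineOKN at h
  rw [Bool.and_eq_true, Bool.and_eq_true] at h
  have h1 : PCN r t.enc j.1 / 4 < 1365 := Nat.le_of_ble_eq_true h.2.1
  have h2 : 0 < PCN r t.enc j.1 % 4 := Nat.le_of_ble_eq_true h.2.2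
  refine ⟨h1, ?_⟩
  unfold CT
  rw [PC_eq, ← dec_mod]
  have h3 : PCN r t.enc j.1 % 4 < 4 := Nat.mod_lt _ (by decide)
  revert h2 h3
  generalize PCN r t.enc j.1 % 4 = c
  intro h2 h3
  interval_cases c <;> decide

theorem chk (r : ℕ) (hr : r < 12) (t : K4) (j : Fin 1365) (x : I14) :
    vec (WW j.1) x + ((LR r (pos x)).map (fun e => tpow t e.2 * vec (WW j.1) e.1)).sum =
      CT r t j.1 * vec (WW (PT r t j.1)) x := by
  have h := allR_spec _ _ (chkN r t.enc hr (enc_lt t)) j.1 j.2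
  unfold lineOKN at h
  rw [Bool.and_eq_true] at h
  obtain ⟨hlen, hrows⟩ := LRN_ok ⟨r, hr⟩
  have hp : pos x < (LRNtab.getD r []).length := by rw [hlen]; exact pos_lt x
  have h2 := rowsOKN_spec _ _ _ _ _ 0 h.1 (pos x) hp
  rw [Nat.zero_add] at h2
  have hmem : ∀ e ∈ LRN r (pos x), e.1 < 14 ∧ e.2 < 4 := by
    intro e he
    have hrow : LRN r (pos x) ∈ LRNtab.getD r [] := by
      unfold LRN
      rw [List.getD_eq_getElem _ _ hp]
      exact List.getElem_mem hp
    exact hrows _ hrow e he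
  obtain ⟨hs1, hs2⟩ := rowSumN_spec t (WW j.1) (LRN r (pos x)) hmem
  have hc : PCN r t.enc j.1 % 4 < 4 := Nat.mod_lt _ (by decide)
  obtain ⟨hx1, _⟩ := dec_xor' _ _ (dig_lt (WW j.1) (pos x)) hs1
  obtain ⟨hm1, _⟩ := dec_mulN' _ _ hc (dig_lt (WW (PCN r t.enc j.1 / 4)) (pos x))
  have h3 := congrArg K4.dec h2
  rw [show (LRNtab.getD r []).getD (pos x) [] = LRN r (pos x) from rfl] at h3
  rw [hx1, hs2] at h3
  rw [show Nat.mod (PCN r t.enc j.1) 4 = PCN r t.enc j.1 % 4 from rfl,
    show Nat.div (PCN r t.enc j.1) 4 = PCN r t.enc j.1 / 4 from rfl, hm1, dec_mod] at h3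
  rw [vec_dig, vec_dig (WW (PT r t j.1)) x]
  unfold LR
  rw [List.map_map]
  exact h3

end Cfsg.Agent.Lib.Helper8.G2S
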