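import Mathlib

/-! Generic lemmas: the subgroup of a general linear group permuting a finite family of pairwise
non-proportional vectors up to scalars, its permutation representation, and an isomorphism
criterion for two permutation representations with the same image. -/

set_option autoImplicit false

namespace Cfsg.Agent.Lib.Helper8.G2S

open Matrix

section LineStab

variable {K : Type*} [Field K] {n X : Type*} [Fintype n] [DecidableEq n] [Finite X]
  (u : X → n → K)

/-- the vectors are pairwise non-proportional -/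
def NonProp : Prop := ∀ j j' : X, ∀ c : K, c ≠ 0 → u j = c • u j' → j = j'

theorem mulVec_inj (g : GL n K) (x y : n → K)
    (h : (g : Matrix n n K) *ᵥ x = (g : Matrix n n K) *ᵥ y) : x = y := by
  have h2 := congrArg (fun z => ((g⁻¹ : GL n K) : Matrix n n K) *ᵥ z) h
  simp only [Matrix.mulVec_mulVec, ← Units.val_mul, inv_mul_cancel, Units.val_one,
    Matrix.one_mulVec] at h2
  exact h2

/-- the invertible matrices permuting the lines spanned by the vectors -/
def lineStab (hu : NonProp u) : Subgroup (GL n K) where
  carrier := {g | ∀ j, ∃ j' : X, ∃ c : K, c ≠ 0 ∧ (g : Matrix n n K) *ᵥ u j = c • u j'}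
  one_mem' := fun j => ⟨j, 1, one_ne_zero, by simp⟩
  mul_mem' := by
    rintro g h hg hh j
    obtain ⟨j1, c1, hc1, h1⟩ := hh j
    obtain ⟨j2, c2, hc2, h2⟩ := hg j1
    refine ⟨j2, c1 * c2, mul_ne_zero hc1 hc2, ?_⟩
    rw [Units.val_mul, ← Matrix.mulVec_mulVec, h1, Matrix.mulVec_smul, h2, smul_smul]
  inv_mem' := by
    intro g hg j
    choose f c hc hf using hg
    have hinj : Function.Injective f := by
      intro j1 j2 h12
      have e1 := hf j1
      have e2 := hf j2
      rw [h12] at e1
      have h3 : (g : Matrix n n K) *ᵥ ((c j1)⁻¹ • u j1) =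
          (g : Matrix n n K) *ᵥ ((c j2)⁻¹ • u j2) := by
        rw [Matrix.mulVec_smul, Matrix.mulVec_smul, e1, e2, smul_smul, smul_smul,
          inv_mul_cancel₀ (hc j1), inv_mul_cancel₀ (hc j2)]
      have h4 := mulVec_inj g _ _ h3
      apply hu j1 j2 (c j1 * (c j2)⁻¹) (mul_ne_zero (hc j1) (inv_ne_zero (hc j2)))
      rw [← smul_smul, ← h4, smul_smul, mul_inv_cancel₀ (hc j1), one_smul]
    obtain ⟨j0, hj0⟩ := (Finite.injective_iff_surjective.1 hinj) j
    refine ⟨j0, (c j0)⁻¹, inv_ne_zero (hc j0), ?_⟩
    have e := hf j0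
    rw [hj0] at e
    have h5 : u j = (c j0)⁻¹ • ((g : Matrix n n K) *ᵥ u j0) := by
      rw [e, smul_smul, inv_mul_cancel₀ (hc j0), one_smul]
    rw [h5, Matrix.mulVec_smul, Matrix.mulVec_mulVec, ← Units.val_mul, inv_mul_cancel,
      Units.val_one, Matrix.one_mulVec]

variable (hu : NonProp u)

/-- the action on the indices -/
noncomputable def pact (g : lineStab u hu) (j : X) : X := Classical.choose (g.2 j)

theorem pact_eq (g : lineStab u hu) (j j' : X) (c : K) (hc : c ≠ 0)
    (h : (g.1 : Matrix n n K) *ᵥ u j = c • u j') : pact u hu g j = j' := by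
  obtain ⟨c0, hc0, h0⟩ := Classical.choose_spec (g.2 j)
  symm
  apply hu j' _ (c⁻¹ * c0) (mul_ne_zero (inv_ne_zero hc) hc0)
  have h1 : c • u j' = c0 • u (pact u hu g j) := by rw [← h]; exact h0
  rw [← smul_smul, ← h1, smul_smul, inv_mul_cancel₀ hc, one_smul]

theorem pact_spec (g : lineStab u hu) (j : X) :
    ∃ c : K, c ≠ 0 ∧ (g.1 : Matrix n n K) *ᵥ u j = c • u (pact u hu g j) :=
  Classical.choose_spec (g.2 j)

noncomputable instance instMulActionLineStab : MulAction (lineStab u hu) X where
  smul := pact u hu
  one_smul j := pact_eq u hu 1 j j 1 one_ne_zero (by simp)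
  mul_smul g h j := by
    show pact u hu (g * h) j = pact u hu g (pact u hu h j)
    obtain ⟨c1, hc1, h1⟩ := pact_spec u hu h j
    obtain ⟨c2, hc2, h2⟩ := pact_spec u hu g (pact u hu h j)
    apply pact_eq u hu (g * h) j _ (c1 * c2) (mul_ne_zero hc1 hc2)
    rw [Subgroup.coe_mul, Units.val_mul, ← Matrix.mulVec_mulVec, h1, Matrix.mulVec_smul, h2,
      smul_smul]

/-- the permutation representation on the indices -/
noncomputable def lineRep : lineStab u hu →* Equiv.Perm X := MulAction.toPermHom (lineStab u hu) X

theorem lineRep_eq (g : lineStab u hu) (j j' : X) (c : K) (hc : c ≠ 0)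
    (h : (g.1 : Matrix n n K) *ᵥ u j = c • u j') : lineRep u hu g j = j' :=
  pact_eq u hu g j j' c hc h

end LineStab

/-- two permutation representations, the second injective with image inside the image of the
first, of groups of the same order -/
theorem iso_of_range_le' {U S X : Type*} [Group U] [Group S] [Finite U] [Finite S]
    (m : ℕ) (hU : Nat.card U = m) (hS : Nat.card S = m)
    (τ : U →* Equiv.Perm X) (ρ : S →* Equiv.Perm X)
    (hinj : Function.Injective ρ) (hrange : ρ.range ≤ τ.range) : Nonempty (U ≃* S) := by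
  haveI : Finite τ.range := Finite.of_surjective τ.rangeRestrict τ.rangeRestrict_surjective
  have h2 : Nat.card ρ.range = m := by
    rw [← hS]
    exact (Nat.card_congr (MonoidHom.ofInjective hinj).toEquiv).symm
  have h6 : Nat.card ρ.range ≤ Nat.card τ.range := Subgroup.card_le_of_le hrange
  have h7 : Nat.card τ.range ≤ m := by
    rw [← hU]
    exact Nat.card_le_card_of_surjective τ.rangeRestrict τ.rangeRestrict_surjective
  have hreq : ρ.range = τ.range := Subgroup.eq_of_le_of_card_ge hrange (by omega)
  have hτ : Function.Injective τ := by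
    have hb : Function.Bijective τ.rangeRestrict := by
      rw [Nat.bijective_iff_surjective_and_card]
      exact ⟨τ.rangeRestrict_surjective, by omega⟩
    intro x y hxy
    apply hb.1
    exact Subtype.ext hxy
  exact ⟨(MonoidHom.ofInjective hτ).trans
    ((MulEquiv.subgroupCongr hreq.symm).trans (MonoidHom.ofInjective hinj).symm)⟩

end Cfsg.Agent.Lib.Helper8.G2S
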