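import Cfsg.Agent.Lib.Helper8.G2SB
import Cfsg.Agent.Lib.Helper8.G2SF

/-! The action of the Chevalley group of type `G₂` over the field with four elements on the 1365
long root lines of its adjoint module. -/

set_option autoImplicit false

namespace Cfsg.Agent.Lib.Helper8.G2S

open Matrix Cfsg.Agent.Lib.Helper8.HeSp Cfsg.Lie

/-- the normalised vectors of the 1365 lines -/
def u (j : Fin 1365) : I14 → K4 := vec (WW j.1)

theorem WS_mono (a b : ℕ) (hab : a < b) (hb : b < 1365) : WS a < WS b := by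
  induction b with
  | zero => omega
  | succ b ih =>
    have h1 : WS b < WS (b + 1) := WS_lt ⟨b, by omega⟩
    rcases Nat.lt_succ_iff_lt_or_eq.1 hab with h | h
    · exact lt_trans (ih h (by omega)) h1
    · rw [h]; exact h1

theorem WW_inj (j j' : Fin 1365) (h : WW j.1 = WW j'.1) : j = j' := by
  obtain ⟨h1, h2⟩ := IK_RK j
  obtain ⟨h3, h4⟩ := IK_RK j'
  have h5 : RK j.1 = RK j'.1 := by
    unfold WW at h
    rcases lt_trichotomy (RK j.1) (RK j'.1) with h6 | h6 | h6
    · exact absurd h (ne_of_lt (WS_mono _ _ h6 h4))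
    · exact h6
    · exact absurd h.symm (ne_of_lt (WS_mono _ _ h6 h2))
  apply Fin.ext
  rw [← h1, ← h3, h5]

theorem hu : NonProp u := by
  intro j j' c hc h
  apply WW_inj
  rw [← key_WW j, ← key_WW j']
  have h1 : toL (vec (WW j.1)) = (toL (vec (WW j'.1))).map (fun a => c * a) := by
    rw [← toL_smul]
    exact congrArg toL h
  rw [h1, canon_smul c hc]

theorem xact (r : Fin chevG2.nroots) (t : K4) (j : Fin 1365) :
    chevG2.xMat K4 r t *ᵥ u j =
      CT r.1 t j.1 • u ⟨PT r.1 t j.1, (PT_ok r.1 r.2 t j).1⟩ := by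
  funext x
  rw [mulVec_dense]
  exact chk r.1 r.2 t j x

/-- the subgroup of the general linear group permuting the 1365 lines -/
abbrev LS : Subgroup (GL chevG2.Idx K4) := lineStab u hu

theorem gen_mem (g : GL chevG2.Idx K4) (r : Fin chevG2.nroots) (t : K4)
    (hg : (g : Matrix chevG2.Idx chevG2.Idx K4) = chevG2.xMat K4 r t) : g ∈ LS := by
  intro j
  refine ⟨⟨PT r.1 t j.1, (PT_ok r.1 r.2 t j).1⟩, CT r.1 t j.1, (PT_ok r.1 r.2 t j).2, ?_⟩
  rw [hg]
  exact xact r t j

theorem group_le : chevG2.group K4 ≤ LS := by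
  unfold ChevalleyDatum.group
  rw [Subgroup.closure_le]
  rintro g ⟨r, t, hg⟩
  exact gen_mem g r t hg

/-- the action of the subgroup on the 1365 lines -/
noncomputable abbrev rhoL : LS →* Equiv.Perm (Fin 1365) := lineRep u hu

theorem rhoL_gen (g : LS) (r : Fin chevG2.nroots) (t : K4)
    (hg : (g.1 : Matrix chevG2.Idx chevG2.Idx K4) = chevG2.xMat K4 r t) (j : Fin 1365) :
    rhoL g j = ⟨PT r.1 t j.1, (PT_ok r.1 r.2 t j).1⟩ := by
  apply lineRep_eq u hu g j _ (CT r.1 t j.1) (PT_ok r.1 r.2 t j).2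
  rw [hg]
  exact xact r t j

/-- the action of the Chevalley group on the 1365 lines -/
noncomputable def rhoG : ↥(chevG2.group K4) →* Equiv.Perm (Fin 1365) :=
  rhoL.comp (Subgroup.inclusion group_le)

theorem rhoG_apply (g : ↥(chevG2.group K4)) : rhoG g = rhoL ⟨g.1, group_le g.2⟩ := rfl

end Cfsg.Agent.Lib.Helper8.G2S
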