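import Mathlib

set_option autoImplicit false

/-! The permutation representation of a subgroup on a finite injective family of points that it
permutes. -/

namespace Cfsg.Agent.Lib.Helper8.GChP

variable {Γ : Type*} [Group Γ] {X : Type*} {n : ℕ}

/-- a subgroup permuting an injective family of points -/
structure PAct (act : Γ → X → X) (G : Subgroup Γ) (pt : Fin n → X) : Prop where
  act_one : ∀ x, act 1 x = x
  act_mul : ∀ g h x, act (g * h) x = act g (act h x)
  inj : Function.Injective pt
  inv : ∀ g ∈ G, ∀ i, ∃ j, act g (pt i) = pt j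

variable {act : Γ → X → X} {G : Subgroup Γ} {pt : Fin n → X}

/-- the index of the image of a point -/
noncomputable def PAct.fn (P : PAct act G pt) (g : G) (i : Fin n) : Fin n :=
  Classical.choose (P.inv g.1 g.2 i)

theorem PAct.fn_spec (P : PAct act G pt) (g : G) (i : Fin n) :
    act g.1 (pt i) = pt (P.fn g i) :=
  Classical.choose_spec (P.inv g.1 g.2 i)

theorem PAct.fn_eq (P : PAct act G pt) (g : G) (i j : Fin n) (h : act g.1 (pt i) = pt j) :
    P.fn g i = j :=
  P.inj ((P.fn_spec g i).symm.trans h)

theorem PAct.fn_one (P : PAct act G pt) (i : Fin n) : P.fn 1 i = i := by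
  apply P.fn_eq
  show act 1 (pt i) = pt i
  exact P.act_one _

theorem PAct.fn_mul (P : PAct act G pt) (g h : G) (i : Fin n) :
    P.fn (g * h) i = P.fn g (P.fn h i) := by
  apply P.fn_eq
  show act (g.1 * h.1) (pt i) = _
  rw [P.act_mul, P.fn_spec h i, P.fn_spec g]

/-- the permutation representation -/
noncomputable def PAct.hom (P : PAct act G pt) : G →* Equiv.Perm (Fin n) where
  toFun g := ⟨P.fn g, P.fn g⁻¹, fun i => by rw [← P.fn_mul, inv_mul_cancel, P.fn_one],
    fun i => by rw [← P.fn_mul, mul_inv_cancel, P.fn_one]⟩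
  map_one' := Equiv.ext fun i => P.fn_one i
  map_mul' g h := Equiv.ext fun i => P.fn_mul g h i

theorem PAct.hom_apply (P : PAct act G pt) (g : G) (i : Fin n) : P.hom g i = P.fn g i := rfl

theorem PAct.hom_spec (P : PAct act G pt) (g : G) (i : Fin n) :
    act g.1 (pt i) = pt (P.hom g i) := P.fn_spec g i

theorem PAct.hom_eq (P : PAct act G pt) (g : G) (i j : Fin n) (h : act g.1 (pt i) = pt j) :
    P.hom g i = j := P.fn_eq g i j h

theorem PAct.mem_ker (P : PAct act G pt) (g : G) :
    g ∈ P.hom.ker ↔ ∀ i, act g.1 (pt i) = pt i := by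
  rw [MonoidHom.mem_ker]
  constructor
  · intro h i
    have := P.hom_spec g i
    rw [h] at this
    exact this
  · intro h
    exact Equiv.ext fun i => P.hom_eq g i i (h i)

end Cfsg.Agent.Lib.Helper8.GChP
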