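import Mathlib
import Cfsg.Agent.Lib.Helper1.GH5U7b
import Cfsg.Agent.Lib.Helper8.GH5Cases

set_option autoImplicit false

/-!
# GH5 (S3106), T1 part a: the one-layer context `LC` (bundled output of `exists_layer`)
-/

universe u

namespace Cfsg.Agent.Lib.Helper8.GH5T1

open Cfsg.Agent.Lib.Helper8.GH5Cases

/-- the bundled dictionary between the group level `(Y, Q, W)` and the module level
`(V, Wt, ρV, ρW, s, c)` -/
structure LC {Y : Type u} [Group Y] (Q W : Subgroup Y) [Q.Normal] {V Wt : Type u}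
    [AddCommGroup V] [AddCommGroup Wt]
    (ρV : (Y ⧸ Q) →* AddMonoid.End V) (ρW : (Y ⧸ Q) →* AddMonoid.End Wt)
    (πV : ↥Q → V) (πW : ↥W → Wt) (s : V → Wt) (c : V → V → Wt) : Prop where
  sc : SC ρV ρW s c
  πV_surj : Function.Surjective πV
  πV_mul : ∀ a b : ↥Q, πV (a * b) = πV a + πV b
  πV_ker : ∀ a : ↥Q, πV a = 0 ↔ (a : Y) ∈ W
  πW_bij : Function.Bijective πW
  πW_mul : ∀ a b : ↥W, πW (a * b) = πW a + πW b
  ρV_mk : ∀ (y : Y) (q : ↥Q) (h : y * q * y⁻¹ ∈ Q),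
    ρV (QuotientGroup.mk y) (πV q) = πV ⟨y * q * y⁻¹, h⟩
  ρW_mk : ∀ (y : Y) (w : ↥W) (h : y * w * y⁻¹ ∈ W),
    ρW (QuotientGroup.mk y) (πW w) = πW ⟨y * w * y⁻¹, h⟩
  s_mk : ∀ (q : ↥Q) (h : (q : Y) * q ∈ W), s (πV q) = πW ⟨(q : Y) * q, h⟩
  c_mk : ∀ (q q' : ↥Q) (h : (q : Y) * q' * (q : Y)⁻¹ * (q' : Y)⁻¹ ∈ W),
    c (πV q) (πV q') = πW ⟨(q : Y) * q' * (q : Y)⁻¹ * (q' : Y)⁻¹, h⟩
  card_V : Nat.card V * Nat.card ↥W = Nat.card ↥Q
  card_Wt : Nat.card Wt = Nat.card ↥W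

theorem exists_LC {Y : Type u} [Group Y] [Finite Y] (Q W : Subgroup Y) [Q.Normal] [W.Normal]
    (hWQ : W ≤ Q) (hc : ∀ w ∈ W, ∀ q ∈ Q, w * q = q * w) (hsq : ∀ q ∈ Q, q * q ∈ W)
    (hexp : ∀ w ∈ W, w * w = 1) :
    ∃ (V Wt : Type u) (_ : AddCommGroup V) (_ : AddCommGroup Wt) (_ : Finite V) (_ : Finite Wt)
      (ρV : (Y ⧸ Q) →* AddMonoid.End V) (ρW : (Y ⧸ Q) →* AddMonoid.End Wt)
      (πV : ↥Q → V) (πW : ↥W → Wt) (s : V → Wt) (c : V → V → Wt), LC Q W ρV ρW πV πW s c := by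
  obtain ⟨V, Wt, iV, iW, fV, fW, ρV, ρW, πV, πW, s, c, h1, h2, h3, h4, h5, h6, h7, h8, h9, h10,
    h11, h12, h13, h14, h15, h16, h17, h18, h19, h20⟩ :=
    Cfsg.Agent.Lib.Helper1.GH5U7.exists_layer Q W hWQ hc hsq hexp
  exact ⟨V, Wt, iV, iW, fV, fW, ρV, ρW, πV, πW, s, c,
    { sc := ⟨h1, h2, h13, h14, h15, h12, h17, h18⟩
      πV_surj := h3, πV_mul := h4, πV_ker := h5, πW_bij := h6, πW_mul := h7, ρV_mk := h8
      ρW_mk := h9, s_mk := h10, c_mk := h11, card_V := h19, card_Wt := h20 }⟩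

namespace LC

variable {Y : Type u} [Group Y] {Q W : Subgroup Y} [Q.Normal] {V Wt : Type u}
  [AddCommGroup V] [AddCommGroup Wt]
  {ρV : (Y ⧸ Q) →* AddMonoid.End V} {ρW : (Y ⧸ Q) →* AddMonoid.End Wt}
  {πV : ↥Q → V} {πW : ↥W → Wt} {s : V → Wt} {c : V → V → Wt}

theorem πV_one (L : LC Q W ρV ρW πV πW s c) : πV 1 = 0 := by
  have := L.πV_mul 1 1
  rw [mul_one] at this
  exact left_eq_add.mp this

theorem πW_one (L : LC Q W ρV ρW πV πW s c) : πW 1 = 0 := by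
  have := L.πW_mul 1 1
  rw [mul_one] at this
  exact left_eq_add.mp this

theorem πW_eq_zero (L : LC Q W ρV ρW πV πW s c) (w : ↥W) : πW w = 0 ↔ w = 1 := by
  constructor
  · intro h
    apply L.πW_bij.1
    rw [h, L.πW_one]
  · intro h
    rw [h, L.πW_one]

theorem πV_inv (L : LC Q W ρV ρW πV πW s c) (a : ↥Q) : πV a⁻¹ = πV a := by
  have h := L.πV_mul a a⁻¹
  rw [mul_inv_cancel, L.πV_one] at h
  have h2 := L.sc.V2 (πV a)
  calc πV a⁻¹ = (πV a + πV a) + πV a⁻¹ := by rw [h2, zero_add]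
    _ = πV a + (πV a + πV a⁻¹) := by abel
    _ = πV a := by rw [← h, add_zero]

/-- `πV a = πV b` iff `a b⁻¹ ∈ W` -/
theorem πV_eq_iff (L : LC Q W ρV ρW πV πW s c) (a b : ↥Q) :
    πV a = πV b ↔ (a : Y) * (b : Y)⁻¹ ∈ W := by
  have h1 : πV (a * b⁻¹) = πV a + πV b := by rw [L.πV_mul, L.πV_inv]
  have h2 : (πV (a * b⁻¹) = 0) ↔ (a : Y) * (b : Y)⁻¹ ∈ W := L.πV_ker (a * b⁻¹)
  rw [← h2, h1]
  constructor
  · intro h
    rw [h, L.sc.V2]
  · intro h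
    have h3 := L.sc.V2 (πV b)
    calc πV a = πV a + (πV b + πV b) := by rw [h3, add_zero]
      _ = (πV a + πV b) + πV b := by abel
      _ = πV b := by rw [h, zero_add]

/-- squares: `s (πV q) = 0` iff `q * q = 1` -/
theorem s_eq_zero_iff (L : LC Q W ρV ρW πV πW s c) (hsq : ∀ q ∈ Q, q * q ∈ W) (q : ↥Q) :
    s (πV q) = 0 ↔ (q : Y) * q = 1 := by
  rw [L.s_mk q (hsq q q.2), L.πW_eq_zero]
  constructor
  · intro h
    have := congrArg (fun t : ↥W => (t : Y)) h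
    simpa using this
  · intro h
    apply Subtype.ext
    simpa using h

/-- fixed vectors of `V`: `ρV (mk y) (πV q) = πV q` iff `(y q y⁻¹) q⁻¹ ∈ W` -/
theorem ρV_fixed_iff (L : LC Q W ρV ρW πV πW s c) (y : Y) (q : ↥Q) :
    ρV (QuotientGroup.mk y) (πV q) = πV q ↔ (y * q * y⁻¹) * (q : Y)⁻¹ ∈ W := by
  have h : y * q * y⁻¹ ∈ Q := Subgroup.Normal.conj_mem inferInstance _ q.2 y
  rw [L.ρV_mk y q h, L.πV_eq_iff]

/-- fixed vectors of `Wt`: `ρW (mk y) (πW w) = πW w` iff `y w y⁻¹ = w` -/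
theorem ρW_fixed_iff (L : LC Q W ρV ρW πV πW s c) [W.Normal] (y : Y) (w : ↥W) :
    ρW (QuotientGroup.mk y) (πW w) = πW w ↔ y * w * y⁻¹ = w := by
  have h : y * w * y⁻¹ ∈ W := Subgroup.Normal.conj_mem inferInstance _ w.2 y
  rw [L.ρW_mk y w h]
  constructor
  · intro h1
    have := congrArg (fun t : ↥W => (t : Y)) (L.πW_bij.1 h1)
    simpa using this
  · intro h1
    congr 1
    apply Subtype.ext
    simpa using h1

end LC

end Cfsg.Agent.Lib.Helper8.GH5T1
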