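import Mathlib
import Cfsg.Agent.Lib.Helper8.GH5T1a
import Cfsg.Agent.Lib.Helper6.GH5R
import Cfsg.Agent.Lib.Helper9.GH5M
import Cfsg.Agent.Lib.Helper3.A8Emb

set_option autoImplicit false

/-!
# GH5 (S3106), T1 part b: the wrappers `(ne)`, `(R5')`, `(N,triv)`, `(O,N)` of the one-layer
dispatcher, stated for the bundled dictionary `LC`
-/

universe u

namespace Cfsg.Agent.Lib.Helper8.GH5T1

open Cfsg.Agent.Lib.Helper8.GH5Cases Cfsg.Agent.Lib.Helper9.GH5M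

/-- if `sqSub Q ≠ ⊥` some square of `Q` is nontrivial -/
theorem exists_sq_ne_one {Y : Type*} [Group Y] (Q : Subgroup Y)
    (hW : Cfsg.Agent.Lib.Helper3.A8Emb.sqSub Q ≠ ⊥) : ∃ q ∈ Q, q * q ≠ 1 := by
  by_contra hcon
  push Not at hcon
  apply hW
  unfold Cfsg.Agent.Lib.Helper3.A8Emb.sqSub
  rw [Subgroup.closure_eq_bot_iff]
  rintro y ⟨b, hb, rfl⟩
  rw [Set.mem_singleton_iff, pow_two]
  exact hcon b hb

/-- squares of `Q` lie in `sqSub Q` -/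
theorem sq_mem_sqSub {Y : Type*} [Group Y] (Q : Subgroup Y) :
    ∀ q ∈ Q, q * q ∈ Cfsg.Agent.Lib.Helper3.A8Emb.sqSub Q := by
  intro q hq
  unfold Cfsg.Agent.Lib.Helper3.A8Emb.sqSub
  exact Subgroup.subset_closure ⟨q, hq, (pow_two q).symm⟩

variable {Y : Type u} [Group Y] {Q W : Subgroup Y} [Q.Normal] {V Wt : Type u}
  [AddCommGroup V] [AddCommGroup Wt]
  {ρV : (Y ⧸ Q) →* AddMonoid.End V} {ρW : (Y ⧸ Q) →* AddMonoid.End Wt}
  {πV : ↥Q → V} {πW : ↥W → Wt} {s : V → Wt} {c : V → V → Wt}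

/-- `(ne)`: a nontrivial square of `Q` shows that `(s, c) ≠ 0` -/
theorem LC.ne (L : LC Q W ρV ρW πV πW s c) (hsq : ∀ q ∈ Q, q * q ∈ W)
    (hex : ∃ q ∈ Q, q * q ≠ 1) : ¬ ((∀ v, s v = 0) ∧ ∀ u v, c u v = 0) := by
  rintro ⟨hs0, -⟩
  obtain ⟨q, hq, hne⟩ := hex
  exact hne ((L.s_eq_zero_iff hsq ⟨q, hq⟩).1 (hs0 _))

/-- `(R5')`: if `|W| = 16` then `s` does not vanish on nonzero vectors -/
theorem LC.s_ne_zero [Finite Y] (L : LC Q W ρV ρW πV πW s c)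
    (hr : Cfsg.SectionalPRankLE 2 4 Y) (hWQ : W ≤ Q)
    (hc : ∀ w ∈ W, ∀ q ∈ Q, w * q = q * w) (hsq : ∀ q ∈ Q, q * q ∈ W)
    (hexp : ∀ w ∈ W, w * w = 1) (hcardW : Nat.card W = 16) :
    ∀ v, v ≠ 0 → s v ≠ 0 := by
  intro v hv hsv
  obtain ⟨q, rfl⟩ := L.πV_surj v
  have hqq : (q : Y) * q = 1 := (L.s_eq_zero_iff hsq q).1 hsv
  have hqW : (q : Y) ∉ W := fun h => hv ((L.πV_ker q).2 h)
  exact Cfsg.Agent.Lib.Helper6.GH5.false_of_central_E16 hr W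
    (fun w hw w' hw' => hc w hw w' (hWQ hw')) hexp hcardW (q : Y) hqW hqq
    (fun w hw => (hc w hw q q.2).symm)

/-- `(N, triv)` wrapper -/
theorem LC.case_N_triv [Finite V] (L : LC Q W ρV ρW πV πW s c) (hN : TypeN ρV)
    (htriv : ∀ g w, ρW g w = w) (hcardV : 4 < Nat.card V) (hsq : ∀ q ∈ Q, q * q ∈ W)
    (hex : ∃ q ∈ Q, q * q ≠ 1) : False :=
  L.ne hsq hex (Cfsg.Agent.Lib.Helper8.GH5Cases.case_N_triv L.sc hcardV hN htriv)

/-- `(O, N)` wrapper -/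
theorem LC.case_O_N [Finite Y] [Finite Wt] (L : LC Q W ρV ρW πV πW s c)
    (e : Y ⧸ Q ≃* ↥(alternatingGroup (Fin 5)))
    (hr : Cfsg.SectionalPRankLE 2 4 Y) (hWQ : W ≤ Q)
    (hc : ∀ w ∈ W, ∀ q ∈ Q, w * q = q * w) (hsq : ∀ q ∈ Q, q * q ∈ W)
    (hexp : ∀ w ∈ W, w * w = 1)
    (u0 : V) (hu0 : u0 ≠ 0) (h12 : Nat.card (stab ρV u0) = 12)
    (hNW : TypeN ρW) (hcardWt : Nat.card Wt = 16) (hinjW : Function.Injective ρW) : False := by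
  have hcardW : Nat.card W = 16 := by rw [← L.card_Wt, hcardWt]
  have hs_ne := L.s_ne_zero hr hWQ hc hsq hexp hcardW
  refine Cfsg.Agent.Lib.Helper8.GH5Cases.case_O_N L.sc hs_ne u0 hu0 ?_ ?_
  · have : Nat.card {g : Y ⧸ Q // ρV g u0 = u0} = Nat.card (stab ρV u0) := rfl
    rw [this, h12]; norm_num
  · intro w hw
    have h4 := TypeN.card_stab e L.sc.W2 hNW hcardWt hinjW w hw
    have : Nat.card {g : Y ⧸ Q // ρW g w = w} = Nat.card (stab ρW w) := rfl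
    rw [this, h4]

end Cfsg.Agent.Lib.Helper8.GH5T1
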