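import Mathlib
import Cfsg.Agent.Lib.Helper8.GH5T1b
import Cfsg.Agent.Lib.Helper2.GH5Dict

set_option autoImplicit false

/-!
# GH5 (S3106), T1 part c: the wrappers `ne`, `sne`, `no_ON` in the owner's `Dict` form
-/

universe u

namespace Cfsg.Agent.Lib.Helper8.GH5T1

open Cfsg.Agent.Lib.Helper8.GH5Cases Cfsg.Agent.Lib.Helper9.GH5M Cfsg.Agent.Lib.Helper2.GH5

variable {Y : Type u} [Group Y] [Finite Y] {Q W : Subgroup Y} [hQn : Q.Normal] [hWn : W.Normal]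
  {V Wt : Type u} [AddCommGroup V] [AddCommGroup Wt] [Finite V] [Finite Wt]
  {ρV : (Y ⧸ Q) →* AddMonoid.End V} {ρW : (Y ⧸ Q) →* AddMonoid.End Wt}
  {πV : ↥Q → V} {πW : ↥W → Wt} {s : V → Wt} {c : V → V → Wt}

/-- a `Dict` is an `LC` -/
theorem lc_of_dict (d : Dict Q W ρV ρW πV πW s c) : LC Q W ρV ρW πV πW s c :=
  { sc := d.sc, πV_surj := d.πV_surj, πV_mul := d.πV_mul, πV_ker := d.πV_ker
    πW_bij := d.πW_bij, πW_mul := d.πW_mul, ρV_mk := d.ρV_mk, ρW_mk := d.ρW_mk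
    s_mk := d.s_mk, c_mk := d.c_mk, card_V := d.card_V, card_Wt := d.card_Wt }

/-- (ne) -/
theorem dict_ne (d : Dict Q W ρV ρW πV πW s c) (hsq : ∀ q ∈ Q, q * q ∈ W)
    (hex : ∃ q ∈ Q, q * q ≠ 1) : ¬ ((∀ v, s v = 0) ∧ ∀ u v, c u v = 0) :=
  (lc_of_dict d).ne hsq hex

/-- (R5') -/
theorem dict_sne (d : Dict Q W ρV ρW πV πW s c) (hr : Cfsg.SectionalPRankLE 2 4 Y)
    (hcen : ∀ w ∈ W, ∀ q ∈ Q, w * q = q * w) (hWQ : W ≤ Q) (hexp : ∀ w ∈ W, w * w = 1)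
    (hsq : ∀ q ∈ Q, q * q ∈ W) (hW16 : Nat.card W = 16) : ∀ v : V, v ≠ 0 → s v ≠ 0 :=
  (lc_of_dict d).s_ne_zero hr hWQ hcen hsq hexp hW16

/-- (ON) -/
theorem dict_no_ON (d : Dict Q W ρV ρW πV πW s c) (e : Y ⧸ Q ≃* alternatingGroup (Fin 5))
    (hcardW : Nat.card Wt = 16) (hinjW : Function.Injective ρW)
    (hsne : ∀ v : V, v ≠ 0 → s v ≠ 0)
    (u0 : V) (hu0 : u0 ≠ 0) (h12 : Nat.card (Cfsg.Agent.Lib.Helper9.GH5M.stab ρV u0) = 12)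
    (hNW : Cfsg.Agent.Lib.Helper9.GH5M.TypeN ρW) : False := by
  refine Cfsg.Agent.Lib.Helper8.GH5Cases.case_O_N d.sc hsne u0 hu0 ?_ ?_
  · have : Nat.card {g : Y ⧸ Q // ρV g u0 = u0} = Nat.card (stab ρV u0) := rfl
    rw [this, h12]; norm_num
  · intro w hw
    have h4 := TypeN.card_stab e d.W2 hNW hcardW hinjW w hw
    have : Nat.card {g : Y ⧸ Q // ρW g w = w} = Nat.card (stab ρW w) := rfl
    rw [this, h4]

end Cfsg.Agent.Lib.Helper8.GH5T1
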