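import Mathlib
import Cfsg.Agent.S0249
import Cfsg.Agent.Lib.Helper8.PComp6
import Cfsg.Agent.Lib.Helper2.Cores

set_option autoImplicit false
set_option linter.style.haveILetI false
set_option linter.unusedSectionVars false

namespace Cfsg.Agent.Lib.Helper8.GLInv

open Matrix Cfsg

variable {F : Type*} [Field F] {m : ℕ}

/-- The block embedding `B ↦ diag(1, B)`. -/
def emb (B : Matrix (Fin m) (Fin m) F) : Matrix (Fin (m + 1)) (Fin (m + 1)) F :=
  Matrix.of (fun i j => Fin.cases (Fin.cases (1 : F) (fun _ => 0) j)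
    (fun l => Fin.cases (0 : F) (fun k => B l k) j) i)

@[simp] theorem emb_zero_zero (B : Matrix (Fin m) (Fin m) F) : emb B 0 0 = 1 := rfl
@[simp] theorem emb_zero_succ (B : Matrix (Fin m) (Fin m) F) (k : Fin m) :
    emb B 0 k.succ = 0 := rfl
@[simp] theorem emb_succ_zero (B : Matrix (Fin m) (Fin m) F) (l : Fin m) :
    emb B l.succ 0 = 0 := rfl
@[simp] theorem emb_succ_succ (B : Matrix (Fin m) (Fin m) F) (l k : Fin m) :
    emb B l.succ k.succ = B l k := rfl

theorem emb_one : emb (1 : Matrix (Fin m) (Fin m) F) = 1 := by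
  ext i j
  refine Fin.cases ?_ (fun l => ?_) i <;> refine Fin.cases ?_ (fun k => ?_) j
  · simp
  · rw [emb_zero_succ, Matrix.one_apply_ne (Fin.succ_ne_zero k).symm]
  · rw [emb_succ_zero, Matrix.one_apply_ne (Fin.succ_ne_zero l)]
  · rw [emb_succ_succ, Matrix.one_apply, Matrix.one_apply]
    simp only [Fin.succ_inj]

theorem emb_mul (A B : Matrix (Fin m) (Fin m) F) : emb (A * B) = emb A * emb B := by
  ext i j
  refine Fin.cases ?_ (fun l => ?_) i <;> refine Fin.cases ?_ (fun k => ?_) j <;>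
    simp [Matrix.mul_apply, Fin.sum_univ_succ]

theorem det_of_row_zero (A : Matrix (Fin (m + 1)) (Fin (m + 1)) F)
    (h : ∀ k : Fin m, A 0 k.succ = 0) :
    A.det = A 0 0 * (A.submatrix Fin.succ Fin.succ).det := by
  rw [Matrix.det_succ_row_zero, Fin.sum_univ_succ]
  simp [h]

theorem submatrix_emb (B : Matrix (Fin m) (Fin m) F) :
    (emb B).submatrix Fin.succ Fin.succ = B := by
  ext l k
  rfl

theorem det_emb (B : Matrix (Fin m) (Fin m) F) : (emb B).det = B.det := by
  rw [det_of_row_zero _ (fun k => emb_zero_succ B k), submatrix_emb, emb_zero_zero, one_mul]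

theorem emb_injective : Function.Injective (emb (F := F) (m := m)) := by
  intro A B h
  rw [← submatrix_emb A, ← submatrix_emb B, h]

/-- the diagonal of the involution `diag(-1, 1, …, 1)`. -/
def dvec (F : Type*) [Field F] (m : ℕ) : Fin (m + 1) → F := Fin.cases (-1) (fun _ => 1)

@[simp] theorem dvec_zero : dvec F m 0 = -1 := rfl
@[simp] theorem dvec_succ (k : Fin m) : dvec F m k.succ = 1 := rfl

theorem dvec_mul_self (i : Fin (m + 1)) : dvec F m i * dvec F m i = 1 := by
  refine Fin.cases ?_ (fun l => ?_) i <;> simp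

theorem diagonal_dvec_mul_self :
    Matrix.diagonal (dvec F m) * Matrix.diagonal (dvec F m) = 1 := by
  rw [Matrix.diagonal_mul_diagonal]
  simp only [dvec_mul_self]
  exact Matrix.diagonal_one

/-- the involution `diag(-1, 1, …, 1)` of `GL`. -/
def tInv (F : Type*) [Field F] (m : ℕ) : GL (Fin (m + 1)) F :=
  ⟨Matrix.diagonal (dvec F m), Matrix.diagonal (dvec F m), diagonal_dvec_mul_self,
    diagonal_dvec_mul_self⟩

theorem tInv_coe : ((tInv F m : GL (Fin (m + 1)) F) : Matrix (Fin (m + 1)) (Fin (m + 1)) F)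
    = Matrix.diagonal (dvec F m) := rfl

theorem emb_commute (B : Matrix (Fin m) (Fin m) F) :
    emb B * Matrix.diagonal (dvec F m) = Matrix.diagonal (dvec F m) * emb B := by
  ext i j
  rw [Matrix.mul_diagonal, Matrix.diagonal_mul]
  refine Fin.cases ?_ (fun l => ?_) i <;> refine Fin.cases ?_ (fun k => ?_) j <;> simp

/-- block embedding of `SL` as a monoid hom into matrices. -/
def embHom (F : Type*) [Field F] (m : ℕ) :
    SpecialLinearGroup (Fin m) F →* Matrix (Fin (m + 1)) (Fin (m + 1)) F where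
  toFun B := emb (B : Matrix (Fin m) (Fin m) F)
  map_one' := by rw [Matrix.SpecialLinearGroup.coe_one, emb_one]
  map_mul' A B := by rw [Matrix.SpecialLinearGroup.coe_mul, emb_mul]

/-- block embedding `SL_m → GL_{m+1}`. -/
def embGL (F : Type*) [Field F] (m : ℕ) :
    SpecialLinearGroup (Fin m) F →* GL (Fin (m + 1)) F := (embHom F m).toHomUnits

theorem embGL_coe (B : SpecialLinearGroup (Fin m) F) :
    ((embGL F m B : GL (Fin (m + 1)) F) : Matrix (Fin (m + 1)) (Fin (m + 1)) F)
      = emb (B : Matrix (Fin m) (Fin m) F) := rfl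

theorem mem_centralizer_tInv_iff (g : GL (Fin (m + 1)) F) :
    g ∈ Subgroup.centralizer ({tInv F m} : Set (GL (Fin (m + 1)) F)) ↔
      ∀ i j, (g : Matrix (Fin (m + 1)) (Fin (m + 1)) F) i j * dvec F m j
        = dvec F m i * (g : Matrix (Fin (m + 1)) (Fin (m + 1)) F) i j := by
  rw [Subgroup.mem_centralizer_singleton_iff, Units.ext_iff, Units.val_mul, Units.val_mul,
    tInv_coe, ← Matrix.ext_iff]
  simp only [Matrix.mul_diagonal, Matrix.diagonal_mul]

theorem embGL_mem_centralizer (B : SpecialLinearGroup (Fin m) F) :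
    embGL F m B ∈ Subgroup.centralizer ({tInv F m} : Set (GL (Fin (m + 1)) F)) := by
  rw [Subgroup.mem_centralizer_singleton_iff, Units.ext_iff, Units.val_mul, Units.val_mul,
    tInv_coe, embGL_coe]
  exact emb_commute _

theorem eq_zero_of_two (h2 : (2 : F) ≠ 0) {x : F} (h : x = -x) : x = 0 := by
  have h' : 2 * x = 0 := by
    have : x + x = 0 := by nth_rewrite 1 [h]; exact neg_add_cancel x
    rw [two_mul]; exact this
  rcases mul_eq_zero.1 h' with h3 | h3
  · exact absurd h3 h2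
  · exact h3

theorem zero_succ_of_mem (h2 : (2 : F) ≠ 0) {g : GL (Fin (m + 1)) F}
    (hg : g ∈ Subgroup.centralizer ({tInv F m} : Set (GL (Fin (m + 1)) F))) (k : Fin m) :
    (g : Matrix (Fin (m + 1)) (Fin (m + 1)) F) 0 k.succ = 0 := by
  have h := (mem_centralizer_tInv_iff g).1 hg 0 k.succ
  rw [dvec_zero, dvec_succ, mul_one, neg_one_mul] at h
  exact eq_zero_of_two h2 h

theorem succ_zero_of_mem (h2 : (2 : F) ≠ 0) {g : GL (Fin (m + 1)) F}
    (hg : g ∈ Subgroup.centralizer ({tInv F m} : Set (GL (Fin (m + 1)) F))) (l : Fin m) :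
    (g : Matrix (Fin (m + 1)) (Fin (m + 1)) F) l.succ 0 = 0 := by
  have h := (mem_centralizer_tInv_iff g).1 hg l.succ 0
  rw [dvec_zero, dvec_succ, one_mul, mul_neg_one] at h
  exact eq_zero_of_two h2 h.symm

/-- the `(0,0)` entry as a monoid hom on `C(t)`. -/
def psi1 (h2 : (2 : F) ≠ 0) :
    ↥(Subgroup.centralizer ({tInv F m} : Set (GL (Fin (m + 1)) F))) →* F where
  toFun c := ((c : GL (Fin (m + 1)) F) : Matrix (Fin (m + 1)) (Fin (m + 1)) F) 0 0
  map_one' := by
    rw [Subgroup.coe_one, Units.val_one, Matrix.one_apply_eq]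
  map_mul' c d := by
    rw [Subgroup.coe_mul, Units.val_mul, Matrix.mul_apply, Fin.sum_univ_succ]
    have : ∑ k : Fin m, ((c : GL (Fin (m + 1)) F) : Matrix (Fin (m + 1)) (Fin (m + 1)) F) 0 k.succ
        * ((d : GL (Fin (m + 1)) F) : Matrix (Fin (m + 1)) (Fin (m + 1)) F) k.succ 0 = 0 := by
      apply Finset.sum_eq_zero
      intro k _
      rw [zero_succ_of_mem h2 c.2 k, zero_mul]
    rw [this, add_zero]

/-- the determinant as a monoid hom on `C(t)`. -/
def psi2 (F : Type*) [Field F] (m : ℕ) :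
    ↥(Subgroup.centralizer ({tInv F m} : Set (GL (Fin (m + 1)) F))) →* F where
  toFun c := (((c : GL (Fin (m + 1)) F) : Matrix (Fin (m + 1)) (Fin (m + 1)) F)).det
  map_one' := by
    rw [Subgroup.coe_one, Units.val_one, Matrix.det_one]
  map_mul' c d := by
    rw [Subgroup.coe_mul, Units.val_mul, Matrix.det_mul]

/-- The normal subgroup `K ≅ SL_m` of `C(t)`. -/
def K (h2 : (2 : F) ≠ 0) :
    Subgroup ↥(Subgroup.centralizer ({tInv F m} : Set (GL (Fin (m + 1)) F))) :=
  ((psi1 (m := m) h2).prod (psi2 F m)).ker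

instance K_normal (h2 : (2 : F) ≠ 0) : (K (m := m) h2).Normal := by
  unfold K
  infer_instance

theorem mem_K_iff (h2 : (2 : F) ≠ 0)
    (c : ↥(Subgroup.centralizer ({tInv F m} : Set (GL (Fin (m + 1)) F)))) :
    c ∈ K h2 ↔ ((c : GL (Fin (m + 1)) F) : Matrix (Fin (m + 1)) (Fin (m + 1)) F) 0 0 = 1 ∧
      (((c : GL (Fin (m + 1)) F) : Matrix (Fin (m + 1)) (Fin (m + 1)) F)).det = 1 := by
  unfold K
  rw [MonoidHom.mem_ker, MonoidHom.prod_apply, Prod.mk_eq_one]
  rfl

/-- the block embedding as a hom `SL_m → K`. -/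
def theta (h2 : (2 : F) ≠ 0) : SpecialLinearGroup (Fin m) F →* ↥(K (m := m) h2) :=
  ((embGL F m).codRestrict _ embGL_mem_centralizer).codRestrict (K h2) (by
    intro B
    rw [mem_K_iff]
    refine ⟨?_, ?_⟩
    · show ((embGL F m B : GL (Fin (m + 1)) F) : Matrix (Fin (m + 1)) (Fin (m + 1)) F) 0 0 = 1
      rw [embGL_coe, emb_zero_zero]
    · show (((embGL F m B : GL (Fin (m + 1)) F) : Matrix (Fin (m + 1)) (Fin (m + 1)) F)).det = 1
      rw [embGL_coe, det_emb]
      exact B.2)

theorem theta_coe (h2 : (2 : F) ≠ 0) (B : SpecialLinearGroup (Fin m) F) :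
    ((((theta h2 B : ↥(K (m := m) h2)) :
      ↥(Subgroup.centralizer ({tInv F m} : Set (GL (Fin (m + 1)) F)))) : GL (Fin (m + 1)) F) :
        Matrix (Fin (m + 1)) (Fin (m + 1)) F) = emb (B : Matrix (Fin m) (Fin m) F) := rfl

theorem theta_injective (h2 : (2 : F) ≠ 0) : Function.Injective (theta (m := m) h2) := by
  intro A B h
  have h1 := congrArg (fun x : ↥(K (m := m) h2) => ((((x : ↥(K (m := m) h2)) :
      ↥(Subgroup.centralizer ({tInv F m} : Set (GL (Fin (m + 1)) F)))) : GL (Fin (m + 1)) F) :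
        Matrix (Fin (m + 1)) (Fin (m + 1)) F)) h
  simp only [theta_coe] at h1
  exact Subtype.ext (emb_injective h1)

theorem theta_surjective (h2 : (2 : F) ≠ 0) : Function.Surjective (theta (m := m) h2) := by
  intro k
  have hk := (mem_K_iff h2 k.1).1 k.2
  have h0 : ∀ j : Fin m, ((k.1 : GL (Fin (m + 1)) F) :
      Matrix (Fin (m + 1)) (Fin (m + 1)) F) 0 j.succ = 0 :=
    fun j => zero_succ_of_mem h2 k.1.2 j
  have h0' : ∀ l : Fin m, ((k.1 : GL (Fin (m + 1)) F) :
      Matrix (Fin (m + 1)) (Fin (m + 1)) F) l.succ 0 = 0 :=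
    fun l => succ_zero_of_mem h2 k.1.2 l
  have hdet : (((k.1 : GL (Fin (m + 1)) F) :
      Matrix (Fin (m + 1)) (Fin (m + 1)) F).submatrix Fin.succ Fin.succ).det = 1 := by
    have := det_of_row_zero _ h0
    rw [hk.1, hk.2, one_mul] at this
    exact this.symm
  refine ⟨(⟨_, hdet⟩ : SpecialLinearGroup (Fin m) F), ?_⟩
  apply Subtype.ext
  apply Subtype.ext
  apply Units.ext
  refine (theta_coe h2 _).trans ?_
  ext i j
  refine Fin.cases ?_ (fun l => ?_) i <;> refine Fin.cases ?_ (fun j' => ?_) j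
  · rw [emb_zero_zero, hk.1]
  · rw [emb_zero_succ, h0]
  · rw [emb_succ_zero, h0']
  · rw [emb_succ_succ]
    rfl

theorem K_isQuasisimple (h2 : (2 : F) ≠ 0)
    (hQ : IsQuasisimple (SpecialLinearGroup (Fin m) F)) : IsQuasisimple ↥(K (m := m) h2) := by
  refine Cfsg.Agent.Lib.Helper8.PComp.isQuasisimple_of_surjective hQ (theta h2)
    (theta_surjective h2) ?_
  rw [(MonoidHom.ker_eq_bot_iff _).2 (theta_injective h2)]
  exact bot_le

/-- an involution of `SL_m`, `m ≥ 2`, in odd characteristic. -/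
theorem exists_orderOf_eq_two (h2 : (2 : F) ≠ 0) (hm : 2 ≤ m) :
    ∃ s : SpecialLinearGroup (Fin m) F, orderOf s = 2 := by
  have hij : (⟨0, by omega⟩ : Fin m) ≠ ⟨1, by omega⟩ := by
    intro h
    have := congrArg Fin.val h
    simp at this
  have hne : (-1 : F) ≠ 0 := neg_ne_zero.2 one_ne_zero
  have h11 : (1 : F) ≠ -1 := by
    intro h
    exact one_ne_zero (eq_zero_of_two h2 h)
  refine ⟨Matrix.SpecialLinearGroup.diag2n hij (-1) hne, ?_⟩
  haveI : Fact (Nat.Prime 2) := ⟨Nat.prime_two⟩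
  apply orderOf_eq_prime
  · apply Subtype.ext
    rw [pow_two, Matrix.SpecialLinearGroup.coe_mul, Matrix.SpecialLinearGroup.coe_one,
      Matrix.SpecialLinearGroup.diag2n_coe, Matrix.diagonal_mul_diagonal]
    rw [← Matrix.diagonal_one]
    congr 1
    funext k
    split_ifs <;> simp
  · intro h
    have h1 := congrArg (fun x : SpecialLinearGroup (Fin m) F =>
      (x : Matrix (Fin m) (Fin m) F) ⟨0, by omega⟩ ⟨0, by omega⟩) h
    simp only [Matrix.SpecialLinearGroup.diag2n_coe, Matrix.SpecialLinearGroup.coe_one,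
      Matrix.diagonal_apply_eq, Matrix.one_apply_eq, if_true] at h1
    exact h11 h1.symm

theorem orderOf_tInv (h2 : (2 : F) ≠ 0) : orderOf (tInv F m) = 2 := by
  haveI : Fact (Nat.Prime 2) := ⟨Nat.prime_two⟩
  apply orderOf_eq_prime
  · apply Units.ext
    rw [pow_two, Units.val_mul, tInv_coe, Units.val_one]
    exact diagonal_dvec_mul_self
  · intro h
    have h1 := congrArg (fun x : GL (Fin (m + 1)) F =>
      (x : Matrix (Fin (m + 1)) (Fin (m + 1)) F) 0 0) h
    simp only [tInv_coe, Units.val_one, Matrix.diagonal_apply_eq, Matrix.one_apply_eq,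
      dvec_zero] at h1
    exact one_ne_zero (eq_zero_of_two h2 h1.symm)

theorem tInv_not_mem_center (h2 : (2 : F) ≠ 0) (hm : 1 ≤ m) :
    tInv F m ∉ Subgroup.center (GL (Fin (m + 1)) F) := by
  intro hc
  have hne : (0 : Fin (m + 1)) ≠ (⟨0, by omega⟩ : Fin m).succ := (Fin.succ_ne_zero _).symm
  let g : GL (Fin (m + 1)) F :=
    ⟨Matrix.transvection 0 (⟨0, by omega⟩ : Fin m).succ 1,
      Matrix.transvection 0 (⟨0, by omega⟩ : Fin m).succ (-1),
      by rw [Matrix.transvection_mul_transvection_same _ _ hne, add_neg_cancel,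
        Matrix.transvection_zero],
      by rw [Matrix.transvection_mul_transvection_same _ _ hne, neg_add_cancel,
        Matrix.transvection_zero]⟩
  have hg : g ∈ Subgroup.centralizer ({tInv F m} : Set (GL (Fin (m + 1)) F)) := by
    rw [Subgroup.mem_centralizer_singleton_iff]
    exact Subgroup.mem_center_iff.1 hc g
  have h0 := zero_succ_of_mem h2 hg ⟨0, by omega⟩
  have h1 : (g : Matrix (Fin (m + 1)) (Fin (m + 1)) F) 0 (⟨0, by omega⟩ : Fin m).succ = 1 := by
    show (Matrix.transvection 0 (⟨0, by omega⟩ : Fin m).succ (1 : F)) 0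
      (⟨0, by omega⟩ : Fin m).succ = 1
    rw [Matrix.transvection, Matrix.add_apply, Matrix.one_apply_ne hne,
      Matrix.single_apply_same, zero_add]
  rw [h1] at h0
  exact one_ne_zero h0

theorem hasComponent [Finite F] (h2 : (2 : F) ≠ 0) (hm : 2 ≤ m)
    (hQ : IsQuasisimple (SpecialLinearGroup (Fin m) F)) :
    HasComponent (↥(Subgroup.centralizer ({tInv F m} : Set (GL (Fin (m + 1)) F))) ⧸
      oddCore ↥(Subgroup.centralizer ({tInv F m} : Set (GL (Fin (m + 1)) F)))) := by
  have hKc : IsComponent (K (m := m) h2) :=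
    ⟨Subgroup.Normal.isSubnormal inferInstance, K_isQuasisimple h2 hQ⟩
  rcases Cfsg.Agent.Lib.Helper8.PComp.isComponent_map_or_eq_bot
    (QuotientGroup.mk' (oddCore ↥(Subgroup.centralizer ({tInv F m} : Set (GL (Fin (m + 1)) F)))))
    (QuotientGroup.mk'_surjective _) hKc with h | h
  · exfalso
    have hle : K (m := m) h2 ≤
        oddCore ↥(Subgroup.centralizer ({tInv F m} : Set (GL (Fin (m + 1)) F))) := by
      have := (Subgroup.map_eq_bot_iff _).1 h
      rwa [QuotientGroup.ker_mk'] at this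
    obtain ⟨s, hs⟩ := exists_orderOf_eq_two h2 hm
    have h3 : orderOf (theta h2 s) = 2 := by
      rw [orderOf_injective (theta h2) (theta_injective h2), hs]
    have h4 : orderOf ((theta h2 s : ↥(K (m := m) h2)) :
        ↥(Subgroup.centralizer ({tInv F m} : Set (GL (Fin (m + 1)) F)))) = 2 := by
      rw [Subgroup.orderOf_coe, h3]
    have hmem := hle (theta h2 s).2
    have h5 : orderOf (⟨_, hmem⟩ :
        ↥(oddCore ↥(Subgroup.centralizer ({tInv F m} : Set (GL (Fin (m + 1)) F))))) = 2 := by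
      rw [Subgroup.orderOf_mk, h4]
    have h6 : 2 ∣ Nat.card
        ↥(oddCore ↥(Subgroup.centralizer ({tInv F m} : Set (GL (Fin (m + 1)) F)))) := by
      rw [← h5]
      exact orderOf_dvd_natCard _
    have h7 := Cfsg.Agent.Lib.Helper2.pPrimeCore_card_coprime
      (G := ↥(Subgroup.centralizer ({tInv F m} : Set (GL (Fin (m + 1)) F)))) 2
    have := Nat.Coprime.eq_one_of_dvd h7.symm h6
    omega
  · exact ⟨_, h⟩

end Cfsg.Agent.Lib.Helper8.GLInv
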