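import Mathlib
import Cfsg.Prelude.Def_PLocal
import Cfsg.Agent.Lib.Helper1.GlaubermanRepl7

/-! Gillam's theorem: a metabelian `p`-group has a normal abelian subgroup of largest order inside
the normal closure of any abelian subgroup of largest order. -/
set_option autoImplicit false
open scoped commutatorElement Pointwise
open Cfsg.Agent.Lib.Helper1.GlaubermanRepl

namespace Helper8.Gillam

universe u
variable {S : Type u} [Group S]

theorem conjA_comm' {A : Subgroup S} (hA : ∀ a ∈ A, ∀ b ∈ A, a * b = b * a) (x : S) :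
    ∀ a ∈ conjA A x, ∀ b ∈ conjA A x, a * b = b * a := by
  intro a ha b hb
  rw [mem_conjA] at ha hb
  have := hA _ ha _ hb
  have e1 : x * a * x⁻¹ * (x * b * x⁻¹) = x * (a * b) * x⁻¹ := by group
  have e2 : x * b * x⁻¹ * (x * a * x⁻¹) = x * (b * a) * x⁻¹ := by group
  rw [e1, e2] at this
  exact mul_left_cancel (mul_right_cancel this)

theorem conjA_le_normalizer' {A : Subgroup S} {x : S}
    (hxN : x ∈ Subgroup.normalizer ((Subgroup.normalizer (A : Set S) : Subgroup S) : Set S)) :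
    conjA A x ≤ Subgroup.normalizer (A : Set S) := by
  intro y hy
  rw [mem_conjA] at hy
  have h1 : x * y * x⁻¹ ∈ Subgroup.normalizer (A : Set S) := Subgroup.le_normalizer hy
  have hx' := Subgroup.inv_mem _ hxN
  have h2 := (Subgroup.mem_normalizer_iff.1 hx' _).1 h1
  have e : x⁻¹ * (x * y * x⁻¹) * x⁻¹⁻¹ = y := by group
  rwa [e] at h2

theorem le_normalizer_conjA' {A : Subgroup S} {x : S}
    (hxN : x ∈ Subgroup.normalizer ((Subgroup.normalizer (A : Set S) : Subgroup S) : Set S)) :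
    A ≤ Subgroup.normalizer (conjA A x : Set S) := by
  have key : ∀ a ∈ A, ∀ y ∈ conjA A x, a * y * a⁻¹ ∈ conjA A x := by
    intro a ha y hy
    rw [mem_conjA] at hy ⊢
    have h1 : a ∈ Subgroup.normalizer (A : Set S) := Subgroup.le_normalizer ha
    have h2 := (Subgroup.mem_normalizer_iff.1 hxN _).1 h1
    have h3 := (Subgroup.mem_normalizer_iff.1 h2 _).1 hy
    have e : x * a * x⁻¹ * (x * y * x⁻¹) * (x * a * x⁻¹)⁻¹ = x * (a * y * a⁻¹) * x⁻¹ := by group
    rwa [e] at h3
  intro a ha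
  rw [Subgroup.mem_normalizer_iff]
  intro y
  constructor
  · exact key a ha y
  · intro h
    have := key a⁻¹ (A.inv_mem ha) _ h
    have e : a⁻¹ * (a * y * a⁻¹) * a⁻¹⁻¹ = y := by group
    rwa [e] at this

theorem card_conjA' [Finite S] (A : Subgroup S) (x : S) : Nat.card (conjA A x) = Nat.card A := by
  unfold conjA
  exact Subgroup.card_map_of_injective (MulAut.conj x⁻¹).injective

theorem commAb_le_commutator (A : Subgroup S) (x : S) : commAb A x ≤ commutator S := by
  unfold commAb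
  rw [Subgroup.closure_le]
  rintro _ ⟨a, _, rfl⟩
  have : a * x⁻¹ * a⁻¹ * x = ⁅a, x⁻¹⁆ := by rw [commutatorElement_def]; group
  rw [this, commutator_def]
  exact Subgroup.commutator_mem_commutator (Subgroup.mem_top _) (Subgroup.mem_top _)

theorem commAb_le_sup (A : Subgroup S) (x : S) : commAb A x ≤ A ⊔ conjA A x := by
  unfold commAb
  rw [Subgroup.closure_le]
  rintro _ ⟨a, ha, rfl⟩
  have e : a * x⁻¹ * a⁻¹ * x = a * (x⁻¹ * a⁻¹ * x) := by group
  rw [e]
  exact Subgroup.mul_mem _ (Subgroup.mem_sup_left ha)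
    (Subgroup.mem_sup_right (conj_mem_conjA (A.inv_mem ha)))

theorem le_commAb_sup_conjA (A : Subgroup S) (x : S) : A ≤ commAb A x ⊔ conjA A x := by
  intro a ha
  have e : a = (a * x⁻¹ * a⁻¹ * x) * (x⁻¹ * a * x) := by group
  rw [e]
  exact Subgroup.mul_mem _ (Subgroup.mem_sup_left (Subgroup.subset_closure ⟨a, ha, rfl⟩))
    (Subgroup.mem_sup_right (conj_mem_conjA ha))

/-- abelian-ness of a join of two commuting abelian subgroups -/
theorem comm_sup {X Y : Subgroup S} (hX : ∀ a ∈ X, ∀ b ∈ X, a * b = b * a)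
    (hY : ∀ a ∈ Y, ∀ b ∈ Y, a * b = b * a) (hXY : ∀ a ∈ X, ∀ b ∈ Y, a * b = b * a) :
    ∀ a ∈ X ⊔ Y, ∀ b ∈ X ⊔ Y, a * b = b * a := by
  have hcl : X ⊔ Y = Subgroup.closure ((X : Set S) ∪ Y) := by
    rw [Subgroup.closure_union, Subgroup.closure_eq, Subgroup.closure_eq]
  have : IsMulCommutative (Subgroup.closure ((X : Set S) ∪ Y)) := by
    apply Subgroup.isMulCommutative_closure
    rintro a (ha | ha) b (hb | hb)
    · exact hX a ha b hb
    · exact hXY a ha b hb
    · exact (hXY b hb a ha).symm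
    · exact hY a ha b hb
  rw [hcl]
  intro a ha b hb
  exact congrArg Subtype.val (mul_comm' (⟨a, ha⟩ : Subgroup.closure ((X : Set S) ∪ Y)) ⟨b, hb⟩)

theorem card_sup_mul_of_comm [Finite S] {X Y : Subgroup S} (hXY : ∀ a ∈ X, ∀ b ∈ Y, a * b = b * a) :
    Nat.card (X ⊔ Y : Subgroup S) * Nat.card (X ⊓ Y : Subgroup S) = Nat.card X * Nat.card Y := by
  apply card_sup_mul_card_inf_of_le_normalizer
  intro a ha
  rw [Subgroup.mem_normalizer_iff]
  intro y
  constructor
  · intro hy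
    have := hXY a ha y hy
    have e : a * y * a⁻¹ = y := by rw [this]; group
    rwa [e]
  · intro hy
    have := hXY a⁻¹ (X.inv_mem ha) _ hy
    have e : y = a⁻¹ * (a * y * a⁻¹) * a := by group
    rw [e, this]
    have e2 : a * y * a⁻¹ * a⁻¹ * a = a * y * a⁻¹ := by group
    rwa [e2]

/-- the core of Gillam's argument -/
theorem key [Finite S]
    (hmeta : ∀ u ∈ commutator S, ∀ v ∈ commutator S, u * v = v * u)
    (A : Subgroup S) (hA : A ∈ Cfsg.maxAbelianSubgroups S) (x : S)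
    (hxN : x ∈ Subgroup.normalizer ((Subgroup.normalizer (A : Set S) : Subgroup S) : Set S))
    (hmax : ∀ C ∈ Cfsg.maxAbelianSubgroups S, C ≤ A ⊔ conjA A x →
      Nat.card (C ⊓ commutator S : Subgroup S) ≤ Nat.card (A ⊓ commutator S : Subgroup S)) :
    A = (A ⊓ commutator S) ⊔ (A ⊓ conjA A x) := by
  have hAc : ∀ a ∈ A, ∀ b ∈ A, a * b = b * a := fun a ha b hb =>
    congrArg Subtype.val (@mul_comm' _ _ hA.1 (⟨a, ha⟩ : A) ⟨b, hb⟩)
  have hBc := conjA_comm' hAc x
  have hBN := conjA_le_normalizer' hxN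
  have hAB := le_normalizer_conjA' hxN
  obtain ⟨hcent, -⟩ := comm_mem_inf_of_mutually_normalizing A (conjA A x) hAc hBc hAB hBN
  have hTS := commAb_le_commutator A x
  have hTH := commAb_le_sup A x
  -- C abelian
  have hIc : ∀ a ∈ A ⊓ conjA A x, ∀ b ∈ A ⊓ conjA A x, a * b = b * a := fun a ha b hb =>
    hAc a (Subgroup.mem_inf.1 ha).1 b (Subgroup.mem_inf.1 hb).1
  have hTc : ∀ a ∈ commAb A x, ∀ b ∈ commAb A x, a * b = b * a := fun a ha b hb =>
    hmeta a (hTS ha) b (hTS hb)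
  have hITc : ∀ a ∈ A ⊓ conjA A x, ∀ b ∈ commAb A x, a * b = b * a := fun a ha b hb =>
    hcent a ha b (hTH hb)
  have hCc := comm_sup hIc hTc hITc
  have hCab : IsMulCommutative ((A ⊓ conjA A x) ⊔ commAb A x : Subgroup S) :=
    ⟨⟨fun a b => Subtype.ext (hCc a a.2 b b.2)⟩⟩
  have hCH : (A ⊓ conjA A x) ⊔ commAb A x ≤ A ⊔ conjA A x :=
    sup_le (inf_le_left.trans le_sup_left) hTH
  -- card C ≥ card A
  have hcardB := card_conjA' A x
  have h1 := card_sup_mul_card_inf_of_le_normalizer ((A ⊓ conjA A x) ⊔ commAb A x) (conjA A x)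
    (hCH.trans (sup_le hAB Subgroup.le_normalizer))
  have h2 := card_sup_mul_card_inf_of_le_normalizer A (conjA A x) hAB
  have h3 : A ⊔ conjA A x ≤ ((A ⊓ conjA A x) ⊔ commAb A x) ⊔ conjA A x := by
    apply sup_le _ le_sup_right
    refine (le_commAb_sup_conjA A x).trans (sup_le_sup_right le_sup_right _)
  have h4 : A ⊓ conjA A x ≤ ((A ⊓ conjA A x) ⊔ commAb A x) ⊓ conjA A x :=
    le_inf le_sup_left inf_le_right
  have h5 := Subgroup.card_le_of_le h3
  have h6 := Subgroup.card_le_of_le h4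
  have hBpos : 0 < Nat.card (conjA A x) := Nat.card_pos
  have hcardC : Nat.card A ≤ Nat.card ((A ⊓ conjA A x) ⊔ commAb A x : Subgroup S) := by
    have h7 : Nat.card A * Nat.card (conjA A x) ≤
        Nat.card ((A ⊓ conjA A x) ⊔ commAb A x : Subgroup S) * Nat.card (conjA A x) := by
      rw [← h1, ← h2]
      exact Nat.mul_le_mul h5 h6
    exact Nat.le_of_mul_le_mul_right h7 hBpos
  have hCmem : (A ⊓ conjA A x) ⊔ commAb A x ∈ Cfsg.maxAbelianSubgroups S :=
    ⟨hCab, fun E hE => (hA.2 E hE).trans hcardC⟩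
  have hcardC' : Nat.card ((A ⊓ conjA A x) ⊔ commAb A x : Subgroup S) = Nat.card A :=
    le_antisymm (hA.2 _ hCab) hcardC
  have h8 := hmax _ hCmem hCH
  -- counting
  have c1 := card_sup_mul_of_comm (X := commAb A x) (Y := (A ⊓ conjA A x) ⊓ commutator S)
    (fun a ha b hb => (hITc b (Subgroup.mem_inf.1 hb).1 a ha).symm)
  have c2 := card_sup_mul_of_comm (X := commAb A x) (Y := A ⊓ conjA A x)
    (fun a ha b hb => (hITc b hb a ha).symm)
  have c3 := card_sup_mul_of_comm (X := A ⊓ commutator S) (Y := A ⊓ conjA A x)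
    (fun a ha b hb => hAc a (Subgroup.mem_inf.1 ha).1 b (Subgroup.mem_inf.1 hb).1)
  have e1 : commAb A x ⊓ ((A ⊓ conjA A x) ⊓ commutator S) = commAb A x ⊓ (A ⊓ conjA A x) := by
    apply le_antisymm
    · exact inf_le_inf_left _ inf_le_left
    · exact le_inf inf_le_left (le_inf inf_le_right (inf_le_left.trans hTS))
  have e2 : commAb A x ⊔ (A ⊓ conjA A x) = (A ⊓ conjA A x) ⊔ commAb A x := sup_comm _ _
  have e3 : (A ⊓ commutator S) ⊓ (A ⊓ conjA A x) = (A ⊓ conjA A x) ⊓ commutator S := by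
    apply le_antisymm
    · exact le_inf inf_le_right (inf_le_left.trans inf_le_right)
    · exact le_inf (le_inf (inf_le_left.trans inf_le_left) inf_le_right) inf_le_left
  rw [e1] at c1
  rw [e2, hcardC'] at c2
  rw [e3] at c3
  have h9 : commAb A x ⊔ ((A ⊓ conjA A x) ⊓ commutator S) ≤
      ((A ⊓ conjA A x) ⊔ commAb A x) ⊓ commutator S :=
    sup_le (le_inf le_sup_right hTS) (inf_le_inf_right _ le_sup_left)
  have h10 := (Subgroup.card_le_of_le h9).trans h8
  have h11 : (A ⊓ commutator S) ⊔ (A ⊓ conjA A x) ≤ A := sup_le inf_le_left inf_le_left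
  have kpos : 0 < Nat.card (commAb A x ⊓ (A ⊓ conjA A x) : Subgroup S) := Nat.card_pos
  have ipos : 0 < Nat.card ((A ⊓ conjA A x) ⊓ commutator S : Subgroup S) := Nat.card_pos
  have h12 : Nat.card A ≤ Nat.card ((A ⊓ commutator S) ⊔ (A ⊓ conjA A x) : Subgroup S) := by
    set a := Nat.card A
    set n := Nat.card ((A ⊓ commutator S) ⊔ (A ⊓ conjA A x) : Subgroup S)
    set k := Nat.card (commAb A x ⊓ (A ⊓ conjA A x) : Subgroup S)
    set i' := Nat.card ((A ⊓ conjA A x) ⊓ commutator S : Subgroup S)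
    set i := Nat.card (A ⊓ conjA A x : Subgroup S)
    set t := Nat.card (commAb A x)
    set d := Nat.card (A ⊓ commutator S : Subgroup S)
    set m := Nat.card (commAb A x ⊔ ((A ⊓ conjA A x) ⊓ commutator S) : Subgroup S)
    have h13 : a * (k * i') ≤ n * (k * i') := by
      calc a * (k * i') = (a * k) * i' := by ring
        _ = (t * i) * i' := by rw [c2]
        _ = (t * i') * i := by ring
        _ = (m * k) * i := by rw [c1]
        _ ≤ (d * k) * i := by gcongr
        _ = (d * i) * k := by ring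
        _ = (n * i') * k := by rw [c3]
        _ = n * (k * i') := by ring
    exact Nat.le_of_mul_le_mul_right h13 (Nat.mul_pos kpos ipos)
  exact (Subgroup.eq_of_le_of_card_ge h11 h12).symm

end Helper8.Gillam

namespace Helper8.Gillam

universe u
variable {S : Type u} [Group S]

theorem conjA_conjA_inv (A : Subgroup S) (x : S) : conjA (conjA A x⁻¹) x = A := by
  ext y
  rw [mem_conjA, mem_conjA]
  have e : x⁻¹ * (x * y * x⁻¹) * x⁻¹⁻¹ = y := by group
  rw [e]

theorem conjA_mono {A B : Subgroup S} (h : A ≤ B) (x : S) : conjA A x ≤ conjA B x := by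
  intro y hy
  rw [mem_conjA] at hy ⊢
  exact h hy

theorem conjA_le_of_normal {A N : Subgroup S} [hN : N.Normal] (h : A ≤ N) (x : S) :
    conjA A x ≤ N := by
  intro y hy
  rw [mem_conjA] at hy
  have := hN.conj_mem _ (h hy) x⁻¹
  have e : x⁻¹ * (x * y * x⁻¹) * x⁻¹⁻¹ = y := by group
  rwa [e] at this

theorem conjA_sup (A B : Subgroup S) (x : S) : conjA (A ⊔ B) x = conjA A x ⊔ conjA B x := by
  unfold conjA
  exact Subgroup.map_sup _ _ _

theorem main [Finite S] {p : ℕ} [hp : Fact p.Prime] (hS : IsPGroup p S)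
    (hmeta : IsMulCommutative ↥(commutator S))
    (A₀ : Subgroup S) (hA₀ : A₀ ∈ Cfsg.maxAbelianSubgroups S) :
    ∃ B ∈ Cfsg.maxAbelianSubgroups S, B.Normal ∧ B ≤ Subgroup.normalClosure (A₀ : Set S) := by
  haveI : Group.IsNilpotent S := hS.isNilpotent
  have hmeta' : ∀ u ∈ commutator S, ∀ v ∈ commutator S, u * v = v * u := fun u hu v hv =>
    congrArg Subtype.val (mul_comm' (⟨u, hu⟩ : commutator S) ⟨v, hv⟩)
  set N := Subgroup.normalClosure (A₀ : Set S) with hN
  haveI hNn : N.Normal := Subgroup.normalClosure_normal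
  have hne : {A : Subgroup S | A ∈ Cfsg.maxAbelianSubgroups S ∧ A ≤ N}.Nonempty :=
    ⟨A₀, hA₀, Subgroup.le_normalClosure⟩
  obtain ⟨A, ⟨hA, hAN⟩, hmaxA⟩ := Set.exists_max_image _
    (fun A : Subgroup S => Nat.card (A ⊓ commutator S : Subgroup S)) (Set.toFinite _) hne
  refine ⟨A, hA, ?_, hAN⟩
  by_contra hnot
  have hAc : ∀ a ∈ A, ∀ b ∈ A, a * b = b * a := fun a ha b hb =>
    congrArg Subtype.val (@mul_comm' _ _ hA.1 (⟨a, ha⟩ : A) ⟨b, hb⟩)
  have hlt : Subgroup.normalizer (A : Set S) < ⊤ := by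
    rw [lt_top_iff_ne_top]
    intro h
    exact hnot (Subgroup.normalizer_eq_top_iff.1 h)
  have hnc := Group.normalizerCondition_of_isNilpotent (G := S) _ hlt
  obtain ⟨x, hxN, hxA⟩ := SetLike.exists_of_lt hnc
  have hxN' : x⁻¹ ∈ Subgroup.normalizer ((Subgroup.normalizer (A : Set S) : Subgroup S) : Set S) :=
    Subgroup.inv_mem _ hxN
  have k1 := key hmeta' A hA x hxN (fun C hC hCle =>
    hmaxA C ⟨hC, hCle.trans (sup_le hAN (conjA_le_of_normal hAN x))⟩)
  have k2 := key hmeta' A hA x⁻¹ hxN' (fun C hC hCle =>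
    hmaxA C ⟨hC, hCle.trans (sup_le hAN (conjA_le_of_normal hAN x⁻¹))⟩)
  -- decomposition of B
  have hB : conjA A x ≤ conjA (A ⊓ commutator S) x ⊔ (A ⊓ conjA A x) := by
    have h1 : conjA A x = conjA ((A ⊓ commutator S) ⊔ (A ⊓ conjA A x⁻¹)) x := by rw [← k2]
    have h2 : conjA (A ⊓ conjA A x⁻¹) x ≤ A ⊓ conjA A x := by
      apply le_inf
      · calc conjA (A ⊓ conjA A x⁻¹) x ≤ conjA (conjA A x⁻¹) x := conjA_mono inf_le_right x
          _ = A := conjA_conjA_inv A x
      · exact conjA_mono inf_le_left x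
    calc conjA A x = conjA ((A ⊓ commutator S) ⊔ (A ⊓ conjA A x⁻¹)) x := h1
      _ = conjA (A ⊓ commutator S) x ⊔ conjA (A ⊓ conjA A x⁻¹) x := conjA_sup _ _ _
      _ ≤ conjA (A ⊓ commutator S) x ⊔ (A ⊓ conjA A x) := sup_le_sup_left h2 _
  have hD'S : conjA (A ⊓ commutator S) x ≤ commutator S :=
    conjA_le_of_normal inf_le_right x
  have hD'B : conjA (A ⊓ commutator S) x ≤ conjA A x := conjA_mono inf_le_left x
  have hBc := conjA_comm' hAc x
  -- E := D ⊔ I ⊔ D' is abelian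
  have hE1 : ∀ a ∈ (A ⊓ commutator S) ⊔ (A ⊓ conjA A x),
      ∀ b ∈ (A ⊓ commutator S) ⊔ (A ⊓ conjA A x), a * b = b * a := by
    rw [← k1]; exact hAc
  have hE2 : ∀ a ∈ (A ⊓ commutator S) ⊔ (A ⊓ conjA A x),
      ∀ b ∈ conjA (A ⊓ commutator S) x, a * b = b * a := by
    intro a ha b hb
    have hle : (A ⊓ commutator S) ⊔ (A ⊓ conjA A x) ≤ Subgroup.centralizer {b} := by
      apply sup_le
      · intro d hd
        rw [Subgroup.mem_centralizer_singleton_iff]
        exact hmeta' d (Subgroup.mem_inf.1 hd).2 b (hD'S hb)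
      · intro d hd
        rw [Subgroup.mem_centralizer_singleton_iff]
        exact hBc d (Subgroup.mem_inf.1 hd).2 b (hD'B hb)
    have := hle ha
    rw [Subgroup.mem_centralizer_singleton_iff] at this
    exact this
  have hE3 : ∀ a ∈ conjA (A ⊓ commutator S) x, ∀ b ∈ conjA (A ⊓ commutator S) x,
      a * b = b * a := fun a ha b hb => hBc a (hD'B ha) b (hD'B hb)
  have hEc := comm_sup hE1 hE3 hE2
  have hEab : IsMulCommutative (((A ⊓ commutator S) ⊔ (A ⊓ conjA A x)) ⊔
      conjA (A ⊓ commutator S) x : Subgroup S) :=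
    ⟨⟨fun a b => Subtype.ext (hEc a a.2 b b.2)⟩⟩
  have hAE : A ≤ ((A ⊓ commutator S) ⊔ (A ⊓ conjA A x)) ⊔ conjA (A ⊓ commutator S) x := by
    rw [← k1]; exact le_sup_left
  have hEA := Subgroup.eq_of_le_of_card_ge hAE (hA.2 _ hEab)
  have hBA : conjA A x ≤ A := by
    have h3 : conjA (A ⊓ commutator S) x ⊔ (A ⊓ conjA A x) ≤
        ((A ⊓ commutator S) ⊔ (A ⊓ conjA A x)) ⊔ conjA (A ⊓ commutator S) x :=
      sup_le le_sup_right (le_sup_right.trans le_sup_left)
    exact (hB.trans h3).trans (le_of_eq hEA.symm)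
  apply hxA
  rw [Subgroup.mem_normalizer_iff]
  have hBA' : conjA A x = A :=
    Subgroup.eq_of_le_of_card_ge hBA (by rw [card_conjA'])
  intro y
  have := mem_conjA (A := A) (b := x) (x := y)
  rw [hBA'] at this
  exact this

end Helper8.Gillam
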