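import Mathlib
import Cfsg.Agent.Lib.Helper9.Gl23A

/-! More local facts about `GL(2,3)` for the reduction to the simple case (S2916). -/

set_option autoImplicit false

namespace Cfsg.Agent.Lib.Helper8.Gl2

open Matrix Cfsg.Agent.Lib.Helper9.Gl23

/-- every matrix of determinant one is a product of two involutions (or trivial ones) -/
theorem dec_gen1 (M : M3) : M 0 0 * M 1 1 - M 0 1 * M 1 0 = 1 →
    ∃ a b c d : ZMod 3, (!![a, b; c, d] : M3) * !![a, b; c, d] = 1 ∧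
      (!![a, b; c, d] * M) * (!![a, b; c, d] * M) = 1 :=
  forall_M3 (P := fun M => M 0 0 * M 1 1 - M 0 1 * M 1 0 = 1 →
    ∃ a b c d : ZMod 3, (!![a, b; c, d] : M3) * !![a, b; c, d] = 1 ∧
      (!![a, b; c, d] * M) * (!![a, b; c, d] * M) = 1) (by beta_reduce; decide) M

/-- determinant of `Dm * M` -/
theorem dec_gen2 (M : M3) : M 0 0 * M 1 1 - M 0 1 * M 1 0 = 2 →
    (Dm * M) 0 0 * (Dm * M) 1 1 - (Dm * M) 0 1 * (Dm * M) 1 0 = 1 :=
  forall_M3 (P := fun M => M 0 0 * M 1 1 - M 0 1 * M 1 0 = 2 →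
    (Dm * M) 0 0 * (Dm * M) 1 1 - (Dm * M) 0 1 * (Dm * M) 1 0 = 1) (by beta_reduce; decide) M

theorem dec_det (M : M3) : M 0 0 * M 1 1 - M 0 1 * M 1 0 ≠ 0 →
    M 0 0 * M 1 1 - M 0 1 * M 1 0 = 1 ∨ M 0 0 * M 1 1 - M 0 1 * M 1 0 = 2 :=
  forall_M3 (P := fun M => M 0 0 * M 1 1 - M 0 1 * M 1 0 ≠ 0 →
    M 0 0 * M 1 1 - M 0 1 * M 1 0 = 1 ∨ M 0 0 * M 1 1 - M 0 1 * M 1 0 = 2)
    (by beta_reduce; decide) M

/-- an element of order three times a suitable conjugate squares to `-1` -/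
theorem dec_three (M : M3) : M * M * M = 1 → M ≠ 1 →
    ∃ a b c d : ZMod 3, a * d - b * c ≠ 0 ∧ (!![a, b; c, d] : M3) * M = Mᵀ * !![a, b; c, d] ∧
      (M * Mᵀ) * (M * Mᵀ) = Tm :=
  forall_M3 (P := fun M => M * M * M = 1 → M ≠ 1 →
    ∃ a b c d : ZMod 3, a * d - b * c ≠ 0 ∧ (!![a, b; c, d] : M3) * M = Mᵀ * !![a, b; c, d] ∧
      (M * Mᵀ) * (M * Mᵀ) = Tm) (by beta_reduce; decide) M

end Cfsg.Agent.Lib.Helper8.Gl2
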