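import Mathlib
import Cfsg.Agent.Lib.Helper8.Gl2A

/-! Local facts transported to `G` (S2916 reduction). -/

set_option autoImplicit false

namespace Cfsg.Agent.Lib.Helper8.Gl2

open Matrix Cfsg.Agent.Lib.Helper9.Gl23

variable {G : Type*} [Group G] {t : G} (e : Subgroup.centralizer ({t} : Set G) ≃* GL3)

/-- a matrix squaring to one, as a unit -/
def invU (X : M3) (h : X * X = 1) : GL3 := ⟨X, X, h, h⟩

theorem invU_mul_self (X : M3) (h : X * X = 1) : invU X h * invU X h = 1 :=
  Units.ext h

theorem gl_gen_det_one (A : GL3) (hA : A.val 0 0 * A.val 1 1 - A.val 0 1 * A.val 1 0 = 1) :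
    ∃ a b : GL3, a * a = 1 ∧ b * b = 1 ∧ A = a * b := by
  obtain ⟨a, b, c, d, h1, h2⟩ := dec_gen1 A.val hA
  refine ⟨invU _ h1, invU _ h1 * A, invU_mul_self _ h1, ?_, ?_⟩
  · apply Units.ext
    simp only [Units.val_mul, Units.val_one]
    exact h2
  · rw [← mul_assoc, invU_mul_self, one_mul]

theorem Du_mul_self : Du * Du = 1 := Units.ext (by decide)

theorem gl_gen (A : GL3) : ∃ a b c : GL3, a * a = 1 ∧ b * b = 1 ∧ c * c = 1 ∧ A = a * b * c := by
  rcases dec_det A.val (det_ne A) with h | h
  · obtain ⟨a, b, ha, hb, hab⟩ := gl_gen_det_one A h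
    exact ⟨a, b, 1, ha, hb, by simp, by rw [mul_one]; exact hab⟩
  · have h2 := dec_gen2 A.val h
    have h3 : (Du * A).val = Dm * A.val := by rw [Units.val_mul]; rfl
    rw [← h3] at h2
    obtain ⟨a, b, ha, hb, hab⟩ := gl_gen_det_one (Du * A) h2
    refine ⟨Du, a, b, Du_mul_self, ha, hb, ?_⟩
    rw [mul_assoc, ← hab, ← mul_assoc, Du_mul_self, one_mul]

theorem gl_three (A : GL3) (h3 : A * A * A = 1) (h1 : A ≠ 1) :
    ∃ B : GL3, (A * (B * A * B⁻¹)) * (A * (B * A * B⁻¹)) = Tu := by
  have h3' : A.val * A.val * A.val = 1 := by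
    have := congrArg Units.val h3
    simpa using this
  have h1' : A.val ≠ 1 := by
    intro h
    apply h1
    exact Units.ext h
  obtain ⟨a, b, c, d, hdet, hconj, hsq⟩ := dec_three A.val h3' h1'
  have hd : (!![a, b; c, d] : M3).det ≠ 0 := by rw [Matrix.det_fin_two_of]; exact hdet
  refine ⟨Matrix.GeneralLinearGroup.mkOfDetNeZero _ hd, ?_⟩
  set B := Matrix.GeneralLinearGroup.mkOfDetNeZero (!![a, b; c, d] : M3) hd with hB
  have hBv : B.val = !![a, b; c, d] := rfl
  have hval : (B * A * B⁻¹).val = A.valᵀ := by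
    have h5 : (B * A).val = A.valᵀ * B.val := by
      rw [Units.val_mul, hBv]
      exact hconj
    have h6 : (B * A * B⁻¹).val = (B * A).val * (B⁻¹).val := by rw [Units.val_mul]
    rw [h6, h5, mul_assoc]
    have h7 : B.val * (B⁻¹).val = 1 := by
      rw [← Units.val_mul, mul_inv_cancel, Units.val_one]
    rw [h7, mul_one]
  apply Units.ext
  simp only [Units.val_mul] at hval ⊢
  rw [hval]
  exact hsq

include e

/-- every element of `C(t)` is a product of three elements squaring to `1` -/
theorem gen_by_invol (h : G) (hh : h * t = t * h) :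
    ∃ a b c : G, a * a = 1 ∧ b * b = 1 ∧ c * c = 1 ∧ h = a * b * c := by
  obtain ⟨A, rfl⟩ := exists_of_comm e h hh
  obtain ⟨a, b, c, ha, hb, hc, habc⟩ := gl_gen A
  refine ⟨phi e a, phi e b, phi e c, ?_, ?_, ?_, ?_⟩
  · rw [← map_mul, ha, map_one]
  · rw [← map_mul, hb, map_one]
  · rw [← map_mul, hc, map_one]
  · rw [← map_mul, ← map_mul, ← habc]

/-- another involution in `C(t)` -/
theorem exists_other_invol (ht : orderOf t = 2) :
    ∃ s : G, s * t = t * s ∧ orderOf s = 2 ∧ s ≠ t := by
  refine ⟨phi e Du, comm_t e Du, ?_, ?_⟩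
  · apply orderOf_eq_prime
    · rw [pow_two, ← map_mul, Du_mul_self, map_one]
    · intro h
      have : Du = 1 := phi_inj e (by rw [h, map_one])
      have h2 := congrArg Units.val this
      revert h2
      decide
  · intro h
    have h' : phi e Du = phi e Tu := h.trans (phi_Tu e ht).symm
    have : Du = Tu := phi_inj e h'
    have h2 := congrArg Units.val this
    revert h2
    decide

/-- an element of order three in `C(t)` times a suitable conjugate has order four -/
theorem three_conj (ht : orderOf t = 2) (x : G) (hx : x * t = t * x) (hx3 : orderOf x = 3) :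
    ∃ h : G, h * t = t * h ∧ orderOf (x * (h * x * h⁻¹)) = 4 := by
  obtain ⟨A, rfl⟩ := exists_of_comm e x hx
  have hA3 : A * A * A = 1 := by
    apply phi_inj e
    rw [map_mul, map_mul, map_one, ← pow_three']
    have := pow_orderOf_eq_one (phi e A)
    rwa [hx3] at this
  have hA1 : A ≠ 1 := by
    intro h
    rw [h, map_one, orderOf_one] at hx3
    omega
  obtain ⟨B, hB⟩ := gl_three A hA3 hA1
  refine ⟨phi e B, comm_t e B, ?_⟩
  have h1 : phi e A * (phi e B * phi e A * (phi e B)⁻¹) = phi e (A * (B * A * B⁻¹)) := by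
    simp only [map_mul, map_inv]
  rw [h1]
  have h2 : phi e (A * (B * A * B⁻¹)) ^ 2 = t := by
    rw [pow_two, ← map_mul, hB, phi_Tu e ht]
  have : orderOf (phi e (A * (B * A * B⁻¹))) = 2 ^ (1 + 1) := by
    apply orderOf_eq_prime_pow
    · rw [pow_one, h2]
      exact t_ne_one ht
    · have : (2 : ℕ) ^ (1 + 1) = 2 * 2 := by norm_num
      rw [this, pow_mul, h2, pow_two]
      exact t_sq ht
  simpa using this

end Cfsg.Agent.Lib.Helper8.Gl2
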