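import Mathlib
import Cfsg.Agent.Lib.Helper8.GlB

/-! `32 ∤ |G|` from the local data. -/

set_option autoImplicit false

namespace Cfsg.Agent.Lib.Helper8.Gl

variable {G : Type*} [Group G] [Finite G]

namespace Loc

variable {t v y : G} (L : Loc G t v y)
include L

/-- every nontrivial element of `⟨v⟩` has `t` as a power -/
theorem t_mem_zpowers_of_mem {z : G} (hz : z ∈ Subgroup.zpowers v) (hz1 : z ≠ 1) :
    t ∈ Subgroup.zpowers z := by
  obtain ⟨i, rfl⟩ := Subgroup.mem_zpowers_iff.mp hz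
  have h1 : v ^ i = v ^ (i % 8).toNat := by
    have h2 : v ^ i = v ^ (i % (orderOf v : ℤ)) := (zpow_mod_orderOf v i).symm
    have h8 : ((orderOf v : ℕ) : ℤ) = 8 := by rw [L.ov]; norm_num
    rw [h8] at h2
    have h3 : (0 : ℤ) ≤ i % 8 := Int.emod_nonneg _ (by norm_num)
    rw [h2, ← zpow_natCast, Int.toNat_of_nonneg h3]
  obtain ⟨k, hk⟩ : ∃ k : ℕ, k = (i % 8).toNat := ⟨_, rfl⟩
  have hk8 : k < 8 := by
    have h3 : (0 : ℤ) ≤ i % 8 := Int.emod_nonneg _ (by norm_num)
    have h4 : i % 8 < 8 := Int.emod_lt_of_pos _ (by norm_num)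
    omega
  rw [← hk] at h1
  rw [h1] at hz1 ⊢
  have hred : ∀ m : ℕ, v ^ (8 * m + 4) = t := by
    intro m
    rw [pow_add, pow_mul, L.v8, one_pow, one_mul, L.hv4]
  interval_cases k
  · exact absurd (pow_zero v) hz1
  · rw [pow_one, ← L.hv4]; exact Subgroup.npow_mem_zpowers _ _
  · have : (v ^ 2) ^ 2 = t := by rw [← pow_mul]; exact L.hv4
    rw [← this]; exact Subgroup.npow_mem_zpowers _ _
  · have : (v ^ 3) ^ 4 = t := by rw [← pow_mul]; exact hred 1
    rw [← this]; exact Subgroup.npow_mem_zpowers _ _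
  · have : (v ^ 4) ^ 1 = t := by rw [pow_one]; exact L.hv4
    rw [← this]; exact Subgroup.npow_mem_zpowers _ _
  · have : (v ^ 5) ^ 4 = t := by rw [← pow_mul]; exact hred 2
    rw [← this]; exact Subgroup.npow_mem_zpowers _ _
  · have : (v ^ 6) ^ 2 = t := by rw [← pow_mul]; exact hred 1
    rw [← this]; exact Subgroup.npow_mem_zpowers _ _
  · have : (v ^ 7) ^ 4 = t := by rw [← pow_mul]; exact hred 3
    rw [← this]; exact Subgroup.npow_mem_zpowers _ _

/-- a Sylow 2-subgroup containing `v` lies in `C(t)`, and its central elements have `t` as a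
power -/
theorem exists_sylow : ∃ P : Sylow 2 G, v ∈ (P : Subgroup G) ∧
    (P : Subgroup G) ≤ Subgroup.centralizer ({t} : Set G) ∧
    (∀ z ∈ (P : Subgroup G), (∀ p ∈ (P : Subgroup G), p * z = z * p) → z ≠ 1 →
      t ∈ Subgroup.zpowers z) := by
  have : Fact (Nat.Prime 2) := ⟨Nat.prime_two⟩
  have hpg : IsPGroup 2 (Subgroup.zpowers v) := by
    apply IsPGroup.of_card (n := 3)
    rw [Nat.card_zpowers, L.ov]; norm_num
  obtain ⟨P, hP⟩ := hpg.exists_le_sylow
  have hvP : v ∈ (P : Subgroup G) := hP (Subgroup.mem_zpowers v)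
  have hcen : ∀ z ∈ (P : Subgroup G), (∀ p ∈ (P : Subgroup G), p * z = z * p) → z ≠ 1 →
      t ∈ Subgroup.zpowers z := by
    intro z _ hzc hz1
    exact L.t_mem_zpowers_of_mem (L.cv z (hzc v hvP).symm) hz1
  refine ⟨P, hvP, ?_, hcen⟩
  -- nontrivial centre
  have : Nontrivial (P : Subgroup G) := by
    refine ⟨⟨⟨v, hvP⟩, 1, ?_⟩⟩
    intro h
    have : v = 1 := congrArg Subtype.val h
    have h2 := L.ov
    rw [this, orderOf_one] at h2
    omega
  have := P.2.center_nontrivial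
  obtain ⟨z, hz⟩ := exists_ne (1 : Subgroup.center (P : Subgroup G))
  have hzc : ∀ p ∈ (P : Subgroup G), p * ((z : (P : Subgroup G)) : G)
      = ((z : (P : Subgroup G)) : G) * p := by
    intro p hp
    have h := Subgroup.mem_center_iff.mp z.2 ⟨p, hp⟩
    have h3 := congrArg Subtype.val h
    simpa using h3
  have hzG1 : ((z : (P : Subgroup G)) : G) ≠ 1 := by
    intro h
    apply hz
    apply Subtype.ext
    apply Subtype.ext
    exact h
  have ht := hcen _ (z : (P : Subgroup G)).2 hzc hzG1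
  intro p hp
  rw [Subgroup.mem_centralizer_singleton_iff]
  obtain ⟨j, hj⟩ := Subgroup.mem_zpowers_iff.mp ht
  rw [← hj]
  have hc : Commute p ((z : (P : Subgroup G)) : G) := hzc p hp
  exact (hc.zpow_right j).eq

theorem not_dvd_32 : ¬ 32 ∣ Nat.card G := by
  intro h32
  have : Fact (Nat.Prime 2) := ⟨Nat.prime_two⟩
  obtain ⟨P, -, hPle, -⟩ := L.exists_sylow
  have hdvd : Nat.card (P : Subgroup G) ∣ 48 := by
    rw [← L.ct]
    exact Subgroup.card_dvd_of_le hPle
  have hcard := P.card_eq_multiplicity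
  have hfac : 5 ≤ (Nat.card G).factorization 2 := by
    have hG0 : Nat.card G ≠ 0 := Nat.card_pos.ne'
    have : 2 ^ 5 ∣ Nat.card G := by norm_num; exact h32
    exact (Nat.Prime.pow_dvd_iff_le_factorization Nat.prime_two hG0).mp this
  have h32' : 32 ∣ Nat.card (P : Subgroup G) := by
    rw [hcard]
    have : (32 : ℕ) = 2 ^ 5 := by norm_num
    rw [this]
    exact pow_dvd_pow 2 hfac
  have := dvd_trans h32' hdvd
  omega

end Loc

end Cfsg.Agent.Lib.Helper8.Gl
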