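import Mathlib
import Cfsg.Prelude.Def_Transfer
import Cfsg.Agent.Lib.Helper8.GlI
import Cfsg.Agent.Lib.Helper1.ThompsonTransfer
import Cfsg.Agent.Lib.Helper1.PResidual

/-! Reduction to the simple case: `O²(G) = G` and `C(t) ≅ GL(2,3)` force `G` simple. -/

set_option autoImplicit false

namespace Cfsg.Agent.Lib.Helper8.Gl2

open Cfsg.Agent.Lib.Helper8.Gl Cfsg.Agent.Lib.Helper1

variable {G : Type*} [Group G] [Finite G]

/-- no subgroup of index two when `O²(G) = G` -/
theorem no_index_two (hO : Cfsg.pResidual 2 G = ⊤) (M : Subgroup G) [M.Normal] :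
    M.index ≠ 2 := by
  intro h
  have : Fact (Nat.Prime 2) := ⟨Nat.prime_two⟩
  have hq : IsPGroup 2 (G ⧸ M) := by
    apply IsPGroup.of_card (n := 1)
    rw [← Subgroup.index_eq_card, h, pow_one]
  have hle := pResidual_le_of_isPGroup_quotient M hq
  rw [hO, top_le_iff] at hle
  rw [hle, Subgroup.index_top] at h
  omega

theorem eq_of_mem_zpowers_of_orderOf_two {z x : G} (hz : orderOf z = 2) (hx : x ∈ Subgroup.zpowers z)
    (hx1 : x ≠ 1) : x = z := by
  obtain ⟨i, rfl⟩ := Subgroup.mem_zpowers_iff.mp hx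
  have h1 : z ^ i = z ^ (i % 2) := by
    have := (zpow_mod_orderOf z i).symm
    rwa [hz] at this
  rcases Int.emod_two_eq_zero_or_one i with h | h
  · rw [h1, h, zpow_zero] at hx1
    exact absurd rfl hx1
  · rw [h1, h, zpow_one]

namespace Loc

variable {t v y : G} (L : Gl.Loc G t v y)
include L

/-- under `O²(G) = G` all involutions are conjugate to `t` -/
theorem isConj_of_orderOf_two (hO : Cfsg.pResidual 2 G = ⊤) (u : G) (hu : orderOf u = 2) :
    IsConj u t := by
  have : Fact (Nat.Prime 2) := ⟨Nat.prime_two⟩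
  obtain ⟨P, hvP, hPle, -⟩ := L.exists_sylow
  have hQP : Subgroup.zpowers v ≤ (P : Subgroup G) := by
    rw [Subgroup.zpowers_le]; exact hvP
  -- |P| = 16
  have hcard : Nat.card (P : Subgroup G) = 16 := by
    have h1 := P.card_eq_multiplicity
    have h48 : 48 ∣ Nat.card G := by
      rw [← L.ct]
      exact Subgroup.card_subgroup_dvd_card _
    have h32 := L.not_dvd_32
    have hG0 : Nat.card G ≠ 0 := Nat.card_pos.ne'
    have hle : 4 ≤ (Nat.card G).factorization 2 := by
      have : 2 ^ 4 ∣ Nat.card G := dvd_trans (by norm_num) h48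
      exact (Nat.Prime.pow_dvd_iff_le_factorization Nat.prime_two hG0).mp this
    have hlt : (Nat.card G).factorization 2 < 5 := by
      by_contra hcon
      push_neg at hcon
      have : 2 ^ 5 ∣ Nat.card G :=
        (Nat.Prime.pow_dvd_iff_le_factorization Nat.prime_two hG0).mpr hcon
      exact h32 (by simpa using this)
    have : (Nat.card G).factorization 2 = 4 := by omega
    rw [h1, this]
    norm_num
  have hrel : (Subgroup.zpowers v).relIndex (P : Subgroup G) = 2 := by
    have h1 := Subgroup.relIndex_mul_relIndex (H := ⊥) (K := Subgroup.zpowers v)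
      (L := (P : Subgroup G)) bot_le hQP
    rw [Subgroup.relIndex_bot_left, Subgroup.relIndex_bot_left, Nat.card_zpowers, L.ov, hcard] at h1
    omega
  by_contra hnc
  have hnc' : ∀ g : G, g * u * g⁻¹ ∉ Subgroup.zpowers v := by
    intro g hg
    apply hnc
    have ho : orderOf (g * u * g⁻¹) = 2 := by
      rw [← hu]
      exact (orderOf_eq_of_isConj (isConj_iff.mpr ⟨g, rfl⟩)).symm
    have h1 : g * u * g⁻¹ ≠ 1 := by
      intro h
      rw [h, orderOf_one] at ho
      omega
    have ht := L.t_mem_zpowers_of_mem hg h1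
    have ht1 : t ≠ 1 := by
      intro h
      have := L.ot
      rw [h, orderOf_one] at this
      omega
    have := eq_of_mem_zpowers_of_orderOf_two ho ht ht1
    rw [this]
    exact isConj_iff.mpr ⟨g, rfl⟩
  obtain ⟨M, hMn, hMi, -⟩ := thompson_transfer P (Subgroup.zpowers v) hQP hrel u hu hnc'
  exact no_index_two hO M hMi

/-- the normalizer of a Sylow 2-subgroup containing `v` lies in `C(t)` -/
theorem exists_sylow_normalizer_le : ∃ P : Sylow 2 G,
    (P : Subgroup G) ≤ Subgroup.centralizer ({t} : Set G) ∧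
    Subgroup.normalizer ((P : Subgroup G) : Set G) ≤ Subgroup.centralizer ({t} : Set G) := by
  obtain ⟨P, hvP, hPle, hcen⟩ := L.exists_sylow
  refine ⟨P, hPle, ?_⟩
  have ht1 : t ≠ 1 := by
    intro h
    have := L.ot
    rw [h, orderOf_one] at this
    omega
  have htP : t ∈ (P : Subgroup G) := by
    rw [← L.hv4]
    exact pow_mem hvP 4
  intro g hg
  rw [Subgroup.mem_centralizer_singleton_iff]
  have hgn := Subgroup.mem_normalizer_iff.mp hg
  have hzP : g * t * g⁻¹ ∈ (P : Subgroup G) := (hgn t).mp htP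
  have hzc : ∀ p ∈ (P : Subgroup G), p * (g * t * g⁻¹) = (g * t * g⁻¹) * p := by
    intro p hp
    have hp' : g⁻¹ * p * g ∈ (P : Subgroup G) := by
      have := (hgn (g⁻¹ * p * g)).mpr (by
        have : g * (g⁻¹ * p * g) * g⁻¹ = p := by group
        rw [this]; exact hp)
      exact this
    have hc := hPle hp'
    rw [Subgroup.mem_centralizer_singleton_iff] at hc
    calc p * (g * t * g⁻¹) = g * ((g⁻¹ * p * g) * t) * g⁻¹ := by group
      _ = g * (t * (g⁻¹ * p * g)) * g⁻¹ := by rw [hc]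
      _ = (g * t * g⁻¹) * p := by group
  have ho : orderOf (g * t * g⁻¹) = 2 := by
    rw [← L.ot]
    exact (orderOf_eq_of_isConj (isConj_iff.mpr ⟨g, rfl⟩)).symm
  have hz1 : g * t * g⁻¹ ≠ 1 := by
    intro h
    rw [h, orderOf_one] at ho
    omega
  have h1 := hcen _ hzP hzc hz1
  have h2 := eq_of_mem_zpowers_of_orderOf_two ho h1 ht1
  -- t = g t g⁻¹
  calc g * t = (g * t * g⁻¹) * g := by group
    _ = t * g := by rw [← h2]

end Loc

/-- a fixed-point-free involution inverts -/
theorem inverts_of_fpf (N : Subgroup G) [N.Normal] (t : G) (ht : t * t = 1)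
    (hfix : ∀ n ∈ N, t * n = n * t → n = 1) : ∀ n ∈ N, t * n * t⁻¹ = n⁻¹ := by
  have htinv : t⁻¹ = t := inv_eq_of_mul_eq_one_left ht
  -- the map n ↦ n⁻¹ * (t n t⁻¹) on N
  let f : N → N := fun n => ⟨(n : G)⁻¹ * (t * n * t⁻¹),
    N.mul_mem (N.inv_mem n.2) (Subgroup.Normal.conj_mem inferInstance _ n.2 t)⟩
  have hinj : Function.Injective f := by
    intro a b hab
    have h1 : (a : G)⁻¹ * (t * a * t⁻¹) = (b : G)⁻¹ * (t * b * t⁻¹) := congrArg Subtype.val hab
    have h2 : t * ((b : G) * (a : G)⁻¹) = ((b : G) * (a : G)⁻¹) * t := by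
      have h3 : (b : G) * (a : G)⁻¹ = t * ((b : G) * (a : G)⁻¹) * t⁻¹ := by
        have h4 : (b : G) * ((a : G)⁻¹ * (t * a * t⁻¹)) = t * b * t⁻¹ := by
          rw [h1]; group
        calc (b : G) * (a : G)⁻¹ = ((b : G) * ((a : G)⁻¹ * (t * a * t⁻¹))) * (t * a * t⁻¹)⁻¹ := by
              group
          _ = (t * b * t⁻¹) * (t * a * t⁻¹)⁻¹ := by rw [h4]
          _ = t * ((b : G) * (a : G)⁻¹) * t⁻¹ := by group
      calc t * ((b : G) * (a : G)⁻¹) = (t * ((b : G) * (a : G)⁻¹) * t⁻¹) * t := by group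
        _ = ((b : G) * (a : G)⁻¹) * t := by rw [← h3]
    have h5 := hfix _ (N.mul_mem b.2 (N.inv_mem a.2)) h2
    apply Subtype.ext
    have : (b : G) = a := by
      have := mul_inv_eq_one.mp h5
      exact this
    exact this.symm
  have hsurj : Function.Surjective f := Finite.surjective_of_injective hinj
  intro n hn
  obtain ⟨m, hm⟩ := hsurj ⟨n, hn⟩
  have hm' : (m : G)⁻¹ * (t * m * t⁻¹) = n := congrArg Subtype.val hm
  rw [← hm', htinv]
  have e1 : t * ((m : G)⁻¹ * (t * m * t)) * t = t * (m : G)⁻¹ * t * m * (t * t) := by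
    simp only [mul_assoc]
  have e2 : ((m : G)⁻¹ * (t * m * t))⁻¹ = t⁻¹ * (m : G)⁻¹ * t⁻¹ * m := by group
  rw [e1, e2, ht, htinv, mul_one]

end Cfsg.Agent.Lib.Helper8.Gl2
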