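import Mathlib
import Cfsg.Agent.Lib.Helper8.Gl2B
import Cfsg.Agent.Lib.Helper8.Gl2C

/-! `O²(G) = G` and `C(t) ≅ GL(2,3)` force `G` simple. -/

set_option autoImplicit false

namespace Cfsg.Agent.Lib.Helper8.Gl2

open Cfsg.Agent.Lib.Helper8.Gl Cfsg.Agent.Lib.Helper9.Gl23

variable {G : Type*} [Group G] [Finite G]

theorem orderOf_two_of_sq {a : G} (h : a * a = 1) (h1 : a ≠ 1) : orderOf a = 2 := by
  have : Fact (Nat.Prime 2) := ⟨Nat.prime_two⟩
  exact orderOf_eq_prime (by rw [pow_two]; exact h) h1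

/-- a conjugate of an inverting element inverts -/
theorem inverts_of_isConj (N : Subgroup G) [N.Normal] {s t : G} (hst : IsConj s t)
    (hinv : ∀ n ∈ N, t * n * t⁻¹ = n⁻¹) : ∀ n ∈ N, s * n * s⁻¹ = n⁻¹ := by
  obtain ⟨c, hc⟩ := isConj_iff.mp hst
  intro n hn
  have h1 := hinv (c * n * c⁻¹) (Subgroup.Normal.conj_mem inferInstance n hn c)
  have hs : s = c⁻¹ * t * c := by rw [← hc]; group
  calc s * n * s⁻¹ = c⁻¹ * (t * (c * n * c⁻¹) * t⁻¹) * c := by rw [hs]; group
    _ = c⁻¹ * (c * n * c⁻¹)⁻¹ * c := by rw [h1]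
    _ = n⁻¹ := by group

theorem exists_involution_of_even (N : Subgroup G) {x : G} (hx : x ∈ N) (h2 : 2 ∣ orderOf x) :
    ∃ u ∈ N, orderOf u = 2 := by
  refine ⟨x ^ (orderOf x / 2), N.pow_mem hx _, ?_⟩
  have hpos : 0 < orderOf x := orderOf_pos x
  rw [orderOf_pow' x (by omega : orderOf x / 2 ≠ 0)]
  have : Nat.gcd (orderOf x) (orderOf x / 2) = orderOf x / 2 :=
    Nat.gcd_eq_right (Nat.div_dvd_of_dvd h2)
  rw [this]
  obtain ⟨k, hk⟩ := h2
  rw [hk]
  have hk0 : 0 < k := by omega
  rw [Nat.mul_div_cancel_left k (by norm_num : 0 < 2)]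
  exact Nat.mul_div_cancel 2 hk0

theorem simple_of_local {t v y : G} (L : Gl.Loc G t v y)
    (e : Subgroup.centralizer ({t} : Set G) ≃* GL3) (hO : Cfsg.pResidual 2 G = ⊤) :
    IsSimpleGroup G := by
  have ht : orderOf t = 2 := L.ot
  have ht1 : t ≠ 1 := by
    intro h
    rw [h, orderOf_one] at ht
    omega
  have ht2 : t * t = 1 := by
    have := pow_orderOf_eq_one t
    rwa [ht, pow_two] at this
  have hconj : ∀ u : G, orderOf u = 2 → IsConj u t := fun u hu => Gl2.Loc.isConj_of_orderOf_two L hO u hu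
  have : Nontrivial G := ⟨⟨t, 1, ht1⟩⟩
  refine ⟨fun N hN => ?_⟩
  -- an involution in N puts t in N
  have hF2 : ∀ u ∈ N, orderOf u = 2 → t ∈ N := by
    intro u hu ho
    obtain ⟨c, hc⟩ := isConj_iff.mp (hconj u ho)
    rw [← hc]
    exact hN.conj_mem u hu c
  by_cases htN : t ∈ N
  · right
    -- all elements with a * a = 1 lie in N
    have hF3 : ∀ a : G, a * a = 1 → a ∈ N := by
      intro a ha
      by_cases ha1 : a = 1
      · rw [ha1]; exact N.one_mem
      · obtain ⟨c, hc⟩ := isConj_iff.mp (hconj a (orderOf_two_of_sq ha ha1))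
        have : a = c⁻¹ * t * c⁻¹⁻¹ := by rw [← hc]; group
        rw [this]
        exact hN.conj_mem t htN c⁻¹
    have hF4 : Subgroup.centralizer ({t} : Set G) ≤ N := by
      intro h hh
      rw [Subgroup.mem_centralizer_singleton_iff] at hh
      obtain ⟨a, b, c, ha, hb, hc, habc⟩ := gen_by_invol e h hh
      rw [habc]
      exact N.mul_mem (N.mul_mem (hF3 a ha) (hF3 b hb)) (hF3 c hc)
    obtain ⟨P, hPle, hNle⟩ := Gl2.Loc.exists_sylow_normalizer_le L
    have : Fact (Nat.Prime 2) := ⟨Nat.prime_two⟩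
    have hsup := Sylow.normalizer_sup_eq_top' P (hPle.trans hF4)
    rw [← hsup]
    exact ((sup_le (hNle.trans hF4) le_rfl).antisymm le_sup_right).symm
  · left
    have hG1 : ∀ u ∈ N, orderOf u ≠ 2 := fun u hu ho => htN (hF2 u hu ho)
    have hG2 : ∀ x ∈ N, ¬ 2 ∣ orderOf x := by
      intro x hx h2
      obtain ⟨u, hu, ho⟩ := exists_involution_of_even N hx h2
      exact hG1 u hu ho
    have hG3 : ∀ n ∈ N, t * n = n * t → n = 1 := by
      intro n hn hnt
      by_contra hn1
      have hmem : n ∈ Subgroup.centralizer ({t} : Set G) := by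
        rw [Subgroup.mem_centralizer_singleton_iff]; exact hnt.symm
      have hdvd : orderOf n ∣ 48 := by
        rw [← L.ct]
        exact Subgroup.orderOf_dvd_natCard _ hmem
      have hodd : Nat.Coprime (orderOf n) 16 := by
        have : Nat.Coprime (orderOf n) 2 := by
          rw [Nat.coprime_comm, Nat.Prime.coprime_iff_not_dvd Nat.prime_two]
          exact hG2 n hn
        exact Nat.Coprime.pow_right 4 this
      have h3 : orderOf n ∣ 3 := by
        have : orderOf n ∣ 16 * 3 := by norm_num; exact hdvd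
        exact Nat.Coprime.dvd_of_dvd_mul_left hodd this
      have ho3 : orderOf n = 3 := by
        rcases (Nat.dvd_prime Nat.prime_three).mp h3 with h | h
        · exact absurd (orderOf_eq_one_iff.mp h) hn1
        · exact h
      obtain ⟨h, hht, ho4⟩ := three_conj e ht n hnt.symm ho3
      have hmemN : n * (h * n * h⁻¹) ∈ N := N.mul_mem hn (hN.conj_mem n hn h)
      exact hG2 _ hmemN (by rw [ho4]; norm_num)
    have hG4 := inverts_of_fpf N t ht2 hG3
    obtain ⟨s, hst, hos, hsne⟩ := exists_other_invol e ht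
    have hs2 : s * s = 1 := by
      have := pow_orderOf_eq_one s
      rwa [hos, pow_two] at this
    have hG5 := inverts_of_isConj N (hconj s hos) hG4
    have hts2 : (t * s) * (t * s) = 1 := by
      calc (t * s) * (t * s) = t * (s * t) * s := by group
        _ = t * (t * s) * s := by rw [hst]
        _ = (t * t) * (s * s) := by group
        _ = 1 := by rw [ht2, hs2, one_mul]
    have hts1 : t * s ≠ 1 := by
      intro h
      apply hsne
      have h1 : s = t⁻¹ := (inv_eq_of_mul_eq_one_right h).symm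
      rw [h1]
      exact inv_eq_of_mul_eq_one_left ht2
    have hG6 := inverts_of_isConj N (hconj _ (orderOf_two_of_sq hts2 hts1)) hG4
    rw [Subgroup.eq_bot_iff_forall]
    intro n hn
    by_contra hn1
    have h1 := hG6 n hn
    have h2 := hG5 n hn
    have h3 := hG4 n⁻¹ (N.inv_mem hn)
    have h4 : n = n⁻¹ := by
      calc n = n⁻¹⁻¹ := (inv_inv n).symm
        _ = t * n⁻¹ * t⁻¹ := h3.symm
        _ = t * (s * n * s⁻¹) * t⁻¹ := by rw [h2]
        _ = (t * s) * n * (t * s)⁻¹ := by group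
        _ = n⁻¹ := h1
    have h5 : n * n = 1 := by
      calc n * n = n * n⁻¹ := by rw [← h4]
        _ = 1 := mul_inv_cancel n
    exact hG1 n hn (orderOf_two_of_sq h5 hn1)

end Cfsg.Agent.Lib.Helper8.Gl2
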