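import Mathlib
import Cfsg.Agent.Lib.Helper8.GlE

/-! The five generalized characters `Θ₁ … Θ₅`: existence. -/

set_option autoImplicit false
set_option maxHeartbeats 1600000

namespace Cfsg.Agent.Lib.Helper8.Gl

open scoped ComplexConjugate
open Cfsg.Agent.Lib.Helper6

variable {G : Type*} [Group G]

theorem exists_thetas [Fintype G] {t v y : G} (L : Loc G t v y) :
    ∃ w : ℂ, w ^ 2 = -2 ∧ conj w = -w ∧ ∃ Θ₁ Θ₂ Θ₃ Θ₄ Θ₅ : G → ℂ,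
      IsTh t v y Θ₁ 4 2 (-2) (-w) w ∧ IsTh t v y Θ₂ 4 2 (-2) w (-w) ∧
      IsTh t v y Θ₃ 8 4 2 0 0 ∧ IsTh t v y Θ₄ 0 4 0 2 2 ∧ IsTh t v y Θ₅ 0 4 0 (-2) (-2) := by
  obtain ⟨ζ, h4⟩ : ∃ ζ : ℂ, ζ ^ 4 = -1 := IsAlgClosed.exists_pow_nat_eq (-1) (by norm_num)
  obtain ⟨r, hr⟩ : ∃ r : ℂ, r ^ 2 = -3 := IsAlgClosed.exists_pow_nat_eq (-3) (by norm_num)
  obtain ⟨ω, hω⟩ : ∃ ω : ℂ, ω ^ 2 = ω - 1 := ⟨(1 + r) / 2, by linear_combination (1 / 4 : ℂ) * hr⟩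
  have h8 : ζ ^ 8 = 1 := by linear_combination (ζ ^ 4 - 1) * h4
  have h6 : ω ^ 6 = 1 := by linear_combination (ω ^ 4 + ω ^ 3 - ω - 1) * hω
  have hζ0 : ζ ≠ 0 := by
    rintro rfl
    norm_num at h8
  have hnorm : ‖ζ‖ = 1 := Complex.norm_eq_one_of_pow_eq_one h8 (by norm_num)
  have hmc : ζ * conj ζ = 1 := by
    rw [Complex.mul_conj, Complex.normSq_eq_norm_sq, hnorm]
    norm_num
  have hcz : conj ζ = -ζ ^ 3 := by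
    apply mul_left_cancel₀ hζ0
    rw [hmc]
    linear_combination (1 : ℂ) * h4
  obtain ⟨lam, hlam⟩ := exists_hom_zpowers v 8 L.ov ζ h8 (by norm_num)
  obtain ⟨mu, hmu⟩ := exists_hom_zpowers y 6 L.oy ω h6 (by norm_num)
  obtain ⟨a, hadef⟩ : ∃ a : ℕ → Subgroup.zpowers v → ℂ, a = fun j h => ((lam h : ℂˣ) : ℂ) ^ j :=
    ⟨_, rfl⟩
  obtain ⟨b, hbdef⟩ : ∃ b : ℕ → Subgroup.zpowers y → ℂ, b = fun j h => ((mu h : ℂˣ) : ℂ) ^ j :=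
    ⟨_, rfl⟩
  have ha : ∀ j, Cfsg.IsGeneralizedCharacter (Subgroup.zpowers v) (a j) := by
    intro j; rw [hadef]; exact isGeneralizedCharacter_pow lam j
  have hb : ∀ j, Cfsg.IsGeneralizedCharacter (Subgroup.zpowers y) (b j) := by
    intro j; rw [hbdef]; exact isGeneralizedCharacter_pow mu j
  have hak : ∀ j k, a j ⟨v ^ k, Subgroup.npow_mem_zpowers v k⟩ = (ζ ^ k) ^ j := by
    intro j k; rw [hadef]; simp only; rw [hlam]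
  have hbk : ∀ j k, b j ⟨y ^ k, Subgroup.npow_mem_zpowers y k⟩ = (ω ^ k) ^ j := by
    intro j k; rw [hbdef]; simp only; rw [hmu]
  have hz0 : Cfsg.IsGeneralizedCharacter (Subgroup.zpowers y) (0 : Subgroup.zpowers y → ℂ) :=
    IsGeneralizedCharacter.zero
  refine ⟨ζ + ζ ^ 3, by linear_combination (ζ ^ 2 + 2) * h4, ?_, ?_⟩
  · rw [map_add, map_pow, hcz]
    linear_combination (ζ - ζ ^ 5) * h4
  refine ⟨theta v y (a 7 - a 2) (b 4 - b 1), theta v y (a 1 - a 6) (b 2 - b 5), theta v y (a 0 - a 1 - a 7 + a 4) (b 1 - b 4), theta v y (a 0 - a 2) (0), theta v y (a 4 - a 2) (0), ?_, ?_, ?_, ?_, ?_⟩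
  · exact isTh_of L _ _ (fun k => (ζ ^ k) ^ 7 - (ζ ^ k) ^ 2) (fun k => (ω ^ k) ^ 4 - (ω ^ k) ^ 1)
      (by intro k; simp only [Pi.sub_apply, Pi.add_apply, hak]) (by intro k; simp only [Pi.sub_apply, Pi.add_apply, hbk])
      (IsGeneralizedCharacter.sub (ha 7) (ha 2)) (IsGeneralizedCharacter.sub (hb 4) (hb 1))
      (by beta_reduce; ring) (by beta_reduce; ring)
      (by beta_reduce; linear_combination ((-1) * ω ^ 2 + (-1) * ω ^ 3 + (1) * ω ^ 5 + (1) * ω ^ 6) * hω) (by beta_reduce; linear_combination ((-1) * ω ^ 4 + (-1) * ω ^ 5 + (1) * ω ^ 7 + (1) * ω ^ 8 + (-1) * ω ^ 10 + (-1) * ω ^ 11 + (1) * ω ^ 13 + (1) * ω ^ 14) * hω)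
      (by beta_reduce; linear_combination ((12) + (-12) * ζ ^ 4 + (6) * ζ ^ 8 + (-6) * ζ ^ 12 + (6) * ζ ^ 16 + (-6) * ζ ^ 20 + (6) * ζ ^ 24) * h4 + ((-16) + (-16) * ω + (8) * ω ^ 3 + (8) * ω ^ 4 + (-8) * ω ^ 6 + (-8) * ω ^ 7 + (8) * ω ^ 9 + (8) * ω ^ 10) * hω) (by beta_reduce; linear_combination ((-2) + (1) * ζ ^ 4 + (-1) * ζ ^ 8 + (1) * ζ ^ 14 + (-1) * ζ ^ 18 + (1) * ζ ^ 22 + (-1) * ζ ^ 26 + (1) * ζ ^ 30 + (-1) * ζ ^ 34 + (1) * ζ ^ 38) * h4)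
      (by beta_reduce; linear_combination ((2) + (1) * ω + (-1) * ω ^ 2 + (-2) * ω ^ 3 + (1) * ω ^ 5 + (1) * ω ^ 6 + (-1) * ω ^ 8 + (-1) * ω ^ 9 + (1) * ω ^ 11 + (1) * ω ^ 12 + (-1) * ω ^ 14 + (-1) * ω ^ 15 + (1) * ω ^ 17 + (1) * ω ^ 18) * hω) (by beta_reduce; linear_combination ((1) * ζ + (-1) * ζ ^ 2 + (1) * ζ ^ 3 + (-1) * ζ ^ 5 + (1) * ζ ^ 9 + (-1) * ζ ^ 13 + (1) * ζ ^ 17) * h4)
      (by beta_reduce; linear_combination ((-1) * ζ + (-1) * ζ ^ 3 + (1) * ζ ^ 5 + (1) * ζ ^ 7 + (-1) * ζ ^ 9 + (-1) * ζ ^ 10 + (-1) * ζ ^ 11 + (1) * ζ ^ 13 + (1) * ζ ^ 15 + (-1) * ζ ^ 17 + (-1) * ζ ^ 19 + (1) * ζ ^ 21 + (1) * ζ ^ 23 + (-1) * ζ ^ 25 + (-1) * ζ ^ 27 + (1) * ζ ^ 29 + (1) * ζ ^ 31 + (-1) * ζ ^ 33 + (1) * ζ ^ 37 + (-1) * ζ ^ 41 + (1) * ζ ^ 45) * h4)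
  · exact isTh_of L _ _ (fun k => (ζ ^ k) ^ 1 - (ζ ^ k) ^ 6) (fun k => (ω ^ k) ^ 2 - (ω ^ k) ^ 5)
      (by intro k; simp only [Pi.sub_apply, Pi.add_apply, hak]) (by intro k; simp only [Pi.sub_apply, Pi.add_apply, hbk])
      (IsGeneralizedCharacter.sub (ha 1) (ha 6)) (IsGeneralizedCharacter.sub (hb 2) (hb 5))
      (by beta_reduce; ring) (by beta_reduce; ring)
      (by beta_reduce; linear_combination ((1) * ω ^ 4 + (1) * ω ^ 5 + (-1) * ω ^ 7 + (-1) * ω ^ 8) * hω) (by beta_reduce; linear_combination ((1) * ω ^ 8 + (1) * ω ^ 9 + (-1) * ω ^ 11 + (-1) * ω ^ 12 + (1) * ω ^ 14 + (1) * ω ^ 15 + (-1) * ω ^ 17 + (-1) * ω ^ 18) * hω)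
      (by beta_reduce; linear_combination ((12) + (-6) * ζ ^ 4 + (6) * ζ ^ 8 + (-6) * ζ ^ 12 + (6) * ζ ^ 16 + (-6) * ζ ^ 20) * h4 + ((-16) + (-16) * ω + (16) * ω ^ 3 + (16) * ω ^ 4 + (-8) * ω ^ 6 + (-8) * ω ^ 7 + (8) * ω ^ 9 + (8) * ω ^ 10 + (-8) * ω ^ 12 + (-8) * ω ^ 13) * hω) (by beta_reduce; linear_combination ((-2) + (1) * ζ ^ 2 + (2) * ζ ^ 4 + (-2) * ζ ^ 8 + (1) * ζ ^ 12 + (-1) * ζ ^ 16 + (1) * ζ ^ 20 + (-1) * ζ ^ 24 + (1) * ζ ^ 28 + (-1) * ζ ^ 32) * h4)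
      (by beta_reduce; linear_combination ((2) + (2) * ω + (1) * ω ^ 2 + (-1) * ω ^ 3 + (-2) * ω ^ 4 + (-2) * ω ^ 5 + (2) * ω ^ 7 + (2) * ω ^ 8 + (-1) * ω ^ 10 + (-1) * ω ^ 11 + (1) * ω ^ 13 + (1) * ω ^ 14 + (-1) * ω ^ 16 + (-1) * ω ^ 17 + (1) * ω ^ 19 + (1) * ω ^ 20 + (-1) * ω ^ 22 + (-1) * ω ^ 23) * hω) (by beta_reduce; linear_combination ((-1) * ζ ^ 6 + (1) * ζ ^ 10 + (-1) * ζ ^ 14) * h4)
      (by beta_reduce; linear_combination ((1) * ζ + (1) * ζ ^ 3 + (-1) * ζ ^ 30 + (1) * ζ ^ 34 + (-1) * ζ ^ 38) * h4)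
  · exact isTh_of L _ _ (fun k => (ζ ^ k) ^ 0 - (ζ ^ k) ^ 1 - (ζ ^ k) ^ 7 + (ζ ^ k) ^ 4) (fun k => (ω ^ k) ^ 1 - (ω ^ k) ^ 4)
      (by intro k; simp only [Pi.sub_apply, Pi.add_apply, hak]) (by intro k; simp only [Pi.sub_apply, Pi.add_apply, hbk])
      (IsGeneralizedCharacter.add (IsGeneralizedCharacter.sub (IsGeneralizedCharacter.sub (ha 0) (ha 1)) (ha 7)) (ha 4)) (IsGeneralizedCharacter.sub (hb 1) (hb 4))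
      (by beta_reduce; ring) (by beta_reduce; ring)
      (by beta_reduce; linear_combination ((1) * ω ^ 2 + (1) * ω ^ 3 + (-1) * ω ^ 5 + (-1) * ω ^ 6) * hω) (by beta_reduce; linear_combination ((1) * ω ^ 4 + (1) * ω ^ 5 + (-1) * ω ^ 7 + (-1) * ω ^ 8 + (1) * ω ^ 10 + (1) * ω ^ 11 + (-1) * ω ^ 13 + (-1) * ω ^ 14) * hω)
      (by beta_reduce; linear_combination ((-18) + (12) * ζ ^ 4 + (-12) * ζ ^ 8 + (12) * ζ ^ 12 + (-6) * ζ ^ 16 + (6) * ζ ^ 20 + (-6) * ζ ^ 24) * h4 + ((16) + (16) * ω + (-8) * ω ^ 3 + (-8) * ω ^ 4 + (8) * ω ^ 6 + (8) * ω ^ 7 + (-8) * ω ^ 9 + (-8) * ω ^ 10) * hω) (by beta_reduce; linear_combination ((-2) + (-1) * ζ ^ 2 + (2) * ζ ^ 4 + (-1) * ζ ^ 8 + (1) * ζ ^ 12 + (-1) * ζ ^ 14 + (-1) * ζ ^ 16 + (1) * ζ ^ 18 + (1) * ζ ^ 20 + (-1) * ζ ^ 22 + (1) * ζ ^ 26 + (-1) * ζ ^ 30 + (1) * ζ ^ 34 + (-1) * ζ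 ^ 38) * h4)
      (by beta_reduce; linear_combination ((-2) + (-1) * ω + (1) * ω ^ 2 + (2) * ω ^ 3 + (-1) * ω ^ 5 + (-1) * ω ^ 6 + (1) * ω ^ 8 + (1) * ω ^ 9 + (-1) * ω ^ 11 + (-1) * ω ^ 12 + (1) * ω ^ 14 + (1) * ω ^ 15 + (-1) * ω ^ 17 + (-1) * ω ^ 18) * hω) (by beta_reduce; linear_combination ((2) + (-1) * ζ + (-1) * ζ ^ 3 + (-1) * ζ ^ 4 + (1) * ζ ^ 5 + (1) * ζ ^ 8 + (-1) * ζ ^ 9 + (1) * ζ ^ 13 + (-1) * ζ ^ 17) * h4)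
      (by beta_reduce; linear_combination ((2) + (-2) * ζ ^ 4 + (-1) * ζ ^ 5 + (-1) * ζ ^ 7 + (2) * ζ ^ 8 + (1) * ζ ^ 9 + (1) * ζ ^ 11 + (-2) * ζ ^ 12 + (-1) * ζ ^ 13 + (-1) * ζ ^ 15 + (2) * ζ ^ 16 + (1) * ζ ^ 17 + (1) * ζ ^ 19 + (-1) * ζ ^ 20 + (-1) * ζ ^ 21 + (-1) * ζ ^ 23 + (1) * ζ ^ 24 + (1) * ζ ^ 25 + (1) * ζ ^ 27 + (-1) * ζ ^ 29 + (-1) * ζ ^ 31 + (1) * ζ ^ 33 + (-1) * ζ ^ 37 + (1) * ζ ^ 41 + (-1) * ζ ^ 45) * h4)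
  · exact isTh_of L _ _ (fun k => (ζ ^ k) ^ 0 - (ζ ^ k) ^ 2) (fun _ => 0)
      (by intro k; simp only [Pi.sub_apply, Pi.add_apply, hak]) (by intro k; rfl)
      (IsGeneralizedCharacter.sub (ha 0) (ha 2)) hz0
      (by beta_reduce; ring) (by beta_reduce; ring)
      (by beta_reduce; linear_combination (0) * hω) (by beta_reduce; linear_combination (0) * hω)
      (by beta_reduce; linear_combination ((6) + (-6) * ζ ^ 4) * h4 + (0) * hω) (by beta_reduce; linear_combination ((-2) + (1) * ζ ^ 4 + (-1) * ζ ^ 8) * h4)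
      (by beta_reduce; linear_combination (0) * hω) (by beta_reduce; linear_combination ((-1) * ζ ^ 2) * h4)
      (by beta_reduce; linear_combination ((-1) * ζ ^ 10) * h4)
  · exact isTh_of L _ _ (fun k => (ζ ^ k) ^ 4 - (ζ ^ k) ^ 2) (fun _ => 0)
      (by intro k; simp only [Pi.sub_apply, Pi.add_apply, hak]) (by intro k; rfl)
      (IsGeneralizedCharacter.sub (ha 4) (ha 2)) hz0
      (by beta_reduce; ring) (by beta_reduce; ring)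
      (by beta_reduce; linear_combination (0) * hω) (by beta_reduce; linear_combination (0) * hω)
      (by beta_reduce; linear_combination ((-6) * ζ ^ 8 + (6) * ζ ^ 12) * h4 + (0) * hω) (by beta_reduce; linear_combination ((-4) + (3) * ζ ^ 4 + (-2) * ζ ^ 8 + (1) * ζ ^ 12 + (-1) * ζ ^ 16 + (1) * ζ ^ 20) * h4)
      (by beta_reduce; linear_combination (0) * hω) (by beta_reduce; linear_combination ((2) + (-1) * ζ ^ 2 + (-1) * ζ ^ 4 + (1) * ζ ^ 8) * h4)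
      (by beta_reduce; linear_combination ((2) + (-2) * ζ ^ 4 + (2) * ζ ^ 8 + (-1) * ζ ^ 10 + (-2) * ζ ^ 12 + (2) * ζ ^ 16 + (-1) * ζ ^ 20 + (1) * ζ ^ 24) * h4)

end Cfsg.Agent.Lib.Helper8.Gl
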