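import Mathlib
import Cfsg.Agent.Lib.Helper8.GlF
import Cfsg.Agent.Lib.Helper6.GenChar
import Cfsg.Agent.Lib.Helper6.BlkPrincipal
import Cfsg.Agent.Lib.Helper6.Constituent

/-! From the five generalized characters to integer data on `Irr(G)`. -/

set_option autoImplicit false
set_option maxHeartbeats 1600000

namespace Cfsg.Agent.Lib.Helper8.Gl

open scoped ComplexConjugate
open Cfsg.Agent.Lib.Helper6

variable {G : Type*} [Group G] [Fintype G]

theorem gram_entry [Fintype (Cfsg.IrrCharacter G)] {t v y : G} {Θ Θ' : G → ℂ}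
    {a b c d e a' b' c' d' e' : ℂ}
    (Ti : IsTh t v y Θ a b c d e) (Tj : IsTh t v y Θ' a' b' c' d' e')
    (mi mj : Cfsg.IrrCharacter G → ℤ)
    (hmi : Θ = ∑ β, (mi β : ℂ) • (β : G → ℂ)) (hmj : Θ' = ∑ β, (mj β : ℂ) • (β : G → ℂ))
    (z : ℤ) (hz : a * conj a' + 6 * b * conj b' + 8 * c * conj c' + 6 * d * conj d'
      + 6 * e * conj e' = 48 * z) : ∑ β, mi β * mj β = z := by
  have h1 := Ti.inner Θ' (IsGeneralizedCharacter.isClassFunction Tj.gen)
  rw [Tj.vt, Tj.vu, Tj.vy, Tj.vv, Tj.vw, hz] at h1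
  have h2 : Cfsg.classInner Θ Θ' = ((∑ β, mi β * mj β : ℤ) : ℂ) := by
    conv_lhs => rw [hmi, hmj]
    exact classInner_sum_int mi mj
  rw [h2] at h1
  have h3 : ((∑ β, mi β * mj β : ℤ) : ℂ) = (z : ℂ) := by
    have : (48 : ℂ) ≠ 0 := by norm_num
    exact mul_left_cancel₀ this h1
  exact_mod_cast h3

theorem one_entry [Fintype (Cfsg.IrrCharacter G)] {t v y : G} {Θ : G → ℂ} {a b c d e : ℂ}
    (Ti : IsTh t v y Θ a b c d e) (mi : Cfsg.IrrCharacter G → ℤ)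
    (hmi : ∀ β : Cfsg.IrrCharacter G, Cfsg.classInner Θ (β : G → ℂ) = mi β)
    (z : ℤ) (hz : a + 6 * b + 8 * c + 6 * d + 6 * e = 48 * z) : mi (oneIrr G) = z := by
  have h1 := Ti.inner (fun _ => (1 : ℂ)) (fun _ _ => rfl)
  have h0 := hmi (oneIrr G)
  have h2 : ((oneIrr G : Cfsg.IrrCharacter G) : G → ℂ) = fun _ => (1 : ℂ) := rfl
  rw [h2] at h0
  rw [h0] at h1
  simp only [map_one, mul_one] at h1
  rw [hz] at h1
  have : (48 : ℂ) ≠ 0 := by norm_num
  have h3 := mul_left_cancel₀ this h1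
  exact_mod_cast h3

theorem deg_entry [Fintype (Cfsg.IrrCharacter G)] {t v y : G} {Θ : G → ℂ} {a b c d e : ℂ}
    (Ti : IsTh t v y Θ a b c d e) (mi : Cfsg.IrrCharacter G → ℤ)
    (hmi : Θ = ∑ β, (mi β : ℂ) • (β : G → ℂ)) :
    ∑ β : Cfsg.IrrCharacter G, mi β * (Cfsg.charDegree (β : G → ℂ) : ℤ) = 0 := by
  have h1 := Ti.one
  rw [hmi] at h1
  simp only [Finset.sum_apply, Pi.smul_apply, smul_eq_mul] at h1
  have h2 : ∑ β : Cfsg.IrrCharacter G, (mi β : ℂ) * (β : G → ℂ) 1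
      = ((∑ β : Cfsg.IrrCharacter G, mi β * (Cfsg.charDegree (β : G → ℂ) : ℤ) : ℤ) : ℂ) := by
    push_cast
    apply Finset.sum_congr rfl
    intro β _
    rw [IsCharacter.apply_one_eq_charDegree (IsIrrCharacter.isCharacter β.2)]
  rw [h2] at h1
  exact_mod_cast h1

end Cfsg.Agent.Lib.Helper8.Gl
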