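import Mathlib

/-! Arithmetic endgame for the `GL(2,3)` centralizer problem. -/

set_option autoImplicit false
set_option maxHeartbeats 1600000

namespace Cfsg.Agent.Lib.Helper8.Gl

theorem arith_S (S Δ : ℤ) (hS4 : S % 4 = 2) (h : (S - 8) * Δ = -(S * (S + 1))) :
    (S = 10 ∧ Δ = -55) ∨ (S = 6 ∧ Δ = 21) ∨ (S = 14 ∧ Δ = -35) ∨ (S = 2 ∧ Δ = 1) ∨
      (S = 26 ∧ Δ = -39) ∨ (S = -10 ∧ Δ = 5) := by
  obtain ⟨k, hk⟩ : ∃ k : ℤ, k = S - 8 := ⟨_, rfl⟩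
  have hS : S = k + 8 := by omega
  subst hS
  have hd : k ∣ 72 := by
    refine ⟨-(Δ + k + 17), ?_⟩
    have : (k + 8 - 8) * Δ = k * Δ := by ring
    nlinarith
  have hk0 : k ≠ 0 := by
    rintro rfl
    norm_num at hd
  have h1 : k ≤ 72 := Int.le_of_dvd (by norm_num) hd
  have h2 : -72 ≤ k := by
    have : -k ∣ 72 := (neg_dvd).mpr hd
    have := Int.le_of_dvd (by norm_num) this
    omega
  have h3 : k % 4 = 2 := by omega
  obtain ⟨c, hc⟩ := hd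
  have hΔ : Δ = -(c + k + 17) := by
    have h5 : k * Δ = -((k + 8) * (k + 8 + 1)) := by
      rw [← h]; ring
    have h6 : k * Δ = k * (-(c + k + 17)) := by
      rw [h5]
      have : (k + 8) * (k + 8 + 1) = k * (k + 17) + 72 := by ring
      rw [this, hc]; ring
    exact mul_left_cancel₀ hk0 h6
  subst hΔ
  interval_cases k <;> omega

theorem arith_main (n S Δ N : ℤ) (hn : 0 < n) (h32 : ¬ (32 : ℤ) ∣ n) (hS4 : S % 4 = 2)
    (hΔ1 : Δ ≠ 1) (hN : N = 0 ∨ N = 4)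
    (hv : Δ * (1 + S) * (Δ + S) - (1 + S) * (Δ + S) - 9 * Δ * (Δ + S) + 9 * Δ * (1 + S) = 0)
    (hu : n * (S * Δ * (1 + S) * (Δ + S) + 8 * Δ * (1 + S) * (Δ + S) - 9 * S * Δ * (Δ + S)
        + S * (1 + S) * (Δ + S) - 9 * S * Δ * (1 + S)) = 2304 * N * (S * Δ * (1 + S) * (Δ + S))) :
    n = 5616 ∨ n = 7920 := by
  have h1 : (Δ - 1) * ((S - 8) * Δ + S * (S + 1)) = 0 := by linear_combination hv
  have h2 : (S - 8) * Δ = -(S * (S + 1)) := by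
    rcases mul_eq_zero.mp h1 with h | h
    · exact absurd (by omega) hΔ1
    · linarith
  rcases arith_S S Δ hS4 h2 with ⟨rfl, rfl⟩ | ⟨rfl, rfl⟩ | ⟨rfl, rfl⟩ | ⟨rfl, rfl⟩ | ⟨rfl, rfl⟩ |
    ⟨rfl, rfl⟩
  all_goals rcases hN with rfl | rfl
  all_goals norm_num at hu
  all_goals first
    | omega
    | (exfalso; apply h32; omega)
    | (exfalso; omega)

end Cfsg.Agent.Lib.Helper8.Gl
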