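import Mathlib
import Cfsg.Agent.Lib.Helper8.GlG

/-! Integer data on `Irr(G)` extracted from the five generalized characters. -/

set_option autoImplicit false
set_option maxHeartbeats 1600000

namespace Cfsg.Agent.Lib.Helper8.Gl

open scoped ComplexConjugate
open Cfsg.Agent.Lib.Helper6

variable {G : Type*} [Group G] [Fintype G]

/-- the values of a class function on `t, v², v` from its inner products with the `Θᵢ` -/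
theorem values_of_inner {t v y : G} {w : ℂ} (hw2 : w ^ 2 = -2) {Θ₁ Θ₂ Θ₃ Θ₄ Θ₅ : G → ℂ}
    (T1 : IsTh t v y Θ₁ 4 2 (-2) (-w) w) (T2 : IsTh t v y Θ₂ 4 2 (-2) w (-w))
    (T3 : IsTh t v y Θ₃ 8 4 2 0 0) (T4 : IsTh t v y Θ₄ 0 4 0 2 2)
    (T5 : IsTh t v y Θ₅ 0 4 0 (-2) (-2)) (χ : G → ℂ) (hχ : Cfsg.IsClassFunction G χ)
    (m₁ m₂ m₃ m₄ m₅ : ℂ) (h1 : Cfsg.classInner Θ₁ χ = m₁) (h2 : Cfsg.classInner Θ₂ χ = m₂)
    (h3 : Cfsg.classInner Θ₃ χ = m₃) (h4 : Cfsg.classInner Θ₄ χ = m₄)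
    (h5 : Cfsg.classInner Θ₅ χ = m₅) :
    conj (χ t) = 2 * m₁ + 2 * m₂ + 4 * m₃ - 3 * m₄ - 3 * m₅ ∧ conj (χ (v ^ 2)) = m₄ + m₅ ∧
      conj (χ v) = (m₄ - m₅) + w * (m₁ - m₂) := by
  have e1 := T1.inner χ hχ
  have e2 := T2.inner χ hχ
  have e3 := T3.inner χ hχ
  have e4 := T4.inner χ hχ
  have e5 := T5.inner χ hχ
  rw [h1] at e1
  rw [h2] at e2
  rw [h3] at e3
  rw [h4] at e4
  rw [h5] at e5
  refine ⟨?_, ?_, ?_⟩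
  · linear_combination (-2 / 48 : ℂ) * e1 + (-2 / 48 : ℂ) * e2 + (-4 / 48 : ℂ) * e3
      + (3 / 48 : ℂ) * e4 + (3 / 48 : ℂ) * e5
  · linear_combination (-1 / 48 : ℂ) * e4 + (-1 / 48 : ℂ) * e5
  · linear_combination (-1 / 48 : ℂ) * e4 + (1 / 48 : ℂ) * e5 + (-w / 48) * e1 + (w / 48) * e2
      + ((conj (χ v) - conj (χ (v ^ 5))) / 4) * hw2

/-- the integer data -/
structure Data (G : Type*) [Group G] [Fintype G] [Fintype (Cfsg.IrrCharacter G)] (t v : G) (w : ℂ)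
    (m₁ m₂ m₃ m₄ m₅ : Cfsg.IrrCharacter G → ℤ) : Prop where
  hw2 : w ^ 2 = -2
  h11 : ∑ i, m₁ i * m₁ i = 2
  h22 : ∑ i, m₂ i * m₂ i = 2
  h33 : ∑ i, m₃ i * m₃ i = 4
  h44 : ∑ i, m₄ i * m₄ i = 3
  h55 : ∑ i, m₅ i * m₅ i = 3
  h12 : ∑ i, m₁ i * m₂ i = 1
  h13 : ∑ i, m₁ i * m₃ i = 1
  h14 : ∑ i, m₁ i * m₄ i = 1
  h15 : ∑ i, m₁ i * m₅ i = 1
  h23 : ∑ i, m₂ i * m₃ i = 1
  h24 : ∑ i, m₂ i * m₄ i = 1
  h25 : ∑ i, m₂ i * m₅ i = 1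
  h34 : ∑ i, m₃ i * m₄ i = 2
  h35 : ∑ i, m₃ i * m₅ i = 2
  h45 : ∑ i, m₄ i * m₅ i = 1
  ho1 : m₁ (oneIrr G) = 0
  ho2 : m₂ (oneIrr G) = 0
  ho3 : m₃ (oneIrr G) = 1
  ho4 : m₄ (oneIrr G) = 1
  ho5 : m₅ (oneIrr G) = 0
  hz1 : ∑ i, m₁ i * (Cfsg.charDegree (i : G → ℂ) : ℤ) = 0
  hz2 : ∑ i, m₂ i * (Cfsg.charDegree (i : G → ℂ) : ℤ) = 0
  hz3 : ∑ i, m₃ i * (Cfsg.charDegree (i : G → ℂ) : ℤ) = 0
  hz4 : ∑ i, m₄ i * (Cfsg.charDegree (i : G → ℂ) : ℤ) = 0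
  hz5 : ∑ i, m₅ i * (Cfsg.charDegree (i : G → ℂ) : ℤ) = 0
  vt : ∀ β : Cfsg.IrrCharacter G,
    (β : G → ℂ) t = ((2 * m₁ β + 2 * m₂ β + 4 * m₃ β - 3 * m₄ β - 3 * m₅ β : ℤ) : ℂ)
  vu : ∀ β : Cfsg.IrrCharacter G, conj ((β : G → ℂ) (v ^ 2)) = ((m₄ β + m₅ β : ℤ) : ℂ)
  vv : ∀ β : Cfsg.IrrCharacter G,
    conj ((β : G → ℂ) v) = ((m₄ β - m₅ β : ℤ) : ℂ) + w * ((m₁ β - m₂ β : ℤ) : ℂ)

theorem exists_data [Fintype (Cfsg.IrrCharacter G)] {t v y : G} (L : Loc G t v y) :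
    ∃ (w : ℂ) (m₁ m₂ m₃ m₄ m₅ : Cfsg.IrrCharacter G → ℤ), Data G t v w m₁ m₂ m₃ m₄ m₅ := by
  obtain ⟨w, hw2, hwc, Θ₁, Θ₂, Θ₃, Θ₄, Θ₅, T1, T2, T3, T4, T5⟩ := exists_thetas L
  obtain ⟨m₁, hm1, hm1'⟩ := IsGeneralizedCharacter.exists_int_coeff T1.gen
  obtain ⟨m₂, hm2, hm2'⟩ := IsGeneralizedCharacter.exists_int_coeff T2.gen
  obtain ⟨m₃, hm3, hm3'⟩ := IsGeneralizedCharacter.exists_int_coeff T3.gen
  obtain ⟨m₄, hm4, hm4'⟩ := IsGeneralizedCharacter.exists_int_coeff T4.gen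
  obtain ⟨m₅, hm5, hm5'⟩ := IsGeneralizedCharacter.exists_int_coeff T5.gen
  have hvals : ∀ β : Cfsg.IrrCharacter G,
      conj ((β : G → ℂ) t) = 2 * (m₁ β : ℂ) + 2 * (m₂ β : ℂ) + 4 * (m₃ β : ℂ) - 3 * (m₄ β : ℂ)
        - 3 * (m₅ β : ℂ) ∧
      conj ((β : G → ℂ) (v ^ 2)) = (m₄ β : ℂ) + (m₅ β : ℂ) ∧
      conj ((β : G → ℂ) v) = ((m₄ β : ℂ) - (m₅ β : ℂ)) + w * ((m₁ β : ℂ) - (m₂ β : ℂ)) := by
    intro β
    exact values_of_inner hw2 T1 T2 T3 T4 T5 (β : G → ℂ)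
      (IsCharacter.isClassFunction (IsIrrCharacter.isCharacter β.2)) _ _ _ _ _
      (hm1' β) (hm2' β) (hm3' β) (hm4' β) (hm5' β)
  refine ⟨w, m₁, m₂, m₃, m₄, m₅, ?_⟩
  refine
    { hw2 := hw2
      h11 := gram_entry T1 T1 m₁ m₁ hm1 hm1 2 ?_
      h22 := gram_entry T2 T2 m₂ m₂ hm2 hm2 2 ?_
      h33 := gram_entry T3 T3 m₃ m₃ hm3 hm3 4 ?_
      h44 := gram_entry T4 T4 m₄ m₄ hm4 hm4 3 ?_
      h55 := gram_entry T5 T5 m₅ m₅ hm5 hm5 3 ?_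
      h12 := gram_entry T1 T2 m₁ m₂ hm1 hm2 1 ?_
      h13 := gram_entry T1 T3 m₁ m₃ hm1 hm3 1 ?_
      h14 := gram_entry T1 T4 m₁ m₄ hm1 hm4 1 ?_
      h15 := gram_entry T1 T5 m₁ m₅ hm1 hm5 1 ?_
      h23 := gram_entry T2 T3 m₂ m₃ hm2 hm3 1 ?_
      h24 := gram_entry T2 T4 m₂ m₄ hm2 hm4 1 ?_
      h25 := gram_entry T2 T5 m₂ m₅ hm2 hm5 1 ?_
      h34 := gram_entry T3 T4 m₃ m₄ hm3 hm4 2 ?_
      h35 := gram_entry T3 T5 m₃ m₅ hm3 hm5 2 ?_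
      h45 := gram_entry T4 T5 m₄ m₅ hm4 hm5 1 ?_
      ho1 := one_entry T1 m₁ hm1' 0 (by push_cast; ring)
      ho2 := one_entry T2 m₂ hm2' 0 (by push_cast; ring)
      ho3 := one_entry T3 m₃ hm3' 1 (by push_cast; ring)
      ho4 := one_entry T4 m₄ hm4' 1 (by push_cast; ring)
      ho5 := one_entry T5 m₅ hm5' 0 (by push_cast; ring)
      hz1 := deg_entry T1 m₁ hm1
      hz2 := deg_entry T2 m₂ hm2
      hz3 := deg_entry T3 m₃ hm3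
      hz4 := deg_entry T4 m₄ hm4
      hz5 := deg_entry T5 m₅ hm5
      vt := ?_
      vu := ?_
      vv := ?_ }
  all_goals first
    | (simp only [map_neg, map_ofNat, map_zero, hwc]; push_cast; linear_combination (6 : ℂ) * hw2)
    | (simp only [map_neg, map_ofNat, map_zero, hwc]; push_cast; linear_combination (-6 : ℂ) * hw2)
    | (simp only [map_neg, map_ofNat, map_zero, hwc]; push_cast; linear_combination (-12 : ℂ) * hw2)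
    | (simp only [map_neg, map_ofNat, map_zero, hwc]; push_cast; linear_combination (12 : ℂ) * hw2)
    | (simp only [map_neg, map_ofNat, map_zero, hwc]; push_cast; ring)
    | skip
  · intro β
    have h := (hvals β).1
    have h2 : (β : G → ℂ) t = conj (conj ((β : G → ℂ) t)) := (Complex.conj_conj _).symm
    rw [h2, h]
    simp only [map_sub, map_add, map_mul, map_ofNat, map_intCast]
    push_cast
    ring
  · intro β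
    rw [(hvals β).2.1]
    push_cast
    ring
  · intro β
    rw [(hvals β).2.2]
    push_cast
    ring

end Cfsg.Agent.Lib.Helper8.Gl
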