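import Mathlib

/-! Evaluation of the multiplicity functions at the special characters. -/

set_option autoImplicit false
set_option maxHeartbeats 1600000

namespace Cfsg.Agent.Lib.Helper8.Gl

theorem special_vals {ι : Type*} [DecidableEq ι] (o sg h₁ h₂ pi d pi' om : ι)
    (ε επ εd επ' εω : ℤ) (m₁ m₂ m₃ m₄ m₅ : ι → ℤ)
    (hnd : [o, sg, h₁, h₂, pi, d, pi', om].Nodup)
    (hm1 : ∀ i, m₁ i = ε * ((if i = sg then 1 else 0) - (if i = h₁ then 1 else 0)))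
    (hm2 : ∀ i, m₂ i = ε * ((if i = sg then 1 else 0) - (if i = h₂ then 1 else 0)))
    (hm4 : ∀ i, m₄ i = (if i = o then 1 else 0) + ε * (if i = sg then 1 else 0)
          - επ * (if i = pi then 1 else 0))
    (hm5 : ∀ i, m₅ i = εd * (if i = d then 1 else 0) + ε * (if i = sg then 1 else 0)
          - επ' * (if i = pi' then 1 else 0))
    (hm3 : ∀ i, m₃ i = (if i = o then 1 else 0) + εd * (if i = d then 1 else 0)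
          + ε * (if i = sg then 1 else 0) - εω * (if i = om then 1 else 0)) :
    (m₁ o = 0 ∧ m₂ o = 0 ∧ m₃ o = 1 ∧ m₄ o = 1 ∧ m₅ o = 0) ∧
    (m₁ sg = ε ∧ m₂ sg = ε ∧ m₃ sg = ε ∧ m₄ sg = ε ∧ m₅ sg = ε) ∧
    (m₁ h₁ = -ε ∧ m₂ h₁ = 0 ∧ m₃ h₁ = 0 ∧ m₄ h₁ = 0 ∧ m₅ h₁ = 0) ∧
    (m₁ h₂ = 0 ∧ m₂ h₂ = -ε ∧ m₃ h₂ = 0 ∧ m₄ h₂ = 0 ∧ m₅ h₂ = 0) ∧
    (m₁ pi = 0 ∧ m₂ pi = 0 ∧ m₃ pi = 0 ∧ m₄ pi = -επ ∧ m₅ pi = 0) ∧
    (m₁ d = 0 ∧ m₂ d = 0 ∧ m₃ d = εd ∧ m₄ d = 0 ∧ m₅ d = εd) ∧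
    (m₁ pi' = 0 ∧ m₂ pi' = 0 ∧ m₃ pi' = 0 ∧ m₄ pi' = 0 ∧ m₅ pi' = -επ') ∧
    (m₁ om = 0 ∧ m₂ om = 0 ∧ m₃ om = -εω ∧ m₄ om = 0 ∧ m₅ om = 0) ∧
    (∀ β, β ∉ [o, sg, h₁, h₂, pi, d, pi', om] →
      m₁ β = 0 ∧ m₂ β = 0 ∧ m₃ β = 0 ∧ m₄ β = 0 ∧ m₅ β = 0) := by
  have hne := hnd
  simp only [List.nodup_cons, List.mem_cons, List.mem_singleton, List.not_mem_nil, not_or,
    or_false, List.nodup_nil, and_true, not_false_eq_true] at hne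
  obtain ⟨⟨n01, n02, n03, n04, n05, n06, n07⟩, ⟨n12, n13, n14, n15, n16, n17⟩, ⟨n23, n24, n25, n26, n27⟩, ⟨n34, n35, n36, n37⟩, ⟨n45, n46, n47⟩, ⟨n56, n57⟩, n67⟩ := hne
  refine ⟨⟨?_, ?_, ?_, ?_, ?_⟩, ⟨?_, ?_, ?_, ?_, ?_⟩, ⟨?_, ?_, ?_, ?_, ?_⟩, ⟨?_, ?_, ?_, ?_, ?_⟩,
    ⟨?_, ?_, ?_, ?_, ?_⟩, ⟨?_, ?_, ?_, ?_, ?_⟩, ⟨?_, ?_, ?_, ?_, ?_⟩, ⟨?_, ?_, ?_, ?_, ?_⟩, ?_⟩
  all_goals first
    | (rw [hm1]; simp [n01, Ne.symm n01, n02, Ne.symm n02, n03, Ne.symm n03, n04, Ne.symm n04, n05, Ne.symm n05, n06, Ne.symm n06, n07, Ne.symm n07, n12, Ne.symm n12, n13, Ne.symm n13, n14, Ne.symm n14, n15, Ne.symm n15, n16, Ne.symm n16, n17, Ne.symm n17, n23, Ne.symm n23, n24, Ne.symm n24, n25, Ne.symm n25, n26, Ne.symm n26, n27, Ne.symm n27, n34, Ne.symm n34, n35, Ne.symm n35, n36, Ne.symm n36, n37, Ne.symm n37, n45, Ne.symm n45, n46, Ne.symm n46,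 n47, Ne.symm n47, n56, Ne.symm n56, n57, Ne.symm n57, n67, Ne.symm n67])
    | (rw [hm2]; simp [n01, Ne.symm n01, n02, Ne.symm n02, n03, Ne.symm n03, n04, Ne.symm n04, n05, Ne.symm n05, n06, Ne.symm n06, n07, Ne.symm n07, n12, Ne.symm n12, n13, Ne.symm n13, n14, Ne.symm n14, n15, Ne.symm n15, n16, Ne.symm n16, n17, Ne.symm n17, n23, Ne.symm n23, n24, Ne.symm n24, n25, Ne.symm n25, n26, Ne.symm n26, n27, Ne.symm n27, n34, Ne.symm n34, n35, Ne.symm n35, n36, Ne.symm n36, n37, Ne.symm n37, n45, Ne.symm n45, n46, Ne.symm n46, n47, Ne.symm n47, n56, Ne.symm n56, n57, Ne.symm n57, n67, Ne.symm n67])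
    | (rw [hm3]; simp [n01, Ne.symm n01, n02, Ne.symm n02, n03, Ne.symm n03, n04, Ne.symm n04, n05, Ne.symm n05, n06, Ne.symm n06, n07, Ne.symm n07, n12, Ne.symm n12, n13, Ne.symm n13, n14, Ne.symm n14, n15, Ne.symm n15, n16, Ne.symm n16, n17, Ne.symm n17, n23, Ne.symm n23, n24, Ne.symm n24, n25, Ne.symm n25, n26, Ne.symm n26, n27, Ne.symm n27, n34, Ne.symm n34, n35, Ne.symm n35, n36, Ne.symm n36, n37, Ne.symm n37, n45, Ne.symm n45, n46, Ne.symm n46, n47, Ne.symm n47, n56, Ne.symm n56, n57, Ne.symm n57, n67, Ne.symm n67])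
    | (rw [hm4]; simp [n01, Ne.symm n01, n02, Ne.symm n02, n03, Ne.symm n03, n04, Ne.symm n04, n05, Ne.symm n05, n06, Ne.symm n06, n07, Ne.symm n07, n12, Ne.symm n12, n13, Ne.symm n13, n14, Ne.symm n14, n15, Ne.symm n15, n16, Ne.symm n16, n17, Ne.symm n17, n23, Ne.symm n23, n24, Ne.symm n24, n25, Ne.symm n25, n26, Ne.symm n26, n27, Ne.symm n27, n34, Ne.symm n34, n35, Ne.symm n35, n36, Ne.symm n36, n37, Ne.symm n37, n45, Ne.symm n45, n46, Ne.symm n46, n47, Ne.symm n47, n56, Ne.symm n56, n57, Ne.symm n57, n67, Ne.symm n67])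
    | (rw [hm5]; simp [n01, Ne.symm n01, n02, Ne.symm n02, n03, Ne.symm n03, n04, Ne.symm n04, n05, Ne.symm n05, n06, Ne.symm n06, n07, Ne.symm n07, n12, Ne.symm n12, n13, Ne.symm n13, n14, Ne.symm n14, n15, Ne.symm n15, n16, Ne.symm n16, n17, Ne.symm n17, n23, Ne.symm n23, n24, Ne.symm n24, n25, Ne.symm n25, n26, Ne.symm n26, n27, Ne.symm n27, n34, Ne.symm n34, n35, Ne.symm n35, n36, Ne.symm n36, n37, Ne.symm n37, n45, Ne.symm n45, n46, Ne.symm n46, n47, Ne.symm n47, n56, Ne.symm n56, n57, Ne.symm n57, n67, Ne.symm n67])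
    | skip
  intro β hβ
  simp only [List.mem_cons, List.mem_singleton, List.not_mem_nil, not_or, or_false] at hβ
  obtain ⟨b0, b1, b2, b3, b4, b5, b6, b7⟩ := hβ
  refine ⟨?_, ?_, ?_, ?_, ?_⟩
  · rw [hm1]; simp [b0, b1, b2, b3, b4, b5, b6, b7]
  · rw [hm2]; simp [b0, b1, b2, b3, b4, b5, b6, b7]
  · rw [hm3]; simp [b0, b1, b2, b3, b4, b5, b6, b7]
  · rw [hm4]; simp [b0, b1, b2, b3, b4, b5, b6, b7]
  · rw [hm5]; simp [b0, b1, b2, b3, b4, b5, b6, b7]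

end Cfsg.Agent.Lib.Helper8.Gl
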