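import Mathlib
import Cfsg.Agent.Lib.Helper8.GlJ
import Cfsg.Agent.Lib.Helper8.GlK
import Cfsg.Agent.Lib.Helper8.GlH
import Cfsg.Agent.Lib.Helper7.GlComb
import Cfsg.Agent.Lib.Helper6.ClassMult
import Cfsg.Agent.Lib.Helper6.D8Cent3

/-! The endgame: from the integer data to the order of `G`. -/

set_option autoImplicit false
set_option maxHeartbeats 3200000
set_option linter.unusedSimpArgs false

namespace Cfsg.Agent.Lib.Helper8.Gl

open scoped ComplexConjugate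
open Cfsg.Agent.Lib.Helper6

theorem sum_eq_list {ι M : Type*} [Fintype ι] [DecidableEq ι] [AddCommMonoid M] (f : ι → M)
    (l : List ι) (hl : l.Nodup) (h0 : ∀ β, β ∉ l → f β = 0) : ∑ β, f β = (l.map f).sum := by
  rw [← List.sum_toFinset f hl]
  symm
  apply Finset.sum_subset (Finset.subset_univ _)
  intro β _ hβ
  exact h0 β (by simpa using hβ)

variable {G : Type*} [Group G] [Fintype G]

theorem final_of_data [Fintype (Cfsg.IrrCharacter G)] {t v : G} {w : ℂ}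
    {m₁ m₂ m₃ m₄ m₅ : Cfsg.IrrCharacter G → ℤ} (D : Data G t v w m₁ m₂ m₃ m₄ m₅)
    (hperf : commutator G = ⊤) (hct : Nat.card (Subgroup.centralizer ({t} : Set G)) = 48)
    (hNv : Nat.card {p : G × G // IsConj t p.1 ∧ IsConj t p.2 ∧ p.1 * p.2 = v} = 0)
    (N : ℕ) (hNu : Nat.card {p : G × G // IsConj t p.1 ∧ IsConj t p.2 ∧ p.1 * p.2 = v ^ 2} = N)
    (hN : N = 0 ∨ N = 4) (h32 : ¬ 32 ∣ Nat.card G)
    (hmod : ∀ β : Cfsg.IrrCharacter G, (4 : ℤ) ∣ (Cfsg.charDegree (β : G → ℂ) : ℤ)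
      - (2 * m₁ β + 2 * m₂ β + 4 * m₃ β - 3 * m₄ β - 3 * m₅ β)) :
    Nat.card G = 5616 ∨ Nat.card G = 7920 := by
  classical
  obtain ⟨deg, hdegdef⟩ : ∃ deg : Cfsg.IrrCharacter G → ℤ,
      deg = fun β : Cfsg.IrrCharacter G => (Cfsg.charDegree (β : G → ℂ) : ℤ) := ⟨_, rfl⟩
  have hdegv : ∀ β : Cfsg.IrrCharacter G, (β : G → ℂ) 1 = (deg β : ℂ) := by
    intro β
    rw [hdegdef, IsCharacter.apply_one_eq_charDegree (IsIrrCharacter.isCharacter β.2)]
    push_cast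
    rfl
  have hdeg : ∀ β, 0 < deg β := by
    intro β
    rw [hdegdef]
    simp only
    exact_mod_cast IsIrrCharacter.charDegree_pos β.2
  have hdo : deg (oneIrr G) = 1 := by
    rw [hdegdef]
    have : Cfsg.charDegree ((oneIrr G : Cfsg.IrrCharacter G) : G → ℂ) = 1 := charDegree_one_fun
    simp only [this]
    rfl
  have hz1 : ∑ i, m₁ i * deg i = 0 := by rw [hdegdef]; exact D.hz1
  have hz2 : ∑ i, m₂ i * deg i = 0 := by rw [hdegdef]; exact D.hz2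
  have hz4 : ∑ i, m₄ i * deg i = 0 := by rw [hdegdef]; exact D.hz4
  have hz5 : ∑ i, m₅ i * deg i = 0 := by rw [hdegdef]; exact D.hz5
  obtain ⟨ε, επ, εd, επ', εω, sg, h1, h2, pi, d, pi', om, hε, hεπ, hεd, hεπ', hεω, hnd, hm1, hm2,
      hm4, hm5, hm3⟩ :=
    Cfsg.Agent.Lib.Helper7.GlComb.coherence_comb (oneIrr G) deg hdeg hdo m₁ m₂ m₃ m₄ m₅ D.h11 D.h22 D.h33 D.h44 D.h55
      D.h12 D.h13 D.h14 D.h15 D.h23 D.h24 D.h25 D.h34 D.h35 D.h45 D.ho1 D.ho2 D.ho3 D.ho4 D.ho5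
      hz1 hz2 hz4 hz5
  obtain ⟨⟨vo1, vo2, vo3, vo4, vo5⟩, ⟨vsg1, vsg2, vsg3, vsg4, vsg5⟩, ⟨vh11, vh12, vh13, vh14, vh15⟩, ⟨vh21, vh22, vh23, vh24, vh25⟩, ⟨vpi1, vpi2, vpi3, vpi4, vpi5⟩, ⟨vd1, vd2, vd3, vd4, vd5⟩, ⟨vpi'1, vpi'2, vpi'3, vpi'4, vpi'5⟩, ⟨vom1, vom2, vom3, vom4, vom5⟩, vout⟩ :=
    special_vals (oneIrr G) sg h1 h2 pi d pi' om ε επ εd επ' εω m₁ m₂ m₃ m₄ m₅ hnd hm1 hm2 hm4 hm5
      hm3
  -- the list
  obtain ⟨l, hl⟩ : ∃ l : List (Cfsg.IrrCharacter G), l = [oneIrr G, sg, h1, h2, pi, d, pi', om] :=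
    ⟨_, rfl⟩
  have hndl : l.Nodup := by rw [hl]; exact hnd
  have voutl : ∀ β, β ∉ l → m₁ β = 0 ∧ m₂ β = 0 ∧ m₃ β = 0 ∧ m₄ β = 0 ∧ m₅ β = 0 := by
    rw [hl]; exact vout
  -- degree relations
  have hd1 : ε * deg sg - ε * deg h1 = 0 := by
    have h := sum_eq_list (fun β => m₁ β * deg β) l hndl (fun β hβ => by
      simp only [(voutl β hβ).1, zero_mul])
    rw [hz1, hl] at h
    simp only [List.map_cons, List.map_nil, List.sum_cons, List.sum_nil, vo1, vo2, vo3, vo4, vo5, vsg1, vsg2, vsg3, vsg4, vsg5, vh11, vh12, vh13, vh14, vh15, vh21, vh22, vh23, vh24, vh25, vpi1, vpi2, vpi3, vpi4, vpi5, vd1, vd2, vd3, vd4, vd5, vpi'1, vpi'2, vpi'3, vpi'4, vpi'5, vom1, vom2, vom3, vom4, vom5] at h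
    linarith
  have hd2 : ε * deg sg - ε * deg h2 = 0 := by
    have h := sum_eq_list (fun β => m₂ β * deg β) l hndl (fun β hβ => by
      simp only [(voutl β hβ).2.1, zero_mul])
    rw [hz2, hl] at h
    simp only [List.map_cons, List.map_nil, List.sum_cons, List.sum_nil, vo1, vo2, vo3, vo4, vo5, vsg1, vsg2, vsg3, vsg4, vsg5, vh11, vh12, vh13, vh14, vh15, vh21, vh22, vh23, vh24, vh25, vpi1, vpi2, vpi3, vpi4, vpi5, vd1, vd2, vd3, vd4, vd5, vpi'1, vpi'2, vpi'3, vpi'4, vpi'5, vom1, vom2, vom3, vom4, vom5] at h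
    linarith
  have hd4 : 1 + ε * deg sg - επ * deg pi = 0 := by
    have h := sum_eq_list (fun β => m₄ β * deg β) l hndl (fun β hβ => by
      simp only [(voutl β hβ).2.2.2.1, zero_mul])
    rw [hz4, hl] at h
    simp only [List.map_cons, List.map_nil, List.sum_cons, List.sum_nil, vo1, vo2, vo3, vo4, vo5, vsg1, vsg2, vsg3, vsg4, vsg5, vh11, vh12, vh13, vh14, vh15, vh21, vh22, vh23, vh24, vh25, vpi1, vpi2, vpi3, vpi4, vpi5, vd1, vd2, vd3, vd4, vd5, vpi'1, vpi'2, vpi'3, vpi'4, vpi'5, vom1, vom2, vom3, vom4, vom5] at h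
    linarith
  have hd5 : εd * deg d + ε * deg sg - επ' * deg pi' = 0 := by
    have h := sum_eq_list (fun β => m₅ β * deg β) l hndl (fun β hβ => by
      simp only [(voutl β hβ).2.2.2.2, zero_mul])
    rw [hz5, hl] at h
    simp only [List.map_cons, List.map_nil, List.sum_cons, List.sum_nil, vo1, vo2, vo3, vo4, vo5, vsg1, vsg2, vsg3, vsg4, vsg5, vh11, vh12, vh13, vh14, vh15, vh21, vh22, vh23, vh24, vh25, vpi1, vpi2, vpi3, vpi4, vpi5, vd1, vd2, vd3, vd4, vd5, vpi'1, vpi'2, vpi'3, vpi'4, vpi'5, vom1, vom2, vom3, vom4, vom5] at h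
    linarith
  -- sign squares
  have hε2 : ε * ε = 1 := by rcases hε with rfl | rfl <;> norm_num
  have hεπ2 : επ * επ = 1 := by rcases hεπ with rfl | rfl <;> norm_num
  have hεd2 : εd * εd = 1 := by rcases hεd with rfl | rfl <;> norm_num
  have hεπ'2 : επ' * επ' = 1 := by rcases hεπ' with rfl | rfl <;> norm_num
  have hε2c : (ε : ℂ) * ε = 1 := by exact_mod_cast hε2
  have hεπ2c : (επ : ℂ) * επ = 1 := by exact_mod_cast hεπ2
  have hεd2c : (εd : ℂ) * εd = 1 := by exact_mod_cast hεd2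
  have hεπ'2c : (επ' : ℂ) * επ' = 1 := by exact_mod_cast hεπ'2
  have hh1 : deg h1 = deg sg := by
    have : ε * (deg sg - deg h1) = 0 := by linarith
    rcases hε with rfl | rfl <;> linarith
  have hh2 : deg h2 = deg sg := by
    have : ε * (deg sg - deg h2) = 0 := by linarith
    rcases hε with rfl | rfl <;> linarith
  have hG0 : (Nat.card G : ℂ) ≠ 0 := by exact_mod_cast Nat.card_pos.ne'
  have hdne : ∀ β, (deg β : ℂ) ≠ 0 := by
    intro β
    have := hdeg β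
    exact_mod_cast this.ne'
  -- the two class equations, raw form
  have hterm : ∀ (g : G) (β : Cfsg.IrrCharacter G), (β : G → ℂ) t * (β : G → ℂ) t
      * conj ((β : G → ℂ) g) / (β : G → ℂ) 1
      = ((2 * m₁ β + 2 * m₂ β + 4 * m₃ β - 3 * m₄ β - 3 * m₅ β : ℤ) : ℂ) * ((2 * m₁ β + 2 * m₂ β + 4 * m₃ β - 3 * m₄ β - 3 * m₅ β : ℤ) : ℂ) * conj ((β : G → ℂ) g) / (deg β : ℂ) := by
    intro g β
    rw [D.vt, hdegv]
  have hVsum : ∑ β : Cfsg.IrrCharacter G, ((2 * m₁ β + 2 * m₂ β + 4 * m₃ β - 3 * m₄ β - 3 * m₅ β : ℤ) : ℂ) * ((2 * m₁ β + 2 * m₂ β + 4 * m₃ β - 3 * m₄ β - 3 * m₅ β : ℤ) : ℂ)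
      * (((m₄ β - m₅ β : ℤ) : ℂ) + w * ((m₁ β - m₂ β : ℤ) : ℂ)) / (deg β : ℂ) = 0 := by
    have h1 := card_conj_mul_conj_eq t t v
    have h2 := card_conj_pairs t t v
    rw [hct, hNv, mul_zero] at h2
    rw [h2] at h1
    simp only [Nat.cast_zero] at h1
    have h3 := (mul_eq_zero.mp h1.symm).resolve_left hG0
    rw [← h3]
    apply Finset.sum_congr rfl
    intro β _
    rw [hterm v β, D.vv]
  have hUsum : (2304 * N : ℂ) = (Nat.card G : ℂ) * ∑ β : Cfsg.IrrCharacter G,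
      ((2 * m₁ β + 2 * m₂ β + 4 * m₃ β - 3 * m₄ β - 3 * m₅ β : ℤ) : ℂ) * ((2 * m₁ β + 2 * m₂ β + 4 * m₃ β - 3 * m₄ β - 3 * m₅ β : ℤ) : ℂ) * ((m₄ β + m₅ β : ℤ) : ℂ) / (deg β : ℂ) := by
    have h1 := card_conj_mul_conj_eq t t (v ^ 2)
    have h2 := card_conj_pairs t t (v ^ 2)
    rw [hct, hNu] at h2
    rw [h2] at h1
    have h4 : (2304 * N : ℂ) = ((48 * 48 * N : ℕ) : ℂ) := by push_cast; ring
    rw [h4, h1]
    congr 1
    apply Finset.sum_congr rfl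
    intro β _
    rw [hterm (v ^ 2) β, D.vu]
  have hV := sum_eq_list (fun β : Cfsg.IrrCharacter G => ((2 * m₁ β + 2 * m₂ β + 4 * m₃ β - 3 * m₄ β - 3 * m₅ β : ℤ) : ℂ)
      * ((2 * m₁ β + 2 * m₂ β + 4 * m₃ β - 3 * m₄ β - 3 * m₅ β : ℤ) : ℂ)
      * (((m₄ β - m₅ β : ℤ) : ℂ) + w * ((m₁ β - m₂ β : ℤ) : ℂ)) / (deg β : ℂ)) l hndl
    (fun β hβ => by
      obtain ⟨a1, a2, a3, a4, a5⟩ := voutl β hβ
      simp only [a1, a2, a3, a4, a5]
      norm_num)
  rw [hVsum, hl] at hV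
  simp only [List.map_cons, List.map_nil, List.sum_cons, List.sum_nil, vo1, vo2, vo3, vo4, vo5, vsg1, vsg2, vsg3, vsg4, vsg5, vh11, vh12, vh13, vh14, vh15, vh21, vh22, vh23, vh24, vh25, vpi1, vpi2, vpi3, vpi4, vpi5, vd1, vd2, vd3, vd4, vd5, vpi'1, vpi'2, vpi'3, vpi'4, vpi'5, vom1, vom2, vom3, vom4, vom5, hdo, hh1, hh2] at hV
  push_cast at hV
  have hU := sum_eq_list (fun β : Cfsg.IrrCharacter G => ((2 * m₁ β + 2 * m₂ β + 4 * m₃ β - 3 * m₄ β - 3 * m₅ β : ℤ) : ℂ)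
      * ((2 * m₁ β + 2 * m₂ β + 4 * m₃ β - 3 * m₄ β - 3 * m₅ β : ℤ) : ℂ) * ((m₄ β + m₅ β : ℤ) : ℂ) / (deg β : ℂ)) l hndl
    (fun β hβ => by
      obtain ⟨a1, a2, a3, a4, a5⟩ := voutl β hβ
      simp only [a1, a2, a3, a4, a5]
      norm_num)
  rw [hU, hl] at hUsum
  simp only [List.map_cons, List.map_nil, List.sum_cons, List.sum_nil, vo1, vo2, vo3, vo4, vo5, vsg1, vsg2, vsg3, vsg4, vsg5, vh11, vh12, vh13, vh14, vh15, vh21, vh22, vh23, vh24, vh25, vpi1, vpi2, vpi3, vpi4, vpi5, vd1, vd2, vd3, vd4, vd5, vpi'1, vpi'2, vpi'3, vpi'4, vpi'5, vom1, vom2, vom3, vom4, vom5, hdo, hh1, hh2] at hUsum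
  push_cast at hUsum
  -- clean forms
  have hVc : (1 : ℂ) - 9 * επ / (deg pi : ℂ) - εd / (deg d : ℂ) + 9 * επ' / (deg pi' : ℂ) = 0 := by
    linear_combination (-1 : ℂ) * hV + (9 * επ / (deg pi : ℂ)) * hεπ2c
      + (εd / (deg d : ℂ)) * hεd2c - (9 * επ' / (deg pi' : ℂ)) * hεπ'2c
  have hUc : (Nat.card G : ℂ) * (1 + 8 * ε / (deg sg : ℂ) - 9 * επ / (deg pi : ℂ)
      + εd / (deg d : ℂ) - 9 * επ' / (deg pi' : ℂ)) = 2304 * N := by
    linear_combination (-1 : ℂ) * hUsum - (Nat.card G : ℂ) * ((8 * ε / (deg sg : ℂ)) * hε2c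
      - (9 * επ / (deg pi : ℂ)) * hεπ2c + (εd / (deg d : ℂ)) * hεd2c
      - (9 * επ' / (deg pi' : ℂ)) * hεπ'2c)
  -- polynomial forms over ℤ
  have hVp : (deg pi : ℂ) * deg d * deg pi' - 9 * επ * deg d * deg pi' - εd * deg pi * deg pi'
      + 9 * επ' * deg pi * deg d = 0 := by
    have h1 := hdne pi
    have h2 := hdne d
    have h3 := hdne pi'
    have h := congrArg (fun z => z * ((deg pi : ℂ) * deg d * deg pi')) hVc
    simp only [zero_mul] at h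
    rw [← h]
    field_simp
  have hUp : (Nat.card G : ℂ) * ((deg sg : ℂ) * deg pi * deg d * deg pi'
      + 8 * ε * deg pi * deg d * deg pi' - 9 * επ * deg sg * deg d * deg pi'
      + εd * deg sg * deg pi * deg pi' - 9 * επ' * deg sg * deg pi * deg d)
      = 2304 * N * ((deg sg : ℂ) * deg pi * deg d * deg pi') := by
    have h0 := hdne sg
    have h1 := hdne pi
    have h2 := hdne d
    have h3 := hdne pi'
    rw [← hUc]
    field_simp
  have hVi : deg pi * deg d * deg pi' - 9 * επ * deg d * deg pi' - εd * deg pi * deg pi'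
      + 9 * επ' * deg pi * deg d = 0 := by exact_mod_cast hVp
  have hUi : (Nat.card G : ℤ) * (deg sg * deg pi * deg d * deg pi'
      + 8 * ε * deg pi * deg d * deg pi' - 9 * επ * deg sg * deg d * deg pi'
      + εd * deg sg * deg pi * deg pi' - 9 * επ' * deg sg * deg pi * deg d)
      = 2304 * N * (deg sg * deg pi * deg d * deg pi') := by exact_mod_cast hUp
  -- the congruence for S
  have hmodsg := hmod sg
  rw [vsg1, vsg2, vsg3, vsg4, vsg5] at hmodsg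
  have hdsg : deg sg = (Cfsg.charDegree (sg : G → ℂ) : ℤ) := by rw [hdegdef]
  rw [← hdsg] at hmodsg
  -- D is not linear
  have hdd1 : deg d ≠ 1 := by
    intro h1
    have h2 : (d : G → ℂ) 1 = 1 := by rw [hdegv, h1]; norm_num
    have h3 : d = oneIrr G := by
      apply Subtype.ext
      funext g
      exact D8C.linear_trivial_of_perfect hperf (IsIrrCharacter.isCharacter d.2) h2 g
    have hne := hnd
    rw [h3] at hne
    simp at hne
  have hn0 : (0 : ℤ) < (Nat.card G : ℤ) := by exact_mod_cast Nat.card_pos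
  have h32' : ¬ (32 : ℤ) ∣ (Nat.card G : ℤ) := by
    intro h
    apply h32
    exact_mod_cast h
  have hNi : (N : ℤ) = 0 ∨ (N : ℤ) = 4 := by
    rcases hN with h | h <;> [left; right] <;> exact_mod_cast h
  have hps := hdeg sg
  have hpp := hdeg pi
  have hpd := hdeg d
  have hpp' := hdeg pi'
  have hfin : (Nat.card G : ℤ) = 5616 ∨ (Nat.card G : ℤ) = 7920 := by
    obtain ⟨s, hs⟩ : ∃ s, s = deg sg := ⟨_, rfl⟩
    obtain ⟨p, hp⟩ : ∃ p, p = deg pi := ⟨_, rfl⟩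
    obtain ⟨dd, hdd⟩ : ∃ dd, dd = deg d := ⟨_, rfl⟩
    obtain ⟨p', hp'⟩ : ∃ p', p' = deg pi' := ⟨_, rfl⟩
    obtain ⟨n, hn⟩ : ∃ n : ℤ, n = (Nat.card G : ℤ) := ⟨_, rfl⟩
    obtain ⟨Ni, hNi'⟩ : ∃ Ni : ℤ, Ni = (N : ℤ) := ⟨_, rfl⟩
    rw [← hs, ← hp, ← hdd, ← hp', ← hn, ← hNi'] at hUi
    rw [← hp, ← hdd, ← hp'] at hVi
    rw [← hs, ← hp] at hd4
    rw [← hs, ← hdd, ← hp'] at hd5
    rw [← hs] at hmodsg hps
    rw [← hp] at hpp
    rw [← hdd] at hpd hdd1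
    rw [← hp'] at hpp'
    rw [← hn] at hn0 h32'
    rw [← hNi'] at hNi
    rw [← hn]
    clear hs hp hdd hp' hn hNi' hV hUsum hVc hUc hVp hUp hVsum hterm
    have hS4 : (ε * s) % 4 = 2 := by rcases hε with rfl | rfl <;> omega
    have hΔ1 : εd * dd ≠ 1 := by rcases hεd with rfl | rfl <;> omega
    have hpe : p = επ * (1 + ε * s) := by
      have h1 : επ * p = 1 + ε * s := by linarith
      calc p = (επ * επ) * p := by rw [hεπ2]; ring
        _ = επ * (επ * p) := by ring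
        _ = επ * (1 + ε * s) := by rw [h1]
    have hpe' : p' = επ' * (εd * dd + ε * s) := by
      have h1 : επ' * p' = εd * dd + ε * s := by linarith
      calc p' = (επ' * επ') * p' := by rw [hεπ'2]; ring
        _ = επ' * (επ' * p') := by ring
        _ = επ' * (εd * dd + ε * s) := by rw [h1]
    rw [hpe, hpe'] at hVi hUi
    apply arith_main n (ε * s) (εd * dd) Ni hn0 h32' hS4 hΔ1 hNi
    · rcases hεπ with rfl | rfl <;> rcases hεd with rfl | rfl <;> rcases hεπ' with rfl | rfl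
      all_goals first
        | linear_combination hVi
        | linear_combination -hVi
    · rcases hε with rfl | rfl <;> rcases hεπ with rfl | rfl <;> rcases hεd with rfl | rfl <;>
        rcases hεπ' with rfl | rfl
      all_goals first
        | linear_combination hUi
        | linear_combination -hUi
  rcases hfin with h | h <;> [left; right] <;> exact_mod_cast h

end Cfsg.Agent.Lib.Helper8.Gl
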