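import Mathlib
import Cfsg.Agent.Lib.Helper8.GlL
import Cfsg.Agent.Lib.Helper8.GlI

/-! Assembly: a simple group with the local data of `GL(2,3)` has order `5616` or `7920`. -/

set_option autoImplicit false
set_option maxHeartbeats 1600000

namespace Cfsg.Agent.Lib.Helper8.Gl

open scoped ComplexConjugate commutatorElement
open Cfsg.Agent.Lib.Helper6

variable {G : Type*} [Group G]

/-- a nonabelian simple group is perfect -/
theorem perfect_of_simple [IsSimpleGroup G] (hna : ∃ x y : G, x * y ≠ y * x) :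
    commutator G = ⊤ := by
  rcases IsSimpleGroup.eq_bot_or_eq_top_of_normal (commutator G) inferInstance with h | h
  · exfalso
    obtain ⟨x, y, hxy⟩ := hna
    apply hxy
    have h1 : ⁅x, y⁆ ∈ commutator G :=
      Subgroup.commutator_mem_commutator (Subgroup.mem_top x) (Subgroup.mem_top y)
    rw [h, Subgroup.mem_bot] at h1
    exact commutatorElement_eq_one_iff_mul_comm.mp h1
  · exact h

theorem Loc.exists_not_comm {t v y : G} (L : Loc G t v y) : ∃ a b : G, a * b ≠ b * a := by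
  obtain ⟨c, hc⟩ := isConj_iff.mp L.v3
  refine ⟨c, v, fun h => ?_⟩
  rw [h, mul_assoc, mul_inv_cancel, mul_one] at hc
  -- v = v ^ 3, so v ^ 2 = 1
  have h2 : v ^ 2 = 1 := by
    have h3 : v * v ^ 2 = v * 1 := by
      rw [mul_one, ← pow_succ']
      exact hc.symm
    exact mul_left_cancel h3
  have h4 := orderOf_dvd_of_pow_eq_one h2
  rw [L.ov] at h4
  omega

theorem Loc.pairs_v_eq_zero {t v y : G} (L : Loc G t v y) :
    Nat.card {p : G × G // IsConj t p.1 ∧ IsConj t p.2 ∧ p.1 * p.2 = v} = 0 := by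
  have hemp : IsEmpty {p : G × G // IsConj t p.1 ∧ IsConj t p.2 ∧ p.1 * p.2 = v} := by
    refine ⟨fun ⟨⟨a, b⟩, ha, hb, hab⟩ => ?_⟩
    simp only at ha hb hab
    have hoa : orderOf a = 2 := by rw [← orderOf_eq_of_isConj ha, L.ot]
    have hob : orderOf b = 2 := by rw [← orderOf_eq_of_isConj hb, L.ot]
    have ha2 : a * a = 1 := by
      have := pow_orderOf_eq_one a
      rwa [hoa, pow_two] at this
    have hb2 : b * b = 1 := by
      have := pow_orderOf_eq_one b
      rwa [hob, pow_two] at this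
    have hainv : a⁻¹ = a := inv_eq_of_mul_eq_one_left ha2
    have hbinv : b⁻¹ = b := inv_eq_of_mul_eq_one_left hb2
    apply L.v7
    rw [isConj_iff]
    refine ⟨a, ?_⟩
    have h7 : v ^ 7 = v⁻¹ := by
      apply eq_inv_of_mul_eq_one_left
      rw [← pow_succ]
      exact L.v8
    rw [h7, ← hab, mul_inv_rev, hainv, hbinv]
    calc a * (a * b) * a = (a * a) * b * a := by group
      _ = b * a := by rw [ha2, one_mul]
  rw [Nat.card_eq_zero]
  exact Or.inl hemp

theorem Loc.mod_four [Fintype G] {t v y : G} (L : Loc G t v y) (β : Cfsg.IrrCharacter G) (T : ℤ)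
    (hT : (β : G → ℂ) t = (T : ℂ)) : (4 : ℤ) ∣ (Cfsg.charDegree (β : G → ℂ) : ℤ) - T := by
  have hc := IsIrrCharacter.isCharacter β.2
  have hcf := IsCharacter.isClassFunction hc
  have hs4 : (v ^ 2) ^ 4 = 1 := by rw [← pow_mul]; exact L.v8
  have hconj : (β : G → ℂ) (v ^ 2) = (β : G → ℂ) ((v ^ 2) ^ 3) := by
    rw [← pow_mul]
    exact eq_of_isConj hcf L.v26
  obtain ⟨n₁, n₂, n₃, h1, -, h3⟩ := D8C.order_four_values hc (v ^ 2) hs4 hconj
  rw [← pow_mul, L.hv4, hT] at h3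
  rw [IsCharacter.apply_one_eq_charDegree hc] at h1
  refine ⟨(n₃ : ℤ), ?_⟩
  have h4 : ((Cfsg.charDegree (β : G → ℂ) : ℤ) : ℂ) - (T : ℂ) = ((4 * (n₃ : ℤ) : ℤ) : ℂ) := by
    push_cast
    rw [h1, h3]
    ring
  exact_mod_cast h4

theorem main_of_local [Finite G] [IsSimpleGroup G] (t : G)
    (hloc : ∃ v y : G, v ^ 4 = t ∧ y ^ 3 = t ∧ orderOf v = 8 ∧ orderOf y = 6 ∧
      Nat.card (Subgroup.centralizer ({t} : Set G)) = 48 ∧
      (∀ g : G, g * v = v * g → g ∈ Subgroup.zpowers v) ∧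
      (∀ g : G, g * v ^ 2 = v ^ 2 * g → g ∈ Subgroup.zpowers v) ∧
      (∀ g : G, g * y = y * g → g ∈ Subgroup.zpowers y) ∧
      IsConj v (v ^ 3) ∧ ¬ IsConj v (v ^ 5) ∧ ¬ IsConj v (v ^ 7) ∧ IsConj y (y ^ 5) ∧
      (Nat.card {p : G × G // IsConj t p.1 ∧ IsConj t p.2 ∧ p.1 * p.2 = v ^ 2} = 0 ∨
       Nat.card {p : G × G // IsConj t p.1 ∧ IsConj t p.2 ∧ p.1 * p.2 = v ^ 2} = 4)) :
    Nat.card G = 5616 ∨ Nat.card G = 7920 := by
  classical
  obtain ⟨v, y, hv4, hy3, ov, oy, ct, cv, cu, cy, v3, v5, v7, y5, hN⟩ := hloc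
  have L : Loc G t v y := ⟨hv4, hy3, ov, oy, ct, cv, cu, cy, v3, v5, v7, y5⟩
  have : Fintype G := Fintype.ofFinite G
  have : Fintype (Cfsg.IrrCharacter G) := Fintype.ofFinite _
  have hperf := perfect_of_simple L.exists_not_comm
  obtain ⟨w, m₁, m₂, m₃, m₄, m₅, D⟩ := exists_data L
  exact final_of_data D hperf ct L.pairs_v_eq_zero _ rfl hN L.not_dvd_32
    (fun β => L.mod_four β _ (D.vt β))

end Cfsg.Agent.Lib.Helper8.Gl
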