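import Cfsg.Agent.Lib.Helper8.Sm5

/-! # Goldschmidt amalgams of index (3,3): the non-constrained case

`Vx H K`: the vertex data of an `(S₃,S₃)`-amalgam at `H` along the edge `H ⊓ K` (no
constraint hypothesis).  If `C_H(O₂(H)) ≰ O₂(H)` then `|H ⊓ K| ≤ 16`. -/

set_option autoImplicit false

open Cfsg
open Cfsg.Agent.Lib.Helper3.JC
open Cfsg.Agent.Lib.Helper7.Am

namespace Cfsg.Agent.Lib.Helper8.Gs

variable {G : Type*} [Group G]

structure Vx (H K : Subgroup G) : Prop where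
  fin : Finite ↥H
  pg : IsPGroup 2 ↥(H ⊓ K)
  idxT : (H ⊓ K).relIndex H = 3
  QK : pCoreOf 2 H ≤ K
  idxQ : (pCoreOf 2 H).relIndex (H ⊓ K) = 2

/-- the hypotheses in the form of the statement give `Vx` -/
theorem vx_of (H K : Subgroup G) [Finite ↥H]
    (hsyl : ∃ S : Sylow 2 ↥H, (S : Subgroup ↥H) = (H ⊓ K).subgroupOf H)
    (hquot : Nonempty (↥H ⧸ pCore 2 ↥H ≃* Equiv.Perm (Fin 3))) : Vx H K := by
  have : Fact (Nat.Prime 2) := ⟨Nat.prime_two⟩
  obtain ⟨S, hS⟩ := hsyl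
  obtain ⟨e⟩ := hquot
  have h6 : (pCore 2 ↥H).index = 6 := by
    rw [Subgroup.index_eq_card, Nat.card_congr e.toEquiv, Nat.card_perm, Nat.card_fin]
    rfl
  have hle : pCore 2 ↥H ≤ (S : Subgroup ↥H) := Cfsg.Agent.Lib.Helper7.pCore_le_sylow S
  have hmul := Subgroup.relIndex_mul_index hle
  rw [h6] at hmul
  have hodd : ¬ 2 ∣ (S : Subgroup ↥H).index := S.not_dvd_index
  obtain ⟨n, hn⟩ : ∃ n : ℕ, (pCore 2 ↥H).relIndex (S : Subgroup ↥H) = 2 ^ n :=
    (S.isPGroup').index ((pCore 2 ↥H).subgroupOf (S : Subgroup ↥H))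
  obtain ⟨hi2, hi3⟩ := two_pow_mul_eq_six hn hmul hodd
  have hpg : IsPGroup 2 ↥(H ⊓ K) := by
    have h1 : IsPGroup 2 ↥((H ⊓ K).subgroupOf H) := by
      rw [← hS]; exact S.isPGroup'
    exact h1.of_equiv (Subgroup.subgroupOfEquivOfLe (inf_le_left : H ⊓ K ≤ H))
  have hmapT : ((H ⊓ K).subgroupOf H).map H.subtype = H ⊓ K :=
    Subgroup.map_subgroupOf_eq_of_le inf_le_left
  have hQT : pCoreOf 2 H ≤ H ⊓ K := by
    have h1 : (pCore 2 ↥H).map H.subtype ≤ ((H ⊓ K).subgroupOf H).map H.subtype := by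
      rw [← hS]; exact Subgroup.map_mono hle
    rw [hmapT] at h1
    exact h1
  refine ⟨inferInstance, hpg, ?_, hQT.trans inf_le_right, ?_⟩
  · show ((H ⊓ K).subgroupOf H).index = 3
    rw [← hS]; exact hi3
  · have h1 : ((pCore 2 ↥H).map H.subtype).relIndex (((H ⊓ K).subgroupOf H).map H.subtype) = 2 := by
      rw [Subgroup.relIndex_map_map_of_injective _ _ H.subtype_injective, ← hS]
      exact hi2
    rw [hmapT] at h1
    exact h1

namespace Vx

variable {H K : Subgroup G}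

theorem Q_le_T (h : Vx H K) : pCoreOf 2 H ≤ H ⊓ K := le_inf (pCoreOf_le H) h.QK

theorem card_H (h : Vx H K) : Nat.card ↥H = Nat.card ↥(H ⊓ K) * 3 := by
  have := Ph.card_eq_mul_relIndex (inf_le_left : H ⊓ K ≤ H)
  rw [h.idxT] at this; exact this

theorem card_T (h : Vx H K) : Nat.card ↥(H ⊓ K) = Nat.card ↥(pCoreOf 2 H) * 2 := by
  have := Ph.card_eq_mul_relIndex h.Q_le_T
  rw [h.idxQ] at this; exact this

theorem finQ (h : Vx H K) : Finite ↥(pCoreOf 2 H) := by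
  haveI := h.fin
  exact Finite.of_injective _ (Subgroup.inclusion_injective (pCoreOf_le H))

/-- an element of order three of `H` -/
theorem exists_three (h : Vx H K) : ∃ y ∈ H, orderOf y = 3 := by
  haveI := h.fin
  haveI : Fact (Nat.Prime 3) := ⟨Nat.prime_three⟩
  obtain ⟨y, hy⟩ := exists_prime_orderOf_dvd_card' (G := ↥H) 3 (by
    rw [h.card_H]; exact Dvd.intro_left _ rfl)
  exact ⟨y, y.2, by rw [← hy, Subgroup.orderOf_coe]⟩

theorem not_mem_T_of_three (h : Vx H K) {y : G} (hy : orderOf y = 3) : y ∉ H ⊓ K := by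
  intro hyT
  obtain ⟨k, hk⟩ := h.pg ⟨y, hyT⟩
  have hk' : y ^ (2 ^ k) = 1 := congrArg Subtype.val hk
  have hdvd : 3 ∣ 2 ^ k := by rw [← hy]; exact orderOf_dvd_of_pow_eq_one hk'
  have := (Nat.prime_dvd_prime_iff_eq Nat.prime_three Nat.prime_two).1
    (Nat.prime_three.dvd_of_dvd_pow hdvd)
  omega

/-- `H` is generated by `T` and any element of order three -/
theorem le_sup_zpowers (h : Vx H K) {y : G} (hyH : y ∈ H) (hy : orderOf y = 3) :
    H ≤ (H ⊓ K) ⊔ Subgroup.zpowers y := by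
  have h1 : (H ⊓ K) ⊔ Subgroup.zpowers y ≤ H :=
    sup_le inf_le_left (by rw [Subgroup.zpowers_le]; exact hyH)
  rcases relIndex_three_dichotomy (le_sup_left : H ⊓ K ≤ (H ⊓ K) ⊔ Subgroup.zpowers y) h1 h.idxT
    with h2 | h2
  · exact absurd (h2 (Subgroup.mem_sup_right (Subgroup.mem_zpowers y))) (h.not_mem_T_of_three hy)
  · exact h2

/-- in the non-constrained case some element of order three centralizes `O₂(H)` -/
theorem exists_three_cent (h : Vx H K)
    (hnc : ¬ H ⊓ Subgroup.centralizer (pCoreOf 2 H : Set G) ≤ pCoreOf 2 H) :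
    ∃ d ∈ H, orderOf d = 3 ∧ d ∈ Subgroup.centralizer (pCoreOf 2 H : Set G) := by
  haveI := h.fin
  haveI : Fact (Nat.Prime 3) := ⟨Nat.prime_three⟩
  haveI := h.finQ
  set C := H ⊓ Subgroup.centralizer (pCoreOf 2 H : Set G) with hC
  haveI : Finite ↥C := Finite.of_injective _ (Subgroup.inclusion_injective (inf_le_left : C ≤ H))
  have nzC : Nz H C := Nz.inf (nz_self H) (nz_self_pCoreOf H).centralizer
  have h3 : 3 ∣ Nat.card ↥C := by
    by_contra hnd
    apply hnc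
    obtain ⟨k, hk⟩ := (pCoreOf_isPGroup H).exists_card_eq
    have hdvd : Nat.card ↥C ∣ 2 ^ (k + 1) * 3 := by
      have := Subgroup.card_dvd_of_le (inf_le_left : C ≤ H)
      rw [h.card_H, h.card_T, hk] at this
      rw [pow_succ]; exact this
    have hcop : Nat.Coprime (Nat.card ↥C) 3 :=
      ((Nat.Prime.coprime_iff_not_dvd Nat.prime_three).2 hnd).symm
    have hdvd2 : Nat.card ↥C ∣ 2 ^ (k + 1) := hcop.dvd_of_dvd_mul_right hdvd
    obtain ⟨m, _, hm⟩ := (Nat.dvd_prime_pow Nat.prime_two).1 hdvd2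
    exact Sm.le_pCoreOf' (IsPGroup.of_card hm) inf_le_left nzC
  obtain ⟨d, hd⟩ := exists_prime_orderOf_dvd_card' (G := ↥C) 3 h3
  exact ⟨d, d.2.1, by rw [← hd, Subgroup.orderOf_coe], d.2.2⟩

end Vx

/-- three subgroups of index at most two meeting trivially -/
theorem card_le_eight {Q A B C : Subgroup G} [Finite ↥Q] (hA : A.relIndex Q ≤ 2)
    (hB : B.relIndex Q ≤ 2) (hC : C.relIndex Q ≤ 2) (hbot : A ⊓ B ⊓ C ⊓ Q = ⊥) :
    Nat.card ↥Q ≤ 8 := by
  have h1 : (A ⊓ B ⊓ C).relIndex Q ≤ (A ⊓ B).relIndex Q * C.relIndex Q :=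
    Subgroup.relIndex_inf_le
  have h2 : (A ⊓ B).relIndex Q ≤ A.relIndex Q * B.relIndex Q := Subgroup.relIndex_inf_le
  have h3 : (A ⊓ B ⊓ C).relIndex Q = Nat.card ↥Q := by
    rw [← Subgroup.inf_relIndex_right, hbot, Subgroup.relIndex_bot_left]
  rw [h3] at h1
  calc Nat.card ↥Q ≤ (A ⊓ B).relIndex Q * C.relIndex Q := h1
    _ ≤ (A.relIndex Q * B.relIndex Q) * C.relIndex Q := Nat.mul_le_mul_right _ h2
    _ ≤ (2 * 2) * 2 := Nat.mul_le_mul (Nat.mul_le_mul hA hB) hC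

/-- **The non-constrained case**: `|T| ≤ 16`. -/
theorem noncons {H K : Subgroup G} (hH : Vx H K) (hK : Vx K H)
    (hcore : ∀ N : Subgroup G, N ≤ H ⊓ K → Nz H N → Nz K N → N = ⊥)
    (hnc : ¬ H ⊓ Subgroup.centralizer (pCoreOf 2 H : Set G) ≤ pCoreOf 2 H) :
    Nat.card ↥(H ⊓ K) ≤ 16 := by
  haveI := hH.fin
  haveI := hK.fin
  obtain ⟨d, hdH, hd3, hdc⟩ := hH.exists_three_cent hnc
  obtain ⟨y, hyK, hy3⟩ := hK.exists_three
  have hKH : K ⊓ H = H ⊓ K := inf_comm _ _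
  set QH := pCoreOf 2 H with hQH
  set QK := pCoreOf 2 K with hQK
  set N₀ := QH ⊓ QK with hN₀
  have hQKT : QK ≤ H ⊓ K := by rw [← hKH]; exact hK.Q_le_T
  have nzT0 : Nz (H ⊓ K) N₀ :=
    Nz.inf ((nz_self_pCoreOf H).mono inf_le_left) ((nz_self_pCoreOf K).mono inf_le_right)
  -- every `T`-invariant subgroup of `Q_H` is `H`-invariant
  have key : ∀ N : Subgroup G, N ≤ QH → Nz (H ⊓ K) N → Nz H N := by
    intro N hN hT
    have h1 : Nz (Subgroup.zpowers d) N := by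
      intro x hx n hn
      obtain ⟨k, rfl⟩ := Subgroup.mem_zpowers_iff.1 hx
      have hc : Commute d n := (Subgroup.mem_centralizer_iff.1 hdc n (hN hn)).symm
      have hc' : Commute (d ^ k) n := hc.zpow_left k
      rw [hc'.eq, mul_inv_cancel_right]; exact hn
    exact (Nz.sup_left hT h1).mono (hH.le_sup_zpowers hdH hd3)
  -- the core of `N₀` in `K`
  set N₁ := sInf {X : Subgroup G | ∃ k ∈ K, X = cj k N₀} with hN₁
  have hN₁₀ : N₁ ≤ N₀ := sInf_le ⟨1, K.one_mem, (cj_one N₀).symm⟩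
  have nzK1 : Nz K N₁ := by
    intro k hk n hn
    rw [hN₁, Subgroup.mem_sInf]
    rintro X ⟨k', hk', rfl⟩
    have h1 : n ∈ cj (k⁻¹ * k') N₀ :=
      (Subgroup.mem_sInf.1 hn) _ ⟨k⁻¹ * k', K.mul_mem (K.inv_mem hk) hk', rfl⟩
    rw [mem_cj] at h1 ⊢
    have e : (k⁻¹ * k')⁻¹ * n * (k⁻¹ * k') = k'⁻¹ * (k * n * k⁻¹) * k' := by group
    rwa [e] at h1
  have hN1bot : N₁ = ⊥ := by
    apply hcore N₁ ((hN₁₀.trans inf_le_left).trans hH.Q_le_T) ?_ nzK1
    exact key N₁ (hN₁₀.trans inf_le_left) (nzK1.mono inf_le_right)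
  -- three conjugates
  have hyT : y ∉ K ⊓ H := hK.not_mem_T_of_three hy3
  have hyy : y * y ∈ K := K.mul_mem hyK hyK
  have hyyT : y * y ∉ K ⊓ H := by
    intro hc
    apply hyT
    have h1 : (y * y) * (y * y) ∈ K ⊓ H := (K ⊓ H).mul_mem hc hc
    have h2 : (y * y) * (y * y) = y := by
      have h3 : y ^ 3 = 1 := by rw [← hy3]; exact pow_orderOf_eq_one y
      rw [pow_three'] at h3
      calc (y * y) * (y * y) = (y * y * y) * y := by simp only [mul_assoc]
        _ = y := by rw [h3, one_mul]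
    rwa [h2] at h1
  have hyinv : y⁻¹ * (y * y) ∉ K ⊓ H := by
    have : y⁻¹ * (y * y) = y := by group
    rw [this]; exact hyT
  have h3c : ∀ k ∈ K, cj k N₀ = N₀ ∨ cj k N₀ = cj y N₀ ∨ cj k N₀ = cj (y * y) N₀ := by
    intro k hk
    have nzT0' : Nz (K ⊓ H) N₀ := by rw [hKH]; exact nzT0
    rcases Ph.three_cosets hK.idxT hyK hyy hyT hyyT hyinv hk with h1 | h1 | h1
    · left; exact cj_eq_self_of_nz nzT0' h1
    · right; left
      have : cj k N₀ = cj y (cj (y⁻¹ * k) N₀) := by rw [cj_mul]; congr 1; group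
      rw [this, cj_eq_self_of_nz nzT0' h1]
    · right; right
      have : cj k N₀ = cj (y * y) (cj ((y * y)⁻¹ * k) N₀) := by rw [cj_mul]; congr 1; group
      rw [this, cj_eq_self_of_nz nzT0' h1]
  have h3le : N₀ ⊓ cj y N₀ ⊓ cj (y * y) N₀ ≤ N₁ := by
    apply le_sInf
    rintro X ⟨k, hk, rfl⟩
    rcases h3c k hk with h1 | h1 | h1
    · rw [h1]; exact inf_le_left.trans inf_le_left
    · rw [h1]; exact inf_le_left.trans inf_le_right
    · rw [h1]; exact inf_le_right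
  -- indices
  have nzKQ : Nz K QK := nz_self_pCoreOf K
  have hidx0 : N₀.relIndex QK ≤ 2 := by
    have h1 : N₀.relIndex QK = QH.relIndex QK := by
      rw [hN₀]; exact Subgroup.inf_relIndex_right QH QK
    rw [h1, ← hH.idxQ]
    exact Subgroup.relIndex_le_of_le_right hQKT (by
      rw [hH.idxQ]; norm_num)
  have hidxc : ∀ k ∈ K, (cj k N₀).relIndex QK ≤ 2 := by
    intro k hk
    have : cj k QK = QK := cj_eq_self_of_nz nzKQ hk
    rw [← this, cj_relIndex]; exact hidx0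
  haveI : Finite ↥QK := hK.finQ
  have h8 : Nat.card ↥QK ≤ 8 := by
    apply card_le_eight hidx0 (hidxc y hyK) (hidxc (y * y) hyy)
    rw [eq_bot_iff, ← hN1bot]
    exact inf_le_left.trans h3le
  have hcT : Nat.card ↥(H ⊓ K) = Nat.card ↥QK * 2 := by rw [← hKH]; exact hK.card_T
  omega

end Cfsg.Agent.Lib.Helper8.Gs
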