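import Mathlib
import Cfsg.Agent.Lib.Helper1.HH2
import Cfsg.Agent.Lib.Helper1.CriticalExists
import Cfsg.Agent.Lib.Helper2.KInfK9c
import Cfsg.Agent.Lib.Helper9.GroupFusionAut

/-!
# Farm HHE / HH2L (S3786), Route B, unit Q2

`comm_centralizes_K_of`: Step 2 of Lemma Q, with the statement of FORM-group as a hypothesis.
-/

set_option autoImplicit false
set_option maxHeartbeats 1000000

open scoped commutatorElement

namespace Cfsg.Agent.Lib.Helper8.HH2L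

open Cfsg Cfsg.Agent.Lib.Helper1 Cfsg.Agent.Lib.Helper1.HH

theorem comm_centralizes_K_of {L : Type*} [Group L] [Finite L] {p : ℕ} [hp : Fact p.Prime]
    (hFG : ∀ (q : ℕ) [Fact q.Prime] (_ : p ≠ q)
      (C : Subgroup L) [Finite C] (_ : IsPGroup q C)
      (_ : ∀ u ∈ C, ∀ v ∈ C, ∀ w ∈ C,
        (u * v * u⁻¹ * v⁻¹) * w = w * (u * v * u⁻¹ * v⁻¹))
      (A : Subgroup L) [Finite A] (_ : ∀ a ∈ A, ∀ b ∈ A, a * b = b * a)
      (_ : ∀ a ∈ A, a ^ p = 1)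
      (_ : ∀ a ∈ A, ∀ c ∈ C, a * c * a⁻¹ ∈ C)
      (_ : ∀ a ∈ A, ∀ c ∈ C, (∀ w ∈ C, c * w = w * c) → a * c = c * a)
      (y : L) (n : ℕ) (_ : y ^ p ^ (n + 1) = 1)
      (_ : ∀ a ∈ A, y * a * y⁻¹ ∈ A) (_ : ∀ c ∈ C, y * c * y⁻¹ ∈ C)
      (_ : ∀ B : Subgroup L, B ≤ C → (∀ a ∈ B, ∀ b ∈ B, a * b = b * a) →
        (∀ b ∈ B, y * b * y⁻¹ ∈ B) → ∀ b ∈ B, y ^ p ^ n * b = b * y ^ p ^ n)
      (a : L) (_ : a ∈ A),
      ∀ c ∈ C, (y ^ p ^ n * a * (y ^ p ^ n)⁻¹ * a⁻¹) * c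
        = c * (y ^ p ^ n * a * (y ^ p ^ n)⁻¹ * a⁻¹))
    (K : Subgroup L) [K.Normal] (hK : (Nat.card K).Coprime p)
    (P : Subgroup L) (hP : IsPGroup p P)
    (n : ℕ) (hexp : ∀ t ∈ P, t ^ p ^ (n + 1) = 1)
    (hstar : ∀ t ∈ P, ∀ B : Subgroup L, B ≤ K → (∀ a ∈ B, ∀ b ∈ B, a * b = b * a) →
      (∀ b ∈ B, t * b * t⁻¹ ∈ B) → ∀ b ∈ B, t ^ p ^ n * b = b * t ^ p ^ n)
    (A : Subgroup L) (hAP : A ≤ P) (hAn : ∀ t ∈ P, ∀ a ∈ A, t * a * t⁻¹ ∈ A)
    (hAab : ∀ a ∈ A, ∀ b ∈ A, a * b = b * a) (hAexp : ∀ a ∈ A, a ^ p = 1)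
    (hAcent : ∀ B : Subgroup L, B ≤ K → (∀ a ∈ B, ∀ b ∈ B, a * b = b * a) →
      (∀ t ∈ P, ∀ b ∈ B, t * b * t⁻¹ ∈ B) → ∀ a ∈ A, ∀ b ∈ B, a * b = b * a)
    (t : L) (ht : t ∈ P) (a : L) (ha : a ∈ A) :
    ∀ k ∈ K, (t ^ p ^ n * a * (t ^ p ^ n)⁻¹ * a⁻¹) * k
      = k * (t ^ p ^ n * a * (t ^ p ^ n)⁻¹ * a⁻¹) := by
  intro k hk
  by_contra hne
  have ht0P : t ^ p ^ n ∈ P := P.pow_mem ht _
  set z := t ^ p ^ n * a * (t ^ p ^ n)⁻¹ * a⁻¹ with hz
  have hzA : z ∈ A := A.mul_mem (hAn _ ht0P a ha) (A.inv_mem ha)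
  have hzP : z ∈ P := hAP hzA
  have hnotK : ¬ K ≤ Subgroup.centralizer {z} := by
    intro hle
    apply hne
    have h1 := hle hk
    rw [Subgroup.mem_centralizer_iff] at h1
    exact h1 z rfl
  have hPK : P ≤ Subgroup.normalizer (K : Set L) := by
    rw [Subgroup.normalizer_eq_top]; exact le_top
  have hcop : (Nat.card P).Coprime (Nat.card K) := by
    obtain ⟨m, hm⟩ := IsPGroup.iff_card.1 hP
    rw [hm]
    exact Nat.Coprime.pow_left m hK.symm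
  have hsolv : Group.IsSolvable P ∨ Group.IsSolvable K := by
    left
    have := hP.isNilpotent
    infer_instance
  obtain ⟨q, hq, Qs, hPn, hQz⟩ :=
    exists_invariant_sylow_not_centralized P K hPK hcop hsolv z hnotK
  set Q : Subgroup L := (Qs : Subgroup K).map K.subtype with hQ
  have hQK : Q ≤ K := Subgroup.map_subtype_le _
  have hQq : IsPGroup q Q := Qs.2.map _
  have hpq : p ≠ q := by
    rintro rfl
    apply hQz
    have hbot : Q = ⊥ := by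
      obtain ⟨m, hm⟩ := IsPGroup.iff_card.1 hQq
      have h1 : Nat.card Q ∣ Nat.card K := Subgroup.card_dvd_of_le hQK
      have h2 : (Nat.card Q).Coprime (Nat.card Q) := by
        have h3 : (Nat.card Q).Coprime (Nat.card K) := by
          rw [hm]; exact Nat.Coprime.pow_left m hK.symm
        exact Nat.Coprime.coprime_dvd_right h1 h3
      have h4 : Nat.card Q = 1 := (Nat.coprime_self _).1 h2
      exact Subgroup.card_eq_one.1 h4
    rw [hbot]; exact bot_le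
  -- the critical subgroup of `Q`
  obtain ⟨H, hHchar, -, hH2, hHcent⟩ := exists_critical_subgroup (P := ↥Q) hQq
  have hHn : H.Normal := Subgroup.normal_of_characteristic H
  set C : Subgroup L := H.map Q.subtype with hC
  have hCQ : C ≤ Q := Subgroup.map_subtype_le _
  have hCK : C ≤ K := hCQ.trans hQK
  have hCq : IsPGroup q C := hQq.to_le hCQ
  have hmemC : ∀ x : ↥Q, x ∈ H → (x : L) ∈ C := fun x hx => ⟨x, hx, rfl⟩
  have hCinv : ∀ g ∈ P, ∀ c ∈ C, g * c * g⁻¹ ∈ C := by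
    intro g hg c hc
    obtain ⟨c', hc', rfl⟩ := hc
    have hgn : g ∈ Subgroup.normalizer (Q : Set L) := hPn hg
    have h1 : Cfsg.Agent.Lib.Helper9.conjAut Q ⟨g, hgn⟩ c' ∈ H := by
      have h2 := Subgroup.characteristic_iff_map_le.mp hHchar
        (Cfsg.Agent.Lib.Helper9.conjAut Q ⟨g, hgn⟩)
      exact h2 ⟨c', hc', rfl⟩
    exact ⟨_, h1, rfl⟩
  -- the centre of `C`
  let ZC : Subgroup L := C ⊓ Subgroup.centralizer (C : Set L)
  have hZCK : ZC ≤ K := inf_le_left.trans hCK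
  have hZCab : ∀ x ∈ ZC, ∀ y ∈ ZC, x * y = y * x := by
    intro x hx y hy
    have h1 := Subgroup.mem_centralizer_iff.1 (Subgroup.mem_inf.1 hx).2 y (Subgroup.mem_inf.1 hy).1
    exact h1.symm
  have hZCinv : ∀ g ∈ P, ∀ c ∈ ZC, g * c * g⁻¹ ∈ ZC := by
    intro g hg c hc
    refine Subgroup.mem_inf.2 ⟨hCinv g hg c (Subgroup.mem_inf.1 hc).1, ?_⟩
    rw [Subgroup.mem_centralizer_iff]
    intro w hw
    have hw' : g⁻¹ * w * g⁻¹⁻¹ ∈ C := hCinv g⁻¹ (P.inv_mem hg) w hw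
    have h1 := Subgroup.mem_centralizer_iff.1 (Subgroup.mem_inf.1 hc).2 _ hw'
    calc w * (g * c * g⁻¹) = g * ((g⁻¹ * w * g⁻¹⁻¹) * c) * g⁻¹ := by group
      _ = g * (c * (g⁻¹ * w * g⁻¹⁻¹)) * g⁻¹ := by rw [h1]
      _ = g * c * g⁻¹ * w := by group
  have hAZ : ∀ a' ∈ A, ∀ c ∈ C, (∀ w ∈ C, c * w = w * c) → a' * c = c * a' := by
    intro a' ha' c hc hcc
    apply hAcent ZC hZCK hZCab hZCinv a' ha' c
    refine Subgroup.mem_inf.2 ⟨hc, ?_⟩
    rw [Subgroup.mem_centralizer_iff]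
    intro w hw
    exact (hcc w hw).symm
  have hC2 : ∀ u ∈ C, ∀ v ∈ C, ∀ w ∈ C,
      (u * v * u⁻¹ * v⁻¹) * w = w * (u * v * u⁻¹ * v⁻¹) := by
    intro u hu v hv w hw
    obtain ⟨u', hu', rfl⟩ := hu
    obtain ⟨v', hv', rfl⟩ := hv
    obtain ⟨w', hw', rfl⟩ := hw
    have h1 : ⁅u', v'⁆ ∈ ⁅H, (⊤ : Subgroup ↥Q)⁆ :=
      Subgroup.commutator_mem_commutator hu' (Subgroup.mem_top v')
    have h2 := (hH2 h1).2
    have h3 := Subgroup.mem_centralizer_iff.1 h2 w' hw'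
    have h4 := congrArg Subtype.val h3
    simp only [commutatorElement_def, Subgroup.coe_mul, Subgroup.coe_inv] at h4
    exact h4.symm
  have hzC : ∀ c ∈ C, z * c = c * z :=
    hFG q hpq C hCq hC2 A hAab hAexp (fun a' ha' => hCinv a' (hAP ha')) hAZ t n (hexp t ht)
      (hAn t ht) (hCinv t ht)
      (fun B hBC hBab hBt => hstar t ht B (hBC.trans hCK) hBab hBt) a ha
  -- `z` centralizes `Q`
  have hzn : z ∈ Subgroup.normalizer (Q : Set L) := hPn hzP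
  have hφ1 : Cfsg.Agent.Lib.Helper9.conjAut Q ⟨z, hzn⟩ = 1 := by
    apply Cfsg.Agent.Lib.Helper2.KInfK9c.aut_trivial hQq H hHcent
    · -- order coprime to `q`
      have h1 : orderOf (Cfsg.Agent.Lib.Helper9.conjAut Q ⟨z, hzn⟩)
          ∣ orderOf (⟨z, hzn⟩ : ↥(Subgroup.normalizer (Q : Set L))) := orderOf_map_dvd _ _
      have h2 : orderOf (⟨z, hzn⟩ : ↥(Subgroup.normalizer (Q : Set L))) = orderOf z :=
        Subgroup.orderOf_mk z hzn
      obtain ⟨j, hj⟩ := (IsPGroup.iff_orderOf.1 hP) ⟨z, hzP⟩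
      have h3 : orderOf z = p ^ j := by rw [← hj, Subgroup.orderOf_mk]
      rw [h2, h3] at h1
      have h4 : (p ^ j).Coprime q :=
        Nat.Coprime.pow_left j ((Nat.coprime_primes hp.out hq.out).2 hpq)
      exact Nat.Coprime.coprime_dvd_left h1 h4
    · intro x hx
      apply Subtype.ext
      rw [Cfsg.Agent.Lib.Helper9.conjAut_apply]
      have h1 := hzC _ (hmemC x hx)
      show z * (x : L) * z⁻¹ = x
      rw [h1]; group
  apply hQz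
  intro x hx
  rw [Subgroup.mem_centralizer_iff]
  intro h hh
  rw [Set.mem_singleton_iff] at hh
  subst hh
  have h1 := congrArg (fun φ : MulAut ↥Q => ((φ ⟨x, hx⟩ : ↥Q) : L)) hφ1
  simp only [Cfsg.Agent.Lib.Helper9.conjAut_apply, MulAut.one_apply] at h1
  -- h1 : z * x * z⁻¹ = x
  calc z * x = (z * x * z⁻¹) * z := by group
    _ = x * z := by rw [h1]

end Cfsg.Agent.Lib.Helper8.HH2L
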