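import Mathlib

namespace Cfsg.Agent.Lib.Helper8.HIG

open Matrix

section defs
variable {K : Type*} [Field K]

/-- upper unitriangular element of `SL₂(K)`. -/
def uM (a : K) : Matrix.SpecialLinearGroup (Fin 2) K :=
  ⟨!![1, a; 0, 1], by simp [Matrix.det_fin_two_of]⟩

/-- lower unitriangular element of `SL₂(K)`. -/
def lM (a : K) : Matrix.SpecialLinearGroup (Fin 2) K :=
  ⟨!![1, 0; a, 1], by simp [Matrix.det_fin_two_of]⟩

/-- `w(c) = u(c) l(c⁻¹) u(c)`. -/
def wM (c : K) : Matrix.SpecialLinearGroup (Fin 2) K := uM c * lM c⁻¹ * uM c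

theorem uM_val (a : K) : (uM a : Matrix (Fin 2) (Fin 2) K) = !![1, a; 0, 1] := rfl
theorem lM_val (a : K) : (lM a : Matrix (Fin 2) (Fin 2) K) = !![1, 0; a, 1] := rfl

theorem uM_mul (a b : K) : uM a * uM b = uM (a + b) := by
  apply Subtype.ext
  simp only [Matrix.SpecialLinearGroup.coe_mul, uM_val, Matrix.mul_fin_two]
  ext i j; fin_cases i <;> fin_cases j <;> simp [add_comm]

theorem lM_mul (a b : K) : lM a * lM b = lM (a + b) := by
  apply Subtype.ext
  simp only [Matrix.SpecialLinearGroup.coe_mul, lM_val, Matrix.mul_fin_two]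
  ext i j; fin_cases i <;> fin_cases j <;> simp [add_comm]

theorem uM_zero : uM (0 : K) = 1 := by
  apply Subtype.ext
  simp only [uM_val, Matrix.SpecialLinearGroup.coe_one]
  ext i j; fin_cases i <;> fin_cases j <;> simp

theorem lM_zero : lM (0 : K) = 1 := by
  apply Subtype.ext
  simp only [lM_val, Matrix.SpecialLinearGroup.coe_one]
  ext i j; fin_cases i <;> fin_cases j <;> simp

variable [CharP K 2]

theorem wM_val {c : K} (hc : c ≠ 0) : (wM c : Matrix (Fin 2) (Fin 2) K) = !![0, c; c⁻¹, 0] := by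
  have h2 : (1 : K) + 1 = 0 := by
    have := CharP.cast_eq_zero K 2
    norm_num at this
    rw [one_add_one_eq_two]; exact this
  simp only [wM, Matrix.SpecialLinearGroup.coe_mul, uM_val, lM_val, Matrix.mul_fin_two]
  ext i j; fin_cases i <;> fin_cases j <;> simp [hc, h2]

theorem one_add_one_K : (1 : K) + 1 = 0 := by
  have := CharP.cast_eq_zero K 2
  norm_num at this
  rw [one_add_one_eq_two]; exact this

theorem add_self_K (a : K) : a + a = 0 := by
  rw [← two_mul, ← one_add_one_eq_two, one_add_one_K, zero_mul]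

theorem wM_mul_self {c : K} (hc : c ≠ 0) : wM c * wM c = 1 := by
  apply Subtype.ext
  simp only [Matrix.SpecialLinearGroup.coe_mul, wM_val hc, Matrix.mul_fin_two,
    Matrix.SpecialLinearGroup.coe_one]
  ext i j; fin_cases i <;> fin_cases j <;> simp [hc]

theorem wM_one_conj (a : K) : wM 1 * uM a * wM 1 = lM a := by
  apply Subtype.ext
  simp only [Matrix.SpecialLinearGroup.coe_mul, wM_val (one_ne_zero (α := K)), uM_val, lM_val,
    Matrix.mul_fin_two]
  ext i j; fin_cases i <;> fin_cases j <;> simp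

theorem wM_lM_wM {c : K} (hc : c ≠ 0) : wM c * lM 1 * wM c = uM (c * c) := by
  apply Subtype.ext
  simp only [Matrix.SpecialLinearGroup.coe_mul, wM_val hc, uM_val, lM_val,
    Matrix.mul_fin_two]
  ext i j; fin_cases i <;> fin_cases j <;> simp [hc]

theorem wM_uM_wM {c : K} (hc : c ≠ 0) : wM c * uM 1 * wM c = lM (c * c)⁻¹ := by
  apply Subtype.ext
  simp only [Matrix.SpecialLinearGroup.coe_mul, wM_val hc, uM_val, lM_val,
    Matrix.mul_fin_two]
  ext i j; fin_cases i <;> fin_cases j <;> simp [hc, mul_inv]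

theorem dM_mul {c m : K} (hc : c ≠ 0) (hm : m ≠ 0) :
    (wM c * wM 1) * (wM m * wM 1) = wM (c * m) * wM 1 := by
  apply Subtype.ext
  simp only [Matrix.SpecialLinearGroup.coe_mul, wM_val hc, wM_val hm, wM_val (mul_ne_zero hc hm),
    wM_val (one_ne_zero (α := K)), Matrix.mul_fin_two]
  ext i j; fin_cases i <;> fin_cases j <;> simp [hc, hm, mul_inv, mul_comm]

theorem conj_x0 {m : K} (hm : m ≠ 0) :
    uM (m * m) * lM (m * m)⁻¹ = (wM m * wM 1) * (uM 1 * lM 1) * (wM 1 * wM m) := by
  apply Subtype.ext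
  simp only [Matrix.SpecialLinearGroup.coe_mul, wM_val hm,
    wM_val (one_ne_zero (α := K)), uM_val, lM_val, Matrix.mul_fin_two]
  have h1 : m * m * (m⁻¹ * m⁻¹) = 1 := by field_simp
  ext i j; fin_cases i <;> fin_cases j <;> simp [hm, mul_inv, one_add_one_K, h1]

end defs

end Cfsg.Agent.Lib.Helper8.HIG
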