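import Mathlib

namespace Cfsg.Agent.Lib.Helper8.HIG

/-- context for the `ℤ/4` computation: two involutions `t, s` with `(ts)² + ts + 1 = 0`, `4 = 0`. -/
structure Z4Ctx (R : Type*) [Ring R] where
  t : R
  s : R
  h4 : ∀ x : R, 4 • x = 0
  ht : t * t = 1
  hs : s * s = 1
  h3 : t * s * (t * s) + t * s + 1 = 0

namespace Z4Ctx
variable {R : Type*} [Ring R] (C : Z4Ctx R)

def A : R := C.t - 1
def B : R := C.s - 1
def e : R := C.A * C.B
def al : R := C.A + 2 • C.e
def be : R := C.B + 2 • C.e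

theorem hts : C.t * C.s + C.s * C.t = -1 := by
  have e1 : C.s * C.t * (C.t * C.s * (C.t * C.s) + C.t * C.s + 1) = C.t * C.s + 1 + C.s * C.t := by
    have a1 : C.s * C.t * (C.t * C.s * (C.t * C.s)) = C.t * C.s := by
      calc C.s * C.t * (C.t * C.s * (C.t * C.s)) = C.s * (C.t * C.t) * C.s * (C.t * C.s) := by noncomm_ring
        _ = C.t * C.s := by rw [C.ht, mul_one, C.hs, one_mul]
    have a2 : C.s * C.t * (C.t * C.s) = 1 := by
      calc C.s * C.t * (C.t * C.s) = C.s * (C.t * C.t) * C.s := by noncomm_ring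
        _ = 1 := by rw [C.ht, mul_one, C.hs]
    rw [mul_add, mul_add, a1, a2, mul_one]
  rw [C.h3, mul_zero] at e1
  calc C.t * C.s + C.s * C.t = (C.t * C.s + 1 + C.s * C.t) - 1 := by abel
    _ = -1 := by rw [← e1]; simp

theorem A_sq : C.A * C.A = -(2 • C.A) := by
  unfold A
  calc (C.t - 1) * (C.t - 1) = C.t * C.t - 2 • C.t + 1 := by noncomm_ring
    _ = -(2 • (C.t - 1)) := by rw [C.ht]; abel

theorem B_sq : C.B * C.B = -(2 • C.B) := by
  unfold B
  calc (C.s - 1) * (C.s - 1) = C.s * C.s - 2 • C.s + 1 := by noncomm_ring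
    _ = -(2 • (C.s - 1)) := by rw [C.hs]; abel

theorem AB_BA : C.A * C.B + C.B * C.A = -(3 • (1 : R)) - 2 • C.A - 2 • C.B := by
  unfold A B
  calc (C.t - 1) * (C.s - 1) + (C.s - 1) * (C.t - 1)
      = (C.t * C.s + C.s * C.t) - 2 • C.t - 2 • C.s + 2 • (1 : R) := by noncomm_ring
    _ = _ := by rw [C.hts]; abel

theorem BA_eq : C.B * C.A = -(3 • (1 : R)) - 2 • C.A - 2 • C.B - C.A * C.B := by
  rw [← C.AB_BA]; abel

theorem ABA : C.A * C.B * C.A = C.A := by
  calc C.A * C.B * C.A = C.A * (C.B * C.A) := by rw [mul_assoc]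
    _ = -(3 • C.A) - 2 • (C.A * C.A) - 2 • (C.A * C.B) - C.A * C.A * C.B := by
        rw [C.BA_eq]; noncomm_ring
    _ = C.A := by rw [C.A_sq]; noncomm_ring

theorem BAB : C.B * C.A * C.B = C.B := by
  calc C.B * C.A * C.B = -(3 • C.B) - 2 • (C.A * C.B) - 2 • (C.B * C.B) - C.A * (C.B * C.B) := by
        rw [C.BA_eq]; noncomm_ring
    _ = C.B := by rw [C.B_sq]; noncomm_ring

theorem e_e : C.e * C.e = C.e := by
  unfold e; rw [← mul_assoc, C.ABA]

theorem A_e : C.A * C.e = -(2 • C.e) := by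
  unfold e; rw [← mul_assoc, C.A_sq]; noncomm_ring

theorem e_A : C.e * C.A = C.A := C.ABA

theorem e_B : C.e * C.B = -(2 • C.e) := by
  unfold e; rw [mul_assoc, C.B_sq]; noncomm_ring

theorem B_e : C.B * C.e = C.B := by unfold e; rw [← mul_assoc, C.BAB]

theorem e_al : C.e * C.al = C.al := by
  unfold al; rw [mul_add, C.e_A, mul_smul_comm, C.e_e]

theorem al_A : C.al * C.A = 0 := by
  unfold al; rw [add_mul, C.A_sq, smul_mul_assoc, C.e_A]; abel

theorem al_e : C.al * C.e = 0 := by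
  unfold al; rw [add_mul, C.A_e, smul_mul_assoc, C.e_e]; abel

theorem e_be : C.e * C.be = 0 := by
  unfold be; rw [mul_add, C.e_B, mul_smul_comm, C.e_e]; abel

theorem be_e : C.be * C.e = C.be := by
  unfold be; rw [add_mul, C.B_e, smul_mul_assoc, C.e_e]

theorem e_A_e : C.e * C.A * C.e = -(2 • C.e) := by rw [C.e_A, C.A_e]

theorem A_be : C.A * C.be = C.e := by
  unfold be
  calc C.A * (C.B + 2 • C.e) = C.A * C.B + 2 • (C.A * C.e) := by rw [mul_add, mul_smul_comm]
    _ = C.e - 4 • C.e := by rw [C.A_e]; unfold e; abel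
    _ = C.e := by rw [C.h4, sub_zero]

theorem e_A_be : C.e * C.A * C.be = C.e := by rw [C.e_A, C.A_be]

theorem e_sum : C.e + C.be * C.al = 1 := by
  have h1 : C.be * C.al = C.B * C.A + 2 • C.B + 2 • C.A + 4 • C.e := by
    unfold be al
    calc (C.B + 2 • C.e) * (C.A + 2 • C.e)
        = C.B * C.A + 2 • (C.B * C.e) + 2 • (C.e * C.A) + 4 • (C.e * C.e) := by noncomm_ring
      _ = _ := by rw [C.B_e, C.e_A, C.e_e]
  rw [h1, C.h4, add_zero]
  have h2 : C.e + C.B * C.A = -(3 • (1 : R)) - 2 • C.A - 2 • C.B := C.AB_BA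
  calc C.e + (C.B * C.A + 2 • C.B + 2 • C.A) = (C.e + C.B * C.A) + 2 • C.B + 2 • C.A := by abel
    _ = 1 - 4 • (1 : R) := by rw [h2]; abel
    _ = 1 := by rw [C.h4, sub_zero]

theorem key (X Y : R) : X * C.e * (C.e * Y) + X * C.be * (C.al * Y) = X * Y := by
  have h1 : X * C.e * (C.e * Y) = X * C.e * Y := by
    rw [mul_assoc X, ← mul_assoc C.e, C.e_e, ← mul_assoc]
  have h2 : X * C.be * (C.al * Y) = X * (C.be * C.al) * Y := by simp only [mul_assoc]
  rw [h1, h2, ← add_mul, ← mul_add, C.e_sum, mul_one]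

/-- the relation `(★)`. -/
theorem star (X : R) (hXA : X * C.A = C.A * X) (hXX : X * X = -(2 • X)) :
    (C.e * X * C.e) * (C.e * X * C.be) + (C.e * X * C.be) * (C.e * X * C.e)
      + 2 • ((C.e * X * C.be) * (C.e * X * C.be)) + 2 • (C.e * X * C.be) = 0 := by
  set p := C.e * X * C.e with hp
  set q := C.e * X * C.be with hq
  set p'' := C.al * X * C.be with hp''
  have hpe : p * C.e = p := by rw [hp, mul_assoc, C.e_e]
  have heq : C.e * q = q := by rw [hq, ← mul_assoc, ← mul_assoc, C.e_e]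
  have hep'' : C.e * p'' = p'' := by rw [hp'', ← mul_assoc, ← mul_assoc, C.e_al]
  -- commutation
  have c1 : p'' = p + 2 • q := by
    have l1 : C.e * X * C.A * C.be = p := by
      have := C.key (C.e * X) (C.A * C.be)
      have x1 : C.e * X * C.e * (C.e * (C.A * C.be)) = p * C.e := by
        rw [← mul_assoc C.e C.A, C.e_A_be]
      have x2 : C.e * X * C.be * (C.al * (C.A * C.be)) = 0 := by
        rw [← mul_assoc C.al, C.al_A, zero_mul, mul_zero]
      rw [x1, x2, add_zero, hpe, ← mul_assoc] at this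
      exact this.symm
    have l2 : C.e * C.A * X * C.be = -(2 • q) + p'' := by
      have := C.key (C.e * C.A) (X * C.be)
      have x1 : C.e * C.A * C.e * (C.e * (X * C.be)) = -(2 • q) := by
        rw [C.e_A_e, ← mul_assoc C.e X, ← hq, neg_mul, smul_mul_assoc, heq]
      have x2 : C.e * C.A * C.be * (C.al * (X * C.be)) = p'' := by
        rw [C.e_A_be, ← mul_assoc C.al, ← hp'', hep'']
      rw [x1, x2, ← mul_assoc] at this
      exact this.symm
    have : C.e * X * C.A * C.be = C.e * C.A * X * C.be := by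
      rw [mul_assoc C.e X, hXA, ← mul_assoc]
    rw [l1, l2] at this
    rw [this]; abel
  have c2 : p * q + q * p'' = -(2 • q) := by
    have := C.key (C.e * X) (X * C.be)
    have x1 : C.e * X * C.e * (C.e * (X * C.be)) = p * q := by
      rw [hp, hq]; simp only [mul_assoc]
    have x2 : C.e * X * C.be * (C.al * (X * C.be)) = q * p'' := by
      rw [hq, hp'']; simp only [mul_assoc]
    rw [x1, x2] at this
    rw [this, mul_assoc C.e X, ← mul_assoc X X, hXX, hq]; noncomm_ring
  rw [c1] at c2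
  calc p * q + q * p + 2 • (q * q) + 2 • q = (p * q + q * (p + 2 • q)) + 2 • q := by noncomm_ring
    _ = 0 := by rw [c2]; abel

end Z4Ctx

end Cfsg.Agent.Lib.Helper8.HIG
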