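import Mathlib

namespace Cfsg.Agent.Lib.Helper8.HIG

section commpow
variable {R : Type*} [Ring R]

theorem comm_pow (h4 : ∀ x : R, 4 • x = 0) (p q : R) (h2p : 2 • p = 0)
    (hstar : p * q + q * p + 2 • (q * q) + 2 • q = 0) :
    ∀ k : ℕ, q ^ (k + 1) * p = p * q ^ (k + 1) + (2 * (k + 1)) • ((q * q + q) * q ^ k) := by
  have h2pq : 2 • (p * q) = 0 := by rw [← smul_mul_assoc, h2p, zero_mul]
  have hqp : q * p = p * q + 2 • (q * q + q) := by
    have : q * p = (p * q + q * p + 2 • (q * q) + 2 • q) - 2 • (p * q) + p * q + 2 • (q * q + q)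
        - 4 • (q * q + q) := by
      rw [smul_add, smul_add]; abel
    rw [this, hstar, h2pq, h4]; abel
  have hcq : (q * q + q) * q = q * (q * q + q) := by noncomm_ring
  intro k
  induction k with
  | zero => simp [hqp]
  | succ k ih =>
    calc q ^ (k + 1 + 1) * p = q * (q ^ (k + 1) * p) := by rw [pow_succ' q (k + 1), mul_assoc]
      _ = q * (p * q ^ (k + 1) + (2 * (k + 1)) • ((q * q + q) * q ^ k)) := by rw [ih]
      _ = (q * p) * q ^ (k + 1) + (2 * (k + 1)) • (q * (q * q + q) * q ^ k) := by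
          rw [mul_add, mul_smul_comm]; simp only [mul_assoc]
      _ = (p * q + 2 • (q * q + q)) * q ^ (k + 1) + (2 * (k + 1)) • ((q * q + q) * q ^ (k + 1)) := by
          rw [hqp, ← hcq, mul_assoc (q * q + q) q, ← pow_succ' q k]
      _ = p * q ^ (k + 1 + 1) + (2 * (k + 1 + 1)) • ((q * q + q) * q ^ (k + 1)) := by
          rw [add_mul, mul_assoc p q, ← pow_succ' q (k + 1), smul_mul_assoc, add_assoc, ← add_smul]
          congr 2; ring

theorem odd_smul (h4 : ∀ x : R, 4 • x = 0) {N : ℕ} (hN : Odd N) (z : R) : (2 * N) • z = 2 • z := by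
  obtain ⟨j, rfl⟩ := hN
  have : 2 * (2 * j + 1) = j * 4 + 2 := by ring
  rw [this, add_smul, mul_smul, h4, smul_zero, zero_add]

end commpow

section endo
variable {W : Type*} [AddCommGroup W]

/-- doubling. -/
def dbl (W : Type*) [AddCommGroup W] : W →+ W where
  toFun w := w + w
  map_zero' := by simp
  map_add' a b := by abel

@[simp] theorem dbl_apply (w : W) : dbl W w = w + w := rfl

theorem map_dbl (f : AddMonoid.End W) (w : W) : f (dbl W w) = dbl W (f w) := by
  simp [map_add]

/-- restriction of endomorphisms to a fully invariant subgroup, as a ring hom. -/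
def resHom (M : AddSubgroup W) (hM : ∀ (f : AddMonoid.End W) (w : W), w ∈ M → f w ∈ M) :
    AddMonoid.End W →+* AddMonoid.End M where
  toFun f := ((f : W →+ W).comp M.subtype).codRestrict M (fun x => hM f x x.2)
  map_one' := by ext x; rfl
  map_mul' f g := by ext x; rfl
  map_zero' := by ext x; rfl
  map_add' f g := by ext x; rfl

theorem resHom_apply (M : AddSubgroup W) (hM) (f : AddMonoid.End W) (x : M) :
    ((resHom M hM f) x : W) = f x := rfl

theorem hOm : ∀ (f : AddMonoid.End W) (w : W), w ∈ (dbl W).ker → f w ∈ (dbl W).ker := by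
  intro f w hw
  rw [AddMonoidHom.mem_ker] at hw ⊢
  rw [← map_dbl, hw, map_zero]

theorem hD : ∀ (f : AddMonoid.End W) (w : W), w ∈ (dbl W).range → f w ∈ (dbl W).range := by
  rintro f w ⟨v, rfl⟩
  exact ⟨f v, (map_dbl f v).symm⟩

end endo

end Cfsg.Agent.Lib.Helper8.HIG
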