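import Cfsg.Agent.Lib.Helper8.HIGRing
import Cfsg.Agent.Lib.Helper8.HIGZ4
import Cfsg.Agent.Lib.Helper8.HIGZ4b

namespace Cfsg.Agent.Lib.Helper8.HIG

open Matrix

section layer
variable {K : Type*} [Field K] [CharP K 2] {W : Type*} [AddCommGroup W]

/-- the `Z4Ctx` of an action on a group of exponent dividing 4. -/
def mkCtx (h4 : ∀ w : W, (w + w) + (w + w) = 0)
    (ρ : Matrix.SpecialLinearGroup (Fin 2) K →* AddMonoid.End W)
    (H3 : ∀ w, ρ (uM 1 * lM 1) (ρ (uM 1 * lM 1) w) + ρ (uM 1 * lM 1) w + w = 0) :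
    Z4Ctx (AddMonoid.End W) where
  t := ρ (uM 1)
  s := ρ (lM 1)
  h4 := by
    intro x
    have : (4 • x) = x + x + x + x := by
      rw [show (4 : ℕ) = 1 + 1 + 1 + 1 from rfl, add_smul, add_smul, add_smul, one_smul]
    rw [this]
    ext w
    show x w + x w + x w + x w = (0 : W)
    rw [← h4 (x w)]; abel
  ht := by rw [← map_mul, uM_mul, add_self_K, uM_zero, map_one]
  hs := by rw [← map_mul, lM_mul, add_self_K, lM_zero, map_one]
  h3 := by
    rw [← map_mul]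
    ext w
    exact H3 w

variable (h4 : ∀ w : W, (w + w) + (w + w) = 0)
    (ρ : Matrix.SpecialLinearGroup (Fin 2) K →* AddMonoid.End W)
    (H3 : ∀ w, ρ (uM 1 * lM 1) (ρ (uM 1 * lM 1) w) + ρ (uM 1 * lM 1) w + w = 0)

/-- `X_b = ρ(u(b)) - 1`. -/
def XE (ρ : Matrix.SpecialLinearGroup (Fin 2) K →* AddMonoid.End W) (b : K) : AddMonoid.End W :=
  ρ (uM b) - 1

theorem XE_comm (b : K) : XE ρ b * (mkCtx h4 ρ H3).A = (mkCtx h4 ρ H3).A * XE ρ b := by
  have h : ρ (uM b) * ρ (uM 1) = ρ (uM 1) * ρ (uM b) := by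
    rw [← map_mul, ← map_mul, uM_mul, uM_mul, add_comm]
  show (ρ (uM b) - 1) * (ρ (uM 1) - 1) = (ρ (uM 1) - 1) * (ρ (uM b) - 1)
  calc (ρ (uM b) - 1) * (ρ (uM 1) - 1) = ρ (uM b) * ρ (uM 1) - ρ (uM b) - ρ (uM 1) + 1 := by
        noncomm_ring
    _ = _ := by rw [h]; noncomm_ring

theorem XE_sq (b : K) : XE ρ b * XE ρ b = -(2 • XE ρ b) := by
  have h : ρ (uM b) * ρ (uM b) = 1 := by
    rw [← map_mul, uM_mul, add_self_K, uM_zero, map_one]
  show (ρ (uM b) - 1) * (ρ (uM b) - 1) = -(2 • (ρ (uM b) - 1))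
  calc (ρ (uM b) - 1) * (ρ (uM b) - 1) = ρ (uM b) * ρ (uM b) - 2 • ρ (uM b) + 1 := by noncomm_ring
    _ = _ := by rw [h]; abel

/-- `p_b`. -/
def pE (b : K) : AddMonoid.End W := (mkCtx h4 ρ H3).e * XE ρ b * (mkCtx h4 ρ H3).e
/-- `q_b`. -/
def qE (b : K) : AddMonoid.End W := (mkCtx h4 ρ H3).e * XE ρ b * (mkCtx h4 ρ H3).be

theorem star_pq (b : K) :
    pE h4 ρ H3 b * qE h4 ρ H3 b + qE h4 ρ H3 b * pE h4 ρ H3 b
      + 2 • (qE h4 ρ H3 b * qE h4 ρ H3 b) + 2 • qE h4 ρ H3 b = 0 :=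
  (mkCtx h4 ρ H3).star (XE ρ b) (XE_comm h4 ρ H3 b) (XE_sq ρ b)

/-- facts about a fully invariant layer killed by 2. -/
theorem layer (hsq : ∀ a : K, ∃ m : K, m ^ 2 = a)
    (M : AddSubgroup W) (hM : ∀ (f : AddMonoid.End W) (w : W), w ∈ M → f w ∈ M)
    (hM2 : ∀ m ∈ M, m + m = 0) :
    ∃ (γ : K → AddMonoid.End M) (e' : AddMonoid.End M),
      (∀ a c, γ (a * c) = γ a * γ c) ∧ (∀ a c, γ (a + c) = γ a + γ c) ∧ γ 1 = e' ∧
      resHom M hM (mkCtx h4 ρ H3).e = e' ∧ (∀ b, resHom M hM (pE h4 ρ H3 b) = 0) ∧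
      (∀ b, resHom M hM (qE h4 ρ H3 b) = γ b) ∧ (e' = 0 → ∀ m : M, m = 0) := by
  set r := resHom M hM with hr
  have h2 : (2 : AddMonoid.End M) = 0 := by
    ext m
    rw [← one_add_one_eq_two]
    show ((m : W) + (m : W)) = 0
    exact hM2 m m.2
  have h2' : ∀ z : AddMonoid.End M, 2 • z = 0 := by
    intro z; rw [two_nsmul, ← two_mul, h2, zero_mul]
  have hneg : ∀ z : AddMonoid.End M, -z = z := fun z => neg_eq_R h2 z
  have hsub : ∀ z z' : AddMonoid.End M, z - z' = z + z' := fun z z' => sub_eq_R h2 z z'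
  let ρM : Matrix.SpecialLinearGroup (Fin 2) K →* AddMonoid.End M := r.toMonoidHom.comp ρ
  have hρM : ∀ g, ρM g = r (ρ g) := fun g => rfl
  have H3M : ρM (uM 1 * lM 1) * ρM (uM 1 * lM 1) + ρM (uM 1 * lM 1) + 1 = 0 := by
    rw [hρM, ← map_mul, ← map_one r, ← map_add, ← map_add]
    have : ρ (uM 1 * lM 1) * ρ (uM 1 * lM 1) + ρ (uM 1 * lM 1) + 1 = 0 := by
      ext w; exact H3 w
    rw [this, map_zero]
  obtain ⟨e', A', B', γ, hA', hB', he', hee, hAA, hBB, hAB, heγ, hγe, hadd, hmul, h1, h0, hu, hl⟩ :=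
    ring_lemma hsq h2 ρM H3M
  set C := mkCtx h4 ρ H3 with hC
  have rA : r C.A = A' := by
    show r (ρ (uM 1) - 1) = A'
    rw [map_sub, map_one, hsub, hA']; rfl
  have rB : r C.B = B' := by
    show r (ρ (lM 1) - 1) = B'
    rw [map_sub, map_one, hsub, hB']; rfl
  have re : r C.e = e' := by
    show r (C.A * C.B) = e'
    rw [map_mul, rA, rB, he']
  have r2 : ∀ z, r (2 • z) = 0 := by
    intro z; rw [map_nsmul, h2']
  have ral : r C.al = A' := by
    show r (C.A + 2 • C.e) = A'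
    rw [map_add, r2, add_zero, rA]
  have rbe : r C.be = B' := by
    show r (C.B + 2 • C.e) = B'
    rw [map_add, r2, add_zero, rB]
  have rX : ∀ b, r (XE ρ b) = γ b * A' := by
    intro b
    show r (ρ (uM b) - 1) = γ b * A'
    rw [map_sub, map_one, ← hρM, hu b]; abel
  have hAe : A' * e' = 0 := by rw [he', ← mul_assoc, hAA, zero_mul]
  refine ⟨γ, e', hmul, hadd, h1, re, ?_, ?_, ?_⟩
  · intro b
    show r (C.e * XE ρ b * C.e) = 0
    rw [map_mul, map_mul, re, rX, mul_assoc, mul_assoc, hAe, mul_zero, mul_zero]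
  · intro b
    show r (C.e * XE ρ b * C.be) = γ b
    rw [map_mul, map_mul, re, rX, rbe, ← mul_assoc, heγ, mul_assoc, ← he', hγe]
  · intro h m
    have hA0 : A' = 0 := by
      have : e' * A' = A' := by
        rw [he', mul_assoc]
        have hBA : B' * A' = 1 - A' * B' := by rw [← hAB]; abel
        rw [hBA, mul_sub, mul_one, ← mul_assoc, hAA, zero_mul, sub_zero]
      rw [← this, h, zero_mul]
    have h10 : (1 : AddMonoid.End M) = 0 := by
      rw [← hAB, hA0, zero_mul, mul_zero, add_zero]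
    have : (1 : AddMonoid.End M) m = (0 : AddMonoid.End M) m := by rw [h10]
    exact this

end layer

end Cfsg.Agent.Lib.Helper8.HIG
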