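import Mathlib

/-! Commuting automorphisms of order `p` of an abelian `p'`-group, all of whose "mixed" products
are fixed-point-free. -/

set_option autoImplicit false

namespace Cfsg.Agent.Lib.Helper8.HT

variable {A : Type*} [CommGroup A]

theorem pow_mod_of_pow_eq_one {M : Type*} [Monoid M] {γ : M} {p : ℕ} (h : γ ^ p = 1) (a : ℕ) :
    γ ^ (a % p) = γ ^ a := by
  conv_rhs => rw [← Nat.div_add_mod a p, pow_add, pow_mul, h, one_pow, one_mul]

/-- the trace of `n` under `γ` -/
noncomputable def tr (p : ℕ) [NeZero p] (γ : MulAut A) (n : A) : A :=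
  ∏ c : ZMod p, (γ ^ c.val) n

theorem tr_fixed {p : ℕ} [hp : Fact p.Prime] (γ : MulAut A) (h : γ ^ p = 1) (n : A) :
    γ (tr p γ n) = tr p γ n := by
  unfold tr
  rw [map_prod]
  have e : ∀ c : ZMod p, γ ((γ ^ c.val) n) = (γ ^ (c + 1).val) n := by
    intro c
    rw [ZMod.val_add, pow_mod_of_pow_eq_one h]
    have h1 : (1 : ZMod p).val = 1 := ZMod.val_one p
    rw [h1, pow_succ', MulAut.mul_apply]
  simp only [e]
  exact Equiv.prod_comp (Equiv.addRight (1 : ZMod p)) (fun c => (γ ^ c.val) n)

theorem comm_auts_trivial [Finite A] {p : ℕ} [hp : Fact p.Prime]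
    (hA : (Nat.card A).Coprime p) (α β : MulAut A) (hcomm : α * β = β * α)
    (hα : α ^ p = 1) (hβ : β ^ p = 1)
    (hfpf : ∀ k : ℕ, ∀ a : A, (α ^ k * β) a = a → a = 1) : α = 1 := by
  classical
  have hC : Commute α β := hcomm
  have hpow : ∀ k : ℕ, (α ^ k * β) ^ p = 1 := by
    intro k
    rw [(hC.pow_left k).mul_pow, ← pow_mul, mul_comm k p, pow_mul, hα, one_pow, hβ, one_mul]
  have hone : ∀ (k : ℕ) (n : A), tr p (α ^ k * β) n = 1 := fun k n =>
    hfpf k _ (tr_fixed _ (hpow k) n)
  have key : ∀ n : A, n ^ p = tr p α n := by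
    intro n
    have h1 : ∏ c : ZMod p, tr p (α ^ c.val * β) n = 1 := by
      apply Finset.prod_eq_one
      intro c _
      exact hone c.val n
    unfold tr at h1
    rw [Finset.prod_comm] at h1
    -- rewrite the inner products
    have h2 : ∀ d : ZMod p, ∏ c : ZMod p, ((α ^ c.val * β) ^ d.val) n =
        if d = 0 then n ^ p else (β ^ d.val) (tr p α n) := by
      intro d
      by_cases hd : d = 0
      · rw [if_pos hd, hd]
        simp only [ZMod.val_zero, pow_zero, MulAut.one_apply, Finset.prod_const, Finset.card_univ,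
          ZMod.card]
      · rw [if_neg hd]
        have e : ∀ c : ZMod p, ((α ^ c.val * β) ^ d.val) n =
            (α ^ (c * d).val) ((β ^ d.val) n) := by
          intro c
          rw [(hC.pow_left c.val).mul_pow, ← pow_mul, ZMod.val_mul, pow_mod_of_pow_eq_one hα,
            MulAut.mul_apply]
        simp only [e]
        have e2 : ∏ c : ZMod p, (α ^ (c * d).val) ((β ^ d.val) n) =
            ∏ c : ZMod p, (α ^ c.val) ((β ^ d.val) n) :=
          Equiv.prod_comp (Equiv.mulRight₀ d hd) (fun c => (α ^ c.val) ((β ^ d.val) n))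
        rw [e2]
        unfold tr
        rw [map_prod]
        apply Finset.prod_congr rfl
        intro c _
        have hc2 : Commute (α ^ c.val) (β ^ d.val) := (hC.pow_left _).pow_right _
        rw [← MulAut.mul_apply, ← MulAut.mul_apply, hc2.eq]
    simp only [h2] at h1
    rw [← Finset.mul_prod_erase Finset.univ _ (Finset.mem_univ (0 : ZMod p)), if_pos rfl] at h1
    have h3 : ∏ d ∈ Finset.univ.erase (0 : ZMod p),
        (if d = 0 then n ^ p else (β ^ d.val) (tr p α n)) =
        ∏ d ∈ Finset.univ.erase (0 : ZMod p), (β ^ d.val) (tr p α n) := by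
      apply Finset.prod_congr rfl
      intro d hd
      rw [if_neg (Finset.ne_of_mem_erase hd)]
    rw [h3] at h1
    have h4 : tr p β (tr p α n) = 1 := by
      have := hone 0 (tr p α n)
      rwa [pow_zero, one_mul] at this
    unfold tr at h4
    rw [← Finset.mul_prod_erase Finset.univ _ (Finset.mem_univ (0 : ZMod p))] at h4
    simp only [ZMod.val_zero, pow_zero, MulAut.one_apply] at h4
    -- h4 : tr α n * ∏_{d≠0} = 1,  h1 : n^p * ∏_{d≠0} = 1
    have h5 := h1.trans h4.symm
    exact mul_right_cancel h5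
  -- every `n` is fixed
  ext n
  rw [MulAut.one_apply]
  obtain ⟨y, hy⟩ := (powCoprime hA).surjective n
  have hy' : y ^ p = n := hy
  rw [← hy', key y]
  exact tr_fixed α hα y

/-- A `p`-group of automorphisms of an abelian `p'`-group all of whose elements outside a proper
subgroup `R₀` are fixed-point-free of order `p` has order `p`, and `R₀ = ⊥`. -/
theorem aut_pgroup_lemma [Finite A] {p : ℕ} [hp : Fact p.Prime] (hA : (Nat.card A).Coprime p)
    (R R₀ : Subgroup (MulAut A)) (hR : IsPGroup p R) (hle : R₀ ≤ R) (hne : R₀ ≠ R)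
    (hout : ∀ π ∈ R, π ∉ R₀ → π ^ p = 1 ∧ ∀ a : A, π a = a → a = 1) :
    R₀ = ⊥ ∧ Nat.card R = p := by
  classical
  haveI : Finite (MulAut A) := Finite.of_injective (fun e : MulAut A => (e : A → A))
    (fun e f h => MulEquiv.ext (fun a => congrFun h a))
  -- an element outside R₀
  obtain ⟨x, hxR, hxR₀⟩ : ∃ x ∈ R, x ∉ R₀ := by
    by_contra hcon
    push Not at hcon
    exact hne (le_antisymm hle hcon)
  have hRnt : Nontrivial ↥R := by
    refine ⟨⟨⟨x, hxR⟩, 1, ?_⟩⟩
    intro h
    apply hxR₀
    have : x = 1 := congrArg Subtype.val h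
    rw [this]; exact Subgroup.one_mem _
  -- a central element of order p
  have hcnt : Nontrivial ↥(Subgroup.center ↥R) := hR.center_nontrivial
  have hcp : IsPGroup p ↥(Subgroup.center ↥R) := hR.to_subgroup _
  have hdvd : p ∣ Nat.card ↥(Subgroup.center ↥R) := by
    rcases hcp.card_eq_or_dvd with h1 | h1
    · exfalso
      have := (Nat.card_eq_one_iff_unique.mp h1).1
      exact not_subsingleton _ this
    · exact h1
  obtain ⟨z, hz⟩ := exists_prime_orderOf_dvd_card' p hdvd
  obtain ⟨zz, hzz⟩ : ∃ zz : MulAut A, zz = ((z : ↥R) : MulAut A) := ⟨_, rfl⟩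
  have hzzR : zz ∈ R := by rw [hzz]; exact (z : ↥R).2
  have hzzo : orderOf zz = p := by
    rw [hzz, Subgroup.orderOf_coe, Subgroup.orderOf_coe]; exact hz
  have hzzp : zz ^ p = 1 := by rw [← hzzo]; exact pow_orderOf_eq_one _
  have hzz1 : zz ≠ 1 := by
    intro h
    rw [h, orderOf_one] at hzzo
    exact hp.out.one_lt.ne hzzo
  have hzzc : ∀ π ∈ R, zz * π = π * zz := by
    intro π hπ
    have := Subgroup.mem_center_iff.mp z.2 ⟨π, hπ⟩
    have h2 := congrArg Subtype.val this
    rw [hzz]
    exact h2.symm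
  -- zz ∉ R₀
  have hzzR₀ : zz ∉ R₀ := by
    intro hmem
    apply hzz1
    apply comm_auts_trivial hA zz x (hzzc x hxR) hzzp (hout x hxR hxR₀).1
    intro k
    apply (hout (zz ^ k * x) (Subgroup.mul_mem _ (Subgroup.pow_mem _ hzzR k) hxR) ?_).2
    intro hcon
    apply hxR₀
    have : x = (zz ^ k)⁻¹ * (zz ^ k * x) := by group
    rw [this]
    exact Subgroup.mul_mem _ (Subgroup.inv_mem _ (Subgroup.pow_mem _ hmem k)) hcon
  have hR₀bot : R₀ = ⊥ := by
    by_contra hnb
    have hp0 : IsPGroup p ↥R₀ := hR.to_le hle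
    have hdvd0 : p ∣ Nat.card ↥R₀ := by
      rcases hp0.card_eq_or_dvd with h1 | h1
      · exact absurd (Subgroup.card_eq_one.mp h1) hnb
      · exact h1
    obtain ⟨y, hy⟩ := exists_prime_orderOf_dvd_card' p hdvd0
    have hyo : orderOf (y : MulAut A) = p := by rw [Subgroup.orderOf_coe]; exact hy
    have hyp : (y : MulAut A) ^ p = 1 := by rw [← hyo]; exact pow_orderOf_eq_one _
    have hy1 : (y : MulAut A) = 1 := by
      apply comm_auts_trivial hA (y : MulAut A) zz (hzzc _ (hle y.2)).symm hyp hzzp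
      intro k
      apply (hout ((y : MulAut A) ^ k * zz)
        (Subgroup.mul_mem _ (Subgroup.pow_mem _ (hle y.2) k) hzzR) ?_).2
      intro hcon
      apply hzzR₀
      have : zz = ((y : MulAut A) ^ k)⁻¹ * ((y : MulAut A) ^ k * zz) := by group
      rw [this]
      exact Subgroup.mul_mem _ (Subgroup.inv_mem _ (Subgroup.pow_mem _ y.2 k)) hcon
    rw [hy1, orderOf_one] at hyo
    exact hp.out.one_lt.ne hyo
  refine ⟨hR₀bot, ?_⟩
  have hRz : R = Subgroup.zpowers zz := by
    apply le_antisymm
    · intro w hw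
      by_contra hwz
      have hw1 : w ∉ R₀ := by
        rw [hR₀bot, Subgroup.mem_bot]
        intro h
        apply hwz
        rw [h]; exact Subgroup.one_mem _
      have hwp := (hout w hw hw1).1
      have hw1' : w = 1 := by
        apply comm_auts_trivial hA w zz (hzzc w hw).symm hwp hzzp
        intro k
        apply (hout (w ^ k * zz) (Subgroup.mul_mem _ (Subgroup.pow_mem _ hw k) hzzR) ?_).2
        rw [hR₀bot, Subgroup.mem_bot]
        intro hcon
        -- w ^ k = zz⁻¹
        have hwk : w ^ k = zz⁻¹ := by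
          rw [eq_inv_iff_mul_eq_one]; exact hcon
        by_cases hpk : p ∣ k
        · obtain ⟨j, rfl⟩ := hpk
          rw [pow_mul, hwp, one_pow] at hwk
          apply hzz1
          rw [← inv_inv zz, ← hwk, inv_one]
        · apply hwz
          have hcop : Nat.Coprime k p := (Nat.Coprime.symm ((Nat.Prime.coprime_iff_not_dvd hp.out).mpr hpk))
          obtain ⟨m, -, hm⟩ := Nat.exists_mul_mod_eq_one_of_coprime hcop hp.out.one_lt
          have : w = (w ^ k) ^ m := by
            rw [← pow_mul, ← pow_mod_of_pow_eq_one hwp, hm, pow_one]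
          rw [this, hwk]
          exact Subgroup.pow_mem _ (Subgroup.inv_mem _ (Subgroup.mem_zpowers zz)) m
      apply hwz
      rw [hw1']; exact Subgroup.one_mem _
    · rw [Subgroup.zpowers_le]; exact hzzR
  rw [hRz, Nat.card_zpowers, hzzo]

end Cfsg.Agent.Lib.Helper8.HT
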