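import Cfsg.Agent.Lib.Helper8.HT1

/-! A Frobenius-like group `Q⟨x⟩` all of whose elements outside `Q` act with vanishing trace on an
abelian group of order prime to `|Q|`: then `Q` acts trivially. -/

set_option autoImplicit false

namespace Cfsg.Agent.Lib.Helper8.HT

theorem pow_mul_inv_mem {Γ : Type*} [Group Γ] (Q : Subgroup Γ) (x : Γ)
    (hx : x ∈ Subgroup.normalizer (Q : Set Γ)) (u : Γ) (hu : u ∈ Q) (i : ℕ) :
    (u * x) ^ i * (x ^ i)⁻¹ ∈ Q := by
  induction i with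
  | zero => simp
  | succ i ih =>
    have hxi : x ^ i ∈ Subgroup.normalizer (Q : Set Γ) := Subgroup.pow_mem _ hx i
    have h1 : x ^ i * u * (x ^ i)⁻¹ ∈ Q := (Subgroup.mem_normalizer_iff.mp hxi u).mp hu
    have e : (u * x) ^ (i + 1) * (x ^ (i + 1))⁻¹ =
        ((u * x) ^ i * (x ^ i)⁻¹) * (x ^ i * u * (x ^ i)⁻¹) := by
      rw [pow_succ, pow_succ]; group
    rw [e]
    exact Subgroup.mul_mem _ ih h1

theorem frob_lemma {A : Type*} [CommGroup A] [Finite A] {Γ : Type*} [Group Γ]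
    (φ : Γ →* MulAut A) (Q : Subgroup Γ) [Finite Q] (x : Γ)
    (hx : x ∈ Subgroup.normalizer (Q : Set Γ)) {p : ℕ} [hp : Fact p.Prime]
    (h1 : ∀ u ∈ Q, (u * x) ^ p = 1)
    (h2 : ∀ u ∈ Q, ∀ n : A, ∏ j ∈ Finset.range p, φ ((u * x) ^ (j + 1)) n = 1)
    (hcop : (Nat.card A).Coprime (Nat.card Q)) :
    ∀ v ∈ Q, ∀ n : A, φ v n = n := by
  classical
  haveI : Fintype ↥Q := Fintype.ofFinite ↥Q
  obtain ⟨k, hk⟩ : ∃ k, p = k + 1 := ⟨p - 1, by have := hp.out.pos; omega⟩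
  -- for `1 ≤ i < p` the inner product is `Q`-invariant
  have hinv : ∀ j < k, ∀ n : A, ∀ v ∈ Q,
      φ v (∏ u : ↥Q, φ (((u : Γ) * x) ^ (j + 1)) n) = ∏ u : ↥Q, φ (((u : Γ) * x) ^ (j + 1)) n := by
    intro j hj n v hv
    set i := j + 1 with hi
    have hip : ¬ p ∣ i := by
      intro hdiv
      have := Nat.le_of_dvd (by omega) hdiv
      omega
    -- the bijection
    let b : ↥Q → ↥Q := fun u => ⟨((u : Γ) * x) ^ i * (x ^ i)⁻¹, pow_mul_inv_mem Q x hx u u.2 i⟩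
    have hbinj : Function.Injective b := by
      intro u u' h
      have h' : ((u : Γ) * x) ^ i * (x ^ i)⁻¹ = ((u' : Γ) * x) ^ i * (x ^ i)⁻¹ :=
        congrArg Subtype.val h
      have h'' : ((u : Γ) * x) ^ i = ((u' : Γ) * x) ^ i := mul_right_cancel h'
      have hcop' : Nat.Coprime i p :=
        (Nat.Coprime.symm ((Nat.Prime.coprime_iff_not_dvd hp.out).mpr hip))
      obtain ⟨m, -, hm⟩ := Nat.exists_mul_mod_eq_one_of_coprime hcop' hp.out.one_lt
      have e1 : (u : Γ) * x = (((u : Γ) * x) ^ i) ^ m := by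
        rw [← pow_mul, ← pow_mod_of_pow_eq_one (h1 u u.2), hm, pow_one]
      have e2 : (u' : Γ) * x = (((u' : Γ) * x) ^ i) ^ m := by
        rw [← pow_mul, ← pow_mod_of_pow_eq_one (h1 u' u'.2), hm, pow_one]
      apply Subtype.ext
      have : (u : Γ) * x = (u' : Γ) * x := by rw [e1, e2, h'']
      exact mul_right_cancel this
    have hbbij : Function.Bijective b := Finite.injective_iff_bijective.mp hbinj
    have e3 : ∀ u : ↥Q, φ (((u : Γ) * x) ^ i) n = φ ((b u : ↥Q) : Γ) (φ (x ^ i) n) := by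
      intro u
      rw [← MulAut.mul_apply, ← map_mul]
      congr 2
      show _ = ((u : Γ) * x) ^ i * (x ^ i)⁻¹ * x ^ i
      group
    have e4 : ∏ u : ↥Q, φ (((u : Γ) * x) ^ i) n = ∏ w : ↥Q, φ (w : Γ) (φ (x ^ i) n) := by
      simp only [e3]
      exact Function.Bijective.prod_comp hbbij (fun w : ↥Q => φ (w : Γ) (φ (x ^ i) n))
    rw [e4, map_prod]
    have e5 : ∀ w : ↥Q, φ v (φ (w : Γ) (φ (x ^ i) n)) =
        φ (((⟨v, hv⟩ : ↥Q) * w : ↥Q) : Γ) (φ (x ^ i) n) := by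
      intro w
      rw [← MulAut.mul_apply, ← map_mul]
      rfl
    simp only [e5]
    exact Equiv.prod_comp (Equiv.mulLeft (⟨v, hv⟩ : ↥Q)) (fun w : ↥Q => φ (w : Γ) (φ (x ^ i) n))
  intro v hv n
  -- the double product
  have hdouble : ∏ u : ↥Q, ∏ j ∈ Finset.range p, φ (((u : Γ) * x) ^ (j + 1)) n = 1 :=
    Finset.prod_eq_one (fun u _ => h2 u u.2 n)
  rw [Finset.prod_comm, hk, Finset.prod_range_succ] at hdouble
  have hlast : ∏ u : ↥Q, φ (((u : Γ) * x) ^ (k + 1)) n = n ^ Nat.card ↥Q := by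
    have : ∀ u : ↥Q, φ (((u : Γ) * x) ^ (k + 1)) n = n := by
      intro u
      rw [← hk, h1 u u.2, map_one, MulAut.one_apply]
    simp only [this, Finset.prod_const, Finset.card_univ, Nat.card_eq_fintype_card]
  rw [hlast] at hdouble
  -- n ^ |Q| is v-invariant
  have hc : φ v (n ^ Nat.card ↥Q) = n ^ Nat.card ↥Q := by
    have h3 : n ^ Nat.card ↥Q = (∏ j ∈ Finset.range k, ∏ u : ↥Q, φ (((u : Γ) * x) ^ (j + 1)) n)⁻¹ := by
      rw [eq_inv_iff_mul_eq_one, mul_comm]; exact hdouble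
    rw [h3, map_inv, map_prod]
    congr 1
    apply Finset.prod_congr rfl
    intro j hj
    exact hinv j (Finset.mem_range.mp hj) n v hv
  rw [map_pow] at hc
  exact (powCoprime hcop).injective hc

end Cfsg.Agent.Lib.Helper8.HT
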