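import Cfsg.Agent.Lib.Helper8.HT2
import Cfsg.Agent.Lib.Helper1.SCN
import Cfsg.Agent.Lib.Helper3.PGroupFix

/-! The Hughes subgroup: the index is `p`. -/

set_option autoImplicit false
set_option linter.style.haveILetI false

namespace Cfsg.Agent.Lib.Helper8.HT

open scoped IsMulCommutative
open Cfsg.Agent.Lib.Helper1 Cfsg.Agent.Lib.Helper3

variable {G : Type*} [Group G]

theorem pow_conj_identity (N : Subgroup G) [N.Normal] [IsMulCommutative ↥N] (y : G) (n : ↥N)
    (k : ℕ) :
    ((y * (n : G)) ^ k : G) =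
      ((∏ j ∈ Finset.range k, (MulAut.conjNormal (y ^ (j + 1)) : MulAut ↥N) n : ↥N) : G) *
        y ^ k := by
  induction k with
  | zero => simp
  | succ k ih =>
    rw [pow_succ, ih, Finset.prod_range_succ, Subgroup.coe_mul, MulAut.conjNormal_apply,
      pow_succ y k]
    group

/-- The Hughes-type hypothesis: `H` is a proper normal subgroup outside which every element has
order dividing `p`. -/
structure Hyp (p : ℕ) (H : Subgroup G) : Prop where
  normal : H.Normal
  ne_top : H ≠ ⊤
  out : ∀ g : G, g ∉ H → g ^ p = 1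

theorem Hyp.mul_notMem {p : ℕ} {H : Subgroup G} (_hyp : Hyp p H) {g n : G} (hg : g ∉ H)
    (hn : n ∈ H) : g * n ∉ H := by
  intro h
  apply hg
  have := H.mul_mem h (H.inv_mem hn)
  simpa using this

theorem Hyp.fpf {p : ℕ} [Finite G] {H : Subgroup G} (hyp : Hyp p H) (N : Subgroup G) [N.Normal]
    (hNH : N ≤ H) (hcop : (Nat.card N).Coprime p) {g : G} (hg : g ∉ H) (n : ↥N)
    (hfix : (MulAut.conjNormal g : MulAut ↥N) n = n) : n = 1 := by
  have h1 : g * (n : G) * g⁻¹ = n := by
    have := congrArg Subtype.val hfix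
    rwa [MulAut.conjNormal_apply] at this
  have hc : Commute g (n : G) := by
    have : g * (n : G) = n * g := by
      calc g * (n : G) = g * n * g⁻¹ * g := by group
        _ = n * g := by rw [h1]
    exact this
  have h2 : (g * (n : G)) ^ p = 1 := hyp.out _ (hyp.mul_notMem hg (hNH n.2))
  rw [hc.mul_pow, hyp.out g hg, one_mul] at h2
  have h3 : n ^ p = 1 := Subtype.ext (by rw [Subgroup.coe_pow, h2]; rfl)
  have h4 : orderOf n ∣ p := orderOf_dvd_of_pow_eq_one h3
  have h5 : orderOf n ∣ Nat.card ↥N := orderOf_dvd_natCard n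
  have h6 : orderOf n ∣ 1 := by
    have := Nat.dvd_gcd h5 h4
    rwa [hcop] at this
  exact orderOf_eq_one_iff.mp (Nat.dvd_one.mp h6)

theorem Hyp.trace {p : ℕ} {H : Subgroup G} (hyp : Hyp p H) (N : Subgroup G) [N.Normal]
    [IsMulCommutative ↥N] (hNH : N ≤ H) {g : G} (hg : g ∉ H) (n : ↥N) :
    ∏ j ∈ Finset.range p, (MulAut.conjNormal (g ^ (j + 1)) : MulAut ↥N) n = 1 := by
  have h := pow_conj_identity N g n p
  rw [hyp.out _ (hyp.mul_notMem hg (hNH n.2)), hyp.out g hg, mul_one] at h
  exact Subtype.ext h.symm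

theorem Hyp.isPGroup_quotient {p : ℕ} {H : Subgroup G} (hyp : Hyp p H) :
    haveI := hyp.normal
    IsPGroup p (G ⧸ H) := by
  haveI := hyp.normal
  intro x
  induction x using QuotientGroup.induction_on with
  | H g =>
    refine ⟨1, ?_⟩
    rw [pow_one]
    by_cases hg : g ∈ H
    · rw [(QuotientGroup.eq_one_iff g).mpr hg, one_pow]
    · rw [← QuotientGroup.mk_pow, hyp.out g hg, QuotientGroup.mk_one]

theorem Hyp.sylow_sup {p : ℕ} [hp : Fact p.Prime] [Finite G] {H : Subgroup G} (hyp : Hyp p H)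
    (S : Sylow p G) : (S : Subgroup G) ⊔ H = ⊤ := by
  haveI := hyp.normal
  obtain ⟨k, hk⟩ := IsPGroup.iff_card.mp hyp.isPGroup_quotient
  rw [← Subgroup.index_eq_card] at hk
  have h1 : ((S : Subgroup G) ⊔ H).index ∣ (S : Subgroup G).index :=
    Subgroup.index_dvd_of_le le_sup_left
  have h2 : ((S : Subgroup G) ⊔ H).index ∣ p ^ k := by
    rw [← hk]; exact Subgroup.index_dvd_of_le le_sup_right
  obtain ⟨j, _, hj⟩ := (Nat.dvd_prime_pow hp.out).mp h2
  rcases Nat.eq_zero_or_pos j with h0 | hpos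
  · rw [h0, pow_zero] at hj
    exact Subgroup.index_eq_one.mp hj
  · exfalso
    apply S.not_dvd_index
    refine dvd_trans ?_ h1
    rw [hj]
    exact dvd_pow_self p (by omega)

theorem Hyp.index_eq_relIndex {p : ℕ} [hp : Fact p.Prime] [Finite G] {H : Subgroup G}
    (hyp : Hyp p H) (S : Sylow p G) : H.index = H.relIndex (S : Subgroup G) := by
  haveI := hyp.normal
  rw [← Subgroup.relIndex_sup_right, hyp.sylow_sup S, Subgroup.relIndex_top_right]

theorem local_index {p : ℕ} [hp : Fact p.Prime] [Finite G] {H : Subgroup G} (hyp : Hyp p H)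
    (N : Subgroup G) [N.Normal] [IsMulCommutative ↥N] (hNH : N ≤ H)
    (hcop : (Nat.card N).Coprime p) (S : Sylow p G) :
    (S : Subgroup G) ⊓ H ≤ Subgroup.centralizer (N : Set G) ∧ (N ≠ ⊥ → H.index = p) := by
  classical
  haveI := hyp.normal
  by_cases hN : N = ⊥
  · refine ⟨?_, fun h => absurd hN h⟩
    intro g _
    rw [Subgroup.mem_centralizer_iff]
    intro n hn
    have : n = 1 := by
      have hn' : n ∈ N := hn
      rw [hN] at hn'
      exact Subgroup.mem_bot.mp hn'
    rw [this, one_mul, mul_one]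
  · obtain ⟨n₀, hn₀N, hn₀⟩ : ∃ n ∈ N, n ≠ 1 := by
      by_contra hcon
      push Not at hcon
      exact hN ((Subgroup.eq_bot_iff_forall N).mpr hcon)
    set φ : G →* MulAut ↥N := MulAut.conjNormal with hφ
    have key : ∀ g : G, g ∉ H → φ g ≠ 1 := by
      intro g hg h1
      have : (⟨n₀, hn₀N⟩ : ↥N) = 1 := by
        apply hyp.fpf N hNH hcop hg
        change φ g _ = _
        rw [h1]; rfl
      exact hn₀ (congrArg Subtype.val this)
    obtain ⟨g₀, hg₀S, hg₀H⟩ : ∃ g ∈ (S : Subgroup G), g ∉ H := by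
      by_contra hcon
      push Not at hcon
      have hle : (S : Subgroup G) ≤ H := hcon
      have := hyp.sylow_sup S
      rw [sup_of_le_right hle] at this
      exact hyp.ne_top this
    set R : Subgroup (MulAut ↥N) := (S : Subgroup G).map φ with hR
    set R₀ : Subgroup (MulAut ↥N) := ((S : Subgroup G) ⊓ H).map φ with hR₀
    have hRp : IsPGroup p R := S.isPGroup'.map φ
    have hne : R₀ ≠ R := by
      intro heq
      have h1 : φ g₀ ∈ R₀ := by rw [heq]; exact Subgroup.mem_map_of_mem φ hg₀S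
      obtain ⟨h, hh, hhe⟩ := Subgroup.mem_map.mp h1
      apply key (h⁻¹ * g₀)
      · intro hmem
        apply hg₀H
        have := H.mul_mem hh.2 hmem
        simpa using this
      · rw [map_mul, map_inv, hhe, inv_mul_cancel]
    have hout : ∀ π ∈ R, π ∉ R₀ → π ^ p = 1 ∧ ∀ a : ↥N, π a = a → a = 1 := by
      intro π hπ hπ₀
      obtain ⟨g, hgS, rfl⟩ := Subgroup.mem_map.mp hπ
      have hg : g ∉ H := fun h => hπ₀ (Subgroup.mem_map_of_mem φ ⟨hgS, h⟩)
      refine ⟨by rw [← map_pow, hyp.out g hg, map_one], fun a ha => ?_⟩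
      exact hyp.fpf N hNH hcop hg a ha
    obtain ⟨hR₀bot, hRc⟩ := aut_pgroup_lemma hcop R R₀ hRp (Subgroup.map_mono inf_le_left) hne hout
    have hker : ∀ g ∈ (S : Subgroup G) ⊓ H, φ g = 1 := by
      intro g hg
      have : φ g ∈ R₀ := Subgroup.mem_map_of_mem φ hg
      rw [hR₀bot] at this
      exact Subgroup.mem_bot.mp this
    refine ⟨?_, fun _ => ?_⟩
    · intro g hg
      rw [Subgroup.mem_centralizer_iff]
      intro n hn
      have h1 : φ g ⟨n, hn⟩ = ⟨n, hn⟩ := by rw [hker g hg]; rfl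
      have h2 : g * n * g⁻¹ = n := by
        have := congrArg Subtype.val h1
        rwa [hφ, MulAut.conjNormal_apply] at this
      calc n * g = g * n * g⁻¹ * g := by rw [h2]
        _ = g * n := by group
    · rw [hyp.index_eq_relIndex S]
      have e1 : H ⊓ (S : Subgroup G) = φ.ker ⊓ (S : Subgroup G) := by
        ext g
        constructor
        · rintro ⟨h1, h2⟩
          exact ⟨MonoidHom.mem_ker.mpr (hker g ⟨h2, h1⟩), h2⟩
        · rintro ⟨h1, h2⟩
          refine ⟨?_, h2⟩
          by_contra hgH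
          exact key g hgH (MonoidHom.mem_ker.mp h1)
      rw [← Subgroup.inf_relIndex_right, e1, Subgroup.inf_relIndex_right, ← MonoidHom.comap_bot,
        Subgroup.relIndex_comap, Subgroup.relIndex_bot_left]
      exact hRc

end Cfsg.Agent.Lib.Helper8.HT
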