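import Cfsg.Agent.Lib.Helper8.HT3
import Cfsg.Agent.Lib.Helper1.Coprime

/-! The Hughes subgroup: the index is `p` (global version), and inheritance of the hypothesis. -/

set_option autoImplicit false
set_option linter.style.haveILetI false

namespace Cfsg.Agent.Lib.Helper8.HT

open scoped IsMulCommutative
open Cfsg.Agent.Lib.Helper1 Cfsg.Agent.Lib.Helper3

variable {G : Type*} [Group G]

theorem Hyp.subgroupOf {p : ℕ} {H : Subgroup G} (hyp : Hyp p H) (G₁ : Subgroup G)
    (h : ¬ G₁ ≤ H) : Hyp p (H.subgroupOf G₁) := by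
  haveI := hyp.normal
  refine ⟨inferInstance, ?_, ?_⟩
  · intro htop
    exact h (Subgroup.subgroupOf_eq_top.mp htop)
  · intro g hg
    have hg' : (g : G) ∉ H := fun hh => hg (Subgroup.mem_subgroupOf.mpr hh)
    exact Subtype.ext (by rw [Subgroup.coe_pow, hyp.out _ hg']; rfl)

theorem Hyp.quotient {p : ℕ} {H : Subgroup G} (hyp : Hyp p H) (N : Subgroup G) [N.Normal]
    (hNH : N ≤ H) : Hyp p (H.map (QuotientGroup.mk' N)) := by
  haveI := hyp.normal
  have hcomap : (H.map (QuotientGroup.mk' N)).comap (QuotientGroup.mk' N) = H := by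
    rw [Subgroup.comap_map_eq, QuotientGroup.ker_mk', sup_of_le_left hNH]
  refine ⟨Subgroup.Normal.map inferInstance _ (QuotientGroup.mk'_surjective N), ?_, ?_⟩
  · intro htop
    apply hyp.ne_top
    rw [← hcomap, htop, Subgroup.comap_top]
  · intro x hx
    obtain ⟨g, rfl⟩ := QuotientGroup.mk'_surjective N x
    have hg : g ∉ H := fun hh => hx (Subgroup.mem_map_of_mem _ hh)
    rw [← map_pow, hyp.out g hg, map_one]

theorem exists_prime_ne_of_not_isPGroup [Finite G] {p : ℕ} [hp : Fact p.Prime]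
    (hG : ¬ IsPGroup p G) : ∃ q : ℕ, q.Prime ∧ q ≠ p ∧ q ∣ Nat.card G := by
  by_contra hcon
  push Not at hcon
  apply hG
  have h := Nat.eq_prime_pow_of_unique_prime_dvd (n := Nat.card G) (p := p) Nat.card_pos.ne'
    (fun {d} hd hdvd => by
      by_contra hne
      exact hcon d hd hne hdvd)
  exact IsPGroup.of_card h

theorem Hyp.sylow_le {p : ℕ} [hp : Fact p.Prime] [Finite G] {H : Subgroup G} (hyp : Hyp p H)
    {q : ℕ} [hq : Fact q.Prime] (hqp : q ≠ p) (Q : Subgroup G) (hQ : IsPGroup q Q) : Q ≤ H := by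
  intro g hg
  by_contra hgH
  have h1 : orderOf g ∣ p := orderOf_dvd_of_pow_eq_one (hyp.out g hgH)
  obtain ⟨k, hk⟩ := hQ ⟨g, hg⟩
  have hk' : g ^ q ^ k = 1 := by
    have := congrArg Subtype.val hk
    rwa [Subgroup.coe_pow] at this
  have h2 : orderOf g ∣ q ^ k := orderOf_dvd_of_pow_eq_one hk'
  have hcop : (q ^ k).Coprime p := ((Nat.coprime_primes hq.out hp.out).mpr hqp).pow_left k
  have h3 : orderOf g ∣ 1 := by
    have := Nat.dvd_gcd h2 h1
    rwa [hcop] at this
  have : g = 1 := orderOf_eq_one_iff.mp (Nat.dvd_one.mp h3)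
  apply hgH
  rw [this]; exact H.one_mem

theorem hughes_index {p : ℕ} [hp : Fact p.Prime] [Finite G] {H : Subgroup G} (hyp : Hyp p H)
    (hG : ¬ IsPGroup p G) : H.index = p := by
  classical
  haveI := hyp.normal
  obtain ⟨q, hq, hqp, hqdvd⟩ := exists_prime_ne_of_not_isPGroup hG
  haveI : Fact q.Prime := ⟨hq⟩
  obtain ⟨Q⟩ : Nonempty (Sylow q G) := inferInstance
  have hQne : (Q : Subgroup G) ≠ ⊥ := Q.ne_bot_of_dvd_card hqdvd
  have hQH : (Q : Subgroup G) ≤ H := hyp.sylow_le hqp _ Q.isPGroup'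
  have hfr : Subgroup.normalizer ((Q : Subgroup G) : Set G) ⊔ H = ⊤ :=
    Sylow.normalizer_sup_eq_top' Q hQH
  set Z : Subgroup G := (Q : Subgroup G) ⊓ Subgroup.centralizer ((Q : Subgroup G) : Set G) with hZ
  have hZne : Z ≠ ⊥ :=
    inf_centralizer_ne_bot_of_isPGroup q Q.isPGroup' Q.isPGroup' Subgroup.le_normalizer hQne
  set G₁ : Subgroup G := Subgroup.normalizer ((Q : Subgroup G) : Set G) with hG₁
  have hZG₁ : Z ≤ G₁ := inf_le_left.trans Subgroup.le_normalizer
  have hG₁Z : G₁ ≤ Subgroup.normalizer (Z : Set G) :=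
    le_normalizer_inf le_rfl (normalizer_le_normalizer_centralizer' _)
  have hG₁H : ¬ G₁ ≤ H := by
    intro hle
    rw [sup_of_le_right hle] at hfr
    exact hyp.ne_top hfr
  have hyp₁ : Hyp p (H.subgroupOf G₁) := hyp.subgroupOf G₁ hG₁H
  haveI hZn : (Z.subgroupOf G₁).Normal :=
    (Subgroup.normal_subgroupOf_iff_le_normalizer hZG₁).mpr hG₁Z
  haveI : IsMulCommutative ↥(Z.subgroupOf G₁) := by
    refine ⟨⟨fun a b => ?_⟩⟩
    have ha : ((a : ↥G₁) : G) ∈ Z := a.2
    have hb : ((b : ↥G₁) : G) ∈ Z := b.2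
    have := Subgroup.mem_centralizer_iff.mp hb.2 _ ha.1
    exact Subtype.ext (Subtype.ext this)
  have hle₁ : Z.subgroupOf G₁ ≤ H.subgroupOf G₁ := by
    intro x hx
    exact Subgroup.mem_subgroupOf.mpr (hQH (Subgroup.mem_subgroupOf.mp hx).1)
  have hZp : IsPGroup q ↥(Z.subgroupOf G₁) := (Q.isPGroup'.to_le inf_le_left).comap_subtype
  have hcop : (Nat.card ↥(Z.subgroupOf G₁)).Coprime p := by
    obtain ⟨k, hk⟩ := IsPGroup.iff_card.mp hZp
    rw [hk]
    exact ((Nat.coprime_primes hq hp.out).mpr hqp).pow_left k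
  have hne₁ : Z.subgroupOf G₁ ≠ ⊥ := by
    intro hbot
    apply hZne
    rw [Subgroup.eq_bot_iff_forall]
    intro z hz
    have : (⟨z, hZG₁ hz⟩ : ↥G₁) ∈ Z.subgroupOf G₁ := Subgroup.mem_subgroupOf.mpr hz
    rw [hbot] at this
    exact congrArg Subtype.val (Subgroup.mem_bot.mp this)
  obtain ⟨S⟩ : Nonempty (Sylow p ↥G₁) := inferInstance
  have hidx := (local_index hyp₁ (Z.subgroupOf G₁) hle₁ hcop S).2 hne₁
  have e : (H.subgroupOf G₁).index = H.relIndex G₁ := rfl
  rw [e, ← Subgroup.relIndex_sup_right, hfr, Subgroup.relIndex_top_right] at hidx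
  exact hidx

end Cfsg.Agent.Lib.Helper8.HT
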