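import Cfsg.Agent.Lib.Helper8.HT5
import Cfsg.Agent.Lib.Helper8.ThLoc5
import Cfsg.Agent.Lib.Helper8.NilMax
import Cfsg.Agent.Lib.Helper7.InducedFunctor1
import Cfsg.Agent.S0144

/-! The Hughes subgroup: a minimal normal subgroup of `G` inside `H` is abelian (in a minimal
counterexample). -/

set_option autoImplicit false
set_option linter.style.haveILetI false

universe u

namespace Cfsg.Agent.Lib.Helper8.HT

open Cfsg
open scoped IsMulCommutative
open Cfsg.Agent.Lib.Helper1 Cfsg.Agent.Lib.Helper3 Cfsg.Agent.Lib.Helper7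

theorem isNilpotent_of_injective {K L : Type*} [Group K] [Group L] (hL : Group.IsNilpotent L)
    (f : K →* L) (hf : Function.Injective f) : Group.IsNilpotent K :=
  haveI := hL
  Subgroup.isNilpotent_of_ker_le_center f
    (by rw [(MonoidHom.ker_eq_bot_iff f).mpr hf]; exact bot_le)

theorem perfect_no_solvable_quotient {X : Type*} [Group X] (hperf : commutator X = ⊤)
    (K : Subgroup X) [K.Normal] (hs : Group.IsSolvable (X ⧸ K)) (hnt : Nontrivial (X ⧸ K)) :
    False := by
  have h1 : commutator (X ⧸ K) = ⊤ := by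
    rw [commutator_def, ← Subgroup.map_top_of_surjective (QuotientGroup.mk' K)
      (QuotientGroup.mk'_surjective K), ← Subgroup.map_commutator, ← commutator_def, hperf]
  have h2 := Group.IsSolvable.commutator_lt_top_of_nontrivial (X ⧸ K)
  rw [h1] at h2
  exact lt_irrefl _ h2

theorem not_solvable_of_perfect {X : Type*} [Group X] (hperf : commutator X = ⊤)
    (hnt : Nontrivial X) : ¬ Group.IsSolvable X := by
  intro hs
  have h2 := Group.IsSolvable.commutator_lt_top_of_nontrivial X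
  rw [hperf] at h2
  exact lt_irrefl _ h2

variable {G : Type u} [Group G]

theorem nilpotent_normalizer_of_char {p q : ℕ} [hq : Fact q.Prime] [Finite G]
    {H : Subgroup G} (hyp : Hyp p H)
    (F1 : ∀ G₁ : Subgroup G, G₁ ≠ ⊤ → ¬ G₁ ≤ H → Group.IsNilpotent ↥(H.subgroupOf G₁))
    (N : Subgroup G) [hNn : N.Normal] (hNH : N ≤ H)
    (hmin : ∀ M : Subgroup G, M.Normal → M ≤ N → M ≠ ⊥ → M = N)
    (hnq : ¬ IsPGroup q ↥N)
    (P : Sylow q ↥N) (hPne : (P : Subgroup ↥N) ≠ ⊥)
    {W : ∀ (Q : Type u) [Group Q], Subgroup Q} (hW : IsCharPFunctor.{u} q W) :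
    Group.IsNilpotent ↥(Subgroup.normalizer
      ((inducedFunctor (G := ↥N) W (P : Subgroup ↥N) : Subgroup ↥N) : Set ↥N)) := by
  classical
  set T : Subgroup G := (P : Subgroup ↥N).map N.subtype with hT
  have hTq : IsPGroup q ↥T := P.isPGroup'.map _
  have hTN : T ≤ N := by
    rintro _ ⟨x, _, rfl⟩
    exact x.2
  have hTne : T ≠ ⊥ := by
    intro h
    exact hPne ((Subgroup.map_eq_bot_iff_of_injective _ (Subgroup.subtype_injective N)).mp h)
  set WN : Subgroup ↥N := inducedFunctor (G := ↥N) W (P : Subgroup ↥N) with hWN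
  set WG : Subgroup G := inducedFunctor (G := G) W T with hWG
  have e : WN.map N.subtype = WG :=
    inducedFunctor_map_of_injective hW N.subtype (Subgroup.subtype_injective N) _ P.isPGroup'
  have hconj := isConjugacyFunctor_inducedFunctor (X := G) hW T hTq
  have hWGT : WG ≤ T := hconj.1
  have hWGne : WG ≠ ⊥ := hconj.2.1 hTne
  set G₃ : Subgroup G := Subgroup.normalizer (WG : Set G) with hG₃
  have h1 : Subgroup.normalizer (T : Set G) ≤ G₃ := by
    intro g hg
    rw [Subgroup.mem_normalizer_iff_map_conj_eq] at hg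
    rw [hG₃, Subgroup.mem_normalizer_iff_map_conj_eq]
    have h5 := hconj.2.2 g
    simp only [MulEquiv.toMonoidHom_eq_coe] at h5
    rw [← h5, hg]
  have hfr : Subgroup.normalizer (T : Set G) ⊔ N = ⊤ := Sylow.normalizer_sup_eq_top P
  have hG₃N : G₃ ⊔ N = ⊤ := top_le_iff.mp (hfr ▸ sup_le_sup_right h1 N)
  have hG₃H : ¬ G₃ ≤ H := by
    intro hle
    apply hyp.ne_top
    exact top_le_iff.mp (hG₃N ▸ sup_le hle hNH)
  have hG₃top : G₃ ≠ ⊤ := by
    intro htop
    have hn : WG.Normal := Subgroup.normalizer_eq_top_iff.mp htop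
    have := hmin WG hn (hWGT.trans hTN) hWGne
    apply hnq
    have hNT : N ≤ T := this ▸ hWGT
    exact hTq.to_le hNT
  have hnil := F1 G₃ hG₃top hG₃H
  have hmem : ∀ x : ↥(Subgroup.normalizer (WN : Set ↥N)), ((x : ↥N) : G) ∈ G₃ := by
    intro x
    have h2 : ((x : ↥N) : G) ∈ (Subgroup.normalizer (WN : Set ↥N)).map N.subtype :=
      Subgroup.mem_map_of_mem N.subtype x.2
    have h3 := Subgroup.le_normalizer_map N.subtype h2
    rwa [e] at h3
  let f₁ : ↥(Subgroup.normalizer (WN : Set ↥N)) →* ↥G₃ :=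
    (N.subtype.comp (Subgroup.subtype _)).codRestrict G₃ hmem
  let f₂ : ↥(Subgroup.normalizer (WN : Set ↥N)) →* ↥(H.subgroupOf G₃) :=
    f₁.codRestrict _ (fun x => Subgroup.mem_subgroupOf.mpr (hNH (x : ↥N).2))
  apply isNilpotent_of_injective hnil f₂
  intro a b hab
  have h4 : (((f₂ a : ↥(H.subgroupOf G₃)) : ↥G₃) : G) = (((f₂ b : ↥(H.subgroupOf G₃)) : ↥G₃) : G) := by
    rw [hab]
  exact Subtype.ext (Subtype.ext h4)

theorem nonabelian_minimal_false {p : ℕ} [hp : Fact p.Prime] [Finite G]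
    {H : Subgroup G} (hyp : Hyp p H)
    (F1 : ∀ G₁ : Subgroup G, G₁ ≠ ⊤ → ¬ G₁ ≤ H → Group.IsNilpotent ↥(H.subgroupOf G₁))
    (N : Subgroup G) [hNn : N.Normal] (hNH : N ≤ H) (hNne : N ≠ ⊥)
    (hmin : ∀ M : Subgroup G, M.Normal → M ≤ N → M ≠ ⊥ → M = N)
    (hnab : ¬ IsMulCommutative ↥N) : False := by
  classical
  haveI hNnt : Nontrivial ↥N := (Subgroup.nontrivial_iff_ne_bot N).mpr hNne
  -- `N` is perfect
  have hNN : ⁅N, N⁆ = N := by
    apply hmin _ inferInstance (Subgroup.commutator_le_left N N)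
    intro hbot
    apply hnab
    rw [Subgroup.commutator_eq_bot_iff_le_centralizer] at hbot
    refine ⟨⟨fun a b => ?_⟩⟩
    have := Subgroup.mem_centralizer_iff.mp (hbot a.2) b b.2
    exact Subtype.ext this.symm
  have hperf : commutator ↥N = ⊤ := by
    apply Subgroup.map_injective (Subgroup.subtype_injective N)
    rw [Subgroup.map_subtype_commutator, hNN, ← MonoidHom.range_eq_map, Subgroup.range_subtype]
  have hns : ¬ Group.IsSolvable ↥N := not_solvable_of_perfect hperf hNnt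
  -- an odd prime `q ≠ p` dividing `|N|`
  obtain ⟨q, hq, hq2, hqp, hqdvd⟩ : ∃ q : ℕ, q.Prime ∧ q ≠ 2 ∧ q ≠ p ∧ q ∣ Nat.card ↥N := by
    by_contra hcon
    push Not at hcon
    apply hns
    obtain ⟨a, m, hm, hcard⟩ := Nat.exists_eq_two_pow_mul_odd (n := Nat.card ↥N) Nat.card_pos.ne'
    have hm0 : m ≠ 0 := by
      rintro rfl
      exact (Nat.not_odd_iff_even.mpr (by decide)) hm
    have hmp := Nat.eq_prime_pow_of_unique_prime_dvd (n := m) (p := p) hm0
      (fun {d} hd hdvd => by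
        by_contra hne
        have hd2 : d ≠ 2 := by
          rintro rfl
          exact (Nat.not_even_iff_odd.mpr hm) (even_iff_two_dvd.mpr hdvd)
        exact hcon d hd hd2 hne (dvd_trans hdvd (hcard ▸ Dvd.intro_left _ rfl)))
    rw [hmp] at hcard
    exact Cfsg.Agent.S0144.result 2 p a _ Nat.prime_two hp.out hcard
  haveI : Fact q.Prime := ⟨hq⟩
  have hnq : ¬ IsPGroup q ↥N := by
    intro h
    apply hns
    haveI := h.isNilpotent
    infer_instance
  obtain ⟨P⟩ : Nonempty (Sylow q ↥N) := inferInstance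
  have hPne : (P : Subgroup ↥N) ≠ ⊥ := P.ne_bot_of_dvd_card hqdvd
  -- the two local subgroups are nilpotent
  have hJ := nilpotent_normalizer_of_char hyp F1 N hNH hmin hnq P hPne
    (Cfsg.Agent.Lib.Helper8.ThLoc.isCharPFunctor_thompsonSubgroupA q)
  have hZ := nilpotent_normalizer_of_char hyp F1 N hNH hmin hnq P hPne
    (Cfsg.Agent.Lib.Helper1.ThP.isCharPFunctor_center q)
  have e2 : inducedFunctor (G := ↥N) (fun (Q : Type u) [Group Q] => Subgroup.center Q)
      (P : Subgroup ↥N) =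
      (P : Subgroup ↥N) ⊓ Subgroup.centralizer ((P : Subgroup ↥N) : Set ↥N) := by
    unfold inducedFunctor
    exact Cfsg.Agent.Lib.Helper1.Puig.center_map_subtype _
  rw [e2] at hZ
  have hZ' : Group.IsNilpotent ↥(Subgroup.centralizer
      (((P : Subgroup ↥N) ⊓ Subgroup.centralizer ((P : Subgroup ↥N) : Set ↥N) : Subgroup ↥N) :
        Set ↥N)) :=
    isNilpotent_of_injective hZ (Subgroup.inclusion (Subgroup.centralizer_le_normalizer _))
      (Subgroup.inclusion_injective _)
  have h1 : HasNormalPComplement q ↥(Subgroup.normalizer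
      (Cfsg.thompsonSubgroupAOf (P : Subgroup ↥N) : Set ↥N)) :=
    Cfsg.Agent.Lib.Helper8.NilMax.hasNormalPComplement_of_isNilpotent hJ q
  have h2 := Cfsg.Agent.Lib.Helper8.NilMax.hasNormalPComplement_of_isNilpotent hZ' q
  obtain ⟨P', K, hKn, hKc⟩ := Cfsg.Agent.Lib.Helper8.ThLoc.thompsonA_npc P (Or.inl hq2) h2 h1
  haveI := hKn
  have hidx : K.index = Nat.card ↥(P' : Subgroup ↥N) := hKc.symm.index_eq_card
  obtain ⟨k, hk⟩ := IsPGroup.iff_card.mp P'.isPGroup'
  have hP'ne : (P' : Subgroup ↥N) ≠ ⊥ := P'.ne_bot_of_dvd_card hqdvd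
  have hcardQ : Nat.card (↥N ⧸ K) = q ^ k := by
    rw [← Subgroup.index_eq_card, hidx, hk]
  have hQp : IsPGroup q (↥N ⧸ K) := IsPGroup.of_card hcardQ
  have hQs : Group.IsSolvable (↥N ⧸ K) := by
    haveI := hQp.isNilpotent
    infer_instance
  have hQnt : Nontrivial (↥N ⧸ K) := by
    rw [← Finite.one_lt_card_iff_nontrivial, ← Subgroup.index_eq_card, hidx]
    exact Finite.one_lt_card_iff_nontrivial.mpr ((Subgroup.nontrivial_iff_ne_bot _).mpr hP'ne)
  exact perfect_no_solvable_quotient hperf K hQs hQnt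

end Cfsg.Agent.Lib.Helper8.HT
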