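import Cfsg.Agent.Lib.Helper8.HT6

/-! The Hughes–Thompson–Kegel theorem: a proper Hughes subgroup is nilpotent. -/

set_option autoImplicit false
set_option linter.style.haveILetI false

universe u

namespace Cfsg.Agent.Lib.Helper8.HT

open Cfsg
open scoped IsMulCommutative

theorem card_subgroup_lt_of_ne_top {G : Type*} [Group G] [Finite G] (K : Subgroup G)
    (h : K ≠ ⊤) : Nat.card ↥K < Nat.card G := by
  by_contra hcon
  push Not at hcon
  exact h (Subgroup.eq_top_of_le_card K hcon)

theorem card_quotient_lt_of_ne_bot {G : Type*} [Group G] [Finite G] (N : Subgroup G)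
    (h : N ≠ ⊥) : Nat.card (G ⧸ N) < Nat.card G := by
  have h1 := Subgroup.card_eq_card_quotient_mul_card_subgroup N
  haveI : Nontrivial ↥N := (Subgroup.nontrivial_iff_ne_bot N).mpr h
  have h2 : 1 < Nat.card ↥N := Finite.one_lt_card
  have h3 : 0 < Nat.card (G ⧸ N) := Nat.card_pos
  rw [h1]
  nlinarith

theorem hughes_nilpotent_aux (p : ℕ) [hp : Fact p.Prime] :
    ∀ (n : ℕ) (G : Type u) [Group G] [Finite G] (H : Subgroup G), Nat.card G = n → Hyp p H →
      Group.IsNilpotent ↥H := by
  intro n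
  induction n using Nat.strong_induction_on with
  | _ n ih =>
    intro G _ _ H hn hyp
    classical
    haveI := hyp.normal
    by_contra hnil
    have F1 : ∀ G₁ : Subgroup G, G₁ ≠ ⊤ → ¬ G₁ ≤ H → Group.IsNilpotent ↥(H.subgroupOf G₁) :=
      fun G₁ h1 h2 => ih (Nat.card ↥G₁) (hn ▸ card_subgroup_lt_of_ne_top G₁ h1) ↥G₁
        (H.subgroupOf G₁) rfl (hyp.subgroupOf G₁ h2)
    have F2 : ∀ (N : Subgroup G) [N.Normal], N ≤ H → N ≠ ⊥ →
        Group.IsNilpotent ↥(H.map (QuotientGroup.mk' N)) :=
      fun N _ h1 h2 => ih (Nat.card (G ⧸ N)) (hn ▸ card_quotient_lt_of_ne_bot N h2) (G ⧸ N)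
        (H.map (QuotientGroup.mk' N)) rfl (hyp.quotient N h1)
    have hHbot : H ≠ ⊥ := by
      intro h
      apply hnil
      haveI : Subsingleton ↥H := by rw [h]; infer_instance
      infer_instance
    -- a minimal normal subgroup of `G` inside `H`
    have hS : ∃ k, ∃ N : Subgroup G, N.Normal ∧ N ≠ ⊥ ∧ N ≤ H ∧ Nat.card ↥N = k :=
      ⟨_, H, inferInstance, hHbot, le_rfl, rfl⟩
    obtain ⟨N, hNn, hNne, hNH, hNc⟩ := Nat.find_spec hS
    have hmin : ∀ M : Subgroup G, M.Normal → M ≤ N → M ≠ ⊥ → M = N := by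
      intro M hMn hMN hMne
      apply Subgroup.eq_of_le_of_card_ge hMN
      rw [hNc]
      exact Nat.find_min' hS ⟨M, hMn, hMne, hMN.trans hNH, rfl⟩
    haveI := hNn
    by_cases hab : IsMulCommutative ↥N
    · have hcent := central_of_abelian_minimal hyp N hNH hNne hmin
      apply hnil
      haveI := F2 N hNH hNne
      apply Subgroup.isNilpotent_of_ker_le_center ((QuotientGroup.mk' N).subgroupMap H)
      intro x hx
      rw [MonoidHom.mem_ker] at hx
      have h1 : (QuotientGroup.mk' N) (x : G) = 1 := by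
        have := congrArg Subtype.val hx
        simpa using this
      have h2 : (x : G) ∈ N := by
        rwa [QuotientGroup.mk'_apply, QuotientGroup.eq_one_iff] at h1
      rw [Subgroup.mem_center_iff]
      intro y
      have := Subgroup.mem_centralizer_iff.mp (hcent h2) (y : G) y.2
      exact Subtype.ext this
    · exact nonabelian_minimal_false hyp F1 N hNH hNne hmin hab

theorem hughes_closure_hyp {G : Type*} [Group G] (p : ℕ)
    (hH : Subgroup.closure {g : G | g ^ p ≠ 1} ≠ ⊤) :
    Hyp p (Subgroup.closure {g : G | g ^ p ≠ 1}) := by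
  refine ⟨⟨fun n hn g => ?_⟩, hH, ?_⟩
  · have hle : (Subgroup.closure {g : G | g ^ p ≠ 1}).map (MulAut.conj g).toMonoidHom ≤
        Subgroup.closure {g : G | g ^ p ≠ 1} := by
      rw [MonoidHom.map_closure]
      apply Subgroup.closure_mono
      rintro _ ⟨x, hx, rfl⟩
      change (g * x * g⁻¹) ^ p ≠ 1
      rw [conj_pow]
      intro h
      apply hx
      rwa [conj_eq_one_iff] at h
    exact hle ⟨n, hn, rfl⟩
  · intro g hg
    by_contra h
    exact hg (Subgroup.subset_closure h)

end Cfsg.Agent.Lib.Helper8.HT
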