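import Mathlib

/-!
The Hamming scheme `ι → Fin m` and its isometry group: primitive for `m ≥ 3`, not doubly
transitive for `card ι ≥ 2`, `m ≥ 2`.
-/

namespace Cfsg.Agent.Lib.Helper8.Hamming

open MulAction
open scoped Pointwise

variable {ι : Type*} [Fintype ι] [DecidableEq ι] {m : ℕ}

/-- Hamming distance. -/
def hd (x y : ι → Fin m) : ℕ := (Finset.univ.filter fun i => x i ≠ y i).card

/-- The isometry group of the Hamming scheme. -/
def isoGroup (ι : Type*) [Fintype ι] [DecidableEq ι] (m : ℕ) :
    Subgroup (Equiv.Perm (ι → Fin m)) where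
  carrier := {g | ∀ x y, hd (g x) (g y) = hd x y}
  mul_mem' := by
    intro g h hg hh x y
    rw [Equiv.Perm.mul_apply, Equiv.Perm.mul_apply, hg, hh]
  one_mem' := by
    intro x y
    rfl
  inv_mem' := by
    intro g hg x y
    have := hg (g⁻¹ x) (g⁻¹ y)
    simp only [Equiv.Perm.coe_inv, Equiv.apply_symm_apply] at this
    exact this.symm

theorem mem_isoGroup {g : Equiv.Perm (ι → Fin m)} :
    g ∈ isoGroup ι m ↔ ∀ x y, hd (g x) (g y) = hd x y := Iff.rfl

theorem piCongrRight_mem (τ : ι → Equiv.Perm (Fin m)) :
    (Equiv.piCongrRight τ : Equiv.Perm (ι → Fin m)) ∈ isoGroup ι m := by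
  intro x y
  unfold hd
  congr 1
  ext i
  simp

/-- Permuting the coordinates. -/
def coordPerm (π : Equiv.Perm ι) : Equiv.Perm (ι → Fin m) := Equiv.arrowCongr π (Equiv.refl _)

omit [Fintype ι] [DecidableEq ι] in
theorem coordPerm_apply (π : Equiv.Perm ι) (x : ι → Fin m) (i : ι) :
    coordPerm π x i = x (π.symm i) := rfl

theorem coordPerm_mem (π : Equiv.Perm ι) : (coordPerm π : Equiv.Perm (ι → Fin m)) ∈ isoGroup ι m := by
  intro x y
  unfold hd
  apply Finset.card_equiv π.symm
  intro i
  rw [Finset.mem_filter, Finset.mem_filter]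
  simp only [Finset.mem_univ, true_and, coordPerm_apply]

theorem block_closed {X : Type*} {G : Subgroup (Equiv.Perm X)} {B : Set X} (hB : IsBlock G B)
    {g : Equiv.Perm X} (hg : g ∈ G) {a : X} (ha : a ∈ B) (hga : g a ∈ B) {x : X} (hx : x ∈ B) :
    g x ∈ B := by
  have h1 : (⟨g, hg⟩ : G) • B = B := hB.smul_eq_of_mem (g := ⟨g, hg⟩) ha hga
  rw [← h1]
  exact Set.smul_mem_smul_set (a := (⟨g, hg⟩ : G)) hx

/-- apply `τ` on coordinate `j`, identity elsewhere. -/
def onCoord (j : ι) (τ : Equiv.Perm (Fin m)) : Equiv.Perm (ι → Fin m) :=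
  Equiv.piCongrRight (fun k => if k = j then τ else 1)

theorem onCoord_mem (j : ι) (τ : Equiv.Perm (Fin m)) : onCoord j τ ∈ isoGroup ι m :=
  piCongrRight_mem _

theorem onCoord_apply_same (j : ι) (τ : Equiv.Perm (Fin m)) (x : ι → Fin m) :
    onCoord j τ x j = τ (x j) := by
  simp [onCoord]

theorem onCoord_apply_ne (j : ι) (τ : Equiv.Perm (Fin m)) (x : ι → Fin m) {k : ι} (hk : k ≠ j) :
    onCoord j τ x k = x k := by
  simp [onCoord, hk]

theorem onCoord_eq_update (j : ι) (τ : Equiv.Perm (Fin m)) (x : ι → Fin m) :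
    onCoord j τ x = Function.update x j (τ (x j)) := by
  ext k
  by_cases hk : k = j
  · subst hk
    rw [onCoord_apply_same, Function.update_self]
  · rw [onCoord_apply_ne j τ x hk, Function.update_of_ne hk]

theorem onCoord_fix (j : ι) (τ : Equiv.Perm (Fin m)) (x : ι → Fin m) (h : τ (x j) = x j) :
    onCoord j τ x = x := by
  rw [onCoord_eq_update, h, Function.update_eq_self]

/-- The twisted coordinate swap fixing `b`. -/
def twist (b : ι → Fin m) (i j : ι) : Equiv.Perm (ι → Fin m) :=
  (Equiv.piCongrRight (fun k => Equiv.swap (b (Equiv.swap i j k)) (b k))) * coordPerm (Equiv.swap i j)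

theorem twist_mem (b : ι → Fin m) (i j : ι) : twist b i j ∈ isoGroup ι m :=
  (isoGroup ι m).mul_mem (piCongrRight_mem _) (coordPerm_mem _)

theorem twist_apply (b : ι → Fin m) (i j : ι) (x : ι → Fin m) (k : ι) :
    twist b i j x k = Equiv.swap (b (Equiv.swap i j k)) (b k) (x (Equiv.swap i j k)) := by
  simp [twist, coordPerm_apply]

theorem twist_fix (b : ι → Fin m) (i j : ι) : twist b i j b = b := by
  ext k
  rw [twist_apply, Equiv.swap_apply_left]

theorem twist_update (b : ι → Fin m) (i j : ι) (d : Fin m) :
    twist b i j (Function.update b j d) = Function.update b i (Equiv.swap (b j) (b i) d) := by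
  ext k
  rw [twist_apply]
  by_cases hk : k = i
  · subst hk
    rw [Equiv.swap_apply_left, Function.update_self, Function.update_self]
  · have h1 : Equiv.swap i j k ≠ j := by
      intro h
      apply hk
      have := congrArg (Equiv.swap i j) h
      rw [Equiv.swap_apply_self, Equiv.swap_apply_right] at this
      exact this
    rw [Function.update_of_ne h1, Function.update_of_ne hk, Equiv.swap_apply_left]

theorem exists_third (hm : 3 ≤ m) (u v : Fin m) : ∃ c : Fin m, c ≠ u ∧ c ≠ v := by
  by_contra h
  push Not at h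
  have h1 : (Finset.univ : Finset (Fin m)) ⊆ {u, v} := by
    intro c _
    by_cases hc : c = u
    · simp [hc]
    · simp [h c hc]
  have h2 := Finset.card_le_card h1
  have h3 : ({u, v} : Finset (Fin m)).card ≤ 2 := Finset.card_le_two
  rw [Finset.card_univ, Fintype.card_fin] at h2
  omega

theorem block_line (hm : 3 ≤ m) {B : Set (ι → Fin m)} (hB : IsBlock (isoGroup ι m) B)
    {a b : ι → Fin m} (ha : a ∈ B) (hb : b ∈ B) (hab : a ≠ b) (i : ι) (d : Fin m) :
    Function.update b i d ∈ B := by
  obtain ⟨j, hj⟩ := Function.ne_iff.1 hab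
  obtain ⟨c, hca, hcb⟩ := exists_third hm (a j) (b j)
  -- step 1
  have h1 : Function.update b j c ∈ B := by
    have hfix : onCoord j (Equiv.swap (b j) c) a = a := by
      apply onCoord_fix
      exact Equiv.swap_apply_of_ne_of_ne hj hca.symm
    have := block_closed hB (onCoord_mem j (Equiv.swap (b j) c)) ha (by rw [hfix]; exact ha) hb
    rw [onCoord_eq_update, Equiv.swap_apply_left] at this
    exact this
  -- step 2
  have h2 : ∀ d' : Fin m, Function.update b j d' ∈ B := by
    intro d'
    by_cases hd : d' = b j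
    · rw [hd, Function.update_eq_self]
      exact hb
    · have hfix : onCoord j (Equiv.swap c d') b = b := by
        apply onCoord_fix
        exact Equiv.swap_apply_of_ne_of_ne (Ne.symm hcb) (Ne.symm hd)
      have := block_closed hB (onCoord_mem j (Equiv.swap c d')) hb (by rw [hfix]; exact hb) h1
      rw [onCoord_eq_update, Function.update_self, Equiv.swap_apply_left,
        Function.update_idem] at this
      exact this
  -- step 3
  have h3 := block_closed hB (twist_mem b i j) hb (by rw [twist_fix]; exact hb)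
    (h2 (Equiv.swap (b j) (b i) d))
  rw [twist_update, Equiv.swap_apply_self] at h3
  exact h3

theorem block_eq_univ (hm : 3 ≤ m) {B : Set (ι → Fin m)} (hB : IsBlock (isoGroup ι m) B)
    {a b : ι → Fin m} (ha : a ∈ B) (hb : b ∈ B) (hab : a ≠ b) : B = Set.univ := by
  have upd : ∀ x ∈ B, ∀ i d, Function.update x i d ∈ B := by
    intro x hx i d
    by_cases hxa : x = a
    · subst hxa
      exact block_line hm hB hb hx (Ne.symm hab) i d
    · exact block_line hm hB ha hx (Ne.symm hxa) i d
  have key : ∀ s : Finset ι, ∀ x : ι → Fin m, (∀ i, i ∉ s → x i = b i) → x ∈ B := by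
    intro s
    induction s using Finset.induction_on with
    | empty =>
      intro x hx
      have : x = b := funext fun i => hx i (Finset.notMem_empty i)
      rw [this]
      exact hb
    | insert j s hj ih =>
      intro x hx
      have h1 : Function.update x j (b j) ∈ B := by
        apply ih
        intro i hi
        by_cases hij : i = j
        · subst hij
          rw [Function.update_self]
        · rw [Function.update_of_ne hij]
          apply hx
          simp [hij, hi]
      have h2 := upd _ h1 j (x j)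
      rw [Function.update_idem, Function.update_eq_self] at h2
      exact h2
  rw [Set.eq_univ_iff_forall]
  intro x
  exact key Finset.univ x (fun i hi => absurd (Finset.mem_univ i) hi)

theorem isPretransitive_isoGroup : IsPretransitive (isoGroup ι m) (ι → Fin m) := by
  constructor
  intro x y
  refine ⟨⟨Equiv.piCongrRight (fun k => Equiv.swap (x k) (y k)), piCongrRight_mem _⟩, ?_⟩
  funext k
  show ((Equiv.piCongrRight (fun k => Equiv.swap (x k) (y k))) x k : Fin m) = y k
  simp

theorem isPreprimitive_isoGroup [Nonempty ι] (hm : 3 ≤ m) :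
    IsPreprimitive (isoGroup ι m) (ι → Fin m) := by
  haveI := isPretransitive_isoGroup (ι := ι) (m := m)
  have hne : Nonempty (Fin m) := ⟨⟨0, by omega⟩⟩
  obtain ⟨c⟩ := hne
  apply IsPreprimitive.of_isTrivialBlock_base (fun _ => c)
  intro B _ hB
  by_cases hs : B.Subsingleton
  · exact Or.inl hs
  · right
    rw [Set.not_subsingleton_iff] at hs
    obtain ⟨a, ha, b, hb, hab⟩ := hs
    exact block_eq_univ hm hB ha hb hab

theorem not_two_pretransitive (hr : 2 ≤ Fintype.card ι) (hm : 2 ≤ m) :
    ¬ IsMultiplyPretransitive (isoGroup ι m) (ι → Fin m) 2 := by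
  intro h
  rw [is_two_pretransitive_iff] at h
  obtain ⟨i, j, hij⟩ := Fintype.exists_pair_of_one_lt_card (α := ι) (by omega)
  let c0 : Fin m := ⟨0, by omega⟩
  let c1 : Fin m := ⟨1, by omega⟩
  have hc : c0 ≠ c1 := by
    intro h
    have := congrArg Fin.val h
    simp [c0, c1] at this
  let x : ι → Fin m := fun _ => c0
  let y : ι → Fin m := Function.update x i c1
  let z : ι → Fin m := Function.update y j c1
  have hxy : hd x y = 1 := by
    unfold hd
    rw [Finset.card_eq_one]
    refine ⟨i, ?_⟩
    ext k
    rw [Finset.mem_filter, Finset.mem_singleton]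
    by_cases hk : k = i
    · subst hk
      simp [x, y, hc]
    · simp [x, y, hk]
  have hxz : hd x z = 2 := by
    unfold hd
    rw [Finset.card_eq_two]
    refine ⟨i, j, hij, ?_⟩
    ext k
    rw [Finset.mem_filter, Finset.mem_insert, Finset.mem_singleton]
    by_cases hkj : k = j
    · subst hkj
      simp [x, z, hc]
    · by_cases hki : k = i
      · subst hki
        simp [x, y, z, hkj, hc]
      · simp [x, y, z, hkj, hki]
  have hxy' : x ≠ y := by
    intro h
    rw [← h] at hxy
    simp [hd] at hxy
  have hxz' : x ≠ z := by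
    intro h
    rw [← h] at hxz
    simp [hd] at hxz
  obtain ⟨g, hg1, hg2⟩ := h hxy' hxz'
  have := g.2 x y
  have e1 : (g : Equiv.Perm (ι → Fin m)) x = x := hg1
  have e2 : (g : Equiv.Perm (ι → Fin m)) y = z := hg2
  rw [e1, e2, hxy, hxz] at this
  omega

end Cfsg.Agent.Lib.Helper8.Hamming
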