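import Mathlib

set_option autoImplicit false

/-! Schreier presentations: a group generated by elements satisfying the Schreier relations of a chain of
transversals has order at most the product of the sizes of the transversals.  The presented group on these
relations, and homomorphisms out of it. -/

namespace Cfsg.Agent.Lib.Helper8.SchP

variable {G : Type*} [Group G]

/-- the value of a word under an assignment of the letters: the product, head first -/
def wp (g : ℕ → G) (w : List ℕ) : G := (w.map g).prod

theorem wp_nil (g : ℕ → G) : wp g [] = 1 := rfl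

theorem wp_cons (g : ℕ → G) (a : ℕ) (w : List ℕ) : wp g (a :: w) = g a * wp g w := by
  unfold wp
  rw [List.map_cons, List.prod_cons]

theorem wp_append (g : ℕ → G) (w w' : List ℕ) : wp g (w ++ w') = wp g w * wp g w' := by
  unfold wp
  rw [List.map_append, List.prod_append]

theorem wp_single (g : ℕ → G) (a : ℕ) : wp g [a] = g a := by
  rw [wp_cons, wp_nil, mul_one]

theorem map_wp {H : Type*} [Group H] (f : G →* H) (g : ℕ → G) (w : List ℕ) :
    f (wp g w) = wp (fun k => f (g k)) w := by
  induction w with
  | nil => rw [wp_nil, wp_nil, map_one]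
  | cons a w ih => rw [wp_cons, wp_cons, map_mul, ih]

theorem wp_congr (g g' : ℕ → G) (w : List ℕ) (h : ∀ k ∈ w, g k = g' k) : wp g w = wp g' w := by
  induction w with
  | nil => rfl
  | cons a w ih =>
    rw [wp_cons, wp_cons, h a List.mem_cons_self, ih fun k hk => h k (List.mem_cons_of_mem _ hk)]

/-! ### one level -/

/-- If right multiplication by the (involutive) generators permutes the cosets `H u`, `u ∈ U`, then these
cosets cover the subgroup generated. -/
theorem cover_of_step (H : Subgroup G) (T U : List G) (h1 : (1 : G) ∈ U)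
    (hinv : ∀ t ∈ T, t * t = 1)
    (hstep : ∀ u ∈ U, ∀ t ∈ T, ∃ h ∈ H, ∃ u' ∈ U, u * t = h * u') :
    ∀ g ∈ Subgroup.closure {x | x ∈ T}, ∃ h ∈ H, ∃ u ∈ U, g = h * u := by
  intro g hg
  induction hg using Subgroup.closure_induction_right with
  | one => exact ⟨1, H.one_mem, 1, h1, by rw [mul_one]⟩
  | mul_right x _ y hy ih =>
    obtain ⟨h, hh, u, hu, rfl⟩ := ih
    obtain ⟨h', hh', u', hu', e⟩ := hstep u hu y hy
    exact ⟨h * h', H.mul_mem hh hh', u', hu', by rw [mul_assoc, e, mul_assoc]⟩
  | mul_inv_cancel x _ y hy ih =>
    have hy' : y⁻¹ = y := by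
      rw [inv_eq_iff_mul_eq_one]
      exact hinv y hy
    obtain ⟨h, hh, u, hu, rfl⟩ := ih
    obtain ⟨h', hh', u', hu', e⟩ := hstep u hu y hy
    exact ⟨h * h', H.mul_mem hh hh', u', hu', by rw [hy', mul_assoc, e, mul_assoc]⟩

/-- a subgroup covered by finitely many cosets of a finite subgroup -/
theorem card_le_of_cover (K H : Subgroup G) (U : List G) [Finite H]
    (hcov : ∀ g ∈ K, ∃ h ∈ H, ∃ u ∈ U, g = h * u) :
    Finite K ∧ Nat.card K ≤ U.length * Nat.card H := by
  classical
  have hex : ∀ g : K, ∃ q : Fin U.length × H, (g : G) = (q.2 : G) * U[q.1] := by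
    intro g
    obtain ⟨h, hh, u, hu, e⟩ := hcov g.1 g.2
    obtain ⟨j, hj, rfl⟩ := List.mem_iff_getElem.1 hu
    exact ⟨(⟨j, hj⟩, ⟨h, hh⟩), e⟩
  choose f hf using hex
  have finj : Function.Injective f := by
    intro g g' e
    apply Subtype.ext
    rw [hf g, hf g', e]
  have hfin : Finite K := Finite.of_injective f finj
  refine ⟨hfin, ?_⟩
  have := Nat.card_le_card_of_injective f finj
  rwa [Nat.card_prod, Nat.card_eq_fintype_card (α := Fin U.length), Fintype.card_fin] at this

/-! ### the data of a chain -/

/-- one level: the words of the generators, the words of the transversal, and for the `a`-th transversal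
word and the `b`-th generator the indices of generators of the next level and the index of a transversal
word -/
structure Lvl where
  T : List (List ℕ)
  U : List (List ℕ)
  hw : List (List (List ℕ))
  ua : List (List ℕ)

/-- the generator words of the first level -/
def firstT : List Lvl → List (List ℕ)
  | [] => []
  | L :: _ => L.T

/-- the left side of a relation -/
def lhsW (L : Lvl) (a b : ℕ) : List ℕ := L.U.getD a [] ++ L.T.getD b []

/-- the right side of a relation -/
def rhsW (L : Lvl) (Tn : List (List ℕ)) (a b : ℕ) : List ℕ :=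
  (((L.hw.getD a []).getD b []).map fun c => Tn.getD c []).flatten ++
    L.U.getD ((L.ua.getD a []).getD b 0) []

/-- the relations of a level -/
def relsL (L : Lvl) (Tn : List (List ℕ)) : List (List ℕ × List ℕ) :=
  (L.T.map fun t => (t ++ t, [])) ++
    (List.range L.U.length).flatMap fun a =>
      (List.range L.T.length).map fun b => (lhsW L a b, rhsW L Tn a b)

/-- all relations -/
def relsAll : List Lvl → List (List ℕ × List ℕ)
  | [] => []
  | L :: D => relsL L (firstT D) ++ relsAll D

/-- the relations hold for an assignment of the letters -/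
def Holds (g : ℕ → G) (D : List Lvl) : Prop := ∀ p ∈ relsAll D, wp g p.1 = wp g p.2

/-- every transversal contains the empty word -/
def Good (D : List Lvl) : Prop := ∀ L ∈ D, [] ∈ L.U

instance (D : List Lvl) : Decidable (Good D) := by
  unfold Good
  infer_instance

/-- the bound for the order -/
def bound (D : List Lvl) : ℕ := (D.map fun L => L.U.length).prod

theorem wp_flatten_mem (g : ℕ → G) (H : Subgroup G) (ws : List (List ℕ)) (h : ∀ w ∈ ws, wp g w ∈ H) :
    wp g ws.flatten ∈ H := by
  induction ws with
  | nil => exact H.one_mem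
  | cons w ws ih =>
    rw [List.flatten_cons, wp_append]
    exact H.mul_mem (h w List.mem_cons_self) (ih fun w' hw' => h w' (List.mem_cons_of_mem _ hw'))

/-- The Schreier relations bound the order of the subgroup generated by the first level. -/
theorem card_closure_le (g : ℕ → G) : ∀ D : List Lvl, Good D → Holds g D →
    Finite (Subgroup.closure {x | ∃ w ∈ firstT D, x = wp g w}) ∧
      Nat.card (Subgroup.closure {x | ∃ w ∈ firstT D, x = wp g w}) ≤ bound D := by
  intro D
  induction D with
  | nil =>
    intro _ _
    have : {x : G | ∃ w ∈ firstT [], x = wp g w} = ∅ := by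
      ext x
      simp [firstT]
    rw [this, Subgroup.closure_empty]
    refine ⟨inferInstance, ?_⟩
    rw [Subgroup.card_bot]
    exact le_refl 1
  | cons L D ih =>
    intro hgood hholds
    have hgoodD : Good D := fun L' hL' => hgood L' (List.mem_cons_of_mem _ hL')
    have hholdsD : Holds g D := fun p hp => hholds p (List.mem_append_right _ hp)
    obtain ⟨hfin, hcard⟩ := ih hgoodD hholdsD
    set H := Subgroup.closure {x | ∃ w ∈ firstT D, x = wp g w} with hH
    have hU' : [] ∈ L.U := hgood L List.mem_cons_self
    have hTn : ∀ c, wp g ((firstT D).getD c []) ∈ H := by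
      intro c
      by_cases hc : c < (firstT D).length
      · apply Subgroup.subset_closure
        refine ⟨(firstT D).getD c [], ?_, rfl⟩
        rw [List.getD_eq_getElem _ _ hc]
        exact List.getElem_mem hc
      · rw [List.getD_eq_default _ _ (not_lt.1 hc)]
        exact H.one_mem
    have hUmem : ∀ j, wp g (L.U.getD j []) ∈ L.U.map (wp g) := by
      intro j
      by_cases hj : j < L.U.length
      · rw [List.getD_eq_getElem _ _ hj]
        exact List.mem_map_of_mem (List.getElem_mem hj)
      · rw [List.getD_eq_default _ _ (not_lt.1 hj)]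
        apply List.mem_map.2
        exact ⟨[], hU', rfl⟩
    have hcov := cover_of_step H (L.T.map (wp g)) (L.U.map (wp g))
      (by
        apply List.mem_map.2
        exact ⟨[], hU', rfl⟩)
      (by
        intro t ht
        obtain ⟨w, hw, rfl⟩ := List.mem_map.1 ht
        have := hholds (w ++ w, []) (by
          show _ ∈ relsL L (firstT D) ++ relsAll D
          apply List.mem_append_left
          apply List.mem_append_left
          exact List.mem_map.2 ⟨w, hw, rfl⟩)
        rw [wp_append, wp_nil] at this
        exact this)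
      (by
        intro u hu t ht
        obtain ⟨uw, huw, rfl⟩ := List.mem_map.1 hu
        obtain ⟨tw, htw, rfl⟩ := List.mem_map.1 ht
        obtain ⟨a, ha, rfl⟩ := List.mem_iff_getElem.1 huw
        obtain ⟨b, hb, rfl⟩ := List.mem_iff_getElem.1 htw
        have hrel := hholds (lhsW L a b, rhsW L (firstT D) a b) (by
          show _ ∈ relsL L (firstT D) ++ relsAll D
          apply List.mem_append_left
          apply List.mem_append_right
          apply List.mem_flatMap.2
          refine ⟨a, List.mem_range.2 ha, ?_⟩
          exact List.mem_map.2 ⟨b, List.mem_range.2 hb, rfl⟩)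
        simp only [lhsW, rhsW] at hrel
        rw [wp_append, wp_append, List.getD_eq_getElem _ _ ha, List.getD_eq_getElem _ _ hb] at hrel
        refine ⟨_, ?_, _, hUmem _, hrel⟩
        apply wp_flatten_mem
        intro w hw
        obtain ⟨c, _, rfl⟩ := List.mem_map.1 hw
        exact hTn c)
    have hset : {x : G | ∃ w ∈ firstT (L :: D), x = wp g w} = {x | x ∈ L.T.map (wp g)} := by
      ext x
      simp only [firstT, Set.mem_ofPred_eq, List.mem_map]
      constructor
      · rintro ⟨w, hw, rfl⟩
        exact ⟨w, hw, rfl⟩
      · rintro ⟨w, hw, rfl⟩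
        exact ⟨w, hw, rfl⟩
    rw [hset]
    obtain ⟨hfinK, hcardK⟩ := card_le_of_cover (Subgroup.closure {x | x ∈ L.T.map (wp g)}) H
      (L.U.map (wp g)) hcov
    refine ⟨hfinK, hcardK.trans ?_⟩
    rw [List.length_map]
    show _ ≤ ((L :: D).map fun L => L.U.length).prod
    rw [List.map_cons, List.prod_cons]
    exact Nat.mul_le_mul_left _ hcard

/-! ### the presented group -/

/-- the letters in the free group -/
def letF (n : ℕ) (k : ℕ) : FreeGroup (Fin n) := if h : k < n then FreeGroup.of ⟨k, h⟩ else 1

/-- the relators -/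
def relSet (n : ℕ) (D : List Lvl) : Set (FreeGroup (Fin n)) :=
  {r | ∃ p ∈ relsAll D, r = wp (letF n) p.1 * (wp (letF n) p.2)⁻¹}

/-- the presented group -/
abbrev PG (n : ℕ) (D : List Lvl) : Type := PresentedGroup (relSet n D)

/-- the letters in the presented group -/
def letP (n : ℕ) (D : List Lvl) (k : ℕ) : PG n D := PresentedGroup.mk (relSet n D) (letF n k)

theorem mk_wp (n : ℕ) (D : List Lvl) (w : List ℕ) :
    PresentedGroup.mk (relSet n D) (wp (letF n) w) = wp (letP n D) w :=
  map_wp (PresentedGroup.mk (relSet n D)) (letF n) w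

theorem holds_PG (n : ℕ) (D : List Lvl) : Holds (letP n D) D := by
  intro p hp
  rw [← mk_wp, ← mk_wp]
  have : PresentedGroup.mk (relSet n D) (wp (letF n) p.1 * (wp (letF n) p.2)⁻¹) = 1 :=
    PresentedGroup.one_of_mem ⟨p, hp, rfl⟩
  rw [map_mul, map_inv, mul_inv_eq_one] at this
  exact this

/-- the words of the letters -/
def letters (n : ℕ) : List (List ℕ) := (List.range n).map fun k => [k]

theorem closure_letP (n : ℕ) (D : List Lvl) :
    Subgroup.closure {x | ∃ w ∈ letters n, x = wp (letP n D) w} = ⊤ := by
  rw [eq_top_iff, ← PresentedGroup.closure_range_of, Subgroup.closure_le]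
  rintro _ ⟨i, rfl⟩
  apply Subgroup.subset_closure
  refine ⟨[i.1], List.mem_map.2 ⟨i.1, List.mem_range.2 i.2, rfl⟩, ?_⟩
  rw [wp_single]
  show PresentedGroup.of i = PresentedGroup.mk (relSet n D) (letF n i.1)
  unfold letF
  rw [dif_pos i.2]
  rfl

/-- The presented group is finite, of order at most the bound. -/
theorem card_PG_le (n : ℕ) (D : List Lvl) (hgood : Good D) (hfirst : firstT D = letters n) :
    Finite (PG n D) ∧ Nat.card (PG n D) ≤ bound D := by
  obtain ⟨h1, h2⟩ := card_closure_le (letP n D) D hgood (holds_PG n D)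
  rw [hfirst, closure_letP] at h1 h2
  have e : (⊤ : Subgroup (PG n D)) ≃ PG n D := Subgroup.topEquiv.toEquiv
  refine ⟨(Equiv.finite_iff e).1 h1, ?_⟩
  rwa [Nat.card_congr e] at h2

section hom

variable {H : Type*} [Group H] (n : ℕ) (D : List Lvl) (f : ℕ → H) (hf1 : ∀ k, n ≤ k → f k = 1)
  (hf : Holds f D)

include hf1 in
theorem lift_wp (w : List ℕ) : FreeGroup.lift (fun i : Fin n => f i.1) (wp (letF n) w) = wp f w := by
  rw [map_wp]
  apply wp_congr
  intro k _
  unfold letF
  by_cases hk : k < n
  · rw [dif_pos hk, FreeGroup.lift_apply_of]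
  · rw [dif_neg hk, map_one, hf1 k (not_lt.1 hk)]

include hf1 hf in
theorem rels_hold : ∀ r ∈ relSet n D, FreeGroup.lift (fun i : Fin n => f i.1) r = 1 := by
  rintro _ ⟨p, hp, rfl⟩
  rw [map_mul, map_inv, lift_wp n f hf1, lift_wp n f hf1, hf p hp, mul_inv_cancel]

/-- the homomorphism from the presented group given by an assignment satisfying the relations -/
def homOf : PG n D →* H := PresentedGroup.toGroup (rels_hold n D f hf1 hf)

theorem homOf_letP (k : ℕ) (hk : k < n) : homOf n D f hf1 hf (letP n D k) = f k := by
  unfold letP letF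
  rw [dif_pos hk]
  exact PresentedGroup.toGroup.of (rels_hold n D f hf1 hf)

theorem homOf_wp (w : List ℕ) : homOf n D f hf1 hf (wp (letP n D) w) = wp f w := by
  rw [← mk_wp]
  show FreeGroup.lift (fun i : Fin n => f i.1) (wp (letF n) w) = wp f w
  exact lift_wp n f hf1 w

theorem range_homOf :
    (homOf n D f hf1 hf).range = Subgroup.closure {x | ∃ k, k < n ∧ x = f k} := by
  apply le_antisymm
  · rw [MonoidHom.range_eq_map, ← PresentedGroup.closure_range_of, MonoidHom.map_closure,
      Subgroup.closure_le]
    rintro _ ⟨_, ⟨i, rfl⟩, rfl⟩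
    apply Subgroup.subset_closure
    refine ⟨i.1, i.2, ?_⟩
    exact PresentedGroup.toGroup.of (rels_hold n D f hf1 hf)
  · rw [Subgroup.closure_le]
    rintro _ ⟨k, hk, rfl⟩
    exact ⟨letP n D k, homOf_letP n D f hf1 hf k hk⟩

end hom

end Cfsg.Agent.Lib.Helper8.SchP
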