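import Cfsg.Agent.Lib.Helper8.HeO6
import Cfsg.Agent.Lib.Helper8.HeC2
import Cfsg.Agent.Lib.Helper8.SchP
import Cfsg.Agent.Lib.Helper8.SQ5
import Cfsg.Agent.Lib.Helper9.CZC

set_option autoImplicit false
set_option maxRecDepth 100000

/-! The centraliser of an involution of the Held group: the generators as elements of the presented
group, a Schreier presentation of the centraliser of a transvection of `SL₅(2)` and its homomorphisms
to the permutation group on 16 points and to the Held group (partly generated). -/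

namespace Cfsg.Agent.Lib.Helper8.HeO

open Cfsg.Spor Cfsg.Agent.Lib.Helper4.TC Cfsg.Agent.Lib.Helper4.TCD Cfsg.Agent.Lib.Helper4.TC.Log
open Cfsg.Agent.Lib.Helper8.SchP Cfsg.Agent.Lib.Helper9

theorem real_31 : SQ.Real K58 u31 :=
  SQ.real_of_eq (fL := fun x => u13 (u12 (u14 (u13 (u15 (u12 (u9 (u13 (u11 (u13 (u13 (x)))))))))))) (fR := fun x => x)
    ((real_13).comp ((real_12).comp ((real_14).comp ((real_13).comp ((real_15).comp ((real_12).comp ((real_9).comp ((real_13).comp ((real_11).comp ((real_13).comp ((real_13))))))))))))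
    (SQ.real_id)
    (fun x hx => Nat.eq_of_beq_eq_true (SQ.allB_spec cert_31 x hx))
theorem real_32 : SQ.Real K58 u32 :=
  SQ.real_of_eq (fL := fun x => u15 (u12 (u15 (u9 (u9 (u14 (u10 (u15 (u7 (u7 (u7 (u5 (u6 (x)))))))))))))) (fR := fun x => x)
    ((real_15).comp ((real_12).comp ((real_15).comp ((real_9).comp ((real_9).comp ((real_14).comp ((real_10).comp ((real_15).comp ((real_7).comp ((real_7).comp ((real_7).comp ((real_5).comp ((real_6))))))))))))))
    (SQ.real_id)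
    (fun x hx => Nat.eq_of_beq_eq_true (SQ.allB_spec cert_32 x hx))
theorem real_33 : SQ.Real K58 u33 :=
  SQ.real_of_eq (fL := fun x => u14 (u13 (u13 (u13 (u15 (u13 (u15 (u10 (u9 (u13 (u11 (u15 (u0 (u2 (u6 (u5 (u3 (u2 (x))))))))))))))))))) (fR := fun x => x)
    ((real_14).comp ((real_13).comp ((real_13).comp ((real_13).comp ((real_15).comp ((real_13).comp ((real_15).comp ((real_10).comp ((real_9).comp ((real_13).comp ((real_11).comp ((real_15).comp ((real_0).comp ((real_2).comp ((real_6).comp ((real_5).comp ((real_3).comp ((real_2)))))))))))))))))))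
    (SQ.real_id)
    (fun x hx => Nat.eq_of_beq_eq_true (SQ.allB_spec cert_33 x hx))
theorem real_34 : SQ.Real K58 u34 :=
  SQ.real_of_eq (fL := fun x => u14 (u13 (u13 (u15 (u13 (u12 (u9 (u14 (u9 (u9 (u10 (u0 (u4 (u5 (u7 (u6 (x))))))))))))))))) (fR := fun x => x)
    ((real_14).comp ((real_13).comp ((real_13).comp ((real_15).comp ((real_13).comp ((real_12).comp ((real_9).comp ((real_14).comp ((real_9).comp ((real_9).comp ((real_10).comp ((real_0).comp ((real_4).comp ((real_5).comp ((real_7).comp ((real_6)))))))))))))))))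
    (SQ.real_id)
    (fun x hx => Nat.eq_of_beq_eq_true (SQ.allB_spec cert_34 x hx))
theorem real_35 : SQ.Real K58 u35 :=
  SQ.real_of_eq (fL := fun x => u14 (u13 (u12 (u13 (u15 (u13 (u10 (u11 (u10 (u11 (x))))))))))) (fR := fun x => x)
    ((real_14).comp ((real_13).comp ((real_12).comp ((real_13).comp ((real_15).comp ((real_13).comp ((real_10).comp ((real_11).comp ((real_10).comp ((real_11)))))))))))
    (SQ.real_id)
    (fun x hx => Nat.eq_of_beq_eq_true (SQ.allB_spec cert_35 x hx))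
theorem real_36 : SQ.Real K58 u36 :=
  SQ.real_of_eq (fL := fun x => u14 (u13 (u13 (u15 (u13 (u15 (u9 (u13 (u9 (u13 (u1 (u0 (u2 (u4 (u5 (x)))))))))))))))) (fR := fun x => x)
    ((real_14).comp ((real_13).comp ((real_13).comp ((real_15).comp ((real_13).comp ((real_15).comp ((real_9).comp ((real_13).comp ((real_9).comp ((real_13).comp ((real_1).comp ((real_0).comp ((real_2).comp ((real_4).comp ((real_5))))))))))))))))
    (SQ.real_id)
    (fun x hx => Nat.eq_of_beq_eq_true (SQ.allB_spec cert_36 x hx))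
theorem real_37 : SQ.Real K58 u37 :=
  SQ.real_of_eq (fL := fun x => u15 (x)) (fR := fun x => x)
    ((real_15))
    (SQ.real_id)
    (fun x hx => Nat.eq_of_beq_eq_true (SQ.allB_spec cert_37 x hx))
theorem real_38 : SQ.Real K58 u38 :=
  SQ.real_of_eq (fL := fun x => u14 (u15 (u12 (u13 (u14 (u15 (u13 (u13 (u9 (u13 (u14 (u9 (u14 (u10 (x))))))))))))))) (fR := fun x => x)
    ((real_14).comp ((real_15).comp ((real_12).comp ((real_13).comp ((real_14).comp ((real_15).comp ((real_13).comp ((real_13).comp ((real_9).comp ((real_13).comp ((real_14).comp ((real_9).comp ((real_14).comp ((real_10)))))))))))))))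
    (SQ.real_id)
    (fun x hx => Nat.eq_of_beq_eq_true (SQ.allB_spec cert_38 x hx))
theorem real_39 : SQ.Real K58 u39 :=
  SQ.real_of_eq (fL := fun x => u14 (u15 (u13 (u13 (u14 (u12 (u13 (u12 (u9 (u10 (u9 (u15 (u9 (u13 (x))))))))))))))) (fR := fun x => x)
    ((real_14).comp ((real_15).comp ((real_13).comp ((real_13).comp ((real_14).comp ((real_12).comp ((real_13).comp ((real_12).comp ((real_9).comp ((real_10).comp ((real_9).comp ((real_15).comp ((real_9).comp ((real_13)))))))))))))))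
    (SQ.real_id)
    (fun x hx => Nat.eq_of_beq_eq_true (SQ.allB_spec cert_39 x hx))

/-! ### the elements -/

theorem exists_of_real {f : ℕ → ℕ} (h : SQ.Real K58 f) :
    ∃ g : GHe, ∀ i, i < 2058 → SQ.gN (φ g) i = f i := by
  obtain ⟨ν, ⟨g, rfl⟩, hν⟩ := h
  exact ⟨g, hν⟩

/-- the involution -/
noncomputable def zC : GHe := Classical.choose (exists_of_real real_31)

theorem gN_zC (i : ℕ) (hi : i < 2058) : SQ.gN (φ zC) i = u31 i :=
  Classical.choose_spec (exists_of_real real_31) i hi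

theorem tbC_ge (k x : ℕ) (hk : 5 ≤ k) : tbC k x = x := by
  unfold tbC
  have : Nat.blt k 5 = false := Bool.eq_false_iff.2 (fun h => absurd (SQ.blt_true h) (not_lt.2 hk))
  rw [this]
  rfl

theorem real_tbC : ∀ k, k < 5 → SQ.Real K58 (tbC k) := by
  intro k hk
  interval_cases k
  · exact real_32
  · exact real_33
  · exact real_34
  · exact real_35
  · exact real_36

/-- the generators of the centraliser -/
noncomputable def cC (k : ℕ) : GHe :=
  if hk : k < 5 then Classical.choose (exists_of_real (real_tbC k hk)) else 1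

theorem gN_cC (k i : ℕ) (hi : i < 2058) : SQ.gN (φ (cC k)) i = tbC k i := by
  unfold cC
  by_cases hk : k < 5
  · rw [dif_pos hk]
    exact Classical.choose_spec (exists_of_real (real_tbC k hk)) i hi
  · rw [dif_neg hk, map_one, SQ.gN_one, tbC_ge k i (not_lt.1 hk)]

theorem cC_ge (k : ℕ) (hk : 5 ≤ k) : cC k = 1 := dif_neg (not_lt.2 hk)

/-- the action of a word in the generators of the centraliser -/
def evC (w : List ℕ) (i : ℕ) : ℕ := w.foldr (fun k acc => tbC k acc) i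

theorem gN_wpC (w : List ℕ) (i : ℕ) (hi : i < 2058) : SQ.gN (φ (wp cC w)) i = evC w i := by
  induction w with
  | nil =>
    rw [wp_nil, map_one, SQ.gN_one]
    rfl
  | cons k w ih =>
    have h := SQ.gN_lt (φ (wp cC w)) hi
    rw [ih] at h
    rw [wp_cons, map_mul, SQ.gN_mul, ih, gN_cC k _ h]
    rfl

theorem baseX_eq : LsX.map (fun L => L.b) = [1063, 2056, 446, 144] := by decide +kernel

theorem eq_of_base (g g' : GHe)
    (h : ∀ b ∈ [1063, 2056, 446, 144], SQ.gN (φ g) b = SQ.gN (φ g') b) : g = g' := by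
  apply φ_inj
  apply chainX.eq_of_base ⟨g, rfl⟩ ⟨g', rfl⟩
  intro L hL
  apply h
  rw [← baseX_eq]
  exact List.mem_map_of_mem (f := fun L : SQ.Lv => L.b) hL

theorem eq_of_all (g g' : GHe) (h : ∀ i, i < 2058 → SQ.gN (φ g) i = SQ.gN (φ g') i) : g = g' :=
  φ_inj (SQ.ext_gN h)

/-! ### the Schreier presentation -/

def Dat : List SchP.Lvl := [
  ⟨[[0], [1], [2], [3], [4]],
   [[], [4], [4, 2], [4, 3], [4, 2, 1], [4, 2, 3], [4, 2, 4], [4, 3, 4], [4, 2, 1, 0], [4, 2, 1, 2], [4, 2, 1, 3], [4, 2, 3, 4], [4, 2, 1, 2, 0], [4, 2, 1, 2, 3], [4, 2, 1, 3, 0], [4, 2, 1, 2, 3, 0]],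
   [[[0], [1], [2], [3], []], [[0], [1], [], [], []], [[2, 0, 2], [], [], [], []], [[3, 0, 3], [1], [], [], []], [[], [], [], [], [2, 1, 0, 1, 2]], [[2, 3, 0, 2, 3], [], [], [], []], [[2, 0, 2], [2, 1, 0, 1, 2], [2], [3], []], [[3, 0, 3], [1], [2], [3], []], [[], [2, 1, 0, 1, 2], [1, 0, 2, 0, 2, 1], [1, 0, 3, 0, 1, 3], [2, 1, 0, 1, 2]], [[], [1], [], [], [0, 2, 1, 2, 0]], [[], [], [], [], [2, 1, 3, 0, 1, 2, 3]], [[2, 3, 0, 2, 3], [2, 1, 3, 0, 1, 2, 3], [2], [3], []], [[], [0, 1, 0, 1], [1, 0, 2, 0, 2, 1], [1, 0, 3, 0, 1, 3], [0, 2, 1, 2, 0]], [[], [1], [], [], [3, 0, 2, 1, 2, 0, 3]], [[], [2, 1, 3, 0, 1, 2, 3], [1, 0, 2, 0, 2, 1], [1, 0, 3, 0, 1, 3], [2, 1, 3, 0, 1, 2, 3]], [[], [1, 3, 0, 1, 0, 3], [1, 0, 2, 0, 2, 1], [1, 0, 3, 0, 1, 3], [3, 0, 2, 1, 2, 0, 3]]],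
   [[0, 0, 0, 0, 1], [1, 1, 2, 3, 0], [2, 4, 1, 5, 6], [3, 3, 5, 1, 7], [8, 2, 9, 10, 8], [5, 10, 3, 2, 11], [6, 8, 6, 6, 2], [7, 7, 7, 7, 3], [4, 6, 8, 8, 4], [12, 9, 4, 13, 12], [14, 5, 13, 4, 14], [11, 14, 11, 11, 5], [9, 12, 12, 12, 9], [15, 13, 10, 9, 15], [10, 11, 14, 14, 10], [13, 15, 15, 15, 13]]⟩,
  ⟨[[0], [1], [2], [3]],
   [[], [2], [3], [2, 1], [2, 3], [2, 1, 0], [2, 1, 2], [2, 1, 3], [2, 1, 0, 1], [2, 1, 2, 0], [2, 1, 2, 3], [2, 1, 3, 0], [2, 1, 2, 3, 0], [2, 1, 3, 0, 1]],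
   [[[0], [1], [], []], [[2], [], [], []], [[3], [1], [], []], [[], [], [], []], [[0, 2, 3], [], [], []], [[], [], [1, 0, 2, 1], [1, 0, 3, 1]], [[], [1], [], []], [[], [], [], []], [[2], [], [1, 0, 1], [1, 0, 3, 1]], [[], [0, 1, 0, 1], [1, 0, 2, 1], [1, 0, 3, 1]], [[], [1], [], []], [[], [], [1, 0, 2, 1], [1, 0, 3, 1]], [[], [1, 3, 1, 3], [1, 0, 2, 1], [1, 0, 3, 1]], [[0, 2, 3], [], [1, 3, 1], [1, 0, 3, 1]]],
   [[0, 0, 1, 2], [1, 3, 0, 4], [2, 2, 4, 0], [5, 1, 6, 7], [4, 7, 2, 1], [3, 8, 5, 5], [9, 6, 3, 10], [11, 4, 10, 3], [8, 5, 8, 8], [6, 9, 9, 9], [12, 10, 7, 6], [7, 13, 11, 11], [10, 12, 12, 12], [13, 11, 13, 13]]⟩,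
  ⟨[[0], [1], [2, 0, 2], [3, 0, 3]],
   [[], [0], [2, 0, 2], [3, 0, 3], [0, 2, 0, 2], [0, 3, 0, 3], [2, 0, 2, 1], [2, 0, 2, 3, 0, 3], [0, 2, 0, 2, 1], [0, 2, 0, 2, 3, 0, 3], [2, 0, 2, 3, 0, 3, 1], [0, 2, 0, 2, 3, 0, 3, 1]],
   [[[], [0], [], []], [[], [1], [], []], [[], [], [], []], [[], [2], [], []], [[], [], [], []], [[], [0, 1, 2], [], []], [[0, 1], [], [0], [0, 2]], [[], [], [], []], [[0, 1], [], [1], [0, 2]], [[], [], [], []], [[0, 1], [], [2], [0, 2]], [[0, 1], [], [0, 1, 2], [0, 2]]],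
   [[1, 0, 2, 3], [0, 1, 4, 5], [4, 6, 0, 7], [5, 3, 7, 0], [2, 8, 1, 9], [3, 5, 9, 1], [6, 2, 6, 6], [9, 10, 3, 2], [8, 4, 8, 8], [7, 11, 5, 4], [10, 7, 10, 10], [11, 9, 11, 11]]⟩,
  ⟨[[1], [0, 1, 0], [3, 0, 1, 0, 3]],
   [[], [1], [0, 1, 0], [3, 0, 1, 0, 3], [1, 0, 1, 0], [1, 3, 0, 1, 0, 3], [0, 1, 0, 3, 0, 1, 0, 3], [1, 0, 1, 0, 3, 0, 1, 0, 3]],
   [[[], [], []], [[], [], []], [[], [], []], [[], [], []], [[], [], []], [[], [], []], [[], [], []], [[], [], []]],
   [[1, 2, 3], [0, 4, 5], [4, 0, 6], [5, 6, 0], [2, 1, 7], [3, 7, 1], [7, 3, 2], [6, 5, 4]]⟩]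

theorem dat_good : Good Dat := by decide +kernel

theorem dat_first : firstT Dat = letters 5 := by decide +kernel

theorem dat_bound : bound Dat = 21504 := by decide +kernel

theorem relsC_ok : (relsAll Dat).all (fun p => [1063, 2056, 446, 144].all
    (fun b => Nat.beq (evC p.1 b) (evC p.2 b))) = true := by decide +kernel

theorem holdsC : Holds cC Dat := by
  intro p hp
  apply eq_of_base
  intro b hb
  have hb' : b < 2058 := by
    simp only [List.mem_cons, List.not_mem_nil, or_false] at hb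
    omega
  rw [gN_wpC _ _ hb', gN_wpC _ _ hb']
  have := List.all_eq_true.1 relsC_ok p hp
  exact Nat.eq_of_beq_eq_true (List.all_eq_true.1 this b hb)

/-- the presented group -/
abbrev PC : Type := PG 5 Dat

theorem card_PC : Finite PC ∧ Nat.card PC ≤ 21504 := by
  have := card_PG_le 5 Dat dat_good dat_first
  rwa [dat_bound] at this

/-- the homomorphism to the Held group -/
noncomputable def βC : PC →* GHe := homOf 5 Dat cC cC_ge holdsC

/-- the subgroup generated by the five elements -/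
abbrev DC : Subgroup GHe := Subgroup.closure {x | ∃ k, k < 5 ∧ x = cC k}

theorem range_βC : βC.range = DC := range_homOf 5 Dat cC cC_ge holdsC

/-! ### the permutation group on 16 points -/

/-- the generators on 16 points -/
def fQ (k : ℕ) : Equiv.Perm (Fin 16) := if h : k < 5 then CZ.sgPerm ⟨k, h⟩ else 1

/-- the action of a word on 16 points -/
def evQ (w : List ℕ) (x : Fin 16) : Fin 16 :=
  w.foldr (fun k y => if h : k < 5 then CZ.sgT ⟨k, h⟩ y else y) x

theorem wp_fQ (w : List ℕ) (x : Fin 16) : wp fQ w x = evQ w x := by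
  induction w with
  | nil => rfl
  | cons k w ih =>
    rw [wp_cons, Equiv.Perm.mul_apply, ih]
    unfold fQ
    by_cases h : k < 5
    · rw [dif_pos h]
      show CZ.sgT ⟨k, h⟩ (evQ w x) = evQ (k :: w) x
      unfold evQ
      rw [List.foldr_cons, dif_pos h]
    · rw [dif_neg h]
      show evQ w x = evQ (k :: w) x
      unfold evQ
      rw [List.foldr_cons, dif_neg h]

theorem relsQ_ok : (relsAll Dat).all (fun p => (List.finRange 16).all
    (fun x => decide (evQ p.1 x = evQ p.2 x))) = true := by decide +kernel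

theorem holdsQ : Holds fQ Dat := by
  intro p hp
  apply Equiv.ext
  intro x
  rw [wp_fQ, wp_fQ]
  have := List.all_eq_true.1 relsQ_ok p hp
  exact of_decide_eq_true (List.all_eq_true.1 this x (List.mem_finRange x))

theorem fQ_ge (k : ℕ) (hk : 5 ≤ k) : fQ k = 1 := dif_neg (not_lt.2 hk)

/-- the homomorphism to the permutation group on 16 points -/
noncomputable def αC : PC →* Equiv.Perm (Fin 16) := homOf 5 Dat fQ fQ_ge holdsQ

theorem range_αC : αC.range = CZ.QQ := by
  unfold αC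
  rw [range_homOf]
  unfold CZ.QQ
  congr 1
  ext x
  constructor
  · rintro ⟨k, hk, rfl⟩
    refine ⟨⟨k, hk⟩, ?_⟩
    unfold fQ
    rw [dif_pos hk]
  · rintro ⟨k, rfl⟩
    refine ⟨k.1, k.2, ?_⟩
    unfold fQ
    rw [dif_pos k.2]

/-- a homomorphism from a finite group whose image is not smaller is injective -/
theorem injective_of_card_le {P A : Type*} [Group P] [Group A] [Finite P] (α : P →* A)
    (h : Nat.card P ≤ Nat.card α.range) : Function.Injective α := by
  rw [← MonoidHom.ker_eq_bot_iff]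
  have h1 := Subgroup.card_eq_card_quotient_mul_card_subgroup α.ker
  have h2 : Nat.card (P ⧸ α.ker) = Nat.card α.range :=
    Nat.card_congr (QuotientGroup.quotientKerEquivRange α).toEquiv
  rw [h2] at h1
  have hpos : 0 < Nat.card P := Nat.card_pos
  have hk : Nat.card α.ker ≤ 1 := by
    by_contra hc
    push_neg at hc
    have h3 : Nat.card P * 2 ≤ Nat.card α.range * Nat.card α.ker := Nat.mul_le_mul h hc
    rw [← h1] at h3
    omega
  exact (Subgroup.card_le_one_iff_eq_bot _).1 hk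

/-! ### the order of the subgroup generated by the five elements -/

theorem real_DC (k : ℕ) (hk : k < 5) : SQ.Real (DC.map φ) (tbC k) :=
  ⟨φ (cC k), Subgroup.mem_map_of_mem _ (Subgroup.subset_closure ⟨k, hk, rfl⟩),
    fun i hi => gN_cC k i hi⟩

theorem realD_40 (K' : Subgroup (Equiv.Perm (Fin 2058))) (h32 : SQ.Real K' u32) (h33 : SQ.Real K' u33) (h34 : SQ.Real K' u34) (h35 : SQ.Real K' u35) (h36 : SQ.Real K' u36) : SQ.Real K' u40 :=
  SQ.real_of_eq (fL := fun x => u34 (u35 (u32 (u33 (u32 (u35 (u36 (u33 (x))))))))) (fR := fun x => u33 (u34 (u35 (u32 (u34 (u35 (u36 (x))))))))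
    ((h34).comp ((h35).comp ((h32).comp ((h33).comp ((h32).comp ((h35).comp ((h36).comp ((h33)))))))))
    ((h33).comp ((h34).comp ((h35).comp ((h32).comp ((h34).comp ((h35).comp ((h36))))))))
    (fun x hx => Nat.eq_of_beq_eq_true (SQ.allB_spec cert_40 x hx))
theorem realD_41 (K' : Subgroup (Equiv.Perm (Fin 2058))) (h32 : SQ.Real K' u32) (h33 : SQ.Real K' u33) (h34 : SQ.Real K' u34) (h35 : SQ.Real K' u35) (h36 : SQ.Real K' u36) : SQ.Real K' u41 :=
  SQ.real_of_eq (fL := fun x => u32 (u34 (u36 (u34 (u36 (u35 (x))))))) (fR := fun x => u32 (u33 (u36 (u34 (u33 (u36 (x)))))))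
    ((h32).comp ((h34).comp ((h36).comp ((h34).comp ((h36).comp ((h35)))))))
    ((h32).comp ((h33).comp ((h36).comp ((h34).comp ((h33).comp ((h36)))))))
    (fun x hx => Nat.eq_of_beq_eq_true (SQ.allB_spec cert_41 x hx))
theorem realD_42 (K' : Subgroup (Equiv.Perm (Fin 2058))) (h32 : SQ.Real K' u32) (h33 : SQ.Real K' u33) (h34 : SQ.Real K' u34) (h35 : SQ.Real K' u35) (h36 : SQ.Real K' u36) : SQ.Real K' u42 :=
  SQ.real_of_eq (fL := fun x => u36 (u35 (u32 (u33 (x))))) (fR := fun x => u35 (u32 (u35 (u36 (x)))))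
    ((h36).comp ((h35).comp ((h32).comp ((h33)))))
    ((h35).comp ((h32).comp ((h35).comp ((h36)))))
    (fun x hx => Nat.eq_of_beq_eq_true (SQ.allB_spec cert_42 x hx))

theorem real_stepD0 (K' : Subgroup (Equiv.Perm (Fin 2058))) (h32 : SQ.Real K' u32) (h33 : SQ.Real K' u33) (h34 : SQ.Real K' u34) (h35 : SQ.Real K' u35) (h36 : SQ.Real K' u36) :
    ∀ l, 2 ≤ l → l < LD0.ng + 2 → SQ.Real K' (LD0.step l) := by
  intro l h1 h2
  have h3 : l < 7 := h2
  interval_cases l
  · exact h32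
  · exact h33
  · exact h34
  · exact h35
  · exact h36
theorem real_stepD1 (K' : Subgroup (Equiv.Perm (Fin 2058))) (h32 : SQ.Real K' u32) (h33 : SQ.Real K' u33) (h34 : SQ.Real K' u34) (h35 : SQ.Real K' u35) (h36 : SQ.Real K' u36) :
    ∀ l, 2 ≤ l → l < LD1.ng + 2 → SQ.Real K' (LD1.step l) := by
  intro l h1 h2
  have h3 : l < 5 := h2
  interval_cases l
  · exact realD_40 K' h32 h33 h34 h35 h36
  · exact realD_41 K' h32 h33 h34 h35 h36
  · exact realD_42 K' h32 h33 h34 h35 h36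

theorem card_DC_ge : 21504 ≤ Nat.card DC := by
  have h := SQ.card_ge_of_checks (DC.map φ) LsD (by
      intro L hL
      simp only [LsD, List.mem_cons, List.not_mem_nil, or_false] at hL
      rcases hL with rfl | rfl
      · exact real_stepD0 _ (real_DC 0 (by decide)) (real_DC 1 (by decide)) (real_DC 2 (by decide))
          (real_DC 3 (by decide)) (real_DC 4 (by decide))
      · exact real_stepD1 _ (real_DC 0 (by decide)) (real_DC 1 (by decide)) (real_DC 2 (by decide))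
          (real_DC 3 (by decide)) (real_DC 4 (by decide)))
    lvOK_LsD fixOK_D
  rw [Subgroup.card_map_of_injective φ_inj] at h
  exact size_D.trans h

/-! ### the involution -/

theorem cC_comm (k : ℕ) (hk : k < 5) : cC k * zC = zC * cC k := by
  apply eq_of_all
  intro i hi
  rw [map_mul, map_mul, SQ.gN_mul, SQ.gN_mul, gN_zC i hi, gN_cC k _ (real_31.lt hi), gN_cC k i hi,
    gN_zC _ ((real_tbC k hk).lt hi)]
  exact Nat.eq_of_beq_eq_true (SQ.allB_spec (SQ.allB_spec zC_comm k hk) i hi)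

theorem DC_le : DC ≤ Subgroup.centralizer ({zC} : Set GHe) := by
  rw [Subgroup.closure_le]
  rintro _ ⟨k, hk, rfl⟩
  rw [SetLike.mem_coe, Subgroup.mem_centralizer_singleton_iff]
  exact cC_comm k hk

theorem zC_mul_self : zC * zC = 1 := by
  apply eq_of_all
  intro i hi
  rw [map_mul, SQ.gN_mul, gN_zC i hi, gN_zC _ (real_31.lt hi), map_one, SQ.gN_one]
  exact Nat.eq_of_beq_eq_true (SQ.allB_spec zC_sq i hi)

theorem zC_ne_one : zC ≠ 1 := by
  intro h
  have h1 := gN_zC 0 (by decide)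
  rw [h, map_one, SQ.gN_one, zC_ne] at h1
  exact absurd h1 (by decide)

theorem orderOf_zC : orderOf zC = 2 :=
  orderOf_eq_prime (by rw [pow_two]; exact zC_mul_self) zC_ne_one

end Cfsg.Agent.Lib.Helper8.HeO
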