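import Cfsg.Agent.Lib.Helper8.HeSpE
import Cfsg.Prelude.Def_Sporadic

/-! The Held group as a transitive permutation group of degree 2058 whose point stabiliser has a
subgroup of index two isomorphic to `Sp(4,4)`. -/

set_option autoImplicit false

namespace Cfsg.Agent.Lib.Helper8.HeSp

open Cfsg.Agent.Lib.Helper4.TC Cfsg.Agent.Lib.Helper4.TCD Cfsg.Agent.Lib.Helper4.TC.Log

/-- transport of an index two subgroup along an isomorphism -/
theorem transfer_index_two {U V A : Type*} [Group U] [Group V] [Group A] (ψ : U ≃* V)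
    (h : ∃ N : Subgroup U, N.index = 2 ∧ Nonempty (N ≃* A)) :
    ∃ N : Subgroup V, N.index = 2 ∧ Nonempty (N ≃* A) := by
  obtain ⟨N, hN, ⟨e⟩⟩ := h
  refine ⟨N.map ψ.toMonoidHom, ?_, ⟨?_⟩⟩
  · rw [← hN]
    exact Subgroup.index_map_equiv N ψ
  · exact ((Subgroup.equivMapOfInjective N ψ.toMonoidHom ψ.injective).symm).trans e

/-- the permutation representation of degree 2058 -/
noncomputable def phi58 : PHe.P.Grp →* Equiv.Perm (Fin 2058) := He1.inst.phi

theorem phi58_rep (i : Fin 2058) :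
    phi58 (Tab.repG He1.T He1.D (Inst.gE PHe.P He1.subs) i) i = 0 :=
  He1.inst.hC.hrep' He1.inst.phi He1.inst.hphi i

theorem phi58_trans (x y : Fin 2058) : ∃ g : PHe.P.Grp, phi58 g x = y := by
  refine ⟨(Tab.repG He1.T He1.D (Inst.gE PHe.P He1.subs) y)⁻¹ *
    Tab.repG He1.T He1.D (Inst.gE PHe.P He1.subs) x, ?_⟩
  rw [map_mul, Equiv.Perm.mul_apply, phi58_rep x, map_inv, Equiv.Perm.inv_eq_iff_eq, phi58_rep y]

theorem phi58_fix (u : PHe.P.Grp) (hu : u ∈ UHe) : phi58 u 0 = 0 := He1.inst.hfix u hu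

theorem mem_of_fix (g : PHe.P.Grp) (h : phi58 g 0 = 0) : g ∈ UHe := by
  have hinj := theta_injective UHe He1.inst.phi ⟨0, He1.inst.hC.hN⟩
    (Tab.repG He1.T He1.D (Inst.gE PHe.P He1.subs)) He1.inst.hfix
    (He1.inst.hC.hrep' He1.inst.phi He1.inst.hphi) (He1.inst.hC.hcover' He1.inst.sem He1.inst.gen)
  have h1 : thetaMap UHe He1.inst.phi ⟨0, He1.inst.hC.hN⟩ He1.inst.hfix (QuotientGroup.mk g) =
      thetaMap UHe He1.inst.phi ⟨0, He1.inst.hC.hN⟩ He1.inst.hfix (QuotientGroup.mk 1) := by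
    rw [thetaMap_mk, thetaMap_mk, map_one]
    exact h
  have h2 := hinj h1
  rw [QuotientGroup.eq] at h2
  have h3 := UHe.inv_mem h2
  simpa using h3

/-- the permutation group -/
noncomputable abbrev H58 : Subgroup (Equiv.Perm (Fin 2058)) := phi58.range

theorem H58_smul (h : H58) (x : Fin 2058) : h • x = h.1 x := rfl

/-- the stabiliser of `0` in the permutation group is the image of the subgroup of index 2058 -/
noncomputable def psi (hinj : Function.Injective phi58) :
    UHe ≃* MulAction.stabilizer H58 (0 : Fin 2058) :=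
  MulEquiv.ofBijective
    (((phi58.rangeRestrict).comp UHe.subtype).codRestrict (MulAction.stabilizer H58 (0 : Fin 2058))
      (fun u => by
        rw [MulAction.mem_stabilizer_iff, H58_smul]
        exact phi58_fix u.1 u.2))
    (by
      constructor
      · intro u v huv
        have h1 := congrArg (fun s : MulAction.stabilizer H58 (0 : Fin 2058) => (s.1.1 : Equiv.Perm (Fin 2058))) huv
        exact Subtype.ext (hinj h1)
      · rintro ⟨⟨p, g, rfl⟩, hs⟩
        rw [MulAction.mem_stabilizer_iff, H58_smul] at hs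
        exact ⟨⟨g, mem_of_fix g hs⟩, rfl⟩)

theorem he_perm (hfin : Finite PHe.P.Grp) (hinj : Function.Injective He1.inst.phi)
    (hcard : Nat.card PHe.P.Grp = 4030387200) (hsimple : IsSimpleGroup PHe.P.Grp) :
    ∃ H : Subgroup (Equiv.Perm (Fin 2058)), Cfsg.IsHe H ∧ MulAction.IsPretransitive H (Fin 2058) ∧
      ∃ (F : Type) (_ : Field F) (_ : Fintype F), Fintype.card F = 4 ∧
        ∃ N : Subgroup (MulAction.stabilizer H (0 : Fin 2058)), N.index = 2 ∧
          Nonempty (N ≃* Matrix.symplecticGroup (Fin 2) F) := by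
  have hinj' : Function.Injective phi58 := hinj
  let e : PHe.P.Grp ≃* H58 := MonoidHom.ofInjective hinj'
  refine ⟨H58, ⟨?_, ?_⟩, ?_, K4, inferInstance, inferInstance, K4.card_eq, ?_⟩
  · exact e.symm.isSimpleGroup
  · rw [← hcard]
    exact Nat.card_congr e.symm.toEquiv
  · constructor
    intro x y
    obtain ⟨g, hg⟩ := phi58_trans x y
    exact ⟨⟨phi58 g, g, rfl⟩, hg⟩
  · exact transfer_index_two (psi hinj') (exists_sp44 hcard)

end Cfsg.Agent.Lib.Helper8.HeSp
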