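import Cfsg.Agent.Lib.Helper8.HeC3
import Cfsg.Agent.Lib.Helper8.CentBd
import Cfsg.Agent.Lib.Helper8.HeSpG

set_option autoImplicit false
set_option maxRecDepth 100000

/-! The centraliser of an involution of the Held group: the bound for its order from the conjugates of
the involution fixing a point, and the isomorphism with the centraliser of a transvection of `SL₅(2)`. -/

namespace Cfsg.Agent.Lib.Helper8.HeO

open Cfsg.Spor Cfsg.Agent.Lib.Helper4.TC Cfsg.Agent.Lib.Helper4.TCD Cfsg.Agent.Lib.Helper4.TC.Log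
open Cfsg.Agent.Lib.Helper8.SchP Cfsg.Agent.Lib.Helper9

/-! ### the involutions generating the point stabiliser -/

theorem tbS_ge (k x : ℕ) (hk : 3 ≤ k) : tbS k x = x := by
  unfold tbS
  have : Nat.blt k 3 = false := Bool.eq_false_iff.2 (fun h => absurd (SQ.blt_true h) (not_lt.2 hk))
  rw [this]
  rfl

theorem real_tbS : ∀ k, k < 3 → SQ.Real K58 (tbS k) := by
  intro k hk
  interval_cases k
  · exact real_37
  · exact real_38
  · exact real_39

/-- the involutions -/
noncomputable def sC (k : ℕ) : GHe :=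
  if hk : k < 3 then Classical.choose (exists_of_real (real_tbS k hk)) else 1

theorem gN_sC (k i : ℕ) (hi : i < 2058) : SQ.gN (φ (sC k)) i = tbS k i := by
  unfold sC
  by_cases hk : k < 3
  · rw [dif_pos hk]
    exact Classical.choose_spec (exists_of_real (real_tbS k hk)) i hi
  · rw [dif_neg hk, map_one, SQ.gN_one, tbS_ge k i (not_lt.1 hk)]

theorem tbS_lt (k i : ℕ) (hi : i < 2058) : tbS k i < 2058 := by
  rw [← gN_sC k i hi]
  exact SQ.gN_lt _ hi

theorem sC_mul_self (k : ℕ) : sC k * sC k = 1 := by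
  by_cases hk : k < 3
  · apply eq_of_all
    intro i hi
    rw [map_mul, SQ.gN_mul, gN_sC k i hi, gN_sC k _ (tbS_lt k i hi), map_one, SQ.gN_one]
    exact Nat.eq_of_beq_eq_true (SQ.allB_spec (SQ.allB_spec sS_sq k hk) i hi)
  · unfold sC
    rw [dif_neg hk, mul_one]

theorem sC_inv (k : ℕ) : (sC k)⁻¹ = sC k := by
  rw [inv_eq_iff_mul_eq_one]
  exact sC_mul_self k

theorem wp_sC_inv (w : List ℕ) : (wp sC w)⁻¹ = wp sC w.reverse := by
  induction w with
  | nil => rw [List.reverse_nil, wp_nil, inv_one]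
  | cons k w ih =>
    rw [wp_cons, mul_inv_rev, ih, sC_inv, List.reverse_cons, wp_append, wp_single]

theorem gN_wp_sC (w : List ℕ) (i : ℕ) (hi : i < 2058) :
    SQ.gN (φ (wp sC w)) i = w.foldr (fun k acc => tbS k acc) i := by
  induction w with
  | nil =>
    rw [wp_nil, map_one, SQ.gN_one]
    rfl
  | cons k w ih =>
    have h := SQ.gN_lt (φ (wp sC w)) hi
    rw [ih] at h
    rw [wp_cons, map_mul, SQ.gN_mul, ih, gN_sC k _ h]
    rfl

/-- the conjugate of the involution by a word -/
noncomputable def conjE (w : List ℕ) : GHe := (wp sC w)⁻¹ * zC * wp sC w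

theorem gN_conjE (w : List ℕ) (i : ℕ) (hi : i < 2058) : SQ.gN (φ (conjE w)) i = conjA w i := by
  unfold conjE conjA
  have h1 := SQ.gN_lt (φ (wp sC w)) hi
  rw [gN_wp_sC w i hi] at h1
  rw [wp_sC_inv, map_mul, map_mul, SQ.gN_mul, SQ.gN_mul, gN_wp_sC w i hi, gN_zC _ h1,
    gN_wp_sC _ _ (real_31.lt h1), List.foldr_reverse]

/-! ### the conjugates -/

theorem chkA_spec : ∀ n, chkA n = true → ∀ j, j < n →
    conjA (cwW j) 1063 = 1063 ∧ (j = 0 ∨ sigA (cwW (j - 1)) < sigA (cwW j)) := by
  intro n
  induction n with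
  | zero => intro _ j hj; exact absurd hj (Nat.not_lt_zero _)
  | succ n ih =>
    intro h j hj
    rw [chkA, Bool.and_eq_true, Bool.and_eq_true] at h
    rcases Nat.lt_succ_iff_lt_or_eq.1 hj with h1 | h1
    · exact ih h.1.1 j h1
    · subst h1
      refine ⟨Nat.eq_of_beq_eq_true h.1.2, ?_⟩
      have h3 := h.2
      rw [Bool.or_eq_true] at h3
      rcases h3 with h2 | h2
      · exact Or.inl (Nat.eq_of_beq_eq_true h2)
      · exact Or.inr (SQ.blt_true h2)

theorem sig_mono : ∀ j, j < 3825 → ∀ i, i < j → sigA (cwW i) < sigA (cwW j) := by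
  intro j
  induction j with
  | zero => intro _ i hi; exact absurd hi (Nat.not_lt_zero _)
  | succ j ih =>
    intro hj i hi
    have h := (chkA_spec 3825 chkA_ok (j + 1) hj).2
    rcases h with h | h
    · exact absurd h (Nat.succ_ne_zero j)
    · rw [Nat.add_sub_cancel] at h
      rcases Nat.lt_succ_iff_lt_or_eq.1 hi with h1 | h1
      · exact (ih (by omega) i h1).trans h
      · rw [h1]; exact h

/-- the `j`-th conjugate -/
noncomputable def conjJ (j : ℕ) : GHe := conjE (cwW j)

theorem sigA_eq (w : List ℕ) : sigA w = SQ.gN (φ (conjE w)) 2056 +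
    2058 * (SQ.gN (φ (conjE w)) 446 + 2058 * SQ.gN (φ (conjE w)) 144) := by
  rw [gN_conjE w 2056 (by decide), gN_conjE w 446 (by decide), gN_conjE w 144 (by decide)]
  rfl

theorem conjJ_inj : ∀ i, i < 3825 → ∀ j, j < 3825 → conjJ i = conjJ j → i = j := by
  intro i hi j hj e
  have hs : sigA (cwW i) = sigA (cwW j) := by
    rw [sigA_eq, sigA_eq]
    unfold conjJ at e
    rw [e]
  rcases Nat.lt_trichotomy i j with h | h | h
  · exact absurd hs (Nat.ne_of_lt (sig_mono j hj i h))
  · exact h
  · exact absurd hs.symm (Nat.ne_of_lt (sig_mono i hi j h))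

/-- the set of conjugates -/
noncomputable def SC : Finset GHe := by
  classical
  exact (Finset.range 3825).image conjJ

theorem card_SC : SC.card = 3825 := by
  classical
  unfold SC
  rw [Finset.card_image_of_injOn, Finset.card_range]
  intro i hi j hj e
  exact conjJ_inj i (Finset.mem_range.1 hi) j (Finset.mem_range.1 hj) e

/-! ### the action on the points -/

noncomputable instance actHe : MulAction GHe (Fin 2058) := MulAction.compHom (Fin 2058) φ

theorem smul_He (g : GHe) (x : Fin 2058) : g • x = φ g x := rfl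

instance transHe : MulAction.IsPretransitive GHe (Fin 2058) :=
  ⟨fun x y => HeSp.phi58_trans x y⟩

theorem card_fix : Nat.card {x : Fin 2058 // zC • x = x} = 42 := by
  classical
  rw [Nat.card_eq_fintype_card, Fintype.card_subtype, Finset.card_filter, ← zC_fix, SQ.cntB_eq_sum,
    ← Fin.sum_univ_eq_sum_range (fun i => if (Nat.beq (u31 i) i) = true then 1 else 0) 2058]
  apply Finset.sum_congr rfl
  intro p _
  have hp : (φ zC p).1 = u31 p.1 := by rw [← SQ.gN_fin, gN_zC p.1 p.2]
  by_cases h : zC • p = p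
  · have h' : u31 p.1 = p.1 := by
      rw [← hp]
      exact congrArg Fin.val h
    rw [if_pos h, if_pos]
    rw [h']
    exact Nat.beq_refl _
  · rw [if_neg h, if_neg]
    intro hb
    apply h
    apply Fin.ext
    show (φ zC p).1 = p.1
    rw [hp]
    exact Nat.eq_of_beq_eq_true hb

theorem card_cent_le : Nat.card (Subgroup.centralizer ({zC} : Set GHe)) ≤ 21504 := by
  haveI := finHe
  have h := CentBd.card_centralizer_le zC (⟨1063, by decide⟩ : Fin 2058) SC (by
    classical
    intro y hy
    unfold SC at hy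
    obtain ⟨j, hj, rfl⟩ := Finset.mem_image.1 hy
    have hj' := Finset.mem_range.1 hj
    refine ⟨⟨(wp sC (cwW j))⁻¹, ?_⟩, ?_⟩
    · rw [inv_inv]
      rfl
    · apply Fin.ext
      show (φ (conjJ j) ⟨1063, by decide⟩).1 = 1063
      rw [← SQ.gN_of_lt (φ (conjJ j)) (by decide : 1063 < 2058)]
      unfold conjJ
      rw [gN_conjE _ _ (by decide)]
      exact (chkA_spec 3825 chkA_ok j hj').1)
  rw [card_SC, card_fix, cardHe, Nat.card_eq_fintype_card (α := Fin 2058), Fintype.card_fin] at h
  omega

/-! ### the isomorphism -/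

theorem DC_eq : DC = Subgroup.centralizer ({zC} : Set GHe) := by
  haveI := finHe
  exact Subgroup.eq_of_le_of_card_ge DC_le (card_cent_le.trans card_DC_ge)

theorem main (s : CZ.SL5)
    (hs : (s : Matrix (Fin 5) (Fin 5) (ZMod 2)) = Matrix.transvection 0 1 1) :
    ∃ z : GHe, orderOf z = 2 ∧
      Nonempty (↥(Subgroup.centralizer ({z} : Set GHe)) ≃*
        ↥(Subgroup.centralizer ({s} : Set CZ.SL5))) := by
  haveI := card_PC.1
  have hα : Function.Injective αC :=
    injective_of_card_le αC (by rw [range_αC]; exact card_PC.2.trans CZ.card_QQ_ge)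
  have hβ : Function.Injective βC :=
    injective_of_card_le βC (by rw [range_βC]; exact card_PC.2.trans card_DC_ge)
  refine ⟨zC, orderOf_zC, ⟨?_⟩⟩
  exact (MulEquiv.subgroupCongr (DC_eq.symm.trans range_βC.symm)).trans
    ((MonoidHom.ofInjective hβ).symm.trans ((MonoidHom.ofInjective hα).trans
      ((MulEquiv.subgroupCongr (range_αC.trans (CZ.rangeS_eq s hs).symm)).trans
        (MonoidHom.ofInjective (CZ.rhoS_injective s hs)).symm)))

end Cfsg.Agent.Lib.Helper8.HeO
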