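import Cfsg.Agent.Lib.Helper8.HeO1

set_option autoImplicit false
set_option maxRecDepth 100000

/-! The Held group on 2058 points: the certificates of the tables (generated). -/

namespace Cfsg.Agent.Lib.Helper8.HeO

theorem cert_7 : SQ.allB 2058 (fun x => Nat.beq (u2 (u3 (u1 (u6 (x))))) (u7 (x))) = true := by decide +kernel
theorem cert_8 : SQ.allB 2058 (fun x => Nat.beq (u2 (u3 (u1 (u5 (x))))) (u8 (x))) = true := by decide +kernel
theorem cert_9 : SQ.allB 2058 (fun x => Nat.beq (u1 (u3 (u7 (u7 (u0 (u4 (x))))))) (u9 (u0 (u3 (u2 (u4 (u3 (x)))))))) = true := by decide +kernel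
theorem cert_10 : SQ.allB 2058 (fun x => Nat.beq (u4 (u3 (u6 (u5 (u7 (u6 (x))))))) (u10 (u4 (u3 (u2 (u6 (u5 (u3 (x))))))))) = true := by decide +kernel
theorem cert_11 : SQ.allB 2058 (fun x => Nat.beq (u7 (u7 (u7 (u7 (u1 (u7 (x))))))) (u11 (u0 (u5 (u6 (u7 (u6 (u5 (x))))))))) = true := by decide +kernel
theorem cert_12 : SQ.allB 2058 (fun x => Nat.beq (u10 (u9 (u9 (u11 (u10 (u9 (u9 (u10 (x))))))))) (u12 (u10 (u9 (u9 (u11 (u10 (u9 (u9 (x)))))))))) = true := by decide +kernel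
theorem cert_13 : SQ.allB 2058 (fun x => Nat.beq (u11 (u10 (u9 (u9 (u9 (u10 (u11 (u7 (u1 (u5 (u3 (u4 (u0 (x)))))))))))))) (u13 (u2 (u3 (u5 (u3 (u4 (x)))))))) = true := by decide +kernel
theorem cert_14 : SQ.allB 2058 (fun x => Nat.beq (u13 (u13 (u12 (u13 (u12 (u13 (u11 (u13 (u11 (u13 (u11 (u13 (u4 (u3 (u2 (u5 (u3 (u4 (u2 (x)))))))))))))))))))) (u14 (u0 (u4 (u7 (u5 (u7 (u4 (x))))))))) = true := by decide +kernel
theorem cert_15 : SQ.allB 2058 (fun x => Nat.beq (u13 (u13 (u13 (u12 (u14 (u9 (u9 (u9 (u10 (u13 (u11 (u3 (u4 (u6 (u0 (x)))))))))))))))) (u15 (u0 (u2 (u7 (u5 (x))))))) = true := by decide +kernel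
theorem cert_16 : SQ.allB 2058 (fun x => Nat.beq (u7 (u7 (u7 (u7 (u7 (u7 (u7 (u7 (u14 (u12 (u13 (u15 (u13 (u12 (u14 (u10 (u9 (u14 (u15 (u9 (u1 (u5 (u6 (u7 (u4 (u5 (x))))))))))))))))))))))))))) (u16 (x))) = true := by decide +kernel
theorem cert_17 : SQ.allB 2058 (fun x => Nat.beq (u16 (u16 (x))) (u17 (x))) = true := by decide +kernel
theorem cert_18 : SQ.allB 2058 (fun x => Nat.beq (u1 (u3 (u7 (u7 (u0 (u4 (x))))))) (u18 (u0 (u3 (u2 (u4 (u3 (x)))))))) = true := by decide +kernel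
theorem cert_19 : SQ.allB 2058 (fun x => Nat.beq (u4 (u3 (u6 (u5 (u7 (u6 (x))))))) (u19 (u4 (u3 (u2 (u6 (u5 (u3 (x))))))))) = true := by decide +kernel
theorem cert_20 : SQ.allB 2058 (fun x => Nat.beq (u7 (u7 (u7 (u7 (u1 (u7 (x))))))) (u20 (u0 (u5 (u6 (u7 (u6 (u5 (x))))))))) = true := by decide +kernel
theorem cert_21 : SQ.allB 2058 (fun x => Nat.beq (u20 (u20 (u18 (u19 (u20 (u18 (u7 (u1 (u5 (u3 (u4 (u0 (x))))))))))))) (u21 (u2 (u3 (u5 (u3 (u4 (x)))))))) = true := by decide +kernel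
theorem cert_22 : SQ.allB 2058 (fun x => Nat.beq (u18 (u20 (u21 (u18 (u19 (u20 (u4 (u3 (u2 (u5 (u3 (u4 (u2 (x)))))))))))))) (u22 (u0 (u4 (u7 (u5 (u7 (u4 (x))))))))) = true := by decide +kernel
theorem cert_23 : SQ.allB 2058 (fun x => Nat.beq (u19 (u21 (u21 (u19 (u21 (u19 (u21 (u18 (u18 (u18 (u21 (u18 (u22 (u22 (x))))))))))))))) (u23 (u20 (u22 (u22 (u22 (u20 (x)))))))) = true := by decide +kernel
theorem cert_24 : SQ.allB 2058 (fun x => Nat.beq (u22 (u23 (u22 (u22 (u22 (u18 (u18 (u22 (u19 (u22 (u20 (u20 (x))))))))))))) (u24 (u18 (u22 (u20 (u22 (u18 (u21 (x))))))))) = true := by decide +kernel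
theorem cert_25 : SQ.allB 2058 (fun x => Nat.beq (u24 (u19 (u22 (u19 (u22 (u20 (u20 (u18 (u18 (u20 (u7 (u4 (u5 (u3 (u7 (x)))))))))))))))) (u25 (x))) = true := by decide +kernel
theorem cert_26 : SQ.allB 2058 (fun x => Nat.beq (u16 (u7 (u25 (u7 (u16 (u16 (u16 (u7 (u7 (x)))))))))) (u26 (u7 (u16 (u7 (u25 (u16 (u7 (u16 (u16 (x))))))))))) = true := by decide +kernel
theorem cert_27 : SQ.allB 2058 (fun x => Nat.beq (u25 (u16 (u25 (u7 (u25 (u7 (u16 (u7 (u16 (x)))))))))) (u27 (u16 (u16 (u7 (u25 (u7 (u7 (u16 (u16 (u7 (x)))))))))))) = true := by decide +kernel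
theorem cert_28 : SQ.allB 2058 (fun x => Nat.beq (u27 (u26 (u26 (u26 (u27 (u27 (u26 (u26 (u27 (u27 (u26 (u27 (u26 (u26 (x))))))))))))))) (u28 (u27 (u27 (u27 (u27 (u27 (u27 (u27 (u27 (u27 (u27 (u26 (u26 (u27 (x)))))))))))))))) = true := by decide +kernel
theorem cert_29 : SQ.allB 2058 (fun x => Nat.beq (u26 (u28 (u28 (u26 (u28 (u28 (u26 (u27 (u26 (u27 (u27 (u26 (u26 (u27 (u26 (u27 (u26 (u27 (u27 (x)))))))))))))))))))) (u29 (u27 (u26 (u27 (u26 (u27 (u26 (u27 (u27 (u27 (u27 (u27 (u26 (x))))))))))))))) = true := by decide +kernel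
theorem cert_30 : SQ.allB 2058 (fun x => Nat.beq (u26 (u27 (u26 (u26 (u26 (u26 (u27 (u27 (u26 (u26 (u26 (u27 (u27 (u25 (u16 (u7 (u16 (u7 (u25 (u7 (u25 (u7 (u16 (x)))))))))))))))))))))))) (u30 (u25 (u7 (u16 (u7 (u16 (u25 (u16 (u7 (u25 (x)))))))))))) = true := by decide +kernel
theorem genw_0 : SQ.allB 2058 (fun x => Nat.beq (u30 (u28 (u30 (u27 (u26 (u26 (u26 (u26 (u27 (u30 (u26 (u27 (u26 (u25 (u7 (u7 (u16 (u25 (u16 (u25 (u7 (x)))))))))))))))))))))) (u0 x)) = true := by decide +kernel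
theorem genw_1 : SQ.allB 2058 (fun x => Nat.beq (u26 (u30 (u28 (u28 (u27 (u30 (u27 (u30 (u27 (u26 (u26 (u27 (u7 (u25 (u16 (u7 (u16 (x)))))))))))))))))) (u1 x)) = true := by decide +kernel
theorem genw_2 : SQ.allB 2058 (fun x => Nat.beq (u29 (u30 (u28 (u26 (u28 (u26 (u30 (u27 (u27 (u26 (u30 (u26 (u30 (u27 (u16 (u25 (u7 (u7 (u7 (u7 (u25 (x)))))))))))))))))))))) (u2 x)) = true := by decide +kernel
theorem genw_3 : SQ.allB 2058 (fun x => Nat.beq (u29 (u30 (u28 (u28 (u26 (u26 (u30 (u27 (u26 (u26 (u27 (u26 (u27 (u16 (u7 (u25 (u7 (u7 (u7 (x)))))))))))))))))))) (u3 x)) = true := by decide +kernel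
theorem genw_4 : SQ.allB 2058 (fun x => Nat.beq (u26 (u26 (u28 (u26 (u26 (u26 (u27 (u26 (u30 (u27 (u26 (u26 (u30 (u27 (u30 (u7 (u7 (u16 (u25 (u7 (u16 (u16 (u7 (u25 (x))))))))))))))))))))))))) (u4 x)) = true := by decide +kernel
theorem genw_5 : SQ.allB 2058 (fun x => Nat.beq (u30 (u26 (u29 (u26 (u28 (u29 (u27 (u26 (u27 (u27 (u26 (u26 (u27 (u27 (u30 (u16 (u7 (u25 (u7 (u7 (u16 (u25 (x))))))))))))))))))))))) (u5 x)) = true := by decide +kernel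
theorem genw_6 : SQ.allB 2058 (fun x => Nat.beq (u29 (u30 (u28 (u30 (u27 (u27 (u26 (u26 (u26 (u26 (u7 (u16 (u7 (u16 (u25 (u7 (u25 (u7 (u7 (u7 (x))))))))))))))))))))) (u6 x)) = true := by decide +kernel

end Cfsg.Agent.Lib.Helper8.HeO
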