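import Cfsg.Agent.Lib.Helper8.HeO3

set_option autoImplicit false
set_option maxRecDepth 100000

/-! The Held group on 2058 points: the centraliser and transporter searches (generated). -/

namespace Cfsg.Agent.Lib.Helper8.HeO

/-- the candidates for the image of the first base point under an element centralising `x` -/
def passC (p : ℕ) : Bool := (SQ.sift LsX (SQ.iterL u7 4 p ++ [])).isSome

def xorbB (p : ℕ) : Bool := Nat.beq p 1063 || Nat.beq p 2056 || Nat.beq p 446 || Nat.beq p 144 || Nat.beq p 1949 || Nat.beq p 1264 || Nat.beq p 1166 || Nat.beq p 1070 || Nat.beq p 231 || Nat.beq p 568 || Nat.beq p 751 || Nat.beq p 1289 || Nat.beq p 339 || Nat.beq p 1721 || Nat.beq p 242 || Nat.beq p 724 || Nat.beq p 590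

/-- the candidates for the image of the first base point under an element conjugating `x` to
its image under the diagram automorphism -/
def passN (p : ℕ) : Bool :=
  match SQ.sift LsX (SQ.iterL u8 4 p ++ [1, u8 1, 2, u8 2]) with
  | some [r1, s1, r2, s2] => Nat.beq s1 (u7 r1) && Nat.beq s2 (u7 r2)
  | _ => false

/-- the inverse of the element centralising `t` and taking the first base point to `p`, at `q` -/
def FQ (p q : ℕ) : ℕ :=
  match SQ.sift LsZ (SQ.iterL u17 4 p ++ [q]) with
  | some [r] => r
  | _ => 2058

/-- iterate `x` times the element -/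
def itQ (p : ℕ) : ℕ → ℕ → ℕ
  | 0, q => q
  | k + 1, q => itQ p k (u7 (FQ p q))

def testQ (p : ℕ) : Bool :=
  (SQ.sift LsZ (SQ.iterL u17 4 p ++ [])).isSome && Nat.beq (itQ p 7 1) 1

theorem passC_0 : SQ.allR 0 1029 (fun p => !(passC p) || xorbB p) = true := by decide +kernel
theorem passC_1 : SQ.allR 1029 1029 (fun p => !(passC p) || xorbB p) = true := by decide +kernel
theorem passC_all : ∀ p, p < 2058 → (!(passC p) || xorbB p) = true := by
  intro p hp
  rcases Nat.lt_or_ge p 1029 with h | h
  · exact SQ.allR_spec passC_0 p (by omega) (by omega)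
  exact SQ.allR_spec passC_1 p (by omega) (by omega)

theorem passN_0 : SQ.allR 0 1029 (fun p => !(passN p)) = true := by decide +kernel
theorem passN_1 : SQ.allR 1029 1029 (fun p => !(passN p)) = true := by decide +kernel
theorem passN_all : ∀ p, p < 2058 → (!(passN p)) = true := by
  intro p hp
  rcases Nat.lt_or_ge p 1029 with h | h
  · exact SQ.allR_spec passN_0 p (by omega) (by omega)
  exact SQ.allR_spec passN_1 p (by omega) (by omega)

theorem testQ_0 : SQ.allR 0 1029 (fun p => !(testQ p) || Nat.beq p 546) = true := by decide +kernel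
theorem testQ_1 : SQ.allR 1029 1029 (fun p => !(testQ p) || Nat.beq p 546) = true := by decide +kernel
theorem testQ_all : ∀ p, p < 2058 → (!(testQ p) || Nat.beq p 546) = true := by
  intro p hp
  rcases Nat.lt_or_ge p 1029 with h | h
  · exact SQ.allR_spec testQ_0 p (by omega) (by omega)
  exact SQ.allR_spec testQ_1 p (by omega) (by omega)


end Cfsg.Agent.Lib.Helper8.HeO
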