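import Cfsg.Agent.Lib.Helper8.HeO3

set_option autoImplicit false
set_option maxRecDepth 100000

/-! The Held group on 2058 points: the checks for the automorphism group (generated). -/

namespace Cfsg.Agent.Lib.Helper8.HeO

/-- the conjugator of `x` to a power of its image under the diagram automorphism -/
def muF (q : ℕ) : ℕ := u12 (u13 (u15 (u13 (u12 (u14 (u9 (u13 (u11 (u14 (u9 (u2 (u6 (u5 (q))))))))))))))
theorem nu_ok : SQ.allB 2058 (fun q => Nat.beq (u7 (u16 q)) (u16 (u7 (u7 q)))) = true := by decide +kernel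
theorem mu_ok : SQ.allB 2058 (fun q => Nat.beq (u7 (muF q)) (muF (u8 (u8 (u8 (u8 (u8 (q)))))))) = true := by decide +kernel
theorem x_ord : SQ.allB 2058 (fun q => Nat.beq (u7 (u7 (u7 (u7 (u7 (u7 (u7 (u7 (u7 (u7 (u7 (u7 (u7 (u7 (u7 (u7 (u7 (q)))))))))))))))))) q) = true := by decide +kernel
theorem x_ne : u7 1063 = 2056 := by decide +kernel
theorem zt_comm : SQ.allB 2058 (fun q => Nat.beq (u25 (u17 q)) (u17 (u25 q))) = true := by decide +kernel
theorem z_sq : SQ.allB 2058 (fun q => Nat.beq (u25 (u25 q)) q) = true := by decide +kernel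
theorem rel7 : SQ.allB 2058 (fun q => Nat.beq (u7 (u25 (u7 (u25 (u7 (u25 (u7 (u25 (u7 (u25 (u7 (u25 (u7 (u25 (q))))))))))))))) q) = true := by decide +kernel
theorem z_b0 : u25 1063 = 546 := by decide +kernel
theorem srel_0 : SQ.allB 2058 (fun q => Nat.beq (u4 (u5 (u6 (u5 (u6 (q)))))) q) = true := by decide +kernel
theorem srel_1 : SQ.allB 2058 (fun q => Nat.beq (u2 (u3 (u6 (u5 (u2 (u3 (u6 (u5 (u2 (u3 (u6 (u5 (u2 (u3 (u6 (u5 (q))))))))))))))))) q) = true := by decide +kernel
theorem xorb_eq : SQ.iterL u7 17 1063 = [1063, 2056, 446, 144, 1949, 1264, 1166, 1070, 231, 568, 751, 1289, 339, 1721, 242, 724, 590] := by decide +kernel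
theorem baseX : LsX.map (fun L => L.b) = SQ.iterL u7 4 1063 := by decide +kernel
theorem baseZ : LsZ.map (fun L => L.b) = SQ.iterL u17 4 1063 := by decide +kernel

end Cfsg.Agent.Lib.Helper8.HeO
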