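import Cfsg.Agent.S1695
import Cfsg.Agent.Lib.Helper8.HeO2
import Cfsg.Agent.Lib.Helper8.HeO3

set_option autoImplicit false
set_option maxRecDepth 100000

/-! The Held group on 2058 points: the tables are realised by group elements; the two verified chains; generation (generated). -/

namespace Cfsg.Agent.Lib.Helper8.HeO

open Cfsg.Spor Cfsg.Agent.Lib.Helper4.TC Cfsg.Agent.Lib.Helper4.TCD Cfsg.Agent.Lib.Helper4.TC.Log

theorem gen_0 : SQ.allB 2058 (fun i => Nat.beq (u0 i) (Tab.act He1.T He1.D [0] i)) = true := by decide +kernel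
theorem gen_1 : SQ.allB 2058 (fun i => Nat.beq (u1 i) (Tab.act He1.T He1.D [1] i)) = true := by decide +kernel
theorem gen_2 : SQ.allB 2058 (fun i => Nat.beq (u2 i) (Tab.act He1.T He1.D [2] i)) = true := by decide +kernel
theorem gen_3 : SQ.allB 2058 (fun i => Nat.beq (u3 i) (Tab.act He1.T He1.D [3] i)) = true := by decide +kernel
theorem gen_4 : SQ.allB 2058 (fun i => Nat.beq (u4 i) (Tab.act He1.T He1.D [4] i)) = true := by decide +kernel
theorem gen_5 : SQ.allB 2058 (fun i => Nat.beq (u5 i) (Tab.act He1.T He1.D [5] i)) = true := by decide +kernel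
theorem gen_6 : SQ.allB 2058 (fun i => Nat.beq (u6 i) (Tab.act He1.T He1.D [6] i)) = true := by decide +kernel

/-- the presented group -/
abbrev GHe : Type := PHe.P.Grp

/-- the action on the 2058 points -/
noncomputable def φ : GHe →* Equiv.Perm (Fin 2058) := He1.inst.phi

theorem finHe : Finite GHe := Cfsg.Agent.S1695.order_aux.1

theorem cardHe : Nat.card GHe = 4030387200 := Cfsg.Agent.S1695.order_aux.2.2

theorem φ_inj : Function.Injective φ := Cfsg.Agent.S1695.order_aux.2.1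

theorem φ_word (w : List ℕ) (hw : ∀ y ∈ w, y < 7) (x : Fin 2058) :
    (φ (wordP PHe.P.gR w) x).1 = Tab.act He1.T He1.D w x.1 := by
  show (He1.inst.phi (wordP PHe.P.gR w) x).1 = Tab.act He1.T He1.D w x.1
  rw [← He1.inst.gE_word w hw]
  exact He1.inst.hC.phi_word He1.inst.phi He1.inst.hphi w
    (fun y hy => by rw [He1.inst.hk]; exact hw y hy) x

/-- the permutation group on the 2058 points -/
noncomputable abbrev K58 : Subgroup (Equiv.Perm (Fin 2058)) := φ.range

theorem ub_act (k : ℕ) (hk : k < 7) (i : ℕ) (hi : i < 2058) :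
    ub k i = Tab.act He1.T He1.D [k] i := by
  interval_cases k
  · exact Nat.eq_of_beq_eq_true (SQ.allB_spec gen_0 i hi)
  · exact Nat.eq_of_beq_eq_true (SQ.allB_spec gen_1 i hi)
  · exact Nat.eq_of_beq_eq_true (SQ.allB_spec gen_2 i hi)
  · exact Nat.eq_of_beq_eq_true (SQ.allB_spec gen_3 i hi)
  · exact Nat.eq_of_beq_eq_true (SQ.allB_spec gen_4 i hi)
  · exact Nat.eq_of_beq_eq_true (SQ.allB_spec gen_5 i hi)
  · exact Nat.eq_of_beq_eq_true (SQ.allB_spec gen_6 i hi)

/-- the action of a word in the generators -/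
def actU (w : List ℕ) (i : ℕ) : ℕ := w.foldr (fun k acc => ub k acc) i

theorem actU_nil (i : ℕ) : actU [] i = i := rfl

theorem actU_cons (k : ℕ) (w : List ℕ) (i : ℕ) : actU (k :: w) i = ub k (actU w i) := rfl

theorem actU_append (w w' : List ℕ) (i : ℕ) : actU (w ++ w') i = actU w (actU w' i) := by
  unfold actU
  rw [List.foldr_append]

theorem act_lt (w : List ℕ) (hw : ∀ y ∈ w, y < 7) (i : ℕ) (hi : i < 2058) :
    Tab.act He1.T He1.D w i < 2058 := by
  have := φ_word w hw ⟨i, hi⟩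
  show Tab.act He1.T He1.D w (⟨i, hi⟩ : Fin 2058).1 < 2058
  rw [← this]
  exact (φ (wordP PHe.P.gR w) ⟨i, hi⟩).2

theorem act_eq (w : List ℕ) (hw : ∀ y ∈ w, y < 7) (i : ℕ) (hi : i < 2058) :
    Tab.act He1.T He1.D w i = actU w i := by
  induction w with
  | nil => rfl
  | cons k w ih =>
    have hw' : ∀ y ∈ w, y < 7 := fun y hy => hw y (List.mem_cons_of_mem _ hy)
    have e : Tab.act He1.T He1.D (k :: w) i =
        Tab.act He1.T He1.D [k] (Tab.act He1.T He1.D w i) := rfl
    rw [e, ← ub_act k (hw k List.mem_cons_self) _ (act_lt w hw' i hi), ih hw', actU_cons]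

theorem gN_word (w : List ℕ) (hw : ∀ y ∈ w, y < 7) (i : ℕ) (hi : i < 2058) :
    SQ.gN (φ (wordP PHe.P.gR w)) i = actU w i := by
  rw [SQ.gN_of_lt _ hi, ← act_eq w hw i hi]
  exact φ_word w hw ⟨i, hi⟩

theorem real_gen (k : ℕ) (hk : k < 7) : SQ.Real K58 (ub k) := by
  refine ⟨φ (wordP PHe.P.gR [k]), ⟨_, rfl⟩, fun i hi => ?_⟩
  rw [gN_word [k] (by intro y hy; rw [List.mem_singleton] at hy; omega) i hi]
  rfl

theorem real_0 : SQ.Real K58 u0 := real_gen 0 (by decide)
theorem real_1 : SQ.Real K58 u1 := real_gen 1 (by decide)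
theorem real_2 : SQ.Real K58 u2 := real_gen 2 (by decide)
theorem real_3 : SQ.Real K58 u3 := real_gen 3 (by decide)
theorem real_4 : SQ.Real K58 u4 := real_gen 4 (by decide)
theorem real_5 : SQ.Real K58 u5 := real_gen 5 (by decide)
theorem real_6 : SQ.Real K58 u6 := real_gen 6 (by decide)

theorem real_7 : SQ.Real K58 u7 :=
  SQ.real_of_eq (fL := fun x => u2 (u3 (u1 (u6 (x))))) (fR := fun x => x)
    ((real_2).comp ((real_3).comp ((real_1).comp (real_6))))
    (SQ.real_id)
    (fun x hx => Nat.eq_of_beq_eq_true (SQ.allB_spec cert_7 x hx))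
theorem real_8 : SQ.Real K58 u8 :=
  SQ.real_of_eq (fL := fun x => u2 (u3 (u1 (u5 (x))))) (fR := fun x => x)
    ((real_2).comp ((real_3).comp ((real_1).comp (real_5))))
    (SQ.real_id)
    (fun x hx => Nat.eq_of_beq_eq_true (SQ.allB_spec cert_8 x hx))
theorem real_9 : SQ.Real K58 u9 :=
  SQ.real_of_eq (fL := fun x => u1 (u3 (u7 (u7 (u0 (u4 (x))))))) (fR := fun x => u0 (u3 (u2 (u4 (u3 (x))))))
    ((real_1).comp ((real_3).comp ((real_7).comp ((real_7).comp ((real_0).comp (real_4))))))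
    ((real_0).comp ((real_3).comp ((real_2).comp ((real_4).comp (real_3)))))
    (fun x hx => Nat.eq_of_beq_eq_true (SQ.allB_spec cert_9 x hx))
theorem real_10 : SQ.Real K58 u10 :=
  SQ.real_of_eq (fL := fun x => u4 (u3 (u6 (u5 (u7 (u6 (x))))))) (fR := fun x => u4 (u3 (u2 (u6 (u5 (u3 (x)))))))
    ((real_4).comp ((real_3).comp ((real_6).comp ((real_5).comp ((real_7).comp (real_6))))))
    ((real_4).comp ((real_3).comp ((real_2).comp ((real_6).comp ((real_5).comp (real_3))))))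
    (fun x hx => Nat.eq_of_beq_eq_true (SQ.allB_spec cert_10 x hx))
theorem real_11 : SQ.Real K58 u11 :=
  SQ.real_of_eq (fL := fun x => u7 (u7 (u7 (u7 (u1 (u7 (x))))))) (fR := fun x => u0 (u5 (u6 (u7 (u6 (u5 (x)))))))
    ((real_7).comp ((real_7).comp ((real_7).comp ((real_7).comp ((real_1).comp (real_7))))))
    ((real_0).comp ((real_5).comp ((real_6).comp ((real_7).comp ((real_6).comp (real_5))))))
    (fun x hx => Nat.eq_of_beq_eq_true (SQ.allB_spec cert_11 x hx))
theorem real_12 : SQ.Real K58 u12 :=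
  SQ.real_of_eq (fL := fun x => u10 (u9 (u9 (u11 (u10 (u9 (u9 (u10 (x))))))))) (fR := fun x => u10 (u9 (u9 (u11 (u10 (u9 (u9 (x))))))))
    ((real_10).comp ((real_9).comp ((real_9).comp ((real_11).comp ((real_10).comp ((real_9).comp ((real_9).comp (real_10))))))))
    ((real_10).comp ((real_9).comp ((real_9).comp ((real_11).comp ((real_10).comp ((real_9).comp (real_9)))))))
    (fun x hx => Nat.eq_of_beq_eq_true (SQ.allB_spec cert_12 x hx))
theorem real_13 : SQ.Real K58 u13 :=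
  SQ.real_of_eq (fL := fun x => u11 (u10 (u9 (u9 (u9 (u10 (u11 (u7 (u1 (u5 (u3 (u4 (u0 (x)))))))))))))) (fR := fun x => u2 (u3 (u5 (u3 (u4 (x))))))
    ((real_11).comp ((real_10).comp ((real_9).comp ((real_9).comp ((real_9).comp ((real_10).comp ((real_11).comp ((real_7).comp ((real_1).comp ((real_5).comp ((real_3).comp ((real_4).comp (real_0)))))))))))))
    ((real_2).comp ((real_3).comp ((real_5).comp ((real_3).comp (real_4)))))
    (fun x hx => Nat.eq_of_beq_eq_true (SQ.allB_spec cert_13 x hx))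
theorem real_14 : SQ.Real K58 u14 :=
  SQ.real_of_eq (fL := fun x => u13 (u13 (u12 (u13 (u12 (u13 (u11 (u13 (u11 (u13 (u11 (u13 (u4 (u3 (u2 (u5 (u3 (u4 (u2 (x)))))))))))))))))))) (fR := fun x => u0 (u4 (u7 (u5 (u7 (u4 (x)))))))
    ((real_13).comp ((real_13).comp ((real_12).comp ((real_13).comp ((real_12).comp ((real_13).comp ((real_11).comp ((real_13).comp ((real_11).comp ((real_13).comp ((real_11).comp ((real_13).comp ((real_4).comp ((real_3).comp ((real_2).comp ((real_5).comp ((real_3).comp ((real_4).comp (real_2)))))))))))))))))))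
    ((real_0).comp ((real_4).comp ((real_7).comp ((real_5).comp ((real_7).comp (real_4))))))
    (fun x hx => Nat.eq_of_beq_eq_true (SQ.allB_spec cert_14 x hx))
theorem real_15 : SQ.Real K58 u15 :=
  SQ.real_of_eq (fL := fun x => u13 (u13 (u13 (u12 (u14 (u9 (u9 (u9 (u10 (u13 (u11 (u3 (u4 (u6 (u0 (x)))))))))))))))) (fR := fun x => u0 (u2 (u7 (u5 (x)))))
    ((real_13).comp ((real_13).comp ((real_13).comp ((real_12).comp ((real_14).comp ((real_9).comp ((real_9).comp ((real_9).comp ((real_10).comp ((real_13).comp ((real_11).comp ((real_3).comp ((real_4).comp ((real_6).comp (real_0)))))))))))))))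
    ((real_0).comp ((real_2).comp ((real_7).comp (real_5))))
    (fun x hx => Nat.eq_of_beq_eq_true (SQ.allB_spec cert_15 x hx))
theorem real_16 : SQ.Real K58 u16 :=
  SQ.real_of_eq (fL := fun x => u7 (u7 (u7 (u7 (u7 (u7 (u7 (u7 (u14 (u12 (u13 (u15 (u13 (u12 (u14 (u10 (u9 (u14 (u15 (u9 (u1 (u5 (u6 (u7 (u4 (u5 (x))))))))))))))))))))))))))) (fR := fun x => x)
    ((real_7).comp ((real_7).comp ((real_7).comp ((real_7).comp ((real_7).comp ((real_7).comp ((real_7).comp ((real_7).comp ((real_14).comp ((real_12).comp ((real_13).comp ((real_15).comp ((real_13).comp ((real_12).comp ((real_14).comp ((real_10).comp ((real_9).comp ((real_14).comp ((real_15).comp ((real_9).comp ((real_1).comp ((real_5).comp ((real_6).comp ((real_7).comp ((real_4).comp (real_5))))))))))))))))))))))))))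
    (SQ.real_id)
    (fun x hx => Nat.eq_of_beq_eq_true (SQ.allB_spec cert_16 x hx))
theorem real_17 : SQ.Real K58 u17 :=
  SQ.real_of_eq (fL := fun x => u16 (u16 (x))) (fR := fun x => x)
    ((real_16).comp (real_16))
    (SQ.real_id)
    (fun x hx => Nat.eq_of_beq_eq_true (SQ.allB_spec cert_17 x hx))
theorem real_18 : SQ.Real K58 u18 :=
  SQ.real_of_eq (fL := fun x => u1 (u3 (u7 (u7 (u0 (u4 (x))))))) (fR := fun x => u0 (u3 (u2 (u4 (u3 (x))))))
    ((real_1).comp ((real_3).comp ((real_7).comp ((real_7).comp ((real_0).comp (real_4))))))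
    ((real_0).comp ((real_3).comp ((real_2).comp ((real_4).comp (real_3)))))
    (fun x hx => Nat.eq_of_beq_eq_true (SQ.allB_spec cert_18 x hx))
theorem real_19 : SQ.Real K58 u19 :=
  SQ.real_of_eq (fL := fun x => u4 (u3 (u6 (u5 (u7 (u6 (x))))))) (fR := fun x => u4 (u3 (u2 (u6 (u5 (u3 (x)))))))
    ((real_4).comp ((real_3).comp ((real_6).comp ((real_5).comp ((real_7).comp (real_6))))))
    ((real_4).comp ((real_3).comp ((real_2).comp ((real_6).comp ((real_5).comp (real_3))))))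
    (fun x hx => Nat.eq_of_beq_eq_true (SQ.allB_spec cert_19 x hx))
theorem real_20 : SQ.Real K58 u20 :=
  SQ.real_of_eq (fL := fun x => u7 (u7 (u7 (u7 (u1 (u7 (x))))))) (fR := fun x => u0 (u5 (u6 (u7 (u6 (u5 (x)))))))
    ((real_7).comp ((real_7).comp ((real_7).comp ((real_7).comp ((real_1).comp (real_7))))))
    ((real_0).comp ((real_5).comp ((real_6).comp ((real_7).comp ((real_6).comp (real_5))))))
    (fun x hx => Nat.eq_of_beq_eq_true (SQ.allB_spec cert_20 x hx))
theorem real_21 : SQ.Real K58 u21 :=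
  SQ.real_of_eq (fL := fun x => u20 (u20 (u18 (u19 (u20 (u18 (u7 (u1 (u5 (u3 (u4 (u0 (x))))))))))))) (fR := fun x => u2 (u3 (u5 (u3 (u4 (x))))))
    ((real_20).comp ((real_20).comp ((real_18).comp ((real_19).comp ((real_20).comp ((real_18).comp ((real_7).comp ((real_1).comp ((real_5).comp ((real_3).comp ((real_4).comp (real_0))))))))))))
    ((real_2).comp ((real_3).comp ((real_5).comp ((real_3).comp (real_4)))))
    (fun x hx => Nat.eq_of_beq_eq_true (SQ.allB_spec cert_21 x hx))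
theorem real_22 : SQ.Real K58 u22 :=
  SQ.real_of_eq (fL := fun x => u18 (u20 (u21 (u18 (u19 (u20 (u4 (u3 (u2 (u5 (u3 (u4 (u2 (x)))))))))))))) (fR := fun x => u0 (u4 (u7 (u5 (u7 (u4 (x)))))))
    ((real_18).comp ((real_20).comp ((real_21).comp ((real_18).comp ((real_19).comp ((real_20).comp ((real_4).comp ((real_3).comp ((real_2).comp ((real_5).comp ((real_3).comp ((real_4).comp (real_2)))))))))))))
    ((real_0).comp ((real_4).comp ((real_7).comp ((real_5).comp ((real_7).comp (real_4))))))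
    (fun x hx => Nat.eq_of_beq_eq_true (SQ.allB_spec cert_22 x hx))
theorem real_23 : SQ.Real K58 u23 :=
  SQ.real_of_eq (fL := fun x => u19 (u21 (u21 (u19 (u21 (u19 (u21 (u18 (u18 (u18 (u21 (u18 (u22 (u22 (x))))))))))))))) (fR := fun x => u20 (u22 (u22 (u22 (u20 (x))))))
    ((real_19).comp ((real_21).comp ((real_21).comp ((real_19).comp ((real_21).comp ((real_19).comp ((real_21).comp ((real_18).comp ((real_18).comp ((real_18).comp ((real_21).comp ((real_18).comp ((real_22).comp (real_22))))))))))))))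
    ((real_20).comp ((real_22).comp ((real_22).comp ((real_22).comp (real_20)))))
    (fun x hx => Nat.eq_of_beq_eq_true (SQ.allB_spec cert_23 x hx))
theorem real_24 : SQ.Real K58 u24 :=
  SQ.real_of_eq (fL := fun x => u22 (u23 (u22 (u22 (u22 (u18 (u18 (u22 (u19 (u22 (u20 (u20 (x))))))))))))) (fR := fun x => u18 (u22 (u20 (u22 (u18 (u21 (x)))))))
    ((real_22).comp ((real_23).comp ((real_22).comp ((real_22).comp ((real_22).comp ((real_18).comp ((real_18).comp ((real_22).comp ((real_19).comp ((real_22).comp ((real_20).comp (real_20))))))))))))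
    ((real_18).comp ((real_22).comp ((real_20).comp ((real_22).comp ((real_18).comp (real_21))))))
    (fun x hx => Nat.eq_of_beq_eq_true (SQ.allB_spec cert_24 x hx))
theorem real_25 : SQ.Real K58 u25 :=
  SQ.real_of_eq (fL := fun x => u24 (u19 (u22 (u19 (u22 (u20 (u20 (u18 (u18 (u20 (u7 (u4 (u5 (u3 (u7 (x)))))))))))))))) (fR := fun x => x)
    ((real_24).comp ((real_19).comp ((real_22).comp ((real_19).comp ((real_22).comp ((real_20).comp ((real_20).comp ((real_18).comp ((real_18).comp ((real_20).comp ((real_7).comp ((real_4).comp ((real_5).comp ((real_3).comp (real_7)))))))))))))))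
    (SQ.real_id)
    (fun x hx => Nat.eq_of_beq_eq_true (SQ.allB_spec cert_25 x hx))

theorem real_stepX0 : ∀ l, 2 ≤ l → l < LX0.ng + 2 → SQ.Real K58 (LX0.step l) := by
  intro l h1 h2
  have h3 : l < 10 := h2
  interval_cases l
  · exact real_0
  · exact real_1
  · exact real_2
  · exact real_3
  · exact real_4
  · exact real_5
  · exact real_6
  · exact real_7

theorem real_stepX1 : ∀ l, 2 ≤ l → l < LX1.ng + 2 → SQ.Real K58 (LX1.step l) := by
  intro l h1 h2
  have h3 : l < 8 := h2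
  interval_cases l
  · exact real_9
  · exact real_10
  · exact real_11
  · exact real_13
  · exact real_14
  · exact real_15

theorem real_stepX2 : ∀ l, 2 ≤ l → l < LX2.ng + 2 → SQ.Real K58 (LX2.step l) := by
  intro l h1 h2
  have h3 : l < 6 := h2
  interval_cases l
  · exact real_12
  · exact real_13
  · exact real_14
  · exact real_15

theorem real_stepX3 : ∀ l, 2 ≤ l → l < LX3.ng + 2 → SQ.Real K58 (LX3.step l) := by
  intro l h1 h2
  have h3 : l < 4 := h2
  interval_cases l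
  · exact real_14
  · exact real_15

theorem real_stepZ1 : ∀ l, 2 ≤ l → l < LZ1.ng + 2 → SQ.Real K58 (LZ1.step l) := by
  intro l h1 h2
  have h3 : l < 7 := h2
  interval_cases l
  · exact real_18
  · exact real_19
  · exact real_20
  · exact real_21
  · exact real_22

theorem real_stepZ2 : ∀ l, 2 ≤ l → l < LZ2.ng + 2 → SQ.Real K58 (LZ2.step l) := by
  intro l h1 h2
  have h3 : l < 7 := h2
  interval_cases l
  · exact real_19
  · exact real_21
  · exact real_22
  · exact real_23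
  · exact real_24

theorem real_stepZ3 : ∀ l, 2 ≤ l → l < LZ3.ng + 2 → SQ.Real K58 (LZ3.step l) := by
  intro l h1 h2
  have h3 : l < 4 := h2
  interval_cases l
  · exact real_23
  · exact real_24

theorem real_steps_X : ∀ L ∈ LsX, ∀ l, 2 ≤ l → l < L.ng + 2 → SQ.Real K58 (L.step l) := by
  intro L hL
  simp only [LsX, List.mem_cons, List.not_mem_nil, or_false] at hL
  rcases hL with rfl | rfl | rfl | rfl
  · exact real_stepX0
  · exact real_stepX1
  · exact real_stepX2
  · exact real_stepX3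

theorem real_steps_Z : ∀ L ∈ LsZ, ∀ l, 2 ≤ l → l < L.ng + 2 → SQ.Real K58 (L.step l) := by
  intro L hL
  simp only [LsZ, List.mem_cons, List.not_mem_nil, or_false] at hL
  rcases hL with rfl | rfl | rfl | rfl
  · exact real_stepX0
  · exact real_stepZ1
  · exact real_stepZ2
  · exact real_stepZ3

theorem card_K58 : Nat.card K58 = 4030387200 := by
  rw [← cardHe]
  exact (Nat.card_congr (MonoidHom.ofInjective φ_inj).toEquiv).symm

theorem chainX : SQ.ChainOK K58 LsX :=
  SQ.chainOK_of_checks K58 LsX real_steps_X lvOK_LsX fixOK_X (by rw [card_K58]; exact size_X)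

theorem chainZ : SQ.ChainOK K58 LsZ :=
  SQ.chainOK_of_checks K58 LsZ real_steps_Z lvOK_LsZ fixOK_Z (by rw [card_K58]; exact size_Z)

/-! ### generation by `x`, `n`, `z` -/

theorem real2_26 (K' : Subgroup (Equiv.Perm (Fin 2058))) (hx : SQ.Real K' u7) (hn : SQ.Real K' u16) (hz : SQ.Real K' u25) : SQ.Real K' u26 :=
  SQ.real_of_eq (fL := fun x => u16 (u7 (u25 (u7 (u16 (u16 (u16 (u7 (u7 (x)))))))))) (fR := fun x => u7 (u16 (u7 (u25 (u16 (u7 (u16 (u16 (x)))))))))
    ((hn).comp ((hx).comp ((hz).comp ((hx).comp ((hn).comp ((hn).comp ((hn).comp ((hx).comp (hx)))))))))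
    ((hx).comp ((hn).comp ((hx).comp ((hz).comp ((hn).comp ((hx).comp ((hn).comp (hn))))))))
    (fun x hx => Nat.eq_of_beq_eq_true (SQ.allB_spec cert_26 x hx))
theorem real2_27 (K' : Subgroup (Equiv.Perm (Fin 2058))) (hx : SQ.Real K' u7) (hn : SQ.Real K' u16) (hz : SQ.Real K' u25) : SQ.Real K' u27 :=
  SQ.real_of_eq (fL := fun x => u25 (u16 (u25 (u7 (u25 (u7 (u16 (u7 (u16 (x)))))))))) (fR := fun x => u16 (u16 (u7 (u25 (u7 (u7 (u16 (u16 (u7 (x))))))))))
    ((hz).comp ((hn).comp ((hz).comp ((hx).comp ((hz).comp ((hx).comp ((hn).comp ((hx).comp (hn)))))))))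
    ((hn).comp ((hn).comp ((hx).comp ((hz).comp ((hx).comp ((hx).comp ((hn).comp ((hn).comp (hx)))))))))
    (fun x hx => Nat.eq_of_beq_eq_true (SQ.allB_spec cert_27 x hx))
theorem real2_28 (K' : Subgroup (Equiv.Perm (Fin 2058))) (hx : SQ.Real K' u7) (hn : SQ.Real K' u16) (hz : SQ.Real K' u25) : SQ.Real K' u28 :=
  SQ.real_of_eq (fL := fun x => u27 (u26 (u26 (u26 (u27 (u27 (u26 (u26 (u27 (u27 (u26 (u27 (u26 (u26 (x))))))))))))))) (fR := fun x => u27 (u27 (u27 (u27 (u27 (u27 (u27 (u27 (u27 (u27 (u26 (u26 (u27 (x))))))))))))))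
    ((real2_27 K' hx hn hz).comp ((real2_26 K' hx hn hz).comp ((real2_26 K' hx hn hz).comp ((real2_26 K' hx hn hz).comp ((real2_27 K' hx hn hz).comp ((real2_27 K' hx hn hz).comp ((real2_26 K' hx hn hz).comp ((real2_26 K' hx hn hz).comp ((real2_27 K' hx hn hz).comp ((real2_27 K' hx hn hz).comp ((real2_26 K' hx hn hz).comp ((real2_27 K' hx hn hz).comp ((real2_26 K' hx hn hz).comp (real2_26 K' hx hn hz))))))))))))))
    ((real2_27 K' hx hn hz).comp ((real2_27 K' hx hn hz).comp ((real2_27 K' hx hn hz).comp ((real2_27 K' hx hn hz).comp ((real2_27 K' hx hn hz).comp ((real2_27 K' hx hn hz).comp ((real2_27 K' hx hn hz).comp ((real2_27 K' hx hn hz).comp ((real2_27 K' hx hn hz).comp ((real2_27 K' hx hn hz).comp ((real2_26 K' hx hn hz).comp ((real2_26 K' hx hn hz).comp (real2_27 K' hx hn hz)))))))))))))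
    (fun x hx => Nat.eq_of_beq_eq_true (SQ.allB_spec cert_28 x hx))
theorem real2_29 (K' : Subgroup (Equiv.Perm (Fin 2058))) (hx : SQ.Real K' u7) (hn : SQ.Real K' u16) (hz : SQ.Real K' u25) : SQ.Real K' u29 :=
  SQ.real_of_eq (fL := fun x => u26 (u28 (u28 (u26 (u28 (u28 (u26 (u27 (u26 (u27 (u27 (u26 (u26 (u27 (u26 (u27 (u26 (u27 (u27 (x)))))))))))))))))))) (fR := fun x => u27 (u26 (u27 (u26 (u27 (u26 (u27 (u27 (u27 (u27 (u27 (u26 (x)))))))))))))
    ((real2_26 K' hx hn hz).comp ((real2_28 K' hx hn hz).comp ((real2_28 K' hx hn hz).comp ((real2_26 K' hx hn hz).comp ((real2_28 K' hx hn hz).comp ((real2_28 K' hx hn hz).comp ((real2_26 K' hx hn hz).comp ((real2_27 K' hx hn hz).comp ((real2_26 K' hx hn hz).comp ((real2_27 K' hx hn hz).comp ((real2_27 K' hx hn hz).comp ((real2_26 K' hx hn hz).comp ((real2_26 K' hx hn hz).comp ((real2_27 K' hx hn hz).comp ((real2_26 K' hx hn hz).comp ((real2_27 K' hx hn hz).comp ((real2_26 K' hx hn hz).comp ((real2_27 K'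 hx hn hz).comp (real2_27 K' hx hn hz)))))))))))))))))))
    ((real2_27 K' hx hn hz).comp ((real2_26 K' hx hn hz).comp ((real2_27 K' hx hn hz).comp ((real2_26 K' hx hn hz).comp ((real2_27 K' hx hn hz).comp ((real2_26 K' hx hn hz).comp ((real2_27 K' hx hn hz).comp ((real2_27 K' hx hn hz).comp ((real2_27 K' hx hn hz).comp ((real2_27 K' hx hn hz).comp ((real2_27 K' hx hn hz).comp (real2_26 K' hx hn hz))))))))))))
    (fun x hx => Nat.eq_of_beq_eq_true (SQ.allB_spec cert_29 x hx))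
theorem real2_30 (K' : Subgroup (Equiv.Perm (Fin 2058))) (hx : SQ.Real K' u7) (hn : SQ.Real K' u16) (hz : SQ.Real K' u25) : SQ.Real K' u30 :=
  SQ.real_of_eq (fL := fun x => u26 (u27 (u26 (u26 (u26 (u26 (u27 (u27 (u26 (u26 (u26 (u27 (u27 (u25 (u16 (u7 (u16 (u7 (u25 (u7 (u25 (u7 (u16 (x)))))))))))))))))))))))) (fR := fun x => u25 (u7 (u16 (u7 (u16 (u25 (u16 (u7 (u25 (x))))))))))
    ((real2_26 K' hx hn hz).comp ((real2_27 K' hx hn hz).comp ((real2_26 K' hx hn hz).comp ((real2_26 K' hx hn hz).comp ((real2_26 K' hx hn hz).comp ((real2_26 K' hx hn hz).comp ((real2_27 K' hx hn hz).comp ((real2_27 K' hx hn hz).comp ((real2_26 K' hx hn hz).comp ((real2_26 K' hx hn hz).comp ((real2_26 K' hx hn hz).comp ((real2_27 K' hx hn hz).comp ((real2_27 K' hx hn hz).comp ((hz).comp ((hn).comp ((hx).comp ((hn).comp ((hx).comp ((hz).comp ((hx).comp ((hz).comp ((hx).comp (hn)))))))))))))))))))))))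
    ((hz).comp ((hx).comp ((hn).comp ((hx).comp ((hn).comp ((hz).comp ((hn).comp ((hx).comp (hz)))))))))
    (fun x hx => Nat.eq_of_beq_eq_true (SQ.allB_spec cert_30 x hx))
theorem real2_g0 (K' : Subgroup (Equiv.Perm (Fin 2058))) (hx : SQ.Real K' u7) (hn : SQ.Real K' u16) (hz : SQ.Real K' u25) : SQ.Real K' u0 :=
  SQ.real_of_eq (fL := fun x => u30 (u28 (u30 (u27 (u26 (u26 (u26 (u26 (u27 (u30 (u26 (u27 (u26 (u25 (u7 (u7 (u16 (u25 (u16 (u25 (u7 (x)))))))))))))))))))))) (fR := fun x => x)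
    ((real2_30 K' hx hn hz).comp ((real2_28 K' hx hn hz).comp ((real2_30 K' hx hn hz).comp ((real2_27 K' hx hn hz).comp ((real2_26 K' hx hn hz).comp ((real2_26 K' hx hn hz).comp ((real2_26 K' hx hn hz).comp ((real2_26 K' hx hn hz).comp ((real2_27 K' hx hn hz).comp ((real2_30 K' hx hn hz).comp ((real2_26 K' hx hn hz).comp ((real2_27 K' hx hn hz).comp ((real2_26 K' hx hn hz).comp ((hz).comp ((hx).comp ((hx).comp ((hn).comp ((hz).comp ((hn).comp ((hz).comp (hx)))))))))))))))))))))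
    (SQ.real_id)
    (fun x hx => Nat.eq_of_beq_eq_true (SQ.allB_spec genw_0 x hx))
theorem real2_g1 (K' : Subgroup (Equiv.Perm (Fin 2058))) (hx : SQ.Real K' u7) (hn : SQ.Real K' u16) (hz : SQ.Real K' u25) : SQ.Real K' u1 :=
  SQ.real_of_eq (fL := fun x => u26 (u30 (u28 (u28 (u27 (u30 (u27 (u30 (u27 (u26 (u26 (u27 (u7 (u25 (u16 (u7 (u16 (x)))))))))))))))))) (fR := fun x => x)
    ((real2_26 K' hx hn hz).comp ((real2_30 K' hx hn hz).comp ((real2_28 K' hx hn hz).comp ((real2_28 K' hx hn hz).comp ((real2_27 K' hx hn hz).comp ((real2_30 K' hx hn hz).comp ((real2_27 K' hx hn hz).comp ((real2_30 K' hx hn hz).comp ((real2_27 K' hx hn hz).comp ((real2_26 K' hx hn hz).comp ((real2_26 K' hx hn hz).comp ((real2_27 K' hx hn hz).comp ((hx).comp ((hz).comp ((hn).comp ((hx).comp (hn)))))))))))))))))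
    (SQ.real_id)
    (fun x hx => Nat.eq_of_beq_eq_true (SQ.allB_spec genw_1 x hx))
theorem real2_g2 (K' : Subgroup (Equiv.Perm (Fin 2058))) (hx : SQ.Real K' u7) (hn : SQ.Real K' u16) (hz : SQ.Real K' u25) : SQ.Real K' u2 :=
  SQ.real_of_eq (fL := fun x => u29 (u30 (u28 (u26 (u28 (u26 (u30 (u27 (u27 (u26 (u30 (u26 (u30 (u27 (u16 (u25 (u7 (u7 (u7 (u7 (u25 (x)))))))))))))))))))))) (fR := fun x => x)
    ((real2_29 K' hx hn hz).comp ((real2_30 K' hx hn hz).comp ((real2_28 K' hx hn hz).comp ((real2_26 K' hx hn hz).comp ((real2_28 K' hx hn hz).comp ((real2_26 K' hx hn hz).comp ((real2_30 K' hx hn hz).comp ((real2_27 K' hx hn hz).comp ((real2_27 K' hx hn hz).comp ((real2_26 K' hx hn hz).comp ((real2_30 K' hx hn hz).comp ((real2_26 K' hx hn hz).comp ((real2_30 K' hx hn hz).comp ((real2_27 K' hx hn hz).comp ((hn).comp ((hz).comp ((hx).comp ((hx).comp ((hx).comp ((hx).comp (hz)))))))))))))))))))))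
    (SQ.real_id)
    (fun x hx => Nat.eq_of_beq_eq_true (SQ.allB_spec genw_2 x hx))
theorem real2_g3 (K' : Subgroup (Equiv.Perm (Fin 2058))) (hx : SQ.Real K' u7) (hn : SQ.Real K' u16) (hz : SQ.Real K' u25) : SQ.Real K' u3 :=
  SQ.real_of_eq (fL := fun x => u29 (u30 (u28 (u28 (u26 (u26 (u30 (u27 (u26 (u26 (u27 (u26 (u27 (u16 (u7 (u25 (u7 (u7 (u7 (x)))))))))))))))))))) (fR := fun x => x)
    ((real2_29 K' hx hn hz).comp ((real2_30 K' hx hn hz).comp ((real2_28 K' hx hn hz).comp ((real2_28 K' hx hn hz).comp ((real2_26 K' hx hn hz).comp ((real2_26 K' hx hn hz).comp ((real2_30 K' hx hn hz).comp ((real2_27 K' hx hn hz).comp ((real2_26 K' hx hn hz).comp ((real2_26 K' hx hn hz).comp ((real2_27 K' hx hn hz).comp ((real2_26 K' hx hn hz).comp ((real2_27 K' hx hn hz).comp ((hn).comp ((hx).comp ((hz).comp ((hx).comp ((hx).comp (hx)))))))))))))))))))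
    (SQ.real_id)
    (fun x hx => Nat.eq_of_beq_eq_true (SQ.allB_spec genw_3 x hx))
theorem real2_g4 (K' : Subgroup (Equiv.Perm (Fin 2058))) (hx : SQ.Real K' u7) (hn : SQ.Real K' u16) (hz : SQ.Real K' u25) : SQ.Real K' u4 :=
  SQ.real_of_eq (fL := fun x => u26 (u26 (u28 (u26 (u26 (u26 (u27 (u26 (u30 (u27 (u26 (u26 (u30 (u27 (u30 (u7 (u7 (u16 (u25 (u7 (u16 (u16 (u7 (u25 (x))))))))))))))))))))))))) (fR := fun x => x)
    ((real2_26 K' hx hn hz).comp ((real2_26 K' hx hn hz).comp ((real2_28 K' hx hn hz).comp ((real2_26 K' hx hn hz).comp ((real2_26 K' hx hn hz).comp ((real2_26 K' hx hn hz).comp ((real2_27 K' hx hn hz).comp ((real2_26 K' hx hn hz).comp ((real2_30 K' hx hn hz).comp ((real2_27 K' hx hn hz).comp ((real2_26 K' hx hn hz).comp ((real2_26 K' hx hn hz).comp ((real2_30 K' hx hn hz).comp ((real2_27 K' hx hn hz).comp ((real2_30 K' hx hn hz).comp ((hx).comp ((hx).comp ((hn).comp ((hz).comp ((hx).comp ((hn).comp ((hn).comp ((hx).comp (hz))))))))))))))))))))))))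
    (SQ.real_id)
    (fun x hx => Nat.eq_of_beq_eq_true (SQ.allB_spec genw_4 x hx))
theorem real2_g5 (K' : Subgroup (Equiv.Perm (Fin 2058))) (hx : SQ.Real K' u7) (hn : SQ.Real K' u16) (hz : SQ.Real K' u25) : SQ.Real K' u5 :=
  SQ.real_of_eq (fL := fun x => u30 (u26 (u29 (u26 (u28 (u29 (u27 (u26 (u27 (u27 (u26 (u26 (u27 (u27 (u30 (u16 (u7 (u25 (u7 (u7 (u16 (u25 (x))))))))))))))))))))))) (fR := fun x => x)
    ((real2_30 K' hx hn hz).comp ((real2_26 K' hx hn hz).comp ((real2_29 K' hx hn hz).comp ((real2_26 K' hx hn hz).comp ((real2_28 K' hx hn hz).comp ((real2_29 K' hx hn hz).comp ((real2_27 K' hx hn hz).comp ((real2_26 K' hx hn hz).comp ((real2_27 K' hx hn hz).comp ((real2_27 K' hx hn hz).comp ((real2_26 K' hx hn hz).comp ((real2_26 K' hx hn hz).comp ((real2_27 K' hx hn hz).comp ((real2_27 K' hx hn hz).comp ((real2_30 K' hx hn hz).comp ((hn).comp ((hx).comp ((hz).comp ((hx).comp ((hx).comp ((hn).comp (hz))))))))))))))))))))))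
    (SQ.real_id)
    (fun x hx => Nat.eq_of_beq_eq_true (SQ.allB_spec genw_5 x hx))
theorem real2_g6 (K' : Subgroup (Equiv.Perm (Fin 2058))) (hx : SQ.Real K' u7) (hn : SQ.Real K' u16) (hz : SQ.Real K' u25) : SQ.Real K' u6 :=
  SQ.real_of_eq (fL := fun x => u29 (u30 (u28 (u30 (u27 (u27 (u26 (u26 (u26 (u26 (u7 (u16 (u7 (u16 (u25 (u7 (u25 (u7 (u7 (u7 (x))))))))))))))))))))) (fR := fun x => x)
    ((real2_29 K' hx hn hz).comp ((real2_30 K' hx hn hz).comp ((real2_28 K' hx hn hz).comp ((real2_30 K' hx hn hz).comp ((real2_27 K' hx hn hz).comp ((real2_27 K' hx hn hz).comp ((real2_26 K' hx hn hz).comp ((real2_26 K' hx hn hz).comp ((real2_26 K' hx hn hz).comp ((real2_26 K' hx hn hz).comp ((hx).comp ((hn).comp ((hx).comp ((hn).comp ((hz).comp ((hx).comp ((hz).comp ((hx).comp ((hx).comp (hx))))))))))))))))))))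
    (SQ.real_id)
    (fun x hx => Nat.eq_of_beq_eq_true (SQ.allB_spec genw_6 x hx))

end Cfsg.Agent.Lib.Helper8.HeO
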