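import Cfsg.Agent.Lib.Helper8.OutG2

set_option autoImplicit false

/-! A criterion for the outer automorphism group to have order two: `⟨x⟩` is a
self-centralising Sylow subgroup of prime order, the outer automorphism does not preserve the
class of `x`, and an automorphism fixing `x` is inner (shown with the help of an element `n`
normalising `⟨x⟩` and an element `z` pinned down inside the centraliser of `n²`). -/

namespace Cfsg.Agent.Lib.Helper8.OutG

/-- the order-two criterion when automorphisms fixing `x` are conjugations by powers of `x` -/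
theorem card_out_two_of_swap' {H : Type*} [Group H] (x : H) (τ : MulAut H)
    (h1 : ∀ φ : MulAut H, (∃ k : H, φ x = k * x * k⁻¹) ∨ (∃ k : H, φ x = k * τ x * k⁻¹))
    (h2 : ∀ φ : MulAut H, φ x = x → ∃ i : ℕ, φ = MulAut.conj (x ^ i))
    (h5 : ¬ ∃ k : H, τ x = k * x * k⁻¹) :
    Nat.card (Cfsg.Out H) = 2 := by
  show Nat.card (MulAut H ⧸ (MulAut.conj : H →* MulAut H).range) = 2
  rw [← Subgroup.index_eq_card, Subgroup.index_eq_two_iff]
  set I : Subgroup (MulAut H) := (MulAut.conj : H →* MulAut H).range with hI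
  have hconj : ∀ k : H, MulAut.conj k ∈ I := fun k => ⟨k, rfl⟩
  have hτn : τ ∉ I := by
    intro h
    obtain ⟨k, hk⟩ := (mem_inn_iff τ).mp h
    exact h5 ⟨k, hk x⟩
  have inner : ∀ φ : MulAut H, (∃ k : H, φ x = k * x * k⁻¹) → φ ∈ I := by
    rintro φ ⟨k, hk⟩
    set φ1 : MulAut H := (MulAut.conj k)⁻¹ * φ with hφ1
    have hφ1x : φ1 x = x := by
      rw [hφ1, MulAut.mul_apply, hk, MulAut.conj_inv_apply]
      group
    obtain ⟨i, hi⟩ := h2 φ1 hφ1x
    have e : φ = MulAut.conj k * MulAut.conj (x ^ i) := by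
      rw [← hi, hφ1]; group
    rw [e]
    exact I.mul_mem (hconj k) (hconj _)
  have key : ∀ φ : MulAut H, φ ∈ I ∨ τ⁻¹ * φ ∈ I := by
    intro φ
    rcases h1 φ with h | ⟨k, hk⟩
    · exact Or.inl (inner φ h)
    · right
      apply inner
      refine ⟨τ⁻¹ k, ?_⟩
      rw [MulAut.mul_apply, hk, map_mul, map_mul, map_inv]
      have : τ⁻¹ (τ x) = x := by
        rw [← MulAut.mul_apply, inv_mul_cancel]; rfl
      rw [this]
  have hnormal : I.Normal := by
    rw [hI]
    infer_instance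
  refine ⟨τ⁻¹, ?_⟩
  intro b
  have hswap : b * τ⁻¹ ∈ I ↔ τ⁻¹ * b ∈ I := by
    constructor
    · intro h
      have := hnormal.conj_mem _ h τ⁻¹
      have e : τ⁻¹ * (b * τ⁻¹) * τ⁻¹⁻¹ = τ⁻¹ * b := by group
      rwa [e] at this
    · intro h
      have := hnormal.conj_mem _ h τ
      have e : τ * (τ⁻¹ * b) * τ⁻¹ = b * τ⁻¹ := by group
      rwa [e] at this
  rcases key b with hb | hb
  · right
    refine ⟨hb, ?_⟩
    intro h
    apply hτn
    have h3' := I.mul_mem (I.inv_mem h) hb
    have e : (b * τ⁻¹)⁻¹ * b = τ := by group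
    rwa [e] at h3'
  · by_cases hbI : b ∈ I
    · right
      refine ⟨hbI, ?_⟩
      intro h
      apply hτn
      have h3' := I.mul_mem (I.inv_mem h) hbI
      have e : (b * τ⁻¹)⁻¹ * b = τ := by group
      rwa [e] at h3'
    · left
      exact ⟨hswap.2 hb, hbI⟩

/-- if `x n = n x²` then `x^k n = n x^(2k)` -/
theorem pow_mul_of_rel {H : Type*} [Group H] {x n : H} (h : x * n = n * x ^ 2) (k : ℕ) :
    x ^ k * n = n * x ^ (2 * k) := by
  induction k with
  | zero => simp
  | succ k ih =>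
    calc x ^ (k + 1) * n = x ^ k * (x * n) := by rw [pow_succ, mul_assoc]
      _ = x ^ k * n * x ^ 2 := by rw [h, mul_assoc]
      _ = n * (x ^ (2 * k) * x ^ 2) := by rw [ih, mul_assoc]
      _ = n * x ^ (2 * (k + 1)) := by rw [← pow_add]; ring_nf

/-- the elements `x^j n` are conjugate to `n` under powers of `x` -/
theorem conj_of_rel {H : Type*} [Group H] {x n : H} (h : x * n = n * x ^ 2) (j : ℕ) :
    x ^ (2 * j) * n * (x ^ (2 * j))⁻¹ = x ^ j * n := by
  have e : n * x ^ (2 * j) = x ^ j * n := (pow_mul_of_rel h j).symm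
  calc x ^ (2 * j) * n * (x ^ (2 * j))⁻¹ = x ^ j * (x ^ j * n) * (x ^ (2 * j))⁻¹ := by
        rw [two_mul, pow_add]; group
    _ = x ^ j * (n * x ^ (2 * j)) * (x ^ (2 * j))⁻¹ := by rw [e]
    _ = x ^ j * n := by group

/-- elements acting on `x` like `n` lie in the coset of `n` -/
theorem coset_of_rel {H : Type*} [Group H] {x n : H}
    (hC : ∀ g : H, g * x = x * g → ∃ i : ℕ, g = x ^ i)
    (h : x * n = n * x ^ 2) (a : H) (ha : x * a = a * x ^ 2) : ∃ j : ℕ, a = x ^ j * n := by
  have h1 : a⁻¹ * x * a = x ^ 2 := by rw [mul_assoc, ha]; group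
  have h2 : n⁻¹ * x * n = x ^ 2 := by rw [mul_assoc, h]; group
  have hc : (a * n⁻¹) * x = x * (a * n⁻¹) := by
    have e1 : n⁻¹ * x = x ^ 2 * n⁻¹ := by rw [← h2]; group
    have e2 : a * x ^ 2 = x * a := ha.symm
    calc a * n⁻¹ * x = a * (n⁻¹ * x) := by group
      _ = a * (x ^ 2 * n⁻¹) := by rw [e1]
      _ = (a * x ^ 2) * n⁻¹ := by group
      _ = x * a * n⁻¹ := by rw [e2]
      _ = x * (a * n⁻¹) := by group
  obtain ⟨j, hj⟩ := hC _ hc
  refine ⟨j, ?_⟩
  rw [← hj]; group

/-- an automorphism fixing three generators is trivial -/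
theorem eq_one_of_fix3 {H : Type*} [Group H] (x n z : H) (h3 : Subgroup.closure {x, n, z} = ⊤)
    (φ : MulAut H) (hx : φ x = x) (hn : φ n = n) (hz : φ z = z) : φ = 1 := by
  have h : (φ : H ≃* H).toMonoidHom = MonoidHom.id H := by
    apply MonoidHom.eq_of_eqOn_dense h3
    intro g hg
    rcases hg with rfl | rfl | hg
    · exact hx
    · exact hn
    · rw [Set.mem_singleton_iff] at hg
      subst hg
      exact hz
  apply MulEquiv.ext
  intro g
  exact DFunLike.congr_fun h g

/-- automorphisms fixing `x` are conjugations by powers of `x` -/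
theorem fix_inner {H : Type*} [Group H] (x n z : H)
    (hC : ∀ g : H, g * x = x * g → ∃ i : ℕ, g = x ^ i)
    (hn : x * n = n * x ^ 2)
    (hz : ∀ g : H, g * (n * n) = (n * n) * g → g * g = 1 → (x * g) ^ 7 = 1 → g = z)
    (hzt : z * (n * n) = (n * n) * z) (hz2 : z * z = 1) (hz7 : (x * z) ^ 7 = 1)
    (hgen : Subgroup.closure {x, n, z} = ⊤)
    (φ : MulAut H) (hφ : φ x = x) : ∃ i : ℕ, φ = MulAut.conj (x ^ i) := by
  have ha : x * φ n = φ n * x ^ 2 := by
    have := congrArg φ hn
    rwa [map_mul, map_mul, map_pow, hφ] at this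
  obtain ⟨j, hj⟩ := coset_of_rel hC hn (φ n) ha
  refine ⟨2 * j, ?_⟩
  set ψ : MulAut H := (MulAut.conj (x ^ (2 * j)))⁻¹ * φ with hψ
  have hψx : ψ x = x := by
    rw [hψ, MulAut.mul_apply, hφ, MulAut.conj_inv_apply]
    rw [mul_assoc, inv_mul_eq_iff_eq_mul, ← pow_succ, ← pow_succ']
  have hψn : ψ n = n := by
    rw [hψ, MulAut.mul_apply, hj, ← conj_of_rel hn j, MulAut.conj_inv_apply]
    group
  have hψz : ψ z = z := by
    apply hz
    · have := congrArg ψ hzt
      simp only [map_mul, hψn] at this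
      exact this
    · have := congrArg ψ hz2
      rwa [map_mul, map_one] at this
    · have := congrArg ψ hz7
      rwa [map_pow, map_mul, map_one, hψx] at this
  have e1 : ψ = 1 := eq_one_of_fix3 x n z hgen ψ hψx hψn hψz
  have : φ = MulAut.conj (x ^ (2 * j)) * ψ := by rw [hψ]; group
  rw [this, e1, mul_one]

end Cfsg.Agent.Lib.Helper8.OutG
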