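import Cfsg.Agent.Lib.Helper8.HeO7
import Cfsg.Agent.Lib.Helper8.HeO4
import Cfsg.Agent.Lib.Helper8.OutG3

set_option autoImplicit false
set_option maxRecDepth 100000

/-! The presented Held group: an element `x` of order 17, an element `n` normalising `⟨x⟩`, and
an involution `z` in the centraliser of `n²`; the centralisers of `x` and of `n²`. -/

namespace Cfsg.Agent.Lib.Helper8.HeO

open Cfsg.Spor Cfsg.Agent.Lib.Helper4.TC Cfsg.Agent.Lib.Helper4.TCD Cfsg.Agent.Lib.Helper4.TC.Log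

def xW : List ℕ := [2, 3, 1, 6]

/-- an element of order 17 -/
noncomputable def xE : GHe := wordP PHe.P.gR xW
/-- its image under the diagram automorphism -/
noncomputable def xsE : GHe := wordP PHe.P.gR (xW.map swN)

theorem sig_xE : sig xE = xsE := sig_word xW (by decide)

theorem gN_xE (i : ℕ) (hi : i < 2058) : SQ.gN (φ xE) i = u7 i := by
  rw [xE, gN_word xW (by decide) i hi]
  exact Nat.eq_of_beq_eq_true (SQ.allB_spec cert_7 i hi)

theorem gN_xsE (i : ℕ) (hi : i < 2058) : SQ.gN (φ xsE) i = u8 i := by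
  rw [xsE, gN_word _ (by decide) i hi]
  exact Nat.eq_of_beq_eq_true (SQ.allB_spec cert_8 i hi)

theorem exists_nE : ∃ n : GHe, ∀ i, i < 2058 → SQ.gN (φ n) i = u16 i := by
  obtain ⟨ν, ⟨n', rfl⟩, hν⟩ := real_16
  exact ⟨n', hν⟩

/-- an element normalising `⟨x⟩` -/
noncomputable def nE : GHe := Classical.choose exists_nE

theorem gN_nE (i : ℕ) (hi : i < 2058) : SQ.gN (φ nE) i = u16 i :=
  Classical.choose_spec exists_nE i hi

theorem exists_zE : ∃ z : GHe, ∀ i, i < 2058 → SQ.gN (φ z) i = u25 i := by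
  obtain ⟨ν, ⟨z', rfl⟩, hν⟩ := real_25
  exact ⟨z', hν⟩

/-- an involution centralising `n²` -/
noncomputable def zE : GHe := Classical.choose exists_zE

theorem gN_zE (i : ℕ) (hi : i < 2058) : SQ.gN (φ zE) i = u25 i :=
  Classical.choose_spec exists_zE i hi

theorem u_lt {f : ℕ → ℕ} (h : SQ.Real K58 f) {i : ℕ} (hi : i < 2058) : f i < 2058 := h.lt hi

theorem mem_K58 (g : GHe) : φ g ∈ K58 := ⟨g, rfl⟩

/-- an element acting trivially is trivial -/
theorem eq_one_of_gN (g : GHe) (h : ∀ i, i < 2058 → SQ.gN (φ g) i = i) : g = 1 := by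
  apply φ_inj
  rw [map_one]
  exact SQ.eq_one_of_gN h

theorem eq_of_gN (g g' : GHe) (h : ∀ i, i < 2058 → SQ.gN (φ g) i = SQ.gN (φ g') i) : g = g' := by
  apply φ_inj
  exact SQ.ext_gN h

theorem gN_pow_iter (g : GHe) (f : ℕ → ℕ) (hf : ∀ i, i < 2058 → SQ.gN (φ g) i = f i) (n : ℕ) :
    ∀ i, i < 2058 → SQ.gN (φ (g ^ n)) i = f^[n] i ∧ f^[n] i < 2058 := by
  induction n with
  | zero =>
    intro i hi
    rw [pow_zero, map_one, SQ.gN_one]
    exact ⟨rfl, hi⟩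
  | succ n ih =>
    intro i hi
    rw [pow_succ, map_mul, SQ.gN_mul, hf i hi, Function.iterate_succ_apply]
    have h1 : f i < 2058 := by rw [← hf i hi]; exact SQ.gN_lt _ hi
    exact ih (f i) h1

theorem gN_tE (i : ℕ) (hi : i < 2058) : SQ.gN (φ (nE * nE)) i = u17 i := by
  rw [map_mul, SQ.gN_mul, gN_nE i hi, gN_nE _ (u_lt real_16 hi)]
  exact Nat.eq_of_beq_eq_true (SQ.allB_spec cert_17 i hi)

theorem xE_pow17 : xE ^ 17 = 1 := by
  apply eq_one_of_gN
  intro i hi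
  rw [(gN_pow_iter xE u7 gN_xE 17 i hi).1]
  exact Nat.eq_of_beq_eq_true (SQ.allB_spec x_ord i hi)

theorem xsE_pow17 : xsE ^ 17 = 1 := by
  rw [← sig_xE, ← map_pow, xE_pow17, map_one]

theorem xE_ne_one : xE ≠ 1 := by
  intro h
  have := gN_xE 1063 (by decide)
  rw [h, map_one, SQ.gN_one, x_ne] at this
  exact absurd this (by decide)

instance : Fact (Nat.Prime 17) := ⟨by norm_num⟩

theorem orderOf_xE : orderOf xE = 17 := orderOf_eq_prime xE_pow17 xE_ne_one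

instance : Finite GHe := finHe

theorem fact17 : (Nat.card GHe).factorization 17 = 1 := by
  rw [cardHe, show 4030387200 = 17 * 237081600 from by norm_num]
  rw [Nat.factorization_mul (by norm_num) (by norm_num), Finsupp.add_apply,
    (show Nat.Prime 17 by norm_num).factorization_self,
    Nat.factorization_eq_zero_of_not_dvd (by norm_num)]

theorem gN_xE_pow (n : ℕ) (i : ℕ) (hi : i < 2058) : SQ.gN (φ (xE ^ n)) i = u7^[n] i :=
  (gN_pow_iter xE u7 gN_xE n i hi).1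

/-- `n` normalises `⟨x⟩` -/
theorem hxn : xE * nE = nE * xE ^ 2 := by
  apply eq_of_gN
  intro i hi
  have h1 : u16 i < 2058 := u_lt real_16 hi
  have h2 : u7^[2] i < 2058 := (gN_pow_iter xE u7 gN_xE 2 i hi).2
  rw [map_mul, map_mul, SQ.gN_mul, SQ.gN_mul, gN_nE i hi, gN_xE _ h1, gN_xE_pow 2 i hi,
    gN_nE _ h2]
  exact Nat.eq_of_beq_eq_true (SQ.allB_spec nu_ok i hi)

theorem hzt' (t : GHe) (ht : ∀ i, i < 2058 → SQ.gN (φ t) i = u17 i) : zE * t = t * zE := by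
  apply eq_of_gN
  intro i hi
  rw [map_mul, map_mul, SQ.gN_mul, SQ.gN_mul, ht i hi, gN_zE _ (u_lt real_17 hi),
    gN_zE i hi, ht _ (u_lt real_25 hi)]
  exact Nat.eq_of_beq_eq_true (SQ.allB_spec zt_comm i hi)

theorem hzt : zE * (nE * nE) = (nE * nE) * zE := hzt' (nE * nE) gN_tE

theorem hz2 : zE * zE = 1 := by
  apply eq_one_of_gN
  intro i hi
  rw [map_mul, SQ.gN_mul, gN_zE i hi, gN_zE _ (u_lt real_25 hi)]
  exact Nat.eq_of_beq_eq_true (SQ.allB_spec z_sq i hi)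

theorem gN_xz (i : ℕ) (hi : i < 2058) : SQ.gN (φ (xE * zE)) i = u7 (u25 i) := by
  rw [map_mul, SQ.gN_mul, gN_zE i hi, gN_xE _ (u_lt real_25 hi)]

theorem hz7 : (xE * zE) ^ 7 = 1 := by
  apply eq_one_of_gN
  intro i hi
  rw [(gN_pow_iter (xE * zE) (fun q => u7 (u25 q)) gN_xz 7 i hi).1]
  exact Nat.eq_of_beq_eq_true (SQ.allB_spec rel7 i hi)

/-! ### the diagram automorphism does not preserve the class of `x` -/

theorem not_conj : ¬ ∃ k : GHe, sig xE = k * xE * k⁻¹ := by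
  rintro ⟨k, hk⟩
  rw [sig_xE] at hk
  have hc : φ k * φ xE = φ xsE * φ k := by
    rw [← map_mul, ← map_mul, hk]
    congr 1
    group
  have h1 : u8 1 < 2058 := u_lt real_8 (by decide)
  have h2 : u8 2 < 2058 := u_lt real_8 (by decide)
  have h := SQ.transporter_test chainX u7 u8 (φ xE) (φ xsE) gN_xE gN_xsE 1063 (by decide) baseX
    (mem_K58 k) hc [1, u8 1, 2, u8 2] (by
      intro x hx
      simp only [List.mem_cons, List.not_mem_nil, or_false] at hx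
      rcases hx with rfl | rfl | rfl | rfl
      · decide
      · exact h1
      · decide
      · exact h2)
  have hp : passN (SQ.gN (φ k) 1063) = true := by
    unfold passN
    have e : LsX.length = 4 := rfl
    rw [e] at h
    rw [h.1]
    show (Nat.beq (SQ.gN (φ k)⁻¹ (u8 1)) (u7 (SQ.gN (φ k)⁻¹ 1)) &&
      Nat.beq (SQ.gN (φ k)⁻¹ (u8 2)) (u7 (SQ.gN (φ k)⁻¹ 2))) = true
    rw [h.2 1 (by decide), h.2 2 (by decide), Nat.beq_refl, Nat.beq_refl]
    rfl
  have := passN_all _ (SQ.gN_lt (φ k) (by decide : 1063 < 2058))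
  rw [hp] at this
  exact absurd this (by decide)

/-! ### every automorphism maps `x` into the class of `x` or of its image -/

theorem real_muF : SQ.Real K58 muF :=
  (real_12).comp ((real_13).comp ((real_15).comp ((real_13).comp ((real_12).comp ((real_14).comp ((real_9).comp ((real_13).comp ((real_11).comp ((real_14).comp ((real_9).comp ((real_2).comp ((real_6).comp (real_5)))))))))))))

theorem exists_n : ∃ n : GHe, n * xE * n⁻¹ = xE ^ 2 := by
  refine ⟨nE⁻¹, ?_⟩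
  calc nE⁻¹ * xE * nE⁻¹⁻¹ = nE⁻¹ * (xE * nE) := by group
    _ = nE⁻¹ * (nE * xE ^ 2) := by rw [hxn]
    _ = xE ^ 2 := by group

theorem exists_m : ∃ m : GHe, sig xE = m * xE ^ 7 * m⁻¹ := by
  obtain ⟨μ, ⟨m', rfl⟩, hμ⟩ := real_muF
  refine ⟨m'⁻¹, ?_⟩
  have e : xE * m' = m' * xsE ^ 5 := by
    apply eq_of_gN
    intro i hi
    have h1 : muF i < 2058 := by rw [← hμ i hi]; exact SQ.gN_lt _ hi
    have h2 : u8^[5] i < 2058 := (gN_pow_iter xsE u8 gN_xsE 5 i hi).2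
    rw [map_mul, map_mul, SQ.gN_mul, SQ.gN_mul, hμ i hi, gN_xE _ h1,
      (gN_pow_iter xsE u8 gN_xsE 5 i hi).1, hμ _ h2]
    exact Nat.eq_of_beq_eq_true (SQ.allB_spec mu_ok i hi)
  have e2 : xsE ^ 5 = m'⁻¹ * xE * m' := by
    calc xsE ^ 5 = m'⁻¹ * (m' * xsE ^ 5) := by group
      _ = m'⁻¹ * (xE * m') := by rw [e]
      _ = m'⁻¹ * xE * m' := by group
  have e3 : xsE = (xsE ^ 5) ^ 7 := by
    rw [← pow_mul, show 5 * 7 = 17 * 2 + 1 from rfl, pow_add, pow_mul, xsE_pow17, one_pow, one_mul,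
      pow_one]
  rw [sig_xE, e3, e2]
  have : m'⁻¹ * xE * m' = m'⁻¹ * xE * m'⁻¹⁻¹ := by group
  rw [this, conj_pow]

theorem arith17 : ∀ j, j < 17 → j ≠ 0 → ∃ i, j = 2 ^ i % 17 ∨ j = 7 * 2 ^ i % 17 := by
  intro j hj h0
  interval_cases j
  · exact absurd rfl h0
  · exact ⟨0, Or.inl rfl⟩
  · exact ⟨1, Or.inl rfl⟩
  · exact ⟨5, Or.inr rfl⟩
  · exact ⟨2, Or.inl rfl⟩
  · exact ⟨3, Or.inr rfl⟩
  · exact ⟨6, Or.inr rfl⟩
  · exact ⟨0, Or.inr rfl⟩
  · exact ⟨3, Or.inl rfl⟩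
  · exact ⟨7, Or.inl rfl⟩
  · exact ⟨4, Or.inr rfl⟩
  · exact ⟨2, Or.inr rfl⟩
  · exact ⟨7, Or.inr rfl⟩
  · exact ⟨6, Or.inl rfl⟩
  · exact ⟨1, Or.inr rfl⟩
  · exact ⟨5, Or.inl rfl⟩
  · exact ⟨4, Or.inl rfl⟩

theorem h1 (α : MulAut GHe) :
    (∃ k : GHe, α xE = k * xE * k⁻¹) ∨ (∃ k : GHe, α xE = k * sig xE * k⁻¹) :=
  OutG.class_dichotomy 17 fact17 xE orderOf_xE sig 2 7 exists_n exists_m arith17 α

end Cfsg.Agent.Lib.Helper8.HeO
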