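import Cfsg.Agent.Lib.Helper8.HeO8

set_option autoImplicit false
set_option maxRecDepth 100000

/-! The outer automorphism group of the presented Held group has order two. -/

namespace Cfsg.Agent.Lib.Helper8.HeO

open Cfsg.Spor Cfsg.Agent.Lib.Helper4.TC Cfsg.Agent.Lib.Helper4.TCD Cfsg.Agent.Lib.Helper4.TC.Log

/-! ### the centraliser of `x` -/

theorem mem_of_xorbB (p : ℕ) (h : xorbB p = true) : p ∈ SQ.iterL u7 17 1063 := by
  rw [xorb_eq]
  unfold xorbB at h
  simp only [Bool.or_eq_true, or_assoc] at h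
  have hb : ∀ a : ℕ, Nat.beq p a = true → p = a := fun a => Nat.eq_of_beq_eq_true
  rcases h with h | h | h | h | h | h | h | h | h | h | h | h | h | h | h | h | h
  all_goals (rw [hb _ h]; simp)

theorem centralizer_x (g : GHe) (hg : g * xE = xE * g) : ∃ i : ℕ, g = xE ^ i := by
  have hc : φ g * φ xE = φ xE * φ g := by rw [← map_mul, ← map_mul, hg]
  have h := SQ.transporter_test chainX u7 u7 (φ xE) (φ xE) gN_xE gN_xE 1063 (by decide) baseX
    (mem_K58 g) hc [] (by intro x hx; exact absurd hx List.not_mem_nil)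
  have hlt : SQ.gN (φ g) 1063 < 2058 := SQ.gN_lt _ (by decide)
  have hp : passC (SQ.gN (φ g) 1063) = true := by
    unfold passC
    have e : LsX.length = 4 := rfl
    rw [e] at h
    rw [h.1]
    rfl
  have h2 := passC_all _ hlt
  rw [hp] at h2
  have h3 : xorbB (SQ.gN (φ g) 1063) = true := by simpa using h2
  obtain ⟨j, hj⟩ := SQ.mem_iterL _ _ _ (mem_of_xorbB _ h3)
  refine ⟨j, ?_⟩
  apply φ_inj
  apply SQ.eq_of_commute chainX gN_xE (by decide : 1063 < 2058) baseX (mem_K58 g) (mem_K58 _) hc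
  · rw [← map_mul, ← map_mul]
    congr 1
    rw [← pow_succ, ← pow_succ']
  · rw [hj, gN_xE_pow j 1063 (by decide)]

/-! ### the centraliser of `n²` -/

theorem FQ_eq (g : GHe) (hg : g * (nE * nE) = (nE * nE) * g) (q : ℕ) (hq : q < 2058) :
    FQ (SQ.gN (φ g) 1063) q = SQ.gN (φ g⁻¹) q := by
  have hc : φ g * φ (nE * nE) = φ (nE * nE) * φ g := by rw [← map_mul, ← map_mul, hg]
  have h := SQ.transporter_test chainZ u17 u17 (φ (nE * nE)) (φ (nE * nE)) gN_tE gN_tE 1063
    (by decide) baseZ (mem_K58 g) hc [q] (by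
      intro x hx
      rw [List.mem_singleton] at hx
      rw [hx]; exact hq)
  unfold FQ
  have e : LsZ.length = 4 := rfl
  rw [e] at h
  rw [h.1, map_inv]
  rfl

theorem itQ_eq (g : GHe) (hg : g * (nE * nE) = (nE * nE) * g) (hg2 : g * g = 1) :
    ∀ (k q : ℕ), q < 2058 → itQ (SQ.gN (φ g) 1063) k q = SQ.gN (φ ((xE * g) ^ k)) q := by
  have hinv : g⁻¹ = g := inv_eq_of_mul_eq_one_right hg2
  intro k
  induction k with
  | zero =>
    intro q _
    rw [pow_zero, map_one, SQ.gN_one]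
    rfl
  | succ k ih =>
    intro q hq
    have h1 : SQ.gN (φ g) q < 2058 := SQ.gN_lt _ hq
    have e1 : u7 (FQ (SQ.gN (φ g) 1063) q) = SQ.gN (φ (xE * g)) q := by
      rw [FQ_eq g hg q hq, hinv, map_mul, SQ.gN_mul, gN_xE _ h1]
    have h2 : SQ.gN (φ (xE * g)) q < 2058 := SQ.gN_lt _ hq
    show itQ (SQ.gN (φ g) 1063) k (u7 (FQ (SQ.gN (φ g) 1063) q)) = _
    rw [e1, ih _ h2, pow_succ, map_mul φ ((xE * g) ^ k) (xE * g), SQ.gN_mul]

theorem centralizer_t_test (g : GHe) (hg : g * (nE * nE) = (nE * nE) * g) (hg2 : g * g = 1)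
    (h7 : (xE * g) ^ 7 = 1) : g = zE := by
  have hc : φ g * φ (nE * nE) = φ (nE * nE) * φ g := by rw [← map_mul, ← map_mul, hg]
  have hlt : SQ.gN (φ g) 1063 < 2058 := SQ.gN_lt _ (by decide)
  have h := SQ.transporter_test chainZ u17 u17 (φ (nE * nE)) (φ (nE * nE)) gN_tE gN_tE 1063
    (by decide) baseZ (mem_K58 g) hc [] (by intro x hx; exact absurd hx List.not_mem_nil)
  have hp : testQ (SQ.gN (φ g) 1063) = true := by
    unfold testQ
    have e : LsZ.length = 4 := rfl
    rw [e] at h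
    rw [h.1, itQ_eq g hg hg2 7 1 (by decide), h7, map_one, SQ.gN_one]
    rfl
  have h2 := testQ_all _ hlt
  rw [hp] at h2
  have h3 : SQ.gN (φ g) 1063 = 546 := by
    have : Nat.beq (SQ.gN (φ g) 1063) 546 = true := by simpa using h2
    exact Nat.eq_of_beq_eq_true this
  apply φ_inj
  apply SQ.eq_of_commute chainZ gN_tE (by decide : 1063 < 2058) baseZ (mem_K58 g) (mem_K58 _) hc
  · rw [← map_mul, ← map_mul, hzt]
  · rw [h3, gN_zE 1063 (by decide)]
    exact z_b0.symm

/-! ### generation -/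

theorem wordP_single (l : ℕ) : wordP PHe.P.gR [l] = PHe.P.gR l := by
  rw [wordP_cons, wordP_nil, mul_one]

theorem gen_top : Subgroup.closure ({xE, nE, zE} : Set GHe) = ⊤ := by
  set H' : Subgroup GHe := Subgroup.closure ({xE, nE, zE} : Set GHe) with hH'
  have hx : SQ.Real (H'.map φ) u7 :=
    ⟨φ xE, Subgroup.mem_map_of_mem φ (Subgroup.subset_closure (by simp)), gN_xE⟩
  have hn : SQ.Real (H'.map φ) u16 :=
    ⟨φ nE, Subgroup.mem_map_of_mem φ (Subgroup.subset_closure (by simp)), gN_nE⟩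
  have hz : SQ.Real (H'.map φ) u25 :=
    ⟨φ zE, Subgroup.mem_map_of_mem φ (Subgroup.subset_closure (by simp)), gN_zE⟩
  have key : ∀ l, l < 7 → PHe.P.gR l ∈ H' := by
    intro l hl
    have hr : SQ.Real (H'.map φ) (ub l) := by
      interval_cases l
      · exact real2_g0 _ hx hn hz
      · exact real2_g1 _ hx hn hz
      · exact real2_g2 _ hx hn hz
      · exact real2_g3 _ hx hn hz
      · exact real2_g4 _ hx hn hz
      · exact real2_g5 _ hx hn hz
      · exact real2_g6 _ hx hn hz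
    obtain ⟨p, ⟨h, hh, rfl⟩, hp⟩ := hr
    have e : h = PHe.P.gR l := by
      apply eq_of_gN
      intro i hi
      rw [hp i hi, ← wordP_single l,
        gN_word [l] (by intro y hy; rw [List.mem_singleton] at hy; omega) i hi]
      rfl
    rw [← e]
    exact hh
  rw [eq_top_iff, ← PHe.valid.gen_top, Subgroup.closure_le]
  rintro _ ⟨l, hl, rfl⟩
  exact key l hl

/-! ### the outer automorphism group -/

theorem h2 (α : MulAut GHe) (hα : α xE = xE) : ∃ i : ℕ, α = MulAut.conj (xE ^ i) :=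
  OutG.fix_inner xE nE zE centralizer_x hxn centralizer_t_test hzt hz2 hz7 gen_top α hα

theorem card_out_He : Nat.card (Cfsg.Out GHe) = 2 :=
  OutG.card_out_two_of_swap' xE sig h1 h2 not_conj

end Cfsg.Agent.Lib.Helper8.HeO
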