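import Mathlib
import Cfsg.Prelude.Def_ClassicalGeometry
import Cfsg.Agent.Lib.Helper5.SympTv

/-! A concrete field with four elements, 4-vectors and 4x4 matrices over it, and the action of the
symplectic group `Sp(4,4)` on the 85 points of the projective space (points indexed by `Fin 85`). -/

set_option autoImplicit false

namespace Cfsg.Agent.Lib.Helper8.HeSp

open Matrix

/-- the field with four elements: `0, 1, ω, ω²` -/
inductive K4 : Type
  | n0 | n1 | n2 | n3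
  deriving DecidableEq

namespace K4

instance instFintypeK4 : Fintype K4 where
  elems := {n0, n1, n2, n3}
  complete := by intro x; cases x <;> decide

def add : K4 → K4 → K4
  | n0, x => x
  | n1, n0 => n1 | n1, n1 => n0 | n1, n2 => n3 | n1, n3 => n2
  | n2, n0 => n2 | n2, n1 => n3 | n2, n2 => n0 | n2, n3 => n1
  | n3, n0 => n3 | n3, n1 => n2 | n3, n2 => n1 | n3, n3 => n0

def mul : K4 → K4 → K4
  | n0, _ => n0
  | n1, x => x
  | n2, n0 => n0 | n2, n1 => n2 | n2, n2 => n3 | n2, n3 => n1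
  | n3, n0 => n0 | n3, n1 => n3 | n3, n2 => n1 | n3, n3 => n2

def inv : K4 → K4
  | n0 => n0 | n1 => n1 | n2 => n3 | n3 => n2

instance : Zero K4 := ⟨n0⟩
instance : One K4 := ⟨n1⟩
instance : Add K4 := ⟨add⟩
instance : Mul K4 := ⟨mul⟩
instance : Neg K4 := ⟨id⟩
instance : Inv K4 := ⟨inv⟩

instance instCommRingK4 : CommRing K4 where
  add_assoc := by decide
  zero_add := by decide
  add_zero := by decide
  nsmul := nsmulRec
  zsmul := zsmulRec
  neg_add_cancel := by decide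
  add_comm := by decide
  left_distrib := by decide
  right_distrib := by decide
  zero_mul := by decide
  mul_zero := by decide
  mul_assoc := by decide
  one_mul := by decide
  mul_one := by decide
  mul_comm := by decide

instance instFieldK4 : Field K4 where
  exists_pair_ne := ⟨n0, n1, by decide⟩
  mul_inv_cancel := by decide
  inv_zero := rfl
  nnqsmul := _
  qsmul := _

theorem card_eq : Fintype.card K4 = 4 := rfl

theorem neg_eq (x : K4) : -x = x := rfl

theorem zero_def : (0 : K4) = n0 := rfl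
theorem one_def : (1 : K4) = n1 := rfl

theorem sq_sq (c : K4) : (c * c) * (c * c) = c := by revert c; decide

theorem eq_one_of_mul_self (c : K4) (h : c * c = 1) : c = 1 := by revert c; decide

def dec (n : ℕ) : K4 :=
  match n % 4 with
  | 0 => n0
  | 1 => n1
  | 2 => n2
  | _ => n3

def enc : K4 → ℕ
  | n0 => 0 | n1 => 1 | n2 => 2 | n3 => 3

end K4

/-- vectors with four coordinates -/
structure V4 where
  a : K4
  b : K4
  c : K4
  d : K4
  deriving DecidableEq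

namespace V4

def zero : V4 := ⟨0, 0, 0, 0⟩
def add (s t : V4) : V4 := ⟨s.a + t.a, s.b + t.b, s.c + t.c, s.d + t.d⟩
def smul (l : K4) (t : V4) : V4 := ⟨l * t.a, l * t.b, l * t.c, l * t.d⟩
def dot (s t : V4) : K4 := s.a * t.a + s.b * t.b + s.c * t.c + s.d * t.d
def form (s t : V4) : K4 := s.a * t.c + s.b * t.d + s.c * t.a + s.d * t.b

def toV (t : V4) : Fin 2 ⊕ Fin 2 → K4 := Sum.elim ![t.a, t.b] ![t.c, t.d]
def ofV (x : Fin 2 ⊕ Fin 2 → K4) : V4 := ⟨x (Sum.inl 0), x (Sum.inl 1), x (Sum.inr 0), x (Sum.inr 1)⟩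

theorem ofV_toV (t : V4) : ofV t.toV = t := rfl

theorem toV_ofV (x : Fin 2 ⊕ Fin 2 → K4) : (ofV x).toV = x := by
  ext i
  rcases i with i | i <;> fin_cases i <;> rfl

theorem toV_injective : Function.Injective toV := fun s t h => by
  rw [← ofV_toV s, ← ofV_toV t, h]

theorem toV_zero : zero.toV = 0 := by
  ext i
  rcases i with i | i <;> fin_cases i <;> rfl

theorem toV_add (s t : V4) : (add s t).toV = s.toV + t.toV := by
  ext i
  rcases i with i | i <;> fin_cases i <;> rfl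

theorem toV_smul (l : K4) (t : V4) : (smul l t).toV = l • t.toV := by
  ext i
  rcases i with i | i <;> fin_cases i <;> rfl

theorem ofV_smul (l : K4) (x : Fin 2 ⊕ Fin 2 → K4) : ofV (l • x) = smul l (ofV x) := rfl

theorem ofV_zero : ofV 0 = zero := rfl

theorem ofV_eq_zero_iff (x : Fin 2 ⊕ Fin 2 → K4) : ofV x = zero ↔ x = 0 := by
  constructor
  · intro h
    rw [← toV_ofV x, h, toV_zero]
  · rintro rfl
    rfl

theorem form_toV (s t : V4) : Cfsg.sympForm 2 K4 s.toV t.toV = form s t := by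
  unfold Cfsg.sympForm
  simp [Matrix.J, dotProduct, Matrix.mulVec, Fintype.sum_sum_type, Fin.sum_univ_two, toV, form,
    K4.neg_eq]
  ring

def code (t : V4) : ℕ := t.a.enc + 4 * t.b.enc + 16 * t.c.enc + 64 * t.d.enc

def ofCode (n : ℕ) : V4 := ⟨K4.dec n, K4.dec (n / 4), K4.dec (n / 16), K4.dec (n / 64)⟩

theorem ofCode_code : ∀ a b c d : K4, ofCode (code ⟨a, b, c, d⟩) = ⟨a, b, c, d⟩ := by decide

theorem code_pos : ∀ a b c d : K4, (⟨a, b, c, d⟩ : V4) ≠ zero → 1 ≤ code ⟨a, b, c, d⟩ := by decide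

theorem code_lt : ∀ a b c d : K4, code ⟨a, b, c, d⟩ < 256 := by decide

end V4

/-- 4x4 matrices, by rows -/
structure M4 where
  r0 : V4
  r1 : V4
  r2 : V4
  r3 : V4

namespace M4

def mv (M : M4) (t : V4) : V4 := ⟨M.r0.dot t, M.r1.dot t, M.r2.dot t, M.r3.dot t⟩

def toM (M : M4) : Matrix (Fin 2 ⊕ Fin 2) (Fin 2 ⊕ Fin 2) K4 :=
  Matrix.of (Sum.elim ![M.r0.toV, M.r1.toV] ![M.r2.toV, M.r3.toV])

theorem toM_mulVec (M : M4) (t : V4) : M.toM *ᵥ t.toV = (M.mv t).toV := by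
  ext i
  rcases i with i | i <;> fin_cases i <;>
    simp [toM, Matrix.mulVec, dotProduct, Fintype.sum_sum_type, Fin.sum_univ_two, V4.toV, mv, V4.dot] <;>
    ring

end M4

/-- the standard basis -/
def E : Fin 2 ⊕ Fin 2 → V4 := Sum.elim ![⟨1, 0, 0, 0⟩, ⟨0, 1, 0, 0⟩] ![⟨0, 0, 1, 0⟩, ⟨0, 0, 0, 1⟩]

theorem toV_E (i : Fin 2 ⊕ Fin 2) : (E i).toV = Pi.single i 1 := by
  ext j
  rcases i with i | i <;> fin_cases i <;> rcases j with j | j <;> fin_cases j <;> rfl

/-- the matrix preserves the symplectic form (checked on the basis) -/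
def M4.isSp (M : M4) : Prop :=
  ∀ i j : Fin 2 ⊕ Fin 2, V4.form (M.mv (E i)) (M.mv (E j)) = V4.form (E i) (E j)

instance (M : M4) : Decidable M.isSp := by unfold M4.isSp; infer_instance

theorem M4.toM_mem (M : M4) (h : M.isSp) : M.toM ∈ Matrix.symplecticGroup (Fin 2) K4 := by
  rw [SymplecticGroup.mem_iff']
  ext i j
  have := h i j
  rw [← V4.form_toV, ← V4.form_toV, ← M4.toM_mulVec, ← M4.toM_mulVec, toV_E, toV_E] at this
  unfold Cfsg.sympForm at this
  rw [← vecMul_transpose M.toM, ← dotProduct_mulVec, mulVec_mulVec, mulVec_mulVec,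
    mulVec_single_one, mulVec_single_one, single_dotProduct, single_dotProduct, one_mul, one_mul]
    at this
  exact this

/-- the symplectic group `Sp(4,4)` -/
abbrev Sp : Type := ↥(Matrix.symplecticGroup (Fin 2) K4)

/-! ### the 85 points -/

def WL : List ℕ := [64, 16, 80, 144, 208, 4, 68, 132, 196, 20, 84, 148, 212, 36, 100, 164, 228, 52, 116, 180, 244, 1, 65, 129, 193, 17, 81, 145, 209, 33, 97, 161, 225, 49, 113, 177, 241, 5, 69, 133, 197, 21, 85, 149, 213, 37, 101, 165, 229, 53, 117, 181, 245, 9, 73, 137, 201, 25, 89, 153, 217, 41, 105, 169, 233, 57, 121, 185, 249, 13, 77, 141, 205, 29, 93, 157, 221, 45, 109, 173, 237, 61, 125, 189, 253]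

def IL : List ℕ := [0, 21, 21, 21, 5, 37, 69, 53, 5, 53, 37, 69, 5, 69, 53, 37, 1, 25, 33, 29, 9, 41, 81, 61, 17, 57, 49, 77, 13, 73, 65, 45, 1, 29, 25, 33, 13, 45, 73, 65, 9, 61, 41, 81, 17, 77, 57, 49, 1, 33, 29, 25, 17, 49, 77, 57, 13, 65, 45, 73, 9, 81, 61, 41, 0, 22, 24, 23, 6, 38, 72, 55, 8, 54, 40, 71, 7, 70, 56, 39, 2, 26, 36, 31, 10, 42, 84, 63, 20, 58, 52, 79, 15, 74, 68, 47, 4, 30, 28, 35, 14, 46, 76, 67, 12, 62, 44, 83, 19, 78, 60, 51, 3, 34, 32, 27, 18, 50, 80, 59, 16, 66, 48, 75, 11, 82, 64, 43, 0, 23, 22, 24, 7, 39, 70, 56, 6, 55, 38, 72, 8, 71, 54, 40, 3, 27, 34, 32, 11, 43, 82, 64, 18, 59, 50, 80, 16, 75, 66, 48, 2, 31, 26, 36, 15, 47, 74, 68, 10, 63, 42, 84, 20, 79, 58, 52, 4, 35, 30, 28, 19, 51, 78, 60, 14, 67, 46, 76, 12, 83, 62, 44, 0, 24, 23, 22, 8, 40, 71, 54, 7, 56, 39, 70, 6, 72, 55, 38, 4, 28, 35, 30, 12, 44, 83, 62, 19, 60, 51, 78, 14, 76, 67, 46, 3, 32, 27, 34, 16, 48, 75, 66, 11, 64, 43, 82,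 18, 80, 59, 50, 2, 36, 31, 26, 20, 52, 79, 58, 15, 68, 47, 74, 10, 84, 63, 42]

/-- the normalised vector of the `j`-th point -/
def W4 (j : Fin 85) : V4 := V4.ofCode (WL.getD j.1 0)

/-- the index of the point spanned by a vector -/
def idx4 (t : V4) : Fin 85 := ⟨IL.getD t.code 0 % 85, Nat.mod_lt _ (by decide)⟩

theorem idx4_W4 : ∀ j : Fin 85, idx4 (W4 j) = j := by decide

theorem W4_ne_zero : ∀ j : Fin 85, W4 j ≠ V4.zero := by decide

theorem W4_idx4 : ∀ a b c d : K4, (⟨a, b, c, d⟩ : V4) ≠ V4.zero →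
    ∃ l : K4, l ≠ 0 ∧ W4 (idx4 ⟨a, b, c, d⟩) = V4.smul l ⟨a, b, c, d⟩ := by decide

theorem idx4_smul : ∀ l a b c d : K4, l ≠ 0 →
    idx4 (V4.smul l ⟨a, b, c, d⟩) = idx4 ⟨a, b, c, d⟩ := by decide

theorem W4_idx4' (t : V4) (ht : t ≠ V4.zero) : ∃ l : K4, l ≠ 0 ∧ W4 (idx4 t) = V4.smul l t := by
  obtain ⟨a, b, c, d⟩ := t
  exact W4_idx4 a b c d ht

theorem idx4_smul' (l : K4) (t : V4) (hl : l ≠ 0) : idx4 (V4.smul l t) = idx4 t := by
  obtain ⟨a, b, c, d⟩ := t
  exact idx4_smul l a b c d hl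

end Cfsg.Agent.Lib.Helper8.HeSp
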