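import Cfsg.Agent.Lib.Helper8.HeSpP
import Cfsg.Agent.Lib.Helper5.SympGen

/-! Seven explicit matrices generate `Sp(4,4)`. -/

set_option autoImplicit false

namespace Cfsg.Agent.Lib.Helper8.HeSp

open Matrix Cfsg.Agent.Lib.Helper5.SympTv

def g0 : M4 := ⟨⟨.n1, .n0, .n0, .n0⟩, ⟨.n0, .n1, .n0, .n0⟩, ⟨.n0, .n1, .n1, .n0⟩, ⟨.n1, .n0, .n0, .n1⟩⟩
def g1 : M4 := ⟨⟨.n1, .n1, .n0, .n0⟩, ⟨.n0, .n1, .n0, .n0⟩, ⟨.n0, .n0, .n1, .n0⟩, ⟨.n0, .n0, .n1, .n1⟩⟩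
def g2 : M4 := ⟨⟨.n0, .n2, .n0, .n0⟩, ⟨.n3, .n0, .n0, .n0⟩, ⟨.n3, .n0, .n0, .n3⟩, ⟨.n0, .n2, .n2, .n0⟩⟩
def g3 : M4 := ⟨⟨.n1, .n2, .n0, .n0⟩, ⟨.n0, .n1, .n0, .n0⟩, ⟨.n0, .n1, .n1, .n0⟩, ⟨.n1, .n2, .n2, .n1⟩⟩
def g4 : M4 := ⟨⟨.n1, .n2, .n0, .n0⟩, ⟨.n0, .n1, .n0, .n0⟩, ⟨.n0, .n0, .n1, .n0⟩, ⟨.n0, .n2, .n2, .n1⟩⟩
def g5 : M4 := ⟨⟨.n1, .n0, .n0, .n1⟩, ⟨.n0, .n1, .n1, .n0⟩, ⟨.n0, .n1, .n0, .n0⟩, ⟨.n1, .n0, .n0, .n0⟩⟩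
def g6 : M4 := ⟨⟨.n1, .n3, .n0, .n0⟩, ⟨.n0, .n1, .n0, .n0⟩, ⟨.n0, .n0, .n1, .n0⟩, ⟨.n0, .n0, .n3, .n1⟩⟩

def gl : List M4 := [g0, g1, g2, g3, g4, g5, g6]

def gM (i : ℕ) : M4 := gl.getD i g0

theorem gM_sp : ∀ i : Fin 7, (gM i.1).isSp := by decide

/-- the seven generators as elements of the symplectic group -/
noncomputable def spOf (i : Fin 7) : Sp := ⟨(gM i.1).toM, (gM i.1).toM_mem (gM_sp i)⟩

theorem spOf_mulVec (i : Fin 7) (t : V4) : (spOf i).1 *ᵥ t.toV = ((gM i.1).mv t).toV :=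
  M4.toM_mulVec _ _

/-- the subgroup generated by the seven matrices -/
noncomputable def XS : Subgroup Sp := Subgroup.closure (Set.range spOf)

theorem spOf_mem (i : Fin 7) : spOf i ∈ XS := Subgroup.subset_closure ⟨i, rfl⟩

/-- the transvection `x ↦ x + f(x,t) t` -/
noncomputable def tv (t : V4) : Sp := ⟨Cfsg.sympTransvection 2 t.toV 1, sympTransvection_mem 2 t.toV 1⟩

def tvV (t x : V4) : V4 := V4.add x (V4.smul (V4.form x t) t)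

theorem tv_mulVec (t x : V4) : (tv t).1 *ᵥ x.toV = (tvV t x).toV := by
  show Cfsg.sympTransvection 2 t.toV 1 *ᵥ x.toV = _
  rw [sympTransvection_mulVec, one_mul, V4.form_toV, tvV, V4.toV_add, V4.toV_smul]

theorem tv_conj (A : Sp) (t : V4) : A * tv t * A⁻¹ = tv (V4.ofV (A.1 *ᵥ t.toV)) := by
  rw [mul_inv_eq_iff_eq_mul]
  apply Subtype.ext
  rw [Submonoid.coe_mul, Submonoid.coe_mul]
  show A.1 * Cfsg.sympTransvection 2 t.toV 1 =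
    Cfsg.sympTransvection 2 (V4.ofV (A.1 *ᵥ t.toV)).toV 1 * A.1
  rw [V4.toV_ofV, Matrix.ext_iff_mulVec]
  intro x
  rw [← mulVec_mulVec, ← mulVec_mulVec, sympTransvection_mulVec, sympTransvection_mulVec,
    mulVec_add, mulVec_smul, sympForm_mulVec 2 A.2]

theorem tv_step (i : Fin 7) (t : V4) (h : tv t ∈ XS) : tv ((gM i.1).mv t) ∈ XS := by
  have h1 := tv_conj (spOf i) t
  rw [spOf_mulVec, V4.ofV_toV] at h1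
  rw [← h1]
  exact XS.mul_mem (XS.mul_mem (spOf_mem i) h) (XS.inv_mem (spOf_mem i))

def v0 : V4 := ⟨.n0, .n0, .n0, .n3⟩

theorem tv_root_aux : ∀ i : Fin 2 ⊕ Fin 2, tvV v0 (E i) = g0.mv (g3.mv (g4.mv (E i))) := by decide

theorem tv_root : tv v0 ∈ XS := by
  have h : tv v0 = spOf 0 * spOf 3 * spOf 4 := by
    apply Subtype.ext
    rw [Submonoid.coe_mul, Submonoid.coe_mul]
    apply Matrix.ext_of_mulVec_single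
    intro i
    rw [← toV_E, tv_mulVec, ← mulVec_mulVec, ← mulVec_mulVec, spOf_mulVec, spOf_mulVec, spOf_mulVec,
      tv_root_aux]
    rfl
  rw [h]
  exact XS.mul_mem (XS.mul_mem (spOf_mem 0) (spOf_mem 3)) (spOf_mem 4)

def parL : List ℕ := [0, 60, 128, 192, 7, 80, 144, 208, 32, 8, 160, 224, 48, 15, 255, 240, 208, 209, 148, 212, 215, 214, 213, 212, 91, 216, 87, 244, 221, 223, 213, 228, 192, 161, 212, 232, 102, 164, 101, 106, 3, 171, 23, 40, 24, 174, 108, 169, 240, 177, 242, 252, 246, 247, 247, 180, 187, 191, 156, 186, 255, 60, 253, 189, 48, 12, 36, 24, 214, 70, 166, 154, 171, 75, 225, 219, 78, 12, 15, 14, 208, 209, 213, 152, 70, 7, 38, 85, 26, 53, 155, 248, 101, 30, 47, 217, 32, 161, 228, 169, 39, 78, 180, 37, 75, 40, 43, 27, 177, 47, 217, 30, 240, 61, 100, 88, 247, 45, 180, 101, 186, 248, 167, 248, 254,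 255, 189, 253, 16, 44, 4, 56, 6, 7, 133, 5, 75, 226, 34, 251, 253, 109, 141, 121, 208, 172, 132, 184, 150, 151, 215, 58, 89, 186, 54, 216, 223, 92, 92, 174, 32, 236, 226, 227, 82, 230, 39, 229, 171, 170, 40, 59, 47, 92, 133, 185, 240, 254, 242, 120, 174, 39, 53, 117, 57, 58, 135, 216, 141, 45, 15, 190, 192, 28, 52, 3, 70, 71, 182, 198, 11, 10, 203, 8, 141, 93, 117, 205, 160, 156, 87, 19, 214, 215, 54, 10, 247, 154, 57, 26, 30, 167, 31, 201, 32, 220, 244, 43, 101, 247, 164, 164, 235, 31, 55, 8, 174, 155, 223, 108, 96, 177, 116, 179, 54, 118, 111, 202, 223, 26, 123, 57, 253, 29, 255, 9]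
def genL : List ℕ := [0, 2, 5, 5, 6, 5, 5, 5, 5, 6, 5, 5, 5, 6, 3, 5, 6, 3, 2, 5, 6, 6, 6, 6, 4, 6, 2, 5, 4, 6, 2, 5, 2, 1, 2, 2, 4, 1, 6, 2, 2, 1, 2, 4, 5, 1, 6, 2, 1, 6, 1, 5, 4, 4, 1, 6, 4, 2, 5, 6, 1, 4, 1, 6, 2, 2, 2, 2, 3, 6, 2, 2, 3, 1, 5, 2, 6, 4, 4, 4, 3, 4, 5, 2, 3, 3, 2, 4, 1, 5, 6, 3, 5, 1, 3, 2, 6, 4, 2, 5, 6, 2, 3, 4, 3, 6, 6, 2, 2, 6, 5, 3, 6, 5, 2, 2, 6, 5, 4, 3, 1, 6, 2, 4, 6, 6, 1, 6, 2, 2, 2, 2, 4, 4, 6, 4, 4, 5, 5, 2, 3, 2, 1, 2, 1, 2, 2, 2, 4, 4, 1, 2, 6, 3, 5, 4, 1, 4, 6, 3, 1, 2, 3, 6, 2, 6, 1, 4, 4, 4, 1, 2, 1, 3, 2, 2, 3, 5, 4, 2, 5, 3, 6, 4, 6, 4, 2, 3, 3, 2, 3, 4, 0, 2, 2, 0, 4, 4, 2, 1, 4, 4, 6, 4, 4, 2, 2, 6, 2, 2, 5, 0, 4, 4, 2, 2, 5, 4, 3, 6, 6, 5, 4, 2, 3, 2, 2, 5, 1, 3, 4, 6, 4, 2, 2, 3, 6, 5, 3, 1, 2, 0, 2, 4, 4, 6, 5, 2, 5, 3, 6, 1, 4, 2, 4, 2]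
def rkL : List ℕ := [0, 6, 6, 1, 5, 5, 5, 4, 2, 3, 3, 3, 5, 5, 5, 4, 4, 8, 7, 9, 5, 8, 6, 9, 8, 7, 7, 8, 9, 6, 6, 8, 1, 9, 9, 5, 9, 8, 7, 5, 2, 10, 10, 3, 9, 7, 8, 5, 4, 7, 8, 9, 9, 6, 6, 8, 8, 7, 7, 8, 5, 6, 8, 9, 5, 6, 10, 9, 8, 8, 7, 8, 10, 10, 9, 9, 6, 6, 5, 6, 4, 8, 6, 9, 8, 5, 8, 6, 8, 7, 8, 7, 7, 7, 6, 9, 2, 9, 8, 5, 6, 6, 8, 9, 10, 3, 4, 9, 7, 6, 9, 7, 4, 7, 7, 9, 6, 8, 8, 7, 8, 7, 8, 7, 6, 5, 9, 8, 5, 10, 6, 9, 6, 5, 6, 6, 10, 9, 10, 9, 8, 7, 8, 8, 4, 7, 7, 9, 6, 9, 5, 8, 8, 8, 7, 7, 6, 8, 8, 7, 2, 8, 9, 5, 7, 9, 6, 7, 10, 4, 3, 9, 6, 8, 6, 9, 4, 6, 8, 9, 7, 6, 7, 9, 8, 8, 7, 7, 8, 8, 5, 6, 0, 10, 10, 2, 8, 9, 8, 9, 4, 4, 4, 3, 8, 8, 9, 9, 3, 7, 7, 10, 8, 5, 7, 4, 6, 8, 8, 8, 7, 8, 9, 5, 2, 8, 8, 4, 7, 6, 8, 8, 4, 9, 9, 3, 7, 8, 6, 8, 3, 7, 7, 10, 7, 9, 8, 5, 6, 8, 8, 8, 8, 7, 5, 4]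
def parT (c : ℕ) : ℕ := parL.getD c 0
def genT (c : ℕ) : ℕ := genL.getD c 0
def rkT (c : ℕ) : ℕ := rkL.getD c 0
def rootC : ℕ := 192

theorem rootC_eq : V4.ofCode rootC = v0 := by decide

theorem tree_ok : ∀ c : Fin 256, c.1 ≠ 0 → c.1 ≠ rootC →
    (1 ≤ parT c.1 ∧ parT c.1 < 256 ∧ rkT (parT c.1) < rkT c.1 ∧ genT c.1 < 7 ∧
      V4.ofCode c.1 = (gM (genT c.1)).mv (V4.ofCode (parT c.1))) := by decide +kernel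

theorem tv_code_mem (c : ℕ) (h1 : 1 ≤ c) (h2 : c < 256) : tv (V4.ofCode c) ∈ XS := by
  induction' hn : rkT c using Nat.strong_induction_on with n ih generalizing c
  by_cases hr : c = rootC
  · rw [hr, rootC_eq]
    exact tv_root
  · obtain ⟨p1, p2, p3, p4, p5⟩ := tree_ok ⟨c, h2⟩ (by show c ≠ 0; omega) hr
    rw [p5]
    exact tv_step ⟨genT c, p4⟩ _ (ih (rkT (parT c)) (by rw [← hn]; exact p3) (parT c) p1 p2 rfl)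

theorem tv_mem (t : V4) (ht : t ≠ V4.zero) : tv t ∈ XS := by
  obtain ⟨a, b, c, d⟩ := t
  have := tv_code_mem _ (V4.code_pos a b c d ht) (V4.code_lt a b c d)
  rwa [V4.ofCode_code] at this

theorem tv_scale (w : Fin 2 ⊕ Fin 2 → K4) (l : K4) :
    Cfsg.sympTransvection 2 (l • w) 1 = Cfsg.sympTransvection 2 w (l * l) := by
  unfold Cfsg.sympTransvection
  rw [mulVec_smul, vecMulVec_smul, smul_vecMulVec]
  simp only [one_mul, smul_smul]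

theorem XS_eq_top : XS = ⊤ := by
  rw [eq_top_iff, ← Cfsg.Agent.Lib.Helper5.SympGen.closure_tvSet_eq_top 2 (F := K4)]
  apply (Subgroup.closure_le XS).2
  rintro A ⟨w, c, hA⟩
  by_cases hw : w = 0
  · have : A = 1 := by
      apply Subtype.ext
      rw [hA, hw]
      simp [Cfsg.sympTransvection]
    rw [this]
    exact XS.one_mem
  · by_cases hc : c = 0
    · have : A = 1 := by
        apply Subtype.ext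
        rw [hA, hc]
        simp [Cfsg.sympTransvection]
      rw [this]
      exact XS.one_mem
    · have hl : c * c ≠ 0 := mul_ne_zero hc hc
      have ht : V4.ofV ((c * c) • w) ≠ V4.zero := by
        rw [Ne, V4.ofV_eq_zero_iff]
        exact smul_ne_zero hl hw
      have hAt : A = tv (V4.ofV ((c * c) • w)) := by
        apply Subtype.ext
        show (A : Matrix _ _ K4) = Cfsg.sympTransvection 2 (V4.ofV ((c * c) • w)).toV 1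
        rw [hA, V4.toV_ofV, tv_scale, K4.sq_sq]
      rw [hAt]
      exact tv_mem _ ht

theorem closure_spOf : Subgroup.closure (Set.range spOf) = ⊤ := XS_eq_top

end Cfsg.Agent.Lib.Helper8.HeSp
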