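import Cfsg.Agent.Lib.Helper8.HeSpC
import Cfsg.Agent.Lib.Helper8.HeSpD
import Cfsg.Agent.Lib.Helper5.SympCard
import Cfsg.Agent.Lib.Helper5.SympPerfect

/-! The point stabiliser of the presented Held group (of index 2058) has a subgroup of index two
isomorphic to `Sp(4,4)`. -/

set_option autoImplicit false

namespace Cfsg.Agent.Lib.Helper8.HeSp

open Cfsg.Agent.Lib.Helper4.TC Cfsg.Agent.Lib.Helper4.TCD Cfsg.Agent.Lib.Helper4.TC.Log

/-- the point stabiliser -/
abbrev UHe : Subgroup PHe.P.Grp := Inst.subG PHe.P He1.subs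

/-- the label of a natural number -/
def cN (n : ℕ) : Option (Fin 85) := if h : cT n < 85 then some ⟨cT n, h⟩ else none

/-- the block of a point -/
def cB (x : Fin He1.T.N) : Option (Fin 85) := cN x.1

theorem cB_surj : ∀ y : Fin 85, ∃ x, cB x = some y := by
  intro y
  obtain ⟨h1, h2⟩ := c_sec y
  refine ⟨⟨secT y.1, h1⟩, ?_⟩
  show cN (secT y.1) = some y
  unfold cN
  rw [dif_pos (by rw [h2]; exact y.2)]
  congr 1
  exact Fin.ext h2

theorem cN_resp (k : Fin 7) (i : ℕ) (hi : i < 2058) :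
    cN (Tab.act He1.T He1.D (subsW k.1) i) = (cN i).map (pi k) := by
  unfold cN
  rw [c_resp k i hi]
  by_cases h : cT i < 85
  · have h' : pT k.1 (cT i) < 85 := (p_ok k ⟨cT i, h⟩).1
    rw [dif_pos h, dif_pos h', Option.map_some]
    rfl
  · have h85 : cT i = 85 := by
      have := cT_le i hi
      omega
    rw [dif_neg h, Option.map_none, h85, p_85 k, dif_neg (by decide)]

theorem phi_subsW (k : Fin 7) (x : Fin He1.T.N) :
    (He1.inst.phi (wordP PHe.P.gR (subsW k.1)) x).1 = Tab.act He1.T He1.D (subsW k.1) x.1 := by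
  rw [← He1.inst.gE_word _ (fun y hy => He1.inst.hsubs _ (subsW_mem k) y hy)]
  exact He1.inst.hC.phi_word He1.inst.phi He1.inst.hphi _
    (fun y hy => by rw [He1.inst.hk]; exact He1.inst.hsubs _ (subsW_mem k) y hy) x

theorem resp (k : Fin 7) (x : Fin He1.T.N) :
    cB (He1.inst.phi (wordP PHe.P.gR (subsW k.1)) x) = (cB x).map (pi k) := by
  show cN (He1.inst.phi (wordP PHe.P.gR (subsW k.1)) x).1 = (cN x.1).map (pi k)
  rw [phi_subsW]
  exact cN_resp k x.1 x.2

theorem hmem (u : UHe) : He1.inst.phi u.1 ∈ blockSubgroup cB := by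
  have h : UHe ≤ (blockSubgroup cB).comap He1.inst.phi := by
    unfold UHe Inst.subG
    rw [Subgroup.closure_le]
    rintro s ⟨u, hu, rfl⟩
    obtain ⟨k, rfl⟩ := subs_cover u hu
    exact ⟨pi k, resp k⟩
  exact h u.2

/-- the action of the stabiliser on the 85 blocks -/
noncomputable def tau : UHe →* Equiv.Perm (Fin 85) :=
  (blockHom cB cB_surj).comp
    ((He1.inst.phi.comp UHe.subtype).codRestrict (blockSubgroup cB) hmem)

/-- the generators of the stabiliser -/
noncomputable def uE (k : Fin 7) : UHe :=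
  ⟨wordP PHe.P.gR (subsW k.1), Subgroup.subset_closure ⟨subsW k.1, subsW_mem k, rfl⟩⟩

theorem tau_uE (k : Fin 7) : tau (uE k) = pi k :=
  blockHom_eq cB cB_surj _ (pi k) (resp k)

theorem pimatch0 : ∀ j : Fin 85, pi 0 j = idx4 ((gM 0).mv (W4 j)) := by decide +kernel
theorem pimatch1 : ∀ j : Fin 85, pi 1 j = idx4 ((gM 1).mv (W4 j)) := by decide +kernel
theorem pimatch2 : ∀ j : Fin 85, pi 2 j = idx4 ((gM 2).mv (W4 j)) := by decide +kernel
theorem pimatch3 : ∀ j : Fin 85, pi 3 j = idx4 ((gM 3).mv (W4 j)) := by decide +kernel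
theorem pimatch4 : ∀ j : Fin 85, pi 4 j = idx4 ((gM 4).mv (W4 j)) := by decide +kernel
theorem pimatch5 : ∀ j : Fin 85, pi 6 j = idx4 ((gM 5).mv (W4 j)) := by decide +kernel
theorem pimatch6 : ∀ j : Fin 85, pi 5 (pi 1 (pi 5 j)) = idx4 ((gM 6).mv (W4 j)) := by decide +kernel

theorem card_Sp : Nat.card Sp = 979200 := by
  rw [Cfsg.Agent.Lib.Helper5.SympCard.card_symplecticGroup (F := K4) 2, K4.card_eq]
  decide

theorem sign_rho (A : Sp) : Equiv.Perm.sign (rho A) = 1 := by
  have hp := Cfsg.Agent.Lib.Helper5.SympPerfect.perfect (F := K4) 2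
    (Or.inr (Or.inl ⟨rfl, by rw [K4.card_eq]; norm_num⟩))
  have h := Abelianization.commutator_subset_ker (Equiv.Perm.sign.comp rho)
  rw [hp] at h
  exact h (Subgroup.mem_top A)

theorem card_UHe (hcard : Nat.card PHe.P.Grp = 4030387200) : Nat.card UHe = 2 * 979200 := by
  have := UHe.index_mul_card
  rw [He1.index_eq, hcard] at this
  omega

theorem rho_spOf (i : Fin 7) (j : Fin 85) : rho (spOf i) j = idx4 ((gM i.1).mv (W4 j)) :=
  rho_sp (gM i.1) (gM_sp i) j

/-- the point stabiliser has a subgroup of index two isomorphic to `Sp(4,4)` -/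
theorem exists_sp44 [Finite PHe.P.Grp] (hcard : Nat.card PHe.P.Grp = 4030387200) :
    ∃ N : Subgroup UHe, N.index = 2 ∧ Nonempty (N ≃* Sp) := by
  apply index_two_iso 979200 (by norm_num) (card_UHe hcard) card_Sp tau rho rho_injective
    (Set.range spOf) closure_spOf
  · rintro _ ⟨i, rfl⟩
    have key : ∀ n : UHe, tau n = rho (spOf i) →
        ∃ n : UHe, tau n = rho (spOf i) ∧ Equiv.Perm.sign (tau n) = 1 :=
      fun n h => ⟨n, h, by rw [h]; exact sign_rho _⟩
    fin_cases i
    · exact key (uE 0) (by rw [tau_uE]; exact Equiv.ext fun j => by rw [rho_spOf]; exact pimatch0 j)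
    · exact key (uE 1) (by rw [tau_uE]; exact Equiv.ext fun j => by rw [rho_spOf]; exact pimatch1 j)
    · exact key (uE 2) (by rw [tau_uE]; exact Equiv.ext fun j => by rw [rho_spOf]; exact pimatch2 j)
    · exact key (uE 3) (by rw [tau_uE]; exact Equiv.ext fun j => by rw [rho_spOf]; exact pimatch3 j)
    · exact key (uE 4) (by rw [tau_uE]; exact Equiv.ext fun j => by rw [rho_spOf]; exact pimatch4 j)
    · exact key (uE 6) (by rw [tau_uE]; exact Equiv.ext fun j => by rw [rho_spOf]; exact pimatch5 j)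
    · exact key (uE 5 * uE 1 * uE 5) (by
        rw [map_mul, map_mul, tau_uE, tau_uE]
        exact Equiv.ext fun j => by rw [rho_spOf]; exact pimatch6 j)
  · exact ⟨uE 5, by rw [tau_uE]; exact sign_pi_5⟩

end Cfsg.Agent.Lib.Helper8.HeSp
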