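import Cfsg.Agent.Lib.Helper8.HeSpE

/-! The point stabiliser of the presented Held group as the subgroup generated by seven words. -/

set_option autoImplicit false

namespace Cfsg.Agent.Lib.Helper8.HeSp

open Cfsg.Spor Cfsg.Agent.Lib.Helper4.TC Cfsg.Agent.Lib.Helper4.TCD Cfsg.Agent.Lib.Helper4.TC.Log

theorem gR_eq (l : ℕ) (h : l < 7) :
    PHe.P.gR l = PresentedGroup.mk PHe.P.rels (PHe.dec l) := CoxEnc.gR_lt (P := PHe.P) h

/-- the seven words in the free group -/
def fw : Fin 7 → FreeGroup He.Gen :=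
  ![He.a, He.c, He.d, He.e, He.f, (He.a * He.b) ^ 2, (He.b * He.c * He.d * He.e) ^ 7]

theorem wordP_subsW (k : Fin 7) :
    wordP PHe.P.gR (subsW k.1) = PresentedGroup.mk PHe.P.rels (fw k) := by
  fin_cases k
  · show wordP PHe.P.gR [0] = _
    rw [wordP_cons, wordP_nil, mul_one, gR_eq 0 (by decide)]
    rfl
  · show wordP PHe.P.gR [2] = _
    rw [wordP_cons, wordP_nil, mul_one, gR_eq 2 (by decide)]
    rfl
  · show wordP PHe.P.gR [3] = _
    rw [wordP_cons, wordP_nil, mul_one, gR_eq 3 (by decide)]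
    rfl
  · show wordP PHe.P.gR [4] = _
    rw [wordP_cons, wordP_nil, mul_one, gR_eq 4 (by decide)]
    rfl
  · show wordP PHe.P.gR [5] = _
    rw [wordP_cons, wordP_nil, mul_one, gR_eq 5 (by decide)]
    rfl
  · show wordP PHe.P.gR (List.replicate 2 [0, 1]).flatten = _
    rw [wordP_replicate_flatten, wordP_cons, wordP_cons, wordP_nil, mul_one, gR_eq 0 (by decide),
      gR_eq 1 (by decide), ← map_mul, ← map_pow]
    rfl
  · show wordP PHe.P.gR (List.replicate 7 [1, 2, 3, 4]).flatten = _
    rw [wordP_replicate_flatten, wordP_cons, wordP_cons, wordP_cons, wordP_cons, wordP_nil, mul_one,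
      gR_eq 1 (by decide), gR_eq 2 (by decide), gR_eq 3 (by decide), gR_eq 4 (by decide),
      ← map_mul, ← map_mul, ← map_mul, ← mul_assoc, ← mul_assoc, ← map_pow]
    rfl

theorem fw_mem (k : Fin 7) : fw k ∈ ({He.a, He.c, He.d, He.e, He.f, (He.a * He.b) ^ 2,
    (He.b * He.c * He.d * He.e) ^ 7} : Set (FreeGroup He.Gen)) := by
  fin_cases k <;> simp [fw]

theorem UHe_eq :
    ((Subgroup.closure ({He.a, He.c, He.d, He.e, He.f, (He.a * He.b) ^ 2,
      (He.b * He.c * He.d * He.e) ^ 7} : Set (FreeGroup He.Gen))).map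
        (PresentedGroup.mk PHe.P.rels) : Subgroup PHe.P.Grp) = UHe := by
  apply le_antisymm
  · rw [Subgroup.map_le_iff_le_comap, Subgroup.closure_le]
    intro w hw
    simp only [Set.mem_insert_iff, Set.mem_singleton_iff] at hw
    have key : ∀ k : Fin 7, PresentedGroup.mk PHe.P.rels (fw k) ∈ UHe := fun k => by
      rw [← wordP_subsW k]
      exact (uE k).2
    rcases hw with rfl | rfl | rfl | rfl | rfl | rfl | rfl
    · exact key 0
    · exact key 1
    · exact key 2
    · exact key 3
    · exact key 4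
    · exact key 5
    · exact key 6
  · unfold UHe Inst.subG
    rw [Subgroup.closure_le]
    rintro s ⟨u, hu, rfl⟩
    obtain ⟨k, rfl⟩ := subs_cover u hu
    rw [wordP_subsW k]
    exact Subgroup.mem_map_of_mem _ (Subgroup.subset_closure (fw_mem k))

end Cfsg.Agent.Lib.Helper8.HeSp
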