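import Cfsg.Agent.Lib.Helper8.HeSpA

/-! The action of `Sp(4,4)` on the 85 point indices is a faithful permutation representation. -/

set_option autoImplicit false

namespace Cfsg.Agent.Lib.Helper8.HeSp

open Matrix Cfsg.Agent.Lib.Helper5.SympTv

/-- the action on point indices -/
noncomputable def pact (A : Sp) (j : Fin 85) : Fin 85 := idx4 (V4.ofV (A.1 *ᵥ (W4 j).toV))

theorem sp_mulVec_ne_zero (A : Sp) (x : Fin 2 ⊕ Fin 2 → K4) (hx : x ≠ 0) : A.1 *ᵥ x ≠ 0 := by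
  intro h
  have h1 : (A⁻¹).1 *ᵥ (A.1 *ᵥ x) = x := by
    rw [mulVec_mulVec, ← Submonoid.coe_mul, inv_mul_cancel, Submonoid.coe_one, one_mulVec]
  rw [h, mulVec_zero] at h1
  exact hx h1.symm

theorem W4_toV_ne_zero (j : Fin 85) : (W4 j).toV ≠ 0 := by
  intro h
  apply W4_ne_zero j
  apply V4.toV_injective
  rw [h, V4.toV_zero]

theorem pact_one (j : Fin 85) : pact 1 j = j := by
  unfold pact
  rw [Submonoid.coe_one, one_mulVec, V4.ofV_toV, idx4_W4]

theorem pact_mul (A B : Sp) (j : Fin 85) : pact (A * B) j = pact A (pact B j) := by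
  unfold pact
  have hy0 : V4.ofV (B.1 *ᵥ (W4 j).toV) ≠ V4.zero := by
    rw [Ne, V4.ofV_eq_zero_iff]
    exact sp_mulVec_ne_zero B _ (W4_toV_ne_zero j)
  obtain ⟨l, hl, hW⟩ := W4_idx4' _ hy0
  rw [hW, V4.toV_smul, V4.toV_ofV, mulVec_smul, V4.ofV_smul, idx4_smul' _ _ hl, mulVec_mulVec,
    Submonoid.coe_mul]

noncomputable instance instMulActionSp : MulAction Sp (Fin 85) where
  smul := pact
  one_smul := pact_one
  mul_smul := pact_mul

/-- the permutation representation on the 85 points -/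
noncomputable def rho : Sp →* Equiv.Perm (Fin 85) := MulAction.toPermHom Sp (Fin 85)

theorem rho_apply (A : Sp) (j : Fin 85) : rho A j = pact A j := rfl

theorem rho_sp (M : M4) (h : M.isSp) (j : Fin 85) :
    rho ⟨M.toM, M.toM_mem h⟩ j = idx4 (M.mv (W4 j)) := by
  rw [rho_apply]
  unfold pact
  rw [M4.toM_mulVec, V4.ofV_toV]

theorem eigen_of_fix (A : Sp) (h : ∀ j, pact A j = j) (t : V4) (ht : t ≠ V4.zero) :
    ∃ μ : K4, A.1 *ᵥ t.toV = μ • t.toV := by
  obtain ⟨l, hl, hW⟩ := W4_idx4' t ht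
  have hj := h (idx4 t)
  unfold pact at hj
  have hy0 : V4.ofV (A.1 *ᵥ (W4 (idx4 t)).toV) ≠ V4.zero := by
    rw [Ne, V4.ofV_eq_zero_iff]
    exact sp_mulVec_ne_zero A _ (W4_toV_ne_zero _)
  obtain ⟨l', hl', hW'⟩ := W4_idx4' _ hy0
  rw [hj] at hW'
  have e1 := congrArg V4.toV hW'
  rw [V4.toV_smul, V4.toV_ofV, hW, V4.toV_smul, mulVec_smul] at e1
  refine ⟨l'⁻¹, ?_⟩
  have e2 : (l'⁻¹ * l⁻¹) • (l • t.toV) = (l'⁻¹ * l⁻¹) • (l' • l • (A.1 *ᵥ t.toV)) := by rw [e1]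
  rw [smul_smul, smul_smul, smul_smul] at e2
  have h1 : l'⁻¹ * l⁻¹ * l = l'⁻¹ := by rw [mul_assoc, inv_mul_cancel₀ hl, mul_one]
  have h2 : l'⁻¹ * l⁻¹ * l' * l = 1 := by field_simp
  rw [h1, h2, one_smul] at e2
  exact e2.symm

theorem E_ne_zero : ∀ i : Fin 2 ⊕ Fin 2, E i ≠ V4.zero := by decide

theorem E_add_ne_zero : ∀ i : Fin 2 ⊕ Fin 2, i ≠ Sum.inl 0 → V4.add (E (Sum.inl 0)) (E i) ≠ V4.zero := by
  decide

theorem eq_one_of_fix (A : Sp) (h : ∀ j, pact A j = j) : A = 1 := by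
  have eig := eigen_of_fix A h
  choose μ hμ using fun i => eig (E i) (E_ne_zero i)
  have key : ∀ i, μ i = μ (Sum.inl 0) := by
    intro i
    by_cases hi : i = Sum.inl 0
    · rw [hi]
    · obtain ⟨ν, hν⟩ := eig (V4.add (E (Sum.inl 0)) (E i)) (E_add_ne_zero i hi)
      rw [V4.toV_add, mulVec_add, hμ, hμ, smul_add, toV_E, toV_E] at hν
      have a := congrFun hν (Sum.inl 0)
      have b := congrFun hν i
      simp [hi, Ne.symm hi] at a b
      rw [a, b]
  have hA : A.1 = (μ (Sum.inl 0)) • (1 : Matrix (Fin 2 ⊕ Fin 2) (Fin 2 ⊕ Fin 2) K4) := by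
    apply Matrix.ext_of_mulVec_single
    intro i
    rw [← toV_E, hμ, key i, smul_mulVec, one_mulVec]
  have hf := sympForm_mulVec 2 A.2 (E (Sum.inl 0)).toV (E (Sum.inr 0)).toV
  rw [hμ, hμ, key (Sum.inr 0), sympForm_smul_left, sympForm_smul_right, V4.form_toV] at hf
  have hf1 : V4.form (E (Sum.inl 0)) (E (Sum.inr 0)) = 1 := by decide
  rw [hf1, mul_one] at hf
  have hμ1 := K4.eq_one_of_mul_self _ hf
  apply Subtype.ext
  rw [hA, hμ1, one_smul]
  rfl

theorem rho_injective : Function.Injective rho := by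
  rw [injective_iff_map_eq_one]
  intro A hA
  apply eq_one_of_fix
  intro j
  have := congrArg (fun p : Equiv.Perm (Fin 85) => p j) hA
  simpa [rho_apply] using this

end Cfsg.Agent.Lib.Helper8.HeSp
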