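import Mathlib
import Cfsg.Prelude.Def_Spor_J2

/-! An integral model of the icosian ring: quaternions whose doubled coordinates lie in `ℤ[τ]`. -/

set_option autoImplicit false

namespace Cfsg.Agent.Lib.Helper8.Ico

open Quaternion Cfsg.Spor

theorem sqrt5_mul_self : Real.sqrt 5 * Real.sqrt 5 = 5 := Real.mul_self_sqrt (by norm_num)

theorem tau_sq : tau * tau = tau + 1 := by
  unfold tau
  linear_combination (1 / 4 : ℝ) * sqrt5_mul_self

theorem sig_eq : sig = 1 - tau := by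
  unfold sig tau
  ring

theorem sqrt5_eq : Real.sqrt 5 = 2 * tau - 1 := by
  unfold tau
  ring

theorem tau_irr (p q : ℤ) (h : (p : ℝ) + q * tau = 0) : p = 0 ∧ q = 0 := by
  by_cases hq : q = 0
  · subst hq
    simp only [Int.cast_zero, zero_mul, add_zero] at h
    exact ⟨by exact_mod_cast h, rfl⟩
  · exfalso
    have hirr : Irrational (Real.sqrt 5) := by
      have h5 := Nat.Prime.irrational_sqrt (p := 5) (by norm_num)
      simpa using h5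
    have hq' : (q : ℝ) ≠ 0 := by exact_mod_cast hq
    have h2 : Real.sqrt 5 = ((-(2 * p + q) : ℤ) : ℝ) / ((q : ℤ) : ℝ) := by
      rw [eq_div_iff hq']
      unfold tau at h
      push_cast
      linarith
    exact (irrational_iff_ne_rational _).1 hirr _ _ hq h2

/-- quaternions with coordinates `(p + q τ) / 2` -/
@[ext]
structure IQ where
  p0 : ℤ
  q0 : ℤ
  p1 : ℤ
  q1 : ℤ
  p2 : ℤ
  q2 : ℤ
  p3 : ℤ
  q3 : ℤ
deriving DecidableEq

namespace IQ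

/-- the quaternion of a coordinate vector -/
noncomputable def toH (a : IQ) : ℍ[ℝ] :=
  ⟨(a.p0 + a.q0 * tau) / 2, (a.p1 + a.q1 * tau) / 2, (a.p2 + a.q2 * tau) / 2,
    (a.p3 + a.q3 * tau) / 2⟩

theorem toH_re (a : IQ) : (toH a).re = (a.p0 + a.q0 * tau) / 2 := rfl

theorem toH_imI (a : IQ) : (toH a).imI = (a.p1 + a.q1 * tau) / 2 := rfl

theorem toH_imJ (a : IQ) : (toH a).imJ = (a.p2 + a.q2 * tau) / 2 := rfl

theorem toH_imK (a : IQ) : (toH a).imK = (a.p3 + a.q3 * tau) / 2 := rfl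

instance : Zero IQ := ⟨⟨0, 0, 0, 0, 0, 0, 0, 0⟩⟩

instance : Add IQ := ⟨fun a b => ⟨a.p0 + b.p0, a.q0 + b.q0, a.p1 + b.p1, a.q1 + b.q1,
  a.p2 + b.p2, a.q2 + b.q2, a.p3 + b.p3, a.q3 + b.q3⟩⟩

instance : Neg IQ := ⟨fun a => ⟨-a.p0, -a.q0, -a.p1, -a.q1, -a.p2, -a.q2, -a.p3, -a.q3⟩⟩

instance : Sub IQ := ⟨fun a b => ⟨a.p0 - b.p0, a.q0 - b.q0, a.p1 - b.p1, a.q1 - b.q1,
  a.p2 - b.p2, a.q2 - b.q2, a.p3 - b.p3, a.q3 - b.q3⟩⟩

/-- multiplication by an integer -/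
def zs (n : ℤ) (a : IQ) : IQ :=
  ⟨n * a.p0, n * a.q0, n * a.p1, n * a.q1, n * a.p2, n * a.q2, n * a.p3, n * a.q3⟩

theorem zero_def : (0 : IQ) = ⟨0, 0, 0, 0, 0, 0, 0, 0⟩ := rfl

theorem add_def (a b : IQ) : a + b = ⟨a.p0 + b.p0, a.q0 + b.q0, a.p1 + b.p1, a.q1 + b.q1,
  a.p2 + b.p2, a.q2 + b.q2, a.p3 + b.p3, a.q3 + b.q3⟩ := rfl

theorem neg_def (a : IQ) : -a = ⟨-a.p0, -a.q0, -a.p1, -a.q1, -a.p2, -a.q2, -a.p3, -a.q3⟩ := rfl

theorem sub_def (a b : IQ) : a - b = ⟨a.p0 - b.p0, a.q0 - b.q0, a.p1 - b.p1, a.q1 - b.q1,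
  a.p2 - b.p2, a.q2 - b.q2, a.p3 - b.p3, a.q3 - b.q3⟩ := rfl

theorem toH_zero : toH 0 = 0 := by
  ext <;> simp [toH_re, toH_imI, toH_imJ, toH_imK, zero_def]

theorem toH_add (a b : IQ) : toH (a + b) = toH a + toH b := by
  ext <;> simp only [Quaternion.re_add, Quaternion.imI_add, Quaternion.imJ_add, Quaternion.imK_add,
    toH_re, toH_imI, toH_imJ, toH_imK, add_def] <;> push_cast <;> ring

theorem toH_neg (a : IQ) : toH (-a) = -toH a := by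
  ext <;> simp only [Quaternion.re_neg, Quaternion.imI_neg, Quaternion.imJ_neg, Quaternion.imK_neg,
    toH_re, toH_imI, toH_imJ, toH_imK, neg_def] <;> push_cast <;> ring

theorem toH_sub (a b : IQ) : toH (a - b) = toH a - toH b := by
  ext <;> simp only [Quaternion.re_sub, Quaternion.imI_sub, Quaternion.imJ_sub, Quaternion.imK_sub,
    toH_re, toH_imI, toH_imJ, toH_imK, sub_def] <;> push_cast <;> ring

theorem toH_zs (n : ℤ) (a : IQ) : toH (zs n a) = (n : ℝ) • toH a := by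
  ext <;> simp only [Quaternion.re_smul, Quaternion.imI_smul, Quaternion.imJ_smul,
    Quaternion.imK_smul, toH_re, toH_imI, toH_imJ, toH_imK, zs, smul_eq_mul] <;> push_cast <;> ring

theorem toH_injective : Function.Injective toH := by
  intro a b h
  have key : ∀ p q p' q' : ℤ, ((p : ℝ) + q * tau) / 2 = ((p' : ℝ) + q' * tau) / 2 →
      p = p' ∧ q = q' := by
    intro p q p' q' h
    have h1 : ((p - p' : ℤ) : ℝ) + ((q - q' : ℤ) : ℝ) * tau = 0 := by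
      push_cast
      linarith
    obtain ⟨h2, h3⟩ := tau_irr _ _ h1
    exact ⟨by omega, by omega⟩
  have h0 := key a.p0 a.q0 b.p0 b.q0 (congrArg QuaternionAlgebra.re h)
  have h1 := key a.p1 a.q1 b.p1 b.q1 (congrArg QuaternionAlgebra.imI h)
  have h2 := key a.p2 a.q2 b.p2 b.q2 (congrArg QuaternionAlgebra.imJ h)
  have h3 := key a.p3 a.q3 b.p3 b.q3 (congrArg QuaternionAlgebra.imK h)
  ext
  · exact h0.1
  · exact h0.2
  · exact h1.1
  · exact h1.2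
  · exact h2.1
  · exact h2.2
  · exact h3.1
  · exact h3.2

/-- the rational part of a product in `ℤ[τ]` -/
def zp (a b c d : ℤ) : ℤ := a * c + b * d

/-- the `τ` part of a product in `ℤ[τ]` -/
def zq (a b c d : ℤ) : ℤ := a * d + b * c + b * d

/-- the product of the doubled quaternions -/
def mul (x y : IQ) : IQ :=
  ⟨zp x.p0 x.q0 y.p0 y.q0 - zp x.p1 x.q1 y.p1 y.q1 - zp x.p2 x.q2 y.p2 y.q2
      - zp x.p3 x.q3 y.p3 y.q3,
    zq x.p0 x.q0 y.p0 y.q0 - zq x.p1 x.q1 y.p1 y.q1 - zq x.p2 x.q2 y.p2 y.q2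
      - zq x.p3 x.q3 y.p3 y.q3,
    zp x.p0 x.q0 y.p1 y.q1 + zp x.p1 x.q1 y.p0 y.q0 + zp x.p2 x.q2 y.p3 y.q3
      - zp x.p3 x.q3 y.p2 y.q2,
    zq x.p0 x.q0 y.p1 y.q1 + zq x.p1 x.q1 y.p0 y.q0 + zq x.p2 x.q2 y.p3 y.q3
      - zq x.p3 x.q3 y.p2 y.q2,
    zp x.p0 x.q0 y.p2 y.q2 - zp x.p1 x.q1 y.p3 y.q3 + zp x.p2 x.q2 y.p0 y.q0
      + zp x.p3 x.q3 y.p1 y.q1,
    zq x.p0 x.q0 y.p2 y.q2 - zq x.p1 x.q1 y.p3 y.q3 + zq x.p2 x.q2 y.p0 y.q0
      + zq x.p3 x.q3 y.p1 y.q1,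
    zp x.p0 x.q0 y.p3 y.q3 + zp x.p1 x.q1 y.p2 y.q2 - zp x.p2 x.q2 y.p1 y.q1
      + zp x.p3 x.q3 y.p0 y.q0,
    zq x.p0 x.q0 y.p3 y.q3 + zq x.p1 x.q1 y.p2 y.q2 - zq x.p2 x.q2 y.p1 y.q1
      + zq x.p3 x.q3 y.p0 y.q0⟩

theorem toH_mul (x y : IQ) : toH x * toH y = (1 / 2 : ℝ) • toH (mul x y) := by
  ext
  · simp only [Quaternion.re_mul, Quaternion.re_smul, toH_re, toH_imI, toH_imJ, toH_imK, mul, zp, zq,
      smul_eq_mul]
    push_cast
    linear_combination ((x.q0 * y.q0 - x.q1 * y.q1 - x.q2 * y.q2 - x.q3 * y.q3 : ℝ) / 4) * tau_sq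
  · simp only [Quaternion.imI_mul, Quaternion.imI_smul, toH_re, toH_imI, toH_imJ, toH_imK, mul, zp,
      zq, smul_eq_mul]
    push_cast
    linear_combination ((x.q0 * y.q1 + x.q1 * y.q0 + x.q2 * y.q3 - x.q3 * y.q2 : ℝ) / 4) * tau_sq
  · simp only [Quaternion.imJ_mul, Quaternion.imJ_smul, toH_re, toH_imI, toH_imJ, toH_imK, mul, zp,
      zq, smul_eq_mul]
    push_cast
    linear_combination ((x.q0 * y.q2 - x.q1 * y.q3 + x.q2 * y.q0 + x.q3 * y.q1 : ℝ) / 4) * tau_sq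
  · simp only [Quaternion.imK_mul, Quaternion.imK_smul, toH_re, toH_imI, toH_imJ, toH_imK, mul, zp,
      zq, smul_eq_mul]
    push_cast
    linear_combination ((x.q0 * y.q3 + x.q1 * y.q2 - x.q2 * y.q1 + x.q3 * y.q0 : ℝ) / 4) * tau_sq

/-- the conjugate -/
def conj (a : IQ) : IQ := ⟨a.p0, a.q0, -a.p1, -a.q1, -a.p2, -a.q2, -a.p3, -a.q3⟩

theorem star_toH (a : IQ) : star (toH a) = toH (conj a) := by
  ext <;> simp only [Quaternion.re_star, Quaternion.imI_star, Quaternion.imJ_star,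
    Quaternion.imK_star, toH_re, toH_imI, toH_imJ, toH_imK, conj] <;> push_cast <;> ring

/-- the sum of the squares of the coordinates -/
def wt (a : IQ) : ℤ :=
  a.p0 * a.p0 + a.q0 * a.q0 + a.p1 * a.p1 + a.q1 * a.q1 + a.p2 * a.p2 + a.q2 * a.q2
    + a.p3 * a.p3 + a.q3 * a.q3

/-- the `τ` part of four times the norm -/
def st (a : IQ) : ℤ :=
  a.q0 * (2 * a.p0 + a.q0) + a.q1 * (2 * a.p1 + a.q1) + a.q2 * (2 * a.p2 + a.q2)
    + a.q3 * (2 * a.p3 + a.q3)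

theorem normSq_toH (a : IQ) : normSq (toH a) = ((wt a : ℝ) + (st a : ℝ) * tau) / 4 := by
  rw [Quaternion.normSq_def']
  show (toH a).re ^ 2 + (toH a).imI ^ 2 + (toH a).imJ ^ 2 + (toH a).imK ^ 2 = _
  simp only [toH_re, toH_imI, toH_imJ, toH_imK, wt, st]
  push_cast
  linear_combination ((a.q0 * a.q0 + a.q1 * a.q1 + a.q2 * a.q2 + a.q3 * a.q3 : ℝ) / 4) * tau_sq

/-- twice a vector -/
def dbl (a : IQ) : IQ := a + a

theorem half_toH_dbl (a : IQ) : (1 / 2 : ℝ) • toH (dbl a) = toH a := by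
  rw [dbl, toH_add, ← two_smul ℝ (toH a), smul_smul]
  norm_num

end IQ

end Cfsg.Agent.Lib.Helper8.Ico
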