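import Cfsg.Agent.Lib.Helper8.Ico1

/-! The icosian ring is the set of the quaternions `toH a` with `a` in a sublattice of index 16. -/

set_option autoImplicit false

namespace Cfsg.Agent.Lib.Helper8.Ico

open Quaternion Cfsg.Spor

namespace IQ

/-- the congruences cutting out the doubled icosians -/
def cond (a : IQ) : Prop :=
  (a.q1 + a.p2 + a.p3 + a.q3) % 2 = 0 ∧ (a.p1 + a.p2 + a.q2 + a.q3) % 2 = 0 ∧
    (a.q0 + a.p2 + a.q2 + a.p3) % 2 = 0 ∧ (a.p0 + a.q2 + a.p3 + a.q3) % 2 = 0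

instance : DecidablePred cond := fun a => by unfold cond; infer_instance

/-- the doubled unit `1` -/
def cOne : IQ := ⟨2, 0, 0, 0, 0, 0, 0, 0⟩

/-- the doubled unit `i` -/
def cI : IQ := ⟨0, 0, 2, 0, 0, 0, 0, 0⟩

/-- the doubled second generator -/
def cG : IQ := ⟨1, 0, 1, -1, 0, 0, 0, 1⟩

/-- the doubled `h` -/
def cH : IQ := ⟨1, -2, 1, 0, 1, 0, 1, 0⟩

theorem toH_cOne : toH cOne = 1 := by
  ext <;> simp [toH_re, toH_imI, toH_imJ, toH_imK, cOne]

theorem toH_cI : toH cI = qI := by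
  ext <;> simp [toH_re, toH_imI, toH_imJ, toH_imK, cI, qI]

/-- the second generator of the icosian ring -/
noncomputable def gG : ℍ[ℝ] := ⟨1 / 2, sig / 2, 0, tau / 2⟩

theorem gG_re : gG.re = 1 / 2 := rfl

theorem gG_imI : gG.imI = sig / 2 := rfl

theorem gG_imJ : gG.imJ = 0 := rfl

theorem gG_imK : gG.imK = tau / 2 := rfl

theorem toH_cG : toH cG = gG := by
  ext <;> simp [toH_re, toH_imI, toH_imJ, toH_imK, gG_re, gG_imI, gG_imJ, gG_imK, cG, sig_eq] <;> ring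

theorem icosians_eq : icosians = Subring.closure {qI, gG} := rfl

theorem toH_cH : toH cH = icoH := by
  ext <;> simp [toH_re, toH_imI, toH_imJ, toH_imK, cH, icoH, sqrt5_eq] <;> ring

theorem cond_zero : cond 0 := by decide

theorem cond_add {a b : IQ} (ha : cond a) (hb : cond b) : cond (a + b) := by
  obtain ⟨a0, a1, a2, a3, a4, a5, a6, a7⟩ := a
  obtain ⟨b0, b1, b2, b3, b4, b5, b6, b7⟩ := b
  simp only [cond, add_def] at *
  omega

theorem cond_neg {a : IQ} (ha : cond a) : cond (-a) := by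
  obtain ⟨a0, a1, a2, a3, a4, a5, a6, a7⟩ := a
  simp only [cond, neg_def] at *
  omega

theorem cond_sub {a b : IQ} (ha : cond a) (hb : cond b) : cond (a - b) := by
  obtain ⟨a0, a1, a2, a3, a4, a5, a6, a7⟩ := a
  obtain ⟨b0, b1, b2, b3, b4, b5, b6, b7⟩ := b
  simp only [cond, sub_def] at *
  omega

theorem cond_conj {a : IQ} (ha : cond a) : cond (conj a) := by
  obtain ⟨a0, a1, a2, a3, a4, a5, a6, a7⟩ := a
  simp only [cond, conj] at *
  omega

theorem cond_zs (n : ℤ) {a : IQ} (ha : cond a) : cond (zs n a) := by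
  obtain ⟨a0, a1, a2, a3, a4, a5, a6, a7⟩ := a
  simp only [cond, zs] at *
  have h1 : (n * a3 + n * a4 + n * a6 + n * a7) = n * (a3 + a4 + a6 + a7) := by ring
  have h2 : (n * a2 + n * a4 + n * a5 + n * a7) = n * (a2 + a4 + a5 + a7) := by ring
  have h3 : (n * a1 + n * a4 + n * a5 + n * a6) = n * (a1 + a4 + a5 + a6) := by ring
  have h4 : (n * a0 + n * a5 + n * a6 + n * a7) = n * (a0 + a5 + a6 + a7) := by ring
  rw [h1, h2, h3, h4]
  refine ⟨?_, ?_, ?_, ?_⟩ <;> apply Int.emod_eq_zero_of_dvd <;> apply Dvd.dvd.mul_left <;>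
    apply Int.dvd_of_emod_eq_zero
  · exact ha.1
  · exact ha.2.1
  · exact ha.2.2.1
  · exact ha.2.2.2

/-- half of a vector -/
def hlf (a : IQ) : IQ :=
  ⟨a.p0 / 2, a.q0 / 2, a.p1 / 2, a.q1 / 2, a.p2 / 2, a.q2 / 2, a.p3 / 2, a.q3 / 2⟩

theorem mul_cI {a : IQ} (ha : cond a) : ∃ c, mul a cI = dbl c ∧ cond c := by
  obtain ⟨a0, a1, a2, a3, a4, a5, a6, a7⟩ := a
  refine ⟨hlf (mul ⟨a0, a1, a2, a3, a4, a5, a6, a7⟩ cI), ?_, ?_⟩
  · simp only [cond, mul, zp, zq, cI, dbl, hlf, add_def, IQ.mk.injEq] at *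
    omega
  · simp only [cond, mul, zp, zq, cI, hlf] at *
    omega

theorem mul_cG {a : IQ} (ha : cond a) : ∃ c, mul a cG = dbl c ∧ cond c := by
  obtain ⟨a0, a1, a2, a3, a4, a5, a6, a7⟩ := a
  refine ⟨hlf (mul ⟨a0, a1, a2, a3, a4, a5, a6, a7⟩ cG), ?_, ?_⟩
  · simp only [cond, mul, zp, zq, cG, dbl, hlf, add_def, IQ.mk.injEq] at *
    omega
  · simp only [cond, mul, zp, zq, cG, hlf] at *
    omega

end IQ

open IQ

/-- the quaternions of the sublattice -/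
def I0 : Set ℍ[ℝ] := {x | ∃ a : IQ, IQ.cond a ∧ x = toH a}

theorem I0_add {x y : ℍ[ℝ]} (hx : x ∈ I0) (hy : y ∈ I0) : x + y ∈ I0 := by
  obtain ⟨a, ha, rfl⟩ := hx
  obtain ⟨b, hb, rfl⟩ := hy
  exact ⟨a + b, cond_add ha hb, (toH_add a b).symm⟩

theorem I0_neg {x : ℍ[ℝ]} (hx : x ∈ I0) : -x ∈ I0 := by
  obtain ⟨a, ha, rfl⟩ := hx
  exact ⟨-a, cond_neg ha, (toH_neg a).symm⟩

theorem I0_zero : (0 : ℍ[ℝ]) ∈ I0 := ⟨0, cond_zero, toH_zero.symm⟩

theorem I0_one : (1 : ℍ[ℝ]) ∈ I0 := ⟨cOne, by decide, toH_cOne.symm⟩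

theorem I0_mul_gen (g : IQ) (hg : ∀ a, IQ.cond a → ∃ c, mul a g = dbl c ∧ IQ.cond c) {x : ℍ[ℝ]}
    (hx : x ∈ I0) : x * toH g ∈ I0 := by
  obtain ⟨a, ha, rfl⟩ := hx
  obtain ⟨c, hc, hcc⟩ := hg a ha
  exact ⟨c, hcc, by rw [toH_mul, hc, half_toH_dbl]⟩

theorem icosians_le_I0 {x : ℍ[ℝ]} (hx : x ∈ icosians) : x ∈ I0 := by
  have key : ∀ y ∈ I0, y * x ∈ I0 := by
    rw [icosians_eq] at hx
    induction hx using Subring.closure_induction with
    | mem x hx =>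
      intro y hy
      rcases hx with rfl | hx
      · rw [← toH_cI]
        exact I0_mul_gen cI (fun a ha => mul_cI ha) hy
      · have hx' : x = gG := hx
        rw [hx', ← toH_cG]
        exact I0_mul_gen cG (fun a ha => mul_cG ha) hy
    | zero =>
      intro y _
      rw [mul_zero]
      exact I0_zero
    | one =>
      intro y hy
      rw [mul_one]
      exact hy
    | add x x' _ _ hx hx' =>
      intro y hy
      rw [mul_add]
      exact I0_add (hx y hy) (hx' y hy)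
    | neg x _ hx =>
      intro y hy
      rw [mul_neg]
      exact I0_neg (hx y hy)
    | mul x x' _ _ hx hx' =>
      intro y hy
      rw [← mul_assoc]
      exact hx' _ (hx y hy)
  have h := key 1 I0_one
  rwa [one_mul] at h

/-! the converse inclusion -/

namespace IQ

def b2 : IQ := cG
def b3 : IQ := ⟨-1, 1, 1, 0, 0, -1, 0, 0⟩
def b4 : IQ := ⟨-1, 1, 1, 0, 0, 1, 0, 0⟩
def b5 : IQ := ⟨-1, 0, -1, 1, 0, 0, 0, 1⟩
def b6 : IQ := ⟨-1, 1, 0, 1, 0, 0, 1, 0⟩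
def b7 : IQ := ⟨0, -1, -1, 1, -1, 0, 0, 0⟩

end IQ

theorem qI_mem : qI ∈ icosians := by
  rw [icosians_eq]
  exact Subring.subset_closure (Or.inl rfl)

theorem gG_mem : gG ∈ icosians := by
  rw [icosians_eq]
  exact Subring.subset_closure (Or.inr rfl)

theorem mem_of_mul {a g c : IQ} (ha : toH a ∈ icosians) (hg : toH g ∈ icosians)
    (h : mul a g = dbl c) : toH c ∈ icosians := by
  have h1 : toH c = toH a * toH g := by rw [toH_mul, h, half_toH_dbl]
  rw [h1]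
  exact Subring.mul_mem _ ha hg

theorem cI_mem : toH cI ∈ icosians := by rw [toH_cI]; exact qI_mem

theorem cG_mem : toH cG ∈ icosians := by rw [toH_cG]; exact gG_mem

theorem cOne_mem : toH cOne ∈ icosians := by rw [toH_cOne]; exact Subring.one_mem _

theorem b3_mem : toH b3 ∈ icosians := mem_of_mul cI_mem cG_mem (by decide)

theorem b4_mem : toH b4 ∈ icosians := mem_of_mul cG_mem cI_mem (by decide)

theorem b5_mem : toH b5 ∈ icosians := mem_of_mul b3_mem cI_mem (by decide)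

theorem b6_mem : toH b6 ∈ icosians := mem_of_mul b4_mem cG_mem (by decide)

theorem b7_mem : toH b7 ∈ icosians := mem_of_mul b5_mem cG_mem (by decide)

theorem decomp {a : IQ} (ha : IQ.cond a) :
    a = zs ((a.p0 + a.q0 + a.q1 - a.p3) / 2) cOne + zs ((-a.q0 + a.p1 + a.q1 + a.p2) / 2) cI
      + zs ((-a.q1 - a.p2 + a.p3 + a.q3) / 2) cG + zs ((a.q0 - a.p2 - a.q2 - a.p3) / 2) b3
      + zs ((a.q0 - a.p2 + a.q2 - a.p3) / 2) b4 + zs ((a.q1 + a.p2 - a.p3 + a.q3) / 2) b5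
      + zs a.p3 b6 + zs (-a.p2) b7 := by
  obtain ⟨a0, a1, a2, a3, a4, a5, a6, a7⟩ := a
  simp only [IQ.cond, zs, add_def, cOne, cI, cG, b3, b4, b5, b6, b7, IQ.mk.injEq] at *
  omega

theorem zs_mem (n : ℤ) {a : IQ} (ha : toH a ∈ icosians) : toH (zs n a) ∈ icosians := by
  rw [toH_zs]
  have : (n : ℝ) • toH a = n • toH a := by
    rw [← Int.cast_smul_eq_zsmul ℝ]
  rw [this]
  exact Subring.zsmul_mem _ ha n

theorem I0_le_icosians {a : IQ} (ha : IQ.cond a) : toH a ∈ icosians := by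
  rw [decomp ha]
  simp only [toH_add]
  refine Subring.add_mem _ (Subring.add_mem _ (Subring.add_mem _ (Subring.add_mem _
    (Subring.add_mem _ (Subring.add_mem _ (Subring.add_mem _ ?_ ?_) ?_) ?_) ?_) ?_) ?_) ?_
  · exact zs_mem _ cOne_mem
  · exact zs_mem _ cI_mem
  · exact zs_mem _ cG_mem
  · exact zs_mem _ b3_mem
  · exact zs_mem _ b4_mem
  · exact zs_mem _ b5_mem
  · exact zs_mem _ b6_mem
  · exact zs_mem _ b7_mem

theorem mem_icosians_iff (x : ℍ[ℝ]) : x ∈ icosians ↔ ∃ a : IQ, IQ.cond a ∧ x = toH a :=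
  ⟨icosians_le_I0, fun ⟨_, ha, hx⟩ => hx ▸ I0_le_icosians ha⟩

theorem star_mem_icosians {x : ℍ[ℝ]} (hx : x ∈ icosians) : star x ∈ icosians := by
  obtain ⟨a, ha, rfl⟩ := icosians_le_I0 hx
  rw [star_toH]
  exact I0_le_icosians (cond_conj ha)

end Cfsg.Agent.Lib.Helper8.Ico
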