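import Cfsg.Agent.Lib.Helper8.Ico2

/-! The left ideals of norm 2 and the icosian Leech lattice in the integral model. -/

set_option autoImplicit false

namespace Cfsg.Agent.Lib.Helper8.Ico

open Quaternion Cfsg.Spor

namespace IQ

/-- all coordinates are divisible by four -/
def div4 (a : IQ) : Prop :=
  a.p0 % 4 = 0 ∧ a.q0 % 4 = 0 ∧ a.p1 % 4 = 0 ∧ a.q1 % 4 = 0 ∧ a.p2 % 4 = 0 ∧ a.q2 % 4 = 0 ∧
    a.p3 % 4 = 0 ∧ a.q3 % 4 = 0

instance : DecidablePred div4 := fun a => by unfold div4; infer_instance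

/-- a quarter of a vector -/
def qt4 (a : IQ) : IQ :=
  ⟨a.p0 / 4, a.q0 / 4, a.p1 / 4, a.q1 / 4, a.p2 / 4, a.q2 / 4, a.p3 / 4, a.q3 / 4⟩

theorem zs_qt4 {a : IQ} (h : div4 a) : zs 4 (qt4 a) = a := by
  obtain ⟨a0, a1, a2, a3, a4, a5, a6, a7⟩ := a
  simp only [div4, zs, qt4, IQ.mk.injEq] at *
  omega

theorem div4_zs (b : IQ) : div4 (zs 4 b) := by
  obtain ⟨a0, a1, a2, a3, a4, a5, a6, a7⟩ := b
  simp only [div4, zs]
  omega

theorem qt4_zs (b : IQ) : qt4 (zs 4 b) = b := by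
  obtain ⟨a0, a1, a2, a3, a4, a5, a6, a7⟩ := b
  simp only [zs, qt4, IQ.mk.injEq]
  omega

/-- membership of `toH a` in the left ideal generated by `toH g`, for `g` of norm 2 -/
def condG (g a : IQ) : Prop := div4 (mul a (conj g)) ∧ cond (qt4 (mul a (conj g)))

instance (g : IQ) : DecidablePred (condG g) := fun a => by unfold condG; infer_instance

/-- the doubled conjugate of `h` -/
def cHb : IQ := ⟨1, -2, -1, 0, -1, 0, -1, 0⟩

theorem conj_cH : conj cH = cHb := by decide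

theorem conj_cHb : conj cHb = cH := by decide

theorem toH_cHb : toH cHb = star icoH := by
  rw [← conj_cH, ← star_toH, toH_cH]

theorem condG_exists {g a : IQ} (h : condG g a) : ∃ b, mul a (conj g) = zs 4 b ∧ cond b :=
  ⟨qt4 (mul a (conj g)), (zs_qt4 h.1).symm, h.2⟩

theorem mul_add_right (a g g' : IQ) : mul a (g + g') = mul a g + mul a g' := by
  ext <;> simp only [mul, zp, zq, add_def] <;> ring

theorem par4 (t1 t2 t3 t4 b1 b2 b3 b4 c1 c2 c3 c4 : ℤ) (h1 : t1 % 2 = (b1 + c1) % 2)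
    (h2 : t2 % 2 = (b2 + c2) % 2) (h3 : t3 % 2 = (b3 + c3) % 2) (h4 : t4 % 2 = (b4 + c4) % 2)
    (hb : (b1 + b2 + b3 + b4) % 2 = 0) (hc : (c1 + c2 + c3 + c4) % 2 = 0) :
    (t1 + t2 + t3 + t4) % 2 = 0 := by
  omega

theorem inter_lemma {a : IQ} (h1 : condG cH a) (h2 : condG cHb a) :
    ∃ c, a = dbl c ∧ cond c := by
  obtain ⟨b, hb, hbc⟩ := condG_exists h1
  obtain ⟨b', hb', hbc'⟩ := condG_exists h2
  rw [conj_cH] at hb
  rw [conj_cHb] at hb'
  have h3 : mul a (cH + cHb) = zs 4 b' + zs 4 b := by rw [mul_add_right, hb, hb']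
  obtain ⟨a0, a1, a2, a3, a4, a5, a6, a7⟩ := a
  obtain ⟨b0, b1, b2, b3, b4, b5, b6, b7⟩ := b
  obtain ⟨c0, c1, c2, c3, c4, c5, c6, c7⟩ := b'
  simp only [mul, zp, zq, cH, cHb, add_def, zs, IQ.mk.injEq] at h3
  obtain ⟨e0, e1, e2, e3, e4, e5, e6, e7⟩ := h3
  ring_nf at e0 e1 e2 e3 e4 e5 e6 e7
  have k0 : a0 % 2 = 0 ∧ a0 / 2 % 2 = (b0 + c0) % 2 := by omega
  have k1 : a1 % 2 = 0 ∧ a1 / 2 % 2 = (b1 + c1) % 2 := by omega
  have k2 : a2 % 2 = 0 ∧ a2 / 2 % 2 = (b2 + c2) % 2 := by omega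
  have k3 : a3 % 2 = 0 ∧ a3 / 2 % 2 = (b3 + c3) % 2 := by omega
  have k4 : a4 % 2 = 0 ∧ a4 / 2 % 2 = (b4 + c4) % 2 := by omega
  have k5 : a5 % 2 = 0 ∧ a5 / 2 % 2 = (b5 + c5) % 2 := by omega
  have k6 : a6 % 2 = 0 ∧ a6 / 2 % 2 = (b6 + c6) % 2 := by omega
  have k7 : a7 % 2 = 0 ∧ a7 / 2 % 2 = (b7 + c7) % 2 := by omega
  clear e0 e1 e2 e3 e4 e5 e6 e7 h1 h2 hb hb'
  refine ⟨hlf ⟨a0, a1, a2, a3, a4, a5, a6, a7⟩, ?_, ?_⟩
  · simp only [dbl, hlf, add_def, IQ.mk.injEq]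
    refine ⟨?_, ?_, ?_, ?_, ?_, ?_, ?_, ?_⟩ <;> omega
  · simp only [cond] at hbc hbc'
    simp only [cond, hlf]
    exact ⟨par4 _ _ _ _ _ _ _ _ _ _ _ _ k3.2 k4.2 k6.2 k7.2 hbc.1 hbc'.1,
      par4 _ _ _ _ _ _ _ _ _ _ _ _ k2.2 k4.2 k5.2 k7.2 hbc.2.1 hbc'.2.1,
      par4 _ _ _ _ _ _ _ _ _ _ _ _ k1.2 k4.2 k5.2 k6.2 hbc.2.2.1 hbc'.2.2.1,
      par4 _ _ _ _ _ _ _ _ _ _ _ _ k0.2 k5.2 k6.2 k7.2 hbc.2.2.2 hbc'.2.2.2⟩

end IQ

open IQ

theorem smul_toH_zs (b : IQ) : toH (zs 4 b) = (4 : ℝ) • toH b := by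
  rw [toH_zs]
  norm_num

/-- the left ideal generated by an icosian of norm 2, in the model -/
theorem mem_leftIdeal_iff (g : IQ) (hg : IQ.cond g) (hn : normSq (toH g) = 2) (x : ℍ[ℝ]) :
    x ∈ leftIdeal (toH g) ↔ ∃ a : IQ, IQ.cond a ∧ condG g a ∧ x = toH a := by
  constructor
  · rintro ⟨y, hy, rfl⟩
    obtain ⟨b, hb, rfl⟩ := icosians_le_I0 hy
    have hx : toH b * toH g ∈ icosians := Subring.mul_mem _ hy (I0_le_icosians hg)
    obtain ⟨a, ha, hxa⟩ := icosians_le_I0 hx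
    refine ⟨a, ha, ?_, hxa⟩
    have h1 : toH (mul a (conj g)) = toH (zs 4 b) := by
      have h2 : toH a * toH (conj g) = (2 : ℝ) • toH b := by
        rw [← hxa, ← star_toH, mul_assoc, Quaternion.self_mul_star, hn,
          Quaternion.mul_coe_eq_smul]
      rw [toH_mul] at h2
      rw [smul_toH_zs]
      have h3 : toH (mul a (conj g)) = (2 : ℝ) • ((1 / 2 : ℝ) • toH (mul a (conj g))) := by
        rw [smul_smul]; norm_num
      rw [h3, h2, smul_smul]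
      norm_num
    have h4 := toH_injective h1
    unfold condG
    rw [h4]
    exact ⟨div4_zs b, by rw [qt4_zs]; exact hb⟩
  · rintro ⟨a, ha, ⟨hd, hc⟩, rfl⟩
    refine ⟨toH (qt4 (mul a (conj g))), I0_le_icosians hc, ?_⟩
    have h1 : toH a * star (toH g) = (2 : ℝ) • toH (qt4 (mul a (conj g))) := by
      rw [star_toH, toH_mul]
      conv_lhs => rw [← zs_qt4 hd, smul_toH_zs, smul_smul]
      norm_num
    have h2 : (2 : ℝ) • toH a = (2 : ℝ) • (toH (qt4 (mul a (conj g))) * toH g) := by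
      rw [← smul_mul_assoc, ← h1, mul_assoc, Quaternion.star_mul_self, hn,
        Quaternion.mul_coe_eq_smul]
    have h3 := congrArg (fun q => (1 / 2 : ℝ) • q) h2
    simp only [smul_smul] at h3
    norm_num at h3
    exact h3

theorem normSq_cH : normSq (toH cH) = 2 := by
  rw [normSq_toH]
  have h1 : wt cH = 8 := by decide
  have h2 : st cH = 0 := by decide
  rw [h1, h2]
  norm_num

theorem normSq_cHb : normSq (toH cHb) = 2 := by
  rw [normSq_toH]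
  have h1 : wt cHb = 8 := by decide
  have h2 : st cHb = 0 := by decide
  rw [h1, h2]
  norm_num

theorem mem_leftIdeal_icoH (x : ℍ[ℝ]) :
    x ∈ leftIdeal icoH ↔ ∃ a : IQ, IQ.cond a ∧ condG cH a ∧ x = toH a := by
  rw [← toH_cH]
  exact mem_leftIdeal_iff cH (by decide) normSq_cH x

theorem mem_leftIdeal_star_icoH (x : ℍ[ℝ]) :
    x ∈ leftIdeal (star icoH) ↔ ∃ a : IQ, IQ.cond a ∧ condG cHb a ∧ x = toH a := by
  rw [← toH_cHb]
  exact mem_leftIdeal_iff cHb (by decide) normSq_cHb x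

/-- triples of coordinate vectors -/
@[ext]
structure IQ3 where
  x : IQ
  y : IQ
  z : IQ
deriving DecidableEq

namespace IQ3

/-- the vector of a triple -/
noncomputable def toV (a : IQ3) : Fin 3 → ℍ[ℝ] := ![toH a.x, toH a.y, toH a.z]

theorem toV_zero (a : IQ3) : toV a 0 = toH a.x := rfl

theorem toV_one (a : IQ3) : toV a 1 = toH a.y := rfl

theorem toV_two (a : IQ3) : toV a 2 = toH a.z := rfl

/-- the congruences of the icosian Leech lattice -/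
def lam (a : IQ3) : Prop :=
  IQ.cond a.x ∧ IQ.cond a.y ∧ IQ.cond a.z ∧ condG cH (a.x - a.y) ∧ condG cH (a.y - a.z) ∧
    condG cHb (a.x + a.y + a.z)

instance : DecidablePred lam := fun a => by unfold lam; infer_instance

theorem toV_injective : Function.Injective toV := by
  intro a b h
  have h0 := toH_injective (congrFun h 0)
  have h1 := toH_injective (congrFun h 1)
  have h2 := toH_injective (congrFun h 2)
  exact IQ3.ext h0 h1 h2

end IQ3

open IQ3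

theorem mem_icoLeech_iff (v : Fin 3 → ℍ[ℝ]) : v ∈ icoLeech ↔ ∃ a : IQ3, lam a ∧ v = toV a := by
  constructor
  · rintro ⟨hI, h1, h2, h3⟩
    obtain ⟨a0, ha0, e0⟩ := icosians_le_I0 (hI 0)
    obtain ⟨a1, ha1, e1⟩ := icosians_le_I0 (hI 1)
    obtain ⟨a2, ha2, e2⟩ := icosians_le_I0 (hI 2)
    refine ⟨⟨a0, a1, a2⟩, ⟨ha0, ha1, ha2, ?_, ?_, ?_⟩, ?_⟩
    · obtain ⟨c, _, hc, e⟩ := (mem_leftIdeal_icoH _).1 h1
      rw [e0, e1, ← toH_sub] at e
      rw [toH_injective e]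
      exact hc
    · obtain ⟨c, _, hc, e⟩ := (mem_leftIdeal_icoH _).1 h2
      rw [e1, e2, ← toH_sub] at e
      rw [toH_injective e]
      exact hc
    · obtain ⟨c, _, hc, e⟩ := (mem_leftIdeal_star_icoH _).1 h3
      rw [e0, e1, e2, ← toH_add, ← toH_add] at e
      rw [toH_injective e]
      exact hc
    · funext t
      fin_cases t
      · exact e0
      · exact e1
      · exact e2
  · rintro ⟨a, ⟨h0, h1, h2, h3, h4, h5⟩, rfl⟩
    refine ⟨?_, ?_, ?_, ?_⟩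
    · intro t
      fin_cases t
      · exact I0_le_icosians h0
      · exact I0_le_icosians h1
      · exact I0_le_icosians h2
    · rw [toV_zero, toV_one, ← toH_sub]
      exact (mem_leftIdeal_icoH _).2 ⟨_, cond_sub h0 h1, h3, rfl⟩
    · rw [toV_one, toV_two, ← toH_sub]
      exact (mem_leftIdeal_icoH _).2 ⟨_, cond_sub h1 h2, h4, rfl⟩
    · rw [toV_zero, toV_one, toV_two, ← toH_add, ← toH_add]
      exact (mem_leftIdeal_star_icoH _).2 ⟨_, cond_add (cond_add h0 h1) h2, h5, rfl⟩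

end Cfsg.Agent.Lib.Helper8.Ico
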