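import Cfsg.Agent.Lib.Helper8.Ico3

/-! The icosian Leech lattice as a left module: generators, and integrality of the Hermitian
product. -/

set_option autoImplicit false

namespace Cfsg.Agent.Lib.Helper8.Ico

open Quaternion Cfsg.Spor IQ IQ3

/-- left multiplication of a vector by a quaternion -/
noncomputable def lsmul (a : ℍ[ℝ]) (v : Fin 3 → ℍ[ℝ]) : Fin 3 → ℍ[ℝ] := fun t => a * v t

theorem lsmul_apply (a : ℍ[ℝ]) (v : Fin 3 → ℍ[ℝ]) (t : Fin 3) : lsmul a v t = a * v t := rfl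

theorem lsmul_add (a : ℍ[ℝ]) (v w : Fin 3 → ℍ[ℝ]) : lsmul a (v + w) = lsmul a v + lsmul a w := by
  funext t; simp [lsmul, mul_add]

theorem add_lsmul (a b : ℍ[ℝ]) (v : Fin 3 → ℍ[ℝ]) : lsmul (a + b) v = lsmul a v + lsmul b v := by
  funext t; simp [lsmul, add_mul]

theorem lsmul_lsmul (a b : ℍ[ℝ]) (v : Fin 3 → ℍ[ℝ]) : lsmul a (lsmul b v) = lsmul (a * b) v := by
  funext t; simp [lsmul, mul_assoc]

theorem one_lsmul (v : Fin 3 → ℍ[ℝ]) : lsmul 1 v = v := by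
  funext t; simp [lsmul]

theorem lsmul_neg (a : ℍ[ℝ]) (v : Fin 3 → ℍ[ℝ]) : lsmul a (-v) = -lsmul a v := by
  funext t; simp [lsmul]

theorem lsmul_sub (a : ℍ[ℝ]) (v w : Fin 3 → ℍ[ℝ]) : lsmul a (v - w) = lsmul a v - lsmul a w := by
  funext t; simp [lsmul, mul_sub]

/-! closure properties of the left ideals -/

theorem leftIdeal_zero (q : ℍ[ℝ]) : (0 : ℍ[ℝ]) ∈ leftIdeal q :=
  ⟨0, Subring.zero_mem _, by rw [zero_mul]⟩

theorem leftIdeal_add {q x y : ℍ[ℝ]} (hx : x ∈ leftIdeal q) (hy : y ∈ leftIdeal q) :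
    x + y ∈ leftIdeal q := by
  obtain ⟨a, ha, rfl⟩ := hx
  obtain ⟨b, hb, rfl⟩ := hy
  exact ⟨a + b, Subring.add_mem _ ha hb, by rw [add_mul]⟩

theorem leftIdeal_neg {q x : ℍ[ℝ]} (hx : x ∈ leftIdeal q) : -x ∈ leftIdeal q := by
  obtain ⟨a, ha, rfl⟩ := hx
  exact ⟨-a, Subring.neg_mem _ ha, by rw [neg_mul]⟩

theorem leftIdeal_sub {q x y : ℍ[ℝ]} (hx : x ∈ leftIdeal q) (hy : y ∈ leftIdeal q) :
    x - y ∈ leftIdeal q := by
  rw [sub_eq_add_neg]
  exact leftIdeal_add hx (leftIdeal_neg hy)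

theorem leftIdeal_mul {q x a : ℍ[ℝ]} (ha : a ∈ icosians) (hx : x ∈ leftIdeal q) :
    a * x ∈ leftIdeal q := by
  obtain ⟨b, hb, rfl⟩ := hx
  exact ⟨a * b, Subring.mul_mem _ ha hb, by rw [mul_assoc]⟩

/-! closure properties of the lattice -/

theorem leech_add {v w : Fin 3 → ℍ[ℝ]} (hv : v ∈ icoLeech) (hw : w ∈ icoLeech) :
    v + w ∈ icoLeech := by
  obtain ⟨h0, h1, h2, h3⟩ := hv
  obtain ⟨k0, k1, k2, k3⟩ := hw
  refine ⟨fun t => Subring.add_mem _ (h0 t) (k0 t), ?_, ?_, ?_⟩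
  · have := leftIdeal_add h1 k1
    simp only [Pi.add_apply]
    convert this using 1
    abel
  · have := leftIdeal_add h2 k2
    simp only [Pi.add_apply]
    convert this using 1
    abel
  · have := leftIdeal_add h3 k3
    simp only [Pi.add_apply]
    convert this using 1
    abel

theorem leech_neg {v : Fin 3 → ℍ[ℝ]} (hv : v ∈ icoLeech) : -v ∈ icoLeech := by
  obtain ⟨h0, h1, h2, h3⟩ := hv
  refine ⟨fun t => Subring.neg_mem _ (h0 t), ?_, ?_, ?_⟩
  · have := leftIdeal_neg h1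
    simp only [Pi.neg_apply]
    convert this using 1
    abel
  · have := leftIdeal_neg h2
    simp only [Pi.neg_apply]
    convert this using 1
    abel
  · have := leftIdeal_neg h3
    simp only [Pi.neg_apply]
    convert this using 1
    abel

theorem leech_sub {v w : Fin 3 → ℍ[ℝ]} (hv : v ∈ icoLeech) (hw : w ∈ icoLeech) :
    v - w ∈ icoLeech := by
  rw [sub_eq_add_neg]
  exact leech_add hv (leech_neg hw)

theorem leech_zero : (0 : Fin 3 → ℍ[ℝ]) ∈ icoLeech := by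
  refine ⟨fun t => Subring.zero_mem _, ?_, ?_, ?_⟩ <;> simp only [Pi.zero_apply, sub_zero, add_zero]
    <;> exact leftIdeal_zero _

theorem leech_lsmul {a : ℍ[ℝ]} (ha : a ∈ icosians) {v : Fin 3 → ℍ[ℝ]} (hv : v ∈ icoLeech) :
    lsmul a v ∈ icoLeech := by
  obtain ⟨h0, h1, h2, h3⟩ := hv
  refine ⟨fun t => Subring.mul_mem _ ha (h0 t), ?_, ?_, ?_⟩
  · have := leftIdeal_mul ha h1
    simp only [lsmul_apply]
    rwa [mul_sub] at this
  · have := leftIdeal_mul ha h2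
    simp only [lsmul_apply]
    rwa [mul_sub] at this
  · have := leftIdeal_mul ha h3
    simp only [lsmul_apply]
    rwa [mul_add, mul_add] at this

/-! generators -/

/-- the coordinates of the three generators -/
def GM : Fin 3 → IQ3 :=
  ![⟨cHb, cOne, cOne⟩, ⟨-cH, cH, 0⟩, ⟨⟨4, 0, 0, 0, 0, 0, 0, 0⟩, 0, 0⟩]

theorem lam_GM : ∀ i : Fin 3, lam (GM i) := by decide

/-- the three generators -/
noncomputable def gv (i : Fin 3) : Fin 3 → ℍ[ℝ] := toV (GM i)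

theorem gv_mem (i : Fin 3) : gv i ∈ icoLeech := (mem_icoLeech_iff _).2 ⟨_, lam_GM i, rfl⟩

theorem toH_four : toH ⟨4, 0, 0, 0, 0, 0, 0, 0⟩ = ((2 : ℝ) : ℍ[ℝ]) := by
  ext <;> simp [toH_re, toH_imI, toH_imJ, toH_imK] <;> norm_num

theorem gv0 : gv 0 = ![star icoH, 1, 1] := by
  unfold gv toV
  simp only [GM, Matrix.cons_val_zero, toH_cHb, toH_cOne]

theorem gv1 : gv 1 = ![-icoH, icoH, 0] := by
  unfold gv toV
  simp only [GM, Matrix.cons_val_one, Matrix.cons_val_zero, toH_neg, toH_cH, toH_zero]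

theorem gv2 : gv 2 = ![((2 : ℝ) : ℍ[ℝ]), 0, 0] := by
  unfold gv toV
  simp only [GM, Matrix.cons_val_two, Matrix.tail_cons, Matrix.head_cons, toH_four, toH_zero]

theorem exists_decomp {v : Fin 3 → ℍ[ℝ]} (hv : v ∈ icoLeech) :
    ∃ a b c : ℍ[ℝ], a ∈ icosians ∧ b ∈ icosians ∧ c ∈ icosians ∧
      v = lsmul a (gv 0) + lsmul b (gv 1) + lsmul c (gv 2) := by
  have hz : v 2 ∈ icosians := hv.1 2
  have hv1 : v - lsmul (v 2) (gv 0) ∈ icoLeech := leech_sub hv (leech_lsmul hz (gv_mem 0))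
  obtain ⟨b, hb, hbe⟩ := hv1.2.2.1
  have hv2 : v - lsmul (v 2) (gv 0) - lsmul b (gv 1) ∈ icoLeech :=
    leech_sub hv1 (leech_lsmul hb (gv_mem 1))
  have e1 : (v - lsmul (v 2) (gv 0) - lsmul b (gv 1)) 1 = 0 := by
    simp only [Pi.sub_apply, lsmul_apply, gv0, gv1, Matrix.cons_val_one, Matrix.cons_val_zero,
      Matrix.cons_val_two, Matrix.tail_cons, Matrix.head_cons, mul_one] at hbe ⊢
    rw [sub_self, sub_zero] at hbe
    rw [hbe, sub_self]
  have e2 : (v - lsmul (v 2) (gv 0) - lsmul b (gv 1)) 2 = 0 := by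
    simp only [Pi.sub_apply, lsmul_apply, gv0, gv1, Matrix.cons_val_two, Matrix.tail_cons,
      Matrix.head_cons, mul_one, mul_zero, sub_self, sub_zero]
  obtain ⟨_, k1, _, k3⟩ := hv2
  rw [e1, sub_zero] at k1
  rw [e1, e2, add_zero, add_zero] at k3
  obtain ⟨a1, _, c1, ea1⟩ := (mem_leftIdeal_icoH _).1 k1
  obtain ⟨a2, _, c2, ea2⟩ := (mem_leftIdeal_star_icoH _).1 k3
  have e12 : a2 = a1 := toH_injective (ea2.symm.trans ea1)
  rw [e12] at c2
  obtain ⟨c, hc, hcc⟩ := inter_lemma c1 c2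
  refine ⟨v 2, b, toH c, hz, hb, I0_le_icosians hcc, ?_⟩
  have e0 : (v - lsmul (v 2) (gv 0) - lsmul b (gv 1)) 0 = toH c * ((2 : ℝ) : ℍ[ℝ]) := by
    rw [ea1, hc, dbl, toH_add, Quaternion.mul_coe_eq_smul, two_smul]
  funext t
  fin_cases t
  · show v 0 = (lsmul (v 2) (gv 0) + lsmul b (gv 1) + lsmul (toH c) (gv 2)) 0
    have := e0
    simp only [Pi.sub_apply, Pi.add_apply, lsmul_apply] at this ⊢
    have h2 : gv 2 0 = ((2 : ℝ) : ℍ[ℝ]) := by rw [gv2]; rfl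
    rw [h2, ← this]
    abel
  · show v 1 = (lsmul (v 2) (gv 0) + lsmul b (gv 1) + lsmul (toH c) (gv 2)) 1
    have := e1
    simp only [Pi.sub_apply, Pi.add_apply, lsmul_apply] at this ⊢
    have h2 : gv 2 1 = 0 := by rw [gv2]; rfl
    rw [h2, mul_zero, add_zero]
    rw [sub_sub, sub_eq_zero] at this
    exact this
  · show v 2 = (lsmul (v 2) (gv 0) + lsmul b (gv 1) + lsmul (toH c) (gv 2)) 2
    have := e2
    simp only [Pi.sub_apply, Pi.add_apply, lsmul_apply] at this ⊢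
    have h2 : gv 2 2 = 0 := by rw [gv2]; rfl
    rw [h2, mul_zero, add_zero]
    rw [sub_sub, sub_eq_zero] at this
    exact this

end Cfsg.Agent.Lib.Helper8.Ico
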