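import Cfsg.Agent.Lib.Helper8.Ico4

/-! The Hermitian product on the icosian Leech lattice and the quaternionic reflections. -/

set_option autoImplicit false

namespace Cfsg.Agent.Lib.Helper8.Ico

open Quaternion Cfsg.Spor IQ IQ3

theorem qip_def (x r : Fin 3 → ℍ[ℝ]) :
    qip x r = x 0 * star (r 0) + x 1 * star (r 1) + x 2 * star (r 2) := by
  unfold qip
  rw [Fin.sum_univ_three]

theorem qip_add_left (x y r : Fin 3 → ℍ[ℝ]) : qip (x + y) r = qip x r + qip y r := by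
  simp only [qip_def, Pi.add_apply, add_mul]
  abel

theorem qip_sub_left (x y r : Fin 3 → ℍ[ℝ]) : qip (x - y) r = qip x r - qip y r := by
  simp only [qip_def, Pi.sub_apply, sub_mul]
  abel

theorem qip_add_right (x r s : Fin 3 → ℍ[ℝ]) : qip x (r + s) = qip x r + qip x s := by
  simp only [qip_def, Pi.add_apply, star_add, mul_add]
  abel

theorem qip_sub_right (x r s : Fin 3 → ℍ[ℝ]) : qip x (r - s) = qip x r - qip x s := by
  simp only [qip_def, Pi.sub_apply, star_sub, mul_sub]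
  abel

theorem qip_lsmul_left (a : ℍ[ℝ]) (x r : Fin 3 → ℍ[ℝ]) : qip (lsmul a x) r = a * qip x r := by
  simp only [qip_def, lsmul_apply, mul_add, mul_assoc]

theorem qip_lsmul_right (a : ℍ[ℝ]) (x r : Fin 3 → ℍ[ℝ]) :
    qip x (lsmul a r) = qip x r * star a := by
  simp only [qip_def, lsmul_apply, star_mul, add_mul, mul_assoc]

theorem star_qip (x r : Fin 3 → ℍ[ℝ]) : star (qip x r) = qip r x := by
  simp only [qip_def, star_add, star_mul, star_star]

/-- the Hermitian product in the model -/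
def qipM (a b : IQ3) : IQ :=
  mul a.x (conj b.x) + mul a.y (conj b.y) + mul a.z (conj b.z)

theorem qip_toV (a b : IQ3) : qip (toV a) (toV b) = (1 / 2 : ℝ) • toH (qipM a b) := by
  rw [qip_def, toV_zero, toV_one, toV_two, toV_zero, toV_one, toV_two, star_toH, star_toH,
    star_toH, toH_mul, toH_mul, toH_mul, qipM, toH_add, toH_add, smul_add, smul_add]

theorem GM_qip : ∀ i j : Fin 3,
    div4 (qipM (GM i) (GM j)) ∧ IQ.cond (qt4 (qipM (GM i) (GM j))) := by decide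

/-- twice an icosian -/
def Two (q : ℍ[ℝ]) : Prop := ∃ c ∈ icosians, q = (2 : ℝ) • c

theorem Two_add {p q : ℍ[ℝ]} (hp : Two p) (hq : Two q) : Two (p + q) := by
  obtain ⟨c, hc, rfl⟩ := hp
  obtain ⟨d, hd, rfl⟩ := hq
  exact ⟨c + d, Subring.add_mem _ hc hd, by rw [smul_add]⟩

theorem Two_mul {a b q : ℍ[ℝ]} (ha : a ∈ icosians) (hb : b ∈ icosians) (hq : Two q) :
    Two (a * q * star b) := by
  obtain ⟨c, hc, rfl⟩ := hq
  refine ⟨a * c * star b, Subring.mul_mem _ (Subring.mul_mem _ ha hc) (star_mem_icosians hb), ?_⟩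
  rw [mul_smul_comm, smul_mul_assoc]

theorem gv_qip (i j : Fin 3) : Two (qip (gv i) (gv j)) := by
  obtain ⟨h1, h2⟩ := GM_qip i j
  refine ⟨toH (qt4 (qipM (GM i) (GM j))), I0_le_icosians h2, ?_⟩
  unfold gv
  rw [qip_toV]
  conv_lhs => rw [← zs_qt4 h1, smul_toH_zs, smul_smul]
  norm_num

theorem Two_gen {a b : ℍ[ℝ]} (ha : a ∈ icosians) (hb : b ∈ icosians) (i j : Fin 3) :
    Two (qip (lsmul a (gv i)) (lsmul b (gv j))) := by
  rw [qip_lsmul_left, qip_lsmul_right, ← mul_assoc]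
  exact Two_mul ha hb (gv_qip i j)

theorem Two_qip {x y : Fin 3 → ℍ[ℝ]} (hx : x ∈ icoLeech) (hy : y ∈ icoLeech) : Two (qip x y) := by
  obtain ⟨a0, a1, a2, h0, h1, h2, rfl⟩ := exists_decomp hx
  obtain ⟨b0, b1, b2, k0, k1, k2, rfl⟩ := exists_decomp hy
  have hR : ∀ (a : ℍ[ℝ]) (_ : a ∈ icosians) (i : Fin 3), Two (qip (lsmul a (gv i))
      (lsmul b0 (gv 0) + lsmul b1 (gv 1) + lsmul b2 (gv 2))) := by
    intro a ha i
    rw [qip_add_right, qip_add_right]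
    exact Two_add (Two_add (Two_gen ha k0 i 0) (Two_gen ha k1 i 1)) (Two_gen ha k2 i 2)
  rw [qip_add_left, qip_add_left]
  exact Two_add (Two_add (hR a0 h0 0) (hR a1 h1 1)) (hR a2 h2 2)

theorem half_qip_mem {x y : Fin 3 → ℍ[ℝ]} (hx : x ∈ icoLeech) (hy : y ∈ icoLeech) :
    (1 / 2 : ℝ) • qip x y ∈ icosians := by
  obtain ⟨c, hc, e⟩ := Two_qip hx hy
  rw [e, smul_smul]
  norm_num
  exact hc

/-! reflections -/

theorem qrefl_eq (r x : Fin 3 → ℍ[ℝ]) : qrefl r x = x - lsmul ((1 / 2 : ℝ) • qip x r) r := rfl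

theorem qrefl_mem {r x : Fin 3 → ℍ[ℝ]} (hr : r ∈ icoLeech) (hx : x ∈ icoLeech) :
    qrefl r x ∈ icoLeech := by
  rw [qrefl_eq]
  exact leech_sub hx (leech_lsmul (half_qip_mem hx hr) hr)

theorem qrefl_add (r x y : Fin 3 → ℍ[ℝ]) : qrefl r (x + y) = qrefl r x + qrefl r y := by
  simp only [qrefl_eq, qip_add_left, smul_add, add_lsmul]
  abel

theorem qrefl_lsmul (r : Fin 3 → ℍ[ℝ]) (a : ℍ[ℝ]) (x : Fin 3 → ℍ[ℝ]) :
    qrefl r (lsmul a x) = lsmul a (qrefl r x) := by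
  simp only [qrefl_eq, qip_lsmul_left, lsmul_sub, lsmul_lsmul, mul_smul_comm]

theorem four_eq : (4 : ℍ[ℝ]) = ((4 : ℝ) : ℍ[ℝ]) := by norm_cast

theorem qip_qrefl_self {r : Fin 3 → ℍ[ℝ]} (h4 : qip r r = 4) (x : Fin 3 → ℍ[ℝ]) :
    qip (qrefl r x) r = -qip x r := by
  rw [qrefl_eq, qip_sub_left, qip_lsmul_left, h4, four_eq, Quaternion.mul_coe_eq_smul, smul_smul]
  norm_num
  rw [two_smul]
  abel

theorem qrefl_qrefl {r : Fin 3 → ℍ[ℝ]} (h4 : qip r r = 4) (x : Fin 3 → ℍ[ℝ]) :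
    qrefl r (qrefl r x) = x := by
  rw [qrefl_eq r (qrefl r x), qip_qrefl_self h4, qrefl_eq]
  funext t
  simp only [Pi.sub_apply, lsmul_apply, smul_neg, neg_mul]
  abel

theorem qip_qrefl {r : Fin 3 → ℍ[ℝ]} (h4 : qip r r = 4) (x y : Fin 3 → ℍ[ℝ]) :
    qip (qrefl r x) (qrefl r y) = qip x y := by
  have h1 : qip (qrefl r x) (qrefl r y)
      = qip (qrefl r x) y - qip (qrefl r x) r * star ((1 / 2 : ℝ) • qip y r) := by
    rw [qrefl_eq r y, qip_sub_right, qip_lsmul_right]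
  rw [h1, qip_qrefl_self h4, qrefl_eq, qip_sub_left, qip_lsmul_left, Quaternion.star_smul,
    star_qip, smul_mul_assoc, mul_smul_comm, neg_mul, smul_neg]
  abel

end Cfsg.Agent.Lib.Helper8.Ico
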