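import Cfsg.Agent.Lib.Helper8.Ico5

/-! Reflections as permutations of the icosian Leech lattice; the group of the linear isometries
among the permutations. -/

set_option autoImplicit false

namespace Cfsg.Agent.Lib.Helper8.Ico

open Quaternion Cfsg.Spor IQ IQ3

/-- sum in the lattice -/
noncomputable def addL (x y : icoLeech) : icoLeech := ⟨x.1 + y.1, leech_add x.2 y.2⟩

/-- multiples in the lattice -/
noncomputable def smulL (a : ℍ[ℝ]) (ha : a ∈ icosians) (x : icoLeech) : icoLeech :=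
  ⟨lsmul a x.1, leech_lsmul ha x.2⟩

/-- opposite in the lattice -/
noncomputable def negL (x : icoLeech) : icoLeech := ⟨-x.1, leech_neg x.2⟩

theorem coe_addL (x y : icoLeech) : ((addL x y : icoLeech) : Fin 3 → ℍ[ℝ]) = x.1 + y.1 := rfl

theorem coe_smulL (a : ℍ[ℝ]) (ha : a ∈ icosians) (x : icoLeech) :
    ((smulL a ha x : icoLeech) : Fin 3 → ℍ[ℝ]) = lsmul a x.1 := rfl

theorem coe_negL (x : icoLeech) : ((negL x : icoLeech) : Fin 3 → ℍ[ℝ]) = -x.1 := rfl

/-- a permutation of the lattice which is additive, linear over the icosians and an isometry -/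
def IsLin (g : Equiv.Perm icoLeech) : Prop :=
  (∀ x y, g (addL x y) = addL (g x) (g y)) ∧
    (∀ a (ha : a ∈ icosians) x, g (smulL a ha x) = smulL a ha (g x)) ∧
    ∀ x y : icoLeech, qip (g x).1 (g y).1 = qip x.1 y.1

theorem isLin_one : IsLin 1 := ⟨fun _ _ => rfl, fun _ _ _ => rfl, fun _ _ => rfl⟩

theorem IsLin.mul {g h : Equiv.Perm icoLeech} (hg : IsLin g) (hh : IsLin h) : IsLin (g * h) := by
  refine ⟨fun x y => ?_, fun a ha x => ?_, fun x y => ?_⟩
  · rw [Equiv.Perm.mul_apply, hh.1, hg.1]; rfl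
  · rw [Equiv.Perm.mul_apply, hh.2.1, hg.2.1]; rfl
  · rw [Equiv.Perm.mul_apply, Equiv.Perm.mul_apply, hg.2.2, hh.2.2]

theorem IsLin.inv {g : Equiv.Perm icoLeech} (hg : IsLin g) : IsLin g⁻¹ := by
  refine ⟨fun x y => ?_, fun a ha x => ?_, fun x y => ?_⟩
  · apply g.injective
    rw [hg.1]
    simp only [Equiv.Perm.coe_inv, Equiv.apply_symm_apply]
  · apply g.injective
    rw [hg.2.1]
    simp only [Equiv.Perm.coe_inv, Equiv.apply_symm_apply]
  · have h := hg.2.2 (g⁻¹ x) (g⁻¹ y)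
    simp only [Equiv.Perm.coe_inv, Equiv.apply_symm_apply] at h
    exact h.symm

/-- the group of these permutations -/
def Uni : Subgroup (Equiv.Perm icoLeech) where
  carrier := {g | IsLin g}
  one_mem' := isLin_one
  mul_mem' := fun hg hh => hg.mul hh
  inv_mem' := fun hg => hg.inv

theorem mem_Uni (g : Equiv.Perm icoLeech) : g ∈ Uni ↔ IsLin g := Iff.rfl

/-- the reflection in a vector of the lattice with `r · r = 4` -/
noncomputable def reflP (r : icoLeech) (h4 : qip r.1 r.1 = 4) : Equiv.Perm icoLeech where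
  toFun x := ⟨qrefl r.1 x.1, qrefl_mem r.2 x.2⟩
  invFun x := ⟨qrefl r.1 x.1, qrefl_mem r.2 x.2⟩
  left_inv x := Subtype.ext (qrefl_qrefl h4 x.1)
  right_inv x := Subtype.ext (qrefl_qrefl h4 x.1)

theorem reflP_apply (r : icoLeech) (h4 : qip r.1 r.1 = 4) (x : icoLeech) :
    ((reflP r h4 x : icoLeech) : Fin 3 → ℍ[ℝ]) = qrefl r.1 x.1 := rfl

theorem isIcoReflection_reflP (r : icoLeech) (h4 : qip r.1 r.1 = 4) :
    IsIcoReflection (reflP r h4) := ⟨r, h4, fun _ => rfl⟩

theorem eq_reflP {f : Equiv.Perm icoLeech} (hf : IsIcoReflection f) :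
    ∃ (r : icoLeech) (h4 : qip r.1 r.1 = 4), f = reflP r h4 := by
  obtain ⟨r, h4, h⟩ := hf
  exact ⟨r, h4, Equiv.ext fun x => Subtype.ext (h x)⟩

theorem isLin_reflP (r : icoLeech) (h4 : qip r.1 r.1 = 4) : IsLin (reflP r h4) := by
  refine ⟨fun x y => ?_, fun a ha x => ?_, fun x y => ?_⟩
  · apply Subtype.ext
    rw [reflP_apply, coe_addL, coe_addL, reflP_apply, reflP_apply, qrefl_add]
  · apply Subtype.ext
    rw [reflP_apply, coe_smulL, coe_smulL, reflP_apply, qrefl_lsmul]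
  · rw [reflP_apply, reflP_apply, qip_qrefl h4]

theorem twoJ2_le_Uni : twoJ2 ≤ Uni := by
  unfold twoJ2
  rw [Subgroup.closure_le]
  intro f hf
  obtain ⟨r, h4, rfl⟩ := eq_reflP hf
  exact isLin_reflP r h4

theorem reflP_mem_twoJ2 (r : icoLeech) (h4 : qip r.1 r.1 = 4) : reflP r h4 ∈ twoJ2 :=
  Subgroup.subset_closure (isIcoReflection_reflP r h4)

theorem qip_image {g : Equiv.Perm icoLeech} (hg : IsLin g) {r : icoLeech}
    (h4 : qip r.1 r.1 = 4) : qip (g r).1 (g r).1 = 4 := by rw [hg.2.2, h4]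

/-- the reflection in a vector as a sum in the lattice -/
theorem reflP_eq (r : icoLeech) (h4 : qip r.1 r.1 = 4) (x : icoLeech) :
    reflP r h4 x = addL x (smulL (-((1 / 2 : ℝ) • qip x.1 r.1))
      (Subring.neg_mem _ (half_qip_mem x.2 r.2)) r) := by
  apply Subtype.ext
  rw [reflP_apply, coe_addL, coe_smulL, qrefl_eq]
  funext t
  simp only [Pi.sub_apply, Pi.add_apply, lsmul_apply, neg_mul]
  abel

/-- conjugates of reflections -/
theorem conj_reflP {g : Equiv.Perm icoLeech} (hg : IsLin g) (r : icoLeech)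
    (h4 : qip r.1 r.1 = 4) : g * reflP r h4 * g⁻¹ = reflP (g r) (qip_image hg h4) := by
  apply Equiv.ext
  intro y
  rw [Equiv.Perm.mul_apply, Equiv.Perm.mul_apply, reflP_eq, hg.1, hg.2.1, reflP_eq]
  have e : g (g⁻¹ y) = y := by simp
  have e2 : qip (g⁻¹ y).1 r.1 = qip y.1 (g r).1 := by
    rw [← hg.2.2, e]
  apply Subtype.ext
  simp only [coe_addL, coe_smulL, e, e2]

/-- multiplying the vector by a unit does not change the reflection -/
theorem qrefl_lsmul_unit {u : ℍ[ℝ]} (hu : normSq u = 1) (r x : Fin 3 → ℍ[ℝ]) :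
    qrefl (lsmul u r) x = qrefl r x := by
  rw [qrefl_eq, qrefl_eq, qip_lsmul_right, lsmul_lsmul, ← smul_mul_assoc, mul_assoc,
    Quaternion.star_mul_self, hu]
  simp

end Cfsg.Agent.Lib.Helper8.Ico
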