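import Cfsg.Agent.Lib.Helper8.IcoM3

/-!
The action of the linear isometries of the icosian Leech lattice on the 315 lines of minimal
vectors.
-/

namespace Cfsg.Agent.Lib.Helper8.Ico

open Cfsg.Spor Quaternion IQ IQ3

/-- the `k`-th canonical vector -/
def Rg (k : ℕ) : IQ3 := Rl.getD k ⟨0, 0, 0⟩

theorem Rg_eq {k : ℕ} (hk : k < 315) : Rg k = Rl[k]'(by rw [Rl_length]; exact hk) := by
  unfold Rg
  rw [List.getD_eq_getElem _ _ (by rw [Rl_length]; exact hk)]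

theorem Rg_mem {k : ℕ} (hk : k < 315) : Rg k ∈ Rl := by
  rw [Rg_eq hk]
  exact List.getElem_mem _

theorem exists_Rg {r : IQ3} (hr : r ∈ Rl) : ∃ k < 315, Rg k = r := by
  obtain ⟨k, hk, e⟩ := List.getElem_of_mem hr
  have hk' : k < 315 := by rw [← Rl_length]; exact hk
  exact ⟨k, hk', by rw [Rg_eq hk']; exact e⟩

theorem Rg_inj {k k' : ℕ} (hk : k < 315) (hk' : k' < 315) (h : Rg k = Rg k') : k = k' := by
  rw [Rg_eq hk, Rg_eq hk'] at h
  exact (Rl_nodup.getElem_inj_iff).1 h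

/-- the vector `v` lies on the `k`-th line -/
def Ln (v : Fin 3 → ℍ[ℝ]) (k : ℕ) : Prop := ∃ u, IsU u ∧ v = lsmul (toH u) (toV (Rg k))

theorem Ln_exists {v : Fin 3 → ℍ[ℝ]} (hv : v ∈ MinV) : ∃ k < 315, Ln v k := by
  obtain ⟨u, hu, r, hr, e⟩ := min_complete hv.1 hv.2
  obtain ⟨k, hk, rfl⟩ := exists_Rg hr
  exact ⟨k, hk, u, hu, e⟩

theorem Ln_unique {v : Fin 3 → ℍ[ℝ]} {k k' : ℕ} (hk : k < 315) (hk' : k' < 315) (h : Ln v k)
    (h' : Ln v k') : k = k' := by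
  obtain ⟨u, hu, e⟩ := h
  obtain ⟨u', hu', e'⟩ := h'
  have := can_unique hu hu' (Rg_mem hk) (Rg_mem hk') (e.symm.trans e')
  exact Rg_inj hk hk' this.2

theorem isU_mul {u w : IQ} (hu : IsU u) (hw : IsU w) : ∃ z, IsU z ∧ toH w * toH u = toH z := by
  have hq : toH w * toH u ∈ icosians := Subring.mul_mem _ (isU_mem hw) (isU_mem hu)
  have hn : normSq (toH w * toH u) = 1 := by
    rw [map_mul, normSq_of_isU hu, normSq_of_isU hw, one_mul]
  exact isU_of_normSq hq hn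

theorem Ln_smul {v : Fin 3 → ℍ[ℝ]} {k : ℕ} (h : Ln v k) {w : IQ} (hw : IsU w) :
    Ln (lsmul (toH w) v) k := by
  obtain ⟨u, hu, rfl⟩ := h
  obtain ⟨z, hz, e⟩ := isU_mul hu hw
  exact ⟨z, hz, by rw [lsmul_lsmul, e]⟩

theorem isU_cOne : IsU cOne := by decide

theorem Ln_self (k : ℕ) : Ln (toV (Rg k)) k :=
  ⟨cOne, isU_cOne, by rw [toH_cOne, one_lsmul]⟩

/-- the canonical vectors in the lattice -/
noncomputable def rvec (k : Fin 315) : icoLeech := ⟨toV (Rg k.1), (Rl_mem (Rg_mem k.2)).1⟩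

theorem rvec_qip (k : Fin 315) : qip (rvec k).1 (rvec k).1 = 4 := (Rl_mem (Rg_mem k.2)).2

theorem image_mem_MinV {g : Equiv.Perm icoLeech} (hg : IsLin g) (k : Fin 315) :
    (g (rvec k)).1 ∈ MinV := ⟨(g (rvec k)).2, qip_image hg (rvec_qip k)⟩

theorem exists_act {g : Equiv.Perm icoLeech} (hg : IsLin g) (k : Fin 315) :
    ∃ j : Fin 315, Ln (g (rvec k)).1 j.1 := by
  obtain ⟨j, hj, h⟩ := Ln_exists (image_mem_MinV hg k)
  exact ⟨⟨j, hj⟩, h⟩

/-- the action on the lines -/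
noncomputable def actFun (g : Uni) (k : Fin 315) : Fin 315 := Classical.choose (exists_act g.2 k)

theorem actFun_spec (g : Uni) (k : Fin 315) : Ln (g.1 (rvec k)).1 (actFun g k).1 :=
  Classical.choose_spec (exists_act g.2 k)

theorem actFun_eq {g : Uni} {k j : Fin 315} (h : Ln (g.1 (rvec k)).1 j.1) : actFun g k = j :=
  Fin.ext (Ln_unique (actFun g k).2 j.2 (actFun_spec g k) h)

theorem Ln_image {g : Equiv.Perm icoLeech} (hg : IsLin g) {x : icoLeech} {k : Fin 315}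
    (h : Ln x.1 k.1) {j : Fin 315} (hj : Ln (g (rvec k)).1 j.1) : Ln (g x).1 j.1 := by
  obtain ⟨u, hu, e⟩ := h
  have ex : x = smulL (toH u) (isU_mem hu) (rvec k) := Subtype.ext e
  rw [ex, hg.2.1, coe_smulL]
  exact Ln_smul hj hu

noncomputable instance : MulAction Uni (Fin 315) where
  smul g k := actFun g k
  one_smul k := actFun_eq (Ln_self k.1)
  mul_smul g h k := actFun_eq (Ln_image g.2 (actFun_spec h k) (actFun_spec g _))

theorem smul_eq {g : Uni} {k j : Fin 315} (h : Ln (g.1 (rvec k)).1 j.1) : g • k = j := actFun_eq h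

theorem smul_spec (g : Uni) (k : Fin 315) : Ln (g.1 (rvec k)).1 (g • k).1 := actFun_spec g k

theorem mod_aux {V : Type*} [AddCommGroup V] [Module ℝ V] (A M N : V)
    (h : (8 : ℝ) • A - M = (4 : ℝ) • N) :
    A - (1 / 2 : ℝ) • (1 / 2 : ℝ) • (1 / 2 : ℝ) • M = (1 / 2 : ℝ) • N := by
  have e : M = (8 : ℝ) • A - (4 : ℝ) • N := by
    rw [← h]
    abel
  rw [e]
  module

theorem refl_coord {a b u c : IQ} (Q : IQ)
    (h : zs 8 a - mul Q b = zs 4 (mul u c)) :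
    toH a - ((1 / 2 : ℝ) • ((1 / 2 : ℝ) • toH Q)) * toH b = toH u * toH c := by
  have h' := congrArg toH h
  rw [toH_sub, toH_zs, toH_zs] at h'
  rw [smul_mul_assoc, smul_mul_assoc, toH_mul, toH_mul]
  exact mod_aux _ _ _ (by exact_mod_cast h')

/-- the reflection computed in the model -/
theorem refl_sound {a b c : IQ3} {u : IQ}
    (hx : zs 8 a.x - mul (qipM a b) b.x = zs 4 (mul u c.x))
    (hy : zs 8 a.y - mul (qipM a b) b.y = zs 4 (mul u c.y))
    (hz : zs 8 a.z - mul (qipM a b) b.z = zs 4 (mul u c.z)) :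
    qrefl (toV b) (toV a) = lsmul (toH u) (toV c) := by
  funext t
  rw [qrefl_eq, qip_toV]
  rcases fin3_cases t with rfl | rfl | rfl
  · simp only [Pi.sub_apply, lsmul_apply, toV_zero]
    exact refl_coord _ hx
  · simp only [Pi.sub_apply, lsmul_apply, toV_one]
    exact refl_coord _ hy
  · simp only [Pi.sub_apply, lsmul_apply, toV_two]
    exact refl_coord _ hz

/-- the reflection in the `g`-th canonical vector -/
noncomputable def tU (g : Fin 315) : Uni :=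
  ⟨reflP (rvec g) (rvec_qip g), isLin_reflP (rvec g) (rvec_qip g)⟩

theorem tU_mem (g : Fin 315) : (tU g).1 ∈ twoJ2 := reflP_mem_twoJ2 (rvec g) (rvec_qip g)

/-- the check of an entry `(k, j, code of u)` of the table of the reflection in the `g`-th
vector -/
def TabOK (g : ℕ) (e : ℕ × ℕ × ℕ) : Prop :=
  IsU (dec5 e.2.2) ∧ e.2.1 < 315 ∧
    zs 8 (Rg e.1).x - mul (qipM (Rg e.1) (Rg g)) (Rg g).x = zs 4 (mul (dec5 e.2.2) (Rg e.2.1).x) ∧
    zs 8 (Rg e.1).y - mul (qipM (Rg e.1) (Rg g)) (Rg g).y = zs 4 (mul (dec5 e.2.2) (Rg e.2.1).y) ∧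
    zs 8 (Rg e.1).z - mul (qipM (Rg e.1) (Rg g)) (Rg g).z = zs 4 (mul (dec5 e.2.2) (Rg e.2.1).z)

instance (g : ℕ) (e : ℕ × ℕ × ℕ) : Decidable (TabOK g e) := by unfold TabOK; infer_instance

theorem tU_smul {g k : Fin 315} {e : ℕ × ℕ × ℕ} (he : TabOK g.1 e) (hk : e.1 = k.1) :
    tU g • k = ⟨e.2.1, he.2.1⟩ := by
  apply smul_eq
  obtain ⟨h1, h2, hx, hy, hz⟩ := he
  rw [hk] at hx hy hz
  exact ⟨_, h1, refl_sound hx hy hz⟩

end Cfsg.Agent.Lib.Helper8.Ico
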