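import Cfsg.Agent.Lib.Helper8.Ico6

/-! Enumeration of the vectors of the icosian Leech lattice with `v · v = 4`, in the integral
model: the generic part. -/

set_option autoImplicit false

namespace Cfsg.Agent.Lib.Helper8.Ico

open IQ IQ3

/-- the possible coordinates -/
def cands : List ℤ := [-4, -3, -2, -1, 0, 1, 2, 3, 4]

/-- the lists of `k` integers whose squares add up to `w` (for `w ≤ 16`) -/
def sqs : ℕ → ℤ → List (List ℤ)
  | 0, w => if w = 0 then [[]] else []
  | k + 1, w => cands.flatMap fun x =>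
      if x * x ≤ w then (sqs k (w - x * x)).map (fun l => x :: l) else []

theorem sq_sum_nonneg (l : List ℤ) : 0 ≤ (l.map fun x => x * x).sum := by
  induction l with
  | nil => simp
  | cons x l ih =>
    simp only [List.map_cons, List.sum_cons]
    have := mul_self_nonneg x
    omega

theorem mem_cands {x : ℤ} (h : x * x ≤ 16) : x ∈ cands := by
  have h1 : -4 ≤ x := by nlinarith
  have h2 : x ≤ 4 := by nlinarith
  unfold cands
  interval_cases x <;> simp

theorem mem_sqs : ∀ (k : ℕ) (w : ℤ) (l : List ℤ), l.length = k →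
    (l.map fun x => x * x).sum = w → w ≤ 16 → l ∈ sqs k w := by
  intro k
  induction k with
  | zero =>
    intro w l hl hs _
    rw [List.length_eq_zero_iff] at hl
    subst hl
    simp only [List.map_nil, List.sum_nil] at hs
    subst hs
    simp [sqs]
  | succ k ih =>
    intro w l hl hs hw
    match l, hl with
    | x :: l', hl =>
      simp only [List.map_cons, List.sum_cons] at hs
      have h0 := sq_sum_nonneg l'
      have hxx := mul_self_nonneg x
      have hx : x * x ≤ w := by omega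
      have hxc : x ∈ cands := mem_cands (by omega)
      have hl' : l'.length = k := by simpa using hl
      have hrest := ih (w - x * x) l' hl' (by omega) (by omega)
      simp only [sqs, List.mem_flatMap]
      refine ⟨x, hxc, ?_⟩
      rw [if_pos hx]
      exact List.mem_map.2 ⟨l', hrest, rfl⟩

/-- the vector of a list of eight coordinates -/
def ofList : List ℤ → IQ
  | [a, b, c, d, e, f, g, h] => ⟨a, b, c, d, e, f, g, h⟩
  | _ => 0

/-- the coordinates of a vector -/
def toList (a : IQ) : List ℤ := [a.p0, a.q0, a.p1, a.q1, a.p2, a.q2, a.p3, a.q3]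

theorem ofList_toList (a : IQ) : ofList (toList a) = a := rfl

theorem sum_toList (a : IQ) : ((toList a).map fun x => x * x).sum = wt a := by
  simp only [toList, List.map_cons, List.map_nil, List.sum_cons, List.sum_nil, wt]
  ring

/-- the vectors of the sublattice whose coordinates have squares adding up to `w` -/
def Lc (w : ℤ) : List IQ := ((sqs 8 w).map ofList).filter fun a => decide (IQ.cond a)

theorem mem_Lc {a : IQ} (ha : IQ.cond a) (hw : wt a ≤ 16) : a ∈ Lc (wt a) := by
  unfold Lc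
  rw [List.mem_filter]
  refine ⟨List.mem_map.2 ⟨toList a, mem_sqs 8 _ _ rfl (sum_toList a) hw, ofList_toList a⟩, ?_⟩
  simpa using ha

theorem wt_nonneg (a : IQ) : 0 ≤ wt a := by
  unfold wt
  nlinarith [mul_self_nonneg a.p0, mul_self_nonneg a.q0, mul_self_nonneg a.p1,
    mul_self_nonneg a.q1, mul_self_nonneg a.p2, mul_self_nonneg a.q2, mul_self_nonneg a.p3,
    mul_self_nonneg a.q3]

theorem sq_congr {x y : ℤ} (h : (x + y) % 2 = 0) : ∃ k, x * x - y * y = 4 * k := by
  obtain ⟨m, hm⟩ : ∃ m, x + y = 2 * m := ⟨(x + y) / 2, by omega⟩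
  refine ⟨m * (m - y), ?_⟩
  have hx : x = 2 * m - y := by omega
  subst hx
  ring

theorem wt_mod4 {a : IQ} (ha : IQ.cond a) : wt a % 4 = 0 := by
  obtain ⟨a0, a1, a2, a3, a4, a5, a6, a7⟩ := a
  simp only [IQ.cond, wt] at *
  obtain ⟨h3, h2, h1, h0⟩ := ha
  obtain ⟨k0, e0⟩ := sq_congr (x := a0) (y := a5 + a6 + a7) (by omega)
  obtain ⟨k1, e1⟩ := sq_congr (x := a1) (y := a4 + a5 + a6) (by omega)
  obtain ⟨k2, e2⟩ := sq_congr (x := a2) (y := a4 + a5 + a7) (by omega)
  obtain ⟨k3, e3⟩ := sq_congr (x := a3) (y := a4 + a6 + a7) (by omega)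
  have key : a0 * a0 + a1 * a1 + a2 * a2 + a3 * a3 + a4 * a4 + a5 * a5 + a6 * a6 + a7 * a7
      = 4 * (k0 + k1 + k2 + k3 + a4 * a4 + a5 * a5 + a6 * a6 + a7 * a7 + a4 * a5 + a4 * a6
        + a4 * a7 + a5 * a6 + a5 * a7 + a6 * a7) := by
    linear_combination e0 + e1 + e2 + e3
  rw [key]
  exact Int.mul_emod_right _ _

/-- a vector with two of its multiples -/
structure Rec where
  a : IQ
  a1 : IQ
  a2 : IQ

/-- the record of a vector -/
def mkRec (a : IQ) : Rec := ⟨a, mul a cHb, mul a cH⟩

/-- the test for `4 c` with `c` in the sublattice -/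
def okH (d : IQ) : Bool := decide (div4 d) && decide (IQ.cond (qt4 d))

/-- the triples from three lists which lie in the lattice and have `τ` part of the norm zero -/
def triples (A B C : List Rec) : List IQ3 :=
  A.flatMap fun x =>
    (B.filter fun y => okH (x.a1 - y.a1)).flatMap fun y =>
      (C.filter fun z => okH (y.a1 - z.a1) && okH (x.a2 + y.a2 + z.a2) &&
        decide (st x.a + st y.a + st z.a = 0)).map fun z => ⟨x.a, y.a, z.a⟩

theorem mul_sub_left (a b g : IQ) : mul (a - b) g = mul a g - mul b g := by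
  ext <;> simp only [mul, zp, zq, sub_def] <;> ring

theorem mul_add_left (a b g : IQ) : mul (a + b) g = mul a g + mul b g := by
  ext <;> simp only [mul, zp, zq, add_def] <;> ring

theorem okH_of_condG {g a : IQ} (h : condG g a) : okH (mul a (conj g)) = true := by
  unfold okH
  simp only [Bool.and_eq_true, decide_eq_true_eq]
  exact h

theorem mem_triples {a : IQ3} (h : lam a) (hs : st a.x + st a.y + st a.z = 0)
    {A B C : List Rec} (hA : mkRec a.x ∈ A) (hB : mkRec a.y ∈ B) (hC : mkRec a.z ∈ C) :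
    a ∈ triples A B C := by
  obtain ⟨_, _, _, h1, h2, h3⟩ := h
  have k1 := okH_of_condG h1
  have k2 := okH_of_condG h2
  have k3 := okH_of_condG h3
  rw [conj_cH, mul_sub_left] at k1 k2
  rw [conj_cHb, mul_add_left, mul_add_left] at k3
  unfold triples
  rw [List.mem_flatMap]
  refine ⟨mkRec a.x, hA, ?_⟩
  rw [List.mem_flatMap]
  refine ⟨mkRec a.y, List.mem_filter.2 ⟨hB, k1⟩, ?_⟩
  rw [List.mem_map]
  refine ⟨mkRec a.z, List.mem_filter.2 ⟨hC, ?_⟩, rfl⟩
  simp only [Bool.and_eq_true, decide_eq_true_eq]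
  exact ⟨⟨k2, k3⟩, hs⟩

/-- the records of the vectors of the sublattice with squares adding up to `w` -/
def K (w : ℤ) : List Rec := (Lc w).map mkRec

/-- the possible distributions of the squares -/
def splits : List (ℤ × ℤ × ℤ) :=
  [(0, 0, 16), (0, 4, 12), (0, 8, 8), (0, 12, 4), (0, 16, 0), (4, 0, 12), (4, 4, 8), (4, 8, 4),
    (4, 12, 0), (8, 0, 8), (8, 4, 4), (8, 8, 0), (12, 0, 4), (12, 4, 0), (16, 0, 0)]

theorem mem_splits {a : IQ3} (h : lam a) (hw : wt a.x + wt a.y + wt a.z = 16) :
    (wt a.x, wt a.y, wt a.z) ∈ splits := by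
  have h0 := wt_mod4 h.1
  have h1 := wt_mod4 h.2.1
  have h2 := wt_mod4 h.2.2.1
  have p0 := wt_nonneg a.x
  have p1 := wt_nonneg a.y
  have p2 := wt_nonneg a.z
  generalize wt a.x = w0 at *
  generalize wt a.y = w1 at *
  generalize wt a.z = w2 at *
  have e2 : w2 = 16 - w0 - w1 := by omega
  subst e2
  have hw0 : w0 = 0 ∨ w0 = 4 ∨ w0 = 8 ∨ w0 = 12 ∨ w0 = 16 := by omega
  have hw1 : w1 = 0 ∨ w1 = 4 ∨ w1 = 8 ∨ w1 = 12 ∨ w1 = 16 := by omega
  rcases hw0 with rfl | rfl | rfl | rfl | rfl <;> rcases hw1 with rfl | rfl | rfl | rfl | rfl <;>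
    first | (exfalso; omega) | (simp [splits])

/-- every vector of the lattice with `v · v = 4` is in one of the lists of triples -/
theorem mem_enum {a : IQ3} (h : lam a) (hw : wt a.x + wt a.y + wt a.z = 16)
    (hs : st a.x + st a.y + st a.z = 0) :
    ∃ s ∈ splits, a ∈ triples (K s.1) (K s.2.1) (K s.2.2) := by
  refine ⟨_, mem_splits h hw, ?_⟩
  have p0 := wt_nonneg a.x
  have p1 := wt_nonneg a.y
  have p2 := wt_nonneg a.z
  apply mem_triples h hs
  · exact List.mem_map.2 ⟨_, mem_Lc h.1 (by omega), rfl⟩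
  · exact List.mem_map.2 ⟨_, mem_Lc h.2.1 (by omega), rfl⟩
  · exact List.mem_map.2 ⟨_, mem_Lc h.2.2.1 (by omega), rfl⟩

end Cfsg.Agent.Lib.Helper8.Ico
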