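import Cfsg.Agent.Lib.Helper8.IcoE1

/-!
A fast enumeration of the icosians with small sum of squares of the eight integer coordinates:
the coordinates lie in `[-2, 2]` and are coded by their digits in base 5.
-/

namespace Cfsg.Agent.Lib.Helper8.Ico

open Cfsg.Spor Quaternion IQ IQ3

/-- `(d - 2) ^ 2` for a digit `d` -/
def sq5 (d : ℕ) : ℕ := (d * d + 4) - 4 * d

/-- the sum of the squares of the four coordinates coded by `c` -/
def n4 (c : ℕ) : ℕ := sq5 (c / 125 % 5) + sq5 (c / 25 % 5) + sq5 (c / 5 % 5) + sq5 (c % 5)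

/-- the codes of four coordinates, sorted by the sum of the squares -/
def quadT : List (List ℕ) :=
  [[312],
  [187, 287, 307, 311, 313, 317, 337, 437],
  [162, 182, 186, 188, 192, 212, 282, 286, 288, 292, 306, 308, 316, 318, 332, 336, 338, 342, 412, 432, 436, 438, 442, 462],
  [157, 161, 163, 167, 181, 183, 191, 193, 207, 211, 213, 217, 281, 283, 291, 293, 331, 333, 341, 343, 407, 411, 413, 417, 431, 433, 441, 443, 457, 461, 463, 467],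
  [62, 156, 158, 166, 168, 206, 208, 216, 218, 262, 302, 310, 314, 322, 362, 406, 408, 416, 418, 456, 458, 466, 468, 562],
  [37, 57, 61, 63, 67, 87, 137, 177, 185, 189, 197, 237, 257, 261, 263, 267, 277, 285, 289, 297, 301, 303, 305, 309, 315, 319, 321, 323, 327, 335, 339, 347, 357, 361, 363, 367, 387, 427, 435, 439, 447, 487, 537, 557, 561, 563, 567, 587],
  [32, 36, 38, 42, 56, 58, 66, 68, 82, 86, 88, 92, 132, 136, 138, 142, 152, 160, 164, 172, 176, 178, 180, 184, 190, 194, 196, 198, 202, 210, 214, 222, 232, 236, 238, 242, 256, 258, 266, 268, 276, 278, 280, 284, 290, 294, 296, 298, 326, 328, 330, 334, 340, 344, 346, 348, 356, 358, 366, 368, 382, 386, 388, 392, 402, 410, 414, 422, 426, 428, 430, 434, 440, 444, 446, 448, 452, 460, 464, 472, 482, 486, 488, 492, 532, 536, 538, 542, 556, 558, 566, 568, 582, 586, 588, 592],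
  [31, 33, 41, 43, 81, 83, 91, 93, 131, 133, 141, 143, 151, 153, 155, 159, 165, 169, 171, 173, 201, 203, 205, 209, 215, 219, 221, 223, 231, 233, 241, 243, 381, 383, 391, 393, 401, 403, 405, 409, 415, 419, 421, 423, 451, 453, 455, 459, 465, 469, 471, 473, 481, 483, 491, 493, 531, 533, 541, 543, 581, 583, 591, 593],
  [12, 52, 60, 64, 72, 112, 252, 260, 264, 272, 300, 304, 320, 324, 352, 360, 364, 372, 512, 552, 560, 564, 572, 612]]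

theorem quadT_complete : ∀ c < 625, n4 c ≤ 8 → c ∈ quadT.getD (n4 c) [] := by decide +kernel

/-- the vector coded by `c` -/
def dec5 (c : ℕ) : IQ :=
  ⟨((c / 78125 % 5 : ℕ) : ℤ) - 2, ((c / 15625 % 5 : ℕ) : ℤ) - 2, ((c / 3125 % 5 : ℕ) : ℤ) - 2,
    ((c / 625 % 5 : ℕ) : ℤ) - 2, ((c / 125 % 5 : ℕ) : ℤ) - 2, ((c / 25 % 5 : ℕ) : ℤ) - 2,
    ((c / 5 % 5 : ℕ) : ℤ) - 2, ((c % 5 : ℕ) : ℤ) - 2⟩

/-- the parity conditions on the digits of a code -/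
def condN (c : ℕ) : Bool :=
  (c / 625 % 5 + c / 125 % 5 + c / 5 % 5 + c % 5) % 2 == 0 &&
  (c / 3125 % 5 + c / 125 % 5 + c / 25 % 5 + c % 5) % 2 == 0 &&
  (c / 15625 % 5 + c / 125 % 5 + c / 25 % 5 + c / 5 % 5) % 2 == 0 &&
  (c / 78125 % 5 + c / 25 % 5 + c / 5 % 5 + c % 5) % 2 == 0

/-- the codes of the vectors of the sublattice with sum of squares `w` -/
def gen8 (w : ℕ) : List ℕ :=
  (List.range 625).flatMap fun cL =>
    if n4 cL ≤ w then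
      ((quadT.getD (w - n4 cL) []).filter fun cR => condN (cL * 625 + cR)).map
        fun cR => cL * 625 + cR
    else []

theorem digit_bound {x : ℤ} (h : x * x ≤ 8) : -2 ≤ x ∧ x ≤ 2 := by
  constructor
  · by_contra h'
    rw [not_le] at h'
    nlinarith
  · by_contra h'
    rw [not_le] at h'
    nlinarith

theorem sq5_cast {d : ℕ} (h : d ≤ 4) : ((sq5 d : ℕ) : ℤ) = ((d : ℤ) - 2) * ((d : ℤ) - 2) := by
  interval_cases d <;> simp [sq5]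

theorem exists_digit {x : ℤ} (h : x * x ≤ 8) : ∃ d : ℕ, d ≤ 4 ∧ x = (d : ℤ) - 2 := by
  obtain ⟨h1, h2⟩ := digit_bound h
  refine ⟨(x + 2).toNat, ?_, ?_⟩ <;> omega

theorem n4_digits {d0 d1 d2 d3 : ℕ} (h0 : d0 ≤ 4) (h1 : d1 ≤ 4) (h2 : d2 ≤ 4) (h3 : d3 ≤ 4) :
    n4 (d0 * 125 + d1 * 25 + d2 * 5 + d3) = sq5 d0 + sq5 d1 + sq5 d2 + sq5 d3 := by
  unfold n4
  have e0 : (d0 * 125 + d1 * 25 + d2 * 5 + d3) / 125 % 5 = d0 := by omega
  have e1 : (d0 * 125 + d1 * 25 + d2 * 5 + d3) / 25 % 5 = d1 := by omega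
  have e2 : (d0 * 125 + d1 * 25 + d2 * 5 + d3) / 5 % 5 = d2 := by omega
  have e3 : (d0 * 125 + d1 * 25 + d2 * 5 + d3) % 5 = d3 := by omega
  rw [e0, e1, e2, e3]

theorem digits8 {d0 d1 d2 d3 d4 d5 d6 d7 : ℕ} (b0 : d0 ≤ 4) (b1 : d1 ≤ 4) (b2 : d2 ≤ 4)
    (b3 : d3 ≤ 4) (b4 : d4 ≤ 4) (b5 : d5 ≤ 4) (b6 : d6 ≤ 4) (b7 : d7 ≤ 4) (c : ℕ)
    (hc : c = (d0 * 125 + d1 * 25 + d2 * 5 + d3) * 625 + (d4 * 125 + d5 * 25 + d6 * 5 + d7)) :
    c / 78125 % 5 = d0 ∧ c / 15625 % 5 = d1 ∧ c / 3125 % 5 = d2 ∧ c / 625 % 5 = d3 ∧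
      c / 125 % 5 = d4 ∧ c / 25 % 5 = d5 ∧ c / 5 % 5 = d6 ∧ c % 5 = d7 := by
  refine ⟨?_, ?_, ?_, ?_, ?_, ?_, ?_, ?_⟩ <;> omega

theorem mem_gen8_aux {d0 d1 d2 d3 d4 d5 d6 d7 : ℕ} (b0 : d0 ≤ 4) (b1 : d1 ≤ 4) (b2 : d2 ≤ 4)
    (b3 : d3 ≤ 4) (b4 : d4 ≤ 4) (b5 : d5 ≤ 4) (b6 : d6 ≤ 4) (b7 : d7 ≤ 4) {w : ℕ}
    (hsum : sq5 d0 + sq5 d1 + sq5 d2 + sq5 d3 + (sq5 d4 + sq5 d5 + sq5 d6 + sq5 d7) = w)
    (hw8 : w ≤ 8)
    (c1 : (d3 + d4 + d6 + d7) % 2 = 0) (c2 : (d2 + d4 + d5 + d7) % 2 = 0)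
    (c3 : (d1 + d4 + d5 + d6) % 2 = 0) (c4 : (d0 + d5 + d6 + d7) % 2 = 0) :
    (d0 * 125 + d1 * 25 + d2 * 5 + d3) * 625 + (d4 * 125 + d5 * 25 + d6 * 5 + d7) ∈ gen8 w := by
  have hcL : d0 * 125 + d1 * 25 + d2 * 5 + d3 < 625 := by omega
  have hcR : d4 * 125 + d5 * 25 + d6 * 5 + d7 < 625 := by omega
  have hL := n4_digits b0 b1 b2 b3
  have hR := n4_digits b4 b5 b6 b7
  have hle : n4 (d0 * 125 + d1 * 25 + d2 * 5 + d3) ≤ w := by omega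
  have h1 : w - n4 (d0 * 125 + d1 * 25 + d2 * 5 + d3) = n4 (d4 * 125 + d5 * 25 + d6 * 5 + d7) := by
    omega
  have h2 : n4 (d4 * 125 + d5 * 25 + d6 * 5 + d7) ≤ 8 := by omega
  obtain ⟨e0, e1, e2, e3, e4, e5, e6, e7⟩ := digits8 b0 b1 b2 b3 b4 b5 b6 b7 _ rfl
  generalize d0 * 125 + d1 * 25 + d2 * 5 + d3 = cL at *
  generalize d4 * 125 + d5 * 25 + d6 * 5 + d7 = cR at *
  unfold gen8
  rw [List.mem_flatMap]
  refine ⟨cL, List.mem_range.2 hcL, ?_⟩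
  rw [if_pos hle, List.mem_map]
  refine ⟨cR, List.mem_filter.2 ⟨?_, ?_⟩, rfl⟩
  · rw [h1]
    exact quadT_complete cR hcR h2
  · unfold condN
    rw [e0, e1, e2, e3, e4, e5, e6, e7, c1, c2, c3, c4]
    rfl

theorem mem_gen8 {a : IQ} (ha : IQ.cond a) {w : ℕ} (hw : wt a = w) (hw8 : w ≤ 8) :
    ∃ c ∈ gen8 w, dec5 c = a := by
  obtain ⟨a0, a1, a2, a3, a4, a5, a6, a7⟩ := a
  simp only [wt] at hw
  have hw' : (w : ℤ) ≤ 8 := by exact_mod_cast hw8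
  have s0 := mul_self_nonneg a0
  have s1 := mul_self_nonneg a1
  have s2 := mul_self_nonneg a2
  have s3 := mul_self_nonneg a3
  have s4 := mul_self_nonneg a4
  have s5 := mul_self_nonneg a5
  have s6 := mul_self_nonneg a6
  have s7 := mul_self_nonneg a7
  have t0 : a0 * a0 ≤ 8 := by linarith
  have t1 : a1 * a1 ≤ 8 := by linarith
  have t2 : a2 * a2 ≤ 8 := by linarith
  have t3 : a3 * a3 ≤ 8 := by linarith
  have t4 : a4 * a4 ≤ 8 := by linarith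
  have t5 : a5 * a5 ≤ 8 := by linarith
  have t6 : a6 * a6 ≤ 8 := by linarith
  have t7 : a7 * a7 ≤ 8 := by linarith
  clear s0 s1 s2 s3 s4 s5 s6 s7
  obtain ⟨d0, b0, rfl⟩ := exists_digit t0
  obtain ⟨d1, b1, rfl⟩ := exists_digit t1
  obtain ⟨d2, b2, rfl⟩ := exists_digit t2
  obtain ⟨d3, b3, rfl⟩ := exists_digit t3
  obtain ⟨d4, b4, rfl⟩ := exists_digit t4
  obtain ⟨d5, b5, rfl⟩ := exists_digit t5
  obtain ⟨d6, b6, rfl⟩ := exists_digit t6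
  obtain ⟨d7, b7, rfl⟩ := exists_digit t7
  clear t0 t1 t2 t3 t4 t5 t6 t7
  have hsum : sq5 d0 + sq5 d1 + sq5 d2 + sq5 d3 + (sq5 d4 + sq5 d5 + sq5 d6 + sq5 d7) = w := by
    have : ((sq5 d0 + sq5 d1 + sq5 d2 + sq5 d3 + (sq5 d4 + sq5 d5 + sq5 d6 + sq5 d7) : ℕ) : ℤ)
        = (w : ℤ) := by
      push_cast
      rw [sq5_cast b0, sq5_cast b1, sq5_cast b2, sq5_cast b3, sq5_cast b4, sq5_cast b5,
        sq5_cast b6, sq5_cast b7]
      linarith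
    exact_mod_cast this
  clear hw
  simp only [IQ.cond] at ha
  obtain ⟨c1, c2, c3, c4⟩ := ha
  refine ⟨_, mem_gen8_aux b0 b1 b2 b3 b4 b5 b6 b7 hsum hw8 (by omega) (by omega) (by omega)
    (by omega), ?_⟩
  obtain ⟨e0, e1, e2, e3, e4, e5, e6, e7⟩ := digits8 b0 b1 b2 b3 b4 b5 b6 b7 _ rfl
  unfold dec5
  rw [e0, e1, e2, e3, e4, e5, e6, e7]

end Cfsg.Agent.Lib.Helper8.Ico
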