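import Cfsg.Agent.Lib.Helper8.IcoE4

/-!
The 315 canonical minimal vectors of the icosian Leech lattice: a minimal vector whose first
nonzero coordinate is one of the chosen representatives is in the list.
-/

namespace Cfsg.Agent.Lib.Helper8.Ico

open Cfsg.Spor Quaternion IQ IQ3

set_option maxRecDepth 1000000 in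
/-- the canonical minimal vectors -/
def Rl : List IQ3 :=
  [⟨⟨-2, 0, -2, 0, 0, 0, 0, 0⟩, ⟨-2, 0, -2, 0, 0, 0, 0, 0⟩, ⟨0, 0, 0, 0, 0, 0, 0, 0⟩⟩,
  ⟨⟨-2, 0, -2, 0, 0, 0, 0, 0⟩, ⟨-2, 0, 2, 0, 0, 0, 0, 0⟩, ⟨0, 0, 0, 0, 0, 0, 0, 0⟩⟩,
  ⟨⟨-2, 0, -2, 0, 0, 0, 0, 0⟩, ⟨0, 0, 0, 0, -2, 0, -2, 0⟩, ⟨0, 0, 0, 0, 0, 0, 0, 0⟩⟩,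
  ⟨⟨-2, 0, -2, 0, 0, 0, 0, 0⟩, ⟨0, 0, 0, 0, -2, 0, 2, 0⟩, ⟨0, 0, 0, 0, 0, 0, 0, 0⟩⟩,
  ⟨⟨-2, 0, -2, 0, 0, 0, 0, 0⟩, ⟨0, 0, 0, 0, 0, 0, 0, 0⟩, ⟨-2, 0, -2, 0, 0, 0, 0, 0⟩⟩,
  ⟨⟨-2, 0, -2, 0, 0, 0, 0, 0⟩, ⟨0, 0, 0, 0, 0, 0, 0, 0⟩, ⟨-2, 0, 2, 0, 0, 0, 0, 0⟩⟩,
  ⟨⟨-2, 0, -2, 0, 0, 0, 0, 0⟩, ⟨0, 0, 0, 0, 0, 0, 0, 0⟩, ⟨0, 0, 0, 0, -2, 0, -2, 0⟩⟩,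
  ⟨⟨-2, 0, -2, 0, 0, 0, 0, 0⟩, ⟨0, 0, 0, 0, 0, 0, 0, 0⟩, ⟨0, 0, 0, 0, -2, 0, 2, 0⟩⟩,
  ⟨⟨-2, 0, -2, 0, 0, 0, 0, 0⟩, ⟨0, 0, 0, 0, 0, 0, 0, 0⟩, ⟨0, 0, 0, 0, 2, 0, -2, 0⟩⟩,
  ⟨⟨-2, 0, -2, 0, 0, 0, 0, 0⟩, ⟨0, 0, 0, 0, 0, 0, 0, 0⟩, ⟨0, 0, 0, 0, 2, 0, 2, 0⟩⟩,
  ⟨⟨-2, 0, -2, 0, 0, 0, 0, 0⟩, ⟨0, 0, 0, 0, 0, 0, 0, 0⟩, ⟨2, 0, -2, 0, 0, 0, 0, 0⟩⟩,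
  ⟨⟨-2, 0, -2, 0, 0, 0, 0, 0⟩, ⟨0, 0, 0, 0, 0, 0, 0, 0⟩, ⟨2, 0, 2, 0, 0, 0, 0, 0⟩⟩,
  ⟨⟨-2, 0, -2, 0, 0, 0, 0, 0⟩, ⟨0, 0, 0, 0, 2, 0, -2, 0⟩, ⟨0, 0, 0, 0, 0, 0, 0, 0⟩⟩,
  ⟨⟨-2, 0, -2, 0, 0, 0, 0, 0⟩, ⟨0, 0, 0, 0, 2, 0, 2, 0⟩, ⟨0, 0, 0, 0, 0, 0, 0, 0⟩⟩,
  ⟨⟨-2, 0, -2, 0, 0, 0, 0, 0⟩, ⟨2, 0, -2, 0, 0, 0, 0, 0⟩, ⟨0, 0, 0, 0, 0, 0, 0, 0⟩⟩,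
  ⟨⟨-2, 0, -2, 0, 0, 0, 0, 0⟩, ⟨2, 0, 2, 0, 0, 0, 0, 0⟩, ⟨0, 0, 0, 0, 0, 0, 0, 0⟩⟩,
  ⟨⟨-2, 0, -1, 0, -1, 1, 0, -1⟩, ⟨-1, 0, 0, 0, 0, -1, 1, -1⟩, ⟨-1, 0, 0, 0, 0, -1, 1, -1⟩⟩,
  ⟨⟨-2, 0, -1, 0, -1, 1, 0, -1⟩, ⟨-1, 0, 0, 0, 0, -1, 1, -1⟩, ⟨1, 0, 0, 0, 0, 1, -1, 1⟩⟩,
  ⟨⟨-2, 0, -1, 0, -1, 1, 0, -1⟩, ⟨-1, 1, 0, -1, 0, 0, -1, 0⟩, ⟨-1, 1, 0, -1, 0, 0, -1, 0⟩⟩,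
  ⟨⟨-2, 0, -1, 0, -1, 1, 0, -1⟩, ⟨-1, 1, 0, -1, 0, 0, -1, 0⟩, ⟨1, -1, 0, 1, 0, 0, 1, 0⟩⟩,
  ⟨⟨-2, 0, -1, 0, -1, 1, 0, -1⟩, ⟨0, -1, 1, -1, 1, 0, 0, 0⟩, ⟨0, -1, 1, -1, 1, 0, 0, 0⟩⟩,
  ⟨⟨-2, 0, -1, 0, -1, 1, 0, -1⟩, ⟨0, -1, 1, -1, 1, 0, 0, 0⟩, ⟨0, 1, -1, 1, -1, 0, 0, 0⟩⟩,
  ⟨⟨-2, 0, -1, 0, -1, 1, 0, -1⟩, ⟨0, 0, -1, 0, 1, -1, 0, 1⟩, ⟨0, 0, -1, 0, 1, -1, 0, 1⟩⟩,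
  ⟨⟨-2, 0, -1, 0, -1, 1, 0, -1⟩, ⟨0, 0, -1, 0, 1, -1, 0, 1⟩, ⟨0, 0, 1, 0, -1, 1, 0, -1⟩⟩,
  ⟨⟨-2, 0, -1, 0, -1, 1, 0, -1⟩, ⟨0, 0, 1, 0, -1, 1, 0, -1⟩, ⟨0, 0, -1, 0, 1, -1, 0, 1⟩⟩,
  ⟨⟨-2, 0, -1, 0, -1, 1, 0, -1⟩, ⟨0, 0, 1, 0, -1, 1, 0, -1⟩, ⟨0, 0, 1, 0, -1, 1, 0, -1⟩⟩,
  ⟨⟨-2, 0, -1, 0, -1, 1, 0, -1⟩, ⟨0, 1, -1, 1, -1, 0, 0, 0⟩, ⟨0, -1, 1, -1, 1, 0, 0, 0⟩⟩,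
  ⟨⟨-2, 0, -1, 0, -1, 1, 0, -1⟩, ⟨0, 1, -1, 1, -1, 0, 0, 0⟩, ⟨0, 1, -1, 1, -1, 0, 0, 0⟩⟩,
  ⟨⟨-2, 0, -1, 0, -1, 1, 0, -1⟩, ⟨1, -1, 0, 1, 0, 0, 1, 0⟩, ⟨-1, 1, 0, -1, 0, 0, -1, 0⟩⟩,
  ⟨⟨-2, 0, -1, 0, -1, 1, 0, -1⟩, ⟨1, -1, 0, 1, 0, 0, 1, 0⟩, ⟨1, -1, 0, 1, 0, 0, 1, 0⟩⟩,
  ⟨⟨-2, 0, -1, 0, -1, 1, 0, -1⟩, ⟨1, 0, 0, 0, 0, 1, -1, 1⟩, ⟨-1, 0, 0, 0, 0, -1, 1, -1⟩⟩,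
  ⟨⟨-2, 0, -1, 0, -1, 1, 0, -1⟩, ⟨1, 0, 0, 0, 0, 1, -1, 1⟩, ⟨1, 0, 0, 0, 0, 1, -1, 1⟩⟩,
  ⟨⟨-2, 0, -1, 0, -1, 1, 0, 1⟩, ⟨-1, 0, 0, 0, 0, 1, 1, -1⟩, ⟨-1, 1, 0, 1, 0, 0, -1, 0⟩⟩,
  ⟨⟨-2, 0, -1, 0, -1, 1, 0, 1⟩, ⟨-1, 0, 0, 0, 0, 1, 1, -1⟩, ⟨1, -1, 0, -1, 0, 0, 1, 0⟩⟩,
  ⟨⟨-2, 0, -1, 0, -1, 1, 0, 1⟩, ⟨-1, 1, 0, 1, 0, 0, -1, 0⟩, ⟨-1, 0, 0, 0, 0, 1, 1, -1⟩⟩,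
  ⟨⟨-2, 0, -1, 0, -1, 1, 0, 1⟩, ⟨-1, 1, 0, 1, 0, 0, -1, 0⟩, ⟨1, 0, 0, 0, 0, -1, -1, 1⟩⟩,
  ⟨⟨-2, 0, -1, 0, -1, 1, 0, 1⟩, ⟨0, -1, -1, 1, -1, 0, 0, 0⟩, ⟨0, 0, -1, 0, 1, -1, 0, -1⟩⟩,
  ⟨⟨-2, 0, -1, 0, -1, 1, 0, 1⟩, ⟨0, -1, -1, 1, -1, 0, 0, 0⟩, ⟨0, 0, 1, 0, -1, 1, 0, 1⟩⟩,
  ⟨⟨-2, 0, -1, 0, -1, 1, 0, 1⟩, ⟨0, 0, -1, 0, 1, -1, 0, -1⟩, ⟨0, -1, -1, 1, -1, 0, 0, 0⟩⟩,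
  ⟨⟨-2, 0, -1, 0, -1, 1, 0, 1⟩, ⟨0, 0, -1, 0, 1, -1, 0, -1⟩, ⟨0, 1, 1, -1, 1, 0, 0, 0⟩⟩,
  ⟨⟨-2, 0, -1, 0, -1, 1, 0, 1⟩, ⟨0, 0, 1, 0, -1, 1, 0, 1⟩, ⟨0, -1, -1, 1, -1, 0, 0, 0⟩⟩,
  ⟨⟨-2, 0, -1, 0, -1, 1, 0, 1⟩, ⟨0, 0, 1, 0, -1, 1, 0, 1⟩, ⟨0, 1, 1, -1, 1, 0, 0, 0⟩⟩,
  ⟨⟨-2, 0, -1, 0, -1, 1, 0, 1⟩, ⟨0, 1, 1, -1, 1, 0, 0, 0⟩, ⟨0, 0, -1, 0, 1, -1, 0, -1⟩⟩,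
  ⟨⟨-2, 0, -1, 0, -1, 1, 0, 1⟩, ⟨0, 1, 1, -1, 1, 0, 0, 0⟩, ⟨0, 0, 1, 0, -1, 1, 0, 1⟩⟩,
  ⟨⟨-2, 0, -1, 0, -1, 1, 0, 1⟩, ⟨1, -1, 0, -1, 0, 0, 1, 0⟩, ⟨-1, 0, 0, 0, 0, 1, 1, -1⟩⟩,
  ⟨⟨-2, 0, -1, 0, -1, 1, 0, 1⟩, ⟨1, -1, 0, -1, 0, 0, 1, 0⟩, ⟨1, 0, 0, 0, 0, -1, -1, 1⟩⟩,
  ⟨⟨-2, 0, -1, 0, -1, 1, 0, 1⟩, ⟨1, 0, 0, 0, 0, -1, -1, 1⟩, ⟨-1, 1, 0, 1, 0, 0, -1, 0⟩⟩,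
  ⟨⟨-2, 0, -1, 0, -1, 1, 0, 1⟩, ⟨1, 0, 0, 0, 0, -1, -1, 1⟩, ⟨1, -1, 0, -1, 0, 0, 1, 0⟩⟩,
  ⟨⟨-2, 0, -1, 0, 1, -1, 0, -1⟩, ⟨-1, 0, 0, 0, 0, -1, -1, 1⟩, ⟨0, -1, -1, 1, 1, 0, 0, 0⟩⟩,
  ⟨⟨-2, 0, -1, 0, 1, -1, 0, -1⟩, ⟨-1, 0, 0, 0, 0, -1, -1, 1⟩, ⟨0, 1, 1, -1, -1, 0, 0, 0⟩⟩,
  ⟨⟨-2, 0, -1, 0, 1, -1, 0, -1⟩, ⟨-1, 1, 0, 1, 0, 0, 1, 0⟩, ⟨0, 0, -1, 0, -1, 1, 0, 1⟩⟩,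
  ⟨⟨-2, 0, -1, 0, 1, -1, 0, -1⟩, ⟨-1, 1, 0, 1, 0, 0, 1, 0⟩, ⟨0, 0, 1, 0, 1, -1, 0, -1⟩⟩,
  ⟨⟨-2, 0, -1, 0, 1, -1, 0, -1⟩, ⟨0, -1, -1, 1, 1, 0, 0, 0⟩, ⟨-1, 0, 0, 0, 0, -1, -1, 1⟩⟩,
  ⟨⟨-2, 0, -1, 0, 1, -1, 0, -1⟩, ⟨0, -1, -1, 1, 1, 0, 0, 0⟩, ⟨1, 0, 0, 0, 0, 1, 1, -1⟩⟩,
  ⟨⟨-2, 0, -1, 0, 1, -1, 0, -1⟩, ⟨0, 0, -1, 0, -1, 1, 0, 1⟩, ⟨-1, 1, 0, 1, 0, 0, 1, 0⟩⟩,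
  ⟨⟨-2, 0, -1, 0, 1, -1, 0, -1⟩, ⟨0, 0, -1, 0, -1, 1, 0, 1⟩, ⟨1, -1, 0, -1, 0, 0, -1, 0⟩⟩,
  ⟨⟨-2, 0, -1, 0, 1, -1, 0, -1⟩, ⟨0, 0, 1, 0, 1, -1, 0, -1⟩, ⟨-1, 1, 0, 1, 0, 0, 1, 0⟩⟩,
  ⟨⟨-2, 0, -1, 0, 1, -1, 0, -1⟩, ⟨0, 0, 1, 0, 1, -1, 0, -1⟩, ⟨1, -1, 0, -1, 0, 0, -1, 0⟩⟩,
  ⟨⟨-2, 0, -1, 0, 1, -1, 0, -1⟩, ⟨0, 1, 1, -1, -1, 0, 0, 0⟩, ⟨-1, 0, 0, 0, 0, -1, -1, 1⟩⟩,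
  ⟨⟨-2, 0, -1, 0, 1, -1, 0, -1⟩, ⟨0, 1, 1, -1, -1, 0, 0, 0⟩, ⟨1, 0, 0, 0, 0, 1, 1, -1⟩⟩,
  ⟨⟨-2, 0, -1, 0, 1, -1, 0, -1⟩, ⟨1, -1, 0, -1, 0, 0, -1, 0⟩, ⟨0, 0, -1, 0, -1, 1, 0, 1⟩⟩,
  ⟨⟨-2, 0, -1, 0, 1, -1, 0, -1⟩, ⟨1, -1, 0, -1, 0, 0, -1, 0⟩, ⟨0, 0, 1, 0, 1, -1, 0, -1⟩⟩,
  ⟨⟨-2, 0, -1, 0, 1, -1, 0, -1⟩, ⟨1, 0, 0, 0, 0, 1, 1, -1⟩, ⟨0, -1, -1, 1, 1, 0, 0, 0⟩⟩,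
  ⟨⟨-2, 0, -1, 0, 1, -1, 0, -1⟩, ⟨1, 0, 0, 0, 0, 1, 1, -1⟩, ⟨0, 1, 1, -1, -1, 0, 0, 0⟩⟩,
  ⟨⟨-2, 0, -1, 0, 1, -1, 0, 1⟩, ⟨-1, 0, 0, 0, 0, 1, -1, 1⟩, ⟨0, 0, -1, 0, -1, 1, 0, -1⟩⟩,
  ⟨⟨-2, 0, -1, 0, 1, -1, 0, 1⟩, ⟨-1, 0, 0, 0, 0, 1, -1, 1⟩, ⟨0, 0, 1, 0, 1, -1, 0, 1⟩⟩,
  ⟨⟨-2, 0, -1, 0, 1, -1, 0, 1⟩, ⟨-1, 1, 0, -1, 0, 0, 1, 0⟩, ⟨0, -1, 1, -1, -1, 0, 0, 0⟩⟩,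
  ⟨⟨-2, 0, -1, 0, 1, -1, 0, 1⟩, ⟨-1, 1, 0, -1, 0, 0, 1, 0⟩, ⟨0, 1, -1, 1, 1, 0, 0, 0⟩⟩,
  ⟨⟨-2, 0, -1, 0, 1, -1, 0, 1⟩, ⟨0, -1, 1, -1, -1, 0, 0, 0⟩, ⟨-1, 1, 0, -1, 0, 0, 1, 0⟩⟩,
  ⟨⟨-2, 0, -1, 0, 1, -1, 0, 1⟩, ⟨0, -1, 1, -1, -1, 0, 0, 0⟩, ⟨1, -1, 0, 1, 0, 0, -1, 0⟩⟩,
  ⟨⟨-2, 0, -1, 0, 1, -1, 0, 1⟩, ⟨0, 0, -1, 0, -1, 1, 0, -1⟩, ⟨-1, 0, 0, 0, 0, 1, -1, 1⟩⟩,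
  ⟨⟨-2, 0, -1, 0, 1, -1, 0, 1⟩, ⟨0, 0, -1, 0, -1, 1, 0, -1⟩, ⟨1, 0, 0, 0, 0, -1, 1, -1⟩⟩,
  ⟨⟨-2, 0, -1, 0, 1, -1, 0, 1⟩, ⟨0, 0, 1, 0, 1, -1, 0, 1⟩, ⟨-1, 0, 0, 0, 0, 1, -1, 1⟩⟩,
  ⟨⟨-2, 0, -1, 0, 1, -1, 0, 1⟩, ⟨0, 0, 1, 0, 1, -1, 0, 1⟩, ⟨1, 0, 0, 0, 0, -1, 1, -1⟩⟩,
  ⟨⟨-2, 0, -1, 0, 1, -1, 0, 1⟩, ⟨0, 1, -1, 1, 1, 0, 0, 0⟩, ⟨-1, 1, 0, -1, 0, 0, 1, 0⟩⟩,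
  ⟨⟨-2, 0, -1, 0, 1, -1, 0, 1⟩, ⟨0, 1, -1, 1, 1, 0, 0, 0⟩, ⟨1, -1, 0, 1, 0, 0, -1, 0⟩⟩,
  ⟨⟨-2, 0, -1, 0, 1, -1, 0, 1⟩, ⟨1, -1, 0, 1, 0, 0, -1, 0⟩, ⟨0, -1, 1, -1, -1, 0, 0, 0⟩⟩,
  ⟨⟨-2, 0, -1, 0, 1, -1, 0, 1⟩, ⟨1, -1, 0, 1, 0, 0, -1, 0⟩, ⟨0, 1, -1, 1, 1, 0, 0, 0⟩⟩,
  ⟨⟨-2, 0, -1, 0, 1, -1, 0, 1⟩, ⟨1, 0, 0, 0, 0, -1, 1, -1⟩, ⟨0, 0, -1, 0, -1, 1, 0, -1⟩⟩,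
  ⟨⟨-2, 0, -1, 0, 1, -1, 0, 1⟩, ⟨1, 0, 0, 0, 0, -1, 1, -1⟩, ⟨0, 0, 1, 0, 1, -1, 0, 1⟩⟩,
  ⟨⟨-2, 1, -1, 0, 0, 0, -1, 1⟩, ⟨-1, -1, 0, 0, 1, 0, 0, 1⟩, ⟨0, 0, -1, 1, 0, -1, -1, 0⟩⟩,
  ⟨⟨-2, 1, -1, 0, 0, 0, -1, 1⟩, ⟨-1, -1, 0, 0, 1, 0, 0, 1⟩, ⟨0, 0, 1, -1, 0, 1, 1, 0⟩⟩,
  ⟨⟨-2, 1, -1, 0, 0, 0, -1, 1⟩, ⟨-1, 0, 0, -1, -1, -1, 0, 0⟩, ⟨0, -1, -1, 0, 0, 0, 1, -1⟩⟩,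
  ⟨⟨-2, 1, -1, 0, 0, 0, -1, 1⟩, ⟨-1, 0, 0, -1, -1, -1, 0, 0⟩, ⟨0, 1, 1, 0, 0, 0, -1, 1⟩⟩,
  ⟨⟨-2, 1, -1, 0, 0, 0, -1, 1⟩, ⟨-1, 0, 0, 1, -1, 1, 0, 0⟩, ⟨0, -1, 1, 0, 0, 0, -1, -1⟩⟩,
  ⟨⟨-2, 1, -1, 0, 0, 0, -1, 1⟩, ⟨-1, 0, 0, 1, -1, 1, 0, 0⟩, ⟨0, 1, -1, 0, 0, 0, 1, 1⟩⟩,
  ⟨⟨-2, 1, -1, 0, 0, 0, -1, 1⟩, ⟨-1, 1, 0, 0, 1, 0, 0, -1⟩, ⟨0, 0, -1, -1, 0, 1, -1, 0⟩⟩,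
  ⟨⟨-2, 1, -1, 0, 0, 0, -1, 1⟩, ⟨-1, 1, 0, 0, 1, 0, 0, -1⟩, ⟨0, 0, 1, 1, 0, -1, 1, 0⟩⟩,
  ⟨⟨-2, 1, -1, 0, 0, 0, -1, 1⟩, ⟨0, -1, -1, 0, 0, 0, 1, -1⟩, ⟨-1, 0, 0, -1, -1, -1, 0, 0⟩⟩,
  ⟨⟨-2, 1, -1, 0, 0, 0, -1, 1⟩, ⟨0, -1, -1, 0, 0, 0, 1, -1⟩, ⟨1, 0, 0, 1, 1, 1, 0, 0⟩⟩,
  ⟨⟨-2, 1, -1, 0, 0, 0, -1, 1⟩, ⟨0, -1, 1, 0, 0, 0, -1, -1⟩, ⟨-1, 0, 0, 1, -1, 1, 0, 0⟩⟩,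
  ⟨⟨-2, 1, -1, 0, 0, 0, -1, 1⟩, ⟨0, -1, 1, 0, 0, 0, -1, -1⟩, ⟨1, 0, 0, -1, 1, -1, 0, 0⟩⟩,
  ⟨⟨-2, 1, -1, 0, 0, 0, -1, 1⟩, ⟨0, 0, -1, -1, 0, 1, -1, 0⟩, ⟨-1, 1, 0, 0, 1, 0, 0, -1⟩⟩,
  ⟨⟨-2, 1, -1, 0, 0, 0, -1, 1⟩, ⟨0, 0, -1, -1, 0, 1, -1, 0⟩, ⟨1, -1, 0, 0, -1, 0, 0, 1⟩⟩,
  ⟨⟨-2, 1, -1, 0, 0, 0, -1, 1⟩, ⟨0, 0, -1, 1, 0, -1, -1, 0⟩, ⟨-1, -1, 0, 0, 1, 0, 0, 1⟩⟩,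
  ⟨⟨-2, 1, -1, 0, 0, 0, -1, 1⟩, ⟨0, 0, -1, 1, 0, -1, -1, 0⟩, ⟨1, 1, 0, 0, -1, 0, 0, -1⟩⟩,
  ⟨⟨-2, 1, -1, 0, 0, 0, -1, 1⟩, ⟨0, 0, 1, -1, 0, 1, 1, 0⟩, ⟨-1, -1, 0, 0, 1, 0, 0, 1⟩⟩,
  ⟨⟨-2, 1, -1, 0, 0, 0, -1, 1⟩, ⟨0, 0, 1, -1, 0, 1, 1, 0⟩, ⟨1, 1, 0, 0, -1, 0, 0, -1⟩⟩,
  ⟨⟨-2, 1, -1, 0, 0, 0, -1, 1⟩, ⟨0, 0, 1, 1, 0, -1, 1, 0⟩, ⟨-1, 1, 0, 0, 1, 0, 0, -1⟩⟩,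
  ⟨⟨-2, 1, -1, 0, 0, 0, -1, 1⟩, ⟨0, 0, 1, 1, 0, -1, 1, 0⟩, ⟨1, -1, 0, 0, -1, 0, 0, 1⟩⟩,
  ⟨⟨-2, 1, -1, 0, 0, 0, -1, 1⟩, ⟨0, 1, -1, 0, 0, 0, 1, 1⟩, ⟨-1, 0, 0, 1, -1, 1, 0, 0⟩⟩,
  ⟨⟨-2, 1, -1, 0, 0, 0, -1, 1⟩, ⟨0, 1, -1, 0, 0, 0, 1, 1⟩, ⟨1, 0, 0, -1, 1, -1, 0, 0⟩⟩,
  ⟨⟨-2, 1, -1, 0, 0, 0, -1, 1⟩, ⟨0, 1, 1, 0, 0, 0, -1, 1⟩, ⟨-1, 0, 0, -1, -1, -1, 0, 0⟩⟩,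
  ⟨⟨-2, 1, -1, 0, 0, 0, -1, 1⟩, ⟨0, 1, 1, 0, 0, 0, -1, 1⟩, ⟨1, 0, 0, 1, 1, 1, 0, 0⟩⟩,
  ⟨⟨-2, 1, -1, 0, 0, 0, -1, 1⟩, ⟨1, -1, 0, 0, -1, 0, 0, 1⟩, ⟨0, 0, -1, -1, 0, 1, -1, 0⟩⟩,
  ⟨⟨-2, 1, -1, 0, 0, 0, -1, 1⟩, ⟨1, -1, 0, 0, -1, 0, 0, 1⟩, ⟨0, 0, 1, 1, 0, -1, 1, 0⟩⟩,
  ⟨⟨-2, 1, -1, 0, 0, 0, -1, 1⟩, ⟨1, 0, 0, -1, 1, -1, 0, 0⟩, ⟨0, -1, 1, 0, 0, 0, -1, -1⟩⟩,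
  ⟨⟨-2, 1, -1, 0, 0, 0, -1, 1⟩, ⟨1, 0, 0, -1, 1, -1, 0, 0⟩, ⟨0, 1, -1, 0, 0, 0, 1, 1⟩⟩,
  ⟨⟨-2, 1, -1, 0, 0, 0, -1, 1⟩, ⟨1, 0, 0, 1, 1, 1, 0, 0⟩, ⟨0, -1, -1, 0, 0, 0, 1, -1⟩⟩,
  ⟨⟨-2, 1, -1, 0, 0, 0, -1, 1⟩, ⟨1, 0, 0, 1, 1, 1, 0, 0⟩, ⟨0, 1, 1, 0, 0, 0, -1, 1⟩⟩,
  ⟨⟨-2, 1, -1, 0, 0, 0, -1, 1⟩, ⟨1, 1, 0, 0, -1, 0, 0, -1⟩, ⟨0, 0, -1, 1, 0, -1, -1, 0⟩⟩,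
  ⟨⟨-2, 1, -1, 0, 0, 0, -1, 1⟩, ⟨1, 1, 0, 0, -1, 0, 0, -1⟩, ⟨0, 0, 1, -1, 0, 1, 1, 0⟩⟩,
  ⟨⟨0, 0, 0, 0, 0, 0, 0, 0⟩, ⟨-2, 0, -2, 0, 0, 0, 0, 0⟩, ⟨-2, 0, -2, 0, 0, 0, 0, 0⟩⟩,
  ⟨⟨0, 0, 0, 0, 0, 0, 0, 0⟩, ⟨-2, 0, -2, 0, 0, 0, 0, 0⟩, ⟨-2, 0, 2, 0, 0, 0, 0, 0⟩⟩,
  ⟨⟨0, 0, 0, 0, 0, 0, 0, 0⟩, ⟨-2, 0, -2, 0, 0, 0, 0, 0⟩, ⟨0, 0, 0, 0, -2, 0, -2, 0⟩⟩,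
  ⟨⟨0, 0, 0, 0, 0, 0, 0, 0⟩, ⟨-2, 0, -2, 0, 0, 0, 0, 0⟩, ⟨0, 0, 0, 0, -2, 0, 2, 0⟩⟩,
  ⟨⟨0, 0, 0, 0, 0, 0, 0, 0⟩, ⟨-2, 0, -2, 0, 0, 0, 0, 0⟩, ⟨0, 0, 0, 0, 2, 0, -2, 0⟩⟩,
  ⟨⟨0, 0, 0, 0, 0, 0, 0, 0⟩, ⟨-2, 0, -2, 0, 0, 0, 0, 0⟩, ⟨0, 0, 0, 0, 2, 0, 2, 0⟩⟩,
  ⟨⟨0, 0, 0, 0, 0, 0, 0, 0⟩, ⟨-2, 0, -2, 0, 0, 0, 0, 0⟩, ⟨2, 0, -2, 0, 0, 0, 0, 0⟩⟩,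
  ⟨⟨0, 0, 0, 0, 0, 0, 0, 0⟩, ⟨-2, 0, -2, 0, 0, 0, 0, 0⟩, ⟨2, 0, 2, 0, 0, 0, 0, 0⟩⟩,
  ⟨⟨0, 0, 0, 0, 0, 0, 0, 0⟩, ⟨0, 0, 0, 0, 0, 0, 0, 0⟩, ⟨4, 0, 0, 0, 0, 0, 0, 0⟩⟩,
  ⟨⟨0, 0, 0, 0, 0, 0, 0, 0⟩, ⟨4, 0, 0, 0, 0, 0, 0, 0⟩, ⟨0, 0, 0, 0, 0, 0, 0, 0⟩⟩,
  ⟨⟨0, 2, 0, 0, 0, 0, 0, 0⟩, ⟨-1, 0, -1, 0, -1, 0, -1, 0⟩, ⟨-1, 1, 1, -1, 1, -1, 1, -1⟩⟩,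
  ⟨⟨0, 2, 0, 0, 0, 0, 0, 0⟩, ⟨-1, 0, -1, 0, -1, 0, -1, 0⟩, ⟨1, -1, -1, 1, -1, 1, -1, 1⟩⟩,
  ⟨⟨0, 2, 0, 0, 0, 0, 0, 0⟩, ⟨-1, 0, -1, 0, 1, 0, 1, 0⟩, ⟨-1, 1, -1, 1, -1, 1, 1, -1⟩⟩,
  ⟨⟨0, 2, 0, 0, 0, 0, 0, 0⟩, ⟨-1, 0, -1, 0, 1, 0, 1, 0⟩, ⟨1, -1, 1, -1, 1, -1, -1, 1⟩⟩,
  ⟨⟨0, 2, 0, 0, 0, 0, 0, 0⟩, ⟨-1, 0, 1, 0, -1, 0, 1, 0⟩, ⟨-1, 1, 1, -1, -1, 1, -1, 1⟩⟩,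
  ⟨⟨0, 2, 0, 0, 0, 0, 0, 0⟩, ⟨-1, 0, 1, 0, -1, 0, 1, 0⟩, ⟨1, -1, -1, 1, 1, -1, 1, -1⟩⟩,
  ⟨⟨0, 2, 0, 0, 0, 0, 0, 0⟩, ⟨-1, 0, 1, 0, 1, 0, -1, 0⟩, ⟨-1, 1, -1, 1, 1, -1, -1, 1⟩⟩,
  ⟨⟨0, 2, 0, 0, 0, 0, 0, 0⟩, ⟨-1, 0, 1, 0, 1, 0, -1, 0⟩, ⟨1, -1, 1, -1, -1, 1, 1, -1⟩⟩,
  ⟨⟨0, 2, 0, 0, 0, 0, 0, 0⟩, ⟨-1, 1, -1, 1, -1, 1, 1, -1⟩, ⟨-1, 0, -1, 0, 1, 0, 1, 0⟩⟩,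
  ⟨⟨0, 2, 0, 0, 0, 0, 0, 0⟩, ⟨-1, 1, -1, 1, -1, 1, 1, -1⟩, ⟨1, 0, 1, 0, -1, 0, -1, 0⟩⟩,
  ⟨⟨0, 2, 0, 0, 0, 0, 0, 0⟩, ⟨-1, 1, -1, 1, 1, -1, -1, 1⟩, ⟨-1, 0, 1, 0, 1, 0, -1, 0⟩⟩,
  ⟨⟨0, 2, 0, 0, 0, 0, 0, 0⟩, ⟨-1, 1, -1, 1, 1, -1, -1, 1⟩, ⟨1, 0, -1, 0, -1, 0, 1, 0⟩⟩,
  ⟨⟨0, 2, 0, 0, 0, 0, 0, 0⟩, ⟨-1, 1, 1, -1, -1, 1, -1, 1⟩, ⟨-1, 0, 1, 0, -1, 0, 1, 0⟩⟩,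
  ⟨⟨0, 2, 0, 0, 0, 0, 0, 0⟩, ⟨-1, 1, 1, -1, -1, 1, -1, 1⟩, ⟨1, 0, -1, 0, 1, 0, -1, 0⟩⟩,
  ⟨⟨0, 2, 0, 0, 0, 0, 0, 0⟩, ⟨-1, 1, 1, -1, 1, -1, 1, -1⟩, ⟨-1, 0, -1, 0, -1, 0, -1, 0⟩⟩,
  ⟨⟨0, 2, 0, 0, 0, 0, 0, 0⟩, ⟨-1, 1, 1, -1, 1, -1, 1, -1⟩, ⟨1, 0, 1, 0, 1, 0, 1, 0⟩⟩,
  ⟨⟨0, 2, 0, 0, 0, 0, 0, 0⟩, ⟨1, -1, -1, 1, -1, 1, -1, 1⟩, ⟨-1, 0, -1, 0, -1, 0, -1, 0⟩⟩,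
  ⟨⟨0, 2, 0, 0, 0, 0, 0, 0⟩, ⟨1, -1, -1, 1, -1, 1, -1, 1⟩, ⟨1, 0, 1, 0, 1, 0, 1, 0⟩⟩,
  ⟨⟨0, 2, 0, 0, 0, 0, 0, 0⟩, ⟨1, -1, -1, 1, 1, -1, 1, -1⟩, ⟨-1, 0, 1, 0, -1, 0, 1, 0⟩⟩,
  ⟨⟨0, 2, 0, 0, 0, 0, 0, 0⟩, ⟨1, -1, -1, 1, 1, -1, 1, -1⟩, ⟨1, 0, -1, 0, 1, 0, -1, 0⟩⟩,
  ⟨⟨0, 2, 0, 0, 0, 0, 0, 0⟩, ⟨1, -1, 1, -1, -1, 1, 1, -1⟩, ⟨-1, 0, 1, 0, 1, 0, -1, 0⟩⟩,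
  ⟨⟨0, 2, 0, 0, 0, 0, 0, 0⟩, ⟨1, -1, 1, -1, -1, 1, 1, -1⟩, ⟨1, 0, -1, 0, -1, 0, 1, 0⟩⟩,
  ⟨⟨0, 2, 0, 0, 0, 0, 0, 0⟩, ⟨1, -1, 1, -1, 1, -1, -1, 1⟩, ⟨-1, 0, -1, 0, 1, 0, 1, 0⟩⟩,
  ⟨⟨0, 2, 0, 0, 0, 0, 0, 0⟩, ⟨1, -1, 1, -1, 1, -1, -1, 1⟩, ⟨1, 0, 1, 0, -1, 0, -1, 0⟩⟩,
  ⟨⟨0, 2, 0, 0, 0, 0, 0, 0⟩, ⟨1, 0, -1, 0, -1, 0, 1, 0⟩, ⟨-1, 1, -1, 1, 1, -1, -1, 1⟩⟩,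
  ⟨⟨0, 2, 0, 0, 0, 0, 0, 0⟩, ⟨1, 0, -1, 0, -1, 0, 1, 0⟩, ⟨1, -1, 1, -1, -1, 1, 1, -1⟩⟩,
  ⟨⟨0, 2, 0, 0, 0, 0, 0, 0⟩, ⟨1, 0, -1, 0, 1, 0, -1, 0⟩, ⟨-1, 1, 1, -1, -1, 1, -1, 1⟩⟩,
  ⟨⟨0, 2, 0, 0, 0, 0, 0, 0⟩, ⟨1, 0, -1, 0, 1, 0, -1, 0⟩, ⟨1, -1, -1, 1, 1, -1, 1, -1⟩⟩,
  ⟨⟨0, 2, 0, 0, 0, 0, 0, 0⟩, ⟨1, 0, 1, 0, -1, 0, -1, 0⟩, ⟨-1, 1, -1, 1, -1, 1, 1, -1⟩⟩,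
  ⟨⟨0, 2, 0, 0, 0, 0, 0, 0⟩, ⟨1, 0, 1, 0, -1, 0, -1, 0⟩, ⟨1, -1, 1, -1, 1, -1, -1, 1⟩⟩,
  ⟨⟨0, 2, 0, 0, 0, 0, 0, 0⟩, ⟨1, 0, 1, 0, 1, 0, 1, 0⟩, ⟨-1, 1, 1, -1, 1, -1, 1, -1⟩⟩,
  ⟨⟨0, 2, 0, 0, 0, 0, 0, 0⟩, ⟨1, 0, 1, 0, 1, 0, 1, 0⟩, ⟨1, -1, -1, 1, -1, 1, -1, 1⟩⟩,
  ⟨⟨2, 0, 0, 0, 0, 0, 0, 0⟩, ⟨-2, 0, 0, 0, 0, 0, 0, 0⟩, ⟨-1, 0, -1, 0, 1, 0, -1, 2⟩⟩,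
  ⟨⟨2, 0, 0, 0, 0, 0, 0, 0⟩, ⟨-2, 0, 0, 0, 0, 0, 0, 0⟩, ⟨-1, 0, -1, 2, -1, 0, 1, 0⟩⟩,
  ⟨⟨2, 0, 0, 0, 0, 0, 0, 0⟩, ⟨-2, 0, 0, 0, 0, 0, 0, 0⟩, ⟨-1, 0, 1, 0, -1, 2, -1, 0⟩⟩,
  ⟨⟨2, 0, 0, 0, 0, 0, 0, 0⟩, ⟨-2, 0, 0, 0, 0, 0, 0, 0⟩, ⟨-1, 2, 1, 0, 1, 0, 1, 0⟩⟩,
  ⟨⟨2, 0, 0, 0, 0, 0, 0, 0⟩, ⟨-2, 0, 0, 0, 0, 0, 0, 0⟩, ⟨1, -2, -1, 0, -1, 0, -1, 0⟩⟩,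
  ⟨⟨2, 0, 0, 0, 0, 0, 0, 0⟩, ⟨-2, 0, 0, 0, 0, 0, 0, 0⟩, ⟨1, 0, -1, 0, 1, -2, 1, 0⟩⟩,
  ⟨⟨2, 0, 0, 0, 0, 0, 0, 0⟩, ⟨-2, 0, 0, 0, 0, 0, 0, 0⟩, ⟨1, 0, 1, -2, 1, 0, -1, 0⟩⟩,
  ⟨⟨2, 0, 0, 0, 0, 0, 0, 0⟩, ⟨-2, 0, 0, 0, 0, 0, 0, 0⟩, ⟨1, 0, 1, 0, -1, 0, 1, -2⟩⟩,
  ⟨⟨2, 0, 0, 0, 0, 0, 0, 0⟩, ⟨-1, 0, -1, 0, -1, 0, 1, -2⟩, ⟨0, 0, -2, 0, 0, 0, 0, 0⟩⟩,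
  ⟨⟨2, 0, 0, 0, 0, 0, 0, 0⟩, ⟨-1, 0, -1, 0, -1, 0, 1, -2⟩, ⟨0, 0, 2, 0, 0, 0, 0, 0⟩⟩,
  ⟨⟨2, 0, 0, 0, 0, 0, 0, 0⟩, ⟨-1, 0, -1, 0, -1, 2, 1, 0⟩, ⟨0, 0, 0, 0, -2, 0, 0, 0⟩⟩,
  ⟨⟨2, 0, 0, 0, 0, 0, 0, 0⟩, ⟨-1, 0, -1, 0, -1, 2, 1, 0⟩, ⟨0, 0, 0, 0, 2, 0, 0, 0⟩⟩,
  ⟨⟨2, 0, 0, 0, 0, 0, 0, 0⟩, ⟨-1, 0, -1, 0, 1, -2, -1, 0⟩, ⟨0, 0, 0, 0, 0, 0, -2, 0⟩⟩,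
  ⟨⟨2, 0, 0, 0, 0, 0, 0, 0⟩, ⟨-1, 0, -1, 0, 1, -2, -1, 0⟩, ⟨0, 0, 0, 0, 0, 0, 2, 0⟩⟩,
  ⟨⟨2, 0, 0, 0, 0, 0, 0, 0⟩, ⟨-1, 0, -1, 0, 1, 0, -1, 2⟩, ⟨-2, 0, 0, 0, 0, 0, 0, 0⟩⟩,
  ⟨⟨2, 0, 0, 0, 0, 0, 0, 0⟩, ⟨-1, 0, -1, 0, 1, 0, -1, 2⟩, ⟨2, 0, 0, 0, 0, 0, 0, 0⟩⟩,
  ⟨⟨2, 0, 0, 0, 0, 0, 0, 0⟩, ⟨-1, 0, -1, 2, -1, 0, 1, 0⟩, ⟨-2, 0, 0, 0, 0, 0, 0, 0⟩⟩,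
  ⟨⟨2, 0, 0, 0, 0, 0, 0, 0⟩, ⟨-1, 0, -1, 2, -1, 0, 1, 0⟩, ⟨2, 0, 0, 0, 0, 0, 0, 0⟩⟩,
  ⟨⟨2, 0, 0, 0, 0, 0, 0, 0⟩, ⟨-1, 0, -1, 2, 1, 0, -1, 0⟩, ⟨0, 0, -2, 0, 0, 0, 0, 0⟩⟩,
  ⟨⟨2, 0, 0, 0, 0, 0, 0, 0⟩, ⟨-1, 0, -1, 2, 1, 0, -1, 0⟩, ⟨0, 0, 2, 0, 0, 0, 0, 0⟩⟩,
  ⟨⟨2, 0, 0, 0, 0, 0, 0, 0⟩, ⟨-1, 0, 1, -2, -1, 0, -1, 0⟩, ⟨0, 0, 0, 0, -2, 0, 0, 0⟩⟩,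
  ⟨⟨2, 0, 0, 0, 0, 0, 0, 0⟩, ⟨-1, 0, 1, -2, -1, 0, -1, 0⟩, ⟨0, 0, 0, 0, 2, 0, 0, 0⟩⟩,
  ⟨⟨2, 0, 0, 0, 0, 0, 0, 0⟩, ⟨-1, 0, 1, -2, 1, 0, 1, 0⟩, ⟨0, 0, 0, 0, 0, 0, -2, 0⟩⟩,
  ⟨⟨2, 0, 0, 0, 0, 0, 0, 0⟩, ⟨-1, 0, 1, -2, 1, 0, 1, 0⟩, ⟨0, 0, 0, 0, 0, 0, 2, 0⟩⟩,
  ⟨⟨2, 0, 0, 0, 0, 0, 0, 0⟩, ⟨-1, 0, 1, 0, -1, 0, -1, 2⟩, ⟨0, 0, 0, 0, 0, 0, -2, 0⟩⟩,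
  ⟨⟨2, 0, 0, 0, 0, 0, 0, 0⟩, ⟨-1, 0, 1, 0, -1, 0, -1, 2⟩, ⟨0, 0, 0, 0, 0, 0, 2, 0⟩⟩,
  ⟨⟨2, 0, 0, 0, 0, 0, 0, 0⟩, ⟨-1, 0, 1, 0, -1, 2, -1, 0⟩, ⟨-2, 0, 0, 0, 0, 0, 0, 0⟩⟩,
  ⟨⟨2, 0, 0, 0, 0, 0, 0, 0⟩, ⟨-1, 0, 1, 0, -1, 2, -1, 0⟩, ⟨2, 0, 0, 0, 0, 0, 0, 0⟩⟩,
  ⟨⟨2, 0, 0, 0, 0, 0, 0, 0⟩, ⟨-1, 0, 1, 0, 1, -2, 1, 0⟩, ⟨0, 0, -2, 0, 0, 0, 0, 0⟩⟩,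
  ⟨⟨2, 0, 0, 0, 0, 0, 0, 0⟩, ⟨-1, 0, 1, 0, 1, -2, 1, 0⟩, ⟨0, 0, 2, 0, 0, 0, 0, 0⟩⟩,
  ⟨⟨2, 0, 0, 0, 0, 0, 0, 0⟩, ⟨-1, 0, 1, 0, 1, 0, 1, -2⟩, ⟨0, 0, 0, 0, -2, 0, 0, 0⟩⟩,
  ⟨⟨2, 0, 0, 0, 0, 0, 0, 0⟩, ⟨-1, 0, 1, 0, 1, 0, 1, -2⟩, ⟨0, 0, 0, 0, 2, 0, 0, 0⟩⟩,
  ⟨⟨2, 0, 0, 0, 0, 0, 0, 0⟩, ⟨-1, 1, -1, 1, -1, 1, -1, 1⟩, ⟨0, -1, 0, 1, 0, 1, 0, 1⟩⟩,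
  ⟨⟨2, 0, 0, 0, 0, 0, 0, 0⟩, ⟨-1, 1, -1, 1, -1, 1, -1, 1⟩, ⟨0, 1, 0, -1, 0, -1, 0, -1⟩⟩,
  ⟨⟨2, 0, 0, 0, 0, 0, 0, 0⟩, ⟨-1, 1, -1, 1, 1, -1, 1, -1⟩, ⟨0, -1, 0, -1, 0, -1, 0, 1⟩⟩,
  ⟨⟨2, 0, 0, 0, 0, 0, 0, 0⟩, ⟨-1, 1, -1, 1, 1, -1, 1, -1⟩, ⟨0, 1, 0, 1, 0, 1, 0, -1⟩⟩,
  ⟨⟨2, 0, 0, 0, 0, 0, 0, 0⟩, ⟨-1, 1, 1, -1, -1, 1, 1, -1⟩, ⟨0, -1, 0, 1, 0, -1, 0, -1⟩⟩,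
  ⟨⟨2, 0, 0, 0, 0, 0, 0, 0⟩, ⟨-1, 1, 1, -1, -1, 1, 1, -1⟩, ⟨0, 1, 0, -1, 0, 1, 0, 1⟩⟩,
  ⟨⟨2, 0, 0, 0, 0, 0, 0, 0⟩, ⟨-1, 1, 1, -1, 1, -1, -1, 1⟩, ⟨0, -1, 0, -1, 0, 1, 0, -1⟩⟩,
  ⟨⟨2, 0, 0, 0, 0, 0, 0, 0⟩, ⟨-1, 1, 1, -1, 1, -1, -1, 1⟩, ⟨0, 1, 0, 1, 0, -1, 0, 1⟩⟩,
  ⟨⟨2, 0, 0, 0, 0, 0, 0, 0⟩, ⟨-1, 2, -1, 0, -1, 0, 1, 0⟩, ⟨0, 0, 0, 0, 0, 0, -2, 0⟩⟩,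
  ⟨⟨2, 0, 0, 0, 0, 0, 0, 0⟩, ⟨-1, 2, -1, 0, -1, 0, 1, 0⟩, ⟨0, 0, 0, 0, 0, 0, 2, 0⟩⟩,
  ⟨⟨2, 0, 0, 0, 0, 0, 0, 0⟩, ⟨-1, 2, -1, 0, 1, 0, -1, 0⟩, ⟨0, 0, 0, 0, -2, 0, 0, 0⟩⟩,
  ⟨⟨2, 0, 0, 0, 0, 0, 0, 0⟩, ⟨-1, 2, -1, 0, 1, 0, -1, 0⟩, ⟨0, 0, 0, 0, 2, 0, 0, 0⟩⟩,
  ⟨⟨2, 0, 0, 0, 0, 0, 0, 0⟩, ⟨-1, 2, 1, 0, -1, 0, -1, 0⟩, ⟨0, 0, -2, 0, 0, 0, 0, 0⟩⟩,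
  ⟨⟨2, 0, 0, 0, 0, 0, 0, 0⟩, ⟨-1, 2, 1, 0, -1, 0, -1, 0⟩, ⟨0, 0, 2, 0, 0, 0, 0, 0⟩⟩,
  ⟨⟨2, 0, 0, 0, 0, 0, 0, 0⟩, ⟨-1, 2, 1, 0, 1, 0, 1, 0⟩, ⟨-2, 0, 0, 0, 0, 0, 0, 0⟩⟩,
  ⟨⟨2, 0, 0, 0, 0, 0, 0, 0⟩, ⟨-1, 2, 1, 0, 1, 0, 1, 0⟩, ⟨2, 0, 0, 0, 0, 0, 0, 0⟩⟩,
  ⟨⟨2, 0, 0, 0, 0, 0, 0, 0⟩, ⟨0, -1, 0, -1, 0, -1, 0, 1⟩, ⟨-1, 1, -1, 1, 1, -1, 1, -1⟩⟩,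
  ⟨⟨2, 0, 0, 0, 0, 0, 0, 0⟩, ⟨0, -1, 0, -1, 0, -1, 0, 1⟩, ⟨1, -1, 1, -1, -1, 1, -1, 1⟩⟩,
  ⟨⟨2, 0, 0, 0, 0, 0, 0, 0⟩, ⟨0, -1, 0, -1, 0, 1, 0, -1⟩, ⟨-1, 1, 1, -1, 1, -1, -1, 1⟩⟩,
  ⟨⟨2, 0, 0, 0, 0, 0, 0, 0⟩, ⟨0, -1, 0, -1, 0, 1, 0, -1⟩, ⟨1, -1, -1, 1, -1, 1, 1, -1⟩⟩,
  ⟨⟨2, 0, 0, 0, 0, 0, 0, 0⟩, ⟨0, -1, 0, 1, 0, -1, 0, -1⟩, ⟨-1, 1, 1, -1, -1, 1, 1, -1⟩⟩,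
  ⟨⟨2, 0, 0, 0, 0, 0, 0, 0⟩, ⟨0, -1, 0, 1, 0, -1, 0, -1⟩, ⟨1, -1, -1, 1, 1, -1, -1, 1⟩⟩,
  ⟨⟨2, 0, 0, 0, 0, 0, 0, 0⟩, ⟨0, -1, 0, 1, 0, 1, 0, 1⟩, ⟨-1, 1, -1, 1, -1, 1, -1, 1⟩⟩,
  ⟨⟨2, 0, 0, 0, 0, 0, 0, 0⟩, ⟨0, -1, 0, 1, 0, 1, 0, 1⟩, ⟨1, -1, 1, -1, 1, -1, 1, -1⟩⟩,
  ⟨⟨2, 0, 0, 0, 0, 0, 0, 0⟩, ⟨0, 0, -2, 0, 0, 0, 0, 0⟩, ⟨-1, 0, -1, 0, -1, 0, 1, -2⟩⟩,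
  ⟨⟨2, 0, 0, 0, 0, 0, 0, 0⟩, ⟨0, 0, -2, 0, 0, 0, 0, 0⟩, ⟨-1, 0, -1, 2, 1, 0, -1, 0⟩⟩,
  ⟨⟨2, 0, 0, 0, 0, 0, 0, 0⟩, ⟨0, 0, -2, 0, 0, 0, 0, 0⟩, ⟨-1, 0, 1, 0, 1, -2, 1, 0⟩⟩,
  ⟨⟨2, 0, 0, 0, 0, 0, 0, 0⟩, ⟨0, 0, -2, 0, 0, 0, 0, 0⟩, ⟨-1, 2, 1, 0, -1, 0, -1, 0⟩⟩,
  ⟨⟨2, 0, 0, 0, 0, 0, 0, 0⟩, ⟨0, 0, -2, 0, 0, 0, 0, 0⟩, ⟨1, -2, -1, 0, 1, 0, 1, 0⟩⟩,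
  ⟨⟨2, 0, 0, 0, 0, 0, 0, 0⟩, ⟨0, 0, -2, 0, 0, 0, 0, 0⟩, ⟨1, 0, -1, 0, -1, 2, -1, 0⟩⟩,
  ⟨⟨2, 0, 0, 0, 0, 0, 0, 0⟩, ⟨0, 0, -2, 0, 0, 0, 0, 0⟩, ⟨1, 0, 1, -2, -1, 0, 1, 0⟩⟩,
  ⟨⟨2, 0, 0, 0, 0, 0, 0, 0⟩, ⟨0, 0, -2, 0, 0, 0, 0, 0⟩, ⟨1, 0, 1, 0, 1, 0, -1, 2⟩⟩,
  ⟨⟨2, 0, 0, 0, 0, 0, 0, 0⟩, ⟨0, 0, 0, 0, -2, 0, 0, 0⟩, ⟨-1, 0, -1, 0, -1, 2, 1, 0⟩⟩,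
  ⟨⟨2, 0, 0, 0, 0, 0, 0, 0⟩, ⟨0, 0, 0, 0, -2, 0, 0, 0⟩, ⟨-1, 0, 1, -2, -1, 0, -1, 0⟩⟩,
  ⟨⟨2, 0, 0, 0, 0, 0, 0, 0⟩, ⟨0, 0, 0, 0, -2, 0, 0, 0⟩, ⟨-1, 0, 1, 0, 1, 0, 1, -2⟩⟩,
  ⟨⟨2, 0, 0, 0, 0, 0, 0, 0⟩, ⟨0, 0, 0, 0, -2, 0, 0, 0⟩, ⟨-1, 2, -1, 0, 1, 0, -1, 0⟩⟩,
  ⟨⟨2, 0, 0, 0, 0, 0, 0, 0⟩, ⟨0, 0, 0, 0, -2, 0, 0, 0⟩, ⟨1, -2, 1, 0, -1, 0, 1, 0⟩⟩,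
  ⟨⟨2, 0, 0, 0, 0, 0, 0, 0⟩, ⟨0, 0, 0, 0, -2, 0, 0, 0⟩, ⟨1, 0, -1, 0, -1, 0, -1, 2⟩⟩,
  ⟨⟨2, 0, 0, 0, 0, 0, 0, 0⟩, ⟨0, 0, 0, 0, -2, 0, 0, 0⟩, ⟨1, 0, -1, 2, 1, 0, 1, 0⟩⟩,
  ⟨⟨2, 0, 0, 0, 0, 0, 0, 0⟩, ⟨0, 0, 0, 0, -2, 0, 0, 0⟩, ⟨1, 0, 1, 0, 1, -2, -1, 0⟩⟩,
  ⟨⟨2, 0, 0, 0, 0, 0, 0, 0⟩, ⟨0, 0, 0, 0, 0, 0, -2, 0⟩, ⟨-1, 0, -1, 0, 1, -2, -1, 0⟩⟩,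
  ⟨⟨2, 0, 0, 0, 0, 0, 0, 0⟩, ⟨0, 0, 0, 0, 0, 0, -2, 0⟩, ⟨-1, 0, 1, -2, 1, 0, 1, 0⟩⟩,
  ⟨⟨2, 0, 0, 0, 0, 0, 0, 0⟩, ⟨0, 0, 0, 0, 0, 0, -2, 0⟩, ⟨-1, 0, 1, 0, -1, 0, -1, 2⟩⟩,
  ⟨⟨2, 0, 0, 0, 0, 0, 0, 0⟩, ⟨0, 0, 0, 0, 0, 0, -2, 0⟩, ⟨-1, 2, -1, 0, -1, 0, 1, 0⟩⟩,
  ⟨⟨2, 0, 0, 0, 0, 0, 0, 0⟩, ⟨0, 0, 0, 0, 0, 0, -2, 0⟩, ⟨1, -2, 1, 0, 1, 0, -1, 0⟩⟩,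
  ⟨⟨2, 0, 0, 0, 0, 0, 0, 0⟩, ⟨0, 0, 0, 0, 0, 0, -2, 0⟩, ⟨1, 0, -1, 0, 1, 0, 1, -2⟩⟩,
  ⟨⟨2, 0, 0, 0, 0, 0, 0, 0⟩, ⟨0, 0, 0, 0, 0, 0, -2, 0⟩, ⟨1, 0, -1, 2, -1, 0, -1, 0⟩⟩,
  ⟨⟨2, 0, 0, 0, 0, 0, 0, 0⟩, ⟨0, 0, 0, 0, 0, 0, -2, 0⟩, ⟨1, 0, 1, 0, -1, 2, 1, 0⟩⟩,
  ⟨⟨2, 0, 0, 0, 0, 0, 0, 0⟩, ⟨0, 0, 0, 0, 0, 0, 2, 0⟩, ⟨-1, 0, -1, 0, 1, -2, -1, 0⟩⟩,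
  ⟨⟨2, 0, 0, 0, 0, 0, 0, 0⟩, ⟨0, 0, 0, 0, 0, 0, 2, 0⟩, ⟨-1, 0, 1, -2, 1, 0, 1, 0⟩⟩,
  ⟨⟨2, 0, 0, 0, 0, 0, 0, 0⟩, ⟨0, 0, 0, 0, 0, 0, 2, 0⟩, ⟨-1, 0, 1, 0, -1, 0, -1, 2⟩⟩,
  ⟨⟨2, 0, 0, 0, 0, 0, 0, 0⟩, ⟨0, 0, 0, 0, 0, 0, 2, 0⟩, ⟨-1, 2, -1, 0, -1, 0, 1, 0⟩⟩,
  ⟨⟨2, 0, 0, 0, 0, 0, 0, 0⟩, ⟨0, 0, 0, 0, 0, 0, 2, 0⟩, ⟨1, -2, 1, 0, 1, 0, -1, 0⟩⟩,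
  ⟨⟨2, 0, 0, 0, 0, 0, 0, 0⟩, ⟨0, 0, 0, 0, 0, 0, 2, 0⟩, ⟨1, 0, -1, 0, 1, 0, 1, -2⟩⟩,
  ⟨⟨2, 0, 0, 0, 0, 0, 0, 0⟩, ⟨0, 0, 0, 0, 0, 0, 2, 0⟩, ⟨1, 0, -1, 2, -1, 0, -1, 0⟩⟩,
  ⟨⟨2, 0, 0, 0, 0, 0, 0, 0⟩, ⟨0, 0, 0, 0, 0, 0, 2, 0⟩, ⟨1, 0, 1, 0, -1, 2, 1, 0⟩⟩,
  ⟨⟨2, 0, 0, 0, 0, 0, 0, 0⟩, ⟨0, 0, 0, 0, 2, 0, 0, 0⟩, ⟨-1, 0, -1, 0, -1, 2, 1, 0⟩⟩,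
  ⟨⟨2, 0, 0, 0, 0, 0, 0, 0⟩, ⟨0, 0, 0, 0, 2, 0, 0, 0⟩, ⟨-1, 0, 1, -2, -1, 0, -1, 0⟩⟩,
  ⟨⟨2, 0, 0, 0, 0, 0, 0, 0⟩, ⟨0, 0, 0, 0, 2, 0, 0, 0⟩, ⟨-1, 0, 1, 0, 1, 0, 1, -2⟩⟩,
  ⟨⟨2, 0, 0, 0, 0, 0, 0, 0⟩, ⟨0, 0, 0, 0, 2, 0, 0, 0⟩, ⟨-1, 2, -1, 0, 1, 0, -1, 0⟩⟩,
  ⟨⟨2, 0, 0, 0, 0, 0, 0, 0⟩, ⟨0, 0, 0, 0, 2, 0, 0, 0⟩, ⟨1, -2, 1, 0, -1, 0, 1, 0⟩⟩,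
  ⟨⟨2, 0, 0, 0, 0, 0, 0, 0⟩, ⟨0, 0, 0, 0, 2, 0, 0, 0⟩, ⟨1, 0, -1, 0, -1, 0, -1, 2⟩⟩,
  ⟨⟨2, 0, 0, 0, 0, 0, 0, 0⟩, ⟨0, 0, 0, 0, 2, 0, 0, 0⟩, ⟨1, 0, -1, 2, 1, 0, 1, 0⟩⟩,
  ⟨⟨2, 0, 0, 0, 0, 0, 0, 0⟩, ⟨0, 0, 0, 0, 2, 0, 0, 0⟩, ⟨1, 0, 1, 0, 1, -2, -1, 0⟩⟩,
  ⟨⟨2, 0, 0, 0, 0, 0, 0, 0⟩, ⟨0, 0, 2, 0, 0, 0, 0, 0⟩, ⟨-1, 0, -1, 0, -1, 0, 1, -2⟩⟩,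
  ⟨⟨2, 0, 0, 0, 0, 0, 0, 0⟩, ⟨0, 0, 2, 0, 0, 0, 0, 0⟩, ⟨-1, 0, -1, 2, 1, 0, -1, 0⟩⟩,
  ⟨⟨2, 0, 0, 0, 0, 0, 0, 0⟩, ⟨0, 0, 2, 0, 0, 0, 0, 0⟩, ⟨-1, 0, 1, 0, 1, -2, 1, 0⟩⟩,
  ⟨⟨2, 0, 0, 0, 0, 0, 0, 0⟩, ⟨0, 0, 2, 0, 0, 0, 0, 0⟩, ⟨-1, 2, 1, 0, -1, 0, -1, 0⟩⟩,
  ⟨⟨2, 0, 0, 0, 0, 0, 0, 0⟩, ⟨0, 0, 2, 0, 0, 0, 0, 0⟩, ⟨1, -2, -1, 0, 1, 0, 1, 0⟩⟩,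
  ⟨⟨2, 0, 0, 0, 0, 0, 0, 0⟩, ⟨0, 0, 2, 0, 0, 0, 0, 0⟩, ⟨1, 0, -1, 0, -1, 2, -1, 0⟩⟩,
  ⟨⟨2, 0, 0, 0, 0, 0, 0, 0⟩, ⟨0, 0, 2, 0, 0, 0, 0, 0⟩, ⟨1, 0, 1, -2, -1, 0, 1, 0⟩⟩,
  ⟨⟨2, 0, 0, 0, 0, 0, 0, 0⟩, ⟨0, 0, 2, 0, 0, 0, 0, 0⟩, ⟨1, 0, 1, 0, 1, 0, -1, 2⟩⟩,
  ⟨⟨2, 0, 0, 0, 0, 0, 0, 0⟩, ⟨0, 1, 0, -1, 0, -1, 0, -1⟩, ⟨-1, 1, -1, 1, -1, 1, -1, 1⟩⟩,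
  ⟨⟨2, 0, 0, 0, 0, 0, 0, 0⟩, ⟨0, 1, 0, -1, 0, -1, 0, -1⟩, ⟨1, -1, 1, -1, 1, -1, 1, -1⟩⟩,
  ⟨⟨2, 0, 0, 0, 0, 0, 0, 0⟩, ⟨0, 1, 0, -1, 0, 1, 0, 1⟩, ⟨-1, 1, 1, -1, -1, 1, 1, -1⟩⟩,
  ⟨⟨2, 0, 0, 0, 0, 0, 0, 0⟩, ⟨0, 1, 0, -1, 0, 1, 0, 1⟩, ⟨1, -1, -1, 1, 1, -1, -1, 1⟩⟩,
  ⟨⟨2, 0, 0, 0, 0, 0, 0, 0⟩, ⟨0, 1, 0, 1, 0, -1, 0, 1⟩, ⟨-1, 1, 1, -1, 1, -1, -1, 1⟩⟩,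
  ⟨⟨2, 0, 0, 0, 0, 0, 0, 0⟩, ⟨0, 1, 0, 1, 0, -1, 0, 1⟩, ⟨1, -1, -1, 1, -1, 1, 1, -1⟩⟩,
  ⟨⟨2, 0, 0, 0, 0, 0, 0, 0⟩, ⟨0, 1, 0, 1, 0, 1, 0, -1⟩, ⟨-1, 1, -1, 1, 1, -1, 1, -1⟩⟩,
  ⟨⟨2, 0, 0, 0, 0, 0, 0, 0⟩, ⟨0, 1, 0, 1, 0, 1, 0, -1⟩, ⟨1, -1, 1, -1, -1, 1, -1, 1⟩⟩,
  ⟨⟨2, 0, 0, 0, 0, 0, 0, 0⟩, ⟨1, -2, -1, 0, -1, 0, -1, 0⟩, ⟨-2, 0, 0, 0, 0, 0, 0, 0⟩⟩,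
  ⟨⟨2, 0, 0, 0, 0, 0, 0, 0⟩, ⟨1, -2, -1, 0, -1, 0, -1, 0⟩, ⟨2, 0, 0, 0, 0, 0, 0, 0⟩⟩,
  ⟨⟨2, 0, 0, 0, 0, 0, 0, 0⟩, ⟨1, -2, -1, 0, 1, 0, 1, 0⟩, ⟨0, 0, -2, 0, 0, 0, 0, 0⟩⟩,
  ⟨⟨2, 0, 0, 0, 0, 0, 0, 0⟩, ⟨1, -2, -1, 0, 1, 0, 1, 0⟩, ⟨0, 0, 2, 0, 0, 0, 0, 0⟩⟩,
  ⟨⟨2, 0, 0, 0, 0, 0, 0, 0⟩, ⟨1, -2, 1, 0, -1, 0, 1, 0⟩, ⟨0, 0, 0, 0, -2, 0, 0, 0⟩⟩,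
  ⟨⟨2, 0, 0, 0, 0, 0, 0, 0⟩, ⟨1, -2, 1, 0, -1, 0, 1, 0⟩, ⟨0, 0, 0, 0, 2, 0, 0, 0⟩⟩,
  ⟨⟨2, 0, 0, 0, 0, 0, 0, 0⟩, ⟨1, -2, 1, 0, 1, 0, -1, 0⟩, ⟨0, 0, 0, 0, 0, 0, -2, 0⟩⟩,
  ⟨⟨2, 0, 0, 0, 0, 0, 0, 0⟩, ⟨1, -2, 1, 0, 1, 0, -1, 0⟩, ⟨0, 0, 0, 0, 0, 0, 2, 0⟩⟩,
  ⟨⟨2, 0, 0, 0, 0, 0, 0, 0⟩, ⟨1, -1, -1, 1, -1, 1, 1, -1⟩, ⟨0, -1, 0, -1, 0, 1, 0, -1⟩⟩,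
  ⟨⟨2, 0, 0, 0, 0, 0, 0, 0⟩, ⟨1, -1, -1, 1, -1, 1, 1, -1⟩, ⟨0, 1, 0, 1, 0, -1, 0, 1⟩⟩,
  ⟨⟨2, 0, 0, 0, 0, 0, 0, 0⟩, ⟨1, -1, -1, 1, 1, -1, -1, 1⟩, ⟨0, -1, 0, 1, 0, -1, 0, -1⟩⟩,
  ⟨⟨2, 0, 0, 0, 0, 0, 0, 0⟩, ⟨1, -1, -1, 1, 1, -1, -1, 1⟩, ⟨0, 1, 0, -1, 0, 1, 0, 1⟩⟩,
  ⟨⟨2, 0, 0, 0, 0, 0, 0, 0⟩, ⟨1, -1, 1, -1, -1, 1, -1, 1⟩, ⟨0, -1, 0, -1, 0, -1, 0, 1⟩⟩,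
  ⟨⟨2, 0, 0, 0, 0, 0, 0, 0⟩, ⟨1, -1, 1, -1, -1, 1, -1, 1⟩, ⟨0, 1, 0, 1, 0, 1, 0, -1⟩⟩,
  ⟨⟨2, 0, 0, 0, 0, 0, 0, 0⟩, ⟨1, -1, 1, -1, 1, -1, 1, -1⟩, ⟨0, -1, 0, 1, 0, 1, 0, 1⟩⟩,
  ⟨⟨2, 0, 0, 0, 0, 0, 0, 0⟩, ⟨1, -1, 1, -1, 1, -1, 1, -1⟩, ⟨0, 1, 0, -1, 0, -1, 0, -1⟩⟩,
  ⟨⟨2, 0, 0, 0, 0, 0, 0, 0⟩, ⟨1, 0, -1, 0, -1, 0, -1, 2⟩, ⟨0, 0, 0, 0, -2, 0, 0, 0⟩⟩,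
  ⟨⟨2, 0, 0, 0, 0, 0, 0, 0⟩, ⟨1, 0, -1, 0, -1, 0, -1, 2⟩, ⟨0, 0, 0, 0, 2, 0, 0, 0⟩⟩,
  ⟨⟨2, 0, 0, 0, 0, 0, 0, 0⟩, ⟨1, 0, -1, 0, -1, 2, -1, 0⟩, ⟨0, 0, -2, 0, 0, 0, 0, 0⟩⟩,
  ⟨⟨2, 0, 0, 0, 0, 0, 0, 0⟩, ⟨1, 0, -1, 0, -1, 2, -1, 0⟩, ⟨0, 0, 2, 0, 0, 0, 0, 0⟩⟩,
  ⟨⟨2, 0, 0, 0, 0, 0, 0, 0⟩, ⟨1, 0, -1, 0, 1, -2, 1, 0⟩, ⟨-2, 0, 0, 0, 0, 0, 0, 0⟩⟩,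
  ⟨⟨2, 0, 0, 0, 0, 0, 0, 0⟩, ⟨1, 0, -1, 0, 1, -2, 1, 0⟩, ⟨2, 0, 0, 0, 0, 0, 0, 0⟩⟩,
  ⟨⟨2, 0, 0, 0, 0, 0, 0, 0⟩, ⟨1, 0, -1, 0, 1, 0, 1, -2⟩, ⟨0, 0, 0, 0, 0, 0, -2, 0⟩⟩,
  ⟨⟨2, 0, 0, 0, 0, 0, 0, 0⟩, ⟨1, 0, -1, 0, 1, 0, 1, -2⟩, ⟨0, 0, 0, 0, 0, 0, 2, 0⟩⟩,
  ⟨⟨2, 0, 0, 0, 0, 0, 0, 0⟩, ⟨1, 0, -1, 2, -1, 0, -1, 0⟩, ⟨0, 0, 0, 0, 0, 0, -2, 0⟩⟩,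
  ⟨⟨2, 0, 0, 0, 0, 0, 0, 0⟩, ⟨1, 0, -1, 2, -1, 0, -1, 0⟩, ⟨0, 0, 0, 0, 0, 0, 2, 0⟩⟩,
  ⟨⟨2, 0, 0, 0, 0, 0, 0, 0⟩, ⟨1, 0, -1, 2, 1, 0, 1, 0⟩, ⟨0, 0, 0, 0, -2, 0, 0, 0⟩⟩,
  ⟨⟨2, 0, 0, 0, 0, 0, 0, 0⟩, ⟨1, 0, -1, 2, 1, 0, 1, 0⟩, ⟨0, 0, 0, 0, 2, 0, 0, 0⟩⟩,
  ⟨⟨2, 0, 0, 0, 0, 0, 0, 0⟩, ⟨1, 0, 1, -2, -1, 0, 1, 0⟩, ⟨0, 0, -2, 0, 0, 0, 0, 0⟩⟩,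
  ⟨⟨2, 0, 0, 0, 0, 0, 0, 0⟩, ⟨1, 0, 1, -2, -1, 0, 1, 0⟩, ⟨0, 0, 2, 0, 0, 0, 0, 0⟩⟩,
  ⟨⟨2, 0, 0, 0, 0, 0, 0, 0⟩, ⟨1, 0, 1, -2, 1, 0, -1, 0⟩, ⟨-2, 0, 0, 0, 0, 0, 0, 0⟩⟩,
  ⟨⟨2, 0, 0, 0, 0, 0, 0, 0⟩, ⟨1, 0, 1, -2, 1, 0, -1, 0⟩, ⟨2, 0, 0, 0, 0, 0, 0, 0⟩⟩,
  ⟨⟨2, 0, 0, 0, 0, 0, 0, 0⟩, ⟨1, 0, 1, 0, -1, 0, 1, -2⟩, ⟨-2, 0, 0, 0, 0, 0, 0, 0⟩⟩,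
  ⟨⟨2, 0, 0, 0, 0, 0, 0, 0⟩, ⟨1, 0, 1, 0, -1, 0, 1, -2⟩, ⟨2, 0, 0, 0, 0, 0, 0, 0⟩⟩,
  ⟨⟨2, 0, 0, 0, 0, 0, 0, 0⟩, ⟨1, 0, 1, 0, -1, 2, 1, 0⟩, ⟨0, 0, 0, 0, 0, 0, -2, 0⟩⟩,
  ⟨⟨2, 0, 0, 0, 0, 0, 0, 0⟩, ⟨1, 0, 1, 0, -1, 2, 1, 0⟩, ⟨0, 0, 0, 0, 0, 0, 2, 0⟩⟩,
  ⟨⟨2, 0, 0, 0, 0, 0, 0, 0⟩, ⟨1, 0, 1, 0, 1, -2, -1, 0⟩, ⟨0, 0, 0, 0, -2, 0, 0, 0⟩⟩,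
  ⟨⟨2, 0, 0, 0, 0, 0, 0, 0⟩, ⟨1, 0, 1, 0, 1, -2, -1, 0⟩, ⟨0, 0, 0, 0, 2, 0, 0, 0⟩⟩,
  ⟨⟨2, 0, 0, 0, 0, 0, 0, 0⟩, ⟨1, 0, 1, 0, 1, 0, -1, 2⟩, ⟨0, 0, -2, 0, 0, 0, 0, 0⟩⟩,
  ⟨⟨2, 0, 0, 0, 0, 0, 0, 0⟩, ⟨1, 0, 1, 0, 1, 0, -1, 2⟩, ⟨0, 0, 2, 0, 0, 0, 0, 0⟩⟩,
  ⟨⟨2, 0, 0, 0, 0, 0, 0, 0⟩, ⟨2, 0, 0, 0, 0, 0, 0, 0⟩, ⟨-1, 0, -1, 0, 1, 0, -1, 2⟩⟩,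
  ⟨⟨2, 0, 0, 0, 0, 0, 0, 0⟩, ⟨2, 0, 0, 0, 0, 0, 0, 0⟩, ⟨-1, 0, -1, 2, -1, 0, 1, 0⟩⟩,
  ⟨⟨2, 0, 0, 0, 0, 0, 0, 0⟩, ⟨2, 0, 0, 0, 0, 0, 0, 0⟩, ⟨-1, 0, 1, 0, -1, 2, -1, 0⟩⟩,
  ⟨⟨2, 0, 0, 0, 0, 0, 0, 0⟩, ⟨2, 0, 0, 0, 0, 0, 0, 0⟩, ⟨-1, 2, 1, 0, 1, 0, 1, 0⟩⟩,
  ⟨⟨2, 0, 0, 0, 0, 0, 0, 0⟩, ⟨2, 0, 0, 0, 0, 0, 0, 0⟩, ⟨1, -2, -1, 0, -1, 0, -1, 0⟩⟩,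
  ⟨⟨2, 0, 0, 0, 0, 0, 0, 0⟩, ⟨2, 0, 0, 0, 0, 0, 0, 0⟩, ⟨1, 0, -1, 0, 1, -2, 1, 0⟩⟩,
  ⟨⟨2, 0, 0, 0, 0, 0, 0, 0⟩, ⟨2, 0, 0, 0, 0, 0, 0, 0⟩, ⟨1, 0, 1, -2, 1, 0, -1, 0⟩⟩,
  ⟨⟨2, 0, 0, 0, 0, 0, 0, 0⟩, ⟨2, 0, 0, 0, 0, 0, 0, 0⟩, ⟨1, 0, 1, 0, -1, 0, 1, -2⟩⟩,
  ⟨⟨4, 0, 0, 0, 0, 0, 0, 0⟩, ⟨0, 0, 0, 0, 0, 0, 0, 0⟩, ⟨0, 0, 0, 0, 0, 0, 0, 0⟩⟩]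

theorem Q448 : ∀ c ∈ Cl, wt c = 4 → ∀ ry ∈ RecL4, ry.k1 = K1 c → ∀ rz ∈ RecL8, rz.k1 = K1 c →
    rz.k2 = K2 (-(c + dec5 ry.code)) → st c + ry.s + rz.s = 0 →
    (⟨c, dec5 ry.code, dec5 rz.code⟩ : IQ3) ∈ Rl := by decide +kernel

theorem Q484 : ∀ c ∈ Cl, wt c = 4 → ∀ ry ∈ RecL8, ry.k1 = K1 c → ∀ rz ∈ RecL4, rz.k1 = K1 c →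
    rz.k2 = K2 (-(c + dec5 ry.code)) → st c + ry.s + rz.s = 0 →
    (⟨c, dec5 ry.code, dec5 rz.code⟩ : IQ3) ∈ Rl := by decide +kernel

theorem Q844 : ∀ c ∈ Cl, wt c = 8 → ∀ ry ∈ RecL4, ry.k1 = K1 c → ∀ rz ∈ RecL4, rz.k1 = K1 c →
    rz.k2 = K2 (-(c + dec5 ry.code)) → st c + ry.s + rz.s = 0 →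
    (⟨c, dec5 ry.code, dec5 rz.code⟩ : IQ3) ∈ Rl := by decide +kernel

theorem Q880 : ∀ c ∈ Cl, wt c = 8 → K1 c = K1 0 → ∀ ry ∈ RecL8, ry.k1 = K1 0 →
    K2 0 = K2 (-(c + dec5 ry.code)) → st c + ry.s = 0 →
    (⟨c, dec5 ry.code, 0⟩ : IQ3) ∈ Rl := by decide +kernel

theorem Q808 : ∀ c ∈ Cl, wt c = 8 → K1 c = K1 0 → ∀ rz ∈ RecL8, rz.k1 = K1 0 →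
    rz.k2 = K2 (-(c + 0)) → st c + rz.s = 0 →
    (⟨c, 0, dec5 rz.code⟩ : IQ3) ∈ Rl := by decide +kernel

theorem Q088 : ∀ c ∈ Cl, wt c = 8 → K1 c = K1 0 → ∀ rz ∈ RecL8, rz.k1 = K1 0 →
    rz.k2 = K2 (-(0 + c)) → st c + rz.s = 0 →
    (⟨0, c, dec5 rz.code⟩ : IQ3) ∈ Rl := by decide +kernel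

theorem noIh4 : ∀ r ∈ RecL4, r.k1 ≠ K1 0 := by decide +kernel

theorem wt_eq_zero {a : IQ} (h : wt a = 0) : a = 0 := by
  obtain ⟨a0, a1, a2, a3, a4, a5, a6, a7⟩ := a
  simp only [wt] at h
  have s0 := mul_self_nonneg a0
  have s1 := mul_self_nonneg a1
  have s2 := mul_self_nonneg a2
  have s3 := mul_self_nonneg a3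
  have s4 := mul_self_nonneg a4
  have s5 := mul_self_nonneg a5
  have s6 := mul_self_nonneg a6
  have s7 := mul_self_nonneg a7
  have t0 : a0 * a0 = 0 := by linarith
  have t1 : a1 * a1 = 0 := by linarith
  have t2 : a2 * a2 = 0 := by linarith
  have t3 : a3 * a3 = 0 := by linarith
  have t4 : a4 * a4 = 0 := by linarith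
  have t5 : a5 * a5 = 0 := by linarith
  have t6 : a6 * a6 = 0 := by linarith
  have t7 : a7 * a7 = 0 := by linarith
  rw [mul_self_eq_zero] at t0 t1 t2 t3 t4 t5 t6 t7
  subst t0 t1 t2 t3 t4 t5 t6 t7
  rfl

theorem st_zero : st (0 : IQ) = 0 := by decide

theorem wt_zero : wt (0 : IQ) = 0 := by decide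

theorem lam_keys {a : IQ3} (h : lam a) :
    K1 a.x = K1 a.y ∧ K1 a.y = K1 a.z ∧ K2 a.z = K2 (-(a.x + a.y)) :=
  ⟨K1_eq h.2.2.2.1, K1_eq h.2.2.2.2.1, K2_sum h.2.2.2.2.2⟩

theorem not_wt4_of_key {x : IQ} (hc : IQ.cond x) (h4 : wt x = 4) (hk : K1 x = K1 0) : False := by
  obtain ⟨r, hr, -, h1, -, -⟩ := mem_RecL4 hc h4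
  exact noIh4 r hr (h1.trans hk)

/-- canonical minimal vectors with first coordinate of sum of squares 4 -/
theorem canonA4 {a : IQ3} (hl : lam a) (hw : wt a.x + wt a.y + wt a.z = 16)
    (hs : st a.x + st a.y + st a.z = 0) (hc : a.x ∈ Cl) (h4 : wt a.x = 4) : a ∈ Rl := by
  obtain ⟨k1, k2, k3⟩ := lam_keys hl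
  have m1 := wt_mod4 hl.2.1
  have m2 := wt_mod4 hl.2.2.1
  have p1 := wt_nonneg a.y
  have p2 := wt_nonneg a.z
  have hy : wt a.y = 0 ∨ wt a.y = 4 ∨ wt a.y = 8 ∨ wt a.y = 12 := by omega
  rcases hy with hy | hy | hy | hy
  · exfalso
    have e := wt_eq_zero hy
    rw [e] at k1
    exact not_wt4_of_key hl.1 h4 k1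
  · have hz : wt a.z = 8 := by omega
    obtain ⟨ry, hry, ey, y1, y2, y3⟩ := mem_RecL4 hl.2.1 hy
    obtain ⟨rz, hrz, ez, z1, z2, z3⟩ := mem_RecL8 hl.2.2.1 hz
    have := Q448 a.x hc h4 ry hry (y1.trans k1.symm) rz hrz (z1.trans (k2.symm.trans k1.symm))
      (by rw [ey]; exact z2.trans k3) (by rw [y3, z3]; exact hs)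
    rw [ey, ez] at this
    exact this
  · have hz : wt a.z = 4 := by omega
    obtain ⟨ry, hry, ey, y1, y2, y3⟩ := mem_RecL8 hl.2.1 hy
    obtain ⟨rz, hrz, ez, z1, z2, z3⟩ := mem_RecL4 hl.2.2.1 hz
    have := Q484 a.x hc h4 ry hry (y1.trans k1.symm) rz hrz (z1.trans (k2.symm.trans k1.symm))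
      (by rw [ey]; exact z2.trans k3) (by rw [y3, z3]; exact hs)
    rw [ey, ez] at this
    exact this
  · exfalso
    have hz : wt a.z = 0 := by omega
    have e := wt_eq_zero hz
    rw [e] at k2
    exact not_wt4_of_key hl.1 h4 (k1.trans k2)

/-- canonical minimal vectors with first coordinate of sum of squares 8 -/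
theorem canonA8 {a : IQ3} (hl : lam a) (hw : wt a.x + wt a.y + wt a.z = 16)
    (hs : st a.x + st a.y + st a.z = 0) (hc : a.x ∈ Cl) (h8 : wt a.x = 8) : a ∈ Rl := by
  obtain ⟨k1, k2, k3⟩ := lam_keys hl
  have m1 := wt_mod4 hl.2.1
  have m2 := wt_mod4 hl.2.2.1
  have p1 := wt_nonneg a.y
  have p2 := wt_nonneg a.z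
  have hy : wt a.y = 0 ∨ wt a.y = 4 ∨ wt a.y = 8 := by omega
  rcases hy with hy | hy | hy
  · have hz : wt a.z = 8 := by omega
    have e := wt_eq_zero hy
    obtain ⟨rz, hrz, ez, z1, z2, z3⟩ := mem_RecL8 hl.2.2.1 hz
    rw [e] at k1 k2 k3 hs
    rw [st_zero] at hs
    have := Q808 a.x hc h8 k1 rz hrz (z1.trans k2.symm) (z2.trans k3)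
      (by rw [z3]; linarith)
    rw [ez] at this
    have e3 : a = ⟨a.x, 0, a.z⟩ := by
      ext1
      · rfl
      · exact e
      · rfl
    rw [e3]
    exact this
  · have hz : wt a.z = 4 := by omega
    obtain ⟨ry, hry, ey, y1, y2, y3⟩ := mem_RecL4 hl.2.1 hy
    obtain ⟨rz, hrz, ez, z1, z2, z3⟩ := mem_RecL4 hl.2.2.1 hz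
    have := Q844 a.x hc h8 ry hry (y1.trans k1.symm) rz hrz (z1.trans (k2.symm.trans k1.symm))
      (by rw [ey]; exact z2.trans k3) (by rw [y3, z3]; exact hs)
    rw [ey, ez] at this
    exact this
  · have hz : wt a.z = 0 := by omega
    have e := wt_eq_zero hz
    obtain ⟨ry, hry, ey, y1, y2, y3⟩ := mem_RecL8 hl.2.1 hy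
    rw [e] at k2 k3 hs
    rw [st_zero] at hs
    have := Q880 a.x hc h8 (k1.trans k2) ry hry (y1.trans k2) (by rw [ey]; exact k3)
      (by rw [y3]; linarith)
    rw [ey] at this
    have e3 : a = ⟨a.x, a.y, 0⟩ := by
      ext1
      · rfl
      · rfl
      · exact e
    rw [e3]
    exact this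

/-- canonical minimal vectors with first coordinate zero -/
theorem canonB {a : IQ3} (hl : lam a) (hw : wt a.x + wt a.y + wt a.z = 16)
    (hs : st a.x + st a.y + st a.z = 0) (hx : a.x = 0) (hc : a.y ∈ Cl) (h8 : wt a.y = 8) :
    a ∈ Rl := by
  obtain ⟨k1, k2, k3⟩ := lam_keys hl
  rw [hx] at k1 k3 hs hw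
  rw [st_zero] at hs
  rw [wt_zero] at hw
  have hz : wt a.z = 8 := by omega
  obtain ⟨rz, hrz, ez, z1, z2, z3⟩ := mem_RecL8 hl.2.2.1 hz
  have := Q088 a.y hc h8 k1.symm rz hrz (z1.trans (k2.symm.trans k1.symm)) (z2.trans k3)
    (by rw [z3]; linarith)
  rw [ez] at this
  have e3 : a = ⟨0, a.y, a.z⟩ := by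
    ext1
    · exact hx
    · rfl
    · rfl
  rw [e3]
  exact this

end Cfsg.Agent.Lib.Helper8.Ico
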