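import Cfsg.Agent.Lib.Helper8.IcoA1

/-!
The linear isometries of the icosian Leech lattice fixing all the 315 lines are `1` and `-1`,
and `-1` is a product of three reflections.
-/

namespace Cfsg.Agent.Lib.Helper8.Ico

open Cfsg.Spor Quaternion IQ IQ3

/-- the real number 2 as a quaternion -/
noncomputable def c2 : ℍ[ℝ] := ((2 : ℝ) : ℍ[ℝ])

/-- the vector with last coordinate of the canonical vector number 154 -/
def z154 : IQ := ⟨-1, 0, -1, 0, 1, 0, -1, 2⟩

theorem Rg_E : Rg 314 = ⟨cTwo, 0, 0⟩ ∧ Rg 121 = ⟨0, cTwo, 0⟩ ∧ Rg 120 = ⟨0, 0, cTwo⟩ ∧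
    Rg 310 = ⟨cOne, cOne, cHb⟩ ∧ Rg 267 = ⟨cOne, cHb, cOne⟩ ∧ Rg 154 = ⟨cOne, -cOne, z154⟩ := by
  decide +kernel

/-- the indices of the three coordinate vectors and of three more vectors -/
def k0 : Fin 315 := ⟨314, by norm_num⟩
def k1 : Fin 315 := ⟨121, by norm_num⟩
def k2 : Fin 315 := ⟨120, by norm_num⟩
def k310 : Fin 315 := ⟨310, by norm_num⟩
def k267 : Fin 315 := ⟨267, by norm_num⟩
def k154 : Fin 315 := ⟨154, by norm_num⟩

theorem toH_cTwo : toH cTwo = c2 := toH_four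

theorem vec3_eta (v : Fin 3 → ℍ[ℝ]) : ![v 0, v 1, v 2] = v := by
  funext t
  rcases fin3_cases t with rfl | rfl | rfl <;> rfl

theorem toV_eq (a : IQ3) : toV a = ![toH a.x, toH a.y, toH a.z] := rfl

theorem rvec_E0 : (rvec k0).1 = ![c2, 0, 0] := by
  show toV (Rg 314) = _
  rw [Rg_E.1, toV_eq, toH_cTwo, toH_zero]

theorem rvec_E1 : (rvec k1).1 = ![0, c2, 0] := by
  show toV (Rg 121) = _
  rw [Rg_E.2.1, toV_eq, toH_cTwo, toH_zero]

theorem rvec_E2 : (rvec k2).1 = ![0, 0, c2] := by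
  show toV (Rg 120) = _
  rw [Rg_E.2.2.1, toV_eq, toH_cTwo, toH_zero]

theorem mul_c2 (a : ℍ[ℝ]) : a * c2 = a + a := by
  rw [c2, Quaternion.mul_coe_eq_smul, two_smul]

theorem cancel_two {a b : ℍ[ℝ]} (h : a + a = b + b) : a = b := by
  rw [← two_smul ℝ a, ← two_smul ℝ b] at h
  exact smul_right_injective _ (two_ne_zero) h

theorem dbl_decomp (x : icoLeech) :
    addL x x = addL (addL (smulL (x.1 0) (x.2.1 0) (rvec k0)) (smulL (x.1 1) (x.2.1 1) (rvec k1)))
      (smulL (x.1 2) (x.2.1 2) (rvec k2)) := by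
  apply Subtype.ext
  rw [coe_addL, coe_addL, coe_addL, coe_smulL, coe_smulL, coe_smulL, rvec_E0, rvec_E1, rvec_E2]
  funext t
  rcases fin3_cases t with rfl | rfl | rfl
  · simp [lsmul_apply, mul_c2]
  · simp [lsmul_apply, mul_c2]
  · simp [lsmul_apply, mul_c2]

theorem lin_formula {g : Equiv.Perm icoLeech} (hg : IsLin g) {W0 W1 W2 : ℍ[ℝ]}
    (h0 : W0 ∈ icosians) (h1 : W1 ∈ icosians) (h2 : W2 ∈ icosians)
    (e0 : g (rvec k0) = smulL W0 h0 (rvec k0)) (e1 : g (rvec k1) = smulL W1 h1 (rvec k1))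
    (e2 : g (rvec k2) = smulL W2 h2 (rvec k2)) (x : icoLeech) :
    (g x).1 = ![x.1 0 * W0, x.1 1 * W1, x.1 2 * W2] := by
  have h := congrArg g (dbl_decomp x)
  rw [hg.1, hg.1, hg.1, hg.2.1, hg.2.1, hg.2.1, e0, e1, e2] at h
  have h' := congrArg Subtype.val h
  rw [coe_addL, coe_addL, coe_addL, coe_smulL, coe_smulL, coe_smulL, coe_smulL, coe_smulL,
    coe_smulL, rvec_E0, rvec_E1, rvec_E2] at h'
  funext t
  have ht := congrFun h' t
  rcases fin3_cases t with rfl | rfl | rfl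
  · simp only [Pi.add_apply, lsmul_apply, Matrix.cons_val_zero, mul_zero, add_zero, mul_c2,
      mul_add] at ht
    exact cancel_two ht
  · simp only [Pi.add_apply, lsmul_apply, Matrix.cons_val_one, Matrix.cons_val_zero, mul_zero,
      add_zero, zero_add, mul_c2, mul_add] at ht
    exact cancel_two ht
  · simp only [Pi.add_apply, lsmul_apply, Matrix.cons_val_two, Matrix.tail_cons, Matrix.head_cons,
      mul_zero, add_zero, zero_add, mul_c2, mul_add] at ht
    exact cancel_two ht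

theorem mul_comm_of_toH {a b : IQ} (h : toH a * toH b = toH b * toH a) : mul a b = mul b a := by
  apply toH_injective
  rw [toH_mul, toH_mul] at h
  have h2 := congrArg (fun q => (2 : ℝ) • q) h
  simp only [smul_smul] at h2
  norm_num at h2
  exact h2

theorem unit_central : ∀ k ∈ L4c, st (dec5 k) = 0 → mul (dec5 k) cHb = mul cHb (dec5 k) →
    mul (dec5 k) z154 = mul z154 (dec5 k) → dec5 k = cOne ∨ dec5 k = -cOne := by decide +kernel

theorem toH_neg_cOne : toH (-cOne) = -1 := by rw [toH_neg, toH_cOne]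

theorem fixed_line {g : Equiv.Perm icoLeech} (hg : IsLin g) {k : Fin 315}
    (hk : (⟨g, hg⟩ : Uni) • k = k) : ∃ u, IsU u ∧ (g (rvec k)).1 = lsmul (toH u) (toV (Rg k.1)) := by
  have := smul_spec ⟨g, hg⟩ k
  rw [hk] at this
  exact this

/-- an isometry fixing all the lines is `1` or `-1` -/
theorem ker_pm {g : Equiv.Perm icoLeech} (hg : IsLin g)
    (hk : ∀ k : Fin 315, (⟨g, hg⟩ : Uni) • k = k) :
    (∀ x, (g x).1 = x.1) ∨ (∀ x, (g x).1 = -x.1) := by
  obtain ⟨u0, hu0, e0⟩ := fixed_line hg (hk k0)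
  obtain ⟨u1, hu1, e1⟩ := fixed_line hg (hk k1)
  obtain ⟨u2, hu2, e2⟩ := fixed_line hg (hk k2)
  have F := lin_formula hg (isU_mem hu0) (isU_mem hu1) (isU_mem hu2)
    (Subtype.ext (by rw [coe_smulL]; exact e0)) (Subtype.ext (by rw [coe_smulL]; exact e1))
    (Subtype.ext (by rw [coe_smulL]; exact e2))
  -- the vector (1, 1, h̄)
  obtain ⟨u, hu, e⟩ := fixed_line hg (hk k310)
  have Fa := F (rvec k310)
  rw [e] at Fa
  have a0 := congrFun Fa 0
  have a1 := congrFun Fa 1
  have a2 := congrFun Fa 2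
  simp only [lsmul_apply, Matrix.cons_val_zero, Matrix.cons_val_one, Matrix.cons_val_two,
    Matrix.tail_cons, Matrix.head_cons] at a0 a1 a2
  have r310 : (rvec k310).1 = toV ⟨cOne, cOne, cHb⟩ := by
    show toV (Rg 310) = _
    rw [Rg_E.2.2.2.1]
  have r310' : toV (Rg k310.1) = toV ⟨cOne, cOne, cHb⟩ := r310
  rw [r310, r310', toV_zero, toH_cOne, mul_one, one_mul] at a0
  rw [r310, r310', toV_one, toH_cOne, mul_one, one_mul] at a1
  rw [r310, r310', toV_two] at a2
  -- the vector (1, h̄, 1)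
  obtain ⟨u', hu', e'⟩ := fixed_line hg (hk k267)
  have Fb := F (rvec k267)
  rw [e'] at Fb
  have b0 := congrFun Fb 0
  have b2 := congrFun Fb 2
  simp only [lsmul_apply, Matrix.cons_val_zero, Matrix.cons_val_two,
    Matrix.tail_cons, Matrix.head_cons] at b0 b2
  have r267 : (rvec k267).1 = toV ⟨cOne, cHb, cOne⟩ := by
    show toV (Rg 267) = _
    rw [Rg_E.2.2.2.2.1]
  have r267' : toV (Rg k267.1) = toV ⟨cOne, cHb, cOne⟩ := r267
  rw [r267, r267', toV_zero, toH_cOne, mul_one, one_mul] at b0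
  rw [r267, r267', toV_two, toH_cOne, mul_one, one_mul] at b2
  -- the vector (1, -1, z)
  obtain ⟨u'', hu'', e''⟩ := fixed_line hg (hk k154)
  have Fc := F (rvec k154)
  rw [e''] at Fc
  have c0 := congrFun Fc 0
  have c2' := congrFun Fc 2
  simp only [lsmul_apply, Matrix.cons_val_zero, Matrix.cons_val_two,
    Matrix.tail_cons, Matrix.head_cons] at c0 c2'
  have r154 : (rvec k154).1 = toV ⟨cOne, -cOne, z154⟩ := by
    show toV (Rg 154) = _
    rw [Rg_E.2.2.2.2.2]
  have r154' : toV (Rg k154.1) = toV ⟨cOne, -cOne, z154⟩ := r154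
  rw [r154, r154', toV_zero, toH_cOne, mul_one, one_mul] at c0
  rw [r154, r154', toV_two] at c2'
  -- all the units are equal
  have q1 : toH u1 = toH u0 := a1.symm.trans a0
  have q2 : toH u2 = toH u0 := b2.symm.trans b0
  rw [a0, q2] at a2
  rw [c0, q2] at c2'
  have m1 := mul_comm_of_toH a2
  have m2 := mul_comm_of_toH c2'
  obtain ⟨k, kk, ks, ek⟩ := mem_units hu0
  rw [← ek] at m1 m2
  have hpm := unit_central k kk ks m1 m2
  rw [ek] at hpm
  rcases hpm with hp | hm
  · left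
    intro x
    rw [F x, q1, q2, hp, toH_cOne, mul_one, mul_one, mul_one]
    exact vec3_eta x.1
  · right
    intro x
    rw [F x, q1, q2, hm, toH_neg_cOne, mul_neg_one, mul_neg_one, mul_neg_one]
    funext t
    rcases fin3_cases t with rfl | rfl | rfl <;> rfl

/-- the map `-1` -/
noncomputable def negP : Equiv.Perm icoLeech where
  toFun := negL
  invFun := negL
  left_inv x := Subtype.ext (neg_neg _)
  right_inv x := Subtype.ext (neg_neg _)

theorem negP_apply (x : icoLeech) : (negP x).1 = -x.1 := rfl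

theorem half_qip_c2 (a : ℍ[ℝ]) : (1 / 2 : ℝ) • (a * star c2) = a := by
  rw [c2, Quaternion.star_coe, Quaternion.mul_coe_eq_smul, smul_smul]
  norm_num

theorem qrefl_E0 (x : Fin 3 → ℍ[ℝ]) : qrefl ![c2, 0, 0] x = ![-x 0, x 1, x 2] := by
  have hq : (1 / 2 : ℝ) • qip x ![c2, 0, 0] = x 0 := by
    rw [qip_def]
    simp only [Matrix.cons_val_zero, Matrix.cons_val_one, Matrix.cons_val_two, Matrix.tail_cons,
      Matrix.head_cons, star_zero, mul_zero, add_zero]
    exact half_qip_c2 _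
  funext t
  rw [qrefl_eq, Pi.sub_apply, lsmul_apply, hq]
  rcases fin3_cases t with rfl | rfl | rfl
  · simp only [Matrix.cons_val_zero, mul_c2]
    abel
  · simp only [Matrix.cons_val_one, Matrix.cons_val_zero, mul_zero, sub_zero]
  · simp only [Matrix.cons_val_two, Matrix.tail_cons, Matrix.head_cons, mul_zero, sub_zero]

theorem qrefl_E1 (x : Fin 3 → ℍ[ℝ]) : qrefl ![0, c2, 0] x = ![x 0, -x 1, x 2] := by
  have hq : (1 / 2 : ℝ) • qip x ![0, c2, 0] = x 1 := by
    rw [qip_def]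
    simp only [Matrix.cons_val_zero, Matrix.cons_val_one, Matrix.cons_val_two, Matrix.tail_cons,
      Matrix.head_cons, star_zero, mul_zero, add_zero, zero_add]
    exact half_qip_c2 _
  funext t
  rw [qrefl_eq, Pi.sub_apply, lsmul_apply, hq]
  rcases fin3_cases t with rfl | rfl | rfl
  · simp only [Matrix.cons_val_zero, mul_zero, sub_zero]
  · simp only [Matrix.cons_val_one, Matrix.cons_val_zero, mul_c2]
    abel
  · simp only [Matrix.cons_val_two, Matrix.tail_cons, Matrix.head_cons, mul_zero, sub_zero]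

theorem qrefl_E2 (x : Fin 3 → ℍ[ℝ]) : qrefl ![0, 0, c2] x = ![x 0, x 1, -x 2] := by
  have hq : (1 / 2 : ℝ) • qip x ![0, 0, c2] = x 2 := by
    rw [qip_def]
    simp only [Matrix.cons_val_zero, Matrix.cons_val_one, Matrix.cons_val_two, Matrix.tail_cons,
      Matrix.head_cons, star_zero, mul_zero, add_zero, zero_add]
    exact half_qip_c2 _
  funext t
  rw [qrefl_eq, Pi.sub_apply, lsmul_apply, hq]
  rcases fin3_cases t with rfl | rfl | rfl
  · simp only [Matrix.cons_val_zero, mul_zero, sub_zero]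
  · simp only [Matrix.cons_val_one, Matrix.cons_val_zero, mul_zero, sub_zero]
  · simp only [Matrix.cons_val_two, Matrix.tail_cons, Matrix.head_cons, mul_c2]
    abel

theorem negP_eq : negP = (tU k0).1 * (tU k1).1 * (tU k2).1 := by
  apply Equiv.ext
  intro x
  apply Subtype.ext
  rw [Equiv.Perm.mul_apply, Equiv.Perm.mul_apply, negP_apply]
  show -x.1 = qrefl (rvec k0).1 (qrefl (rvec k1).1 (qrefl (rvec k2).1 x.1))
  rw [rvec_E0, rvec_E1, rvec_E2, qrefl_E2, qrefl_E1, qrefl_E0]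
  funext t
  rcases fin3_cases t with rfl | rfl | rfl <;> rfl

theorem negP_mem : negP ∈ twoJ2 := by
  rw [negP_eq]
  exact Subgroup.mul_mem _ (Subgroup.mul_mem _ (tU_mem k0) (tU_mem k1)) (tU_mem k2)

end Cfsg.Agent.Lib.Helper8.Ico
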