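import Cfsg.Agent.Lib.Helper8.J2Lb

set_option autoImplicit false

/-! A simple primitive permutation group of degree 315 and order 604800, generated by four
involutions. -/

namespace Cfsg.Agent.Lib.Helper8.J2L

open Cfsg.Agent.Lib.Helper8.SS MulAction

/-- the permutation group. -/
noncomputable def K : Subgroup (Equiv.Perm (Fin 315)) := grp 315 pN pM L0.S

theorem card_K : Nat.card K = 604800 := by
  have h := (chain_spec (pM := pM) valid_all id_tab _ chain).2
  have h2 : ([L0, L1, L2, L3].map (fun L => L.U.length)).prod = 604800 := by decide +kernel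
  rw [h2] at h
  exact h

theorem prim : IsPreprimitive K (Fin 315) :=
  prim_of_suborbit_data valid_all id_tab L0 L1 [L2, L3] chain cover0 orbs otree orb_ok orb_lt
    orb_cover orb_nodup wit block_cert

theorem simple : IsSimpleGroup K :=
  simple_of_data valid_all L0.S prim 7 1 (by norm_num) (by norm_num)
    (by
      have : Nat.card (grp 315 pN pM L0.S) = 604800 := card_K
      rw [this]
      norm_num)
    148 w7 w7_mem (by norm_num) w7_tab ord7 ne7 cs conj_all
    (by
      have : Nat.card (grp 315 pN pM L0.S) = 604800 := card_K
      rw [this]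
      norm_num)

/-- the group is generated by the first four permutations. -/
theorem K_eq : K = grp 315 pN pM [1, 2, 3, 4] := by
  apply le_antisymm
  · unfold K grp
    rw [Subgroup.closure_le]
    rintro g ⟨i, hi, rfl⟩
    have h := slp_spec_D (Q := fun _ => (1 : Unit)) (pM := pM) valid_all slp_ok
      (by intro m _; right; exact Subsingleton.elim _ _) i (S0_sub i hi)
    have h2 := Subgroup.mem_map_of_mem (MonoidHom.fst (Equiv.Perm (Fin 315)) Unit) h
    rw [map_fst_grpD] at h2
    simp only [MonoidHom.coe_fst, PQ] at h2
    exact h2
  · unfold K grp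
    apply Subgroup.closure_mono
    rintro g ⟨i, hi, rfl⟩
    refine ⟨i, ?_, rfl⟩
    revert i
    decide

end Cfsg.Agent.Lib.Helper8.J2L
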