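import Cfsg.Agent.Lib.Helper8.IcoG1
import Cfsg.Agent.Lib.Helper8.IcoT0
import Cfsg.Agent.Lib.Helper8.IcoT1
import Cfsg.Agent.Lib.Helper8.IcoT2
import Cfsg.Agent.Lib.Helper8.IcoT3
import Cfsg.Agent.Lib.Helper8.J2Lc

/-!
The reflection group of the icosian Leech lattice acts on the 315 lines as a simple group of
order 604800, with kernel `{1, -1}`.
-/

namespace Cfsg.Agent.Lib.Helper8.Ico

open Cfsg.Spor Quaternion IQ IQ3 Cfsg.Agent.Lib.Helper8.SS

/-- the action on the lines as a homomorphism -/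
noncomputable def piU : Uni →* Equiv.Perm (Fin 315) := MulAction.toPermHom Uni (Fin 315)

theorem piU_apply (g : Uni) (k : Fin 315) : piU g k = g • k := rfl

theorem tab0_get : ∀ e ∈ tab0, get (J2L.pN 1) e.1 = e.2.1 := by decide +kernel

theorem tab1_get : ∀ e ∈ tab1, get (J2L.pN 2) e.1 = e.2.1 := by decide +kernel

theorem tab2_get : ∀ e ∈ tab2, get (J2L.pN 3) e.1 = e.2.1 := by decide +kernel

theorem tab3_get : ∀ e ∈ tab3, get (J2L.pN 4) e.1 = e.2.1 := by decide +kernel

theorem pi_gen (g : Fin 315) (i : ℕ) (hi : i < 418) (tab : List (ℕ × ℕ × ℕ))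
    (hfst : tab.map (fun e => e.1) = List.range 315) (hok : ∀ e ∈ tab, TabOK g.1 e)
    (hget : ∀ e ∈ tab, get (J2L.pN i) e.1 = e.2.1) :
    piU (tU g) = P 315 J2L.pN J2L.pM i := by
  apply Equiv.ext
  intro k
  have hk : k.1 ∈ List.range 315 := List.mem_range.2 k.2
  rw [← hfst, List.mem_map] at hk
  obtain ⟨e, he, hek⟩ := hk
  rw [piU_apply, tU_smul (hok e he) hek]
  apply Fin.ext
  rw [P_apply_val J2L.valid_all hi]
  show e.2.1 = get (J2L.pN i) k.1
  rw [← hek, hget e he]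

/-- the indices of the four generating reflections -/
def G1 : Fin 315 := ⟨314, by norm_num⟩
def G2 : Fin 315 := ⟨209, by norm_num⟩
def G3 : Fin 315 := ⟨307, by norm_num⟩
def G4 : Fin 315 := ⟨236, by norm_num⟩

theorem pi1 : piU (tU G1) = P 315 J2L.pN J2L.pM 1 :=
  pi_gen G1 1 (by norm_num) tab0 tab0_fst tab0_ok tab0_get

theorem pi2 : piU (tU G2) = P 315 J2L.pN J2L.pM 2 :=
  pi_gen G2 2 (by norm_num) tab1 tab1_fst tab1_ok tab1_get

theorem pi3 : piU (tU G3) = P 315 J2L.pN J2L.pM 3 :=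
  pi_gen G3 3 (by norm_num) tab2 tab2_fst tab2_ok tab2_get

theorem pi4 : piU (tU G4) = P 315 J2L.pN J2L.pM 4 :=
  pi_gen G4 4 (by norm_num) tab3 tab3_fst tab3_ok tab3_get

/-- the group generated by the four reflections -/
noncomputable def T4U : Subgroup Uni := Subgroup.closure {tU G1, tU G2, tU G3, tU G4}

theorem map_T4U : T4U.map piU = J2L.K := by
  rw [J2L.K_eq]
  unfold T4U grp
  rw [MonoidHom.map_closure]
  congr 1
  ext σ
  constructor
  · rintro ⟨g, hg, rfl⟩
    simp only [Set.mem_insert_iff, Set.mem_singleton_iff] at hg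
    rcases hg with rfl | rfl | rfl | rfl
    · exact ⟨1, by simp, pi1.symm⟩
    · exact ⟨2, by simp, pi2.symm⟩
    · exact ⟨3, by simp, pi3.symm⟩
    · exact ⟨4, by simp, pi4.symm⟩
  · rintro ⟨i, hi, rfl⟩
    simp only [List.mem_cons, List.mem_nil_iff, or_false] at hi
    rcases hi with rfl | rfl | rfl | rfl
    · exact ⟨tU G1, by simp, pi1⟩
    · exact ⟨tU G2, by simp, pi2⟩
    · exact ⟨tU G3, by simp, pi3⟩
    · exact ⟨tU G4, by simp, pi4⟩

theorem conj_tU {h : Uni} {k k' : Fin 315} (e : h • k = k') : h * tU k * h⁻¹ = tU k' := by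
  apply Subtype.ext
  show h.1 * reflP (rvec k) (rvec_qip k) * h.1⁻¹ = reflP (rvec k') (rvec_qip k')
  rw [conj_reflP h.2]
  obtain ⟨u, hu, eu⟩ := smul_spec h k
  rw [e] at eu
  apply Equiv.ext
  intro x
  apply Subtype.ext
  rw [reflP_apply, reflP_apply, eu]
  exact qrefl_lsmul_unit (normSq_of_isU hu) _ _

theorem tU_mem_T4U (k : Fin 315) : tU k ∈ T4U := by
  haveI := J2L.prim.toIsPretransitive
  obtain ⟨σ, hσ⟩ := MulAction.exists_smul_eq J2L.K G1 k
  have hm : σ.1 ∈ T4U.map piU := by rw [map_T4U]; exact σ.2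
  obtain ⟨h, hh, e⟩ := hm
  have e2 : h • G1 = k := by
    rw [← piU_apply, e]
    exact hσ
  rw [← conj_tU e2]
  exact T4U.mul_mem (T4U.mul_mem hh (Subgroup.subset_closure (by simp))) (T4U.inv_mem hh)

theorem refl_eq_tU {f : Equiv.Perm icoLeech} (hf : IsIcoReflection f) :
    ∃ k : Fin 315, f = (tU k).1 := by
  obtain ⟨rv, h4, rfl⟩ := eq_reflP hf
  obtain ⟨r, hr, e⟩ := reflP_eq_tk rv h4
  obtain ⟨k, hk, rfl⟩ := exists_Rg hr
  refine ⟨⟨k, hk⟩, ?_⟩
  rw [e, tk_eq hr]
  rfl

theorem twoJ2_eq : twoJ2 = T4U.map Uni.subtype := by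
  apply le_antisymm
  · unfold twoJ2
    rw [Subgroup.closure_le]
    intro f hf
    obtain ⟨k, rfl⟩ := refl_eq_tU hf
    exact ⟨tU k, tU_mem_T4U k, rfl⟩
  · rw [Subgroup.map_le_iff_le_comap]
    unfold T4U
    rw [Subgroup.closure_le]
    intro g hg
    simp only [Set.mem_insert_iff, Set.mem_singleton_iff] at hg
    rcases hg with rfl | rfl | rfl | rfl <;> exact tU_mem _

/-- the action of the reflection group on the lines -/
noncomputable def phi : twoJ2 →* Equiv.Perm (Fin 315) :=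
  piU.comp (Subgroup.inclusion twoJ2_le_Uni)

theorem phi_apply (g : twoJ2) : phi g = piU ⟨g.1, twoJ2_le_Uni g.2⟩ := rfl

theorem phi_range : phi.range = J2L.K := by
  ext σ
  constructor
  · rintro ⟨g, rfl⟩
    rw [← map_T4U, phi_apply]
    obtain ⟨h, hh, e⟩ := twoJ2_eq.le g.2
    refine ⟨h, hh, ?_⟩
    congr 1
    exact Subtype.ext e
  · intro hσ
    rw [← map_T4U] at hσ
    obtain ⟨h, hh, rfl⟩ := hσ
    have hm : h.1 ∈ twoJ2 := by
      rw [twoJ2_eq]
      exact ⟨h, hh, rfl⟩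
    exact ⟨⟨h.1, hm⟩, rfl⟩

/-- `-1` in the reflection group -/
noncomputable def negT : twoJ2 := ⟨negP, negP_mem⟩

theorem c2_ne : c2 ≠ 0 := by
  intro h
  have := congrArg (fun q : ℍ[ℝ] => q.re) h
  simp [c2] at this

theorem negT_ne_one : negT ≠ 1 := by
  intro h
  have h1 : negP (rvec k0) = rvec k0 := by
    have := congrArg (fun g : twoJ2 => g.1 (rvec k0)) h
    exact this
  have h2 := congrArg Subtype.val h1
  rw [negP_apply, rvec_E0] at h2
  have h3 := congrFun h2 0
  simp only [Pi.neg_apply, Matrix.cons_val_zero] at h3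
  have h4 : c2 + c2 = 0 := by
    nth_rewrite 1 [← h3]
    exact neg_add_cancel c2
  rw [← mul_c2] at h4
  rcases mul_eq_zero.1 h4 with h5 | h5 <;> exact c2_ne h5

theorem negT_sq : negT * negT = 1 := by
  apply Subtype.ext
  apply Equiv.ext
  intro x
  apply Subtype.ext
  show -(-x.1) = x.1
  exact neg_neg _

theorem isU_neg_cOne : IsU (-cOne) := by decide

theorem negT_mem_ker : negT ∈ phi.ker := by
  rw [MonoidHom.mem_ker, phi_apply]
  apply Equiv.ext
  intro k
  rw [piU_apply]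
  apply smul_eq
  refine ⟨-cOne, isU_neg_cOne, ?_⟩
  show -(toV (Rg k.1)) = _
  rw [toH_neg_cOne]
  funext t
  rw [lsmul_apply, neg_one_mul]
  rfl

theorem ker_cases {g : twoJ2} (hg : g ∈ phi.ker) : g = 1 ∨ g = negT := by
  rw [MonoidHom.mem_ker, phi_apply] at hg
  have hk : ∀ k : Fin 315, (⟨g.1, twoJ2_le_Uni g.2⟩ : Uni) • k = k := by
    intro k
    rw [← piU_apply, hg]
    rfl
  rcases ker_pm (twoJ2_le_Uni g.2) hk with h | h
  · left
    apply Subtype.ext
    apply Equiv.ext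
    intro x
    exact Subtype.ext (h x)
  · right
    apply Subtype.ext
    apply Equiv.ext
    intro x
    exact Subtype.ext (h x)

theorem phi_ker : phi.ker = Subgroup.zpowers negT := by
  apply le_antisymm
  · intro g hg
    rcases ker_cases hg with rfl | rfl
    · exact Subgroup.one_mem _
    · exact Subgroup.mem_zpowers _
  · rw [Subgroup.zpowers_le]
    exact negT_mem_ker

theorem orderOf_negT : orderOf negT = 2 :=
  orderOf_eq_prime (by rw [pow_two]; exact negT_sq) negT_ne_one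

theorem card_ker : Nat.card phi.ker = 2 := by
  rw [phi_ker, Nat.card_zpowers, orderOf_negT]

theorem card_twoJ2 : Nat.card twoJ2 = 1209600 := by
  rw [Subgroup.card_eq_card_quotient_mul_card_subgroup phi.ker, card_ker,
    Nat.card_congr (QuotientGroup.quotientKerEquivRange phi).toEquiv, phi_range, J2L.card_K]

end Cfsg.Agent.Lib.Helper8.Ico
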