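import Cfsg.Agent.Lib.Helper8.IcoE5
import Cfsg.Agent.Lib.Helper8.Ico6

/-!
Every minimal vector of the icosian Leech lattice is a unit multiple of one of the 315 canonical
vectors.
-/

namespace Cfsg.Agent.Lib.Helper8.Ico

open Cfsg.Spor Quaternion IQ IQ3

theorem normSq_of_isU {u : IQ} (hu : IsU u) : normSq (toH u) = 1 := by
  rw [normSq_toH, hu.2.1, hu.2.2]
  norm_num

theorem isU_mul_star {u : IQ} (hu : IsU u) : toH u * star (toH u) = 1 := by
  rw [Quaternion.self_mul_star, normSq_of_isU hu]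
  rfl

theorem isU_star_mul {u : IQ} (hu : IsU u) : star (toH u) * toH u = 1 := by
  rw [Quaternion.star_mul_self, normSq_of_isU hu]
  rfl

theorem isU_mem {u : IQ} (hu : IsU u) : toH u ∈ icosians := I0_le_icosians hu.1

theorem wt_st_of_qip {a : IQ3} (h : qip (toV a) (toV a) = 4) :
    wt a.x + wt a.y + wt a.z = 16 ∧ st a.x + st a.y + st a.z = 0 := by
  rw [qip_def, toV_zero, toV_one, toV_two, Quaternion.self_mul_star, Quaternion.self_mul_star,
    Quaternion.self_mul_star, normSq_toH, normSq_toH, normSq_toH, four_eq, ← Quaternion.coe_add,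
    ← Quaternion.coe_add] at h
  have h' := Quaternion.coe_injective h
  have key : ((wt a.x + wt a.y + wt a.z - 16 : ℤ) : ℝ)
      + ((st a.x + st a.y + st a.z : ℤ) : ℝ) * tau = 0 := by
    push_cast
    linarith
  obtain ⟨k1, k2⟩ := tau_irr _ _ key
  exact ⟨by omega, k2⟩

theorem norm_step {a : IQ3} (hl : lam a) (h4 : qip (toV a) (toV a) = 4) {u : IQ} (hu : IsU u) :
    ∃ a', lam a' ∧ qip (toV a') (toV a') = 4 ∧ toV a' = lsmul (star (toH u)) (toV a) ∧
      toV a = lsmul (toH u) (toV a') := by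
  have hv : toV a ∈ icoLeech := (mem_icoLeech_iff _).2 ⟨a, hl, rfl⟩
  have hu' : star (toH u) ∈ icosians := star_mem_icosians (isU_mem hu)
  obtain ⟨a', hl', e⟩ := (mem_icoLeech_iff _).1 (leech_lsmul hu' hv)
  refine ⟨a', hl', ?_, e.symm, ?_⟩
  · rw [← e, qip_lsmul_left, qip_lsmul_right, h4, star_star, four_eq, Quaternion.coe_commutes,
      ← mul_assoc, isU_star_mul hu, one_mul]
  · rw [← e, lsmul_lsmul, isU_mul_star hu, one_lsmul]

theorem unit_cancel {u c x : IQ} (hu : IsU u) (h : mul u c = dbl x) :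
    star (toH u) * toH x = toH c := by
  have : toH u * toH c = toH x := by rw [toH_mul, h, half_toH_dbl]
  rw [← this, ← mul_assoc, isU_star_mul hu, one_mul]

theorem Cl_length : Cl.length = 20 := by decide

theorem Cl_wt : ∀ c ∈ Cl, wt c = 4 ∨ wt c = 8 := by decide

theorem cover {x : IQ} (hc : IQ.cond x) (hw : wt x = 4 ∨ wt x = 8) :
    ∃ u, IsU u ∧ ∃ c ∈ Cl, mul u c = dbl x := by
  have : ∃ c0 ∈ L4c ++ L8c, dec5 c0 = x := by
    rcases hw with hw | hw
    · obtain ⟨c0, h1, h2⟩ := mem_gen8 (w := 4) hc (by exact_mod_cast hw) (by norm_num)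
      rw [gen8_four] at h1
      exact ⟨c0, List.mem_append_left _ h1, h2⟩
    · obtain ⟨c0, h1, h2⟩ := mem_gen8 (w := 8) hc (by exact_mod_cast hw) (by norm_num)
      rw [gen8_eight] at h1
      exact ⟨c0, List.mem_append_right _ h1, h2⟩
  obtain ⟨c0, h1, h2⟩ := this
  rw [← coverW_fst, List.mem_map] at h1
  obtain ⟨t, ht, rfl⟩ := h1
  obtain ⟨k1, k2, k3⟩ := coverW_ok t ht
  rw [h2] at k3
  refine ⟨_, k1, Cl.getD t.2.2 cOne, ?_, k3⟩
  rw [List.getD_eq_getElem _ _ (by rw [Cl_length]; exact k2)]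
  exact List.getElem_mem _

theorem wt_dbl (c : IQ) : wt (dbl c) = 4 * wt c := by
  simp only [dbl, add_def, wt]
  ring

theorem st_dbl (c : IQ) : st (dbl c) = 4 * st c := by
  simp only [dbl, add_def, st]
  ring

/-- the doubled `2` -/
def cTwo : IQ := ⟨4, 0, 0, 0, 0, 0, 0, 0⟩

theorem toH_dbl_eq (c : IQ) : toH (dbl c) = toH c * toH cTwo := by
  rw [dbl, toH_add, cTwo, toH_four, Quaternion.mul_coe_eq_smul, two_smul]

theorem p7 {x : ℍ[ℝ]} (h1 : x ∈ leftIdeal icoH) (h2 : x ∈ leftIdeal (star icoH)) {a : IQ}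
    (e : x = toH a) (hw : wt a = 16) (hs : st a = 0) : ∃ c, IsU c ∧ a = dbl c := by
  obtain ⟨a1, c1, g1, e1⟩ := (mem_leftIdeal_icoH x).1 h1
  obtain ⟨a2, c2, g2, e2⟩ := (mem_leftIdeal_star_icoH x).1 h2
  have ea1 : a1 = a := toH_injective (e1.symm.trans e)
  have ea2 : a2 = a := toH_injective (e2.symm.trans e)
  rw [ea1] at g1
  rw [ea2] at g2
  obtain ⟨c, hc, hcc⟩ := inter_lemma g1 g2
  refine ⟨c, ⟨hcc, ?_, ?_⟩, hc⟩
  · rw [hc, wt_dbl] at hw
    omega
  · rw [hc, st_dbl] at hs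
    omega

theorem fin3_cases (t : Fin 3) : t = 0 ∨ t = 1 ∨ t = 2 := by
  fin_cases t <;> simp

theorem toV_p7x (c : IQ) : toV ⟨dbl c, 0, 0⟩ = lsmul (toH c) (toV ⟨cTwo, 0, 0⟩) := by
  funext t
  rcases fin3_cases t with rfl | rfl | rfl
  · rw [lsmul_apply, toV_zero, toV_zero]
    exact toH_dbl_eq c
  · rw [lsmul_apply, toV_one, toV_one, toH_zero, mul_zero]
  · rw [lsmul_apply, toV_two, toV_two, toH_zero, mul_zero]

theorem toV_p7y (c : IQ) : toV ⟨0, dbl c, 0⟩ = lsmul (toH c) (toV ⟨0, cTwo, 0⟩) := by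
  funext t
  rcases fin3_cases t with rfl | rfl | rfl
  · rw [lsmul_apply, toV_zero, toV_zero, toH_zero, mul_zero]
  · rw [lsmul_apply, toV_one, toV_one]
    exact toH_dbl_eq c
  · rw [lsmul_apply, toV_two, toV_two, toH_zero, mul_zero]

theorem toV_p7z (c : IQ) : toV ⟨0, 0, dbl c⟩ = lsmul (toH c) (toV ⟨0, 0, cTwo⟩) := by
  funext t
  rcases fin3_cases t with rfl | rfl | rfl
  · rw [lsmul_apply, toV_zero, toV_zero, toH_zero, mul_zero]
  · rw [lsmul_apply, toV_one, toV_one, toH_zero, mul_zero]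
  · rw [lsmul_apply, toV_two, toV_two]
    exact toH_dbl_eq c

theorem Rl_two : (⟨cTwo, 0, 0⟩ : IQ3) ∈ Rl ∧ (⟨0, cTwo, 0⟩ : IQ3) ∈ Rl ∧ (⟨0, 0, cTwo⟩ : IQ3) ∈ Rl := by
  decide

/-- the statement: a unit multiple of a canonical vector -/
def IsCan (v : Fin 3 → ℍ[ℝ]) : Prop := ∃ u, IsU u ∧ ∃ r ∈ Rl, v = lsmul (toH u) (toV r)

theorem min_complete_x {a : IQ3} (hl : lam a) (h4 : qip (toV a) (toV a) = 4)
    (hx : wt a.x = 4 ∨ wt a.x = 8) : IsCan (toV a) := by
  obtain ⟨u, hu, c, hc, e⟩ := cover hl.1 hx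
  obtain ⟨a', hl', h4', e1, e2⟩ := norm_step hl h4 hu
  have ex' : a'.x = c := by
    apply toH_injective
    have := congrFun e1 0
    rw [toV_zero, lsmul_apply, toV_zero, unit_cancel hu e] at this
    exact this
  obtain ⟨hw', hs'⟩ := wt_st_of_qip h4'
  rcases Cl_wt c hc with h | h
  · exact ⟨u, hu, a', canonA4 hl' hw' hs' (by rw [ex']; exact hc) (by rw [ex']; exact h), e2⟩
  · exact ⟨u, hu, a', canonA8 hl' hw' hs' (by rw [ex']; exact hc) (by rw [ex']; exact h), e2⟩

theorem min_complete {v : Fin 3 → ℍ[ℝ]} (hv : v ∈ icoLeech) (h4 : qip v v = 4) : IsCan v := by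
  obtain ⟨a, hl, rfl⟩ := (mem_icoLeech_iff v).1 hv
  obtain ⟨hw, hs⟩ := wt_st_of_qip h4
  obtain ⟨k1, k2, k3⟩ := lam_keys hl
  obtain ⟨hI, i1, i2, i3⟩ := hv
  have m0 := wt_mod4 hl.1
  have m1 := wt_mod4 hl.2.1
  have m2 := wt_mod4 hl.2.2.1
  have p0 := wt_nonneg a.x
  have p1 := wt_nonneg a.y
  have p2 := wt_nonneg a.z
  have hx : wt a.x = 0 ∨ wt a.x = 4 ∨ wt a.x = 8 ∨ wt a.x = 12 ∨ wt a.x = 16 := by omega
  rcases hx with hx | hx | hx | hx | hx
  · have ex := wt_eq_zero hx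
    have hy : wt a.y = 0 ∨ wt a.y = 4 ∨ wt a.y = 8 ∨ wt a.y = 12 ∨ wt a.y = 16 := by omega
    rcases hy with hy | hy | hy | hy | hy
    · have ey := wt_eq_zero hy
      have hz : wt a.z = 16 := by omega
      rw [toV_one, toV_two, ey, toH_zero, zero_sub] at i2
      have i2' := leftIdeal_neg i2
      rw [neg_neg] at i2'
      rw [toV_zero, toV_one, toV_two, ex, ey, toH_zero, zero_add, zero_add] at i3
      rw [ex, ey, st_zero] at hs
      obtain ⟨c, hc, ez⟩ := p7 i2' i3 rfl hz (by linarith)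
      have ea : a = ⟨0, 0, dbl c⟩ := by
        ext1
        · exact ex
        · exact ey
        · exact ez
      rw [ea]
      exact ⟨c, hc, _, Rl_two.2.2, toV_p7z c⟩
    · exfalso
      rw [ex] at k1
      exact not_wt4_of_key hl.2.1 hy k1.symm
    · obtain ⟨u, hu, c, hc, e⟩ := cover hl.2.1 (Or.inr hy)
      obtain ⟨a', hl', h4', e1, e2⟩ := norm_step hl h4 hu
      have ex' : a'.x = 0 := by
        apply toH_injective
        have := congrFun e1 0
        rw [toV_zero, lsmul_apply, toV_zero, ex, toH_zero, mul_zero] at this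
        rw [this, toH_zero]
      have ey' : a'.y = c := by
        apply toH_injective
        have := congrFun e1 1
        rw [toV_one, lsmul_apply, toV_one, unit_cancel hu e] at this
        exact this
      obtain ⟨hw', hs'⟩ := wt_st_of_qip h4'
      rcases Cl_wt c hc with h | h
      · exfalso
        obtain ⟨j1, -, -⟩ := lam_keys hl'
        rw [ex'] at j1
        exact not_wt4_of_key hl'.2.1 (by rw [ey']; exact h) j1.symm
      · exact ⟨u, hu, a', canonB hl' hw' hs' ex' (by rw [ey']; exact hc) (by rw [ey']; exact h),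
          e2⟩
    · exfalso
      have hz : wt a.z = 4 := by omega
      rw [ex] at k1
      exact not_wt4_of_key hl.2.2.1 hz (k2.symm.trans k1.symm)
    · have hz : wt a.z = 0 := by omega
      have ez := wt_eq_zero hz
      rw [toV_one, toV_two, ez, toH_zero, sub_zero] at i2
      rw [toV_zero, toV_one, toV_two, ex, ez, toH_zero, zero_add, add_zero] at i3
      rw [ex, ez, st_zero] at hs
      obtain ⟨c, hc, ey⟩ := p7 i2 i3 rfl hy (by linarith)
      have ea : a = ⟨0, dbl c, 0⟩ := by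
        ext1
        · exact ex
        · exact ey
        · exact ez
      rw [ea]
      exact ⟨c, hc, _, Rl_two.2.1, toV_p7y c⟩
  · exact min_complete_x hl h4 (Or.inl hx)
  · exact min_complete_x hl h4 (Or.inr hx)
  · exfalso
    have hy : wt a.y = 0 ∨ wt a.y = 4 := by omega
    rcases hy with hy | hy
    · have hz : wt a.z = 4 := by omega
      have ey := wt_eq_zero hy
      rw [ey] at k2
      exact not_wt4_of_key hl.2.2.1 hz k2.symm
    · have hz : wt a.z = 0 := by omega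
      have ez := wt_eq_zero hz
      rw [ez] at k2
      exact not_wt4_of_key hl.2.1 hy k2
  · have hy : wt a.y = 0 := by omega
    have hz : wt a.z = 0 := by omega
    have ey := wt_eq_zero hy
    have ez := wt_eq_zero hz
    rw [toV_zero, toV_one, ey, toH_zero, sub_zero] at i1
    rw [toV_zero, toV_one, toV_two, ey, ez, toH_zero, add_zero, add_zero] at i3
    rw [ey, ez, st_zero] at hs
    obtain ⟨c, hc, ex⟩ := p7 i1 i3 rfl hx (by linarith)
    have ea : a = ⟨dbl c, 0, 0⟩ := by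
      ext1
      · exact ex
      · exact ey
      · exact ez
    rw [ea]
    exact ⟨c, hc, _, Rl_two.1, toV_p7x c⟩

end Cfsg.Agent.Lib.Helper8.Ico
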