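import Cfsg.Agent.Lib.Helper8.IcoM1

/-!
The expression of a minimal vector as a unit multiple of a canonical vector is unique, and so
there are `120 * 315 = 37800` minimal vectors.
-/

namespace Cfsg.Agent.Lib.Helper8.Ico

open Cfsg.Spor Quaternion IQ IQ3

/-- an icosian of norm 1 is a unit -/
theorem isU_of_normSq {q : ℍ[ℝ]} (hq : q ∈ icosians) (hn : normSq q = 1) :
    ∃ w, IsU w ∧ q = toH w := by
  obtain ⟨w, hw, rfl⟩ := (mem_icosians_iff q).1 hq
  rw [normSq_toH] at hn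
  have key : ((wt w - 4 : ℤ) : ℝ) + ((st w : ℤ) : ℝ) * tau = 0 := by
    push_cast
    linarith
  obtain ⟨k1, k2⟩ := tau_irr _ _ key
  exact ⟨w, ⟨hw, by omega, k2⟩, rfl⟩

theorem mem_units {w : IQ} (hw : IsU w) : ∃ k ∈ L4c, st (dec5 k) = 0 ∧ dec5 k = w := by
  obtain ⟨k, h1, h2⟩ := mem_gen8 (w := 4) hw.1 (by exact_mod_cast hw.2.1) (by norm_num)
  rw [gen8_four] at h1
  exact ⟨k, h1, by rw [h2]; exact hw.2.2, h2⟩

theorem unit_fix : ∀ c ∈ cTwo :: Cl, ∀ k ∈ L4c, st (dec5 k) = 0 →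
    mul (dec5 k) c ∈ (cTwo :: Cl).map dbl → dec5 k = cOne := by decide +kernel

/-- `c` is the first nonzero coordinate of `r` -/
def FZ (r : IQ3) (c : IQ) : Prop :=
  (r.x = c ∧ c ≠ 0) ∨ (r.x = 0 ∧ r.y = c ∧ c ≠ 0) ∨ (r.x = 0 ∧ r.y = 0 ∧ r.z = c ∧ c ≠ 0)

instance (r : IQ3) (c : IQ) : Decidable (FZ r c) := by unfold FZ; infer_instance

/-- the first nonzero coordinate -/
def fnz (r : IQ3) : IQ := if r.x = 0 then (if r.y = 0 then r.z else r.y) else r.x

theorem Rl_fnz : ∀ r ∈ Rl, FZ r (fnz r) ∧ fnz r ∈ cTwo :: Cl := by decide +kernel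

theorem FZ_unique {r : IQ3} {c c' : IQ} (h : FZ r c) (h' : FZ r c') : c = c' := by
  rcases h with ⟨rfl, h2⟩ | ⟨h1, rfl, h3⟩ | ⟨h1, h2, rfl, h4⟩ <;>
    rcases h' with ⟨rfl, g2⟩ | ⟨g1, rfl, g3⟩ | ⟨g1, g2, rfl, g4⟩ <;>
    first | rfl | (exfalso; simp_all)

theorem zero_iff_of_unit {w : IQ} (hw : IsU w) {x x' : IQ} (h : toH x' = toH w * toH x) :
    x' = 0 ↔ x = 0 := by
  constructor
  · intro e
    rw [e, toH_zero] at h
    have : star (toH w) * (toH w * toH x) = 0 := by rw [← h, mul_zero]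
    rw [← mul_assoc, isU_star_mul hw, one_mul] at this
    apply toH_injective
    rw [this, toH_zero]
  · intro e
    rw [e, toH_zero, mul_zero] at h
    apply toH_injective
    rw [h, toH_zero]

theorem mul_of_toH {w x x' : IQ} (h : toH x' = toH w * toH x) : mul w x = dbl x' := by
  apply toH_injective
  have h1 : (1 / 2 : ℝ) • toH (mul w x) = (1 / 2 : ℝ) • toH (dbl x') := by
    rw [← toH_mul, half_toH_dbl, h]
  have h2 := congrArg (fun q => (2 : ℝ) • q) h1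
  simp only [smul_smul] at h2
  norm_num at h2
  exact h2

theorem FZ_transfer {w : IQ} (hw : IsU w) {r r' : IQ3} (h : toV r' = lsmul (toH w) (toV r))
    {c : IQ} (hc : FZ r c) : ∃ c', FZ r' c' ∧ mul w c = dbl c' := by
  have hx : toH r'.x = toH w * toH r.x := by
    have := congrFun h 0
    rwa [toV_zero, lsmul_apply, toV_zero] at this
  have hy : toH r'.y = toH w * toH r.y := by
    have := congrFun h 1
    rwa [toV_one, lsmul_apply, toV_one] at this
  have hz : toH r'.z = toH w * toH r.z := by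
    have := congrFun h 2
    rwa [toV_two, lsmul_apply, toV_two] at this
  rcases hc with ⟨rfl, h2⟩ | ⟨h1, rfl, h3⟩ | ⟨h1, h2, rfl, h4⟩
  · exact ⟨r'.x, Or.inl ⟨rfl, fun e => h2 ((zero_iff_of_unit hw hx).1 e)⟩, mul_of_toH hx⟩
  · exact ⟨r'.y, Or.inr (Or.inl ⟨(zero_iff_of_unit hw hx).2 h1, rfl,
      fun e => h3 ((zero_iff_of_unit hw hy).1 e)⟩), mul_of_toH hy⟩
  · exact ⟨r'.z, Or.inr (Or.inr ⟨(zero_iff_of_unit hw hx).2 h1, (zero_iff_of_unit hw hy).2 h2, rfl,
      fun e => h4 ((zero_iff_of_unit hw hz).1 e)⟩), mul_of_toH hz⟩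

/-- a unit multiple of a canonical vector which is canonical -/
theorem can_fix {w : IQ} (hw : IsU w) {r r' : IQ3} (hr : r ∈ Rl) (hr' : r' ∈ Rl)
    (h : toV r' = lsmul (toH w) (toV r)) : w = cOne ∧ r' = r := by
  obtain ⟨hf, hc⟩ := Rl_fnz r hr
  obtain ⟨hf', hc'⟩ := Rl_fnz r' hr'
  obtain ⟨c', k1, k2⟩ := FZ_transfer hw h hf
  have ec : c' = fnz r' := FZ_unique k1 hf'
  obtain ⟨k, kk, ks, ek⟩ := mem_units hw
  have e := unit_fix (fnz r) hc k kk ks (by rw [ek, k2, ec]; exact List.mem_map_of_mem hc')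
  rw [ek] at e
  refine ⟨e, ?_⟩
  rw [e, toH_cOne, one_lsmul] at h
  exact toV_injective h

theorem can_unique {u u' : IQ} (hu : IsU u) (hu' : IsU u') {r r' : IQ3} (hr : r ∈ Rl)
    (hr' : r' ∈ Rl) (h : lsmul (toH u) (toV r) = lsmul (toH u') (toV r')) : u = u' ∧ r = r' := by
  have hq : star (toH u') * toH u ∈ icosians :=
    Subring.mul_mem _ (star_mem_icosians (isU_mem hu')) (isU_mem hu)
  have hn : normSq (star (toH u') * toH u) = 1 := by
    rw [map_mul, Quaternion.normSq_star, normSq_of_isU hu, normSq_of_isU hu', one_mul]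
  obtain ⟨w, hw, ew⟩ := isU_of_normSq hq hn
  have h' : toV r' = lsmul (toH w) (toV r) := by
    rw [← ew, ← lsmul_lsmul, h, lsmul_lsmul, isU_star_mul hu', one_lsmul]
  obtain ⟨e1, e2⟩ := can_fix hw hr hr' h'
  have e3 : star (toH u') * toH u = 1 := by rw [ew, e1, toH_cOne]
  have e4 : toH u = toH u' := by
    calc toH u = (toH u' * star (toH u')) * toH u := by rw [isU_mul_star hu', one_mul]
      _ = toH u' * (star (toH u') * toH u) := mul_assoc _ _ _
      _ = toH u' := by rw [e3, mul_one]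
  exact ⟨toH_injective e4, e2.symm⟩

/-- the list of the units -/
def Ul : List IQ := (L4c.filter fun k => decide (st (dec5 k) = 0)).map dec5

theorem Ul_length : Ul.length = 120 := by decide +kernel

theorem Ul_nodup : Ul.Nodup := by decide +kernel

theorem Ul_isU : ∀ u ∈ Ul, IsU u := by decide +kernel

theorem mem_Ul {w : IQ} : w ∈ Ul ↔ IsU w := by
  constructor
  · exact Ul_isU w
  · intro hw
    obtain ⟨k, kk, ks, ek⟩ := mem_units hw
    exact List.mem_map.2 ⟨k, List.mem_filter.2 ⟨kk, by simpa using ks⟩, ek⟩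

theorem Rl_length : Rl.length = 315 := by decide +kernel

theorem Rl_nodup : Rl.Nodup := by decide +kernel

theorem Rl_ok : ∀ r ∈ Rl, lam r ∧ wt r.x + wt r.y + wt r.z = 16 ∧ st r.x + st r.y + st r.z = 0 := by
  decide +kernel

theorem qip_of_wt_st {a : IQ3} (hw : wt a.x + wt a.y + wt a.z = 16)
    (hs : st a.x + st a.y + st a.z = 0) : qip (toV a) (toV a) = 4 := by
  rw [qip_def, toV_zero, toV_one, toV_two, Quaternion.self_mul_star, Quaternion.self_mul_star,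
    Quaternion.self_mul_star, normSq_toH, normSq_toH, normSq_toH, four_eq, ← Quaternion.coe_add,
    ← Quaternion.coe_add]
  apply congrArg
  have hw' : (wt a.x : ℝ) + wt a.y + wt a.z = 16 := by exact_mod_cast hw
  have hs' : (st a.x : ℝ) + st a.y + st a.z = 0 := by exact_mod_cast hs
  linear_combination (1 / 4 : ℝ) * hw' + (tau / 4) * hs'

/-- the minimal vectors -/
def MinV : Set (Fin 3 → ℍ[ℝ]) := {v | v ∈ icoLeech ∧ qip v v = 4}

theorem Rl_mem {r : IQ3} (hr : r ∈ Rl) : toV r ∈ MinV := by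
  obtain ⟨hl, hw, hs⟩ := Rl_ok r hr
  exact ⟨(mem_icoLeech_iff _).2 ⟨r, hl, rfl⟩, qip_of_wt_st hw hs⟩

theorem unit_mul_mem {u : IQ} (hu : IsU u) {v : Fin 3 → ℍ[ℝ]} (hv : v ∈ MinV) :
    lsmul (toH u) v ∈ MinV := by
  refine ⟨leech_lsmul (isU_mem hu) hv.1, ?_⟩
  rw [qip_lsmul_left, qip_lsmul_right, hv.2, four_eq, Quaternion.coe_commutes, ← mul_assoc,
    isU_mul_star hu, one_mul]

/-- the finite set of the units -/
def Uf : Finset IQ := Ul.toFinset

/-- the finite set of the canonical vectors -/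
def Rf : Finset IQ3 := Rl.toFinset

theorem mem_Uf {u : IQ} : u ∈ Uf ↔ IsU u := by
  unfold Uf
  rw [List.mem_toFinset, mem_Ul]

theorem mem_Rf {r : IQ3} : r ∈ Rf ↔ r ∈ Rl := by
  unfold Rf
  rw [List.mem_toFinset]

theorem card_Uf : Uf.card = 120 := by
  unfold Uf
  rw [List.toFinset_card_of_nodup Ul_nodup, Ul_length]

theorem card_Rf : Rf.card = 315 := by
  unfold Rf
  rw [List.toFinset_card_of_nodup Rl_nodup, Rl_length]

attribute [irreducible] Uf Rf

theorem mem_prod_iff {u : IQ} {r : IQ3} :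
    (u, r) ∈ ((Uf ×ˢ Rf : Finset (IQ × IQ3)) : Set (IQ × IQ3)) ↔ IsU u ∧ r ∈ Rl := by
  rw [Finset.mem_coe, Finset.mem_product, mem_Uf, mem_Rf]

theorem MinV_eq : MinV = (fun p : IQ × IQ3 => lsmul (toH p.1) (toV p.2)) ''
    ((Uf ×ˢ Rf : Finset (IQ × IQ3)) : Set (IQ × IQ3)) := by
  ext v
  constructor
  · rintro ⟨hv, h4⟩
    obtain ⟨u, hu, r, hr, e⟩ := min_complete hv h4
    exact ⟨(u, r), mem_prod_iff.2 ⟨hu, hr⟩, e.symm⟩
  · rintro ⟨⟨u, r⟩, hp, rfl⟩
    rw [mem_prod_iff] at hp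
    exact unit_mul_mem hp.1 (Rl_mem hp.2)

theorem MinV_injOn : Set.InjOn (fun p : IQ × IQ3 => lsmul (toH p.1) (toV p.2))
    ((Uf ×ˢ Rf : Finset (IQ × IQ3)) : Set (IQ × IQ3)) := by
  rintro ⟨u, r⟩ hp ⟨u', r'⟩ hp' h
  rw [mem_prod_iff] at hp hp'
  obtain ⟨e1, e2⟩ := can_unique hp.1 hp'.1 hp.2 hp'.2 h
  rw [e1, e2]

theorem MinV_ncard : MinV.ncard = 37800 := by
  rw [MinV_eq, Set.InjOn.ncard_image MinV_injOn, Set.ncard_coe_finset, Finset.card_product,
    card_Uf, card_Rf]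

end Cfsg.Agent.Lib.Helper8.Ico
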