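import Cfsg.Agent.Lib.Helper8.IcoM2

/-!
The 315 reflections of the icosian Leech lattice are distinct.
-/

namespace Cfsg.Agent.Lib.Helper8.Ico

open Cfsg.Spor Quaternion IQ IQ3

set_option maxRecDepth 1000000 in
/-- the canonical vectors, each with a vector of the lattice whose product with it is `2` -/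
def RYl : List (IQ3 × IQ3) :=
  [(⟨⟨-2, 0, -2, 0, 0, 0, 0, 0⟩, ⟨-2, 0, -2, 0, 0, 0, 0, 0⟩, ⟨0, 0, 0, 0, 0, 0, 0, 0⟩⟩, ⟨⟨0, 0, -2, 0, 0, 0, 0, 0⟩, ⟨-2, 0, 0, 0, 0, 0, 0, 0⟩, ⟨-1, 0, 1, 0, 1, -2, 1, 0⟩⟩),
  (⟨⟨-2, 0, -2, 0, 0, 0, 0, 0⟩, ⟨-2, 0, 2, 0, 0, 0, 0, 0⟩, ⟨0, 0, 0, 0, 0, 0, 0, 0⟩⟩, ⟨⟨-2, 0, 0, 0, 0, 0, 0, 0⟩, ⟨-2, 0, 0, 0, 0, 0, 0, 0⟩, ⟨-1, 2, 1, 0, 1, 0, 1, 0⟩⟩),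
  (⟨⟨-2, 0, -2, 0, 0, 0, 0, 0⟩, ⟨0, 0, 0, 0, -2, 0, -2, 0⟩, ⟨0, 0, 0, 0, 0, 0, 0, 0⟩⟩, ⟨⟨-1, 0, -2, 0, 0, 1, -1, 1⟩, ⟨0, 1, -1, 1, -1, 0, 0, 0⟩, ⟨1, -1, 0, 1, 0, 0, 1, 0⟩⟩),
  (⟨⟨-2, 0, -2, 0, 0, 0, 0, 0⟩, ⟨0, 0, 0, 0, -2, 0, 2, 0⟩, ⟨0, 0, 0, 0, 0, 0, 0, 0⟩⟩, ⟨⟨0, -1, -1, -1, 1, 0, 0, 0⟩, ⟨0, 0, 1, 0, -1, 1, 2, -1⟩, ⟨1, -1, 0, 1, 0, 0, -1, 0⟩⟩),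
  (⟨⟨-2, 0, -2, 0, 0, 0, 0, 0⟩, ⟨0, 0, 0, 0, 0, 0, 0, 0⟩, ⟨-2, 0, -2, 0, 0, 0, 0, 0⟩⟩, ⟨⟨0, 0, -1, 0, -1, 1, 0, -1⟩, ⟨1, 0, 0, 0, 0, -1, 1, -1⟩, ⟨-2, 0, -1, 0, 1, -1, 0, 1⟩⟩),
  (⟨⟨-2, 0, -2, 0, 0, 0, 0, 0⟩, ⟨0, 0, 0, 0, 0, 0, 0, 0⟩, ⟨-2, 0, 2, 0, 0, 0, 0, 0⟩⟩, ⟨⟨-2, 0, -2, 0, 0, 0, 0, 0⟩, ⟨0, 0, 0, 0, 2, 0, -2, 0⟩, ⟨0, 0, 0, 0, 0, 0, 0, 0⟩⟩),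
  (⟨⟨-2, 0, -2, 0, 0, 0, 0, 0⟩, ⟨0, 0, 0, 0, 0, 0, 0, 0⟩, ⟨0, 0, 0, 0, -2, 0, -2, 0⟩⟩, ⟨⟨-2, 0, -2, 0, 0, 0, 0, 0⟩, ⟨0, 0, 0, 0, 2, 0, -2, 0⟩, ⟨0, 0, 0, 0, 0, 0, 0, 0⟩⟩),
  (⟨⟨-2, 0, -2, 0, 0, 0, 0, 0⟩, ⟨0, 0, 0, 0, 0, 0, 0, 0⟩, ⟨0, 0, 0, 0, -2, 0, 2, 0⟩⟩, ⟨⟨-2, 1, -1, 1, -1, 0, 0, 0⟩, ⟨1, -1, 0, 1, 0, 0, -1, 0⟩, ⟨0, 0, -1, 0, -1, -1, 0, 1⟩⟩),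
  (⟨⟨-2, 0, -2, 0, 0, 0, 0, 0⟩, ⟨0, 0, 0, 0, 0, 0, 0, 0⟩, ⟨0, 0, 0, 0, 2, 0, -2, 0⟩⟩, ⟨⟨-1, 0, -1, 0, -1, 0, 1, 0⟩, ⟨1, -1, -1, -1, 1, -1, -1, 1⟩, ⟨1, 0, 1, 0, 1, 0, -1, 0⟩⟩),
  (⟨⟨-2, 0, -2, 0, 0, 0, 0, 0⟩, ⟨0, 0, 0, 0, 0, 0, 0, 0⟩, ⟨0, 0, 0, 0, 2, 0, 2, 0⟩⟩, ⟨⟨-1, 0, -1, 0, 1, 0, 1, 0⟩, ⟨0, 1, 0, -1, 2, -1, 0, 1⟩, ⟨-1, 0, -1, 0, 1, 0, 1, 0⟩⟩),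
  (⟨⟨-2, 0, -2, 0, 0, 0, 0, 0⟩, ⟨0, 0, 0, 0, 0, 0, 0, 0⟩, ⟨2, 0, -2, 0, 0, 0, 0, 0⟩⟩, ⟨⟨-1, 1, -2, 1, 0, 0, -1, 0⟩, ⟨0, -1, -1, 1, 1, 0, 0, 0⟩, ⟨0, 1, -1, -1, 1, 0, 0, 0⟩⟩),
  (⟨⟨-2, 0, -2, 0, 0, 0, 0, 0⟩, ⟨0, 0, 0, 0, 0, 0, 0, 0⟩, ⟨2, 0, 2, 0, 0, 0, 0, 0⟩⟩, ⟨⟨-2, 0, -2, 0, 0, 0, 0, 0⟩, ⟨0, 0, 0, 0, 2, 0, -2, 0⟩, ⟨0, 0, 0, 0, 0, 0, 0, 0⟩⟩),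
  (⟨⟨-2, 0, -2, 0, 0, 0, 0, 0⟩, ⟨0, 0, 0, 0, 2, 0, -2, 0⟩, ⟨0, 0, 0, 0, 0, 0, 0, 0⟩⟩, ⟨⟨0, 0, 0, 0, 0, 0, 0, 0⟩, ⟨0, 0, 0, 0, 2, 0, -2, 0⟩, ⟨2, 0, -2, 0, 0, 0, 0, 0⟩⟩),
  (⟨⟨-2, 0, -2, 0, 0, 0, 0, 0⟩, ⟨0, 0, 0, 0, 2, 0, 2, 0⟩, ⟨0, 0, 0, 0, 0, 0, 0, 0⟩⟩, ⟨⟨-1, 1, -1, 0, 0, -1, 0, 0⟩, ⟨0, 1, 0, 0, 1, 1, 1, 0⟩, ⟨-1, 0, -1, 1, 0, 0, -2, 1⟩⟩),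
  (⟨⟨-2, 0, -2, 0, 0, 0, 0, 0⟩, ⟨2, 0, -2, 0, 0, 0, 0, 0⟩, ⟨0, 0, 0, 0, 0, 0, 0, 0⟩⟩, ⟨⟨-2, 0, 0, 0, 0, 0, 0, 0⟩, ⟨2, 0, 0, 0, 0, 0, 0, 0⟩, ⟨-1, 0, -1, 0, 1, 0, -1, 2⟩⟩),
  (⟨⟨-2, 0, -2, 0, 0, 0, 0, 0⟩, ⟨2, 0, 2, 0, 0, 0, 0, 0⟩, ⟨0, 0, 0, 0, 0, 0, 0, 0⟩⟩, ⟨⟨-1, 1, -1, 0, 0, 1, 0, 0⟩, ⟨1, 1, 1, 0, 0, 1, 0, 0⟩, ⟨2, -1, 0, 0, -1, 1, 1, 0⟩⟩),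
  (⟨⟨-2, 0, -1, 0, -1, 1, 0, -1⟩, ⟨-1, 0, 0, 0, 0, -1, 1, -1⟩, ⟨-1, 0, 0, 0, 0, -1, 1, -1⟩⟩, ⟨⟨-1, 1, -1, 0, -2, 1, 0, 0⟩, ⟨-1, -1, 1, 0, 0, -1, 0, 0⟩, ⟨1, -1, -1, 0, 0, -1, 0, 0⟩⟩),
  (⟨⟨-2, 0, -1, 0, -1, 1, 0, -1⟩, ⟨-1, 0, 0, 0, 0, -1, 1, -1⟩, ⟨1, 0, 0, 0, 0, 1, -1, 1⟩⟩, ⟨⟨-1, 0, 0, -1, -1, 1, 0, 0⟩, ⟨-1, 0, 0, 1, -1, -1, 0, 0⟩, ⟨-1, 1, 0, 0, -1, 0, -2, 1⟩⟩),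
  (⟨⟨-2, 0, -1, 0, -1, 1, 0, -1⟩, ⟨-1, 1, 0, -1, 0, 0, -1, 0⟩, ⟨-1, 1, 0, -1, 0, 0, -1, 0⟩⟩, ⟨⟨-2, 0, 0, 0, 0, 0, 0, 0⟩, ⟨0, 0, 0, 0, -2, 0, 0, 0⟩, ⟨-1, 2, -1, 0, 1, 0, -1, 0⟩⟩),
  (⟨⟨-2, 0, -1, 0, -1, 1, 0, -1⟩, ⟨-1, 1, 0, -1, 0, 0, -1, 0⟩, ⟨1, -1, 0, 1, 0, 0, 1, 0⟩⟩, ⟨⟨-2, 0, -1, 0, -1, 1, 0, -1⟩, ⟨-1, 0, 0, 0, 0, -1, 1, -1⟩, ⟨-1, 0, 0, 0, 0, -1, 1, -1⟩⟩),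
  (⟨⟨-2, 0, -1, 0, -1, 1, 0, -1⟩, ⟨0, -1, 1, -1, 1, 0, 0, 0⟩, ⟨0, -1, 1, -1, 1, 0, 0, 0⟩⟩, ⟨⟨-2, 0, -2, 0, 0, 0, 0, 0⟩, ⟨0, 0, 0, 0, 2, 0, -2, 0⟩, ⟨0, 0, 0, 0, 0, 0, 0, 0⟩⟩),
  (⟨⟨-2, 0, -1, 0, -1, 1, 0, -1⟩, ⟨0, -1, 1, -1, 1, 0, 0, 0⟩, ⟨0, 1, -1, 1, -1, 0, 0, 0⟩⟩, ⟨⟨-2, 0, -2, 0, 0, 0, 0, 0⟩, ⟨0, 0, 0, 0, 2, 0, -2, 0⟩, ⟨0, 0, 0, 0, 0, 0, 0, 0⟩⟩),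
  (⟨⟨-2, 0, -1, 0, -1, 1, 0, -1⟩, ⟨0, 0, -1, 0, 1, -1, 0, 1⟩, ⟨0, 0, -1, 0, 1, -1, 0, 1⟩⟩, ⟨⟨-1, 0, 1, 0, -1, 0, -1, 0⟩, ⟨0, 0, 0, 0, 2, -2, 0, 0⟩, ⟨0, 1, 0, -1, 0, -1, 0, 1⟩⟩),
  (⟨⟨-2, 0, -1, 0, -1, 1, 0, -1⟩, ⟨0, 0, -1, 0, 1, -1, 0, 1⟩, ⟨0, 0, 1, 0, -1, 1, 0, -1⟩⟩, ⟨⟨-1, 0, -1, 0, -1, 0, 1, 0⟩, ⟨1, -1, -1, -1, 1, -1, -1, 1⟩, ⟨1, 0, 1, 0, 1, 0, -1, 0⟩⟩),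
  (⟨⟨-2, 0, -1, 0, -1, 1, 0, -1⟩, ⟨0, 0, 1, 0, -1, 1, 0, -1⟩, ⟨0, 0, -1, 0, 1, -1, 0, 1⟩⟩, ⟨⟨-1, 0, 0, 0, 0, 1, 1, -1⟩, ⟨0, 0, 1, -2, -1, 1, 0, -1⟩, ⟨1, -1, 0, -1, 0, 0, 1, 0⟩⟩),
  (⟨⟨-2, 0, -1, 0, -1, 1, 0, -1⟩, ⟨0, 0, 1, 0, -1, 1, 0, -1⟩, ⟨0, 0, 1, 0, -1, 1, 0, -1⟩⟩, ⟨⟨-1, 0, -1, 0, -1, 0, -1, 0⟩, ⟨2, -1, 0, 1, 0, 1, 0, -1⟩, ⟨-1, 0, 1, 0, -1, 0, 1, 0⟩⟩),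
  (⟨⟨-2, 0, -1, 0, -1, 1, 0, -1⟩, ⟨0, 1, -1, 1, -1, 0, 0, 0⟩, ⟨0, -1, 1, -1, 1, 0, 0, 0⟩⟩, ⟨⟨0, -1, 0, 0, -1, 1, 1, 0⟩, ⟨0, 0, 0, 1, -1, 0, -1, 1⟩, ⟨1, -2, 1, -1, 0, 0, 0, -1⟩⟩),
  (⟨⟨-2, 0, -1, 0, -1, 1, 0, -1⟩, ⟨0, 1, -1, 1, -1, 0, 0, 0⟩, ⟨0, 1, -1, 1, -1, 0, 0, 0⟩⟩, ⟨⟨-2, 1, 0, 0, -1, 1, 1, 0⟩, ⟨1, 0, -1, 1, 0, 0, 0, 1⟩, ⟨1, 1, 1, 0, 0, -1, 0, 0⟩⟩),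
  (⟨⟨-2, 0, -1, 0, -1, 1, 0, -1⟩, ⟨1, -1, 0, 1, 0, 0, 1, 0⟩, ⟨-1, 1, 0, -1, 0, 0, -1, 0⟩⟩, ⟨⟨-1, 1, 0, 0, -1, 0, 0, -1⟩, ⟨0, 0, -1, 1, 0, -1, 1, 0⟩, ⟨-1, 1, -2, 0, 1, 0, 0, -1⟩⟩),
  (⟨⟨-2, 0, -1, 0, -1, 1, 0, -1⟩, ⟨1, -1, 0, 1, 0, 0, 1, 0⟩, ⟨1, -1, 0, 1, 0, 0, 1, 0⟩⟩, ⟨⟨-1, 0, 0, 0, 0, 1, -1, 1⟩, ⟨1, -1, 0, 1, 0, 0, -1, 0⟩, ⟨1, -1, 0, 1, 2, 0, 1, 0⟩⟩),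
  (⟨⟨-2, 0, -1, 0, -1, 1, 0, -1⟩, ⟨1, 0, 0, 0, 0, 1, -1, 1⟩, ⟨-1, 0, 0, 0, 0, -1, 1, -1⟩⟩, ⟨⟨-1, 1, 0, -1, 0, 0, -1, 0⟩, ⟨1, 0, 0, 0, 0, 1, -1, 1⟩, ⟨0, -1, 1, -1, -1, 0, 2, 0⟩⟩),
  (⟨⟨-2, 0, -1, 0, -1, 1, 0, -1⟩, ⟨1, 0, 0, 0, 0, 1, -1, 1⟩, ⟨1, 0, 0, 0, 0, 1, -1, 1⟩⟩, ⟨⟨-2, 0, 0, 0, 0, 0, 0, 0⟩, ⟨1, -1, -1, 1, 1, -1, -1, 1⟩, ⟨0, 1, 0, -1, 0, 1, 0, 1⟩⟩),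
  (⟨⟨-2, 0, -1, 0, -1, 1, 0, 1⟩, ⟨-1, 0, 0, 0, 0, 1, 1, -1⟩, ⟨-1, 1, 0, 1, 0, 0, -1, 0⟩⟩, ⟨⟨-2, 1, -1, 0, 0, 0, 1, 1⟩, ⟨0, 0, 1, -1, 0, 1, -1, 0⟩, ⟨0, 1, -1, 0, 0, 0, -1, 1⟩⟩),
  (⟨⟨-2, 0, -1, 0, -1, 1, 0, 1⟩, ⟨-1, 0, 0, 0, 0, 1, 1, -1⟩, ⟨1, -1, 0, -1, 0, 0, 1, 0⟩⟩, ⟨⟨-2, 0, 0, -1, -1, 0, -1, 1⟩, ⟨0, 0, 0, 1, -1, 0, 1, -1⟩, ⟨0, 0, 0, -1, 1, 0, -1, 1⟩⟩),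
  (⟨⟨-2, 0, -1, 0, -1, 1, 0, 1⟩, ⟨-1, 1, 0, 1, 0, 0, -1, 0⟩, ⟨-1, 0, 0, 0, 0, 1, 1, -1⟩⟩, ⟨⟨-2, 0, 0, 0, 0, 0, 0, 0⟩, ⟨-1, 0, -1, 2, 1, 0, -1, 0⟩, ⟨0, 0, 2, 0, 0, 0, 0, 0⟩⟩),
  (⟨⟨-2, 0, -1, 0, -1, 1, 0, 1⟩, ⟨-1, 1, 0, 1, 0, 0, -1, 0⟩, ⟨1, 0, 0, 0, 0, -1, -1, 1⟩⟩, ⟨⟨-2, 1, -1, 0, 0, 0, 1, 1⟩, ⟨1, 0, 0, 1, -1, 1, 0, 0⟩, ⟨1, -1, 0, 0, 1, 0, 0, 1⟩⟩),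
  (⟨⟨-2, 0, -1, 0, -1, 1, 0, 1⟩, ⟨0, -1, -1, 1, -1, 0, 0, 0⟩, ⟨0, 0, -1, 0, 1, -1, 0, -1⟩⟩, ⟨⟨-1, 1, -1, 0, -2, 1, 0, 0⟩, ⟨-1, -1, 1, 0, 0, -1, 0, 0⟩, ⟨1, -1, -1, 0, 0, -1, 0, 0⟩⟩),
  (⟨⟨-2, 0, -1, 0, -1, 1, 0, 1⟩, ⟨0, -1, -1, 1, -1, 0, 0, 0⟩, ⟨0, 0, 1, 0, -1, 1, 0, 1⟩⟩, ⟨⟨-2, 1, -1, 0, 0, 0, 1, 1⟩, ⟨1, 0, 0, 1, -1, 1, 0, 0⟩, ⟨1, -1, 0, 0, 1, 0, 0, 1⟩⟩),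
  (⟨⟨-2, 0, -1, 0, -1, 1, 0, 1⟩, ⟨0, 0, -1, 0, 1, -1, 0, -1⟩, ⟨0, -1, -1, 1, -1, 0, 0, 0⟩⟩, ⟨⟨0, 0, -1, 1, 0, 1, 1, 0⟩, ⟨0, 1, -1, 0, 0, 0, -1, -1⟩, ⟨0, 0, -1, 1, -2, 1, -1, 0⟩⟩),
  (⟨⟨-2, 0, -1, 0, -1, 1, 0, 1⟩, ⟨0, 0, -1, 0, 1, -1, 0, -1⟩, ⟨0, 1, 1, -1, 1, 0, 0, 0⟩⟩, ⟨⟨-2, 0, 0, 0, 0, 0, 0, 0⟩, ⟨-2, 0, 0, 0, 0, 0, 0, 0⟩, ⟨-1, 2, 1, 0, 1, 0, 1, 0⟩⟩),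
  (⟨⟨-2, 0, -1, 0, -1, 1, 0, 1⟩, ⟨0, 0, 1, 0, -1, 1, 0, 1⟩, ⟨0, -1, -1, 1, -1, 0, 0, 0⟩⟩, ⟨⟨-1, 0, 0, 0, 0, 1, 1, -1⟩, ⟨-1, 0, 2, 0, 0, -1, -1, 1⟩, ⟨0, -1, -1, 1, -1, 0, 0, 0⟩⟩),
  (⟨⟨-2, 0, -1, 0, -1, 1, 0, 1⟩, ⟨0, 0, 1, 0, -1, 1, 0, 1⟩, ⟨0, 1, 1, -1, 1, 0, 0, 0⟩⟩, ⟨⟨-2, 1, -1, 0, 0, 0, 1, 1⟩, ⟨0, 0, 1, -1, 0, 1, -1, 0⟩, ⟨0, 1, -1, 0, 0, 0, -1, 1⟩⟩),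
  (⟨⟨-2, 0, -1, 0, -1, 1, 0, 1⟩, ⟨0, 1, 1, -1, 1, 0, 0, 0⟩, ⟨0, 0, -1, 0, 1, -1, 0, -1⟩⟩, ⟨⟨-1, 0, -1, 0, 1, 0, 1, 0⟩, ⟨0, 1, 0, -1, 2, -1, 0, 1⟩, ⟨-1, 0, -1, 0, 1, 0, 1, 0⟩⟩),
  (⟨⟨-2, 0, -1, 0, -1, 1, 0, 1⟩, ⟨0, 1, 1, -1, 1, 0, 0, 0⟩, ⟨0, 0, 1, 0, -1, 1, 0, 1⟩⟩, ⟨⟨-2, 0, -2, 0, 0, 0, 0, 0⟩, ⟨0, 0, 0, 0, 2, 0, -2, 0⟩, ⟨0, 0, 0, 0, 0, 0, 0, 0⟩⟩),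
  (⟨⟨-2, 0, -1, 0, -1, 1, 0, 1⟩, ⟨1, -1, 0, -1, 0, 0, 1, 0⟩, ⟨-1, 0, 0, 0, 0, 1, 1, -1⟩⟩, ⟨⟨-1, 0, -1, -1, 0, 0, 0, 1⟩, ⟨1, -1, 1, 0, 2, -1, 0, 0⟩, ⟨-1, 0, -1, 1, 0, 0, 0, -1⟩⟩),
  (⟨⟨-2, 0, -1, 0, -1, 1, 0, 1⟩, ⟨1, -1, 0, -1, 0, 0, 1, 0⟩, ⟨1, 0, 0, 0, 0, -1, -1, 1⟩⟩, ⟨⟨0, -1, -1, 1, -1, 0, 0, 0⟩, ⟨1, 0, -2, 0, 0, 1, 1, -1⟩, ⟨1, 0, 0, 0, 0, -1, -1, 1⟩⟩),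
  (⟨⟨-2, 0, -1, 0, -1, 1, 0, 1⟩, ⟨1, 0, 0, 0, 0, -1, -1, 1⟩, ⟨-1, 1, 0, 1, 0, 0, -1, 0⟩⟩, ⟨⟨-1, 0, -1, 0, -1, 0, 1, 0⟩, ⟨1, -1, -1, -1, 1, -1, -1, 1⟩, ⟨1, 0, 1, 0, 1, 0, -1, 0⟩⟩),
  (⟨⟨-2, 0, -1, 0, -1, 1, 0, 1⟩, ⟨1, 0, 0, 0, 0, -1, -1, 1⟩, ⟨1, -1, 0, -1, 0, 0, 1, 0⟩⟩, ⟨⟨-2, 0, 0, 0, 0, 0, 0, 0⟩, ⟨1, -1, -1, 1, 1, -1, -1, 1⟩, ⟨0, 1, 0, -1, 0, 1, 0, 1⟩⟩),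
  (⟨⟨-2, 0, -1, 0, 1, -1, 0, -1⟩, ⟨-1, 0, 0, 0, 0, -1, -1, 1⟩, ⟨0, -1, -1, 1, 1, 0, 0, 0⟩⟩, ⟨⟨0, -1, -1, 1, 1, 0, 0, 0⟩, ⟨-1, 1, 0, 1, -2, 0, -1, 0⟩, ⟨0, -1, -1, 1, 1, 0, 0, 0⟩⟩),
  (⟨⟨-2, 0, -1, 0, 1, -1, 0, -1⟩, ⟨-1, 0, 0, 0, 0, -1, -1, 1⟩, ⟨0, 1, 1, -1, -1, 0, 0, 0⟩⟩, ⟨⟨-2, 0, 0, 0, 0, 0, 0, 0⟩, ⟨-2, 0, 0, 0, 0, 0, 0, 0⟩, ⟨-1, 2, 1, 0, 1, 0, 1, 0⟩⟩),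
  (⟨⟨-2, 0, -1, 0, 1, -1, 0, -1⟩, ⟨-1, 1, 0, 1, 0, 0, 1, 0⟩, ⟨0, 0, -1, 0, -1, 1, 0, 1⟩⟩, ⟨⟨-1, 1, -1, 0, 0, -1, 0, 0⟩, ⟨-1, 1, 1, 0, 0, -1, 2, 0⟩, ⟨0, 0, 0, -1, 1, 0, -1, 1⟩⟩),
  (⟨⟨-2, 0, -1, 0, 1, -1, 0, -1⟩, ⟨-1, 1, 0, 1, 0, 0, 1, 0⟩, ⟨0, 0, 1, 0, 1, -1, 0, -1⟩⟩, ⟨⟨0, 0, -1, 0, 1, -1, 0, -1⟩, ⟨1, 1, 0, 1, 0, 0, 1, 0⟩, ⟨-1, 0, 0, 0, 2, -1, -1, 1⟩⟩),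
  (⟨⟨-2, 0, -1, 0, 1, -1, 0, -1⟩, ⟨0, -1, -1, 1, 1, 0, 0, 0⟩, ⟨-1, 0, 0, 0, 0, -1, -1, 1⟩⟩, ⟨⟨-2, 0, -2, 0, 0, 0, 0, 0⟩, ⟨0, 0, 0, 0, 2, 0, -2, 0⟩, ⟨0, 0, 0, 0, 0, 0, 0, 0⟩⟩),
  (⟨⟨-2, 0, -1, 0, 1, -1, 0, -1⟩, ⟨0, -1, -1, 1, 1, 0, 0, 0⟩, ⟨1, 0, 0, 0, 0, 1, 1, -1⟩⟩, ⟨⟨-2, 0, 0, 0, 0, 0, 0, 0⟩, ⟨1, -1, -1, 1, 1, -1, -1, 1⟩, ⟨0, 1, 0, -1, 0, 1, 0, 1⟩⟩),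
  (⟨⟨-2, 0, -1, 0, 1, -1, 0, -1⟩, ⟨0, 0, -1, 0, -1, 1, 0, 1⟩, ⟨-1, 1, 0, 1, 0, 0, 1, 0⟩⟩, ⟨⟨-1, 0, -1, 0, -1, 0, -1, 0⟩, ⟨0, 1, -2, 1, 0, 1, 0, 1⟩, ⟨-1, 0, -1, 0, 1, 0, 1, 0⟩⟩),
  (⟨⟨-2, 0, -1, 0, 1, -1, 0, -1⟩, ⟨0, 0, -1, 0, -1, 1, 0, 1⟩, ⟨1, -1, 0, -1, 0, 0, -1, 0⟩⟩, ⟨⟨0, 0, -2, 0, 0, 0, 0, 0⟩, ⟨-1, 0, -1, 0, -1, 2, 1, 0⟩, ⟨0, 0, 0, 0, 0, 0, -2, 0⟩⟩),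
  (⟨⟨-2, 0, -1, 0, 1, -1, 0, -1⟩, ⟨0, 0, 1, 0, 1, -1, 0, -1⟩, ⟨-1, 1, 0, 1, 0, 0, 1, 0⟩⟩, ⟨⟨-1, -1, -1, 1, 1, -1, 1, -1⟩, ⟨1, 0, 1, 0, 1, 0, -1, 0⟩, ⟨-1, 0, 1, 0, -1, 0, -1, 0⟩⟩),
  (⟨⟨-2, 0, -1, 0, 1, -1, 0, -1⟩, ⟨0, 0, 1, 0, 1, -1, 0, -1⟩, ⟨1, -1, 0, -1, 0, 0, -1, 0⟩⟩, ⟨⟨0, 0, 1, 0, 1, -1, 0, -1⟩, ⟨0, 0, 1, 0, 1, -1, 0, -1⟩, ⟨1, -1, 0, -1, 2, 0, 1, 0⟩⟩),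
  (⟨⟨-2, 0, -1, 0, 1, -1, 0, -1⟩, ⟨0, 1, 1, -1, -1, 0, 0, 0⟩, ⟨-1, 0, 0, 0, 0, -1, -1, 1⟩⟩, ⟨⟨-1, -1, -1, 1, 1, -1, 1, -1⟩, ⟨1, 0, 1, 0, 1, 0, -1, 0⟩, ⟨-1, 0, 1, 0, -1, 0, -1, 0⟩⟩),
  (⟨⟨-2, 0, -1, 0, 1, -1, 0, -1⟩, ⟨0, 1, 1, -1, -1, 0, 0, 0⟩, ⟨1, 0, 0, 0, 0, 1, 1, -1⟩⟩, ⟨⟨-1, 0, 0, 0, 0, -1, 1, -1⟩, ⟨1, 0, 0, 0, 0, -1, -1, -1⟩, ⟨0, 0, -1, 0, -1, 1, 2, -1⟩⟩),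
  (⟨⟨-2, 0, -1, 0, 1, -1, 0, -1⟩, ⟨1, -1, 0, -1, 0, 0, -1, 0⟩, ⟨0, 0, -1, 0, -1, 1, 0, 1⟩⟩, ⟨⟨-1, 1, 0, -1, 0, 0, -1, 0⟩, ⟨0, -1, 1, -1, -1, 0, -2, 0⟩, ⟨1, 0, 0, 0, 0, 1, -1, 1⟩⟩),
  (⟨⟨-2, 0, -1, 0, 1, -1, 0, -1⟩, ⟨1, -1, 0, -1, 0, 0, -1, 0⟩, ⟨0, 0, 1, 0, 1, -1, 0, -1⟩⟩, ⟨⟨-1, 0, -1, 0, 1, 0, -1, 0⟩, ⟨-1, -1, 1, -1, 1, -1, -1, 1⟩, ⟨1, 0, 1, 0, 1, 0, -1, 0⟩⟩),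
  (⟨⟨-2, 0, -1, 0, 1, -1, 0, -1⟩, ⟨1, 0, 0, 0, 0, 1, 1, -1⟩, ⟨0, -1, -1, 1, 1, 0, 0, 0⟩⟩, ⟨⟨-1, -1, -1, 0, 0, -1, 0, 0⟩, ⟨0, 1, 0, 0, 1, -1, 1, 0⟩, ⟨1, -1, -1, 0, 2, -1, 0, 0⟩⟩),
  (⟨⟨-2, 0, -1, 0, 1, -1, 0, -1⟩, ⟨1, 0, 0, 0, 0, 1, 1, -1⟩, ⟨0, 1, 1, -1, -1, 0, 0, 0⟩⟩, ⟨⟨-1, 0, -1, 0, -1, 0, -1, 0⟩, ⟨2, -1, 0, 1, 0, 1, 0, -1⟩, ⟨-1, 0, 1, 0, -1, 0, 1, 0⟩⟩),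
  (⟨⟨-2, 0, -1, 0, 1, -1, 0, 1⟩, ⟨-1, 0, 0, 0, 0, 1, -1, 1⟩, ⟨0, 0, -1, 0, -1, 1, 0, -1⟩⟩, ⟨⟨-2, 1, -1, 0, 0, 0, 1, 1⟩, ⟨0, 0, 1, -1, 0, 1, -1, 0⟩, ⟨0, 1, -1, 0, 0, 0, -1, 1⟩⟩),
  (⟨⟨-2, 0, -1, 0, 1, -1, 0, 1⟩, ⟨-1, 0, 0, 0, 0, 1, -1, 1⟩, ⟨0, 0, 1, 0, 1, -1, 0, 1⟩⟩, ⟨⟨0, -1, -1, 1, 1, 0, 0, 0⟩, ⟨-2, 0, 1, 0, -1, 1, 0, 1⟩, ⟨-1, 0, 0, 0, 0, -1, -1, 1⟩⟩),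
  (⟨⟨-2, 0, -1, 0, 1, -1, 0, 1⟩, ⟨-1, 1, 0, -1, 0, 0, 1, 0⟩, ⟨0, -1, 1, -1, -1, 0, 0, 0⟩⟩, ⟨⟨0, -1, 0, -1, 0, -1, 0, 1⟩, ⟨-2, 0, 0, 0, 0, 0, 0, 0⟩, ⟨1, -1, 1, -1, -1, 1, -1, 1⟩⟩),
  (⟨⟨-2, 0, -1, 0, 1, -1, 0, 1⟩, ⟨-1, 1, 0, -1, 0, 0, 1, 0⟩, ⟨0, 1, -1, 1, 1, 0, 0, 0⟩⟩, ⟨⟨-1, 0, -1, 0, 1, 0, 1, 0⟩, ⟨0, 1, 0, -1, 2, -1, 0, 1⟩, ⟨-1, 0, -1, 0, 1, 0, 1, 0⟩⟩),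
  (⟨⟨-2, 0, -1, 0, 1, -1, 0, 1⟩, ⟨0, -1, 1, -1, -1, 0, 0, 0⟩, ⟨-1, 1, 0, -1, 0, 0, 1, 0⟩⟩, ⟨⟨-2, 0, 0, 0, 0, 0, 0, 0⟩, ⟨-2, 0, 0, 0, 0, 0, 0, 0⟩, ⟨-1, 2, 1, 0, 1, 0, 1, 0⟩⟩),
  (⟨⟨-2, 0, -1, 0, 1, -1, 0, 1⟩, ⟨0, -1, 1, -1, -1, 0, 0, 0⟩, ⟨1, -1, 0, 1, 0, 0, -1, 0⟩⟩, ⟨⟨0, 0, 0, 0, 0, 0, 0, 0⟩, ⟨1, -2, 1, 0, -1, 0, -1, 0⟩, ⟨1, -2, 1, 0, -1, 0, -1, 0⟩⟩),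
  (⟨⟨-2, 0, -1, 0, 1, -1, 0, 1⟩, ⟨0, 0, -1, 0, -1, 1, 0, -1⟩, ⟨-1, 0, 0, 0, 0, 1, -1, 1⟩⟩, ⟨⟨-1, 0, 0, -1, 1, -1, 0, 0⟩, ⟨0, 0, 1, -1, -2, 1, 1, 0⟩, ⟨-1, 0, 0, 1, 1, 1, 0, 0⟩⟩),
  (⟨⟨-2, 0, -1, 0, 1, -1, 0, 1⟩, ⟨0, 0, -1, 0, -1, 1, 0, -1⟩, ⟨1, 0, 0, 0, 0, -1, 1, -1⟩⟩, ⟨⟨0, 0, -1, 1, 0, -1, 1, 0⟩, ⟨0, 0, -1, 1, 0, 1, 1, -2⟩, ⟨0, 0, -1, 1, 0, -1, 1, 0⟩⟩),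
  (⟨⟨-2, 0, -1, 0, 1, -1, 0, 1⟩, ⟨0, 0, 1, 0, 1, -1, 0, 1⟩, ⟨-1, 0, 0, 0, 0, 1, -1, 1⟩⟩, ⟨⟨-1, 0, 1, 0, 1, 0, 1, 0⟩, ⟨0, -1, 0, 1, 0, -1, 0, 1⟩, ⟨0, 0, 0, 0, 0, 0, -2, 2⟩⟩),
  (⟨⟨-2, 0, -1, 0, 1, -1, 0, 1⟩, ⟨0, 0, 1, 0, 1, -1, 0, 1⟩, ⟨1, 0, 0, 0, 0, -1, 1, -1⟩⟩, ⟨⟨-1, -1, -1, 0, 0, -1, 0, 0⟩, ⟨0, 1, 0, 0, 1, -1, 1, 0⟩, ⟨1, -1, -1, 0, 2, -1, 0, 0⟩⟩),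
  (⟨⟨-2, 0, -1, 0, 1, -1, 0, 1⟩, ⟨0, 1, -1, 1, 1, 0, 0, 0⟩, ⟨-1, 1, 0, -1, 0, 0, 1, 0⟩⟩, ⟨⟨-2, 0, 0, 0, 0, 0, 0, 0⟩, ⟨1, -1, -1, 1, 1, -1, -1, 1⟩, ⟨0, 1, 0, -1, 0, 1, 0, 1⟩⟩),
  (⟨⟨-2, 0, -1, 0, 1, -1, 0, 1⟩, ⟨0, 1, -1, 1, 1, 0, 0, 0⟩, ⟨1, -1, 0, 1, 0, 0, -1, 0⟩⟩, ⟨⟨-2, 0, -2, 0, 0, 0, 0, 0⟩, ⟨0, 0, 0, 0, 2, 0, -2, 0⟩, ⟨0, 0, 0, 0, 0, 0, 0, 0⟩⟩),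
  (⟨⟨-2, 0, -1, 0, 1, -1, 0, 1⟩, ⟨1, -1, 0, 1, 0, 0, -1, 0⟩, ⟨0, -1, 1, -1, -1, 0, 0, 0⟩⟩, ⟨⟨-1, 0, -1, 0, 1, 0, -1, 0⟩, ⟨-1, 0, 1, 0, -1, 0, -1, 0⟩, ⟨1, -1, 1, -1, -1, -1, -1, 1⟩⟩),
  (⟨⟨-2, 0, -1, 0, 1, -1, 0, 1⟩, ⟨1, -1, 0, 1, 0, 0, -1, 0⟩, ⟨0, 1, -1, 1, 1, 0, 0, 0⟩⟩, ⟨⟨-2, 1, -1, 0, 0, 0, 1, 1⟩, ⟨1, 0, 0, 1, -1, 1, 0, 0⟩, ⟨1, -1, 0, 0, 1, 0, 0, 1⟩⟩),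
  (⟨⟨-2, 0, -1, 0, 1, -1, 0, 1⟩, ⟨1, 0, 0, 0, 0, -1, 1, -1⟩, ⟨0, 0, -1, 0, -1, 1, 0, -1⟩⟩, ⟨⟨0, -1, -1, 0, 0, 0, 1, 1⟩, ⟨1, 0, 0, 1, 1, -1, 0, 0⟩, ⟨0, 0, -1, 1, -2, 1, 1, 0⟩⟩),
  (⟨⟨-2, 0, -1, 0, 1, -1, 0, 1⟩, ⟨1, 0, 0, 0, 0, -1, 1, -1⟩, ⟨0, 0, 1, 0, 1, -1, 0, 1⟩⟩, ⟨⟨-1, 1, -1, 0, 0, -1, 0, 0⟩, ⟨2, -1, 0, 0, -1, -1, 1, 0⟩, ⟨1, 0, -1, 1, 0, 0, 0, 1⟩⟩),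
  (⟨⟨-2, 1, -1, 0, 0, 0, -1, 1⟩, ⟨-1, -1, 0, 0, 1, 0, 0, 1⟩, ⟨0, 0, -1, 1, 0, -1, -1, 0⟩⟩, ⟨⟨-1, 1, 0, -1, 0, 0, -1, 2⟩, ⟨-1, 0, 0, 0, 0, 1, 1, -1⟩, ⟨0, 0, -1, 0, 1, -1, 0, -1⟩⟩),
  (⟨⟨-2, 1, -1, 0, 0, 0, -1, 1⟩, ⟨-1, -1, 0, 0, 1, 0, 0, 1⟩, ⟨0, 0, 1, -1, 0, 1, 1, 0⟩⟩, ⟨⟨-2, 0, 0, 0, 0, 0, 0, 0⟩, ⟨1, -1, -1, 1, 1, -1, -1, 1⟩, ⟨0, 1, 0, -1, 0, 1, 0, 1⟩⟩),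
  (⟨⟨-2, 1, -1, 0, 0, 0, -1, 1⟩, ⟨-1, 0, 0, -1, -1, -1, 0, 0⟩, ⟨0, -1, -1, 0, 0, 0, 1, -1⟩⟩, ⟨⟨-1, 1, 1, 0, 0, 1, 0, 0⟩, ⟨-2, 1, 0, 0, -1, -1, -1, 0⟩, ⟨0, -1, 0, 0, -1, 1, 1, 0⟩⟩),
  (⟨⟨-2, 1, -1, 0, 0, 0, -1, 1⟩, ⟨-1, 0, 0, -1, -1, -1, 0, 0⟩, ⟨0, 1, 1, 0, 0, 0, -1, 1⟩⟩, ⟨⟨0, 0, 0, 0, 0, 0, -2, 0⟩, ⟨0, 0, 0, 0, -2, 0, 0, 0⟩, ⟨-1, 2, 1, 0, -1, 0, -1, 0⟩⟩),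
  (⟨⟨-2, 1, -1, 0, 0, 0, -1, 1⟩, ⟨-1, 0, 0, 1, -1, 1, 0, 0⟩, ⟨0, -1, 1, 0, 0, 0, -1, -1⟩⟩, ⟨⟨-1, 0, 1, 0, 1, 0, -1, 0⟩, ⟨0, -1, 0, 1, -2, 1, 0, -1⟩, ⟨-1, 0, 1, 0, 1, 0, -1, 0⟩⟩),
  (⟨⟨-2, 1, -1, 0, 0, 0, -1, 1⟩, ⟨-1, 0, 0, 1, -1, 1, 0, 0⟩, ⟨0, 1, -1, 0, 0, 0, 1, 1⟩⟩, ⟨⟨-2, 1, -1, 0, 0, 0, 1, 1⟩, ⟨0, 0, 1, -1, 0, 1, -1, 0⟩, ⟨0, 1, -1, 0, 0, 0, -1, 1⟩⟩),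
  (⟨⟨-2, 1, -1, 0, 0, 0, -1, 1⟩, ⟨-1, 1, 0, 0, 1, 0, 0, -1⟩, ⟨0, 0, -1, -1, 0, 1, -1, 0⟩⟩, ⟨⟨-2, 0, -2, 0, 0, 0, 0, 0⟩, ⟨0, 0, 0, 0, 2, 0, -2, 0⟩, ⟨0, 0, 0, 0, 0, 0, 0, 0⟩⟩),
  (⟨⟨-2, 1, -1, 0, 0, 0, -1, 1⟩, ⟨-1, 1, 0, 0, 1, 0, 0, -1⟩, ⟨0, 0, 1, 1, 0, -1, 1, 0⟩⟩, ⟨⟨-2, 0, -2, 0, 0, 0, 0, 0⟩, ⟨0, 0, 0, 0, 2, 0, -2, 0⟩, ⟨0, 0, 0, 0, 0, 0, 0, 0⟩⟩),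
  (⟨⟨-2, 1, -1, 0, 0, 0, -1, 1⟩, ⟨0, -1, -1, 0, 0, 0, 1, -1⟩, ⟨-1, 0, 0, -1, -1, -1, 0, 0⟩⟩, ⟨⟨-1, 1, 1, 0, 0, 1, 0, 0⟩, ⟨0, -1, 0, 0, -1, 1, 1, 0⟩, ⟨-2, 1, 0, 0, -1, -1, -1, 0⟩⟩),
  (⟨⟨-2, 1, -1, 0, 0, 0, -1, 1⟩, ⟨0, -1, -1, 0, 0, 0, 1, -1⟩, ⟨1, 0, 0, 1, 1, 1, 0, 0⟩⟩, ⟨⟨-1, 0, 0, 0, 0, 1, -1, 1⟩, ⟨1, -1, 0, 1, 0, 0, -1, 0⟩, ⟨1, -1, 0, 1, 2, 0, 1, 0⟩⟩),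
  (⟨⟨-2, 1, -1, 0, 0, 0, -1, 1⟩, ⟨0, -1, 1, 0, 0, 0, -1, -1⟩, ⟨-1, 0, 0, 1, -1, 1, 0, 0⟩⟩, ⟨⟨-1, 1, 0, -1, 0, 0, -1, 0⟩, ⟨0, -1, 1, -1, -1, 0, -2, 0⟩, ⟨1, 0, 0, 0, 0, 1, -1, 1⟩⟩),
  (⟨⟨-2, 1, -1, 0, 0, 0, -1, 1⟩, ⟨0, -1, 1, 0, 0, 0, -1, -1⟩, ⟨1, 0, 0, -1, 1, -1, 0, 0⟩⟩, ⟨⟨-1, 0, -1, 1, 0, 0, 0, 1⟩, ⟨0, -1, 0, 0, -1, 1, 1, -2⟩, ⟨0, -1, 0, 0, 1, -1, -1, 0⟩⟩),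
  (⟨⟨-2, 1, -1, 0, 0, 0, -1, 1⟩, ⟨0, 0, -1, -1, 0, 1, -1, 0⟩, ⟨-1, 1, 0, 0, 1, 0, 0, -1⟩⟩, ⟨⟨-1, 1, -1, 0, 0, 1, 0, 0⟩, ⟨0, 0, 0, -1, -1, 0, 1, -1⟩, ⟨-1, 0, -1, 1, 2, 0, 0, -1⟩⟩),
  (⟨⟨-2, 1, -1, 0, 0, 0, -1, 1⟩, ⟨0, 0, -1, -1, 0, 1, -1, 0⟩, ⟨1, -1, 0, 0, -1, 0, 0, 1⟩⟩, ⟨⟨-1, 0, -1, -1, 0, 0, 0, -1⟩, ⟨1, -1, -1, 0, 0, 1, 0, 0⟩, ⟨1, -1, 1, 0, -2, 1, 0, 0⟩⟩),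
  (⟨⟨-2, 1, -1, 0, 0, 0, -1, 1⟩, ⟨0, 0, -1, 1, 0, -1, -1, 0⟩, ⟨-1, -1, 0, 0, 1, 0, 0, 1⟩⟩, ⟨⟨-2, 0, 0, 0, 0, 0, 0, 0⟩, ⟨2, 0, 0, 0, 0, 0, 0, 0⟩, ⟨-1, 0, -1, 0, 1, 0, -1, 2⟩⟩),
  (⟨⟨-2, 1, -1, 0, 0, 0, -1, 1⟩, ⟨0, 0, -1, 1, 0, -1, -1, 0⟩, ⟨1, 1, 0, 0, -1, 0, 0, -1⟩⟩, ⟨⟨-1, 0, 0, 1, 1, -1, 0, 0⟩, ⟨-1, 0, -2, 1, -1, -1, 0, 0⟩, ⟨0, 1, 1, 0, 0, 0, 1, -1⟩⟩),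
  (⟨⟨-2, 1, -1, 0, 0, 0, -1, 1⟩, ⟨0, 0, 1, -1, 0, 1, 1, 0⟩, ⟨-1, -1, 0, 0, 1, 0, 0, 1⟩⟩, ⟨⟨-1, 1, -1, 0, 0, -1, 0, 0⟩, ⟨0, 1, 0, 0, 1, 1, 1, 0⟩, ⟨-1, 0, -1, 1, 0, 0, -2, 1⟩⟩),
  (⟨⟨-2, 1, -1, 0, 0, 0, -1, 1⟩, ⟨0, 0, 1, -1, 0, 1, 1, 0⟩, ⟨1, 1, 0, 0, -1, 0, 0, -1⟩⟩, ⟨⟨-2, 1, 0, -1, 0, 1, 0, 1⟩, ⟨-2, 1, 0, -1, 0, 1, 0, 1⟩, ⟨0, 0, 0, 0, 0, 0, 0, 0⟩⟩),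
  (⟨⟨-2, 1, -1, 0, 0, 0, -1, 1⟩, ⟨0, 0, 1, 1, 0, -1, 1, 0⟩, ⟨-1, 1, 0, 0, 1, 0, 0, -1⟩⟩, ⟨⟨-1, 1, 0, 1, 0, 0, -1, 0⟩, ⟨2, -1, 1, 1, -1, 0, 0, 0⟩, ⟨-1, 1, 0, 1, 0, 0, -1, 0⟩⟩),
  (⟨⟨-2, 1, -1, 0, 0, 0, -1, 1⟩, ⟨0, 0, 1, 1, 0, -1, 1, 0⟩, ⟨1, -1, 0, 0, -1, 0, 0, 1⟩⟩, ⟨⟨-2, 0, 0, -1, -1, 0, -1, 1⟩, ⟨0, 0, 0, 1, -1, 0, 1, -1⟩, ⟨0, 0, 0, -1, 1, 0, -1, 1⟩⟩),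
  (⟨⟨-2, 1, -1, 0, 0, 0, -1, 1⟩, ⟨0, 1, -1, 0, 0, 0, 1, 1⟩, ⟨-1, 0, 0, 1, -1, 1, 0, 0⟩⟩, ⟨⟨-1, 1, -1, 0, 0, -1, -2, 0⟩, ⟨0, 1, 0, 0, -1, 1, 1, 0⟩, ⟨0, 0, 0, 1, 1, 0, 1, -1⟩⟩),
  (⟨⟨-2, 1, -1, 0, 0, 0, -1, 1⟩, ⟨0, 1, -1, 0, 0, 0, 1, 1⟩, ⟨1, 0, 0, -1, 1, -1, 0, 0⟩⟩, ⟨⟨-1, 1, -1, 1, 1, 1, -1, 1⟩, ⟨-1, 1, 1, -1, 1, -1, 1, 1⟩, ⟨0, 0, 0, 0, 0, 0, 0, 0⟩⟩),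
  (⟨⟨-2, 1, -1, 0, 0, 0, -1, 1⟩, ⟨0, 1, 1, 0, 0, 0, -1, 1⟩, ⟨-1, 0, 0, -1, -1, -1, 0, 0⟩⟩, ⟨⟨-1, 0, -1, 0, 1, 0, -1, 0⟩, ⟨-1, 0, 1, 0, -1, 0, -1, 0⟩, ⟨1, -1, 1, -1, -1, -1, -1, 1⟩⟩),
  (⟨⟨-2, 1, -1, 0, 0, 0, -1, 1⟩, ⟨0, 1, 1, 0, 0, 0, -1, 1⟩, ⟨1, 0, 0, 1, 1, 1, 0, 0⟩⟩, ⟨⟨-1, 1, -1, 0, 0, -1, -2, 0⟩, ⟨0, 1, 0, 0, -1, 1, 1, 0⟩, ⟨0, 0, 0, 1, 1, 0, 1, -1⟩⟩),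
  (⟨⟨-2, 1, -1, 0, 0, 0, -1, 1⟩, ⟨1, -1, 0, 0, -1, 0, 0, 1⟩, ⟨0, 0, -1, -1, 0, 1, -1, 0⟩⟩, ⟨⟨-1, 1, -1, 0, 0, 1, 0, 0⟩, ⟨0, 0, 0, 1, -1, 0, 1, 1⟩, ⟨1, 0, 1, -1, 0, 0, -2, 1⟩⟩),
  (⟨⟨-2, 1, -1, 0, 0, 0, -1, 1⟩, ⟨1, -1, 0, 0, -1, 0, 0, 1⟩, ⟨0, 0, 1, 1, 0, -1, 1, 0⟩⟩, ⟨⟨-1, 1, -1, 0, 0, -1, 0, 0⟩, ⟨2, -1, 0, 0, -1, -1, 1, 0⟩, ⟨1, 0, -1, 1, 0, 0, 0, 1⟩⟩),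
  (⟨⟨-2, 1, -1, 0, 0, 0, -1, 1⟩, ⟨1, 0, 0, -1, 1, -1, 0, 0⟩, ⟨0, -1, 1, 0, 0, 0, -1, -1⟩⟩, ⟨⟨-1, 0, -1, -1, 0, 0, 0, 1⟩, ⟨1, -1, 1, 0, 2, -1, 0, 0⟩, ⟨-1, 0, -1, 1, 0, 0, 0, -1⟩⟩),
  (⟨⟨-2, 1, -1, 0, 0, 0, -1, 1⟩, ⟨1, 0, 0, -1, 1, -1, 0, 0⟩, ⟨0, 1, -1, 0, 0, 0, 1, 1⟩⟩, ⟨⟨-1, 1, -1, 1, -1, -1, -1, 1⟩, ⟨1, 0, -1, 0, -1, 0, -1, 0⟩, ⟨1, 0, -1, 0, 1, 0, 1, 0⟩⟩),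
  (⟨⟨-2, 1, -1, 0, 0, 0, -1, 1⟩, ⟨1, 0, 0, 1, 1, 1, 0, 0⟩, ⟨0, -1, -1, 0, 0, 0, 1, -1⟩⟩, ⟨⟨0, 1, -1, 1, -1, 0, 0, 0⟩, ⟨1, 0, 0, 0, 0, 1, -1, 1⟩, ⟨-1, -1, -2, 1, 0, 0, 1, 0⟩⟩),
  (⟨⟨-2, 1, -1, 0, 0, 0, -1, 1⟩, ⟨1, 0, 0, 1, 1, 1, 0, 0⟩, ⟨0, 1, 1, 0, 0, 0, -1, 1⟩⟩, ⟨⟨-2, 1, -1, 0, 0, 0, 1, 1⟩, ⟨1, 0, 0, 1, -1, 1, 0, 0⟩, ⟨1, -1, 0, 0, 1, 0, 0, 1⟩⟩),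
  (⟨⟨-2, 1, -1, 0, 0, 0, -1, 1⟩, ⟨1, 1, 0, 0, -1, 0, 0, -1⟩, ⟨0, 0, -1, 1, 0, -1, -1, 0⟩⟩, ⟨⟨-1, 1, 0, 0, -1, 0, 0, 1⟩, ⟨0, 0, -1, 1, -2, 1, -1, 0⟩, ⟨1, 0, 0, 1, -1, -1, 0, 0⟩⟩),
  (⟨⟨-2, 1, -1, 0, 0, 0, -1, 1⟩, ⟨1, 1, 0, 0, -1, 0, 0, -1⟩, ⟨0, 0, 1, -1, 0, 1, 1, 0⟩⟩, ⟨⟨-1, 1, -1, 1, -1, -1, -1, 1⟩, ⟨1, 0, -1, 0, -1, 0, -1, 0⟩, ⟨1, 0, -1, 0, 1, 0, 1, 0⟩⟩),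
  (⟨⟨0, 0, 0, 0, 0, 0, 0, 0⟩, ⟨-2, 0, -2, 0, 0, 0, 0, 0⟩, ⟨-2, 0, -2, 0, 0, 0, 0, 0⟩⟩, ⟨⟨0, -1, -1, 1, -1, 0, 0, 0⟩, ⟨0, -1, -1, 1, -1, 0, 0, 0⟩, ⟨-2, 1, -1, -1, 1, 0, 0, 0⟩⟩),
  (⟨⟨0, 0, 0, 0, 0, 0, 0, 0⟩, ⟨-2, 0, -2, 0, 0, 0, 0, 0⟩, ⟨-2, 0, 2, 0, 0, 0, 0, 0⟩⟩, ⟨⟨0, -1, 0, -1, 2, -1, 0, -1⟩, ⟨-1, 0, -1, 0, -1, 0, -1, 0⟩, ⟨-1, 0, 1, 0, -1, 0, 1, 0⟩⟩),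
  (⟨⟨0, 0, 0, 0, 0, 0, 0, 0⟩, ⟨-2, 0, -2, 0, 0, 0, 0, 0⟩, ⟨0, 0, 0, 0, -2, 0, -2, 0⟩⟩, ⟨⟨1, 0, 0, 0, 0, -1, -1, 1⟩, ⟨0, -1, -1, 1, -1, 0, 0, 0⟩, ⟨-1, 0, 0, 0, -2, 1, -1, -1⟩⟩),
  (⟨⟨0, 0, 0, 0, 0, 0, 0, 0⟩, ⟨-2, 0, -2, 0, 0, 0, 0, 0⟩, ⟨0, 0, 0, 0, -2, 0, 2, 0⟩⟩, ⟨⟨0, 0, -1, 0, 1, -1, 0, -1⟩, ⟨0, 0, -1, 0, 1, -1, 0, -1⟩, ⟨0, 1, 1, -1, -1, 0, 2, 0⟩⟩),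
  (⟨⟨0, 0, 0, 0, 0, 0, 0, 0⟩, ⟨-2, 0, -2, 0, 0, 0, 0, 0⟩, ⟨0, 0, 0, 0, 2, 0, -2, 0⟩⟩, ⟨⟨0, -1, 1, -1, 1, 0, 0, 0⟩, ⟨0, -1, -1, -1, -1, 0, 0, 0⟩, ⟨0, 0, 1, 0, 1, -1, -2, 1⟩⟩),
  (⟨⟨0, 0, 0, 0, 0, 0, 0, 0⟩, ⟨-2, 0, -2, 0, 0, 0, 0, 0⟩, ⟨0, 0, 0, 0, 2, 0, 2, 0⟩⟩, ⟨⟨0, 0, -1, 0, -1, 1, 0, 1⟩, ⟨-2, 1, -1, -1, -1, 0, 0, 0⟩, ⟨1, 0, 0, 0, 0, 1, 1, -1⟩⟩),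
  (⟨⟨0, 0, 0, 0, 0, 0, 0, 0⟩, ⟨-2, 0, -2, 0, 0, 0, 0, 0⟩, ⟨2, 0, -2, 0, 0, 0, 0, 0⟩⟩, ⟨⟨0, 0, 0, 0, 2, 0, -2, 0⟩, ⟨0, 0, 0, 0, 0, 0, 0, 0⟩, ⟨2, 0, -2, 0, 0, 0, 0, 0⟩⟩),
  (⟨⟨0, 0, 0, 0, 0, 0, 0, 0⟩, ⟨-2, 0, -2, 0, 0, 0, 0, 0⟩, ⟨2, 0, 2, 0, 0, 0, 0, 0⟩⟩, ⟨⟨0, 1, -1, 0, 0, 0, -1, -1⟩, ⟨-2, 1, -1, 0, 0, 0, 1, -1⟩, ⟨0, 1, 1, 0, 0, 0, 1, -1⟩⟩),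
  (⟨⟨0, 0, 0, 0, 0, 0, 0, 0⟩, ⟨0, 0, 0, 0, 0, 0, 0, 0⟩, ⟨4, 0, 0, 0, 0, 0, 0, 0⟩⟩, ⟨⟨0, 0, -2, 0, 0, 0, 0, 0⟩, ⟨-1, 2, 1, 0, -1, 0, -1, 0⟩, ⟨2, 0, 0, 0, 0, 0, 0, 0⟩⟩),
  (⟨⟨0, 0, 0, 0, 0, 0, 0, 0⟩, ⟨4, 0, 0, 0, 0, 0, 0, 0⟩, ⟨0, 0, 0, 0, 0, 0, 0, 0⟩⟩, ⟨⟨-2, 0, 0, 0, 0, 0, 0, 0⟩, ⟨2, 0, 0, 0, 0, 0, 0, 0⟩, ⟨-1, 0, -1, 0, 1, 0, -1, 2⟩⟩),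
  (⟨⟨0, 2, 0, 0, 0, 0, 0, 0⟩, ⟨-1, 0, -1, 0, -1, 0, -1, 0⟩, ⟨-1, 1, 1, -1, 1, -1, 1, -1⟩⟩, ⟨⟨-1, 2, 0, 0, 0, -1, -1, 1⟩, ⟨-1, 1, 0, -1, 0, 0, 1, 0⟩, ⟨-1, 1, 0, -1, 0, 0, 1, 0⟩⟩),
  (⟨⟨0, 2, 0, 0, 0, 0, 0, 0⟩, ⟨-1, 0, -1, 0, -1, 0, -1, 0⟩, ⟨1, -1, -1, 1, -1, 1, -1, 1⟩⟩, ⟨⟨1, 0, 1, 0, -1, 0, 1, 0⟩, ⟨-1, 0, -1, 0, -1, 0, 1, 0⟩, ⟨1, -1, 1, 1, -1, 1, -1, 1⟩⟩),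
  (⟨⟨0, 2, 0, 0, 0, 0, 0, 0⟩, ⟨-1, 0, -1, 0, 1, 0, 1, 0⟩, ⟨-1, 1, -1, 1, -1, 1, 1, -1⟩⟩, ⟨⟨1, 0, 1, -1, 0, 0, 0, -1⟩, ⟨0, -1, -2, 0, 1, -1, 1, 0⟩, ⟨0, 1, 0, 0, -1, 1, 1, 0⟩⟩),
  (⟨⟨0, 2, 0, 0, 0, 0, 0, 0⟩, ⟨-1, 0, -1, 0, 1, 0, 1, 0⟩, ⟨1, -1, 1, -1, 1, -1, -1, 1⟩⟩, ⟨⟨0, 1, 1, -1, 1, 0, 0, 0⟩, ⟨0, 1, 1, -1, 1, 0, 0, 0⟩, ⟨0, -1, 1, -1, 1, -2, 0, 0⟩⟩),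
  (⟨⟨0, 2, 0, 0, 0, 0, 0, 0⟩, ⟨-1, 0, 1, 0, -1, 0, 1, 0⟩, ⟨-1, 1, 1, -1, -1, 1, -1, 1⟩⟩, ⟨⟨2, 0, 0, 0, 0, 0, 0, 0⟩, ⟨0, 0, 2, 0, 0, 0, 0, 0⟩, ⟨-1, 2, 1, 0, -1, 0, -1, 0⟩⟩),
  (⟨⟨0, 2, 0, 0, 0, 0, 0, 0⟩, ⟨-1, 0, 1, 0, -1, 0, 1, 0⟩, ⟨1, -1, -1, 1, 1, -1, 1, -1⟩⟩, ⟨⟨-1, 1, 0, 0, -1, 0, 2, -1⟩, ⟨0, 0, 1, 1, 0, -1, 1, 0⟩, ⟨0, -1, -1, 0, 0, 0, 1, -1⟩⟩),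
  (⟨⟨0, 2, 0, 0, 0, 0, 0, 0⟩, ⟨-1, 0, 1, 0, 1, 0, -1, 0⟩, ⟨-1, 1, -1, 1, 1, -1, -1, 1⟩⟩, ⟨⟨-1, 2, 1, 0, -1, 0, -1, 0⟩, ⟨0, 0, 0, 0, 0, 0, -2, 0⟩, ⟨0, 0, 0, 0, 2, 0, 0, 0⟩⟩),
  (⟨⟨0, 2, 0, 0, 0, 0, 0, 0⟩, ⟨-1, 0, 1, 0, 1, 0, -1, 0⟩, ⟨1, -1, 1, -1, -1, 1, 1, -1⟩⟩, ⟨⟨1, 0, 0, 1, -1, 1, 0, 0⟩, ⟨-1, 1, 2, 0, 1, 0, 0, -1⟩, ⟨0, -1, 1, 0, 0, 0, 1, -1⟩⟩),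
  (⟨⟨0, 2, 0, 0, 0, 0, 0, 0⟩, ⟨-1, 1, -1, 1, -1, 1, 1, -1⟩, ⟨-1, 0, -1, 0, 1, 0, 1, 0⟩⟩, ⟨⟨0, 1, 1, 0, 0, 0, 1, -1⟩, ⟨-1, 1, 0, 0, -1, 2, 0, -1⟩, ⟨1, -1, 0, 0, 1, 0, 0, -1⟩⟩),
  (⟨⟨0, 2, 0, 0, 0, 0, 0, 0⟩, ⟨-1, 1, -1, 1, -1, 1, 1, -1⟩, ⟨1, 0, 1, 0, -1, 0, -1, 0⟩⟩, ⟨⟨1, 0, 1, -1, 0, 0, 0, 1⟩, ⟨-1, 0, -1, 1, 0, 0, 0, -1⟩, ⟨1, -1, 1, 0, 0, -1, -2, 0⟩⟩),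
  (⟨⟨0, 2, 0, 0, 0, 0, 0, 0⟩, ⟨-1, 1, -1, 1, 1, -1, -1, 1⟩, ⟨-1, 0, 1, 0, 1, 0, -1, 0⟩⟩, ⟨⟨-1, 2, -1, 0, -1, 0, 1, 0⟩, ⟨0, 0, 0, 0, 0, 0, -2, 0⟩, ⟨-2, 0, 0, 0, 0, 0, 0, 0⟩⟩),
  (⟨⟨0, 2, 0, 0, 0, 0, 0, 0⟩, ⟨-1, 1, -1, 1, 1, -1, -1, 1⟩, ⟨1, 0, -1, 0, -1, 0, 1, 0⟩⟩, ⟨⟨0, 1, 1, 0, 0, 0, -1, 1⟩, ⟨-1, 1, 0, 0, 1, 0, 0, -1⟩, ⟨0, 0, -1, -1, -2, 1, 1, 0⟩⟩),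
  (⟨⟨0, 2, 0, 0, 0, 0, 0, 0⟩, ⟨-1, 1, 1, -1, -1, 1, -1, 1⟩, ⟨-1, 0, 1, 0, -1, 0, 1, 0⟩⟩, ⟨⟨0, 1, 1, 0, 0, 0, -1, 1⟩, ⟨-2, 0, 1, -1, 0, 1, -1, 0⟩, ⟨1, -1, 0, 0, -1, 0, 0, 1⟩⟩),
  (⟨⟨0, 2, 0, 0, 0, 0, 0, 0⟩, ⟨-1, 1, 1, -1, -1, 1, -1, 1⟩, ⟨1, 0, -1, 0, 1, 0, -1, 0⟩⟩, ⟨⟨0, 1, -1, 1, 1, 0, 0, 0⟩, ⟨0, 1, 1, -1, -1, 2, 0, 0⟩, ⟨1, 0, 0, 0, 0, -1, 1, -1⟩⟩),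
  (⟨⟨0, 2, 0, 0, 0, 0, 0, 0⟩, ⟨-1, 1, 1, -1, 1, -1, 1, -1⟩, ⟨-1, 0, -1, 0, -1, 0, -1, 0⟩⟩, ⟨⟨0, 1, 1, -1, 1, 0, 0, 0⟩, ⟨-1, 2, 0, 0, 0, -1, 1, -1⟩, ⟨-1, 0, 0, 0, 0, 1, 1, -1⟩⟩),
  (⟨⟨0, 2, 0, 0, 0, 0, 0, 0⟩, ⟨-1, 1, 1, -1, 1, -1, 1, -1⟩, ⟨1, 0, 1, 0, 1, 0, 1, 0⟩⟩, ⟨⟨0, 1, -1, 0, 0, 0, 1, -1⟩, ⟨0, 1, 1, 0, 0, 0, -1, -1⟩, ⟨1, -1, 0, 0, 1, 0, 2, -1⟩⟩),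
  (⟨⟨0, 2, 0, 0, 0, 0, 0, 0⟩, ⟨1, -1, -1, 1, -1, 1, -1, 1⟩, ⟨-1, 0, -1, 0, -1, 0, -1, 0⟩⟩, ⟨⟨0, 1, -1, 1, -1, 0, 0, 0⟩, ⟨-1, -1, 0, 1, 0, 0, -1, 0⟩, ⟨-1, 0, 0, 0, -2, 1, -1, 1⟩⟩),
  (⟨⟨0, 2, 0, 0, 0, 0, 0, 0⟩, ⟨1, -1, -1, 1, -1, 1, -1, 1⟩, ⟨1, 0, 1, 0, 1, 0, 1, 0⟩⟩, ⟨⟨-1, 2, 1, 0, -1, 0, -1, 0⟩, ⟨0, 0, 0, 0, 0, 0, -2, 0⟩, ⟨0, 0, 0, 0, 2, 0, 0, 0⟩⟩),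
  (⟨⟨0, 2, 0, 0, 0, 0, 0, 0⟩, ⟨1, -1, -1, 1, 1, -1, 1, -1⟩, ⟨-1, 0, 1, 0, -1, 0, 1, 0⟩⟩, ⟨⟨-1, 2, 0, -1, -1, 1, 0, 0⟩, ⟨0, -1, -1, 0, 0, 0, 1, -1⟩, ⟨0, -1, -1, 0, 0, 0, 1, -1⟩⟩),
  (⟨⟨0, 2, 0, 0, 0, 0, 0, 0⟩, ⟨1, -1, -1, 1, 1, -1, 1, -1⟩, ⟨1, 0, -1, 0, 1, 0, -1, 0⟩⟩, ⟨⟨0, 1, 1, 0, 0, 0, -1, 1⟩, ⟨2, 0, -1, 1, 0, -1, 1, 0⟩, ⟨-1, 1, 0, 0, 1, 0, 0, -1⟩⟩),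
  (⟨⟨0, 2, 0, 0, 0, 0, 0, 0⟩, ⟨1, -1, 1, -1, -1, 1, 1, -1⟩, ⟨-1, 0, 1, 0, 1, 0, -1, 0⟩⟩, ⟨⟨0, 1, 0, 0, 1, -1, 1, 0⟩, ⟨0, 0, 0, -1, -1, 0, 1, -1⟩, ⟨-2, 0, 0, 1, -1, 0, -1, 1⟩⟩),
  (⟨⟨0, 2, 0, 0, 0, 0, 0, 0⟩, ⟨1, -1, 1, -1, -1, 1, 1, -1⟩, ⟨1, 0, -1, 0, -1, 0, 1, 0⟩⟩, ⟨⟨0, 1, 0, 0, -1, 1, -1, 0⟩, ⟨1, 0, -1, -1, 0, 0, 0, -1⟩, ⟨1, -1, -1, 0, -2, 1, 0, 0⟩⟩),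
  (⟨⟨0, 2, 0, 0, 0, 0, 0, 0⟩, ⟨1, -1, 1, -1, 1, -1, -1, 1⟩, ⟨-1, 0, -1, 0, 1, 0, 1, 0⟩⟩, ⟨⟨0, 1, -1, 1, -1, 0, 0, 0⟩, ⟨1, 0, 0, 0, 0, 1, -1, 1⟩, ⟨-1, -1, -2, 1, 0, 0, 1, 0⟩⟩),
  (⟨⟨0, 2, 0, 0, 0, 0, 0, 0⟩, ⟨1, -1, 1, -1, 1, -1, -1, 1⟩, ⟨1, 0, 1, 0, -1, 0, -1, 0⟩⟩, ⟨⟨1, 1, -2, 1, 0, 0, 1, 0⟩, ⟨1, -1, 0, -1, 0, 0, -1, 0⟩, ⟨1, -1, 0, -1, 0, 0, -1, 0⟩⟩),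
  (⟨⟨0, 2, 0, 0, 0, 0, 0, 0⟩, ⟨1, 0, -1, 0, -1, 0, 1, 0⟩, ⟨-1, 1, -1, 1, 1, -1, -1, 1⟩⟩, ⟨⟨0, 1, 0, 0, 1, -1, 1, 0⟩, ⟨2, -1, 0, 0, -1, 1, 1, 0⟩, ⟨0, 1, 0, 0, -1, -1, -1, 0⟩⟩),
  (⟨⟨0, 2, 0, 0, 0, 0, 0, 0⟩, ⟨1, 0, -1, 0, -1, 0, 1, 0⟩, ⟨1, -1, 1, -1, -1, 1, 1, -1⟩⟩, ⟨⟨-1, 1, -2, 1, 0, 0, 1, 0⟩, ⟨0, 1, -1, -1, -1, 0, 0, 0⟩, ⟨1, -1, 0, -1, 0, 0, 1, 0⟩⟩),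
  (⟨⟨0, 2, 0, 0, 0, 0, 0, 0⟩, ⟨1, 0, -1, 0, 1, 0, -1, 0⟩, ⟨-1, 1, 1, -1, -1, 1, -1, 1⟩⟩, ⟨⟨-1, 2, 0, -1, -1, 1, 0, 0⟩, ⟨0, 1, 1, 0, 0, 0, -1, 1⟩, ⟨0, 1, 1, 0, 0, 0, -1, 1⟩⟩),
  (⟨⟨0, 2, 0, 0, 0, 0, 0, 0⟩, ⟨1, 0, -1, 0, 1, 0, -1, 0⟩, ⟨1, -1, -1, 1, 1, -1, 1, -1⟩⟩, ⟨⟨-1, 1, -2, 1, 0, 0, -1, 0⟩, ⟨0, 1, -1, -1, 1, 0, 0, 0⟩, ⟨0, -1, -1, 1, 1, 0, 0, 0⟩⟩),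
  (⟨⟨0, 2, 0, 0, 0, 0, 0, 0⟩, ⟨1, 0, 1, 0, -1, 0, -1, 0⟩, ⟨-1, 1, -1, 1, -1, 1, 1, -1⟩⟩, ⟨⟨0, 1, 1, -1, 1, 0, 0, 0⟩, ⟨-1, 0, 2, 0, 0, -1, -1, 1⟩, ⟨-1, 0, 0, 0, 0, 1, 1, -1⟩⟩),
  (⟨⟨0, 2, 0, 0, 0, 0, 0, 0⟩, ⟨1, 0, 1, 0, -1, 0, -1, 0⟩, ⟨1, -1, 1, -1, 1, -1, -1, 1⟩⟩, ⟨⟨1, 1, -2, 1, 0, 0, 1, 0⟩, ⟨1, -1, 0, -1, 0, 0, -1, 0⟩, ⟨1, -1, 0, -1, 0, 0, -1, 0⟩⟩),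
  (⟨⟨0, 2, 0, 0, 0, 0, 0, 0⟩, ⟨1, 0, 1, 0, 1, 0, 1, 0⟩, ⟨-1, 1, 1, -1, 1, -1, 1, -1⟩⟩, ⟨⟨0, 1, -1, 0, 0, 0, -1, 1⟩, ⟨1, 0, 0, 1, -1, 1, 0, 0⟩, ⟨-1, 1, 2, 0, 1, 0, 0, -1⟩⟩),
  (⟨⟨0, 2, 0, 0, 0, 0, 0, 0⟩, ⟨1, 0, 1, 0, 1, 0, 1, 0⟩, ⟨1, -1, -1, 1, -1, 1, -1, 1⟩⟩, ⟨⟨-1, 2, 0, 0, 0, -1, 1, -1⟩, ⟨-1, 0, 0, 0, 0, 1, 1, -1⟩, ⟨0, -1, -1, 1, -1, 0, 0, 0⟩⟩),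
  (⟨⟨2, 0, 0, 0, 0, 0, 0, 0⟩, ⟨-2, 0, 0, 0, 0, 0, 0, 0⟩, ⟨-1, 0, -1, 0, 1, 0, -1, 2⟩⟩, ⟨⟨0, 0, -1, 1, 0, 1, -1, 0⟩, ⟨-1, 0, 0, -1, -1, 1, 0, 0⟩, ⟨0, -1, -1, 0, 2, 0, -1, 1⟩⟩),
  (⟨⟨2, 0, 0, 0, 0, 0, 0, 0⟩, ⟨-2, 0, 0, 0, 0, 0, 0, 0⟩, ⟨-1, 0, -1, 2, -1, 0, 1, 0⟩⟩, ⟨⟨1, -1, 0, -1, 0, 0, 1, 0⟩, ⟨-1, -1, 2, -1, 0, 0, 1, 0⟩, ⟨0, -1, -1, 1, -1, 0, 0, 0⟩⟩),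
  (⟨⟨2, 0, 0, 0, 0, 0, 0, 0⟩, ⟨-2, 0, 0, 0, 0, 0, 0, 0⟩, ⟨-1, 0, 1, 0, -1, 2, -1, 0⟩⟩, ⟨⟨1, 0, 1, 0, 1, 0, -1, 2⟩, ⟨-2, 0, 0, 0, 0, 0, 0, 0⟩, ⟨0, 0, 2, 0, 0, 0, 0, 0⟩⟩),
  (⟨⟨2, 0, 0, 0, 0, 0, 0, 0⟩, ⟨-2, 0, 0, 0, 0, 0, 0, 0⟩, ⟨-1, 2, 1, 0, 1, 0, 1, 0⟩⟩, ⟨⟨0, 1, 0, 0, 1, -1, 1, 0⟩, ⟨-2, 1, 0, 0, -1, -1, 1, 0⟩, ⟨0, 1, 0, 0, 1, -1, 1, 0⟩⟩),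
  (⟨⟨2, 0, 0, 0, 0, 0, 0, 0⟩, ⟨-2, 0, 0, 0, 0, 0, 0, 0⟩, ⟨1, -2, -1, 0, -1, 0, -1, 0⟩⟩, ⟨⟨0, 0, 1, -1, 0, -1, 1, 0⟩, ⟨-1, 0, 0, -1, -1, 1, 0, 0⟩, ⟨0, -1, -1, 0, -2, 0, -1, 1⟩⟩),
  (⟨⟨2, 0, 0, 0, 0, 0, 0, 0⟩, ⟨-2, 0, 0, 0, 0, 0, 0, 0⟩, ⟨1, 0, -1, 0, 1, -2, 1, 0⟩⟩, ⟨⟨0, 0, 0, 0, 0, 0, 0, 0⟩, ⟨-1, 0, 1, 0, 1, 0, -1, 2⟩, ⟨1, 0, 1, 0, 1, -2, 1, 0⟩⟩),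
  (⟨⟨2, 0, 0, 0, 0, 0, 0, 0⟩, ⟨-2, 0, 0, 0, 0, 0, 0, 0⟩, ⟨1, 0, 1, -2, 1, 0, -1, 0⟩⟩, ⟨⟨1, -1, 0, 1, 0, 0, -1, 0⟩, ⟨0, -1, 1, -1, -1, 0, 0, 0⟩, ⟨0, 0, 1, -2, 1, -1, 0, -1⟩⟩),
  (⟨⟨2, 0, 0, 0, 0, 0, 0, 0⟩, ⟨-2, 0, 0, 0, 0, 0, 0, 0⟩, ⟨1, 0, 1, 0, -1, 0, 1, -2⟩⟩, ⟨⟨0, 1, -1, 0, 0, 0, -1, -1⟩, ⟨-2, 1, -1, 0, 0, 0, 1, -1⟩, ⟨0, 1, 1, 0, 0, 0, 1, -1⟩⟩),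
  (⟨⟨2, 0, 0, 0, 0, 0, 0, 0⟩, ⟨-1, 0, -1, 0, -1, 0, 1, -2⟩, ⟨0, 0, -2, 0, 0, 0, 0, 0⟩⟩, ⟨⟨2, -1, -1, 1, 1, 0, 0, 0⟩, ⟨0, -1, -1, 1, -1, 0, 0, 0⟩, ⟨0, 1, -1, -1, -1, 0, 0, 0⟩⟩),
  (⟨⟨2, 0, 0, 0, 0, 0, 0, 0⟩, ⟨-1, 0, -1, 0, -1, 0, 1, -2⟩, ⟨0, 0, 2, 0, 0, 0, 0, 0⟩⟩, ⟨⟨1, 0, 1, -1, 0, 0, 0, 1⟩, ⟨-1, 0, -1, 1, 0, 0, 0, -1⟩, ⟨1, -1, 1, 0, 0, -1, -2, 0⟩⟩),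
  (⟨⟨2, 0, 0, 0, 0, 0, 0, 0⟩, ⟨-1, 0, -1, 0, -1, 2, 1, 0⟩, ⟨0, 0, 0, 0, -2, 0, 0, 0⟩⟩, ⟨⟨0, 0, -2, 0, 0, 0, 0, 0⟩, ⟨-1, 0, -1, 0, -1, 2, 1, 0⟩, ⟨0, 0, 0, 0, 0, 0, -2, 0⟩⟩),
  (⟨⟨2, 0, 0, 0, 0, 0, 0, 0⟩, ⟨-1, 0, -1, 0, -1, 2, 1, 0⟩, ⟨0, 0, 0, 0, 2, 0, 0, 0⟩⟩, ⟨⟨2, -1, -1, 0, 0, 0, -1, 1⟩, ⟨-1, 0, 0, -1, -1, 1, 0, 0⟩, ⟨0, 0, 1, 1, 0, 1, 1, 0⟩⟩),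
  (⟨⟨2, 0, 0, 0, 0, 0, 0, 0⟩, ⟨-1, 0, -1, 0, 1, -2, -1, 0⟩, ⟨0, 0, 0, 0, 0, 0, -2, 0⟩⟩, ⟨⟨0, 0, 0, 0, 0, 0, 0, 0⟩, ⟨0, 0, 0, 0, 0, 0, 0, 0⟩, ⟨0, 0, 0, 0, 0, 0, -4, 0⟩⟩),
  (⟨⟨2, 0, 0, 0, 0, 0, 0, 0⟩, ⟨-1, 0, -1, 0, 1, -2, -1, 0⟩, ⟨0, 0, 0, 0, 0, 0, 2, 0⟩⟩, ⟨⟨1, -1, 1, 0, 0, -1, 0, 0⟩, ⟨0, 0, 0, -1, 1, -2, -1, 1⟩, ⟨-1, 0, 1, -1, 0, 0, 0, 1⟩⟩),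
  (⟨⟨2, 0, 0, 0, 0, 0, 0, 0⟩, ⟨-1, 0, -1, 0, 1, 0, -1, 2⟩, ⟨-2, 0, 0, 0, 0, 0, 0, 0⟩⟩, ⟨⟨0, 0, 1, -1, 0, -1, 1, 0⟩, ⟨-1, 1, 0, 0, 1, 0, 0, 1⟩, ⟨-2, 0, 1, -1, 0, -1, -1, 0⟩⟩),
  (⟨⟨2, 0, 0, 0, 0, 0, 0, 0⟩, ⟨-1, 0, -1, 0, 1, 0, -1, 2⟩, ⟨2, 0, 0, 0, 0, 0, 0, 0⟩⟩, ⟨⟨1, 0, 1, 0, 1, 0, -1, 0⟩, ⟨0, 0, 0, 0, 0, 0, -2, 2⟩, ⟨0, 1, 0, -1, 0, -1, 0, 1⟩⟩),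
  (⟨⟨2, 0, 0, 0, 0, 0, 0, 0⟩, ⟨-1, 0, -1, 2, -1, 0, 1, 0⟩, ⟨-2, 0, 0, 0, 0, 0, 0, 0⟩⟩, ⟨⟨0, 0, -2, 0, 0, 0, 0, 0⟩, ⟨-1, 0, -1, 2, -1, 0, 1, 0⟩, ⟨0, 0, -2, 0, 0, 0, 0, 0⟩⟩),
  (⟨⟨2, 0, 0, 0, 0, 0, 0, 0⟩, ⟨-1, 0, -1, 2, -1, 0, 1, 0⟩, ⟨2, 0, 0, 0, 0, 0, 0, 0⟩⟩, ⟨⟨1, 0, -1, 0, 1, 0, 1, 0⟩, ⟨0, 0, -2, 2, 0, 0, 0, 0⟩, ⟨0, 1, 0, 1, 0, -1, 0, -1⟩⟩),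
  (⟨⟨2, 0, 0, 0, 0, 0, 0, 0⟩, ⟨-1, 0, -1, 2, 1, 0, -1, 0⟩, ⟨0, 0, -2, 0, 0, 0, 0, 0⟩⟩, ⟨⟨0, 0, 0, 0, 0, 0, 0, 0⟩, ⟨1, 0, -1, 2, 1, 0, -1, 0⟩, ⟨-1, 2, -1, 0, 1, 0, 1, 0⟩⟩),
  (⟨⟨2, 0, 0, 0, 0, 0, 0, 0⟩, ⟨-1, 0, -1, 2, 1, 0, -1, 0⟩, ⟨0, 0, 2, 0, 0, 0, 0, 0⟩⟩, ⟨⟨-2, 0, 0, 0, 0, 0, 0, 0⟩, ⟨-1, 0, -1, 2, 1, 0, -1, 0⟩, ⟨0, 0, 2, 0, 0, 0, 0, 0⟩⟩),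
  (⟨⟨2, 0, 0, 0, 0, 0, 0, 0⟩, ⟨-1, 0, 1, -2, -1, 0, -1, 0⟩, ⟨0, 0, 0, 0, -2, 0, 0, 0⟩⟩, ⟨⟨2, 0, 0, -1, 1, 0, 1, -1⟩, ⟨0, 0, 0, -1, -1, 0, 1, -1⟩, ⟨0, -1, 0, 0, -1, 1, -1, 0⟩⟩),
  (⟨⟨2, 0, 0, 0, 0, 0, 0, 0⟩, ⟨-1, 0, 1, -2, -1, 0, -1, 0⟩, ⟨0, 0, 0, 0, 2, 0, 0, 0⟩⟩, ⟨⟨0, 0, 0, 0, 0, 0, 0, 0⟩, ⟨-1, 0, 1, -2, 1, 0, -1, 0⟩, ⟨-1, 0, 1, -2, 1, 0, -1, 0⟩⟩),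
  (⟨⟨2, 0, 0, 0, 0, 0, 0, 0⟩, ⟨-1, 0, 1, -2, 1, 0, 1, 0⟩, ⟨0, 0, 0, 0, 0, 0, -2, 0⟩⟩, ⟨⟨0, 0, 0, 0, 0, 0, 0, 0⟩, ⟨0, 0, 0, 0, 0, 0, 0, 0⟩, ⟨0, 0, 0, 0, 0, 0, -4, 0⟩⟩),
  (⟨⟨2, 0, 0, 0, 0, 0, 0, 0⟩, ⟨-1, 0, 1, -2, 1, 0, 1, 0⟩, ⟨0, 0, 0, 0, 0, 0, 2, 0⟩⟩, ⟨⟨2, 0, 0, -1, -1, 0, 1, -1⟩, ⟨1, 0, 1, -1, 0, 0, 0, 1⟩, ⟨0, -1, 0, 0, -1, 1, 1, 0⟩⟩),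
  (⟨⟨2, 0, 0, 0, 0, 0, 0, 0⟩, ⟨-1, 0, 1, 0, -1, 0, -1, 2⟩, ⟨0, 0, 0, 0, 0, 0, -2, 0⟩⟩, ⟨⟨1, -1, 0, -1, 0, 0, -1, 0⟩, ⟨-1, 0, 0, 0, 0, -1, -1, 1⟩, ⟨1, 0, 0, 0, -2, 1, -1, -1⟩⟩),
  (⟨⟨2, 0, 0, 0, 0, 0, 0, 0⟩, ⟨-1, 0, 1, 0, -1, 0, -1, 2⟩, ⟨0, 0, 0, 0, 0, 0, 2, 0⟩⟩, ⟨⟨0, 0, 0, 0, 0, 0, 0, 0⟩, ⟨-1, 0, 1, 0, 1, 0, -1, 2⟩, ⟨1, 0, 1, 0, 1, -2, 1, 0⟩⟩),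
  (⟨⟨2, 0, 0, 0, 0, 0, 0, 0⟩, ⟨-1, 0, 1, 0, -1, 2, -1, 0⟩, ⟨-2, 0, 0, 0, 0, 0, 0, 0⟩⟩, ⟨⟨1, -1, 1, 0, 0, 1, 0, 0⟩, ⟨1, -1, 1, 0, 0, 1, 0, 0⟩, ⟨-2, 0, 0, 1, 1, 0, 1, -1⟩⟩),
  (⟨⟨2, 0, 0, 0, 0, 0, 0, 0⟩, ⟨-1, 0, 1, 0, -1, 2, -1, 0⟩, ⟨2, 0, 0, 0, 0, 0, 0, 0⟩⟩, ⟨⟨0, 1, 1, 0, 0, 0, 1, -1⟩, ⟨-1, 1, 0, 0, -1, 2, 0, -1⟩, ⟨1, -1, 0, 0, 1, 0, 0, -1⟩⟩),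
  (⟨⟨2, 0, 0, 0, 0, 0, 0, 0⟩, ⟨-1, 0, 1, 0, 1, -2, 1, 0⟩, ⟨0, 0, -2, 0, 0, 0, 0, 0⟩⟩, ⟨⟨1, -1, 0, 0, 1, 0, 2, -1⟩, ⟨0, 0, 1, -1, 0, -1, 1, 0⟩, ⟨0, 0, -1, -1, 0, -1, -1, 0⟩⟩),
  (⟨⟨2, 0, 0, 0, 0, 0, 0, 0⟩, ⟨-1, 0, 1, 0, 1, -2, 1, 0⟩, ⟨0, 0, 2, 0, 0, 0, 0, 0⟩⟩, ⟨⟨1, 0, -1, 0, -1, 2, -1, 0⟩, ⟨-2, 0, 0, 0, 0, 0, 0, 0⟩, ⟨0, 0, 2, 0, 0, 0, 0, 0⟩⟩),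
  (⟨⟨2, 0, 0, 0, 0, 0, 0, 0⟩, ⟨-1, 0, 1, 0, 1, 0, 1, -2⟩, ⟨0, 0, 0, 0, -2, 0, 0, 0⟩⟩, ⟨⟨0, 1, 0, 1, 0, -1, 0, -1⟩, ⟨0, 0, 0, 0, 0, 0, 2, -2⟩, ⟨1, 0, 1, 0, -1, 0, 1, 0⟩⟩),
  (⟨⟨2, 0, 0, 0, 0, 0, 0, 0⟩, ⟨-1, 0, 1, 0, 1, 0, 1, -2⟩, ⟨0, 0, 0, 0, 2, 0, 0, 0⟩⟩, ⟨⟨1, -1, 1, 0, 0, -1, 0, 0⟩, ⟨0, -1, 0, 0, 1, -1, 1, -2⟩, ⟨-1, 1, -1, 0, 0, 1, 0, 0⟩⟩),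
  (⟨⟨2, 0, 0, 0, 0, 0, 0, 0⟩, ⟨-1, 1, -1, 1, -1, 1, -1, 1⟩, ⟨0, -1, 0, 1, 0, 1, 0, 1⟩⟩, ⟨⟨2, -1, 0, 0, 1, -1, 1, 0⟩, ⟨0, 1, 0, 0, 1, 1, -1, 0⟩, ⟨-1, 0, -1, 1, 0, 0, 0, 1⟩⟩),
  (⟨⟨2, 0, 0, 0, 0, 0, 0, 0⟩, ⟨-1, 1, -1, 1, -1, 1, -1, 1⟩, ⟨0, 1, 0, -1, 0, -1, 0, -1⟩⟩, ⟨⟨0, 0, -1, 0, -1, 1, 0, -1⟩, ⟨0, 0, -1, 2, -1, 1, 0, 1⟩, ⟨1, 0, 0, 0, 0, -1, 1, -1⟩⟩),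
  (⟨⟨2, 0, 0, 0, 0, 0, 0, 0⟩, ⟨-1, 1, -1, 1, 1, -1, 1, -1⟩, ⟨0, -1, 0, -1, 0, -1, 0, 1⟩⟩, ⟨⟨0, 0, 0, -1, -1, 0, 1, -1⟩, ⟨0, 1, 0, 0, 1, -1, 1, 0⟩, ⟨0, 0, 0, -1, 1, -2, -1, 1⟩⟩),
  (⟨⟨2, 0, 0, 0, 0, 0, 0, 0⟩, ⟨-1, 1, -1, 1, 1, -1, 1, -1⟩, ⟨0, 1, 0, 1, 0, 1, 0, -1⟩⟩, ⟨⟨1, 0, 2, -1, -1, -1, 0, 0⟩, ⟨-1, 1, 0, 0, 1, 0, 0, -1⟩, ⟨-1, 1, 0, 0, 1, 0, 0, -1⟩⟩),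
  (⟨⟨2, 0, 0, 0, 0, 0, 0, 0⟩, ⟨-1, 1, 1, -1, -1, 1, 1, -1⟩, ⟨0, -1, 0, 1, 0, -1, 0, -1⟩⟩, ⟨⟨1, 0, -2, 1, -1, -1, 0, 0⟩, ⟨-1, 0, 0, -1, -1, 1, 0, 0⟩, ⟨1, -1, 0, 0, -1, 0, 0, -1⟩⟩),
  (⟨⟨2, 0, 0, 0, 0, 0, 0, 0⟩, ⟨-1, 1, 1, -1, -1, 1, 1, -1⟩, ⟨0, 1, 0, -1, 0, 1, 0, 1⟩⟩, ⟨⟨1, 0, -1, 0, 1, 0, 1, 0⟩, ⟨0, 1, 0, -1, 0, 1, 0, -1⟩, ⟨-2, 2, 0, 0, 0, 0, 0, 0⟩⟩),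
  (⟨⟨2, 0, 0, 0, 0, 0, 0, 0⟩, ⟨-1, 1, 1, -1, 1, -1, -1, 1⟩, ⟨0, -1, 0, -1, 0, 1, 0, -1⟩⟩, ⟨⟨0, 1, 1, -1, 1, 0, 0, 0⟩, ⟨-1, 0, 2, 0, 0, -1, -1, 1⟩, ⟨-1, 0, 0, 0, 0, 1, 1, -1⟩⟩),
  (⟨⟨2, 0, 0, 0, 0, 0, 0, 0⟩, ⟨-1, 1, 1, -1, 1, -1, -1, 1⟩, ⟨0, 1, 0, 1, 0, -1, 0, 1⟩⟩, ⟨⟨0, 0, 0, 0, 0, 0, 0, 0⟩, ⟨-1, 0, 1, 0, 1, 0, -1, 2⟩, ⟨1, 0, 1, 0, 1, -2, 1, 0⟩⟩),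
  (⟨⟨2, 0, 0, 0, 0, 0, 0, 0⟩, ⟨-1, 2, -1, 0, -1, 0, 1, 0⟩, ⟨0, 0, 0, 0, 0, 0, -2, 0⟩⟩, ⟨⟨0, 0, 0, 0, 0, 0, 0, 0⟩, ⟨0, 0, 0, 0, 0, 0, 0, 0⟩, ⟨0, 0, 0, 0, 0, 0, -4, 0⟩⟩),
  (⟨⟨2, 0, 0, 0, 0, 0, 0, 0⟩, ⟨-1, 2, -1, 0, -1, 0, 1, 0⟩, ⟨0, 0, 0, 0, 0, 0, 2, 0⟩⟩, ⟨⟨0, 1, 1, -1, 1, 0, 0, 0⟩, ⟨-1, 2, 0, 0, 0, -1, 1, -1⟩, ⟨-1, 0, 0, 0, 0, 1, 1, -1⟩⟩),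
  (⟨⟨2, 0, 0, 0, 0, 0, 0, 0⟩, ⟨-1, 2, -1, 0, 1, 0, -1, 0⟩, ⟨0, 0, 0, 0, -2, 0, 0, 0⟩⟩, ⟨⟨2, -1, 0, 0, 1, -1, 1, 0⟩, ⟨0, 1, 0, 0, 1, 1, -1, 0⟩, ⟨-1, 0, -1, 1, 0, 0, 0, 1⟩⟩),
  (⟨⟨2, 0, 0, 0, 0, 0, 0, 0⟩, ⟨-1, 2, -1, 0, 1, 0, -1, 0⟩, ⟨0, 0, 0, 0, 2, 0, 0, 0⟩⟩, ⟨⟨1, -1, 0, -1, 0, 0, -1, 0⟩, ⟨-1, 2, 0, 0, 0, 1, -1, 1⟩, ⟨1, 0, 0, 0, 0, 1, 1, -1⟩⟩),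
  (⟨⟨2, 0, 0, 0, 0, 0, 0, 0⟩, ⟨-1, 2, 1, 0, -1, 0, -1, 0⟩, ⟨0, 0, -2, 0, 0, 0, 0, 0⟩⟩, ⟨⟨0, 0, -2, 0, 0, 0, 0, 0⟩, ⟨-1, 2, 1, 0, -1, 0, -1, 0⟩, ⟨2, 0, 0, 0, 0, 0, 0, 0⟩⟩),
  (⟨⟨2, 0, 0, 0, 0, 0, 0, 0⟩, ⟨-1, 2, 1, 0, -1, 0, -1, 0⟩, ⟨0, 0, 2, 0, 0, 0, 0, 0⟩⟩, ⟨⟨1, 0, -1, 0, 1, 0, 1, 0⟩, ⟨-1, 0, 1, 0, -1, 0, -1, 0⟩, ⟨-1, 1, 1, 1, -1, 1, 1, -1⟩⟩),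
  (⟨⟨2, 0, 0, 0, 0, 0, 0, 0⟩, ⟨-1, 2, 1, 0, 1, 0, 1, 0⟩, ⟨-2, 0, 0, 0, 0, 0, 0, 0⟩⟩, ⟨⟨0, 1, 1, -1, 1, 0, 0, 0⟩, ⟨0, 1, 1, -1, 1, 0, 0, 0⟩, ⟨-2, 1, -1, -1, 1, 0, 0, 0⟩⟩),
  (⟨⟨2, 0, 0, 0, 0, 0, 0, 0⟩, ⟨-1, 2, 1, 0, 1, 0, 1, 0⟩, ⟨2, 0, 0, 0, 0, 0, 0, 0⟩⟩, ⟨⟨2, -1, -1, 0, 0, 0, -1, 1⟩, ⟨-1, 1, 0, 0, 1, 0, 0, 1⟩, ⟨0, 1, 1, 0, 0, 0, -1, -1⟩⟩),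
  (⟨⟨2, 0, 0, 0, 0, 0, 0, 0⟩, ⟨0, -1, 0, -1, 0, -1, 0, 1⟩, ⟨-1, 1, -1, 1, 1, -1, 1, -1⟩⟩, ⟨⟨1, -1, -1, 1, 1, -1, -1, 1⟩, ⟨0, -1, 0, -1, 0, -1, 0, 1⟩, ⟨0, 0, -2, 0, 0, 0, 0, 0⟩⟩),
  (⟨⟨2, 0, 0, 0, 0, 0, 0, 0⟩, ⟨0, -1, 0, -1, 0, -1, 0, 1⟩, ⟨1, -1, 1, -1, -1, 1, -1, 1⟩⟩, ⟨⟨1, 0, 1, 0, -1, 0, 1, 0⟩, ⟨-1, 0, -1, 0, -1, 0, 1, 0⟩, ⟨1, -1, 1, 1, -1, 1, -1, 1⟩⟩),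
  (⟨⟨2, 0, 0, 0, 0, 0, 0, 0⟩, ⟨0, -1, 0, -1, 0, 1, 0, -1⟩, ⟨-1, 1, 1, -1, 1, -1, -1, 1⟩⟩, ⟨⟨0, 1, -1, 1, 1, 0, 0, 0⟩, ⟨0, 0, -1, 0, -1, 1, 0, -1⟩, ⟨-1, 1, 0, -1, 2, 0, -1, 0⟩⟩),
  (⟨⟨2, 0, 0, 0, 0, 0, 0, 0⟩, ⟨0, -1, 0, -1, 0, 1, 0, -1⟩, ⟨1, -1, -1, 1, -1, 1, 1, -1⟩⟩, ⟨⟨1, 0, -2, 1, -1, -1, 0, 0⟩, ⟨-1, 0, 0, -1, -1, 1, 0, 0⟩, ⟨1, -1, 0, 0, -1, 0, 0, -1⟩⟩),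
  (⟨⟨2, 0, 0, 0, 0, 0, 0, 0⟩, ⟨0, -1, 0, 1, 0, -1, 0, -1⟩, ⟨-1, 1, 1, -1, -1, 1, 1, -1⟩⟩, ⟨⟨1, 0, -1, 0, 1, 0, 1, 0⟩, ⟨-1, 0, 1, 0, -1, 0, -1, 0⟩, ⟨-1, 1, 1, 1, -1, 1, 1, -1⟩⟩),
  (⟨⟨2, 0, 0, 0, 0, 0, 0, 0⟩, ⟨0, -1, 0, 1, 0, -1, 0, -1⟩, ⟨1, -1, -1, 1, 1, -1, -1, 1⟩⟩, ⟨⟨1, -1, 1, 0, 0, -1, 0, 0⟩, ⟨-1, 0, -1, 1, -2, 0, 0, -1⟩, ⟨0, 0, 0, 1, 1, 0, -1, 1⟩⟩),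
  (⟨⟨2, 0, 0, 0, 0, 0, 0, 0⟩, ⟨0, -1, 0, 1, 0, 1, 0, 1⟩, ⟨-1, 1, -1, 1, -1, 1, -1, 1⟩⟩, ⟨⟨0, 0, 0, 0, 0, 0, 0, 0⟩, ⟨1, -2, 1, 0, 1, 0, 1, 0⟩, ⟨-1, 2, -1, 0, -1, 0, -1, 0⟩⟩),
  (⟨⟨2, 0, 0, 0, 0, 0, 0, 0⟩, ⟨0, -1, 0, 1, 0, 1, 0, 1⟩, ⟨1, -1, 1, -1, 1, -1, 1, -1⟩⟩, ⟨⟨0, 0, 0, 0, 0, 0, 0, 0⟩, ⟨-1, 0, 1, 0, 1, 0, -1, 2⟩, ⟨1, 0, 1, 0, 1, -2, 1, 0⟩⟩),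
  (⟨⟨2, 0, 0, 0, 0, 0, 0, 0⟩, ⟨0, 0, -2, 0, 0, 0, 0, 0⟩, ⟨-1, 0, -1, 0, -1, 0, 1, -2⟩⟩, ⟨⟨1, 0, -1, 0, 1, 0, -1, 0⟩, ⟨0, 0, 0, -2, 0, 0, 0, 0⟩, ⟨-1, 1, -1, 1, -1, 1, 1, -1⟩⟩),
  (⟨⟨2, 0, 0, 0, 0, 0, 0, 0⟩, ⟨0, 0, -2, 0, 0, 0, 0, 0⟩, ⟨-1, 0, -1, 2, 1, 0, -1, 0⟩⟩, ⟨⟨0, 0, 1, 0, -1, 1, 0, -1⟩, ⟨0, -1, -1, -1, -1, 0, 0, 0⟩, ⟨-2, 1, -1, 1, 1, 0, 0, 0⟩⟩),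
  (⟨⟨2, 0, 0, 0, 0, 0, 0, 0⟩, ⟨0, 0, -2, 0, 0, 0, 0, 0⟩, ⟨-1, 0, 1, 0, 1, -2, 1, 0⟩⟩, ⟨⟨0, 1, 1, 0, 0, 0, -1, 1⟩, ⟨0, 0, -1, 1, 0, -1, -1, 0⟩, ⟨-1, 1, 0, 0, 1, -2, 0, 1⟩⟩),
  (⟨⟨2, 0, 0, 0, 0, 0, 0, 0⟩, ⟨0, 0, -2, 0, 0, 0, 0, 0⟩, ⟨-1, 2, 1, 0, -1, 0, -1, 0⟩⟩, ⟨⟨0, 1, 1, 0, 0, 0, -1, 1⟩, ⟨-1, 0, -2, 1, 1, 1, 0, 0⟩, ⟨0, 1, 1, 0, 0, 0, -1, 1⟩⟩),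
  (⟨⟨2, 0, 0, 0, 0, 0, 0, 0⟩, ⟨0, 0, -2, 0, 0, 0, 0, 0⟩, ⟨1, -2, -1, 0, 1, 0, 1, 0⟩⟩, ⟨⟨0, 0, 0, 0, 0, 0, -2, 0⟩, ⟨0, 0, 0, 0, -2, 0, 0, 0⟩, ⟨1, -2, -1, 0, 1, 0, 1, 0⟩⟩),
  (⟨⟨2, 0, 0, 0, 0, 0, 0, 0⟩, ⟨0, 0, -2, 0, 0, 0, 0, 0⟩, ⟨1, 0, -1, 0, -1, 2, -1, 0⟩⟩, ⟨⟨1, 0, 1, -1, 0, 0, 0, -1⟩, ⟨0, -1, -2, 0, 1, -1, 1, 0⟩, ⟨0, 1, 0, 0, -1, 1, 1, 0⟩⟩),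
  (⟨⟨2, 0, 0, 0, 0, 0, 0, 0⟩, ⟨0, 0, -2, 0, 0, 0, 0, 0⟩, ⟨1, 0, 1, -2, -1, 0, 1, 0⟩⟩, ⟨⟨0, 0, 0, 0, 0, 0, 2, 0⟩, ⟨0, 0, 0, 0, 2, 0, 0, 0⟩, ⟨1, 0, 1, -2, -1, 0, 1, 0⟩⟩),
  (⟨⟨2, 0, 0, 0, 0, 0, 0, 0⟩, ⟨0, 0, -2, 0, 0, 0, 0, 0⟩, ⟨1, 0, 1, 0, 1, 0, -1, 2⟩⟩, ⟨⟨0, 1, 1, 1, 1, 0, 0, 0⟩, ⟨1, -1, -2, 1, 0, 0, -1, 0⟩, ⟨1, 0, 0, 0, 0, 1, -1, 1⟩⟩),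
  (⟨⟨2, 0, 0, 0, 0, 0, 0, 0⟩, ⟨0, 0, 0, 0, -2, 0, 0, 0⟩, ⟨-1, 0, -1, 0, -1, 2, 1, 0⟩⟩, ⟨⟨0, 0, 1, 0, 1, -1, 0, -1⟩, ⟨0, 1, 1, -1, -1, 0, 0, 0⟩, ⟨-1, 0, -2, 0, 0, 1, 1, -1⟩⟩),
  (⟨⟨2, 0, 0, 0, 0, 0, 0, 0⟩, ⟨0, 0, 0, 0, -2, 0, 0, 0⟩, ⟨-1, 0, 1, -2, -1, 0, -1, 0⟩⟩, ⟨⟨1, -1, 0, -1, 0, 0, -1, 0⟩, ⟨-1, 1, 0, 1, -2, 0, -1, 0⟩, ⟨1, -1, 0, -1, 0, 0, -1, 0⟩⟩),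
  (⟨⟨2, 0, 0, 0, 0, 0, 0, 0⟩, ⟨0, 0, 0, 0, -2, 0, 0, 0⟩, ⟨-1, 0, 1, 0, 1, 0, 1, -2⟩⟩, ⟨⟨2, 0, 0, -1, -1, 0, -1, 1⟩, ⟨-1, 0, 1, -1, 0, 0, 0, -1⟩, ⟨-1, 0, 1, -1, 0, 0, 0, -1⟩⟩),
  (⟨⟨2, 0, 0, 0, 0, 0, 0, 0⟩, ⟨0, 0, 0, 0, -2, 0, 0, 0⟩, ⟨-1, 2, -1, 0, 1, 0, -1, 0⟩⟩, ⟨⟨-2, 0, 0, 0, 0, 0, 0, 0⟩, ⟨0, 0, 0, 0, -2, 0, 0, 0⟩, ⟨-1, 2, -1, 0, 1, 0, -1, 0⟩⟩),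
  (⟨⟨2, 0, 0, 0, 0, 0, 0, 0⟩, ⟨0, 0, 0, 0, -2, 0, 0, 0⟩, ⟨1, -2, 1, 0, -1, 0, 1, 0⟩⟩, ⟨⟨0, 0, 0, -1, -1, 0, -1, 1⟩, ⟨1, -1, 1, 0, -2, 1, 0, 0⟩, ⟨0, -1, 0, 0, -1, -1, 1, 0⟩⟩),
  (⟨⟨2, 0, 0, 0, 0, 0, 0, 0⟩, ⟨0, 0, 0, 0, -2, 0, 0, 0⟩, ⟨1, 0, -1, 0, -1, 0, -1, 2⟩⟩, ⟨⟨0, 0, -1, 1, 0, 1, -1, 0⟩, ⟨-1, 0, 0, 1, -1, -1, 0, 0⟩, ⟨2, -1, -1, 0, 0, 0, -1, 1⟩⟩),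
  (⟨⟨2, 0, 0, 0, 0, 0, 0, 0⟩, ⟨0, 0, 0, 0, -2, 0, 0, 0⟩, ⟨1, 0, -1, 2, 1, 0, 1, 0⟩⟩, ⟨⟨2, 0, -1, 1, 0, -1, -1, 0⟩, ⟨1, 0, 0, 1, -1, 1, 0, 0⟩, ⟨1, 0, 0, 1, -1, 1, 0, 0⟩⟩),
  (⟨⟨2, 0, 0, 0, 0, 0, 0, 0⟩, ⟨0, 0, 0, 0, -2, 0, 0, 0⟩, ⟨1, 0, 1, 0, 1, -2, -1, 0⟩⟩, ⟨⟨0, 0, -2, 0, 0, 0, 0, 0⟩, ⟨0, 0, 0, 0, 0, 0, -2, 0⟩, ⟨1, 0, 1, 0, 1, -2, -1, 0⟩⟩),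
  (⟨⟨2, 0, 0, 0, 0, 0, 0, 0⟩, ⟨0, 0, 0, 0, 0, 0, -2, 0⟩, ⟨-1, 0, -1, 0, 1, -2, -1, 0⟩⟩, ⟨⟨0, 1, 0, 0, 1, 1, -1, 0⟩, ⟨1, 0, -1, 1, 0, 0, -2, 1⟩, ⟨0, -1, 0, 0, 1, -1, -1, 0⟩⟩),
  (⟨⟨2, 0, 0, 0, 0, 0, 0, 0⟩, ⟨0, 0, 0, 0, 0, 0, -2, 0⟩, ⟨-1, 0, 1, -2, 1, 0, 1, 0⟩⟩, ⟨⟨1, -1, 0, -1, 0, 0, -1, 0⟩, ⟨0, 0, 1, 0, 1, -1, 0, -1⟩, ⟨0, 0, 1, -2, 1, -1, 0, 1⟩⟩),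
  (⟨⟨2, 0, 0, 0, 0, 0, 0, 0⟩, ⟨0, 0, 0, 0, 0, 0, -2, 0⟩, ⟨-1, 0, 1, 0, -1, 0, -1, 2⟩⟩, ⟨⟨2, 0, 0, -1, -1, 0, 1, -1⟩, ⟨-1, 1, 1, 0, 0, 1, 0, 0⟩, ⟨0, 0, 0, 1, -1, 0, -1, 1⟩⟩),
  (⟨⟨2, 0, 0, 0, 0, 0, 0, 0⟩, ⟨0, 0, 0, 0, 0, 0, -2, 0⟩, ⟨-1, 2, -1, 0, -1, 0, 1, 0⟩⟩, ⟨⟨1, -1, -1, 0, 0, -1, 0, 0⟩, ⟨-1, 0, -1, 1, 0, 0, 0, -1⟩, ⟨-1, 2, -1, 1, 0, 0, 0, 1⟩⟩),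
  (⟨⟨2, 0, 0, 0, 0, 0, 0, 0⟩, ⟨0, 0, 0, 0, 0, 0, -2, 0⟩, ⟨1, -2, 1, 0, 1, 0, -1, 0⟩⟩, ⟨⟨1, 0, 0, 1, 1, -1, 0, 0⟩, ⟨2, 0, 1, -1, 0, -1, -1, 0⟩, ⟨0, -1, 1, 0, 0, 0, -1, 1⟩⟩),
  (⟨⟨2, 0, 0, 0, 0, 0, 0, 0⟩, ⟨0, 0, 0, 0, 0, 0, -2, 0⟩, ⟨1, 0, -1, 0, 1, 0, 1, -2⟩⟩, ⟨⟨0, 1, -1, 0, 0, 0, 1, -1⟩, ⟨0, 1, 1, 0, 0, 0, -1, -1⟩, ⟨1, -1, 0, 0, 1, 0, 2, -1⟩⟩),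
  (⟨⟨2, 0, 0, 0, 0, 0, 0, 0⟩, ⟨0, 0, 0, 0, 0, 0, -2, 0⟩, ⟨1, 0, -1, 2, -1, 0, -1, 0⟩⟩, ⟨⟨1, -1, 0, 0, 1, 0, 0, -1⟩, ⟨1, -1, 0, 0, 1, 0, 0, -1⟩, ⟨0, 1, -1, 2, 0, 0, -1, 1⟩⟩),
  (⟨⟨2, 0, 0, 0, 0, 0, 0, 0⟩, ⟨0, 0, 0, 0, 0, 0, -2, 0⟩, ⟨1, 0, 1, 0, -1, 2, 1, 0⟩⟩, ⟨⟨0, 0, 2, 0, 0, 0, 0, 0⟩, ⟨0, 0, 0, 0, -2, 0, 0, 0⟩, ⟨1, 0, 1, 0, -1, 2, 1, 0⟩⟩),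
  (⟨⟨2, 0, 0, 0, 0, 0, 0, 0⟩, ⟨0, 0, 0, 0, 0, 0, 2, 0⟩, ⟨-1, 0, -1, 0, 1, -2, -1, 0⟩⟩, ⟨⟨2, 0, 0, -1, -1, 0, -1, 1⟩, ⟨-1, 1, -1, 0, 0, -1, 0, 0⟩, ⟨-1, 1, -1, 0, 0, -1, 0, 0⟩⟩),
  (⟨⟨2, 0, 0, 0, 0, 0, 0, 0⟩, ⟨0, 0, 0, 0, 0, 0, 2, 0⟩, ⟨-1, 0, 1, -2, 1, 0, 1, 0⟩⟩, ⟨⟨1, -1, 0, -1, 0, 0, -1, 0⟩, ⟨0, 0, -1, 0, -1, 1, 0, 1⟩, ⟨0, 0, 1, -2, 1, -1, 0, 1⟩⟩),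
  (⟨⟨2, 0, 0, 0, 0, 0, 0, 0⟩, ⟨0, 0, 0, 0, 0, 0, 2, 0⟩, ⟨-1, 0, 1, 0, -1, 0, -1, 2⟩⟩, ⟨⟨2, 0, -1, 0, -1, 1, 0, 1⟩, ⟨1, -1, 0, -1, 0, 0, 1, 0⟩, ⟨1, 0, 0, 0, 0, -1, -1, 1⟩⟩),
  (⟨⟨2, 0, 0, 0, 0, 0, 0, 0⟩, ⟨0, 0, 0, 0, 0, 0, 2, 0⟩, ⟨-1, 2, -1, 0, -1, 0, 1, 0⟩⟩, ⟨⟨1, 0, 1, -1, 0, 0, 0, -1⟩, ⟨0, -1, -2, 0, 1, -1, 1, 0⟩, ⟨0, 1, 0, 0, -1, 1, 1, 0⟩⟩),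
  (⟨⟨2, 0, 0, 0, 0, 0, 0, 0⟩, ⟨0, 0, 0, 0, 0, 0, 2, 0⟩, ⟨1, -2, 1, 0, 1, 0, -1, 0⟩⟩, ⟨⟨2, 0, 0, -1, 1, 0, 1, -1⟩, ⟨0, 0, 0, -1, -1, 0, 1, -1⟩, ⟨0, -1, 0, 0, -1, 1, -1, 0⟩⟩),
  (⟨⟨2, 0, 0, 0, 0, 0, 0, 0⟩, ⟨0, 0, 0, 0, 0, 0, 2, 0⟩, ⟨1, 0, -1, 0, 1, 0, 1, -2⟩⟩, ⟨⟨1, 0, 0, 1, 1, -1, 0, 0⟩, ⟨2, 0, -1, 1, 0, 1, 1, 0⟩, ⟨0, 1, -1, 0, 0, 0, 1, -1⟩⟩),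
  (⟨⟨2, 0, 0, 0, 0, 0, 0, 0⟩, ⟨0, 0, 0, 0, 0, 0, 2, 0⟩, ⟨1, 0, -1, 2, -1, 0, -1, 0⟩⟩, ⟨⟨2, 0, -1, 1, 0, -1, -1, 0⟩, ⟨1, 0, 0, 1, -1, 1, 0, 0⟩, ⟨1, 0, 0, 1, -1, 1, 0, 0⟩⟩),
  (⟨⟨2, 0, 0, 0, 0, 0, 0, 0⟩, ⟨0, 0, 0, 0, 0, 0, 2, 0⟩, ⟨1, 0, 1, 0, -1, 2, 1, 0⟩⟩, ⟨⟨0, 1, 1, 0, 0, 0, -1, 1⟩, ⟨1, 1, 0, 0, 1, 0, 2, -1⟩, ⟨0, 0, 1, -1, 0, 1, 1, 0⟩⟩),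
  (⟨⟨2, 0, 0, 0, 0, 0, 0, 0⟩, ⟨0, 0, 0, 0, 2, 0, 0, 0⟩, ⟨-1, 0, -1, 0, -1, 2, 1, 0⟩⟩, ⟨⟨2, -1, 0, 0, 1, -1, 1, 0⟩, ⟨0, 1, 0, 0, 1, 1, -1, 0⟩, ⟨-1, 0, -1, 1, 0, 0, 0, 1⟩⟩),
  (⟨⟨2, 0, 0, 0, 0, 0, 0, 0⟩, ⟨0, 0, 0, 0, 2, 0, 0, 0⟩, ⟨-1, 0, 1, -2, -1, 0, -1, 0⟩⟩, ⟨⟨1, 0, -1, 1, 0, 0, 0, 1⟩, ⟨-2, 0, 0, 1, 1, 0, 1, -1⟩, ⟨-1, 0, 1, -1, 0, 0, 0, -1⟩⟩),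
  (⟨⟨2, 0, 0, 0, 0, 0, 0, 0⟩, ⟨0, 0, 0, 0, 2, 0, 0, 0⟩, ⟨-1, 0, 1, 0, 1, 0, 1, -2⟩⟩, ⟨⟨1, 0, 1, -2, 1, 0, -1, 0⟩, ⟨0, 0, 0, 0, 2, 0, 0, 0⟩, ⟨0, 0, 0, 0, 2, 0, 0, 0⟩⟩),
  (⟨⟨2, 0, 0, 0, 0, 0, 0, 0⟩, ⟨0, 0, 0, 0, 2, 0, 0, 0⟩, ⟨-1, 2, -1, 0, 1, 0, -1, 0⟩⟩, ⟨⟨1, -1, 0, -1, 0, 0, 1, 0⟩, ⟨-1, 1, 0, 1, 2, 0, 1, 0⟩, ⟨0, 1, 1, -1, 1, 0, 0, 0⟩⟩),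
  (⟨⟨2, 0, 0, 0, 0, 0, 0, 0⟩, ⟨0, 0, 0, 0, 2, 0, 0, 0⟩, ⟨1, -2, 1, 0, -1, 0, 1, 0⟩⟩, ⟨⟨1, 0, 0, 1, -1, 1, 0, 0⟩, ⟨-1, 1, 2, 0, 1, 0, 0, -1⟩, ⟨0, -1, 1, 0, 0, 0, 1, -1⟩⟩),
  (⟨⟨2, 0, 0, 0, 0, 0, 0, 0⟩, ⟨0, 0, 0, 0, 2, 0, 0, 0⟩, ⟨1, 0, -1, 0, -1, 0, -1, 2⟩⟩, ⟨⟨1, -1, 0, 0, 1, 0, -2, 1⟩, ⟨1, 0, 0, 1, 1, 1, 0, 0⟩, ⟨1, -1, 0, 0, -1, 0, 0, 1⟩⟩),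
  (⟨⟨2, 0, 0, 0, 0, 0, 0, 0⟩, ⟨0, 0, 0, 0, 2, 0, 0, 0⟩, ⟨1, 0, -1, 2, 1, 0, 1, 0⟩⟩, ⟨⟨2, 0, 0, 1, -1, 0, 1, -1⟩, ⟨1, 0, 1, -1, 0, 0, 0, -1⟩, ⟨0, 0, 0, 1, 1, 0, 1, -1⟩⟩),
  (⟨⟨2, 0, 0, 0, 0, 0, 0, 0⟩, ⟨0, 0, 0, 0, 2, 0, 0, 0⟩, ⟨1, 0, 1, 0, 1, -2, -1, 0⟩⟩, ⟨⟨1, 0, 1, -1, 0, 0, 0, 1⟩, ⟨-1, 0, -1, 1, 0, 0, 0, -1⟩, ⟨1, -1, 1, 0, 0, -1, -2, 0⟩⟩),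
  (⟨⟨2, 0, 0, 0, 0, 0, 0, 0⟩, ⟨0, 0, 2, 0, 0, 0, 0, 0⟩, ⟨-1, 0, -1, 0, -1, 0, 1, -2⟩⟩, ⟨⟨2, -1, -1, 0, 0, 0, -1, 1⟩, ⟨0, 0, 1, 1, 0, 1, 1, 0⟩, ⟨-1, 0, 0, -1, -1, 1, 0, 0⟩⟩),
  (⟨⟨2, 0, 0, 0, 0, 0, 0, 0⟩, ⟨0, 0, 2, 0, 0, 0, 0, 0⟩, ⟨-1, 0, -1, 2, 1, 0, -1, 0⟩⟩, ⟨⟨1, 0, 0, -1, -1, 1, 0, 0⟩, ⟨1, -1, 2, 0, -1, 0, 0, -1⟩, ⟨0, 0, -1, 1, 0, 1, 1, 0⟩⟩),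
  (⟨⟨2, 0, 0, 0, 0, 0, 0, 0⟩, ⟨0, 0, 2, 0, 0, 0, 0, 0⟩, ⟨-1, 0, 1, 0, 1, -2, 1, 0⟩⟩, ⟨⟨0, 1, 1, -1, 1, 0, 0, 0⟩, ⟨0, 1, 1, -1, 1, 0, 0, 0⟩, ⟨0, -1, 1, -1, 1, -2, 0, 0⟩⟩),
  (⟨⟨2, 0, 0, 0, 0, 0, 0, 0⟩, ⟨0, 0, 2, 0, 0, 0, 0, 0⟩, ⟨-1, 2, 1, 0, -1, 0, -1, 0⟩⟩, ⟨⟨1, 0, 1, -2, 1, 0, -1, 0⟩, ⟨0, 0, 2, 0, 0, 0, 0, 0⟩, ⟨0, 0, 2, 0, 0, 0, 0, 0⟩⟩),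
  (⟨⟨2, 0, 0, 0, 0, 0, 0, 0⟩, ⟨0, 0, 2, 0, 0, 0, 0, 0⟩, ⟨1, -2, -1, 0, 1, 0, 1, 0⟩⟩, ⟨⟨1, -1, 0, 1, 0, 0, 1, 0⟩, ⟨1, 0, 2, 0, 0, -1, 1, -1⟩, ⟨0, -1, 1, -1, 1, 0, 0, 0⟩⟩),
  (⟨⟨2, 0, 0, 0, 0, 0, 0, 0⟩, ⟨0, 0, 2, 0, 0, 0, 0, 0⟩, ⟨1, 0, -1, 0, -1, 2, -1, 0⟩⟩, ⟨⟨1, -1, 0, 0, 1, 0, 0, 1⟩, ⟨1, -1, 2, 0, -1, 0, 0, 1⟩, ⟨0, 0, 1, -1, 0, 1, -1, 0⟩⟩),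
  (⟨⟨2, 0, 0, 0, 0, 0, 0, 0⟩, ⟨0, 0, 2, 0, 0, 0, 0, 0⟩, ⟨1, 0, 1, -2, -1, 0, 1, 0⟩⟩, ⟨⟨0, 1, 0, 0, 1, -1, 1, 0⟩, ⟨0, 0, 2, -1, -1, 0, -1, -1⟩, ⟨0, 0, 0, -1, -1, 0, 1, -1⟩⟩),
  (⟨⟨2, 0, 0, 0, 0, 0, 0, 0⟩, ⟨0, 0, 2, 0, 0, 0, 0, 0⟩, ⟨1, 0, 1, 0, 1, 0, -1, 2⟩⟩, ⟨⟨1, 0, 0, 0, 0, -1, 1, -1⟩, ⟨2, 0, 1, 0, -1, 1, 0, -1⟩, ⟨0, 0, 1, 0, 1, -1, 0, 1⟩⟩),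
  (⟨⟨2, 0, 0, 0, 0, 0, 0, 0⟩, ⟨0, 1, 0, -1, 0, -1, 0, -1⟩, ⟨-1, 1, -1, 1, -1, 1, -1, 1⟩⟩, ⟨⟨0, 1, 0, 0, 1, -1, 1, 0⟩, ⟨0, 0, 0, -1, -1, 0, 1, -1⟩, ⟨-2, 0, 0, 1, -1, 0, -1, 1⟩⟩),
  (⟨⟨2, 0, 0, 0, 0, 0, 0, 0⟩, ⟨0, 1, 0, -1, 0, -1, 0, -1⟩, ⟨1, -1, 1, -1, 1, -1, 1, -1⟩⟩, ⟨⟨0, 0, 0, 1, 1, 0, 1, -1⟩, ⟨0, 0, 0, -1, 1, -2, 1, -1⟩, ⟨1, 0, 1, -1, 0, 0, 0, -1⟩⟩),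
  (⟨⟨2, 0, 0, 0, 0, 0, 0, 0⟩, ⟨0, 1, 0, -1, 0, 1, 0, 1⟩, ⟨-1, 1, 1, -1, -1, 1, 1, -1⟩⟩, ⟨⟨2, -1, -1, 0, 0, 0, -1, 1⟩, ⟨-1, 1, 0, 0, 1, 0, 0, 1⟩, ⟨0, 1, 1, 0, 0, 0, -1, -1⟩⟩),
  (⟨⟨2, 0, 0, 0, 0, 0, 0, 0⟩, ⟨0, 1, 0, -1, 0, 1, 0, 1⟩, ⟨1, -1, -1, 1, 1, -1, -1, 1⟩⟩, ⟨⟨1, -1, 1, 0, 0, 1, 0, 0⟩, ⟨0, 1, -2, 0, -1, 1, 1, 0⟩, ⟨1, 0, -1, 1, 0, 0, 0, 1⟩⟩),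
  (⟨⟨2, 0, 0, 0, 0, 0, 0, 0⟩, ⟨0, 1, 0, 1, 0, -1, 0, 1⟩, ⟨-1, 1, 1, -1, 1, -1, -1, 1⟩⟩, ⟨⟨1, 0, 1, 0, 1, 0, -1, 0⟩, ⟨0, 0, 0, 0, 0, 0, -2, 2⟩, ⟨0, 1, 0, -1, 0, -1, 0, 1⟩⟩),
  (⟨⟨2, 0, 0, 0, 0, 0, 0, 0⟩, ⟨0, 1, 0, 1, 0, -1, 0, 1⟩, ⟨1, -1, -1, 1, -1, 1, 1, -1⟩⟩, ⟨⟨2, 0, -1, 1, 0, -1, -1, 0⟩, ⟨1, 0, 0, 1, -1, 1, 0, 0⟩, ⟨1, 0, 0, 1, -1, 1, 0, 0⟩⟩),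
  (⟨⟨2, 0, 0, 0, 0, 0, 0, 0⟩, ⟨0, 1, 0, 1, 0, 1, 0, -1⟩, ⟨-1, 1, -1, 1, 1, -1, 1, -1⟩⟩, ⟨⟨0, 0, -1, 1, 0, -1, 1, 0⟩, ⟨0, 0, -1, 1, 0, 1, 1, -2⟩, ⟨0, 0, -1, 1, 0, -1, 1, 0⟩⟩),
  (⟨⟨2, 0, 0, 0, 0, 0, 0, 0⟩, ⟨0, 1, 0, 1, 0, 1, 0, -1⟩, ⟨1, -1, 1, -1, -1, 1, -1, 1⟩⟩, ⟨⟨1, -1, -1, 0, 0, 1, 0, 0⟩, ⟨0, 1, 2, 0, -1, 1, -1, 0⟩, ⟨0, 0, 0, -1, -1, 0, -1, 1⟩⟩),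
  (⟨⟨2, 0, 0, 0, 0, 0, 0, 0⟩, ⟨1, -2, -1, 0, -1, 0, -1, 0⟩, ⟨-2, 0, 0, 0, 0, 0, 0, 0⟩⟩, ⟨⟨1, 1, 0, 0, 1, 0, 0, -1⟩, ⟨1, -1, 0, 0, -1, 0, -2, 1⟩, ⟨0, 0, 1, -1, 0, 1, -1, 0⟩⟩),
  (⟨⟨2, 0, 0, 0, 0, 0, 0, 0⟩, ⟨1, -2, -1, 0, -1, 0, -1, 0⟩, ⟨2, 0, 0, 0, 0, 0, 0, 0⟩⟩, ⟨⟨1, 1, -2, 1, 0, 0, 1, 0⟩, ⟨1, -1, 0, -1, 0, 0, -1, 0⟩, ⟨1, -1, 0, -1, 0, 0, -1, 0⟩⟩),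
  (⟨⟨2, 0, 0, 0, 0, 0, 0, 0⟩, ⟨1, -2, -1, 0, 1, 0, 1, 0⟩, ⟨0, 0, -2, 0, 0, 0, 0, 0⟩⟩, ⟨⟨0, 0, 0, 0, 0, 0, 0, 0⟩, ⟨1, -2, 1, 0, 1, 0, 1, 0⟩, ⟨-1, 2, -1, 0, -1, 0, -1, 0⟩⟩),
  (⟨⟨2, 0, 0, 0, 0, 0, 0, 0⟩, ⟨1, -2, -1, 0, 1, 0, 1, 0⟩, ⟨0, 0, 2, 0, 0, 0, 0, 0⟩⟩, ⟨⟨1, -1, 2, -1, 0, 0, 1, 0⟩, ⟨0, -1, -1, 1, 1, 0, 0, 0⟩, ⟨0, -1, 1, 1, -1, 0, 0, 0⟩⟩),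
  (⟨⟨2, 0, 0, 0, 0, 0, 0, 0⟩, ⟨1, -2, 1, 0, -1, 0, 1, 0⟩, ⟨0, 0, 0, 0, -2, 0, 0, 0⟩⟩, ⟨⟨0, 0, 0, 1, 1, 0, -1, 1⟩, ⟨0, -1, 2, 0, -1, 1, 1, 0⟩, ⟨0, 0, 0, -1, -1, 0, 1, -1⟩⟩),
  (⟨⟨2, 0, 0, 0, 0, 0, 0, 0⟩, ⟨1, -2, 1, 0, -1, 0, 1, 0⟩, ⟨0, 0, 0, 0, 2, 0, 0, 0⟩⟩, ⟨⟨2, 0, 0, 0, 0, 0, 2, 0⟩, ⟨0, 0, 0, 0, 0, 0, 0, 0⟩, ⟨0, 0, 2, 0, 2, 0, 0, 0⟩⟩),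
  (⟨⟨2, 0, 0, 0, 0, 0, 0, 0⟩, ⟨1, -2, 1, 0, 1, 0, -1, 0⟩, ⟨0, 0, 0, 0, 0, 0, -2, 0⟩⟩, ⟨⟨0, 1, -1, 0, 0, 0, -1, 1⟩, ⟨1, -1, 0, 0, 1, 0, 0, 1⟩, ⟨1, 0, 0, -1, 1, -1, -2, 0⟩⟩),
  (⟨⟨2, 0, 0, 0, 0, 0, 0, 0⟩, ⟨1, -2, 1, 0, 1, 0, -1, 0⟩, ⟨0, 0, 0, 0, 0, 0, 2, 0⟩⟩, ⟨⟨1, 0, 1, 0, 1, 0, -1, 0⟩, ⟨2, -2, 0, 0, 0, 0, 0, 0⟩, ⟨0, -1, 0, -1, 0, 1, 0, 1⟩⟩),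
  (⟨⟨2, 0, 0, 0, 0, 0, 0, 0⟩, ⟨1, -1, -1, 1, -1, 1, 1, -1⟩, ⟨0, -1, 0, -1, 0, 1, 0, -1⟩⟩, ⟨⟨2, -1, -1, 0, 0, 0, -1, 1⟩, ⟨0, 0, 1, 1, 0, 1, 1, 0⟩, ⟨-1, 0, 0, -1, -1, 1, 0, 0⟩⟩),
  (⟨⟨2, 0, 0, 0, 0, 0, 0, 0⟩, ⟨1, -1, -1, 1, -1, 1, 1, -1⟩, ⟨0, 1, 0, 1, 0, -1, 0, 1⟩⟩, ⟨⟨2, 0, -1, 1, 0, -1, -1, 0⟩, ⟨1, 0, 0, 1, -1, 1, 0, 0⟩, ⟨1, 0, 0, 1, -1, 1, 0, 0⟩⟩),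
  (⟨⟨2, 0, 0, 0, 0, 0, 0, 0⟩, ⟨1, -1, -1, 1, 1, -1, -1, 1⟩, ⟨0, -1, 0, 1, 0, -1, 0, -1⟩⟩, ⟨⟨0, 1, 0, -1, 0, -1, 0, -1⟩, ⟨1, -1, -1, 1, 1, -1, -1, 1⟩, ⟨0, 0, 0, 0, 0, 0, -2, 0⟩⟩),
  (⟨⟨2, 0, 0, 0, 0, 0, 0, 0⟩, ⟨1, -1, -1, 1, 1, -1, -1, 1⟩, ⟨0, 1, 0, -1, 0, 1, 0, 1⟩⟩, ⟨⟨-2, 0, 0, 0, 0, 0, 0, 0⟩, ⟨1, -1, -1, 1, 1, -1, -1, 1⟩, ⟨0, 1, 0, -1, 0, 1, 0, 1⟩⟩),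
  (⟨⟨2, 0, 0, 0, 0, 0, 0, 0⟩, ⟨1, -1, 1, -1, -1, 1, -1, 1⟩, ⟨0, -1, 0, -1, 0, -1, 0, 1⟩⟩, ⟨⟨1, 0, -1, 0, -1, 0, -1, 0⟩, ⟨1, 0, 1, 0, 1, 0, -1, 0⟩, ⟨1, -1, 1, -1, -1, -1, -1, 1⟩⟩),
  (⟨⟨2, 0, 0, 0, 0, 0, 0, 0⟩, ⟨1, -1, 1, -1, -1, 1, -1, 1⟩, ⟨0, 1, 0, 1, 0, 1, 0, -1⟩⟩, ⟨⟨1, 0, -1, 0, 1, 0, 1, 0⟩, ⟨-1, 0, 1, 0, -1, 0, -1, 0⟩, ⟨-1, 1, 1, 1, -1, 1, 1, -1⟩⟩),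
  (⟨⟨2, 0, 0, 0, 0, 0, 0, 0⟩, ⟨1, -1, 1, -1, 1, -1, 1, -1⟩, ⟨0, -1, 0, 1, 0, 1, 0, 1⟩⟩, ⟨⟨2, 0, 0, 1, -1, 0, 1, -1⟩, ⟨1, 0, 1, -1, 0, 0, 0, -1⟩, ⟨0, 0, 0, 1, 1, 0, 1, -1⟩⟩),
  (⟨⟨2, 0, 0, 0, 0, 0, 0, 0⟩, ⟨1, -1, 1, -1, 1, -1, 1, -1⟩, ⟨0, 1, 0, -1, 0, -1, 0, -1⟩⟩, ⟨⟨0, 0, 0, 0, 0, 0, 0, 0⟩, ⟨1, -2, 1, 0, 1, 0, 1, 0⟩, ⟨-1, 2, -1, 0, -1, 0, -1, 0⟩⟩),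
  (⟨⟨2, 0, 0, 0, 0, 0, 0, 0⟩, ⟨1, 0, -1, 0, -1, 0, -1, 2⟩, ⟨0, 0, 0, 0, -2, 0, 0, 0⟩⟩, ⟨⟨0, 1, 0, 0, 1, 1, -1, 0⟩, ⟨0, 0, 0, -1, -1, 0, -1, 1⟩, ⟨1, -1, 1, 0, -2, 1, 0, 0⟩⟩),
  (⟨⟨2, 0, 0, 0, 0, 0, 0, 0⟩, ⟨1, 0, -1, 0, -1, 0, -1, 2⟩, ⟨0, 0, 0, 0, 2, 0, 0, 0⟩⟩, ⟨⟨0, 0, -1, 1, 0, -1, 1, 0⟩, ⟨0, 1, -1, 0, 0, 0, -1, 1⟩, ⟨0, -1, -1, 0, 2, 0, 1, -1⟩⟩),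
  (⟨⟨2, 0, 0, 0, 0, 0, 0, 0⟩, ⟨1, 0, -1, 0, -1, 2, -1, 0⟩, ⟨0, 0, -2, 0, 0, 0, 0, 0⟩⟩, ⟨⟨0, 1, -1, 1, -1, 0, 0, 0⟩, ⟨1, 0, 0, 0, 0, 1, -1, 1⟩, ⟨-1, -1, -2, 1, 0, 0, 1, 0⟩⟩),
  (⟨⟨2, 0, 0, 0, 0, 0, 0, 0⟩, ⟨1, 0, -1, 0, -1, 2, -1, 0⟩, ⟨0, 0, 2, 0, 0, 0, 0, 0⟩⟩, ⟨⟨0, 1, -1, 0, 0, 0, -1, 1⟩, ⟨1, 0, 0, 1, -1, 1, 0, 0⟩, ⟨-1, 1, 2, 0, 1, 0, 0, -1⟩⟩),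
  (⟨⟨2, 0, 0, 0, 0, 0, 0, 0⟩, ⟨1, 0, -1, 0, 1, -2, 1, 0⟩, ⟨-2, 0, 0, 0, 0, 0, 0, 0⟩⟩, ⟨⟨2, 0, 0, -1, -1, 0, -1, 1⟩, ⟨-1, 1, -1, 0, 0, -1, 0, 0⟩, ⟨-1, 1, -1, 0, 0, -1, 0, 0⟩⟩),
  (⟨⟨2, 0, 0, 0, 0, 0, 0, 0⟩, ⟨1, 0, -1, 0, 1, -2, 1, 0⟩, ⟨2, 0, 0, 0, 0, 0, 0, 0⟩⟩, ⟨⟨0, 0, 2, 0, 0, 0, 0, 0⟩, ⟨1, 0, -1, 0, 1, -2, 1, 0⟩, ⟨0, 0, -2, 0, 0, 0, 0, 0⟩⟩),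
  (⟨⟨2, 0, 0, 0, 0, 0, 0, 0⟩, ⟨1, 0, -1, 0, 1, 0, 1, -2⟩, ⟨0, 0, 0, 0, 0, 0, -2, 0⟩⟩, ⟨⟨0, 0, 0, 0, 0, 0, 0, 0⟩, ⟨0, 0, 0, 0, 0, 0, 0, 0⟩, ⟨0, 0, 0, 0, 0, 0, -4, 0⟩⟩),
  (⟨⟨2, 0, 0, 0, 0, 0, 0, 0⟩, ⟨1, 0, -1, 0, 1, 0, 1, -2⟩, ⟨0, 0, 0, 0, 0, 0, 2, 0⟩⟩, ⟨⟨2, 0, 0, 1, -1, 0, 1, -1⟩, ⟨1, 0, 1, -1, 0, 0, 0, -1⟩, ⟨0, 0, 0, 1, 1, 0, 1, -1⟩⟩),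
  (⟨⟨2, 0, 0, 0, 0, 0, 0, 0⟩, ⟨1, 0, -1, 2, -1, 0, -1, 0⟩, ⟨0, 0, 0, 0, 0, 0, -2, 0⟩⟩, ⟨⟨1, 0, 1, -1, 0, 0, 0, 1⟩, ⟨-1, 0, -1, 1, 0, 0, 0, -1⟩, ⟨1, -1, 1, 0, 0, -1, -2, 0⟩⟩),
  (⟨⟨2, 0, 0, 0, 0, 0, 0, 0⟩, ⟨1, 0, -1, 2, -1, 0, -1, 0⟩, ⟨0, 0, 0, 0, 0, 0, 2, 0⟩⟩, ⟨⟨0, 0, 0, 0, 0, 0, 0, 0⟩, ⟨1, 0, -1, 2, 1, 0, -1, 0⟩, ⟨-1, 2, -1, 0, 1, 0, 1, 0⟩⟩),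
  (⟨⟨2, 0, 0, 0, 0, 0, 0, 0⟩, ⟨1, 0, -1, 2, 1, 0, 1, 0⟩, ⟨0, 0, 0, 0, -2, 0, 0, 0⟩⟩, ⟨⟨2, -1, -1, 0, 0, 0, -1, 1⟩, ⟨0, 0, 1, 1, 0, 1, 1, 0⟩, ⟨-1, 0, 0, -1, -1, 1, 0, 0⟩⟩),
  (⟨⟨2, 0, 0, 0, 0, 0, 0, 0⟩, ⟨1, 0, -1, 2, 1, 0, 1, 0⟩, ⟨0, 0, 0, 0, 2, 0, 0, 0⟩⟩, ⟨⟨0, 0, 0, 0, 0, 0, 0, 0⟩, ⟨1, 0, -1, 2, 1, 0, -1, 0⟩, ⟨-1, 2, -1, 0, 1, 0, 1, 0⟩⟩),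
  (⟨⟨2, 0, 0, 0, 0, 0, 0, 0⟩, ⟨1, 0, 1, -2, -1, 0, 1, 0⟩, ⟨0, 0, -2, 0, 0, 0, 0, 0⟩⟩, ⟨⟨0, 0, 0, -1, -1, 0, 1, -1⟩, ⟨1, 0, 1, -1, -2, 0, 0, 1⟩, ⟨-1, 1, -1, 0, 0, 1, 0, 0⟩⟩),
  (⟨⟨2, 0, 0, 0, 0, 0, 0, 0⟩, ⟨1, 0, 1, -2, -1, 0, 1, 0⟩, ⟨0, 0, 2, 0, 0, 0, 0, 0⟩⟩, ⟨⟨1, -1, 0, -1, 0, 0, 1, 0⟩, ⟨0, 1, -1, -1, -1, 0, 0, 0⟩, ⟨1, -1, 2, -1, 0, 0, -1, 0⟩⟩),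
  (⟨⟨2, 0, 0, 0, 0, 0, 0, 0⟩, ⟨1, 0, 1, -2, 1, 0, -1, 0⟩, ⟨-2, 0, 0, 0, 0, 0, 0, 0⟩⟩, ⟨⟨2, -1, -1, 0, 0, 0, 1, -1⟩, ⟨0, 0, 1, -1, 0, 1, -1, 0⟩, ⟨0, -1, -1, 0, 0, 0, -1, -1⟩⟩),
  (⟨⟨2, 0, 0, 0, 0, 0, 0, 0⟩, ⟨1, 0, 1, -2, 1, 0, -1, 0⟩, ⟨2, 0, 0, 0, 0, 0, 0, 0⟩⟩, ⟨⟨1, 1, 1, 0, 2, -1, 0, 0⟩, ⟨1, 0, 1, -1, 0, 0, 0, -1⟩, ⟨1, -1, -1, 0, 0, 1, 0, 0⟩⟩),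
  (⟨⟨2, 0, 0, 0, 0, 0, 0, 0⟩, ⟨1, 0, 1, 0, -1, 0, 1, -2⟩, ⟨-2, 0, 0, 0, 0, 0, 0, 0⟩⟩, ⟨⟨1, -1, 0, 1, 0, 0, 1, 0⟩, ⟨1, 0, 0, 0, 0, -1, -1, -1⟩, ⟨-2, 1, -1, 1, 1, 0, 0, 0⟩⟩),
  (⟨⟨2, 0, 0, 0, 0, 0, 0, 0⟩, ⟨1, 0, 1, 0, -1, 0, 1, -2⟩, ⟨2, 0, 0, 0, 0, 0, 0, 0⟩⟩, ⟨⟨1, 0, 0, -1, -1, 1, 0, 0⟩, ⟨1, -1, 2, 0, -1, 0, 0, -1⟩, ⟨0, 0, -1, 1, 0, 1, 1, 0⟩⟩),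
  (⟨⟨2, 0, 0, 0, 0, 0, 0, 0⟩, ⟨1, 0, 1, 0, -1, 2, 1, 0⟩, ⟨0, 0, 0, 0, 0, 0, -2, 0⟩⟩, ⟨⟨0, 0, 0, 0, 0, 0, 0, 0⟩, ⟨0, 0, 0, 0, 0, 0, 0, 0⟩, ⟨0, 0, 0, 0, 0, 0, -4, 0⟩⟩),
  (⟨⟨2, 0, 0, 0, 0, 0, 0, 0⟩, ⟨1, 0, 1, 0, -1, 2, 1, 0⟩, ⟨0, 0, 0, 0, 0, 0, 2, 0⟩⟩, ⟨⟨2, -1, -1, 0, 0, 0, -1, 1⟩, ⟨0, 0, 1, 1, 0, 1, 1, 0⟩, ⟨-1, 0, 0, -1, -1, 1, 0, 0⟩⟩),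
  (⟨⟨2, 0, 0, 0, 0, 0, 0, 0⟩, ⟨1, 0, 1, 0, 1, -2, -1, 0⟩, ⟨0, 0, 0, 0, -2, 0, 0, 0⟩⟩, ⟨⟨1, 0, 0, 1, 1, -1, 0, 0⟩, ⟨2, 0, 1, -1, 0, -1, -1, 0⟩, ⟨0, -1, 1, 0, 0, 0, -1, 1⟩⟩),
  (⟨⟨2, 0, 0, 0, 0, 0, 0, 0⟩, ⟨1, 0, 1, 0, 1, -2, -1, 0⟩, ⟨0, 0, 0, 0, 2, 0, 0, 0⟩⟩, ⟨⟨0, 1, 0, 0, -1, -1, 1, 0⟩, ⟨0, 1, 0, 0, 1, -1, -1, 0⟩, ⟨1, -1, 1, 0, 2, -1, 0, 0⟩⟩),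
  (⟨⟨2, 0, 0, 0, 0, 0, 0, 0⟩, ⟨1, 0, 1, 0, 1, 0, -1, 2⟩, ⟨0, 0, -2, 0, 0, 0, 0, 0⟩⟩, ⟨⟨-2, 0, 0, 0, 0, 0, 0, 0⟩, ⟨1, 0, 1, 0, 1, 0, -1, 2⟩, ⟨0, 0, -2, 0, 0, 0, 0, 0⟩⟩),
  (⟨⟨2, 0, 0, 0, 0, 0, 0, 0⟩, ⟨1, 0, 1, 0, 1, 0, -1, 2⟩, ⟨0, 0, 2, 0, 0, 0, 0, 0⟩⟩, ⟨⟨0, 0, 1, -1, 0, -1, -1, 0⟩, ⟨2, -1, 1, 0, 0, 0, -1, 1⟩, ⟨0, 0, 1, 1, 0, 1, -1, 0⟩⟩),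
  (⟨⟨2, 0, 0, 0, 0, 0, 0, 0⟩, ⟨2, 0, 0, 0, 0, 0, 0, 0⟩, ⟨-1, 0, -1, 0, 1, 0, -1, 2⟩⟩, ⟨⟨0, 0, -1, 1, 0, 1, -1, 0⟩, ⟨1, 0, 0, 1, 1, -1, 0, 0⟩, ⟨0, -1, -1, 0, 2, 0, -1, 1⟩⟩),
  (⟨⟨2, 0, 0, 0, 0, 0, 0, 0⟩, ⟨2, 0, 0, 0, 0, 0, 0, 0⟩, ⟨-1, 0, -1, 2, -1, 0, 1, 0⟩⟩, ⟨⟨2, -1, 0, 0, 1, -1, 1, 0⟩, ⟨0, 1, 0, 0, 1, 1, -1, 0⟩, ⟨-1, 0, -1, 1, 0, 0, 0, 1⟩⟩),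
  (⟨⟨2, 0, 0, 0, 0, 0, 0, 0⟩, ⟨2, 0, 0, 0, 0, 0, 0, 0⟩, ⟨-1, 0, 1, 0, -1, 2, -1, 0⟩⟩, ⟨⟨1, 1, -1, 0, 0, 1, 0, 0⟩, ⟨1, -1, 1, 0, 2, -1, 0, 0⟩, ⟨-1, 1, 1, 0, 0, 1, 0, 0⟩⟩),
  (⟨⟨2, 0, 0, 0, 0, 0, 0, 0⟩, ⟨2, 0, 0, 0, 0, 0, 0, 0⟩, ⟨-1, 2, 1, 0, 1, 0, 1, 0⟩⟩, ⟨⟨0, 1, 1, 0, 0, 0, -1, 1⟩, ⟨2, 0, -1, 1, 0, -1, 1, 0⟩, ⟨-1, 1, 0, 0, 1, 0, 0, -1⟩⟩),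
  (⟨⟨2, 0, 0, 0, 0, 0, 0, 0⟩, ⟨2, 0, 0, 0, 0, 0, 0, 0⟩, ⟨1, -2, -1, 0, -1, 0, -1, 0⟩⟩, ⟨⟨1, 1, -2, 1, 0, 0, 1, 0⟩, ⟨1, -1, 0, -1, 0, 0, -1, 0⟩, ⟨1, -1, 0, -1, 0, 0, -1, 0⟩⟩),
  (⟨⟨2, 0, 0, 0, 0, 0, 0, 0⟩, ⟨2, 0, 0, 0, 0, 0, 0, 0⟩, ⟨1, 0, -1, 0, 1, -2, 1, 0⟩⟩, ⟨⟨1, 0, 0, 0, 0, -1, 1, -1⟩, ⟨2, 0, 1, 0, -1, 1, 0, -1⟩, ⟨0, 0, 1, 0, 1, -1, 0, 1⟩⟩),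
  (⟨⟨2, 0, 0, 0, 0, 0, 0, 0⟩, ⟨2, 0, 0, 0, 0, 0, 0, 0⟩, ⟨1, 0, 1, -2, 1, 0, -1, 0⟩⟩, ⟨⟨2, 0, 1, -1, 0, 1, -1, 0⟩, ⟨0, 0, -1, 1, 0, -1, -1, 0⟩, ⟨1, 0, 0, -1, 1, -1, 0, 0⟩⟩),
  (⟨⟨2, 0, 0, 0, 0, 0, 0, 0⟩, ⟨2, 0, 0, 0, 0, 0, 0, 0⟩, ⟨1, 0, 1, 0, -1, 0, 1, -2⟩⟩, ⟨⟨1, -1, -2, 1, 0, 0, -1, 0⟩, ⟨1, 1, 0, -1, 0, 0, 1, 0⟩, ⟨0, 0, 1, 0, -1, 1, 0, -1⟩⟩),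
  (⟨⟨4, 0, 0, 0, 0, 0, 0, 0⟩, ⟨0, 0, 0, 0, 0, 0, 0, 0⟩, ⟨0, 0, 0, 0, 0, 0, 0, 0⟩⟩, ⟨⟨2, 0, 0, 0, 0, 0, 0, 0⟩, ⟨0, 0, 2, 0, 0, 0, 0, 0⟩, ⟨-1, 2, 1, 0, -1, 0, -1, 0⟩⟩)]

theorem RYl_fst : RYl.map (fun p => p.1) = Rl := by decide +kernel

theorem RYl_ok : ∀ p ∈ RYl, lam p.2 ∧ qipM p.1 p.2 = ⟨8, 0, 0, 0, 0, 0, 0, 0⟩ := by decide +kernel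

theorem toH_eight : toH ⟨8, 0, 0, 0, 0, 0, 0, 0⟩ = ((4 : ℝ) : ℍ[ℝ]) := by
  ext <;> simp [toH_re, toH_imI, toH_imJ, toH_imK] <;> norm_num

theorem exists_witness {r : IQ3} (hr : r ∈ Rl) :
    ∃ y ∈ icoLeech, qip (toV r) y = ((2 : ℝ) : ℍ[ℝ]) := by
  rw [← RYl_fst, List.mem_map] at hr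
  obtain ⟨p, hp, rfl⟩ := hr
  obtain ⟨h1, h2⟩ := RYl_ok p hp
  refine ⟨toV p.2, (mem_icoLeech_iff _).2 ⟨_, h1, rfl⟩, ?_⟩
  rw [qip_toV, h2, toH_eight, Quaternion.smul_coe]
  norm_num

open Classical in
/-- the reflection in a canonical vector -/
noncomputable def tk (r : IQ3) : Equiv.Perm icoLeech :=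
  if h : toV r ∈ MinV then reflP ⟨toV r, h.1⟩ h.2 else 1

theorem tk_eq {r : IQ3} (hr : r ∈ Rl) :
    tk r = reflP ⟨toV r, (Rl_mem hr).1⟩ (Rl_mem hr).2 := dif_pos (Rl_mem hr)

theorem reflP_eq_tk (rv : icoLeech) (h4 : qip rv.1 rv.1 = 4) : ∃ r ∈ Rl, reflP rv h4 = tk r := by
  obtain ⟨u, hu, r, hr, e⟩ := min_complete rv.2 h4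
  refine ⟨r, hr, ?_⟩
  rw [tk_eq hr]
  apply Equiv.ext
  intro x
  apply Subtype.ext
  rw [reflP_apply, reflP_apply]
  show qrefl rv.1 x.1 = qrefl (toV r) x.1
  rw [e, qrefl_lsmul_unit (normSq_of_isU hu)]

theorem half_four : (1 / 2 : ℝ) • (4 : ℍ[ℝ]) = 2 := by
  rw [four_eq, Quaternion.smul_coe]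
  norm_num
  norm_cast

theorem qrefl_self {r : Fin 3 → ℍ[ℝ]} (h4 : qip r r = 4) : qrefl r r = -r := by
  rw [qrefl_eq, h4, half_four]
  funext t
  simp only [Pi.sub_apply, lsmul_apply, Pi.neg_apply]
  rw [two_mul]
  abel

theorem tk_inj {r r' : IQ3} (hr : r ∈ Rl) (hr' : r' ∈ Rl) (h : tk r = tk r') : r = r' := by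
  have m := Rl_mem hr
  have m' := Rl_mem hr'
  rw [tk_eq hr, tk_eq hr'] at h
  have h1 := congrArg (fun f : Equiv.Perm icoLeech =>
    ((f ⟨toV r', m'.1⟩ : icoLeech) : Fin 3 → ℍ[ℝ])) h
  simp only [reflP_apply] at h1
  rw [qrefl_self m'.2, qrefl_eq] at h1
  -- the scalar
  set l0 : ℍ[ℝ] := (1 / 2 : ℝ) • qip (toV r') (toV r) with hl0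
  have e1 : lsmul ((1 / 2 : ℝ) • l0) (toV r) = toV r' := by
    funext t
    have ht := congrFun h1 t
    simp only [Pi.sub_apply, lsmul_apply, Pi.neg_apply] at ht
    rw [lsmul_apply, smul_mul_assoc]
    have : l0 * toV r t = toV r' t + toV r' t := by
      calc l0 * toV r t = toV r' t - (toV r' t - l0 * toV r t) := by abel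
        _ = toV r' t - (-toV r' t) := by rw [ht]
        _ = toV r' t + toV r' t := by abel
    rw [this, ← two_smul ℝ (toV r' t), smul_smul]
    norm_num
  set l : ℍ[ℝ] := (1 / 2 : ℝ) • l0 with hl
  obtain ⟨y, hy, ey⟩ := exists_witness hr
  have e2 : l = (1 / 2 : ℝ) • qip (toV r') y := by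
    rw [← e1, qip_lsmul_left, ey, Quaternion.mul_coe_eq_smul, smul_smul]
    norm_num
  have hmem : l ∈ icosians := by
    rw [e2]
    exact half_qip_mem m'.1 hy
  have hn : normSq l = 1 := by
    have e3 := m'.2
    rw [← e1, qip_lsmul_left, qip_lsmul_right, m.2, four_eq, Quaternion.coe_mul_eq_smul,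
      mul_smul_comm, Quaternion.self_mul_star, ← Quaternion.coe_smul] at e3
    have e4 := Quaternion.coe_injective e3
    rw [smul_eq_mul] at e4
    linarith
  obtain ⟨w, hw, ew⟩ := isU_of_normSq hmem hn
  rw [ew] at e1
  exact ((can_fix hw hr hr' e1.symm).2).symm

theorem tk_injOn : Set.InjOn tk (Rf : Set IQ3) := by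
  intro r hr r' hr' h
  rw [Finset.mem_coe, mem_Rf] at hr hr'
  exact tk_inj hr hr' h

theorem refl_set : {f : Equiv.Perm icoLeech | IsIcoReflection f} = tk '' (Rf : Set IQ3) := by
  ext f
  constructor
  · intro hf
    obtain ⟨rv, h4, rfl⟩ := eq_reflP hf
    obtain ⟨r, hr, e⟩ := reflP_eq_tk rv h4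
    exact ⟨r, Finset.mem_coe.2 (mem_Rf.2 hr), e.symm⟩
  · rintro ⟨r, hr, rfl⟩
    rw [Finset.mem_coe, mem_Rf] at hr
    rw [tk_eq hr]
    exact isIcoReflection_reflP _ _

theorem refl_ncard : {f : Equiv.Perm icoLeech | IsIcoReflection f}.ncard = 315 := by
  rw [refl_set, Set.InjOn.ncard_image tk_injOn, Set.ncard_coe_finset, card_Rf]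

end Cfsg.Agent.Lib.Helper8.Ico
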