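import Mathlib
import Cfsg.Agent.Lib.Helper8.DhE

set_option autoImplicit false
set_option linter.unusedSectionVars false
set_option linter.unusedVariables false
set_option linter.style.longLine false
set_option linter.unusedSimpArgs false
set_option linter.dupNamespace false

set_option maxHeartbeats 1600000
namespace Cfsg.Agent.Lib.Helper8.Ito

open Cfsg.Agent.Lib.Helper8.Dh

section grp

variable {Γ : Type*} [Group Γ] {p : ℕ} [hp : Fact p.Prime]

theorem zpowers_eq_of_prime_card (P : Subgroup Γ) (hP : Nat.card P = p) {x : Γ} (hx : x ∈ P)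
    (hx1 : x ≠ 1) : Subgroup.zpowers x = P := by
  have h1 : Subgroup.zpowers (⟨x, hx⟩ : P) = ⊤ :=
    zpowers_eq_top_of_prime_card hP (fun h => hx1 (congrArg Subtype.val h))
  have h2 := congrArg (Subgroup.map P.subtype) h1
  rw [MonoidHom.map_zpowers, ← MonoidHom.range_eq_map, Subgroup.range_subtype] at h2
  exact h2

theorem comm_of_prime_card (P : Subgroup Γ) (hP : Nat.card P = p) :
    ∀ x ∈ P, ∀ y ∈ P, x * y = y * x := by
  intro x hx y hy
  by_cases hx1 : x = 1
  · rw [hx1, one_mul, mul_one]
  · have h1 := zpowers_eq_of_prime_card P hP hx hx1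
    rw [← h1] at hy
    obtain ⟨k, rfl⟩ := Subgroup.mem_zpowers_iff.1 hy
    exact ((Commute.refl x).zpow_right k).eq

theorem exists_Dh [Finite Γ] (hp2 : p ≠ 2) (P : Subgroup Γ) (hP : Nat.card P = p)
    (hN : Nat.card (Subgroup.normalizer (P : Set Γ)) = 2 * p)
    (hC : ∀ g : Γ, (∀ x ∈ P, g * x = x * g) → g ∈ P) : ∃ s : Γ, Dh s P := by
  classical
  have hab := comm_of_prime_card P hP
  have hPN : P ≤ Subgroup.normalizer (P : Set Γ) := Subgroup.le_normalizer
  -- an involution in the normalizer
  have : Fact (Nat.Prime 2) := ⟨Nat.prime_two⟩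
  obtain ⟨s', hs'⟩ := exists_prime_orderOf_dvd_card' (G := Subgroup.normalizer (P : Set Γ)) 2
    (by rw [hN]; exact dvd_mul_right 2 p)
  set s : Γ := (s' : Γ) with hs
  have hsN : s ∈ Subgroup.normalizer (P : Set Γ) := s'.2
  have hos : orderOf s = 2 := by rw [hs, Subgroup.orderOf_coe]; exact hs'
  have hss : s * s = 1 := by
    have := pow_orderOf_eq_one s
    rw [hos, pow_two] at this
    exact this
  have hsinv : s⁻¹ = s := inv_eq_of_mul_eq_one_left hss
  have hsP : s ∉ P := by
    intro hsP
    have h1 : orderOf (⟨s, hsP⟩ : P) ∣ Nat.card P := orderOf_dvd_natCard _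
    have h2 : orderOf (⟨s, hsP⟩ : P) = 2 := by
      rw [← Subgroup.orderOf_coe]; exact hos
    rw [h2, hP] at h1
    exact hp2 ((Nat.prime_dvd_prime_iff_eq Nat.prime_two hp.out).1 h1).symm
  have hconj : ∀ x ∈ P, s * x * s ∈ P := by
    intro x hx
    have := (Subgroup.mem_normalizer_iff.1 hsN x).1 hx
    rw [hsinv] at this
    exact this
  have hinv : ∀ x ∈ P, s * x * s = x⁻¹ := by
    intro x hx
    set y : Γ := x * (s * x * s) with hy
    have hyP : y ∈ P := P.mul_mem hx (hconj x hx)
    have hsy : s * y = y * s := by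
      rw [hy]
      have e1 : s * (x * (s * x * s)) = (s * x * s) * x * s := by
        calc s * (x * (s * x * s)) = (s * x * s) * x * s := by group
          _ = _ := rfl
      rw [e1, hab _ (hconj x hx) _ hx]
    by_cases hy1 : y = 1
    · have : s * x * s = x⁻¹ := by
        have h1 : x * (s * x * s) = 1 := hy1
        exact (inv_eq_of_mul_eq_one_right h1).symm
      exact this
    · exfalso
      apply hsP
      apply hC
      intro z hz
      have h1 := zpowers_eq_of_prime_card P hP hyP hy1
      rw [← h1] at hz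
      obtain ⟨k, rfl⟩ := Subgroup.mem_zpowers_iff.1 hz
      exact ((show Commute s y from hsy).zpow_right k).eq
  -- index two
  have hidx : (P.subgroupOf (Subgroup.normalizer (P : Set Γ))).index = 2 := by
    have h1 := Subgroup.card_mul_index (P.subgroupOf (Subgroup.normalizer (P : Set Γ)))
    have h2 : Nat.card (P.subgroupOf (Subgroup.normalizer (P : Set Γ))) = Nat.card P :=
      Nat.card_congr (Subgroup.subgroupOfEquivOfLe hPN).toEquiv
    rw [h2, hP, hN] at h1
    have hp0 : 0 < p := hp.out.pos
    have : p * (P.subgroupOf (Subgroup.normalizer (P : Set Γ))).index = p * 2 := by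
      rw [h1]; ring
    exact Nat.eq_of_mul_eq_mul_left hp0 this
  have hcoset : ∀ g ∈ Subgroup.normalizer (P : Set Γ), g ∈ P ∨ g * s ∈ P := by
    intro g hg
    by_cases hgP : g ∈ P
    · exact Or.inl hgP
    · right
      have h1 := Subgroup.mul_mem_iff_of_index_two hidx (a := (⟨g, hg⟩ : Subgroup.normalizer (P : Set Γ)))
        (b := s')
      have h2 : (⟨g, hg⟩ : Subgroup.normalizer (P : Set Γ)) ∉
          P.subgroupOf (Subgroup.normalizer (P : Set Γ)) := by
        rw [Subgroup.mem_subgroupOf]; exact hgP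
      have h3 : s' ∉ P.subgroupOf (Subgroup.normalizer (P : Set Γ)) := by
        rw [Subgroup.mem_subgroupOf]; exact hsP
      have h4 := h1.2 ⟨fun h => absurd h h2, fun h => absurd h h3⟩
      rw [Subgroup.mem_subgroupOf] at h4
      exact h4
  refine ⟨s, hab, hss, hsP, hinv, ?_⟩
  intro x hx hx1 g hg
  apply hcoset
  rw [Subgroup.mem_normalizer_iff'']
  have hgx1 : g⁻¹ * x * g ≠ 1 := by
    intro h1
    apply hx1
    have : x = g * (g⁻¹ * x * g) * g⁻¹ := by group
    rw [this, h1]; group
  have e1 := zpowers_eq_of_prime_card P hP hx hx1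
  have e2 := zpowers_eq_of_prime_card P hP hg hgx1
  have hck : ∀ (w : Γ) (k : ℤ), (g⁻¹ * w * g) ^ k = g⁻¹ * w ^ k * g := by
    intro w k
    have := conj_zpow (i := k) (a := g⁻¹) (b := w)
    rwa [inv_inv] at this
  intro z
  constructor
  · intro hz
    rw [← e1] at hz
    obtain ⟨k, rfl⟩ := Subgroup.mem_zpowers_iff.1 hz
    rw [← hck]
    exact P.zpow_mem hg k
  · intro hz
    rw [← e2] at hz
    obtain ⟨k, hk⟩ := Subgroup.mem_zpowers_iff.1 hz
    rw [hck] at hk
    have h3 : x ^ k = z := by
      have := congrArg (fun w => g * w * g⁻¹) hk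
      beta_reduce at this
      have e3 : ∀ w : Γ, g * (g⁻¹ * w * g) * g⁻¹ = w := fun w => by group
      rwa [e3, e3] at this
    rw [← h3]
    exact P.zpow_mem hx k

end grp

end Cfsg.Agent.Lib.Helper8.Ito
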