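import Mathlib
import Cfsg.Agent.Lib.Helper8.ItoA

set_option autoImplicit false
set_option linter.unusedSectionVars false
set_option linter.unusedVariables false
set_option linter.style.longLine false
set_option linter.unusedSimpArgs false
set_option linter.dupNamespace false

set_option maxHeartbeats 1600000
namespace Cfsg.Agent.Lib.Helper8.Ito

open Cfsg.Agent.Lib.Helper8.Dh

section perm

variable {Γ : Type*} [Group Γ] [Finite Γ] {α : Type*} [Fintype α] [MulAction Γ α]
variable {p : ℕ} [hp : Fact p.Prime]

/-- the order of a transitive group of degree `2p` -/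
theorem card_eq_of_transitive [MulAction.IsPretransitive Γ α] (hα : Fintype.card α = 2 * p)
    (a : α) : Nat.card Γ = Nat.card (MulAction.stabilizer Γ a) * (2 * p) := by
  rw [← Subgroup.card_mul_index (MulAction.stabilizer Γ a),
    MulAction.index_stabilizer_of_transitive, Nat.card_eq_fintype_card (α := α), hα]

/-- a Sylow `p`-subgroup with normalizer of order `2p` has order `p` -/
theorem card_sylow_eq [MulAction.IsPretransitive Γ α] (hp2 : p ≠ 2)
    (hα : Fintype.card α = 2 * p) (P : Sylow p Γ)
    (hN : Nat.card (Subgroup.normalizer ((P : Subgroup Γ) : Set Γ)) = 2 * p) :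
    Nat.card (P : Subgroup Γ) = p := by
  have hαne : Nonempty α := by
    rw [← Fintype.card_pos_iff, hα]
    have := hp.out.pos
    omega
  obtain ⟨a⟩ := hαne
  have h1 := card_eq_of_transitive (Γ := Γ) hα a
  have hpdvd : p ∣ Nat.card Γ := by
    rw [h1]; exact Dvd.dvd.mul_left (dvd_mul_left p 2) _
  have h2 : Nat.card (P : Subgroup Γ) ∣ 2 * p := by
    rw [← hN]
    exact Subgroup.card_dvd_of_le Subgroup.le_normalizer
  have h3 := P.card_eq_multiplicity
  have h4 : 1 ≤ (Nat.card Γ).factorization p :=
    (hp.out.dvd_iff_one_le_factorization (Nat.card_pos.ne')).1 hpdvd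
  have h5 : (Nat.card Γ).factorization p ≤ 1 := by
    by_contra hcon
    push Not at hcon
    have h6 : p ^ 2 ∣ p ^ (Nat.card Γ).factorization p := pow_dvd_pow p hcon
    rw [← h3] at h6
    have h7 : p ^ 2 ∣ 2 * p := h6.trans h2
    rw [pow_two] at h7
    have h8 : p ∣ 2 := by
      have := Nat.dvd_of_mul_dvd_mul_right hp.out.pos h7
      exact this
    exact hp2 ((Nat.prime_dvd_prime_iff_eq hp.out Nat.prime_two).1 h8)
  have h6 : (Nat.card Γ).factorization p = 1 := le_antisymm h5 h4
  rw [h3, h6, pow_one]

/-- `p²` does not divide the order of the group -/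
theorem not_sq_dvd (P : Sylow p Γ) (hP : Nat.card (P : Subgroup Γ) = p) :
    ¬ p ^ 2 ∣ Nat.card Γ := by
  intro h1
  have h3 := P.card_eq_multiplicity
  rw [hP] at h3
  have h4 : 2 ≤ (Nat.card Γ).factorization p :=
    (hp.out.pow_dvd_iff_le_factorization (Nat.card_pos.ne')).1 h1
  have h5 : p ^ 1 = p ^ (Nat.card Γ).factorization p := by rw [pow_one]; exact h3
  have h6 := Nat.pow_right_injective hp.out.two_le h5
  omega

/-- the stabilizer of a point has order prime to `p` -/
theorem not_dvd_card_stabilizer [MulAction.IsPretransitive Γ α]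
    (hα : Fintype.card α = 2 * p) (P : Sylow p Γ) (hP : Nat.card (P : Subgroup Γ) = p) (a : α) :
    ¬ p ∣ Nat.card (MulAction.stabilizer Γ a) := by
  intro h1
  apply not_sq_dvd P hP
  rw [card_eq_of_transitive (Γ := Γ) hα a, pow_two]
  exact mul_dvd_mul h1 (dvd_mul_left p 2)

/-- elements of order `p` have no fixed points -/
theorem smul_ne_of_orderOf_eq [MulAction.IsPretransitive Γ α]
    (hα : Fintype.card α = 2 * p) (P : Sylow p Γ) (hP : Nat.card (P : Subgroup Γ) = p)
    (x : Γ) (hx : orderOf x = p) (a : α) : x • a ≠ a := by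
  intro h1
  apply not_dvd_card_stabilizer hα P hP a
  have h2 : x ∈ MulAction.stabilizer Γ a := h1
  have h3 : orderOf (⟨x, h2⟩ : MulAction.stabilizer Γ a) ∣ Nat.card (MulAction.stabilizer Γ a) :=
    orderOf_dvd_natCard _
  rw [← Subgroup.orderOf_coe] at h3
  rw [← hx]
  exact h3

/-- the centralizer of `P` is `P` (Burnside's transfer theorem) -/
theorem centralizer_le [MulAction.IsPreprimitive Γ α] [FaithfulSMul Γ α] (hp2 : p ≠ 2)
    (hα : Fintype.card α = 2 * p) (P : Sylow p Γ)
    (hN : Nat.card (Subgroup.normalizer ((P : Subgroup Γ) : Set Γ)) = 2 * p)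
    (g : Γ) (hg : ∀ x ∈ (P : Subgroup Γ), g * x = x * g) : g ∈ (P : Subgroup Γ) := by
  classical
  have hP := card_sylow_eq hp2 hα P hN
  have hab := comm_of_prime_card (P : Subgroup Γ) hP
  set C : Subgroup Γ := Subgroup.centralizer ((P : Subgroup Γ) : Set Γ) with hC
  set N : Subgroup Γ := Subgroup.normalizer ((P : Subgroup Γ) : Set Γ) with hNdef
  have hPC : (P : Subgroup Γ) ≤ C := by
    intro x hx
    rw [hC, Subgroup.mem_centralizer_iff]
    intro y hy
    exact hab y hy x hx
  have hCN : C ≤ N := by
    intro c hc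
    rw [hNdef, Subgroup.mem_normalizer_iff]
    intro y
    constructor
    · intro hy
      have : c * y * c⁻¹ = y := by
        have h1 := (Subgroup.mem_centralizer_iff.1 hc) y hy
        rw [← h1]; group
      rw [this]; exact hy
    · intro hy
      have h1 := (Subgroup.mem_centralizer_iff.1 hc) _ hy
      have h2 : c * y = c * (c * y * c⁻¹) := by
        rw [← h1]; group
      have h3 : y = c * y * c⁻¹ := mul_left_cancel h2
      rw [h3]; exact hy
  have hgC : g ∈ C := by
    rw [hC, Subgroup.mem_centralizer_iff]
    intro y hy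
    exact (hg y hy).symm
  have h1 : Nat.card C ∣ 2 * p := by
    rw [← hN]; exact Subgroup.card_dvd_of_le hCN
  have h2 : p ∣ Nat.card C := by
    rw [← hP]; exact Subgroup.card_dvd_of_le hPC
  obtain ⟨k, hk⟩ := h2
  have hk2 : k ∣ 2 := by
    rw [hk, mul_comm 2 p] at h1
    exact Nat.dvd_of_mul_dvd_mul_left hp.out.pos h1
  have hk12 : k = 1 ∨ k = 2 := by
    have := Nat.le_of_dvd (by norm_num) hk2
    interval_cases k
    · simp at hk2
    · left; rfl
    · right; rfl
  rcases hk12 with rfl | rfl
  · -- C = P
    have h3 : (P : Subgroup Γ) = C := by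
      apply Subgroup.eq_of_le_of_card_ge hPC
      rw [hk, hP, mul_one]
    rw [h3]; exact hgC
  · -- C = N: Burnside
    exfalso
    have h3 : C = N := by
      apply Subgroup.eq_of_le_of_card_ge hCN
      rw [hk, hN, mul_comm]
    have hNC : Subgroup.normalizer (P : Set Γ) ≤ Subgroup.centralizer (P : Set Γ) := by
      have : N ≤ C := h3.ge
      exact this
    have hcompl := MonoidHom.ker_transferSylow_isComplement' P hNC
    set Q : Subgroup Γ := (MonoidHom.transferSylow P hNC).ker with hQ
    have hQcard : Nat.card Q * p = Nat.card Γ := by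
      have := hcompl.card_mul
      rw [hP] at this
      exact this
    have hαne : Nonempty α := by
      rw [← Fintype.card_pos_iff, hα]
      have := hp.out.pos
      omega
    obtain ⟨a⟩ := hαne
    have hcard := card_eq_of_transitive (Γ := Γ) hα a
    -- Q is nontrivial
    have hQne : Q ≠ ⊥ := by
      intro hbot
      rw [hbot, Subgroup.card_bot, one_mul] at hQcard
      rw [← hQcard] at hcard
      have h5 : 0 < Nat.card (MulAction.stabilizer Γ a) := Nat.card_pos
      have hp0 := hp.out.pos
      nlinarith
    -- Q is transitive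
    have hfix : MulAction.fixedPoints Q α ≠ Set.univ := by
      intro hfix
      apply hQne
      rw [Subgroup.eq_bot_iff_forall]
      intro x hx
      apply FaithfulSMul.eq_of_smul_eq_smul (α := α)
      intro b
      have hb : b ∈ MulAction.fixedPoints Q α := by rw [hfix]; exact Set.mem_univ _
      rw [one_smul]
      exact hb ⟨x, hx⟩
    haveI : Q.Normal := by rw [hQ]; infer_instance
    have htrans : MulAction.IsPretransitive Q α :=
      MulAction.IsQuasiPreprimitive.isPretransitive_of_normal hfix
    have h6 := card_eq_of_transitive (Γ := Q) hα a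
    have h7 : p ∣ Nat.card Q := by
      rw [h6]; exact Dvd.dvd.mul_left (dvd_mul_left p 2) _
    apply not_sq_dvd P hP
    rw [← hQcard, pow_two]
    exact mul_dvd_mul_right h7 p

end perm

end Cfsg.Agent.Lib.Helper8.Ito
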