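import Mathlib
import Cfsg.Agent.Lib.Helper8.ItoB

set_option autoImplicit false
set_option linter.unusedSectionVars false
set_option linter.unusedVariables false
set_option linter.style.longLine false
set_option linter.unusedSimpArgs false
set_option linter.dupNamespace false

set_option maxHeartbeats 1600000
namespace Cfsg.Agent.Lib.Helper8.Ito

section syl

variable {Γ : Type*} [Group Γ] [Finite Γ] {p : ℕ} [hp : Fact p.Prime]

/-- an element of order `p` is conjugate into the Sylow `p`-subgroup `P` -/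
theorem exists_conj_mem (P : Sylow p Γ) (g : Γ) (hg : orderOf g = p) :
    ∃ c : Γ, c⁻¹ * g * c ∈ (P : Subgroup Γ) := by
  have hpg : IsPGroup p (Subgroup.zpowers g) := by
    apply IsPGroup.of_card (n := 1)
    rw [Nat.card_zpowers, hg, pow_one]
  obtain ⟨Q, hQ⟩ := hpg.exists_le_sylow
  obtain ⟨c, hc⟩ := MulAction.exists_smul_eq Γ Q P
  refine ⟨c⁻¹, ?_⟩
  rw [inv_inv]
  have hgQ : g ∈ (Q : Subgroup Γ) := hQ (Subgroup.mem_zpowers g)
  have h1 : c * g * c⁻¹ ∈ ((c • Q : Sylow p Γ) : Subgroup Γ) := by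
    rw [Sylow.coe_subgroup_smul, Subgroup.mem_pointwise_smul_iff_inv_smul_mem]
    simp only [MulAut.smul_def, MulAut.conj_inv_apply]
    have : c⁻¹ * (c * g * c⁻¹) * c = g := by group
    rw [this]; exact hgQ
  rw [hc] at h1
  exact h1

theorem orderOf_conj' (c g : Γ) : orderOf (c⁻¹ * g * c) = orderOf g := by
  have h := MulEquiv.orderOf_eq (MulAut.conj c⁻¹) g
  rw [MulAut.conj_apply, inv_inv] at h
  exact h

/-- elements of `P` have order `1` or `p` -/
theorem orderOf_of_mem (P : Subgroup Γ) (hP : Nat.card P = p) {x : Γ} (hx : x ∈ P) :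
    x = 1 ∨ orderOf x = p := by
  have h1 : orderOf (⟨x, hx⟩ : P) ∣ Nat.card P := orderOf_dvd_natCard _
  rw [Subgroup.orderOf_mk, hP] at h1
  rcases (Nat.dvd_prime hp.out).1 h1 with h2 | h2
  · left; exact orderOf_eq_one_iff.1 h2
  · right; exact h2

/-- a nontrivial element whose order is not `p` is not conjugate into `P` -/
theorem not_conj_mem (P : Subgroup Γ) (hP : Nat.card P = p) (g : Γ) (hg1 : g ≠ 1)
    (hg : orderOf g ≠ p) (c : Γ) : c⁻¹ * g * c ∉ P := by
  intro h1
  rcases orderOf_of_mem P hP h1 with h2 | h2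
  · apply hg1
    have : g = c * (c⁻¹ * g * c) * c⁻¹ := by group
    rw [this, h2]; group
  · rw [orderOf_conj'] at h2
    exact hg h2

/-- if `C(P) = P` then every element of order divisible by `p` has order `p` -/
theorem orderOf_eq_of_dvd (P : Sylow p Γ) (hP : Nat.card (P : Subgroup Γ) = p)
    (hC : ∀ g : Γ, (∀ x ∈ (P : Subgroup Γ), g * x = x * g) → g ∈ (P : Subgroup Γ))
    (g : Γ) (hg : p ∣ orderOf g) : orderOf g = p := by
  obtain ⟨m, hm⟩ := hg
  have hn0 : 0 < orderOf g := orderOf_pos g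
  have hm0 : 0 < m := by
    rcases Nat.eq_zero_or_pos m with h | h
    · rw [h, mul_zero] at hm; omega
    · exact h
  set y : Γ := g ^ m with hy
  have hyo : orderOf y = p := by
    rw [hy, orderOf_pow' g hm0.ne', hm, Nat.gcd_eq_right (dvd_mul_left m p)]
    exact Nat.mul_div_cancel _ hm0
  obtain ⟨c, hc⟩ := exists_conj_mem P y hyo
  have hx1 : c⁻¹ * y * c ≠ 1 := by
    intro h1
    have h2 : orderOf (c⁻¹ * y * c) = 1 := by rw [h1, orderOf_one]
    rw [orderOf_conj', hyo] at h2
    exact hp.out.one_lt.ne' h2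
  have hgen := zpowers_eq_of_prime_card (P : Subgroup Γ) hP hc hx1
  have hcomm : Commute (c⁻¹ * g * c) (c⁻¹ * y * c) := by
    have h1 : Commute g y := (Commute.refl g).pow_right m
    have h2 : g * y = y * g := h1.eq
    show c⁻¹ * g * c * (c⁻¹ * y * c) = c⁻¹ * y * c * (c⁻¹ * g * c)
    calc c⁻¹ * g * c * (c⁻¹ * y * c) = c⁻¹ * (g * y) * c := by group
      _ = c⁻¹ * (y * g) * c := by rw [h2]
      _ = _ := by group
  have hmem : c⁻¹ * g * c ∈ (P : Subgroup Γ) := by
    apply hC
    intro z hz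
    rw [← hgen] at hz
    obtain ⟨k, rfl⟩ := Subgroup.mem_zpowers_iff.1 hz
    exact (hcomm.zpow_right k).eq
  rcases orderOf_of_mem (P : Subgroup Γ) hP hmem with h1 | h1
  · exfalso
    have h2 : orderOf (c⁻¹ * g * c) = 1 := by rw [h1, orderOf_one]
    rw [orderOf_conj'] at h2
    rw [h2] at hm
    have := hp.out.two_le
    nlinarith
  · rw [orderOf_conj'] at h1
    exact h1

end syl

end Cfsg.Agent.Lib.Helper8.Ito
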