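import Mathlib
import Cfsg.Agent.Lib.Helper8.ItoC
import Cfsg.Agent.Lib.Lead.Hecke3
import Cfsg.Agent.Lib.Helper6.BlkKer

set_option autoImplicit false
set_option linter.unusedSectionVars false
set_option linter.unusedVariables false
set_option linter.style.longLine false
set_option linter.unusedSimpArgs false
set_option linter.dupNamespace false

set_option maxHeartbeats 1600000
namespace Cfsg.Agent.Lib.Helper8.Ito

open Cfsg Cfsg.Agent.Lib.Helper6 Cfsg.Agent.Lib.Helper6.IndFunMore Cfsg.Agent.Lib.Helper9.Bsw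
open Cfsg.Agent.Lib.Helper8.Dh Cfsg.Agent.Lib.Helper8.Dh.Dh
open scoped ComplexConjugate
open scoped Classical

section decomp

variable {Γ : Type*} [Group Γ] [Fintype Γ] {α : Type*} [Fintype α] [MulAction Γ α]

/-- a rank 3 permutation character is `1 + χ + ψ` -/
theorem exists_rank3_decomp [MulAction.IsPretransitive Γ α] (a₀ : α)
    (hrank : Nat.card (MulAction.orbitRel.Quotient (MulAction.stabilizer Γ a₀) α) = 3) :
    ∃ χ ψ : IrrCharacter Γ, χ ≠ ψ ∧ χ ≠ oneI Γ ∧ ψ ≠ oneI Γ ∧
      permChar Γ α = (oneI Γ : Γ → ℂ) + (χ : Γ → ℂ) + (ψ : Γ → ℂ) := by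
  haveI : Fintype (IrrCharacter Γ) := Fintype.ofFinite _
  obtain ⟨m, hm1, hm2, hm3, hm4, hm5⟩ := Cfsg.Agent.Lib.Lead.Hecke.exists_mult_data (G := Γ) a₀
  rw [hrank] at hm4
  have hmone : m (oneI Γ) = 1 := hm2 _ rfl
  have hle : ∀ θ, m θ ≤ 1 := by
    intro θ
    by_contra hcon
    push Not at hcon
    have h1 := Finset.single_le_sum (f := fun θ => m θ * m θ) (fun _ _ => Nat.zero_le _)
      (Finset.mem_univ θ)
    beta_reduce at h1
    nlinarith
  have hsq : ∀ θ, m θ * m θ = m θ := by
    intro θ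
    have := hle θ
    interval_cases (m θ) <;> simp
  rw [Finset.sum_congr rfl (fun θ _ => hsq θ)] at hm4
  set S : Finset (IrrCharacter Γ) := Finset.univ.filter (fun θ => m θ = 1) with hS
  have hScard : S.card = 3 := by
    rw [hm4, hS, Finset.card_filter]
    apply Finset.sum_congr rfl
    intro θ _
    have := hle θ
    interval_cases (m θ) <;> simp
  have honeS : oneI Γ ∈ S := by rw [hS, Finset.mem_filter]; exact ⟨Finset.mem_univ _, hmone⟩
  have herase : (S.erase (oneI Γ)).card = 2 := by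
    rw [Finset.card_erase_of_mem honeS, hScard]
  obtain ⟨χ, ψ, hne, hχψ⟩ := Finset.card_eq_two.1 herase
  have hχmem : χ ∈ S.erase (oneI Γ) := by rw [hχψ]; simp
  have hψmem : ψ ∈ S.erase (oneI Γ) := by rw [hχψ]; simp
  rw [Finset.mem_erase] at hχmem hψmem
  refine ⟨χ, ψ, hne, hχmem.1, hψmem.1, ?_⟩
  funext g
  rw [hm5 g]
  have hSeq : S = insert (oneI Γ) {χ, ψ} := by
    rw [← hχψ, Finset.insert_erase honeS]
  have h1 : ∑ θ : IrrCharacter Γ, (m θ : ℂ) * (θ : Γ → ℂ) g = ∑ θ ∈ S, (θ : Γ → ℂ) g := by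
    rw [hS, Finset.sum_filter]
    apply Finset.sum_congr rfl
    intro θ _
    have := hle θ
    interval_cases hmθ : (m θ) <;> simp
  rw [h1, hSeq, Finset.sum_insert, Finset.sum_pair hne]
  · simp only [Pi.add_apply]; ring
  · intro hmem
    rw [Finset.mem_insert, Finset.mem_singleton] at hmem
    rcases hmem with h2 | h2
    · exact hχmem.1 h2.symm
    · exact hψmem.1 h2.symm

end decomp

section count

variable {Γ : Type*} [Group Γ] [Fintype Γ] {s : Γ} {K : Subgroup Γ} [Fintype K]
variable {p : ℕ} [hp : Fact p.Prime]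

/-- `Phi μ` vanishes on the elements whose order is not `p` -/
theorem Phi_eq_zero_of_orderOf_ne (h : Dh s K) (hK : Nat.card K = p) (μ : IrrCharacter K) (g : Γ)
    (hg : orderOf g ≠ p) : Phi K μ g = 0 := by
  by_cases hg1 : g = 1
  · rw [hg1]; exact Phi_one h μ
  · apply Phi_of_not_conj
    intro x
    exact not_conj_mem K hK g hg1 hg x

/-- the sum of all `Phi μ` is `2p` times the indicator function of the elements of order `p` -/
theorem sum_Phi_apply [Fintype (IrrCharacter K)] (h : Dh s K) (hK : Nat.card K = p)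
    (hconj : ∀ g : Γ, orderOf g = p → ∃ c : Γ, c⁻¹ * g * c ∈ K) (g : Γ) :
    ∑ μ : IrrCharacter K, Phi K μ g = if orderOf g = p then (2 * p : ℂ) else 0 := by
  have hA := isMulComm h
  by_cases hg : orderOf g = p
  · rw [if_pos hg]
    obtain ⟨c, hc⟩ := hconj g hg
    have hx1 : (⟨c⁻¹ * g * c, hc⟩ : K) ≠ 1 := by
      intro h1
      have h2 : c⁻¹ * g * c = 1 := congrArg Subtype.val h1
      have h3 : orderOf (c⁻¹ * g * c) = 1 := by rw [h2, orderOf_one]
      rw [orderOf_conj', hg] at h3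
      exact hp.out.one_lt.ne' h3
    have e1 : ∀ ν : IrrCharacter K, Phi K ν g = Phi K ν (c⁻¹ * g * c) := by
      intro ν
      have := Phi_isClassFunction ν g c⁻¹
      rw [inv_inv] at this
      exact this.symm
    have e2 : ∀ ν : IrrCharacter K, Phi K ν g
        = 2 - (ν : K → ℂ) ⟨c⁻¹ * g * c, hc⟩ - conj ((ν : K → ℂ) ⟨c⁻¹ * g * c, hc⟩) := by
      intro ν
      rw [e1 ν]
      exact Phi_of_mem h ν ⟨_, hc⟩ hx1
    rw [Finset.sum_congr rfl (fun ν _ => e2 ν), Finset.sum_sub_distrib, Finset.sum_sub_distrib,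
      ← map_sum, sum_irr_apply hA, if_neg hx1, map_zero, Finset.sum_const, Finset.card_univ,
      card_irr hA, hK]
    simp
    ring
  · rw [if_neg hg]
    apply Finset.sum_eq_zero
    intro μ _
    exact Phi_eq_zero_of_orderOf_ne h hK μ g hg

/-- the number of elements of order `p` -/
theorem card_orderOf_eq [Fintype (IrrCharacter K)] (h : Dh s K) (hK : Nat.card K = p)
    (hconj : ∀ g : Γ, orderOf g = p → ∃ c : Γ, c⁻¹ * g * c ∈ K) :
    (Finset.univ.filter (fun g : Γ => orderOf g = p)).card * (2 * p) = (p - 1) * Nat.card Γ := by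
  have hA := isMulComm h
  have h1 : ∑ g : Γ, ∑ μ : IrrCharacter K, Phi K μ g
      = ((Finset.univ.filter (fun g : Γ => orderOf g = p)).card : ℂ) * (2 * p : ℂ) := by
    rw [Finset.sum_congr rfl (fun g _ => sum_Phi_apply h hK hconj g), ← Finset.sum_filter,
      Finset.sum_const, nsmul_eq_mul]
  have h2 : ∀ μ : IrrCharacter K, ∑ g : Γ, Phi K μ g
      = if μ = oneI K then 0 else (Nat.card Γ : ℂ) := by
    intro μ
    by_cases hμ : μ = oneI K
    · rw [if_pos hμ, hμ, Phi_oneI]; simp
    · rw [if_neg hμ]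
      have h3 := classInner_Phi_oneG (G := Γ) μ hμ
      unfold Cfsg.classInner at h3
      have h4 : ∑ g : Γ, Phi K μ g * conj ((oneI Γ : Γ → ℂ) g) = ∑ g : Γ, Phi K μ g := by
        apply Finset.sum_congr rfl
        intro g _
        rw [oneI_apply, map_one, mul_one]
      rw [h4] at h3
      have hne : (Nat.card Γ : ℂ) ≠ 0 := by
        have : Nat.card Γ ≠ 0 := Nat.card_pos.ne'
        exact_mod_cast this
      field_simp at h3
      exact h3
  rw [Finset.sum_comm, Finset.sum_congr rfl (fun μ _ => h2 μ)] at h1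
  rw [Finset.sum_ite, Finset.sum_const_zero, zero_add, Finset.sum_const, nsmul_eq_mul] at h1
  have h5 : (Finset.univ.filter (fun μ : IrrCharacter K => ¬ μ = oneI K)).card = p - 1 := by
    have : Finset.univ.filter (fun μ : IrrCharacter K => ¬ μ = oneI K)
        = Finset.univ.erase (oneI K) := by
      ext μ; simp
    rw [this, Finset.card_erase_of_mem (Finset.mem_univ _), Finset.card_univ, card_irr hA, hK]
  rw [h5] at h1
  have h6 : (((Finset.univ.filter (fun g : Γ => orderOf g = p)).card * (2 * p) : ℕ) : ℂ)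
      = (((p - 1) * Nat.card Γ : ℕ) : ℂ) := by
    push_cast
    rw [← h1]
  exact_mod_cast h6

end count

end Cfsg.Agent.Lib.Helper8.Ito
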