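import Mathlib
import Cfsg.Agent.Lib.Helper8.ItoD

set_option autoImplicit false
set_option linter.unusedSectionVars false
set_option linter.unusedVariables false
set_option linter.style.longLine false
set_option linter.unusedSimpArgs false
set_option linter.dupNamespace false

set_option maxHeartbeats 1600000
namespace Cfsg.Agent.Lib.Helper8.Ito

open Cfsg Cfsg.Agent.Lib.Helper6 Cfsg.Agent.Lib.Helper6.IndFunMore Cfsg.Agent.Lib.Helper9.Bsw
open Cfsg.Agent.Lib.Helper8.Dh Cfsg.Agent.Lib.Helper8.Dh.Dh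
open scoped ComplexConjugate
open scoped Classical

section faithful

variable {Γ : Type*} [Group Γ] [Fintype Γ] {α : Type*} [Fintype α] [MulAction Γ α]
variable {p : ℕ} [hp : Fact p.Prime]

/-- a nontrivial normal subgroup of a primitive group of degree `2p` has order divisible by `2p` -/
theorem two_p_dvd_card_of_normal [MulAction.IsPreprimitive Γ α] [FaithfulSMul Γ α]
    (hα : Fintype.card α = 2 * p) (Q : Subgroup Γ) [Q.Normal] (hQ : Q ≠ ⊥) :
    2 * p ∣ Nat.card Q := by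
  have hαne : Nonempty α := by
    rw [← Fintype.card_pos_iff, hα]
    have := hp.out.pos
    omega
  obtain ⟨a⟩ := hαne
  have hfix : MulAction.fixedPoints Q α ≠ Set.univ := by
    intro hfix
    apply hQ
    rw [Subgroup.eq_bot_iff_forall]
    intro x hx
    apply FaithfulSMul.eq_of_smul_eq_smul (α := α)
    intro b
    have hb : b ∈ MulAction.fixedPoints Q α := by rw [hfix]; exact Set.mem_univ _
    rw [one_smul]
    exact hb ⟨x, hx⟩
  have htrans : MulAction.IsPretransitive Q α :=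
    MulAction.IsQuasiPreprimitive.isPretransitive_of_normal hfix
  rw [card_eq_of_transitive (Γ := Q) hα a]
  exact dvd_mul_left _ _

/-- a character taking at the elements of order `p` a value different from its degree is
faithful -/
theorem faithful_of [MulAction.IsPreprimitive Γ α] [FaithfulSMul Γ α]
    (hα : Fintype.card α = 2 * p) {χ : Γ → ℂ} (hχ : IsCharacter Γ χ)
    (hne : ∀ g : Γ, orderOf g = p → χ g ≠ χ 1) (g : Γ) (hg : χ g = χ 1) : g = 1 := by
  by_contra hg1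
  haveI := charKer_normal hχ
  have hQ : charKer hχ ≠ ⊥ := by
    intro hbot
    have h1 : g ∈ charKer hχ := (mem_charKer hχ g).2 hg
    rw [hbot, Subgroup.mem_bot] at h1
    exact hg1 h1
  have h1 := two_p_dvd_card_of_normal hα (charKer hχ) hQ
  have h2 : p ∣ Nat.card (charKer hχ) := (dvd_mul_left p 2).trans h1
  obtain ⟨y, hy⟩ := exists_prime_orderOf_dvd_card' (G := charKer hχ) p h2
  have h3 : orderOf (y : Γ) = p := by rw [Subgroup.orderOf_coe]; exact hy
  exact hne _ h3 ((mem_charKer hχ _).1 y.2)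

end faithful

section degree

variable {Γ : Type*} [Group Γ] [Fintype Γ] {K : Subgroup Γ} [Fintype K] {p : ℕ}

/-- the restriction to `K` of a character constant on `K#` -/
theorem restrict_sum {χ : Γ → ℂ} (hχ : IsCharacter Γ χ) (v : ℂ)
    (hv : ∀ x : K, x ≠ 1 → χ x = v) (hK : Nat.card K = p) :
    ∃ n : ℕ, χ 1 + ((p : ℂ) - 1) * v = p * n := by
  have hr := IsCharacter.restrict K hχ
  obtain ⟨n, hn⟩ := IsCharacter.classInner_irr_nat hr (oneI K).2
  refine ⟨n, ?_⟩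
  unfold Cfsg.classInner at hn
  have h1 : ∑ x : K, (fun h : K => χ h) x * conj ((oneI K : K → ℂ) x)
      = χ 1 + ((p : ℂ) - 1) * v := by
    have h2 : ∀ x : K, (fun h : K => χ h) x * conj ((oneI K : K → ℂ) x)
        = (if x = 1 then χ 1 - v else 0) + v := by
      intro x
      rw [oneI_apply, map_one, mul_one]
      by_cases hx : x = 1
      · rw [if_pos hx, hx]; simp
      · rw [if_neg hx, zero_add]; exact hv x hx
    rw [Finset.sum_congr rfl (fun x _ => h2 x), Finset.sum_add_distrib,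
      Finset.sum_ite_eq' Finset.univ (1 : K) (fun _ => χ 1 - v), if_pos (Finset.mem_univ _),
      Finset.sum_const, Finset.card_univ, ← Nat.card_eq_fintype_card, hK, nsmul_eq_mul]
    ring
  rw [h1, hK] at hn
  have hp0 : (p : ℂ) ≠ 0 := by
    have : p ≠ 0 := by
      rw [← hK]; exact Nat.card_pos.ne'
    exact_mod_cast this
  field_simp at hn
  rw [hn]

end degree

section extsq

variable {Γ : Type*} [Group Γ] [Fintype Γ]

theorem sum_eq_card_mul {Ψ : Γ → ℂ} (hΨ : IsCharacter Γ Ψ) :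
    ∃ n : ℕ, ∑ g : Γ, Ψ g = (Nat.card Γ : ℂ) * n ∧ classInner Ψ (oneI Γ : Γ → ℂ) = n := by
  obtain ⟨n, hn⟩ := IsCharacter.classInner_irr_nat hΨ (oneI Γ).2
  refine ⟨n, ?_, hn⟩
  unfold Cfsg.classInner at hn
  have h4 : ∑ g : Γ, Ψ g * conj ((oneI Γ : Γ → ℂ) g) = ∑ g : Γ, Ψ g := by
    apply Finset.sum_congr rfl
    intro g _
    rw [oneI_apply, map_one, mul_one]
  rw [h4] at hn
  have hne : (Nat.card Γ : ℂ) ≠ 0 := by
    have : Nat.card Γ ≠ 0 := Nat.card_pos.ne'
    exact_mod_cast this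
  field_simp at hn
  rw [hn]

/-- Step C: the exterior square of `χ` has no principal constituent -/
theorem extSq_inner_one (θ : Γ → ℂ) (χ ψ : IrrCharacter Γ)
    (hθ : θ = (oneI Γ : Γ → ℂ) + (χ : Γ → ℂ) + (ψ : Γ → ℂ))
    (hL : IsCharacter Γ (fun g => ((χ : Γ → ℂ) g ^ 2 - (χ : Γ → ℂ) (g ^ 2)) / 2))
    (hLψ : IsCharacter Γ (fun g => ((ψ : Γ → ℂ) g ^ 2 - (ψ : Γ → ℂ) (g ^ 2)) / 2))
    (hC1 : ∑ g : Γ, θ g * θ g = 3 * (Nat.card Γ : ℂ))
    (hC2 : ∑ g : Γ, θ (g ^ 2) = 3 * (Nat.card Γ : ℂ)) :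
    classInner (fun g => ((χ : Γ → ℂ) g ^ 2 - (χ : Γ → ℂ) (g ^ 2)) / 2) (oneI Γ : Γ → ℂ) = 0 := by
  have hχc := IsIrrCharacter.isCharacter χ.2
  have hψc := IsIrrCharacter.isCharacter ψ.2
  have hM : IsCharacter Γ ((χ : Γ → ℂ) * (ψ : Γ → ℂ)) := IsCharacter.mul hχc hψc
  obtain ⟨n1, hn1, hn1'⟩ := sum_eq_card_mul hL
  obtain ⟨n2, hn2, _⟩ := sum_eq_card_mul hLψ
  obtain ⟨n3, hn3, _⟩ := sum_eq_card_mul hM
  obtain ⟨n4, hn4, _⟩ := sum_eq_card_mul hχc
  obtain ⟨n5, hn5, _⟩ := sum_eq_card_mul hψc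
  have hpt : ∀ g : Γ, (θ g * θ g - θ (g ^ 2)) / 2
      = ((χ : Γ → ℂ) g ^ 2 - (χ : Γ → ℂ) (g ^ 2)) / 2
        + ((ψ : Γ → ℂ) g ^ 2 - (ψ : Γ → ℂ) (g ^ 2)) / 2
        + ((χ : Γ → ℂ) * (ψ : Γ → ℂ)) g + (χ : Γ → ℂ) g + (ψ : Γ → ℂ) g := by
    intro g
    rw [hθ]
    simp only [Pi.add_apply, Pi.mul_apply, oneI_apply]
    ring
  have hsum : ∑ g : Γ, (θ g * θ g - θ (g ^ 2)) / 2 = 0 := by
    rw [← Finset.sum_div, Finset.sum_sub_distrib, hC1, hC2, sub_self, zero_div]
  rw [Finset.sum_congr rfl (fun g _ => hpt g), Finset.sum_add_distrib, Finset.sum_add_distrib,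
    Finset.sum_add_distrib, Finset.sum_add_distrib, hn1, hn2, hn3, hn4, hn5] at hsum
  have hne : (Nat.card Γ : ℂ) ≠ 0 := by
    have : Nat.card Γ ≠ 0 := Nat.card_pos.ne'
    exact_mod_cast this
  have h6 : ((n1 + n2 + n3 + n4 + n5 : ℕ) : ℂ) = 0 := by
    push_cast
    have : (Nat.card Γ : ℂ) * ((n1 : ℂ) + n2 + n3 + n4 + n5) = 0 := by
      linear_combination hsum
    rcases mul_eq_zero.1 this with h7 | h7
    · exact absurd h7 hne
    · exact h7
  have h7 : n1 + n2 + n3 + n4 + n5 = 0 := by exact_mod_cast h6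
  have h8 : n1 = 0 := by omega
  rw [hn1', h8]; simp

end extsq

end Cfsg.Agent.Lib.Helper8.Ito
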