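import Mathlib
import Cfsg.Agent.Lib.Helper8.ItoE
import Cfsg.Agent.Lib.Helper9.ExtSqA
import Cfsg.Agent.Lib.Helper6.W2pInt

set_option autoImplicit false
set_option linter.unusedSectionVars false
set_option linter.unusedVariables false
set_option linter.style.longLine false
set_option linter.unusedSimpArgs false
set_option linter.dupNamespace false

set_option maxHeartbeats 1600000
namespace Cfsg.Agent.Lib.Helper8.Ito

open Cfsg Cfsg.Agent.Lib.Helper6 Cfsg.Agent.Lib.Helper6.IndFunMore Cfsg.Agent.Lib.Helper9.Bsw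
open Cfsg.Agent.Lib.Helper8.Dh Cfsg.Agent.Lib.Helper8.Dh.Dh
open scoped ComplexConjugate
open scoped Classical

section main

variable {Γ : Type*} [Group Γ] [Fintype Γ] {α : Type*} [Fintype α] [MulAction Γ α]
variable {p : ℕ} [hp : Fact p.Prime]
variable {s : Γ} {K : Subgroup Γ} [Fintype K] [Fintype (IrrCharacter K)]
variable {ε : ℂ} {Y : IrrCharacter Γ} {X : IrrCharacter K → IrrCharacter Γ}

/-- Step A in the permutation group: `ε = -1` and `θ = 1 + Y + ψ` with `ψ` vanishing on `K#` -/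
theorem exists_psi [MulAction.IsPretransitive Γ α] (h : Dh s K) (S : Star K ε Y X)
    (hp7 : 7 ≤ p) (hK : Nat.card K = p)
    (hnr : ∀ μ : IrrCharacter K, μ ≠ oneI K → barI μ ≠ μ)
    (hfix : ∀ x : Γ, orderOf x = p → ∀ a : α, x • a ≠ a)
    (a₀ : α)
    (hrank : Nat.card (MulAction.orbitRel.Quotient (MulAction.stabilizer Γ a₀) α) = 3) :
    ε = -1 ∧ ∃ ψ : IrrCharacter Γ, ψ ≠ oneI Γ ∧ ψ ≠ Y ∧
      (∀ μ : IrrCharacter K, μ ≠ oneI K → ψ ≠ X μ) ∧
      permChar Γ α = (oneI Γ : Γ → ℂ) + (Y : Γ → ℂ) + (ψ : Γ → ℂ) := by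
  obtain ⟨χ₀, ψ₀, hne, hχ1, hψ1, hθ⟩ := exists_rank3_decomp (Γ := Γ) (α := α) a₀ hrank
  have hθK : ∀ x : K, x ≠ 1 → permChar Γ α (x : Γ) = 0 := by
    intro x hx
    have hx1 : (x : Γ) ≠ 1 := fun h1 => hx (Subtype.ext h1)
    have hord : orderOf (x : Γ) = p := by
      rcases orderOf_of_mem K hK x.2 with h1 | h1
      · exact absurd h1 hx1
      · exact h1
    unfold permChar
    have : IsEmpty (MulAction.fixedBy α (x : Γ)) := by
      constructor
      rintro ⟨a, ha⟩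
      exact hfix _ hord a ha
    rw [Nat.card_of_isEmpty]; simp
  have hsum0 : ∀ x : K, x ≠ 1 → 1 + (χ₀ : Γ → ℂ) x + (ψ₀ : Γ → ℂ) x = 0 := by
    intro x hx
    have h1 := hθK x hx
    rw [hθ] at h1
    simpa only [Pi.add_apply, oneI_apply] using h1
  obtain ⟨hε, hcase⟩ := stepA h S (by rw [hK]; exact hp7) hnr χ₀ ψ₀ hne hsum0
  refine ⟨hε, ?_⟩
  rcases hcase with ⟨h1, h2, h3, h4⟩ | ⟨h1, h2, h3, h4⟩
  · exact ⟨ψ₀, h2, h3, h4, by rw [hθ, h1]⟩
  · refine ⟨χ₀, h2, h3, h4, ?_⟩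
    rw [hθ, h1]
    funext g
    simp only [Pi.add_apply]
    ring

/-- the degrees -/
theorem degrees (h : Dh s K) (S : Star K ε Y X) (hε : ε = -1) (hK : Nat.card K = p)
    (hα : Fintype.card α = 2 * p) (ψ : IrrCharacter Γ) (hψ1 : ψ ≠ oneI Γ) (hψY : ψ ≠ Y)
    (hψX : ∀ μ : IrrCharacter K, μ ≠ oneI K → ψ ≠ X μ)
    (hθ : permChar Γ α = (oneI Γ : Γ → ℂ) + (Y : Γ → ℂ) + (ψ : Γ → ℂ)) :
    (Y : Γ → ℂ) 1 = (p : ℂ) - 1 ∧ (ψ : Γ → ℂ) 1 = p := by
  have hYK : ∀ x : K, x ≠ 1 → (Y : Γ → ℂ) x = -1 := by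
    intro x hx
    rw [Y_apply h S x hx, hε]
  have hψK : ∀ x : K, x ≠ 1 → (ψ : Γ → ℂ) x = 0 := other_apply h S ψ hψ1 hψY hψX
  obtain ⟨n1, hn1⟩ := restrict_sum (IsIrrCharacter.isCharacter Y.2) (-1) hYK hK
  obtain ⟨n2, hn2⟩ := restrict_sum (IsIrrCharacter.isCharacter ψ.2) 0 hψK hK
  have h1 : permChar Γ α 1 = (2 * p : ℂ) := by
    rw [Cfsg.Agent.Lib.Lead.Hecke.permChar_one, hα]; push_cast; ring
  rw [hθ] at h1
  simp only [Pi.add_apply, oneI_apply] at h1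
  have hp0 : (p : ℂ) ≠ 0 := by
    have : p ≠ 0 := hp.out.pos.ne'
    exact_mod_cast this
  have h2 : ((n1 + n2 : ℕ) : ℂ) = ((1 : ℕ) : ℂ) := by
    push_cast
    have h3 : (p : ℂ) * ((n1 : ℂ) + n2) = p * 1 := by
      linear_combination -hn1 - hn2 + h1
    exact mul_left_cancel₀ hp0 h3
  have h3 : n1 + n2 = 1 := by exact_mod_cast h2
  have hn2ne : n2 ≠ 0 := by
    intro h4
    rw [h4] at hn2
    have h5 : (ψ : Γ → ℂ) 1 = 0 := by
      have := hn2
      simp only [mul_zero, add_zero, Nat.cast_zero] at this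
      exact this
    exact IsIrrCharacter.apply_one_ne_zero ψ.2 h5
  have hn2' : n2 = 1 := by omega
  have hn1' : n1 = 0 := by omega
  rw [hn1'] at hn1
  rw [hn2'] at hn2
  constructor
  · have := hn1
    simp only [Nat.cast_zero, mul_zero] at this
    linear_combination this
  · have := hn2
    simp only [Nat.cast_one, mul_one, mul_zero, add_zero] at this
    exact this

end main

end Cfsg.Agent.Lib.Helper8.Ito
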