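import Mathlib
import Cfsg.Agent.Lib.Helper8.ItoF

set_option autoImplicit false
set_option linter.unusedSectionVars false
set_option linter.unusedVariables false
set_option linter.style.longLine false
set_option linter.unusedSimpArgs false
set_option linter.dupNamespace false

set_option maxHeartbeats 1600000
namespace Cfsg.Agent.Lib.Helper8.Ito

open Cfsg Cfsg.Agent.Lib.Helper6 Cfsg.Agent.Lib.Helper6.IndFunMore Cfsg.Agent.Lib.Helper9.Bsw
open Cfsg.Agent.Lib.Helper8.Dh Cfsg.Agent.Lib.Helper8.Dh.Dh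
open scoped ComplexConjugate
open scoped Classical

section main

variable {Γ : Type*} [Group Γ] [Fintype Γ]
variable {p : ℕ} [hp : Fact p.Prime]
variable {s : Γ} {K : Subgroup Γ} [Fintype K] [Fintype (IrrCharacter K)]
variable {ε : ℂ} {Y : IrrCharacter Γ} {X : IrrCharacter K → IrrCharacter Γ}

/-- `Y = -1` on the elements of order `p` -/
theorem Y_orderOf_eq (h : Dh s K) (S : Star K ε Y X) (hε : ε = -1)
    (hconj : ∀ g : Γ, orderOf g = p → ∃ c : Γ, c⁻¹ * g * c ∈ K)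
    (g : Γ) (hg : orderOf g = p) : (Y : Γ → ℂ) g = -1 := by
  obtain ⟨c, hc⟩ := hconj g hg
  have hx1 : (⟨c⁻¹ * g * c, hc⟩ : K) ≠ 1 := by
    intro h1
    have h2 : c⁻¹ * g * c = 1 := congrArg Subtype.val h1
    have h3 : orderOf (c⁻¹ * g * c) = 1 := by rw [h2, orderOf_one]
    rw [orderOf_conj', hg] at h3
    exact hp.out.one_lt.ne' h3
  have h1 := IsIrrCharacter.isClassFunction Y.2 g c⁻¹
  rw [inv_inv] at h1
  rw [← h1]
  have h2 := Y_apply h S ⟨_, hc⟩ hx1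
  rw [hε] at h2
  exact h2

/-- off the elements of order `p`, `X μ = Y - 1` -/
theorem X_off (h : Dh s K) (S : Star K ε Y X) (hε : ε = -1) (hK : Nat.card K = p)
    (μ : IrrCharacter K) (hμ : μ ≠ oneI K) (g : Γ) (hg : orderOf g ≠ p) :
    (X μ : Γ → ℂ) g = (Y : Γ → ℂ) g - 1 := by
  rw [X_apply_off S μ hμ g (Phi_eq_zero_of_orderOf_ne h hK μ g hg), hε]
  ring

/-- the key relation `χ(g²) = F(χ(g))` for `p`-regular `g` -/
theorem Y_sq (h : Dh s K) (S : Star K ε Y X) (hε : ε = -1) (hp3 : 3 ≤ p) (hK : Nat.card K = p)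
    (hnr : ∀ μ : IrrCharacter K, μ ≠ oneI K → barI μ ≠ μ)
    (hY1 : (Y : Γ → ℂ) 1 = (p : ℂ) - 1)
    (hL : IsCharacter Γ (fun g => ((Y : Γ → ℂ) g ^ 2 - (Y : Γ → ℂ) (g ^ 2)) / 2))
    (hL0 : classInner (fun g => ((Y : Γ → ℂ) g ^ 2 - (Y : Γ → ℂ) (g ^ 2)) / 2)
      (oneI Γ : Γ → ℂ) = 0)
    (g : Γ) (hg : orderOf g ≠ p) :
    (Y : Γ → ℂ) (g ^ 2) = (Y : Γ → ℂ) g ^ 2 - ((p : ℂ) - 1) * (Y : Γ → ℂ) g + ((p : ℂ) - 1) := by
  have hYK : ∀ x : K, x ≠ 1 → (Y : Γ → ℂ) x = -1 := by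
    intro x hx
    rw [Y_apply h S x hx, hε]
  have hLK : ∀ x : K, x ≠ 1 →
      (fun g => ((Y : Γ → ℂ) g ^ 2 - (Y : Γ → ℂ) (g ^ 2)) / 2) (x : Γ) = 1 := by
    intro x hx
    have hx2 : x ^ 2 ≠ 1 := by
      intro h1
      have h2 : orderOf x ∣ 2 := orderOf_dvd_of_pow_eq_one h1
      have h3 : orderOf x ∣ p := by rw [← hK]; exact orderOf_dvd_natCard x
      have h4 : orderOf x ∣ Nat.gcd 2 p := Nat.dvd_gcd h2 h3
      have h5 : Nat.gcd 2 p = 1 := by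
        rw [Nat.coprime_primes Nat.prime_two hp.out |>.2 (by omega)]
      rw [h5, Nat.dvd_one, orderOf_eq_one_iff] at h4
      exact hx h4
    have h1 := hYK x hx
    have h2 := hYK (x ^ 2) hx2
    have h3 : ((x ^ 2 : K) : Γ) = (x : Γ) ^ 2 := rfl
    rw [h3] at h2
    beta_reduce
    rw [h1, h2]
    norm_num
  have hL1 : 2 * (fun g => ((Y : Γ → ℂ) g ^ 2 - (Y : Γ → ℂ) (g ^ 2)) / 2) 1
      = ((p : ℂ) - 1) * ((p : ℂ) - 2) := by
    beta_reduce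
    rw [one_pow, hY1]
    ring
  have key := stepD h S hε p hp3 hK hnr hY1 _ hL hLK hL0 hL1 g
    (fun μ hμ => Phi_eq_zero_of_orderOf_ne h hK μ g hg)
  beta_reduce at key
  linear_combination -key

omit hp in
/-- `∑ Y = 0` -/
theorem sum_Y (hY : Y ≠ oneI Γ) : ∑ g : Γ, (Y : Γ → ℂ) g = 0 := by
  obtain ⟨n, hn, hn'⟩ := sum_eq_card_mul (IsIrrCharacter.isCharacter Y.2)
  rw [classInner_irrCharacter, if_neg hY] at hn'
  have : n = 0 := by exact_mod_cast hn'.symm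
  rw [hn, this]; simp

omit hp in
/-- `∑ Y² = |Γ|` for real-valued `Y` -/
theorem sum_Y_sq (hint : ∀ g : Γ, ∃ z : ℤ, (Y : Γ → ℂ) g = z) :
    ∑ g : Γ, (Y : Γ → ℂ) g * (Y : Γ → ℂ) g = (Nat.card Γ : ℂ) := by
  have h1 := classInner_irrCharacter Y Y
  rw [if_pos rfl] at h1
  unfold Cfsg.classInner at h1
  have h2 : ∑ g : Γ, (Y : Γ → ℂ) g * conj ((Y : Γ → ℂ) g) = ∑ g : Γ, (Y : Γ → ℂ) g * (Y : Γ → ℂ) g := by
    apply Finset.sum_congr rfl
    intro g _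
    obtain ⟨z, hz⟩ := hint g
    rw [hz, map_intCast]
  rw [h2] at h1
  have hne : (Nat.card Γ : ℂ) ≠ 0 := by
    have : Nat.card Γ ≠ 0 := Nat.card_pos.ne'
    exact_mod_cast this
  field_simp at h1
  rw [← h1]
  apply Finset.sum_congr rfl
  intro g _
  ring

end main

end Cfsg.Agent.Lib.Helper8.Ito
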