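import Mathlib
import Cfsg.Agent.Lib.Helper8.ItoG

set_option autoImplicit false
set_option linter.unusedSectionVars false
set_option linter.unusedVariables false
set_option linter.style.longLine false
set_option linter.unusedSimpArgs false
set_option linter.dupNamespace false

set_option maxHeartbeats 1600000
namespace Cfsg.Agent.Lib.Helper8.Ito

open Cfsg Cfsg.Agent.Lib.Helper6 Cfsg.Agent.Lib.Helper6.IndFunMore Cfsg.Agent.Lib.Helper9.Bsw
open Cfsg.Agent.Lib.Helper8.Dh Cfsg.Agent.Lib.Helper8.Dh.Dh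
open scoped ComplexConjugate
open scoped Classical

section main

variable {Γ : Type*} [Group Γ] [Fintype Γ] {α : Type*} [Fintype α] [MulAction Γ α]
variable {p : ℕ} [hp : Fact p.Prime]

/-- all the character-theoretic data for the final arithmetic step -/
theorem exists_dynamics_data [MulAction.IsPreprimitive Γ α] [FaithfulSMul Γ α]
    (hp7 : 7 ≤ p) (hα : Fintype.card α = 2 * p) (P : Sylow p Γ)
    (hN : Nat.card (Subgroup.normalizer ((P : Subgroup Γ) : Set Γ)) = 2 * p) (a₀ : α)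
    (hrank : Nat.card (MulAction.orbitRel.Quotient (MulAction.stabilizer Γ a₀) α) = 3)
    (hC2 : ∑ g : Γ, permChar Γ α (g ^ 2) = 3 * (Nat.card Γ : ℂ)) :
    ∃ chi Lam : Γ → ℂ, IsCharacter Γ chi ∧ IsCharacter Γ Lam ∧
      (∀ g, ∃ z : ℤ, chi g = z) ∧ chi 1 = (p : ℂ) - 1 ∧ (∀ g, chi g = chi 1 → g = 1) ∧
      (∀ g, orderOf g = p → chi g = -1) ∧ (∀ g : Γ, p ∣ orderOf g → orderOf g = p) ∧
      (∀ g, orderOf g ≠ p → chi (g ^ 2) = chi g ^ 2 - ((p : ℂ) - 1) * chi g + ((p : ℂ) - 1)) ∧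
      (∀ g, orderOf g ≠ p → Lam g = chi g - 1) ∧
      ∑ g : Γ, chi g = 0 ∧ ∑ g : Γ, chi g * chi g = (Nat.card Γ : ℂ) ∧
      (Finset.univ.filter (fun g : Γ => orderOf g = p)).card * (2 * p) = (p - 1) * Nat.card Γ := by
  have hp2 : p ≠ 2 := by omega
  have hodd : Odd p := hp.out.odd_of_ne_two hp2
  haveI : MulAction.IsPretransitive Γ α := MulAction.IsPreprimitive.toIsPretransitive
  set K : Subgroup Γ := (P : Subgroup Γ) with hKdef
  haveI : Fintype K := Fintype.ofFinite K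
  haveI : Fintype (IrrCharacter K) := Fintype.ofFinite _
  have hK : Nat.card K = p := card_sylow_eq hp2 hα P hN
  have hCent : ∀ g : Γ, (∀ x ∈ K, g * x = x * g) → g ∈ K := centralizer_le hp2 hα P hN
  obtain ⟨s, h⟩ := exists_Dh hp2 K hK hN hCent
  have hA := isMulComm h
  have hnr : ∀ μ : IrrCharacter K, μ ≠ oneI K → barI μ ≠ μ :=
    nonreal_of_odd hA (by rw [hK]; exact hodd)
  obtain ⟨ε, Y, X, S⟩ := exists_Star h hnr
  have hconj : ∀ g : Γ, orderOf g = p → ∃ c : Γ, c⁻¹ * g * c ∈ K := exists_conj_mem P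
  have hreg : ∀ g : Γ, p ∣ orderOf g → orderOf g = p := orderOf_eq_of_dvd P hK hCent
  have hfix : ∀ x : Γ, orderOf x = p → ∀ a : α, x • a ≠ a := smul_ne_of_orderOf_eq hα P hK
  obtain ⟨hε, ψ, hψ1, hψY, hψX, hθ⟩ := exists_psi h S hp7 hK hnr hfix a₀ hrank
  obtain ⟨hY1, hψdeg⟩ := degrees h S hε hK hα ψ hψ1 hψY hψX hθ
  -- a nonprincipal character of K
  have hci : Fintype.card (IrrCharacter K) = Nat.card K := card_irr hA
  obtain ⟨μ₀, hμ₀⟩ : ∃ ν : IrrCharacter K, ν ≠ oneI K := by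
    by_contra hcon
    push Not at hcon
    have h1 : (Finset.univ : Finset (IrrCharacter K)) ⊆ {oneI K} := fun x _ => by
      rw [Finset.mem_singleton]; exact hcon x
    have h2 := Finset.card_le_card h1
    rw [Finset.card_univ, hci, Finset.card_singleton, hK] at h2
    omega
  have hYne : Y ≠ oneI Γ := (S.Y_ne_one μ₀ hμ₀).1
  -- integrality
  have hdeg : (Y : Γ → ℂ) 1 ≠ (ψ : Γ → ℂ) 1 := by
    rw [hY1, hψdeg]
    intro h1
    have : (1 : ℂ) = 0 := by linear_combination -h1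
    exact one_ne_zero this
  have hint : ∀ g, ∃ z : ℤ, (Y : Γ → ℂ) g = z :=
    int_valued_permChar α (Y : Γ → ℂ) (ψ : Γ → ℂ) Y.2 ψ.2 hθ hdeg
  -- exterior square
  have hL := Cfsg.Agent.Lib.Helper9.ExtSq.extSq_isCharacter (IsIrrCharacter.isCharacter Y.2)
  have hLψ := Cfsg.Agent.Lib.Helper9.ExtSq.extSq_isCharacter (IsIrrCharacter.isCharacter ψ.2)
  have hC1 : ∑ g : Γ, permChar Γ α g * permChar Γ α g = 3 * (Nat.card Γ : ℂ) := by
    rw [Cfsg.Agent.Lib.Lead.Hecke.sum_permChar_sq a₀, hrank, Nat.card_eq_fintype_card]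
    push_cast; ring
  have hL0 := extSq_inner_one (permChar Γ α) Y ψ hθ hL hLψ hC1 hC2
  refine ⟨(Y : Γ → ℂ), (X μ₀ : Γ → ℂ), IsIrrCharacter.isCharacter Y.2,
    IsIrrCharacter.isCharacter (X μ₀).2, hint, hY1, ?_, Y_orderOf_eq h S hε hconj, hreg,
    Y_sq h S hε (by omega) hK hnr hY1 hL hL0, X_off h S hε hK μ₀ hμ₀, sum_Y hYne, sum_Y_sq hint,
    card_orderOf_eq h hK hconj⟩
  apply faithful_of hα (IsIrrCharacter.isCharacter Y.2)
  intro g hg
  rw [Y_orderOf_eq h S hε hconj g hg, hY1]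
  intro h1
  have hp0 : (p : ℂ) = 0 := by linear_combination -h1
  have : p = 0 := by exact_mod_cast hp0
  omega

end main

end Cfsg.Agent.Lib.Helper8.Ito
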