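import Mathlib
import Cfsg.Agent.Lib.Helper8.ItoH
import Cfsg.Agent.Lib.Helper9.ExtSqB
import Cfsg.Agent.Lib.Helper6.ItoDynC
import Cfsg.Agent.Lib.Helper6.ItoSetupB
import Cfsg.Agent.Lib.Helper6.W2pK
import Cfsg.Agent.Lib.Helper6.W2pFiveB

set_option autoImplicit false
set_option linter.unusedSectionVars false
set_option linter.unusedVariables false
set_option linter.style.longLine false
set_option linter.unusedSimpArgs false
set_option linter.dupNamespace false

set_option maxHeartbeats 1600000
namespace Cfsg.Agent.Lib.Helper8.Ito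

open Cfsg Cfsg.Agent.Lib.Helper6

/-- Ito's theorem on primitive groups of degree `2p` with `|N(P)| = 2p`: the case `p ≥ 7` is
impossible. -/
theorem false_of_ge_seven {α : Type*} [Fintype α] [DecidableEq α] {p : ℕ} [hp : Fact p.Prime]
    (hp7 : 7 ≤ p) (hα : Fintype.card α = 2 * p) (G : Subgroup (Equiv.Perm α))
    (hprim : MulAction.IsPreprimitive G α) (hnot2 : ¬ MulAction.IsMultiplyPretransitive G α 2)
    (P : Sylow p G)
    (hN : Nat.card (Subgroup.normalizer ((P : Subgroup G) : Set G)) = 2 * p) : False := by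
  classical
  haveI := hprim
  haveI : Fintype G := Fintype.ofFinite G
  haveI : MulAction.IsPretransitive G α := hprim.toIsPretransitive
  have hαne : Nonempty α := by
    rw [← Fintype.card_pos_iff, hα]
    have := hp.out.pos
    omega
  obtain ⟨a₀⟩ := hαne
  rcases W2p.wielandt_two_p hp.out hα G hprim a₀ with h2 | ⟨hrank, -⟩
  · exact hnot2 h2
  obtain ⟨a, ha0, hpa, hk⟩ := ItoSetup.exists_param hα G hprim hnot2
  have heven : Even (Fintype.card α) := by rw [hα]; exact even_two_mul p
  have hC2 := Cfsg.Agent.Lib.Helper9.ExtSq.sum_permChar_pow_two_of_rank3_even (G := G) (X := α)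
    a₀ hrank heven
  obtain ⟨chi, Lam, hchi, hLam, hint, h1, hfaith, hordp, hreg, hsq, hLam', hsum, hsumsq, hcount⟩ :=
    exists_dynamics_data (Γ := G) (α := α) hp7 hα P hN a₀ hrank hC2
  exact ItoDyn.ito_dynamics hp.out hp7 hpa chi Lam hchi hLam hint h1 hfaith hordp hreg hsq hLam'
    hsum hsumsq hcount hk

end Cfsg.Agent.Lib.Helper8.Ito
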