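import Cfsg.Agent.Lib.Helper8.J1a

/-! Kernel-checked certificates for the tables of `J1a` (generated). -/

set_option autoImplicit false
set_option maxHeartbeats 0

namespace Cfsg.Agent.Lib.Helper8.J1

open Cfsg.Agent.Lib.Helper8.SS Cfsg.Agent.Lib.Helper8.MatN

theorem lv0 : LevelOK 266 pN 301 L0 L1.S (deepOf [L1, L2, L3]) :=
  levelOK_of (by decide +kernel) (by decide +kernel) (by decide +kernel)
    (by decide +kernel)

theorem lv1 : LevelOK 266 pN 301 L1 L2.S (deepOf [L2, L3]) :=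
  levelOK_of (by decide +kernel) (by decide +kernel) (by decide +kernel)
    (by decide +kernel)

theorem lv2 : LevelOK 266 pN 301 L2 L3.S (deepOf [L3]) :=
  levelOK_of (by decide +kernel) (by decide +kernel) (by decide +kernel)
    (by decide +kernel)

theorem lv3 : LevelOK 266 pN 301 L3 [] (deepOf []) :=
  levelOK_of (by decide +kernel) (by decide +kernel) (by decide +kernel)
    (by decide +kernel)

theorem chain : ChainOK 266 pN 301 [L0, L1, L2, L3] :=
  ⟨lv0, lv1, lv2, lv3, trivial⟩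

theorem chainQ : chainQB 7 11 qN 301 [L0, L1, L2, L3] = true := by decide +kernel

def W : List ℕ := [1, 2, 3, 4, 5, 6, 7, 8, 9, 10, 11, 12, 13, 14, 15, 16, 17, 18, 19, 20, 21, 22, 23]
def slpW : List (ℕ × ℕ) := [(0, 0), (0, 0), (0, 0), (0, 2), (0, 3), (1, 4), (0, 5), (0, 6), (1, 7), (1, 3), (1, 9), (0, 10), (1, 11), (0, 12), (1, 13), (8, 8), (8, 15), (14, 16), (8, 17), (14, 18), (14, 19), (14, 14), (8, 21)]

theorem slp_ok : SlpOK 266 pN 301 [1, 2] W slpW := by
  unfold SlpOK; decide +kernel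

theorem slp_q : slpQB 7 11 qN 301 [1, 2] W slpW = true := by decide +kernel

theorem cover0 : ∀ x < 266, x ∈ L0.U.map (fun i => get (pN i) L0.b) := by decide +kernel

def orbs : List (List ℕ) := [[1, 113, 25, 74, 204, 201, 231, 159, 155, 221, 133, 154, 213, 263, 151, 9, 62, 5, 105, 21, 208, 46, 243, 70, 206, 23, 79, 22, 175, 203, 92, 180, 147, 36, 39, 214, 19, 96, 54, 35, 233, 43, 93, 88, 51, 184, 158, 217, 228, 169, 173, 182, 2, 108, 14, 130, 246, 89, 42, 72, 30, 82, 234, 192, 119, 185, 126, 232, 244, 138, 45, 83, 68, 41, 227, 98, 18, 250, 58, 194, 6, 44, 37, 183, 222, 118, 265, 150, 140, 10, 59, 216, 114, 190, 76, 162, 69, 29, 166, 124, 239, 171, 168, 20, 115, 223, 220, 117, 75, 170, 188, 116, 135, 226, 172, 90, 77, 56, 152, 181, 112, 87, 254, 34, 262, 111, 240, 174, 260, 207, 193, 177], [3, 31, 80, 252, 67, 28, 144, 264, 53, 247, 106], [4, 249, 27, 84, 57, 261, 65, 26, 120, 253, 12, 64, 238, 60, 134, 153, 225, 137, 102, 148, 139,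 73, 209, 186, 198, 218, 248, 132, 237, 156, 107, 109, 176, 38, 161, 212, 16, 8, 91, 94, 52, 163, 160, 104, 15, 197, 196, 103, 251, 40, 131, 178, 55, 78, 47, 199, 50, 101, 86, 7, 256, 164, 99, 259, 229, 157, 179, 258, 242, 210, 236, 128, 245, 61, 191, 141, 32, 211, 127, 257, 122, 63, 195, 230, 219, 167, 49, 187, 189, 235, 66, 81, 146, 202, 17, 125, 215, 121, 13, 165, 24, 224, 149, 255, 100, 71, 205, 145, 95, 97], [11, 200, 136, 85, 241, 142, 48, 143, 123, 33, 129, 110]]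

def otree : List (List (ℕ × ℕ)) := [[(0, 0), (9, 0), (21, 0), (23, 0), (9, 1), (21, 1), (23, 1), (9, 2), (21, 2), (23, 2), (9, 3), (21, 3), (23, 3), (9, 4), (21, 4), (23, 4), (9, 5), (21, 5), (23, 5), (9, 6), (21, 6), (23, 6), (9, 7), (21, 7), (23, 7), (21, 8), (23, 8), (9, 9), (21, 9), (23, 9), (9, 10), (21, 10), (9, 11), (21, 11), (23, 11), (9, 12), (23, 12), (9, 13), (21, 13), (23, 13), (9, 14), (21, 14), (23, 14), (9, 15), (23, 15), (9, 16), (21, 16), (23, 16), (21, 17), (23, 17), (9, 18), (21, 18), (23, 18), (9, 19), (21, 19), (23, 19), (9, 20), (21, 20), (9, 21), (21, 21), (9, 22), (21, 22), (9, 23), (21, 23), (23, 23), (9, 24), (23, 24), (21, 25), (9, 26), (21, 26), (23, 26), (9, 27), (21, 29), (23, 29), (23, 30), (23, 31), (9, 32), (21, 32), (23, 32), (9, 33), (23, 33), (21, 34), (23, 34), (23, 35), (9, 36), (23, 36), (21, 38), (23, 38), (21, 39), (23, 39), (9, 41), (23, 41), (21, 43), (23, 43), (9, 44), (23, 44), (9, 45),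 (23, 45), (9, 46), (9, 47), (23, 48), (9, 49), (21, 49), (23, 49), (23, 50), (21, 51), (23, 52), (23, 54), (21, 55), (23, 55), (21, 56), (9, 60), (21, 60), (23, 61), (21, 62), (23, 62), (21, 63), (23, 65), (21, 70), (9, 71), (21, 71), (23, 71), (23, 72), (21, 74), (21, 77), (23, 79), (9, 82), (21, 92), (9, 95), (23, 97), (9, 99), (9, 103)],
    [(0, 0), (9, 0), (21, 0), (23, 0), (9, 1), (21, 1), (21, 2), (23, 3), (9, 4), (9, 6), (9, 8)],
    [(0, 0), (9, 0), (21, 0), (23, 0), (9, 1), (21, 1), (23, 1), (9, 2), (21, 2), (23, 2), (9, 3), (21, 3), (23, 3), (9, 4), (21, 4), (23, 4), (9, 5), (21, 5), (23, 5), (9, 6), (21, 6), (23, 6), (23, 7), (9, 8), (21, 8), (23, 8), (9, 9), (21, 9), (23, 9), (9, 10), (21, 10), (23, 10), (9, 11), (21, 11), (9, 12), (23, 12), (9, 13), (21, 13), (23, 13), (9, 14), (21, 14), (9, 15), (21, 15), (21, 16), (23, 16), (21, 17), (23, 17), (9, 18), (21, 18), (23, 18), (9, 19), (23, 19), (9, 20), (21, 20), (9, 21),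 (23, 21), (9, 22), (23, 23), (21, 24), (23, 25), (9, 26), (21, 26), (9, 27), (21, 27), (21, 28), (9, 29), (23, 29), (23, 30), (21, 31), (9, 32), (9, 33), (23, 33), (9, 34), (21, 34), (23, 34), (9, 35), (21, 36), (9, 37), (21, 37), (9, 38), (23, 38), (9, 39), (21, 40), (9, 41), (9, 42), (9, 43), (21, 43), (23, 43), (23, 44), (9, 45), (9, 46), (23, 47), (21, 48), (9, 49), (21, 54), (9, 55), (9, 56), (21, 56), (9, 57), (23, 57), (9, 59), (21, 61), (9, 63), (9, 64), (21, 75), (23, 78), (9, 79), (9, 80), (23, 84), (23, 85)],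
    [(0, 0), (9, 0), (9, 1), (21, 1), (23, 1), (9, 2), (23, 2), (21, 3), (9, 4), (21, 5), (23, 5), (9, 8)]]

theorem orb_ok : ∀ j < orbs.length, ∀ m < (orbs.getD j []).length, m = 0 ∨
    (((otree.getD j []).getD m (0, 0)).2 < m ∧ ((otree.getD j []).getD m (0, 0)).1 ∈ L1.S ∧
      get (pN ((otree.getD j []).getD m (0, 0)).1)
        ((orbs.getD j []).getD ((otree.getD j []).getD m (0, 0)).2 0) =
          (orbs.getD j []).getD m 0) := by decide +kernel

theorem orb_lt : ∀ x ∈ orbs.flatten, x < 266 := by decide +kernel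

theorem orb_cover : ∀ x < 266, x = L0.b ∨ x ∈ orbs.flatten := by decide +kernel

theorem orb_nodup : (L0.b :: orbs.flatten).Nodup := by decide +kernel

def wit : List (List ℕ × ℕ × ℕ) := [([0], 1, 1)]

theorem block_cert : ∀ T ∈ (List.range orbs.length).sublists, T = [] ∨
    T = List.range orbs.length ∨ ¬ ((blockList L0.b orbs T).length ∣ 266) ∨
    ∃ e ∈ wit, e.1 = T ∧ e.2.1 ∈ L0.U ∧ get (pN e.2.1) L0.b ∈ blockList L0.b orbs T ∧
      e.2.2 < 266 ∧ e.2.2 ∈ blockList L0.b orbs T ∧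
      get (pN e.2.1) e.2.2 ∉ blockList L0.b orbs T := by decide +kernel

def w19 : List ℕ := [2, 1, 1, 1]

theorem w19_mem : ∀ j ∈ w19, j ∈ L0.S := by decide +kernel

theorem w19_tab : ∀ x < 266, get (pN 10) x = ev pN w19 x := by decide +kernel

theorem ord19 : ∀ x < 266, ev pN (List.replicate 19 10) x = x := by decide +kernel

theorem ne19 : ∃ x < 266, get (pN 10) x ≠ x := by decide +kernel

def cs : ℕ → List (List ℕ)
  | 1 => [[9, 2], [21, 9, 2, 9, 21, 1, 2]]
  | 2 => [[9, 1], [9, 21, 1, 1, 2, 23, 1]]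
  | 9 => [[], [1, 1, 1, 1, 1, 1]]
  | 21 => [[2, 1, 9], [21, 23, 2, 21, 9, 9, 1]]
  | 23 => [[21, 9, 2], [1, 9, 9, 1, 23, 2, 1]]
  | _ => []

theorem conj_all : ∀ i ∈ L0.S, ConjOK 266 pN pM 301 L0.S 10 i (cs i) := by
  unfold ConjOK; decide +kernel

end Cfsg.Agent.Lib.Helper8.J1
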