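import Cfsg.Agent.Lib.Helper8.J3zf

set_option autoImplicit false
set_option linter.unusedVariables false
set_option linter.unusedSectionVars false
set_option linter.style.haveILetI false

/-! Abstract group theory for the reflection centraliser of the Hall–Janko group. -/

namespace Cfsg.Agent.Lib.Helper8.J2C

open Cfsg.Agent.Lib.Helper4.ES2 Cfsg.Agent.Lib.Helper8.J3A

open scoped Nat

/-- the structure of a reflection centraliser claimed for J2 -/
def CentLite (K : Type*) [Group K] : Prop :=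
  ∃ (Q : Subgroup K) (_ : Q.Normal), Nat.card Q = 32 ∧ Cfsg.IsExtraspecial 2 Q ∧
    Nonempty (K ⧸ Q ≃* alternatingGroup (Fin 5))

theorem CentLite.congr {K K' : Type*} [Group K] [Group K'] (e : K ≃* K')
    (h : CentLite K) : CentLite K' := by
  obtain ⟨Q, hQn, hc, hex, ⟨eq⟩⟩ := h
  have hQn' : (Q.map e.toMonoidHom).Normal := hQn.map e.toMonoidHom e.surjective
  let eQ : ↥Q ≃* ↥(Q.map e.toMonoidHom) := e.subgroupMap Q
  refine ⟨Q.map e.toMonoidHom, hQn', ?_, ?_, ?_⟩
  · rw [← Nat.card_congr eQ.toEquiv, hc]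
  · exact Cfsg.Agent.Lib.Helper2.HeisLib.isExtraspecial_of_mulEquiv eQ hex
  · exact ⟨(QuotientGroup.congr Q (Q.map e.toMonoidHom) e rfl).symm.trans eq⟩

theorem centLite_of_data {E : Type*} [Group E] [Finite E] (C Q H A : Subgroup E) (z : E)
    (hQC : Q ≤ C) (hHC : H ≤ C)
    (hAH : A ≤ H) (hnorm : ∀ c ∈ C, ∀ q ∈ Q, c * q * c⁻¹ ∈ Q) (hdata : Data Q z)
    (hcm : ∃ a ∈ Q, ∃ b ∈ Q, cm a b = z) (hcQ : Nat.card Q = 32)
    (hcC : Nat.card C = 1920) (hcH : Nat.card H = 60) (hdisj : Disjoint H Q)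
    (hcA : Nat.card A = 12) (hcore : ∀ x ∈ A, x ≠ 1 → ∃ h ∈ H, h * x * h⁻¹ ∉ A) :
    CentLite ↥C := by
  classical
  have hQn : (Q.subgroupOf C).Normal := by
    constructor
    intro n hn g
    rw [Subgroup.mem_subgroupOf] at hn ⊢
    exact hnorm g g.2 n hn
  have eQ : ↥(Q.subgroupOf C) ≃* ↥Q := Subgroup.subgroupOfEquivOfLe hQC
  have eH : ↥(H.subgroupOf C) ≃* ↥H := Subgroup.subgroupOfEquivOfLe hHC
  have hcQ' : Nat.card (Q.subgroupOf C) = 32 := by rw [Nat.card_congr eQ.toEquiv, hcQ]
  have hcH' : Nat.card (H.subgroupOf C) = 60 := by rw [Nat.card_congr eH.toEquiv, hcH]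
  refine ⟨Q.subgroupOf C, hQn, hcQ', ?_, ?_⟩
  · exact Cfsg.Agent.Lib.Helper2.HeisLib.isExtraspecial_of_mulEquiv eQ.symm
      (extraspecial_of_data hdata hcm)
  · have hcomp : (H.subgroupOf C).IsComplement' (Q.subgroupOf C) := by
      apply Subgroup.isComplement'_of_card_mul_and_disjoint
      · rw [hcQ', hcH', hcC]
      · rw [Subgroup.disjoint_def]
        intro x hxH hxQ
        rw [Subgroup.mem_subgroupOf] at hxQ hxH
        exact Subtype.ext ((Subgroup.disjoint_def.mp hdisj) hxH hxQ)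
    have e1 : ↥C ⧸ Q.subgroupOf C ≃* ↥(H.subgroupOf C) := hcomp.QuotientMulEquiv
    have hfin : Finite ↥H := inferInstance
    have hidx : (A.subgroupOf H).index = 5 := by
      have h1 := (A.subgroupOf H).card_mul_index
      rw [Nat.card_congr (Subgroup.subgroupOfEquivOfLe hAH).toEquiv, hcA, hcH] at h1
      omega
    obtain ⟨e2⟩ := iso_alt_of_core (A.subgroupOf H) 5 hidx (by rw [hcH]; decide) (by
      intro x hx hne
      rw [Subgroup.mem_subgroupOf] at hx
      obtain ⟨h, hh, hn⟩ := hcore x hx (fun e => hne (Subtype.ext e))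
      refine ⟨⟨h, hh⟩, fun hmem => hn ?_⟩
      rw [Subgroup.mem_subgroupOf] at hmem
      exact hmem)
    exact ⟨e1.trans (eH.trans e2)⟩

/-- centralisers correspond under an isomorphism -/
theorem cent_congr {G G' : Type*} [Group G] [Group G'] (e : G ≃* G') (x : G) :
    Nonempty (↥(Subgroup.centralizer ({x} : Set G)) ≃*
      ↥(Subgroup.centralizer ({e x} : Set G'))) := by
  have h : (Subgroup.centralizer ({x} : Set G)).map e.toMonoidHom =
      Subgroup.centralizer ({e x} : Set G') := by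
    ext y
    constructor
    · rintro ⟨c, hc, rfl⟩
      rw [Subgroup.mem_centralizer_iff]
      intro y' hy'
      rw [Set.mem_singleton_iff] at hy'
      rw [hy']
      have := Subgroup.mem_centralizer_iff.mp hc x rfl
      show e x * e c = e c * e x
      rw [← map_mul, ← map_mul, this]
    · intro hy
      refine ⟨e.symm y, ?_, e.apply_symm_apply y⟩
      rw [SetLike.mem_coe, Subgroup.mem_centralizer_iff]
      intro x' hx'
      rw [Set.mem_singleton_iff] at hx'
      rw [hx']
      apply e.injective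
      have := Subgroup.mem_centralizer_iff.mp hy (e x) rfl
      rw [map_mul, map_mul, e.apply_symm_apply]
      exact this
  exact ⟨(e.subgroupMap _).trans (MulEquiv.subgroupCongr h)⟩

/-- the centraliser of a conjugate -/
theorem cent_conj {G : Type*} [Group G] (g x : G) :
    Nonempty (↥(Subgroup.centralizer ({x} : Set G)) ≃*
      ↥(Subgroup.centralizer ({g * x * g⁻¹} : Set G))) :=
  cent_congr (MulAut.conj g) x

/-- the centraliser inside a subgroup -/
theorem cent_sub {G : Type*} [Group G] (K C0 : Subgroup G) (z : G) (hz : z ∈ K)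
    (h : ∀ g, g ∈ C0 ↔ g ∈ K ∧ g * z = z * g) :
    Nonempty (↥(Subgroup.centralizer ({(⟨z, hz⟩ : ↥K)} : Set ↥K)) ≃* ↥C0) := by
  have e : (Subgroup.centralizer ({(⟨z, hz⟩ : ↥K)} : Set ↥K)).map K.subtype = C0 := by
    ext g
    rw [h g]
    constructor
    · rintro ⟨c, hc, rfl⟩
      refine ⟨c.2, ?_⟩
      have := Subgroup.mem_centralizer_iff.mp hc ⟨z, hz⟩ rfl
      exact (congrArg Subtype.val this).symm
    · rintro ⟨hg, hc⟩
      refine ⟨⟨g, hg⟩, ?_, rfl⟩
      rw [SetLike.mem_coe, Subgroup.mem_centralizer_iff]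
      intro y' hy'
      rw [Set.mem_singleton_iff] at hy'
      rw [hy']
      exact Subtype.ext hc.symm
  exact ⟨(Subgroup.equivMapOfInjective _ K.subtype K.subtype_injective).trans
    (MulEquiv.subgroupCongr e)⟩

/-- a subgroup normalised by generators is normalised by the group they generate -/
theorem normalizes_of_gens {G : Type*} [Group G] [Finite G] (S : Set G) (Q : Subgroup G)
    (h : ∀ s ∈ S, ∀ q ∈ Q, s * q * s⁻¹ ∈ Q) :
    ∀ c ∈ Subgroup.closure S, ∀ q ∈ Q, c * q * c⁻¹ ∈ Q := by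
  intro c hc
  induction hc using Subgroup.closure_induction with
  | mem s hs => exact h s hs
  | one => intro q hq; simpa using hq
  | mul a b _ _ iha ihb =>
    intro q hq
    have := iha _ (ihb q hq)
    have e : a * b * q * (a * b)⁻¹ = a * (b * q * b⁻¹) * a⁻¹ := by group
    rw [e]
    exact this
  | inv a _ iha =>
    have hpow : ∀ k : ℕ, ∀ q ∈ Q, a ^ k * q * (a ^ k)⁻¹ ∈ Q := by
      intro k
      induction k with
      | zero => intro q hq; simpa using hq
      | succ k ih =>
        intro q hq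
        have := ih _ (iha q hq)
        have e : a ^ (k + 1) * q * (a ^ (k + 1))⁻¹ = a ^ k * (a * q * a⁻¹) * (a ^ k)⁻¹ := by
          rw [pow_succ]; group
        rw [e]
        exact this
    have hpos : 0 < orderOf a := orderOf_pos a
    have h1 : a ^ (orderOf a - 1) * a = 1 := by
      rw [← pow_succ, Nat.sub_add_cancel hpos, pow_orderOf_eq_one]
    have h2 : a⁻¹ = a ^ (orderOf a - 1) := (eq_inv_of_mul_eq_one_left h1).symm
    rw [h2]
    exact hpow _

end Cfsg.Agent.Lib.Helper8.J2C
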