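import Cfsg.Agent.Lib.Helper8.J2C2

set_option autoImplicit false
set_option maxHeartbeats 0
set_option maxRecDepth 1000000

/-! The centraliser of a reflection in the permutation group of degree 315: certificates. -/

namespace Cfsg.Agent.Lib.Helper8.J2C

open Cfsg.Agent.Lib.Helper8.SS Cfsg.Agent.Lib.Helper8.J2L

theorem WQ_lt : WordsLt 418 WQ := by decide +kernel

theorem WH_lt : WordsLt 418 WH := by decide +kernel

theorem WA_lt : WordsLt 418 WA := by decide +kernel

theorem TQ_ok : mulTabB 315 pN WQ TQ = true := by decide +kernel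

theorem TH_ok : mulTabB 315 pN WH TH = true := by decide +kernel

theorem TA_ok : mulTabB 315 pN WA TA = true := by decide +kernel

theorem NT_ok : normTabB 315 pN L1.S WQ NT = true := by decide +kernel

theorem pts_lt : ∀ x ∈ pts, x < 315 := by decide

theorem fpQ : nodupB (WQ.map (fpW pN pts)) = true := by decide +kernel

theorem fpH : nodupB (WH.map (fpW pN pts)) = true := by decide +kernel

theorem fpA : nodupB (WA.map (fpW pN pts)) = true := by decide +kernel

theorem nilQ : [] ∈ WQ := by decide +kernel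

theorem nilH : [] ∈ WH := by decide +kernel

theorem nilA : [] ∈ WA := by decide +kernel

theorem wz_mem : wz ∈ WQ := by decide +kernel

theorem wz_ne : eqWordB 315 pN wz [] = false := by decide +kernel

theorem wz_sq : eqWordB 315 pN (wz ++ wz) [] = true := by decide +kernel

theorem wz_comm : ∀ w ∈ WQ, eqWordB 315 pN (w ++ wz) (wz ++ w) = true := by decide +kernel

theorem Q_cen : ∀ w ∈ WQ, w = [] ∨ w = wz ∨
    ∃ w' ∈ WQ, eqWordB 315 pN (w' ++ w) (w ++ w') = false := by decide +kernel

theorem Q_cm : ∀ a ∈ WQ, ∀ b ∈ WQ, eqWordB 315 pN (a ++ b) (b ++ a) = true ∨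
    eqWordB 315 pN (a ++ b) (wz ++ (b ++ a)) = true := by decide +kernel

theorem Q_sq : ∀ a ∈ WQ, eqWordB 315 pN (a ++ a) [] = true ∨
    eqWordB 315 pN (a ++ a) wz = true := by decide +kernel

theorem cm_ok : cmA ∈ WQ ∧ cmB ∈ WQ ∧
    eqWordB 315 pN (cmA ++ cmB) (wz ++ (cmB ++ cmA)) = true := by decide +kernel

theorem disj_ok : ∀ w ∈ WH, w = [] ∨ ∀ w' ∈ WQ, eqWordB 315 pN w w' = false := by
  decide +kernel

theorem A_sub : ∀ w ∈ WA, w ∈ WH := by decide +kernel

theorem core_ok : ∀ k < 11, coreW.getD k [] ∈ WH ∧ ∀ a ∈ WA,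
    eqWordB 315 pN (coreW.getD k [] ++ WA.getD (k + 1) []) (a ++ coreW.getD k []) = false := by
  decide +kernel

theorem cent_le : ∀ i ∈ L0.U, i = 0 ∨ eqWordB 315 pN (i :: wz) (wz ++ [i]) = false := by
  decide +kernel

theorem cent_ge : ∀ s ∈ L1.S, eqWordB 315 pN (s :: wz) (wz ++ [s]) = true := by decide +kernel

theorem wz_conj : eqWordB 315 pN (102 :: wz) [1, 102] = true := by decide +kernel

theorem u_img : get (pN 102) 0 = 314 := by decide +kernel

end Cfsg.Agent.Lib.Helper8.J2C
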