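import Cfsg.Agent.Lib.Helper8.J2C1
import Cfsg.Agent.Lib.Helper8.J2C3

set_option autoImplicit false
set_option linter.unusedVariables false
set_option linter.unusedSectionVars false
set_option linter.style.haveILetI false
set_option maxRecDepth 100000

/-! The centraliser of a reflection in the permutation group of degree 315. -/

namespace Cfsg.Agent.Lib.Helper8.J2C

open Cfsg.Agent.Lib.Helper8.SS Cfsg.Agent.Lib.Helper8.J2L Cfsg.Agent.Lib.Helper4.ES2 MulAction

/-- the stabiliser of the first base point -/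
noncomputable def C0 : Subgroup (Equiv.Perm (Fin 315)) := grp 315 pN pM L1.S

/-- the extraspecial normal subgroup -/
noncomputable def Qg : Subgroup (Equiv.Perm (Fin 315)) := wgrp 315 pN pM WQ

/-- a complement -/
noncomputable def Hg : Subgroup (Equiv.Perm (Fin 315)) := wgrp 315 pN pM WH

/-- a subgroup of index five of the complement -/
noncomputable def Ag : Subgroup (Equiv.Perm (Fin 315)) := wgrp 315 pN pM WA

/-- the central involution -/
noncomputable def zz : Equiv.Perm (Fin 315) := prodW 315 pN pM wz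

theorem chain1 : ChainOK 315 pN 418 [L1, L2, L3] := chain.2

theorem card_C0 : Nat.card C0 = 1920 := by
  have h := (chain_spec (pM := pM) valid_all id_tab _ chain1).2
  have h2 : ([L1, L2, L3].map (fun L => L.U.length)).prod = 1920 := by decide +kernel
  rw [h2] at h
  exact h

theorem deep_mem : ∀ i ∈ deepOf [L1, L2, L3], P 315 pN pM i ∈ C0 := fun i hi =>
  ((chain_spec (pM := pM) valid_all id_tab _ chain1).1 i hi).2

theorem C0_le_K : C0 ≤ K := (level_spec (pM := pM) valid_all id_tab L0 L1.S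
  (deepOf [L1, L2, L3]) lv0 (chain_spec (pM := pM) valid_all id_tab _ chain1).1).2.1

theorem U0_mem : ∀ i ∈ L0.U, P 315 pN pM i ∈ K := (level_spec (pM := pM) valid_all id_tab L0 L1.S
  (deepOf [L1, L2, L3]) lv0 (chain_spec (pM := pM) valid_all id_tab _ chain1).1).1

theorem WQ_deep : ∀ w ∈ WQ, ∀ i ∈ w, i ∈ deepOf [L1, L2, L3] := by decide +kernel

theorem WH_deep : ∀ w ∈ WH, ∀ i ∈ w, i ∈ deepOf [L1, L2, L3] := by decide +kernel

theorem Qg_le : Qg ≤ C0 := wgrp_le fun w hw i hi => deep_mem i (WQ_deep w hw i hi)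

theorem Hg_le : Hg ≤ C0 := wgrp_le fun w hw i hi => deep_mem i (WH_deep w hw i hi)

theorem Ag_le : Ag ≤ Hg := by
  apply Subgroup.closure_mono
  rintro _ ⟨w, hw, rfl⟩
  exact ⟨w, A_sub w hw, rfl⟩

theorem mem_Qg {g : Equiv.Perm (Fin 315)} (hg : g ∈ Qg) : ∃ w ∈ WQ, prodW 315 pN pM w = g :=
  mem_wset_of_mem_wgrp valid_all WQ_lt TQ_ok nilQ g hg

theorem mem_Hg {g : Equiv.Perm (Fin 315)} (hg : g ∈ Hg) : ∃ w ∈ WH, prodW 315 pN pM w = g :=
  mem_wset_of_mem_wgrp valid_all WH_lt TH_ok nilH g hg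

theorem mem_Ag {g : Equiv.Perm (Fin 315)} (hg : g ∈ Ag) : ∃ w ∈ WA, prodW 315 pN pM w = g :=
  mem_wset_of_mem_wgrp valid_all WA_lt TA_ok nilA g hg

theorem card_Qg : Nat.card Qg = 32 :=
  card_wgrp valid_all WQ_lt TQ_ok nilQ pts pts_lt fpQ

theorem card_Hg : Nat.card Hg = 60 :=
  card_wgrp valid_all WH_lt TH_ok nilH pts pts_lt fpH

theorem card_Ag : Nat.card Ag = 12 :=
  card_wgrp valid_all WA_lt TA_ok nilA pts pts_lt fpA

theorem S1_lt : ∀ i ∈ L1.S, i < 418 := by decide +kernel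

theorem norm_Qg : ∀ c ∈ C0, ∀ q ∈ Qg, c * q * c⁻¹ ∈ Qg := by
  apply J2C.normalizes_of_gens
  rintro _ ⟨i, hi, rfl⟩ q hq
  obtain ⟨w, hw, e⟩ := norm_spec (pM := pM) valid_all S1_lt WQ_lt NT_ok i hi q (mem_Qg hq)
  rw [← e]
  exact mem_wgrp hw

theorem data_Qg : Data Qg zz :=
  data_of_checks valid_all WQ_lt TQ_ok nilQ wz_mem wz_ne wz_sq wz_comm Q_cen Q_cm Q_sq

theorem lt_of_app {W W' : List (List ℕ)} (hW : WordsLt 418 W) (hW' : WordsLt 418 W')
    {a b : List ℕ} (ha : a ∈ W) (hb : b ∈ W') : ∀ i ∈ a ++ b, i < 418 := by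
  intro i hi
  rcases List.mem_append.mp hi with h | h
  · exact hW a ha i h
  · exact hW' b hb i h

theorem cm_Qg : ∃ a ∈ Qg, ∃ b ∈ Qg, cm a b = zz := by
  obtain ⟨ha, hb, he⟩ := cm_ok
  refine ⟨prodW 315 pN pM cmA, mem_wgrp ha, prodW 315 pN pM cmB, mem_wgrp hb, ?_⟩
  have := eqWordB_prod (pM := pM) valid_all (lt_of_app WQ_lt WQ_lt ha hb) (w' := wz ++ (cmB ++ cmA))
    (by
      intro i hi
      rcases List.mem_append.mp hi with h | h
      · exact WQ_lt wz wz_mem i h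
      · exact lt_of_app WQ_lt WQ_lt hb ha i h) he
  rw [prodW_append, prodW_append, prodW_append] at this
  unfold cm zz
  rw [this]
  group

theorem disj_HQ : Disjoint Hg Qg := by
  rw [Subgroup.disjoint_def]
  intro x hxH hxQ
  obtain ⟨w, hw, rfl⟩ := mem_Hg hxH
  obtain ⟨w', hw', e⟩ := mem_Qg hxQ
  rcases disj_ok w hw with h | h
  · rw [h]; rfl
  · exact absurd e.symm (eqWordB_ne valid_all (WH_lt w hw) (WQ_lt w' hw') (h w' hw'))

theorem WA_zero : WA.getD 0 [] = [] := by decide +kernel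

theorem WA_len : WA.length = 12 := by decide +kernel

theorem core_Ag : ∀ x ∈ Ag, x ≠ 1 → ∃ h ∈ Hg, h * x * h⁻¹ ∉ Ag := by
  intro x hx hne
  obtain ⟨w, hw, rfl⟩ := mem_Ag hx
  obtain ⟨k', hk', ek⟩ := List.getElem_of_mem hw
  have e0 : w = WA.getD k' [] := by
    rw [← ek]
    exact (List.getD_eq_getElem _ _ _).symm
  have hk2 : k' < 12 := by rw [← WA_len]; exact hk'
  rcases Nat.eq_zero_or_pos k' with h0 | hpos
  · exfalso
    apply hne
    rw [e0, h0, WA_zero]
    rfl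
  · obtain ⟨k, rfl⟩ : ∃ k, k' = k + 1 := ⟨k' - 1, by omega⟩
    have hk : k < 11 := by omega
    obtain ⟨hmem, hall⟩ := core_ok k hk
    rw [← e0] at hall
    refine ⟨prodW 315 pN pM (coreW.getD k []), mem_wgrp hmem, ?_⟩
    intro hin
    obtain ⟨a, ha, e⟩ := mem_Ag hin
    have := eqWordB_ne (pM := pM) valid_all (lt_of_app WH_lt WA_lt hmem hw)
      (lt_of_app WA_lt WH_lt ha hmem) (hall a ha)
    apply this
    rw [prodW_append, prodW_append, e]
    group

/-- the structure of the stabiliser -/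
theorem centLite_C0 : CentLite ↥C0 :=
  centLite_of_data C0 Qg Hg Ag zz Qg_le Hg_le Ag_le norm_Qg data_Qg cm_Qg card_Qg card_C0
    card_Hg disj_HQ card_Ag core_Ag

end Cfsg.Agent.Lib.Helper8.J2C
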