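import Cfsg.Agent.Lib.Helper8.J2C4
import Cfsg.Agent.Lib.Helper8.IcoG3

set_option autoImplicit false
set_option linter.unusedVariables false
set_option linter.unusedSectionVars false
set_option linter.style.haveILetI false
set_option maxRecDepth 100000

/-! The centraliser of a reflection in the Hall–Janko group. -/

namespace Cfsg.Agent.Lib.Helper8.J2C

open Cfsg.Agent.Lib.Helper8.SS Cfsg.Agent.Lib.Helper8.J2L Cfsg.Agent.Lib.Helper8.Ico Cfsg.Spor
  MulAction

/-- the first base point -/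
def x0 : Fin 315 := ⟨0, by norm_num⟩

theorem S1_fix : ∀ i ∈ L1.S, get (pN i) 0 = 0 := by decide +kernel

theorem U0_lt : ∀ i ∈ L0.U, i < 418 := lv0.2.2.1

theorem C0_fix : ∀ g ∈ C0, g x0 = x0 :=
  grp_fix (pM := pM) valid_all S1_lt (by norm_num) S1_fix

theorem stab_mem {g : Equiv.Perm (Fin 315)} (hg : g ∈ J2L.K) (hfix : g x0 = x0) : g ∈ C0 := by
  haveI := prim.toIsPretransitive
  have hidx : (stabilizer ↥J2L.K x0).index = 315 := by
    rw [index_stabilizer_of_transitive]
    simp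
  have hcard : Nat.card (stabilizer ↥J2L.K x0) = 1920 := by
    have h := (stabilizer ↥J2L.K x0).card_mul_index
    rw [hidx] at h
    have hK : Nat.card ↥J2L.K = 604800 := card_K
    rw [hK] at h
    omega
  have hle : C0.subgroupOf J2L.K ≤ stabilizer ↥J2L.K x0 := by
    intro c hc
    rw [Subgroup.mem_subgroupOf] at hc
    rw [mem_stabilizer_iff]
    exact C0_fix c.1 hc
  have hcard' : Nat.card (C0.subgroupOf J2L.K) = 1920 := by
    rw [Nat.card_congr (Subgroup.subgroupOfEquivOfLe C0_le_K).toEquiv, card_C0]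
  have heq : C0.subgroupOf J2L.K = stabilizer ↥J2L.K x0 :=
    Subgroup.eq_of_le_of_card_ge hle (by rw [hcard, hcard'])
  have hm : (⟨g, hg⟩ : ↥J2L.K) ∈ stabilizer ↥J2L.K x0 := by
    rw [mem_stabilizer_iff]
    exact hfix
  rw [← heq, Subgroup.mem_subgroupOf] at hm
  exact hm

theorem lt_cons_wz {i : ℕ} (hi : i < 418) : ∀ j ∈ i :: wz, j < 418 := by
  intro j hj
  rcases List.mem_cons.mp hj with h | h
  · rw [h]; exact hi
  · exact WQ_lt wz wz_mem j h

theorem lt_wz_snoc {i : ℕ} (hi : i < 418) : ∀ j ∈ wz ++ [i], j < 418 := by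
  intro j hj
  rcases List.mem_append.mp hj with h | h
  · exact WQ_lt wz wz_mem j h
  · rw [List.mem_singleton] at h
    rw [h]; exact hi

theorem C0_comm : ∀ g ∈ C0, g * zz = zz * g := by
  have hle : C0 ≤ Subgroup.centralizer {zz} := by
    unfold C0 grp
    rw [Subgroup.closure_le]
    rintro _ ⟨i, hi, rfl⟩
    rw [SetLike.mem_coe, Subgroup.mem_centralizer_iff]
    intro y hy
    rw [Set.mem_singleton_iff] at hy
    rw [hy]
    have := eqWordB_prod (pM := pM) valid_all (lt_cons_wz (S1_lt i hi))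
      (lt_wz_snoc (S1_lt i hi)) (cent_ge i hi)
    rw [prodW_cons, prodW_append, prodW_cons, prodW_nil, mul_one] at this
    exact this.symm
  intro g hg
  exact (Subgroup.mem_centralizer_iff.mp (hle hg) zz rfl).symm

theorem cent_iff (g : Equiv.Perm (Fin 315)) : g ∈ C0 ↔ g ∈ J2L.K ∧ g * zz = zz * g := by
  constructor
  · intro hg
    exact ⟨C0_le_K hg, C0_comm g hg⟩
  · rintro ⟨hg, hc⟩
    obtain ⟨i, hi, e⟩ : ∃ i ∈ L0.U, get (pN i) 0 = (g x0).1 := by
      have := cover0 (g x0).1 (g x0).2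
      rw [List.mem_map] at this
      obtain ⟨i, hi, e⟩ := this
      exact ⟨i, hi, e⟩
    have hi418 : i < 418 := U0_lt i hi
    have hPi : P 315 pN pM i ∈ J2L.K := U0_mem i hi
    have hPx : (P 315 pN pM i) x0 = g x0 := by
      apply Fin.ext
      rw [P_apply_val valid_all hi418]
      exact e
    have hhK : (P 315 pN pM i)⁻¹ * g ∈ J2L.K := J2L.K.mul_mem (J2L.K.inv_mem hPi) hg
    have hfix : ((P 315 pN pM i)⁻¹ * g) x0 = x0 := by
      rw [Equiv.Perm.mul_apply, ← hPx]
      exact (P 315 pN pM i).symm_apply_apply x0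
    have hcomm := C0_comm _ (stab_mem hhK hfix)
    have hPc : P 315 pN pM i * zz = zz * P 315 pN pM i := by
      have e1 : zz = (P 315 pN pM i)⁻¹ * g * zz * ((P 315 pN pM i)⁻¹ * g)⁻¹ := by
        rw [hcomm]; group
      calc P 315 pN pM i * zz
          = P 315 pN pM i * ((P 315 pN pM i)⁻¹ * g * zz * ((P 315 pN pM i)⁻¹ * g)⁻¹) := by
            rw [← e1]
        _ = g * zz * g⁻¹ * P 315 pN pM i := by group
        _ = zz * P 315 pN pM i := by rw [hc]; group
    rcases cent_le i hi with h0 | hne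
    · subst h0
      have hgx : g x0 = x0 := by
        rw [← hPx]
        apply Fin.ext
        rw [P_apply_val valid_all hi418]
        exact id_tab 0 (by norm_num)
      exact stab_mem hg hgx
    · exfalso
      have := eqWordB_ne (pM := pM) valid_all (lt_cons_wz hi418) (lt_wz_snoc hi418) hne
      rw [prodW_cons, prodW_append, prodW_cons, prodW_nil, mul_one] at this
      exact this hPc

theorem zz_mem_K : zz ∈ J2L.K := C0_le_K (Qg_le data_Qg.zQ)

theorem m102 : 102 ∈ L0.U := by decide +kernel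

theorem zz_eq : piU (tU x0) = zz := by
  have hm : P 315 pN pM 102 ∈ T4U.map piU := by
    rw [map_T4U]
    exact U0_mem 102 m102
  obtain ⟨h, hh, e⟩ := hm
  have e2 : h • x0 = G1 := by
    rw [← piU_apply, e]
    apply Fin.ext
    rw [P_apply_val valid_all (by norm_num)]
    exact u_img
  have e3 := conj_tU e2
  have e4 : piU h * piU (tU x0) * (piU h)⁻¹ = piU (tU G1) := by
    rw [← map_inv, ← map_mul, ← map_mul, e3]
  rw [e, pi1] at e4
  have e5 := eqWordB_prod (pM := pM) valid_all (lt_cons_wz (by norm_num : 102 < 418))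
    (w' := [1, 102]) (by decide) wz_conj
  rw [prodW_cons, prodW_cons, prodW_cons, prodW_nil, mul_one] at e5
  change P 315 pN pM 102 * zz = _ at e5
  calc piU (tU x0)
      = (P 315 pN pM 102)⁻¹ * (P 315 pN pM 102 * piU (tU x0) * (P 315 pN pM 102)⁻¹) *
          P 315 pN pM 102 := by group
    _ = (P 315 pN pM 102)⁻¹ * (P 315 pN pM 102 * zz) := by rw [e4, mul_assoc, ← e5]
    _ = zz := by group

theorem conj_zz (k : Fin 315) : ∃ σ ∈ J2L.K, σ * zz * σ⁻¹ = piU (tU k) := by
  haveI := prim.toIsPretransitive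
  obtain ⟨σ, hσ⟩ := MulAction.exists_smul_eq J2L.K x0 k
  have hm : σ.1 ∈ T4U.map piU := by
    rw [map_T4U]
    exact σ.2
  obtain ⟨h, hh, e⟩ := hm
  have e2 : h • x0 = k := by
    rw [← piU_apply, e]
    exact hσ
  refine ⟨σ.1, σ.2, ?_⟩
  rw [← zz_eq, ← e, ← map_inv, ← map_mul, ← map_mul, conj_tU e2]

theorem cent_congr_eq {G G' : Type*} [Group G] [Group G'] (e : G ≃* G') (x : G) (y : G')
    (h : e x = y) : Nonempty (↥(Subgroup.centralizer ({x} : Set G)) ≃*
      ↥(Subgroup.centralizer ({y} : Set G'))) := by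
  subst h
  exact cent_congr e x

theorem J2iso_mk (g : twoJ2) : (J2iso (QuotientGroup.mk g)).1 = phi g := rfl

/-- the centraliser of a reflection in the Hall–Janko group -/
theorem cent_refl (f : Equiv.Perm icoLeech) (hf : IsIcoReflection f) (hfm : f ∈ twoJ2) :
    CentLite ↥(Subgroup.centralizer {(QuotientGroup.mk ⟨f, hfm⟩ : J2)}) := by
  obtain ⟨k, rfl⟩ := refl_eq_tU hf
  obtain ⟨σ, hσ, e⟩ := conj_zz k
  have hJ : J2iso (QuotientGroup.mk ⟨(tU k).1, hfm⟩) =
      (⟨σ, hσ⟩ : ↥J2L.K) * ⟨zz, zz_mem_K⟩ * (⟨σ, hσ⟩ : ↥J2L.K)⁻¹ := by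
    apply Subtype.ext
    rw [J2iso_mk]
    show _ = σ * zz * σ⁻¹
    rw [e]
    rfl
  obtain ⟨e1⟩ := cent_congr_eq J2iso _ _ hJ
  obtain ⟨e2⟩ := cent_conj (⟨σ, hσ⟩ : ↥J2L.K) ⟨zz, zz_mem_K⟩
  obtain ⟨e3⟩ := cent_sub J2L.K C0 zz zz_mem_K cent_iff
  exact centLite_C0.congr (e3.symm.trans (e2.trans e1.symm))

end Cfsg.Agent.Lib.Helper8.J2C
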