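import Cfsg.Agent.Lib.Helper8.J3zj

set_option autoImplicit false
set_option linter.unusedVariables false
set_option linter.unusedSectionVars false
set_option linter.style.haveILetI false

/-! Abstract group theory: the 2-fusion system of a group in which the centraliser of a
2-central involution is known and the Sylow 2-subgroup is generated along a chain of fusions. -/

namespace Cfsg.Agent.Lib.Helper8.J2F

open Cfsg Cfsg.FusionSystem Cfsg.Agent.Lib.Helper2.SimpCrit2 Cfsg.Agent.Lib.Helper2.SimpCrit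
  Cfsg.Agent.Lib.Helper8.J3A

/-- a nontrivial normal subgroup of a finite `p`-group contains a nontrivial central element -/
theorem exists_central_of_normal {U : Type*} [Group U] [Finite U] {p : ℕ} [Fact p.Prime]
    (hU : IsPGroup p U) (T : Subgroup U) [T.Normal] (hT : T ≠ ⊥) :
    ∃ t ∈ T, t ≠ 1 ∧ ∀ u : U, u * t = t * u := by
  have hTp : IsPGroup p T := hU.to_subgroup T
  have dvd : p ∣ Nat.card T := by
    haveI : Nontrivial T := (Subgroup.nontrivial_iff_ne_bot T).mpr hT
    obtain ⟨n, hn0, hn⟩ := hTp.nontrivial_iff_card.mp inferInstance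
    exact hn.symm ▸ dvd_pow_self _ (ne_of_gt hn0)
  have h1 : (1 : T) ∈ MulAction.fixedPoints (ConjAct U) T := by
    intro g
    exact smul_one g
  obtain ⟨b, hb, hne⟩ := (hU.of_equiv ConjAct.toConjAct).exists_fixed_point_of_prime_dvd_card_of_fixed_point
    T dvd h1
  refine ⟨b.1, b.2, fun h => hne (Subtype.ext h.symm), ?_⟩
  intro u
  have := hb (ConjAct.toConjAct u)
  have h2 : ((ConjAct.toConjAct u) • b : T).1 = u * b.1 * u⁻¹ := by
    rw [ConjAct.Subgroup.val_conj_smul, ConjAct.smul_def]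
    rfl
  rw [this] at h2
  calc u * b.1 = (u * b.1 * u⁻¹) * u := by group
    _ = b.1 * u := by rw [← h2]

theorem fusion_simple2 {C G G' : Type*} [Group C] [Group G] [Group G'] [Finite C] [Finite G]
    [Finite G'] (τ : C →* G) (hτ : Function.Injective τ) (z' : C) (S' R' : Subgroup C)
    (XQ X Y : Set C)
    (h1 : ∀ g : G, g * τ z' = τ z' * g → ∃ c : C, τ c = g)
    (hXQ : R' ≤ Subgroup.closure XQ)
    (hXQ' : ∀ x ∈ XQ, x ∈ S' ∧ ∃ g : G, g * τ z' * g⁻¹ = τ x)
    (hX : S' ≤ Subgroup.closure X)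
    (hX' : ∀ x ∈ X, x ∈ S' ∧ ∃ g : G, ∃ t ∈ R', g * τ t * g⁻¹ = τ x)
    (h4 : R' ≤ S') (h4' : ∀ c : C, ∀ r ∈ R', c * r * c⁻¹ ∈ R')
    (h4'' : ∀ c : C, (∀ r ∈ R', c * r = r * c) → c ∈ R')
    (h5 : z' ∈ S') (h5' : ∀ s ∈ S', (∀ s' ∈ S', s * s' = s' * s) → s = 1 ∨ s = z')
    (h5'' : z' ≠ 1) (h5''' : ∀ c : C, c * z' = z' * c)
    (h6 : (⊤ : Subgroup C) = Subgroup.closure Y) (h6' : ∀ y ∈ Y, y * y = 1)
    (h7 : IsPGroup 2 S')
    (ψ : G →* G') (hψ : Function.Bijective ψ) (S : Sylow 2 G')
    (hSU : (S : Subgroup G') = (S'.map τ).map ψ) :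
    (groupFusionSystem (S : Subgroup G')).IsSimple 2 := by
  haveI : Fact (Nat.Prime 2) := ⟨Nat.prime_two⟩
  have hker : ψ.ker = ⊥ := (MonoidHom.ker_eq_bot_iff ψ).mpr hψ.injective
  have hU : IsPGroup 2 (S'.map τ) := h7.map τ
  have hzS : z' ≠ 1 := h5''
  have hU1 : S'.map τ ≠ ⊥ := by
    intro h
    have : τ z' ∈ S'.map τ := Subgroup.mem_map_of_mem τ h5
    rw [h, Subgroup.mem_bot] at this
    apply h5''
    apply hτ
    rw [this, map_one]
  -- conjugation by an element of the image of `C` preserves the image of `R'`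
  have hRn : ∀ c : C, ∀ r ∈ R'.map τ, τ c * r * (τ c)⁻¹ ∈ R'.map τ := by
    rintro c _ ⟨r, hr, rfl⟩
    rw [← map_inv, ← map_mul, ← map_mul]
    exact Subgroup.mem_map_of_mem τ (h4' c r hr)
  have hRN : ∀ c : C, τ c ∈ Subgroup.normalizer ((R'.map τ : Subgroup G) : Set G) := by
    intro c
    apply mem_normalizer_of_conj_mem
    · exact hRn c
    · intro r hr
      have := hRn c⁻¹ r hr
      rwa [map_inv, inv_inv] at this
  -- the normaliser of the image of `S'` centralises the image of `z'`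
  have hNz : ∀ y ∈ Subgroup.normalizer ((S'.map τ : Subgroup G) : Set G),
      y * τ z' = τ z' * y := by
    intro y hy
    have hyi : y⁻¹ ∈ Subgroup.normalizer ((S'.map τ : Subgroup G) : Set G) := inv_mem hy
    have hw : y * τ z' * y⁻¹ ∈ S'.map τ :=
      (Subgroup.mem_normalizer_iff.mp hy _).mp (Subgroup.mem_map_of_mem τ h5)
    obtain ⟨s, hs, hsw⟩ := hw
    have hscen : ∀ s' ∈ S', s * s' = s' * s := by
      intro s' hs'
      apply hτ
      rw [map_mul, map_mul, hsw]
      have hu' : y⁻¹ * τ s' * y⁻¹⁻¹ ∈ S'.map τ :=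
        (Subgroup.mem_normalizer_iff.mp hyi _).mp (Subgroup.mem_map_of_mem τ hs')
      obtain ⟨s'', hs'', e⟩ := hu'
      rw [inv_inv] at e
      have e2 : τ s' = y * τ s'' * y⁻¹ := by rw [e]; group
      have hc : τ z' * τ s'' = τ s'' * τ z' := by
        rw [← map_mul, ← map_mul, ← h5''' s'']
      rw [e2]
      calc y * τ z' * y⁻¹ * (y * τ s'' * y⁻¹) = y * (τ z' * τ s'') * y⁻¹ := by group
        _ = y * (τ s'' * τ z') * y⁻¹ := by rw [hc]
        _ = y * τ s'' * y⁻¹ * (y * τ z' * y⁻¹) := by group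
    rcases h5' s hs hscen with h | h
    · exfalso
      rw [h, map_one] at hsw
      apply h5''
      apply hτ
      rw [map_one]
      calc τ z' = y⁻¹ * (y * τ z' * y⁻¹) * y := by group
        _ = 1 := by rw [← hsw]; group
    · rw [h] at hsw
      calc y * τ z' = (y * τ z' * y⁻¹) * y := by group
        _ = τ z' * y := by rw [← hsw]
  apply simple_of_cover ψ hψ.surjective (by rw [hker]; exact bot_le)
    (by
      intro z hz _ _
      rw [hker] at hz
      exact Subgroup.mem_bot.mp hz)
    (S'.map τ) hU hU1 S hSU ?_ {R'.map τ} ?_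
    ((Subgroup.normalizer ((S'.map τ : Subgroup G) : Set G) : Subgroup G) : Set G) ?_ ?_
  · -- no strongly closed subgroups
    intro T hTU hT1 hcl
    apply le_antisymm hTU
    -- `T` is normal in the image of `S'`
    haveI hTn : (T.subgroupOf (S'.map τ)).Normal := by
      constructor
      intro n hn g
      rw [Subgroup.mem_subgroupOf] at hn ⊢
      have hmem : (g : G) * (n : G) * (g : G)⁻¹ ∈ S'.map τ :=
        (S'.map τ).mul_mem ((S'.map τ).mul_mem g.2 n.2) ((S'.map τ).inv_mem g.2)
      exact hcl _ hn _ hmem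
    have hT1' : T.subgroupOf (S'.map τ) ≠ ⊥ := by
      intro h
      apply hT1
      rw [Subgroup.subgroupOf_eq_bot] at h
      rw [eq_bot_iff]
      intro x hx
      have : x ∈ T ⊓ S'.map τ := ⟨hx, hTU hx⟩
      rw [disjoint_iff.mp h] at this
      exact this
    haveI : Finite ↥(S'.map τ) := inferInstance
    obtain ⟨t, ht, htne, htc⟩ := exists_central_of_normal (p := 2) hU (T.subgroupOf (S'.map τ)) hT1'
    rw [Subgroup.mem_subgroupOf] at ht
    obtain ⟨s, hs, hst⟩ := t.2
    have hscen : ∀ s' ∈ S', s * s' = s' * s := by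
      intro s' hs'
      apply hτ
      rw [map_mul, map_mul, hst]
      have := htc ⟨τ s', Subgroup.mem_map_of_mem τ hs'⟩
      exact (congrArg Subtype.val this).symm
    have hzT : τ z' ∈ T := by
      rcases h5' s hs hscen with h | h
      · exfalso
        apply htne
        apply Subtype.ext
        rw [← hst, h, map_one]
        rfl
      · rw [← h, hst]
        exact ht
    have hRT : R'.map τ ≤ T := by
      rw [Subgroup.map_le_iff_le_comap]
      refine hXQ.trans ?_
      rw [Subgroup.closure_le]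
      intro x hx
      obtain ⟨hxS, g, hg⟩ := hXQ' x hx
      show τ x ∈ T
      rw [← hg]
      apply hcl _ hzT g
      rw [hg]
      exact Subgroup.mem_map_of_mem τ hxS
    rw [Subgroup.map_le_iff_le_comap]
    refine hX.trans ?_
    rw [Subgroup.closure_le]
    intro x hx
    obtain ⟨hxS, g, t', ht', hg⟩ := hX' x hx
    show τ x ∈ T
    rw [← hg]
    apply hcl _ (hRT (Subgroup.mem_map_of_mem τ ht')) g
    rw [hg]
    exact Subgroup.mem_map_of_mem τ hxS
  · -- the centric subgroup
    intro R hR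
    rw [Set.mem_singleton_iff] at hR
    subst hR
    refine ⟨Subgroup.map_mono h4, ?_, ?_⟩
    · rintro _ ⟨s, hs, rfl⟩ r hr
      exact hRn s r hr
    · rintro _ ⟨s, hs, rfl⟩ hcomm
      apply Subgroup.mem_map_of_mem
      apply h4''
      intro r hr
      apply hτ
      rw [map_mul, map_mul]
      exact hcomm _ (Subgroup.mem_map_of_mem τ hr)
  · -- the normaliser is generated by 2-elements normalising `R'`
    intro y hy
    refine ⟨hy, R'.map τ, rfl, ?_⟩
    obtain ⟨c, rfl⟩ := h1 y (hNz y hy)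
    have hc : c ∈ Subgroup.closure Y := by rw [← h6]; exact Subgroup.mem_top c
    have hle : (Subgroup.closure Y).map τ ≤ Subgroup.closure
        {z : G | z ∈ Subgroup.normalizer ((R'.map τ : Subgroup G) : Set G) ∧
          ∃ k : ℕ, z ^ 2 ^ k = 1} := by
      rw [MonoidHom.map_closure, Subgroup.closure_le]
      rintro _ ⟨y0, hy0, rfl⟩
      apply Subgroup.subset_closure
      refine ⟨hRN y0, 1, ?_⟩
      rw [pow_one, pow_two, ← map_mul, h6' y0 hy0, map_one]
    exact hle (Subgroup.mem_map_of_mem τ hc)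
  · exact Subgroup.subset_closure.trans (Subgroup.closure_mono Set.subset_union_left)

end Cfsg.Agent.Lib.Helper8.J2F
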