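import Cfsg.Agent.Lib.Helper8.SSW

set_option autoImplicit false
set_option linter.unusedSectionVars false
set_option linter.unusedVariables false

/-! Subgroups of a permutation group given by generator words and an explicit list of all their
elements as words, with boolean certificates. -/

namespace Cfsg.Agent.Lib.Helper8.SS

open Cfsg.Agent.Lib.Helper8.FastDec Cfsg.Agent.Lib.Helper8.MatN

variable (n : ℕ) [NeZero n] (pN pM : ℕ → ℕ) (np : ℕ)

/-- left multiplication table of words by generator words (boolean) -/
noncomputable def genTabB (GW W T : List (List ℕ)) : Bool :=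
  allLt GW.length (fun a => allLt W.length (fun b =>
    withVal (nthR (nthR T a []) b 0) (fun c => Nat.blt c W.length &&
      eqWordB n pN (nthR GW a [] ++ nthR W b []) (nthR W c []))))

/-- each word is a generator word times an earlier word (boolean) -/
noncomputable def genTreeB (GW W : List (List ℕ)) (tree : List (ℕ × ℕ)) : Bool :=
  allLt W.length (fun m => Nat.beq m 0 ||
    withVal (nthR tree m (0, 0)).1 (fun g => withVal (nthR tree m (0, 0)).2 (fun q =>
      Nat.blt g GW.length && (Nat.blt q m &&
        eqWordB n pN (nthR W m []) (nthR GW g [] ++ nthR W q [])))))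

variable {n pN pM np}

theorem gen_mul (hv : ∀ i < np, Valid n (pN i) (pM i)) {GW W T : List (List ℕ)}
    (hG : WordsLt np GW) (hW : WordsLt np W) (h : genTabB n pN GW W T = true) :
    ∀ s ∈ wset n pN pM GW, ∀ t ∈ wset n pN pM W, s * t ∈ wset n pN pM W := by
  rintro _ ⟨w, hw, rfl⟩ _ ⟨w', hw', rfl⟩
  obtain ⟨a, ha, rfl⟩ := List.getElem_of_mem hw
  obtain ⟨b, hb, rfl⟩ := List.getElem_of_mem hw'
  unfold genTabB at h
  rw [allLt_iff] at h
  have h1 := h a ha
  rw [allLt_iff] at h1
  have h2 := h1 b hb
  rw [withVal_eq, Bool.and_eq_true, blt_iff, nthR_eq, nthR_eq, nthR_eq, nthR_eq, nthR_eq] at h2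
  obtain ⟨hc, he⟩ := h2
  rw [List.getD_eq_getElem _ _ ha, List.getD_eq_getElem _ _ hb, List.getD_eq_getElem _ _ hc] at he
  refine ⟨W[(T.getD a []).getD b 0], List.getElem_mem hc, ?_⟩
  rw [← prodW_append]
  refine (eqWordB_prod hv ?_ (hW _ (List.getElem_mem hc)) he).symm
  intro i hi
  rcases List.mem_append.mp hi with h | h
  · exact hG _ (List.getElem_mem ha) i h
  · exact hW _ (List.getElem_mem hb) i h

theorem mem_wset_of_gen (hv : ∀ i < np, Valid n (pN i) (pM i)) {GW W T : List (List ℕ)}
    (hG : WordsLt np GW) (hW : WordsLt np W) (h : genTabB n pN GW W T = true) (h1 : [] ∈ W) :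
    ∀ g ∈ wgrp n pN pM GW, g ∈ wset n pN pM W := by
  intro g hg
  have := closure_mul_mem (gen_mul hv hG hW h) g hg 1 ⟨[], h1, rfl⟩
  rwa [mul_one] at this

theorem gen_tree_mem (hv : ∀ i < np, Valid n (pN i) (pM i)) {GW W : List (List ℕ)}
    {tree : List (ℕ × ℕ)} (hG : WordsLt np GW) (hW : WordsLt np W) (h0 : W.getD 0 [] = [])
    (h : genTreeB n pN GW W tree = true) : ∀ w ∈ W, prodW n pN pM w ∈ wgrp n pN pM GW := by
  unfold genTreeB at h
  rw [allLt_iff] at h
  have key : ∀ m, m < W.length → prodW n pN pM (W.getD m []) ∈ wgrp n pN pM GW := by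
    intro m
    induction m using Nat.strong_induction_on with
    | _ m ih =>
      intro hm
      have := h m hm
      rw [Bool.or_eq_true] at this
      rcases this with hz | hstep
      · have : m = 0 := Nat.eq_of_beq_eq_true hz
        rw [this, h0, prodW_nil]
        exact Subgroup.one_mem _
      · rw [withVal_eq, withVal_eq, Bool.and_eq_true, Bool.and_eq_true, blt_iff, blt_iff,
          nthR_eq, nthR_eq, nthR_eq, nthR_eq] at hstep
        obtain ⟨hg, hq, he⟩ := hstep
        have hql : (tree.getD m (0, 0)).2 < W.length := lt_trans hq hm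
        have hgm : GW.getD (tree.getD m (0, 0)).1 [] ∈ GW := by
          rw [List.getD_eq_getElem _ _ hg]
          exact List.getElem_mem hg
        have hqm : W.getD (tree.getD m (0, 0)).2 [] ∈ W := by
          rw [List.getD_eq_getElem _ _ hql]
          exact List.getElem_mem hql
        have hmm : W.getD m [] ∈ W := by
          rw [List.getD_eq_getElem _ _ hm]
          exact List.getElem_mem hm
        have e := eqWordB_prod (pM := pM) hv (hW _ hmm) (w' := GW.getD (tree.getD m (0, 0)).1 [] ++
          W.getD (tree.getD m (0, 0)).2 []) (by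
            intro i hi
            rcases List.mem_append.mp hi with h | h
            · exact hG _ hgm i h
            · exact hW _ hqm i h) he
        rw [e, prodW_append]
        exact Subgroup.mul_mem _ (mem_wgrp hgm) (ih _ hq hql)
  intro w hw
  obtain ⟨m, hm, rfl⟩ := List.getElem_of_mem hw
  have := key m hm
  rwa [List.getD_eq_getElem _ _ hm] at this

theorem card_gen (hv : ∀ i < np, Valid n (pN i) (pM i)) {GW W T : List (List ℕ)}
    {tree : List (ℕ × ℕ)} (hG : WordsLt np GW) (hW : WordsLt np W)
    (h : genTabB n pN GW W T = true) (h1 : [] ∈ W) (h0 : W.getD 0 [] = [])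
    (ht : genTreeB n pN GW W tree = true) (pts : List ℕ)
    (hp : ∀ x ∈ pts, x < n) (hnd : nodupB (W.map (fpW pN pts)) = true) :
    Nat.card (wgrp n pN pM GW) = W.length := by
  have hnd' := nodup_of_nodupB _ hnd
  have hmem := gen_tree_mem (pM := pM) hv hG hW h0 ht
  let f : Fin W.length → wgrp n pN pM GW := fun i =>
    ⟨prodW n pN pM W[i], hmem _ (List.getElem_mem i.2)⟩
  have hf : Function.Bijective f := by
    constructor
    · intro i j hij
      have e : prodW n pN pM W[i] = prodW n pN pM W[j] := congrArg Subtype.val hij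
      have e2 := fpW_eq hv hp (hW _ (List.getElem_mem i.2)) (hW _ (List.getElem_mem j.2)) e
      apply Fin.ext
      have hi : i.1 < (W.map (fpW pN pts)).length := by rw [List.length_map]; exact i.2
      have hj : j.1 < (W.map (fpW pN pts)).length := by rw [List.length_map]; exact j.2
      have e3 : (W.map (fpW pN pts))[i.1] = (W.map (fpW pN pts))[j.1] := by
        rw [List.getElem_map, List.getElem_map]
        exact e2
      exact (hnd'.getElem_inj_iff).mp e3
    · rintro ⟨g, hg⟩
      obtain ⟨w, hw, rfl⟩ := mem_wset_of_gen hv hG hW h h1 g hg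
      obtain ⟨a, ha, rfl⟩ := List.getElem_of_mem hw
      exact ⟨⟨a, ha⟩, rfl⟩
  rw [← Nat.card_eq_of_bijective f hf, Nat.card_fin]

end Cfsg.Agent.Lib.Helper8.SS
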