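import Cfsg.Agent.Lib.Helper8.J2F2
import Cfsg.Agent.Lib.Helper8.SSV

set_option autoImplicit false
set_option maxHeartbeats 0
set_option maxRecDepth 1000000

/-! The 2-fusion system of the permutation group of degree 315: certificates. -/

namespace Cfsg.Agent.Lib.Helper8.J2F

open Cfsg.Agent.Lib.Helper8.SS Cfsg.Agent.Lib.Helper8.J2L Cfsg.Agent.Lib.Helper8.J2C

theorem GS_lt : WordsLt 418 GS := by decide +kernel

theorem WS_lt : WordsLt 418 WS := by decide +kernel

theorem GS_deep : ∀ w ∈ GS, ∀ i ∈ w, i ∈ deepOf [L1, L2, L3] := by decide +kernel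

theorem tabS : genTabB 315 pN GS WS LTS = true := by decide +kernel

theorem treeS_ok : genTreeB 315 pN GS WS treeS = true := by decide +kernel

theorem nilS : [] ∈ WS := by decide +kernel

theorem WS_zero : WS.getD 0 [] = [] := by decide +kernel

theorem fpS : nodupB (WS.map (fpW pN pts)) = true := by decide +kernel

theorem WS_len : WS.length = 128 := by decide +kernel

theorem WQ_sub : ∀ w ∈ WQ, w ∈ WS := by decide +kernel

theorem GS_eq : GS = XQW ++ X5W := by decide +kernel

theorem XQW_sub : ∀ w ∈ XQW, w ∈ WQ := by decide +kernel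

theorem QXP_ok : ∀ m < 32, (∀ i ∈ QXP.getD m [], i < 4) ∧
    eqWordB 315 pN (WQ.getD m []) ((QXP.getD m []).flatMap (fun i => XQW.getD i [])) = true := by
  decide +kernel

theorem WQ_len : WQ.length = 32 := by decide +kernel

theorem XQC_ok : ∀ k < 4, (∀ i ∈ XQC.getD k [], i ∈ L0.U) ∧
    eqWordB 315 pN (XQC.getD k [] ++ wz) (XQW.getD k [] ++ XQC.getD k []) = true := by
  decide +kernel

theorem XQW_len : XQW.length = 4 := by decide +kernel

theorem X5_ok : ∀ k < 2, X5T.getD k [] ∈ WQ ∧
    (∀ i ∈ X5C.getD k [], i ∈ deepOf [L0, L1, L2, L3]) ∧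
    eqWordB 315 pN (X5C.getD k [] ++ X5T.getD k []) (X5W.getD k [] ++ X5C.getD k []) = true := by
  decide +kernel

theorem X5W_len : X5W.length = 2 := by decide +kernel

theorem WH_len : WH.length = 60 := by decide +kernel

theorem RH_ok : ∀ k < 59, RH.getD k [] ∈ WQ ∧
    eqWordB 315 pN (WH.getD (k + 1) [] ++ RH.getD k []) (RH.getD k [] ++ WH.getD (k + 1) []) =
      false ∧
    eqWordB 315 pN (WH.getD (k + 1) [] ++ RH.getD k [])
      (wz ++ (RH.getD k [] ++ WH.getD (k + 1) [])) = false := by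
  decide +kernel

theorem WH_zero : WH.getD 0 [] = [] := by decide +kernel

theorem YW_ok : ∀ y ∈ YW, (∀ i ∈ y, i ∈ deepOf [L1, L2, L3]) ∧
    eqWordB 315 pN (y ++ y) [] = true := by decide +kernel

theorem genY_ok : ∀ a < 5, (∀ y ∈ genY.getD a [], y ∈ YW) ∧
    eqWordB 315 pN [L1.S.getD a 0] (genY.getD a []).flatten = true := by decide +kernel

theorem S1_len : L1.S.length = 5 := by decide +kernel

end Cfsg.Agent.Lib.Helper8.J2F
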