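import Cfsg.Agent.Lib.Helper8.J2F1
import Cfsg.Agent.Lib.Helper8.J2F3
import Cfsg.Agent.Lib.Helper8.J2C5

set_option autoImplicit false
set_option linter.unusedVariables false
set_option linter.unusedSectionVars false
set_option linter.style.haveILetI false
set_option maxRecDepth 100000

/-! The 2-fusion system of the permutation group of degree 315: the subgroups. -/

namespace Cfsg.Agent.Lib.Helper8.J2F

open Cfsg.Agent.Lib.Helper8.SS Cfsg.Agent.Lib.Helper8.J2L Cfsg.Agent.Lib.Helper8.J2C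
  Cfsg.Agent.Lib.Helper4.ES2

/-- a Sylow 2-subgroup of the centraliser -/
noncomputable def Sg : Subgroup (Equiv.Perm (Fin 315)) := wgrp 315 pN pM GS

theorem card_Sg : Nat.card Sg = 128 := by
  have := card_gen (pM := pM) valid_all GS_lt WS_lt tabS nilS WS_zero treeS_ok pts pts_lt fpS
  rw [WS_len] at this
  exact this

theorem mem_Sg_of {w : List ℕ} (hw : w ∈ WS) : prodW 315 pN pM w ∈ Sg :=
  gen_tree_mem valid_all GS_lt WS_lt WS_zero treeS_ok w hw

theorem Sg_le : Sg ≤ C0 := wgrp_le fun w hw i hi => deep_mem i (GS_deep w hw i hi)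

theorem Qg_le_Sg : Qg ≤ Sg := by
  unfold Qg wgrp
  rw [Subgroup.closure_le]
  rintro _ ⟨w, hw, rfl⟩
  exact mem_Sg_of (WQ_sub w hw)

theorem zz_mem_Sg : zz ∈ Sg := Qg_le_Sg data_Qg.zQ

/-- every element of the centraliser is a product of an element of `Q` and one of the
complement -/
theorem decomp (c : Equiv.Perm (Fin 315)) (hc : c ∈ C0) : ∃ q ∈ Qg, ∃ h ∈ Hg, c = q * h := by
  let f : ↥Qg × ↥Hg → ↥C0 := fun p => ⟨p.1.1 * p.2.1, C0.mul_mem (Qg_le p.1.2) (Hg_le p.2.2)⟩
  have hinj : Function.Injective f := by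
    rintro ⟨q, h⟩ ⟨q', h'⟩ e
    have e1 : q.1 * h.1 = q'.1 * h'.1 := congrArg Subtype.val e
    have e2 : q'.1⁻¹ * q.1 = h'.1 * h.1⁻¹ := by
      calc q'.1⁻¹ * q.1 = q'.1⁻¹ * (q.1 * h.1) * h.1⁻¹ := by group
        _ = h'.1 * h.1⁻¹ := by rw [e1]; group
    have hQ : q'.1⁻¹ * q.1 ∈ Qg := Qg.mul_mem (Qg.inv_mem q'.2) q.2
    have hH : q'.1⁻¹ * q.1 ∈ Hg := by rw [e2]; exact Hg.mul_mem h'.2 (Hg.inv_mem h.2)
    have h1 := (Subgroup.disjoint_def.mp disj_HQ) hH hQ
    have eq : q = q' := by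
      apply Subtype.ext
      calc q.1 = q'.1 * (q'.1⁻¹ * q.1) := by group
        _ = q'.1 := by rw [h1, mul_one]
    have eh : h = h' := by
      apply Subtype.ext
      rw [h1] at e2
      calc h.1 = (h'.1 * h.1⁻¹)⁻¹ * h'.1 := by group
        _ = h'.1 := by rw [← e2]; group
    rw [eq, eh]
  have hbij : Function.Bijective f := by
    apply Function.Injective.bijective_of_nat_card_le hinj
    rw [Nat.card_prod, card_Qg, card_Hg, card_C0]
  obtain ⟨⟨q, h⟩, e⟩ := hbij.2 ⟨c, hc⟩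
  exact ⟨q.1, q.2, h.1, h.2, (congrArg Subtype.val e).symm⟩

theorem getD_mem'' {l : List (List ℕ)} {m : ℕ} (hm : m < l.length) : l.getD m [] ∈ l := by
  rw [List.getD_eq_getElem _ _ hm]
  exact List.getElem_mem hm

/-- the centraliser of `Q` in the centraliser of the involution lies in `Q` -/
theorem cent_Q (c : Equiv.Perm (Fin 315)) (hc : c ∈ C0) (hcomm : ∀ r ∈ Qg, c * r = r * c) :
    c ∈ Qg := by
  obtain ⟨q, hq, h, hh, rfl⟩ := decomp c hc
  obtain ⟨wh, hwh, rfl⟩ := mem_Hg hh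
  obtain ⟨k', hk', ek⟩ := List.getElem_of_mem hwh
  have e0 : wh = WH.getD k' [] := by
    rw [← ek]
    exact (List.getD_eq_getElem _ _ _).symm
  have hk2 : k' < 60 := by rw [← WH_len]; exact hk'
  rcases Nat.eq_zero_or_pos k' with h0 | hpos
  · rw [e0, h0, WH_zero, prodW_nil, mul_one]
    exact hq
  · exfalso
    obtain ⟨k, rfl⟩ : ∃ k, k' = k + 1 := ⟨k' - 1, by omega⟩
    have hk : k < 59 := by omega
    obtain ⟨hr, hne1, hne2⟩ := RH_ok k hk
    rw [← e0] at hne1 hne2
    have hrQ : prodW 315 pN pM (RH.getD k []) ∈ Qg := mem_wgrp hr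
    have hc1 := hcomm _ hrQ
    have n1 := eqWordB_ne (pM := pM) valid_all (lt_of_app WH_lt WQ_lt hwh hr)
      (lt_of_app WQ_lt WH_lt hr hwh) hne1
    have n2 := eqWordB_ne (pM := pM) valid_all (lt_of_app WH_lt WQ_lt hwh hr)
      (w' := wz ++ (RH.getD k [] ++ wh)) (by
        intro i hi
        rcases List.mem_append.mp hi with h | h
        · exact WQ_lt wz wz_mem i h
        · exact lt_of_app WQ_lt WH_lt hr hwh i h) hne2
    rw [prodW_append, prodW_append] at n1
    rw [prodW_append, prodW_append, prodW_append] at n2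
    have hcm := data_Qg.comm_mem q⁻¹ (Qg.inv_mem hq) _ hrQ
    -- `h r = q⁻¹ r q h`
    have key : prodW 315 pN pM wh * prodW 315 pN pM (RH.getD k []) =
        q⁻¹ * prodW 315 pN pM (RH.getD k []) * q * prodW 315 pN pM wh := by
      calc prodW 315 pN pM wh * prodW 315 pN pM (RH.getD k [])
          = q⁻¹ * (q * prodW 315 pN pM wh * prodW 315 pN pM (RH.getD k [])) := by group
        _ = q⁻¹ * (prodW 315 pN pM (RH.getD k []) * (q * prodW 315 pN pM wh)) := by rw [hc1]
        _ = q⁻¹ * prodW 315 pN pM (RH.getD k []) * q * prodW 315 pN pM wh := by group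
    unfold cm at hcm
    rw [inv_inv] at hcm
    rcases hcm with h1 | h1
    · apply n1
      rw [key]
      have : q⁻¹ * prodW 315 pN pM (RH.getD k []) * q = prodW 315 pN pM (RH.getD k []) := by
        calc q⁻¹ * prodW 315 pN pM (RH.getD k []) * q
            = (q⁻¹ * prodW 315 pN pM (RH.getD k []) * q * (prodW 315 pN pM (RH.getD k []))⁻¹) *
              prodW 315 pN pM (RH.getD k []) := by group
          _ = prodW 315 pN pM (RH.getD k []) := by rw [h1, one_mul]
      rw [this]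
    · apply n2
      rw [key]
      have : q⁻¹ * prodW 315 pN pM (RH.getD k []) * q =
          prodW 315 pN pM wz * prodW 315 pN pM (RH.getD k []) := by
        calc q⁻¹ * prodW 315 pN pM (RH.getD k []) * q
            = (q⁻¹ * prodW 315 pN pM (RH.getD k []) * q * (prodW 315 pN pM (RH.getD k []))⁻¹) *
              prodW 315 pN pM (RH.getD k []) := by group
          _ = prodW 315 pN pM wz * prodW 315 pN pM (RH.getD k []) := by rw [h1]; rfl
      rw [this, mul_assoc]

/-- the centre of the Sylow 2-subgroup -/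
theorem center_Sg (s : Equiv.Perm (Fin 315)) (hs : s ∈ Sg) (hc : ∀ s' ∈ Sg, s * s' = s' * s) :
    s = 1 ∨ s = zz := by
  have hsQ : s ∈ Qg := cent_Q s (Sg_le hs) (fun r hr => hc r (Qg_le_Sg hr))
  exact data_Qg.center_sub s hsQ (fun q hq => (hc q (Qg_le_Sg hq)).symm)

end Cfsg.Agent.Lib.Helper8.J2F
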