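import Cfsg.Agent.Lib.Helper8.J2F4

set_option autoImplicit false
set_option linter.unusedVariables false
set_option linter.unusedSectionVars false
set_option linter.style.haveILetI false
set_option maxRecDepth 100000

/-! The 2-fusion system of the Hall–Janko group is simple. -/

namespace Cfsg.Agent.Lib.Helper8.J2F

open Cfsg.Agent.Lib.Helper8.SS Cfsg.Agent.Lib.Helper8.J2L Cfsg.Agent.Lib.Helper8.J2C
  Cfsg.Agent.Lib.Helper4.ES2 Cfsg.Agent.Lib.Helper8.J3A

/-- a subgroup inside the closure of a set, seen inside a larger subgroup -/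
theorem subgroupOf_le_closure {G : Type*} [Group G] (H A : Subgroup G) (k : Set G)
    (hk : k ⊆ H) (hA : A ≤ Subgroup.closure k) :
    A.subgroupOf H ≤ Subgroup.closure ((fun x : ↥H => (x : G)) ⁻¹' k) := by
  intro x hx
  rw [Subgroup.mem_subgroupOf] at hx
  have h1 : (Subgroup.closure ((fun x : ↥H => (x : G)) ⁻¹' k)).map H.subtype =
      Subgroup.closure k := by
    rw [MonoidHom.map_closure]
    congr 1
    ext y
    constructor
    · rintro ⟨y', hy', rfl⟩
      exact hy'
    · intro hy
      exact ⟨⟨y, hk hy⟩, hy, rfl⟩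
  have h2 : (x : G) ∈ (Subgroup.closure ((fun x : ↥H => (x : G)) ⁻¹' k)).map H.subtype := by
    rw [h1]
    exact hA hx
  obtain ⟨y, hy, e⟩ := h2
  have : y = x := Subtype.ext e
  rw [← this]
  exact hy

theorem prodW_flatMap_mem (W : List (List ℕ)) (l : List ℕ) (hl : ∀ i ∈ l, i < W.length) :
    prodW 315 pN pM (l.flatMap (fun i => W.getD i [])) ∈ wgrp 315 pN pM W := by
  induction l with
  | nil => exact Subgroup.one_mem _
  | cons a l ih =>
    rw [List.flatMap_cons, prodW_append]
    apply Subgroup.mul_mem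
    · exact mem_wgrp (getD_mem'' (hl a (List.mem_cons_self ..)))
    · exact ih (fun i hi => hl i (List.mem_cons_of_mem _ hi))

theorem prodW_flatten_mem (W : List (List ℕ)) (l : List (List ℕ)) (hl : ∀ y ∈ l, y ∈ W) :
    prodW 315 pN pM l.flatten ∈ wgrp 315 pN pM W := by
  induction l with
  | nil => exact Subgroup.one_mem _
  | cons a l ih =>
    rw [List.flatten_cons, prodW_append]
    apply Subgroup.mul_mem
    · exact mem_wgrp (hl a (List.mem_cons_self ..))
    · exact ih (fun y hy => hl y (List.mem_cons_of_mem _ hy))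

theorem Qg_le_XQ : Qg ≤ wgrp 315 pN pM XQW := by
  unfold Qg
  rw [wgrp, Subgroup.closure_le]
  rintro _ ⟨w, hw, rfl⟩
  obtain ⟨m, hm, em⟩ := List.getElem_of_mem hw
  have e0 : w = WQ.getD m [] := by
    rw [← em]
    exact (List.getD_eq_getElem _ _ _).symm
  have hm2 : m < 32 := by rw [← WQ_len]; exact hm
  obtain ⟨hl, he⟩ := QXP_ok m hm2
  rw [← e0] at he
  have hlt : ∀ i ∈ (QXP.getD m []).flatMap (fun i => XQW.getD i []), i < 418 := by
    intro i hi
    rw [List.mem_flatMap] at hi
    obtain ⟨a, ha, hia⟩ := hi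
    have ha4 : a < XQW.length := by rw [XQW_len]; exact hl a ha
    exact WQ_lt _ (XQW_sub _ (getD_mem'' ha4)) i hia
  have e := eqWordB_prod (pM := pM) valid_all (WQ_lt w hw) hlt he
  show prodW 315 pN pM w ∈ wgrp 315 pN pM XQW
  rw [e]
  exact prodW_flatMap_mem XQW _ (fun i hi => by rw [XQW_len]; exact hl i hi)

theorem XQW_sub_GS : ∀ w ∈ XQW, w ∈ GS := by
  intro w hw
  rw [GS_eq]
  exact List.mem_append_left _ hw

theorem L0U_mem_K : ∀ i ∈ L0.U, i < 418 ∧ P 315 pN pM i ∈ J2L.K := fun i hi =>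
  ⟨U0_lt i hi, U0_mem i hi⟩

theorem deepK0 : ∀ i ∈ deepOf [L0, L1, L2, L3], i < 418 ∧ P 315 pN pM i ∈ J2L.K :=
  (chain_spec (pM := pM) valid_all id_tab _ chain).1

/-- the generators of `Q` are conjugate to the central involution -/
theorem conj_XQ (w : List ℕ) (hw : w ∈ XQW) :
    ∃ g ∈ J2L.K, g * zz * g⁻¹ = prodW 315 pN pM w := by
  obtain ⟨k, hk, ek⟩ := List.getElem_of_mem hw
  have e0 : w = XQW.getD k [] := by
    rw [← ek]
    exact (List.getD_eq_getElem _ _ _).symm
  have hk4 : k < 4 := by rw [← XQW_len]; exact hk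
  obtain ⟨hc, he⟩ := XQC_ok k hk4
  rw [← e0] at he
  have hclt : ∀ i ∈ XQC.getD k [], i < 418 := fun i hi => (L0U_mem_K i (hc i hi)).1
  have hwlt : ∀ i ∈ w, i < 418 := WQ_lt w (XQW_sub w hw)
  refine ⟨prodW 315 pN pM (XQC.getD k []), prodW_mem (fun i hi => (L0U_mem_K i (hc i hi)).2), ?_⟩
  have e := eqWordB_prod (pM := pM) valid_all (w := XQC.getD k [] ++ wz)
    (w' := w ++ XQC.getD k []) (by
      intro i hi
      rcases List.mem_append.mp hi with h | h
      · exact hclt i h
      · exact WQ_lt wz wz_mem i h) (by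
      intro i hi
      rcases List.mem_append.mp hi with h | h
      · exact hwlt i h
      · exact hclt i h) he
  rw [prodW_append, prodW_append] at e
  unfold zz
  rw [e]
  group

/-- the other generators of the Sylow subgroup are conjugate to elements of `Q` -/
theorem conj_X5 (w : List ℕ) (hw : w ∈ X5W) :
    ∃ g ∈ J2L.K, ∃ t ∈ Qg, g * t * g⁻¹ = prodW 315 pN pM w := by
  obtain ⟨k, hk, ek⟩ := List.getElem_of_mem hw
  have e0 : w = X5W.getD k [] := by
    rw [← ek]
    exact (List.getD_eq_getElem _ _ _).symm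
  have hk2 : k < 2 := by rw [← X5W_len]; exact hk
  obtain ⟨ht, hc, he⟩ := X5_ok k hk2
  rw [← e0] at he
  have hclt : ∀ i ∈ X5C.getD k [], i < 418 := fun i hi => (deepK0 i (hc i hi)).1
  have hwlt : ∀ i ∈ w, i < 418 := by
    apply GS_lt w
    rw [GS_eq]
    exact List.mem_append_right _ hw
  refine ⟨prodW 315 pN pM (X5C.getD k []), prodW_mem (fun i hi => (deepK0 i (hc i hi)).2),
    prodW 315 pN pM (X5T.getD k []), mem_wgrp ht, ?_⟩
  have e := eqWordB_prod (pM := pM) valid_all (w := X5C.getD k [] ++ X5T.getD k [])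
    (w' := w ++ X5C.getD k []) (by
      intro i hi
      rcases List.mem_append.mp hi with h | h
      · exact hclt i h
      · exact WQ_lt _ ht i h) (by
      intro i hi
      rcases List.mem_append.mp hi with h | h
      · exact hwlt i h
      · exact hclt i h) he
  rw [prodW_append, prodW_append] at e
  rw [e]
  group

/-- the centraliser is generated by involutions -/
theorem C0_le_Y : C0 ≤ wgrp 315 pN pM YW := by
  unfold C0 grp
  rw [Subgroup.closure_le]
  rintro _ ⟨i, hi, rfl⟩
  obtain ⟨a, ha, ea⟩ := List.getElem_of_mem hi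
  have e0 : i = L1.S.getD a 0 := by
    rw [← ea]
    exact (List.getD_eq_getElem _ _ _).symm
  have ha5 : a < 5 := by rw [← S1_len]; exact ha
  obtain ⟨hy, he⟩ := genY_ok a ha5
  rw [← e0] at he
  have hlt : ∀ j ∈ (genY.getD a []).flatten, j < 418 := by
    intro j hj
    rw [List.mem_flatten] at hj
    obtain ⟨y, hyl, hjy⟩ := hj
    exact ((chain_spec (pM := pM) valid_all id_tab _ chain1).1 j
      ((YW_ok y (hy y hyl)).1 j hjy)).1
  have e := eqWordB_prod (pM := pM) valid_all (w := [i]) (by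
    intro j hj
    rw [List.mem_singleton] at hj
    rw [hj]
    exact S1_lt i hi) hlt he
  rw [prodW_cons, prodW_nil, mul_one] at e
  show P 315 pN pM i ∈ wgrp 315 pN pM YW
  rw [e]
  exact prodW_flatten_mem YW _ hy

theorem Y_le_C0 : wset 315 pN pM YW ⊆ C0 := by
  rintro _ ⟨y, hy, rfl⟩
  exact prodW_mem (fun i hi => deep_mem i ((YW_ok y hy).1 i hi))

theorem Y_sq (y : List ℕ) (hy : y ∈ YW) : prodW 315 pN pM y * prodW 315 pN pM y = 1 := by
  have hlt : ∀ i ∈ y, i < 418 := fun i hi =>
    ((chain_spec (pM := pM) valid_all id_tab _ chain1).1 i ((YW_ok y hy).1 i hi)).1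
  have e := eqWordB_prod (pM := pM) valid_all (w := y ++ y) (w' := []) (by
    intro i hi
    rcases List.mem_append.mp hi with h | h
    · exact hlt i h
    · exact hlt i h) (by intro i hi; simp at hi) (YW_ok y hy).2
  rwa [prodW_append, prodW_nil] at e

end Cfsg.Agent.Lib.Helper8.J2F
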