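import Cfsg.Agent.Lib.Helper8.J2F5

set_option autoImplicit false
set_option linter.unusedVariables false
set_option linter.unusedSectionVars false
set_option linter.style.haveILetI false
set_option maxRecDepth 100000

/-! The 2-fusion system of the Hall–Janko group is simple: the main theorem. -/

namespace Cfsg.Agent.Lib.Helper8.J2F

open Cfsg.Agent.Lib.Helper8.SS Cfsg.Agent.Lib.Helper8.J2L Cfsg.Agent.Lib.Helper8.J2C
  Cfsg.Agent.Lib.Helper4.ES2 Cfsg.Agent.Lib.Helper8.J3A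

theorem j2_fusion {G' : Type*} [Group G'] [Finite G'] (e : G' ≃* ↥J2L.K) (S : Sylow 2 G') :
    (Cfsg.groupFusionSystem (S : Subgroup G')).IsSimple 2 := by
  obtain ⟨τ, hτdef⟩ : ∃ τ : ↥C0 →* ↥J2L.K, τ = Subgroup.inclusion C0_le_K := ⟨_, rfl⟩
  have hτv : ∀ c : ↥C0, (τ c : Equiv.Perm (Fin 315)) = c.1 := by
    intro c
    rw [hτdef]
    rfl
  have hτ : Function.Injective τ := by
    rw [hτdef]
    exact Subgroup.inclusion_injective C0_le_K
  have hzC : zz ∈ C0 := Sg_le zz_mem_Sg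
  have hfinK : Finite ↥J2L.K := inferInstance
  have hcS' : Nat.card (Sg.subgroupOf C0) = 2 ^ 7 := by
    rw [Nat.card_congr (Subgroup.subgroupOfEquivOfLe Sg_le).toEquiv, card_Sg]
    norm_num
  have hcU : Nat.card ((Sg.subgroupOf C0).map τ) = 2 ^ 7 := by
    rw [Subgroup.card_map_of_injective hτ, hcS']
  have hcG' : Nat.card G' = 2 ^ 7 * 4725 := by
    rw [Nat.card_congr e.toEquiv, card_K]
    norm_num
  have hcU' : Nat.card (((Sg.subgroupOf C0).map τ).map e.symm.toMonoidHom) = 2 ^ 7 := by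
    rw [Subgroup.card_map_of_injective e.symm.injective, hcU]
  obtain ⟨P, hP⟩ := exists_sylow_eq _ 7 4725 hcG' (by decide) hcU'
  obtain ⟨g, hg⟩ := MulAction.exists_smul_eq G' P S
  obtain ⟨ψ, hψdef⟩ : ∃ ψ : ↥J2L.K →* G', ψ = (MulAut.conj g).toMonoidHom.comp
    e.symm.toMonoidHom := ⟨_, rfl⟩
  have hψ : Function.Bijective ψ := by
    rw [hψdef]
    exact (MulAut.conj g).bijective.comp e.symm.bijective
  have hSU : (S : Subgroup G') = ((Sg.subgroupOf C0).map τ).map ψ := by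
    rw [← hg, Sylow.coe_subgroup_smul, hψdef, ← Subgroup.map_map, ← hP]
    rfl
  have hXQC : wset 315 pN pM XQW ⊆ C0 := by
    rintro _ ⟨w, hw, rfl⟩
    exact Qg_le (mem_wgrp (XQW_sub w hw))
  have hGSC : wset 315 pN pM GS ⊆ C0 := by
    rintro _ ⟨w, hw, rfl⟩
    exact Sg_le (mem_wgrp hw)
  apply fusion_simple2 τ hτ (⟨zz, hzC⟩ : ↥C0) (Sg.subgroupOf C0) (Qg.subgroupOf C0)
    ((fun x : ↥C0 => (x : Equiv.Perm (Fin 315))) ⁻¹' wset 315 pN pM XQW)
    ((fun x : ↥C0 => (x : Equiv.Perm (Fin 315))) ⁻¹' wset 315 pN pM GS)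
    ((fun x : ↥C0 => (x : Equiv.Perm (Fin 315))) ⁻¹' wset 315 pN pM YW)
    ?_ ?_ ?_ ?_ ?_ ?_ ?_ ?_ ?_ ?_ ?_ ?_ ?_ ?_ (IsPGroup.of_card hcS') ψ hψ S hSU
  · -- the centraliser of the involution
    intro y hy
    have h1 : (y : Equiv.Perm (Fin 315)) * zz = zz * y := by
      have := congrArg Subtype.val hy
      rw [Subgroup.coe_mul, Subgroup.coe_mul, hτv] at this
      exact this
    have h2 : (y : Equiv.Perm (Fin 315)) ∈ C0 := (cent_iff y.1).mpr ⟨y.2, h1⟩
    refine ⟨⟨y.1, h2⟩, ?_⟩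
    apply Subtype.ext
    rw [hτv]
  · exact subgroupOf_le_closure C0 Qg _ hXQC Qg_le_XQ
  · rintro x ⟨w, hw, ew'⟩
    have ew : prodW 315 pN pM w = (x : Equiv.Perm (Fin 315)) := ew'
    constructor
    · rw [Subgroup.mem_subgroupOf]
      show (x : Equiv.Perm (Fin 315)) ∈ Sg
      rw [← ew]
      exact mem_wgrp (XQW_sub_GS w hw)
    · obtain ⟨g, hgK, hg⟩ := conj_XQ w hw
      refine ⟨⟨g, hgK⟩, ?_⟩
      apply Subtype.ext
      rw [Subgroup.coe_mul, Subgroup.coe_mul, Subgroup.coe_inv, hτv, hτv]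
      show g * zz * g⁻¹ = (x : Equiv.Perm (Fin 315))
      rw [hg, ← ew]
  · exact subgroupOf_le_closure C0 Sg _ hGSC le_rfl
  · rintro x ⟨w, hw, ew'⟩
    have ew : prodW 315 pN pM w = (x : Equiv.Perm (Fin 315)) := ew'
    constructor
    · rw [Subgroup.mem_subgroupOf]
      show (x : Equiv.Perm (Fin 315)) ∈ Sg
      rw [← ew]
      exact mem_wgrp hw
    · rw [GS_eq] at hw
      rcases List.mem_append.mp hw with hw1 | hw2
      · obtain ⟨g, hgK, hg⟩ := conj_XQ w hw1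
        refine ⟨⟨g, hgK⟩, ⟨zz, hzC⟩, ?_, ?_⟩
        · rw [Subgroup.mem_subgroupOf]
          exact data_Qg.zQ
        · apply Subtype.ext
          rw [Subgroup.coe_mul, Subgroup.coe_mul, Subgroup.coe_inv, hτv, hτv]
          show g * zz * g⁻¹ = (x : Equiv.Perm (Fin 315))
          rw [hg, ← ew]
      · obtain ⟨g, hgK, t, ht, hg⟩ := conj_X5 w hw2
        refine ⟨⟨g, hgK⟩, ⟨t, Qg_le ht⟩, ?_, ?_⟩
        · rw [Subgroup.mem_subgroupOf]
          exact ht
        · apply Subtype.ext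
          rw [Subgroup.coe_mul, Subgroup.coe_mul, Subgroup.coe_inv, hτv, hτv]
          show g * t * g⁻¹ = (x : Equiv.Perm (Fin 315))
          rw [hg, ← ew]
  · intro x hx
    rw [Subgroup.mem_subgroupOf] at hx ⊢
    exact Qg_le_Sg hx
  · intro c r hr
    rw [Subgroup.mem_subgroupOf] at hr ⊢
    exact norm_Qg c.1 c.2 r.1 hr
  · intro c hc
    rw [Subgroup.mem_subgroupOf]
    apply cent_Q c.1 c.2
    intro r hr
    have := hc ⟨r, Qg_le hr⟩ (Subgroup.mem_subgroupOf.mpr hr)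
    exact congrArg Subtype.val this
  · rw [Subgroup.mem_subgroupOf]
    exact zz_mem_Sg
  · intro s hs hcomm
    rw [Subgroup.mem_subgroupOf] at hs
    rcases center_Sg s.1 hs (by
      intro s' hs'
      have := hcomm ⟨s', Sg_le hs'⟩ (Subgroup.mem_subgroupOf.mpr hs')
      exact congrArg Subtype.val this) with h | h
    · left; exact Subtype.ext h
    · right; exact Subtype.ext h
  · intro h
    exact data_Qg.z_ne (congrArg Subtype.val h)
  · intro c
    exact Subtype.ext (C0_comm c.1 c.2)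
  · apply le_antisymm ?_ le_top
    have := subgroupOf_le_closure C0 C0 _ Y_le_C0 C0_le_Y
    rwa [Subgroup.subgroupOf_self] at this
  · rintro y ⟨w, hw, ew'⟩
    have ew : prodW 315 pN pM w = (y : Equiv.Perm (Fin 315)) := ew'
    apply Subtype.ext
    rw [Subgroup.coe_mul]
    show (y : Equiv.Perm (Fin 315)) * y = 1
    rw [← ew]
    exact Y_sq w hw

end Cfsg.Agent.Lib.Helper8.J2F
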