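import Cfsg.Agent.Lib.Helper8.J2La

/-! Kernel-checked certificates for the tables of `J2La` (generated). -/

set_option autoImplicit false
set_option maxHeartbeats 0
set_option maxRecDepth 1000000

namespace Cfsg.Agent.Lib.Helper8.J2L

open Cfsg.Agent.Lib.Helper8.SS Cfsg.Agent.Lib.Helper8.MatN

theorem lv0 : LevelOK 315 pN 418 L0 L1.S (deepOf [L1, L2, L3]) :=
  levelOK_of (by decide +kernel) (by decide +kernel) (by decide +kernel)
    (by decide +kernel)

theorem lv1 : LevelOK 315 pN 418 L1 L2.S (deepOf [L2, L3]) :=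
  levelOK_of (by decide +kernel) (by decide +kernel) (by decide +kernel)
    (by decide +kernel)

theorem lv2 : LevelOK 315 pN 418 L2 L3.S (deepOf [L3]) :=
  levelOK_of (by decide +kernel) (by decide +kernel) (by decide +kernel)
    (by decide +kernel)

theorem lv3 : LevelOK 315 pN 418 L3 [] (deepOf []) :=
  levelOK_of (by decide +kernel) (by decide +kernel) (by decide +kernel)
    (by decide +kernel)

theorem chain : ChainOK 315 pN 418 [L0, L1, L2, L3] :=
  ⟨lv0, lv1, lv2, lv3, trivial⟩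

def W : List ℕ := [1, 2, 3, 4, 5, 6, 7, 8, 9, 10, 11, 12, 13, 14, 15, 16, 17, 18, 19, 20, 21, 22, 23, 24, 25, 26, 27, 28, 29, 30, 31, 32, 33, 34]
def slpW : List (ℕ × ℕ) := [(0, 0), (0, 0), (0, 0), (0, 0), (1, 0), (2, 4), (3, 5), (0, 6), (2, 7), (1, 8), (3, 9), (3, 0), (2, 11), (0, 12), (3, 13), (1, 14), (2, 15), (0, 16), (3, 17), (10, 18), (18, 19), (18, 20), (18, 21), (18, 22), (10, 23), (18, 18), (18, 25), (10, 26), (18, 27), (10, 28), (18, 29), (24, 24), (30, 31), (24, 32)]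

theorem slp_ok : SlpOK 315 pN 418 [1, 2, 3, 4] W slpW := by
  unfold SlpOK; decide +kernel

theorem S0_sub : ∀ i ∈ L0.S, i ∈ W := by decide +kernel

theorem cover0 : ∀ x < 315, x ∈ L0.U.map (fun i => get (pN i) L0.b) := by decide +kernel

def orbs : List (List ℕ) := [[1, 73, 299, 66, 306, 82, 41, 56, 309, 304, 100, 65, 16, 18, 292, 290, 293, 291, 25, 310, 312, 137, 286, 282, 288, 284, 134, 19, 83, 80, 287, 307, 32, 314, 133, 300, 303, 285, 48, 311, 17, 131, 132, 33, 308, 305, 101, 92, 81, 67, 37, 57, 12, 13, 53, 130, 313, 289, 136, 135, 298, 297, 283, 40, 24, 294, 14, 72, 2, 3, 302, 301, 296, 93, 49, 64, 295, 36, 52, 121], [4, 225, 180, 249, 231, 241, 216, 172, 226, 10, 71, 30, 179, 108, 111, 190, 174, 239, 116, 117, 106, 244, 202, 251, 242, 223, 122, 185, 212, 213, 39, 77, 171, 170, 79, 98, 115, 118, 233, 236, 178, 139, 182, 113, 252, 47, 142, 144, 203, 58, 140, 38, 55, 168, 127, 23, 186, 62, 243, 167, 88, 104, 89, 29, 206, 76, 28, 234,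 218, 237, 105, 220, 59, 96, 97, 224, 114, 214, 43, 124, 123, 169, 257, 126, 6, 99, 208, 228, 5, 204, 192, 109, 183, 46, 162, 210, 217, 207, 215, 227, 229, 138, 42, 91, 240, 7, 163, 78, 219, 166, 63, 125, 54, 176, 235, 245, 11, 247, 9, 141, 70, 8, 230, 254, 256, 253, 189, 165, 255, 248, 175, 173, 110, 112, 209, 184, 164, 129, 128, 143, 119, 205, 193, 191, 177, 188, 31, 187, 222, 90, 232, 107, 22, 145, 250, 211, 221, 238, 181, 246], [15, 156, 161, 157, 120, 155, 158, 159, 160, 154], [20, 265, 196, 68, 153, 147, 262, 263, 149, 259, 194, 195, 199, 197, 198, 44, 148, 152, 151, 150, 261, 60, 45, 258, 260, 146, 69, 21, 201, 61, 200, 264], [26, 276, 50, 272, 271, 94, 274, 275, 267, 268, 269, 279, 85, 270, 74, 27, 75, 266, 84, 280, 86, 103, 87, 102, 95, 35, 51, 34, 281, 278, 273, 277]]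

def otree : List (List (ℕ × ℕ)) := [[(0, 0), (11, 0), (19, 0), (11, 1), (19, 1), (25, 1), (31, 1), (34, 1), (11, 2), (19, 2), (25, 2), (31, 2), (34, 2), (11, 3), (25, 3), (31, 3), (34, 3), (11, 4), (19, 4), (31, 4), (34, 4), (11, 5), (25, 5), (31, 5), (34, 5), (11, 6), (34, 6), (11, 7), (31, 7), (34, 7), (11, 8), (25, 8), (11, 9), (19, 9), (25, 9), (31, 9), (34, 9), (11, 10), (34, 10), (11, 11), (19, 11), (31, 11), (34, 11), (11, 12), (19, 12), (25, 12), (31, 12), (34, 12), (11, 13), (25, 13), (19, 14), (11, 15), (11, 16), (11, 18), (19, 19), (19, 20), (31, 20), (11, 22), (34, 22), (11, 24), (11, 26), (19, 26), (31, 28), (25, 29), (31, 29), (11, 30), (19, 30), (25, 30), (25, 33), (31, 33), (11, 34), (11, 36), (19, 38), (25, 38), (31, 42), (34, 43), (11, 45), (19, 55), (11, 61), (19, 67)],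
    [(0, 0), (11, 0), (19, 0), (25, 0), (31, 0), (34, 0), (11, 1), (19, 1), (25, 1), (34, 1), (11, 2), (19, 2), (25, 2), (31, 2), (34, 2), (11, 3), (19, 3), (25, 3), (31, 3), (34, 3), (19, 4), (34, 4), (11, 5), (19, 5), (31, 5), (34, 5), (11, 6), (19, 6), (25, 6), (34, 6), (11, 7), (19, 7), (25, 7), (31, 7), (11, 8), (19, 8), (25, 8), (19, 9), (31, 9), (34, 9), (11, 10), (25, 10), (34, 10), (11, 11), (19, 11), (25, 11), (31, 11), (34, 11), (11, 12), (19, 12), (25, 12), (31, 12), (34, 12), (11, 13), (19, 13), (34, 13), (11, 14), (19, 14), (11, 15), (19, 15), (25, 15), (31, 15), (34, 15), (11, 16), (19, 16), (31, 16), (34, 16), (11, 17), (34, 17), (19, 18), (19, 19), (25, 19), (11, 20), (25, 20), (31, 20), (19, 21), (31, 21), (11, 22), (19, 22), (31, 22), (34, 22), (11, 23), (31, 23), (11, 24), (19, 24), (11, 25), (19, 25), (25, 25), (31, 25), (25, 26), (19, 27), (25, 27), (31, 27), (11, 28), (19, 28), (25, 28), (31, 28), (19, 29), (31, 29),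 (11, 31), (19, 31), (19, 32), (34, 32), (11, 33), (19, 33), (11, 34), (19, 34), (11, 35), (19, 35), (25, 35), (31, 35), (11, 36), (19, 36), (11, 37), (31, 37), (19, 39), (25, 39), (31, 39), (19, 40), (25, 40), (19, 42), (11, 43), (34, 43), (25, 44), (31, 44), (34, 44), (11, 45), (34, 45), (11, 46), (19, 47), (11, 48), (31, 49), (11, 50), (11, 52), (19, 52), (25, 52), (31, 53), (25, 54), (31, 54), (25, 57), (34, 58), (11, 59), (25, 60), (34, 61), (25, 63), (11, 67), (11, 69), (31, 73), (19, 74), (11, 75), (25, 75), (11, 78), (19, 81), (25, 81), (19, 92), (34, 95), (11, 98), (19, 102), (11, 112), (19, 119)],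
    [(0, 0), (11, 0), (19, 0), (11, 1), (19, 1), (31, 1), (34, 1), (19, 2), (25, 2), (34, 3)],
    [(0, 0), (19, 0), (25, 0), (34, 0), (11, 1), (19, 1), (25, 1), (31, 1), (11, 2), (19, 2), (25, 2), (31, 2), (19, 3), (31, 3), (11, 5), (19, 5), (25, 5), (19, 6), (25, 6), (34, 6), (11, 7), (19, 7), (11, 8), (19, 8), (25, 8), (31, 9), (11, 10), (34, 10), (19, 11), (31, 12), (25, 15), (31, 17)],
    [(0, 0), (11, 0), (19, 0), (31, 0), (34, 0), (11, 1), (25, 1), (31, 1), (19, 2), (25, 2), (34, 2), (11, 3), (19, 3), (31, 3), (25, 4), (31, 4), (34, 4), (19, 5), (31, 5), (19, 6), (25, 6), (31, 6), (34, 6), (31, 7), (11, 8), (31, 8), (34, 8), (25, 9), (19, 10), (11, 12), (31, 15), (31, 21)]]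

theorem orb_ok : ∀ j < orbs.length, ∀ m < (orbs.getD j []).length, m = 0 ∨
    (((otree.getD j []).getD m (0, 0)).2 < m ∧ ((otree.getD j []).getD m (0, 0)).1 ∈ L1.S ∧
      get (pN ((otree.getD j []).getD m (0, 0)).1)
        ((orbs.getD j []).getD ((otree.getD j []).getD m (0, 0)).2 0) =
          (orbs.getD j []).getD m 0) := by decide +kernel

theorem orb_lt : ∀ x ∈ orbs.flatten, x < 315 := by decide +kernel

theorem orb_cover : ∀ x < 315, x = L0.b ∨ x ∈ orbs.flatten := by decide +kernel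

theorem orb_nodup : (L0.b :: orbs.flatten).Nodup := by decide +kernel

def wit : List (List ℕ × ℕ × ℕ) := []

theorem block_cert : ∀ T ∈ (List.range orbs.length).sublists, T = [] ∨
    T = List.range orbs.length ∨ ¬ ((blockList L0.b orbs T).length ∣ 315) ∨
    ∃ e ∈ wit, e.1 = T ∧ e.2.1 ∈ L0.U ∧ get (pN e.2.1) L0.b ∈ blockList L0.b orbs T ∧
      e.2.2 < 315 ∧ e.2.2 ∈ blockList L0.b orbs T ∧
      get (pN e.2.1) e.2.2 ∉ blockList L0.b orbs T := by decide +kernel

def w7 : List ℕ := [2, 3, 4]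

theorem w7_mem : ∀ j ∈ w7, j ∈ L0.S := by decide +kernel

theorem w7_tab : ∀ x < 315, get (pN 148) x = ev pN w7 x := by decide +kernel

theorem ord7 : ∀ x < 315, ev pN (List.replicate 7 148) x = x := by decide +kernel

theorem ne7 : ∃ x < 315, get (pN 148) x ≠ x := by decide +kernel

def cs : ℕ → List (List ℕ)
  | 1 => [[2], [25, 2, 4, 31, 34, 19]]
  | 2 => [[1], [4, 31, 34, 4, 19]]
  | 3 => [[31], [11, 2, 4, 31, 19]]
  | 4 => [[19, 2], [19, 25, 2, 34, 19, 1]]
  | 11 => [[1], [34, 25, 19, 2, 34, 25, 1]]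
  | 19 => [[11, 19], [25, 11, 34, 25, 11]]
  | 25 => [[1], [31, 1, 11, 11, 34, 2]]
  | 31 => [[19, 2], [11, 19, 11, 11, 31, 3]]
  | 34 => [[19], [1, 3, 31, 19, 31, 1]]
  | _ => []

theorem conj_all : ∀ i ∈ L0.S, ConjOK 315 pN pM 418 L0.S 148 i (cs i) := by
  unfold ConjOK; decide +kernel

end Cfsg.Agent.Lib.Helper8.J2L
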