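import Cfsg.Agent.Lib.Helper8.SSZ

set_option autoImplicit false
set_option linter.unusedSectionVars false
set_option linter.unusedVariables false

/-! Products of permutations given by pairs of codes (a code and the code of the inverse). -/

namespace Cfsg.Agent.Lib.Helper8.SS

open Cfsg.Agent.Lib.Helper8.FastDec Cfsg.Agent.Lib.Helper8.MatN

variable {n : ℕ} [NeZero n]

theorem valid_swap {N M : ℕ} (h : Valid n N M) : Valid n M N :=
  fun x hx => ⟨(h x hx).2.1, (h x hx).1, (h x hx).2.2.2, (h x hx).2.2.1⟩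

theorem perm_swap {N M : ℕ} (h : Valid n N M) : perm n M N = (perm n N M)⁻¹ := by
  apply Equiv.ext
  intro x
  apply Fin.ext
  rw [perm_apply n (valid_swap h), perm_inv_apply n h]

variable (n) in
/-- the product of the permutations of a list of pairs of codes -/
def prodC (cs : List (ℕ × ℕ)) : Equiv.Perm (Fin n) := (cs.map (fun c => perm n c.1 c.2)).prod

theorem prodC_nil : prodC n [] = 1 := rfl

theorem prodC_cons (c : ℕ × ℕ) (cs : List (ℕ × ℕ)) :
    prodC n (c :: cs) = perm n c.1 c.2 * prodC n cs := by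
  unfold prodC
  rw [List.map_cons, List.prod_cons]

theorem prodC_append (cs cs' : List (ℕ × ℕ)) :
    prodC n (cs ++ cs') = prodC n cs * prodC n cs' := by
  unfold prodC
  rw [List.map_append, List.prod_append]

theorem prodC_apply {cs : List (ℕ × ℕ)} (hv : ∀ c ∈ cs, Valid n c.1 c.2) (x : Fin n) :
    ((prodC n cs) x).1 = evC (cs.map Prod.fst) x.1 := by
  induction cs with
  | nil => rfl
  | cons c cs ih =>
    rw [prodC_cons, Equiv.Perm.mul_apply, perm_apply n (hv c (List.mem_cons_self ..)),
      ih (fun c' hc' => hv c' (List.mem_cons_of_mem _ hc')), List.map_cons, evC_cons]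
    rfl

theorem iterC_add (c : List ℕ) (k l p : ℕ) : iterC c (k + l) p = iterC c k (iterC c l p) := by
  induction k with
  | zero => rw [Nat.zero_add]; rfl
  | succ k ih => rw [Nat.succ_add, iterC_succ, iterC_succ, ih]

theorem prodC_pow_apply {cs : List (ℕ × ℕ)} (hv : ∀ c ∈ cs, Valid n c.1 c.2) (e : ℕ)
    (x : Fin n) : (((prodC n cs) ^ e) x).1 = iterC (cs.map Prod.fst) e x.1 := by
  induction e with
  | zero => rfl
  | succ e ih =>
    rw [pow_succ', Equiv.Perm.mul_apply, prodC_apply hv, ih, iterC_succ]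

theorem prodC_replicate (c : ℕ × ℕ) (k : ℕ) :
    prodC n (List.replicate k c) = (perm n c.1 c.2) ^ k := by
  induction k with
  | zero => rfl
  | succ k ih => rw [List.replicate_succ, prodC_cons, ih, pow_succ']

/-- two elements of a subgroup that agree on the points of a base are equal -/
theorem eq_of_base (K : Subgroup (Equiv.Perm (Fin n))) {base : List ℕ}
    (hbase : ∀ g ∈ K, (∀ p ∈ base, ∀ hp : p < n, g ⟨p, hp⟩ = ⟨p, hp⟩) → g = 1)
    {g h : Equiv.Perm (Fin n)} (hg : g ∈ K) (hh : h ∈ K)
    (e : ∀ p ∈ base, ∀ hp : p < n, g ⟨p, hp⟩ = h ⟨p, hp⟩) : g = h := by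
  have : h⁻¹ * g = 1 := by
    apply hbase _ (K.mul_mem (K.inv_mem hh) hg)
    intro p hp hpn
    rw [Equiv.Perm.mul_apply, e p hp hpn]
    exact h.symm_apply_apply _
  calc g = h * (h⁻¹ * g) := by group
    _ = h := by rw [this, mul_one]

end Cfsg.Agent.Lib.Helper8.SS
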