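import Cfsg.Agent.Lib.Helper8.J2S5
import Cfsg.Agent.Lib.Helper8.SSC

set_option autoImplicit false
set_option maxRecDepth 100000

/-! Data for the outer automorphism group of the Hall-Janko group on 315 points: a 2A
involution `z`, an outer involution `t` centralising the element `x` of order 7, and words. -/

namespace Cfsg.Agent.Lib.Helper8.J2O

open Cfsg.Agent.Lib.Helper8.SS Cfsg.Agent.Lib.Helper8.J2L Cfsg.Agent.Lib.Helper8.FastDec
  Cfsg.Agent.Lib.Helper8.MatN Cfsg.Agent.Lib.Helper8.J2S

/-- the code of the 2A involution central in the stabiliser of the point 0 -/
def Nz : ℕ := 207990758796244928275365646277741476186104397539355896916812847428373688792536580062826408236931129044151944452264957164398814262896510481844930657667304755687954341386742595669166714177342475578216463366231949639050876704394698798707984840453496039361055966469807379624067131551864640260674111279092647834449611884072315919562825670992552287664811665575822511327000578614713628635072252855618657222058326349110226662498845111219323104674815388285847707771367133061491544666166963809668033808756753640329214750459317423639524444034376543660692698994981766844565969853235717795147919161630281665013337426299864353119507451527759418203964446593110894922488625086820985605891378506053254172137229723293881570769577193848642760503466609538491549108378213046191176862259237618297951271823027529737638455524994503628098674214043722853610064584995754810465891149000282991939664707765786803533694002074306404058792310204888120398274668982813194715317417984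

/-- the code of an involution normalising the group, outside it -/
def Nt : ℕ := 92870021888057020692143648434500185013966562623098740793410808848770784833729203857770405275534776745110551832707835901331353111504708041169594875159172307700460457644034148545893250487339043667929709876038511867610027807901257717438605985750900217989002992986724146153986921274026642535091994964025886625819687326732029205231922475446779865219494709086607942094714886646148745862273705767808110494714463168975560643531731510133281850958435763586433888184676223258999479697823483806500848875328672417001336978634322236041907839471611048789273485342675378420350970879961591230774679766085530394034495741393722731463555988815591537357377026757886489904220652670827998087369038515677089634027821162484831474031938954003960760937058272018982955196256073853994293987140320595765236344560168425144967451530387966860398741119164739971581248570861572477515088452770525262999163585098006385541272061547015822702321710388150929681280970683937330195127860378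

/-- the code of the element of order 7 and of its inverse -/
def Nx : ℕ := repN7.getD 0 0
def Mx : ℕ := repM7.getD 0 0

/-- the code of the 2B involution -/
def Ny : ℕ := repN2.getD 1 0
def My : ℕ := repM2.getD 1 0

def wx : List ℕ := [210, 389, 25, 34]
def wz : List ℕ := [0, 399, 414, 0]
def wn : List ℕ := [67, 401, 25, 0]
def wv : List ℕ := [0, 412, 25, 0]
def wt : List (List ℕ) := [[98, 363, 416, 417], [66, 0, 416, 34], [267, 367, 413, 417], [72, 409, 31, 34]]
def gw : List (List ℕ) := [[2, 1, 1, 2, 1, 1, 1, 2, 0, 0, 0, 2, 0, 0, 2], [2, 1, 2, 0, 2, 0, 2, 0, 2, 1, 2, 1, 2, 1, 2, 0, 2], [2, 0, 0, 2, 1, 2, 1, 2, 0, 2, 0, 2, 1, 1, 2], [2, 1, 2, 0, 2, 0, 0, 0, 2, 1, 1, 1, 2, 1, 2, 0, 2]]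

/-- the letters of the words in `x`, its inverse and `z` -/
noncomputable def qc (a : ℕ) : ℕ × ℕ := nthR [(Nx, Mx), (Mx, Nx), (Nz, Nz)] a (Nz, Nz)

end Cfsg.Agent.Lib.Helper8.J2O
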