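import Cfsg.Agent.Lib.Helper8.J2O1

set_option autoImplicit false
set_option maxRecDepth 100000

/-! Boolean certificates for the outer automorphism group of the Hall-Janko group. -/

namespace Cfsg.Agent.Lib.Helper8.J2O

open Cfsg.Agent.Lib.Helper8.SS Cfsg.Agent.Lib.Helper8.J2L Cfsg.Agent.Lib.Helper8.FastDec
  Cfsg.Agent.Lib.Helper8.MatN Cfsg.Agent.Lib.Helper8.J2S

theorem vz : Valid 315 Nz Nz := by decide +kernel
theorem vt : Valid 315 Nt Nt := by decide +kernel

theorem x_tab : ∀ p < 315, get Nx p = ev pN wx p := by decide +kernel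
theorem z_tab : ∀ p < 315, get Nz p = ev pN wz p := by decide +kernel
theorem n_conj : ∀ p < 315, ev pN wn (get Nx p) = iterC [Nx] 3 (ev pN wn p) := by decide +kernel
theorem v_sq : ∀ p < 315, ev pN wv (ev pN wv p) = get Nz p := by decide +kernel
theorem w_deep : ∀ w ∈ [wx, wz, wn, wv] ++ wt, ∀ i ∈ w, i ∈ deepOf [L0, L1, L2, L3] := by
  decide +kernel
theorem stab_comm : ∀ i ∈ L1.S, ∀ p < 315, get (pN i) (get Nz p) = get Nz (get (pN i) p) := by
  decide +kernel
theorem gen_tab : ∀ j < 4, ∀ p < 315,
    get (pN (j + 1)) p = evC (((gw.getD j []).map qc).map Prod.fst) p := by decide +kernel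
theorem gw_lt : ∀ w ∈ gw, ∀ a ∈ w, a < 3 := by decide +kernel
theorem t_tab : ∀ j < 4, ∀ p < 315,
    get Nt (get (pN (j + 1)) (get Nt p)) = ev pN (wt.getD j []) p := by decide +kernel
theorem t_x : ∀ p < 315, get Nt (get Nx p) = get Nx (get Nt p) := by decide +kernel
theorem test15 : ∀ p < 315, iterC [Nx, Nz] 15 p = p := by decide +kernel
theorem test7 : ∀ p < 315, iterC [Nx, Nx, Nx, Nz] 7 p = p := by decide +kernel
theorem z_ne : get Nz 1 ≠ 1 := by decide +kernel
theorem x_ne : get Nx 0 ≠ 0 := by decide +kernel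

/-- the test of a candidate image of `z` -/
noncomputable def candC (U Ui X Xi Z T : ℕ) : Bool :=
  !(allL bpts (fun p => Nat.beq (iterC [X, U, Z, Ui] 15 p) p)) ||
  (!(allL bpts (fun p => Nat.beq (iterC [X, X, X, U, Z, Ui] 7 p) p)) ||
  anyL [0, 1, 2, 3, 4, 5, 6] (fun i =>
    allL bpts (fun p => Nat.beq (evC [U, Z, Ui] p)
      (evC (List.replicate i X ++ Z :: List.replicate i Xi) p)) ||
    allL bpts (fun p => Nat.beq (evC [U, Z, Ui] p)
      (evC (List.replicate i X ++ T :: Z :: T :: List.replicate i Xi) p))))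

noncomputable def candB (i0 : ℕ) : Bool :=
  withVal (pN i0) fun U => withVal (pM i0) fun Ui => withVal Nx fun X => withVal Mx fun Xi =>
    withVal Nz fun Z => withVal Nt fun T => candC U Ui X Xi Z T

theorem cand_ok : allL L0.U candB = true := by decide +kernel

theorem ninn : ∀ i < 7, ∃ p < 315, evC [Nt, Nz, Nt] p ≠
    evC (List.replicate i Nx ++ Nz :: List.replicate i Mx) p := by decide +kernel

/-- the final test of the centraliser of `x`: a power of `x` -/
noncomputable def fin7 (c : List ℕ) : Bool :=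
  anyL [0, 1, 2, 3, 4, 5, 6] (fun i => allL bpts (fun p => Nat.beq (evC c p) (iterC [Nx] i p)))

/-- the final test of the centraliser of the 2B involution: the square is not the involution -/
noncomputable def finSq (c : List ℕ) : Bool :=
  !(allL bpts (fun p => Nat.beq (evC c (evC c p)) (getR Ny p)))

theorem cent7' : centB pN L0.U L1.U R24 [1, 18, 2] Nx 1 0 fin7 = true := by decide +kernel

theorem cent2B' : centB pN L0.U L1.U R24 [1, 18, 2] Ny 1 0 finSq = true := by decide +kernel

end Cfsg.Agent.Lib.Helper8.J2O
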