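import Mathlib
import Cfsg.Prelude.Def_KGroupFacts

set_option autoImplicit false

/-! Outer automorphism groups: transport along an isomorphism, and a criterion for order two
from a generating pair. -/

namespace Cfsg.Agent.Lib.Helper8.OutG

/-- Isomorphic groups have outer automorphism groups of the same cardinality. -/
theorem card_out_iso {G H : Type*} [Group G] [Group H] (e : G ≃* H) :
    Nat.card (Cfsg.Out G) = Nat.card (Cfsg.Out H) := by
  have he : (Cfsg.Inn G).map ((MulAut.congr e : MulAut G ≃* MulAut H) : MulAut G →* MulAut H)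
      = Cfsg.Inn H := by
    ext φ
    constructor
    · rintro ⟨_, ⟨g, rfl⟩, rfl⟩
      refine ⟨e g, ?_⟩
      apply MulEquiv.ext
      intro x
      simp [MulAut.congr, MulAut.conj_apply]
    · rintro ⟨h, rfl⟩
      refine ⟨MulAut.conj (e.symm h), ⟨e.symm h, rfl⟩, ?_⟩
      apply MulEquiv.ext
      intro x
      simp [MulAut.congr, MulAut.conj_apply]
  exact Nat.card_congr (QuotientGroup.congr (Cfsg.Inn G) (Cfsg.Inn H) (MulAut.congr e) he).toEquiv

theorem mem_inn_iff {H : Type*} [Group H] (φ : MulAut H) :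
    φ ∈ (MulAut.conj : H →* MulAut H).range ↔ ∃ k : H, ∀ g : H, φ g = k * g * k⁻¹ := by
  constructor
  · rintro ⟨k, rfl⟩
    exact ⟨k, fun g => rfl⟩
  · rintro ⟨k, hk⟩
    refine ⟨k, ?_⟩
    apply MulEquiv.ext
    intro g
    rw [hk g]
    rfl

/-- an automorphism fixing two generators is trivial -/
theorem eq_one_of_fix {H : Type*} [Group H] (x z : H) (h3 : Subgroup.closure {x, z} = ⊤)
    (φ : MulAut H) (hx : φ x = x) (hz : φ z = z) : φ = 1 := by
  have h : (φ : H ≃* H).toMonoidHom = MonoidHom.id H := by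
    apply MonoidHom.eq_of_eqOn_dense h3
    intro g hg
    rcases hg with rfl | hg
    · exact hx
    · rw [Set.mem_singleton_iff] at hg
      subst hg
      exact hz
  apply MulEquiv.ext
  intro g
  exact DFunLike.congr_fun h g

/-- the outer automorphism group has order two, from a generating pair `x`, `z` and an
automorphism `τ` fixing `x` that is not inner. -/
theorem card_out_two_of_pair {H : Type*} [Group H] (x z : H) (τ : MulAut H)
    (h1 : ∀ φ : MulAut H, ∃ k : H, φ x = k * x * k⁻¹)
    (h2 : ∀ φ : MulAut H, φ x = x → ∃ i : ℕ, φ z = x ^ i * z * (x ^ i)⁻¹ ∨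
      φ z = x ^ i * τ z * (x ^ i)⁻¹)
    (h3 : Subgroup.closure {x, z} = ⊤)
    (h4 : τ x = x)
    (h5 : ¬ ∃ k : H, ∀ g : H, τ g = k * g * k⁻¹) :
    Nat.card (Cfsg.Out H) = 2 := by
  show Nat.card (MulAut H ⧸ (MulAut.conj : H →* MulAut H).range) = 2
  rw [← Subgroup.index_eq_card, Subgroup.index_eq_two_iff]
  set I : Subgroup (MulAut H) := (MulAut.conj : H →* MulAut H).range with hI
  have hτn : τ ∉ I := fun h => h5 ((mem_inn_iff τ).mp h)
  have hconj : ∀ k : H, MulAut.conj k ∈ I := fun k => ⟨k, rfl⟩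
  have key : ∀ φ : MulAut H, φ ∈ I ∨ φ * τ⁻¹ ∈ I := by
    intro φ
    obtain ⟨k, hk⟩ := h1 φ
    set φ1 : MulAut H := (MulAut.conj k)⁻¹ * φ with hφ1
    have hφ1x : φ1 x = x := by
      rw [hφ1, MulAut.mul_apply, hk, MulAut.conj_inv_apply]
      group
    obtain ⟨i, hi | hi⟩ := h2 φ1 hφ1x
    · left
      set φ2 : MulAut H := (MulAut.conj (x ^ i))⁻¹ * φ1 with hφ2
      have e2 : φ2 = 1 := by
        apply eq_one_of_fix x z h3
        · rw [hφ2, MulAut.mul_apply, hφ1x, MulAut.conj_inv_apply]
          rw [mul_assoc, inv_mul_eq_iff_eq_mul, ← pow_succ, ← pow_succ']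
        · rw [hφ2, MulAut.mul_apply, hi, MulAut.conj_inv_apply]
          group
      have e : φ = MulAut.conj k * MulAut.conj (x ^ i) := by
        have : φ = MulAut.conj k * (MulAut.conj (x ^ i) * φ2) := by
          rw [hφ2, hφ1]; group
        rw [this, e2, mul_one]
      rw [e]
      exact I.mul_mem (hconj k) (hconj _)
    · right
      set φ2 : MulAut H := τ⁻¹ * ((MulAut.conj (x ^ i))⁻¹ * φ1) with hφ2
      have hτi : τ⁻¹ x = x := by
        have : τ⁻¹ (τ x) = x := by
          rw [← MulAut.mul_apply, inv_mul_cancel]; rfl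
        rwa [h4] at this
      have e2 : φ2 = 1 := by
        apply eq_one_of_fix x z h3
        · rw [hφ2, MulAut.mul_apply, MulAut.mul_apply, hφ1x, MulAut.conj_inv_apply]
          have : (x ^ i)⁻¹ * x * x ^ i = x := by
            rw [mul_assoc, inv_mul_eq_iff_eq_mul, ← pow_succ, ← pow_succ']
          rw [this, hτi]
        · rw [hφ2, MulAut.mul_apply, MulAut.mul_apply, hi, MulAut.conj_inv_apply]
          have : (x ^ i)⁻¹ * (x ^ i * τ z * (x ^ i)⁻¹) * x ^ i = τ z := by group
          rw [this, ← MulAut.mul_apply, inv_mul_cancel]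
          rfl
      have e : φ * τ⁻¹ = MulAut.conj k * MulAut.conj (x ^ i) := by
        have : φ = MulAut.conj k * (MulAut.conj (x ^ i) * (τ * φ2)) := by
          rw [hφ2, hφ1]; group
        rw [this, e2, mul_one]
        group
      rw [e]
      exact I.mul_mem (hconj k) (hconj _)
  refine ⟨τ⁻¹, ?_⟩
  intro b
  rcases key b with hb | hb
  · right
    refine ⟨hb, ?_⟩
    intro h
    apply hτn
    have h3' := I.mul_mem (I.inv_mem h) hb
    have e : (b * τ⁻¹)⁻¹ * b = τ := by group
    rwa [e] at h3'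
  · by_cases hbI : b ∈ I
    · right
      refine ⟨hbI, ?_⟩
      intro h
      apply hτn
      have h3' := I.mul_mem (I.inv_mem h) hbI
      have e : (b * τ⁻¹)⁻¹ * b = τ := by group
      rwa [e] at h3'
    · left
      exact ⟨hb, hbI⟩

end Cfsg.Agent.Lib.Helper8.OutG
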