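import Cfsg.Agent.Lib.Helper8.J2O2
import Cfsg.Agent.Lib.Helper8.OutG

set_option autoImplicit false
set_option maxRecDepth 100000
set_option linter.unusedSectionVars false
set_option linter.unusedVariables false

/-! The outer automorphism group of the Hall-Janko permutation group on 315 points has order
two. -/

namespace Cfsg.Agent.Lib.Helper8.J2O

open Cfsg.Agent.Lib.Helper8.SS Cfsg.Agent.Lib.Helper8.J2L Cfsg.Agent.Lib.Helper8.FastDec
  Cfsg.Agent.Lib.Helper8.MatN Cfsg.Agent.Lib.Helper8.J2S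

noncomputable def px : Equiv.Perm (Fin 315) := perm 315 Nx Mx
noncomputable def pz : Equiv.Perm (Fin 315) := perm 315 Nz Nz
noncomputable def pt : Equiv.Perm (Fin 315) := perm 315 Nt Nt
noncomputable def py : Equiv.Perm (Fin 315) := perm 315 Ny My
noncomputable def pn : Equiv.Perm (Fin 315) := prodW 315 pN pM wn
noncomputable def pv : Equiv.Perm (Fin 315) := prodW 315 pN pM wv

theorem vx : Valid 315 Nx Mx := rep7_valid 0 (by decide)
theorem vy : Valid 315 Ny My := rep2_valid 1 (by decide)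

theorem deep_lt {w : List ℕ} (hw : ∀ i ∈ w, i ∈ deepOf [L0, L1, L2, L3]) : ∀ i ∈ w, i < 418 :=
  fun i hi => (deepK i (hw i hi)).1

theorem perm_eq_prodW {N M : ℕ} {w : List ℕ} (hv : Valid 315 N M) (hw : ∀ i ∈ w, i < 418)
    (h : ∀ p < 315, get N p = ev pN w p) : perm 315 N M = prodW 315 pN pM w := by
  apply Equiv.ext
  intro x
  apply Fin.ext
  rw [perm_apply 315 hv, prodW_apply 315 pN pM (fun i hi => valid_all i (hw i hi)), h x.1 x.2]

theorem mem_K_of_deep {w : List ℕ} (hw : ∀ i ∈ w, i ∈ deepOf [L0, L1, L2, L3]) :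
    prodW 315 pN pM w ∈ K := prodW_mem fun i hi => (deepK i (hw i hi)).2

theorem wx_deep : ∀ i ∈ wx, i ∈ deepOf [L0, L1, L2, L3] := w_deep wx (by simp)
theorem wz_deep : ∀ i ∈ wz, i ∈ deepOf [L0, L1, L2, L3] := w_deep wz (by simp)
theorem wn_deep : ∀ i ∈ wn, i ∈ deepOf [L0, L1, L2, L3] := w_deep wn (by simp)
theorem wv_deep : ∀ i ∈ wv, i ∈ deepOf [L0, L1, L2, L3] := w_deep wv (by simp)

theorem px_eq : px = prodW 315 pN pM wx := perm_eq_prodW vx (deep_lt wx_deep) x_tab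
theorem pz_eq : pz = prodW 315 pN pM wz := perm_eq_prodW vz (deep_lt wz_deep) z_tab

theorem px_mem : px ∈ K := by rw [px_eq]; exact mem_K_of_deep wx_deep
theorem pz_mem : pz ∈ K := by rw [pz_eq]; exact mem_K_of_deep wz_deep
theorem pn_mem : pn ∈ K := mem_K_of_deep wn_deep
theorem pv_mem : pv ∈ K := mem_K_of_deep wv_deep

theorem pz_inv : pz⁻¹ = pz := (perm_swap vz).symm
theorem pt_inv : pt⁻¹ = pt := (perm_swap vt).symm

theorem pz_sq : pz ^ 2 = 1 := by
  rw [pow_two]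
  nth_rewrite 1 [← pz_inv]
  exact inv_mul_cancel pz

theorem pz_ne : pz ≠ 1 := by
  intro h
  have := congrArg (fun g : Equiv.Perm (Fin 315) => (g ⟨1, by norm_num⟩).1) h
  simp only [pz, perm_apply 315 vz, Equiv.Perm.coe_one, id] at this
  exact z_ne this

theorem px_ne : px ≠ 1 := by
  intro h
  have := congrArg (fun g : Equiv.Perm (Fin 315) => (g ⟨0, by norm_num⟩).1) h
  simp only [px, perm_apply 315 vx, Equiv.Perm.coe_one, id] at this
  exact x_ne this

theorem px_pow7 : px ^ 7 = 1 := perm_pow_eq_one vx (rep7_pow 0 (by decide))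

theorem px_order : orderOf px = 7 := by
  haveI : Fact (Nat.Prime 7) := ⟨by norm_num⟩
  exact orderOf_eq_prime px_pow7 px_ne

theorem pv_sq : pv ^ 2 = pz := by
  apply Equiv.ext
  intro x
  apply Fin.ext
  have hv : ∀ i ∈ wv, Valid 315 (pN i) (pM i) := fun i hi => valid_all i (deep_lt wv_deep i hi)
  rw [pow_two, Equiv.Perm.mul_apply]
  unfold pv pz
  rw [prodW_apply 315 pN pM hv, prodW_apply 315 pN pM hv, perm_apply 315 vz, v_sq x.1 x.2]

theorem pn_conj : pn * px = px ^ 3 * pn := by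
  apply Equiv.ext
  intro x
  apply Fin.ext
  have hv : ∀ i ∈ wn, Valid 315 (pN i) (pM i) := fun i hi => valid_all i (deep_lt wn_deep i hi)
  rw [Equiv.Perm.mul_apply, Equiv.Perm.mul_apply]
  unfold pn px
  rw [prodW_apply 315 pN pM hv, perm_apply 315 vx, perm_pow_apply vx, prodW_apply 315 pN pM hv,
    n_conj x.1 x.2, iterC_single]


/-! ### conjugacy of the elements of prime order -/

/-- an element of prime order `r` of the group is conjugate to a power of a representative -/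
theorem conj_rep (r k m : ℕ) [Fact r.Prime] (hK : Nat.card K = r ^ k * m) (hm : ¬ r ∣ m)
    (Pr : Subgroup (Equiv.Perm (Fin 315))) (hPK : Pr ≤ K) (hPc : Nat.card Pr = r ^ k)
    (Y : Set (Equiv.Perm (Fin 315)))
    (hclass : ∀ s ∈ Pr, s ^ r = 1 → s ≠ 1 → ∃ c ∈ K, ∃ y ∈ Y, ∃ e : ℕ, e % r ≠ 0 ∧
      c * s = y ^ e * c)
    (g : Equiv.Perm (Fin 315)) (hg : g ∈ K) (ho : orderOf g = r) :
    ∃ c ∈ K, ∃ y ∈ Y, ∃ e : ℕ, e % r ≠ 0 ∧ c * g * c⁻¹ = y ^ e := by
  have hr : r.Prime := Fact.out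
  have hoK : orderOf (⟨g, hg⟩ : ↥K) = r := by
    rw [← ho]
    exact (Subgroup.orderOf_mk _ _)
  obtain ⟨c1, hc1⟩ := exists_conj_mem_of_card r (Pr.subgroupOf K) k m hK hm
    (by rw [Nat.card_congr (Subgroup.subgroupOfEquivOfLe hPK).toEquiv, hPc])
    ⟨g, hg⟩ hoK
  rw [Subgroup.mem_subgroupOf] at hc1
  have hs : (c1 : Equiv.Perm (Fin 315)) * g * (c1 : Equiv.Perm (Fin 315))⁻¹ ∈ Pr := hc1
  set s := (c1 : Equiv.Perm (Fin 315)) * g * (c1 : Equiv.Perm (Fin 315))⁻¹ with hsdef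
  have hsr : s ^ r = 1 := by
    rw [hsdef, conj_pow, ← ho, pow_orderOf_eq_one, mul_one, mul_inv_cancel]
  have hs1 : s ≠ 1 := by
    intro h1
    rw [hsdef, conj_eq_one_iff] at h1
    rw [h1, orderOf_one] at ho
    exact hr.one_lt.ne ho
  obtain ⟨c2, hc2, y, hy, e, he, hconj⟩ := hclass s hs hsr hs1
  refine ⟨c2 * c1, K.mul_mem hc2 c1.2, y, hy, e, he, ?_⟩
  have : y ^ e = c2 * s * c2⁻¹ := by rw [hconj]; group
  rw [this, hsdef]
  group

theorem pn_pow_conj (j : ℕ) : pn ^ j * px * (pn ^ j)⁻¹ = px ^ (3 ^ j) := by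
  induction j with
  | zero => simp
  | succ j ih =>
    have h1 : pn * px * pn⁻¹ = px ^ 3 := by rw [pn_conj]; group
    calc pn ^ (j + 1) * px * (pn ^ (j + 1))⁻¹
        = pn * (pn ^ j * px * (pn ^ j)⁻¹) * pn⁻¹ := by rw [pow_succ']; group
      _ = pn * px ^ (3 ^ j) * pn⁻¹ := by rw [ih]
      _ = (pn * px * pn⁻¹) ^ (3 ^ j) := by rw [conj_pow]
      _ = px ^ (3 ^ (j + 1)) := by rw [h1, ← pow_mul, pow_succ']

/-- the elements of order 7 are conjugate to `x` -/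
theorem ord7_conj (g : Equiv.Perm (Fin 315)) (hg : g ∈ K) (ho : orderOf g = 7) :
    ∃ k ∈ K, g = k * px * k⁻¹ := by
  haveI : Fact (Nat.Prime 7) := ⟨by norm_num⟩
  obtain ⟨c, hc, y, hy, e, he, hconj⟩ := conj_rep 7 1 86400 card_K7 (by norm_num) P7 P7_le card_P7
    (Yset repN7 repM7) (class_of G7_lt W7_lt tab7 nil7 cert7_deep rep7_valid class7) g hg ho
  obtain ⟨j, hj, rfl⟩ := hy
  have hj0 : j = 0 := by
    have : j < 1 := hj
    omega
  subst hj0
  change c * g * c⁻¹ = px ^ e at hconj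
  have hmod : px ^ e = px ^ (e % 7) := by
    conv_lhs => rw [← Nat.div_add_mod e 7, pow_add, pow_mul, px_pow7, one_pow, one_mul]
  have hex : ∃ j : ℕ, px ^ (e % 7) = px ^ (3 ^ j) := by
    have hlt : e % 7 < 7 := Nat.mod_lt _ (by norm_num)
    have h7 : ∀ m : ℕ, px ^ m = px ^ (m % 7) := by
      intro m
      conv_lhs => rw [← Nat.div_add_mod m 7, pow_add, pow_mul, px_pow7, one_pow, one_mul]
    interval_cases h : e % 7
    · exact absurd rfl he
    · exact ⟨0, by norm_num⟩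
    · exact ⟨2, by rw [h7 (3 ^ 2)]; norm_num⟩
    · exact ⟨1, by norm_num⟩
    · exact ⟨4, by rw [h7 (3 ^ 4)]; norm_num⟩
    · exact ⟨5, by rw [h7 (3 ^ 5)]; norm_num⟩
    · exact ⟨3, by rw [h7 (3 ^ 3)]; norm_num⟩
  obtain ⟨j, hj⟩ := hex
  refine ⟨c⁻¹ * pn ^ j, K.mul_mem (K.inv_mem hc) (K.pow_mem pn_mem j), ?_⟩
  have : c * g * c⁻¹ = pn ^ j * px * (pn ^ j)⁻¹ := by
    rw [hconj, hmod, hj, pn_pow_conj]
  calc g = c⁻¹ * (c * g * c⁻¹) * c := by group
    _ = c⁻¹ * (pn ^ j * px * (pn ^ j)⁻¹) * c := by rw [this]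
    _ = c⁻¹ * pn ^ j * px * (c⁻¹ * pn ^ j)⁻¹ := by group

end Cfsg.Agent.Lib.Helper8.J2O
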