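import Cfsg.Agent.Lib.Helper8.J2O3

set_option autoImplicit false
set_option maxRecDepth 100000
set_option linter.unusedSectionVars false
set_option linter.unusedVariables false

/-! The outer automorphism group of the Hall-Janko permutation group: involutions, the normalising
involution, generation. -/

namespace Cfsg.Agent.Lib.Helper8.J2O

open Cfsg.Agent.Lib.Helper8.SS Cfsg.Agent.Lib.Helper8.J2L Cfsg.Agent.Lib.Helper8.FastDec
  Cfsg.Agent.Lib.Helper8.MatN Cfsg.Agent.Lib.Helper8.J2S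

noncomputable def py0 : Equiv.Perm (Fin 315) := perm 315 (repN2.getD 0 0) (repM2.getD 0 0)

theorem prodW_val {w : List ℕ} (hw : ∀ i ∈ w, i < 418) (x : Fin 315) :
    ((prodW 315 pN pM w) x).1 = ev pN w x.1 :=
  prodW_apply 315 pN pM (fun i hi => valid_all i (hw i hi)) x

/-- the 2B involution is not a square -/
theorem py_not_sq (v : Equiv.Perm (Fin 315)) (hv : v ∈ K) : v ^ 2 ≠ py := by
  intro h
  have hc : v * py = py * v := by rw [← h, pow_two, mul_assoc]
  obtain ⟨w, hw, rfl, hfin⟩ := cent_spec (pM := pM) valid_all K U0_lt U1_lt R24_lt K_dec3 vy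
    (by norm_num) (by norm_num) rep_ba.2.1 R24_fix1 R24_fix0 (by decide) cent2B' v hv hc
  unfold finSq at hfin
  rw [Bool.not_eq_true', ← Bool.not_eq_true, allL_iff] at hfin
  apply hfin
  intro p hp
  have hp315 : p < 315 := bpts_lt p hp
  have e : evC (w.map pN) (evC (w.map pN) p) = getR Ny p := by
    rw [evC_map, evC_map, getR_eq]
    have h2 := congrArg (fun g : Equiv.Perm (Fin 315) => (g ⟨p, hp315⟩).1) h
    simp only [pow_two, Equiv.Perm.mul_apply] at h2
    rw [prodW_val hw, prodW_val hw] at h2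
    rw [h2]
    exact perm_apply 315 vy _
  rw [e]
  exact Nat.beq_refl _

/-- the involutions fall into two classes -/
theorem invol_class (s : Equiv.Perm (Fin 315)) (hs : s ∈ K) (h2 : s ^ 2 = 1) (h1 : s ≠ 1) :
    ∃ c ∈ K, c * s * c⁻¹ = py0 ∨ c * s * c⁻¹ = py := by
  haveI : Fact (Nat.Prime 2) := ⟨by norm_num⟩
  have ho : orderOf s = 2 := orderOf_eq_prime h2 h1
  obtain ⟨c, hc, y, hy, e, he, hconj⟩ := conj_rep 2 7 4725 card_K2 (by norm_num) P2 P2_le card_P2
    (Yset repN2 repM2) (class_of G2_lt W2_lt tab2 nil2 cert2_deep rep2_valid class2) s hs ho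
  have hy2 : y ^ 2 = 1 := Y_pow rep2_valid rep2_pow y hy
  have hye : y ^ e = y := by
    have : e = 2 * (e / 2) + 1 := by omega
    rw [this, pow_add, pow_mul, hy2, one_pow, one_mul, pow_one]
  rw [hye] at hconj
  obtain ⟨j, hj, rfl⟩ := hy
  have hj2 : j < 2 := hj
  refine ⟨c, hc, ?_⟩
  interval_cases j
  · left; exact hconj
  · right; exact hconj

/-- the involutions that are squares are conjugate to `z` -/
theorem conj_2A (s : Equiv.Perm (Fin 315)) (hs : s ∈ K) (h2 : s ^ 2 = 1) (h1 : s ≠ 1)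
    (hsq : ∃ v ∈ K, v ^ 2 = s) : ∃ c ∈ K, s = c * pz * c⁻¹ := by
  have key : ∀ s : Equiv.Perm (Fin 315), s ∈ K → s ^ 2 = 1 → s ≠ 1 → (∃ v ∈ K, v ^ 2 = s) →
      ∃ c ∈ K, c * s * c⁻¹ = py0 := by
    intro s hs h2 h1 ⟨v, hv, hvs⟩
    obtain ⟨c, hc, h | h⟩ := invol_class s hs h2 h1
    · exact ⟨c, hc, h⟩
    · exfalso
      apply py_not_sq (c * v * c⁻¹) (K.mul_mem (K.mul_mem hc hv) (K.inv_mem hc))
      rw [conj_pow, hvs, h]
  obtain ⟨c1, hc1, e1⟩ := key s hs h2 h1 hsq
  obtain ⟨c2, hc2, e2⟩ := key pz pz_mem pz_sq pz_ne ⟨pv, pv_mem, pv_sq⟩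
  refine ⟨c1⁻¹ * c2, K.mul_mem (K.inv_mem hc1) hc2, ?_⟩
  calc s = c1⁻¹ * (c1 * s * c1⁻¹) * c1 := by group
    _ = c1⁻¹ * (c2 * pz * c2⁻¹) * c1 := by rw [e1, e2]
    _ = c1⁻¹ * c2 * pz * (c1⁻¹ * c2)⁻¹ := by group

theorem P_val {i : ℕ} (hi : i < 418) (x : Fin 315) : ((P 315 pN pM i) x).1 = get (pN i) x.1 :=
  perm_apply 315 (valid_all i hi) x

/-- the stabiliser of the point 0 centralises `z` -/
theorem stab_cent : ∀ h ∈ grp 315 pN pM L1.S, h * pz = pz * h := by
  have hle : grp 315 pN pM L1.S ≤ Subgroup.centralizer {pz} := by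
    unfold grp
    rw [Subgroup.closure_le]
    rintro g ⟨i, hi, rfl⟩
    rw [SetLike.mem_coe, Subgroup.mem_centralizer_iff]
    intro h hh
    rw [Set.mem_singleton_iff] at hh
    subst hh
    have hi418 : i < 418 := lv1.2.1 i hi
    apply Equiv.ext
    intro x
    apply Fin.ext
    rw [Equiv.Perm.mul_apply, Equiv.Perm.mul_apply]
    unfold pz
    rw [perm_apply 315 vz, P_val hi418, P_val hi418, perm_apply 315 vz]
    exact (stab_comm i hi x.1 x.2).symm
  intro h hh
  have := Subgroup.mem_centralizer_iff.mp (hle hh) pz rfl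
  exact this.symm

/-- the conjugates of `z` are its conjugates by the elements of the transversal -/
theorem conj_U (c : Equiv.Perm (Fin 315)) (hc : c ∈ K) :
    ∃ i0 ∈ L0.U, c * pz * c⁻¹ = P 315 pN pM i0 * pz * (P 315 pN pM i0)⁻¹ := by
  obtain ⟨i, hi, hmem⟩ := level_decomp (pM := pM) valid_all id_tab L0 L1.S _ lv0 deep1 c hc
  refine ⟨i, hi, ?_⟩
  have h := stab_cent _ hmem
  have e : c = P 315 pN pM i * ((P 315 pN pM i)⁻¹ * c) := by group
  set u := P 315 pN pM i
  set k := u⁻¹ * c with hk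
  calc c * pz * c⁻¹ = u * (k * pz) * k⁻¹ * u⁻¹ := by rw [e]; group
    _ = u * (pz * k) * k⁻¹ * u⁻¹ := by rw [h]
    _ = u * pz * u⁻¹ := by group

/-! ### the normalising involution -/

theorem pt_val (x : Fin 315) : (pt x).1 = get Nt x.1 := perm_apply 315 vt x

theorem wt_deep : ∀ j < 4, ∀ i ∈ wt.getD j [], i ∈ deepOf [L0, L1, L2, L3] := by
  intro j hj
  apply w_deep
  interval_cases j <;> simp [wt]

theorem t_conj_gen (j : ℕ) (hj : j < 4) :
    pt * P 315 pN pM (j + 1) * pt⁻¹ = prodW 315 pN pM (wt.getD j []) := by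
  apply Equiv.ext
  intro x
  apply Fin.ext
  rw [pt_inv, Equiv.Perm.mul_apply, Equiv.Perm.mul_apply, pt_val, P_val (by omega), pt_val,
    prodW_val (deep_lt (wt_deep j hj)), t_tab j hj x.1 x.2]

theorem t_norm : ∀ g ∈ K, pt * g * pt⁻¹ ∈ K := by
  have hle : grp 315 pN pM [1, 2, 3, 4] ≤ K.comap (MulAut.conj pt).toMonoidHom := by
    unfold grp
    rw [Subgroup.closure_le]
    rintro g ⟨i, hi, rfl⟩
    rw [SetLike.mem_coe, Subgroup.mem_comap]
    show pt * P 315 pN pM i * pt⁻¹ ∈ K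
    have : ∃ j < 4, i = j + 1 := by
      simp only [List.mem_cons, List.not_mem_nil, or_false] at hi
      rcases hi with rfl | rfl | rfl | rfl
      · exact ⟨0, by norm_num, rfl⟩
      · exact ⟨1, by norm_num, rfl⟩
      · exact ⟨2, by norm_num, rfl⟩
      · exact ⟨3, by norm_num, rfl⟩
    obtain ⟨j, hj, rfl⟩ := this
    rw [t_conj_gen j hj]
    exact mem_K_of_deep (wt_deep j hj)
  intro g hg
  rw [K_eq] at hg
  exact hle hg

theorem t_comm_x : pt * px * pt⁻¹ = px := by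
  rw [pt_inv]
  apply Equiv.ext
  intro x
  apply Fin.ext
  rw [Equiv.Perm.mul_apply, Equiv.Perm.mul_apply, pt_val]
  unfold px
  rw [perm_apply 315 vx, perm_apply 315 vx, pt_val, t_x _ (by
    have := (vt x.1 x.2).1
    exact this)]
  have := (vt x.1 x.2).2.2.1
  rw [this]

end Cfsg.Agent.Lib.Helper8.J2O
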