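import Cfsg.Agent.Lib.Helper8.J2O4

set_option autoImplicit false
set_option maxRecDepth 100000
set_option linter.unusedSectionVars false
set_option linter.unusedVariables false

/-! The outer automorphism group of the Hall-Janko permutation group: generation, the candidate
images of `z`, the centraliser of `x`. -/

namespace Cfsg.Agent.Lib.Helper8.J2O

open Cfsg.Agent.Lib.Helper8.SS Cfsg.Agent.Lib.Helper8.J2L Cfsg.Agent.Lib.Helper8.FastDec
  Cfsg.Agent.Lib.Helper8.MatN Cfsg.Agent.Lib.Helper8.J2S

theorem qc_cases (a : ℕ) : qc a = (Nx, Mx) ∨ qc a = (Mx, Nx) ∨ qc a = (Nz, Nz) := by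
  unfold qc
  rw [nthR_eq]
  match a with
  | 0 => left; rfl
  | 1 => right; left; rfl
  | 2 => right; right; rfl
  | (n + 3) => right; right; rfl

theorem qc_valid (a : ℕ) : Valid 315 (qc a).1 (qc a).2 := by
  rcases qc_cases a with h | h | h <;> rw [h]
  · exact vx
  · exact valid_swap vx
  · exact vz

theorem qc_mem (a : ℕ) : perm 315 (qc a).1 (qc a).2 ∈ Subgroup.closure {px, pz} := by
  rcases qc_cases a with h | h | h <;> rw [h]
  · exact Subgroup.subset_closure (by simp [px])
  · show perm 315 Mx Nx ∈ _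
    rw [perm_swap vx]
    exact Subgroup.inv_mem _ (Subgroup.subset_closure (by simp [px]))
  · exact Subgroup.subset_closure (by simp [pz])

/-- `x` and `z` generate the group -/
theorem gen_le : K ≤ Subgroup.closure {px, pz} := by
  rw [K_eq]
  unfold grp
  rw [Subgroup.closure_le]
  rintro g ⟨i, hi, rfl⟩
  have : ∃ j < 4, i = j + 1 := by
    simp only [List.mem_cons, List.not_mem_nil, or_false] at hi
    rcases hi with rfl | rfl | rfl | rfl
    · exact ⟨0, by norm_num, rfl⟩
    · exact ⟨1, by norm_num, rfl⟩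
    · exact ⟨2, by norm_num, rfl⟩
    · exact ⟨3, by norm_num, rfl⟩
  obtain ⟨j, hj, rfl⟩ := this
  have hval : ∀ c ∈ (gw.getD j []).map qc, Valid 315 c.1 c.2 := by
    intro c hc
    obtain ⟨a, _, rfl⟩ := List.mem_map.mp hc
    exact qc_valid a
  have e : P 315 pN pM (j + 1) = prodC 315 ((gw.getD j []).map qc) := by
    apply Equiv.ext
    intro x
    apply Fin.ext
    rw [P_val (by omega), prodC_apply hval, gen_tab j hj x.1 x.2]
  rw [SetLike.mem_coe, e]
  unfold prodC
  apply Subgroup.list_prod_mem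
  intro g hg
  rw [List.mem_map] at hg
  obtain ⟨c, hc, rfl⟩ := hg
  obtain ⟨a, _, rfl⟩ := List.mem_map.mp hc
  exact qc_mem a

/-- the centraliser of `x` consists of the powers of `x` -/
theorem cent7_spec (k : Equiv.Perm (Fin 315)) (hk : k ∈ K) (hc : k * px = px * k) :
    ∃ i : ℕ, k = px ^ i := by
  obtain ⟨w, hw, rfl, hfin⟩ := cent_spec (pM := pM) valid_all K U0_lt U1_lt R24_lt K_dec3 vx
    (by norm_num) (by norm_num) rep_ba.2.2.2.2.2.2 R24_fix1 R24_fix0 (by decide) cent7' k hk hc
  unfold fin7 at hfin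
  rw [anyL_iff] at hfin
  obtain ⟨i, _, hi⟩ := hfin
  rw [allL_iff] at hi
  refine ⟨i, ?_⟩
  apply eq_of_base K K_base' hk (K.pow_mem px_mem i)
  intro p hp hp315
  apply Fin.ext
  rw [prodW_val hw]
  unfold px
  rw [perm_pow_apply vx, ← iterC_single, ← evC_map]
  exact Nat.eq_of_beq_eq_true (hi p hp)

theorem conjx_eq (i : ℕ) (mid : List (ℕ × ℕ)) :
    px ^ i * prodC 315 mid * (px ^ i)⁻¹ =
      prodC 315 (List.replicate i (Nx, Mx) ++ (mid ++ List.replicate i (Mx, Nx))) := by
  rw [prodC_append, prodC_append, prodC_replicate, prodC_replicate]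
  show _ = perm 315 Nx Mx ^ i * (prodC 315 mid * perm 315 Mx Nx ^ i)
  rw [perm_swap vx, inv_pow, mul_assoc]
  rfl

theorem valid_rep {i : ℕ} {c : ℕ × ℕ} (hc : Valid 315 c.1 c.2) :
    ∀ c' ∈ List.replicate i c, Valid 315 c'.1 c'.2 := by
  intro c' h
  rw [List.mem_replicate] at h
  rw [h.2]
  exact hc

theorem one_val (p : ℕ) (hp : p < 315) : ((1 : Equiv.Perm (Fin 315)) ⟨p, hp⟩).1 = p := rfl

/-- the candidates for the image of `z` under an automorphism fixing `x` -/
theorem cand_spec (i0 : ℕ) (hi0 : i0 ∈ L0.U)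
    (h15 : (px * (P 315 pN pM i0 * pz * (P 315 pN pM i0)⁻¹)) ^ 15 = 1)
    (h7 : (px ^ 3 * (P 315 pN pM i0 * pz * (P 315 pN pM i0)⁻¹)) ^ 7 = 1) :
    ∃ i : ℕ, P 315 pN pM i0 * pz * (P 315 pN pM i0)⁻¹ = px ^ i * pz * (px ^ i)⁻¹ ∨
      P 315 pN pM i0 * pz * (P 315 pN pM i0)⁻¹ = px ^ i * (pt * pz * pt⁻¹) * (px ^ i)⁻¹ := by
  have hi418 : i0 < 418 := U0_lt i0 hi0
  have hvu := valid_all i0 hi418
  have hPK : P 315 pN pM i0 ∈ K := (deepK i0 (by
    unfold deepOf
    simp only [List.map_cons, List.flatten_cons, List.mem_append]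
    left; exact hi0)).2
  have hc := (allL_iff L0.U candB).mp cand_ok i0 hi0
  unfold candB at hc
  simp only [withVal_eq] at hc
  unfold candC at hc
  have es : P 315 pN pM i0 * pz * (P 315 pN pM i0)⁻¹ =
      prodC 315 [(pN i0, pM i0), (Nz, Nz), (pM i0, pN i0)] := by
    rw [prodC_cons, prodC_cons, prodC_cons, prodC_nil, mul_one]
    show _ = perm 315 (pN i0) (pM i0) * (perm 315 Nz Nz * perm 315 (pM i0) (pN i0))
    rw [perm_swap hvu, mul_assoc]
    rfl
  have hvs : ∀ c ∈ [(pN i0, pM i0), (Nz, Nz), (pM i0, pN i0)], Valid 315 c.1 c.2 := by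
    intro c hc
    simp only [List.mem_cons, List.not_mem_nil, or_false] at hc
    rcases hc with rfl | rfl | rfl
    · exact hvu
    · exact vz
    · exact valid_swap hvu
  have hsK : P 315 pN pM i0 * pz * (P 315 pN pM i0)⁻¹ ∈ K :=
    K.mul_mem (K.mul_mem hPK pz_mem) (K.inv_mem hPK)
  rw [Bool.or_eq_true, Bool.or_eq_true] at hc
  rcases hc with hc | hc | hc
  · exfalso
    rw [Bool.not_eq_true', ← Bool.not_eq_true, allL_iff] at hc
    apply hc
    intro p hp
    have hp315 := bpts_lt p hp
    have e15 : px * (P 315 pN pM i0 * pz * (P 315 pN pM i0)⁻¹) =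
        prodC 315 [(Nx, Mx), (pN i0, pM i0), (Nz, Nz), (pM i0, pN i0)] := by
      rw [prodC_cons, ← es]
      rfl
    have hv4 : ∀ c ∈ [(Nx, Mx), (pN i0, pM i0), (Nz, Nz), (pM i0, pN i0)], Valid 315 c.1 c.2 := by
      intro c hc
      rcases List.mem_cons.mp hc with rfl | hc
      · exact vx
      · exact hvs c hc
    have := congrArg (fun g : Equiv.Perm (Fin 315) => (g ⟨p, hp315⟩).1) h15
    simp only [one_val] at this
    rw [e15, prodC_pow_apply hv4] at this
    simp only [List.map_cons, List.map_nil] at this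
    rw [this]
    exact Nat.beq_refl _
  · exfalso
    rw [Bool.not_eq_true', ← Bool.not_eq_true, allL_iff] at hc
    apply hc
    intro p hp
    have hp315 := bpts_lt p hp
    have e7 : px ^ 3 * (P 315 pN pM i0 * pz * (P 315 pN pM i0)⁻¹) =
        prodC 315 [(Nx, Mx), (Nx, Mx), (Nx, Mx), (pN i0, pM i0), (Nz, Nz), (pM i0, pN i0)] := by
      rw [prodC_cons, prodC_cons, prodC_cons, ← es]
      show _ = px * (px * (px * _))
      rw [pow_succ, pow_two, mul_assoc, mul_assoc]
    have hv6 : ∀ c ∈ [(Nx, Mx), (Nx, Mx), (Nx, Mx), (pN i0, pM i0), (Nz, Nz), (pM i0, pN i0)],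
        Valid 315 c.1 c.2 := by
      intro c hc
      rcases List.mem_cons.mp hc with rfl | hc
      · exact vx
      rcases List.mem_cons.mp hc with rfl | hc
      · exact vx
      rcases List.mem_cons.mp hc with rfl | hc
      · exact vx
      · exact hvs c hc
    have := congrArg (fun g : Equiv.Perm (Fin 315) => (g ⟨p, hp315⟩).1) h7
    simp only [one_val] at this
    rw [e7, prodC_pow_apply hv6] at this
    simp only [List.map_cons, List.map_nil] at this
    rw [this]
    exact Nat.beq_refl _
  · rw [anyL_iff] at hc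
    obtain ⟨i, _, hi⟩ := hc
    refine ⟨i, ?_⟩
    rw [Bool.or_eq_true] at hi
    have hsval : ∀ p (hp : p < 315), ((P 315 pN pM i0 * pz * (P 315 pN pM i0)⁻¹) ⟨p, hp⟩).1 =
        evC [pN i0, Nz, pM i0] p := by
      intro p hp
      rw [es, prodC_apply hvs]
      rfl
    rcases hi with hi | hi
    · left
      rw [allL_iff] at hi
      have hz1 : pz = prodC 315 [(Nz, Nz)] := by
        rw [prodC_cons, prodC_nil, mul_one]; rfl
      have hrK : px ^ i * pz * (px ^ i)⁻¹ ∈ K :=
        K.mul_mem (K.mul_mem (K.pow_mem px_mem i) pz_mem) (K.inv_mem (K.pow_mem px_mem i))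
      apply eq_of_base K K_base' hsK hrK
      intro p hp hp315
      apply Fin.ext
      rw [hsval p hp315]
      nth_rewrite 1 [hz1]
      rw [conjx_eq, prodC_apply (by
        intro c hc
        rcases List.mem_append.mp hc with hc | hc
        · exact valid_rep vx c hc
        rcases List.mem_append.mp hc with hc | hc
        · simp only [List.mem_cons, List.not_mem_nil, or_false] at hc
          rw [hc]; exact vz
        · exact valid_rep (valid_swap vx) c hc)]
      simp only [List.map_append, List.map_replicate, List.map_cons, List.map_nil,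
        List.cons_append, List.nil_append]
      exact Nat.eq_of_beq_eq_true (hi p hp)
    · right
      rw [allL_iff] at hi
      have hz1 : pt * pz * pt⁻¹ = prodC 315 [(Nt, Nt), (Nz, Nz), (Nt, Nt)] := by
        rw [prodC_cons, prodC_cons, prodC_cons, prodC_nil, mul_one, pt_inv, mul_assoc]; rfl
      have hrK : px ^ i * (pt * pz * pt⁻¹) * (px ^ i)⁻¹ ∈ K :=
        K.mul_mem (K.mul_mem (K.pow_mem px_mem i) (t_norm pz pz_mem))
          (K.inv_mem (K.pow_mem px_mem i))
      apply eq_of_base K K_base' hsK hrK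
      intro p hp hp315
      apply Fin.ext
      rw [hsval p hp315, hz1, conjx_eq, prodC_apply (by
        intro c hc
        rcases List.mem_append.mp hc with hc | hc
        · exact valid_rep vx c hc
        rcases List.mem_append.mp hc with hc | hc
        · simp only [List.mem_cons, List.not_mem_nil, or_false] at hc
          rcases hc with rfl | rfl | rfl
          · exact vt
          · exact vz
          · exact vt
        · exact valid_rep (valid_swap vx) c hc)]
      simp only [List.map_append, List.map_replicate, List.map_cons, List.map_nil,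
        List.cons_append, List.nil_append]
      exact Nat.eq_of_beq_eq_true (hi p hp)

end Cfsg.Agent.Lib.Helper8.J2O
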