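import Cfsg.Agent.Lib.Helper8.J2O5

set_option autoImplicit false
set_option maxRecDepth 100000
set_option linter.unusedSectionVars false
set_option linter.unusedVariables false

/-! The outer automorphism group of the Hall-Janko permutation group on 315 points has order
two. -/

namespace Cfsg.Agent.Lib.Helper8.J2O

open Cfsg.Agent.Lib.Helper8.SS Cfsg.Agent.Lib.Helper8.J2L Cfsg.Agent.Lib.Helper8.FastDec
  Cfsg.Agent.Lib.Helper8.MatN Cfsg.Agent.Lib.Helper8.J2S

theorem pt_mul_self : pt * pt = 1 := by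
  nth_rewrite 1 [← pt_inv]
  exact inv_mul_cancel pt

/-- conjugation by the normalising involution -/
noncomputable def tau : MulAut ↥K where
  toFun g := ⟨pt * g.1 * pt⁻¹, t_norm g.1 g.2⟩
  invFun g := ⟨pt * g.1 * pt⁻¹, t_norm g.1 g.2⟩
  left_inv g := by
    apply Subtype.ext
    show pt * (pt * g.1 * pt⁻¹) * pt⁻¹ = g.1
    rw [pt_inv]
    calc pt * (pt * g.1 * pt) * pt = (pt * pt) * g.1 * (pt * pt) := by group
      _ = g.1 := by rw [pt_mul_self, one_mul, mul_one]
  right_inv g := by
    apply Subtype.ext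
    show pt * (pt * g.1 * pt⁻¹) * pt⁻¹ = g.1
    rw [pt_inv]
    calc pt * (pt * g.1 * pt) * pt = (pt * pt) * g.1 * (pt * pt) := by group
      _ = g.1 := by rw [pt_mul_self, one_mul, mul_one]
  map_mul' a b := by
    apply Subtype.ext
    show pt * (a.1 * b.1) * pt⁻¹ = (pt * a.1 * pt⁻¹) * (pt * b.1 * pt⁻¹)
    group

theorem tau_val (g : ↥K) : (tau g).1 = pt * g.1 * pt⁻¹ := rfl

theorem ninn' (i : ℕ) : pt * pz * pt⁻¹ ≠ px ^ i * pz * (px ^ i)⁻¹ := by
  intro h
  have h7 : ∀ m : ℕ, px ^ m = px ^ (m % 7) := by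
    intro m
    conv_lhs => rw [← Nat.div_add_mod m 7, pow_add, pow_mul, px_pow7, one_pow, one_mul]
  rw [h7 i] at h
  obtain ⟨p, hp, hne⟩ := ninn (i % 7) (Nat.mod_lt _ (by norm_num))
  apply hne
  have hz1 : pt * pz * pt⁻¹ = prodC 315 [(Nt, Nt), (Nz, Nz), (Nt, Nt)] := by
    rw [prodC_cons, prodC_cons, prodC_cons, prodC_nil, mul_one, pt_inv, mul_assoc]; rfl
  have hz2 : pz = prodC 315 [(Nz, Nz)] := by
    rw [prodC_cons, prodC_nil, mul_one]; rfl
  have this : ((pt * pz * pt⁻¹) ⟨p, hp⟩).1 =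
      ((px ^ (i % 7) * pz * (px ^ (i % 7))⁻¹) ⟨p, hp⟩).1 := by rw [h]
  rw [hz1] at this
  nth_rewrite 1 [hz2] at this
  rw [conjx_eq, prodC_apply (by
    intro c hc
    simp only [List.mem_cons, List.not_mem_nil, or_false] at hc
    rcases hc with rfl | rfl | rfl
    · exact vt
    · exact vz
    · exact vt), prodC_apply (by
    intro c hc
    rcases List.mem_append.mp hc with hc | hc
    · exact valid_rep vx c hc
    rcases List.mem_append.mp hc with hc | hc
    · simp only [List.mem_cons, List.not_mem_nil, or_false] at hc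
      rw [hc]; exact vz
    · exact valid_rep (valid_swap vx) c hc)] at this
  simp only [List.map_append, List.map_replicate, List.map_cons, List.map_nil,
    List.cons_append, List.nil_append] at this
  exact this

theorem card_out_K : Nat.card (Cfsg.Out ↥K) = 2 := by
  let x : ↥K := ⟨px, px_mem⟩
  let z : ↥K := ⟨pz, pz_mem⟩
  let v : ↥K := ⟨pv, pv_mem⟩
  have hxo : orderOf x = 7 := by
    rw [← px_order]
    exact Subgroup.orderOf_mk _ _
  have hz2 : z ^ 2 = 1 := Subtype.ext pz_sq
  have hz1 : z ≠ 1 := fun h => pz_ne (congrArg Subtype.val h)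
  have hvz : v ^ 2 = z := Subtype.ext pv_sq
  have hx15 : (x * z) ^ 15 = 1 := by
    apply Subtype.ext
    show (px * pz) ^ 15 = 1
    have e : px * pz = prodC 315 [(Nx, Mx), (Nz, Nz)] := by
      rw [prodC_cons, prodC_cons, prodC_nil, mul_one]; rfl
    have hv2 : ∀ c ∈ [(Nx, Mx), (Nz, Nz)], Valid 315 c.1 c.2 := by
      intro c hc
      simp only [List.mem_cons, List.not_mem_nil, or_false] at hc
      rcases hc with rfl | rfl
      · exact vx
      · exact vz
    apply Equiv.ext
    intro q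
    apply Fin.ext
    rw [e, prodC_pow_apply hv2]
    exact test15 q.1 q.2
  have hx7 : (x ^ 3 * z) ^ 7 = 1 := by
    apply Subtype.ext
    show (px ^ 3 * pz) ^ 7 = 1
    have e : px ^ 3 * pz = prodC 315 [(Nx, Mx), (Nx, Mx), (Nx, Mx), (Nz, Nz)] := by
      rw [prodC_cons, prodC_cons, prodC_cons, prodC_cons, prodC_nil, mul_one]
      show _ = px * (px * (px * pz))
      rw [pow_succ, pow_two, mul_assoc, mul_assoc]
    have hv4 : ∀ c ∈ [(Nx, Mx), (Nx, Mx), (Nx, Mx), (Nz, Nz)], Valid 315 c.1 c.2 := by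
      intro c hc
      simp only [List.mem_cons, List.not_mem_nil, or_false] at hc
      rcases hc with rfl | rfl | rfl | rfl
      · exact vx
      · exact vx
      · exact vx
      · exact vz
    apply Equiv.ext
    intro q
    apply Fin.ext
    rw [e, prodC_pow_apply hv4]
    exact test7 q.1 q.2
  apply OutG.card_out_two_of_pair x z tau
  · -- every automorphism maps `x` to a conjugate
    intro φ
    have ho : orderOf ((φ x : ↥K) : Equiv.Perm (Fin 315)) = 7 := by
      rw [Subgroup.orderOf_coe, MulEquiv.orderOf_eq, hxo]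
    obtain ⟨k, hk, e⟩ := ord7_conj _ (φ x).2 ho
    exact ⟨⟨k, hk⟩, Subtype.ext e⟩
  · -- the images of `z`
    intro φ hφx
    have hs2 : ((φ z : ↥K) : Equiv.Perm (Fin 315)) ^ 2 = 1 := by
      have : (φ z) ^ 2 = 1 := by rw [← map_pow, hz2, map_one]
      exact congrArg Subtype.val this
    have hs1 : ((φ z : ↥K) : Equiv.Perm (Fin 315)) ≠ 1 := by
      intro h
      apply hz1
      have : φ z = 1 := Subtype.ext h
      rwa [MulEquiv.map_eq_one_iff] at this
    have hsq : ∃ w ∈ K, w ^ 2 = ((φ z : ↥K) : Equiv.Perm (Fin 315)) := by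
      refine ⟨(φ v).1, (φ v).2, ?_⟩
      have : (φ v) ^ 2 = φ z := by rw [← map_pow, hvz]
      exact congrArg Subtype.val this
    obtain ⟨c, hc, e1⟩ := conj_2A _ (φ z).2 hs2 hs1 hsq
    obtain ⟨i0, hi0, e2⟩ := conj_U c hc
    rw [e2] at e1
    have h15 : (px * ((φ z : ↥K) : Equiv.Perm (Fin 315))) ^ 15 = 1 := by
      have : (φ x * φ z) ^ 15 = 1 := by rw [← map_mul, ← map_pow, hx15, map_one]
      rw [hφx] at this
      exact congrArg Subtype.val this
    have h7 : (px ^ 3 * ((φ z : ↥K) : Equiv.Perm (Fin 315))) ^ 7 = 1 := by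
      have : ((φ x) ^ 3 * φ z) ^ 7 = 1 := by
        rw [← map_pow, ← map_mul, ← map_pow, hx7, map_one]
      rw [hφx] at this
      exact congrArg Subtype.val this
    rw [e1] at h15 h7
    obtain ⟨i, hi | hi⟩ := cand_spec i0 hi0 h15 h7
    · refine ⟨i, Or.inl ?_⟩
      apply Subtype.ext
      rw [e1, hi]
      rfl
    · refine ⟨i, Or.inr ?_⟩
      apply Subtype.ext
      rw [e1, hi]
      rfl
  · -- generation
    apply Subgroup.map_injective K.subtype_injective
    rw [MonoidHom.map_closure, ← MonoidHom.range_eq_map, Subgroup.range_subtype, Set.image_pair]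
    apply le_antisymm
    · rw [Subgroup.closure_le]
      intro g hg
      rcases hg with rfl | hg
      · exact px_mem
      · rw [Set.mem_singleton_iff] at hg
        subst hg
        exact pz_mem
    · exact gen_le
  · -- `τ` fixes `x`
    exact Subtype.ext t_comm_x
  · -- `τ` is not inner
    rintro ⟨k, hk⟩
    have h1 := congrArg Subtype.val (hk x)
    rw [tau_val] at h1
    have h1' : pt * px * pt⁻¹ = k.1 * px * k.1⁻¹ := h1
    rw [t_comm_x] at h1'
    have hc : k.1 * px = px * k.1 := by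
      calc k.1 * px = (k.1 * px * k.1⁻¹) * k.1 := by group
        _ = px * k.1 := by rw [← h1']
    obtain ⟨i, hi⟩ := cent7_spec k.1 k.2 hc
    have h2 := congrArg Subtype.val (hk z)
    rw [tau_val] at h2
    have h2' : pt * pz * pt⁻¹ = k.1 * pz * k.1⁻¹ := h2
    rw [hi] at h2'
    exact ninn' i h2'

end Cfsg.Agent.Lib.Helper8.J2O
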