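import Cfsg.Agent.Lib.Helper8.SSZ
import Cfsg.Agent.Lib.Helper8.J2Lc

set_option autoImplicit false
set_option linter.unusedSectionVars false
set_option linter.unusedVariables false

/-! The elements of the Hall-Janko permutation group on 315 points as products of transversal
elements; the base. -/

namespace Cfsg.Agent.Lib.Helper8.J2S

open Cfsg.Agent.Lib.Helper8.SS Cfsg.Agent.Lib.Helper8.J2L

theorem deep1 : ∀ i ∈ deepOf [L1, L2, L3], i < 418 ∧ P 315 pN pM i ∈ grp 315 pN pM L1.S :=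
  (chain_spec (pM := pM) valid_all id_tab [L1, L2, L3] chain.2).1

theorem deep2 : ∀ i ∈ deepOf [L2, L3], i < 418 ∧ P 315 pN pM i ∈ grp 315 pN pM L2.S :=
  (chain_spec (pM := pM) valid_all id_tab [L2, L3] chain.2.2).1

theorem deep3 : ∀ i ∈ deepOf [L3], i < 418 ∧ P 315 pN pM i ∈ grp 315 pN pM L3.S :=
  (chain_spec (pM := pM) valid_all id_tab [L3] chain.2.2.2).1

theorem deep4 : ∀ i ∈ deepOf [], i < 418 ∧ P 315 pN pM i ∈ grp 315 pN pM [] :=
  (chain_spec (pM := pM) valid_all id_tab [] trivial).1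

/-- every element is a product of four transversal elements -/
theorem K_decomp (g : Equiv.Perm (Fin 315)) (hg : g ∈ K) :
    ∃ i0 ∈ L0.U, ∃ i1 ∈ L1.U, ∃ i2 ∈ L2.U, ∃ i3 ∈ L3.U,
      g = prodW 315 pN pM [i0, i1, i2, i3] := by
  obtain ⟨i0, hi0, h0⟩ := level_decomp (pM := pM) valid_all id_tab L0 L1.S _ lv0 deep1 g hg
  obtain ⟨i1, hi1, h1⟩ := level_decomp (pM := pM) valid_all id_tab L1 L2.S _ lv1 deep2 _ h0
  obtain ⟨i2, hi2, h2⟩ := level_decomp (pM := pM) valid_all id_tab L2 L3.S _ lv2 deep3 _ h1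
  obtain ⟨i3, hi3, h3⟩ := level_decomp (pM := pM) valid_all id_tab L3 [] _ lv3 deep4 _ h2
  rw [grp_nil, Subgroup.mem_bot] at h3
  refine ⟨i0, hi0, i1, hi1, i2, hi2, i3, hi3, ?_⟩
  rw [prodW_cons, prodW_cons, prodW_cons, prodW_cons, prodW_nil, mul_one]
  have : g = P 315 pN pM i0 * (P 315 pN pM i1 * (P 315 pN pM i2 * (P 315 pN pM i3 *
      ((P 315 pN pM i3)⁻¹ * ((P 315 pN pM i2)⁻¹ * ((P 315 pN pM i1)⁻¹ *
        ((P 315 pN pM i0)⁻¹ * g))))))) := by group
  rw [h3, mul_one] at this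
  exact this

/-- an element fixing the base is trivial -/
theorem K_base (g : Equiv.Perm (Fin 315)) (hg : g ∈ K)
    (h : ∀ p ∈ [0, 1, 18, 2], ∀ hp : p < 315, g ⟨p, hp⟩ = ⟨p, hp⟩) : g = 1 := by
  have h1 := level_stab (pM := pM) valid_all id_tab L0 L1.S _ lv0 deep1 g hg
    (h 0 (by simp) (by norm_num))
  have h2 := level_stab (pM := pM) valid_all id_tab L1 L2.S _ lv1 deep2 g h1
    (h 1 (by simp) (by norm_num))
  have h3 := level_stab (pM := pM) valid_all id_tab L2 L3.S _ lv2 deep3 g h2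
    (h 18 (by simp) (by norm_num))
  have h4 := level_stab (pM := pM) valid_all id_tab L3 [] _ lv3 deep4 g h3
    (h 2 (by simp) (by norm_num))
  rw [grp_nil, Subgroup.mem_bot] at h4
  exact h4

theorem deepK : ∀ i ∈ deepOf [L0, L1, L2, L3], i < 418 ∧ P 315 pN pM i ∈ K :=
  (chain_spec (pM := pM) valid_all id_tab [L0, L1, L2, L3] chain).1

end Cfsg.Agent.Lib.Helper8.J2S
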