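import Cfsg.Agent.Lib.Helper8.J2S1
import Cfsg.Agent.Lib.Helper8.J2S2

set_option autoImplicit false
set_option maxRecDepth 100000
set_option maxHeartbeats 0

/-! Boolean certificates for the element orders of the Hall-Janko group: Sylow subgroups and
classes of elements of prime order. -/

namespace Cfsg.Agent.Lib.Helper8.J2S

open Cfsg.Agent.Lib.Helper8.SS Cfsg.Agent.Lib.Helper8.J2L Cfsg.Agent.Lib.Helper8.FastDec
  Cfsg.Agent.Lib.Helper8.MatN

theorem bpts_lt : ∀ x ∈ bpts, x < 315 := by decide

theorem R24_lt : WordsLt 418 R24 := by decide +kernel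

theorem R24_mem : ∀ i2 ∈ L2.U, ∀ i3 ∈ L3.U, [i2, i3] ∈ R24 := by decide +kernel

theorem R24_fix0 : ∀ r ∈ R24, ev pN r 0 = 0 := by decide +kernel

theorem R24_fix1 : ∀ r ∈ R24, ev pN r 1 = 1 := by decide +kernel

theorem rep2_valid : ∀ j < repN2.length, Valid 315 (repN2.getD j 0) (repM2.getD j 0) := by
  decide +kernel

theorem rep3_valid : ∀ j < repN3.length, Valid 315 (repN3.getD j 0) (repM3.getD j 0) := by
  decide +kernel

theorem rep5_valid : ∀ j < repN5.length, Valid 315 (repN5.getD j 0) (repM5.getD j 0) := by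
  decide +kernel

theorem rep7_valid : ∀ j < repN7.length, Valid 315 (repN7.getD j 0) (repM7.getD j 0) := by
  decide +kernel

theorem rep2_pow : ∀ j < repN2.length, ∀ x < 315, iterC [repN2.getD j 0] 2 x = x := by
  decide +kernel

theorem rep3_pow : ∀ j < repN3.length, ∀ x < 315, iterC [repN3.getD j 0] 3 x = x := by
  decide +kernel

theorem rep5_pow : ∀ j < repN5.length, ∀ x < 315, iterC [repN5.getD j 0] 5 x = x := by
  decide +kernel

theorem rep7_pow : ∀ j < repN7.length, ∀ x < 315, iterC [repN7.getD j 0] 7 x = x := by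
  decide +kernel

/-! ### the Sylow subgroups -/

theorem G2_lt : WordsLt 418 G2 := by decide +kernel
theorem W2_lt : WordsLt 418 W2 := by decide +kernel
theorem G2_deep : ∀ w ∈ G2, ∀ i ∈ w, i ∈ deepOf [L0, L1, L2, L3] := by decide +kernel
theorem tab2 : genTabB 315 pN G2 W2 T2 = true := by decide +kernel
theorem tree2_ok : genTreeB 315 pN G2 W2 tree2 = true := by decide +kernel
theorem nil2 : [] ∈ W2 := by decide +kernel
theorem W2_zero : W2.getD 0 [] = [] := by decide +kernel
theorem fp2 : nodupB (W2.map (fpW pN bpts)) = true := by decide +kernel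
theorem W2_len : W2.length = 128 := by decide +kernel

theorem G3_lt : WordsLt 418 G3 := by decide +kernel
theorem W3_lt : WordsLt 418 W3 := by decide +kernel
theorem G3_deep : ∀ w ∈ G3, ∀ i ∈ w, i ∈ deepOf [L0, L1, L2, L3] := by decide +kernel
theorem tab3 : genTabB 315 pN G3 W3 T3 = true := by decide +kernel
theorem tree3_ok : genTreeB 315 pN G3 W3 tree3 = true := by decide +kernel
theorem nil3 : [] ∈ W3 := by decide +kernel
theorem W3_zero : W3.getD 0 [] = [] := by decide +kernel
theorem fp3 : nodupB (W3.map (fpW pN bpts)) = true := by decide +kernel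
theorem W3_len : W3.length = 27 := by decide +kernel

theorem G5_lt : WordsLt 418 G5 := by decide +kernel
theorem W5_lt : WordsLt 418 W5 := by decide +kernel
theorem G5_deep : ∀ w ∈ G5, ∀ i ∈ w, i ∈ deepOf [L0, L1, L2, L3] := by decide +kernel
theorem tab5 : genTabB 315 pN G5 W5 T5 = true := by decide +kernel
theorem tree5_ok : genTreeB 315 pN G5 W5 tree5 = true := by decide +kernel
theorem nil5 : [] ∈ W5 := by decide +kernel
theorem W5_zero : W5.getD 0 [] = [] := by decide +kernel
theorem fp5 : nodupB (W5.map (fpW pN bpts)) = true := by decide +kernel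
theorem W5_len : W5.length = 25 := by decide +kernel

theorem G7_lt : WordsLt 418 G7 := by decide +kernel
theorem W7_lt : WordsLt 418 W7 := by decide +kernel
theorem G7_deep : ∀ w ∈ G7, ∀ i ∈ w, i ∈ deepOf [L0, L1, L2, L3] := by decide +kernel
theorem tab7 : genTabB 315 pN G7 W7 T7 = true := by decide +kernel
theorem tree7_ok : genTreeB 315 pN G7 W7 tree7 = true := by decide +kernel
theorem nil7 : [] ∈ W7 := by decide +kernel
theorem W7_zero : W7.getD 0 [] = [] := by decide +kernel
theorem fp7 : nodupB (W7.map (fpW pN bpts)) = true := by decide +kernel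
theorem W7_len : W7.length = 7 := by decide +kernel

/-! ### the classes of elements of prime order -/

theorem cert2_deep : ∀ c ∈ cert2, ∀ i ∈ c.2.2.2, i ∈ deepOf [L0, L1, L2, L3] := by
  decide +kernel
theorem cert3_deep : ∀ c ∈ cert3, ∀ i ∈ c.2.2.2, i ∈ deepOf [L0, L1, L2, L3] := by
  decide +kernel
theorem cert5_deep : ∀ c ∈ cert5, ∀ i ∈ c.2.2.2, i ∈ deepOf [L0, L1, L2, L3] := by
  decide +kernel
theorem cert7_deep : ∀ c ∈ cert7, ∀ i ∈ c.2.2.2, i ∈ deepOf [L0, L1, L2, L3] := by
  decide +kernel

theorem class2 : classB 315 pN 2 W2 repN2 cert2 = true := by decide +kernel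
theorem class3 : classB 315 pN 3 W3 repN3 cert3 = true := by decide +kernel
theorem class5 : classB 315 pN 5 W5 repN5 cert5 = true := by decide +kernel
theorem class7 : classB 315 pN 7 W7 repN7 cert7 = true := by decide +kernel

end Cfsg.Agent.Lib.Helper8.J2S
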