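import Cfsg.Agent.Lib.Helper8.J2S1
import Cfsg.Agent.Lib.Helper8.J2S2

set_option autoImplicit false
set_option maxRecDepth 100000
set_option maxHeartbeats 0

/-! Boolean certificates for the element orders of the Hall-Janko group: the centralisers of the
elements of prime order. -/

namespace Cfsg.Agent.Lib.Helper8.J2S

open Cfsg.Agent.Lib.Helper8.SS Cfsg.Agent.Lib.Helper8.J2L Cfsg.Agent.Lib.Helper8.FastDec
  Cfsg.Agent.Lib.Helper8.MatN

/-- the exponents -/
def expos : List ℕ := [7, 8, 10, 12, 15]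

theorem rep_ba : get (repN2.getD 0 0) 0 = 0 ∧ get (repN2.getD 1 0) 0 = 1 ∧
    get (repN3.getD 0 0) 0 = 1 ∧ get (repN3.getD 1 0) 0 = 1 ∧
    get (repN5.getD 0 0) 0 = 1 ∧ get (repN5.getD 1 0) 0 = 1 ∧
    get (repN7.getD 0 0) 0 = 1 := by decide +kernel

theorem cent2A : centB pN L0.U L1.U R24 [1, 18, 2] (repN2.getD 0 0) 0 0 (ordB expos bpts) = true := by
  decide +kernel

theorem cent2B : centB pN L0.U L1.U R24 [1, 18, 2] (repN2.getD 1 0) 1 0 (ordB expos bpts) = true := by
  decide +kernel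

theorem cent3A : centB pN L0.U L1.U R24 [1, 18, 2] (repN3.getD 0 0) 1 0 (ordB expos bpts) = true := by
  decide +kernel

theorem cent3B : centB pN L0.U L1.U R24 [1, 18, 2] (repN3.getD 1 0) 1 0 (ordB expos bpts) = true := by
  decide +kernel

theorem cent5A : centB pN L0.U L1.U R24 [1, 18, 2] (repN5.getD 0 0) 1 0 (ordB expos bpts) = true := by
  decide +kernel

theorem cent5C : centB pN L0.U L1.U R24 [1, 18, 2] (repN5.getD 1 0) 1 0 (ordB expos bpts) = true := by
  decide +kernel

theorem cent7A : centB pN L0.U L1.U R24 [1, 18, 2] (repN7.getD 0 0) 1 0 (ordB expos bpts) = true := by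
  decide +kernel

end Cfsg.Agent.Lib.Helper8.J2S
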