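import Cfsg.Agent.Lib.Helper8.J2S3
import Cfsg.Agent.Lib.Helper8.J2S4

set_option autoImplicit false
set_option maxRecDepth 100000
set_option linter.unusedSectionVars false
set_option linter.unusedVariables false

/-! The element orders of the Hall-Janko permutation group on 315 points. -/

namespace Cfsg.Agent.Lib.Helper8.J2S

open Cfsg.Agent.Lib.Helper8.SS Cfsg.Agent.Lib.Helper8.J2L Cfsg.Agent.Lib.Helper8.FastDec
  Cfsg.Agent.Lib.Helper8.MatN

theorem iterC_single (N k p : ℕ) : iterC [N] k p = evC (List.replicate k N) p := by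
  induction k with
  | zero => rfl
  | succ k ih =>
    rw [iterC_succ, ih, List.replicate_succ, evC_cons]
    rfl

theorem perm_pow_eq_one {N M r : ℕ} (hv : Valid 315 N M)
    (h : ∀ x < 315, iterC [N] r x = x) : (perm 315 N M) ^ r = 1 := by
  apply Equiv.ext
  intro x
  apply Fin.ext
  rw [perm_pow_apply hv, ← iterC_single, h x.1 x.2]
  rfl

/-- the property: some allowed power is trivial -/
def Qp (g : Equiv.Perm (Fin 315)) : Prop := ∃ e ∈ expos, g ^ e = 1

theorem Qp_conj (g c : Equiv.Perm (Fin 315)) (hc : c ∈ K) (h : Qp (c * g * c⁻¹)) : Qp g := by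
  obtain ⟨e, he, h⟩ := h
  refine ⟨e, he, ?_⟩
  rw [conj_pow, conj_eq_one_iff] at h
  exact h

theorem U0_lt : ∀ i ∈ L0.U, i < 418 := lv0.2.2.1

theorem U1_lt : ∀ i ∈ L1.U, i < 418 := lv1.2.2.1

theorem K_dec3 (g : Equiv.Perm (Fin 315)) (hg : g ∈ K) :
    ∃ i0 ∈ L0.U, ∃ i1 ∈ L1.U, ∃ r ∈ R24, g = prodW 315 pN pM (i0 :: i1 :: r) := by
  obtain ⟨i0, hi0, i1, hi1, i2, hi2, i3, hi3, e⟩ := K_decomp g hg
  exact ⟨i0, hi0, i1, hi1, [i2, i3], R24_mem i2 hi2 i3 hi3, e⟩

theorem K_base' (g : Equiv.Perm (Fin 315)) (hg : g ∈ K)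
    (h : ∀ p ∈ bpts, ∀ hp : p < 315, g ⟨p, hp⟩ = ⟨p, hp⟩) : g = 1 := K_base g hg h

/-- the centraliser test gives the property -/
theorem Qp_of_cent {Ny My a b : ℕ} (hvy : Valid 315 Ny My) (ha : a < 315) (hb : b < 315)
    (hyb : get Ny b = a) (hRa : ∀ r ∈ R24, ev pN r a = a) (hRb : ∀ r ∈ R24, ev pN r b = b)
    (h : centB pN L0.U L1.U R24 [1, 18, 2] Ny a b (ordB expos bpts) = true) :
    ∀ g ∈ K, g * perm 315 Ny My = perm 315 Ny My * g → Qp g := by
  intro g hg hc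
  obtain ⟨w, hw, rfl, hfin⟩ := cent_spec (pM := pM) valid_all K U0_lt U1_lt R24_lt K_dec3 hvy ha hb
    hyb hRa hRb (by decide) h g hg hc
  exact pow_eq_one_of_ordB valid_all K K_base' hw hg hfin

/-! ### the Sylow subgroups -/

noncomputable def P2 : Subgroup (Equiv.Perm (Fin 315)) := wgrp 315 pN pM G2
noncomputable def P3 : Subgroup (Equiv.Perm (Fin 315)) := wgrp 315 pN pM G3
noncomputable def P5 : Subgroup (Equiv.Perm (Fin 315)) := wgrp 315 pN pM G5
noncomputable def P7 : Subgroup (Equiv.Perm (Fin 315)) := wgrp 315 pN pM G7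

theorem card_P2 : Nat.card P2 = 2 ^ 7 := by
  have := card_gen (pM := pM) valid_all G2_lt W2_lt tab2 nil2 W2_zero tree2_ok bpts bpts_lt fp2
  rw [W2_len] at this
  exact this

theorem card_P3 : Nat.card P3 = 3 ^ 3 := by
  have := card_gen (pM := pM) valid_all G3_lt W3_lt tab3 nil3 W3_zero tree3_ok bpts bpts_lt fp3
  rw [W3_len] at this
  exact this

theorem card_P5 : Nat.card P5 = 5 ^ 2 := by
  have := card_gen (pM := pM) valid_all G5_lt W5_lt tab5 nil5 W5_zero tree5_ok bpts bpts_lt fp5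
  rw [W5_len] at this
  exact this

theorem card_P7 : Nat.card P7 = 7 ^ 1 := by
  have := card_gen (pM := pM) valid_all G7_lt W7_lt tab7 nil7 W7_zero tree7_ok bpts bpts_lt fp7
  rw [W7_len] at this
  exact this

theorem P2_le : P2 ≤ K := wgrp_le fun w hw i hi => (deepK i (G2_deep w hw i hi)).2
theorem P3_le : P3 ≤ K := wgrp_le fun w hw i hi => (deepK i (G3_deep w hw i hi)).2
theorem P5_le : P5 ≤ K := wgrp_le fun w hw i hi => (deepK i (G5_deep w hw i hi)).2
theorem P7_le : P7 ≤ K := wgrp_le fun w hw i hi => (deepK i (G7_deep w hw i hi)).2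

/-- the representatives -/
def Yset (rN rM : List ℕ) : Set (Equiv.Perm (Fin 315)) :=
  {y | ∃ j < rN.length, y = perm 315 (rN.getD j 0) (rM.getD j 0)}

/-- the class certificate in the form needed -/
theorem class_of {r : ℕ} {G W : List (List ℕ)} {T : List (List ℕ)} {rN rM : List ℕ}
    {cert : List (ℕ × ℕ × ℕ × List ℕ)}
    (hG : WordsLt 418 G) (hW : WordsLt 418 W) (htab : genTabB 315 pN G W T = true)
    (hnil : [] ∈ W) (hcd : ∀ c ∈ cert, ∀ i ∈ c.2.2.2, i ∈ deepOf [L0, L1, L2, L3])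
    (hval : ∀ j < rN.length, Valid 315 (rN.getD j 0) (rM.getD j 0))
    (h : classB 315 pN r W rN cert = true) :
    ∀ s ∈ wgrp 315 pN pM G, s ^ r = 1 → s ≠ 1 → ∃ c ∈ K, ∃ y ∈ Yset rN rM, ∃ e : ℕ,
      e % r ≠ 0 ∧ c * s = y ^ e * c := by
  intro s hs hsr hs1
  obtain ⟨w, hw, rfl⟩ := mem_wset_of_gen (pM := pM) valid_all hG hW htab hnil s hs
  obtain ⟨c, hc, j, hj, e, he, hconj⟩ := class_spec (pM := pM) valid_all hW
    (fun c hc i hi => (deepK i (hcd c hc i hi)).1) hval h w hw hsr hs1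
  refine ⟨prodW 315 pN pM c.2.2.2, prodW_mem fun i hi => (deepK i (hcd c hc i hi)).2,
    _, ⟨j, hj, rfl⟩, e, he, hconj⟩

theorem Y_pow {r : ℕ} {rN rM : List ℕ}
    (hval : ∀ j < rN.length, Valid 315 (rN.getD j 0) (rM.getD j 0))
    (hpow : ∀ j < rN.length, ∀ x < 315, iterC [rN.getD j 0] r x = x) :
    ∀ y ∈ Yset rN rM, y ^ r = 1 := by
  rintro _ ⟨j, hj, rfl⟩
  exact perm_pow_eq_one (hval j hj) (hpow j hj)

theorem card_K2 : Nat.card ↥K = 2 ^ 7 * 4725 := by rw [card_K]; norm_num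
theorem card_K3 : Nat.card ↥K = 3 ^ 3 * 22400 := by rw [card_K]; norm_num
theorem card_K5 : Nat.card ↥K = 5 ^ 2 * 24192 := by rw [card_K]; norm_num
theorem card_K7 : Nat.card ↥K = 7 ^ 1 * 86400 := by rw [card_K]; norm_num

theorem Qp2 : ∀ g ∈ K, 2 ∣ orderOf g → Qp g := by
  haveI : Fact (Nat.Prime 2) := ⟨by norm_num⟩
  apply prop_of_prime_dvd K 2 7 4725 card_K2 (by norm_num) P2 P2_le card_P2 (Yset repN2 repM2)
    (class_of G2_lt W2_lt tab2 nil2 cert2_deep rep2_valid class2)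
    (Y_pow rep2_valid rep2_pow) Qp ?_ Qp_conj
  rintro _ ⟨j, hj, rfl⟩
  have hj2 : j < 2 := hj
  interval_cases j
  · exact Qp_of_cent (rep2_valid 0 (by decide)) (by norm_num) (by norm_num) rep_ba.1
      R24_fix0 R24_fix0 cent2A
  · exact Qp_of_cent (rep2_valid 1 (by decide)) (by norm_num) (by norm_num) rep_ba.2.1
      R24_fix1 R24_fix0 cent2B

theorem Qp3 : ∀ g ∈ K, 3 ∣ orderOf g → Qp g := by
  haveI : Fact (Nat.Prime 3) := ⟨by norm_num⟩
  apply prop_of_prime_dvd K 3 3 22400 card_K3 (by norm_num) P3 P3_le card_P3 (Yset repN3 repM3)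
    (class_of G3_lt W3_lt tab3 nil3 cert3_deep rep3_valid class3)
    (Y_pow rep3_valid rep3_pow) Qp ?_ Qp_conj
  rintro _ ⟨j, hj, rfl⟩
  have hj2 : j < 2 := hj
  interval_cases j
  · exact Qp_of_cent (rep3_valid 0 (by decide)) (by norm_num) (by norm_num) rep_ba.2.2.1
      R24_fix1 R24_fix0 cent3A
  · exact Qp_of_cent (rep3_valid 1 (by decide)) (by norm_num) (by norm_num) rep_ba.2.2.2.1
      R24_fix1 R24_fix0 cent3B

theorem Qp5 : ∀ g ∈ K, 5 ∣ orderOf g → Qp g := by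
  haveI : Fact (Nat.Prime 5) := ⟨by norm_num⟩
  apply prop_of_prime_dvd K 5 2 24192 card_K5 (by norm_num) P5 P5_le card_P5 (Yset repN5 repM5)
    (class_of G5_lt W5_lt tab5 nil5 cert5_deep rep5_valid class5)
    (Y_pow rep5_valid rep5_pow) Qp ?_ Qp_conj
  rintro _ ⟨j, hj, rfl⟩
  have hj2 : j < 2 := hj
  interval_cases j
  · exact Qp_of_cent (rep5_valid 0 (by decide)) (by norm_num) (by norm_num) rep_ba.2.2.2.2.1
      R24_fix1 R24_fix0 cent5A
  · exact Qp_of_cent (rep5_valid 1 (by decide)) (by norm_num) (by norm_num) rep_ba.2.2.2.2.2.1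
      R24_fix1 R24_fix0 cent5C

theorem Qp7 : ∀ g ∈ K, 7 ∣ orderOf g → Qp g := by
  haveI : Fact (Nat.Prime 7) := ⟨by norm_num⟩
  apply prop_of_prime_dvd K 7 1 86400 card_K7 (by norm_num) P7 P7_le card_P7 (Yset repN7 repM7)
    (class_of G7_lt W7_lt tab7 nil7 cert7_deep rep7_valid class7)
    (Y_pow rep7_valid rep7_pow) Qp ?_ Qp_conj
  rintro _ ⟨j, hj, rfl⟩
  have hj2 : j < 1 := hj
  interval_cases j
  exact Qp_of_cent (rep7_valid 0 (by decide)) (by norm_num) (by norm_num) rep_ba.2.2.2.2.2.2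
    R24_fix1 R24_fix0 cent7A

/-- every element has a trivial power with exponent 7, 8, 10, 12 or 15 -/
theorem Qp_all (g : Equiv.Perm (Fin 315)) (hg : g ∈ K) : Qp g := by
  by_cases h1 : orderOf g = 1
  · refine ⟨7, by decide, ?_⟩
    rw [orderOf_eq_one_iff.mp h1, one_pow]
  obtain ⟨r, hr, hdvd⟩ := Nat.exists_prime_and_dvd h1
  have hK : orderOf g ∣ 604800 := by
    have := orderOf_dvd_natCard (⟨g, hg⟩ : ↥K)
    rw [card_K, Subgroup.orderOf_mk] at this
    exact this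
  have hr' : r ∣ 2 ^ 7 * (3 ^ 3 * (5 ^ 2 * 7)) := by
    have : (604800 : ℕ) = 2 ^ 7 * (3 ^ 3 * (5 ^ 2 * 7)) := by norm_num
    rw [← this]
    exact hdvd.trans hK
  rcases (Nat.Prime.dvd_mul hr).mp hr' with h | h
  · have := (Nat.prime_dvd_prime_iff_eq hr (by norm_num)).mp (hr.dvd_of_dvd_pow h)
    subst this
    exact Qp2 g hg hdvd
  rcases (Nat.Prime.dvd_mul hr).mp h with h | h
  · have := (Nat.prime_dvd_prime_iff_eq hr (by norm_num)).mp (hr.dvd_of_dvd_pow h)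
    subst this
    exact Qp3 g hg hdvd
  rcases (Nat.Prime.dvd_mul hr).mp h with h | h
  · have := (Nat.prime_dvd_prime_iff_eq hr (by norm_num)).mp (hr.dvd_of_dvd_pow h)
    subst this
    exact Qp5 g hg hdvd
  · have := (Nat.prime_dvd_prime_iff_eq hr (by norm_num)).mp h
    subst this
    exact Qp7 g hg hdvd

/-- the set of element orders -/
def spec : Finset ℕ := {1, 2, 3, 4, 5, 6, 7, 8, 10, 12, 15}

theorem orderOf_mem_spec (g : Equiv.Perm (Fin 315)) (hg : g ∈ K) : orderOf g ∈ spec := by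
  obtain ⟨e, he, h⟩ := Qp_all g hg
  have hd : orderOf g ∣ e := orderOf_dvd_of_pow_eq_one h
  have key : ∀ e ∈ expos, ∀ d ∈ Nat.divisors e, d ∈ spec := by decide
  exact key e he _ (Nat.mem_divisors.mpr ⟨hd, by
    rintro rfl
    revert he
    decide⟩)

/-! ### the orders that occur -/

theorem ordW_ok : ∀ t ∈ ordW, (∀ i ∈ t.2.1, i ∈ deepOf [L0, L1, L2, L3]) ∧ 0 < t.1 ∧
    (∀ p ∈ bpts, iterC (t.2.1.map pN) t.1 p = p) ∧
    ∀ m < t.1, 0 < m → ∃ q ∈ t.2.2, q.1 = m ∧ q.2 < 315 ∧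
      iterC (t.2.1.map pN) m q.2 ≠ q.2 := by decide +kernel

theorem ordW_fst : ordW.map (fun t => t.1) = [1, 2, 3, 4, 5, 6, 7, 8, 10, 12, 15] := by
  decide +kernel

theorem exists_orderOf (o : ℕ) (ho : o ∈ spec) : ∃ g ∈ K, orderOf g = o := by
  have hmem : o ∈ ordW.map (fun t => t.1) := by
    rw [ordW_fst]
    revert ho
    unfold spec
    simp
  obtain ⟨t, ht, rfl⟩ := List.mem_map.mp hmem
  obtain ⟨hdeep, hpos, hfix, hne⟩ := ordW_ok t ht
  have hwlt : ∀ i ∈ t.2.1, i < 418 := fun i hi => (deepK i (hdeep i hi)).1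
  have hK : prodW 315 pN pM t.2.1 ∈ K := prodW_mem fun i hi => (deepK i (hdeep i hi)).2
  refine ⟨_, hK, ?_⟩
  rw [orderOf_eq_iff hpos]
  constructor
  · apply K_base' _ (K.pow_mem hK _)
    intro p hp hpn
    apply Fin.ext
    rw [← prodW_replicate, prodW_apply 315 pN pM
      (fun i hi => valid_all i (hwlt i (mem_replicate_flatten hi))), ← iterC_eq]
    exact hfix p hp
  · intro m hm hm0 h1
    obtain ⟨q, hq, rfl, hq315, hmv⟩ := hne m hm hm0
    apply hmv
    have := congrArg (fun σ : Equiv.Perm (Fin 315) => (σ ⟨q.2, hq315⟩).1) h1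
    simp only [Equiv.Perm.one_apply] at this
    rw [← prodW_replicate, prodW_apply 315 pN pM
      (fun i hi => valid_all i (hwlt i (mem_replicate_flatten hi))), ← iterC_eq] at this
    exact this

/-- the set of element orders of the Hall-Janko permutation group -/
theorem range_orderOf : Set.range (orderOf : ↥K → ℕ) = (spec : Set ℕ) := by
  ext o
  constructor
  · rintro ⟨g, rfl⟩
    rw [← Subgroup.orderOf_coe]
    exact orderOf_mem_spec g.1 g.2
  · intro ho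
    obtain ⟨g, hg, rfl⟩ := exists_orderOf o ho
    exact ⟨⟨g, hg⟩, Subgroup.orderOf_mk g hg⟩

end Cfsg.Agent.Lib.Helper8.J2S
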