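import Mathlib

/-!
# Unit HEIS27 of farm J2S (S5403, owner helper9)
-/

set_option autoImplicit false

namespace Cfsg.Agent.Lib.Helper8.J2SHEIS27

section
variable {G : Type*} [Group G] (x y c : G)

/-- `x^i y = c^i y x^i` when `x y = c y x` and `c` commutes with `x`. -/
theorem pow_mul_eq (hxy : x * y = c * (y * x)) (hcx : Commute c x) (i : ℕ) :
    x ^ i * y = c ^ i * (y * x ^ i) := by
  induction i with
  | zero => simp
  | succ i ih =>
    have h1 : x ^ i * c = c * x ^ i := (hcx.pow_right i).eq.symm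
    calc x ^ (i + 1) * y = x ^ i * (x * y) := by rw [pow_succ, mul_assoc]
      _ = x ^ i * c * (y * x) := by rw [hxy, mul_assoc]
      _ = c * (x ^ i * y) * x := by rw [h1]; simp only [mul_assoc]
      _ = c * (c ^ i * (y * x ^ i)) * x := by rw [ih]
      _ = c ^ (i + 1) * (y * x ^ (i + 1)) := by
        rw [pow_succ' c i, pow_succ x i]; simp only [mul_assoc]

/-- `x y^j = c^j y^j x` when `x y = c y x` and `c` commutes with `y`. -/
theorem mul_pow_eq (hxy : x * y = c * (y * x)) (hcy : Commute c y) (j : ℕ) :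
    x * y ^ j = c ^ j * (y ^ j * x) := by
  induction j with
  | zero => simp
  | succ j ih =>
    have h1 : y ^ j * c = c * y ^ j := (hcy.pow_right j).eq.symm
    calc x * y ^ (j + 1) = (x * y ^ j) * y := by rw [pow_succ, mul_assoc]
      _ = c ^ j * (y ^ j * (x * y)) := by rw [ih]; simp only [mul_assoc]
      _ = c ^ j * (y ^ j * c * (y * x)) := by rw [hxy]; simp only [mul_assoc]
      _ = c ^ j * (c * y ^ j * (y * x)) := by rw [h1]
      _ = c ^ (j + 1) * (y ^ (j + 1) * x) := by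
        rw [pow_succ c j, pow_succ y j]; simp only [mul_assoc]

end

/-- Unit HEIS27. -/
theorem card_closure_pair {G : Type*} [Group G] (x y : G) (hx : x ^ 3 = 1) (hy : y ^ 3 = 1)
    (hcx : (x * y * x⁻¹ * y⁻¹) * x = x * (x * y * x⁻¹ * y⁻¹))
    (hcy : (x * y * x⁻¹ * y⁻¹) * y = y * (x * y * x⁻¹ * y⁻¹))
    (hc3 : (x * y * x⁻¹ * y⁻¹) ^ 3 = 1) (hne : x * y ≠ y * x) :
    Nat.card ↥(Subgroup.closure ({x, y} : Set G)) = 27 := by
  set c : G := x * y * x⁻¹ * y⁻¹ with hc
  have hxy : x * y = c * (y * x) := by rw [hc]; group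
  have hcx' : Commute c x := hcx
  have hcy' : Commute c y := hcy
  have hc1 : c ≠ 1 := by
    intro h; apply hne; rw [hxy, h, one_mul]
  have L1 := pow_mul_eq x y c hxy hcx'
  have L2 := mul_pow_eq x y c hxy hcy'
  have hoc : orderOf c = 3 := orderOf_eq_prime hc3 hc1
  -- reduction of exponents
  have hmod : ∀ (a : G), a ^ 3 = 1 → ∀ n, a ^ n = a ^ (n % 3) := by
    intro a ha n
    conv_lhs => rw [← Nat.div_add_mod n 3, pow_add, pow_mul, ha, one_pow, one_mul]
  -- `y x^i = x^i y c^(2i)`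
  have hF3 : ∀ i, y * x ^ i = x ^ i * y * c ^ (2 * i) := by
    intro i
    have h1 : c ^ (2 * i) * (x ^ i * y) = y * x ^ i := by
      rw [L1 i, ← mul_assoc, ← pow_add, show 2 * i + i = 3 * i by ring, pow_mul, hc3, one_pow,
        one_mul]
    have h2 : Commute (c ^ (2 * i)) (x ^ i * y) :=
      (hcx'.pow_pow _ _).mul_right (hcy'.pow_left _)
    rw [← h1, h2.eq]
  -- normal forms are stable under left multiplication by `x` and `y`
  have hxstep : ∀ g : G, (∃ i j k : ℕ, g = x ^ i * y ^ j * c ^ k) →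
      ∃ i j k : ℕ, x * g = x ^ i * y ^ j * c ^ k := by
    rintro g ⟨i, j, k, rfl⟩
    exact ⟨i + 1, j, k, by rw [pow_succ' x i]; simp only [mul_assoc]⟩
  have hystep : ∀ g : G, (∃ i j k : ℕ, g = x ^ i * y ^ j * c ^ k) →
      ∃ i j k : ℕ, y * g = x ^ i * y ^ j * c ^ k := by
    rintro g ⟨i, j, k, rfl⟩
    refine ⟨i, j + 1, 2 * i + k, ?_⟩
    have h1 : c ^ (2 * i) * y ^ j = y ^ j * c ^ (2 * i) := (hcy'.pow_pow _ _).eq
    calc y * (x ^ i * y ^ j * c ^ k) = (y * x ^ i) * y ^ j * c ^ k := by simp only [mul_assoc]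
      _ = x ^ i * y * (c ^ (2 * i) * y ^ j) * c ^ k := by rw [hF3 i]; simp only [mul_assoc]
      _ = x ^ i * y * (y ^ j * c ^ (2 * i)) * c ^ k := by rw [h1]
      _ = x ^ i * y ^ (j + 1) * c ^ (2 * i + k) := by
        rw [pow_succ' y j, pow_add]; simp only [mul_assoc]
  have hxinv : x⁻¹ = x * x := by
    apply inv_eq_of_mul_eq_one_right
    rw [← hx]; simp only [pow_succ, pow_zero, one_mul, mul_assoc]
  have hyinv : y⁻¹ = y * y := by
    apply inv_eq_of_mul_eq_one_right
    rw [← hy]; simp only [pow_succ, pow_zero, one_mul, mul_assoc]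
  have hsub : ∀ g ∈ Subgroup.closure ({x, y} : Set G),
      ∃ i j k : ℕ, g = x ^ i * y ^ j * c ^ k := by
    intro g hg
    induction hg using Subgroup.closure_induction_left with
    | one => exact ⟨0, 0, 0, by simp⟩
    | mul_left a ha b hb ih =>
      rcases ha with rfl | rfl
      · exact hxstep b ih
      · exact hystep b ih
    | inv_mul_cancel a ha b hb ih =>
      rcases ha with rfl | rfl
      · rw [hxinv, mul_assoc]
        exact hxstep _ (by obtain ⟨i, j, k, h⟩ := hxstep b ih; exact ⟨i, j, k, h⟩)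
      · rw [hyinv, mul_assoc]
        exact hystep _ (by obtain ⟨i, j, k, h⟩ := hystep b ih; exact ⟨i, j, k, h⟩)
  -- membership
  have hxH : x ∈ Subgroup.closure ({x, y} : Set G) := Subgroup.subset_closure (by simp)
  have hyH : y ∈ Subgroup.closure ({x, y} : Set G) := Subgroup.subset_closure (by simp)
  have hcH : c ∈ Subgroup.closure ({x, y} : Set G) := by
    rw [hc]
    exact mul_mem (mul_mem (mul_mem hxH hyH) (inv_mem hxH)) (inv_mem hyH)
  -- two conjugation identities for normal forms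
  have hA : ∀ i j k : ℕ, (x ^ i * y ^ j * c ^ k) * y = c ^ i * (y * (x ^ i * y ^ j * c ^ k)) := by
    intro i j k
    have h1 : c ^ k * y = y * c ^ k := (hcy'.pow_left k).eq
    have h2 : y ^ j * y = y * y ^ j := (pow_mul_comm' y j).symm ▸ rfl
    calc (x ^ i * y ^ j * c ^ k) * y = x ^ i * y ^ j * (c ^ k * y) := by simp only [mul_assoc]
      _ = x ^ i * (y ^ j * y) * c ^ k := by rw [h1]; simp only [mul_assoc]
      _ = (x ^ i * y) * y ^ j * c ^ k := by rw [h2]; simp only [mul_assoc]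
      _ = c ^ i * (y * (x ^ i * y ^ j * c ^ k)) := by rw [L1 i]; simp only [mul_assoc]
  have hB : ∀ i j k : ℕ, x * (x ^ i * y ^ j * c ^ k) = c ^ j * ((x ^ i * y ^ j * c ^ k) * x) := by
    intro i j k
    have h1 : x * x ^ i = x ^ i * x := (pow_mul_comm' x i).symm ▸ rfl
    have h2 : x ^ i * c ^ j = c ^ j * x ^ i := ((hcx'.pow_pow j i).eq).symm
    have h3 : x * c ^ k = c ^ k * x := ((hcx'.pow_left k).eq).symm
    calc x * (x ^ i * y ^ j * c ^ k) = (x * x ^ i) * y ^ j * c ^ k := by simp only [mul_assoc]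
      _ = x ^ i * (x * y ^ j) * c ^ k := by rw [h1]; simp only [mul_assoc]
      _ = (x ^ i * c ^ j) * (y ^ j * (x * c ^ k)) := by rw [L2 j]; simp only [mul_assoc]
      _ = c ^ j * ((x ^ i * y ^ j * c ^ k) * x) := by rw [h2, h3]; simp only [mul_assoc]
  -- injectivity of `c`-powers on exponents below 3
  have hcinj : ∀ a b : ℕ, a < 3 → b < 3 → c ^ a = c ^ b → a = b := by
    intro a b ha hb h
    have := pow_inj_mod.mp h
    rw [hoc, Nat.mod_eq_of_lt ha, Nat.mod_eq_of_lt hb] at this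
    exact this
  -- the bijection
  let f : Fin 3 × Fin 3 × Fin 3 → ↥(Subgroup.closure ({x, y} : Set G)) := fun t =>
    ⟨x ^ (t.1 : ℕ) * y ^ (t.2.1 : ℕ) * c ^ (t.2.2 : ℕ),
      mul_mem (mul_mem (pow_mem hxH _) (pow_mem hyH _)) (pow_mem hcH _)⟩
  have hfinj : Function.Injective f := by
    rintro ⟨i, j, k⟩ ⟨i', j', k'⟩ h
    have h0 : x ^ (i : ℕ) * y ^ (j : ℕ) * c ^ (k : ℕ) = x ^ (i' : ℕ) * y ^ (j' : ℕ) * c ^ (k' : ℕ) :=
      congrArg Subtype.val h
    have hi : (i : ℕ) = i' := by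
      apply hcinj _ _ i.2 i'.2
      have e1 := hA i j k
      have e2 := hA i' j' k'
      rw [h0] at e1
      rw [e1] at e2
      exact mul_right_cancel e2
    have hj : (j : ℕ) = j' := by
      apply hcinj _ _ j.2 j'.2
      have e1 := hB i j k
      have e2 := hB i' j' k'
      rw [h0] at e1
      rw [e1] at e2
      exact mul_right_cancel e2
    have hk : (k : ℕ) = k' := by
      apply hcinj _ _ k.2 k'.2
      rw [hi, hj] at h0
      exact mul_left_cancel h0
    have hi' : i = i' := Fin.ext hi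
    have hj' : j = j' := Fin.ext hj
    have hk' : k = k' := Fin.ext hk
    rw [hi', hj', hk']
  have hfsurj : Function.Surjective f := by
    rintro ⟨g, hg⟩
    obtain ⟨i, j, k, rfl⟩ := hsub g hg
    refine ⟨(⟨i % 3, Nat.mod_lt _ (by norm_num)⟩, ⟨j % 3, Nat.mod_lt _ (by norm_num)⟩,
      ⟨k % 3, Nat.mod_lt _ (by norm_num)⟩), ?_⟩
    apply Subtype.ext
    show x ^ (i % 3) * y ^ (j % 3) * c ^ (k % 3) = x ^ i * y ^ j * c ^ k
    rw [← hmod x hx i, ← hmod y hy j, ← hmod c hc3 k]
  rw [← Nat.card_congr (Equiv.ofBijective f ⟨hfinj, hfsurj⟩)]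
  simp

end Cfsg.Agent.Lib.Helper8.J2SHEIS27
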