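import Cfsg.Agent.Lib.Helper9.Co1g

/-!
# Unit KBOUND of farm J2S (S5403, owner helper9): two counting lemmas

Statements verbatim from `Lib/Helper9/J2SStubs3.lean`.
-/

set_option autoImplicit false
set_option maxRecDepth 1000000

namespace Cfsg.Agent.Lib.Helper8.J2SKBOUND

open scoped Pointwise
open Cfsg Finset Cfsg.Agent.Lib.Helper4.Leech Cfsg.Agent.Lib.Helper9.LeechC7
  Cfsg.Agent.Lib.Helper9.LeechM1 Cfsg.Agent.Lib.Helper9.LeechM2 Cfsg.Agent.Lib.Helper9.LeechM4
  Cfsg.Agent.Lib.Helper9.LeechX4 Cfsg.Agent.Lib.Helper9.LeechX7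
  Cfsg.Agent.Lib.Helper9.M24T8 Cfsg.Agent.Lib.Helper9.M24T3 Cfsg.Agent.Lib.Helper9.M24U1
  Cfsg.Agent.Lib.Helper9.M24T1 Cfsg.Agent.Lib.Helper9.GolayQR1
  Cfsg.Agent.Lib.Helper9.OrbCert1 Cfsg.Agent.Lib.Helper9.OrbCert3
  Cfsg.Agent.Lib.Helper9.Co1a Cfsg.Agent.Lib.Helper9.Co1b Cfsg.Agent.Lib.Helper9.Co1c
  Cfsg.Agent.Lib.Helper9.Co1e Cfsg.Agent.Lib.Helper9.Co1f Cfsg.Agent.Lib.Helper9.Co1g

/-- `E none` is not its own negative -/
theorem E_none_ne_neg : (E none : leechLattice) ≠ -(E none) := by
  intro h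
  have h2 : (E none : leechLattice).1 none = (-(E none) : leechLattice).1 none :=
    congrArg (fun v : leechLattice => v.1 none) h
  have h3 : ((-(E none) : leechLattice) : GolayPt → ℤ) none = -8 := by
    simp [E_val]
  have h4 : ((E none : leechLattice) : GolayPt → ℤ) none = 8 := by
    simp [E_val]
  rw [h3, h4] at h2
  norm_num at h2

/-- a subgroup of the pointwise stabiliser of the vectors supported on the octad which meets a set of
16 elements of that stabiliser, closed under quotients, trivially, has order at most 32. -/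
theorem stab_card_le (S : Subgroup ↥Co0)
    (hS : ∀ g ∈ S, g ∈ Ct ∧ ∀ v : leechLattice, InO v → g.1 v = v)
    (φ : Fin 16 → ↥Co0) (hφ : ∀ i, φ i ∈ Ct ∧ ∀ v : leechLattice, InO v → (φ i).1 v = v)
    (hinj : ∀ i j, φ i * (φ j)⁻¹ ∈ S → i = j) : Nat.card ↥S ≤ 32 := by
  -- the elements `s * φ i * (±1)` of `Qt`
  have hnCt : negOne ∈ Ct := by rw [← nC_val]; exact nC.2
  have hneg : ∀ v : leechLattice, negOne.1 v = -v := fun v => rfl
  have hfix : ∀ (s : ↥S) (i : Fin 16) (v : leechLattice), InO v → (s.1 * φ i).1 v = v := by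
    intro s i v hv
    show s.1.1 ((φ i).1 v) = v
    rw [(hφ i).2 v hv, (hS s.1 s.2).2 v hv]
  have hmemCt : ∀ (s : ↥S) (i : Fin 16) (b : Bool),
      s.1 * φ i * (if b then negOne else 1) ∈ Ct := by
    intro s i b
    refine mul_mem (mul_mem (hS s.1 s.2).1 (hφ i).1) ?_
    split_ifs
    · exact hnCt
    · exact one_mem _
  have hact : ∀ (s : ↥S) (i : Fin 16) (b : Bool) (v : leechLattice), InO v →
      (s.1 * φ i * (if b then negOne else 1)).1 v = if b then -v else v := by
    intro s i b v hv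
    cases b
    · simp only [Bool.false_eq_true, if_false, mul_one]
      exact hfix s i v hv
    · simp only [if_true]
      show (s.1 * φ i).1 (negOne.1 v) = -v
      rw [hneg, hfix s i (-v) (inO_neg hv)]
  let F : ↥S × Fin 16 × Bool → ↥Qt := fun t =>
    ⟨⟨t.1.1 * φ t.2.1 * (if t.2.2 then negOne else 1), hmemCt t.1 t.2.1 t.2.2⟩, by
      rw [mem_Qt]
      cases hb : t.2.2
      · left
        intro v hv
        have := hact t.1 t.2.1 t.2.2 v hv
        rw [hb] at this
        simpa using this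
      · right
        intro v hv
        have := hact t.1 t.2.1 t.2.2 v hv
        rw [hb] at this
        simpa using this⟩
  have hFinj : Function.Injective F := by
    rintro ⟨s, i, b⟩ ⟨s', j, b'⟩ h
    have h0 : s.1 * φ i * (if b then negOne else 1) = s'.1 * φ j * (if b' then negOne else 1) :=
      congrArg (fun q : ↥Qt => q.1.1) h
    -- compare the action on `E none`
    have hv0 : InO (E none) := inO_E none_mem_O8
    have e1 := hact s i b (E none) hv0
    have e2 := hact s' j b' (E none) hv0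
    rw [h0, e2] at e1
    have hbb : b = b' := by
      cases b <;> cases b' <;> simp at e1 ⊢
      · exact E_none_ne_neg e1.symm
      · exact E_none_ne_neg e1
    subst hbb
    have h1 : s.1 * φ i = s'.1 * φ j := mul_right_cancel h0
    have h2 : φ j * (φ i)⁻¹ = s'.1⁻¹ * s.1 := by
      have : s'.1⁻¹ * (s.1 * φ i) * (φ i)⁻¹ = s'.1⁻¹ * (s'.1 * φ j) * (φ i)⁻¹ := by rw [h1]
      calc φ j * (φ i)⁻¹ = s'.1⁻¹ * (s'.1 * φ j) * (φ i)⁻¹ := by group
        _ = s'.1⁻¹ * (s.1 * φ i) * (φ i)⁻¹ := this.symm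
        _ = s'.1⁻¹ * s.1 := by group
    have hji : j = i := hinj j i (by rw [h2]; exact mul_mem (inv_mem s'.2) s.2)
    subst hji
    have h3 : s.1 = s'.1 := mul_right_cancel h1
    have h4 : s = s' := Subtype.ext h3
    rw [h4]
  have hle := Nat.card_le_card_of_injective F hFinj
  rw [card_Qt] at hle
  have hc : Nat.card (↥S × Fin 16 × Bool) = Nat.card ↥S * 32 := by
    rw [Nat.card_prod, Nat.card_prod]
    simp
  rw [hc] at hle
  omega

/-- orbit counting without a `MulAction` instance -/
theorem card_eq_of_fibres {G : Type*} [Group G] [Finite G] {X : Type*} (f : G → X)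
    (S : Subgroup G) (hf : ∀ g h : G, f g = f h ↔ g⁻¹ * h ∈ S) (m k : ℕ)
    (hr : (Set.range f).ncard = m) (hS : Nat.card ↥S = k) : Nat.card G = m * k := by
  have e : (G ⧸ S) ≃ Set.range f := by
    refine Equiv.ofBijective
      (Quotient.lift (fun g => (⟨f g, g, rfl⟩ : Set.range f)) ?_) ⟨?_, ?_⟩
    · intro a b hab
      apply Subtype.ext
      exact (hf a b).mpr (QuotientGroup.leftRel_apply.mp hab)
    · intro q1 q2
      induction q1 using Quotient.inductionOn with
      | h a =>
        induction q2 using Quotient.inductionOn with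
        | h b =>
          intro h
          have h' : f a = f b := congrArg Subtype.val h
          exact Quotient.sound (QuotientGroup.leftRel_apply.mpr ((hf a b).mp h'))
    · rintro ⟨_, g, rfl⟩
      exact ⟨Quotient.mk _ g, rfl⟩
  have h1 : Nat.card (G ⧸ S) = m := by
    rw [Nat.card_congr e, Nat.card_coe_set_eq, hr]
  have h2 := Subgroup.card_eq_card_quotient_mul_card_subgroup S
  rw [h2, h1, hS]

end Cfsg.Agent.Lib.Helper8.J2SKBOUND
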