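import Mathlib

/-!
# Generic part of unit NSTR of farm J2S (S5403, owner helper9)

`N = ⟨a, z⟩` inside the centraliser of `a`, where the centre of `G` is `{1, z}`.
-/

set_option autoImplicit false

namespace Cfsg.Agent.Lib.Helper8.J2SNSTR0

variable {G : Type*} [Group G]

/-- the centraliser of `⟨a⟩` -/
abbrev CA (a : G) : Subgroup G :=
  Subgroup.centralizer ((Subgroup.zpowers a : Subgroup G) : Set G)

/-- the subgroup `⟨a, Z(G)⟩` of it -/
abbrev NA (a : G) : Subgroup ↥(CA a) :=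
  (Subgroup.zpowers a ⊔ Subgroup.center G).subgroupOf (CA a)

theorem mem_CA (a g : G) : g ∈ CA a ↔ g * a = a * g := by
  rw [Subgroup.mem_centralizer_iff]
  constructor
  · intro h
    exact (h a (Subgroup.mem_zpowers a)).symm
  · rintro h _ ⟨n, rfl⟩
    have hc : Commute g a := h
    exact (hc.zpow_right n).eq.symm

theorem card_zpowers (a : G) (ha5 : a ^ 5 = 1) (ha1 : a ≠ 1) :
    Nat.card ↥(Subgroup.zpowers a) = 5 := by
  have : Fact (Nat.Prime 5) := ⟨by norm_num⟩
  rw [Nat.card_zpowers]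
  exact orderOf_eq_prime ha5 ha1

theorem sup_le_CA (a : G) : Subgroup.zpowers a ⊔ Subgroup.center G ≤ CA a := by
  apply sup_le
  · rw [Subgroup.zpowers_le, mem_CA]
  · exact Subgroup.center_le_centralizer _

theorem NA_le_center (a : G) : NA a ≤ Subgroup.center ↥(CA a) := by
  intro x hx
  rw [Subgroup.mem_center_iff]
  intro g
  have hx' : x.1 ∈ Subgroup.zpowers a ⊔ Subgroup.center G := Subgroup.mem_subgroupOf.mp hx
  have hle : Subgroup.zpowers a ⊔ Subgroup.center G ≤ Subgroup.centralizer {g.1} := by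
    apply sup_le
    · rw [Subgroup.zpowers_le, Subgroup.mem_centralizer_iff]
      intro h hh
      rw [Set.mem_singleton_iff] at hh
      rw [hh]
      exact (mem_CA a g.1).mp g.2
    · exact Subgroup.center_le_centralizer _
  have h1 := hle hx'
  rw [Subgroup.mem_centralizer_iff] at h1
  apply Subtype.ext
  exact h1 g.1 rfl

theorem NA_normal (a : G) : (NA a).Normal := by
  refine ⟨fun n hn g => ?_⟩
  have h1 := NA_le_center a hn
  rw [Subgroup.mem_center_iff] at h1
  have : g * n * g⁻¹ = n := by rw [h1 g, mul_inv_cancel_right]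
  rw [this]
  exact hn


section centre
variable (z : G) (hz : z ∈ Subgroup.center G) (hz1 : z ≠ 1)
  (hcen : ∀ c : G, c ∈ Subgroup.center G → c = 1 ∨ c = z)

include hz hz1 hcen in
theorem z_sq : z * z = 1 := by
  rcases hcen (z * z) (mul_mem hz hz) with h | h
  · exact h
  · exact absurd (mul_eq_right.mp h) hz1

include hz hcen in
theorem mem_NA (a : G) (ha5 : a ^ 5 = 1) (x : ↥(CA a)) :
    x ∈ NA a ↔ ∃ k : ℕ, k < 5 ∧ (x.1 = a ^ k ∨ x.1 = a ^ k * z) := by
  constructor
  · intro hx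
    have hx' : x.1 ∈ Subgroup.zpowers a ⊔ Subgroup.center G := Subgroup.mem_subgroupOf.mp hx
    have hx2 : x.1 ∈ ((Subgroup.zpowers a ⊔ Subgroup.center G : Subgroup G) : Set G) := hx'
    rw [Subgroup.mul_normal, Set.mem_mul] at hx2
    obtain ⟨h, hh, c, hc, hhc⟩ := hx2
    obtain ⟨n, rfl⟩ := hh
    have hpow : a ^ n = a ^ (n % 5).toNat := by
      have h5 : (a : G) ^ (5 : ℤ) = 1 := by exact_mod_cast ha5
      have hnn : 0 ≤ n % 5 := Int.emod_nonneg _ (by norm_num)
      conv_lhs => rw [← Int.mul_ediv_add_emod n 5, zpow_add, zpow_mul, h5, one_zpow, one_mul]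
      conv_lhs => rw [← Int.toNat_of_nonneg hnn, zpow_natCast]
    refine ⟨(n % 5).toNat, by omega, ?_⟩
    rcases hcen c hc with rfl | rfl
    · left
      rw [← hhc]
      simp only [mul_one]
      exact hpow
    · right
      rw [← hhc]
      simp only
      rw [hpow]
  · rintro ⟨k, -, h | h⟩
    · apply Subgroup.mem_subgroupOf.mpr
      rw [h]
      exact (le_sup_left : Subgroup.zpowers a ≤ _) (Subgroup.pow_mem _ (Subgroup.mem_zpowers a) k)
    · apply Subgroup.mem_subgroupOf.mpr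
      rw [h]
      exact mul_mem
        ((le_sup_left : Subgroup.zpowers a ≤ _) (Subgroup.pow_mem _ (Subgroup.mem_zpowers a) k))
        ((le_sup_right : Subgroup.center G ≤ _) hz)

include hz hz1 hcen in
theorem NA_pow_ten (a : G) (ha5 : a ^ 5 = 1) : ∀ c ∈ NA a, c ^ 10 = 1 := by
  intro c hc
  obtain ⟨k, -, h | h⟩ := (mem_NA z hz hcen a ha5 c).mp hc
  · apply Subtype.ext
    rw [Subgroup.coe_pow, h, ← pow_mul, mul_comm, pow_mul, show (10 : ℕ) = 5 * 2 by norm_num,
      pow_mul, ha5]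
    simp
  · apply Subtype.ext
    have hcomm : Commute (a ^ k) z := Subgroup.mem_center_iff.mp hz (a ^ k)
    have hz2 : z ^ 2 = 1 := by rw [pow_two]; exact z_sq z hz hz1 hcen
    rw [Subgroup.coe_pow, h, hcomm.mul_pow, ← pow_mul, mul_comm k 10,
      show (10 : ℕ) = 5 * 2 by norm_num, mul_assoc, pow_mul a 5, ha5, pow_mul z 2 5, hz2]
    simp

include hz hz1 hcen in
/-- the only elements of `N` of order dividing 4 are `1` and `z` -/
theorem NA_pow_four (a : G) (ha5 : a ^ 5 = 1) (x : ↥(CA a)) (hx : x ∈ NA a)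
    (h4 : x ^ 4 = 1) : x.1 = 1 ∨ x.1 = z := by
  have hz2 : z ^ 2 = 1 := by rw [pow_two]; exact z_sq z hz hz1 hcen
  have h4' : x.1 ^ 4 = 1 := by
    have := congrArg Subtype.val h4
    simpa using this
  -- `a^k = 1` as soon as `(a^k)^4 = 1`
  have key : ∀ k : ℕ, (a ^ k) ^ 4 = 1 → a ^ k = 1 := by
    intro k hk
    have h1 : a ^ (5 * k) = 1 := by rw [pow_mul, ha5, one_pow]
    have h2 : a ^ (5 * k) = (a ^ k) ^ 4 * a ^ k := by
      rw [← pow_mul, ← pow_add]; congr 1; ring
    rw [h1, hk, one_mul] at h2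
    exact h2.symm
  obtain ⟨k, -, h | h⟩ := (mem_NA z hz hcen a ha5 x).mp hx
  · left
    rw [h] at h4' ⊢
    exact key k h4'
  · right
    have hcomm : Commute (a ^ k) z := Subgroup.mem_center_iff.mp hz (a ^ k)
    rw [h] at h4' ⊢
    rw [hcomm.mul_pow, show (4 : ℕ) = 2 * 2 by norm_num, pow_mul z 2 2, hz2, one_pow, mul_one]
      at h4'
    rw [key k h4', one_mul]

include hz hz1 hcen in
/-- an involution different from `1` and `z` is not in `N` -/
theorem notMem_NA (a : G) (ha5 : a ^ 5 = 1) (e : G) (he2 : e * e = 1) (he1 : e ≠ 1)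
    (hez : e ≠ z) (he : e ∈ CA a) : (⟨e, he⟩ : ↥(CA a)) ∉ NA a := by
  intro hmem
  have h4 : (⟨e, he⟩ : ↥(CA a)) ^ 4 = 1 := by
    apply Subtype.ext
    rw [Subgroup.coe_pow]
    show e ^ 4 = 1
    have h44 : e ^ 4 = (e * e) * (e * e) := by
      simp only [pow_succ, pow_zero, one_mul, mul_assoc]
    rw [h44, he2, one_mul]
  rcases NA_pow_four z hz hz1 hcen a ha5 _ hmem h4 with h | h
  · exact he1 h
  · exact hez h

include hz hz1 hcen in
/-- hypothesis `hconj` of `j2type_of_data`, generic form -/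
theorem conj_eq_one (a : G) (ha5 : a ^ 5 = 1) (e : G) (he2 : e * e = 1)
    (hnc : ∀ g : G, g * e * g⁻¹ ≠ z * e) (he : e ∈ CA a) (g : ↥(CA a)) (c : ↥(CA a))
    (hc : c ∈ NA a) (h : g * ⟨e, he⟩ * g⁻¹ = c * ⟨e, he⟩) : c = 1 := by
  have hcc := NA_le_center a hc
  rw [Subgroup.mem_center_iff] at hcc
  -- `c^2 = 1`
  have he2' : (⟨e, he⟩ : ↥(CA a)) * ⟨e, he⟩ = 1 := Subtype.ext he2
  have h1 : (c * ⟨e, he⟩) * (c * ⟨e, he⟩) = 1 := by
    rw [← h]
    calc g * ⟨e, he⟩ * g⁻¹ * (g * ⟨e, he⟩ * g⁻¹)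
        = g * (⟨e, he⟩ * ⟨e, he⟩) * g⁻¹ := by group
      _ = 1 := by rw [he2']; group
  have h2 : c * c = 1 := by
    have : (c * ⟨e, he⟩) * (c * ⟨e, he⟩) = c * c * (⟨e, he⟩ * ⟨e, he⟩) := by
      calc (c * ⟨e, he⟩) * (c * ⟨e, he⟩) = c * (⟨e, he⟩ * c) * ⟨e, he⟩ := by group
        _ = c * (c * ⟨e, he⟩) * ⟨e, he⟩ := by rw [hcc ⟨e, he⟩]
        _ = c * c * (⟨e, he⟩ * ⟨e, he⟩) := by group
    rw [this, he2', mul_one] at h1
    exact h1
  have h4 : c ^ 4 = 1 := by
    have h44 : c ^ 4 = (c * c) * (c * c) := by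
      simp only [pow_succ, pow_zero, one_mul, mul_assoc]
    rw [h44, h2, one_mul]
  rcases NA_pow_four z hz hz1 hcen a ha5 c hc h4 with h3 | h3
  · exact Subtype.ext h3
  · exfalso
    apply hnc g.1
    have := congrArg Subtype.val h
    simp only [Subgroup.coe_mul, Subgroup.coe_inv] at this
    rw [this, h3]

include hz hz1 hcen in
theorem card_NA [Finite G] (a : G) (ha5 : a ^ 5 = 1) (ha1 : a ≠ 1) : Nat.card ↥(NA a) = 10 := by
  have hp5 : Fact (Nat.Prime 5) := ⟨by norm_num⟩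
  have hp2 : Fact (Nat.Prime 2) := ⟨by norm_num⟩
  have hz2 : z ^ 2 = 1 := by rw [pow_two]; exact z_sq z hz hz1 hcen
  -- upper bound
  have hle : Nat.card ↥(NA a) ≤ 10 := by
    let f : Fin 5 × Bool → ↥(NA a) := fun t =>
      ⟨⟨a ^ (t.1 : ℕ) * (if t.2 then z else 1), by
        apply sup_le_CA a
        refine mul_mem ((le_sup_left : Subgroup.zpowers a ≤ _)
          (Subgroup.pow_mem _ (Subgroup.mem_zpowers a) _)) ?_
        split_ifs
        · exact (le_sup_right : Subgroup.center G ≤ _) hz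
        · exact one_mem _⟩, by
        apply Subgroup.mem_subgroupOf.mpr
        refine mul_mem ((le_sup_left : Subgroup.zpowers a ≤ _)
          (Subgroup.pow_mem _ (Subgroup.mem_zpowers a) _)) ?_
        split_ifs
        · exact (le_sup_right : Subgroup.center G ≤ _) hz
        · exact one_mem _⟩
    have hsurj : Function.Surjective f := by
      rintro ⟨x, hx⟩
      obtain ⟨k, hk, h | h⟩ := (mem_NA z hz hcen a ha5 x).mp hx
      · refine ⟨(⟨k, hk⟩, false), ?_⟩
        apply Subtype.ext; apply Subtype.ext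
        simp [f, h]
      · refine ⟨(⟨k, hk⟩, true), ?_⟩
        apply Subtype.ext; apply Subtype.ext
        simp [f, h]
    have := Nat.card_le_card_of_surjective f hsurj
    simpa using this
  -- divisibility
  have hcard : Nat.card ↥(NA a) = Nat.card ↥(Subgroup.zpowers a ⊔ Subgroup.center G) :=
    Nat.card_congr (Subgroup.subgroupOfEquivOfLe (sup_le_CA a)).toEquiv
  have h5 : 5 ∣ Nat.card ↥(NA a) := by
    rw [hcard, ← card_zpowers a ha5 ha1]
    exact Subgroup.card_dvd_of_le le_sup_left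
  have h2 : 2 ∣ Nat.card ↥(NA a) := by
    rw [hcard]
    have ho : orderOf z = 2 := orderOf_eq_prime hz2 hz1
    have hzm : z ∈ Subgroup.zpowers a ⊔ Subgroup.center G :=
      (le_sup_right : Subgroup.center G ≤ _) hz
    have := orderOf_dvd_natCard (⟨z, hzm⟩ : ↥(Subgroup.zpowers a ⊔ Subgroup.center G))
    rwa [Subgroup.orderOf_mk, ho] at this
  have h10 : 10 ∣ Nat.card ↥(NA a) :=
    Nat.Coprime.mul_dvd_of_dvd_of_dvd (by norm_num : Nat.Coprime 2 5) h2 h5
  have hpos : 0 < Nat.card ↥(NA a) := Nat.card_pos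
  exact le_antisymm hle (Nat.le_of_dvd hpos h10)

end centre

/-- the centraliser of `e` inside the centraliser of `a` -/
theorem card_centralizer_in_CA (a e : G) (he : e ∈ CA a) :
    Nat.card ↥(Subgroup.centralizer ({(⟨e, he⟩ : ↥(CA a))} : Set ↥(CA a)))
      = Nat.card ↥(CA a ⊓ Subgroup.centralizer ({e} : Set G)) := by
  apply Nat.card_congr
  refine
    { toFun := fun x => ⟨x.1.1, ⟨x.1.2, ?_⟩⟩
      invFun := fun y => ⟨⟨y.1, y.2.1⟩, ?_⟩
      left_inv := fun x => rfl
      right_inv := fun y => rfl }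
  · have h1 := x.2
    show (x.1.1 : G) ∈ Subgroup.centralizer ({e} : Set G)
    rw [Subgroup.mem_centralizer_iff] at h1 ⊢
    intro h hh
    rw [Set.mem_singleton_iff] at hh
    rw [hh]
    have := congrArg Subtype.val (h1 ⟨e, he⟩ rfl)
    simpa using this
  · have h1 : (y.1 : G) ∈ Subgroup.centralizer ({e} : Set G) := y.2.2
    rw [Subgroup.mem_centralizer_iff] at h1 ⊢
    intro h hh
    rw [Set.mem_singleton_iff] at hh
    rw [hh]
    apply Subtype.ext
    exact h1 e rfl

end Cfsg.Agent.Lib.Helper8.J2SNSTR0
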