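import Cfsg.Agent.Lib.Helper9.Co1g
import Cfsg.Agent.Lib.Helper8.J2SNSTR0

/-!
# Unit NSTR of farm J2S (S5403, owner helper9): the subgroup `N = ⟨a, -1⟩` of the centraliser of `a`

Definitions and statements verbatim from `Lib/Helper9/J2SStubs3.lean`; the proofs are instances of the
generic lemmas of `Lib/Helper8/J2SNSTR0.lean`.
-/

set_option autoImplicit false
set_option maxRecDepth 1000000

namespace Cfsg.Agent.Lib.Helper8.J2SNSTR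

open scoped Pointwise
open Cfsg Finset Cfsg.Agent.Lib.Helper4.Leech Cfsg.Agent.Lib.Helper9.LeechC7
  Cfsg.Agent.Lib.Helper9.LeechM1 Cfsg.Agent.Lib.Helper9.LeechM2 Cfsg.Agent.Lib.Helper9.LeechM4
  Cfsg.Agent.Lib.Helper9.LeechX4 Cfsg.Agent.Lib.Helper9.LeechX7
  Cfsg.Agent.Lib.Helper9.M24T8 Cfsg.Agent.Lib.Helper9.M24T3 Cfsg.Agent.Lib.Helper9.M24U1
  Cfsg.Agent.Lib.Helper9.M24T1 Cfsg.Agent.Lib.Helper9.GolayQR1
  Cfsg.Agent.Lib.Helper9.OrbCert1 Cfsg.Agent.Lib.Helper9.OrbCert3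
  Cfsg.Agent.Lib.Helper9.Co1a Cfsg.Agent.Lib.Helper9.Co1b Cfsg.Agent.Lib.Helper9.Co1c
  Cfsg.Agent.Lib.Helper9.Co1e Cfsg.Agent.Lib.Helper9.Co1f Cfsg.Agent.Lib.Helper9.Co1g

/-! ## Unit NSTR: the subgroup `N = ⟨a, -1⟩` of the centraliser of `a` -/

/-- the centraliser of `⟨a⟩` -/
abbrev CA (a : ↥Co0) : Subgroup ↥Co0 :=
  Subgroup.centralizer ((Subgroup.zpowers a : Subgroup ↥Co0) : Set ↥Co0)

/-- the subgroup `⟨a, -1⟩` of it -/
abbrev NA (a : ↥Co0) : Subgroup ↥(CA a) :=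
  (Subgroup.zpowers a ⊔ Subgroup.center ↥Co0).subgroupOf (CA a)

theorem mem_CA (a g : ↥Co0) : g ∈ CA a ↔ g * a = a * g :=
  J2SNSTR0.mem_CA a g

theorem card_zpowers (a : ↥Co0) (ha5 : a ^ 5 = 1) (ha1 : a ≠ 1) :
    Nat.card ↥(Subgroup.zpowers a) = 5 :=
  J2SNSTR0.card_zpowers a ha5 ha1

theorem NA_normal (a : ↥Co0) : (NA a).Normal :=
  J2SNSTR0.NA_normal a

theorem NA_le_center (a : ↥Co0) : NA a ≤ Subgroup.center ↥(CA a) :=
  J2SNSTR0.NA_le_center a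

theorem mem_NA (a : ↥Co0) (ha5 : a ^ 5 = 1) (x : ↥(CA a)) :
    x ∈ NA a ↔ ∃ k : ℕ, k < 5 ∧ (x.1 = a ^ k ∨ x.1 = a ^ k * negOne) :=
  J2SNSTR0.mem_NA negOne negOne_mem_center central_eq a ha5 x

theorem card_NA (a : ↥Co0) (ha5 : a ^ 5 = 1) (ha1 : a ≠ 1) : Nat.card ↥(NA a) = 10 :=
  J2SNSTR0.card_NA negOne negOne_mem_center negOne_ne_one central_eq a ha5 ha1

theorem NA_pow_ten (a : ↥Co0) (ha5 : a ^ 5 = 1) : ∀ c ∈ NA a, c ^ 10 = 1 :=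
  J2SNSTR0.NA_pow_ten negOne negOne_mem_center negOne_ne_one central_eq a ha5

/-- the only elements of `N` of order dividing 4 are `±1` -/
theorem NA_pow_four (a : ↥Co0) (ha5 : a ^ 5 = 1) (x : ↥(CA a)) (hx : x ∈ NA a)
    (h4 : x ^ 4 = 1) : x.1 = 1 ∨ x.1 = negOne :=
  J2SNSTR0.NA_pow_four negOne negOne_mem_center negOne_ne_one central_eq a ha5 x hx h4

/-- the sign change on the octad is not in `N` -/
theorem e0_notMem_NA (a : ↥Co0) (ha5 : a ^ 5 = 1) (he : e0 ∈ CA a) :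
    (⟨e0, he⟩ : ↥(CA a)) ∉ NA a :=
  J2SNSTR0.notMem_NA negOne negOne_mem_center negOne_ne_one central_eq a ha5 e0 e0_sq e0_ne_one
    e0_ne_negOne he

/-- hypothesis `hconj` of `j2type_of_data` -/
theorem conj_e0 (a : ↥Co0) (ha5 : a ^ 5 = 1) (he : e0 ∈ CA a) (g : ↥(CA a)) (c : ↥(CA a))
    (hc : c ∈ NA a) (h : g * ⟨e0, he⟩ * g⁻¹ = c * ⟨e0, he⟩) : c = 1 :=
  J2SNSTR0.conj_eq_one negOne negOne_mem_center negOne_ne_one central_eq a ha5 e0 e0_sq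
    (fun g => Cfsg.Agent.Lib.Helper6.Co1UP.no_neg_conj O8 O8_code card_O8 g) he g c hc h

/-- the centraliser of the sign change inside the centraliser of `a` -/
theorem card_centralizer_e0 (a : ↥Co0) (he : e0 ∈ CA a) :
    Nat.card ↥(Subgroup.centralizer ({(⟨e0, he⟩ : ↥(CA a))} : Set ↥(CA a)))
      = Nat.card ↥(CA a ⊓ Ct) :=
  J2SNSTR0.card_centralizer_in_CA a e0 he

end Cfsg.Agent.Lib.Helper8.J2SNSTR
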