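import Mathlib

/-!
# Unit TWOCLS of farm J2S (S5403, owner helper9)
-/

set_option autoImplicit false

namespace Cfsg.Agent.Lib.Helper8.J2STWOCLS

/-- Unit TWOCLS. -/
theorem not_isConj_of_pow {C : Type*} [Group C] (N : Subgroup C) [N.Normal]
    (hNc : N ≤ Subgroup.center C) (hN10 : ∀ c ∈ N, c ^ 10 = 1) (x y : C) (hx : x ^ 10 = 1)
    (hy : y ^ 10 ≠ 1) :
    ¬ IsConj (QuotientGroup.mk x : C ⧸ N) (QuotientGroup.mk y : C ⧸ N) := by
  intro hconj
  rw [isConj_iff] at hconj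
  obtain ⟨g', hg'⟩ := hconj
  obtain ⟨g, rfl⟩ := QuotientGroup.mk_surjective g'
  -- `g x g⁻¹ = y c` with `c ∈ N`
  have h1 : (QuotientGroup.mk (g * x * g⁻¹) : C ⧸ N) = QuotientGroup.mk y := by
    simpa using hg'
  rw [QuotientGroup.eq] at h1
  set c : C := (g * x * g⁻¹)⁻¹ * y with hc
  have hcN : c ∈ N := h1
  have hcc : ∀ a : C, a * c = c * a := fun a => (Subgroup.mem_center_iff.mp (hNc hcN)) a
  have hy' : y = (g * x * g⁻¹) * c := by rw [hc]; group
  apply hy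
  have hcomm : Commute (g * x * g⁻¹) c := hcc _
  rw [hy', hcomm.mul_pow, hN10 c hcN, mul_one, conj_pow, hx]
  group

end Cfsg.Agent.Lib.Helper8.J2STWOCLS
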