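import Cfsg.Agent.Lib.Helper8.J2U1
import Cfsg.Agent.Lib.Helper8.J2Lc

set_option autoImplicit false
set_option maxHeartbeats 0
set_option maxRecDepth 1000000

/-! A subgroup of order 6048 of the permutation group of degree 315, with a matched permutation
representation of degree 63: certificates. -/

namespace Cfsg.Agent.Lib.Helper8.J2U

open Cfsg.Agent.Lib.Helper8.SS Cfsg.Agent.Lib.Helper8.MatN

theorem validA : ∀ i < 102, Valid 63 (aN i) (aM i) := valid_of_validAllB (by decide +kernel)

theorem validB : ∀ i < 102, Valid 315 (bN i) (bM i) := valid_of_validAllB (by decide +kernel)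

theorem idA : ∀ x < 63, get (aN 0) x = x := by decide +kernel

theorem idB : ∀ x < 315, get (bN 0) x = x := by decide +kernel

theorem lv0 : LevelOK 63 aN 102 L0 L1.S (deepOf [L1, L2]) :=
  levelOK_of (by decide +kernel) (by decide +kernel) (by decide +kernel) (by decide +kernel)

theorem lv1 : LevelOK 63 aN 102 L1 L2.S (deepOf [L2]) :=
  levelOK_of (by decide +kernel) (by decide +kernel) (by decide +kernel) (by decide +kernel)

theorem lv2 : LevelOK 63 aN 102 L2 [] (deepOf []) :=
  levelOK_of (by decide +kernel) (by decide +kernel) (by decide +kernel) (by decide +kernel)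

theorem chain : ChainOK 63 aN 102 [L0, L1, L2] := ⟨lv0, lv1, lv2, trivial⟩

theorem slpA : SlpOK 63 aN 102 [1, 2, 3] W slpW := by
  unfold SlpOK; decide +kernel

theorem slpB : SlpOK 315 bN 102 [1, 2, 3] W slpW := by
  unfold SlpOK; decide +kernel

theorem S0_sub : ∀ i ∈ L0.S, i ∈ W := by decide +kernel

theorem S_sub : ∀ i ∈ [1, 2, 3], i ∈ L0.S := by decide +kernel

theorem tree0 : treeB 315 bN L0 = true := by decide +kernel

theorem tree1 : treeB 315 bN L1 = true := by decide +kernel

theorem tree2 : treeB 315 bN L2 = true := by decide +kernel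

theorem sift0 : siftB 315 bN L0 (deepOf [L1, L2]) = true := by decide +kernel

theorem sift1 : siftB 315 bN L1 (deepOf [L2]) = true := by decide +kernel

theorem sift2 : siftB 315 bN L2 (deepOf []) = true := by decide +kernel

theorem genK : ∀ s < 3, ∀ x < 315, get (bN (s + 1)) x = ev J2L.pN (genW.getD s []) x := by
  decide +kernel

theorem genW_deep : ∀ w ∈ genW, ∀ i ∈ w, i ∈ deepOf [J2L.L0, J2L.L1, J2L.L2, J2L.L3] := by
  decide +kernel

theorem gen_stab : ∀ w ∈ genW, stabB J2L.pN OL w = true := by decide +kernel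

theorem OL_lt : ∀ q ∈ OL, q < 315 := by decide +kernel

theorem probes_lt : ∀ p ∈ probes, p < 315 := by decide +kernel

theorem bpts_lt : ∀ p ∈ bpts, p < 315 := by decide +kernel

theorem repW_lt : ∀ w ∈ repW, ∀ i ∈ w, i ∈ [1, 2, 3, 4] := by decide +kernel

theorem repW_len : repW.length = 100 := by decide +kernel

theorem rep_keys : forceList (repW.map (keyN J2L.pN OL probes)) nodupB = true := by
  decide +kernel

theorem g1W_lt : ∀ i ∈ g1W, i ∈ [1, 2, 3, 4] := by decide +kernel

theorem g2W_lt : ∀ i ∈ g2W, i ∈ [1, 2, 3, 4] := by decide +kernel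

theorem G1O_eq : OL.map (ev J2L.pN g1W) = G1O := by decide +kernel

theorem G2O_eq : OL.map (ev J2L.pN g2W) = G2O := by decide +kernel

theorem A1_deep : ∀ w ∈ A1W, ∀ i ∈ w, i ∈ deepOf [J2L.L0, J2L.L1, J2L.L2, J2L.L3] := by
  decide +kernel

theorem A2_deep : ∀ w ∈ A2W, ∀ i ∈ w, i ∈ deepOf [J2L.L0, J2L.L1, J2L.L2, J2L.L3] := by
  decide +kernel

theorem B1_deep : ∀ w ∈ B1W, ∀ i ∈ w, i ∈ deepOf [J2L.L0, J2L.L1, J2L.L2, J2L.L3] := by
  decide +kernel

theorem B2_deep : ∀ w ∈ B2W, ∀ i ∈ w, i ∈ deepOf [J2L.L0, J2L.L1, J2L.L2, J2L.L3] := by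
  decide +kernel

theorem A1_stab : ∀ w ∈ A1W, stabB J2L.pN OL w = true ∧ stabB J2L.pN G1O w = true := by
  decide +kernel

theorem A2_stab : ∀ w ∈ A2W, stabB J2L.pN OL w = true ∧ stabB J2L.pN G2O w = true := by
  decide +kernel

theorem B1_stab : ∀ w ∈ B1W, stabB J2L.pN OL w = true := by decide +kernel

theorem B2_stab : ∀ w ∈ B2W, stabB J2L.pN OL w = true := by decide +kernel

theorem A1_fp : forceList (A1W.map (fpW J2L.pN bpts)) nodupB = true := by decide +kernel

theorem A2_fp : forceList (A2W.map (fpW J2L.pN bpts)) nodupB = true := by decide +kernel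

theorem B1_keys : forceList (B1W.map (fun w => keyN J2L.pN OL probes (w ++ g1W))) nodupB = true := by
  decide +kernel

theorem B2_keys : forceList (B2W.map (fun w => keyN J2L.pN OL probes (w ++ g2W))) nodupB = true := by
  decide +kernel

theorem A1_len : A1W.length = 168 := by decide +kernel

theorem A2_len : A2W.length = 96 := by decide +kernel

theorem B1_len : B1W.length = 36 := by decide +kernel

theorem B2_len : B2W.length = 63 := by decide +kernel

end Cfsg.Agent.Lib.Helper8.J2U
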