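import Cfsg.Agent.Lib.Helper8.J2U2
import Cfsg.Agent.Lib.Helper9.G2UH

set_option autoImplicit false
set_option linter.unusedVariables false
set_option linter.unusedSectionVars false
set_option linter.style.haveILetI false
set_option maxRecDepth 100000

/-! A subgroup of the permutation group of degree 315 isomorphic to `PSU(3, 3)`. -/

namespace Cfsg.Agent.Lib.Helper8.J2U

open Cfsg.Agent.Lib.Helper8.SS Cfsg.Agent.Lib.Helper8.MatN Cfsg.Agent.Lib.Helper9.G2U
  Cfsg.Agent.Lib.Helper9.U33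

/-- the group of degree 63 -/
noncomputable def GA : Subgroup (Equiv.Perm (Fin 63)) := grp 63 aN aM L0.S

theorem card_GA : Nat.card GA = 6048 := by
  have h := (chain_spec (pM := aM) validA idA _ chain).2
  have h2 : ([L0, L1, L2].map (fun L => L.U.length)).prod = 6048 := by decide +kernel
  rw [h2] at h
  exact h

theorem genA1 : ∀ i : Fin 63, ((pwT 0 i : Fin 63) : ℕ) = get (aN 1) i.1 := by decide +kernel

theorem genA2 : ∀ i : Fin 63, ((pwT 1 i : Fin 63) : ℕ) = get (aN 2) i.1 := by decide +kernel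

theorem genA3 : ∀ i : Fin 63, ((pwT 9 i : Fin 63) : ℕ) = get (aN 3) i.1 := by decide +kernel

theorem P_eq_tau {s : ℕ} (hs : s < 102) {r : Fin 12}
    (h : ∀ i : Fin 63, ((pwT r i : Fin 63) : ℕ) = get (aN s) i.1) :
    P 63 aN aM s = tau (wSU r) := by
  apply Equiv.ext
  intro i
  apply Fin.ext
  rw [P_apply_val validA hs, tau_w]
  exact (h i).symm

theorem GA_le : GA ≤ RR := by
  unfold GA grp
  rw [Subgroup.closure_le]
  rintro g ⟨i, hi, rfl⟩
  have h1 : P 63 aN aM i ∈ grp 63 aN aM [1, 2, 3] := slp_mem validA slpA i (S0_sub i hi)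
  have h2 : grp 63 aN aM [1, 2, 3] ≤ RR := by
    unfold grp
    rw [Subgroup.closure_le]
    rintro g ⟨j, hj, rfl⟩
    simp only [List.mem_cons, List.mem_nil_iff, or_false] at hj
    rcases hj with rfl | rfl | rfl
    · rw [P_eq_tau (by norm_num) genA1]; exact ⟨_, rfl⟩
    · rw [P_eq_tau (by norm_num) genA2]; exact ⟨_, rfl⟩
    · rw [P_eq_tau (by norm_num) genA3]; exact ⟨_, rfl⟩
  exact h2 h1

theorem GA_eq : GA = RR :=
  Subgroup.eq_of_le_of_card_ge GA_le (by rw [card_RR, card_GA])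

/-- the group of degree 63 is `SU(3, 3)` -/
noncomputable def equivGA : ↥GA ≃* ↥SU3 :=
  (MulEquiv.subgroupCongr GA_eq).trans (MonoidHom.ofInjective tau_injective).symm

theorem simple_GA : IsSimpleGroup ↥GA := by
  haveI : IsSimpleGroup ↥SU3 := simple_SU (F := GF9) card_GF9
  exact equivGA.isSimpleGroup

/-- the subgroup of order 6048 of the group of degree 315 -/
noncomputable def HKc : Subgroup (Equiv.Perm (Fin 315)) :=
  Subgroup.closure {g | ∃ i ∈ [1, 2, 3], P 315 bN bM i = g}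

theorem deep_lt : ∀ i ∈ deepOf [L0, L1, L2], i < 102 := fun i hi =>
  ((chain_spec (pM := aM) validA idA _ chain).1 i hi).1

theorem moveB : ∃ x < 315, get (bN 1) x ≠ x := by decide +kernel

theorem isoHK : Nonempty (↥HKc ≃* ↥GA) := by
  have hQ0 : P 315 bN bM 0 = 1 := P_zero (validB 0 (by norm_num)) idB
  have hd1 : ∀ i ∈ deepOf [L1, L2], i < 102 := fun i hi =>
    ((chain_spec (pM := aM) validA idA _ chain.2).1 i hi).1
  have hd2 : ∀ i ∈ deepOf [L2], i < 102 := fun i hi =>
    ((chain_spec (pM := aM) validA idA _ chain.2.2).1 i hi).1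
  have hd3 : ∀ i ∈ deepOf ([] : List Level), i < 102 := by
    intro i hi
    simp [deepOf] at hi
  have hcq : ChainQ (P 315 bN bM) [L0, L1, L2] :=
    ⟨levelQ_of validB lv0.2.1 lv0.2.2.1 hd1 tree0 sift0,
      levelQ_of validB lv1.2.1 lv1.2.2.1 hd2 tree1 sift1,
      levelQ_of validB lv2.2.1 lv2.2.2.1 hd3 tree2 sift2, trivial⟩
  exact lifted_iso (Q := P 315 bN bM) validA idA hQ0 [L0, L1, L2] chain hcq [1, 2, 3] W slpW
    slpA (slpQ_of_slpOK validB slpB) S0_sub S_sub simple_GA
    (by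
      obtain ⟨x, hx, hne⟩ := moveB
      refine ⟨1, by decide, fun h => hne ?_⟩
      have := P_apply_val (pM := bM) validB (by norm_num : 1 < 102) ⟨x, hx⟩
      rw [h] at this
      exact this.symm)

theorem card_HKc : Nat.card HKc = 6048 := by
  obtain ⟨e⟩ := isoHK
  rw [Nat.card_congr e.toEquiv, card_GA]

/-- the subgroup is `PSU(3, 3)` -/
theorem isoPSU : Nonempty (↥HKc ≃* Cfsg.PSU 3 GF9 3) := by
  obtain ⟨e⟩ := isoHK
  exact ⟨(e.trans equivGA).trans (psuEquiv card_GF9)⟩

end Cfsg.Agent.Lib.Helper8.J2U
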