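import Cfsg.Agent.Lib.Helper8.J2U3
import Cfsg.Agent.Lib.Helper8.IcoG3

set_option autoImplicit false
set_option linter.unusedVariables false
set_option linter.unusedSectionVars false
set_option linter.style.haveILetI false
set_option maxRecDepth 100000

/-! The subgroup `PSU(3, 3)` of index 100 of the Hall–Janko group and its suborbits. -/

namespace Cfsg.Agent.Lib.Helper8.J2U

open Cfsg.Agent.Lib.Helper8.SS Cfsg.Agent.Lib.Helper8.MatN Cfsg.Agent.Lib.Helper9.U33

/-- the subset of 63 points -/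
noncomputable def OF : Finset (Fin 315) := lset 315 OL

/-- its stabiliser -/
noncomputable def HH : Subgroup (Equiv.Perm (Fin 315)) := stabF J2L.K OF

theorem deepK : ∀ i ∈ deepOf [J2L.L0, J2L.L1, J2L.L2, J2L.L3],
    i < 418 ∧ P 315 J2L.pN J2L.pM i ∈ J2L.K :=
  (chain_spec (pM := J2L.pM) J2L.valid_all J2L.id_tab _ J2L.chain).1

theorem word_mem_K {w : List ℕ} (h : ∀ i ∈ w, i ∈ deepOf [J2L.L0, J2L.L1, J2L.L2, J2L.L3]) :
    prodW 315 J2L.pN J2L.pM w ∈ J2L.K := prodW_mem (fun i hi => (deepK i (h i hi)).2)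

theorem word_lt {w : List ℕ} (h : ∀ i ∈ w, i ∈ deepOf [J2L.L0, J2L.L1, J2L.L2, J2L.L3]) :
    ∀ i ∈ w, i < 418 := fun i hi => (deepK i (h i hi)).1

theorem gword_mem_K {w : List ℕ} (h : ∀ i ∈ w, i ∈ [1, 2, 3, 4]) :
    prodW 315 J2L.pN J2L.pM w ∈ J2L.K := by
  rw [J2L.K_eq]
  exact prodW_mem (fun i hi => P_mem_grp (h i hi))

theorem gword_lt {w : List ℕ} (h : ∀ i ∈ w, i ∈ [1, 2, 3, 4]) : ∀ i ∈ w, i < 418 := by
  intro i hi
  have := h i hi
  simp only [List.mem_cons, List.mem_nil_iff, or_false] at this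
  omega

theorem word_mem_HH {w : List ℕ} (hK : prodW 315 J2L.pN J2L.pM w ∈ J2L.K)
    (hlt : ∀ i ∈ w, i < 418) (hs : stabB J2L.pN OL w = true) :
    prodW 315 J2L.pN J2L.pM w ∈ HH :=
  ⟨hK, image_eq_of_stabB J2L.valid_all hlt hs⟩

theorem getD_mem' {l : List (List ℕ)} {m : ℕ} (hm : m < l.length) : l.getD m [] ∈ l := by
  rw [List.getD_eq_getElem _ _ hm]
  exact List.getElem_mem hm

theorem genB_mem (s : ℕ) (hs : s < 3) : P 315 bN bM (s + 1) ∈ HH := by
  have hm : genW.getD s [] ∈ genW := getD_mem' (by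
    have : genW.length = 3 := by decide
    omega)
  have hlt := word_lt (genW_deep _ hm)
  have e : P 315 bN bM (s + 1) = prodW 315 J2L.pN J2L.pM (genW.getD s []) := by
    apply Equiv.ext
    intro x
    apply Fin.ext
    rw [P_apply_val validB (by omega),
      prodW_apply 315 J2L.pN J2L.pM (fun i hi => J2L.valid_all i (hlt i hi))]
    exact genK s hs x.1 x.2
  rw [e]
  exact word_mem_HH (word_mem_K (genW_deep _ hm)) hlt (gen_stab _ hm)

theorem HKc_le : HKc ≤ HH := by
  unfold HKc
  rw [Subgroup.closure_le]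
  rintro g ⟨i, hi, rfl⟩
  simp only [List.mem_cons, List.mem_nil_iff, or_false] at hi
  rcases hi with rfl | rfl | rfl
  · exact genB_mem 0 (by norm_num)
  · exact genB_mem 1 (by norm_num)
  · exact genB_mem 2 (by norm_num)

/-- equal images give equal keys -/
theorem key_of_image {w w' : List ℕ} (hw : ∀ i ∈ w, i < 418) (hw' : ∀ i ∈ w', i < 418)
    (e : OF.image (prodW 315 J2L.pN J2L.pM w) = OF.image (prodW 315 J2L.pN J2L.pM w')) :
    keyN J2L.pN OL probes w = keyN J2L.pN OL probes w' :=
  keyN_eq J2L.valid_all OL_lt probes_lt hw hw' e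

theorem nodup_of_force {α : Type} (l : List α) (f : α → ℕ)
    (h : forceList (l.map f) nodupB = true) : (l.map f).Nodup := by
  rw [forceList_eq] at h
  exact nodup_of_nodupB _ h

theorem idx_of_nodup {α : Type} {l : List α} {f : α → ℕ} (hnd : (l.map f).Nodup) {i j : ℕ}
    (hi : i < l.length) (hj : j < l.length) (e : f l[i] = f l[j]) : i = j := by
  have hi' : i < (l.map f).length := by rw [List.length_map]; exact hi
  have hj' : j < (l.map f).length := by rw [List.length_map]; exact hj
  have e3 : (l.map f)[i] = (l.map f)[j] := by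
    rw [List.getElem_map, List.getElem_map]
    exact e
  exact (hnd.getElem_inj_iff).mp e3

theorem index_ge : 100 ≤ (HH.subgroupOf J2L.K).index := by
  have hnd := nodup_of_force repW _ rep_keys
  have hmem : ∀ i : Fin 100, repW.getD i.1 [] ∈ repW := fun i =>
    getD_mem' (by rw [repW_len]; exact i.2)
  let f : Fin 100 → ↥J2L.K ⧸ HH.subgroupOf J2L.K := fun i =>
    QuotientGroup.mk ⟨prodW 315 J2L.pN J2L.pM (repW.getD i.1 []),
      gword_mem_K (repW_lt _ (hmem i))⟩
  have hf : Function.Injective f := by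
    intro i j hij
    have h1 := QuotientGroup.eq.mp hij
    rw [Subgroup.mem_subgroupOf] at h1
    have h2 : (prodW 315 J2L.pN J2L.pM (repW.getD i.1 []))⁻¹ *
        prodW 315 J2L.pN J2L.pM (repW.getD j.1 []) ∈ HH := h1
    have h3 := image_eq_of_coset h2
    have h4 := key_of_image (gword_lt (repW_lt _ (hmem j))) (gword_lt (repW_lt _ (hmem i))) h3
    have hi : i.1 < repW.length := by rw [repW_len]; exact i.2
    have hj : j.1 < repW.length := by rw [repW_len]; exact j.2
    rw [List.getD_eq_getElem _ _ hi, List.getD_eq_getElem _ _ hj] at h4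
    exact Fin.ext (idx_of_nodup hnd hi hj h4.symm)
  have := Nat.card_le_card_of_injective f hf
  rw [Nat.card_fin] at this
  exact this

theorem card_sub : Nat.card (HH.subgroupOf J2L.K) = Nat.card HH :=
  Nat.card_congr (Subgroup.subgroupOfEquivOfLe (stabF_le _ _)).toEquiv

theorem card_HH : Nat.card HH = 6048 := by
  apply le_antisymm
  · have h1 := (HH.subgroupOf J2L.K).card_mul_index
    rw [J2L.card_K, card_sub] at h1
    have h2 := index_ge
    nlinarith
  · rw [← card_HKc]
    exact Subgroup.card_le_of_le HKc_le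

theorem HH_eq : HKc = HH :=
  Subgroup.eq_of_le_of_card_ge HKc_le (by rw [card_HH, card_HKc])

theorem index_HH : (HH.subgroupOf J2L.K).index = 100 := by
  have h1 := (HH.subgroupOf J2L.K).card_mul_index
  rw [J2L.card_K, card_sub, card_HH] at h1
  omega

end Cfsg.Agent.Lib.Helper8.J2U
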