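import Cfsg.Agent.Lib.Helper8.J2U4

set_option autoImplicit false
set_option linter.unusedVariables false
set_option linter.unusedSectionVars false
set_option linter.style.haveILetI false
set_option maxRecDepth 100000

/-! The suborbits of `PSU(3, 3)` on its cosets in the Hall–Janko group. -/

namespace Cfsg.Agent.Lib.Helper8.J2U

open Cfsg.Agent.Lib.Helper8.SS Cfsg.Agent.Lib.Helper8.MatN Cfsg.Agent.Lib.Helper9.U33
  Cfsg.Agent.Lib.Helper8.Ico Cfsg.Spor

/-- the subgroup of the Hall–Janko group -/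
noncomputable def HJ : Subgroup J2 := (HH.subgroupOf J2L.K).comap J2iso.toMonoidHom

theorem finite_J2 : Finite J2 := Finite.of_equiv _ J2iso.symm.toEquiv

theorem index_HJ : HJ.index = 100 := by
  unfold HJ
  rw [Subgroup.index_comap_of_surjective _ J2iso.surjective]
  exact index_HH

theorem iso_HJ : Nonempty (↥HJ ≃* Cfsg.PSU 3 GF9 3) := by
  obtain ⟨e⟩ := isoPSU
  have hm : HJ.map J2iso.toMonoidHom = HH.subgroupOf J2L.K :=
    Subgroup.map_comap_eq_self_of_surjective J2iso.surjective _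
  have hm' : HJ.map (J2iso : J2 →* ↥J2L.K) = HH.subgroupOf J2L.K := hm
  exact ⟨(((J2iso.subgroupMap HJ).trans (MulEquiv.subgroupCongr hm')).trans
    (Subgroup.subgroupOfEquivOfLe (stabF_le _ _))).trans
    ((MulEquiv.subgroupCongr HH_eq.symm).trans e)⟩

theorem suborbit (gW GO : List ℕ) (AW BW : List (List ℕ)) (a b : ℕ)
    (hg : ∀ i ∈ gW, i ∈ [1, 2, 3, 4]) (hGO : OL.map (ev J2L.pN gW) = GO)
    (hAd : ∀ w ∈ AW, ∀ i ∈ w, i ∈ deepOf [J2L.L0, J2L.L1, J2L.L2, J2L.L3])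
    (hBd : ∀ w ∈ BW, ∀ i ∈ w, i ∈ deepOf [J2L.L0, J2L.L1, J2L.L2, J2L.L3])
    (hAs : ∀ w ∈ AW, stabB J2L.pN OL w = true ∧ stabB J2L.pN GO w = true)
    (hBs : ∀ w ∈ BW, stabB J2L.pN OL w = true)
    (hAf : forceList (AW.map (fpW J2L.pN bpts)) nodupB = true)
    (hBk : forceList (BW.map (fun w => keyN J2L.pN OL probes (w ++ gW))) nodupB = true)
    (hAl : AW.length = a) (hBl : BW.length = b) (hab : a * b = 6048) :
    ∃ c : J2 ⧸ HJ, (MulAction.orbit ↥HJ c).ncard = b := by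
  haveI := finite_J2
  have hAnd := nodup_of_force AW _ hAf
  have hBnd := nodup_of_force BW _ hBk
  have hAm : ∀ i : Fin a, AW.getD i.1 [] ∈ AW := fun i => getD_mem' (by rw [hAl]; exact i.2)
  have hBm : ∀ j : Fin b, BW.getD j.1 [] ∈ BW := fun j => getD_mem' (by rw [hBl]; exact j.2)
  have hgK := gword_mem_K hg
  have hglt := gword_lt hg
  refine ⟨QuotientGroup.mk (J2iso.symm ⟨prodW 315 J2L.pN J2L.pM gW, hgK⟩), ?_⟩
  apply orbit_count_equiv J2iso (HH.subgroupOf J2L.K) ⟨prodW 315 J2L.pN J2L.pM gW, hgK⟩ a b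
    (fun i => ⟨prodW 315 J2L.pN J2L.pM (AW.getD i.1 []), word_mem_K (hAd _ (hAm i))⟩) ?_ ?_
    (fun j => ⟨prodW 315 J2L.pN J2L.pM (BW.getD j.1 []), word_mem_K (hBd _ (hBm j))⟩) ?_ ?_ ?_
  · intro i j hij
    have e : prodW 315 J2L.pN J2L.pM (AW.getD i.1 []) = prodW 315 J2L.pN J2L.pM (AW.getD j.1 []) :=
      congrArg Subtype.val hij
    have e2 := fpW_eq J2L.valid_all bpts_lt (word_lt (hAd _ (hAm i))) (word_lt (hAd _ (hAm j))) e
    have hi : i.1 < AW.length := by rw [hAl]; exact i.2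
    have hj : j.1 < AW.length := by rw [hAl]; exact j.2
    rw [List.getD_eq_getElem _ _ hi, List.getD_eq_getElem _ _ hj] at e2
    exact Fin.ext (idx_of_nodup hAnd hi hj e2)
  · intro i
    constructor
    · rw [Subgroup.mem_subgroupOf]
      exact word_mem_HH (word_mem_K (hAd _ (hAm i))) (word_lt (hAd _ (hAm i))) (hAs _ (hAm i)).1
    · rw [Subgroup.mem_subgroupOf]
      show (prodW 315 J2L.pN J2L.pM gW)⁻¹ * prodW 315 J2L.pN J2L.pM (AW.getD i.1 []) *
        prodW 315 J2L.pN J2L.pM gW ∈ HH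
      refine ⟨J2L.K.mul_mem (J2L.K.mul_mem (J2L.K.inv_mem hgK) (word_mem_K (hAd _ (hAm i)))) hgK,
        ?_⟩
      exact conj_stab J2L.valid_all OL_lt hglt (word_lt (hAd _ (hAm i))) hGO (hAs _ (hAm i)).2
  · intro j
    rw [Subgroup.mem_subgroupOf]
    exact word_mem_HH (word_mem_K (hBd _ (hBm j))) (word_lt (hBd _ (hBm j))) (hBs _ (hBm j))
  · intro j j' hne hmem
    rw [Subgroup.mem_subgroupOf] at hmem
    have h2 : (prodW 315 J2L.pN J2L.pM (BW.getD j.1 []) * prodW 315 J2L.pN J2L.pM gW)⁻¹ *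
        (prodW 315 J2L.pN J2L.pM (BW.getD j'.1 []) * prodW 315 J2L.pN J2L.pM gW) ∈ HH := hmem
    rw [← prodW_append, ← prodW_append] at h2
    have h3 := image_eq_of_coset h2
    have hlt : ∀ k : Fin b, ∀ i ∈ BW.getD k.1 [] ++ gW, i < 418 := by
      intro k i hi
      rcases List.mem_append.mp hi with h | h
      · exact word_lt (hBd _ (hBm k)) i h
      · exact hglt i h
    have h4 := key_of_image (hlt j') (hlt j) h3
    have hj : j.1 < BW.length := by rw [hBl]; exact j.2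
    have hj' : j'.1 < BW.length := by rw [hBl]; exact j'.2
    rw [List.getD_eq_getElem _ _ hj, List.getD_eq_getElem _ _ hj'] at h4
    exact hne (Fin.ext (idx_of_nodup (f := fun w => keyN J2L.pN OL probes (w ++ gW)) hBnd hj hj'
      h4.symm))
  · rw [card_sub, card_HH, hab]

/-- the subgroup `PSU(3, 3)` of index 100 of the Hall–Janko group and its suborbits -/
theorem main : ∃ H : Subgroup J2, H.index = 100 ∧
    (∃ (F : Type) (_ : Field F) (_ : Fintype F), Fintype.card F = 9 ∧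
      Nonempty (↥H ≃* Cfsg.PSU 3 F 3)) ∧
    ∃ c₁ c₂ : J2 ⧸ H, (MulAction.orbit ↥H c₁).ncard = 36 ∧
      (MulAction.orbit ↥H c₂).ncard = 63 := by
  obtain ⟨c1, h1⟩ := suborbit g1W G1O A1W B1W 168 36 g1W_lt G1O_eq A1_deep B1_deep A1_stab B1_stab
    A1_fp B1_keys A1_len B1_len (by norm_num)
  obtain ⟨c2, h2⟩ := suborbit g2W G2O A2W B2W 96 63 g2W_lt G2O_eq A2_deep B2_deep A2_stab B2_stab
    A2_fp B2_keys A2_len B2_len (by norm_num)
  exact ⟨HJ, index_HJ, ⟨GF9, inferInstance, inferInstance, Cfsg.Agent.Lib.Helper9.G2U.card_GF9,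
    iso_HJ⟩, c1, c2, h1, h2⟩

end Cfsg.Agent.Lib.Helper8.J2U
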