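import Cfsg.Agent.Lib.Helper8.J2a

set_option autoImplicit false

/-! A simple permutation group of degree 100 and order 604800. -/

namespace Cfsg.Agent.Lib.Helper8.J2

open Cfsg.Agent.Lib.Helper8.SS MulAction

/-- the group. -/
def G : Subgroup (Equiv.Perm (Fin 100)) := grp 100 pN pM L0.S

theorem card_G : Nat.card G = 604800 := by
  have h := (chain_spec (pM := pM) valid_all id_tab _ chain).2
  have h2 : ([L0, L1, L2, L3, L4].map (fun L => L.U.length)).prod = 604800 := by decide
  rw [h2] at h
  exact h

theorem prim : IsPreprimitive G (Fin 100) :=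
  prim_of_rank3_data valid_all id_tab L0 L1 [L2, L3, L4] chain cover0 W treeW 37 treeW_ok
    (by norm_num) cover3 nodupW notMem1 notMemW (by decide) (by decide)

theorem simple : IsSimpleGroup G :=
  simple_of_data valid_all L0.S prim 5 2 (by norm_num) (by norm_num)
    (by
      have : Nat.card (grp 100 pN pM L0.S) = 604800 := card_G
      rw [this]
      norm_num)
    203 w5 w5_mem (by norm_num) w5_tab ord5 ne5 cs conj_all
    (by
      have : Nat.card (grp 100 pN pM L0.S) = 604800 := card_G
      rw [this]
      norm_num)

end Cfsg.Agent.Lib.Helper8.J2
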