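import Cfsg.Agent.Lib.Helper8.J3O2a

set_option autoImplicit false
set_option maxRecDepth 100000
set_option Elab.async false

/-! The Janko group J3 on 20520 points: the certificates of the tables (generated). -/

namespace Cfsg.Agent.Lib.Helper8.J3O


end Cfsg.Agent.Lib.Helper8.J3O
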