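import Cfsg.Agent.Lib.Helper8.J3O1

set_option autoImplicit false
set_option maxRecDepth 100000
set_option Elab.async false

/-! The Janko group J3 on 20520 points: certificates of the tables (generated). -/

namespace Cfsg.Agent.Lib.Helper8.J3O

theorem cert_4_0 : SQ.allR 0 20520 (fun x => Nat.beq (u0 (x)) (u4 (x))) = true := by decide +kernel
theorem cert_4_all : ∀ x, x < 20520 → (Nat.beq (u0 (x)) (u4 (x))) = true := by
  intro x hp
  exact SQ.allR_spec cert_4_0 x (by omega) (by omega)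

theorem cert_5_0 : SQ.allR 0 20520 (fun x => Nat.beq (x) (u5 (u4 (x)))) = true := by decide +kernel
theorem cert_5_all : ∀ x, x < 20520 → (Nat.beq (x) (u5 (u4 (x)))) = true := by
  intro x hp
  exact SQ.allR_spec cert_5_0 x (by omega) (by omega)

theorem cert_6_0 : SQ.allR 0 20520 (fun x => Nat.beq (u3 (u0 (u2 (u1 (u1 (u1 (u3 (u1 (u1 (u1 (u3 (u3 (x))))))))))))) (u6 (x))) = true := by decide +kernel
theorem cert_6_all : ∀ x, x < 20520 → (Nat.beq (u3 (u0 (u2 (u1 (u1 (u1 (u3 (u1 (u1 (u1 (u3 (u3 (x))))))))))))) (u6 (x))) = true := by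
  intro x hp
  exact SQ.allR_spec cert_6_0 x (by omega) (by omega)

theorem cert_7_0 : SQ.allR 0 20520 (fun x => Nat.beq (u6 (u6 (u6 (x)))) (u7 (x))) = true := by decide +kernel
theorem cert_7_all : ∀ x, x < 20520 → (Nat.beq (u6 (u6 (u6 (x)))) (u7 (x))) = true := by
  intro x hp
  exact SQ.allR_spec cert_7_0 x (by omega) (by omega)

theorem cert_8_0 : SQ.allR 0 20520 (fun x => Nat.beq (x) (u8 (u6 (x)))) = true := by decide +kernel
theorem cert_8_all : ∀ x, x < 20520 → (Nat.beq (x) (u8 (u6 (x)))) = true := by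
  intro x hp
  exact SQ.allR_spec cert_8_0 x (by omega) (by omega)

theorem cert_9_0 : SQ.allR 0 20520 (fun x => Nat.beq (u0 (u3 (u0 (u2 (u0 (u3 (u1 (u1 (u1 (u3 (u0 (u0 (x))))))))))))) (u9 (x))) = true := by decide +kernel
theorem cert_9_all : ∀ x, x < 20520 → (Nat.beq (u0 (u3 (u0 (u2 (u0 (u3 (u1 (u1 (u1 (u3 (u0 (u0 (x))))))))))))) (u9 (x))) = true := by
  intro x hp
  exact SQ.allR_spec cert_9_0 x (by omega) (by omega)

theorem cert_10_0 : SQ.allR 0 20520 (fun x => Nat.beq (x) (u10 (u9 (x)))) = true := by decide +kernel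
theorem cert_10_all : ∀ x, x < 20520 → (Nat.beq (x) (u10 (u9 (x)))) = true := by
  intro x hp
  exact SQ.allR_spec cert_10_0 x (by omega) (by omega)


end Cfsg.Agent.Lib.Helper8.J3O
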