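import Cfsg.Agent.Lib.Helper8.J3O3

set_option autoImplicit false
set_option maxRecDepth 100000
set_option Elab.async false

/-! The Janko group J3 on 20520 points: the centraliser and transporter searches (generated). -/

namespace Cfsg.Agent.Lib.Helper8.J3O

/-- the candidates for the image of the first base point under an element centralising `x` -/
def passC (p : ℕ) : Bool :=
  match SQ.sift LsX (SQ.iterL u4 2 p ++ [1, u4 1, 2, u4 2]) with
  | some [r0, s0, r1, s1] => Nat.beq s0 (u4 r0) && Nat.beq s1 (u4 r1)
  | _ => false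

def xorbB (p : ℕ) : Bool := Nat.beq p 0 || Nat.beq p 10040 || Nat.beq p 6070 || Nat.beq p 6740 || Nat.beq p 12919 || Nat.beq p 10775 || Nat.beq p 5040 || Nat.beq p 4716 || Nat.beq p 3559 || Nat.beq p 1546 || Nat.beq p 15311 || Nat.beq p 959 || Nat.beq p 4517 || Nat.beq p 9887 || Nat.beq p 10845 || Nat.beq p 12811 || Nat.beq p 13437 || Nat.beq p 6138 || Nat.beq p 3551

/-- the candidates for the image of the first base point under an element conjugating `x` to
its inverse -/
def passN (p : ℕ) : Bool :=
  match SQ.sift LsX (SQ.iterL u5 2 p ++ [1, u5 1]) with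
  | some [r0, s0] => Nat.beq s0 (u4 r0)
  | _ => false

/-- the element centralising `t` and taking `p` to the first base point, at `q` -/
def FQ (p q : ℕ) : ℕ :=
  match SQ.sift LsZ (SQ.iterL u7 3 p ++ [q]) with
  | some [r] => r
  | _ => 20520

def pre0 (q : ℕ) : ℕ := u4 (u4 (q))
def itQ0 (p : ℕ) : ℕ → ℕ → ℕ
  | 0, q => q
  | k + 1, q => itQ0 p k (pre0 (FQ p q))

def pre1 (q : ℕ) : ℕ := u4 (u4 (u6 (q)))
def itQ1 (p : ℕ) : ℕ → ℕ → ℕ
  | 0, q => q
  | k + 1, q => itQ1 p k (pre1 (FQ p q))

def testQ (p : ℕ) : Bool :=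
  (SQ.sift LsZ (SQ.iterL u7 3 p ++ [])).isSome && Nat.beq (itQ0 p 4 1) 1 && Nat.beq (itQ1 p 12 1) 1

theorem passC_0 : SQ.allR 0 5130 (fun p => !(passC p) || xorbB p) = true := by decide +kernel
theorem passC_1 : SQ.allR 5130 5130 (fun p => !(passC p) || xorbB p) = true := by decide +kernel
theorem passC_2 : SQ.allR 10260 5130 (fun p => !(passC p) || xorbB p) = true := by decide +kernel
theorem passC_3 : SQ.allR 15390 5130 (fun p => !(passC p) || xorbB p) = true := by decide +kernel
theorem passC_all : ∀ p, p < 20520 → (!(passC p) || xorbB p) = true := by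
  intro p hp
  rcases Nat.lt_or_ge p 5130 with h | h
  · exact SQ.allR_spec passC_0 p (by omega) (by omega)
  rcases Nat.lt_or_ge p 10260 with h | h
  · exact SQ.allR_spec passC_1 p (by omega) (by omega)
  rcases Nat.lt_or_ge p 15390 with h | h
  · exact SQ.allR_spec passC_2 p (by omega) (by omega)
  exact SQ.allR_spec passC_3 p (by omega) (by omega)

theorem passN_0 : SQ.allR 0 5130 (fun p => !(passN p)) = true := by decide +kernel
theorem passN_1 : SQ.allR 5130 5130 (fun p => !(passN p)) = true := by decide +kernel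
theorem passN_2 : SQ.allR 10260 5130 (fun p => !(passN p)) = true := by decide +kernel
theorem passN_3 : SQ.allR 15390 5130 (fun p => !(passN p)) = true := by decide +kernel
theorem passN_all : ∀ p, p < 20520 → (!(passN p)) = true := by
  intro p hp
  rcases Nat.lt_or_ge p 5130 with h | h
  · exact SQ.allR_spec passN_0 p (by omega) (by omega)
  rcases Nat.lt_or_ge p 10260 with h | h
  · exact SQ.allR_spec passN_1 p (by omega) (by omega)
  rcases Nat.lt_or_ge p 15390 with h | h
  · exact SQ.allR_spec passN_2 p (by omega) (by omega)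
  exact SQ.allR_spec passN_3 p (by omega) (by omega)

theorem testQ_0 : SQ.allR 0 5130 (fun p => !(testQ p) || Nat.beq p 18656) = true := by decide +kernel
theorem testQ_1 : SQ.allR 5130 5130 (fun p => !(testQ p) || Nat.beq p 18656) = true := by decide +kernel
theorem testQ_2 : SQ.allR 10260 5130 (fun p => !(testQ p) || Nat.beq p 18656) = true := by decide +kernel
theorem testQ_3 : SQ.allR 15390 5130 (fun p => !(testQ p) || Nat.beq p 18656) = true := by decide +kernel
theorem testQ_all : ∀ p, p < 20520 → (!(testQ p) || Nat.beq p 18656) = true := by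
  intro p hp
  rcases Nat.lt_or_ge p 5130 with h | h
  · exact SQ.allR_spec testQ_0 p (by omega) (by omega)
  rcases Nat.lt_or_ge p 10260 with h | h
  · exact SQ.allR_spec testQ_1 p (by omega) (by omega)
  rcases Nat.lt_or_ge p 15390 with h | h
  · exact SQ.allR_spec testQ_2 p (by omega) (by omega)
  exact SQ.allR_spec testQ_3 p (by omega) (by omega)


end Cfsg.Agent.Lib.Helper8.J3O
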