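import Cfsg.Agent.Lib.Helper8.J3O3

set_option autoImplicit false
set_option maxRecDepth 100000
set_option Elab.async false

/-! The Janko group J3 on 20520 points: the checks for the automorphism group (generated). -/

namespace Cfsg.Agent.Lib.Helper8.J3O

/-- the base of the first chain -/
def baseL : List ℕ := [0, 10040]
theorem baseL_lt : ∀ i ∈ baseL, i < 20520 := by decide
theorem nu_ok : ∀ q ∈ baseL, (Nat.beq (u4 (u6 q)) (u6 (u4 (u4 (u4 (u4 (q))))))) = true := by decide +kernel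
theorem x_ord : ∀ q ∈ baseL, (Nat.beq (u4 (u4 (u4 (u4 (u4 (u4 (u4 (u4 (u4 (u4 (u4 (u4 (u4 (u4 (u4 (u4 (u4 (u4 (u4 (q)))))))))))))))))))) q) = true := by decide +kernel
theorem x_ne : u4 0 = 10040 := by decide +kernel
theorem zt_comm : ∀ q ∈ baseL, (Nat.beq (u9 (u7 q)) (u7 (u9 q))) = true := by decide +kernel
theorem rel_0 : ∀ q ∈ baseL, (Nat.beq (u4 (u4 (u9 (u4 (u4 (u9 (u4 (u4 (u9 (u4 (u4 (u9 (q))))))))))))) q) = true := by decide +kernel
theorem rel_1 : ∀ q ∈ baseL, (Nat.beq (u4 (u4 (u6 (u9 (u4 (u4 (u6 (u9 (u4 (u4 (u6 (u9 (u4 (u4 (u6 (u9 (u4 (u4 (u6 (u9 (u4 (u4 (u6 (u9 (u4 (u4 (u6 (u9 (u4 (u4 (u6 (u9 (u4 (u4 (u6 (u9 (u4 (u4 (u6 (u9 (u4 (u4 (u6 (u9 (u4 (u4 (u6 (u9 (q))))))))))))))))))))))))))))))))))))))))))))))))) q) = true := by decide +kernel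
theorem z_pz : u9 18656 = 0 := by decide +kernel
theorem xorb_eq : SQ.iterL u4 19 0 = [0, 10040, 6070, 6740, 12919, 10775, 5040, 4716, 3559, 1546, 15311, 959, 4517, 9887, 10845, 12811, 13437, 6138, 3551] := by decide +kernel
theorem baseX : LsX.map (fun L => L.b) = SQ.iterL u4 2 0 := by decide +kernel
theorem baseZ : LsZ.map (fun L => L.b) = SQ.iterL u7 3 0 := by decide +kernel
theorem baseL_eq : LsX.map (fun L => L.b) = baseL := by decide +kernel

end Cfsg.Agent.Lib.Helper8.J3O
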