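import Cfsg.Agent.Lib.Helper8.J3P2
import Cfsg.Agent.Lib.Helper8.J3O2
import Cfsg.Agent.Lib.Helper8.J3O5

set_option autoImplicit false
set_option maxRecDepth 100000
set_option Elab.async false

/-! The Janko group J3 on 20520 points: the permutation group and the matrix group; the tables are realised by group elements; the verified chains; generation (generated). -/

namespace Cfsg.Agent.Lib.Helper8.J3O

open Cfsg.Agent.Lib.Helper8.F4M Cfsg.Agent.Lib.Helper8.J3D

theorem mat_0_0 : SQ.allR 0 5130 (fun i => Nat.blt (u0 i) 20520 && Nat.beq (canon (mulB (D0.getG 0) (D0.getP i))) (D0.getP (u0 i))) = true := by decide +kernel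
theorem mat_0_1 : SQ.allR 5130 5130 (fun i => Nat.blt (u0 i) 20520 && Nat.beq (canon (mulB (D0.getG 0) (D0.getP i))) (D0.getP (u0 i))) = true := by decide +kernel
theorem mat_0_2 : SQ.allR 10260 5130 (fun i => Nat.blt (u0 i) 20520 && Nat.beq (canon (mulB (D0.getG 0) (D0.getP i))) (D0.getP (u0 i))) = true := by decide +kernel
theorem mat_0_3 : SQ.allR 15390 5130 (fun i => Nat.blt (u0 i) 20520 && Nat.beq (canon (mulB (D0.getG 0) (D0.getP i))) (D0.getP (u0 i))) = true := by decide +kernel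
theorem mat_0_all : ∀ i, i < 20520 → (Nat.blt (u0 i) 20520 && Nat.beq (canon (mulB (D0.getG 0) (D0.getP i))) (D0.getP (u0 i))) = true := by
  intro i hp
  rcases Nat.lt_or_ge i 5130 with h | h
  · exact SQ.allR_spec mat_0_0 i (by omega) (by omega)
  rcases Nat.lt_or_ge i 10260 with h | h
  · exact SQ.allR_spec mat_0_1 i (by omega) (by omega)
  rcases Nat.lt_or_ge i 15390 with h | h
  · exact SQ.allR_spec mat_0_2 i (by omega) (by omega)
  exact SQ.allR_spec mat_0_3 i (by omega) (by omega)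

theorem mat_1_0 : SQ.allR 0 5130 (fun i => Nat.blt (u2 i) 20520 && Nat.beq (canon (mulB (D0.getG 1) (D0.getP i))) (D0.getP (u2 i))) = true := by decide +kernel
theorem mat_1_1 : SQ.allR 5130 5130 (fun i => Nat.blt (u2 i) 20520 && Nat.beq (canon (mulB (D0.getG 1) (D0.getP i))) (D0.getP (u2 i))) = true := by decide +kernel
theorem mat_1_2 : SQ.allR 10260 5130 (fun i => Nat.blt (u2 i) 20520 && Nat.beq (canon (mulB (D0.getG 1) (D0.getP i))) (D0.getP (u2 i))) = true := by decide +kernel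
theorem mat_1_3 : SQ.allR 15390 5130 (fun i => Nat.blt (u2 i) 20520 && Nat.beq (canon (mulB (D0.getG 1) (D0.getP i))) (D0.getP (u2 i))) = true := by decide +kernel
theorem mat_1_all : ∀ i, i < 20520 → (Nat.blt (u2 i) 20520 && Nat.beq (canon (mulB (D0.getG 1) (D0.getP i))) (D0.getP (u2 i))) = true := by
  intro i hp
  rcases Nat.lt_or_ge i 5130 with h | h
  · exact SQ.allR_spec mat_1_0 i (by omega) (by omega)
  rcases Nat.lt_or_ge i 10260 with h | h
  · exact SQ.allR_spec mat_1_1 i (by omega) (by omega)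
  rcases Nat.lt_or_ge i 15390 with h | h
  · exact SQ.allR_spec mat_1_2 i (by omega) (by omega)
  exact SQ.allR_spec mat_1_3 i (by omega) (by omega)

theorem inv_0_0 : SQ.allR 0 20520 (fun i => Nat.blt (u1 i) 20520 && (Nat.beq (u1 (u0 i)) i && Nat.beq (u0 (u1 i)) i)) = true := by decide +kernel
theorem inv_0_all : ∀ i, i < 20520 → (Nat.blt (u1 i) 20520 && (Nat.beq (u1 (u0 i)) i && Nat.beq (u0 (u1 i)) i)) = true := by
  intro i hp
  exact SQ.allR_spec inv_0_0 i (by omega) (by omega)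

theorem inv_1_0 : SQ.allR 0 20520 (fun i => Nat.blt (u3 i) 20520 && (Nat.beq (u3 (u2 i)) i && Nat.beq (u2 (u3 i)) i)) = true := by decide +kernel
theorem inv_1_all : ∀ i, i < 20520 → (Nat.blt (u3 i) 20520 && (Nat.beq (u3 (u2 i)) i && Nat.beq (u2 (u3 i)) i)) = true := by
  intro i hp
  exact SQ.allR_spec inv_1_0 i (by omega) (by omega)

theorem ca : ∀ i, i < 20520 → u0 i < 20520 ∧
    canon (mulB (D0.getG 0) (D0.getP i)) = D0.getP (u0 i) := by
  intro i hi
  have h := mat_0_all i hi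
  rw [Bool.and_eq_true] at h
  exact ⟨SQ.blt_true h.1, Nat.eq_of_beq_eq_true h.2⟩

theorem cb : ∀ i, i < 20520 → u2 i < 20520 ∧
    canon (mulB (D0.getG 1) (D0.getP i)) = D0.getP (u2 i) := by
  intro i hi
  have h := mat_1_all i hi
  rw [Bool.and_eq_true] at h
  exact ⟨SQ.blt_true h.1, Nat.eq_of_beq_eq_true h.2⟩

theorem inv0 (i : ℕ) (hi : i < 20520) : u1 i < 20520 ∧ u1 (u0 i) = i ∧ u0 (u1 i) = i := by
  have h := inv_0_all i hi
  rw [Bool.and_eq_true, Bool.and_eq_true] at h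
  exact ⟨SQ.blt_true h.1, Nat.eq_of_beq_eq_true h.2.1, Nat.eq_of_beq_eq_true h.2.2⟩

theorem inv1 (i : ℕ) (hi : i < 20520) : u3 i < 20520 ∧ u3 (u2 i) = i ∧ u2 (u3 i) = i := by
  have h := inv_1_all i hi
  rw [Bool.and_eq_true, Bool.and_eq_true] at h
  exact ⟨SQ.blt_true h.1, Nat.eq_of_beq_eq_true h.2.1, Nat.eq_of_beq_eq_true h.2.2⟩

/-- the first generator -/
noncomputable def pa : Equiv.Perm (Fin 20520) where
  toFun i := ⟨u0 i.1, (ca i.1 i.2).1⟩
  invFun i := ⟨u1 i.1, (inv0 i.1 i.2).1⟩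
  left_inv i := Fin.ext (inv0 i.1 i.2).2.1
  right_inv i := Fin.ext (inv0 i.1 i.2).2.2

/-- the second generator -/
noncomputable def pb : Equiv.Perm (Fin 20520) where
  toFun i := ⟨u2 i.1, (cb i.1 i.2).1⟩
  invFun i := ⟨u3 i.1, (inv1 i.1 i.2).1⟩
  left_inv i := Fin.ext (inv1 i.1 i.2).2.1
  right_inv i := Fin.ext (inv1 i.1 i.2).2.2

/-- the permutation group -/
noncomputable def Kc : Subgroup (Equiv.Perm (Fin 20520)) := Subgroup.closure {pa, pb}

/-- the group -/
abbrev Gp : Type := ↥Kc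

/-- the action on the 20520 points -/
noncomputable def φ : Gp →* Equiv.Perm (Fin 20520) := Kc.subtype

theorem finGp : Finite Gp := inferInstance

theorem cs : Nat.card Kc = 50232960 ∧ IsSimpleGroup Kc :=
  J3P.card_simple_closure pa pb u0 u2 (fun _ => rfl) (fun _ => rfl) ca cb

theorem cardGp : Nat.card Gp = 50232960 := cs.1

theorem simpleGp : IsSimpleGroup Gp := cs.2

theorem φ_inj : Function.Injective φ := Subtype.val_injective

/-- the permutation group on the 20520 points -/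
noncomputable abbrev Kp : Subgroup (Equiv.Perm (Fin 20520)) := φ.range

/-- the generators as elements of the group -/
noncomputable def aE : Gp := ⟨pa, Subgroup.subset_closure (by simp)⟩

noncomputable def bE : Gp := ⟨pb, Subgroup.subset_closure (by simp)⟩

theorem gN_aE (i : ℕ) (hi : i < 20520) : SQ.gN (φ aE) i = u0 i := by
  rw [SQ.gN_of_lt _ hi]
  rfl

theorem gN_bE (i : ℕ) (hi : i < 20520) : SQ.gN (φ bE) i = u2 i := by
  rw [SQ.gN_of_lt _ hi]
  rfl

theorem real_0 : SQ.Real Kp u0 := ⟨φ aE, ⟨aE, rfl⟩, gN_aE⟩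
theorem real_1 : SQ.Real Kp u1 := SQ.real_inv real_0 (fun x hx => (inv0 x hx).2.1)
theorem real_2 : SQ.Real Kp u2 := ⟨φ bE, ⟨bE, rfl⟩, gN_bE⟩
theorem real_3 : SQ.Real Kp u3 := SQ.real_inv real_2 (fun x hx => (inv1 x hx).2.1)

theorem real_4 : SQ.Real Kp u4 :=
  SQ.real_of_eq (fL := fun x => u0 (x)) (fR := fun x => x)
    (real_0)
    (SQ.real_id)
    (fun x hx => Nat.eq_of_beq_eq_true (cert_4_all x hx))
theorem real_5 : SQ.Real Kp u5 :=
  SQ.real_of_eq (fL := fun x => x) (fR := fun x => u4 (x))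
    (SQ.real_id)
    (real_4)
    (fun x hx => Nat.eq_of_beq_eq_true (cert_5_all x hx))
theorem real_6 : SQ.Real Kp u6 :=
  SQ.real_of_eq (fL := fun x => u3 (u0 (u2 (u1 (u1 (u1 (u3 (u1 (u1 (u1 (u3 (u3 (x))))))))))))) (fR := fun x => x)
    ((real_3).comp ((real_0).comp ((real_2).comp ((real_1).comp ((real_1).comp ((real_1).comp ((real_3).comp ((real_1).comp ((real_1).comp ((real_1).comp ((real_3).comp (real_3))))))))))))
    (SQ.real_id)
    (fun x hx => Nat.eq_of_beq_eq_true (cert_6_all x hx))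
theorem real_7 : SQ.Real Kp u7 :=
  SQ.real_of_eq (fL := fun x => u6 (u6 (u6 (x)))) (fR := fun x => x)
    ((real_6).comp ((real_6).comp (real_6)))
    (SQ.real_id)
    (fun x hx => Nat.eq_of_beq_eq_true (cert_7_all x hx))
theorem real_8 : SQ.Real Kp u8 :=
  SQ.real_of_eq (fL := fun x => x) (fR := fun x => u6 (x))
    (SQ.real_id)
    (real_6)
    (fun x hx => Nat.eq_of_beq_eq_true (cert_8_all x hx))
theorem real_9 : SQ.Real Kp u9 :=
  SQ.real_of_eq (fL := fun x => u0 (u3 (u0 (u2 (u0 (u3 (u1 (u1 (u1 (u3 (u0 (u0 (x))))))))))))) (fR := fun x => x)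
    ((real_0).comp ((real_3).comp ((real_0).comp ((real_2).comp ((real_0).comp ((real_3).comp ((real_1).comp ((real_1).comp ((real_1).comp ((real_3).comp ((real_0).comp (real_0))))))))))))
    (SQ.real_id)
    (fun x hx => Nat.eq_of_beq_eq_true (cert_9_all x hx))
theorem real_10 : SQ.Real Kp u10 :=
  SQ.real_of_eq (fL := fun x => x) (fR := fun x => u9 (x))
    (SQ.real_id)
    (real_9)
    (fun x hx => Nat.eq_of_beq_eq_true (cert_10_all x hx))

theorem real_tb : ∀ k, k < 11 → SQ.Real Kp (tb k) := by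
  intro k hk
  interval_cases k
  · exact real_0
  · exact real_1
  · exact real_2
  · exact real_3
  · exact real_4
  · exact real_5
  · exact real_6
  · exact real_7
  · exact real_8
  · exact real_9
  · exact real_10

theorem real_stepX0 : ∀ l, 2 ≤ l → l < LX0.ng + 2 → SQ.Real Kp (LX0.step l) := by
  intro l h1 h2
  have h3 : l < 10 := h2
  interval_cases l
  · exact real_0
  · exact real_1
  · exact real_2
  · exact real_3
  · exact real_4
  · exact real_5
  · exact real_6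
  · exact real_8

theorem wX1_0_lt : ∀ k ∈ wX1_0, k < 11 := by decide +kernel
theorem wX1_1_lt : ∀ k ∈ wX1_1, k < 11 := by decide +kernel
theorem real_stepX1 : ∀ l, 2 ≤ l → l < LX1.ng + 2 → SQ.Real Kp (LX1.step l) := by
  intro l h1 h2
  have h3 : l < 4 := h2
  interval_cases l
  · exact SQ.real_evalApp wX1_0 (fun k hk => real_tb k (wX1_0_lt k hk))
  · exact SQ.real_evalApp wX1_1 (fun k hk => real_tb k (wX1_1_lt k hk))

theorem wZ1_0_lt : ∀ k ∈ wZ1_0, k < 11 := by decide +kernel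
theorem wZ1_1_lt : ∀ k ∈ wZ1_1, k < 11 := by decide +kernel
theorem real_stepZ1 : ∀ l, 2 ≤ l → l < LZ1.ng + 2 → SQ.Real Kp (LZ1.step l) := by
  intro l h1 h2
  have h3 : l < 4 := h2
  interval_cases l
  · exact SQ.real_evalApp wZ1_0 (fun k hk => real_tb k (wZ1_0_lt k hk))
  · exact SQ.real_evalApp wZ1_1 (fun k hk => real_tb k (wZ1_1_lt k hk))

theorem real_stepZ2 : ∀ l, 2 ≤ l → l < LZ2.ng + 2 → SQ.Real Kp (LZ2.step l) := by
  intro l h1 h2
  have h3 : l < 2 := h2
  omega

theorem real_steps_X : ∀ L ∈ LsX, ∀ l, 2 ≤ l → l < L.ng + 2 → SQ.Real Kp (L.step l) := by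
  intro L hL
  simp only [LsX, List.mem_cons, List.not_mem_nil, or_false] at hL
  rcases hL with rfl | rfl
  · exact real_stepX0
  · exact real_stepX1

theorem real_steps_Z : ∀ L ∈ LsZ, ∀ l, 2 ≤ l → l < L.ng + 2 → SQ.Real Kp (L.step l) := by
  intro L hL
  simp only [LsZ, List.mem_cons, List.not_mem_nil, or_false] at hL
  rcases hL with rfl | rfl | rfl
  · exact real_stepX0
  · exact real_stepZ1
  · exact real_stepZ2

theorem card_Kp : Nat.card Kp = 50232960 := by
  rw [← cardGp]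
  exact (Nat.card_congr (MonoidHom.ofInjective φ_inj).toEquiv).symm

theorem chainX : SQ.ChainOK Kp LsX :=
  SQ.chainOK_of_checks Kp LsX real_steps_X lvOK_LsX fixOK_X (by rw [card_Kp]; exact size_X)

theorem chainZ : SQ.ChainOK Kp LsZ :=
  SQ.chainOK_of_checks Kp LsZ real_steps_Z lvOK_LsZ fixOK_Z (by rw [card_Kp]; exact size_Z)

/-- two elements of the group that agree on the base of the first chain are equal -/
theorem eq_of_gN_base (g g' : Gp) (h : ∀ i ∈ baseL, SQ.gN (φ g) i = SQ.gN (φ g') i) : g = g' := by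
  apply φ_inj
  apply chainX.eq_of_base ⟨g, rfl⟩ ⟨g', rfl⟩
  intro L hL
  apply h
  rw [← baseL_eq]
  exact List.mem_map.2 ⟨L, hL, rfl⟩

theorem eq_one_of_gN_base (g : Gp) (h : ∀ i ∈ baseL, SQ.gN (φ g) i = i) : g = 1 := by
  apply eq_of_gN_base
  intro i hi
  rw [h i hi, map_one, SQ.gN_one]

/-! ### generation by `x`, `n`, `z` -/

/-- the tables used for the third chain -/
def genL : List ℕ := [4, 5, 6, 8, 9, 10]

theorem real2_tb (K' : Subgroup (Equiv.Perm (Fin 20520))) (hx : SQ.Real K' u4) (hn : SQ.Real K' u6)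
    (hz : SQ.Real K' u9) : ∀ k ∈ genL, SQ.Real K' (tb k) := by
  intro k hk
  simp only [genL, List.mem_cons, List.not_mem_nil, or_false] at hk
  rcases hk with rfl | rfl | rfl | rfl | rfl | rfl
  · exact hx
  · exact SQ.real_inv hx (fun x hx' => (Nat.eq_of_beq_eq_true (cert_5_all x hx')).symm)
  · exact hn
  · exact SQ.real_inv hn (fun x hx' => (Nat.eq_of_beq_eq_true (cert_8_all x hx')).symm)
  · exact hz
  · exact SQ.real_inv hz (fun x hx' => (Nat.eq_of_beq_eq_true (cert_10_all x hx')).symm)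

theorem real2_stepG0 (K' : Subgroup (Equiv.Perm (Fin 20520))) (hx : SQ.Real K' u4) (hn : SQ.Real K' u6) (hz : SQ.Real K' u9) : ∀ l, 2 ≤ l → l < LG0.ng + 2 → SQ.Real K' (LG0.step l) := by
  intro l h1 h2
  have h3 : l < 8 := h2
  have htb := real2_tb K' hx hn hz
  interval_cases l
  · exact htb 4 (by decide)
  · exact htb 5 (by decide)
  · exact htb 6 (by decide)
  · exact htb 8 (by decide)
  · exact htb 9 (by decide)
  · exact htb 10 (by decide)

theorem wG1_0_mem : ∀ k ∈ wG1_0, k ∈ genL := by decide +kernel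
theorem wG1_1_mem : ∀ k ∈ wG1_1, k ∈ genL := by decide +kernel
theorem wG1_2_mem : ∀ k ∈ wG1_2, k ∈ genL := by decide +kernel
theorem wG1_3_mem : ∀ k ∈ wG1_3, k ∈ genL := by decide +kernel
theorem wG1_4_mem : ∀ k ∈ wG1_4, k ∈ genL := by decide +kernel
theorem wG1_5_mem : ∀ k ∈ wG1_5, k ∈ genL := by decide +kernel
theorem wG1_6_mem : ∀ k ∈ wG1_6, k ∈ genL := by decide +kernel
theorem wG1_7_mem : ∀ k ∈ wG1_7, k ∈ genL := by decide +kernel
theorem wG1_8_mem : ∀ k ∈ wG1_8, k ∈ genL := by decide +kernel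
theorem wG1_9_mem : ∀ k ∈ wG1_9, k ∈ genL := by decide +kernel
theorem real2_stepG1 (K' : Subgroup (Equiv.Perm (Fin 20520))) (hx : SQ.Real K' u4) (hn : SQ.Real K' u6) (hz : SQ.Real K' u9) : ∀ l, 2 ≤ l → l < LG1.ng + 2 → SQ.Real K' (LG1.step l) := by
  intro l h1 h2
  have h3 : l < 12 := h2
  have htb := real2_tb K' hx hn hz
  interval_cases l
  · exact SQ.real_evalApp wG1_0 (fun k hk => htb k (wG1_0_mem k hk))
  · exact SQ.real_evalApp wG1_1 (fun k hk => htb k (wG1_1_mem k hk))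
  · exact SQ.real_evalApp wG1_2 (fun k hk => htb k (wG1_2_mem k hk))
  · exact SQ.real_evalApp wG1_3 (fun k hk => htb k (wG1_3_mem k hk))
  · exact SQ.real_evalApp wG1_4 (fun k hk => htb k (wG1_4_mem k hk))
  · exact SQ.real_evalApp wG1_5 (fun k hk => htb k (wG1_5_mem k hk))
  · exact SQ.real_evalApp wG1_6 (fun k hk => htb k (wG1_6_mem k hk))
  · exact SQ.real_evalApp wG1_7 (fun k hk => htb k (wG1_7_mem k hk))
  · exact SQ.real_evalApp wG1_8 (fun k hk => htb k (wG1_8_mem k hk))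
  · exact SQ.real_evalApp wG1_9 (fun k hk => htb k (wG1_9_mem k hk))

theorem real2_steps_G (K' : Subgroup (Equiv.Perm (Fin 20520))) (hx : SQ.Real K' u4) (hn : SQ.Real K' u6) (hz : SQ.Real K' u9) : ∀ L ∈ LsG, ∀ l, 2 ≤ l → l < L.ng + 2 → SQ.Real K' (L.step l) := by
  intro L hL
  simp only [LsG, List.mem_cons, List.not_mem_nil, or_false] at hL
  rcases hL with rfl | rfl
  · exact real2_stepG0 K' hx hn hz
  · exact real2_stepG1 K' hx hn hz

/-- a subgroup realising `x`, `n`, `z` has at least the order of the whole group -/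
theorem card_ge_G (K' : Subgroup (Equiv.Perm (Fin 20520))) (hx : SQ.Real K' u4) (hn : SQ.Real K' u6) (hz : SQ.Real K' u9) : 50232960 ≤ Nat.card K' :=
  le_trans size_G (SQ.card_ge_of_checks K' LsG (real2_steps_G K' hx hn hz) lvOK_LsG fixOK_G)


end Cfsg.Agent.Lib.Helper8.J3O
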