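import Cfsg.Agent.Lib.Helper8.J3O5p
import Cfsg.Agent.Lib.Helper8.J3O6

set_option autoImplicit false
set_option maxRecDepth 100000

/-! An outer automorphism of the permutation group (The Janko group J3), given by conjugation with a
permutation of the points. -/

namespace Cfsg.Agent.Lib.Helper8.J3O

/-- an element of order 19 -/
noncomputable def xE : Gp := aE

theorem gN_xE (i : ℕ) (hi : i < 20520) : SQ.gN (φ xE) i = u4 i :=
  (gN_aE i hi).trans (Nat.eq_of_beq_eq_true (cert_4_all i hi))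

theorem xE_ne_one : xE ≠ 1 := by
  intro h
  have := gN_xE 0 (by decide)
  rw [h, map_one, SQ.gN_one, x_ne] at this
  exact absurd this (by decide)

theorem gN_xE_inv (i : ℕ) (hi : i < 20520) : SQ.gN (φ xE⁻¹) i = u5 i := by
  rw [map_inv]
  exact SQ.gN_inv_eq gN_xE
    (fun x hx => (Nat.eq_of_beq_eq_true (cert_5_all x hx)).symm) i hi

/-! ### the permutation -/

theorem upi_lt (i : ℕ) (hi : i < 20520) : upi i < 20520 := by
  have h := pi_inv_all i hi
  rw [Bool.and_eq_true] at h
  exact SQ.blt_true h.1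

theorem upi_upi (i : ℕ) (hi : i < 20520) : upi (upi i) = i := by
  have h := pi_inv_all i hi
  rw [Bool.and_eq_true] at h
  exact Nat.eq_of_beq_eq_true h.2

/-- the permutation of the points -/
noncomputable def piP : Equiv.Perm (Fin 20520) where
  toFun i := ⟨upi i.1, upi_lt i.1 i.2⟩
  invFun i := ⟨upi i.1, upi_lt i.1 i.2⟩
  left_inv i := Fin.ext (upi_upi i.1 i.2)
  right_inv i := Fin.ext (upi_upi i.1 i.2)

theorem gN_piP (i : ℕ) (hi : i < 20520) : SQ.gN piP i = upi i := by
  rw [SQ.gN_of_lt _ hi]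
  rfl

theorem piP_inv : piP⁻¹ = piP := rfl

theorem gN_pa (i : ℕ) (hi : i < 20520) : SQ.gN pa i = u0 i := gN_aE i hi

theorem gN_pb (i : ℕ) (hi : i < 20520) : SQ.gN pb i = u2 i := gN_bE i hi

theorem gN_pa_inv (i : ℕ) (hi : i < 20520) : SQ.gN pa⁻¹ i = u1 i :=
  SQ.gN_inv_eq gN_pa (fun x hx => (inv0 x hx).2.1) i hi

theorem conj_a : piP * pa * piP⁻¹ = pa⁻¹ := by
  apply SQ.ext_gN
  intro i hi
  rw [piP_inv, SQ.gN_mul, SQ.gN_mul, gN_piP i hi, gN_pa _ (upi_lt i hi),
    gN_piP _ (ca _ (upi_lt i hi)).1, gN_pa_inv i hi]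
  exact Nat.eq_of_beq_eq_true (pi_a_all i hi)

/-- the image of the second generator, as a word in the tables (first letter applied first) -/
def bwL : List ℕ := [3, 3, 3, 1, 1, 2, 2, 0, 3, 0, 0, 0, 0, 0]

theorem bwL_lt : ∀ k ∈ bwL, k < 11 := by decide

theorem conj_b_mem : piP * pb * piP⁻¹ ∈ Kc := by
  obtain ⟨g, hgK, hg⟩ := SQ.real_evalApp (K := Kp) (tb := tb) bwL
    (fun k hk => real_tb k (bwL_lt k hk))
  have e : piP * pb * piP⁻¹ = g := by
    apply SQ.ext_gN
    intro i hi
    rw [piP_inv, SQ.gN_mul, SQ.gN_mul, gN_piP i hi, gN_pb _ (upi_lt i hi),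
      gN_piP _ (cb _ (upi_lt i hi)).1, hg i hi]
    exact Nat.eq_of_beq_eq_true (pi_b_all i hi)
  rw [e]
  obtain ⟨g', rfl⟩ := hgK
  exact g'.2

theorem conj_mem (g : Equiv.Perm (Fin 20520)) (hg : g ∈ Kc) : piP * g * piP⁻¹ ∈ Kc := by
  unfold Kc at hg
  induction hg using Subgroup.closure_induction with
  | mem x hx =>
    simp only [Set.mem_insert_iff, Set.mem_singleton_iff] at hx
    rcases hx with rfl | rfl
    · rw [conj_a]
      exact Kc.inv_mem (Subgroup.subset_closure (by simp))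
    · exact conj_b_mem
  | one =>
    rw [mul_one, mul_inv_cancel]
    exact Kc.one_mem
  | mul x y _ _ ihx ihy =>
    have : piP * (x * y) * piP⁻¹ = (piP * x * piP⁻¹) * (piP * y * piP⁻¹) := by group
    rw [this]
    exact Kc.mul_mem ihx ihy
  | inv x _ ih =>
    have : piP * x⁻¹ * piP⁻¹ = (piP * x * piP⁻¹)⁻¹ := by group
    rw [this]
    exact Kc.inv_mem ih

/-- the endomorphism given by conjugation with the permutation -/
noncomputable def tauHom : Gp →* Gp where
  toFun g := ⟨piP * g.1 * piP⁻¹, conj_mem g.1 g.2⟩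
  map_one' := by
    apply Subtype.ext
    show piP * 1 * piP⁻¹ = 1
    group
  map_mul' g h := by
    apply Subtype.ext
    show piP * (g.1 * h.1) * piP⁻¹ = (piP * g.1 * piP⁻¹) * (piP * h.1 * piP⁻¹)
    group

theorem tau_xE : tauHom xE = xE⁻¹ := by
  apply Subtype.ext
  show piP * pa * piP⁻¹ = pa⁻¹
  exact conj_a

theorem tauHom_inj : Function.Injective tauHom := by
  intro g h e
  apply Subtype.ext
  have e' : piP * g.1 * piP⁻¹ = piP * h.1 * piP⁻¹ := congrArg Subtype.val e
  exact mul_left_cancel (mul_right_cancel e')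

/-- the automorphism -/
noncomputable def sig : MulAut Gp :=
  haveI : Finite Gp := finGp
  MulEquiv.ofBijective tauHom ⟨tauHom_inj, Finite.injective_iff_surjective.1 tauHom_inj⟩

theorem sig_apply (g : Gp) : sig g = tauHom g := rfl

end Cfsg.Agent.Lib.Helper8.J3O
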