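import Cfsg.Agent.Lib.Helper8.J3O7
import Cfsg.Agent.Lib.Helper8.J3O4
import Cfsg.Agent.Lib.Helper8.OutG4

set_option autoImplicit false
set_option maxRecDepth 100000

/-! The presented group (The Janko group J3): an element `x` of order 19, an element `n` normalising
`⟨x⟩`, and an element `z` in the centraliser of a power `t` of `n`. -/

namespace Cfsg.Agent.Lib.Helper8.J3O


theorem exists_nE : ∃ n : Gp, ∀ i, i < 20520 → SQ.gN (φ n) i = u6 i := by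
  obtain ⟨ν, ⟨n', rfl⟩, hν⟩ := real_6
  exact ⟨n', hν⟩

/-- an element normalising `⟨x⟩` -/
noncomputable def nE : Gp := Classical.choose exists_nE

theorem gN_nE (i : ℕ) (hi : i < 20520) : SQ.gN (φ nE) i = u6 i :=
  Classical.choose_spec exists_nE i hi

theorem exists_zE : ∃ z : Gp, ∀ i, i < 20520 → SQ.gN (φ z) i = u9 i := by
  obtain ⟨ν, ⟨z', rfl⟩, hν⟩ := real_9
  exact ⟨z', hν⟩

/-- an element centralising `t` -/
noncomputable def zE : Gp := Classical.choose exists_zE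

theorem gN_zE (i : ℕ) (hi : i < 20520) : SQ.gN (φ zE) i = u9 i :=
  Classical.choose_spec exists_zE i hi

theorem u_lt {f : ℕ → ℕ} (h : SQ.Real Kp f) {i : ℕ} (hi : i < 20520) : f i < 20520 := h.lt hi

theorem mem_Kp (g : Gp) : φ g ∈ Kp := ⟨g, rfl⟩

theorem gN_pow_iter (g : Gp) (f : ℕ → ℕ) (hf : ∀ i, i < 20520 → SQ.gN (φ g) i = f i) (n : ℕ) :
    ∀ i, i < 20520 → SQ.gN (φ (g ^ n)) i = f^[n] i ∧ f^[n] i < 20520 := by
  induction n with
  | zero =>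
    intro i hi
    rw [pow_zero, map_one, SQ.gN_one]
    exact ⟨rfl, hi⟩
  | succ n ih =>
    intro i hi
    rw [pow_succ, map_mul, SQ.gN_mul, hf i hi, Function.iterate_succ_apply]
    have h1 : f i < 20520 := by rw [← hf i hi]; exact SQ.gN_lt _ hi
    exact ih (f i) h1

/-- the power of `n` whose centraliser is used -/
noncomputable def tE : Gp := nE ^ 3

theorem gN_tE (i : ℕ) (hi : i < 20520) : SQ.gN (φ tE) i = u7 i := by
  rw [tE, (gN_pow_iter nE u6 gN_nE 3 i hi).1]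
  exact Nat.eq_of_beq_eq_true (cert_7_all i hi)

theorem xE_pow : xE ^ 19 = 1 := by
  apply eq_one_of_gN_base
  intro i hi
  rw [(gN_pow_iter xE u4 gN_xE 19 i (baseL_lt i hi)).1]
  exact Nat.eq_of_beq_eq_true (x_ord i hi)

instance : Fact (Nat.Prime 19) := ⟨by norm_num⟩

theorem orderOf_xE : orderOf xE = 19 := orderOf_eq_prime xE_pow xE_ne_one

instance : Finite Gp := finGp

theorem fact_p : (Nat.card Gp).factorization 19 = 1 := by
  rw [cardGp, show 50232960 = 19 * 2643840 from by norm_num]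
  rw [Nat.factorization_mul (by norm_num) (by norm_num), Finsupp.add_apply,
    (show Nat.Prime 19 by norm_num).factorization_self,
    Nat.factorization_eq_zero_of_not_dvd (by norm_num)]

theorem gN_xE_pow (n : ℕ) (i : ℕ) (hi : i < 20520) : SQ.gN (φ (xE ^ n)) i = u4^[n] i :=
  (gN_pow_iter xE u4 gN_xE n i hi).1

/-- `n` normalises `⟨x⟩` -/
theorem hxn : xE * nE = nE * xE ^ 4 := by
  apply eq_of_gN_base
  intro i hib
  have hi : i < 20520 := baseL_lt i hib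
  have h1 : u6 i < 20520 := u_lt real_6 hi
  have h2 : u4^[4] i < 20520 := (gN_pow_iter xE u4 gN_xE 4 i hi).2
  rw [map_mul, map_mul, SQ.gN_mul, SQ.gN_mul, gN_nE i hi, gN_xE _ h1, gN_xE_pow 4 i hi,
    gN_nE _ h2]
  exact Nat.eq_of_beq_eq_true (nu_ok i hib)

theorem hzt : zE * tE = tE * zE := by
  apply eq_of_gN_base
  intro i hib
  have hi : i < 20520 := baseL_lt i hib
  rw [map_mul, map_mul, SQ.gN_mul, SQ.gN_mul, gN_tE i hi, gN_zE _ (u_lt real_7 hi),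
    gN_zE i hi, gN_tE _ (u_lt real_9 hi)]
  exact Nat.eq_of_beq_eq_true (zt_comm i hib)

theorem harith_conj : ∀ j : ℕ, j < 19 → ∃ i : ℕ, (4 * i) % 19 = (4 * j + i) % 19 := by
  intro j hj
  interval_cases j
  · exact ⟨0, rfl⟩
  · exact ⟨14, rfl⟩
  · exact ⟨9, rfl⟩
  · exact ⟨4, rfl⟩
  · exact ⟨18, rfl⟩
  · exact ⟨13, rfl⟩
  · exact ⟨8, rfl⟩
  · exact ⟨3, rfl⟩
  · exact ⟨17, rfl⟩
  · exact ⟨12, rfl⟩
  · exact ⟨7, rfl⟩
  · exact ⟨2, rfl⟩
  · exact ⟨16, rfl⟩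
  · exact ⟨11, rfl⟩
  · exact ⟨6, rfl⟩
  · exact ⟨1, rfl⟩
  · exact ⟨15, rfl⟩
  · exact ⟨10, rfl⟩
  · exact ⟨5, rfl⟩

theorem hconj : ∀ j : ℕ, ∃ i : ℕ, xE ^ i * nE * (xE ^ i)⁻¹ = xE ^ j * nE :=
  OutG.conj_of_arith (by norm_num) xE_pow hxn harith_conj

/-- a prefix of a relation pinning down `z` -/
noncomputable def P0 : Gp := xE ^ 2

theorem gN_P0 (q : ℕ) (hq : q < 20520) : SQ.gN (φ P0) q = pre0 q := by
  unfold P0
  exact (gN_pow_iter xE u4 gN_xE 2 q hq).1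

theorem gN_Pz0 (q : ℕ) (hq : q < 20520) : SQ.gN (φ (P0 * zE)) q = pre0 (u9 q) := by
  rw [map_mul φ P0 zE, SQ.gN_mul, gN_zE q hq, gN_P0 _ (u_lt real_9 hq)]

theorem hrel0 : (P0 * zE) ^ 4 = 1 := by
  apply eq_one_of_gN_base
  intro i hib
  rw [(gN_pow_iter (P0 * zE) (fun q => pre0 (u9 q)) gN_Pz0 4 i (baseL_lt i hib)).1]
  exact Nat.eq_of_beq_eq_true (rel_0 i hib)

/-- a prefix of a relation pinning down `z` -/
noncomputable def P1 : Gp := xE ^ 2 * nE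

theorem gN_P1 (q : ℕ) (hq : q < 20520) : SQ.gN (φ P1) q = pre1 q := by
  unfold P1
  rw [map_mul, SQ.gN_mul, gN_nE q hq, (gN_pow_iter xE u4 gN_xE 2 _ (u_lt real_6 hq)).1]
  rfl

theorem gN_Pz1 (q : ℕ) (hq : q < 20520) : SQ.gN (φ (P1 * zE)) q = pre1 (u9 q) := by
  rw [map_mul φ P1 zE, SQ.gN_mul, gN_zE q hq, gN_P1 _ (u_lt real_9 hq)]

theorem hrel1 : (P1 * zE) ^ 12 = 1 := by
  apply eq_one_of_gN_base
  intro i hib
  rw [(gN_pow_iter (P1 * zE) (fun q => pre1 (u9 q)) gN_Pz1 12 i (baseL_lt i hib)).1]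
  exact Nat.eq_of_beq_eq_true (rel_1 i hib)

theorem exists_n : ∃ n : Gp, n * xE * n⁻¹ = xE ^ 4 := by
  refine ⟨nE⁻¹, ?_⟩
  calc nE⁻¹ * xE * nE⁻¹⁻¹ = nE⁻¹ * (xE * nE) := by group
    _ = nE⁻¹ * (nE * xE ^ 4) := by rw [hxn]
    _ = xE ^ 4 := by group

/-- the image of `x` under the automorphism -/
noncomputable def xsE : Gp := xE⁻¹

theorem sig_xE : sig xE = xsE := tau_xE

theorem gN_xsE (i : ℕ) (hi : i < 20520) : SQ.gN (φ xsE) i = u5 i := gN_xE_inv i hi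

/-! ### the automorphism does not preserve the class of `x` -/

theorem not_conj : ¬ ∃ k : Gp, sig xE = k * xE * k⁻¹ := by
  rintro ⟨k, hk⟩
  rw [sig_xE] at hk
  have hc : φ k * φ xE = φ xsE * φ k := by
    rw [← map_mul, ← map_mul, hk]
    congr 1
    group
  have h := SQ.transporter_test chainX u4 u5 (φ xE) (φ xsE) gN_xE gN_xsE 0 (by decide) baseX
    (mem_Kp k) hc [1, u5 1] (by
      intro x hx
      simp only [List.mem_cons, List.not_mem_nil, or_false] at hx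
      rcases hx with rfl | rfl
      · decide
      · exact u_lt real_5 (by decide))
  have hp : passN (SQ.gN (φ k) 0) = true := by
    unfold passN
    have e : LsX.length = 2 := rfl
    rw [e] at h
    rw [h.1]
    show (Nat.beq (SQ.gN (φ k)⁻¹ (u5 1)) (u4 (SQ.gN (φ k)⁻¹ 1))) = true
    rw [h.2 1 (by decide), Nat.beq_refl]
    all_goals rfl
  have := passN_all _ (SQ.gN_lt (φ k) (by decide : 0 < 20520))
  rw [hp] at this
  exact absurd this (by decide)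

/-! ### every automorphism maps `x` into the class of `x` or of its inverse -/

theorem exists_m : ∃ m : Gp, sig xE = m * xE ^ 18 * m⁻¹ := by
  refine ⟨1, ?_⟩
  rw [sig_xE, xsE, one_mul, inv_one, mul_one]
  exact inv_eq_of_mul_eq_one_right (by rw [← pow_succ', xE_pow])

theorem arith_p : ∀ j, j < 19 → j ≠ 0 → ∃ i, j = 4 ^ i % 19 ∨ j = 18 * 4 ^ i % 19 := by
  intro j hj h0
  interval_cases j
  · exact absurd rfl h0
  · exact ⟨0, Or.inl rfl⟩
  · exact ⟨5, Or.inr rfl⟩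
  · exact ⟨2, Or.inr rfl⟩
  · exact ⟨1, Or.inl rfl⟩
  · exact ⟨8, Or.inl rfl⟩
  · exact ⟨7, Or.inl rfl⟩
  · exact ⟨3, Or.inl rfl⟩
  · exact ⟨6, Or.inr rfl⟩
  · exact ⟨4, Or.inl rfl⟩
  · exact ⟨4, Or.inr rfl⟩
  · exact ⟨6, Or.inl rfl⟩
  · exact ⟨3, Or.inr rfl⟩
  · exact ⟨7, Or.inr rfl⟩
  · exact ⟨8, Or.inr rfl⟩
  · exact ⟨1, Or.inr rfl⟩
  · exact ⟨2, Or.inl rfl⟩
  · exact ⟨5, Or.inl rfl⟩
  · exact ⟨0, Or.inr rfl⟩

theorem h1 (α : MulAut Gp) :
    (∃ k : Gp, α xE = k * xE * k⁻¹) ∨ (∃ k : Gp, α xE = k * sig xE * k⁻¹) :=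
  OutG.class_dichotomy 19 fact_p xE orderOf_xE sig 4 18 exists_n exists_m arith_p α

end Cfsg.Agent.Lib.Helper8.J3O
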