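import Cfsg.Agent.Lib.Helper8.J3m
import Cfsg.Agent.Lib.Helper8.GChP

set_option autoImplicit false
set_option linter.unusedVariables false
set_option linter.unusedSectionVars false

/-! The permutation representation of the Janko group J3 on an orbit of 20520 lines of the
9-space of its triple cover. -/

namespace Cfsg.Agent.Lib.Helper8.GChP

/-- the range of a homomorphism defined on a subgroup generated by a set lies in a subgroup
containing the images of the generators -/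
theorem range_le_of_gens {Γ : Type*} [Group Γ] {Δ : Type*} [Group Δ] (H : Subgroup Γ) (S : Set Γ)
    (hH : H = Subgroup.closure S) (φ : H →* Δ) (M : Subgroup Δ)
    (h : ∀ s (hs : s ∈ H), s ∈ S → φ ⟨s, hs⟩ ∈ M) : φ.range ≤ M := by
  rintro _ ⟨⟨g, hg⟩, rfl⟩
  have hg' : g ∈ Subgroup.closure S := by rw [← hH]; exact hg
  suffices hs : ∀ g (_ : g ∈ Subgroup.closure S) (hg : g ∈ H), φ ⟨g, hg⟩ ∈ M from hs g hg' hg
  intro g hg'
  induction hg' using Subgroup.closure_induction with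
  | mem x hx => intro hg; exact h x hg hx
  | one =>
    intro hg
    have : (⟨1, hg⟩ : H) = 1 := rfl
    rw [this, map_one]
    exact M.one_mem
  | mul x y hx hy ihx ihy =>
    intro hg
    have hx' : x ∈ H := by rw [hH]; exact hx
    have hy' : y ∈ H := by rw [hH]; exact hy
    have : (⟨x * y, hg⟩ : H) = ⟨x, hx'⟩ * ⟨y, hy'⟩ := rfl
    rw [this, map_mul]
    exact M.mul_mem (ihx hx') (ihy hy')
  | inv x hx ih =>
    intro hg
    have hx' : x ∈ H := by rw [hH]; exact hx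
    have : (⟨x⁻¹, hg⟩ : H) = (⟨x, hx'⟩ : H)⁻¹ := rfl
    rw [this, map_inv]
    exact M.inv_mem (ih hx')

end Cfsg.Agent.Lib.Helper8.GChP

namespace Cfsg.Agent.Lib.Helper8.J3P

open Cfsg.Agent.Lib.Helper8.F4M Cfsg.Agent.Lib.Helper8.J3D Cfsg.Agent.Lib.Helper8 Cfsg.Spor

variable {F : Type*} [Field F] [Fintype F] (ω : F)

/-- the points: 20520 lines -/
noncomputable def pt (i : Fin 20520) : Submodule F (I9 → F) := ptL ω (D0.getP i.1)

/-- the first generator moves the first point -/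
theorem a_moves : canon (mulB (D0.getG 0) (D0.getP 0)) = D0.getP 10040 := by decide +kernel

section main

variable (hF : Fintype.card F = 4) (hω : ω ^ 2 + ω + 1 = 0)

include hF hω

theorem pt_inj : Function.Injective (pt ω) := by
  intro i j h
  have hi : i.1 < D0.n := i.2
  have hj : j.1 < D0.n := j.2
  have e := ptL_inj ω hF hω _ _ (getP_lt D0 i.1) (getP_lt D0 j.1)
    (chkPts_spec D0 canon D0_pts i.1 hi).2.1 (chkPts_spec D0 canon D0_pts j.1 hj).2.1 h
  exact Fin.ext (getP_inj D0 canon D0_pts i.1 j.1 hi hj e)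

theorem act_tr (i : ℕ) (hi : i < D0.n) :
    actL (Q ω (D0.getT i)) (ptL ω D0.b0) = ptL ω (D0.getP i) := by
  rw [actL_Q ω (two_eq_zero hF) hω _ _ ((lev0 ω hF hω).2.tabT i hi).1,
    (chkPts_spec D0 canon D0_pts i hi).1]

theorem pt_inv (g : Matrix.GeneralLinearGroup I9 F) (hg : g ∈ threeJ3 F ω) (i : Fin 20520) :
    ∃ j, actL g (pt ω i) = pt ω j := by
  have L0 := (lev0 ω hF hω).1
  rw [threeJ3_eq ω hF hω] at hg
  have hi : i.1 < D0.n := i.2
  obtain ⟨j, hj, e⟩ := L0.orbit (g * Q ω (D0.getT i.1)) (mul_mem hg (L0.hu i.1 hi))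
  refine ⟨⟨j, hj⟩, ?_⟩
  show actL g (ptL ω (D0.getP i.1)) = ptL ω (D0.getP j)
  rw [← act_tr ω hF hω i.1 hi, ← act_tr ω hF hω j hj, ← actL_mul]
  exact e

theorem pact : GChP.PAct actL (threeJ3 F ω) (pt ω) :=
  ⟨actL_one, actL_mul, pt_inj ω hF hω, pt_inv ω hF hω⟩

/-- the permutation representation -/
noncomputable def Φ : threeJ3 F ω →* Equiv.Perm (Fin 20520) := (pact ω hF hω).hom

theorem gen_mem (gi : ℕ) (hgi : gi < 2) : Q ω (D0.getG gi) ∈ threeJ3 F ω := by
  rw [threeJ3_eq ω hF hω]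
  exact Subgroup.subset_closure ⟨gi, hgi, rfl⟩

theorem gen_apply (gi : ℕ) (hgi : gi < 2) (f : ℕ → ℕ)
    (hf : ∀ i, i < 20520 → f i < 20520 ∧
      canon (mulB (D0.getG gi) (D0.getP i)) = D0.getP (f i))
    (i : Fin 20520) :
    (Φ ω hF hω ⟨Q ω (D0.getG gi), gen_mem ω hF hω gi hgi⟩ i).1 = f i.1 := by
  have key : actL (Q ω (D0.getG gi)) (pt ω i) = pt ω ⟨f i.1, (hf i.1 i.2).1⟩ := by
    show actL (Q ω (D0.getG gi)) (ptL ω (D0.getP i.1)) = ptL ω (D0.getP (f i.1))
    rw [actL_Q ω (two_eq_zero hF) hω _ _ ((lev0 ω hF hω).2.tabG gi hgi), (hf i.1 i.2).2]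
  exact congrArg Fin.val
    ((pact ω hF hω).hom_eq ⟨_, gen_mem ω hF hω gi hgi⟩ i _ key)

theorem ker_ne_top : (Φ ω hF hω).ker ≠ ⊤ := by
  intro h
  have hm : (⟨Q ω (D0.getG 0), gen_mem ω hF hω 0 (by decide)⟩ : threeJ3 F ω) ∈
      (Φ ω hF hω).ker := by rw [h]; trivial
  have hm' := ((pact ω hF hω).mem_ker _).mp hm
  have h0 := hm' ⟨0, by decide⟩
  have h1 : actL (Q ω (D0.getG 0)) (ptL ω (D0.getP 0)) = ptL ω (D0.getP 10040) := by
    rw [actL_Q ω (two_eq_zero hF) hω _ _ ((lev0 ω hF hω).2.tabG 0 (by decide)), a_moves]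
  have h2 : pt ω ⟨10040, by decide⟩ = pt ω ⟨0, by decide⟩ := h1.symm.trans h0
  have := pt_inj ω hF hω h2
  exact absurd (congrArg Fin.val this) (by decide)

theorem Om_mem3 : Q ω OM ∈ threeJ3 F ω := by
  rw [threeJ3_eq ω hF hω]
  exact (OM_mem ω hF hω).2

theorem Om_fix (i : Fin 20520) : actL (Q ω OM) (pt ω i) = pt ω i := by
  unfold pt ptL
  rw [actL_span]
  unfold actV
  rw [(Om_val ω hF hω).2, Matrix.smul_mulVec, Matrix.one_mulVec]
  exact Submodule.span_singleton_smul_eq (omega_ne_zero ω hω).isUnit _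

theorem Om_mem_ker : (⟨Q ω OM, Om_mem3 ω hF hω⟩ : threeJ3 F ω) ∈ (Φ ω hF hω).ker :=
  ((pact ω hF hω).mem_ker _).mpr (Om_fix ω hF hω)

theorem Om_ne_one : (⟨Q ω OM, Om_mem3 ω hF hω⟩ : threeJ3 F ω) ≠ 1 := by
  intro h
  have h1 : Q ω OM = 1 := congrArg Subtype.val h
  have h2 : ((Q ω OM : Matrix.GeneralLinearGroup I9 F) : Matrix I9 I9 F) = 1 := by
    rw [h1]; rfl
  rw [(Om_val ω hF hω).2] at h2
  have h3 := congrFun (congrFun h2 0) 0
  rw [Matrix.smul_apply, Matrix.one_apply_eq, smul_eq_mul, mul_one] at h3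
  exact omega_ne_one ω (two_eq_zero hF) hω h3

theorem finite3 : Finite (threeJ3 F ω) :=
  Nat.finite_of_card_ne_zero (by rw [card_threeJ3 ω hF hω]; norm_num)

theorem ker_eq_center : (Φ ω hF hω).ker = Subgroup.center (threeJ3 F ω) := by
  have hm := j3_main' ω hF hω
  have : Finite (threeJ3 F ω) := finite3 ω hF hω
  have hle : (Φ ω hF hω).ker ≤ Subgroup.center (threeJ3 F ω) := by
    rcases hm.2.2 (Φ ω hF hω).ker (MonoidHom.normal_ker (Φ ω hF hω)) with h | h
    · exact absurd h (ker_ne_top ω hF hω)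
    · exact h
  apply Subgroup.eq_of_le_of_card_ge hle
  rw [hm.1]
  have hdvd : Nat.card (Φ ω hF hω).ker ∣ 3 := by
    have := Subgroup.card_dvd_of_le hle
    rw [hm.1] at this
    exact this
  have hne : Nat.card (Φ ω hF hω).ker ≠ 1 := by
    intro h1
    rw [Subgroup.card_eq_one] at h1
    have := Om_mem_ker ω hF hω
    rw [h1, Subgroup.mem_bot] at this
    exact Om_ne_one ω hF hω this
  rcases (Nat.dvd_prime Nat.prime_three).mp hdvd with h | h
  · exact absurd h hne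
  · exact h.ge

/-- J3 is isomorphic to the image of the permutation representation -/
noncomputable def isoRange : Cfsg.Spor.J3 F ω ≃* (Φ ω hF hω).range :=
  (QuotientGroup.quotientMulEquivOfEq (ker_eq_center ω hF hω).symm).trans
    (QuotientGroup.quotientKerEquivRange (Φ ω hF hω))

theorem card_J3 : Nat.card (Cfsg.Spor.J3 F ω) = 50232960 := by
  have h := Subgroup.card_eq_card_quotient_mul_card_subgroup (Subgroup.center (threeJ3 F ω))
  rw [card_threeJ3 ω hF hω, (j3_main' ω hF hω).1] at h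
  have : Nat.card (Cfsg.Spor.J3 F ω) = Nat.card (threeJ3 F ω ⧸ Subgroup.center (threeJ3 F ω)) := rfl
  omega

theorem simple_J3 : IsSimpleGroup (Cfsg.Spor.J3 F ω) := (j3_main' ω hF hω).2.1

theorem perm_eq (gi : ℕ) (hgi : gi < 2) (f : ℕ → ℕ)
    (hf : ∀ i, i < 20520 → f i < 20520 ∧
      canon (mulB (D0.getG gi) (D0.getP i)) = D0.getP (f i))
    (p : Equiv.Perm (Fin 20520)) (hp : ∀ i : Fin 20520, (p i).1 = f i.1) :
    Φ ω hF hω ⟨Q ω (D0.getG gi), gen_mem ω hF hω gi hgi⟩ = p :=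
  Equiv.ext fun i => Fin.ext ((gen_apply ω hF hω gi hgi f hf i).trans (hp i).symm)

theorem range_eq (pa pb : Equiv.Perm (Fin 20520))
    (ha : Φ ω hF hω ⟨Q ω (D0.getG 0), gen_mem ω hF hω 0 (by decide)⟩ = pa)
    (hb : Φ ω hF hω ⟨Q ω (D0.getG 1), gen_mem ω hF hω 1 (by decide)⟩ = pb) :
    (Φ ω hF hω).range = Subgroup.closure {pa, pb} := by
  apply le_antisymm
  · apply GChP.range_le_of_gens (threeJ3 F ω) (D0.S ω) (threeJ3_eq ω hF hω)
    rintro s hs ⟨gi, hgi, rfl⟩
    have hng : D0.ng = 2 := rfl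
    have : gi = 0 ∨ gi = 1 := by omega
    rcases this with rfl | rfl
    · have : Φ ω hF hω ⟨Q ω (D0.getG 0), hs⟩ = pa := ha
      rw [this]
      exact Subgroup.subset_closure (by simp)
    · have : Φ ω hF hω ⟨Q ω (D0.getG 1), hs⟩ = pb := hb
      rw [this]
      exact Subgroup.subset_closure (by simp)
  · rw [Subgroup.closure_le]
    rintro p hp
    simp only [Set.mem_insert_iff, Set.mem_singleton_iff] at hp
    rcases hp with rfl | rfl
    · exact ⟨_, ha⟩
    · exact ⟨_, hb⟩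

/-- J3 is isomorphic to the permutation group generated by two permutations given by tables -/
theorem iso_closure (pa pb : Equiv.Perm (Fin 20520)) (fa fb : ℕ → ℕ)
    (ha : ∀ i : Fin 20520, (pa i).1 = fa i.1) (hb : ∀ i : Fin 20520, (pb i).1 = fb i.1)
    (ca : ∀ i, i < 20520 → fa i < 20520 ∧
      canon (mulB (D0.getG 0) (D0.getP i)) = D0.getP (fa i))
    (cb : ∀ i, i < 20520 → fb i < 20520 ∧
      canon (mulB (D0.getG 1) (D0.getP i)) = D0.getP (fb i)) :
    Nonempty (Cfsg.Spor.J3 F ω ≃* Subgroup.closure ({pa, pb} : Set (Equiv.Perm (Fin 20520)))) := by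
  have h := range_eq ω hF hω pa pb (perm_eq ω hF hω 0 (by decide) fa ca pa ha)
    (perm_eq ω hF hω 1 (by decide) fb cb pb hb)
  exact ⟨(isoRange ω hF hω).trans (MulEquiv.subgroupCongr h)⟩

end main

end Cfsg.Agent.Lib.Helper8.J3P
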