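import Cfsg.Agent.Lib.Helper8.J3P1
import Cfsg.Agent.Lib.Helper8.OutG

set_option autoImplicit false
set_option linter.unusedVariables false
set_option linter.style.haveILetI false

/-! The permutation group on 20520 points generated by two permutations given by tables that
describe the action of two matrices on lines: it is simple of order 50232960, and isomorphic to
the Janko group J3 over any field with four elements. -/

namespace Cfsg.Agent.Lib.Helper8.J3P

open Cfsg.Agent.Lib.Helper8.F4M Cfsg.Agent.Lib.Helper8.J3D Cfsg.Agent.Lib.Helper8 Cfsg.Spor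

theorem exists_omega {F : Type*} [Field F] [Fintype F] (hF : Fintype.card F = 4) :
    ∃ ω : F, ω ^ 2 + ω + 1 = 0 := by
  classical
  have hex : ∃ x : F, x ≠ 0 ∧ x ≠ 1 := by
    by_contra h
    push Not at h
    have hsub : (Finset.univ : Finset F) ⊆ {0, 1} := by
      intro x _
      by_cases hx : x = 0
      · simp [hx]
      · simp [h x hx]
    have h1 := Finset.card_le_card hsub
    rw [Finset.card_univ, hF] at h1
    have h2 : ({0, 1} : Finset F).card ≤ 2 := Finset.card_le_two
    omega
  obtain ⟨x, hx0, hx1⟩ := hex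
  refine ⟨x, ?_⟩
  have h3 : x ^ 3 = 1 := by
    have := FiniteField.pow_card_sub_one_eq_one x hx0
    rwa [hF] at this
  have h4 : (x - 1) * (x ^ 2 + x + 1) = 0 := by
    have : (x - 1) * (x ^ 2 + x + 1) = x ^ 3 - 1 := by ring
    rw [this, h3, sub_self]
  rcases mul_eq_zero.mp h4 with h | h
  · exact absurd (sub_eq_zero.mp h) hx1
  · exact h

section

variable (pa pb : Equiv.Perm (Fin 20520)) (fa fb : ℕ → ℕ)
  (ha : ∀ i : Fin 20520, (pa i).1 = fa i.1) (hb : ∀ i : Fin 20520, (pb i).1 = fb i.1)
  (ca : ∀ i, i < 20520 → fa i < 20520 ∧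
    canon (mulB (D0.getG 0) (D0.getP i)) = D0.getP (fa i))
  (cb : ∀ i, i < 20520 → fb i < 20520 ∧
    canon (mulB (D0.getG 1) (D0.getP i)) = D0.getP (fb i))

include ha hb ca cb

theorem card_simple_closure :
    Nat.card (Subgroup.closure ({pa, pb} : Set (Equiv.Perm (Fin 20520)))) = 50232960 ∧
      IsSimpleGroup (Subgroup.closure ({pa, pb} : Set (Equiv.Perm (Fin 20520)))) := by
  haveI : Fact (Nat.Prime 2) := ⟨Nat.prime_two⟩
  letI : Fintype (GaloisField 2 2) := Fintype.ofFinite _
  have hF : Fintype.card (GaloisField 2 2) = 4 := by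
    rw [← Nat.card_eq_fintype_card, GaloisField.card 2 2 (by norm_num)]
    norm_num
  obtain ⟨ω, hω⟩ := exists_omega hF
  obtain ⟨e⟩ := iso_closure ω hF hω pa pb fa fb ha hb ca cb
  refine ⟨?_, ?_⟩
  · rw [← Nat.card_congr e.toEquiv, card_J3 ω hF hω]
  · haveI := simple_J3 ω hF hω
    exact e.symm.isSimpleGroup

/-- the outer automorphism group of J3 has the order of that of the permutation group -/
theorem card_out_J3 {F : Type*} [Field F] [Fintype F] (hF : Fintype.card F = 4) (ω : F)
    (hω : ω ^ 2 + ω + 1 = 0) :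
    Nat.card (Cfsg.Out (Cfsg.Spor.J3 F ω)) =
      Nat.card (Cfsg.Out (Subgroup.closure ({pa, pb} : Set (Equiv.Perm (Fin 20520))))) := by
  obtain ⟨e⟩ := iso_closure ω hF hω pa pb fa fb ha hb ca cb
  exact OutG.card_out_iso e

end

end Cfsg.Agent.Lib.Helper8.J3P
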