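import Cfsg.Agent.Lib.Helper8.J3a
import Cfsg.Agent.Lib.Helper8.J3b

set_option autoImplicit false
set_option maxRecDepth 100000

/-! Certificates for the top level of the chain of the triple cover of J3. -/

namespace Cfsg.Agent.Lib.Helper8.J3D

open Cfsg.Agent.Lib.Helper8.F4M

theorem D0_inv : chkInv D0 = true := by decide +kernel
theorem D0_0 : chk0 D0 = true := by decide +kernel
theorem D0_ht : chkHT D0 D1 = true := by decide +kernel
theorem D0_low : chkLow D0 D1 = true := by decide +kernel
theorem D0_fix : chkFix D0 D1 canon = true := by decide +kernel
theorem D0_tree : chkTree D0 = true := by decide +kernel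
theorem D0_pts : chkPts D0 canon = true := by decide +kernel

end Cfsg.Agent.Lib.Helper8.J3D
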