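import Cfsg.Agent.Lib.Helper8.J3a
import Cfsg.Agent.Lib.Helper8.J3b

set_option autoImplicit false
set_option maxRecDepth 100000

/-! The Schreier equations for the top level of the chain of the triple cover of J3. -/

namespace Cfsg.Agent.Lib.Helper8.J3D

open Cfsg.Agent.Lib.Helper8.F4M

theorem D0_sch : chkSch D0 = true := by decide +kernel

end Cfsg.Agent.Lib.Helper8.J3D
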