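import Cfsg.Agent.Lib.Helper8.J3c
import Cfsg.Agent.Lib.Helper8.J3d

set_option autoImplicit false
set_option linter.unusedVariables false
set_option linter.unusedSectionVars false

/-! The chain of the triple cover of J3: orders of the groups of the four levels. -/

namespace Cfsg.Agent.Lib.Helper8.J3D

open Cfsg.Agent.Lib.Helper8.F4M Cfsg.Agent.Lib.Helper8

variable {F : Type*} [Field F] [Fintype F] (ω : F)

theorem P2V (h2 : (2 : F) = 0) (hω : ω ^ 2 + ω + 1 = 0) :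
    ∀ v v', v < 2 ^ 18 → v' < 2 ^ 18 → (fun v : ℕ => v) v = v → (fun v : ℕ => v) v' = v' →
      decV ω v = decV ω v' → v = v' :=
  fun v v' hv hv' _ _ h => decV_inj ω h2 hω v v' hv hv' h

theorem lev3 (hF : Fintype.card F = 4) (hω : ω ^ 2 + ω + 1 = 0) :
    GCh.Level actV (D3.S ω) ⊥ (decV ω D3.b0) D3.n (fun i => Q ω (D3.getT i)) ∧ Tab ω D3 :=
  level_bot ω (two_eq_zero hF) hω D3 (fun v => v) actV (decV ω) actV_one actV_mul
    (fun g v hg => actV_Q ω (two_eq_zero hF) hω g v hg) (P2V ω (two_eq_zero hF) hω)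
    D3_mH D3_H0 D3_inv D3_0 D3_tree D3_pts D3_sch

theorem lev2 (hF : Fintype.card F = 4) (hω : ω ^ 2 + ω + 1 = 0) :
    GCh.Level actV (D2.S ω) (D3.grp ω) (decV ω D2.b0) D2.n (fun i => Q ω (D2.getT i)) ∧
      Tab ω D2 :=
  level_step ω (two_eq_zero hF) hω D2 D3 (fun v => v) actV (decV ω) actV_one actV_mul
    (fun g v hg => actV_Q ω (two_eq_zero hF) hω g v hg) (P2V ω (two_eq_zero hF) hω)
    (lev3 ω hF hω).2 D2_inv D2_0 D2_tree D2_pts D2_sch D2_ht D2_low D2_fix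

theorem lev1 (hF : Fintype.card F = 4) (hω : ω ^ 2 + ω + 1 = 0) :
    GCh.Level actV (D1.S ω) (D2.grp ω) (decV ω D1.b0) D1.n (fun i => Q ω (D1.getT i)) ∧
      Tab ω D1 :=
  level_step ω (two_eq_zero hF) hω D1 D2 (fun v => v) actV (decV ω) actV_one actV_mul
    (fun g v hg => actV_Q ω (two_eq_zero hF) hω g v hg) (P2V ω (two_eq_zero hF) hω)
    (lev2 ω hF hω).2 D1_inv D1_0 D1_tree D1_pts D1_sch D1_ht D1_low D1_fix

theorem lev0 (hF : Fintype.card F = 4) (hω : ω ^ 2 + ω + 1 = 0) :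
    GCh.Level actL (D0.S ω) (D1.grp ω) (ptL ω D0.b0) D0.n (fun i => Q ω (D0.getT i)) ∧
      Tab ω D0 :=
  level_step ω (two_eq_zero hF) hω D0 D1 canon actL (ptL ω) actL_one actL_mul
    (fun g v hg => actL_Q ω (two_eq_zero hF) hω g v hg)
    (fun v v' hv hv' hc hc' h => ptL_inj ω hF hω v v' hv hv' hc hc' h)
    (lev1 ω hF hω).2 D0_inv D0_0 D0_tree D0_pts D0_sch D0_ht D0_low D0_fix

theorem card3 (hF : Fintype.card F = 4) (hω : ω ^ 2 + ω + 1 = 0) :
    Nat.card (D3.grp ω) = 24 := by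
  have h := (lev3 ω hF hω).1.card
  rw [Subgroup.card_bot] at h
  exact h

theorem card2 (hF : Fintype.card F = 4) (hω : ω ^ 2 + ω + 1 = 0) :
    Nat.card (D2.grp ω) = 2448 := by
  have h := (lev2 ω hF hω).1.card
  rw [card3 ω hF hω] at h
  exact h

theorem card1 (hF : Fintype.card F = 4) (hω : ω ^ 2 + ω + 1 = 0) :
    Nat.card (D1.grp ω) = 7344 := by
  have h := (lev1 ω hF hω).1.card
  rw [card2 ω hF hω] at h
  exact h

theorem card0 (hF : Fintype.card F = 4) (hω : ω ^ 2 + ω + 1 = 0) :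
    Nat.card (D0.grp ω) = 150698880 := by
  have h := (lev0 ω hF hω).1.card
  rw [card1 ω hF hω] at h
  exact h

end Cfsg.Agent.Lib.Helper8.J3D
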