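import Cfsg.Agent.Lib.Helper8.J3e
import Cfsg.Agent.Lib.Helper8.J3f
import Cfsg.Prelude.Def_Spor_J3

set_option autoImplicit false
set_option maxRecDepth 100000
set_option linter.unusedVariables false
set_option linter.unusedSectionVars false

/-! The group generated by the 43 matrices of the definitions is the group of the top level
of the chain; so it has order 150698880. -/

namespace Cfsg.Agent.Lib.Helper8.J3D

open Cfsg.Agent.Lib.Helper8.F4M Cfsg.Agent.Lib.Helper8.MatN Cfsg.Agent.Lib.Helper8.FastDec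
  Cfsg.Agent.Lib.Helper8 Cfsg.Spor

/-- product of generating matrices along a word -/
noncomputable def prodB (w : List ℕ) : ℕ :=
  List.rec (motive := fun _ => ℕ) ID (fun i _ ih => withVal ih fun h => mulB (nthR GC i 0) h) w

theorem prodB_nil : prodB [] = ID := rfl

theorem prodB_cons (i : ℕ) (w : List ℕ) : prodB (i :: w) = mulB (nthR GC i 0) (prodB w) := by
  show withVal _ _ = _
  rw [withVal_eq]
  rfl

/-! ### checks -/

theorem chkGI : allLt 43 (fun i => Nat.beq (mulB (nthR GC i 0) (nthR GCI i 0)) ID) = true := by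
  decide +kernel

theorem chkDEC : allLt 43 (fun i => withVal (nthR DEC i 0) fun r =>
    Nat.blt (Nat.land r 32767) D0.n && (Nat.blt (Nat.shiftRight r 15) D0.mH &&
      Nat.beq (nthR GC i 0)
        (mulB (D0.getT (Nat.land r 32767)) (D0.getH (Nat.shiftRight r 15))))) = true := by
  decide +kernel

theorem chkOM : (Nat.blt (Nat.land DOM 32767) D0.n && (Nat.blt (Nat.shiftRight DOM 15) D0.mH &&
    Nat.beq OM (mulB (D0.getT (Nat.land DOM 32767)) (D0.getH (Nat.shiftRight DOM 15))))) = true := by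
  decide +kernel

theorem chkWA : Nat.beq (prodB WA) (D0.getG 0) = true := by decide +kernel

theorem chkWB : Nat.beq (prodB WB) (D0.getG 1) = true := by decide +kernel

theorem WA_lt : ∀ i ∈ WA, i < 43 := by decide +kernel

theorem WB_lt : ∀ i ∈ WB, i < 43 := by decide +kernel

/-! ### the entries of the generating matrices -/

/-- the code of a power of ω -/
def pw (n : ZMod 3) : ℕ := n.val + 1

def cA (Z w z : F9) : ℕ := if w = z then pw (Z.1 * z.1 + Z.2 * z.2) else 0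

def cE (Z w z : F9) : ℕ := if w = z then pw ((Z.1 - z.1) ^ 2 + (Z.2 - z.2) ^ 2) else 0

def cLam (Z z : F9) : ℕ :=
  if z = 0 then 1
  else if F9.div Z z = F9.I - F9.one then 2
  else if F9.div Z z = -F9.I - F9.one then 3
  else 1

def cD (Z w z : F9) : ℕ := if w = z + Z then cLam Z z else 0

def cB (Z w z : F9) : ℕ := if w = F9.mul Z z then 1 else 0

def cC (Z w z : F9) : ℕ :=
  if z = 0 then (if w = 0 then 1 else 0)
  else if w = -F9.div Z z ∨ w = F9.mul F9.I (F9.div Z z) ∨ w = -F9.mul F9.I (F9.div Z z) then 1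
  else 0

theorem tabA : ∀ Z w z : F9, cA Z w z = dig 4 (nthR GC (idx Z) 0) (idx w + 9 * idx z) := by
  decide +kernel

theorem tabE : ∀ Z w z : F9, cE Z w z = dig 4 (nthR GC (9 + idx Z) 0) (idx w + 9 * idx z) := by
  decide +kernel

theorem tabD : ∀ Z w z : F9, cD Z w z = dig 4 (nthR GC (18 + idx Z) 0) (idx w + 9 * idx z) := by
  decide +kernel

theorem tabB : ∀ Z w z : F9, Z ≠ 0 →
    cB Z w z = dig 4 (nthR GC (26 + idx Z) 0) (idx w + 9 * idx z) := by
  decide +kernel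

theorem tabC : ∀ Z w z : F9, Z ≠ 0 →
    cC Z w z = dig 4 (nthR GC (34 + idx Z) 0) (idx w + 9 * idx z) := by
  decide +kernel

variable {F : Type*} [Field F] [Fintype F] (ω : F)

theorem decF_pw (h2 : (2 : F) = 0) (hω : ω ^ 2 + ω + 1 = 0) (n : ZMod 3) :
    decF ω (pw n) = omegaPow F ω n := by
  unfold omegaPow pw
  fin_cases n
  · show decF ω 1 = ω ^ 0
    rw [decF_one, pow_zero]
  · show decF ω 2 = ω ^ 1
    rw [decF_two, pow_one]
  · show decF ω 3 = ω ^ 2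
    rw [decF_three]
    linear_combination (1 + ω) * h2 - hω

theorem entA (h2 : (2 : F) = 0) (hω : ω ^ 2 + ω + 1 = 0) (Z w z : F9) :
    j3A F ω Z w z = decF ω (cA Z w z) := by
  unfold j3A cA
  rw [Matrix.diagonal_apply]
  by_cases h : w = z
  · subst h
    rw [if_pos rfl, if_pos rfl, decF_pw ω h2 hω]
  · rw [if_neg h, if_neg h, decF_zero]

theorem entE (h2 : (2 : F) = 0) (hω : ω ^ 2 + ω + 1 = 0) (Z w z : F9) :
    j3E F ω Z w z = decF ω (cE Z w z) := by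
  unfold j3E cE
  rw [Matrix.diagonal_apply]
  by_cases h : w = z
  · subst h
    rw [if_pos rfl, if_pos rfl, decF_pw ω h2 hω]
  · rw [if_neg h, if_neg h, decF_zero]

theorem lam_eq (h2 : (2 : F) = 0) (hω : ω ^ 2 + ω + 1 = 0) (Z z : F9) :
    j3Lam F ω Z z = decF ω (cLam Z z) := by
  unfold j3Lam cLam
  split_ifs
  · rw [decF_one]
  · rw [decF_two]
  · rw [decF_three]
    linear_combination hω - (1 + ω) * h2
  · rw [decF_one]

theorem entD (h2 : (2 : F) = 0) (hω : ω ^ 2 + ω + 1 = 0) (Z w z : F9) :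
    j3D F ω Z w z = decF ω (cD Z w z) := by
  unfold j3D cD
  rw [Matrix.of_apply]
  split_ifs
  · exact lam_eq ω h2 hω Z z
  · rw [decF_zero]

theorem entB (Z w z : F9) : j3B F Z w z = decF ω (cB Z w z) := by
  unfold j3B cB
  rw [Matrix.of_apply]
  split_ifs
  · rw [decF_one]
  · rw [decF_zero]

theorem entC (Z w z : F9) : j3C F Z w z = decF ω (cC Z w z) := by
  unfold j3C cC
  rw [Matrix.of_apply]
  split_ifs <;> first | rw [decF_one] | rw [decF_zero]

theorem j3A_eq (h2 : (2 : F) = 0) (hω : ω ^ 2 + ω + 1 = 0) (Z : F9) :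
    j3A F ω Z = decM ω (nthR GC (idx Z) 0) := by
  ext w z
  rw [entA ω h2 hω, tabA Z w z]
  rfl

theorem j3E_eq (h2 : (2 : F) = 0) (hω : ω ^ 2 + ω + 1 = 0) (Z : F9) :
    j3E F ω Z = decM ω (nthR GC (9 + idx Z) 0) := by
  ext w z
  rw [entE ω h2 hω, tabE Z w z]
  rfl

theorem j3D_eq (h2 : (2 : F) = 0) (hω : ω ^ 2 + ω + 1 = 0) (Z : F9) :
    j3D F ω Z = decM ω (nthR GC (18 + idx Z) 0) := by
  ext w z
  rw [entD ω h2 hω, tabD Z w z]
  rfl

theorem j3B_eq (Z : F9) (hZ : Z ≠ 0) : j3B F Z = decM ω (nthR GC (26 + idx Z) 0) := by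
  ext w z
  rw [entB ω, tabB Z w z hZ]
  rfl

theorem j3C_eq (Z : F9) (hZ : Z ≠ 0) : j3C F Z = decM ω (nthR GC (34 + idx Z) 0) := by
  ext w z
  rw [entC ω, tabC Z w z hZ]
  rfl

/-! ### the two groups -/

theorem gen_unit (h2 : (2 : F) = 0) (hω : ω ^ 2 + ω + 1 = 0) (i : ℕ) (hi : i < 43) :
    IsUnit (decM ω (nthR GC i 0)) := by
  have h := chkGI
  rw [allLt_iff] at h
  exact isUnit_of_mulB ω h2 hω ((beq_iff _ _).mp (h i hi))

theorem gen_mem (hF : Fintype.card F = 4) (hω : ω ^ 2 + ω + 1 = 0) (i : ℕ) (hi : i < 43) :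
    Q ω (nthR GC i 0) ∈ D0.grp ω := by
  have h2 := two_eq_zero hF
  have h := chkDEC
  rw [allLt_iff] at h
  have h1 := h i hi
  simp only [withVal_eq, Bool.and_eq_true, blt_iff, beq_iff] at h1
  obtain ⟨hj, hm, e⟩ := h1
  obtain ⟨u1, m1⟩ := (lev0 ω hF hω).2.tabT _ hj
  obtain ⟨u2, m2⟩ := (lev0 ω hF hω).2.tabH _ hm
  rw [e, Q_mulB ω h2 hω u1 u2]
  exact mul_mem m1 m2

theorem OM_mem (hF : Fintype.card F = 4) (hω : ω ^ 2 + ω + 1 = 0) :
    IsUnit (decM ω OM) ∧ Q ω OM ∈ D0.grp ω := by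
  have h2 := two_eq_zero hF
  have h1 := chkOM
  simp only [Bool.and_eq_true, blt_iff, beq_iff] at h1
  obtain ⟨hj, hm, e⟩ := h1
  obtain ⟨u1, m1⟩ := (lev0 ω hF hω).2.tabT _ hj
  obtain ⟨u2, m2⟩ := (lev0 ω hF hω).2.tabH _ hm
  rw [e]
  exact ⟨isUnit_mulB ω h2 hω u1 u2, by rw [Q_mulB ω h2 hω u1 u2]; exact mul_mem m1 m2⟩

theorem threeJ3_le (hF : Fintype.card F = 4) (hω : ω ^ 2 + ω + 1 = 0) :
    threeJ3 F ω ≤ D0.grp ω := by
  have h2 := two_eq_zero hF
  unfold threeJ3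
  apply (Subgroup.closure_le _).mpr
  intro g hg
  have hg' : (g : Matrix F9 F9 F) ∈ j3Gens F ω := hg
  unfold j3Gens at hg'
  rcases hg' with (((⟨Z, hZ⟩ | ⟨Z, hZ⟩) | ⟨Z, hZ⟩) | ⟨Z, hZ0, hZ⟩) | ⟨Z, hZ0, hZ⟩
  · have e : (g : Matrix I9 I9 F) = decM ω (nthR GC (idx Z) 0) := by
      rw [← j3A_eq ω h2 hω Z]; exact hZ.symm
    rw [(eq_Q ω g _ e).2]
    exact gen_mem ω hF hω _ (by have := idx_lt Z; omega)
  · have e : (g : Matrix I9 I9 F) = decM ω (nthR GC (9 + idx Z) 0) := by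
      rw [← j3E_eq ω h2 hω Z]; exact hZ.symm
    rw [(eq_Q ω g _ e).2]
    exact gen_mem ω hF hω _ (by have := idx_lt Z; omega)
  · have e : (g : Matrix I9 I9 F) = decM ω (nthR GC (18 + idx Z) 0) := by
      rw [← j3D_eq ω h2 hω Z]; exact hZ.symm
    rw [(eq_Q ω g _ e).2]
    exact gen_mem ω hF hω _ (by have := idx_lt Z; omega)
  · have e : (g : Matrix I9 I9 F) = decM ω (nthR GC (26 + idx Z) 0) := by
      rw [← j3B_eq ω Z hZ0]; exact hZ
    rw [(eq_Q ω g _ e).2]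
    exact gen_mem ω hF hω _ (by have := idx_lt Z; omega)
  · have e : (g : Matrix I9 I9 F) = decM ω (nthR GC (34 + idx Z) 0) := by
      rw [← j3C_eq ω Z hZ0]; exact hZ
    rw [(eq_Q ω g _ e).2]
    exact gen_mem ω hF hω _ (by have := idx_lt Z; omega)

theorem idx_ne_zero (Z : F9) (h : idx Z ≠ 0) : Z ≠ 0 := by
  intro e
  rw [e] at h
  exact h rfl

theorem gen_mem3 (h2 : (2 : F) = 0) (hω : ω ^ 2 + ω + 1 = 0) (i : ℕ) (hi : i < 43) :
    Q ω (nthR GC i 0) ∈ threeJ3 F ω := by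
  apply Subgroup.subset_closure
  show ((Q ω (nthR GC i 0) : Matrix.GeneralLinearGroup I9 F) : Matrix F9 F9 F) ∈ j3Gens F ω
  rw [Q_val ω (gen_unit ω h2 hω i hi)]
  unfold j3Gens
  by_cases h9 : i < 9
  · obtain ⟨Z, rfl⟩ := exists_idx i h9
    exact Or.inl (Or.inl (Or.inl (Or.inl ⟨Z, j3A_eq ω h2 hω Z⟩)))
  by_cases h18 : i < 18
  · obtain ⟨Z, hZ⟩ := exists_idx (i - 9) (by omega)
    have e : i = 9 + idx Z := by omega
    rw [e]
    exact Or.inl (Or.inl (Or.inl (Or.inr ⟨Z, j3E_eq ω h2 hω Z⟩)))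
  by_cases h27 : i < 27
  · obtain ⟨Z, hZ⟩ := exists_idx (i - 18) (by omega)
    have e : i = 18 + idx Z := by omega
    rw [e]
    exact Or.inl (Or.inl (Or.inr ⟨Z, j3D_eq ω h2 hω Z⟩))
  by_cases h35 : i < 35
  · obtain ⟨Z, hZ⟩ := exists_idx (i - 26) (by omega)
    have e : i = 26 + idx Z := by omega
    rw [e]
    exact Or.inl (Or.inr ⟨Z, idx_ne_zero Z (by omega), (j3B_eq ω Z (idx_ne_zero Z (by omega))).symm⟩)
  · obtain ⟨Z, hZ⟩ := exists_idx (i - 34) (by omega)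
    have e : i = 34 + idx Z := by omega
    rw [e]
    exact Or.inr ⟨Z, idx_ne_zero Z (by omega), (j3C_eq ω Z (idx_ne_zero Z (by omega))).symm⟩

theorem word_mem (h2 : (2 : F) = 0) (hω : ω ^ 2 + ω + 1 = 0) (w : List ℕ)
    (hw : ∀ i ∈ w, i < 43) :
    IsUnit (decM ω (prodB w)) ∧ Q ω (prodB w) ∈ threeJ3 F ω := by
  induction w with
  | nil =>
    rw [prodB_nil, Q_ID]
    exact ⟨isUnit_ID ω, one_mem _⟩
  | cons i w ih =>
    obtain ⟨u1, m1⟩ := ih (fun j hj => hw j (List.mem_cons_of_mem _ hj))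
    have hi := hw i List.mem_cons_self
    have u0 := gen_unit ω h2 hω i hi
    rw [prodB_cons]
    exact ⟨isUnit_mulB ω h2 hω u0 u1, by
      rw [Q_mulB ω h2 hω u0 u1]; exact mul_mem (gen_mem3 ω h2 hω i hi) m1⟩

theorem grp_le (hF : Fintype.card F = 4) (hω : ω ^ 2 + ω + 1 = 0) :
    D0.grp ω ≤ threeJ3 F ω := by
  have h2 := two_eq_zero hF
  apply (Subgroup.closure_le _).mpr
  rintro s ⟨gi, hgi, rfl⟩
  have hng : D0.ng = 2 := rfl
  have : gi = 0 ∨ gi = 1 := by omega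
  rcases this with rfl | rfl
  · rw [← (beq_iff _ _).mp chkWA]
    exact (word_mem ω h2 hω WA WA_lt).2
  · rw [← (beq_iff _ _).mp chkWB]
    exact (word_mem ω h2 hω WB WB_lt).2

theorem threeJ3_eq (hF : Fintype.card F = 4) (hω : ω ^ 2 + ω + 1 = 0) :
    threeJ3 F ω = D0.grp ω :=
  le_antisymm (threeJ3_le ω hF hω) (grp_le ω hF hω)

theorem card_threeJ3 (hF : Fintype.card F = 4) (hω : ω ^ 2 + ω + 1 = 0) :
    Nat.card (threeJ3 F ω) = 150698880 := by
  rw [threeJ3_eq ω hF hω]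
  exact card0 ω hF hω

end Cfsg.Agent.Lib.Helper8.J3D
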