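import Mathlib

set_option autoImplicit false
set_option linter.unusedVariables false
set_option linter.unusedSectionVars false
set_option linter.style.haveILetI false

/-! Matrices of size 9 over a field with four elements commuting with a matrix `A` of order 19
for which `A - 1` is invertible: `A` acts irreducibly, so such a matrix is zero or invertible. -/

namespace Cfsg.Agent.Lib.Helper8.J3H

open Matrix

/-- the index set -/
abbrev J9 : Type := ZMod 3 × ZMod 3

variable {F : Type*} [Field F] [Fintype F]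

theorem card_vec (hF : Fintype.card F = 4) : Nat.card (J9 → F) = 2 ^ 18 := by
  rw [Nat.card_eq_fintype_card, Fintype.card_fun, hF, Fintype.card_prod, ZMod.card]
  norm_num

/-- a map of prime order with exactly one fixed point -/
theorem card_modEq_one {α : Type*} [Finite α] (f : Function.End α) (p : ℕ) [Fact p.Prime]
    (hf : f ^ p = 1) (x0 : α) (h0 : f x0 = x0) (hu : ∀ x, f x = x → x = x0) :
    Nat.card α ≡ 1 [MOD p] := by
  classical
  haveI : Fintype α := Fintype.ofFinite α
  have hf' : f ^ p ^ 1 = 1 := by rw [pow_one]; exact hf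
  have h := Equiv.Perm.card_fixedPoints_modEq (p := p) (n := 1) hf'
  simp only [← Nat.card_eq_fintype_card] at h
  have hfix : Nat.card ↥(Function.fixedPoints f) = 1 := by
    rw [Nat.card_eq_one_iff_unique]
    exact ⟨⟨fun ⟨x, hx⟩ ⟨y, hy⟩ => Subtype.ext ((hu x hx).trans (hu y hy).symm)⟩, ⟨⟨x0, h0⟩⟩⟩
  rw [hfix] at h
  exact h

section irr

variable (hF : Fintype.card F = 4) (A : Matrix J9 J9 F) (h19 : A ^ 19 = 1) (hA1 : IsUnit (A - 1))

include hF h19 hA1

theorem invariant_addSubgroup (W : AddSubgroup (J9 → F)) (hW : ∀ w ∈ W, A *ᵥ w ∈ W) :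
    W = ⊥ ∨ W = ⊤ := by
  classical
  haveI : Fact (Nat.Prime 19) := ⟨by norm_num⟩
  let f : Function.End ↥W := fun w => ⟨A *ᵥ w.1, hW w.1 w.2⟩
  have hpow : ∀ k : ℕ, ∀ w : ↥W, ((f ^ k) w : J9 → F) = (A ^ k) *ᵥ w.1 := by
    intro k
    induction k with
    | zero => intro w; rw [pow_zero, pow_zero, Matrix.one_mulVec]; rfl
    | succ k ih =>
      intro w
      rw [pow_succ', pow_succ']
      show A *ᵥ (((f ^ k) w : ↥W) : J9 → F) = _
      rw [ih, Matrix.mulVec_mulVec]
  have hf : f ^ 19 = 1 := by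
    funext w
    apply Subtype.ext
    rw [hpow, h19, Matrix.one_mulVec]
    rfl
  have hinj : Function.Injective (A - 1).mulVec := Matrix.mulVec_injective_iff_isUnit.mpr hA1
  have h := card_modEq_one f 19 hf 0 (Subtype.ext (Matrix.mulVec_zero A)) (by
    intro w hw
    apply Subtype.ext
    have h1 : A *ᵥ w.1 = w.1 := congrArg Subtype.val hw
    apply hinj
    show (A - 1) *ᵥ w.1 = (A - 1) *ᵥ (0 : J9 → F)
    rw [Matrix.sub_mulVec, Matrix.one_mulVec, h1, sub_self, Matrix.mulVec_zero])
  have hdvd : Nat.card ↥W ∣ 2 ^ 18 := by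
    rw [← card_vec hF]
    exact AddSubgroup.card_addSubgroup_dvd_card W
  obtain ⟨j, hj, hj2⟩ := (Nat.dvd_prime_pow Nat.prime_two).mp hdvd
  rw [hj2] at h
  have hj' : j = 0 ∨ j = 18 := by
    interval_cases j <;> first | (left; rfl) | (right; rfl) | (exfalso; revert h; decide)
  rcases hj' with rfl | rfl
  · left
    exact AddSubgroup.eq_bot_of_card_eq W (by rw [hj2]; rfl)
  · right
    exact AddSubgroup.eq_top_of_card_eq W (by rw [hj2, card_vec hF])

/-- the kernel of a matrix -/
def kerS (d : Matrix J9 J9 F) : AddSubgroup (J9 → F) where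
  carrier := {w | d *ᵥ w = 0}
  zero_mem' := Matrix.mulVec_zero d
  add_mem' := by
    intro x y hx hy
    have hx' : d *ᵥ x = 0 := hx
    have hy' : d *ᵥ y = 0 := hy
    show d *ᵥ (x + y) = 0
    rw [Matrix.mulVec_add, hx', hy', add_zero]
  neg_mem' := by
    intro x hx
    have hx' : d *ᵥ x = 0 := hx
    show d *ᵥ (-x) = 0
    rw [Matrix.mulVec_neg, hx', neg_zero]

omit hF h19 hA1 in
theorem mem_kerS (d : Matrix J9 J9 F) (w : J9 → F) : w ∈ kerS d ↔ d *ᵥ w = 0 := Iff.rfl

theorem zero_or_unit (d : Matrix J9 J9 F) (hd : d * A = A * d) : d = 0 ∨ IsUnit d := by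
  have hW : ∀ w ∈ kerS d, A *ᵥ w ∈ kerS d := by
    intro w hw
    rw [mem_kerS] at hw ⊢
    rw [Matrix.mulVec_mulVec, hd, ← Matrix.mulVec_mulVec, hw, Matrix.mulVec_zero]
  rcases invariant_addSubgroup hF A h19 hA1 (kerS d) hW with h | h
  · right
    rw [← Matrix.mulVec_injective_iff_isUnit]
    intro v v' e
    have h1 : v - v' ∈ kerS d := by
      rw [mem_kerS, Matrix.mulVec_sub, e, sub_self]
    rw [h] at h1
    exact sub_eq_zero.mp (AddSubgroup.mem_bot.mp h1)
  · left
    ext i j
    have h1 : (Pi.single j 1 : J9 → F) ∈ kerS d := by rw [h]; exact AddSubgroup.mem_top _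
    rw [mem_kerS, Matrix.mulVec_single_one] at h1
    exact congrFun h1 i

theorem cube_root (ω : F) (hω : ω ^ 2 + ω + 1 = 0) (d : Matrix J9 J9 F) (hd : d * A = A * d)
    (h3 : d ^ 3 = 1) : d = 1 ∨ d = ω • (1 : Matrix J9 J9 F) ∨ d = ω ^ 2 • (1 : Matrix J9 J9 F) := by
  have key : (d - 1) * (d - ω • (1 : Matrix J9 J9 F)) *
      (d - (ω ^ 2) • (1 : Matrix J9 J9 F)) = 0 := by
    have hp : ((Polynomial.X - Polynomial.C (1 : F)) * (Polynomial.X - Polynomial.C ω) *
        (Polynomial.X - Polynomial.C (ω ^ 2)) : Polynomial F) = Polynomial.X ^ 3 - 1 := by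
      have hc : (Polynomial.C ω) ^ 2 + Polynomial.C ω + 1 = (0 : Polynomial F) := by
        rw [← Polynomial.C_pow, ← Polynomial.C_add, ← Polynomial.C_1, ← Polynomial.C_add, hω,
          Polynomial.C_0]
      rw [Polynomial.C_pow, Polynomial.C_1]
      linear_combination (-Polynomial.X ^ 2 + Polynomial.C ω * Polynomial.X -
        (Polynomial.C ω - 1)) * hc
    have h := congrArg (Polynomial.aeval d) hp
    simp only [map_mul, map_sub, Polynomial.aeval_X, Polynomial.aeval_C, map_pow, map_one,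
      Algebra.algebraMap_eq_smul_one] at h
    rw [smul_pow, one_pow] at h
    rw [h, h3, sub_self]
  have hcomm : ∀ c : F, (d - c • (1 : Matrix J9 J9 F)) * A = A * (d - c • (1 : Matrix J9 J9 F)) := by
    intro c
    rw [sub_mul, mul_sub, hd, smul_mul_assoc, mul_smul_comm, one_mul, mul_one]
  have hcomm1 : (d - 1) * A = A * (d - 1) := by
    rw [sub_mul, mul_sub, hd, one_mul, mul_one]
  rcases zero_or_unit hF A h19 hA1 _ hcomm1 with h1 | h1
  · left
    exact sub_eq_zero.mp h1
  rcases zero_or_unit hF A h19 hA1 _ (hcomm ω) with h2 | h2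
  · right; left
    exact sub_eq_zero.mp h2
  rcases zero_or_unit hF A h19 hA1 _ (hcomm (ω ^ 2)) with h4 | h4
  · right; right
    exact sub_eq_zero.mp h4
  · exfalso
    have hu := (h1.mul h2).mul h4
    rw [key] at hu
    exact not_isUnit_zero hu

theorem prime_dvd (g : Matrix J9 J9 F) (hg : g * A = A * g) (r : ℕ) [Fact r.Prime]
    (hgr : g ^ r = 1) (hg1 : g ≠ 1) : r ∣ 262143 := by
  have hcomm : (g - 1) * A = A * (g - 1) := by
    rw [sub_mul, mul_sub, hg, one_mul, mul_one]
  have hu : IsUnit (g - 1) := by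
    rcases zero_or_unit hF A h19 hA1 _ hcomm with h | h
    · exact absurd (sub_eq_zero.mp h) hg1
    · exact h
  have hinj : Function.Injective (g - 1).mulVec := Matrix.mulVec_injective_iff_isUnit.mpr hu
  let f : Function.End (J9 → F) := fun v => g *ᵥ v
  have hpow : ∀ k : ℕ, ∀ v : J9 → F, (f ^ k) v = (g ^ k) *ᵥ v := by
    intro k
    induction k with
    | zero => intro v; rw [pow_zero, pow_zero, Matrix.one_mulVec]; rfl
    | succ k ih =>
      intro v
      rw [pow_succ', pow_succ']
      show g *ᵥ ((f ^ k) v) = _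
      rw [ih, Matrix.mulVec_mulVec]
  have hf : f ^ r = 1 := by
    funext v
    rw [hpow, hgr, Matrix.one_mulVec]
    rfl
  have h := card_modEq_one f r hf 0 (Matrix.mulVec_zero g) (by
    intro v hv
    have h1 : g *ᵥ v = v := hv
    apply hinj
    rw [Matrix.sub_mulVec, Matrix.one_mulVec, h1, sub_self, Matrix.mulVec_zero])
  rw [card_vec hF] at h
  have := (Nat.modEq_iff_dvd' (by norm_num : 1 ≤ 2 ^ 18)).mp h.symm
  norm_num at this
  exact this

end irr

end Cfsg.Agent.Lib.Helper8.J3H
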