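import Cfsg.Agent.Lib.Helper8.J3h

set_option autoImplicit false
set_option linter.unusedVariables false
set_option linter.unusedSectionVars false
set_option linter.style.haveILetI false

/-! Elements of a group of matrices of order 150698880 commuting with an irreducible element of
order 19. -/

namespace Cfsg.Agent.Lib.Helper8.J3H

open Matrix

variable {F : Type*} [Field F] [Fintype F]

section cent

variable (hF : Fintype.card F = 4) (ω : F) (hω : ω ^ 2 + ω + 1 = 0)
  (a : Matrix.GeneralLinearGroup J9 F) (ha19 : a ^ 19 = 1)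
  (hA1 : IsUnit ((a : Matrix J9 J9 F) - 1))
  (Om : Matrix.GeneralLinearGroup J9 F) (hOm : (Om : Matrix J9 J9 F) = ω • (1 : Matrix J9 J9 F))

include hF hω ha19 hA1 hOm

theorem gl_cube (c : Matrix.GeneralLinearGroup J9 F) (hc : c * a = a * c) (h3 : c ^ 3 = 1) :
    c = 1 ∨ c = Om ∨ c = Om ^ 2 := by
  have h19 : (a : Matrix J9 J9 F) ^ 19 = 1 := by
    rw [← Units.val_pow_eq_pow_val, ha19]; rfl
  have hd : (c : Matrix J9 J9 F) * (a : Matrix J9 J9 F) = (a : Matrix J9 J9 F) * c := by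
    rw [← Units.val_mul, ← Units.val_mul, hc]
  have hc3 : (c : Matrix J9 J9 F) ^ 3 = 1 := by
    rw [← Units.val_pow_eq_pow_val, h3]; rfl
  rcases cube_root hF _ h19 hA1 ω hω _ hd hc3 with h | h | h
  · left
    exact Units.ext h
  · right; left
    exact Units.ext (h.trans hOm.symm)
  · right; right
    apply Units.ext
    rw [Units.val_pow_eq_pow_val, hOm, smul_pow, one_pow]
    exact h

theorem gl_prime (c : Matrix.GeneralLinearGroup J9 F) (hc : c * a = a * c) (r : ℕ)
    [Fact r.Prime] (hr : orderOf c = r) : r ∣ 262143 := by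
  have h19 : (a : Matrix J9 J9 F) ^ 19 = 1 := by
    rw [← Units.val_pow_eq_pow_val, ha19]; rfl
  have hd : (c : Matrix J9 J9 F) * (a : Matrix J9 J9 F) = (a : Matrix J9 J9 F) * c := by
    rw [← Units.val_mul, ← Units.val_mul, hc]
  have hcr : (c : Matrix J9 J9 F) ^ r = 1 := by
    rw [← Units.val_pow_eq_pow_val, ← hr, pow_orderOf_eq_one]; rfl
  have hc1 : (c : Matrix J9 J9 F) ≠ 1 := by
    intro h
    have : c = 1 := Units.ext h
    rw [this, orderOf_one] at hr
    exact (Fact.out : r.Prime).one_lt.ne hr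
  exact prime_dvd hF _ h19 hA1 _ hd r hcr hc1

theorem Om_cube : Om ^ 3 = 1 := by
  apply Units.ext
  rw [Units.val_pow_eq_pow_val, hOm, smul_pow, one_pow]
  have : ω ^ 3 = 1 := by linear_combination (ω - 1) * hω
  rw [this, one_smul]
  rfl

variable (G : Subgroup (Matrix.GeneralLinearGroup J9 F)) (hG : Nat.card G = 150698880)
  (hOmG : Om ∈ G) (ξ : Matrix.GeneralLinearGroup J9 F) (hξ3 : ξ ^ 3 = Om)
  (hξc : ∀ c : Matrix.GeneralLinearGroup J9 F, c * a = a * c → c * ξ = ξ * c) (hξG : ξ ∉ G)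

include hG hOmG hξ3 hξc hξG

theorem no_cube_root (y : Matrix.GeneralLinearGroup J9 F) (hy : y ∈ G) (hya : y * a = a * y)
    (hy3 : y ^ 3 = Om) : False := by
  have hyξ : Commute y ξ := hξc y hya
  have hξa : Commute ξ a := (hξc a rfl).symm
  have hya' : Commute y a := hya
  have hu3 : (y * ξ⁻¹) ^ 3 = 1 := by
    rw [(hyξ.inv_right).mul_pow, hy3, inv_pow, hξ3, mul_inv_cancel]
  have hua : (y * ξ⁻¹) * a = a * (y * ξ⁻¹) := (hya'.mul_left hξa.inv_left)
  have hmem : y * ξ⁻¹ ∈ G := by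
    rcases gl_cube hF ω hω a ha19 hA1 Om hOm _ hua hu3 with h | h | h
    · rw [h]; exact one_mem _
    · rw [h]; exact hOmG
    · rw [h]; exact pow_mem hOmG 2
  apply hξG
  have : ξ = (y * ξ⁻¹)⁻¹ * y := by group
  rw [this]
  exact mul_mem (inv_mem hmem) hy

theorem nine (y : Matrix.GeneralLinearGroup J9 F) (hy : y ∈ G) (hya : y * a = a * y)
    (hy9 : y ^ 9 = 1) : y ∈ Subgroup.zpowers Om := by
  have hya' : Commute y a := hya
  have ht3 : (y ^ 3) ^ 3 = 1 := by rw [← pow_mul]; exact hy9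
  have hO3 := Om_cube hF ω hω a ha19 hA1 Om hOm
  rcases gl_cube hF ω hω a ha19 hA1 Om hOm _ (hya'.pow_left 3) ht3 with h | h | h
  · rcases gl_cube hF ω hω a ha19 hA1 Om hOm _ hya h with h' | h' | h'
    · rw [h']; exact one_mem _
    · rw [h']; exact Subgroup.mem_zpowers Om
    · rw [h']; exact pow_mem (Subgroup.mem_zpowers Om) 2
  · exact (no_cube_root hF ω hω a ha19 hA1 Om hOm G hG hOmG ξ hξ3 hξc hξG y hy hya h).elim
  · exfalso
    refine no_cube_root hF ω hω a ha19 hA1 Om hOm G hG hOmG ξ hξ3 hξc hξG y⁻¹ (inv_mem hy)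
      (hya'.inv_left) ?_
    rw [inv_pow, h]
    have : Om ^ 2 * Om = 1 := by rw [← pow_succ]; exact hO3
    exact inv_eq_of_mul_eq_one_right this

theorem three_pow (k : ℕ) : ∀ x : Matrix.GeneralLinearGroup J9 F, x ∈ G → x * a = a * x →
    x ^ 3 ^ k = 1 → x ∈ Subgroup.zpowers Om := by
  have hO3 := Om_cube hF ω hω a ha19 hA1 Om hOm
  induction k with
  | zero =>
    intro x hx hxa h
    rw [pow_zero, pow_one] at h
    rw [h]; exact one_mem _
  | succ k ih =>
    intro x hx hxa h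
    have hxa' : Commute x a := hxa
    have h1 : (x ^ 3) ^ 3 ^ k = 1 := by rw [← pow_mul, ← pow_succ']; exact h
    have h2 := ih (x ^ 3) (pow_mem hx 3) (hxa'.pow_left 3) h1
    obtain ⟨i, hi⟩ := Subgroup.mem_zpowers_iff.mp h2
    have h3 : x ^ 9 = 1 := by
      rw [show 9 = 3 * 3 by norm_num, pow_mul, ← hi, ← zpow_natCast (Om ^ i) 3,
        ← _root_.zpow_mul Om i, mul_comm i, _root_.zpow_mul Om, zpow_natCast Om 3, hO3, _root_.one_zpow]
    exact nine hF ω hω a ha19 hA1 Om hOm G hG hOmG ξ hξ3 hξc hξG x hx hxa h3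

theorem mem_Z0 (x : Matrix.GeneralLinearGroup J9 F) (hx : x ∈ G) (hxa : x * a = a * x)
    (h19 : ¬ 19 ∣ orderOf x) : x ∈ Subgroup.zpowers Om := by
  haveI : Finite G := Nat.finite_of_card_ne_zero (by rw [hG]; norm_num)
  have hxa' : Commute x a := hxa
  have hfin : IsOfFinOrder x := isOfFinOrder_of_finite x
  have hm0 : orderOf x ≠ 0 := (orderOf_pos_iff.mpr hfin).ne'
  have hmG : orderOf x ∣ 150698880 := by
    rw [← hG]; exact Subgroup.orderOf_dvd_natCard G hx
  have hprime : ∀ {r : ℕ}, r.Prime → r ∣ orderOf x → r = 3 := by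
    intro r hr hrm
    haveI : Fact r.Prime := ⟨hr⟩
    have ho : orderOf (x ^ (orderOf x / r)) = r := orderOf_pow_orderOf_div hm0 hrm
    have h1 := gl_prime hF ω hω a ha19 hA1 Om hOm _ (hxa'.pow_left _) r ho
    have h2 : r ∣ 150698880 := hrm.trans hmG
    have h3 : r ∣ Nat.gcd 262143 150698880 := Nat.dvd_gcd h1 h2
    have h4 : Nat.gcd 262143 150698880 = 3 ^ 3 * 19 := by norm_num
    rw [h4] at h3
    rcases (Nat.Prime.dvd_mul hr).mp h3 with h5 | h5
    · exact (Nat.prime_dvd_prime_iff_eq hr Nat.prime_three).mp (hr.dvd_of_dvd_pow h5)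
    · have : r = 19 := (Nat.prime_dvd_prime_iff_eq hr (by norm_num)).mp h5
      rw [this] at hrm
      exact absurd hrm h19
  have hpow := Nat.eq_prime_pow_of_unique_prime_dvd hm0 hprime
  have hx1 : x ^ 3 ^ (orderOf x).primeFactorsList.length = 1 := by
    rw [← hpow]; exact pow_orderOf_eq_one x
  exact three_pow hF ω hω a ha19 hA1 Om hOm G hG hOmG ξ hξ3 hξc hξG _ x hx hxa hx1

end cent

end Cfsg.Agent.Lib.Helper8.J3H
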