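import Mathlib

set_option autoImplicit false
set_option linter.unusedVariables false
set_option linter.unusedSectionVars false
set_option linter.style.haveILetI false

/-! A group of order 150698880 = 2^7·3^6·5·17·19 generated by the conjugates of an element `a` of
order 19, in which the elements of order prime to 19 commuting with `a` form a central subgroup
of order 3: the centre has order 3 and the central quotient is simple. -/

namespace Cfsg.Agent.Lib.Helper8.J3T

open scoped Pointwise

variable {G : Type*} [Group G] [Finite G]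

section coprime

variable (a : G) (p : ℕ) [Fact p.Prime] (hap : a ^ p = 1)

include hap

theorem card_modEq_fix (R : Subgroup G) (hR : ∀ x ∈ R, a * x * a⁻¹ ∈ R) :
    Nat.card R ≡ Nat.card ↥(R ⊓ Subgroup.centralizer {a}) [MOD p] := by
  classical
  haveI : Fintype ↥R := Fintype.ofFinite _
  let f : Function.End ↥R := fun x => ⟨a * x.1 * a⁻¹, hR x.1 x.2⟩
  have hpow : ∀ k : ℕ, ∀ x : ↥R, ((f ^ k) x : G) = a ^ k * x.1 * (a ^ k)⁻¹ := by
    intro k
    induction k with
    | zero =>
      intro x
      rw [pow_zero, pow_zero, one_mul, inv_one, mul_one]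
      rfl
    | succ k ih =>
      intro x
      rw [pow_succ', pow_succ']
      show a * (((f ^ k) x : ↥R) : G) * a⁻¹ = _
      rw [ih]
      group
  have hf : f ^ p ^ 1 = 1 := by
    funext x
    apply Subtype.ext
    rw [pow_one, hpow, hap, one_mul, inv_one, mul_one]
    rfl
  have h := Equiv.Perm.card_fixedPoints_modEq (p := p) (n := 1) hf
  simp only [← Nat.card_eq_fintype_card] at h
  have e : Nat.card ↥(Function.fixedPoints f) = Nat.card ↥(R ⊓ Subgroup.centralizer {a}) := by
    apply Nat.card_congr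
    refine ⟨fun x => ⟨x.1.1, x.1.2, ?_⟩, fun y => ⟨⟨y.1, y.2.1⟩, ?_⟩, fun x => rfl, fun y => rfl⟩
    · show x.1.1 ∈ Subgroup.centralizer {a}
      rw [Subgroup.mem_centralizer_singleton_iff]
      have hx : f x.1 = x.1 := x.2
      have h1 : a * x.1.1 * a⁻¹ = x.1.1 := congrArg Subtype.val hx
      exact (mul_inv_eq_iff_eq_mul.mp h1).symm
    · have h1 : y.1 * a = a * y.1 := Subgroup.mem_centralizer_singleton_iff.mp y.2.2
      show f ⟨y.1, y.2.1⟩ = ⟨y.1, y.2.1⟩
      apply Subtype.ext
      show a * y.1 * a⁻¹ = y.1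
      exact mul_inv_eq_iff_eq_mul.mpr h1.symm
  rw [e] at h
  exact h

theorem exists_invariant_sylow (N : Subgroup G) [N.Normal] (hpN : ¬ p ∣ Nat.card N) (r : ℕ)
    [Fact r.Prime] :
    ∃ R : Subgroup G, R ≤ N ∧ (∀ x ∈ R, a * x * a⁻¹ ∈ R) ∧ IsPGroup r R ∧
      Nat.card R = r ^ (Nat.card N).factorization r := by
  classical
  let φ : MulAut ↥N := MulAut.conjNormal a
  have hφ : φ ^ p = 1 := by rw [← map_pow, hap, map_one]
  haveI : Fintype (Sylow r ↥N) := Fintype.ofFinite _
  let σ : Equiv.Perm (Sylow r ↥N) := MulAction.toPermHom (MulAut ↥N) (Sylow r ↥N) φ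
  have hσ : σ ^ p ^ 1 = 1 := by rw [pow_one, ← map_pow, hφ, map_one]
  have hcard : ¬ p ∣ Fintype.card (Sylow r ↥N) := by
    intro h
    apply hpN
    obtain ⟨P⟩ : Nonempty (Sylow r ↥N) := inferInstance
    rw [← Nat.card_eq_fintype_card] at h
    exact (h.trans (Sylow.card_dvd_index P)).trans (Subgroup.index_dvd_card _)
  obtain ⟨P, hP⟩ := Equiv.Perm.exists_fixed_point_of_prime hcard hσ
  have hP' : φ • P = P := hP
  refine ⟨(P : Subgroup ↥N).map N.subtype, Subgroup.map_subtype_le _, ?_, ?_, ?_⟩
  · rintro _ ⟨x, hx, rfl⟩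
    refine ⟨φ x, ?_, ?_⟩
    · have h1 := Subgroup.smul_mem_pointwise_smul x φ (P : Subgroup ↥N) hx
      rw [← Sylow.pointwise_smul_def, hP'] at h1
      exact h1
    · exact MulAut.conjNormal_apply a x
  · exact P.isPGroup'.map _
  · rw [Subgroup.card_subtype]
    exact P.card_eq_multiplicity

theorem sylow_modEq_one (N : Subgroup G) [N.Normal] (hpN : ¬ p ∣ Nat.card N) (r : ℕ)
    [Fact r.Prime] (hfix : ∀ x ∈ N, x * a = a * x → orderOf x = r → False) :
    ∃ k, r ^ k ∣ Nat.card N ∧ (k = 0 → ¬ r ∣ Nat.card N) ∧ r ^ k ≡ 1 [MOD p] := by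
  obtain ⟨R, hRN, hRa, hRp, hRc⟩ := exists_invariant_sylow a p hap N hpN r
  refine ⟨(Nat.card N).factorization r, Nat.ordProj_dvd _ _, ?_, ?_⟩
  · intro h0 hdvd
    rcases (Nat.factorization_eq_zero_iff _ _).mp h0 with h | h | h
    · exact h Fact.out
    · exact h hdvd
    · exact Nat.card_pos.ne' h
  · rw [← hRc]
    have h := card_modEq_fix a p hap R hRa
    have hbot : R ⊓ Subgroup.centralizer {a} = ⊥ := by
      rw [eq_bot_iff]
      rintro x ⟨hxR, hxC⟩
      rw [Subgroup.mem_bot]
      by_contra hx1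
      have hxa : Commute x a := Subgroup.mem_centralizer_singleton_iff.mp hxC
      have hdvd : r ∣ orderOf x := by
        have h2 := hRp.dvd_orderOf (g := (⟨x, hxR⟩ : ↥R))
          (fun h => hx1 (congrArg Subtype.val h))
        rwa [Subgroup.orderOf_mk] at h2
      exact hfix (x ^ (orderOf x / r)) (pow_mem (hRN hxR) _) (hxa.pow_left _)
        (orderOf_pow_orderOf_div (orderOf_pos x).ne' hdvd)
    rw [hbot, Subgroup.card_bot] at h
    exact h

end coprime

section quot

variable (a : G) (hG : Nat.card G = 150698880) (ha : a ^ 19 = 1)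

include hG ha

theorem mem_of_dvd (N : Subgroup G) [N.Normal] (h19 : 19 ∣ Nat.card N) : a ∈ N := by
  have hcard := Subgroup.card_eq_card_quotient_mul_card_subgroup N
  rw [hG] at hcard
  have hq : ¬ 19 ∣ Nat.card (G ⧸ N) := by
    intro h
    have : 19 * 19 ∣ 150698880 := by rw [hcard]; exact Nat.mul_dvd_mul h h19
    norm_num at this
  have h1 : orderOf (QuotientGroup.mk' N a) ∣ 19 :=
    orderOf_dvd_of_pow_eq_one (by rw [← map_pow, ha, map_one])
  have h2 : orderOf (QuotientGroup.mk' N a) ∣ Nat.card (G ⧸ N) := orderOf_dvd_natCard _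
  have hcop : Nat.Coprime 19 (Nat.card (G ⧸ N)) :=
    (Nat.Prime.coprime_iff_not_dvd (by norm_num)).mpr hq
  have h3 : orderOf (QuotientGroup.mk' N a) = 1 :=
    (Nat.Coprime.coprime_dvd_left h1 hcop).eq_one_of_dvd h2
  have h4 := orderOf_eq_one_iff.mp h3
  exact (QuotientGroup.eq_one_iff a).mp h4

end quot

section main

variable (a : G) (Z0 : Subgroup G) (hG : Nat.card G = 150698880) (ha : a ^ 19 = 1)
  (hgen : Subgroup.normalClosure {a} = ⊤) (hZc : Z0 ≤ Subgroup.center G) (hZ : Nat.card Z0 = 3)
  (hC : ∀ x : G, x * a = a * x → ¬ 19 ∣ orderOf x → x ∈ Z0)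

include hG ha hgen hZc hZ hC

theorem normal_cases (N : Subgroup G) [hN : N.Normal] : N = ⊤ ∨ N ≤ Z0 := by
  by_cases h19 : 19 ∣ Nat.card N
  · left
    have haN := mem_of_dvd a hG ha N h19
    rw [eq_top_iff, ← hgen]
    exact Subgroup.normalClosure_le_normal (Set.singleton_subset_iff.mpr haN)
  · right
    haveI : Fact (Nat.Prime 19) := ⟨by norm_num⟩
    have hNG : Nat.card N ∣ 150698880 := by rw [← hG]; exact Subgroup.card_subgroup_dvd_card N
    have hx : ∀ x ∈ N, x * a = a * x → x ∈ Z0 := fun x hxN hxa =>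
      hC x hxa (fun h => h19 (h.trans (Subgroup.orderOf_dvd_natCard N hxN)))
    have hZ3 : ∀ x ∈ Z0, x ^ 3 = 1 := by
      intro x hxZ
      have h1 : (⟨x, hxZ⟩ : ↥Z0) ^ Nat.card ↥Z0 = 1 := pow_card_eq_one'
      rw [hZ] at h1
      exact congrArg Subtype.val h1
    have hno : ∀ r : ℕ, r ≠ 1 → r ≠ 3 → ∀ x ∈ N, x * a = a * x → orderOf x = r → False := by
      intro r hr1 hr3 x hxN hxa ho
      have h1 : orderOf x ∣ 3 := orderOf_dvd_of_pow_eq_one (hZ3 x (hx x hxN hxa))
      rw [ho] at h1
      rcases (Nat.dvd_prime Nat.prime_three).mp h1 with h | h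
      · exact hr1 h
      · exact hr3 h
    have h2 : ¬ 2 ∣ Nat.card N := by
      haveI : Fact (Nat.Prime 2) := ⟨Nat.prime_two⟩
      obtain ⟨k, hk1, hk2, hk3⟩ :=
        sylow_modEq_one a 19 ha N h19 2 (hno 2 (by norm_num) (by norm_num))
      have hk : k < 8 := by
        by_contra hk
        have : 2 ^ 8 ∣ 150698880 := (pow_dvd_pow 2 (not_lt.mp hk)).trans (hk1.trans hNG)
        norm_num at this
      have : k = 0 := by
        interval_cases k <;> first | rfl | (exfalso; revert hk3; decide)
      exact hk2 this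
    have h5 : ¬ 5 ∣ Nat.card N := by
      haveI : Fact (Nat.Prime 5) := ⟨by norm_num⟩
      obtain ⟨k, hk1, hk2, hk3⟩ :=
        sylow_modEq_one a 19 ha N h19 5 (hno 5 (by norm_num) (by norm_num))
      have hk : k < 2 := by
        by_contra hk
        have : 5 ^ 2 ∣ 150698880 := (pow_dvd_pow 5 (not_lt.mp hk)).trans (hk1.trans hNG)
        norm_num at this
      have : k = 0 := by
        interval_cases k <;> first | rfl | (exfalso; revert hk3; decide)
      exact hk2 this
    have h17 : ¬ 17 ∣ Nat.card N := by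
      haveI : Fact (Nat.Prime 17) := ⟨by norm_num⟩
      obtain ⟨k, hk1, hk2, hk3⟩ :=
        sylow_modEq_one a 19 ha N h19 17 (hno 17 (by norm_num) (by norm_num))
      have hk : k < 2 := by
        by_contra hk
        have : 17 ^ 2 ∣ 150698880 := (pow_dvd_pow 17 (not_lt.mp hk)).trans (hk1.trans hNG)
        norm_num at this
      have : k = 0 := by
        interval_cases k <;> first | rfl | (exfalso; revert hk3; decide)
      exact hk2 this
    have hN3 : Nat.card N ∣ 3 ^ 6 := by
      have c2 : Nat.Coprime (Nat.card N) 2 :=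
        ((Nat.Prime.coprime_iff_not_dvd Nat.prime_two).mpr h2).symm
      have c5 : Nat.Coprime (Nat.card N) 5 :=
        ((Nat.Prime.coprime_iff_not_dvd (by norm_num)).mpr h5).symm
      have c17 : Nat.Coprime (Nat.card N) 17 :=
        ((Nat.Prime.coprime_iff_not_dvd (by norm_num)).mpr h17).symm
      have c19 : Nat.Coprime (Nat.card N) 19 :=
        ((Nat.Prime.coprime_iff_not_dvd (by norm_num)).mpr h19).symm
      have hcop : Nat.Coprime (Nat.card N) (2 ^ 7 * 5 * 17 * 19) :=
        (((c2.pow_right 7).mul_right c5).mul_right c17).mul_right c19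
      have e : (150698880 : ℕ) = 3 ^ 6 * (2 ^ 7 * 5 * 17 * 19) := by norm_num
      rw [e] at hNG
      exact hcop.dvd_of_dvd_mul_right hNG
    obtain ⟨j, hj, hj2⟩ := (Nat.dvd_prime_pow Nat.prime_three).mp hN3
    have hmod := card_modEq_fix a 19 ha N (fun x hxN => hN.conj_mem x hxN a)
    have hle : N ⊓ Subgroup.centralizer {a} ≤ Z0 := by
      rintro x ⟨hxN, hxC⟩
      exact hx x hxN (Subgroup.mem_centralizer_singleton_iff.mp hxC)
    have hc : Nat.card ↥(N ⊓ Subgroup.centralizer {a}) ∣ 3 := by
      rw [← hZ]; exact Subgroup.card_dvd_of_le hle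
    have hcard : Nat.card N = Nat.card ↥(N ⊓ Subgroup.centralizer {a}) := by
      rcases (Nat.dvd_prime Nat.prime_three).mp hc with h | h
      · rw [h, hj2] at hmod ⊢
        interval_cases j <;> first | rfl | (exfalso; revert hmod; decide)
      · rw [h, hj2] at hmod ⊢
        interval_cases j <;> first | rfl | (exfalso; revert hmod; decide)
    have h3 : N ⊓ Subgroup.centralizer {a} = N :=
      Subgroup.eq_of_le_of_card_ge inf_le_left hcard.le
    rw [← h3]
    exact hle

theorem center_eq : Subgroup.center G = Z0 := by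
  apply le_antisymm _ hZc
  rcases normal_cases a Z0 hG ha hgen hZc hZ hC (Subgroup.center G) with h | h
  · exfalso
    have hcomm : ∀ g n : G, g * n * g⁻¹ = n := by
      intro g n
      have h1 : g ∈ Subgroup.center G := by rw [h]; exact Subgroup.mem_top g
      rw [Subgroup.mem_center_iff] at h1
      rw [← h1 n]
      group
    haveI : (Subgroup.zpowers a).Normal := ⟨fun n hn g => by rw [hcomm g n]; exact hn⟩
    have hle : (⊤ : Subgroup G) ≤ Subgroup.zpowers a := by
      rw [← hgen]
      exact Subgroup.normalClosure_le_normal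
        (Set.singleton_subset_iff.mpr (Subgroup.mem_zpowers a))
    have h1 : Nat.card (⊤ : Subgroup G) ≤ Nat.card (Subgroup.zpowers a) :=
      Subgroup.card_le_of_le hle
    rw [Subgroup.card_top, Nat.card_zpowers, hG] at h1
    have h2 : orderOf a ≤ 19 := Nat.le_of_dvd (by norm_num) (orderOf_dvd_of_pow_eq_one ha)
    omega
  · exact h

theorem simple_quot : IsSimpleGroup (G ⧸ Subgroup.center G) := by
  have hcen := center_eq a Z0 hG ha hgen hZc hZ hC
  have hcard := Subgroup.card_eq_card_quotient_mul_card_subgroup (Subgroup.center G)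
  have hc3 : Nat.card (Subgroup.center G) = 3 := by rw [hcen]; exact hZ
  rw [hG, hc3] at hcard
  haveI : Nontrivial (G ⧸ Subgroup.center G) := by
    rw [← Finite.one_lt_card_iff_nontrivial]
    omega
  refine { toNontrivial := inferInstance, eq_bot_or_eq_top_of_normal := fun H hH => ?_ }
  haveI := hH.comap (QuotientGroup.mk' (Subgroup.center G))
  rcases normal_cases a Z0 hG ha hgen hZc hZ hC
    (H.comap (QuotientGroup.mk' (Subgroup.center G))) with h | h
  · right
    rw [eq_top_iff]
    intro q _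
    obtain ⟨g, rfl⟩ := QuotientGroup.mk_surjective q
    have h1 : g ∈ H.comap (QuotientGroup.mk' (Subgroup.center G)) := by
      rw [h]; exact Subgroup.mem_top g
    exact h1
  · left
    rw [eq_bot_iff]
    intro q hq
    obtain ⟨g, rfl⟩ := QuotientGroup.mk_surjective q
    have hg : g ∈ H.comap (QuotientGroup.mk' (Subgroup.center G)) := hq
    have h1 := h hg
    rw [Subgroup.mem_bot, QuotientGroup.eq_one_iff, hcen]
    exact h1

end main

end Cfsg.Agent.Lib.Helper8.J3T
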