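import Cfsg.Agent.Lib.Helper8.J3g
import Cfsg.Agent.Lib.Helper8.J3i
import Cfsg.Agent.Lib.Helper8.J3k

set_option autoImplicit false
set_option maxRecDepth 100000
set_option linter.unusedVariables false
set_option linter.unusedSectionVars false
set_option linter.style.haveILetI false

/-! The triple cover of J3: the centre has order 3 and the central quotient is simple. -/

namespace Cfsg.Agent.Lib.Helper8.J3D

open Cfsg.Agent.Lib.Helper8.F4M Cfsg.Agent.Lib.Helper8.MatN Cfsg.Agent.Lib.Helper8.FastDec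
  Cfsg.Agent.Lib.Helper8 Cfsg.Spor

/-- powers of a coded matrix -/
noncomputable def powB (G k : ℕ) : ℕ :=
  Nat.rec (motive := fun _ => ℕ) ID (fun _ ih => withVal ih fun h => mulB G h) k

theorem powB_zero (G : ℕ) : powB G 0 = ID := rfl

theorem powB_succ (G k : ℕ) : powB G (k + 1) = mulB G (powB G k) := by
  show withVal _ _ = _
  rw [withVal_eq]
  rfl

/-- the code of a scalar matrix -/
def scal (c : ℕ) : ℕ :=
  match c with
  | 0 => 0
  | 1 => ID
  | 2 => smulW ID
  | _ => smulW (smulW ID)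

/-- a polynomial in the first generator of the chain, by Horner's rule -/
noncomputable def horner (cs : List ℕ) : ℕ :=
  List.rec (motive := fun _ => ℕ) 0
    (fun c _ ih => withVal ih fun h => Nat.xor (mulB (D0.getG 0) h) (scal c)) cs

theorem horner_nil : horner [] = 0 := rfl

theorem horner_cons (c : ℕ) (cs : List ℕ) :
    horner (c :: cs) = mulB (D0.getG 0) (horner cs) ^^^ scal c := by
  have h : horner (c :: cs) =
      withVal (horner cs) (fun h => Nat.xor (mulB (D0.getG 0) h) (scal c)) := rfl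
  rw [h, withVal_eq]
  rfl

/-- the inverse of `a - 1` -/
def W1 : ℕ := 5594447498985047814286413763883038704643688034543

/-- the conjugating word -/
def WC : List ℕ := [15, 24, 34, 6, 36, 15, 0, 13, 26, 17]

/-- the coefficients of a cube root of the scalar `ω` -/
def CS : List ℕ := [1, 1, 0, 1, 2, 2, 1, 0, 2]

/-- the inverse of the cube root -/
def XI' : ℕ := 1761411464756025014473487482768429444388813352525

theorem chkA19 : Nat.beq (powB (D0.getG 0) 19) ID = true := by decide +kernel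

theorem chkA1 : Nat.beq (mulB (Nat.xor (D0.getG 0) ID) W1) ID = true := by decide +kernel

theorem chkConj : Nat.beq (mulB (prodB WC) (D0.getG 0)) (mulB (D0.getG 1) (prodB WC)) = true := by
  decide +kernel

theorem WC_lt : ∀ i ∈ WC, i < 43 := by decide +kernel

theorem chkOMs : Nat.beq OM (smulW ID) = true := by decide +kernel

theorem chkXi3 : Nat.beq (withVal (horner CS) fun x => mulB x (mulB x x)) OM = true := by
  decide +kernel

theorem chkXiU : Nat.beq (mulB (horner CS) XI') ID = true := by decide +kernel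

theorem chkOut : (withVal (canon (mulB (horner CS) (D0.getP 4))) fun t =>
    Nat.blt t 262144 && (Nat.beq (canon t) t &&
      allLt D0.n (fun j => !(Nat.beq (D0.getP j) t)))) = true := by decide +kernel

variable {F : Type*} [Field F] [Fintype F] (ω : F)

theorem Q_powB (h2 : (2 : F) = 0) (hω : ω ^ 2 + ω + 1 = 0) (G : ℕ) (hG : IsUnit (decM ω G))
    (k : ℕ) : IsUnit (decM ω (powB G k)) ∧ Q ω (powB G k) = Q ω G ^ k := by
  induction k with
  | zero =>
    rw [powB_zero, Q_ID, pow_zero]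
    exact ⟨isUnit_ID ω, rfl⟩
  | succ k ih =>
    rw [powB_succ, Q_mulB ω h2 hω hG ih.1, ih.2, pow_succ']
    exact ⟨isUnit_mulB ω h2 hω hG ih.1, rfl⟩

theorem decM_zero : decM ω 0 = 0 := by
  ext w z
  show decF ω (dig 4 0 _) = 0
  unfold dig
  rw [Nat.zero_div, Nat.zero_mod, decF_zero]

theorem commute_scal (h2 : (2 : F) = 0) (hω : ω ^ 2 + ω + 1 = 0) (d : Matrix I9 I9 F) (c : ℕ) :
    Commute d (decM ω (scal c)) := by
  unfold scal
  split
  · rw [decM_zero]; exact Commute.zero_right d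
  · rw [decM_ID]; exact Commute.one_right d
  · rw [decM_smulW ω h2 hω, decM_ID]; exact (Commute.one_right d).smul_right ω
  · rw [decM_smulW ω h2 hω, decM_smulW ω h2 hω, decM_ID]
    exact ((Commute.one_right d).smul_right ω).smul_right ω

theorem horner_comm (h2 : (2 : F) = 0) (hω : ω ^ 2 + ω + 1 = 0) (d : Matrix I9 I9 F)
    (hd : Commute d (decM ω (D0.getG 0))) (cs : List ℕ) : Commute d (decM ω (horner cs)) := by
  induction cs with
  | nil => rw [horner_nil, decM_zero]; exact Commute.zero_right d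
  | cons c cs ih =>
    rw [horner_cons, decM_xor ω h2, decM_mulB ω h2 hω]
    exact (hd.mul_right ih).add_right (commute_scal ω h2 hω d c)

section main

variable (hF : Fintype.card F = 4) (hω : ω ^ 2 + ω + 1 = 0)

include hF hω

theorem unitA : IsUnit (decM ω (D0.getG 0)) := (lev0 ω hF hω).2.tabG 0 (by decide)

theorem unitB : IsUnit (decM ω (D0.getG 1)) := (lev0 ω hF hω).2.tabG 1 (by decide)

theorem a_mem : Q ω (D0.getG 0) ∈ D0.grp ω := Subgroup.subset_closure ⟨0, by decide, rfl⟩

theorem b_mem : Q ω (D0.getG 1) ∈ D0.grp ω := Subgroup.subset_closure ⟨1, by decide, rfl⟩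

theorem a_pow : Q ω (D0.getG 0) ^ 19 = 1 := by
  have h2 := two_eq_zero hF
  rw [← (Q_powB ω h2 hω _ (unitA ω hF hω) 19).2, (beq_iff _ _).mp chkA19, Q_ID]

theorem a_sub_one : IsUnit (((Q ω (D0.getG 0) : Matrix.GeneralLinearGroup I9 F) : Matrix I9 I9 F) - 1) := by
  have h2 := two_eq_zero hF
  have hneg : ∀ y : F, -y = y := fun y => by
    rw [neg_eq_iff_add_eq_zero, ← two_mul, h2, zero_mul]
  have e : decM ω (D0.getG 0) - 1 = decM ω (D0.getG 0 ^^^ ID) := by
    rw [decM_xor ω h2, decM_ID]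
    ext i j
    rw [Matrix.sub_apply, Matrix.add_apply, sub_eq_add_neg, hneg]
  rw [Q_val ω (unitA ω hF hω), e]
  exact isUnit_of_mulB ω h2 hω ((beq_iff _ _).mp chkA1)

theorem Om_val : IsUnit (decM ω OM) ∧
    ((Q ω OM : Matrix.GeneralLinearGroup I9 F) : Matrix I9 I9 F) = ω • (1 : Matrix I9 I9 F) := by
  have h2 := two_eq_zero hF
  have hu := (OM_mem ω hF hω).1
  refine ⟨hu, ?_⟩
  rw [Q_val ω hu, (beq_iff _ _).mp chkOMs, decM_smulW ω h2 hω, decM_ID]

theorem unitXi : IsUnit (decM ω (horner CS)) :=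
  isUnit_of_mulB ω (two_eq_zero hF) hω ((beq_iff _ _).mp chkXiU)

theorem xi_cube : Q ω (horner CS) ^ 3 = Q ω OM := by
  have h2 := two_eq_zero hF
  have hu := unitXi ω hF hω
  have h := chkXi3
  rw [withVal_eq, beq_iff] at h
  rw [← h, Q_mulB ω h2 hω hu (isUnit_mulB ω h2 hω hu hu), Q_mulB ω h2 hω hu hu, pow_succ', pow_two]

theorem xi_comm (c : Matrix.GeneralLinearGroup I9 F)
    (hc : c * Q ω (D0.getG 0) = Q ω (D0.getG 0) * c) :
    c * Q ω (horner CS) = Q ω (horner CS) * c := by
  have h2 := two_eq_zero hF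
  apply Units.ext
  rw [Units.val_mul, Units.val_mul, Q_val ω (unitXi ω hF hω)]
  have hd : Commute (c : Matrix I9 I9 F) (decM ω (D0.getG 0)) := by
    have := congrArg Units.val hc
    rw [Units.val_mul, Units.val_mul, Q_val ω (unitA ω hF hω)] at this
    exact this
  exact horner_comm ω h2 hω _ hd CS

theorem xi_not_mem : Q ω (horner CS) ∉ D0.grp ω := by
  have h2 := two_eq_zero hF
  intro hmem
  have L := lev0 ω hF hω
  have hI : 4 < D0.n := by decide
  obtain ⟨uT, mT⟩ := L.2.tabT 4 hI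
  obtain ⟨j, hj, e⟩ := L.1.orbit (Q ω (horner CS) * Q ω (D0.getT 4)) (mul_mem hmem mT)
  rw [actL_mul, actL_Q ω h2 hω _ _ uT, (chkPts_spec D0 canon D0_pts 4 hI).1,
    actL_Q ω h2 hω _ _ (unitXi ω hF hω), actL_Q ω h2 hω _ _ (L.2.tabT j hj).1,
    (chkPts_spec D0 canon D0_pts j hj).1] at e
  have h := chkOut
  rw [withVal_eq, Bool.and_eq_true, Bool.and_eq_true, blt_iff, beq_iff, allLt_iff] at h
  obtain ⟨hlt, hcan, h⟩ := h
  have e' := ptL_inj ω hF hω _ _ hlt (getP_lt D0 j) hcan
    (chkPts_spec D0 canon D0_pts j hj).2.1 e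
  have h1 := h j hj
  rw [Bool.not_eq_true', ← Bool.not_eq_true, beq_iff] at h1
  exact h1 e'.symm

end main

end Cfsg.Agent.Lib.Helper8.J3D
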