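import Cfsg.Agent.Lib.Helper8.J3m
import Cfsg.Prelude.Def_Classical

set_option autoImplicit false
set_option maxRecDepth 100000
set_option linter.unusedVariables false
set_option linter.unusedSectionVars false
set_option linter.style.haveILetI false

/-! The triple cover of J3 preserves the hermitian form `Σ u_z v_z²` and has determinant 1. -/

namespace Cfsg.Agent.Lib.Helper8.J3D

open Cfsg.Agent.Lib.Helper8.F4M Cfsg.Agent.Lib.Helper8.MatN Cfsg.Agent.Lib.Helper8.FastDec
  Cfsg.Agent.Lib.Helper8 Cfsg.Spor Matrix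

/-- the product of two digits -/
def mul4 (d e : ℕ) : ℕ := (bt d 0 * e) ^^^ (bt d 1 * mw e)

/-- the square of a digit -/
def sq4 (d : ℕ) : ℕ := d ^^^ (d / 2)

/-- an entry of `Mᵀ * M^(2)` -/
noncomputable def uEntry (X j k : ℕ) : ℕ :=
  xorSum 9 fun i => mul4 (dig 4 X (i + 9 * j)) (sq4 (dig 4 X (i + 9 * k)))

/-- the matrix is unitary -/
noncomputable def chkU (X : ℕ) : Bool :=
  allLt 9 fun j => allLt 9 fun k => Nat.beq (uEntry X j k) (cond (Nat.beq j k) 1 0)

theorem chkUa : chkU (D0.getG 0) = true := by decide +kernel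

theorem chkUb : chkU (D0.getG 1) = true := by decide +kernel

variable {F : Type*} [Field F] (ω : F)

theorem decF_mul4 (h2 : (2 : F) = 0) (hω : ω ^ 2 + ω + 1 = 0) (d e : ℕ) (he : e < 4) :
    decF ω (mul4 d e) = decF ω d * decF ω e := by
  unfold mul4
  rw [decF_xor ω h2, decF_bit_mul ω _ _ (bt_lt _ _), decF_bit_mul ω _ _ (bt_lt _ _),
    decF_mw ω h2 hω e he, decF_bt ω d]
  ring

theorem sq4_lt (d : ℕ) (hd : d < 4) : sq4 d < 4 := by
  interval_cases d <;> decide

theorem decF_sq4 (h2 : (2 : F) = 0) (hω : ω ^ 2 + ω + 1 = 0) (d : ℕ) (hd : d < 4) :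
    decF ω (sq4 d) = decF ω d ^ 2 := by
  interval_cases d
  · show decF ω 0 = decF ω 0 ^ 2
    rw [decF_zero]; ring
  · show decF ω 1 = decF ω 1 ^ 2
    rw [decF_one]; ring
  · show decF ω 3 = decF ω 2 ^ 2
    rw [decF_three, decF_two]
    linear_combination hω - ω ^ 2 * h2
  · show decF ω 2 = decF ω 3 ^ 2
    rw [decF_three, decF_two]
    linear_combination (-1 : F) * hω

theorem chkU_spec (h2 : (2 : F) = 0) (hω : ω ^ 2 + ω + 1 = 0) (X : ℕ) (h : chkU X = true)
    (z z' : I9) :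
    ∑ w : I9, decM ω X w z * decM ω X w z' ^ 2 = if z = z' then 1 else 0 := by
  unfold chkU at h
  rw [allLt_iff] at h
  have h1 := h (idx z) (idx_lt z)
  rw [allLt_iff] at h1
  have h3 := (beq_iff _ _).mp (h1 (idx z') (idx_lt z'))
  have h4 := congrArg (decF ω) h3
  unfold uEntry at h4
  rw [decF_xorSum ω h2] at h4
  have e1 : ∑ w : I9, decM ω X w z * decM ω X w z' ^ 2 =
      ∑ k ∈ Finset.range 9, decF ω (mul4 (dig 4 X (k + 9 * idx z))
        (sq4 (dig 4 X (k + 9 * idx z')))) := by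
    rw [← sum_idx (fun k => decF ω (mul4 (dig 4 X (k + 9 * idx z))
        (sq4 (dig 4 X (k + 9 * idx z')))))]
    apply Finset.sum_congr rfl
    intro w _
    rw [decF_mul4 ω h2 hω _ _ (sq4_lt _ (dig4_lt _ _)), decF_sq4 ω h2 hω _ (dig4_lt _ _)]
    rfl
  rw [e1, h4]
  by_cases hz : z = z'
  · subst hz
    rw [if_pos rfl, Nat.beq_refl]
    exact decF_one ω
  · rw [if_neg hz]
    have hne : idx z ≠ idx z' := by
      intro e
      apply hz
      apply idxE.injective
      exact Fin.ext e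
    have hb : Nat.beq (idx z) (idx z') = false := by
      rw [← Bool.not_eq_true, beq_iff]
      exact hne
    rw [hb]
    exact decF_zero ω

/-- a matrix with `Mᵀ * M^(2) = 1` preserves the hermitian form -/
theorem form_of_entries {ι : Type*} [Fintype ι] [DecidableEq ι] (h2 : (2 : F) = 0)
    (M : Matrix ι ι F)
    (hM : ∀ z z', ∑ w, M w z * M w z' ^ 2 = if z = z' then 1 else 0) (u v : ι → F) :
    ∑ w, (M *ᵥ u) w * (M *ᵥ v) w ^ 2 = ∑ w, u w * v w ^ 2 := by
  haveI : CharP F 2 := CharTwo.of_one_ne_zero_of_two_eq_zero one_ne_zero h2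
  have hmat : Mᵀ * M.map (frobenius F 2) = 1 := by
    ext z z'
    rw [Matrix.mul_apply, Matrix.one_apply]
    simp only [Matrix.transpose_apply, Matrix.map_apply, frobenius_def]
    exact hM z z'
  have e1 : ∀ x : ι → F, (fun w => x w ^ 2) = (frobenius F 2) ∘ x := fun x => by
    ext w
    simp [frobenius_def]
  show (M *ᵥ u) ⬝ᵥ (fun w => (M *ᵥ v) w ^ 2) = u ⬝ᵥ (fun w => v w ^ 2)
  rw [e1, e1]
  have e2 : (frobenius F 2) ∘ (M *ᵥ v) = M.map (frobenius F 2) *ᵥ ((frobenius F 2) ∘ v) := by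
    ext i
    exact RingHom.map_mulVec _ M v i
  rw [e2, ← Matrix.vecMul_transpose, ← Matrix.dotProduct_mulVec, Matrix.mulVec_mulVec, hmat,
    Matrix.one_mulVec]

/-- the hermitian form on vectors indexed by `I9` -/
def herm9 (u v : I9 → F) : F := ∑ w, u w * v w ^ 2

variable [Fintype F]

section main

variable (hF : Fintype.card F = 4) (hω : ω ^ 2 + ω + 1 = 0)

include hF hω

theorem mem_preserving (X : ℕ) (hu : IsUnit (decM ω X)) (h : chkU X = true) :
    Q ω X ∈ Cfsg.preserving (Units.coeHom (Matrix I9 I9 F)) herm9 := by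
  intro u v
  show herm9 (((Q ω X : Matrix.GeneralLinearGroup I9 F) : Matrix I9 I9 F) *ᵥ u)
    (((Q ω X : Matrix.GeneralLinearGroup I9 F) : Matrix I9 I9 F) *ᵥ v) = herm9 u v
  rw [Q_val ω hu]
  exact form_of_entries (two_eq_zero hF) _ (chkU_spec ω (two_eq_zero hF) hω X h) u v

theorem threeJ3_unitary : threeJ3 F ω ≤ Cfsg.preserving (Units.coeHom (Matrix I9 I9 F)) herm9 :=
  gen2 ω hF hω _ (mem_preserving ω hF hω _ (unitA ω hF hω) chkUa)
    (mem_preserving ω hF hω _ (unitB ω hF hω) chkUb)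

theorem det_pow_three (x : Fˣ) : x ^ 3 = 1 := by
  classical
  have h := pow_card_eq_one (x := x)
  rw [Fintype.card_units, hF] at h
  exact h

theorem threeJ3_det : threeJ3 F ω ≤ (Matrix.GeneralLinearGroup.det (n := I9) (R := F)).ker := by
  have ha : Q ω (D0.getG 0) ∈ (Matrix.GeneralLinearGroup.det (n := I9) (R := F)).ker := by
    rw [MonoidHom.mem_ker]
    have h1 : Matrix.GeneralLinearGroup.det (Q ω (D0.getG 0)) ^ 19 = 1 := by
      rw [← map_pow, a_pow ω hF hω, map_one]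
    have h3 := det_pow_three ω hF hω (Matrix.GeneralLinearGroup.det (Q ω (D0.getG 0)))
    have h18 : Matrix.GeneralLinearGroup.det (Q ω (D0.getG 0)) ^ 18 = 1 := by
      rw [show 18 = 3 * 6 by norm_num, pow_mul, h3, one_pow]
    rw [pow_succ, h18, one_mul] at h1
    exact h1
  apply gen2 ω hF hω _ ha
  obtain ⟨c, hc, e⟩ := b_conj ω hF hω
  rw [e]
  exact (MonoidHom.normal_ker _).conj_mem _ ha c

end main

end Cfsg.Agent.Lib.Helper8.J3D
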