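import Cfsg.Agent.Lib.Helper8.J3n
import Cfsg.Prelude.Def_Sporadic

set_option autoImplicit false
set_option linter.unusedVariables false
set_option linter.unusedSectionVars false
set_option linter.style.haveILetI false

/-! The triple cover of J3 as a subgroup of the special unitary group of dimension 9. -/

namespace Cfsg.Agent.Lib.Helper8.J3D

open Cfsg.Agent.Lib.Helper8.F4M Cfsg.Agent.Lib.Helper8 Cfsg.Spor Matrix

/-- centres and central quotients of isomorphic groups -/
theorem transport_center {G H : Type*} [Group G] [Group H] (e : G ≃* H) :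
    Nat.card (Subgroup.center H) = Nat.card (Subgroup.center G) ∧
    (IsSimpleGroup (G ⧸ Subgroup.center G) → IsSimpleGroup (H ⧸ Subgroup.center H)) ∧
    Nat.card (H ⧸ Subgroup.center H) = Nat.card (G ⧸ Subgroup.center G) := by
  have he : (Subgroup.center G).map (e : G →* H) = Subgroup.center H := by
    ext y
    rw [Subgroup.mem_map]
    constructor
    · rintro ⟨x, hx, rfl⟩
      rw [Subgroup.mem_center_iff] at hx ⊢
      intro h
      obtain ⟨g, rfl⟩ := e.surjective h
      show e g * e x = e x * e g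
      rw [← map_mul, ← map_mul, hx g]
    · intro hy
      refine ⟨e.symm y, ?_, e.apply_symm_apply y⟩
      rw [Subgroup.mem_center_iff] at hy ⊢
      intro g
      apply e.injective
      rw [map_mul, map_mul, e.apply_symm_apply]
      exact hy (e g)
  have qe := QuotientGroup.congr (Subgroup.center G) (Subgroup.center H) e he
  exact ⟨(Nat.card_congr (Subgroup.centerCongr e).toEquiv).symm,
    fun h => (MulEquiv.isSimpleGroup_congr qe).mp h, (Nat.card_congr qe.toEquiv).symm⟩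

variable {F : Type*} [Field F] [Fintype F] (ω : F)

section main

variable (hF : Fintype.card F = 4) (hω : ω ^ 2 + ω + 1 = 0)

include hF hω

/-- the triple cover, with the indices renamed, in the special linear group -/
noncomputable def toSL : threeJ3 F ω →* Matrix.SpecialLinearGroup (Fin 9) F :=
  MonoidHom.mk' (fun g => ⟨Matrix.reindexAlgEquiv F F idxE (g.1 : Matrix I9 I9 F), by
    rw [Matrix.det_reindexAlgEquiv]
    have h := threeJ3_det ω hF hω g.2
    rw [MonoidHom.mem_ker] at h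
    have h' := congrArg Units.val h
    rw [Matrix.GeneralLinearGroup.val_det_apply, Units.val_one] at h'
    exact h'⟩) (by
    intro x y
    apply Subtype.ext
    show Matrix.reindexAlgEquiv F F idxE ((x * y).1 : Matrix I9 I9 F) =
      Matrix.reindexAlgEquiv F F idxE (x.1 : Matrix I9 I9 F) *
        Matrix.reindexAlgEquiv F F idxE (y.1 : Matrix I9 I9 F)
    rw [Subgroup.coe_mul, Units.val_mul, map_mul])

theorem toSL_val (g : threeJ3 F ω) :
    ((toSL ω hF hω g : Matrix.SpecialLinearGroup (Fin 9) F) : Matrix (Fin 9) (Fin 9) F) =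
      (g.1 : Matrix I9 I9 F).submatrix idxE.symm idxE.symm := rfl

theorem toSL_mem (g : threeJ3 F ω) : toSL ω hF hω g ∈ Cfsg.SU 9 F 2 := by
  intro u v
  show Cfsg.hermForm 9 F 2
    (((toSL ω hF hω g : Matrix.SpecialLinearGroup (Fin 9) F) : Matrix (Fin 9) (Fin 9) F) *ᵥ u)
    (((toSL ω hF hω g : Matrix.SpecialLinearGroup (Fin 9) F) : Matrix (Fin 9) (Fin 9) F) *ᵥ v) =
    Cfsg.hermForm 9 F 2 u v
  rw [toSL_val, Matrix.submatrix_mulVec_equiv, Matrix.submatrix_mulVec_equiv, Equiv.symm_symm]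
  unfold Cfsg.hermForm
  have h := threeJ3_unitary ω hF hω g.2 (u ∘ idxE) (v ∘ idxE)
  have h1 : herm9 ((g.1 : Matrix I9 I9 F) *ᵥ (u ∘ idxE)) ((g.1 : Matrix I9 I9 F) *ᵥ (v ∘ idxE)) =
      herm9 (u ∘ idxE) (v ∘ idxE) := h
  unfold herm9 at h1
  calc ∑ i, (((g.1 : Matrix I9 I9 F) *ᵥ (u ∘ idxE)) ∘ idxE.symm) i *
        (((g.1 : Matrix I9 I9 F) *ᵥ (v ∘ idxE)) ∘ idxE.symm) i ^ 2
      = ∑ i, (fun w => ((g.1 : Matrix I9 I9 F) *ᵥ (u ∘ idxE)) w *
          ((g.1 : Matrix I9 I9 F) *ᵥ (v ∘ idxE)) w ^ 2) (idxE.symm i) := rfl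
    _ = ∑ w, ((g.1 : Matrix I9 I9 F) *ᵥ (u ∘ idxE)) w *
          ((g.1 : Matrix I9 I9 F) *ᵥ (v ∘ idxE)) w ^ 2 :=
        Equiv.sum_comp idxE.symm (fun w => ((g.1 : Matrix I9 I9 F) *ᵥ (u ∘ idxE)) w *
          ((g.1 : Matrix I9 I9 F) *ᵥ (v ∘ idxE)) w ^ 2)
    _ = ∑ w, (u ∘ idxE) w * (v ∘ idxE) w ^ 2 := h1
    _ = ∑ w, (fun i => u i * v i ^ 2) (idxE w) := rfl
    _ = ∑ i, u i * v i ^ 2 := Equiv.sum_comp idxE (fun i => u i * v i ^ 2)

/-- the triple cover in the special unitary group -/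
noncomputable def toSU : threeJ3 F ω →* Cfsg.SU 9 F 2 :=
  (toSL ω hF hω).codRestrict (Cfsg.SU 9 F 2) (toSL_mem ω hF hω)

theorem toSU_injective : Function.Injective (toSU ω hF hω) := by
  intro x y h
  have h1 : toSL ω hF hω x = toSL ω hF hω y := congrArg Subtype.val h
  have h2 : Matrix.reindexAlgEquiv F F idxE (x.1 : Matrix I9 I9 F) =
      Matrix.reindexAlgEquiv F F idxE (y.1 : Matrix I9 I9 F) := congrArg Subtype.val h1
  exact Subtype.ext (Units.ext ((Matrix.reindexAlgEquiv F F idxE).injective h2))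

theorem su_main : ∃ H : Subgroup (Cfsg.SU 9 F 2), Nat.card (Subgroup.center H) = 3 ∧
    Cfsg.IsJ3 (H ⧸ Subgroup.center H) := by
  refine ⟨(toSU ω hF hω).range, ?_⟩
  have e := MonoidHom.ofInjective (toSU_injective ω hF hω)
  obtain ⟨t1, t2, t3⟩ := transport_center e
  obtain ⟨m1, m2⟩ := j3_main ω hF hω
  have hc := card_threeJ3 ω hF hω
  have h1 := Subgroup.card_eq_card_quotient_mul_card_subgroup (Subgroup.center (threeJ3 F ω))
  rw [hc, m1] at h1
  refine ⟨t1.trans m1, t2 m2, ?_⟩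
  rw [t3]
  omega

end main

end Cfsg.Agent.Lib.Helper8.J3D
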