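import Cfsg.Agent.Lib.Helper8.J3m
import Cfsg.Agent.Lib.Helper8.J3q

set_option autoImplicit false
set_option maxRecDepth 100000
set_option linter.unusedVariables false
set_option linter.unusedSectionVars false
set_option linter.style.haveILetI false

/-! A subgroup of order 24480 of the triple cover of J3, containing the scalars. -/

namespace Cfsg.Agent.Lib.Helper8.J3D

open Cfsg.Agent.Lib.Helper8.F4M Cfsg.Agent.Lib.Helper8.MatN Cfsg.Agent.Lib.Helper8.FastDec
  Cfsg.Agent.Lib.Helper8 Cfsg.Spor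

theorem chkDECK : allLt 2 (fun i => withVal (nthR DECK i 0) fun r =>
    Nat.blt (Nat.land r 32767) D0.n && (Nat.blt (Nat.shiftRight r 15) D0.mH &&
      Nat.beq (KA.getG i)
        (mulB (D0.getT (Nat.land r 32767)) (D0.getH (Nat.shiftRight r 15))))) = true := by
  decide +kernel

theorem chkKBg : Nat.beq (KB.getG 0) OM = true := by decide +kernel

variable {F : Type*} [Field F] [Fintype F] (ω : F)

section main

variable (hF : Fintype.card F = 4) (hω : ω ^ 2 + ω + 1 = 0)

include hF hω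

theorem levB :
    GCh.Level actV (KB.S ω) ⊥ (decV ω KB.b0) KB.n (fun i => Q ω (KB.getT i)) ∧ Tab ω KB :=
  level_bot ω (two_eq_zero hF) hω KB (fun v => v) actV (decV ω) actV_one actV_mul
    (fun g v hg => actV_Q ω (two_eq_zero hF) hω g v hg) (P2V ω (two_eq_zero hF) hω)
    KB_mH KB_H0 KB_inv KB_0 KB_tree KB_pts KB_sch

theorem levA :
    GCh.Level actL (KA.S ω) (KB.grp ω) (ptL ω KA.b0) KA.n (fun i => Q ω (KA.getT i)) ∧
      Tab ω KA :=
  level_step ω (two_eq_zero hF) hω KA KB canon actL (ptL ω) actL_one actL_mul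
    (fun g v hg => actL_Q ω (two_eq_zero hF) hω g v hg)
    (fun v v' hv hv' hc hc' h => ptL_inj ω hF hω v v' hv hv' hc hc' h)
    (levB ω hF hω).2 KA_inv KA_0 KA_tree KA_pts KA_sch KA_ht KA_low KA_fix

theorem cardKB : Nat.card (KB.grp ω) = 3 := by
  have h := (levB ω hF hω).1.card
  rw [Subgroup.card_bot] at h
  exact h

theorem cardKA : Nat.card (KA.grp ω) = 24480 := by
  have h := (levA ω hF hω).1.card
  rw [cardKB ω hF hω] at h
  exact h

theorem KA_le : KA.grp ω ≤ threeJ3 F ω := by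
  have h2 := two_eq_zero hF
  rw [threeJ3_eq ω hF hω]
  apply (Subgroup.closure_le _).mpr
  rintro s ⟨gi, hgi, rfl⟩
  have hng : KA.ng = 2 := rfl
  rw [hng] at hgi
  have h := chkDECK
  rw [allLt_iff] at h
  have h1 := h gi hgi
  simp only [withVal_eq, Bool.and_eq_true, blt_iff, beq_iff] at h1
  obtain ⟨hj, hm, e⟩ := h1
  obtain ⟨u1, m1⟩ := (lev0 ω hF hω).2.tabT _ hj
  obtain ⟨u2, m2⟩ := (lev0 ω hF hω).2.tabH _ hm
  show Q ω (KA.getG gi) ∈ D0.grp ω
  rw [e, Q_mulB ω h2 hω u1 u2]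
  exact mul_mem m1 m2

theorem OM_mem_KA : Q ω OM ∈ KA.grp ω := by
  apply (levA ω hF hω).1.hH
  apply Subgroup.subset_closure
  refine ⟨0, by decide, ?_⟩
  rw [(beq_iff _ _).mp chkKBg]

end main

end Cfsg.Agent.Lib.Helper8.J3D
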