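import Cfsg.Agent.Lib.Helper8.J3r
import Cfsg.Prelude.Def_Sporadic

set_option autoImplicit false
set_option linter.unusedVariables false
set_option linter.unusedSectionVars false
set_option linter.style.haveILetI false

/-! The permutation representation of J3 on the 6156 cosets of a subgroup of order 8160. -/

namespace Cfsg.Agent.Lib.Helper8.J3T

/-- the action on the cosets of a subgroup of index 6156 containing the centre -/
theorem perm_rep {G : Type*} [Group G] [Finite G] (K : Subgroup G) (hidx : K.index = 6156)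
    (hcen : Subgroup.center G ≤ K)
    (hnc : ∀ N : Subgroup G, N.Normal → N = ⊤ ∨ N ≤ Subgroup.center G)
    (hsimple : IsSimpleGroup (G ⧸ Subgroup.center G))
    (hcard : Nat.card (G ⧸ Subgroup.center G) = 50232960) :
    ∃ H : Subgroup (Equiv.Perm (Fin 6156)), Cfsg.IsJ3 H ∧
      MulAction.IsPretransitive H (Fin 6156) ∧
      Nat.card (MulAction.stabilizer H (0 : Fin 6156)) = 8160 := by
  classical
  have hcq : Nat.card (G ⧸ K) = 6156 := by rw [← Subgroup.index_eq_card]; exact hidx
  haveI : Finite (G ⧸ K) := Nat.finite_of_card_ne_zero (by rw [hcq]; norm_num)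
  let e : G ⧸ K ≃ Fin 6156 := Finite.equivFinOfCardEq hcq
  let φ : G →* Equiv.Perm (Fin 6156) :=
    (e.permCongrHom : Equiv.Perm (G ⧸ K) ≃* Equiv.Perm (Fin 6156)).toMonoidHom.comp
      (MulAction.toPermHom G (G ⧸ K))
  have hφ : ∀ (g : G) (i : Fin 6156), φ g i = e (g • e.symm i) := fun g i => rfl
  have hker : φ.ker = Subgroup.center G := by
    have h1 : φ.ker = K.normalCore := by
      rw [Subgroup.normalCore_eq_ker]
      ext g
      rw [MonoidHom.mem_ker, MonoidHom.mem_ker]
      show (e.permCongrHom : Equiv.Perm (G ⧸ K) ≃* Equiv.Perm (Fin 6156))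
        (MulAction.toPermHom G (G ⧸ K) g) = 1 ↔ _
      exact (MulEquiv.map_eq_one_iff _)
    rw [h1]
    apply le_antisymm
    · rcases hnc K.normalCore inferInstance with h | h
      · exfalso
        have h2 : K = ⊤ := top_le_iff.mp (h ▸ Subgroup.normalCore_le K)
        rw [h2, Subgroup.index_top] at hidx
        norm_num at hidx
      · exact h
    · exact (Subgroup.normal_le_normalCore).mpr hcen
  have hJ : Cfsg.IsJ3 φ.range := by
    have e1 : G ⧸ φ.ker ≃* φ.range := QuotientGroup.quotientKerEquivRange φ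
    have e2 : G ⧸ φ.ker ≃* G ⧸ Subgroup.center G := QuotientGroup.quotientMulEquivOfEq hker
    have e3 : G ⧸ Subgroup.center G ≃* φ.range := e2.symm.trans e1
    exact ⟨(MulEquiv.isSimpleGroup_congr e3).mp hsimple, by
      rw [← Nat.card_congr e3.toEquiv]; exact hcard⟩
  have hT : MulAction.IsPretransitive φ.range (Fin 6156) := by
    refine ⟨fun i j => ?_⟩
    obtain ⟨g, hg⟩ := MulAction.exists_smul_eq G (e.symm i) (e.symm j)
    refine ⟨⟨φ g, g, rfl⟩, ?_⟩
    show φ g i = j
    rw [hφ, hg, e.apply_symm_apply]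
  refine ⟨φ.range, hJ, hT, ?_⟩
  have hos : Nat.card (MulAction.orbit φ.range (0 : Fin 6156)) *
      Nat.card (MulAction.stabilizer φ.range (0 : Fin 6156)) = Nat.card φ.range := by
    rw [← Nat.card_prod]
    exact Nat.card_congr (MulAction.orbitProdStabilizerEquivGroup _ _)
  rw [MulAction.orbit_eq_univ, Nat.card_congr (Equiv.Set.univ _), Nat.card_fin, hJ.2] at hos
  omega

end Cfsg.Agent.Lib.Helper8.J3T

namespace Cfsg.Agent.Lib.Helper8.J3D

open Cfsg.Agent.Lib.Helper8.F4M Cfsg.Agent.Lib.Helper8 Cfsg.Spor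

theorem perm_main {F : Type*} [Field F] [Fintype F] (ω : F) (hF : Fintype.card F = 4)
    (hω : ω ^ 2 + ω + 1 = 0) :
    ∃ H : Subgroup (Equiv.Perm (Fin 6156)), Cfsg.IsJ3 H ∧
      MulAction.IsPretransitive H (Fin 6156) ∧
      Nat.card (MulAction.stabilizer H (0 : Fin 6156)) = 8160 := by
  obtain ⟨m1, m2, m3⟩ := j3_main' ω hF hω
  have hc := card_threeJ3 ω hF hω
  haveI : Finite (threeJ3 F ω) := Nat.finite_of_card_ne_zero (by rw [hc]; norm_num)
  have h1 := Subgroup.card_eq_card_quotient_mul_card_subgroup (Subgroup.center (threeJ3 F ω))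
  rw [hc, m1] at h1
  have hq : Nat.card (threeJ3 F ω ⧸ Subgroup.center (threeJ3 F ω)) = 50232960 := by omega
  -- the subgroup
  have hK : Nat.card ((KA.grp ω).subgroupOf (threeJ3 F ω)) = 24480 := by
    rw [Nat.card_congr (Subgroup.subgroupOfEquivOfLe (KA_le ω hF hω)).toEquiv]
    exact cardKA ω hF hω
  have hidx : ((KA.grp ω).subgroupOf (threeJ3 F ω)).index = 6156 := by
    have h2 := Subgroup.card_mul_index ((KA.grp ω).subgroupOf (threeJ3 F ω))
    rw [hK, hc] at h2
    omega
  have hcen : Subgroup.center (threeJ3 F ω) ≤ (KA.grp ω).subgroupOf (threeJ3 F ω) := by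
    have hOmG : Q ω OM ∈ threeJ3 F ω := by
      rw [threeJ3_eq ω hF hω]; exact (OM_mem ω hF hω).2
    have hOmC : (⟨Q ω OM, hOmG⟩ : threeJ3 F ω) ∈ Subgroup.center (threeJ3 F ω) := by
      rw [Subgroup.mem_center_iff]
      intro g
      apply Subtype.ext
      apply Units.ext
      show (g.1 * Q ω OM : Matrix.GeneralLinearGroup I9 F).val =
        (Q ω OM * g.1 : Matrix.GeneralLinearGroup I9 F).val
      rw [Units.val_mul, Units.val_mul, (Om_val ω hF hω).2, mul_smul_comm, smul_mul_assoc,
        mul_one, one_mul]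
    have hne : (⟨⟨Q ω OM, hOmG⟩, hOmC⟩ : Subgroup.center (threeJ3 F ω)) ≠ 1 := by
      intro h
      have h0 : Q ω OM = 1 :=
        congrArg (fun z : ↥(Subgroup.center (threeJ3 F ω)) => z.1.1) h
      have h1 := (Om_val ω hF hω).2
      rw [h0] at h1
      have h3 := congrFun (congrFun h1 0) 0
      rw [Units.val_one, Matrix.smul_apply, Matrix.one_apply_eq, smul_eq_mul, mul_one] at h3
      exact omega_ne_one ω (two_eq_zero hF) hω h3.symm
    haveI : Fact (Nat.Prime 3) := ⟨Nat.prime_three⟩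
    have htop := zpowers_eq_top_of_prime_card m1 hne
    intro z hz
    have hmem : (⟨z, hz⟩ : Subgroup.center (threeJ3 F ω)) ∈
        Subgroup.zpowers (⟨⟨Q ω OM, hOmG⟩, hOmC⟩ : Subgroup.center (threeJ3 F ω)) := by
      rw [htop]; exact Subgroup.mem_top _
    obtain ⟨k, hk⟩ := Subgroup.mem_zpowers_iff.mp hmem
    have hz' : (z : Matrix.GeneralLinearGroup I9 F) = Q ω OM ^ k := by
      have h4 := congrArg (fun z : ↥(Subgroup.center (threeJ3 F ω)) => z.1.1) hk
      simp only [Subgroup.coe_zpow] at h4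
      exact h4.symm
    rw [Subgroup.mem_subgroupOf, hz']
    exact zpow_mem (OM_mem_KA ω hF hω) k
  exact J3T.perm_rep _ hidx hcen m3 m2 hq

end Cfsg.Agent.Lib.Helper8.J3D
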