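import Cfsg.Agent.Lib.Helper8.J3m

set_option autoImplicit false
set_option maxRecDepth 100000
set_option linter.unusedVariables false
set_option linter.unusedSectionVars false
set_option linter.style.haveILetI false

/-! Orbits of the triple cover of J3 on lines: data, checks and what the checks say. -/

namespace Cfsg.Agent.Lib.Helper8.J3D

open Cfsg.Agent.Lib.Helper8.F4M Cfsg.Agent.Lib.Helper8.MatN Cfsg.Agent.Lib.Helper8.FastDec
  Cfsg.Agent.Lib.Helper8 Cfsg.Spor

/-- an orbit on lines: the points in increasing order, a spanning tree, the images under the two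
generators -/
structure OData where
  n : ℕ
  PT : List ℕ
  TR : List ℕ
  SR : List ℕ
  b0 : ℕ
  i0 : ℕ

namespace OData

noncomputable def getP (O : OData) (i : ℕ) : ℕ := fldC 18 262143 O.PT i
noncomputable def recT (O : OData) (j : ℕ) : ℕ := fldC 32 M32 O.TR j
noncomputable def recS (O : OData) (i gi : ℕ) : ℕ :=
  fldC 16 65535 O.SR (Nat.add (Nat.mul i 2) gi)

end OData

/-- the tree: every point other than the base point is the image of an earlier point -/
noncomputable def chkOT (O : OData) : Bool :=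
  Nat.blt O.i0 O.n && allLt O.n fun j => withVal (O.recT j) fun r => withVal (O.getP j) fun p =>
    cond (Nat.beq j O.i0)
      (Nat.beq p O.b0)
      (withVal (Nat.land r 65535) fun i => withVal (Nat.land (Nat.shiftRight r 16) 15) fun gi =>
        Nat.blt i O.n && (Nat.blt gi 2 &&
          (Nat.beq (Nat.succ (Nat.shiftRight (O.recT i) 20)) (Nat.shiftRight r 20) &&
            Nat.beq (canon (mulB (D0.getG gi) (O.getP i))) p)))

/-- the points are canonical and increasing -/
noncomputable def chkOS (O : OData) : Bool :=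
  allLt O.n fun i => withVal (O.getP i) fun p =>
    Nat.beq (canon p) p && (Nat.beq i 0 || Nat.blt (O.getP (Nat.pred i)) p)

/-- the set of points is closed under the generators -/
noncomputable def chkOC (O : OData) : Bool :=
  allLt O.n fun i => withVal (O.getP i) fun p => allLt 2 fun gi =>
    withVal (O.recS i gi) fun j =>
      Nat.blt j O.n && Nat.beq (canon (mulB (D0.getG gi) p)) (O.getP j)

/-- a large number -/
def BIG : ℕ := 1073741824

/-- `1` for a nonzero digit -/
def nzd (d : ℕ) : ℕ := cond (Nat.beq d 0) 0 1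

/-- the coded vector is isotropic -/
noncomputable def isoB (v : ℕ) : Bool :=
  Nat.beq (Nat.mod (sumLt 9 fun k => nzd (dig 4 v k)) 2) 0

/-- bit `i` is the parity of the number of nonzero digits of `i < 1024` in base 4 -/
def PAR : ℕ := 167749032236568005084583859378777958674178250188245188694228768267741063546177598712026118693007415827234064626125661155837408614935641798257575971997161656193814663834993683009286490373024435887723461854503707642196205461624139630021599111037692393429831773354614000564595844542386694648352658391808193138974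

/-- the coded vector is isotropic (fast form) -/
def isoF (v : ℕ) : Bool :=
  Nat.beq (Nat.land (Nat.xor (Nat.shiftRight PAR (Nat.land v 1023))
    (Nat.shiftRight PAR (Nat.shiftRight v 10))) 1) 0

/-- the sweep over the codes `base + r`, `r < m` -/
noncomputable def sweepR (O : OData) (base m k0 : ℕ) : ℕ :=
  Nat.rec (motive := fun _ => ℕ) k0 (fun r k => withVal k fun k =>
    withVal (Nat.add base r) fun v =>
      cond (Nat.beq k BIG) BIG
        (cond (isoF v) (cond (Nat.beq (O.getP k) v) (Nat.succ k) BIG) k)) m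

/-- the sweep over the codes with highest digit `1` in the places below `K` -/
noncomputable def sweepK (O : OData) (K : ℕ) : ℕ :=
  Nat.rec (motive := fun _ => ℕ) 0 (fun k acc => withVal acc fun acc =>
    withVal (Nat.pow 4 k) fun b => sweepR O b b acc) K

noncomputable def chkSweep (O : OData) : Bool := Nat.beq (sweepK O 9) O.n && Nat.blt O.n BIG

theorem chkPAR : allLt 1024 (fun i => Nat.beq (Nat.mod (Nat.shiftRight PAR i) 2)
    (Nat.mod (sumLt 5 fun k => nzd (dig 4 i k)) 2)) = true := by decide +kernel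

/-! ### what the checks say -/

theorem getPO_lt (O : OData) (i : ℕ) : O.getP i < 2 ^ 18 := by
  show (_ >>> _) &&& 262143 < 2 ^ 18
  exact lt_of_le_of_lt Nat.and_le_right (by norm_num)

theorem chkOT_base (O : OData) (h : chkOT O = true) : O.i0 < O.n ∧ O.getP O.i0 = O.b0 := by
  unfold chkOT at h
  rw [Bool.and_eq_true, blt_iff, allLt_iff] at h
  refine ⟨h.1, ?_⟩
  have h1 := h.2 O.i0 h.1
  simp only [withVal_eq] at h1
  rw [Nat.beq_refl, cond_true, beq_iff] at h1
  exact h1

theorem chkOT_step (O : OData) (h : chkOT O = true) (j : ℕ) (hj : j < O.n) (hne : j ≠ O.i0) :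
    ∃ i gi, i < O.n ∧ gi < 2 ∧ O.recT i >>> 20 + 1 = O.recT j >>> 20 ∧
      canon (mulB (D0.getG gi) (O.getP i)) = O.getP j := by
  unfold chkOT at h
  rw [Bool.and_eq_true, blt_iff, allLt_iff] at h
  have h1 := h.2 j hj
  simp only [withVal_eq] at h1
  have hb : Nat.beq j O.i0 = false := by
    rw [← Bool.not_eq_true, beq_iff]
    exact hne
  rw [hb, cond_false] at h1
  simp only [Bool.and_eq_true, blt_iff, beq_iff] at h1
  exact ⟨_, _, h1.1, h1.2.1, h1.2.2.1, h1.2.2.2⟩

theorem chkOS_spec (O : OData) (h : chkOS O = true) (i : ℕ) (hi : i < O.n) :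
    canon (O.getP i) = O.getP i ∧ (i ≠ 0 → O.getP (i - 1) < O.getP i) := by
  unfold chkOS at h
  rw [allLt_iff] at h
  have h1 := h i hi
  simp only [withVal_eq, Bool.and_eq_true, beq_iff] at h1
  refine ⟨h1.1, fun hne => ?_⟩
  have hb : Nat.beq i 0 = false := by
    rw [← Bool.not_eq_true, beq_iff]
    exact hne
  have h2 := h1.2
  rw [hb, Bool.false_or, blt_iff] at h2
  exact h2

theorem getPO_mono (O : OData) (h : chkOS O = true) :
    ∀ i', i' < O.n → ∀ i < i', O.getP i < O.getP i' := by
  intro i'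
  induction i' with
  | zero => intro _ i hi; exact absurd hi (Nat.not_lt_zero _)
  | succ k ih =>
    intro hk i hi
    have h1 := (chkOS_spec O h (k + 1) hk).2 (Nat.succ_ne_zero k)
    rw [Nat.add_sub_cancel] at h1
    rcases Nat.lt_succ_iff_lt_or_eq.mp hi with h2 | rfl
    · exact lt_trans (ih (Nat.lt_of_succ_lt hk) i h2) h1
    · exact h1

theorem getPO_inj (O : OData) (h : chkOS O = true) (i j : ℕ) (hi : i < O.n)
    (hj : j < O.n) (e : O.getP i = O.getP j) : i = j := by
  rcases Nat.lt_trichotomy i j with h1 | h1 | h1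
  · exact absurd e (ne_of_lt (getPO_mono O h j hj i h1))
  · exact h1
  · exact absurd e.symm (ne_of_lt (getPO_mono O h i hi j h1))

theorem chkOC_spec (O : OData) (h : chkOC O = true) (i : ℕ) (hi : i < O.n) (gi : ℕ)
    (hgi : gi < 2) : ∃ j < O.n, canon (mulB (D0.getG gi) (O.getP i)) = O.getP j := by
  unfold chkOC at h
  rw [allLt_iff] at h
  have h1 := h i hi
  simp only [withVal_eq] at h1
  rw [allLt_iff] at h1
  have h2 := h1 gi hgi
  simp only [Bool.and_eq_true, blt_iff, beq_iff] at h2
  exact ⟨_, h2.1, h2.2⟩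

/-! ### the sweep -/

theorem sweepR_zero (O : OData) (base k0 : ℕ) : sweepR O base 0 k0 = k0 := rfl

theorem sweepR_succ (O : OData) (base m k0 : ℕ) :
    sweepR O base (m + 1) k0 = cond (Nat.beq (sweepR O base m k0) BIG) BIG
      (cond (isoF (base + m))
        (cond (Nat.beq (O.getP (sweepR O base m k0)) (base + m)) (Nat.succ (sweepR O base m k0)) BIG)
        (sweepR O base m k0)) := by
  have h : sweepR O base (m + 1) k0 = withVal (sweepR O base m k0) fun k =>
    withVal (Nat.add base m) fun v =>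
      cond (Nat.beq k BIG) BIG
        (cond (isoF v) (cond (Nat.beq (O.getP k) v) (Nat.succ k) BIG) k) := rfl
  rw [h, withVal_eq, withVal_eq]
  rfl

theorem sweepR_spec (O : OData) (base k0 : ℕ) :
    ∀ m, sweepR O base m k0 ≠ BIG → k0 ≠ BIG ∧ k0 ≤ sweepR O base m k0 ∧
      ∀ r < m, isoF (base + r) = true → ∃ i < sweepR O base m k0, O.getP i = base + r := by
  intro m
  induction m with
  | zero =>
    intro h
    rw [sweepR_zero] at h ⊢
    exact ⟨h, le_refl _, fun r hr => absurd hr (Nat.not_lt_zero _)⟩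
  | succ m ih =>
    intro hne
    rw [sweepR_succ] at hne ⊢
    cases hb : Nat.beq (sweepR O base m k0) BIG with
    | true => simp only [hb, cond_true] at hne; exact absurd rfl hne
    | false =>
      simp only [hb, cond_false] at hne ⊢
      have hne' : sweepR O base m k0 ≠ BIG := by
        rw [← Bool.not_eq_true, beq_iff] at hb
        exact hb
      obtain ⟨i1, i2, i3⟩ := ih hne'
      cases hk : isoF (base + m) with
      | false =>
        simp only [hk, cond_false] at hne ⊢
        refine ⟨i1, i2, fun r hr hok => ?_⟩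
        rcases Nat.lt_succ_iff_lt_or_eq.mp hr with h1 | h1
        · exact i3 r h1 hok
        · rw [h1, hk] at hok; exact absurd hok (by decide)
      | true =>
        simp only [hk, cond_true] at hne ⊢
        cases hp : Nat.beq (O.getP (sweepR O base m k0)) (base + m) with
        | false => simp only [hp, cond_false] at hne; exact absurd rfl hne
        | true =>
          simp only [hp, cond_true] at hne ⊢
          refine ⟨i1, Nat.le_succ_of_le i2, fun r hr hok => ?_⟩
          rcases Nat.lt_succ_iff_lt_or_eq.mp hr with h1 | h1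
          · obtain ⟨i, hi, e⟩ := i3 r h1 hok
            exact ⟨i, Nat.lt_succ_of_lt hi, e⟩
          · exact ⟨sweepR O base m k0, Nat.lt_succ_self _, by
              rw [h1]; exact (beq_iff _ _).mp hp⟩

theorem sweepK_zero (O : OData) : sweepK O 0 = 0 := rfl

theorem sweepK_succ (O : OData) (K : ℕ) :
    sweepK O (K + 1) = sweepR O (4 ^ K) (4 ^ K) (sweepK O K) := by
  have h : sweepK O (K + 1) = withVal (sweepK O K) fun acc =>
    withVal (Nat.pow 4 K) fun b => sweepR O b b acc := rfl
  rw [h, withVal_eq, withVal_eq]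
  rfl

theorem sweepK_spec (O : OData) :
    ∀ K, sweepK O K ≠ BIG → ∀ k < K, ∀ r < 4 ^ k, isoF (4 ^ k + r) = true →
      ∃ i < sweepK O K, O.getP i = 4 ^ k + r := by
  intro K
  induction K with
  | zero => intro _ k hk; exact absurd hk (Nat.not_lt_zero _)
  | succ K ih =>
    intro hne k hk r hr hok
    rw [sweepK_succ] at hne ⊢
    obtain ⟨i1, i2, i3⟩ := sweepR_spec O (4 ^ K) (sweepK O K) (4 ^ K) hne
    rcases Nat.lt_succ_iff_lt_or_eq.mp hk with h1 | h1
    · obtain ⟨i, hi, e⟩ := ih i1 k h1 r hr hok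
      exact ⟨i, lt_of_lt_of_le hi i2, e⟩
    · subst h1
      exact i3 r hr hok

theorem chkSweep_spec (O : OData) (h : chkSweep O = true) (k : ℕ) (hk : k < 9) (r : ℕ)
    (hr : r < 4 ^ k) (hok : isoF (4 ^ k + r) = true) : ∃ i < O.n, O.getP i = 4 ^ k + r := by
  unfold chkSweep at h
  rw [Bool.and_eq_true, beq_iff, blt_iff] at h
  have hne : sweepK O 9 ≠ BIG := by rw [h.1]; exact ne_of_lt h.2
  obtain ⟨i, hi, e⟩ := sweepK_spec O 9 hne k hk r hr hok
  rw [h.1] at hi
  exact ⟨i, hi, e⟩

/-! ### codes with highest digit 1 -/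

theorem dig_zero_of_lt (a j : ℕ) (h : a < 4 ^ j) : dig 4 a j = 0 := by
  unfold dig
  rw [Nat.div_eq_of_lt h]

/-- numbers below `4^9` are compared by their highest differing digit -/
theorem lt_of_dig (a b k : ℕ) (ha : a < 4 ^ 9) (hb : b < 4 ^ 9) (hk : k < 9)
    (hhi : ∀ j, k < j → j < 9 → dig 4 a j = dig 4 b j) (hlt : dig 4 a k < dig 4 b k) :
    a < b := by
  have h18 : (4 : ℕ) ^ 9 = 2 ^ 18 := by norm_num
  have hq : a / 4 ^ (k + 1) = b / 4 ^ (k + 1) := by
    apply dig_eq_of_lt
    · rw [← h18]; exact lt_of_le_of_lt (Nat.div_le_self _ _) ha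
    · rw [← h18]; exact lt_of_le_of_lt (Nat.div_le_self _ _) hb
    · intro y hy
      rw [dig_div, dig_div]
      by_cases h9 : k + 1 + y < 9
      · exact hhi _ (by omega) h9
      · have h9' : 9 ≤ k + 1 + y := by omega
        rw [dig_zero_of_lt a _ (lt_of_lt_of_le ha (Nat.pow_le_pow_right (by norm_num) h9')),
          dig_zero_of_lt b _ (lt_of_lt_of_le hb (Nat.pow_le_pow_right (by norm_num) h9'))]
  have ea := Nat.div_add_mod a (4 ^ (k + 1))
  have eb := Nat.div_add_mod b (4 ^ (k + 1))
  have ma : a % 4 ^ (k + 1) = a % 4 ^ k + 4 ^ k * dig 4 a k := Nat.mod_pow_succ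
  have mb : b % 4 ^ (k + 1) = b % 4 ^ k + 4 ^ k * dig 4 b k := Nat.mod_pow_succ
  have hp : 0 < 4 ^ k := pow_pos (by norm_num) k
  have h1 : a % 4 ^ k < 4 ^ k := Nat.mod_lt _ hp
  have h2 : 4 ^ k * (dig 4 a k + 1) ≤ 4 ^ k * dig 4 b k := Nat.mul_le_mul_left _ hlt
  rw [hq] at ea
  have h3 : a % 4 ^ (k + 1) < b % 4 ^ (k + 1) := by
    rw [ma, mb]
    have : 4 ^ k * (dig 4 a k + 1) = 4 ^ k * dig 4 a k + 4 ^ k := by ring
    omega
  omega

theorem top_digit (v : ℕ) (hv0 : v ≠ 0) (hv : v < 4 ^ 9) (hc : canon v = v) :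
    ∃ k < 9, ∃ r < 4 ^ k, v = 4 ^ k + r := by
  have h18 : (4 : ℕ) ^ 9 = 2 ^ 18 := by norm_num
  have hv18 : v < 2 ^ 18 := by rw [← h18]; exact hv
  have h1 : 4 ^ Nat.log 4 v ≤ v := Nat.pow_log_le_self 4 hv0
  have h2 : v < 4 ^ (Nat.log 4 v + 1) := Nat.lt_pow_succ_log_self (by norm_num) v
  generalize Nat.log 4 v = k at h1 h2
  have hk : k < 9 := by
    by_contra h
    have h9 : 9 ≤ k := not_lt.mp h
    have := Nat.pow_le_pow_right (show 0 < 4 by norm_num) h9
    omega
  have hp : 0 < 4 ^ k := pow_pos (by norm_num) k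
  have hd4 : v / 4 ^ k < 4 := by
    rw [Nat.div_lt_iff_lt_mul hp]
    rw [pow_succ] at h2
    rw [mul_comm]
    exact h2
  have hd1 : 1 ≤ v / 4 ^ k := (Nat.one_le_div_iff hp).mpr h1
  have hd : dig 4 v k = v / 4 ^ k := Nat.mod_eq_of_lt hd4
  have hhi : ∀ j, k < j → dig 4 v j = 0 := fun j hj =>
    dig_zero_of_lt v j (lt_of_lt_of_le h2 (Nat.pow_le_pow_right (by norm_num) hj))
  have hcan := canon_eq v
  rw [hc] at hcan
  have hs1 := smulW_lt v hv18
  have hs2 := smulW_lt _ hs1
  rcases (show v / 4 ^ k = 1 ∨ v / 4 ^ k = 2 ∨ v / 4 ^ k = 3 by omega) with h | h | h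
  · refine ⟨k, hk, v % 4 ^ k, Nat.mod_lt _ hp, ?_⟩
    have := Nat.div_add_mod v (4 ^ k)
    rw [h, mul_one] at this
    exact this.symm
  · exfalso
    have hw := lt_of_dig (smulW (smulW v)) v k (by rw [h18]; exact hs2) hv hk
      (fun j hj hj9 => by
        rw [dig_smulW _ j (by omega), dig_smulW _ j (by omega), hhi j hj]; rfl)
      (by rw [dig_smulW _ k (by omega), dig_smulW _ k (by omega), hd, h]; decide)
    have h5 : min v (min (smulW v) (smulW (smulW v))) ≤ smulW (smulW v) :=
      le_trans (min_le_right _ _) (min_le_right _ _)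
    omega
  · exfalso
    have hw := lt_of_dig (smulW v) v k (by rw [h18]; exact hs1) hv hk
      (fun j hj hj9 => by rw [dig_smulW _ j (by omega), hhi j hj]; rfl)
      (by rw [dig_smulW _ k (by omega), hd, h]; decide)
    have h5 : min v (min (smulW v) (smulW (smulW v))) ≤ smulW v :=
      le_trans (min_le_right _ _) (min_le_left _ _)
    omega

/-! ### the parity table -/

theorem isoF_spec (v : ℕ) (hv : v < 4 ^ 9) :
    isoF v = true ↔ (∑ k ∈ Finset.range 9, nzd (dig 4 v k)) % 2 = 0 := by
  have hP : ∀ i < 1024, PAR >>> i % 2 = (∑ k ∈ Finset.range 5, nzd (dig 4 i k)) % 2 := by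
    intro i hi
    have h := chkPAR
    rw [allLt_iff] at h
    have h1 := (beq_iff _ _).mp (h i hi)
    rw [sumLt_eq] at h1
    exact h1
  have e1 : Nat.land v 1023 = v % 4 ^ 5 := by
    have := Nat.and_two_pow_sub_one_eq_mod v 10
    norm_num at this
    show v &&& 1023 = v % 4 ^ 5
    rw [this]
    norm_num
  have e2 : Nat.shiftRight v 10 = v / 4 ^ 5 := by
    show v >>> 10 = v / 4 ^ 5
    rw [Nat.shiftRight_eq_div_pow]
    norm_num
  have hlo : v % 4 ^ 5 < 1024 := by
    have : (4 : ℕ) ^ 5 = 1024 := by norm_num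
    rw [this]; exact Nat.mod_lt _ (by norm_num)
  have hhi : v / 4 ^ 5 < 1024 := by
    have : (4 : ℕ) ^ 9 = 4 ^ 5 * 256 := by norm_num
    rw [this] at hv
    have := Nat.div_lt_of_lt_mul hv
    omega
  have hsum : ∑ k ∈ Finset.range 9, nzd (dig 4 v k) =
      ∑ k ∈ Finset.range 5, nzd (dig 4 (v % 4 ^ 5) k) +
        ∑ k ∈ Finset.range 5, nzd (dig 4 (v / 4 ^ 5) k) := by
    rw [show 9 = 5 + 4 by norm_num, Finset.sum_range_add]
    congr 1
    · apply Finset.sum_congr rfl
      intro k hk
      rw [dig_mod_pow 4 (by norm_num) v 5 k (Finset.mem_range.mp hk)]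
    · rw [Finset.sum_range_succ (fun k => nzd (dig 4 (v / 4 ^ 5) k)) 4]
      have h9 : dig 4 (v / 4 ^ 5) 4 = 0 := by
        rw [dig_div]
        exact dig_zero_of_lt v 9 hv
      rw [h9]
      have : nzd 0 = 0 := rfl
      rw [this, add_zero]
      apply Finset.sum_congr rfl
      intro k _
      rw [dig_div]
  unfold isoF
  rw [beq_iff, e1, e2, hsum]
  show ((PAR >>> (v % 4 ^ 5)) ^^^ (PAR >>> (v / 4 ^ 5))) &&& 1 = 0 ↔ _
  rw [Nat.and_one_is_mod]
  have hx : ∀ a b : ℕ, (a ^^^ b) % 2 = (a % 2 + b % 2) % 2 := by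
    intro a b
    have := bt_xor a b 0
    unfold bt at this
    rw [pow_zero, Nat.div_one, Nat.div_one, Nat.div_one] at this
    exact this
  rw [hx, hP _ hlo, hP _ hhi, ← Nat.add_mod]

end Cfsg.Agent.Lib.Helper8.J3D
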