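import Cfsg.Agent.Lib.Helper8.J3u

set_option autoImplicit false
set_option maxRecDepth 100000
set_option linter.unusedVariables false
set_option linter.unusedSectionVars false
set_option linter.style.haveILetI false

/-! Orbits of the triple cover of J3 on lines: 23256 images of the first basis line, and one orbit
of isotropic lines. -/

namespace Cfsg.Agent.Lib.Helper8.J3D

open Cfsg.Agent.Lib.Helper8.F4M Cfsg.Agent.Lib.Helper8.MatN Cfsg.Agent.Lib.Helper8.FastDec
  Cfsg.Agent.Lib.Helper8 Cfsg.Spor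

variable {F : Type*} [Field F] [Fintype F] (ω : F)

theorem canon_canon (v : ℕ) (hv : v < 2 ^ 18) : canon (canon v) = canon v := by
  have h := canon_eq v
  rcases min_choice v (min (smulW v) (smulW (smulW v))) with h1 | h1
  · rw [h1] at h
    rw [h]
    exact h
  · rw [h1] at h
    rcases min_choice (smulW v) (smulW (smulW v)) with h2 | h2
    · rw [h2] at h
      rw [h, canon_smulW v hv]
      exact h
    · rw [h2] at h
      rw [h, canon_smulW _ (smulW_lt v hv), canon_smulW v hv]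
      exact h

section main

variable (hF : Fintype.card F = 4) (hω : ω ^ 2 + ω + 1 = 0)

include hF hω

theorem gen_mem' (gi : ℕ) (hgi : gi < 2) :
    IsUnit (decM ω (D0.getG gi)) ∧ Q ω (D0.getG gi) ∈ D0.grp ω :=
  ⟨(lev0 ω hF hω).2.tabG gi hgi, Subgroup.subset_closure ⟨gi, hgi, rfl⟩⟩

theorem reach (O : OData) (hT : chkOT O = true) :
    ∀ d j, j < O.n → O.recT j >>> 20 = d →
      ∃ g ∈ D0.grp ω, actL g (ptL ω O.b0) = ptL ω (O.getP j) := by
  have h2 := two_eq_zero hF
  intro d
  induction d with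
  | zero =>
    intro j hj hd
    by_cases hji : j = O.i0
    · refine ⟨1, one_mem _, ?_⟩
      rw [actL_one, hji, (chkOT_base O hT).2]
    · obtain ⟨i, gi, hi, hgi, hdep, e⟩ := chkOT_step O hT j hj hji
      omega
  | succ d ih =>
    intro j hj hd
    by_cases hji : j = O.i0
    · refine ⟨1, one_mem _, ?_⟩
      rw [actL_one, hji, (chkOT_base O hT).2]
    · obtain ⟨i, gi, hi, hgi, hdep, e⟩ := chkOT_step O hT j hj hji
      obtain ⟨g, hg, eg⟩ := ih i hi (by omega)
      obtain ⟨u, m⟩ := gen_mem' ω hF hω gi hgi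
      refine ⟨Q ω (D0.getG gi) * g, mul_mem m hg, ?_⟩
      rw [actL_mul, eg, actL_Q ω h2 hω _ _ u, e]

theorem closedL (O : OData) (hC : chkOC O = true) (i : ℕ) (hi : i < O.n) (gi : ℕ)
    (hgi : gi < 2) :
    ∃ j < O.n, actL (Q ω (D0.getG gi)) (ptL ω (O.getP i)) = ptL ω (O.getP j) := by
  have h2 := two_eq_zero hF
  obtain ⟨j, hj, e⟩ := chkOC_spec O hC i hi gi hgi
  refine ⟨j, hj, ?_⟩
  rw [actL_Q ω h2 hω _ _ (gen_mem' ω hF hω gi hgi).1, e]

theorem orbit_sub (O : OData) (hT : chkOT O = true) (hC : chkOC O = true)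
    (g : Matrix.GeneralLinearGroup I9 F) (hg : g ∈ D0.grp ω) :
    ∃ j < O.n, actL g (ptL ω O.b0) = ptL ω (O.getP j) := by
  have hg' : g ∈ Submonoid.closure (D0.S ω) := by
    rw [← Subgroup.closure_toSubmonoid_of_finite]
    exact hg
  induction hg' using Submonoid.closure_induction_left with
  | one =>
    refine ⟨O.i0, (chkOT_base O hT).1, ?_⟩
    rw [actL_one, (chkOT_base O hT).2]
  | mul_left x hx y hy ih =>
    obtain ⟨i, hi, e⟩ := ih (by
      rw [← Subgroup.closure_toSubmonoid_of_finite] at hy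
      exact hy)
    obtain ⟨gi, hgi, rfl⟩ := hx
    have hng : D0.ng = 2 := rfl
    rw [hng] at hgi
    obtain ⟨j, hj, e'⟩ := closedL ω hF hω O hC i hi gi hgi
    exact ⟨j, hj, by rw [actL_mul, e, e']⟩

theorem orbit_ncard (O : OData) (hT : chkOT O = true) (hC : chkOC O = true)
    (hS : chkOS O = true) :
    {L : Submodule F (I9 → F) | ∃ g ∈ D0.grp ω, L = actL g (ptL ω O.b0)}.ncard = O.n := by
  have hset : {L : Submodule F (I9 → F) | ∃ g ∈ D0.grp ω, L = actL g (ptL ω O.b0)} =
      Set.range (fun i : Fin O.n => ptL ω (O.getP i)) := by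
    ext L
    constructor
    · rintro ⟨g, hg, rfl⟩
      obtain ⟨j, hj, e⟩ := orbit_sub ω hF hω O hT hC g hg
      exact ⟨⟨j, hj⟩, e.symm⟩
    · rintro ⟨i, rfl⟩
      obtain ⟨g, hg, e⟩ := reach ω hF hω O hT _ i.1 i.2 rfl
      exact ⟨g, hg, e.symm⟩
  rw [hset]
  have hinj : Function.Injective (fun i : Fin O.n => ptL ω (O.getP i)) := by
    intro i j e
    apply Fin.ext
    apply getPO_inj O hS i.1 j.1 i.2 j.2
    exact ptL_inj ω hF hω _ _ (getPO_lt O _) (getPO_lt O _) (chkOS_spec O hS i.1 i.2).1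
      (chkOS_spec O hS j.1 j.2).1 e
  rw [← Set.image_univ, Set.ncard_image_of_injective _ hinj, Set.ncard_univ, Nat.card_fin]

end main

end Cfsg.Agent.Lib.Helper8.J3D
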