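import Cfsg.Agent.Lib.Helper8.J3v

set_option autoImplicit false
set_option maxRecDepth 100000
set_option linter.unusedVariables false
set_option linter.unusedSectionVars false
set_option linter.style.haveILetI false

/-! Orbits of the triple cover of J3 on lines: the two statements. -/

namespace Cfsg.Agent.Lib.Helper8.J3D

open Cfsg.Agent.Lib.Helper8.F4M Cfsg.Agent.Lib.Helper8.MatN Cfsg.Agent.Lib.Helper8.FastDec
  Cfsg.Agent.Lib.Helper8 Cfsg.Spor

variable {F : Type*} [Field F] [Fintype F] (ω : F)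

theorem dig_one_idx : ∀ w : I9, dig 4 1 (idx w) = if w = 0 then 1 else 0 := by decide

theorem decV_one : decV ω 1 = Pi.single (0 : I9) (1 : F) := by
  ext w
  show decF ω (dig 4 1 (idx w)) = _
  rw [dig_one_idx w]
  by_cases h : w = 0
  · rw [if_pos h, h, Pi.single_eq_same, decF_one]
  · rw [if_neg h, Pi.single_eq_of_ne h, decF_zero]

theorem decV_zero : decV ω 0 = 0 := by
  ext w
  show decF ω (dig 4 0 (idx w)) = 0
  have : dig 4 0 (idx w) = 0 := by
    unfold dig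
    rw [Nat.zero_div]
  rw [this, decF_zero]

theorem cube_nzd (h2 : (2 : F) = 0) (hω : ω ^ 2 + ω + 1 = 0) (d : ℕ) (hd : d < 4) :
    decF ω d ^ 3 = ((nzd d : ℕ) : F) := by
  interval_cases d
  · rw [decF_zero]
    show _ = ((0 : ℕ) : F)
    simp
  · rw [decF_one]
    show _ = ((1 : ℕ) : F)
    simp
  · rw [decF_two, omega_cube ω hω]
    show _ = ((1 : ℕ) : F)
    simp
  · rw [decF_three]
    show _ = ((1 : ℕ) : F)
    rw [Nat.cast_one]
    linear_combination (ω + 2) * hω - h2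

theorem iso_code (h2 : (2 : F) = 0) (hω : ω ^ 2 + ω + 1 = 0) (c : ℕ) :
    (∑ z : I9, decV ω c z ^ 3 = 0) ↔ (∑ k ∈ Finset.range 9, nzd (dig 4 c k)) % 2 = 0 := by
  have e : ∑ z : I9, decV ω c z ^ 3 = ((∑ k ∈ Finset.range 9, nzd (dig 4 c k) : ℕ) : F) := by
    rw [Nat.cast_sum, ← sum_idx (fun k => ((nzd (dig 4 c k) : ℕ) : F))]
    apply Finset.sum_congr rfl
    intro z _
    exact cube_nzd ω h2 hω _ (dig4_lt _ _)
  rw [e]
  generalize (∑ k ∈ Finset.range 9, nzd (dig 4 c k)) = S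
  rw [← cast_mod_two h2 S]
  have hS : S % 2 < 2 := Nat.mod_lt _ (by norm_num)
  generalize S % 2 = m at hS ⊢
  interval_cases m
  · simp
  · simp

theorem decV_canon (h2 : (2 : F) = 0) (hω : ω ^ 2 + ω + 1 = 0) (c : ℕ) :
    ∃ z : F, z ≠ 0 ∧ decV ω (canon c) = z • decV ω c := by
  rw [canon_eq]
  rcases min_choice c (min (smulW c) (smulW (smulW c))) with h | h
  · rw [h]
    exact ⟨1, one_ne_zero, (one_smul _ _).symm⟩
  · rw [h]
    rcases min_choice (smulW c) (smulW (smulW c)) with h' | h'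
    · rw [h', decV_smulW ω h2 hω]
      exact ⟨ω, omega_ne_zero ω hω, rfl⟩
    · rw [h', decV_smulW ω h2 hω, decV_smulW ω h2 hω, smul_smul]
      exact ⟨ω * ω, mul_ne_zero (omega_ne_zero ω hω) (omega_ne_zero ω hω), rfl⟩

section main

variable (hF : Fintype.card F = 4) (hω : ω ^ 2 + ω + 1 = 0)

include hF hω

theorem exists_code (x : I9 → F) : ∃ c < 4 ^ 9, decV ω c = x := by
  choose f hf4 hfx using fun w : I9 => exists_digit ω hF hω (x w)
  let g : ℕ → ℕ := fun k => if h : k < 9 then f (idxE.symm ⟨k, h⟩) else 0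
  have hg : ∀ j < 9, g j < 4 := by
    intro j hj
    simp only [g, dif_pos hj]
    exact hf4 _
  refine ⟨∑ j ∈ Finset.range 9, g j * 4 ^ j, sum_pow_lt 4 g 9 hg, ?_⟩
  ext w
  show decF ω (dig 4 _ (idx w)) = x w
  rw [dig_sum 4 g 9 hg (idx w) (idx_lt w)]
  have e : g (idx w) = f w := by
    simp only [g, dif_pos (idx_lt w)]
    congr 1
    exact idxE.symm_apply_apply w
  rw [e, hfx]

theorem part1 :
    {L : Submodule F (I9 → F) | ∃ g ∈ threeJ3 F ω,
      L = Submodule.span F {(g : Matrix I9 I9 F).mulVec (Pi.single (0 : I9) (1 : F))}}.ncard =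
      23256 := by
  have h := orbit_ncard ω hF hω O1 O1_tree O1_closed O1_sorted
  rw [threeJ3_eq ω hF hω]
  have e : ∀ g : Matrix.GeneralLinearGroup I9 F, actL g (ptL ω O1.b0) =
      Submodule.span F {(g : Matrix I9 I9 F).mulVec (Pi.single (0 : I9) (1 : F))} := by
    intro g
    show actL g (ptL ω 1) = _
    unfold ptL
    rw [actL_span, decV_one]
    rfl
  simp only [e] at h
  exact h

theorem iso_line (x : I9 → F) (hx : x ≠ 0) (hiso : ∑ z, x z ^ 3 = 0) :
    ∃ g ∈ D0.grp ω, actL g (ptL ω O2.b0) = Submodule.span F {x} := by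
  have h2 := two_eq_zero hF
  have h18 : (4 : ℕ) ^ 9 = 2 ^ 18 := by norm_num
  obtain ⟨c, hc, rfl⟩ := exists_code ω hF hω x
  have hc18 : c < 2 ^ 18 := by rw [← h18]; exact hc
  obtain ⟨z, hz, ez⟩ := decV_canon ω h2 hω c
  have hv18 : canon c < 2 ^ 18 := canon_lt c hc18
  have hv : canon c < 4 ^ 9 := by rw [h18]; exact hv18
  have hcv : canon (canon c) = canon c := canon_canon c hc18
  have hv0 : canon c ≠ 0 := by
    intro h0
    rw [h0, decV_zero] at ez
    exact hx ((smul_eq_zero.mp ez.symm).resolve_left hz)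
  have hisov : ∑ w : I9, decV ω (canon c) w ^ 3 = 0 := by
    rw [ez]
    have : ∀ w : I9, (z • decV ω c) w ^ 3 = z ^ 3 * decV ω c w ^ 3 := by
      intro w
      rw [Pi.smul_apply, smul_eq_mul, mul_pow]
    simp only [this]
    rw [← Finset.mul_sum, hiso, mul_zero]
  obtain ⟨k, hk, r, hr, e⟩ := top_digit (canon c) hv0 hv hcv
  have hok : isoF (4 ^ k + r) = true := by
    rw [← e, isoF_spec _ hv]
    exact (iso_code ω h2 hω _).mp hisov
  obtain ⟨i, hi, ei⟩ := chkSweep_spec O2 O2_sweep k hk r hr hok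
  obtain ⟨g, hg, eg⟩ := reach ω hF hω O2 O2_tree _ i hi rfl
  refine ⟨g, hg, ?_⟩
  rw [eg, ei, ← e, ptL_canon ω h2 hω]
  rfl

theorem part2 (v w : I9 → F) (hv : v ≠ 0) (hw : w ≠ 0) (iv : ∑ z, v z ^ 3 = 0)
    (iw : ∑ z, w z ^ 3 = 0) :
    ∃ g ∈ threeJ3 F ω, ∃ c : F, c ≠ 0 ∧ (g : Matrix I9 I9 F).mulVec v = c • w := by
  obtain ⟨g1, hg1, e1⟩ := iso_line ω hF hω v hv iv
  obtain ⟨g2, hg2, e2⟩ := iso_line ω hF hω w hw iw
  rw [threeJ3_eq ω hF hω]
  refine ⟨g2 * g1⁻¹, mul_mem hg2 (inv_mem hg1), ?_⟩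
  have e : actL (g2 * g1⁻¹) (Submodule.span F {v}) = Submodule.span F {w} := by
    rw [← e1, ← actL_mul, mul_assoc, inv_mul_cancel, mul_one, e2]
  rw [actL_span, Submodule.span_singleton_eq_span_singleton] at e
  obtain ⟨z, hz⟩ := e
  refine ⟨((z⁻¹ : Fˣ) : F), Units.ne_zero _, ?_⟩
  show actV (g2 * g1⁻¹) v = (z⁻¹ : Fˣ) • w
  rw [← hz, inv_smul_smul]

end main

end Cfsg.Agent.Lib.Helper8.J3D
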