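import Cfsg.Agent.Lib.Helper8.J3m

set_option autoImplicit false
set_option maxRecDepth 100000
set_option linter.unusedVariables false
set_option linter.unusedSectionVars false
set_option linter.style.haveILetI false

/-! Small subgroups of the triple cover of J3 given by the list of their elements, and conjugacy
classes given by the list of their elements: data, checks and what the checks say. -/

namespace Cfsg.Agent.Lib.Helper8.J3C

open Cfsg.Agent.Lib.Helper8.F4M Cfsg.Agent.Lib.Helper8.MatN Cfsg.Agent.Lib.Helper8.FastDec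
  Cfsg.Agent.Lib.Helper8 Cfsg.Agent.Lib.Helper8.J3D Cfsg.Spor

/-- a subgroup by the list of its elements (increasing), a spanning tree of its Cayley graph and
the table of right multiplications by the generators -/
structure MData where
  n : ℕ
  ng : ℕ
  GN : ℕ
  EL : List ℕ
  TR : List ℕ
  SR : List ℕ
  i0 : ℕ

namespace MData

noncomputable def getE (M : MData) (i : ℕ) : ℕ := fldC 162 M162 M.EL i
def getG (M : MData) (gi : ℕ) : ℕ := fld 162 M162 M.GN gi
noncomputable def recT (M : MData) (j : ℕ) : ℕ := fldC 32 M32 M.TR j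
noncomputable def recS (M : MData) (i gi : ℕ) : ℕ :=
  fldC 16 65535 M.SR (Nat.add (Nat.mul i M.ng) gi)

end MData

/-- the tree: every element other than the identity is an earlier element times a generator -/
noncomputable def chkMT (M : MData) : Bool :=
  Nat.blt M.i0 M.n && allLt M.n fun j => withVal (M.recT j) fun r => withVal (M.getE j) fun e =>
    cond (Nat.beq j M.i0)
      (Nat.beq e ID)
      (withVal (Nat.land r 65535) fun i => withVal (Nat.land (Nat.shiftRight r 16) 15) fun gi =>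
        Nat.blt i M.n && (Nat.blt gi M.ng &&
          (Nat.beq (Nat.succ (Nat.shiftRight (M.recT i) 20)) (Nat.shiftRight r 20) &&
            Nat.beq (mulB (M.getE i) (M.getG gi)) e)))

/-- the elements are increasing -/
noncomputable def chkMS (M : MData) : Bool :=
  allLt M.n fun i => Nat.beq i 0 || Nat.blt (M.getE (Nat.pred i)) (M.getE i)

/-- the list is closed under right multiplication by the generators -/
noncomputable def chkMC (M : MData) : Bool :=
  allLt M.n fun i => withVal (M.getE i) fun e => allLt M.ng fun gi =>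
    withVal (M.recS i gi) fun j => Nat.blt j M.n && Nat.beq (mulB e (M.getG gi)) (M.getE j)

theorem M162_lt : M162 < 2 ^ 162 := by decide

theorem getE_lt (M : MData) (i : ℕ) : M.getE i < 2 ^ 162 := by
  show (_ >>> _) &&& M162 < 2 ^ 162
  exact lt_of_le_of_lt Nat.and_le_right M162_lt

theorem chkMT_base (M : MData) (h : chkMT M = true) : M.i0 < M.n ∧ M.getE M.i0 = ID := by
  unfold chkMT at h
  rw [Bool.and_eq_true, blt_iff, allLt_iff] at h
  refine ⟨h.1, ?_⟩
  have h1 := h.2 M.i0 h.1
  simp only [withVal_eq] at h1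
  rw [Nat.beq_refl, cond_true, beq_iff] at h1
  exact h1

theorem chkMT_step (M : MData) (h : chkMT M = true) (j : ℕ) (hj : j < M.n) (hne : j ≠ M.i0) :
    ∃ i gi, i < M.n ∧ gi < M.ng ∧ M.recT i >>> 20 + 1 = M.recT j >>> 20 ∧
      mulB (M.getE i) (M.getG gi) = M.getE j := by
  unfold chkMT at h
  rw [Bool.and_eq_true, blt_iff, allLt_iff] at h
  have h1 := h.2 j hj
  simp only [withVal_eq] at h1
  have hb : Nat.beq j M.i0 = false := by
    rw [← Bool.not_eq_true, beq_iff]
    exact hne
  rw [hb, cond_false] at h1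
  simp only [Bool.and_eq_true, blt_iff, beq_iff] at h1
  exact ⟨_, _, h1.1, h1.2.1, h1.2.2.1, h1.2.2.2⟩

theorem chkMS_spec (M : MData) (h : chkMS M = true) (i : ℕ) (hi : i < M.n) (hne : i ≠ 0) :
    M.getE (i - 1) < M.getE i := by
  unfold chkMS at h
  rw [allLt_iff] at h
  have h1 := h i hi
  have hb : Nat.beq i 0 = false := by
    rw [← Bool.not_eq_true, beq_iff]
    exact hne
  rw [hb, Bool.false_or, blt_iff] at h1
  exact h1

theorem getE_mono (M : MData) (h : chkMS M = true) :
    ∀ i', i' < M.n → ∀ i < i', M.getE i < M.getE i' := by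
  intro i'
  induction i' with
  | zero => intro _ i hi; exact absurd hi (Nat.not_lt_zero _)
  | succ k ih =>
    intro hk i hi
    have h1 := chkMS_spec M h (k + 1) hk (Nat.succ_ne_zero k)
    rw [Nat.add_sub_cancel] at h1
    rcases Nat.lt_succ_iff_lt_or_eq.mp hi with h2 | rfl
    · exact lt_trans (ih (Nat.lt_of_succ_lt hk) i h2) h1
    · exact h1

theorem getE_inj (M : MData) (h : chkMS M = true) (i j : ℕ) (hi : i < M.n)
    (hj : j < M.n) (e : M.getE i = M.getE j) : i = j := by
  rcases Nat.lt_trichotomy i j with h1 | h1 | h1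
  · exact absurd e (ne_of_lt (getE_mono M h j hj i h1))
  · exact h1
  · exact absurd e.symm (ne_of_lt (getE_mono M h i hi j h1))

theorem chkMC_spec (M : MData) (h : chkMC M = true) (i : ℕ) (hi : i < M.n) (gi : ℕ)
    (hgi : gi < M.ng) : ∃ j < M.n, mulB (M.getE i) (M.getG gi) = M.getE j := by
  unfold chkMC at h
  rw [allLt_iff] at h
  have h1 := h i hi
  simp only [withVal_eq] at h1
  rw [allLt_iff] at h1
  have h2 := h1 gi hgi
  simp only [Bool.and_eq_true, blt_iff, beq_iff] at h2
  exact ⟨_, h2.1, h2.2⟩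

/-! ### conjugacy classes -/

/-- a set of conjugates of `t0` (increasing), with a spanning tree: every element other than
`t0` is an earlier one conjugated by one of the two generators of the big group -/
structure CData where
  n : ℕ
  PT : List ℕ
  TR : List ℕ
  t0 : ℕ
  i0 : ℕ

namespace CData

noncomputable def getP (K : CData) (i : ℕ) : ℕ := fldC 162 M162 K.PT i
noncomputable def recT (K : CData) (j : ℕ) : ℕ := fldC 32 M32 K.TR j

end CData

noncomputable def chkCT (K : CData) : Bool :=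
  Nat.blt K.i0 K.n && allLt K.n fun j => withVal (K.recT j) fun r => withVal (K.getP j) fun p =>
    cond (Nat.beq j K.i0)
      (Nat.beq p K.t0)
      (withVal (Nat.land r 65535) fun i => withVal (Nat.land (Nat.shiftRight r 16) 15) fun gi =>
        Nat.blt i K.n && (Nat.blt gi 2 &&
          (Nat.beq (Nat.succ (Nat.shiftRight (K.recT i) 20)) (Nat.shiftRight r 20) &&
            Nat.beq (mulB (mulB (D0.getG gi) (K.getP i)) (D0.getGI gi)) p)))

noncomputable def chkCS (K : CData) : Bool :=
  allLt K.n fun i => Nat.beq i 0 || Nat.blt (K.getP (Nat.pred i)) (K.getP i)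

theorem getPC_lt (K : CData) (i : ℕ) : K.getP i < 2 ^ 162 := by
  show (_ >>> _) &&& M162 < 2 ^ 162
  exact lt_of_le_of_lt Nat.and_le_right M162_lt

theorem chkCT_base (K : CData) (h : chkCT K = true) : K.i0 < K.n ∧ K.getP K.i0 = K.t0 := by
  unfold chkCT at h
  rw [Bool.and_eq_true, blt_iff, allLt_iff] at h
  refine ⟨h.1, ?_⟩
  have h1 := h.2 K.i0 h.1
  simp only [withVal_eq] at h1
  rw [Nat.beq_refl, cond_true, beq_iff] at h1
  exact h1

theorem chkCT_step (K : CData) (h : chkCT K = true) (j : ℕ) (hj : j < K.n) (hne : j ≠ K.i0) :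
    ∃ i gi, i < K.n ∧ gi < 2 ∧ K.recT i >>> 20 + 1 = K.recT j >>> 20 ∧
      mulB (mulB (D0.getG gi) (K.getP i)) (D0.getGI gi) = K.getP j := by
  unfold chkCT at h
  rw [Bool.and_eq_true, blt_iff, allLt_iff] at h
  have h1 := h.2 j hj
  simp only [withVal_eq] at h1
  have hb : Nat.beq j K.i0 = false := by
    rw [← Bool.not_eq_true, beq_iff]
    exact hne
  rw [hb, cond_false] at h1
  simp only [Bool.and_eq_true, blt_iff, beq_iff] at h1
  exact ⟨_, _, h1.1, h1.2.1, h1.2.2.1, h1.2.2.2⟩

theorem chkCS_spec (K : CData) (h : chkCS K = true) (i : ℕ) (hi : i < K.n) (hne : i ≠ 0) :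
    K.getP (i - 1) < K.getP i := by
  unfold chkCS at h
  rw [allLt_iff] at h
  have h1 := h i hi
  have hb : Nat.beq i 0 = false := by
    rw [← Bool.not_eq_true, beq_iff]
    exact hne
  rw [hb, Bool.false_or, blt_iff] at h1
  exact h1

theorem getPC_mono (K : CData) (h : chkCS K = true) :
    ∀ i', i' < K.n → ∀ i < i', K.getP i < K.getP i' := by
  intro i'
  induction i' with
  | zero => intro _ i hi; exact absurd hi (Nat.not_lt_zero _)
  | succ k ih =>
    intro hk i hi
    have h1 := chkCS_spec K h (k + 1) hk (Nat.succ_ne_zero k)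
    rw [Nat.add_sub_cancel] at h1
    rcases Nat.lt_succ_iff_lt_or_eq.mp hi with h2 | rfl
    · exact lt_trans (ih (Nat.lt_of_succ_lt hk) i h2) h1
    · exact h1

theorem getPC_inj (K : CData) (h : chkCS K = true) (i j : ℕ) (hi : i < K.n)
    (hj : j < K.n) (e : K.getP i = K.getP j) : i = j := by
  rcases Nat.lt_trichotomy i j with h1 | h1 | h1
  · exact absurd e (ne_of_lt (getPC_mono K h j hj i h1))
  · exact h1
  · exact absurd e.symm (ne_of_lt (getPC_mono K h i hi j h1))

/-! ### words in the two generators and their inverses -/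

/-- the two generators and their inverses -/
def genW (i : ℕ) : ℕ := cond (Nat.blt i 2) (D0.getG i) (D0.getGI (Nat.sub i 2))

/-- product along a word -/
noncomputable def prodW (w : List ℕ) : ℕ :=
  List.rec (motive := fun _ => ℕ) ID (fun i _ ih => withVal ih fun h => mulB (genW i) h) w

theorem prodW_nil : prodW [] = ID := rfl

theorem prodW_cons (i : ℕ) (w : List ℕ) : prodW (i :: w) = mulB (genW i) (prodW w) := by
  show withVal _ _ = _
  rw [withVal_eq]
  rfl

/-! ### meaning -/

variable {F : Type*} [Field F] [Fintype F] (ω : F)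

theorem decM_inj (h2 : (2 : F) = 0) (hω : ω ^ 2 + ω + 1 = 0) (a b : ℕ) (ha : a < 2 ^ 162)
    (hb : b < 2 ^ 162) (h : decM ω a = decM ω b) : a = b := by
  have h162 : (2 : ℕ) ^ 162 = 4 ^ 81 := by norm_num
  rw [h162] at ha hb
  rw [← Nat.mod_eq_of_lt ha, ← Nat.mod_eq_of_lt hb, mod_pow_eq_sum, mod_pow_eq_sum]
  apply Finset.sum_congr rfl
  intro k hk
  have hk' := Finset.mem_range.mp hk
  obtain ⟨w, hw⟩ := exists_idx (k % 9) (Nat.mod_lt _ (by norm_num))
  obtain ⟨z, hz⟩ := exists_idx (k / 9) (by omega)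
  have hk2 : k = idx w + 9 * idx z := by omega
  congr 1
  rw [hk2]
  exact decF_inj ω h2 hω _ _ (dig4_lt _ _) (dig4_lt _ _) (congrFun (congrFun h w) z)

theorem Q_inj (h2 : (2 : F) = 0) (hω : ω ^ 2 + ω + 1 = 0) {a b : ℕ} (ha : a < 2 ^ 162)
    (hb : b < 2 ^ 162) (ua : IsUnit (decM ω a)) (ub : IsUnit (decM ω b))
    (h : Q ω a = Q ω b) : a = b := by
  apply decM_inj ω h2 hω a b ha hb
  rw [← Q_val ω ua, ← Q_val ω ub, h]

/-- the generators of a list group -/
def MData.S (M : MData) : Set (Matrix.GeneralLinearGroup I9 F) :=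
  {g | ∃ gi < M.ng, g = Q ω (M.getG gi)}

/-- the list group -/
def MData.grp (M : MData) : Subgroup (Matrix.GeneralLinearGroup I9 F) :=
  Subgroup.closure (M.S ω)

theorem MData.mem (h2 : (2 : F) = 0) (hω : ω ^ 2 + ω + 1 = 0) (M : MData)
    (hU : ∀ gi < M.ng, IsUnit (decM ω (M.getG gi))) (hT : chkMT M = true) :
    ∀ j < M.n, IsUnit (decM ω (M.getE j)) ∧ Q ω (M.getE j) ∈ M.grp ω := by
  have key : ∀ d j, j < M.n → M.recT j >>> 20 = d →
      IsUnit (decM ω (M.getE j)) ∧ Q ω (M.getE j) ∈ M.grp ω := by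
    intro d
    induction d with
    | zero =>
      intro j hj hd
      by_cases hji : j = M.i0
      · rw [hji, (chkMT_base M hT).2, Q_ID]
        exact ⟨isUnit_ID ω, one_mem _⟩
      · obtain ⟨i, gi, hi, hgi, hdep, e⟩ := chkMT_step M hT j hj hji
        omega
    | succ d ih =>
      intro j hj hd
      by_cases hji : j = M.i0
      · rw [hji, (chkMT_base M hT).2, Q_ID]
        exact ⟨isUnit_ID ω, one_mem _⟩
      · obtain ⟨i, gi, hi, hgi, hdep, e⟩ := chkMT_step M hT j hj hji
        obtain ⟨u1, m1⟩ := ih i hi (by omega)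
        rw [← e]
        refine ⟨isUnit_mulB ω h2 hω u1 (hU gi hgi), ?_⟩
        rw [Q_mulB ω h2 hω u1 (hU gi hgi)]
        exact mul_mem m1 (Subgroup.subset_closure ⟨gi, hgi, rfl⟩)
  intro j hj
  exact key _ j hj rfl

theorem MData.cover (h2 : (2 : F) = 0) (hω : ω ^ 2 + ω + 1 = 0) (M : MData)
    (hU : ∀ gi < M.ng, IsUnit (decM ω (M.getG gi))) (hT : chkMT M = true)
    (hC : chkMC M = true) (x : Matrix.GeneralLinearGroup I9 F) (hx : x ∈ M.grp ω) :
    ∃ j < M.n, x = Q ω (M.getE j) := by
  have hx' : x ∈ Submonoid.closure (M.S ω) := by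
    rw [← Subgroup.closure_toSubmonoid_of_finite]
    exact hx
  clear hx
  induction hx' using Submonoid.closure_induction_right with
  | one =>
    refine ⟨M.i0, (chkMT_base M hT).1, ?_⟩
    rw [(chkMT_base M hT).2, Q_ID]
  | mul_right x hx y hy ih =>
    obtain ⟨i, hi, e⟩ := ih
    obtain ⟨gi, hgi, rfl⟩ := hy
    obtain ⟨j, hj, e'⟩ := chkMC_spec M hC i hi gi hgi
    refine ⟨j, hj, ?_⟩
    rw [e, ← Q_mulB ω h2 hω (M.mem ω h2 hω hU hT i hi).1 (hU gi hgi), e']

theorem MData.inj (h2 : (2 : F) = 0) (hω : ω ^ 2 + ω + 1 = 0) (M : MData)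
    (hU : ∀ gi < M.ng, IsUnit (decM ω (M.getG gi))) (hT : chkMT M = true)
    (hS : chkMS M = true) (i j : ℕ) (hi : i < M.n) (hj : j < M.n)
    (e : Q ω (M.getE i) = Q ω (M.getE j)) : i = j :=
  getE_inj M hS i j hi hj (Q_inj ω h2 hω (getE_lt M i) (getE_lt M j)
    (M.mem ω h2 hω hU hT i hi).1 (M.mem ω h2 hω hU hT j hj).1 e)

theorem MData.card (h2 : (2 : F) = 0) (hω : ω ^ 2 + ω + 1 = 0) (M : MData)
    (hU : ∀ gi < M.ng, IsUnit (decM ω (M.getG gi))) (hT : chkMT M = true)
    (hS : chkMS M = true) (hC : chkMC M = true) : Nat.card (M.grp ω) = M.n := by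
  have hb : Function.Bijective (fun i : Fin M.n =>
      (⟨Q ω (M.getE i), (M.mem ω h2 hω hU hT i.1 i.2).2⟩ : M.grp ω)) := by
    constructor
    · intro i j e
      exact Fin.ext (M.inj ω h2 hω hU hT hS i.1 j.1 i.2 j.2 (congrArg Subtype.val e))
    · rintro ⟨x, hx⟩
      obtain ⟨j, hj, e⟩ := M.cover ω h2 hω hU hT hC x hx
      exact ⟨⟨j, hj⟩, Subtype.ext e.symm⟩
  rw [← Nat.card_eq_of_bijective _ hb, Nat.card_fin]

/-! ### the generators and words -/

section main

variable (hF : Fintype.card F = 4) (hω : ω ^ 2 + ω + 1 = 0)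

include hF hω

theorem genW_mem (i : ℕ) (hi : i < 4) :
    IsUnit (decM ω (genW i)) ∧ Q ω (genW i) ∈ D0.grp ω := by
  have h2 := two_eq_zero hF
  have hng : D0.ng = 2 := rfl
  have hcase : i < 2 ∨ ∃ k < 2, i = k + 2 := by
    by_cases h : i < 2
    · exact Or.inl h
    · exact Or.inr ⟨i - 2, by omega, by omega⟩
  rcases hcase with h | ⟨k, hk, rfl⟩
  · have e : genW i = D0.getG i := by
      unfold genW
      rw [(blt_iff i 2).mpr h]
      rfl
    rw [e]
    exact ⟨(lev0 ω hF hω).2.tabG i (by rw [hng]; exact h),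
      Subgroup.subset_closure ⟨i, by rw [hng]; exact h, rfl⟩⟩
  · have e : genW (k + 2) = D0.getGI k := by
      unfold genW
      have hb : Nat.blt (k + 2) 2 = false := by
        rw [← Bool.not_eq_true, blt_iff]
        omega
      rw [hb]
      show D0.getGI (k + 2 - 2) = _
      rw [Nat.add_sub_cancel]
    rw [e]
    have hm := chkInv_spec D0 D0_inv k (by rw [hng]; exact hk)
    have ug : IsUnit (decM ω (D0.getG k)) := (lev0 ω hF hω).2.tabG k (by rw [hng]; exact hk)
    have h1 : decM ω (D0.getG k) * decM ω (D0.getGI k) = 1 := by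
      rw [← decM_mulB ω h2 hω, hm, decM_ID]
    have h3 : decM ω (D0.getGI k) * decM ω (D0.getG k) = 1 := mul_eq_one_comm.mp h1
    have ui : IsUnit (decM ω (D0.getGI k)) := ⟨⟨_, _, h3, h1⟩, rfl⟩
    refine ⟨ui, ?_⟩
    have hQ : Q ω (D0.getG k) * Q ω (D0.getGI k) = 1 := by
      rw [← Q_mulB ω h2 hω ug ui, hm, Q_ID]
    have hinv : Q ω (D0.getGI k) = (Q ω (D0.getG k))⁻¹ := (inv_eq_of_mul_eq_one_right hQ).symm
    rw [hinv]
    exact inv_mem (Subgroup.subset_closure ⟨k, by rw [hng]; exact hk, rfl⟩)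

theorem prodW_mem (w : List ℕ) (hw : ∀ i ∈ w, i < 4) :
    IsUnit (decM ω (prodW w)) ∧ Q ω (prodW w) ∈ D0.grp ω := by
  have h2 := two_eq_zero hF
  induction w with
  | nil =>
    rw [prodW_nil, Q_ID]
    exact ⟨isUnit_ID ω, one_mem _⟩
  | cons i w ih =>
    obtain ⟨u1, m1⟩ := ih (fun j hj => hw j (List.mem_cons_of_mem _ hj))
    obtain ⟨u0, m0⟩ := genW_mem ω hF hω i (hw i List.mem_cons_self)
    rw [prodW_cons]
    exact ⟨isUnit_mulB ω h2 hω u0 u1, by rw [Q_mulB ω h2 hω u0 u1]; exact mul_mem m0 m1⟩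

/-- the elements of a list of conjugates are conjugates -/
theorem CData.conj (K : CData) (hT0 : IsUnit (decM ω K.t0)) (hT : chkCT K = true) :
    ∀ j < K.n, IsUnit (decM ω (K.getP j)) ∧
      ∃ u ∈ D0.grp ω, Q ω (K.getP j) = u * Q ω K.t0 * u⁻¹ := by
  have h2 := two_eq_zero hF
  have key : ∀ d j, j < K.n → K.recT j >>> 20 = d →
      IsUnit (decM ω (K.getP j)) ∧ ∃ u ∈ D0.grp ω, Q ω (K.getP j) = u * Q ω K.t0 * u⁻¹ := by
    intro d
    induction d with
    | zero =>
      intro j hj hd
      by_cases hji : j = K.i0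
      · rw [hji, (chkCT_base K hT).2]
        exact ⟨hT0, 1, one_mem _, by rw [one_mul, inv_one, mul_one]⟩
      · obtain ⟨i, gi, hi, hgi, hdep, e⟩ := chkCT_step K hT j hj hji
        omega
    | succ d ih =>
      intro j hj hd
      by_cases hji : j = K.i0
      · rw [hji, (chkCT_base K hT).2]
        exact ⟨hT0, 1, one_mem _, by rw [one_mul, inv_one, mul_one]⟩
      · obtain ⟨i, gi, hi, hgi, hdep, e⟩ := chkCT_step K hT j hj hji
        obtain ⟨u1, u, mu, eu⟩ := ih i hi (by omega)
        obtain ⟨ug, mg⟩ := genW_mem ω hF hω gi (by omega)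
        obtain ⟨ui, mi⟩ := genW_mem ω hF hω (gi + 2) (by omega)
        have eg : genW gi = D0.getG gi := by
          unfold genW
          rw [(blt_iff gi 2).mpr hgi]
          rfl
        have ei : genW (gi + 2) = D0.getGI gi := by
          unfold genW
          have hb : Nat.blt (gi + 2) 2 = false := by
            rw [← Bool.not_eq_true, blt_iff]
            omega
          rw [hb]
          show D0.getGI (gi + 2 - 2) = _
          rw [Nat.add_sub_cancel]
        rw [eg] at ug mg
        rw [ei] at ui mi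
        have hng : D0.ng = 2 := rfl
        have hm := chkInv_spec D0 D0_inv gi (by rw [hng]; exact hgi)
        have hQ : Q ω (D0.getG gi) * Q ω (D0.getGI gi) = 1 := by
          rw [← Q_mulB ω h2 hω ug ui, hm, Q_ID]
        have hinv : Q ω (D0.getGI gi) = (Q ω (D0.getG gi))⁻¹ :=
          (inv_eq_of_mul_eq_one_right hQ).symm
        rw [← e]
        have u2 := isUnit_mulB ω h2 hω ug u1
        refine ⟨isUnit_mulB ω h2 hω u2 ui, Q ω (D0.getG gi) * u, mul_mem mg mu, ?_⟩
        rw [Q_mulB ω h2 hω u2 ui, Q_mulB ω h2 hω ug u1, eu, hinv, mul_inv_rev]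
        group
  intro j hj
  exact key _ j hj rfl

end main

end Cfsg.Agent.Lib.Helper8.J3C
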