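import Cfsg.Agent.Lib.Helper8.J3x

set_option autoImplicit false
set_option maxRecDepth 100000
set_option linter.unusedVariables false
set_option linter.unusedSectionVars false
set_option linter.style.haveILetI false

/-! Further checks on list groups, and what they say. -/

namespace Cfsg.Agent.Lib.Helper8.J3C

open Cfsg.Agent.Lib.Helper8.F4M Cfsg.Agent.Lib.Helper8.MatN Cfsg.Agent.Lib.Helper8.FastDec
  Cfsg.Agent.Lib.Helper8 Cfsg.Agent.Lib.Helper8.J3D Cfsg.Spor

/-- field `i` of a table of 16-bit numbers -/
def tab (T i : ℕ) : ℕ := fld 16 65535 T i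

/-- the generators of `M` are elements of `N`, at the places given by the table -/
noncomputable def chkSub (M N : MData) (IX : ℕ) : Bool :=
  allLt M.ng fun gi => withVal (tab IX gi) fun j =>
    Nat.blt j N.n && Nat.beq (M.getG gi) (N.getE j)

theorem chkSub_spec (M N : MData) (IX : ℕ) (h : chkSub M N IX = true) (gi : ℕ)
    (hgi : gi < M.ng) : ∃ j < N.n, M.getG gi = N.getE j := by
  unfold chkSub at h
  rw [allLt_iff] at h
  have h1 := h gi hgi
  simp only [withVal_eq, Bool.and_eq_true, blt_iff, beq_iff] at h1
  exact ⟨_, h1.1, h1.2⟩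

/-- the generators are involutions -/
noncomputable def chkInvol (M : MData) : Bool :=
  allLt M.ng fun gi => withVal (M.getG gi) fun g =>
    Nat.beq (mulB g g) ID && not (Nat.beq (Nat.land g M162) ID)

theorem chkInvol_spec (M : MData) (h : chkInvol M = true) (gi : ℕ) (hgi : gi < M.ng) :
    mulB (M.getG gi) (M.getG gi) = ID ∧ Nat.land (M.getG gi) M162 ≠ ID := by
  unfold chkInvol at h
  rw [allLt_iff] at h
  have h1 := h gi hgi
  simp only [withVal_eq, Bool.and_eq_true, beq_iff, Bool.not_eq_true'] at h1
  refine ⟨h1.1, fun e => ?_⟩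
  rw [← beq_iff, h1.2] at e
  exact Bool.false_ne_true e

/-- the generators of `M` (involutions) conjugate the generators of `N` into `N` -/
noncomputable def chkNorm (M N : MData) (TB : ℕ) : Bool :=
  allLt M.ng fun gi => withVal (M.getG gi) fun g => allLt N.ng fun k =>
    withVal (tab TB (Nat.add (Nat.mul gi N.ng) k)) fun j =>
      Nat.blt j N.n && Nat.beq (mulB (mulB g (N.getG k)) g) (N.getE j)

theorem chkNorm_spec (M N : MData) (TB : ℕ) (h : chkNorm M N TB = true) (gi : ℕ)
    (hgi : gi < M.ng) (k : ℕ) (hk : k < N.ng) :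
    ∃ j < N.n, mulB (mulB (M.getG gi) (N.getG k)) (M.getG gi) = N.getE j := by
  unfold chkNorm at h
  rw [allLt_iff] at h
  have h1 := h gi hgi
  simp only [withVal_eq] at h1
  rw [allLt_iff] at h1
  have h2 := h1 k hk
  simp only [Bool.and_eq_true, blt_iff, beq_iff] at h2
  exact ⟨_, h2.1, h2.2⟩

/-- the generators commute with `t` -/
noncomputable def chkComm (M : MData) (t : ℕ) : Bool :=
  allLt M.ng fun gi => withVal (M.getG gi) fun g => Nat.beq (mulB g t) (mulB t g)

theorem chkComm_spec (M : MData) (t : ℕ) (h : chkComm M t = true) (gi : ℕ) (hgi : gi < M.ng) :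
    mulB (M.getG gi) t = mulB t (M.getG gi) := by
  unfold chkComm at h
  rw [allLt_iff] at h
  have h1 := h gi hgi
  simp only [withVal_eq, beq_iff] at h1
  exact h1

/-- an element of `M` other than the identity and `t` fails to commute with the generator of `N`
named in the table -/
noncomputable def chkCentW (M N : MData) (t TB : ℕ) : Bool :=
  allLt M.n fun i => withVal (M.getE i) fun x =>
    Nat.beq x ID || (Nat.beq x t || withVal (tab TB i) fun k => withVal (N.getG k) fun g =>
      Nat.blt k N.ng && not (Nat.beq (Nat.land (mulB x g) M162) (Nat.land (mulB g x) M162)))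

theorem chkCentW_spec (M N : MData) (t TB : ℕ) (h : chkCentW M N t TB = true) (i : ℕ)
    (hi : i < M.n)
    (hc : ∀ k < N.ng, Nat.land (mulB (M.getE i) (N.getG k)) M162 =
      Nat.land (mulB (N.getG k) (M.getE i)) M162) :
    M.getE i = ID ∨ M.getE i = t := by
  unfold chkCentW at h
  rw [allLt_iff] at h
  have h1 := h i hi
  simp only [withVal_eq, Bool.or_eq_true, Bool.and_eq_true, beq_iff, blt_iff,
    Bool.not_eq_true'] at h1
  rcases h1 with h1 | h1 | ⟨hk, hne⟩
  · exact Or.inl h1
  · exact Or.inr h1
  · exfalso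
    have := hc _ hk
    rw [← beq_iff, hne] at this
    exact Bool.false_ne_true this

/-- no element of `M` other than the identity commutes with `g` -/
noncomputable def chkNoComm (M : MData) (g : ℕ) : Bool :=
  allLt M.n fun i => withVal (M.getE i) fun x =>
    Nat.beq x ID || not (Nat.beq (Nat.land (mulB x g) M162) (Nat.land (mulB g x) M162))

theorem chkNoComm_spec (M : MData) (g : ℕ) (h : chkNoComm M g = true) (i : ℕ) (hi : i < M.n)
    (hc : Nat.land (mulB (M.getE i) g) M162 = Nat.land (mulB g (M.getE i)) M162) :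
    M.getE i = ID := by
  unfold chkNoComm at h
  rw [allLt_iff] at h
  have h1 := h i hi
  simp only [withVal_eq, Bool.or_eq_true, beq_iff, Bool.not_eq_true'] at h1
  rcases h1 with h1 | h1
  · exact h1
  · exfalso
    rw [← beq_iff, h1] at hc
    exact Bool.false_ne_true hc

/-- squares are `1` or `t`, commutators are `1` or `t` -/
noncomputable def chkSqComm (M : MData) (t : ℕ) : Bool :=
  allLt M.n fun k => withVal (M.getE k) fun x => withVal (mulB x x) fun xx =>
    (Nat.beq xx ID || Nat.beq xx t) && allLt M.n fun l => withVal (M.getE l) fun y =>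
      withVal (mulB x y) fun xy => withVal (mulB y x) fun yx =>
        Nat.beq xy yx || Nat.beq xy (mulB t yx)

theorem chkSqComm_spec (M : MData) (t : ℕ) (h : chkSqComm M t = true) (k : ℕ) (hk : k < M.n) :
    (mulB (M.getE k) (M.getE k) = ID ∨ mulB (M.getE k) (M.getE k) = t) ∧
      ∀ l < M.n, mulB (M.getE k) (M.getE l) = mulB (M.getE l) (M.getE k) ∨
        mulB (M.getE k) (M.getE l) = mulB t (mulB (M.getE l) (M.getE k)) := by
  unfold chkSqComm at h
  rw [allLt_iff] at h
  have h1 := h k hk
  simp only [withVal_eq, Bool.and_eq_true, Bool.or_eq_true, beq_iff] at h1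
  refine ⟨h1.1, fun l hl => ?_⟩
  have h2 := h1.2
  rw [allLt_iff] at h2
  have h3 := h2 l hl
  simp only [Bool.or_eq_true, beq_iff] at h3
  exact h3

/-- the number of elements with square `1` -/
noncomputable def cntSq (M : MData) : ℕ :=
  sumLt M.n fun k => cond (Nat.beq (Nat.land (mulB (M.getE k) (M.getE k)) M162) ID) 1 0

/-- two lists have only the identity in common -/
noncomputable def chkDisj (M N : MData) : Bool :=
  allLt M.n fun k => withVal (M.getE k) fun x =>
    Nat.beq x ID || allLt N.n fun l => not (Nat.beq x (N.getE l))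

theorem chkDisj_spec (M N : MData) (h : chkDisj M N = true) (k : ℕ) (hk : k < M.n) (l : ℕ)
    (hl : l < N.n) (e : M.getE k = N.getE l) : M.getE k = ID := by
  unfold chkDisj at h
  rw [allLt_iff] at h
  have h1 := h k hk
  simp only [withVal_eq, Bool.or_eq_true, beq_iff] at h1
  rcases h1 with h1 | h1
  · exact h1
  · exfalso
    rw [allLt_iff] at h1
    have h2 := h1 l hl
    rw [Bool.not_eq_true', ← Bool.not_eq_true, beq_iff] at h2
    exact h2 e

/-- every element of `A` other than the identity has a conjugate under `H` outside `A`; the table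
gives the places in `H` of the conjugating element and its inverse -/
noncomputable def chkCore (A H : MData) (TB : ℕ) : Bool :=
  allLt A.n fun k => withVal (A.getE k) fun x =>
    Nat.beq x ID || withVal (tab TB k) fun r =>
      withVal (H.getE (Nat.land r 255)) fun h => withVal (H.getE (Nat.shiftRight r 8)) fun h' =>
        withVal (Nat.land (mulB (mulB h x) h') M162) fun y =>
          Nat.blt (Nat.land r 255) H.n && (Nat.blt (Nat.shiftRight r 8) H.n &&
            (Nat.beq (mulB h h') ID && allLt A.n fun m => not (Nat.beq y (A.getE m))))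

theorem chkCore_spec (A H : MData) (TB : ℕ) (h : chkCore A H TB = true) (k : ℕ) (hk : k < A.n)
    (hne : A.getE k ≠ ID) :
    ∃ w < H.n, ∃ w' < H.n, mulB (H.getE w) (H.getE w') = ID ∧
      ∀ m < A.n, Nat.land (mulB (mulB (H.getE w) (A.getE k)) (H.getE w')) M162 ≠ A.getE m := by
  unfold chkCore at h
  rw [allLt_iff] at h
  have h1 := h k hk
  simp only [withVal_eq, Bool.or_eq_true, Bool.and_eq_true, beq_iff, blt_iff] at h1
  rcases h1 with h1 | ⟨hw, hw', e, hm⟩
  · exact absurd h1 hne
  · refine ⟨_, hw, _, hw', e, fun m hm' => ?_⟩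
    rw [allLt_iff] at hm
    have h2 := hm m hm'
    rw [Bool.not_eq_true', ← Bool.not_eq_true, beq_iff] at h2
    exact h2

/-- the involutions of `M` are in the class `K`, at the places given by the table -/
noncomputable def chkInvCls (M : MData) (K : CData) (TB : ℕ) : Bool :=
  allLt M.n fun k => withVal (M.getE k) fun x =>
    not (Nat.beq (Nat.land (mulB x x) M162) ID) || (Nat.beq x ID || withVal (tab TB k) fun j =>
      Nat.blt j K.n && Nat.beq (K.getP j) x)

theorem chkInvCls_spec (M : MData) (K : CData) (TB : ℕ) (h : chkInvCls M K TB = true) (k : ℕ)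
    (hk : k < M.n) (hsq : Nat.land (mulB (M.getE k) (M.getE k)) M162 = ID)
    (hne : M.getE k ≠ ID) :
    ∃ j < K.n, K.getP j = M.getE k := by
  unfold chkInvCls at h
  rw [allLt_iff] at h
  have h1 := h k hk
  simp only [withVal_eq, Bool.or_eq_true, Bool.and_eq_true, beq_iff, blt_iff,
    Bool.not_eq_true'] at h1
  rcases h1 with h1 | h1 | h1
  · exfalso
    rw [← beq_iff, h1] at hsq
    exact Bool.false_ne_true hsq
  · exact absurd h1 hne
  · exact ⟨_, h1.1, h1.2⟩

end Cfsg.Agent.Lib.Helper8.J3C
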