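import Cfsg.Agent.Lib.Helper8.J3z

set_option autoImplicit false
set_option maxRecDepth 100000
set_option linter.unusedVariables false
set_option linter.unusedSectionVars false
set_option linter.style.haveILetI false

/-! The centraliser of an involution of the triple cover of J3: what the checks say about the
groups. -/

namespace Cfsg.Agent.Lib.Helper8.J3C

open Cfsg.Agent.Lib.Helper8.F4M Cfsg.Agent.Lib.Helper8.MatN Cfsg.Agent.Lib.Helper8.FastDec
  Cfsg.Agent.Lib.Helper8 Cfsg.Agent.Lib.Helper8.J3D Cfsg.Spor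

variable {F : Type*} [Field F] [Fintype F] (ω : F)

/-- what is known of a list group -/
structure MData.Ok (M : MData) : Prop where
  U : ∀ gi < M.ng, IsUnit (decM ω (M.getG gi))
  T : chkMT M = true
  S : chkMS M = true
  C : chkMC M = true

theorem M162_eq : M162 = 2 ^ 162 - 1 := by decide

theorem land_M162 (a : ℕ) : Nat.land a M162 = a % 2 ^ 162 := by
  rw [M162_eq]
  exact Nat.and_two_pow_sub_one_eq_mod a 162

theorem land_of_lt (a : ℕ) (h : a < 2 ^ 162) : Nat.land a M162 = a := by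
  rw [land_M162, Nat.mod_eq_of_lt h]

theorem ID_lt : ID < 2 ^ 162 := by decide

section gen

variable (h2 : (2 : F) = 0) (hω : ω ^ 2 + ω + 1 = 0)

include h2 hω

theorem decM_mod (a b : ℕ) (h : decM ω a = decM ω b) : a % 2 ^ 162 = b % 2 ^ 162 := by
  have h162 : (2 : ℕ) ^ 162 = 4 ^ 81 := by norm_num
  rw [h162, mod_pow_eq_sum, mod_pow_eq_sum]
  apply Finset.sum_congr rfl
  intro k hk
  have hk' := Finset.mem_range.mp hk
  obtain ⟨w, hw⟩ := exists_idx (k % 9) (Nat.mod_lt _ (by norm_num))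
  obtain ⟨z, hz⟩ := exists_idx (k / 9) (by omega)
  have hk2 : k = idx w + 9 * idx z := by omega
  congr 1
  rw [hk2]
  exact decF_inj ω h2 hω _ _ (dig4_lt _ _) (dig4_lt _ _) (congrFun (congrFun h w) z)

theorem land_eq_of_Q_eq {a b : ℕ} (ua : IsUnit (decM ω a)) (ub : IsUnit (decM ω b))
    (h : Q ω a = Q ω b) : Nat.land a M162 = Nat.land b M162 := by
  rw [land_M162, land_M162]
  apply decM_mod ω h2 hω
  rw [← Q_val ω ua, ← Q_val ω ub, h]

theorem land_eq_ID {a : ℕ} (ua : IsUnit (decM ω a)) (h : Q ω a = 1) : Nat.land a M162 = ID := by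
  rw [← Q_ID ω] at h
  rw [land_eq_of_Q_eq ω h2 hω ua (isUnit_ID ω) h, land_of_lt ID ID_lt]

variable {M : MData}

theorem MData.Ok.mem (hM : M.Ok ω) (j : ℕ) (hj : j < M.n) :
    IsUnit (decM ω (M.getE j)) ∧ Q ω (M.getE j) ∈ M.grp ω :=
  MData.mem ω h2 hω M hM.U hM.T j hj

theorem MData.Ok.cover (hM : M.Ok ω) (x : Matrix.GeneralLinearGroup I9 F) (hx : x ∈ M.grp ω) :
    ∃ j < M.n, x = Q ω (M.getE j) :=
  MData.cover ω h2 hω M hM.U hM.T hM.C x hx

theorem MData.Ok.card (hM : M.Ok ω) : Nat.card (M.grp ω) = M.n :=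
  MData.card ω h2 hω M hM.U hM.T hM.S hM.C

theorem MData.Ok.gen_mem (hM : M.Ok ω) (gi : ℕ) (hgi : gi < M.ng) :
    Q ω (M.getG gi) ∈ M.grp ω := Subgroup.subset_closure ⟨gi, hgi, rfl⟩

theorem MData.Ok.eq_one (hM : M.Ok ω) (j : ℕ) (hj : j < M.n) (h : Q ω (M.getE j) = 1) :
    M.getE j = ID := by
  have := land_eq_ID ω h2 hω (hM.mem ω h2 hω j hj).1 h
  rwa [land_of_lt _ (getE_lt M j)] at this

theorem MData.Ok.eq_of (hM : M.Ok ω) (j : ℕ) (hj : j < M.n) {b : ℕ} (hb : b < 2 ^ 162)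
    (ub : IsUnit (decM ω b)) (h : Q ω (M.getE j) = Q ω b) : M.getE j = b :=
  Q_inj ω h2 hω (getE_lt M j) hb (hM.mem ω h2 hω j hj).1 ub h

/-- a list group whose generators are elements of another -/
theorem sub_ok (M N : MData) (IX : ℕ) (h : chkSub M N IX = true) (hN : N.Ok ω)
    (hT : chkMT M = true) (hS : chkMS M = true) (hC : chkMC M = true) :
    M.Ok ω ∧ M.grp ω ≤ N.grp ω := by
  have hU : ∀ gi < M.ng, IsUnit (decM ω (M.getG gi)) := by
    intro gi hgi
    obtain ⟨j, hj, e⟩ := chkSub_spec M N IX h gi hgi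
    rw [e]
    exact (hN.mem ω h2 hω j hj).1
  refine ⟨⟨hU, hT, hS, hC⟩, ?_⟩
  apply (Subgroup.closure_le _).mpr
  rintro _ ⟨gi, hgi, rfl⟩
  obtain ⟨j, hj, e⟩ := chkSub_spec M N IX h gi hgi
  rw [e]
  exact (hN.mem ω h2 hω j hj).2

/-- counting the elements of a list group with a property -/
theorem MData.Ok.ncard_filter (hM : M.Ok ω) (P : Matrix.GeneralLinearGroup I9 F → Prop)
    (p : ℕ → Bool) (hp : ∀ k < M.n, P (Q ω (M.getE k)) ↔ p k = true) :
    {x | x ∈ M.grp ω ∧ P x}.ncard = sumLt M.n (fun k => cond (p k) 1 0) := by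
  classical
  have hinj : Function.Injective (fun k : Fin M.n => Q ω (M.getE k)) := by
    intro i j e
    exact Fin.ext (MData.inj ω h2 hω M hM.U hM.T hM.S i.1 j.1 i.2 j.2 e)
  have hset : {x | x ∈ M.grp ω ∧ P x} =
      (fun k : Fin M.n => Q ω (M.getE k)) '' {k : Fin M.n | p k.1 = true} := by
    ext x
    constructor
    · rintro ⟨hx, hPx⟩
      obtain ⟨j, hj, rfl⟩ := hM.cover ω h2 hω x hx
      exact ⟨⟨j, hj⟩, (hp j hj).mp hPx, rfl⟩
    · rintro ⟨k, hk, rfl⟩
      exact ⟨(hM.mem ω h2 hω k.1 k.2).2, (hp k.1 k.2).mpr hk⟩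
  rw [hset, Set.ncard_image_of_injective _ hinj, sumLt_eq,
    ← Fin.sum_univ_eq_sum_range (fun k => cond (p k) 1 0) M.n]
  have hfs : {k : Fin M.n | p k.1 = true} =
      ((Finset.univ.filter fun k : Fin M.n => p k.1 = true : Finset (Fin M.n)) : Set (Fin M.n)) := by
    ext k
    simp
  rw [hfs, Set.ncard_coe_finset, Finset.card_filter]
  apply Finset.sum_congr rfl
  intro k _
  cases p k.1 <;> rfl

/-- bounding the number of elements of a list group with a property -/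
theorem MData.Ok.ncard_filter_le (hM : M.Ok ω) (P : Matrix.GeneralLinearGroup I9 F → Prop)
    (p : ℕ → Bool) (hp : ∀ k < M.n, P (Q ω (M.getE k)) → p k = true) :
    {x | x ∈ M.grp ω ∧ P x}.ncard ≤ sumLt M.n (fun k => cond (p k) 1 0) := by
  classical
  have hinj : Function.Injective (fun k : Fin M.n => Q ω (M.getE k)) := by
    intro i j e
    exact Fin.ext (MData.inj ω h2 hω M hM.U hM.T hM.S i.1 j.1 i.2 j.2 e)
  have hset : {x | x ∈ M.grp ω ∧ P x} ⊆
      (fun k : Fin M.n => Q ω (M.getE k)) '' {k : Fin M.n | p k.1 = true} := by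
    rintro x ⟨hx, hPx⟩
    obtain ⟨j, hj, rfl⟩ := hM.cover ω h2 hω x hx
    exact ⟨⟨j, hj⟩, hp j hj hPx, rfl⟩
  refine le_trans (Set.ncard_le_ncard hset (Set.toFinite _)) ?_
  rw [Set.ncard_image_of_injective _ hinj, sumLt_eq,
    ← Fin.sum_univ_eq_sum_range (fun k => cond (p k) 1 0) M.n]
  have hfs : {k : Fin M.n | p k.1 = true} =
      ((Finset.univ.filter fun k : Fin M.n => p k.1 = true : Finset (Fin M.n)) : Set (Fin M.n)) := by
    ext k
    simp
  rw [hfs, Set.ncard_coe_finset, Finset.card_filter]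
  apply le_of_eq
  apply Finset.sum_congr rfl
  intro k _
  cases p k.1 <;> rfl

end gen

end Cfsg.Agent.Lib.Helper8.J3C
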