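import Cfsg.Agent.Lib.Helper8.J3za

set_option autoImplicit false
set_option maxRecDepth 100000
set_option linter.unusedVariables false
set_option linter.unusedSectionVars false
set_option linter.style.haveILetI false

/-! The centraliser of an involution of the triple cover of J3: the facts, as statements about
subgroups of the general linear group. -/

namespace Cfsg.Agent.Lib.Helper8.J3C

open Cfsg.Agent.Lib.Helper8.F4M Cfsg.Agent.Lib.Helper8.MatN Cfsg.Agent.Lib.Helper8.FastDec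
  Cfsg.Agent.Lib.Helper8 Cfsg.Agent.Lib.Helper8.J3D Cfsg.Spor

variable {F : Type*} [Field F] [Fintype F] (ω : F)

theorem TT_lt : TT < 2 ^ 162 := by decide

section main

variable (hF : Fintype.card F = 4) (hω : ω ^ 2 + ω + 1 = 0)

include hF hω

theorem TT_mem : IsUnit (decM ω TT) ∧ Q ω TT ∈ D0.grp ω := by
  have h := prodW_mem ω hF hω TW TW_lt
  rw [(beq_iff _ _).mp TT_word] at h
  exact h

theorem z_ne_one : Q ω TT ≠ 1 := by
  intro h
  have h2 := two_eq_zero hF
  have e := land_eq_ID ω h2 hω (TT_mem ω hF hω).1 h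
  rw [land_of_lt _ TT_lt] at e
  have := TT_ne
  rw [← Bool.not_eq_true, beq_iff] at this
  exact this e

theorem z_sq : Q ω TT * Q ω TT = 1 := by
  have h2 := two_eq_zero hF
  have u := (TT_mem ω hF hω).1
  rw [← Q_mulB ω h2 hω u u, (beq_iff _ _).mp TT_sq, Q_ID]

theorem MC_gen (gi : ℕ) (hgi : gi < MC.ng) :
    IsUnit (decM ω (MC.getG gi)) ∧ Q ω (MC.getG gi) ∈ D0.grp ω := by
  have hng : MC.ng = 3 := rfl
  rw [hng] at hgi
  interval_cases gi
  · rw [← (beq_iff _ _).mp GW0_word]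
    exact prodW_mem ω hF hω GW0 GW0_lt
  · rw [← (beq_iff _ _).mp GW1_word]
    exact prodW_mem ω hF hω GW1 GW1_lt
  · rw [← (beq_iff _ _).mp GW2_word]
    exact prodW_mem ω hF hω GW2 GW2_lt

theorem MC_ok : MC.Ok ω :=
  ⟨fun gi hgi => (MC_gen ω hF hω gi hgi).1, MC_tree, MC_sorted, MC_closed⟩

theorem MC_le : MC.grp ω ≤ D0.grp ω := by
  apply (Subgroup.closure_le _).mpr
  rintro _ ⟨gi, hgi, rfl⟩
  exact (MC_gen ω hF hω gi hgi).2

theorem MQ_ok : MQ.Ok ω ∧ MQ.grp ω ≤ MC.grp ω :=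
  sub_ok ω (two_eq_zero hF) hω MQ MC QinC QinC_ok (MC_ok ω hF hω) MQ_tree MQ_sorted MQ_closed

theorem MH_ok : MH.Ok ω ∧ MH.grp ω ≤ MC.grp ω :=
  sub_ok ω (two_eq_zero hF) hω MH MC HinC HinC_ok (MC_ok ω hF hω) MH_tree MH_sorted MH_closed

theorem MS_ok : MS.Ok ω ∧ MS.grp ω ≤ MC.grp ω :=
  sub_ok ω (two_eq_zero hF) hω MS MC SinC SinC_ok (MC_ok ω hF hω) MS_tree MS_sorted MS_closed

theorem MA_ok : MA.Ok ω ∧ MA.grp ω ≤ MH.grp ω :=
  sub_ok ω (two_eq_zero hF) hω MA MH AinH AinH_ok (MH_ok ω hF hω).1 MA_tree MA_sorted MA_closed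

theorem MQ_le_MS : MQ.grp ω ≤ MS.grp ω :=
  (sub_ok ω (two_eq_zero hF) hω MQ MS QinS QinS_ok (MS_ok ω hF hω).1 MQ_tree MQ_sorted
    MQ_closed).2

theorem card_MC : Nat.card (MC.grp ω) = 1920 := (MC_ok ω hF hω).card ω (two_eq_zero hF) hω

theorem card_MQ : Nat.card (MQ.grp ω) = 32 := (MQ_ok ω hF hω).1.card ω (two_eq_zero hF) hω

theorem card_MH : Nat.card (MH.grp ω) = 60 := (MH_ok ω hF hω).1.card ω (two_eq_zero hF) hω

theorem card_MS : Nat.card (MS.grp ω) = 128 := (MS_ok ω hF hω).1.card ω (two_eq_zero hF) hω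

theorem card_MA : Nat.card (MA.grp ω) = 12 := (MA_ok ω hF hω).1.card ω (two_eq_zero hF) hω

/-- the generators of a list group are involutions -/
theorem invol_gen (M : MData) (hM : M.Ok ω) (h : chkInvol M = true) (gi : ℕ) (hgi : gi < M.ng) :
    Q ω (M.getG gi) * Q ω (M.getG gi) = 1 ∧ Q ω (M.getG gi) ≠ 1 := by
  have h2 := two_eq_zero hF
  obtain ⟨e, hne⟩ := chkInvol_spec M h gi hgi
  refine ⟨by rw [← Q_mulB ω h2 hω (hM.U gi hgi) (hM.U gi hgi), e, Q_ID], fun h1 => ?_⟩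
  exact hne (land_eq_ID ω h2 hω (hM.U gi hgi) h1)

/-- the centraliser commutes with the involution -/
theorem MC_comm_z (c : Matrix.GeneralLinearGroup I9 F) (hc : c ∈ MC.grp ω) :
    c * Q ω TT = Q ω TT * c := by
  have h2 := two_eq_zero hF
  have hle : MC.grp ω ≤ Subgroup.centralizer {Q ω TT} := by
    apply (Subgroup.closure_le _).mpr
    rintro _ ⟨gi, hgi, rfl⟩
    rw [SetLike.mem_coe, Subgroup.mem_centralizer_iff]
    intro h hh
    rw [Set.mem_singleton_iff] at hh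
    rw [hh, ← Q_mulB ω h2 hω (TT_mem ω hF hω).1 ((MC_ok ω hF hω).U gi hgi),
      ← Q_mulB ω h2 hω ((MC_ok ω hF hω).U gi hgi) (TT_mem ω hF hω).1,
      chkComm_spec MC TT MC_comm gi hgi]
  have := hle hc
  rw [Subgroup.mem_centralizer_iff] at this
  exact (this _ rfl).symm

/-- the centraliser normalises `Q` -/
theorem MC_norm_MQ (c : Matrix.GeneralLinearGroup I9 F) (hc : c ∈ MC.grp ω)
    (q : Matrix.GeneralLinearGroup I9 F) (hq : q ∈ MQ.grp ω) : c * q * c⁻¹ ∈ MQ.grp ω := by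
  have h2 := two_eq_zero hF
  have hCok := MC_ok ω hF hω
  have hQok := (MQ_ok ω hF hω).1
  -- a generator maps `Q` into `Q`
  have hgen : ∀ gi < MC.ng, ∀ q ∈ MQ.grp ω,
      Q ω (MC.getG gi) * q * (Q ω (MC.getG gi))⁻¹ ∈ MQ.grp ω := by
    intro gi hgi q hq
    have hinv : (Q ω (MC.getG gi))⁻¹ = Q ω (MC.getG gi) :=
      inv_eq_of_mul_eq_one_right (invol_gen ω hF hω MC hCok MC_invol gi hgi).1
    rw [hinv]
    induction hq using Subgroup.closure_induction with
    | mem x hx =>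
      obtain ⟨k, hk, rfl⟩ := hx
      obtain ⟨j, hj, e⟩ := chkNorm_spec MC MQ NQ NQ_ok gi hgi k hk
      rw [← Q_mulB ω h2 hω (hCok.U gi hgi) (hQok.U k hk),
        ← Q_mulB ω h2 hω (isUnit_mulB ω h2 hω (hCok.U gi hgi) (hQok.U k hk)) (hCok.U gi hgi), e]
      exact (hQok.mem ω h2 hω j hj).2
    | one =>
      rw [mul_one, (invol_gen ω hF hω MC hCok MC_invol gi hgi).1]
      exact one_mem _
    | mul x y _ _ ihx ihy =>
      have e : Q ω (MC.getG gi) * (x * y) * Q ω (MC.getG gi) =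
          (Q ω (MC.getG gi) * x * Q ω (MC.getG gi)) * (Q ω (MC.getG gi) * y * Q ω (MC.getG gi)) := by
        have hs := (invol_gen ω hF hω MC hCok MC_invol gi hgi).1
        calc Q ω (MC.getG gi) * (x * y) * Q ω (MC.getG gi)
            = Q ω (MC.getG gi) * x * 1 * y * Q ω (MC.getG gi) := by group
          _ = _ := by rw [← hs]; group
      rw [e]
      exact mul_mem ihx ihy
    | inv x _ ihx =>
      have e : Q ω (MC.getG gi) * x⁻¹ * Q ω (MC.getG gi) =
          (Q ω (MC.getG gi) * x * Q ω (MC.getG gi))⁻¹ := by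
        rw [mul_inv_rev, mul_inv_rev, hinv, mul_assoc]
      rw [e]
      exact inv_mem ihx
  have hle : MC.grp ω ≤ Subgroup.normalizer (MQ.grp ω : Set (Matrix.GeneralLinearGroup I9 F)) := by
    apply (Subgroup.closure_le _).mpr
    rintro _ ⟨gi, hgi, rfl⟩
    rw [SetLike.mem_coe, Subgroup.mem_normalizer_iff]
    intro h
    constructor
    · exact hgen gi hgi h
    · intro hh
      have h1 := hgen gi hgi _ hh
      have hinv : (Q ω (MC.getG gi))⁻¹ = Q ω (MC.getG gi) :=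
        inv_eq_of_mul_eq_one_right (invol_gen ω hF hω MC hCok MC_invol gi hgi).1
      have e : Q ω (MC.getG gi) * (Q ω (MC.getG gi) * h * (Q ω (MC.getG gi))⁻¹) *
          (Q ω (MC.getG gi))⁻¹ = h := by
        rw [hinv]
        have hs := (invol_gen ω hF hω MC hCok MC_invol gi hgi).1
        calc Q ω (MC.getG gi) * (Q ω (MC.getG gi) * h * Q ω (MC.getG gi)) * Q ω (MC.getG gi)
            = (Q ω (MC.getG gi) * Q ω (MC.getG gi)) * h *
              (Q ω (MC.getG gi) * Q ω (MC.getG gi)) := by group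
          _ = h := by rw [hs, one_mul, mul_one]
      rw [e] at h1
      exact h1
  have := hle hc
  rw [Subgroup.mem_normalizer_iff] at this
  exact (this q).mp hq

end main

end Cfsg.Agent.Lib.Helper8.J3C
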