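import Cfsg.Agent.Lib.Helper8.J3zb
import Cfsg.Agent.Lib.Helper4.ES2F

set_option autoImplicit false
set_option maxRecDepth 100000
set_option linter.unusedVariables false
set_option linter.unusedSectionVars false
set_option linter.style.haveILetI false

/-! The centraliser of an involution of the triple cover of J3: more facts. -/

namespace Cfsg.Agent.Lib.Helper8.J3C

open Cfsg.Agent.Lib.Helper8.F4M Cfsg.Agent.Lib.Helper8.MatN Cfsg.Agent.Lib.Helper8.FastDec
  Cfsg.Agent.Lib.Helper8 Cfsg.Agent.Lib.Helper8.J3D Cfsg.Spor Cfsg.Agent.Lib.Helper4.ES2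

variable {F : Type*} [Field F] [Fintype F] (ω : F)

section main

variable (hF : Fintype.card F = 4) (hω : ω ^ 2 + ω + 1 = 0)

include hF hω

theorem z_mem_MQ : Q ω TT ∈ MQ.grp ω := by
  have h := ((MQ_ok ω hF hω).1.mem ω (two_eq_zero hF) hω 6 (by decide)).2
  rw [(beq_iff _ _).mp TinQ] at h
  exact h

/-- commutation of two coded elements, from the group to the codes -/
theorem land_comm {a b : ℕ} (ua : IsUnit (decM ω a)) (ub : IsUnit (decM ω b))
    (h : Q ω a * Q ω b = Q ω b * Q ω a) :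
    Nat.land (mulB a b) M162 = Nat.land (mulB b a) M162 := by
  have h2 := two_eq_zero hF
  apply land_eq_of_Q_eq ω h2 hω (isUnit_mulB ω h2 hω ua ub) (isUnit_mulB ω h2 hω ub ua)
  rw [Q_mulB ω h2 hω ua ub, Q_mulB ω h2 hω ub ua, h]

/-- the data of an extraspecial group for `Q` -/
theorem MQ_data : Data (MQ.grp ω) (Q ω TT) := by
  have h2 := two_eq_zero hF
  have hQok := (MQ_ok ω hF hω).1
  have uT := (TT_mem ω hF hω).1
  refine ⟨z_mem_MQ ω hF hω, z_ne_one ω hF hω, z_sq ω hF hω, ?_, ?_, ?_, ?_⟩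
  · intro q hq
    exact MC_comm_z ω hF hω q ((MQ_ok ω hF hω).2 hq)
  · intro c hc hcomm
    obtain ⟨i, hi, rfl⟩ := hQok.cover ω h2 hω c hc
    have ui := (hQok.mem ω h2 hω i hi).1
    have h1 := chkCentW_spec MQ MQ TT WQ WQ_ok i hi (by
      intro k hk
      apply land_comm ω hF hω ui (hQok.U k hk)
      exact (hcomm _ (hQok.gen_mem ω h2 hω k hk)).symm)
    rcases h1 with h1 | h1
    · left; rw [h1, Q_ID]
    · right; rw [h1]
  · intro a ha b hb
    obtain ⟨k, hk, rfl⟩ := hQok.cover ω h2 hω a ha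
    obtain ⟨l, hl, rfl⟩ := hQok.cover ω h2 hω b hb
    have uk := (hQok.mem ω h2 hω k hk).1
    have ul := (hQok.mem ω h2 hω l hl).1
    rcases (chkSqComm_spec MQ TT MQ_sqcomm k hk).2 l hl with e | e
    · left
      rw [cm_eq_one_iff, ← Q_mulB ω h2 hω uk ul, ← Q_mulB ω h2 hω ul uk, e]
    · right
      have e1 : Q ω (MQ.getE k) * Q ω (MQ.getE l) =
          Q ω TT * (Q ω (MQ.getE l) * Q ω (MQ.getE k)) := by
        rw [← Q_mulB ω h2 hω uk ul, ← Q_mulB ω h2 hω ul uk,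
          ← Q_mulB ω h2 hω uT (isUnit_mulB ω h2 hω ul uk), e]
      unfold cm
      rw [e1]
      group
  · intro a ha
    obtain ⟨k, hk, rfl⟩ := hQok.cover ω h2 hω a ha
    have uk := (hQok.mem ω h2 hω k hk).1
    rcases (chkSqComm_spec MQ TT MQ_sqcomm k hk).1 with e | e
    · left; rw [← Q_mulB ω h2 hω uk uk, e, Q_ID]
    · right; rw [← Q_mulB ω h2 hω uk uk, e]

theorem MQ_cm : ∃ a ∈ MQ.grp ω, ∃ b ∈ MQ.grp ω, cm a b = Q ω TT := by
  have h2 := two_eq_zero hF
  have hQok := (MQ_ok ω hF hω).1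
  have uT := (TT_mem ω hF hω).1
  obtain ⟨u0, m0⟩ := hQok.mem ω h2 hω 0 (by decide)
  obtain ⟨u2, m2⟩ := hQok.mem ω h2 hω 2 (by decide)
  refine ⟨_, m0, _, m2, ?_⟩
  have e1 : Q ω (MQ.getE 0) * Q ω (MQ.getE 2) =
      Q ω TT * (Q ω (MQ.getE 2) * Q ω (MQ.getE 0)) := by
    rw [← Q_mulB ω h2 hω u0 u2, ← Q_mulB ω h2 hω u2 u0,
      ← Q_mulB ω h2 hω uT (isUnit_mulB ω h2 hω u2 u0), (beq_iff _ _).mp cmPair]
  unfold cm
  rw [e1]
  group

theorem MQ_invCount : invCount (MQ.grp ω) ≤ 12 := by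
  have h2 := two_eq_zero hF
  have hQok := (MQ_ok ω hF hω).1
  unfold invCount
  have h := hQok.ncard_filter_le ω h2 hω (fun x => x * x = 1)
    (fun k => Nat.beq (Nat.land (mulB (MQ.getE k) (MQ.getE k)) M162) ID) (by
      intro k hk h
      have uk := (hQok.mem ω h2 hω k hk).1
      rw [beq_iff]
      rw [← Q_mulB ω h2 hω uk uk] at h
      exact land_eq_ID ω h2 hω (isUnit_mulB ω h2 hω uk uk) h)
  have e : sumLt MQ.n (fun k => cond (Nat.beq (Nat.land (mulB (MQ.getE k) (MQ.getE k)) M162) ID)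
      1 0) = 12 := MQ_cnt
  rw [e] at h
  exact h

end main

end Cfsg.Agent.Lib.Helper8.J3C
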