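import Cfsg.Agent.Lib.Helper8.J3zc

set_option autoImplicit false
set_option maxRecDepth 100000
set_option linter.unusedVariables false
set_option linter.unusedSectionVars false
set_option linter.style.haveILetI false

/-! The centraliser of an involution of the triple cover of J3: still more facts. -/

namespace Cfsg.Agent.Lib.Helper8.J3C

open Cfsg.Agent.Lib.Helper8.F4M Cfsg.Agent.Lib.Helper8.MatN Cfsg.Agent.Lib.Helper8.FastDec
  Cfsg.Agent.Lib.Helper8 Cfsg.Agent.Lib.Helper8.J3D Cfsg.Spor Cfsg.Agent.Lib.Helper4.ES2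

variable {F : Type*} [Field F] [Fintype F] (ω : F)

section main

variable (hF : Fintype.card F = 4) (hω : ω ^ 2 + ω + 1 = 0)

include hF hω

theorem MH_disj_MQ : Disjoint (MH.grp ω) (MQ.grp ω) := by
  have h2 := two_eq_zero hF
  have hHok := (MH_ok ω hF hω).1
  have hQok := (MQ_ok ω hF hω).1
  rw [Subgroup.disjoint_def]
  intro x hxH hxQ
  obtain ⟨k, hk, rfl⟩ := hHok.cover ω h2 hω x hxH
  obtain ⟨l, hl, e⟩ := hQok.cover ω h2 hω _ hxQ
  have e' := hHok.eq_of ω h2 hω k hk (getE_lt MQ l) (hQok.mem ω h2 hω l hl).1 e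
  rw [chkDisj_spec MH MQ HQ_disj k hk l hl e', Q_ID]

theorem MA_core (x : Matrix.GeneralLinearGroup I9 F) (hx : x ∈ MA.grp ω) (hne : x ≠ 1) :
    ∃ h ∈ MH.grp ω, h * x * h⁻¹ ∉ MA.grp ω := by
  have h2 := two_eq_zero hF
  have hHok := (MH_ok ω hF hω).1
  have hAok := (MA_ok ω hF hω).1
  obtain ⟨k, hk, rfl⟩ := hAok.cover ω h2 hω x hx
  have uk := (hAok.mem ω h2 hω k hk).1
  have hk1 : MA.getE k ≠ ID := fun e => hne (by rw [e, Q_ID])
  obtain ⟨w, hw, w', hw', e, hm⟩ := chkCore_spec MA MH WA WA_ok k hk hk1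
  obtain ⟨uw, mw⟩ := hHok.mem ω h2 hω w hw
  obtain ⟨uw', mw'⟩ := hHok.mem ω h2 hω w' hw'
  have hinv : (Q ω (MH.getE w))⁻¹ = Q ω (MH.getE w') :=
    inv_eq_of_mul_eq_one_right (by rw [← Q_mulB ω h2 hω uw uw', e, Q_ID])
  refine ⟨Q ω (MH.getE w), mw, fun hmem => ?_⟩
  have u1 := isUnit_mulB ω h2 hω uw uk
  rw [hinv, ← Q_mulB ω h2 hω uw uk, ← Q_mulB ω h2 hω u1 uw'] at hmem
  obtain ⟨m, hm', e2⟩ := hAok.cover ω h2 hω _ hmem
  have h3 := land_eq_of_Q_eq ω h2 hω (isUnit_mulB ω h2 hω u1 uw') (hAok.mem ω h2 hω m hm').1 e2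
  rw [land_of_lt _ (getE_lt MA m)] at h3
  exact hm m hm' h3

theorem MC_cent_MQ (c : Matrix.GeneralLinearGroup I9 F) (hc : c ∈ MC.grp ω)
    (hcomm : ∀ q ∈ MQ.grp ω, c * q = q * c) : c = 1 ∨ c = Q ω TT := by
  have h2 := two_eq_zero hF
  have hCok := MC_ok ω hF hω
  have hQok := (MQ_ok ω hF hω).1
  obtain ⟨i, hi, rfl⟩ := hCok.cover ω h2 hω c hc
  have ui := (hCok.mem ω h2 hω i hi).1
  have h1 := chkCentW_spec MC MQ TT WC WC_ok i hi (by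
    intro k hk
    apply land_comm ω hF hω ui (hQok.U k hk)
    exact hcomm _ (hQok.gen_mem ω h2 hω k hk))
  rcases h1 with h1 | h1
  · left; rw [h1, Q_ID]
  · right; rw [h1]

theorem MS_center (s : Matrix.GeneralLinearGroup I9 F) (hs : s ∈ MS.grp ω)
    (hcomm : ∀ s' ∈ MS.grp ω, s * s' = s' * s) : s = 1 ∨ s = Q ω TT := by
  have h2 := two_eq_zero hF
  have hSok := (MS_ok ω hF hω).1
  obtain ⟨i, hi, rfl⟩ := hSok.cover ω h2 hω s hs
  have ui := (hSok.mem ω h2 hω i hi).1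
  have h1 := chkCentW_spec MS MS TT WS WS_ok i hi (by
    intro k hk
    apply land_comm ω hF hω ui (hSok.U k hk)
    exact hcomm _ (hSok.gen_mem ω h2 hω k hk))
  rcases h1 with h1 | h1
  · left; rw [h1, Q_ID]
  · right; rw [h1]

theorem MC_inter_center (c : Matrix.GeneralLinearGroup I9 F) (hc : c ∈ MC.grp ω)
    (hcomm : c * Q ω (D0.getG 0) = Q ω (D0.getG 0) * c) : c = 1 := by
  have h2 := two_eq_zero hF
  have hCok := MC_ok ω hF hω
  obtain ⟨i, hi, rfl⟩ := hCok.cover ω h2 hω c hc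
  have ui := (hCok.mem ω h2 hω i hi).1
  have h1 := chkNoComm_spec MC (D0.getG 0) MC_nocomm i hi
    (land_comm ω hF hω ui (unitA ω hF hω) hcomm)
  rw [h1, Q_ID]

theorem KC_conj (j : ℕ) (hj : j < 26163) : IsUnit (decM ω (KC.getP j)) ∧
    ∃ u ∈ D0.grp ω, Q ω (KC.getP j) = u * Q ω TT * u⁻¹ :=
  CData.conj ω hF hω KC (TT_mem ω hF hω).1 KC_tree j hj

theorem KC_inj (i j : ℕ) (hi : i < 26163) (hj : j < 26163)
    (e : Q ω (KC.getP i) = Q ω (KC.getP j)) : i = j :=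
  getPC_inj KC KC_sorted i j hi hj (Q_inj ω (two_eq_zero hF) hω (getPC_lt KC i) (getPC_lt KC j)
    (KC_conj ω hF hω i hi).1 (KC_conj ω hF hω j hj).1 e)

theorem MS_invol_conj (s : Matrix.GeneralLinearGroup I9 F) (hs : s ∈ MS.grp ω)
    (hsq : s * s = 1) (hne : s ≠ 1) : ∃ u ∈ D0.grp ω, s = u * Q ω TT * u⁻¹ := by
  have h2 := two_eq_zero hF
  have hSok := (MS_ok ω hF hω).1
  obtain ⟨k, hk, rfl⟩ := hSok.cover ω h2 hω s hs
  have uk := (hSok.mem ω h2 hω k hk).1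
  have hk1 : MS.getE k ≠ ID := fun e => hne (by rw [e, Q_ID])
  rw [← Q_mulB ω h2 hω uk uk] at hsq
  have hsq' := land_eq_ID ω h2 hω (isUnit_mulB ω h2 hω uk uk) hsq
  obtain ⟨j, hj, e⟩ := chkInvCls_spec MS KC IS IS_ok k hk hsq' hk1
  obtain ⟨_, u, hu, eu⟩ := KC_conj ω hF hω j hj
  exact ⟨u, hu, by rw [← e, eu]⟩

theorem MS_gen (gi : ℕ) (hgi : gi < MS.ng) :
    Q ω (MS.getG gi) ∈ MS.grp ω ∧ Q ω (MS.getG gi) * Q ω (MS.getG gi) = 1 ∧
      Q ω (MS.getG gi) ≠ 1 :=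
  ⟨(MS_ok ω hF hω).1.gen_mem ω (two_eq_zero hF) hω gi hgi,
    invol_gen ω hF hω MS (MS_ok ω hF hω).1 MS_invol gi hgi⟩

theorem MC_gen' (gi : ℕ) (hgi : gi < MC.ng) :
    Q ω (MC.getG gi) ∈ MC.grp ω ∧ Q ω (MC.getG gi) * Q ω (MC.getG gi) = 1 :=
  ⟨(MC_ok ω hF hω).gen_mem ω (two_eq_zero hF) hω gi hgi,
    (invol_gen ω hF hω MC (MC_ok ω hF hω) MC_invol gi hgi).1⟩

end main

end Cfsg.Agent.Lib.Helper8.J3C
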