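import Mathlib
import Cfsg.Prelude.Def_Transfer
import Cfsg.Agent.Lib.Helper4.ES2F
import Cfsg.Agent.Lib.Helper2.Heisenberg

set_option autoImplicit false
set_option linter.unusedVariables false
set_option linter.unusedSectionVars false
set_option linter.style.haveILetI false

/-! Abstract group theory for the involution centraliser of J3. -/

namespace Cfsg.Agent.Lib.Helper8.J3A

open Cfsg.Agent.Lib.Helper4.ES2

open scoped Nat

/-- a group of order `n!/2` with a core-free subgroup of index `n` is alternating -/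
theorem iso_alt_of_core {H : Type*} [Group H] [Finite H] (A : Subgroup H) (n : ℕ)
    (hn : A.index = n) (hcard : 2 * Nat.card H = n !)
    (hcore : ∀ x ∈ A, x ≠ 1 → ∃ h : H, h * x * h⁻¹ ∉ A) :
    Nonempty (H ≃* alternatingGroup (Fin n)) := by
  classical
  have hinj : Function.Injective (MulAction.toPermHom H (H ⧸ A)) := by
    rw [← MonoidHom.ker_eq_bot_iff, ← Subgroup.normalCore_eq_ker, eq_bot_iff]
    intro x hx
    rw [Subgroup.mem_bot]
    by_contra hne
    obtain ⟨h, hh⟩ := hcore x (Subgroup.normalCore_le A hx) hne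
    exact hh (hx h)
  have hfin : Nat.card (H ⧸ A) = n := hn
  let e : (H ⧸ A) ≃ Fin n := Finite.equivFinOfCardEq hfin
  let ψ : H →* Equiv.Perm (Fin n) :=
    e.permCongrHom.toMonoidHom.comp (MulAction.toPermHom H (H ⧸ A))
  have hψ : Function.Injective ψ := fun a b hab => hinj (e.permCongrHom.injective hab)
  have hrange : Nat.card ψ.range = Nat.card H :=
    (Nat.card_congr (MonoidHom.ofInjective hψ).toEquiv).symm
  have hidx : ψ.range.index = 2 := by
    have h1 := ψ.range.card_mul_index
    rw [hrange, Nat.card_perm, Nat.card_fin, ← hcard, mul_comm] at h1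
    have hpos : 0 < Nat.card H := Nat.card_pos
    exact Nat.eq_of_mul_eq_mul_right hpos h1
  have halt : ψ.range = alternatingGroup (Fin n) :=
    Equiv.Perm.eq_alternatingGroup_of_index_eq_two hidx
  exact ⟨(MonoidHom.ofInjective hψ).trans (MulEquiv.subgroupCongr halt)⟩

variable {E : Type*} [Group E]

/-- the data of an extraspecial group inside a group, for the subgroup as a group -/
theorem extraspecial_of_data [Finite E] {Q : Subgroup E} {z : E} (h : Data Q z)
    (hcm : ∃ a ∈ Q, ∃ b ∈ Q, cm a b = z) : Cfsg.IsExtraspecial 2 ↥Q := by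
  have hd : Data (⊤ : Subgroup ↥Q) (⟨z, h.zQ⟩ : ↥Q) := by
    refine ⟨Subgroup.mem_top _, ?_, ?_, ?_, ?_, ?_, ?_⟩
    · intro e
      exact h.z_ne (congrArg Subtype.val e)
    · exact Subtype.ext h.z_sq
    · intro q _
      exact Subtype.ext (h.z_comm q q.2)
    · intro c _ hc
      rcases h.center_sub c c.2 (fun q hq => congrArg Subtype.val (hc ⟨q, hq⟩ (Subgroup.mem_top _)))
        with h1 | h1
      · left; exact Subtype.ext h1
      · right; exact Subtype.ext h1
    · intro a _ b _
      rcases h.comm_mem a a.2 b b.2 with h1 | h1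
      · left
        apply Subtype.ext
        simpa [cm] using h1
      · right
        apply Subtype.ext
        simpa [cm] using h1
    · intro a _
      rcases h.sq_mem a a.2 with h1 | h1
      · left; exact Subtype.ext h1
      · right; exact Subtype.ext h1
  obtain ⟨a, ha, b, hb, hab⟩ := hcm
  refine extraspecial_of_data_top hd ⟨⟨a, ha⟩, ⟨b, hb⟩, ?_⟩
  apply Subtype.ext
  simpa [cm] using hab

/-- the structure of an involution centraliser claimed for J3 -/
def CentStruct (K : Type*) [Group K] : Prop :=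
  ∃ (Q : Subgroup K) (_ : Q.Normal), Cfsg.IsExtraspecial 2 Q ∧ Nat.card Q = 32 ∧
    (∀ A : Subgroup Q, Cfsg.IsElementaryAbelian 2 A → Nat.card A ≤ 2 ^ 2) ∧
    (∃ H : Subgroup K, Q.IsComplement' H) ∧ Nonempty (K ⧸ Q ≃* alternatingGroup (Fin 5))

theorem centStruct_of_data [Finite E] (C Q H A : Subgroup E) (z : E) (hQC : Q ≤ C) (hHC : H ≤ C)
    (hAH : A ≤ H) (hnorm : ∀ c ∈ C, ∀ q ∈ Q, c * q * c⁻¹ ∈ Q) (hdata : Data Q z)
    (hcm : ∃ a ∈ Q, ∃ b ∈ Q, cm a b = z) (hcQ : Nat.card Q = 32) (hinv : invCount Q ≤ 12)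
    (hcC : Nat.card C = 1920) (hcH : Nat.card H = 60) (hdisj : Disjoint H Q)
    (hcA : Nat.card A = 12) (hcore : ∀ x ∈ A, x ≠ 1 → ∃ h ∈ H, h * x * h⁻¹ ∉ A) :
    CentStruct ↥C := by
  classical
  have hQn : (Q.subgroupOf C).Normal := by
    constructor
    intro n hn g
    rw [Subgroup.mem_subgroupOf] at hn ⊢
    exact hnorm g g.2 n hn
  have eQ : ↥(Q.subgroupOf C) ≃* ↥Q := Subgroup.subgroupOfEquivOfLe hQC
  have eH : ↥(H.subgroupOf C) ≃* ↥H := Subgroup.subgroupOfEquivOfLe hHC
  have hcQ' : Nat.card (Q.subgroupOf C) = 32 := by rw [Nat.card_congr eQ.toEquiv, hcQ]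
  have hcH' : Nat.card (H.subgroupOf C) = 60 := by rw [Nat.card_congr eH.toEquiv, hcH]
  have hrk : RkLE 2 Q := by
    rcases Data.structure_thm 2 Q z hdata (by rw [hcQ]; norm_num) with hp | hm
    · exfalso
      have := hp.1
      rw [this] at hinv
      norm_num at hinv
    · exact hm.2.2.1
  refine ⟨Q.subgroupOf C, hQn, ?_, hcQ', ?_, ⟨H.subgroupOf C, ?_⟩, ?_⟩
  · exact Cfsg.Agent.Lib.Helper2.HeisLib.isExtraspecial_of_mulEquiv eQ.symm
      (extraspecial_of_data hdata hcm)
  · intro A' hA'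
    let ι : ↥(Q.subgroupOf C) →* E := C.subtype.comp (Q.subgroupOf C).subtype
    have hι : Function.Injective ι :=
      (Subgroup.subtype_injective C).comp (Subgroup.subtype_injective _)
    have hcard : Nat.card (A'.map ι) = Nat.card A' := Subgroup.card_map_of_injective hι
    rw [← hcard]
    apply hrk (A'.map ι)
    · rintro x ⟨y, hy, rfl⟩
      exact Subgroup.mem_subgroupOf.mp y.2
    · rintro _ ⟨x, hx, rfl⟩ _ ⟨y, hy, rfl⟩
      have hc := hA'.1.is_comm.comm (⟨x, hx⟩ : ↥A') ⟨y, hy⟩
      have hc' : x * y = y * x := congrArg Subtype.val hc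
      rw [← map_mul, ← map_mul, hc']
    · rintro _ ⟨x, hx, rfl⟩
      have h1 := hA'.2 x hx
      rw [← map_mul, ← pow_two, h1, map_one]
  · apply Subgroup.isComplement'_of_card_mul_and_disjoint
    · rw [hcQ', hcH', hcC]
    · rw [Subgroup.disjoint_def]
      intro x hxQ hxH
      rw [Subgroup.mem_subgroupOf] at hxQ hxH
      exact Subtype.ext ((Subgroup.disjoint_def.mp hdisj) hxH hxQ)
  · have hcomp : (H.subgroupOf C).IsComplement' (Q.subgroupOf C) := by
      apply Subgroup.isComplement'_of_card_mul_and_disjoint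
      · rw [hcQ', hcH', hcC]
      · rw [Subgroup.disjoint_def]
        intro x hxH hxQ
        rw [Subgroup.mem_subgroupOf] at hxQ hxH
        exact Subtype.ext ((Subgroup.disjoint_def.mp hdisj) hxH hxQ)
    have e1 : ↥C ⧸ Q.subgroupOf C ≃* ↥(H.subgroupOf C) := hcomp.QuotientMulEquiv
    have hfin : Finite ↥H := inferInstance
    have hidx : (A.subgroupOf H).index = 5 := by
      have h1 := (A.subgroupOf H).card_mul_index
      rw [Nat.card_congr (Subgroup.subgroupOfEquivOfLe hAH).toEquiv, hcA, hcH] at h1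
      omega
    obtain ⟨e2⟩ := iso_alt_of_core (A.subgroupOf H) 5 hidx (by rw [hcH]; decide) (by
      intro x hx hne
      rw [Subgroup.mem_subgroupOf] at hx
      obtain ⟨h, hh, hn⟩ := hcore x hx (fun e => hne (Subtype.ext e))
      refine ⟨⟨h, hh⟩, fun hmem => hn ?_⟩
      rw [Subgroup.mem_subgroupOf] at hmem
      exact hmem)
    exact ⟨e1.trans (eH.trans e2)⟩

end Cfsg.Agent.Lib.Helper8.J3A
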