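import Cfsg.Agent.Lib.Helper8.J3ze

set_option autoImplicit false
set_option linter.unusedVariables false
set_option linter.unusedSectionVars false
set_option linter.style.haveILetI false

/-! Abstract group theory for the involution centraliser of J3, continued: transport along an
isomorphism, and centralisers in a quotient by a centre of odd order. -/

namespace Cfsg.Agent.Lib.Helper8.J3A

theorem CentStruct.congr {K K' : Type*} [Group K] [Group K'] [Finite K] (e : K ≃* K')
    (h : CentStruct K) : CentStruct K' := by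
  classical
  haveI : Finite K' := Finite.of_equiv K e.toEquiv
  obtain ⟨Q, hQn, hex, hc, hel, ⟨H, hcomp⟩, ⟨eq⟩⟩ := h
  have hQn' : (Q.map e.toMonoidHom).Normal := hQn.map e.toMonoidHom e.surjective
  let eQ : ↥Q ≃* ↥(Q.map e.toMonoidHom) := e.subgroupMap Q
  let eH : ↥H ≃* ↥(H.map e.toMonoidHom) := e.subgroupMap H
  refine ⟨Q.map e.toMonoidHom, hQn', ?_, ?_, ?_, ⟨H.map e.toMonoidHom, ?_⟩, ?_⟩
  · exact Cfsg.Agent.Lib.Helper2.HeisLib.isExtraspecial_of_mulEquiv eQ hex
  · rw [← Nat.card_congr eQ.toEquiv, hc]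
  · intro A' hA'
    have hcard : Nat.card (A'.map eQ.symm.toMonoidHom) = Nat.card A' :=
      Subgroup.card_map_of_injective eQ.symm.injective
    rw [← hcard]
    apply hel
    refine ⟨⟨⟨?_⟩⟩, ?_⟩
    · rintro ⟨_, x, hx, rfl⟩ ⟨_, y, hy, rfl⟩
      apply Subtype.ext
      have hc := hA'.1.is_comm.comm (⟨x, hx⟩ : ↥A') ⟨y, hy⟩
      have hc' : x * y = y * x := congrArg Subtype.val hc
      show eQ.symm.toMonoidHom x * eQ.symm.toMonoidHom y =
        eQ.symm.toMonoidHom y * eQ.symm.toMonoidHom x
      rw [← map_mul, ← map_mul, hc']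
    · rintro _ ⟨x, hx, rfl⟩
      have h1 := hA'.2 x hx
      rw [← map_pow, h1, map_one]
  · apply Subgroup.isComplement'_of_card_mul_and_disjoint
    · rw [← Nat.card_congr eQ.toEquiv, ← Nat.card_congr eH.toEquiv, ← Nat.card_congr e.toEquiv]
      exact hcomp.card_mul_card
    · rw [Subgroup.disjoint_def]
      rintro _ ⟨q, hq, rfl⟩ ⟨h, hh, e1⟩
      have : h = q := e.injective e1
      subst this
      have := (Subgroup.disjoint_def.mp hcomp.disjoint) hq hh
      rw [this, map_one]
  · exact ⟨(QuotientGroup.congr Q (Q.map e.toMonoidHom) e rfl).symm.trans eq⟩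

/-- the centraliser of an involution in the quotient by a centre of odd order -/
theorem cent_equiv {E : Type*} [Group E] [Finite E] (z : E) (hz : z * z = 1) (C : Subgroup E)
    (hCz : ∀ c ∈ C, c * z = z * c) (hCZ : ∀ c ∈ C, c ∈ Subgroup.center E → c = 1)
    (n : ℕ) (f : Fin n → E) (hf : Function.Injective f) (hfc : ∀ j, ∃ u : E, f j = u * z * u⁻¹)
    (hodd : Odd (Nat.card (Subgroup.center E)))
    (hcard : Nat.card C * n * Nat.card (Subgroup.center E) = Nat.card E) :
    ∃ ψ : ↥C ≃* ↥(Subgroup.centralizer {(QuotientGroup.mk z : E ⧸ Subgroup.center E)}),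
      ∀ c : ↥C, ((ψ c : E ⧸ Subgroup.center E)) = QuotientGroup.mk (c : E) := by
  classical
  let π : E →* E ⧸ Subgroup.center E := QuotientGroup.mk' (Subgroup.center E)
  have hwell : ∀ c : ↥C, (π.comp C.subtype) c ∈
      Subgroup.centralizer {(QuotientGroup.mk z : E ⧸ Subgroup.center E)} := by
    intro c
    rw [Subgroup.mem_centralizer_iff]
    intro h hh
    rw [Set.mem_singleton_iff] at hh
    rw [hh]
    show π z * π c = π c * π z
    rw [← map_mul, ← map_mul, hCz c c.2]
  let ψ0 : ↥C →* ↥(Subgroup.centralizer {(QuotientGroup.mk z : E ⧸ Subgroup.center E)}) :=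
    (π.comp C.subtype).codRestrict _ hwell
  have hinj : Function.Injective ψ0 := by
    rw [injective_iff_map_eq_one]
    intro c hc
    have h1 : π (c : E) = 1 := congrArg Subtype.val hc
    have h2 : (c : E) ∈ Subgroup.center E := (QuotientGroup.eq_one_iff _).mp h1
    exact Subtype.ext (hCZ c c.2 h2)
  -- the conjugates are involutions, distinct in the quotient
  have hsq : ∀ j, f j * f j = 1 := by
    intro j
    obtain ⟨u, hu⟩ := hfc j
    rw [hu]
    calc u * z * u⁻¹ * (u * z * u⁻¹) = u * (z * z) * u⁻¹ := by group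
      _ = 1 := by rw [hz]; group
  have hinj2 : Function.Injective (fun j => π (f j)) := by
    intro i j hij
    apply hf
    have h1 : (f i)⁻¹ * f j ∈ Subgroup.center E := QuotientGroup.eq.mp hij
    set ζ := (f i)⁻¹ * f j with hζ
    have hfj : f j = f i * ζ := by rw [hζ]; group
    have hcomm : ζ * f i = f i * ζ := (Subgroup.mem_center_iff.mp h1 (f i)).symm
    have hζ2 : ζ ^ 2 = 1 := by
      have h3 := hsq j
      rw [hfj] at h3
      calc ζ ^ 2 = (f i * f i) * (ζ * ζ) := by rw [hsq i, one_mul, pow_two]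
        _ = f i * ζ * (f i * ζ) := by
          rw [mul_assoc (f i) ζ, ← mul_assoc ζ (f i), hcomm]; group
        _ = 1 := h3
    have hd1 : orderOf ζ ∣ 2 := orderOf_dvd_of_pow_eq_one hζ2
    have hd2 : orderOf ζ ∣ Nat.card (Subgroup.center E) := Subgroup.orderOf_dvd_natCard _ h1
    have hcop : Nat.Coprime 2 (Nat.card (Subgroup.center E)) := Nat.coprime_two_left.mpr hodd
    have hd3 : orderOf ζ ∣ 1 := by
      have := Nat.dvd_gcd hd1 hd2
      rwa [hcop] at this
    have hζ1 : ζ = 1 := orderOf_eq_one_iff.mp (Nat.dvd_one.mp hd3)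
    rw [hfj, hζ1, mul_one]
  -- counting
  have hsub : Set.range (fun j => π (f j)) ⊆ MulAction.orbit (ConjAct (E ⧸ Subgroup.center E)) (QuotientGroup.mk z : E ⧸ Subgroup.center E) := by
    rintro _ ⟨j, rfl⟩
    rw [ConjAct.mem_orbit_conjAct]
    obtain ⟨u, hu⟩ := hfc j
    apply IsConj.symm
    rw [isConj_iff]
    refine ⟨π u, ?_⟩
    show π u * π z * (π u)⁻¹ = π (f j)
    rw [hu, map_mul, map_mul, map_inv]
  have hn : n ≤ (MulAction.orbit (ConjAct (E ⧸ Subgroup.center E)) (QuotientGroup.mk z : E ⧸ Subgroup.center E)).ncard := by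
    have h1 : (Set.range (fun j => π (f j))).ncard = n := by
      rw [← Set.image_univ, Set.ncard_image_of_injective _ hinj2, Set.ncard_univ, Nat.card_fin]
    rw [← h1]
    exact Set.ncard_le_ncard hsub (Set.toFinite _)
  have hstab : Nat.card (Subgroup.centralizer {(QuotientGroup.mk z : E ⧸ Subgroup.center E)}) =
      Nat.card (MulAction.stabilizer (ConjAct (E ⧸ Subgroup.center E)) (QuotientGroup.mk z : E ⧸ Subgroup.center E)) :=
    Subgroup.nat_card_centralizer_nat_card_stabilizer (QuotientGroup.mk z : E ⧸ Subgroup.center E)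
  have hidx := MulAction.index_stabilizer (ConjAct (E ⧸ Subgroup.center E)) (QuotientGroup.mk z : E ⧸ Subgroup.center E)
  have hmul := (MulAction.stabilizer (ConjAct (E ⧸ Subgroup.center E)) (QuotientGroup.mk z : E ⧸ Subgroup.center E)).card_mul_index
  have hcG : Nat.card (ConjAct (E ⧸ Subgroup.center E)) = Nat.card (E ⧸ Subgroup.center E) := rfl
  have hquot := Subgroup.card_eq_card_quotient_mul_card_subgroup (Subgroup.center E)
  rw [hidx, hcG] at hmul
  have hZpos : 0 < Nat.card (Subgroup.center E) := Nat.card_pos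
  have hCn : Nat.card C * n = Nat.card (E ⧸ Subgroup.center E) := by
    rw [hquot] at hcard
    exact Nat.eq_of_mul_eq_mul_right hZpos hcard
  have hnpos : 0 < n := by
    rcases Nat.eq_zero_or_pos n with h0 | h0
    · exfalso
      rw [h0, mul_zero] at hCn
      have : 0 < Nat.card (E ⧸ Subgroup.center E) := Nat.card_pos
      omega
    · exact h0
  have hle : Nat.card (Subgroup.centralizer {(QuotientGroup.mk z : E ⧸ Subgroup.center E)}) ≤ Nat.card C := by
    rw [hstab]
    have h1 : Nat.card (MulAction.stabilizer (ConjAct (E ⧸ Subgroup.center E)) (QuotientGroup.mk z : E ⧸ Subgroup.center E)) * n ≤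
        Nat.card C * n := by
      rw [hCn, ← hmul]
      exact Nat.mul_le_mul_left _ hn
    exact Nat.le_of_mul_le_mul_right h1 hnpos
  have hbij : Function.Bijective ψ0 := hinj.bijective_of_nat_card_le hle
  exact ⟨MulEquiv.ofBijective ψ0 hbij, fun c => rfl⟩

end Cfsg.Agent.Lib.Helper8.J3A
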