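import Cfsg.Agent.Lib.Helper8.J3zd
import Cfsg.Agent.Lib.Helper8.J3zf

set_option autoImplicit false
set_option maxRecDepth 100000
set_option linter.unusedVariables false
set_option linter.unusedSectionVars false
set_option linter.style.haveILetI false

/-! The centraliser of an involution of J3. -/

namespace Cfsg.Agent.Lib.Helper8.J3C

open Cfsg.Agent.Lib.Helper8.F4M Cfsg.Agent.Lib.Helper8.MatN Cfsg.Agent.Lib.Helper8.FastDec
  Cfsg.Agent.Lib.Helper8 Cfsg.Agent.Lib.Helper8.J3D Cfsg.Spor Cfsg.Agent.Lib.Helper4.ES2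
  Cfsg.Agent.Lib.Helper8.J3A

variable {F : Type*} [Field F] [Fintype F] (ω : F)

section main

variable (hF : Fintype.card F = 4) (hω : ω ^ 2 + ω + 1 = 0)

include hF hω

/-- the structure of the centraliser, inside the general linear group -/
theorem cs_GL : CentStruct ↥(MC.grp ω) :=
  centStruct_of_data (MC.grp ω) (MQ.grp ω) (MH.grp ω) (MA.grp ω) (Q ω TT)
    (MQ_ok ω hF hω).2 (MH_ok ω hF hω).2 (MA_ok ω hF hω).2 (MC_norm_MQ ω hF hω)
    (MQ_data ω hF hω) (MQ_cm ω hF hω) (card_MQ ω hF hω) (MQ_invCount ω hF hω)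
    (card_MC ω hF hω) (card_MH ω hF hω) (MH_disj_MQ ω hF hω) (card_MA ω hF hω)
    (MA_core ω hF hω)

theorem MC_le3 : MC.grp ω ≤ threeJ3 F ω := by
  rw [threeJ3_eq ω hF hω]
  exact MC_le ω hF hω

theorem z_mem3 : Q ω TT ∈ threeJ3 F ω := by
  rw [threeJ3_eq ω hF hω]
  exact (TT_mem ω hF hω).2

theorem a_mem3 : Q ω (D0.getG 0) ∈ threeJ3 F ω := by
  rw [threeJ3_eq ω hF hω]
  exact a_mem ω hF hω

theorem KC_mem3 (j : Fin 26163) : Q ω (KC.getP j) ∈ threeJ3 F ω := by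
  obtain ⟨_, u, hu, e⟩ := KC_conj ω hF hω j.1 j.2
  rw [e, threeJ3_eq ω hF hω]
  exact mul_mem (mul_mem hu (TT_mem ω hF hω).2) (inv_mem hu)

/-- the centraliser of the image of the involution in J3 -/
theorem cent_iso :
    ∃ ψ : ↥((MC.grp ω).subgroupOf (threeJ3 F ω)) ≃*
      ↥(Subgroup.centralizer {(QuotientGroup.mk (⟨Q ω TT, z_mem3 ω hF hω⟩ : threeJ3 F ω) :
        J3 F ω)}),
      ∀ c : ↥((MC.grp ω).subgroupOf (threeJ3 F ω)),
        ((ψ c : J3 F ω)) = QuotientGroup.mk (c : threeJ3 F ω) := by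
  have hfin : Finite (threeJ3 F ω) := inferInstance
  apply cent_equiv (⟨Q ω TT, z_mem3 ω hF hω⟩ : threeJ3 F ω) (Subtype.ext (z_sq ω hF hω))
    ((MC.grp ω).subgroupOf (threeJ3 F ω)) ?_ ?_ 26163
    (fun j => (⟨Q ω (KC.getP j), KC_mem3 ω hF hω j⟩ : threeJ3 F ω)) ?_ ?_ ?_ ?_
  · intro c hc
    exact Subtype.ext (MC_comm_z ω hF hω c hc)
  · intro c hc hcen
    apply Subtype.ext
    apply MC_inter_center ω hF hω c hc
    have := Subgroup.mem_center_iff.mp hcen (⟨Q ω (D0.getG 0), a_mem3 ω hF hω⟩ : threeJ3 F ω)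
    exact (congrArg Subtype.val this).symm
  · intro i j e
    exact Fin.ext (KC_inj ω hF hω i.1 j.1 i.2 j.2 (congrArg Subtype.val e))
  · intro j
    obtain ⟨_, u, hu, e⟩ := KC_conj ω hF hω j.1 j.2
    rw [← threeJ3_eq ω hF hω] at hu
    exact ⟨⟨u, hu⟩, Subtype.ext e⟩
  · rw [(j3_main' ω hF hω).1]
    decide
  · rw [(j3_main' ω hF hω).1, card_threeJ3 ω hF hω,
      Nat.card_congr (Subgroup.subgroupOfEquivOfLe (MC_le3 ω hF hω)).toEquiv, card_MC ω hF hω]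

end main

end Cfsg.Agent.Lib.Helper8.J3C
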