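import Cfsg.Agent.Lib.Helper8.J3zf

set_option autoImplicit false
set_option linter.unusedVariables false
set_option linter.unusedSectionVars false
set_option linter.style.haveILetI false

/-! Abstract group theory: conjugacy of involutions from a Sylow 2-subgroup. -/

namespace Cfsg.Agent.Lib.Helper8.J3A

theorem sylow_two_card {G : Type*} [Group G] [Finite G] (k m : ℕ)
    (hG : Nat.card G = 2 ^ k * m) (hm : ¬ 2 ∣ m) (P : Sylow 2 G) : Nat.card P = 2 ^ k := by
  haveI : Fact (Nat.Prime 2) := ⟨Nat.prime_two⟩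
  rw [Sylow.card_eq_multiplicity, hG]
  have hm0 : m ≠ 0 := by
    rintro rfl
    exact hm (dvd_zero 2)
  congr 1
  rw [Nat.factorization_mul (by positivity) hm0, Nat.factorization_pow]
  simp [Nat.factorization_eq_zero_of_not_dvd hm, Nat.prime_two.factorization_self]

/-- a subgroup of the order of a Sylow 2-subgroup is one -/
theorem exists_sylow_eq {G : Type*} [Group G] [Finite G] (S : Subgroup G) (k m : ℕ)
    (hG : Nat.card G = 2 ^ k * m) (hm : ¬ 2 ∣ m) (hS : Nat.card S = 2 ^ k) :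
    ∃ P : Sylow 2 G, (P : Subgroup G) = S := by
  haveI : Fact (Nat.Prime 2) := ⟨Nat.prime_two⟩
  have hSp : IsPGroup 2 S := IsPGroup.of_card hS
  obtain ⟨P, hP⟩ := hSp.exists_le_sylow
  have hcP : Nat.card P = 2 ^ k := sylow_two_card k m hG hm P
  exact ⟨P, (Subgroup.eq_of_le_of_card_ge hP (by rw [hS]; exact le_of_eq hcP)).symm⟩

/-- an element of order `2` has a conjugate in a given Sylow 2-subgroup -/
theorem exists_conj_mem_sylow {G : Type*} [Group G] [Finite G] (P : Sylow 2 G) (x : G)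
    (hx : orderOf x = 2) : ∃ g : G, g⁻¹ * x * g ∈ (P : Subgroup G) := by
  haveI : Fact (Nat.Prime 2) := ⟨Nat.prime_two⟩
  have hxp : IsPGroup 2 (Subgroup.zpowers x) :=
    IsPGroup.of_card (n := 1) (by rw [Nat.card_zpowers, hx, pow_one])
  obtain ⟨P', hP'⟩ := hxp.exists_le_sylow
  obtain ⟨g, hg⟩ := MulAction.exists_smul_eq G P P'
  have hxm : x ∈ ((g • P : Sylow 2 G) : Subgroup G) := by
    rw [hg]
    exact hP' (Subgroup.mem_zpowers x)
  rw [Sylow.coe_subgroup_smul, Subgroup.mem_pointwise_smul_iff_inv_smul_mem] at hxm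
  refine ⟨g, ?_⟩
  have e : (MulAut.conj g)⁻¹ • x = g⁻¹ * x * g := by
    rw [MulAut.smul_def, MulAut.conj_inv_apply]
  rw [e] at hxm
  exact hxm

theorem invol_conj {G : Type*} [Group G] [Finite G] (S : Subgroup G) (k m : ℕ)
    (hG : Nat.card G = 2 ^ k * m) (hm : ¬ 2 ∣ m) (hS : Nat.card S = 2 ^ k) (t : G)
    (hconj : ∀ s ∈ S, s * s = 1 → s ≠ 1 → ∃ g : G, g * t * g⁻¹ = s) :
    ∀ x y : G, orderOf x = 2 → orderOf y = 2 → IsConj x y := by
  obtain ⟨P, hP⟩ := exists_sylow_eq S k m hG hm hS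
  have key : ∀ x : G, orderOf x = 2 → IsConj t x := by
    intro x hx
    obtain ⟨g, hg⟩ := exists_conj_mem_sylow P x hx
    rw [hP] at hg
    have hx2 : x * x = 1 := by
      rw [← pow_two, ← hx]
      exact pow_orderOf_eq_one x
    have hx1 : x ≠ 1 := by
      intro h
      rw [h, orderOf_one] at hx
      norm_num at hx
    obtain ⟨h, hh⟩ := hconj (g⁻¹ * x * g) hg (by
      calc g⁻¹ * x * g * (g⁻¹ * x * g) = g⁻¹ * (x * x) * g := by group
        _ = 1 := by rw [hx2]; group) (by
      intro h1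
      apply hx1
      calc x = g * (g⁻¹ * x * g) * g⁻¹ := by group
        _ = 1 := by rw [h1]; group)
    rw [isConj_iff]
    refine ⟨g * h, ?_⟩
    calc g * h * t * (g * h)⁻¹ = g * (h * t * h⁻¹) * g⁻¹ := by group
      _ = x := by rw [hh]; group
  intro x y hx hy
  exact (key x hx).symm.trans (key y hy)

end Cfsg.Agent.Lib.Helper8.J3A
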