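import Cfsg.Agent.Lib.Helper8.J3zg
import Cfsg.Agent.Lib.Helper8.J3zh

set_option autoImplicit false
set_option maxRecDepth 100000
set_option linter.unusedVariables false
set_option linter.unusedSectionVars false
set_option linter.style.haveILetI false

/-! The involutions of J3 and their centralisers. -/

namespace Cfsg.Agent.Lib.Helper8.J3C

open Cfsg.Agent.Lib.Helper8.F4M Cfsg.Agent.Lib.Helper8.MatN Cfsg.Agent.Lib.Helper8.FastDec
  Cfsg.Agent.Lib.Helper8 Cfsg.Agent.Lib.Helper8.J3D Cfsg.Spor Cfsg.Agent.Lib.Helper4.ES2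
  Cfsg.Agent.Lib.Helper8.J3A

variable {F : Type*} [Field F] [Fintype F] (ω : F)

section main

variable (hF : Fintype.card F = 4) (hω : ω ^ 2 + ω + 1 = 0)

include hF hω

theorem card_J3 : Nat.card (J3 F ω) = 50232960 := by
  have h := Subgroup.card_eq_card_quotient_mul_card_subgroup (Subgroup.center (threeJ3 F ω))
  rw [(j3_main' ω hF hω).1, card_threeJ3 ω hF hω] at h
  have : Nat.card (J3 F ω) = Nat.card (threeJ3 F ω ⧸ Subgroup.center (threeJ3 F ω)) := rfl
  omega

/-- the image of the involution in J3 -/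
noncomputable def tJ : J3 F ω :=
  QuotientGroup.mk (⟨Q ω TT, z_mem3 ω hF hω⟩ : threeJ3 F ω)

/-- the map from a subgroup of the centraliser (in the linear group) to J3 -/
noncomputable def toJ (K : Subgroup (Matrix.GeneralLinearGroup I9 F)) (hK : K ≤ MC.grp ω) :
    ↥K →* J3 F ω :=
  (QuotientGroup.mk' (Subgroup.center (threeJ3 F ω))).comp
    (Subgroup.inclusion (hK.trans (MC_le3 ω hF hω)))

theorem toJ_apply (K : Subgroup (Matrix.GeneralLinearGroup I9 F)) (hK : K ≤ MC.grp ω) (x : ↥K) :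
    toJ ω hF hω K hK x = QuotientGroup.mk (⟨x.1, (hK.trans (MC_le3 ω hF hω)) x.2⟩ : threeJ3 F ω) :=
  rfl

theorem toJ_injective (K : Subgroup (Matrix.GeneralLinearGroup I9 F)) (hK : K ≤ MC.grp ω) :
    Function.Injective (toJ ω hF hω K hK) := by
  rw [injective_iff_map_eq_one]
  intro x hx
  rw [toJ_apply] at hx
  have hcen : (⟨x.1, (hK.trans (MC_le3 ω hF hω)) x.2⟩ : threeJ3 F ω) ∈
      Subgroup.center (threeJ3 F ω) := (QuotientGroup.eq_one_iff _).mp hx
  apply Subtype.ext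
  apply MC_inter_center ω hF hω x.1 (hK x.2)
  have := Subgroup.mem_center_iff.mp hcen (⟨Q ω (D0.getG 0), a_mem3 ω hF hω⟩ : threeJ3 F ω)
  exact (congrArg Subtype.val this).symm

theorem tJ_sq : tJ ω hF hω * tJ ω hF hω = 1 := by
  unfold tJ
  rw [← QuotientGroup.mk_mul]
  have : (⟨Q ω TT, z_mem3 ω hF hω⟩ : threeJ3 F ω) * ⟨Q ω TT, z_mem3 ω hF hω⟩ = 1 :=
    Subtype.ext (z_sq ω hF hω)
  rw [this]
  rfl

theorem tJ_ne : tJ ω hF hω ≠ 1 := by
  intro h
  have hz : Q ω TT ∈ MC.grp ω := (MQ_ok ω hF hω).2 (z_mem_MQ ω hF hω)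
  have h1 : toJ ω hF hω (MC.grp ω) le_rfl ⟨Q ω TT, hz⟩ = 1 := h
  have h2 := (injective_iff_map_eq_one _).mp (toJ_injective ω hF hω (MC.grp ω) le_rfl) _ h1
  exact z_ne_one ω hF hω (congrArg Subtype.val h2)

theorem tJ_order : orderOf (tJ ω hF hω) = 2 :=
  orderOf_eq_prime (by rw [pow_two]; exact tJ_sq ω hF hω) (tJ_ne ω hF hω)

/-- all involutions of J3 are conjugate -/
theorem j3_invol_conj (x y : J3 F ω) (hx : orderOf x = 2) (hy : orderOf y = 2) : IsConj x y := by
  have hfin : Finite (J3 F ω) := inferInstance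
  have hSC := (MS_ok ω hF hω).2
  apply invol_conj (toJ ω hF hω (MS.grp ω) hSC).range 7 392445
    (by rw [card_J3 ω hF hω]; norm_num) (by decide) ?_ (tJ ω hF hω) ?_ x y hx hy
  · rw [← Nat.card_congr (MonoidHom.ofInjective (toJ_injective ω hF hω (MS.grp ω) hSC)).toEquiv,
      card_MS ω hF hω]
    norm_num
  · rintro _ ⟨s, rfl⟩ hsq hne
    have hinj := toJ_injective ω hF hω (MS.grp ω) hSC
    have hsq' : s * s = 1 := by
      apply hinj
      rw [map_mul, map_one]
      exact hsq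
    have hne' : s ≠ 1 := by
      intro h
      apply hne
      rw [h, map_one]
    obtain ⟨u, hu, e⟩ := MS_invol_conj ω hF hω s.1 s.2 (congrArg Subtype.val hsq')
      (fun h => hne' (Subtype.ext h))
    rw [← threeJ3_eq ω hF hω] at hu
    refine ⟨QuotientGroup.mk (⟨u, hu⟩ : threeJ3 F ω), ?_⟩
    rw [toJ_apply]
    unfold tJ
    rw [← QuotientGroup.mk_inv, ← QuotientGroup.mk_mul, ← QuotientGroup.mk_mul]
    congr 1
    exact Subtype.ext e.symm

/-- the centraliser of an involution of J3 -/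
theorem j3_cent : CentStruct ↥(Subgroup.centralizer ({tJ ω hF hω} : Set (J3 F ω))) := by
  obtain ⟨ψ, -⟩ := cent_iso ω hF hω
  have e1 : ↥(MC.grp ω) ≃* ↥((MC.grp ω).subgroupOf (threeJ3 F ω)) :=
    (Subgroup.subgroupOfEquivOfLe (MC_le3 ω hF hω)).symm
  have hfin : Finite ↥(MC.grp ω) := inferInstance
  exact CentStruct.congr (e1.trans ψ) (cs_GL ω hF hω)

end main

end Cfsg.Agent.Lib.Helper8.J3C
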