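import Cfsg.Agent.Lib.Helper2.SimpCrit2
import Cfsg.Agent.Lib.Helper8.J3zh

set_option autoImplicit false
set_option linter.unusedVariables false
set_option linter.unusedSectionVars false
set_option linter.style.haveILetI false

/-! Abstract group theory: the 2-fusion system of a group in which all involutions are conjugate
and the centraliser of an involution is known. -/

namespace Cfsg.Agent.Lib.Helper8.J3A

open Cfsg Cfsg.FusionSystem Cfsg.Agent.Lib.Helper2.SimpCrit2 Cfsg.Agent.Lib.Helper2.SimpCrit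

theorem fusion_simple {C G G' : Type*} [Group C] [Group G] [Group G'] [Finite C] [Finite G]
    [Finite G'] (τ : C →* G) (hτ : Function.Injective τ) (z' : C) (S' R' : Subgroup C)
    (X Y : Set C)
    (h1 : ∀ g : G, g * τ z' = τ z' * g → ∃ c : C, τ c = g)
    (h2 : ∀ x y : G, orderOf x = 2 → orderOf y = 2 → IsConj x y)
    (h3 : S' = Subgroup.closure X) (h3' : ∀ x ∈ X, x * x = 1 ∧ x ≠ 1)
    (h4 : R' ≤ S') (h4' : ∀ c : C, ∀ r ∈ R', c * r * c⁻¹ ∈ R')
    (h4'' : ∀ c : C, (∀ r ∈ R', c * r = r * c) → c ∈ R')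
    (h5 : z' ∈ S') (h5' : ∀ s ∈ S', (∀ s' ∈ S', s * s' = s' * s) → s = 1 ∨ s = z')
    (h5'' : z' ≠ 1) (h5''' : ∀ c : C, c * z' = z' * c)
    (h6 : (⊤ : Subgroup C) = Subgroup.closure Y) (h6' : ∀ y ∈ Y, y * y = 1)
    (h7 : IsPGroup 2 S')
    (ψ : G →* G') (hψ : Function.Bijective ψ) (S : Sylow 2 G')
    (hSU : (S : Subgroup G') = (S'.map τ).map ψ) :
    (groupFusionSystem (S : Subgroup G')).IsSimple 2 := by
  haveI : Fact (Nat.Prime 2) := ⟨Nat.prime_two⟩
  have hker : ψ.ker = ⊥ := (MonoidHom.ker_eq_bot_iff ψ).mpr hψ.injective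
  have hU : IsPGroup 2 (S'.map τ) := h7.map τ
  have hzS : z' ≠ 1 := h5''
  have hU1 : S'.map τ ≠ ⊥ := by
    intro h
    have : τ z' ∈ S'.map τ := Subgroup.mem_map_of_mem τ h5
    rw [h, Subgroup.mem_bot] at this
    apply h5''
    apply hτ
    rw [this, map_one]
  -- conjugation by an element of the image of `C` preserves the image of `R'`
  have hRn : ∀ c : C, ∀ r ∈ R'.map τ, τ c * r * (τ c)⁻¹ ∈ R'.map τ := by
    rintro c _ ⟨r, hr, rfl⟩
    rw [← map_inv, ← map_mul, ← map_mul]
    exact Subgroup.mem_map_of_mem τ (h4' c r hr)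
  have hRN : ∀ c : C, τ c ∈ Subgroup.normalizer ((R'.map τ : Subgroup G) : Set G) := by
    intro c
    apply mem_normalizer_of_conj_mem
    · exact hRn c
    · intro r hr
      have := hRn c⁻¹ r hr
      rwa [map_inv, inv_inv] at this
  -- the normaliser of the image of `S'` centralises the image of `z'`
  have hNz : ∀ y ∈ Subgroup.normalizer ((S'.map τ : Subgroup G) : Set G),
      y * τ z' = τ z' * y := by
    intro y hy
    have hyi : y⁻¹ ∈ Subgroup.normalizer ((S'.map τ : Subgroup G) : Set G) := inv_mem hy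
    have hw : y * τ z' * y⁻¹ ∈ S'.map τ :=
      (Subgroup.mem_normalizer_iff.mp hy _).mp (Subgroup.mem_map_of_mem τ h5)
    obtain ⟨s, hs, hsw⟩ := hw
    have hscen : ∀ s' ∈ S', s * s' = s' * s := by
      intro s' hs'
      apply hτ
      rw [map_mul, map_mul, hsw]
      have hu' : y⁻¹ * τ s' * y⁻¹⁻¹ ∈ S'.map τ :=
        (Subgroup.mem_normalizer_iff.mp hyi _).mp (Subgroup.mem_map_of_mem τ hs')
      obtain ⟨s'', hs'', e⟩ := hu'
      rw [inv_inv] at e
      have e2 : τ s' = y * τ s'' * y⁻¹ := by rw [e]; group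
      have hc : τ z' * τ s'' = τ s'' * τ z' := by
        rw [← map_mul, ← map_mul, ← h5''' s'']
      rw [e2]
      calc y * τ z' * y⁻¹ * (y * τ s'' * y⁻¹) = y * (τ z' * τ s'') * y⁻¹ := by group
        _ = y * (τ s'' * τ z') * y⁻¹ := by rw [hc]
        _ = y * τ s'' * y⁻¹ * (y * τ z' * y⁻¹) := by group
    rcases h5' s hs hscen with h | h
    · exfalso
      rw [h, map_one] at hsw
      apply h5''
      apply hτ
      rw [map_one]
      calc τ z' = y⁻¹ * (y * τ z' * y⁻¹) * y := by group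
        _ = 1 := by rw [← hsw]; group
    · rw [h] at hsw
      calc y * τ z' = (y * τ z' * y⁻¹) * y := by group
        _ = τ z' * y := by rw [← hsw]
  apply simple_of_cover ψ hψ.surjective (by rw [hker]; exact bot_le)
    (by
      intro z hz _ _
      rw [hker] at hz
      exact Subgroup.mem_bot.mp hz)
    (S'.map τ) hU hU1 S hSU ?_ {R'.map τ} ?_
    ((Subgroup.normalizer ((S'.map τ : Subgroup G) : Set G) : Subgroup G) : Set G) ?_ ?_
  · -- no strongly closed subgroups
    intro T hTU hT1 hcl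
    apply le_antisymm hTU
    have hTp : IsPGroup 2 T := hU.to_le hTU
    obtain ⟨n, hn⟩ := IsPGroup.iff_card.mp hTp
    have hn0 : n ≠ 0 := by
      rintro rfl
      rw [pow_zero] at hn
      exact hT1 (Subgroup.card_eq_one.mp hn)
    have h2dvd : 2 ∣ Nat.card T := by
      rw [hn]
      exact dvd_pow_self 2 hn0
    obtain ⟨t0, ht0⟩ := exists_prime_orderOf_dvd_card' 2 h2dvd
    have ht0' : orderOf (t0 : G) = 2 := by rw [Subgroup.orderOf_coe]; exact ht0
    rw [h3, MonoidHom.map_closure, Subgroup.closure_le]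
    rintro _ ⟨x, hx, rfl⟩
    obtain ⟨hx2, hx1⟩ := h3' x hx
    have hox : orderOf (τ x) = 2 := by
      rw [orderOf_injective τ hτ]
      exact orderOf_eq_prime (by rw [pow_two]; exact hx2) hx1
    obtain ⟨c, hc⟩ := isConj_iff.mp (h2 _ _ ht0' hox)
    have hxU : τ x ∈ S'.map τ := by
      apply Subgroup.mem_map_of_mem
      rw [h3]
      exact Subgroup.subset_closure hx
    rw [SetLike.mem_coe, ← hc]
    apply hcl _ t0.2 c
    rw [hc]
    exact hxU
  · -- the centric subgroup
    intro R hR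
    rw [Set.mem_singleton_iff] at hR
    subst hR
    refine ⟨Subgroup.map_mono h4, ?_, ?_⟩
    · rintro _ ⟨s, hs, rfl⟩ r hr
      exact hRn s r hr
    · rintro _ ⟨s, hs, rfl⟩ hcomm
      apply Subgroup.mem_map_of_mem
      apply h4''
      intro r hr
      apply hτ
      rw [map_mul, map_mul]
      exact hcomm _ (Subgroup.mem_map_of_mem τ hr)
  · -- the normaliser is generated by 2-elements normalising `R'`
    intro y hy
    refine ⟨hy, R'.map τ, rfl, ?_⟩
    obtain ⟨c, rfl⟩ := h1 y (hNz y hy)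
    have hc : c ∈ Subgroup.closure Y := by rw [← h6]; exact Subgroup.mem_top c
    have hle : (Subgroup.closure Y).map τ ≤ Subgroup.closure
        {z : G | z ∈ Subgroup.normalizer ((R'.map τ : Subgroup G) : Set G) ∧
          ∃ k : ℕ, z ^ 2 ^ k = 1} := by
      rw [MonoidHom.map_closure, Subgroup.closure_le]
      rintro _ ⟨y0, hy0, rfl⟩
      apply Subgroup.subset_closure
      refine ⟨hRN y0, 1, ?_⟩
      rw [pow_one, pow_two, ← map_mul, h6' y0 hy0, map_one]
    exact hle (Subgroup.mem_map_of_mem τ hc)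
  · exact Subgroup.subset_closure.trans (Subgroup.closure_mono Set.subset_union_left)

end Cfsg.Agent.Lib.Helper8.J3A
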