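import Cfsg.Agent.Lib.Helper8.J3zi
import Cfsg.Agent.Lib.Helper8.J3zj

set_option autoImplicit false
set_option maxRecDepth 100000
set_option linter.unusedVariables false
set_option linter.unusedSectionVars false
set_option linter.style.haveILetI false

/-! The 2-fusion system of J3 is simple. -/

namespace Cfsg.Agent.Lib.Helper8.J3C

open Cfsg.Agent.Lib.Helper8.F4M Cfsg.Agent.Lib.Helper8.MatN Cfsg.Agent.Lib.Helper8.FastDec
  Cfsg.Agent.Lib.Helper8 Cfsg.Agent.Lib.Helper8.J3D Cfsg.Spor Cfsg.Agent.Lib.Helper4.ES2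
  Cfsg.Agent.Lib.Helper8.J3A

variable {F : Type*} [Field F] [Fintype F] (ω : F)

/-- the generators of a list group, inside a larger subgroup -/
def gensIn (M : MData) (K : Subgroup (Matrix.GeneralLinearGroup I9 F)) : Set ↥K :=
  {x | ∃ gi < M.ng, (x : Matrix.GeneralLinearGroup I9 F) = Q ω (M.getG gi)}

theorem closure_gensIn (M : MData) (K : Subgroup (Matrix.GeneralLinearGroup I9 F))
    (hK : M.grp ω ≤ K) : (M.grp ω).subgroupOf K = Subgroup.closure (gensIn ω M K) := by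
  apply Subgroup.map_injective (Subgroup.subtype_injective K)
  rw [Subgroup.subgroupOf_map_subtype, inf_eq_left.mpr hK, MonoidHom.map_closure]
  unfold MData.grp
  congr 1
  ext x
  constructor
  · rintro ⟨gi, hgi, rfl⟩
    exact ⟨⟨Q ω (M.getG gi), hK (Subgroup.subset_closure ⟨gi, hgi, rfl⟩)⟩, ⟨gi, hgi, rfl⟩, rfl⟩
  · rintro ⟨y, ⟨gi, hgi, e⟩, rfl⟩
    exact ⟨gi, hgi, e⟩

section main

variable (hF : Fintype.card F = 4) (hω : ω ^ 2 + ω + 1 = 0)

include hF hω

theorem j3_fusion {G' : Type*} [Group G'] [Finite G'] (e : G' ≃* J3 F ω) (S : Sylow 2 G') :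
    (Cfsg.groupFusionSystem (S : Subgroup G')).IsSimple 2 := by
  have hfinC : Finite ↥(MC.grp ω) := inferInstance
  have hfinJ : Finite (J3 F ω) := inferInstance
  have hz : Q ω TT ∈ MC.grp ω := (MQ_ok ω hF hω).2 (z_mem_MQ ω hF hω)
  have hτ := toJ_injective ω hF hω (MC.grp ω) le_rfl
  have hcS' : Nat.card ((MS.grp ω).subgroupOf (MC.grp ω)) = 2 ^ 7 := by
    rw [Nat.card_congr (Subgroup.subgroupOfEquivOfLe (MS_ok ω hF hω).2).toEquiv, card_MS ω hF hω]
    norm_num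
  have hcU : Nat.card (((MS.grp ω).subgroupOf (MC.grp ω)).map
      (toJ ω hF hω (MC.grp ω) le_rfl)) = 2 ^ 7 := by
    rw [Subgroup.card_map_of_injective hτ, hcS']
  have hcG' : Nat.card G' = 2 ^ 7 * 392445 := by
    rw [Nat.card_congr e.toEquiv, card_J3 ω hF hω]
    norm_num
  have hcU' : Nat.card ((((MS.grp ω).subgroupOf (MC.grp ω)).map
      (toJ ω hF hω (MC.grp ω) le_rfl)).map e.symm.toMonoidHom) = 2 ^ 7 := by
    rw [Subgroup.card_map_of_injective e.symm.injective, hcU]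
  obtain ⟨P, hP⟩ := exists_sylow_eq _ 7 392445 hcG' (by decide) hcU'
  obtain ⟨g, hg⟩ := MulAction.exists_smul_eq G' P S
  obtain ⟨ψ, hψdef⟩ : ∃ ψ : J3 F ω →* G', ψ = (MulAut.conj g).toMonoidHom.comp
    e.symm.toMonoidHom := ⟨_, rfl⟩
  have hψ : Function.Bijective ψ := by
    rw [hψdef]
    exact (MulAut.conj g).bijective.comp e.symm.bijective
  have hSU : (S : Subgroup G') = (((MS.grp ω).subgroupOf (MC.grp ω)).map
      (toJ ω hF hω (MC.grp ω) le_rfl)).map ψ := by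
    rw [← hg, Sylow.coe_subgroup_smul, hψdef, ← Subgroup.map_map, ← hP]
    rfl
  apply fusion_simple (toJ ω hF hω (MC.grp ω) le_rfl) hτ (⟨Q ω TT, hz⟩ : ↥(MC.grp ω))
    ((MS.grp ω).subgroupOf (MC.grp ω)) ((MQ.grp ω).subgroupOf (MC.grp ω))
    (gensIn ω MS (MC.grp ω)) (gensIn ω MC (MC.grp ω)) ?_ (j3_invol_conj ω hF hω)
    (closure_gensIn ω MS (MC.grp ω) (MS_ok ω hF hω).2) ?_ ?_ ?_ ?_ ?_ ?_ ?_ ?_ ?_ ?_
    (IsPGroup.of_card hcS') ψ hψ S hSU
  · -- the centraliser of the involution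
    intro y hy
    obtain ⟨φ, hφ⟩ := cent_iso ω hF hω
    have hy' : y ∈ Subgroup.centralizer {(QuotientGroup.mk
        (⟨Q ω TT, z_mem3 ω hF hω⟩ : threeJ3 F ω) : J3 F ω)} := by
      rw [Subgroup.mem_centralizer_iff]
      intro h hh
      rw [Set.mem_singleton_iff] at hh
      rw [hh]
      exact hy.symm
    have h1 := hφ (φ.symm ⟨y, hy'⟩)
    rw [MulEquiv.apply_symm_apply] at h1
    refine ⟨⟨((φ.symm ⟨y, hy'⟩ : threeJ3 F ω) : Matrix.GeneralLinearGroup I9 F),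
      Subgroup.mem_subgroupOf.mp (φ.symm ⟨y, hy'⟩).2⟩, ?_⟩
    rw [toJ_apply]
    exact h1.symm
  · rintro x ⟨gi, hgi, e1⟩
    obtain ⟨_, h2, h3⟩ := MS_gen ω hF hω gi hgi
    rw [← e1] at h2 h3
    exact ⟨Subtype.ext h2, fun h => h3 (congrArg Subtype.val h)⟩
  · intro x hx
    exact MQ_le_MS ω hF hω (Subgroup.mem_subgroupOf.mp hx)
  · intro c r hr
    exact MC_norm_MQ ω hF hω c.1 c.2 r.1 (Subgroup.mem_subgroupOf.mp hr)
  · intro c hc
    rw [Subgroup.mem_subgroupOf]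
    rcases MC_cent_MQ ω hF hω c.1 c.2 (by
      intro q hq
      have := hc ⟨q, (MQ_ok ω hF hω).2 hq⟩ (Subgroup.mem_subgroupOf.mpr hq)
      exact congrArg Subtype.val this) with h | h
    · rw [h]; exact one_mem _
    · rw [h]; exact z_mem_MQ ω hF hω
  · exact MQ_le_MS ω hF hω (z_mem_MQ ω hF hω)
  · intro s hs hcomm
    rcases MS_center ω hF hω s.1 (Subgroup.mem_subgroupOf.mp hs) (by
      intro s' hs'
      have := hcomm ⟨s', (MS_ok ω hF hω).2 hs'⟩ (Subgroup.mem_subgroupOf.mpr hs')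
      exact congrArg Subtype.val this) with h | h
    · left; exact Subtype.ext h
    · right; exact Subtype.ext h
  · intro h
    exact z_ne_one ω hF hω (congrArg Subtype.val h)
  · intro c
    exact Subtype.ext (MC_comm_z ω hF hω c.1 c.2)
  · have := closure_gensIn ω MC (MC.grp ω) le_rfl
    rw [← this]
    ext x
    simp [Subgroup.mem_subgroupOf]
  · rintro y ⟨gi, hgi, e1⟩
    obtain ⟨_, h2⟩ := MC_gen' ω hF hω gi hgi
    rw [← e1] at h2
    exact Subtype.ext h2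

end main

end Cfsg.Agent.Lib.Helper8.J3C
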