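import Mathlib
import Cfsg.Agent.Lib.Helper9.JRDefs

set_option autoImplicit false

/-! Farm JR (S3206): unit G1c, core (dependencies as hypotheses). -/

namespace Cfsg.Agent.Lib.Helper8.JRG1cCore

open Cfsg.Agent.Lib.Helper9.JRDefs

variable {G : Type*} [Group G] [Finite G] {F : Type*} [Field F] [Fintype F]

theorem G1c_core (X : JR G F) (S : Sylow 2 G) (htS : X.t ∈ S)
    (hSE : ∀ s ∈ S, s ∈ X.E → s ∈ X.NG) (V : Sylow 2 ↥X.NG)
    (hV : ∀ x : ↥X.NG, x ∈ V ↔ (x : G) ∈ S) (hV4 : Nat.card V = 4)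
    (hV2 : ∀ v ∈ V, v * v = 1) :
    Nat.card S = 8 ∧ (∀ s ∈ S, s * s = 1) ∧
    (∀ s ∈ S, ∃ w ∈ S, w ∈ X.NG ∧ (s = w ∨ s = X.t * w)) := by
  have htt := X.t_mul_self
  have htinv : X.t⁻¹ = X.t := inv_eq_of_mul_eq_one_right htt
  -- decomposition
  have hdec : ∀ s ∈ S, ∃ w ∈ S, w ∈ X.NG ∧ (s = w ∨ s = X.t * w) := by
    intro s hs
    obtain ⟨e', he'E, h⟩ := X.mem_C s (X.sylow_le S htS hs)
    rcases h with h | h
    · subst h
      exact ⟨s, hs, hSE s hs he'E, Or.inl rfl⟩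
    · have he'S : e' ∈ S := by
        have : e' = X.t⁻¹ * s := by rw [h]; group
        rw [this]; exact S.mul_mem (S.inv_mem htS) hs
      exact ⟨e', he'S, hSE e' he'S he'E, Or.inr h⟩
  -- squares
  have hsqw : ∀ w ∈ S, ∀ hw : w ∈ X.NG, w * w = 1 := by
    intro w hwS hw
    have h1 : (⟨w, hw⟩ : ↥X.NG) ∈ V := (hV ⟨w, hw⟩).mpr hwS
    have h2 := hV2 _ h1
    exact congrArg Subtype.val h2
  have hsq : ∀ s ∈ S, s * s = 1 := by
    intro s hs
    obtain ⟨w, hwS, hwN, h | h⟩ := hdec s hs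
    · rw [h]; exact hsqw w hwS hwN
    · rw [h]
      have hc : X.t * w = w * X.t := X.hab S X.t htS w hwS
      calc X.t * w * (X.t * w) = X.t * (w * X.t) * w := by group
        _ = X.t * (X.t * w) * w := by rw [hc]
        _ = (X.t * X.t) * (w * w) := by group
        _ = 1 := by rw [htt, hsqw w hwS hwN, one_mul]
  refine ⟨?_, hsq, hdec⟩
  -- cardinality via an explicit bijection `V × Bool ≃ S`
  have htN : X.t ∉ X.NG := fun h => X.t_not_mem_E (X.hNE h)
  let g : (↥(V : Subgroup ↥X.NG)) × Bool → ↥(S : Subgroup G) := fun p =>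
    if p.2 then ⟨X.t * ((p.1 : ↥X.NG) : G), S.mul_mem htS ((hV p.1.1).mp p.1.2)⟩
    else ⟨((p.1 : ↥X.NG) : G), (hV p.1.1).mp p.1.2⟩
  have hg : Function.Bijective g := by
    constructor
    · rintro ⟨v, b⟩ ⟨v', b'⟩ h
      have h' := congrArg Subtype.val h
      cases b <;> cases b' <;> simp only [g, Bool.false_eq_true, if_false, if_true] at h'
      · have : v = v' := Subtype.ext (Subtype.ext h')
        rw [this]
      · exfalso
        apply htN
        have : X.t = ((v : ↥X.NG) : G) * ((v' : ↥X.NG) : G)⁻¹ := by rw [h']; group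
        rw [this]; exact X.NG.mul_mem v.1.2 (X.NG.inv_mem v'.1.2)
      · exfalso
        apply htN
        have : X.t = ((v' : ↥X.NG) : G) * ((v : ↥X.NG) : G)⁻¹ := by rw [← h']; group
        rw [this]; exact X.NG.mul_mem v'.1.2 (X.NG.inv_mem v.1.2)
      · have h'' : ((v : ↥X.NG) : G) = ((v' : ↥X.NG) : G) := mul_left_cancel h'
        have : v = v' := Subtype.ext (Subtype.ext h'')
        rw [this]
    · rintro ⟨s, hs⟩
      obtain ⟨w, hwS, hwN, h | h⟩ := hdec s hs
      · refine ⟨(⟨⟨w, hwN⟩, (hV ⟨w, hwN⟩).mpr hwS⟩, false), ?_⟩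
        apply Subtype.ext
        simp only [g, Bool.false_eq_true, if_false]
        exact h.symm
      · refine ⟨(⟨⟨w, hwN⟩, (hV ⟨w, hwN⟩).mpr hwS⟩, true), ?_⟩
        apply Subtype.ext
        simp only [g, if_true]
        exact h.symm
  have hcard := Nat.card_congr (Equiv.ofBijective g hg)
  rw [Nat.card_prod, hV4] at hcard
  have hb : Nat.card Bool = 2 := by rw [Nat.card_eq_fintype_card, Fintype.card_bool]
  rw [hb] at hcard
  exact hcard.symm

end Cfsg.Agent.Lib.Helper8.JRG1cCore
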