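import Mathlib
import Cfsg.Agent.Lib.Helper9.JRDefs
import Cfsg.Agent.Lib.Helper6.JRG1b
import Cfsg.Agent.Lib.Helper7.JRklein
import Cfsg.Agent.Lib.Helper7.JRsimpleN
import Cfsg.Agent.Lib.Helper8.JRG1cCore

set_option autoImplicit false

/-! Farm JR (S3206): unit G1c (verbatim statement; proof = core + landed dependencies). -/

namespace Cfsg.Agent.Lib.Helper8.JRG1c

open Cfsg.Agent.Lib.Helper9.JRDefs

variable {G : Type*} [Group G] [Finite G] {F : Type*} [Field F] [Fintype F]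

theorem G1c (X : JR G F) (S : Sylow 2 G) (htS : X.t ∈ S) :
    Nat.card S = 8 ∧ (∀ s ∈ S, s * s = 1) ∧
    (∀ s ∈ S, ∃ w ∈ S, w ∈ X.NG ∧ (s = w ∨ s = X.t * w)) := by
  obtain ⟨hq, hSE, ⟨V, hV⟩, -⟩ := Cfsg.Agent.Lib.Helper6.JRG1b.G1b X S htS
  obtain ⟨e⟩ := X.iso
  obtain ⟨hV4, hV2⟩ := Cfsg.Agent.Lib.Helper7.JRklein.klein hq e V
  exact Cfsg.Agent.Lib.Helper8.JRG1cCore.G1c_core X S htS hSE V hV hV4 hV2

end Cfsg.Agent.Lib.Helper8.JRG1c
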