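import Mathlib
import Cfsg.Agent.Lib.Helper9.JRDefs
import Cfsg.Agent.Lib.Helper6.JRSylowIn
import Cfsg.Agent.Lib.Helper9.RuSylF

set_option autoImplicit false

/-! Farm JR (S3206): unit M1, core (dependencies as hypotheses). -/

namespace Cfsg.Agent.Lib.Helper8.JRM1Core

open Cfsg.Agent.Lib.Helper9.JRDefs
open Cfsg.Agent.Lib.Helper6.JRSylowIn

variable {G : Type*} [Group G] [Finite G] {F : Type*} [Field F] [Fintype F]

/-- `C_G(t)` normalizes `NG` -/
theorem C_normalizes (X : JR G F) :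
    ∀ c ∈ Subgroup.centralizer ({X.t} : Set G), ∀ x ∈ X.NG, c * x * c⁻¹ ∈ X.NG := by
  intro c hc x hx
  obtain ⟨e', he', h | h⟩ := X.mem_C c hc
  · rw [h]; exact X.hnorm e' he' x hx
  · have h1 := X.hnorm e' he' x hx
    have h2 := X.t_comm _ (X.hNE h1)
    have : c * x * c⁻¹ = (X.t * (e' * x * e'⁻¹)) * X.t⁻¹ := by rw [h]; group
    rw [this, h2]
    have : e' * x * e'⁻¹ * X.t * X.t⁻¹ = e' * x * e'⁻¹ := by group
    rw [this]; exact h1

/-- `|C_G(t)| = 2 |E|` -/
theorem card_C (X : JR G F) :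
    Nat.card ↥(Subgroup.centralizer ({X.t} : Set G)) = Nat.card ↥X.E * 2 := by
  have htC : X.t ∈ Subgroup.centralizer ({X.t} : Set G) := by
    rw [Subgroup.mem_centralizer_singleton_iff]
  have h2 : X.E.relIndex (Subgroup.centralizer ({X.t} : Set G)) = 2 := by
    apply Cfsg.Agent.Lib.Helper9.RuSylF.relIndex_eq_two_of htC X.t_not_mem_E
    intro x hx y hy hxE hyE
    obtain ⟨e1, he1, h1 | h1⟩ := X.mem_C x hx
    · exact absurd (h1 ▸ he1) hxE
    obtain ⟨e2, he2, h2 | h2⟩ := X.mem_C y hy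
    · exact absurd (h2 ▸ he2) hyE
    have h3 : e1 * e2⁻¹ ∈ X.E := X.E.mul_mem he1 (X.E.inv_mem he2)
    have h4 := X.t_comm _ h3
    have : x * y⁻¹ = (X.t * (e1 * e2⁻¹)) * X.t⁻¹ := by rw [h1, h2]; group
    rw [this, h4]
    have : e1 * e2⁻¹ * X.t * X.t⁻¹ = e1 * e2⁻¹ := by group
    rw [this]; exact h3
  have := card_mul_relIndex X.E_le
  rw [h2] at this
  exact this.symm

theorem M1_core (X : JR G F) (V : Sylow 2 ↥X.NG) (hV4 : Nat.card V = 4)
    (hodd : ¬ 2 ∣ X.NG.relIndex X.E) (hsimple : IsSimpleGroup ↥X.NG)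
    (μ : G ≃* G) (hμ : μ X.t = X.t) :
    (∀ x, μ x ∈ X.E ↔ x ∈ X.E) ∧ (∀ x, μ x ∈ X.NG ↔ x ∈ X.NG) := by
  obtain ⟨C, hC⟩ : ∃ C, C = Subgroup.centralizer ({X.t} : Set G) := ⟨_, rfl⟩
  have hNC : X.NG ≤ C := hC ▸ X.hNE.trans X.E_le
  -- `μ` stabilizes `C`
  have hμC : ∀ x, μ x ∈ C ↔ x ∈ C := by
    intro x
    rw [hC, Subgroup.mem_centralizer_singleton_iff, Subgroup.mem_centralizer_singleton_iff]
    constructor
    · intro h
      apply μ.injective
      rw [map_mul, map_mul, hμ]; exact h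
    · intro h
      have := congrArg μ h
      rwa [map_mul, map_mul, hμ] at this
  have hCN : ∀ c ∈ C, ∀ x ∈ X.NG, c * x * c⁻¹ ∈ X.NG := hC ▸ C_normalizes X
  -- the image of `NG`
  obtain ⟨N1, hN1⟩ : ∃ N1, N1 = X.NG.map μ.toMonoidHom := ⟨_, rfl⟩
  have hN1mem : ∀ y, y ∈ N1 ↔ ∃ x ∈ X.NG, μ x = y := by
    intro y; rw [hN1]; exact Subgroup.mem_map
  have hcardN1 : Nat.card ↥N1 = Nat.card ↥X.NG := by
    rw [hN1]
    exact (Nat.card_congr (X.NG.equivMapOfInjective _ μ.injective).toEquiv).symm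
  have hN1C : N1 ≤ C := by
    intro y hy
    obtain ⟨x, hx, rfl⟩ := (hN1mem y).mp hy
    exact (hμC x).mpr (hNC hx)
  have hCN1 : ∀ c ∈ C, ∀ y ∈ N1, c * y * c⁻¹ ∈ N1 := by
    intro c hc y hy
    obtain ⟨x, hx, rfl⟩ := (hN1mem y).mp hy
    have hc' : μ.symm c ∈ C := (hμC _).mp (by rw [MulEquiv.apply_symm_apply]; exact hc)
    refine (hN1mem _).mpr ⟨μ.symm c * x * (μ.symm c)⁻¹, hCN _ hc' x hx, ?_⟩
    rw [map_mul, map_mul, map_inv, MulEquiv.apply_symm_apply]
  -- `N1 = NG`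
  have hN1eq : N1 = X.NG := by
    have hnor : (N1.subgroupOf X.NG).Normal := by
      constructor
      intro n hn g
      rw [Subgroup.mem_subgroupOf] at hn ⊢
      exact hCN1 _ (hNC g.2) _ hn
    rcases hnor.eq_bot_or_eq_top with hb | ht
    · exfalso
      rw [Subgroup.subgroupOf_eq_bot] at hb
      have hinf : N1 ⊓ X.NG = ⊥ := hb.eq_bot
      -- `|NG| ∣ [C : N1]`
      have hnorC : (N1.subgroupOf C).Normal := by
        constructor
        intro n hn g
        rw [Subgroup.mem_subgroupOf] at hn ⊢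
        exact hCN1 _ g.2 _ hn
      have h1 : (N1.subgroupOf C).relIndex (X.NG.subgroupOf C) ∣ (N1.subgroupOf C).index :=
        Subgroup.relIndex_dvd_index_of_normal _ _
      rw [Subgroup.relIndex_subgroupOf hNC] at h1
      have h2 : N1.relIndex X.NG = Nat.card ↥X.NG := by
        have := card_inf_mul_relIndex N1 X.NG
        rw [hinf, Subgroup.card_bot, one_mul] at this
        exact this
      rw [h2] at h1
      obtain ⟨j, hj⟩ := h1
      have h3 : Nat.card ↥N1 * N1.relIndex C = Nat.card ↥C := card_mul_relIndex hN1C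
      have h4 : N1.relIndex C = (N1.subgroupOf C).index := rfl
      rw [h4, hj, hcardN1] at h3
      have h5 : Nat.card ↥C = Nat.card ↥X.E * 2 := hC ▸ card_C X
      have h6 : Nat.card ↥X.NG * X.NG.relIndex X.E = Nat.card ↥X.E := card_mul_relIndex X.hNE
      have h7 : 4 ∣ Nat.card ↥X.NG := by
        rw [← hV4]
        exact Subgroup.card_subgroup_dvd_card (V : Subgroup ↥X.NG)
      obtain ⟨n, hn⟩ := h7
      have hnpos : 0 < Nat.card ↥X.NG := Nat.card_pos
      apply hodd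
      -- card NG * (card NG * j) = card NG * m * 2
      have h8 : Nat.card ↥X.NG * (Nat.card ↥X.NG * j) =
          Nat.card ↥X.NG * (X.NG.relIndex X.E * 2) := by
        rw [h3, h5, ← h6]; ring
      have h9 : Nat.card ↥X.NG * j = X.NG.relIndex X.E * 2 :=
        Nat.eq_of_mul_eq_mul_left hnpos h8
      rw [hn, mul_assoc] at h9
      obtain ⟨nj, hnj⟩ : ∃ nj, nj = n * j := ⟨_, rfl⟩
      rw [← hnj] at h9
      omega
    · rw [Subgroup.subgroupOf_eq_top] at ht
      exact (Subgroup.eq_of_le_of_card_ge ht (le_of_eq hcardN1)).symm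
  have hNGiff : ∀ x, μ x ∈ X.NG ↔ x ∈ X.NG := by
    intro x
    constructor
    · intro h
      rw [← hN1eq] at h
      obtain ⟨y, hy, hyx⟩ := (hN1mem _).mp h
      rw [← μ.injective hyx]; exact hy
    · intro h
      rw [← hN1eq]
      exact (hN1mem _).mpr ⟨x, h, rfl⟩
  refine ⟨?_, hNGiff⟩
  -- characterization of `E`
  obtain ⟨m, hm⟩ : ∃ m, m = X.NG.relIndex X.E := ⟨_, rfl⟩
  have hmodd : Odd m := by rw [hm]; exact Nat.odd_iff.mpr (Nat.two_dvd_ne_zero.mp hodd)
  have htm : X.t ^ m = X.t := by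
    obtain ⟨j, hj⟩ := hmodd
    rw [hj, pow_succ, pow_mul, pow_two, X.t_mul_self, one_pow, one_mul]
  have hchar : ∀ x, x ∈ X.E ↔ (x ∈ C ∧ x ^ m ∈ X.NG) := by
    intro x
    constructor
    · intro hx
      refine ⟨hC ▸ X.E_le hx, ?_⟩
      have hnE : (X.NG.subgroupOf X.E).Normal := by
        constructor
        intro n hn g
        rw [Subgroup.mem_subgroupOf] at hn ⊢
        exact X.hnorm _ g.2 _ hn
      have := Subgroup.pow_index_mem (X.NG.subgroupOf X.E) (⟨x, hx⟩ : ↥X.E)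
      rw [Subgroup.mem_subgroupOf, Subgroup.coe_pow] at this
      rw [hm]
      exact this
    · rintro ⟨hxC, hxm⟩
      obtain ⟨e', he', h | h⟩ := X.mem_C x (hC ▸ hxC)
      · rw [h]; exact he'
      · exfalso
        apply X.t_not_mem_E
        have hc : Commute X.t e' := X.t_comm e' he'
        have h1 : x ^ m = X.t * e' ^ m := by rw [h, hc.mul_pow, htm]
        have h2 : X.t = x ^ m * (e' ^ m)⁻¹ := by rw [h1]; group
        rw [h2]
        exact X.E.mul_mem (X.hNE hxm) (X.E.inv_mem (X.E.pow_mem he' m))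
  intro x
  rw [hchar, hchar, hμC, ← map_pow, hNGiff]

end Cfsg.Agent.Lib.Helper8.JRM1Core
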