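import Mathlib
import Cfsg.Agent.Lib.Helper9.JRDefs
import Cfsg.Agent.Lib.Helper6.JRG1b
import Cfsg.Agent.Lib.Helper7.JRklein
import Cfsg.Agent.Lib.Helper7.JRsimpleN
import Cfsg.Agent.Lib.Helper8.JRM1Core

set_option autoImplicit false

/-! Farm JR (S3206): unit M1 (verbatim statement; proof = core + landed dependencies). -/

namespace Cfsg.Agent.Lib.Helper8.JRM1

open Cfsg.Agent.Lib.Helper9.JRDefs

variable {G : Type*} [Group G] [Finite G] {F : Type*} [Field F] [Fintype F]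

theorem M1 (X : JR G F) (μ : G ≃* G) (hμ : μ X.t = X.t) :
    (∀ x, μ x ∈ X.E ↔ x ∈ X.E) ∧ (∀ x, μ x ∈ X.NG ↔ x ∈ X.NG) := by
  obtain ⟨S, htS⟩ := X.exists_sylow
  obtain ⟨hq, -, ⟨V, -⟩, hodd⟩ := Cfsg.Agent.Lib.Helper6.JRG1b.G1b X S htS
  obtain ⟨e⟩ := X.iso
  obtain ⟨hV4, -⟩ := Cfsg.Agent.Lib.Helper7.JRklein.klein hq e V
  obtain ⟨hsimple, -, -⟩ := Cfsg.Agent.Lib.Helper7.JRsimpleN.simpleN X.hF3 e
  exact Cfsg.Agent.Lib.Helper8.JRM1Core.M1_core X V hV4 hodd hsimple μ hμ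

end Cfsg.Agent.Lib.Helper8.JRM1
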