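import Mathlib
import Cfsg.Agent.Lib.Helper9.JRDefs

set_option autoImplicit false

/-! Farm JR (S3206): unit M2, core (dependencies as hypotheses). -/

namespace Cfsg.Agent.Lib.Helper8.JRM2Core

open Cfsg.Agent.Lib.Helper9.JRDefs

/-- restriction of an automorphism to a stable subgroup -/
def restr {G : Type*} [Group G] (φ : G ≃* G) (N : Subgroup G) (h : ∀ x, φ x ∈ N ↔ x ∈ N) :
    ↥N ≃* ↥N where
  toFun x := ⟨φ x, (h x).mpr x.2⟩
  invFun x := ⟨φ.symm x, (h _).mp (by rw [MulEquiv.apply_symm_apply]; exact x.2)⟩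
  left_inv x := by apply Subtype.ext; simp
  right_inv x := by apply Subtype.ext; simp
  map_mul' x y := by apply Subtype.ext; simp

theorem restr_coe {G : Type*} [Group G] (φ : G ≃* G) (N : Subgroup G)
    (h : ∀ x, φ x ∈ N ↔ x ∈ N) (x : ↥N) : ((restr φ N h x : ↥N) : G) = φ x := rfl

theorem restr_pow_coe {G : Type*} [Group G] (φ : G ≃* G) (N : Subgroup G)
    (h : ∀ x, φ x ∈ N ↔ x ∈ N) (n : ℕ) (x : ↥N) :
    ((((restr φ N h) ^ n) x : ↥N) : G) = (φ ^ n) x := by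
  induction n generalizing x with
  | zero => simp
  | succ n ih =>
    rw [pow_succ, pow_succ, MulAut.mul_apply, MulAut.mul_apply, ih, restr_coe]

variable {G : Type*} [Group G] [Finite G] {F : Type*} [Field F] [Fintype F]

theorem M2_core (X : JR G F) (S : Sylow 2 G) (htS : X.t ∈ S) (ψ : G ≃* G) (k : ℕ)
    (hψk : ψ ^ (2 ^ k) = 1) (hψS : ∀ s ∈ S, ψ s = s)
    (hK : ∀ n ∈ Subgroup.normalizer ((S : Subgroup G) : Set G), ∃ μ : G ≃* G,
      (∀ s ∈ S, μ s = n * s * n⁻¹) ∧ μ * ψ = ψ * μ)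
    (V : Sylow 2 ↥X.NG) (hV : ∀ x : ↥X.NG, x ∈ V ↔ (x : G) ∈ S)
    (hdec : ∀ s ∈ S, ∃ w ∈ S, w ∈ X.NG ∧ (s = w ∨ s = X.t * w))
    (hZ : ∀ z : ↥X.NG, (∀ x : ↥X.NG, z * x = x * z) → z = 1)
    (hM1 : ∀ μ : G ≃* G, μ X.t = X.t →
      (∀ x, μ x ∈ X.E ↔ x ∈ X.E) ∧ (∀ x, μ x ∈ X.NG ↔ x ∈ X.NG))
    (hP2 : ∀ (α : ↥X.NG ≃* ↥X.NG) (k : ℕ), α ^ (2 ^ k) = 1 → (∀ v ∈ V, α v = v) →
      ∃ v ∈ V, ∀ x : ↥X.NG, α x = v * x * v⁻¹)
    (hP3 : ∃ r : ↥X.NG, (∀ v ∈ V, r * v * r⁻¹ ∈ V) ∧ ∀ v ∈ V, r * v * r⁻¹ = v → v = 1) :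
    ∀ c ∈ Subgroup.centralizer ({X.t} : Set G), ψ c = c := by
  have hψt : ψ X.t = X.t := hψS _ htS
  obtain ⟨hψE, hψN⟩ := hM1 ψ hψt
  -- the restriction of `ψ` to `NG`
  have hψNk : (restr ψ X.NG hψN) ^ (2 ^ k) = 1 := by
    apply MulEquiv.ext
    intro x
    apply Subtype.ext
    rw [restr_pow_coe, hψk]
    rfl
  have hψNfix : ∀ v ∈ V, restr ψ X.NG hψN v = v := by
    intro v hv
    apply Subtype.ext
    rw [restr_coe]
    exact hψS _ ((hV v).mp hv)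
  obtain ⟨v, hvV, hv⟩ := hP2 (restr ψ X.NG hψN) k hψNk hψNfix
  have hvG : ∀ x ∈ X.NG, ψ x = (v : G) * x * (v : G)⁻¹ := by
    intro x hx
    have := congrArg Subtype.val (hv ⟨x, hx⟩)
    rw [restr_coe] at this
    rw [this]
    simp
  obtain ⟨r, hrV, hrfix⟩ := hP3
  -- `r` commutes with `t`
  have hrt : (r : G) * X.t * (r : G)⁻¹ = X.t := by
    have := X.t_comm (r : G) (X.hNE r.2)
    rw [← this]; group
  -- `r ∈ N_G(S)`
  have hrS : ∀ w ∈ S, w ∈ X.NG → (r : G) * w * (r : G)⁻¹ ∈ S := by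
    intro w hwS hwN
    have h1 : (⟨w, hwN⟩ : ↥X.NG) ∈ V := (hV _).mpr hwS
    have h2 := (hV _).mp (hrV _ h1)
    simpa using h2
  have hrn : (r : G) ∈ Subgroup.normalizer ((S : Subgroup G) : Set G) := by
    apply Subgroup.mem_normalizer_fintype
    intro s hs
    obtain ⟨w, hwS, hwN, h | h⟩ := hdec s hs
    · rw [h]; exact hrS w hwS hwN
    · rw [h]
      have : (r : G) * (X.t * w) * (r : G)⁻¹ =
          ((r : G) * X.t * (r : G)⁻¹) * ((r : G) * w * (r : G)⁻¹) := by group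
      rw [this, hrt]
      exact S.mul_mem htS (hrS w hwS hwN)
  obtain ⟨μ, hμS, hμψ⟩ := hK _ hrn
  have hμt : μ X.t = X.t := by rw [hμS _ htS]; exact hrt
  obtain ⟨-, hμN⟩ := hM1 μ hμt
  -- `v = 1`
  have hvS : (v : G) ∈ S := (hV v).mp hvV
  have hμv : μ (v : G) = (r : G) * (v : G) * (r : G)⁻¹ := hμS _ hvS
  have hμvN : μ (v : G) ∈ X.NG := (hμN _).mpr v.2
  have hcentral : ∀ y ∈ X.NG, ((v : G)⁻¹ * μ (v : G)) * y = y * ((v : G)⁻¹ * μ (v : G)) := by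
    intro y hy
    -- `y = μ x`
    have hx : μ.symm y ∈ X.NG := (hμN _).mp (by rw [MulEquiv.apply_symm_apply]; exact hy)
    have h1 : μ (ψ (μ.symm y)) = ψ (μ (μ.symm y)) := by
      have := congrArg (fun f : G ≃* G => f (μ.symm y)) hμψ
      simpa [MulAut.mul_apply] using this
    rw [MulEquiv.apply_symm_apply, hvG _ hx, hvG _ hy, map_mul, map_mul, map_inv,
      MulEquiv.apply_symm_apply] at h1
    -- h1 : μ v * y * (μ v)⁻¹ = v * y * v⁻¹
    calc ((v : G)⁻¹ * μ (v : G)) * y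
        = (v : G)⁻¹ * (μ (v : G) * y * (μ (v : G))⁻¹) * μ (v : G) := by group
      _ = (v : G)⁻¹ * ((v : G) * y * (v : G)⁻¹) * μ (v : G) := by rw [h1]
      _ = y * ((v : G)⁻¹ * μ (v : G)) := by group
  have hz : (⟨(v : G)⁻¹ * μ (v : G), X.NG.mul_mem (X.NG.inv_mem v.2) hμvN⟩ : ↥X.NG) = 1 := by
    apply hZ
    intro x
    apply Subtype.ext
    exact hcentral x x.2
  have hμv' : μ (v : G) = (v : G) := by
    have := congrArg Subtype.val hz
    simp only [Subgroup.coe_one] at this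
    calc μ (v : G) = (v : G) * ((v : G)⁻¹ * μ (v : G)) := by group
      _ = (v : G) := by rw [this, mul_one]
  have hv1 : v = 1 := by
    apply hrfix v hvV
    apply Subtype.ext
    have : (r : G) * (v : G) * (r : G)⁻¹ = (v : G) := by rw [← hμv, hμv']
    simpa using this
  -- `ψ` is trivial on `NG`
  have hψNG : ∀ x ∈ X.NG, ψ x = x := by
    intro x hx
    rw [hvG x hx, hv1]
    simp
  -- `ψ` is trivial on `E`
  have hψE' : ∀ e' ∈ X.E, ψ e' = e' := by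
    intro e' he'
    have h1 : e'⁻¹ * ψ e' ∈ X.E := X.E.mul_mem (X.E.inv_mem he') ((hψE _).mpr he')
    have h2 : e'⁻¹ * ψ e' = 1 := by
      apply X.hcent _ h1
      intro x hx
      have h3 : e' * x * e'⁻¹ ∈ X.NG := X.hnorm e' he' x hx
      have h4 := hψNG _ h3
      rw [map_mul, map_mul, map_inv, hψNG x hx] at h4
      -- h4 : ψ e' * x * (ψ e')⁻¹ = e' * x * e'⁻¹
      calc e'⁻¹ * ψ e' * x = e'⁻¹ * (ψ e' * x * (ψ e')⁻¹) * ψ e' := by group
        _ = e'⁻¹ * (e' * x * e'⁻¹) * ψ e' := by rw [h4]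
        _ = x * (e'⁻¹ * ψ e') := by group
    calc ψ e' = e' * (e'⁻¹ * ψ e') := by group
      _ = e' := by rw [h2, mul_one]
  intro c hc
  obtain ⟨e', he', h | h⟩ := X.mem_C c hc
  · rw [h]; exact hψE' e' he'
  · rw [h, map_mul, hψt, hψE' e' he']

end Cfsg.Agent.Lib.Helper8.JRM2Core
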