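import Mathlib
import Cfsg.Agent.Lib.Helper9.JRDefs
import Cfsg.Agent.Lib.Helper6.JRG1b
import Cfsg.Agent.Lib.Helper7.JRklein
import Cfsg.Agent.Lib.Helper7.JRsimpleN
import Cfsg.Agent.Lib.Helper5.JRP2
import Cfsg.Agent.Lib.Helper6.JRP3
import Cfsg.Agent.Lib.Helper8.JRG1c
import Cfsg.Agent.Lib.Helper8.JRM1
import Cfsg.Agent.Lib.Helper8.JRM2Core

set_option autoImplicit false

/-! Farm JR (S3206): unit M2 (verbatim statement; proof = core + landed dependencies). -/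

namespace Cfsg.Agent.Lib.Helper8.JRM2

open Cfsg.Agent.Lib.Helper9.JRDefs

variable {G : Type*} [Group G] [Finite G] {F : Type*} [Field F] [Fintype F]

theorem M2 (X : JR G F) (S : Sylow 2 G) (htS : X.t ∈ S) (ψ : G ≃* G) (k : ℕ)
    (hψk : ψ ^ (2 ^ k) = 1) (hψS : ∀ s ∈ S, ψ s = s)
    (hK : ∀ n ∈ Subgroup.normalizer ((S : Subgroup G) : Set G), ∃ μ : G ≃* G,
      (∀ s ∈ S, μ s = n * s * n⁻¹) ∧ μ * ψ = ψ * μ) :
    ∀ c ∈ Subgroup.centralizer ({X.t} : Set G), ψ c = c := by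
  obtain ⟨hq, hSE, ⟨V, hV⟩, -⟩ := Cfsg.Agent.Lib.Helper6.JRG1b.G1b X S htS
  obtain ⟨-, -, hdec⟩ := Cfsg.Agent.Lib.Helper8.JRG1c.G1c X S htS
  obtain ⟨e⟩ := X.iso
  obtain ⟨-, hZ, -⟩ := Cfsg.Agent.Lib.Helper7.JRsimpleN.simpleN X.hF3 e
  exact Cfsg.Agent.Lib.Helper8.JRM2Core.M2_core X S htS ψ k hψk hψS hK V hV hdec hZ
    (fun μ hμ => Cfsg.Agent.Lib.Helper8.JRM1.M1 X μ hμ)
    (fun α k hα hfix => Cfsg.Agent.Lib.Helper5.JRP2.P2 hq e V α k hα hfix)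
    (Cfsg.Agent.Lib.Helper6.JRP3.P3 hq X.hF3 e V)

end Cfsg.Agent.Lib.Helper8.JRM2
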