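import Mathlib
import Cfsg.Agent.S3897

/-! Counting classes of `2`-elements: fixed points of odd-order elements on `2`-groups. -/
set_option autoImplicit false

namespace Cfsg.Agent.Lib.Helper8.K2

open Cfsg.Agent.S3897

variable {G : Type*} [Group G]

/-- An odd-order element normalising but not centralising a `2`-group `Q` has
`|C_Q(h)| ≤ |Q|/4`. -/
theorem four_mul_card_fixed_le [Finite G] (Q : Subgroup G) (hQ : IsPGroup 2 Q)
    (h : G) (hn : h ∈ Subgroup.normalizer (Q : Set G)) (hodd : Odd (orderOf h))
    (hc : h ∉ Subgroup.centralizer (Q : Set G)) :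
    4 * Nat.card ((Subgroup.centralizer ({h} : Set G)).subgroupOf Q) ≤ Nat.card Q := by
  set Ch : Subgroup Q := (Subgroup.centralizer ({h} : Set G)).subgroupOf Q with hCh
  have hmem : ∀ x : Q, x ∈ Ch ↔ h * x = x * h := by
    intro x
    rw [hCh, Subgroup.mem_subgroupOf, Subgroup.mem_centralizer_singleton_iff]
    exact eq_comm
  have hne : Ch ≠ ⊤ := by
    intro htop
    apply hc
    rw [Subgroup.mem_centralizer_iff]
    intro x hx
    have : (⟨x, hx⟩ : Q) ∈ Ch := by rw [htop]; trivial
    exact ((hmem _).mp this).symm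
  obtain ⟨k, hk⟩ := hQ.index Ch
  have hk0 : k ≠ 0 := by
    rintro rfl
    rw [pow_zero, Subgroup.index_eq_one] at hk
    exact hne hk
  have hk1 : k ≠ 1 := by
    rintro rfl
    rw [pow_one] at hk
    -- pick x outside Ch
    obtain ⟨x, hx⟩ : ∃ x : Q, x ∉ Ch := by
      by_contra hall
      exact hne (top_le_iff.mp fun x _ => by_contra fun hx => hall ⟨x, hx⟩)
    have hx'Q : h * x * h⁻¹ ∈ Q := (Subgroup.mem_normalizer_iff.mp hn x).mp x.2
    set x' : Q := ⟨h * x * h⁻¹, hx'Q⟩ with hx'
    have hx'C : x' ∉ Ch := by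
      intro hmem'
      apply hx
      rw [hmem] at hmem' ⊢
      have e : h * (h * (x : G) * h⁻¹) = (h * x * h⁻¹) * h := hmem'
      have : h * (x : G) = h⁻¹ * (h * (h * x * h⁻¹)) * h := by group
      rw [this, e]; group
    have hr : x' * x⁻¹ ∈ Ch := by
      rw [Subgroup.mul_mem_iff_of_index_two hk]
      constructor
      · intro hh; exact absurd hh hx'C
      · intro hh; exact absurd (Ch.inv_mem_iff.mp hh) hx
    set r : G := h * x * h⁻¹ * (x : G)⁻¹ with hrdef
    have hrh : h * r = r * h := (hmem _).mp hr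
    have hrQ : r ∈ Q := (x' * x⁻¹).2
    have hpow : ∀ n : ℕ, h ^ n * x * (h ^ n)⁻¹ = r ^ n * x := by
      intro n
      induction n with
      | zero => simp
      | succ n ih =>
        have hrn : h * r ^ n = r ^ n * h := (Commute.pow_right (show Commute h r from hrh) n).eq
        calc h ^ (n + 1) * x * (h ^ (n + 1))⁻¹
            = h * (h ^ n * x * (h ^ n)⁻¹) * h⁻¹ := by rw [pow_succ']; group
          _ = h * (r ^ n * x) * h⁻¹ := by rw [ih]
          _ = (h * r ^ n) * (x * h⁻¹) := by group
          _ = (r ^ n * h) * (x * h⁻¹) := by rw [hrn]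
          _ = r ^ n * (h * x * h⁻¹ * (x : G)⁻¹) * x := by group
          _ = r ^ (n + 1) * x := by rw [← hrdef, pow_succ]
    have h1 := hpow (orderOf h)
    rw [pow_orderOf_eq_one, one_mul, inv_one, mul_one] at h1
    have hr1 : r ^ orderOf h = 1 := by
      have := congrArg (fun t => t * (x : G)⁻¹) h1
      simpa using this.symm
    have hrord : orderOf r ∣ orderOf h := orderOf_dvd_of_pow_eq_one hr1
    obtain ⟨j, hj⟩ := (IsPGroup.iff_orderOf.mp hQ) ⟨r, hrQ⟩
    rw [Subgroup.orderOf_mk] at hj
    have hj0 : j = 0 := by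
      by_contra hj0
      have h2 : 2 ∣ orderOf h := (dvd_pow_self 2 hj0).trans (hj ▸ hrord)
      exact (Nat.not_even_iff_odd.mpr hodd) (even_iff_two_dvd.mpr h2)
    rw [hj0, pow_zero, orderOf_eq_one_iff] at hj
    apply hx
    rw [hmem]
    have : h * (x : G) * h⁻¹ = x := by
      have := congrArg (fun t => t * (x : G)) hj
      simpa [hrdef] using this
    calc h * (x : G) = (h * x * h⁻¹) * h := by group
      _ = x * h := by rw [this]
  have h4 : 4 ∣ Ch.index := by
    rw [hk]
    obtain ⟨m, rfl⟩ : ∃ m, k = m + 2 := ⟨k - 2, by omega⟩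
    rw [pow_add]
    exact Dvd.intro_left _ rfl
  obtain ⟨m, hm⟩ := h4
  have hmul := Ch.card_mul_index
  have hm0 : m ≠ 0 := by
    rintro rfl
    rw [mul_zero] at hm
    exact Ch.index_ne_zero_of_finite hm
  rw [← hmul, hm]
  calc 4 * Nat.card Ch = Nat.card Ch * (4 * 1) := by ring
    _ ≤ Nat.card Ch * (4 * m) := by
      apply Nat.mul_le_mul_left
      apply Nat.mul_le_mul_left
      omega

/-- A function on a `2`-group `Q` that is constant on the orbits of an odd-order element `g`
normalising but not centralising `Q` takes at most `|Q|/2` values. -/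
theorem range_bound [Finite G] {𝒞 : Type*} (Q : Subgroup G) (hQ : IsPGroup 2 Q)
    (g : G) (hn : g ∈ Subgroup.normalizer (Q : Set G)) (hodd : Odd (orderOf g))
    (hc : g ∉ Subgroup.centralizer (Q : Set G)) (f : Q → 𝒞)
    (hf : ∀ (x : Q) (hx : g * x * g⁻¹ ∈ Q), f ⟨g * x * g⁻¹, hx⟩ = f x) :
    2 * Nat.card (Set.range f) ≤ Nat.card Q := by
  classical
  set H : Subgroup G := Subgroup.zpowers g with hH
  have hHn : H ≤ Subgroup.normalizer (Q : Set G) := (Subgroup.zpowers_le).mpr hn
  letI : MulAction H Q := conjMA H Q hHn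
  haveI : Fintype H := Fintype.ofFinite _
  haveI : Fintype Q := Fintype.ofFinite _
  have key := MulAction.sum_card_fixedBy_eq_card_orbits_mul_card_group H Q
  set n := Fintype.card Q with hn'
  set K : Subgroup H := (Subgroup.centralizer (Q : Set G)).subgroupOf H with hKdef
  have hsmul : ∀ (h : H) (x : Q), ((h • x : Q) : G) = (h : G) * x * (h : G)⁻¹ := fun _ _ => rfl
  have hoddH : ∀ h : H, Odd (orderOf (h : G)) := by
    intro h
    have := orderOf_dvd_of_mem_zpowers h.2
    exact Odd.of_dvd_nat hodd this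
  have hfix1 : ∀ h : H, 4 * Fintype.card (MulAction.fixedBy Q h) ≤ 4 * n :=
    fun h => Nat.mul_le_mul_left _ (Fintype.card_subtype_le _)
  have hfix2 : ∀ h : H, h ∉ K → 4 * Fintype.card (MulAction.fixedBy Q h) ≤ n := by
    intro h hh
    have hhc : (h : G) ∉ Subgroup.centralizer (Q : Set G) := fun hmem =>
      hh (Subgroup.mem_subgroupOf.mpr hmem)
    have h4 := four_mul_card_fixed_le Q hQ (h : G) (hHn h.2) (hoddH h) hhc
    set Ch : Subgroup Q := (Subgroup.centralizer ({(h : G)} : Set G)).subgroupOf Q with hCh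
    have e : (MulAction.fixedBy Q h) = (Ch : Set _) := by
      ext x
      rw [MulAction.mem_fixedBy, SetLike.mem_coe, hCh, Subgroup.mem_subgroupOf,
        Subgroup.mem_centralizer_singleton_iff]
      constructor
      · intro hx
        have h1 : (h : G) * x * (h : G)⁻¹ = x := congrArg Subtype.val hx
        calc (x : G) * h = ((h : G) * x * (h : G)⁻¹) * h := by rw [h1]
          _ = h * x := by group
      · intro hx
        apply Subtype.ext
        rw [hsmul, ← hx]; group
    have hcard : Fintype.card (MulAction.fixedBy Q h) = Nat.card Ch := by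
      rw [← Nat.card_eq_fintype_card]
      exact Nat.card_congr (Equiv.setCongr e)
    rw [hcard, hn', ← Nat.card_eq_fintype_card]
    exact h4
  -- K is proper of odd index
  have hKne : K ≠ ⊤ := by
    intro htop
    apply hc
    have : (⟨g, Subgroup.mem_zpowers g⟩ : H) ∈ K := by rw [htop]; trivial
    exact Subgroup.mem_subgroupOf.mp this
  have h3a : 3 * Fintype.card K ≤ Fintype.card H := by
    have hmul := K.card_mul_index
    rw [Nat.card_eq_fintype_card, Nat.card_eq_fintype_card] at hmul
    have hi1 : K.index ≠ 1 := fun h => hKne (Subgroup.index_eq_one.mp h)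
    have hcH : Fintype.card H = orderOf g := by
      rw [← Nat.card_eq_fintype_card, hH, Nat.card_zpowers]
    have hio : Odd K.index := by
      apply Odd.of_dvd_nat (hcH ▸ hodd)
      exact Dvd.intro_left _ hmul
    have hi3 : 3 ≤ K.index := by
      obtain ⟨t, ht⟩ := hio
      omega
    rw [← hmul]
    calc 3 * Fintype.card K = Fintype.card K * 3 := by ring
      _ ≤ Fintype.card K * K.index := Nat.mul_le_mul_left _ hi3
  have hsum : 4 * ∑ h : H, Fintype.card (MulAction.fixedBy Q h)
      ≤ Fintype.card H * n + Fintype.card K * (3 * n) := by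
    rw [Finset.mul_sum]
    calc ∑ h : H, 4 * Fintype.card (MulAction.fixedBy Q h)
        ≤ ∑ h : H, (n + if h ∈ K then 3 * n else 0) := by
          apply Finset.sum_le_sum
          intro h _
          by_cases hh : h ∈ K
          · rw [if_pos hh]
            calc 4 * Fintype.card (MulAction.fixedBy Q h) ≤ 4 * n := hfix1 h
              _ = n + 3 * n := by ring
          · rw [if_neg hh]
            exact (hfix2 h hh).trans (by omega)
      _ = Fintype.card H * n + Fintype.card K * (3 * n) := by
          have hKc : Fintype.card K = (Finset.univ.filter (fun h : H => h ∈ K)).card :=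
            Fintype.card_of_subtype _ (fun x => by simp)
          rw [Finset.sum_add_distrib, Finset.sum_const, Finset.card_univ, smul_eq_mul,
            Finset.sum_ite, Finset.sum_const_zero, add_zero, Finset.sum_const, smul_eq_mul, hKc]
  rw [key] at hsum
  set Ω := Quotient (MulAction.orbitRel H Q) with hΩ
  -- `f` is constant on orbits
  have hfH : ∀ (h : H) (x : Q), f (h • x) = f x := by
    rintro ⟨h, hh⟩ x
    rw [hH, ← mem_powers_iff_mem_zpowers] at hh
    obtain ⟨k, rfl⟩ := hh
    induction k generalizing x with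
    | zero =>
      have : ((⟨g ^ 0, hh⟩ : H) • x : Q) = x := by
        apply Subtype.ext; rw [hsmul]; simp
      rw [this]
    | succ k ih =>
      have hk : g ^ k ∈ H := Subgroup.pow_mem _ (Subgroup.mem_zpowers g) k
      have e : ((⟨g ^ (k + 1), hh⟩ : H) • x : Q) =
          ⟨g * ((⟨g ^ k, hk⟩ : H) • x : Q) * g⁻¹,
            (Subgroup.mem_normalizer_iff.mp hn _).mp ((⟨g ^ k, hk⟩ : H) • x : Q).2⟩ := by
        apply Subtype.ext
        rw [hsmul]
        show g ^ (k + 1) * x * (g ^ (k + 1))⁻¹ = g * (g ^ k * x * (g ^ k)⁻¹) * g⁻¹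
        rw [pow_succ']; group
      rw [e, hf, ih]
  have hsurj : Nat.card (Set.range f) ≤ Fintype.card Ω := by
    rw [← Nat.card_eq_fintype_card]
    have hcompat : ∀ a b : Q, (MulAction.orbitRel H Q) a b → f a = f b := by
      intro a b hab
      rw [MulAction.orbitRel_apply, MulAction.mem_orbit_iff] at hab
      obtain ⟨h, hh⟩ := hab
      rw [← hh, hfH]
    refine Nat.card_le_card_of_surjective
      (fun ω : Ω => (⟨Quotient.lift f hcompat ω, by
        induction ω using Quotient.inductionOn with
        | _ x => exact ⟨x, rfl⟩⟩ : Set.range f)) ?_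
    rintro ⟨_, x, rfl⟩
    exact ⟨Quotient.mk _ x, rfl⟩
  have hb0 : 0 < Fintype.card H := Fintype.card_pos
  have h3 : 2 * Fintype.card Ω * (2 * Fintype.card H) ≤ n * (2 * Fintype.card H) := by
    calc 2 * Fintype.card Ω * (2 * Fintype.card H)
        = 4 * (Fintype.card Ω * Fintype.card H) := by ring
      _ ≤ Fintype.card H * n + Fintype.card K * (3 * n) := hsum
      _ = Fintype.card H * n + (3 * Fintype.card K) * n := by ring
      _ ≤ Fintype.card H * n + Fintype.card H * n :=
          Nat.add_le_add_left (Nat.mul_le_mul_right _ h3a) _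
      _ = n * (2 * Fintype.card H) := by ring
  have h4 := Nat.le_of_mul_le_mul_right h3 (by omega)
  rw [Nat.card_eq_fintype_card (α := Q)]
  calc 2 * Nat.card (Set.range f) ≤ 2 * Fintype.card Ω := Nat.mul_le_mul_left _ hsurj
    _ ≤ n := h4

end Cfsg.Agent.Lib.Helper8.K2
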