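import Mathlib
import Cfsg.Agent.Lib.Helper8.K2a

/-! Counting classes of `2`-elements: the extremal argument. -/
set_option autoImplicit false

namespace Cfsg.Agent.Lib.Helper8.K2

open Cfsg.Agent.S3897

variable {G : Type*} [Group G]

/-- `R` is a `2`-subgroup of `C` of largest possible order. -/
def IsMax2 (R C : Subgroup G) : Prop :=
  R ≤ C ∧ IsPGroup 2 R ∧ ∀ R' : Subgroup G, IsPGroup 2 R' → R' ≤ C → Nat.card R' ≤ Nat.card R

theorem exists_isMax2_ge [Finite G] {X C : Subgroup G} (hXC : X ≤ C) (hX : IsPGroup 2 X) :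
    ∃ R, X ≤ R ∧ IsMax2 R C := by
  obtain ⟨S, hS⟩ := (hX.comap_subtype (K := C)).exists_le_sylow
  refine ⟨(S : Subgroup ↥C).map C.subtype, ?_, Subgroup.map_subtype_le _, S.isPGroup'.map _, ?_⟩
  · intro x hx
    exact ⟨⟨x, hXC hx⟩, hS (by simpa [Subgroup.mem_subgroupOf] using hx), rfl⟩
  · intro R' hR' hR'C
    obtain ⟨S', hS'⟩ := (hR'.comap_subtype (K := C)).exists_le_sylow
    rw [Subgroup.card_map_of_injective C.subtype_injective]
    have h1 : Nat.card R' = Nat.card (R'.subgroupOf C) :=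
      (Nat.card_congr (Subgroup.subgroupOfEquivOfLe hR'C).toEquiv).symm
    have h2 : Nat.card (R'.subgroupOf C) ≤ Nat.card (S' : Subgroup ↥C) :=
      Subgroup.card_le_of_le hS'
    have h3 : Nat.card (S' : Subgroup ↥C) = Nat.card (S : Subgroup ↥C) := by
      rw [Sylow.card_eq_multiplicity, Sylow.card_eq_multiplicity]
    omega

theorem IsMax2.exists_conj [Finite G] {R₁ R₂ C : Subgroup G} (h₁ : IsMax2 R₁ C)
    (h₂ : IsMax2 R₂ C) : ∃ c ∈ C, ∀ y ∈ R₁, c * y * c⁻¹ ∈ R₂ := by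
  obtain ⟨S₁, hS₁⟩ := (h₁.2.1.comap_subtype (K := C)).exists_le_sylow
  obtain ⟨S₂, hS₂⟩ := (h₂.2.1.comap_subtype (K := C)).exists_le_sylow
  obtain ⟨k, hk⟩ := MulAction.exists_smul_eq ↥C S₁ S₂
  have hR₂ : (S₂ : Subgroup ↥C).map C.subtype = R₂ := by
    symm
    apply Subgroup.eq_of_le_of_card_ge
    · intro x hx
      exact ⟨⟨x, h₂.1 hx⟩, hS₂ (by simpa [Subgroup.mem_subgroupOf] using hx), rfl⟩
    · exact h₂.2.2 _ (S₂.isPGroup'.map _) (Subgroup.map_subtype_le _)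
  refine ⟨k, k.2, ?_⟩
  intro y hy
  rw [← hR₂]
  have hy1 : (⟨y, h₁.1 hy⟩ : ↥C) ∈ (S₁ : Subgroup ↥C) :=
    hS₁ (by simpa [Subgroup.mem_subgroupOf] using hy)
  have : k * ⟨y, h₁.1 hy⟩ * k⁻¹ ∈ (S₂ : Subgroup ↥C) := by
    rw [← hk, Sylow.smul_def, Sylow.pointwise_smul_def, Subgroup.mem_smul_pointwise_iff_exists]
    exact ⟨_, hy1, rfl⟩
  exact ⟨_, this, rfl⟩

theorem IsMax2.map_conj [Finite G] {R C : Subgroup G} (h : IsMax2 R C) {g : G}
    (hg : g ∈ Subgroup.normalizer (C : Set G)) :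
    IsMax2 (R.map (MulAut.conj g).toMonoidHom) C := by
  refine ⟨?_, h.2.1.map _, ?_⟩
  · rintro _ ⟨y, hy, rfl⟩
    exact (Subgroup.mem_normalizer_iff.mp hg y).mp (h.1 hy)
  · intro R' hR' hR'C
    rw [Subgroup.card_map_of_injective (MulAut.conj g).injective]
    exact h.2.2 R' hR' hR'C

/-- `Q` is a `2`-subgroup whose normaliser contains an odd-order element acting nontrivially. -/
def Bad (Q : Subgroup G) : Prop :=
  IsPGroup 2 Q ∧ ∃ g ∈ Subgroup.normalizer (Q : Set G), Odd (orderOf g) ∧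
    g ∉ Subgroup.centralizer (Q : Set G)

theorem mem_normalizer_centralizer_of_mem [Finite G] (Q : Subgroup G) {g : G}
    (hg : g ∈ Subgroup.normalizer (Q : Set G)) :
    g ∈ Subgroup.normalizer ((Subgroup.centralizer (Q : Set G) : Subgroup G) : Set G) := by
  apply Subgroup.mem_normalizer_fintype
  intro h hh
  rw [SetLike.mem_coe, Subgroup.mem_centralizer_iff] at hh ⊢
  intro q hq
  have hq' : g⁻¹ * q * g ∈ Q := by
    have := (Subgroup.mem_normalizer_iff.mp (Subgroup.inv_mem _ hg) q).mp hq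
    simpa using this
  have := hh _ hq'
  calc q * (g * h * g⁻¹) = g * ((g⁻¹ * q * g) * h) * g⁻¹ := by group
    _ = g * (h * (g⁻¹ * q * g)) * g⁻¹ := by rw [this]
    _ = g * h * g⁻¹ * q := by group

theorem mem_normalizer_sup_of_mem [Finite G] {Q R : Subgroup G} {n : G}
    (hQ : n ∈ Subgroup.normalizer (Q : Set G)) (hR : n ∈ Subgroup.normalizer (R : Set G)) :
    n ∈ Subgroup.normalizer ((Q ⊔ R : Subgroup G) : Set G) := by
  apply Subgroup.mem_normalizer_fintype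
  intro h hh
  rw [SetLike.mem_coe] at hh ⊢
  have : (Q ⊔ R).map (MulAut.conj n).toMonoidHom ≤ Q ⊔ R := by
    rw [Subgroup.map_sup]
    apply sup_le_sup
    · rintro _ ⟨y, hy, rfl⟩
      exact (Subgroup.mem_normalizer_iff.mp hQ y).mp hy
    · rintro _ ⟨y, hy, rfl⟩
      exact (Subgroup.mem_normalizer_iff.mp hR y).mp hy
  exact this ⟨h, hh, rfl⟩

theorem Bad.step [Finite G] {Q R : Subgroup G} (hQ : Bad Q)
    (hR : IsMax2 R (Subgroup.centralizer (Q : Set G))) : Bad (Q ⊔ R) := by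
  obtain ⟨hQ2, g, hgN, hodd, hgC⟩ := hQ
  have hgNC := mem_normalizer_centralizer_of_mem Q hgN
  obtain ⟨c, hcC, hc⟩ := (hR.map_conj hgNC).exists_conj hR
  have hcomm : ∀ x ∈ Q, ∀ y ∈ Subgroup.centralizer (Q : Set G), x * y = y * x :=
    fun x hx y hy => (Subgroup.mem_centralizer_iff.mp hy) x hx
  have hQR : Q ≤ Subgroup.normalizer (R : Set G) := by
    intro q hq
    apply Subgroup.mem_normalizer_fintype
    intro y hy
    have : q * y * q⁻¹ = y := by
      rw [hcomm q hq y (hR.1 hy)]; group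
    rw [this]; exact hy
  refine ⟨hQ2.to_sup_of_normal_right' hR.2.1 hQR, ?_⟩
  set n := c * g with hn
  have hnR : n ∈ Subgroup.normalizer (R : Set G) := by
    apply Subgroup.mem_normalizer_fintype
    intro y hy
    have := hc (g * y * g⁻¹) ⟨y, hy, rfl⟩
    have e : n * y * n⁻¹ = c * (g * y * g⁻¹) * c⁻¹ := by rw [hn]; group
    rw [e]; exact this
  have hnQ : n ∈ Subgroup.normalizer (Q : Set G) :=
    Subgroup.mul_mem _ (Subgroup.centralizer_le_normalizer _ hcC) hgN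
  have hact : ∀ k : ℕ, ∀ x ∈ Q, n ^ k * x * (n ^ k)⁻¹ = g ^ k * x * (g ^ k)⁻¹ := by
    intro k
    induction k with
    | zero => intro x _; simp
    | succ k ih =>
      intro x hx
      have hxk : g ^ k * x * (g ^ k)⁻¹ ∈ Q :=
        (Subgroup.mem_normalizer_iff.mp (Subgroup.pow_mem _ hgN k) x).mp hx
      have hxk1 : g * (g ^ k * x * (g ^ k)⁻¹) * g⁻¹ ∈ Q :=
        (Subgroup.mem_normalizer_iff.mp hgN _).mp hxk
      calc n ^ (k + 1) * x * (n ^ (k + 1))⁻¹ = n * (n ^ k * x * (n ^ k)⁻¹) * n⁻¹ := by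
            rw [pow_succ']; group
        _ = n * (g ^ k * x * (g ^ k)⁻¹) * n⁻¹ := by rw [ih x hx]
        _ = c * (g * (g ^ k * x * (g ^ k)⁻¹) * g⁻¹) * c⁻¹ := by rw [hn]; group
        _ = g * (g ^ k * x * (g ^ k)⁻¹) * g⁻¹ := by
            rw [← hcomm _ hxk1 c hcC]; group
        _ = g ^ (k + 1) * x * (g ^ (k + 1))⁻¹ := by rw [pow_succ']; group
  obtain ⟨a, m, hm, ham⟩ := Nat.exists_eq_two_pow_mul_odd (orderOf_pos n).ne'
  refine ⟨n ^ (2 ^ a),
    mem_normalizer_sup_of_mem (Subgroup.pow_mem _ hnQ _) (Subgroup.pow_mem _ hnR _), ?_, ?_⟩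
  · have : (n ^ (2 ^ a)) ^ m = 1 := by
      rw [← pow_mul, ← ham, pow_orderOf_eq_one]
    exact Odd.of_dvd_nat hm (orderOf_dvd_of_pow_eq_one this)
  · intro hcent
    apply hgC
    have h1 : g ^ (2 ^ a) ∈ Subgroup.centralizer (Q : Set G) := by
      rw [Subgroup.mem_centralizer_iff]
      intro x hx
      have hxs : x ∈ Q ⊔ R := (le_sup_left : Q ≤ Q ⊔ R) hx
      have h2 : x * n ^ (2 ^ a) = n ^ (2 ^ a) * x :=
        (Subgroup.mem_centralizer_iff.mp hcent) x hxs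
      have h3 := hact (2 ^ a) x hx
      have h4 : n ^ (2 ^ a) * x * (n ^ (2 ^ a))⁻¹ = x := by rw [← h2]; group
      rw [h4] at h3
      calc x * g ^ (2 ^ a) = (g ^ (2 ^ a) * x * (g ^ (2 ^ a))⁻¹) * g ^ (2 ^ a) := by rw [← h3]
        _ = g ^ (2 ^ a) * x := by group
    have hcop : Nat.Coprime (2 ^ a) (orderOf g) :=
      Nat.Coprime.pow_left _ (Nat.coprime_two_left.mpr hodd)
    obtain ⟨j, hj⟩ := exists_pow_eq_self_of_coprime hcop
    rw [← hj]
    exact Subgroup.pow_mem _ h1 j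

theorem exists_max_bad [Finite G] (h : ∃ Q : Subgroup G, Bad Q) :
    ∃ Q : Subgroup G, Bad Q ∧ ∀ R, IsMax2 R (Subgroup.centralizer (Q : Set G)) → R ≤ Q := by
  obtain ⟨Q, hQ, hmax⟩ := Set.exists_max_image {Q : Subgroup G | Bad Q}
    (fun Q => Nat.card Q) (Set.toFinite _) h
  refine ⟨Q, hQ, fun R hR => ?_⟩
  have h1 : Bad (Q ⊔ R) := Bad.step hQ hR
  have h2 : Nat.card (Q ⊔ R : Subgroup G) ≤ Nat.card Q := hmax _ h1
  have h3 : Q = Q ⊔ R := Subgroup.eq_of_le_of_card_ge le_sup_left h2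
  exact le_sup_right.trans h3.ge

end Cfsg.Agent.Lib.Helper8.K2
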