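import Mathlib
import Cfsg.Agent.Lib.Helper8.K2b

/-! Counting classes of `2`-elements: the counting lemma and the class maps. -/
set_option autoImplicit false

namespace Cfsg.Agent.Lib.Helper8.K2

open Cfsg.Agent.S3897

variable {G : Type*} [Group G]

theorem count_le [Finite G] (P : Sylow 2 G) (Q : Subgroup G) (hQP : Q ≤ (P : Subgroup G))
    (hZ : ∀ x ∈ (P : Subgroup G), x ∉ Q → ∃ u ∈ (P : Subgroup G), u * x * u⁻¹ ≠ x)
    (g : G) (hn : g ∈ Subgroup.normalizer (Q : Set G)) (hodd : Odd (orderOf g))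
    (hc : g ∉ Subgroup.centralizer (Q : Set G)) :
    2 * Nat.card (PC 2 G) ≤ Nat.card (P : Subgroup G) := by
  classical
  have hQ2 : IsPGroup 2 Q := P.isPGroup'.to_le hQP
  let f : Q → PC 2 G := fun x => clsMap P ⟨x, hQP x.2⟩
  have hf : ∀ (x : Q) (hx : g * x * g⁻¹ ∈ Q), f ⟨g * x * g⁻¹, hx⟩ = f x := by
    intro x hx
    apply Subtype.ext
    show ConjClasses.mk (g * x * g⁻¹) = ConjClasses.mk (x : G)
    rw [ConjClasses.mk_eq_mk_iff_isConj, isConj_comm, isConj_iff]
    exact ⟨g, rfl⟩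
  have hA := range_bound Q hQ2 g hn hodd hc f hf
  have hsplit : Nat.card (PC 2 G) =
      Nat.card (Set.range f) + Nat.card {c : PC 2 G // c ∉ Set.range f} := by
    rw [← Nat.card_sum]
    exact (Nat.card_congr (Equiv.sumCompl (· ∈ Set.range f))).symm
  have hB : 2 * Nat.card {c : PC 2 G // c ∉ Set.range f} ≤
      Nat.card {x : (P : Subgroup G) // (x : G) ∉ Q} := by
    have hrep : ∀ c : {c : PC 2 G // c ∉ Set.range f}, ∃ x : (P : Subgroup G),
        clsMap P x = c.1 := fun c => clsMap_surj P c.1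
    choose r hr using hrep
    have hrQ : ∀ (c : {c : PC 2 G // c ∉ Set.range f}) (y : (P : Subgroup G)),
        clsMap P y = c.1 → (y : G) ∉ Q := by
      intro c y hy hyQ
      exact c.2 ⟨⟨y, hyQ⟩, hy⟩
    have hu : ∀ c, ∃ u : (P : Subgroup G), u * r c * u⁻¹ ≠ r c := by
      intro c
      obtain ⟨u, hu, hne⟩ := hZ (r c) (r c).2 (hrQ c _ (hr c))
      exact ⟨⟨u, hu⟩, fun h => hne (congrArg Subtype.val h)⟩
    choose u hu using hu
    have hcls : ∀ c, clsMap P (u c * r c * (u c)⁻¹) = c.1 := by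
      intro c
      rw [← hr c]
      apply Subtype.ext
      show ConjClasses.mk ((u c : G) * r c * (u c : G)⁻¹) = ConjClasses.mk (r c : G)
      rw [ConjClasses.mk_eq_mk_iff_isConj, isConj_comm, isConj_iff]
      exact ⟨u c, rfl⟩
    let f₁ : {c : PC 2 G // c ∉ Set.range f} → {x : (P : Subgroup G) // (x : G) ∉ Q} :=
      fun c => ⟨r c, hrQ _ _ (hr _)⟩
    let f₂ : {c : PC 2 G // c ∉ Set.range f} → {x : (P : Subgroup G) // (x : G) ∉ Q} :=
      fun c => ⟨u c * r c * (u c)⁻¹, hrQ _ _ (hcls _)⟩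
    have hf₁ : Function.Injective f₁ := by
      intro c d h
      have h1 : r c = r d := congrArg Subtype.val h
      apply Subtype.ext
      rw [← hr c, ← hr d, h1]
    have hf₂ : Function.Injective f₂ := by
      intro c d h
      have h1 : u c * r c * (u c)⁻¹ = u d * r d * (u d)⁻¹ := congrArg Subtype.val h
      apply Subtype.ext
      rw [← hcls c, ← hcls d, h1]
    have hf₁₂ : ∀ c d, f₁ c ≠ f₂ d := by
      intro c d h
      have h1 : r c = u d * r d * (u d)⁻¹ := congrArg Subtype.val h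
      have hcd : c = d := by
        apply Subtype.ext
        rw [← hr c, ← hcls d, h1]
      subst hcd
      exact hu c h1.symm
    have hinj := Function.Injective.sumElim hf₁ hf₂ hf₁₂
    have := Nat.card_le_card_of_injective _ hinj
    rw [Nat.card_sum] at this
    omega
  have hP : Nat.card (P : Subgroup G) =
      Nat.card Q + Nat.card {x : (P : Subgroup G) // (x : G) ∉ Q} := by
    have e1 : Nat.card (P : Subgroup G) = Nat.card {x : (P : Subgroup G) // (x : G) ∈ Q} +
        Nat.card {x : (P : Subgroup G) // ¬ (x : G) ∈ Q} := by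
      rw [← Nat.card_sum]
      exact (Nat.card_congr (Equiv.sumCompl (fun x : (P : Subgroup G) => (x : G) ∈ Q))).symm
    have e2 : Nat.card {x : (P : Subgroup G) // (x : G) ∈ Q} = Nat.card Q := by
      refine Nat.card_congr ⟨fun x => ⟨x.1.1, x.2⟩, fun y => ⟨⟨y.1, hQP y.2⟩, y.2⟩, ?_, ?_⟩
      · intro x; rfl
      · intro y; rfl
    rw [e1, e2]
  omega

theorem two_mul_card_le_of_bad [Finite G] (h : ∃ Q : Subgroup G, Bad Q) (P : Sylow 2 G) :
    2 * Nat.card (PC 2 G) ≤ Nat.card (P : Subgroup G) := by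
  obtain ⟨Q, ⟨hQ2, g, hgN, hodd, hgC⟩, hmax⟩ := exists_max_bad h
  obtain ⟨P₁, hP₁⟩ := hQ2.exists_le_sylow
  have hcard : Nat.card (P₁ : Subgroup G) = Nat.card (P : Subgroup G) := by
    rw [Sylow.card_eq_multiplicity, Sylow.card_eq_multiplicity]
  rw [← hcard]
  apply count_le P₁ Q hP₁ ?_ g hgN hodd hgC
  intro x hxP hxQ
  by_contra hall
  have hcen : ∀ u ∈ (P₁ : Subgroup G), u * x * u⁻¹ = x := by
    intro u hu
    by_contra hne
    exact hall ⟨u, hu, hne⟩
  have hxC : x ∈ Subgroup.centralizer (Q : Set G) := by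
    rw [Subgroup.mem_centralizer_iff]
    intro q hq
    have := hcen q (hP₁ hq)
    calc q * x = (q * x * q⁻¹) * q := by group
      _ = x * q := by rw [this]
  have hX2 : IsPGroup 2 (Subgroup.zpowers x) :=
    P₁.isPGroup'.to_le ((Subgroup.zpowers_le).mpr hxP)
  obtain ⟨R, hXR, hR⟩ := exists_isMax2_ge ((Subgroup.zpowers_le).mpr hxC) hX2
  exact hxQ (hmax R hR (hXR (Subgroup.mem_zpowers x)))

theorem clsMap_compat (P : Sylow 2 G) (a b : (P : Subgroup G)) (hab : IsConj a b) :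
    clsMap P a = clsMap P b := by
  rw [isConj_iff] at hab
  obtain ⟨c, hc⟩ := hab
  apply Subtype.ext
  show ConjClasses.mk (a : G) = ConjClasses.mk (b : G)
  rw [ConjClasses.mk_eq_mk_iff_isConj, isConj_iff]
  exact ⟨c, congrArg Subtype.val hc⟩

/-- the map from classes of `P` to `2`-classes of `G` -/
def clsLift (P : Sylow 2 G) : ConjClasses (P : Subgroup G) → PC 2 G :=
  Quotient.lift (clsMap P) (fun a b h => clsMap_compat P a b h)

theorem card_pc_le_card_conjClasses [Finite G] (P : Sylow 2 G) :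
    Nat.card (PC 2 G) ≤ Nat.card (ConjClasses (P : Subgroup G)) := by
  refine Nat.card_le_card_of_surjective (clsLift P) ?_
  intro c
  obtain ⟨x, hx⟩ := clsMap_surj P c
  exact ⟨ConjClasses.mk x, hx⟩

theorem card_conjClasses_le_card_pc [Finite G] (P Q : Sylow 2 G) (N : Subgroup G) (hN : N.Normal)
    (hc : N.IsComplement' (Q : Subgroup G)) :
    Nat.card (ConjClasses (P : Subgroup G)) ≤ Nat.card (PC 2 G) := by
  have hcardPQ : Nat.card (P : Subgroup G) = Nat.card (Q : Subgroup G) := by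
    rw [Sylow.card_eq_multiplicity, Sylow.card_eq_multiplicity]
  have hodd : ¬ 2 ∣ Nat.card N := by
    rw [← hc.index_eq_card]
    exact Q.not_dvd_index
  have hc' : N.IsComplement' (P : Subgroup G) := by
    apply Subgroup.isComplement'_of_coprime
    · rw [hcardPQ]; exact hc.card_mul_card
    · obtain ⟨k, hk⟩ := IsPGroup.iff_card.mp P.isPGroup'
      rw [hk]
      apply Nat.Coprime.pow_right
      exact ((Nat.Prime.coprime_iff_not_dvd Nat.prime_two).mpr hodd).symm
  refine Nat.card_le_card_of_injective (clsLift P) ?_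
  intro a b
  induction a using Quotient.inductionOn with
  | _ a =>
  induction b using Quotient.inductionOn with
  | _ b =>
  intro hab
  have h1 : ConjClasses.mk (a : G) = ConjClasses.mk (b : G) := congrArg Subtype.val hab
  rw [ConjClasses.mk_eq_mk_iff_isConj, isConj_iff] at h1
  obtain ⟨c, hcab⟩ := h1
  obtain ⟨⟨⟨n, hn⟩, ⟨u, hu⟩⟩, hnu, -⟩ := (Subgroup.IsComplement.existsUnique hc' c)
  simp only at hnu
  have hx'P : u * a * u⁻¹ ∈ (P : Subgroup G) :=
    Subgroup.mul_mem _ (Subgroup.mul_mem _ hu a.2) (Subgroup.inv_mem _ hu)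
  have hb : (b : G) = n * (u * a * u⁻¹) * n⁻¹ := by
    rw [← hcab, ← hnu]; group
  have h2 : (b : G) * (u * a * u⁻¹)⁻¹ ∈ N := by
    have h3 : (u * a * u⁻¹) * n⁻¹ * (u * a * u⁻¹)⁻¹ ∈ N :=
      hN.conj_mem n⁻¹ (N.inv_mem hn) _
    have e : (b : G) * (u * a * u⁻¹)⁻¹ = n * ((u * a * u⁻¹) * n⁻¹ * (u * a * u⁻¹)⁻¹) := by
      rw [hb]; group
    rw [e]
    exact N.mul_mem hn h3
  have h4 : (b : G) * (u * a * u⁻¹)⁻¹ ∈ (P : Subgroup G) :=
    Subgroup.mul_mem _ b.2 (Subgroup.inv_mem _ hx'P)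
  have h5 := (Subgroup.disjoint_def.mp hc'.disjoint) h2 h4
  have h6 : (b : G) = u * a * u⁻¹ := mul_inv_eq_one.mp h5
  show ConjClasses.mk a = ConjClasses.mk b
  rw [ConjClasses.mk_eq_mk_iff_isConj, isConj_iff]
  exact ⟨⟨u, hu⟩, Subtype.ext h6.symm⟩

end Cfsg.Agent.Lib.Helper8.K2
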