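import Mathlib
import Cfsg.Agent.S3897

/-! Counting classes of `π`-elements: `k_π(G) ≤ k_r(G) · |G|_{π∖r}` and `k_π(G) ≤ |G|_π`. -/
set_option autoImplicit false

universe u

namespace Cfsg.Agent.Lib.Helper8.KPi

open Cfsg.Agent.S3897

/-- classes of `π`-elements -/
abbrev PiC (π : Finset ℕ) (G : Type*) [Group G] : Type _ :=
  {c : ConjClasses G // ∀ x ∈ c.carrier, ∀ r : ℕ, r.Prime → r ∣ orderOf x → r ∈ π}

variable {G : Type u} [Group G]

/-- the `r`-part / `r'`-part decomposition of an element of finite order -/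
theorem exists_decomp [Finite G] (r : ℕ) (hr : r.Prime) (x : G) :
    ∃ y z : G, x = y * z ∧ y * z = z * y ∧ (∃ k, orderOf y = r ^ k) ∧
      orderOf z ∣ orderOf x ∧ ¬ r ∣ orderOf z := by
  have hn : orderOf x ≠ 0 := (orderOf_pos x).ne'
  set n := orderOf x with hndef
  set q := r ^ n.factorization r with hq
  set m := n / r ^ n.factorization r with hm
  have hqm : q * m = n := Nat.ordProj_mul_ordCompl_eq_self n r
  have co : Nat.Coprime q m := Nat.Coprime.pow_left _ (Nat.coprime_ordCompl hr hn)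
  obtain ⟨e, he1, he0⟩ := Nat.chineseRemainder co 1 0
  obtain ⟨f, hf0, hf1⟩ := Nat.chineseRemainder co 0 1
  have hme : m ∣ e := Nat.modEq_zero_iff_dvd.mp he0
  have hqf : q ∣ f := Nat.modEq_zero_iff_dvd.mp hf0
  refine ⟨x ^ e, x ^ f, ?_, ((Commute.refl x).pow_pow e f).eq, ?_, ?_, ?_⟩
  · rw [← pow_add]
    have h1 : e + f ≡ 1 [MOD q * m] := by
      rw [← Nat.modEq_and_modEq_iff_modEq_mul co]
      exact ⟨by simpa using he1.add hf0, by simpa using he0.add hf1⟩
    rw [hqm] at h1
    have := (pow_eq_pow_iff_modEq (x := x)).mpr h1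
    rw [this, pow_one]
  · have h1 : (x ^ e) ^ q = 1 := by
      rw [← pow_mul]
      obtain ⟨t, rfl⟩ := hme
      have : m * t * q = n * t := by rw [← hqm]; ring
      rw [this, pow_mul, hndef, pow_orderOf_eq_one, one_pow]
    have h2 : orderOf (x ^ e) ∣ r ^ n.factorization r := orderOf_dvd_of_pow_eq_one h1
    obtain ⟨k, -, hk⟩ := (Nat.dvd_prime_pow hr).mp h2
    exact ⟨k, hk⟩
  · have h1 : (x ^ f) ^ m = 1 := by
      rw [← pow_mul]
      obtain ⟨t, rfl⟩ := hqf
      have : q * t * m = n * t := by rw [← hqm]; ring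
      rw [this, pow_mul, hndef, pow_orderOf_eq_one, one_pow]
    exact (orderOf_dvd_of_pow_eq_one h1).trans (Nat.ordCompl_dvd n r)
  · have h1 : (x ^ f) ^ m = 1 := by
      rw [← pow_mul]
      obtain ⟨t, rfl⟩ := hqf
      have : q * t * m = n * t := by rw [← hqm]; ring
      rw [this, pow_mul, hndef, pow_orderOf_eq_one, one_pow]
    intro hdvd
    exact Nat.not_dvd_ordCompl hr hn (hdvd.trans (orderOf_dvd_of_pow_eq_one h1))

theorem fiber_le [Finite G] (π' : Finset ℕ) {ι : Type*} (cls : ι → ConjClasses G)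
    (hinj : Function.Injective cls) (y : G)
    (h : ∀ i, ∃ z : G, z ∈ Subgroup.centralizer ({y} : Set G) ∧
      (∀ s : ℕ, s.Prime → s ∣ orderOf z → s ∈ π') ∧ ConjClasses.mk (y * z) = cls i) :
    Nat.card ι ≤ Nat.card (PiC π' ↥(Subgroup.centralizer ({y} : Set G))) := by
  choose z hzC hzπ hz using h
  have hcl : ∀ i, ∀ w ∈ (ConjClasses.mk
      (⟨z i, hzC i⟩ : ↥(Subgroup.centralizer ({y} : Set G)))).carrier,
      ∀ s : ℕ, s.Prime → s ∣ orderOf w → s ∈ π' := by
    intro i w hw s hs hsw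
    rw [ConjClasses.mem_carrier_iff_mk_eq, ConjClasses.mk_eq_mk_iff_isConj, isConj_iff] at hw
    obtain ⟨c, hc⟩ := hw
    have h1 : orderOf w = orderOf (z i) := by
      rw [← Subgroup.orderOf_mk (z i) (hzC i), ← hc]
      exact ((MulAut.conj c).orderOf_eq w).symm
    exact hzπ i s hs (h1 ▸ hsw)
  refine Nat.card_le_card_of_injective
    (fun i => (⟨ConjClasses.mk ⟨z i, hzC i⟩, hcl i⟩ :
      PiC π' ↥(Subgroup.centralizer ({y} : Set G)))) ?_
  intro i j hij
  apply hinj
  rw [← hz i, ← hz j]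
  have h1 : ConjClasses.mk (⟨z i, hzC i⟩ : ↥(Subgroup.centralizer ({y} : Set G))) =
      ConjClasses.mk ⟨z j, hzC j⟩ := congrArg Subtype.val hij
  rw [ConjClasses.mk_eq_mk_iff_isConj, isConj_iff] at h1 ⊢
  obtain ⟨⟨c, hcC⟩, hc⟩ := h1
  have hc' : c * z i * c⁻¹ = z j := congrArg Subtype.val hc
  refine ⟨c, ?_⟩
  have hcy : c * y = y * c := (Subgroup.mem_centralizer_singleton_iff.mp hcC)
  calc c * (y * z i) * c⁻¹ = (c * y) * z i * c⁻¹ := by group
    _ = y * (c * z i * c⁻¹) := by rw [hcy]; group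
    _ = y * z j := by rw [hc']

theorem card_piC_insert_le [Finite G] (r : ℕ) (hr : r.Prime) (π' : Finset ℕ) (N : ℕ)
    (hN : ∀ y : G, Nat.card (PiC π' ↥(Subgroup.centralizer ({y} : Set G))) ≤ N) :
    Nat.card (PiC (insert r π') G) ≤ Nat.card (PC r G) * N := by
  classical
  have hrep : ∀ c : PiC (insert r π') G, ∃ y z : G, ConjClasses.mk (y * z) = c.1 ∧
      y * z = z * y ∧ (∃ k, orderOf y = r ^ k) ∧
      (∀ s : ℕ, s.Prime → s ∣ orderOf z → s ∈ π') := by
    intro c
    obtain ⟨x, hx⟩ := ConjClasses.exists_rep c.1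
    obtain ⟨y, z, hxyz, hcomm, hy, hzx, hrz⟩ := exists_decomp r hr x
    refine ⟨y, z, by rw [← hxyz, hx], hcomm, hy, ?_⟩
    intro s hs hsz
    have h1 : s ∈ insert r π' :=
      c.2 x (by rw [← hx]; exact ConjClasses.mem_carrier_mk) s hs (hsz.trans hzx)
    rcases Finset.mem_insert.mp h1 with rfl | h
    · exact absurd hsz hrz
    · exact h
  choose y z hyz hcomm hy hz using hrep
  have hcl : ∀ c, ∀ w ∈ (ConjClasses.mk (y c)).carrier, ∃ k : ℕ, orderOf w = r ^ k := by
    intro c w hw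
    rw [ConjClasses.mem_carrier_iff_mk_eq, ConjClasses.mk_eq_mk_iff_isConj, isConj_iff] at hw
    obtain ⟨g, hg⟩ := hw
    obtain ⟨k, hk⟩ := hy c
    refine ⟨k, ?_⟩
    rw [← hk, ← hg]
    exact ((MulAut.conj g).orderOf_eq w).symm
  let Φ : PiC (insert r π') G → PC r G := fun c => ⟨ConjClasses.mk (y c), hcl c⟩
  have e := Equiv.sigmaFiberEquiv Φ
  haveI : Fintype (PC r G) := Fintype.ofFinite _
  rw [← Nat.card_congr e, Nat.card_sigma]
  calc ∑ d, Nat.card {c // Φ c = d} ≤ ∑ _d : PC r G, N := Finset.sum_le_sum (fun d _ => ?_)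
    _ = Nat.card (PC r G) * N := by
      rw [Finset.sum_const, Finset.card_univ, smul_eq_mul, Nat.card_eq_fintype_card]
  obtain ⟨y₀, hy₀⟩ := ConjClasses.exists_rep d.1
  refine (fiber_le π' (fun c : {c // Φ c = d} => c.1.1) ?_ y₀ ?_).trans (hN y₀)
  · intro a b hab
    exact Subtype.ext (Subtype.ext hab)
  · rintro ⟨c, hc⟩
    have h1 : ConjClasses.mk (y c) = ConjClasses.mk y₀ := by
      rw [hy₀]; exact congrArg Subtype.val hc
    rw [ConjClasses.mk_eq_mk_iff_isConj, isConj_iff] at h1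
    obtain ⟨g, hg⟩ := h1
    refine ⟨g * z c * g⁻¹, ?_, ?_, ?_⟩
    · rw [Subgroup.mem_centralizer_singleton_iff, ← hg]
      calc g * z c * g⁻¹ * (g * y c * g⁻¹) = g * (z c * y c) * g⁻¹ := by group
        _ = g * (y c * z c) * g⁻¹ := by rw [hcomm c]
        _ = g * y c * g⁻¹ * (g * z c * g⁻¹) := by group
    · intro s hs hsz
      have : orderOf (g * z c * g⁻¹) = orderOf (z c) := (MulAut.conj g).orderOf_eq (z c)
      rw [this] at hsz
      exact hz c s hs hsz
    · show ConjClasses.mk (y₀ * (g * z c * g⁻¹)) = c.1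
      rw [← hyz c, ConjClasses.mk_eq_mk_iff_isConj, isConj_comm, isConj_iff]
      exact ⟨g, by rw [← hg]; group⟩

theorem card_pc_le [Finite G] (r : ℕ) (hr : r.Prime) :
    Nat.card (PC r G) ≤ r ^ (Nat.card G).factorization r := by
  haveI : Fact r.Prime := ⟨hr⟩
  obtain ⟨R⟩ := (inferInstance : Nonempty (Sylow r G))
  rw [← Sylow.card_eq_multiplicity R]
  exact Nat.card_le_card_of_surjective _ (clsMap_surj R)

theorem card_piC_le (π : Finset ℕ) (hπ : ∀ r ∈ π, r.Prime) :
    ∀ (G : Type u) [Group G] [Finite G],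
      Nat.card (PiC π G) ≤ π.prod (fun r => r ^ (Nat.card G).factorization r) := by
  classical
  induction π using Finset.induction_on with
  | empty =>
    intro G _ _
    rw [Finset.prod_empty]
    have : Subsingleton (PiC ∅ G) := by
      have h1 : ∀ c : PiC ∅ G, c.1 = ConjClasses.mk 1 := by
        intro c
        obtain ⟨x, hx⟩ := ConjClasses.exists_rep c.1
        have h2 : orderOf x = 1 := by
          by_contra hne
          obtain ⟨s, hs, hsx⟩ := Nat.exists_prime_and_dvd hne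
          exact absurd (c.2 x (by rw [← hx]; exact ConjClasses.mem_carrier_mk) s hs hsx)
            (Finset.notMem_empty s)
        rw [orderOf_eq_one_iff] at h2
        rw [← hx, h2]
      exact ⟨fun a b => Subtype.ext ((h1 a).trans (h1 b).symm)⟩
    exact Finite.card_le_one_iff_subsingleton.mpr this
  | insert r π' hr ih =>
    intro G _ _
    have hrp : r.Prime := hπ r (Finset.mem_insert_self r π')
    have ih' := ih (fun s hs => hπ s (Finset.mem_insert_of_mem hs))
    have hN : ∀ y : G, Nat.card (PiC π' ↥(Subgroup.centralizer ({y} : Set G))) ≤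
        π'.prod (fun s => s ^ (Nat.card G).factorization s) := by
      intro y
      refine (ih' ↥(Subgroup.centralizer ({y} : Set G))).trans ?_
      apply Finset.prod_le_prod (fun _ _ => Nat.zero_le _)
      intro s hs
      apply Nat.pow_le_pow_right (hπ s (Finset.mem_insert_of_mem hs)).pos
      exact (Nat.factorization_le_iff_dvd Nat.card_pos.ne' Nat.card_pos.ne').mpr
        (Subgroup.card_subgroup_dvd_card _) s
    rw [Finset.prod_insert hr]
    exact (card_piC_insert_le r hrp π' _ hN).trans (Nat.mul_le_mul_right _ (card_pc_le r hrp))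

theorem card_piC_le_mul [Finite G] (π : Finset ℕ) (hπ : ∀ r ∈ π, r.Prime) (r : ℕ) (hr : r ∈ π) :
    Nat.card (PiC π G) ≤ Nat.card (PC r G) *
      (π.erase r).prod (fun s => s ^ (Nat.card G).factorization s) := by
  classical
  have hπ' : ∀ s ∈ π.erase r, s.Prime := fun s hs => hπ s (Finset.mem_of_mem_erase hs)
  have hN : ∀ y : G, Nat.card (PiC (π.erase r) ↥(Subgroup.centralizer ({y} : Set G))) ≤
      (π.erase r).prod (fun s => s ^ (Nat.card G).factorization s) := by
    intro y
    refine (card_piC_le (π.erase r) hπ' ↥(Subgroup.centralizer ({y} : Set G))).trans ?_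
    apply Finset.prod_le_prod (fun _ _ => Nat.zero_le _)
    intro s hs
    apply Nat.pow_le_pow_right (hπ' s hs).pos
    exact (Nat.factorization_le_iff_dvd Nat.card_pos.ne' Nat.card_pos.ne').mpr
      (Subgroup.card_subgroup_dvd_card _) s
  have := card_piC_insert_le r (hπ r hr) (π.erase r) _ hN
  rwa [Finset.insert_erase hr] at this

end Cfsg.Agent.Lib.Helper8.KPi
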