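import Mathlib
import Cfsg.Agent.Lib.Helper8.K3a

/-! Normal `π`-complements from normal `r`-complements, and abelian Hall subgroups. -/
set_option autoImplicit false

namespace Cfsg.Agent.Lib.Helper8.KPi

variable {G : Type*} [Group G]

/-- commutators lie in a normal complement of an abelian subgroup -/
theorem commutator_mem_of_complement (N Q : Subgroup G) (hN : N.Normal) (hc : N.IsComplement' Q)
    (hQ : ∀ a ∈ Q, ∀ b ∈ Q, a * b = b * a) (a b : G) : a * b * a⁻¹ * b⁻¹ ∈ N := by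
  haveI := hN
  have hdec : ∀ z : G, ∃ u ∈ Q, (QuotientGroup.mk' N) z = (QuotientGroup.mk' N) u := by
    intro z
    obtain ⟨⟨⟨n, hn⟩, ⟨u, hu⟩⟩, hnu, -⟩ := (Subgroup.IsComplement.existsUnique hc z)
    refine ⟨u, hu, ?_⟩
    simp only at hnu
    rw [← hnu, map_mul]
    have : (QuotientGroup.mk' N) n = 1 := by
      rw [QuotientGroup.mk'_apply, QuotientGroup.eq_one_iff]; exact hn
    rw [this, one_mul]
  obtain ⟨u, hu, hau⟩ := hdec a
  obtain ⟨v, hv, hbv⟩ := hdec b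
  have : (QuotientGroup.mk' N) (a * b * a⁻¹ * b⁻¹) = 1 := by
    rw [map_mul, map_mul, map_mul, map_inv, map_inv, hau, hbv, ← map_mul, hQ u hu v hv, map_mul]
    group
  rwa [QuotientGroup.mk'_apply, QuotientGroup.eq_one_iff] at this

theorem exists_normal_pi_complement [Finite G] (π : Finset ℕ)
    (h : ∀ r ∈ π, r.Prime ∧ ∃ (Q : Subgroup G) (N : Subgroup G), N.Normal ∧ N.IsComplement' Q ∧
      IsPGroup r Q ∧ ¬ r ∣ Nat.card N ∧ (∀ a ∈ Q, ∀ b ∈ Q, a * b = b * a)) :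
    ∃ N : Subgroup G, N.Normal ∧ (∀ r : ℕ, r.Prime → r ∣ Nat.card N → r ∉ π) ∧
      (∀ r : ℕ, r.Prime → r ∣ N.index → r ∈ π) ∧ ∀ a b : G, a * b * a⁻¹ * b⁻¹ ∈ N := by
  classical
  choose hpr Q N hN hc hQp hrN hQab using h
  let M : Subgroup G := ⨅ i : π, N i.1 i.2
  have hMle : ∀ r (hr : r ∈ π), M ≤ N r hr :=
    fun r hr => iInf_le (fun i : π => N i.1 i.2) ⟨r, hr⟩
  refine ⟨M, Subgroup.normal_iInf_normal (fun i => hN i.1 i.2), ?_, ?_, ?_⟩
  · intro r _ hrM hrπ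
    exact hrN r hrπ (hrM.trans (Subgroup.card_dvd_of_le (hMle r hrπ)))
  · intro s hs hsM
    by_contra hsπ
    haveI : Fact s.Prime := ⟨hs⟩
    obtain ⟨S⟩ := (inferInstance : Nonempty (Sylow s G))
    have hSM : (S : Subgroup G) ≤ M := by
      apply le_iInf
      rintro ⟨r, hr⟩
      intro x hx
      haveI := hN r hr
      haveI : Fact r.Prime := ⟨hpr r hr⟩
      have h1 : orderOf ((QuotientGroup.mk' (N r hr)) x) ∣ orderOf x := orderOf_map_dvd _ x
      obtain ⟨k, hk⟩ := (IsPGroup.iff_orderOf.mp S.isPGroup') ⟨x, hx⟩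
      rw [Subgroup.orderOf_mk] at hk
      have h2 : orderOf ((QuotientGroup.mk' (N r hr)) x) ∣ Nat.card (G ⧸ N r hr) :=
        orderOf_dvd_natCard _
      have h3 : Nat.card (G ⧸ N r hr) = Nat.card (Q r hr) := by
        have := (hc r hr).symm.index_eq_card
        rw [← this]; rfl
      obtain ⟨j, hj⟩ := IsPGroup.iff_card.mp (hQp r hr)
      have hcop : Nat.Coprime (s ^ k) (r ^ j) :=
        Nat.Coprime.pow _ _ ((Nat.coprime_primes hs (hpr r hr)).mpr
          (by rintro rfl; exact hsπ hr))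
      have h4 : orderOf ((QuotientGroup.mk' (N r hr)) x) = 1 :=
        Nat.eq_one_of_dvd_coprimes hcop (hk ▸ h1) (hj ▸ h3 ▸ h2)
      rw [orderOf_eq_one_iff, QuotientGroup.mk'_apply, QuotientGroup.eq_one_iff] at h4
      exact h4
    exact S.not_dvd_index (hsM.trans (Subgroup.index_dvd_of_le hSM))
  · intro a b
    rw [Subgroup.mem_iInf]
    rintro ⟨r, hr⟩
    exact commutator_mem_of_complement _ _ (hN r hr) (hc r hr) (hQab r hr) a b

theorem exists_abelian_hall [Finite G] (π : Finset ℕ) (N : Subgroup G) (hN : N.Normal)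
    (h1 : ∀ r : ℕ, r.Prime → r ∣ Nat.card N → r ∉ π)
    (h2 : ∀ r : ℕ, r.Prime → r ∣ N.index → r ∈ π)
    (h3 : ∀ a b : G, a * b * a⁻¹ * b⁻¹ ∈ N) :
    ∃ H : Subgroup G, ((∀ p : ℕ, p.Prime → p ∣ Nat.card H → p ∈ (↑π : Set ℕ)) ∧
      ∀ p : ℕ, p.Prime → p ∈ (↑π : Set ℕ) → ¬ p ∣ H.index) ∧ IsMulCommutative H := by
  haveI := hN
  have hcop : Nat.Coprime (Nat.card N) N.index := by
    by_contra hnc
    obtain ⟨s, hs, hsN, hsI⟩ := Nat.Prime.not_coprime_iff_dvd.mp hnc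
    exact h1 s hs hsN (h2 s hs hsI)
  obtain ⟨H, hH⟩ := Subgroup.exists_right_complement'_of_coprime hcop
  have hcH : N.index = Nat.card H := hH.symm.index_eq_card
  have hiH : H.index = Nat.card N := hH.index_eq_card
  refine ⟨H, ⟨?_, ?_⟩, ?_⟩
  · intro s hs hsH
    exact Finset.mem_coe.mpr (h2 s hs (hcH ▸ hsH))
  · intro s hs hsπ hsI
    exact h1 s hs (hiH ▸ hsI) (Finset.mem_coe.mp hsπ)
  · refine ⟨⟨fun a b => Subtype.ext ?_⟩⟩
    have h4 : (a : G) * b * (a : G)⁻¹ * (b : G)⁻¹ ∈ N := h3 a b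
    have h5 : (a : G) * b * (a : G)⁻¹ * (b : G)⁻¹ ∈ H := (a * b * a⁻¹ * b⁻¹).2
    have h6 := Subgroup.disjoint_def.mp hH.disjoint h4 h5
    show (a : G) * b = b * a
    calc (a : G) * b = ((a : G) * b * (a : G)⁻¹ * (b : G)⁻¹) * (b * a) := by group
      _ = b * a := by rw [h6, one_mul]

end Cfsg.Agent.Lib.Helper8.KPi
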