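import Mathlib
import Cfsg.Agent.S3897

/-! The orbit-counting bound for classes of `p`-elements, with a parameter. -/
set_option autoImplicit false

namespace Cfsg.Agent.Lib.Helper8.KPi

open Cfsg.Agent.S3897

/-- If `H ≤ N_G(P)` and `|H : C_H(P)| ≥ t` then `t p k_p(G) ≤ (p + t - 1) |P|`. -/
theorem orbit_bound_t {G : Type*} [Group G] [Finite G] {p : ℕ} [Fact p.Prime] (P : Sylow p G)
    (H : Subgroup G) (hH : H ≤ Subgroup.normalizer ((P : Subgroup G) : Set G)) (t : ℕ)
    (ht : t * Nat.card ((Subgroup.centralizer ((P : Subgroup G) : Set G)).subgroupOf H)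
      ≤ Nat.card H) :
    t * p * Nat.card (PC p G) + Nat.card (P : Subgroup G) ≤ (p + t) * Nat.card (P : Subgroup G) := by
  classical
  letI : MulAction H (P : Subgroup G) := conjMA H P hH
  haveI : Fintype H := Fintype.ofFinite _
  haveI : Fintype (P : Subgroup G) := Fintype.ofFinite _
  have key := MulAction.sum_card_fixedBy_eq_card_orbits_mul_card_group H (P : Subgroup G)
  have hp1 : 1 < p := (Fact.out : p.Prime).one_lt
  obtain ⟨q, rfl⟩ : ∃ q, p = q + 1 := ⟨p - 1, by omega⟩
  set n := Fintype.card (P : Subgroup G) with hn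
  set K : Subgroup H := (Subgroup.centralizer ((P : Subgroup G) : Set G)).subgroupOf H with hKdef
  have hfix1 : ∀ h : H, Fintype.card (MulAction.fixedBy (P : Subgroup G) h) ≤ n :=
    fun h => Fintype.card_subtype_le _
  have hfix2 : ∀ h : H, h ∉ K →
      (q + 1) * Fintype.card (MulAction.fixedBy (P : Subgroup G) h) ≤ n := by
    intro h hh
    set Ch : Subgroup (P : Subgroup G) :=
      (Subgroup.centralizer ({(h : G)} : Set G)).subgroupOf P with hCh
    have e : (MulAction.fixedBy (P : Subgroup G) h) = (Ch : Set _) := by
      ext x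
      rw [MulAction.mem_fixedBy, SetLike.mem_coe, hCh, Subgroup.mem_subgroupOf,
        Subgroup.mem_centralizer_singleton_iff]
      constructor
      · intro hx
        have h1 : (h : G) * x * (h : G)⁻¹ = x := congrArg Subtype.val hx
        calc (x : G) * h = ((h : G) * x * (h : G)⁻¹) * h := by rw [h1]
          _ = h * x := by group
      · intro hx
        apply Subtype.ext
        show (h : G) * x * (h : G)⁻¹ = x
        rw [← hx]; group
    have hne : Ch ≠ ⊤ := by
      intro htop
      apply hh
      rw [hKdef, Subgroup.mem_subgroupOf, Subgroup.mem_centralizer_iff]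
      intro x hx
      have : (⟨x, hx⟩ : (P : Subgroup G)) ∈ Ch := by rw [htop]; trivial
      rw [hCh, Subgroup.mem_subgroupOf, Subgroup.mem_centralizer_singleton_iff] at this
      exact this
    obtain ⟨k, hk⟩ := (P.isPGroup').index Ch
    have hk0 : k ≠ 0 := by
      rintro rfl
      rw [pow_zero, Subgroup.index_eq_one] at hk
      exact hne hk
    have hdvd : (q + 1) ∣ Ch.index := by
      rw [hk]; exact dvd_pow_self _ hk0
    have hcard : Fintype.card (MulAction.fixedBy (P : Subgroup G) h) = Nat.card Ch := by
      rw [← Nat.card_eq_fintype_card]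
      exact Nat.card_congr (Equiv.setCongr e)
    have hmul := Ch.card_mul_index
    rw [Nat.card_eq_fintype_card (α := (P : Subgroup G))] at hmul
    obtain ⟨m, hm⟩ := hdvd
    have hm0 : m ≠ 0 := by
      rintro rfl
      rw [mul_zero] at hm
      exact Ch.index_ne_zero_of_finite hm
    rw [hcard, hn, ← hmul, hm]
    calc (q + 1) * Nat.card Ch = Nat.card Ch * ((q + 1) * 1) := by ring
      _ ≤ Nat.card Ch * ((q + 1) * m) := by
        apply Nat.mul_le_mul_left
        apply Nat.mul_le_mul_left
        omega
  have h2a : t * Fintype.card K ≤ Fintype.card H := by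
    rw [← Nat.card_eq_fintype_card, ← Nat.card_eq_fintype_card]
    exact ht
  have hsum : (q + 1) * ∑ h : H, Fintype.card (MulAction.fixedBy (P : Subgroup G) h)
      ≤ Fintype.card H * n + Fintype.card K * (q * n) := by
    rw [Finset.mul_sum]
    calc ∑ h : H, (q + 1) * Fintype.card (MulAction.fixedBy (P : Subgroup G) h)
        ≤ ∑ h : H, (n + if h ∈ K then q * n else 0) := by
          apply Finset.sum_le_sum
          intro h _
          by_cases hh : h ∈ K
          · rw [if_pos hh]
            calc (q + 1) * Fintype.card (MulAction.fixedBy (P : Subgroup G) h)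
                ≤ (q + 1) * n := Nat.mul_le_mul_left _ (hfix1 h)
              _ = n + q * n := by ring
          · rw [if_neg hh]
            exact (hfix2 h hh).trans (by omega)
      _ = Fintype.card H * n + Fintype.card K * (q * n) := by
          have hKc : Fintype.card K = (Finset.univ.filter (fun h : H => h ∈ K)).card :=
            Fintype.card_of_subtype _ (fun x => by simp)
          rw [Finset.sum_add_distrib, Finset.sum_const, Finset.card_univ, smul_eq_mul,
            Finset.sum_ite, Finset.sum_const_zero, add_zero, Finset.sum_const, smul_eq_mul, hKc]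
  rw [key] at hsum
  set Ω := Quotient (MulAction.orbitRel H (P : Subgroup G)) with hΩ
  have hsurj : Nat.card (PC (q + 1) G) ≤ Fintype.card Ω := by
    rw [← Nat.card_eq_fintype_card]
    have hcompat : ∀ a b : (P : Subgroup G), (MulAction.orbitRel H (P : Subgroup G)) a b →
        clsMap P a = clsMap P b := by
      intro a b hab
      rw [MulAction.orbitRel_apply, MulAction.mem_orbit_iff] at hab
      obtain ⟨h, hh⟩ := hab
      apply Subtype.ext
      show ConjClasses.mk (a : G) = ConjClasses.mk (b : G)
      rw [ConjClasses.mk_eq_mk_iff_isConj, isConj_comm, isConj_iff]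
      exact ⟨h, congrArg Subtype.val hh⟩
    refine Nat.card_le_card_of_surjective (Quotient.lift (clsMap P) hcompat) ?_
    intro c
    obtain ⟨x, hx⟩ := clsMap_surj P c
    exact ⟨Quotient.mk _ x, hx⟩
  have hb0 : 0 < Fintype.card H := Fintype.card_pos
  have h3 : (t * (q + 1) * Fintype.card Ω) * Fintype.card H ≤
      ((t + q) * n) * Fintype.card H := by
    calc (t * (q + 1) * Fintype.card Ω) * Fintype.card H
        = t * ((q + 1) * (Fintype.card Ω * Fintype.card H)) := by ring
      _ ≤ t * (Fintype.card H * n + Fintype.card K * (q * n)) := Nat.mul_le_mul_left _ hsum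
      _ = t * Fintype.card H * n + (t * Fintype.card K) * (q * n) := by ring
      _ ≤ t * Fintype.card H * n + Fintype.card H * (q * n) :=
          Nat.add_le_add_left (Nat.mul_le_mul_right _ h2a) _
      _ = ((t + q) * n) * Fintype.card H := by ring
  have h4 := Nat.le_of_mul_le_mul_right h3 hb0
  rw [Nat.card_eq_fintype_card (α := (P : Subgroup G))]
  have h5 : t * (q + 1) * Nat.card (PC (q + 1) G) ≤ t * (q + 1) * Fintype.card Ω :=
    Nat.mul_le_mul_left _ hsurj
  calc t * (q + 1) * Nat.card (PC (q + 1) G) + n ≤ (t + q) * n + n :=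
        Nat.add_le_add_right (h5.trans h4) _
    _ = (q + 1 + t) * n := by ring

end Cfsg.Agent.Lib.Helper8.KPi
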