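import Mathlib
import Cfsg.Agent.Lib.Helper8.K4a

/-! Groups of odd order with many classes of `r`-elements. -/
set_option autoImplicit false

namespace Cfsg.Agent.Lib.Helper8.KPi

open Cfsg.Agent.S3897

theorem arith_aux (t r : ℕ) (ht : 3 ≤ t) (hr : 3 ≤ r) (hne : t ≠ 3 ∨ r ≠ 3) :
    2 * (r + t - 1) ≤ t * r := by
  obtain ⟨t', rfl⟩ : ∃ t', t = t' + 3 := ⟨t - 3, by omega⟩
  obtain ⟨r', rfl⟩ : ∃ r', r = r' + 3 := ⟨r - 3, by omega⟩
  have h1 : 1 ≤ t' + r' := by omega
  have h2 : (t' + 3) * (r' + 3) = t' * r' + 3 * t' + 3 * r' + 9 := by ring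
  rw [h2]
  omega

theorem false_of_bounds (t r k n : ℕ) (h1 : t * r * k + n ≤ (r + t) * n) (h2 : n < 2 * k)
    (h3 : 2 * (r + t - 1) ≤ t * r) (h4 : 1 < r + t) : False := by
  obtain ⟨D, hD⟩ : ∃ D, r + t = D + 1 := ⟨r + t - 1, by omega⟩
  have hD' : r + t - 1 = D := by omega
  rw [hD'] at h3
  rw [hD] at h1
  have h5 : t * r * k ≤ D * n := by
    have : (D + 1) * n = D * n + n := by ring
    omega
  have h6 : D * n + D ≤ D * (2 * k) := by
    have : D * (n + 1) ≤ D * (2 * k) := Nat.mul_le_mul_left _ (by omega)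
    calc D * n + D = D * (n + 1) := by ring
      _ ≤ _ := this
  have h7 : 2 * D * k ≤ t * r * k := Nat.mul_le_mul_right _ h3
  have h8 : D * (2 * k) = 2 * D * k := by ring
  have h9 : 1 ≤ D := by omega
  omega

theorem odd_sylow_abelian_npc {M : Type*} [Group M] [Finite M] (hodd : Odd (Nat.card M))
    {r : ℕ} [hr : Fact r.Prime] (R : Sylow r M)
    (hk : Nat.card (R : Subgroup M) < 2 * Nat.card (PC r M)) :
    (∀ a ∈ (R : Subgroup M), ∀ b ∈ (R : Subgroup M), a * b = b * a) ∧
      ∃ N : Subgroup M, N.Normal ∧ N.IsComplement' (R : Subgroup M) := by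
  by_cases hR1 : Nat.card (R : Subgroup M) = 1
  · have hbot : (R : Subgroup M) = ⊥ := Subgroup.card_eq_one.mp hR1
    constructor
    · intro a ha b hb
      rw [hbot, Subgroup.mem_bot] at ha hb
      rw [ha, hb]
    · refine ⟨⊤, inferInstance, ?_⟩
      rw [hbot]
      exact Subgroup.isComplement'_top_bot
  -- `r` is odd
  obtain ⟨e, he⟩ := IsPGroup.iff_card.mp R.isPGroup'
  have he0 : e ≠ 0 := by
    rintro rfl
    exact hR1 (by rw [he, pow_zero])
  have hrM : r ∣ Nat.card M :=
    (dvd_pow_self r he0).trans (he ▸ Subgroup.card_subgroup_dvd_card (R : Subgroup M))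
  have hr3 : 3 ≤ r := by
    have h2 := hr.out.two_le
    have hrodd : Odd r := Odd.of_dvd_nat hodd hrM
    obtain ⟨j, hj⟩ := hrodd
    omega
  -- abelian
  have hab : ∀ a ∈ (R : Subgroup M), ∀ b ∈ (R : Subgroup M), a * b = b * a := by
    by_contra hna
    simp only [not_forall] at hna
    obtain ⟨h, hh, b, hb, hne⟩ := hna
    set K : Subgroup (R : Subgroup M) :=
      (Subgroup.centralizer ((R : Subgroup M) : Set M)).subgroupOf R with hK
    set C : Subgroup (R : Subgroup M) :=
      (Subgroup.centralizer ({h} : Set M)).subgroupOf R with hC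
    have hKC : K ≤ C := by
      intro x hx
      rw [hK, Subgroup.mem_subgroupOf, Subgroup.mem_centralizer_iff] at hx
      rw [hC, Subgroup.mem_subgroupOf, Subgroup.mem_centralizer_singleton_iff]
      exact (hx h hh).symm
    have hhC : (⟨h, hh⟩ : (R : Subgroup M)) ∈ C := by
      rw [hC, Subgroup.mem_subgroupOf, Subgroup.mem_centralizer_singleton_iff]
    have hhK : (⟨h, hh⟩ : (R : Subgroup M)) ∉ K := by
      intro hmem
      rw [hK, Subgroup.mem_subgroupOf, Subgroup.mem_centralizer_iff] at hmem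
      exact hne (hmem b hb).symm
    have hbC : (⟨b, hb⟩ : (R : Subgroup M)) ∉ C := by
      intro hmem
      rw [hC, Subgroup.mem_subgroupOf, Subgroup.mem_centralizer_singleton_iff] at hmem
      exact hne hmem.symm
    have hRp : IsPGroup r (R : Subgroup M) := R.isPGroup'
    obtain ⟨a, ha⟩ := IsPGroup.iff_card.mp (hRp.to_subgroup K)
    obtain ⟨c, hc⟩ := IsPGroup.iff_card.mp (hRp.to_subgroup C)
    have hr1 : 1 < r := hr.out.one_lt
    have hac : a < c := by
      have h1 : Nat.card K ≤ Nat.card C := Subgroup.card_le_of_le hKC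
      have h2 : Nat.card K ≠ Nat.card C := by
        intro heq
        have : K = C := Subgroup.eq_of_le_of_card_ge hKC heq.ge
        exact hhK (this ▸ hhC)
      rw [ha, hc] at h1 h2
      have h3 : r ^ a < r ^ c := lt_of_le_of_ne h1 h2
      exact (Nat.pow_lt_pow_iff_right hr1).mp h3
    have hce : c < e := by
      have h1 : Nat.card C ≤ Nat.card (R : Subgroup M) := Subgroup.card_le_card_group C
      have h2 : Nat.card C ≠ Nat.card (R : Subgroup M) := by
        intro heq
        have : C = ⊤ := (Subgroup.card_eq_iff_eq_top C).mp heq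
        exact hbC (this ▸ Subgroup.mem_top _)
      rw [hc, he] at h1 h2
      have h3 : r ^ c < r ^ e := lt_of_le_of_ne h1 h2
      exact (Nat.pow_lt_pow_iff_right hr1).mp h3
    have ht : r ^ 2 * Nat.card K ≤ Nat.card (R : Subgroup M) := by
      rw [ha, he, ← pow_add]
      exact Nat.pow_le_pow_right hr.out.pos (by omega)
    have hb1 := orbit_bound_t R (R : Subgroup M) Subgroup.le_normalizer (r ^ 2) ht
    -- arithmetic
    have h5 : 2 * (r + r ^ 2 - 1) ≤ r ^ 2 * r := by
      have h6 : 3 * r ≤ r * r := Nat.mul_le_mul_right _ hr3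
      have h7 : 3 * (r * r) ≤ r * (r * r) := Nat.mul_le_mul_right _ hr3
      have h8 : r ^ 2 * r = r * (r * r) := by ring
      have h9 : r ^ 2 = r * r := by ring
      rw [h8, h9]
      omega
    have h10 : 1 < r + r ^ 2 := by
      have : 0 < r ^ 2 := pow_pos hr.out.pos 2
      omega
    exact false_of_bounds (r ^ 2) r _ _ hb1 hk h5 h10
  refine ⟨hab, ?_⟩
  have hNC : Subgroup.normalizer ((R : Subgroup M) : Set M)
      ≤ Subgroup.centralizer ((R : Subgroup M) : Set M) := by
    intro h hhN
    by_contra hhC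
    obtain ⟨b, m, hm, ho⟩ :=
      Nat.exists_eq_pow_mul_and_not_dvd (orderOf_pos h).ne' r hr.out.ne_one
    have h2R : h ^ m ∈ (R : Subgroup M) := by
      have h1 : (h ^ m) ^ (r ^ b) = 1 := by
        rw [← pow_mul, mul_comm, ← ho, pow_orderOf_eq_one]
      obtain ⟨j, -, hj⟩ := (Nat.dvd_prime_pow hr.out).mp (orderOf_dvd_of_pow_eq_one h1)
      have hp : IsPGroup r (Subgroup.zpowers (h ^ m)) := by
        refine IsPGroup.of_card (n := j) ?_
        rw [Nat.card_zpowers, hj]
      have h3 := hp.inf_normalizer_sylow R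
      have h4 : h ^ m ∈ Subgroup.zpowers (h ^ m) ⊓
          Subgroup.normalizer ((R : Subgroup M) : Set M) :=
        ⟨Subgroup.mem_zpowers _, Subgroup.pow_mem _ hhN _⟩
      exact (h3.le h4).2
    have h2C : h ^ m ∈ Subgroup.centralizer ((R : Subgroup M) : Set M) := by
      rw [Subgroup.mem_centralizer_iff]
      intro y hy
      exact hab y hy _ h2R
    have h1C : h ^ (r ^ b) ∉ Subgroup.centralizer ((R : Subgroup M) : Set M) := by
      intro h1C
      apply hhC
      have hcop : IsCoprime ((r ^ b : ℕ) : ℤ) (m : ℤ) :=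
        Nat.isCoprime_iff_coprime.mpr
          (Nat.Coprime.pow_left b ((Nat.Prime.coprime_iff_not_dvd hr.out).mpr hm))
      obtain ⟨u, v, huv⟩ := hcop
      have : h = (h ^ (r ^ b)) ^ u * (h ^ m) ^ v := by
        rw [← zpow_natCast, ← zpow_natCast, ← zpow_mul, ← zpow_mul, ← zpow_add,
          mul_comm _ u, mul_comm _ v, huv, zpow_one]
      rw [this]
      exact Subgroup.mul_mem _ (Subgroup.zpow_mem _ h1C u) (Subgroup.zpow_mem _ h2C v)
    set h₁ := h ^ (r ^ b) with hh₁
    have h1N : h₁ ∈ Subgroup.normalizer ((R : Subgroup M) : Set M) := Subgroup.pow_mem _ hhN _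
    have ho1 : orderOf h₁ ∣ m := by
      apply orderOf_dvd_of_pow_eq_one
      rw [hh₁, ← pow_mul, ← ho, pow_orderOf_eq_one]
    set H : Subgroup M := Subgroup.zpowers h₁ with hH
    have hHN : H ≤ Subgroup.normalizer ((R : Subgroup M) : Set M) :=
      (Subgroup.zpowers_le).mpr h1N
    set K : Subgroup H :=
      (Subgroup.centralizer ((R : Subgroup M) : Set M)).subgroupOf H with hK
    have hKne : K ≠ ⊤ := by
      intro htop
      apply h1C
      have : (⟨h₁, Subgroup.mem_zpowers h₁⟩ : H) ∈ K := by rw [htop]; trivial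
      exact Subgroup.mem_subgroupOf.mp this
    have hmul : K.index * Nat.card K = Nat.card H := K.index_mul_card
    have ht1 : K.index ≠ 1 := fun h1 => hKne (Subgroup.index_eq_one.mp h1)
    have htH : K.index ∣ Nat.card H := Dvd.intro _ hmul
    have hcH : Nat.card H = orderOf h₁ := Nat.card_zpowers h₁
    have htodd : Odd K.index :=
      Odd.of_dvd_nat hodd (htH.trans (Subgroup.card_subgroup_dvd_card H))
    have htr : ¬ r ∣ K.index := fun hd => hm (hd.trans (htH.trans (hcH ▸ ho1)))
    have ht3 : 3 ≤ K.index := by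
      obtain ⟨j, hj⟩ := htodd
      omega
    have hne33 : K.index ≠ 3 ∨ r ≠ 3 := by
      by_contra hcon
      have h3 : K.index = 3 ∧ r = 3 := by
        constructor
        · by_contra h; exact hcon (Or.inl h)
        · by_contra h; exact hcon (Or.inr h)
      exact htr (by rw [h3.1, h3.2])
    have hb1 := orbit_bound_t R H hHN K.index hmul.le
    have h5 := arith_aux K.index r ht3 hr3 hne33
    exact false_of_bounds K.index r _ _ hb1 hk h5 (by omega)
  exact ⟨_, inferInstance, MonoidHom.ker_transferSylow_isComplement' R hNC⟩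

end Cfsg.Agent.Lib.Helper8.KPi
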