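import Mathlib
import Cfsg.Agent.Lib.Helper8.K3b
import Cfsg.Agent.Lib.Helper8.K4b
import Cfsg.Agent.S3895

/-! Many classes of `π`-elements with `2 ∈ π`. -/
set_option autoImplicit false

universe u

namespace Cfsg.Agent.Lib.Helper8.KPi

open Cfsg.Agent.S3897

theorem mem_of_coprime_index {G : Type*} [Group G] [Finite G] (N : Subgroup G) [N.Normal] (x : G)
    (h : Nat.Coprime (orderOf x) N.index) : x ∈ N := by
  have h1 : orderOf ((QuotientGroup.mk' N) x) ∣ orderOf x := orderOf_map_dvd _ x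
  have h2 : orderOf ((QuotientGroup.mk' N) x) ∣ Nat.card (G ⧸ N) := orderOf_dvd_natCard _
  have h3 : Nat.card (G ⧸ N) = N.index := rfl
  rw [h3] at h2
  have h4 : orderOf ((QuotientGroup.mk' N) x) = 1 := Nat.eq_one_of_dvd_coprimes h h1 h2
  rw [orderOf_eq_one_iff, QuotientGroup.mk'_apply, QuotientGroup.eq_one_iff] at h4
  exact h4

theorem card_pc_le_of_forall_mem {G : Type*} [Group G] [Finite G] (N : Subgroup G) (r : ℕ)
    (hall : ∀ x : G, (∃ k : ℕ, orderOf x = r ^ k) → x ∈ N) :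
    Nat.card (PC r G) ≤ Nat.card (PC r ↥N) := by
  have hrep : ∀ c : PC r G, ∃ x : G, ConjClasses.mk x = c.1 := fun c => ConjClasses.exists_rep c.1
  choose x hx using hrep
  have hord : ∀ c : PC r G, ∃ k : ℕ, orderOf (x c) = r ^ k := fun c =>
    c.2 (x c) (by rw [← hx c]; exact ConjClasses.mem_carrier_mk)
  have hmem : ∀ c, x c ∈ N := fun c => hall _ (hord c)
  have hcl : ∀ c : PC r G, ∀ w ∈ (ConjClasses.mk (⟨x c, hmem c⟩ : ↥N)).carrier,
      ∃ k : ℕ, orderOf w = r ^ k := by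
    intro c w hw
    rw [ConjClasses.mem_carrier_iff_mk_eq, ConjClasses.mk_eq_mk_iff_isConj, isConj_iff] at hw
    obtain ⟨g, hg⟩ := hw
    obtain ⟨k, hk⟩ := hord c
    refine ⟨k, ?_⟩
    rw [← hk, ← Subgroup.orderOf_mk (x c) (hmem c), ← hg]
    exact ((MulAut.conj g).orderOf_eq w).symm
  refine Nat.card_le_card_of_injective
    (fun c => (⟨ConjClasses.mk ⟨x c, hmem c⟩, hcl c⟩ : PC r ↥N)) ?_
  intro c d hcd
  have h1 : ConjClasses.mk (⟨x c, hmem c⟩ : ↥N) = ConjClasses.mk ⟨x d, hmem d⟩ :=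
    congrArg Subtype.val hcd
  rw [ConjClasses.mk_eq_mk_iff_isConj, isConj_iff] at h1
  obtain ⟨g, hg⟩ := h1
  apply Subtype.ext
  rw [← hx c, ← hx d, ConjClasses.mk_eq_mk_iff_isConj, isConj_iff]
  exact ⟨g, congrArg Subtype.val hg⟩

theorem mem_iff_of_pi_complement {M : Type*} [Group M] [Finite M] (N' : Subgroup M) [N'.Normal]
    (π' : Finset ℕ) (h1 : ∀ r : ℕ, r.Prime → r ∣ Nat.card N' → r ∉ π')
    (h2 : ∀ r : ℕ, r.Prime → r ∣ N'.index → r ∈ π') (y : M) :
    y ∈ N' ↔ ∀ s ∈ π', s.Prime → ¬ s ∣ orderOf y := by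
  constructor
  · intro hy s hs hsp hdvd
    have h3 : orderOf y ∣ Nat.card N' := by
      have := orderOf_dvd_natCard (⟨y, hy⟩ : N')
      rwa [Subgroup.orderOf_mk] at this
    exact h1 s hsp (hdvd.trans h3) hs
  · intro hall
    apply mem_of_coprime_index
    by_contra hnc
    obtain ⟨s, hs, hsy, hsI⟩ := Nat.Prime.not_coprime_iff_dvd.mp hnc
    exact hall s (h2 s hs hsI) hs hsy

theorem main_two {G : Type u} [Group G] [Finite G] (π : Finset ℕ) (hπ : ∀ r ∈ π, r.Prime)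
    (h2 : 2 ∈ π)
    (hk : π.prod (fun r => r ^ (Nat.card G).factorization r) < 2 * Nat.card (PiC π G)) :
    (∃ N : Subgroup G, N.Normal ∧ (∀ r : ℕ, r.Prime → r ∣ Nat.card ↥N → r ∉ π) ∧
      ∀ r : ℕ, r.Prime → r ∣ N.index → r ∈ π) ∧
    ∃ H : Subgroup G, ((∀ p : ℕ, p.Prime → p ∣ Nat.card H → p ∈ ((↑π : Set ℕ) \ {2})) ∧
      ∀ p : ℕ, p.Prime → p ∈ ((↑π : Set ℕ) \ {2}) → ¬ p ∣ H.index) ∧ IsMulCommutative ↥H := by
  classical
  set π' := π.erase 2 with hπ'
  set f : ℕ → ℕ := fun r => r ^ (Nat.card G).factorization r with hf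
  -- the general inequality for `r ∈ π`
  have hgen : ∀ r ∈ π, r ^ (Nat.card G).factorization r < 2 * Nat.card (PC r G) := by
    intro r hr
    have hle := card_piC_le_mul (G := G) π hπ r hr
    have hsplit : π.prod f = f r * (π.erase r).prod f := (Finset.mul_prod_erase π f hr).symm
    have hApos : 0 < (π.erase r).prod f := by
      apply Finset.prod_pos
      intro s hs
      exact pow_pos (hπ s (Finset.mem_of_mem_erase hs)).pos _
    have h3 : r ^ (Nat.card G).factorization r * (π.erase r).prod f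
        < (2 * Nat.card (PC r G)) * (π.erase r).prod f := by
      calc r ^ (Nat.card G).factorization r * (π.erase r).prod f = π.prod f := hsplit.symm
        _ < 2 * Nat.card (PiC π G) := hk
        _ ≤ 2 * (Nat.card (PC r G) * (π.erase r).prod f) := Nat.mul_le_mul_left _ hle
        _ = (2 * Nat.card (PC r G)) * (π.erase r).prod f := by ring
    exact Nat.lt_of_mul_lt_mul_right h3
  -- Step 1: the normal 2-complement
  obtain ⟨P⟩ := (inferInstance : Nonempty (Sylow 2 G))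
  have hP : Nat.card (P : Subgroup G) < 2 * Nat.card (PC 2 G) := by
    rw [Sylow.card_eq_multiplicity]
    exact hgen 2 h2
  obtain ⟨⟨Q, N₂, hN₂, hc⟩, -⟩ := (Cfsg.Agent.S3895.result P).mp hP
  haveI := hN₂
  have hN2idx : N₂.index = Nat.card (Q : Subgroup G) := hc.symm.index_eq_card
  obtain ⟨v, hv⟩ := IsPGroup.iff_card.mp Q.isPGroup'
  have hoddM : Odd (Nat.card N₂) := by
    rw [← hc.index_eq_card]
    have := Q.not_dvd_index
    rw [Nat.odd_iff]
    omega
  have hmemN2 : ∀ r : ℕ, r.Prime → r ≠ 2 → ∀ x : G, (∃ k : ℕ, orderOf x = r ^ k) → x ∈ N₂ := by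
    rintro r hr hr2 x ⟨k, hx⟩
    apply mem_of_coprime_index
    rw [hx, hN2idx, hv]
    exact Nat.Coprime.pow _ _ ((Nat.coprime_primes hr Nat.prime_two).mpr hr2)
  -- Step 2
  have key : ∀ r ∈ π', r.Prime ∧ ∃ (Q' : Subgroup ↥N₂) (N' : Subgroup ↥N₂), N'.Normal ∧
      N'.IsComplement' Q' ∧ IsPGroup r Q' ∧ ¬ r ∣ Nat.card N' ∧
      (∀ a ∈ Q', ∀ b ∈ Q', a * b = b * a) := by
    intro r hr
    have hrπ : r ∈ π := Finset.mem_of_mem_erase hr
    have hr2 : r ≠ 2 := Finset.ne_of_mem_erase hr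
    have hrp := hπ r hrπ
    haveI : Fact r.Prime := ⟨hrp⟩
    have h6 := hgen r hrπ
    have h7 : Nat.card (PC r G) ≤ Nat.card (PC r ↥N₂) :=
      card_pc_le_of_forall_mem N₂ r (hmemN2 r hrp hr2)
    obtain ⟨R⟩ := (inferInstance : Nonempty (Sylow r ↥N₂))
    have hRcard : Nat.card (R : Subgroup ↥N₂) = r ^ (Nat.card G).factorization r := by
      rw [Sylow.card_eq_multiplicity]
      congr 1
      have h8 : Nat.card G = Nat.card N₂ * Nat.card (Q : Subgroup G) := hc.card_mul_card.symm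
      have h9 : ¬ r ∣ 2 ^ v := by
        intro hd
        exact hr2 ((Nat.prime_dvd_prime_iff_eq hrp Nat.prime_two).mp (hrp.dvd_of_dvd_pow hd))
      rw [h8, hv, Nat.factorization_mul Nat.card_pos.ne' (pow_ne_zero _ two_ne_zero),
        Finsupp.add_apply, Nat.factorization_eq_zero_of_not_dvd h9, add_zero]
    obtain ⟨hRab, N', hN', hcN'⟩ := odd_sylow_abelian_npc hoddM R (by rw [hRcard]; omega)
    refine ⟨hrp, R, N', hN', hcN', R.isPGroup', ?_, hRab⟩
    rw [← hcN'.index_eq_card]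
    exact R.not_dvd_index
  -- Step 3
  obtain ⟨N', hN', h1, h2', h3⟩ := exists_normal_pi_complement π' key
  obtain ⟨H', hH', hab'⟩ := exists_abelian_hall π' N' hN' h1 h2' h3
  haveI := hN'
  have hchar := mem_iff_of_pi_complement N' π' h1 h2'
  have hv2 : N₂.index = 2 ^ v := by rw [hN2idx, hv]
  have hdvd2 : ∀ s : ℕ, s.Prime → s ∣ 2 ^ v → s = 2 := fun s hs hd =>
    (Nat.prime_dvd_prime_iff_eq hs Nat.prime_two).mp (hs.dvd_of_dvd_pow hd)
  constructor
  · refine ⟨N'.map N₂.subtype, ?_, ?_, ?_⟩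
    · refine ⟨fun n hn g => ?_⟩
      obtain ⟨y, hy, rfl⟩ := hn
      have hmem : g * (y : G) * g⁻¹ ∈ N₂ := hN₂.conj_mem _ y.2 g
      refine ⟨⟨g * y * g⁻¹, hmem⟩, ?_, rfl⟩
      have hy' : y ∈ N' := hy
      rw [SetLike.mem_coe, hchar]
      rw [hchar] at hy'
      intro s hs hsp hdvd
      apply hy' s hs hsp
      have : orderOf (⟨g * y * g⁻¹, hmem⟩ : ↥N₂) = orderOf y := by
        rw [← Subgroup.orderOf_coe, ← Subgroup.orderOf_coe]
        exact (MulAut.conj g).orderOf_eq (y : G)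
      rwa [this] at hdvd
    · intro s hs hsN hsπ
      rw [Subgroup.card_map_of_injective N₂.subtype_injective] at hsN
      have hs2 : s ≠ 2 := by
        rintro rfl
        have h4 : 2 ∣ Nat.card N₂ := hsN.trans (Subgroup.card_subgroup_dvd_card N')
        obtain ⟨j, hj⟩ := hoddM
        omega
      exact h1 s hs hsN (Finset.mem_erase.mpr ⟨hs2, hsπ⟩)
    · intro s hs hsI
      rw [Subgroup.index_map_subtype, hv2] at hsI
      rcases (Nat.Prime.dvd_mul hs).mp hsI with h | h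
      · exact Finset.mem_of_mem_erase (h2' s hs h)
      · rw [hdvd2 s hs h]; exact h2
  · refine ⟨H'.map N₂.subtype, ⟨?_, ?_⟩, ?_⟩
    · intro s hs hsH
      rw [Subgroup.card_map_of_injective N₂.subtype_injective] at hsH
      have h4 : s ∈ π' := Finset.mem_coe.mp (hH'.1 s hs hsH)
      exact ⟨Finset.mem_coe.mpr (Finset.mem_of_mem_erase h4),
        fun h5 => Finset.ne_of_mem_erase h4 (Set.mem_singleton_iff.mp h5)⟩
    · rintro s hs ⟨hsπ, hs2⟩ hsI
      have hs2' : s ≠ 2 := fun h => hs2 (Set.mem_singleton_iff.mpr h)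
      have h4 : s ∈ π' := Finset.mem_erase.mpr ⟨hs2', Finset.mem_coe.mp hsπ⟩
      rw [Subgroup.index_map_subtype, hv2] at hsI
      rcases (Nat.Prime.dvd_mul hs).mp hsI with h | h
      · exact hH'.2 s hs (Finset.mem_coe.mpr h4) h
      · exact hs2' (hdvd2 s hs h)
    · refine ⟨⟨fun a b => Subtype.ext ?_⟩⟩
      obtain ⟨a', ha', haa⟩ := a.2
      obtain ⟨b', hb', hbb⟩ := b.2
      show (a : G) * b = b * a
      rw [← haa, ← hbb, ← map_mul, ← map_mul]
      congr 1
      exact congrArg Subtype.val (hab'.is_comm.comm ⟨a', ha'⟩ ⟨b', hb'⟩)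

end Cfsg.Agent.Lib.Helper8.KPi
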