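import Mathlib
import Cfsg.Agent.Lib.Helper8.K5a

/-! `k_π(G) ≤ k_π(N) k_π(G/N)`. -/
set_option autoImplicit false

namespace Cfsg.Agent.Lib.Helper8.KPi

/-- classes of `π`-elements, in the form used by the statement -/
abbrev KP (π : Set ℕ) (G : Type*) [Group G] : Type _ :=
  {C : ConjClasses G // ∀ q : ℕ, q.Prime → (∃ g : G, ConjClasses.mk g = C ∧ q ∣ orderOf g) → q ∈ π}

variable {G : Type*} [Group G]

theorem kp_mk_iff (π : Set ℕ) (x : G) :
    (∀ q : ℕ, q.Prime → (∃ g : G, ConjClasses.mk g = ConjClasses.mk x ∧ q ∣ orderOf g) → q ∈ π)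
      ↔ IsPi π x := by
  constructor
  · intro h q hq hd
    exact h q hq ⟨x, rfl, hd⟩
  · rintro h q hq ⟨g, hg, hd⟩
    rw [ConjClasses.mk_eq_mk_iff_isConj, isConj_iff] at hg
    obtain ⟨c, hc⟩ := hg
    have : orderOf x = orderOf g := by
      rw [← hc]; exact (MulAut.conj c).orderOf_eq g
    exact h q hq (this ▸ hd)

/-- conjugation action of `N` on the elements satisfying an invariant predicate -/
@[reducible] def conjActPred (N : Subgroup G) (Pr : G → Prop)
    (hPr : ∀ n ∈ N, ∀ y, Pr y → Pr (n * y * n⁻¹)) : MulAction N {y : G // Pr y} where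
  smul n y := ⟨(n : G) * y * (n : G)⁻¹, hPr n n.2 y y.2⟩
  one_smul y := Subtype.ext (by
    show ((1 : N) : G) * y * ((1 : N) : G)⁻¹ = y
    simp)
  mul_smul a b y := Subtype.ext (by
    show ((a * b : N) : G) * y * ((a * b : N) : G)⁻¹
      = (a : G) * ((b : G) * y * (b : G)⁻¹) * (a : G)⁻¹
    simp [mul_assoc])

theorem card_pairs [Finite G] (N : Subgroup G) (Pr : G → Prop)
    (hPr : ∀ n ∈ N, ∀ y, Pr y → Pr (n * y * n⁻¹)) :
    Nat.card {p : G × G // Pr p.1 ∧ p.2 ∈ N ∧ p.2 * p.1 = p.1 * p.2} =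
      Nat.card (Quotient (@MulAction.orbitRel N {y : G // Pr y} _ (conjActPred N Pr hPr))) *
        Nat.card N := by
  classical
  letI : MulAction N {y : G // Pr y} := conjActPred N Pr hPr
  haveI : Fintype N := Fintype.ofFinite _
  haveI : Fintype {y : G // Pr y} := Fintype.ofFinite _
  have key := MulAction.sum_card_fixedBy_eq_card_orbits_mul_card_group N {y : G // Pr y}
  rw [Nat.card_eq_fintype_card (α := Quotient _), Nat.card_eq_fintype_card (α := N), ← key,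
    ← Fintype.card_sigma, ← Nat.card_eq_fintype_card]
  refine Nat.card_congr ⟨fun p => ⟨⟨p.1.2, p.2.2.1⟩, ⟨⟨p.1.1, p.2.1⟩, ?_⟩⟩,
    fun s => ⟨(s.2.1.1, (s.1 : G)), s.2.1.2, s.1.2, ?_⟩, ?_, ?_⟩
  · rw [MulAction.mem_fixedBy]
    apply Subtype.ext
    show p.1.2 * p.1.1 * (p.1.2)⁻¹ = p.1.1
    rw [p.2.2.2]; group
  · have h := s.2.2
    rw [MulAction.mem_fixedBy] at h
    have h1 : (s.1 : G) * s.2.1.1 * (s.1 : G)⁻¹ = s.2.1.1 := congrArg Subtype.val h
    show (s.1 : G) * s.2.1.1 = s.2.1.1 * (s.1 : G)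
    calc (s.1 : G) * s.2.1.1 = ((s.1 : G) * s.2.1.1 * (s.1 : G)⁻¹) * s.1 := by group
      _ = s.2.1.1 * (s.1 : G) := by rw [h1]
  · intro p; rfl
  · intro s; rfl

section main

variable [Finite G] (N : Subgroup G) [N.Normal] (π : Set ℕ)

theorem pr1_inv (gb : G ⧸ N) : ∀ n ∈ N, ∀ y : G,
    ((QuotientGroup.mk' N) y = gb ∧ IsPi π y) →
      ((QuotientGroup.mk' N) (n * y * n⁻¹) = gb ∧ IsPi π (n * y * n⁻¹)) := by
  rintro n hn y ⟨h1, h2⟩
  refine ⟨?_, (isPi_conj n).mpr h2⟩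
  have : (QuotientGroup.mk' N) n = 1 := by
    rw [QuotientGroup.mk'_apply, QuotientGroup.eq_one_iff]; exact hn
  rw [map_mul, map_mul, map_inv, this, h1]; simp

theorem pr2_inv : ∀ n ∈ N, ∀ y : G, (y ∈ N ∧ IsPi π y) →
    (n * y * n⁻¹ ∈ N ∧ IsPi π (n * y * n⁻¹)) := by
  rintro n hn y ⟨h1, h2⟩
  exact ⟨N.mul_mem (N.mul_mem hn h1) (N.inv_mem hn), (isPi_conj n).mpr h2⟩

/-- the key inequality between the two sets of commuting pairs -/
theorem card_pairs_le (gb : G ⧸ N) :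
    Nat.card {p : G × G // ((QuotientGroup.mk' N) p.1 = gb ∧ IsPi π p.1) ∧ p.2 ∈ N ∧
      p.2 * p.1 = p.1 * p.2} ≤
    Nat.card {p : G × G // (p.1 ∈ N ∧ IsPi π p.1) ∧ p.2 ∈ N ∧ p.2 * p.1 = p.1 * p.2} := by
  classical
  -- the chosen base point of the coset commuting with `m`
  let y₀ : G → G := fun m =>
    if h : ∃ y : G, (QuotientGroup.mk' N) y = gb ∧ Commute y m then h.choose else 1
  have hy₀ : ∀ m : G, (∃ y : G, (QuotientGroup.mk' N) y = gb ∧ Commute y m) →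
      (QuotientGroup.mk' N) (y₀ m) = gb ∧ Commute (y₀ m) m := by
    intro m h
    simp only [y₀, dif_pos h]
    exact h.choose_spec
  have hmem : ∀ p : {p : G × G // ((QuotientGroup.mk' N) p.1 = gb ∧ IsPi π p.1) ∧ p.2 ∈ N ∧
      p.2 * p.1 = p.1 * p.2},
      ((pp π p.1.2 ∈ N ∧ IsPi π (pp π p.1.2)) ∧
        (y₀ (pp π p.1.2))⁻¹ * (p.1.1 * qp π p.1.2) ∈ N ∧
        ((y₀ (pp π p.1.2))⁻¹ * (p.1.1 * qp π p.1.2)) * pp π p.1.2 =
          pp π p.1.2 * ((y₀ (pp π p.1.2))⁻¹ * (p.1.1 * qp π p.1.2))) := by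
    rintro ⟨⟨y, n⟩, ⟨hy1, hy2⟩, hn, hc⟩
    simp only at hy1 hy2 hn hc ⊢
    have hcomm : Commute y n := hc.symm
    have hppN : pp π n ∈ N := (Subgroup.zpowers_le.mpr hn) (pp_mem π n)
    have hqpN : qp π n ∈ N := (Subgroup.zpowers_le.mpr hn) (qp_mem π n)
    have hyp : Commute y (pp π n) :=
      commute_of_mem_zpowers hcomm (Subgroup.mem_zpowers y) (pp_mem π n)
    have hqp_pp : Commute (qp π n) (pp π n) :=
      commute_of_mem_zpowers (Commute.refl n) (qp_mem π n) (pp_mem π n)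
    obtain ⟨h01, h02⟩ := hy₀ (pp π n) ⟨y, hy1, hyp⟩
    refine ⟨⟨hppN, isPi_pp π n⟩, ?_, ?_⟩
    · rw [← QuotientGroup.eq_one_iff, ← QuotientGroup.mk'_apply, map_mul, map_mul, map_inv,
        h01, hy1]
      have : (QuotientGroup.mk' N) (qp π n) = 1 := by
        rw [QuotientGroup.mk'_apply, QuotientGroup.eq_one_iff]; exact hqpN
      rw [this]; simp
    · exact ((h02.inv_left).mul_left (hyp.mul_left hqp_pp)).eq
  refine Nat.card_le_card_of_injective
    (fun p => ⟨(pp π p.1.2, (y₀ (pp π p.1.2))⁻¹ * (p.1.1 * qp π p.1.2)), hmem p⟩) ?_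
  rintro ⟨⟨y, n⟩, ⟨hy1, hy2⟩, hn, hc⟩ ⟨⟨z, m⟩, ⟨hz1, hz2⟩, hm, hd⟩ h
  simp only at hy1 hy2 hn hc hz1 hz2 hm hd
  have h1 : pp π n = pp π m := congrArg (fun t => t.1.1) h
  have h2 : (y₀ (pp π n))⁻¹ * (y * qp π n) = (y₀ (pp π m))⁻¹ * (z * qp π m) :=
    congrArg (fun t => t.1.2) h
  rw [h1] at h2
  have h3 : y * qp π n = z * qp π m := mul_left_cancel h2
  have hyq : Commute y (qp π n) :=
    commute_of_mem_zpowers (show Commute y n from hc.symm) (Subgroup.mem_zpowers y) (qp_mem π n)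
  have hzq : Commute z (qp π m) :=
    commute_of_mem_zpowers (show Commute z m from hd.symm) (Subgroup.mem_zpowers z) (qp_mem π m)
  have e1 := parts_unique π hyq hy2 (isPi_qp π n)
  have e2 := parts_unique π hzq hz2 (isPi_qp π m)
  rw [h3] at e1
  have hyz : y = z := e1.1.symm.trans e2.1
  have hq : qp π n = qp π m := e1.2.symm.trans e2.2
  have hnm : n = m := by
    rw [← pp_mul_qp π n, ← pp_mul_qp π m, h1, hq]
  apply Subtype.ext
  show (y, n) = (z, m)
  rw [hyz, hnm]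

/-- the map on classes induced by the quotient map -/
noncomputable def kpMap : KP π G → KP π (G ⧸ N) := fun C =>
  ⟨ConjClasses.map (QuotientGroup.mk' N) C.1, by
    obtain ⟨x, hx⟩ := ConjClasses.exists_rep C.1
    have hxpi : IsPi π x := (kp_mk_iff π x).mp (hx ▸ C.2)
    rw [← hx]
    show ∀ q : ℕ, q.Prime → (∃ g : G ⧸ N, ConjClasses.mk g =
      ConjClasses.mk ((QuotientGroup.mk' N) x) ∧ q ∣ orderOf g) → q ∈ π
    rw [kp_mk_iff]
    intro q hq hd
    exact hxpi q hq (hd.trans (orderOf_map_dvd _ x))⟩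

theorem card_fiber_le (D : KP π (G ⧸ N)) :
    Nat.card {C : KP π G // kpMap N π C = D} ≤ Nat.card (KP π N) := by
  classical
  obtain ⟨gb, hgb⟩ := ConjClasses.exists_rep D.1
  -- orbits
  set Pr₁ : G → Prop := fun y => (QuotientGroup.mk' N) y = gb ∧ IsPi π y with hPr₁
  set Pr₂ : G → Prop := fun y => y ∈ N ∧ IsPi π y with hPr₂
  have c1 := card_pairs N Pr₁ (pr1_inv N π gb)
  have c2 := card_pairs N Pr₂ (pr2_inv N π)
  have c3 := card_pairs_le N π gb
  have hNpos : 0 < Nat.card N := Nat.card_pos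
  have horb : Nat.card (Quotient (@MulAction.orbitRel N {y : G // Pr₁ y} _
      (conjActPred N Pr₁ (pr1_inv N π gb)))) ≤
      Nat.card (Quotient (@MulAction.orbitRel N {y : G // Pr₂ y} _
      (conjActPred N Pr₂ (pr2_inv N π)))) := by
    apply Nat.le_of_mul_le_mul_right _ hNpos
    rw [← c1, ← c2]
    exact c3
  -- (B1)
  have hB1 : Nat.card {C : KP π G // kpMap N π C = D} ≤
      Nat.card (Quotient (@MulAction.orbitRel N {y : G // Pr₁ y} _
      (conjActPred N Pr₁ (pr1_inv N π gb)))) := by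
    letI : MulAction N {y : G // Pr₁ y} := conjActPred N Pr₁ (pr1_inv N π gb)
    have hrep : ∀ C : {C : KP π G // kpMap N π C = D}, ∃ y : {y : G // Pr₁ y},
        ConjClasses.mk y.1 = C.1.1 := by
      rintro ⟨C, hC⟩
      obtain ⟨x, hx⟩ := ConjClasses.exists_rep C.1
      have hxpi : IsPi π x := (kp_mk_iff π x).mp (hx ▸ C.2)
      have h1 : ConjClasses.mk ((QuotientGroup.mk' N) x) = ConjClasses.mk gb := by
        rw [hgb, ← hC]
        show _ = ConjClasses.map (QuotientGroup.mk' N) C.1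
        rw [← hx]; rfl
      rw [ConjClasses.mk_eq_mk_iff_isConj, isConj_iff] at h1
      obtain ⟨cb, hcb⟩ := h1
      obtain ⟨c, rfl⟩ := QuotientGroup.mk'_surjective N cb
      refine ⟨⟨c * x * c⁻¹, ?_, (isPi_conj c).mpr hxpi⟩, ?_⟩
      · rw [map_mul, map_mul, map_inv]; exact hcb
      · show ConjClasses.mk (c * x * c⁻¹) = C.1
        rw [← hx, ConjClasses.mk_eq_mk_iff_isConj, isConj_comm, isConj_iff]
        exact ⟨c, rfl⟩
    choose y hy using hrep
    refine Nat.card_le_card_of_injective (fun C => Quotient.mk _ (y C)) ?_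
    intro C C' h
    have h1 : y C ∈ MulAction.orbit N (y C') := Quotient.exact h
    rw [MulAction.mem_orbit_iff] at h1
    obtain ⟨n, hn⟩ := h1
    apply Subtype.ext
    apply Subtype.ext
    rw [← hy C, ← hy C', ConjClasses.mk_eq_mk_iff_isConj, isConj_comm, isConj_iff]
    exact ⟨n, congrArg Subtype.val hn⟩
  -- (B2)
  have hB2 : Nat.card (Quotient (@MulAction.orbitRel N {y : G // Pr₂ y} _
      (conjActPred N Pr₂ (pr2_inv N π)))) ≤ Nat.card (KP π N) := by
    letI : MulAction N {y : G // Pr₂ y} := conjActPred N Pr₂ (pr2_inv N π)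
    have hcl : ∀ y : {y : G // Pr₂ y}, ∀ q : ℕ, q.Prime →
        (∃ g : N, ConjClasses.mk g = ConjClasses.mk (⟨y.1, y.2.1⟩ : N) ∧ q ∣ orderOf g) →
        q ∈ π := by
      intro y
      rw [kp_mk_iff]
      intro q hq hd
      rw [Subgroup.orderOf_mk] at hd
      exact y.2.2 q hq hd
    refine Nat.card_le_card_of_injective
      (fun ω => (⟨ConjClasses.mk (⟨(Quotient.out ω).1, (Quotient.out ω).2.1⟩ : N),
        hcl (Quotient.out ω)⟩ : KP π N)) ?_
    intro ω ω' h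
    have h1 : ConjClasses.mk (⟨(Quotient.out ω).1, (Quotient.out ω).2.1⟩ : N) =
        ConjClasses.mk (⟨(Quotient.out ω').1, (Quotient.out ω').2.1⟩ : N) :=
      congrArg Subtype.val h
    rw [ConjClasses.mk_eq_mk_iff_isConj, isConj_iff] at h1
    obtain ⟨c, hc⟩ := h1
    rw [← Quotient.out_eq ω, ← Quotient.out_eq ω']
    apply Quotient.sound
    show (MulAction.orbitRel N {y : G // Pr₂ y}) _ _
    rw [MulAction.orbitRel_apply, MulAction.mem_orbit_iff]
    refine ⟨c⁻¹, ?_⟩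
    apply Subtype.ext
    show ((c⁻¹ : N) : G) * (Quotient.out ω').1 * ((c⁻¹ : N) : G)⁻¹ = (Quotient.out ω).1
    have hc' : (c : G) * (Quotient.out ω).1 * (c : G)⁻¹ = (Quotient.out ω').1 :=
      congrArg Subtype.val hc
    rw [← hc']
    simp [mul_assoc]
  exact hB1.trans (horb.trans hB2)

theorem card_kp_le : Nat.card (KP π G) ≤ Nat.card (KP π N) * Nat.card (KP π (G ⧸ N)) := by
  classical
  have e := Equiv.sigmaFiberEquiv (kpMap N π)
  haveI : Fintype (KP π (G ⧸ N)) := Fintype.ofFinite _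
  rw [← Nat.card_congr e, Nat.card_sigma]
  calc ∑ D, Nat.card {C // kpMap N π C = D} ≤ ∑ _D : KP π (G ⧸ N), Nat.card (KP π N) :=
        Finset.sum_le_sum (fun D _ => card_fiber_le N π D)
    _ = Nat.card (KP π N) * Nat.card (KP π (G ⧸ N)) := by
      rw [Finset.sum_const, Finset.card_univ, smul_eq_mul, ← Nat.card_eq_fintype_card, mul_comm]

end main

end Cfsg.Agent.Lib.Helper8.KPi
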