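import Mathlib
import Cfsg.Prelude.Def_Transfer
import Cfsg.Agent.Lib.Helper8.K7a
import Cfsg.Agent.Lib.Helper1.CriticalExists
import Cfsg.Agent.Lib.Helper1.CoprimeAut
import Cfsg.Agent.Lib.Helper1.FrattiniP
import Cfsg.Agent.Lib.Helper4.Huppert

/-! Elements of order `p` (or `4`) with `p`-power class size force a normal `p`-complement. -/
set_option autoImplicit false
open scoped commutatorElement
universe u

namespace Cfsg.Agent.Lib.Helper8.K7

open Cfsg.Agent.Lib.Helper1

theorem npc_of_om_ppower {G : Type u} [Group G] [Finite G] (p : ℕ) [hp : Fact p.Prime]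
    (h : ∀ x : G, (orderOf x = p ∨ (p = 2 ∧ orderOf x = 4)) →
      ∃ a : ℕ, (Subgroup.centralizer ({x} : Set G)).index = p ^ a) :
    Cfsg.HasNormalPComplement p G := by
  have hom : ∀ a : G, Om p a →
      (∃ k : ℕ, (Subgroup.centralizer ({a} : Set G)).index = p ^ k) ∧ a ∈ Cfsg.pCore p G := by
    intro a ha
    by_cases ha1 : a = 1
    · subst ha1
      refine ⟨⟨0, ?_⟩, one_mem _⟩
      rw [pow_zero, Subgroup.index_eq_one, eq_top_iff]
      intro g _
      rw [Subgroup.mem_centralizer_singleton_iff]; simp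
    have hord : (orderOf a = p ∨ (p = 2 ∧ orderOf a = 4)) := by
      rcases ha with ha | ⟨h2, ha⟩
      · left; exact orderOf_eq_prime ha ha1
      · have hd : orderOf a ∣ 2 ^ 2 := orderOf_dvd_of_pow_eq_one ha
        obtain ⟨j, hj, hj'⟩ := (Nat.dvd_prime_pow Nat.prime_two).1 hd
        interval_cases j
        · exfalso; apply ha1; rw [← orderOf_eq_one_iff]; simpa using hj'
        · left; rw [h2]; simpa using hj'
        · right; exact ⟨h2, by simpa using hj'⟩
    obtain ⟨k, hk⟩ := h a hord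
    refine ⟨⟨k, hk⟩, ?_⟩
    rcases hord with ho | ⟨h2, ho⟩
    · exact mem_pCore_of_ppower_index a 1 (by rw [ho, pow_one]) k hk
    · exact mem_pCore_of_ppower_index a 2 (by rw [ho, h2]; norm_num) k hk
  obtain ⟨R, hR⟩ : ∃ R : Subgroup G, R = Cfsg.pCore p G := ⟨_, rfl⟩
  haveI hRn : R.Normal := by rw [hR]; exact pCore_normal p
  have hRp : IsPGroup p R := by rw [hR]; exact pCore_isPGroup p
  obtain ⟨H, hHchar, hfrat, hcomm, hcent⟩ := exists_critical_subgroup hRp
  have hHp : IsPGroup p H := hRp.to_subgroup H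
  have hCC : CommCentral H := by
    intro x y z
    have h1 : ⁅(x : R), (y : R)⁆ ∈ ⁅H, (⊤ : Subgroup R)⁆ :=
      Subgroup.commutator_mem_commutator x.2 (Subgroup.mem_top _)
    have h2 := (Subgroup.mem_inf.mp (hcomm h1)).2
    have h3 := Subgroup.mem_centralizer_iff.mp h2 z z.2
    apply Subtype.ext
    exact h3.symm
  have hpow : ∀ x y : H, ⁅y, x⁆ ^ p = 1 := by
    intro x y
    rw [← hCC.comm_pow_right]
    have h1 : x ^ p ∈ frattini H := pow_prime_mem_frattini_of_isPGroup p hHp x
    have h2 : ((x ^ p : H) : R) ∈ Subgroup.centralizer (H : Set R) :=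
      hfrat ⟨x ^ p, h1, rfl⟩
    have h3 := Subgroup.mem_centralizer_iff.mp h2 y y.2
    rw [commutatorElement_eq_one_iff_mul_comm]
    apply Subtype.ext
    exact h3
  obtain ⟨ι, hι⟩ : ∃ ι : H →* G, ι = R.subtype.comp H.subtype := ⟨_, rfl⟩
  have hιinj : Function.Injective ι := by
    rw [hι]; exact R.subtype_injective.comp H.subtype_injective
  have hιom : ∀ x : H, Om p (ι x) ↔ Om p x := by
    intro x
    unfold Om
    rw [← map_pow, ← map_pow, map_eq_one_iff ι hιinj, map_eq_one_iff ι hιinj]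
  obtain ⟨D, hD⟩ : ∃ D : Subgroup G, D = H.map R.subtype := ⟨_, rfl⟩
  have hDmem : ∀ x : G, x ∈ D ↔ ∃ x' : H, ι x' = x := by
    intro x
    rw [hD, hι]
    constructor
    · rintro ⟨r, hr, rfl⟩; exact ⟨⟨r, hr⟩, rfl⟩
    · rintro ⟨x', rfl⟩; exact ⟨x', x'.2, rfl⟩
  have hDR : D ≤ R := by rw [hD]; exact Subgroup.map_subtype_le H
  have hHinv : ∀ (a : MulAut R), ∀ x ∈ H, a x ∈ H := by
    intro a y hy
    have h1 := Subgroup.characteristic_iff_comap_eq.mp hHchar a
    have h2 : y ∈ H.comap a.toMonoidHom := by rw [h1]; exact hy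
    exact h2
  haveI hDn : D.Normal := by
    constructor
    intro d hd g
    rw [hD] at hd ⊢
    obtain ⟨r, hr, rfl⟩ := hd
    exact ⟨MulAut.conjNormal g r, hHinv _ r hr, by simp [MulAut.conjNormal_apply]⟩
  have hDp : IsPGroup p D := hRp.to_le hDR
  obtain ⟨E, hE⟩ : ∃ E : Subgroup G, E = Subgroup.normalClosure {x : G | x ∈ D ∧ Om p x} :=
    ⟨_, rfl⟩
  haveI hEn : E.Normal := by rw [hE]; exact Subgroup.normalClosure_normal
  have hED : E ≤ D := by
    rw [hE]; exact Subgroup.normalClosure_le_normal (fun x hx => hx.1)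
  have hEom : ∀ x ∈ E, Om p x := by
    have key : ∀ x ∈ E, ∃ x' : H, ι x' = x ∧ Om p x' := by
      intro x hx
      rw [hE, Subgroup.normalClosure] at hx
      induction hx using Subgroup.closure_induction with
      | mem x hx =>
        rw [Group.mem_conjugatesOfSet_iff] at hx
        obtain ⟨y, ⟨hyD, hyo⟩, hxy⟩ := hx
        rw [isConj_iff] at hxy
        obtain ⟨g, rfl⟩ := hxy
        obtain ⟨x', hx'⟩ := (hDmem _).1 (hDn.conj_mem y hyD g)
        exact ⟨x', hx', (hιom x').1 (by rw [hx']; exact om_conj g hyo)⟩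
      | one => exact ⟨1, map_one ι, om_one p⟩
      | mul x y _ _ hx hy =>
        obtain ⟨x', rfl, hx'⟩ := hx
        obtain ⟨y', rfl, hy'⟩ := hy
        exact ⟨x' * y', map_mul ι x' y', om_mul hp.out hCC hpow hx' hy'⟩
      | inv x _ hx =>
        obtain ⟨x', rfl, hx'⟩ := hx
        exact ⟨x'⁻¹, map_inv ι x', om_inv hx'⟩
    intro x hx
    obtain ⟨x', rfl, hx'⟩ := key x hx
    exact (hιom x').2 hx'
  have hEp : IsPGroup p E := hDp.to_le hED
  -- every p'-element centralizes E
  have hcE : ∀ g : G, (orderOf g).Coprime p → ∀ a ∈ E, g * a = a * g :=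
    centralizes_aux (Nat.card E) G p E rfl hEp (fun a ha => (hom a (hEom a ha)).1)
  -- every p'-element centralizes D
  have hcD : ∀ g : G, (orderOf g).Coprime p → g ∈ Subgroup.centralizer (D : Set G) := by
    intro g hg
    apply Cfsg.Agent.Lib.Helper4.Huppert.centralizes_of_omega D hDp g ?_ hg
    · intro a haD hao
      apply hcE g hg
      rw [hE]
      exact Subgroup.subset_normalClosure ⟨haD, hao⟩
    · rw [Subgroup.normalizer_eq_top_iff.mpr hDn]; trivial
  -- every p'-element centralizes R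
  have hcR : ∀ g : G, (orderOf g).Coprime p → ∀ r ∈ R, g * r = r * g := by
    intro g hg r hr
    have ha : (orderOf (MulAut.conjNormal g : MulAut R)).Coprime p :=
      Nat.Coprime.coprime_dvd_left (orderOf_map_dvd _ g) hg
    have h1 := coprime_aut_trivial_of_fix_self_centralizing hRp H hHchar hcent
      (MulAut.conjNormal g : MulAut R) ha (by
        intro x hx
        apply Subtype.ext
        rw [MulAut.conjNormal_apply]
        have hxD : (x : G) ∈ D := by rw [hD]; exact ⟨x, hx, rfl⟩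
        have := Subgroup.mem_centralizer_iff.mp (hcD g hg) _ hxD
        rw [← this]; group)
    have h2 := congrArg (fun f : MulAut R => ((f ⟨r, hr⟩ : R) : G)) h1
    simp only [MulAut.one_apply, MulAut.conjNormal_apply] at h2
    calc g * r = (g * r * g⁻¹) * g := by group
      _ = r * g := by rw [h2]
  apply Cfsg.Agent.Lib.Helper4.Huppert.hasNormalPComplement_of_omega
  intro Q hQ g hg hgo a haQ hao
  exact hcR g hgo a (hR ▸ (hom a hao).2)

end Cfsg.Agent.Lib.Helper8.K7
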