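import Mathlib
import Cfsg.Prelude.Def_Transfer
import Cfsg.Agent.Lib.Helper8.K7a
import Cfsg.Agent.Lib.Helper1.CoprimeAut
import Cfsg.Agent.Lib.Helper1.MaxInter

/-! Tools for the `O^p`-critical subgroup lemma. -/
set_option autoImplicit false
open scoped commutatorElement
universe u

namespace Cfsg.Agent.Lib.Helper8.K8

open Cfsg.Agent.Lib.Helper1 Cfsg.Agent.Lib.Helper8.K7

theorem om_subtype {P : Type*} [Group P] {p : ℕ} {H : Subgroup P} (x : H) :
    Om p x ↔ Om p (x : P) := by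
  unfold Om
  constructor
  · rintro (h | ⟨h2, h⟩)
    · left; rw [← Subgroup.coe_pow, h]; rfl
    · right; exact ⟨h2, by rw [← Subgroup.coe_pow, h]; rfl⟩
  · rintro (h | ⟨h2, h⟩)
    · left; apply Subtype.ext; rw [Subgroup.coe_pow, h]; rfl
    · right; exact ⟨h2, by apply Subtype.ext; rw [Subgroup.coe_pow, h]; rfl⟩

theorem om_closure {P : Type u} [Group P] {p : ℕ} (hp : p.Prime) (H : Subgroup P)
    (hCC : CommCentral H) (hpow : ∀ x y : H, ⁅y, x⁆ ^ p = 1) :
    ∀ x ∈ Subgroup.closure {x : P | x ∈ H ∧ Om p x}, x ∈ H ∧ Om p x := by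
  have key : ∀ x ∈ Subgroup.closure {x : P | x ∈ H ∧ Om p x},
      ∃ x' : H, (x' : P) = x ∧ Om p x' := by
    intro x hx
    induction hx using Subgroup.closure_induction with
    | mem x hx => exact ⟨⟨x, hx.1⟩, rfl, (om_subtype _).2 hx.2⟩
    | one => exact ⟨1, rfl, om_one p⟩
    | mul x y _ _ hx hy =>
      obtain ⟨x', rfl, hx'⟩ := hx
      obtain ⟨y', rfl, hy'⟩ := hy
      exact ⟨x' * y', rfl, om_mul hp hCC hpow hx' hy'⟩
    | inv x _ hx =>
      obtain ⟨x', rfl, hx'⟩ := hx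
      exact ⟨x'⁻¹, rfl, om_inv hx'⟩
  intro x hx
  obtain ⟨x', rfl, hx'⟩ := key x hx
  exact ⟨x'.2, (om_subtype _).1 hx'⟩

/-- A `p'`-automorphism fixing a subgroup `A` of the invariant subgroup `D` with `C_D(A) ≤ A`
fixes `D`. -/
theorem fix_of_self_centralizing {P : Type u} [Group P] [Finite P] {p : ℕ} [Fact p.Prime]
    (hP : IsPGroup p P) (β : MulAut P) (hβ : (orderOf β).Coprime p) (D : Subgroup P)
    (hD : ∀ d ∈ D, β d ∈ D) :
    ∀ (n : ℕ) (A : Subgroup P), Nat.card D - Nat.card A = n → A ≤ D →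
      (∀ d ∈ D, (∀ a ∈ A, d * a = a * d) → d ∈ A) → (∀ a ∈ A, β a = a) →
      ∀ d ∈ D, β d = d := by
  intro n
  induction n using Nat.strong_induction_on with
  | _ n ih =>
  intro A hn hAD hself hfix
  by_cases hAeq : A = D
  · intro d hd; exact hfix d (hAeq ▸ hd)
  have hlt : A < D := lt_of_le_of_ne hAD hAeq
  have hDnil : Group.IsNilpotent D := (hP.to_subgroup D).isNilpotent
  obtain ⟨x, hxD, hxN, hxA⟩ := exists_mem_normalizer_not_mem_of_lt hDnil hlt
  obtain ⟨A', hA'⟩ : ∃ A' : Subgroup P, A' = D ⊓ Subgroup.normalizer (A : Set P) := ⟨_, rfl⟩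
  have hAA' : A ≤ A' := by rw [hA']; exact le_inf hAD Subgroup.le_normalizer
  have hA'D : A' ≤ D := by rw [hA']; exact inf_le_left
  have hfix' : ∀ m ∈ A', β m = m := by
    intro m hm
    rw [hA'] at hm
    obtain ⟨hmD, hmN⟩ := hm
    apply aut_apply_eq_of_fixed_commutator hP β hβ m
    apply hfix
    apply hself
    · exact D.mul_mem (D.inv_mem hmD) (hD m hmD)
    · intro a ha
      have h1 : m * a * m⁻¹ ∈ A := (Subgroup.mem_normalizer_iff.1 hmN a).1 ha
      have h2 : β (m * a * m⁻¹) = m * a * m⁻¹ := hfix _ h1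
      rw [map_mul, map_mul, map_inv, hfix a ha] at h2
      calc m⁻¹ * β m * a = m⁻¹ * (β m * a * (β m)⁻¹) * β m := by group
        _ = m⁻¹ * (m * a * m⁻¹) * β m := by rw [h2]
        _ = a * (m⁻¹ * β m) := by group
  have hcard : Nat.card A < Nat.card A' := by
    by_contra hle
    rw [not_lt] at hle
    have := Subgroup.eq_of_le_of_card_ge hAA' hle
    apply hxA
    rw [this, hA']
    exact ⟨hxD, hxN⟩
  have hcardD : Nat.card A' ≤ Nat.card D := Subgroup.card_le_of_le hA'D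
  apply ih (Nat.card D - Nat.card A') (by omega) A' rfl hA'D ?_ hfix'
  intro d hd hc
  exact hAA' (hself d hd (fun a ha => hc a (hAA' ha)))

end Cfsg.Agent.Lib.Helper8.K8
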