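import Mathlib
import Cfsg.Prelude.Def_Transfer
import Cfsg.Prelude.Def_KGroupFacts
import Cfsg.Agent.Lib.Helper8.K8a
import Cfsg.Agent.Lib.Helper1.CriticalExists
import Cfsg.Agent.Lib.Helper1.FrattiniP
import Cfsg.Agent.Lib.Helper1.PResidual
import Cfsg.Agent.Lib.Helper4.Huppert

/-! The `O^p`-critical subgroup lemma. -/
set_option autoImplicit false
open scoped commutatorElement
universe u

namespace Cfsg.Agent.Lib.Helper8.K8

open Cfsg.Agent.Lib.Helper1 Cfsg.Agent.Lib.Helper8.K7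

theorem om_map {P : Type*} [Group P] {p : ℕ} (a : MulAut P) {x : P} (h : Om p x) :
    Om p (a x) := by
  rcases h with h | ⟨h2, h⟩
  · left; rw [← map_pow, h, map_one]
  · right; exact ⟨h2, by rw [← map_pow, h, map_one]⟩

theorem aut_pow_fix {P : Type*} [Group P] (α : MulAut P) {a : P} (h : α a = a) (n : ℕ) :
    (α ^ n) a = a := by
  induction n with
  | zero => simp
  | succ n ih => rw [pow_succ', MulAut.mul_apply, ih, h]

theorem isMulCommutative_sup_zpowers' {G : Type*} [Group G] {A : Subgroup G}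
    (hA : IsMulCommutative A) {x : G}
    (hx : ∀ a ∈ A, x * a = a * x) :
    IsMulCommutative (A ⊔ Subgroup.zpowers x : Subgroup G) := by
  have hcl : A ⊔ Subgroup.zpowers x = Subgroup.closure ((A : Set G) ∪ {x}) := by
    rw [Subgroup.closure_union, Subgroup.closure_eq, Subgroup.zpowers_eq_closure]
  rw [hcl]
  apply Subgroup.isMulCommutative_closure
  have hAc : ∀ a ∈ A, ∀ b ∈ A, a * b = b * a := fun a ha b hb =>
    congrArg Subtype.val (mul_comm' (⟨a, ha⟩ : A) ⟨b, hb⟩)
  rintro a (ha | ha) b (hb | hb)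
  · exact hAc a ha b hb
  · rw [Set.mem_singleton_iff] at hb
    rw [hb]
    exact (hx a ha).symm
  · rw [Set.mem_singleton_iff] at ha
    rw [ha]
    exact hx b hb
  · rw [Set.mem_singleton_iff] at ha hb
    rw [ha, hb]

theorem critical_residual {P : Type u} [Group P] [Finite P] {p : ℕ} [hp : Fact p.Prime]
    (hP : IsPGroup p P) (G : Subgroup (MulAut P)) (hG : Cfsg.Inn P ≤ G) :
    ∃ D : Subgroup P, (∀ α ∈ G, D.map α.toMonoidHom = D) ∧
      D ≤ Subgroup.closure {y : P | ∃ α ∈ Cfsg.pResidual p ↥G, ∃ x : P,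
        y = x⁻¹ * (α : MulAut P) x} ∧
      (∀ d ∈ D, d ^ p = 1 ∨ (p = 2 ∧ d ^ 4 = 1)) ∧
      ⁅D, (⊤ : Subgroup P)⁆ ≤ D ⊓ Subgroup.centralizer (D : Set P) ∧
      (∀ α ∈ G, (orderOf α).Coprime p → (∀ d ∈ D, α d = d) → α = 1) ∧
      ∀ A : Subgroup P, A ≤ D → IsMulCommutative ↥A →
        (∀ B : Subgroup P, A ≤ B → B ≤ D → IsMulCommutative ↥B → B = A) →
        A.Normal ∧ ∀ α ∈ G, (∀ a ∈ A, α a = a) → ∃ k : ℕ, orderOf α = p ^ k := by
  obtain ⟨H, hHchar, hfrat, hcomm, hcent⟩ := exists_critical_subgroup hP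
  have hHp : IsPGroup p H := hP.to_subgroup H
  have hCC : CommCentral H := by
    intro x y z
    have h1 : ⁅(x : P), (y : P)⁆ ∈ ⁅H, (⊤ : Subgroup P)⁆ :=
      Subgroup.commutator_mem_commutator x.2 (Subgroup.mem_top _)
    have h2 := (Subgroup.mem_inf.mp (hcomm h1)).2
    have h3 := Subgroup.mem_centralizer_iff.mp h2 z z.2
    apply Subtype.ext
    exact h3.symm
  have hpow : ∀ x y : H, ⁅y, x⁆ ^ p = 1 := by
    intro x y
    rw [← hCC.comm_pow_right]
    have h1 : x ^ p ∈ frattini H := pow_prime_mem_frattini_of_isPGroup p hHp x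
    have h2 : ((x ^ p : H) : P) ∈ Subgroup.centralizer (H : Set P) :=
      hfrat ⟨x ^ p, h1, rfl⟩
    have h3 := Subgroup.mem_centralizer_iff.mp h2 y y.2
    rw [commutatorElement_eq_one_iff_mul_comm]
    apply Subtype.ext
    exact h3
  have hHinv : ∀ (a : MulAut P), ∀ x ∈ H, a x ∈ H := by
    intro a y hy
    have h1 := Subgroup.characteristic_iff_comap_eq.mp hHchar a
    have h2 : y ∈ H.comap a.toMonoidHom := by rw [h1]; exact hy
    exact h2
  obtain ⟨D₀, hD₀⟩ : ∃ D₀ : Subgroup P, D₀ = Subgroup.closure {x : P | x ∈ H ∧ Om p x} :=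
    ⟨_, rfl⟩
  have hD₀om : ∀ x ∈ D₀, x ∈ H ∧ Om p x := by
    rw [hD₀]; exact om_closure hp.out H hCC hpow
  have hD₀inv : ∀ (a : MulAut P), ∀ x ∈ D₀, a x ∈ D₀ := by
    intro a x hx
    rw [hD₀] at hx ⊢
    induction hx using Subgroup.closure_induction with
    | mem x hx => exact Subgroup.subset_closure ⟨hHinv a x hx.1, om_map a hx.2⟩
    | one => rw [map_one]; exact one_mem _
    | mul x y _ _ hx hy => rw [map_mul]; exact mul_mem hx hy
    | inv x _ hx => rw [map_inv]; exact inv_mem hx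
  obtain ⟨N, hN⟩ : ∃ N : Subgroup ↥G, N = Cfsg.pResidual p ↥G := ⟨_, rfl⟩
  haveI hNn : N.Normal := by rw [hN]; exact pResidual_normal p
  obtain ⟨D, hD⟩ : ∃ D : Subgroup P, D = Subgroup.closure
      {y : P | ∃ α ∈ N, ∃ x ∈ D₀, y = x⁻¹ * (α : MulAut P) x} := ⟨_, rfl⟩
  have hDD₀ : D ≤ D₀ := by
    rw [hD, Subgroup.closure_le]
    rintro y ⟨α, -, x, hx, rfl⟩
    exact D₀.mul_mem (D₀.inv_mem hx) (hD₀inv _ x hx)
  have hDH : D ≤ H := fun d hd => (hD₀om d (hDD₀ hd)).1
  have hDinv : ∀ α ∈ G, ∀ d ∈ D, α d ∈ D := by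
    intro α hα d hd
    rw [hD] at hd ⊢
    induction hd using Subgroup.closure_induction with
    | mem y hy =>
      obtain ⟨ν, hν, x, hx, rfl⟩ := hy
      apply Subgroup.subset_closure
      refine ⟨⟨α, hα⟩ * ν * ⟨α, hα⟩⁻¹, hNn.conj_mem ν hν ⟨α, hα⟩, α x, hD₀inv α x hx, ?_⟩
      rw [map_mul, map_inv]
      congr 1
      show α ((ν : MulAut P) x) = (α * (ν : MulAut P) * α⁻¹) (α x)
      rw [MulAut.mul_apply, MulAut.mul_apply, MulAut.inv_apply_self]
    | one => rw [map_one]; exact one_mem _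
    | mul x y _ _ hx hy => rw [map_mul]; exact mul_mem hx hy
    | inv x _ hx => rw [map_inv]; exact inv_mem hx
  haveI hDn : D.Normal := by
    constructor
    intro d hd g
    have h1 : MulAut.conj g ∈ G := hG ⟨g, rfl⟩
    have h2 := hDinv _ h1 d hd
    rwa [MulAut.conj_apply] at h2
  -- (5)
  have h5 : ∀ α ∈ G, (orderOf α).Coprime p → (∀ d ∈ D, α d = d) → α = 1 := by
    intro α hα hcop hfix
    have hαN : (⟨α, hα⟩ : ↥G) ∈ N := by
      rw [hN]
      apply mem_pResidual_of_coprime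
      rw [Subgroup.orderOf_mk]; exact hcop
    have hfix₀ : ∀ x ∈ D₀, α x = x := by
      intro x hx
      apply aut_apply_eq_of_fixed_commutator hP α hcop x
      apply hfix
      rw [hD]
      exact Subgroup.subset_closure ⟨⟨α, hα⟩, hαN, x, hx, rfl⟩
    obtain ⟨φ, hφ⟩ : ∃ φ : H →* H, ∀ y : H, ((φ y : H) : P) = α (y : P) :=
      ⟨{ toFun := fun y => ⟨α (y : P), hHinv α y y.2⟩
         map_one' := Subtype.ext (map_one α)
         map_mul' := fun a b => Subtype.ext (map_mul α (a : P) (b : P)) }, fun y => rfl⟩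
    have hiter : ∀ (k : ℕ) (y : H), ((φ^[k] y : H) : P) = (α ^ k) y := by
      intro k
      induction k with
      | zero => intro y; simp
      | succ k ih =>
        intro y
        rw [Function.iterate_succ_apply', hφ, ih, pow_succ', MulAut.mul_apply]
    have key := Cfsg.Agent.Lib.Helper4.Huppert.fix_all (Nat.card H) H p hHp rfl φ (orderOf α)
      (fun y => Subtype.ext (by rw [hiter, pow_orderOf_eq_one]; rfl)) hcop
      (fun a ha => Subtype.ext (by
        rw [hφ]
        apply hfix₀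
        rw [hD₀]
        exact Subgroup.subset_closure ⟨a.2, (om_subtype a).1 ha⟩))
    apply coprime_aut_trivial_of_fix_self_centralizing hP H hHchar hcent α hcop
    intro x hx
    have := congrArg Subtype.val (key ⟨x, hx⟩)
    rw [hφ] at this
    exact this
  refine ⟨D, ?_, ?_, ?_, ?_, h5, ?_⟩
  · intro α hα
    apply le_antisymm
    · rintro _ ⟨d, hd, rfl⟩
      exact hDinv α hα d hd
    · intro d hd
      refine ⟨α⁻¹ d, hDinv _ (G.inv_mem hα) d hd, ?_⟩
      show α (α⁻¹ d) = d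
      rw [MulAut.apply_inv_self]
  · rw [hD]
    apply Subgroup.closure_mono
    rintro y ⟨α, hα, x, -, rfl⟩
    exact ⟨α, hN ▸ hα, x, rfl⟩
  · intro d hd
    exact (hD₀om d (hDD₀ hd)).2
  · apply le_inf (Subgroup.commutator_le_left D ⊤)
    refine le_trans (Subgroup.commutator_mono hDH le_rfl) ?_
    refine le_trans (le_trans hcomm inf_le_right) ?_
    exact Subgroup.centralizer_le hDH
  · intro A hAD hAc hAmax
    have hself : ∀ d ∈ D, (∀ a ∈ A, d * a = a * d) → d ∈ A := by
      intro d hd hc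
      have hB := isMulCommutative_sup_zpowers' hAc hc
      have hBA := hAmax (A ⊔ Subgroup.zpowers d) le_sup_left
        (sup_le hAD (by rw [Subgroup.zpowers_le]; exact hd)) hB
      rw [← hBA]
      exact (le_sup_right : Subgroup.zpowers d ≤ A ⊔ Subgroup.zpowers d) (Subgroup.mem_zpowers d)
    have hcomm' : ⁅D, (⊤ : Subgroup P)⁆ ≤ D ⊓ Subgroup.centralizer (D : Set P) := by
      apply le_inf (Subgroup.commutator_le_left D ⊤)
      refine le_trans (Subgroup.commutator_mono hDH le_rfl) ?_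
      refine le_trans (le_trans hcomm inf_le_right) ?_
      exact Subgroup.centralizer_le hDH
    constructor
    · constructor
      intro a ha g
      have hc : ⁅g, a⁆ ∈ ⁅D, (⊤ : Subgroup P)⁆ := by
        rw [Subgroup.commutator_comm]
        exact Subgroup.commutator_mem_commutator (Subgroup.mem_top g) (hAD ha)
      obtain ⟨hcD, hcC⟩ := Subgroup.mem_inf.1 (hcomm' hc)
      have hcA : ⁅g, a⁆ ∈ A := by
        apply hself _ hcD
        intro a' ha'
        exact (Subgroup.mem_centralizer_iff.mp hcC a' (hAD ha')).symm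
      have e : g * a * g⁻¹ = ⁅g, a⁆ * a := by
        rw [commutatorElement_def]; group
      rw [e]
      exact A.mul_mem hcA ha
    · intro α hα hfixA
      obtain ⟨k, m, hm, hkm⟩ := Nat.exists_eq_pow_mul_and_not_dvd
        (orderOf_pos α).ne' p hp.out.ne_one
      have hβG : α ^ (p ^ k) ∈ G := G.pow_mem hα _
      have hβo : (orderOf (α ^ (p ^ k))).Coprime p := by
        have h1 : orderOf (α ^ (p ^ k)) ∣ m := by
          apply orderOf_dvd_of_pow_eq_one
          rw [← pow_mul, ← hkm, pow_orderOf_eq_one]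
        apply Nat.Coprime.coprime_dvd_left h1
        apply Nat.Coprime.symm
        rw [hp.out.coprime_iff_not_dvd]; exact hm
      have hβfix : ∀ a ∈ A, (α ^ (p ^ k)) a = a := fun a ha => aut_pow_fix α (hfixA a ha) _
      have hβD := fix_of_self_centralizing hP (α ^ (p ^ k)) hβo D (hDinv _ hβG)
        (Nat.card D - Nat.card A) A rfl hAD hself hβfix
      have hβ1 := h5 _ hβG hβo hβD
      have h2 : orderOf α ∣ p ^ k := orderOf_dvd_of_pow_eq_one hβ1
      obtain ⟨j, -, hj⟩ := (Nat.dvd_prime_pow hp.out).1 h2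
      exact ⟨j, hj⟩

end Cfsg.Agent.Lib.Helper8.K8
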