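import Mathlib

/-! Krull–Remak–Schmidt, part 1: Fitting's lemma for normal endomorphisms of a finite
indecomposable group, and the two-term lemma. -/

namespace Cfsg.Agent.Lib.Helper8.KRS

variable {A : Type*} [Group A]

/-- normal endomorphism -/
def IsNormalEndo (φ : A →* A) : Prop := ∀ g x : A, φ (g * x * g⁻¹) = g * φ x * g⁻¹

/-- directly indecomposable (statement form) -/
def Indec (A : Type*) [Group A] : Prop :=
  ∀ H K : Subgroup A, H.Normal → K.Normal → H ⊓ K = ⊥ → H ⊔ K = ⊤ → H = ⊥ ∨ K = ⊥

/-- iterate of an endomorphism -/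
def iter (φ : A →* A) : ℕ → (A →* A)
  | 0 => MonoidHom.id A
  | n + 1 => φ.comp (iter φ n)

@[simp] theorem iter_zero (φ : A →* A) (x : A) : iter φ 0 x = x := rfl
@[simp] theorem iter_succ (φ : A →* A) (n : ℕ) (x : A) : iter φ (n + 1) x = φ (iter φ n x) := rfl

theorem iter_add (φ : A →* A) (a b : ℕ) (x : A) : iter φ (a + b) x = iter φ a (iter φ b x) := by
  induction a with
  | zero => simp
  | succ a ih => rw [Nat.succ_add]; simp [ih]

theorem IsNormalEndo.iter {φ : A →* A} (hφ : IsNormalEndo φ) (n : ℕ) : IsNormalEndo (iter φ n) := by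
  induction n with
  | zero => intro g x; simp
  | succ n ih => intro g x; simp [ih g x, hφ g]

theorem IsNormalEndo.comp {φ ψ : A →* A} (hφ : IsNormalEndo φ) (hψ : IsNormalEndo ψ) :
    IsNormalEndo (φ.comp ψ) := by
  intro g x; simp [hψ g x, hφ g (ψ x)]

theorem exists_idem_iter [Finite A] (φ : A →* A) :
    ∃ m, 0 < m ∧ ∀ x, iter φ m (iter φ m x) = iter φ m x := by
  haveI : Finite (A →* A) :=
    Finite.of_injective (fun f : A →* A => (f : A → A)) DFunLike.coe_injective
  obtain ⟨a, b, hab, h⟩ := Finite.exists_ne_map_eq_of_infinite (fun n : ℕ => iter φ n)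
  wlog hlt : a < b generalizing a b
  · exact this b a hab.symm h.symm (lt_of_le_of_ne (not_lt.mp hlt) hab.symm)
  obtain ⟨d, rfl⟩ := Nat.exists_eq_add_of_lt hlt
  have h' : ∀ x, iter φ a x = iter φ (a + d + 1) x := fun x => by
    have := congrArg (fun f : A →* A => f x) h
    simpa using this
  have h1 : ∀ k x, iter φ (a + k) x = iter φ (a + k + (d + 1)) x := by
    intro k x
    rw [iter_add, h', ← iter_add, show a + d + 1 + k = a + k + (d + 1) by omega]
  have h2 : ∀ j k x, iter φ (a + k) x = iter φ (a + k + j * (d + 1)) x := by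
    intro j
    induction j with
    | zero => intro k x; simp
    | succ j ih =>
      intro k x
      rw [ih k x]
      have := h1 (k + j * (d + 1)) x
      rw [show a + (k + j * (d + 1)) = a + k + j * (d + 1) by ring] at this
      rw [this, show a + k + j * (d + 1) + (d + 1) = a + k + (j + 1) * (d + 1) by ring]
  refine ⟨(a + 1) * (d + 1), by positivity, fun x => ?_⟩
  rw [← iter_add]
  have hk : a + ((a + 1) * (d + 1) - a) = (a + 1) * (d + 1) := by
    have : a ≤ (a + 1) * (d + 1) := by nlinarith
    omega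
  have := h2 (a + 1) ((a + 1) * (d + 1) - a) x
  rw [hk] at this
  rw [this]

theorem fitting [Finite A] (hA : Indec A) {φ : A →* A} (hφ : IsNormalEndo φ) :
    Function.Bijective φ ∨ ∃ m, ∀ x, iter φ m x = 1 := by
  obtain ⟨m, hm, hidem⟩ := exists_idem_iter φ
  set ψ := iter φ m with hψ
  have hψn : IsNormalEndo ψ := hφ.iter m
  have hIn : ψ.range.Normal := by
    refine ⟨fun y hy g => ?_⟩
    obtain ⟨x, rfl⟩ := hy
    exact ⟨g * x * g⁻¹, hψn g x⟩
  have hdisj : ψ.ker ⊓ ψ.range = ⊥ := by
    rw [eq_bot_iff]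
    rintro y ⟨hy1, ⟨x, rfl⟩⟩
    have hy1' : ψ x ∈ ψ.ker := hy1
    rw [MonoidHom.mem_ker, hidem] at hy1'
    rw [Subgroup.mem_bot]; exact hy1'
  have hsup : ψ.ker ⊔ ψ.range = ⊤ := by
    rw [eq_top_iff]
    intro x _
    have : x = (x * (ψ x)⁻¹) * ψ x := by group
    rw [this]
    refine Subgroup.mul_mem_sup ?_ ⟨x, rfl⟩
    rw [MonoidHom.mem_ker, map_mul, map_inv, hidem, mul_inv_cancel]
  rcases hA ψ.ker ψ.range inferInstance hIn hdisj hsup with h | h
  · left
    have hinj : Function.Injective ψ := (MonoidHom.ker_eq_bot_iff ψ).mp h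
    have hφinj : Function.Injective φ := by
      intro x y hxy
      apply hinj
      obtain ⟨k, rfl⟩ := Nat.exists_eq_succ_of_ne_zero hm.ne'
      have hcomm : ∀ (n : ℕ) (z : A), iter φ (n + 1) z = iter φ n (φ z) := by
        intro n z
        rw [iter_add]; rfl
      rw [hψ, hcomm, hcomm, hxy]
    exact ⟨hφinj, Finite.injective_iff_surjective.mp hφinj⟩
  · right
    refine ⟨m, fun x => ?_⟩
    have : ψ x ∈ ψ.range := ⟨x, rfl⟩
    rw [h, Subgroup.mem_bot] at this
    exact this

/-- If `Φ = lam · mu` pointwise with `Φ` a bijective normal endomorphism and `lam` normal,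
then `lam` or `mu` is bijective. -/
theorem bij_or_bij [Finite A] (hA : Indec A) {Φ lam mu : A →* A} (hΦ : IsNormalEndo Φ)
    (hl : IsNormalEndo lam) (hΦb : Function.Bijective Φ) (hsum : ∀ x, Φ x = lam x * mu x) :
    Function.Bijective lam ∨ Function.Bijective mu := by
  set E := MulEquiv.ofBijective Φ hΦb with hE
  have hEΦ : ∀ x, E x = Φ x := fun x => rfl
  have hinvn : IsNormalEndo E.symm.toMonoidHom := by
    intro g x
    apply E.injective
    simp only [MulEquiv.coe_toMonoidHom, MulEquiv.apply_symm_apply]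
    rw [hEΦ, hΦ, ← hEΦ, MulEquiv.apply_symm_apply]
  have hl' : IsNormalEndo (lam.comp E.symm.toMonoidHom) := hl.comp hinvn
  rcases fitting hA hl' with h | ⟨m, hm⟩
  · left
    have : (lam : A → A) = (lam.comp E.symm.toMonoidHom) ∘ E := by
      funext x; simp
    rw [this]
    exact h.comp E.bijective
  · right
    have hinj : Function.Injective mu := by
      rw [injective_iff_map_eq_one]
      intro x hx
      have h1 : Φ x = lam x := by rw [hsum, hx, mul_one]
      set y := Φ x with hy
      have h2 : (lam.comp E.symm.toMonoidHom) y = y := by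
        simp only [MonoidHom.comp_apply, MulEquiv.coe_toMonoidHom]
        rw [hy, ← hEΦ, MulEquiv.symm_apply_apply, hEΦ, ← hy, h1]
      have h3 : ∀ k, iter (lam.comp E.symm.toMonoidHom) k y = y := by
        intro k
        induction k with
        | zero => rfl
        | succ k ih => rw [iter_succ, ih, h2]
      have h4 : y = 1 := by rw [← h3 m, hm]
      exact hΦb.1 (by rw [← hy, h4, map_one])
    exact ⟨hinj, Finite.injective_iff_surjective.mp hinj⟩

end Cfsg.Agent.Lib.Helper8.KRS
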