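import Cfsg.Agent.Lib.Helper8.KRS1

/-! Krull–Remak–Schmidt, part 2: the exchange step and the theorem. -/

namespace Cfsg.Agent.Lib.Helper8.KRS

universe u v

section
variable {ι κ : Type} [DecidableEq ι] [DecidableEq κ]
  {A : ι → Type u} {B : κ → Type v} [∀ i, Group (A i)] [∀ j, Group (B j)]

/-- coordinate projection onto `J` -/
def projJ (B : κ → Type v) [∀ j, Group (B j)] (J : Finset κ) : (∀ j, B j) →* (∀ j, B j) where
  toFun y j := if j ∈ J then y j else 1
  map_one' := by ext j; simp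
  map_mul' x y := by ext j; by_cases h : j ∈ J <;> simp [h]

theorem projJ_apply (J : Finset κ) (y : ∀ j, B j) (j : κ) :
    projJ B J y j = if j ∈ J then y j else 1 := rfl

theorem projJ_conj (J : Finset κ) (g y : ∀ j, B j) :
    projJ B J (g * y * g⁻¹) = g * projJ B J y * g⁻¹ := by
  ext j; by_cases h : j ∈ J <;> simp [projJ_apply, h]

theorem projJ_univ [Fintype κ] (y : ∀ j, B j) : projJ B Finset.univ y = y := by
  ext j; simp [projJ_apply]

theorem projJ_empty (y : ∀ j, B j) : projJ B ∅ y = 1 := by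
  ext j; simp [projJ_apply]

theorem projJ_insert {a : κ} {J : Finset κ} (ha : a ∉ J) (y : ∀ j, B j) :
    projJ B (insert a J) y = projJ B {a} y * projJ B J y := by
  ext j
  by_cases h1 : j = a
  · subst h1; simp [projJ_apply, ha]
  · by_cases h2 : j ∈ J <;> simp [projJ_apply, h1, h2]

theorem projJ_singleton (a : κ) (y : ∀ j, B j) : projJ B {a} y = Pi.mulSingle a (y a) := by
  ext j
  by_cases h : j = a
  · subst h; simp [projJ_apply]
  · simp [projJ_apply, h]

/-- the endomorphism of `A i₀` through the `J`-part of the second decomposition -/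
def theta (e : (∀ i, A i) ≃* (∀ j, B j)) (i₀ : ι) (J : Finset κ) : A i₀ →* A i₀ :=
  (Pi.evalMonoidHom A i₀).comp (e.symm.toMonoidHom.comp ((projJ B J).comp
    (e.toMonoidHom.comp (MonoidHom.mulSingle A i₀))))

theorem theta_apply (e : (∀ i, A i) ≃* (∀ j, B j)) (i₀ : ι) (J : Finset κ) (x : A i₀) :
    theta e i₀ J x = (e.symm (projJ B J (e (Pi.mulSingle i₀ x)))) i₀ := rfl

theorem theta_normal (e : (∀ i, A i) ≃* (∀ j, B j)) (i₀ : ι) (J : Finset κ) :
    IsNormalEndo (theta e i₀ J) := by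
  intro g x
  simp only [theta_apply]
  have h1 : (Pi.mulSingle i₀ (g * x * g⁻¹) : ∀ i, A i)
      = Pi.mulSingle i₀ g * Pi.mulSingle i₀ x * (Pi.mulSingle i₀ g)⁻¹ := by
    rw [← Pi.mulSingle_inv, ← Pi.mulSingle_mul, ← Pi.mulSingle_mul]
  have h2 : e (Pi.mulSingle i₀ g * Pi.mulSingle i₀ x * (Pi.mulSingle i₀ g)⁻¹)
      = e (Pi.mulSingle i₀ g) * e (Pi.mulSingle i₀ x) * (e (Pi.mulSingle i₀ g))⁻¹ := by
    rw [map_mul, map_mul, map_inv]
  rw [h1, h2, projJ_conj]
  have h3 : e.symm (e (Pi.mulSingle i₀ g) * (projJ B J) (e (Pi.mulSingle i₀ x)) *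
      (e (Pi.mulSingle i₀ g))⁻¹) = Pi.mulSingle i₀ g * e.symm ((projJ B J) (e (Pi.mulSingle i₀ x))) *
      (Pi.mulSingle i₀ g)⁻¹ := by
    rw [map_mul, map_mul, map_inv, MulEquiv.symm_apply_apply]
  rw [h3]
  simp [Pi.mul_apply, Pi.inv_apply, Pi.mulSingle_eq_same]

theorem exists_single [∀ i, Finite (A i)] (e : (∀ i, A i) ≃* (∀ j, B j)) (i₀ : ι)
    (hN : Nontrivial (A i₀)) (hI : Indec (A i₀)) (J : Finset κ) :
    Function.Bijective (theta e i₀ J) → ∃ j ∈ J, Function.Bijective (theta e i₀ {j}) := by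
  induction J using Finset.induction_on with
  | empty =>
    intro h; exfalso
    obtain ⟨x, hx⟩ := exists_ne (1 : A i₀)
    apply hx; apply h.1
    simp [theta_apply, projJ_empty]
  | insert a J ha ih =>
    intro h
    rcases bij_or_bij hI (theta_normal e i₀ _) (theta_normal e i₀ {a}) h (mu := theta e i₀ J)
      (fun x => by simp [theta_apply, projJ_insert ha, map_mul]) with h1 | h1
    · exact ⟨a, Finset.mem_insert_self a J, h1⟩
    · obtain ⟨j, hj, hb⟩ := ih h1
      exact ⟨j, Finset.mem_insert_of_mem hj, hb⟩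

/-- extension by `1` at `i₀` -/
def ext0 (A : ι → Type u) [∀ i, Group (A i)] (i₀ : ι) :
    (∀ i : {i // i ≠ i₀}, A i) →* (∀ i, A i) where
  toFun x i := if h : i = i₀ then 1 else x ⟨i, h⟩
  map_one' := by ext i; by_cases h : i = i₀ <;> simp [h]
  map_mul' x y := by ext i; by_cases h : i = i₀ <;> simp [h]

theorem ext0_apply_self (i₀ : ι) (x : ∀ i : {i // i ≠ i₀}, A i) : ext0 A i₀ x i₀ = 1 := by
  simp [ext0]

theorem ext0_apply_ne (i₀ : ι) (x : ∀ i : {i // i ≠ i₀}, A i) (i : ι) (h : i ≠ i₀) :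
    ext0 A i₀ x i = x ⟨i, h⟩ := by
  simp [ext0, h]

/-- restriction away from `j₀` -/
def res0 (B : κ → Type v) [∀ j, Group (B j)] (j₀ : κ) :
    (∀ j, B j) →* (∀ j : {j // j ≠ j₀}, B j) where
  toFun y j := y j.1
  map_one' := rfl
  map_mul' _ _ := rfl

theorem card_split [Finite ι] [∀ i, Finite (A i)] (i₀ : ι) :
    Nat.card (∀ i, A i) = Nat.card (A i₀) * Nat.card (∀ i : {i // i ≠ i₀}, A i) := by
  rw [Nat.card_congr (Equiv.piSplitAt i₀ A), Nat.card_prod]

theorem exchange [Finite ι] [Finite κ] [∀ i, Finite (A i)] [∀ j, Finite (B j)]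
    (e : (∀ i, A i) ≃* (∀ j, B j)) (i₀ : ι) (hN : Nontrivial (A i₀)) (hI : Indec (A i₀))
    (hB : ∀ j, Indec (B j)) :
    ∃ j₀ : κ, Nonempty (A i₀ ≃* B j₀) ∧
      Nonempty ((∀ i : {i // i ≠ i₀}, A i) ≃* (∀ j : {j // j ≠ j₀}, B j)) := by
  cases nonempty_fintype κ
  have huniv : Function.Bijective (theta e i₀ Finset.univ) := by
    have : (theta e i₀ Finset.univ : A i₀ → A i₀) = id := by
      funext x
      simp [theta_apply, projJ_univ]
    rw [this]; exact Function.bijective_id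
  obtain ⟨j₀, -, hj₀⟩ := exists_single e i₀ hN hI Finset.univ huniv
  refine ⟨j₀, ?_⟩
  set β : A i₀ →* B j₀ :=
    (Pi.evalMonoidHom B j₀).comp (e.toMonoidHom.comp (MonoidHom.mulSingle A i₀)) with hβ
  set α : B j₀ →* A i₀ :=
    (Pi.evalMonoidHom A i₀).comp (e.symm.toMonoidHom.comp (MonoidHom.mulSingle B j₀)) with hα
  have hβa : ∀ x, β x = (e (Pi.mulSingle i₀ x)) j₀ := fun x => rfl
  have hαa : ∀ y, α y = (e.symm (Pi.mulSingle j₀ y)) i₀ := fun y => rfl
  have hαβ : ∀ x, α (β x) = theta e i₀ {j₀} x := by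
    intro x
    rw [hαa, hβa, theta_apply, projJ_singleton]
  have hβinj : Function.Injective β := by
    intro x y hxy
    apply hj₀.1
    rw [← hαβ, ← hαβ, hxy]
  have hαsurj : Function.Surjective α := by
    intro x
    obtain ⟨y, hy⟩ := hj₀.2 x
    exact ⟨β y, by rw [hαβ, hy]⟩
  -- the range of β is normal
  have hRn : β.range.Normal := by
    refine ⟨fun y hy b => ?_⟩
    obtain ⟨x, rfl⟩ := hy
    set g : ∀ i, A i := e.symm (Pi.mulSingle j₀ b) with hg
    refine ⟨g i₀ * x * (g i₀)⁻¹, ?_⟩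
    rw [hβa, hβa]
    have h1 : (Pi.mulSingle i₀ (g i₀ * x * (g i₀)⁻¹) : ∀ i, A i)
        = g * Pi.mulSingle i₀ x * g⁻¹ := by
      ext i
      by_cases h : i = i₀
      · subst h; simp
      · simp [Pi.mulSingle_eq_of_ne h]
    rw [h1, map_mul, map_mul, map_inv, hg, MulEquiv.apply_symm_apply]
    simp [Pi.mul_apply, Pi.inv_apply, Pi.mulSingle_eq_same]
  have hdisj : β.range ⊓ α.ker = ⊥ := by
    rw [eq_bot_iff]
    rintro y ⟨⟨x, rfl⟩, hy2⟩
    have hy2' : β x ∈ α.ker := hy2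
    rw [MonoidHom.mem_ker, hαβ] at hy2'
    have : x = 1 := hj₀.1 (by rw [hy2', map_one])
    rw [Subgroup.mem_bot, this, map_one]
  have hsup : β.range ⊔ α.ker = ⊤ := by
    rw [eq_top_iff]
    intro y _
    obtain ⟨x, hx⟩ := hj₀.2 (α y)
    have : y = β x * ((β x)⁻¹ * y) := by group
    rw [this]
    refine Subgroup.mul_mem_sup ⟨x, rfl⟩ ?_
    rw [MonoidHom.mem_ker, map_mul, map_inv, hαβ, hx, inv_mul_cancel]
  have hαinj : Function.Injective α := by
    rcases hB j₀ β.range α.ker hRn inferInstance hdisj hsup with h | h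
    · exfalso
      obtain ⟨x, hx⟩ := exists_ne (1 : A i₀)
      apply hx
      apply hβinj
      have : β x ∈ β.range := ⟨x, rfl⟩
      rw [h, Subgroup.mem_bot] at this
      rw [this, map_one]
    · exact (MonoidHom.ker_eq_bot_iff α).mp h
  have hβsurj : Function.Surjective β := by
    intro y
    obtain ⟨x, hx⟩ := hj₀.2 (α y)
    exact ⟨x, hαinj (by rw [hαβ, hx])⟩
  have iso1 : A i₀ ≃* B j₀ := MulEquiv.ofBijective β ⟨hβinj, hβsurj⟩
  refine ⟨⟨iso1⟩, ?_⟩
  -- the complement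
  set f : (∀ i : {i // i ≠ i₀}, A i) →* (∀ j : {j // j ≠ j₀}, B j) :=
    (res0 B j₀).comp (e.toMonoidHom.comp (ext0 A i₀)) with hf
  have hfa : ∀ x (j : {j // j ≠ j₀}), f x j = (e (ext0 A i₀ x)) j.1 := fun x j => rfl
  have hfinj : Function.Injective f := by
    rw [injective_iff_map_eq_one]
    intro x hx
    set y := e (ext0 A i₀ x) with hy
    have hy1 : ∀ j, j ≠ j₀ → y j = 1 := by
      intro j hj
      have := congrFun hx ⟨j, hj⟩
      rw [hfa] at this
      exact this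
    have hy2 : y = Pi.mulSingle j₀ (y j₀) := by
      ext j
      by_cases h : j = j₀
      · subst h; simp
      · rw [hy1 j h, Pi.mulSingle_eq_of_ne h]
    have hy3 : α (y j₀) = 1 := by
      rw [hαa, ← hy2, hy, MulEquiv.symm_apply_apply, ext0_apply_self]
    have hy4 : y j₀ = 1 := hαinj (by rw [hy3, map_one])
    have hy5 : y = 1 := by rw [hy2, hy4, Pi.mulSingle_one]
    have hx1 : ext0 A i₀ x = 1 := e.injective (by rw [← hy, hy5, map_one])
    ext i
    have := congrFun hx1 i.1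
    rw [ext0_apply_ne i₀ x i.1 i.2] at this
    exact this
  have hcard : Nat.card (∀ i : {i // i ≠ i₀}, A i) = Nat.card (∀ j : {j // j ≠ j₀}, B j) := by
    have h1 := card_split (A := A) i₀
    have h2 := card_split (A := B) j₀
    have h3 : Nat.card (∀ i, A i) = Nat.card (∀ j, B j) := Nat.card_congr e.toEquiv
    have h4 : Nat.card (A i₀) = Nat.card (B j₀) := Nat.card_congr iso1.toEquiv
    have h5 : 0 < Nat.card (A i₀) := Nat.card_pos
    rw [h1, h2, ← h4] at h3
    exact Nat.eq_of_mul_eq_mul_left h5 h3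
  exact ⟨MulEquiv.ofBijective f (hfinj.bijective_of_nat_card_le hcard.ge)⟩

end

theorem krs_aux (n : ℕ) : ∀ (ι κ : Type) [DecidableEq ι] [DecidableEq κ] [Finite ι] [Finite κ]
    (A : ι → Type u) (B : κ → Type v) [∀ i, Group (A i)] [∀ j, Group (B j)]
    [∀ i, Finite (A i)] [∀ j, Finite (B j)], Nat.card ι = n →
    (∀ i, Nontrivial (A i) ∧ Indec (A i)) → (∀ j, Nontrivial (B j) ∧ Indec (B j)) →
    ((∀ i, A i) ≃* (∀ j, B j)) → ∃ σ : ι ≃ κ, ∀ i, Nonempty (A i ≃* B (σ i)) := by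
  induction n with
  | zero =>
    intro ι κ _ _ _ _ A B _ _ _ _ hn hA hB e
    haveI : IsEmpty ι := (Finite.card_eq_zero_iff).mp hn
    haveI : IsEmpty κ := by
      refine ⟨fun j => ?_⟩
      haveI := (hB j).1
      obtain ⟨b, hb⟩ := exists_ne (1 : B j)
      apply hb
      have h1 : e.symm (Pi.mulSingle j b) = 1 := Subsingleton.elim _ _
      have h2 : (Pi.mulSingle j b : ∀ j, B j) = 1 := by
        have := congrArg e h1
        rwa [MulEquiv.apply_symm_apply, map_one] at this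
      have := congrFun h2 j
      simpa using this
    exact ⟨Equiv.equivOfIsEmpty ι κ, fun i => isEmptyElim i⟩
  | succ n ih =>
    intro ι κ _ _ _ _ A B _ _ _ _ hn hA hB e
    haveI : Nonempty ι := by
      rw [← Finite.card_pos_iff, hn]; exact Nat.succ_pos n
    obtain ⟨i₀⟩ := ‹Nonempty ι›
    obtain ⟨j₀, ⟨iso1⟩, ⟨e'⟩⟩ := exchange e i₀ (hA i₀).1 (hA i₀).2 (fun j => (hB j).2)
    have hcard : Nat.card {i // i ≠ i₀} = n := by
      have h1 : Nat.card ι = Nat.card (Option {i // i ≠ i₀}) :=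
        Nat.card_congr (Equiv.optionSubtypeNe i₀).symm
      rw [Finite.card_option, hn] at h1
      omega
    obtain ⟨σ', hσ'⟩ := ih {i // i ≠ i₀} {j // j ≠ j₀} (fun i => A i.1) (fun j => B j.1) hcard
      (fun i => hA i.1) (fun j => hB j.1) e'
    obtain ⟨σ, hσ0, hσ1⟩ : ∃ σ : ι ≃ κ, σ i₀ = j₀ ∧ ∀ i (h : i ≠ i₀), σ i = (σ' ⟨i, h⟩).1 := by
      refine ⟨(Equiv.optionSubtypeNe i₀).symm.trans
        ((Equiv.optionCongr σ').trans (Equiv.optionSubtypeNe j₀)), ?_, ?_⟩
      · simp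
      · intro i h
        simp [Equiv.optionSubtypeNe_symm_of_ne h]
    refine ⟨σ, fun i => ?_⟩
    by_cases h : i = i₀
    · subst h
      rw [hσ0]; exact ⟨iso1⟩
    · rw [hσ1 i h]; exact hσ' ⟨i, h⟩

end Cfsg.Agent.Lib.Helper8.KRS
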