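import Mathlib
import Cfsg.Agent.Lib.Helper8.KSig2
import Cfsg.Agent.Lib.Helper8.SigFun

set_option autoImplicit false
set_option linter.style.haveILetI false

/-! The `k`-balanced signalizer functor: the main lemma. -/

namespace Cfsg.Agent.Lib.Helper8.KSig

open Cfsg Cfsg.Agent.Lib.Helper8.CoreIn
open scoped commutatorElement

variable {G : Type*} [Group G]

/-- the largest subgroup of `X` generated by subgroups of the `Δ(H)`, `H` of index at most `p`. -/
def patt (p : ℕ) (A X : Subgroup G) : Subgroup G :=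
  ⨆ H : {H : Subgroup G // IsBig p A H}, X ⊓ signalizerDelta p (H : Subgroup G)

/-- `C_X(H) ≤ Δ(H)` for all `H` of index at most `p`. -/
def IsGood (p : ℕ) (A X : Subgroup G) : Prop :=
  ∀ H : Subgroup G, IsBig p A H → X ⊓ Subgroup.centralizer (H : Set G) ≤ signalizerDelta p H

theorem inf_le_patt (p : ℕ) {A X H : Subgroup G} (hH : IsBig p A H) :
    X ⊓ signalizerDelta p H ≤ patt p A X :=
  le_iSup (fun H : {H : Subgroup G // IsBig p A H} => X ⊓ signalizerDelta p (H : Subgroup G))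
    ⟨H, hH⟩

theorem patt_le (p : ℕ) (A X : Subgroup G) : patt p A X ≤ X :=
  iSup_le fun _ => inf_le_left

section
variable [Finite G] {p k : ℕ} [hp : Fact p.Prime] (hbal : IsKBalanced p k G) {A : Subgroup G}
  (hA : IsElementaryAbelian p A) (hAk : p ^ (k + 2) ≤ Nat.card ↥A)

include hAk in
theorem A_ne_bot : A ≠ ⊥ := by
  rw [← Subgroup.one_lt_card_iff_ne_bot]
  exact lt_of_lt_of_le (Nat.one_lt_pow (by omega) hp.out.one_lt) hAk

include hA in
theorem le_normalizer_inf_signalizerDelta {X H : Subgroup G}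
    (hAX : A ≤ Subgroup.normalizer (X : Set G)) (hH : H ≤ A) :
    A ≤ Subgroup.normalizer ((X ⊓ signalizerDelta p H : Subgroup G) : Set G) := by
  intro a ha
  exact Cfsg.Agent.Lib.Helper8.CompBal.mem_normalizer_inf (hAX ha)
    (le_normalizer_signalizerDelta p (comm_of_isElementaryAbelian hA) hH ha)

include hbal hA hAk

/-- commutators of pieces are again generated by pieces. -/
theorem commutator_pieces_le {X H₁ H₂ : Subgroup G}
    (hAX : A ≤ Subgroup.normalizer (X : Set G)) (hX : (Nat.card ↥X).Coprime p)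
    (h₁ : IsBig p A H₁) (h₂ : IsBig p A H₂) :
    ⁅X ⊓ signalizerDelta p H₁, X ⊓ signalizerDelta p H₂⁆ ≤ patt p A ⁅X, X⁆ := by
  have hKX : ⁅X ⊓ signalizerDelta p H₁, X ⊓ signalizerDelta p H₂⁆ ≤ ⁅X, X⁆ :=
    Subgroup.commutator_mono inf_le_left inf_le_left
  have hKD : ⁅X ⊓ signalizerDelta p H₁, X ⊓ signalizerDelta p H₂⁆ ≤
      signalizerDelta p (H₁ ⊓ H₂) := by
    have e1 : X ⊓ signalizerDelta p H₁ ≤ signalizerDelta p (H₁ ⊓ H₂) :=
      inf_le_right.trans (signalizerDelta_antitone p inf_le_left)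
    have e2 : X ⊓ signalizerDelta p H₂ ≤ signalizerDelta p (H₁ ⊓ H₂) :=
      inf_le_right.trans (signalizerDelta_antitone p inf_le_right)
    exact (Subgroup.commutator_mono e1 e2).trans (Subgroup.commutator_le_self _)
  apply le_of_big_centralizers_le hA (A_ne_bot hAk)
  · exact Cfsg.Agent.Lib.Helper7.le_normalizer_commutator
      (le_normalizer_inf_signalizerDelta hA hAX h₁.1)
      (le_normalizer_inf_signalizerDelta hA hAX h₂.1)
  · exact Nat.Coprime.coprime_dvd_left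
      (Subgroup.card_dvd_of_le (hKX.trans (Subgroup.commutator_le_self X))) hX
  · intro V hV
    refine le_trans ?_ (inf_le_patt p hV)
    refine le_inf (inf_le_left.trans hKX) ?_
    refine le_trans (inf_le_inf_right _ hKD) ?_
    exact signalizerDelta_inf_centralizer_le hbal hA (inf_le_left.trans h₁.1)
      (pow_le_card_inf_of_isBig hAk h₁ h₂) hV.1

/-- `X` normalizes `patt [X, X]`. -/
theorem le_normalizer_patt_commutator {X : Subgroup G}
    (hAX : A ≤ Subgroup.normalizer (X : Set G)) (hX : (Nat.card ↥X).Coprime p)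
    (hpat : X ≤ patt p A X) :
    X ≤ Subgroup.normalizer ((patt p A ⁅X, X⁆ : Subgroup G) : Set G) := by
  refine hpat.trans ?_
  apply iSup_le
  rintro ⟨H₁, h₁⟩
  intro v hv
  apply Cfsg.Agent.Lib.Helper7.mem_normalizer_of_map_conj_le
  unfold patt
  rw [Subgroup.map_iSup]
  apply iSup_le
  rintro ⟨H, hH⟩
  rintro _ ⟨l, hl, rfl⟩
  have hl' : l ∈ X ⊓ signalizerDelta p H := ⟨Subgroup.commutator_le_self X hl.1, hl.2⟩
  have h1 : ⁅v, l⁆ ∈ patt p A ⁅X, X⁆ :=
    commutator_pieces_le hbal hA hAk hAX hX h₁ hH (Subgroup.commutator_mem_commutator hv hl')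
  have h2 : l ∈ patt p A ⁅X, X⁆ := inf_le_patt p hH hl
  have e : (MulAut.conj v).toMonoidHom l = ⁅v, l⁆ * l := by
    show v * l * v⁻¹ = ⁅v, l⁆ * l
    rw [commutatorElement_def]; group
  rw [e]
  exact Subgroup.mul_mem _ h1 h2

/-- `[X, X]` is generated by pieces. -/
theorem commutator_le_patt {X : Subgroup G}
    (hAX : A ≤ Subgroup.normalizer (X : Set G)) (hX : (Nat.card ↥X).Coprime p)
    (hpat : X ≤ patt p A X) : ⁅X, X⁆ ≤ patt p A ⁅X, X⁆ := by
  have hN := le_normalizer_patt_commutator hbal hA hAk hAX hX hpat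
  have step1 : ∀ g₁ ∈ X, ∀ H₂ : Subgroup G, IsBig p A H₂ → ∀ v ∈ X ⊓ signalizerDelta p H₂,
      ⁅g₁, v⁆ ∈ patt p A ⁅X, X⁆ := by
    intro g₁ hg₁ H₂ h₂ v hv
    have hg₁' : g₁ ∈ patt p A X := hpat hg₁
    have key : g₁ ∈ X ∧ ⁅g₁, v⁆ ∈ patt p A ⁅X, X⁆ := by
      refine Subgroup.iSup_induction
        (fun H : {H : Subgroup G // IsBig p A H} => X ⊓ signalizerDelta p (H : Subgroup G))
        (C := fun g => g ∈ X ∧ ⁅g, v⁆ ∈ patt p A ⁅X, X⁆) hg₁' ?_ ?_ ?_
      · rintro ⟨H₁, h₁⟩ g hg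
        exact ⟨hg.1, commutator_pieces_le hbal hA hAk hAX hX h₁ h₂
          (Subgroup.commutator_mem_commutator hg hv)⟩
      · refine ⟨X.one_mem, ?_⟩
        rw [commutatorElement_one_left]
        exact Subgroup.one_mem _
      · rintro x y ⟨hx, hxv⟩ ⟨hy, hyv⟩
        refine ⟨X.mul_mem hx hy, ?_⟩
        rw [Cfsg.Agent.Lib.Helper7.commutatorElement_mul_left]
        exact Subgroup.mul_mem _ ((Subgroup.mem_normalizer_iff.1 (hN hx) _).1 hyv) hxv
    exact key.2
  rw [Subgroup.commutator_le]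
  intro g₁ hg₁ g₂ hg₂
  have hg₂' : g₂ ∈ patt p A X := hpat hg₂
  have key : g₂ ∈ X ∧ ⁅g₁, g₂⁆ ∈ patt p A ⁅X, X⁆ := by
    refine Subgroup.iSup_induction
      (fun H : {H : Subgroup G // IsBig p A H} => X ⊓ signalizerDelta p (H : Subgroup G))
      (C := fun g => g ∈ X ∧ ⁅g₁, g⁆ ∈ patt p A ⁅X, X⁆) hg₂' ?_ ?_ ?_
    · rintro ⟨H₂, h₂⟩ g hg
      exact ⟨hg.1, step1 g₁ hg₁ H₂ h₂ g hg⟩
    · refine ⟨X.one_mem, ?_⟩
      rw [commutatorElement_one_right]
      exact Subgroup.one_mem _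
    · rintro x y ⟨hx, hxv⟩ ⟨hy, hyv⟩
      refine ⟨X.mul_mem hx hy, ?_⟩
      have e : ⁅g₁, x * y⁆ = ⁅g₁, x⁆ * (x * ⁅g₁, y⁆ * x⁻¹) := by
        simp only [commutatorElement_def]; group
      rw [e]
      exact Subgroup.mul_mem _ hxv ((Subgroup.mem_normalizer_iff.1 (hN hx) _).1 hyv)
  exact key.2

end

end Cfsg.Agent.Lib.Helper8.KSig
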