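import Mathlib
import Cfsg.Agent.Lib.Helper8.KSig3

set_option autoImplicit false
set_option linter.style.haveILetI false
set_option linter.unusedSectionVars false

/-! The `k`-balanced signalizer functor: good subgroups. -/

namespace Cfsg.Agent.Lib.Helper8.KSig

open Cfsg Cfsg.Agent.Lib.Helper8.CoreIn
open scoped commutatorElement

variable {G : Type*} [Group G]

/-- a subgroup between `[X, X]` and `X` is normalized by `X`. -/
theorem le_normalizer_of_commutator_le {X Y : Subgroup G} (h1 : ⁅X, X⁆ ≤ Y) (h2 : Y ≤ X) :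
    X ≤ Subgroup.normalizer (Y : Set G) := by
  have key : ∀ x ∈ X, ∀ y ∈ Y, x * y * x⁻¹ ∈ Y := by
    intro x hx y hy
    have h3 : ⁅x, y⁆ ∈ Y := h1 (Subgroup.commutator_mem_commutator hx (h2 hy))
    have e : x * y * x⁻¹ = ⁅x, y⁆ * y := by rw [commutatorElement_def]; group
    rw [e]
    exact Y.mul_mem h3 hy
  intro x hx
  rw [Subgroup.mem_normalizer_iff]
  intro y
  constructor
  · exact key x hx y
  · intro h
    have := key x⁻¹ (X.inv_mem hx) _ h
    have e : x⁻¹ * (x * y * x⁻¹) * x⁻¹⁻¹ = y := by group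
    rwa [e] at this

section
variable [Finite G] {p k : ℕ} [hp : Fact p.Prime] (hbal : IsKBalanced p k G) {A : Subgroup G}
  (hA : IsElementaryAbelian p A) (hAk : p ^ (k + 2) ≤ Nat.card ↥A)

include hbal hA hAk

/-- adjoining a piece to a good normal subgroup keeps it good. -/
theorem isGood_sup {X Y H₁ : Subgroup G} (hAX : A ≤ Subgroup.normalizer (X : Set G))
    (hX : (Nat.card ↥X).Coprime p) (hKY : ⁅X, X⁆ ≤ Y) (hYX : Y ≤ X)
    (hAY : A ≤ Subgroup.normalizer (Y : Set G)) (hY : IsGood p A Y) (h₁ : IsBig p A H₁) :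
    IsGood p A (Y ⊔ (X ⊓ signalizerDelta p H₁)) := by
  intro H hH x hx
  have hXY : X ≤ Subgroup.normalizer (Y : Set G) := le_normalizer_of_commutator_le hKY hYX
  have hVN : X ⊓ signalizerDelta p H₁ ≤ Subgroup.normalizer (Y : Set G) := inf_le_left.trans hXY
  obtain ⟨y, hy, v, hv, rfl⟩ :=
    (Cfsg.Agent.Lib.Helper8.SigFun.mem_sup_iff_of_le_normalizer hVN).1 hx.1
  have hxC := hx.2
  have hxX : y * v ∈ X := X.mul_mem (hYX hy) hv.1
  have hAV := le_normalizer_inf_signalizerDelta hA hAX h₁.1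
  have hHA : H ≤ A := hH.1
  -- `v` centralizes `H` modulo `N = V ∩ Y`
  have hcomm : ∀ a ∈ H, v⁻¹ * a * v * a⁻¹ ∈ (X ⊓ signalizerDelta p H₁) ⊓ Y := by
    intro a ha
    have hax : a * (y * v) = (y * v) * a := Subgroup.mem_centralizer_iff.1 hxC a ha
    constructor
    · have h1 : a * v * a⁻¹ ∈ X ⊓ signalizerDelta p H₁ :=
        (Subgroup.mem_normalizer_iff.1 (hAV (hHA ha)) v).1 hv
      have e : v⁻¹ * a * v * a⁻¹ = v⁻¹ * (a * v * a⁻¹) := by group
      rw [e]
      exact Subgroup.mul_mem _ (Subgroup.inv_mem _ hv) h1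
    · have h1 : a * y⁻¹ * a⁻¹ ∈ Y :=
        (Subgroup.mem_normalizer_iff.1 (hAY (hHA ha)) y⁻¹).1 (Y.inv_mem hy)
      have h2 : y * (a * y⁻¹ * a⁻¹) ∈ Y := Y.mul_mem hy h1
      have h3 : (y * v)⁻¹ * (y * (a * y⁻¹ * a⁻¹)) * (y * v)⁻¹⁻¹ ∈ Y :=
        (Subgroup.mem_normalizer_iff.1 (hXY (X.inv_mem hxX)) _).1 h2
      have e : v⁻¹ * a * v * a⁻¹ = (y * v)⁻¹ * (y * (a * y⁻¹ * a⁻¹)) * (y * v)⁻¹⁻¹ := by
        have e1 : a * (y * v) * a⁻¹ = y * v := by rw [hax, mul_inv_cancel_right]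
        calc v⁻¹ * a * v * a⁻¹ = (y * v)⁻¹ * (y * (a * y⁻¹ * a⁻¹)) * (a * (y * v) * a⁻¹) := by group
          _ = (y * v)⁻¹ * (y * (a * y⁻¹ * a⁻¹)) * (y * v)⁻¹⁻¹ := by rw [e1, inv_inv]
      rw [e]
      exact h3
  have hNcard : (Nat.card ↥((X ⊓ signalizerDelta p H₁) ⊓ Y : Subgroup G)).Coprime p :=
    Nat.Coprime.coprime_dvd_left (Subgroup.card_dvd_of_le (inf_le_left.trans inf_le_left)) hX
  have hHp : IsPGroup p ↥H := isPGroup_of_isElementaryAbelian (isElementaryAbelian_of_le hA hHA)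
  have hHN : H ≤ Subgroup.normalizer (((X ⊓ signalizerDelta p H₁) ⊓ Y : Subgroup G) : Set G) := by
    intro a ha
    exact Cfsg.Agent.Lib.Helper8.CompBal.mem_normalizer_inf (hAV (hHA ha)) (hAY (hHA ha))
  obtain ⟨g, hg1, hg2⟩ := exists_mem_coset_commute' _ H hNcard hHp hHN v hcomm
  -- `g ∈ V ∩ C(H)`
  have hgV : g ∈ X ⊓ signalizerDelta p H₁ := by
    have : g = v * (v⁻¹ * g) := by group
    rw [this]
    exact Subgroup.mul_mem _ hv hg1.1
  have hgC : g ∈ Subgroup.centralizer (H : Set G) := by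
    refine Subgroup.mem_centralizer_iff.2 ?_
    intro a ha
    exact hg2 a ha
  have hgD : g ∈ signalizerDelta p H :=
    signalizerDelta_inf_centralizer_le hbal hA h₁.1 (pow_le_card_of_isBig hAk h₁) hHA
      ⟨hgV.2, hgC⟩
  -- the rest lies in `Y ∩ C(H)`
  have hrest : y * v * g⁻¹ ∈ Y := by
    have h1 : v * (v⁻¹ * g)⁻¹ * v⁻¹ ∈ Y :=
      (Subgroup.mem_normalizer_iff.1 (hVN hv) _).1 (Y.inv_mem hg1.2)
    have e : y * v * g⁻¹ = y * (v * (v⁻¹ * g)⁻¹ * v⁻¹) := by group
    rw [e]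
    exact Y.mul_mem hy h1
  have hrestC : y * v * g⁻¹ ∈ Subgroup.centralizer (H : Set G) :=
    Subgroup.mul_mem _ hxC (Subgroup.inv_mem _ hgC)
  have hrestD : y * v * g⁻¹ ∈ signalizerDelta p H := hY H hH ⟨hrest, hrestC⟩
  have e : y * v = (y * v * g⁻¹) * g := by group
  rw [e]
  exact Subgroup.mul_mem _ hrestD hgD

/-- if `[X, X]` is good then so is `X`. -/
theorem isGood_of_commutator {X : Subgroup G} (hAX : A ≤ Subgroup.normalizer (X : Set G))
    (hX : (Nat.card ↥X).Coprime p) (hpat : X ≤ patt p A X) (hK : IsGood p A ⁅X, X⁆) :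
    IsGood p A X := by
  classical
  set 𝒯 : Set (Subgroup G) := {Y | ⁅X, X⁆ ≤ Y ∧ Y ≤ X ∧
    A ≤ Subgroup.normalizer (Y : Set G) ∧ IsGood p A Y} with h𝒯
  have hne : 𝒯.Nonempty := by
    refine ⟨⁅X, X⁆, le_rfl, Subgroup.commutator_le_self X, ?_, hK⟩
    exact Cfsg.Agent.Lib.Helper7.le_normalizer_commutator hAX hAX
  obtain ⟨Y, hYmem, hYmax⟩ := (Set.toFinite 𝒯).exists_maximal hne
  obtain ⟨hKY, hYX, hAY, hYg⟩ := hYmem
  have hle : X ≤ Y := by
    refine hpat.trans ?_
    apply iSup_le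
    rintro ⟨H₁, h₁⟩
    have hmem : Y ⊔ (X ⊓ signalizerDelta p H₁) ∈ 𝒯 := by
      refine ⟨hKY.trans le_sup_left, sup_le hYX inf_le_left, ?_, ?_⟩
      · exact Cfsg.Agent.Lib.Helper7.le_normalizer_sup hAY
          (le_normalizer_inf_signalizerDelta hA hAX h₁.1)
      · exact isGood_sup hbal hA hAk hAX hX hKY hYX hAY hYg h₁
    have := hYmax hmem le_sup_left
    exact le_sup_right.trans this
  have : Y = X := le_antisymm hYX hle
  rw [← this]
  exact hYg

/-- the main lemma: solvable subgroups generated by pieces are good. -/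
theorem isGood_of_patt : ∀ n : ℕ, ∀ X : Subgroup G, Nat.card ↥X ≤ n →
    A ≤ Subgroup.normalizer (X : Set G) → (Nat.card ↥X).Coprime p → Group.IsSolvable ↥X →
    X ≤ patt p A X → IsGood p A X := by
  intro n
  induction n with
  | zero =>
    intro X hn
    exact absurd hn (by have := Nat.card_pos (α := ↥X); omega)
  | succ n ih =>
    intro X hn hAX hX hsol hpat
    by_cases hbot : X = ⊥
    · intro H _ x hx
      have : x ∈ (⊥ : Subgroup G) := by rw [← hbot]; exact hx.1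
      rw [Subgroup.mem_bot] at this
      rw [this]
      exact Subgroup.one_mem _
    · have hlt : ⁅X, X⁆ < X := by
        refine lt_of_le_of_ne (Subgroup.commutator_le_self X) ?_
        intro heq
        haveI : Nontrivial ↥X := (Subgroup.nontrivial_iff_ne_bot X).2 hbot
        have h1 := Group.IsSolvable.commutator_lt_top_of_nontrivial ↥X
        apply h1.ne
        apply Subgroup.map_injective (Subgroup.subtype_injective X)
        rw [Subgroup.map_subtype_commutator, heq, ← MonoidHom.range_eq_map, Subgroup.range_subtype]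
      have hcardlt : Nat.card ↥(⁅X, X⁆ : Subgroup G) < Nat.card ↥X := by
        by_contra hcon
        push Not at hcon
        exact hlt.ne (Subgroup.eq_of_le_of_card_ge hlt.le hcon)
      have hK : IsGood p A ⁅X, X⁆ := by
        apply ih ⁅X, X⁆ (by omega)
        · exact Cfsg.Agent.Lib.Helper7.le_normalizer_commutator hAX hAX
        · exact Nat.Coprime.coprime_dvd_left (Subgroup.card_dvd_of_le hlt.le) hX
        · exact Group.isSolvable_of_isSolvable_injective (Subgroup.inclusion_injective hlt.le)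
        · exact commutator_le_patt hbal hA hAk hAX hX hpat
      exact isGood_of_commutator hbal hA hAk hAX hX hpat hK

end

end Cfsg.Agent.Lib.Helper8.KSig
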