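import Mathlib
import Cfsg.Agent.Lib.Helper8.KSig4

set_option autoImplicit false
set_option linter.style.haveILetI false
set_option linter.unusedSectionVars false

/-! The `k`-balanced signalizer functor: the functor. -/

namespace Cfsg.Agent.Lib.Helper8.KSig

open Cfsg Cfsg.Agent.Lib.Helper8.CoreIn
open scoped commutatorElement

variable {G : Type*} [Group G]

/-- `θ(a) = ⟨Δ(D) ∩ C(a) : D ≤ A, |D| = p ^ k⟩`. -/
def theta (p k : ℕ) (A : Subgroup G) (a : G) : Subgroup G :=
  ⨆ D : {D : Subgroup G // D ≤ A ∧ Nat.card ↥D = p ^ k},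
    signalizerDelta p (D : Subgroup G) ⊓ Subgroup.centralizer {a}

theorem theta_le_centralizer (p k : ℕ) (A : Subgroup G) (a : G) :
    theta p k A a ≤ Subgroup.centralizer {a} :=
  iSup_le fun _ => inf_le_right

theorem piece_le_theta (p k : ℕ) {A D : Subgroup G} (hD : D ≤ A) (hDk : Nat.card ↥D = p ^ k)
    (a : G) : signalizerDelta p D ⊓ Subgroup.centralizer {a} ≤ theta p k A a :=
  le_iSup (fun D : {D : Subgroup G // D ≤ A ∧ Nat.card ↥D = p ^ k} =>
    signalizerDelta p (D : Subgroup G) ⊓ Subgroup.centralizer {a}) ⟨D, hD, hDk⟩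

section
variable [Finite G] {p k : ℕ} [hp : Fact p.Prime] (hk : 1 ≤ k) (hbal : IsKBalanced p k G)
  {A : Subgroup G} (hA : IsElementaryAbelian p A) (hAk : p ^ (k + 2) ≤ Nat.card ↥A)

include hbal hA in
theorem theta_le_centralizerPPrimeCore {a : G} (ha : a ∈ A) (ha1 : a ≠ 1) :
    theta p k A a ≤ centralizerPPrimeCore p a := by
  apply iSup_le
  rintro ⟨D, hD, hDk⟩
  have hford : orderOf a = p := orderOf_eq_prime (hA.2 a ha) ha1
  exact hbal D (isElementaryAbelian_of_le hA hD) hDk a hford
    (fun d hd => comm_of_isElementaryAbelian hA d (hD hd) a ha)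

include hA in
theorem le_normalizer_theta {a : G} (ha : a ∈ A) :
    A ≤ Subgroup.normalizer (theta p k A a : Set G) := by
  intro b hb
  apply mem_normalizer_iSup
  rintro ⟨D, hD, hDk⟩
  refine Cfsg.Agent.Lib.Helper8.CompBal.mem_normalizer_inf
    (le_normalizer_signalizerDelta p (comm_of_isElementaryAbelian hA) hD hb) ?_
  apply Subgroup.le_normalizer
  exact Subgroup.mem_centralizer_singleton_iff.2 (comm_of_isElementaryAbelian hA b hb a ha)

include hk in
theorem ne_bot_of_card {D : Subgroup G} (hDk : Nat.card ↥D = p ^ k) : D ≠ ⊥ := by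
  rw [← Subgroup.one_lt_card_iff_ne_bot, hDk]
  exact Nat.one_lt_pow (by omega) hp.out.one_lt

include hk hbal hA hAk in
theorem theta_le_patt {a : G} (ha : a ∈ A) : theta p k A a ≤ patt p A (theta p k A a) := by
  apply iSup_le
  rintro ⟨D, hD, hDk⟩
  apply le_of_big_centralizers_le hA (A_ne_bot hAk)
  · intro b hb
    refine Cfsg.Agent.Lib.Helper8.CompBal.mem_normalizer_inf
      (le_normalizer_signalizerDelta p (comm_of_isElementaryAbelian hA) hD hb) ?_
    apply Subgroup.le_normalizer
    exact Subgroup.mem_centralizer_singleton_iff.2 (comm_of_isElementaryAbelian hA b hb a ha)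
  · exact Nat.Coprime.coprime_dvd_left (Subgroup.card_dvd_of_le inf_le_left)
      (signalizerDelta_card_coprime p (ne_bot_of_card hk hDk))
  · intro V hV
    refine le_trans (le_inf (inf_le_left.trans (piece_le_theta p k hD hDk a)) ?_) (inf_le_patt p hV)
    refine le_trans (inf_le_inf_right _ inf_le_left) ?_
    exact signalizerDelta_inf_centralizer_le hbal hA hD hDk.ge hV.1

include hk hbal hA hAk in
theorem theta_balance {a b : G} (ha : a ∈ A) (ha1 : a ≠ 1) (hb : b ∈ A)
    (hsol : Group.IsSolvable ↥(centralizerPPrimeCore p a)) :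
    theta p k A a ⊓ Subgroup.centralizer {b} ≤ theta p k A b := by
  have hle := theta_le_centralizerPPrimeCore hbal hA ha ha1
  have hcop : (Nat.card ↥(theta p k A a)).Coprime p :=
    Nat.Coprime.coprime_dvd_left (Subgroup.card_dvd_of_le hle) (coreIn_card_coprime p _)
  have hsol' : Group.IsSolvable ↥(theta p k A a) :=
    Group.isSolvable_of_isSolvable_injective (Subgroup.inclusion_injective hle)
  have hgood : IsGood p A (theta p k A a) :=
    isGood_of_patt hbal hA hAk _ _ le_rfl (le_normalizer_theta hA ha) hcop hsol'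
      (theta_le_patt hk hbal hA hAk ha)
  apply le_of_big_centralizers_le hA (A_ne_bot hAk)
  · intro c hc
    refine Cfsg.Agent.Lib.Helper8.CompBal.mem_normalizer_inf (le_normalizer_theta hA ha hc) ?_
    apply Subgroup.le_normalizer
    exact Subgroup.mem_centralizer_singleton_iff.2 (comm_of_isElementaryAbelian hA c hc b hb)
  · exact Nat.Coprime.coprime_dvd_left (Subgroup.card_dvd_of_le inf_le_left) hcop
  · intro V hV x hx
    have hxD : x ∈ signalizerDelta p V := hgood V hV ⟨hx.1.1, hx.2⟩
    obtain ⟨D, hDV, hDk⟩ := exists_le_card_eq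
      (isPGroup_of_isElementaryAbelian (isElementaryAbelian_of_le hA hV.1))
      (pow_le_card_of_isBig hAk hV)
    exact piece_le_theta p k (hDV.trans hV.1) hDk b ⟨signalizerDelta_antitone p hDV hxD, hx.1.2⟩

include hk hbal hA hAk in
theorem isSignalizerFunctor_theta
    (hsolv : ∀ a ∈ A, a ≠ 1 → Group.IsSolvable ↥(centralizerPPrimeCore p a)) :
    IsSignalizerFunctor p A (theta p k A) := by
  refine ⟨?_, ?_, ?_, ?_⟩
  · intro a _ _
    exact theta_le_centralizer p k A a
  · intro a ha ha1 hd
    have hcop : (Nat.card ↥(theta p k A a)).Coprime p :=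
      Nat.Coprime.coprime_dvd_left
        (Subgroup.card_dvd_of_le (theta_le_centralizerPPrimeCore hbal hA ha ha1))
        (coreIn_card_coprime p _)
    have := Nat.Coprime.eq_one_of_dvd hcop.symm hd
    exact hp.out.one_lt.ne' this
  · intro a ha _ b hb x hx
    exact (Subgroup.mem_normalizer_iff.1 (le_normalizer_theta hA ha hb) x).1 hx
  · intro a ha ha1 b hb _
    exact theta_balance hk hbal hA hAk ha ha1 hb (hsolv a ha ha1)

end

end Cfsg.Agent.Lib.Helper8.KSig
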