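import Mathlib
import Cfsg.Prelude.Def_LocalEven
import Cfsg.Agent.Lib.Helper5.S4Rec
import Cfsg.Agent.Lib.Helper5.KleinPairs
import Cfsg.Agent.Lib.Helper2.Involves

/-! A normal Klein four-subgroup on which the ambient group induces the full automorphism group:
basic facts (the configuration, its subgroup `W`, the centralizer of index six). -/
set_option autoImplicit false
open scoped Pointwise

namespace Cfsg.Agent.Lib.Helper8.KleinS4

open Cfsg.Agent.Lib.Helper5.KleinPairs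

universe u

/-- Two commuting involutions `w₁ ≠ w₂` spanning a normal four-group, an element `y` acting on it
as a three-cycle and an element `x` acting as a transposition. -/
structure Config {K : Type u} [Group K] (w₁ w₂ y x : K) : Prop where
  h1 : w₁ ≠ 1
  h2 : w₂ ≠ 1
  hne : w₁ ≠ w₂
  hs1 : w₁ * w₁ = 1
  hs2 : w₂ * w₂ = 1
  hc : w₂ * w₁ = w₁ * w₂
  inv1 : ∀ g : K, g * w₁ * g⁻¹ = w₁ ∨ g * w₁ * g⁻¹ = w₂ ∨ g * w₁ * g⁻¹ = w₁ * w₂
  inv2 : ∀ g : K, g * w₂ * g⁻¹ = w₁ ∨ g * w₂ * g⁻¹ = w₂ ∨ g * w₂ * g⁻¹ = w₁ * w₂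
  y1 : y * w₁ * y⁻¹ = w₂
  y2 : y * w₂ * y⁻¹ = w₁ * w₂
  x1 : x * w₁ * x⁻¹ = w₁
  x2 : x * w₂ * x⁻¹ = w₁ * w₂

namespace Config

variable {K : Type u} [Group K] {w₁ w₂ y x : K}

/-- the four-group -/
def W (h : Config w₁ w₂ y x) : Subgroup K := kv w₁ w₂ h.hs1 h.hs2 h.hc

theorem mem_W (h : Config w₁ w₂ y x) (g : K) :
    g ∈ h.W ↔ g = 1 ∨ g = w₁ ∨ g = w₂ ∨ g = w₁ * w₂ := Iff.rfl

theorem w₁_mem (h : Config w₁ w₂ y x) : w₁ ∈ h.W := Or.inr (Or.inl rfl)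
theorem w₂_mem (h : Config w₁ w₂ y x) : w₂ ∈ h.W := Or.inr (Or.inr (Or.inl rfl))
theorem w₃_mem (h : Config w₁ w₂ y x) : w₁ * w₂ ∈ h.W := Or.inr (Or.inr (Or.inr rfl))

theorem card_W (h : Config w₁ w₂ y x) : Nat.card h.W = 4 :=
  card_kv w₁ w₂ h.hs1 h.hs2 h.hc h.h1 h.h2 h.hne

theorem isKleinFour_W (h : Config w₁ w₂ y x) : IsKleinFour h.W :=
  isKleinFour_kv w₁ w₂ h.hs1 h.hs2 h.hc h.h1 h.h2 h.hne

theorem conj_mem_W (h : Config w₁ w₂ y x) (g : K) {v : K} (hv : v ∈ h.W) : g * v * g⁻¹ ∈ h.W := by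
  have e1 : g * w₁ * g⁻¹ ∈ h.W := by
    rcases h.inv1 g with e | e | e <;> rw [e]
    · exact h.w₁_mem
    · exact h.w₂_mem
    · exact h.w₃_mem
  have e2 : g * w₂ * g⁻¹ ∈ h.W := by
    rcases h.inv2 g with e | e | e <;> rw [e]
    · exact h.w₁_mem
    · exact h.w₂_mem
    · exact h.w₃_mem
  rcases hv with rfl | rfl | rfl | rfl
  · simp only [mul_one, mul_inv_cancel]; exact h.W.one_mem
  · exact e1
  · exact e2
  · have : g * (w₁ * w₂) * g⁻¹ = (g * w₁ * g⁻¹) * (g * w₂ * g⁻¹) := by group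
    rw [this]
    exact h.W.mul_mem e1 e2

instance normal_W (h : Config w₁ w₂ y x) : h.W.Normal :=
  ⟨fun v hv g => h.conj_mem_W g hv⟩

/-- the centralizer of the four-group -/
def C (h : Config w₁ w₂ y x) : Subgroup K := Subgroup.centralizer (h.W : Set K)

instance normal_C (h : Config w₁ w₂ y x) : h.C.Normal := by
  unfold C; infer_instance

theorem mem_C_iff (h : Config w₁ w₂ y x) (g : K) :
    g ∈ h.C ↔ g * w₁ * g⁻¹ = w₁ ∧ g * w₂ * g⁻¹ = w₂ := by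
  unfold C
  rw [Subgroup.mem_centralizer_iff]
  constructor
  · intro hg
    refine ⟨?_, ?_⟩
    · rw [← hg w₁ h.w₁_mem]; group
    · rw [← hg w₂ h.w₂_mem]; group
  · rintro ⟨e1, e2⟩
    have c1 : w₁ * g = g * w₁ := by
      calc w₁ * g = (g * w₁ * g⁻¹) * g := by rw [e1]
        _ = g * w₁ := by group
    have c2 : w₂ * g = g * w₂ := by
      calc w₂ * g = (g * w₂ * g⁻¹) * g := by rw [e2]
        _ = g * w₂ := by group
    rintro v (rfl | rfl | rfl | rfl)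
    · simp
    · exact c1
    · exact c2
    · calc w₁ * w₂ * g = w₁ * (w₂ * g) := by group
        _ = w₁ * (g * w₂) := by rw [c2]
        _ = (w₁ * g) * w₂ := by group
        _ = (g * w₁) * w₂ := by rw [c1]
        _ = g * (w₁ * w₂) := by group

theorem W_le_C (h : Config w₁ w₂ y x) : h.W ≤ h.C := by
  have i1 : w₁⁻¹ = w₁ := inv_eq_of_mul_eq_one_right h.hs1
  have i2 : w₂⁻¹ = w₂ := inv_eq_of_mul_eq_one_right h.hs2
  have a1 : w₁ * w₁ * w₁⁻¹ = w₁ := by group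
  have a2 : w₂ * w₂ * w₂⁻¹ = w₂ := by group
  have a3 : w₂ * w₁ * w₂⁻¹ = w₁ := by rw [h.hc]; group
  have a4 : w₁ * w₂ * w₁⁻¹ = w₂ := by rw [← h.hc]; group
  intro v hv
  rw [h.mem_C_iff]
  rcases hv with rfl | rfl | rfl | rfl
  · simp
  · exact ⟨a1, a4⟩
  · exact ⟨a3, a2⟩
  · constructor
    · calc w₁ * w₂ * w₁ * (w₁ * w₂)⁻¹ = w₁ * (w₂ * w₁ * w₂⁻¹) * w₁⁻¹ := by group
        _ = w₁ := by rw [a3, a1]
    · calc w₁ * w₂ * w₂ * (w₁ * w₂)⁻¹ = w₁ * (w₂ * w₂ * w₂⁻¹) * w₁⁻¹ := by group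
        _ = w₂ := by rw [a2, a4]

theorem w₃_ne_one (h : Config w₁ w₂ y x) : w₁ * w₂ ≠ 1 := by
  intro e
  apply h.hne
  have : w₁ * w₂ = w₁ * w₁ := by rw [e, h.hs1]
  exact (mul_left_cancel this).symm

theorem w₃_ne_w₁ (h : Config w₁ w₂ y x) : w₁ * w₂ ≠ w₁ := by
  intro e
  apply h.h2
  have : w₁ * w₂ = w₁ * 1 := by rw [e, mul_one]
  exact mul_left_cancel this

theorem w₃_ne_w₂ (h : Config w₁ w₂ y x) : w₁ * w₂ ≠ w₂ := by
  intro e
  apply h.h1
  have : w₁ * w₂ = 1 * w₂ := by rw [e, one_mul]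
  exact mul_right_cancel this

theorem y_not_mem_C (h : Config w₁ w₂ y x) : y ∉ h.C := by
  intro hy
  rw [h.mem_C_iff] at hy
  rw [h.y1] at hy
  exact h.hne hy.1.symm

theorem x_not_mem_C (h : Config w₁ w₂ y x) : x ∉ h.C := by
  intro hx
  rw [h.mem_C_iff] at hx
  rw [h.x2] at hx
  exact h.w₃_ne_w₂ hx.2

theorem y_cube_mem_C (h : Config w₁ w₂ y x) : y ^ 3 ∈ h.C := by
  rw [h.mem_C_iff]
  have e3 : y * (w₁ * w₂) * y⁻¹ = w₁ := by
    have : y * (w₁ * w₂) * y⁻¹ = (y * w₁ * y⁻¹) * (y * w₂ * y⁻¹) := by group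
    rw [this, h.y1, h.y2, ← mul_assoc, h.hc, mul_assoc, h.hs2, mul_one]
  constructor
  · have : y ^ 3 * w₁ * (y ^ 3)⁻¹ = y * (y * (y * w₁ * y⁻¹) * y⁻¹) * y⁻¹ := by rw [pow_three]; group
    rw [this, h.y1, h.y2, e3]
  · have : y ^ 3 * w₂ * (y ^ 3)⁻¹ = y * (y * (y * w₂ * y⁻¹) * y⁻¹) * y⁻¹ := by rw [pow_three]; group
    rw [this, h.y2, e3, h.y1]

theorem x_sq_mem_C (h : Config w₁ w₂ y x) : x ^ 2 ∈ h.C := by
  rw [h.mem_C_iff]
  have e3 : x * (w₁ * w₂) * x⁻¹ = w₂ := by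
    have : x * (w₁ * w₂) * x⁻¹ = (x * w₁ * x⁻¹) * (x * w₂ * x⁻¹) := by group
    rw [this, h.x1, h.x2, ← mul_assoc, h.hs1, one_mul]
  constructor
  · have : x ^ 2 * w₁ * (x ^ 2)⁻¹ = x * (x * w₁ * x⁻¹) * x⁻¹ := by rw [pow_two]; group
    rw [this, h.x1, h.x1]
  · have : x ^ 2 * w₂ * (x ^ 2)⁻¹ = x * (x * w₂ * x⁻¹) * x⁻¹ := by rw [pow_two]; group
    rw [this, h.x2, e3]

theorem index_C_le [Finite K] (h : Config w₁ w₂ y x) : h.C.index ≤ 6 := by
  classical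
  rw [Subgroup.index_eq_card]
  have wd : ∀ a b : K, (QuotientGroup.leftRel h.C) a b →
      (a * w₁ * a⁻¹, a * w₂ * a⁻¹) = (b * w₁ * b⁻¹, b * w₂ * b⁻¹) := by
    intro a b hab
    rw [QuotientGroup.leftRel_apply, h.mem_C_iff] at hab
    have e1 : b * w₁ * b⁻¹ = a * ((a⁻¹ * b) * w₁ * (a⁻¹ * b)⁻¹) * a⁻¹ := by group
    have e2 : b * w₂ * b⁻¹ = a * ((a⁻¹ * b) * w₂ * (a⁻¹ * b)⁻¹) * a⁻¹ := by group
    rw [e1, e2, hab.1, hab.2]
  let F : K ⧸ h.C → K × K := fun q =>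
    Quotient.liftOn' q (fun g => (g * w₁ * g⁻¹, g * w₂ * g⁻¹)) wd
  have hF : ∀ g : K, F (QuotientGroup.mk g) = (g * w₁ * g⁻¹, g * w₂ * g⁻¹) := fun g => rfl
  have hinj : Function.Injective F := by
    intro q₁ q₂
    induction q₁ using QuotientGroup.induction_on with
    | H a =>
      induction q₂ using QuotientGroup.induction_on with
      | H b =>
        intro hab
        rw [hF, hF, Prod.mk.injEq] at hab
        rw [QuotientGroup.eq, h.mem_C_iff]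
        constructor
        · calc a⁻¹ * b * w₁ * (a⁻¹ * b)⁻¹ = a⁻¹ * (b * w₁ * b⁻¹) * a := by group
            _ = a⁻¹ * (a * w₁ * a⁻¹) * a := by rw [hab.1]
            _ = w₁ := by group
        · calc a⁻¹ * b * w₂ * (a⁻¹ * b)⁻¹ = a⁻¹ * (b * w₂ * b⁻¹) * a := by group
            _ = a⁻¹ * (a * w₂ * a⁻¹) * a := by rw [hab.2]
            _ = w₂ := by group
  let S : Finset (K × K) := {(w₁, w₂), (w₁, w₁ * w₂), (w₂, w₁), (w₂, w₁ * w₂), (w₁ * w₂, w₁),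
    (w₁ * w₂, w₂)}
  have hS : S.card ≤ 6 := Finset.card_le_six
  have hmaps : ∀ q : K ⧸ h.C, F q ∈ S := by
    intro q
    induction q using QuotientGroup.induction_on with
    | H g =>
      rw [hF]
      have hne : g * w₁ * g⁻¹ ≠ g * w₂ * g⁻¹ := by
        intro e
        apply h.hne
        have := mul_right_cancel e
        exact mul_left_cancel this
      simp only [S, Finset.mem_insert, Finset.mem_singleton, Prod.mk.injEq]
      rcases h.inv1 g with e1 | e1 | e1 <;> rcases h.inv2 g with e2 | e2 | e2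
      · exact absurd (e1.trans e2.symm) hne
      · left; exact ⟨e1, e2⟩
      · right; left; exact ⟨e1, e2⟩
      · right; right; left; exact ⟨e1, e2⟩
      · exact absurd (e1.trans e2.symm) hne
      · right; right; right; left; exact ⟨e1, e2⟩
      · right; right; right; right; left; exact ⟨e1, e2⟩
      · right; right; right; right; right; exact ⟨e1, e2⟩
      · exact absurd (e1.trans e2.symm) hne
  haveI : Fintype (K ⧸ h.C) := Fintype.ofFinite _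
  rw [Nat.card_eq_fintype_card, ← Finset.card_univ]
  exact (Finset.card_le_card_of_injOn F (fun q _ => hmaps q) (fun a _ b _ hab => hinj hab)).trans hS

theorem index_C [Finite K] (h : Config w₁ w₂ y x) : h.C.index = 6 := by
  have h3 : 3 ∣ h.C.index := by
    rw [Subgroup.index_eq_card]
    have ho : orderOf (QuotientGroup.mk y : K ⧸ h.C) = 3 := by
      have : Fact (Nat.Prime 3) := ⟨Nat.prime_three⟩
      apply orderOf_eq_prime
      · rw [← QuotientGroup.mk_pow, QuotientGroup.eq_one_iff]; exact h.y_cube_mem_C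
      · rw [Ne, QuotientGroup.eq_one_iff]; exact h.y_not_mem_C
    rw [← ho]; exact orderOf_dvd_natCard _
  have h2 : 2 ∣ h.C.index := by
    rw [Subgroup.index_eq_card]
    have ho : orderOf (QuotientGroup.mk x : K ⧸ h.C) = 2 := by
      have : Fact (Nat.Prime 2) := ⟨Nat.prime_two⟩
      apply orderOf_eq_prime
      · rw [← QuotientGroup.mk_pow, QuotientGroup.eq_one_iff]; exact h.x_sq_mem_C
      · rw [Ne, QuotientGroup.eq_one_iff]; exact h.x_not_mem_C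
    rw [← ho]; exact orderOf_dvd_natCard _
  have h6 : 2 * 3 ∣ h.C.index := Nat.Coprime.mul_dvd_of_dvd_of_dvd (by norm_num) h2 h3
  obtain ⟨k, hk⟩ := h6
  have hle := h.index_C_le
  have hpos : h.C.index ≠ 0 := Subgroup.index_ne_zero_of_finite
  omega

theorem quotient (h : Config w₁ w₂ y x) (R : Subgroup K) [R.Normal] (hR : R ⊓ h.W = ⊥) :
    Config (QuotientGroup.mk w₁ : K ⧸ R) (QuotientGroup.mk w₂) (QuotientGroup.mk y)
      (QuotientGroup.mk x) where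
  h1 := by
    rw [Ne, QuotientGroup.eq_one_iff]
    intro hm
    have : w₁ ∈ R ⊓ h.W := ⟨hm, h.w₁_mem⟩
    rw [hR, Subgroup.mem_bot] at this
    exact h.h1 this
  h2 := by
    rw [Ne, QuotientGroup.eq_one_iff]
    intro hm
    have : w₂ ∈ R ⊓ h.W := ⟨hm, h.w₂_mem⟩
    rw [hR, Subgroup.mem_bot] at this
    exact h.h2 this
  hne := by
    rw [Ne, QuotientGroup.eq]
    intro hm
    have i1 : w₁⁻¹ = w₁ := inv_eq_of_mul_eq_one_right h.hs1
    rw [i1] at hm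
    have : w₁ * w₂ ∈ R ⊓ h.W := ⟨hm, h.w₃_mem⟩
    rw [hR, Subgroup.mem_bot] at this
    exact h.w₃_ne_one this
  hs1 := by rw [← QuotientGroup.mk_mul, h.hs1]; rfl
  hs2 := by rw [← QuotientGroup.mk_mul, h.hs2]; rfl
  hc := by rw [← QuotientGroup.mk_mul, h.hc]; rfl
  inv1 := by
    intro g
    induction g using QuotientGroup.induction_on with
    | H g =>
      show ((g * w₁ * g⁻¹ : K) : K ⧸ R) = _ ∨ ((g * w₁ * g⁻¹ : K) : K ⧸ R) = _ ∨
        ((g * w₁ * g⁻¹ : K) : K ⧸ R) = _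
      rcases h.inv1 g with e | e | e <;> rw [e]
      · exact Or.inl rfl
      · exact Or.inr (Or.inl rfl)
      · exact Or.inr (Or.inr rfl)
  inv2 := by
    intro g
    induction g using QuotientGroup.induction_on with
    | H g =>
      show ((g * w₂ * g⁻¹ : K) : K ⧸ R) = _ ∨ ((g * w₂ * g⁻¹ : K) : K ⧸ R) = _ ∨
        ((g * w₂ * g⁻¹ : K) : K ⧸ R) = _
      rcases h.inv2 g with e | e | e <;> rw [e]
      · exact Or.inl rfl
      · exact Or.inr (Or.inl rfl)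
      · exact Or.inr (Or.inr rfl)
  y1 := by
    show ((y * w₁ * y⁻¹ : K) : K ⧸ R) = _
    rw [h.y1]
  y2 := by
    show ((y * w₂ * y⁻¹ : K) : K ⧸ R) = _
    rw [h.y2]; rfl
  x1 := by
    show ((x * w₁ * x⁻¹ : K) : K ⧸ R) = _
    rw [h.x1]
  x2 := by
    show ((x * w₂ * x⁻¹ : K) : K ⧸ R) = _
    rw [h.x2]; rfl

theorem subgroup (h : Config w₁ w₂ y x) (K₁ : Subgroup K) (hW : h.W ≤ K₁)
    (hcover : ∀ g : K, ∃ k ∈ K₁, ∃ c ∈ h.C, g = k * c) :
    ∃ y' x' : K₁, Config (⟨w₁, hW h.w₁_mem⟩ : K₁) ⟨w₂, hW h.w₂_mem⟩ y' x' := by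
  obtain ⟨ky, hky, cy, hcy, hy⟩ := hcover y
  obtain ⟨kx, hkx, cx, hcx, hx⟩ := hcover x
  rw [h.mem_C_iff] at hcy hcx
  have ey1 : ky * w₁ * ky⁻¹ = w₂ := by
    calc ky * w₁ * ky⁻¹ = ky * (cy * w₁ * cy⁻¹) * ky⁻¹ := by rw [hcy.1]
      _ = (ky * cy) * w₁ * (ky * cy)⁻¹ := by group
      _ = w₂ := by rw [← hy, h.y1]
  have ey2 : ky * w₂ * ky⁻¹ = w₁ * w₂ := by
    calc ky * w₂ * ky⁻¹ = ky * (cy * w₂ * cy⁻¹) * ky⁻¹ := by rw [hcy.2]
      _ = (ky * cy) * w₂ * (ky * cy)⁻¹ := by group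
      _ = w₁ * w₂ := by rw [← hy, h.y2]
  have ex1 : kx * w₁ * kx⁻¹ = w₁ := by
    calc kx * w₁ * kx⁻¹ = kx * (cx * w₁ * cx⁻¹) * kx⁻¹ := by rw [hcx.1]
      _ = (kx * cx) * w₁ * (kx * cx)⁻¹ := by group
      _ = w₁ := by rw [← hx, h.x1]
  have ex2 : kx * w₂ * kx⁻¹ = w₁ * w₂ := by
    calc kx * w₂ * kx⁻¹ = kx * (cx * w₂ * cx⁻¹) * kx⁻¹ := by rw [hcx.2]
      _ = (kx * cx) * w₂ * (kx * cx)⁻¹ := by group
      _ = w₁ * w₂ := by rw [← hx, h.x2]
  refine ⟨⟨ky, hky⟩, ⟨kx, hkx⟩, ?_⟩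
  refine ⟨?_, ?_, ?_, ?_, ?_, ?_, ?_, ?_, ?_, ?_, ?_, ?_⟩
  · intro e; exact h.h1 (congrArg Subtype.val e)
  · intro e; exact h.h2 (congrArg Subtype.val e)
  · intro e; exact h.hne (congrArg Subtype.val e)
  · exact Subtype.ext h.hs1
  · exact Subtype.ext h.hs2
  · exact Subtype.ext h.hc
  · intro g
    rcases h.inv1 (g : K) with e | e | e
    · exact Or.inl (Subtype.ext e)
    · exact Or.inr (Or.inl (Subtype.ext e))
    · exact Or.inr (Or.inr (Subtype.ext e))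
  · intro g
    rcases h.inv2 (g : K) with e | e | e
    · exact Or.inl (Subtype.ext e)
    · exact Or.inr (Or.inl (Subtype.ext e))
    · exact Or.inr (Or.inr (Subtype.ext e))
  · exact Subtype.ext ey1
  · exact Subtype.ext ey2
  · exact Subtype.ext ex1
  · exact Subtype.ext ex2

end Config

end Cfsg.Agent.Lib.Helper8.KleinS4
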