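import Cfsg.Agent.Lib.Helper8.L211A
import Cfsg.Agent.Lib.Helper9.GolayQR1

/-! The group `SL(2,11)` is generated by the standard elements; the table of `L211A` gives a
homomorphism from it to the permutations of the 24 points, with kernel of order two. -/

set_option autoImplicit false

namespace Cfsg.Agent.Lib.Helper8.L211

open Matrix Cfsg Cfsg.Agent.Lib.Helper9.GolayQR1

/-- the special linear group -/
abbrev SL : Type := Matrix.SpecialLinearGroup (Fin 2) (ZMod 11)

/-- the upper unitriangular elements -/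
def Tm (x : ZMod 11) : SL := ⟨!![1, x; 0, 1], by simp [Matrix.det_fin_two]⟩

/-- the Weyl element -/
def Sm : SL := ⟨!![0, -1; 1, 0], by simp [Matrix.det_fin_two]⟩

/-- the generating set -/
def gens : Set SL := {A | A = Sm ∨ ∃ x, A = Tm x}

theorem det_eq (A : SL) : A.1 0 0 * A.1 1 1 - A.1 0 1 * A.1 1 0 = 1 := by
  have := A.2
  rw [Matrix.det_fin_two] at this
  exact this

theorem ext4 (A B : SL) (h00 : A.1 0 0 = B.1 0 0) (h01 : A.1 0 1 = B.1 0 1)
    (h10 : A.1 1 0 = B.1 1 0) (h11 : A.1 1 1 = B.1 1 1) : A = B := by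
  apply Subtype.ext
  ext i j
  fin_cases i <;> fin_cases j
  · exact h00
  · exact h01
  · exact h10
  · exact h11

theorem mul_Tm (A : SL) (x : ZMod 11) :
    (A * Tm x).1 = !![A.1 0 0, A.1 0 0 * x + A.1 0 1; A.1 1 0, A.1 1 0 * x + A.1 1 1] := by
  rw [Matrix.SpecialLinearGroup.coe_mul]
  show A.1 * !![1, x; 0, 1] = _
  rw [Matrix.eta_fin_two A.1, Matrix.mul_fin_two]
  simp

theorem mul_Sm (A : SL) :
    (A * Sm).1 = !![A.1 0 1, -A.1 0 0; A.1 1 1, -A.1 1 0] := by
  rw [Matrix.SpecialLinearGroup.coe_mul]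
  show A.1 * !![0, -1; 1, 0] = _
  rw [Matrix.eta_fin_two A.1, Matrix.mul_fin_two]
  simp

theorem dec_gen : ∀ a b c d : ZMod 11, a * d - b * c = 1 → c ≠ 0 →
    !![a, b; c, d] = !![1, (a - 1) * c⁻¹; 0, 1] *
      (!![0, -1; 1, 0] * !![1, -c; 0, 1] * (!![0, -1; 1, 0] * !![0, -1; 1, 0] * !![0, -1; 1, 0])) *
      !![1, (d - 1) * c⁻¹; 0, 1] := by
  decide +kernel

theorem Sm_inv : Sm⁻¹ = Sm * Sm * Sm := by
  rw [inv_eq_iff_mul_eq_one]
  apply Subtype.ext
  simp only [Matrix.SpecialLinearGroup.coe_mul]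
  show (!![0, -1; 1, 0] : Matrix (Fin 2) (Fin 2) (ZMod 11)) *
    (!![0, -1; 1, 0] * !![0, -1; 1, 0] * !![0, -1; 1, 0]) = 1
  decide +kernel

theorem mem_closure_of_ne (A : SL) (hc : A.1 1 0 ≠ 0) : A ∈ Subgroup.closure gens := by
  have hS : Sm ∈ Subgroup.closure gens := Subgroup.subset_closure (Or.inl rfl)
  have hT : ∀ x, Tm x ∈ Subgroup.closure gens := fun x => Subgroup.subset_closure (Or.inr ⟨x, rfl⟩)
  have h := dec_gen _ _ _ _ (det_eq A) hc
  have : A = Tm ((A.1 0 0 - 1) * (A.1 1 0)⁻¹) * (Sm * Tm (-(A.1 1 0)) * (Sm * Sm * Sm)) *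
      Tm ((A.1 1 1 - 1) * (A.1 1 0)⁻¹) := by
    apply Subtype.ext
    simp only [Matrix.SpecialLinearGroup.coe_mul]
    rw [Matrix.eta_fin_two A.1]
    exact h
  rw [this]
  exact mul_mem (mul_mem (hT _) (mul_mem (mul_mem hS (hT _)) (mul_mem (mul_mem hS hS) hS))) (hT _)

theorem closure_gens : Subgroup.closure gens = ⊤ := by
  rw [eq_top_iff]
  intro A _
  by_cases hc : A.1 1 0 = 0
  · have hS : Sm ∈ Subgroup.closure gens := Subgroup.subset_closure (Or.inl rfl)
    have h1 : A * Sm ∈ Subgroup.closure gens := by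
      apply mem_closure_of_ne
      rw [mul_Sm]
      simp
      intro hd
      have := det_eq A
      rw [hd, hc] at this
      simp at this
      exact absurd this (by decide)
    have : A = A * Sm * Sm⁻¹ := by rw [mul_inv_cancel_right]
    rw [this]
    exact mul_mem h1 (inv_mem hS)
  · exact mem_closure_of_ne A hc

/-! ### the action -/

/-- the row index of an element -/
def codeA (A : SL) : ℕ := code (A.1 0 0) (A.1 0 1) (A.1 1 0) (A.1 1 1)

/-- the action of an element on the points -/
def act (A : SL) (p : GolayPt) : GolayPt := unidx (ent (codeA A) (idx p))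

theorem idx_unidx (n : ℕ) (h : n < 24) : idx (unidx n) = n := by
  have : ∀ i : Fin 24, idx (unidx i.1) = i.1 := by decide
  exact this ⟨n, h⟩

theorem idx_act (A : SL) (p : GolayPt) : idx (act A p) = ent (codeA A) (idx p) := by
  unfold act
  apply idx_unidx
  exact ent_lt _ _ _ _ (det_eq A) ⟨idx p, idx_lt p⟩

theorem act_one (p : GolayPt) : act 1 p = p := by
  unfold act
  have : codeA 1 = code 1 0 0 1 := by
    unfold codeA
    simp
  rw [this, ent_one ⟨idx p, idx_lt p⟩, unidx_idx]

theorem codeA_Tm (x : ZMod 11) : codeA (Tm x) = code 1 x 0 1 := by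
  unfold codeA Tm
  simp

theorem codeA_Sm : codeA Sm = code 0 (-1) 1 0 := by
  unfold codeA Sm
  simp

theorem act_mul_Tm (A : SL) (x : ZMod 11) (p : GolayPt) : act (A * Tm x) p = act A (act (Tm x) p) := by
  have hd := det_eq A
  have h := step_T _ _ _ _ hd x ⟨idx p, idx_lt p⟩
  show unidx (ent (codeA (A * Tm x)) (idx p)) = unidx (ent (codeA A) (idx (act (Tm x) p)))
  rw [idx_act, codeA_Tm]
  have hc : codeA (A * Tm x) = code (A.1 0 0) (A.1 0 0 * x + A.1 0 1) (A.1 1 0)
      (A.1 1 0 * x + A.1 1 1) := by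
    unfold codeA
    rw [mul_Tm]
    simp
  rw [hc]
  exact congrArg unidx h

theorem act_mul_Sm (A : SL) (p : GolayPt) : act (A * Sm) p = act A (act Sm p) := by
  have hd := det_eq A
  have h := step_S _ _ _ _ hd ⟨idx p, idx_lt p⟩
  show unidx (ent (codeA (A * Sm)) (idx p)) = unidx (ent (codeA A) (idx (act Sm p)))
  rw [idx_act, codeA_Sm]
  have hc : codeA (A * Sm) = code (A.1 0 1) (-A.1 0 0) (A.1 1 1) (-A.1 1 0) := by
    unfold codeA
    rw [mul_Sm]
    simp
  rw [hc]
  exact congrArg unidx h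

theorem act_mul (A B : SL) (p : GolayPt) : act (A * B) p = act A (act B p) := by
  have hB : B ∈ Subgroup.closure gens := by rw [closure_gens]; exact Subgroup.mem_top B
  revert A p
  induction hB using Subgroup.closure_induction with
  | mem B hB =>
    intro A p
    rcases hB with rfl | ⟨x, rfl⟩
    · exact act_mul_Sm A p
    · exact act_mul_Tm A x p
  | one =>
    intro A p
    rw [mul_one, act_one]
  | mul B1 B2 _ _ ih1 ih2 =>
    intro A p
    rw [← mul_assoc, ih2, ih1, ih2 B1]
  | inv B _ ih =>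
    intro A p
    have hl : ∀ q, act B⁻¹ (act B q) = q := by
      intro q
      rw [← ih, inv_mul_cancel, act_one]
    have hinj : Function.Injective (act B) := Function.LeftInverse.injective hl
    have hsurj : Function.Surjective (act B) := Finite.injective_iff_surjective.1 hinj
    obtain ⟨q, rfl⟩ := hsurj p
    rw [hl, ← ih, inv_mul_cancel_right]

instance instMulActionSL : MulAction SL GolayPt where
  smul := act
  one_smul := act_one
  mul_smul := act_mul

/-- the permutation representation -/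
def rho : SL →* Equiv.Perm GolayPt := MulAction.toPermHom SL GolayPt

theorem rho_apply (A : SL) (p : GolayPt) : rho A p = act A p := rfl

theorem mem_center_of_rho (A : SL) (h : rho A = 1) : A ∈ Subgroup.center SL := by
  have hd := det_eq A
  have hfix : ∀ i : Fin 24, ent (codeA A) i.1 = i.1 := by
    intro i
    have := congrArg (fun g : Equiv.Perm GolayPt => idx (g (unidx i.1))) h
    simp only [rho_apply, Equiv.Perm.coe_one, id_eq] at this
    rw [idx_act, idx_unidx _ i.2] at this
    exact this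
  obtain ⟨hb, hc, had, haa⟩ := ent_ker _ _ _ _ hd hfix
  rw [Matrix.SpecialLinearGroup.mem_center_iff]
  refine ⟨A.1 0 0, by simpa [pow_two] using haa, ?_⟩
  ext i j
  fin_cases i <;> fin_cases j <;> simp [hb, hc, ← had]

theorem rho_of_mem_center (A : SL) (h : A ∈ Subgroup.center SL) : rho A = 1 := by
  rw [Matrix.SpecialLinearGroup.mem_center_iff] at h
  obtain ⟨r, hr, hA⟩ := h
  have hr2 : r * r = 1 := by simpa [pow_two] using hr
  ext p
  rw [rho_apply, Equiv.Perm.coe_one, id_eq]
  unfold act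
  have hc : codeA A = code r 0 0 r := by
    unfold codeA
    rw [← hA]
    simp
  rw [hc, ent_cen r hr2 ⟨idx p, idx_lt p⟩, unidx_idx]

end Cfsg.Agent.Lib.Helper8.L211
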