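import Cfsg.Agent.Lib.Helper8.L211C
import Cfsg.Agent.Lib.Helper4.SLCenter
import Cfsg.Agent.Lib.Helper4.SLCard

/-! The stabiliser in `M24` of a dodecad, a point of it and a point outside it is isomorphic to
`PSL(2,11)`. -/

set_option autoImplicit false

namespace Cfsg.Agent.Lib.Helper8.L211

open Cfsg Cfsg.Agent.Lib.Helper9.GolayQR1 Cfsg.Agent.Lib.Helper9.GolayQR3
  Cfsg.Agent.Lib.Helper9.GolayM24b Cfsg.Agent.Lib.Helper9.M24T9 Cfsg.Agent.Lib.Helper9.M24M1
  Cfsg.Agent.Lib.Helper9.M24P1 Cfsg.Agent.Lib.Helper9.Chain1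
open scoped Pointwise

instance fact11 : Fact (Nat.Prime 11) := ⟨by norm_num⟩

theorem rho_Sm_mem : rho Sm ∈ M24 :=
  mem_of_masks (rho Sm) mskS
    (fun t p => by rw [rho_apply, act_eq, codeA_Sm]; exact S_comp t p) S_reprod

theorem rho_Tm_mem (x : ZMod 11) : rho (Tm x) ∈ M24 :=
  mem_of_masks (rho (Tm x)) (mskT x)
    (fun t p => by rw [rho_apply, act_eq, codeA_Tm]; exact T_comp x t p) (T_reprod x)

/-- the stabiliser of a dodecad, a point of it and a point outside it -/
abbrev Hst (d : Finset GolayPt) (p q : GolayPt) : Subgroup (Equiv.Perm GolayPt) :=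
  M11 d p ⊓ MulAction.stabilizer (Equiv.Perm GolayPt) q

theorem mem_Hst (d : Finset GolayPt) (p q : GolayPt) (g : Equiv.Perm GolayPt) :
    g ∈ Hst d p q ↔ g ∈ M24 ∧ g • d = d ∧ g p = p ∧ g q = q := by
  rw [mem_inf_stab, mem_M11, and_assoc, and_assoc]

theorem gen_mem_H0 (A : SL) (hA : A ∈ gens) : rho A ∈ Hst D12 none (some 6) := by
  rw [mem_Hst]
  rcases hA with rfl | ⟨x, rfl⟩
  · refine ⟨rho_Sm_mem, ?_, ?_, ?_⟩
    · rw [stab_iff]
      intro p
      rw [mem_D12, mem_D12, rho_apply, act_eq, codeA_Sm, S_stab p]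
    · rw [rho_apply, act_eq, codeA_Sm]
      exact S_fix.1
    · rw [rho_apply, act_eq, codeA_Sm]
      exact S_fix.2
  · refine ⟨rho_Tm_mem x, ?_, ?_, ?_⟩
    · rw [stab_iff]
      intro p
      rw [mem_D12, mem_D12, rho_apply, act_eq, codeA_Tm, T_stab x p]
    · rw [rho_apply, act_eq, codeA_Tm]
      exact (T_fix x).1
    · rw [rho_apply, act_eq, codeA_Tm]
      exact (T_fix x).2

theorem rho_mem_H0 (A : SL) : rho A ∈ Hst D12 none (some 6) := by
  have h : (⊤ : Subgroup SL) ≤ (Hst D12 none (some 6)).comap rho := by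
    rw [← closure_gens, Subgroup.closure_le]
    intro A hA
    exact gen_mem_H0 A hA
  exact h (Subgroup.mem_top A)

theorem card_Hst (d : Finset GolayPt) (hd : d ∈ dodecads) (p q : GolayPt) (hp : p ∈ d)
    (hq : q ∉ d) : Nat.card ↥(Hst d p q) = 660 := by
  have h := card_step (M11 d p) q dᶜ
    (fun h hh => by
      rw [Finset.mem_compl]
      exact maps_compl d h ((mem_M11 d p h).mp hh).2.1 q hq)
    (fun x hx => trans_compl d hd p hp q x hq (Finset.mem_compl.mp hx))
  have h12 : d.card = 12 := hd.2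
  rw [Cfsg.Agent.Lib.Helper9.M24T11.card_stab_point d hd p hp, Finset.card_compl,
    Cfsg.Agent.Lib.Helper9.GolayQR5.card_golayPt, h12] at h
  show Nat.card ↥(M11 d p ⊓ MulAction.stabilizer (Equiv.Perm GolayPt) q) = 660
  omega

theorem card_PSL : Nat.card (Matrix.ProjectiveSpecialLinearGroup (Fin 2) (ZMod 11)) = 660 := by
  have h1 := Cfsg.Agent.Lib.Helper4.card_PSL_mul (F := ZMod 11) 2 (by norm_num)
  have h2 := Cfsg.Agent.Lib.Helper4.card_SL_mul (F := ZMod 11) 2 (by norm_num)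
  rw [Matrix.card_GL_field, Fin.prod_univ_two, ZMod.card] at h2
  rw [ZMod.card] at h1
  generalize Nat.card (Matrix.SpecialLinearGroup (Fin 2) (ZMod 11)) = a at h1 h2
  generalize Nat.card (Matrix.ProjectiveSpecialLinearGroup (Fin 2) (ZMod 11)) = b at h1 ⊢
  norm_num at h1 h2
  omega

/-- the conjugated representation -/
def rhoT (t : Equiv.Perm GolayPt) : SL →* Equiv.Perm GolayPt :=
  (MulAut.conj t).toMonoidHom.comp rho

theorem rhoT_apply (t : Equiv.Perm GolayPt) (A : SL) : rhoT t A = t * rho A * t⁻¹ := rfl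

theorem rhoT_mem (d : Finset GolayPt) (p q : GolayPt) (t : Equiv.Perm GolayPt) (ht : t ∈ M24)
    (hd : t • D12 = d) (hp : t none = p) (hq : t (some 6) = q) (A : SL) :
    rhoT t A ∈ Hst d p q := by
  obtain ⟨h1, h2, h3, h4⟩ := (mem_Hst D12 none (some 6) (rho A)).mp (rho_mem_H0 A)
  rw [mem_Hst, rhoT_apply]
  refine ⟨M24.mul_mem (M24.mul_mem ht h1) (M24.inv_mem ht), ?_, ?_, ?_⟩
  · rw [mul_smul, mul_smul, ← hd, inv_smul_smul, h2]
  · rw [Equiv.Perm.mul_apply, Equiv.Perm.mul_apply, ← hp, inv_apply_self', h3]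
  · rw [Equiv.Perm.mul_apply, Equiv.Perm.mul_apply, ← hq, inv_apply_self', h4]

theorem main (d : Finset GolayPt) (hd : d ∈ dodecads) (p q : GolayPt) (hp : p ∈ d) (hq : q ∉ d) :
    Nonempty (↥(Hst d p q) ≃* Matrix.ProjectiveSpecialLinearGroup (Fin 2) (ZMod 11)) := by
  have hc : 1 < (dᶜ).card := by
    rw [Finset.card_compl, Cfsg.Agent.Lib.Helper9.GolayQR5.card_golayPt, hd.2]
    norm_num
  obtain ⟨q', hq', hne⟩ := Finset.exists_mem_ne hc q
  obtain ⟨t, ht, htd, htp, htq, -⟩ := Cfsg.Agent.Lib.Helper9.M24M2.exists_std d hd p q q' hp hq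
    (Finset.mem_compl.mp hq') (Ne.symm hne)
  let φ : SL →* ↥(Hst d p q) := (rhoT t).codRestrict (Hst d p q) (rhoT_mem d p q t ht htd htp htq)
  have hker : ∀ A : SL, φ A = 1 ↔ A ∈ Subgroup.center SL := by
    intro A
    constructor
    · intro h
      apply mem_center_of_rho
      have h1 : rhoT t A = 1 := congrArg Subtype.val h
      rw [rhoT_apply] at h1
      have h2 : rho A = t⁻¹ * (t * rho A * t⁻¹) * t := by group
      rw [h2, h1]
      group
    · intro h
      apply Subtype.ext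
      show rhoT t A = 1
      rw [rhoT_apply, rho_of_mem_center A h]
      group
  let ψ : Matrix.ProjectiveSpecialLinearGroup (Fin 2) (ZMod 11) →* ↥(Hst d p q) :=
    QuotientGroup.lift (Subgroup.center SL) φ (fun A hA => (hker A).mpr hA)
  have hinj : Function.Injective ψ := by
    rw [injective_iff_map_eq_one]
    intro x
    induction x using QuotientGroup.induction_on with
    | H A =>
      intro hA
      have : φ A = 1 := hA
      rw [QuotientGroup.eq_one_iff]
      exact (hker A).mp this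
  haveI : Finite (Matrix.ProjectiveSpecialLinearGroup (Fin 2) (ZMod 11)) :=
    Nat.finite_of_card_ne_zero (by rw [card_PSL]; norm_num)
  have hbij : Function.Bijective ψ := by
    rw [Nat.bijective_iff_injective_and_card]
    exact ⟨hinj, by rw [card_PSL, card_Hst d hd p q hp hq]⟩
  exact ⟨(MulEquiv.ofBijective ψ hbij).symm⟩

end Cfsg.Agent.Lib.Helper8.L211
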