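import Mathlib
import Cfsg.Prelude.Def_Transfer
import Cfsg.Agent.Lib.Helper8.L34Defs

/-!
# Farm L34 (S3154): the unit statements (all `sorry`; NEVER import this file from a graded file).

Each unit is to be proved in a NEW file `Cfsg/Agent/Lib/HelperN/L34<unit>.lean` (own namespace), importing
`Cfsg.Agent.Lib.Helper8.L34Defs`, with the statement VERBATIM.
-/

set_option autoImplicit false

namespace Cfsg.Agent.Lib.Helper8.L34.Stubs

open Matrix
open Cfsg.Agent.Lib.Helper9.JRDefs (IsSylowIn)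
open Cfsg.Agent.Lib.Helper8.L34

/-! ## Concrete units, in `SL₃(F)` -/

section concrete
variable {F : Type*} [Field F]

/-! ### UA : the Heisenberg group `U` and its two elementary abelian subgroups -/

theorem UA_A1_le_U : A1 F ≤ U F := sorry
theorem UA_A2_le_U : A2 F ≤ U F := sorry
theorem UA_X12_le_A2 : X12 F ≤ A2 F := sorry
theorem UA_X23_le_A1 : X23 F ≤ A1 F := sorry
theorem UA_A1_ne_A2 : A1 F ≠ A2 F := sorry
theorem UA_sup_eq_U : A1 F ⊔ A2 F = U F := sorry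
theorem UA_center_U : ∀ z ∈ U F, (∀ w ∈ U F, z * w = w * z) → z ∈ A1 F ⊓ A2 F := sorry
theorem UA_center_pow_three : ∀ z ∈ Subgroup.center (SpecialLinearGroup (Fin 3) F), z ^ 3 = 1 := sorry
theorem UA_card_U [Fintype F] (hF : Fintype.card F = 4) : Nat.card (U F) = 64 := sorry
theorem UA_card_A1 [Fintype F] (hF : Fintype.card F = 4) : Nat.card (A1 F) = 16 := sorry
theorem UA_card_A2 [Fintype F] (hF : Fintype.card F = 4) : Nat.card (A2 F) = 16 := sorry
theorem UA_eq_A1_or_A2 [Fintype F] (hF : Fintype.card F = 4) (A : Subgroup (SpecialLinearGroup (Fin 3) F))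
    (hAU : A ≤ U F) (hexp : ∀ a ∈ A, a ^ 2 = 1) (hcard : Nat.card A = 16) : A = A1 F ∨ A = A2 F := sorry

/-! ### UB1, UB2 : the normalizers of `A1`, `A2` -/

theorem UB1_normalizer_A1 [Fintype F] (hF : Fintype.card F = 4) :
    ∀ g ∈ Subgroup.normalizer (A1 F : Set (SpecialLinearGroup (Fin 3) F)),
      ∃ a ∈ A1 F, ∃ l ∈ L1 F, ∃ z ∈ Subgroup.center (SpecialLinearGroup (Fin 3) F), g = a * l * z := sorry

theorem UB2_normalizer_A2 [Fintype F] (hF : Fintype.card F = 4) :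
    ∀ g ∈ Subgroup.normalizer (A2 F : Set (SpecialLinearGroup (Fin 3) F)),
      ∃ a ∈ A2 F, ∃ l ∈ L2 F, ∃ z ∈ Subgroup.center (SpecialLinearGroup (Fin 3) F), g = a * l * z := sorry

/-! ### UC1, UC2 : the Levi complements act on `A1`, `A2` -/

theorem UC1_L1_le_normalizer : L1 F ≤ Subgroup.normalizer (A1 F : Set (SpecialLinearGroup (Fin 3) F)) := sorry
theorem UC1_trans_A1 : ∀ x ∈ A1 F, ∀ y ∈ A1 F, x ≠ 1 → y ≠ 1 → ∃ l ∈ L1 F, l * x * l⁻¹ = y := sorry
theorem UC1_disj_A1 : ∀ l ∈ L1 F, ∀ a ∈ A1 F, ∀ z ∈ Subgroup.center (SpecialLinearGroup (Fin 3) F),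
    l = a * z → l = 1 := sorry

theorem UC2_L2_le_normalizer : L2 F ≤ Subgroup.normalizer (A2 F : Set (SpecialLinearGroup (Fin 3) F)) := sorry
theorem UC2_trans_A2 : ∀ x ∈ A2 F, ∀ y ∈ A2 F, x ≠ 1 → y ≠ 1 → ∃ l ∈ L2 F, l * x * l⁻¹ = y := sorry
theorem UC2_disj_A2 : ∀ l ∈ L2 F, ∀ a ∈ A2 F, ∀ z ∈ Subgroup.center (SpecialLinearGroup (Fin 3) F),
    l = a * z → l = 1 := sorry

/-! ### UD : the Levi complements are `≅ PSL₂(F)` and meet `U` in a Sylow 2-subgroup -/

theorem UD_L1_iso [Fintype F] (hF : Fintype.card F = 4) :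
    Nonempty (↥(L1 F) ≃* Matrix.ProjectiveSpecialLinearGroup (Fin 2) F) := sorry
theorem UD_L2_iso [Fintype F] (hF : Fintype.card F = 4) :
    Nonempty (↥(L2 F) ≃* Matrix.ProjectiveSpecialLinearGroup (Fin 2) F) := sorry
theorem UD_X12_sylow [Fintype F] (hF : Fintype.card F = 4) : IsSylowIn 2 (X12 F) (L1 F) := sorry
theorem UD_X23_sylow [Fintype F] (hF : Fintype.card F = 4) : IsSylowIn 2 (X23 F) (L2 F) := sorry

end concrete

/-! ## Generic units -/

/-! ### UE : from `LeviData` in `S` to `Facts` in `S ⧸ Z(S)` -/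

theorem UE_facts_of_leviData {S : Type*} [Group S] [Finite S] {F : Type*} [Field F]
    (A A' L D : Subgroup S) (hodd : ∀ z ∈ Subgroup.center S, z ^ 3 = 1)
    (hU : IsPGroup 2 ↥(A ⊔ A'))
    (hcen : ∀ z ∈ A ⊔ A', (∀ w ∈ A ⊔ A', z * w = w * z) → z ∈ A ⊓ A')
    (hL : LeviData F (Subgroup.center S) A A' L D) :
    Facts F (A.map (QuotientGroup.mk' (Subgroup.center S)))
      (A'.map (QuotientGroup.mk' (Subgroup.center S))) := sorry

/-! ### UG : a 2-subgroup `V` of `S` maps isomorphically into `S ⧸ Z(S)` when `Z(S)` has exponent 3 -/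

theorem UG_disjoint_center {S : Type*} [Group S] [Finite S] (V : Subgroup S) (hV : IsPGroup 2 ↥V)
    (hodd : ∀ z ∈ Subgroup.center S, z ^ 3 = 1) : V ⊓ Subgroup.center S = ⊥ := sorry

theorem UG_card_map {S : Type*} [Group S] (V : Subgroup S) (hV : V ⊓ Subgroup.center S = ⊥) :
    Nat.card ↥(V.map (QuotientGroup.mk' (Subgroup.center S))) = Nat.card ↥V := sorry

theorem UG_classify_map {S : Type*} [Group S] [Finite S] (V B1 B2 : Subgroup S)
    (hV : V ⊓ Subgroup.center S = ⊥)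
    (hcl : ∀ A : Subgroup S, A ≤ V → (∀ a ∈ A, a ^ 2 = 1) → Nat.card ↥A = 16 → A = B1 ∨ A = B2) :
    ∀ A : Subgroup (S ⧸ Subgroup.center S), A ≤ V.map (QuotientGroup.mk' (Subgroup.center S)) →
      (∀ a ∈ A, a ^ 2 = 1) → Nat.card ↥A = 16 →
      A = B1.map (QuotientGroup.mk' (Subgroup.center S)) ∨
        A = B2.map (QuotientGroup.mk' (Subgroup.center S)) := sorry

/-! ### UF : transport of `Facts` to an arbitrary Sylow 2-subgroup of an isomorphic group -/

theorem UF_facts_of_iso {P Q : Type*} [Group P] [Group Q] [Finite P] {F : Type*} [Field F]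
    (Ub B1 B2 : Subgroup P)
    (hUcard : ∀ T : Sylow 2 P, Nat.card ↥(T : Subgroup P) = Nat.card ↥Ub) (hUp : IsPGroup 2 ↥Ub)
    (hcl : ∀ A : Subgroup P, A ≤ Ub → (∀ a ∈ A, a ^ 2 = 1) → Nat.card ↥A = 16 → A = B1 ∨ A = B2)
    (h12 : Facts F B1 B2) (h21 : Facts F B2 B1)
    (φ : Q ≃* P) (T : Sylow 2 Q) (A B : Subgroup Q) (hAB : A ≠ B) (hAT : A ≤ T) (hBT : B ≤ T)
    (hA2 : ∀ a ∈ A, a ^ 2 = 1) (hB2 : ∀ b ∈ B, b ^ 2 = 1)
    (hAc : Nat.card ↥A = 16) (hBc : Nat.card ↥B = 16) : Facts F A B := sorry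

/-! ## Abstract units, in `X` with `Q = X ⧸ Z(X)` -/

/-! ### UH : `H` is elementary abelian -/

theorem UH_elemAb_of_trans {X : Type*} [Group X] [Finite X]
    (hZ : Cfsg.IsElementaryAbelian 2 (Subgroup.center X)) (H : Subgroup X) (hZH : Subgroup.center X ≤ H)
    (hH2 : ∀ a ∈ H.map (QuotientGroup.mk' (Subgroup.center X)), a ^ 2 = 1)
    (hHc : Nat.card ↥(H.map (QuotientGroup.mk' (Subgroup.center X))) = 16)
    (htrans : ∀ x ∈ H.map (QuotientGroup.mk' (Subgroup.center X)),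
      ∀ y ∈ H.map (QuotientGroup.mk' (Subgroup.center X)), x ≠ 1 → y ≠ 1 →
      ∃ n ∈ Subgroup.normalizer (H.map (QuotientGroup.mk' (Subgroup.center X)) : Set (X ⧸ Subgroup.center X)),
        n * x * n⁻¹ = y) :
    Cfsg.IsElementaryAbelian 2 H := sorry

/-! ### UI : `H ⊓ K = Z(H ⊔ K)` -/

theorem UI_inf_eq_center {X : Type*} [Group X] (H K : Subgroup X)
    (hZH : Subgroup.center X ≤ H) (hZK : Subgroup.center X ≤ K)
    (hH : IsMulCommutative ↥H) (hK : IsMulCommutative ↥K)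
    (hcen : ∀ z ∈ H.map (QuotientGroup.mk' (Subgroup.center X)) ⊔ K.map (QuotientGroup.mk' (Subgroup.center X)),
      (∀ w ∈ H.map (QuotientGroup.mk' (Subgroup.center X)) ⊔ K.map (QuotientGroup.mk' (Subgroup.center X)),
        z * w = w * z) →
      z ∈ H.map (QuotientGroup.mk' (Subgroup.center X)) ⊓ K.map (QuotientGroup.mk' (Subgroup.center X))) :
    H ⊓ K = (Subgroup.center ↥(H ⊔ K)).map (H ⊔ K).subtype := sorry

/-! ### UJ : the complement -/

theorem UJ_exists_complement {X : Type*} [Group X] [Finite X]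
    (hZ : Cfsg.IsElementaryAbelian 2 (Subgroup.center X)) {F : Type*} [Field F]
    (H K : Subgroup X) (hZH : Subgroup.center X ≤ H) (hZK : Subgroup.center X ≤ K)
    (hK : Cfsg.IsElementaryAbelian 2 K)
    (C D : Subgroup (X ⧸ Subgroup.center X))
    (hCN : C ≤ Subgroup.normalizer (H.map (QuotientGroup.mk' (Subgroup.center X)) : Set (X ⧸ Subgroup.center X)))
    (hCH : C ⊓ H.map (QuotientGroup.mk' (Subgroup.center X)) = ⊥)
    (hsup : H.map (QuotientGroup.mk' (Subgroup.center X)) ⊔ C =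
      Subgroup.normalizer (H.map (QuotientGroup.mk' (Subgroup.center X)) : Set (X ⧸ Subgroup.center X)))
    (hiso : Nonempty (↥C ≃* Matrix.ProjectiveSpecialLinearGroup (Fin 2) F))
    (hDK : D ≤ K.map (QuotientGroup.mk' (Subgroup.center X))) (hD : IsSylowIn 2 D C) :
    ∃ C' : Subgroup X, C' ≤ Subgroup.normalizer (H : Set X) ∧ C' ⊓ H = ⊥ ∧
      H ⊔ C' = Subgroup.normalizer (H : Set X) ∧
      Nonempty (↥C' ≃* Matrix.ProjectiveSpecialLinearGroup (Fin 2) F) := sorry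

end Cfsg.Agent.Lib.Helper8.L34.Stubs
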