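import Mathlib
import Cfsg.Prelude.Def_Transfer

/-! Farm L34 unit UH: `H` is elementary abelian (the squaring-map argument). -/

set_option autoImplicit false

namespace Cfsg.Agent.Lib.Helper8.L34UH

theorem exists_mem_notMem {Q : Type*} [Group Q] (A : Subgroup Q) (hA : Nat.card ↥A = 16)
    (s : Finset Q) (hs : s.card < 16) : ∃ q ∈ A, q ∉ s := by
  by_contra hcon
  push Not at hcon
  have h1 : (A : Set Q) ⊆ (s : Set Q) := fun q hq => hcon q hq
  have h2 : (A : Set Q).ncard ≤ (s : Set Q).ncard := Set.ncard_le_ncard h1 (Finset.finite_toSet s)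
  rw [Set.ncard_coe_finset] at h2
  have h3 : (A : Set Q).ncard = 16 := by
    rw [← hA]; exact (Nat.card_coe_set_eq _).symm
  omega

theorem UH_elemAb_of_trans {X : Type*} [Group X] [Finite X]
    (hZ : Cfsg.IsElementaryAbelian 2 (Subgroup.center X)) (H : Subgroup X) (hZH : Subgroup.center X ≤ H)
    (hH2 : ∀ a ∈ H.map (QuotientGroup.mk' (Subgroup.center X)), a ^ 2 = 1)
    (hHc : Nat.card ↥(H.map (QuotientGroup.mk' (Subgroup.center X))) = 16)
    (htrans : ∀ x ∈ H.map (QuotientGroup.mk' (Subgroup.center X)),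
      ∀ y ∈ H.map (QuotientGroup.mk' (Subgroup.center X)), x ≠ 1 → y ≠ 1 →
      ∃ n ∈ Subgroup.normalizer (H.map (QuotientGroup.mk' (Subgroup.center X)) : Set (X ⧸ Subgroup.center X)),
        n * x * n⁻¹ = y) :
    Cfsg.IsElementaryAbelian 2 H := by
  classical
  set Z := Subgroup.center X with hZdef
  set π := QuotientGroup.mk' Z with hπ
  have hker : ∀ x : X, π x = 1 ↔ x ∈ Z := fun x => by
    rw [hπ, QuotientGroup.mk'_apply, QuotientGroup.eq_one_iff]
  have hcomm : ∀ z ∈ Z, ∀ x : X, z * x = x * z := fun z hz x => (Subgroup.mem_center_iff.mp hz x).symm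
  -- squares lie in Z
  have hsqZ : ∀ x ∈ H, x ^ 2 ∈ Z := by
    intro x hx
    rw [← hker, map_pow]
    exact hH2 _ (Subgroup.mem_map_of_mem _ hx)
  -- squares are constant off Z
  have hconst : ∀ x ∈ H, ∀ y ∈ H, x ∉ Z → y ∉ Z → x ^ 2 = y ^ 2 := by
    intro x hx y hy hxZ hyZ
    have hx1 : π x ≠ 1 := fun h => hxZ ((hker x).mp h)
    have hy1 : π y ≠ 1 := fun h => hyZ ((hker y).mp h)
    obtain ⟨nb, -, hn⟩ := htrans _ (Subgroup.mem_map_of_mem _ hx) _ (Subgroup.mem_map_of_mem _ hy) hx1 hy1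
    obtain ⟨n, rfl⟩ := QuotientGroup.mk'_surjective Z nb
    have h1 : π ((n * x * n⁻¹)⁻¹ * y) = 1 := by
      rw [map_mul, map_inv, map_mul, map_mul, map_inv]
      rw [← hn, hπ]
      group
    have h2 : (n * x * n⁻¹)⁻¹ * y ∈ Z := (hker _).mp h1
    set z := (n * x * n⁻¹)⁻¹ * y with hz
    have hy' : y = n * x * n⁻¹ * z := by rw [hz]; group
    have hz2 : z ^ 2 = 1 := hZ.2 z h2
    have hx2 := hsqZ x hx
    rw [hy', pow_two, pow_two]
    have e1 : n * x * n⁻¹ * z * (n * x * n⁻¹ * z) = n * (x * x) * n⁻¹ * (z * z) := by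
      have := hcomm z h2 (n * x * n⁻¹)
      calc n * x * n⁻¹ * z * (n * x * n⁻¹ * z) = n * x * n⁻¹ * (z * (n * x * n⁻¹)) * z := by group
        _ = n * x * n⁻¹ * ((n * x * n⁻¹) * z) * z := by rw [this]
        _ = n * (x * x) * n⁻¹ * (z * z) := by group
    rw [e1, ← pow_two z, hz2, mul_one, ← pow_two]
    have := hcomm _ hx2 n⁻¹
    rw [mul_assoc, this, ← mul_assoc, mul_inv_cancel, one_mul]
  -- choose y, z, x
  obtain ⟨yb, hyb, hyb1⟩ := exists_mem_notMem _ hHc {1} (by simp)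
  obtain ⟨zb, hzb, hzb1⟩ := exists_mem_notMem _ hHc {1, yb} (by
    refine lt_of_le_of_lt (Finset.card_insert_le _ _) ?_; simp)
  obtain ⟨xb, hxb, hxb1⟩ := exists_mem_notMem _ hHc {1, yb, zb, yb * zb} (by
    refine lt_of_le_of_lt (Finset.card_insert_le _ _) ?_
    refine lt_of_le_of_lt (Nat.succ_le_succ (Finset.card_insert_le _ _)) ?_
    refine lt_of_le_of_lt (Nat.succ_le_succ (Nat.succ_le_succ (Finset.card_insert_le _ _))) ?_
    simp)
  simp only [Finset.mem_insert, Finset.mem_singleton, not_or] at hyb1 hzb1 hxb1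
  obtain ⟨y, hy, rfl⟩ := hyb
  obtain ⟨z, hz, rfl⟩ := hzb
  obtain ⟨x, hx, rfl⟩ := hxb
  have hself : ∀ q ∈ H.map π, q⁻¹ = q := by
    intro q hq
    have := hH2 q hq
    rw [pow_two] at this
    exact inv_eq_of_mul_eq_one_left this
  have hyZ : y ∉ Z := fun h => hyb1 ((hker y).mpr h)
  have hzZ : z ∉ Z := fun h => hzb1.1 ((hker z).mpr h)
  have hxZ : x ∉ Z := fun h => hxb1.1 ((hker x).mpr h)
  have hyzZ : y * z ∉ Z := by
    intro h
    have h1 : π y * π z = 1 := by rw [← map_mul]; exact (hker _).mpr h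
    have h2 : π z = (π y)⁻¹ := (inv_eq_of_mul_eq_one_right h1).symm
    rw [hself _ (Subgroup.mem_map_of_mem _ hy)] at h2
    exact hzb1.2 h2
  set c := y ^ 2 with hc
  have hcZ : c ∈ Z := hsqZ y hy
  have hc2 : c * c = 1 := by rw [← pow_two]; exact hZ.2 c hcZ
  -- the commutation relation
  have hrel : ∀ u ∈ H, ∀ v ∈ H, u ∉ Z → v ∉ Z → u * v ∉ Z → v * u = u * v * c := by
    intro u hu v hv huZ hvZ huvZ
    have h1 : u ^ 2 = c := hconst u hu y hy huZ hyZ
    have h2 : v ^ 2 = c := hconst v hv y hy hvZ hyZ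
    have h3 : (u * v) ^ 2 = c := hconst (u * v) (H.mul_mem hu hv) y hy huvZ hyZ
    rw [pow_two] at h1 h2 h3
    -- u v u v = u u  ⇒ v u v = u ⇒ v u = u v⁻¹ = u v c
    have h4 : v * u * v = u := by
      have : u * (v * u * v) = u * u := by rw [h1, ← h3]; group
      exact mul_left_cancel this
    have h5 : v⁻¹ = v * c := by
      have : v * (v * c) = 1 := by rw [← mul_assoc, h2, hc2]
      exact inv_eq_of_mul_eq_one_right this
    calc v * u = (v * u * v) * v⁻¹ := by group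
      _ = u * (v * c) := by rw [h4, h5]
      _ = u * v * c := by group
  have hne1 : π x ≠ π y := hxb1.2.1
  have hne2 : π x ≠ π z := hxb1.2.2.1
  have hne3 : π x ≠ π y * π z := hxb1.2.2.2
  have hyxZ : y * x ∉ Z := by
    intro h
    have h1 : π y * π x = 1 := by rw [← map_mul]; exact (hker _).mpr h
    have h2 : π x = (π y)⁻¹ := (inv_eq_of_mul_eq_one_right h1).symm
    rw [hself _ (Subgroup.mem_map_of_mem _ hy)] at h2
    exact hne1 h2
  have hzxZ : z * x ∉ Z := by
    intro h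
    have h1 : π z * π x = 1 := by rw [← map_mul]; exact (hker _).mpr h
    have h2 : π x = (π z)⁻¹ := (inv_eq_of_mul_eq_one_right h1).symm
    rw [hself _ (Subgroup.mem_map_of_mem _ hz)] at h2
    exact hne2 h2
  have hyzxZ : y * z * x ∉ Z := by
    intro h
    have h1 : π (y * z) * π x = 1 := by rw [← map_mul]; exact (hker _).mpr h
    have h2 : π x = (π (y * z))⁻¹ := (inv_eq_of_mul_eq_one_right h1).symm
    rw [hself _ (Subgroup.mem_map_of_mem _ (H.mul_mem hy hz)), map_mul] at h2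
    exact hne3 h2
  have r1 : x * y = y * x * c := hrel y hy x hx hyZ hxZ hyxZ
  have r2 : x * z = z * x * c := hrel z hz x hx hzZ hxZ hzxZ
  have r3 : x * (y * z) = y * z * x * c := hrel (y * z) (H.mul_mem hy hz) x hx hyzZ hxZ hyzxZ
  have hcc : ∀ w : X, c * w = w * c := hcomm c hcZ
  have hc1 : c = 1 := by
    have e : x * (y * z) = y * z * x := by
      calc x * (y * z) = (x * y) * z := by group
        _ = y * x * c * z := by rw [r1]
        _ = y * (x * z) * c := by rw [mul_assoc (y * x), hcc z]; group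
        _ = y * (z * x * c) * c := by rw [r2]
        _ = y * z * x * (c * c) := by group
        _ = y * z * x := by rw [hc2, mul_one]
    rw [e] at r3
    exact (mul_eq_left.mp r3.symm)
  -- exponent 2
  have hexp : ∀ a ∈ H, a ^ 2 = 1 := by
    intro a ha
    by_cases haZ : a ∈ Z
    · exact hZ.2 a haZ
    · rw [hconst a ha y hy haZ hyZ, ← hc, hc1]
  refine ⟨⟨⟨fun a b => ?_⟩⟩, hexp⟩
  apply Subtype.ext
  have ha := hexp a a.2
  have hb := hexp b b.2
  have hab := hexp (a * b) (H.mul_mem a.2 b.2)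
  rw [pow_two] at ha hb hab
  show (a : X) * b = b * a
  have h1 : (a : X)⁻¹ = a := inv_eq_of_mul_eq_one_left ha
  have h2 : (b : X)⁻¹ = b := inv_eq_of_mul_eq_one_left hb
  have h3 : ((a : X) * b)⁻¹ = a * b := inv_eq_of_mul_eq_one_left hab
  rw [← h3, mul_inv_rev, h1, h2]

end Cfsg.Agent.Lib.Helper8.L34UH
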