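import Mathlib
import Cfsg.Prelude.Def_Transfer

/-! Farm L34 unit UI: `H ⊓ K = Z(H ⊔ K)`. -/

set_option autoImplicit false

namespace Cfsg.Agent.Lib.Helper8.L34UI

theorem UI_inf_eq_center {X : Type*} [Group X] (H K : Subgroup X)
    (hZH : Subgroup.center X ≤ H) (hZK : Subgroup.center X ≤ K)
    (hH : IsMulCommutative ↥H) (hK : IsMulCommutative ↥K)
    (hcen : ∀ z ∈ H.map (QuotientGroup.mk' (Subgroup.center X)) ⊔ K.map (QuotientGroup.mk' (Subgroup.center X)),
      (∀ w ∈ H.map (QuotientGroup.mk' (Subgroup.center X)) ⊔ K.map (QuotientGroup.mk' (Subgroup.center X)),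
        z * w = w * z) →
      z ∈ H.map (QuotientGroup.mk' (Subgroup.center X)) ⊓ K.map (QuotientGroup.mk' (Subgroup.center X))) :
    H ⊓ K = (Subgroup.center ↥(H ⊔ K)).map (H ⊔ K).subtype := by
  set Z := Subgroup.center X with hZdef
  set π := QuotientGroup.mk' Z with hπ
  have hcomapH : (H.map π).comap π = H := by
    rw [Subgroup.comap_map_eq, QuotientGroup.ker_mk']
    exact sup_eq_left.mpr hZH
  have hcomapK : (K.map π).comap π = K := by
    rw [Subgroup.comap_map_eq, QuotientGroup.ker_mk']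
    exact sup_eq_left.mpr hZK
  have hHc : ∀ a ∈ H, ∀ b ∈ H, a * b = b * a := fun a ha b hb =>
    congrArg Subtype.val (hH.is_comm.comm (⟨a, ha⟩ : H) ⟨b, hb⟩)
  have hKc : ∀ a ∈ K, ∀ b ∈ K, a * b = b * a := fun a ha b hb =>
    congrArg Subtype.val (hK.is_comm.comm (⟨a, ha⟩ : K) ⟨b, hb⟩)
  apply le_antisymm
  · intro g hg
    rw [Subgroup.mem_inf] at hg
    have hgHK : g ∈ H ⊔ K := (le_sup_left : H ≤ H ⊔ K) hg.1
    refine ⟨⟨g, hgHK⟩, ?_, rfl⟩
    rw [SetLike.mem_coe, Subgroup.mem_center_iff]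
    rintro ⟨w, hw⟩
    apply Subtype.ext
    show w * g = g * w
    have hle : H ⊔ K ≤ Subgroup.centralizer {g} := by
      apply sup_le
      · intro a ha
        rw [Subgroup.mem_centralizer_singleton_iff]
        exact hHc a ha g hg.1
      · intro a ha
        rw [Subgroup.mem_centralizer_singleton_iff]
        exact hKc a ha g hg.2
    exact Subgroup.mem_centralizer_singleton_iff.mp (hle hw)
  · rintro _ ⟨⟨g, hgHK⟩, hgc, rfl⟩
    rw [SetLike.mem_coe, Subgroup.mem_center_iff] at hgc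
    have hmap : (H ⊔ K).map π = H.map π ⊔ K.map π := Subgroup.map_sup H K π
    have h1 : π g ∈ H.map π ⊔ K.map π := by rw [← hmap]; exact Subgroup.mem_map_of_mem _ hgHK
    have h2 : ∀ w ∈ H.map π ⊔ K.map π, π g * w = w * π g := by
      intro w hw
      rw [← hmap] at hw
      obtain ⟨w', hw', rfl⟩ := hw
      have := congrArg Subtype.val (hgc ⟨w', hw'⟩)
      simp only [Subgroup.coe_mul] at this
      rw [← map_mul, ← map_mul, this]
    have h3 := hcen _ h1 h2
    rw [Subgroup.mem_inf] at h3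
    show g ∈ H ⊓ K
    rw [Subgroup.mem_inf]
    constructor
    · rw [← hcomapH]; exact h3.1
    · rw [← hcomapK]; exact h3.2

end Cfsg.Agent.Lib.Helper8.L34UI
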