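import Mathlib
import Cfsg.Agent.Lib.Helper1.LS0

set_option autoImplicit false

namespace Cfsg.Agent.Lib.Helper1.LS

universe u

open Cfsg SemidirectProduct

variable {Ω : Type u} [Group Ω] {S : Subgroup Ω}

/-- the projection of the realizing group onto `Perm S`. -/
noncomputable def h8_rho (F : FusionSystem S) : ↥(GG F) →* Equiv.Perm ↥S :=
  (rightHom : GS F →* Equiv.Perm ↥S).comp (GG F).subtype

theorem h8_rho_apply (F : FusionSystem S) (g : ↥(GG F)) : h8_rho F g = (g : GS F).right := rfl

/-- on the kernel of the projection, `g ↦ g.left` is a homomorphism. -/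
noncomputable def h8_leftHom (F : FusionSystem S) : ↥(h8_rho F).ker →* FreeGroup (X F) where
  toFun n := ((n : ↥(GG F)) : GS F).left
  map_one' := rfl
  map_mul' a b := by
    have ha : ((a : ↥(GG F)) : GS F).right = 1 := a.2
    show (((a : ↥(GG F)) : GS F) * ((b : ↥(GG F)) : GS F)).left = _
    rw [mul_left, ha, map_one]
    rfl

theorem h8_leftHom_injective (F : FusionSystem S) : Function.Injective (h8_leftHom F) := by
  rw [injective_iff_map_eq_one]
  intro a ha
  have h1 : ((a : ↥(GG F)) : GS F).right = 1 := a.2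
  have h2 : ((a : ↥(GG F)) : GS F).left = 1 := ha
  apply Subtype.ext
  apply Subtype.ext
  exact SemidirectProduct.ext h2 h1

theorem h8_free_normal (F : FusionSystem S) [Finite ↥S] :
    ∃ N : Subgroup ↥(GG F), N.Normal ∧ IsFreeGroup ↥N ∧ N.index ∣ (Nat.card ↥S).factorial := by
  refine ⟨(h8_rho F).ker, inferInstance, ?_, ?_⟩
  · have e : ↥(h8_rho F).ker ≃* ↥(h8_leftHom F).range :=
      MonoidHom.ofInjective (h8_leftHom_injective F)
    exact IsFreeGroup.ofMulEquiv e.symm
  · rw [Subgroup.index_ker]
    have h1 : Nat.card ↥(h8_rho F).range ∣ Nat.card (Equiv.Perm ↥S) :=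
      Subgroup.card_subgroup_dvd_card _
    have h2 : Nat.card (Equiv.Perm ↥S) = (Nat.card ↥S).factorial := by
      classical
      haveI := Fintype.ofFinite ↥S
      rw [Nat.card_eq_fintype_card, Fintype.card_perm, Nat.card_eq_fintype_card]
    rw [h2] at h1
    exact h1

end Cfsg.Agent.Lib.Helper1.LS
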