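import Mathlib
import Cfsg.Prelude.Def_Local
import Cfsg.Agent.Lib.Helper8.LayerSub
import Cfsg.Agent.Lib.Helper8.AxB
import Cfsg.Agent.Lib.Helper8.PerfectP
import Cfsg.Agent.Lib.Helper7.PCore

set_option autoImplicit false
set_option linter.style.haveILetI false

namespace Cfsg.Agent.Lib.Helper8

open Cfsg

variable {G : Type*} [Group G]

/-- Inside a subgroup `N`: a component of `N` centralizes every solvable subgroup of `N` which is
normalized by `N`. Ambient version. -/
theorem component_sub_commutator_solvable {N H : Subgroup G} {K : Subgroup ↥N}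
    (hK : IsComponent K) (hHN : H ≤ N) (hn : N ≤ Subgroup.normalizer (H : Set G))
    (hsolv : Group.IsSolvable ↥H) : ⁅K.map N.subtype, H⁆ = ⊥ := by
  haveI : (H.subgroupOf N).Normal := Subgroup.normal_subgroupOf_of_le_normalizer hn
  have hs : Group.IsSolvable ↥(H.subgroupOf N) :=
    Group.isSolvable_of_isSolvable_injective
      (f := (Subgroup.subgroupOfEquivOfLe hHN).toMonoidHom) (Subgroup.subgroupOfEquivOfLe hHN).injective
  have h1 : ⁅K, H.subgroupOf N⁆ = ⊥ := by
    apply component_commutator_solvable hK hs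
    rw [Subgroup.normalizer_eq_top]; exact le_top
  have h2 := congrArg (Subgroup.map N.subtype) h1
  rwa [Subgroup.map_commutator, Subgroup.map_subgroupOf_eq_of_le hHN, Subgroup.map_bot] at h2

/-- A component of a subgroup `N` containing `P C_G(P)`, for a subgroup `P` of `O_p(G)`,
centralizes `O_p(G)`. -/
theorem component_normalizer_le_centralizer_pCore [Finite G] (p : ℕ) [hp : Fact p.Prime]
    (P : Subgroup G) (hP : P ≤ pCore p G) (N : Subgroup G) (hPN : P ≤ N)
    (hCPN : Subgroup.centralizer (P : Set G) ≤ N) (K : Subgroup ↥N)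
    (hK : IsComponent K) :
    K.map N.subtype ≤ Subgroup.centralizer (pCore p G : Set G) := by
  set Q := pCore p G with hQ
  set L := K.map N.subtype with hL
  have hQn : Q.Normal := Cfsg.Agent.Lib.Helper7.pCore_normal p G
  have hQp : IsPGroup p ↥Q := Cfsg.Agent.Lib.Helper7.pCore_isPGroup p G
  have hLN : L ≤ N := Subgroup.map_subtype_le _
  -- `L` centralizes `Q ⊓ N`
  have hQNp : IsPGroup p ↥(Q ⊓ N : Subgroup G) := hQp.to_le inf_le_left
  have hQNsolv : Group.IsSolvable ↥(Q ⊓ N : Subgroup G) := by
    haveI := hQNp.isNilpotent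
    infer_instance
  have h1 : ⁅L, Q ⊓ N⁆ = ⊥ := by
    apply component_sub_commutator_solvable hK inf_le_right _ hQNsolv
    intro n hn
    rw [Subgroup.mem_normalizer_iff]
    intro h
    constructor
    · rintro ⟨h1, h2⟩
      exact ⟨hQn.conj_mem h h1 n, N.mul_mem (N.mul_mem hn h2) (N.inv_mem hn)⟩
    · rintro ⟨h1, h2⟩
      refine ⟨?_, ?_⟩
      · have := hQn.conj_mem _ h1 n⁻¹
        simpa [mul_assoc] using this
      · have := N.mul_mem (N.mul_mem (N.inv_mem hn) h2) hn
        simpa [mul_assoc] using this
  have hPQN : P ≤ Q ⊓ N := le_inf hP hPN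
  have h2 : ⁅L, P⁆ = ⊥ := by
    rw [eq_bot_iff, ← h1]; exact Subgroup.commutator_mono le_rfl hPQN
  have hperf : ⁅L, L⁆ = L := by
    have := Cfsg.Agent.Lib.Helper2.isComponent_perfect hK
    have h3 := congrArg (Subgroup.map N.subtype) this
    rwa [Subgroup.map_commutator] at h3
  haveI hCn : (Subgroup.centralizer (Q : Set G)).Normal := Subgroup.normal_centralizer
  apply perfect_le_of_sylow_le hperf p
  · rw [Subgroup.normalizer_eq_top]; exact le_top
  · intro r _ hr S
    set A := (S : Subgroup ↥L).map L.subtype with hA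
    have hAL : A ≤ L := Subgroup.map_subtype_le _
    have hAr : IsPGroup r ↥A := S.2.map L.subtype
    have hAcop : (Nat.card ↥A).Coprime p := by
      obtain ⟨k, hk⟩ := hAr.exists_card_eq
      rw [hk]
      exact Nat.Coprime.pow_left k ((Nat.coprime_primes Fact.out Fact.out).2 hr)
    have h3 : ⁅Q, A⁆ = ⊥ := by
      apply thompson_AxB p A P (hQp.to_le hP) hAcop _ _ Q rfl hQp
      · rw [Subgroup.normalizer_eq_top]; exact le_top
      · rw [Subgroup.normalizer_eq_top]; exact le_top
      · have h4 : Q ⊓ Subgroup.centralizer (P : Set G) ≤ Q ⊓ N :=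
          inf_le_inf_left _ hCPN
        refine h4.trans ?_
        have h5 : ⁅Q ⊓ N, A⁆ = ⊥ := by
          rw [eq_bot_iff, ← h1, Subgroup.commutator_comm L]
          exact Subgroup.commutator_mono le_rfl hAL
        rwa [Subgroup.commutator_eq_bot_iff_le_centralizer] at h5
      · rw [eq_bot_iff, ← h2]; exact Subgroup.commutator_mono hAL le_rfl
    rw [Subgroup.commutator_comm, Subgroup.commutator_eq_bot_iff_le_centralizer] at h3
    exact h3

/-- A component of a subgroup `N` containing `P C_G(P)`, for a subgroup `P` of `O_p(G)`, is a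
component of `G`. -/
theorem isComponent_of_normalizer_pSubgroup [Finite G] (p : ℕ) [hp : Fact p.Prime]
    (P : Subgroup G) (hP : P ≤ pCore p G) (N : Subgroup G) (hPN : P ≤ N)
    (hCPN : Subgroup.centralizer (P : Set G) ≤ N) (K : Subgroup ↥N)
    (hK : IsComponent K) : IsComponent (K.map N.subtype) := by
  set C := Subgroup.centralizer (pCore p G : Set G) with hC
  have hQn : (pCore p G).Normal := Cfsg.Agent.Lib.Helper7.pCore_normal p G
  have hCn : C.Normal := Subgroup.normal_centralizer
  have hLC : K.map N.subtype ≤ C :=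
    component_normalizer_le_centralizer_pCore p P hP N hPN hCPN K hK
  have hCN : C ≤ N := (Subgroup.centralizer_le hP).trans hCPN
  refine ⟨?_, ?_⟩
  · have h1 : (K.comap (Subgroup.inclusion hCN)).IsSubnormal := hK.1.comap _
    have h2 : (K.map N.subtype).subgroupOf C = K.comap (Subgroup.inclusion hCN) := by
      ext x
      rw [Subgroup.mem_subgroupOf, Subgroup.mem_comap]
      constructor
      · rintro ⟨y, hy, hyx⟩
        have : y = Subgroup.inclusion hCN x := Subtype.ext hyx
        rwa [← this]
      · intro hx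
        exact ⟨_, hx, rfl⟩
    rw [← h2] at h1
    exact Subgroup.IsSubnormal.trans hLC h1 hCn.isSubnormal
  · exact Cfsg.Agent.Lib.Helper2.isQuasisimple_of_mulEquiv
      (K.equivMapOfInjective N.subtype N.subtype_injective).symm hK.2

end Cfsg.Agent.Lib.Helper8
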