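import Mathlib

set_option autoImplicit false

/-! An explicit Steiner system S(5,6,12) on `Fin 12` (hexads as bit masks), invariant under
explicit generators of the Mathieu group of degree 12: the computational facts. -/

namespace Cfsg.Agent.Lib.Helper8.M12

/-- the 132 hexads, as bit masks. -/
def hexMasks : List ℕ := [
  63, 591, 2191, 1295, 2135, 1175, 791, 1127, 679, 2343, 455, 3591,
  219, 2331, 1563, 363, 1195, 2603, 3147, 907, 627, 435, 3123, 1363,
  2707, 2275, 1827, 1731, 2883, 3459, 1117, 413, 2589, 237, 813, 3117,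
  2381, 1677, 373, 2229, 1589, 725, 3349, 2661, 1445, 3269, 1861, 2949,
  2169, 697, 1337, 857, 3225, 1641, 2473, 1481, 2761, 3849, 1265, 2865,
  2513, 3665, 1937, 993, 3425, 3745, 350, 670, 3102, 2158, 430, 1582,
  1230, 2830, 246, 1334, 2614, 1622, 2454, 870, 3238, 2758, 3398, 1926,
  1146, 2234, 826, 2650, 1434, 746, 3370, 2506, 1866, 3722, 2418, 1714,
  978, 3282, 3858, 1506, 3682, 2978, 636, 1212, 2364, 2268, 1820, 1388,
  2732, 972, 3660, 3468, 3188, 948, 1492, 2900, 3732, 2532, 1764, 3876,
  504, 3640, 1752, 3416, 2968, 3304, 2920, 1960, 2800, 1904, 3504, 4032]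

/-- number of points (among `0, …, 11`) of a mask. -/
def popc (m : ℕ) : ℕ :=
  (m.testBit 0).toNat + (m.testBit 1).toNat + (m.testBit 2).toNat + (m.testBit 3).toNat +
  (m.testBit 4).toNat + (m.testBit 5).toNat + (m.testBit 6).toNat + (m.testBit 7).toNat +
  (m.testBit 8).toNat + (m.testBit 9).toNat + (m.testBit 10).toNat + (m.testBit 11).toNat

theorem hex_popc : hexMasks.all (fun b => popc b == 6) = true := by decide +kernel

theorem hex_unique : (List.range 4096).all (fun m => popc m != 5 ||
    (hexMasks.filter (fun b => m &&& b == m)).length == 1) = true := by decide +kernel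

/-- `m'` contains the image of `m` under the map given by the list `gl`. -/
def imgSub (gl : List ℕ) (m m' : ℕ) : Bool :=
  (List.range 12).all (fun a => !m.testBit a || m'.testBit (gl.getD a 0))

/-- the hexads are mapped to hexads by the map given by the list `gl`. -/
def inv (gl : List ℕ) : Bool :=
  hexMasks.all (fun m => hexMasks.any (fun m' => imgSub gl m m'))

def gS : List ℕ := [0, 1, 2, 4, 5, 3, 7, 8, 6, 10, 11, 9]
def gT : List ℕ := [0, 1, 2, 6, 7, 8, 9, 10, 11, 3, 4, 5]
def gU : List ℕ := [0, 1, 2, 3, 6, 9, 5, 8, 11, 4, 7, 10]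
def gV : List ℕ := [0, 1, 2, 3, 7, 11, 10, 5, 6, 8, 9, 4]
def gW : List ℕ := [0, 1, 2, 3, 10, 8, 11, 6, 4, 7, 5, 9]
def gX1 : List ℕ := [3, 1, 2, 0, 4, 5, 7, 6, 10, 11, 8, 9]
def gX2 : List ℕ := [1, 0, 2, 3, 4, 5, 9, 10, 11, 6, 7, 8]
def gX3 : List ℕ := [0, 2, 1, 3, 4, 5, 11, 9, 10, 7, 8, 6]

theorem inv_S : inv gS = true := by decide +kernel
theorem inv_T : inv gT = true := by decide +kernel
theorem inv_U : inv gU = true := by decide +kernel
theorem inv_V : inv gV = true := by decide +kernel
theorem inv_W : inv gW = true := by decide +kernel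
theorem inv_X1 : inv gX1 = true := by decide +kernel
theorem inv_X2 : inv gX2 = true := by decide +kernel
theorem inv_X3 : inv gX3 = true := by decide +kernel

end Cfsg.Agent.Lib.Helper8.M12
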