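import Cfsg.Agent.Lib.Helper8.M12a
import Cfsg.Agent.Lib.Helper8.W7

set_option autoImplicit false
set_option linter.unusedSectionVars false
set_option linter.unusedVariables false

/-! The explicit S(5,6,12) on `Fin 12` and its invariance under the explicit generators. -/

namespace Cfsg.Agent.Lib.Helper8.M12

open Finset

/-- the subset of `Fin 12` coded by a bit mask. -/
def toFin (m : ℕ) : Finset (Fin 12) := univ.filter (fun i => m.testBit i.val = true)

theorem mem_toFin {m : ℕ} {i : Fin 12} : i ∈ toFin m ↔ m.testBit i.val = true := by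
  unfold toFin
  rw [mem_filter]
  exact ⟨fun h => h.2, fun h => ⟨mem_univ _, h⟩⟩

theorem ite_toNat (b : Bool) : (if b = true then 1 else 0) = b.toNat := by
  cases b <;> rfl

theorem card_toFin (m : ℕ) : (toFin m).card = popc m := by
  unfold toFin popc
  rw [Finset.card_filter,
    Fin.sum_univ_eq_sum_range (fun i => if m.testBit i = true then 1 else 0) 12]
  simp only [Finset.sum_range_succ, Finset.sum_range_zero, ite_toNat, zero_add]

theorem exists_mask (s : Finset (Fin 12)) : ∃ m, m < 4096 ∧ toFin m = s := by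
  refine ⟨Nat.ofBits (fun i : Fin 12 => decide (i ∈ s)), ?_, ?_⟩
  · have := Nat.ofBits_lt_two_pow (fun i : Fin 12 => decide (i ∈ s))
    norm_num at this
    exact this
  · ext i
    rw [mem_toFin, Nat.testBit_ofBits_lt _ _ i.2]
    simp

theorem subset_of_land {m b : ℕ} (h : m &&& b = m) : toFin m ⊆ toFin b := by
  intro i hi
  rw [mem_toFin] at hi ⊢
  rw [← h, Nat.testBit_land, Bool.and_eq_true] at hi
  exact hi.2

theorem land_of_subset {m b : ℕ} (hm : m < 4096) (h : toFin m ⊆ toFin b) : m &&& b = m := by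
  apply Nat.eq_of_testBit_eq
  intro j
  rw [Nat.testBit_land]
  by_cases hj : j < 12
  · cases hmj : m.testBit j
    · rfl
    · have : (⟨j, hj⟩ : Fin 12) ∈ toFin m := mem_toFin.mpr hmj
      have := mem_toFin.mp (h this)
      rw [Bool.true_and]
      exact this
  · have : m.testBit j = false := by
      apply Nat.testBit_lt_two_pow
      calc m < 4096 := hm
        _ = 2 ^ 12 := by norm_num
        _ ≤ 2 ^ j := Nat.pow_le_pow_right (by norm_num) (by omega)
    rw [this, Bool.false_and]

/-- the explicit hexad system. -/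
def B : Set (Finset (Fin 12)) := {b | ∃ m ∈ hexMasks, toFin m = b}

theorem steiner_B : Cfsg.IsSteinerSystem 5 6 B := by
  constructor
  · rintro b ⟨m, hm, rfl⟩
    rw [card_toFin]
    have := List.all_eq_true.mp hex_popc m hm
    exact beq_iff_eq.mp this
  · intro s hs
    obtain ⟨m, hm, rfl⟩ := exists_mask s
    rw [card_toFin] at hs
    have h1 := List.all_eq_true.mp hex_unique m (List.mem_range.mpr hm)
    rw [Bool.or_eq_true] at h1
    rcases h1 with h1 | h1
    · rw [bne_iff_ne] at h1
      exact absurd hs h1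
    · rw [beq_iff_eq, List.length_eq_one_iff] at h1
      obtain ⟨b0, hb0⟩ := h1
      have hb0m : b0 ∈ hexMasks.filter (fun b => m &&& b == m) := by
        rw [hb0]
        exact List.mem_singleton.mpr rfl
      rw [List.mem_filter, beq_iff_eq] at hb0m
      refine ⟨toFin b0, ⟨⟨b0, hb0m.1, rfl⟩, subset_of_land hb0m.2⟩, ?_⟩
      rintro c ⟨⟨mc, hmc, rfl⟩, hsc⟩
      have h2 : mc ∈ hexMasks.filter (fun b => m &&& b == m) := by
        rw [List.mem_filter, beq_iff_eq]
        exact ⟨hmc, land_of_subset hm hsc⟩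
      rw [hb0, List.mem_singleton] at h2
      rw [h2]

/-- invariance of the hexad system under a permutation given by a list. -/
theorem image_mem_B (g : Equiv.Perm (Fin 12)) (gl : List ℕ)
    (hgl : ∀ i : Fin 12, (g i).val = gl.getD i.val 0) (hinv : inv gl = true) :
    ∀ b ∈ B, b.image g ∈ B := by
  rintro b ⟨m, hm, rfl⟩
  unfold inv at hinv
  have h1 := List.all_eq_true.mp hinv m hm
  obtain ⟨m', hm', h2⟩ := List.any_eq_true.mp h1
  unfold imgSub at h2
  have h3 := List.all_eq_true.mp h2
  refine ⟨m', hm', ?_⟩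
  symm
  apply eq_of_subset_of_card_le
  · intro j hj
    obtain ⟨i, hi, rfl⟩ := mem_image.mp hj
    have h4 := h3 i.val (List.mem_range.mpr i.2)
    rw [Bool.or_eq_true] at h4
    rw [mem_toFin] at hi ⊢
    rcases h4 with h4 | h4
    · rw [hi] at h4
      exact absurd h4 (by decide)
    · rw [hgl i]
      exact h4
  · rw [card_image_of_injective _ g.injective, card_toFin, card_toFin,
      beq_iff_eq.mp (List.all_eq_true.mp hex_popc m hm),
      beq_iff_eq.mp (List.all_eq_true.mp hex_popc m' hm')]

theorem mem_aut_of_image (g : Equiv.Perm (Fin 12)) (h : ∀ b ∈ B, b.image g ∈ B) :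
    g ∈ Cfsg.setSystemAut B := by
  rw [Cfsg.Agent.Lib.Helper8.W.mem_aut_iff]
  have hsub : (fun b : Finset (Fin 12) => b.image g) '' B ⊆ B := by
    rintro _ ⟨b, hb, rfl⟩
    exact h b hb
  apply Set.eq_of_subset_of_ncard_le hsub _ (Set.toFinite B)
  rw [Set.ncard_image_of_injective]
  exact Finset.image_injective g.injective

theorem mem_aut (g : Equiv.Perm (Fin 12)) (gl : List ℕ)
    (hgl : ∀ i : Fin 12, (g i).val = gl.getD i.val 0) (hinv : inv gl = true) :
    g ∈ Cfsg.setSystemAut B :=
  mem_aut_of_image g (image_mem_B g gl hgl hinv)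

end Cfsg.Agent.Lib.Helper8.M12
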