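import Cfsg.Agent.Lib.Helper8.M12b

set_option autoImplicit false
set_option linter.unusedSectionVars false
set_option linter.unusedVariables false

/-! Explicit generators of the Mathieu groups of degrees 11 and 12 on `Fin 12`. -/

namespace Cfsg.Agent.Lib.Helper8.M12

open Finset

def pS : Equiv.Perm (Fin 12) := Equiv.swap (3 : Fin 12) 5 * Equiv.swap (3 : Fin 12) 4 * Equiv.swap (6 : Fin 12) 8 * Equiv.swap (6 : Fin 12) 7 * Equiv.swap (9 : Fin 12) 11 * Equiv.swap (9 : Fin 12) 10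
def pT : Equiv.Perm (Fin 12) := Equiv.swap (3 : Fin 12) 9 * Equiv.swap (3 : Fin 12) 6 * Equiv.swap (4 : Fin 12) 10 * Equiv.swap (4 : Fin 12) 7 * Equiv.swap (5 : Fin 12) 11 * Equiv.swap (5 : Fin 12) 8
def pU : Equiv.Perm (Fin 12) := Equiv.swap (4 : Fin 12) 9 * Equiv.swap (4 : Fin 12) 5 * Equiv.swap (4 : Fin 12) 6 * Equiv.swap (7 : Fin 12) 10 * Equiv.swap (7 : Fin 12) 11 * Equiv.swap (7 : Fin 12) 8
def pV : Equiv.Perm (Fin 12) := Equiv.swap (4 : Fin 12) 11 * Equiv.swap (4 : Fin 12) 5 * Equiv.swap (4 : Fin 12) 7 * Equiv.swap (6 : Fin 12) 8 * Equiv.swap (6 : Fin 12) 9 * Equiv.swap (6 : Fin 12) 10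
def pW : Equiv.Perm (Fin 12) := Equiv.swap (4 : Fin 12) 8 * Equiv.swap (4 : Fin 12) 5 * Equiv.swap (4 : Fin 12) 10 * Equiv.swap (6 : Fin 12) 7 * Equiv.swap (6 : Fin 12) 9 * Equiv.swap (6 : Fin 12) 11
def pX1 : Equiv.Perm (Fin 12) := Equiv.swap (0 : Fin 12) 3 * Equiv.swap (6 : Fin 12) 7 * Equiv.swap (8 : Fin 12) 10 * Equiv.swap (9 : Fin 12) 11
def pX2 : Equiv.Perm (Fin 12) := Equiv.swap (0 : Fin 12) 1 * Equiv.swap (6 : Fin 12) 9 * Equiv.swap (7 : Fin 12) 10 * Equiv.swap (8 : Fin 12) 11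
def pX3 : Equiv.Perm (Fin 12) := Equiv.swap (1 : Fin 12) 2 * Equiv.swap (6 : Fin 12) 11 * Equiv.swap (7 : Fin 12) 9 * Equiv.swap (8 : Fin 12) 10

theorem pS_val : ∀ i : Fin 12, (pS i).val = gS.getD i.val 0 := by decide
theorem pT_val : ∀ i : Fin 12, (pT i).val = gT.getD i.val 0 := by decide
theorem pU_val : ∀ i : Fin 12, (pU i).val = gU.getD i.val 0 := by decide
theorem pV_val : ∀ i : Fin 12, (pV i).val = gV.getD i.val 0 := by decide
theorem pW_val : ∀ i : Fin 12, (pW i).val = gW.getD i.val 0 := by decide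
theorem pX1_val : ∀ i : Fin 12, (pX1 i).val = gX1.getD i.val 0 := by decide
theorem pX2_val : ∀ i : Fin 12, (pX2 i).val = gX2.getD i.val 0 := by decide
theorem pX3_val : ∀ i : Fin 12, (pX3 i).val = gX3.getD i.val 0 := by decide

def K0 : Subgroup (Equiv.Perm (Fin 12)) := Subgroup.closure {pS, pT, pU, pV, pW, pX1, pX2, pX3}
def K1 : Subgroup (Equiv.Perm (Fin 12)) := Subgroup.closure {pS, pT, pU, pV, pW, pX1, pX2}
def K2 : Subgroup (Equiv.Perm (Fin 12)) := Subgroup.closure {pS, pT, pU, pV, pW, pX1}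
def K3 : Subgroup (Equiv.Perm (Fin 12)) := Subgroup.closure {pS, pT, pU, pV, pW}
def K4 : Subgroup (Equiv.Perm (Fin 12)) := Subgroup.closure {pU, pV, pW}

theorem mem_K0_pS : pS ∈ K0 := Subgroup.subset_closure (by simp)
theorem mem_K0_pT : pT ∈ K0 := Subgroup.subset_closure (by simp)
theorem mem_K0_pU : pU ∈ K0 := Subgroup.subset_closure (by simp)
theorem mem_K0_pV : pV ∈ K0 := Subgroup.subset_closure (by simp)
theorem mem_K0_pW : pW ∈ K0 := Subgroup.subset_closure (by simp)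
theorem mem_K0_pX1 : pX1 ∈ K0 := Subgroup.subset_closure (by simp)
theorem mem_K0_pX2 : pX2 ∈ K0 := Subgroup.subset_closure (by simp)
theorem mem_K0_pX3 : pX3 ∈ K0 := Subgroup.subset_closure (by simp)
theorem mem_K1_pS : pS ∈ K1 := Subgroup.subset_closure (by simp)
theorem mem_K1_pT : pT ∈ K1 := Subgroup.subset_closure (by simp)
theorem mem_K1_pU : pU ∈ K1 := Subgroup.subset_closure (by simp)
theorem mem_K1_pV : pV ∈ K1 := Subgroup.subset_closure (by simp)
theorem mem_K1_pW : pW ∈ K1 := Subgroup.subset_closure (by simp)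
theorem mem_K1_pX1 : pX1 ∈ K1 := Subgroup.subset_closure (by simp)
theorem mem_K1_pX2 : pX2 ∈ K1 := Subgroup.subset_closure (by simp)
theorem mem_K2_pS : pS ∈ K2 := Subgroup.subset_closure (by simp)
theorem mem_K2_pT : pT ∈ K2 := Subgroup.subset_closure (by simp)
theorem mem_K2_pU : pU ∈ K2 := Subgroup.subset_closure (by simp)
theorem mem_K2_pV : pV ∈ K2 := Subgroup.subset_closure (by simp)
theorem mem_K2_pW : pW ∈ K2 := Subgroup.subset_closure (by simp)
theorem mem_K2_pX1 : pX1 ∈ K2 := Subgroup.subset_closure (by simp)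
theorem mem_K3_pS : pS ∈ K3 := Subgroup.subset_closure (by simp)
theorem mem_K3_pT : pT ∈ K3 := Subgroup.subset_closure (by simp)
theorem mem_K3_pU : pU ∈ K3 := Subgroup.subset_closure (by simp)
theorem mem_K3_pV : pV ∈ K3 := Subgroup.subset_closure (by simp)
theorem mem_K3_pW : pW ∈ K3 := Subgroup.subset_closure (by simp)
theorem mem_K4_pU : pU ∈ K4 := Subgroup.subset_closure (by simp)
theorem mem_K4_pV : pV ∈ K4 := Subgroup.subset_closure (by simp)
theorem mem_K4_pW : pW ∈ K4 := Subgroup.subset_closure (by simp)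

/-- `q` is in the orbit of `p` under `K`. -/
def Reach (K : Subgroup (Equiv.Perm (Fin 12))) (p q : Fin 12) : Prop := ∃ g ∈ K, g p = q

theorem Reach.refl (K : Subgroup (Equiv.Perm (Fin 12))) (p : Fin 12) : Reach K p p :=
  ⟨1, K.one_mem, rfl⟩

theorem Reach.step {K : Subgroup (Equiv.Perm (Fin 12))} {p q : Fin 12} (h : Reach K p q)
    {g : Equiv.Perm (Fin 12)} (hg : g ∈ K) {q' : Fin 12} (hq : g q = q') : Reach K p q' := by
  obtain ⟨g0, hg0, rfl⟩ := h
  exact ⟨g * g0, K.mul_mem hg hg0, by rw [Equiv.Perm.mul_apply, hq]⟩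

def T0 : Finset (Fin 12) := {0, 1, 2, 3, 4, 5, 6, 7, 8, 9, 10, 11}
theorem reach0 : ∀ q : Fin 12, q ∈ T0 → Reach K0 2 q := by
  have h2 : Reach K0 2 2 := Reach.refl _ _
  have h1 : Reach K0 2 1 := h2.step (mem_K0_pX3) (by decide)
  have h0 : Reach K0 2 0 := h1.step (mem_K0_pX2) (by decide)
  have h3 : Reach K0 2 3 := h0.step (mem_K0_pX1) (by decide)
  have h4 : Reach K0 2 4 := h3.step (mem_K0_pS) (by decide)
  have h6 : Reach K0 2 6 := h3.step (mem_K0_pT) (by decide)
  have h5 : Reach K0 2 5 := h4.step (mem_K0_pS) (by decide)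
  have h7 : Reach K0 2 7 := h4.step (mem_K0_pT) (by decide)
  have h10 : Reach K0 2 10 := h4.step (mem_K0_pW) (by decide)
  have h9 : Reach K0 2 9 := h6.step (mem_K0_pT) (by decide)
  have h11 : Reach K0 2 11 := h6.step (mem_K0_pW) (by decide)
  have h8 : Reach K0 2 8 := h5.step (mem_K0_pT) (by decide)
  intro q hq
  fin_cases q <;> first | assumption | exact absurd hq (by decide)

def T1 : Finset (Fin 12) := {0, 1, 3, 4, 5, 6, 7, 8, 9, 10, 11}
theorem reach1 : ∀ q : Fin 12, q ∈ T1 → Reach K1 1 q := by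
  have h1 : Reach K1 1 1 := Reach.refl _ _
  have h0 : Reach K1 1 0 := h1.step (mem_K1_pX2) (by decide)
  have h3 : Reach K1 1 3 := h0.step (mem_K1_pX1) (by decide)
  have h4 : Reach K1 1 4 := h3.step (mem_K1_pS) (by decide)
  have h6 : Reach K1 1 6 := h3.step (mem_K1_pT) (by decide)
  have h5 : Reach K1 1 5 := h4.step (mem_K1_pS) (by decide)
  have h7 : Reach K1 1 7 := h4.step (mem_K1_pT) (by decide)
  have h10 : Reach K1 1 10 := h4.step (mem_K1_pW) (by decide)
  have h9 : Reach K1 1 9 := h6.step (mem_K1_pT) (by decide)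
  have h11 : Reach K1 1 11 := h6.step (mem_K1_pW) (by decide)
  have h8 : Reach K1 1 8 := h5.step (mem_K1_pT) (by decide)
  intro q hq
  fin_cases q <;> first | assumption | exact absurd hq (by decide)

def T2 : Finset (Fin 12) := {0, 3, 4, 5, 6, 7, 8, 9, 10, 11}
theorem reach2 : ∀ q : Fin 12, q ∈ T2 → Reach K2 0 q := by
  have h0 : Reach K2 0 0 := Reach.refl _ _
  have h3 : Reach K2 0 3 := h0.step (mem_K2_pX1) (by decide)
  have h4 : Reach K2 0 4 := h3.step (mem_K2_pS) (by decide)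
  have h6 : Reach K2 0 6 := h3.step (mem_K2_pT) (by decide)
  have h5 : Reach K2 0 5 := h4.step (mem_K2_pS) (by decide)
  have h7 : Reach K2 0 7 := h4.step (mem_K2_pT) (by decide)
  have h10 : Reach K2 0 10 := h4.step (mem_K2_pW) (by decide)
  have h9 : Reach K2 0 9 := h6.step (mem_K2_pT) (by decide)
  have h11 : Reach K2 0 11 := h6.step (mem_K2_pW) (by decide)
  have h8 : Reach K2 0 8 := h5.step (mem_K2_pT) (by decide)
  intro q hq
  fin_cases q <;> first | assumption | exact absurd hq (by decide)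

def T3 : Finset (Fin 12) := {3, 4, 5, 6, 7, 8, 9, 10, 11}
theorem reach3 : ∀ q : Fin 12, q ∈ T3 → Reach K3 3 q := by
  have h3 : Reach K3 3 3 := Reach.refl _ _
  have h4 : Reach K3 3 4 := h3.step (mem_K3_pS) (by decide)
  have h6 : Reach K3 3 6 := h3.step (mem_K3_pT) (by decide)
  have h5 : Reach K3 3 5 := h4.step (mem_K3_pS) (by decide)
  have h7 : Reach K3 3 7 := h4.step (mem_K3_pT) (by decide)
  have h10 : Reach K3 3 10 := h4.step (mem_K3_pW) (by decide)
  have h9 : Reach K3 3 9 := h6.step (mem_K3_pT) (by decide)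
  have h11 : Reach K3 3 11 := h6.step (mem_K3_pW) (by decide)
  have h8 : Reach K3 3 8 := h5.step (mem_K3_pT) (by decide)
  intro q hq
  fin_cases q <;> first | assumption | exact absurd hq (by decide)

def T4 : Finset (Fin 12) := {4, 5, 6, 7, 8, 9, 10, 11}
theorem reach4 : ∀ q : Fin 12, q ∈ T4 → Reach K4 4 q := by
  have h4 : Reach K4 4 4 := Reach.refl _ _
  have h6 : Reach K4 4 6 := h4.step (mem_K4_pU) (by decide)
  have h7 : Reach K4 4 7 := h4.step (mem_K4_pV) (by decide)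
  have h10 : Reach K4 4 10 := h4.step (mem_K4_pW) (by decide)
  have h5 : Reach K4 4 5 := h6.step (mem_K4_pU) (by decide)
  have h11 : Reach K4 4 11 := h6.step (mem_K4_pW) (by decide)
  have h8 : Reach K4 4 8 := h7.step (mem_K4_pU) (by decide)
  have h9 : Reach K4 4 9 := h10.step (mem_K4_pV) (by decide)
  intro q hq
  fin_cases q <;> first | assumption | exact absurd hq (by decide)


end Cfsg.Agent.Lib.Helper8.M12
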