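import Cfsg.Agent.Lib.Helper8.M12c

set_option autoImplicit false
set_option linter.unusedSectionVars false
set_option linter.unusedVariables false

/-! The explicit permutations generate the full automorphism group of the hexad system. -/

namespace Cfsg.Agent.Lib.Helper8.M12

open Finset MulAction

theorem card_ge_of_fix {K K' : Subgroup (Equiv.Perm (Fin 12))} (hK : K' ≤ K) (p : Fin 12)
    (hfix : ∀ g ∈ K', g p = p) (T : Finset (Fin 12)) (hT : ∀ q ∈ T, Reach K p q) :
    T.card * Nat.card K' ≤ Nat.card K := by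
  have h1 := index_stabilizer K p
  have h2 := (stabilizer K p).card_mul_index
  have h3 : T.card ≤ (orbit K p).ncard := by
    rw [← Set.ncard_coe_finset T]
    apply Set.ncard_le_ncard _ (Set.toFinite _)
    intro q hq
    obtain ⟨g, hg, hgq⟩ := hT q (Finset.mem_coe.mp hq)
    exact ⟨⟨g, hg⟩, hgq⟩
  have h4 : Nat.card K' ≤ Nat.card (stabilizer K p) := by
    apply Nat.card_le_card_of_injective
      (fun x : K' => (⟨⟨x.1, hK x.2⟩, hfix x.1 x.2⟩ : stabilizer K p))
    intro x y hxy
    apply Subtype.ext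
    exact congrArg (fun z : stabilizer K p => (z.1.1 : Equiv.Perm (Fin 12))) hxy
  rw [h1] at h2
  calc T.card * Nat.card K' ≤ (orbit K p).ncard * Nat.card (stabilizer K p) :=
        Nat.mul_le_mul h3 h4
    _ = Nat.card K := by rw [mul_comm]; exact h2

theorem K1_le_K0 : K1 ≤ K0 := (Subgroup.closure_le _).mpr (by
  intro x hx
  simp only [Set.mem_insert_iff, Set.mem_singleton_iff] at hx
  rcases hx with rfl | rfl | rfl | rfl | rfl | rfl | rfl
  exacts [mem_K0_pS, mem_K0_pT, mem_K0_pU, mem_K0_pV, mem_K0_pW, mem_K0_pX1, mem_K0_pX2])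

theorem K2_le_K1 : K2 ≤ K1 := (Subgroup.closure_le _).mpr (by
  intro x hx
  simp only [Set.mem_insert_iff, Set.mem_singleton_iff] at hx
  rcases hx with rfl | rfl | rfl | rfl | rfl | rfl
  exacts [mem_K1_pS, mem_K1_pT, mem_K1_pU, mem_K1_pV, mem_K1_pW, mem_K1_pX1])

theorem K3_le_K2 : K3 ≤ K2 := (Subgroup.closure_le _).mpr (by
  intro x hx
  simp only [Set.mem_insert_iff, Set.mem_singleton_iff] at hx
  rcases hx with rfl | rfl | rfl | rfl | rfl
  exacts [mem_K2_pS, mem_K2_pT, mem_K2_pU, mem_K2_pV, mem_K2_pW])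

theorem K4_le_K3 : K4 ≤ K3 := (Subgroup.closure_le _).mpr (by
  intro x hx
  simp only [Set.mem_insert_iff, Set.mem_singleton_iff] at hx
  rcases hx with rfl | rfl | rfl
  exacts [mem_K3_pU, mem_K3_pV, mem_K3_pW])

theorem K1_fix : ∀ g ∈ K1, g 2 = 2 := by
  have : K1 ≤ stabilizer (Equiv.Perm (Fin 12)) (2 : Fin 12) := by
    apply (Subgroup.closure_le _).mpr
    intro x hx
    simp only [Set.mem_insert_iff, Set.mem_singleton_iff] at hx
    rcases hx with rfl | rfl | rfl | rfl | rfl | rfl | rfl <;>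
    · show _ • (2 : Fin 12) = 2
      decide
  exact fun g hg => this hg

theorem K2_fix : ∀ g ∈ K2, g 1 = 1 := by
  have : K2 ≤ stabilizer (Equiv.Perm (Fin 12)) (1 : Fin 12) := by
    apply (Subgroup.closure_le _).mpr
    intro x hx
    simp only [Set.mem_insert_iff, Set.mem_singleton_iff] at hx
    rcases hx with rfl | rfl | rfl | rfl | rfl | rfl <;>
    · show _ • (1 : Fin 12) = 1
      decide
  exact fun g hg => this hg

theorem K3_fix : ∀ g ∈ K3, g 0 = 0 := by
  have : K3 ≤ stabilizer (Equiv.Perm (Fin 12)) (0 : Fin 12) := by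
    apply (Subgroup.closure_le _).mpr
    intro x hx
    simp only [Set.mem_insert_iff, Set.mem_singleton_iff] at hx
    rcases hx with rfl | rfl | rfl | rfl | rfl <;>
    · show _ • (0 : Fin 12) = 0
      decide
  exact fun g hg => this hg

theorem K4_fix : ∀ g ∈ K4, g 3 = 3 := by
  have : K4 ≤ stabilizer (Equiv.Perm (Fin 12)) (3 : Fin 12) := by
    apply (Subgroup.closure_le _).mpr
    intro x hx
    simp only [Set.mem_insert_iff, Set.mem_singleton_iff] at hx
    rcases hx with rfl | rfl | rfl <;>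
    · show _ • (3 : Fin 12) = 3
      decide
  exact fun g hg => this hg

theorem card_K4 : 8 ≤ Nat.card K4 := by
  have := card_ge_of_fix (K := K4) (K' := ⊥) bot_le 4
    (fun g hg => by rw [Subgroup.mem_bot.mp hg]; rfl) T4 reach4
  rw [Subgroup.card_bot, mul_one] at this
  exact this

theorem card_K3 : 72 ≤ Nat.card K3 := by
  have := card_ge_of_fix K4_le_K3 3 K4_fix T3 reach3
  have h4 := card_K4
  have hT : T3.card = 9 := by decide
  rw [hT] at this
  omega

theorem card_K2 : 720 ≤ Nat.card K2 := by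
  have := card_ge_of_fix K3_le_K2 0 K3_fix T2 reach2
  have h3 := card_K3
  have hT : T2.card = 10 := by decide
  rw [hT] at this
  omega

theorem card_K1_ge : 7920 ≤ Nat.card K1 := by
  have := card_ge_of_fix K2_le_K1 1 K2_fix T1 reach1
  have h2 := card_K2
  have hT : T1.card = 11 := by decide
  rw [hT] at this
  omega

theorem card_K0_ge : 95040 ≤ Nat.card K0 := by
  have := card_ge_of_fix K1_le_K0 2 K1_fix T0 reach0
  have h1 := card_K1_ge
  have hT : T0.card = 12 := by decide
  rw [hT] at this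
  omega

theorem K0_le_aut : K0 ≤ Cfsg.setSystemAut B := by
  apply (Subgroup.closure_le _).mpr
  intro x hx
  simp only [Set.mem_insert_iff, Set.mem_singleton_iff] at hx
  rcases hx with rfl | rfl | rfl | rfl | rfl | rfl | rfl | rfl
  · exact mem_aut pS gS pS_val inv_S
  · exact mem_aut pT gT pT_val inv_T
  · exact mem_aut pU gU pU_val inv_U
  · exact mem_aut pV gV pV_val inv_V
  · exact mem_aut pW gW pW_val inv_W
  · exact mem_aut pX1 gX1 pX1_val inv_X1
  · exact mem_aut pX2 gX2 pX2_val inv_X2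
  · exact mem_aut pX3 gX3 pX3_val inv_X3

theorem card12 : Fintype.card (Fin 12) = 12 := Fintype.card_fin 12

theorem K0_eq : K0 = Cfsg.setSystemAut B := by
  apply Subgroup.eq_of_le_of_card_ge K0_le_aut
  rw [Cfsg.Agent.Lib.Helper8.W.aut_card card12 steiner_B]
  exact card_K0_ge

theorem stab_map :
    (stabilizer (Cfsg.setSystemAut B) (2 : Fin 12)).map (Cfsg.setSystemAut B).subtype =
      Cfsg.setSystemAut B ⊓ stabilizer (Equiv.Perm (Fin 12)) (2 : Fin 12) := by
  ext x
  constructor
  · rintro ⟨y, hy, rfl⟩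
    exact ⟨y.2, hy⟩
  · rintro ⟨h1, h2⟩
    exact ⟨⟨x, h1⟩, h2, rfl⟩

theorem card_inf_stab :
    Nat.card (Cfsg.setSystemAut B ⊓ stabilizer (Equiv.Perm (Fin 12)) (2 : Fin 12) :
      Subgroup (Equiv.Perm (Fin 12))) = 7920 := by
  rw [← stab_map, Subgroup.card_map_of_injective (Subgroup.subtype_injective _)]
  have hs := Cfsg.Agent.Lib.Helper8.W.aut_isSharp card12 steiner_B
  haveI : IsPretransitive (Cfsg.setSystemAut B) (Fin 12) := by
    haveI := hs.1
    exact isPretransitive_of_is_two_pretransitive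
      (h2 := isMultiplyPretransitive_of_le (n := 5) (m := 2) (by omega)
        (by rw [Nat.card_eq_fintype_card, card12]; omega))
  have h1 := index_stabilizer_of_transitive (Cfsg.setSystemAut B) (2 : Fin 12)
  have h2 := (stabilizer (Cfsg.setSystemAut B) (2 : Fin 12)).card_mul_index
  rw [h1, Nat.card_eq_fintype_card (α := Fin 12), card12,
    Cfsg.Agent.Lib.Helper8.W.aut_card card12 steiner_B] at h2
  omega

theorem K1_eq : K1 = K0 ⊓ stabilizer (Equiv.Perm (Fin 12)) (2 : Fin 12) := by
  rw [K0_eq]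
  apply Subgroup.eq_of_le_of_card_ge
  · exact le_inf (K0_eq ▸ K1_le_K0) (fun g hg => K1_fix g hg)
  · rw [card_inf_stab]
    exact card_K1_ge

theorem card_K1 : Nat.card K1 = 7920 := by
  rw [K1_eq, K0_eq, card_inf_stab]

end Cfsg.Agent.Lib.Helper8.M12
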