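import Mathlib

set_option autoImplicit false

/-! Fixed-point sets of permutations and the congruence `|Y| ≡ |Y ∩ Fix x| mod p` for a
permutation `x` with `x ^ p = 1` and an `x`-invariant finite set `Y`. -/

namespace Cfsg.Agent.Lib.Helper8.M22Loc

open Finset

variable {α : Type*} [Fintype α] [DecidableEq α]

/-- the set of fixed points of a permutation -/
def fixSet (g : Equiv.Perm α) : Finset α := univ.filter fun p => g p = p

theorem mem_fixSet (g : Equiv.Perm α) (p : α) : p ∈ fixSet g ↔ g p = p := by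
  simp [fixSet]

theorem fixSet_one : fixSet (1 : Equiv.Perm α) = univ := by
  ext p; simp [mem_fixSet]

theorem fixSet_inv (g : Equiv.Perm α) : fixSet g⁻¹ = fixSet g := by
  ext p
  rw [mem_fixSet, mem_fixSet, Equiv.Perm.inv_eq_iff_eq]
  exact eq_comm

theorem fixSet_subset_pow (g : Equiv.Perm α) (k : ℕ) : fixSet g ⊆ fixSet (g ^ k) := by
  intro p hp
  rw [mem_fixSet] at hp ⊢
  induction k with
  | zero => simp
  | succ k ih => rw [pow_succ, Equiv.Perm.mul_apply, hp, ih]

theorem fixSet_subset_zpow (g : Equiv.Perm α) (k : ℤ) : fixSet g ⊆ fixSet (g ^ k) := by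
  cases k with
  | ofNat n => simpa using fixSet_subset_pow g n
  | negSucc n =>
    rw [zpow_negSucc, fixSet_inv]
    exact fixSet_subset_pow g (n + 1)

theorem mem_fixSet_conj (h g : Equiv.Perm α) (p : α) :
    p ∈ fixSet (h * g * h⁻¹) ↔ h⁻¹ p ∈ fixSet g := by
  rw [mem_fixSet, mem_fixSet, Equiv.Perm.mul_apply, Equiv.Perm.mul_apply,
    ← Equiv.Perm.eq_inv_iff_eq (f := h)]

theorem card_fixSet_conj (h g : Equiv.Perm α) :
    (fixSet (h * g * h⁻¹)).card = (fixSet g).card := by
  apply Finset.card_bij (fun p _ => h⁻¹ p)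
  · intro p hp
    exact (mem_fixSet_conj h g p).mp hp
  · intro p _ q _ hpq
    exact (h⁻¹).injective hpq
  · intro q hq
    refine ⟨h q, ?_, by simp⟩
    rw [mem_fixSet_conj]
    simpa using hq

theorem eq_one_of_fixSet_eq_univ (g : Equiv.Perm α) (h : fixSet g = univ) : g = 1 := by
  ext p
  have : p ∈ fixSet g := by rw [h]; exact mem_univ p
  simpa [mem_fixSet] using this

omit [Fintype α] [DecidableEq α] in
/-- a set closed under `x` is closed under its powers -/
theorem pow_mem_of_invariant (x : Equiv.Perm α) (Y : Finset α) (hY : ∀ y ∈ Y, x y ∈ Y) (k : ℕ) :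
    ∀ y ∈ Y, (x ^ k) y ∈ Y := by
  induction k with
  | zero => intro y hy; simpa using hy
  | succ k ih =>
    intro y hy
    rw [pow_succ', Equiv.Perm.mul_apply]
    exact hY _ (ih y hy)

omit [Fintype α] [DecidableEq α] in
theorem mem_iff_of_invariant (x : Equiv.Perm α) (n : ℕ) (hn : 0 < n) (hx : x ^ n = 1)
    (Y : Finset α) (hY : ∀ y ∈ Y, x y ∈ Y) (a : α) : x a ∈ Y ↔ a ∈ Y := by
  refine ⟨fun h => ?_, hY a⟩
  have h1 := pow_mem_of_invariant x Y hY (n - 1) _ h
  have h2 : (x ^ (n - 1)) (x a) = a := by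
    rw [← Equiv.Perm.mul_apply, ← pow_succ, Nat.sub_add_cancel hn, hx]
    rfl
  rwa [h2] at h1

/-- a permutation as an endomorphism -/
def toEnd {β : Type*} (σ : Equiv.Perm β) : Function.End β := ⇑σ

theorem toEnd_pow {β : Type*} (σ : Equiv.Perm β) (k : ℕ) : toEnd σ ^ k = toEnd (σ ^ k) := by
  induction k with
  | zero => rfl
  | succ k ih => rw [pow_succ, pow_succ, ih]; rfl

/-- the congruence for an invariant set -/
theorem card_modEq_of_invariant (x : Equiv.Perm α) (p : ℕ) [hp : Fact p.Prime] (hx : x ^ p = 1)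
    (Y : Finset α) (hY : ∀ y ∈ Y, x y ∈ Y) : Y.card ≡ (Y ∩ fixSet x).card [MOD p] := by
  have hiff : ∀ a, x a ∈ Y ↔ a ∈ Y := mem_iff_of_invariant x p hp.out.pos hx Y hY
  let σ : Equiv.Perm {a // a ∈ Y} := x.subtypePerm hiff
  have hσ : σ ^ p ^ 1 = 1 := by
    rw [pow_one]
    ext a
    have : ((σ ^ p) a : α) = (x ^ p) a := by
      have h := Equiv.Perm.subtypePerm_pow (p := fun a => a ∈ Y) x p hiff
      rw [show σ ^ p = (x.subtypePerm hiff) ^ p from rfl, h]
      rfl
    rw [this, hx]
    rfl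
  have hσ' : toEnd σ ^ p ^ 1 = 1 := by
    rw [toEnd_pow, hσ]; rfl
  have h1 : Y.card ≡ Fintype.card (Function.fixedPoints ⇑σ) [MOD p] := by
    have h0 := Equiv.Perm.card_fixedPoints_modEq (p := p) (n := 1) hσ'
    rw [Fintype.card_coe] at h0
    exact h0
  have h2 : Nat.card (Function.fixedPoints σ) = (Y ∩ fixSet x).card := by
    rw [← Fintype.card_coe (Y ∩ fixSet x), ← Nat.card_eq_fintype_card]
    apply Nat.card_congr
    exact
      { toFun := fun a => ⟨a.1.1, by
          rw [mem_inter, mem_fixSet]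
          refine ⟨a.1.2, ?_⟩
          have := a.2
          rw [Function.mem_fixedPoints, Function.IsFixedPt] at this
          exact congrArg Subtype.val this⟩
        invFun := fun b => ⟨⟨b.1, (mem_inter.mp b.2).1⟩, by
          rw [Function.mem_fixedPoints, Function.IsFixedPt]
          apply Subtype.ext
          exact (mem_fixSet x b.1).mp (mem_inter.mp b.2).2⟩
        left_inv := fun a => rfl
        right_inv := fun b => rfl }
  rw [← Nat.card_eq_fintype_card, h2] at h1
  exact h1

theorem card_univ_modEq (x : Equiv.Perm α) (p : ℕ) [Fact p.Prime] (hx : x ^ p = 1) :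
    Fintype.card α ≡ (fixSet x).card [MOD p] := by
  have := card_modEq_of_invariant x p hx univ (fun y _ => mem_univ _)
  rwa [univ_inter, card_univ] at this

/-- commuting permutations preserve each other's fixed points -/
theorem commute_invariant (x y : Equiv.Perm α) (h : x * y = y * x) :
    ∀ a ∈ fixSet y, x a ∈ fixSet y := by
  intro a ha
  rw [mem_fixSet] at ha ⊢
  rw [← Equiv.Perm.mul_apply, ← h, Equiv.Perm.mul_apply, ha]

theorem cong_commute (x y : Equiv.Perm α) (h : x * y = y * x) (p : ℕ) [Fact p.Prime]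
    (hx : x ^ p = 1) : (fixSet y).card ≡ (fixSet y ∩ fixSet x).card [MOD p] :=
  card_modEq_of_invariant x p hx (fixSet y) (commute_invariant x y h)

end Cfsg.Agent.Lib.Helper8.M22Loc
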