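import Cfsg.Agent.Lib.Helper9.M24Y8
import Cfsg.Agent.Lib.Helper9.Syl2M22b
import Cfsg.Agent.Lib.Helper8.M22FixA

set_option autoImplicit false
set_option linter.style.haveILetI false

/-! Fixed-point counts of elements of `M24` / `M22` of orders 5, 7, 11, and the bound
`|Fix g| ≤ 8` for `g ≠ 1` in `M24`. -/

namespace Cfsg.Agent.Lib.Helper8.M22Loc

open Cfsg Finset Cfsg.Agent.Lib.Helper9.GolayQR1 Cfsg.Agent.Lib.Helper9.GolayQR5
  Cfsg.Agent.Lib.Helper9.M24T1 Cfsg.Agent.Lib.Helper9.M24T2 Cfsg.Agent.Lib.Helper9.M24T3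
  Cfsg.Agent.Lib.Helper9.M24T4 Cfsg.Agent.Lib.Helper9.M24T7 Cfsg.Agent.Lib.Helper9.M24Y1
  Cfsg.Agent.Lib.Helper9.M24Y6 Cfsg.Agent.Lib.Helper9.M24Y7 Cfsg.Agent.Lib.Helper9.M24Y8
  Cfsg.Agent.Lib.Helper9.M24Z3
open scoped Pointwise

theorem orderOf_dvd_card_fixL (g : Equiv.Perm GolayPt) (hg : g ∈ M24) (l : List GolayPt)
    (hl : ∀ b ∈ l, g b = b) : orderOf g ∣ Nat.card (fixL M24 l) := by
  have hmem : g ∈ fixL M24 l := ⟨hg, hl⟩
  have := orderOf_dvd_natCard (⟨g, hmem⟩ : fixL M24 l)
  rwa [Subgroup.orderOf_mk] at this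

theorem card_fix_three_list (l : List GolayPt) (hl : l.Nodup) (h3 : l.length = 3) :
    Nat.card (fixL M24 l) = 20160 := by
  obtain ⟨g, hg, hmap⟩ := exists_map_list [none, some 0, some 1] l (by decide) hl
    (by rw [h3]; rfl) (by simp)
  rw [← hmap, card_fixL_map M24 g hg, card_fix3]

theorem card_fix_four_list (l : List GolayPt) (hl : l.Nodup) (h4 : l.length = 4) :
    Nat.card (fixL M24 l) = 960 := by
  obtain ⟨g, hg, hmap⟩ := exists_map_list [none, some 0, some 1, some 2] l (by decide) hl
    (by rw [h4]; rfl) (by simp)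
  rw [← hmap, card_fixL_map M24 g hg, card_fix4]

/-- an element whose order does not divide the order of the pointwise stabilizers of `k` points
fixes fewer than `k` points -/
theorem card_fixSet_lt (g : Equiv.Perm GolayPt) (hg : g ∈ M24) (k N : ℕ)
    (hN : ∀ l : List GolayPt, l.Nodup → l.length = k → Nat.card (fixL M24 l) = N)
    (hnd : ¬ orderOf g ∣ N) : (fixSet g).card < k := by
  by_contra hge
  push Not at hge
  obtain ⟨s, hs, hsk⟩ := exists_subset_card_eq hge
  have := orderOf_dvd_card_fixL g hg s.toList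
    (fun b hb => (mem_fixSet g b).mp (hs (mem_toList.mp hb)))
  rw [hN s.toList (nodup_toList s) (by rw [length_toList, hsk])] at this
  exact hnd this

/-- the standard six points do not lie in an octad -/
theorem std6_not_inOct :
    ¬ InOct ([none, some 0, some 1, some 2, some 3] ++ [some 4] : List GolayPt).toFinset := by
  intro h
  have h16 := (card_fix_six [none, some 0, some 1, some 2, some 3] (some 4) (by decide) rfl).1 h
  have h3 : Nat.card (fixL M24 ([none, some 0, some 1, some 2, some 3] ++ [some 4])) = 3 :=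
    card_fix6
  omega

theorem G60_mem_fix : G60 ∈ fixL M24 [none, some 0, some 1, some 2, some 3, some 4] := by
  refine ⟨?_, by decide +kernel⟩
  rw [← C_eq_M24]
  exact G60_mem

theorem fixSet_G60 : (fixSet G60).card = 6 := by decide +kernel

/-- a nonidentity element of `M24` fixing six points not in an octad has exactly six fixed points -/
theorem card_fixSet_of_fix_six (g : Equiv.Perm GolayPt) (hg : g ∈ M24) (hg1 : g ≠ 1)
    (l : List GolayPt) (x : GolayPt) (hl : (l ++ [x]).Nodup) (h5 : l.length = 5)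
    (hno : ¬ InOct (l ++ [x]).toFinset) (hfix : ∀ b ∈ l ++ [x], g b = b) :
    (fixSet g).card ≤ 6 := by
  obtain ⟨h, hh, hmap⟩ := map_six' (l ++ [x]) [none, some 0, some 1, some 2, some 3, some 4] hl
    (by decide) (by rw [List.length_append, h5]; rfl) rfl (iff_of_false hno std6_not_inOct)
  have hg' : h * g * h⁻¹ ∈ fixL M24 [none, some 0, some 1, some 2, some 3, some 4] := by
    refine ⟨M24.mul_mem (M24.mul_mem hh hg) (M24.inv_mem hh), ?_⟩
    intro b hb
    rw [← hmap, List.mem_map] at hb
    obtain ⟨a, ha, rfl⟩ := hb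
    rw [Equiv.Perm.mul_apply, Equiv.Perm.mul_apply, Cfsg.Agent.Lib.Helper9.Chain1.inv_apply_self', hfix a ha]
  have hcard : Nat.card (fixL M24 [none, some 0, some 1, some 2, some 3, some 4]) = 3 := card_fix6
  haveI : Fact (Nat.Prime 3) := ⟨Nat.prime_three⟩
  have hne : (⟨h * g * h⁻¹, hg'⟩ : fixL M24 [none, some 0, some 1, some 2, some 3, some 4]) ≠ 1 := by
    intro h1
    have h2 := congrArg Subtype.val h1
    change h * g * h⁻¹ = 1 at h2
    apply hg1
    have : g = h⁻¹ * (h * g * h⁻¹) * h := by group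
    rw [this, h2]; group
  have htop := zpowers_eq_top_of_prime_card hcard hne
  have hx0 : (⟨G60, G60_mem_fix⟩ : fixL M24 [none, some 0, some 1, some 2, some 3, some 4]) ∈
      Subgroup.zpowers (⟨h * g * h⁻¹, hg'⟩ : fixL M24 [none, some 0, some 1, some 2, some 3, some 4]) := by
    rw [htop]; exact Subgroup.mem_top _
  obtain ⟨k, hk⟩ := Subgroup.mem_zpowers_iff.mp hx0
  have hk' : (h * g * h⁻¹) ^ k = G60 := by
    have := congrArg Subtype.val hk
    simpa using this
  have hsub : fixSet (h * g * h⁻¹) ⊆ fixSet G60 := by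
    rw [← hk']
    exact fixSet_subset_zpow _ k
  calc (fixSet g).card = (fixSet (h * g * h⁻¹)).card := (card_fixSet_conj h g).symm
    _ ≤ (fixSet G60).card := card_le_card hsub
    _ = 6 := fixSet_G60

/-- a nonidentity element of `M24` fixes at most eight points -/
theorem card_fixSet_le_eight (g : Equiv.Perm GolayPt) (hg : g ∈ M24) (hg1 : g ≠ 1) :
    (fixSet g).card ≤ 8 := by
  by_contra hlt
  push Not at hlt
  obtain ⟨s, hs, hs5⟩ := exists_subset_card_eq (show 5 ≤ (fixSet g).card by omega)
  have hnd : s.toList.Nodup := nodup_toList s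
  have hlen : s.toList.length = 5 := by rw [length_toList, hs5]
  obtain ⟨o, ho, hlo⟩ := exists_octad_five s.toList hnd hlen
  have h8 : o.card = 8 := ho.2
  obtain ⟨x, hx, hxo⟩ := exists_mem_notMem_of_card_lt_card (show o.card < (fixSet g).card by omega)
  have hxl : x ∉ s.toList := fun h => hxo (hlo x h)
  have hnd' : (s.toList ++ [x]).Nodup := by
    rw [List.nodup_append]
    refine ⟨hnd, List.nodup_singleton x, ?_⟩
    intro a ha b hb
    rw [List.mem_singleton] at hb
    rintro rfl
    exact hxl (hb ▸ ha)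
  have hno : ¬ InOct (s.toList ++ [x]).toFinset := by
    rw [inOct_snoc s.toList hnd hlen o ho hlo x]
    exact hxo
  have := card_fixSet_of_fix_six g hg hg1 s.toList x hnd' hlen hno (by
    intro b hb
    rw [List.mem_append, List.mem_singleton] at hb
    rcases hb with hb | rfl
    · exact (mem_fixSet g b).mp (hs (mem_toList.mp hb))
    · exact (mem_fixSet g b).mp hx)
  omega

end Cfsg.Agent.Lib.Helper8.M22Loc
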