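import Cfsg.Agent.Lib.Helper9.Syl2M22b
import Cfsg.Agent.Lib.Helper8.M22FixA

set_option autoImplicit false
set_option linter.style.haveILetI false

/-! Every involution of `M22` fixes exactly eight of the 24 points: conjugate into the tabulated
Sylow `2`-subgroup and check the table. -/

namespace Cfsg.Agent.Lib.Helper8.M22Loc

open Cfsg Finset Cfsg.Agent.Lib.Helper9.GolayQR1 Cfsg.Agent.Lib.Helper9.M24F1
  Cfsg.Agent.Lib.Helper9.M24T1 Cfsg.Agent.Lib.Helper9.Syl2B Cfsg.Agent.Lib.Helper9.Syl2B.Tab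

/-- counting loop -/
def cntB (n : ℕ) (f : ℕ → Bool) : ℕ := Nat.rec 0 (fun j acc => acc + (if f j then 1 else 0)) n

theorem cntB_succ (n : ℕ) (f : ℕ → Bool) : cntB (n + 1) f = cntB n f + (if f n then 1 else 0) := rfl

theorem cntB_eq (n : ℕ) (f : ℕ → Bool) :
    cntB n f = ((Finset.range n).filter (fun j => f j = true)).card := by
  induction n with
  | zero => rfl
  | succ n ih =>
    rw [cntB_succ, ih, Finset.range_add_one, Finset.filter_insert]
    by_cases h : f n = true
    · rw [if_pos h, if_pos h, Finset.card_insert_of_notMem (by simp)]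
    · rw [if_neg h, if_neg h, add_zero]

theorem card_filter_idx (f : ℕ → Bool) :
    (univ.filter (fun p : GolayPt => f (idx p) = true)).card = cntB 24 f := by
  rw [cntB_eq]
  apply Finset.card_bij (fun p _ => idx p)
  · intro p hp
    rw [mem_filter] at hp ⊢
    exact ⟨Finset.mem_range.mpr (idx_lt p), hp.2⟩
  · intro p _ q _ h
    exact idx_injective h
  · intro j hj
    rw [mem_filter, Finset.mem_range] at hj
    refine ⟨unidx j, ?_, idx_unidx j hj.1⟩
    rw [mem_filter, idx_unidx j hj.1]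
    exact ⟨mem_univ _, hj.2⟩

/-- number of fixed lanes -/
def fixCnt (P : ℕ) : ℕ := cntB 24 (fun j => Nat.beq (im P j) j)

/-- the packed permutation squares to the identity -/
def isInv (P : ℕ) : Bool := allB 24 (fun j => Nat.beq (im P (im P j)) j)

/-- the packed permutation is the identity -/
def isId (P : ℕ) : Bool := allB 24 (fun j => Nat.beq (im P j) j)

theorem beq_iff (a b : ℕ) : Nat.beq a b = true ↔ a = b :=
  ⟨Nat.eq_of_beq_eq_true, fun h => h ▸ Nat.beq_refl a⟩

theorem card_fixSet_rep {h : Equiv.Perm GolayPt} {P : ℕ} (hr : Rep h P) :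
    (fixSet h).card = fixCnt P := by
  unfold fixCnt
  rw [← card_filter_idx]
  congr 1
  ext p
  rw [mem_fixSet, mem_filter, beq_iff, ← hr p]
  constructor
  · intro hp
    exact ⟨mem_univ _, by rw [hp]⟩
  · rintro ⟨-, hp⟩
    exact idx_injective hp

theorem isInv_of_rep {h : Equiv.Perm GolayPt} {P : ℕ} (hr : Rep h P) (h2 : h * h = 1) :
    isInv P = true := by
  unfold isInv
  rw [allB_iff]
  intro j hj
  rw [beq_iff]
  have e1 := hr (unidx j)
  have e2 := hr (h (unidx j))
  rw [idx_unidx j hj] at e1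
  rw [← e1, ← e2, ← Equiv.Perm.mul_apply, h2]
  exact idx_unidx j hj

theorem eq_one_of_isId {h : Equiv.Perm GolayPt} {P : ℕ} (hr : Rep h P) (hid : isId P = true) :
    h = 1 := by
  unfold isId at hid
  rw [allB_iff] at hid
  refine Equiv.ext fun p => ?_
  apply idx_injective
  have := hid (idx p) (idx_lt p)
  rw [beq_iff] at this
  rw [hr p, this]
  rfl

/-- the table check: every involution in the table has exactly eight fixed points -/
def okInvol (t : Tab) : Bool :=
  allB t.n (fun i => isId (t.E i) || (!(isInv (t.E i)) || Nat.beq (fixCnt (t.E i)) 8))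

theorem okInvol_tab : okInvol Cfsg.Agent.Lib.Helper9.Syl2M22.tab = true := by decide +kernel

open Cfsg.Agent.Lib.Helper9.Syl2M22 in
/-- involutions of the tabulated Sylow subgroup -/
theorem card_fixSet_S0 (h : Equiv.Perm GolayPt) (hS : h ∈ tab.S0 gg) (h2 : h * h = 1)
    (h1 : h ≠ 1) : (fixSet h).card = 8 := by
  obtain ⟨i, hi, hr⟩ := Tab.exists_rep ok rep_gg h hS
  have hchk := okInvol_tab
  unfold okInvol at hchk
  rw [allB_iff] at hchk
  have := hchk i hi
  rw [Bool.or_eq_true, Bool.or_eq_true] at this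
  rcases this with hid | hni | h8
  · exact absurd (eq_one_of_isId hr hid) h1
  · rw [isInv_of_rep hr h2] at hni
    exact absurd hni (by decide)
  · rw [beq_iff] at h8
    rw [card_fixSet_rep hr, h8]

/-- a `2`-element of `G` is conjugate into a subgroup of `G` of full `2`-power order -/
theorem exists_conj_mem {A : Type*} [Group A] (G P : Subgroup A) [Finite G] (hPG : P ≤ G)
    (k m : ℕ) (hP : Nat.card P = 2 ^ k) (hG : Nat.card G = 2 ^ k * m) (hm : ¬ 2 ∣ m) (t : A)
    (ht : t ∈ G) (j : ℕ) (htj : t ^ 2 ^ j = 1) : ∃ g ∈ G, g * t * g⁻¹ ∈ P := by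
  haveI : Fact (Nat.Prime 2) := ⟨Nat.prime_two⟩
  have hc : Nat.card (P.subgroupOf G) = 2 ^ (Nat.card G).factorization 2 := by
    rw [hG, Cfsg.Agent.Lib.Helper9.Syl2A.fact_two_pow hm, ← hP]
    exact Nat.card_congr (Subgroup.subgroupOfEquivOfLe hPG).toEquiv
  let Q : Sylow 2 ↥G := Sylow.ofCard (P.subgroupOf G) hc
  have hZ : IsPGroup 2 (Subgroup.zpowers (⟨t, ht⟩ : ↥G)) := by
    rintro ⟨x, hx⟩
    obtain ⟨i, rfl⟩ := Subgroup.mem_zpowers_iff.mp hx
    refine ⟨j, Subtype.ext ?_⟩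
    apply Subtype.ext
    show ((⟨t, ht⟩ : ↥G) ^ i : ↥G).1 ^ 2 ^ j = 1
    rw [Subgroup.coe_zpow, ← zpow_natCast, ← zpow_mul, mul_comm, zpow_mul, zpow_natCast]
    show (t ^ 2 ^ j) ^ i = 1
    rw [htj, one_zpow]
  obtain ⟨R, hR⟩ := hZ.exists_le_sylow
  obtain ⟨g, hg⟩ := MulAction.exists_smul_eq ↥G R Q
  refine ⟨g.1, g.2, ?_⟩
  have h1 : (⟨t, ht⟩ : ↥G) ∈ (R : Subgroup ↥G) := hR (Subgroup.mem_zpowers _)
  have h2 : g * (⟨t, ht⟩ : ↥G) * g⁻¹ ∈ ((g • R : Sylow 2 ↥G) : Subgroup ↥G) := by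
    rw [Sylow.coe_subgroup_smul]
    have := Subgroup.smul_mem_pointwise_smul _ (MulAut.conj g) _ h1
    rwa [MulAut.smul_def, MulAut.conj_apply] at this
  rw [hg] at h2
  have h3 : g * (⟨t, ht⟩ : ↥G) * g⁻¹ ∈ P.subgroupOf G := h2
  rw [Subgroup.mem_subgroupOf] at h3
  exact h3

open Cfsg.Agent.Lib.Helper9.Syl2M22 in
/-- every involution of `M22` fixes exactly eight points -/
theorem card_fixSet_of_orderOf_two (t : Equiv.Perm GolayPt) (ht : t ∈ Spor.M22)
    (h2 : orderOf t = 2) : (fixSet t).card = 8 := by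
  haveI : Finite ↥Spor.M22 := Nat.finite_of_card_ne_zero (by rw [card_G]; norm_num)
  have ht2 : t ^ 2 ^ 1 = 1 := by rw [pow_one, ← h2]; exact pow_orderOf_eq_one t
  obtain ⟨g, _, hgt⟩ := exists_conj_mem Spor.M22 (tab.S0 gg) hSG 7 3465 card_S0 card_G
    (by norm_num) t ht 1 ht2
  have hne : t ≠ 1 := by
    rintro rfl
    rw [orderOf_one] at h2
    omega
  have hsq : g * t * g⁻¹ * (g * t * g⁻¹) = 1 := by
    have : t * t = 1 := by rw [← pow_two, ← pow_one 2]; exact ht2
    calc g * t * g⁻¹ * (g * t * g⁻¹) = g * (t * t) * g⁻¹ := by group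
      _ = 1 := by rw [this]; group
  have hne' : g * t * g⁻¹ ≠ 1 := by
    intro h
    apply hne
    have : t = g⁻¹ * (g * t * g⁻¹) * g := by group
    rw [this, h]; group
  rw [← card_fixSet_conj g t]
  exact card_fixSet_S0 _ hgt hsq hne'

end Cfsg.Agent.Lib.Helper8.M22Loc
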