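import Cfsg.Agent.Lib.Helper8.M22FixB
import Cfsg.Agent.Lib.Helper8.M22FixC

set_option autoImplicit false
set_option linter.style.haveILetI false

/-! Elements of order three of `M24` never have exactly three fixed points (a count with the
Steiner system of octads); fixed-point counts of the elements of prime order of `M22`. -/

namespace Cfsg.Agent.Lib.Helper8.M22Loc

open Cfsg Finset Cfsg.Agent.Lib.Helper9.GolayQR1 Cfsg.Agent.Lib.Helper9.GolayQR5
  Cfsg.Agent.Lib.Helper9.M24T1 Cfsg.Agent.Lib.Helper9.M24T3
  Cfsg.Agent.Lib.Helper9.M24Y7 Cfsg.Agent.Lib.Helper9.M24X1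
open scoped Pointwise

/-- an element of `M24` with `y ^ 3 = 1` cannot have exactly three fixed points -/
theorem card_fixSet_ne_three (y : Equiv.Perm GolayPt) (hy : y ∈ M24) (h3 : y ^ 3 = 1) :
    (fixSet y).card ≠ 3 := by
  intro hc
  haveI : Fact (Nat.Prime 3) := ⟨Nat.prime_three⟩
  obtain ⟨a, b, c, hab, hac, hbc, hΦ⟩ := Finset.card_eq_three.mp hc
  have ha : y a = a := (mem_fixSet y a).mp (by rw [hΦ]; simp)
  have hb : y b = b := (mem_fixSet y b).mp (by rw [hΦ]; simp)
  have hcf : y c = c := (mem_fixSet y c).mp (by rw [hΦ]; simp)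
  have hyyy : ∀ v, y (y (y v)) = v := by
    intro v
    have : (y ^ 3) v = v := by rw [h3]; rfl
    simpa [pow_succ, Equiv.Perm.mul_apply] using this
  -- the moved points
  have hmov : ∀ v, v ∉ fixSet y → y v ∉ fixSet y := by
    intro v hv h
    apply hv
    rw [mem_fixSet] at h ⊢
    exact y.injective h
  -- the five points
  have hL : ∀ u, u ∉ fixSet y → ([a, b, u, y u, y (y u)] : List GolayPt).Nodup := by
    intro u hu
    have hu1 := hmov u hu
    have hu2 := hmov _ hu1
    have hau : a ≠ u := fun h => hu (by rw [← h, mem_fixSet]; exact ha)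
    have hau1 : a ≠ y u := fun h => hu1 (by rw [← h, mem_fixSet]; exact ha)
    have hau2 : a ≠ y (y u) := fun h => hu2 (by rw [← h, mem_fixSet]; exact ha)
    have hbu : b ≠ u := fun h => hu (by rw [← h, mem_fixSet]; exact hb)
    have hbu1 : b ≠ y u := fun h => hu1 (by rw [← h, mem_fixSet]; exact hb)
    have hbu2 : b ≠ y (y u) := fun h => hu2 (by rw [← h, mem_fixSet]; exact hb)
    have h01 : u ≠ y u := fun h => hu (by rw [mem_fixSet]; exact h.symm)
    have h12 : y u ≠ y (y u) := fun h => hu1 (by rw [mem_fixSet]; exact h.symm)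
    have h02 : u ≠ y (y u) := by
      intro h
      apply hu
      rw [mem_fixSet]
      have := congrArg y h
      rw [hyyy] at this
      exact this
    simp only [List.nodup_cons, List.mem_cons, List.not_mem_nil, or_false, not_or,
      List.nodup_nil, and_true, not_false_eq_true]
    exact ⟨⟨hab, hau, hau1, hau2⟩, ⟨hbu, hbu1, hbu2⟩, ⟨h01, h02⟩, h12⟩
  have hex : ∀ u, ∃ o : Finset GolayPt, u ∉ fixSet y →
      (o ∈ octads ∧ ∀ p ∈ ([a, b, u, y u, y (y u)] : List GolayPt), p ∈ o) := by
    intro u
    by_cases hu : u ∈ fixSet y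
    · exact ⟨∅, fun h => absurd hu h⟩
    · obtain ⟨o, ho, hlo⟩ := exists_octad_five _ (hL u hu) rfl
      exact ⟨o, fun _ => ⟨ho, hlo⟩⟩
  choose O hO using hex
  -- invariance
  have hinv : ∀ u, u ∉ fixSet y → ∀ p ∈ O u, y p ∈ O u := by
    intro u hu
    obtain ⟨ho, hlo⟩ := hO u hu
    have heq : y • O u = O u := by
      apply octad_eq_of_five _ _ (smul_octad_mem y hy _ ho) ho
        ([a, b, u, y u, y (y u)] : List GolayPt).toFinset
        (by rw [List.toFinset_card_of_nodup (hL u hu)]; rfl)
      · intro p hp
        rw [List.mem_toFinset] at hp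
        simp only [List.mem_cons, List.not_mem_nil, or_false] at hp
        rcases hp with h | h | h | h | h
        · rw [h]
          have := (smul_mem_iff y a (O u)).mpr (hlo a (by simp))
          rwa [ha] at this
        · rw [h]
          have := (smul_mem_iff y b (O u)).mpr (hlo b (by simp))
          rwa [hb] at this
        · rw [h]
          have := (smul_mem_iff y (y (y u)) (O u)).mpr (hlo _ (by simp))
          rwa [hyyy] at this
        · rw [h]
          exact (smul_mem_iff y u (O u)).mpr (hlo _ (by simp))
        · rw [h]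
          exact (smul_mem_iff y (y u) (O u)).mpr (hlo _ (by simp))
      · intro p hp
        exact hlo p (List.mem_toFinset.mp hp)
    intro p hp
    rw [← heq, smul_mem_iff]
    exact hp
  -- the third fixed point is not in the octad; intersection with the fixed points
  have hint : ∀ u, u ∉ fixSet y → (O u ∩ fixSet y).card = 2 := by
    intro u hu
    obtain ⟨ho, hlo⟩ := hO u hu
    have h8 : (O u).card = 8 := ho.2
    have hm := card_modEq_of_invariant y 3 h3 (O u) (hinv u hu)
    rw [h8] at hm
    have hle : (O u ∩ fixSet y).card ≤ 3 := by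
      rw [← hc]; exact card_le_card inter_subset_right
    have hge : 2 ≤ (O u ∩ fixSet y).card := by
      have hsub : ({a, b} : Finset GolayPt) ⊆ O u ∩ fixSet y := by
        intro p hp
        rw [mem_insert, mem_singleton] at hp
        rw [mem_inter, mem_fixSet]
        rcases hp with rfl | rfl
        · exact ⟨hlo _ (by simp), ha⟩
        · exact ⟨hlo _ (by simp), hb⟩
      calc 2 = ({a, b} : Finset GolayPt).card := (card_pair hab).symm
        _ ≤ _ := card_le_card hsub
    unfold Nat.ModEq at hm
    omega
  -- the fibres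
  have hfib : ∀ u, u ∉ fixSet y → ∀ v, v ∉ fixSet y → (O v = O u ↔ v ∈ O u) := by
    intro u hu v hv
    obtain ⟨ho, hlo⟩ := hO u hu
    obtain ⟨hov, hlov⟩ := hO v hv
    constructor
    · intro h
      rw [← h]
      exact hlov v (by simp)
    · intro h
      apply octad_eq_of_five _ _ hov ho ([a, b, v, y v, y (y v)] : List GolayPt).toFinset
        (by rw [List.toFinset_card_of_nodup (hL v hv)]; rfl)
      · intro p hp
        exact hlov p (List.mem_toFinset.mp hp)
      · intro p hp
        rw [List.mem_toFinset] at hp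
        simp only [List.mem_cons, List.not_mem_nil, or_false] at hp
        rcases hp with h' | h' | h' | h' | h'
        · rw [h']; exact hlo _ (by simp)
        · rw [h']; exact hlo _ (by simp)
        · rw [h']; exact h
        · rw [h']; exact hinv u hu _ h
        · rw [h']; exact hinv u hu _ (hinv u hu _ h)
  -- count
  obtain ⟨N, hNd⟩ : ∃ N : Finset GolayPt, N = univ \ fixSet y := ⟨_, rfl⟩
  have hN : N.card = 21 := by
    rw [hNd, card_sdiff_of_subset (subset_univ _), card_univ, card_golayPt, hc]
  have hmemN : ∀ v, v ∈ N ↔ v ∉ fixSet y := fun v => by simp [hNd]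
  have hsum := Finset.card_eq_sum_card_image O N
  have hconst : ∀ o ∈ N.image O, (N.filter (fun v => O v = o)).card = 6 := by
    intro o ho
    obtain ⟨u, huN, rfl⟩ := mem_image.mp ho
    have hu := (hmemN u).mp huN
    have h8 : (O u).card = 8 := (hO u hu).1.2
    have heq : N.filter (fun v => O v = O u) = O u \ fixSet y := by
      ext v
      rw [mem_filter, mem_sdiff, hmemN]
      constructor
      · rintro ⟨hv, h⟩
        exact ⟨(hfib u hu v hv).mp h, hv⟩
      · rintro ⟨h, hv⟩
        exact ⟨hv, (hfib u hu v hv).mpr h⟩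
    rw [heq, card_sdiff, inter_comm, hint u hu, h8]
  rw [Finset.sum_const_nat hconst, hN] at hsum
  omega

end Cfsg.Agent.Lib.Helper8.M22Loc
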