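import Cfsg.Agent.Lib.Helper8.M22FixD

set_option autoImplicit false
set_option linter.style.haveILetI false

/-! Fixed-point counts of the elements of prime order of `M22`, and: an element of order
5, 7 or 11 commutes with no element of another prime order. -/

namespace Cfsg.Agent.Lib.Helper8.M22Loc

open Cfsg Finset Cfsg.Agent.Lib.Helper9.GolayQR1 Cfsg.Agent.Lib.Helper9.GolayQR5
  Cfsg.Agent.Lib.Helper9.M24T1 Cfsg.Agent.Lib.Helper9.M24T3 Cfsg.Agent.Lib.Helper9.M24Y6

theorem mem_M24_of_mem_M22 {g : Equiv.Perm GolayPt} (hg : g ∈ Spor.M22) : g ∈ M24 :=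
  ((Cfsg.Agent.Lib.Helper9.M24L1.mem_M22 g).mp hg).1

theorem pair_subset_fixSet {g : Equiv.Perm GolayPt} (hg : g ∈ Spor.M22) :
    ({none, some 0} : Finset GolayPt) ⊆ fixSet g := by
  have h := (Cfsg.Agent.Lib.Helper9.M24L1.mem_M22 g).mp hg
  intro p hp
  rw [mem_insert, mem_singleton] at hp
  rw [mem_fixSet]
  rcases hp with rfl | rfl
  · exact h.2.1
  · exact h.2.2

theorem two_le_card_fixSet {g : Equiv.Perm GolayPt} (hg : g ∈ Spor.M22) :
    2 ≤ (fixSet g).card := by
  calc 2 = ({none, some 0} : Finset GolayPt).card := by decide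
    _ ≤ _ := card_le_card (pair_subset_fixSet hg)

theorem two_le_card_inter {x y : Equiv.Perm GolayPt} (hx : x ∈ Spor.M22) (hy : y ∈ Spor.M22) :
    2 ≤ (fixSet y ∩ fixSet x).card := by
  calc 2 = ({none, some 0} : Finset GolayPt).card := by decide
    _ ≤ _ := card_le_card (subset_inter (pair_subset_fixSet hy) (pair_subset_fixSet hx))

theorem card_fixSet_mod (g : Equiv.Perm GolayPt) (p : ℕ) [Fact p.Prime] (ho : orderOf g = p) :
    24 ≡ (fixSet g).card [MOD p] := by
  have h := card_univ_modEq g p (by rw [← ho]; exact pow_orderOf_eq_one g)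
  rwa [card_golayPt] at h

theorem ne_one_of_orderOf {g : Equiv.Perm GolayPt} {p : ℕ} (hp : 2 ≤ p) (ho : orderOf g = p) :
    g ≠ 1 := by
  rintro rfl
  rw [orderOf_one] at ho
  omega

theorem fp11 (g : Equiv.Perm GolayPt) (hg : g ∈ Spor.M22) (ho : orderOf g = 11) :
    (fixSet g).card = 2 := by
  have h1 := two_le_card_fixSet hg
  have h2 := card_fixSet_lt g (mem_M24_of_mem_M22 hg) 3 20160 card_fix_three_list
    (by rw [ho]; norm_num)
  omega

theorem fp7 (g : Equiv.Perm GolayPt) (hg : g ∈ Spor.M22) (ho : orderOf g = 7) :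
    (fixSet g).card = 3 := by
  haveI : Fact (Nat.Prime 7) := ⟨by norm_num⟩
  have h1 := two_le_card_fixSet hg
  have h2 := card_fixSet_lt g (mem_M24_of_mem_M22 hg) 4 960 card_fix_four_list
    (by rw [ho]; norm_num)
  have h3 := card_fixSet_mod g 7 ho
  unfold Nat.ModEq at h3
  omega

theorem fp5 (g : Equiv.Perm GolayPt) (hg : g ∈ Spor.M22) (ho : orderOf g = 5) :
    (fixSet g).card = 4 := by
  haveI : Fact (Nat.Prime 5) := ⟨by norm_num⟩
  have h1 := two_le_card_fixSet hg
  have h2 := card_fixSet_lt g (mem_M24_of_mem_M22 hg) 5 48 card_fix_five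
    (by rw [ho]; norm_num)
  have h3 := card_fixSet_mod g 5 ho
  unfold Nat.ModEq at h3
  omega

theorem fp3 (g : Equiv.Perm GolayPt) (hg : g ∈ Spor.M22) (ho : orderOf g = 3) :
    (fixSet g).card = 6 := by
  haveI : Fact (Nat.Prime 3) := ⟨Nat.prime_three⟩
  have h1 := two_le_card_fixSet hg
  have h2 := card_fixSet_le_eight g (mem_M24_of_mem_M22 hg) (ne_one_of_orderOf (by norm_num) ho)
  have h3 := card_fixSet_mod g 3 ho
  have h4 := card_fixSet_ne_three g (mem_M24_of_mem_M22 hg)
    (by rw [← ho]; exact pow_orderOf_eq_one g)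
  unfold Nat.ModEq at h3
  omega

theorem fp2 (g : Equiv.Perm GolayPt) (hg : g ∈ Spor.M22) (ho : orderOf g = 2) :
    (fixSet g).card = 8 := card_fixSet_of_orderOf_two g hg ho

/-- an element of order 5, 7 or 11 of `M22` commutes with no element of another prime order -/
theorem no_commuting (x y : Equiv.Perm GolayPt) (hx : x ∈ Spor.M22) (hy : y ∈ Spor.M22)
    (hc : x * y = y * x) (p q : ℕ) (hp : p = 5 ∨ p = 7 ∨ p = 11)
    (hq : q = 2 ∨ q = 3 ∨ q = 5 ∨ q = 7 ∨ q = 11) (hpq : p ≠ q) (hox : orderOf x = p)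
    (hoy : orderOf y = q) : False := by
  have hn2 := two_le_card_inter hx hy
  have hnx : (fixSet y ∩ fixSet x).card ≤ (fixSet x).card := card_le_card inter_subset_right
  have hny : (fixSet y ∩ fixSet x).card ≤ (fixSet y).card := card_le_card inter_subset_left
  have hpp : p.Prime := by rcases hp with rfl | rfl | rfl <;> norm_num
  have hqp : q.Prime := by rcases hq with rfl | rfl | rfl | rfl | rfl <;> norm_num
  haveI : Fact p.Prime := ⟨hpp⟩
  haveI : Fact q.Prime := ⟨hqp⟩
  have c1 := cong_commute x y hc p (by rw [← hox]; exact pow_orderOf_eq_one x)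
  have c2 := cong_commute y x hc.symm q (by rw [← hoy]; exact pow_orderOf_eq_one y)
  rw [inter_comm] at c2
  unfold Nat.ModEq at c1 c2
  have fx : (p = 5 → (fixSet x).card = 4) ∧ (p = 7 → (fixSet x).card = 3) ∧
      (p = 11 → (fixSet x).card = 2) :=
    ⟨fun h => fp5 x hx (hox.trans h), fun h => fp7 x hx (hox.trans h),
      fun h => fp11 x hx (hox.trans h)⟩
  have fy : (q = 2 → (fixSet y).card = 8) ∧ (q = 3 → (fixSet y).card = 6) ∧
      (q = 5 → (fixSet y).card = 4) ∧ (q = 7 → (fixSet y).card = 3) ∧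
      (q = 11 → (fixSet y).card = 2) :=
    ⟨fun h => fp2 y hy (hoy.trans h), fun h => fp3 y hy (hoy.trans h),
      fun h => fp5 y hy (hoy.trans h), fun h => fp7 y hy (hoy.trans h),
      fun h => fp11 y hy (hoy.trans h)⟩
  obtain ⟨fx5, fx7, fx11⟩ := fx
  obtain ⟨fy2, fy3, fy5, fy7, fy11⟩ := fy
  rcases hp with rfl | rfl | rfl <;> rcases hq with rfl | rfl | rfl | rfl | rfl <;>
    first
    | exact absurd rfl hpq
    | (norm_num at fx5 fx7 fx11 fy2 fy3 fy5 fy7 fy11
       omega)

end Cfsg.Agent.Lib.Helper8.M22Loc
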