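import Cfsg.Agent.Lib.Helper8.M22FixE

set_option autoImplicit false
set_option linter.style.haveILetI false

/-! Local facts about `M22` for S5005: Sylow `p`-subgroups for `p = 5, 7, 11` have order `p` and
are self-centralizing; the centralizer of an element of order three has order not divisible by
eight; the centralizer of a nontrivial element of odd order has index divisible by `2 ^ 5`. -/

namespace Cfsg.Agent.Lib.Helper8.M22Loc

open Cfsg Finset

theorem card_M22 : Nat.card ↥Spor.M22 = 443520 := by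
  rw [Cfsg.Agent.Lib.Helper9.Syl2M22.card_G]
  norm_num

theorem prime_dvd_card {q : ℕ} (hq : q.Prime) (h : q ∣ 443520) :
    q = 2 ∨ q = 3 ∨ q = 5 ∨ q = 7 ∨ q = 11 := by
  have e : (443520 : ℕ) = 2 ^ 7 * 3 ^ 2 * 5 * 7 * 11 := by norm_num
  rw [e] at h
  rcases (Nat.Prime.dvd_mul hq).mp h with h | h
  · rcases (Nat.Prime.dvd_mul hq).mp h with h | h
    · rcases (Nat.Prime.dvd_mul hq).mp h with h | h
      · rcases (Nat.Prime.dvd_mul hq).mp h with h | h
        · left
          exact (Nat.prime_dvd_prime_iff_eq hq Nat.prime_two).mp (hq.dvd_of_dvd_pow h)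
        · right; left
          exact (Nat.prime_dvd_prime_iff_eq hq Nat.prime_three).mp (hq.dvd_of_dvd_pow h)
      · right; right; left
        exact (Nat.prime_dvd_prime_iff_eq hq (by norm_num)).mp h
    · right; right; right; left
      exact (Nat.prime_dvd_prime_iff_eq hq (by norm_num)).mp h
  · right; right; right; right
    exact (Nat.prime_dvd_prime_iff_eq hq (by norm_num)).mp h

theorem fact_prime_mul {p m : ℕ} (hp : p.Prime) (hm : ¬ p ∣ m) :
    (p * m).factorization p = 1 := by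
  have hm0 : m ≠ 0 := by
    rintro rfl
    exact hm (dvd_zero p)
  rw [Nat.factorization_mul hp.ne_zero hm0, Finsupp.add_apply, hp.factorization_self,
    Nat.factorization_eq_zero_of_not_dvd hm]

/-- Sylow `p`-subgroups of `M22` have order `p` for `p = 5, 7, 11` -/
theorem sylow_card (p : ℕ) [hp : Fact p.Prime] (h : p = 5 ∨ p = 7 ∨ p = 11)
    (P : Sylow p ↥Spor.M22) : Nat.card P = p := by
  have h1 := Sylow.card_eq_multiplicity P
  rw [card_M22] at h1
  rcases h with rfl | rfl | rfl
  · rw [h1, show (443520 : ℕ) = 5 * 88704 by norm_num,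
      fact_prime_mul (by norm_num) (by norm_num), pow_one]
  · rw [h1, show (443520 : ℕ) = 7 * 63360 by norm_num,
      fact_prime_mul (by norm_num) (by norm_num), pow_one]
  · rw [h1, show (443520 : ℕ) = 11 * 40320 by norm_num,
      fact_prime_mul (by norm_num) (by norm_num), pow_one]

/-- Sylow `p`-subgroups of `M22` are self-centralizing for `p = 5, 7, 11` -/
theorem centralizer_sylow (p : ℕ) [hp : Fact p.Prime] (h : p = 5 ∨ p = 7 ∨ p = 11)
    (P : Sylow p ↥Spor.M22) :
    Subgroup.centralizer ((P : Subgroup ↥Spor.M22) : Set ↥Spor.M22) = (P : Subgroup ↥Spor.M22) := by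
  have hP := sylow_card p h P
  obtain ⟨x', hx'⟩ := exists_prime_orderOf_dvd_card' (G := ↥(P : Subgroup ↥Spor.M22)) p
    (by rw [hP])
  obtain ⟨x, hxdef⟩ : ∃ x : ↥Spor.M22, x = (x' : ↥Spor.M22) := ⟨_, rfl⟩
  have hox : orderOf x = p := by rw [hxdef, Subgroup.orderOf_coe]; exact hx'
  have hxP : x ∈ (P : Subgroup ↥Spor.M22) := by rw [hxdef]; exact x'.2
  have hPz : Subgroup.zpowers x = (P : Subgroup ↥Spor.M22) := by
    apply Subgroup.eq_of_le_of_card_ge (Subgroup.zpowers_le.mpr hxP)
    rw [Nat.card_zpowers, hox]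
    exact hP.le
  have hPC : (P : Subgroup ↥Spor.M22) ≤
      Subgroup.centralizer ((P : Subgroup ↥Spor.M22) : Set ↥Spor.M22) := by
    intro a ha
    rw [Subgroup.mem_centralizer_iff]
    intro b hb
    have hb' : b ∈ (P : Subgroup ↥Spor.M22) := hb
    rw [← hPz] at ha hb'
    obtain ⟨i, rfl⟩ := Subgroup.mem_zpowers_iff.mp ha
    obtain ⟨j, rfl⟩ := Subgroup.mem_zpowers_iff.mp hb'
    exact (Commute.zpow_zpow_self x j i).eq
  symm
  apply Subgroup.eq_of_le_of_card_ge hPC
  by_contra hlt
  push Not at hlt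
  obtain ⟨C, hCdef⟩ : ∃ C : Subgroup ↥Spor.M22,
      C = Subgroup.centralizer ((P : Subgroup ↥Spor.M22) : Set ↥Spor.M22) := ⟨_, rfl⟩
  rw [← hCdef] at hlt hPC
  have hdvd : Nat.card (P : Subgroup ↥Spor.M22) ∣ Nat.card C := Subgroup.card_dvd_of_le hPC
  obtain ⟨m, hm⟩ := hdvd
  rw [hP] at hm
  have hp2 : 2 ≤ p := hp.out.two_le
  have hm2 : m ≠ 1 := by
    rintro rfl
    rw [hm, mul_one, hP] at hlt
    exact lt_irrefl _ hlt
  obtain ⟨q, hq, hqm⟩ := Nat.exists_prime_and_dvd hm2
  have hCdvd : Nat.card C ∣ 443520 := by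
    rw [← card_M22]; exact Subgroup.card_subgroup_dvd_card C
  have hqC : q ∣ Nat.card C := by rw [hm]; exact Dvd.dvd.mul_left hqm p
  have hq5 := prime_dvd_card hq (hqC.trans hCdvd)
  have hpq : p ≠ q := by
    rintro rfl
    have : p * p ∣ 443520 := by
      refine dvd_trans ?_ hCdvd
      rw [hm]; exact Nat.mul_dvd_mul_left p hqm
    rcases h with rfl | rfl | rfl <;> norm_num at this
  haveI : Fact q.Prime := ⟨hq⟩
  obtain ⟨y', hy'⟩ := exists_prime_orderOf_dvd_card' (G := ↥C) q hqC
  have hoy : orderOf (y' : ↥Spor.M22) = q := by rw [Subgroup.orderOf_coe]; exact hy'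
  have hyC : (y' : ↥Spor.M22) ∈
      Subgroup.centralizer ((P : Subgroup ↥Spor.M22) : Set ↥Spor.M22) := by
    rw [← hCdef]; exact y'.2
  have hcomm : x * (y' : ↥Spor.M22) = (y' : ↥Spor.M22) * x :=
    Subgroup.mem_centralizer_iff.mp hyC x hxP
  exact no_commuting (x : Equiv.Perm GolayPt) ((y' : ↥Spor.M22) : Equiv.Perm GolayPt) x.2
    (y' : ↥Spor.M22).2 (congrArg Subtype.val hcomm) p q h hq5 hpq
    (by rw [Subgroup.orderOf_coe]; exact hox) (by rw [Subgroup.orderOf_coe]; exact hoy)

/-- the centralizer in `M22` of an element of order three has order not divisible by eight -/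
theorem not_eight_dvd (x : ↥Spor.M22) (hx : orderOf x = 3) :
    ¬ 8 ∣ Nat.card (Subgroup.centralizer ({x} : Set ↥Spor.M22)) := by
  classical
  intro h8
  haveI : Fact (Nat.Prime 2) := ⟨Nat.prime_two⟩
  haveI : Fact (Nat.Prime 3) := ⟨Nat.prime_three⟩
  obtain ⟨T0, hT0⟩ := Sylow.exists_subgroup_card_pow_prime 2
    (G := ↥(Subgroup.centralizer ({x} : Set ↥Spor.M22))) (n := 3) (by simpa using h8)
  -- transport to a subgroup of the permutation group
  obtain ⟨T, hTdef⟩ : ∃ T : Subgroup (Equiv.Perm GolayPt),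
      T = (T0.map (Subgroup.centralizer ({x} : Set ↥Spor.M22)).subtype).map Spor.M22.subtype :=
    ⟨_, rfl⟩
  have hTcard : Nat.card T = 8 := by
    rw [hTdef, Subgroup.card_map_of_injective (Subgroup.subtype_injective _),
      Subgroup.card_map_of_injective (Subgroup.subtype_injective _), hT0]
    norm_num
  obtain ⟨xp, hxp⟩ : ∃ xp : Equiv.Perm GolayPt, xp = (x : Equiv.Perm GolayPt) := ⟨_, rfl⟩
  have hxM : xp ∈ Spor.M22 := by rw [hxp]; exact x.2
  have hxo : orderOf xp = 3 := by rw [hxp, Subgroup.orderOf_coe]; exact hx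
  have hx3 : xp ^ 3 = 1 := by rw [← hxo]; exact pow_orderOf_eq_one xp
  have hTmem : ∀ u ∈ T, u ∈ Spor.M22 ∧ u * xp = xp * u := by
    intro u hu
    rw [hTdef] at hu
    obtain ⟨c, hc, rfl⟩ := Subgroup.mem_map.mp hu
    obtain ⟨d, _, rfl⟩ := Subgroup.mem_map.mp hc
    refine ⟨(d : ↥Spor.M22).2, ?_⟩
    have hd := Subgroup.mem_centralizer_iff.mp d.2 x (Set.mem_singleton x)
    have := congrArg Subtype.val hd
    rw [hxp]
    exact this.symm
  have hfx : (fixSet xp).card = 6 := fp3 xp hxM hxo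
  -- the four other fixed points
  obtain ⟨Φ', hΦ'⟩ : ∃ Φ' : Finset GolayPt, Φ' = fixSet xp \ {none, some 0} := ⟨_, rfl⟩
  have hΦcard : Φ'.card = 4 := by
    rw [hΦ', card_sdiff_of_subset (pair_subset_fixSet hxM), hfx]
    decide
  obtain ⟨a, ha⟩ : Φ'.Nonempty := card_pos.mp (by omega)
  have haΦ : a ∈ fixSet xp ∧ a ≠ none ∧ a ≠ some 0 := by
    rw [hΦ', mem_sdiff, mem_insert, mem_singleton, not_or] at ha
    exact ⟨ha.1, ha.2.1, ha.2.2⟩
  have hmaps : ∀ u ∈ T, u a ∈ Φ' := by
    intro u hu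
    obtain ⟨huM, hcomm⟩ := hTmem u hu
    have h1 : u a ∈ fixSet xp := commute_invariant u xp hcomm a haΦ.1
    have hu' := (Cfsg.Agent.Lib.Helper9.M24L1.mem_M22 u).mp huM
    rw [hΦ', mem_sdiff, mem_insert, mem_singleton, not_or]
    refine ⟨h1, ?_, ?_⟩
    · intro h
      apply haΦ.2.1
      apply u.injective
      rw [h, hu'.2.1]
    · intro h
      apply haΦ.2.2
      apply u.injective
      rw [h, hu'.2.2]
  -- pigeonhole
  haveI : Finite ↥T := Nat.finite_of_card_ne_zero (by rw [hTcard]; norm_num)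
  haveI : Fintype ↥T := Fintype.ofFinite _
  have hlt : Fintype.card {p // p ∈ Φ'} < Fintype.card ↥T := by
    rw [Fintype.card_coe, hΦcard, ← Nat.card_eq_fintype_card, hTcard]
    norm_num
  obtain ⟨t1, t2, hne, heq⟩ := Fintype.exists_ne_map_eq_of_card_lt
    (fun u : ↥T => (⟨u.1 a, hmaps u.1 u.2⟩ : {p // p ∈ Φ'})) hlt
  have heq' : t1.1 a = t2.1 a := congrArg Subtype.val heq
  -- a nontrivial element of `T` fixing `a`
  obtain ⟨t, htdef⟩ : ∃ t : Equiv.Perm GolayPt, t = t2.1⁻¹ * t1.1 := ⟨_, rfl⟩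
  have htT : t ∈ T := by rw [htdef]; exact T.mul_mem (T.inv_mem t2.2) t1.2
  have hta : t a = a := by
    rw [htdef, Equiv.Perm.mul_apply, heq', Cfsg.Agent.Lib.Helper9.Chain1.inv_apply_self']
  have ht1 : t ≠ 1 := by
    intro h
    apply hne
    apply Subtype.ext
    rw [htdef, inv_mul_eq_one] at h
    exact h.symm
  -- its order is 2, 4 or 8
  have hto : orderOf t ∣ 2 ^ 3 := by
    have := orderOf_dvd_natCard (⟨t, htT⟩ : ↥T)
    rw [Subgroup.orderOf_mk, hTcard] at this
    exact this
  obtain ⟨k, hk3, hk⟩ := (Nat.dvd_prime_pow Nat.prime_two).mp hto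
  have hk0 : k ≠ 0 := by
    rintro rfl
    rw [pow_zero, orderOf_eq_one_iff] at hk
    exact ht1 hk
  -- the involution
  obtain ⟨s, hsdef⟩ : ∃ s : Equiv.Perm GolayPt, s = t ^ 2 ^ (k - 1) := ⟨_, rfl⟩
  have hso : orderOf s = 2 := by
    rw [hsdef, orderOf_pow_of_dvd (by positivity) (by rw [hk]; exact pow_dvd_pow 2 (by omega)), hk]
    rw [Nat.pow_div (by omega) (by norm_num)]
    have : k - (k - 1) = 1 := by omega
    rw [this, pow_one]
  have hsT : s ∈ T := by rw [hsdef]; exact T.pow_mem htT _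
  obtain ⟨hsM, hscomm⟩ := hTmem s hsT
  have hsa : a ∈ fixSet s := by
    rw [hsdef]
    exact fixSet_subset_pow t _ ((mem_fixSet t a).mpr hta)
  have hs8 : (fixSet s).card = 8 := fp2 s hsM hso
  -- the common fixed points
  have hsub : ({a, none, some 0} : Finset GolayPt) ⊆ fixSet s ∩ fixSet xp := by
    intro p hp
    rw [mem_insert, mem_insert, mem_singleton] at hp
    rw [mem_inter]
    rcases hp with rfl | rfl | rfl
    · exact ⟨hsa, haΦ.1⟩
    · exact ⟨pair_subset_fixSet hsM (by simp), pair_subset_fixSet hxM (by simp)⟩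
    · exact ⟨pair_subset_fixSet hsM (by simp), pair_subset_fixSet hxM (by simp)⟩
  have h3 : 3 ≤ (fixSet s ∩ fixSet xp).card := by
    have hc3 : ({a, none, some 0} : Finset GolayPt).card = 3 := by
      rw [card_insert_of_notMem (by
        rw [mem_insert, mem_singleton, not_or]; exact ⟨haΦ.2.1, haΦ.2.2⟩)]
      rfl
    calc 3 = ({a, none, some 0} : Finset GolayPt).card := hc3.symm
      _ ≤ _ := card_le_card hsub
  have hle : (fixSet s ∩ fixSet xp).card ≤ 6 := by
    rw [← hfx]; exact card_le_card inter_subset_right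
  have c1 := cong_commute xp s hscomm.symm 3 hx3
  have c2 := cong_commute s xp hscomm 2 (by rw [← hso]; exact pow_orderOf_eq_one s)
  rw [inter_comm] at c2
  rw [hs8] at c1
  rw [hfx] at c2
  unfold Nat.ModEq at c1 c2
  omega

/-- the centralizer of a nontrivial element of odd order of `M22` has index divisible by `2 ^ 5` -/
theorem two_pow_five_dvd_index (y : ↥Spor.M22) (hy : y ≠ 1) (h2 : ¬ 2 ∣ orderOf y) :
    2 ^ 5 ∣ (Subgroup.centralizer ({y} : Set ↥Spor.M22)).index := by
  haveI : Finite ↥Spor.M22 := Nat.finite_of_card_ne_zero (by rw [card_M22]; norm_num)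
  have ho1 : orderOf y ≠ 1 := fun h => hy (orderOf_eq_one_iff.mp h)
  obtain ⟨q, hq, hqo⟩ := Nat.exists_prime_and_dvd ho1
  have hodvd : orderOf y ∣ 443520 := by rw [← card_M22]; exact orderOf_dvd_natCard y
  have hq5 := prime_dvd_card hq (hqo.trans hodvd)
  have hq2 : q ≠ 2 := by
    rintro rfl
    exact h2 hqo
  have hopos : 0 < orderOf y := orderOf_pos y
  obtain ⟨z, hzdef⟩ : ∃ z : ↥Spor.M22, z = y ^ (orderOf y / q) := ⟨_, rfl⟩
  have hzo : orderOf z = q := by
    rw [hzdef, orderOf_pow_of_dvd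
      (Nat.div_pos (Nat.le_of_dvd hopos hqo) hq.pos).ne' (Nat.div_dvd_of_dvd hqo)]
    exact Nat.div_div_self hqo hopos.ne'
  -- centralizers
  have hle : Subgroup.centralizer ({y} : Set ↥Spor.M22) ≤ Subgroup.centralizer ({z} : Set ↥Spor.M22) := by
    intro g hg
    rw [Subgroup.mem_centralizer_iff] at hg ⊢
    intro w hw
    rw [Set.mem_singleton_iff] at hw
    have h1 : y * g = g * y := hg y (Set.mem_singleton y)
    rw [hw, hzdef]
    exact ((Commute.pow_left (show Commute y g from h1) _)).eq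
  have hcdvd := Subgroup.card_dvd_of_le hle
  -- eight does not divide the order of the centralizer
  have h8 : ¬ 8 ∣ Nat.card (Subgroup.centralizer ({y} : Set ↥Spor.M22)) := by
    intro h
    have h8z : 8 ∣ Nat.card (Subgroup.centralizer ({z} : Set ↥Spor.M22)) := h.trans hcdvd
    rcases hq5 with rfl | rfl | hq57
    · exact hq2 rfl
    · exact not_eight_dvd z hzo h8z
    · haveI : Fact q.Prime := ⟨hq⟩
      have hZ : IsPGroup q (Subgroup.zpowers z) := by
        apply IsPGroup.of_card (n := 1)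
        rw [Nat.card_zpowers, hzo, pow_one]
      obtain ⟨P, hP⟩ := hZ.exists_le_sylow
      have hPc := sylow_card q hq57 P
      have hPz : Subgroup.zpowers z = (P : Subgroup ↥Spor.M22) := by
        apply Subgroup.eq_of_le_of_card_ge hP
        rw [Nat.card_zpowers, hzo]
        exact hPc.le
      have hcz : Subgroup.centralizer ({z} : Set ↥Spor.M22) ≤
          Subgroup.centralizer ((P : Subgroup ↥Spor.M22) : Set ↥Spor.M22) := by
        intro g hg
        rw [Subgroup.mem_centralizer_iff] at hg ⊢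
        intro w hw
        have hw' : w ∈ (P : Subgroup ↥Spor.M22) := hw
        rw [← hPz] at hw'
        obtain ⟨i, rfl⟩ := Subgroup.mem_zpowers_iff.mp hw'
        have h1 : z * g = g * z := hg z (Set.mem_singleton z)
        exact ((Commute.zpow_left (show Commute z g from h1) i)).eq
      rw [centralizer_sylow q hq57 P] at hcz
      have := h8z.trans (Subgroup.card_dvd_of_le hcz)
      rw [hPc] at this
      rcases hq57 with rfl | rfl | rfl <;> norm_num at this
  -- arithmetic
  have hmul := Subgroup.card_mul_index (Subgroup.centralizer ({y} : Set ↥Spor.M22))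
  rw [card_M22] at hmul
  have hc0 : Nat.card (Subgroup.centralizer ({y} : Set ↥Spor.M22)) ≠ 0 := by
    intro h; rw [h, zero_mul] at hmul; omega
  have hi0 : (Subgroup.centralizer ({y} : Set ↥Spor.M22)).index ≠ 0 := by
    intro h; rw [h, mul_zero] at hmul; omega
  rw [Nat.prime_two.pow_dvd_iff_le_factorization hi0]
  have hf := congrArg (fun n => n.factorization 2) hmul
  beta_reduce at hf
  rw [Nat.factorization_mul hc0 hi0, Finsupp.add_apply,
    show (443520 : ℕ) = 2 ^ 7 * 3465 by norm_num,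
    Cfsg.Agent.Lib.Helper9.Syl2A.fact_two_pow (by norm_num)] at hf
  have hc2 : ¬ 3 ≤ (Nat.card (Subgroup.centralizer ({y} : Set ↥Spor.M22))).factorization 2 := by
    rw [← Nat.prime_two.pow_dvd_iff_le_factorization hc0]
    exact h8
  omega

end Cfsg.Agent.Lib.Helper8.M22Loc
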