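import Cfsg.Agent.Lib.Helper8.M22FixA
import Cfsg.Agent.Lib.Helper9.OutM2
import Cfsg.Agent.Lib.Helper9.IdxA1
import Cfsg.Agent.Lib.Helper7.M22S1

set_option autoImplicit false
set_option linter.style.haveILetI false

/-! Fixed-point counts for elements of prime order of `M24` (restated for `fixSet`), arithmetic
tools, and a Sylow counting bound. -/

namespace Cfsg.Agent.Lib.Helper8.M24Loc

open Cfsg Finset Cfsg.Agent.Lib.Helper8.M22Loc

theorem fixSet_eq_fixF (x : Equiv.Perm GolayPt) :
    fixSet x = Cfsg.Agent.Lib.Helper9.OutM.fixF x := rfl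

theorem card_M24 : Nat.card ↥M24 = 244823040 := Cfsg.Agent.Lib.Helper9.M24T4.card_M24

theorem ne_one_of_orderOf {A : Type*} [Group A] {g : A} {p : ℕ} (hp : 2 ≤ p)
    (ho : orderOf g = p) : g ≠ 1 := by
  rintro rfl
  rw [orderOf_one] at ho
  omega

theorem fpM2 (u : Equiv.Perm GolayPt) (hu : u ∈ M24) (ho : orderOf u = 2) :
    (fixSet u).card = 0 ∨ (fixSet u).card = 8 := by
  rw [fixSet_eq_fixF]
  exact Cfsg.Agent.Lib.Helper9.OutM.card_fixF_involution u hu
    (by rw [← ho]; exact pow_orderOf_eq_one u) (ne_one_of_orderOf (by norm_num) ho)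

theorem fpM3 (u : Equiv.Perm GolayPt) (hu : u ∈ M24) (ho : orderOf u = 3) :
    (fixSet u).card = 0 ∨ (fixSet u).card = 6 := by
  rw [fixSet_eq_fixF]
  exact Cfsg.Agent.Lib.Helper9.Idx.card_fixF_three u hu (ne_one_of_orderOf (by norm_num) ho)
    (by rw [← ho]; exact pow_orderOf_eq_one u)

theorem fpMp (u : Equiv.Perm GolayPt) (hu : u ∈ M24) (p : ℕ)
    (hp : p = 5 ∨ p = 7 ∨ p = 11 ∨ p = 23) (ho : orderOf u = p) :
    (fixSet u).card = 24 % p := by
  rw [fixSet_eq_fixF]
  exact Cfsg.Agent.Lib.Helper9.OutM.card_fixF_prime u hu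
    (ne_one_of_orderOf (by rcases hp with rfl | rfl | rfl | rfl <;> norm_num) ho) p hp
    (by rw [← ho]; exact pow_orderOf_eq_one u)

theorem prime_dvd_card {q : ℕ} (hq : q.Prime) (h : q ∣ 244823040) :
    q = 2 ∨ q = 3 ∨ q = 5 ∨ q = 7 ∨ q = 11 ∨ q = 23 := by
  have e : (244823040 : ℕ) = 2 ^ 10 * 3 ^ 3 * 5 * 7 * 11 * 23 := by norm_num
  rw [e] at h
  rcases (Nat.Prime.dvd_mul hq).mp h with h | h
  · rcases (Nat.Prime.dvd_mul hq).mp h with h | h
    · rcases (Nat.Prime.dvd_mul hq).mp h with h | h
      · rcases (Nat.Prime.dvd_mul hq).mp h with h | h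
        · rcases (Nat.Prime.dvd_mul hq).mp h with h | h
          · left
            exact (Nat.prime_dvd_prime_iff_eq hq Nat.prime_two).mp (hq.dvd_of_dvd_pow h)
          · right; left
            exact (Nat.prime_dvd_prime_iff_eq hq Nat.prime_three).mp (hq.dvd_of_dvd_pow h)
        · right; right; left
          exact (Nat.prime_dvd_prime_iff_eq hq (by norm_num)).mp h
      · right; right; right; left
        exact (Nat.prime_dvd_prime_iff_eq hq (by norm_num)).mp h
    · right; right; right; right; left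
      exact (Nat.prime_dvd_prime_iff_eq hq (by norm_num)).mp h
  · right; right; right; right; right
    exact (Nat.prime_dvd_prime_iff_eq hq (by norm_num)).mp h

/-- cutting down the `p`-part of a divisor -/
theorem dvd_pow_mul_of_not_dvd {p : ℕ} (hp : p.Prime) (a b m c : ℕ) (hc : c ∣ p ^ a * m)
    (hnd : ¬ p ^ (b + 1) ∣ c) : c ∣ p ^ b * m := by
  have hc0 : c ≠ 0 := by
    rintro rfl
    exact hnd (dvd_zero _)
  have hk : c.factorization p ≤ b := by
    by_contra h
    push Not at h
    exact hnd ((hp.pow_dvd_iff_le_factorization hc0).mpr h)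
  have hsplit := Nat.ordProj_mul_ordCompl_eq_self c p
  have hcop : Nat.Coprime (p ^ a) (c / p ^ c.factorization p) :=
    Nat.Coprime.pow_left a (Nat.coprime_ordCompl hp hc0)
  have h1 : c / p ^ c.factorization p ∣ m := by
    have : c / p ^ c.factorization p ∣ p ^ a * m :=
      dvd_trans (Nat.ordCompl_dvd c p) hc
    exact hcop.symm.dvd_of_dvd_mul_left this
  rw [← hsplit]
  exact Nat.mul_dvd_mul (pow_dvd_pow p hk) h1

/-- two distinct commuting involutions generate a subgroup of order four -/
theorem four_dvd_card_of_commuting_involutions {A : Type*} [Group A] [Finite A] (a b : A)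
    (ha : orderOf a = 2) (hb : orderOf b = 2) (hab : a * b = b * a) (hne : a ≠ b) :
    4 ∣ Nat.card A := by
  haveI : Fact (Nat.Prime 2) := ⟨Nat.prime_two⟩
  have hnorm : Subgroup.zpowers b ≤ Subgroup.normalizer (Subgroup.zpowers a : Set A) := by
    rw [Subgroup.zpowers_le, Subgroup.mem_normalizer_iff]
    intro x
    constructor
    · intro hx
      obtain ⟨i, rfl⟩ := Subgroup.mem_zpowers_iff.mp hx
      have : b * a ^ i * b⁻¹ = a ^ i := by
        have hc : Commute b (a ^ i) := (Commute.zpow_right (show Commute b a from hab.symm) i)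
        rw [hc.eq, mul_inv_cancel_right]
      rw [this]
      exact Subgroup.zpow_mem_zpowers a i
    · intro hx
      obtain ⟨i, hi⟩ := Subgroup.mem_zpowers_iff.mp hx
      have hc : Commute b (a ^ i) := (Commute.zpow_right (show Commute b a from hab.symm) i)
      have : x = a ^ i := by
        have h1 : x = b⁻¹ * (b * x * b⁻¹) * b := by group
        rw [h1, ← hi, mul_assoc, ← hc.eq, inv_mul_cancel_left]
      rw [this]
      exact Subgroup.zpow_mem_zpowers a i
  have hcard := Cfsg.Agent.Lib.Helper1.GlaubermanRepl.card_sup_mul_card_inf_of_le_normalizer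
    (Subgroup.zpowers b) (Subgroup.zpowers a) hnorm
  have hca : Nat.card (Subgroup.zpowers a) = 2 := by rw [Nat.card_zpowers, ha]
  have hcb : Nat.card (Subgroup.zpowers b) = 2 := by rw [Nat.card_zpowers, hb]
  have hinf : Subgroup.zpowers b ⊓ Subgroup.zpowers a = ⊥ := by
    have hdvd : Nat.card ↥(Subgroup.zpowers b ⊓ Subgroup.zpowers a) ∣ 2 := by
      rw [← hcb]; exact Subgroup.card_dvd_of_le inf_le_left
    rcases (Nat.dvd_prime Nat.prime_two).mp hdvd with h1 | h2
    · exact Subgroup.card_eq_one.mp h1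
    · exfalso
      have hle : Subgroup.zpowers b ≤ Subgroup.zpowers a := by
        have : Subgroup.zpowers b ⊓ Subgroup.zpowers a = Subgroup.zpowers b :=
          Subgroup.eq_of_le_of_card_ge inf_le_left (by rw [h2, hcb])
        rw [← this]; exact inf_le_right
      have hbm : b ∈ Subgroup.zpowers a := hle (Subgroup.mem_zpowers b)
      obtain ⟨i, hi⟩ := Subgroup.mem_zpowers_iff.mp hbm
      have ha2 : a ^ (2 : ℤ) = 1 := by
        have := pow_orderOf_eq_one a
        rw [ha] at this
        exact_mod_cast this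
      rcases Int.emod_two_eq_zero_or_one i with h0 | h1
      · have : a ^ i = 1 := by
          rw [← Int.mul_ediv_add_emod i 2, h0, add_zero, zpow_mul, ha2, one_zpow]
        rw [this] at hi
        rw [← hi, orderOf_one] at hb
        omega
      · have : a ^ i = a := by
          rw [← Int.mul_ediv_add_emod i 2, h1, zpow_add, zpow_mul, ha2, one_zpow, one_mul, zpow_one]
        rw [this] at hi
        exact hne hi
  rw [hinf, Subgroup.card_bot, mul_one, hca, hcb] at hcard
  have := Subgroup.card_subgroup_dvd_card (Subgroup.zpowers b ⊔ Subgroup.zpowers a)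
  rwa [hcard] at this

end Cfsg.Agent.Lib.Helper8.M24Loc
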