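import Cfsg.Agent.Lib.Helper8.M24LocA

set_option autoImplicit false
set_option linter.style.haveILetI false

/-! Commuting elements of prime order in `M24`: which pairs of orders cannot occur, and what the
common fixed points look like; transport of subgroups of centralizers to permutation subgroups. -/

namespace Cfsg.Agent.Lib.Helper8.M24Loc

open Cfsg Finset Cfsg.Agent.Lib.Helper8.M22Loc

/-- the two congruences and the two bounds for commuting elements of prime orders -/
theorem comm_data (x y : Equiv.Perm GolayPt) (hc : x * y = y * x) (p q : ℕ) [Fact p.Prime]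
    [Fact q.Prime] (hox : orderOf x = p) (hoy : orderOf y = q) :
    (fixSet y).card % p = (fixSet y ∩ fixSet x).card % p ∧
    (fixSet x).card % q = (fixSet y ∩ fixSet x).card % q ∧
    (fixSet y ∩ fixSet x).card ≤ (fixSet x).card ∧
    (fixSet y ∩ fixSet x).card ≤ (fixSet y).card := by
  have c1 := cong_commute x y hc p (by rw [← hox]; exact pow_orderOf_eq_one x)
  have c2 := cong_commute y x hc.symm q (by rw [← hoy]; exact pow_orderOf_eq_one y)
  rw [inter_comm] at c2
  exact ⟨c1, c2, card_le_card inter_subset_right, card_le_card inter_subset_left⟩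

/-- pairs of prime orders that cannot commute in `M24` -/
theorem no_commuting24 (x y : Equiv.Perm GolayPt) (hx : x ∈ M24) (hy : y ∈ M24)
    (hc : x * y = y * x) (p q : ℕ)
    (hpq : (p = 23 ∧ (q = 2 ∨ q = 3 ∨ q = 5 ∨ q = 7 ∨ q = 11)) ∨
      (p = 11 ∧ (q = 3 ∨ q = 5 ∨ q = 7 ∨ q = 23)) ∨ (p = 5 ∧ (q = 7 ∨ q = 11 ∨ q = 23)))
    (hox : orderOf x = p) (hoy : orderOf y = q) : False := by
  have hpp : p.Prime := by
    rcases hpq with ⟨rfl, -⟩ | ⟨rfl, -⟩ | ⟨rfl, -⟩ <;> norm_num
  have hqp : q.Prime := by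
    rcases hpq with ⟨-, h⟩ | ⟨-, h⟩ | ⟨-, h⟩
    · rcases h with rfl | rfl | rfl | rfl | rfl <;> norm_num
    · rcases h with rfl | rfl | rfl | rfl <;> norm_num
    · rcases h with rfl | rfl | rfl <;> norm_num
  haveI : Fact p.Prime := ⟨hpp⟩
  haveI : Fact q.Prime := ⟨hqp⟩
  obtain ⟨c1, c2, b1, b2⟩ := comm_data x y hc p q hox hoy
  have fx : p = 5 ∨ p = 7 ∨ p = 11 ∨ p = 23 := by
    rcases hpq with ⟨rfl, -⟩ | ⟨rfl, -⟩ | ⟨rfl, -⟩ <;> simp
  have hfx := fpMp x hx p fx hox
  have f2 := fun h : q = 2 => fpM2 y hy (hoy.trans h)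
  have f3 := fun h : q = 3 => fpM3 y hy (hoy.trans h)
  have fq := fun h : q = 5 ∨ q = 7 ∨ q = 11 ∨ q = 23 => fpMp y hy q h hoy
  rcases hpq with ⟨rfl, h⟩ | ⟨rfl, h⟩ | ⟨rfl, h⟩
  · rcases h with rfl | rfl | rfl | rfl | rfl
    · rcases f2 rfl with h | h <;> omega
    · rcases f3 rfl with h | h <;> omega
    · have := fq (by simp); omega
    · have := fq (by simp); omega
    · have := fq (by simp); omega
  · rcases h with rfl | rfl | rfl | rfl
    · rcases f3 rfl with h | h <;> omega
    · have := fq (by simp); omega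
    · have := fq (by simp); omega
    · have := fq (by simp); omega
  · rcases h with rfl | rfl | rfl
    · have := fq (by simp); omega
    · have := fq (by simp); omega
    · have := fq (by simp); omega

/-- an involution commuting with an element of order 5 or 11 is fixed-point-free -/
theorem invol_fpf (x s : Equiv.Perm GolayPt) (hx : x ∈ M24) (hs : s ∈ M24)
    (hc : x * s = s * x) (p : ℕ) (hp : p = 5 ∨ p = 11) (hox : orderOf x = p)
    (hos : orderOf s = 2) : (fixSet s).card = 0 := by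
  have hpp : p.Prime := by rcases hp with rfl | rfl <;> norm_num
  haveI : Fact p.Prime := ⟨hpp⟩
  haveI : Fact (Nat.Prime 2) := ⟨Nat.prime_two⟩
  obtain ⟨c1, c2, b1, b2⟩ := comm_data x s hc p 2 hox hos
  have hfx := fpMp x hx p (by rcases hp with rfl | rfl <;> simp) hox
  rcases fpM2 s hs hos with h | h
  · exact h
  · rcases hp with rfl | rfl <;> omega

/-- an element of order three commuting with an element of order five shares exactly one fixed
point with it -/
theorem three_inter (x y : Equiv.Perm GolayPt) (hx : x ∈ M24) (hy : y ∈ M24)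
    (hc : x * y = y * x) (hox : orderOf x = 5) (hoy : orderOf y = 3) :
    (fixSet y ∩ fixSet x).card = 1 := by
  haveI : Fact (Nat.Prime 5) := ⟨by norm_num⟩
  haveI : Fact (Nat.Prime 3) := ⟨Nat.prime_three⟩
  obtain ⟨c1, c2, b1, b2⟩ := comm_data x y hc 5 3 hox hoy
  have hfx := fpMp x hx 5 (by simp) hox
  rcases fpM3 y hy hoy with h | h <;> omega

/-- a power of a nontrivial `2`-element is an involution -/
theorem exists_pow_orderOf_two {A : Type*} [Group A] (t : A) (k : ℕ) (ht : t ^ 2 ^ k = 1)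
    (ht1 : t ≠ 1) : ∃ m : ℕ, orderOf (t ^ m) = 2 := by
  have hto : orderOf t ∣ 2 ^ k := orderOf_dvd_of_pow_eq_one ht
  obtain ⟨j, -, hj⟩ := (Nat.dvd_prime_pow Nat.prime_two).mp hto
  have hj0 : j ≠ 0 := by
    rintro rfl
    rw [pow_zero, orderOf_eq_one_iff] at hj
    exact ht1 hj
  refine ⟨2 ^ (j - 1), ?_⟩
  rw [orderOf_pow_of_dvd (by positivity) (by rw [hj]; exact pow_dvd_pow 2 (by omega)), hj,
    Nat.pow_div (by omega) (by norm_num)]
  have : j - (j - 1) = 1 := by omega
  rw [this, pow_one]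

/-- a power of a nontrivial `3`-element has order three -/
theorem exists_pow_orderOf_three {A : Type*} [Group A] (t : A) (k : ℕ) (ht : t ^ 3 ^ k = 1)
    (ht1 : t ≠ 1) : ∃ m : ℕ, orderOf (t ^ m) = 3 := by
  have hto : orderOf t ∣ 3 ^ k := orderOf_dvd_of_pow_eq_one ht
  obtain ⟨j, -, hj⟩ := (Nat.dvd_prime_pow Nat.prime_three).mp hto
  have hj0 : j ≠ 0 := by
    rintro rfl
    rw [pow_zero, orderOf_eq_one_iff] at hj
    exact ht1 hj
  refine ⟨3 ^ (j - 1), ?_⟩
  rw [orderOf_pow_of_dvd (by positivity) (by rw [hj]; exact pow_dvd_pow 3 (by omega)), hj,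
    Nat.pow_div (by omega) (by norm_num)]
  have : j - (j - 1) = 1 := by omega
  rw [this, pow_one]

/-- a subgroup of prime power order of a centralizer in `↥M24`, as a group of permutations -/
theorem exists_perm_subgroup (x : ↥M24) (p k : ℕ) [Fact p.Prime]
    (h : p ^ k ∣ Nat.card (Subgroup.centralizer ({x} : Set ↥M24))) :
    ∃ T : Subgroup (Equiv.Perm GolayPt), Nat.card T = p ^ k ∧
      ∀ u ∈ T, u ∈ M24 ∧ (x : Equiv.Perm GolayPt) * u = u * (x : Equiv.Perm GolayPt) := by
  obtain ⟨T0, hT0⟩ := Sylow.exists_subgroup_card_pow_prime p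
    (G := ↥(Subgroup.centralizer ({x} : Set ↥M24))) h
  refine ⟨(T0.map (Subgroup.centralizer ({x} : Set ↥M24)).subtype).map M24.subtype, ?_, ?_⟩
  · rw [Subgroup.card_map_of_injective (Subgroup.subtype_injective _),
      Subgroup.card_map_of_injective (Subgroup.subtype_injective _), hT0]
  · intro u hu
    obtain ⟨c, hc, rfl⟩ := Subgroup.mem_map.mp hu
    obtain ⟨d, _, rfl⟩ := Subgroup.mem_map.mp hc
    refine ⟨(d : ↥M24).2, ?_⟩
    have hd := Subgroup.mem_centralizer_iff.mp d.2 x (Set.mem_singleton x)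
    exact congrArg Subtype.val hd

/-- Cauchy in a centralizer in `↥M24`, as a permutation -/
theorem exists_perm_orderOf (x : ↥M24) (q : ℕ) [Fact q.Prime]
    (h : q ∣ Nat.card (Subgroup.centralizer ({x} : Set ↥M24))) :
    ∃ y : Equiv.Perm GolayPt, y ∈ M24 ∧
      (x : Equiv.Perm GolayPt) * y = y * (x : Equiv.Perm GolayPt) ∧ orderOf y = q := by
  obtain ⟨y', hy'⟩ := exists_prime_orderOf_dvd_card'
    (G := ↥(Subgroup.centralizer ({x} : Set ↥M24))) q h
  refine ⟨((y' : ↥M24) : Equiv.Perm GolayPt), (y' : ↥M24).2, ?_, ?_⟩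
  · have hd := Subgroup.mem_centralizer_iff.mp y'.2 x (Set.mem_singleton x)
    exact congrArg Subtype.val hd
  · rw [Subgroup.orderOf_coe, Subgroup.orderOf_coe]
    exact hy'

/-- a group of permutations acting semiregularly at a point of an invariant set is no larger than
the set -/
theorem card_le_of_semiregular (T : Subgroup (Equiv.Perm GolayPt)) (Φ : Finset GolayPt)
    (a : GolayPt) (hmaps : ∀ t ∈ T, t a ∈ Φ) (hsemi : ∀ t ∈ T, t a = a → t = 1) :
    Nat.card T ≤ Φ.card := by
  classical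
  rw [← Fintype.card_coe Φ, ← Nat.card_eq_fintype_card]
  apply Nat.card_le_card_of_injective (fun t : ↥T => (⟨t.1 a, hmaps t.1 t.2⟩ : {p // p ∈ Φ}))
  intro t1 t2 h
  have h' : t1.1 a = t2.1 a := congrArg Subtype.val h
  have h1 : (t2.1⁻¹ * t1.1) a = a := by
    rw [Equiv.Perm.mul_apply, h', Cfsg.Agent.Lib.Helper9.Chain1.inv_apply_self']
  have h2 := hsemi _ (T.mul_mem (T.inv_mem t2.2) t1.2) h1
  apply Subtype.ext
  rw [inv_mul_eq_one] at h2
  exact h2.symm

end Cfsg.Agent.Lib.Helper8.M24Loc
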