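import Cfsg.Agent.Lib.Helper8.M24LocB

set_option autoImplicit false
set_option linter.style.haveILetI false

/-! S5006 units C1 and C4: Sylow 23-subgroups of `M24` are self-centralizing; the centralizer of
an element of order 11 has order dividing 22; there are at least 11128320 elements of order 11. -/

namespace Cfsg.Agent.Lib.Helper8.M24Loc

open Cfsg Finset Cfsg.Agent.Lib.Helper8.M22Loc

instance finite_M24 : Finite ↥M24 := Nat.finite_of_card_ne_zero (by rw [card_M24]; norm_num)

/-- Sylow `p`-subgroups of `M24` have order `p` for `p = 5, 7, 11, 23` -/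
theorem sylow_card24 (p : ℕ) [hp : Fact p.Prime] (h : p = 5 ∨ p = 7 ∨ p = 11 ∨ p = 23)
    (P : Sylow p ↥M24) : Nat.card P = p := by
  rcases h with rfl | rfl | rfl | rfl
  · exact Cfsg.Agent.Lib.Lead.SylowCount.card_sylow_of_card_eq 5 48964608
      (by rw [card_M24]) (by norm_num) P
  · exact Cfsg.Agent.Lib.Lead.SylowCount.card_sylow_of_card_eq 7 34974720
      (by rw [card_M24]) (by norm_num) P
  · exact Cfsg.Agent.Lib.Lead.SylowCount.card_sylow_of_card_eq 11 22256640
      (by rw [card_M24]) (by norm_num) P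
  · exact Cfsg.Agent.Lib.Lead.SylowCount.card_sylow_of_card_eq 23 10644480
      (by rw [card_M24]) (by norm_num) P

/-- C1: Sylow 23-subgroups of `M24` are self-centralizing -/
theorem centralizer_sylow23 [hp : Fact (Nat.Prime 23)] (P : Sylow 23 ↥M24) :
    Subgroup.centralizer ((P : Subgroup ↥M24) : Set ↥M24) = (P : Subgroup ↥M24) := by
  have hP := sylow_card24 23 (by simp) P
  obtain ⟨x', hx'⟩ := exists_prime_orderOf_dvd_card' (G := ↥(P : Subgroup ↥M24)) 23
    (by rw [hP])
  obtain ⟨x, hxdef⟩ : ∃ x : ↥M24, x = (x' : ↥M24) := ⟨_, rfl⟩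
  have hox : orderOf x = 23 := by rw [hxdef, Subgroup.orderOf_coe]; exact hx'
  have hxP : x ∈ (P : Subgroup ↥M24) := by rw [hxdef]; exact x'.2
  have hPz : Subgroup.zpowers x = (P : Subgroup ↥M24) := by
    apply Subgroup.eq_of_le_of_card_ge (Subgroup.zpowers_le.mpr hxP)
    rw [Nat.card_zpowers, hox]
    exact hP.le
  have hPC : (P : Subgroup ↥M24) ≤
      Subgroup.centralizer ((P : Subgroup ↥M24) : Set ↥M24) := by
    intro a ha
    rw [Subgroup.mem_centralizer_iff]
    intro b hb
    have hb' : b ∈ (P : Subgroup ↥M24) := hb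
    rw [← hPz] at ha hb'
    obtain ⟨i, rfl⟩ := Subgroup.mem_zpowers_iff.mp ha
    obtain ⟨j, rfl⟩ := Subgroup.mem_zpowers_iff.mp hb'
    exact (Commute.zpow_zpow_self x j i).eq
  symm
  apply Subgroup.eq_of_le_of_card_ge hPC
  by_contra hlt
  push Not at hlt
  obtain ⟨C, hCdef⟩ : ∃ C : Subgroup ↥M24,
      C = Subgroup.centralizer ((P : Subgroup ↥M24) : Set ↥M24) := ⟨_, rfl⟩
  rw [← hCdef] at hlt hPC
  have hdvd : Nat.card (P : Subgroup ↥M24) ∣ Nat.card C := Subgroup.card_dvd_of_le hPC
  obtain ⟨m, hm⟩ := hdvd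
  rw [hP] at hm
  have hm2 : m ≠ 1 := by
    rintro rfl
    rw [hm, mul_one, hP] at hlt
    exact lt_irrefl _ hlt
  obtain ⟨q, hq, hqm⟩ := Nat.exists_prime_and_dvd hm2
  have hCdvd : Nat.card C ∣ 244823040 := by
    rw [← card_M24]; exact Subgroup.card_subgroup_dvd_card C
  have hqC : q ∣ Nat.card C := by rw [hm]; exact Dvd.dvd.mul_left hqm 23
  have hq5 := prime_dvd_card hq (hqC.trans hCdvd)
  have hpq : q ≠ 23 := by
    rintro rfl
    have : 23 * 23 ∣ 244823040 := by
      refine dvd_trans ?_ hCdvd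
      rw [hm]; exact Nat.mul_dvd_mul_left 23 hqm
    norm_num at this
  haveI : Fact q.Prime := ⟨hq⟩
  obtain ⟨y', hy'⟩ := exists_prime_orderOf_dvd_card' (G := ↥C) q hqC
  have hoy : orderOf (y' : ↥M24) = q := by rw [Subgroup.orderOf_coe]; exact hy'
  have hyC : (y' : ↥M24) ∈
      Subgroup.centralizer ((P : Subgroup ↥M24) : Set ↥M24) := by
    rw [← hCdef]; exact y'.2
  have hcomm : x * (y' : ↥M24) = (y' : ↥M24) * x :=
    Subgroup.mem_centralizer_iff.mp hyC x hxP
  refine no_commuting24 (x : Equiv.Perm GolayPt) ((y' : ↥M24) : Equiv.Perm GolayPt) x.2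
    (y' : ↥M24).2 (congrArg Subtype.val hcomm) 23 q (Or.inl ⟨rfl, ?_⟩)
    (by rw [Subgroup.orderOf_coe]; exact hox) (by rw [Subgroup.orderOf_coe]; exact hoy)
  rcases hq5 with h | h | h | h | h | h
  · exact Or.inl h
  · exact Or.inr (Or.inl h)
  · exact Or.inr (Or.inr (Or.inl h))
  · exact Or.inr (Or.inr (Or.inr (Or.inl h)))
  · exact Or.inr (Or.inr (Or.inr (Or.inr h)))
  · exact absurd h hpq

/-- a general count: if the Sylow `p`-subgroups have order `p` and a centralizer of one of them
has order at most `b`, then there are at least `|A| / b` elements of order `p` -/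
theorem card_le_card_orderOf_mul {A : Type*} [Group A] [Finite A] (p : ℕ) [hp : Fact p.Prime]
    (hc : ∀ P : Sylow p A, Nat.card P = p) (P : Sylow p A) (b : ℕ)
    (hb : Nat.card (Subgroup.centralizer ((P : Subgroup A) : Set A)) ≤ b) :
    Nat.card A ≤ Nat.card {x : A // orderOf x = p} * b := by
  rw [Cfsg.Agent.Lib.Helper7.M22S1.h7_card_orderOf_eq p hc]
  have h1 := Cfsg.Agent.Lib.Lead.SylowCount.relIndex_centralizer_normalizer_dvd (P : Subgroup A)
  haveI : IsCyclic (P : Subgroup A) := isCyclic_of_prime_card (hc P)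
  rw [IsCyclic.card_mulAut, show Nat.card (P : Subgroup A) = p from hc P,
    Nat.totient_prime hp.out] at h1
  have he : (Subgroup.centralizer ((P : Subgroup A) : Set A)).relIndex
      (Subgroup.normalizer ((P : Subgroup A) : Set A)) ≤ p - 1 :=
    Nat.le_of_dvd (by have := hp.out.two_le; omega) h1
  have h2 := Cfsg.Agent.Lib.Lead.SylowCount.card_mul_relIndex
    (Subgroup.centralizer_le_normalizer ((P : Subgroup A) : Set A))
  have h3 : Nat.card (Sylow p A) *
      Nat.card (Subgroup.normalizer ((P : Subgroup A) : Set A)) = Nat.card A :=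
    Cfsg.Agent.Lib.Lead.SylowCount.card_sylow_mul_card_normalizer p P
  rw [← h3, ← h2]
  calc Nat.card (Sylow p A) * (Nat.card (Subgroup.centralizer ((P : Subgroup A) : Set A)) *
        (Subgroup.centralizer ((P : Subgroup A) : Set A)).relIndex
          (Subgroup.normalizer ((P : Subgroup A) : Set A)))
      ≤ Nat.card (Sylow p A) * (b * (p - 1)) :=
        Nat.mul_le_mul_left _ (Nat.mul_le_mul hb he)
    _ = Nat.card (Sylow p A) * (p - 1) * b := by ring

end Cfsg.Agent.Lib.Helper8.M24Loc
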