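import Cfsg.Agent.Lib.Helper8.M24LocC

set_option autoImplicit false
set_option linter.style.haveILetI false

/-! S5006 units C4 and C2 (K2): in `M24` the centralizer of an element of order 11 has order
dividing 22 and that of an element of order 5 has order dividing 60; lower bounds for the numbers
of elements of orders 11 and 5. -/

namespace Cfsg.Agent.Lib.Helper8.M24Loc

open Cfsg Finset Cfsg.Agent.Lib.Helper8.M22Loc

/-- elements of a subgroup of order `p ^ k` -/
theorem pow_card_of_mem {T : Subgroup (Equiv.Perm GolayPt)} {n : ℕ} (hT : Nat.card T = n)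
    {u : Equiv.Perm GolayPt} (hu : u ∈ T) : u ^ n = 1 := by
  haveI : Finite ↥T := inferInstance
  have h := pow_card_eq_one' (G := ↥T) (x := ⟨u, hu⟩)
  rw [hT] at h
  exact congrArg Subtype.val h

/-- a `2`-subgroup of the centralizer of an element of order 5 or 11 acts semiregularly on its
fixed points -/
theorem semiregular_two (xp : Equiv.Perm GolayPt) (hx : xp ∈ M24) (p : ℕ) (hp : p = 5 ∨ p = 11)
    (hox : orderOf xp = p) (T : Subgroup (Equiv.Perm GolayPt)) (k : ℕ) (hT : Nat.card T = 2 ^ k)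
    (hTm : ∀ u ∈ T, u ∈ M24 ∧ xp * u = u * xp) (a : GolayPt) :
    ∀ u ∈ T, u a = a → u = 1 := by
  intro u hu hua
  by_contra hu1
  obtain ⟨m, hm⟩ := exists_pow_orderOf_two u k (pow_card_of_mem hT hu) hu1
  obtain ⟨hsM, hsc⟩ := hTm (u ^ m) (T.pow_mem hu m)
  have h0 := invol_fpf xp (u ^ m) hx hsM hsc p hp hox hm
  have ha : a ∈ fixSet (u ^ m) := fixSet_subset_pow u m ((mem_fixSet u a).mpr hua)
  rw [card_eq_zero] at h0
  rw [h0] at ha
  exact absurd ha (notMem_empty a)

/-- C4: the centralizer of an element of order 11 of `M24` has order dividing 22 -/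
theorem card_centralizer11_dvd (x : ↥M24) (hx : orderOf x = 11) :
    Nat.card (Subgroup.centralizer ({x} : Set ↥M24)) ∣ 22 := by
  haveI : Fact (Nat.Prime 2) := ⟨Nat.prime_two⟩
  haveI : Fact (Nat.Prime 3) := ⟨Nat.prime_three⟩
  haveI : Fact (Nat.Prime 5) := ⟨by norm_num⟩
  haveI : Fact (Nat.Prime 7) := ⟨by norm_num⟩
  haveI : Fact (Nat.Prime 23) := ⟨by norm_num⟩
  have hxM : (x : Equiv.Perm GolayPt) ∈ M24 := x.2
  have hxo : orderOf (x : Equiv.Perm GolayPt) = 11 := by rw [Subgroup.orderOf_coe]; exact hx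
  have hfx : (fixSet (x : Equiv.Perm GolayPt)).card = 2 :=
    fpMp (x : Equiv.Perm GolayPt) hxM 11 (by simp) hxo
  have hdvd : Nat.card (Subgroup.centralizer ({x} : Set ↥M24)) ∣ 2 ^ 10 * 239085 := by
    have := Subgroup.card_subgroup_dvd_card (Subgroup.centralizer ({x} : Set ↥M24))
    rw [card_M24] at this
    exact this
  have hodd : ∀ q : ℕ, [Fact q.Prime] → (q = 3 ∨ q = 5 ∨ q = 7 ∨ q = 23) →
      ¬ q ^ (0 + 1) ∣ Nat.card (Subgroup.centralizer ({x} : Set ↥M24)) := by
    intro q _ hq hd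
    rw [zero_add, pow_one] at hd
    obtain ⟨y, hyM, hyc, hyo⟩ := exists_perm_orderOf x q hd
    exact no_commuting24 _ y hxM hyM hyc 11 q (Or.inr (Or.inl ⟨rfl, hq⟩)) hxo hyo
  have h2 : ¬ 2 ^ (1 + 1) ∣ Nat.card (Subgroup.centralizer ({x} : Set ↥M24)) := by
    intro hd
    obtain ⟨T, hT, hTm⟩ := exists_perm_subgroup x 2 (1 + 1) hd
    obtain ⟨a, ha⟩ : (fixSet (x : Equiv.Perm GolayPt)).Nonempty := card_pos.mp (by omega)
    have := card_le_of_semiregular T (fixSet (x : Equiv.Perm GolayPt)) a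
      (fun u hu => commute_invariant u _ (hTm u hu).2.symm a ha)
      (semiregular_two _ hxM 11 (by simp) hxo T (1 + 1) hT hTm a)
    rw [hT, hfx] at this
    norm_num at this
  have s1 := dvd_pow_mul_of_not_dvd Nat.prime_two 10 1 239085 _ hdvd h2
  have s2 := dvd_pow_mul_of_not_dvd Nat.prime_three 3 0 17710 _
    (by rw [show 3 ^ 3 * 17710 = 2 ^ 1 * 239085 by norm_num]; exact s1) (hodd 3 (by simp))
  have s3 := dvd_pow_mul_of_not_dvd (p := 5) (by norm_num) 1 0 3542 _
    (by rw [show 5 ^ 1 * 3542 = 3 ^ 0 * 17710 by norm_num]; exact s2) (hodd 5 (by simp))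
  have s4 := dvd_pow_mul_of_not_dvd (p := 7) (by norm_num) 1 0 506 _
    (by rw [show 7 ^ 1 * 506 = 5 ^ 0 * 3542 by norm_num]; exact s3) (hodd 7 (by simp))
  have s5 := dvd_pow_mul_of_not_dvd (p := 23) (by norm_num) 1 0 22 _
    (by rw [show 23 ^ 1 * 22 = 7 ^ 0 * 506 by norm_num]; exact s4) (hodd 23 (by simp))
  simpa using s5

/-- C2 (K2), first half: the centralizer of an element of order 5 of `M24` has order dividing 60 -/
theorem card_centralizer5_dvd (x : ↥M24) (hx : orderOf x = 5) :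
    Nat.card (Subgroup.centralizer ({x} : Set ↥M24)) ∣ 60 := by
  haveI : Fact (Nat.Prime 2) := ⟨Nat.prime_two⟩
  haveI : Fact (Nat.Prime 3) := ⟨Nat.prime_three⟩
  haveI : Fact (Nat.Prime 7) := ⟨by norm_num⟩
  haveI : Fact (Nat.Prime 11) := ⟨by norm_num⟩
  haveI : Fact (Nat.Prime 23) := ⟨by norm_num⟩
  obtain ⟨xp, hxp⟩ : ∃ xp : Equiv.Perm GolayPt, xp = (x : Equiv.Perm GolayPt) := ⟨_, rfl⟩
  have hxM : xp ∈ M24 := by rw [hxp]; exact x.2
  have hxo : orderOf xp = 5 := by rw [hxp, Subgroup.orderOf_coe]; exact hx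
  have hfx : (fixSet xp).card = 4 := fpMp xp hxM 5 (by simp) hxo
  have hdvd : Nat.card (Subgroup.centralizer ({x} : Set ↥M24)) ∣ 2 ^ 10 * 239085 := by
    have := Subgroup.card_subgroup_dvd_card (Subgroup.centralizer ({x} : Set ↥M24))
    rw [card_M24] at this
    exact this
  have hodd : ∀ q : ℕ, [Fact q.Prime] → (q = 7 ∨ q = 11 ∨ q = 23) →
      ¬ q ^ (0 + 1) ∣ Nat.card (Subgroup.centralizer ({x} : Set ↥M24)) := by
    intro q _ hq hd
    rw [zero_add, pow_one] at hd
    obtain ⟨y, hyM, hyc, hyo⟩ := exists_perm_orderOf x q hd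
    rw [← hxp] at hyc
    exact no_commuting24 _ y hxM hyM hyc 5 q (Or.inr (Or.inr ⟨rfl, hq⟩)) hxo hyo
  have h2 : ¬ 2 ^ (2 + 1) ∣ Nat.card (Subgroup.centralizer ({x} : Set ↥M24)) := by
    intro hd
    obtain ⟨T, hT, hTm⟩ := exists_perm_subgroup x 2 (2 + 1) hd
    rw [← hxp] at hTm
    obtain ⟨a, ha⟩ : (fixSet xp).Nonempty := card_pos.mp (by omega)
    have := card_le_of_semiregular T (fixSet xp) a
      (fun u hu => commute_invariant u _ (hTm u hu).2.symm a ha)
      (semiregular_two _ hxM 5 (by simp) hxo T (2 + 1) hT hTm a)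
    rw [hT, hfx] at this
    norm_num at this
  have h3 : ¬ 3 ^ (1 + 1) ∣ Nat.card (Subgroup.centralizer ({x} : Set ↥M24)) := by
    intro hd
    obtain ⟨R, hR, hRm⟩ := exists_perm_subgroup x 3 (1 + 1) hd
    rw [← hxp] at hRm
    haveI : Finite ↥R := inferInstance
    -- an element of order three in `R`
    obtain ⟨y0', hy0'⟩ := exists_prime_orderOf_dvd_card' (G := ↥R) 3 (by rw [hR]; norm_num)
    obtain ⟨y0, hy0def⟩ : ∃ y0 : Equiv.Perm GolayPt, y0 = (y0' : Equiv.Perm GolayPt) := ⟨_, rfl⟩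
    have hy0R : y0 ∈ R := by rw [hy0def]; exact y0'.2
    have hy0o : orderOf y0 = 3 := by rw [hy0def, Subgroup.orderOf_coe]; exact hy0'
    obtain ⟨hy0M, hy0c⟩ := hRm y0 hy0R
    have hone := three_inter xp y0 hxM hy0M hy0c hxo hy0o
    obtain ⟨a, hadef⟩ := card_eq_one.mp hone
    have haI : a ∈ fixSet y0 ∩ fixSet xp := by rw [hadef]; exact mem_singleton_self a
    -- `R` is abelian, so it fixes `a`
    have hab : ∀ r ∈ R, r * y0 = y0 * r := by
      intro r hr
      have := IsPGroup.commutative_of_card_eq_prime_sq (p := 3) (G := ↥R) (by rw [hR])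
        ⟨r, hr⟩ ⟨y0, hy0R⟩
      exact congrArg Subtype.val this
    have hRa : ∀ r ∈ R, r a = a := by
      intro r hr
      have h1 : r a ∈ fixSet y0 := commute_invariant r y0 (hab r hr) a (mem_inter.mp haI).1
      have h2 : r a ∈ fixSet xp :=
        commute_invariant r xp (hRm r hr).2.symm a (mem_inter.mp haI).2
      have : r a ∈ fixSet y0 ∩ fixSet xp := mem_inter.mpr ⟨h1, h2⟩
      rw [hadef] at this
      exact mem_singleton.mp this
    -- another fixed point of `x`
    obtain ⟨b, hb, hba⟩ : ∃ b ∈ fixSet xp, b ≠ a := by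
      by_contra hcon
      push Not at hcon
      have : fixSet xp ⊆ {a} := fun b hb => mem_singleton.mpr (hcon b hb)
      have := card_le_card this
      rw [hfx, card_singleton] at this
      omega
    have hle := card_le_of_semiregular R ((fixSet xp).erase a) b
      (fun r hr => by
        rw [mem_erase]
        refine ⟨?_, commute_invariant r xp (hRm r hr).2.symm b hb⟩
        intro h
        apply hba
        apply r.injective
        rw [h, hRa r hr])
      (fun r hr hrb => by
        by_contra hr1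
        obtain ⟨m, hm⟩ := exists_pow_orderOf_three r (1 + 1) (pow_card_of_mem hR hr) hr1
        obtain ⟨hyM, hyc⟩ := hRm (r ^ m) (R.pow_mem hr m)
        have hone' := three_inter xp (r ^ m) hxM hyM hyc hxo hm
        have hsub : ({a, b} : Finset GolayPt) ⊆ fixSet (r ^ m) ∩ fixSet xp := by
          intro c hc
          rw [mem_insert, mem_singleton] at hc
          rw [mem_inter]
          rcases hc with rfl | rfl
          · exact ⟨fixSet_subset_pow r m ((mem_fixSet r c).mpr (hRa r hr)), (mem_inter.mp haI).2⟩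
          · exact ⟨fixSet_subset_pow r m ((mem_fixSet r c).mpr hrb), hb⟩
        have := card_le_card hsub
        rw [hone', card_pair hba.symm] at this
        omega)
    rw [hR, card_erase_of_mem (mem_inter.mp haI).2, hfx] at hle
    norm_num at hle
  have s1 := dvd_pow_mul_of_not_dvd Nat.prime_two 10 2 239085 _ hdvd h2
  have s2 := dvd_pow_mul_of_not_dvd Nat.prime_three 3 1 35420 _
    (by rw [show 3 ^ 3 * 35420 = 2 ^ 2 * 239085 by norm_num]; exact s1) h3
  have s3 := dvd_pow_mul_of_not_dvd (p := 7) (by norm_num) 1 0 15180 _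
    (by rw [show 7 ^ 1 * 15180 = 3 ^ 1 * 35420 by norm_num]; exact s2) (hodd 7 (by simp))
  have s4 := dvd_pow_mul_of_not_dvd (p := 11) (by norm_num) 1 0 1380 _
    (by rw [show 11 ^ 1 * 1380 = 7 ^ 0 * 15180 by norm_num]; exact s3) (hodd 11 (by simp))
  have s5 := dvd_pow_mul_of_not_dvd (p := 23) (by norm_num) 1 0 60 _
    (by rw [show 23 ^ 1 * 60 = 11 ^ 0 * 1380 by norm_num]; exact s4) (hodd 23 (by simp))
  simpa using s5

/-- counting elements of order `p` from a bound on the centralizers of elements of order `p` -/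
theorem card_orderOf_ge (p b : ℕ) [hp : Fact p.Prime] (hp' : p = 5 ∨ p = 7 ∨ p = 11 ∨ p = 23)
    (hb : ∀ x : ↥M24, orderOf x = p → Nat.card (Subgroup.centralizer ({x} : Set ↥M24)) ∣ b)
    (hb0 : 0 < b) : 244823040 ≤ Nat.card {x : ↥M24 // orderOf x = p} * b := by
  have hc : ∀ P : Sylow p ↥M24, Nat.card P = p := fun P => sylow_card24 p hp' P
  obtain ⟨P⟩ : Nonempty (Sylow p ↥M24) := inferInstance
  obtain ⟨x', hx'⟩ := exists_prime_orderOf_dvd_card' (G := ↥(P : Subgroup ↥M24)) p
    (by rw [hc P])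
  have hox : orderOf (x' : ↥M24) = p := by rw [Subgroup.orderOf_coe]; exact hx'
  have hle : Subgroup.centralizer ((P : Subgroup ↥M24) : Set ↥M24) ≤
      Subgroup.centralizer ({(x' : ↥M24)} : Set ↥M24) := by
    apply Subgroup.centralizer_le
    intro y hy
    rw [Set.mem_singleton_iff] at hy
    rw [hy]
    exact x'.2
  have h1 : Nat.card (Subgroup.centralizer ((P : Subgroup ↥M24) : Set ↥M24)) ≤ b :=
    Nat.le_of_dvd hb0 ((Subgroup.card_dvd_of_le hle).trans (hb _ hox))
  have := card_le_card_orderOf_mul p hc P b h1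
  rwa [card_M24] at this

/-- C4: there are at least 11128320 elements of order 11 in `M24` -/
theorem card_orderOf_eleven_ge : 11128320 ≤ Nat.card {x : ↥M24 // orderOf x = 11} := by
  haveI : Fact (Nat.Prime 11) := ⟨by norm_num⟩
  have := card_orderOf_ge 11 22 (by simp) card_centralizer11_dvd (by norm_num)
  omega

/-- C2 (K2): there are at least 4080384 elements of order 5 in `M24` -/
theorem card_orderOf_five_ge : 4080384 ≤ Nat.card {x : ↥M24 // orderOf x = 5} := by
  haveI : Fact (Nat.Prime 5) := ⟨by norm_num⟩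
  have := card_orderOf_ge 5 60 (by simp) card_centralizer5_dvd (by norm_num)
  omega

end Cfsg.Agent.Lib.Helper8.M24Loc
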