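import Cfsg.Agent.Lib.Helper8.M24LocD
import Cfsg.Agent.Lib.Helper8.M22Loc

set_option autoImplicit false
set_option linter.style.haveILetI false

/-! S5006 unit C2 (K1): the centralizer in `M24` of every element of order 5 has order divisible
by four (explicit element of order 5 with two commuting involutions in its centralizer, and
Sylow's theorem). -/

namespace Cfsg.Agent.Lib.Helper8.M24Loc

open Cfsg Finset Cfsg.Agent.Lib.Helper8.M22Loc Cfsg.Agent.Lib.Helper9.M24T1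
  Cfsg.Agent.Lib.Helper9.M24U1

/-- an element of order five -/
def e5 : Equiv.Perm GolayPt :=
  tperm [6, 16, 2, 14, 21, 18, 20, 17, 22, 9, 23, 10, 4, 13, 15, 5, 0, 12, 3, 19, 1, 7, 11, 8]
    [16, 20, 2, 18, 12, 15, 0, 21, 23, 9, 11, 22, 17, 13, 3, 14, 1, 7, 5, 19, 6, 4, 8, 10]
    (by decide +kernel) (by decide +kernel)

/-- first involution -/
def i5a : Equiv.Perm GolayPt :=
  tperm [15, 3, 9, 1, 8, 6, 5, 11, 4, 2, 17, 7, 23, 19, 16, 0, 14, 10, 20, 13, 18, 22, 21, 12]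
    [15, 3, 9, 1, 8, 6, 5, 11, 4, 2, 17, 7, 23, 19, 16, 0, 14, 10, 20, 13, 18, 22, 21, 12]
    (by decide +kernel) (by decide +kernel)

/-- second involution -/
def i5b : Equiv.Perm GolayPt :=
  tperm [21, 12, 13, 23, 16, 11, 7, 6, 14, 19, 18, 5, 1, 2, 8, 22, 4, 20, 10, 9, 17, 0, 15, 3]
    [21, 12, 13, 23, 16, 11, 7, 6, 14, 19, 18, 5, 1, 2, 8, 22, 4, 20, 10, 9, 17, 0, 15, 3]
    (by decide +kernel) (by decide +kernel)

theorem e5_mem : e5 ∈ M24 := tperm_mem _ _ _ _ (by decide +kernel) (by decide +kernel)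

theorem i5a_mem : i5a ∈ M24 := tperm_mem _ _ _ _ (by decide +kernel) (by decide +kernel)

theorem i5b_mem : i5b ∈ M24 := tperm_mem _ _ _ _ (by decide +kernel) (by decide +kernel)

theorem e5_pow : e5 ^ 5 = 1 := Equiv.ext (by decide +kernel)

theorem e5_ne : e5 ≠ 1 := by
  intro h
  have := congrArg (fun f : Equiv.Perm GolayPt => f (some 0)) h
  revert this
  decide +kernel

theorem i5a_sq : i5a ^ 2 = 1 := Equiv.ext (by decide +kernel)

theorem i5b_sq : i5b ^ 2 = 1 := Equiv.ext (by decide +kernel)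

theorem i5a_ne : i5a ≠ 1 := by
  intro h
  have := congrArg (fun f : Equiv.Perm GolayPt => f (some 0)) h
  revert this
  decide +kernel

theorem i5b_ne : i5b ≠ 1 := by
  intro h
  have := congrArg (fun f : Equiv.Perm GolayPt => f (some 0)) h
  revert this
  decide +kernel

theorem i5_ne : i5a ≠ i5b := by
  intro h
  have := congrArg (fun f : Equiv.Perm GolayPt => f (some 0)) h
  revert this
  decide +kernel

theorem i5_comm : i5a * i5b = i5b * i5a := Equiv.ext (by decide +kernel)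

theorem i5a_comm : i5a * e5 = e5 * i5a := Equiv.ext (by decide +kernel)

theorem i5b_comm : i5b * e5 = e5 * i5b := Equiv.ext (by decide +kernel)

theorem orderOf_e5 : orderOf e5 = 5 :=
  haveI : Fact (Nat.Prime 5) := ⟨by norm_num⟩
  orderOf_eq_prime e5_pow e5_ne

/-- C2 (K1): four divides the order of the centralizer of every element of order five -/
theorem four_dvd_centralizer5 (g : ↥M24) (hg : orderOf g = 5) :
    4 ∣ Nat.card (Subgroup.centralizer ({g} : Set ↥M24)) := by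
  haveI : Fact (Nat.Prime 5) := ⟨by norm_num⟩
  haveI : Fact (Nat.Prime 2) := ⟨Nat.prime_two⟩
  -- the two Sylow subgroups
  have hmult : (Nat.card ↥M24).factorization 5 = 1 := by
    rw [card_M24, show (244823040 : ℕ) = 5 * 48964608 by norm_num]
    exact Cfsg.Agent.Lib.Helper8.M22Loc.fact_prime_mul (by norm_num) (by norm_num)
  have hcz : ∀ z : ↥M24, orderOf z = 5 →
      Nat.card (Subgroup.zpowers z) = 5 ^ (Nat.card ↥M24).factorization 5 := by
    intro z hz
    rw [Nat.card_zpowers, hz, hmult, pow_one]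
  obtain ⟨x0, hx0⟩ : ∃ x0 : ↥M24, x0 = ⟨e5, e5_mem⟩ := ⟨_, rfl⟩
  have hx0o : orderOf x0 = 5 := by
    rw [hx0, Subgroup.orderOf_mk]; exact orderOf_e5
  let Pg : Sylow 5 ↥M24 := Sylow.ofCard (Subgroup.zpowers g) (hcz g hg)
  let P0 : Sylow 5 ↥M24 := Sylow.ofCard (Subgroup.zpowers x0) (hcz x0 hx0o)
  obtain ⟨h, hh⟩ := MulAction.exists_smul_eq ↥M24 Pg P0
  have h1 : h * g * h⁻¹ ∈ ((h • Pg : Sylow 5 ↥M24) : Subgroup ↥M24) := by
    rw [Sylow.coe_subgroup_smul]
    have hgm : g ∈ (Pg : Subgroup ↥M24) := Subgroup.mem_zpowers g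
    have := Subgroup.smul_mem_pointwise_smul _ (MulAut.conj h) _ hgm
    rwa [MulAut.smul_def, MulAut.conj_apply] at this
  rw [hh] at h1
  have h2 : h * g * h⁻¹ ∈ Subgroup.zpowers x0 := h1
  obtain ⟨i, hi⟩ := Subgroup.mem_zpowers_iff.mp h2
  -- the conjugated involutions
  obtain ⟨a0, ha0⟩ : ∃ a0 : ↥M24, a0 = ⟨i5a, i5a_mem⟩ := ⟨_, rfl⟩
  obtain ⟨b0, hb0⟩ : ∃ b0 : ↥M24, b0 = ⟨i5b, i5b_mem⟩ := ⟨_, rfl⟩
  have ha0x : a0 * x0 = x0 * a0 := by
    rw [ha0, hx0]; exact Subtype.ext i5a_comm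
  have hb0x : b0 * x0 = x0 * b0 := by
    rw [hb0, hx0]; exact Subtype.ext i5b_comm
  have hab0 : a0 * b0 = b0 * a0 := by
    rw [ha0, hb0]; exact Subtype.ext i5_comm
  have ha0o : orderOf a0 = 2 := by
    rw [ha0, Subgroup.orderOf_mk]; exact orderOf_eq_prime i5a_sq i5a_ne
  have hb0o : orderOf b0 = 2 := by
    rw [hb0, Subgroup.orderOf_mk]; exact orderOf_eq_prime i5b_sq i5b_ne
  have hne0 : a0 ≠ b0 := by
    rw [ha0, hb0]
    intro hEq
    exact i5_ne (congrArg Subtype.val hEq)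
  -- commute with `h g h⁻¹ = x0 ^ i`
  have hac : a0 * (h * g * h⁻¹) = (h * g * h⁻¹) * a0 := by
    rw [← hi]
    exact (Commute.zpow_right (show Commute a0 x0 from ha0x) i).eq
  have hbc : b0 * (h * g * h⁻¹) = (h * g * h⁻¹) * b0 := by
    rw [← hi]
    exact (Commute.zpow_right (show Commute b0 x0 from hb0x) i).eq
  have key : ∀ s : ↥M24, s * (h * g * h⁻¹) = (h * g * h⁻¹) * s →
      h⁻¹ * s * h ∈ Subgroup.centralizer ({g} : Set ↥M24) := by
    intro s hs
    rw [Subgroup.mem_centralizer_iff]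
    intro w hw
    rw [Set.mem_singleton_iff] at hw
    rw [hw]
    have : g * (h⁻¹ * s * h) = h⁻¹ * ((h * g * h⁻¹) * s) * h := by group
    rw [this, ← hs]
    group
  have hord : ∀ s : ↥M24, orderOf (h⁻¹ * s * h) = orderOf s := by
    intro s
    have := MulEquiv.orderOf_eq (MulAut.conj h⁻¹) s
    rw [MulAut.conj_apply, inv_inv] at this
    exact this
  have := four_dvd_card_of_commuting_involutions
    (A := ↥(Subgroup.centralizer ({g} : Set ↥M24)))
    ⟨h⁻¹ * a0 * h, key a0 hac⟩ ⟨h⁻¹ * b0 * h, key b0 hbc⟩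
    (by rw [Subgroup.orderOf_mk, hord, ha0o]) (by rw [Subgroup.orderOf_mk, hord, hb0o])
    (by
      apply Subtype.ext
      show h⁻¹ * a0 * h * (h⁻¹ * b0 * h) = h⁻¹ * b0 * h * (h⁻¹ * a0 * h)
      have e1 : h⁻¹ * a0 * h * (h⁻¹ * b0 * h) = h⁻¹ * (a0 * b0) * h := by group
      have e2 : h⁻¹ * b0 * h * (h⁻¹ * a0 * h) = h⁻¹ * (b0 * a0) * h := by group
      rw [e1, e2, hab0])
    (by
      intro hEq
      have h3 : h⁻¹ * a0 * h = h⁻¹ * b0 * h := congrArg Subtype.val hEq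
      apply hne0
      have e1 : a0 = h * (h⁻¹ * a0 * h) * h⁻¹ := by group
      rw [e1, h3]
      group)
  exact this

end Cfsg.Agent.Lib.Helper8.M24Loc
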