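import Cfsg.Agent.Lib.Helper8.M24LocE

set_option autoImplicit false
set_option linter.style.haveILetI false

/-! S5006 units C1, C2 (K5, N5), C4 in the verbatim shapes of helper2's stub file. -/

namespace Cfsg.Agent.Lib.Helper8.M24Loc

/-- **C1** -/
theorem c1_H23 (P : Sylow 23 ↥Cfsg.M24) :
    Subgroup.centralizer ((P : Subgroup ↥Cfsg.M24) : Set ↥Cfsg.M24) =
      (P : Subgroup ↥Cfsg.M24) := by
  haveI : Fact (Nat.Prime 23) := ⟨by norm_num⟩
  exact centralizer_sylow23 P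

/-- **C2/K5** -/
theorem c2_K5 (g : ↥Cfsg.M24) (hg : orderOf g = 5) :
    2 ^ 2 ∣ Nat.card (Subgroup.centralizer ({g} : Set ↥Cfsg.M24)) := by
  have h := four_dvd_centralizer5 g hg
  simpa using h

/-- **C2/N5** -/
theorem c2_N5 : 4080384 ≤ Nat.card {x : ↥Cfsg.M24 // orderOf x = 5} :=
  card_orderOf_five_ge

/-- **C4** -/
theorem c4_N11 : 11128320 ≤ Nat.card {x : ↥Cfsg.M24 // orderOf x = 11} :=
  card_orderOf_eleven_ge

end Cfsg.Agent.Lib.Helper8.M24Loc
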