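import Mathlib

/-! S4245 (a cyclic-by-(cyclic 2-group) subgroup of prime-power index forces solvability): the hypothesis, and its
inheritance by normal subgroups and quotients. -/

set_option autoImplicit false

namespace Cfsg.Agent.Lib.Helper8.MCyc

universe u

/-- `G` has a subgroup `A` of `p`-power index with a homomorphism onto (into) a cyclic `2`-group with cyclic kernel. -/
def MC (p : ℕ) (G : Type u) [Group G] : Prop :=
  ∃ (A : Subgroup G) (C : Type u) (_ : Group C) (f : ↥A →* C),
    IsCyclic C ∧ (∃ r : ℕ, Nat.card C = 2 ^ r) ∧ IsCyclic ↥f.ker ∧ ∃ s : ℕ, A.index = p ^ s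

/-- `|N : N ∩ S|` divides `|G : S|` when `N` is normal -/
theorem relIndex_dvd_index_right {G : Type*} [Group G] [Finite G] (S N : Subgroup G) [N.Normal] :
    S.relIndex N ∣ S.index := by
  have h1 : Nat.card N * N.relIndex (S ⊔ N) = Nat.card (S ⊔ N : Subgroup G) := by
    rw [← Subgroup.relIndex_bot_left, Subgroup.relIndex_mul_relIndex _ _ _ bot_le le_sup_right,
      Subgroup.relIndex_bot_left]
  have h2 : Nat.card (S ⊓ N : Subgroup G) * N.relIndex S = Nat.card S := by
    rw [← Subgroup.inf_relIndex_left, inf_comm, ← Subgroup.relIndex_bot_left,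
      Subgroup.relIndex_mul_relIndex _ _ _ bot_le inf_le_right, Subgroup.relIndex_bot_left]
  have h3 : Nat.card (S ⊓ N : Subgroup G) * S.relIndex N = Nat.card N := by
    rw [← Subgroup.inf_relIndex_right, ← Subgroup.relIndex_bot_left,
      Subgroup.relIndex_mul_relIndex _ _ _ bot_le inf_le_right, Subgroup.relIndex_bot_left]
  have h4 : Nat.card S * S.relIndex (S ⊔ N) = Nat.card (S ⊔ N : Subgroup G) := by
    rw [← Subgroup.relIndex_bot_left, Subgroup.relIndex_mul_relIndex _ _ _ bot_le le_sup_left,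
      Subgroup.relIndex_bot_left]
  rw [Subgroup.relIndex_sup_right] at h1
  have h5 : S.relIndex (S ⊔ N) = S.relIndex N := by
    have hpos : 0 < Nat.card S := Nat.card_pos
    have hpos2 : 0 < Nat.card (S ⊓ N : Subgroup G) := Nat.card_pos
    have e : Nat.card S * Nat.card (S ⊓ N : Subgroup G) * S.relIndex (S ⊔ N)
        = Nat.card S * Nat.card (S ⊓ N : Subgroup G) * S.relIndex N := by
      calc Nat.card S * Nat.card (S ⊓ N : Subgroup G) * S.relIndex (S ⊔ N)
          = Nat.card (S ⊓ N : Subgroup G) * (Nat.card S * S.relIndex (S ⊔ N)) := by ring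
        _ = Nat.card (S ⊓ N : Subgroup G) * (Nat.card N * N.relIndex S) := by rw [h4, h1]
        _ = Nat.card N * (Nat.card (S ⊓ N : Subgroup G) * N.relIndex S) := by ring
        _ = Nat.card S * (Nat.card (S ⊓ N : Subgroup G) * S.relIndex N) := by rw [h2, h3]; ring
        _ = Nat.card S * Nat.card (S ⊓ N : Subgroup G) * S.relIndex N := by ring
    exact Nat.eq_of_mul_eq_mul_left (Nat.mul_pos hpos hpos2) e
  rw [← h5]
  exact Subgroup.relIndex_dvd_index_of_le le_sup_left

/-- inheritance by normal subgroups -/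
theorem MC.of_normal {p : ℕ} (hp : p.Prime) {G : Type u} [Group G] [Finite G] (h : MC p G)
    (N : Subgroup G) [N.Normal] : MC p ↥N := by
  obtain ⟨A, C, _, f, hC, hr, hker, s, hs⟩ := h
  let ι : ↥(A.subgroupOf N) →* ↥A := N.subtype.subgroupComap A
  have hι : Function.Injective ι := by
    intro x y hxy
    have h1 : ((ι x : ↥A) : G) = ((ι y : ↥A) : G) := congrArg Subtype.val hxy
    exact Subtype.ext (Subtype.ext h1)
  refine ⟨A.subgroupOf N, C, _, f.comp ι, hC, hr, ?_, ?_⟩
  · let j : ↥(f.comp ι).ker →* ↥f.ker :=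
      (ι.domRestrict (f.comp ι).ker).codRestrict f.ker (fun x => by
        have hx : (f.comp ι) x.1 = 1 := MonoidHom.mem_ker.mp x.2
        exact MonoidHom.mem_ker.mpr hx)
    have hj : Function.Injective j := by
      intro x y hxy
      have h1 : ι x.1 = ι y.1 := congrArg Subtype.val hxy
      exact Subtype.ext (hι h1)
    exact isCyclic_of_injective j hj
  · have h1 : (A.subgroupOf N).index ∣ p ^ s := by
      rw [← hs]
      exact relIndex_dvd_index_right A N
    obtain ⟨j, -, hj⟩ := (Nat.dvd_prime_pow hp).1 h1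
    exact ⟨j, hj⟩

/-- inheritance by quotients -/
theorem MC.quotient {p : ℕ} (hp : p.Prime) {G : Type u} [Group G] [Finite G] (h : MC p G)
    (N : Subgroup G) [N.Normal] : MC p (G ⧸ N) := by
  obtain ⟨A, C, _, f, hC, ⟨r, hr⟩, hker, s, hs⟩ := h
  have hCfin : Finite C := Nat.finite_of_card_ne_zero (by rw [hr]; positivity)
  let π : ↥A →* ↥(A.map (QuotientGroup.mk' N)) := (QuotientGroup.mk' N).subgroupMap A
  have hπ : Function.Surjective π := (QuotientGroup.mk' N).subgroupMap_surjective A
  have hCc : IsMulCommutative C := IsCyclic.isMulCommutative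
  let D : Subgroup C := π.ker.map f
  have hDn : D.Normal := inferInstance
  let g : ↥A →* C ⧸ D := (QuotientGroup.mk' D).comp f
  have hle : π.ker ≤ g.ker := by
    intro x hx
    rw [MonoidHom.mem_ker]
    show (QuotientGroup.mk' D) (f x) = 1
    rw [QuotientGroup.mk'_apply, QuotientGroup.eq_one_iff]
    exact ⟨x, hx, rfl⟩
  let f' : ↥(A.map (QuotientGroup.mk' N)) →* C ⧸ D := π.liftOfSurjective hπ ⟨g, hle⟩
  have hf' : ∀ a : ↥A, f' (π a) = g a := fun a =>
    MonoidHom.liftOfRightInverse_comp_apply _ _ _ ⟨g, hle⟩ a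
  refine ⟨A.map (QuotientGroup.mk' N), C ⧸ D, inferInstance, f', ?_, ?_, ?_, ?_⟩
  · exact isCyclic_of_surjective (QuotientGroup.mk' D) (QuotientGroup.mk'_surjective D)
  · have h1 : Nat.card (C ⧸ D) ∣ 2 ^ r := by
      rw [← hr]
      exact Subgroup.card_quotient_dvd_card D
    obtain ⟨j, -, hj⟩ := (Nat.dvd_prime_pow Nat.prime_two).1 h1
    exact ⟨j, hj⟩
  · let j : ↥f.ker →* ↥f'.ker :=
      (π.domRestrict f.ker).codRestrict f'.ker (fun x => by
        rw [MonoidHom.mem_ker]
        show f' (π x.1) = 1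
        rw [hf']
        show (QuotientGroup.mk' D) (f x.1) = 1
        rw [MonoidHom.mem_ker.mp x.2, map_one])
    have hj : Function.Surjective j := by
      rintro ⟨y, hy⟩
      obtain ⟨a, rfl⟩ := hπ y
      have h1 : g a = 1 := by
        rw [← hf']
        exact MonoidHom.mem_ker.mp hy
      have h2 : f a ∈ D := by
        have : (QuotientGroup.mk' D) (f a) = 1 := h1
        rwa [QuotientGroup.mk'_apply, QuotientGroup.eq_one_iff] at this
      obtain ⟨n, hn, hfn⟩ := h2
      have hn' : π n = 1 := MonoidHom.mem_ker.mp hn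
      refine ⟨⟨a * n⁻¹, ?_⟩, ?_⟩
      · rw [MonoidHom.mem_ker, map_mul, map_inv, hfn, mul_inv_cancel]
      · apply Subtype.ext
        show π (a * n⁻¹) = π a
        rw [map_mul, map_inv, hn', inv_one, mul_one]
    exact isCyclic_of_surjective j hj
  · have h1 : (A.map (QuotientGroup.mk' N)).index ∣ p ^ s := by
      rw [← hs, Subgroup.index_map, MonoidHom.range_eq_top.2 (QuotientGroup.mk'_surjective N),
        Subgroup.index_top, mul_one]
      exact Subgroup.index_dvd_of_le le_sup_left
    obtain ⟨j, -, hj⟩ := (Nat.dvd_prime_pow hp).1 h1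
    exact ⟨j, hj⟩

end Cfsg.Agent.Lib.Helper8.MCyc
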