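import Mathlib
import Cfsg.Agent.S0143
import Cfsg.Agent.Lib.Helper8.MCycA

/-! S4245: the simple case and the induction. -/

set_option autoImplicit false

namespace Cfsg.Agent.Lib.Helper8.MCyc

universe u

/-- a simple group of prime order is solvable -/
theorem solvable_of_prime_card {G : Type*} [Group G] [Finite G] (h : (Nat.card G).Prime) : Group.IsSolvable G := by
  have := Fact.mk h
  have hcyc : IsCyclic G := isCyclic_of_prime_card (p := Nat.card G) rfl
  let _ : CommGroup G := IsCyclic.commGroup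
  exact Group.isSolvable_of_comm (fun x y => mul_comm x y)

/-- the simple case -/
theorem MC.solvable_of_simple {p : ℕ} (hp : p.Prime) {G : Type u} [Group G] [Finite G] [IsSimpleGroup G]
    (h : MC p G) : Group.IsSolvable G := by
  classical
  obtain ⟨A, C, _, f, hC, ⟨r, hr⟩, hker, s, hs⟩ := h
  have hCfin : Finite C := Nat.finite_of_card_ne_zero (by rw [hr]; positivity)
  have hCc : IsMulCommutative C := IsCyclic.isMulCommutative
  -- Burnside's `p^a` lemma
  have key : ∀ (a : G) (ℓ j : ℕ), ℓ.Prime → a ≠ 1 → (Subgroup.centralizer {a}).index = ℓ ^ j →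
      Group.IsSolvable G :=
    fun a ℓ j hℓ ha hj => solvable_of_prime_card (Cfsg.Agent.S0143.result ℓ j hℓ a ha hj)
  -- (i) `A` trivial
  by_cases hAbot : A = ⊥
  · have hcard : Nat.card G = p ^ s := by
      rw [← hs, hAbot, Subgroup.index_bot]
    have := Fact.mk hp
    have hGp : IsPGroup p G := IsPGroup.of_card hcard
    have := hGp.isNilpotent
    infer_instance
  -- (ii) `A` has a nontrivial central element
  by_cases hZ : ∃ a ∈ A, a ≠ 1 ∧ ∀ x ∈ A, x * a = a * x
  · obtain ⟨a, haA, ha1, hcomm⟩ := hZ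
    have hle : A ≤ Subgroup.centralizer {a} := by
      intro x hx
      rw [Subgroup.mem_centralizer_singleton_iff]
      exact hcomm x hx
    have hidx : (Subgroup.centralizer {a}).index ∣ p ^ s := hs ▸ Subgroup.index_dvd_of_le hle
    obtain ⟨j, -, hj⟩ := (Nat.dvd_prime_pow hp).1 hidx
    exact key a p j hp ha1 hj
  push Not at hZ
  -- (iii) the centre of `A` is trivial
  -- `A` is not commutative
  have hAnc : ¬ (∀ x y : ↥A, x * y = y * x) := by
    intro hcomm
    obtain ⟨a, haA, ha1⟩ : ∃ a ∈ A, a ≠ 1 := by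
      by_contra hcon
      push Not at hcon
      apply hAbot
      rw [eq_bot_iff]
      intro a ha
      rw [Subgroup.mem_bot]
      exact hcon a ha
    obtain ⟨x, hx, hne⟩ := hZ a haA ha1
    exact hne (congrArg Subtype.val (hcomm ⟨x, hx⟩ ⟨a, haA⟩))
  -- the kernel is commutative
  have hBc : IsMulCommutative ↥f.ker := IsCyclic.isMulCommutative
  have hBcomm : ∀ x y : ↥A, x ∈ f.ker → y ∈ f.ker → x * y = y * x :=
    fun x y hx hy => setLike_mul_comm hx hy
  -- the kernel is not everything and not trivial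
  have hfinj : ¬ Function.Injective f := by
    intro hinj
    apply hAnc
    intro x y
    apply hinj
    rw [map_mul, map_mul]
    exact mul_comm' (f x) (f y)
  have hfnt : ¬ (∀ x : ↥A, f x = 1) := by
    intro ht
    apply hAnc
    intro x y
    exact hBcomm x y (MonoidHom.mem_ker.mpr (ht x)) (MonoidHom.mem_ker.mpr (ht y))
  -- a generator of `A` modulo the kernel
  have hRc : IsCyclic ↥f.range := Subgroup.isCyclic _
  obtain ⟨γ, hγ⟩ := IsCyclic.exists_generator (α := ↥f.range)
  obtain ⟨c, hc⟩ := γ.2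
  have hgen : ∀ a : ↥A, ∃ k : ℤ, (c ^ k)⁻¹ * a ∈ f.ker := by
    intro a
    obtain ⟨k, hk⟩ := Subgroup.mem_zpowers_iff.mp (hγ ⟨f a, MonoidHom.mem_range.mpr ⟨a, rfl⟩⟩)
    refine ⟨k, ?_⟩
    have h1 : (f c) ^ k = f a := by
      have := congrArg Subtype.val hk
      rw [Subgroup.coe_zpow, ← hc] at this
      exact this
    rw [MonoidHom.mem_ker, map_mul, map_inv, map_zpow, h1, inv_mul_cancel]
  -- elements of the kernel commuting with `c` are trivial
  have hcentral : ∀ z : ↥A, z ∈ f.ker → c * z = z * c → z = 1 := by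
    intro z hz hcz
    by_contra hz1
    have hz1' : (z : G) ≠ 1 := fun h => hz1 (Subtype.ext h)
    obtain ⟨x, hx, hne⟩ := hZ z z.2 hz1'
    apply hne
    obtain ⟨k, hk⟩ := hgen ⟨x, hx⟩
    have hczk : Commute (c ^ k) z := (Commute.zpow_left (show Commute c z from hcz) k)
    have hbz : ((c ^ k)⁻¹ * ⟨x, hx⟩) * z = z * ((c ^ k)⁻¹ * ⟨x, hx⟩) := hBcomm _ _ hk hz
    have hxz : (⟨x, hx⟩ : ↥A) * z = z * ⟨x, hx⟩ := by
      have e : (⟨x, hx⟩ : ↥A) = c ^ k * ((c ^ k)⁻¹ * ⟨x, hx⟩) := by rw [mul_inv_cancel_left]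
      calc (⟨x, hx⟩ : ↥A) * z = c ^ k * (((c ^ k)⁻¹ * ⟨x, hx⟩) * z) := by
            rw [← mul_assoc, ← e]
        _ = c ^ k * (z * ((c ^ k)⁻¹ * ⟨x, hx⟩)) := by rw [hbz]
        _ = (c ^ k * z) * ((c ^ k)⁻¹ * ⟨x, hx⟩) := by rw [mul_assoc]
        _ = (z * c ^ k) * ((c ^ k)⁻¹ * ⟨x, hx⟩) := by rw [hczk.eq]
        _ = z * ⟨x, hx⟩ := by rw [mul_assoc, mul_inv_cancel_left]
    exact congrArg Subtype.val hxz
  -- the kernel has odd order
  have hBodd : ¬ 2 ∣ Nat.card ↥f.ker := by
    intro h2
    have : Fintype ↥f.ker := Fintype.ofFinite _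
    rw [Nat.card_eq_fintype_card] at h2
    have hcard := IsCyclic.card_orderOf_eq_totient (α := ↥f.ker) h2
    rw [Nat.totient_two] at hcard
    obtain ⟨z, hz⟩ := Finset.card_eq_one.mp hcard
    have hzmem : z ∈ (Finset.univ.filter fun a : ↥f.ker => orderOf a = 2) := by
      rw [hz]; exact Finset.mem_singleton_self z
    have hzo : orderOf z = 2 := (Finset.mem_filter.mp hzmem).2
    -- the conjugate of `z` by `c`
    have hconj : c * z.1 * c⁻¹ ∈ f.ker := (inferInstance : f.ker.Normal).conj_mem z.1 z.2 c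
    have hzo' : orderOf (⟨c * z.1 * c⁻¹, hconj⟩ : ↥f.ker) = 2 := by
      rw [← Subgroup.orderOf_coe]
      show orderOf (c * z.1 * c⁻¹) = 2
      have : orderOf (c * z.1 * c⁻¹) = orderOf z.1 :=
        orderOf_injective (MulAut.conj c).toMonoidHom (MulEquiv.injective _) z.1
      rw [this, Subgroup.orderOf_coe]
      exact hzo
    have hmem' : (⟨c * z.1 * c⁻¹, hconj⟩ : ↥f.ker) ∈ (Finset.univ.filter fun a : ↥f.ker => orderOf a = 2) :=
      Finset.mem_filter.mpr ⟨Finset.mem_univ _, hzo'⟩
    rw [hz, Finset.mem_singleton] at hmem'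
    have h3 : c * z.1 * c⁻¹ = z.1 := congrArg Subtype.val hmem'
    have h4 : c * z.1 = z.1 * c := by
      calc c * z.1 = (c * z.1 * c⁻¹) * c := by rw [inv_mul_cancel_right]
        _ = z.1 * c := by rw [h3]
    have h5 : z.1 = 1 := hcentral z.1 z.2 h4
    have h6 : z = 1 := Subtype.ext h5
    rw [h6, orderOf_one] at hzo
    omega
  -- the kernel is not trivial
  obtain ⟨b, hbker, hb1⟩ : ∃ b : ↥A, b ∈ f.ker ∧ b ≠ 1 := by
    by_contra hcon
    push Not at hcon
    apply hfinj
    rw [injective_iff_map_eq_one]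
    intro a ha
    exact hcon a (MonoidHom.mem_ker.mpr ha)
  -- the order of the range
  have hrange : ∃ r' : ℕ, Nat.card ↥f.range = 2 ^ r' := by
    have h1 : Nat.card ↥f.range ∣ 2 ^ r := by
      rw [← hr]
      exact Subgroup.card_subgroup_dvd_card _
    obtain ⟨j, -, hj⟩ := (Nat.dvd_prime_pow Nat.prime_two).1 h1
    exact ⟨j, hj⟩
  obtain ⟨r', hr'⟩ := hrange
  have hkeridx : f.ker.index = 2 ^ r' := by rw [Subgroup.index_ker, hr']
  by_cases hp2 : p = 2
  · -- every element of the kernel has a class of `2`-power size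
    have hle : f.ker.map A.subtype ≤ Subgroup.centralizer {(b : G)} := by
      rintro _ ⟨y, hy, rfl⟩
      rw [Subgroup.mem_centralizer_singleton_iff]
      exact congrArg Subtype.val (hBcomm y b hy hbker)
    have hidx : (Subgroup.centralizer {(b : G)}).index ∣ 2 ^ (r' + s) := by
      have h1 := Subgroup.index_dvd_of_le hle
      rw [Subgroup.index_map_subtype, hkeridx, hs, hp2, ← pow_add] at h1
      exact h1
    obtain ⟨j, -, hj⟩ := (Nat.dvd_prime_pow Nat.prime_two).1 hidx
    exact key (b : G) 2 j Nat.prime_two (fun h => hb1 (Subtype.ext h)) hj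
  · -- `p` odd: a cyclic Sylow `2`-subgroup
    have : Fact (Nat.Prime 2) := ⟨Nat.prime_two⟩
    have hr'0 : r' ≠ 0 := by
      intro h0
      rw [h0, pow_zero] at hr'
      apply hfnt
      intro x
      have hsub : Subsingleton ↥f.range := (Nat.card_eq_one_iff_unique.mp hr').1
      have : (⟨f x, MonoidHom.mem_range.mpr ⟨x, rfl⟩⟩ : ↥f.range) = 1 := Subsingleton.elim _ _
      exact congrArg Subtype.val this
    obtain ⟨Q⟩ : Nonempty (Sylow 2 ↥A) := inferInstance
    have hQB : (Q : Subgroup ↥A) ⊓ f.ker = ⊥ := by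
      apply disjoint_iff.mp
      apply Subgroup.disjoint_of_coprime_natCard
      obtain ⟨n, hn⟩ := IsPGroup.iff_card.mp Q.2
      rw [hn]
      apply Nat.Coprime.pow_left
      exact (Nat.Prime.coprime_iff_not_dvd Nat.prime_two).mpr hBodd
    have hQinj : Function.Injective (f.comp (Q : Subgroup ↥A).subtype) := by
      rw [injective_iff_map_eq_one]
      intro x hx
      have h1 : (x : ↥A) ∈ (Q : Subgroup ↥A) ⊓ f.ker := ⟨x.2, MonoidHom.mem_ker.mpr hx⟩
      rw [hQB, Subgroup.mem_bot] at h1
      exact Subtype.ext h1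
    have hQcyc : IsCyclic ↥(Q : Subgroup ↥A) := isCyclic_of_injective _ hQinj
    -- the cardinality of `G`
    have hcardG : Nat.card G = p ^ s * Nat.card ↥A := by
      rw [← hs, mul_comm]
      exact (Subgroup.card_mul_index A).symm
    have hcardA : Nat.card ↥A = Nat.card ↥f.ker * 2 ^ r' := by
      rw [← hkeridx]
      exact (Subgroup.card_mul_index f.ker).symm
    have h2G : 2 ∣ Nat.card G := by
      rw [hcardG, hcardA]
      apply Dvd.dvd.mul_left
      apply Dvd.dvd.mul_left
      exact dvd_pow_self 2 hr'0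
    have hfact : (Nat.card G).factorization 2 = (Nat.card ↥A).factorization 2 := by
      rw [hcardG, Nat.factorization_mul (pow_ne_zero _ hp.ne_zero) Nat.card_pos.ne',
        Nat.factorization_pow, hp.factorization]
      simp [hp2]
    -- the Sylow subgroup of `G`
    have hcardQ : Nat.card ↥((Q : Subgroup ↥A).map A.subtype) = 2 ^ (Nat.card G).factorization 2 := by
      rw [hfact, ← Q.card_eq_multiplicity]
      exact Nat.card_congr ((Q : Subgroup ↥A).equivMapOfInjective A.subtype A.subtype_injective).symm.toEquiv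
    let P : Sylow 2 G := Sylow.ofCard ((Q : Subgroup ↥A).map A.subtype) hcardQ
    have hPcyc : IsCyclic ↥(P : Subgroup G) := by
      show IsCyclic ↥((Q : Subgroup ↥A).map A.subtype)
      exact isCyclic_of_surjective ((Q : Subgroup ↥A).equivMapOfInjective A.subtype A.subtype_injective)
        (MulEquiv.surjective _)
    have hmin : (Nat.card G).minFac = 2 := (Nat.minFac_eq_two_iff _).mpr h2G
    have hK := IsCyclic.isComplement' hmin hPcyc
    rcases (MonoidHom.normal_ker
      (MonoidHom.transferSylow P (hPcyc.normalizer_le_centralizer hmin))).eq_bot_or_eq_top with hKb | hKt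
    · rw [hKb, Subgroup.isComplement'_bot_left] at hK
      have hcard : Nat.card G = 2 ^ (Nat.card G).factorization 2 := by
        rw [← P.card_eq_multiplicity, hK, Subgroup.card_top]
      have hG2 : IsPGroup 2 G := IsPGroup.of_card hcard
      have := hG2.isNilpotent
      infer_instance
    · rw [hKt, Subgroup.isComplement'_top_left] at hK
      exact absurd hK (P.ne_bot_of_dvd_card h2G)

/-- the induction -/
theorem MC.solvable_aux {p : ℕ} (hp : p.Prime) : ∀ (n : ℕ) (G : Type u) [Group G] [Finite G], Nat.card G = n →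
    MC p G → Group.IsSolvable G := by
  intro n
  induction n using Nat.strong_induction_on with
  | _ n ih =>
  intro G _ _ hn hMC
  by_cases hsub : Subsingleton G
  · infer_instance
  rw [not_subsingleton_iff_nontrivial] at hsub
  by_cases hsimple : IsSimpleGroup G
  · exact hMC.solvable_of_simple hp
  · have : ∃ N : Subgroup G, N.Normal ∧ N ≠ ⊥ ∧ N ≠ ⊤ := by
      by_contra hcon
      push Not at hcon
      apply hsimple
      exact ⟨fun N hN => by
        by_contra h
        push Not at h
        exact h.2 (hcon N hN h.1)⟩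
    obtain ⟨N, hN, hbot, htop⟩ := this
    have hmul := N.card_mul_index
    have hidx1 : N.index ≠ 1 := fun h => htop (Subgroup.index_eq_one.mp h)
    have hcard1 : Nat.card N ≠ 1 := fun h => hbot (Subgroup.card_eq_one.mp h)
    have hidx0 : N.index ≠ 0 := Subgroup.index_ne_zero_of_finite
    have hcard0 : Nat.card N ≠ 0 := Nat.card_pos.ne'
    rw [Group.isSolvable_iff_subgroup_quotient N]
    constructor
    · apply ih (Nat.card N) _ N rfl (hMC.of_normal hp N)
      rw [← hn, ← hmul]
      have : 2 ≤ N.index := by omega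
      nlinarith [Nat.pos_of_ne_zero hcard0]
    · apply ih (Nat.card (G ⧸ N)) _ (G ⧸ N) rfl (hMC.quotient hp N)
      rw [← Subgroup.index_eq_card, ← hn, ← hmul]
      have : 2 ≤ Nat.card N := by omega
      nlinarith [Nat.pos_of_ne_zero hidx0]

end Cfsg.Agent.Lib.Helper8.MCyc
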