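import Cfsg.Agent.Lib.Helper6.MIdxQ1
import Cfsg.Agent.Lib.Helper8.MIdxQ6a
import Cfsg.Agent.Lib.Helper7.MIdxQ6b

/-! S1589 farm, piece Q6c: a subgroup of `M24` of order 322560 (index 759) is the stabilizer of an octad. -/

set_option autoImplicit false

namespace Cfsg.Agent.Lib.Helper6.MIdx

open Cfsg Finset MulAction Cfsg.Agent.Lib.Helper9.OutM Cfsg.Agent.Lib.Helper9.M24T3
  Cfsg.Agent.Lib.Helper9.M24T9 Cfsg.Agent.Lib.Helper9.M24P1
open scoped Pointwise

/-- the orbit of a point outside an orbit is disjoint from it -/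
theorem h8_orb_disjoint (K : Subgroup (Equiv.Perm GolayPt)) (c d : GolayPt) (hd : d ∉ orbF K c) :
    Disjoint (orbF K d) (orbF K c) := by
  rw [disjoint_left]
  intro a had hac
  apply hd
  obtain ⟨g, hg, hga⟩ := (mem_orbF K d a).mp had
  obtain ⟨h, hh, hha⟩ := (mem_orbF K c a).mp hac
  rw [mem_orbF]
  refine ⟨g⁻¹ * h, K.mul_mem (K.inv_mem hg) hh, ?_⟩
  rw [Equiv.Perm.mul_apply, hha, ← hga]
  exact g.symm_apply_apply d

theorem index759 (K : Subgroup (Equiv.Perm GolayPt)) (hK : K ≤ M24) (hc : Nat.card K = 322560) :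
    ∃ O ∈ octads, K = stabF O := by
  by_cases h : ∃ c, (orbF K c).card = 8
  · obtain ⟨c, h8⟩ := h
    obtain ⟨h1, h2⟩ := octad_of_orbit8 K hK hc c h8
    exact ⟨_, h1, h2⟩
  · push Not at h
    exfalso
    have h24c : Fintype.card GolayPt = 24 := by decide
    have h24 : ∀ c, (orbF K c).card = 24 := by
      intro c
      by_contra hne
      have hd8 := orb_dvd8 K hK hc c
      have hpos := orb_card_pos K c
      have hle := h6_orb_card_le K c
      have hne8 := h c
      have h16 : (orbF K c).card = 16 := by omega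
      obtain ⟨d, hd⟩ : ∃ d, d ∉ orbF K c := by
        by_contra hall
        push Not at hall
        have hu : orbF K c = univ := eq_univ_iff_forall.mpr hall
        rw [hu, card_univ] at h16
        omega
      have hdisj := h8_orb_disjoint K c d hd
      have h1 := card_union_of_disjoint hdisj
      have h2 := card_le_univ (orbF K d ∪ orbF K c)
      have h3 := orb_dvd8 K hK hc d
      have h4 := orb_card_pos K d
      have h5 := h d
      omega
    exact no_trans_322560 K hK hc (trans_of_orb24 K h24)

end Cfsg.Agent.Lib.Helper6.MIdx
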