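import Mathlib
import Cfsg.Agent.Lib.Helper1.MNDDefs
import Cfsg.Agent.Lib.Helper8.MNDA2a

set_option autoImplicit false
set_option linter.unusedSectionVars false
set_option linter.unusedSimpArgs false
set_option linter.unusedVariables false

/-!
Farm MND, unit A2: `hb_mem_commutator` - the root element `X_β(t)` is a commutator inside the
stabiliser of `λ_c`.
-/

namespace Cfsg.Agent.Lib.Helper8.MND

open Matrix Cfsg Cfsg.Agent.Lib.Lead.LS1 Cfsg.Agent.Lib.Helper1.MND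
open scoped commutatorElement

section torus

variable {F : Type*} [Field F] [Fintype F]

theorem hb_mem_case3 (c : Fin (1 + 2) → F) (hc1 : c 1 = 0) (hc2 : c 2 ≠ 0) (δ : F) (hδ0 : δ ≠ 0)
    (hδ : δ ^ 2 ≠ 1) (t : F) :
    (hb t : GG (1 + 2) F) ∈ ⁅StabC c, StabC c⁆ := by
  have hdet : (!![δ, 0, (-(c 0) / c 2) * (δ - 1); 0, δ⁻¹, 0; 0, 0, 1] : Matrix (Fin 3) (Fin 3) F).det
      = 1 := by
    rw [Matrix.det_fin_three]
    simp [hδ0]
  have hd1 : δ ^ 2 - 1 ≠ 0 := sub_ne_zero.mpr hδ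
  refine hb_mem_of c t ⟨_, hdet⟩ (tvS (t / (δ ^ 2 - 1))) ?_ ?_ ?_
  · show (!![δ, 0, (-(c 0) / c 2) * (δ - 1); 0, δ⁻¹, 0; 0, 0, 1] : Matrix (Fin 3) (Fin 3) F) *ᵥ c = c
    ext i
    fin_cases i
    · simp [Matrix.mulVec, dotProduct, Fin.sum_univ_three]
      field_simp
      ring
    · simp [Matrix.mulVec, dotProduct, Fin.sum_univ_three, hc1]
    · simp [Matrix.mulVec, dotProduct, Fin.sum_univ_three]
  · rw [tvS_eq_xS, xS_mulVec, hc1, mul_zero, zero_smul, add_zero]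
  · apply Subtype.ext
    show (!![δ, 0, (-(c 0) / c 2) * (δ - 1); 0, δ⁻¹, 0; 0, 0, 1] : Matrix (Fin 3) (Fin 3) F)
        * transvection 0 1 (t / (δ ^ 2 - 1))
      = transvection 0 1 t * transvection 0 1 (t / (δ ^ 2 - 1))
        * (!![δ, 0, (-(c 0) / c 2) * (δ - 1); 0, δ⁻¹, 0; 0, 0, 1] : Matrix (Fin 3) (Fin 3) F)
    rw [transvection_mul_transvection_same _ _ (by simp)]
    ext i j
    fin_cases i <;> fin_cases j <;>
      simp [transvection, Matrix.mul_apply, Fin.sum_univ_three, Matrix.single_apply, Matrix.add_apply]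
    field_simp
    ring

end torus

section torus0

variable {F : Type*} [Field F] [Fintype F]

/-- the torus element `diag(δ; δ, δ⁻²)` of `SL_3` -/
def tor0 (δ : F) (hδ0 : δ ≠ 0) : GG (0 + 2) F :=
  ⟨fromBlocks (diagonal fun _ => δ) 0 0 (diagonal ![δ, δ⁻¹ ^ 2]), by
    rw [det_fromBlocks_zero₂₁, det_diagonal, det_diagonal, Fin.prod_univ_two]
    simp
    field_simp⟩

theorem tor0_mul_xm (δ : F) (hδ0 : δ ≠ 0) (u : Fin (0 + 2) → F) :
    tor0 δ hδ0 * xm u = xm ![u 0, δ ^ 3 * u 1] * tor0 δ hδ0 := by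
  apply Subtype.ext
  show fromBlocks (diagonal fun _ => δ) 0 0 (diagonal ![δ, δ⁻¹ ^ 2])
      * fromBlocks 1 (replicateRow Unit u) 0 1
    = fromBlocks 1 (replicateRow Unit ![u 0, δ ^ 3 * u 1]) 0 1
      * fromBlocks (diagonal fun _ => δ) 0 0 (diagonal ![δ, δ⁻¹ ^ 2])
  rw [fromBlocks_multiply, fromBlocks_multiply]
  congr 1
  · simp
  · ext i j
    fin_cases j
    · simp [Matrix.mul_apply, mul_comm]
    · simp [Matrix.mul_apply]
      field_simp
  · simp
  · simp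

theorem tor0_mem (δ : F) (hδ0 : δ ≠ 0) (c : Fin (0 + 2) → F) (hc1 : c 1 = 0) :
    tor0 δ hδ0 ∈ StabC c := by
  refine ⟨fun u => ![u 0, δ ^ 3 * u 1], fun u => ![u 0, δ⁻¹ ^ 3 * u 1], fun u => ?_, fun u => ?_,
    fun u => ?_, fun u => ?_⟩
  · rw [mul_inv_eq_iff_eq_mul]
    exact tor0_mul_xm δ hδ0 u
  · rw [mul_assoc, inv_mul_eq_iff_eq_mul, tor0_mul_xm]
    congr 2
    ext j
    fin_cases j
    · simp
    · simp
      field_simp
  · simp [dotProduct, Fin.sum_univ_two, hc1]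
  · simp [dotProduct, Fin.sum_univ_two, hc1]

theorem tor0_mul_hb (δ : F) (hδ0 : δ ≠ 0) (t : F) :
    tor0 δ hδ0 * hb t = hb (δ ^ 3 * t) * tor0 δ hδ0 := by
  apply Subtype.ext
  show fromBlocks (diagonal fun _ => δ) 0 0 (diagonal ![δ, δ⁻¹ ^ 2])
      * fromBlocks 1 0 0 (transvection 0 1 t)
    = fromBlocks 1 0 0 (transvection 0 1 (δ ^ 3 * t))
      * fromBlocks (diagonal fun _ => δ) 0 0 (diagonal ![δ, δ⁻¹ ^ 2])
  rw [fromBlocks_multiply, fromBlocks_multiply]
  congr 1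
  · simp
  · simp
  · simp
  · simp only [Matrix.zero_mul, zero_add]
    ext i j
    fin_cases i <;> fin_cases j <;>
      simp [transvection, Matrix.mul_apply, Fin.sum_univ_two, Matrix.single_apply,
        Matrix.add_apply, Matrix.diagonal_apply]
    field_simp

theorem hb_add (t u : F) {m : ℕ} : (hb (t + u) : GG (m + 2) F) = hb t * hb u := by
  show gm (tvS (t + u)) = gm (tvS t) * gm (tvS u)
  rw [← gm_mul]
  congr 1
  apply Subtype.ext
  show transvection 0 1 (t + u) = transvection 0 1 t * transvection 0 1 u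
  rw [transvection_mul_transvection_same _ _ (by simp)]

theorem hb_mem_case0 (c : Fin (0 + 2) → F) (hc1 : c 1 = 0) (δ : F) (hδ0 : δ ≠ 0)
    (hδ : δ ^ 3 ≠ 1) (t : F) :
    (hb t : GG (0 + 2) F) ∈ ⁅StabC c, StabC c⁆ := by
  have hd1 : δ ^ 3 - 1 ≠ 0 := sub_ne_zero.mpr hδ
  have h1 : ⁅tor0 δ hδ0, (hb (t / (δ ^ 3 - 1)) : GG (0 + 2) F)⁆ = hb t := by
    apply comm_eq_of_mul_eq
    rw [tor0_mul_hb, ← hb_add]
    congr 2
    field_simp
    ring
  rw [← h1]
  refine Subgroup.commutator_mem_commutator (tor0_mem δ hδ0 c hc1) (gm_mem_StabC _ c ?_)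
  rw [tvS_eq_xS, xS_mulVec, hc1, mul_zero, zero_smul, add_zero]

end torus0

section final

variable {F : Type*} [Field F] [Fintype F] [DecidableEq F] {m k : ℕ}

theorem exists_delta (e : ℕ) (he : ¬ (Fintype.card F - 1) ∣ e) : ∃ δ : F, δ ≠ 0 ∧ δ ^ e ≠ 1 := by
  classical
  obtain ⟨g, hg⟩ := IsCyclic.exists_generator (α := Fˣ)
  have hord : orderOf g = Fintype.card F - 1 := by
    rw [orderOf_eq_card_of_forall_mem_zpowers hg, Nat.card_eq_fintype_card, Fintype.card_units]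
  refine ⟨g, g.ne_zero, fun h => he ?_⟩
  rw [← hord]
  apply orderOf_dvd_of_pow_eq_one
  apply Units.ext
  rw [Units.val_pow_eq_pow_val, h, Units.val_one]

theorem hb_mem_commutator (hex : ¬ Exc (m + 2) (Fintype.card F)) (c : Fin (m + 2) → F)
    (hc : c ≠ 0) (hc1 : c 1 = 0) (t : F) :
    (hb t : GG (m + 2) F) ∈ ⁅StabC c, StabC c⁆ := by
  have hq : 1 < Fintype.card F := Fintype.one_lt_card
  match m, hex, c, hc, hc1 with
  | 0, hex, c, hc, hc1 =>
    have h3 : ¬ (Fintype.card F - 1) ∣ 3 := by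
      intro h
      apply hex
      unfold Exc
      have h' := (Nat.dvd_prime Nat.prime_three).mp h
      omega
    obtain ⟨δ, hδ0, hδ⟩ := exists_delta (F := F) 3 h3
    exact hb_mem_case0 c hc1 δ hδ0 hδ t
  | 1, hex, c, hc, hc1 =>
    by_cases hc2 : c 2 = 0
    · exact hb_mem_case1 c hc1 2 (by decide) (by decide) hc2 t
    · have h2 : ¬ (Fintype.card F - 1) ∣ 2 := by
        intro h
        apply hex
        unfold Exc
        have h' := (Nat.dvd_prime Nat.prime_two).mp h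
        omega
      obtain ⟨δ, hδ0, hδ⟩ := exists_delta (F := F) 2 h2
      exact hb_mem_case3 c hc1 hc2 δ hδ0 hδ t
  | (m + 2), hex, c, hc, hc1 =>
    by_cases hc3 : c ⟨3, by omega⟩ = 0
    · exact hb_mem_case1 c hc1 ⟨3, by omega⟩ (by simp [Fin.ext_iff]) (by simp [Fin.ext_iff]) hc3 t
    · exact hb_mem_case2 c hc1 ⟨2, by omega⟩ ⟨3, by omega⟩ (by simp [Fin.ext_iff])
        (by simp [Fin.ext_iff]) (by simp [Fin.ext_iff]) (by simp [Fin.ext_iff]) hc3 t

end final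

end Cfsg.Agent.Lib.Helper8.MND
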