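import Cfsg.Agent.Lib.Helper8.SS6

set_option autoImplicit false
set_option linter.unusedSectionVars false
set_option linter.unusedVariables false

/-! Square matrices over `ZMod p` coded by natural numbers (10 bits per entry, row by row), with
kernel-friendly products (a row of the product is a combination of packed rows), for
certificates about explicit matrix groups. -/

namespace Cfsg.Agent.Lib.Helper8.MatN

open Cfsg.Agent.Lib.Helper8.SS

/-- evaluate the argument first (for kernel reduction). -/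
def withVal {α : Type} (v : ℕ) (f : ℕ → α) : α :=
  match v with
  | 0 => f 0
  | k + 1 => f (Nat.succ k)

theorem withVal_eq {α : Type} (v : ℕ) (f : ℕ → α) : withVal v f = f v := by
  cases v <;> rfl

/-- the `n`-th element of a list, by recursors (which the kernel evaluates quickly). -/
noncomputable def nthR {α : Type} (l : List α) (n : ℕ) (d : α) : α :=
  List.rec (motive := fun _ => ℕ → α) (fun _ => d)
    (fun a _ ih k => Nat.rec (motive := fun _ => α) a (fun k' _ => ih k') k) l n

theorem nthR_eq {α : Type} (l : List α) (n : ℕ) (d : α) : nthR l n d = l.getD n d := by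
  induction l generalizing n with
  | nil => rfl
  | cons a l ih =>
    cases n with
    | zero => rfl
    | succ n =>
      show nthR l n d = _
      rw [ih]
      rfl

/-- the sum of `f k` for `k < n`, by a loop that the kernel evaluates quickly. -/
noncomputable def sumLt (n : ℕ) (f : ℕ → ℕ) : ℕ :=
  Nat.rec (motive := fun _ => ℕ) 0 (fun k ih => Nat.add ih (f k)) n

theorem sumLt_eq (n : ℕ) (f : ℕ → ℕ) : sumLt n f = ∑ k ∈ Finset.range n, f k := by
  induction n with
  | zero => rfl
  | succ k ih =>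
    rw [Finset.sum_range_succ, ← ih]
    rfl

/-! ### digits -/

/-- the `y`-th digit of `N` in base `b`. -/
def dig (b N y : ℕ) : ℕ := N / b ^ y % b

theorem sum_pow_lt (b : ℕ) (f : ℕ → ℕ) (m : ℕ) (hf : ∀ j < m, f j < b) :
    ∑ j ∈ Finset.range m, f j * b ^ j < b ^ m := by
  induction m with
  | zero => simp
  | succ m ih =>
    rw [Finset.sum_range_succ, pow_succ]
    have ih' := ih (fun j hj => hf j (Nat.lt_succ_of_lt hj))
    have hfm := hf m (Nat.lt_succ_self m)
    have h1 : f m * b ^ m ≤ (b - 1) * b ^ m :=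
      Nat.mul_le_mul_right _ (Nat.le_pred_of_lt hfm)
    have hb : 0 < b := lt_of_le_of_lt (Nat.zero_le _) hfm
    have h2 : (b - 1) * b ^ m + b ^ m = b ^ m * b := by
      have : b - 1 + 1 = b := Nat.sub_add_cancel hb
      calc (b - 1) * b ^ m + b ^ m = (b - 1 + 1) * b ^ m := by ring
        _ = b ^ m * b := by rw [this, mul_comm]
    omega

theorem dig_sum (b : ℕ) (f : ℕ → ℕ) :
    ∀ m, (∀ j < m, f j < b) → ∀ y, y < m →
      dig b (∑ j ∈ Finset.range m, f j * b ^ j) y = f y := by
  intro m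
  induction m with
  | zero => intro _ y hy; exact absurd hy (Nat.not_lt_zero _)
  | succ m ih =>
    intro hf y hy
    have hb : 0 < b := lt_of_le_of_lt (Nat.zero_le _) (hf y hy)
    have hf' : ∀ j < m, f j < b := fun j hj => hf j (Nat.lt_succ_of_lt hj)
    rw [Finset.sum_range_succ]
    unfold dig
    rcases Nat.lt_succ_iff_lt_or_eq.mp hy with h | rfl
    · have hpow : b ^ m = b ^ (m - y - 1) * b * b ^ y := by
        rw [← pow_succ, ← pow_add]
        congr 1
        omega
      have e : f m * b ^ m = (f m * b ^ (m - y - 1) * b) * b ^ y := by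
        rw [hpow]
        ring
      rw [e, Nat.add_mul_div_right _ _ (pow_pos hb _), Nat.add_mul_mod_self_right]
      exact ih hf' y h
    · rw [Nat.add_mul_div_right _ _ (pow_pos hb _),
        Nat.div_eq_of_lt (sum_pow_lt b f y hf'), zero_add,
        Nat.mod_eq_of_lt (hf y (Nat.lt_succ_self y))]

theorem mod_pow_eq_sum (b X : ℕ) (m : ℕ) :
    X % b ^ m = ∑ j ∈ Finset.range m, dig b X j * b ^ j := by
  induction m with
  | zero => simp [Nat.mod_one]
  | succ m ih =>
    rw [Finset.sum_range_succ, ← ih, Nat.mod_pow_succ]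
    unfold dig
    ring

theorem dig_mod_pow (b : ℕ) (hb : 0 < b) (X m y : ℕ) (hy : y < m) :
    dig b (X % b ^ m) y = dig b X y := by
  rw [mod_pow_eq_sum]
  exact dig_sum b (dig b X) m (fun j _ => Nat.mod_lt _ hb) y hy

theorem get_eq_dig (N x : ℕ) : get N x = dig 1024 N x := by
  unfold SS.get dig
  rw [Nat.shiftRight_eq_div_pow, pow_mul]
  norm_num

theorem dig_div (b N s y : ℕ) : dig b (N / b ^ s) y = dig b N (s + y) := by
  unfold dig
  rw [Nat.div_div_eq_div_mul, ← pow_add]

variable (d p : ℕ)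

/-- entry `(i, j)` of the matrix coded by `A`. -/
def ent (A i j : ℕ) : ℕ := get A (d * i + j)

/-- entry `(i, j)`, by primitive operations. -/
def entR (A i j : ℕ) : ℕ :=
  Nat.mod (Nat.shiftRight A (Nat.mul 10 (Nat.add (Nat.mul d i) j))) 1024

theorem entR_eq (A i j : ℕ) : entR d A i j = ent d A i j := rfl

/-- the matrix over `ZMod p` coded by `A`. -/
def dec (A : ℕ) : Matrix (Fin d) (Fin d) (ZMod p) :=
  Matrix.of fun i j => ((ent d A i.1 j.1 : ℕ) : ZMod p)

/-- the entries are reduced. -/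
def Canon (A : ℕ) : Prop := ∀ i < d, ∀ j < d, ent d A i j < p

/-- the packed row `i`. -/
def rowR (A i : ℕ) : ℕ :=
  Nat.mod (Nat.div A (Nat.pow 1024 (Nat.mul d i))) (Nat.pow 1024 d)

/-- the packed row `i` of the product, before reduction. -/
noncomputable def rowU (A B i : ℕ) : ℕ :=
  sumLt d (fun k => Nat.mul (entR d A i k) (rowR d B k))

/-- reduce the entries of a packed row. -/
noncomputable def rowC (R : ℕ) : ℕ :=
  sumLt d (fun j => Nat.mul (Nat.mod (Nat.mod (Nat.div R (Nat.pow 1024 j)) 1024) p)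
    (Nat.pow 1024 j))

/-- the code of the product. -/
noncomputable def mulN (A B : ℕ) : ℕ :=
  withVal A (fun A' => withVal B (fun B' =>
    sumLt d (fun i => Nat.mul (withVal (rowU d A' B' i) (rowC d p))
      (Nat.pow (Nat.pow 1024 d) i))))

/-- the code of the identity. -/
noncomputable def idN : ℕ :=
  sumLt d (fun i => Nat.mul (Nat.pow 1024 i) (Nat.pow (Nat.pow 1024 d) i))

variable {d p}

theorem ent_eq_dig (A i j : ℕ) : ent d A i j = dig 1024 A (d * i + j) := get_eq_dig _ _

theorem rowR_eq (A i : ℕ) :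
    rowR d A i = ∑ j ∈ Finset.range d, ent d A i j * 1024 ^ j := by
  show A / 1024 ^ (d * i) % 1024 ^ d = _
  rw [mod_pow_eq_sum]
  apply Finset.sum_congr rfl
  intro j _
  rw [dig_div, ent_eq_dig]

theorem rowU_eq (A B i : ℕ) :
    rowU d A B i =
      ∑ j ∈ Finset.range d, (∑ k ∈ Finset.range d, ent d A i k * ent d B k j) * 1024 ^ j := by
  unfold rowU
  rw [sumLt_eq]
  have : ∀ k ∈ Finset.range d, Nat.mul (entR d A i k) (rowR d B k) =
      ∑ j ∈ Finset.range d, ent d A i k * ent d B k j * 1024 ^ j := by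
    intro k _
    show entR d A i k * rowR d B k = _
    rw [entR_eq, rowR_eq, Finset.mul_sum]
    apply Finset.sum_congr rfl
    intro j _
    ring
  rw [Finset.sum_congr rfl this, Finset.sum_comm]
  apply Finset.sum_congr rfl
  intro j _
  rw [Finset.sum_mul]

theorem dot_lt (hdp : d * p * p ≤ 1024) {A B : ℕ} (hA : Canon d p A) (hB : Canon d p B)
    {i : ℕ} (hi : i < d) (j : ℕ) (hj : j < d) :
    ∑ k ∈ Finset.range d, ent d A i k * ent d B k j < 1024 := by
  have hd : 0 < d := lt_of_le_of_lt (Nat.zero_le _) hi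
  have hp : 0 < p := lt_of_le_of_lt (Nat.zero_le _) (hA i hi j hj)
  have h1 : ∀ k ∈ Finset.range d, ent d A i k * ent d B k j ≤ (p - 1) * (p - 1) := by
    intro k hk
    have hk' := Finset.mem_range.mp hk
    exact Nat.mul_le_mul (Nat.le_pred_of_lt (hA i hi k hk')) (Nat.le_pred_of_lt (hB k hk' j hj))
  have h2 := Finset.sum_le_sum h1
  rw [Finset.sum_const, Finset.card_range, smul_eq_mul] at h2
  have h3 : d * ((p - 1) * (p - 1)) < d * (p * p) := by
    apply Nat.mul_lt_mul_of_pos_left _ hd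
    have : p - 1 < p := Nat.pred_lt (Nat.pos_iff_ne_zero.mp hp)
    exact Nat.mul_lt_mul'' this this
  calc _ ≤ d * ((p - 1) * (p - 1)) := h2
    _ < d * (p * p) := h3
    _ = d * p * p := by ring
    _ ≤ 1024 := hdp

theorem rowC_eq (R : ℕ) :
    rowC d p R = ∑ j ∈ Finset.range d, (dig 1024 R j % p) * 1024 ^ j := by
  unfold rowC
  rw [sumLt_eq]
  rfl

theorem ent_mulN (hp : 0 < p) (hp' : p ≤ 1024) (hdp : d * p * p ≤ 1024) {A B : ℕ}
    (hA : Canon d p A) (hB : Canon d p B) {i j : ℕ} (hi : i < d) (hj : j < d) :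
    ent d (mulN d p A B) i j = (∑ k ∈ Finset.range d, ent d A i k * ent d B k j) % p := by
  have h1024 : (0 : ℕ) < 1024 := by norm_num
  unfold mulN
  rw [withVal_eq, withVal_eq, sumLt_eq, ent_eq_dig]
  have hrow : ∀ i', (withVal (rowU d A B i') (rowC d p)) < 1024 ^ d := by
    intro i'
    rw [withVal_eq, rowC_eq]
    exact sum_pow_lt 1024 _ d (fun j _ => lt_of_lt_of_le (Nat.mod_lt _ hp) hp')
  have hsum : ∑ x ∈ Finset.range d, Nat.mul (withVal (rowU d A B x) (rowC d p))
      (Nat.pow (Nat.pow 1024 d) x) =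
      ∑ x ∈ Finset.range d, (withVal (rowU d A B x) (rowC d p)) * (1024 ^ d) ^ x := rfl
  rw [hsum]
  have e1 : ∀ N : ℕ, dig 1024 N (d * i + j) = dig 1024 (dig (1024 ^ d) N i) j := by
    intro N
    rw [show dig (1024 ^ d) N i = N / (1024 ^ d) ^ i % 1024 ^ d from rfl,
      dig_mod_pow 1024 h1024 _ d j hj]
    unfold dig
    rw [Nat.div_div_eq_div_mul, ← pow_mul, ← pow_add]
  rw [e1, dig_sum (1024 ^ d) _ d (fun i' _ => hrow i') i hi, withVal_eq, rowC_eq,
    dig_sum 1024 _ d (fun j _ => lt_of_lt_of_le (Nat.mod_lt _ hp) hp') j hj, rowU_eq,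
    dig_sum 1024 _ d (fun j' hj' => dot_lt hdp hA hB hi j' hj') j hj]

theorem dig_two_level {i j : ℕ} (hj : j < d) (N : ℕ) :
    dig 1024 N (d * i + j) = dig 1024 (dig (1024 ^ d) N i) j := by
  rw [show dig (1024 ^ d) N i = N / (1024 ^ d) ^ i % 1024 ^ d from rfl,
    dig_mod_pow 1024 (by norm_num) _ d j hj]
  unfold dig
  rw [Nat.div_div_eq_div_mul, ← pow_mul, ← pow_add]

theorem ent_idN {i j : ℕ} (hi : i < d) (hj : j < d) :
    ent d (idN d) i j = if i = j then 1 else 0 := by
  rw [ent_eq_dig, dig_two_level hj]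
  unfold idN
  rw [sumLt_eq]
  have hsum : ∑ x ∈ Finset.range d, Nat.mul (Nat.pow 1024 x) (Nat.pow (Nat.pow 1024 d) x) =
      ∑ x ∈ Finset.range d, 1024 ^ x * (1024 ^ d) ^ x := rfl
  rw [hsum, dig_sum (1024 ^ d) _ d
    (fun i' hi' => Nat.pow_lt_pow_right (by norm_num) hi') i hi]
  have e : (1024 : ℕ) ^ i = ∑ j' ∈ Finset.range d, (if j' = i then 1 else 0) * 1024 ^ j' := by
    rw [Finset.sum_eq_single i]
    · rw [if_pos rfl, one_mul]
    · intro b _ hb
      rw [if_neg hb, zero_mul]
    · intro h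
      exact absurd (Finset.mem_range.mpr hi) h
  rw [e, dig_sum 1024 _ d (fun j' _ => by split_ifs <;> norm_num) j hj]
  by_cases h : i = j
  · rw [if_pos h, if_pos h.symm]
  · rw [if_neg h, if_neg (fun h' => h h'.symm)]

theorem dec_mul_apply (A B : ℕ) (i j : Fin d) :
    (dec d p A * dec d p B) i j =
      ((∑ k ∈ Finset.range d, ent d A i.1 k * ent d B k j.1 : ℕ) : ZMod p) := by
  rw [Matrix.mul_apply, ← Fin.sum_univ_eq_sum_range (fun k => ent d A i.1 k * ent d B k j.1),
    Nat.cast_sum]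
  apply Finset.sum_congr rfl
  intro k _
  rw [Nat.cast_mul]
  rfl

theorem dec_mulN (hp : 0 < p) (hp' : p ≤ 1024) (hdp : d * p * p ≤ 1024) {A B : ℕ}
    (hA : Canon d p A) (hB : Canon d p B) :
    dec d p (mulN d p A B) = dec d p A * dec d p B := by
  ext i j
  rw [dec_mul_apply]
  show ((ent d (mulN d p A B) i.1 j.1 : ℕ) : ZMod p) = _
  rw [ent_mulN hp hp' hdp hA hB i.2 j.2]
  exact ZMod.natCast_mod _ p

theorem canon_mulN (hp : 0 < p) (hp' : p ≤ 1024) (hdp : d * p * p ≤ 1024) {A B : ℕ}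
    (hA : Canon d p A) (hB : Canon d p B) : Canon d p (mulN d p A B) := by
  intro i hi j hj
  rw [ent_mulN hp hp' hdp hA hB hi hj]
  exact Nat.mod_lt _ hp

theorem canon_idN (hp : 1 < p) : Canon d p (idN d) := by
  intro i hi j hj
  rw [ent_idN hi hj]
  split_ifs
  · exact hp
  · exact lt_trans Nat.zero_lt_one hp

theorem dec_idN : dec d p (idN d) = 1 := by
  ext i j
  show ((ent d (idN d) i.1 j.1 : ℕ) : ZMod p) = _
  rw [ent_idN i.2 j.2]
  by_cases h : i = j
  · rw [h, if_pos rfl, Matrix.one_apply_eq, Nat.cast_one]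
  · rw [if_neg (fun h' => h (Fin.ext h')), Matrix.one_apply_ne h, Nat.cast_zero]

variable (d p) (qN qM : ℕ → ℕ)

/-- the product of a word of coded matrices. -/
noncomputable def prodN : List ℕ → ℕ
  | [] => idN d
  | [i] => qN i
  | i :: j :: w => mulN d p (qN i) (prodN (j :: w))

/-- `A` and `A'` code mutually inverse matrices, with reduced entries. -/
def ValidM (A A' : ℕ) : Prop :=
  Canon d p A ∧ Canon d p A' ∧ mulN d p A A' = idN d ∧ mulN d p A' A = idN d

/-- the invertible matrix coded by `A` (with inverse coded by `A'`). -/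
noncomputable def unit (A A' : ℕ) : GL (Fin d) (ZMod p) := by
  classical
  exact if h : dec d p A * dec d p A' = 1 ∧ dec d p A' * dec d p A = 1 then
    ⟨dec d p A, dec d p A', h.1, h.2⟩ else 1

/-- the `i`-th invertible matrix of the tables. -/
noncomputable def Q (i : ℕ) : GL (Fin d) (ZMod p) := unit d p (qN i) (qM i)

variable {d p qN qM}

theorem unit_val (hp : 0 < p) (hp' : p ≤ 1024) (hdp : d * p * p ≤ 1024) {A A' : ℕ}
    (h : ValidM d p A A') :
    ((unit d p A A' : GL (Fin d) (ZMod p)) : Matrix (Fin d) (Fin d) (ZMod p)) = dec d p A := by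
  have h1 : dec d p A * dec d p A' = 1 := by
    rw [← dec_mulN hp hp' hdp h.1 h.2.1, h.2.2.1, dec_idN]
  have h2 : dec d p A' * dec d p A = 1 := by
    rw [← dec_mulN hp hp' hdp h.2.1 h.1, h.2.2.2, dec_idN]
  unfold unit
  rw [dif_pos ⟨h1, h2⟩]

theorem canon_prodN (hp : 1 < p) (hp' : p ≤ 1024) (hdp : d * p * p ≤ 1024) :
    ∀ w : List ℕ, (∀ i ∈ w, ValidM d p (qN i) (qM i)) → Canon d p (prodN d p qN w) := by
  intro w
  induction w with
  | nil => intro _; exact canon_idN hp
  | cons i w ih =>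
    intro hv
    cases w with
    | nil => exact (hv i (List.mem_cons_self ..)).1
    | cons j w =>
      exact canon_mulN (lt_trans Nat.zero_lt_one hp) hp' hdp (hv i (List.mem_cons_self ..)).1
        (ih (fun k hk => hv k (List.mem_cons_of_mem _ hk)))

theorem prodQ_val (hp : 1 < p) (hp' : p ≤ 1024) (hdp : d * p * p ≤ 1024) {w : List ℕ}
    (hv : ∀ i ∈ w, ValidM d p (qN i) (qM i)) :
    ((prodQ (Q d p qN qM) w : GL (Fin d) (ZMod p)) : Matrix (Fin d) (Fin d) (ZMod p)) =
      dec d p (prodN d p qN w) := by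
  have hp0 : 0 < p := lt_trans Nat.zero_lt_one hp
  induction w with
  | nil =>
    show ((1 : GL (Fin d) (ZMod p)) : Matrix (Fin d) (Fin d) (ZMod p)) = dec d p (idN d)
    rw [dec_idN]
    rfl
  | cons i w ih =>
    rw [prodQ_cons, Units.val_mul, ih (fun j hj => hv j (List.mem_cons_of_mem _ hj))]
    unfold Q
    rw [unit_val hp0 hp' hdp (hv i (List.mem_cons_self ..))]
    cases w with
    | nil =>
      show dec d p (qN i) * dec d p (idN d) = dec d p (qN i)
      rw [dec_idN, mul_one]
    | cons j w =>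
      show _ = dec d p (mulN d p (qN i) (prodN d p qN (j :: w)))
      rw [dec_mulN hp0 hp' hdp (hv i (List.mem_cons_self ..)).1
        (canon_prodN hp hp' hdp _ (fun k hk => hv k (List.mem_cons_of_mem _ hk)))]

theorem prodQ_eq_of_prodN (hp : 1 < p) (hp' : p ≤ 1024) (hdp : d * p * p ≤ 1024)
    {w w' : List ℕ}
    (hv : ∀ i ∈ w, ValidM d p (qN i) (qM i)) (hv' : ∀ i ∈ w', ValidM d p (qN i) (qM i))
    (h : prodN d p qN w = prodN d p qN w') :
    prodQ (Q d p qN qM) w = prodQ (Q d p qN qM) w' := by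
  apply Units.ext
  rw [prodQ_val hp hp' hdp hv, prodQ_val hp hp' hdp hv', h]

end Cfsg.Agent.Lib.Helper8.MatN
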