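import Cfsg.Agent.Lib.Helper8.MatN
import Cfsg.Agent.Lib.Helper8.FastDec

set_option autoImplicit false
set_option linter.unusedSectionVars false
set_option linter.unusedVariables false

/-! Boolean certificates on the matrix side of a lifted stabiliser chain. -/

namespace Cfsg.Agent.Lib.Helper8.MatN

open Cfsg.Agent.Lib.Helper8.SS Cfsg.Agent.Lib.Helper8.FastDec

variable (d p : ℕ) (qN qM : ℕ → ℕ) (np : ℕ)

/-- the entries are reduced (boolean). -/
noncomputable def canonB (A : ℕ) : Bool :=
  allLt d (fun i => allLt d (fun j => Nat.blt (entR d A i j) p))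

/-- all the pairs of the tables are valid (boolean). -/
noncomputable def validMB : Bool :=
  allLt np (fun i => withVal (qN i) (fun A => withVal (qM i) (fun A' =>
    canonB d p A && (canonB d p A' &&
      (Nat.beq (mulN d p A A') (idN d) && Nat.beq (mulN d p A' A) (idN d))))))

/-- evaluate the elements of a list first (for kernel reduction). -/
def forceList {α : Type} : List ℕ → (List ℕ → α) → α
  | [], k => k []
  | a :: t, k => withVal a (fun a' => forceList t (fun t' => k (a' :: t')))

theorem forceList_eq {α : Type} (l : List ℕ) (k : List ℕ → α) : forceList l k = k l := by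
  induction l generalizing k with
  | nil => rfl
  | cons a t ih =>
    rw [forceList, withVal_eq, ih]

/-- the certificate of a level on the matrix side (boolean). -/
noncomputable def levelQB (L : Level) : Bool :=
  L.S.all (fun i => Nat.blt i np) && (L.U.all (fun i => Nat.blt i np) &&
  (allLt L.U.length (fun m => Nat.beq m 0 ||
    withVal (nthR L.tree m (0, 0)).1 (fun g => withVal (nthR L.tree m (0, 0)).2 (fun q =>
      withVal (nthR L.U m 0) (fun u => withVal (nthR L.U q 0) (fun u' =>
        Nat.blt g np && (Nat.blt q L.U.length &&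
          Nat.beq (prodN d p qN [u]) (prodN d p qN [g, u']))))))) &&
  allLt L.S.length (fun a => withVal (nthR L.S a 0) (fun s =>
    allLt L.U.length (fun m => withVal (nthR L.U m 0) (fun u =>
      forceList (nthR (nthR L.sift a []) m []) (fun w =>
        w.all (fun i => Nat.blt i np) &&
          Nat.beq (prodN d p qN [s, u]) (prodN d p qN w))))))))

/-- the certificate of a chain on the matrix side (boolean). -/
noncomputable def chainQB : List Level → Bool
  | [] => true
  | L :: rest => levelQB d p qN np L && chainQB rest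

/-- the certificate of a straight-line program on the matrix side (boolean). -/
noncomputable def slpQB (S W : List ℕ) (slp : List (ℕ × ℕ)) : Bool :=
  W.all (fun i => Nat.blt i np) &&
  allLt W.length (fun m => S.contains (nthR W m 0) ||
    withVal (nthR slp m (0, 0)).1 (fun j => withVal (nthR slp m (0, 0)).2 (fun k =>
      Nat.blt j W.length && (Nat.blt k W.length &&
        Nat.beq (prodN d p qN [nthR W m 0]) (prodN d p qN [nthR W j 0, nthR W k 0])))))

variable {d p qN qM np}

theorem blt_iff (a b : ℕ) : Nat.blt a b = true ↔ a < b := by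
  simp [Nat.blt]

theorem canon_of_canonB {A : ℕ} (h : canonB d p A = true) : Canon d p A := by
  unfold canonB at h
  rw [allLt_iff] at h
  intro i hi j hj
  have := h i hi
  rw [allLt_iff] at this
  have := this j hj
  rw [blt_iff, entR_eq] at this
  exact this

theorem valid_of_validMB (h : validMB d p qN qM np = true) :
    ∀ i < np, ValidM d p (qN i) (qM i) := by
  unfold validMB at h
  rw [allLt_iff] at h
  intro i hi
  have := h i hi
  rw [withVal_eq, withVal_eq, Bool.and_eq_true, Bool.and_eq_true, Bool.and_eq_true] at this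
  obtain ⟨h1, h2, h3, h4⟩ := this
  exact ⟨canon_of_canonB h1, canon_of_canonB h2, Nat.eq_of_beq_eq_true h3,
    Nat.eq_of_beq_eq_true h4⟩

theorem levelQ_of_levelQB (hp : 1 < p) (hp' : p ≤ 1024) (hdp : d * p * p ≤ 1024)
    (hv : ∀ i < np, ValidM d p (qN i) (qM i)) {L : Level} (h : levelQB d p qN np L = true) :
    LevelQ (Q d p qN qM) L := by
  unfold levelQB at h
  rw [Bool.and_eq_true, Bool.and_eq_true, Bool.and_eq_true, List.all_eq_true, List.all_eq_true,
    allLt_iff, allLt_iff] at h
  obtain ⟨hS, hU, htree, hsift⟩ := h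
  have hS' : ∀ i ∈ L.S, i < np := fun i hi => (blt_iff _ _).mp (hS i hi)
  have hU' : ∀ i ∈ L.U, i < np := fun i hi => (blt_iff _ _).mp (hU i hi)
  refine ⟨?_, ?_⟩
  · intro m hm
    have := htree m hm
    rw [Bool.or_eq_true] at this
    rcases this with h0 | h1
    · exact Or.inl (Nat.eq_of_beq_eq_true h0)
    · right
      rw [withVal_eq, withVal_eq, withVal_eq, withVal_eq, Bool.and_eq_true, Bool.and_eq_true,
        blt_iff, blt_iff, nthR_eq, nthR_eq, nthR_eq] at h1
      obtain ⟨h1, h2, h3⟩ := h1
      apply prodQ_eq_of_prodN hp hp' hdp _ _ (Nat.eq_of_beq_eq_true h3)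
      · intro i hi
        simp only [List.mem_singleton] at hi
        rw [hi]
        exact hv _ (hU' _ (getD_mem hm))
      · intro i hi
        simp only [List.mem_cons, List.mem_nil_iff, or_false] at hi
        rcases hi with rfl | rfl
        · exact hv _ h1
        · exact hv _ (hU' _ (getD_mem h2))
  · intro a ha m hm
    have := hsift a ha
    rw [withVal_eq, allLt_iff] at this
    have := this m hm
    rw [withVal_eq, forceList_eq, Bool.and_eq_true, List.all_eq_true, nthR_eq, nthR_eq, nthR_eq,
      nthR_eq] at this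
    obtain ⟨h1, h2⟩ := this
    apply prodQ_eq_of_prodN hp hp' hdp _ _ (Nat.eq_of_beq_eq_true h2)
    · intro i hi
      simp only [List.mem_cons, List.mem_nil_iff, or_false] at hi
      rcases hi with rfl | rfl
      · exact hv _ (hS' _ (getD_mem ha))
      · exact hv _ (hU' _ (getD_mem hm))
    · intro i hi
      exact hv _ ((blt_iff _ _).mp (h1 i hi))

theorem chainQ_of_chainQB (hp : 1 < p) (hp' : p ≤ 1024) (hdp : d * p * p ≤ 1024)
    (hv : ∀ i < np, ValidM d p (qN i) (qM i)) :
    ∀ Ls : List Level, chainQB d p qN np Ls = true → ChainQ (Q d p qN qM) Ls := by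
  intro Ls
  induction Ls with
  | nil => intro _; trivial
  | cons L rest ih =>
    intro h
    unfold chainQB at h
    rw [Bool.and_eq_true] at h
    exact ⟨levelQ_of_levelQB hp hp' hdp hv h.1, ih h.2⟩

theorem slpQ_of_slpQB (hp : 1 < p) (hp' : p ≤ 1024) (hdp : d * p * p ≤ 1024)
    (hv : ∀ i < np, ValidM d p (qN i) (qM i)) {S W : List ℕ} {slp : List (ℕ × ℕ)}
    (h : slpQB d p qN np S W slp = true) : SlpQ (Q d p qN qM) S W slp := by
  unfold slpQB at h
  rw [Bool.and_eq_true, List.all_eq_true, allLt_iff] at h
  obtain ⟨hW, hslp⟩ := h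
  have hW' : ∀ i ∈ W, i < np := fun i hi => (blt_iff _ _).mp (hW i hi)
  intro m hm
  have := hslp m hm
  rw [Bool.or_eq_true] at this
  rcases this with h0 | h1
  · left
    rw [nthR_eq] at h0
    exact List.contains_iff_mem.mp h0
  · right
    rw [withVal_eq, withVal_eq, Bool.and_eq_true, Bool.and_eq_true, blt_iff, blt_iff, nthR_eq,
      nthR_eq, nthR_eq, nthR_eq] at h1
    obtain ⟨h1, h2, h3⟩ := h1
    apply prodQ_eq_of_prodN hp hp' hdp _ _ (Nat.eq_of_beq_eq_true h3)
    · intro i hi
      simp only [List.mem_singleton] at hi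
      rw [hi]
      exact hv _ (hW' _ (getD_mem hm))
    · intro i hi
      simp only [List.mem_cons, List.mem_nil_iff, or_false] at hi
      rcases hi with rfl | rfl
      · exact hv _ (hW' _ (getD_mem h1))
      · exact hv _ (hW' _ (getD_mem h2))

theorem Q_val (hp : 0 < p) (hp' : p ≤ 1024) (hdp : d * p * p ≤ 1024) {i : ℕ}
    (h : ValidM d p (qN i) (qM i)) :
    ((Q d p qN qM i : GL (Fin d) (ZMod p)) : Matrix (Fin d) (Fin d) (ZMod p)) =
      dec d p (qN i) :=
  unit_val hp hp' hdp h

theorem Q_eq_one (hp : 0 < p) (hp' : p ≤ 1024) (hdp : d * p * p ≤ 1024) {i : ℕ}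
    (h : ValidM d p (qN i) (qM i)) (h1 : qN i = idN d) : Q d p qN qM i = 1 := by
  apply Units.ext
  rw [Q_val hp hp' hdp h, h1, dec_idN]
  rfl

end Cfsg.Agent.Lib.Helper8.MatN
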