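import Mathlib
import Cfsg.Agent.Lib.Helper8.Mazurov2
import Cfsg.Agent.Lib.Helper1.CoprimeSylow

/-!
Mazurov's lemma, part 3: a Frobenius-like group `R⟨x⟩` acting on a normal subgroup `N` of
coprime order, all of whose "coset elements" have order `n`, centralises `N`.
-/

namespace Cfsg.Agent.Lib.Helper8.Mazurov

open scoped Pointwise

theorem sylow_conjNormal_map {G : Type*} [Group G] (N : Subgroup G) [N.Normal] {p : ℕ}
    [Fact p.Prime] (x : G) (P : Sylow p N) :
    (((MulAut.conjNormal x : MulAut N) • P : Sylow p N) : Subgroup N).map N.subtype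
      = ((P : Subgroup N).map N.subtype).map (MulAut.conj x).toMonoidHom := by
  ext g
  constructor
  · rintro ⟨h, hh, rfl⟩
    rw [SetLike.mem_coe, Sylow.pointwise_smul_def, Subgroup.mem_smul_pointwise_iff_exists] at hh
    obtain ⟨k, hk, rfl⟩ := hh
    refine ⟨(k : G), ⟨k, hk, rfl⟩, ?_⟩
    show x * (k : G) * x⁻¹ = _
    rfl
  · rintro ⟨_, ⟨k, hk, rfl⟩, rfl⟩
    refine ⟨(MulAut.conjNormal x : MulAut N) k, ?_, ?_⟩
    · rw [SetLike.mem_coe, Sylow.pointwise_smul_def, Subgroup.mem_smul_pointwise_iff_exists]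
      exact ⟨k, hk, rfl⟩
    · rfl

theorem sylow_conj_map {G : Type*} [Group G] (N : Subgroup G) {p : ℕ}
    [Fact p.Prime] (c : N) (P : Sylow p N) :
    ((MulAut.conj c • P : Sylow p N) : Subgroup N).map N.subtype
      = ((P : Subgroup N).map N.subtype).map (MulAut.conj (c : G)).toMonoidHom := by
  ext g
  constructor
  · rintro ⟨h, hh, rfl⟩
    rw [SetLike.mem_coe, Sylow.pointwise_smul_def, Subgroup.mem_smul_pointwise_iff_exists] at hh
    obtain ⟨k, hk, rfl⟩ := hh
    refine ⟨(k : G), ⟨k, hk, rfl⟩, ?_⟩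
    show (c : G) * (k : G) * (c : G)⁻¹ = _
    rfl
  · rintro ⟨_, ⟨k, hk, rfl⟩, rfl⟩
    refine ⟨MulAut.conj c • k, ?_, ?_⟩
    · rw [SetLike.mem_coe, Sylow.pointwise_smul_def, Subgroup.mem_smul_pointwise_iff_exists]
      exact ⟨k, hk, rfl⟩
    · rfl

theorem frob_centralizes_normal {G : Type*} [Group G] [Finite G] (N R : Subgroup G) [N.Normal]
    (x : G) (n : ℕ) (hn : 0 < n) {r : ℕ} [Fact r.Prime] (hRr : IsPGroup r R)
    (hcop : (Nat.card R).Coprime (Nat.card N))
    (hxR : x ∈ Subgroup.normalizer (R : Set G))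
    (H1 : ∀ v ∈ N, ∀ u ∈ R, (v * u * x) ^ n = 1)
    (H2 : ∀ v ∈ N, ∀ u ∈ R, ∀ i : ℕ, ¬ n ∣ i → ∀ w ∈ R,
      (v * u * x) ^ i * w * ((v * u * x) ^ i)⁻¹ = w → w = 1) :
    R ≤ Subgroup.centralizer (N : Set G) := by
  classical
  haveI : Group.IsNilpotent R := hRr.isNilpotent
  have solvR : Group.IsSolvable R := inferInstance
  have hRN : R ≤ Subgroup.normalizer (N : Set G) := by
    rw [Subgroup.normalizer_eq_top]
    exact le_top
  -- for each prime, R centralises a Sylow subgroup of N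
  have hsyl : ∀ p : ℕ, p.Prime → ∃ P : Subgroup G, P ≤ N ∧
      Nat.card P = p ^ (Nat.card N).factorization p ∧ R ≤ Subgroup.centralizer (P : Set G) := by
    intro p hp
    haveI : Fact p.Prime := ⟨hp⟩
    obtain ⟨Pp, hPp⟩ := Cfsg.Agent.Lib.Helper1.coprime_exists_invariant_sylow R N hRN hcop
      (Or.inl solvR) p
    set P := (Pp : Subgroup N).map N.subtype with hP
    have hPN : P ≤ N := by
      rintro _ ⟨k, _, rfl⟩
      exact k.2
    have hcardP : Nat.card P = p ^ (Nat.card N).factorization p := by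
      rw [hP, Subgroup.card_map_of_injective N.subtype_injective]
      exact Pp.card_eq_multiplicity
    refine ⟨P, hPN, hcardP, ?_⟩
    -- the conjugate Sylow subgroup
    let Q : Sylow p N := (MulAut.conjNormal x : MulAut N) • Pp
    have hQ : ((Q : Subgroup N).map N.subtype) = P.map (MulAut.conj x).toMonoidHom :=
      sylow_conjNormal_map N x Pp
    have hRQ : R ≤ Subgroup.normalizer (((Q : Subgroup N).map N.subtype : Subgroup G) : Set G) := by
      rw [hQ]
      intro u hu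
      apply mem_normalizer_of_conj_mem
      rintro _ ⟨a, ha, rfl⟩
      -- u (x a x⁻¹) u⁻¹ = x ((x⁻¹ u x) a (x⁻¹ u x)⁻¹) x⁻¹
      have hu' : x⁻¹ * u * x ∈ R := by
        have := (Subgroup.mem_normalizer_iff.1 (Subgroup.inv_mem _ hxR) u).1 hu
        simpa using this
      have ha' : (x⁻¹ * u * x) * a * (x⁻¹ * u * x)⁻¹ ∈ P :=
        (Subgroup.mem_normalizer_iff.1 (hPp hu') a).1 ha
      refine ⟨_, ha', ?_⟩
      show x * ((x⁻¹ * u * x) * a * (x⁻¹ * u * x)⁻¹) * x⁻¹ = u * (x * a * x⁻¹) * u⁻¹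
      group
    obtain ⟨c, hcR, hcPQ⟩ := Cfsg.Agent.Lib.Helper1.coprime_invariant_sylow_conj R N hRN hcop
      (Or.inl solvR) p Pp Q hPp hRQ
    have hcP : P.map (MulAut.conj (c : G)).toMonoidHom = P.map (MulAut.conj x).toMonoidHom := by
      rw [← hQ, ← hcPQ]
      exact (sylow_conj_map N c Pp).symm
    set y : G := (c : G)⁻¹ * x with hy
    have hyP : y ∈ Subgroup.normalizer (P : Set G) := by
      apply mem_normalizer_of_map_eq
      have h1 : (MulAut.conj y).toMonoidHom
          = (MulAut.conj (c : G)⁻¹).toMonoidHom.comp (MulAut.conj x).toMonoidHom := by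
        ext a
        show y * a * y⁻¹ = (c : G)⁻¹ * (x * a * x⁻¹) * ((c : G)⁻¹)⁻¹
        rw [hy]; group
      rw [h1, ← Subgroup.map_map, ← hcP, Subgroup.map_map]
      have h2 : (MulAut.conj (c : G)⁻¹).toMonoidHom.comp (MulAut.conj (c : G)).toMonoidHom
          = MonoidHom.id G := by
        ext a
        show (c : G)⁻¹ * ((c : G) * a * (c : G)⁻¹) * ((c : G)⁻¹)⁻¹ = a
        group
      rw [h2, Subgroup.map_id]
    have hcu : ∀ u ∈ R, u * (c : G)⁻¹ = (c : G)⁻¹ * u := by
      intro u hu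
      have := Subgroup.mem_centralizer_iff.1 hcR u hu
      -- u * c = c * u
      calc u * (c : G)⁻¹ = (c : G)⁻¹ * ((c : G) * u) * (c : G)⁻¹ := by group
        _ = (c : G)⁻¹ * (u * (c : G)) * (c : G)⁻¹ := by rw [this]
        _ = (c : G)⁻¹ * u := by group
    have hyR : y ∈ Subgroup.normalizer (R : Set G) := by
      apply Subgroup.mul_mem _ _ hxR
      apply Subgroup.inv_mem
      exact (Subgroup.centralizer_le_normalizer (R : Set G)) hcR
    have hfp : ∀ i : ℕ, ¬ n ∣ i → ∀ u ∈ R, y ^ i * u * (y ^ i)⁻¹ = u → u = 1 := by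
      intro i hi u hu hfix
      have := H2 (c : G)⁻¹ (N.inv_mem c.2) 1 R.one_mem i hi u hu
      rw [mul_one] at this
      exact this hfix
    have hnorm : ∀ v ∈ P, ∀ u ∈ R, (v * (u * y * u⁻¹)) ^ n = 1 := by
      intro v hv u hu
      have hu' : u * (x * u⁻¹ * x⁻¹) ∈ R :=
        R.mul_mem hu ((Subgroup.mem_normalizer_iff.1 hxR _).1 (R.inv_mem hu))
      have := H1 (v * (c : G)⁻¹) (N.mul_mem (hPN hv) (N.inv_mem c.2)) _ hu'
      have e : v * (u * y * u⁻¹) = v * (c : G)⁻¹ * (u * (x * u⁻¹ * x⁻¹)) * x := by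
        rw [hy]
        calc v * (u * ((c : G)⁻¹ * x) * u⁻¹) = v * ((u * (c : G)⁻¹) * x * u⁻¹) := by group
          _ = v * (((c : G)⁻¹ * u) * x * u⁻¹) := by rw [hcu u hu]
          _ = v * (c : G)⁻¹ * (u * (x * u⁻¹ * x⁻¹)) * x := by group
      rw [e]
      exact this
    have solvP : Group.IsSolvable P := by
      have hPp' : IsPGroup p P := Pp.2.map N.subtype
      haveI : Group.IsNilpotent P := hPp'.isNilpotent
      infer_instance
    have hcopP : (Nat.card R).Coprime (Nat.card P) :=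
      Nat.Coprime.coprime_dvd_right (Subgroup.card_dvd_of_le hPN) hcop
    exact frob_centralizes_solvable R y n hn solvR hyR hfp _ P rfl solvP hPp hyP hcopP hnorm
  -- conclude
  set C := N ⊓ Subgroup.centralizer (R : Set G) with hC
  have hdvd : Nat.card N ∣ Nat.card C := by
    rw [← Nat.factorization_prime_le_iff_dvd Nat.card_pos.ne' Nat.card_pos.ne']
    intro p hp
    obtain ⟨P, hPN, hcardP, hRP⟩ := hsyl p hp
    have hPC : P ≤ C := by
      intro a ha
      refine Subgroup.mem_inf.2 ⟨hPN ha, ?_⟩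
      rw [Subgroup.mem_centralizer_iff]
      intro u hu
      exact (Subgroup.mem_centralizer_iff.1 (hRP hu) a ha).symm
    have h1 := Subgroup.card_dvd_of_le hPC
    rw [hcardP] at h1
    exact (hp.pow_dvd_iff_le_factorization Nat.card_pos.ne').1 h1
  have hCN : C = N := by
    apply Subgroup.eq_of_le_of_card_ge inf_le_left
    exact Nat.le_of_dvd Nat.card_pos hdvd
  intro u hu
  rw [Subgroup.mem_centralizer_iff]
  intro a ha
  rw [← hCN] at ha
  exact (Subgroup.mem_centralizer_iff.1 (Subgroup.mem_inf.1 ha).2 u hu).symm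

end Cfsg.Agent.Lib.Helper8.Mazurov
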