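import Mathlib
import Cfsg.Agent.Lib.Helper8.McK1
import Cfsg.Agent.Lib.Helper6.Ramified

/-! Characters of degree prime to the index of a normal Hall subgroup: the count. -/
set_option autoImplicit false

namespace Cfsg.Agent.Lib.Helper8.McK

open Cfsg.Agent.Lib.Helper6 Cfsg.Agent.Lib.Helper3 Cfsg.Agent.Lib.Helper3.DetChar
  Cfsg.Agent.Lib.Helper8.GlauL
open scoped ComplexConjugate

variable {G : Type*} [Group G] [Fintype G] (K : Subgroup G) [Fintype K] [hK : K.Normal]

/-- a character of degree prime to the index restricts irreducibly to a normal Hall subgroup -/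
theorem restrict_irr_of_coprime_degree (hcop : (Nat.card K).Coprime K.index)
    (χ : Cfsg.IrrCharacter G) (hdeg : (Cfsg.charDegree (χ : G → ℂ)).Coprime K.index) :
    Cfsg.IsIrrCharacter K (fun n : K => (χ : G → ℂ) n) := by
  classical
  have hχc := IsIrrCharacter.isCharacter χ.2
  have hχK : Cfsg.IsCharacter K (fun n : K => (χ : G → ℂ) n) := IsCharacter.restrict K hχc
  obtain ⟨θ, hcon⟩ := IsCharacter.exists_constituent hχK (by
    show (χ : G → ℂ) ((1 : K) : G) ≠ 0
    rw [Subgroup.coe_one]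
    exact IsIrrCharacter.apply_one_ne_zero χ.2)
  have hθcf := IsIrrCharacter.isClassFunction θ.2
  set T := inertia K hK (θ : K → ℂ) with hTdef
  haveI : Fintype T := Fintype.ofFinite T
  have hKT : K ≤ T := le_inertia K hK hθcf
  have hTiff : ∀ g : G, g ∈ T ↔ ∀ a : K, (θ : K → ℂ) ⟨g * a * g⁻¹, hK.conj_mem (a : G) a.2 g⟩
      = (θ : K → ℂ) a := by
    intro g
    rw [hTdef, mem_inertia]
    exact ⟨fun h a => congrFun h a, fun h => funext h⟩
  obtain ⟨ψ, hψ, hind, _⟩ := Cfsg.Agent.S0854.result K (θ : K → ℂ) θ.2 T hTiff hKT (χ : G → ℂ) χ.2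
    hcon
  -- the index of `T` divides the degree
  have h1 : (χ : G → ℂ) 1 = (T.index : ℂ) * ψ 1 := by
    rw [← hind, indFun_one]
  rw [IsCharacter.apply_one_eq_charDegree hχc,
    IsCharacter.apply_one_eq_charDegree (IsIrrCharacter.isCharacter hψ)] at h1
  have h2 : Cfsg.charDegree (χ : G → ℂ) = T.index * Cfsg.charDegree ψ := by exact_mod_cast h1
  have h3 : T.index ∣ Cfsg.charDegree (χ : G → ℂ) := ⟨_, h2⟩
  have h4 : T.index ∣ K.index := Subgroup.index_dvd_of_le hKT
  have h5 : T.index = 1 := Nat.eq_one_of_dvd_coprimes hdeg h3 h4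
  have hTtop : T = ⊤ := Subgroup.index_eq_one.mp h5
  have hinv : InvK K (θ : K → ℂ) := by
    intro g n
    have : g ∈ T := by rw [hTtop]; exact Subgroup.mem_top g
    exact (hTiff g).mp this n
  obtain ⟨θh, hext⟩ := exists_extension K hcop θ hinv
  -- Gallagher
  have h1inv : ∀ (g : G) (n : K), (oneK K : K → ℂ) ⟨g * n * g⁻¹, hK.conj_mem (n : G) n.2 g⟩
      = (oneK K : K → ℂ) n := fun _ _ => rfl
  have hprod : (oneK K : K → ℂ) * (θ : K → ℂ) = (θ : K → ℂ) := by
    funext n
    show (1 : ℂ) * _ = _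
    rw [one_mul]
  have hbij := Cfsg.Agent.S0856.result K (oneK K : K → ℂ) (θ : K → ℂ) (oneK K).2 θ.2 h1inv hinv
    (by rw [hprod]; exact θ.2) (θh : G → ℂ) θh.2 hext
  rw [hprod] at hbij
  have hχmem : (χ : G → ℂ) ∈ {ψ : G → ℂ | Cfsg.IsIrrCharacter G ψ ∧
      Cfsg.classInner (Cfsg.indFun K (θ : K → ℂ)) ψ ≠ 0} := by
    refine ⟨χ.2, ?_⟩
    rw [classInner_indFun_irr, ← classInner_conj_symm]
    intro h0
    apply hcon
    have := congrArg conj h0
    rwa [Complex.conj_conj, map_zero] at this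
  obtain ⟨β, ⟨hβirr, hβ1⟩, hβχ⟩ := hbij.surjOn hχmem
  have hβχ' : ∀ g : G, β g * (θh : G → ℂ) g = (χ : G → ℂ) g := fun g => congrFun hβχ g
  -- `β` is constant on `K`
  rw [classInner_indFun_irr K _ ⟨β, hβirr⟩, ← classInner_conj_symm] at hβ1
  have hβ1' : Cfsg.classInner (fun n : K => β n) (oneK K : K → ℂ) ≠ 0 := by
    intro h0
    apply hβ1
    show conj (Cfsg.classInner (fun n : K => β n) (oneK K : K → ℂ)) = 0
    rw [h0, map_zero]
  have hres := restrict_eq_smul_of_invariant K hK hβirr (oneK K).2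
    (fun g => by funext n; rfl) hβ1'
  have hker : ∀ x ∈ K, β x = β 1 := by
    intro x hx
    have e1 := congrFun hres ⟨x, hx⟩
    have e2 := congrFun hres 1
    simp only [Pi.smul_apply, smul_eq_mul] at e1 e2
    rw [Subgroup.coe_one] at e2
    show β ((⟨x, hx⟩ : K) : G) = β 1
    rw [e1, e2]
    rfl
  obtain ⟨βq, hβq, hββq⟩ := Cfsg.Agent.Lib.Helper3.CharQuot.exists_irr_quot K hβirr hker
  haveI : Fintype (G ⧸ K) := Fintype.ofFinite _
  have hdegβ : Cfsg.charDegree β = Cfsg.charDegree βq := by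
    unfold Cfsg.charDegree
    rw [hββq]
    rfl
  have h6 : Cfsg.charDegree β ∣ K.index := by
    rw [hdegβ, Subgroup.index_eq_card]
    exact IsIrrCharacter.charDegree_dvd_card hβq
  have h7 : Cfsg.charDegree (χ : G → ℂ)
      = Cfsg.charDegree β * Cfsg.charDegree (θh : G → ℂ) := by
    have := hβχ' 1
    rw [IsCharacter.apply_one_eq_charDegree hχc,
      IsCharacter.apply_one_eq_charDegree (IsIrrCharacter.isCharacter hβirr),
      IsCharacter.apply_one_eq_charDegree (IsIrrCharacter.isCharacter θh.2)] at this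
    exact_mod_cast this.symm
  have h8 : Cfsg.charDegree β = 1 :=
    Nat.eq_one_of_dvd_coprimes hdeg ⟨_, h7⟩ h6
  have hβone : β 1 = 1 := by
    rw [IsCharacter.apply_one_eq_charDegree (IsIrrCharacter.isCharacter hβirr), h8]
    simp
  have hfun : (fun n : K => (χ : G → ℂ) n) = (θ : K → ℂ) := by
    funext n
    rw [← hβχ' n, hker n n.2, hβone, one_mul, hext]
  rw [hfun]
  exact θ.2

/-- the count of characters of degree prime to the index -/
theorem card_coprime_degree (hcop : (Nat.card K).Coprime K.index) :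
    Nat.card {χ : Cfsg.IrrCharacter G // (Cfsg.charDegree (χ : G → ℂ)).Coprime K.index}
      = Nat.card {θ : Cfsg.IrrCharacter K // InvK K (θ : K → ℂ)} * Nat.card (LinK K) := by
  classical
  rw [← Nat.card_prod]
  symm
  apply Nat.card_congr
  have hex : ∀ θ : {θ : Cfsg.IrrCharacter K // InvK K (θ : K → ℂ)},
      ∃ χ : Cfsg.IrrCharacter G, ∀ n : K, (χ : G → ℂ) n = (θ.1 : K → ℂ) n :=
    fun θ => exists_extension K hcop θ.1 θ.2
  choose ext hext using hex
  have hres : ∀ (θ : {θ : Cfsg.IrrCharacter K // InvK K (θ : K → ℂ)}) (l : LinK K) (n : K),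
      (linMul l.1 (ext θ) : G → ℂ) n = (θ.1 : K → ℂ) n := by
    intro θ l n
    rw [linMul_apply, hext]
    have := l.2 n.2
    rw [MonoidHom.mem_ker] at this
    rw [this, Units.val_one, one_mul]
  refine Equiv.ofBijective (fun x => ⟨linMul x.2.1 (ext x.1), ?_⟩) ⟨?_, ?_⟩
  · -- the degree is prime to the index
    have h1 : Cfsg.charDegree (linMul x.2.1 (ext x.1) : G → ℂ)
        = Cfsg.charDegree (x.1.1 : K → ℂ) := by
      have e1 := IsCharacter.apply_one_eq_charDegree
        (IsIrrCharacter.isCharacter (linMul x.2.1 (ext x.1)).2)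
      have e2 := IsCharacter.apply_one_eq_charDegree (IsIrrCharacter.isCharacter x.1.1.2)
      have e3 := hres x.1 x.2 1
      rw [Subgroup.coe_one] at e3
      rw [e1, e2] at e3
      exact_mod_cast e3
    rw [h1]
    exact Nat.Coprime.coprime_dvd_left (IsIrrCharacter.charDegree_dvd_card x.1.1.2) hcop
  · rintro ⟨θ, l⟩ ⟨θ', l'⟩ h
    have h1 : linMul l.1 (ext θ) = linMul l'.1 (ext θ') := congrArg Subtype.val h
    have h2 : θ = θ' := by
      apply Subtype.ext
      apply Subtype.ext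
      funext n
      rw [← hres θ l n, ← hres θ' l' n, h1]
    subst h2
    have h3 := linMul_injective_of_extension K θ.1 θ.2 (ext θ) (hext θ) l.1 l'.1 l.2 l'.2 h1
    have h4 : l = l' := Subtype.ext h3
    rw [h4]
  · rintro ⟨χ, hχ⟩
    have hirr := restrict_irr_of_coprime_degree K hcop χ hχ
    set θ : {θ : Cfsg.IrrCharacter K // InvK K (θ : K → ℂ)} :=
      ⟨⟨fun n : K => (χ : G → ℂ) n, hirr⟩, invK_restrict K (IsIrrCharacter.isClassFunction χ.2)⟩
      with hθ
    obtain ⟨lam, hlam, hχl⟩ := exists_linK_of_extension K θ.1 θ.2 (ext θ) (hext θ) χ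
      (fun n => rfl)
    refine ⟨⟨θ, ⟨lam, hlam⟩⟩, ?_⟩
    apply Subtype.ext
    exact hχl.symm

end Cfsg.Agent.Lib.Helper8.McK
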