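import Mathlib
import Cfsg.Agent.Lib.Helper8.McK2
import Cfsg.Agent.Lib.Helper8.McK3
import Cfsg.Agent.Lib.Helper8.GlauP10

/-! Assembly lemmas for the count of characters of degree prime to a normal Hall subgroup's
index. -/
set_option autoImplicit false

namespace Cfsg.Agent.Lib.Helper8.McK

open Cfsg.Agent.Lib.Helper6 Cfsg.Agent.Lib.Helper8.GlauL Cfsg.Agent.Lib.Helper8.GlauP
open scoped ComplexConjugate Pointwise

variable {G : Type*} [Group G]

theorem isComplement'_of_sup_eq_top (K H : Subgroup G) [hK : K.Normal] (hKH : K ⊔ H = ⊤)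
    (hcop : (Nat.card K).Coprime (Nat.card H)) : Subgroup.IsComplement' H K := by
  apply Subgroup.isComplement'_of_disjoint_and_mul_eq_univ
  · exact (Subgroup.disjoint_of_coprime_natCard hcop).symm
  · rw [← Subgroup.mul_normal H K, sup_comm, hKH]
    rfl

/-- linear characters trivial on `K` correspond to linear characters of a complement -/
noncomputable def linKEquiv (K H : Subgroup G) [hK : K.Normal]
    (hc : Subgroup.IsComplement' H K) : LinK K ≃ (H →* ℂˣ) where
  toFun l := l.1.comp H.subtype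
  invFun μ := ⟨(μ.comp hc.QuotientMulEquiv.toMonoidHom).comp (QuotientGroup.mk' K), by
    intro k hk
    rw [MonoidHom.mem_ker]
    show μ (hc.QuotientMulEquiv (QuotientGroup.mk k)) = 1
    rw [(QuotientGroup.eq_one_iff k).mpr hk, map_one, map_one]⟩
  left_inv l := by
    apply Subtype.ext
    apply MonoidHom.ext
    intro g
    show l.1 ((hc.QuotientMulEquiv (QuotientGroup.mk g) : H) : G) = l.1 g
    have h1 : (QuotientGroup.mk ((hc.QuotientMulEquiv (QuotientGroup.mk g) : H) : G) : G ⧸ K)
        = QuotientGroup.mk g :=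
      Subgroup.IsComplement.quotientGroupMk_leftQuotientEquiv hc (QuotientGroup.mk g)
    have h2 := QuotientGroup.eq.mp h1
    have h3 := l.2 h2
    rw [MonoidHom.mem_ker, map_mul, map_inv, inv_mul_eq_one] at h3
    exact h3
  right_inv μ := by
    apply MonoidHom.ext
    intro h
    show μ (hc.QuotientMulEquiv (QuotientGroup.mk (h : G))) = μ h
    congr 1
    have h1 : hc.QuotientMulEquiv.symm h = QuotientGroup.mk (h : G) := rfl
    rw [← h1, MulEquiv.apply_symm_apply]

/-- invariance under the whole group versus invariance under a supplement -/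
theorem invK_iff_of_sup_eq_top (K H : Subgroup G) [hK : K.Normal] (hKH : K ⊔ H = ⊤)
    {θ : K → ℂ} (hθ : Cfsg.IsClassFunction K θ) :
    InvK K θ ↔ ∀ h ∈ H, ∀ n : K, θ ⟨h * n * h⁻¹, hK.conj_mem (n : G) n.2 h⟩ = θ n := by
  constructor
  · intro h g _ n
    exact h g n
  · intro h g n
    have hg : g ∈ ((K ⊔ H : Subgroup G) : Set G) := by
      rw [hKH]
      exact Set.mem_univ g
    rw [Subgroup.normal_mul] at hg
    obtain ⟨k, hk, x, hx, rfl⟩ := hg
    have h1 := h x hx n
    have h2 := hθ ⟨x * n * x⁻¹, hK.conj_mem (n : G) n.2 x⟩ ⟨k, hk⟩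
    rw [← h1, ← h2]
    congr 1
    apply Subtype.ext
    show k * x * n * (k * x)⁻¹ = k * (x * n * x⁻¹) * k⁻¹
    group

end Cfsg.Agent.Lib.Helper8.McK
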