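import Mathlib
import Cfsg.Agent.Lib.Helper8.McK4
import Cfsg.Agent.Lib.Helper1.SZHelpers

/-! The count of characters of degree prime to `|H|` in `G = K ⋊ H` and in `N_G(H)`. -/
set_option autoImplicit false

namespace Cfsg.Agent.Lib.Helper8.McK

open Cfsg.Agent.Lib.Helper6 Cfsg.Agent.Lib.Helper8.GlauL Cfsg.Agent.Lib.Helper8.GlauP
open scoped ComplexConjugate Pointwise

variable {G : Type*} [Group G]

/-- elements of `K` normalizing a complement centralize it -/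
theorem conj_eq_of_mem_normalizer (K H : Subgroup G) [hK : K.Normal] (hdisj : K ⊓ H = ⊥)
    {c : G} (hcK : c ∈ K) (hcN : c ∈ Subgroup.normalizer (H : Set G)) {h : G} (hh : h ∈ H) :
    h * c * h⁻¹ = c := by
  have h1 : h * c * h⁻¹ * c⁻¹ ∈ K := K.mul_mem (hK.conj_mem c hcK h) (K.inv_mem hcK)
  have h2 : h * c * h⁻¹ * c⁻¹ ∈ H := by
    have h3 : c * h⁻¹ * c⁻¹ ∈ H :=
      (Subgroup.mem_normalizer_iff.mp hcN h⁻¹).mp (H.inv_mem hh)
    have h4 : h * c * h⁻¹ * c⁻¹ = h * (c * h⁻¹ * c⁻¹) := by group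
    rw [h4]
    exact H.mul_mem hh h3
  have h5 : h * c * h⁻¹ * c⁻¹ ∈ K ⊓ H := ⟨h1, h2⟩
  rw [hdisj, Subgroup.mem_bot] at h5
  exact mul_inv_eq_one.mp h5

/-- the count in the big group -/
theorem card_coprime_degree_eq [Fintype G] (K H : Subgroup G) [Fintype K] [hK : K.Normal]
    (hKH : K ⊔ H = ⊤) (hcop : (Nat.card K).Coprime (Nat.card H)) (hsolv : Group.IsSolvable H)
    (hnorm : ∀ s ∈ H, ∀ g ∈ K, s * g * s⁻¹ ∈ K) :
    Nat.card {χ : Cfsg.IrrCharacter G // (Cfsg.charDegree (χ : G → ℂ)).Coprime (Nat.card H)}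
      = Nat.card (Cfsg.IrrCharacter ↥(Cfsg.Agent.Lib.Helper8.GlauP.fixedSubgroup (Cfsg.Agent.Lib.Helper8.GlauP.conjHom K H hnorm) ⊤))
        * Nat.card (H →* ℂˣ) := by
  classical
  have hc := isComplement'_of_sup_eq_top K H hKH hcop
  have hidx : K.index = Nat.card H := hc.index_eq_card
  have hcop' : (Nat.card K).Coprime K.index := by rw [hidx]; exact hcop
  rw [← hidx, card_coprime_degree K hcop', Nat.card_congr (linKEquiv K H hc)]
  congr 1
  have e1 : ∀ θ : Cfsg.IrrCharacter K, InvK K (θ : K → ℂ)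
      ↔ InvChar (Cfsg.Agent.Lib.Helper8.GlauP.conjHom K H hnorm) (θ : K → ℂ) := by
    intro θ
    rw [invK_iff_of_sup_eq_top K H hKH (IsIrrCharacter.isClassFunction θ.2)]
    constructor
    · intro h s n
      exact h s s.2 n
    · intro h s hs n
      exact h ⟨s, hs⟩ n
  rw [Nat.card_congr (Equiv.subtypeEquivRight e1)]
  exact card_invChar_eq_card_irr_fixed (Nat.card H) ↥H ↥K (Cfsg.Agent.Lib.Helper8.GlauP.conjHom K H hnorm) rfl hsolv hcop

end Cfsg.Agent.Lib.Helper8.McK
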