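import Mathlib
import Cfsg.Agent.Lib.Helper8.Mil1

set_option autoImplicit false

namespace Cfsg.Agent.Lib.Helper8.Mil

open Equiv MulAction
open Cfsg.Agent.Lib.Lead

variable {α : Type*} [Fintype α] [DecidableEq α]

/-- A `4`-transitive group on at least `5` points containing a double transposition contains a
`3`-cycle. -/
theorem double_transposition (G : Subgroup (Perm α))
    (hMT : ∀ S : Finset α, S.card ≤ 4 → ∀ π : Perm α, ∃ x ∈ G, ∀ y ∈ S, x y = π y)
    (h5 : 5 ≤ Fintype.card α) {g : Perm α} (hg : g ∈ G) (hg2 : g * g = 1)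
    (hsupp : g.support.card = 4) : ∃ w ∈ G, w.IsThreeCycle := by
  have hgg : ∀ z, g (g z) = z := fun z => by
    have := congrArg (fun σ : Perm α => σ z) hg2; simpa using this
  obtain ⟨a, ha⟩ : g.support.Nonempty := by rw [← Finset.card_pos, hsupp]; norm_num
  obtain ⟨b, hb⟩ : ∃ b, b = g a := ⟨_, rfl⟩
  have hab : b ≠ a := by rw [hb]; exact Perm.mem_support.mp ha
  have hgb : g b = a := by rw [hb]; exact hgg a
  have hbs : b ∈ g.support := by rw [Perm.mem_support, hgb]; exact hab.symm
  obtain ⟨c, hc⟩ : ((g.support.erase a).erase b).Nonempty := by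
    rw [← Finset.card_pos, Finset.card_erase_of_mem (Finset.mem_erase.mpr ⟨hab, hbs⟩),
      Finset.card_erase_of_mem ha, hsupp]
    norm_num
  have hcb : c ≠ b := (Finset.mem_erase.mp hc).1
  have hc' := (Finset.mem_erase.mp hc).2
  have hca : c ≠ a := (Finset.mem_erase.mp hc').1
  have hcs : c ∈ g.support := (Finset.mem_erase.mp hc').2
  obtain ⟨d, hd⟩ : ∃ d, d = g c := ⟨_, rfl⟩
  have hdc : d ≠ c := by rw [hd]; exact Perm.mem_support.mp hcs
  have hgd : g d = c := by rw [hd]; exact hgg c
  have hda : d ≠ a := by
    intro h; apply hcb; apply g.injective; rw [← hd, h, hgb]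
  have hdb : d ≠ b := by
    intro h; apply hca; apply g.injective; rw [← hd, h, hb]
  have hds : d ∈ g.support := by rw [Perm.mem_support, hgd]; exact hdc.symm
  have hS : g.support = {a, b, c, d} := by
    symm; apply Finset.eq_of_subset_of_card_le
    · intro z hz; simp only [Finset.mem_insert, Finset.mem_singleton] at hz
      rcases hz with rfl | rfl | rfl | rfl <;> assumption
    · rw [hsupp, Finset.card_insert_of_notMem (by simp [hab.symm, hca.symm, hda.symm]),
        Finset.card_insert_of_notMem (by simp [hcb.symm, hdb.symm]), Finset.card_pair hdc.symm]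
  have hfix : ∀ z, z ≠ a → z ≠ b → z ≠ c → z ≠ d → g z = z := by
    intro z h1 h2 h3 h4
    by_contra h
    have : z ∈ g.support := Perm.mem_support.mpr h
    rw [hS] at this; simp at this; tauto
  have hgeq : g = swap a b * swap c d := by
    ext z
    rw [Perm.mul_apply]
    by_cases h1 : z = a
    · rw [h1, swap_apply_of_ne_of_ne hca.symm hda.symm, swap_apply_left, hb]
    by_cases h2 : z = b
    · rw [h2, swap_apply_of_ne_of_ne hcb.symm hdb.symm, swap_apply_right, hgb]
    by_cases h3 : z = c
    · rw [h3, swap_apply_left, swap_apply_of_ne_of_ne hda hdb, hd]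
    by_cases h4 : z = d
    · rw [h4, swap_apply_right, swap_apply_of_ne_of_ne hca hcb, hgd]
    · rw [swap_apply_of_ne_of_ne h3 h4, swap_apply_of_ne_of_ne h1 h2, hfix z h1 h2 h3 h4]
  obtain ⟨e, he⟩ : ∃ e, e ∉ g.support := by
    by_contra h; push Not at h
    have : g.support = Finset.univ := Finset.eq_univ_iff_forall.mpr h
    rw [this, Finset.card_univ] at hsupp; omega
  have hea : e ≠ a := fun h => he (h ▸ ha)
  have heb : e ≠ b := fun h => he (h ▸ hbs)
  have hec : e ≠ c := fun h => he (h ▸ hcs)
  have hed : e ≠ d := fun h => he (h ▸ hds)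
  obtain ⟨u, huG, hu⟩ := hMT {a, b, c, d} Finset.card_le_four (swap d e)
  have hua : u a = a := by
    rw [hu a (by simp)]; exact swap_apply_of_ne_of_ne hda.symm hea.symm
  have hub : u b = b := by
    rw [hu b (by simp)]; exact swap_apply_of_ne_of_ne hdb.symm heb.symm
  have huc : u c = c := by
    rw [hu c (by simp)]; exact swap_apply_of_ne_of_ne hdc.symm hec.symm
  have hud : u d = e := by rw [hu d (by simp), swap_apply_left]
  have hconj : u * g * u⁻¹ = swap a b * swap c e := by
    rw [hgeq]
    have h1 := swap_apply_apply u a b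
    have h2 := swap_apply_apply u c d
    rw [hua, hub] at h1; rw [huc, hud] at h2
    rw [show u * (swap a b * swap c d) * u⁻¹ = (u * swap a b * u⁻¹) * (u * swap c d * u⁻¹) by group,
      ← h1, ← h2]
  refine ⟨g * (u * g * u⁻¹), mul_mem hg (mul_mem (mul_mem huG hg) (inv_mem huG)), ?_⟩
  rw [hconj, hgeq]
  have hcomm : swap a b * swap c d = swap c d * swap a b :=
    (Perm.disjoint_swap_swap (by simp [hab.symm, hca.symm, hda.symm, hcb.symm, hdb.symm,
      hdc.symm])).commute.eq
  have h3 : swap a b * swap c d * (swap a b * swap c e) = swap c d * swap c e := by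
    rw [hcomm, mul_assoc, ← mul_assoc (swap a b), swap_mul_self, one_mul]
  rw [h3]
  exact Perm.isThreeCycle_swap_mul_swap_same hdc.symm hec.symm hed.symm

theorem prim_of_four (G : Subgroup (Perm α)) {t : ℕ} (ht : 2 ≤ t) (htn : t ≤ Fintype.card α)
    (hG : IsMultiplyPretransitive G α t) : IsPreprimitive G α := by
  haveI := hG
  have h2 : IsMultiplyPretransitive G α 2 :=
    isMultiplyPretransitive_of_le (n := t) ht (by rw [Nat.card_eq_fintype_card]; exact htn)
  exact isPreprimitive_of_is_two_pretransitive h2

/-- an element of prime order moving at most `5` points, in a `4`-transitive group of degree 9 -/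
theorem alt_of_prime_order_small (G : Subgroup (Perm α)) (hG : IsMultiplyPretransitive G α 4)
    (hcard : Fintype.card α = 9) {g : Perm α} (hg : g ∈ G) (hq : (orderOf g).Prime)
    (hs : g.support.card ≤ 5) : alternatingGroup α ≤ G := by
  have hprim : IsPreprimitive G α := prim_of_four G (by norm_num) (by omega) hG
  have hMT := JordanCycle.exists_on_finset G hG (by omega)
  obtain ⟨m, hm⟩ := Perm.cycleType_prime_order hq
  have hsum : (m + 1) * orderOf g = g.support.card := by
    rw [← Perm.sum_cycleType, hm, Multiset.sum_replicate, smul_eq_mul]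
  generalize hqdef : orderOf g = q at *
  have hq2 := hq.two_le
  have hq5 : q ≤ 5 := by nlinarith
  interval_cases q
  · have hm1 : m = 0 ∨ m = 1 := by omega
    rcases hm1 with rfl | rfl
    · have hsw : g.IsSwap := Perm.card_support_eq_two.mp (by omega)
      rw [Perm.subgroup_eq_top_of_isPreprimitive_of_isSwap_mem hprim g hsw hg]; exact le_top
    · have h4 : g.support.card = 4 := by omega
      have hg2 : g * g = 1 := by rw [← pow_two, ← hqdef]; exact pow_orderOf_eq_one g
      obtain ⟨w, hw, hw3⟩ := double_transposition G hMT (by omega) hg hg2 h4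
      exact Perm.alternatingGroup_le_of_isPreprimitive_of_isThreeCycle_mem hprim hw3 hw
  · have hm0 : m = 0 := by omega
    subst hm0
    have h3 : g.IsThreeCycle := by unfold Perm.IsThreeCycle; rw [hm]; rfl
    exact Perm.alternatingGroup_le_of_isPreprimitive_of_isThreeCycle_mem hprim h3 hg
  · exact absurd hq (by decide)
  · have hm0 : m = 0 := by omega
    subst hm0
    have hcyc : g.IsCycle := Perm.card_cycleType_eq_one.mp (by rw [hm]; simp)
    exact JordanCycle.jordan_prime_cycle G hprim (p := 5) (by norm_num) (by omega) hcyc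
      (by omega) hg


/-- **Lemma 9**: a `4`-transitive group of degree `9` contains the alternating group. -/
theorem lemma9 (G : Subgroup (Perm α)) (hcard : Fintype.card α = 9)
    (hG : IsMultiplyPretransitive G α 4) : alternatingGroup α ≤ G := by
  classical
  have hprim : IsPreprimitive G α := prim_of_four G (by norm_num) (by omega) hG
  obtain ⟨F, hF⟩ : ∃ F : Finset α, F.card = 4 := by
    obtain ⟨F, -, hF⟩ := Finset.exists_subset_card_eq (s := (Finset.univ : Finset α)) (n := 4)
      (by rw [Finset.card_univ]; omega)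
    exact ⟨F, hF⟩
  by_cases hT : ∃ g ∈ pstab G F, g ≠ 1
  · obtain ⟨g, hgT, hg1⟩ := hT
    have ho1 : orderOf g ≠ 1 := by rwa [Ne, orderOf_eq_one_iff]
    have ho0 : orderOf g ≠ 0 := (orderOf_pos g).ne'
    have hqp : (orderOf g).minFac.Prime := Nat.minFac_prime ho1
    have hord : orderOf (g ^ (orderOf g / (orderOf g).minFac)) = (orderOf g).minFac :=
      orderOf_pow_orderOf_div ho0 (Nat.minFac_dvd _)
    have hg'T : g ^ (orderOf g / (orderOf g).minFac) ∈ pstab G F := pow_mem hgT _
    have hsub : (g ^ (orderOf g / (orderOf g).minFac)).support ⊆ Fᶜ := by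
      intro z hz; rw [Finset.mem_compl]; intro hzF
      exact (Perm.mem_support.mp hz) (hg'T.2 z hzF)
    have hs5 : (g ^ (orderOf g / (orderOf g).minFac)).support.card ≤ 5 := by
      calc _ ≤ Fᶜ.card := Finset.card_le_card hsub
        _ = 5 := by rw [Finset.card_compl, hcard, hF]
    exact alt_of_prime_order_small G hG hcard hg'T.1 (by rw [hord]; exact hqp) hs5
  · push Not at hT
    by_cases hsw : ∃ w ∈ G, Perm.IsSwap w
    · obtain ⟨w, hw, hws⟩ := hsw
      rw [Perm.subgroup_eq_top_of_isPreprimitive_of_isSwap_mem hprim w hws hw]; exact le_top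
    exfalso
    push Not at hsw
    -- the order of `G`
    have hG9 : Nat.card G = 3024 := by
      let e : Fin 4 ↪ α :=
        (F.equivFinOfCardEq hF).symm.toEmbedding.trans (Function.Embedding.subtype _)
      have heF : ∀ z ∈ F, ∃ i, e i = z := by
        intro z hz
        refine ⟨F.equivFinOfCardEq hF ⟨z, hz⟩, ?_⟩
        simp [e]
      have hbij : Function.Bijective (fun g : G => g • e) := by
        constructor
        · intro g₁ g₂ h
          have h1 : (g₂⁻¹ * g₁).1 ∈ pstab G F := by
            refine ⟨(g₂⁻¹ * g₁).2, fun z hz => ?_⟩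
            obtain ⟨i, rfl⟩ := heF z hz
            have h2 := congrArg (fun f : Fin 4 ↪ α => f i) h
            simp only [Function.Embedding.smul_apply] at h2
            rw [Subgroup.coe_mul, Perm.mul_apply, Subgroup.coe_inv, Perm.inv_eq_iff_eq]
            exact h2
          have h4 : g₂⁻¹ * g₁ = 1 := Subtype.ext (hT _ h1)
          exact (inv_mul_eq_one.mp h4).symm
        · intro f; exact hG.exists_smul_eq e f
      rw [Nat.card_congr (Equiv.ofBijective _ hbij), Nat.card_eq_fintype_card,
        Fintype.card_embedding_eq, Fintype.card_fin, hcard]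
      rfl
    haveI : Fact (Nat.Prime 7) := ⟨by norm_num⟩
    obtain ⟨c, hc⟩ := exists_prime_orderOf_dvd_card' 7 (by rw [hG9]; norm_num : 7 ∣ Nat.card G)
    have hc1 : orderOf c.1 = 7 := by rw [← hc]; exact Subgroup.orderOf_coe c
    obtain ⟨m, hm⟩ := Perm.cycleType_prime_order (σ := c.1) (by rw [hc1]; norm_num)
    have hsum : (m + 1) * 7 = c.1.support.card := by
      rw [← Perm.sum_cycleType, hm, Multiset.sum_replicate, smul_eq_mul, hc1]
    have hle : c.1.support.card ≤ 9 := by rw [← hcard]; exact Finset.card_le_univ _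
    have hm0 : m = 0 := by omega
    subst hm0
    have hcyc : c.1.IsCycle := Perm.card_cycleType_eq_one.mp (by rw [hm]; simp)
    have hsupp7 : c.1.support.card = 7 := by omega
    -- the centraliser of `c`
    have hcent : ∀ z : G, z * c = c * z → z ∈ Subgroup.zpowers c := by
      intro z hz
      have hz1 : z.1 * c.1 = c.1 * z.1 := congrArg Subtype.val hz
      have hzc : ∀ y, z.1 (c.1 y) = c.1 (z.1 y) := fun y => by
        have := congrArg (fun σ : Perm α => σ y) hz1; simpa using this
      obtain ⟨y0, hy0⟩ : c.1.support.Nonempty := by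
        rw [← Finset.card_pos, hsupp7]; norm_num
      rw [Perm.mem_support] at hy0
      have hzy0 : c.1 (z.1 y0) ≠ z.1 y0 := by
        rw [← hzc]; exact fun h => hy0 (z.1.injective h)
      obtain ⟨i, hi⟩ := hcyc.exists_zpow_eq hy0 hzy0
      obtain ⟨z', hz'⟩ : ∃ z' : Perm α, z' = (c.1 ^ i)⁻¹ * z.1 := ⟨_, rfl⟩
      have hz'G : z' ∈ G := by rw [hz']; exact mul_mem (inv_mem (zpow_mem c.2 i)) z.2
      have hcomm : Commute z' c.1 := by
        rw [hz']
        apply Commute.mul_left
        · exact ((Commute.refl c.1).zpow_left i).inv_left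
        · exact hz1
      have hz'y0 : z' y0 = y0 := by rw [hz', Perm.mul_apply, ← hi]; simp
      have hz'fix : ∀ y, c.1 y ≠ y → z' y = y := by
        intro y hy
        obtain ⟨j, hj⟩ := hcyc.exists_zpow_eq hy0 hy
        rw [← hj]
        have h2 := congrArg (fun σ : Perm α => σ y0) (hcomm.zpow_right j).eq
        simp only [Perm.mul_apply] at h2
        rw [h2, hz'y0]
      by_cases h1 : z' = 1
      · have h2 : z.1 = c.1 ^ i := by
          rw [hz'] at h1; exact (inv_mul_eq_one.mp h1).symm
        rw [Subgroup.mem_zpowers_iff]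
        exact ⟨i, Subtype.ext (by rw [Subgroup.coe_zpow]; exact h2.symm)⟩
      · exfalso
        have hsub : z'.support ⊆ c.1.supportᶜ := by
          intro y hy
          rw [Finset.mem_compl, Perm.notMem_support]
          by_contra h
          exact (Perm.mem_support.mp hy) (hz'fix y h)
        have hle2 : z'.support.card ≤ 2 := by
          calc _ ≤ _ := Finset.card_le_card hsub
            _ = 2 := by rw [Finset.card_compl, hcard, hsupp7]
        have hne0 : z'.support.card ≠ 0 := by
          rw [Ne, Finset.card_eq_zero, Perm.support_eq_empty_iff]; exact h1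
        have hne1 := Perm.card_support_ne_one z'
        exact hsw z' hz'G (Perm.card_support_eq_two.mp (by omega))
    -- Sylow counting
    have hQcard : Nat.card (Subgroup.zpowers c) = 7 := by rw [Nat.card_zpowers, hc]
    have hidx : (Subgroup.zpowers c).index = 432 := by
      have := (Subgroup.zpowers c).card_mul_index; rw [hQcard, hG9] at this; omega
    have hQp : IsPGroup 7 (Subgroup.zpowers c) :=
      IsPGroup.of_card (n := 1) (by rw [hQcard]; rfl)
    let S : Sylow 7 G := hQp.toSylow (by rw [hidx]; decide)
    have hS : (S : Subgroup G) = Subgroup.zpowers c := rfl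
    have h1 := card_sylow_modEq_one 7 G
    rw [S.card_eq_index_normalizer] at h1
    have h3 := (Subgroup.normalizer ((S : Subgroup G) : Set G)).card_mul_index
    rw [hG9] at h3
    have hcen : Subgroup.centralizer ((S : Subgroup G) : Set G) ≤ Subgroup.zpowers c := by
      intro z hz
      apply hcent
      exact (hz c (Subgroup.mem_zpowers c)).symm
    have key := Subgroup.card_dvd_of_injective _
      (QuotientGroup.kerLift_injective (S : Subgroup G).normalizerMonoidHom)
    rw [Subgroup.normalizerMonoidHom_ker, ← Subgroup.index, ← Subgroup.relIndex] at key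
    haveI : IsCyclic (S : Subgroup G) := by rw [hS]; infer_instance
    rw [IsCyclic.card_mulAut, hS, hQcard, Nat.totient_prime (by norm_num)] at key
    have h5 := Subgroup.card_mul_index ((Subgroup.centralizer ((S : Subgroup G) : Set G)).subgroupOf
      (Subgroup.normalizer ((S : Subgroup G) : Set G)))
    have h6 : Nat.card ((Subgroup.centralizer ((S : Subgroup G) : Set G)).subgroupOf
      (Subgroup.normalizer ((S : Subgroup G) : Set G))) ≤ 7 := by
      have h := Nat.card_le_card_of_injective
        (fun x : ((Subgroup.centralizer ((S : Subgroup G) : Set G)).subgroupOf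
          (Subgroup.normalizer ((S : Subgroup G) : Set G))) =>
          (⟨x.1.1, hcen x.2⟩ : Subgroup.zpowers c)) (by
        intro x y hxy
        apply Subtype.ext; apply Subtype.ext
        have hxy' : (⟨x.1.1, hcen x.2⟩ : Subgroup.zpowers c) = ⟨y.1.1, hcen y.2⟩ := hxy
        exact Subtype.mk.inj hxy')
      rwa [hQcard] at h
    have h7 : ((Subgroup.centralizer ((S : Subgroup G) : Set G)).subgroupOf
      (Subgroup.normalizer ((S : Subgroup G) : Set G))).index ≤ 6 :=
      Nat.le_of_dvd (by norm_num) key
    have h8 : Nat.card (Subgroup.normalizer ((S : Subgroup G) : Set G)) ≤ 42 := by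
      rw [← h5]; nlinarith
    have harith : ∀ m ≤ 42, m ∣ 3024 → (3024 / m) % 7 ≠ 1 := by decide
    have h9 : (Subgroup.normalizer ((S : Subgroup G) : Set G)).index =
        3024 / Nat.card (Subgroup.normalizer ((S : Subgroup G) : Set G)) := by
      rw [← h3, Nat.mul_div_cancel_left _ Nat.card_pos]
    apply harith _ h8 (Dvd.intro _ h3)
    rw [← h9]
    exact h1

end Cfsg.Agent.Lib.Helper8.Mil
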