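import Mathlib
import Cfsg.Agent.Lib.Helper8.Mil2

set_option autoImplicit false

namespace Cfsg.Agent.Lib.Helper8.Mil

open Equiv MulAction
open Cfsg.Agent.Lib.Lead
open scoped commutatorElement

variable {α : Type*} [Fintype α] [DecidableEq α]

/-- restriction to an invariant finite set -/
def restr (K : Subgroup (Perm α)) (Φ : Finset α) (hK : ∀ g ∈ K, ∀ y, g y ∈ Φ ↔ y ∈ Φ) :
    K →* Perm Φ where
  toFun f := Perm.subtypePerm f.1 (hK f.1 f.2)
  map_one' := by ext x; simp
  map_mul' a b := by ext x; rfl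

theorem restr_apply (K : Subgroup (Perm α)) (Φ : Finset α)
    (hK : ∀ g ∈ K, ∀ y, g y ∈ Φ ↔ y ∈ Φ) (f : K) (z : Φ) :
    ((restr K Φ hK f z : Φ) : α) = f.1 z.1 := rfl

/-- a subgroup of `Perm β` containing all commutators contains the alternating group -/
theorem alt_le_of_commutators {β : Type*} [Fintype β] [DecidableEq β] (R : Subgroup (Perm β))
    (h : ∀ σ τ : Perm β, ⁅σ, τ⁆ ∈ R) : alternatingGroup β ≤ R := by
  have hsw : ∀ s1 s2 : Perm β, s1.IsSwap → s2.IsSwap → s1 * s2 ∈ R := by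
    rintro s1 s2 ⟨a, b, hab, rfl⟩ ⟨c, d, hcd, rfl⟩
    obtain ⟨u, hu⟩ := isConj_iff.mp (Perm.isConj_swap hab hcd)
    have h1 := h (swap a b) u
    rw [commutatorElement_def, swap_inv] at h1
    rw [← hu]
    have h2 : swap a b * (u * swap a b * u⁻¹) = swap a b * u * swap a b * u⁻¹ := by group
    rw [h2]; exact h1
  intro σ hσ
  suffices hind :
    ∀ (n : ℕ) (l : List (Perm β)) (_ : ∀ g, g ∈ l → Perm.IsSwap g) (_ : l.length = 2 * n),
      l.prod ∈ R by
    obtain ⟨l, rfl, hl⟩ := Perm.truncSwapFactors σ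
    obtain ⟨n, hn⟩ := (Perm.prod_list_swap_mem_alternatingGroup_iff_even_length hl).1 hσ
    rw [← two_mul] at hn
    exact hind n l hl hn
  intro n
  induction n with
  | zero =>
    intro l hl hn
    simp [List.length_eq_zero_iff.1 hn, one_mem]
  | succ n ih =>
    intro l hl hn
    rw [Nat.mul_succ] at hn
    obtain ⟨a, l, rfl⟩ := l.exists_of_length_succ hn
    rw [List.length_cons, Nat.succ_inj] at hn
    obtain ⟨b, l, rfl⟩ := l.exists_of_length_succ hn
    rw [List.prod_cons, List.prod_cons, ← mul_assoc]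
    apply mul_mem
    · exact hsw a b (hl a (by simp)) (hl b (by simp))
    · apply ih l (fun g hg => hl g (by simp [hg]))
      simpa using hn

/-- orbit-stabiliser for pointwise stabilisers -/
theorem card_pstab (G : Subgroup (Perm α)) (D : Finset α) (γ : α) (hγ : γ ∉ D)
    (htrans : ∀ γ', γ' ∉ D → ∃ h ∈ pstab G D, h γ = γ') :
    Nat.card (pstab G D) = Dᶜ.card * Nat.card (pstab G (insert γ D)) := by
  classical
  have hstab : stabilizer (pstab G D) γ = (pstab G (insert γ D)).subgroupOf (pstab G D) := by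
    ext h
    rw [mem_stabilizer_iff, Subgroup.mem_subgroupOf, mem_pstab]
    constructor
    · intro h1
      refine ⟨h.2.1, fun y hy => ?_⟩
      rcases Finset.mem_insert.mp hy with rfl | hy
      · exact h1
      · exact h.2.2 y hy
    · intro h1; exact h1.2 γ (Finset.mem_insert_self _ _)
  have horb : orbit (pstab G D) γ = ((Dᶜ : Finset α) : Set α) := by
    ext z
    rw [mem_orbit_iff, Finset.mem_coe, Finset.mem_compl]
    constructor
    · rintro ⟨h, rfl⟩ hz
      apply hγ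
      have h1 : h.1 (h.1 γ) = h.1 γ := h.2.2 _ hz
      have h2 : h.1 γ = γ := h.1.injective h1
      have h3 : h • γ = γ := h2
      rwa [h3] at hz
    · intro hz
      obtain ⟨h, hh, hhγ⟩ := htrans z hz
      exact ⟨⟨h, hh⟩, hhγ⟩
  have h1 := MulAction.index_stabilizer (pstab G D) γ
  rw [horb, Set.ncard_coe_finset, hstab] at h1
  have h2 := Subgroup.card_mul_index ((pstab G (insert γ D)).subgroupOf (pstab G D))
  rw [h1, Nat.card_congr (Subgroup.subgroupOfEquivOfLe
    (pstab_mono G (Finset.subset_insert γ D))).toEquiv] at h2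
  rw [← h2, mul_comm]

theorem commute_apply {g x : Perm α} (h : Commute g x) (y : α) : g (x y) = x (g y) := by
  have := congrArg (fun σ : Perm α => σ y) h.eq; simpa using this

theorem commute_fix {g x : Perm α} (h : Commute g x) (y : α) : x (g y) = g y ↔ x y = y := by
  rw [← commute_apply h]
  exact g.injective.eq_iff

/-- elements of `G` commuting with `x` and fixing every nontrivial `x`-cycle -/
def C0 (G : Subgroup (Perm α)) (x : Perm α) : Subgroup (Perm α) where
  carrier := {g | g ∈ G ∧ Commute g x ∧ ∀ y, x y ≠ y → ∃ i : ℤ, g y = (x ^ i) y}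
  mul_mem' := by
    rintro a b ⟨haG, hax, ha⟩ ⟨hbG, hbx, hb⟩
    refine ⟨mul_mem haG hbG, hax.mul_left hbx, fun y hy => ?_⟩
    obtain ⟨i, hi⟩ := ha y hy
    obtain ⟨j, hj⟩ := hb y hy
    refine ⟨j + i, ?_⟩
    rw [Perm.mul_apply, hj, commute_apply (hax.zpow_right j), hi, zpow_add, Perm.mul_apply]
  one_mem' := ⟨one_mem _, Commute.one_left x, fun y _ => ⟨0, by simp⟩⟩
  inv_mem' := by
    rintro a ⟨haG, hax, ha⟩
    refine ⟨inv_mem haG, hax.inv_left, fun y hy => ?_⟩
    have hy' : x (a⁻¹ y) ≠ a⁻¹ y := by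
      intro h
      apply hy
      rw [commute_fix hax.inv_left] at h
      exact h
    obtain ⟨i, hi⟩ := ha _ hy'
    refine ⟨-i, ?_⟩
    rw [zpow_neg, Perm.eq_inv_iff_eq, ← hi]
    simp

theorem mem_C0 {G : Subgroup (Perm α)} {x g : Perm α} :
    g ∈ C0 G x ↔ g ∈ G ∧ Commute g x ∧ ∀ y, x y ≠ y → ∃ i : ℤ, g y = (x ^ i) y := Iff.rfl

theorem self_mem_C0 {G : Subgroup (Perm α)} {x : Perm α} (hx : x ∈ G) : x ∈ C0 G x :=
  ⟨hx, Commute.refl x, fun y _ => ⟨1, by simp⟩⟩

theorem C0_pow_apply {G : Subgroup (Perm α)} {x g : Perm α} {p : ℕ} (hxp : x ^ p = 1)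
    (hg : g ∈ C0 G x) (y : α) (hy : x y ≠ y) : (g ^ p) y = y := by
  obtain ⟨i, hi⟩ := hg.2.2 y hy
  have h1 : ∀ m : ℕ, (g ^ m) y = (x ^ ((m : ℤ) * i)) y := by
    intro m
    induction m with
    | zero => simp
    | succ m ih =>
      rw [pow_succ', Perm.mul_apply, ih, commute_apply (hg.2.1.zpow_right _), hi,
        ← Perm.mul_apply, ← zpow_add]
      congr 2
      push_cast; ring
  rw [h1 p, zpow_mul, zpow_natCast, hxp, one_zpow]
  rfl

theorem normalizer_fix {x s : Perm α}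
    (hs : s ∈ Subgroup.normalizer (Subgroup.zpowers x : Set (Perm α))) (y : α) :
    x (s y) = s y ↔ x y = y := by
  have key : ∀ t : Perm α, t ∈ Subgroup.normalizer (Subgroup.zpowers x : Set (Perm α)) →
      ∀ y, x (t y) = t y → x y = y := by
    intro t ht y h
    have h1 : t * x * t⁻¹ ∈ Subgroup.zpowers x :=
      (Subgroup.mem_normalizer_iff.mp ht x).mp (Subgroup.mem_zpowers x)
    obtain ⟨l, hl⟩ := Subgroup.mem_zpowers_iff.mp h1
    have h2 : (x ^ l) (t y) = t y := Perm.zpow_apply_eq_self_of_apply_eq_self h l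
    rw [hl] at h2
    rw [Perm.mul_apply, Perm.mul_apply] at h2
    have h3 : t⁻¹ (t y) = y := by simp
    rw [h3] at h2
    exact t.injective h2
  constructor
  · exact key s hs y
  · intro h
    apply key s⁻¹ (inv_mem hs) (s y)
    simpa using h


theorem C0_conj {G : Subgroup (Perm α)} {x g s : Perm α} (hsG : s ∈ G)
    (hs : s ∈ Subgroup.normalizer (Subgroup.zpowers x : Set (Perm α))) (hg : g ∈ C0 G x) :
    s * g * s⁻¹ ∈ C0 G x := by
  have h1 : s * x * s⁻¹ ∈ Subgroup.zpowers x :=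
    (Subgroup.mem_normalizer_iff.mp hs x).mp (Subgroup.mem_zpowers x)
  obtain ⟨l, hl⟩ := Subgroup.mem_zpowers_iff.mp h1
  have h2 : s⁻¹ * x * s ∈ Subgroup.zpowers x := by
    have := (Subgroup.mem_normalizer_iff.mp (inv_mem hs) x).mp (Subgroup.mem_zpowers x)
    simpa using this
  obtain ⟨j, hj⟩ := Subgroup.mem_zpowers_iff.mp h2
  refine ⟨mul_mem (mul_mem hsG hg.1) (inv_mem hsG), ?_, fun y hy => ?_⟩
  · have hx : s * (x ^ j) * s⁻¹ = x := by rw [hj]; group
    have h3 : Commute (s * g * s⁻¹) (s * x ^ j * s⁻¹) :=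
      (Commute.conj_iff s).mpr (hg.2.1.zpow_right j)
    rwa [hx] at h3
  · have hy' : x (s⁻¹ y) ≠ s⁻¹ y := by
      rw [Ne, normalizer_fix (inv_mem hs)]; exact hy
    obtain ⟨i, hi⟩ := hg.2.2 (s⁻¹ y) hy'
    refine ⟨l * i, ?_⟩
    rw [Perm.mul_apply, Perm.mul_apply, hi, zpow_mul, hl, conj_zpow]
    rfl

theorem comm_centralizes {x S T : Perm α}
    (hS : S ∈ Subgroup.normalizer (Subgroup.zpowers x : Set (Perm α)))
    (hT : T ∈ Subgroup.normalizer (Subgroup.zpowers x : Set (Perm α))) :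
    Commute ⁅S, T⁆ x := by
  let _ : CommGroup (MulAut (Subgroup.zpowers x)) :=
    (IsCyclic.mulAutMulEquiv (Subgroup.zpowers x)).toMonoidHom.commGroupOfInjective
      (IsCyclic.mulAutMulEquiv (Subgroup.zpowers x)).injective
  have h := Abelianization.commutator_subset_ker (Subgroup.zpowers x).normalizerMonoidHom
  rw [Subgroup.normalizerMonoidHom_ker] at h
  have h1 : ⁅(⟨S, hS⟩ : Subgroup.normalizer (Subgroup.zpowers x : Set (Perm α))), ⟨T, hT⟩⁆ ∈
      commutator (Subgroup.normalizer (Subgroup.zpowers x : Set (Perm α))) :=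
    Subgroup.commutator_mem_commutator (Subgroup.mem_top _) (Subgroup.mem_top _)
  have h2 := h h1
  rw [Subgroup.mem_subgroupOf, Subgroup.mem_centralizer_iff] at h2
  exact (h2 x (Subgroup.mem_zpowers x)).symm

/-- Case B1b (ii): the kernel on the cycles acts non-trivially on the fixed points. -/
theorem caseB_ii (G : Subgroup (Perm α)) (D : Finset α) (x : Perm α) {p : ℕ} (hp : p.Prime)
    (hp2 : p ≠ 2) (hxp : x ^ p = 1) (hxD : ∀ y, x y = y ↔ y ∈ D)
    (hW : ∀ π : Perm α, (∀ y, π y ∈ D ↔ y ∈ D) → ∃ s ∈ G,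
      s ∈ Subgroup.normalizer (Subgroup.zpowers x : Set (Perm α)) ∧ ∀ y ∈ D, s y = π y)
    (hfaith : ∀ g ∈ G, (∀ y, y ∉ D → g y = y) → g = 1)
    {g : Perm α} (hg : g ∈ C0 G x) {a : α} (ha : a ∈ D) (hga : g a ≠ a) :
    p = 3 ∧ D.card ≤ 3 := by
  have hpow : ∀ w ∈ C0 G x, w ^ p = 1 := by
    intro w hw
    apply hfaith _ (pow_mem hw.1 p)
    intro y hy
    apply C0_pow_apply hxp hw
    rw [Ne, hxD]; exact hy
  have hgD : ∀ y, g y ∈ D ↔ y ∈ D := by
    intro y; rw [← hxD, ← hxD, commute_fix hg.2.1]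
  have hgD' : ∀ y, g⁻¹ y ∈ D ↔ y ∈ D := by
    intro y; rw [← hgD (g⁻¹ y)]; simp
  have hswD : ∀ u v, u ∈ D → v ∈ D → ∀ y, swap u v y ∈ D ↔ y ∈ D := by
    intro u v hu hv y
    rw [swap_apply_def]
    split_ifs with h1 h2
    · subst h1; simp [hu, hv]
    · subst h2; simp [hu, hv]
    · rfl
  obtain ⟨b, hb⟩ : ∃ b, b = g a := ⟨_, rfl⟩
  obtain ⟨c, hc⟩ : ∃ c, c = g b := ⟨_, rfl⟩
  have hbD : b ∈ D := by rw [hb, hgD]; exact ha
  have hcD : c ∈ D := by rw [hc, hgD]; exact hbD
  have hba : b ≠ a := by rw [hb]; exact hga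
  have hcb : c ≠ b := by rw [hc, hb]; intro h; exact hga (g.injective h)
  have hca : c ≠ a := by
    intro h
    have h2 : g (g a) = a := by rw [← hb, ← hc]; exact h
    have h3 : ∀ m : ℕ, (g ^ (2 * m)) a = a := by
      intro m
      induction m with
      | zero => simp
      | succ m ih =>
        rw [Nat.mul_succ, pow_add, Perm.mul_apply, pow_two, Perm.mul_apply, h2, ih]
    obtain ⟨m, hm⟩ := hp.odd_of_ne_two hp2
    have h4 := hpow g hg
    rw [hm, pow_succ'] at h4
    have h5 := congrArg (fun σ : Perm α => σ a) h4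
    simp only [Perm.mul_apply, h3 m, Perm.one_apply] at h5
    exact hga h5
  obtain ⟨s, hsG, hsN, hs⟩ := hW (swap a b) (hswD a b ha hbD)
  have hsinv : ∀ y ∈ D, s⁻¹ y = swap a b y := by
    intro y hy
    rw [Perm.inv_eq_iff_eq, hs _ ((hswD a b ha hbD y).mpr hy), swap_apply_self]
  obtain ⟨w, hw⟩ : ∃ w, w = g * (s * g⁻¹ * s⁻¹) := ⟨_, rfl⟩
  have hwC : w ∈ C0 G x := by rw [hw]; exact mul_mem hg (C0_conj hsG hsN (inv_mem hg))
  have hwD : ∀ y ∈ D, w y = (swap b c * swap a b) y := by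
    intro y hy
    have h1 : swap b c = g * swap a b * g⁻¹ := by rw [← swap_apply_apply, ← hb, ← hc]
    rw [hw, h1]
    simp only [Perm.mul_apply]
    rw [hsinv y hy, hs _ ((hgD' _).mpr ((hswD a b ha hbD y).mpr hy))]
  have hwa : w a = c := by
    rw [hwD a ha, Perm.mul_apply, swap_apply_left, swap_apply_left]
  have hwc : w c = b := by
    rw [hwD c hcD, Perm.mul_apply, swap_apply_of_ne_of_ne hca hcb, swap_apply_right]
  have hwb : w b = a := by
    rw [hwD b hbD, Perm.mul_apply, swap_apply_right, swap_apply_of_ne_of_ne hba.symm hca.symm]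
  have hwp := hpow w hwC
  have hw3 : (w ^ 3) a = a := by
    have : w ^ 3 = w * (w * w) := by rw [pow_succ', pow_two]
    rw [this, Perm.mul_apply, Perm.mul_apply, hwa, hwc, hwb]
  have hp3 : p = 3 := by
    by_contra hne
    have hmod : p % 3 ≠ 0 := by
      intro h
      have := (Nat.prime_dvd_prime_iff_eq Nat.prime_three hp).mp (Nat.dvd_of_mod_eq_zero h)
      omega
    obtain ⟨q, j, hj, hpq⟩ : ∃ q j, (j = 1 ∨ j = 2) ∧ p = j + 3 * q :=
      ⟨p / 3, p % 3, by omega, (Nat.mod_add_div p 3).symm⟩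
    have h5 : (w ^ p) a = (w ^ j) a := by
      rw [hpq, pow_add, Perm.mul_apply, pow_mul,
        Perm.pow_apply_eq_self_of_apply_eq_self hw3]
    rw [hwp, Perm.one_apply] at h5
    rcases hj with rfl | rfl
    · rw [pow_one, hwa] at h5; exact hca h5.symm
    · rw [pow_two, Perm.mul_apply, hwa, hwc] at h5; exact hba h5.symm
  refine ⟨hp3, ?_⟩
  by_contra hcard
  push Not at hcard
  obtain ⟨d, hdD, hd⟩ : ∃ d ∈ D, d ∉ ({a, b, c} : Finset α) :=
    Finset.exists_mem_notMem_of_card_lt_card (lt_of_le_of_lt Finset.card_le_three hcard)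
  simp only [Finset.mem_insert, Finset.mem_singleton, not_or] at hd
  obtain ⟨hda, hdb, hdc⟩ := hd
  obtain ⟨s', hs'G, hs'N, hs'⟩ := hW (swap c d) (hswD c d hcD hdD)
  have hs'inv : ∀ y ∈ D, s'⁻¹ y = swap c d y := by
    intro y hy
    rw [Perm.inv_eq_iff_eq, hs' _ ((hswD c d hcD hdD y).mpr hy), swap_apply_self]
  have hw'C : s' * w * s'⁻¹ ∈ C0 G x := C0_conj hs'G hs'N hwC
  have hvC : w * (s' * w * s'⁻¹) ∈ C0 G x := mul_mem hwC hw'C
  have hv3 : (w * (s' * w * s'⁻¹)) ^ 3 = 1 := hp3 ▸ hpow _ hvC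
  have hwd : w d = d := by
    rw [hwD d hdD, Perm.mul_apply, swap_apply_of_ne_of_ne hda hdb,
      swap_apply_of_ne_of_ne hdb hdc]
  have hw'a : (s' * w * s'⁻¹) a = d := by
    rw [Perm.mul_apply, Perm.mul_apply, hs'inv a ha,
      swap_apply_of_ne_of_ne hca.symm (Ne.symm hda), hwa, hs' c hcD, swap_apply_left]
  have hw'd : (s' * w * s'⁻¹) d = b := by
    rw [Perm.mul_apply, Perm.mul_apply, hs'inv d hdD, swap_apply_right, hwc, hs' b hbD,
      swap_apply_of_ne_of_ne hcb.symm (Ne.symm hdb)]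
  have hva : (w * (s' * w * s'⁻¹)) a = d := by rw [Perm.mul_apply, hw'a, hwd]
  have hvd : (w * (s' * w * s'⁻¹)) d = a := by rw [Perm.mul_apply, hw'd, hwb]
  have h6 : ((w * (s' * w * s'⁻¹)) ^ 3) a = d := by
    have : (w * (s' * w * s'⁻¹)) ^ 3 =
        (w * (s' * w * s'⁻¹)) * ((w * (s' * w * s'⁻¹)) * (w * (s' * w * s'⁻¹))) := by
      rw [pow_succ', pow_two]
    rw [this, Perm.mul_apply (w * (s' * w * s'⁻¹)) _ a,
      Perm.mul_apply (w * (s' * w * s'⁻¹)) (w * (s' * w * s'⁻¹)) a, hva, hvd, hva]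
  rw [hv3, Perm.one_apply] at h6
  exact hda h6.symm


/-- Case B1b (i): the kernel on the cycles acts trivially on the fixed points. -/
theorem caseB_i (G : Subgroup (Perm α)) (D : Finset α) (x : Perm α) {k r : ℕ}
    (hxD : ∀ y, x y = y ↔ y ∈ D)
    (hW : ∀ π : Perm α, (∀ y, π y ∈ D ↔ y ∈ D) → ∃ s ∈ G,
      s ∈ Subgroup.normalizer (Subgroup.zpowers x : Set (Perm α)) ∧ ∀ y ∈ D, s y = π y)
    (hDcard : D.card = r) (hr3 : 3 ≤ r) (hkr : k < r) (hcyc : x.cycleFactorsFinset.card ≤ k)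
    (htriv : ∀ g ∈ C0 G x, ∀ a ∈ D, g a = a) : False := by
  classical
  have hND : ∀ g ∈ G ⊓ Subgroup.normalizer (Subgroup.zpowers x : Set (Perm α)),
      ∀ y, g y ∈ D ↔ y ∈ D := by
    intro g hg y; rw [← hxD, ← hxD]; exact normalizer_fix hg.2 y
  have hCN : G ⊓ Subgroup.centralizer {x} ≤
      G ⊓ Subgroup.normalizer (Subgroup.zpowers x : Set (Perm α)) := by
    intro g hg
    refine ⟨hg.1, ?_⟩
    have hcomm : Commute g x := (Subgroup.mem_centralizer_iff.mp hg.2 x rfl).symm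
    apply Subgroup.mem_normalizer_fintype
    rintro _ ⟨i, rfl⟩
    refine ⟨i, ?_⟩
    show x ^ i = g * x ^ i * g⁻¹
    rw [(hcomm.zpow_right i).eq, mul_inv_cancel_right]
  have hCD : ∀ g ∈ G ⊓ Subgroup.centralizer {x}, ∀ y, g y ∈ D ↔ y ∈ D :=
    fun g hg => hND g (hCN hg)
  let ρN := restr (G ⊓ Subgroup.normalizer (Subgroup.zpowers x : Set (Perm α))) D hND
  let ρC := restr (G ⊓ Subgroup.centralizer {x}) D hCD
  let τ : (G ⊓ Subgroup.centralizer {x} : Subgroup (Perm α)) →* Perm x.cycleFactorsFinset :=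
    (Perm.OnCycleFactors.toPermHom x).comp
      (Subgroup.inclusion (inf_le_right : G ⊓ Subgroup.centralizer {x} ≤ Subgroup.centralizer {x}))
  have hker : τ.ker ≤ ρC.ker := by
    intro g hg
    rw [MonoidHom.mem_ker] at hg ⊢
    have h1 : Subgroup.inclusion
        (inf_le_right : G ⊓ Subgroup.centralizer {x} ≤ Subgroup.centralizer {x}) g ∈
        (Perm.OnCycleFactors.toPermHom x).ker := hg
    rw [Perm.OnCycleFactors.mem_ker_toPermHom_iff] at h1
    have hgx : Commute g.1 x := (Subgroup.mem_centralizer_iff.mp g.2.2 x rfl).symm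
    have hgC0 : g.1 ∈ C0 G x := by
      refine ⟨g.2.1, hgx, fun y hy => ?_⟩
      have hc : Commute g.1 (x.cycleOf y) :=
        h1 (x.cycleOf y) (Perm.cycleOf_mem_cycleFactorsFinset_iff.mpr (Perm.mem_support.mpr hy))
      have h2 : (x.cycleOf y) y ≠ y := by rw [Perm.cycleOf_apply_self]; exact hy
      have h3 : (x.cycleOf y) (g.1 y) ≠ g.1 y := by
        rw [← commute_apply hc]
        exact fun h => h2 (g.1.injective h)
      obtain ⟨i, hi⟩ := (Perm.mem_support_cycleOf_iff.mp (Perm.mem_support.mpr h3)).1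
      exact ⟨i, hi.symm⟩
    ext z
    rw [restr_apply]
    exact htriv _ hgC0 z.1 z.2
  have hcardR : Nat.card ρC.range ≤ k.factorial := by
    rw [← Subgroup.index_ker]
    have h1 : ρC.ker.index ∣ τ.ker.index := Subgroup.index_dvd_of_le hker
    have h2 : τ.ker.index = Nat.card τ.range := Subgroup.index_ker τ
    have h3 : Nat.card τ.range ≤ Nat.card (Perm x.cycleFactorsFinset) :=
      Subgroup.card_le_card_group _
    have h4 : Nat.card (Perm x.cycleFactorsFinset) = (x.cycleFactorsFinset.card).factorial := by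
      rw [Nat.card_perm, Nat.card_eq_fintype_card, Fintype.card_coe]
    have h5 : (x.cycleFactorsFinset.card).factorial ≤ k.factorial := Nat.factorial_le hcyc
    have h6 : τ.ker.index ≠ 0 := by rw [h2]; exact Nat.card_pos.ne'
    exact (Nat.le_of_dvd (Nat.pos_of_ne_zero h6) h1).trans (by rw [h2]; omega)
  have halt : alternatingGroup D ≤ ρC.range := by
    apply alt_le_of_commutators
    intro σ τ'
    have hofD : ∀ σ : Perm D, ∀ y, (Perm.ofSubtype σ) y ∈ D ↔ y ∈ D := by
      intro σ y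
      by_cases hy : y ∈ D
      · rw [Perm.ofSubtype_apply_of_mem σ hy]; simp [hy]
      · rw [Perm.ofSubtype_apply_of_not_mem σ hy]
    obtain ⟨S, hSG, hSN, hS⟩ := hW (Perm.ofSubtype σ) (hofD σ)
    obtain ⟨T, hTG, hTN, hT⟩ := hW (Perm.ofSubtype τ') (hofD τ')
    have hρS : ρN ⟨S, hSG, hSN⟩ = σ := by
      ext z
      rw [restr_apply]
      show S z.1 = _
      rw [hS z.1 z.2, Perm.ofSubtype_apply_coe]
    have hρT : ρN ⟨T, hTG, hTN⟩ = τ' := by
      ext z
      rw [restr_apply]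
      show T z.1 = _
      rw [hT z.1 z.2, Perm.ofSubtype_apply_coe]
    have hκC : ⁅S, T⁆ ∈ G ⊓ Subgroup.centralizer {x} := by
      refine Subgroup.mem_inf.mpr ⟨?_, ?_⟩
      · rw [commutatorElement_def]
        exact mul_mem (mul_mem (mul_mem hSG hTG) (inv_mem hSG)) (inv_mem hTG)
      · rw [Subgroup.mem_centralizer_iff]
        rintro _ rfl
        exact (comm_centralizes hSN hTN).eq.symm
    refine ⟨⟨⁅S, T⁆, hκC⟩, ?_⟩
    have h1 : ρC ⟨⁅S, T⁆, hκC⟩ =
        ρN ⁅(⟨S, hSG, hSN⟩ : (G ⊓ Subgroup.normalizer (Subgroup.zpowers x : Set (Perm α)) :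
          Subgroup (Perm α))), ⟨T, hTG, hTN⟩⁆ := by
      ext z; rfl
    rw [h1, map_commutatorElement, hρS, hρT]
  have hnt : Nontrivial D := by
    rw [← Fintype.one_lt_card_iff_nontrivial, Fintype.card_coe]; omega
  have h1 := two_mul_card_alternatingGroup (α := D)
  rw [Fintype.card_perm, Fintype.card_coe, hDcard] at h1
  have h2 : Nat.card (alternatingGroup D) ≤ Nat.card ρC.range := Subgroup.card_le_of_le halt
  rw [Nat.card_eq_fintype_card] at h2
  have h3 : k.factorial ≤ (r - 1).factorial := Nat.factorial_le (by omega)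
  have h4 : r.factorial = r * (r - 1).factorial := by
    obtain ⟨m, rfl⟩ : ∃ m, r = m + 1 := ⟨r - 1, by omega⟩
    rw [Nat.factorial_succ]; simp
  have h5 : 0 < (r - 1).factorial := Nat.factorial_pos _
  have h6 : 3 * (r - 1).factorial ≤ r * (r - 1).factorial := Nat.mul_le_mul_right _ hr3
  omega


/-- **Case B**: a Sylow `p`-subgroup of the pointwise stabiliser of `D` is generated by an
element `x` of order `p` with fixed point set `D`. -/
theorem caseB (G : Subgroup (Perm α)) {k p r : ℕ} [hpf : Fact p.Prime]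
    (hn : Fintype.card α = k * p + r)
    (hk : 1 ≤ k) (hpk : k < p) (hrk : k < r) (hr3 : 3 ≤ r)
    (hG : IsMultiplyPretransitive G α (r + 1)) (D : Finset α) (hD : D.card = r)
    (P' : Sylow p (pstab G D)) (x : Perm α)
    (hxP : Subgroup.zpowers x = (P' : Subgroup (pstab G D)).map (pstab G D).subtype)
    (hxord : orderOf x = p) (hxD : ∀ y, x y = y ↔ y ∈ D) : alternatingGroup α ≤ G := by
  classical
  have hp : p.Prime := hpf.out
  have hkp : 1 ≤ k * p := Nat.one_le_iff_ne_zero.mpr (Nat.mul_ne_zero (by omega) hp.pos.ne')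
  have hprim : IsPreprimitive G α := prim_of_four G (by omega) (by omega) hG
  have hMT := JordanCycle.exists_on_finset G hG (by omega)
  have hxG : x ∈ G := by
    have h1 : x ∈ Subgroup.zpowers x := Subgroup.mem_zpowers x
    rw [hxP] at h1
    obtain ⟨u, _, rfl⟩ := h1
    exact u.2.1
  have hsupp : x.support = Dᶜ := by
    ext y; rw [Perm.mem_support, Finset.mem_compl, Ne, hxD]
  have hsuppc : x.support.card = k * p := by
    rw [hsupp, Finset.card_compl, hn, hD]; omega
  obtain ⟨m, hm⟩ := Perm.cycleType_prime_order (σ := x) (by rw [hxord]; exact hp)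
  rw [hxord] at hm
  have hsum : (m + 1) * p = k * p := by
    rw [← hsuppc, ← Perm.sum_cycleType, hm, Multiset.sum_replicate, smul_eq_mul]
  have hmk : m + 1 = k := Nat.eq_of_mul_eq_mul_right hp.pos hsum
  have hxp : x ^ p = 1 := by rw [← hxord]; exact pow_orderOf_eq_one x
  rcases Nat.lt_or_ge k 2 with hk2 | hk2
  · -- `k = 1`: Jordan
    have hm0 : m = 0 := by omega
    subst hm0
    have hcyc : x.IsCycle := Perm.card_cycleType_eq_one.mp (by rw [hm]; simp)
    exact JordanCycle.jordan_prime_cycle G hprim hp (by rw [hn]; nlinarith) hcyc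
      (by rw [hsuppc]; nlinarith) hxG
  -- `k ≥ 2`
  have hp3 : 3 ≤ p := by omega
  have hp2 : p ≠ 2 := by omega
  haveI := hG
  have hGr : IsMultiplyPretransitive G α r :=
    isMultiplyPretransitive_of_le (n := r + 1) (by omega)
      (by rw [Nat.card_eq_fintype_card]; omega)
  have hW : ∀ π : Perm α, (∀ y, π y ∈ D ↔ y ∈ D) → ∃ s ∈ G,
      s ∈ Subgroup.normalizer (Subgroup.zpowers x : Set (Perm α)) ∧ ∀ y ∈ D, s y = π y := by
    intro π hπ
    let a : Fin r ↪ α :=
      (D.equivFinOfCardEq hD).symm.toEmbedding.trans (Function.Embedding.subtype _)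
    have haD : ∀ i, a i ∈ D := fun i => ((D.equivFinOfCardEq hD).symm i).2
    have hDa : ∀ z ∈ D, ∃ i, a i = z := by
      intro z hz
      refine ⟨D.equivFinOfCardEq hD ⟨z, hz⟩, ?_⟩
      simp [a]
    have hfix : ∀ u ∈ Subgroup.zpowers x, ∀ z ∈ D, u z = z := by
      rintro _ ⟨j, rfl⟩ z hz
      exact Perm.zpow_apply_eq_self_of_apply_eq_self ((hxD z).mpr hz) j
    obtain ⟨n, hnG, hnN, hn'⟩ := witt G hGr D hD P' (Subgroup.zpowers x) hxP a
      (a.trans π.toEmbedding) (fun u hu i => hfix u hu _ (haD i))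
      (fun u hu i => hfix u hu _ ((hπ _).mpr (haD i)))
    refine ⟨n, hnG, hnN, fun y hy => ?_⟩
    obtain ⟨i, rfl⟩ := hDa y hy
    exact hn' i
  by_cases hK : ∃ g ∈ G, g ≠ 1 ∧ ∀ y, y ∉ D → g y = y
  · obtain ⟨g, hgG, hg1, hgD⟩ := hK
    have hsub : g.support ⊆ D := by
      intro y hy
      by_contra h
      exact (Perm.mem_support.mp hy) (hgD y h)
    have hc : g.support.card ≤ r := hD ▸ Finset.card_le_card hsub
    obtain ⟨w, hw, hw3⟩ := small_support G hMT hgG hg1 (by omega) (by omega)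
    exact Perm.alternatingGroup_le_of_isPreprimitive_of_isThreeCycle_mem hprim hw3 hw
  have hfaith : ∀ g ∈ G, (∀ y, y ∉ D → g y = y) → g = 1 := by
    intro g hg h
    by_contra h1
    exact hK ⟨g, hg, h1, h⟩
  by_cases hii : ∃ g ∈ C0 G x, ∃ a ∈ D, g a ≠ a
  · obtain ⟨g, hg, a, ha, hga⟩ := hii
    obtain ⟨hp3', hD3⟩ := caseB_ii G D x hp hp2 hxp hxD hW hfaith hg ha hga
    have hr : r = 3 := by omega
    have hk' : k = 2 := by omega
    subst hr hk' hp3'
    exact lemma9 G (by rw [hn]) hG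
  · exfalso
    push Not at hii
    apply caseB_i G D x hxD hW hD hr3 hrk (k := k) _ hii
    have h1 : x.cycleType.card = x.cycleFactorsFinset.card := by
      rw [Perm.cycleType_def, Multiset.card_map]; rfl
    rw [← h1, hm, Multiset.card_replicate, hmk]

end Cfsg.Agent.Lib.Helper8.Mil
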