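import Mathlib
import Cfsg.Agent.Lib.Helper8.Mil3

set_option autoImplicit false

namespace Cfsg.Agent.Lib.Helper8.Mil

open Equiv MulAction
open Cfsg.Agent.Lib.Lead
open scoped commutatorElement

/-- a permutation commuting with a cycle of full support is a power of it -/
theorem commute_cycle_full {Ψ : Type*} [Fintype Ψ] [DecidableEq Ψ] {c z : Perm Ψ}
    (hc : c.IsCycle) (hfull : ∀ y, c y ≠ y) (hz : Commute z c) : ∃ i : ℤ, z = c ^ i := by
  have hc' := hc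
  obtain ⟨y0, -⟩ := hc'
  obtain ⟨i, hi⟩ := hc.exists_zpow_eq (hfull y0) (hfull (z y0))
  refine ⟨i, ?_⟩
  ext y
  obtain ⟨j, hj⟩ := hc.exists_zpow_eq (hfull y0) (hfull y)
  rw [← hj, commute_apply (hz.zpow_right j), ← hi, ← Perm.mul_apply, ← Perm.mul_apply,
    ← zpow_add, ← zpow_add, add_comm]

/-- commutators of elements normalising a cyclic subgroup centralise it -/
theorem comm_centralizes' {𝔊 : Type*} [Group 𝔊] (C : Subgroup 𝔊) [IsCyclic C] {S T : 𝔊}
    (hS : S ∈ Subgroup.normalizer (C : Set 𝔊)) (hT : T ∈ Subgroup.normalizer (C : Set 𝔊)) :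
    ⁅S, T⁆ ∈ Subgroup.centralizer (C : Set 𝔊) := by
  let _ : CommGroup (MulAut C) :=
    (IsCyclic.mulAutMulEquiv C).toMonoidHom.commGroupOfInjective
      (IsCyclic.mulAutMulEquiv C).injective
  have h := Abelianization.commutator_subset_ker C.normalizerMonoidHom
  rw [Subgroup.normalizerMonoidHom_ker] at h
  have h1 : ⁅(⟨S, hS⟩ : Subgroup.normalizer (C : Set 𝔊)), ⟨T, hT⟩⁆ ∈
      commutator (Subgroup.normalizer (C : Set 𝔊)) :=
    Subgroup.commutator_mem_commutator (Subgroup.mem_top _) (Subgroup.mem_top _)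
  have h2 := h h1
  rw [Subgroup.mem_subgroupOf] at h2
  exact h2

/-- the normaliser of a nontrivial `p`-subgroup of the symmetric group of degree `p` is
metabelian -/
theorem metAbs {Ψ : Type*} [Fintype Ψ] [DecidableEq Ψ] {p : ℕ} [hpf : Fact p.Prime]
    (hcard : Fintype.card Ψ = p) (C : Subgroup (Perm Ψ)) (hC : IsPGroup p C) (hC1 : C ≠ ⊥) :
    ⁅⁅Subgroup.normalizer (C : Set (Perm Ψ)), Subgroup.normalizer (C : Set (Perm Ψ))⁆,
      ⁅Subgroup.normalizer (C : Set (Perm Ψ)), Subgroup.normalizer (C : Set (Perm Ψ))⁆⁆ = ⊥ := by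
  have hp : p.Prime := hpf.out
  -- `|C| = p`
  obtain ⟨a, ha⟩ := hC.exists_card_eq
  have hdvd : p ^ a ∣ p.factorial := by
    rw [← ha]
    have h1 := Subgroup.card_subgroup_dvd_card C
    rwa [Nat.card_perm, Nat.card_eq_fintype_card (α := Ψ), hcard] at h1
  have ha1 : a ≤ 1 := by
    by_contra hlt
    push Not at hlt
    have h3 : p ^ 2 ∣ p.factorial := (pow_dvd_pow p hlt).trans hdvd
    obtain ⟨k, rfl⟩ : ∃ k, p = k + 1 := ⟨p - 1, by have := hp.two_le; omega⟩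
    rw [Nat.factorial_succ, pow_two] at h3
    have h4 : k + 1 ∣ k.factorial := Nat.dvd_of_mul_dvd_mul_left (by omega) h3
    have := (hp.dvd_factorial).mp h4
    omega
  have ha0 : a ≠ 0 := by
    rintro rfl
    rw [pow_zero] at ha
    exact hC1 (Subgroup.eq_bot_of_card_eq C ha)
  have hCp : Nat.card C = p := by
    have : a = 1 := by omega
    rw [ha, this, pow_one]
  haveI : IsCyclic C := isCyclic_of_prime_card hCp
  -- a generator
  obtain ⟨c0, hc0⟩ : ∃ c0 ∈ C, c0 ≠ 1 := by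
    by_contra h
    push Not at h
    exact hC1 ((Subgroup.eq_bot_iff_forall C).mpr h)
  obtain ⟨hc0C, hc01⟩ := hc0
  have hord : orderOf c0 = p := by
    have h1 : orderOf c0 ∣ p := by
      rw [← hCp]
      have := orderOf_dvd_natCard (⟨c0, hc0C⟩ : C)
      rwa [Subgroup.orderOf_mk] at this
    rcases (Nat.dvd_prime hp).mp h1 with h | h
    · exact absurd (orderOf_eq_one_iff.mp h) hc01
    · exact h
  obtain ⟨m, hm⟩ := Perm.cycleType_prime_order (σ := c0) (by rw [hord]; exact hp)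
  rw [hord] at hm
  have hsum : (m + 1) * p = c0.support.card := by
    rw [← Perm.sum_cycleType, hm, Multiset.sum_replicate, smul_eq_mul]
  have hle : c0.support.card ≤ p := by rw [← hcard]; exact Finset.card_le_univ _
  have hm0 : m = 0 := by
    have := hp.pos
    by_contra h
    have : 2 * p ≤ (m + 1) * p := Nat.mul_le_mul_right _ (by omega)
    omega
  subst hm0
  have hcyc : c0.IsCycle := Perm.card_cycleType_eq_one.mp (by rw [hm]; simp)
  have hfull : ∀ y, c0 y ≠ y := by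
    intro y
    rw [← Perm.mem_support]
    have : c0.support = Finset.univ := by
      apply Finset.eq_univ_of_card
      rw [hcard]; omega
    rw [this]; exact Finset.mem_univ _
  rw [eq_bot_iff, Subgroup.commutator_le]
  intro g₁ hg₁ g₂ hg₂
  have hcen : ⁅Subgroup.normalizer (C : Set (Perm Ψ)), Subgroup.normalizer (C : Set (Perm Ψ))⁆ ≤
      Subgroup.centralizer (C : Set (Perm Ψ)) := by
    rw [Subgroup.commutator_le]
    intro S hS T hT
    exact comm_centralizes' C hS hT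
  have h1 : Commute g₁ c0 := ((Subgroup.mem_centralizer_iff.mp (hcen hg₁)) c0 hc0C).symm
  have h2 : Commute g₂ c0 := ((Subgroup.mem_centralizer_iff.mp (hcen hg₂)) c0 hc0C).symm
  obtain ⟨i, rfl⟩ := commute_cycle_full hcyc hfull h1
  obtain ⟨j, rfl⟩ := commute_cycle_full hcyc hfull h2
  rw [Subgroup.mem_bot, commutatorElement_eq_one_iff_commute]
  exact (Commute.refl c0).zpow_zpow i j


variable {α : Type*} [Fintype α] [DecidableEq α]

/-- the second derived subgroup of a group normalising a `p`-group `P` and stabilising a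
`P`-orbit of length `p` acts trivially on that orbit -/
theorem met {p : ℕ} [Fact p.Prime] (P M : Subgroup (Perm α)) (hP : IsPGroup p P) (hPM : P ≤ M)
    (hMN : M ≤ Subgroup.normalizer (P : Set (Perm α))) (Ψ : Finset α) (hΨ : Ψ.card = p)
    (hMΨ : ∀ g ∈ M, ∀ z, g z ∈ Ψ ↔ z ∈ Ψ) {y : α} (hy : y ∈ Ψ) {u₀ : Perm α} (hu₀ : u₀ ∈ P)
    (hu₀y : u₀ y ≠ y) : ∀ m ∈ ⁅⁅M, M⁆, ⁅M, M⁆⁆, ∀ z ∈ Ψ, m z = z := by
  let ψ := restr M Ψ hMΨ
  have hCp : IsPGroup p ((P.subgroupOf M).map ψ) := (hP.comap_subtype).map ψ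
  have hC1 : (P.subgroupOf M).map ψ ≠ ⊥ := by
    intro h
    have h1 : ψ ⟨u₀, hPM hu₀⟩ ∈ (P.subgroupOf M).map ψ :=
      ⟨⟨u₀, hPM hu₀⟩, by rw [SetLike.mem_coe, Subgroup.mem_subgroupOf]; exact hu₀, rfl⟩
    rw [h, Subgroup.mem_bot] at h1
    have h2 := congrArg (fun σ : Perm Ψ => ((σ ⟨y, hy⟩ : Ψ) : α)) h1
    exact hu₀y h2
  have hrange : ψ.range ≤ Subgroup.normalizer (((P.subgroupOf M).map ψ : Subgroup (Perm Ψ)) :
      Set (Perm Ψ)) := by
    rintro _ ⟨m, rfl⟩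
    apply Subgroup.mem_normalizer_fintype
    rintro _ ⟨u, hu, rfl⟩
    refine ⟨m * u * m⁻¹, ?_, by simp⟩
    rw [SetLike.mem_coe, Subgroup.mem_subgroupOf] at hu ⊢
    have := (Subgroup.mem_normalizer_iff.mp (hMN m.2) u.1).mp hu
    simpa using this
  have hmet := metAbs (by rw [Fintype.card_coe]; exact hΨ) _ hCp hC1
  intro m hm z hz
  have hM2 : ⁅⁅M, M⁆, ⁅M, M⁆⁆ =
      Subgroup.map M.subtype ⁅⁅(⊤ : Subgroup M), (⊤ : Subgroup M)⁆,
        ⁅(⊤ : Subgroup M), (⊤ : Subgroup M)⁆⁆ := by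
    rw [Subgroup.map_commutator, Subgroup.map_commutator, ← MonoidHom.range_eq_map,
      Subgroup.range_subtype]
  rw [hM2] at hm
  obtain ⟨m', hm', rfl⟩ := hm
  have h1 : ψ m' ∈ Subgroup.map ψ ⁅⁅(⊤ : Subgroup M), (⊤ : Subgroup M)⁆,
      ⁅(⊤ : Subgroup M), (⊤ : Subgroup M)⁆⁆ := ⟨m', hm', rfl⟩
  rw [Subgroup.map_commutator, Subgroup.map_commutator, ← MonoidHom.range_eq_map] at h1
  have h2 := Subgroup.commutator_mono (Subgroup.commutator_mono hrange hrange)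
    (Subgroup.commutator_mono hrange hrange) h1
  rw [hmet, Subgroup.mem_bot] at h2
  exact congrArg (fun σ : Perm Ψ => ((σ ⟨z, hz⟩ : Ψ) : α)) h2

theorem orbit_card {p : ℕ} [hpf : Fact p.Prime] (P : Subgroup (Perm α)) (hP : IsPGroup p P)
    (S : Finset α) (hS : S.card < p ^ 2) (hPS : ∀ g ∈ P, ∀ z ∈ S, g z ∈ S) {y : α} (hy : y ∈ S)
    {u : Perm α} (hu : u ∈ P) (huy : u y ≠ y) : Nat.card (orbit P y) = p := by
  obtain ⟨b, hb⟩ := hP.card_orbit y
  have hsub : orbit P y ⊆ (S : Set α) := by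
    rintro _ ⟨g, rfl⟩
    exact hPS g.1 g.2 y hy
  have hle : Nat.card (orbit P y) ≤ S.card := by
    rw [Nat.card_coe_set_eq, ← Set.ncard_coe_finset S]
    exact Set.ncard_le_ncard hsub (Finset.finite_toSet S)
  have hb2 : b < 2 := by
    by_contra h; push Not at h
    have : p ^ 2 ≤ p ^ b := Nat.pow_le_pow_right hpf.out.pos h
    omega
  have hb0 : b ≠ 0 := by
    rintro rfl
    rw [pow_zero, Nat.card_coe_set_eq, Set.ncard_eq_one] at hb
    obtain ⟨w, hw⟩ := hb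
    have h1 : y ∈ orbit P y := mem_orbit_self y
    have h2 : u y ∈ orbit P y := ⟨⟨u, hu⟩, rfl⟩
    rw [hw] at h1 h2
    exact huy (h2.trans h1.symm)
  have : b = 1 := by omega
  rw [hb, this, pow_one]

theorem orbit_eq_of_card (P Q : Subgroup (Perm α)) (hPQ : P ≤ Q) (y : α) {p : ℕ}
    (h1 : Nat.card (orbit P y) = p) (h2 : Nat.card (orbit Q y) = p) :
    orbit P y = orbit Q y := by
  apply Set.eq_of_subset_of_ncard_le
  · rintro _ ⟨g, rfl⟩; exact ⟨⟨g.1, hPQ g.2⟩, rfl⟩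
  · rw [← Nat.card_coe_set_eq, ← Nat.card_coe_set_eq, h1, h2]
  · exact Set.toFinite _

/-- a `p`-element normalising the `p`-group `P` stabilises every short `P`-orbit -/
theorem pelt_orbit {p : ℕ} [Fact p.Prime] (N P : Subgroup (Perm α)) (hP : IsPGroup p P)
    (hPN : P ≤ N) (hNP : N ≤ Subgroup.normalizer (P : Set (Perm α)))
    (S : Finset α) (hS : S.card < p ^ 2) (hNS : ∀ h ∈ N, ∀ z ∈ S, h z ∈ S)
    {g : Perm α} (hgN : g ∈ N) {a : ℕ} (hord : orderOf g = p ^ a)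
    {y : α} (hy : y ∈ S) {u : Perm α} (hu : u ∈ P) (huy : u y ≠ y) :
    ∃ u' ∈ P, g y = u' y := by
  have hZ : IsPGroup p (Subgroup.zpowers g) :=
    IsPGroup.of_card (n := a) (by rw [Nat.card_zpowers, hord])
  have hQ : IsPGroup p (Subgroup.zpowers g ⊔ P : Subgroup (Perm α)) :=
    IsPGroup.to_sup_of_normal_right' hZ hP ((Subgroup.zpowers_le.mpr hgN).trans hNP)
  have hQN : Subgroup.zpowers g ⊔ P ≤ N := sup_le (Subgroup.zpowers_le.mpr hgN) hPN
  have h1 := orbit_card P hP S hS (fun h hh => hNS h (hPN hh)) hy hu huy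
  have h2 := orbit_card (Subgroup.zpowers g ⊔ P) hQ S hS (fun h hh => hNS h (hQN hh)) hy
    (le_sup_right (a := Subgroup.zpowers g) hu) huy
  have h3 := orbit_eq_of_card P _ le_sup_right y h1 h2
  have h4 : g y ∈ orbit (Subgroup.zpowers g ⊔ P : Subgroup (Perm α)) y :=
    ⟨⟨g, le_sup_left (b := P) (Subgroup.mem_zpowers g)⟩, rfl⟩
  rw [← h3] at h4
  obtain ⟨u', hu'⟩ := h4
  exact ⟨u'.1, u'.2, hu'.symm⟩


/-- elements of `N` mapping every point outside `Φ` into its `P`-orbit -/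
def orbKer (N P : Subgroup (Perm α)) (Φ : Finset α) (hPN : P ≤ N)
    (hNΦ : ∀ g ∈ N, ∀ y, g y ∈ Φ ↔ y ∈ Φ) : Subgroup (Perm α) where
  carrier := {g | g ∈ N ∧ ∀ y, y ∉ Φ → ∃ u ∈ P, g y = u y}
  mul_mem' := by
    rintro a b ⟨haN, ha⟩ ⟨hbN, hb⟩
    refine ⟨mul_mem haN hbN, fun y hy => ?_⟩
    obtain ⟨u, hu, huy⟩ := hb y hy
    have hy' : u y ∉ Φ := by rw [hNΦ u (hPN hu)]; exact hy
    obtain ⟨v, hv, hvy⟩ := ha (u y) hy'
    exact ⟨v * u, mul_mem hv hu, by rw [Perm.mul_apply, huy, hvy, Perm.mul_apply]⟩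
  one_mem' := ⟨one_mem _, fun y _ => ⟨1, one_mem _, rfl⟩⟩
  inv_mem' := by
    rintro a ⟨haN, ha⟩
    refine ⟨inv_mem haN, fun y hy => ?_⟩
    have hy' : a⁻¹ y ∉ Φ := by rw [hNΦ a⁻¹ (inv_mem haN)]; exact hy
    obtain ⟨u, hu, huy⟩ := ha (a⁻¹ y) hy'
    refine ⟨u⁻¹, inv_mem hu, ?_⟩
    rw [Perm.eq_inv_iff_eq, ← huy]; simp

end Cfsg.Agent.Lib.Helper8.Mil
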