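import Mathlib
import Cfsg.Agent.Lib.Helper8.Mil4

set_option autoImplicit false

namespace Cfsg.Agent.Lib.Helper8.Mil

open Equiv MulAction
open Cfsg.Agent.Lib.Lead
open scoped commutatorElement

universe u

set_option maxHeartbeats 1000000 in
/-- **Case A**: the stabiliser of `r + 1` points has order divisible by `p`. -/
theorem caseA {α : Type u} [Fintype α] [DecidableEq α] (G : Subgroup (Perm α)) {k p r : ℕ}
    [hpf : Fact p.Prime] (hn : Fintype.card α = k * p + r) (hk : 1 ≤ k) (hpk : k < p)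
    (hrk : k < r) (hr3 : 3 ≤ r) (hG : IsMultiplyPretransitive G α (r + 1))
    (ih : ∀ k' < k, ∀ (β : Type u) [Fintype β] [DecidableEq β] (G' : Subgroup (Perm β)),
      Fintype.card β = k' * p + r → 1 ≤ k' → k' < p → k' < r →
      IsMultiplyPretransitive G' β (r + 1) → alternatingGroup β ≤ G')
    (T : Finset α) (hT : T.card = r + 1) (hdiv : p ∣ Nat.card (pstab G T)) :
    alternatingGroup α ≤ G := by
  classical
  have hp : p.Prime := hpf.out
  have hkp : 1 ≤ k * p := Nat.one_le_iff_ne_zero.mpr (Nat.mul_ne_zero (by omega) hp.pos.ne')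
  have hprim : IsPreprimitive G α := prim_of_four G (by omega) (by omega) hG
  -- the Sylow subgroup
  let P' : Sylow p (pstab G T) := default
  obtain ⟨P, hPdef⟩ : ∃ P : Subgroup (Perm α),
      P = (P' : Subgroup (pstab G T)).map (pstab G T).subtype := ⟨_, rfl⟩
  have hPp : IsPGroup p P := by rw [hPdef]; exact P'.2.map _
  have hPT : P ≤ pstab G T := by rw [hPdef]; rintro _ ⟨u, _, rfl⟩; exact u.2
  have hPG : P ≤ G := hPT.trans (pstab_le G T)
  have hP1 : ∃ u ∈ P, u ≠ 1 := by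
    have h1 : Nat.card (P' : Subgroup (pstab G T)) =
        p ^ (Nat.card (pstab G T)).factorization p := P'.card_eq_multiplicity
    have h2 : 1 ≤ (Nat.card (pstab G T)).factorization p :=
      (hp.dvd_iff_one_le_factorization Nat.card_pos.ne').mp hdiv
    have h3 : p ≤ Nat.card (P' : Subgroup (pstab G T)) := by
      rw [h1]
      calc p = p ^ 1 := (pow_one p).symm
        _ ≤ _ := Nat.pow_le_pow_right hp.pos h2
    by_contra h; push Not at h
    have h4 : (P' : Subgroup (pstab G T)) = ⊥ := by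
      rw [Subgroup.eq_bot_iff_forall]; intro v hv
      have := h v.1 (by rw [hPdef]; exact ⟨v, hv, rfl⟩)
      exact Subtype.ext this
    rw [h4, Subgroup.card_bot] at h3
    have := hp.two_le; omega
  -- the fixed points
  obtain ⟨Φ, hΦmem⟩ : ∃ Φ : Finset α, ∀ y, y ∈ Φ ↔ ∀ u ∈ P, u y = y :=
    ⟨Finset.univ.filter (fun y => ∀ u ∈ P, u y = y), fun y => by simp⟩
  have hTΦ : T ⊆ Φ := fun y hy => (hΦmem y).mpr (fun u hu => (hPT hu).2 y hy)
  obtain ⟨N, hNdef⟩ : ∃ N : Subgroup (Perm α),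
      N = G ⊓ Subgroup.normalizer (P : Set (Perm α)) := ⟨_, rfl⟩
  have hNG : N ≤ G := by rw [hNdef]; exact inf_le_left
  have hNP : N ≤ Subgroup.normalizer (P : Set (Perm α)) := by rw [hNdef]; exact inf_le_right
  have hPN : P ≤ N := by
    rw [hNdef]; exact fun u hu => Subgroup.mem_inf.mpr ⟨hPG hu, Subgroup.le_normalizer hu⟩
  have hNΦ : ∀ g ∈ N, ∀ y, g y ∈ Φ ↔ y ∈ Φ := by
    have key : ∀ g ∈ N, ∀ y, y ∈ Φ → g y ∈ Φ := by
      intro g hg y hy
      rw [hΦmem] at hy ⊢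
      intro u hu
      have h1 : g⁻¹ * u * g ∈ P := by
        have := (Subgroup.mem_normalizer_iff.mp (inv_mem (hNP hg)) u).mp hu
        simpa using this
      have h2 := hy _ h1
      simp only [Perm.mul_apply] at h2
      rw [Perm.inv_eq_iff_eq] at h2; exact h2
    intro g hg y
    constructor
    · intro h; have := key g⁻¹ (inv_mem hg) _ h; simpa using this
    · exact key g hg y
  have hΦlt : Φ.card < Fintype.card α := by
    obtain ⟨u, hu, hu1⟩ := hP1
    obtain ⟨y, hy⟩ : ∃ y, u y ≠ y := by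
      by_contra h; push Not at h; exact hu1 (Perm.ext h)
    have hyΦ : y ∉ Φ := fun h => hy ((hΦmem y).mp h u hu)
    rw [← Finset.card_univ]
    exact Finset.card_lt_card
      (Finset.ssubset_univ_iff.mpr (fun h => hyΦ (h ▸ Finset.mem_univ y)))
  have hΦge : r + 1 ≤ Φ.card := hT ▸ Finset.card_le_card hTΦ
  have hmod : Fintype.card α ≡ Φ.card [MOD p] := by
    have h1 := hPp.card_modEq_card_fixedPoints α
    rw [Nat.card_eq_fintype_card] at h1
    have h2 : Nat.card (fixedPoints P α) = Φ.card := by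
      rw [Nat.card_coe_set_eq, ← Set.ncard_coe_finset Φ]
      congr 1
      ext y
      rw [mem_fixedPoints, Finset.mem_coe, hΦmem]
      constructor
      · intro h u hu; exact h ⟨u, hu⟩
      · intro h u; exact h u.1 u.2
    rwa [h2] at h1
  obtain ⟨k', hk'⟩ : ∃ k', Φ.card = k' * p + r := by
    have h1 : r ≡ Φ.card [MOD p] := by
      have h2 : Fintype.card α ≡ r [MOD p] := by
        rw [hn]; unfold Nat.ModEq; rw [mul_comm, Nat.mul_add_mod]
      exact h2.symm.trans hmod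
    obtain ⟨q, hq⟩ := (Nat.modEq_iff_dvd' (by omega)).mp h1
    exact ⟨q, by rw [mul_comm]; omega⟩
  have hk'1 : 1 ≤ k' := by
    rcases Nat.eq_zero_or_pos k' with h | h
    · rw [h] at hk'; omega
    · exact h
  have hk'k : k' < k := by
    have : k' * p < k * p := by omega
    exact Nat.lt_of_mul_lt_mul_right this
  have hp3 : 3 ≤ p := by omega
  have hk'p : p ≤ k' * p := Nat.le_mul_of_pos_left p hk'1
  have hSc : Φᶜ.card < p ^ 2 := by
    rw [Finset.card_compl, hn, pow_two]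
    have : k * p < p * p := Nat.mul_lt_mul_of_pos_right hpk hp.pos
    omega
  -- the induced group on `Φ`
  let φ := restr N Φ hNΦ
  have hG' : IsMultiplyPretransitive φ.range Φ (r + 1) := by
    refine ⟨fun x' y' => ?_⟩
    obtain ⟨n, hnG, hnN, hn'⟩ := witt G hG T hT P' P hPdef
      (x'.trans (Function.Embedding.subtype _)) (y'.trans (Function.Embedding.subtype _))
      (fun u hu i => (hΦmem _).mp (x' i).2 u hu) (fun u hu i => (hΦmem _).mp (y' i).2 u hu)
    have hnN' : n ∈ N := by rw [hNdef]; exact Subgroup.mem_inf.mpr ⟨hnG, hnN⟩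
    refine ⟨⟨φ ⟨n, hnN'⟩, ⟨_, rfl⟩⟩, ?_⟩
    ext i
    exact hn' i
  have hIH : alternatingGroup Φ ≤ φ.range :=
    ih k' hk'k Φ φ.range (by rw [Fintype.card_coe]; exact hk') hk'1 (by omega) (by omega) hG'
  -- the kernel on the orbits
  obtain ⟨M, hMdef⟩ : ∃ M : Subgroup (Perm α), M = orbKer N P Φ hPN hNΦ := ⟨_, rfl⟩
  have hMmem : ∀ g, g ∈ M ↔ g ∈ N ∧ ∀ y, y ∉ Φ → ∃ u ∈ P, g y = u y := by
    intro g; rw [hMdef]; rfl
  have hMN : M ≤ N := fun g hg => ((hMmem g).mp hg).1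
  have hPM : P ≤ M := fun u hu => (hMmem u).mpr ⟨hPN hu, fun y _ => ⟨u, hu, rfl⟩⟩
  have hmoved : ∀ y, y ∉ Φ → ∃ u ∈ P, u y ≠ y := by
    intro y hy
    by_contra h; push Not at h; exact hy ((hΦmem y).mpr h)
  have hNS : ∀ h ∈ N, ∀ z ∈ Φᶜ, h z ∈ Φᶜ := by
    intro h hh z hz
    rw [Finset.mem_compl] at hz ⊢
    rwa [hNΦ h hh]
  have hpelt : ∀ g ∈ N, ∀ a : ℕ, orderOf g = p ^ a → g ∈ M := by
    intro g hg a ha
    refine (hMmem g).mpr ⟨hg, fun y hy => ?_⟩
    obtain ⟨u, hu, huy⟩ := hmoved y hy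
    exact pelt_orbit N P hPp hPN hNP Φᶜ hSc hNS hg ha (Finset.mem_compl.mpr hy) hu huy
  have hMnormal : ∀ n ∈ N, ∀ g ∈ M, n * g * n⁻¹ ∈ M := by
    intro n hn g hg
    rw [hMmem] at hg ⊢
    refine ⟨mul_mem (mul_mem hn hg.1) (inv_mem hn), fun y hy => ?_⟩
    have hy' : n⁻¹ y ∉ Φ := by rw [hNΦ n⁻¹ (inv_mem hn)]; exact hy
    obtain ⟨u, hu, huy⟩ := hg.2 _ hy'
    refine ⟨n * u * n⁻¹, (Subgroup.mem_normalizer_iff.mp (hNP hn) u).mp hu, ?_⟩
    simp only [Perm.mul_apply]; rw [huy]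
  -- an element of order `p` in the alternating group
  have hΦ5 : 5 ≤ Nat.card Φ := by
    rw [Nat.card_eq_fintype_card, Fintype.card_coe]; omega
  haveI : Nontrivial Φ := by
    rw [← Fintype.one_lt_card_iff_nontrivial, Fintype.card_coe]; omega
  have hpA : p ∣ Nat.card (alternatingGroup Φ) := by
    have h1 := two_mul_card_alternatingGroup (α := Φ)
    rw [Fintype.card_perm, Fintype.card_coe] at h1
    have h2 : p ∣ Φ.card.factorial := (hp.dvd_factorial).mpr (by omega)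
    rw [← h1] at h2
    rw [Nat.card_eq_fintype_card]
    exact Nat.Coprime.dvd_of_dvd_mul_left
      ((Nat.coprime_primes hp Nat.prime_two).mpr (by omega)) h2
  obtain ⟨σ, hσ⟩ := exists_prime_orderOf_dvd_card' p hpA
  obtain ⟨g, hg⟩ : ∃ g : N, φ g = σ.1 := hIH σ.2
  have ho0 : orderOf g ≠ 0 := (orderOf_pos g).ne'
  obtain ⟨a, m, hpm, hom⟩ := Nat.exists_eq_pow_mul_and_not_dvd ho0 p hp.ne_one
  have hm0 : m ≠ 0 := by rintro rfl; rw [mul_zero] at hom; exact ho0 hom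
  have hord1 : orderOf (g ^ m) = p ^ a := by
    rw [orderOf_pow_of_dvd hm0 (Dvd.intro_left _ hom.symm), hom,
      Nat.mul_div_cancel _ (Nat.pos_of_ne_zero hm0)]
  have hg1M : (g ^ m).1 ∈ M :=
    hpelt _ (g ^ m).2 a (by rw [Subgroup.orderOf_coe]; exact hord1)
  have hφg1 : φ (g ^ m) = σ.1 ^ m := by rw [map_pow, hg]
  have hσm : σ.1 ^ m ≠ 1 := by
    intro h
    have h1 : orderOf σ.1 ∣ m := orderOf_dvd_of_pow_eq_one h
    rw [Subgroup.orderOf_coe, hσ] at h1
    exact hpm h1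
  -- the image of `M`
  obtain ⟨B, hBdef⟩ : ∃ B : Subgroup (Perm Φ), B = (M.subgroupOf N).map φ := ⟨_, rfl⟩
  have hBnorm : ∀ b ∈ B, ∀ c ∈ φ.range, c * b * c⁻¹ ∈ B := by
    rw [hBdef]
    rintro _ ⟨m', hm', rfl⟩ _ ⟨n, rfl⟩
    refine ⟨n * m' * n⁻¹, ?_, by simp⟩
    rw [SetLike.mem_coe, Subgroup.mem_subgroupOf] at hm' ⊢
    exact hMnormal n.1 n.2 m'.1 hm'
  haveI hsimple : IsSimpleGroup (alternatingGroup Φ) := alternatingGroup.isSimpleGroup hΦ5
  have hK : ((B ⊓ alternatingGroup Φ).subgroupOf (alternatingGroup Φ)).Normal := by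
    constructor
    intro b hb c
    rw [Subgroup.mem_subgroupOf] at hb ⊢
    refine Subgroup.mem_inf.mpr ⟨?_, ?_⟩
    · have := hBnorm b.1 (Subgroup.mem_inf.mp hb).1 c.1 (hIH c.2)
      simpa using this
    · exact (c * b * c⁻¹).2
  have hAB : alternatingGroup Φ ≤ B := by
    rcases hsimple.eq_bot_or_eq_top_of_normal _ hK with h | h
    · exfalso
      rw [Subgroup.subgroupOf_eq_bot, disjoint_iff] at h
      have hmem : σ.1 ^ m ∈ (B ⊓ alternatingGroup Φ) ⊓ alternatingGroup Φ := by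
        refine Subgroup.mem_inf.mpr ⟨Subgroup.mem_inf.mpr ⟨?_, pow_mem σ.2 m⟩, pow_mem σ.2 m⟩
        rw [hBdef]
        exact ⟨g ^ m, by rw [SetLike.mem_coe, Subgroup.mem_subgroupOf]; exact hg1M, hφg1⟩
      rw [h, Subgroup.mem_bot] at hmem
      exact hσm hmem
    · exact (Subgroup.subgroupOf_eq_top.mp h).trans inf_le_left
  have hperf := commutator_alternatingGroup_eq_self (α := Φ) hΦ5
  have hAB2 : alternatingGroup Φ ≤ ⁅⁅B, B⁆, ⁅B, B⁆⁆ := by
    have h1 : alternatingGroup Φ ≤ ⁅B, B⁆ :=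
      hperf.symm.le.trans (Subgroup.commutator_mono hAB hAB)
    exact hperf.symm.le.trans (Subgroup.commutator_mono h1 h1)
  have hB2 : ⁅⁅B, B⁆, ⁅B, B⁆⁆ = Subgroup.map φ ⁅⁅M.subgroupOf N, M.subgroupOf N⁆,
      ⁅M.subgroupOf N, M.subgroupOf N⁆⁆ := by
    rw [Subgroup.map_commutator, Subgroup.map_commutator, hBdef]
  obtain ⟨a₁, a₂, a₃, h12, h13, h23⟩ :=
    Fintype.two_lt_card_iff.mp (by rw [Fintype.card_coe]; omega : 2 < Fintype.card Φ)
  have ht3 : (swap a₁ a₂ * swap a₁ a₃).IsThreeCycle :=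
    Perm.isThreeCycle_swap_mul_swap_same h12 h13 h23
  have hmem3 := hAB2 ht3.mem_alternatingGroup
  rw [hB2] at hmem3
  obtain ⟨m₂, hm₂, hφm₂⟩ := hmem3
  have hm₂M : m₂.1 ∈ ⁅⁅M, M⁆, ⁅M, M⁆⁆ := by
    have h1 : ⁅⁅M, M⁆, ⁅M, M⁆⁆ = Subgroup.map N.subtype ⁅⁅M.subgroupOf N, M.subgroupOf N⁆,
        ⁅M.subgroupOf N, M.subgroupOf N⁆⁆ := by
      rw [Subgroup.map_commutator, Subgroup.map_commutator,
        Subgroup.map_subgroupOf_eq_of_le hMN]
    rw [h1]; exact ⟨m₂, hm₂, rfl⟩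
  have hfix : ∀ y, y ∉ Φ → m₂.1 y = y := by
    intro y hy
    obtain ⟨u, hu, huy⟩ := hmoved y hy
    obtain ⟨Ψ, hΨmem⟩ : ∃ Ψ : Finset α, ∀ z, z ∈ Ψ ↔ z ∈ orbit P y :=
      ⟨Finset.univ.filter (fun z => z ∈ orbit P y), fun z => by simp⟩
    have hΨc : Ψ.card = p := by
      have h1 := orbit_card P hPp Φᶜ hSc (fun h hh => hNS h (hPN hh))
        (Finset.mem_compl.mpr hy) hu huy
      have h2 : (Ψ : Set α) = orbit P y := by
        ext z; rw [Finset.mem_coe, hΨmem]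
      rw [← Set.ncard_coe_finset Ψ, h2, ← Nat.card_coe_set_eq, h1]
    have hMΨ : ∀ g ∈ M, ∀ z, g z ∈ Ψ ↔ z ∈ Ψ := by
      have key : ∀ g ∈ M, ∀ z, z ∈ orbit P y → g z ∈ orbit P y := by
        rintro g hg _ ⟨v, rfl⟩
        have hvy : v.1 y ∉ Φ := by rw [hNΦ v.1 (hPN v.2)]; exact hy
        obtain ⟨w, hw, hwy⟩ := ((hMmem g).mp hg).2 _ hvy
        exact ⟨⟨w * v.1, mul_mem hw v.2⟩, hwy.symm⟩
      intro g hg z
      rw [hΨmem, hΨmem]
      constructor
      · intro h; have := key g⁻¹ (inv_mem hg) _ h; simpa using this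
      · exact key g hg z
    have hyΨ : y ∈ Ψ := by rw [hΨmem]; exact mem_orbit_self y
    exact met P M hPp hPM (hMN.trans hNP) Ψ hΨc hMΨ hyΨ hu huy m₂.1 hm₂M y hyΨ
  have hfinal : m₂.1 = Perm.ofSubtype (swap a₁ a₂ * swap a₁ a₃) := by
    ext y
    by_cases hy : y ∈ Φ
    · rw [Perm.ofSubtype_apply_of_mem _ hy, ← hφm₂]; rfl
    · rw [Perm.ofSubtype_apply_of_not_mem _ hy, hfix y hy]
  have h3 : (m₂.1).IsThreeCycle := by
    rw [hfinal]; unfold Perm.IsThreeCycle; rw [Perm.cycleType_ofSubtype]; exact ht3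
  exact Perm.alternatingGroup_le_of_isPreprimitive_of_isThreeCycle_mem hprim h3 (hNG m₂.2)

end Cfsg.Agent.Lib.Helper8.Mil
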