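import Mathlib
import Cfsg.Agent.Lib.Helper8.Mil5

set_option autoImplicit false

namespace Cfsg.Agent.Lib.Helper8.Mil

open Equiv MulAction
open Cfsg.Agent.Lib.Lead

universe u

set_option maxHeartbeats 1000000 in
/-- **Miller's transitivity bound** (Wielandt 13.10), inductive form. -/
theorem miller_aux {p r : ℕ} (hp : p.Prime) (hr3 : 3 ≤ r) :
    ∀ k : ℕ, ∀ (α : Type u) [Fintype α] [DecidableEq α] (G : Subgroup (Perm α)),
      Fintype.card α = k * p + r → 1 ≤ k → k < p → k < r →
      IsMultiplyPretransitive G α (r + 1) → alternatingGroup α ≤ G := by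
  intro k
  induction k using Nat.strong_induction_on with
  | _ k ih =>
    intro α _ _ G hn hk hpk hrk hG
    classical
    haveI : Fact p.Prime := ⟨hp⟩
    have hkp : 1 ≤ k * p := Nat.one_le_iff_ne_zero.mpr (Nat.mul_ne_zero (by omega) hp.pos.ne')
    have hMT := JordanCycle.exists_on_finset G hG (by omega)
    obtain ⟨D, -, hD⟩ := Finset.exists_subset_card_eq (s := (Finset.univ : Finset α)) (n := r)
      (by rw [Finset.card_univ]; omega)
    obtain ⟨γ, hγ⟩ : ∃ γ, γ ∉ D := by
      by_contra h; push Not at h
      have : D = Finset.univ := Finset.eq_univ_iff_forall.mpr h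
      rw [this, Finset.card_univ] at hD; omega
    have htrans : ∀ γ₁, γ₁ ∉ D → ∀ γ₂, γ₂ ∉ D → ∃ h ∈ pstab G D, h γ₁ = γ₂ := by
      intro γ₁ h1 γ₂ h2
      obtain ⟨x, hxG, hx⟩ := hMT (insert γ₁ D)
        (by rw [Finset.card_insert_of_notMem h1, hD]) (swap γ₁ γ₂)
      refine ⟨x, ⟨hxG, fun y hy => ?_⟩, ?_⟩
      · rw [hx y (Finset.mem_insert_of_mem hy)]
        exact swap_apply_of_ne_of_ne (fun h => h1 (h ▸ hy)) (fun h => h2 (h ▸ hy))
      · rw [hx γ₁ (Finset.mem_insert_self _ _), swap_apply_left]
    have hcardH : ∀ γ', γ' ∉ D →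
        Nat.card (pstab G D) = k * p * Nat.card (pstab G (insert γ' D)) := by
      intro γ' hγ'
      rw [card_pstab G D γ' hγ' (htrans γ' hγ'), Finset.card_compl, hn, hD]
      congr 1; omega
    by_cases hdiv : p ∣ Nat.card (pstab G (insert γ D))
    · exact caseA G hn hk hpk hrk hr3 hG (fun k' hk' β _ _ G' => ih k' hk' β G') (insert γ D)
        (by rw [Finset.card_insert_of_notMem hγ, hD]) hdiv
    · let P' : Sylow p (pstab G D) := default
      have hcardP : Nat.card (P' : Subgroup (pstab G D)) = p := by
        rw [P'.card_eq_multiplicity, hcardH γ hγ]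
        have h1 : (k * p * Nat.card (pstab G (insert γ D))).factorization p = 1 := by
          rw [Nat.factorization_mul (by omega) Nat.card_pos.ne',
            Nat.factorization_mul (by omega) hp.pos.ne']
          simp only [Finsupp.coe_add, Pi.add_apply]
          rw [Nat.factorization_eq_zero_of_not_dvd (Nat.not_dvd_of_pos_of_lt (by omega) hpk),
            hp.factorization_self, Nat.factorization_eq_zero_of_not_dvd hdiv]
        rw [h1, pow_one]
      obtain ⟨x', hx'⟩ := exists_prime_orderOf_dvd_card' p
        (by rw [hcardP] : p ∣ Nat.card (P' : Subgroup (pstab G D)))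
      have hxord : orderOf x'.1.1 = p := by
        rw [Subgroup.orderOf_coe, Subgroup.orderOf_coe]; exact hx'
      have htop : Subgroup.zpowers x' = ⊤ :=
        Subgroup.eq_top_of_card_eq _ (by rw [Nat.card_zpowers, hx', hcardP])
      have hxP : Subgroup.zpowers x'.1.1 =
          (P' : Subgroup (pstab G D)).map (pstab G D).subtype := by
        ext w
        constructor
        · rintro ⟨i, rfl⟩
          exact ⟨x'.1 ^ i, zpow_mem x'.2 i, by simp⟩
        · rintro ⟨v, hv, rfl⟩
          have h1 : (⟨v, hv⟩ : (P' : Subgroup (pstab G D))) ∈ Subgroup.zpowers x' := by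
            rw [htop]; exact Subgroup.mem_top _
          obtain ⟨i, hi⟩ := h1
          refine ⟨i, ?_⟩
          have h2 := congrArg (fun w : (P' : Subgroup (pstab G D)) => (w.1.1 : Perm α)) hi
          simpa using h2
      have hxD : ∀ y, x'.1.1 y = y ↔ y ∈ D := by
        intro y
        constructor
        · intro hxy
          by_contra hy
          have hle : Subgroup.zpowers x'.1.1 ≤ pstab G (insert y D) := by
            rw [Subgroup.zpowers_le]
            refine ⟨x'.1.2.1, fun z hz => ?_⟩
            rcases Finset.mem_insert.mp hz with rfl | hz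
            · exact hxy
            · exact x'.1.2.2 z hz
          have h1 := Subgroup.card_dvd_of_le hle
          rw [Nat.card_zpowers, hxord] at h1
          have h2 : Nat.card (pstab G (insert y D)) = Nat.card (pstab G (insert γ D)) := by
            have h3 := hcardH y hy
            rw [hcardH γ hγ] at h3
            exact (Nat.eq_of_mul_eq_mul_left (by omega) h3).symm
          rw [h2] at h1
          exact hdiv h1
        · intro hy; exact x'.1.2.2 y hy
      exact caseB G hn hk hpk hrk hr3 hG D hD P' x'.1.1 hxP hxord hxD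

end Cfsg.Agent.Lib.Helper8.Mil
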