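import Mathlib
import Cfsg.Agent.Lib.Lead.UniqueP
import Cfsg.Agent.Lib.Helper1.GlaubermanRepl4

/-! A subgroup lying in every nontrivial subgroup that it normalizes. -/
set_option autoImplicit false
open scoped commutatorElement Pointwise
open Cfsg.Agent.Lib.Lead.UniqueP
open Cfsg.Agent.Lib.Helper1.GlaubermanRepl (mem_normalizer_of_conj_mem_of_finite)

namespace Helper8.MinNormalH

variable {F : Type*} [Group F] [Finite F]

/-- the unique minimal normal subgroup and its simplicity -/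
theorem simple_closure (H : Subgroup F) (hH : H ≠ ⊥)
    (hmin : ∀ R : Subgroup F, R ≠ ⊥ → H ≤ Subgroup.normalizer (R : Set F) → H ≤ R) :
    (Subgroup.normalClosure (H : Set F)) ≠ ⊥ ∧
    (∀ M : Subgroup F, M.Normal → M ≠ ⊥ → Subgroup.normalClosure (H : Set F) ≤ M) ∧
    IsSimpleGroup ↥(Subgroup.normalClosure (H : Set F)) := by
  obtain ⟨N, hN⟩ : ∃ N, N = Subgroup.normalClosure (H : Set F) := ⟨_, rfl⟩
  rw [← hN]
  have hNn : N.Normal := hN ▸ Subgroup.normalClosure_normal
  have hHN : H ≤ N := hN ▸ Subgroup.le_normalClosure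
  have hN1 : N ≠ ⊥ := fun h => hH (le_bot_iff.1 (h ▸ hHN))
  have hNmin : ∀ M : Subgroup F, M.Normal → M ≠ ⊥ → N ≤ M := by
    intro M hM hM1
    haveI := hM
    rw [hN]
    apply Subgroup.normalClosure_le_normal
    apply hmin M hM1
    rw [Subgroup.normalizer_eq_top_iff.2 hM]; exact le_top
  have hkey : ∀ R : Subgroup F, R ≠ ⊥ → N ≤ Subgroup.normalizer (R : Set F) → H ≤ R :=
    fun R hR hNR => hmin R hR (hHN.trans hNR)
  refine ⟨hN1, hNmin, ?_⟩
  haveI : Nontrivial ↥N := (Subgroup.nontrivial_iff_ne_bot N).2 hN1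
  refine ⟨fun K hK => ?_⟩
  by_cases hK1 : K = ⊥
  · exact Or.inl hK1
  right
  obtain ⟨K', hK'⟩ : ∃ K', K' = K.map N.subtype := ⟨_, rfl⟩
  have hK'N : K' ≤ N := hK' ▸ Subgroup.map_subtype_le K
  have hK'1 : K' ≠ ⊥ := by
    intro h; apply hK1
    rw [hK'] at h
    exact (Subgroup.map_eq_bot_iff_of_injective K N.subtype_injective).1 h
  have hNK : ∀ n ∈ N, ∀ k ∈ K', n * k * n⁻¹ ∈ K' := by
    intro n hn k hk
    rw [hK'] at hk ⊢
    obtain ⟨k₀, hk₀, rfl⟩ := hk
    exact ⟨⟨n, hn⟩ * k₀ * ⟨n, hn⟩⁻¹, hK.conj_mem k₀ hk₀ ⟨n, hn⟩, rfl⟩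
  have hconj : ∀ g : F, H ≤ K'.map (MulAut.conj g).toMonoidHom := by
    intro g
    apply hkey
    · intro h; apply hK'1
      exact (Subgroup.map_eq_bot_iff_of_injective K' (MulAut.conj g).injective).1 h
    · intro n hn
      apply mem_normalizer_of_conj_mem_of_finite
      rintro _ ⟨k, hk, rfl⟩
      have h1 : g⁻¹ * n * g ∈ N := by
        have := hNn.conj_mem n hn g⁻¹; simpa using this
      refine ⟨(g⁻¹ * n * g) * k * (g⁻¹ * n * g)⁻¹, hNK _ h1 k hk, ?_⟩
      simp only [MulEquiv.coe_toMonoidHom, MulAut.conj_apply]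
      group
  have hcore : H ≤ K'.normalCore := by
    intro h hh g
    obtain ⟨k, hk, hkh⟩ := hconj g⁻¹ hh
    have e : g * h * g⁻¹ = k := by
      rw [← hkh]
      simp only [MulEquiv.coe_toMonoidHom, MulAut.conj_apply]
      group
    rw [e]; exact hk
  have hcore1 : K'.normalCore ≠ ⊥ := fun h => hH (le_bot_iff.1 (h ▸ hcore))
  have hNK' : N ≤ K' :=
    (hNmin _ (Subgroup.normalCore_normal K') hcore1).trans (Subgroup.normalCore_le K')
  rw [eq_top_iff]
  intro x _
  have := hNK' x.2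
  rw [hK'] at this
  obtain ⟨y, hy, hyx⟩ := this
  have : y = x := Subtype.ext hyx
  rwa [← this]

/-- the abelian case -/
theorem abelian_case (H N : Subgroup F) (hH : H ≠ ⊥) [hNn : N.Normal] (hHN : H ≤ N)
    (hsimple : IsSimpleGroup ↥N)
    (hmin : ∀ R : Subgroup F, R ≠ ⊥ → H ≤ Subgroup.normalizer (R : Set F) → H ≤ R)
    (hNC : N ≤ Subgroup.centralizer (N : Set F)) :
    H = N ∧ (Nat.card N).Prime ∧
      (∃ k : ℕ, 1 ≤ k ∧ Nat.card ↥(Subgroup.centralizer (N : Set F)) = Nat.card N ^ k) ∧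
      (∃ g : F, Subgroup.centralizer (N : Set F) ⊔ Subgroup.zpowers g = ⊤) ∧
      (Subgroup.centralizer (N : Set F)).index ∣ Nat.card N - 1 ∧
      (IsCyclic ↥(Subgroup.centralizer (N : Set F)) ∨
        (Nat.card N = 2 ∧ ∃ n : ℕ, Nonempty (↥(Subgroup.centralizer (N : Set F)) ≃*
          QuaternionGroup (2 ^ n)))) := by
  classical
  have hNcomm : ∀ a ∈ N, ∀ b ∈ N, a * b = b * a := fun a ha b hb =>
    Subgroup.mem_centralizer_iff.1 (hNC hb) a ha
  have hp : (Nat.card ↥N).Prime := by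
    letI : CommGroup ↥N :=
      { (inferInstance : Group ↥N) with mul_comm := fun a b => Subtype.ext (hNcomm a a.2 b b.2) }
    exact IsSimpleGroup.prime_card
  obtain ⟨p, hpN⟩ : ∃ p, p = Nat.card ↥N := ⟨_, rfl⟩
  rw [← hpN] at hp ⊢
  haveI : Fact p.Prime := ⟨hp⟩
  have hHeq : H = N := by
    haveI : Fact (Nat.card ↥N).Prime := ⟨hpN ▸ hp⟩
    have h1 := (H.subgroupOf N).eq_bot_or_eq_top_of_prime_card
    rcases h1 with h1 | h1
    · exfalso
      rw [Subgroup.subgroupOf_eq_bot, disjoint_iff, inf_eq_left.2 hHN] at h1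
      exact hH h1
    · rw [Subgroup.subgroupOf_eq_top] at h1
      exact le_antisymm hHN h1
  obtain ⟨C, hC⟩ : ∃ C, C = Subgroup.centralizer (N : Set F) := ⟨_, rfl⟩
  rw [← hC] at hNC ⊢
  have hC1 : C ≠ ⊥ := by
    intro h
    have : N ≤ ⊥ := h ▸ hNC
    exact hH (le_bot_iff.1 (hHN.trans this))
  -- every nontrivial element of C generates a subgroup containing N
  have hzp : ∀ x ∈ C, x ≠ 1 → N ≤ Subgroup.zpowers x := by
    intro x hx hx1
    rw [← hHeq]
    apply hmin
    · rwa [Ne, Subgroup.zpowers_eq_bot]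
    · rw [hHeq]
      intro n hn
      apply mem_normalizer_of_conj_mem_of_finite
      intro y hy
      have hyC : y ∈ C := (Subgroup.zpowers_le.2 hx) hy
      rw [hC] at hyC
      have := Subgroup.mem_centralizer_iff.1 hyC n hn
      have e : n * y * n⁻¹ = y := by rw [this]; group
      rw [e]; exact hy
  -- C is a p-group
  have hCcard : Nat.card ↥C = p ^ (Nat.card ↥C).primeFactorsList.length := by
    apply Nat.eq_prime_pow_of_unique_prime_dvd Nat.card_pos.ne'
    intro q hq hqd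
    haveI : Fact q.Prime := ⟨hq⟩
    obtain ⟨c, hc⟩ := exists_prime_orderOf_dvd_card' (G := ↥C) q hqd
    have hc1 : (c : F) ≠ 1 := by
      intro h
      have : c = 1 := Subtype.ext h
      rw [this, orderOf_one] at hc
      exact hq.one_lt.ne hc
    have h1 := hzp c c.2 hc1
    have h2 := Subgroup.card_dvd_of_le h1
    rw [← hpN, Nat.card_zpowers, Subgroup.orderOf_coe, hc] at h2
    exact ((Nat.prime_dvd_prime_iff_eq hp hq).1 h2).symm
  have hCp : IsPGroup p ↥C := IsPGroup.of_card hCcard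
  have hkpos : 1 ≤ (Nat.card ↥C).primeFactorsList.length := by
    by_contra hk
    have : (Nat.card ↥C).primeFactorsList.length = 0 := by omega
    rw [this, pow_zero] at hCcard
    exact hC1 (Subgroup.card_eq_one.1 hCcard)
  -- UOP
  have hu : UOP p ↥C := by
    intro x y hx hy hx1
    have hzx : ∀ z : ↥C, z ^ p = 1 → z ≠ 1 → Subgroup.zpowers (z : F) = N := by
      intro z hz hz1
      have hz1' : (z : F) ≠ 1 := fun h => hz1 (Subtype.ext h)
      have h1 := hzp z z.2 hz1'
      symm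
      apply Subgroup.eq_of_le_of_card_ge h1
      rw [← hpN, Nat.card_zpowers, Subgroup.orderOf_coe]
      exact orderOf_le_of_pow_eq_one hp.pos hz
    by_cases hy1 : y = 1
    · rw [hy1]; exact Subgroup.one_mem _
    have h1 := hzx x hx hx1
    have h2 := hzx y hy hy1
    have h3 : (y : F) ∈ Subgroup.zpowers (x : F) := by
      rw [h1, ← h2]; exact Subgroup.mem_zpowers _
    obtain ⟨k, hk⟩ := Subgroup.mem_zpowers_iff.1 h3
    rw [Subgroup.mem_zpowers_iff]
    exact ⟨k, Subtype.ext (by rw [Subgroup.coe_zpow]; exact hk)⟩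
  have hcq := cyclic_or_quaternion p hCp hu
  -- automorphisms
  haveI hNcyc : IsCyclic ↥N := isCyclic_of_prime_card hpN.symm
  have hker : (MulAut.conjNormal (H := N)).ker = C := by
    ext g
    rw [MonoidHom.mem_ker, hC, Subgroup.mem_centralizer_iff]
    constructor
    · intro h n hn
      have := congrArg (fun φ : MulAut ↥N => ((φ ⟨n, hn⟩ : ↥N) : F)) h
      simp only [MulAut.conjNormal_apply, MulAut.one_apply] at this
      calc n * g = (g * n * g⁻¹) * g := by rw [this]
        _ = g * n := by group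
    · intro h
      ext n
      rw [MulAut.conjNormal_apply, MulAut.one_apply]
      have := h n n.2
      rw [← this]; group
  have hcardAut : Nat.card (MulAut ↥N) = p - 1 := by
    rw [IsCyclic.card_mulAut, ← hpN, Nat.totient_prime hp]
  have hidx : C.index ∣ p - 1 := by
    rw [← hker, Subgroup.index_ker, ← hcardAut]
    exact Subgroup.card_subgroup_dvd_card _
  have hAutCyc : IsCyclic (MulAut ↥N) := by
    haveI : IsCyclic (ZMod (Nat.card ↥N))ˣ := ZMod.isCyclic_units_prime (hpN ▸ hp)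
    exact isCyclic_of_surjective (IsCyclic.mulAutMulEquiv ↥N).symm.toMonoidHom
      (IsCyclic.mulAutMulEquiv ↥N).symm.surjective
  have hgen : ∃ g : F, C ⊔ Subgroup.zpowers g = ⊤ := by
    haveI : IsCyclic (MulAut.conjNormal (H := N)).range := Subgroup.isCyclic _
    obtain ⟨⟨γ, g, rfl⟩, hγ⟩ := IsCyclic.exists_generator (α := (MulAut.conjNormal (H := N)).range)
    refine ⟨g, ?_⟩
    rw [eq_top_iff]
    intro f _
    have hf := hγ ⟨MulAut.conjNormal f, f, rfl⟩
    obtain ⟨k, hk⟩ := Subgroup.mem_zpowers_iff.1 hf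
    have hk' : (MulAut.conjNormal (H := N) g) ^ k = MulAut.conjNormal f := by
      have := congrArg Subtype.val hk
      simpa using this
    have h1 : f * (g ^ k)⁻¹ ∈ C := by
      rw [← hker, MonoidHom.mem_ker, map_mul, map_inv, map_zpow, hk', mul_inv_cancel]
    have e : f = (f * (g ^ k)⁻¹) * g ^ k := by group
    rw [e]
    exact Subgroup.mul_mem _ (Subgroup.mem_sup_left h1)
      (Subgroup.mem_sup_right (Subgroup.zpow_mem _ (Subgroup.mem_zpowers g) k))
  refine ⟨hHeq, hp, ⟨_, hkpos, hCcard⟩, hgen, hidx, ?_⟩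
  rcases hcq with h | ⟨h2, h⟩
  · exact Or.inl h
  · exact Or.inr ⟨h2, h⟩

end Helper8.MinNormalH
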