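import Cfsg.Agent.Lib.Helper8.NG5Defs

/-!
Farm NG5 (S1904): unit statements (stubs, NEVER import from graded files).
Prove each unit VERBATIM in your own namespace/file and post a DONE tip.
-/

set_option autoImplicit false
open scoped commutatorElement

namespace Cfsg.Agent.Lib.Helper8.NG5Stubs
open Cfsg.Agent.Lib.Helper8.NG5

variable {X : Type*} [Group X] [Finite X] {A : Subgroup (MulAut X)}

/-! ## Basic -/

/-- U01. -/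
theorem hyp_of (hX : IsPGroup 2 X) (hna : ¬ IsMulCommutative X)
    (hscn : ¬ ∃ A₁ : Subgroup X, A₁.Normal ∧ Subgroup.centralizer (A₁ : Set X) = A₁ ∧
      ∃ E : Subgroup X, E ≤ A₁ ∧ Cfsg.IsElementaryAbelian 2 E ∧ Nat.card E = 8)
    (A : Subgroup (MulAut X)) (hA : Odd (Nat.card A))
    (hXA : Subgroup.closure {g : X | ∃ φ ∈ A, ∃ x : X, g = x⁻¹ * φ x} = ⊤) : Hyp X A := by
  sorry

/-- U02 (P3). -/
theorem index_two (h : Hyp X A) (K : Subgroup X) (hK : ∀ φ ∈ A, ∀ k ∈ K, φ k ∈ K)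
    (hidx : K.index ≤ 2) : K = ⊤ := by
  sorry

/-- U03 (A1). -/
theorem aut_trivial_of_sub_quot (h : Hyp X A) (N : Subgroup X) (φ : MulAut X) (hφ : φ ∈ A)
    (h1 : ∀ v ∈ N, φ v = v) (h2 : ∀ x : X, x⁻¹ * φ x ∈ N) : φ = 1 := by
  sorry

/-- U04 (A2). -/
theorem aut_trivial_of_omega1 (h : Hyp X A) (B : Subgroup X)
    (hB : ∀ b ∈ B, ∀ b' ∈ B, b * b' = b' * b) (φ : MulAut X) (hφ : φ ∈ A)
    (hinv : ∀ b ∈ B, φ b ∈ B) (h1 : ∀ b ∈ B, b ^ 2 = 1 → φ b = b) : ∀ b ∈ B, φ b = b := by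
  sorry

/-- U05 (A3). -/
theorem fixed_point_of_card (a : MulAut X) (ha : a ^ 3 = 1) (S : Finset X)
    (hS : ∀ s ∈ S, a s ∈ S) (hc : ¬ 3 ∣ S.card) : ∃ s ∈ S, a s = s := by
  sorry

/-- U06 (socle): a normal subgroup `K` properly above the normal subgroup `N` contains an element
outside `N` which is central of order 2 modulo `N`. -/
theorem socle (hX : IsPGroup 2 X) (N K : Subgroup X) (hN : N.Normal) (hK : K.Normal)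
    (hNK : N ≤ K) (hne : ¬ K ≤ N) : ∃ x ∈ K, x ∉ N ∧ x ^ 2 ∈ N ∧ ∀ g : X, ⁅x, g⁆ ∈ N := by
  sorry

/-- U07 (P4). -/
theorem four_central (h : Hyp X A) (F : Subgroup X) (hF : GNormal A F)
    (hexp : ∀ f ∈ F, f ^ 2 = 1) (hcard : Nat.card F ≤ 4) : F ≤ Subgroup.center X := by
  sorry

/-- U08 (no trivial `A`-factor in `X / X'`). -/
theorem no_trivial_factor (h : Hyp X A) (L : Subgroup X) (hL : commutator X ≤ L) (x : X)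
    (hx2 : x ^ 2 ∈ L) (hfix : ∀ φ ∈ A, x⁻¹ * φ x ∈ L) : x ∈ L := by
  sorry

/-- U09 (norm relation when `A = {1, a, a²}`). -/
theorem norm3 (h : Hyp X A) (a : MulAut X) (ha : a ∈ A) (ha1 : a ≠ 1) (ha3 : a ^ 3 = 1)
    (hall : ∀ φ ∈ A, φ = 1 ∨ φ = a ∨ φ = a ^ 2) (x : X) :
    x * a x * (a ^ 2) x ∈ commutator X := by
  sorry

/-! ## General group theory -/

/-- U10. -/
theorem comm_idx4 {G : Type*} [Group G] [Finite G] (K Z : Subgroup G) (hZK : Z ≤ K)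
    (hcen : ∀ z ∈ Z, ∀ k ∈ K, z * k = k * z)
    (hcl2 : ∀ k ∈ K, ∀ k' ∈ K, ∀ k'' ∈ K, ⁅k, k'⁆ * k'' = k'' * ⁅k, k'⁆)
    (hcard : Nat.card K ≤ 4 * Nat.card Z) :
    ∃ c : G, ∀ k ∈ K, ∀ k' ∈ K, ⁅k, k'⁆ = 1 ∨ ⁅k, k'⁆ = c := by
  sorry

/-- U11 (parity). -/
theorem par {G : Type*} [Group G] [Finite G] (T T₂ R : Subgroup G) (hT : T ≤ T₂)
    (hc : T₂ ≤ Subgroup.center G)
    (h2 : ∀ a ∈ T₂, ∀ b ∈ T₂, a ∉ T → b ∉ T → a * b ∈ T)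
    (hcomm : ∀ x y : G, ⁅x, y⁆ ∈ T₂) (hR : ∀ x : G, x ∈ R ↔ ∀ g : G, ⁅x, g⁆ ∈ T) :
    ∃ m : ℕ, R.index = 4 ^ m := by
  sorry

/-- U12 (one quadric). -/
theorem cw1 {G : Type*} [Group G] [Finite G] (Y W W₁ : Subgroup G) (hW₁ : W₁ ≤ W) (hWY : W ≤ Y)
    (hcen : ∀ w ∈ W, ∀ y ∈ Y, w * y = y * w) (hsq : ∀ y ∈ Y, y ^ 2 ∈ W)
    (hcomm : ∀ y ∈ Y, ∀ y' ∈ Y, ⁅y, y'⁆ ∈ W)
    (h2 : ∀ a ∈ W, ∀ b ∈ W, a ∉ W₁ → b ∉ W₁ → a * b ∈ W₁)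
    (hcard : 8 * Nat.card W ≤ Nat.card Y) : ∃ y ∈ Y, y ∉ W ∧ y ^ 2 ∈ W₁ := by
  sorry

/-- U13 (commuting singular pair). -/
theorem cwpair {G : Type*} [Group G] [Finite G] (Y W W₁ : Subgroup G) (hW₁ : W₁ ≤ W)
    (hWY : W ≤ Y)
    (hcen : ∀ w ∈ W, ∀ y ∈ Y, w * y = y * w) (hsq : ∀ y ∈ Y, y ^ 2 ∈ W)
    (hcomm : ∀ y ∈ Y, ∀ y' ∈ Y, ⁅y, y'⁆ ∈ W)
    (h2 : ∀ a ∈ W, ∀ b ∈ W, a ∉ W₁ → b ∉ W₁ → a * b ∈ W₁)
    (hcard : 16 * Nat.card W * Nat.card W ≤ Nat.card Y) :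
    ∃ u ∈ Y, ∃ v ∈ Y, u ^ 2 ∈ W₁ ∧ v ^ 2 ∈ W₁ ∧ u * v = v * u ∧ u ∉ W ∧ v ∉ W ∧ u * v ∉ W := by
  sorry

/-! ## Branch 1 -/

/-- U14. -/
theorem b1_of (h : Hyp X A)
    (hchar : ∀ H : Subgroup X, H.Characteristic → IsMulCommutative H →
      ∀ a ∈ A, ∀ x ∈ H, a x = x) :
    B1 X A ∧ (Nat.card (Subgroup.center X) = 2 ∨ Nat.card (Subgroup.center X) = 4) := by
  sorry

/-- U15. -/
theorem b1a_32 (h : Hyp X A) (b : B1 X A) (hc : Nat.card (Subgroup.center X) = 2)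
    (h32 : Nat.card X = 32) : Nat.card {x : X // orderOf x = 2} = 11 := by
  sorry

/-- U16. -/
theorem b1a (h : Hyp X A) (b : B1 X A) (hc : Nat.card (Subgroup.center X) = 2) :
    Nonempty (X ≃* QuaternionGroup 2) ∨
      (Cfsg.IsExtraspecial 2 X ∧ Nat.card X = 32 ∧ Nat.card {x : X // orderOf x = 2} = 11) := by
  sorry

/-- U17. -/
theorem b1b_even (h : Hyp X A) (b : B1 X A) (hc : Nat.card (Subgroup.center X) = 4) :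
    ∃ m : ℕ, Nat.card X = 4 * 4 ^ m := by
  sorry

/-- U18. -/
theorem b1b (h : Hyp X A) (b : B1 X A) (hc : Nat.card (Subgroup.center X) = 4) :
    Cfsg.IsSpecial 2 X ∧ Nat.card X = 64 ∧ Nat.card {x : X // orderOf x = 2} = 3 ∧
      ∀ x : X, orderOf x = 2 → x ∈ Subgroup.center X := by
  sorry

/-! ## Branch 2 -/

/-- U19. -/
theorem b2_of (h : Hyp X A)
    (hchar : ¬ ∀ H : Subgroup X, H.Characteristic → IsMulCommutative H →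
      ∀ a ∈ A, ∀ x ∈ H, a x = x) : ∃ W : Subgroup X, B2 X A W := by
  sorry

/-- U20. -/
theorem exists_Y (h : Hyp X A) {W : Subgroup X} (w : B2 X A W) : ∃ Y : Subgroup X, IsY W Y := by
  sorry

/-- U21. -/
theorem Y_facts (h : Hyp X A) {W Y : Subgroup X} (w : B2 X A W) (hY : IsY W Y) :
    GNormal A Y ∧ W ≤ Y ∧ (∀ y ∈ Y, y ^ 2 = 1 → y ∈ W) ∧ ∃ y ∈ Y, y ∉ W := by
  sorry

/-- U22. -/
theorem comm_fixed (h : Hyp X A) {W : Subgroup X} (w : B2 X A W) (K : Subgroup X)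
    (hK : ∀ φ ∈ A, ∀ k ∈ K, φ k ∈ K) (hKW : ∀ k ∈ K, ∀ k' ∈ K, ⁅k, k'⁆ ∈ W) (c : X)
    (hc : ∀ k ∈ K, ∀ k' ∈ K, ⁅k, k'⁆ = 1 ∨ ⁅k, k'⁆ = c) :
    ∀ k ∈ K, ∀ k' ∈ K, k * k' = k' * k := by
  sorry

/-- U23. -/
theorem card_Y (h : Hyp X A) {W Y : Subgroup X} (w : B2 X A W) (hY : IsY W Y) :
    Nat.card Y = 16 ∨ Nat.card Y = 64 := by
  sorry

/-- U24. -/
theorem b2_s4 (h : Hyp X A) {W Y : Subgroup X} (w : B2 X A W) (hY : IsY W Y)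
    (h64 : Nat.card Y = 64) :
    Cfsg.IsSpecial 2 X ∧ Nat.card X = 64 ∧ Nat.card {x : X // orderOf x = 2} = 3 ∧
      ∀ x : X, orderOf x = 2 → x ∈ Subgroup.center X := by
  sorry

/-- U25. -/
theorem exists_N (h : Hyp X A) {W Y : Subgroup X} (w : B2 X A W) (hY : IsY W Y)
    (h16 : Nat.card Y = 16) : ∃ N : Subgroup X, B2N0 X A W Y N := by
  sorry

/-- U26 (helper3's step (C)). -/
theorem N_selfc (h : Hyp X A) {W Y N : Subgroup X} (w : B2 X A W) (hY : IsY W Y)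
    (h16 : Nat.card Y = 16) (n : B2N0 X A W Y N) :
    ∀ x : X, (∀ v ∈ N, x * v = v * x) → x ∈ N := by
  sorry

/-- U27. -/
theorem A_order3 (h : Hyp X A) {W Y N : Subgroup X} (w : B2 X A W) (hY : IsY W Y)
    (h16 : Nat.card Y = 16) (n : B2N0 X A W Y N)
    (hself : ∀ x : X, (∀ v ∈ N, x * v = v * x) → x ∈ N) : ∃ a : MulAut X, B2A X A N a := by
  sorry

/-- U28. -/
theorem case_T_big (h : Hyp X A) {W Y N : Subgroup X} (w : B2 X A W) (hY : IsY W Y)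
    (h16 : Nat.card Y = 16) (n : B2N0 X A W Y N)
    (hself : ∀ x : X, (∀ v ∈ N, x * v = v * x) → x ∈ N) (a : MulAut X) (ha : B2A X A N a)
    (hT : ∃ x : X, x ∉ N ∧ ∀ y ∈ Y, x * y = y * x) : False := by
  sorry

/-- U29. -/
theorem case_T_small (h : Hyp X A) {W Y N : Subgroup X} (w : B2 X A W) (hY : IsY W Y)
    (h16 : Nat.card Y = 16) (n : B2N0 X A W Y N)
    (hself : ∀ x : X, (∀ v ∈ N, x * v = v * x) → x ∈ N) (a : MulAut X) (ha : B2A X A N a)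
    (hT : ∀ x : X, (∀ y ∈ Y, x * y = y * x) → x ∈ N) : False := by
  sorry

end Cfsg.Agent.Lib.Helper8.NG5Stubs
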