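import Cfsg.Agent.Lib.Helper8.NG5Basic

set_option autoImplicit false
open scoped commutatorElement

namespace Cfsg.Agent.Lib.Helper8.NG5U19
open Cfsg.Agent.Lib.Helper8.NG5 Cfsg.Agent.Lib.Helper8.NG5Basic

variable {X : Type*} [Group X] [Finite X] {A : Subgroup (MulAut X)}

/-- U19. -/
theorem b2_of (h : Hyp X A)
    (hchar : ¬ ∀ H : Subgroup X, H.Characteristic → IsMulCommutative H →
      ∀ a ∈ A, ∀ x ∈ H, a x = x) : ∃ W : Subgroup X, B2 X A W := by
  classical
  push Not at hchar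
  obtain ⟨H, hHchar, hHcomm, a, haA, x, hxH, hax⟩ := hchar
  have hHc : ∀ u ∈ H, ∀ v ∈ H, u * v = v * u := fun u hu v hv =>
    congrArg Subtype.val (hHcomm.is_comm.comm ⟨u, hu⟩ ⟨v, hv⟩)
  have hHfix : ∀ (ψ : X ≃* X) (v : X), v ∈ H → ψ v ∈ H := by
    intro ψ v hv
    have h1 := hHchar.fixed ψ⁻¹
    have : v ∈ H.comap (ψ⁻¹ : X ≃* X).toMonoidHom := by
      rw [h1]; exact hv
    rw [Subgroup.mem_comap] at this
    have h2 : (ψ⁻¹ : X ≃* X).toMonoidHom v = ψ.symm v := rfl
    -- use the other direction instead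
    have h3 := hHchar.fixed ψ.symm
    have h4 : ψ v ∈ H.comap (ψ.symm : X ≃* X).toMonoidHom := by
      rw [Subgroup.mem_comap]
      change ψ.symm (ψ v) ∈ H
      rw [MulEquiv.symm_apply_apply]; exact hv
    rw [h3] at h4
    exact h4
  let W : Subgroup X :=
    { carrier := {v | v ∈ H ∧ v ^ 2 = 1}
      one_mem' := ⟨H.one_mem, one_pow 2⟩
      mul_mem' := by
        rintro u v ⟨hu, hu2⟩ ⟨hv, hv2⟩
        refine ⟨H.mul_mem hu hv, ?_⟩
        have hc : Commute u v := hHc u hu v hv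
        rw [hc.mul_pow, hu2, hv2, one_mul]
      inv_mem' := by
        rintro u ⟨hu, hu2⟩
        exact ⟨H.inv_mem hu, by rw [inv_pow, hu2, inv_one]⟩ }
  have hWmem : ∀ v : X, v ∈ W ↔ v ∈ H ∧ v ^ 2 = 1 := fun v => Iff.rfl
  have hWfix : ∀ (ψ : X ≃* X) (v : X), v ∈ W → ψ v ∈ W := by
    intro ψ v hv
    rw [hWmem] at hv ⊢
    exact ⟨hHfix ψ v hv.1, by rw [← map_pow, hv.2, map_one]⟩
  have hWn : W.Normal := by
    constructor
    intro n hn g
    have := hWfix (MulAut.conj g) n hn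
    rwa [MulAut.conj_apply] at this
  have hWexp : ∀ w ∈ W, w ^ 2 = 1 := fun w hw => ((hWmem w).mp hw).2
  have hWcard : Nat.card W ≤ 4 := h.ne W hWn hWexp
  have hWG : GNormal A W := ⟨hWn, fun φ _ k hk => hWfix φ k hk⟩
  have hWcen : W ≤ Subgroup.center X := four_central h W hWG hWexp hWcard
  -- a moves some element of W
  have hmove : ∃ w₀ ∈ W, a w₀ ≠ w₀ := by
    by_contra hcon
    push Not at hcon
    apply hax
    apply aut_trivial_of_omega1 h H hHc a haA (fun b hb => hHfix a b hb) _ x hxH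
    intro b hb hb2
    exact hcon b ((hWmem b).mpr ⟨hb, hb2⟩)
  obtain ⟨w₀, hw₀W, hw₀⟩ := hmove
  obtain ⟨w₁, hw₁⟩ : ∃ w₁ : X, w₁ = a w₀ := ⟨_, rfl⟩
  obtain ⟨w₂, hw₂⟩ : ∃ w₂ : X, w₂ = w₀ * w₁ := ⟨_, rfl⟩
  have hw₁W : w₁ ∈ W := by rw [hw₁]; exact hWfix a w₀ hw₀W
  have hw₂W : w₂ ∈ W := by rw [hw₂]; exact W.mul_mem hw₀W hw₁W
  have hinvW : ∀ e ∈ W, e⁻¹ = e := by
    intro e he
    apply inv_eq_of_mul_eq_one_left
    rw [← pow_two]; exact hWexp e he
  have hcW : ∀ u ∈ W, ∀ v ∈ W, u * v = v * u := fun u hu v hv =>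
    hHc u ((hWmem u).mp hu).1 v ((hWmem v).mp hv).1
  have h01 : w₀ ≠ 1 := by
    rintro rfl
    exact hw₀ (map_one a)
  have h11 : w₁ ≠ 1 := by
    intro e
    rw [hw₁] at e
    apply h01
    have : a w₀ = a 1 := by rw [e, map_one]
    exact a.injective this
  have h10 : w₁ ≠ w₀ := by rw [hw₁]; exact hw₀
  have h21 : w₂ ≠ 1 := by
    intro e
    rw [hw₂] at e
    apply h10
    have : w₁ = w₀⁻¹ := eq_inv_of_mul_eq_one_right e
    rw [this, hinvW w₀ hw₀W]
  have h20 : w₂ ≠ w₀ := by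
    intro e
    rw [hw₂] at e
    apply h11
    have : w₀ * w₁ = w₀ * 1 := by rw [e, mul_one]
    exact mul_left_cancel this
  have h2_1 : w₂ ≠ w₁ := by
    intro e
    rw [hw₂] at e
    apply h01
    have : w₀ * w₁ = 1 * w₁ := by rw [e, one_mul]
    exact mul_right_cancel this
  let _ : Fintype X := Fintype.ofFinite X
  have hsub : ({1, w₀, w₁, w₂} : Finset X) ⊆ Finset.univ.filter (· ∈ W) := by
    intro e he
    simp only [Finset.mem_insert, Finset.mem_singleton] at he
    simp only [Finset.mem_filter, Finset.mem_univ, true_and]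
    rcases he with rfl | rfl | rfl | rfl
    · exact W.one_mem
    · exact hw₀W
    · exact hw₁W
    · exact hw₂W
  have hc4 : ({1, w₀, w₁, w₂} : Finset X).card = 4 := by
    rw [Finset.card_insert_of_notMem, Finset.card_insert_of_notMem,
      Finset.card_insert_of_notMem, Finset.card_singleton]
    · simp only [Finset.mem_singleton]; exact fun e => h2_1 e.symm
    · simp only [Finset.mem_insert, Finset.mem_singleton, not_or]
      exact ⟨fun e => h10 e.symm, fun e => h20 e.symm⟩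
    · simp only [Finset.mem_insert, Finset.mem_singleton, not_or]
      exact ⟨fun e => h01 e.symm, fun e => h11 e.symm, fun e => h21 e.symm⟩
  have hcF : (Finset.univ.filter (· ∈ W)).card = Nat.card W := by
    rw [Nat.card_eq_fintype_card, Fintype.card_subtype]
  have heq := Finset.eq_of_subset_of_card_le hsub (by rw [hc4, hcF]; exact hWcard)
  have hT : ∀ e ∈ W, e = 1 ∨ e = w₀ ∨ e = w₁ ∨ e = w₂ := by
    intro e he
    have : e ∈ ({1, w₀, w₁, w₂} : Finset X) := by
      rw [heq]; simp only [Finset.mem_filter, Finset.mem_univ, true_and]; exact he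
    simpa only [Finset.mem_insert, Finset.mem_singleton] using this
  have hcard4 : Nat.card W = 4 := by
    rw [← hcF, ← heq, hc4]
  -- a w₁ = w₂
  have haw₁ : a w₁ = w₂ := by
    have hm : a w₁ ∈ W := hWfix a w₁ hw₁W
    rcases hT _ hm with e | e | e | e
    · exfalso; apply h11
      have : a w₁ = a 1 := by rw [e, map_one]
      exact a.injective this
    · exfalso
      -- a swaps w₀ and w₁: contradiction with odd order
      have hsq : ∀ k : ℕ, ((a ^ 2) ^ k) w₁ = w₁ := by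
        intro k
        induction k with
        | zero => simp
        | succ k ih =>
          rw [pow_succ, MulAut.mul_apply]
          have : (a ^ 2) w₁ = w₁ := by
            rw [pow_two, MulAut.mul_apply, e, ← hw₁]
          rw [this, ih]
      have hodd : Odd (orderOf a) := by
        have := coprime_order h a haA
        exact Nat.Coprime.odd_of_right this
      obtain ⟨k, hk⟩ := hodd
      have h1 : (a ^ orderOf a) w₀ = w₀ := by rw [pow_orderOf_eq_one, MulAut.one_apply]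
      rw [hk, pow_succ, pow_mul, MulAut.mul_apply, ← hw₁, hsq k] at h1
      exact h10 h1
    · exfalso; apply h10
      have : a w₁ = a w₀ := by rw [e, hw₁]
      exact a.injective this
    · exact e
  have haw₂ : a w₂ = w₀ := by
    rw [hw₂, map_mul, ← hw₁, haw₁, hw₂, hcW w₀ hw₀W w₁ hw₁W, ← mul_assoc,
      ← pow_two, hWexp w₁ hw₁W, one_mul]
  -- reachability from w₀
  have hreach : ∀ e ∈ W, e ≠ 1 → ∃ φ ∈ A, φ w₀ = e := by
    intro e he he1
    rcases hT e he with e0 | e0 | e0 | e0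
    · exact absurd e0 he1
    · exact ⟨1, A.one_mem, by rw [MulAut.one_apply, e0]⟩
    · exact ⟨a, haA, by rw [e0, hw₁]⟩
    · exact ⟨a ^ 2, A.pow_mem haA 2, by rw [pow_two, MulAut.mul_apply, ← hw₁, haw₁, e0]⟩
  refine ⟨W, hcard4, hWexp, hWcen, fun φ _ k hk => hWfix φ k hk, ?_⟩
  intro u hu v hv hu1 hv1
  obtain ⟨φ, hφ, hφu⟩ := hreach u hu hu1
  obtain ⟨ψ, hψ, hψv⟩ := hreach v hv hv1
  refine ⟨ψ * φ⁻¹, A.mul_mem hψ (A.inv_mem hφ), ?_⟩
  rw [MulAut.mul_apply, ← hφu, MulAut.inv_apply_self, hψv]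

end Cfsg.Agent.Lib.Helper8.NG5U19
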