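import Cfsg.Agent.Lib.Helper8.NG5Basic
import Cfsg.Agent.Lib.Helper6.NG5U21
import Cfsg.Agent.Lib.Helper6.NG5U10
import Cfsg.Agent.Lib.Helper6.NG5U22

set_option autoImplicit false
open scoped commutatorElement

namespace Cfsg.Agent.Lib.Helper8.NG5U25b
open Cfsg.Agent.Lib.Helper8.NG5 Cfsg.Agent.Lib.Helper8.NG5Basic

variable {X : Type*} [Group X] [Finite X] {A : Subgroup (MulAut X)}

omit [Finite X] in
/-- squaring on an abelian subgroup: `|B| = |Ω₁(B)| * |B²|`. -/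
theorem sq_count (B : Subgroup X) (hB : ∀ b ∈ B, ∀ b' ∈ B, b * b' = b' * b) :
    ∃ K Q : Subgroup X, (∀ v : X, v ∈ K ↔ v ∈ B ∧ v ^ 2 = 1) ∧
      (∀ v : X, v ∈ Q ↔ ∃ u ∈ B, u ^ 2 = v) ∧ Nat.card B = Nat.card K * Nat.card Q := by
  let f : ↥B →* ↥B :=
    { toFun := fun b => b ^ 2
      map_one' := one_pow 2
      map_mul' := fun a b => by
        have hc : Commute a b := Subtype.ext (hB a a.2 b b.2)
        exact hc.mul_pow 2 }
  have hf : ∀ b : ↥B, ((f b : ↥B) : X) = (b : X) ^ 2 := fun b => rfl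
  refine ⟨f.ker.map B.subtype, f.range.map B.subtype, ?_, ?_, ?_⟩
  · intro v
    constructor
    · rintro ⟨b, hb, rfl⟩
      refine ⟨b.2, ?_⟩
      rw [SetLike.mem_coe, MonoidHom.mem_ker] at hb
      have := congrArg Subtype.val hb
      rw [hf] at this
      exact this
    · rintro ⟨hv, hv2⟩
      refine ⟨⟨v, hv⟩, ?_, rfl⟩
      rw [SetLike.mem_coe, MonoidHom.mem_ker]
      apply Subtype.ext
      rw [hf]; exact hv2
  · intro v
    constructor
    · rintro ⟨b, ⟨u, rfl⟩, rfl⟩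
      exact ⟨u.1, u.2, (hf u).symm⟩
    · rintro ⟨u, hu, rfl⟩
      exact ⟨f ⟨u, hu⟩, ⟨⟨u, hu⟩, rfl⟩, hf ⟨u, hu⟩⟩
  · rw [Subgroup.card_map_of_injective B.subtype_injective,
      Subgroup.card_map_of_injective B.subtype_injective, ← Subgroup.index_ker,
      Subgroup.card_mul_index]

/-- U25. -/
theorem exists_N (h : Hyp X A) {W Y : Subgroup X} (w : B2 X A W) (hY : IsY W Y)
    (h16 : Nat.card Y = 16) : ∃ N : Subgroup X, B2N0 X A W Y N := by
  classical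
  obtain ⟨hYG, hWY, hYinv, -⟩ := Cfsg.Agent.Lib.Helper6.NG5U21.Y_facts h w hY
  have hWc : ∀ z ∈ W, ∀ g : X, z * g = g * z := by
    intro z hz g
    exact ((Subgroup.mem_center_iff.mp (w.central hz)) g).symm
  have hYW : ∀ k ∈ Y, ∀ k' ∈ Y, ⁅k, k'⁆ ∈ W := fun k hk k' _ => ((hY k).mp hk).2 k'
  -- Y abelian
  have hYc : ∀ y ∈ Y, ∀ y' ∈ Y, y * y' = y' * y := by
    obtain ⟨c, hc⟩ := Cfsg.Agent.Lib.Helper6.NG5U10.comm_idx4 Y W hWY
      (fun z hz k _ => hWc z hz k)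
      (fun k hk k' hk' k'' _ => hWc _ (hYW k hk k' hk') k'')
      (by rw [h16, w.card])
    exact Cfsg.Agent.Lib.Helper6.NG5U22.comm_fixed h w Y hYG.2 hYW c hc
  -- squares of Y are all of W
  have hsqW : ∀ z ∈ W, ∃ y ∈ Y, y ^ 2 = z := by
    obtain ⟨K, Q, hK, hQ, hcard⟩ := sq_count Y hYc
    have hKW : K = W := by
      apply le_antisymm
      · intro v hv
        obtain ⟨hvY, hv2⟩ := (hK v).mp hv
        exact hYinv v hvY hv2
      · intro v hv
        exact (hK v).mpr ⟨hWY hv, w.exp v hv⟩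
    have hQW : Q ≤ W := by
      intro v hv
      obtain ⟨u, hu, rfl⟩ := (hQ v).mp hv
      exact ((hY u).mp hu).1
    rw [hKW, h16, w.card] at hcard
    have hQ4 : Nat.card Q = 4 := by omega
    have : Q = W := Subgroup.eq_of_le_of_card_ge hQW (by rw [hQ4, w.card])
    intro z hz
    rw [← this] at hz
    exact (hQ z).mp hz
  -- maximal N
  obtain ⟨N, ⟨hNG, hNc, hYN⟩, hmax⟩ := Set.exists_max_image
    {N : Subgroup X | GNormal A N ∧ (∀ v ∈ N, ∀ v' ∈ N, v * v' = v' * v) ∧ Y ≤ N}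
    (fun N => Nat.card N) (Set.toFinite _) ⟨Y, hYG, hYc, le_rfl⟩
  have hNn : N.Normal := hNG.1
  obtain ⟨K, Q, hK, hQ, hcard⟩ := sq_count N hNc
  -- Ω₁(N) = W
  have hKn : K.Normal := by
    constructor
    intro n hn g
    obtain ⟨hnN, hn2⟩ := (hK n).mp hn
    refine (hK _).mpr ⟨hNn.conj_mem n hnN g, ?_⟩
    rw [conj_pow, hn2, mul_one, mul_inv_cancel]
  have hKcard : Nat.card K ≤ 4 := h.ne K hKn (fun e he => ((hK e).mp he).2)
  have hWK : W ≤ K := fun v hv => (hK v).mpr ⟨hYN (hWY hv), w.exp v hv⟩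
  have hKW : K = W := (Subgroup.eq_of_le_of_card_ge hWK (by rw [w.card]; exact hKcard)).symm
  have hom1 : ∀ v ∈ N, v ^ 2 = 1 → v ∈ W := by
    intro v hv hv2
    rw [← hKW]; exact (hK v).mpr ⟨hv, hv2⟩
  -- Ω₂(N) = Y
  have hom2 : ∀ v ∈ N, v ^ 4 = 1 → v ∈ Y := by
    let B' : Subgroup X :=
      { carrier := {v | v ∈ N ∧ v ^ 4 = 1}
        one_mem' := ⟨N.one_mem, one_pow 4⟩
        mul_mem' := by
          rintro u v ⟨hu, hu4⟩ ⟨hv, hv4⟩
          refine ⟨N.mul_mem hu hv, ?_⟩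
          have hc : Commute u v := hNc u hu v hv
          rw [hc.mul_pow, hu4, hv4, one_mul]
        inv_mem' := by
          rintro u ⟨hu, hu4⟩
          exact ⟨N.inv_mem hu, by rw [inv_pow, hu4, inv_one]⟩ }
    have hB'mem : ∀ v : X, v ∈ B' ↔ v ∈ N ∧ v ^ 4 = 1 := fun v => Iff.rfl
    have hB'c : ∀ b ∈ B', ∀ b' ∈ B', b * b' = b' * b := fun b hb b' hb' =>
      hNc b hb.1 b' hb'.1
    obtain ⟨K', Q', hK', hQ', hcard'⟩ := sq_count B' hB'c
    have hK'W : K' ≤ W := by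
      intro v hv
      obtain ⟨hvB, hv2⟩ := (hK' v).mp hv
      exact hom1 v hvB.1 hv2
    have hQ'W : Q' ≤ W := by
      intro v hv
      obtain ⟨u, hu, rfl⟩ := (hQ' v).mp hv
      apply hom1 _ (N.pow_mem hu.1 2)
      rw [← pow_mul]; exact hu.2
    have hYB' : Y ≤ B' := by
      intro y hy
      refine (hB'mem y).mpr ⟨hYN hy, ?_⟩
      have := w.exp _ ((hY y).mp hy).1
      rw [← pow_mul] at this
      exact this
    have hB'16 : Nat.card B' ≤ 16 := by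
      rw [hcard']
      have h1 := Subgroup.card_le_of_le hK'W
      have h2 := Subgroup.card_le_of_le hQ'W
      rw [w.card] at h1 h2
      calc Nat.card K' * Nat.card Q' ≤ 4 * 4 := Nat.mul_le_mul h1 h2
        _ = 16 := by norm_num
    have hYB'eq : Y = B' := Subgroup.eq_of_le_of_card_ge hYB' (by rw [h16]; exact hB'16)
    intro v hv hv4
    rw [hYB'eq]
    exact (hB'mem v).mpr ⟨hv, hv4⟩
  refine ⟨N, hNG, hNc, hYN, ?_, hom1, hom2, hsqW, Q, hQ, ?_⟩
  · intro N' hN'G hN'c hNN'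
    have := hmax N' ⟨hN'G, hN'c, hYN.trans hNN'⟩
    exact le_of_eq (Subgroup.eq_of_le_of_card_ge hNN' this).symm
  · rw [hcard, hKW, w.card]

end Cfsg.Agent.Lib.Helper8.NG5U25b
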