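import Cfsg.Agent.Lib.Helper8.NG5Basic
import Cfsg.Agent.Lib.Helper8.NG5U25b
import Cfsg.Agent.Lib.Helper6.NG5U10
import Cfsg.Agent.Lib.Helper6.NG5U21
import Cfsg.Agent.Lib.Helper6.NG5U22
import Cfsg.Agent.Lib.Helper9.NG5U06
import Cfsg.Agent.Lib.Helper1.FrattiniP

set_option autoImplicit false
open scoped commutatorElement

namespace Cfsg.Agent.Lib.Helper8.NG5U24
open Cfsg.Agent.Lib.Helper8.NG5 Cfsg.Agent.Lib.Helper8.NG5Basic

variable {X : Type*} [Group X] [Finite X] {A : Subgroup (MulAut X)}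

/-- U24. -/
theorem b2_s4 (h : Hyp X A) {W Y : Subgroup X} (w : B2 X A W) (hY : IsY W Y)
    (h64 : Nat.card Y = 64) :
    Cfsg.IsSpecial 2 X ∧ Nat.card X = 64 ∧ Nat.card {x : X // orderOf x = 2} = 3 ∧
      ∀ x : X, orderOf x = 2 → x ∈ Subgroup.center X := by
  classical
  obtain ⟨hYG, hWY, hYinv, -⟩ := Cfsg.Agent.Lib.Helper6.NG5U21.Y_facts h w hY
  have hYn : Y.Normal := hYG.1
  have hWc : ∀ z ∈ W, ∀ g : X, z * g = g * z := by
    intro z hz g
    exact ((Subgroup.mem_center_iff.mp (w.central hz)) g).symm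
  have hWn : W.Normal := by
    constructor
    intro n hn g
    rw [← hWc n hn g, mul_inv_cancel_right]; exact hn
  have hYW : ∀ k ∈ Y, ∀ k' ∈ Y, ⁅k, k'⁆ ∈ W := fun k hk k' _ => ((hY k).mp hk).2 k'
  -- (a) Z(Y) = W
  let ZY : Subgroup X := Y ⊓ Subgroup.centralizer (Y : Set X)
  have hZYmem : ∀ v : X, v ∈ ZY ↔ v ∈ Y ∧ ∀ y ∈ Y, y * v = v * y := by
    intro v
    rw [Subgroup.mem_inf, Subgroup.mem_centralizer_iff]
    rfl
  have hZYc : ∀ v ∈ ZY, ∀ v' ∈ ZY, v * v' = v' * v := by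
    intro v hv v' hv'
    exact ((hZYmem v').mp hv').2 v ((hZYmem v).mp hv).1
  have hWZY : W ≤ ZY := by
    intro v hv
    exact (hZYmem v).mpr ⟨hWY hv, fun y _ => (hWc v hv y).symm⟩
  have hZYinv : ∀ φ ∈ A, ∀ v ∈ ZY, φ v ∈ ZY := by
    intro φ hφ v hv
    obtain ⟨hvY, hvc⟩ := (hZYmem v).mp hv
    refine (hZYmem _).mpr ⟨hYG.2 φ hφ v hvY, ?_⟩
    intro y hy
    have hy' : φ⁻¹ y ∈ Y := hYG.2 φ⁻¹ (A.inv_mem hφ) y hy
    have := congrArg φ (hvc _ hy')
    rwa [map_mul, map_mul, MulAut.apply_inv_self] at this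
  have hZYW : ZY = W := by
    obtain ⟨K, Q, hK, hQ, hcard⟩ := NG5U25b.sq_count ZY hZYc
    have hKW : K = W := by
      apply le_antisymm
      · intro v hv
        obtain ⟨hvZ, hv2⟩ := (hK v).mp hv
        exact hYinv v ((hZYmem v).mp hvZ).1 hv2
      · intro v hv
        exact (hK v).mpr ⟨hWZY hv, w.exp v hv⟩
    have hQW : Q ≤ W := by
      intro v hv
      obtain ⟨u, hu, rfl⟩ := (hQ v).mp hv
      exact ((hY u).mp ((hZYmem u).mp hu).1).1
    by_cases hQbot : Q = ⊥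
    · rw [hKW, hQbot, Subgroup.card_bot, mul_one] at hcard
      exact (Subgroup.eq_of_le_of_card_ge hWZY (le_of_eq hcard)).symm
    · exfalso
      -- Q = W
      obtain ⟨q, hq1⟩ := (Subgroup.ne_bot_iff_exists_ne_one).mp hQbot
      have hq1' : (q : X) ≠ 1 := fun e => hq1 (Subtype.ext e)
      have hWQ : W ≤ Q := by
        intro v hv
        by_cases hv1 : v = 1
        · rw [hv1]; exact Q.one_mem
        · obtain ⟨φ, hφ, hφq⟩ := w.trans q (hQW q.2) v hv hq1' hv1
          obtain ⟨u, hu, hu2⟩ := (hQ q).mp q.2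
          rw [← hφq]
          exact (hQ _).mpr ⟨φ u, hZYinv φ hφ u hu, by rw [← map_pow, hu2]⟩
      have hQeq : Q = W := le_antisymm hQW hWQ
      rw [hKW, hQeq, w.card] at hcard
      -- card ZY = 16: Y abelian
      have hYc : ∀ y ∈ Y, ∀ y' ∈ Y, y * y' = y' * y := by
        obtain ⟨c, hc⟩ := Cfsg.Agent.Lib.Helper6.NG5U10.comm_idx4 Y ZY inf_le_left
          (fun z hz k hk => (((hZYmem z).mp hz).2 k hk).symm)
          (fun k hk k' hk' k'' _ => hWc _ (hYW k hk k' hk') k'')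
          (by rw [h64, hcard])
        exact Cfsg.Agent.Lib.Helper6.NG5U22.comm_fixed h w Y hYG.2 hYW c hc
      have hYZY : Y ≤ ZY := fun v hv => (hZYmem v).mpr ⟨hv, fun y hy => hYc y hy v hv⟩
      have := Subgroup.card_le_of_le hYZY
      rw [h64, hcard] at this
      omega
  -- (b) C_X(Y) ≤ W
  have hCn : (Subgroup.centralizer (Y : Set X)).Normal := Subgroup.normal_centralizer
  have hCW : Subgroup.centralizer (Y : Set X) ≤ W := by
    by_contra hne
    have hWC : W ≤ Subgroup.centralizer (Y : Set X) := by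
      intro v hv
      rw [Subgroup.mem_centralizer_iff]
      intro y _
      exact (hWc v hv y).symm
    obtain ⟨x, hxC, hxW, hx2, hxg⟩ :=
      Cfsg.Agent.Lib.Helper9.NG5U06.socle h.pg W _ hWn hCn hWC hne
    have hxY : x ∈ Y := (hY x).mpr ⟨hx2, hxg⟩
    have : x ∈ ZY := Subgroup.mem_inf.mpr ⟨hxY, hxC⟩
    rw [hZYW] at this
    exact hxW this
  -- (c) conjugation on Y
  have hmu : ∀ (x : X) (y : X), y ∈ Y → ∃ z ∈ W, x * y * x⁻¹ = z * y := by
    intro x y hy
    refine ⟨⁅x, y⁆, ?_, ?_⟩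
    · have h1 : ⁅y, x⁆ ∈ W := ((hY y).mp hy).2 x
      have h2 : ⁅x, y⁆ = ⁅y, x⁆⁻¹ := by rw [commutatorElement_inv]
      rw [h2]; exact W.inv_mem h1
    · rw [commutatorElement_def]; group
  have hinC : ∀ t : X, (∀ y ∈ Y, t * y * t⁻¹ = y) → t ∈ W := by
    intro t ht
    apply hCW
    rw [Subgroup.mem_centralizer_iff]
    intro y hy
    have := ht y hy
    calc y * t = (t * y * t⁻¹) * t := by rw [this]
      _ = t * y := by group
  have hsqW : ∀ x : X, x ^ 2 ∈ W := by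
    intro x
    apply hinC
    intro y hy
    obtain ⟨z, hz, hxy⟩ := hmu x y hy
    have e1 : x ^ 2 * y * (x ^ 2)⁻¹ = x * (x * y * x⁻¹) * x⁻¹ := by rw [pow_two]; group
    rw [e1, hxy]
    have e2 : x * (z * y) * x⁻¹ = (x * z) * y * x⁻¹ := by group
    rw [e2, ← hWc z hz x]
    have e3 : z * x * y * x⁻¹ = z * (x * y * x⁻¹) := by group
    rw [e3, hxy, ← mul_assoc, ← pow_two, w.exp z hz, one_mul]
  have hswap : ∀ (x g y : X), y ∈ Y → (x * g) * y * (x * g)⁻¹ = (g * x) * y * (g * x)⁻¹ := by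
    intro x g y hy
    obtain ⟨z₁, hz₁, h1⟩ := hmu g y hy
    obtain ⟨z₂, hz₂, h2⟩ := hmu x y hy
    have e1 : (x * g) * y * (x * g)⁻¹ = x * (g * y * g⁻¹) * x⁻¹ := by group
    have e2 : (g * x) * y * (g * x)⁻¹ = g * (x * y * x⁻¹) * g⁻¹ := by group
    rw [e1, e2, h1, h2]
    have e3 : x * (z₁ * y) * x⁻¹ = (x * z₁) * y * x⁻¹ := by group
    have e4 : g * (z₂ * y) * g⁻¹ = (g * z₂) * y * g⁻¹ := by group
    rw [e3, e4, ← hWc z₁ hz₁ x, ← hWc z₂ hz₂ g]
    have e5 : z₁ * x * y * x⁻¹ = z₁ * (x * y * x⁻¹) := by group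
    have e6 : z₂ * g * y * g⁻¹ = z₂ * (g * y * g⁻¹) := by group
    rw [e5, e6, h1, h2, ← mul_assoc, ← mul_assoc, hWc z₁ hz₁ z₂]
  have hcommW : ∀ x g : X, ⁅x, g⁆ ∈ W := by
    intro x g
    apply hinC
    intro y hy
    have hy' : (g * x)⁻¹ * y * (g * x) ∈ Y := by
      have := hYn.conj_mem y hy (g * x)⁻¹
      rwa [inv_inv] at this
    have e1 : ⁅x, g⁆ * y * ⁅x, g⁆⁻¹ =
        (x * g) * ((g * x)⁻¹ * y * (g * x)) * (x * g)⁻¹ := by
      rw [commutatorElement_def]; group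
    rw [e1, hswap x g _ hy']
    group
  have hYtop : Y = ⊤ := by
    rw [eq_top_iff]
    intro x _
    exact (hY x).mpr ⟨hsqW x, hcommW x⟩
  have hcardX : Nat.card X = 64 := by
    rw [← h64, hYtop, Subgroup.card_top]
  -- (d) special
  have hcenter : Subgroup.center X = W := by
    apply le_antisymm
    · intro z hz
      apply hCW
      rw [Subgroup.mem_centralizer_iff]
      intro y _
      exact (Subgroup.mem_center_iff.mp hz) y
    · exact w.central
  have hcomm_le : commutator X ≤ W := by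
    rw [commutator_def, Subgroup.commutator_le]
    intro x _ g _
    exact hcommW x g
  have hcomm_ge : W ≤ commutator X := by
    obtain ⟨x, y, hxy⟩ := h.na
    have hq1 : ⁅x, y⁆ ≠ 1 := by
      intro e
      rw [commutatorElement_eq_one_iff_mul_comm] at e
      exact hxy e
    have hmemc : ∀ u v : X, ⁅u, v⁆ ∈ commutator X := by
      intro u v
      rw [commutator_def]
      exact Subgroup.commutator_mem_commutator (Subgroup.mem_top u) (Subgroup.mem_top v)
    intro v hv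
    by_cases hv1 : v = 1
    · rw [hv1]; exact Subgroup.one_mem _
    · obtain ⟨φ, _, hφq⟩ := w.trans _ (hcommW x y) v hv hq1 hv1
      rw [← hφq, map_commutatorElement]
      exact hmemc _ _
  have hcomm : commutator X = W := le_antisymm hcomm_le hcomm_ge
  have : Fact (Nat.Prime 2) := ⟨Nat.prime_two⟩
  have hfrat : frattini X = W := by
    apply le_antisymm
    · exact Cfsg.Agent.Lib.Helper1.frattini_le_of_elementary_quotient 2 W hcomm_le hsqW
    · rw [← hcomm]
      exact Cfsg.Agent.Lib.Helper1.commutator_le_frattini_of_isPGroup 2 h.pg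
  refine ⟨⟨h.pg, by rw [hfrat, hcenter], by rw [hcomm, hcenter]⟩, hcardX, ?_, ?_⟩
  · -- count
    have hiff : ∀ x : X, orderOf x = 2 ↔ x ∈ W ∧ x ≠ 1 := by
      intro x
      constructor
      · intro hx
        have hx2 : x ^ 2 = 1 := by rw [← hx]; exact pow_orderOf_eq_one x
        refine ⟨hYinv x (hYtop ▸ Subgroup.mem_top x) hx2, ?_⟩
        rintro rfl
        rw [orderOf_one] at hx
        omega
      · rintro ⟨hxW, hx1⟩
        exact orderOf_eq_prime (w.exp x hxW) hx1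
    have hset : {x : X | orderOf x = 2} = (W : Set X) \ {1} := by
      ext x
      simp only [Set.mem_ofPred_eq, Set.mem_sdiff, SetLike.mem_coe, Set.mem_singleton_iff]
      exact hiff x
    have h1 : Nat.card {x : X // orderOf x = 2} = ({x : X | orderOf x = 2} : Set X).ncard :=
      Nat.card_coe_set_eq _
    rw [h1, hset, Set.ncard_sdiff_singleton_of_mem (Subgroup.one_mem _)]
    have h2 : (W : Set X).ncard = 4 := by
      rw [← w.card]; exact (Nat.card_coe_set_eq _).symm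
    rw [h2]
  · intro x hx
    have hx2 : x ^ 2 = 1 := by rw [← hx]; exact pow_orderOf_eq_one x
    exact w.central (hYinv x (hYtop ▸ Subgroup.mem_top x) hx2)

end Cfsg.Agent.Lib.Helper8.NG5U24
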