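-- This file was landed with a syntax error and is superseded by NG5U25b.lean (same folder).
-- It is kept, without declarations, so that every file under Cfsg/Agent compiles. Nothing imports it.
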