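import Mathlib
import Cfsg.Agent.Lib.Helper8.SN17N4a
import Cfsg.Agent.Lib.Lead.SmallSimple2

/-!
# S4234 farm piece P2a: all involutions of a simple group of order 1092 (PSL2(13)-like) are conjugate
-/

set_option autoImplicit false

namespace Cfsg.Agent.Lib.Helper8.NMXP2a

section abstract
variable {G : Type*} [Group G] [Finite G]

instance fact2 : Fact (Nat.Prime 2) := ⟨Nat.prime_two⟩

theorem card_sylow2 (hcard : Nat.card G = 1092) (P : Sylow 2 G) :
    Nat.card (P : Subgroup G) = 4 := by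
  have := Cfsg.Agent.Lib.Helper8.SN17.card_sylow_of_card 2 2 273 (by rw [hcard]; norm_num) (by norm_num) P
  simpa using this

/-- elements of a Sylow 2-subgroup square to one -/
theorem sq_eq_one_of_mem (hcard : Nat.card G = 1092)
    (hord : ∀ g : G, orderOf g ∣ 13 ∨ orderOf g ∣ 6 ∨ orderOf g ∣ 7)
    (P : Sylow 2 G) (a : G) (ha : a ∈ (P : Subgroup G)) : a ^ 2 = 1 := by
  have h4 : orderOf a ∣ 4 := by
    have : orderOf (⟨a, ha⟩ : (P : Subgroup G)) ∣ Nat.card (P : Subgroup G) := orderOf_dvd_natCard _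
    rw [card_sylow2 hcard P] at this
    rwa [Subgroup.orderOf_mk] at this
  have h2 : orderOf a ∣ 2 := by
    have hle : orderOf a ≤ 4 := Nat.le_of_dvd (by norm_num) h4
    rcases hord a with h | h | h <;>
    · have hpos := orderOf_pos a
      interval_cases (orderOf a) <;> simp_all
  exact orderOf_dvd_iff_pow_eq_one.mp h2

/-- the key step inside one Sylow 2-subgroup -/
theorem conj_in_sylow [IsSimpleGroup G] (hcard : Nat.card G = 1092)
    (hord : ∀ g : G, orderOf g ∣ 13 ∨ orderOf g ∣ 6 ∨ orderOf g ∣ 7)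
    (h4 : ∀ P : Subgroup G, Nat.card P = 4 → Nat.card (Subgroup.normalizer (P : Set G)) = 12)
    (P : Sylow 2 G) (a b : G) (ha : a ∈ (P : Subgroup G)) (hb : b ∈ (P : Subgroup G))
    (ha1 : a ≠ 1) (hb1 : b ≠ 1) : ∃ g : G, g * a * g⁻¹ = b := by
  classical
  have hP4 := card_sylow2 hcard P
  have hN12 := h4 (P : Subgroup G) hP4
  set N := Subgroup.normalizer ((P : Subgroup G) : Set G) with hNdef
  -- an element of order 3 in N
  have : Fact (Nat.Prime 3) := ⟨Nat.prime_three⟩
  obtain ⟨x, hx⟩ := exists_prime_orderOf_dvd_card' (G := N) 3 (by rw [hN12]; norm_num)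
  have hx3 : (x : G) ^ 3 = 1 := by
    have : x ^ 3 = 1 := by rw [← hx]; exact pow_orderOf_eq_one x
    exact_mod_cast congrArg Subtype.val this
  have hxne : (x : G) ≠ 1 := by
    intro h
    have : x = 1 := Subtype.ext h
    rw [this, orderOf_one] at hx
    omega
  have hxN : ∀ l : G, l ∈ (P : Subgroup G) ↔ (x : G) * l * (x : G)⁻¹ ∈ (P : Subgroup G) :=
    fun l => Subgroup.mem_normalizer_iff.mp x.2 l
  by_cases hfix : ∀ l ∈ (P : Subgroup G), (x : G) * l * (x : G)⁻¹ = l
  · -- x centralizes P: N ≤ C(P), Burnside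
    exfalso
    have hPab : ∀ l ∈ (P : Subgroup G), ∀ m ∈ (P : Subgroup G), l * m = m * l := by
      intro l hl m hm
      have h1 := sq_eq_one_of_mem hcard hord P l hl
      have h2 := sq_eq_one_of_mem hcard hord P m hm
      have h3 := sq_eq_one_of_mem hcard hord P (l * m) (mul_mem hl hm)
      have e1 : l⁻¹ = l := by rw [inv_eq_iff_mul_eq_one, ← sq, h1]
      have e2 : m⁻¹ = m := by rw [inv_eq_iff_mul_eq_one, ← sq, h2]
      have e3 : (l * m)⁻¹ = l * m := by rw [inv_eq_iff_mul_eq_one, ← sq, h3]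
      rw [← e3, mul_inv_rev, e1, e2]
    set D := N ⊓ Subgroup.centralizer ((P : Subgroup G) : Set G) with hD
    have hPD : (P : Subgroup G) ≤ D := by
      intro l hl
      refine ⟨Subgroup.le_normalizer hl, ?_⟩
      show l ∈ Subgroup.centralizer ((P : Subgroup G) : Set G)
      rw [Subgroup.mem_centralizer_iff]
      intro m hm
      exact hPab m hm l hl
    have hxD : (x : G) ∈ D := by
      refine ⟨x.2, ?_⟩
      show (x : G) ∈ Subgroup.centralizer ((P : Subgroup G) : Set G)
      rw [Subgroup.mem_centralizer_iff]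
      intro m hm
      have := hfix m hm
      calc m * (x : G) = ((x : G) * m * (x : G)⁻¹) * (x : G) := by rw [this]
        _ = (x : G) * m := by group
    have h4D : 4 ∣ Nat.card D := by rw [← hP4]; exact Subgroup.card_dvd_of_le hPD
    have h3D : 3 ∣ Nat.card D := by
      have ho : orderOf (x : G) = 3 := by
        rw [← hx]; exact (Subgroup.orderOf_coe x)
      rw [← ho]
      have : orderOf (⟨(x : G), hxD⟩ : D) ∣ Nat.card D := orderOf_dvd_natCard _
      rwa [Subgroup.orderOf_mk] at this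
    have h12D : 12 ∣ Nat.card D :=
      Nat.Coprime.mul_dvd_of_dvd_of_dvd (by norm_num : Nat.Coprime 4 3) h4D h3D
    have hDN : D ≤ N := inf_le_left
    have hDle : Nat.card D ∣ Nat.card N := Subgroup.card_dvd_of_le hDN
    have hDeq : Nat.card D = Nat.card N := by
      rw [hN12] at hDle ⊢
      exact Nat.dvd_antisymm hDle h12D
    have hDN' : D = N := Subgroup.eq_of_le_of_card_ge hDN (le_of_eq hDeq.symm)
    have hNC : N ≤ Subgroup.centralizer ((P : Subgroup G) : Set G) := by
      rw [← hDN']; exact inf_le_right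
    rcases Cfsg.Agent.Lib.Lead.SmallSimple2.burnside_simple P hNC with h | h
    · rw [hcard, hP4] at h; omega
    · rw [hP4] at h; omega
  · -- some l ∈ P is moved by x: then l, x l x⁻¹, x² l x⁻² are the three involutions of P
    push Not at hfix
    obtain ⟨l, hl, hmove⟩ := hfix
    have hl1 : l ≠ 1 := by
      rintro rfl
      apply hmove; group
    set l1 := (x : G) * l * (x : G)⁻¹ with hl1def
    set l2 := (x : G) * l1 * (x : G)⁻¹ with hl2def
    have hl1P : l1 ∈ (P : Subgroup G) := (hxN l).mp hl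
    have hl2P : l2 ∈ (P : Subgroup G) := (hxN l1).mp hl1P
    have hx3' : (x : G) * (x : G) * (x : G) = 1 := by rw [← hx3, pow_succ, pow_two]
    have hxinv3 : (x : G)⁻¹ * (x : G)⁻¹ * (x : G)⁻¹ = 1 := by
      have : ((x : G) * (x : G) * (x : G))⁻¹ = 1 := by rw [hx3', inv_one]
      rw [← this]; group
    have hback : (x : G) * l2 * (x : G)⁻¹ = l := by
      rw [hl2def, hl1def]
      calc (x : G) * ((x : G) * ((x : G) * l * (x : G)⁻¹) * (x : G)⁻¹) * (x : G)⁻¹
          = ((x : G) * (x : G) * (x : G)) * l * ((x : G)⁻¹ * (x : G)⁻¹ * (x : G)⁻¹) := by group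
        _ = l := by rw [hx3', hxinv3]; group
    have hne12 : l1 ≠ l2 := by
      intro h
      -- l1 = x l1 x⁻¹ ⇒ l = x⁻¹ l1 x = l1
      apply hmove
      have : (x : G)⁻¹ * l1 * (x : G) = (x : G)⁻¹ * l2 * (x : G) := by rw [h]
      rw [hl2def] at this
      have e1 : (x : G)⁻¹ * l1 * (x : G) = l := by rw [hl1def]; group
      have e2 : (x : G)⁻¹ * ((x : G) * l1 * (x : G)⁻¹) * (x : G) = l1 := by group
      rw [e1, e2] at this
      exact this.symm
    have hne02 : l ≠ l2 := by
      intro h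
      apply hmove
      -- l = l2 ⇒ x l x⁻¹ = x l2 x⁻¹ = l
      rw [hl1def] at *
      calc (x : G) * l * (x : G)⁻¹ = (x : G) * l2 * (x : G)⁻¹ := by rw [← h]
        _ = l := hback
    have hne01 : l ≠ l1 := fun h => hmove h.symm
    have hl1ne : l1 ≠ 1 := by
      intro h
      apply hl1
      have : (x : G)⁻¹ * l1 * (x : G) = l := by rw [hl1def]; group
      rw [← this, h]; group
    have hl2ne : l2 ≠ 1 := by
      intro h
      apply hl1ne
      have : (x : G)⁻¹ * l2 * (x : G) = l1 := by rw [hl2def]; group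
      rw [← this, h]; group
    -- P has exactly 4 elements: 1, l, l1, l2
    have hmem : ∀ c ∈ (P : Subgroup G), c = 1 ∨ c = l ∨ c = l1 ∨ c = l2 := by
      intro c hc
      by_contra hcon
      push Not at hcon
      obtain ⟨c1, c2, c3, c4⟩ := hcon
      have hfin : Fintype (P : Subgroup G) := Fintype.ofFinite _
      have h5 : 5 ≤ Nat.card (P : Subgroup G) := by
        rw [Nat.card_eq_fintype_card]
        let S5 : Finset (P : Subgroup G) :=
          {⟨1, one_mem _⟩, ⟨l, hl⟩, ⟨l1, hl1P⟩, ⟨l2, hl2P⟩, ⟨c, hc⟩}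
        have hS5 : S5.card = 5 := by
          simp only [S5]
          rw [Finset.card_insert_of_notMem, Finset.card_insert_of_notMem,
            Finset.card_insert_of_notMem, Finset.card_insert_of_notMem, Finset.card_singleton]
          · simp [Subtype.ext_iff]; exact Ne.symm c4
          · simp [Subtype.ext_iff]; exact ⟨hne12, Ne.symm c3⟩
          · simp [Subtype.ext_iff]; exact ⟨hne01, hne02, Ne.symm c2⟩
          · simp [Subtype.ext_iff]; exact ⟨Ne.symm hl1, Ne.symm hl1ne, Ne.symm hl2ne, Ne.symm c1⟩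
        rw [← hS5]
        exact Finset.card_le_univ _
      omega
    -- conjugating elements
    have hc01 : ∃ g : G, g * l * g⁻¹ = l1 := ⟨x, rfl⟩
    have hc12 : ∃ g : G, g * l1 * g⁻¹ = l2 := ⟨x, rfl⟩
    have hc20 : ∃ g : G, g * l2 * g⁻¹ = l := ⟨x, hback⟩
    have symm' : ∀ u v : G, (∃ g : G, g * u * g⁻¹ = v) → ∃ g : G, g * v * g⁻¹ = u := by
      rintro u v ⟨g, rfl⟩
      exact ⟨g⁻¹, by group⟩
    have trans' : ∀ u v w : G, (∃ g : G, g * u * g⁻¹ = v) → (∃ g : G, g * v * g⁻¹ = w) →
        ∃ g : G, g * u * g⁻¹ = w := by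
      rintro u v w ⟨g, rfl⟩ ⟨h, rfl⟩
      exact ⟨h * g, by group⟩
    have refl' : ∀ u : G, ∃ g : G, g * u * g⁻¹ = u := fun u => ⟨1, by group⟩
    rcases hmem a ha with h | h | h | h <;> rcases hmem b hb with h' | h' | h' | h'
    all_goals first
      | exact absurd h ha1
      | exact absurd h' hb1
      | (subst h; subst h'; first
          | exact refl' _
          | exact hc01
          | exact hc12
          | exact hc20
          | exact symm' _ _ hc01
          | exact symm' _ _ hc12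
          | exact symm' _ _ hc20)

/-- P2a: all involutions are conjugate. -/
theorem involutions_conj [IsSimpleGroup G] (hcard : Nat.card G = 1092)
    (hord : ∀ g : G, orderOf g ∣ 13 ∨ orderOf g ∣ 6 ∨ orderOf g ∣ 7)
    (h4 : ∀ P : Subgroup G, Nat.card P = 4 → Nat.card (Subgroup.normalizer (P : Set G)) = 12)
    (s t : G) (hs : orderOf s = 2) (ht : orderOf t = 2) : ∃ g : G, g * s * g⁻¹ = t := by
  have P : Sylow 2 G := default
  -- every involution is conjugate into P
  have hinto : ∀ u : G, orderOf u = 2 → ∃ g : G, g * u * g⁻¹ ∈ (P : Subgroup G) := by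
    intro u hu
    have hpg : IsPGroup 2 (Subgroup.zpowers u) := by
      apply IsPGroup.of_card (n := 1)
      rw [Nat.card_zpowers, hu, pow_one]
    obtain ⟨Q, hQ⟩ := hpg.exists_le_sylow
    obtain ⟨g, hg⟩ := MulAction.exists_smul_eq G Q P
    refine ⟨g, ?_⟩
    have huQ : u ∈ (Q : Subgroup G) := hQ (Subgroup.mem_zpowers u)
    rw [← hg, Sylow.coe_subgroup_smul]
    have := Subgroup.smul_mem_pointwise_smul u (MulAut.conj g) (Q : Subgroup G) huQ
    simpa [MulAut.smul_def] using this
  obtain ⟨g, hg⟩ := hinto s hs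
  obtain ⟨h, hh⟩ := hinto t ht
  have hs1 : s ≠ 1 := by rintro rfl; rw [orderOf_one] at hs; omega
  have ht1 : t ≠ 1 := by rintro rfl; rw [orderOf_one] at ht; omega
  have hgs1 : g * s * g⁻¹ ≠ 1 := by
    intro e
    apply hs1
    have : s = g⁻¹ * (g * s * g⁻¹) * g := by group
    rw [this, e]; group
  have hht1 : h * t * h⁻¹ ≠ 1 := by
    intro e
    apply ht1
    have : t = h⁻¹ * (h * t * h⁻¹) * h := by group
    rw [this, e]; group
  obtain ⟨n, hn⟩ := conj_in_sylow hcard hord h4 P _ _ hg hh hgs1 hht1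
  refine ⟨h⁻¹ * n * g, ?_⟩
  have : t = h⁻¹ * (h * t * h⁻¹) * h := by group
  rw [this, ← hn]; group

end abstract

end Cfsg.Agent.Lib.Helper8.NMXP2a
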