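import Mathlib

/-!
# S4234 farm piece PC: non-normal subgroups of `K × S` (coprime, `S` abelian) have coatom normalizers
-/

set_option autoImplicit false

namespace Cfsg.Agent.Lib.Helper8.NMXPC

section plumbing

variable {K S : Type*} [Group K] [CommGroup S] [Finite K] [Finite S]

/-- in a coprime product, `(k, s) ∈ H` implies `(k, 1) ∈ H`. -/
theorem fst_mem (hKS : (Nat.card K).Coprime (Nat.card S)) (H : Subgroup (K × S))
    {k : K} {s : S} (h : (k, s) ∈ H) : (k, (1 : S)) ∈ H := by
  have h1 : (k, s) ^ Nat.card S ∈ H := H.pow_mem h _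
  have h2 : (k, s) ^ Nat.card S = (k ^ Nat.card S, 1) := by
    ext
    · simp
    · simp [pow_card_eq_one']
  rw [h2] at h1
  have hz : (k ^ Nat.card S) ^ (Nat.card K).gcdB (Nat.card S) = k := (powCoprime hKS).left_inv k
  have h3 : (k ^ Nat.card S, (1 : S)) ^ (Nat.card K).gcdB (Nat.card S) ∈ H := H.zpow_mem h1 _
  have h4 : (k ^ Nat.card S, (1 : S)) ^ (Nat.card K).gcdB (Nat.card S) = (k, 1) := by
    ext
    · simp [hz]
    · simp
  rwa [h4] at h3

theorem snd_mem (hKS : (Nat.card K).Coprime (Nat.card S)) (H : Subgroup (K × S))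
    {k : K} {s : S} (h : (k, s) ∈ H) : ((1 : K), s) ∈ H := by
  have h1 := fst_mem hKS H h
  have h2 : (k, (1 : S))⁻¹ * (k, s) ∈ H := H.mul_mem (H.inv_mem h1) h
  have h3 : (k, (1 : S))⁻¹ * (k, s) = (1, s) := by
    ext <;> simp
  rwa [h3] at h2

/-- the `K`-part of `H` -/
def part (H : Subgroup (K × S)) : Subgroup K := H.comap (MonoidHom.inl K S)

omit [Finite K] [Finite S] in
theorem mem_part (H : Subgroup (K × S)) (k : K) : k ∈ part H ↔ (k, (1 : S)) ∈ H := Iff.rfl

theorem mem_iff (hKS : (Nat.card K).Coprime (Nat.card S)) (H : Subgroup (K × S)) (k : K) (s : S) :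
    (k, s) ∈ H ↔ (k, (1 : S)) ∈ H ∧ ((1 : K), s) ∈ H := by
  constructor
  · intro h; exact ⟨fst_mem hKS H h, snd_mem hKS H h⟩
  · rintro ⟨h1, h2⟩
    have := H.mul_mem h1 h2
    simpa using this

/-- the normalizer of `H` in terms of the normalizer of its `K`-part -/
theorem mem_normalizer_iff' (hKS : (Nat.card K).Coprime (Nat.card S)) (H : Subgroup (K × S))
    (g : K) (u : S) :
    (g, u) ∈ Subgroup.normalizer (H : Set (K × S)) ↔ g ∈ Subgroup.normalizer (part H : Set K) := by
  rw [Subgroup.mem_normalizer_iff, Subgroup.mem_normalizer_iff]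
  constructor
  · intro h k
    rw [mem_part, mem_part]
    have := h (k, 1)
    simpa using this
  · intro h x
    obtain ⟨k, s⟩ := x
    have e : (g, u) * (k, s) * (g, u)⁻¹ = (g * k * g⁻¹, s) := by
      ext
      · simp
      · simp [mul_comm]
    rw [e, mem_iff hKS H k s, mem_iff hKS H (g * k * g⁻¹) s]
    have := h k
    rw [mem_part, mem_part] at this
    rw [this]

theorem part_not_normal (hKS : (Nat.card K).Coprime (Nat.card S)) (H : Subgroup (K × S))
    (hH : ¬ H.Normal) : ¬ (part H).Normal := by
  intro hn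
  apply hH
  rw [← Subgroup.normalizer_eq_top_iff]
  rw [← Subgroup.normalizer_eq_top_iff] at hn
  ext x
  obtain ⟨g, u⟩ := x
  simp only [Subgroup.mem_top, iff_true]
  rw [mem_normalizer_iff' hKS, hn]
  trivial

/-- PC: product with a coprime abelian group. -/
theorem prod_coatom_normalizer
    (hKS : (Nat.card K).Coprime (Nat.card S))
    (hK : ∀ H1 : Subgroup K, ¬ H1.Normal → IsCoatom (Subgroup.normalizer (H1 : Set K)))
    (H : Subgroup (K × S)) (hH : ¬ H.Normal) :
    IsCoatom (Subgroup.normalizer (H : Set (K × S))) := by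
  have hco := hK (part H) (part_not_normal hKS H hH)
  refine ⟨?_, ?_⟩
  · intro htop
    apply hco.1
    ext g
    simp only [Subgroup.mem_top, iff_true]
    rw [← mem_normalizer_iff' hKS H g 1, htop]
    trivial
  · intro L hL
    -- L contains 1 × S
    have hS : ∀ s : S, ((1 : K), s) ∈ L := by
      intro s
      apply hL.le
      rw [mem_normalizer_iff' hKS]
      exact one_mem _
    -- the K-part of L
    have hLiff : ∀ (k : K) (s : S), (k, s) ∈ L ↔ (k, (1 : S)) ∈ L := by
      intro k s
      constructor
      · intro h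
        have := L.mul_mem h (hS s⁻¹)
        simpa using this
      · intro h
        have := L.mul_mem h (hS s)
        simpa using this
    have hlt : Subgroup.normalizer (part H : Set K) < part L := by
      refine lt_of_le_of_ne ?_ ?_
      · intro g hg
        rw [mem_part]
        apply hL.le
        rw [mem_normalizer_iff' hKS]
        exact hg
      · intro heq
        apply hL.ne
        apply le_antisymm hL.le
        intro x hx
        obtain ⟨k, s⟩ := x
        rw [mem_normalizer_iff' hKS, heq, mem_part]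
        exact (hLiff k s).mp hx
    have htop := hco.2 _ hlt
    ext x
    obtain ⟨k, s⟩ := x
    simp only [Subgroup.mem_top, iff_true]
    rw [hLiff k s, ← mem_part, htop]
    trivial

end plumbing

end Cfsg.Agent.Lib.Helper8.NMXPC
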