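import Mathlib
import Cfsg.Agent.Lib.Helper8.NilMax

/-! Deskins–Janko: a finite group with a nilpotent maximal subgroup of class at most 2 is
solvable. -/
set_option autoImplicit false
open Cfsg
open scoped commutatorElement Pointwise

namespace Cfsg.Agent.Lib.Helper8.NilMax

variable {G : Type*} [Group G]

/-- Sylow in a subgroup `K`: two `p`-subgroups of `K` can be put in a common `p`-subgroup after
conjugating one by an element of `K`. -/
theorem exists_conj_le_isPGroup [Finite G] {p : ℕ} [Fact p.Prime] (K A B : Subgroup G)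
    (hA : A ≤ K) (hB : B ≤ K) (hAp : IsPGroup p A) (hBp : IsPGroup p B) :
    ∃ c ∈ K, ∃ R : Subgroup G, IsPGroup p R ∧ A ≤ R ∧ ∀ b ∈ B, c * b * c⁻¹ ∈ R := by
  have hA' : IsPGroup p (A.subgroupOf K) := hAp.comap_subtype
  have hB' : IsPGroup p (B.subgroupOf K) := hBp.comap_subtype
  obtain ⟨E₁, hE₁⟩ := hA'.exists_le_sylow
  obtain ⟨E₂, hE₂⟩ := hB'.exists_le_sylow
  obtain ⟨c, hc⟩ := MulAction.exists_smul_eq K E₂ E₁
  refine ⟨c, c.2, (E₁ : Subgroup K).map K.subtype, E₁.2.map _, ?_, ?_⟩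
  · intro a ha
    exact Subgroup.mem_map.mpr ⟨⟨a, hA ha⟩, hE₁ (Subgroup.mem_subgroupOf.mpr ha), rfl⟩
  · intro b hb
    have hb' : (⟨b, hB hb⟩ : K) ∈ (E₂ : Subgroup K) := hE₂ (Subgroup.mem_subgroupOf.mpr hb)
    have h1 : MulAut.conj c • (⟨b, hB hb⟩ : K) ∈ MulAut.conj c • (E₂ : Subgroup K) :=
      Subgroup.smul_mem_pointwise_smul _ _ _ hb'
    rw [← Sylow.coe_subgroup_smul, hc] at h1
    refine Subgroup.mem_map.mpr ⟨_, h1, ?_⟩
    simp [MulAut.smul_def]

theorem mem_of_conj_mem_of_coatom (M : Subgroup G) (hmax : IsCoatom M)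
    (hcore : ∀ N : Subgroup G, N.Normal → N ≤ M → N = ⊥) (hM : M ≠ ⊥) (g : G)
    (h1 : ∀ m ∈ M, g * m * g⁻¹ ∈ M) (h2 : ∀ m ∈ M, g⁻¹ * m * g ∈ M) : g ∈ M := by
  by_contra hg
  have hgn : g ∈ Subgroup.normalizer (M : Set G) := by
    rw [Subgroup.mem_normalizer_iff]
    intro h
    refine ⟨h1 h, fun hh => ?_⟩
    have := h2 _ hh
    have e : g⁻¹ * (g * h * g⁻¹) * g = h := by group
    rwa [e] at this
  have hlt : M < Subgroup.normalizer (M : Set G) := by
    refine lt_of_le_of_ne Subgroup.le_normalizer ?_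
    intro h
    apply hg
    rw [h]; exact hgn
  have htop := hmax.2 _ hlt
  have hMn : M.Normal := Subgroup.normalizer_eq_top_iff.mp htop
  exact hM (hcore M hMn le_rfl)

theorem two_step [Finite G] (M : Subgroup G) (hmax : IsCoatom M) (hnil : Group.IsNilpotent M)
    (hcl : Group.nilpotencyClass ↥M ≤ 2)
    (hcore : ∀ N : Subgroup G, N.Normal → N ≤ M → N = ⊥) (h2M : 2 ∣ Nat.card M) :
    HasNormalPComplement 2 G ∧ ¬ 2 ∣ M.index := by
  haveI : Fact (Nat.Prime 2) := ⟨Nat.prime_two⟩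
  have key : ∀ X : Subgroup G, X ≤ M → X ≠ ⊥ → M ≤ Subgroup.normalizer (X : Set G) →
      Subgroup.normalizer (X : Set G) = M := by
    intro X hXM hX hMN
    by_contra hne
    have hlt : M < Subgroup.normalizer (X : Set G) := lt_of_le_of_ne hMN (Ne.symm hne)
    have htop := hmax.2 _ hlt
    have hXn : X.Normal := Subgroup.normalizer_eq_top_iff.mp htop
    exact hX (hcore X hXn hXM)
  obtain ⟨PM, KM, hKMn, hKMc⟩ := hasNormalPComplement_of_isNilpotent hnil 2
  haveI hPMn : (PM : Subgroup M).Normal := inferInstance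
  set P : Subgroup G := (PM : Subgroup M).map M.subtype with hPdef
  have hPM : P ≤ M := Subgroup.map_subtype_le _
  have hPp : IsPGroup 2 P := PM.2.map _
  have hPne : P ≠ ⊥ := by
    intro h
    rw [hPdef, Subgroup.map_eq_bot_iff_of_injective _ (Subgroup.subtype_injective M)] at h
    exact Sylow.ne_bot_of_dvd_card PM h2M h
  have hMne : M ≠ ⊥ := by
    intro h; apply hPne; rw [eq_bot_iff, ← h]; exact hPM
  have hMNP : M ≤ Subgroup.normalizer (P : Set G) := by
    apply Cfsg.Agent.Lib.Helper1.le_normalizer_of_conj_mem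
    intro g hg x hx
    obtain ⟨y, hy, rfl⟩ := Subgroup.mem_map.mp hx
    exact Subgroup.mem_map.mpr ⟨⟨g, hg⟩ * y * ⟨g, hg⟩⁻¹, hPMn.conj_mem y hy ⟨g, hg⟩, rfl⟩
  have hNP := key P hPM hPne hMNP
  have hsub : P.subgroupOf M = (PM : Subgroup M) := by
    rw [hPdef]
    exact Subgroup.comap_map_eq_self_of_injective (Subgroup.subtype_injective M) _
  have hidx : ¬ 2 ∣ P.index := by
    have h1 := Cfsg.Agent.Lib.Helper1.not_dvd_relIndex_of_not_dvd_relIndex_normalizer 2 ⊤ P
      le_top hPp (by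
        rw [top_inf_eq, hNP, Subgroup.relIndex, hsub]
        exact PM.not_dvd_index)
    rwa [Subgroup.relIndex_top_right] at h1
  have hMidx : ¬ 2 ∣ M.index := by
    intro hd
    apply hidx
    rw [← Subgroup.relIndex_mul_index hPM]
    exact Dvd.dvd.mul_left hd _
  refine ⟨?_, hMidx⟩
  let PG : Sylow 2 G := hPp.toSylow hidx
  have hPG : (PG : Subgroup G) = P := rfl
  -- structure of `M`
  have hdecomp : ∀ m ∈ M, ∃ k ∈ Subgroup.centralizer (P : Set G), ∃ t ∈ P, m = k * t := by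
    intro m hm
    have hmem : (⟨m, hm⟩ : M) ∈ ((KM : Set M) * ((PM : Subgroup M) : Set M)) := by
      rw [hKMc.mul_eq]; trivial
    obtain ⟨k, hk, t, ht, hkt⟩ := Set.mem_mul.mp hmem
    refine ⟨(k : G), ?_, (t : G), Subgroup.mem_map.mpr ⟨t, ht, rfl⟩, ?_⟩
    · rw [Subgroup.mem_centralizer_iff]
      intro y hy
      obtain ⟨y', hy', rfl⟩ := Subgroup.mem_map.mp hy
      have hcomm := Subgroup.commute_of_normal_of_disjoint KM (PM : Subgroup M) hKMn hPMn
        hKMc.disjoint k y' hk hy'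
      have := congrArg Subtype.val hcomm.eq
      simpa using this.symm
    · have := congrArg Subtype.val hkt
      simpa using this.symm
  have h2le : ∀ R : Subgroup G, IsPGroup 2 R → R ≤ M → R ≤ P := by
    intro R hR hRM
    have hR' : IsPGroup 2 (R.subgroupOf M) := hR.comap_subtype
    obtain ⟨Q, hQ⟩ := hR'.exists_le_sylow
    obtain ⟨c, hc⟩ := MulAction.exists_smul_eq M PM Q
    have hQe : Q = PM := by rw [← hc]; exact Sylow.smul_eq_of_normal
    intro r hr
    have : (⟨r, hRM hr⟩ : M) ∈ (Q : Subgroup M) := hQ (Subgroup.mem_subgroupOf.mpr hr)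
    rw [hQe] at this
    exact Subgroup.mem_map.mpr ⟨⟨r, hRM hr⟩, this, rfl⟩
  -- the centre of `P`
  set ZP : Subgroup G := P ⊓ Subgroup.centralizer (P : Set G) with hZPdef
  have hZPP : ZP ≤ P := inf_le_left
  have hZPc : ∀ z ∈ ZP, ∀ y ∈ P, y * z = z * y := fun z hz y hy =>
    Subgroup.mem_centralizer_iff.mp (Subgroup.mem_inf.mp hz).2 y hy
  have hZPne : ZP ≠ ⊥ := by
    have hnt : Nontrivial P := (Subgroup.nontrivial_iff_ne_bot P).mpr hPne
    have := hPp.center_nontrivial
    obtain ⟨z, hz⟩ := exists_ne (1 : Subgroup.center P)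
    intro hbot
    apply hz
    have hzmem : ((z : P) : G) ∈ ZP := by
      refine Subgroup.mem_inf.mpr ⟨(z : P).2, ?_⟩
      rw [Subgroup.mem_centralizer_iff]
      intro y hy
      have := Subgroup.mem_center_iff.mp z.2 ⟨y, hy⟩
      exact congrArg Subtype.val this
    rw [hbot, Subgroup.mem_bot] at hzmem
    exact Subtype.ext (Subtype.ext hzmem)
  have hcl2 : ∀ x ∈ P, ∀ y ∈ P, x * y * x⁻¹ * y⁻¹ ∈ ZP := by
    intro x hx y hy
    have h2 : (⊤ : Subgroup M).lowerCentralSeries 2 = ⊥ :=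
      Subgroup.lowerCentralSeries_eq_bot_iff_nilpotencyClass_le.mpr hcl
    refine Subgroup.mem_inf.mpr
      ⟨P.mul_mem (P.mul_mem (P.mul_mem hx hy) (P.inv_mem hx)) (P.inv_mem hy), ?_⟩
    rw [Subgroup.mem_centralizer_iff]
    intro z hz
    have hmem : ⁅⁅(⟨x, hPM hx⟩ : M), (⟨y, hPM hy⟩ : M)⁆, (⟨z, hPM hz⟩ : M)⁆ ∈
        (⊤ : Subgroup M).lowerCentralSeries 2 := by
      change _ ∈ ⁅⁅(⊤ : Subgroup M), ⊤⁆, ⊤⁆
      exact Subgroup.commutator_mem_commutator
        (Subgroup.commutator_mem_commutator trivial trivial) trivial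
    rw [h2, Subgroup.mem_bot] at hmem
    have hc := (commutatorElement_eq_one_iff_commute.mp hmem).eq
    have := congrArg Subtype.val hc
    simp only [commutatorElement_def, Subgroup.coe_mul, Subgroup.coe_inv] at this
    exact this.symm
  have hL3 : ∀ X : Subgroup G, X ≤ P → ZP ≤ X → Subgroup.normalizer (X : Set G) = M := by
    intro X hXP hZX
    apply key X (hXP.trans hPM)
    · intro hX; apply hZPne; rw [eq_bot_iff, ← hX]; exact hZX
    · apply Cfsg.Agent.Lib.Helper1.le_normalizer_of_conj_mem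
      intro m hm x hx
      obtain ⟨k, hk, t, ht, rfl⟩ := hdecomp m hm
      have h1 : t * x * t⁻¹ ∈ X := by
        have := hZX (hcl2 t ht x (hXP hx))
        have e : t * x * t⁻¹ = (t * x * t⁻¹ * x⁻¹) * x := by group
        rw [e]; exact X.mul_mem this hx
      have h2 : k * (t * x * t⁻¹) = (t * x * t⁻¹) * k :=
        ((Subgroup.mem_centralizer_iff.mp hk) _ (hXP h1)).symm
      have e : k * t * x * (k * t)⁻¹ = k * (t * x * t⁻¹) * k⁻¹ := by group
      rw [e, h2, mul_inv_cancel_right]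
      exact h1
  have hCZ : Subgroup.centralizer (ZP : Set G) ≤ M := by
    rw [← hL3 ZP hZPP le_rfl]
    intro c hc
    rw [Subgroup.mem_normalizer_iff]
    intro h
    have hcc := Subgroup.mem_centralizer_iff.mp hc
    constructor
    · intro hh
      have e : c * h * c⁻¹ = h := by rw [← hcc h hh, mul_inv_cancel_right]
      rw [e]; exact hh
    · intro hh
      have e2 := hcc _ hh
      have e : c * h * c⁻¹ = h := by
        have : c * h * c⁻¹ * c = c * (c * h * c⁻¹) := e2
        have h3 : c * h = c * (c * h * c⁻¹) := by simpa using this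
        exact (mul_left_cancel h3).symm
      rw [← e]; exact hh
  -- weak closure of `Z(P)`
  have hΨ : ∀ g : G, (∀ z ∈ ZP, g * z * g⁻¹ ∈ P) → (∀ z ∈ ZP, g⁻¹ * z * g ∈ P) →
      ∀ m ∈ M, g * m * g⁻¹ ∈ M := by
    intro g hΦ hΦ' m hm
    set D' : Subgroup G := P ⊓ P.map (MulAut.conj g).toMonoidHom with hD'
    set D'' : Subgroup G := P ⊓ P.map (MulAut.conj g⁻¹).toMonoidHom with hD''
    have hmemD' : ∀ x : G, x ∈ D' ↔ x ∈ P ∧ g⁻¹ * x * g ∈ P := by
      intro x
      rw [hD', Subgroup.mem_inf, Subgroup.mem_map]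
      constructor
      · rintro ⟨h1, y, hy, rfl⟩
        refine ⟨h1, ?_⟩
        simp only [MulEquiv.coe_toMonoidHom, MulAut.conj_apply]
        have e : g⁻¹ * (g * y * g⁻¹) * g = y := by group
        rw [e]; exact hy
      · rintro ⟨h1, h2⟩
        refine ⟨h1, g⁻¹ * x * g, h2, ?_⟩
        simp only [MulEquiv.coe_toMonoidHom, MulAut.conj_apply]
        group
    have hmemD'' : ∀ x : G, x ∈ D'' ↔ x ∈ P ∧ g * x * g⁻¹ ∈ P := by
      intro x
      rw [hD'', Subgroup.mem_inf, Subgroup.mem_map]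
      constructor
      · rintro ⟨h1, y, hy, rfl⟩
        refine ⟨h1, ?_⟩
        simp only [MulEquiv.coe_toMonoidHom, MulAut.conj_apply, inv_inv]
        have e : g * (g⁻¹ * y * g) * g⁻¹ = y := by group
        rw [e]; exact hy
      · rintro ⟨h1, h2⟩
        refine ⟨h1, g * x * g⁻¹, h2, ?_⟩
        simp only [MulEquiv.coe_toMonoidHom, MulAut.conj_apply, inv_inv]
        group
    have hZD' : ZP ≤ D' := fun z hz => (hmemD' z).mpr ⟨hZPP hz, hΦ' z hz⟩
    have hZD'' : ZP ≤ D'' := fun z hz => (hmemD'' z).mpr ⟨hZPP hz, hΦ z hz⟩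
    have hN' := hL3 D' inf_le_left hZD'
    have hN'' := hL3 D'' inf_le_left hZD''
    rw [← hN']
    have hmN : m ∈ Subgroup.normalizer (D'' : Set G) := by rw [hN'']; exact hm
    have hconj : ∀ x ∈ D', g * m * g⁻¹ * x * (g * m * g⁻¹)⁻¹ ∈ D' := by
      intro x hx
      obtain ⟨hx1, hx2⟩ := (hmemD' x).mp hx
      have hy : g⁻¹ * x * g ∈ D'' := by
        refine (hmemD'' _).mpr ⟨hx2, ?_⟩
        have e : g * (g⁻¹ * x * g) * g⁻¹ = x := by group
        rw [e]; exact hx1
      have hmy := (Subgroup.mem_normalizer_iff.mp hmN _).mp hy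
      obtain ⟨h3, h4⟩ := (hmemD'' _).mp hmy
      refine (hmemD' _).mpr ⟨?_, ?_⟩
      · have e : g * m * g⁻¹ * x * (g * m * g⁻¹)⁻¹ = g * (m * (g⁻¹ * x * g) * m⁻¹) * g⁻¹ := by
          group
        rw [e]; exact h4
      · have e : g⁻¹ * (g * m * g⁻¹ * x * (g * m * g⁻¹)⁻¹) * g = m * (g⁻¹ * x * g) * m⁻¹ := by
          group
        rw [e]; exact h3
    have hconj' : ∀ x ∈ D', (g * m * g⁻¹)⁻¹ * x * (g * m * g⁻¹) ∈ D' := by
      intro x hx
      obtain ⟨hx1, hx2⟩ := (hmemD' x).mp hx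
      have hy : g⁻¹ * x * g ∈ D'' := by
        refine (hmemD'' _).mpr ⟨hx2, ?_⟩
        have e : g * (g⁻¹ * x * g) * g⁻¹ = x := by group
        rw [e]; exact hx1
      have hmN' : m⁻¹ ∈ Subgroup.normalizer (D'' : Set G) := Subgroup.inv_mem _ hmN
      have hmy := (Subgroup.mem_normalizer_iff.mp hmN' _).mp hy
      obtain ⟨h3, h4⟩ := (hmemD'' _).mp hmy
      refine (hmemD' _).mpr ⟨?_, ?_⟩
      · have e : (g * m * g⁻¹)⁻¹ * x * (g * m * g⁻¹) = g * (m⁻¹ * (g⁻¹ * x * g) * m⁻¹⁻¹) * g⁻¹ := by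
          group
        rw [e]; exact h4
      · have e : g⁻¹ * ((g * m * g⁻¹)⁻¹ * x * (g * m * g⁻¹)) * g =
            m⁻¹ * (g⁻¹ * x * g) * m⁻¹⁻¹ := by
          group
        rw [e]; exact h3
    rw [Subgroup.mem_normalizer_iff]
    intro x
    refine ⟨hconj x, fun hh => ?_⟩
    have := hconj' _ hh
    have e : (g * m * g⁻¹)⁻¹ * (g * m * g⁻¹ * x * (g * m * g⁻¹)⁻¹) * (g * m * g⁻¹) = x := by
      group
    rwa [e] at this
  have hL4 : ∀ g : G, (∀ z ∈ ZP, g * z * g⁻¹ ∈ P) → g ∈ M := by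
    intro g hΦ
    have hΦ' : ∀ z ∈ ZP, g⁻¹ * z * g ∈ P := by
      have hle : ZP.map (MulAut.conj g⁻¹).toMonoidHom ≤ P := by
        apply h2le _ ((hPp.to_le hZPP).map _)
        rintro _ ⟨z, hz, rfl⟩
        apply hCZ
        rw [Subgroup.mem_centralizer_iff]
        intro w hw
        simp only [MulEquiv.coe_toMonoidHom, MulAut.conj_apply, inv_inv]
        have h1 := hZPc z hz _ (hΦ w hw)
        -- h1 : g * w * g⁻¹ * z = z * (g * w * g⁻¹)
        have e1 : w * (g⁻¹ * z * g) = g⁻¹ * (g * w * g⁻¹ * z) * g := by group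
        have e2 : g⁻¹ * z * g * w = g⁻¹ * (z * (g * w * g⁻¹)) * g := by group
        rw [e1, e2, h1]
      intro z hz
      have := hle (Subgroup.mem_map.mpr ⟨z, hz, rfl⟩)
      simpa using this
    apply mem_of_conj_mem_of_coatom M hmax hcore hMne g (hΨ g hΦ hΦ')
    intro m hm
    have := hΨ g⁻¹ (by simpa using hΦ') (by simpa using hΦ) m hm
    simpa using this
  -- control of fusion
  have hfus : ∀ x ∈ P, ∀ y ∈ P, (∃ g : G, g * x * g⁻¹ = y) → ∃ h ∈ P, h * x * h⁻¹ = y := by
    rintro x hx _ hy ⟨g, rfl⟩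
    set K : Subgroup G := Subgroup.centralizer {x} with hK
    have hKmem : ∀ c : G, c ∈ K ↔ x * c = c * x := by
      intro c
      rw [hK, Subgroup.mem_centralizer_iff]
      simp
    have hA : ZP ≤ K := by
      intro z hz
      rw [hKmem]
      exact hZPc z hz x hx
    have hB : ZP.map (MulAut.conj g⁻¹).toMonoidHom ≤ K := by
      rintro _ ⟨z, hz, rfl⟩
      rw [hKmem]
      simp only [MulEquiv.coe_toMonoidHom, MulAut.conj_apply, inv_inv]
      have h1 := hZPc z hz _ hy
      have e1 : x * (g⁻¹ * z * g) = g⁻¹ * (g * x * g⁻¹ * z) * g := by group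
      have e2 : g⁻¹ * z * g * x = g⁻¹ * (z * (g * x * g⁻¹)) * g := by group
      rw [e1, e2, h1]
    obtain ⟨c, hcK, R, hRp, hAR, hBR⟩ := exists_conj_le_isPGroup K ZP _ hA hB
      (hPp.to_le hZPP) ((hPp.to_le hZPP).map _)
    -- `R ≤ P`
    have hRP : R ≤ P := by
      obtain ⟨S, hS⟩ := hRp.exists_le_sylow
      obtain ⟨u, hu⟩ := MulAction.exists_smul_eq G PG S
      have hSu : ∀ r ∈ S, u⁻¹ * r * u ∈ P := by
        intro r hr
        rw [← hu] at hr
        have hr' : r ∈ MulAut.conj u • (PG : Subgroup G) := hr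
        obtain ⟨s, hs, rfl⟩ := (Subgroup.mem_smul_pointwise_iff_exists _ _ _).mp hr'
        have hs' : s ∈ P := hs
        simp only [MulAut.smul_def, MulAut.conj_apply]
        have e : u⁻¹ * (u * s * u⁻¹) * u = s := by group
        rw [e]; exact hs'
      have huM : u⁻¹ ∈ M := by
        apply hL4
        intro z hz
        have := hSu z (hS (hAR hz))
        simpa using this
      have huM' : u ∈ M := by simpa using M.inv_mem huM
      intro r hr
      have h1 := hSu r (hS hr)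
      have h2 := (Subgroup.mem_normalizer_iff.mp (hMNP huM') (u⁻¹ * r * u)).mp h1
      have e : u * (u⁻¹ * r * u) * u⁻¹ = r := by group
      rwa [e] at h2
    have hmM : c * g⁻¹ ∈ M := by
      apply hL4
      intro z hz
      have := hRP (hBR _ (Subgroup.mem_map.mpr ⟨z, hz, rfl⟩))
      simp only [MulEquiv.coe_toMonoidHom, MulAut.conj_apply, inv_inv] at this
      have e : c * g⁻¹ * z * (c * g⁻¹)⁻¹ = c * (g⁻¹ * z * g) * c⁻¹ := by group
      rw [e]; exact this
    obtain ⟨k, hk, t, ht, hkt⟩ := hdecomp _ (M.inv_mem hmM)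
    refine ⟨t, ht, ?_⟩
    have hcx : c * x * c⁻¹ = x := by
      have := (hKmem c).mp hcK
      rw [← this, mul_inv_cancel_right]
    have htx : t * x * t⁻¹ ∈ P := P.mul_mem (P.mul_mem ht hx) (P.inv_mem ht)
    have hkc := Subgroup.mem_centralizer_iff.mp hk _ htx
    have e1 : g * x * g⁻¹ = (c * g⁻¹)⁻¹ * (c * x * c⁻¹) * (c * g⁻¹)⁻¹⁻¹ := by group
    rw [e1, hcx, hkt]
    have e2 : k * t * x * (k * t)⁻¹ = k * (t * x * t⁻¹) * k⁻¹ := by group
    rw [e2, ← hkc, mul_inv_cancel_right]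
  have hPnil : Group.IsNilpotent P := hPp.isNilpotent
  have hHallP : Nat.Coprime (Nat.card P) P.index := by
    obtain ⟨k, hk⟩ := hPp.exists_card_eq
    rw [hk]
    apply Nat.Coprime.pow_left
    rw [Nat.prime_two.coprime_iff_not_dvd]
    exact hidx
  obtain ⟨N, hNn, hNc⟩ :=
    (Cfsg.Agent.Lib.Helper1.nilpotent_hall_normal_complement_iff P hPnil hHallP).mpr hfus
  exact ⟨PG, N, hNn, hNc⟩

theorem isSolvable_of_corefree_of_step [Finite G] (M : Subgroup G) (hmax : IsCoatom M)
    (hnil : Group.IsNilpotent M)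
    (hstep : ∀ q : ℕ, q.Prime → q ∣ Nat.card M →
      HasNormalPComplement q G ∧ ¬ q ∣ M.index) : Group.IsSolvable G := by
  have hHall : Nat.Coprime (Nat.card M) M.index :=
    Nat.coprime_of_dvd (fun q hq hqM => (hstep q hq hqM).2)
  obtain ⟨K, hKn, hKc⟩ := Cfsg.Agent.Lib.Helper1.hall_normal_complement_of_forall_prime M hHall
    (fun q hq hqM => (hstep q hq hqM).1)
  haveI := hKn
  have hMsolv : Group.IsSolvable M := inferInstance
  have hKM : K ⊓ M = ⊥ := hKc.disjoint.eq_bot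
  have hsup : M ⊔ K = ⊤ := by rw [sup_comm]; exact hKc.sup_eq_top
  have hcop : (Nat.card M).Coprime (Nat.card K) := by
    rw [← hKc.index_eq_card]
    exact hHall
  by_cases hK : K = ⊥
  · subst hK
    exact isSolvable_of_sup_normal M ⊥ hsup hMsolv inferInstance
  · have hcard : Nat.card K ≠ 1 := by
      intro h; exact hK (Subgroup.card_eq_one.mp h)
    obtain ⟨q, hq, hqK⟩ := Nat.exists_prime_and_dvd hcard
    haveI := Fact.mk hq
    have hMK : M ≤ Subgroup.normalizer (K : Set G) := by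
      rw [Subgroup.normalizer_eq_top_iff.mpr hKn]; exact le_top
    obtain ⟨Q₀, hQ₀⟩ := Cfsg.Agent.Lib.Helper1.coprime_exists_invariant_sylow M K hMK hcop
      (Or.inl hMsolv) q
    set Q : Subgroup G := (Q₀ : Subgroup K).map K.subtype with hQdef
    have hQK : Q ≤ K := Subgroup.map_subtype_le _
    have hQp : IsPGroup q Q := Q₀.2.map _
    have hQne : Q ≠ ⊥ := by
      intro h
      rw [hQdef, Subgroup.map_eq_bot_iff_of_injective _ (Subgroup.subtype_injective K)] at h
      exact Sylow.ne_bot_of_dvd_card Q₀ hqK h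
    have hQM : ¬ Q ≤ M := by
      intro h
      apply hQne
      rw [eq_bot_iff, ← hKM]
      exact le_inf hQK h
    have hlt : M < M ⊔ Q := by
      refine lt_of_le_of_ne le_sup_left ?_
      intro h
      exact hQM (h ▸ le_sup_right)
    have htop : M ⊔ Q = ⊤ := hmax.2 _ hlt
    have hQn : Q.Normal := by
      rw [← Subgroup.normalizer_eq_top_iff, eq_top_iff, ← htop]
      exact sup_le hQ₀ Subgroup.le_normalizer
    haveI := hQn
    haveI hQnil : Group.IsNilpotent Q := hQp.isNilpotent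
    exact isSolvable_of_sup_normal M Q htop hMsolv inferInstance

theorem isSolvable_of_nilpotent_class_two_coatom [Finite G] (M : Subgroup G) (hmax : IsCoatom M)
    (hnil : Group.IsNilpotent M) (hcl : Group.nilpotencyClass ↥M ≤ 2) : Group.IsSolvable G := by
  set N := M.normalCore with hN
  haveI : N.Normal := Subgroup.normalCore_normal M
  have hNM : N ≤ M := Subgroup.normalCore_le M
  set π := QuotientGroup.mk' N with hπdef
  have hπ : Function.Surjective π := QuotientGroup.mk'_surjective N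
  have hker : π.ker ≤ M := by rw [hπdef, QuotientGroup.ker_mk']; exact hNM
  have hmax' : IsCoatom (M.map π) := Cfsg.Agent.Lib.Helper8.BG.isCoatom_map π hπ hmax hker
  haveI hnil' : Group.IsNilpotent (M.map π) :=
    Group.nilpotent_of_surjective (π.subgroupMap M) (π.subgroupMap_surjective M)
  have hcl' : Group.nilpotencyClass ↥(M.map π) ≤ 2 :=
    (Group.nilpotencyClass_le_of_surjective (π.subgroupMap M) (π.subgroupMap_surjective M)).trans
      hcl
  have hcore' : ∀ L : Subgroup (G ⧸ N), L.Normal → L ≤ M.map π → L = ⊥ := by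
    intro L hL hLM
    have h1 : L.comap π ≤ M := by
      have := Subgroup.comap_mono (f := π) hLM
      rwa [Subgroup.comap_map_eq, sup_eq_left.mpr hker] at this
    haveI : (L.comap π).Normal := hL.comap π
    have h2 : L.comap π ≤ N := Subgroup.normal_le_normalCore.mpr h1
    rw [eq_bot_iff, ← Subgroup.map_comap_eq_self_of_surjective hπ L]
    intro x hx
    obtain ⟨g, hg, rfl⟩ := Subgroup.mem_map.mp hx
    rw [Subgroup.mem_bot]
    exact (QuotientGroup.eq_one_iff g).mpr (h2 hg)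
  haveI hsolvQ : Group.IsSolvable (G ⧸ N) := by
    apply isSolvable_of_corefree_of_step (M.map π) hmax' hnil'
    intro q hq hqM
    by_cases hq2 : q = 2
    · subst hq2
      exact two_step (M.map π) hmax' hnil' hcl' hcore' hqM
    · haveI := Fact.mk hq
      exact sylow_step (M.map π) hmax' hnil' hcore' q hq2 hqM
  haveI : Group.IsSolvable M := inferInstance
  haveI : Group.IsSolvable N :=
    Group.isSolvable_of_isSolvable_injective (Subgroup.inclusion_injective hNM)
  exact Group.isSolvable_of_ker_le_range N.subtype π (by simp [hπdef])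

end Cfsg.Agent.Lib.Helper8.NilMax
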