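import Cfsg.Agent.Lib.Helper8.O459P4
import Cfsg.Agent.Lib.Helper4.O459P6a
import Cfsg.Agent.Lib.Helper5.O459P2
import Cfsg.Agent.Lib.Helper5.O459P3
import Cfsg.Agent.Lib.Helper6.O459P5
import Cfsg.Agent.Lib.Helper6.O459P7a
import Cfsg.Agent.Lib.Helper7.O459P6b
import Cfsg.Agent.Lib.Helper7.O459P6c
import Cfsg.Agent.Lib.Helper3.O459P7b

/-!
# S1022: there is no simple group of order 459648 = 2^7 * 3^3 * 7 * 19 (assembly)
-/

set_option autoImplicit false


namespace Cfsg.Agent.Lib.Helper8.O459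
open Cfsg.Agent.Lib.Helper4.O459 Cfsg.Agent.Lib.Helper5.O459 Cfsg.Agent.Lib.Helper6.O459 Cfsg.Agent.Lib.Helper7.O459
variable {G : Type*} [Group G] [Finite G]

theorem vArgument [IsSimpleGroup G] (hcard : Nat.card G = 459648) (P : Sylow 19 G)
    (hN : Nat.card (NP P) = 456) (V : Subgroup G) (hV : Nat.card V = 4) (hVC : V ≤ CP P)
    (hVN : NP P ≤ Subgroup.normalizer (V : Set G)) : False := by
  by_cases hall : ∀ w ∈ V, w ≠ 1 → Subgroup.centralizer ({w} : Set G) ≤ NP P
  · exact caseI hcard P hN V hV hVC hVN hall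
  · push Not at hall
    obtain ⟨w, hw, hw1, hnle⟩ := hall
    rcases cent_le_or hcard P hN V hV hVC hVN w hw hw1 with h | h
    · exact hnle h
    · exact caseII hcard P hN V hV hVC hVN w hw hw1 h

theorem no_simple [IsSimpleGroup G] : Nat.card G ≠ 459648 := by
  intro hcard
  have P : Sylow 19 G := default
  obtain ⟨e, he, he1, hNC, h19⟩ := card_centralizer hcard P
  rcases card_normalizer hcard P with hN | hN
  · exact caseA_of hcard P hN e he he1 hNC
  · have hC : Nat.card (CP P) = 228 ∨ Nat.card (CP P) = 152 ∨ Nat.card (CP P) = 76 := by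
      rw [hN] at hNC
      have he18 : e ≤ 18 := Nat.le_of_dvd (by norm_num) he
      obtain ⟨m, hm⟩ := h19
      rw [hm] at hNC ⊢
      have : e * m = 24 := by nlinarith
      have hm24 : m ≤ 24 := Nat.le_of_dvd (by norm_num) ⟨e, by rw [← this]; ring⟩
      interval_cases e <;> simp_all <;> omega
    rcases hC with hC | hC | hC
    · obtain ⟨X, hXC, hXN, hX⟩ := Cfsg.Agent.Lib.Helper3.O459.exists_normal_228 hcard P hC
      rcases hX with h3 | h4
      · exact lemmaX hcard P hN X hXN (Or.inr h3)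
      · exact vArgument hcard P hN X h4 hXC hXN
    · obtain ⟨X, hXC, hXN, hX⟩ := Cfsg.Agent.Lib.Helper6.O459.exists_normal_of_central hcard P (Or.inl hC)
      rcases hX with ⟨_, h8⟩ | ⟨h76, _⟩
      · exact lemmaX hcard P hN X hXN (Or.inl h8)
      · omega
    · obtain ⟨X, hXC, hXN, hX⟩ := Cfsg.Agent.Lib.Helper6.O459.exists_normal_of_central hcard P (Or.inr hC)
      rcases hX with ⟨h152, _⟩ | ⟨_, h4⟩
      · omega
      · exact vArgument hcard P hN X h4 hXC hXN

end Cfsg.Agent.Lib.Helper8.O459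

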