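import Cfsg.Agent.Lib.Helper8.O459Defs

namespace Cfsg.Agent.Lib.Helper8.O459

variable {G : Type*} [Group G] [Finite G]

instance fact19 : Fact (Nat.Prime 19) := ⟨by norm_num⟩

/-- the divisors of `24192 = 2^7 * 3^3 * 7` that are `≡ 1 mod 19` -/
theorem dvd_24192_mod19 (i : ℕ) (h : i ∣ 24192) (h19 : i % 19 = 1) :
    i = 1 ∨ i = 96 ∨ i = 1008 := by
  have e : (24192 : ℕ) = 2 ^ 7 * (3 ^ 3 * 7) := by norm_num
  rw [e] at h
  obtain ⟨a, b, ha, hb, rfl⟩ := (Nat.dvd_mul).mp h
  obtain ⟨c, d, hc, hd, rfl⟩ := (Nat.dvd_mul).mp hb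
  obtain ⟨k, hk, rfl⟩ := (Nat.dvd_prime_pow Nat.prime_two).mp ha
  obtain ⟨l, hl, rfl⟩ := (Nat.dvd_prime_pow Nat.prime_three).mp hc
  have hd' : d = 1 ∨ d = 7 := (Nat.dvd_prime (by norm_num)).mp hd
  rcases hd' with rfl | rfl <;> interval_cases k <;> interval_cases l <;> simp at h19 ⊢

theorem card_sylow_of_card {T : Type*} [Group T] [Finite T] (p k m : ℕ) [Fact p.Prime]
    (hT : Nat.card T = p ^ k * m) (hm : ¬ p ∣ m) (S : Sylow p T) :
    Nat.card (S : Subgroup T) = p ^ k := by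
  have hp := (Fact.out : p.Prime)
  have h1 : Nat.card (S : Subgroup T) * (S : Subgroup T).index = p ^ k * m := by
    rw [Subgroup.card_mul_index, hT]
  have h2 : ¬ p ∣ (S : Subgroup T).index := S.not_dvd_index
  obtain ⟨l, hl⟩ := (IsPGroup.iff_card).1 S.isPGroup'
  rw [hl] at h1 ⊢
  have hc1 : Nat.Coprime (p ^ l) m := Nat.Coprime.pow_left l ((Nat.Prime.coprime_iff_not_dvd hp).2 hm)
  have hc2 : Nat.Coprime (p ^ k) (S : Subgroup T).index :=
    Nat.Coprime.pow_left k ((Nat.Prime.coprime_iff_not_dvd hp).2 h2)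
  have d1 : p ^ l ∣ p ^ k := hc1.dvd_of_dvd_mul_right (h1 ▸ Dvd.intro _ rfl)
  have d2 : p ^ k ∣ p ^ l := hc2.dvd_of_dvd_mul_right (h1.symm ▸ Dvd.intro _ rfl)
  exact Nat.dvd_antisymm d1 d2

theorem card_P (hcard : Nat.card G = 459648) (P : Sylow 19 G) :
    Nat.card (P : Subgroup G) = 19 := by
  have := card_sylow_of_card 19 1 24192 (by rw [hcard]; norm_num) (by norm_num) P
  simpa using this

omit [Finite G] in
theorem P_le_NP (P : Sylow 19 G) : (P : Subgroup G) ≤ NP P := Subgroup.le_normalizer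

omit [Finite G] in
theorem index_NP (hcard : Nat.card G = 459648) (P : Sylow 19 G) :
    (NP P).index * Nat.card (NP P) = 459648 := by
  rw [← hcard, mul_comm]; exact Subgroup.card_mul_index _

theorem index_NP_mod (P : Sylow 19 G) : (NP P).index % 19 = 1 := by
  have h := card_sylow_modEq_one 19 G
  rw [Sylow.card_eq_index_normalizer P] at h
  exact h

/-- P1 -/
theorem card_normalizer [IsSimpleGroup G] (hcard : Nat.card G = 459648) (P : Sylow 19 G) :
    Nat.card (NP P) = 4788 ∨ Nat.card (NP P) = 456 := by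
  have h1 := index_NP hcard P
  have h2 := index_NP_mod P
  have h3 : 19 ∣ Nat.card (NP P) := by
    rw [← card_P hcard P]; exact Subgroup.card_dvd_of_le (P_le_NP P)
  obtain ⟨m, hm⟩ := h3
  have h4 : (NP P).index * m = 24192 := by
    rw [hm] at h1; nlinarith
  have hidvd : (NP P).index ∣ 24192 := ⟨m, h4.symm⟩
  rcases dvd_24192_mod19 _ hidvd h2 with h | h | h
  · exfalso
    have htop : NP P = ⊤ := Subgroup.index_eq_one.mp h
    have hnorm : (P : Subgroup G).Normal := Subgroup.normalizer_eq_top_iff.mp htop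
    rcases hnorm.eq_bot_or_eq_top with hb | ht
    · have := card_P hcard P; rw [hb] at this; simp at this
    · have := card_P hcard P; rw [ht, Subgroup.card_top, hcard] at this; omega
  · left; rw [h] at h1; omega
  · right; rw [h] at h1; omega

end Cfsg.Agent.Lib.Helper8.O459
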