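import Mathlib
import Cfsg.Prelude
import Cfsg.Agent.Lib.Helper8.OMPDefs
import Cfsg.Agent.Lib.Helper8.MNDA2
import Cfsg.Agent.Lib.Helper7.OMPC1

set_option autoImplicit false
set_option linter.unusedSectionVars false
set_option linter.unusedVariables false
set_option linter.unusedSimpArgs false

/-!
Farm OMP (statement S2345), unit A: the commutator lemma.  If `B` is an alternating form of rank two
whose row `0` vanishes outside the column `1` (so `tvS t = 1 + t E₀₁` fixes `B`), then `lev (tvS t)`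
is a commutator of two elements of the stabiliser of the character `λ_B` of the Siegel radical
(`q ≥ 4` is used to find `δ` with `δ² ≠ 1`).
-/

namespace Cfsg.Agent.Lib.Helper8.OMP

open Matrix Cfsg Cfsg.Agent.Lib.Helper1.MND Cfsg.Agent.Lib.Helper7.OMP
open scoped commutatorElement

section rankone

variable {F : Type*} [Field F] {n : ℕ}

theorem rk_det (u w : Fin n → F) : (1 + vecMulVec u w).det = 1 + w ⬝ᵥ u := by
  rw [vecMulVec_eq Unit, det_one_add_replicateCol_mul_replicateRow]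

theorem vecMul_rk (v u w : Fin n → F) : v ᵥ* (1 + vecMulVec u w) = v + (v ⬝ᵥ u) • w := by
  rw [Matrix.vecMul_add, Matrix.vecMul_one, vecMul_vecMulVec]

theorem rk_mulVec (u w v : Fin n → F) : (1 + vecMulVec u w) *ᵥ v = v + (w ⬝ᵥ v) • u := by
  rw [Matrix.add_mulVec, Matrix.one_mulVec, vecMulVec_mulVec, op_smul_eq_smul]

theorem rk_mul_rk (u w w' : Fin n → F) (h : w ⬝ᵥ u = 0) :
    (1 + vecMulVec u w) * (1 + vecMulVec u w') = 1 + vecMulVec u (w' + w) := by
  rw [Matrix.mul_add, Matrix.mul_one, Matrix.add_mul, Matrix.one_mul, vecMulVec_mul_vecMulVec, h,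
    zero_smul, vecMulVec_zero, add_zero, vecMulVec_add]
  abel

theorem transvection_eq_rk (t : F) (i j : Fin n) :
    Matrix.transvection i j t = 1 + vecMulVec (Pi.single i 1) (t • Pi.single j 1) := by
  rw [Matrix.transvection, vecMulVec_smul, ← single_eq_single_vecMulVec_single]
  congr 1
  ext a b
  simp [Matrix.single_apply]

end rankone

section stab

variable {F : Type*} [Field F] [Fintype F] [DecidableEq F] {m : ℕ}

/-- `lev` of an element of `SL_n` fixing `B` is in `StabB B` -/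
theorem lev_mem_StabB (B : altAdd F (m + 3)) (h : SS (m + 3) F) (hh : actAlt h.1 B = B) :
    (lev h : OG m F) ∈ StabB B := by
  have hh' : actAlt (h⁻¹).1 B = B := by
    have h1 := actAlt_inv_actAlt h B
    rwa [hh] at h1
  refine ⟨conjAlt h, conjAlt h⁻¹, fun A => lev_conj_uQ h A, fun A => ?_, fun A => ?_, fun A => ?_⟩
  · have h1 := lev_conj_uQ (m := m) (h⁻¹) A
    rwa [map_inv, inv_inv] at h1
  · rw [conjAlt_coe, ← pairAlt_actAlt, hh]
  · rw [conjAlt_coe, ← pairAlt_actAlt, hh']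

/-- the abstract form of the commutator lemma -/
theorem key (B : altAdd F (m + 3)) (δ t : F) (hδ : δ ≠ 0) (α r β φ : Fin (m + 3) → F)
    (hαe : α 0 = 1) (hαr : α ⬝ᵥ r = 0) (hβe : β 0 = 0) (hβr : β ⬝ᵥ r = 1) (hφ : φ 0 = 0)
    (hd : actAlt ((1 + vecMulVec ((δ - 1) • Pi.single 0 1) α) *
      (1 + vecMulVec ((δ⁻¹ - 1) • r) β)) B = B)
    (hT : actAlt (1 + vecMulVec (Pi.single 0 1) φ) B = B)
    (hrel : (φ + t • Pi.single 1 1) ᵥ* ((1 + vecMulVec ((δ - 1) • Pi.single 0 1) α) *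
      (1 + vecMulVec ((δ⁻¹ - 1) • r) β)) = δ • φ) :
    (lev (tvS t) : OG m F) ∈ ⁅StabB B, StabB B⁆ := by
  obtain ⟨e, he⟩ : ∃ e : Fin (m + 3) → F, e = Pi.single 0 1 := ⟨_, rfl⟩
  obtain ⟨P, hP⟩ : ∃ P : Matrix (Fin (m + 3)) (Fin (m + 3)) F,
    P = 1 + vecMulVec ((δ - 1) • e) α := ⟨_, rfl⟩
  obtain ⟨R, hR⟩ : ∃ R : Matrix (Fin (m + 3)) (Fin (m + 3)) F,
    R = 1 + vecMulVec ((δ⁻¹ - 1) • r) β := ⟨_, rfl⟩
  rw [← he] at hd hT hrel
  rw [← hP, ← hR] at hd hrel
  have hdet : (P * R).det = 1 := by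
    rw [det_mul, hP, hR, rk_det, rk_det, dotProduct_smul, dotProduct_smul, hβr, he,
      dotProduct_single, hαe]
    simp only [smul_eq_mul, mul_one]
    field_simp
    ring
  have hTdet : (1 + vecMulVec e φ).det = 1 := by
    rw [rk_det, he, dotProduct_single, hφ, zero_mul, add_zero]
  have hde : (P * R) *ᵥ e = δ • e := by
    rw [← mulVec_mulVec, hR, rk_mulVec, he, dotProduct_single, hβe, zero_mul, zero_smul, add_zero,
      hP, rk_mulVec, he, dotProduct_single, hαe]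
    ext i
    simp only [Pi.add_apply, Pi.smul_apply, smul_eq_mul]
    ring
  obtain ⟨dS, hdS⟩ : ∃ dS : SS (m + 3) F, dS.1 = P * R := ⟨⟨P * R, hdet⟩, rfl⟩
  obtain ⟨τS, hτS⟩ : ∃ τS : SS (m + 3) F, τS.1 = 1 + vecMulVec e φ :=
    ⟨⟨1 + vecMulVec e φ, hTdet⟩, rfl⟩
  rw [← hdS] at hd
  rw [← hτS] at hT
  have hcomm : dS * τS = tvS t * τS * dS := by
    apply Subtype.ext
    rw [Matrix.SpecialLinearGroup.coe_mul, Matrix.SpecialLinearGroup.coe_mul,
      Matrix.SpecialLinearGroup.coe_mul, hdS, hτS]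
    show P * R * (1 + vecMulVec e φ) =
      Matrix.transvection 0 1 t * (1 + vecMulVec e φ) * (P * R)
    rw [transvection_eq_rk, ← he, rk_mul_rk _ _ _ (by
      rw [he, smul_dotProduct, single_dotProduct, Pi.single_apply, if_neg (by simp)]
      simp)]
    rw [Matrix.mul_add, Matrix.mul_one, Matrix.add_mul, Matrix.one_mul, mul_vecMulVec, hde,
      vecMulVec_mul, hrel, smul_vecMulVec, vecMulVec_smul]
  have hc := Cfsg.Agent.Lib.Helper8.MND.comm_eq_of_mul_eq _ _ _ hcomm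
  rw [← hc, map_commutatorElement]
  exact Subgroup.commutator_mem_commutator (lev_mem_StabB B _ hd) (lev_mem_StabB B _ hT)

theorem actAlt_rk_wedge (u w x y : Fin (m + 3) → F) :
    actAlt (1 + vecMulVec u w) (wedge x y) =
      wedge (x + (x ⬝ᵥ u) • w) (y + (y ⬝ᵥ u) • w) := by
  rw [actAlt_wedge, mulVec_transpose, mulVec_transpose, vecMul_rk, vecMul_rk]

theorem exists_r (hm : 1 ≤ m) (x y : Fin (m + 3) → F) :
    ∃ r : Fin (m + 3) → F, r ≠ 0 ∧ x ⬝ᵥ r = 0 ∧ y ⬝ᵥ r = 0 ∧ r 0 = 0 := by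
  obtain ⟨M, hM⟩ : ∃ M : Matrix (Fin 3) (Fin (m + 3)) F,
    M = Matrix.of ![x, y, Pi.single 0 1] := ⟨_, rfl⟩
  have hker : LinearMap.ker M.mulVecLin ≠ ⊥ := by
    apply LinearMap.ker_ne_bot_of_finrank_lt
    rw [Module.finrank_fin_fun, Module.finrank_fin_fun]
    omega
  obtain ⟨r, hr, hr0⟩ := Submodule.exists_mem_ne_zero_of_ne_bot hker
  rw [LinearMap.mem_ker, Matrix.mulVecLin_apply] at hr
  refine ⟨r, hr0, ?_, ?_, ?_⟩
  · have h := congrFun hr 0
    rw [hM] at h
    simpa [Matrix.mulVec] using h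
  · have h := congrFun hr 1
    rw [hM] at h
    simpa [Matrix.mulVec] using h
  · have h := congrFun hr 2
    rw [hM] at h
    simpa [Matrix.mulVec] using h

theorem fin_one_ne_zero3 : (1 : Fin (m + 3)) ≠ 0 := by
  intro h
  have := congrArg Fin.val h
  simp at this

theorem case2 (hm : 1 ≤ m) (x y : Fin (m + 3) → F) (hx0 : x 0 = 0) (hy0 : y 0 = 0) (δ : F)
    (hδ0 : δ ≠ 0) (hδ : δ ^ 2 ≠ 1) (t : F) :
    (lev (tvS t) : OG m F) ∈ ⁅StabB (wedge x y), StabB (wedge x y)⁆ := by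
  obtain ⟨r, hr0, hxr, hyr, hr00⟩ := exists_r hm x y
  obtain ⟨j, hj⟩ : ∃ j, r j ≠ 0 := by
    by_contra hcon
    push Not at hcon
    exact hr0 (funext hcon)
  have hj0 : j ≠ 0 := by
    rintro rfl
    exact hj hr00
  have h10 : (1 : Fin (m + 3)) ≠ 0 := fin_one_ne_zero3
  have hd1 : δ - 1 ≠ 0 := by
    intro h
    apply hδ
    rw [sub_eq_zero.mp h, one_pow]
  have hd2 : 1 + δ ≠ 0 := by
    intro h
    apply hδ
    have : δ = -1 := by linear_combination h
    rw [this]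
    ring
  obtain ⟨a, ha⟩ : ∃ a : F, a = t / (δ - 1) := ⟨_, rfl⟩
  obtain ⟨b, hb⟩ : ∃ b : F, b = -(δ * a * r 1) / (1 + δ) := ⟨_, rfl⟩
  obtain ⟨β, hβ⟩ : ∃ β : Fin (m + 3) → F, β = Pi.single j (r j)⁻¹ := ⟨_, rfl⟩
  have hβ0 : β 0 = 0 := by rw [hβ, Pi.single_eq_of_ne hj0.symm]
  have hβr : β ⬝ᵥ r = 1 := by rw [hβ, single_dotProduct, inv_mul_cancel₀ hj]
  have hxe : ∀ s : F, x ⬝ᵥ (s • Pi.single 0 1) = 0 := by
    intro s
    rw [dotProduct_smul, dotProduct_single, hx0, zero_mul, smul_zero]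
  have hye : ∀ s : F, y ⬝ᵥ (s • Pi.single 0 1) = 0 := by
    intro s
    rw [dotProduct_smul, dotProduct_single, hy0, zero_mul, smul_zero]
  have hφ0 : (a • Pi.single 1 1 + b • β : Fin (m + 3) → F) 0 = 0 := by
    rw [Pi.add_apply, Pi.smul_apply, Pi.smul_apply, hβ0, Pi.single_eq_of_ne h10.symm, smul_zero,
      smul_zero, add_zero]
  apply key (wedge x y) δ t hδ0 (Pi.single 0 1) r β (a • Pi.single 1 1 + b • β)
    (Pi.single_eq_same _ _) (by rw [single_dotProduct, hr00, mul_zero]) hβ0 hβr hφ0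
  · rw [actAlt_mul, actAlt_rk_wedge, hxe, hye, zero_smul, add_zero, add_zero, actAlt_rk_wedge,
      dotProduct_smul, dotProduct_smul, hxr, hyr, smul_zero, zero_smul, add_zero, add_zero]
  · have h1 := hxe 1
    have h2 := hye 1
    rw [one_smul] at h1 h2
    rw [actAlt_rk_wedge, h1, h2, zero_smul, add_zero, add_zero]
  · rw [← vecMul_vecMul, vecMul_rk, vecMul_rk]
    have e1 : (a • Pi.single 1 1 + b • β + t • Pi.single 1 1 : Fin (m + 3) → F) ⬝ᵥ
        ((δ - 1) • Pi.single 0 1) = 0 := by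
      rw [dotProduct_smul, dotProduct_single, Pi.add_apply, hφ0, Pi.smul_apply,
        Pi.single_eq_of_ne h10.symm]
      simp
    rw [e1, zero_smul, add_zero]
    have e2 : (a • Pi.single 1 1 + b • β + t • Pi.single 1 1 : Fin (m + 3) → F) ⬝ᵥ
        ((δ⁻¹ - 1) • r) = (δ⁻¹ - 1) * ((a + t) * r 1 + b) := by
      rw [dotProduct_smul, add_dotProduct, add_dotProduct, smul_dotProduct, smul_dotProduct,
        smul_dotProduct, hβr, single_dotProduct]
      simp only [smul_eq_mul]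
      ring
    rw [e2]
    ext i
    simp only [Pi.add_apply, Pi.smul_apply, smul_eq_mul]
    rw [hb, ha]
    field_simp
    ring

theorem case1 (w : Fin (m + 3) → F) (c : F) (hc : c ≠ 0) (hw0 : w 0 = -c) (hw1 : w 1 = 0) (δ : F)
    (hδ0 : δ ≠ 0) (hδ : δ ^ 2 ≠ 1) (t : F) :
    (lev (tvS t) : OG m F) ∈
      ⁅StabB (wedge (Pi.single 1 1) w), StabB (wedge (Pi.single 1 1) w)⁆ := by
  have h10 : (1 : Fin (m + 3)) ≠ 0 := fin_one_ne_zero3
  have hd3 : δ ^ 2 - 1 ≠ 0 := fun h => hδ (sub_eq_zero.mp h)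
  obtain ⟨e1, he1⟩ : ∃ e1 : Fin (m + 3) → F, e1 = Pi.single 1 1 := ⟨_, rfl⟩
  have he10 : e1 0 = 0 := by rw [he1, Pi.single_eq_of_ne h10.symm]
  have he11 : e1 ⬝ᵥ e1 = 1 := by rw [he1, single_dotProduct, Pi.single_eq_same, mul_one]
  have hwe1 : w ⬝ᵥ e1 = 0 := by rw [he1, dotProduct_single, hw1, zero_mul]
  obtain ⟨t', ht'⟩ : ∃ t' : F, t' = t / (δ ^ 2 - 1) := ⟨_, rfl⟩
  rw [← he1]
  have hP : actAlt (1 + vecMulVec ((δ - 1) • Pi.single 0 1) ((-c⁻¹) • w)) (wedge e1 w) =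
      wedge e1 (δ • w) := by
    rw [actAlt_rk_wedge]
    congr 1
    · rw [dotProduct_smul, dotProduct_single, he10, zero_mul, smul_zero, zero_smul, add_zero]
    · rw [dotProduct_smul, dotProduct_single, hw0]
      ext i
      simp only [Pi.add_apply, Pi.smul_apply, smul_eq_mul]
      field_simp
      ring
  have hR : actAlt (1 + vecMulVec ((δ⁻¹ - 1) • e1) e1) (wedge e1 (δ • w)) = wedge e1 w := by
    rw [actAlt_rk_wedge, dotProduct_smul, dotProduct_smul, smul_dotProduct, hwe1, he11]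
    apply Subtype.ext
    ext i j
    rw [wedge_apply, wedge_apply]
    simp only [Pi.add_apply, Pi.smul_apply, smul_eq_mul]
    field_simp
    ring
  apply key (wedge e1 w) δ t hδ0 ((-c⁻¹) • w) e1 e1 (t' • e1)
    (by rw [Pi.smul_apply, hw0, smul_eq_mul]; field_simp)
    (by rw [smul_dotProduct, hwe1, smul_zero]) he10 he11
    (by rw [Pi.smul_apply, he10, smul_zero])
  · rw [actAlt_mul, hP, hR]
  · rw [actAlt_rk_wedge, dotProduct_single, dotProduct_single, he10, hw0]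
    apply Subtype.ext
    ext i j
    rw [wedge_apply, wedge_apply]
    simp only [Pi.add_apply, Pi.smul_apply, smul_eq_mul]
    ring
  · rw [← vecMul_vecMul, vecMul_rk, vecMul_rk, ← he1]
    have e1' : (t' • e1 + t • e1 : Fin (m + 3) → F) ⬝ᵥ ((δ - 1) • Pi.single 0 1) = 0 := by
      rw [dotProduct_smul, dotProduct_single, Pi.add_apply, Pi.smul_apply, Pi.smul_apply, he10]
      simp
    rw [e1', zero_smul, add_zero]
    have e2 : (t' • e1 + t • e1 : Fin (m + 3) → F) ⬝ᵥ ((δ⁻¹ - 1) • e1) =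
        (δ⁻¹ - 1) * (t' + t) := by
      rw [dotProduct_smul, add_dotProduct, smul_dotProduct, smul_dotProduct, he11]
      simp only [smul_eq_mul]
      ring
    rw [e2]
    ext i
    simp only [Pi.add_apply, Pi.smul_apply, smul_eq_mul]
    rw [ht']
    field_simp
    ring

/-- **Unit A** -/
theorem lev_tvS_mem_commutator (hm : 1 ≤ m) (hq : 4 ≤ Fintype.card F) (B : altAdd F (m + 3))
    (hB : IsR2 B) (hfix : ∀ j, j ≠ 1 → B.1 0 j = 0) (t : F) :
    (lev (tvS t) : OG m F) ∈ ⁅StabB B, StabB B⁆ := by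
  obtain ⟨δ, hδ0, hδ⟩ := Cfsg.Agent.Lib.Helper8.MND.exists_delta (F := F) 2 (by
    intro h
    have := Nat.le_of_dvd (by norm_num) h
    omega)
  by_cases hc : B.1 0 1 = 0
  · have hrow : ∀ j, B.1 0 j = 0 := by
      intro j
      by_cases hj : j = 1
      · rw [hj, hc]
      · exact hfix j hj
    obtain ⟨g, hg⟩ := hB
    rw [actAlt_E01_eq_wedge] at hg
    have hR2 : IsR2 (wedge (g.1 0) (g.1 1)) := by
      rw [← actAlt_E01_eq_wedge]
      exact ⟨g, rfl⟩
    have hind := indep_of_isR2_wedge _ _ hR2 (-(g.1 1 0)) (g.1 0 0) (by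
      ext j
      have h := hrow j
      rw [hg, wedge_apply] at h
      simp only [Pi.add_apply, Pi.smul_apply, smul_eq_mul, Pi.zero_apply]
      linear_combination h)
    rw [hg]
    exact case2 hm _ _ hind.2 (neg_eq_zero.mp hind.1) δ hδ0 hδ t
  · have hBw : B = wedge (Pi.single 1 1) (fun j => B.1 1 j) := by
      apply Subtype.ext
      ext i j
      rw [wedge_apply]
      have hp := plucker_R2 B hB i j
      apply mul_left_cancel₀ hc
      rw [hp]
      by_cases hi : i = 1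
      · by_cases hj : j = 1
        · rw [hi, hj]
          simp
        · rw [hi, hfix j hj, Pi.single_eq_same, Pi.single_eq_of_ne hj]
          ring
      · by_cases hj : j = 1
        · rw [hj, hfix i hi, Pi.single_eq_same, Pi.single_eq_of_ne hi]
          ring
        · rw [hfix i hi, hfix j hj, Pi.single_eq_of_ne hi, Pi.single_eq_of_ne hj]
          ring
    rw [hBw]
    refine case1 _ (B.1 0 1) hc ?_ (altAdd_diag B 1) δ hδ0 hδ t
    exact altAdd_skew B 0 1

end stab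

end Cfsg.Agent.Lib.Helper8.OMP
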