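import Mathlib
import Cfsg.Agent.Lib.Helper1.MNDE
import Cfsg.Agent.Lib.Helper8.OMPAlt

set_option autoImplicit false
set_option linter.unusedSectionVars false
set_option linter.unusedVariables false

/-!
Farm OMP (S2345): the arithmetic.
-/

namespace Cfsg.Agent.Lib.Helper8.OMP

open Cfsg.Agent.Lib.Helper1.MND

theorem one_le_pow' (q j : ℕ) (hq : 2 ≤ q) : 1 ≤ q ^ j := Nat.one_le_pow _ _ (by omega)

theorem tau_mul (q j : ℕ) (hq : 2 ≤ q) : (tauNum q j + 1) * (q - 1) = q ^ (j + 1) - 1 := by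
  rw [tauNum_succ q j hq, sNum_mul q (j + 1) hq]

theorem bnd_aux (q m N2 : ℕ) (hq : 2 ≤ q)
    (hN2 : N2 * (q ^ 2 - 1) = (q ^ (m + 3) - 1) * (q ^ (m + 2) - 1)) :
    (q ^ (m + 3) - 1) * (q ^ (m + 2) + q) = (N2 + tauNum q (m + 2) + 1) * (q ^ 2 - 1) := by
  have h1 := one_le_pow' q (m + 3) hq
  have h2 := one_le_pow' q (m + 2) hq
  have h3 := one_le_pow' q 2 hq
  have ht := tau_mul q (m + 2) hq
  have hq1 : 1 ≤ q := by omega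
  zify [h1, h2, h3, hq1] at hN2 ht ⊢
  calc ((q : ℤ) ^ (m + 3) - 1) * ((q : ℤ) ^ (m + 2) + q)
      = ((q : ℤ) ^ (m + 3) - 1) * ((q : ℤ) ^ (m + 2) - 1) +
        ((q : ℤ) ^ (m + 2 + 1) - 1) * ((q : ℤ) + 1) := by ring
    _ = (N2 : ℤ) * ((q : ℤ) ^ 2 - 1) + ((tauNum q (m + 2) : ℤ) + 1) * ((q : ℤ) - 1) * ((q : ℤ) + 1) := by
        rw [hN2, ht]
    _ = ((N2 : ℤ) + (tauNum q (m + 2) : ℤ) + 1) * ((q : ℤ) ^ 2 - 1) := by ring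

theorem sq_sub_one_pos (q : ℕ) (hq : 2 ≤ q) : 0 < q ^ 2 - 1 := by
  have : 4 ≤ q ^ 2 := by nlinarith
  omega

/-- `bound = r2 + τ + 1` -/
theorem bnd_eq (q m N2 : ℕ) (hq : 2 ≤ q)
    (hN2 : N2 * (q ^ 2 - 1) = (q ^ (m + 3) - 1) * (q ^ (m + 2) - 1)) :
    bnd q m = N2 + tauNum q (m + 2) + 1 := by
  unfold bnd
  exact Nat.div_eq_of_eq_mul_left (sq_sub_one_pos q hq) (bnd_aux q m N2 hq hN2)

theorem bnd_mul (q m N2 : ℕ) (hq : 2 ≤ q)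
    (hN2 : N2 * (q ^ 2 - 1) = (q ^ (m + 3) - 1) * (q ^ (m + 2) - 1)) :
    bnd q m * (q ^ 2 - 1) = (q ^ (m + 3) - 1) * (q ^ (m + 2) + q) := by
  rw [bnd_eq q m N2 hq hN2, bnd_aux q m N2 hq hN2]

/-- multiplicity two on the forms of rank two is enough -/
theorem two_r2_ge (q m N2 : ℕ) (hq : 2 ≤ q)
    (hN2 : N2 * (q ^ 2 - 1) = (q ^ (m + 3) - 1) * (q ^ (m + 2) - 1)) :
    (q ^ (m + 3) - 1) * (q ^ (m + 2) + q) ≤ (q ^ 2 - 1) * (2 * N2) := by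
  have h2 := one_le_pow' q (m + 2) hq
  have h5 : q ^ 2 ≤ q ^ (m + 2) := Nat.pow_le_pow_right (by omega) (by omega)
  have h6 : q + 2 ≤ q ^ 2 := by nlinarith
  have h7 : q ^ (m + 2) + q ≤ 2 * (q ^ (m + 2) - 1) := by omega
  calc (q ^ (m + 3) - 1) * (q ^ (m + 2) + q)
      ≤ (q ^ (m + 3) - 1) * (2 * (q ^ (m + 2) - 1)) := Nat.mul_le_mul_left _ h7
    _ = 2 * ((q ^ (m + 3) - 1) * (q ^ (m + 2) - 1)) := by ring
    _ = 2 * (N2 * (q ^ 2 - 1)) := by rw [hN2]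
    _ = (q ^ 2 - 1) * (2 * N2) := by ring

/-- the integrality contradiction for degree `bound - 1` -/
theorem int_arith (q m k N : ℕ) (hq : 2 ≤ q) (hm : 1 ≤ m)
    (hk : (k + 1) * (q ^ 2 - 1) = (q ^ (m + 3) - 1) * (q ^ (m + 2) + q))
    (hN : N * (q ^ 2 - 1) = (q ^ (m + 3) - 1) * (q ^ (m + 2) + 1) * (q ^ (m + 2) - 1) *
      (q ^ (m + 1) + 1))
    (hdvd : (k : ℤ) ∣ (N : ℤ) * ((k : ℤ) - (q : ℤ) ^ (2 * m + 3))) : False := by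
  have h1 := one_le_pow' q (m + 3) hq
  have h2 := one_le_pow' q (m + 2) hq
  have h3 := one_le_pow' q 2 hq
  have hq1 : 1 ≤ q := by omega
  zify [h1, h2, h3] at hk hN
  set Q : ℤ := (q : ℤ) with hQ
  have hQ2 : (2 : ℤ) ≤ Q := by rw [hQ]; exact_mod_cast hq
  set K : ℤ := (k : ℤ) with hK
  set M : ℤ := (N : ℤ) with hM
  have hK0 : 0 ≤ K := by rw [hK]; positivity
  have hQpos : ∀ j : ℕ, (1 : ℤ) ≤ Q ^ j := fun j => one_le_pow₀ (by linarith)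
  -- `K ∣ M Q^(2m+3)`
  have hd1 : K ∣ M * Q ^ (2 * m + 3) := by
    have : M * Q ^ (2 * m + 3) = M * K - M * (K - Q ^ (2 * m + 3)) := by ring
    rw [this]
    exact dvd_sub (Dvd.intro_left M rfl) hdvd
  -- `K + 1 = Q E`
  have hE : (K + 1) * (Q ^ 2 - 1) = Q * ((Q ^ (m + 3) - 1) * (Q ^ (m + 1) + 1)) := by
    rw [hk]; ring
  -- `Q` and `K` are coprime
  have hcopQ : IsCoprime K Q := by
    have hc1 : IsCoprime (Q ^ 2 - 1) Q := ⟨-1, Q, by ring⟩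
    have hdq : Q ∣ (K + 1) * (Q ^ 2 - 1) := ⟨_, hE⟩
    have hdq' : Q ∣ K + 1 := hc1.symm.dvd_of_dvd_mul_right hdq
    obtain ⟨c, hc⟩ := hdq'
    exact ⟨-1, c, by linarith⟩
  have hd2 : K ∣ M := (hcopQ.pow_right (n := 2 * m + 3)).dvd_of_dvd_mul_right hd1
  -- `Q M = (K + 1) (Q^(2m+4) - 1)`
  have hQM : Q * M = (K + 1) * (Q ^ (2 * m + 4) - 1) := by
    have hne : (Q ^ 2 - 1) ≠ 0 := by nlinarith
    apply mul_right_cancel₀ hne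
    have e1 : Q * M * (Q ^ 2 - 1) = Q * (M * (Q ^ 2 - 1)) := by ring
    rw [e1, hN]
    have e2 : (K + 1) * (Q ^ (2 * m + 4) - 1) * (Q ^ 2 - 1) =
        (K + 1) * (Q ^ 2 - 1) * (Q ^ (2 * m + 4) - 1) := by ring
    rw [e2, hE]
    ring
  have hd3 : K ∣ Q ^ (2 * m + 4) - 1 := by
    have hcop : IsCoprime K (K + 1) := ⟨-1, 1, by ring⟩
    have : K ∣ (K + 1) * (Q ^ (2 * m + 4) - 1) := by
      rw [← hQM]
      exact Dvd.dvd.mul_left hd2 Q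
    exact hcop.dvd_of_dvd_mul_left this
  -- `K ∣ (Q^2 - 1)(Q^(m+2) - 1)`
  have hkey : (Q ^ 2 - 1) * K - Q * (Q ^ (2 * m + 4) - 1) = (Q ^ 2 - 1) * (Q ^ (m + 2) - 1) := by
    have : (Q ^ 2 - 1) * K = (K + 1) * (Q ^ 2 - 1) - (Q ^ 2 - 1) := by ring
    rw [this, hk]
    ring
  have hd4 : K ∣ (Q ^ 2 - 1) * (Q ^ (m + 2) - 1) := by
    rw [← hkey]
    exact dvd_sub (Dvd.intro_left _ rfl) (Dvd.dvd.mul_left hd3 Q)
  -- size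
  have hpos : 0 < (Q ^ 2 - 1) * (Q ^ (m + 2) - 1) := by
    have ha : 0 < Q ^ 2 - 1 := by nlinarith
    have hb : Q ^ 2 ≤ Q ^ (m + 2) := pow_le_pow_right₀ (by linarith) (by omega)
    have hb' : 0 < Q ^ (m + 2) - 1 := by nlinarith
    positivity
  have hle := Int.le_of_dvd hpos hd4
  -- `(Q^2-1)^2 (Q^(m+2)-1) < (Q^2-1) K`
  have hbig : (Q ^ 2 - 1) * ((Q ^ 2 - 1) * (Q ^ (m + 2) - 1)) < (Q ^ 2 - 1) * K := by
    have e3 : (Q ^ 2 - 1) * K = Q ^ (2 * m + 5) + Q ^ (m + 4) - Q ^ (m + 2) - Q - Q ^ 2 + 1 := by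
      have : (Q ^ 2 - 1) * K = (K + 1) * (Q ^ 2 - 1) - (Q ^ 2 - 1) := by ring
      rw [this, hk]
      ring
    rw [e3]
    have e4 : (Q ^ 2 - 1) * ((Q ^ 2 - 1) * (Q ^ (m + 2) - 1)) =
        Q ^ (m + 6) - 2 * Q ^ (m + 4) + Q ^ (m + 2) - Q ^ 4 + 2 * Q ^ 2 - 1 := by ring
    rw [e4]
    have h6 : Q ^ (m + 6) ≤ Q ^ (2 * m + 5) := pow_le_pow_right₀ (by linarith) (by omega)
    have h7 : Q ^ 2 ≤ Q ^ (m + 2) := pow_le_pow_right₀ (by linarith) (by omega)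
    have h8 : Q ^ 4 ≤ Q ^ (m + 4) := pow_le_pow_right₀ (by linarith) (by omega)
    have h9 : Q ^ 2 * 2 ≤ Q ^ 4 := by nlinarith [hQpos 2]
    have h10 : Q ≤ Q ^ 2 := by nlinarith
    have h11 : Q ^ (m + 2) ≤ Q ^ (m + 4) := pow_le_pow_right₀ (by linarith) (by omega)
    have h12 : 4 * Q ^ 2 ≤ Q ^ 4 := by nlinarith [hQpos 2]
    have h13 := hQpos (m + 2)
    linarith
  have ha : 0 < Q ^ 2 - 1 := by nlinarith
  have := lt_of_mul_lt_mul_left hbig ha.le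
  linarith

end Cfsg.Agent.Lib.Helper8.OMP
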