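import Mathlib
import Cfsg.Prelude.Def_Characters
import Cfsg.Agent.Lib.Helper8.OMPDefs
import Cfsg.Agent.Lib.Helper8.SLB1
import Cfsg.Agent.Lib.Helper8.MNDD1

set_option autoImplicit false
set_option linter.unusedSectionVars false
set_option linter.unusedVariables false

/-!
Farm OMP (S2345), unit D: `isCharacter_res0` - the fixed points of the Siegel radical `Q` as a
representation of `SL_(m+3)` (deflation along the normal subgroup `Q` of its normaliser, restricted
to `lev`).  Port of `MNDD1`.
-/

namespace Cfsg.Agent.Lib.Helper8.OMP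

open Matrix Cfsg Cfsg.Agent.Lib.Helper8.MND
open Cfsg.Agent.Lib.Helper1.MND hiding res0

variable {F : Type*} [Field F] [Fintype F] [DecidableEq F] {m k : ℕ}

/-- the Siegel radical as a homomorphism -/
def uQHom (m : ℕ) (F : Type*) [Field F] : Multiplicative (altAdd F (m + 3)) →* OG m F where
  toFun A := uQ (Multiplicative.toAdd A)
  map_one' := uQ_zero
  map_mul' A A' := uQ_add _ _

theorem conjAlt_mul (g h : SS (m + 3) F) (A : altAdd F (m + 3)) :
    conjAlt (g * h) A = conjAlt g (conjAlt h A) := by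
  apply Subtype.ext
  rw [conjAlt_coe, conjAlt_coe, conjAlt_coe, Matrix.SpecialLinearGroup.coe_mul, transpose_mul]
  simp only [Matrix.mul_assoc]

theorem conjAlt_one (A : altAdd F (m + 3)) : conjAlt (1 : SS (m + 3) F) A = A := by
  apply Subtype.ext
  rw [conjAlt_coe]
  simp

theorem lev_mem_normalizer (g : SS (m + 3) F) :
    (lev g : OG m F) ∈ Subgroup.normalizer ((uQHom m F).range : Set (OG m F)) := by
  rw [Subgroup.mem_normalizer_iff]
  intro h
  constructor
  · rintro ⟨A, rfl⟩
    exact ⟨Multiplicative.ofAdd (conjAlt g (Multiplicative.toAdd A)), (lev_conj_uQ g _).symm⟩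
  · rintro ⟨A, hA⟩
    refine ⟨Multiplicative.ofAdd (conjAlt g⁻¹ (Multiplicative.toAdd A)), ?_⟩
    have h1 : h = (lev g)⁻¹ * uQ (Multiplicative.toAdd A) * lev g := by
      have : uQ (Multiplicative.toAdd A) = lev g * h * (lev g)⁻¹ := hA
      rw [this]
      group
    rw [h1]
    show uQ (conjAlt g⁻¹ (Multiplicative.toAdd A)) = _
    rw [← lev_conj_uQ, map_inv, inv_inv]

theorem isCharacter_res0 (ρ : Representation ℂ (OG m F) (Fin k → ℂ)) :
    IsCharacter (SS (m + 3) F) (OMP.res0 ρ.character) := by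
  classical
  let Vs : Subgroup (OG m F) := (uQHom m F).range
  let K : Subgroup (OG m F) := Subgroup.normalizer (Vs : Set (OG m F))
  let N : Subgroup K := Vs.subgroupOf K
  have hN : N.Normal := Subgroup.normal_in_normalizer
  have : Fintype N := Fintype.ofFinite N
  have h1 : IsCharacter K (fun x : K => ρ.character (x : OG m F)) :=
    isCharacter_comp_hom K.subtype ⟨k, ρ, rfl⟩
  have h2 := Cfsg.Agent.Lib.Helper8.SLB.isCharacter_deflate N h1
  let φ : SS (m + 3) F →* K := (lev (F := F) (m := m)).codRestrict K lev_mem_normalizer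
  have h3 := isCharacter_comp_hom φ h2
  have hmemV : ∀ A : altAdd F (m + 3), uQ A ∈ Vs := fun A => ⟨Multiplicative.ofAdd A, rfl⟩
  have hmemK : ∀ A : altAdd F (m + 3), uQ A ∈ K := fun A => Subgroup.le_normalizer (hmemV A)
  let e : altAdd F (m + 3) ≃ N := Equiv.ofBijective
    (fun A => ⟨⟨uQ A, hmemK A⟩, by
      show (⟨uQ A, hmemK A⟩ : K) ∈ Vs.subgroupOf K
      rw [Subgroup.mem_subgroupOf]
      exact hmemV A⟩) (by
    constructor
    · intro A A' h
      apply uQ_injective
      exact congrArg (fun x : N => ((x : K) : OG m F)) h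
    · rintro ⟨⟨x, hxK⟩, hx⟩
      rw [Subgroup.mem_subgroupOf] at hx
      obtain ⟨A, hA⟩ := hx
      refine ⟨Multiplicative.toAdd A, ?_⟩
      apply Subtype.ext
      apply Subtype.ext
      exact hA)
  have hcard : Nat.card N = Fintype.card (altAdd F (m + 3)) := by
    rw [← Nat.card_congr e, Nat.card_eq_fintype_card]
  convert h3 using 1
  funext g
  show OMP.res0 ρ.character g = Cfsg.Agent.Lib.Helper8.SLB.deflate N _ (φ g)
  unfold OMP.res0 Cfsg.Agent.Lib.Helper8.SLB.deflate
  rw [hcard]
  congr 1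
  exact Fintype.sum_equiv e _ _ (fun A => rfl)

end Cfsg.Agent.Lib.Helper8.OMP
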