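import Mathlib
import Cfsg.Prelude
import Cfsg.Agent.Lib.Helper4.SLCard
import Cfsg.Agent.Lib.Helper5.QuadStd
import Cfsg.Agent.Lib.Helper5.OMPI3Defs

set_option autoImplicit false
set_option linter.unusedSectionVars false
set_option linter.unusedVariables false
set_option linter.unusedSimpArgs false

/-!
Farm OMP (statement S2345), counting part of unit I3, second slice: the fibres of
`(a, b) ↦ a bᵀ - b aᵀ` on the totally singular independent pairs are free `SL₂`-orbits, hence have
`q (q² - 1)` elements.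
-/

namespace Cfsg.Agent.Lib.Helper8.OMP

open Matrix QuadraticMap Cfsg Cfsg.Agent.Lib.Helper5

section wedge

variable {ι : Type*} {F : Type*} [Field F]

/-- `a bᵀ - b aᵀ` -/
def wedgeM (p : (ι → F) × (ι → F)) : Matrix ι ι F := vecMulVec p.1 p.2 - vecMulVec p.2 p.1

theorem wedgeM_apply (p : (ι → F) × (ι → F)) (i j : ι) :
    wedgeM p i j = p.1 i * p.2 j - p.2 i * p.1 j := by
  rw [wedgeM, Matrix.sub_apply, vecMulVec_apply, vecMulVec_apply]

/-- the action of `2 × 2` matrices on pairs of vectors -/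
def actP (p : (ι → F) × (ι → F)) (h : Matrix (Fin 2) (Fin 2) F) : (ι → F) × (ι → F) :=
  (h 0 0 • p.1 + h 1 0 • p.2, h 0 1 • p.1 + h 1 1 • p.2)

theorem wedgeM_actP (p : (ι → F) × (ι → F)) (h : Matrix (Fin 2) (Fin 2) F) :
    wedgeM (actP p h) = h.det • wedgeM p := by
  ext i j
  rw [Matrix.smul_apply, wedgeM_apply, wedgeM_apply, Matrix.det_fin_two]
  simp only [actP, Pi.add_apply, Pi.smul_apply, smul_eq_mul]
  ring

/-- independence of a pair -/
def Indep (p : (ι → F) × (ι → F)) : Prop := ∀ s t : F, s • p.1 + t • p.2 = 0 → s = 0 ∧ t = 0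

theorem exists_wedgeM_ne_zero (p : (ι → F) × (ι → F)) (hp : Indep p) :
    ∃ i j, wedgeM p i j ≠ 0 := by
  by_contra hcon
  push Not at hcon
  have ha : p.1 ≠ 0 := by
    intro h
    have h1 := hp 1 0 (by rw [h, smul_zero, zero_smul, add_zero])
    exact one_ne_zero h1.1
  obtain ⟨i, hi⟩ : ∃ i, p.1 i ≠ 0 := by
    by_contra h
    push Not at h
    exact ha (funext h)
  have h1 := hp (-(p.2 i)) (p.1 i) (by
    ext j
    have h2 := hcon i j
    rw [wedgeM_apply] at h2
    simp only [Pi.add_apply, Pi.smul_apply, smul_eq_mul, Pi.zero_apply]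
    linear_combination h2)
  exact hi h1.2

/-- two independent pairs with the same wedge differ by a matrix -/
theorem eq_actP_of_wedgeM_eq (p p' : (ι → F) × (ι → F)) (h : wedgeM p' = wedgeM p) (i j : ι)
    (hD : wedgeM p i j ≠ 0) :
    p' = actP p (Matrix.of ![![(wedgeM p i j)⁻¹ * (p'.1 i * p.2 j - p'.1 j * p.2 i),
        (wedgeM p i j)⁻¹ * (p'.2 i * p.2 j - p'.2 j * p.2 i)],
      ![(wedgeM p i j)⁻¹ * (p'.1 j * p.1 i - p'.1 i * p.1 j),
        (wedgeM p i j)⁻¹ * (p'.2 j * p.1 i - p'.2 i * p.1 j)]]) := by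
  have hD' : wedgeM p' i j = wedgeM p i j := by rw [h]
  have hx : ∀ x, wedgeM p' x j = wedgeM p x j := fun x => by rw [h]
  have hy : ∀ x, wedgeM p' x i = wedgeM p x i := fun x => by rw [h]
  simp only [wedgeM_apply] at hx hy hD'
  apply Prod.ext
  · ext x
    simp only [actP, Pi.add_apply, Pi.smul_apply, smul_eq_mul, Matrix.of_apply, Matrix.cons_val_zero,
      Matrix.cons_val_one, Matrix.cons_val', Matrix.cons_val_fin_one]
    rw [wedgeM_apply] at hD ⊢
    field_simp
    linear_combination (-(p'.1 x)) * hD' + p'.1 i * hx x - p'.1 j * hy x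
  · ext x
    simp only [actP, Pi.add_apply, Pi.smul_apply, smul_eq_mul, Matrix.of_apply, Matrix.cons_val_zero,
      Matrix.cons_val_one, Matrix.cons_val', Matrix.cons_val_fin_one]
    rw [wedgeM_apply] at hD ⊢
    field_simp
    linear_combination (-(p'.2 x)) * hD' + p'.2 i * hx x - p'.2 j * hy x

theorem indep_actP (p : (ι → F) × (ι → F)) (hp : Indep p) (h : Matrix (Fin 2) (Fin 2) F)
    (hdet : h.det = 1) : Indep (actP p h) := by
  intro s t hst
  have h1 := hp (s * h 0 0 + t * h 0 1) (s * h 1 0 + t * h 1 1) (by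
    rw [← hst]
    simp only [actP]
    ext x
    simp only [Pi.add_apply, Pi.smul_apply, smul_eq_mul]
    ring)
  rw [Matrix.det_fin_two] at hdet
  constructor
  · linear_combination (h 1 1) * h1.1 - (h 0 1) * h1.2 - s * hdet
  · linear_combination (h 0 0) * h1.2 - (h 1 0) * h1.1 - t * hdet

theorem actP_injective (p : (ι → F) × (ι → F)) (hp : Indep p) (h h' : Matrix (Fin 2) (Fin 2) F)
    (e : actP p h = actP p h') : h = h' := by
  have e1 := congrArg Prod.fst e
  have e2 := congrArg Prod.snd e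
  simp only [actP] at e1 e2
  have h1 := hp (h 0 0 - h' 0 0) (h 1 0 - h' 1 0) (by
    rw [sub_smul, sub_smul]
    have : h 0 0 • p.1 - h' 0 0 • p.1 + (h 1 0 • p.2 - h' 1 0 • p.2) =
      (h 0 0 • p.1 + h 1 0 • p.2) - (h' 0 0 • p.1 + h' 1 0 • p.2) := by abel
    rw [this, e1, sub_self])
  have h2 := hp (h 0 1 - h' 0 1) (h 1 1 - h' 1 1) (by
    rw [sub_smul, sub_smul]
    have : h 0 1 • p.1 - h' 0 1 • p.1 + (h 1 1 • p.2 - h' 1 1 • p.2) =
      (h 0 1 • p.1 + h 1 1 • p.2) - (h' 0 1 • p.1 + h' 1 1 • p.2) := by abel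
    rw [this, e2, sub_self])
  ext a b
  fin_cases a <;> fin_cases b
  · exact sub_eq_zero.mp h1.1
  · exact sub_eq_zero.mp h2.1
  · exact sub_eq_zero.mp h1.2
  · exact sub_eq_zero.mp h2.2

end wedge

section ts

variable {ι : Type*} {F : Type*} [Field F] (Q : QuadraticForm F (ι → F))

/-- totally singular independent pairs -/
def IsTS (p : (ι → F) × (ι → F)) : Prop :=
  Q p.1 = 0 ∧ Q p.2 = 0 ∧ polar Q p.1 p.2 = 0 ∧ Indep p

theorem isTS_actP (p : (ι → F) × (ι → F)) (hp : IsTS Q p) (h : Matrix (Fin 2) (Fin 2) F)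
    (hdet : h.det = 1) : IsTS Q (actP p h) := by
  obtain ⟨h1, h2, h3, h4⟩ := hp
  have h3' : polar Q p.2 p.1 = 0 := by rw [polar_comm]; exact h3
  have q1 : ∀ s t : F, Q (s • p.1 + t • p.2) = 0 := by
    intro s t
    rw [QuadraticMap.map_add (⇑Q), QuadraticMap.map_smul, QuadraticMap.map_smul, h1, h2,
      polar_smul_left, polar_smul_right, h3]
    simp
  refine ⟨q1 _ _, q1 _ _, ?_, indep_actP p h4 h hdet⟩
  simp only [actP]
  rw [polar_add_left, polar_add_right, polar_add_right, polar_smul_left, polar_smul_left,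
    polar_smul_left, polar_smul_left, polar_smul_right, polar_smul_right, polar_smul_right,
    polar_smul_right, polar_self, polar_self, h1, h2, h3, h3']
  simp

/-- the fibre of the wedge over a totally singular pair is a free `SL₂`-orbit -/
theorem card_fibre_wedgeM [Fintype F] (p : (ι → F) × (ι → F)) (hp : IsTS Q p) :
    Nat.card {p' : (ι → F) × (ι → F) // IsTS Q p' ∧ wedgeM p' = wedgeM p} =
      Fintype.card F * (Fintype.card F ^ 2 - 1) := by
  rw [← Cfsg.Agent.Lib.Helper4.card_SL2 (F := F)]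
  symm
  apply Nat.card_congr
  refine Equiv.ofBijective (fun h : Matrix.SpecialLinearGroup (Fin 2) F =>
    (⟨actP p h.1, isTS_actP Q p hp h.1 h.2, by rw [wedgeM_actP, h.2, one_smul]⟩ :
      {p' : (ι → F) × (ι → F) // IsTS Q p' ∧ wedgeM p' = wedgeM p})) ⟨?_, ?_⟩
  · intro h h' e
    apply Subtype.ext
    exact actP_injective p hp.2.2.2 h.1 h'.1 (congrArg Subtype.val e)
  · rintro ⟨p', hp', hw⟩
    obtain ⟨i, j, hD⟩ := exists_wedgeM_ne_zero p hp.2.2.2
    have e := eq_actP_of_wedgeM_eq p p' hw i j hD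
    obtain ⟨k, hk⟩ : ∃ k : Matrix (Fin 2) (Fin 2) F, p' = actP p k := ⟨_, e⟩
    have hdet : k.det = 1 := by
      have h1 := wedgeM_actP p k
      rw [← hk, hw] at h1
      have h2 := congrFun (congrFun h1 i) j
      rw [Matrix.smul_apply, smul_eq_mul] at h2
      have h3 : (1 - k.det) * wedgeM p i j = 0 := by linear_combination h2
      rcases mul_eq_zero.mp h3 with h4 | h4
      · exact (sub_eq_zero.mp h4).symm
      · exact absurd h4 hD
    refine ⟨⟨k, hdet⟩, ?_⟩
    apply Subtype.ext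
    exact hk.symm

end ts

section plus

variable {F : Type*} [Field F] [Fintype F]

open Cfsg.Agent.Lib.Helper5.OMP

theorem mem_tsPairs_iff (n : ℕ) (p : (Fin n ⊕ Fin n → F) × (Fin n ⊕ Fin n → F)) :
    p ∈ tsPairs F n ↔ IsTS (plusForm n F) p := by
  classical
  unfold tsPairs IsTS Indep
  rw [Finset.mem_filter, ← coe_plusForm]
  simp only [Finset.mem_univ, true_and]

/-- **Unit I3c**, `Nat.card` form: if `f` separates the totally singular pairs exactly as the wedge
does, then the number of pairs is `q (q² - 1)` times the number of values of `f` -/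
theorem card_tsPairs_eq_card_values {X : Type*} (n : ℕ)
    (f : (Fin n ⊕ Fin n → F) × (Fin n ⊕ Fin n → F) → X)
    (hf : ∀ p ∈ tsPairs F n, ∀ p' ∈ tsPairs F n, f p = f p' ↔ wedgeM p = wedgeM p') :
    (tsPairs F n).card =
      Nat.card {x : X // ∃ p ∈ tsPairs F n, f p = x} *
        (Fintype.card F * (Fintype.card F ^ 2 - 1)) := by
  classical
  have hfin : Finite {x : X // ∃ p ∈ tsPairs F n, f p = x} := by
    apply Finite.of_surjective (fun p : {p // p ∈ tsPairs F n} =>
      (⟨f p.1, p.1, p.2, rfl⟩ : {x : X // ∃ p ∈ tsPairs F n, f p = x}))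
    rintro ⟨x, p, hp, rfl⟩
    exact ⟨⟨p, hp⟩, rfl⟩
  have := Fintype.ofFinite {x : X // ∃ p ∈ tsPairs F n, f p = x}
  have e := (Equiv.sigmaFiberEquiv (fun p : {p // p ∈ tsPairs F n} =>
      (⟨f p.1, p.1, p.2, rfl⟩ : {x : X // ∃ p ∈ tsPairs F n, f p = x}))).symm
  rw [← Fintype.card_coe, ← Nat.card_eq_fintype_card, Nat.card_congr e, Nat.card_sigma]
  have h : ∀ x : {x : X // ∃ p ∈ tsPairs F n, f p = x},
      Nat.card {p : {p // p ∈ tsPairs F n} //
        (⟨f p.1, p.1, p.2, rfl⟩ : {x : X // ∃ p ∈ tsPairs F n, f p = x}) = x} =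
      Fintype.card F * (Fintype.card F ^ 2 - 1) := by
    rintro ⟨x, p, hp, rfl⟩
    rw [← card_fibre_wedgeM (plusForm n F) p ((mem_tsPairs_iff n p).mp hp)]
    apply Nat.card_congr
    exact
      { toFun := fun p' => ⟨p'.1.1, (mem_tsPairs_iff n _).mp p'.1.2,
          ((hf _ p'.1.2 _ hp).mp (congrArg Subtype.val p'.2))⟩
        invFun := fun p' => ⟨⟨p'.1, (mem_tsPairs_iff n _).mpr p'.2.1⟩,
          Subtype.ext ((hf _ ((mem_tsPairs_iff n _).mpr p'.2.1) _ hp).mpr p'.2.2)⟩
        left_inv := fun p' => rfl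
        right_inv := fun p' => rfl }
  rw [Finset.sum_congr rfl (fun x _ => h x), Finset.sum_const, Finset.card_univ, smul_eq_mul,
    Nat.card_eq_fintype_card]

open Classical in
/-- **Unit I3c**, `Finset` form -/
theorem card_tsPairs_eq_image {X : Type*} (n : ℕ)
    (f : (Fin n ⊕ Fin n → F) × (Fin n ⊕ Fin n → F) → X)
    (hf : ∀ p ∈ tsPairs F n, ∀ p' ∈ tsPairs F n, f p = f p' ↔ wedgeM p = wedgeM p') :
    (tsPairs F n).card =
      ((tsPairs F n).image f).card * (Fintype.card F * (Fintype.card F ^ 2 - 1)) := by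
  rw [card_tsPairs_eq_card_values n f hf]
  congr 1
  rw [← Fintype.card_coe, ← Nat.card_eq_fintype_card]
  apply Nat.card_congr
  apply Equiv.subtypeEquivRight
  intro x
  rw [Finset.mem_image]

open Classical in
/-- the fibres of the wedge on the totally singular pairs -/
theorem card_fibre_tsPairs (n : ℕ) (p : (Fin n ⊕ Fin n → F) × (Fin n ⊕ Fin n → F))
    (hp : p ∈ tsPairs F n) :
    ((tsPairs F n).filter (fun p' => wedgeM p' = wedgeM p)).card =
      Fintype.card F * (Fintype.card F ^ 2 - 1) := by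
  rw [← card_fibre_wedgeM (plusForm n F) p ((mem_tsPairs_iff n p).mp hp), ← Fintype.card_coe,
    ← Nat.card_eq_fintype_card]
  apply Nat.card_congr
  apply Equiv.subtypeEquivRight
  intro p'
  rw [Finset.mem_filter, mem_tsPairs_iff]

end plus

end Cfsg.Agent.Lib.Helper8.OMP
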