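import Mathlib
import Cfsg.Prelude
import Cfsg.Agent.Lib.Helper8.OMPDefs

set_option autoImplicit false
set_option linter.unusedSectionVars false
set_option linter.unusedVariables false

/-!
Farm OMP (statement S2345), unit I3, bridge: the long root elements of `Ω` are the long root elements
of the isometry group (`Ω` is normal and contains the `uQI A`).
-/

namespace Cfsg.Agent.Lib.Helper8.OMP

open Matrix Cfsg Cfsg.Agent.Lib.Helper1.MND

variable {F : Type*} [Field F] {m : ℕ}

theorem conj_uQI_mem (o : IG m F) (A : altAdd F (m + 3)) :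
    o * uQI A * o⁻¹ ∈ Omega F (quadFormPlus (m + 3) F) := by
  have hn : (Omega F (quadFormPlus (m + 3) F)).Normal := by
    show (commutator _).Normal
    infer_instance
  exact hn.conj_mem _ (uQI_mem A) o

/-- the long root elements of `Ω` and of the isometry group -/
noncomputable def tallEquiv (m : ℕ) (F : Type*) [Field F] :
    {x : OG m F // x ∈ Tall m F} ≃
      {y : IG m F // ∃ (o : IG m F) (s : F), s ≠ 0 ∧ y = o * uQI (tE01 m s) * o⁻¹} where
  toFun x := ⟨x.1.1, x.2⟩
  invFun y := ⟨⟨y.1, by
    obtain ⟨o, s, hs, hy⟩ := y.2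
    rw [hy]
    exact conj_uQI_mem o _⟩, y.2⟩
  left_inv x := rfl
  right_inv y := rfl

theorem card_Tall_eq_IG :
    Nat.card {x : OG m F // x ∈ Tall m F} =
      Nat.card {y : IG m F // ∃ (o : IG m F) (s : F), s ≠ 0 ∧ y = o * uQI (tE01 m s) * o⁻¹} :=
  Nat.card_congr (tallEquiv m F)

end Cfsg.Agent.Lib.Helper8.OMP
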