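import Mathlib
import Cfsg.Prelude.Def_Characters
import Cfsg.Agent.Lib.Helper1.MNDZ
import Cfsg.Agent.Lib.Helper8.MNDD3

set_option autoImplicit false
set_option linter.unusedSectionVars false
set_option linter.unusedVariables false

/-!
Farm OMP (S2345), unit SL: a character `φ` of `SL_(m+3)(q)` whose `X_β`-codimension
`φ 1 - avgB φ` is `q^(m+2) - q^(m+1)` (the codimension of ONE nontrivial irreducible with `b = 1`) has
degree at least `τ = (q^(m+3) - q)/(q - 1)` (farm MND: `irr_data`, `good_all`).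
-/

namespace Cfsg.Agent.Lib.Helper8.OMP

open Matrix Cfsg Cfsg.Agent.Lib.Lead.LS1 Cfsg.Agent.Lib.Helper1.MND Cfsg.Agent.Lib.Helper6
  Cfsg.Agent.Lib.Helper8.MND

variable {F : Type*} [Field F] [Fintype F] [DecidableEq F] {m : ℕ}

theorem sl_decomp_data [Fintype (IrrCharacter (SS (m + 3) F))] (ψ : AddChar F ℂ)
    (hψ : ∃ a, ψ a ≠ 1) (e : GG (m + 2) F ≃* SS (m + 3) F)
    (he : ∀ t : F, e (xm (t • Pi.single 0 1)) = tvS t)
    (φ : SS (m + 3) F → ℂ) (hφ : IsCharacter (SS (m + 3) F) φ) :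
    ∃ mult n b : IrrCharacter (SS (m + 3) F) → ℕ,
      (φ 1 = ((∑ θ, mult θ * n θ : ℕ) : ℂ)) ∧
      (φ 1 - avgB φ = ((∑ θ, mult θ * b θ : ℕ) : ℂ) *
        ((Fintype.card F : ℂ) ^ (m + 2) - (Fintype.card F : ℂ) ^ (m + 1))) ∧
      (∀ θ : IrrCharacter (SS (m + 3) F), (θ : SS (m + 3) F → ℂ) 1 = n θ) ∧
      (∀ θ, (Fintype.card F ^ (m + 2) - 1) * b θ ≤ n θ) ∧
      (∀ θ : IrrCharacter (SS (m + 3) F), b θ = 0 → (θ : SS (m + 3) F → ℂ) = fun _ => 1) ∧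
      (∀ θ, b θ = 1 → ∃ σ : Representation ℂ (GG (m + 2) F) (Fin (n θ) → ℂ),
        σ.IsIrreducible ∧ 2 ≤ n θ ∧ BOne ψ σ.character) := by
  classical
  obtain ⟨mult, hsum, hinner⟩ := IsCharacter.exists_mult hφ
  choose n b hn1 hnb hcod hb0 hb1 using
    fun θ : IrrCharacter (SS (m + 3) F) => irr_data ψ hψ e he θ.1 θ.2
  have hval : ∀ g, φ g = ∑ θ, (mult θ : ℂ) * (θ : SS (m + 3) F → ℂ) g :=
    apply_eq_sum_mult hsum
  have havgB : avgB φ = ∑ θ, (mult θ : ℂ) * avgB (θ : SS (m + 3) F → ℂ) := by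
    unfold avgB
    simp_rw [hval]
    rw [Finset.sum_comm, Finset.mul_sum]
    apply Finset.sum_congr rfl
    intro θ _
    rw [← Finset.mul_sum]
    ring
  refine ⟨mult, n, b, ?_, ?_, hn1, hnb, hb0, hb1⟩
  · rw [hval 1]
    push_cast
    apply Finset.sum_congr rfl
    intro θ _
    rw [hn1 θ]
  · rw [hval 1, havgB, ← Finset.sum_sub_distrib]
    push_cast
    rw [Finset.sum_mul]
    apply Finset.sum_congr rfl
    intro θ _
    rw [← mul_sub, hcod θ]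
    ring

/-- unit SL -/
theorem sl_codim_bound (hm : 1 ≤ m) (hq : 4 ≤ Fintype.card F) (φ : SS (m + 3) F → ℂ)
    (hφ : IsCharacter (SS (m + 3) F) φ)
    (hstar : φ 1 - avgB φ = (Fintype.card F : ℂ) ^ (m + 2) - (Fintype.card F : ℂ) ^ (m + 1)) :
    ∃ a : ℕ, φ 1 = a ∧ tauNum (Fintype.card F) (m + 2) ≤ a := by
  classical
  have : Fintype (IrrCharacter (SS (m + 3) F)) := Fintype.ofFinite _
  have hq1 : 1 < Fintype.card F := Fintype.one_lt_card
  obtain ⟨ψ, hψ1⟩ := (AddChar.exists_apply_ne_zero (α := F) (a := 1)).mpr one_ne_zero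
  have hψ : ∃ a, ψ a ≠ 1 := ⟨1, hψ1⟩
  obtain ⟨e, he⟩ := Cfsg.Agent.Lib.Helper5.MND.exists_reidx (F := F) (m := m + 1)
  obtain ⟨mult, n, b, hdeg, hcod, hn1, hnb, hb0, hb1⟩ := sl_decomp_data ψ hψ e he φ hφ
  have hκ := card_pow_sub_ne_zero (F := F) (m + 1)
  have hsumb : ∑ θ, mult θ * b θ = 1 := by
    have h : ((∑ θ, mult θ * b θ : ℕ) : ℂ) *
        ((Fintype.card F : ℂ) ^ (m + 2) - (Fintype.card F : ℂ) ^ (m + 1)) =
        1 * ((Fintype.card F : ℂ) ^ (m + 2) - (Fintype.card F : ℂ) ^ (m + 1)) := by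
      rw [one_mul, ← hcod, hstar]
    exact_mod_cast mul_right_cancel₀ hκ h
  obtain ⟨θ0, hθ0⟩ : ∃ θ0, mult θ0 * b θ0 ≠ 0 := by
    by_contra hcon
    push Not at hcon
    rw [Finset.sum_eq_zero (fun θ _ => hcon θ)] at hsumb
    exact zero_ne_one hsumb
  have hle : mult θ0 * b θ0 ≤ 1 := by
    rw [← hsumb]
    exact Finset.single_le_sum (f := fun θ => mult θ * b θ) (fun _ _ => Nat.zero_le _)
      (Finset.mem_univ θ0)
  have h0 : mult θ0 * b θ0 = 1 := by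
    have : 0 < mult θ0 * b θ0 := Nat.pos_of_ne_zero hθ0
    omega
  have hm0 : mult θ0 = 1 := Nat.dvd_one.mp ⟨b θ0, h0.symm⟩
  have hbθ0 : b θ0 = 1 := Nat.dvd_one.mp ⟨mult θ0, by rw [mul_comm]; exact h0.symm⟩
  obtain ⟨σ, hσ, hk', hB⟩ := hb1 θ0 hbθ0
  have hex : ¬ Exc (m + 2) (Fintype.card F) := by
    unfold Exc
    omega
  have hgood := good_all (F := F) (m := m + 2) (by omega) hex (n θ0) σ hσ hk'
  refine ⟨∑ θ, mult θ * n θ, hdeg, le_trans hgood ?_⟩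
  calc n θ0 = mult θ0 * n θ0 := by rw [hm0, one_mul]
    _ ≤ ∑ θ, mult θ * n θ :=
      Finset.single_le_sum (f := fun θ => mult θ * n θ) (fun _ _ => Nat.zero_le _)
        (Finset.mem_univ θ0)

end Cfsg.Agent.Lib.Helper8.OMP
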