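import Mathlib
import Cfsg.Prelude.Def_Characters
import Cfsg.Agent.Lib.Helper8.OMPSL
import Cfsg.Agent.Lib.Helper8.OMPArith
import Cfsg.Agent.Lib.Helper8.OMPD
import Cfsg.Agent.Lib.Helper8.OMPA
import Cfsg.Agent.Lib.Helper8.OMPT
import Cfsg.Agent.Lib.Helper7.OMPC1
import Cfsg.Agent.Lib.Helper7.OMPI1
import Cfsg.Agent.Lib.Helper3.OMPO
import Cfsg.Agent.Lib.Helper2.OMPP
import Cfsg.Agent.Lib.Helper2.OMPS
import Cfsg.Agent.Lib.Helper7.OMPV2
import Cfsg.Agent.Lib.Helper1.MNDT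

set_option autoImplicit false
set_option linter.unusedSectionVars false
set_option linter.unusedVariables false

/-!
Farm OMP (statement S2345), unit Z: the final assembly.  The first section restates the units of the
farm (proved in the files of helper2, helper3, helper7 and helper8) under one namespace; the second
section is the proof of the bound for `Ω⁺_{2(m+3)}(F)`, with the units N (`exists_mB_ne_zero`) and I3
(`card_Tall`) of helper5 as hypotheses.
-/

namespace Cfsg.Agent.Lib.Helper8.OMPZ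

open Matrix Cfsg Cfsg.Agent.Lib.Helper8.OMP
open Cfsg.Agent.Lib.Helper1.MND hiding res0

variable {F : Type*} [Field F] [Fintype F] [DecidableEq F] {m : ℕ}

section units

theorem card_R2 :
    Nat.card {B : altAdd F (m + 3) // IsR2 B} * (Fintype.card F ^ 2 - 1) =
      (Fintype.card F ^ (m + 3) - 1) * (Fintype.card F ^ (m + 2) - 1) :=
  Cfsg.Agent.Lib.Helper7.OMP.card_R2

theorem orbit_bound (hm : 1 ≤ m) (hq : 4 ≤ Fintype.card F) (S : Finset (altAdd F (m + 3)))
    (hS : ∀ B ∈ S, ∀ g : SS (m + 3) F, actAlt g.1 B ∈ S)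
    (hT : ∀ B ∈ S, ∀ δ : F, δ ≠ 0 → actAlt (torM m δ) B ∈ S)
    (B₀ : altAdd F (m + 3)) (hB₀ : B₀ ∈ S) (h0 : B₀ ≠ 0) (h2 : ¬ IsR2 B₀) :
    (Fintype.card F ^ (m + 3) - 1) * (Fintype.card F ^ (m + 2) + Fintype.card F) ≤
      (Fintype.card F ^ 2 - 1) * S.card :=
  Cfsg.Agent.Lib.Helper3.OMP.orbit_bound hm hq S hS hT B₀ hB₀ h0 h2

theorem dvd_sum_character_of_normalSet {G : Type*} [Group G] [Fintype G] {V : Type*}
    [AddCommGroup V] [Module ℂ V] [FiniteDimensional ℂ V] (ρ : Representation ℂ G V)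
    (hρ : ρ.IsIrreducible) (T : Finset G) (hT : ∀ t ∈ T, ∀ g : G, g * t * g⁻¹ ∈ T)
    (z : ℤ) (hz : ∑ t ∈ T, ρ.character t = (z : ℂ)) :
    (Module.finrank ℂ V : ℤ) ∣ z :=
  Cfsg.Agent.Lib.Helper7.OMP.dvd_sum_character_of_normalSet ρ hρ T hT z hz

theorem fourier_uQ (ψ : AddChar F ℂ) (hψ : ∃ a, ψ a ≠ 1) (χ : OG m F → ℂ) (A : altAdd F (m + 3)) :
    χ (uQ A) = ∑ B : altAdd F (m + 3), ψ (pairAlt B.1 A.1) * mB ψ χ B :=
  Cfsg.Agent.Lib.Helper2.OMP.fourier_uQ ψ hψ χ A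

theorem mB_nat (ψ : AddChar F ℂ) {V : Type*} [AddCommGroup V] [Module ℂ V] [FiniteDimensional ℂ V]
    (ρ : Representation ℂ (OG m F) V) (B : altAdd F (m + 3)) :
    ∃ r : ℕ, mB ψ ρ.character B = r :=
  Cfsg.Agent.Lib.Helper2.OMP.mB_nat ψ ρ B

theorem mB_lev (ψ : AddChar F ℂ) (χ : OG m F → ℂ) (hχ : ∀ x y, χ (x * y * x⁻¹) = χ y)
    (g : SS (m + 3) F) (B : altAdd F (m + 3)) : mB ψ χ (actAlt g.1 B) = mB ψ χ B :=
  Cfsg.Agent.Lib.Helper2.OMP.mB_lev ψ χ hχ g B

theorem mB_tor (ψ : AddChar F ℂ) (χ : OG m F → ℂ) (hχ : ∀ x y, χ (x * y * x⁻¹) = χ y)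
    (δ : F) (hδ : δ ≠ 0) (B : altAdd F (m + 3)) : mB ψ χ (actAlt (torM m δ) B) = mB ψ χ B :=
  Cfsg.Agent.Lib.Helper2.OMP.mB_tor_of ψ χ hχ δ hδ (exists_tor δ hδ) B

theorem star (hm : 1 ≤ m) (ψ : AddChar F ℂ) (hψ : ∃ a, ψ a ≠ 1) {k : ℕ}
    (ρ : Representation ℂ (OG m F) (Fin k → ℂ)) (hR : ROne ψ ρ.character)
    (hcomm : ∀ B : altAdd F (m + 3), IsR2 B → (∀ j, j ≠ 1 → B.1 0 j = 0) → ∀ t : F,
      (lev (tvS t) : OG m F) ∈ ⁅StabB B, StabB B⁆) :
    mB ψ ρ.character 0 - avgB (res0 ρ.character) =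
      (Fintype.card F : ℂ) ^ (m + 2) - (Fintype.card F : ℂ) ^ (m + 1) :=
  Cfsg.Agent.Lib.Helper2.OMP.star hm ψ hψ ρ hR hcomm

theorem char_uQ_tE01 (ψ : AddChar F ℂ) (hψ : ∃ a, ψ a ≠ 1) {k : ℕ}
    (ρ : Representation ℂ (OG m F) (Fin k → ℂ)) (hR : ROne ψ ρ.character) (s : F) (hs : s ≠ 0) :
    ρ.character (uQ (tE01 m s)) + (Fintype.card F : ℂ) ^ (2 * m + 3) = k :=
  Cfsg.Agent.Lib.Helper7.OMP.char_uQ_tE01 ψ hψ ρ hR s hs

end units

theorem E01_ne_zero : (E01 F m) ≠ 0 := by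
  intro h
  have h1 := congrArg (fun A : altAdd F (m + 3) => A.1 0 1) h
  simp only [E01_coe] at h1
  have h01 : (0 : Fin (m + 3)) ≠ 1 := by
    intro h2
    have := congrArg Fin.val h2
    simp at this
  simp [h01, h01.symm] at h1

theorem not_isR2_zero : ¬ IsR2 (0 : altAdd F (m + 3)) := by
  rintro ⟨g, hg⟩
  have h1 : actAlt (g⁻¹).1 (actAlt g.1 (E01 F m)) = E01 F m := by
    rw [← actAlt_mul, ← Matrix.SpecialLinearGroup.coe_mul, mul_inv_cancel,
      Matrix.SpecialLinearGroup.coe_one, actAlt_one]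
  rw [← hg, actAlt_zero] at h1
  exact E01_ne_zero h1.symm

theorem isR2_actAlt (g : SS (m + 3) F) (B : altAdd F (m + 3)) (hB : IsR2 B) :
    IsR2 (actAlt g.1 B) := by
  obtain ⟨h, rfl⟩ := hB
  exact ⟨h * g, by rw [Matrix.SpecialLinearGroup.coe_mul, actAlt_mul]⟩

theorem char_class {k : ℕ} (ρ : Representation ℂ (OG m F) (Fin k → ℂ)) (x y : OG m F) :
    ρ.character (x * y * x⁻¹) = ρ.character y := Representation.char_conj ρ y x

theorem deg_eq_sum (ψ : AddChar F ℂ) (hψ : ∃ a, ψ a ≠ 1) {k : ℕ}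
    (ρ : Representation ℂ (OG m F) (Fin k → ℂ)) :
    (k : ℂ) = ∑ B : altAdd F (m + 3), mB ψ ρ.character B := by
  have h := fourier_uQ ψ hψ ρ.character (0 : altAdd F (m + 3))
  rw [uQ_zero, Representation.char_one, Module.finrank_fin_fun] at h
  rw [h]
  apply Finset.sum_congr rfl
  intro B _
  rw [show ((0 : altAdd F (m + 3)) : Matrix (Fin (m + 3)) (Fin (m + 3)) F) = 0 from rfl,
    pairAlt_zero_right, AddChar.map_zero_eq_one, one_mul]

theorem res0_one (ψ : AddChar F ℂ) (χ : OG m F → ℂ) : OMP.res0 χ 1 = mB ψ χ 0 := by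
  unfold OMP.res0 mB
  congr 1
  apply Finset.sum_congr rfl
  intro A _
  rw [map_one, mul_one, show ((0 : altAdd F (m + 3)) : Matrix (Fin (m + 3)) (Fin (m + 3)) F) = 0 from rfl,
    pairAlt_zero_left, neg_zero, AddChar.map_zero_eq_one, one_mul]

/-- the dichotomy: a small irreducible representation has only forms of rank two, with multiplicity
one, and degree `bound - 1` -/
theorem dich (hm : 1 ≤ m) (hq : 4 ≤ Fintype.card F) (ψ : AddChar F ℂ) (hψ : ∃ a, ψ a ≠ 1) {k : ℕ}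
    (ρ : Representation ℂ (OG m F) (Fin k → ℂ)) (hρ : ρ.IsIrreducible) (hk : 2 ≤ k)
    (hsmall : k < bnd (Fintype.card F) m)
    (hN : ∃ B : altAdd F (m + 3), B ≠ 0 ∧ mB ψ ρ.character B ≠ 0) :
    ROne ψ ρ.character ∧ k + 1 = bnd (Fintype.card F) m := by
  classical
  have hq2 : 2 ≤ Fintype.card F := by omega
  have hcl : ∀ x y, ρ.character (x * y * x⁻¹) = ρ.character y := char_class ρ
  choose r hr using fun B : altAdd F (m + 3) => mB_nat ψ ρ B
  have hdeg : k = ∑ B : altAdd F (m + 3), r B := by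
    have h := deg_eq_sum ψ hψ ρ
    simp_rw [hr] at h
    exact_mod_cast h
  have hrlev : ∀ (g : SS (m + 3) F) (B : altAdd F (m + 3)), r (actAlt g.1 B) = r B := by
    intro g B
    have h := mB_lev ψ ρ.character hcl g B
    rw [hr, hr] at h
    exact_mod_cast h
  have hrtor : ∀ (δ : F), δ ≠ 0 → ∀ B : altAdd F (m + 3), r (actAlt (torM m δ) B) = r B := by
    intro δ hδ B
    have h := mB_tor ψ ρ.character hcl δ hδ B
    rw [hr, hr] at h
    exact_mod_cast h
  have hposq : 0 < Fintype.card F ^ 2 - 1 := by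
    have : 4 ≤ Fintype.card F ^ 2 := by nlinarith
    omega
  -- case A: a form that is not of rank two occurs
  have hA : ∀ B : altAdd F (m + 3), B ≠ 0 → ¬ IsR2 B → r B = 0 := by
    intro B₀ h0 h2
    by_contra hne
    have hpos : 1 ≤ r B₀ := Nat.one_le_iff_ne_zero.mpr hne
    set S : Finset (altAdd F (m + 3)) := Finset.univ.filter (fun B => 1 ≤ r B) with hS
    have hb := orbit_bound hm hq S
      (fun B hB g => by
        rw [hS, Finset.mem_filter] at hB ⊢
        exact ⟨Finset.mem_univ _, by rw [hrlev]; exact hB.2⟩)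
      (fun B hB δ hδ => by
        rw [hS, Finset.mem_filter] at hB ⊢
        exact ⟨Finset.mem_univ _, by rw [hrtor δ hδ]; exact hB.2⟩)
      B₀ (by rw [hS, Finset.mem_filter]; exact ⟨Finset.mem_univ _, hpos⟩) h0 h2
    have hcard : S.card ≤ k := by
      rw [hdeg]
      calc S.card = ∑ B ∈ S, 1 := by simp
        _ ≤ ∑ B ∈ S, r B := Finset.sum_le_sum (fun B hB => by
            rw [hS, Finset.mem_filter] at hB; exact hB.2)
        _ ≤ ∑ B, r B := Finset.sum_le_sum_of_subset (Finset.subset_univ S)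
    have : bnd (Fintype.card F) m ≤ k := by
      unfold bnd
      apply Nat.div_le_of_le_mul
      calc _ ≤ (Fintype.card F ^ 2 - 1) * S.card := hb
        _ ≤ (Fintype.card F ^ 2 - 1) * k := Nat.mul_le_mul_left _ hcard
    omega
  -- the multiplicity on the forms of rank two
  have hR2 : ∀ B : altAdd F (m + 3), IsR2 B → r B = r (E01 F m) := by
    rintro B ⟨g, rfl⟩
    exact hrlev g _
  set μ := r (E01 F m) with hμ
  obtain ⟨B₁, hB₁0, hB₁⟩ := hN
  have hμpos : 1 ≤ μ := by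
    have h1 : r B₁ ≠ 0 := by
      intro h
      apply hB₁
      rw [hr, h]
      simp
    by_cases h2 : IsR2 B₁
    · rw [hR2 B₁ h2] at h1
      exact Nat.one_le_iff_ne_zero.mpr h1
    · exact absurd (hA B₁ hB₁0 h2) h1
  -- the degree
  set N2 := Nat.card {B : altAdd F (m + 3) // IsR2 B} with hN2def
  have hN2 := card_R2 (F := F) (m := m)
  rw [← hN2def] at hN2
  have hdeg2 : k = r 0 + μ * N2 := by
    rw [hdeg, ← Finset.add_sum_erase _ _ (Finset.mem_univ (0 : altAdd F (m + 3)))]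
    congr 1
    have h1 : ∀ B ∈ (Finset.univ : Finset (altAdd F (m + 3))).erase 0,
        r B = if IsR2 B then μ else 0 := by
      intro B hB
      split_ifs with h
      · exact hR2 B h
      · exact hA B (Finset.ne_of_mem_erase hB) h
    rw [Finset.sum_congr rfl h1, Finset.sum_ite, Finset.sum_const_zero, add_zero, Finset.sum_const,
      smul_eq_mul, mul_comm]
    congr 1
    rw [hN2def, Nat.card_eq_fintype_card, Fintype.card_subtype]
    congr 1
    ext B
    simp only [Finset.mem_filter, Finset.mem_erase, Finset.mem_univ, and_true, ne_eq, true_and,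
      and_iff_right_iff_imp]
    intro hB h0
    exact not_isR2_zero (h0 ▸ hB)
  have hbnd := bnd_eq (Fintype.card F) m N2 hq2 hN2
  -- multiplicity at least two
  have hμ1 : μ = 1 := by
    by_contra hne
    have hμ2 : 2 ≤ μ := by omega
    have h1 := two_r2_ge (Fintype.card F) m N2 hq2 hN2
    have : bnd (Fintype.card F) m ≤ k := by
      unfold bnd
      apply Nat.div_le_of_le_mul
      calc _ ≤ (Fintype.card F ^ 2 - 1) * (2 * N2) := h1
        _ ≤ (Fintype.card F ^ 2 - 1) * k := by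
          apply Nat.mul_le_mul_left
          rw [hdeg2]
          nlinarith
    omega
  -- multiplicity one
  have hROne : ROne ψ ρ.character := by
    refine ⟨fun B hB => ?_, fun B h0 h2 => ?_⟩
    · rw [hr, hR2 B hB, hμ1]; simp
    · rw [hr, hA B h0 h2]; simp
  refine ⟨hROne, ?_⟩
  have hstar := star hm ψ hψ ρ hROne
    (fun B hB hfix t => lev_tvS_mem_commutator hm hq B hB hfix t)
  rw [← res0_one ψ ρ.character] at hstar
  obtain ⟨a, ha, hta⟩ := sl_codim_bound hm hq (OMP.res0 ρ.character) (isCharacter_res0 ρ) hstar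
  have hr0 : r 0 = a := by
    have h1 : (r 0 : ℂ) = a := by rw [← hr, ← res0_one ψ ρ.character, ha]
    exact_mod_cast h1
  rw [hμ1, one_mul, hr0] at hdeg2
  omega

/-- the main theorem for `Ω⁺_{2(m+3)}(F)` -/
theorem omp_bound_of (hm : 1 ≤ m) (hq : 4 ≤ Fintype.card F) (k : ℕ)
    (ρ : Representation ℂ (OG m F) (Fin k → ℂ)) (hρ : ρ.IsIrreducible) (hk : 2 ≤ k)
    (hNall : ∀ (ψ : AddChar F ℂ), (∃ a, ψ a ≠ 1) →
      ∀ ρ' : Representation ℂ (OG m F) (Fin k → ℂ), ρ'.IsIrreducible →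
        ∃ B : altAdd F (m + 3), B ≠ 0 ∧ mB ψ ρ'.character B ≠ 0)
    (hTall : Nat.card {x : OG m F // x ∈ Tall m F} * (Fintype.card F ^ 2 - 1) =
      (Fintype.card F ^ (m + 3) - 1) * (Fintype.card F ^ (m + 2) + 1) *
        (Fintype.card F ^ (m + 2) - 1) * (Fintype.card F ^ (m + 1) + 1)) :
    bnd (Fintype.card F) m ≤ k := by
  classical
  by_contra hlt
  push Not at hlt
  have hq2 : 2 ≤ Fintype.card F := by omega
  obtain ⟨ψ, hψ1⟩ := (AddChar.exists_apply_ne_zero (α := F) (a := 1)).mpr one_ne_zero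
  have hψ : ∃ a, ψ a ≠ 1 := ⟨1, hψ1⟩
  obtain ⟨hR, hk1⟩ := dich hm hq ψ hψ ρ hρ hk hlt (hNall ψ hψ ρ hρ)
  have : Fintype (OG m F) := Fintype.ofFinite _
  set T : Finset (OG m F) := Finset.univ.filter (fun x => x ∈ Tall m F) with hTdef
  -- the values on the long root elements
  have hval : ∀ x ∈ T, ρ.character x = (k : ℂ) - (Fintype.card F : ℂ) ^ (2 * m + 3) := by
    intro x hx
    rw [hTdef, Finset.mem_filter] at hx
    obtain ⟨o, s, hs, hxo⟩ := hx.2
    let f : OG m F ≃* OG m F := MulAut.conjNormal o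
    let ρ' : Representation ℂ (OG m F) (Fin k → ℂ) := MonoidHom.comp ρ f.toMonoidHom
    have hρ' : ρ'.IsIrreducible := isIrreducible_comp ρ f.toMonoidHom f.surjective hρ
    obtain ⟨hR', -⟩ := dich hm hq ψ hψ ρ' hρ' hk hlt (hNall ψ hψ ρ' hρ')
    have h := char_uQ_tE01 ψ hψ ρ' hR' s hs
    have hx' : f (uQ (tE01 m s)) = x := by
      apply Subtype.ext
      rw [hxo]
      rfl
    have h2 : ρ'.character (uQ (tE01 m s)) = ρ.character x := by
      rw [← hx']
      rfl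
    rw [← h2, ← h]
    ring
  -- the class sum
  have hT : ∀ t ∈ T, ∀ g : OG m F, g * t * g⁻¹ ∈ T := by
    intro t ht g
    rw [hTdef, Finset.mem_filter] at ht ⊢
    obtain ⟨o, s, hs, hto⟩ := ht.2
    refine ⟨Finset.mem_univ _, g.1 * o, s, hs, ?_⟩
    show g.1 * t.1 * (g.1)⁻¹ = _
    rw [hto]
    group
  have hz : ∑ t ∈ T, ρ.character t =
      (((T.card : ℤ) * ((k : ℤ) - (Fintype.card F : ℤ) ^ (2 * m + 3)) : ℤ) : ℂ) := by
    rw [Finset.sum_congr rfl hval, Finset.sum_const, nsmul_eq_mul]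
    push_cast
    ring
  have hdvd := dvd_sum_character_of_normalSet ρ hρ T hT _ hz
  rw [Module.finrank_fin_fun] at hdvd
  -- the arithmetic
  have hN2 := card_R2 (F := F) (m := m)
  have hkmul : (k + 1) * (Fintype.card F ^ 2 - 1) =
      (Fintype.card F ^ (m + 3) - 1) * (Fintype.card F ^ (m + 2) + Fintype.card F) := by
    rw [hk1]
    exact bnd_mul _ _ _ hq2 hN2
  have hN := hTall
  have hcardT : Nat.card {x : OG m F // x ∈ Tall m F} = T.card := by
    rw [Nat.card_eq_fintype_card, Fintype.card_subtype]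
  rw [hcardT] at hN
  exact int_arith (Fintype.card F) m k T.card hq2 hm hkmul hN hdvd

end Cfsg.Agent.Lib.Helper8.OMPZ
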