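import Cfsg.Agent.Lib.Helper8.ONO1

set_option autoImplicit false
set_option maxRecDepth 100000
set_option Elab.async false

/-! The O'Nan group on 122760 points: certificates of the tables (generated). -/

namespace Cfsg.Agent.Lib.Helper8.ONO

theorem cert_12_0 : SQ.allR 0 122760 (fun x => Nat.beq (x) (u12 (u10 (x)))) = true := by decide +kernel
theorem cert_12_all : ∀ x, x < 122760 → (Nat.beq (x) (u12 (u10 (x)))) = true := by
  intro x hp
  exact SQ.allR_spec cert_12_0 x (by omega) (by omega)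

theorem cert_13_0 : SQ.allR 0 17538 (fun x => Nat.beq (u0 (u3 (u4 (u5 (u6 (u4 (u1 (u3 (u4 (u5 (u4 (u1 (u6 (u5 (u1 (u2 (u3 (u4 (u0 (u3 (u1 (x)))))))))))))))))))))) (u13 (x))) = true := by decide +kernel
theorem cert_13_1 : SQ.allR 17538 17538 (fun x => Nat.beq (u0 (u3 (u4 (u5 (u6 (u4 (u1 (u3 (u4 (u5 (u4 (u1 (u6 (u5 (u1 (u2 (u3 (u4 (u0 (u3 (u1 (x)))))))))))))))))))))) (u13 (x))) = true := by decide +kernel
theorem cert_13_2 : SQ.allR 35076 17538 (fun x => Nat.beq (u0 (u3 (u4 (u5 (u6 (u4 (u1 (u3 (u4 (u5 (u4 (u1 (u6 (u5 (u1 (u2 (u3 (u4 (u0 (u3 (u1 (x)))))))))))))))))))))) (u13 (x))) = true := by decide +kernel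
theorem cert_13_3 : SQ.allR 52614 17538 (fun x => Nat.beq (u0 (u3 (u4 (u5 (u6 (u4 (u1 (u3 (u4 (u5 (u4 (u1 (u6 (u5 (u1 (u2 (u3 (u4 (u0 (u3 (u1 (x)))))))))))))))))))))) (u13 (x))) = true := by decide +kernel
theorem cert_13_4 : SQ.allR 70152 17538 (fun x => Nat.beq (u0 (u3 (u4 (u5 (u6 (u4 (u1 (u3 (u4 (u5 (u4 (u1 (u6 (u5 (u1 (u2 (u3 (u4 (u0 (u3 (u1 (x)))))))))))))))))))))) (u13 (x))) = true := by decide +kernel
theorem cert_13_5 : SQ.allR 87690 17538 (fun x => Nat.beq (u0 (u3 (u4 (u5 (u6 (u4 (u1 (u3 (u4 (u5 (u4 (u1 (u6 (u5 (u1 (u2 (u3 (u4 (u0 (u3 (u1 (x)))))))))))))))))))))) (u13 (x))) = true := by decide +kernel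
theorem cert_13_6 : SQ.allR 105228 17532 (fun x => Nat.beq (u0 (u3 (u4 (u5 (u6 (u4 (u1 (u3 (u4 (u5 (u4 (u1 (u6 (u5 (u1 (u2 (u3 (u4 (u0 (u3 (u1 (x)))))))))))))))))))))) (u13 (x))) = true := by decide +kernel
theorem cert_13_all : ∀ x, x < 122760 → (Nat.beq (u0 (u3 (u4 (u5 (u6 (u4 (u1 (u3 (u4 (u5 (u4 (u1 (u6 (u5 (u1 (u2 (u3 (u4 (u0 (u3 (u1 (x)))))))))))))))))))))) (u13 (x))) = true := by
  intro x hp
  rcases Nat.lt_or_ge x 17538 with h | h
  · exact SQ.allR_spec cert_13_0 x (by omega) (by omega)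
  rcases Nat.lt_or_ge x 35076 with h | h
  · exact SQ.allR_spec cert_13_1 x (by omega) (by omega)
  rcases Nat.lt_or_ge x 52614 with h | h
  · exact SQ.allR_spec cert_13_2 x (by omega) (by omega)
  rcases Nat.lt_or_ge x 70152 with h | h
  · exact SQ.allR_spec cert_13_3 x (by omega) (by omega)
  rcases Nat.lt_or_ge x 87690 with h | h
  · exact SQ.allR_spec cert_13_4 x (by omega) (by omega)
  rcases Nat.lt_or_ge x 105228 with h | h
  · exact SQ.allR_spec cert_13_5 x (by omega) (by omega)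
  exact SQ.allR_spec cert_13_6 x (by omega) (by omega)


end Cfsg.Agent.Lib.Helper8.ONO
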