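import Cfsg.Agent.Lib.Helper8.ONO1

set_option autoImplicit false
set_option maxRecDepth 100000
set_option Elab.async false

/-! The O'Nan group on 122760 points: certificates of the tables (generated). -/

namespace Cfsg.Agent.Lib.Helper8.ONO

theorem cert_8_0 : SQ.allR 0 30690 (fun x => Nat.beq (u3 (u4 (u5 (u6 (u0 (u3 (u4 (u0 (u5 (x)))))))))) (u8 (x))) = true := by decide +kernel
theorem cert_8_1 : SQ.allR 30690 30690 (fun x => Nat.beq (u3 (u4 (u5 (u6 (u0 (u3 (u4 (u0 (u5 (x)))))))))) (u8 (x))) = true := by decide +kernel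
theorem cert_8_2 : SQ.allR 61380 30690 (fun x => Nat.beq (u3 (u4 (u5 (u6 (u0 (u3 (u4 (u0 (u5 (x)))))))))) (u8 (x))) = true := by decide +kernel
theorem cert_8_3 : SQ.allR 92070 30690 (fun x => Nat.beq (u3 (u4 (u5 (u6 (u0 (u3 (u4 (u0 (u5 (x)))))))))) (u8 (x))) = true := by decide +kernel
theorem cert_8_all : ∀ x, x < 122760 → (Nat.beq (u3 (u4 (u5 (u6 (u0 (u3 (u4 (u0 (u5 (x)))))))))) (u8 (x))) = true := by
  intro x hp
  rcases Nat.lt_or_ge x 30690 with h | h
  · exact SQ.allR_spec cert_8_0 x (by omega) (by omega)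
  rcases Nat.lt_or_ge x 61380 with h | h
  · exact SQ.allR_spec cert_8_1 x (by omega) (by omega)
  rcases Nat.lt_or_ge x 92070 with h | h
  · exact SQ.allR_spec cert_8_2 x (by omega) (by omega)
  exact SQ.allR_spec cert_8_3 x (by omega) (by omega)

theorem cert_9_0 : SQ.allR 0 122760 (fun x => Nat.beq (x) (u9 (u8 (x)))) = true := by decide +kernel
theorem cert_9_all : ∀ x, x < 122760 → (Nat.beq (x) (u9 (u8 (x)))) = true := by
  intro x hp
  exact SQ.allR_spec cert_9_0 x (by omega) (by omega)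


end Cfsg.Agent.Lib.Helper8.ONO
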