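import Cfsg.Agent.Lib.Helper8.ONO3x
import Cfsg.Agent.Lib.Helper8.ONO3z
import Cfsg.Agent.Lib.Helper8.ONO3g

set_option autoImplicit false
set_option maxRecDepth 100000
set_option Elab.async false

/-! The O'Nan group on 122760 points: the stabiliser chains (generated). -/

namespace Cfsg.Agent.Lib.Helper8.ONO

def LsX : List SQ.Lv := [LX0, LX1, LX2, LX3]
def LsZ : List SQ.Lv := [LX0, LZ1, LZ2]
def LsG : List SQ.Lv := [LG0, LG1, LG2, LG3]

theorem lvOK_LsX : ∀ L ∈ LsX, SQ.lvOK 122760 L = true := by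
  intro L hL
  simp only [LsX, List.mem_cons, List.not_mem_nil, or_false] at hL
  rcases hL with rfl | rfl | rfl | rfl
  · exact lvOK_X0
  · exact lvOK_X1
  · exact lvOK_X2
  · exact lvOK_X3
theorem fixOK_X : SQ.fixOK [] LsX = true := by decide +kernel
theorem size_X : 460815505920 ≤ SQ.sizesN 122760 LsX := by decide +kernel

theorem lvOK_LsZ : ∀ L ∈ LsZ, SQ.lvOK 122760 L = true := by
  intro L hL
  simp only [LsZ, List.mem_cons, List.not_mem_nil, or_false] at hL
  rcases hL with rfl | rfl | rfl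
  · exact lvOK_X0
  · exact lvOK_Z1
  · exact lvOK_Z2
theorem fixOK_Z : SQ.fixOK [] LsZ = true := by decide +kernel
theorem size_Z : 460815505920 ≤ SQ.sizesN 122760 LsZ := by decide +kernel

theorem lvOK_LsG : ∀ L ∈ LsG, SQ.lvOK 122760 L = true := by
  intro L hL
  simp only [LsG, List.mem_cons, List.not_mem_nil, or_false] at hL
  rcases hL with rfl | rfl | rfl | rfl
  · exact lvOK_G0
  · exact lvOK_G1
  · exact lvOK_G2
  · exact lvOK_G3
theorem fixOK_G : SQ.fixOK [] LsG = true := by decide +kernel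
theorem size_G : 460815505920 ≤ SQ.sizesN 122760 LsG := by decide +kernel


end Cfsg.Agent.Lib.Helper8.ONO
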