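import Cfsg.Agent.Lib.Helper8.ONO4d

set_option autoImplicit false
set_option maxRecDepth 100000
set_option Elab.async false

/-! The O'Nan group on 122760 points: the centraliser and transporter searches, part (generated). -/

namespace Cfsg.Agent.Lib.Helper8.ONO

theorem passC_7 : SQ.allR 45234 6462 (fun p => !(passC p) || xorbB p) = true := by decide +kernel
theorem passC_8 : SQ.allR 51696 6462 (fun p => !(passC p) || xorbB p) = true := by decide +kernel
theorem passC_9 : SQ.allR 58158 6462 (fun p => !(passC p) || xorbB p) = true := by decide +kernel
theorem passC_10 : SQ.allR 64620 6462 (fun p => !(passC p) || xorbB p) = true := by decide +kernel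
theorem passC_11 : SQ.allR 71082 6462 (fun p => !(passC p) || xorbB p) = true := by decide +kernel
theorem passC_12 : SQ.allR 77544 6462 (fun p => !(passC p) || xorbB p) = true := by decide +kernel
theorem passC_13 : SQ.allR 84006 6462 (fun p => !(passC p) || xorbB p) = true := by decide +kernel

end Cfsg.Agent.Lib.Helper8.ONO
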