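import Cfsg.Agent.Lib.Helper8.ONO4d

set_option autoImplicit false
set_option maxRecDepth 100000
set_option Elab.async false

/-! The O'Nan group on 122760 points: the centraliser and transporter searches, part (generated). -/

namespace Cfsg.Agent.Lib.Helper8.ONO

theorem passC_14 : SQ.allR 90468 6462 (fun p => !(passC p) || xorbB p) = true := by decide +kernel
theorem passC_15 : SQ.allR 96930 6462 (fun p => !(passC p) || xorbB p) = true := by decide +kernel
theorem passC_16 : SQ.allR 103392 6462 (fun p => !(passC p) || xorbB p) = true := by decide +kernel
theorem passC_17 : SQ.allR 109854 6462 (fun p => !(passC p) || xorbB p) = true := by decide +kernel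
theorem passC_18 : SQ.allR 116316 6444 (fun p => !(passC p) || xorbB p) = true := by decide +kernel

end Cfsg.Agent.Lib.Helper8.ONO
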