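import Cfsg.Agent.Lib.Helper8.ONO4d

set_option autoImplicit false
set_option maxRecDepth 100000
set_option Elab.async false

/-! The O'Nan group on 122760 points: the centraliser and transporter searches, part (generated). -/

namespace Cfsg.Agent.Lib.Helper8.ONO

theorem passN_0 : SQ.allR 0 6462 (fun p => !(passN p)) = true := by decide +kernel
theorem passN_1 : SQ.allR 6462 6462 (fun p => !(passN p)) = true := by decide +kernel
theorem passN_2 : SQ.allR 12924 6462 (fun p => !(passN p)) = true := by decide +kernel
theorem passN_3 : SQ.allR 19386 6462 (fun p => !(passN p)) = true := by decide +kernel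
theorem passN_4 : SQ.allR 25848 6462 (fun p => !(passN p)) = true := by decide +kernel
theorem passN_5 : SQ.allR 32310 6462 (fun p => !(passN p)) = true := by decide +kernel
theorem passN_6 : SQ.allR 38772 6462 (fun p => !(passN p)) = true := by decide +kernel

end Cfsg.Agent.Lib.Helper8.ONO
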