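import Cfsg.Agent.Lib.Helper8.ONO4a
import Cfsg.Agent.Lib.Helper8.ONO4b
import Cfsg.Agent.Lib.Helper8.ONO4c
import Cfsg.Agent.Lib.Helper8.ONO4e
import Cfsg.Agent.Lib.Helper8.ONO4f
import Cfsg.Agent.Lib.Helper8.ONO4g
import Cfsg.Agent.Lib.Helper8.ONO4h
import Cfsg.Agent.Lib.Helper8.ONO4i
import Cfsg.Agent.Lib.Helper8.ONO4j

set_option autoImplicit false
set_option maxRecDepth 100000
set_option Elab.async false

/-! The O'Nan group on 122760 points: the centraliser and transporter searches (generated). -/

namespace Cfsg.Agent.Lib.Helper8.ONO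

theorem passC_all : ∀ p, p < 122760 → (!(passC p) || xorbB p) = true := by
  intro p hp
  rcases Nat.lt_or_ge p 6462 with h | h
  · exact SQ.allR_spec passC_0 p (by omega) (by omega)
  rcases Nat.lt_or_ge p 12924 with h | h
  · exact SQ.allR_spec passC_1 p (by omega) (by omega)
  rcases Nat.lt_or_ge p 19386 with h | h
  · exact SQ.allR_spec passC_2 p (by omega) (by omega)
  rcases Nat.lt_or_ge p 25848 with h | h
  · exact SQ.allR_spec passC_3 p (by omega) (by omega)
  rcases Nat.lt_or_ge p 32310 with h | h
  · exact SQ.allR_spec passC_4 p (by omega) (by omega)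
  rcases Nat.lt_or_ge p 38772 with h | h
  · exact SQ.allR_spec passC_5 p (by omega) (by omega)
  rcases Nat.lt_or_ge p 45234 with h | h
  · exact SQ.allR_spec passC_6 p (by omega) (by omega)
  rcases Nat.lt_or_ge p 51696 with h | h
  · exact SQ.allR_spec passC_7 p (by omega) (by omega)
  rcases Nat.lt_or_ge p 58158 with h | h
  · exact SQ.allR_spec passC_8 p (by omega) (by omega)
  rcases Nat.lt_or_ge p 64620 with h | h
  · exact SQ.allR_spec passC_9 p (by omega) (by omega)
  rcases Nat.lt_or_ge p 71082 with h | h
  · exact SQ.allR_spec passC_10 p (by omega) (by omega)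
  rcases Nat.lt_or_ge p 77544 with h | h
  · exact SQ.allR_spec passC_11 p (by omega) (by omega)
  rcases Nat.lt_or_ge p 84006 with h | h
  · exact SQ.allR_spec passC_12 p (by omega) (by omega)
  rcases Nat.lt_or_ge p 90468 with h | h
  · exact SQ.allR_spec passC_13 p (by omega) (by omega)
  rcases Nat.lt_or_ge p 96930 with h | h
  · exact SQ.allR_spec passC_14 p (by omega) (by omega)
  rcases Nat.lt_or_ge p 103392 with h | h
  · exact SQ.allR_spec passC_15 p (by omega) (by omega)
  rcases Nat.lt_or_ge p 109854 with h | h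
  · exact SQ.allR_spec passC_16 p (by omega) (by omega)
  rcases Nat.lt_or_ge p 116316 with h | h
  · exact SQ.allR_spec passC_17 p (by omega) (by omega)
  exact SQ.allR_spec passC_18 p (by omega) (by omega)

theorem passN_all : ∀ p, p < 122760 → (!(passN p)) = true := by
  intro p hp
  rcases Nat.lt_or_ge p 6462 with h | h
  · exact SQ.allR_spec passN_0 p (by omega) (by omega)
  rcases Nat.lt_or_ge p 12924 with h | h
  · exact SQ.allR_spec passN_1 p (by omega) (by omega)
  rcases Nat.lt_or_ge p 19386 with h | h
  · exact SQ.allR_spec passN_2 p (by omega) (by omega)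
  rcases Nat.lt_or_ge p 25848 with h | h
  · exact SQ.allR_spec passN_3 p (by omega) (by omega)
  rcases Nat.lt_or_ge p 32310 with h | h
  · exact SQ.allR_spec passN_4 p (by omega) (by omega)
  rcases Nat.lt_or_ge p 38772 with h | h
  · exact SQ.allR_spec passN_5 p (by omega) (by omega)
  rcases Nat.lt_or_ge p 45234 with h | h
  · exact SQ.allR_spec passN_6 p (by omega) (by omega)
  rcases Nat.lt_or_ge p 51696 with h | h
  · exact SQ.allR_spec passN_7 p (by omega) (by omega)
  rcases Nat.lt_or_ge p 58158 with h | h
  · exact SQ.allR_spec passN_8 p (by omega) (by omega)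
  rcases Nat.lt_or_ge p 64620 with h | h
  · exact SQ.allR_spec passN_9 p (by omega) (by omega)
  rcases Nat.lt_or_ge p 71082 with h | h
  · exact SQ.allR_spec passN_10 p (by omega) (by omega)
  rcases Nat.lt_or_ge p 77544 with h | h
  · exact SQ.allR_spec passN_11 p (by omega) (by omega)
  rcases Nat.lt_or_ge p 84006 with h | h
  · exact SQ.allR_spec passN_12 p (by omega) (by omega)
  rcases Nat.lt_or_ge p 90468 with h | h
  · exact SQ.allR_spec passN_13 p (by omega) (by omega)
  rcases Nat.lt_or_ge p 96930 with h | h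
  · exact SQ.allR_spec passN_14 p (by omega) (by omega)
  rcases Nat.lt_or_ge p 103392 with h | h
  · exact SQ.allR_spec passN_15 p (by omega) (by omega)
  rcases Nat.lt_or_ge p 109854 with h | h
  · exact SQ.allR_spec passN_16 p (by omega) (by omega)
  rcases Nat.lt_or_ge p 116316 with h | h
  · exact SQ.allR_spec passN_17 p (by omega) (by omega)
  exact SQ.allR_spec passN_18 p (by omega) (by omega)

theorem testQ_all : ∀ p, p < 122760 → (!(testQ p) || Nat.beq p 112297) = true := by
  intro p hp
  rcases Nat.lt_or_ge p 6462 with h | h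
  · exact SQ.allR_spec testQ_0 p (by omega) (by omega)
  rcases Nat.lt_or_ge p 12924 with h | h
  · exact SQ.allR_spec testQ_1 p (by omega) (by omega)
  rcases Nat.lt_or_ge p 19386 with h | h
  · exact SQ.allR_spec testQ_2 p (by omega) (by omega)
  rcases Nat.lt_or_ge p 25848 with h | h
  · exact SQ.allR_spec testQ_3 p (by omega) (by omega)
  rcases Nat.lt_or_ge p 32310 with h | h
  · exact SQ.allR_spec testQ_4 p (by omega) (by omega)
  rcases Nat.lt_or_ge p 38772 with h | h
  · exact SQ.allR_spec testQ_5 p (by omega) (by omega)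
  rcases Nat.lt_or_ge p 45234 with h | h
  · exact SQ.allR_spec testQ_6 p (by omega) (by omega)
  rcases Nat.lt_or_ge p 51696 with h | h
  · exact SQ.allR_spec testQ_7 p (by omega) (by omega)
  rcases Nat.lt_or_ge p 58158 with h | h
  · exact SQ.allR_spec testQ_8 p (by omega) (by omega)
  rcases Nat.lt_or_ge p 64620 with h | h
  · exact SQ.allR_spec testQ_9 p (by omega) (by omega)
  rcases Nat.lt_or_ge p 71082 with h | h
  · exact SQ.allR_spec testQ_10 p (by omega) (by omega)
  rcases Nat.lt_or_ge p 77544 with h | h
  · exact SQ.allR_spec testQ_11 p (by omega) (by omega)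
  rcases Nat.lt_or_ge p 84006 with h | h
  · exact SQ.allR_spec testQ_12 p (by omega) (by omega)
  rcases Nat.lt_or_ge p 90468 with h | h
  · exact SQ.allR_spec testQ_13 p (by omega) (by omega)
  rcases Nat.lt_or_ge p 96930 with h | h
  · exact SQ.allR_spec testQ_14 p (by omega) (by omega)
  rcases Nat.lt_or_ge p 103392 with h | h
  · exact SQ.allR_spec testQ_15 p (by omega) (by omega)
  rcases Nat.lt_or_ge p 109854 with h | h
  · exact SQ.allR_spec testQ_16 p (by omega) (by omega)
  rcases Nat.lt_or_ge p 116316 with h | h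
  · exact SQ.allR_spec testQ_17 p (by omega) (by omega)
  exact SQ.allR_spec testQ_18 p (by omega) (by omega)


end Cfsg.Agent.Lib.Helper8.ONO
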