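import Cfsg.Agent.Lib.Helper8.ONO3

set_option autoImplicit false
set_option maxRecDepth 100000
set_option Elab.async false

/-! The O'Nan group on 122760 points: the centraliser and transporter searches, definitions (generated). -/

namespace Cfsg.Agent.Lib.Helper8.ONO


/-- the candidates for the image of the first base point under an element centralising `x` -/
def passC (p : ℕ) : Bool :=
  match SQ.sift LsX (SQ.iterL u8 4 p ++ [1, u8 1]) with
  | some [r0, s0] => Nat.beq s0 (u8 r0)
  | _ => false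

def xorbB (p : ℕ) : Bool := Nat.beq p 0 || Nat.beq p 110796 || Nat.beq p 313 || Nat.beq p 69592 || Nat.beq p 94505 || Nat.beq p 15524 || Nat.beq p 4655 || Nat.beq p 2695 || Nat.beq p 108634 || Nat.beq p 56331 || Nat.beq p 94189 || Nat.beq p 119579 || Nat.beq p 55084 || Nat.beq p 119458 || Nat.beq p 19970 || Nat.beq p 76943 || Nat.beq p 80116 || Nat.beq p 28026 || Nat.beq p 122277 || Nat.beq p 25438 || Nat.beq p 117427 || Nat.beq p 98954 || Nat.beq p 53767 || Nat.beq p 85987 || Nat.beq p 44464 || Nat.beq p 3249 || Nat.beq p 34377 || Nat.beq p 67276 || Nat.beq p 105198 || Nat.beq p 118 || Nat.beq p 110797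

/-- the candidates for the image of the first base point under an element conjugating `x` to
its inverse -/
def passN (p : ℕ) : Bool :=
  match SQ.sift LsX (SQ.iterL u9 4 p ++ [1, u9 1]) with
  | some [r0, s0] => Nat.beq s0 (u8 r0)
  | _ => false

/-- the element centralising `t` and taking `p` to the first base point, at `q` -/
def FQ (p q : ℕ) : ℕ :=
  match SQ.sift LsZ (SQ.iterL u11 3 p ++ [q]) with
  | some [r] => r
  | _ => 122760

def pre0 (q : ℕ) : ℕ := u8 (q)
def itQ0 (p : ℕ) : ℕ → ℕ → ℕ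
  | 0, q => q
  | k + 1, q => itQ0 p k (pre0 (FQ p q))

def pre1 (q : ℕ) : ℕ := u8 (u8 (u10 (q)))
def itQ1 (p : ℕ) : ℕ → ℕ → ℕ
  | 0, q => q
  | k + 1, q => itQ1 p k (pre1 (FQ p q))

def testQ (p : ℕ) : Bool :=
  (SQ.sift LsZ (SQ.iterL u11 3 p ++ [])).isSome && Nat.beq (itQ0 p 31 1) 1 && Nat.beq (itQ1 p 11 1) 1


end Cfsg.Agent.Lib.Helper8.ONO
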