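import Cfsg.Agent.Lib.Helper8.ONO3

set_option autoImplicit false
set_option maxRecDepth 100000
set_option Elab.async false

/-! The O'Nan group on 122760 points: the checks for the automorphism group (generated). -/

namespace Cfsg.Agent.Lib.Helper8.ONO

/-- the base of the first chain -/
def baseL : List ℕ := [0, 110796, 313, 69592]
theorem baseL_lt : ∀ i ∈ baseL, i < 122760 := by decide
theorem nu_ok : ∀ q ∈ baseL, (Nat.beq (u8 (u10 q)) (u10 (u8 (u8 (u8 (u8 (u8 (u8 (u8 (u8 (u8 (u8 (u8 (u8 (u8 (u8 (q))))))))))))))))) = true := by decide +kernel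
theorem x_ord : ∀ q ∈ baseL, (Nat.beq (u8 (u8 (u8 (u8 (u8 (u8 (u8 (u8 (u8 (u8 (u8 (u8 (u8 (u8 (u8 (u8 (u8 (u8 (u8 (u8 (u8 (u8 (u8 (u8 (u8 (u8 (u8 (u8 (u8 (u8 (u8 (q)))))))))))))))))))))))))))))))) q) = true := by decide +kernel
theorem x_ne : u8 0 = 110796 := by decide +kernel
theorem zt_comm : ∀ q ∈ baseL, (Nat.beq (u13 (u11 q)) (u11 (u13 q))) = true := by decide +kernel
theorem rel_0 : ∀ q ∈ baseL, (Nat.beq (u8 (u13 (u8 (u13 (u8 (u13 (u8 (u13 (u8 (u13 (u8 (u13 (u8 (u13 (u8 (u13 (u8 (u13 (u8 (u13 (u8 (u13 (u8 (u13 (u8 (u13 (u8 (u13 (u8 (u13 (u8 (u13 (u8 (u13 (u8 (u13 (u8 (u13 (u8 (u13 (u8 (u13 (u8 (u13 (u8 (u13 (u8 (u13 (u8 (u13 (u8 (u13 (u8 (u13 (u8 (u13 (u8 (u13 (u8 (u13 (u8 (u13 (q))))))))))))))))))))))))))))))))))))))))))))))))))))))))))))))) q) = true := by decide +kernel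
theorem rel_1 : ∀ q ∈ baseL, (Nat.beq (u8 (u8 (u10 (u13 (u8 (u8 (u10 (u13 (u8 (u8 (u10 (u13 (u8 (u8 (u10 (u13 (u8 (u8 (u10 (u13 (u8 (u8 (u10 (u13 (u8 (u8 (u10 (u13 (u8 (u8 (u10 (u13 (u8 (u8 (u10 (u13 (u8 (u8 (u10 (u13 (u8 (u8 (u10 (u13 (q))))))))))))))))))))))))))))))))))))))))))))) q) = true := by decide +kernel
theorem z_pz : u13 112297 = 0 := by decide +kernel
theorem xorb_eq : SQ.iterL u8 31 0 = [0, 110796, 313, 69592, 94505, 15524, 4655, 2695, 108634, 56331, 94189, 119579, 55084, 119458, 19970, 76943, 80116, 28026, 122277, 25438, 117427, 98954, 53767, 85987, 44464, 3249, 34377, 67276, 105198, 118, 110797] := by decide +kernel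
theorem baseX : LsX.map (fun L => L.b) = SQ.iterL u8 4 0 := by decide +kernel
theorem baseZ : LsZ.map (fun L => L.b) = SQ.iterL u11 3 0 := by decide +kernel
theorem baseL_eq : LsX.map (fun L => L.b) = baseL := by decide +kernel

end Cfsg.Agent.Lib.Helper8.ONO
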