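import Cfsg.Agent.Lib.Helper8.ONO5

set_option autoImplicit false
set_option maxRecDepth 100000
set_option Elab.async false

/-! The O'Nan group on 122760 points: the checks for the outer automorphism (generated). -/

namespace Cfsg.Agent.Lib.Helper8.ONO

def tauW0 : List ℕ := [13, 8, 13, 9, 12, 8, 13, 8, 12, 12, 13, 12, 9, 12, 13, 9, 13, 10, 8, 10, 13, 10, 13, 12, 9, 12, 13, 9, 13, 10, 8, 10, 13, 10, 8, 10, 13, 8, 13, 9, 13, 12, 9, 13, 9, 9, 13, 9, 9, 13, 9, 13, 8, 12, 12, 9, 10, 13, 9, 9, 12, 13, 9, 10, 13, 9, 9, 8, 12, 13, 8, 13, 10, 10, 8, 13, 12, 9, 12, 9, 9, 12, 13, 8, 13, 12, 8, 10, 9, 13, 9, 13, 8, 12, 8, 13, 12, 12, 8, 13, 8, 13, 9, 9, 13, 9, 9, 13, 9, 13, 8, 12, 12, 10, 8, 10, 13, 9, 12, 12, 13, 9, 13, 10, 9, 9, 9, 13, 9, 12, 13, 9, 9, 13, 12, 9, 9, 8, 10, 13,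 8, 13, 9, 13, 12, 9, 8, 12, 13, 8, 13, 10, 10, 8, 13, 12, 9, 12, 9, 9, 12, 13, 8, 13, 12, 8, 10, 9, 13, 9, 13, 8, 12, 8, 13, 12, 12, 8, 13, 8, 13, 9, 9, 13, 9, 9, 13, 9, 13, 8, 12, 12, 10, 8, 10, 13, 9, 12, 12, 13, 9, 13, 10, 9, 9, 9, 13, 9, 12, 13, 9, 9, 13, 12, 9, 9, 8, 10, 13, 8, 13, 9, 13, 12, 9, 8, 12, 13, 8, 13, 10, 10, 8, 13, 12, 9, 12, 9, 9, 12, 13, 8, 13, 12, 8, 10, 9, 13, 9, 13, 8, 12, 8, 13, 12, 12, 8, 13, 8, 13, 9, 9, 13, 9, 9, 13, 9, 13, 8, 12, 12, 10, 8, 10, 13, 9, 12, 12, 13, 9, 13, 10, 9, 9, 9, 13, 9, 12, 13, 9, 9, 13, 12, 9, 9, 8, 10, 13, 8, 13, 9, 13, 12, 9, 8, 12, 13, 8, 13, 10, 10, 8, 13, 12, 9, 12, 9, 9, 12, 13, 8, 13, 12, 8, 10, 9, 13, 9, 13, 8, 12, 8, 13, 12, 12, 8, 13, 8, 13, 9, 9, 13, 9, 9, 13, 9, 13, 8, 12, 12, 10, 8, 10, 13, 9, 12, 12, 13,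 9, 13, 10, 9, 9, 9, 13, 9, 12, 13, 9, 9, 13, 12, 9, 9, 8, 10, 13, 8, 13, 9, 13, 12, 9, 8, 12, 13, 8, 13, 10, 10, 8, 13, 12, 9, 12, 9, 9, 12, 13, 8, 13, 12, 8, 10, 9, 13, 9, 13, 8, 12, 8, 13, 12, 12, 8, 13, 8, 13, 9, 9, 13, 9, 9, 13, 9, 13, 8, 12, 12, 10, 8, 10, 13, 9, 12, 12, 13, 9, 13, 10, 9, 9, 9, 13, 9, 12, 13, 9, 9, 13, 12, 9, 9, 8, 10, 13, 8, 13, 9, 13, 12, 9, 8, 8, 13, 10, 9, 13, 8, 13, 10, 10, 8, 12, 12, 13, 12, 9, 12, 13, 8, 13, 10, 8, 10, 13, 9, 10, 13, 9, 9, 12, 13, 9, 10, 13, 9, 9, 13, 12, 9, 12, 13, 9, 13, 10, 8, 10, 13, 10, 9, 9, 13, 9, 12, 13, 9, 9, 13, 12, 9, 9, 8, 10, 13, 8, 13, 9, 13, 12, 9, 13, 9, 9, 13, 9, 9, 13, 9, 13, 8, 12, 12, 10, 8, 10, 13, 9, 12, 12, 13, 9, 13, 10, 9, 12, 8, 8, 10, 13, 9, 9, 13, 9, 13, 12, 9, 12, 13, 9, 13, 10, 8, 10, 13, 10,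 8, 13, 8, 8, 13, 12, 9, 9, 10, 9, 9, 12, 13, 8, 13, 12, 8, 10, 9, 12, 13, 9, 13, 9, 12, 13, 8, 10, 10, 13, 12, 8, 8, 13, 8, 13, 10, 10, 9, 13, 12, 9, 9, 9, 12, 13, 8, 13, 12, 8, 10, 9]
def tauW1 : List ℕ := [13, 8, 13, 9, 12, 8, 13, 8, 12, 12, 13, 12, 9, 12, 13, 9, 13, 10, 8, 10, 13, 10, 13, 12, 9, 12, 13, 9, 13, 10, 8, 10, 13, 10, 8, 10, 13, 8, 13, 9, 13, 12, 9, 13, 9, 9, 13, 9, 9, 13, 9, 13, 8, 12, 12, 9, 10, 13, 9, 9, 12, 13, 9, 10, 13, 9, 9, 12, 8, 8, 10, 13, 9, 9, 13, 9, 9, 9, 12, 13, 8, 13, 12, 8, 10, 9, 13, 12, 9, 12, 13, 9, 13, 10, 8, 10, 13, 10, 10, 8, 10, 13, 9, 12, 12, 13, 9, 13, 10, 9, 10, 9, 12, 12, 13, 9, 13, 8, 12, 13, 9, 9, 8, 10, 13, 8, 13, 9, 13, 12, 9, 8, 13, 8, 8, 13, 12, 9, 9, 10, 8, 12, 13, 8, 13, 10, 10, 8, 13, 12, 9, 12, 9, 9, 12, 13, 8, 13, 12,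 8, 10, 9, 13, 9, 13, 8, 12, 8, 13, 12, 12, 8, 13, 8, 13, 9, 9, 13, 9, 9, 13, 9, 13, 8, 12, 12, 10, 8, 10, 13, 9, 12, 12, 13, 9, 13, 10, 9, 9, 9, 13, 9, 12, 13, 9, 9, 13, 12, 9, 9, 8, 10, 13, 8, 13, 9, 13, 12, 9, 8, 12, 13, 8, 13, 10, 10, 8, 13, 12, 9, 12, 9, 9, 12, 13, 8, 13, 12, 8, 10, 9, 13, 9, 13, 8, 12, 8, 13, 12, 12, 8, 13, 8, 13, 9, 9, 13, 9, 9, 13, 9, 13, 8, 12, 12, 10, 8, 10, 13, 9, 12, 12, 13, 9, 13, 10, 9, 9, 9, 13, 9, 12, 13, 9, 9, 13, 12, 9, 9, 8, 10, 13, 8, 13, 9, 13, 12, 9, 8, 12, 13, 8, 13, 10, 10, 8, 13, 12, 9, 12, 9, 9, 12, 13, 8, 13, 12, 8, 10, 9, 13, 9, 13, 8, 12, 8, 13, 12, 12, 8, 13, 8, 13, 9, 9, 13, 9, 9, 13, 9, 13, 8, 12, 12, 10, 8, 10, 13, 9, 12, 12, 13, 9, 13, 10, 9, 9, 9, 13, 9, 12, 13, 9, 9, 13, 12, 9, 9, 8, 10, 13, 8, 13, 9, 13, 12, 9, 12,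 8, 8, 10, 13, 9, 9, 13, 9, 9, 9, 12, 13, 8, 13, 12, 8, 10, 9, 13, 12, 9, 12, 13, 9, 13, 10, 8, 10, 13, 10, 10, 8, 10, 13, 9, 12, 12, 13, 9, 13, 10, 9, 10, 9, 12, 12, 13, 9, 13, 8, 12, 13, 9, 9, 8, 10, 13, 8, 13, 9, 13, 12, 9, 8, 13, 8, 8, 13, 12, 9, 9, 10, 8, 8, 13, 10, 9, 13, 8, 13, 10, 10, 8, 12, 12, 13, 12, 9, 12, 13, 8, 13, 10, 8, 10, 13, 9, 10, 13, 9, 9, 12, 13, 9, 10, 13, 9, 9, 13, 12, 9, 12, 13, 9, 13, 10, 8, 10, 13, 10, 9, 9, 13, 9, 12, 13, 9, 9, 13, 12, 9, 9, 8, 10, 13, 8, 13, 9, 13, 12, 9, 13, 9, 9, 13, 9, 9, 13, 9, 13, 8, 12, 12, 10, 8, 10, 13, 9, 12, 12, 13, 9, 13, 10, 9, 12, 8, 8, 10, 13, 9, 9, 13, 9, 13, 12, 9, 12, 13, 9, 13, 10, 8, 10, 13, 10, 8, 13, 8, 8, 13, 12, 9, 9, 10, 9, 9, 12, 13, 8, 13, 12, 8, 10, 9, 12, 13, 9, 13, 9, 12, 13, 8, 10, 10, 13, 12,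 8, 8, 13, 8, 13, 10, 10, 9, 13, 12, 9, 9, 9, 12, 13, 8, 13, 12, 8, 10, 9]
def tauW2 : List ℕ := [12, 8, 8, 10, 13, 9, 9, 13, 9, 13, 12, 9, 12, 13, 9, 13, 10, 8, 10, 13, 10, 8, 13, 8, 8, 13, 12, 9, 9, 10, 9, 9, 12, 13, 8, 13, 12, 8, 10, 9, 12, 13, 9, 13, 9, 12, 13, 8, 10, 10, 13, 12, 8, 8, 13, 8, 13, 10, 10, 9, 13, 12, 9, 9, 9, 12, 13, 8, 13, 12, 8, 10, 9, 8, 8, 13, 10, 9, 13, 8, 13, 10, 10, 8, 12, 12, 13, 12, 9, 12, 13, 8, 13, 10, 8, 10, 13, 9, 10, 13, 9, 9, 12, 13, 9, 10, 13, 9, 9, 13, 12, 9, 12, 13, 9, 13, 10, 8, 10, 13, 10, 9, 9, 13, 9, 12, 13, 9, 9, 13, 12, 9, 9, 8, 10, 13, 8, 13, 9, 13, 12, 9, 13, 9, 9, 13, 9, 9, 13, 9, 13, 8, 12, 12, 10, 8, 10, 13, 9, 12, 12, 13, 9, 13, 10, 9, 12, 8, 8, 10, 13, 9, 9, 13, 9, 13, 12, 9, 12, 13, 9, 13, 10, 8, 10, 13, 10, 8, 13, 8,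 8, 13, 12, 9, 9, 10, 9, 9, 12, 13, 8, 13, 12, 8, 10, 9, 12, 13, 9, 13, 9, 12, 13, 8, 10, 10, 13, 12, 8, 8, 13, 8, 13, 10, 10, 9, 13, 12, 9, 9, 9, 12, 13, 8, 13, 12, 8, 10, 9]
def tauW3 : List ℕ := [13, 12, 9, 12, 13, 9, 13, 10, 8, 10, 13, 10, 10, 8, 10, 13, 9, 12, 12, 13, 9, 13, 10, 9, 9, 10, 13, 9, 9, 12, 13, 9, 10, 13, 9, 9, 8, 10, 13, 8, 13, 9, 13, 12, 9, 9, 9, 12, 13, 8, 13, 12, 8, 10, 9, 8, 12, 13, 8, 13, 10, 10, 8, 13, 12, 9, 12, 9, 9, 12, 13, 8, 13, 12, 8, 10, 9, 13, 9, 13, 8, 12, 8, 13, 12, 12, 8, 13, 8, 13, 9, 9, 13, 9, 9, 13, 9, 13, 8, 12, 12, 10, 8, 10, 13, 9, 12, 12, 13, 9, 13, 10, 9, 9, 9, 13, 9, 12, 13, 9, 9, 13, 12, 9, 9, 8, 10, 13, 8, 13, 9, 13, 12, 9, 8, 12, 13, 8, 13, 10, 10, 8, 13, 12, 9, 12, 9, 9, 12, 13, 8, 13, 12, 8, 10, 9, 13, 9, 13, 8, 12, 8,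 13, 12, 12, 8, 13, 8, 13, 9, 9, 13, 9, 9, 13, 9, 13, 8, 12, 12, 10, 8, 10, 13, 9, 12, 12, 13, 9, 13, 10, 9, 9, 9, 13, 9, 12, 13, 9, 9, 13, 12, 9, 9, 8, 10, 13, 8, 13, 9, 13, 12, 9, 8, 12, 13, 8, 13, 10, 10, 8, 13, 12, 9, 12, 9, 9, 12, 13, 8, 13, 12, 8, 10, 9, 13, 9, 13, 8, 12, 8, 13, 12, 12, 8, 13, 8, 13, 9, 9, 13, 9, 9, 13, 9, 13, 8, 12, 12, 10, 8, 10, 13, 9, 12, 12, 13, 9, 13, 10, 9, 9, 9, 13, 9, 12, 13, 9, 9, 13, 12, 9, 9, 8, 10, 13, 8, 13, 9, 13, 12, 9, 12, 8, 8, 10, 13, 9, 9, 13, 9, 9, 9, 12, 13, 8, 13, 12, 8, 10, 9, 13, 12, 9, 12, 13, 9, 13, 10, 8, 10, 13, 10, 10, 8, 10, 13, 9, 12, 12, 13, 9, 13, 10, 9, 10, 9, 12, 12, 13, 9, 13, 8, 12, 13, 9, 9, 8, 10, 13, 8, 13, 9, 13, 12, 9, 8, 13, 8, 8, 13, 12, 9, 9, 10, 12, 8, 8, 10, 13, 9, 9, 13, 9, 13, 12, 9, 12, 13, 9, 13,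 10, 8, 10, 13, 10, 8, 13, 8, 8, 13, 12, 9, 9, 10, 9, 9, 12, 13, 8, 13, 12, 8, 10, 9, 12, 13, 9, 13, 9, 12, 13, 8, 10, 10, 13, 12, 8, 8, 13, 8, 13, 10, 10, 9, 13, 12, 9, 9, 9, 12, 13, 8, 13, 12, 8, 10, 9]
def tauW4 : List ℕ := [9, 10, 13, 9, 9, 12, 13, 9, 10, 13, 9, 9, 13, 9, 13, 8, 12, 8, 13, 12, 12, 8, 13, 8, 13, 9, 9, 13, 9, 9, 13, 9, 13, 8, 12, 12, 9, 10, 13, 9, 9, 12, 13, 9, 10, 13, 9, 9, 8, 10, 13, 8, 13, 9, 13, 12, 9, 12, 8, 8, 10, 13, 9, 9, 13, 9, 9, 9, 12, 13, 8, 13, 12, 8, 10, 9, 13, 12, 9, 12, 13, 9, 13, 10, 8, 10, 13, 10, 10, 8, 10, 13, 9, 12, 12, 13, 9, 13, 10, 9, 10, 9, 12, 12, 13, 9, 13, 8, 12, 13, 9, 9, 8, 10, 13, 8, 13, 9, 13, 12, 9, 8, 13, 8, 8, 13, 12, 9, 9, 10, 8, 12, 13, 8, 13, 10, 10, 8, 13, 12, 9, 12, 9, 9, 12, 13, 8, 13, 12, 8, 10, 9, 13, 9, 13,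 8, 12, 8, 13, 12, 12, 8, 13, 8, 13, 9, 9, 13, 9, 9, 13, 9, 13, 8, 12, 12, 10, 8, 10, 13, 9, 12, 12, 13, 9, 13, 10, 9, 9, 9, 13, 9, 12, 13, 9, 9, 13, 12, 9, 9, 8, 10, 13, 8, 13, 9, 13, 12, 9, 8, 8, 13, 10, 9, 13, 8, 13, 10, 10, 8, 12, 12, 13, 12, 9, 12, 13, 8, 13, 10, 8, 10, 13, 9, 10, 13, 9, 9, 12, 13, 9, 10, 13, 9, 9, 13, 12, 9, 12, 13, 9, 13, 10, 8, 10, 13, 10, 9, 9, 13, 9, 12, 13, 9, 9, 13, 12, 9, 9, 8, 10, 13, 8, 13, 9, 13, 12, 9, 13, 9, 9, 13, 9, 9, 13, 9, 13, 8, 12, 12, 10, 8, 10, 13, 9, 12, 12, 13, 9, 13, 10, 9, 12, 8, 8, 10, 13, 9, 9, 13, 9, 13, 12, 9, 12, 13, 9, 13, 10, 8, 10, 13, 10, 8, 13, 8, 8, 13, 12, 9, 9, 10, 9, 9, 12, 13, 8, 13, 12, 8, 10, 9, 12, 13, 9, 13, 9, 12, 13, 8, 10, 10, 13, 12, 8, 8, 13, 8, 13, 10, 10, 9, 13, 12, 9, 9, 9, 12, 13, 8, 13, 12, 8,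 10, 9]
def tauW5 : List ℕ := [8, 13, 8, 8, 13, 12, 9, 9, 10, 8, 13, 8, 8, 13, 12, 9, 9, 10, 10, 9, 12, 12, 13, 9, 13, 8, 12, 13, 9, 9, 10, 9, 12, 12, 13, 9, 13, 8, 12, 13, 9, 9, 12, 8, 8, 10, 13, 9, 9, 13, 9, 9, 9, 12, 13, 8, 13, 12, 8, 10, 9, 13, 12, 9, 12, 13, 9, 13, 10, 8, 10, 13, 10, 10, 8, 10, 13, 9, 12, 12, 13, 9, 13, 10, 9, 10, 9, 12, 12, 13, 9, 13, 8, 12, 13, 9, 9, 8, 10, 13, 8, 13, 9, 13, 12, 9, 8, 13, 8, 8, 13, 12, 9, 9, 10, 8, 12, 13, 8, 13, 10, 10, 8, 13, 12, 9, 12, 9, 9, 12, 13, 8, 13, 12, 8, 10, 9, 13, 9, 13, 8, 12, 8, 13, 12, 12, 8, 13, 8, 13, 9, 9, 13, 9, 9, 13, 9, 13, 8, 12, 12, 10, 8, 10, 13, 9, 12, 12, 13, 9, 13, 10, 9, 9, 9, 13, 9, 12, 13, 9, 9, 13, 12, 9, 9, 8, 10, 13, 8, 13, 9, 13, 12, 9, 8, 12, 13, 8, 13, 10, 10, 8, 13, 12, 9, 12, 9, 9, 12, 13,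 8, 13, 12, 8, 10, 9, 13, 9, 13, 8, 12, 8, 13, 12, 12, 8, 13, 8, 13, 9, 9, 13, 9, 9, 13, 9, 13, 8, 12, 12, 10, 8, 10, 13, 9, 12, 12, 13, 9, 13, 10, 9, 9, 9, 13, 9, 12, 13, 9, 9, 13, 12, 9, 9, 8, 10, 13, 8, 13, 9, 13, 12, 9, 12, 8, 8, 10, 13, 9, 9, 13, 9, 9, 9, 12, 13, 8, 13, 12, 8, 10, 9, 13, 12, 9, 12, 13, 9, 13, 10, 8, 10, 13, 10, 10, 8, 10, 13, 9, 12, 12, 13, 9, 13, 10, 9, 10, 9, 12, 12, 13, 9, 13, 8, 12, 13, 9, 9, 8, 10, 13, 8, 13, 9, 13, 12, 9, 8, 13, 8, 8, 13, 12, 9, 9, 10, 8, 8, 13, 10, 9, 13, 8, 13, 10, 10, 8, 12, 12, 13, 12, 9, 12, 13, 8, 13, 10, 8, 10, 13, 9, 10, 13, 9, 9, 12, 13, 9, 10, 13, 9, 9, 13, 12, 9, 12, 13, 9, 13, 10, 8, 10, 13, 10, 9, 9, 13, 9, 12, 13, 9, 9, 13, 12, 9, 9, 8, 10, 13, 8, 13, 9, 13, 12, 9, 13, 9, 9, 13, 9, 9, 13, 9, 13, 8, 12, 12, 10,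 8, 10, 13, 9, 12, 12, 13, 9, 13, 10, 9, 12, 8, 8, 10, 13, 9, 9, 13, 9, 13, 12, 9, 12, 13, 9, 13, 10, 8, 10, 13, 10, 8, 13, 8, 8, 13, 12, 9, 9, 10, 9, 9, 12, 13, 8, 13, 12, 8, 10, 9, 12, 13, 9, 13, 9, 12, 13, 8, 10, 10, 13, 12, 8, 8, 13, 8, 13, 10, 10, 9, 13, 12, 9, 9, 9, 12, 13, 8, 13, 12, 8, 10, 9]
def tauW6 : List ℕ := [12, 13, 9, 13, 9, 12, 13, 8, 10, 10, 13, 13, 9, 13, 8, 12, 8, 13, 12, 12, 8, 13, 8, 9, 9, 12, 13, 8, 13, 12, 8, 10, 9, 8, 10, 13, 8, 13, 9, 13, 12, 9, 8, 13, 8, 8, 13, 12, 9, 9, 10, 8, 8, 13, 10, 9, 13, 8, 13, 10, 10, 8, 12, 12, 13, 12, 9, 12, 13, 8, 13, 10, 8, 10, 13, 9, 10, 13, 9, 9, 12, 13, 9, 10, 13, 9, 9, 13, 12, 9, 12, 13, 9, 13, 10, 8, 10, 13, 10, 9, 9, 13, 9, 12, 13, 9, 9, 13, 12, 9, 9, 8, 10, 13, 8, 13, 9, 13, 12, 9, 13, 9, 9, 13, 9, 9, 13,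 9, 13, 8, 12, 12, 10, 8, 10, 13, 9, 12, 12, 13, 9, 13, 10, 9, 12, 8, 8, 10, 13, 9, 9, 13, 9, 13, 12, 9, 12, 13, 9, 13, 10, 8, 10, 13, 10, 8, 13, 8, 8, 13, 12, 9, 9, 10, 9, 9, 12, 13, 8, 13, 12, 8, 10, 9, 12, 13, 9, 13, 9, 12, 13, 8, 10, 10, 13, 12, 8, 8, 13, 8, 13, 10, 10, 9, 13, 12, 9, 9, 9, 12, 13, 8, 13, 12, 8, 10, 9]
def tauW7 : List ℕ := [8, 8, 13, 10, 9, 13, 8, 13, 10, 10, 8, 12, 12, 13, 12, 9, 12, 13, 8, 13, 10, 8, 10, 13, 9, 10, 13, 9, 9, 12, 13, 9, 10, 13, 9, 9, 13, 12, 9, 12, 13, 9, 13, 10, 8, 10, 13, 10, 9, 9, 13, 9, 12, 13, 9, 9, 13, 12, 9, 9, 8, 10, 13, 8, 13, 9, 13, 12, 9, 13, 9, 9, 13, 9, 9, 13, 9, 13, 8, 12, 12, 10, 8, 10, 13, 9, 12, 12, 13, 9, 13, 10, 9, 12, 8, 8, 10, 13, 9, 9, 13, 9, 13, 12, 9, 12, 13, 9, 13, 10, 8, 10, 13, 10, 8, 13, 8, 8, 13, 12,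 9, 9, 10, 9, 9, 12, 13, 8, 13, 12, 8, 10, 9, 12, 13, 9, 13, 9, 12, 13, 8, 10, 10, 13, 12, 8, 8, 13, 8, 13, 10, 10, 9, 13, 12, 9, 9, 9, 12, 13, 8, 13, 12, 8, 10, 9]
/-- the image of a letter under the automorphism, as a word in the tables (first letter applied first) -/
def tauW (l : ℕ) : List ℕ := @Bool.rec (fun _ => List ℕ) (@Bool.rec (fun _ => List ℕ) (@Bool.rec (fun _ => List ℕ) (tauW0) (tauW1) (Nat.ble 1 l)) (@Bool.rec (fun _ => List ℕ) (tauW2) (tauW3) (Nat.ble 3 l)) (Nat.ble 2 l)) (@Bool.rec (fun _ => List ℕ) (@Bool.rec (fun _ => List ℕ) (tauW4) (tauW5) (Nat.ble 5 l)) (@Bool.rec (fun _ => List ℕ) (tauW6) (tauW7) (Nat.ble 7 l)) (Nat.ble 6 l)) (Nat.ble 4 l)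
/-- the action of the image of a word in the generators -/
def actT (L : List ℕ) (i : ℕ) : ℕ := L.foldr (fun l acc => SQ.evalApp tb (tauW l) acc) i
theorem tauW_lt : ∀ l, l < 8 → ∀ k ∈ tauW l, k < 14 := by decide +kernel
theorem trel_0 : ∀ i ∈ baseL, Nat.beq (actT [2, 2] i) i = true := by decide +kernel
theorem trel_1 : ∀ i ∈ baseL, Nat.beq (actT [2, 3, 2, 3, 2, 3] i) i = true := by decide +kernel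
theorem trel_2 : ∀ i ∈ baseL, Nat.beq (actT [2, 4, 2, 4] i) i = true := by decide +kernel
theorem trel_3 : ∀ i ∈ baseL, Nat.beq (actT [2, 5, 2, 5] i) i = true := by decide +kernel
theorem trel_4 : ∀ i ∈ baseL, Nat.beq (actT [2, 6, 2, 6] i) i = true := by decide +kernel
theorem trel_5 : ∀ i ∈ baseL, Nat.beq (actT [2, 7, 2, 7] i) i = true := by decide +kernel
theorem trel_6 : ∀ i ∈ baseL, Nat.beq (actT [3, 3] i) i = true := by decide +kernel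
theorem trel_7 : ∀ i ∈ baseL, Nat.beq (actT [3, 4, 3, 4, 3, 4] i) i = true := by decide +kernel
theorem trel_8 : ∀ i ∈ baseL, Nat.beq (actT [3, 5, 3, 5] i) i = true := by decide +kernel
theorem trel_9 : ∀ i ∈ baseL, Nat.beq (actT [3, 6, 3, 6] i) i = true := by decide +kernel
theorem trel_10 : ∀ i ∈ baseL, Nat.beq (actT [3, 7, 3, 7] i) i = true := by decide +kernel
theorem trel_11 : ∀ i ∈ baseL, Nat.beq (actT [4, 4] i) i = true := by decide +kernel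
theorem trel_12 : ∀ i ∈ baseL, Nat.beq (actT [4, 5, 4, 5, 4, 5, 4, 5, 4, 5, 4, 5, 4, 5, 4, 5] i) i = true := by decide +kernel
theorem trel_13 : ∀ i ∈ baseL, Nat.beq (actT [4, 6, 4, 6] i) i = true := by decide +kernel
theorem trel_14 : ∀ i ∈ baseL, Nat.beq (actT [4, 7, 4, 7] i) i = true := by decide +kernel
theorem trel_15 : ∀ i ∈ baseL, Nat.beq (actT [5, 5] i) i = true := by decide +kernel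
theorem trel_16 : ∀ i ∈ baseL, Nat.beq (actT [5, 6, 5, 6, 5, 6] i) i = true := by decide +kernel
theorem trel_17 : ∀ i ∈ baseL, Nat.beq (actT [5, 7, 5, 7] i) i = true := by decide +kernel
theorem trel_18 : ∀ i ∈ baseL, Nat.beq (actT [6, 6] i) i = true := by decide +kernel
theorem trel_19 : ∀ i ∈ baseL, Nat.beq (actT [6, 7, 6, 7, 6, 7] i) i = true := by decide +kernel
theorem trel_20 : ∀ i ∈ baseL, Nat.beq (actT [7, 7] i) i = true := by decide +kernel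
theorem trel_21 : ∀ i ∈ baseL, Nat.beq (actT [2, 7, 1, 1] i) i = true := by decide +kernel
theorem trel_22 : ∀ i ∈ baseL, Nat.beq (actT [2, 7, 5, 4, 5, 4, 5, 4, 5, 4] i) i = true := by decide +kernel
theorem trel_23 : ∀ i ∈ baseL, Nat.beq (actT [4, 1, 5, 1, 5, 4, 5, 0, 5, 0] i) i = true := by decide +kernel
theorem trel_24 : ∀ i ∈ baseL, Nat.beq (actT [5, 1, 4, 1, 4, 5, 4, 0, 4, 0] i) i = true := by decide +kernel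
theorem trel_25 : ∀ i ∈ baseL, Nat.beq (actT [3, 4, 5, 0, 3, 4, 5, 0, 3, 4, 5, 0, 3, 4, 5, 0, 3, 4, 5, 0] i) i = true := by decide +kernel
theorem trel_26 : ∀ i ∈ baseL, Nat.beq (actT [0, 3, 4, 0, 4, 3, 0, 3, 4, 0, 4] i) i = true := by decide +kernel
theorem trel_27 : ∀ i ∈ baseL, Nat.beq (actT [0, 6, 5, 0, 5, 6, 0, 6, 5, 0, 5] i) i = true := by decide +kernel
def realL : List (List ℕ) := [[2, 2], [2, 3, 2, 3, 2, 3], [2, 4, 2, 4], [2, 5, 2, 5], [2, 6, 2, 6], [2, 7, 2, 7], [3, 3], [3, 4, 3, 4, 3, 4], [3, 5, 3, 5], [3, 6, 3, 6], [3, 7, 3, 7], [4, 4], [4, 5, 4, 5, 4, 5, 4, 5, 4, 5, 4, 5, 4, 5, 4, 5], [4, 6, 4, 6], [4, 7, 4, 7], [5, 5], [5, 6, 5, 6, 5, 6], [5, 7, 5, 7], [6, 6], [6, 7, 6, 7, 6, 7], [7, 7], [2, 7, 1, 1], [2, 7, 5, 4, 5, 4, 5, 4, 5, 4], [4, 1, 5, 1, 5, 4, 5,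 0, 5, 0], [5, 1, 4, 1, 4, 5, 4, 0, 4, 0], [3, 4, 5, 0, 3, 4, 5, 0, 3, 4, 5, 0, 3, 4, 5, 0, 3, 4, 5, 0], [0, 3, 4, 0, 4, 3, 0, 3, 4, 0, 4], [0, 6, 5, 0, 5, 6, 0, 6, 5, 0, 5]]
theorem trel_all : ∀ L ∈ realL, ∀ i ∈ baseL, Nat.beq (actT L i) i = true := by
  intro L hL
  simp only [realL, List.mem_cons, List.not_mem_nil, or_false] at hL
  rcases hL with rfl | rfl | rfl | rfl | rfl | rfl | rfl | rfl | rfl | rfl | rfl | rfl | rfl | rfl | rfl | rfl | rfl | rfl | rfl | rfl | rfl | rfl | rfl | rfl | rfl | rfl | rfl | rfl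
  · exact trel_0
  · exact trel_1
  · exact trel_2
  · exact trel_3
  · exact trel_4
  · exact trel_5
  · exact trel_6
  · exact trel_7
  · exact trel_8
  · exact trel_9
  · exact trel_10
  · exact trel_11
  · exact trel_12
  · exact trel_13
  · exact trel_14
  · exact trel_15
  · exact trel_16
  · exact trel_17
  · exact trel_18
  · exact trel_19
  · exact trel_20
  · exact trel_21
  · exact trel_22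
  · exact trel_23
  · exact trel_24
  · exact trel_25
  · exact trel_26
  · exact trel_27
theorem tinv_0 : ∀ i ∈ baseL, Nat.beq (actT [1, 0] i) i = true := by decide +kernel
theorem tinv_1 : ∀ i ∈ baseL, Nat.beq (actT [0, 1] i) i = true := by decide +kernel
theorem tinv_2 : ∀ i ∈ baseL, Nat.beq (actT [2, 2] i) i = true := by decide +kernel
theorem tinv_3 : ∀ i ∈ baseL, Nat.beq (actT [3, 3] i) i = true := by decide +kernel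
theorem tinv_4 : ∀ i ∈ baseL, Nat.beq (actT [4, 4] i) i = true := by decide +kernel
theorem tinv_5 : ∀ i ∈ baseL, Nat.beq (actT [5, 5] i) i = true := by decide +kernel
theorem tinv_6 : ∀ i ∈ baseL, Nat.beq (actT [6, 6] i) i = true := by decide +kernel
theorem tinv_7 : ∀ i ∈ baseL, Nat.beq (actT [7, 7] i) i = true := by decide +kernel
theorem tx_ok : ∀ i ∈ baseL, Nat.beq (actT [3, 4, 5, 6, 0, 3, 4, 0, 5] i) (u9 i) = true := by decide +kernel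

end Cfsg.Agent.Lib.Helper8.ONO
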