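import Cfsg.Agent.S1699
import Cfsg.Agent.Lib.Helper8.ONO2
import Cfsg.Agent.Lib.Helper8.ONO5

set_option autoImplicit false
set_option maxRecDepth 100000

/-! The O'Nan group on 122760 points: the tables are realised by group elements; the verified chains; generation (generated). -/

namespace Cfsg.Agent.Lib.Helper8.ONO

open Cfsg.Spor Cfsg.Agent.Lib.Helper4.TC Cfsg.Agent.Lib.Helper4.TCD Cfsg.Agent.Lib.Helper4.TC.Log

theorem gen_0_0 : SQ.allR 0 61380 (fun i => Nat.beq (u0 i) (Tab.act ON1.T ON1.D [0] i)) = true := by decide +kernel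
theorem gen_0_1 : SQ.allR 61380 61380 (fun i => Nat.beq (u0 i) (Tab.act ON1.T ON1.D [0] i)) = true := by decide +kernel
theorem gen_0_all : ∀ i, i < 122760 → (Nat.beq (u0 i) (Tab.act ON1.T ON1.D [0] i)) = true := by
  intro i hp
  rcases Nat.lt_or_ge i 61380 with h | h
  · exact SQ.allR_spec gen_0_0 i (by omega) (by omega)
  exact SQ.allR_spec gen_0_1 i (by omega) (by omega)

theorem gen_1_0 : SQ.allR 0 61380 (fun i => Nat.beq (u1 i) (Tab.act ON1.T ON1.D [1] i)) = true := by decide +kernel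
theorem gen_1_1 : SQ.allR 61380 61380 (fun i => Nat.beq (u1 i) (Tab.act ON1.T ON1.D [1] i)) = true := by decide +kernel
theorem gen_1_all : ∀ i, i < 122760 → (Nat.beq (u1 i) (Tab.act ON1.T ON1.D [1] i)) = true := by
  intro i hp
  rcases Nat.lt_or_ge i 61380 with h | h
  · exact SQ.allR_spec gen_1_0 i (by omega) (by omega)
  exact SQ.allR_spec gen_1_1 i (by omega) (by omega)

theorem gen_2_0 : SQ.allR 0 61380 (fun i => Nat.beq (u2 i) (Tab.act ON1.T ON1.D [2] i)) = true := by decide +kernel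
theorem gen_2_1 : SQ.allR 61380 61380 (fun i => Nat.beq (u2 i) (Tab.act ON1.T ON1.D [2] i)) = true := by decide +kernel
theorem gen_2_all : ∀ i, i < 122760 → (Nat.beq (u2 i) (Tab.act ON1.T ON1.D [2] i)) = true := by
  intro i hp
  rcases Nat.lt_or_ge i 61380 with h | h
  · exact SQ.allR_spec gen_2_0 i (by omega) (by omega)
  exact SQ.allR_spec gen_2_1 i (by omega) (by omega)

theorem gen_3_0 : SQ.allR 0 61380 (fun i => Nat.beq (u3 i) (Tab.act ON1.T ON1.D [3] i)) = true := by decide +kernel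
theorem gen_3_1 : SQ.allR 61380 61380 (fun i => Nat.beq (u3 i) (Tab.act ON1.T ON1.D [3] i)) = true := by decide +kernel
theorem gen_3_all : ∀ i, i < 122760 → (Nat.beq (u3 i) (Tab.act ON1.T ON1.D [3] i)) = true := by
  intro i hp
  rcases Nat.lt_or_ge i 61380 with h | h
  · exact SQ.allR_spec gen_3_0 i (by omega) (by omega)
  exact SQ.allR_spec gen_3_1 i (by omega) (by omega)

theorem gen_4_0 : SQ.allR 0 61380 (fun i => Nat.beq (u4 i) (Tab.act ON1.T ON1.D [4] i)) = true := by decide +kernel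
theorem gen_4_1 : SQ.allR 61380 61380 (fun i => Nat.beq (u4 i) (Tab.act ON1.T ON1.D [4] i)) = true := by decide +kernel
theorem gen_4_all : ∀ i, i < 122760 → (Nat.beq (u4 i) (Tab.act ON1.T ON1.D [4] i)) = true := by
  intro i hp
  rcases Nat.lt_or_ge i 61380 with h | h
  · exact SQ.allR_spec gen_4_0 i (by omega) (by omega)
  exact SQ.allR_spec gen_4_1 i (by omega) (by omega)

theorem gen_5_0 : SQ.allR 0 61380 (fun i => Nat.beq (u5 i) (Tab.act ON1.T ON1.D [5] i)) = true := by decide +kernel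
theorem gen_5_1 : SQ.allR 61380 61380 (fun i => Nat.beq (u5 i) (Tab.act ON1.T ON1.D [5] i)) = true := by decide +kernel
theorem gen_5_all : ∀ i, i < 122760 → (Nat.beq (u5 i) (Tab.act ON1.T ON1.D [5] i)) = true := by
  intro i hp
  rcases Nat.lt_or_ge i 61380 with h | h
  · exact SQ.allR_spec gen_5_0 i (by omega) (by omega)
  exact SQ.allR_spec gen_5_1 i (by omega) (by omega)

theorem gen_6_0 : SQ.allR 0 61380 (fun i => Nat.beq (u6 i) (Tab.act ON1.T ON1.D [6] i)) = true := by decide +kernel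
theorem gen_6_1 : SQ.allR 61380 61380 (fun i => Nat.beq (u6 i) (Tab.act ON1.T ON1.D [6] i)) = true := by decide +kernel
theorem gen_6_all : ∀ i, i < 122760 → (Nat.beq (u6 i) (Tab.act ON1.T ON1.D [6] i)) = true := by
  intro i hp
  rcases Nat.lt_or_ge i 61380 with h | h
  · exact SQ.allR_spec gen_6_0 i (by omega) (by omega)
  exact SQ.allR_spec gen_6_1 i (by omega) (by omega)

theorem gen_7_0 : SQ.allR 0 61380 (fun i => Nat.beq (u7 i) (Tab.act ON1.T ON1.D [7] i)) = true := by decide +kernel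
theorem gen_7_1 : SQ.allR 61380 61380 (fun i => Nat.beq (u7 i) (Tab.act ON1.T ON1.D [7] i)) = true := by decide +kernel
theorem gen_7_all : ∀ i, i < 122760 → (Nat.beq (u7 i) (Tab.act ON1.T ON1.D [7] i)) = true := by
  intro i hp
  rcases Nat.lt_or_ge i 61380 with h | h
  · exact SQ.allR_spec gen_7_0 i (by omega) (by omega)
  exact SQ.allR_spec gen_7_1 i (by omega) (by omega)


/-- the presented group -/
abbrev Gp : Type := PON.P.Grp

/-- the action on the 122760 points -/
noncomputable def φ : Gp →* Equiv.Perm (Fin 122760) := ON1.inst.phi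

theorem finGp : Finite Gp := Cfsg.Agent.S1699.order_aux.1

theorem cardGp : Nat.card Gp = 460815505920 := Cfsg.Agent.S1699.order_aux.2.2

theorem φ_inj : Function.Injective φ := Cfsg.Agent.S1699.order_aux.2.1

theorem φ_word (w : List ℕ) (hw : ∀ y ∈ w, y < 8) (x : Fin 122760) :
    (φ (wordP PON.P.gR w) x).1 = Tab.act ON1.T ON1.D w x.1 := by
  show (ON1.inst.phi (wordP PON.P.gR w) x).1 = Tab.act ON1.T ON1.D w x.1
  rw [← ON1.inst.gE_word w hw]
  exact ON1.inst.hC.phi_word ON1.inst.phi ON1.inst.hphi w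
    (fun y hy => by rw [ON1.inst.hk]; exact hw y hy) x

/-- the permutation group on the 122760 points -/
noncomputable abbrev Kp : Subgroup (Equiv.Perm (Fin 122760)) := φ.range

theorem ub_act (k : ℕ) (hk : k < 8) (i : ℕ) (hi : i < 122760) :
    ub k i = Tab.act ON1.T ON1.D [k] i := by
  interval_cases k
  · exact Nat.eq_of_beq_eq_true (gen_0_all i hi)
  · exact Nat.eq_of_beq_eq_true (gen_1_all i hi)
  · exact Nat.eq_of_beq_eq_true (gen_2_all i hi)
  · exact Nat.eq_of_beq_eq_true (gen_3_all i hi)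
  · exact Nat.eq_of_beq_eq_true (gen_4_all i hi)
  · exact Nat.eq_of_beq_eq_true (gen_5_all i hi)
  · exact Nat.eq_of_beq_eq_true (gen_6_all i hi)
  · exact Nat.eq_of_beq_eq_true (gen_7_all i hi)

/-- the action of a word in the generators -/
def actU (w : List ℕ) (i : ℕ) : ℕ := w.foldr (fun k acc => ub k acc) i

theorem actU_cons (k : ℕ) (w : List ℕ) (i : ℕ) : actU (k :: w) i = ub k (actU w i) := rfl

theorem act_lt (w : List ℕ) (hw : ∀ y ∈ w, y < 8) (i : ℕ) (hi : i < 122760) :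
    Tab.act ON1.T ON1.D w i < 122760 := by
  have := φ_word w hw ⟨i, hi⟩
  show Tab.act ON1.T ON1.D w (⟨i, hi⟩ : Fin 122760).1 < 122760
  rw [← this]
  exact (φ (wordP PON.P.gR w) ⟨i, hi⟩).2

theorem act_eq (w : List ℕ) (hw : ∀ y ∈ w, y < 8) (i : ℕ) (hi : i < 122760) :
    Tab.act ON1.T ON1.D w i = actU w i := by
  induction w with
  | nil => rfl
  | cons k w ih =>
    have hw' : ∀ y ∈ w, y < 8 := fun y hy => hw y (List.mem_cons_of_mem _ hy)
    have e : Tab.act ON1.T ON1.D (k :: w) i =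
        Tab.act ON1.T ON1.D [k] (Tab.act ON1.T ON1.D w i) := rfl
    rw [e, ← ub_act k (hw k List.mem_cons_self) _ (act_lt w hw' i hi), ih hw', actU_cons]

theorem gN_word (w : List ℕ) (hw : ∀ y ∈ w, y < 8) (i : ℕ) (hi : i < 122760) :
    SQ.gN (φ (wordP PON.P.gR w)) i = actU w i := by
  rw [SQ.gN_of_lt _ hi, ← act_eq w hw i hi]
  exact φ_word w hw ⟨i, hi⟩

theorem real_gen (k : ℕ) (hk : k < 8) : SQ.Real Kp (ub k) := by
  refine ⟨φ (wordP PON.P.gR [k]), ⟨_, rfl⟩, fun i hi => ?_⟩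
  rw [gN_word [k] (by intro y hy; rw [List.mem_singleton] at hy; omega) i hi]
  rfl

theorem real_0 : SQ.Real Kp u0 := real_gen 0 (by decide)
theorem real_1 : SQ.Real Kp u1 := real_gen 1 (by decide)
theorem real_2 : SQ.Real Kp u2 := real_gen 2 (by decide)
theorem real_3 : SQ.Real Kp u3 := real_gen 3 (by decide)
theorem real_4 : SQ.Real Kp u4 := real_gen 4 (by decide)
theorem real_5 : SQ.Real Kp u5 := real_gen 5 (by decide)
theorem real_6 : SQ.Real Kp u6 := real_gen 6 (by decide)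
theorem real_7 : SQ.Real Kp u7 := real_gen 7 (by decide)

theorem real_8 : SQ.Real Kp u8 :=
  SQ.real_of_eq (fL := fun x => u3 (u4 (u5 (u6 (u0 (u3 (u4 (u0 (u5 (x)))))))))) (fR := fun x => x)
    ((real_3).comp ((real_4).comp ((real_5).comp ((real_6).comp ((real_0).comp ((real_3).comp ((real_4).comp ((real_0).comp (real_5)))))))))
    (SQ.real_id)
    (fun x hx => Nat.eq_of_beq_eq_true (cert_8_all x hx))
theorem real_9 : SQ.Real Kp u9 :=
  SQ.real_of_eq (fL := fun x => x) (fR := fun x => u8 (x))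
    (SQ.real_id)
    (real_8)
    (fun x hx => Nat.eq_of_beq_eq_true (cert_9_all x hx))
theorem real_10 : SQ.Real Kp u10 :=
  SQ.real_of_eq (fL := fun x => u4 (u5 (u3 (u0 (u6 (u5 (u4 (u1 (u6 (u3 (u1 (u5 (u4 (u6 (u5 (u4 (u3 (u5 (u1 (u4 (u5 (x)))))))))))))))))))))) (fR := fun x => x)
    ((real_4).comp ((real_5).comp ((real_3).comp ((real_0).comp ((real_6).comp ((real_5).comp ((real_4).comp ((real_1).comp ((real_6).comp ((real_3).comp ((real_1).comp ((real_5).comp ((real_4).comp ((real_6).comp ((real_5).comp ((real_4).comp ((real_3).comp ((real_5).comp ((real_1).comp ((real_4).comp (real_5)))))))))))))))))))))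
    (SQ.real_id)
    (fun x hx => Nat.eq_of_beq_eq_true (cert_10_all x hx))
theorem real_11 : SQ.Real Kp u11 :=
  SQ.real_of_eq (fL := fun x => u10 (u10 (u10 (x)))) (fR := fun x => x)
    ((real_10).comp ((real_10).comp (real_10)))
    (SQ.real_id)
    (fun x hx => Nat.eq_of_beq_eq_true (cert_11_all x hx))
theorem real_12 : SQ.Real Kp u12 :=
  SQ.real_of_eq (fL := fun x => x) (fR := fun x => u10 (x))
    (SQ.real_id)
    (real_10)
    (fun x hx => Nat.eq_of_beq_eq_true (cert_12_all x hx))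
theorem real_13 : SQ.Real Kp u13 :=
  SQ.real_of_eq (fL := fun x => u0 (u3 (u4 (u5 (u6 (u4 (u1 (u3 (u4 (u5 (u4 (u1 (u6 (u5 (u1 (u2 (u3 (u4 (u0 (u3 (u1 (x)))))))))))))))))))))) (fR := fun x => x)
    ((real_0).comp ((real_3).comp ((real_4).comp ((real_5).comp ((real_6).comp ((real_4).comp ((real_1).comp ((real_3).comp ((real_4).comp ((real_5).comp ((real_4).comp ((real_1).comp ((real_6).comp ((real_5).comp ((real_1).comp ((real_2).comp ((real_3).comp ((real_4).comp ((real_0).comp ((real_3).comp (real_1)))))))))))))))))))))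
    (SQ.real_id)
    (fun x hx => Nat.eq_of_beq_eq_true (cert_13_all x hx))

theorem real_tb : ∀ k, k < 14 → SQ.Real Kp (tb k) := by
  intro k hk
  interval_cases k
  · exact real_0
  · exact real_1
  · exact real_2
  · exact real_3
  · exact real_4
  · exact real_5
  · exact real_6
  · exact real_7
  · exact real_8
  · exact real_9
  · exact real_10
  · exact real_11
  · exact real_12
  · exact real_13

theorem real_stepX0 : ∀ l, 2 ≤ l → l < LX0.ng + 2 → SQ.Real Kp (LX0.step l) := by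
  intro l h1 h2
  have h3 : l < 15 := h2
  interval_cases l
  · exact real_0
  · exact real_1
  · exact real_2
  · exact real_3
  · exact real_4
  · exact real_5
  · exact real_6
  · exact real_7
  · exact real_8
  · exact real_9
  · exact real_10
  · exact real_12
  · exact real_11

theorem real_stepX1 : ∀ l, 2 ≤ l → l < LX1.ng + 2 → SQ.Real Kp (LX1.step l) := by
  intro l h1 h2
  have h3 : l < 8 := h2
  interval_cases l
  · exact real_2
  · exact real_3
  · exact real_4
  · exact real_5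
  · exact real_6
  · exact real_7

theorem wX2_0_lt : ∀ k ∈ wX2_0, k < 14 := by decide +kernel
theorem wX2_1_lt : ∀ k ∈ wX2_1, k < 14 := by decide +kernel
theorem wX2_2_lt : ∀ k ∈ wX2_2, k < 14 := by decide +kernel
theorem wX2_3_lt : ∀ k ∈ wX2_3, k < 14 := by decide +kernel
theorem wX2_4_lt : ∀ k ∈ wX2_4, k < 14 := by decide +kernel
theorem real_stepX2 : ∀ l, 2 ≤ l → l < LX2.ng + 2 → SQ.Real Kp (LX2.step l) := by
  intro l h1 h2
  have h3 : l < 7 := h2
  interval_cases l
  · exact SQ.real_evalApp wX2_0 (fun k hk => real_tb k (wX2_0_lt k hk))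
  · exact SQ.real_evalApp wX2_1 (fun k hk => real_tb k (wX2_1_lt k hk))
  · exact SQ.real_evalApp wX2_2 (fun k hk => real_tb k (wX2_2_lt k hk))
  · exact SQ.real_evalApp wX2_3 (fun k hk => real_tb k (wX2_3_lt k hk))
  · exact SQ.real_evalApp wX2_4 (fun k hk => real_tb k (wX2_4_lt k hk))

theorem wX3_0_lt : ∀ k ∈ wX3_0, k < 14 := by decide +kernel
theorem wX3_1_lt : ∀ k ∈ wX3_1, k < 14 := by decide +kernel
theorem real_stepX3 : ∀ l, 2 ≤ l → l < LX3.ng + 2 → SQ.Real Kp (LX3.step l) := by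
  intro l h1 h2
  have h3 : l < 4 := h2
  interval_cases l
  · exact SQ.real_evalApp wX3_0 (fun k hk => real_tb k (wX3_0_lt k hk))
  · exact SQ.real_evalApp wX3_1 (fun k hk => real_tb k (wX3_1_lt k hk))

theorem real_stepZ1 : ∀ l, 2 ≤ l → l < LZ1.ng + 2 → SQ.Real Kp (LZ1.step l) := by
  intro l h1 h2
  have h3 : l < 8 := h2
  interval_cases l
  · exact real_2
  · exact real_3
  · exact real_4
  · exact real_5
  · exact real_6
  · exact real_7

theorem wZ2_0_lt : ∀ k ∈ wZ2_0, k < 14 := by decide +kernel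
theorem wZ2_1_lt : ∀ k ∈ wZ2_1, k < 14 := by decide +kernel
theorem real_stepZ2 : ∀ l, 2 ≤ l → l < LZ2.ng + 2 → SQ.Real Kp (LZ2.step l) := by
  intro l h1 h2
  have h3 : l < 4 := h2
  interval_cases l
  · exact SQ.real_evalApp wZ2_0 (fun k hk => real_tb k (wZ2_0_lt k hk))
  · exact SQ.real_evalApp wZ2_1 (fun k hk => real_tb k (wZ2_1_lt k hk))

theorem real_steps_X : ∀ L ∈ LsX, ∀ l, 2 ≤ l → l < L.ng + 2 → SQ.Real Kp (L.step l) := by
  intro L hL
  simp only [LsX, List.mem_cons, List.not_mem_nil, or_false] at hL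
  rcases hL with rfl | rfl | rfl | rfl
  · exact real_stepX0
  · exact real_stepX1
  · exact real_stepX2
  · exact real_stepX3

theorem real_steps_Z : ∀ L ∈ LsZ, ∀ l, 2 ≤ l → l < L.ng + 2 → SQ.Real Kp (L.step l) := by
  intro L hL
  simp only [LsZ, List.mem_cons, List.not_mem_nil, or_false] at hL
  rcases hL with rfl | rfl | rfl
  · exact real_stepX0
  · exact real_stepZ1
  · exact real_stepZ2

theorem card_Kp : Nat.card Kp = 460815505920 := by
  rw [← cardGp]
  exact (Nat.card_congr (MonoidHom.ofInjective φ_inj).toEquiv).symm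

theorem chainX : SQ.ChainOK Kp LsX :=
  SQ.chainOK_of_checks Kp LsX real_steps_X lvOK_LsX fixOK_X (by rw [card_Kp]; exact size_X)

theorem chainZ : SQ.ChainOK Kp LsZ :=
  SQ.chainOK_of_checks Kp LsZ real_steps_Z lvOK_LsZ fixOK_Z (by rw [card_Kp]; exact size_Z)

/-- two elements of the group that agree on the base of the first chain are equal -/
theorem eq_of_gN_base (g g' : Gp) (h : ∀ i ∈ baseL, SQ.gN (φ g) i = SQ.gN (φ g') i) : g = g' := by
  apply φ_inj
  apply chainX.eq_of_base ⟨g, rfl⟩ ⟨g', rfl⟩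
  intro L hL
  apply h
  rw [← baseL_eq]
  exact List.mem_map.2 ⟨L, hL, rfl⟩

theorem eq_one_of_gN_base (g : Gp) (h : ∀ i ∈ baseL, SQ.gN (φ g) i = i) : g = 1 := by
  apply eq_of_gN_base
  intro i hi
  rw [h i hi, map_one, SQ.gN_one]

/-! ### generation by `x`, `n`, `z` -/

/-- the tables used for the third chain -/
def genL : List ℕ := [8, 9, 10, 12, 13]

theorem real2_tb (K' : Subgroup (Equiv.Perm (Fin 122760))) (hx : SQ.Real K' u8) (hn : SQ.Real K' u10)
    (hz : SQ.Real K' u13) : ∀ k ∈ genL, SQ.Real K' (tb k) := by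
  intro k hk
  simp only [genL, List.mem_cons, List.not_mem_nil, or_false] at hk
  rcases hk with rfl | rfl | rfl | rfl | rfl
  · exact hx
  · exact SQ.real_inv hx (fun x hx' => (Nat.eq_of_beq_eq_true (cert_9_all x hx')).symm)
  · exact hn
  · exact SQ.real_inv hn (fun x hx' => (Nat.eq_of_beq_eq_true (cert_12_all x hx')).symm)
  · exact hz

theorem real2_stepG0 (K' : Subgroup (Equiv.Perm (Fin 122760))) (hx : SQ.Real K' u8) (hn : SQ.Real K' u10) (hz : SQ.Real K' u13) : ∀ l, 2 ≤ l → l < LG0.ng + 2 → SQ.Real K' (LG0.step l) := by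
  intro l h1 h2
  have h3 : l < 7 := h2
  have htb := real2_tb K' hx hn hz
  interval_cases l
  · exact htb 8 (by decide)
  · exact htb 9 (by decide)
  · exact htb 10 (by decide)
  · exact htb 12 (by decide)
  · exact htb 13 (by decide)

theorem wG1_0_mem : ∀ k ∈ wG1_0, k ∈ genL := by decide +kernel
theorem wG1_1_mem : ∀ k ∈ wG1_1, k ∈ genL := by decide +kernel
theorem wG1_2_mem : ∀ k ∈ wG1_2, k ∈ genL := by decide +kernel
theorem wG1_3_mem : ∀ k ∈ wG1_3, k ∈ genL := by decide +kernel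
theorem wG1_4_mem : ∀ k ∈ wG1_4, k ∈ genL := by decide +kernel
theorem wG1_5_mem : ∀ k ∈ wG1_5, k ∈ genL := by decide +kernel
theorem wG1_6_mem : ∀ k ∈ wG1_6, k ∈ genL := by decide +kernel
theorem wG1_7_mem : ∀ k ∈ wG1_7, k ∈ genL := by decide +kernel
theorem wG1_8_mem : ∀ k ∈ wG1_8, k ∈ genL := by decide +kernel
theorem wG1_9_mem : ∀ k ∈ wG1_9, k ∈ genL := by decide +kernel
theorem wG1_10_mem : ∀ k ∈ wG1_10, k ∈ genL := by decide +kernel
theorem wG1_11_mem : ∀ k ∈ wG1_11, k ∈ genL := by decide +kernel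
theorem real2_stepG1 (K' : Subgroup (Equiv.Perm (Fin 122760))) (hx : SQ.Real K' u8) (hn : SQ.Real K' u10) (hz : SQ.Real K' u13) : ∀ l, 2 ≤ l → l < LG1.ng + 2 → SQ.Real K' (LG1.step l) := by
  intro l h1 h2
  have h3 : l < 14 := h2
  have htb := real2_tb K' hx hn hz
  interval_cases l
  · exact SQ.real_evalApp wG1_0 (fun k hk => htb k (wG1_0_mem k hk))
  · exact SQ.real_evalApp wG1_1 (fun k hk => htb k (wG1_1_mem k hk))
  · exact SQ.real_evalApp wG1_2 (fun k hk => htb k (wG1_2_mem k hk))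
  · exact SQ.real_evalApp wG1_3 (fun k hk => htb k (wG1_3_mem k hk))
  · exact SQ.real_evalApp wG1_4 (fun k hk => htb k (wG1_4_mem k hk))
  · exact SQ.real_evalApp wG1_5 (fun k hk => htb k (wG1_5_mem k hk))
  · exact SQ.real_evalApp wG1_6 (fun k hk => htb k (wG1_6_mem k hk))
  · exact SQ.real_evalApp wG1_7 (fun k hk => htb k (wG1_7_mem k hk))
  · exact SQ.real_evalApp wG1_8 (fun k hk => htb k (wG1_8_mem k hk))
  · exact SQ.real_evalApp wG1_9 (fun k hk => htb k (wG1_9_mem k hk))
  · exact SQ.real_evalApp wG1_10 (fun k hk => htb k (wG1_10_mem k hk))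
  · exact SQ.real_evalApp wG1_11 (fun k hk => htb k (wG1_11_mem k hk))

theorem wG2_0_mem : ∀ k ∈ wG2_0, k ∈ genL := by decide +kernel
theorem wG2_1_mem : ∀ k ∈ wG2_1, k ∈ genL := by decide +kernel
theorem wG2_2_mem : ∀ k ∈ wG2_2, k ∈ genL := by decide +kernel
theorem real2_stepG2 (K' : Subgroup (Equiv.Perm (Fin 122760))) (hx : SQ.Real K' u8) (hn : SQ.Real K' u10) (hz : SQ.Real K' u13) : ∀ l, 2 ≤ l → l < LG2.ng + 2 → SQ.Real K' (LG2.step l) := by
  intro l h1 h2
  have h3 : l < 5 := h2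
  have htb := real2_tb K' hx hn hz
  interval_cases l
  · exact SQ.real_evalApp wG2_0 (fun k hk => htb k (wG2_0_mem k hk))
  · exact SQ.real_evalApp wG2_1 (fun k hk => htb k (wG2_1_mem k hk))
  · exact SQ.real_evalApp wG2_2 (fun k hk => htb k (wG2_2_mem k hk))

theorem wG3_0_mem : ∀ k ∈ wG3_0, k ∈ genL := by decide +kernel
theorem real2_stepG3 (K' : Subgroup (Equiv.Perm (Fin 122760))) (hx : SQ.Real K' u8) (hn : SQ.Real K' u10) (hz : SQ.Real K' u13) : ∀ l, 2 ≤ l → l < LG3.ng + 2 → SQ.Real K' (LG3.step l) := by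
  intro l h1 h2
  have h3 : l < 3 := h2
  have htb := real2_tb K' hx hn hz
  interval_cases l
  · exact SQ.real_evalApp wG3_0 (fun k hk => htb k (wG3_0_mem k hk))

theorem real2_steps_G (K' : Subgroup (Equiv.Perm (Fin 122760))) (hx : SQ.Real K' u8) (hn : SQ.Real K' u10) (hz : SQ.Real K' u13) : ∀ L ∈ LsG, ∀ l, 2 ≤ l → l < L.ng + 2 → SQ.Real K' (L.step l) := by
  intro L hL
  simp only [LsG, List.mem_cons, List.not_mem_nil, or_false] at hL
  rcases hL with rfl | rfl | rfl | rfl
  · exact real2_stepG0 K' hx hn hz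
  · exact real2_stepG1 K' hx hn hz
  · exact real2_stepG2 K' hx hn hz
  · exact real2_stepG3 K' hx hn hz

/-- a subgroup realising `x`, `n`, `z` has at least the order of the whole group -/
theorem card_ge_G (K' : Subgroup (Equiv.Perm (Fin 122760))) (hx : SQ.Real K' u8) (hn : SQ.Real K' u10) (hz : SQ.Real K' u13) : 460815505920 ≤ Nat.card K' :=
  le_trans size_G (SQ.card_ge_of_checks K' LsG (real2_steps_G K' hx hn hz) lvOK_LsG fixOK_G)

end Cfsg.Agent.Lib.Helper8.ONO
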