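import Cfsg.Agent.Lib.Helper8.ONO5t
import Cfsg.Agent.Lib.Helper8.ONO6

set_option autoImplicit false
set_option maxRecDepth 100000

/-! An outer automorphism of the presented group (The O'Nan group), given on the generators by words in
`x⁻¹`, `n`, `z`. -/

namespace Cfsg.Agent.Lib.Helper8.ONO

open Cfsg.Spor Cfsg.Agent.Lib.Helper4.TC Cfsg.Agent.Lib.Helper4.TCD Cfsg.Agent.Lib.Helper4.TC.Log

def xW : List ℕ := [3, 4, 5, 6, 0, 3, 4, 0, 5]

/-- an element of order 31 -/
noncomputable def xE : Gp := wordP PON.P.gR xW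

theorem gN_xE (i : ℕ) (hi : i < 122760) : SQ.gN (φ xE) i = u8 i := by
  rw [xE, gN_word xW (by decide) i hi]
  exact Nat.eq_of_beq_eq_true (cert_8_all i hi)

theorem xE_ne_one : xE ≠ 1 := by
  intro h
  have := gN_xE 0 (by decide)
  rw [h, map_one, SQ.gN_one, x_ne] at this
  exact absurd this (by decide)

/-! ### elements of the group for the tables -/

theorem exists_el (k : ℕ) (hk : k < 14) : ∃ g : Gp, ∀ i, i < 122760 → SQ.gN (φ g) i = tb k i := by
  obtain ⟨ν, ⟨g, rfl⟩, hν⟩ := real_tb k hk
  exact ⟨g, hν⟩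

/-- an element of the group acting as the table with index `k` -/
noncomputable def elT (k : ℕ) : Gp := if hk : k < 14 then Classical.choose (exists_el k hk) else 1

theorem gN_elT (k : ℕ) (hk : k < 14) (i : ℕ) (hi : i < 122760) : SQ.gN (φ (elT k)) i = tb k i := by
  unfold elT
  rw [dif_pos hk]
  exact Classical.choose_spec (exists_el k hk) i hi

/-- the product of the elements for a word, the first letter applied first -/
noncomputable def prodT (w : List ℕ) : Gp := w.foldl (fun acc k => elT k * acc) 1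

theorem gN_foldl (w : List ℕ) (hw : ∀ k ∈ w, k < 14) (a : Gp) (i : ℕ) (hi : i < 122760) :
    SQ.gN (φ (w.foldl (fun acc k => elT k * acc) a)) i = SQ.evalApp tb w (SQ.gN (φ a) i) := by
  induction w generalizing a with
  | nil => rfl
  | cons k w ih =>
    rw [List.foldl_cons, ih (fun k' hk' => hw k' (List.mem_cons_of_mem _ hk')) (elT k * a),
      SQ.evalApp_cons, map_mul, SQ.gN_mul, gN_elT k (hw k List.mem_cons_self) _ (SQ.gN_lt _ hi)]

theorem gN_prodT (w : List ℕ) (hw : ∀ k ∈ w, k < 14) (i : ℕ) (hi : i < 122760) :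
    SQ.gN (φ (prodT w)) i = SQ.evalApp tb w i := by
  unfold prodT
  rw [gN_foldl w hw 1 i hi, map_one, SQ.gN_one]

/-! ### the images of the generators -/

/-- the image of a letter -/
noncomputable def tauL (l : ℕ) : Gp := prodT (tauW l)

theorem gN_tauL (l : ℕ) (hl : l < 8) (i : ℕ) (hi : i < 122760) :
    SQ.gN (φ (tauL l)) i = SQ.evalApp tb (tauW l) i :=
  gN_prodT _ (tauW_lt l hl) i hi

theorem gN_wordT (L : List ℕ) (hL : ∀ l ∈ L, l < 8) (i : ℕ) (hi : i < 122760) :
    SQ.gN (φ (wordP tauL L)) i = actT L i ∧ actT L i < 122760 := by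
  induction L with
  | nil =>
    refine ⟨?_, hi⟩
    rw [wordP_nil, map_one, SQ.gN_one]
    rfl
  | cons l L ih =>
    obtain ⟨h1, h2⟩ := ih (fun l' hl' => hL l' (List.mem_cons_of_mem _ hl'))
    have hl := hL l List.mem_cons_self
    have h3 : SQ.gN (φ (wordP tauL (l :: L))) i = actT (l :: L) i := by
      rw [wordP_cons, map_mul, SQ.gN_mul, h1, gN_tauL l hl _ h2]
      rfl
    refine ⟨h3, ?_⟩
    rw [← h3]
    exact SQ.gN_lt _ hi

theorem wordT_eq_one (L : List ℕ) (hL : ∀ l ∈ L, l < 8)
    (h : ∀ i ∈ baseL, Nat.beq (actT L i) i = true) : wordP tauL L = 1 := by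
  apply eq_one_of_gN_base
  intro i hi
  rw [(gN_wordT L hL i (baseL_lt i hi)).1]
  exact Nat.eq_of_beq_eq_true (h i hi)

theorem tauL_inv_1 : tauL 1 = (tauL 0)⁻¹ := by
  have h : wordP tauL [1, 0] = 1 := wordT_eq_one _ (by decide) tinv_0
  rw [wordP_cons, wordP_cons, wordP_nil, mul_one] at h
  exact eq_inv_of_mul_eq_one_left h

/-- the images of the generators -/
noncomputable def tauF (s : ON.Gen) : Gp := tauL (PON.enc s)

theorem lift_dec_tau (l : ℕ) (hl : l < 8) :
    FreeGroup.lift tauF (PON.P.dec l) = tauL l := by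
  interval_cases l
  · show FreeGroup.lift tauF (FreeGroup.of _) = _
    rw [FreeGroup.lift_apply_of]
    rfl
  · show FreeGroup.lift tauF (FreeGroup.of _)⁻¹ = _
    rw [map_inv, FreeGroup.lift_apply_of]
    exact (tauL_inv_1).symm
  · show FreeGroup.lift tauF (FreeGroup.of _) = _
    rw [FreeGroup.lift_apply_of]
    rfl
  · show FreeGroup.lift tauF (FreeGroup.of _) = _
    rw [FreeGroup.lift_apply_of]
    rfl
  · show FreeGroup.lift tauF (FreeGroup.of _) = _
    rw [FreeGroup.lift_apply_of]
    rfl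
  · show FreeGroup.lift tauF (FreeGroup.of _) = _
    rw [FreeGroup.lift_apply_of]
    rfl
  · show FreeGroup.lift tauF (FreeGroup.of _) = _
    rw [FreeGroup.lift_apply_of]
    rfl
  · show FreeGroup.lift tauF (FreeGroup.of _) = _
    rw [FreeGroup.lift_apply_of]
    rfl

theorem word_lift_tau (L : List ℕ) (hL : ∀ x ∈ L, x < 8) :
    wordP (fun l => FreeGroup.lift tauF (PON.P.dec l)) L = wordP tauL L := by
  induction L with
  | nil => rfl
  | cons x L ih =>
    rw [wordP_cons, wordP_cons, ih fun y hy => hL y (List.mem_cons_of_mem _ hy),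
      lift_dec_tau x (hL x List.mem_cons_self)]

theorem real_eq : PON.P.real = realL := by decide +kernel

theorem rels_hold_tau : ∀ r ∈ PON.P.rels, FreeGroup.lift tauF r = 1 := by
  rw [PON.valid.rels_iff Gp tauF]
  intro L hL
  have hlt : ∀ x ∈ L, x < 8 := PON.valid.real_lt L hL
  rw [word_lift_tau L hlt]
  apply wordT_eq_one L hlt
  apply trel_all
  rw [← real_eq]
  exact hL

/-- the endomorphism given by the images of the generators -/
noncomputable def tauHom : Gp →* Gp := PresentedGroup.toGroup rels_hold_tau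

theorem tauHom_gR (l : ℕ) (hl : l < 8) : tauHom (PON.P.gR l) = tauL l := by
  rw [CoxEnc.gR_lt (show l < PON.P.k from hl)]
  show FreeGroup.lift tauF (PON.P.dec l) = _
  exact lift_dec_tau l hl

theorem tauHom_word (w : List ℕ) (hw : ∀ y ∈ w, y < 8) :
    tauHom (wordP PON.P.gR w) = wordP tauL w := by
  induction w with
  | nil => exact map_one _
  | cons x w ih =>
    rw [wordP_cons, map_mul, wordP_cons,
      ih fun y hy => hw y (List.mem_cons_of_mem _ hy), tauHom_gR x (hw x List.mem_cons_self)]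

theorem gN_xE_inv (i : ℕ) (hi : i < 122760) : SQ.gN (φ xE⁻¹) i = u9 i := by
  rw [map_inv]
  exact SQ.gN_inv_eq gN_xE
    (fun x hx => (Nat.eq_of_beq_eq_true (cert_9_all x hx)).symm) i hi

theorem tau_xE : tauHom xE = xE⁻¹ := by
  have e : tauHom xE = wordP tauL xW := by rw [xE, tauHom_word xW (by decide)]
  rw [e]
  apply eq_of_gN_base
  intro i hi
  have hlt := baseL_lt i hi
  rw [(gN_wordT xW (by decide) i hlt).1, gN_xE_inv i hlt]
  exact Nat.eq_of_beq_eq_true (tx_ok i hi)

theorem tauHom_inj : Function.Injective tauHom := by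
  have : IsSimpleGroup Gp := Cfsg.Agent.S1699.simple_aux
  rw [← MonoidHom.ker_eq_bot_iff]
  rcases (MonoidHom.normal_ker tauHom).eq_bot_or_eq_top with h | h
  · exact h
  · exfalso
    have hx : xE ∈ tauHom.ker := by rw [h]; trivial
    rw [MonoidHom.mem_ker, tau_xE, inv_eq_one] at hx
    exact xE_ne_one hx

/-- the automorphism -/
noncomputable def sig : MulAut Gp :=
  haveI : Finite Gp := finGp
  MulEquiv.ofBijective tauHom ⟨tauHom_inj, Finite.injective_iff_surjective.1 tauHom_inj⟩

theorem sig_apply (g : Gp) : sig g = tauHom g := rfl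

end Cfsg.Agent.Lib.Helper8.ONO
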