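import Cfsg.Agent.Lib.Helper8.ONO7
import Cfsg.Agent.Lib.Helper8.ONO4
import Cfsg.Agent.Lib.Helper8.OutG4

set_option autoImplicit false
set_option maxRecDepth 100000

/-! The presented group (The O'Nan group): an element `x` of order 31, an element `n` normalising
`⟨x⟩`, and an element `z` in the centraliser of a power `t` of `n`. -/

namespace Cfsg.Agent.Lib.Helper8.ONO

open Cfsg.Spor Cfsg.Agent.Lib.Helper4.TC Cfsg.Agent.Lib.Helper4.TCD Cfsg.Agent.Lib.Helper4.TC.Log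

theorem exists_nE : ∃ n : Gp, ∀ i, i < 122760 → SQ.gN (φ n) i = u10 i := by
  obtain ⟨ν, ⟨n', rfl⟩, hν⟩ := real_10
  exact ⟨n', hν⟩

/-- an element normalising `⟨x⟩` -/
noncomputable def nE : Gp := Classical.choose exists_nE

theorem gN_nE (i : ℕ) (hi : i < 122760) : SQ.gN (φ nE) i = u10 i :=
  Classical.choose_spec exists_nE i hi

theorem exists_zE : ∃ z : Gp, ∀ i, i < 122760 → SQ.gN (φ z) i = u13 i := by
  obtain ⟨ν, ⟨z', rfl⟩, hν⟩ := real_13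
  exact ⟨z', hν⟩

/-- an element centralising `t` -/
noncomputable def zE : Gp := Classical.choose exists_zE

theorem gN_zE (i : ℕ) (hi : i < 122760) : SQ.gN (φ zE) i = u13 i :=
  Classical.choose_spec exists_zE i hi

theorem u_lt {f : ℕ → ℕ} (h : SQ.Real Kp f) {i : ℕ} (hi : i < 122760) : f i < 122760 := h.lt hi

theorem mem_Kp (g : Gp) : φ g ∈ Kp := ⟨g, rfl⟩

theorem gN_pow_iter (g : Gp) (f : ℕ → ℕ) (hf : ∀ i, i < 122760 → SQ.gN (φ g) i = f i) (n : ℕ) :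
    ∀ i, i < 122760 → SQ.gN (φ (g ^ n)) i = f^[n] i ∧ f^[n] i < 122760 := by
  induction n with
  | zero =>
    intro i hi
    rw [pow_zero, map_one, SQ.gN_one]
    exact ⟨rfl, hi⟩
  | succ n ih =>
    intro i hi
    rw [pow_succ, map_mul, SQ.gN_mul, hf i hi, Function.iterate_succ_apply]
    have h1 : f i < 122760 := by rw [← hf i hi]; exact SQ.gN_lt _ hi
    exact ih (f i) h1

/-- the power of `n` whose centraliser is used -/
noncomputable def tE : Gp := nE ^ 3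

theorem gN_tE (i : ℕ) (hi : i < 122760) : SQ.gN (φ tE) i = u11 i := by
  rw [tE, (gN_pow_iter nE u10 gN_nE 3 i hi).1]
  exact Nat.eq_of_beq_eq_true (cert_11_all i hi)

theorem xE_pow : xE ^ 31 = 1 := by
  apply eq_one_of_gN_base
  intro i hi
  rw [(gN_pow_iter xE u8 gN_xE 31 i (baseL_lt i hi)).1]
  exact Nat.eq_of_beq_eq_true (x_ord i hi)

instance : Fact (Nat.Prime 31) := ⟨by norm_num⟩

theorem orderOf_xE : orderOf xE = 31 := orderOf_eq_prime xE_pow xE_ne_one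

instance : Finite Gp := finGp

theorem fact_p : (Nat.card Gp).factorization 31 = 1 := by
  rw [cardGp, show 460815505920 = 31 * 14865016320 from by norm_num]
  rw [Nat.factorization_mul (by norm_num) (by norm_num), Finsupp.add_apply,
    (show Nat.Prime 31 by norm_num).factorization_self,
    Nat.factorization_eq_zero_of_not_dvd (by norm_num)]

theorem gN_xE_pow (n : ℕ) (i : ℕ) (hi : i < 122760) : SQ.gN (φ (xE ^ n)) i = u8^[n] i :=
  (gN_pow_iter xE u8 gN_xE n i hi).1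

/-- `n` normalises `⟨x⟩` -/
theorem hxn : xE * nE = nE * xE ^ 14 := by
  apply eq_of_gN_base
  intro i hib
  have hi : i < 122760 := baseL_lt i hib
  have h1 : u10 i < 122760 := u_lt real_10 hi
  have h2 : u8^[14] i < 122760 := (gN_pow_iter xE u8 gN_xE 14 i hi).2
  rw [map_mul, map_mul, SQ.gN_mul, SQ.gN_mul, gN_nE i hi, gN_xE _ h1, gN_xE_pow 14 i hi,
    gN_nE _ h2]
  exact Nat.eq_of_beq_eq_true (nu_ok i hib)

theorem hzt : zE * tE = tE * zE := by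
  apply eq_of_gN_base
  intro i hib
  have hi : i < 122760 := baseL_lt i hib
  rw [map_mul, map_mul, SQ.gN_mul, SQ.gN_mul, gN_tE i hi, gN_zE _ (u_lt real_11 hi),
    gN_zE i hi, gN_tE _ (u_lt real_13 hi)]
  exact Nat.eq_of_beq_eq_true (zt_comm i hib)

theorem harith_conj : ∀ j : ℕ, j < 31 → ∃ i : ℕ, (14 * i) % 31 = (14 * j + i) % 31 := by
  intro j hj
  interval_cases j
  · exact ⟨0, rfl⟩
  · exact ⟨13, rfl⟩
  · exact ⟨26, rfl⟩
  · exact ⟨8, rfl⟩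
  · exact ⟨21, rfl⟩
  · exact ⟨3, rfl⟩
  · exact ⟨16, rfl⟩
  · exact ⟨29, rfl⟩
  · exact ⟨11, rfl⟩
  · exact ⟨24, rfl⟩
  · exact ⟨6, rfl⟩
  · exact ⟨19, rfl⟩
  · exact ⟨1, rfl⟩
  · exact ⟨14, rfl⟩
  · exact ⟨27, rfl⟩
  · exact ⟨9, rfl⟩
  · exact ⟨22, rfl⟩
  · exact ⟨4, rfl⟩
  · exact ⟨17, rfl⟩
  · exact ⟨30, rfl⟩
  · exact ⟨12, rfl⟩
  · exact ⟨25, rfl⟩
  · exact ⟨7, rfl⟩
  · exact ⟨20, rfl⟩
  · exact ⟨2, rfl⟩
  · exact ⟨15, rfl⟩
  · exact ⟨28, rfl⟩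
  · exact ⟨10, rfl⟩
  · exact ⟨23, rfl⟩
  · exact ⟨5, rfl⟩
  · exact ⟨18, rfl⟩

theorem hconj : ∀ j : ℕ, ∃ i : ℕ, xE ^ i * nE * (xE ^ i)⁻¹ = xE ^ j * nE :=
  OutG.conj_of_arith (by norm_num) xE_pow hxn harith_conj

/-- a prefix of a relation pinning down `z` -/
noncomputable def P0 : Gp := xE

theorem gN_P0 (q : ℕ) (hq : q < 122760) : SQ.gN (φ P0) q = pre0 q := by
  unfold P0
  exact gN_xE q hq

theorem gN_Pz0 (q : ℕ) (hq : q < 122760) : SQ.gN (φ (P0 * zE)) q = pre0 (u13 q) := by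
  rw [map_mul φ P0 zE, SQ.gN_mul, gN_zE q hq, gN_P0 _ (u_lt real_13 hq)]

theorem hrel0 : (P0 * zE) ^ 31 = 1 := by
  apply eq_one_of_gN_base
  intro i hib
  rw [(gN_pow_iter (P0 * zE) (fun q => pre0 (u13 q)) gN_Pz0 31 i (baseL_lt i hib)).1]
  exact Nat.eq_of_beq_eq_true (rel_0 i hib)

/-- a prefix of a relation pinning down `z` -/
noncomputable def P1 : Gp := xE ^ 2 * nE

theorem gN_P1 (q : ℕ) (hq : q < 122760) : SQ.gN (φ P1) q = pre1 q := by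
  unfold P1
  rw [map_mul, SQ.gN_mul, gN_nE q hq, (gN_pow_iter xE u8 gN_xE 2 _ (u_lt real_10 hq)).1]
  rfl

theorem gN_Pz1 (q : ℕ) (hq : q < 122760) : SQ.gN (φ (P1 * zE)) q = pre1 (u13 q) := by
  rw [map_mul φ P1 zE, SQ.gN_mul, gN_zE q hq, gN_P1 _ (u_lt real_13 hq)]

theorem hrel1 : (P1 * zE) ^ 11 = 1 := by
  apply eq_one_of_gN_base
  intro i hib
  rw [(gN_pow_iter (P1 * zE) (fun q => pre1 (u13 q)) gN_Pz1 11 i (baseL_lt i hib)).1]
  exact Nat.eq_of_beq_eq_true (rel_1 i hib)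

theorem exists_n : ∃ n : Gp, n * xE * n⁻¹ = xE ^ 14 := by
  refine ⟨nE⁻¹, ?_⟩
  calc nE⁻¹ * xE * nE⁻¹⁻¹ = nE⁻¹ * (xE * nE) := by group
    _ = nE⁻¹ * (nE * xE ^ 14) := by rw [hxn]
    _ = xE ^ 14 := by group

/-- the image of `x` under the automorphism -/
noncomputable def xsE : Gp := xE⁻¹

theorem sig_xE : sig xE = xsE := tau_xE

theorem gN_xsE (i : ℕ) (hi : i < 122760) : SQ.gN (φ xsE) i = u9 i := gN_xE_inv i hi

/-! ### the automorphism does not preserve the class of `x` -/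

theorem not_conj : ¬ ∃ k : Gp, sig xE = k * xE * k⁻¹ := by
  rintro ⟨k, hk⟩
  rw [sig_xE] at hk
  have hc : φ k * φ xE = φ xsE * φ k := by
    rw [← map_mul, ← map_mul, hk]
    congr 1
    group
  have h := SQ.transporter_test chainX u8 u9 (φ xE) (φ xsE) gN_xE gN_xsE 0 (by decide) baseX
    (mem_Kp k) hc [1, u9 1] (by
      intro x hx
      simp only [List.mem_cons, List.not_mem_nil, or_false] at hx
      rcases hx with rfl | rfl
      · decide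
      · exact u_lt real_9 (by decide))
  have hp : passN (SQ.gN (φ k) 0) = true := by
    unfold passN
    have e : LsX.length = 4 := rfl
    rw [e] at h
    rw [h.1]
    show (Nat.beq (SQ.gN (φ k)⁻¹ (u9 1)) (u8 (SQ.gN (φ k)⁻¹ 1))) = true
    rw [h.2 1 (by decide), Nat.beq_refl]
    all_goals rfl
  have := passN_all _ (SQ.gN_lt (φ k) (by decide : 0 < 122760))
  rw [hp] at this
  exact absurd this (by decide)

/-! ### every automorphism maps `x` into the class of `x` or of its inverse -/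

theorem exists_m : ∃ m : Gp, sig xE = m * xE ^ 30 * m⁻¹ := by
  refine ⟨1, ?_⟩
  rw [sig_xE, xsE, one_mul, inv_one, mul_one]
  exact inv_eq_of_mul_eq_one_right (by rw [← pow_succ', xE_pow])

theorem arith_p : ∀ j, j < 31 → j ≠ 0 → ∃ i, j = 14 ^ i % 31 ∨ j = 30 * 14 ^ i % 31 := by
  intro j hj h0
  interval_cases j
  · exact absurd rfl h0
  · exact ⟨0, Or.inl rfl⟩
  · exact ⟨12, Or.inl rfl⟩
  · exact ⟨13, Or.inr rfl⟩
  · exact ⟨9, Or.inl rfl⟩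
  · exact ⟨5, Or.inl rfl⟩
  · exact ⟨10, Or.inr rfl⟩
  · exact ⟨4, Or.inl rfl⟩
  · exact ⟨6, Or.inl rfl⟩
  · exact ⟨11, Or.inl rfl⟩
  · exact ⟨2, Or.inl rfl⟩
  · exact ⟨14, Or.inr rfl⟩
  · exact ⟨7, Or.inr rfl⟩
  · exact ⟨8, Or.inr rfl⟩
  · exact ⟨1, Or.inl rfl⟩
  · exact ⟨3, Or.inr rfl⟩
  · exact ⟨3, Or.inl rfl⟩
  · exact ⟨1, Or.inr rfl⟩
  · exact ⟨8, Or.inl rfl⟩
  · exact ⟨7, Or.inl rfl⟩
  · exact ⟨14, Or.inl rfl⟩
  · exact ⟨2, Or.inr rfl⟩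
  · exact ⟨11, Or.inr rfl⟩
  · exact ⟨6, Or.inr rfl⟩
  · exact ⟨4, Or.inr rfl⟩
  · exact ⟨10, Or.inl rfl⟩
  · exact ⟨5, Or.inr rfl⟩
  · exact ⟨9, Or.inr rfl⟩
  · exact ⟨13, Or.inl rfl⟩
  · exact ⟨12, Or.inr rfl⟩
  · exact ⟨0, Or.inr rfl⟩

theorem h1 (α : MulAut Gp) :
    (∃ k : Gp, α xE = k * xE * k⁻¹) ∨ (∃ k : Gp, α xE = k * sig xE * k⁻¹) :=
  OutG.class_dichotomy 31 fact_p xE orderOf_xE sig 14 30 exists_n exists_m arith_p α

end Cfsg.Agent.Lib.Helper8.ONO
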