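import Cfsg.Agent.Lib.Helper8.ONO8

set_option autoImplicit false
set_option maxRecDepth 100000

/-! The outer automorphism group of the presented group (The O'Nan group). -/

namespace Cfsg.Agent.Lib.Helper8.ONO

open Cfsg.Spor Cfsg.Agent.Lib.Helper4.TC Cfsg.Agent.Lib.Helper4.TCD Cfsg.Agent.Lib.Helper4.TC.Log

/-! ### the centraliser of `x` -/

theorem mem_of_xorbB (p : ℕ) (h : xorbB p = true) : p ∈ SQ.iterL u8 31 0 := by
  rw [xorb_eq]
  unfold xorbB at h
  simp only [Bool.or_eq_true, or_assoc] at h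
  have hb : ∀ a : ℕ, Nat.beq p a = true → p = a := fun a => Nat.eq_of_beq_eq_true
  rcases h with h | h | h | h | h | h | h | h | h | h | h | h | h | h | h | h | h | h | h | h | h | h | h | h | h | h | h | h | h | h | h
  all_goals (rw [hb _ h]; simp)

theorem centralizer_x (g : Gp) (hg : g * xE = xE * g) : ∃ i : ℕ, g = xE ^ i := by
  have hc : φ g * φ xE = φ xE * φ g := by rw [← map_mul, ← map_mul, hg]
  have h := SQ.transporter_test chainX u8 u8 (φ xE) (φ xE) gN_xE gN_xE 0 (by decide) baseX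
    (mem_Kp g) hc [1, u8 1] (by
      intro x hx
      simp only [List.mem_cons, List.not_mem_nil, or_false] at hx
      rcases hx with rfl | rfl
      · decide
      · exact u_lt real_8 (by decide))
  have hlt : SQ.gN (φ g) 0 < 122760 := SQ.gN_lt _ (by decide)
  have hp : passC (SQ.gN (φ g) 0) = true := by
    unfold passC
    have e : LsX.length = 4 := rfl
    rw [e] at h
    rw [h.1]
    show (Nat.beq (SQ.gN (φ g)⁻¹ (u8 1)) (u8 (SQ.gN (φ g)⁻¹ 1))) = true
    rw [h.2 1 (by decide), Nat.beq_refl]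
    all_goals rfl
  have h2 := passC_all _ hlt
  rw [hp] at h2
  have h3 : xorbB (SQ.gN (φ g) 0) = true := by simpa using h2
  obtain ⟨j, hj⟩ := SQ.mem_iterL _ _ _ (mem_of_xorbB _ h3)
  refine ⟨j, ?_⟩
  apply φ_inj
  apply SQ.eq_of_commute chainX gN_xE (by decide : 0 < 122760) baseX (mem_Kp g) (mem_Kp _) hc
  · rw [← map_mul, ← map_mul]
    congr 1
    rw [← pow_succ, ← pow_succ']
  · rw [hj, gN_xE_pow j 0 (by decide)]

/-! ### the centraliser of `t` -/

theorem FQ_eq (g : Gp) (hg : g * tE = tE * g) (q : ℕ) (hq : q < 122760) :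
    FQ (SQ.gN (φ g) 0) q = SQ.gN (φ g⁻¹) q := by
  have hc : φ g * φ tE = φ tE * φ g := by rw [← map_mul, ← map_mul, hg]
  have h := SQ.transporter_test chainZ u11 u11 (φ tE) (φ tE) gN_tE gN_tE 0
    (by decide) baseZ (mem_Kp g) hc [q] (by
      intro x hx
      rw [List.mem_singleton] at hx
      rw [hx]; exact hq)
  unfold FQ
  have e : LsZ.length = 3 := rfl
  rw [e] at h
  rw [h.1, map_inv]
  rfl

theorem comm_inv {g t : Gp} (hg : g * t = t * g) : g⁻¹ * t = t * g⁻¹ := by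
  calc g⁻¹ * t = g⁻¹ * (t * g) * g⁻¹ := by group
    _ = g⁻¹ * (g * t) * g⁻¹ := by rw [hg]
    _ = t * g⁻¹ := by group

theorem itQ0_eq (g : Gp) (hg : g * tE = tE * g) :
    ∀ (k q : ℕ), q < 122760 → itQ0 (SQ.gN (φ g) 0) k q = SQ.gN (φ ((P0 * g⁻¹) ^ k)) q := by
  intro k
  induction k with
  | zero =>
    intro q _
    rw [pow_zero, map_one, SQ.gN_one]
    rfl
  | succ k ih =>
    intro q hq
    have h1 : SQ.gN (φ g⁻¹) q < 122760 := SQ.gN_lt _ hq
    have e1 : pre0 (FQ (SQ.gN (φ g) 0) q) = SQ.gN (φ (P0 * g⁻¹)) q := by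
      rw [FQ_eq g hg q hq, map_mul φ P0 g⁻¹, SQ.gN_mul, gN_P0 _ h1]
    have h2 : SQ.gN (φ (P0 * g⁻¹)) q < 122760 := SQ.gN_lt _ hq
    show itQ0 (SQ.gN (φ g) 0) k (pre0 (FQ (SQ.gN (φ g) 0) q)) = _
    rw [e1, ih _ h2, pow_succ, map_mul φ ((P0 * g⁻¹) ^ k) (P0 * g⁻¹), SQ.gN_mul]

theorem itQ1_eq (g : Gp) (hg : g * tE = tE * g) :
    ∀ (k q : ℕ), q < 122760 → itQ1 (SQ.gN (φ g) 0) k q = SQ.gN (φ ((P1 * g⁻¹) ^ k)) q := by
  intro k
  induction k with
  | zero =>
    intro q _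
    rw [pow_zero, map_one, SQ.gN_one]
    rfl
  | succ k ih =>
    intro q hq
    have h1 : SQ.gN (φ g⁻¹) q < 122760 := SQ.gN_lt _ hq
    have e1 : pre1 (FQ (SQ.gN (φ g) 0) q) = SQ.gN (φ (P1 * g⁻¹)) q := by
      rw [FQ_eq g hg q hq, map_mul φ P1 g⁻¹, SQ.gN_mul, gN_P1 _ h1]
    have h2 : SQ.gN (φ (P1 * g⁻¹)) q < 122760 := SQ.gN_lt _ hq
    show itQ1 (SQ.gN (φ g) 0) k (pre1 (FQ (SQ.gN (φ g) 0) q)) = _
    rw [e1, ih _ h2, pow_succ, map_mul φ ((P1 * g⁻¹) ^ k) (P1 * g⁻¹), SQ.gN_mul]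

theorem centralizer_t_test (g : Gp) (hg : g * tE = tE * g) (h0 : (P0 * g) ^ 31 = 1) (h1 : (P1 * g) ^ 11 = 1) : g = zE := by
  have hgi : g⁻¹ * tE = tE * g⁻¹ := comm_inv hg
  have hc : φ g⁻¹ * φ tE = φ tE * φ g⁻¹ := by rw [← map_mul, ← map_mul, hgi]
  have hlt : SQ.gN (φ g⁻¹) 0 < 122760 := SQ.gN_lt _ (by decide)
  have h := SQ.transporter_test chainZ u11 u11 (φ tE) (φ tE) gN_tE gN_tE 0
    (by decide) baseZ (mem_Kp g⁻¹) hc [] (by intro x hx; exact absurd hx List.not_mem_nil)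
  have hp : testQ (SQ.gN (φ g⁻¹) 0) = true := by
    unfold testQ
    have e : LsZ.length = 3 := rfl
    rw [e] at h
    rw [h.1, itQ0_eq g⁻¹ hgi 31 1 (by decide), inv_inv, h0, map_one, SQ.gN_one, itQ1_eq g⁻¹ hgi 11 1 (by decide), inv_inv, h1, map_one, SQ.gN_one]
    rfl
  have h2 := testQ_all _ hlt
  rw [hp] at h2
  have h3 : SQ.gN (φ g⁻¹) 0 = 112297 := by
    have : Nat.beq (SQ.gN (φ g⁻¹) 0) 112297 = true := by simpa using h2
    exact Nat.eq_of_beq_eq_true this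
  have h4 : SQ.gN (φ zE⁻¹) 0 = 112297 := by
    have e1 : SQ.gN (φ zE) 112297 = 0 := by rw [gN_zE 112297 (by decide)]; exact z_pz
    rw [← e1, ← SQ.gN_mul, ← map_mul, inv_mul_cancel, map_one, SQ.gN_one]
  have h5 : g⁻¹ = zE⁻¹ := by
    apply φ_inj
    apply SQ.eq_of_commute chainZ gN_tE (by decide : 0 < 122760) baseZ (mem_Kp g⁻¹) (mem_Kp _) hc
    · rw [← map_mul, ← map_mul, comm_inv hzt]
    · rw [h3, h4]
  exact inv_injective h5

/-! ### generation -/

theorem gen_top : Subgroup.closure ({xE, nE, zE} : Set Gp) = ⊤ := by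
  set H' : Subgroup Gp := Subgroup.closure ({xE, nE, zE} : Set Gp) with hH'
  have hx : SQ.Real (H'.map φ) u8 :=
    ⟨φ xE, Subgroup.mem_map_of_mem φ (Subgroup.subset_closure (by simp)), gN_xE⟩
  have hn : SQ.Real (H'.map φ) u10 :=
    ⟨φ nE, Subgroup.mem_map_of_mem φ (Subgroup.subset_closure (by simp)), gN_nE⟩
  have hz : SQ.Real (H'.map φ) u13 :=
    ⟨φ zE, Subgroup.mem_map_of_mem φ (Subgroup.subset_closure (by simp)), gN_zE⟩
  have h1 : 460815505920 ≤ Nat.card (H'.map φ) := card_ge_G _ hx hn hz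
  have h2 : Nat.card (H'.map φ) = Nat.card H' :=
    (Nat.card_congr (H'.equivMapOfInjective φ φ_inj).toEquiv).symm
  rw [h2] at h1
  apply Subgroup.eq_top_of_le_card
  rw [cardGp]
  exact h1

/-! ### the outer automorphism group -/

theorem hz (ψ : MulAut Gp) (hx : ψ xE = xE) (hn : ψ nE = nE) : ψ zE = zE := by
  have ht : ψ tE = tE := by rw [tE, map_pow, hn]
  apply centralizer_t_test
  · have := congrArg ψ hzt
    rwa [map_mul, map_mul, ht] at this
  · have := congrArg ψ hrel0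
    have hP : ψ P0 = P0 := by
      unfold P0
      simp only [map_mul, map_pow, hx, hn]
    rwa [map_pow, map_mul, map_one, hP] at this
  · have := congrArg ψ hrel1
    have hP : ψ P1 = P1 := by
      unfold P1
      simp only [map_mul, map_pow, hx, hn]
    rwa [map_pow, map_mul, map_one, hP] at this

theorem h2 (α : MulAut Gp) (hα : α xE = xE) : ∃ i : ℕ, α = MulAut.conj (xE ^ i) :=
  OutG.fix_inner' xE nE zE 14 centralizer_x hxn hconj hz gen_top α hα

theorem card_out : Nat.card (Cfsg.Out Gp) = 2 :=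
  OutG.card_out_two_of_swap' xE sig h1 h2 not_conj

end Cfsg.Agent.Lib.Helper8.ONO
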