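import Mathlib

/-! 3-vectors and 3x3 matrices over `ZMod 7`, and the faithful action of `PSL(3,7)` on the 57 points
of the projective plane (points indexed by `Fin 57`). -/

set_option autoImplicit false

namespace Cfsg.Agent.Lib.Helper8.ONSp

open Matrix

set_option maxRecDepth 100000

/-- vectors with three coordinates -/
structure V3 where
  a : ZMod 7
  b : ZMod 7
  c : ZMod 7
  deriving DecidableEq

namespace V3

def zero : V3 := ⟨0, 0, 0⟩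
def add (s t : V3) : V3 := ⟨s.a + t.a, s.b + t.b, s.c + t.c⟩
def smul (l : ZMod 7) (t : V3) : V3 := ⟨l * t.a, l * t.b, l * t.c⟩
def dot (s t : V3) : ZMod 7 := s.a * t.a + s.b * t.b + s.c * t.c

def toV (t : V3) : Fin 3 → ZMod 7 := ![t.a, t.b, t.c]
def ofV (x : Fin 3 → ZMod 7) : V3 := ⟨x 0, x 1, x 2⟩

theorem ofV_toV (t : V3) : ofV t.toV = t := rfl

theorem toV_ofV (x : Fin 3 → ZMod 7) : (ofV x).toV = x := by
  ext i
  fin_cases i <;> rfl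

theorem toV_injective : Function.Injective toV := fun s t h => by
  rw [← ofV_toV s, ← ofV_toV t, h]

theorem toV_zero : zero.toV = 0 := by
  ext i
  fin_cases i <;> rfl

theorem toV_add (s t : V3) : (add s t).toV = s.toV + t.toV := by
  ext i
  fin_cases i <;> rfl

theorem toV_smul (l : ZMod 7) (t : V3) : (smul l t).toV = l • t.toV := by
  ext i
  fin_cases i <;> rfl

theorem ofV_smul (l : ZMod 7) (x : Fin 3 → ZMod 7) : ofV (l • x) = smul l (ofV x) := rfl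

theorem ofV_eq_zero_iff (x : Fin 3 → ZMod 7) : ofV x = zero ↔ x = 0 := by
  constructor
  · intro h
    rw [← toV_ofV x, h, toV_zero]
  · rintro rfl
    rfl

def code (t : V3) : ℕ := t.a.val + 7 * t.b.val + 49 * t.c.val

def ofCode (n : ℕ) : V3 := ⟨(n : ZMod 7), ((n / 7 : ℕ) : ZMod 7), ((n / 49 : ℕ) : ZMod 7)⟩

end V3

/-- 3x3 matrices, by rows -/
structure M3 where
  r0 : V3
  r1 : V3
  r2 : V3
  deriving DecidableEq

namespace M3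

def mv (M : M3) (t : V3) : V3 := ⟨M.r0.dot t, M.r1.dot t, M.r2.dot t⟩

def c0 (M : M3) : V3 := ⟨M.r0.a, M.r1.a, M.r2.a⟩
def c1 (M : M3) : V3 := ⟨M.r0.b, M.r1.b, M.r2.b⟩
def c2 (M : M3) : V3 := ⟨M.r0.c, M.r1.c, M.r2.c⟩

def mul (A B : M3) : M3 :=
  ⟨⟨A.r0.dot B.c0, A.r0.dot B.c1, A.r0.dot B.c2⟩, ⟨A.r1.dot B.c0, A.r1.dot B.c1, A.r1.dot B.c2⟩,
    ⟨A.r2.dot B.c0, A.r2.dot B.c1, A.r2.dot B.c2⟩⟩

def one : M3 := ⟨⟨1, 0, 0⟩, ⟨0, 1, 0⟩, ⟨0, 0, 1⟩⟩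

def det (M : M3) : ZMod 7 :=
  M.r0.a * M.r1.b * M.r2.c - M.r0.a * M.r1.c * M.r2.b - M.r0.b * M.r1.a * M.r2.c +
    M.r0.b * M.r1.c * M.r2.a + M.r0.c * M.r1.a * M.r2.b - M.r0.c * M.r1.b * M.r2.a

def toM (M : M3) : Matrix (Fin 3) (Fin 3) (ZMod 7) := Matrix.of ![M.r0.toV, M.r1.toV, M.r2.toV]

theorem toM_mulVec (M : M3) (t : V3) : M.toM *ᵥ t.toV = (M.mv t).toV := by
  ext i
  fin_cases i <;>
    simp [toM, Matrix.mulVec, dotProduct, Fin.sum_univ_three, V3.toV, mv, V3.dot]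

theorem toM_mul (A B : M3) : (A.mul B).toM = A.toM * B.toM := by
  ext i j
  fin_cases i <;> fin_cases j <;>
    simp [toM, Matrix.mul_apply, Fin.sum_univ_three, V3.toV, mul, V3.dot, c0, c1, c2]

theorem toM_one : one.toM = 1 := by
  ext i j
  fin_cases i <;> fin_cases j <;> simp [toM, one, V3.toV]

theorem toM_det (M : M3) : M.toM.det = M.det := by
  rw [Matrix.det_fin_three]
  simp [toM, V3.toV, det]

end M3

/-- `SL(3,7)` -/
abbrev SL3 : Type := Matrix.SpecialLinearGroup (Fin 3) (ZMod 7)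

/-- `PSL(3,7)` -/
abbrev PSL3 : Type := Matrix.ProjectiveSpecialLinearGroup (Fin 3) (ZMod 7)

/-- a matrix of determinant one as an element of `SL(3,7)` -/
def M3.toSL (M : M3) (h : M.det = 1) : SL3 := ⟨M.toM, by rw [M3.toM_det]; exact h⟩

/-! ### the 57 points -/

def WL : List ℕ := [49, 7, 56, 105, 154, 203, 252, 301, 1, 50, 99, 148, 197, 246, 295, 8, 57, 106, 155, 204, 253, 302, 15, 64, 113, 162, 211, 260, 309, 22, 71, 120, 169, 218, 267, 316, 29, 78, 127, 176, 225, 274, 323, 36, 85, 134, 183, 232, 281, 330, 43, 92, 141, 190, 239, 288, 337]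

def IL : List ℕ := [0, 8, 8, 8, 8, 8, 8, 1, 15, 36, 43, 22, 29, 50, 1, 22, 15, 29, 36, 50, 43, 1, 29, 43, 15, 50, 22, 36, 1, 36, 22, 50, 15, 43, 29, 1, 43, 50, 36, 29, 15, 22, 1, 50, 29, 22, 43, 36, 15, 0, 9, 12, 13, 10, 11, 14, 2, 16, 40, 48, 24, 32, 56, 5, 23, 19, 34, 38, 53, 49, 6, 30, 47, 20, 52, 25, 42, 3, 37, 26, 55, 17, 46, 35, 4, 44, 54, 41, 31, 18, 28, 7, 51, 33, 27, 45, 39, 21, 0, 10, 9, 11, 12, 14, 13, 3, 17, 37, 46, 26, 35, 55, 2, 24, 16, 32, 40, 56, 48, 4, 31, 44, 18, 54, 28, 41, 5, 38, 23, 53, 19, 49, 34, 7, 45, 51, 39, 33, 21, 27, 6, 52, 30, 25, 47, 42, 20, 0, 11, 13, 9, 14, 10, 12, 4, 18, 41, 44, 28, 31, 54, 6, 25, 20, 30, 42, 52, 47, 2, 32, 48, 16, 56, 24, 40, 7, 39, 27, 51, 21, 45, 33, 3, 46, 55, 37, 35, 17, 26, 5, 53, 34, 23, 49, 38, 19, 0, 12, 10, 14, 9, 13, 11, 5, 19, 38, 49, 23, 34, 53, 3, 26, 17, 35, 37, 55, 46, 7, 33, 45, 21, 51, 27,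 39, 2, 40, 24, 56, 16, 48, 32, 6, 47, 52, 42, 30, 20, 25, 4, 54, 31, 28, 44, 41, 18, 0, 13, 14, 12, 11, 9, 10, 6, 20, 42, 47, 25, 30, 52, 7, 27, 21, 33, 39, 51, 45, 5, 34, 49, 19, 53, 23, 38, 4, 41, 28, 54, 18, 44, 31, 2, 48, 56, 40, 32, 16, 24, 3, 55, 35, 26, 46, 37, 17, 0, 14, 11, 10, 13, 12, 9, 7, 21, 39, 45, 27, 33, 51, 4, 28, 18, 31, 41, 54, 44, 3, 35, 46, 17, 55, 26, 37, 6, 42, 25, 52, 20, 47, 30, 5, 49, 53, 38, 34, 19, 23, 2, 56, 32, 24, 48, 40, 16]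

/-- the normalised vector of the `j`-th point -/
def W3 (j : Fin 57) : V3 := V3.ofCode (WL.getD j.1 0)

/-- the index of the point spanned by a vector -/
def idx3 (t : V3) : Fin 57 := ⟨IL.getD t.code 0 % 57, Nat.mod_lt _ (by decide)⟩

theorem idx3_W3 : ∀ j : Fin 57, idx3 (W3 j) = j := by decide +kernel

theorem W3_ne_zero : ∀ j : Fin 57, W3 j ≠ V3.zero := by decide +kernel

theorem W3_idx3 : ∀ a b c : ZMod 7, (⟨a, b, c⟩ : V3) ≠ V3.zero →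
    ∃ l : ZMod 7, l ≠ 0 ∧ W3 (idx3 ⟨a, b, c⟩) = V3.smul l ⟨a, b, c⟩ := by decide +kernel

theorem idx3_smul : ∀ l a b c : ZMod 7, l ≠ 0 →
    idx3 (V3.smul l ⟨a, b, c⟩) = idx3 ⟨a, b, c⟩ := by decide +kernel

theorem W3_idx3' (t : V3) (ht : t ≠ V3.zero) : ∃ l : ZMod 7, l ≠ 0 ∧ W3 (idx3 t) = V3.smul l t := by
  obtain ⟨a, b, c⟩ := t
  exact W3_idx3 a b c ht

theorem idx3_smul' (l : ZMod 7) (t : V3) (hl : l ≠ 0) : idx3 (V3.smul l t) = idx3 t := by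
  obtain ⟨a, b, c⟩ := t
  exact idx3_smul l a b c hl

end Cfsg.Agent.Lib.Helper8.ONSp
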