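import Mathlib

/-! A recognition lemma for a subgroup of index two (second form: the subgroup is given). -/

set_option autoImplicit false

namespace Cfsg.Agent.Lib.Helper8.ONSp

/-- A proper subgroup `N0` of a group of order `2m` that maps onto a faithful copy of a group `A` of
order `m` (inside some permutation group) has index two and is isomorphic to `A`. -/
theorem index_two_iso' {U A Y : Type*} [Group U] [Finite U] [Group A]
    (m : ℕ) (hm : 0 < m) (hU : Nat.card U = 2 * m) (hA : Nat.card A = m)
    (N0 : Subgroup U) (τ0 : N0 →* Equiv.Perm Y) (ρ : A →* Equiv.Perm Y)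
    (hρ : Function.Injective ρ) (S : Set A) (hS : Subgroup.closure S = ⊤)
    (hmatch : ∀ a ∈ S, ∃ n : N0, τ0 n = ρ a) (hne : N0 ≠ ⊤) :
    N0.index = 2 ∧ Nonempty (N0 ≃* A) := by
  classical
  have hAfin : Finite A := Nat.finite_of_card_ne_zero (by omega)
  haveI hfr : Finite τ0.range := Finite.of_surjective τ0.rangeRestrict τ0.rangeRestrict_surjective
  have hle : ρ.range ≤ τ0.range := by
    rw [MonoidHom.range_eq_map, ← hS, MonoidHom.map_closure, Subgroup.closure_le]
    rintro _ ⟨a, ha, rfl⟩
    obtain ⟨n, hn⟩ := hmatch a ha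
    exact ⟨n, hn⟩
  have hcρ : Nat.card ρ.range = m := by
    rw [← hA]
    exact (Nat.card_congr (MonoidHom.ofInjective hρ).toEquiv).symm
  have hcτ : Nat.card τ0.range ≤ Nat.card N0 :=
    Nat.card_le_card_of_surjective τ0.rangeRestrict τ0.rangeRestrict_surjective
  have hmul := N0.card_mul_index
  rw [hU] at hmul
  have hidx1 : N0.index ≠ 1 := fun h => hne (Subgroup.index_eq_one.mp h)
  have hidx0 : N0.index ≠ 0 := Subgroup.index_ne_zero_of_finite
  have hge : m ≤ Nat.card N0 := by
    rw [← hcρ]
    exact le_trans (Subgroup.card_le_of_le hle) hcτ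
  have hboth : N0.index = 2 ∧ Nat.card N0 = m := by
    have h2 : 2 ≤ N0.index := by omega
    have h3 : N0.index < 3 := by
      by_contra hcon
      have : 3 ≤ N0.index := by omega
      have : Nat.card N0 * 3 ≤ Nat.card N0 * N0.index := Nat.mul_le_mul_left _ this
      nlinarith
    have h4 : N0.index = 2 := by omega
    rw [h4] at hmul
    exact ⟨h4, by omega⟩
  refine ⟨hboth.1, ?_⟩
  have heq : ρ.range = τ0.range :=
    Subgroup.eq_of_le_of_card_ge hle (by rw [hcρ]; exact le_trans hcτ (le_of_eq hboth.2))
  have hbij : Function.Bijective τ0.rangeRestrict :=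
    Function.Surjective.bijective_of_nat_card_le τ0.rangeRestrict_surjective
      (by rw [hboth.2, ← heq, hcρ])
  exact ⟨(MulEquiv.ofBijective τ0.rangeRestrict hbij).trans
    ((MulEquiv.subgroupCongr heq.symm).trans (MonoidHom.ofInjective hρ).symm)⟩

end Cfsg.Agent.Lib.Helper8.ONSp
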