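import Cfsg.Agent.Lib.Helper8.ONSpP
import Cfsg.Agent.Lib.Helper4.SLnGen

/-! Five explicit matrices generate `SL(3,7)`. -/

set_option autoImplicit false

namespace Cfsg.Agent.Lib.Helper8.ONSp

open Matrix

set_option maxRecDepth 100000

def g0 : M3 := ⟨⟨1, 0, 0⟩, ⟨6, 2, 0⟩, ⟨4, 0, 4⟩⟩
def g1 : M3 := ⟨⟨0, 3, 1⟩, ⟨3, 5, 2⟩, ⟨0, 4, 2⟩⟩
def g2 : M3 := ⟨⟨3, 5, 4⟩, ⟨5, 1, 0⟩, ⟨4, 4, 0⟩⟩
def g3 : M3 := ⟨⟨3, 4, 0⟩, ⟨1, 4, 2⟩, ⟨4, 4, 0⟩⟩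
def g4 : M3 := ⟨⟨1, 0, 6⟩, ⟨3, 0, 6⟩, ⟨5, 3, 6⟩⟩
def g5 : M3 := ⟨⟨1, 0, 0⟩, ⟨4, 4, 0⟩, ⟨6, 0, 2⟩⟩
def g6 : M3 := ⟨⟨2, 5, 1⟩, ⟨1, 0, 3⟩, ⟨5, 0, 5⟩⟩
def g7 : M3 := ⟨⟨0, 2, 3⟩, ⟨0, 5, 6⟩, ⟨2, 1, 6⟩⟩
def g8 : M3 := ⟨⟨6, 0, 1⟩, ⟨1, 0, 1⟩, ⟨2, 4, 1⟩⟩
def g9 : M3 := ⟨⟨3, 4, 0⟩, ⟨5, 4, 5⟩, ⟨2, 4, 0⟩⟩

def gl : List M3 := [g0, g1, g2, g3, g4, g5, g6, g7, g8, g9]

def gM (i : ℕ) : M3 := gl.getD i M3.one

theorem gM_det : ∀ i : ℕ, (gM i).det = 1 := by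
  intro i
  by_cases h : i < 10
  · revert h
    revert i
    decide +kernel
  · have : gM i = M3.one := by
      unfold gM
      rw [List.getD_eq_default]
      simp only [gl, List.length_cons, List.length_nil]
      omega
    rw [this]
    decide

/-- the letters (five generators and their inverses; the identity for larger indices) -/
def letterN (x : ℕ) : SL3 := (gM x).toSL (gM_det x)

theorem letterN_coe (x : ℕ) : (letterN x).1 = (gM x).toM := rfl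

theorem gM_inv : ∀ i : Fin 5, (gM i.1).mul (gM (i.1 + 5)) = M3.one := by decide +kernel

theorem letterN_inv (i : Fin 5) : letterN (i.1 + 5) = (letterN i.1)⁻¹ := by
  apply eq_inv_of_mul_eq_one_right
  apply Subtype.ext
  rw [Matrix.SpecialLinearGroup.coe_mul, letterN_coe, letterN_coe, ← M3.toM_mul, gM_inv,
    M3.toM_one, Matrix.SpecialLinearGroup.coe_one]

/-- the five generators -/
def spOf (i : Fin 5) : SL3 := letterN i.1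

/-- the subgroup generated by the five matrices -/
def XS : Subgroup SL3 := Subgroup.closure (Set.range spOf)

theorem letterN_mem (x : ℕ) : letterN x ∈ XS := by
  by_cases h5 : x < 5
  · exact Subgroup.subset_closure ⟨⟨x, h5⟩, rfl⟩
  · by_cases h10 : x < 10
    · have : x = (⟨x - 5, by omega⟩ : Fin 5).1 + 5 := by simp; omega
      rw [this, letterN_inv]
      exact XS.inv_mem (Subgroup.subset_closure ⟨_, rfl⟩)
    · have : letterN x = 1 := by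
        apply Subtype.ext
        have hg : gM x = M3.one := by
          unfold gM
          rw [List.getD_eq_default]
          simp only [gl, List.length_cons, List.length_nil]
          omega
        rw [letterN_coe, hg, M3.toM_one, Matrix.SpecialLinearGroup.coe_one]
      rw [this]
      exact XS.one_mem

def evalW (w : List ℕ) : M3 := w.foldr (fun x acc => (gM x).mul acc) M3.one

def wordN (w : List ℕ) : SL3 := (w.map letterN).prod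

theorem wordN_mem (w : List ℕ) : wordN w ∈ XS := by
  apply Subgroup.list_prod_mem
  intro x hx
  obtain ⟨y, _, rfl⟩ := List.mem_map.1 hx
  exact letterN_mem y

theorem wordN_coe (w : List ℕ) : (wordN w).1 = (evalW w).toM := by
  induction w with
  | nil => simp [wordN, evalW, M3.toM_one]
  | cons x w ih =>
    have : wordN (x :: w) = letterN x * wordN w := by simp [wordN]
    rw [this, Matrix.SpecialLinearGroup.coe_mul, ih, letterN_coe, ← M3.toM_mul]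
    rfl

def w01 : List ℕ := [8, 1, 5, 7, 1, 3, 1, 3, 2, 0, 6, 3, 8, 1, 5, 7, 1, 3, 1, 3, 2, 0, 6, 3, 8, 1, 5, 7, 1, 3, 1, 3, 2, 0, 6, 3, 8, 1, 5, 7, 1, 3, 1, 3, 2, 0, 6, 3, 8, 1, 5, 7, 1, 3, 1, 3, 2, 0, 6, 3]
def w02 : List ℕ := [3, 7, 5, 7, 1, 3, 1, 3, 2, 0, 2, 8, 3, 7, 5, 7, 1, 3, 1, 3, 2, 0, 2, 8, 3, 7, 5, 7, 1, 3, 1, 3, 2, 0, 2, 8, 3, 7, 5, 7, 1, 3, 1, 3, 2, 0, 2, 8, 3, 7, 5, 7, 1, 3, 1, 3, 2, 0, 2, 8]
def w10 : List ℕ := [2, 8, 2, 1, 5, 1, 3, 1, 3, 0, 6, 7, 3, 7, 2, 8, 2, 1, 5, 1, 3, 1, 3, 0, 6, 7, 3, 7, 2, 8, 2, 1, 5, 1, 3, 1, 3, 0, 6, 7, 3, 7, 2, 8, 2, 1, 5, 1, 3, 1, 3, 0, 6, 7, 3, 7, 2, 8, 2, 1, 5, 1, 3, 1, 3, 0, 6, 7, 3, 7, 2, 8, 2, 1, 5, 1, 3, 1, 3, 0, 6, 7, 3, 7]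
def w12 : List ℕ := [2, 8, 2, 5, 1, 1, 3, 1, 3, 6, 0, 7, 3, 7, 2, 8, 2, 5, 1, 1, 3, 1, 3, 6, 0, 7, 3, 7, 2, 8, 2, 5, 1, 1, 3, 1, 3, 6, 0, 7, 3, 7]
def w20 : List ℕ := [9, 1, 3, 2, 1, 5, 1, 3, 1, 3, 0, 6, 7, 8, 6, 4]
def w21 : List ℕ := [9, 2, 1, 5, 7, 1, 3, 1, 3, 2, 0, 6, 7, 4, 9, 2, 1, 5, 7, 1, 3, 1, 3, 2, 0, 6, 7, 4, 9, 2, 1, 5, 7, 1, 3, 1, 3, 2, 0, 6, 7, 4, 9, 2, 1, 5, 7, 1, 3, 1, 3, 2, 0, 6, 7, 4, 9, 2, 1, 5, 7, 1, 3, 1, 3, 2, 0, 6, 7, 4, 9, 2, 1, 5, 7, 1, 3, 1, 3, 2, 0, 6, 7, 4]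

def wL (i j : Fin 3) : List ℕ :=
  match i.1, j.1 with
  | 0, 1 => w01
  | 0, 2 => w02
  | 1, 0 => w10
  | 1, 2 => w12
  | 2, 0 => w20
  | 2, 1 => w21
  | _, _ => []

def elemM (i j : Fin 3) : M3 :=
  match i.1, j.1 with
  | 0, 1 => ⟨⟨1, 1, 0⟩, ⟨0, 1, 0⟩, ⟨0, 0, 1⟩⟩
  | 0, 2 => ⟨⟨1, 0, 1⟩, ⟨0, 1, 0⟩, ⟨0, 0, 1⟩⟩
  | 1, 0 => ⟨⟨1, 0, 0⟩, ⟨1, 1, 0⟩, ⟨0, 0, 1⟩⟩
  | 1, 2 => ⟨⟨1, 0, 0⟩, ⟨0, 1, 1⟩, ⟨0, 0, 1⟩⟩
  | 2, 0 => ⟨⟨1, 0, 0⟩, ⟨0, 1, 0⟩, ⟨1, 0, 1⟩⟩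
  | 2, 1 => ⟨⟨1, 0, 0⟩, ⟨0, 1, 0⟩, ⟨0, 1, 1⟩⟩
  | _, _ => M3.one

theorem evalW_wL : ∀ i j : Fin 3, i ≠ j → evalW (wL i j) = elemM i j := by decide +kernel

theorem toM_elemM (i j : Fin 3) (hij : i ≠ j) : (elemM i j).toM = Matrix.transvection i j 1 := by
  ext a b
  fin_cases i <;> fin_cases j <;> first
    | exact absurd rfl hij
    | (fin_cases a <;> fin_cases b <;>
        simp [Matrix.transvection, elemM, M3.toM, V3.toV])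

theorem tv_one_mem (i j : Fin 3) (hij : i ≠ j) :
    Matrix.SpecialLinearGroup.transvection hij (1 : ZMod 7) ∈ XS := by
  have h : Matrix.SpecialLinearGroup.transvection hij (1 : ZMod 7) = wordN (wL i j) := by
    apply Subtype.ext
    rw [wordN_coe, evalW_wL i j hij, toM_elemM i j hij]
    rfl
  rw [h]
  exact wordN_mem _

theorem tv_nat (i j : Fin 3) (hij : i ≠ j) (n : ℕ) :
    Matrix.SpecialLinearGroup.transvection hij ((n : ℕ) : ZMod 7) =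
      (Matrix.SpecialLinearGroup.transvection hij (1 : ZMod 7)) ^ n := by
  induction n with
  | zero => simp
  | succ n ih =>
    rw [pow_succ, ← ih]
    apply Subtype.ext
    rw [Matrix.SpecialLinearGroup.coe_mul]
    show Matrix.transvection i j ((n + 1 : ℕ) : ZMod 7) =
      Matrix.transvection i j ((n : ℕ) : ZMod 7) * Matrix.transvection i j 1
    rw [Matrix.transvection_mul_transvection_same i j hij, Nat.cast_succ]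

theorem tv_mem (i j : Fin 3) (hij : i ≠ j) (c : ZMod 7) :
    Matrix.SpecialLinearGroup.transvection hij c ∈ XS := by
  rw [← ZMod.natCast_zmod_val c, tv_nat]
  exact XS.pow_mem (tv_one_mem i j hij) _

theorem XS_eq_top : XS = ⊤ := by
  rw [eq_top_iff]
  intro A _
  exact Cfsg.Agent.Lib.Helper4.transvection_induction_gen (fun B => B ∈ XS)
    (fun i j h c => tv_mem i j h c) (fun A B hA hB => XS.mul_mem hA hB) A

/-- the images of the five generators generate `PSL(3,7)` -/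
theorem closure_mk_spOf :
    Subgroup.closure (Set.range fun i : Fin 5 => (QuotientGroup.mk (spOf i) : PSL3)) = ⊤ := by
  have h : XS.map (QuotientGroup.mk' (Subgroup.center SL3)) = ⊤ := by
    rw [XS_eq_top]
    exact Subgroup.map_top_of_surjective _ (QuotientGroup.mk'_surjective _)
  unfold XS at h
  rw [MonoidHom.map_closure, ← Set.range_comp] at h
  exact h

end Cfsg.Agent.Lib.Helper8.ONSp
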