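import Cfsg.Agent.Lib.Helper8.ONSpC
import Cfsg.Agent.Lib.Helper8.ONSpD
import Cfsg.Agent.Lib.Helper8.ONSpB
import Cfsg.Agent.Lib.Helper8.HeSpB
import Cfsg.Agent.Lib.Helper4.SLCenter

/-! The subgroup of index 122760 of the presented O'Nan group has a subgroup of index two isomorphic
to `PSL(3,7)`. -/

set_option autoImplicit false

namespace Cfsg.Agent.Lib.Helper8.ONSp

open Cfsg.Agent.Lib.Helper4.TC Cfsg.Agent.Lib.Helper4.TCD Cfsg.Agent.Lib.Helper4.TC.Log
open Cfsg.Agent.Lib.Helper8.HeSp (blockSubgroup blockHom blockHom_eq)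

set_option maxRecDepth 100000

/-- the subgroup of index 122760 -/
abbrev HON : Subgroup PON.P.Grp := Inst.subG PON.P ON1.subs

/-- the label of a natural number -/
def cN (n : ℕ) : Option (Fin 57) := if h : cT n < 57 then some ⟨cT n, h⟩ else none

theorem cN_eq_some {n : ℕ} {q : Fin 57} (h : cN n = some q) : cT n = q.1 := by
  unfold cN at h
  by_cases hn : cT n < 57
  · rw [dif_pos hn] at h
    have := Option.some.inj h
    rw [← this]
  · rw [dif_neg hn] at h
    exact absurd h (by simp)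

/-- the point of a table index -/
def cB (x : Fin ON1.T.N) : Option (Fin 57) := cN x.1

theorem cB_surj : ∀ y : Fin 57, ∃ x, cB x = some y := by
  intro y
  obtain ⟨h1, h2⟩ := c_sec y
  refine ⟨⟨secT y.1, h1⟩, ?_⟩
  show cN (secT y.1) = some y
  unfold cN
  rw [dif_pos (by rw [h2]; exact y.2)]
  congr 1
  exact Fin.ext h2

theorem cN_resp (k : Fin 5) (i : ℕ) (hi : i < 122760) :
    cN (Tab.act ON1.T ON1.D (nW k.1) i) = (cN i).map (pi k) := by
  unfold cN
  rw [c_resp k i hi]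
  by_cases h : cT i < 57
  · have h' : pT k.1 (cT i) < 57 := (p_ok k ⟨cT i, h⟩).1
    rw [dif_pos h, dif_pos h', Option.map_some]
    rfl
  · have h57 : cT i = 57 := by
      have := cT_le i hi
      omega
    rw [dif_neg h, Option.map_none, h57, p_57 k, dif_neg (by decide)]

theorem nW_lt : ∀ k : Fin 5, ∀ y ∈ nW k.1, y < 8 := by decide

theorem phi_word' (u : List ℕ) (hu : ∀ y ∈ u, y < 8) (x : Fin ON1.T.N) :
    (ON1.inst.phi (wordP PON.P.gR u) x).1 = Tab.act ON1.T ON1.D u x.1 := by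
  rw [← ON1.inst.gE_word u hu]
  exact ON1.inst.hC.phi_word ON1.inst.phi ON1.inst.hphi u
    (fun y hy => by rw [ON1.inst.hk]; exact hu y hy) x

theorem resp (k : Fin 5) (x : Fin ON1.T.N) :
    cB (ON1.inst.phi (wordP PON.P.gR (nW k.1)) x) = (cB x).map (pi k) := by
  show cN (ON1.inst.phi (wordP PON.P.gR (nW k.1)) x).1 = (cN x.1).map (pi k)
  rw [phi_word' _ (nW_lt k)]
  exact cN_resp k x.1 x.2

theorem subs_mem : ∀ x : Fin 6, [x.1 + 2] ∈ ON1.subs := by decide

/-- the generators `a, …, f` -/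
noncomputable def uE (x : Fin 6) : HON :=
  ⟨wordP PON.P.gR [x.1 + 2], Subgroup.subset_closure ⟨[x.1 + 2], subs_mem x, rfl⟩⟩

/-- the products `ab, bc, cd, de, ef` -/
noncomputable def nE (k : Fin 5) : HON :=
  uE ⟨k.1, by omega⟩ * uE ⟨k.1 + 1, by omega⟩

theorem nE_coe (k : Fin 5) : (nE k).1 = wordP PON.P.gR (nW k.1) := by
  show wordP PON.P.gR [k.1 + 2] * wordP PON.P.gR [k.1 + 1 + 2] = wordP PON.P.gR [k.1 + 2, k.1 + 3]
  simp only [wordP_cons, wordP_nil, mul_one]

/-- the subgroup of index two -/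
noncomputable def N0 : Subgroup HON := Subgroup.closure (Set.range nE)

theorem hmem0 (n : N0) : ON1.inst.phi n.1.1 ∈ blockSubgroup cB := by
  have h : N0 ≤ (blockSubgroup cB).comap (ON1.inst.phi.comp HON.subtype) := by
    unfold N0
    rw [Subgroup.closure_le]
    rintro _ ⟨k, rfl⟩
    show ON1.inst.phi (nE k).1 ∈ blockSubgroup cB
    rw [nE_coe]
    exact ⟨pi k, resp k⟩
  exact h n.2

/-- the action of the subgroup of index two on the 57 points -/
noncomputable def tau0 : N0 →* Equiv.Perm (Fin 57) :=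
  (blockHom cB cB_surj).comp
    (((ON1.inst.phi.comp HON.subtype).comp N0.subtype).codRestrict (blockSubgroup cB) hmem0)

theorem tau0_nE (k : Fin 5) : tau0 ⟨nE k, Subgroup.subset_closure ⟨k, rfl⟩⟩ = pi k := by
  apply blockHom_eq cB cB_surj _ (pi k)
  intro x
  show cB (ON1.inst.phi (nE k).1 x) = (cB x).map (pi k)
  rw [nE_coe]
  exact resp k x

theorem N0_ne_top : N0 ≠ ⊤ := by
  intro htop
  have ha : uE 0 ∈ N0 := by rw [htop]; exact Subgroup.mem_top _
  obtain ⟨π, hπ⟩ := hmem0 ⟨uE 0, ha⟩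
  obtain ⟨hx, hy, hxy, hlt, hne⟩ := wit_a
  have h1 := hπ ⟨_, hx⟩
  have h2 := hπ ⟨_, hy⟩
  have e1 : ∀ x : Fin ON1.T.N, cB (ON1.inst.phi (uE 0).1 x) = cN (Tab.act ON1.T ON1.D [2] x.1) := by
    intro x
    show cN (ON1.inst.phi (wordP PON.P.gR [2]) x).1 = _
    rw [phi_word' _ (by decide)]
  rw [e1] at h1 h2
  have hcx : cN (116376 : ℕ) = some ⟨cT 116376, hlt⟩ := by
    unfold cN
    rw [dif_pos hlt]
  have hcy : cN (116381 : ℕ) = some ⟨cT 116376, hlt⟩ := by
    unfold cN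
    have hlt' : cT 116381 < 57 := by rw [← hxy]; exact hlt
    rw [dif_pos hlt']
    congr 1
  have h1' : cN (Tab.act ON1.T ON1.D [2] 116376) = some (π ⟨cT 116376, hlt⟩) := by
    rw [h1]
    show (cN 116376).map π = _
    rw [hcx, Option.map_some]
  have h2' : cN (Tab.act ON1.T ON1.D [2] 116381) = some (π ⟨cT 116376, hlt⟩) := by
    rw [h2]
    show (cN 116381).map π = _
    rw [hcy, Option.map_some]
  exact hne ((cN_eq_some h1').trans (cN_eq_some h2').symm)

theorem pimatch0 : ∀ j : Fin 57, pi 0 j = idx3 ((gM 0).mv (W3 j)) := by decide +kernel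
theorem pimatch1 : ∀ j : Fin 57, pi 1 j = idx3 ((gM 1).mv (W3 j)) := by decide +kernel
theorem pimatch2 : ∀ j : Fin 57, pi 2 j = idx3 ((gM 2).mv (W3 j)) := by decide +kernel
theorem pimatch3 : ∀ j : Fin 57, pi 3 j = idx3 ((gM 3).mv (W3 j)) := by decide +kernel
theorem pimatch4 : ∀ j : Fin 57, pi 4 j = idx3 ((gM 4).mv (W3 j)) := by decide +kernel

theorem pimatch (k : Fin 5) (j : Fin 57) : pi k j = idx3 ((gM k.1).mv (W3 j)) := by
  fin_cases k
  · exact pimatch0 j
  · exact pimatch1 j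
  · exact pimatch2 j
  · exact pimatch3 j
  · exact pimatch4 j

theorem card_PSL3 : Nat.card PSL3 = 1876896 := by
  have h1 := Cfsg.Agent.Lib.Helper4.card_PSL_mul (F := ZMod 7) 3 (by norm_num)
  have h2 := Cfsg.Agent.Lib.Helper4.card_SL_mul (F := ZMod 7) 3 (by norm_num)
  have h3 : Nat.card (GL (Fin 3) (ZMod 7)) = 33784128 := by
    rw [Matrix.card_GL_field, ZMod.card, Fin.prod_univ_three]
    norm_num
  rw [ZMod.card] at h1 h2
  rw [h3] at h2
  have h4 : Nat.gcd 3 (7 - 1) = 3 := by decide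
  rw [h4] at h1
  rw [← h1] at h2
  show Nat.card (Matrix.ProjectiveSpecialLinearGroup (Fin 3) (ZMod 7)) = _
  omega

theorem card_HON (hcard : Nat.card PON.P.Grp = 460815505920) : Nat.card HON = 2 * 1876896 := by
  have := HON.index_mul_card
  rw [ON1.index_eq, hcard] at this
  omega

/-- the subgroup of index 122760 has a subgroup of index two isomorphic to `PSL(3,7)` -/
theorem exists_psl37 [Finite PON.P.Grp] (hcard : Nat.card PON.P.Grp = 460815505920) :
    ∃ N : Subgroup HON, N.index = 2 ∧ Nonempty (N ≃* PSL3) := by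
  refine ⟨N0, index_two_iso' 1876896 (by norm_num) (card_HON hcard) card_PSL3 N0 tau0 rho
    rho_injective _ closure_mk_spOf ?_ N0_ne_top⟩
  rintro _ ⟨k, rfl⟩
  refine ⟨⟨nE k, Subgroup.subset_closure ⟨k, rfl⟩⟩, ?_⟩
  rw [tau0_nE, rho_mk]
  ext j
  rw [show spOf k = (gM k.1).toSL (gM_det k.1) from rfl, rho0_toSL, pimatch]

end Cfsg.Agent.Lib.Helper8.ONSp
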