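import Cfsg.Agent.Lib.Helper8.ONSpE

/-! The subgroup of index 122760 of the presented O'Nan group as the subgroup generated by six
generators. -/

set_option autoImplicit false

namespace Cfsg.Agent.Lib.Helper8.ONSp

open Cfsg.Spor Cfsg.Agent.Lib.Helper4.TC Cfsg.Agent.Lib.Helper4.TCD Cfsg.Agent.Lib.Helper4.TC.Log

theorem HON_eq :
    ((Subgroup.closure ({ON.a, ON.b, ON.c, ON.d, ON.e, ON.f} : Set (FreeGroup ON.Gen))).map
        (PresentedGroup.mk PON.P.rels) : Subgroup PON.P.Grp) = HON := by
  rw [MonoidHom.map_closure]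
  unfold HON Inst.subG
  congr 1
  ext x
  simp only [Set.image_insert_eq, Set.image_singleton, Set.mem_insert_iff, Set.mem_singleton_iff,
    ON1.subs, List.mem_cons, List.not_mem_nil, or_false, exists_eq_or_imp, exists_eq_left,
    Log.wordP_cons, Log.wordP_nil, wordP_replicate_flatten, mul_one, map_mul, map_pow]
  rfl

end Cfsg.Agent.Lib.Helper8.ONSp
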