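import Cfsg.Agent.Lib.Helper8.ONSpA

/-! The action of `PSL(3,7)` on the 57 point indices is a faithful permutation representation. -/

set_option autoImplicit false

namespace Cfsg.Agent.Lib.Helper8.ONSp

open Matrix

instance instFactPrimeSeven : Fact (Nat.Prime 7) := ⟨by norm_num⟩

/-- the action on point indices -/
noncomputable def pact (A : SL3) (j : Fin 57) : Fin 57 := idx3 (V3.ofV (A.1 *ᵥ (W3 j).toV))

theorem sl_mulVec_ne_zero (A : SL3) (x : Fin 3 → ZMod 7) (hx : x ≠ 0) : A.1 *ᵥ x ≠ 0 := by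
  intro h
  have h1 : (A⁻¹).1 *ᵥ (A.1 *ᵥ x) = x := by
    rw [mulVec_mulVec, ← Matrix.SpecialLinearGroup.coe_mul, inv_mul_cancel,
      Matrix.SpecialLinearGroup.coe_one, one_mulVec]
  rw [h, mulVec_zero] at h1
  exact hx h1.symm

theorem W3_toV_ne_zero (j : Fin 57) : (W3 j).toV ≠ 0 := by
  intro h
  apply W3_ne_zero j
  apply V3.toV_injective
  rw [h, V3.toV_zero]

theorem pact_one (j : Fin 57) : pact 1 j = j := by
  unfold pact
  rw [Matrix.SpecialLinearGroup.coe_one, one_mulVec, V3.ofV_toV, idx3_W3]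

theorem pact_mul (A B : SL3) (j : Fin 57) : pact (A * B) j = pact A (pact B j) := by
  unfold pact
  have hy0 : V3.ofV (B.1 *ᵥ (W3 j).toV) ≠ V3.zero := by
    rw [Ne, V3.ofV_eq_zero_iff]
    exact sl_mulVec_ne_zero B _ (W3_toV_ne_zero j)
  obtain ⟨l, hl, hW⟩ := W3_idx3' _ hy0
  rw [hW, V3.toV_smul, V3.toV_ofV, mulVec_smul, V3.ofV_smul, idx3_smul' _ _ hl, mulVec_mulVec,
    Matrix.SpecialLinearGroup.coe_mul]

noncomputable instance instMulActionSL3 : MulAction SL3 (Fin 57) where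
  smul := pact
  one_smul := pact_one
  mul_smul := pact_mul

/-- the permutation representation of `SL(3,7)` on the 57 points -/
noncomputable def rho0 : SL3 →* Equiv.Perm (Fin 57) := MulAction.toPermHom SL3 (Fin 57)

theorem rho0_apply (A : SL3) (j : Fin 57) : rho0 A j = pact A j := rfl

theorem rho0_toSL (M : M3) (h : M.det = 1) (j : Fin 57) :
    rho0 (M.toSL h) j = idx3 (M.mv (W3 j)) := by
  rw [rho0_apply]
  unfold pact
  show idx3 (V3.ofV (M.toM *ᵥ (W3 j).toV)) = _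
  rw [M3.toM_mulVec, V3.ofV_toV]

theorem eigen_of_fix (A : SL3) (h : ∀ j, pact A j = j) (t : V3) (ht : t ≠ V3.zero) :
    ∃ μ : ZMod 7, A.1 *ᵥ t.toV = μ • t.toV := by
  obtain ⟨l, hl, hW⟩ := W3_idx3' t ht
  have hj := h (idx3 t)
  unfold pact at hj
  have hy0 : V3.ofV (A.1 *ᵥ (W3 (idx3 t)).toV) ≠ V3.zero := by
    rw [Ne, V3.ofV_eq_zero_iff]
    exact sl_mulVec_ne_zero A _ (W3_toV_ne_zero _)
  obtain ⟨l', hl', hW'⟩ := W3_idx3' _ hy0
  rw [hj] at hW'
  have e1 := congrArg V3.toV hW'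
  rw [V3.toV_smul, V3.toV_ofV, hW, V3.toV_smul, mulVec_smul] at e1
  refine ⟨l'⁻¹, ?_⟩
  have e2 : (l'⁻¹ * l⁻¹) • (l • t.toV) = (l'⁻¹ * l⁻¹) • (l' • l • (A.1 *ᵥ t.toV)) := by rw [e1]
  rw [smul_smul, smul_smul, smul_smul] at e2
  have h1 : l'⁻¹ * l⁻¹ * l = l'⁻¹ := by rw [mul_assoc, inv_mul_cancel₀ hl, mul_one]
  have h2 : l'⁻¹ * l⁻¹ * l' * l = 1 := by field_simp
  rw [h1, h2, one_smul] at e2
  exact e2.symm

/-- the standard basis -/
def E3 : Fin 3 → V3 := ![⟨1, 0, 0⟩, ⟨0, 1, 0⟩, ⟨0, 0, 1⟩]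

theorem toV_E3 (i : Fin 3) : (E3 i).toV = Pi.single i 1 := by
  ext j
  fin_cases i <;> fin_cases j <;> rfl

theorem E3_ne_zero : ∀ i : Fin 3, E3 i ≠ V3.zero := by decide

theorem E3_add_ne_zero : ∀ i : Fin 3, i ≠ 0 → V3.add (E3 0) (E3 i) ≠ V3.zero := by decide

theorem scalar_of_fix (A : SL3) (h : ∀ j, pact A j = j) :
    ∃ μ : ZMod 7, A.1 = μ • (1 : Matrix (Fin 3) (Fin 3) (ZMod 7)) := by
  have eig := eigen_of_fix A h
  choose μ hμ using fun i => eig (E3 i) (E3_ne_zero i)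
  have key : ∀ i, μ i = μ 0 := by
    intro i
    by_cases hi : i = 0
    · rw [hi]
    · obtain ⟨ν, hν⟩ := eig (V3.add (E3 0) (E3 i)) (E3_add_ne_zero i hi)
      rw [V3.toV_add, mulVec_add, hμ, hμ, smul_add, toV_E3, toV_E3] at hν
      have a := congrFun hν 0
      have b := congrFun hν i
      simp [hi, Ne.symm hi] at a b
      rw [a, b]
  refine ⟨μ 0, ?_⟩
  apply Matrix.ext_of_mulVec_single
  intro i
  rw [← toV_E3, hμ, key i, smul_mulVec, one_mulVec]

theorem mem_center_of_fix (A : SL3) (h : ∀ j, pact A j = j) : A ∈ Subgroup.center SL3 := by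
  obtain ⟨μ, hμ⟩ := scalar_of_fix A h
  rw [Matrix.SpecialLinearGroup.mem_center_iff]
  refine ⟨μ, ?_, ?_⟩
  · have hd := A.2
    rw [hμ, det_smul, det_one, mul_one] at hd
    simpa using hd
  · rw [hμ]
    ext i j
    simp [Matrix.scalar_apply, Matrix.diagonal_apply, Matrix.one_apply]

theorem fix_of_mem_center (A : SL3) (hA : A ∈ Subgroup.center SL3) (j : Fin 57) : pact A j = j := by
  rw [Matrix.SpecialLinearGroup.mem_center_iff] at hA
  obtain ⟨r, hr, hA⟩ := hA
  have hr0 : r ≠ 0 := by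
    rintro rfl
    simp at hr
  unfold pact
  rw [← hA]
  have : (Matrix.scalar (Fin 3)) r *ᵥ (W3 j).toV = r • (W3 j).toV := by
    ext i
    simp [Matrix.scalar_apply, Matrix.mulVec_diagonal]
  rw [this, V3.ofV_smul, idx3_smul' _ _ hr0, V3.ofV_toV, idx3_W3]

/-- the permutation representation of `PSL(3,7)` on the 57 points -/
noncomputable def rho : PSL3 →* Equiv.Perm (Fin 57) :=
  QuotientGroup.lift (Subgroup.center SL3) rho0 (fun A hA => by
    ext j
    rw [rho0_apply, fix_of_mem_center A hA j]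
    rfl)

theorem rho_mk (A : SL3) : rho (QuotientGroup.mk A) = rho0 A := rfl

theorem rho_injective : Function.Injective rho := by
  rw [injective_iff_map_eq_one]
  intro x
  induction x using QuotientGroup.induction_on with
  | H A =>
    intro hA
    rw [rho_mk] at hA
    rw [QuotientGroup.eq_one_iff]
    apply mem_center_of_fix
    intro j
    have := congrArg (fun p : Equiv.Perm (Fin 57) => p j) hA
    simpa [rho0_apply] using this

end Cfsg.Agent.Lib.Helper8.ONSp
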