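import Cfsg.Agent.Lib.Helper8.SpJ1
import Cfsg.Agent.Lib.Helper5.AschE.Classes

set_option autoImplicit false

/-! Even-dimensional orthogonal groups in characteristic two: the classes that can occur, and basic
facts on quadratic forms in characteristic two. -/

namespace Cfsg.Agent.Lib.Helper8.Asch

open Module Matrix
open scoped Kronecker
open Cfsg Cfsg.Geo

variable {ι : Type} [Fintype ι] [DecidableEq ι] {F : Type*} [Field F]

/-- class 7 for a quadratic form in characteristic two: a tensor power of an alternating form, with `Q`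
vanishing on the pure tensors -/
def OECls7 (Q : (ι → F) → F) (M : Subgroup (GL ι F)) : Prop :=
  ∃ (k t : ℕ) (e : ι ≃ (Fin t → Fin k)) (P : GL ι F) (f₁ : (Fin k → F) → (Fin k → F) → F),
      2 ≤ t ∧ IsSymplecticForm f₁ ∧ IsTensorPowerFormStructure id (QuadraticMap.polar Q) f₁ e P ∧
      (∀ ws : Fin t → Fin k → F,
        Q ((P : Matrix ι ι F) *ᵥ ((fun a : Fin t → Fin k => ∏ i, ws i (a i)) ∘ e)) = 0) ∧
      M = tensorWreathSubgroup k t e P ⊓ isometryGroup F Q

/-- the geometric classes for the isometry group of a quadratic form `Q` in even characteristic: the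
classes 1 to 5 in the form fixed by helper5, and the tensor power class. -/
def IOEC2 [Fintype F] (Q : (ι → F) → F) (M : Subgroup (GL ι F)) : Prop :=
  Cfsg.Agent.Lib.Helper5.AschE.InOEClass Q M ∨ OECls7 Q M

theorem IOEC2.of [Fintype F] {Q : (ι → F) → F} {H : Subgroup (GL ι F)}
    (h : ∃ M, Cfsg.Agent.Lib.Helper5.AschE.InOEClass Q M ∧ H ≤ M) :
    ∃ M, IOEC2 Q M ∧ H ≤ M := by
  obtain ⟨M, hM, hle⟩ := h
  exact ⟨M, Or.inl hM, hle⟩

theorem IOEC2.of_not_pow [Fintype F] {Q : (ι → F) → F} {M : Subgroup (GL ι F)}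
    (hn : ∀ k t : ℕ, 2 ≤ t → Fintype.card ι ≠ k ^ t) (h : IOEC2 Q M) :
    Cfsg.Agent.Lib.Helper5.AschE.InOEClass Q M := by
  rcases h with h | ⟨k, t, e, _, _, ht, _⟩
  · exact h
  · exfalso
    apply hn k t ht
    rw [Fintype.card_congr e, Fintype.card_fun, Fintype.card_fin, Fintype.card_fin]

theorem mem_isometryGroup_iff (Q : (ι → F) → F) (g : GL ι F) :
    g ∈ isometryGroup F Q ↔ ∀ v, Q ((g : Matrix ι ι F) *ᵥ v) = Q v := by
  constructor
  · intro h v
    exact h v v
  · intro h u _
    exact h u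

/-- the data of the orthogonal case in characteristic two -/
structure OEven (Q : (ι → F) → F) (H : Subgroup (GL ι F)) : Prop where
  hQ : IsNondegenerateQuadraticForm Q
  h2 : (2 : F) = 0
  le : H ≤ isometryGroup F Q

namespace OEven

variable {Q : (ι → F) → F} {H : Subgroup (GL ι F)}

theorem Qinv (h : OEven Q H) {g : GL ι F} (hg : g ∈ H) (v : ι → F) :
    Q ((g : Matrix ι ι F) *ᵥ v) = Q v :=
  (mem_isometryGroup_iff Q g).mp (h.le hg) v

theorem neg_eq (h : OEven Q H) (x : F) : -x = x := by
  have : x + x = 0 := by linear_combination x * h.h2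
  exact neg_eq_of_add_eq_zero_left this

theorem symp (h : OEven Q H) : IsSymplecticForm (QuadraticMap.polar Q) := by
  refine ⟨h.hQ.polar_bilinear, ?_, ?_, h.hQ.nondegenerate⟩
  · intro v w
    rw [h.neg_eq]
    exact QuadraticMap.polar_comm Q v w
  · intro v
    unfold QuadraticMap.polar
    have h1 : v + v = (2 : F) • v := (two_smul F v).symm
    rw [h1, h.hQ.smul, h.h2]
    ring_nf
    linear_combination (-(Q v)) * h.h2

theorem isom (h : OEven Q H) : Isom (QuadraticMap.polar Q) H := by
  intro g hg u v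
  unfold QuadraticMap.polar
  rw [← Matrix.mulVec_add, h.Qinv hg, h.Qinv hg, h.Qinv hg]

theorem mono (h : OEven Q H) {H' : Subgroup (GL ι F)} (hle : H' ≤ H) : OEven Q H' :=
  ⟨h.hQ, h.h2, hle.trans h.le⟩

/-- `Q` is additive on a pair of orthogonal vectors -/
theorem Q_add (_h : OEven Q H) {u v : ι → F} (huv : QuadraticMap.polar Q u v = 0) :
    Q (u + v) = Q u + Q v := by
  unfold QuadraticMap.polar at huv
  linear_combination huv

end OEven

end Cfsg.Agent.Lib.Helper8.Asch
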