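import Cfsg.Agent.Lib.Helper8.OeA0

set_option autoImplicit false

/-! Characteristic two: an irreducible group fixes at most one quadratic form with a given polar
form; the singular vectors of a totally isotropic subspace; the reducible case. -/

namespace Cfsg.Agent.Lib.Helper8.Asch

open Module Matrix
open Cfsg Cfsg.Geo

variable {ι : Type} [Fintype ι] [DecidableEq ι] {F : Type*} [Field F] [Fintype F]

theorem irr_invariant {H : Subgroup (GL ι F)} (hirr : Irr (HV H)) (W : Submodule F (ι → F))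
    (hW : ∀ h ∈ H, ∀ w ∈ W, (h : Matrix ι ι F) *ᵥ w ∈ W) : W = ⊥ ∨ W = ⊤ := by
  apply hirr W
  intro u hu w hw
  obtain ⟨g, hg, rfl⟩ := exists_of_mem_HV hu
  rw [toV_apply]
  exact hW g hg w hw

/-- an additive map `D` with `D (c • v) = c ^ 2 * D v` invariant under an irreducible group is zero -/
theorem semilinear_eq_zero (h2F : (2 : F) = 0) (hcard : 2 ≤ Fintype.card ι) {H : Subgroup (GL ι F)}
    (hirr : Irr (HV H)) (D : (ι → F) → F) (hadd : ∀ u v, D (u + v) = D u + D v)
    (hsm : ∀ (c : F) (v : ι → F), D (c • v) = c ^ 2 * D v)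
    (hinv : ∀ g ∈ H, ∀ v, D ((g : Matrix ι ι F) *ᵥ v) = D v) (v : ι → F) : D v = 0 := by
  let W : Submodule F (ι → F) :=
    { carrier := {v | D v = 0}
      add_mem' := by
        intro a b ha hb
        show D (a + b) = 0
        rw [hadd, ha, hb, add_zero]
      zero_mem' := by
        show D 0 = 0
        have := hsm 0 0
        rw [zero_smul] at this
        rw [this]
        ring
      smul_mem' := by
        intro c a ha
        show D (c • a) = 0
        rw [hsm, ha, mul_zero] }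
  have hW : ∀ h ∈ H, ∀ w ∈ W, (h : Matrix ι ι F) *ᵥ w ∈ W := by
    intro g hg w hw
    show D _ = 0
    rw [hinv g hg]
    exact hw
  rcases irr_invariant hirr W hW with hbot | htop
  · exfalso
    obtain ⟨w, hw0, hw⟩ := exists_ne_zero_of_semilinear h2F hcard D hadd hsm
    have : w ∈ W := hw
    rw [hbot] at this
    exact hw0 ((Submodule.mem_bot F).mp this)
  · have : v ∈ W := by
      rw [htop]
      trivial
    exact this

namespace OEven

variable {Q : (ι → F) → F} {H : Subgroup (GL ι F)}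

/-- uniqueness of the invariant quadratic form with a given polar form -/
theorem quad_unique (h : OEven Q H) (hcard : 2 ≤ Fintype.card ι) (hirr : Irr (HV H))
    (Q' : (ι → F) → F) (hsm : ∀ (c : F) (v : ι → F), Q' (c • v) = c ^ 2 * Q' v)
    (hpol : ∀ u v, QuadraticMap.polar Q' u v = QuadraticMap.polar Q u v)
    (hinv : ∀ g ∈ H, ∀ v, Q' ((g : Matrix ι ι F) *ᵥ v) = Q' v) (v : ι → F) : Q' v = Q v := by
  have := semilinear_eq_zero h.h2 hcard hirr (fun v => Q' v - Q v) ?_ ?_ ?_ v
  · exact sub_eq_zero.mp this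
  · intro u w
    have := hpol u w
    unfold QuadraticMap.polar at this
    show Q' (u + w) - Q (u + w) = Q' u - Q u + (Q' w - Q w)
    linear_combination this
  · intro c w
    show Q' (c • w) - Q (c • w) = c ^ 2 * (Q' w - Q w)
    rw [hsm, h.hQ.smul]
    ring
  · intro g hg w
    show Q' _ - Q _ = Q' w - Q w
    rw [hinv g hg, h.Qinv hg]

/-- the singular vectors of a totally isotropic subspace -/
def singPart (h : OEven Q H) (W : Submodule F (ι → F))
    (hW : ∀ u ∈ W, ∀ v ∈ W, QuadraticMap.polar Q u v = 0) : Submodule F (ι → F) where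
  carrier := {w | w ∈ W ∧ Q w = 0}
  add_mem' := by
    rintro a b ⟨ha, ha0⟩ ⟨hb, hb0⟩
    refine ⟨W.add_mem ha hb, ?_⟩
    rw [h.Q_add (hW a ha b hb), ha0, hb0, add_zero]
  zero_mem' := by
    refine ⟨W.zero_mem, ?_⟩
    have := h.hQ.smul 0 0
    rw [zero_smul] at this
    rw [this]
    ring
  smul_mem' := by
    rintro c a ⟨ha, ha0⟩
    refine ⟨W.smul_mem c ha, ?_⟩
    rw [h.hQ.smul, ha0, mul_zero]

theorem mem_singPart (h : OEven Q H) (W : Submodule F (ι → F))
    (hW : ∀ u ∈ W, ∀ v ∈ W, QuadraticMap.polar Q u v = 0) (w : ι → F) :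
    w ∈ h.singPart W hW ↔ w ∈ W ∧ Q w = 0 := Iff.rfl

theorem singPart_invariant (h : OEven Q H) (W : Submodule F (ι → F))
    (hW : ∀ u ∈ W, ∀ v ∈ W, QuadraticMap.polar Q u v = 0) {g : GL ι F} (hg : g ∈ H)
    (hgW : ∀ w ∈ W, (g : Matrix ι ι F) *ᵥ w ∈ W) :
    ∀ w ∈ h.singPart W hW, (g : Matrix ι ι F) *ᵥ w ∈ h.singPart W hW := by
  rintro w ⟨hw, hw0⟩
  exact ⟨hgW w hw, by rw [h.Qinv hg, hw0]⟩

/-- a totally isotropic subspace without singular vectors is a non-singular point -/
theorem eq_span_of_singPart_eq_bot (h : OEven Q H) (W : Submodule F (ι → F))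
    (hW : ∀ u ∈ W, ∀ v ∈ W, QuadraticMap.polar Q u v = 0) (hbot : W ≠ ⊥)
    (hs : h.singPart W hW = ⊥) : ∃ v : ι → F, Q v ≠ 0 ∧ W = Submodule.span F {v} := by
  obtain ⟨v, hvW, hv0⟩ := Submodule.exists_mem_ne_zero_of_ne_bot hbot
  have hns : ∀ w ∈ W, Q w = 0 → w = 0 := by
    intro w hw hw0
    have : w ∈ h.singPart W hW := ⟨hw, hw0⟩
    rw [hs] at this
    exact (Submodule.mem_bot F).mp this
  have hQv : Q v ≠ 0 := fun h0 => hv0 (hns v hvW h0)
  refine ⟨v, hQv, le_antisymm ?_ ?_⟩
  · intro w hw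
    haveI : CharP F 2 := CharTwo.of_one_ne_zero_of_two_eq_zero one_ne_zero h.h2
    have hchar : ringChar F = 2 := ringChar.eq F 2
    obtain ⟨a, ha⟩ := FiniteField.isSquare_of_char_two hchar (Q v)
    obtain ⟨b, hb⟩ := FiniteField.isSquare_of_char_two hchar (Q w)
    have ha0 : a ≠ 0 := by
      rintro rfl
      rw [mul_zero] at ha
      exact hQv ha
    have hz : b • v + a • w = 0 := by
      apply hns _ (W.add_mem (W.smul_mem b hvW) (W.smul_mem a hw))
      have hp : QuadraticMap.polar Q (b • v) (a • w) = 0 :=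
        hW _ (W.smul_mem b hvW) _ (W.smul_mem a hw)
      rw [h.Q_add hp, h.hQ.smul, h.hQ.smul, ha, hb]
      linear_combination (a * a * (b * b)) * h.h2
    have hw' : w = (-(b / a)) • v := by
      have h1 : a • w = -(b • v) := eq_neg_of_add_eq_zero_right hz
      have h2 : w = a⁻¹ • (a • w) := by rw [smul_smul, inv_mul_cancel₀ ha0, one_smul]
      rw [h2, h1, smul_neg, smul_smul, neg_smul]
      congr 2
      field_simp
    rw [hw']
    exact Submodule.smul_mem _ _ (Submodule.mem_span_singleton_self v)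
  · rw [Submodule.span_le]
    intro x hx
    rw [Set.mem_singleton_iff] at hx
    rw [hx]
    exact hvW

/-- the reducible case -/
theorem reducible (h : OEven Q H) (W : Submodule F (ι → F))
    (hbot : W ≠ ⊥) (htop : W ≠ ⊤)
    (hWinv : ∀ g ∈ H, ∀ w ∈ W, (g : Matrix ι ι F) *ᵥ w ∈ W) :
    ∃ M : Subgroup (GL ι F), IOEC2 Q M ∧ H ≤ M := by
  have hf := h.symp
  have hiso := h.isom
  set B := toBilin hf.bilinear with hBdef
  have hBr : B.IsRefl := toBilin_isRefl hf
  set W' := B.orthogonal W with hW'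
  have hW'inv : ∀ g ∈ H, ∀ w ∈ W', (g : Matrix ι ι F) *ᵥ w ∈ W' :=
    perp_invariant hf.bilinear hiso W hWinv
  by_cases hR : W ⊓ W' = ⊥
  swap
  · have hRti : ∀ u ∈ W ⊓ W', ∀ v ∈ W ⊓ W', QuadraticMap.polar Q u v = 0 := by
      intro u hu v hv
      exact hv.2 u hu.1
    have hRinv : ∀ g ∈ H, ∀ w ∈ W ⊓ W', (g : Matrix ι ι F) *ᵥ w ∈ W ⊓ W' :=
      fun g hg w hw => ⟨hWinv g hg w hw.1, hW'inv g hg w hw.2⟩
    by_cases hs : h.singPart (W ⊓ W') hRti = ⊥
    · obtain ⟨v, hv, hspan⟩ := h.eq_span_of_singPart_eq_bot (W ⊓ W') hRti hR hs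
      refine IOEC2.of (Cfsg.Agent.Lib.Helper5.AschE.cls1c h.le h.h2 hv
        (le_subspaceStabilizer H _ ?_))
      rw [← hspan]
      exact hRinv
    · refine IOEC2.of (Cfsg.Agent.Lib.Helper5.AschE.cls1a h.le hs ?_
        (le_subspaceStabilizer H _ ?_))
      · intro w hw
        exact hw.2
      · intro g hg w hw
        exact h.singPart_invariant _ hRti hg (hRinv g hg) w hw
  · have hdisj : Disjoint W W' := disjoint_iff.mpr hR
    have hWnd : IsNondegenerateOn (QuadraticMap.polar Q) W := nondegOn_of_disjoint hf W hdisj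
    exact IOEC2.of (Cfsg.Agent.Lib.Helper5.AschE.cls1b h.le hbot htop hWnd
      (le_subspaceStabilizer H _ hWinv))

end OEven

end Cfsg.Agent.Lib.Helper8.Asch
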