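import Cfsg.Agent.Lib.Helper8.SpB8

set_option autoImplicit false

/-! The non-isotypic case for the symplectic group: class 2 or class 8. -/

namespace Cfsg.Agent.Lib.Helper8.Asch

open Module Matrix
open Cfsg.Geo

variable {F : Type*} [Field F] [Fintype F]

theorem isomV_HV {ι : Type} [Fintype ι] [DecidableEq ι] {f : (ι → F) → (ι → F) → F}
    (hf : IsBilinearForm f) {H : Subgroup (GL ι F)} (hH : Isom f H) :
    IsomV (toBilin hf) (HV H) := by
  intro u hu x y
  obtain ⟨g, hg, rfl⟩ := exists_of_mem_HV hu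
  rw [toV_apply, toV_apply, toBilin_apply, hH g hg, toBilin_apply]

/-- a non-degenerate decomposition permuted by `H` gives class 2 -/
theorem sp_class2a (m : ℕ) (H : Subgroup (GL (Fin m ⊕ Fin m) F)) (hH : H ≤ spGL m F)
    {t k : ℕ} (D : Fin t → Submodule F (Fin m ⊕ Fin m → F)) (ht : 2 ≤ t) (hk : 0 < k)
    (hfr : ∀ i, finrank F (D i) = k) (hind : iSupIndep D) (hsup : iSup D = ⊤)
    (hdisj : ∀ i, Disjoint (D i) ((toBilin (isSymplecticForm_sympForm (F := F) m).bilinear).orthogonal (D i)))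
    (horth : ∀ i j, i ≠ j → D j ≤ (toBilin (isSymplecticForm_sympForm (F := F) m).bilinear).orthogonal (D i))
    (hperm : ∀ h ∈ HV H, ∃ π : Equiv.Perm (Fin t), ∀ i,
      (D i).map (h : Module.End F (Fin m ⊕ Fin m → F)) = D (π i)) :
    ∃ M : Subgroup (GL (Fin m ⊕ Fin m) F), ISPC m F M ∧ H ≤ M := by
  have hf := isSymplecticForm_sympForm (F := F) m
  refine ⟨decompositionStabilizer D ⊓ spGL m F,
    Or.inr (Or.inr (Or.inl ⟨t, k, D, ⟨⟨ht, hk, hfr, hind, hsup⟩, ?_, ?_⟩, rfl⟩)), ?_⟩
  · intro i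
    exact nondegOn_of_disjoint hf (D i) (hdisj i)
  · intro i j hij u hu v hv
    exact horth i j hij hv u hu
  · refine le_inf ?_ hH
    intro g hg
    obtain ⟨π, hπ⟩ := hperm (toV g) (mem_HV hg)
    exact ⟨π, fun i => by rw [← hπ i, toV_val]⟩

theorem sp_decomp (m : ℕ) (H : Subgroup (GL (Fin m ⊕ Fin m) F)) (hH : H ≤ spGL m F)
    {t k : ℕ} (D : Fin t → Submodule F (Fin m ⊕ Fin m → F)) (σ : Fin t → Fin t) (ht : 2 ≤ t)
    (hP : PairedDecomp (toBilin (isSymplecticForm_sympForm (F := F) m).bilinear) k D σ)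
    (hperm : ∀ h ∈ HV H, ∃ π : Equiv.Perm (Fin t), ∀ i,
      (D i).map (h : Module.End F (Fin m ⊕ Fin m → F)) = D (π i))
    (htrans : ∀ i j, ∃ h ∈ HV H, (D i).map (h : Module.End F (Fin m ⊕ Fin m → F)) = D j) :
    ∃ M : Subgroup (GL (Fin m ⊕ Fin m) F), ISPC m F M ∧ H ≤ M := by
  have hf := isSymplecticForm_sympForm (F := F) m
  have hiso := isom_of_le_spGL hH
  have hisoV := isomV_HV hf.bilinear hiso
  set B := toBilin hf.bilinear with hBdef
  by_cases hfix : ∃ i, σ i = i
  · obtain ⟨i₀, hi₀⟩ := hfix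
    have hall : ∀ j, σ j = j := hP.sigma_all (HV H) hisoV htrans hi₀
    refine sp_class2a m H hH D ht hP.pos hP.finrank_eq hP.indep hP.sup ?_ ?_ hperm
    · intro i
      have := hP.disj i
      rwa [hall i] at this
    · intro i j hij
      exact hP.orth i j (by rw [hall i]; exact Ne.symm hij)
  push Not at hfix
  by_cases ht3 : 3 ≤ t
  · obtain ⟨s, E, hs, hEfr, hEind, hEsup, hEdisj, hEorth, hEperm⟩ :=
      hP.coarsen hfix ht3 (HV H) hisoV hperm
    exact sp_class2a m H hH E hs (by have := hP.pos; omega) hEfr hEind hEsup hEdisj hEorth hEperm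
  -- two totally singular components
  have ht2 : t = 2 := by omega
  subst ht2
  have hts : ∀ i, IsTotallySingularFor (sympForm m F) (D i) := by
    intro i u hu v hv
    exact hP.orth i i (Ne.symm (hfix i)) hv u hu
  have hd01 : Disjoint (D 0) (D 1) := hP.indep.pairwiseDisjoint (by decide)
  have hsup01 : D 0 ⊔ D 1 = ⊤ := by
    rw [eq_top_iff, ← hP.sup]
    apply iSup_le
    intro i
    fin_cases i
    · exact le_sup_left
    · exact le_sup_right
  have hc : IsCompl (D 0) (D 1) := ⟨hd01, codisjoint_iff.mpr hsup01⟩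
  have hkm : k = m := by
    have := Submodule.finrank_add_eq_of_isCompl hc
    rw [hP.finrank_eq, hP.finrank_eq, Module.finrank_pi, Fintype.card_sum, Fintype.card_fin] at this
    omega
  by_cases hodd : Odd (Fintype.card F)
  · refine ⟨decompositionStabilizer D ⊓ spGL m F,
      Or.inr (Or.inr (Or.inr (Or.inl ⟨D, hodd, ⟨le_refl _, ?_, ?_, hP.indep, hP.sup⟩, hts, rfl⟩))), ?_⟩
    · exact hkm ▸ hP.pos
    · intro i; exact (hP.finrank_eq i).trans hkm
    · refine le_inf ?_ hH
      intro g hg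
      obtain ⟨π, hπ⟩ := hperm (toV g) (mem_HV hg)
      exact ⟨π, fun i => by rw [← hπ i, toV_val]⟩
  · have h2 : (2 : F) = 0 := two_eq_zero_of_not_odd hodd
    refine ⟨quadSimilarityGroup (tsQ (sympForm m F) hc) ⊓ spGL m F,
      Or.inr (Or.inr (Or.inr (Or.inr (Or.inr (Or.inr ⟨tsQ (sympForm m F) hc, hodd,
        tsQ_nondeg hf h2 hc (hts 0) (hts 1), tsQ_polar hf h2 hc (hts 0) (hts 1), rfl⟩))))), ?_⟩
    refine le_inf ?_ hH
    intro g hg
    refine ⟨1, fun v => ?_⟩
    rw [Units.val_one, one_mul]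
    apply tsQ_invariant hf h2 hc _ (hiso g hg)
    obtain ⟨π, hπ⟩ := hperm (toV g) (mem_HV hg)
    have hmem : ∀ i, ∀ w ∈ D i, (g : Matrix _ _ F) *ᵥ w ∈ D (π i) := by
      intro i w hw
      rw [← hπ i, toV_val]
      exact ⟨w, hw, Matrix.toLin'_apply _ _⟩
    by_cases h0 : π 0 = 0
    · left
      have h1 : π 1 = 1 := by
        have : π 1 ≠ 0 := fun h => by
          have := π.injective (h.trans h0.symm)
          exact absurd this (by decide)
        omega
      exact ⟨fun w hw => by have := hmem 0 w hw; rwa [h0] at this,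
        fun w hw => by have := hmem 1 w hw; rwa [h1] at this⟩
    · right
      have h0' : π 0 = 1 := by omega
      have h1 : π 1 = 0 := by
        have : π 1 ≠ 1 := fun h => by
          have := π.injective (h.trans h0'.symm)
          exact absurd this (by decide)
        omega
      exact ⟨fun w hw => by have := hmem 0 w hw; rwa [h0'] at this,
        fun w hw => by have := hmem 1 w hw; rwa [h1] at this⟩

end Cfsg.Agent.Lib.Helper8.Asch
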