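import Cfsg.Agent.Lib.Helper8.OeA1
import Cfsg.Agent.Lib.Helper8.SpB9

set_option autoImplicit false

/-! Even-dimensional orthogonal groups in characteristic two: the imprimitive case. -/

namespace Cfsg.Agent.Lib.Helper8.Asch

open Module Matrix
open Cfsg Cfsg.Geo

/-- an irreducible group permuting the members of a direct decomposition permutes them
transitively -/
theorem trans_of_irr {F : Type*} [Field F] {V : Type*} [AddCommGroup V] [Module F V]
    {H : Subgroup (GLV F V)} (hirr : Irr H) {s : ℕ} (E : Fin s → Submodule F V)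
    (hind : iSupIndep E) (hne : ∀ p, E p ≠ ⊥)
    (hperm : ∀ h ∈ H, ∃ π : Equiv.Perm (Fin s), ∀ p, (E p).map (h : Module.End F V) = E (π p))
    (p q : Fin s) : ∃ h ∈ H, (E p).map (h : Module.End F V) = E q := by
  set O : Set (Fin s) := {q | ∃ h ∈ H, (E p).map (h : Module.End F V) = E q} with hO
  set W : Submodule F V := ⨆ q ∈ O, E q with hW
  have hpO : p ∈ O := by
    refine ⟨1, H.one_mem, ?_⟩
    rw [Units.val_one]
    exact Submodule.map_id (E p)
  have hinv : ∀ h ∈ H, ∀ w ∈ W, (h : Module.End F V) w ∈ W := by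
    intro h' hh' w hw
    have hmap : W.map (h' : Module.End F V) ≤ W := by
      rw [hW, Submodule.map_iSup]
      apply iSup_le
      intro q'
      rw [Submodule.map_iSup]
      apply iSup_le
      rintro ⟨h, hh, hq'⟩
      obtain ⟨π, hπ⟩ := hperm h' hh'
      rw [hπ q']
      have : π q' ∈ O := by
        refine ⟨h' * h, H.mul_mem hh' hh, ?_⟩
        rw [← hπ q', ← hq', Units.val_mul, Module.End.mul_eq_comp, Submodule.map_comp]
      exact le_biSup E this
    exact hmap ⟨w, hw, rfl⟩
  rcases hirr W hinv with hbot | htop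
  · exfalso
    apply hne p
    rw [eq_bot_iff, ← hbot]
    exact le_biSup E hpO
  · by_contra hq
    have hqO : q ∉ O := hq
    apply hne q
    have h1 : E q ≤ ⨆ q' ∈ O, E q' := by
      rw [← hW, htop]
      exact le_top
    have h2 : (⨆ q' ∈ O, E q') ≤ ⨆ q', ⨆ (_ : q' ≠ q), E q' := by
      apply iSup_le
      intro q'
      apply iSup_le
      intro hq'
      have : q' ≠ q := by
        rintro rfl
        exact hqO hq'
      exact le_iSup₂_of_le q' this le_rfl
    have h3 := hind q
    rw [eq_bot_iff]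
    exact h3 le_rfl (h1.trans h2)

variable {ι : Type} [Fintype ι] [DecidableEq ι] {F : Type*} [Field F] [Fintype F]

namespace OEven

variable {Q : (ι → F) → F} {H : Subgroup (GL ι F)}

theorem areIsometric_of_map (h : OEven Q H) {g : GL ι F} (hg : g ∈ H) {W W' : Submodule F (ι → F)}
    (hmap : W.map (Matrix.toLin' (g : Matrix ι ι F)) = W') : AreIsometricFor Q W W' := by
  have hinj : Function.Injective (Matrix.toLin' (g : Matrix ι ι F)) := by
    intro u v huv
    rw [Matrix.toLin'_apply, Matrix.toLin'_apply] at huv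
    have := congrArg (fun w => ((g⁻¹ : GL ι F) : Matrix ι ι F) *ᵥ w) huv
    simpa [inv_mulVec_mulVec] using this
  refine ⟨(Submodule.equivMapOfInjective _ hinj W).trans (LinearEquiv.ofEq _ _ hmap), ?_⟩
  intro w
  rw [LinearEquiv.trans_apply, LinearEquiv.coe_ofEq_apply, Submodule.coe_equivMapOfInjective_apply,
    Matrix.toLin'_apply, h.Qinv hg]

/-- a non-degenerate block has dimension at least two -/
theorem one_lt_of_nondeg (h : OEven Q H) {W : Submodule F (ι → F)} {k : ℕ}
    (hk : 0 < k) (hfr : finrank F W = k)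
    (hdisj : Disjoint W ((toBilin h.symp.bilinear).orthogonal W)) : 1 < k := by
  by_contra hle
  have hk1 : k = 1 := by omega
  rw [hk1] at hfr
  obtain ⟨v, hv0, hv⟩ := finrank_eq_one_iff'.mp hfr
  have hvW : (v : ι → F) ∈ W := v.2
  have hperp : (v : ι → F) ∈ (toBilin h.symp.bilinear).orthogonal W := by
    intro w hw
    obtain ⟨c, hc⟩ := hv ⟨w, hw⟩
    have hw' : w = c • (v : ι → F) := by
      have := congrArg Subtype.val hc
      exact this.symm
    show toBilin h.symp.bilinear w v = 0
    rw [toBilin_apply, hw', h.symp.bilinear.smul_left, h.symp.alternating, mul_zero]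
  have := hdisj.le_bot ⟨hvW, hperp⟩
  apply hv0
  exact Subtype.ext ((Submodule.mem_bot F).mp this)

theorem class2a (h : OEven Q H) (hirr : Irr (HV H))
    {t k : ℕ} (D : Fin t → Submodule F (ι → F)) (ht : 2 ≤ t) (hk : 0 < k)
    (hfr : ∀ i, finrank F (D i) = k) (hind : iSupIndep D) (hsup : iSup D = ⊤)
    (hdisj : ∀ i, Disjoint (D i) ((toBilin h.symp.bilinear).orthogonal (D i)))
    (horth : ∀ i j, i ≠ j → D j ≤ (toBilin h.symp.bilinear).orthogonal (D i))
    (hperm : ∀ g ∈ HV H, ∃ π : Equiv.Perm (Fin t), ∀ i,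
      (D i).map (g : Module.End F (ι → F)) = D (π i)) :
    ∃ M : Subgroup (GL ι F), IOEC2 Q M ∧ H ≤ M := by
  have hf := h.symp
  have hne : ∀ i, D i ≠ ⊥ := by
    intro i h0
    have := hfr i
    rw [h0, finrank_bot] at this
    omega
  have htrans := trans_of_irr hirr D hind hne hperm
  have hk1 : 1 < k := h.one_lt_of_nondeg hk (hfr ⟨0, by omega⟩) (hdisj _)
  refine IOEC2.of (Cfsg.Agent.Lib.Helper5.AschE.cls2a h.le hk1
    (D := D) ⟨⟨⟨ht, hk, hfr, hind, hsup⟩, ?_, ?_⟩, ?_⟩ ?_)
  · intro i
    exact nondegOn_of_disjoint hf (D i) (hdisj i)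
  · intro i j hij u hu v hv
    exact horth i j hij hv u hu
  · intro i j
    obtain ⟨u, hu, hmap⟩ := htrans i j
    obtain ⟨g, hg, rfl⟩ := exists_of_mem_HV hu
    rw [toV_val] at hmap
    exact h.areIsometric_of_map hg hmap
  · intro g hg
    obtain ⟨π, hπ⟩ := hperm (toV g) (mem_HV hg)
    exact ⟨π, fun i => by rw [← hπ i, toV_val]⟩

theorem decomp (h : OEven Q H) (hcard : 3 ≤ Fintype.card ι) (hirr : Irr (HV H))
    {t k : ℕ} (D : Fin t → Submodule F (ι → F)) (σ : Fin t → Fin t) (ht : 2 ≤ t)
    (hP : PairedDecomp (toBilin h.symp.bilinear) k D σ)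
    (hperm : ∀ g ∈ HV H, ∃ π : Equiv.Perm (Fin t), ∀ i,
      (D i).map (g : Module.End F (ι → F)) = D (π i))
    (htrans : ∀ i j, ∃ g ∈ HV H, (D i).map (g : Module.End F (ι → F)) = D j) :
    ∃ M : Subgroup (GL ι F), IOEC2 Q M ∧ H ≤ M := by
  have hf := h.symp
  have hiso := h.isom
  have hisoV := isomV_HV hf.bilinear hiso
  by_cases hfix : ∃ i, σ i = i
  · obtain ⟨i₀, hi₀⟩ := hfix
    have hall : ∀ j, σ j = j := hP.sigma_all (HV H) hisoV htrans hi₀
    refine h.class2a hirr D ht hP.pos hP.finrank_eq hP.indep hP.sup ?_ ?_ hperm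
    · intro i
      have := hP.disj i
      rwa [hall i] at this
    · intro i j hij
      exact hP.orth i j (by rw [hall i]; exact Ne.symm hij)
  push Not at hfix
  by_cases ht3 : 3 ≤ t
  · obtain ⟨s, E, hs, hEfr, hEind, hEsup, hEdisj, hEorth, hEperm⟩ :=
      hP.coarsen hfix ht3 (HV H) hisoV hperm
    exact h.class2a hirr E hs (by have := hP.pos; omega) hEfr hEind hEsup hEdisj hEorth hEperm
  have ht2 : t = 2 := by omega
  subst ht2
  have hts : ∀ i, IsTotallySingularFor (QuadraticMap.polar Q) (D i) := by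
    intro i u hu v hv
    exact hP.orth i i (Ne.symm (hfix i)) hv u hu
  have hd01 : Disjoint (D 0) (D 1) := hP.indep.pairwiseDisjoint (by decide)
  have hsup01 : D 0 ⊔ D 1 = ⊤ := by
    rw [eq_top_iff, ← hP.sup]
    apply iSup_le
    intro i
    fin_cases i
    · exact le_sup_left
    · exact le_sup_right
  have hc : IsCompl (D 0) (D 1) := ⟨hd01, codisjoint_iff.mpr hsup01⟩
  have hQ'nd := tsQ_nondeg hf h.h2 hc (hts 0) (hts 1)
  have hQ'inv : ∀ g ∈ H, ∀ v, tsQ (QuadraticMap.polar Q) hc ((g : Matrix ι ι F) *ᵥ v) =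
      tsQ (QuadraticMap.polar Q) hc v := by
    intro g hg v
    apply tsQ_invariant hf h.h2 hc _ (hiso g hg)
    obtain ⟨π, hπ⟩ := hperm (toV g) (mem_HV hg)
    have hmem : ∀ i, ∀ w ∈ D i, (g : Matrix ι ι F) *ᵥ w ∈ D (π i) := by
      intro i w hw
      rw [← hπ i, toV_val]
      exact ⟨w, hw, Matrix.toLin'_apply _ _⟩
    by_cases h0 : π 0 = 0
    · left
      have h1 : π 1 = 1 := by
        have : π 1 ≠ 0 := fun h => by
          have := π.injective (h.trans h0.symm)
          exact absurd this (by decide)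
        omega
      exact ⟨fun w hw => by have := hmem 0 w hw; rwa [h0] at this,
        fun w hw => by have := hmem 1 w hw; rwa [h1] at this⟩
    · right
      have h0' : π 0 = 1 := by omega
      have h1 : π 1 = 0 := by
        have : π 1 ≠ 1 := fun h => by
          have := π.injective (h.trans h0'.symm)
          exact absurd this (by decide)
        omega
      exact ⟨fun w hw => by have := hmem 0 w hw; rwa [h0'] at this,
        fun w hw => by have := hmem 1 w hw; rwa [h1] at this⟩
  have hQ' : ∀ v, tsQ (QuadraticMap.polar Q) hc v = Q v :=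
    h.quad_unique (by omega) hirr _ hQ'nd.smul (tsQ_polar hf h.h2 hc (hts 0) (hts 1)) hQ'inv
  have htsQ : ∀ i, IsTotallySingularQuad Q (D i) := by
    intro i w hw
    rw [← hQ']
    fin_cases i
    · have := tsQ_spec (QuadraticMap.polar Q) hc hw (D 1).zero_mem
      rw [add_zero] at this
      rw [this]
      exact hts 0 w hw 0 (D 0).zero_mem
    · have := tsQ_spec (QuadraticMap.polar Q) hc (D 0).zero_mem hw
      rw [zero_add] at this
      rw [this]
      exact hts 1 0 (D 1).zero_mem w hw
  refine IOEC2.of (Cfsg.Agent.Lib.Helper5.AschE.cls2b h.le (D := D)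
    ⟨le_refl _, hP.pos, hP.finrank_eq, hP.indep, hP.sup⟩ htsQ ?_)
  intro g hg
  obtain ⟨π, hπ⟩ := hperm (toV g) (mem_HV hg)
  exact ⟨π, fun i => by rw [← hπ i, toV_val]⟩

end OEven

end Cfsg.Agent.Lib.Helper8.Asch
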