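import Cfsg.Agent.Lib.Helper8.SpC5
import Cfsg.Agent.Lib.Helper8.SpB9

set_option autoImplicit false

/-! The field case for the symplectic group: class 3 or class 8. -/

namespace Cfsg.Agent.Lib.Helper8.Asch

open Module Matrix
open Cfsg.Geo

/-- translation of a subfield of `End` to a field subalgebra of the matrix algebra -/
theorem fieldSubalgebra_of_isFld {ι : Type} [Fintype ι] [DecidableEq ι] {F : Type*} [Field F]
    (H : Subgroup (GL ι F)) (r : ℕ) (K : Subalgebra F (Module.End F (ι → F))) (hK : IsFld K)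
    (hfr : finrank F K = r)
    (hnorm : ∀ h ∈ HV H, ∀ x, x ∈ K ↔
        (h : Module.End F (ι → F)) * x * ((h⁻¹ : GLV F (ι → F)) : Module.End F (ι → F)) ∈ K) :
    ∃ K' : Subalgebra F (Matrix ι ι F), (∀ x : Matrix ι ι F, x ∈ K' ↔ Matrix.toLin' x ∈ K) ∧
      IsFieldSubalgebra r K' ∧ H ≤ subalgebraNormalizer K' := by
  let φ : Module.End F (ι → F) ≃ₐ[F] Matrix ι ι F := LinearMap.toMatrixAlgEquiv'
  let K' : Subalgebra F (Matrix ι ι F) := K.map (φ : _ →ₐ[F] _)
  have hmem : ∀ x : Matrix ι ι F, x ∈ K' ↔ Matrix.toLin' x ∈ K := by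
    intro x
    constructor
    · rintro ⟨y, hy, rfl⟩
      have : Matrix.toLin' (φ y) = y := Matrix.toLin'_toMatrix' y
      show Matrix.toLin' (φ y) ∈ K
      rw [this]
      exact hy
    · intro hx
      exact ⟨Matrix.toLin' x, hx, LinearMap.toMatrix'_toLin' x⟩
  have e : ∀ a b : Matrix ι ι F, Matrix.toLin' (a * b) = Matrix.toLin' a * Matrix.toLin' b :=
    fun a b => Matrix.toLin'_mul a b
  refine ⟨K', hmem, ⟨?_, ?_, ?_⟩, ?_⟩
  · intro x hx y hy
    rw [hmem] at hx hy
    have := hK.comm _ hx _ hy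
    rw [← e, ← e] at this
    exact Matrix.toLin'.injective this
  · intro x hx hx0
    rw [hmem] at hx
    have h0 : Matrix.toLin' x ≠ 0 := by
      intro h0
      apply hx0
      apply Matrix.toLin'.injective
      rw [h0, map_zero]
    obtain ⟨y, hy, hxy⟩ := hK.inv _ hx h0
    refine ⟨φ y, ⟨y, hy, rfl⟩, ?_⟩
    apply Matrix.toLin'.injective
    rw [e, Matrix.toLin'_one]
    have : Matrix.toLin' (φ y) = y := Matrix.toLin'_toMatrix' y
    rw [this]
    exact hxy
  · rw [← hfr]
    exact (AlgEquiv.subalgebraMap φ K).toLinearEquiv.finrank_eq.symm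
  · intro g hg k
    rw [hmem, hmem]
    have := hnorm (toV g) (mem_HV hg) (Matrix.toLin' k)
    rw [this]
    have e2 : ((toV g : GLV F (ι → F)) : Module.End F (ι → F)) * Matrix.toLin' k *
        (((toV g)⁻¹ : GLV F (ι → F)) : Module.End F (ι → F)) =
        Matrix.toLin' ((g : Matrix ι ι F) * k * ((g⁻¹ : GL ι F) : Matrix ι ι F)) := by
      rw [← map_inv, toV_val, toV_val, e, e]
    rw [e2]

variable {F : Type*} [Field F] [Fintype F]

theorem epsForm_symp (m : ℕ) :
    EpsForm (toBilin (isSymplecticForm_sympForm (F := F) m).bilinear) (-1) := by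
  have hf := isSymplecticForm_sympForm (F := F) m
  refine ⟨toBilin_nondegenerate hf.bilinear hf.nondegenerate, ?_, by ring⟩
  intro x y
  rw [toBilin_apply, toBilin_apply, hf.skew]
  ring

theorem sp_field (m : ℕ) (hm : 2 ≤ m) (H : Subgroup (GL (Fin m ⊕ Fin m) F)) (hH : H ≤ spGL m F)
    (hirr : Irr (HV H)) (r : ℕ) (K : Subalgebra F (Module.End F (Fin m ⊕ Fin m → F)))
    (hr : r.Prime) (hK : IsFld K) (hfr : finrank F K = r)
    (hnorm : ∀ h ∈ HV H, ∀ x, x ∈ K ↔
        (h : Module.End F (Fin m ⊕ Fin m → F)) * x *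
          ((h⁻¹ : GLV F (Fin m ⊕ Fin m → F)) : Module.End F (Fin m ⊕ Fin m → F)) ∈ K)
    (hadj : ∀ x ∈ K, adjE (epsForm_symp m) x ∈ K) :
    ∃ M : Subgroup (GL (Fin m ⊕ Fin m) F), ISC m F M ∧ H ≤ M := by
  have hf := isSymplecticForm_sympForm (F := F) m
  have hiso := isom_of_le_spGL hH
  have hisoV := isomV_HV hf.bilinear hiso
  set hB := epsForm_symp (F := F) m with hBdef
  set B := toBilin hf.bilinear with hBd
  haveI : Nontrivial (Fin m ⊕ Fin m → F) := by
    haveI : Nonempty (Fin m ⊕ Fin m) := ⟨Sum.inl ⟨0, by omega⟩⟩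
    infer_instance
  obtain ⟨K', hmem, hfield, hHK'⟩ := fieldSubalgebra_of_isFld H r K hK hfr hnorm
  have hnorm' : ∀ h ∈ HV H, ∀ x ∈ K, ((h⁻¹ : GLV F (Fin m ⊕ Fin m → F)) :
      Module.End F (Fin m ⊕ Fin m → F)) * x * (h : Module.End F (Fin m ⊕ Fin m → F)) ∈ K := by
    intro h hh x hx
    have := (hnorm h⁻¹ ((HV H).inv_mem hh) x).mp hx
    rwa [inv_inv] at this
  have hfB : ∀ (k : Matrix (Fin m ⊕ Fin m) (Fin m ⊕ Fin m) F) (u v : Fin m ⊕ Fin m → F),
      sympForm m F (k *ᵥ u) v = B (Matrix.toLin' k u) v := by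
    intro k u v
    rw [Matrix.toLin'_apply]
    rfl
  have hfB' : ∀ (k : Matrix (Fin m ⊕ Fin m) (Fin m ⊕ Fin m) F) (u v : Fin m ⊕ Fin m → F),
      sympForm m F u (k *ᵥ v) = B u (Matrix.toLin' k v) := by
    intro k u v
    rw [Matrix.toLin'_apply]
    rfl
  rcases field_dichotomy hB K hK r hr hfr hadj with hself | ⟨hr2, x₀, hx₀, hne⟩
  · -- self-adjoint: class 3
    have hdim : finrank F K < finrank F (Fin m ⊕ Fin m → F) := by
      have h1 := finrank_le_of_isFld K hK
      rw [Module.finrank_pi, Fintype.card_sum, Fintype.card_fin] at h1 ⊢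
      rw [hfr] at h1 ⊢
      rcases Nat.lt_or_ge r (m + m) with h | h
      · exact h
      · exfalso
        have : r = m + m := le_antisymm h1 h
        rw [this, ← two_mul] at hr
        exact Nat.not_prime_mul (by norm_num) (by omega) hr
    have hzero := selfadj_alt hB (toBilin_isAlt hf) (HV H) hirr hisoV K hnorm' hself hdim
    refine ⟨subalgebraNormalizer K' ⊓ spGL m F,
      Or.inr (Or.inl ⟨r, K', hr, hfield, ?_, ?_, rfl⟩), le_inf hHK' hH⟩
    · intro k hk u v
      rw [hfB, hfB', adjE_apply' hB, hself _ ((hmem k).mp hk)]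
    · intro k hk v
      rw [hfB]
      exact hzero _ ((hmem k).mp hk) v
  · subst hr2
    by_cases hodd : Odd (Fintype.card F)
    · refine ⟨subalgebraNormalizer K' ⊓ spGL m F,
        Or.inr (Or.inr (Or.inl ⟨K', hodd, hfield, ?_, ?_, rfl⟩)), le_inf hHK' hH⟩
      · intro k hk
        refine ⟨LinearMap.toMatrix' (adjE hB (Matrix.toLin' k)), ?_, ?_⟩
        · rw [hmem, Matrix.toLin'_toMatrix']
          exact hadj _ ((hmem k).mp hk)
        · intro u v
          rw [hfB, hfB', Matrix.toLin'_toMatrix', adjE_apply' hB]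
      · intro hsa
        apply hne
        symm
        apply adjE_unique' hB
        intro u v
        have hx₀' : LinearMap.toMatrix' x₀ ∈ K' := by
          rw [hmem, Matrix.toLin'_toMatrix']
          exact hx₀
        have := hsa _ hx₀' u v
        rw [hfB, hfB', Matrix.toLin'_toMatrix'] at this
        exact this
    · have h2 : (2 : F) = 0 := two_eq_zero_of_not_odd hodd
      obtain ⟨k₀, hk₀K, hk₀1, hk₀inv⟩ := nonselfadj_char2 hB (toBilin_isAlt hf) h2 (HV H) hisoV K hK
        hfr hadj hnorm' hx₀ hne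
      set Q : (Fin m ⊕ Fin m → F) → F := fun v => B (k₀ v) v with hQ
      have hpol : QuadraticMap.polar Q = sympForm m F := by
        funext u v
        exact polar_of_adj_add hB h2 hk₀1 u v
      refine ⟨quadSimilarityGroup Q ⊓ spGL m F,
        Or.inl (Or.inr (Or.inr (Or.inr (Or.inr (Or.inr (Or.inr ⟨Q, hodd, ⟨?_, ?_, ?_⟩, ?_, rfl⟩)))))),
        le_inf ?_ hH⟩
      · intro c v
        show B (k₀ (c • v)) (c • v) = c ^ 2 * B (k₀ v) v
        rw [map_smul, map_smul, map_smul, LinearMap.smul_apply, smul_eq_mul, smul_eq_mul]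
        ring
      · rw [hpol]; exact hf.bilinear
      · rw [hpol]; exact hf.nondegenerate
      · intro u v
        rw [hpol]
      · intro g hg
        refine ⟨1, fun v => ?_⟩
        rw [Units.val_one, one_mul]
        have := hk₀inv (toV g) (mem_HV hg) v
        rw [toV_apply] at this
        exact this

end Cfsg.Agent.Lib.Helper8.Asch
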