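import Cfsg.Agent.Lib.Helper8.OeB1
import Cfsg.Agent.Lib.Helper8.SpC6

set_option autoImplicit false

/-! The field case for the orthogonal groups in characteristic two: classes 3a and 3b. -/

namespace Cfsg.Agent.Lib.Helper8.Asch

open Module Matrix
open Cfsg Cfsg.Geo

variable {ι : Type} [Fintype ι] [DecidableEq ι] {F : Type*} [Field F] [Fintype F]
variable {Q : (ι → F) → F} {H : Subgroup (GL ι F)}

namespace OEven

theorem epsForm (h : OEven Q H) : EpsForm (toBilin h.symp.bilinear) (-1) := by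
  have hf := h.symp
  refine ⟨toBilin_nondegenerate hf.bilinear hf.nondegenerate, ?_, by ring⟩
  intro x y
  rw [toBilin_apply, toBilin_apply, hf.skew]
  ring

theorem field (h : OEven Q H) (hcard : 2 ≤ Fintype.card ι) (hirr : Irr (HV H)) (r : ℕ)
    (K : Subalgebra F (Module.End F (ι → F)))
    (hr : r.Prime) (hK : IsFld K) (hfr : finrank F K = r)
    (hnorm : ∀ u ∈ HV H, ∀ x, x ∈ K ↔
        (u : Module.End F (ι → F)) * x *
          ((u⁻¹ : GLV F (ι → F)) : Module.End F (ι → F)) ∈ K)
    (hadj : ∀ x ∈ K, adjE h.epsForm x ∈ K) :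
    ∃ M : Subgroup (GL ι F), IOEC2 Q M ∧ H ≤ M := by
  have hf := h.symp
  have hiso := h.isom
  have hisoV := isomV_HV hf.bilinear hiso
  set hB := h.epsForm with hBdef
  set B := toBilin hf.bilinear with hBd
  haveI : Nonempty ι := by
    rw [← Fintype.card_pos_iff]
    omega
  haveI : Nontrivial (ι → F) := inferInstance
  obtain ⟨K', hmem, hfield, hHK'⟩ := fieldSubalgebra_of_isFld H r K hK hfr hnorm
  have hnorm' : ∀ u ∈ HV H, ∀ x ∈ K, ((u⁻¹ : GLV F (ι → F)) :
      Module.End F (ι → F)) * x * (u : Module.End F (ι → F)) ∈ K := by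
    intro u hu x hx
    have := (hnorm u⁻¹ ((HV H).inv_mem hu) x).mp hx
    rwa [inv_inv] at this
  have hfB : ∀ (k : Matrix ι ι F) (u v : ι → F),
      QuadraticMap.polar Q (k *ᵥ u) v = B (Matrix.toLin' k u) v := by
    intro k u v
    rw [Matrix.toLin'_apply]
    rfl
  have hfB' : ∀ (k : Matrix ι ι F) (u v : ι → F),
      QuadraticMap.polar Q u (k *ᵥ v) = B u (Matrix.toLin' k v) := by
    intro k u v
    rw [Matrix.toLin'_apply]
    rfl
  rcases field_dichotomy hB K hK r hr hfr hadj with hself | ⟨hr2, x₀, hx₀, hne⟩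
  · -- self-adjoint: class 3a
    refine IOEC2.of (Cfsg.Agent.Lib.Helper5.AschE.cls3a h.le hr hfield ?_ hHK')
    intro k hk u v
    rw [hfB, hfB', adjE_apply' hB, hself _ ((hmem k).mp hk)]
  · subst hr2
    obtain ⟨k₀, hk₀K, hk₀1, hk₀inv⟩ := nonselfadj_char2 hB (toBilin_isAlt hf) h.h2 (HV H) hisoV K hK
      hfr hadj hnorm' hx₀ hne
    set Q' : (ι → F) → F := fun v => B (k₀ v) v with hQ'
    have hQ'Q : ∀ v, Q' v = Q v := by
      apply h.quad_unique hcard hirr Q'
      · intro c v
        show B (k₀ (c • v)) (c • v) = c ^ 2 * B (k₀ v) v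
        rw [map_smul, map_smul, map_smul, LinearMap.smul_apply, smul_eq_mul, smul_eq_mul]
        ring
      · intro u v
        exact polar_of_adj_add hB h.h2 hk₀1 u v
      · intro g hg v
        have := hk₀inv (toV g) (mem_HV hg) v
        rw [toV_apply] at this
        exact this
    refine IOEC2.of (Cfsg.Agent.Lib.Helper5.AschE.cls3b h.le hfield ?_ ?_ ?_ hHK')
    · intro k hk
      refine ⟨LinearMap.toMatrix' (adjE hB (Matrix.toLin' k)), ?_, ?_⟩
      · rw [hmem, Matrix.toLin'_toMatrix']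
        exact hadj _ ((hmem k).mp hk)
      · intro u v
        rw [hfB, hfB', Matrix.toLin'_toMatrix', adjE_apply' hB]
    · intro hsa
      apply hne
      symm
      apply adjE_unique' hB
      intro u v
      have hx₀' : LinearMap.toMatrix' x₀ ∈ K' := by
        rw [hmem, Matrix.toLin'_toMatrix']
        exact hx₀
      have := hsa _ hx₀' u v
      rw [hfB, hfB', Matrix.toLin'_toMatrix'] at this
      exact this
    · intro k hk
      have hx : Matrix.toLin' k ∈ K := (hmem k).mp hk
      set x := Matrix.toLin' k with hxdef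
      have hd : adjE hB x * x ∈ K := K.mul_mem (hadj x hx) hx
      have hdfix : adjE hB (adjE hB x * x) = adjE hB x * x := by
        rw [adjE_mul, adjE_adjE]
      obtain ⟨c, hc⟩ := fixed_eq_scalar hB K hK hfr hx₀ hne hd hdfix
      refine ⟨c, fun v => ?_⟩
      rw [← hQ'Q, ← hQ'Q]
      show B (k₀ (k *ᵥ v)) (k *ᵥ v) = c * B (k₀ v) v
      have e1 : k *ᵥ v = x v := (Matrix.toLin'_apply k v).symm
      rw [e1, ← adjE_apply hB x]
      have e2 : adjE hB x (k₀ (x v)) = (adjE hB x * k₀ * x) v := rfl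
      have e3 : adjE hB x * k₀ * x = c • k₀ := by
        rw [hK.comm _ (hadj x hx) _ hk₀K, mul_assoc, hc, mul_smul_comm, mul_one]
      rw [e2, e3, LinearMap.smul_apply, map_smul, LinearMap.smul_apply, smul_eq_mul]

end OEven

end Cfsg.Agent.Lib.Helper8.Asch
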