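import Cfsg.Agent.Lib.Helper8.SpD7

set_option autoImplicit false

/-! Class 8 from a tensor decomposition of the form into two alternating factors (even
characteristic). -/

namespace Cfsg.Agent.Lib.Helper8.Asch

open Module Matrix
open scoped Kronecker
open Cfsg.Geo

variable {F : Type*} [Field F]

/-- the strictly upper triangular part -/
def upperPart {a : ℕ} (G : Matrix (Fin a) (Fin a) F) : Matrix (Fin a) (Fin a) F :=
  Matrix.of fun i j => if i < j then G i j else 0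

theorem upperPart_add_transpose {a : ℕ} (G : Matrix (Fin a) (Fin a) F) (hsymm : Gᵀ = G)
    (hdiag : ∀ i, G i i = 0) : upperPart G + (upperPart G)ᵀ = G := by
  ext i j
  rw [Matrix.add_apply, Matrix.transpose_apply]
  unfold upperPart
  rw [Matrix.of_apply, Matrix.of_apply]
  rcases lt_trichotomy i j with h | h | h
  · rw [if_pos h, if_neg (not_lt.mpr h.le), add_zero]
  · subst h
    rw [if_neg (lt_irrefl _), add_zero, hdiag]
  · rw [if_neg (not_lt.mpr h.le), if_pos h, zero_add]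
    have := congrFun (congrFun hsymm i) j
    rwa [Matrix.transpose_apply] at this

theorem gf_repr {ι κ : Type} [Fintype ι] [DecidableEq ι] [Fintype κ] [DecidableEq κ]
    (B : LinearMap.BilinForm F (ι → F)) (b : Basis κ F (ι → F)) (u v : ι → F) :
    B u v = gf (RingHom.id F) (LinearMap.BilinForm.toMatrix b B) (b.repr u) (b.repr v) := by
  rw [LinearMap.BilinForm.apply_eq_dotProduct_toMatrix_mulVec b]
  rfl

theorem sp_tensor_even [Fintype F] (m : ℕ) (H : Subgroup (GL (Fin m ⊕ Fin m) F))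
    (hH : H ≤ spGL m F) (heven : ¬ Odd (Fintype.card F)) {a e : ℕ}
    (b : Basis (Fin a × Fin e) F (Fin m ⊕ Fin m → F))
    (G₁ : Matrix (Fin a) (Fin a) F) (G₂ : Matrix (Fin e) (Fin e) F)
    (hG : LinearMap.BilinForm.toMatrix b (toBilin (isSymplecticForm_sympForm (F := F) m).bilinear) =
      G₁ ⊗ₖ G₂)
    (h1 : G₁ᵀ = G₁) (h1d : ∀ i, G₁ i i = 0) (h2 : G₂ᵀ = G₂) (h2d : ∀ k, G₂ k k = 0)
    (hHk : ∀ h ∈ H, ∃ (U : Matrix (Fin a) (Fin a) F) (Γ : Matrix (Fin e) (Fin e) F),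
      LinearMap.toMatrix b b (Matrix.toLin' (h : Matrix (Fin m ⊕ Fin m) (Fin m ⊕ Fin m) F)) =
        U ⊗ₖ Γ) :
    ∃ M : Subgroup (GL (Fin m ⊕ Fin m) F), ISPC m F M ∧ H ≤ M := by
  have h2F : (2 : F) = 0 := two_eq_zero_of_not_odd heven
  set T : Matrix (Fin a × Fin e) (Fin a × Fin e) F := upperPart G₁ ⊗ₖ G₂ with hT
  have hTT : T + Tᵀ = G₁ ⊗ₖ G₂ := by
    rw [hT, ← Matrix.kroneckerMap_transpose, h2, ← Matrix.add_kronecker,
      upperPart_add_transpose G₁ h1 h1d]
  let Q : (Fin m ⊕ Fin m → F) → F := fun v => gf (RingHom.id F) T (b.repr v) (b.repr v)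
  have hQ : ∀ v, Q v = gf (RingHom.id F) T (b.repr v) (b.repr v) := fun v => rfl
  let S : Set (Fin m ⊕ Fin m → F) := {v | ∃ (w : Fin a → F) (u : Fin e → F), ⇑(b.repr v) = tp w u}
  refine sp_class8_of_quad m H hH heven Q ?_ ?_ S ?_ ?_ ?_
  · intro c v
    rw [hQ, hQ, map_smul, Finsupp.coe_smul, gf_smul_left, gf_smul_right, RingHom.id_apply]
    ring
  · intro u v
    unfold QuadraticMap.polar
    rw [hQ, hQ, hQ, map_add, Finsupp.coe_add]
    have := polar_gf T (b.repr u) (b.repr v)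
    unfold QuadraticMap.polar at this
    rw [this, hTT, ← hG, ← gf_repr]
    rfl
  · rw [eq_top_iff, ← b.span_eq]
    apply Submodule.span_mono
    rintro _ ⟨⟨i, k⟩, rfl⟩
    refine ⟨Pi.single i 1, Pi.single k 1, ?_⟩
    rw [Basis.repr_self, tp_single, Finsupp.single_eq_pi_single]
  · rintro h hh v ⟨w, u, hwu⟩
    obtain ⟨U, Γ, hUΓ⟩ := hHk h hh
    refine ⟨U *ᵥ w, Γ *ᵥ u, ?_⟩
    rw [← Matrix.toLin'_apply, ← LinearMap.toMatrix_mulVec_repr b b, hUΓ, hwu, kron_mulVec_tp]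
  · rintro v ⟨w, u, hwu⟩
    rw [hQ, hwu, hT, gf_kron_tp]
    have hsk : ∀ k l, G₂ k l + G₂ l k = 0 := by
      intro k l
      have := congrFun (congrFun h2 k) l
      rw [Matrix.transpose_apply] at this
      rw [this]
      linear_combination (G₂ k l) * h2F
    rw [gf_alt G₂ hsk h2d, mul_zero]

end Cfsg.Agent.Lib.Helper8.Asch
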