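import Cfsg.Agent.Lib.Helper5.AltForm
import Cfsg.Agent.Lib.Helper8.SpD8

set_option autoImplicit false

/-! Two non-degenerate alternating matrices of the same size are congruent. -/

namespace Cfsg.Agent.Lib.Helper8.Asch

open Module Matrix
open Cfsg.Geo

variable {F : Type*} [Field F]

/-- a Darboux basis for a non-degenerate alternating matrix -/
theorem darboux_of_matrix {a : ℕ} (G : Matrix (Fin a) (Fin a) F) (hd : G.det ≠ 0)
    (hs : ∀ i j, G i j + G j i = 0) (hdi : ∀ i, G i i = 0) :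
    ∃ (m : ℕ) (b : Basis (Fin m ⊕ Fin m) F (Fin a → F)), 2 * m = a ∧
      (∀ i j : Fin m, Matrix.toBilin' G (b (Sum.inl i)) (b (Sum.inr j)) = if i = j then 1 else 0) ∧
      (∀ i j : Fin m, Matrix.toBilin' G (b (Sum.inl i)) (b (Sum.inl j)) = 0) ∧
      (∀ i j : Fin m, Matrix.toBilin' G (b (Sum.inr i)) (b (Sum.inr j)) = 0) := by
  have hA : (Matrix.toBilin' G).IsAlt := by
    intro v
    rw [Matrix.toBilin'_apply']
    exact gf_alt G hs hdi v
  have hnd : (Matrix.toBilin' G).Nondegenerate :=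
    LinearMap.BilinForm.nondegenerate_toBilin'_of_det_ne_zero' G hd
  obtain ⟨m, k, b, h1, h2, h3, -, h5, h6⟩ :=
    Cfsg.Agent.Lib.Helper5.AltForm.exists_darboux_basis (Matrix.toBilin' G) hA
  rw [hnd.ker_eq_bot, finrank_bot] at h6
  subst h6
  rw [Module.finrank_fintype_fun_eq_card, Fintype.card_fin] at h5
  refine ⟨m, b.reindex (Equiv.sumEmpty _ _), by omega, ?_, ?_, ?_⟩
  · intro i j
    rw [Basis.reindex_apply, Basis.reindex_apply]
    exact h1 i j
  · intro i j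
    rw [Basis.reindex_apply, Basis.reindex_apply]
    exact h2 i j
  · intro i j
    rw [Basis.reindex_apply, Basis.reindex_apply]
    exact h3 i j

theorem alt_congr {a : ℕ} (G₁ G₂ : Matrix (Fin a) (Fin a) F) (hd1 : G₁.det ≠ 0)
    (hd2 : G₂.det ≠ 0) (hs1 : ∀ i j, G₁ i j + G₁ j i = 0) (hdi1 : ∀ i, G₁ i i = 0)
    (hs2 : ∀ i j, G₂ i j + G₂ j i = 0) (hdi2 : ∀ i, G₂ i i = 0) :
    ∃ X : GL (Fin a) F, (X : Matrix (Fin a) (Fin a) F)ᵀ * G₂ * (X : Matrix (Fin a) (Fin a) F) = G₁ := by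
  obtain ⟨m₁, b₁, hm₁, p1, p2, p3⟩ := darboux_of_matrix G₁ hd1 hs1 hdi1
  obtain ⟨m₂, b₂, hm₂, q1, q2, q3⟩ := darboux_of_matrix G₂ hd2 hs2 hdi2
  obtain rfl : m₁ = m₂ := by omega
  have hA1 : ∀ u v, Matrix.toBilin' G₁ u v = - Matrix.toBilin' G₁ v u := by
    intro u v
    rw [Matrix.toBilin'_apply', Matrix.toBilin'_apply']
    exact gf_skew G₁ hs1 u v
  have hA2 : ∀ u v, Matrix.toBilin' G₂ u v = - Matrix.toBilin' G₂ v u := by
    intro u v
    rw [Matrix.toBilin'_apply', Matrix.toBilin'_apply']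
    exact gf_skew G₂ hs2 u v
  set T : (Fin a → F) ≃ₗ[F] (Fin a → F) := b₁.equiv b₂ (Equiv.refl _) with hT
  have hTb : ∀ i, T (b₁ i) = b₂ i := by
    intro i
    rw [hT, Basis.equiv_apply]
    rfl
  have key : ∀ u v, Matrix.toBilin' G₂ (T u) (T v) = Matrix.toBilin' G₁ u v := by
    intro u v
    have h : (Matrix.toBilin' G₂).comp (T : (Fin a → F) →ₗ[F] (Fin a → F))
        (T : (Fin a → F) →ₗ[F] (Fin a → F)) = Matrix.toBilin' G₁ := by
      apply LinearMap.BilinForm.ext_basis b₁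
      intro i j
      rw [LinearMap.BilinForm.comp_apply]
      show Matrix.toBilin' G₂ (T (b₁ i)) (T (b₁ j)) = _
      rw [hTb, hTb]
      rcases i with i | i <;> rcases j with j | j
      · rw [p2, q2]
      · rw [p1, q1]
      · rw [hA1, hA2, p1, q1]
      · rw [p3, q3]
    have := congrArg (fun B : LinearMap.BilinForm F (Fin a → F) => B u v) h
    exact this
  set X : Matrix (Fin a) (Fin a) F := LinearMap.toMatrix' (T : (Fin a → F) →ₗ[F] (Fin a → F)) with hX
  have hXinv : X * LinearMap.toMatrix' (T.symm : (Fin a → F) →ₗ[F] (Fin a → F)) = 1 := by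
    rw [hX, ← LinearMap.toMatrix'_comp]
    have : (T : (Fin a → F) →ₗ[F] (Fin a → F)) ∘ₗ (T.symm : (Fin a → F) →ₗ[F] (Fin a → F)) =
        LinearMap.id := by
      ext v
      simp
    rw [this, LinearMap.toMatrix'_id]
  have hXdet : IsUnit X.det := by
    rw [← Matrix.isUnit_iff_isUnit_det]
    exact ⟨⟨X, _, hXinv, (mul_eq_one_comm).mp hXinv⟩, rfl⟩
  refine ⟨Matrix.GeneralLinearGroup.mk'' X hXdet, ?_⟩
  show Xᵀ * G₂ * X = G₁
  apply Matrix.toBilin'.injective
  apply LinearMap.BilinForm.ext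
  intro u v
  rw [← key u v, Matrix.toBilin'_apply', Matrix.toBilin'_apply']
  have hTu : ∀ w, T w = X *ᵥ w := by
    intro w
    rw [hX, LinearMap.toMatrix'_mulVec]
    rfl
  rw [hTu, hTu, ← Matrix.vecMul_transpose X u, ← Matrix.dotProduct_mulVec]
  simp only [Matrix.mulVec_mulVec, Matrix.mul_assoc]

end Cfsg.Agent.Lib.Helper8.Asch
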