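import Cfsg.Agent.Lib.Helper8.SpE1

set_option autoImplicit false

/-! The tensor case for the symplectic group: assembly. -/

namespace Cfsg.Agent.Lib.Helper8.Asch

open Module Matrix
open scoped Kronecker
open Cfsg.Geo

variable {F : Type*} [Field F] [Fintype F]

theorem sp_tensor_odd (m : ℕ) (hm : 2 ≤ m) (H : Subgroup (GL (Fin m ⊕ Fin m) F))
    (hH : H ≤ spGL m F) (hirr : Irr (HV H)) (hodd : Odd (Fintype.card F)) {n₁ n₂ : ℕ}
    (hn₂ : 2 ≤ n₂) (b : Basis (Fin n₁ × Fin n₂) F (Fin m ⊕ Fin m → F))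
    (G₁ : GL (Fin n₁) F) (G₂ : GL (Fin n₂) F)
    (hG : LinearMap.BilinForm.toMatrix b (toBilin (isSymplecticForm_sympForm (F := F) m).bilinear) =
      (G₁ : Matrix (Fin n₁) (Fin n₁) F) ⊗ₖ (G₂ : Matrix (Fin n₂) (Fin n₂) F))
    (h1 : (G₁ : Matrix (Fin n₁) (Fin n₁) F)ᵀ = -(G₁ : Matrix (Fin n₁) (Fin n₁) F))
    (h2 : (G₂ : Matrix (Fin n₂) (Fin n₂) F)ᵀ = (G₂ : Matrix (Fin n₂) (Fin n₂) F))
    (hK : KronSim H b (G₁ : Matrix (Fin n₁) (Fin n₁) F) (G₂ : Matrix (Fin n₂) (Fin n₂) F)) :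
    ∃ M : Subgroup (GL (Fin m ⊕ Fin m) F), ISC m F M ∧ H ≤ M := by
  by_cases h3 : 3 ≤ n₂
  · refine sp_class4 m H hH hodd h3 b G₁ G₂ hG h1 h2 ?_
    intro h hh
    obtain ⟨U, Γ, μ, -, hUΓ, -, -⟩ := hK h hh
    exact ⟨U, Γ, hUΓ⟩
  · have : n₂ = 2 := by omega
    subst this
    obtain ⟨ρ, c, hc, hρ1, hρ2, hρ3⟩ := rho_of_gram b G₁ G₂ hG h2
    refine sp_rho m hm H hH hirr hodd ρ c hc hρ1 hρ2 ?_
    intro h hh
    obtain ⟨g, hg, rfl⟩ := exists_of_mem_HV hh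
    obtain ⟨U, Γ, μ, hμ, hUΓ, -, hsim⟩ := hK g hg
    rw [toV_val]
    exact hρ3 _ _ _ hUΓ ⟨μ⁻¹, inv_ne_zero hμ, hsim⟩

theorem sp_tensor (m : ℕ) (hm : 2 ≤ m) (H : Subgroup (GL (Fin m ⊕ Fin m) F)) (hH : H ≤ spGL m F)
    (hirr : Irr (HV H)) (A : Subalgebra F (Module.End F (Fin m ⊕ Fin m → F)))
    (hadj : AdjClosed (toBilin (isSymplecticForm_sympForm (F := F) m).bilinear) A)
    (a e : ℕ) (ha : 2 ≤ a) (he : 2 ≤ e) (b : Basis (Fin a × Fin e) F (Fin m ⊕ Fin m → F))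
    (hb1 : ∀ x ∈ A, ∃ X : Matrix (Fin a) (Fin a) F,
      LinearMap.toMatrix b b x = X ⊗ₖ (1 : Matrix (Fin e) (Fin e) F))
    (hb2 : ∀ X : Matrix (Fin a) (Fin a) F, ∃ x ∈ A,
      LinearMap.toMatrix b b x = X ⊗ₖ (1 : Matrix (Fin e) (Fin e) F))
    (hHk : ∀ h ∈ HV H, ∃ (U : GL (Fin a) F) (Γ : GL (Fin e) F),
      LinearMap.toMatrix b b (h : Module.End F (Fin m ⊕ Fin m → F)) =
        (U : Matrix (Fin a) (Fin a) F) ⊗ₖ (Γ : Matrix (Fin e) (Fin e) F)) :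
    ∃ M : Subgroup (GL (Fin m ⊕ Fin m) F), ISC m F M ∧ H ≤ M := by
  have hf := isSymplecticForm_sympForm (F := F) m
  haveI : Nonempty (Fin a) := ⟨⟨0, by omega⟩⟩
  haveI : Nonempty (Fin e) := ⟨⟨0, by omega⟩⟩
  obtain ⟨G₁, G₂, l, hG, hl, ht1, ht2⟩ := gram_kron_eps (epsForm_symp (F := F) m) b A hb1 hb2 hadj
  have hK : KronSim H b (G₁ : Matrix (Fin a) (Fin a) F) (G₂ : Matrix (Fin e) (Fin e) F) :=
    kronSim_of_isom hf.bilinear (isom_of_le_spGL hH) b G₁ G₂ hG hHk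
  have hl' : l = 1 ∨ l = -1 := by
    have : (l - 1) * (l + 1) = 0 := by linear_combination hl
    rcases mul_eq_zero.mp this with h | h
    · left; linear_combination h
    · right; linear_combination h
  by_cases hodd : Odd (Fintype.card F)
  · rcases hl' with rfl | rfl
    · -- first factor symmetric, second skew: swap
      rw [one_smul] at ht1
      rw [mul_one, neg_smul, one_smul] at ht2
      exact sp_tensor_odd m hm H hH hirr hodd ha (b.reindex (Equiv.prodComm _ _)) G₂ G₁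
        (gram_swap _ b _ _ hG) ht2 ht1 hK.swap
    · rw [neg_smul, one_smul] at ht1
      rw [neg_mul_neg, one_mul, one_smul] at ht2
      exact sp_tensor_odd m hm H hH hirr hodd he b G₁ G₂ hG ht1 ht2 hK
  · have h2F : (2 : F) = 0 := two_eq_zero_of_not_odd hodd
    have hneg : (-1 : F) = 1 := by linear_combination -h2F
    have hs1 : (G₁ : Matrix (Fin a) (Fin a) F)ᵀ = (G₁ : Matrix (Fin a) (Fin a) F) := by
      rcases hl' with rfl | rfl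
      · rw [ht1, one_smul]
      · rw [ht1, hneg, one_smul]
    have hs2 : (G₂ : Matrix (Fin e) (Fin e) F)ᵀ = (G₂ : Matrix (Fin e) (Fin e) F) := by
      rcases hl' with rfl | rfl
      · rw [ht2, hneg, one_mul, one_smul]
      · rw [ht2, neg_mul_neg, one_mul, one_smul]
    by_cases hd2 : ∃ k₀, (G₂ : Matrix (Fin e) (Fin e) F) k₀ k₀ ≠ 0
    · exfalso
      obtain ⟨k₀, hk₀⟩ := hd2
      refine reducible_of_nonalt H h2F (by omega) he b _ hs2 k₀ hk₀ ?_ hirr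
      intro h hh
      obtain ⟨U, Γ, μ, -, hUΓ, -, hsim⟩ := hK h hh
      exact ⟨U, Γ, μ⁻¹, hUΓ, hsim⟩
    by_cases hd1 : ∃ i₀, (G₁ : Matrix (Fin a) (Fin a) F) i₀ i₀ ≠ 0
    · exfalso
      obtain ⟨i₀, hi₀⟩ := hd1
      refine reducible_of_nonalt H h2F (by omega) ha (b.reindex (Equiv.prodComm _ _)) _ hs1 i₀ hi₀
        ?_ hirr
      intro h hh
      obtain ⟨U, Γ, μ, -, hUΓ, -, hsim⟩ := hK.swap h hh
      exact ⟨U, Γ, μ⁻¹, hUΓ, hsim⟩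
    push Not at hd1 hd2
    obtain ⟨M, hM, hle⟩ := sp_tensor_even m H hH hodd b _ _ hG hs1 hd1 hs2 hd2 (by
      intro h hh
      obtain ⟨U, Γ, μ, -, hUΓ, -, -⟩ := hK h hh
      exact ⟨U, Γ, hUΓ⟩)
    exact ⟨M, Or.inl hM, hle⟩

end Cfsg.Agent.Lib.Helper8.Asch
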