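import Cfsg.Agent.Lib.Helper8.SpK4
import Cfsg.Agent.Lib.Helper8.SpC6

set_option autoImplicit false

/-! A wreath basis with constant Gram factors: class 7 in odd characteristic. -/

namespace Cfsg.Agent.Lib.Helper8.Asch

open Module Matrix
open Cfsg.Geo

variable {F : Type*} [Field F]

theorem const_factor_symm {k mm : ℕ} (hk : 0 < k) (G₀ : Matrix (Fin mm) (Fin mm) F) (hG₀ : G₀ ≠ 0)
    (Λ ε : F) (hΛ : Λ ≠ 0) (hε : ε ≠ 0)
    (h : (Λ • ptM (fun _ : Fin k => G₀))ᵀ = ε • (Λ • ptM (fun _ : Fin k => G₀))) :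
    ∃ c : F, G₀ᵀ = c • G₀ ∧ c ^ k = ε ∧ c * c = 1 := by
  rw [Matrix.transpose_smul, ptM_transpose, smul_comm ε Λ] at h
  have h1 : ptM (fun _ : Fin k => G₀ᵀ) = ε • ptM (fun _ : Fin k => G₀) := by
    have := congrArg (fun M => Λ⁻¹ • M) h
    simp only [smul_smul, inv_mul_cancel₀ hΛ, one_smul] at this
    rw [← mul_assoc, inv_mul_cancel₀ hΛ, one_mul] at this
    exact this
  obtain ⟨c, hc, hprod⟩ := ptM_eq_smul_ptM _ _ ε hε (fun _ => hG₀) h1
  obtain ⟨p, q, hpq⟩ : ∃ p q, G₀ p q ≠ 0 := by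
    by_contra hcon
    push Not at hcon
    exact hG₀ (by ext p q; exact hcon p q)
  set i₀ : Fin k := ⟨0, hk⟩ with hi₀
  have hall : ∀ i, c i = c i₀ := by
    intro i
    have h2 := (hc i).symm.trans (hc i₀)
    have h3 := congrFun (congrFun h2 p) q
    rw [Matrix.smul_apply, Matrix.smul_apply, smul_eq_mul, smul_eq_mul] at h3
    exact mul_right_cancel₀ hpq h3
  refine ⟨c i₀, hc i₀, ?_, ?_⟩
  · rw [← hprod, Finset.prod_congr rfl (fun i _ => hall i), Finset.prod_const, Finset.card_univ,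
      Fintype.card_fin]
  · have h2 : G₀ = (c i₀ * c i₀) • G₀ := by
      have := congrArg Matrix.transpose (hc i₀)
      rw [Matrix.transpose_transpose, Matrix.transpose_smul, hc i₀, smul_smul] at this
      exact this
    have h3 := congrFun (congrFun h2 p) q
    rw [Matrix.smul_apply, smul_eq_mul] at h3
    have h4 : (1 : F) * G₀ p q = (c i₀ * c i₀) * G₀ p q := by rw [one_mul]; exact h3
    exact (mul_right_cancel₀ hpq h4).symm

theorem tensorPowerFormStructure_of_gram {ι : Type} [Fintype ι] [DecidableEq ι]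
    {f : (ι → F) → (ι → F) → F} (hf : IsBilinearForm f) {k mm : ℕ}
    (b : Basis (Fin k → Fin mm) F (ι → F)) (e : ι ≃ (Fin k → Fin mm))
    (G₀ : Matrix (Fin mm) (Fin mm) F) (Λ : F) (hΛ : Λ ≠ 0)
    (hG : LinearMap.BilinForm.toMatrix b (toBilin hf) = Λ • ptM (fun _ : Fin k => G₀)) :
    IsTensorPowerFormStructure id f (gf (RingHom.id F) G₀) e (basisGL b e) := by
  refine ⟨Λ, hΛ, fun x y => ?_⟩
  rw [basisGL_mulVec, basisGL_mulVec, gramMatrix_gf]
  have := bilin_sum_basis (toBilin hf) b x y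
  rw [toBilin_apply] at this
  rw [this, hG, Finset.mul_sum]
  refine Finset.sum_congr rfl fun a _ => ?_
  rw [Finset.mul_sum]
  refine Finset.sum_congr rfl fun c _ => ?_
  rw [Matrix.smul_apply, ptM_apply, smul_eq_mul, id]
  ring

variable [Fintype F]

theorem sp_class7 (m : ℕ) (H : Subgroup (GL (Fin m ⊕ Fin m) F)) (hH : H ≤ spGL m F)
    (hodd : Odd (Fintype.card F)) {k mm : ℕ} (hk : 2 ≤ k)
    (b : Basis (Fin k → Fin mm) F (Fin m ⊕ Fin m → F)) (G₀ : GL (Fin mm) F) [Nonempty (Fin mm)]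
    (Λ : F) (hΛ : Λ ≠ 0)
    (hG : LinearMap.BilinForm.toMatrix b (toBilin (isSymplecticForm_sympForm (F := F) m).bilinear) =
      Λ • ptM (fun _ : Fin k => (G₀ : Matrix (Fin mm) (Fin mm) F)))
    (h32 : ¬ (Fintype.card F = 3 ∧ mm = 2))
    (hHk : ∀ h ∈ H, ∃ (σ : Equiv.Perm (Fin k)) (Us : Fin k → GL (Fin mm) F),
      LinearMap.toMatrix b b (Matrix.toLin' (h : Matrix (Fin m ⊕ Fin m) (Fin m ⊕ Fin m) F)) =
        facPerm mm F σ * ptM (fun i => ((Us i : GL (Fin mm) F) : Matrix (Fin mm) (Fin mm) F))) :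
    ∃ M : Subgroup (GL (Fin m ⊕ Fin m) F), ISC m F M ∧ H ≤ M := by
  have h2F : (2 : F) ≠ 0 := two_ne_zero_of_odd hodd
  have ht := gram_transpose (epsForm_symp (F := F) m) b
  rw [hG] at ht
  obtain ⟨c, hc, hck, hcc⟩ := const_factor_symm (by omega : 0 < k)
    (G₀ : Matrix (Fin mm) (Fin mm) F) (gl_ne_zero G₀) Λ (-1) hΛ (by simp) ht
  have hc1 : c = -1 := by
    have h1 : (c - 1) * (c + 1) = 0 := by linear_combination hcc
    rcases mul_eq_zero.mp h1 with h | h
    · exfalso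
      have : c = 1 := by linear_combination h
      rw [this, one_pow] at hck
      apply h2F
      linear_combination hck
    · linear_combination h
  subst hc1
  have hkodd : Odd k := by
    by_contra hne
    rw [Nat.not_odd_iff_even] at hne
    rw [hne.neg_one_pow] at hck
    apply h2F
    linear_combination hck
  have hk3 : 3 ≤ k := by
    obtain ⟨j, hj⟩ := hkodd
    omega
  have hskew : (G₀ : Matrix (Fin mm) (Fin mm) F)ᵀ = -(G₀ : Matrix (Fin mm) (Fin mm) F) := by
    rw [hc, neg_smul, one_smul]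
  have hcard : Fintype.card (Fin m ⊕ Fin m) = Fintype.card (Fin k → Fin mm) := by
    have h1 := Module.finrank_eq_card_basis b
    rw [Module.finrank_fintype_fun_eq_card] at h1
    exact h1
  let e' : (Fin m ⊕ Fin m) ≃ (Fin k → Fin mm) := Fintype.equivOfCardEq hcard
  refine ⟨tensorWreathSubgroup mm k e' (basisGL b e') ⊓ spGL m F, ?_, ?_⟩
  · right; right; right; right
    exact ⟨mm, k, e', basisGL b e', gf (RingHom.id F) (G₀ : Matrix (Fin mm) (Fin mm) F),
      hodd, hkodd, hk3, h32, isSymplecticForm_gf G₀ h2F hskew,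
      tensorPowerFormStructure_of_gram _ b e' _ Λ hΛ hG, rfl⟩
  · intro h hh
    refine ⟨?_, hH hh⟩
    obtain ⟨σ, Us, hσU⟩ := hHk h hh
    refine mem_conj_basisGL (tensorWreathStandard mm k F) b e' h ⟨facGL mm F σ * ptGL Us, ?_, hσU⟩
    exact Subgroup.mul_mem _ (Subgroup.subset_closure (Or.inr ⟨σ, fun x y => rfl⟩))
      (Subgroup.subset_closure (Or.inl ⟨Us, fun x y => rfl⟩))

end Cfsg.Agent.Lib.Helper8.Asch
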