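import Cfsg.Agent.Lib.Helper8.OeC1
import Cfsg.Agent.Lib.Helper8.OeD0
import Cfsg.Agent.Lib.Helper8.SpE2
import Cfsg.Agent.Lib.Helper8.SpK5

set_option autoImplicit false

/-! The tensor case for the orthogonal groups in characteristic two: the quadratic form vanishes on
the pure tensors; classes 4b and 7 (two factors). -/

namespace Cfsg.Agent.Lib.Helper8.Asch

open Module Matrix
open scoped Kronecker
open Cfsg Cfsg.Geo

variable {ι : Type} [Fintype ι] [DecidableEq ι] {F : Type*} [Field F] [Fintype F]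
variable {Q : (ι → F) → F} {H : Subgroup (GL ι F)}

theorem isSymplecticForm_gf_two {κ : Type} [Fintype κ] [DecidableEq κ] (G : GL κ F)
    (h2F : (2 : F) = 0) (hsymm : (G : Matrix κ κ F)ᵀ = (G : Matrix κ κ F))
    (hdiag : ∀ a, (G : Matrix κ κ F) a a = 0) :
    IsSymplecticForm (gf (RingHom.id F) (G : Matrix κ κ F)) := by
  have hsk : ∀ a b, (G : Matrix κ κ F) a b + (G : Matrix κ κ F) b a = 0 := by
    intro a b
    have := congrFun (congrFun hsymm b) a
    rw [Matrix.transpose_apply] at this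
    rw [this]
    linear_combination ((G : Matrix κ κ F) b a) * h2F
  exact ⟨gf_bilinear _, gf_skew _ hsk, gf_alt _ hsk hdiag,
    gf_nondeg _ (RingHom.id F).injective _ (gl_det_ne_zero G)⟩

namespace OEven

/-- a quadratic form with the right polar form which vanishes on an invariant spanning set is `Q` -/
theorem quad_of_span (h : OEven Q H) (hcard : 2 ≤ Fintype.card ι) (hirr : Irr (HV H))
    (Q' : (ι → F) → F) (hsm : ∀ (c : F) (v : ι → F), Q' (c • v) = c ^ 2 * Q' v)
    (hpol : ∀ u v, QuadraticMap.polar Q' u v = QuadraticMap.polar Q u v)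
    (S : Set (ι → F)) (hS : Submodule.span F S = ⊤)
    (hSH : ∀ g ∈ H, ∀ s ∈ S, (g : Matrix ι ι F) *ᵥ s ∈ S)
    (hQS : ∀ s ∈ S, Q' s = 0) (v : ι → F) : Q' v = Q v := by
  apply h.quad_unique hcard hirr Q' hsm hpol
  intro g hg v
  have hiso := h.isom g hg
  have hadd : ∀ u v, Q' (u + v) = Q' u + Q' v + QuadraticMap.polar Q u v := by
    intro u v
    have := hpol u v
    rw [← this]
    unfold QuadraticMap.polar
    ring
  have hv : v ∈ Submodule.span F S := by
    rw [hS]
    exact Submodule.mem_top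
  induction hv using Submodule.span_induction with
  | mem s hs => rw [hQS s hs, hQS _ (hSH g hg s hs)]
  | zero => rw [Matrix.mulVec_zero]
  | add u w _ _ hu hw => rw [Matrix.mulVec_add, hadd, hadd, hu, hw, hiso]
  | smul c u _ hu => rw [Matrix.mulVec_smul, hsm, hsm, hu]

/-- in a tensor decomposition of the polar form into two alternating factors preserved by `H`, the
quadratic form vanishes on the pure tensors -/
theorem pure_zero (h : OEven Q H) (hcard : 2 ≤ Fintype.card ι) (hirr : Irr (HV H)) {a e : ℕ}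
    (b : Basis (Fin a × Fin e) F (ι → F))
    (G₁ : Matrix (Fin a) (Fin a) F) (G₂ : Matrix (Fin e) (Fin e) F)
    (hG : LinearMap.BilinForm.toMatrix b (toBilin h.symp.bilinear) = G₁ ⊗ₖ G₂)
    (h1 : G₁ᵀ = G₁) (h1d : ∀ i, G₁ i i = 0) (h2 : G₂ᵀ = G₂) (h2d : ∀ k, G₂ k k = 0)
    (hHk : ∀ g ∈ H, ∃ (U : Matrix (Fin a) (Fin a) F) (Γ : Matrix (Fin e) (Fin e) F),
      LinearMap.toMatrix b b (Matrix.toLin' (g : Matrix ι ι F)) = U ⊗ₖ Γ)
    (w : Fin a → F) (u : Fin e → F) : Q (∑ p, tp w u p • b p) = 0 := by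
  have h2F := h.h2
  set T : Matrix (Fin a × Fin e) (Fin a × Fin e) F := upperPart G₁ ⊗ₖ G₂ with hT
  have hTT : T + Tᵀ = G₁ ⊗ₖ G₂ := by
    rw [hT, ← Matrix.kroneckerMap_transpose, h2, ← Matrix.add_kronecker,
      upperPart_add_transpose G₁ h1 h1d]
  let Q' : (ι → F) → F := fun v => gf (RingHom.id F) T (b.repr v) (b.repr v)
  have hQ' : ∀ v, Q' v = gf (RingHom.id F) T (b.repr v) (b.repr v) := fun v => rfl
  let S : Set (ι → F) := {v | ∃ (w : Fin a → F) (u : Fin e → F), ⇑(b.repr v) = tp w u}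
  have hsk : ∀ k l, G₂ k l + G₂ l k = 0 := by
    intro k l
    have := congrFun (congrFun h2 k) l
    rw [Matrix.transpose_apply] at this
    rw [this]
    linear_combination (G₂ k l) * h2F
  have key := h.quad_of_span hcard hirr Q' (by
      intro c v
      rw [hQ', hQ', map_smul, Finsupp.coe_smul, gf_smul_left, gf_smul_right, RingHom.id_apply]
      ring) (by
      intro u v
      unfold QuadraticMap.polar
      rw [hQ', hQ', hQ', map_add, Finsupp.coe_add]
      have := polar_gf T (b.repr u) (b.repr v)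
      unfold QuadraticMap.polar at this
      rw [this, hTT, ← hG, ← gf_repr]
      rfl) S (by
      rw [eq_top_iff, ← b.span_eq]
      apply Submodule.span_mono
      rintro _ ⟨⟨i, k⟩, rfl⟩
      refine ⟨Pi.single i 1, Pi.single k 1, ?_⟩
      rw [Basis.repr_self, tp_single, Finsupp.single_eq_pi_single]) (by
      rintro g hg v ⟨w, u, hwu⟩
      obtain ⟨U, Γ, hUΓ⟩ := hHk g hg
      refine ⟨U *ᵥ w, Γ *ᵥ u, ?_⟩
      rw [← Matrix.toLin'_apply, ← LinearMap.toMatrix_mulVec_repr b b, hUΓ, hwu, kron_mulVec_tp])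
    (by
      rintro v ⟨w, u, hwu⟩
      rw [hQ', hwu, hT, gf_kron_tp, gf_alt G₂ hsk h2d, mul_zero])
  rw [← key, hQ', Basis.repr_sum_self, hT, gf_kron_tp, gf_alt G₂ hsk h2d, mul_zero]

end OEven

end Cfsg.Agent.Lib.Helper8.Asch
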