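import Cfsg.Agent.Lib.Helper8.OeD1

set_option autoImplicit false

/-! The tensor case for the orthogonal groups in characteristic two: assembly. -/

namespace Cfsg.Agent.Lib.Helper8.Asch

open Module Matrix
open scoped Kronecker
open Cfsg Cfsg.Geo

variable {ι : Type} [Fintype ι] [DecidableEq ι] {F : Type*} [Field F] [Fintype F]
variable {Q : (ι → F) → F} {H : Subgroup (GL ι F)}

namespace OEven

theorem class4b (h : OEven Q H) (hcard : 2 ≤ Fintype.card ι) (hirr : Irr (HV H)) {a e : ℕ}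
    (ha : 2 ≤ a) (hae : a < e) (b : Basis (Fin a × Fin e) F (ι → F))
    (G₁ : GL (Fin a) F) (G₂ : GL (Fin e) F)
    (hG : LinearMap.BilinForm.toMatrix b (toBilin h.symp.bilinear) =
      (G₁ : Matrix (Fin a) (Fin a) F) ⊗ₖ (G₂ : Matrix (Fin e) (Fin e) F))
    (h1 : (G₁ : Matrix (Fin a) (Fin a) F)ᵀ = (G₁ : Matrix (Fin a) (Fin a) F))
    (h1d : ∀ i, (G₁ : Matrix (Fin a) (Fin a) F) i i = 0)
    (h2 : (G₂ : Matrix (Fin e) (Fin e) F)ᵀ = (G₂ : Matrix (Fin e) (Fin e) F))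
    (h2d : ∀ k, (G₂ : Matrix (Fin e) (Fin e) F) k k = 0)
    (hHk : ∀ g ∈ H, ∃ (U : GL (Fin a) F) (Γ : GL (Fin e) F),
      LinearMap.toMatrix b b (Matrix.toLin' (g : Matrix ι ι F)) =
        (U : Matrix (Fin a) (Fin a) F) ⊗ₖ (Γ : Matrix (Fin e) (Fin e) F)) :
    ∃ M : Subgroup (GL ι F), IOEC2 Q M ∧ H ≤ M := by
  have hc : Fintype.card ι = Fintype.card (Fin a × Fin e) := by
    have h1 := Module.finrank_eq_card_basis b
    rw [Module.finrank_fintype_fun_eq_card] at h1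
    exact h1
  let e' : ι ≃ Fin a × Fin e := Fintype.equivOfCardEq hc
  refine IOEC2.of (Cfsg.Agent.Lib.Helper5.AschE.cls4b h.le ha hae
    (isSymplecticForm_gf_two G₁ h.h2 h1 h1d) (isSymplecticForm_gf_two G₂ h.h2 h2 h2d)
    (tensorFormStructure_of_gram h.symp.bilinear b e' _ _ hG) ?_ ?_)
  · intro x₁ x₂
    rw [basisGL_mulVec]
    exact h.pure_zero hcard hirr b _ _ hG h1 h1d h2 h2d (by
      intro g hg
      obtain ⟨U, Γ, hUΓ⟩ := hHk g hg
      exact ⟨U, Γ, hUΓ⟩) x₁ x₂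
  · intro g hg
    obtain ⟨U, Γ, hUΓ⟩ := hHk g hg
    exact mem_conj_basisGL (kroneckerSubgroup a e F) b e' g ⟨kronGL U Γ, ⟨U, Γ, rfl⟩, hUΓ⟩

theorem class7_two (h : OEven Q H) (hcard : 2 ≤ Fintype.card ι) (hirr : Irr (HV H)) {a : ℕ}
    (b : Basis (Fin a × Fin a) F (ι → F))
    (G₁ : GL (Fin a) F) (G₂ : GL (Fin a) F)
    (hG : LinearMap.BilinForm.toMatrix b (toBilin h.symp.bilinear) =
      (G₁ : Matrix (Fin a) (Fin a) F) ⊗ₖ (G₂ : Matrix (Fin a) (Fin a) F))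
    (h1 : (G₁ : Matrix (Fin a) (Fin a) F)ᵀ = (G₁ : Matrix (Fin a) (Fin a) F))
    (h1d : ∀ i, (G₁ : Matrix (Fin a) (Fin a) F) i i = 0)
    (h2 : (G₂ : Matrix (Fin a) (Fin a) F)ᵀ = (G₂ : Matrix (Fin a) (Fin a) F))
    (h2d : ∀ k, (G₂ : Matrix (Fin a) (Fin a) F) k k = 0)
    (hHk : ∀ g ∈ H, ∃ (U : GL (Fin a) F) (Γ : GL (Fin a) F),
      LinearMap.toMatrix b b (Matrix.toLin' (g : Matrix ι ι F)) =
        (U : Matrix (Fin a) (Fin a) F) ⊗ₖ (Γ : Matrix (Fin a) (Fin a) F)) :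
    ∃ M : Subgroup (GL ι F), IOEC2 Q M ∧ H ≤ M := by
  have h2F := h.h2
  have hsk : ∀ (G : Matrix (Fin a) (Fin a) F), Gᵀ = G → ∀ i j, G i j + G j i = 0 := by
    intro G hGs i j
    have := congrFun (congrFun hGs j) i
    rw [Matrix.transpose_apply] at this
    rw [this]
    linear_combination (G j i) * h2F
  obtain ⟨X, hX⟩ := alt_congr (G₁ : Matrix (Fin a) (Fin a) F) (G₂ : Matrix (Fin a) (Fin a) F)
    (gl_det_ne_zero G₁) (gl_det_ne_zero G₂) (hsk _ h1) h1d (hsk _ h2) h2d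
  set T : GL (Fin a × Fin a) F := kronGL (1 : GL (Fin a) F) X with hT
  have hTv : (T : Matrix (Fin a × Fin a) (Fin a × Fin a) F) =
      (1 : Matrix (Fin a) (Fin a) F) ⊗ₖ (X : Matrix (Fin a) (Fin a) F) := rfl
  have hTi : ((T⁻¹ : GL (Fin a × Fin a) F) : Matrix (Fin a × Fin a) (Fin a × Fin a) F) =
      (1 : Matrix (Fin a) (Fin a) F) ⊗ₖ ((X⁻¹ : GL (Fin a) F) : Matrix (Fin a) (Fin a) F) := by
    show (((1 : GL (Fin a) F)⁻¹ : GL (Fin a) F) : Matrix (Fin a) (Fin a) F) ⊗ₖ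
      ((X⁻¹ : GL (Fin a) F) : Matrix (Fin a) (Fin a) F) = _
    rw [inv_one, Units.val_one]
  obtain ⟨b', hb1, hb2⟩ := exists_basis_toMatrix b T
  have hG' : LinearMap.BilinForm.toMatrix b' (toBilin h.symp.bilinear) =
      (G₁ : Matrix (Fin a) (Fin a) F) ⊗ₖ (G₁ : Matrix (Fin a) (Fin a) F) := by
    rw [gram_change b b' T hb1, hG, hTv, ← Matrix.kroneckerMap_transpose, Matrix.transpose_one,
      ← Matrix.mul_kronecker_mul, ← Matrix.mul_kronecker_mul, one_mul, mul_one, hX]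
  have hHk' : ∀ g ∈ H, ∃ (U : GL (Fin a) F) (Γ : GL (Fin a) F),
      LinearMap.toMatrix b' b' (Matrix.toLin' (g : Matrix ι ι F)) =
        (U : Matrix (Fin a) (Fin a) F) ⊗ₖ (Γ : Matrix (Fin a) (Fin a) F) := by
    intro g hg
    obtain ⟨U, Γ, hUΓ⟩ := hHk g hg
    refine ⟨U, X⁻¹ * Γ * X, ?_⟩
    rw [toMatrix_change b b' T hb1 hb2, hUΓ, hTv, hTi, ← Matrix.mul_kronecker_mul,
      ← Matrix.mul_kronecker_mul, one_mul, mul_one, Units.val_mul, Units.val_mul]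
  set ε : Fin a × Fin a ≃ (Fin 2 → Fin a) := (finTwoArrowEquiv (Fin a)).symm with hε
  have hε0 : ∀ p : Fin a × Fin a, ε p 0 = p.1 := fun p => rfl
  have hε1 : ∀ p : Fin a × Fin a, ε p 1 = p.2 := fun p => rfl
  have hεs : ∀ x : Fin 2 → Fin a, ε.symm x = (x 0, x 1) := fun x => rfl
  set b'' : Basis (Fin 2 → Fin a) F (ι → F) := b'.reindex ε with hb''
  have hG'' : LinearMap.BilinForm.toMatrix b'' (toBilin h.symp.bilinear) =
      ptM (fun _ : Fin 2 => (G₁ : Matrix (Fin a) (Fin a) F)) := by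
    ext x y
    rw [LinearMap.BilinForm.toMatrix_apply, hb'', Basis.reindex_apply, Basis.reindex_apply,
      ← LinearMap.BilinForm.toMatrix_apply, hG', hεs, hεs, Matrix.kroneckerMap_apply, ptM_apply,
      Fin.prod_univ_two]
  have hc : Fintype.card ι = Fintype.card (Fin 2 → Fin a) := by
    have h1 := Module.finrank_eq_card_basis b''
    rw [Module.finrank_fintype_fun_eq_card] at h1
    exact h1
  let e' : ι ≃ (Fin 2 → Fin a) := Fintype.equivOfCardEq hc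
  refine ⟨tensorWreathSubgroup a 2 e' (basisGL b'' e') ⊓ isometryGroup F Q,
    Or.inr ⟨a, 2, e', basisGL b'' e', gf (RingHom.id F) (G₁ : Matrix (Fin a) (Fin a) F), le_refl 2,
      isSymplecticForm_gf_two G₁ h2F h1 h1d,
      tensorPowerFormStructure_of_gram h.symp.bilinear b'' e' _ 1 one_ne_zero
        (by rw [one_smul]; exact hG''), ?_, rfl⟩, le_inf ?_ h.le⟩
  · intro ws
    rw [basisGL_mulVec, ← Equiv.sum_comp ε]
    have : ∀ p : Fin a × Fin a, (∏ i, ws i (ε p i)) • b'' (ε p) = tp (ws 0) (ws 1) p • b' p := by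
      intro p
      rw [hb'', Basis.reindex_apply, Equiv.symm_apply_apply, Fin.prod_univ_two, hε0, hε1]
      rfl
    rw [Finset.sum_congr rfl fun p _ => this p]
    exact h.pure_zero hcard hirr b' _ _ hG' h1 h1d h1 h1d (by
      intro g hg
      obtain ⟨U, Γ, hUΓ⟩ := hHk' g hg
      exact ⟨U, Γ, hUΓ⟩) (ws 0) (ws 1)
  · intro g hg
    obtain ⟨U, Γ, hUΓ⟩ := hHk' g hg
    set Us : Fin 2 → GL (Fin a) F := fun i => if i = 0 then U else Γ with hUs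
    refine mem_conj_basisGL (tensorWreathStandard a 2 F) b'' e' g ⟨ptGL Us,
      Subgroup.subset_closure (Or.inl ⟨Us, fun x y => rfl⟩), ?_⟩
    rw [ptGL_val]
    ext x y
    rw [hb'', toMatrix_reindex, hUΓ, hεs, hεs, Matrix.kroneckerMap_apply, ptM_apply,
      Fin.prod_univ_two]
    rfl

theorem tensor (h : OEven Q H) (hcard : 2 ≤ Fintype.card ι) (hirr : Irr (HV H))
    (A : Subalgebra F (Module.End F (ι → F)))
    (hadj : AdjClosed (toBilin h.symp.bilinear) A)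
    (a e : ℕ) (ha : 2 ≤ a) (he : 2 ≤ e) (b : Basis (Fin a × Fin e) F (ι → F))
    (hb1 : ∀ x ∈ A, ∃ X : Matrix (Fin a) (Fin a) F,
      LinearMap.toMatrix b b x = X ⊗ₖ (1 : Matrix (Fin e) (Fin e) F))
    (hb2 : ∀ X : Matrix (Fin a) (Fin a) F, ∃ x ∈ A,
      LinearMap.toMatrix b b x = X ⊗ₖ (1 : Matrix (Fin e) (Fin e) F))
    (hHk : ∀ u ∈ HV H, ∃ (U : GL (Fin a) F) (Γ : GL (Fin e) F),
      LinearMap.toMatrix b b (u : Module.End F (ι → F)) =
        (U : Matrix (Fin a) (Fin a) F) ⊗ₖ (Γ : Matrix (Fin e) (Fin e) F)) :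
    ∃ M : Subgroup (GL ι F), IOEC2 Q M ∧ H ≤ M := by
  have hf := h.symp
  haveI : Nonempty (Fin a) := ⟨⟨0, by omega⟩⟩
  haveI : Nonempty (Fin e) := ⟨⟨0, by omega⟩⟩
  obtain ⟨G₁, G₂, l, hG, hl, ht1, ht2⟩ := gram_kron_eps h.epsForm b A hb1 hb2 hadj
  have hK : KronSim H b (G₁ : Matrix (Fin a) (Fin a) F) (G₂ : Matrix (Fin e) (Fin e) F) :=
    kronSim_of_isom hf.bilinear h.isom b G₁ G₂ hG hHk
  have hl' : l = 1 ∨ l = -1 := by
    have : (l - 1) * (l + 1) = 0 := by linear_combination hl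
    rcases mul_eq_zero.mp this with h | h
    · left; linear_combination h
    · right; linear_combination h
  have h2F : (2 : F) = 0 := h.h2
  have hneg : (-1 : F) = 1 := by linear_combination -h2F
  have hs1 : (G₁ : Matrix (Fin a) (Fin a) F)ᵀ = (G₁ : Matrix (Fin a) (Fin a) F) := by
    rcases hl' with rfl | rfl
    · rw [ht1, one_smul]
    · rw [ht1, hneg, one_smul]
  have hs2 : (G₂ : Matrix (Fin e) (Fin e) F)ᵀ = (G₂ : Matrix (Fin e) (Fin e) F) := by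
    rcases hl' with rfl | rfl
    · rw [ht2, hneg, one_mul, one_smul]
    · rw [ht2, neg_mul_neg, one_mul, one_smul]
  by_cases hd2 : ∃ k₀, (G₂ : Matrix (Fin e) (Fin e) F) k₀ k₀ ≠ 0
  · exfalso
    obtain ⟨k₀, hk₀⟩ := hd2
    refine reducible_of_nonalt H h2F (by omega) he b _ hs2 k₀ hk₀ ?_ hirr
    intro g hg
    obtain ⟨U, Γ, μ, -, hUΓ, -, hsim⟩ := hK g hg
    exact ⟨U, Γ, μ⁻¹, hUΓ, hsim⟩
  by_cases hd1 : ∃ i₀, (G₁ : Matrix (Fin a) (Fin a) F) i₀ i₀ ≠ 0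
  · exfalso
    obtain ⟨i₀, hi₀⟩ := hd1
    refine reducible_of_nonalt H h2F (by omega) ha (b.reindex (Equiv.prodComm _ _)) _ hs1 i₀ hi₀
      ?_ hirr
    intro g hg
    obtain ⟨U, Γ, μ, -, hUΓ, -, hsim⟩ := hK.swap g hg
    exact ⟨U, Γ, μ⁻¹, hUΓ, hsim⟩
  push Not at hd1 hd2
  rcases lt_trichotomy a e with hlt | heq | hgt
  · refine h.class4b hcard hirr ha hlt b G₁ G₂ hG hs1 hd1 hs2 hd2 ?_
    intro g hg
    obtain ⟨U, Γ, μ, -, hUΓ, -, -⟩ := hK g hg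
    exact ⟨U, Γ, hUΓ⟩
  · subst heq
    refine h.class7_two hcard hirr b G₁ G₂ hG hs1 hd1 hs2 hd2 ?_
    intro g hg
    obtain ⟨U, Γ, μ, -, hUΓ, -, -⟩ := hK g hg
    exact ⟨U, Γ, hUΓ⟩
  · refine h.class4b hcard hirr he hgt (b.reindex (Equiv.prodComm _ _)) G₂ G₁
      (gram_swap _ b _ _ hG) hs2 hd2 hs1 hd1 ?_
    intro g hg
    obtain ⟨U, Γ, μ, -, hUΓ, -, -⟩ := hK.swap g hg
    exact ⟨U, Γ, hUΓ⟩

end OEven

end Cfsg.Agent.Lib.Helper8.Asch
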