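import Cfsg.Agent.Lib.Helper8.OeD2
import Cfsg.Agent.Lib.Helper8.SpI1

set_option autoImplicit false

/-! The extraspecial case does not occur for the orthogonal groups in characteristic two. -/

namespace Cfsg.Agent.Lib.Helper8.Asch

open Module Matrix
open Cfsg Cfsg.Geo

variable {ι : Type} [Fintype ι] [DecidableEq ι] {F : Type*} [Field F] [Fintype F]
variable {Q : (ι → F) → F} {H : Subgroup (GL ι F)}

namespace OEven

theorem caseA_false (h : OEven Q H) [Nonempty ι] {N : Subgroup (GL ι F)} (hA : ACase H N) :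
    False := by
  obtain ⟨r, k, hr, hnk, hp, hexp, hz1, hz2, hcardN⟩ := hA.structure_thm
  apply hz2
  have hNH : N ≤ H := hA.minNC.le
  have hNf := (h.mono hNH).isom
  have hbot : N ⊓ Zs ι F = ⊥ := by
    rw [eq_bot_iff]
    rintro g ⟨hgN, hgZ⟩
    rw [Subgroup.mem_bot]
    have hsv : sv g = 1 := by
      rcases sv_sq_of_isom h.symp hgZ (hNf g hgN) with e | e
      · exact e
      · rw [e]
        linear_combination -h.h2
    apply Units.ext
    rw [val_eq_sv_smul hgZ, hsv, one_smul]
    rfl
  rw [hbot, Subgroup.card_bot]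

end OEven

end Cfsg.Agent.Lib.Helper8.Asch
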