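import Cfsg.Agent.Lib.Helper8.OeE1
import Cfsg.Agent.Lib.Helper8.SpJ5

set_option autoImplicit false

/-! The orthogonal groups in characteristic two: a quasisimple minimal normal subgroup modulo
scalars; class 5 (the quadratic form is rational over the subfield) or the residual class. -/

namespace Cfsg.Agent.Lib.Helper8.Asch

open Module Matrix
open scoped commutatorElement
open Cfsg Cfsg.Geo

variable {ι : Type} [Fintype ι] [DecidableEq ι] {F : Type*} [Field F] [Fintype F]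

/-- an additive map `D` with `D (c • v) = ψ c * D v`, `ψ` onto, on a space of dimension at least two
in characteristic two has a non-zero zero -/
theorem exists_ne_zero_of_semilinear' (h2F : (2 : F) = 0)
    (hcard : 2 ≤ Fintype.card ι) (D : (ι → F) → F) (hadd : ∀ u v, D (u + v) = D u + D v)
    (ψ : F → F) (hψ : Function.Surjective ψ)
    (hsm : ∀ (c : F) (v : ι → F), D (c • v) = ψ c * D v) : ∃ v : ι → F, v ≠ 0 ∧ D v = 0 := by
  obtain ⟨i₀, i₁, hne⟩ : ∃ i₀ i₁ : ι, i₀ ≠ i₁ := by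
    have : 1 < Fintype.card ι := by omega
    obtain ⟨a, b, hab⟩ := Fintype.exists_pair_of_one_lt_card this
    exact ⟨a, b, hab⟩
  by_cases h0 : D (Pi.single i₀ 1) = 0
  · refine ⟨Pi.single i₀ 1, ?_, h0⟩
    intro h
    have := congrFun h i₀
    rw [Pi.single_eq_same, Pi.zero_apply] at this
    exact one_ne_zero this
  · obtain ⟨c, hc⟩ := hψ (D (Pi.single i₁ 1) / D (Pi.single i₀ 1))
    refine ⟨c • Pi.single i₀ 1 + Pi.single i₁ 1, ?_, ?_⟩
    · intro h
      have := congrFun h i₁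
      rw [Pi.add_apply, Pi.smul_apply, Pi.single_eq_of_ne hne.symm, Pi.single_eq_same, smul_zero,
        zero_add, Pi.zero_apply] at this
      exact one_ne_zero this
    · rw [hadd, hsm, hc]
      field_simp
      linear_combination (D (Pi.single i₁ 1)) * h2F

theorem semilinear_eq_zero' (h2F : (2 : F) = 0) (hcard : 2 ≤ Fintype.card ι) {N : Subgroup (GL ι F)}
    (hirr : Irr (HV N)) (D : (ι → F) → F) (hadd : ∀ u v, D (u + v) = D u + D v)
    (ψ : F → F) (hψ : Function.Surjective ψ)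
    (hsm : ∀ (c : F) (v : ι → F), D (c • v) = ψ c * D v)
    (hinv : ∀ g ∈ N, ∀ v, D ((g : Matrix ι ι F) *ᵥ v) = D v) (v : ι → F) : D v = 0 := by
  have hD0 : D 0 = 0 := by
    have := hadd 0 0
    rw [add_zero] at this
    linear_combination -this
  let W : Submodule F (ι → F) :=
    { carrier := {v | D v = 0}
      add_mem' := by
        intro a b ha hb
        show D (a + b) = 0
        rw [hadd, ha, hb, add_zero]
      zero_mem' := hD0
      smul_mem' := by
        intro c a ha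
        show D (c • a) = 0
        rw [hsm, ha, mul_zero] }
  have hW : ∀ h ∈ N, ∀ w ∈ W, (h : Matrix ι ι F) *ᵥ w ∈ W := by
    intro g hg w hw
    show D _ = 0
    rw [hinv g hg]
    exact hw
  rcases irr_invariant hirr W hW with hbot | htop
  · exfalso
    obtain ⟨w, hw0, hw⟩ := exists_ne_zero_of_semilinear' h2F hcard D hadd ψ hψ hsm
    have : w ∈ W := hw
    rw [hbot] at this
    exact hw0 ((Submodule.mem_bot F).mp this)
  · have : v ∈ W := by
      rw [htop]
      trivial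
    exact this

/-- applying a field automorphism fixing the entries of a matrix commutes with the action -/
theorem comp_mulVec_of_fixed (σ : F →+* F) (s : Matrix ι ι F) (hs : ∀ i j, σ (s i j) = s i j)
    (u : ι → F) : σ ∘ (s *ᵥ u) = s *ᵥ (σ ∘ u) := by
  funext i
  simp only [Function.comp_apply, Matrix.mulVec, dotProduct, map_sum, map_mul, hs]

namespace OEven

variable {Q : (ι → F) → F} {H : Subgroup (GL ι F)}

/-- if an absolutely irreducible subgroup is written over a subfield then a multiple of the quadratic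
form is rational over the subfield -/
theorem quad_rational (h : OEven Q H) (hcard : 2 ≤ Fintype.card ι) [Nonempty ι]
    (N : Subgroup (GL ι F)) (hNH : N ≤ H) (hspan : Submodule.span F (mset N) = ⊤)
    (K : Subfield F) (Bm : GL ι F)
    (hBK : ∀ s ∈ matrixSet N, ∀ i j, ((Bm : Matrix ι ι F) * s *
      ((Bm⁻¹ : GL ι F) : Matrix ι ι F)) i j ∈ K) :
    ∃ ζ : F, ζ ≠ 0 ∧ IsQuadFormRationalStructure (fun v : ι → F => ζ * Q v) K Bm⁻¹ := by
  have hN := h.mono hNH
  obtain ⟨ζ, hζ, hrat⟩ := form_rational_of_realisable h.symp.bilinear h.symp.nondegenerate N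
    hN.isom hspan K Bm hBK
  refine ⟨ζ, hζ, ?_⟩
  obtain ⟨p, hchar⟩ := CharP.exists F
  haveI := hchar
  haveI hpF : Fact p.Prime := ⟨CharP.char_is_prime F p⟩
  haveI : CharP K p := by
    exact (RingHom.charP_iff K.subtype K.subtype_injective p).mpr hchar
  haveI : Fintype K := Fintype.ofFinite K
  obtain ⟨d, -, hd⟩ := FiniteField.card K p
  have hcardK : Nat.card K = p ^ (d : ℕ) := by
    rw [Nat.card_eq_fintype_card, hd]
  set σ : F →+* F := (frobEquiv (F := F) p d : F →+* F) with hσ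
  have hσapp : ∀ x : F, σ x = x ^ Nat.card K := by
    intro x
    rw [hcardK]
    rfl
  have hfix : ∀ x : F, x ∈ K ↔ σ x = x := by
    intro x
    rw [hσapp]
    exact mem_subfield_iff_pow K x
  have hσsurj : Function.Surjective σ := (frobEquiv (F := F) p d).surjective
  set P : GL ι F := Bm⁻¹ with hP
  have hPB : (P : Matrix ι ι F) * (Bm : Matrix ι ι F) = 1 := by
    rw [hP, ← Units.val_mul, inv_mul_cancel, Units.val_one]
  have hBP : (Bm : Matrix ι ι F) * (P : Matrix ι ι F) = 1 := by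
    rw [hP, ← Units.val_mul, mul_inv_cancel, Units.val_one]
  set f₁ : (ι → F) → (ι → F) → F := fun u v =>
    ζ * QuadraticMap.polar Q ((P : Matrix ι ι F) *ᵥ u) ((P : Matrix ι ι F) *ᵥ v) with hf₁
  have hbil := h.symp.bilinear
  have hf₁bil : IsBilinearForm f₁ := by
    refine ⟨?_, ?_, ?_, ?_⟩
    · intro x y v
      show ζ * _ = ζ * _ + ζ * _
      rw [Matrix.mulVec_add, hbil.add_left]
      ring
    · intro c x v
      show ζ * _ = c * (ζ * _)
      rw [Matrix.mulVec_smul, hbil.smul_left]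
      ring
    · intro v x y
      show ζ * _ = ζ * _ + ζ * _
      rw [Matrix.mulVec_add, hbil.add_right]
      ring
    · intro c v x
      show ζ * _ = c * (ζ * _)
      rw [Matrix.mulVec_smul, hbil.smul_right]
      ring
  have hG₁ : ∀ i j, σ (gramMatrix f₁ i j) = gramMatrix f₁ i j := by
    intro i j
    rw [← hfix]
    refine hrat (Pi.single i 1) (Pi.single j 1) ?_ ?_
    · intro k
      rw [Pi.single_apply]
      split_ifs
      · exact K.one_mem
      · exact K.zero_mem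
    · intro k
      rw [Pi.single_apply]
      split_ifs
      · exact K.one_mem
      · exact K.zero_mem
  have hσf : ∀ u v, σ (f₁ u v) = f₁ (σ ∘ u) (σ ∘ v) := by
    intro u v
    rw [eq_gf_id hf₁bil, eq_gf_id hf₁bil]
    unfold gf
    simp only [Function.comp_apply, Matrix.mulVec, dotProduct, map_sum, map_mul, hG₁,
      RingHom.id_apply]
  set Q₁ : (ι → F) → F := fun u => ζ * Q ((P : Matrix ι ι F) *ᵥ u) with hQ₁
  have hQ₁add : ∀ u v, Q₁ (u + v) = Q₁ u + Q₁ v + f₁ u v := by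
    intro u v
    show ζ * Q _ = ζ * Q _ + ζ * Q _ + ζ * QuadraticMap.polar Q _ _
    rw [Matrix.mulVec_add]
    unfold QuadraticMap.polar
    ring
  have hQ₁sm : ∀ (c : F) (u : ι → F), Q₁ (c • u) = c ^ 2 * Q₁ u := by
    intro c u
    show ζ * Q _ = c ^ 2 * (ζ * Q _)
    rw [Matrix.mulVec_smul, h.hQ.smul]
    ring
  set E : (ι → F) → F := fun u => σ (Q₁ u) - Q₁ (σ ∘ u) with hE
  have hEadd : ∀ u v, E (u + v) = E u + E v := by
    intro u v
    show σ (Q₁ (u + v)) - Q₁ (σ ∘ (u + v)) = σ (Q₁ u) - Q₁ (σ ∘ u) + (σ (Q₁ v) - Q₁ (σ ∘ v))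
    have e1 : σ ∘ (u + v) = σ ∘ u + σ ∘ v := by
      funext i
      simp only [Function.comp_apply, Pi.add_apply, map_add]
    rw [e1, hQ₁add, hQ₁add, map_add, map_add, hσf]
    ring
  have hEsm : ∀ (c : F) (u : ι → F), E (c • u) = (σ c) ^ 2 * E u := by
    intro c u
    show σ (Q₁ (c • u)) - Q₁ (σ ∘ (c • u)) = (σ c) ^ 2 * (σ (Q₁ u) - Q₁ (σ ∘ u))
    have e1 : σ ∘ (c • u) = σ c • (σ ∘ u) := by
      funext i
      simp only [Function.comp_apply, Pi.smul_apply, smul_eq_mul, map_mul]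
    rw [e1, hQ₁sm, hQ₁sm, map_mul, map_pow]
    ring
  have hEinv : ∀ g ∈ N, ∀ u, E (((Bm : Matrix ι ι F) * (g : Matrix ι ι F) *
      (P : Matrix ι ι F)) *ᵥ u) = E u := by
    intro g hg u
    set s : Matrix ι ι F := (Bm : Matrix ι ι F) * (g : Matrix ι ι F) * (P : Matrix ι ι F) with hs
    have hsK : ∀ i j, σ (s i j) = s i j := by
      intro i j
      rw [← hfix]
      exact hBK _ ⟨g, hg, rfl⟩ i j
    have hQ₁s : ∀ w, Q₁ (s *ᵥ w) = Q₁ w := by
      intro w
      show ζ * Q _ = ζ * Q _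
      rw [Matrix.mulVec_mulVec, hs, ← Matrix.mul_assoc, ← Matrix.mul_assoc, hPB, Matrix.one_mul,
        ← Matrix.mulVec_mulVec, hN.Qinv hg]
    show σ (Q₁ (s *ᵥ u)) - Q₁ (σ ∘ (s *ᵥ u)) = σ (Q₁ u) - Q₁ (σ ∘ u)
    rw [comp_mulVec_of_fixed σ s hsK, hQ₁s, hQ₁s]
  have hψ : Function.Surjective (fun c : F => (σ c) ^ 2) := by
    intro y
    haveI : CharP F 2 := CharTwo.of_one_ne_zero_of_two_eq_zero one_ne_zero h.h2
    have hchar2 : ringChar F = 2 := ringChar.eq F 2
    obtain ⟨z, hz⟩ := FiniteField.isSquare_of_char_two hchar2 y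
    obtain ⟨c, hc⟩ := hσsurj z
    refine ⟨c, ?_⟩
    show (σ c) ^ 2 = y
    rw [hc, hz, pow_two]
  have hD0 : ∀ w, E ((Bm : Matrix ι ι F) *ᵥ w) = 0 := by
    apply semilinear_eq_zero' h.h2 hcard (irr_of_span N hspan) (fun w => E ((Bm : Matrix ι ι F) *ᵥ w))
      ?_ (fun c : F => (σ c) ^ 2) hψ ?_ ?_
    · intro u v
      show E _ = E _ + E _
      rw [Matrix.mulVec_add, hEadd]
    · intro c v
      show E _ = (σ c) ^ 2 * E _
      rw [Matrix.mulVec_smul, hEsm]
    · intro g hg v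
      show E _ = E _
      have := hEinv g hg ((Bm : Matrix ι ι F) *ᵥ v)
      rw [Matrix.mulVec_mulVec, Matrix.mul_assoc, Matrix.mul_assoc, hPB, Matrix.mul_one,
        ← Matrix.mulVec_mulVec] at this
      exact this
  have hE0 : ∀ u, E u = 0 := by
    intro u
    have := hD0 ((P : Matrix ι ι F) *ᵥ u)
    rwa [Matrix.mulVec_mulVec, hBP, Matrix.one_mulVec] at this
  intro u hu
  show ζ * Q _ ∈ K
  rw [hfix]
  have hσu : σ ∘ u = u := by
    funext i
    exact (hfix _).mp (hu i)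
  have := hE0 u
  rw [hE] at this
  simp only [hσu] at this
  exact sub_eq_zero.mp this

theorem class5_of_realisable (h : OEven Q H) (hcard : 2 ≤ Fintype.card ι) [Nonempty ι]
    (N : Subgroup (GL ι F)) (hNH : N ≤ H) (hHN : HInv H N)
    (hspan : Submodule.span F (mset N) = ⊤) (F₀ : Subfield F) (hF₀ : F₀ ≠ ⊤)
    (hreal : RealisableOver F₀ (matrixSet N)) :
    ∃ M : Subgroup (GL ι F), IOEC2 Q M ∧ H ≤ M := by
  obtain ⟨K, r, hFK, hr, hcardF⟩ := exists_max_subfield F₀ hF₀
  obtain ⟨Bm, hBm⟩ := hreal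
  have hBK : ∀ s ∈ matrixSet N, ∀ i j, ((Bm : Matrix ι ι F) * s *
      ((Bm⁻¹ : GL ι F) : Matrix ι ι F)) i j ∈ K :=
    fun s hs i j => hFK (hBm s hs i j)
  have hle : H ≤ subfieldSubgroup K Bm⁻¹ :=
    le_subfieldSubgroup_of_realisable H N hHN hspan K Bm hBK
  obtain ⟨ζ, hζ, hrat⟩ := h.quad_rational hcard N hNH hspan K Bm hBK
  exact IOEC2.of (Cfsg.Agent.Lib.Helper5.AschE.cls5 h.le hr hcardF hζ hrat hle)

theorem caseB_one (h : OEven Q H) (hcard : 2 ≤ Fintype.card ι) [Nonempty ι]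
    (N : Subgroup (GL ι F)) (hNH : N ≤ H) (hHN : HInv H N)
    (hspan : Submodule.span F (mset N) = ⊤) (hperf : ⁅N, N⁆ = N)
    (hmin : IsMinNC N (scalars ι F) N) :
    (∃ M : Subgroup (GL ι F), IOEC2 Q M ∧ H ≤ M) ∨ InOrthogonalResidualClass H := by
  by_cases h1 : ∃ F₀ : Subfield F, F₀ ≠ ⊤ ∧ RealisableOver F₀ (matrixSet N)
  · left
    obtain ⟨F₀, hF₀, hreal⟩ := h1
    exact h.class5_of_realisable hcard N hNH hHN hspan F₀ hF₀ hreal
  have h4 : ¬ ∃ (σ : F ≃+* F) (f : (ι → F) → (ι → F) → F),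
      IsUnitaryForm σ f ∧ FixesForm (matrixSet N) f := by
    rintro ⟨σ, g, hg, hfix⟩
    apply h1
    have hf := h.symp
    refine ⟨fixSub σ, fixSub_ne_top σ hg.ne_refl, ?_⟩
    exact realisable_of_unitary N hspan (QuadraticMap.polar Q) hf.bilinear hf.nondegenerate
      (h.mono hNH).isom σ g hg hfix
  right
  refine ⟨N, residual_core H N hNH hHN hspan hperf hmin ?_, h4⟩
  intro F₀ hF₀ hreal
  exact h1 ⟨F₀, hF₀, hreal⟩

end OEven

end Cfsg.Agent.Lib.Helper8.Asch
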