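import Cfsg.Agent.Lib.Helper8.OeF1
import Cfsg.Agent.Lib.Helper8.SpK7

set_option autoImplicit false

/-! The orthogonal groups in characteristic two: several conjugate quasisimple factors; class 7. -/

namespace Cfsg.Agent.Lib.Helper8.Asch

open Module Matrix
open scoped commutatorElement
open Cfsg Cfsg.Geo

variable {ι : Type} [Fintype ι] [DecidableEq ι] {F : Type*} [Field F] [Fintype F]
variable {Q : (ι → F) → F} {H : Subgroup (GL ι F)}

namespace OEven

theorem class7_wreath (h : OEven Q H) (hcard : 2 ≤ Fintype.card ι) (hirr : Irr (HV H))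
    {k mm : ℕ} (hk : 2 ≤ k)
    (b : Basis (Fin k → Fin mm) F (ι → F)) (G₀ : GL (Fin mm) F) [Nonempty (Fin mm)]
    (Λ : F) (hΛ : Λ ≠ 0)
    (hG : LinearMap.BilinForm.toMatrix b (toBilin h.symp.bilinear) =
      Λ • ptM (fun _ : Fin k => (G₀ : Matrix (Fin mm) (Fin mm) F)))
    (hHk : ∀ g ∈ H, ∃ (σ : Equiv.Perm (Fin k)) (Us : Fin k → GL (Fin mm) F),
      LinearMap.toMatrix b b (Matrix.toLin' (g : Matrix ι ι F)) =
        facPerm mm F σ * ptM (fun i => ((Us i : GL (Fin mm) F) : Matrix (Fin mm) (Fin mm) F))) :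
    ∃ M : Subgroup (GL ι F), IOEC2 Q M ∧ H ≤ M := by
  have h2F : (2 : F) = 0 := h.h2
  have hf := h.symp
  have ht := gram_transpose h.epsForm b
  rw [hG] at ht
  obtain ⟨c, hc, -, hcc⟩ := const_factor_symm (by omega : 0 < k)
    (G₀ : Matrix (Fin mm) (Fin mm) F) (gl_ne_zero G₀) Λ (-1) hΛ (by simp) ht
  have hc1 : c = 1 := by
    have h1 : (c + 1) * (c + 1) = 0 := by linear_combination hcc + (c + 1) * h2F
    rcases mul_eq_zero.mp h1 with h | h <;> linear_combination h - h2F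
  subst hc1
  rw [one_smul] at hc
  set G := (G₀ : Matrix (Fin mm) (Fin mm) F) with hGd
  have hdiag : ∀ p, G p p = 0 := by
    intro p
    have h1 := congrFun (congrFun hG (fun _ => p)) (fun _ => p)
    rw [LinearMap.BilinForm.toMatrix_apply, toBilin_apply, hf.alternating, Matrix.smul_apply,
      ptM_apply, smul_eq_mul, Finset.prod_const] at h1
    rcases mul_eq_zero.mp h1.symm with h | h
    · exact absurd h hΛ
    · exact pow_eq_zero_iff (by rw [Finset.card_univ, Fintype.card_fin]; omega) |>.mp h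
  have hsk : ∀ p q, G p q + G q p = 0 := by
    intro p q
    have := congrFun (congrFun hc p) q
    rw [Matrix.transpose_apply] at this
    rw [this]
    linear_combination (G p q) * h2F
  set i₀ : Fin k := ⟨0, by omega⟩ with hi₀
  set i₁ : Fin k := ⟨1, by omega⟩ with hi₁
  have hi01 : i₁ ≠ i₀ := by
    intro h
    have := congrArg Fin.val h
    simp [hi₀, hi₁] at this
  set Ts : Fin k → Matrix (Fin mm) (Fin mm) F :=
    Function.update (fun _ => G) i₀ (upperPart G) with hTs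
  set T : Matrix (Fin k → Fin mm) (Fin k → Fin mm) F := Λ • ptM Ts with hT
  have hTT : T + Tᵀ = Λ • ptM (fun _ : Fin k => G) := by
    have h1 : (fun i => (Ts i)ᵀ) = Function.update (fun _ => G) i₀ (upperPart G)ᵀ := by
      funext i
      by_cases hi : i = i₀
      · subst hi
        rw [hTs, Function.update_self, Function.update_self]
      · rw [hTs, Function.update_of_ne hi, Function.update_of_ne hi, hc]
    rw [hT, Matrix.transpose_smul, ptM_transpose, h1, ← smul_add, hTs, ← ptM_update_add,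
      upperPart_add_transpose G hc hdiag]
    congr 2
    exact Function.update_eq_self i₀ (fun _ => G)
  let Q' : (ι → F) → F := fun v => gf (RingHom.id F) T (b.repr v) (b.repr v)
  have hQ' : ∀ v, Q' v = gf (RingHom.id F) T (b.repr v) (b.repr v) := fun v => rfl
  let S : Set (ι → F) := {v | ∃ ws : Fin k → Fin mm → F, ⇑(b.repr v) = ptV ws}
  have hTpt : ∀ ws : Fin k → Fin mm → F, gf (RingHom.id F) T (ptV ws) (ptV ws) = 0 := by
    intro ws
    unfold gf
    have hid : ⇑(RingHom.id F) ∘ ptV ws = ptV ws := rfl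
    rw [hid, hT, Matrix.smul_mulVec, ptM_mulVec_ptV, dotProduct_smul, ptV_dotProduct, smul_eq_mul]
    have h0 : ws i₁ ⬝ᵥ (Ts i₁ *ᵥ ws i₁) = 0 := by
      rw [hTs, Function.update_of_ne hi01]
      exact gf_alt G hsk hdiag (ws i₁)
    rw [Finset.prod_eq_zero (Finset.mem_univ i₁) h0, mul_zero]
  have key := h.quad_of_span hcard hirr Q' (by
      intro c v
      rw [hQ', hQ', map_smul, Finsupp.coe_smul, gf_smul_left, gf_smul_right, RingHom.id_apply]
      ring) (by
      intro u v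
      unfold QuadraticMap.polar
      rw [hQ', hQ', hQ', map_add, Finsupp.coe_add]
      have := polar_gf T (b.repr u) (b.repr v)
      unfold QuadraticMap.polar at this
      rw [this, hTT, ← hG, ← gf_repr]
      rfl) S (by
      rw [eq_top_iff, ← b.span_eq]
      apply Submodule.span_mono
      rintro _ ⟨f, rfl⟩
      refine ⟨fun i => Pi.single (f i) 1, ?_⟩
      rw [Basis.repr_self, ptV_single, Finsupp.single_eq_pi_single]) (by
      rintro g hg v ⟨ws, hws⟩
      obtain ⟨σ, Us, hσU⟩ := hHk g hg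
      refine ⟨fun i => ((Us (σ.symm i) : GL (Fin mm) F) : Matrix (Fin mm) (Fin mm) F) *ᵥ
        ws (σ.symm i), ?_⟩
      rw [← Matrix.toLin'_apply, ← LinearMap.toMatrix_mulVec_repr b b, hσU, hws,
        ← Matrix.mulVec_mulVec, ptM_mulVec_ptV, facPerm_mulVec_ptV]) (by
      rintro v ⟨ws, hws⟩
      rw [hQ', hws]
      exact hTpt ws)
  have hc' : Fintype.card ι = Fintype.card (Fin k → Fin mm) := by
    have h1 := Module.finrank_eq_card_basis b
    rw [Module.finrank_fintype_fun_eq_card] at h1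
    exact h1
  let e' : ι ≃ (Fin k → Fin mm) := Fintype.equivOfCardEq hc'
  refine ⟨tensorWreathSubgroup mm k e' (basisGL b e') ⊓ isometryGroup F Q,
    Or.inr ⟨mm, k, e', basisGL b e', gf (RingHom.id F) G, hk,
      isSymplecticForm_gf_two G₀ h2F hc hdiag,
      tensorPowerFormStructure_of_gram h.symp.bilinear b e' _ Λ hΛ hG, ?_, rfl⟩, le_inf ?_ h.le⟩
  · intro ws
    rw [basisGL_mulVec, ← key, hQ', Basis.repr_sum_self]
    exact hTpt ws
  · intro g hg
    obtain ⟨σ, Us, hσU⟩ := hHk g hg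
    refine mem_conj_basisGL (tensorWreathStandard mm k F) b e' g ⟨facGL mm F σ * ptGL Us, ?_, hσU⟩
    exact Subgroup.mul_mem _ (Subgroup.subset_closure (Or.inr ⟨σ, fun x y => rfl⟩))
      (Subgroup.subset_closure (Or.inl ⟨Us, fun x y => rfl⟩))

theorem caseB_wreath (h : OEven Q H) (hcard : 2 ≤ Fintype.card ι) (hirr : Irr (HV H))
    (N : Subgroup (GL ι F)) (hNH : N ≤ H)
    (hspan : Submodule.span F (mset N) = ⊤)
    (k : ℕ) (P : Fin k → Subgroup (GL ι F)) (hk : 2 ≤ k)
    (hPinj : Function.Injective P) (hPN : ∀ i, P i ≤ N)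
    (hcomm : ∀ i j, i ≠ j → ∀ x ∈ P i, ∀ y ∈ P j, x * y = y * x)
    (hgen : Subgroup.closure (⋃ i, (P i : Set (GL ι F))) = N)
    (hperm : ∀ g ∈ H, ∃ σ : Equiv.Perm (Fin k), ∀ i, cj g (P i) = P (σ i))
    (htrans : ∀ i j, ∃ g ∈ H, cj g (P i) = P j) :
    ∃ M : Subgroup (GL ι F), IOEC2 Q M ∧ H ≤ M := by
  haveI : Nonempty ι := by
    rw [← Fintype.card_pos_iff]
    omega
  have hf := h.symp
  obtain ⟨mm, b, Gs, hmm, hG, hwr, hpos⟩ := wreath_data hf.bilinear hf.nondegenerate H N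
    h.isom hNH hspan k P hk hPN hcomm hgen htrans
  haveI : Nonempty (Fin mm) := ⟨⟨0, hmm⟩⟩
  set i₀ : Fin k := ⟨0, by omega⟩ with hi₀
  have htr : ∀ i, ∃ x : Module.End F (ι → F),
      (∀ u v, toBilin hf.bilinear (x u) (x v) = toBilin hf.bilinear u v) ∧
      ∃ σ : Equiv.Perm (Fin k), σ i₀ = i ∧ IsWr b x σ := by
    intro i
    obtain ⟨g, hg, hgi⟩ := htrans i₀ i
    obtain ⟨σ, hσ⟩ := hperm g hg
    refine ⟨Matrix.toLin' (g : Matrix ι ι F), ?_, σ, ?_, hwr g hg σ hσ⟩
    · intro u v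
      rw [Matrix.toLin'_apply, Matrix.toLin'_apply, toBilin_apply, toBilin_apply]
      exact h.isom g hg u v
    · apply hPinj
      rw [← hσ i₀, hgi]
  obtain ⟨b', Λ, hΛ, hG', hwr'⟩ := wreath_normalize (toBilin hf.bilinear) b i₀ Gs hG htr
  have hHk : ∀ g ∈ H, ∃ (σ : Equiv.Perm (Fin k)) (Us : Fin k → GL (Fin mm) F),
      LinearMap.toMatrix b' b' (Matrix.toLin' (g : Matrix ι ι F)) =
        facPerm mm F σ * ptM (fun i => ((Us i : GL (Fin mm) F) : Matrix (Fin mm) (Fin mm) F)) := by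
    intro g hg
    obtain ⟨σ, hσ⟩ := hperm g hg
    obtain ⟨Us, hUs⟩ := hwr' _ σ (hwr g hg σ hσ)
    exact ⟨σ, Us, hUs⟩
  exact h.class7_wreath hcard hirr hk b' (Gs i₀) Λ hΛ hG' hHk

end OEven

end Cfsg.Agent.Lib.Helper8.Asch
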