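import Cfsg.Agent.Lib.Helper8.OeG1
import Cfsg.Agent.Lib.Helper8.SpZ1

set_option autoImplicit false

/-! Assembly of the subgroup structure theorem for the isometry group of a non-degenerate quadratic
form in characteristic two. -/

namespace Cfsg.Agent.Lib.Helper8.Asch

open Module Matrix
open scoped commutatorElement Kronecker
open Cfsg Cfsg.Geo

variable {ι : Type} [Fintype ι] [DecidableEq ι] {F : Type*} [Field F] [Fintype F]

theorem oe_main_even (Q : (ι → F) → F) (hQ : IsNondegenerateQuadraticForm Q) (h2 : (2 : F) = 0)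
    (hcard : 3 ≤ Fintype.card ι) (H : Subgroup (GL ι F)) (hH : H ≤ isometryGroup F Q) :
    (∃ M : Subgroup (GL ι F), IOEC2 Q M ∧ H ≤ M) ∨ InOrthogonalResidualClass H := by
  have h : OEven Q H := ⟨hQ, h2, hH⟩
  have hf := h.symp
  set hB := h.epsForm with hBdef
  set B := toBilin hf.bilinear with hBd
  haveI : Nonempty ι := by
    rw [← Fintype.card_pos_iff]
    omega
  haveI : Nontrivial (ι → F) := inferInstance
  by_cases hirr : Irr (HV H)
  swap
  · left
    unfold Irr at hirr
    push Not at hirr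
    obtain ⟨W, hW, hbot, htop⟩ := hirr
    exact h.reducible W hbot htop (by
      intro g hg w hw
      have := hW (toV g) (mem_HV hg) w hw
      rwa [toV_apply] at this)
  have hHZ : ¬ H ≤ Zs ι F := not_le_scalars_of_irr' (by omega) H hirr
  obtain ⟨N, hN⟩ := exists_minNC H (Zs ι F) hHZ
  set A := algOf (HV N) with hAdef
  have hA : ∀ u ∈ HV H, Nrm A u := Nrm_algOf_HV hN.inv
  have hadj : AdjClosed B A := adjClosed_algOf (isomV_HV hf.bilinear (h.mono hN.le).isom)
  rcases clifford_form hB (HV H) hirr A hA hadj with hiso |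
    ⟨t, k, D, σ, ht, hk, hfr, hind, hsup, hperm, htrans, horth, hdisj, hinvol⟩
  swap
  · left
    exact h.decomp hcard hirr D σ ht ⟨hk, hfr, hind, hsup, horth, hdisj, hinvol⟩ hperm htrans
  haveI ss : IsSemisimpleModule A (ι → F) := clifford_semisimple (HV H) hirr A hA
  by_cases hZ : ∀ z ∈ ZC A, ∃ c : F, z = c • (1 : Module.End F (ι → F))
  swap
  · left
    push Not at hZ
    obtain ⟨z, hz, hzc⟩ := hZ
    obtain ⟨r, K, hr, hK, hfrK, hnorm, hadjK⟩ :=
      class3_of_ZC_ne_adj hB (HV H) A hA hadj hiso ⟨z, hz, hzc⟩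
    exact h.field (by omega) hirr r K hr hK hfrK hnorm hadjK
  obtain ⟨a, e, b, hb1, hb2⟩ := tensor_basis A hiso hZ
  have hne : Nonempty (Fin a × Fin e) := b.index_nonempty
  haveI hna : Nonempty (Fin a) := ⟨hne.some.1⟩
  haveI hnb : Nonempty (Fin e) := ⟨hne.some.2⟩
  have hHk : ∀ u ∈ HV H, ∃ (U : GL (Fin a) F) (Γ : GL (Fin e) F),
      LinearMap.toMatrix b b (u : Module.End F (ι → F)) =
        (U : Matrix (Fin a) (Fin a) F) ⊗ₖ (Γ : Matrix (Fin e) (Fin e) F) := by
    intro u hu
    have key := kron_of_normalizes (glMat b u) (by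
      intro X
      obtain ⟨x, hx, hxX⟩ := hb2 X
      obtain ⟨X', hX'⟩ := hb1 _ (hA u hu x hx)
      refine ⟨X', ?_⟩
      rw [← hX', ← hxX, ← map_inv, glMat_val, glMat_val, LinearMap.toMatrix_mul,
        LinearMap.toMatrix_mul])
    obtain ⟨U, Γ, hUΓ⟩ := key
    exact ⟨U, Γ, hUΓ⟩
  have hNZ : ¬ N ≤ scalars ι F := by
    rw [← Zs_eq_scalars]
    exact hN.not_le
  have hae : Fintype.card ι = a * e := by
    have h1 := Module.finrank_eq_card_basis b
    rw [Module.finrank_fintype_fun_eq_card, Fintype.card_prod, Fintype.card_fin,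
      Fintype.card_fin] at h1
    exact h1
  have ha0 : a ≠ 0 := by rintro rfl; omega
  have he0 : e ≠ 0 := by rintro rfl; omega
  by_cases ha1 : a = 1
  · exfalso
    apply hNZ
    subst ha1
    intro g hg
    obtain ⟨X, hX⟩ := hb1 _ (mem_algOf (mem_HV hg))
    rw [toV_val] at hX
    have h1 : X ⊗ₖ (1 : Matrix (Fin e) (Fin e) F) = (X 0 0) • (1 : Matrix (Fin 1 × Fin e) _ F) := by
      ext ⟨i, j⟩ ⟨i', j'⟩
      rw [Matrix.kroneckerMap_apply, Matrix.smul_apply, Matrix.one_apply, Matrix.one_apply,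
        Subsingleton.elim i 0, Subsingleton.elim i' 0]
      simp only [Prod.mk.injEq, true_and, smul_eq_mul]
    have h2 : Matrix.toLin' (g : Matrix ι ι F) =
        (X 0 0) • (1 : Module.End F (ι → F)) := by
      apply (LinearMap.toMatrix b b).injective
      rw [hX, h1, map_smul]
      congr 1
      exact (LinearMap.toMatrix_one b).symm
    have h3 : (g : Matrix ι ι F) = (X 0 0) • (1 : Matrix ι ι F) := by
      apply Matrix.toLin'.injective
      rw [h2, map_smul, Matrix.toLin'_one]
      rfl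
    exact mem_scalars_of_eq_smul h3
  by_cases he1 : e = 1
  swap
  · left
    exact h.tensor (by omega) hirr A hadj a e (by omega) (by omega) b hb1 hb2 hHk
  have hspan : Submodule.span F (mset N) = ⊤ := by
    subst he1
    rw [eq_top_iff]
    intro M _
    rw [← mem_algOf_HV_iff]
    set Y := LinearMap.toMatrix b b (Matrix.toLin' M) with hY
    obtain ⟨x, hx, hxX⟩ := hb2 (Matrix.of fun i i' => Y (i, 0) (i', 0))
    have : x = Matrix.toLin' M := by
      apply (LinearMap.toMatrix b b).injective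
      rw [hxX, ← hY]
      ext ⟨i, j⟩ ⟨i', j'⟩
      rw [Subsingleton.elim j 0, Subsingleton.elim j' 0]
      simp only [Matrix.kroneckerMap_apply, Matrix.of_apply, Matrix.one_apply_eq, mul_one]
    rw [← this]
    exact hx
  rcases comm_dichotomy hN with hc | hperf
  · exfalso
    exact h.caseA_false ⟨hN, hc, hspan⟩
  rcases caseB_structure_min Zs_le_center hN hperf with hmin |
    ⟨k, P, hk, hPinj, hPN, hPZ, hcomm, hgen, hperm, htrans, hPmin⟩
  · rw [Zs_eq_scalars] at hmin
    exact h.caseB_one (by omega) N hN.le hN.inv hspan hperf hmin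
  · left
    exact h.caseB_wreath (by omega) hirr N hN.le hspan k P hk hPinj hPN hcomm hgen hperm htrans

/-- the version for dimensions that are not proper powers, in the classes of helper5 -/
theorem oe_main_even' (Q : (ι → F) → F) (hQ : IsNondegenerateQuadraticForm Q) (h2 : (2 : F) = 0)
    (hcard : 3 ≤ Fintype.card ι) (hn : ∀ k t : ℕ, 2 ≤ t → Fintype.card ι ≠ k ^ t)
    (H : Subgroup (GL ι F)) (hH : H ≤ isometryGroup F Q) :
    (∃ M : Subgroup (GL ι F), Cfsg.Agent.Lib.Helper5.AschE.InOEClass Q M ∧ H ≤ M) ∨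
      InOrthogonalResidualClass H := by
  rcases oe_main_even Q hQ h2 hcard H hH with ⟨M, hM, hle⟩ | hres
  · exact Or.inl ⟨M, hM.of_not_pow hn, hle⟩
  · exact Or.inr hres

end Cfsg.Agent.Lib.Helper8.Asch
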