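import Mathlib
import Cfsg.Prelude
import Cfsg.Agent.Lib.Helper5.QuadWitt
import Cfsg.Agent.Lib.Helper5.QuadIsom

set_option autoImplicit false
set_option linter.unusedSectionVars false
set_option linter.unusedVariables false
open Cfsg

/-! Two non-degenerate quadratic spaces of the same odd dimension over a finite field are similar. -/

namespace Cfsg.Agent.Lib.Helper8.Oev

open Module QuadraticMap Cfsg.Agent.Lib.Helper5

universe u

/-- two non-degenerate quadratic spaces of the same odd dimension over a finite field are similar -/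
theorem similar_odd {F : Type*} [Field F] [Fintype F] (k : ℕ) :
    ∀ {V V' : Type u} [AddCommGroup V] [Module F V] [FiniteDimensional F V]
      [AddCommGroup V'] [Module F V'] [FiniteDimensional F V']
      (Q : QuadraticForm F V) (Q' : QuadraticForm F V')
      (_ : ∀ z : V, (∀ z', polar Q z z' = 0) → z = 0)
      (_ : ∀ z : V', (∀ z', polar Q' z z' = 0) → z = 0)
      (_ : finrank F V = 2 * k + 1) (_ : finrank F V' = 2 * k + 1),
    ∃ (ε : F) (ψ : V →ₗ[F] V'), ε ≠ 0 ∧ ∀ x, Q' (ψ x) = ε * Q x := by
  induction k with
  | zero =>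
    intro V V' _ _ _ _ _ _ Q Q' hQ hQ' hd hd'
    have h1 : finrank F V = 1 := by omega
    have h1' : finrank F V' = 1 := by omega
    let b : Basis (Fin 1) F V := Module.finBasisOfFinrankEq F V h1
    let b' : Basis (Fin 1) F V' := Module.finBasisOfFinrankEq F V' h1'
    have hx : ∀ x : V, x = b.repr x 0 • b 0 := by
      intro x
      conv_lhs => rw [← b.sum_repr x]
      rw [Fin.sum_univ_one]
    have hQb : Q (b 0) ≠ 0 := by
      intro h0
      apply b.ne_zero 0
      apply hQ
      intro z'
      rw [hx z', polar_smul_right, polar_self, h0]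
      simp
    refine ⟨Q' (b' 0) / Q (b 0), b.constr F (fun _ => b' 0), ?_, fun x => ?_⟩
    · apply div_ne_zero _ hQb
      intro h0
      apply b'.ne_zero 0
      apply hQ'
      intro z'
      have hx' : z' = b'.repr z' 0 • b' 0 := by
        conv_lhs => rw [← b'.sum_repr z']
        rw [Fin.sum_univ_one]
      rw [hx', polar_smul_right, polar_self, h0]
      simp
    · conv_lhs => rw [hx x]
      conv_rhs => rw [hx x]
      rw [map_smul, Basis.constr_basis, QuadraticMap.map_smul, QuadraticMap.map_smul]
      simp only [smul_eq_mul]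
      field_simp
  | succ k ih =>
    intro V V' _ _ _ _ _ _ Q Q' hQ hQ' hd hd'
    obtain ⟨v, hv0, hQv⟩ := exists_singular Q (by omega)
    obtain ⟨w, hQw, hvw⟩ := exists_partner Q hQ v hv0 hQv
    obtain ⟨v', hv0', hQv'⟩ := exists_singular Q' (by omega)
    obtain ⟨w', hQw', hvw'⟩ := exists_partner Q' hQ' v' hv0' hQv'
    set W := pairPerp Q v w with hW
    set W' := pairPerp Q' v' w' with hW'
    have hdW : finrank F W = 2 * k + 1 := by
      have := finrank_pairPerp Q v w hQv hQw hvw
      rw [← hW] at this
      omega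
    have hdW' : finrank F W' = 2 * k + 1 := by
      have := finrank_pairPerp Q' v' w' hQv' hQw' hvw'
      rw [← hW'] at this
      omega
    have hndW := nondeg_pairPerp Q hQ v w hQv hQw hvw
    have hndW' := nondeg_pairPerp Q' hQ' v' w' hQv' hQw' hvw'
    have hQW : ∀ z : W, (∀ z' : W, polar (Q.comp W.subtype) z z' = 0) → z = 0 := by
      intro z hz
      apply Subtype.ext
      apply hndW z.1 z.2
      intro z' hz'
      exact hz ⟨z', hz'⟩
    have hQW' : ∀ z : W', (∀ z' : W', polar (Q'.comp W'.subtype) z z' = 0) → z = 0 := by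
      intro z hz
      apply Subtype.ext
      apply hndW' z.1 z.2
      intro z' hz'
      exact hz ⟨z', hz'⟩
    obtain ⟨ε, ψ₂, hε, hψ₂⟩ := ih (Q.comp W.subtype) (Q'.comp W'.subtype) hQW hQW' hdW hdW'
    have hwv : polar Q w v = 1 := by rw [polar_comm, hvw]
    have hvv : polar Q v v = 0 := by rw [polar_self, hQv, smul_zero]
    have hww : polar Q w w = 0 := by rw [polar_self, hQw, smul_zero]
    let pr₀ : V →ₗ[F] V := LinearMap.id - (polarBilin Q w).smulRight v - (polarBilin Q v).smulRight w
    have hpr₀ : ∀ x, pr₀ x = x - polar Q w x • v - polar Q v x • w := fun x => rfl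
    have hprW : ∀ x, pr₀ x ∈ W := by
      intro x
      rw [hW, mem_pairPerp, hpr₀]
      constructor
      · simp only [polar_sub_right, polar_smul_right, hvv, hvw, smul_eq_mul]; ring
      · simp only [polar_sub_right, polar_smul_right, hww, hwv, smul_eq_mul]; ring
    let pr : V →ₗ[F] W := LinearMap.codRestrict W pr₀ hprW
    have hpr : ∀ x, ((pr x : W) : V) = x - polar Q w x • v - polar Q v x • w := fun x => rfl
    refine ⟨ε, (polarBilin Q w).smulRight v' + ε • (polarBilin Q v).smulRight w' +
      W'.subtype ∘ₗ ψ₂ ∘ₗ pr, hε, fun x => ?_⟩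
    have hval : ((polarBilin Q w).smulRight v' + ε • (polarBilin Q v).smulRight w' +
        W'.subtype ∘ₗ ψ₂ ∘ₗ pr) x =
        (polar Q w x • v' + (ε * polar Q v x) • w') + ((ψ₂ (pr x) : W') : V') := by
      simp only [LinearMap.add_apply, LinearMap.smul_apply, LinearMap.smulRight_apply,
        polarBilin_apply_apply, LinearMap.coe_comp, Function.comp_apply, Submodule.coe_subtype,
        smul_smul]
    rw [hval]
    have hmem := (mem_pairPerp Q' v' w' _).mp (ψ₂ (pr x)).2
    have hmem' := (mem_pairPerp Q v w _).mp (pr x).2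
    have h2 : Q' ((ψ₂ (pr x) : W') : V') = ε * Q ((pr x : W) : V) := hψ₂ (pr x)
    have hx : x = (polar Q w x • v + polar Q v x • w) + ((pr x : W) : V) := by
      rw [hpr]; abel
    have e1 : Q' (polar Q w x • v' + (ε * polar Q v x) • w') = ε * (polar Q w x * polar Q v x) := by
      rw [quad_add, QuadraticMap.map_smul, QuadraticMap.map_smul,
        hQv', hQw', polar_smul_left, polar_smul_right, hvw']
      simp only [smul_eq_mul]; ring
    have e2 : Q (polar Q w x • v + polar Q v x • w) = polar Q w x * polar Q v x := by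
      rw [quad_add, QuadraticMap.map_smul, QuadraticMap.map_smul,
        hQv, hQw, polar_smul_left, polar_smul_right, hvw]
      simp only [smul_eq_mul]; ring
    have e3 : polar Q' (polar Q w x • v' + (ε * polar Q v x) • w') ((ψ₂ (pr x) : W') : V') = 0 := by
      rw [polar_add_left, polar_smul_left, polar_smul_left, hmem.1, hmem.2]
      simp
    have e4 : polar Q (polar Q w x • v + polar Q v x • w) ((pr x : W) : V) = 0 := by
      rw [polar_add_left, polar_smul_left, polar_smul_left, hmem'.1, hmem'.2]
      simp
    rw [quad_add, e1, e3, h2]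
    conv_rhs => rw [hx, quad_add, e2, e4]
    ring

end Cfsg.Agent.Lib.Helper8.Oev
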