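import Mathlib
import Cfsg.Prelude
import Cfsg.Agent.Lib.Helper8.OevP1
import Cfsg.Agent.Lib.Helper5.DiscType
import Cfsg.Agent.Lib.Helper2.OevD
import Cfsg.Agent.Lib.Helper2.OevG

set_option autoImplicit false
set_option linter.unusedSectionVars false
set_option linter.unusedVariables false
open Cfsg

/-! Type of an orthogonal sum of two similar odd-dimensional spaces (odd characteristic). -/

namespace Cfsg.Agent.Lib.Helper8.Oev

open Module QuadraticMap Cfsg.Agent.Lib.Helper5 Cfsg.Agent.Lib.Helper2.Oev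

variable {ι : Type} [Fintype ι] [DecidableEq ι] {F : Type*} [Field F]
variable {Q : QuadraticForm F (ι → F)}

theorem polar_of_similar {W W' : Submodule F (ι → F)} (ε : F) (ψ : W →ₗ[F] W')
    (hψ : ∀ w : W, Q ((ψ w : W') : ι → F) = ε * Q (w : ι → F)) (a b : W) :
    polar ⇑Q ((ψ a : W') : ι → F) ((ψ b : W') : ι → F) = ε * polar ⇑Q (a : ι → F) (b : ι → F) := by
  have h1 := hψ (a + b)
  rw [map_add] at h1
  simp only [Submodule.coe_add] at h1
  unfold polar
  rw [h1, hψ a, hψ b]
  ring

theorem similar_injective {W W' : Submodule F (ι → F)} (hW : ND Q W) (ε : F) (hε : ε ≠ 0)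
    (ψ : W →ₗ[F] W') (hψ : ∀ w : W, Q ((ψ w : W') : ι → F) = ε * Q (w : ι → F)) :
    Function.Injective ψ := by
  rw [← LinearMap.ker_eq_bot, LinearMap.ker_eq_bot']
  intro w hw
  have : (w : ι → F) = 0 := by
    apply hW _ w.2
    intro w' hw'
    have h := polar_of_similar ε ψ hψ w ⟨w', hw'⟩
    rw [hw] at h
    simp only [ZeroMemClass.coe_zero] at h
    have h0 : polar ⇑Q (0 : ι → F) ((ψ ⟨w', hw'⟩ : W') : ι → F) = 0 := by
      simp [polar]
    rw [h0] at h
    rcases mul_eq_zero.mp h.symm with h | h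
    · exact absurd h hε
    · exact h
  exact Subtype.ext this

theorem isSquare_mul_sq {a s : F} (hs : s ≠ 0) : IsSquare (a * (s * s)) ↔ IsSquare a := by
  constructor
  · rintro ⟨r, hr⟩
    refine ⟨r / s, ?_⟩
    have : a = (r * r) / (s * s) := by
      rw [← hr]; field_simp
    rw [this]; field_simp
  · rintro ⟨r, hr⟩
    exact ⟨r * s, by rw [hr]; ring⟩

theorem plus_iff_pair [Fintype F] (hq : Odd (Fintype.card F))
    (hnd : (polarBilin Q).Nondegenerate)
    {W W' : Submodule F (ι → F)} (hW : ND Q W) (horth : Orth Q W W') (hsup : W ⊔ W' = ⊤)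
    {k : ℕ} (hd : finrank F W = 2 * k + 1) (hd' : finrank F W' = 2 * k + 1)
    (ε : F) (hε : ε ≠ 0) (ψ : W →ₗ[F] W')
    (hψ : ∀ w : W, Q ((ψ w : W') : ι → F) = ε * Q (w : ι → F)) :
    Cfsg.Geo.IsPlusTypeOn ⇑Q ⊤ ↔
      (IsSquare ε ↔ Even ((2 * k + 1) * (Fintype.card F - 1) / 2)) := by
  classical
  have h2 : (2 : F) ≠ 0 := two_ne_zero_of_odd' hq
  have hinj := similar_injective hW ε hε ψ hψ
  have hdis : Disjoint W W' := disjoint_of_orth hW horth
  have hcompl : IsCompl W W' := ⟨hdis, codisjoint_iff.mpr hsup⟩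
  let ψe : W ≃ₗ[F] W' := LinearMap.linearEquivOfInjective ψ hinj (by rw [hd, hd'])
  have hψe : ∀ w, ψe w = ψ w := fun w => rfl
  let c : Basis (Fin (2 * k + 1)) F W := Module.finBasisOfFinrankEq F W hd
  let c' : Basis (Fin (2 * k + 1)) F W' := c.map ψe
  let b : Basis (Fin (2 * k + 1) ⊕ Fin (2 * k + 1)) F (ι → F) :=
    (c.prod c').map (Submodule.prodEquivOfIsCompl W W' hcompl)
  have hbl : ∀ i, b (Sum.inl i) = (c i : ι → F) := by
    intro i
    simp [b, Submodule.coe_prodEquivOfIsCompl']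
  have hbr : ∀ i, b (Sum.inr i) = ((ψ (c i) : W') : ι → F) := by
    intro i
    simp [b, c', Submodule.coe_prodEquivOfIsCompl', hψe]
  set G : Matrix (Fin (2 * k + 1)) (Fin (2 * k + 1)) F :=
    Matrix.of fun i j => polar ⇑Q (c i : ι → F) (c j : ι → F) with hG
  have hM : LinearMap.BilinForm.toMatrix b (polarBilin Q) = Matrix.fromBlocks G 0 0 (ε • G) := by
    ext (i | i) (j | j)
    · simp [LinearMap.BilinForm.toMatrix_apply, hbl, hG]
    · simp only [LinearMap.BilinForm.toMatrix_apply, hbl, hbr, polarBilin_apply_apply,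
        Matrix.fromBlocks_apply₁₂, Matrix.zero_apply]
      exact horth _ (c i).2 _ (ψ (c j)).2
    · simp only [LinearMap.BilinForm.toMatrix_apply, hbl, hbr, polarBilin_apply_apply,
        Matrix.fromBlocks_apply₂₁, Matrix.zero_apply]
      rw [polar_comm]
      exact horth _ (c j).2 _ (ψ (c i)).2
    · simp only [LinearMap.BilinForm.toMatrix_apply, hbr, polarBilin_apply_apply,
        Matrix.fromBlocks_apply₂₂, Matrix.smul_apply, smul_eq_mul, hG, Matrix.of_apply]
      exact polar_of_similar ε ψ hψ (c i) (c j)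
  have hdet : (LinearMap.BilinForm.toMatrix b (polarBilin Q)).det =
      ε * ((ε ^ k * G.det) * (ε ^ k * G.det)) := by
    rw [hM, Matrix.det_fromBlocks_zero₂₁, Matrix.det_smul, Fintype.card_fin]
    ring
  have hdet0 : (LinearMap.BilinForm.toMatrix b (polarBilin Q)).det ≠ 0 :=
    (LinearMap.BilinForm.nondegenerate_iff_det_ne_zero b).mp hnd
  have hs0 : ε ^ k * G.det ≠ 0 := by
    intro h0
    apply hdet0
    rw [hdet, h0]; ring
  have hsq : IsSquare (LinearMap.BilinForm.toMatrix b (polarBilin Q)).det ↔ IsSquare ε := by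
    rw [hdet]
    exact isSquare_mul_sq hs0
  have hV : finrank F (ι → F) = 2 * (2 * k + 1) := by
    have := Submodule.finrank_add_eq_of_isCompl hcompl
    omega
  have hsymm : LinearMap.BilinForm.IsSymm (polarBilin Q) := by
    constructor
    intro x y
    simp [polar_comm]
  rw [← hsq]
  constructor
  · rintro ⟨U, -, hts, hUd⟩
    have hUd' : finrank F U = 2 * k + 1 := by
      rw [finrank_top] at hUd
      omega
    apply DiscType.isSquare_det_iff_of_isotropic hq (polarBilin Q) hnd hsymm (2 * k + 1) hV b U hUd'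
    intro x hx y hy
    have hxy : Q (x + y) = 0 := hts _ (U.add_mem hx hy)
    simp only [polarBilin_apply_apply, polar]
    rw [hxy, hts x hx, hts y hy]; ring
  · intro h
    obtain ⟨X, hXd, hX⟩ := DiscType.exists_isotropic_of_isSquare_det_iff hq (polarBilin Q) hnd hsymm
      (2 * k + 1) (by omega) hV b h
    refine ⟨X, le_top, ?_, ?_⟩
    · intro x hx
      have h1 := hX x hx x hx
      simp only [polarBilin_apply_apply, polar_self, nsmul_eq_mul, Nat.cast_ofNat] at h1
      rcases mul_eq_zero.mp h1 with h1 | h1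
      · exact absurd h1 h2
      · exact h1
    · rw [finrank_top, hXd, hV]

end Cfsg.Agent.Lib.Helper8.Oev
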