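import Mathlib
import Cfsg.Prelude
import Cfsg.Agent.Lib.Helper8.OevP2

set_option autoImplicit false
set_option linter.unusedSectionVars false
set_option linter.unusedVariables false
open Cfsg

/-! Two orthogonal odd-dimensional halves: isometric / non-isometric versus the type. -/

namespace Cfsg.Agent.Lib.Helper8.Oev

open Module QuadraticMap Cfsg.Agent.Lib.Helper5 Cfsg.Agent.Lib.Helper2.Oev

variable {ι : Type} [Fintype ι] [DecidableEq ι] {F : Type*} [Field F]
variable {Q : QuadraticForm F (ι → F)}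

theorem even_half_iff (q k : ℕ) (hq : Odd q) :
    Even ((2 * k + 1) * (q - 1) / 2) ↔ q % 4 = 1 := by
  obtain ⟨s, rfl⟩ := hq
  have h1 : (2 * k + 1) * (2 * s + 1 - 1) / 2 = (2 * k + 1) * s := by
    have : (2 * k + 1) * (2 * s + 1 - 1) = 2 * ((2 * k + 1) * s) := by
      simp only [Nat.add_sub_cancel]; ring
    rw [this, Nat.mul_div_cancel_left _ (by norm_num : 0 < 2)]
  rw [h1, Nat.even_mul]
  constructor
  · rintro (h | h)
    · exfalso
      rw [Nat.even_add_one] at h
      exact h (even_two_mul k)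
    · obtain ⟨r, rfl⟩ := h
      omega
  · intro h
    right
    rw [Nat.even_iff]
    omega

theorem mod_four_of_odd (q : ℕ) (hq : Odd q) : q % 4 = 1 ∨ q % 4 = 3 := by
  obtain ⟨s, rfl⟩ := hq
  omega

theorem plus_iff_of_isometric [Fintype F] (hq : Odd (Fintype.card F))
    (hnd : (polarBilin Q).Nondegenerate)
    {W W' : Submodule F (ι → F)} (hW : ND Q W) (horth : Orth Q W W') (hsup : W ⊔ W' = ⊤)
    {k : ℕ} (hd : finrank F W = 2 * k + 1) (hd' : finrank F W' = 2 * k + 1)
    (hiso : Cfsg.Geo.AreIsometricFor ⇑Q W W') :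
    Cfsg.Geo.IsPlusTypeOn ⇑Q ⊤ ↔ Fintype.card F % 4 = 1 := by
  obtain ⟨e, he⟩ := hiso
  rw [plus_iff_pair hq hnd hW horth hsup hd hd' 1 one_ne_zero e.toLinearMap
    (fun w => by rw [one_mul]; exact he w), even_half_iff _ _ hq]
  constructor
  · intro h
    exact h.mp ⟨1, by ring⟩
  · intro h
    exact ⟨fun _ => h, fun _ => ⟨1, by ring⟩⟩

theorem plus_iff_of_not_isometric [Fintype F] (hq : Odd (Fintype.card F))
    (hnd : (polarBilin Q).Nondegenerate)
    {W W' : Submodule F (ι → F)} (hW : ND Q W) (hW' : ND Q W') (horth : Orth Q W W')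
    (hsup : W ⊔ W' = ⊤)
    {k : ℕ} (hd : finrank F W = 2 * k + 1) (hd' : finrank F W' = 2 * k + 1)
    (hniso : ¬ Cfsg.Geo.AreIsometricFor ⇑Q W W') :
    Cfsg.Geo.IsPlusTypeOn ⇑Q ⊤ ↔ Fintype.card F % 4 = 3 := by
  have hk1 : ∀ z : W, (∀ z', polar (Q.comp W.subtype) z z' = 0) → z = 0 := by
    intro z hz
    apply Subtype.ext
    apply hW _ z.2
    intro w' hw'
    have := hz ⟨w', hw'⟩
    simpa [polar] using this
  have hk2 : ∀ z : W', (∀ z', polar (Q.comp W'.subtype) z z' = 0) → z = 0 := by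
    intro z hz
    apply Subtype.ext
    apply hW' _ z.2
    intro w' hw'
    have := hz ⟨w', hw'⟩
    simpa [polar] using this
  obtain ⟨ε, ψ, hε, hψ⟩ := similar_odd k (Q.comp W.subtype) (Q.comp W'.subtype) hk1 hk2 hd hd'
  have hψ' : ∀ w : W, Q ((ψ w : W') : ι → F) = ε * Q (w : ι → F) := by
    intro w
    have := hψ w
    simpa using this
  have hns : ¬ IsSquare ε := by
    rintro ⟨s, hs⟩
    have hs0 : s ≠ 0 := by
      rintro rfl
      apply hε
      rw [hs]; ring
    apply hniso
    have h1 : ∀ w : W, Q (((s⁻¹ • ψ) w : W') : ι → F) = 1 * Q (w : ι → F) := by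
      intro w
      simp only [LinearMap.smul_apply, Submodule.coe_smul, QuadraticMap.map_smul, smul_eq_mul]
      rw [hψ' w, hs]
      field_simp
    have hinj := similar_injective hW 1 one_ne_zero (s⁻¹ • ψ) h1
    refine ⟨LinearMap.linearEquivOfInjective (s⁻¹ • ψ) hinj (by rw [hd, hd']), fun w => ?_⟩
    have := h1 w
    rw [one_mul] at this
    exact this
  rw [plus_iff_pair hq hnd hW horth hsup hd hd' ε hε ψ hψ', even_half_iff _ _ hq]
  rcases mod_four_of_odd _ hq with h | h
  · rw [h]
    constructor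
    · intro hh
      exact absurd (hh.mpr rfl) hns
    · intro hh
      omega
  · rw [h]
    constructor
    · intro _; rfl
    · intro _
      constructor
      · intro hh; exact absurd hh hns
      · intro hh; omega

end Cfsg.Agent.Lib.Helper8.Oev
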