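import Mathlib
import Cfsg.Prelude
import Cfsg.Agent.Lib.Helper8.OevP3
import Cfsg.Agent.Lib.Helper2.OevN
import Cfsg.Agent.Lib.Helper2.OmxC

set_option autoImplicit false
set_option linter.unusedSectionVars false
set_option linter.unusedVariables false
open Cfsg

/-! Basic stabiliser lemmas and the decomposition into a non-degenerate subspace and its
orthogonal complement. -/

namespace Cfsg.Agent.Lib.Helper8.Oev

open Module QuadraticMap Matrix Cfsg.Agent.Lib.Helper5 Cfsg.Agent.Lib.Helper2.Oev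
open Cfsg.Agent.Lib.Helper5.OmegaSimple

variable {ι : Type} [Fintype ι] [DecidableEq ι] {F : Type*} [Field F]
variable {Q : QuadraticForm F (ι → F)}

theorem mem_stab_iff (W : Submodule F (ι → F)) (g : GL ι F) :
    g ∈ Cfsg.Geo.subspaceStabilizer W ↔ ∀ v, v ∈ W ↔ (g : Matrix ι ι F) *ᵥ v ∈ W := Iff.rfl

theorem gl_inv_mulVec (g : GL ι F) (v : ι → F) :
    (g : Matrix ι ι F) *ᵥ (((g⁻¹ : GL ι F) : Matrix ι ι F) *ᵥ v) = v := by
  rw [Matrix.mulVec_mulVec, ← Units.val_mul, mul_inv_cancel, Units.val_one, Matrix.one_mulVec]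

theorem gl_inv_mulVec' (g : GL ι F) (v : ι → F) :
    ((g⁻¹ : GL ι F) : Matrix ι ι F) *ᵥ ((g : Matrix ι ι F) *ᵥ v) = v := by
  rw [Matrix.mulVec_mulVec, ← Units.val_mul, inv_mul_cancel, Units.val_one, Matrix.one_mulVec]

theorem map_eq_of_mem_stab {W : Submodule F (ι → F)} {g : GL ι F}
    (hg : g ∈ Cfsg.Geo.subspaceStabilizer W) :
    W.map (Matrix.toLin' (g : Matrix ι ι F)) = W := by
  apply le_antisymm
  · rintro x ⟨v, hv, rfl⟩
    rw [Matrix.toLin'_apply]
    exact (hg v).mp hv
  · intro w hw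
    refine ⟨((g⁻¹ : GL ι F) : Matrix ι ι F) *ᵥ w, ?_, ?_⟩
    · apply (hg _).mpr
      change (g : Matrix ι ι F) *ᵥ (((g⁻¹ : GL ι F) : Matrix ι ι F) *ᵥ w) ∈ W
      rw [gl_inv_mulVec]; exact hw
    · rw [Matrix.toLin'_apply, gl_inv_mulVec]

theorem mem_stab_of_map_eq {W : Submodule F (ι → F)} {g : GL ι F}
    (h : W.map (Matrix.toLin' (g : Matrix ι ι F)) = W) :
    g ∈ Cfsg.Geo.subspaceStabilizer W := by
  intro v
  constructor
  · intro hv
    change (g : Matrix ι ι F) *ᵥ v ∈ W
    rw [← h]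
    exact ⟨v, hv, by rw [Matrix.toLin'_apply]⟩
  · intro hv
    change (g : Matrix ι ι F) *ᵥ v ∈ W at hv
    rw [← h] at hv
    obtain ⟨w, hw, hwv⟩ := hv
    rw [Matrix.toLin'_apply] at hwv
    have : w = v := by
      have := congrArg (fun x => ((g⁻¹ : GL ι F) : Matrix ι ι F) *ᵥ x) hwv
      simpa [gl_inv_mulVec'] using this
    rw [← this]; exact hw

theorem mem_stab_of_le {W : Submodule F (ι → F)} {g : GL ι F}
    (h : ∀ w ∈ W, (g : Matrix ι ι F) *ᵥ w ∈ W) :
    g ∈ Cfsg.Geo.subspaceStabilizer W := by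
  apply mem_stab_of_map_eq
  have hle : W.map (Matrix.toLin' (g : Matrix ι ι F)) ≤ W := by
    rintro x ⟨v, hv, rfl⟩
    rw [Matrix.toLin'_apply]
    exact h v hv
  apply Submodule.eq_of_le_of_finrank_eq hle
  have hinj : Function.Injective (Matrix.toLin' (g : Matrix ι ι F)) := by
    intro x y hxy
    rw [Matrix.toLin'_apply, Matrix.toLin'_apply] at hxy
    have := congrArg (fun x => ((g⁻¹ : GL ι F) : Matrix ι ι F) *ᵥ x) hxy
    simpa [gl_inv_mulVec'] using this
  exact (LinearEquiv.finrank_eq (Submodule.equivMapOfInjective _ hinj W)).symm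

theorem mem_decompStab_pair {W W' : Submodule F (ι → F)} {g : GL ι F}
    (hg : g ∈ Cfsg.Geo.subspaceStabilizer W) (hg' : g ∈ Cfsg.Geo.subspaceStabilizer W') :
    g ∈ Cfsg.Geo.decompositionStabilizer ![W, W'] := by
  refine ⟨1, fun i => ?_⟩
  fin_cases i
  · simpa using map_eq_of_mem_stab hg
  · simpa using map_eq_of_mem_stab hg'

theorem pair_isMDecomposition {W W' : Submodule F (ι → F)} {m : ℕ} (hm : 0 < m)
    (hd : finrank F W = m) (hd' : finrank F W' = m) (hdis : Disjoint W W')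
    (hsup : W ⊔ W' = ⊤) : Cfsg.Geo.IsMDecomposition m ![W, W'] := by
  refine ⟨le_refl _, hm, ?_, ?_, ?_⟩
  · intro i
    fin_cases i
    · exact hd
    · exact hd'
  · rw [iSupIndep_pair (i := (0 : Fin 2)) (j := 1) (by decide)
      (by intro k; fin_cases k <;> simp)]
    simpa using hdis
  · rw [← hsup]
    apply le_antisymm
    · apply iSup_le
      intro i
      fin_cases i
      · exact le_sup_left
      · exact le_sup_right
    · apply sup_le
      · exact le_iSup (![W, W']) 0
      · exact le_iSup (![W, W']) 1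

theorem sup_orth_eq_top (hnd : (polarBilin Q).Nondegenerate) {W : Submodule F (ι → F)}
    (hW : ND Q W) : W ⊔ MaxTS.orth Q W = ⊤ := by
  have horth : Orth Q W (MaxTS.orth Q W) := by
    intro x hx y hy
    exact (MaxTS.mem_orth Q W y).mp hy x hx
  have hdis : Disjoint W (MaxTS.orth Q W) := disjoint_of_orth hW horth
  apply Submodule.eq_top_of_finrank_eq
  have h1 := Submodule.finrank_sup_add_finrank_inf_eq W (MaxTS.orth Q W)
  rw [hdis.eq_bot, finrank_bot, MaxTS.finrank_orth Q hnd W] at h1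
  have h2 : finrank F W ≤ finrank F (ι → F) := Submodule.finrank_le W
  omega

theorem orth_orth (W : Submodule F (ι → F)) : Orth Q W (MaxTS.orth Q W) := by
  intro x hx y hy
  exact (MaxTS.mem_orth Q W y).mp hy x hx

/-- a non-degenerate subspace of half the dimension and its orthogonal complement -/
theorem perp_pair [Fintype F] (Hy : Hyp Q) (hnd : (polarBilin Q).Nondegenerate)
    {W : Submodule F (ι → F)} (hW : Cfsg.Geo.IsNondegenerateOn (polar ⇑Q) W)
    (hd : 2 * finrank F W = Fintype.card ι) (h0 : 0 < finrank F W) :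
    Cfsg.Geo.IsNondegenerateMDecomposition (polar ⇑Q) (finrank F W) ![W, MaxTS.orth Q W] ∧
    Cfsg.Geo.subspaceStabilizer W ⊓ Cfsg.Geo.omegaGL ⇑Q ≤
      Cfsg.Geo.decompositionStabilizer ![W, MaxTS.orth Q W] ⊓ Cfsg.Geo.omegaGL ⇑Q := by
  obtain ⟨hW', hsum, hle⟩ := perp_switch Hy hW
  have hND := nd_of_nondegOn hW
  have hdis : Disjoint W (MaxTS.orth Q W) := disjoint_of_orth hND (orth_orth W)
  have hd' : finrank F (MaxTS.orth Q W) = finrank F W := by omega
  refine ⟨⟨pair_isMDecomposition h0 rfl hd' hdis (sup_orth_eq_top hnd hND), ?_, ?_⟩, ?_⟩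
  · intro i
    fin_cases i
    · simpa using hW
    · simpa using hW'
  · intro i j hij
    fin_cases i <;> fin_cases j
    · exact absurd rfl hij
    · intro u hu v hv
      exact orth_orth W u (by simpa using hu) v (by simpa using hv)
    · intro u hu v hv
      rw [polar_comm]
      exact orth_orth W v (by simpa using hv) u (by simpa using hu)
    · exact absurd rfl hij
  · intro g hg
    have hg' := hle hg
    exact ⟨mem_decompStab_pair hg.1 hg'.1, hg.2⟩

end Cfsg.Agent.Lib.Helper8.Oev
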