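import Mathlib
import Cfsg.Prelude
import Cfsg.Agent.Lib.Helper8.OevQ1
import Cfsg.Agent.Lib.Helper8.OevR1

set_option autoImplicit false
set_option linter.unusedSectionVars false
set_option linter.unusedVariables false
open Cfsg

/-! Class 1 (reducible groups) for the ten-dimensional rows. -/

namespace Cfsg.Agent.Lib.Helper8.Oev

open Module QuadraticMap Matrix Cfsg.Agent.Lib.Helper5 Cfsg.Agent.Lib.Helper2.Oev
open Cfsg.Agent.Lib.Helper2.Omx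
open Cfsg.Agent.Lib.Helper5.OmegaSimple

variable {F : Type*} [Field F] [Fintype F]
variable {Q : QuadraticForm F (Fin 10 → F)} {H : Subgroup (GL (Fin 10) F)}

theorem stab_eq (Hy : Hyp Q) (hH : Cfsg.Geo.IsMaximalIn (Cfsg.Geo.omegaGL ⇑Q) H)
    {W : Submodule F (Fin 10 → F)} (h0 : W ≠ ⊥) (h1 : W ≠ ⊤)
    (hle : H ≤ Cfsg.Geo.subspaceStabilizer W) :
    H = Cfsg.Geo.subspaceStabilizer W ⊓ Cfsg.Geo.omegaGL ⇑Q :=
  eq_inf_of_le hH hle (not_le_stab Hy W h0 h1)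

/-- the common part of the two rows for the stabiliser of a non-degenerate subspace -/
theorem cls1b_cases (Hy : Hyp Q) (hnd : (polarBilin Q).Nondegenerate)
    (hH : Cfsg.Geo.IsMaximalIn (Cfsg.Geo.omegaGL ⇑Q) H)
    {W : Submodule F (Fin 10 → F)} (hW0 : W ≠ ⊥) (hW1 : W ≠ ⊤)
    (hW : Cfsg.Geo.IsNondegenerateOn (polar ⇑Q) W)
    (hle : H ≤ Cfsg.Geo.subspaceStabilizer W) :
    (Odd (Fintype.card F) ∧ ∃ W : Submodule F (Fin 10 → F), W ≠ ⊥ ∧ W ≠ ⊤ ∧ Odd (Module.finrank F W) ∧ 2 * Module.finrank F W ≠ 10 ∧ Cfsg.Geo.IsNondegenerateOn (QuadraticMap.polar ⇑Q) W ∧ H = Cfsg.Geo.subspaceStabilizer W ⊓ Cfsg.Geo.omegaGL ⇑Q) ∨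
    (∃ W : Submodule F (Fin 10 → F), Module.finrank F W = 2 ∧ Cfsg.Geo.IsNondegenerateOn (QuadraticMap.polar ⇑Q) W ∧ ¬ Cfsg.Geo.IsPlusTypeOn ⇑Q W ∧ H = Cfsg.Geo.subspaceStabilizer W ⊓ Cfsg.Geo.omegaGL ⇑Q) ∨
    (4 ≤ Fintype.card F ∧ ∃ W : Submodule F (Fin 10 → F), Module.finrank F W = 2 ∧ Cfsg.Geo.IsNondegenerateOn (QuadraticMap.polar ⇑Q) W ∧ Cfsg.Geo.IsPlusTypeOn ⇑Q W ∧ H = Cfsg.Geo.subspaceStabilizer W ⊓ Cfsg.Geo.omegaGL ⇑Q) ∨
    (∃ W : Submodule F (Fin 10 → F), Module.finrank F W = 4 ∧ Cfsg.Geo.IsNondegenerateOn (QuadraticMap.polar ⇑Q) W ∧ H = Cfsg.Geo.subspaceStabilizer W ⊓ Cfsg.Geo.omegaGL ⇑Q) ∨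
    (¬ Odd (Fintype.card F) ∧ ∃ v : (Fin 10 → F), Q v ≠ 0 ∧ H = Cfsg.Geo.subspaceStabilizer (Submodule.span F {v}) ⊓ Cfsg.Geo.omegaGL ⇑Q) ∨
    (Odd (Fintype.card F) ∧ ∃ D : Fin 2 → Submodule F (Fin 10 → F), Cfsg.Geo.IsNondegenerateMDecomposition (QuadraticMap.polar ⇑Q) 5 D ∧ H = Cfsg.Geo.decompositionStabilizer D ⊓ Cfsg.Geo.omegaGL ⇑Q) := by
  have hHΩ : H ≤ Cfsg.Geo.omegaGL ⇑Q := hH.1.le
  obtain ⟨W', hW0', hW1', hW', hdim, hsub⟩ := exists_small_nondeg Hy hW0 hW1 hW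
  rw [Fintype.card_fin] at hdim
  have hle' : H ≤ Cfsg.Geo.subspaceStabilizer W' := fun g hg => (hsub ⟨hle hg, hHΩ hg⟩).1
  have hpos : 0 < finrank F W' := by
    rw [Nat.pos_iff_ne_zero]
    intro h0
    exact hW0' (Submodule.finrank_eq_zero.mp h0)
  have hEq := stab_eq Hy hH hW0' hW1' hle'
  -- the plane case
  have hplane : finrank F W' = 2 →
      ((∃ W : Submodule F (Fin 10 → F), Module.finrank F W = 2 ∧ Cfsg.Geo.IsNondegenerateOn (QuadraticMap.polar ⇑Q) W ∧ ¬ Cfsg.Geo.IsPlusTypeOn ⇑Q W ∧ H = Cfsg.Geo.subspaceStabilizer W ⊓ Cfsg.Geo.omegaGL ⇑Q) ∨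
      (4 ≤ Fintype.card F ∧ ∃ W : Submodule F (Fin 10 → F), Module.finrank F W = 2 ∧ Cfsg.Geo.IsNondegenerateOn (QuadraticMap.polar ⇑Q) W ∧ Cfsg.Geo.IsPlusTypeOn ⇑Q W ∧ H = Cfsg.Geo.subspaceStabilizer W ⊓ Cfsg.Geo.omegaGL ⇑Q) ∨
      (∃ v : (Fin 10 → F), Q v ≠ 0 ∧ H = Cfsg.Geo.subspaceStabilizer (Submodule.span F {v}) ⊓ Cfsg.Geo.omegaGL ⇑Q)) := by
    intro h2d
    rcases plane_cases Hy h2d hW' with hnp | ⟨h4, hp⟩ | ⟨v, hv, hsub2⟩
    · exact Or.inl ⟨W', h2d, hW', hnp, hEq⟩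
    · exact Or.inr (Or.inl ⟨h4, W', h2d, hW', hp, hEq⟩)
    · refine Or.inr (Or.inr ⟨v, hv, ?_⟩)
      apply stab_eq Hy hH (span_singleton_ne_bot hv)
        (span_singleton_ne_top (by rw [Fintype.card_fin]; norm_num) v)
      intro g hg
      exact (hsub2 ⟨hle' hg, hHΩ hg⟩).1
  by_cases hq : Odd (Fintype.card F)
  · have h2 : (2 : F) ≠ 0 := two_ne_zero_of_odd' hq
    have hcases : finrank F W' = 1 ∨ finrank F W' = 2 ∨ finrank F W' = 3 ∨ finrank F W' = 4 ∨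
        finrank F W' = 5 := by omega
    rcases hcases with h | h | h | h | h
    · exact Or.inl ⟨hq, W', hW0', hW1', by rw [h]; decide, by omega, hW', hEq⟩
    · rcases hplane h with h3 | h4 | ⟨v, hv, hEqv⟩
      · exact Or.inr (Or.inl h3)
      · exact Or.inr (Or.inr (Or.inl h4))
      · have hv0 : v ≠ 0 := by
          rintro rfl
          exact hv (map_zero Q)
        refine Or.inl ⟨hq, Submodule.span F {v}, span_singleton_ne_bot hv,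
          span_singleton_ne_top (by rw [Fintype.card_fin]; norm_num) v, ?_, ?_,
          line_nondeg h2 v hv, hEqv⟩
        · rw [finrank_span_singleton hv0]; decide
        · rw [finrank_span_singleton hv0]; norm_num
    · exact Or.inl ⟨hq, W', hW0', hW1', by rw [h]; decide, by omega, hW', hEq⟩
    · exact Or.inr (Or.inr (Or.inr (Or.inl ⟨W', h, hW', hEq⟩)))
    · obtain ⟨hD, hsubD⟩ := perp_pair Hy hnd hW' (by rw [h, Fintype.card_fin]) hpos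
      rw [h] at hD
      refine Or.inr (Or.inr (Or.inr (Or.inr (Or.inr ⟨hq, _, hD, ?_⟩))))
      apply eq_inf_of_le hH
      · intro g hg
        exact (hsubD ⟨hle' hg, hHΩ hg⟩).1
      · exact not_le_decomp' Hy hD.decomp (by norm_num)
  · have h2 : (2 : F) = 0 := two_eq_zero_of_not_odd hq
    have hev := even_finrank_of_nd h2 (nd_of_nondegOn hW')
    have hcases : finrank F W' = 2 ∨ finrank F W' = 4 := by
      obtain ⟨r, hr⟩ := hev
      omega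
    rcases hcases with h | h
    · rcases hplane h with h3 | h4 | hv
      · exact Or.inr (Or.inl h3)
      · exact Or.inr (Or.inr (Or.inl h4))
      · exact Or.inr (Or.inr (Or.inr (Or.inr (Or.inl ⟨hq, hv⟩))))
    · exact Or.inr (Or.inr (Or.inr (Or.inl ⟨W', h, hW', hEq⟩)))

end Cfsg.Agent.Lib.Helper8.Oev
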