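import Mathlib
import Cfsg.Prelude
import Cfsg.Agent.Lib.Helper8.OevS1

set_option autoImplicit false
set_option linter.unusedSectionVars false
set_option linter.unusedVariables false
open Cfsg

/-! Two orthogonal five-dimensional halves of a ten-dimensional space. -/

namespace Cfsg.Agent.Lib.Helper8.Oev

open Module QuadraticMap Matrix Cfsg.Agent.Lib.Helper5 Cfsg.Agent.Lib.Helper2.Oev
open Cfsg.Agent.Lib.Helper2.Omx
open Cfsg.Agent.Lib.Helper5.OmegaSimple

variable {F : Type*} [Field F] [Fintype F]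
variable {Q : QuadraticForm F (Fin 10 → F)} {H : Subgroup (GL (Fin 10) F)}

theorem iso_refl (W : Submodule F (Fin 10 → F)) : Cfsg.Geo.AreIsometricFor ⇑Q W W :=
  ⟨LinearEquiv.refl F W, fun _ => rfl⟩

theorem iso_symm {W W' : Submodule F (Fin 10 → F)} (h : Cfsg.Geo.AreIsometricFor ⇑Q W W') :
    Cfsg.Geo.AreIsometricFor ⇑Q W' W := by
  obtain ⟨e, he⟩ := h
  refine ⟨e.symm, fun w => ?_⟩
  have := he (e.symm w)
  rw [LinearEquiv.apply_symm_apply] at this
  exact this.symm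

theorem pair_sup_eq_top {D : Fin 2 → Submodule F (Fin 10 → F)} {m : ℕ}
    (hD : Cfsg.Geo.IsMDecomposition m D) : D 0 ⊔ D 1 = ⊤ := by
  rw [← hD.iSup_eq_top]
  apply le_antisymm
  · apply sup_le
    · exact le_iSup D 0
    · exact le_iSup D 1
  · apply iSup_le
    intro i
    fin_cases i
    · exact le_sup_left
    · exact le_sup_right

theorem five_five_type (hq : Odd (Fintype.card F)) (hnd : (polarBilin Q).Nondegenerate)
    {D : Fin 2 → Submodule F (Fin 10 → F)}
    (hD : Cfsg.Geo.IsNondegenerateMDecomposition (polar ⇑Q) 5 D) :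
    (Cfsg.Geo.IsOrthogonalMDecomposition ⇑Q 5 D ∧
      (Cfsg.Geo.IsPlusTypeOn ⇑Q ⊤ ↔ Fintype.card F % 4 = 1)) ∨
    (¬ Cfsg.Geo.AreIsometricFor ⇑Q (D 0) (D 1) ∧
      (Cfsg.Geo.IsPlusTypeOn ⇑Q ⊤ ↔ Fintype.card F % 4 = 3)) := by
  have hW : ND Q (D 0) := nd_of_nondegOn (hD.nondegenerate 0)
  have hW' : ND Q (D 1) := nd_of_nondegOn (hD.nondegenerate 1)
  have horth : Orth Q (D 0) (D 1) := hD.orthogonal 0 1 (by decide)
  have hsup := pair_sup_eq_top hD.decomp
  have hd : finrank F (D 0) = 2 * 2 + 1 := hD.decomp.finrank_eq 0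
  have hd' : finrank F (D 1) = 2 * 2 + 1 := hD.decomp.finrank_eq 1
  by_cases hiso : Cfsg.Geo.AreIsometricFor ⇑Q (D 0) (D 1)
  · left
    refine ⟨⟨hD, ?_⟩, plus_iff_of_isometric hq hnd hW horth hsup hd hd' hiso⟩
    intro i j
    fin_cases i <;> fin_cases j
    · exact iso_refl _
    · exact hiso
    · exact iso_symm hiso
    · exact iso_refl _
  · right
    exact ⟨hiso, plus_iff_of_not_isometric hq hnd hW hW' horth hsup hd hd' hiso⟩

theorem odd_of_five (hD5 : ∃ W : Submodule F (Fin 10 → F), ND Q W ∧ Odd (finrank F W)) :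
    Odd (Fintype.card F) := by
  by_contra hq
  obtain ⟨W, hW, hodd⟩ := hD5
  have h2 : (2 : F) = 0 := two_eq_zero_of_not_odd hq
  have := even_finrank_of_nd h2 hW
  rw [← Nat.not_odd_iff_even] at this
  exact this hodd

theorem iso_pair_type (hnd : (polarBilin Q).Nondegenerate)
    {D : Fin 2 → Submodule F (Fin 10 → F)}
    (hD : Cfsg.Geo.IsOrthogonalMDecomposition ⇑Q 5 D) :
    Odd (Fintype.card F) ∧ (Cfsg.Geo.IsPlusTypeOn ⇑Q ⊤ ↔ Fintype.card F % 4 = 1) := by
  have hW : ND Q (D 0) := nd_of_nondegOn (hD.decomp.nondegenerate 0)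
  have hq : Odd (Fintype.card F) := by
    apply odd_of_five ⟨D 0, hW, ?_⟩
    rw [hD.decomp.decomp.finrank_eq 0]; decide
  refine ⟨hq, ?_⟩
  have horth : Orth Q (D 0) (D 1) := hD.decomp.orthogonal 0 1 (by decide)
  have hsup := pair_sup_eq_top hD.decomp.decomp
  have hd : finrank F (D 0) = 2 * 2 + 1 := hD.decomp.decomp.finrank_eq 0
  have hd' : finrank F (D 1) = 2 * 2 + 1 := hD.decomp.decomp.finrank_eq 1
  exact plus_iff_of_isometric hq hnd hW horth hsup hd hd' (hD.isometric 0 1)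

end Cfsg.Agent.Lib.Helper8.Oev
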