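import Mathlib
import Cfsg.Prelude
import Cfsg.Agent.Lib.Helper8.OevS2
import Cfsg.Agent.Lib.Helper5.OrthDecompSiegel

set_option autoImplicit false
set_option linter.unusedSectionVars false
set_option linter.unusedVariables false
open Cfsg

/-! Properness of the stabiliser of an orthogonal decomposition with at least four blocks in
characteristic two. -/

namespace Cfsg.Agent.Lib.Helper8.Oev

open Module QuadraticMap Matrix Cfsg.Agent.Lib.Helper5 Cfsg.Agent.Lib.Helper2.Oev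
open Cfsg.Agent.Lib.Helper2.Omx
open Cfsg.Agent.Lib.Helper5.OmegaSimple Cfsg.Agent.Lib.Helper5.OrthDecompSiegel
open Cfsg.Agent.Lib.Helper5.Siegel

variable {ι : Type} [Fintype ι] [DecidableEq ι] {F : Type*} [Field F] [Fintype F]
variable {Q : QuadraticForm F (ι → F)} {t k : ℕ} {D : Fin t → Submodule F (ι → F)}

theorem exists_nonsingular_in_block (hD : Cfsg.Geo.IsNondegenerateMDecomposition (polar ⇑Q) k D)
    (i : Fin t) : ∃ x ∈ D i, Q x ≠ 0 := by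
  by_contra hcon
  push Not at hcon
  have hpos := hD.decomp.pos
  have hne : D i ≠ ⊥ := by
    intro h
    have := hD.decomp.finrank_eq i
    rw [h, finrank_bot] at this
    omega
  obtain ⟨x, hx, hx0⟩ := Submodule.exists_mem_ne_zero_of_ne_bot hne
  obtain ⟨⟨y, hy, hxy⟩, -⟩ := hD.nondegenerate i x hx hx0
  apply hxy
  unfold polar
  rw [hcon _ (Submodule.add_mem _ hy hx), hcon y hy, hcon x hx]
  ring

theorem not_le_decomp_char2 (Hy : Hyp Q) (h2 : (2 : F) = 0)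
    (hD : Cfsg.Geo.IsOrthogonalMDecomposition ⇑Q k D) (ht : 4 ≤ t) :
    ¬ Cfsg.Geo.omegaGL ⇑Q ≤ Cfsg.Geo.decompositionStabilizer D := by
  intro hle
  obtain ⟨i0, hi0⟩ : ∃ i0 : Fin t, i0 = ⟨0, by omega⟩ := ⟨_, rfl⟩
  obtain ⟨i1, hi1⟩ : ∃ i1 : Fin t, i1 = ⟨1, by omega⟩ := ⟨_, rfl⟩
  obtain ⟨i2, hi2⟩ : ∃ i2 : Fin t, i2 = ⟨2, by omega⟩ := ⟨_, rfl⟩
  obtain ⟨i3, hi3⟩ : ∃ i3 : Fin t, i3 = ⟨3, by omega⟩ := ⟨_, rfl⟩
  have hne : ∀ {a b : ℕ} (ha : a < t) (hb : b < t), a ≠ b → (⟨a, ha⟩ : Fin t) ≠ ⟨b, hb⟩ := by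
    intro a b ha hb hab h
    exact hab (Fin.mk.inj_iff.mp h)
  have h01 : i0 ≠ i1 := by rw [hi0, hi1]; exact hne _ _ (by norm_num)
  have h02 : i0 ≠ i2 := by rw [hi0, hi2]; exact hne _ _ (by norm_num)
  have h03 : i0 ≠ i3 := by rw [hi0, hi3]; exact hne _ _ (by norm_num)
  have h12 : i1 ≠ i2 := by rw [hi1, hi2]; exact hne _ _ (by norm_num)
  have h13 : i1 ≠ i3 := by rw [hi1, hi3]; exact hne _ _ (by norm_num)
  have h23 : i2 ≠ i3 := by rw [hi2, hi3]; exact hne _ _ (by norm_num)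
  obtain ⟨x0, hx0, hQx0⟩ := exists_nonsingular_in_block hD.decomp i0
  obtain ⟨e1, he1⟩ := hD.isometric i0 i1
  obtain ⟨e2, he2⟩ := hD.isometric i0 i2
  obtain ⟨e3, he3⟩ := hD.isometric i0 i3
  set x1 : ι → F := ((e1 ⟨x0, hx0⟩ : D i1) : ι → F) with hx1d
  set x2 : ι → F := ((e2 ⟨x0, hx0⟩ : D i2) : ι → F) with hx2d
  set x3 : ι → F := ((e3 ⟨x0, hx0⟩ : D i3) : ι → F) with hx3d
  have hx1 : x1 ∈ D i1 := (e1 ⟨x0, hx0⟩).2
  have hx2 : x2 ∈ D i2 := (e2 ⟨x0, hx0⟩).2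
  have hx3 : x3 ∈ D i3 := (e3 ⟨x0, hx0⟩).2
  have hQ1 : Q x1 = Q x0 := he1 ⟨x0, hx0⟩
  have hQ2 : Q x2 = Q x0 := he2 ⟨x0, hx0⟩
  have hQ3 : Q x3 = Q x0 := he3 ⟨x0, hx0⟩
  have ho := hD.decomp.orthogonal
  have p01 : polar ⇑Q x0 x1 = 0 := ho i0 i1 h01 x0 hx0 x1 hx1
  have p02 : polar ⇑Q x0 x2 = 0 := ho i0 i2 h02 x0 hx0 x2 hx2
  have p03 : polar ⇑Q x0 x3 = 0 := ho i0 i3 h03 x0 hx0 x3 hx3
  have p12 : polar ⇑Q x1 x2 = 0 := ho i1 i2 h12 x1 hx1 x2 hx2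
  have p13 : polar ⇑Q x1 x3 = 0 := ho i1 i3 h13 x1 hx1 x3 hx3
  have p23 : polar ⇑Q x2 x3 = 0 := ho i2 i3 h23 x2 hx2 x3 hx3
  have h4 : (4 : F) = 0 := by
    have : (4 : F) = 2 * 2 := by norm_num
    rw [this, h2]; ring
  have hqadd : ∀ a b : ι → F, Q (a + b) = Q a + Q b + polar ⇑Q a b := by
    intro a b; unfold polar; ring
  have hv : Q (x0 + x1) = 0 := by
    rw [hqadd, p01, hQ1]
    linear_combination Q x0 * h2
  have hu : Q (x0 + x1 + (x2 + x3)) = 0 := by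
    rw [hqadd, hv, hqadd x2 x3, p23, hQ2, hQ3, polar_add_left, polar_add_right, polar_add_right,
      p02, p03, p12, p13]
    linear_combination Q x0 * h2
  have huv : polar ⇑Q (x0 + x1 + (x2 + x3)) (x0 + x1) = 0 := by
    rw [polar_add_left, polar_self, hv, polar_add_left, polar_add_right, polar_add_right,
      polar_comm ⇑Q x2 x0, polar_comm ⇑Q x2 x1, polar_comm ⇑Q x3 x0, polar_comm ⇑Q x3 x1,
      p02, p03, p12, p13]
    simp
  have hx2ne : x2 ≠ 0 := by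
    intro h
    rw [h, map_zero] at hQ2
    exact hQx0 hQ2.symm
  obtain ⟨⟨y, hy, hyx⟩, -⟩ := hD.decomp.nondegenerate i2 x2 hx2 hx2ne
  have hmem := hle (siegel_mem_omegaGL Hy _ _ hu hv huv 1)
  refine not_stab_of_image _ hy ?_ hmem
  intro j hj
  rw [siegel_mulVec] at hj
  have py0 : polar ⇑Q x0 y = 0 := ho i0 i2 h02 x0 hx0 y hy
  have py1 : polar ⇑Q x1 y = 0 := ho i1 i2 h12 x1 hx1 y hy
  have py3 : polar ⇑Q x3 y = 0 := by
    rw [polar_comm]; exact ho i2 i3 h23 y hy x3 hx3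
  have e1' : polar ⇑Q (x0 + x1 + (x2 + x3)) y = polar ⇑Q x2 y := by
    rw [polar_add_left, polar_add_left, polar_add_left, py0, py1, py3]; ring
  have e2' : polar ⇑Q (x0 + x1) y = 0 := by
    rw [polar_add_left, py0, py1]; ring
  rw [e1', e2', mul_zero, zero_smul, sub_zero, one_mul, polar_comm] at hj
  set b := polar ⇑Q y x2 with hb
  -- `y + b • (x0 + x1) ∈ D j`
  have key : ∀ (i : Fin t) (x : ι → F), x ∈ D i → i ≠ j → i ≠ i2 →
      (∀ w ∈ D i, polar ⇑Q (b • (x0 + x1)) w = polar ⇑Q (b • x) w) →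
      Q x ≠ 0 → False := by
    intro i x hx hij hi2' hw hQx
    have hx0' : x ≠ 0 := by
      rintro rfl
      exact hQx (map_zero Q)
    obtain ⟨⟨w, hw1, hw2⟩, -⟩ := hD.decomp.nondegenerate i x hx hx0'
    have h1 : polar ⇑Q (y + b • (x0 + x1)) w = 0 := by
      rw [polar_comm]
      exact ho i j hij w hw1 _ hj
    rw [polar_add_left, hw w hw1, polar_smul_left, polar_comm ⇑Q y w,
      ho i i2 hi2' w hw1 y hy, zero_add, smul_eq_mul, polar_comm] at h1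
    rcases mul_eq_zero.mp h1 with h1 | h1
    · exact hyx h1
    · exact hw2 h1
  by_cases hj0 : i0 = j
  · -- use the block `i1`
    refine key i1 x1 hx1 (by rw [← hj0]; exact h01.symm) h12 ?_ (by rw [hQ1]; exact hQx0)
    intro w hw
    rw [smul_add, polar_add_left, polar_smul_left, polar_smul_left,
      ho i0 i1 h01 x0 hx0 w hw]
    simp
  · refine key i0 x0 hx0 hj0 h02 ?_ hQx0
    intro w hw
    rw [smul_add, polar_add_left, polar_smul_left, polar_smul_left,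
      polar_comm ⇑Q x1 w, ho i0 i1 h01 w hw x1 hx1]
    simp

end Cfsg.Agent.Lib.Helper8.Oev
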