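import Mathlib
import Cfsg.Prelude
import Cfsg.Agent.Lib.Helper8.OevS3
import Cfsg.Agent.Lib.Helper5.AschO.Three

set_option autoImplicit false
set_option linter.unusedSectionVars false
set_option linter.unusedVariables false
open Cfsg

/-! Over the field with three elements, an orthogonal decomposition into anisotropic planes
refines to an orthogonal frame. -/

namespace Cfsg.Agent.Lib.Helper8.Oev

open Module QuadraticMap Matrix Cfsg.Agent.Lib.Helper5 Cfsg.Agent.Lib.Helper2.Oev
open Cfsg.Agent.Lib.Helper2.Omx
open Cfsg.Agent.Lib.Helper5.OmegaSimple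

variable {ι : Type} [Fintype ι] [DecidableEq ι] {F : Type*} [Field F] [Fintype F]
variable {Q : QuadraticForm F (ι → F)} {t k : ℕ} {D : Fin t → Submodule F (ι → F)}

theorem field_three (hq : Fintype.card F = 3) (a : F) : a = 0 ∨ a = 1 ∨ a = -1 := by
  by_cases ha : a = 0
  · exact Or.inl ha
  · right
    have h := FiniteField.pow_card_sub_one_eq_one a ha
    rw [hq] at h
    have h' : (a - 1) * (a + 1) = 0 := by
      have : a ^ (3 - 1) = a * a := by norm_num [pow_two]
      rw [this] at h
      linear_combination h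
    rcases mul_eq_zero.mp h' with h1 | h1
    · left; linear_combination h1
    · right; linear_combination h1

theorem three_sq (hq : Fintype.card F = 3) {a : F} (ha : a ≠ 0) : a * a = 1 := by
  rcases field_three hq a with h | h | h
  · exact absurd h ha
  · rw [h]; ring
  · rw [h]; ring

theorem three_sq_add_sq (hq : Fintype.card F = 3) {a b : F} (h : a * a + b * b = 1) :
    (a = 0 ∧ b ≠ 0) ∨ (b = 0 ∧ a ≠ 0) := by
  by_cases ha : a = 0
  · left
    refine ⟨ha, ?_⟩
    rintro rfl
    rw [ha] at h
    simp at h
  · by_cases hb : b = 0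
    · exact Or.inr ⟨hb, ha⟩
    · exfalso
      rw [three_sq hq ha, three_sq hq hb] at h
      have : (1 : F) = 0 := by linear_combination h
      exact one_ne_zero this

theorem quad_add' (x y : ι → F) : Q (x + y) = Q x + Q y + polar ⇑Q x y := by
  unfold polar; ring

/-- an anisotropic plane over the field with three elements has an orthonormal basis -/
theorem exists_orthonormal_plane (hq : Fintype.card F = 3) (W : Submodule F (ι → F))
    (hdim : finrank F W = 2) (han : ∀ x ∈ W, Q x = 0 → x = 0) :
    ∃ u v, u ∈ W ∧ v ∈ W ∧ Q u = 1 ∧ Q v = 1 ∧ polar ⇑Q u v = 0 := by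
  have hne : W ≠ ⊥ := by
    intro h
    rw [h, finrank_bot] at hdim
    omega
  have hperp : ∀ x : ι → F, ∃ y ∈ W, y ≠ 0 ∧ polar ⇑Q x y = 0 := by
    intro x
    have hk : LinearMap.ker ((polarBilin Q x).comp W.subtype) ≠ ⊥ := by
      apply LinearMap.ker_ne_bot_of_finrank_lt
      rw [finrank_self, hdim]
      norm_num
    obtain ⟨y, hy, hy0⟩ := Submodule.exists_mem_ne_zero_of_ne_bot hk
    refine ⟨y, y.2, fun h => hy0 (Subtype.ext h), ?_⟩
    simpa using hy
  have hval : ∀ x ∈ W, x ≠ 0 → Q x = 1 ∨ Q x = -1 := by
    intro x hx hx0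
    rcases field_three hq (Q x) with h | h | h
    · exact absurd (han x hx h) hx0
    · exact Or.inl h
    · exact Or.inr h
  -- a vector of norm one
  obtain ⟨u, hu, hQu⟩ : ∃ u ∈ W, Q u = 1 := by
    obtain ⟨x, hx, hx0⟩ := Submodule.exists_mem_ne_zero_of_ne_bot hne
    rcases hval x hx hx0 with h | h
    · exact ⟨x, hx, h⟩
    · obtain ⟨y, hy, hy0, hxy⟩ := hperp x
      rcases hval y hy hy0 with h' | h'
      · exact ⟨y, hy, h'⟩
      · refine ⟨x + y, W.add_mem hx hy, ?_⟩
        rw [quad_add', h, h', hxy]
        have h3 : ((3 : ℕ) : F) = 0 := by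
          rw [← hq]; exact Nat.cast_card_eq_zero F
        push_cast at h3
        linear_combination -h3
  obtain ⟨v, hv, hv0, huv⟩ := hperp u
  refine ⟨u, v, hu, hv, hQu, ?_, huv⟩
  rcases hval v hv hv0 with h | h
  · exact h
  · exfalso
    have hsum : Q (u + v) = 0 := by
      rw [quad_add', hQu, h, huv]; ring
    have h0 := han _ (W.add_mem hu hv) hsum
    have hvu : v = -u := by
      have : v = (u + v) - u := by abel
      rw [this, h0]; abel
    rw [hvu, polar_neg_right, polar_self, hQu] at huv
    have h2 : (2 : F) ≠ 0 := by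
      intro h2
      have h3 : ((3 : ℕ) : F) = 0 := by
        rw [← hq]; exact Nat.cast_card_eq_zero F
      push_cast at h3
      have : (1 : F) = 0 := by linear_combination h3 - h2
      exact one_ne_zero this
    apply h2
    simpa using huv

end Cfsg.Agent.Lib.Helper8.Oev
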