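import Mathlib
import Cfsg.Prelude
import Cfsg.Agent.Lib.Helper8.OevS4
import Cfsg.Agent.Lib.Helper5.OrthCard

set_option autoImplicit false
set_option linter.unusedSectionVars false
set_option linter.unusedVariables false
open Cfsg

/-! From a decomposition into planes with distinguished orthonormal pairs to an orthogonal
frame. -/

namespace Cfsg.Agent.Lib.Helper8.Oev

open Module QuadraticMap Matrix Cfsg.Agent.Lib.Helper5 Cfsg.Agent.Lib.Helper2.Oev
open Cfsg.Agent.Lib.Helper2.Omx Cfsg.Agent.Lib.Helper5.AschO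
open Cfsg.Agent.Lib.Helper5.OmegaSimple

variable {ι : Type} [Fintype ι] [DecidableEq ι] {F : Type*} [Field F] [Fintype F]
variable {Q : QuadraticForm F (ι → F)} {t k : ℕ} {D : Fin t → Submodule F (ι → F)}

/-- planes with orthonormal pairs `u i, v i` such that every vector of norm one of a plane is a
multiple of `u i` or of `v i`: the stabiliser of the planes stabilises the frame -/
theorem frame_of_planes (h2 : (2 : F) ≠ 0) (hD : Cfsg.Geo.IsOrthogonalMDecomposition ⇑Q 2 D)
    (u v : Fin t → ι → F) (hu : ∀ i, u i ∈ D i) (hv : ∀ i, v i ∈ D i)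
    (hQu : ∀ i, Q (u i) = 1) (hQv : ∀ i, Q (v i) = 1) (huv : ∀ i, polar ⇑Q (u i) (v i) = 0)
    (hone : ∀ i, ∀ a b : F, Q (a • u i + b • v i) = 1 → (a = 0 ∧ b ≠ 0) ∨ (b = 0 ∧ a ≠ 0)) :
    ∃ (t' : ℕ) (D' : Fin t' → Submodule F (ι → F)),
      Cfsg.Geo.IsOrthogonalMDecomposition ⇑Q 1 D' ∧
      Cfsg.Geo.decompositionStabilizer D ⊓ isometryGroup F ⇑Q ≤
        Cfsg.Geo.decompositionStabilizer D' := by
  classical
  have ho := hD.decomp.orthogonal
  set w : Fin t × Fin 2 → ι → F := fun p => if p.2 = 0 then u p.1 else v p.1 with hw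
  have hwmem : ∀ p, w p ∈ D p.1 := by
    intro p
    simp only [hw]
    split_ifs
    · exact hu _
    · exact hv _
  have hQw : ∀ p, Q (w p) = 1 := by
    intro p
    simp only [hw]
    split_ifs
    · exact hQu _
    · exact hQv _
  have hworth : ∀ p p', p ≠ p' → polar ⇑Q (w p) (w p') = 0 := by
    intro p p' hpp
    by_cases h1 : p.1 = p'.1
    · have h2' : p.2 ≠ p'.2 := fun h => hpp (Prod.ext h1 h)
      obtain ⟨i, s⟩ := p
      obtain ⟨i', s'⟩ := p'
      simp only at h1 h2'
      subst h1
      simp only [hw]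
      fin_cases s <;> fin_cases s'
      · exact absurd rfl h2'
      · simpa using huv i
      · simp only [Fin.mk_one, Fin.isValue, one_ne_zero, ↓reduceIte, Fin.zero_eta]
        rw [polar_comm]; exact huv i
      · exact absurd rfl h2'
    · exact ho p.1 p'.1 h1 _ (hwmem p) _ (hwmem p')
  have hwself : ∀ p, polar ⇑Q (w p) (w p) = 2 := by
    intro p
    rw [polar_self, hQw]; simp
  have hli : LinearIndependent F w := by
    apply LinearMap.BilinForm.linearIndependent_of_iIsOrtho (B := polarBilin Q)
    · intro p p' hpp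
      exact hworth p p' hpp
    · intro p
      simp only [polarBilin_apply_apply]
      rw [hwself]; exact h2
  have hcard : Fintype.card (Fin t × Fin 2) = finrank F (ι → F) := by
    rw [Fintype.card_prod, Fintype.card_fin, Fintype.card_fin, Module.finrank_fintype_fun_eq_card]
    exact card_blocks hD
  haveI : Nonempty (Fin t × Fin 2) := ⟨(⟨0, by have := hD.decomp.decomp.two_le; omega⟩, 0)⟩
  let b : Basis (Fin t × Fin 2) F (ι → F) := basisOfLinearIndependentOfCardEqFinrank hli hcard
  have hb : ∀ p, b p = w p := by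
    intro p
    simp only [b, coe_basisOfLinearIndependentOfCardEqFinrank]
  have hκ : 1 < Fintype.card (Fin t × Fin 2) := by
    rw [Fintype.card_prod, Fintype.card_fin, Fintype.card_fin]
    have := hD.decomp.decomp.two_le
    omega
  have hB : gramB (gramQ Q) b = (2 : F) • (1 : Matrix (Fin t × Fin 2) (Fin t × Fin 2) F) := by
    ext p p'
    rw [gramB_apply, ← polar_eq_bf, hb, hb]
    by_cases hpp : p = p'
    · subst hpp
      rw [hwself]; simp
    · rw [hworth p p' hpp]
      simp [Matrix.one_apply_ne hpp]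
  -- the span of `u i, v i` is the whole plane
  have hspan : ∀ i, ∀ x ∈ D i, ∃ a c : F, x = a • u i + c • v i := by
    intro i x hx
    have hli2 : LinearIndependent F (fun s : Fin 2 => w (i, s)) :=
      hli.comp (fun s : Fin 2 => (i, s)) (fun s s' h => by simpa using h)
    have hle : Submodule.span F (Set.range (fun s : Fin 2 => w (i, s))) ≤ D i := by
      rw [Submodule.span_le]
      rintro _ ⟨s, rfl⟩
      exact hwmem (i, s)
    have heq : Submodule.span F (Set.range (fun s : Fin 2 => w (i, s))) = D i := by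
      apply Submodule.eq_of_le_of_finrank_eq hle
      rw [finrank_span_eq_card hli2, Fintype.card_fin, hD.decomp.decomp.finrank_eq]
    rw [← heq] at hx
    have hr : Set.range (fun s : Fin 2 => w (i, s)) = {u i, v i} := by
      ext y
      constructor
      · rintro ⟨s, rfl⟩
        fin_cases s
        · left; simp [hw]
        · right; simp [hw]
      · rintro (rfl | rfl)
        · exact ⟨0, by simp [hw]⟩
        · exact ⟨1, by simp [hw]⟩
    rw [hr, Submodule.mem_span_pair] at hx
    obtain ⟨a, c, hac⟩ := hx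
    exact ⟨a, c, hac.symm⟩
  obtain ⟨t', D', hD', hle⟩ := frame_decomp Q h2 hκ b 2 h2 hB
    (Cfsg.Geo.decompositionStabilizer D ⊓ isometryGroup F ⇑Q) (by
      rintro h ⟨⟨σ, hσ⟩, hiso⟩ p
      replace hiso := (OrthCard.mem_isometryGroup_iff _ h).mp hiso
      have hmem : (h : Matrix ι ι F) *ᵥ w p ∈ D (σ p.1) := by
        rw [← hσ]
        exact ⟨w p, hwmem p, by rw [Matrix.toLin'_apply]⟩
      obtain ⟨a, c, hac⟩ := hspan _ _ hmem
      have hQ1 : Q (a • u (σ p.1) + c • v (σ p.1)) = 1 := by
        rw [← hac, hiso, hQw]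
      rcases hone _ a c hQ1 with ⟨ha, hc⟩ | ⟨hc, ha⟩
      · refine ⟨(σ p.1, 1), c, hc, ?_⟩
        rw [hb, hb, hac, ha]
        simp [hw]
      · refine ⟨(σ p.1, 0), a, ha, ?_⟩
        rw [hb, hb, hac, hc]
        simp [hw])
  exact ⟨t', D', hD', hle⟩

end Cfsg.Agent.Lib.Helper8.Oev
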