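import Mathlib
import Cfsg.Prelude
import Cfsg.Agent.Lib.Helper8.OevS5
import Cfsg.Agent.Lib.Helper5.AschO.Reducible

set_option autoImplicit false
set_option linter.unusedSectionVars false
set_option linter.unusedVariables false
open Cfsg

/-! Class 2 (orthogonal decompositions) for the minus-type row in dimension ten. -/

namespace Cfsg.Agent.Lib.Helper8.Oev

open Module QuadraticMap Matrix Cfsg.Agent.Lib.Helper5 Cfsg.Agent.Lib.Helper2.Oev
open Cfsg.Agent.Lib.Helper2.Omx Cfsg.Agent.Lib.Helper5.AschO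
open Cfsg.Agent.Lib.Helper5.OmegaSimple

section gen
variable {ι : Type} [Fintype ι] [DecidableEq ι] {F : Type*} [Field F] [Fintype F]
variable {Q : QuadraticForm F (ι → F)} {t k : ℕ} {D : Fin t → Submodule F (ι → F)}

/-- if the whole space is not of plus type, the planes of an orthogonal decomposition are
anisotropic -/
theorem blocks_aniso_of_not_plus (hD : Cfsg.Geo.IsOrthogonalMDecomposition ⇑Q 2 D)
    (hminus : ¬ Cfsg.Geo.IsPlusTypeOn ⇑Q ⊤) : ∀ i, ∀ x ∈ D i, Q x = 0 → x = 0 := by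
  intro i x hx hQx
  by_contra hx0
  apply hminus
  have hts : ∀ j, HasTS Q (D j) 1 := by
    intro j
    obtain ⟨e, he⟩ := hD.isometric i j
    refine ⟨Submodule.span F {((e ⟨x, hx⟩ : D j) : ι → F)}, ?_, ?_, ?_⟩
    · rw [Submodule.span_singleton_le_iff_mem]
      exact (e ⟨x, hx⟩).2
    · intro y hy
      obtain ⟨a, rfl⟩ := Submodule.mem_span_singleton.mp hy
      rw [QuadraticMap.map_smul, he ⟨x, hx⟩, hQx, smul_zero]
    · apply finrank_span_singleton
      intro h0
      apply hx0
      have : e ⟨x, hx⟩ = 0 := Subtype.ext h0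
      rw [LinearEquiv.map_eq_zero_iff] at this
      exact congrArg Subtype.val this
  have h := hasTS_top_of_groups D (fun _ => 1) hts (fun j => nd_of_decomp hD j)
    (fun i j hij => orth_of_decomp hD hij)
  simp only [Finset.sum_const, Finset.card_univ, Fintype.card_fin, smul_eq_mul, mul_one] at h
  apply plus_top_of_hasTS h
  have := card_blocks hD
  omega

end gen

variable {F : Type*} [Field F] [Fintype F]
variable {Q : QuadraticForm F (Fin 10 → F)} {H : Subgroup (GL (Fin 10) F)}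

theorem odd_of_two_ne_zero (h2 : (2 : F) ≠ 0) : Odd (Fintype.card F) := by
  by_contra h
  exact h2 (two_eq_zero_of_not_odd h)

theorem le_isom (hH : Cfsg.Geo.IsMaximalIn (Cfsg.Geo.omegaGL ⇑Q) H) :
    H ≤ isometryGroup F ⇑Q := hH.1.le.trans (omegaGL_le_isom _)

/-- properness of the stabiliser of an orthogonal decomposition into five planes -/
theorem not_le_five_planes (Hy : Hyp Q) {D : Fin 5 → Submodule F (Fin 10 → F)}
    (hD : Cfsg.Geo.IsOrthogonalMDecomposition ⇑Q 2 D) :
    ¬ Cfsg.Geo.omegaGL ⇑Q ≤ Cfsg.Geo.decompositionStabilizer D := by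
  by_cases h2 : (2 : F) = 0
  · exact not_le_decomp_char2 Hy h2 hD (by norm_num)
  · exact not_le_decomp Hy h2 hD.decomp.decomp

theorem blocks_cases {t k : ℕ} (h : t * k = 10) (ht : 2 ≤ t) (hk : 1 < k) :
    (t = 2 ∧ k = 5) ∨ (t = 5 ∧ k = 2) := by
  have ht5 : t ≤ 5 := by nlinarith
  interval_cases t <;> omega

theorem cls2a_minus (Hy : Hyp Q) (hnd : (polarBilin Q).Nondegenerate)
    (hminus : ¬ Cfsg.Geo.IsPlusTypeOn ⇑Q ⊤)
    (hH : Cfsg.Geo.IsMaximalIn (Cfsg.Geo.omegaGL ⇑Q) H)
    {t k : ℕ} {D : Fin t → Submodule F (Fin 10 → F)} (hk : 1 < k)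
    (hD : Cfsg.Geo.IsOrthogonalMDecomposition ⇑Q k D)
    (hle : H ≤ Cfsg.Geo.decompositionStabilizer D) : MinusRow ⇑Q H := by
  have hcard := card_blocks hD
  rw [Fintype.card_fin] at hcard
  rcases blocks_cases hcard hD.decomp.decomp.two_le hk with ⟨rfl, rfl⟩ | ⟨rfl, rfl⟩
  · obtain ⟨hq, hiff⟩ := iso_pair_type hnd hD
    have h3 : Fintype.card F % 4 = 3 := by
      rcases mod_four_of_odd _ hq with h | h
      · exact absurd (hiff.mpr h) hminus
      · exact h
    exact MinusRow.m9 ⟨h3, D, hD, eq_inf_of_le hH hle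
      (not_le_decomp' Hy hD.decomp.decomp (by norm_num))⟩
  · by_cases hq3 : Fintype.card F = 3
    · have han := blocks_aniso_of_not_plus hD hminus
      have h2 : (2 : F) ≠ 0 := by
        apply two_ne_zero_of_odd'
        rw [hq3]; decide
      choose u v hu hv hQu hQv huv using fun i =>
        exists_orthonormal_plane hq3 (D i) (hD.decomp.decomp.finrank_eq i) (han i)
      obtain ⟨t', D', hD', hsub⟩ := frame_of_planes h2 hD u v hu hv hQu hQv huv (by
        intro i a b hab
        rw [quad_two, hQu, hQv, huv] at hab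
        apply three_sq_add_sq hq3
        linear_combination hab)
      have hcard' := card_blocks hD'
      rw [Fintype.card_fin, mul_one] at hcard'
      subst hcard'
      refine MinusRow.m7 ⟨⟨3, Nat.prime_three, hq3, rfl⟩, D', hD', eq_inf_of_le hH ?_
        (not_le_decomp Hy h2 hD'.decomp.decomp)⟩
      intro g hg
      exact hsub ⟨hle hg, le_isom hH hg⟩
    · exact MinusRow.m8 ⟨hq3, D, hD, eq_inf_of_le hH hle (not_le_five_planes Hy hD)⟩

theorem cls2f_minus (Hy : Hyp Q) (hnd : (polarBilin Q).Nondegenerate)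
    (hminus : ¬ Cfsg.Geo.IsPlusTypeOn ⇑Q ⊤)
    (hH : Cfsg.Geo.IsMaximalIn (Cfsg.Geo.omegaGL ⇑Q) H)
    {t : ℕ} {D : Fin t → Submodule F (Fin 10 → F)} (hp : (Fintype.card F).Prime)
    (h2 : (2 : F) ≠ 0) (hD : Cfsg.Geo.IsOrthogonalMDecomposition ⇑Q 1 D)
    (hle : H ≤ Cfsg.Geo.decompositionStabilizer D) : MinusRow ⇑Q H := by
  have hcard := card_blocks hD
  rw [Fintype.card_fin, mul_one] at hcard
  subst hcard
  have hq := odd_of_two_ne_zero h2
  have h3 : Fintype.card F % 4 = 3 := by
    rcases mod_four_of_odd _ hq with h | h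
    · exfalso
      have hsq : IsSquare (-1 : F) := by
        rw [FiniteField.isSquare_neg_one_iff]; omega
      obtain ⟨i, hi⟩ := hsq
      exact hminus (plus_of_sq_blocks hD (by decide) i hi.symm)
    · exact h
  exact MinusRow.m7 ⟨⟨_, hp, rfl, h3⟩, D, hD, eq_inf_of_le hH hle
    (not_le_decomp Hy h2 hD.decomp.decomp)⟩

end Cfsg.Agent.Lib.Helper8.Oev
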