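import Mathlib
import Cfsg.Prelude
import Cfsg.Agent.Lib.Helper8.OevS6
import Cfsg.Agent.Lib.Helper2.OmxD
import Cfsg.Agent.Lib.Helper2.OmxE
import Cfsg.Agent.Lib.Helper2.OevE
import Cfsg.Agent.Lib.Helper4.MaxS5

set_option autoImplicit false
set_option linter.unusedSectionVars false
set_option linter.unusedVariables false
open Cfsg

/-! The easy classes for the ten-dimensional rows. -/

namespace Cfsg.Agent.Lib.Helper8.Oev

open Module QuadraticMap Matrix Cfsg.Agent.Lib.Helper5 Cfsg.Agent.Lib.Helper2.Oev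
open Cfsg.Agent.Lib.Helper2.Omx Cfsg.Agent.Lib.Helper5.AschO
open Cfsg.Agent.Lib.Helper5.OmegaSimple

variable {F : Type*} [Field F] [Fintype F]
variable {Q : QuadraticForm F (Fin 10 → F)} {H : Subgroup (GL (Fin 10) F)}

theorem ts_ne_top (hnd : (polarBilin Q).Nondegenerate) {W : Submodule F (Fin 10 → F)}
    (hts : Cfsg.Geo.IsTotallySingularQuad ⇑Q W) : W ≠ ⊤ := by
  rintro rfl
  have h0 : (Pi.single (0 : Fin 10) (1 : F) : Fin 10 → F) = 0 := by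
    apply hnd.1
    intro n
    simp only [polarBilin_apply_apply, polar]
    rw [hts _ Submodule.mem_top, hts _ Submodule.mem_top, hts _ Submodule.mem_top]
    ring
  have := congrFun h0 0
  simp at this

theorem cls1a_minus (Hy : Hyp Q) (hnd : (polarBilin Q).Nondegenerate)
    (hH : Cfsg.Geo.IsMaximalIn (Cfsg.Geo.omegaGL ⇑Q) H)
    {W : Submodule F (Fin 10 → F)} (hW0 : W ≠ ⊥)
    (hts : Cfsg.Geo.IsTotallySingularQuad ⇑Q W)
    (hle : H ≤ Cfsg.Geo.subspaceStabilizer W) : MinusRow ⇑Q H :=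
  MinusRow.m1 ⟨W, hW0, hts, stab_eq Hy hH hW0 (ts_ne_top hnd hts) hle⟩

theorem cls1c_eq (Hy : Hyp Q)
    (hH : Cfsg.Geo.IsMaximalIn (Cfsg.Geo.omegaGL ⇑Q) H) (h2 : (2 : F) = 0)
    {v : Fin 10 → F} (hv : Q v ≠ 0)
    (hle : H ≤ Cfsg.Geo.subspaceStabilizer (Submodule.span F {v})) :
    ¬ Odd (Fintype.card F) ∧ ∃ v : (Fin 10 → F), Q v ≠ 0 ∧ H = Cfsg.Geo.subspaceStabilizer (Submodule.span F {v}) ⊓ Cfsg.Geo.omegaGL ⇑Q :=
  ⟨not_odd_of_two_eq_zero h2, v, hv, stab_eq Hy hH (span_singleton_ne_bot hv)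
    (span_singleton_ne_top (by rw [Fintype.card_fin]; norm_num) v) hle⟩

theorem cls2b_minus (hminus : ¬ Cfsg.Geo.IsPlusTypeOn ⇑Q ⊤)
    {k : ℕ} {D : Fin 2 → Submodule F (Fin 10 → F)} (hD : Cfsg.Geo.IsMDecomposition k D)
    (hts : ∀ i, Cfsg.Geo.IsTotallySingularQuad ⇑Q (D i)) : False :=
  hminus (plus_of_ts_pair hD hts)

theorem cls3b_eq (Hy : Hyp Q) (hH : Cfsg.Geo.IsMaximalIn (Cfsg.Geo.omegaGL ⇑Q) H)
    {K : Subalgebra F (Matrix (Fin 10) (Fin 10) F)} (hK : Cfsg.Geo.IsFieldSubalgebra 2 K)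
    (hle : H ≤ Cfsg.Geo.subalgebraNormalizer K) :
    H = Cfsg.Geo.subalgebraNormalizer K ⊓ Cfsg.Geo.omegaGL ⇑Q :=
  eq_inf_of_le hH hle (not_le_fieldNormalizer' Hy (le_refl 2) hK)

theorem cls5_eq (Hy : Hyp Q) (hH : Cfsg.Geo.IsMaximalIn (Cfsg.Geo.omegaGL ⇑Q) H)
    {F₀ : Subfield F} {r : ℕ} {P : GL (Fin 10) F} (hr : r.Prime)
    (hcard : Fintype.card F = Nat.card F₀ ^ r)
    (hle : H ≤ Cfsg.Geo.subfieldSubgroup F₀ P) :
    H = Cfsg.Geo.subfieldSubgroup F₀ P ⊓ Cfsg.Geo.omegaGL ⇑Q :=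
  eq_inf_of_le hH hle (not_le_subfield Hy F₀ (subfield_ne_top' F₀ hr hcard) P)

theorem cls5_minus (Hy : Hyp Q) (hnd : (polarBilin Q).Nondegenerate)
    (hminus : ¬ Cfsg.Geo.IsPlusTypeOn ⇑Q ⊤)
    (hH : Cfsg.Geo.IsMaximalIn (Cfsg.Geo.omegaGL ⇑Q) H)
    {F₀ : Subfield F} {r : ℕ} {P : GL (Fin 10) F} {ζ : F} (hr : r.Prime)
    (hcard : Fintype.card F = Nat.card F₀ ^ r) (hζ : ζ ≠ 0)
    (hR : Cfsg.Geo.IsQuadFormRationalStructure (fun v : Fin 10 → F => ζ * Q v) F₀ P)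
    (hle : H ≤ Cfsg.Geo.subfieldSubgroup F₀ P) : MinusRow ⇑Q H := by
  rcases hr.eq_two_or_odd' with rfl | hodd
  · exact absurd (plus_of_subfield_two hnd hζ hcard hR (m := 5)
      (by rw [Fintype.card_fin]) (by norm_num)) hminus
  · exact MinusRow.m13 ⟨F₀, r, P, ζ, hr, hodd, hcard, hζ, hR, cls5_eq Hy hH hr hcard hle⟩

/-- class 4b does not occur in dimension ten -/
theorem cls4b_false {n₁ n₂ : ℕ} (e : Fin 10 ≃ Fin n₁ × Fin n₂)
    {f₁ : (Fin n₁ → F) → (Fin n₁ → F) → F} {f₂ : (Fin n₂ → F) → (Fin n₂ → F) → F}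
    (h1 : Cfsg.Geo.IsSymplecticForm f₁) (h2 : Cfsg.Geo.IsSymplecticForm f₂) : False := by
  have hc := card_of_tensor_equiv e
  rw [Fintype.card_fin] at hc
  obtain ⟨a, ha⟩ := Cfsg.Agent.Lib.Helper4.MaxS.even_of_symplecticForm h1
  obtain ⟨b, hb⟩ := Cfsg.Agent.Lib.Helper4.MaxS.even_of_symplecticForm h2
  rw [ha, hb] at hc
  have : 10 = 4 * (a * b) := by rw [hc]; ring
  omega

end Cfsg.Agent.Lib.Helper8.Oev
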