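import Mathlib
import Cfsg.Prelude
import Cfsg.Agent.Lib.Helper2.OmxB

set_option autoImplicit false
set_option linter.unusedSectionVars false
set_option linter.unusedVariables false
open Cfsg

/-! Subspaces invariant under a field subalgebra: their dimension is divisible by the degree. -/

namespace Cfsg.Agent.Lib.Helper8.Oev

open Module Matrix

variable {ι : Type} [Fintype ι] [DecidableEq ι] {F : Type*} [Field F]

/-- the subspace `U` is invariant under the subalgebra `K` -/
def KInv (K : Subalgebra F (Matrix ι ι F)) (U : Submodule F (ι → F)) : Prop :=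
  ∀ k ∈ K, ∀ u ∈ U, k *ᵥ u ∈ U

theorem kinv_bot (K : Subalgebra F (Matrix ι ι F)) : KInv K ⊥ := by
  intro k _ u hu
  rw [Submodule.mem_bot] at hu
  rw [hu, Matrix.mulVec_zero]
  exact Submodule.zero_mem _

theorem KInv.sup {K : Subalgebra F (Matrix ι ι F)} {U U' : Submodule F (ι → F)}
    (h : KInv K U) (h' : KInv K U') : KInv K (U ⊔ U') := by
  intro k hk x hx
  obtain ⟨u, hu, u', hu', rfl⟩ := Submodule.mem_sup.mp hx
  rw [Matrix.mulVec_add]
  exact Submodule.add_mem _ (Submodule.mem_sup_left (h k hk u hu))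
    (Submodule.mem_sup_right (h' k hk u' hu'))

/-- the orbit `K v` of a vector as a subspace -/
def orbitSub (K : Subalgebra F (Matrix ι ι F)) (v : ι → F) : Submodule F (ι → F) :=
  Submodule.map ((LinearMap.applyₗ v : ((ι → F) →ₗ[F] (ι → F)) →ₗ[F] (ι → F)).comp
    (Matrix.toLin' : Matrix ι ι F ≃ₗ[F] _).toLinearMap) (Subalgebra.toSubmodule K)

theorem mem_orbitSub (K : Subalgebra F (Matrix ι ι F)) (v x : ι → F) :
    x ∈ orbitSub K v ↔ ∃ k ∈ K, k *ᵥ v = x := by
  unfold orbitSub
  rw [Submodule.mem_map]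
  constructor
  · rintro ⟨k, hk, rfl⟩
    exact ⟨k, hk, by simp [Matrix.toLin'_apply]⟩
  · rintro ⟨k, hk, rfl⟩
    exact ⟨k, hk, by simp [Matrix.toLin'_apply]⟩

theorem self_mem_orbitSub (K : Subalgebra F (Matrix ι ι F)) (v : ι → F) : v ∈ orbitSub K v :=
  (mem_orbitSub K v v).mpr ⟨1, K.one_mem, Matrix.one_mulVec v⟩

theorem kinv_orbitSub (K : Subalgebra F (Matrix ι ι F)) (v : ι → F) : KInv K (orbitSub K v) := by
  intro k hk x hx
  obtain ⟨k', hk', rfl⟩ := (mem_orbitSub K v x).mp hx
  rw [Matrix.mulVec_mulVec]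
  exact (mem_orbitSub K v _).mpr ⟨k * k', K.mul_mem hk hk', rfl⟩

/-- the restriction of `K` to an invariant subspace -/
def restrHom (K : Subalgebra F (Matrix ι ι F)) (U : Submodule F (ι → F)) (hU : KInv K U) :
    ↥K →ₐ[F] Module.End F ↥U where
  toFun k := (Matrix.toLin' k.1).restrict (p := U) (q := U) (fun u hu => by
    rw [Matrix.toLin'_apply]; exact hU k.1 k.2 u hu)
  map_one' := by
    ext u
    simp
  map_mul' a b := by
    ext u
    simp [Matrix.toLin'_mul]
  map_zero' := by
    ext u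
    simp
  map_add' a b := by
    ext u
    simp [Matrix.add_mulVec]
  commutes' r := by
    ext u
    simp [Algebra.algebraMap_eq_smul_one, Matrix.smul_mulVec]

theorem isField_of_fieldSubalgebra {r : ℕ} (hr : 0 < r) {K : Subalgebra F (Matrix ι ι F)}
    (hK : Cfsg.Geo.IsFieldSubalgebra r K) : IsField ↥K := by
  refine ⟨?_, ?_, ?_⟩
  · haveI : Nontrivial ↥K := by
      apply (Module.finrank_pos_iff (R := F)).mp
      rw [hK.finrank_eq]
      exact hr
    exact exists_pair_ne ↥K
  · intro x y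
    exact Subtype.ext (hK.comm x.1 x.2 y.1 y.2)
  · intro a ha
    have ha' : a.1 ≠ 0 := fun h => ha (Subtype.ext h)
    obtain ⟨y, hy, hay⟩ := hK.inv a.1 a.2 ha'
    exact ⟨⟨y, hy⟩, Subtype.ext hay⟩

/-- the dimension of a `K`-invariant subspace is divisible by the degree of `K` -/
theorem dvd_finrank_of_kinv {r : ℕ} (hr : 0 < r) {K : Subalgebra F (Matrix ι ι F)}
    (hK : Cfsg.Geo.IsFieldSubalgebra r K) {U : Submodule F (ι → F)} (hU : KInv K U) :
    r ∣ finrank F U := by
  classical
  letI : Field ↥K := (isField_of_fieldSubalgebra hr hK).toField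
  have hfr : Module.finrank F ↥K = r := hK.finrank_eq
  letI modK : Module ↥K ↥U := Module.compHom ↥U ((restrHom K U hU : ↥K →ₐ[F] Module.End F ↥U) :
    ↥K →+* Module.End F ↥U)
  have hsmul : ∀ (l : ↥K) (x : ↥U), l • x = restrHom K U hU l x := fun l x => rfl
  haveI : IsScalarTower F ↥K ↥U := by
    refine ⟨fun c l x => ?_⟩
    rw [hsmul, hsmul, map_smul]
    rfl
  haveI : FiniteDimensional F ↥K := Module.finite_of_finrank_pos (by rw [hfr]; exact hr)
  haveI : FiniteDimensional ↥K ↥U := Module.Finite.of_restrictScalars_finite F ↥K ↥U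
  have hmul : finrank F ↥K * finrank ↥K ↥U = finrank F ↥U :=
    Module.finrank_mul_finrank F ↥K ↥U
  rw [hfr] at hmul
  exact ⟨_, hmul.symm⟩

end Cfsg.Agent.Lib.Helper8.Oev
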