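import Mathlib
import Cfsg.Prelude
import Cfsg.Agent.Lib.Helper8.OevT1
import Cfsg.Agent.Lib.Helper5.MaxTS
import Cfsg.Agent.Lib.Helper5.QuadIsom
import Cfsg.Agent.Lib.Helper2.OevG

set_option autoImplicit false
set_option linter.unusedSectionVars false
set_option linter.unusedVariables false
open Cfsg

/-! Two impossibility results for quadratic field subalgebras when half the dimension is odd:
a self-adjoint one in characteristic two, and a unitary one in plus type. -/

namespace Cfsg.Agent.Lib.Helper8.Oev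

open Module Matrix QuadraticMap Cfsg.Agent.Lib.Helper5 Cfsg.Agent.Lib.Helper2.Oev

variable {ι : Type} [Fintype ι] [DecidableEq ι] {F : Type*} [Field F]
variable {Q : QuadraticForm F (ι → F)}

/-- a totally singular subspace extends to one of the dimension of any larger one (Witt) -/
theorem ts_extend (hnd : (polarBilin Q).Nondegenerate) {T U₀ : Submodule F (ι → F)}
    (hT : ∀ t ∈ T, Q t = 0) (hU₀ : ∀ u ∈ U₀, Q u = 0) (hle : finrank F T ≤ finrank F U₀) :
    ∃ T' : Submodule F (ι → F), T ≤ T' ∧ (∀ t ∈ T', Q t = 0) ∧ finrank F T' = finrank F U₀ := by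
  classical
  obtain ⟨d, hd⟩ : ∃ d, d = finrank F T := ⟨_, rfl⟩
  let c : Basis (Fin d) F T := Module.finBasisOfFinrankEq F T hd.symm
  obtain ⟨f, hf⟩ := exists_linearIndependent_of_le_finrank (R := F) (M := U₀) (n := d)
    (by rw [hd]; exact hle)
  set x : Fin d → ι → F := fun i => (c i : ι → F) with hx
  set y : Fin d → ι → F := fun i => (f i : ι → F) with hy
  have hxli : LinearIndependent F x :=
    c.linearIndependent.map' T.subtype (Submodule.ker_subtype T)
  have hyli : LinearIndependent F y :=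
    hf.map' U₀.subtype (Submodule.ker_subtype U₀)
  have hpol : ∀ (W : Submodule F (ι → F)), (∀ w ∈ W, Q w = 0) → ∀ a ∈ W, ∀ b ∈ W,
      polar ⇑Q a b = 0 := by
    intro W hW a ha b hb
    unfold polar
    rw [hW _ (W.add_mem ha hb), hW a ha, hW b hb]; ring
  obtain ⟨g, hg, hgx⟩ := QuadIsom.witt_family Q hnd d x y hxli hyli
    (fun i => by rw [hT _ (c i).2, hU₀ _ (f i).2])
    (fun i j => by rw [hpol T hT _ (c i).2 _ (c j).2, hpol U₀ hU₀ _ (f i).2 _ (f j).2])
  refine ⟨U₀.comap g.toLinearMap, ?_, ?_, ?_⟩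
  · intro t ht
    have hspan : T = Submodule.span F (Set.range x) := by
      have h1 := c.span_eq
      have h2 : Submodule.map T.subtype (Submodule.span F (Set.range c)) = T := by
        rw [h1, Submodule.map_top, Submodule.range_subtype]
      rw [← h2, Submodule.map_span, ← Set.range_comp]
      rfl
    rw [hspan] at ht
    refine Submodule.span_induction ?_ ?_ ?_ ?_ ht
    · rintro _ ⟨i, rfl⟩
      rw [Submodule.mem_comap]
      show g (x i) ∈ U₀
      rw [hgx]
      exact (f i).2
    · exact Submodule.zero_mem _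
    · intro a b _ _ ha hb
      exact Submodule.add_mem _ ha hb
    · intro a b _ hb
      exact Submodule.smul_mem _ a hb
  · intro t ht
    rw [Submodule.mem_comap] at ht
    rw [← hg t]
    exact hU₀ _ ht
  · have : U₀.comap g.toLinearMap = U₀.map g.symm.toLinearMap :=
      Submodule.comap_equiv_eq_map_symm g U₀
    rw [this]
    exact LinearEquiv.finrank_map_eq g.symm U₀

section char2
variable [Fintype F]

theorem self_adjoint_alt (h2 : (2 : F) = 0) {K : Subalgebra F (Matrix ι ι F)}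
    (hK : Cfsg.Geo.IsFieldSubalgebra 2 K)
    (hsa : Cfsg.Geo.IsSelfAdjointFor (polar ⇑Q) K) :
    ∀ k ∈ K, ∀ x : ι → F, polar ⇑Q (k *ᵥ x) x = 0 := by
  classical
  intro k hk x
  letI : Field ↥K := (isField_of_fieldSubalgebra (by norm_num) hK).toField
  haveI : Finite ↥K := Finite.of_injective (fun a : ↥K => a.1) Subtype.val_injective
  have h2K : (2 : ↥K) = 0 := by
    apply Subtype.ext
    have : ((2 : ↥K) : Matrix ι ι F) = (2 : F) • (1 : Matrix ι ι F) := by
      rw [two_smul]
      norm_num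
      rfl
    rw [this, h2, zero_smul]
    rfl
  haveI : CharP ↥K 2 := CharTwo.of_one_ne_zero_of_two_eq_zero one_ne_zero h2K
  have hch : ringChar ↥K = 2 := ringChar.eq ↥K 2
  obtain ⟨l, hl⟩ := FiniteField.isSquare_of_char_two hch (⟨k, hk⟩ : ↥K)
  have hkl : k = l.1 * l.1 := by
    have := congrArg Subtype.val hl
    simpa using this
  rw [hkl, ← Matrix.mulVec_mulVec, hsa l.1 l.2, polar_self]
  have : (2 : F) * Q (l.1 *ᵥ x) = 0 := by rw [h2, zero_mul]
  rw [two_nsmul]
  linear_combination this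

/-- in characteristic two there is no self-adjoint quadratic field subalgebra when half the
dimension is odd -/
theorem no_self_adjoint_two_char2 (hnd : (polarBilin Q).Nondegenerate) (h2 : (2 : F) = 0)
    {m : ℕ} (hcard : Fintype.card ι = 2 * m) (hm : Odd m)
    {K : Subalgebra F (Matrix ι ι F)} (hK : Cfsg.Geo.IsFieldSubalgebra 2 K)
    (hsa : Cfsg.Geo.IsSelfAdjointFor (polar ⇑Q) K) : False := by
  classical
  have halt := self_adjoint_alt h2 hK hsa
  set s : Set (Submodule F (ι → F)) :=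
    {U | KInv K U ∧ ∀ u ∈ U, ∀ u' ∈ U, polar ⇑Q u u' = 0} with hs
  have hbot : (⊥ : Submodule F (ι → F)) ∈ s := by
    refine ⟨kinv_bot K, ?_⟩
    intro u hu u' _
    rw [Submodule.mem_bot] at hu
    rw [hu]
    simp [polar]
  obtain ⟨U, -, hUmax⟩ := Set.Finite.exists_le_maximal (Set.toFinite s) hbot
  obtain ⟨⟨hUinv, hUti⟩, hmax⟩ := hUmax
  have hsub : MaxTS.orth Q U ≤ U := by
    intro v hv
    rw [MaxTS.mem_orth] at hv
    have hmem : U ⊔ orbitSub K v ∈ s := by
      refine ⟨hUinv.sup (kinv_orbitSub K v), ?_⟩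
      intro a ha b hb
      obtain ⟨u, hu, w, hw, rfl⟩ := Submodule.mem_sup.mp ha
      obtain ⟨u', hu', w', hw', rfl⟩ := Submodule.mem_sup.mp hb
      obtain ⟨k, hk, rfl⟩ := (mem_orbitSub K v w).mp hw
      obtain ⟨k', hk', rfl⟩ := (mem_orbitSub K v w').mp hw'
      have e1 : polar ⇑Q u (k' *ᵥ v) = 0 := by
        rw [polar_comm, hsa k' hk', polar_comm]
        exact hv _ (hUinv k' hk' u hu)
      have e2 : polar ⇑Q (k *ᵥ v) u' = 0 := by
        rw [hsa k hk, polar_comm]
        exact hv _ (hUinv k hk u' hu')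
      have e3 : polar ⇑Q (k *ᵥ v) (k' *ᵥ v) = 0 := by
        rw [hsa k hk, Matrix.mulVec_mulVec, polar_comm]
        exact halt _ (K.mul_mem hk hk') v
      rw [polar_add_left, polar_add_right, polar_add_right, hUti u hu u' hu', e1, e2, e3]
      ring
    exact hmax hmem le_sup_left (Submodule.mem_sup_right (self_mem_orbitSub K v))
  have hsup : U ≤ MaxTS.orth Q U := by
    intro u hu
    rw [MaxTS.mem_orth]
    intro w hw
    exact hUti w hw u hu
  have heq : MaxTS.orth Q U = U := le_antisymm hsub hsup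
  have h1 := MaxTS.finrank_orth Q hnd U
  rw [heq, Module.finrank_fintype_fun_eq_card, hcard] at h1
  have h3 : finrank F U ≤ finrank F (ι → F) := Submodule.finrank_le U
  rw [Module.finrank_fintype_fun_eq_card, hcard] at h3
  have hdim : finrank F U = m := by omega
  obtain ⟨a, ha⟩ := dvd_finrank_of_kinv (by norm_num) hK hUinv
  obtain ⟨b, hb⟩ := hm
  omega

end char2

/-- in plus type there is no quadratic field subalgebra of unitary type when half the dimension
is odd -/
theorem no_unitary_plus [Fintype F] (hnd : (polarBilin Q).Nondegenerate)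
    {m : ℕ} (hcard : Fintype.card ι = 2 * m) (hm : Odd m)
    (hplus : Cfsg.Geo.IsPlusTypeOn ⇑Q ⊤)
    {K : Subalgebra F (Matrix ι ι F)} (hK : Cfsg.Geo.IsFieldSubalgebra 2 K)
    (hac : Cfsg.Geo.IsAdjointClosedFor (polar ⇑Q) K)
    (hsim : ∀ k ∈ K, ∃ c : F, ∀ v : ι → F, Q (k *ᵥ v) = c * Q v) : False := by
  classical
  have hV : finrank F (ι → F) = 2 * m := by
    rw [Module.finrank_fintype_fun_eq_card, hcard]
  set s : Set (Submodule F (ι → F)) := {T | KInv K T ∧ ∀ u ∈ T, Q u = 0} with hs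
  have hbot : (⊥ : Submodule F (ι → F)) ∈ s := by
    refine ⟨kinv_bot K, ?_⟩
    intro u hu
    rw [Submodule.mem_bot] at hu
    rw [hu, map_zero]
  obtain ⟨T, -, hTmax⟩ := Set.Finite.exists_le_maximal (Set.toFinite s) hbot
  obtain ⟨⟨hTinv, hTts⟩, hmax⟩ := hTmax
  have hkey : ∀ v ∈ MaxTS.orth Q T, Q v = 0 → v ∈ T := by
    intro v hv hQv
    rw [MaxTS.mem_orth] at hv
    have hmem : T ⊔ orbitSub K v ∈ s := by
      refine ⟨hTinv.sup (kinv_orbitSub K v), ?_⟩
      intro a ha
      obtain ⟨u, hu, w, hw, rfl⟩ := Submodule.mem_sup.mp ha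
      obtain ⟨k, hk, rfl⟩ := (mem_orbitSub K v w).mp hw
      obtain ⟨c, hc⟩ := hsim k hk
      obtain ⟨k', hk', hadj⟩ := hac k hk
      have e1 : polar ⇑Q u (k *ᵥ v) = 0 := by
        rw [polar_comm, hadj, polar_comm]
        exact hv _ (hTinv k' hk' u hu)
      have : Q (u + k *ᵥ v) = Q u + Q (k *ᵥ v) + polar ⇑Q u (k *ᵥ v) := by
        unfold polar; ring
      rw [this, hTts u hu, hc, hQv, e1]
      ring
    exact hmax hmem le_sup_left (Submodule.mem_sup_right (self_mem_orbitSub K v))
  obtain ⟨U₀, -, hU₀ts, hU₀d⟩ := hplus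
  rw [finrank_top, hV] at hU₀d
  have hU₀m : finrank F U₀ = m := by omega
  have hTle : finrank F T ≤ finrank F U₀ := by
    rw [hU₀m]
    exact MaxTS.finrank_le_of_ts Q hnd m hV T hTts
  obtain ⟨T', hTT', hT'ts, hT'd⟩ := ts_extend hnd hTts hU₀ts hTle
  have hT'T : T' ≤ T := by
    intro v hv
    apply hkey v _ (hT'ts v hv)
    rw [MaxTS.mem_orth]
    intro w hw
    have hw' := hTT' hw
    unfold polar
    rw [hT'ts _ (T'.add_mem hw' hv), hT'ts w hw', hT'ts v hv]; ring
  have heq : T' = T := le_antisymm hT'T hTT'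
  rw [heq, hU₀m] at hT'd
  obtain ⟨a, ha⟩ := dvd_finrank_of_kinv (by norm_num) hK hTinv
  obtain ⟨b, hb⟩ := hm
  omega

end Cfsg.Agent.Lib.Helper8.Oev
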