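import Mathlib
import Cfsg.Prelude
import Cfsg.Agent.Lib.Helper8.OevS7
import Cfsg.Agent.Lib.Helper2.OevU
import Cfsg.Agent.Lib.Helper5.OrthDecompPlanes

set_option autoImplicit false
set_option linter.unusedSectionVars false
set_option linter.unusedVariables false
open Cfsg

/-! Five orthogonal planes in a ten-dimensional space of plus type are hyperbolic. -/

namespace Cfsg.Agent.Lib.Helper8.Oev

open Module QuadraticMap Matrix Cfsg.Agent.Lib.Helper5 Cfsg.Agent.Lib.Helper2.Oev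
open Cfsg.Agent.Lib.Helper2.Omx Cfsg.Agent.Lib.Helper5.AschO
open Cfsg.Agent.Lib.Helper5.OmegaSimple

variable {F : Type*} [Field F] [Fintype F]
variable {Q : QuadraticForm F (Fin 10 → F)} {H : Subgroup (GL (Fin 10) F)}

theorem five_planes_sing (hnd : (polarBilin Q).Nondegenerate)
    (hplus : Cfsg.Geo.IsPlusTypeOn ⇑Q ⊤) {D : Fin 5 → Submodule F (Fin 10 → F)}
    (hD : Cfsg.Geo.IsOrthogonalMDecomposition ⇑Q 2 D) :
    ∀ i, ∃ e ∈ D i, e ≠ 0 ∧ Q e = 0 := by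
  obtain ⟨e₂, he₂⟩ := hD.isometric 0 1
  obtain ⟨e₃, he₃⟩ := hD.isometric 0 2
  obtain ⟨e₄, he₄⟩ := hD.isometric 0 3
  have ho : ∀ i j : Fin 5, i ≠ j → Orth Q (D i) (D j) := fun i j hij => orth_of_decomp hD hij
  have hN : ∀ i : Fin 5, ND Q (D i) := fun i => nd_of_decomp hD i
  have hY : HasTS Q (D 0 ⊔ D 1 ⊔ D 2 ⊔ D 3) (2 * finrank F (D 0)) :=
    hasTS_four e₂ e₃ e₄ he₂ he₃ he₄ (ho 0 1 (by decide)) (ho 0 2 (by decide))
      (ho 0 3 (by decide)) (ho 1 2 (by decide)) (ho 1 3 (by decide)) (ho 2 3 (by decide)) (hN 0)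
  rw [hD.decomp.decomp.finrank_eq 0] at hY
  have horth : Orth Q (D 0 ⊔ D 1 ⊔ D 2 ⊔ D 3) (D 4) :=
    Orth.sup_left (Orth.sup_left (Orth.sup_left (ho 0 4 (by decide)) (ho 1 4 (by decide)))
      (ho 2 4 (by decide))) (ho 3 4 (by decide))
  have hNA : ND Q (D 0 ⊔ D 1 ⊔ D 2 ⊔ D 3) := by
    apply ND.sup (ND.sup (ND.sup (hN 0) (hN 1) (ho 0 1 (by decide))) (hN 2)
      (Orth.sup_left (ho 0 2 (by decide)) (ho 1 2 (by decide)))) (hN 3)
    exact Orth.sup_left (Orth.sup_left (ho 0 3 (by decide)) (ho 1 3 (by decide)))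
      (ho 2 3 (by decide))
  have hdis := disjoint_of_orth hNA horth
  obtain ⟨U, hU4, hUts, hUd⟩ := hasTS_compl hnd hplus hY horth hdis
    (b := 1) (by rw [hD.decomp.decomp.finrank_eq 4]) (by rw [Fintype.card_fin])
  have hUne : U ≠ ⊥ := by
    intro h
    rw [h, finrank_bot] at hUd
    omega
  obtain ⟨x, hx, hx0⟩ := Submodule.exists_mem_ne_zero_of_ne_bot hUne
  intro i
  obtain ⟨e, he⟩ := hD.isometric 4 i
  refine ⟨(e ⟨x, hU4 hx⟩ : D i), (e ⟨x, hU4 hx⟩).2, ?_, ?_⟩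
  · intro h0
    apply hx0
    have : e ⟨x, hU4 hx⟩ = 0 := Subtype.ext h0
    rw [LinearEquiv.map_eq_zero_iff] at this
    exact congrArg Subtype.val this
  · rw [he ⟨x, hU4 hx⟩]
    exact hUts x hx

/-- hyperbolic pairs in each of the planes -/
theorem exists_hyp_pairs {t : ℕ} {D : Fin t → Submodule F (Fin 10 → F)}
    (hD : Cfsg.Geo.IsOrthogonalMDecomposition ⇑Q 2 D)
    (hsing : ∀ i, ∃ e ∈ D i, e ≠ 0 ∧ Q e = 0) :
    ∃ e f : Fin t → Fin 10 → F, (∀ i, e i ∈ D i) ∧ (∀ i, f i ∈ D i) ∧ (∀ i, Q (e i) = 0) ∧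
      (∀ i, Q (f i) = 0) ∧ (∀ i, polar ⇑Q (e i) (f i) = 1) ∧
      ∀ i, ∀ x ∈ D i, ∃ a b : F, x = a • e i + b • f i := by
  choose e he he0 hQe using hsing
  have h := fun i => OrthDecompPlanes.exists_hyp_pair (D i) (hD.decomp.decomp.finrank_eq i)
    (hD.decomp.nondegenerate i) (he i) (he0 i) (hQe i)
  choose f hf hQf hef hspan using h
  exact ⟨e, f, he, hf, hQe, hQf, hef, hspan⟩

end Cfsg.Agent.Lib.Helper8.Oev
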