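import Mathlib
import Cfsg.Prelude
import Cfsg.Agent.Lib.Helper8.OevU1

set_option autoImplicit false
set_option linter.unusedSectionVars false
set_option linter.unusedVariables false
open Cfsg

/-! Five hyperbolic planes over the field with two elements: the stabiliser fixes a non-singular
vector. -/

namespace Cfsg.Agent.Lib.Helper8.Oev

open Module QuadraticMap Matrix Cfsg.Agent.Lib.Helper5 Cfsg.Agent.Lib.Helper2.Oev
open Cfsg.Agent.Lib.Helper2.Omx Cfsg.Agent.Lib.Helper5.AschO
open Cfsg.Agent.Lib.Helper5.OmegaSimple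

variable {F : Type*} [Field F] [Fintype F]
variable {Q : QuadraticForm F (Fin 10 → F)} {H : Subgroup (GL (Fin 10) F)}

theorem field_two (hq : Fintype.card F = 2) (a : F) : a = 0 ∨ a = 1 := by
  by_cases ha : a = 0
  · exact Or.inl ha
  · right
    have h := FiniteField.pow_card_sub_one_eq_one a ha
    rw [hq] at h
    simpa using h

theorem five_planes_two (hq : Fintype.card F = 2) {D : Fin 5 → Submodule F (Fin 10 → F)}
    (hD : Cfsg.Geo.IsOrthogonalMDecomposition ⇑Q 2 D)
    (hsing : ∀ i, ∃ e ∈ D i, e ≠ 0 ∧ Q e = 0) :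
    ∃ v : Fin 10 → F, Q v ≠ 0 ∧
      Cfsg.Geo.decompositionStabilizer D ⊓ isometryGroup F ⇑Q ≤
        Cfsg.Geo.subspaceStabilizer (Submodule.span F {v}) := by
  classical
  obtain ⟨e, f, he, hf, hQe, hQf, hef, hspan⟩ := exists_hyp_pairs hD hsing
  have h2 : (2 : F) = 0 := by
    have : ((2 : ℕ) : F) = 0 := by rw [← hq]; exact Nat.cast_card_eq_zero F
    exact_mod_cast this
  set w : Fin 5 → Fin 10 → F := fun i => e i + f i with hw
  have hwmem : ∀ i, w i ∈ D i := fun i => (D i).add_mem (he i) (hf i)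
  have hQw : ∀ i, Q (w i) = 1 := by
    intro i
    have := OrthDecompPlanes.quad_hyp (hQe i) (hQf i) (hef i) 1 1
    simpa [hw] using this
  have huniq : ∀ i, ∀ x ∈ D i, Q x ≠ 0 → x = w i := by
    intro i x hx hQx
    obtain ⟨a, b, rfl⟩ := hspan i x hx
    rw [OrthDecompPlanes.quad_hyp (hQe i) (hQf i) (hef i)] at hQx
    have ha : a = 1 := by
      rcases field_two hq a with h | h
      · rw [h, zero_mul] at hQx; exact absurd rfl hQx
      · exact h
    have hb : b = 1 := by
      rcases field_two hq b with h | h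
      · rw [h, mul_zero] at hQx; exact absurd rfl hQx
      · exact h
    rw [ha, hb, one_smul, one_smul]
  have horth : ∀ i j, i ≠ j → polar ⇑Q (w i) (w j) = 0 := fun i j hij =>
    hD.decomp.orthogonal i j hij _ (hwmem i) _ (hwmem j)
  refine ⟨∑ i, w i, ?_, ?_⟩
  · rw [OrthDecompPlanes.quad_fsum _ _ (fun a _ b _ hab => horth a b hab)]
    simp only [hQw, Finset.sum_const, Finset.card_univ, Fintype.card_fin]
    have : ((5 : ℕ) • (1 : F)) = 1 := by
      simp only [nsmul_eq_mul, mul_one]
      push_cast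
      linear_combination 2 * h2
    rw [this]
    exact one_ne_zero
  · rintro g ⟨⟨σ, hσ⟩, hiso⟩
    replace hiso := (OrthCard.mem_isometryGroup_iff _ g).mp hiso
    have hgw : ∀ i, (g : Matrix (Fin 10) (Fin 10) F) *ᵥ w i = w (σ i) := by
      intro i
      apply huniq
      · rw [← hσ]
        exact ⟨w i, hwmem i, by rw [Matrix.toLin'_apply]⟩
      · rw [hiso, hQw]; exact one_ne_zero
    have hgv : (g : Matrix (Fin 10) (Fin 10) F) *ᵥ (∑ i, w i) = ∑ i, w i := by
      rw [Matrix.mulVec_sum]
      simp only [hgw]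
      exact Equiv.sum_comp σ w
    apply mem_stab_of_le
    intro x hx
    obtain ⟨a, rfl⟩ := Submodule.mem_span_singleton.mp hx
    rw [Matrix.mulVec_smul, hgv]
    exact Submodule.smul_mem _ a (Submodule.mem_span_singleton_self _)

end Cfsg.Agent.Lib.Helper8.Oev
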