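import Mathlib
import Cfsg.Prelude
import Cfsg.Agent.Lib.Helper8.OevU2

set_option autoImplicit false
set_option linter.unusedSectionVars false
set_option linter.unusedVariables false
open Cfsg

/-! Spans of orthogonal families; five hyperbolic planes over the field with three elements. -/

namespace Cfsg.Agent.Lib.Helper8.Oev

open Module QuadraticMap Matrix Cfsg.Agent.Lib.Helper5 Cfsg.Agent.Lib.Helper2.Oev
open Cfsg.Agent.Lib.Helper2.Omx Cfsg.Agent.Lib.Helper5.AschO
open Cfsg.Agent.Lib.Helper5.OmegaSimple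

section gen
variable {ι : Type} [Fintype ι] [DecidableEq ι] {F : Type*} [Field F]
variable {Q : QuadraticForm F (ι → F)}

theorem orth_span {κ κ' : Type*} (x : κ → ι → F) (y : κ' → ι → F)
    (h : ∀ i j, polar ⇑Q (x i) (y j) = 0) :
    Orth Q (Submodule.span F (Set.range x)) (Submodule.span F (Set.range y)) := by
  intro u hu v hv
  refine Submodule.span_induction ?_ ?_ ?_ ?_ hu
  · rintro _ ⟨i, rfl⟩
    refine Submodule.span_induction ?_ ?_ ?_ ?_ hv
    · rintro _ ⟨j, rfl⟩
      exact h i j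
    · simp [polar]
    · intro a b _ _ ha hb
      rw [polar_add_right, ha, hb, add_zero]
    · intro a b _ hb
      rw [polar_smul_right, hb, smul_zero]
  · simp [polar]
  · intro a b _ _ ha hb
    rw [polar_add_left, ha, hb, add_zero]
  · intro a b _ hb
    rw [polar_smul_left, hb, smul_zero]

theorem li_of_orth {κ : Type*} (w : κ → ι → F)
    (horth : ∀ i j, i ≠ j → polar ⇑Q (w i) (w j) = 0)
    (hself : ∀ i, polar ⇑Q (w i) (w i) ≠ 0) : LinearIndependent F w := by
  apply LinearMap.BilinForm.linearIndependent_of_iIsOrtho (B := polarBilin Q)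
  · intro p p' hpp
    exact horth p p' hpp
  · intro p
    simp only [polarBilin_apply_apply]
    exact hself p

theorem nondegOn_span_orth [Fintype F] {κ : Type*} [Fintype κ] [DecidableEq κ] (w : κ → ι → F)
    (horth : ∀ i j, i ≠ j → polar ⇑Q (w i) (w j) = 0)
    (hself : ∀ i, polar ⇑Q (w i) (w i) ≠ 0) :
    Cfsg.Geo.IsNondegenerateOn (polar ⇑Q) (Submodule.span F (Set.range w)) := by
  intro x hx hx0
  obtain ⟨c, rfl⟩ := (Submodule.mem_span_range_iff_exists_fun F).mp hx
  have hj : ∃ j, c j ≠ 0 := by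
    by_contra hcon
    push Not at hcon
    apply hx0
    simp [hcon]
  obtain ⟨j, hcj⟩ := hj
  have hval : polar ⇑Q (w j) (∑ i, c i • w i) = c j * polar ⇑Q (w j) (w j) := by
    rw [OrthDecompPlanes.polar_fsum_right]
    rw [Finset.sum_eq_single j]
    · rw [polar_smul_right, smul_eq_mul]
    · intro b _ hb
      rw [polar_smul_right, horth j b hb.symm, smul_zero]
    · intro h; exact absurd (Finset.mem_univ j) h
  have hwj : w j ∈ Submodule.span F (Set.range w) := Submodule.subset_span ⟨j, rfl⟩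
  refine ⟨⟨w j, hwj, ?_⟩, ⟨w j, hwj, ?_⟩⟩
  · rw [hval]
    exact mul_ne_zero hcj (hself j)
  · rw [polar_comm, hval]
    exact mul_ne_zero hcj (hself j)

end gen

variable {F : Type*} [Field F] [Fintype F]
variable {Q : QuadraticForm F (Fin 10 → F)} {H : Subgroup (GL (Fin 10) F)}

theorem five_planes_three (hq : Fintype.card F = 3) {D : Fin 5 → Submodule F (Fin 10 → F)}
    (hD : Cfsg.Geo.IsOrthogonalMDecomposition ⇑Q 2 D)
    (hsing : ∀ i, ∃ e ∈ D i, e ≠ 0 ∧ Q e = 0) :
    ∃ D' : Fin 2 → Submodule F (Fin 10 → F),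
      Cfsg.Geo.IsNondegenerateMDecomposition (polar ⇑Q) 5 D' ∧
      Cfsg.Geo.decompositionStabilizer D ⊓ isometryGroup F ⇑Q ≤
        Cfsg.Geo.decompositionStabilizer D' := by
  classical
  obtain ⟨e, f, he, hf, hQe, hQf, hef, hspan⟩ := exists_hyp_pairs hD hsing
  have h3 : (3 : F) = 0 := by
    have : ((3 : ℕ) : F) = 0 := by rw [← hq]; exact Nat.cast_card_eq_zero F
    exact_mod_cast this
  have h2 : (2 : F) ≠ 0 := by
    intro h2
    have : (1 : F) = 0 := by linear_combination h3 - h2
    exact one_ne_zero this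
  set wp : Fin 5 → Fin 10 → F := fun i => (1 : F) • e i + (1 : F) • f i with hwp
  set wm : Fin 5 → Fin 10 → F := fun i => (1 : F) • e i + (-1 : F) • f i with hwm
  have hwpmem : ∀ i, wp i ∈ D i := fun i =>
    (D i).add_mem ((D i).smul_mem _ (he i)) ((D i).smul_mem _ (hf i))
  have hwmmem : ∀ i, wm i ∈ D i := fun i =>
    (D i).add_mem ((D i).smul_mem _ (he i)) ((D i).smul_mem _ (hf i))
  have hQp : ∀ i, Q (wp i) = 1 := by
    intro i
    simp only [hwp]
    rw [OrthDecompPlanes.quad_hyp (hQe i) (hQf i) (hef i)]; ring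
  have hQm : ∀ i, Q (wm i) = -1 := by
    intro i
    simp only [hwm]
    rw [OrthDecompPlanes.quad_hyp (hQe i) (hQf i) (hef i)]; ring
  have hpm : ∀ i, polar ⇑Q (wp i) (wm i) = 0 := by
    intro i
    simp only [hwp, hwm]
    rw [OrthDecompPlanes.polar_hyp (hQe i) (hQf i) (hef i)]; ring
  have hblock : ∀ i j, i ≠ j → ∀ x ∈ D i, ∀ y ∈ D j, polar ⇑Q x y = 0 :=
    fun i j hij x hx y hy => hD.decomp.orthogonal i j hij x hx y hy
  have hpp : ∀ i j, i ≠ j → polar ⇑Q (wp i) (wp j) = 0 :=
    fun i j hij => hblock i j hij _ (hwpmem i) _ (hwpmem j)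
  have hmm : ∀ i j, i ≠ j → polar ⇑Q (wm i) (wm j) = 0 :=
    fun i j hij => hblock i j hij _ (hwmmem i) _ (hwmmem j)
  have hpm' : ∀ i j, polar ⇑Q (wp i) (wm j) = 0 := by
    intro i j
    by_cases hij : i = j
    · subst hij; exact hpm i
    · exact hblock i j hij _ (hwpmem i) _ (hwmmem j)
  have hpself : ∀ i, polar ⇑Q (wp i) (wp i) ≠ 0 := by
    intro i
    rw [polar_self, hQp]
    simpa using h2
  have hmself : ∀ i, polar ⇑Q (wm i) (wm i) ≠ 0 := by
    intro i
    rw [polar_self, hQm]
    simpa using h2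
  -- uniqueness of the vectors of norm `1` and `-1`
  have hone : ∀ a b : F, a * b = 1 → (a = 1 ∧ b = 1) ∨ (a = -1 ∧ b = -1) := by
    intro a b hab
    have ha0 : a ≠ 0 := by rintro rfl; simp at hab
    have hb0 : b ≠ 0 := by rintro rfl; simp at hab
    rcases field_three hq a with h | h | h
    · exact absurd h ha0
    · left; refine ⟨h, ?_⟩; rw [h, one_mul] at hab; exact hab
    · right; refine ⟨h, ?_⟩; rw [h] at hab; linear_combination -hab
  have hmone : ∀ a b : F, a * b = -1 → (a = 1 ∧ b = -1) ∨ (a = -1 ∧ b = 1) := by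
    intro a b hab
    have ha0 : a ≠ 0 := by rintro rfl; simp at hab
    rcases field_three hq a with h | h | h
    · exact absurd h ha0
    · left; refine ⟨h, ?_⟩; rw [h, one_mul] at hab; exact hab
    · right; refine ⟨h, ?_⟩; rw [h] at hab; linear_combination -hab
  have hup : ∀ i, ∀ x ∈ D i, Q x = 1 → x = wp i ∨ x = -wp i := by
    intro i x hx hQx
    obtain ⟨a, b, rfl⟩ := hspan i x hx
    rw [OrthDecompPlanes.quad_hyp (hQe i) (hQf i) (hef i)] at hQx
    rcases hone a b hQx with ⟨rfl, rfl⟩ | ⟨rfl, rfl⟩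
    · left; rfl
    · right; simp only [hwp]; rw [neg_add, ← neg_smul, ← neg_smul]
  have hum : ∀ i, ∀ x ∈ D i, Q x = -1 → x = wm i ∨ x = -wm i := by
    intro i x hx hQx
    obtain ⟨a, b, rfl⟩ := hspan i x hx
    rw [OrthDecompPlanes.quad_hyp (hQe i) (hQf i) (hef i)] at hQx
    rcases hmone a b hQx with ⟨rfl, rfl⟩ | ⟨rfl, rfl⟩
    · left; rfl
    · right; simp only [hwm]; rw [neg_add, ← neg_smul, ← neg_smul, neg_neg]
  set Wp := Submodule.span F (Set.range wp) with hWp
  set Wm := Submodule.span F (Set.range wm) with hWm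
  have hlip := li_of_orth wp hpp hpself
  have hlim := li_of_orth wm hmm hmself
  have hdp : finrank F Wp = 5 := by rw [hWp, finrank_span_eq_card hlip, Fintype.card_fin]
  have hdm : finrank F Wm = 5 := by rw [hWm, finrank_span_eq_card hlim, Fintype.card_fin]
  have hNp := nondegOn_span_orth wp hpp hpself
  have hNm := nondegOn_span_orth wm hmm hmself
  have horth : Orth Q Wp Wm := orth_span wp wm hpm'
  have hdis : Disjoint Wp Wm := disjoint_of_orth (nd_of_nondegOn hNp) horth
  have hsup : Wp ⊔ Wm = ⊤ := by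
    apply Submodule.eq_top_of_finrank_eq
    have h1 := Submodule.finrank_sup_add_finrank_inf_eq Wp Wm
    rw [hdis.eq_bot, finrank_bot, hdp, hdm] at h1
    rw [Module.finrank_fintype_fun_eq_card, Fintype.card_fin]
    omega
  refine ⟨![Wp, Wm], ⟨pair_isMDecomposition (by norm_num) hdp hdm hdis hsup, ?_, ?_⟩, ?_⟩
  · intro i
    fin_cases i
    · exact hNp
    · exact hNm
  · intro i j hij
    fin_cases i <;> fin_cases j
    · exact absurd rfl hij
    · exact horth
    · exact horth.symm
    · exact absurd rfl hij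
  · rintro g ⟨⟨σ, hσ⟩, hiso⟩
    replace hiso := (OrthCard.mem_isometryGroup_iff _ g).mp hiso
    have hgmem : ∀ i, ∀ x ∈ D i, (g : Matrix (Fin 10) (Fin 10) F) *ᵥ x ∈ D (σ i) := by
      intro i x hx
      rw [← hσ]
      exact ⟨x, hx, by rw [Matrix.toLin'_apply]⟩
    apply mem_decompStab_pair
    · apply mem_stab_of_le
      intro x hx
      refine Submodule.span_induction ?_ ?_ ?_ ?_ hx
      · rintro _ ⟨i, rfl⟩
        rcases hup (σ i) _ (hgmem i _ (hwpmem i)) (by rw [hiso, hQp]) with h | h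
        · rw [h]; exact Submodule.subset_span ⟨σ i, rfl⟩
        · rw [h]; exact Submodule.neg_mem _ (Submodule.subset_span ⟨σ i, rfl⟩)
      · rw [Matrix.mulVec_zero]; exact Submodule.zero_mem _
      · intro a b _ _ ha hb
        rw [Matrix.mulVec_add]; exact Submodule.add_mem _ ha hb
      · intro a b _ hb
        rw [Matrix.mulVec_smul]; exact Submodule.smul_mem _ a hb
    · apply mem_stab_of_le
      intro x hx
      refine Submodule.span_induction ?_ ?_ ?_ ?_ hx
      · rintro _ ⟨i, rfl⟩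
        rcases hum (σ i) _ (hgmem i _ (hwmmem i)) (by rw [hiso, hQm]) with h | h
        · rw [h]; exact Submodule.subset_span ⟨σ i, rfl⟩
        · rw [h]; exact Submodule.neg_mem _ (Submodule.subset_span ⟨σ i, rfl⟩)
      · rw [Matrix.mulVec_zero]; exact Submodule.zero_mem _
      · intro a b _ _ ha hb
        rw [Matrix.mulVec_add]; exact Submodule.add_mem _ ha hb
      · intro a b _ hb
        rw [Matrix.mulVec_smul]; exact Submodule.smul_mem _ a hb

end Cfsg.Agent.Lib.Helper8.Oev
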