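import Mathlib
import Cfsg.Prelude
import Cfsg.Agent.Lib.Helper8.OevU3
import Cfsg.Agent.Lib.Helper5.OrthDecompFour
import Cfsg.Agent.Lib.Helper5.OrthDecompFive
import Cfsg.Agent.Lib.Helper5.OrthSubmax
import Cfsg.Agent.Lib.Helper5.OrthParity
import Cfsg.Agent.Lib.Helper2.OevS

set_option autoImplicit false
set_option linter.unusedSectionVars false
set_option linter.unusedVariables false
open Cfsg

/-! Class 2 and class 1a for the plus-type row in dimension ten. -/

namespace Cfsg.Agent.Lib.Helper8.Oev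

open Module QuadraticMap Matrix Cfsg.Agent.Lib.Helper5 Cfsg.Agent.Lib.Helper2.Oev
open Cfsg.Agent.Lib.Helper2.Omx Cfsg.Agent.Lib.Helper5.AschO
open Cfsg.Agent.Lib.Helper5.OmegaSimple

variable {F : Type*} [Field F] [Fintype F]
variable {Q : QuadraticForm F (Fin 10 → F)} {H : Subgroup (GL (Fin 10) F)}

/-- ten isometric orthogonal lines in a space of plus type: `q ≡ 1 mod 4` -/
theorem mod4_of_plus_frame (hq : Odd (Fintype.card F)) (hnd : (polarBilin Q).Nondegenerate)
    (hplus : Cfsg.Geo.IsPlusTypeOn ⇑Q ⊤) {D : Fin 10 → Submodule F (Fin 10 → F)}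
    (hD : Cfsg.Geo.IsOrthogonalMDecomposition ⇑Q 1 D) : Fintype.card F % 4 = 1 := by
  classical
  have h2 : (2 : F) ≠ 0 := two_ne_zero_of_odd' hq
  obtain ⟨x0, hx0, hQx0⟩ := exists_nonsingular_in_block hD.decomp 0
  choose e he using fun i => hD.isometric 0 i
  set x : Fin 10 → Fin 10 → F := fun i => ((e i ⟨x0, hx0⟩ : D i) : Fin 10 → F) with hx
  have hxmem : ∀ i, x i ∈ D i := fun i => (e i ⟨x0, hx0⟩).2
  have hQx : ∀ i, Q (x i) = Q x0 := fun i => he i ⟨x0, hx0⟩
  have horth : ∀ i j, i ≠ j → polar ⇑Q (x i) (x j) = 0 :=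
    fun i j hij => hD.decomp.orthogonal i j hij _ (hxmem i) _ (hxmem j)
  have hself : ∀ i, polar ⇑Q (x i) (x i) = 2 * Q x0 := by
    intro i
    rw [polar_self, hQx]; simp
  have hself0 : ∀ i, polar ⇑Q (x i) (x i) ≠ 0 := by
    intro i
    rw [hself]
    exact mul_ne_zero h2 hQx0
  have hli := li_of_orth x horth hself0
  have hcard : Fintype.card (Fin 10) = finrank F (Fin 10 → F) := by
    rw [Module.finrank_fintype_fun_eq_card]
  let b : Basis (Fin 10) F (Fin 10 → F) := basisOfLinearIndependentOfCardEqFinrank hli hcard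
  have hb : ∀ p, b p = x p := by
    intro p
    simp only [b, coe_basisOfLinearIndependentOfCardEqFinrank]
  have hM : LinearMap.BilinForm.toMatrix b (polarBilin Q) =
      (2 * Q x0) • (1 : Matrix (Fin 10) (Fin 10) F) := by
    ext i j
    rw [LinearMap.BilinForm.toMatrix_apply, hb, hb, polarBilin_apply_apply]
    by_cases hij : i = j
    · subst hij
      rw [hself]; simp
    · rw [horth i j hij]
      simp [Matrix.one_apply_ne hij]
  have hsq : IsSquare (LinearMap.BilinForm.toMatrix b (polarBilin Q)).det := by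
    rw [hM, Matrix.det_smul, Matrix.det_one, mul_one, Fintype.card_fin]
    exact ⟨(2 * Q x0) ^ 5, by ring⟩
  have hsymm : LinearMap.BilinForm.IsSymm (polarBilin Q) := by
    constructor
    intro u v
    simp [polar_comm]
  obtain ⟨U, -, hUts, hUd⟩ := hplus
  have hV : finrank F (Fin 10 → F) = 2 * (2 * 2 + 1) := by
    rw [Module.finrank_fintype_fun_eq_card, Fintype.card_fin]
  rw [finrank_top, hV] at hUd
  have hev := (DiscType.isSquare_det_iff_of_isotropic hq (polarBilin Q) hnd hsymm (2 * 2 + 1) hV b U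
    (by omega) (by
      intro u hu v hv
      simp only [polarBilin_apply_apply, polar]
      rw [hUts _ (U.add_mem hu hv), hUts u hu, hUts v hv]; ring)).mp hsq
  exact (even_half_iff _ 2 hq).mp hev

theorem cls2f_plus (Hy : Hyp Q) (hnd : (polarBilin Q).Nondegenerate)
    (hplus : Cfsg.Geo.IsPlusTypeOn ⇑Q ⊤)
    (hH : Cfsg.Geo.IsMaximalIn (Cfsg.Geo.omegaGL ⇑Q) H)
    {t : ℕ} {D : Fin t → Submodule F (Fin 10 → F)} (hp : (Fintype.card F).Prime)
    (h2 : (2 : F) ≠ 0) (hD : Cfsg.Geo.IsOrthogonalMDecomposition ⇑Q 1 D)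
    (hle : H ≤ Cfsg.Geo.decompositionStabilizer D) : PlusRow ⇑Q H := by
  have hcard := card_blocks hD
  rw [Fintype.card_fin, mul_one] at hcard
  subst hcard
  have hq := odd_of_two_ne_zero h2
  have h1 := mod4_of_plus_frame hq hnd hplus hD
  exact PlusRow.p7 ⟨⟨_, hp, rfl, h1⟩, D, hD, eq_inf_of_le hH hle
    (not_le_decomp Hy h2 hD.decomp.decomp)⟩

theorem cls2a_plus (Hy : Hyp Q) (hnd : (polarBilin Q).Nondegenerate)
    (hplus : Cfsg.Geo.IsPlusTypeOn ⇑Q ⊤)
    (hH : Cfsg.Geo.IsMaximalIn (Cfsg.Geo.omegaGL ⇑Q) H)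
    {t k : ℕ} {D : Fin t → Submodule F (Fin 10 → F)} (hk : 1 < k)
    (hD : Cfsg.Geo.IsOrthogonalMDecomposition ⇑Q k D)
    (hle : H ≤ Cfsg.Geo.decompositionStabilizer D) : PlusRow ⇑Q H := by
  have hcard := card_blocks hD
  rw [Fintype.card_fin] at hcard
  rcases blocks_cases hcard hD.decomp.decomp.two_le hk with ⟨rfl, rfl⟩ | ⟨rfl, rfl⟩
  · obtain ⟨hq, hiff⟩ := iso_pair_type hnd hD
    exact PlusRow.p9 ⟨hiff.mp hplus, D, hD, eq_inf_of_le hH hle
      (not_le_decomp' Hy hD.decomp.decomp (by norm_num))⟩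
  · have hsing := five_planes_sing hnd hplus hD
    have hleI : H ≤ Cfsg.Geo.decompositionStabilizer D ⊓ isometryGroup F ⇑Q :=
      le_inf hle (le_isom hH)
    by_cases h7 : 7 ≤ Fintype.card F
    · exact PlusRow.p8 ⟨h7, D, hD, eq_inf_of_le hH hle (not_le_five_planes Hy hD)⟩
    · have hq1 : 1 < Fintype.card F := Fintype.one_lt_card
      have hpp : IsPrimePow (Fintype.card F) := FiniteField.isPrimePow_card F
      have hcases : Fintype.card F = 2 ∨ Fintype.card F = 3 ∨ Fintype.card F = 4 ∨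
          Fintype.card F = 5 := by
        have h6 : Fintype.card F ≠ 6 := by
          intro h6
          rw [h6] at hpp
          have : ¬ IsPrimePow 6 := by
            rw [isPrimePow_nat_iff]
            rintro ⟨p, k, hp, hk, hpk⟩
            have h2 : 2 ∣ p ^ k := by rw [hpk]; norm_num
            have h3 : 3 ∣ p ^ k := by rw [hpk]; norm_num
            have h2' := (Nat.prime_dvd_prime_iff_eq Nat.prime_two hp).mp
              (Nat.Prime.dvd_of_dvd_pow Nat.prime_two h2)
            have h3' := (Nat.prime_dvd_prime_iff_eq Nat.prime_three hp).mp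
              (Nat.Prime.dvd_of_dvd_pow Nat.prime_three h3)
            omega
          exact this hpp
        omega
      rcases hcases with hq | hq | hq | hq
      · obtain ⟨v, hv, hsub⟩ := five_planes_two hq hD hsing
        have h2 : (2 : F) = 0 := by
          have : ((2 : ℕ) : F) = 0 := by rw [← hq]; exact Nat.cast_card_eq_zero F
          exact_mod_cast this
        exact PlusRow.p6 (cls1c_eq Hy hH h2 hv (hleI.trans hsub))
      · obtain ⟨D', hD', hsub⟩ := five_planes_three hq hD hsing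
        have hodd : Odd (Fintype.card F) := by rw [hq]; decide
        have hEq : H = Cfsg.Geo.decompositionStabilizer D' ⊓ Cfsg.Geo.omegaGL ⇑Q :=
          eq_inf_of_le hH (hleI.trans hsub) (not_le_decomp' Hy hD'.decomp (by norm_num))
        rcases five_five_type hodd hnd hD' with ⟨hiso, hiff⟩ | ⟨hniso, hiff⟩
        · have := hiff.mp hplus
          omega
        · exact PlusRow.p10 ⟨hiff.mp hplus, D', hD', hniso, hEq⟩
      · exact (absurd_of_not_maximal hH hle
          (OrthDecompFour.not_maximal_plane_four hq Hy hD.decomp (by norm_num) hsing)).elim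
      · exact (absurd_of_not_maximal hH hle
          (OrthDecompFive.not_maximal_plane_five hq Hy hD (by norm_num) (hsing _))).elim

theorem cls1a_plus (Hy : Hyp Q) (hnd : (polarBilin Q).Nondegenerate)
    (hplus : Cfsg.Geo.IsPlusTypeOn ⇑Q ⊤)
    (hH : Cfsg.Geo.IsMaximalIn (Cfsg.Geo.omegaGL ⇑Q) H)
    {W : Submodule F (Fin 10 → F)} (hW0 : W ≠ ⊥)
    (hts : Cfsg.Geo.IsTotallySingularQuad ⇑Q W)
    (hle : H ≤ Cfsg.Geo.subspaceStabilizer W) : PlusRow ⇑Q H := by
  by_cases h4 : finrank F W = 4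
  · exfalso
    obtain ⟨U, -, hUts, hUd⟩ := hplus
    have hV : finrank F (Fin 10 → F) = 2 * 5 := by
      rw [Module.finrank_fintype_fun_eq_card, Fintype.card_fin]
    rw [finrank_top, hV] at hUd
    exact absurd_of_not_maximal hH hle
      (OrthSubmax.not_maximal Hy 5 (by norm_num) hV U ⟨by omega, hUts⟩ W hts (by omega))
  · exact PlusRow.p1 ⟨W, hW0, hts, h4, stab_eq Hy hH hW0 (ts_ne_top hnd hts) hle⟩

theorem cls2b_plus (Hy : Hyp Q) (hnd : (polarBilin Q).Nondegenerate)
    (hH : Cfsg.Geo.IsMaximalIn (Cfsg.Geo.omegaGL ⇑Q) H)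
    {k : ℕ} {D : Fin 2 → Submodule F (Fin 10 → F)} (hD : Cfsg.Geo.IsMDecomposition k D)
    (hts : ∀ i, Cfsg.Geo.IsTotallySingularQuad ⇑Q (D i))
    (hle : H ≤ Cfsg.Geo.decompositionStabilizer D) : PlusRow ⇑Q H := by
  have hk : 2 * k = 10 := by
    have := OrthFrameThree.card_blocks' hD
    rw [Fintype.card_fin] at this
    exact this
  have hk5 : k = 5 := by omega
  subst hk5
  have hV : finrank F (Fin 10 → F) = 2 * 5 := by
    rw [Module.finrank_fintype_fun_eq_card, Fintype.card_fin]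
  have hlt := OrthParity.pair_stab_lt Hy (by norm_num) (by decide) hV hD hts
  have hW0 : D 0 ≠ ⊥ := by
    intro h
    have := hD.finrank_eq 0
    rw [h, finrank_bot] at this
    omega
  have hle0 : H ≤ Cfsg.Geo.subspaceStabilizer (D 0) := by
    intro g hg
    exact (hlt.le ⟨hle hg, hH.1.le hg⟩).1
  exact PlusRow.p1 ⟨D 0, hW0, hts 0, by rw [hD.finrank_eq 0]; norm_num,
    stab_eq Hy hH hW0 (ts_ne_top hnd (hts 0)) hle0⟩

end Cfsg.Agent.Lib.Helper8.Oev
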