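import Mathlib
import Cfsg.Prelude
import Cfsg.Agent.Lib.Helper8.OevZ1
import Cfsg.Agent.Lib.Helper8.OevU4

set_option autoImplicit false
set_option linter.unusedSectionVars false
set_option linter.unusedVariables false
open Cfsg

/-! Assembly of the plus-type row in dimension ten, modulo the diversion of the self-adjoint
fields of degree five. -/

namespace Cfsg.Agent.Lib.Helper8.Oev

open Module QuadraticMap Matrix Cfsg.Agent.Lib.Helper5 Cfsg.Agent.Lib.Helper2.Oev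
open Cfsg.Agent.Lib.Helper2.Omx Cfsg.Agent.Lib.Helper5.AschO Cfsg.Agent.Lib.Helper5.AschE
open Cfsg.Agent.Lib.Helper5.OmegaSimple

variable {F : Type*} [Field F] [Fintype F]

theorem plus_row_core (Q : QuadraticForm F (Fin 10 → F))
    (hnd : (polarBilin Q).Nondegenerate) (hplus : Cfsg.Geo.IsPlusTypeOn ⇑Q ⊤)
    (H : Subgroup (GL (Fin 10) F)) (hH : Cfsg.Geo.IsMaximalIn (Cfsg.Geo.omegaGL ⇑Q) H)
    (h5 : FiveDivert Q) : PlusRow ⇑Q H := by
  classical
  have Hy : Hyp Q := OrthBridge.hyp_of_nondeg hnd (by rw [Fintype.card_fin]; norm_num)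
  have hGdet : (gramQ Q).det ≠ 0 := gramQ_det Q hnd
  have hHΩ : H ≤ Cfsg.Geo.omegaGL ⇑Q := hH.1.le
  have hc10 : Fintype.card (Fin 10) = 2 * 5 := by rw [Fintype.card_fin]
  rcases even_main' Q hGdet
    (fun r m hr => by rw [Fintype.card_fin]; exact not_prime_pow_ten r m hr)
    (fun k t ht => by rw [Fintype.card_fin]; exact not_pow_ten k t ht) H hHΩ with
    ⟨M, hM, hle⟩ | hres
  swap
  · exact PlusRow.p13 hres
  rcases hM with h | h | h | h | h | h | h | h | h | h | h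
  · -- 1a
    obtain ⟨W, hW0, hts, rfl⟩ := h
    exact cls1a_plus Hy hnd hplus hH hW0 hts (hle.trans inf_le_left)
  · -- 1b
    obtain ⟨W, hW0, hW1, hW, rfl⟩ := h
    rcases cls1b_cases Hy hnd hH hW0 hW1 hW (hle.trans inf_le_left) with
      h | h | h | h | h | ⟨hq, D, hD, hEq⟩
    · exact PlusRow.p2 h
    · exact PlusRow.p3 h
    · exact PlusRow.p4 h
    · exact PlusRow.p5 h
    · exact PlusRow.p6 h
    · rcases five_five_type hq hnd hD with ⟨hiso, hiff⟩ | ⟨hniso, hiff⟩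
      · exact PlusRow.p9 ⟨hiff.mp hplus, D, hiso, hEq⟩
      · exact PlusRow.p10 ⟨hiff.mp hplus, D, hD, hniso, hEq⟩
  · -- 1c
    obtain ⟨h2, v, hv, rfl⟩ := h
    exact PlusRow.p6 (cls1c_eq Hy hH h2 hv (hle.trans inf_le_left))
  · -- 2a
    obtain ⟨t, k, D, hk, hD, rfl⟩ := h
    exact cls2a_plus Hy hnd hplus hH hk hD (hle.trans inf_le_left)
  · -- 2f
    obtain ⟨t, D, hp, h2, hD, rfl⟩ := h
    exact cls2f_plus Hy hnd hplus hH hp h2 hD (hle.trans inf_le_left)
  · -- 2b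
    obtain ⟨k, D, hD, hts, rfl⟩ := h
    exact cls2b_plus Hy hnd hH hD hts (hle.trans inf_le_left)
  · -- 3a
    obtain ⟨r, K, hr, hK, hsa, rfl⟩ := h
    have hdvd := dvd_of_fieldSubalgebra' hr.pos hK
    rw [Fintype.card_fin] at hdvd
    rcases prime_dvd_ten hr hdvd with rfl | rfl
    · by_cases hq : Odd (Fintype.card F)
      · exact PlusRow.p11 ⟨hq, K, hK, hsa, cls3b_eq Hy hH hK (hle.trans inf_le_left)⟩
      · exact (no_self_adjoint_two_char2 hnd (two_eq_zero_of_not_odd hq) (m := 5)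
          hc10 (by decide) hK hsa).elim
    · obtain ⟨M, hM, hKM⟩ := h5 K hK hsa
      have hleM : H ≤ M := hle.trans hKM
      rcases hM with ⟨k, D, hD, hts, rfl⟩ | ⟨K', hK', hac, hnsa, hsim, rfl⟩
      · exact cls2b_plus Hy hnd hH hD hts (hleM.trans inf_le_left)
      · exact (no_unitary_plus hnd (m := 5) hc10 (by decide) hplus hK' hac hsim).elim
  · -- 3b
    obtain ⟨K, hK, hac, hnsa, hsim, rfl⟩ := h
    exact (no_unitary_plus hnd (m := 5) hc10 (by decide) hplus hK hac hsim).elim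
  · -- 4a'
    obtain ⟨n₁, n₂, e, P, f₁, f₂, h1, h12, h2, hf₁, hf₂, hT, rfl⟩ := h
    exfalso
    have hc := card_of_tensor_equiv e
    rw [Fintype.card_fin] at hc
    have : n₁ ≤ 3 := by
      by_contra hcon
      have : 4 * 5 ≤ n₁ * n₂ := Nat.mul_le_mul (by omega) (by omega)
      omega
    have hn1 : n₁ = 3 := by omega
    subst hn1
    omega
  · -- 4b
    obtain ⟨n₁, n₂, e, P, f₁, f₂, h1, h12, hf₁, hf₂, hT, hpure, rfl⟩ := h
    exact (cls4b_false e hf₁ hf₂).elim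
  · -- 5
    obtain ⟨F₀, r, P, ζ, hr, hcard, hζ, hR, rfl⟩ := h
    exact PlusRow.p12 ⟨F₀, r, P, ζ, hr, hcard, hζ, hR,
      cls5_eq Hy hH hr hcard (hle.trans inf_le_left)⟩

end Cfsg.Agent.Lib.Helper8.Oev
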