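import Mathlib
import Cfsg.Prelude
import Cfsg.Agent.Lib.Helper8.OevZ2
import Cfsg.Agent.Lib.Helper5.AschE.Classes3

set_option autoImplicit false
set_option linter.unusedSectionVars false
set_option linter.unusedVariables false
open Cfsg

/-! The two rows in dimension ten. -/

namespace Cfsg.Agent.Lib.Helper8.Oev

open Module QuadraticMap Matrix Cfsg.Agent.Lib.Helper5 Cfsg.Agent.Lib.Helper5.AschO
open Cfsg.Agent.Lib.Helper5.AschE

variable {F : Type*} [Field F] [Fintype F]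

theorem five_divert (Q : QuadraticForm F (Fin 10 → F)) (hnd : (polarBilin Q).Nondegenerate) :
    FiveDivert Q := fun K hK hsa =>
  divert_field_half Q (gramQ_det Q hnd) (by decide : Odd 5) (by rw [Fintype.card_fin]) hK hsa

theorem minus_row (Q : QuadraticForm F (Fin 10 → F))
    (hnd : (polarBilin Q).Nondegenerate) (hminus : ¬ Cfsg.Geo.IsPlusTypeOn ⇑Q ⊤)
    (H : Subgroup (GL (Fin 10) F)) (hH : Cfsg.Geo.IsMaximalIn (Cfsg.Geo.omegaGL ⇑Q) H) :
    MinusRow ⇑Q H :=
  minus_row_core Q hnd hminus H hH (five_divert Q hnd)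

theorem plus_row (Q : QuadraticForm F (Fin 10 → F))
    (hnd : (polarBilin Q).Nondegenerate) (hplus : Cfsg.Geo.IsPlusTypeOn ⇑Q ⊤)
    (H : Subgroup (GL (Fin 10) F)) (hH : Cfsg.Geo.IsMaximalIn (Cfsg.Geo.omegaGL ⇑Q) H) :
    PlusRow ⇑Q H :=
  plus_row_core Q hnd hplus H hH (five_divert Q hnd)

end Cfsg.Agent.Lib.Helper8.Oev
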