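import Mathlib
import Cfsg.Agent.Lib.Helper7.Small2
import Cfsg.Agent.Lib.Lead.JordanCycle

/-! There is no simple group of order `5880 = 2^3 * 3 * 5 * 7^2`. -/

set_option autoImplicit false
set_option maxRecDepth 100000

namespace Cfsg.Agent.Lib.Helper8.Ord5880

open Cfsg.Agent.Lib.Lead Cfsg.Agent.Lib.Lead.SmallSimple Cfsg.Agent.Lib.Lead.SmallSimple2
  Cfsg.Agent.Lib.Lead.SylowCount
  Cfsg.Agent.Lib.Helper7.CountTools Cfsg.Agent.Lib.Helper7.SylPar Cfsg.Agent.Lib.Helper7.Small

variable {G : Type*} [Group G] [Finite G]

/-- The number of points moved by `a` on a finite `G`-set. -/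
lemma card_support_toPerm {X : Type*} [MulAction G X] [Fintype X] [DecidableEq X] (a : G) :
    (MulAction.toPerm a : Equiv.Perm X).support.card + Nat.card (MulAction.fixedBy X a) =
      Fintype.card X := by
  classical
  have h1 : Nat.card (MulAction.fixedBy X a) =
      (Finset.univ.filter (fun Q : X => a • Q = Q)).card := by
    rw [Nat.card_eq_fintype_card]
    exact Fintype.card_subtype _
  have h2 : (MulAction.toPerm a : Equiv.Perm X).support =
      Finset.univ.filter (fun Q : X => ¬ a • Q = Q) := by
    ext Q
    simp [Equiv.Perm.mem_support, MulAction.toPerm_apply]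
  rw [h1, h2, add_comm]
  exact Finset.card_filter_add_card_filter_not (s := (Finset.univ : Finset X)) (fun Q : X => a • Q = Q)

/-- A permutation of prime order `p` moving exactly `p` points is a cycle. -/
lemma isCycle_of_prime {X : Type*} [Fintype X] [DecidableEq X] {p : ℕ} (hp : p.Prime)
    (σ : Equiv.Perm X) (hσ : σ ^ p = 1) (hs : σ.support.card = p) : σ.IsCycle := by
  haveI : Fact p.Prime := ⟨hp⟩
  have hne : σ ≠ 1 := by
    rintro rfl
    rw [Equiv.Perm.support_one, Finset.card_empty] at hs
    exact hp.ne_zero hs.symm
  have hord : orderOf σ = p := orderOf_eq_prime hσ hne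
  obtain ⟨n, hn⟩ := Equiv.Perm.cycleType_prime_order (σ := σ) (by rw [hord]; exact hp)
  have hsum := Equiv.Perm.sum_cycleType σ
  rw [hn, Multiset.sum_replicate, hord, hs, smul_eq_mul] at hsum
  have hn0 : n = 0 := by
    have : (n + 1) * p = 1 * p := by rw [hsum, one_mul]
    have := Nat.eq_of_mul_eq_mul_right hp.pos this
    omega
  apply Equiv.Perm.card_cycleType_eq_one.mp
  rw [hn, hn0]
  simp

variable [IsSimpleGroup G]

theorem not_simple (h : Nat.card G = 5880) : False := by
  classical
  have hG : ¬ IsMulCommutative G := not_comm_of_not_prime (by rw [h]; norm_num)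
  haveI : Fact (Nat.Prime 7) := ⟨by norm_num⟩
  obtain ⟨hdiv, hmod, hne1, hfac⟩ := sylow_data hG (p := 7) (q := 2) h (by norm_num)
    (by norm_num) (by norm_num) (by norm_num)
  have key : ∀ d ∈ Nat.divisors 5880, d % 7 = 1 → d ≠ 1 → 2 * 5880 ∣ d.factorial →
      d = 15 ∨ d = 120 := by
    decide +kernel
  have hcardS : ∀ Q : Sylow 7 G, Nat.card (Q : Subgroup G) = 7 ^ 2 := fun Q =>
    card_sylow_of_card_eq_pow 7 2 120 (h.trans (by norm_num)) (by norm_num) Q
  have hcomm : ∀ Q : Sylow 7 G, ∀ a ∈ (Q : Subgroup G), ∀ b ∈ (Q : Subgroup G),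
      a * b = b * a := by
    intro Q a ha b hb
    have hc := IsPGroup.isMulCommutative_of_card_eq_prime_sq (hcardS Q)
    have := hc.is_comm.comm (⟨a, ha⟩ : (Q : Subgroup G)) ⟨b, hb⟩
    exact congrArg Subtype.val this
  rcases key _ hdiv hmod hne1 hfac with hd | hd
  · -- fifteen Sylow 7-subgroups
    have hnp : ¬ Nat.card (Sylow 7 G) ≡ 1 [MOD 7 ^ 2] := by
      rw [hd]; decide
    obtain ⟨D, P, R, hPR, hD, hDcard, -, -⟩ := big_inter (G := G) (p := 7) (a := 2) (r := 120)
      (by norm_num) (h.trans (by norm_num)) (by norm_num) (by norm_num) hnp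
    have hD7 : Nat.card D = 7 := by omega
    obtain ⟨a', ha'⟩ := exists_prime_orderOf_dvd_card' (G := D) 7 (by rw [hD7])
    set a : G := (a' : G) with ha
    have haD : a ∈ D := a'.2
    have ha1 : a ≠ 1 := by
      intro h1
      have : a' = 1 := Subtype.ext h1
      rw [this, orderOf_one] at ha'
      norm_num at ha'
    have ha7 : a ^ 7 = 1 := by
      have h1 : a' ^ 7 = 1 := by rw [← ha']; exact pow_orderOf_eq_one a'
      have := congrArg Subtype.val h1
      simpa using this
    rw [hD] at haD
    have haP : a ∈ (P : Subgroup G) := (Subgroup.mem_inf.mp haD).1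
    have haR : a ∈ (R : Subgroup G) := (Subgroup.mem_inf.mp haD).2
    have hcP : ∀ x ∈ (P : Subgroup G), x * a = a * x := fun x hx => hcomm P x hx a haP
    have h7 := fix_modEq_one P hcP
    have hlt := fix_lt 7 hne1 ha1
    rw [hd] at hlt
    have hPfix : P ∈ MulAction.fixedBy (Sylow 7 G) a :=
      Sylow.smul_eq_iff_mem_normalizer.mpr (Subgroup.le_normalizer haP)
    have hRfix : R ∈ MulAction.fixedBy (Sylow 7 G) a :=
      Sylow.smul_eq_iff_mem_normalizer.mpr (Subgroup.le_normalizer haR)
    have h2 : 2 ≤ Nat.card (MulAction.fixedBy (Sylow 7 G) a) := by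
      have hsub : ({P, R} : Set (Sylow 7 G)) ⊆ MulAction.fixedBy (Sylow 7 G) a := by
        intro x hx
        rcases hx with rfl | rfl
        · exact hPfix
        · exact hRfix
      have := Set.ncard_le_ncard hsub (Set.toFinite _)
      rw [Set.ncard_pair hPR] at this
      rwa [Nat.card_coe_set_eq]
    have hfix : Nat.card (MulAction.fixedBy (Sylow 7 G) a) = 8 := by
      unfold Nat.ModEq at h7
      omega
    -- the permutation induced by `a` is a 7-cycle
    haveI : Fintype (Sylow 7 G) := Fintype.ofFinite _
    have hcardX : Fintype.card (Sylow 7 G) = 15 := by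
      rw [← Nat.card_eq_fintype_card, hd]
    have hsupp := card_support_toPerm (X := Sylow 7 G) a
    rw [hfix, hcardX] at hsupp
    have hsupp7 : (MulAction.toPerm a : Equiv.Perm (Sylow 7 G)).support.card = 7 := by omega
    set ψ := MulAction.toPermHom G (Sylow 7 G) with hψ
    have hσ7 : (MulAction.toPerm a : Equiv.Perm (Sylow 7 G)) ^ 7 = 1 := by
      show (ψ a) ^ 7 = 1
      rw [← map_pow, ha7, map_one]
    have hcyc := isCycle_of_prime (by norm_num : Nat.Prime 7) _ hσ7 hsupp7
    -- primitivity
    have hnontriv : Nontrivial (Sylow 7 G) := by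
      rw [← Fintype.one_lt_card_iff_nontrivial, hcardX]; norm_num
    have hNcard : Nat.card (Subgroup.normalizer ((P : Subgroup G) : Set G)) = 392 := by
      have h0 : 15 * Nat.card (Subgroup.normalizer ((P : Subgroup G) : Set G)) = 5880 := by
        have h00 := card_sylow_mul_card_normalizer 7 P
        rw [hd, h] at h00
        exact h00
      omega
    have hNidx : (Subgroup.normalizer ((P : Subgroup G) : Set G)).index = 15 := by
      have := Subgroup.card_mul_index (Subgroup.normalizer ((P : Subgroup G) : Set G))
      rw [hNcard, h] at this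
      omega
    have hcoatom : IsCoatom (Subgroup.normalizer ((P : Subgroup G) : Set G)) := by
      constructor
      · intro htop
        rw [htop, Subgroup.index_top] at hNidx
        norm_num at hNidx
      · intro M hM
        by_contra hMtop
        have hdvd : M.index ∣ 15 := by
          rw [← hNidx]; exact Subgroup.index_dvd_of_le hM.le
        have hfacM := Cfsg.Agent.Lib.Lead.PrimeDegree.card_dvd_factorial_index M hMtop
        rw [h] at hfacM
        have hne15 : M.index ≠ 15 := by
          intro h15
          have hrel := Subgroup.relIndex_mul_index hM.le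
          rw [hNidx, h15] at hrel
          have hrel1 : (Subgroup.normalizer ((P : Subgroup G) : Set G)).relIndex M = 1 := by omega
          exact hM.not_ge (Subgroup.relIndex_eq_one.mp hrel1)
        have hcases : M.index = 1 ∨ M.index = 3 ∨ M.index = 5 ∨ M.index = 15 := by
          have : M.index ∈ Nat.divisors 15 := Nat.mem_divisors.mpr ⟨hdvd, by norm_num⟩
          have hdiv15 : Nat.divisors 15 = {1, 3, 5, 15} := by decide
          rw [hdiv15] at this
          simpa using this
        rcases hcases with h1 | h1 | h1 | h1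
        · exact hMtop (Subgroup.index_eq_one.mp h1)
        · rw [h1] at hfacM; norm_num [Nat.factorial] at hfacM
        · rw [h1] at hfacM; norm_num [Nat.factorial] at hfacM
        · exact hne15 h1
    have hprimG : MulAction.IsPreprimitive G (Sylow 7 G) := by
      rw [← MulAction.isCoatom_stabilizer_iff_preprimitive G P, Sylow.stabilizer_eq_normalizer]
      exact hcoatom
    have hprim : MulAction.IsPreprimitive ψ.range (Sylow 7 G) := by
      let f : Sylow 7 G →ₑ[(ψ.rangeRestrict : G → ψ.range)] Sylow 7 G :=
        { toFun := id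
          map_smul' := fun m x => rfl }
      exact MulAction.IsPreprimitive.of_surjective (f := f) Function.surjective_id
    have halt := Cfsg.Agent.Lib.Lead.JordanCycle.jordan_prime_cycle ψ.range hprim
      (by norm_num : Nat.Prime 7) (by rw [hcardX]; norm_num) hcyc hsupp7 ⟨a, rfl⟩
    have h1 : Nat.card (alternatingGroup (Sylow 7 G)) ≤ Nat.card ψ.range :=
      Nat.card_le_card_of_injective (Subgroup.inclusion halt) (Subgroup.inclusion_injective halt)
    have h2' : Nat.card ψ.range ≤ Nat.card G :=
      Nat.card_le_card_of_surjective ψ.rangeRestrict ψ.rangeRestrict_surjective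
    have h3 : 2 * Nat.card (alternatingGroup (Sylow 7 G)) = (Fintype.card (Sylow 7 G)).factorial := by
      rw [Nat.card_eq_fintype_card, two_mul_card_alternatingGroup, Fintype.card_perm]
    rw [hcardX] at h3
    have h15 : Nat.factorial 15 = 1307674368000 := by norm_num [Nat.factorial]
    rw [h15] at h3
    rw [h] at h2'
    omega
  · -- 120 Sylow 7-subgroups: self-normalizing abelian Sylow subgroup
    obtain ⟨P⟩ : Nonempty (Sylow 7 G) := inferInstance
    have hNcard : Nat.card (Subgroup.normalizer ((P : Subgroup G) : Set G)) = 49 := by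
      have h0 : 120 * Nat.card (Subgroup.normalizer ((P : Subgroup G) : Set G)) = 5880 := by
        have h00 := card_sylow_mul_card_normalizer 7 P
        rw [hd, h] at h00
        exact h00
      omega
    have hNP : Subgroup.normalizer ((P : Subgroup G) : Set G) = (P : Subgroup G) := by
      symm
      apply Subgroup.eq_of_le_of_card_ge Subgroup.le_normalizer
      rw [hNcard, hcardS P]; norm_num
    have hle : Subgroup.normalizer ((P : Subgroup G) : Set G) ≤
        Subgroup.centralizer ((P : Subgroup G) : Set G) := by
      rw [hNP]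
      intro x hx
      rw [Subgroup.mem_centralizer_iff]
      intro y hy
      exact hcomm P y hy x hx
    rcases burnside_simple P hle with h1 | h1
    · rw [h, hcardS P] at h1; norm_num at h1
    · rw [hcardS P] at h1; norm_num at h1

end Cfsg.Agent.Lib.Helper8.Ord5880
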