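import Mathlib
import Cfsg.Agent.Lib.Helper8.Ord3780

/-! There is no simple group of order `5940 = 2^2 * 3^3 * 5 * 11`. -/

set_option autoImplicit false
set_option maxRecDepth 100000

namespace Cfsg.Agent.Lib.Helper8.Ord5940

open Cfsg.Agent.Lib.Lead Cfsg.Agent.Lib.Lead.SmallSimple Cfsg.Agent.Lib.Lead.SmallSimple2
  Cfsg.Agent.Lib.Lead.SylowCount
  Cfsg.Agent.Lib.Helper7.CountTools Cfsg.Agent.Lib.Helper7.SylPar Cfsg.Agent.Lib.Helper7.Small
  Cfsg.Agent.Lib.Helper8.Ord3780

/-- In a group of order `r * m` (`r ∤ m`) with a central subgroup `Z` of order prime to `r` and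
`m < (r + 1) |Z|`, the Sylow `r`-subgroup is unique: every element with `y ^ r = 1` lies in the
subgroup generated by any element of order `r`. -/
lemma mem_zpowers_of_central {C : Type*} [Group C] [Finite C] {r m : ℕ} [hr : Fact r.Prime]
    (hcard : Nat.card C = r * m) (hm : ¬ r ∣ m) (Z : Subgroup C)
    (hZ : ∀ z ∈ Z, ∀ x : C, z * x = x * z) (hZr : (Nat.card Z).Coprime r)
    (hlt : m < (r + 1) * Nat.card Z) {c y : C} (hc : orderOf c = r) (hy : y ^ r = 1) :
    y ∈ Subgroup.zpowers c := by
  have hrp := hr.out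
  have hpc : IsPGroup r (Subgroup.zpowers c) :=
    IsPGroup.of_card (n := 1) (by rw [Nat.card_zpowers, hc, pow_one])
  obtain ⟨S, hS⟩ := hpc.exists_le_sylow
  have hScard : Nat.card (S : Subgroup C) = r := card_sylow_of_card_eq r m hcard hm S
  have hSeq : Subgroup.zpowers c = (S : Subgroup C) := by
    apply Subgroup.eq_of_le_of_card_ge hS
    rw [hScard, Nat.card_zpowers, hc]
  have hpy : IsPGroup r (Subgroup.zpowers y) := by
    have hd : orderOf y ∣ r := orderOf_dvd_of_pow_eq_one hy
    rcases (Nat.dvd_prime hrp).mp hd with h1 | h1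
    · exact IsPGroup.of_card (n := 0) (by rw [Nat.card_zpowers, h1, pow_zero])
    · exact IsPGroup.of_card (n := 1) (by rw [Nat.card_zpowers, h1, pow_one])
  obtain ⟨S', hS'⟩ := hpy.exists_le_sylow
  -- the number of Sylow subgroups is one
  have hidx := Sylow.card_eq_index_normalizer S
  have hmod := card_sylow_modEq_one r C
  set N := Subgroup.normalizer ((S : Subgroup C) : Set C) with hN
  have hZN : Z ≤ N := by
    intro z hz
    rw [hN, Subgroup.mem_normalizer_iff]
    intro h
    have : z * h * z⁻¹ = h := by rw [hZ z hz h, mul_inv_cancel_right]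
    rw [this]
  have hSN : (S : Subgroup C) ≤ N := Subgroup.le_normalizer
  have h1 : Nat.card Z ∣ Nat.card N := Subgroup.card_dvd_of_le hZN
  have h2 : r ∣ Nat.card N := by
    have := Subgroup.card_dvd_of_le hSN
    rwa [hScard] at this
  have h3 : Nat.card Z * r ∣ Nat.card N := Nat.Coprime.mul_dvd_of_dvd_of_dvd hZr h1 h2
  obtain ⟨t, ht⟩ := h3
  have h4 : Nat.card N * N.index = r * m := by rw [Subgroup.card_mul_index, hcard]
  have hZpos : 0 < Nat.card Z := Nat.card_pos
  have h5 : Nat.card Z * t * N.index = m := by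
    have : r * (Nat.card Z * t * N.index) = r * m := by rw [← h4, ht]; ring
    exact Nat.eq_of_mul_eq_mul_left hrp.pos this
  have hipos : 0 < N.index := by
    rcases Nat.eq_zero_or_pos N.index with h0 | h0
    · rw [h0, mul_zero] at h5
      exfalso; apply hm; rw [← h5]; exact dvd_zero r
    · exact h0
  have htpos : 0 < t := by
    rcases Nat.eq_zero_or_pos t with h0 | h0
    · rw [h0, mul_zero, zero_mul] at h5
      exfalso; apply hm; rw [← h5]; exact dvd_zero r
    · exact h0
  have h6 : N.index < r + 1 := by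
    by_contra hge
    push Not at hge
    have : (r + 1) * Nat.card Z ≤ m := by
      calc (r + 1) * Nat.card Z ≤ N.index * Nat.card Z := Nat.mul_le_mul_right _ hge
        _ ≤ N.index * (Nat.card Z * t) := Nat.mul_le_mul_left _ (Nat.le_mul_of_pos_right _ htpos)
        _ = m := by rw [← h5]; ring
    omega
  have h7 : Nat.card (Sylow r C) = 1 := by
    rw [hidx]
    rw [hidx] at hmod
    have h8 : N.index % r = 1 % r := hmod
    rw [Nat.mod_eq_of_lt hrp.one_lt] at h8
    rcases Nat.lt_or_ge N.index r with h9 | h9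
    · rw [Nat.mod_eq_of_lt h9] at h8; exact h8
    · have h10 : N.index = r := by omega
      rw [h10, Nat.mod_self] at h8
      omega
  have hsub : Subsingleton (Sylow r C) := (Nat.card_eq_one_iff_unique.mp h7).1
  have hSS' : S' = S := Subsingleton.elim _ _
  rw [hSeq, ← hSS']
  exact hS' (Subgroup.mem_zpowers y)

variable {G : Type*} [Group G] [Finite G] [IsSimpleGroup G]

theorem not_simple (h : Nat.card G = 5940) : False := by
  have hG : ¬ IsMulCommutative G := not_comm_of_not_prime (by rw [h]; norm_num)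
  haveI : Fact (Nat.Prime 11) := ⟨by norm_num⟩
  haveI : Fact (Nat.Prime 3) := ⟨by norm_num⟩
  obtain ⟨d, hd, k, hk, hdp, hd1, hfac, hkp, hk1, hnd, hP, hC, hN, -⟩ :=
    data_p1 hG (p := 11) (by norm_num) h (by norm_num) (by norm_num)
  have key : ∀ d ∈ Nat.divisors 5940, ∀ k ∈ Nat.divisors (5940 / (d * 11)), d % 11 = 1 → d ≠ 1 →
      k ∣ 11 - 1 → k ≠ 1 → (d = 12 ∧ k = 5) ∨ (d = 45 ∧ k = 2) := by
    decide +kernel
  obtain ⟨P⟩ : Nonempty (Sylow 11 G) := inferInstance
  have hn1 : Nat.card (Sylow 11 G) ≠ 1 := by rw [hnd]; exact hd1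
  rcases key d hd k hk hdp hd1 hkp hk1 with ⟨rfl, rfl⟩ | ⟨rfl, rfl⟩
  · -- twelve Sylow 11-subgroups
    have h3C : 3 ∣ Nat.card (Subgroup.centralizer ((P : Subgroup G) : Set G)) := by
      rw [hC P]; norm_num
    obtain ⟨c, hc1, hc3, hcP⟩ := exists_central_elt P 3 h3C
    have h11 := fix_modEq_one P hcP
    have h3' := fix_modEq_prime (α := Sylow 11 G) 3 c 1 hc3
    have hlt := fix_lt 11 hn1 hc1
    rw [hnd] at h3' hlt
    unfold Nat.ModEq at h11 h3'
    omega
  · -- forty-five Sylow 11-subgroups
    have hCP : Nat.card (Subgroup.centralizer ((P : Subgroup G) : Set G)) = 66 := by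
      rw [hC P]
    have hNP : Nat.card (Subgroup.normalizer ((P : Subgroup G) : Set G)) = 132 := by
      rw [hN P]
    have h3C : 3 ∣ Nat.card (Subgroup.centralizer ((P : Subgroup G) : Set G)) := by
      rw [hCP]; norm_num
    obtain ⟨c, hc1, hc3, hcP⟩ := exists_central_elt P 3 h3C
    rw [pow_one] at hc3
    have hcord : orderOf c = 3 := orderOf_eq_prime hc3 hc1
    have h11 := fix_modEq_one P hcP
    have h3' := fix_modEq_prime (α := Sylow 11 G) 3 c 1 (by rw [pow_one]; exact hc3)
    have hlt := fix_lt 11 hn1 hc1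
    rw [hnd] at h3' hlt
    have hfix : Nat.card (MulAction.fixedBy (Sylow 11 G) c) = 12 := by
      unfold Nat.ModEq at h11 h3'
      omega
    have hform : 12 * 132 =
        Nat.card {g : G // IsConj c g ∧ g ∈ Subgroup.normalizer ((P : Subgroup G) : Set G)} *
          Nat.card (Subgroup.centralizer ({c} : Set G)) := by
      have h0 := fix_formula (α := Sylow 11 G) P c
      rw [Sylow.stabilizer_eq_normalizer, hfix] at h0
      rw [← hNP]
      exact h0
    -- the conjugates of `c` in `N(P)` are `c` and `c⁻¹`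
    set Cn := Subgroup.centralizer ((P : Subgroup G) : Set G) with hCn
    set Nn := Subgroup.normalizer ((P : Subgroup G) : Set G) with hNn
    have hCN : Cn ≤ Nn := Subgroup.centralizer_le_normalizer _
    have hrel : Cn.relIndex Nn = 2 := by
      have := card_mul_relIndex hCN
      rw [hCP, hNP] at this
      omega
    have hcC : c ∈ Cn := by
      rw [hCn, Subgroup.mem_centralizer_iff]
      exact hcP
    have hconj : ∀ g : G, IsConj c g → g ∈ Nn → g ∈ Subgroup.zpowers c ∧ g ≠ 1 := by
      intro g hcg hgN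
      have hg3 : g ^ 3 = 1 := by
        obtain ⟨u, hu⟩ := isConj_iff.mp hcg
        rw [← hu, conj_pow, hc3, mul_one, mul_inv_cancel]
      have hg1 : g ≠ 1 := by
        rintro rfl
        exact hc1 (isConj_one_right.mp hcg.symm)
      have hsq : g * g ∈ Cn := by
        have hidx : (Cn.subgroupOf Nn).index = 2 := hrel
        have := Subgroup.mul_self_mem_of_index_two hidx ⟨g, hgN⟩
        rw [Subgroup.mem_subgroupOf] at this
        exact this
      have hgC : g ∈ Cn := by
        have h4 : g = (g * g) * (g * g) := by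
          have : g * g * (g * g) = g ^ 3 * g := by
            rw [pow_succ, pow_two]; simp only [mul_assoc]
          rw [this, hg3, one_mul]
        rw [h4]; exact Subgroup.mul_mem _ hsq hsq
      refine ⟨?_, hg1⟩
      -- work inside the group `Cn`
      have hcardC : Nat.card Cn = 3 * 22 := by rw [hCP]
      let Z : Subgroup Cn := (P : Subgroup G).subgroupOf Cn
      have hPC : (P : Subgroup G) ≤ Cn := sylow_le_centralizer P (hP P)
      have hZcard : Nat.card Z = 11 := by
        rw [Nat.card_congr (Subgroup.subgroupOfEquivOfLe hPC).toEquiv]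
        exact hP P
      have hZc : ∀ z ∈ Z, ∀ x : Cn, z * x = x * z := by
        intro z hz x
        have hzP : (z : G) ∈ (P : Subgroup G) := Subgroup.mem_subgroupOf.mp hz
        have := Subgroup.mem_centralizer_iff.mp x.2 (z : G) hzP
        exact Subtype.ext this
      have hco : orderOf (⟨c, hcC⟩ : Cn) = 3 := by
        rw [← hcord]; exact (Subgroup.orderOf_mk c hcC)
      have hy3 : (⟨g, hgC⟩ : Cn) ^ 3 = 1 := Subtype.ext (by simpa using hg3)
      have hmem := mem_zpowers_of_central (r := 3) (m := 22) hcardC (by norm_num) Z hZc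
        (by rw [hZcard]; norm_num) (by rw [hZcard]; norm_num) hco hy3
      obtain ⟨i, hi⟩ := Subgroup.mem_zpowers_iff.mp hmem
      refine Subgroup.mem_zpowers_iff.mpr ⟨i, ?_⟩
      have := congrArg Subtype.val hi
      simpa using this
    have hj : Nat.card {g : G // IsConj c g ∧ g ∈ Nn} ≤ 2 := by
      have hsub : {g : G | IsConj c g ∧ g ∈ Nn} ⊆ ((Subgroup.zpowers c : Subgroup G) : Set G) \ {1} := by
        intro g hg
        obtain ⟨h1, h2⟩ := hconj g hg.1 hg.2
        exact ⟨h1, h2⟩
      have hz3 : ((Subgroup.zpowers c : Subgroup G) : Set G).ncard = 3 := by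
        rw [← Nat.card_coe_set_eq]
        show Nat.card (Subgroup.zpowers c) = 3
        rw [Nat.card_zpowers, hcord]
      have h1 : (((Subgroup.zpowers c : Subgroup G) : Set G) \ {1}).ncard = 2 := by
        rw [Set.ncard_sdiff_singleton_of_mem (Subgroup.one_mem _), hz3]
      have h2 := Set.ncard_le_ncard hsub (Set.toFinite _)
      rw [h1] at h2
      calc Nat.card {g : G // IsConj c g ∧ g ∈ Nn} = {g : G | IsConj c g ∧ g ∈ Nn}.ncard :=
            (Nat.card_coe_set_eq _)
        _ ≤ 2 := h2
    have hdvd : Nat.card (Subgroup.centralizer ({c} : Set G)) ∣ 5940 := by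
      rw [← h]; exact Subgroup.card_subgroup_dvd_card _
    generalize Nat.card {g : G // IsConj c g ∧ g ∈ Nn} = j at hform hj
    generalize Nat.card (Subgroup.centralizer ({c} : Set G)) = z at hform hdvd
    interval_cases j
    · omega
    · have : z = 1584 := by omega
      rw [this] at hdvd; norm_num at hdvd
    · have : z = 792 := by omega
      rw [this] at hdvd; norm_num at hdvd

end Cfsg.Agent.Lib.Helper8.Ord5940
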