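import Mathlib
import Cfsg.Prelude
import Cfsg.Agent.Lib.Helper2.UsfA
import Cfsg.Agent.Lib.Helper6.OsfA

/-!
# Orthogonal subfield groups: the rational toolbox

A quadratic form `Q` on `F^ι`, a subfield `F₀` and a change of basis `P` such that `Q` takes values
in `F₀` on the rational vectors.  We collect the geometric facts about rational vectors.
-/

set_option autoImplicit false

namespace Cfsg.Agent.Lib.Helper8.Osq

open Matrix QuadraticMap Cfsg Cfsg.Agent.Lib.Helper2.Usf Cfsg.Agent.Lib.Helper2.Ssf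

universe u

variable {ι : Type} [Fintype ι] [DecidableEq ι] {F : Type u} [Field F]

/-- hypotheses on the rational structure -/
structure RatStr (Q : QuadraticForm F (ι → F)) (F₀ : Subfield F) (P : GL ι F) : Prop where
  two : (2 : F) ≠ 0
  nondeg : ∀ v : ι → F, (∀ w, polar ⇑Q v w = 0) → v = 0
  val : ∀ v, V0 F₀ P v → Q v ∈ F₀

variable {Q : QuadraticForm F (ι → F)} {F₀ : Subfield F} {P : GL ι F}

theorem RatStr.polar_mem (R : RatStr Q F₀ P) {a b : ι → F} (ha : V0 F₀ P a) (hb : V0 F₀ P b) :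
    polar ⇑Q a b ∈ F₀ := by
  unfold polar
  exact F₀.sub_mem (F₀.sub_mem (R.val _ (ha.add hb)) (R.val _ ha)) (R.val _ hb)

theorem RatStr.quad_eq_zero (R : RatStr Q F₀ P) {x : ι → F} (h : polar ⇑Q x x = 0) : Q x = 0 := by
  rw [polar_self] at h
  have h2 : (2 : F) * Q x = 0 := by
    rw [← h]; simp [two_mul, two_smul]
  exact (mul_eq_zero.mp h2).resolve_left R.two

theorem polar_self_of_sing {x : ι → F} (h : Q x = 0) : polar ⇑Q x x = 0 := by
  rw [polar_self, h, smul_zero]

omit [Fintype ι] [DecidableEq ι] in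
theorem quad_sub (Q : QuadraticForm F (ι → F)) (x y : ι → F) :
    Q (x - y) = Q x + Q y - polar ⇑Q x y := by
  have h := QuadraticMap.map_add Q (x - y) y
  rw [sub_add_cancel, polar_sub_left] at h
  have h2 : polar ⇑Q y y = 2 * Q y := by rw [polar_self]; simp [two_mul, two_smul]
  rw [h2] at h
  linear_combination -h

/-- the rational vector with given rational coordinates -/
def emb (P : GL ι F) (a : ι → F₀) : ι → F := P.1 *ᵥ (fun i => (a i : F))

theorem emb_add (a b : ι → F₀) : emb P (a + b) = emb P a + emb P b := by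
  unfold emb
  rw [← Matrix.mulVec_add]
  congr 1

theorem emb_smul (c : F₀) (a : ι → F₀) : emb P (c • a) = (c : F) • emb P a := by
  unfold emb
  rw [← Matrix.mulVec_smul]
  congr 1

theorem V0_emb (a : ι → F₀) : V0 F₀ P (emb P a) := V0_mulVec (fun i => (a i).2)

theorem exists_emb {v : ι → F} (hv : V0 F₀ P v) : ∃ a : ι → F₀, emb P a = v := by
  obtain ⟨w, hw, rfl⟩ := hv.exists_eq
  exact ⟨fun i => ⟨w i, hw i⟩, rfl⟩

theorem emb_eq_zero {a : ι → F₀} (h : emb P a = 0) : a = 0 := by
  have h1 := gl_mulVec_eq_zero P h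
  funext i
  have h2 := congrFun h1 i
  exact Subtype.ext h2

omit [Fintype ι] [DecidableEq ι] in
theorem polar_sum_left {κ : Type*} (s : Finset κ) (c : κ → F) (v : κ → ι → F) (t : ι → F) :
    polar ⇑Q (∑ j ∈ s, c j • v j) t = ∑ j ∈ s, c j * polar ⇑Q (v j) t := by
  have h1 := map_sum ((polarBilin Q).flip t) (fun j => c j • v j) s
  simp only [LinearMap.flip_apply, polarBilin_apply_apply] at h1
  rw [h1]
  apply Finset.sum_congr rfl
  intro j _
  rw [polar_smul_left, smul_eq_mul]

/-- a vector orthogonal to all rational vectors vanishes -/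
theorem RatStr.eq_zero_of_rat_perp (R : RatStr Q F₀ P) {t : ι → F}
    (h : ∀ a, V0 F₀ P a → polar ⇑Q a t = 0) : t = 0 := by
  apply R.nondeg
  intro w
  rw [polar_comm]
  have hw : w = P.1 *ᵥ ((P⁻¹).1 *ᵥ w) := (gl_mulVec_inv_cancel P w).symm
  rw [hw, mulVec_eq_sum_col]
  have h1 := map_sum ((polarBilin Q).flip t) (fun j => ((P⁻¹).1 *ᵥ w) j • col P j) Finset.univ
  simp only [LinearMap.flip_apply, polarBilin_apply_apply] at h1
  rw [h1]
  apply Finset.sum_eq_zero
  intro j _
  rw [polar_smul_left, h _ (V0_col j), smul_zero]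

/-- a scalar relating two rational vectors is rational -/
theorem scalar_mem {p : ι → F} {c : F} (hp : V0 F₀ P p) (hp0 : p ≠ 0) (hcp : V0 F₀ P (c • p)) :
    c ∈ F₀ := by
  have h0 : (P⁻¹).1 *ᵥ p ≠ 0 := by
    intro h
    apply hp0
    have := gl_mulVec_inv_cancel P p
    rw [h, Matrix.mulVec_zero] at this
    exact this.symm
  obtain ⟨j, hj⟩ : ∃ j, ((P⁻¹).1 *ᵥ p) j ≠ 0 := by
    by_contra hcon
    push Not at hcon
    exact h0 (funext hcon)
  have h1 : ((P⁻¹).1 *ᵥ (c • p)) j ∈ F₀ := hcp j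
  rw [Matrix.mulVec_smul, Pi.smul_apply, smul_eq_mul] at h1
  have h2 : ((P⁻¹).1 *ᵥ p) j ∈ F₀ := hp j
  have h3 : c = c * ((P⁻¹).1 *ᵥ p) j * (((P⁻¹).1 *ᵥ p) j)⁻¹ := by
    field_simp
  rw [h3]
  exact F₀.mul_mem h1 (F₀.inv_mem h2)

section Form

variable (R : RatStr Q F₀ P)

/-- the restriction of the polar form to the rational vectors -/
noncomputable def ratForm : LinearMap.BilinForm F₀ (ι → F₀) :=
  LinearMap.mk₂ F₀
    (fun a b => (⟨polar ⇑Q (emb P a) (emb P b), R.polar_mem (V0_emb a) (V0_emb b)⟩ : F₀))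
    (by
      intro a a' b
      apply Subtype.ext
      simp only [emb_add, polar_add_left, Subfield.coe_add])
    (by
      intro c a b
      apply Subtype.ext
      simp only [emb_smul, polar_smul_left, smul_eq_mul, Subfield.coe_mul])
    (by
      intro a b b'
      apply Subtype.ext
      simp only [emb_add, polar_add_right, Subfield.coe_add])
    (by
      intro c a b
      apply Subtype.ext
      simp only [emb_smul, polar_smul_right, smul_eq_mul, Subfield.coe_mul])

theorem ratForm_coe (a b : ι → F₀) :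
    ((ratForm R a b : F₀) : F) = polar ⇑Q (emb P a) (emb P b) := rfl

theorem ratForm_symm : (ratForm R).IsSymm := by
  refine ⟨fun a b => ?_⟩
  apply Subtype.ext
  rw [ratForm_coe, ratForm_coe]
  exact polar_comm _ _ _

theorem ratForm_nondeg : (ratForm R).Nondegenerate := by
  have hleft : ∀ x : ι → F₀, (∀ y, ratForm R x y = 0) → x = 0 := by
    intro x hx
    apply emb_eq_zero (P := P)
    apply R.eq_zero_of_rat_perp
    intro a ha
    obtain ⟨a', rfl⟩ := exists_emb ha
    rw [polar_comm, ← ratForm_coe R, hx a']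
    rfl
  refine ⟨hleft, fun y hy => hleft y fun x => ?_⟩
  rw [← (ratForm_symm R).eq]
  exact hy x

include R in
theorem two_ne_zero_sub : (2 : F₀) ≠ 0 := by
  intro h
  apply R.two
  have h5 : ((1 : F₀) : F) + ((1 : F₀) : F) = ((0 : F₀) : F) := by
    rw [← Subfield.coe_add, one_add_one_eq_two, h]
  simp only [Subfield.coe_one, Subfield.coe_zero] at h5
  rw [one_add_one_eq_two] at h5
  exact h5

end Form

end Cfsg.Agent.Lib.Helper8.Osq
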