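import Mathlib
import Cfsg.Agent.Lib.Helper8.Osq1

/-!
# Orthogonal subfield groups: existence of rational vectors
-/

set_option autoImplicit false

namespace Cfsg.Agent.Lib.Helper8.Osq

open Matrix QuadraticMap Cfsg Cfsg.Agent.Lib.Helper2.Usf Cfsg.Agent.Lib.Helper2.Ssf
  Cfsg.Agent.Lib.Helper6.Osf

universe u

variable {ι : Type} [Fintype ι] [DecidableEq ι] {F : Type u} [Field F] [Fintype F]
  {Q : QuadraticForm F (ι → F)} {F₀ : Subfield F} {P : GL ι F} (R : RatStr Q F₀ P)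

include R

/-- the dual lattice of the rational vectors is the set of rational vectors -/
theorem RatStr.rat_of_polar_mem {w : ι → F} (h : ∀ a, V0 F₀ P a → polar ⇑Q a w ∈ F₀) :
    V0 F₀ P w := by
  classical
  let φ : Module.Dual F₀ (ι → F₀) :=
    { toFun := fun a => (⟨polar ⇑Q (emb P a) w, h _ (V0_emb a)⟩ : F₀)
      map_add' := by
        intro a b
        apply Subtype.ext
        simp only [emb_add, polar_add_left, Subfield.coe_add]
      map_smul' := by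
        intro c a
        apply Subtype.ext
        simp only [emb_smul, polar_smul_left, smul_eq_mul, Subfield.coe_mul, RingHom.id_apply] }
  obtain ⟨w', hw'⟩ : ∃ w' : ι → F₀, ∀ a, ratForm R w' a = φ a := by
    refine ⟨((ratForm R).toDual (ratForm_nondeg R)).symm φ, fun a => ?_⟩
    rw [← LinearMap.BilinForm.toDual_def (ratForm_nondeg R), LinearEquiv.apply_symm_apply]
  have h0 : w - emb P w' = 0 := by
    apply R.eq_zero_of_rat_perp
    intro a ha
    obtain ⟨a', rfl⟩ := exists_emb ha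
    rw [polar_sub_right, sub_eq_zero]
    have h1 := congrArg (fun t : F₀ => (t : F)) (hw' a')
    simp only [ratForm_coe] at h1
    rw [polar_comm _ (emb P a') (emb P w'), h1]
    rfl
  rw [sub_eq_zero] at h0
  rw [h0]
  exact V0_emb _

/-- a rational vector with prescribed products with three rational vectors -/
theorem RatStr.exists_rat_dual {u z y : ι → F} (hu : V0 F₀ P u) (hz : V0 F₀ P z)
    (hy : V0 F₀ P y) (h : ∀ c d : F, y ≠ c • u + d • z) :
    ∃ v, V0 F₀ P v ∧ polar ⇑Q v u = 0 ∧ polar ⇑Q v z = 0 ∧ polar ⇑Q v y = 1 := by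
  classical
  obtain ⟨u', rfl⟩ := exists_emb hu
  obtain ⟨z', rfl⟩ := exists_emb hz
  obtain ⟨y', rfl⟩ := exists_emb hy
  set Z : Submodule F₀ (ι → F₀) := Submodule.span F₀ {u', z'} with hZ
  have hy' : y' ∉ Z := by
    intro hmem
    rw [hZ, Submodule.mem_span_pair] at hmem
    obtain ⟨c, d, hcd⟩ := hmem
    apply h (c : F) (d : F)
    rw [← hcd, emb_add, emb_smul, emb_smul]
  have hrefl : (ratForm R).IsRefl := (ratForm_symm R).isRefl
  have hZZ : (ratForm R).orthogonal ((ratForm R).orthogonal Z) = Z :=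
    LinearMap.BilinForm.orthogonal_orthogonal (ratForm_nondeg R) hrefl Z
  obtain ⟨t, htZ, hty⟩ : ∃ t ∈ (ratForm R).orthogonal Z, ratForm R t y' ≠ 0 := by
    by_contra hcon
    push Not at hcon
    apply hy'
    rw [← hZZ, LinearMap.BilinForm.mem_orthogonal_iff]
    exact hcon
  rw [LinearMap.BilinForm.mem_orthogonal_iff] at htZ
  have hu0 : ratForm R u' t = 0 := htZ u' (Submodule.subset_span (by simp))
  have hz0 : ratForm R z' t = 0 := htZ z' (Submodule.subset_span (by simp))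
  refine ⟨emb P ((ratForm R t y')⁻¹ • t), V0_emb _, ?_, ?_, ?_⟩
  · rw [polar_comm, ← ratForm_coe R, map_smul, smul_eq_mul, hu0, mul_zero]
    rfl
  · rw [polar_comm, ← ratForm_coe R, map_smul, smul_eq_mul, hz0, mul_zero]
    rfl
  · rw [← ratForm_coe R, map_smul, LinearMap.smul_apply, smul_eq_mul, inv_mul_cancel₀ hty]
    rfl

theorem finrank_rat : Module.finrank F₀ (ι → F₀) = Fintype.card ι :=
  Module.finrank_fintype_fun_eq_card F₀

omit R in
theorem finrank_span_range_le {k : ℕ} (w : Fin k → ι → F₀) :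
    Module.finrank F₀ (Submodule.span F₀ (Set.range w)) ≤ k := by
  classical
  have := finrank_range_le_card (R := F₀) w
  rwa [Fintype.card_fin] at this

/-- a rational hyperbolic pair orthogonal to a small family of rational vectors -/
theorem RatStr.exists_rat_hyp (k : ℕ) (z : Fin k → ι → F) (hz : ∀ i, V0 F₀ P (z i))
    (hk : 2 * k + 3 ≤ Fintype.card ι) :
    ∃ e e' : ι → F, V0 F₀ P e ∧ V0 F₀ P e' ∧ (∀ i, polar ⇑Q (z i) e = 0) ∧
      (∀ i, polar ⇑Q (z i) e' = 0) ∧ Q e = 0 ∧ Q e' = 0 ∧ polar ⇑Q e e' = 1 := by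
  classical
  have hex := fun i => exists_emb (hz i)
  choose w hw using hex
  set Z : Submodule F₀ (ι → F₀) := Submodule.span F₀ (Set.range w) with hZ
  have hZdim : Module.finrank F₀ Z ≤ k := finrank_span_range_le w
  have hn : Module.finrank F₀ (ι → F₀) = Fintype.card ι := Module.finrank_fintype_fun_eq_card F₀
  obtain ⟨a, a', ha, ha', haa, ha'a', haa'⟩ := exists_hyp_pair_orth (ratForm R)
    (ratForm_symm R) (ratForm_nondeg R) (two_ne_zero_sub R) Z (by rw [hn]; omega)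
  have e1 : polar ⇑Q (emb P a) (emb P a') = 1 := by
    have := congrArg (fun t : F₀ => (t : F)) haa'
    simpa only [ratForm_coe, Subfield.coe_one] using this
  refine ⟨emb P a, emb P a', V0_emb a, V0_emb a', ?_, ?_, ?_, ?_, e1⟩
  · intro i
    have h1 := ha (w i) (Submodule.subset_span ⟨i, rfl⟩)
    have := congrArg (fun t : F₀ => (t : F)) h1
    simp only [ratForm_coe, hw i] at this
    simpa using this
  · intro i
    have h1 := ha' (w i) (Submodule.subset_span ⟨i, rfl⟩)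
    have := congrArg (fun t : F₀ => (t : F)) h1
    simp only [ratForm_coe, hw i] at this
    simpa using this
  · apply R.quad_eq_zero
    have := congrArg (fun t : F₀ => (t : F)) haa
    simpa only [ratForm_coe, Subfield.coe_zero] using this
  · apply R.quad_eq_zero
    have := congrArg (fun t : F₀ => (t : F)) ha'a'
    simpa only [ratForm_coe, Subfield.coe_zero] using this

/-- a non-zero rational singular vector orthogonal to a family of rational vectors -/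
theorem RatStr.exists_rat_sing_orth (k : ℕ) (z : Fin k → ι → F) (hz : ∀ i, V0 F₀ P (z i))
    (hk : k + 3 ≤ Fintype.card ι) :
    ∃ b : ι → F, V0 F₀ P b ∧ b ≠ 0 ∧ Q b = 0 ∧ ∀ i, polar ⇑Q (z i) b = 0 := by
  classical
  have hex := fun i => exists_emb (hz i)
  choose w hw using hex
  set Z : Submodule F₀ (ι → F₀) := Submodule.span F₀ (Set.range w) with hZ
  have hZdim : Module.finrank F₀ Z ≤ k := finrank_span_range_le w
  have hn : Module.finrank F₀ (ι → F₀) = Fintype.card ι := Module.finrank_fintype_fun_eq_card F₀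
  have hTdim : Module.finrank F₀ ((ratForm R).orthogonal Z) =
      Module.finrank F₀ (ι → F₀) - Module.finrank F₀ Z :=
    LinearMap.BilinForm.finrank_orthogonal (ratForm_nondeg R) Z
  obtain ⟨b, hbT, hb0, hbb⟩ := exists_singular_mem (ratForm R) ((ratForm R).orthogonal Z)
    (by rw [hTdim, hn]; omega)
  rw [LinearMap.BilinForm.mem_orthogonal_iff] at hbT
  refine ⟨emb P b, V0_emb b, fun h => hb0 (emb_eq_zero h), ?_, ?_⟩
  · apply R.quad_eq_zero
    have := congrArg (fun t : F₀ => (t : F)) hbb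
    simpa only [ratForm_coe, Subfield.coe_zero] using this
  · intro i
    have h1 := hbT (w i) (Submodule.subset_span ⟨i, rfl⟩)
    have := congrArg (fun t : F₀ => (t : F)) h1
    simp only [ratForm_coe, hw i] at this
    simpa using this

/-- a rational singular partner of `y` orthogonal to `u` and `z` -/
theorem RatStr.exists_rat_partner_orth {u z y : ι → F} (hu : V0 F₀ P u) (hz : V0 F₀ P z)
    (hy : V0 F₀ P y) (hQy : Q y = 0) (huy : polar ⇑Q u y = 0) (hzy : polar ⇑Q z y = 0)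
    (h : ∀ c d : F, y ≠ c • u + d • z) :
    ∃ y', V0 F₀ P y' ∧ Q y' = 0 ∧ polar ⇑Q y' u = 0 ∧ polar ⇑Q y' z = 0 ∧ polar ⇑Q y' y = 1 := by
  obtain ⟨v, hv, hvu, hvz, hvy⟩ := R.exists_rat_dual hu hz hy h
  have hyy : polar ⇑Q y y = 0 := polar_self_of_sing hQy
  refine ⟨v - Q v • y, hv.sub (hy.smul (R.val v hv)), ?_, ?_, ?_, ?_⟩
  · rw [quad_sub, QuadraticMap.map_smul, hQy, polar_smul_right, hvy]
    simp
  · rw [polar_sub_left, polar_smul_left, polar_comm _ y u, huy, hvu]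
    simp
  · rw [polar_sub_left, polar_smul_left, polar_comm _ y z, hzy, hvz]
    simp
  · rw [polar_sub_left, polar_smul_left, hyy, hvy]
    simp

/-- a rational singular partner -/
theorem RatStr.exists_rat_partner {u : ι → F} (hu : V0 F₀ P u) (hu0 : u ≠ 0) (hQu : Q u = 0) :
    ∃ u', V0 F₀ P u' ∧ Q u' = 0 ∧ polar ⇑Q u u' = 1 := by
  obtain ⟨y', hy', hQ, -, -, h1⟩ := R.exists_rat_partner_orth (V0_zero (F₀ := F₀) (P := P))
    (V0_zero (F₀ := F₀) (P := P)) hu hQu (by simp [polar]) (by simp [polar])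
    (by intro c d; simpa using hu0)
  exact ⟨y', hy', hQ, by rw [polar_comm]; exact h1⟩

omit R [Fintype F] in
/-- the standard singular vector attached to a vector orthogonal to a hyperbolic pair -/
theorem sing_of_hyp {y e e' : ι → F} (hye : polar ⇑Q y e = 0) (hye' : polar ⇑Q y e' = 0)
    (he : Q e = 0) (he' : Q e' = 0) (hee' : polar ⇑Q e e' = 1) :
    Q (y + e - Q y • e') = 0 := by
  rw [quad_sub, QuadraticMap.map_add Q y e, QuadraticMap.map_smul, he, he', polar_smul_right, polar_add_left,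
    hye, hye', hee']
  simp

/-- every non-zero vector is non-orthogonal to some rational singular vector -/
theorem RatStr.exists_rat_sing_ne (hn : 5 ≤ Fintype.card ι) {v : ι → F} (hv0 : v ≠ 0) :
    ∃ s : ι → F, V0 F₀ P s ∧ Q s = 0 ∧ polar ⇑Q v s ≠ 0 := by
  by_contra hcon
  push Not at hcon
  apply hv0
  apply R.eq_zero_of_rat_perp
  intro y hy
  obtain ⟨e, e', he, he', hze, hze', hQe, hQe', hee'⟩ :=
    R.exists_rat_hyp 1 (fun _ => y) (fun _ => hy) (by omega)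
  have hye := hze 0
  have hye' := hze' 0
  have hs1 : Q (y + e - Q y • e') = 0 := sing_of_hyp hye hye' hQe hQe' hee'
  have h1 := hcon (y + e - Q y • e') ((hy.add he).sub (he'.smul (R.val y hy))) hs1
  have h2 := hcon e he hQe
  have h3 := hcon e' he' hQe'
  rw [polar_sub_right, polar_add_right, polar_smul_right, h2, h3] at h1
  rw [polar_comm]
  simpa using h1

/-- a rational hyperbolic pair -/
structure HP (Q : QuadraticForm F (ι → F)) (F₀ : Subfield F) (P : GL ι F) (e e' : ι → F) :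
    Prop where
  r1 : V0 F₀ P e
  r2 : V0 F₀ P e'
  q1 : Q e = 0
  q2 : Q e' = 0
  pair : polar ⇑Q e e' = 1

/-- `z` is orthogonal to the pair `e, e'` -/
def Perp (Q : QuadraticForm F (ι → F)) (z e e' : ι → F) : Prop :=
  polar ⇑Q z e = 0 ∧ polar ⇑Q z e' = 0

theorem RatStr.exists_hp1 {z₁ : ι → F} (h₁ : V0 F₀ P z₁) (hn : 5 ≤ Fintype.card ι) :
    ∃ e e', HP Q F₀ P e e' ∧ Perp Q z₁ e e' := by
  obtain ⟨e, e', he, he', hze, hze', hQe, hQe', hee'⟩ :=
    R.exists_rat_hyp 1 ![z₁] (fun i => by fin_cases i; simpa using h₁) (by omega)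
  exact ⟨e, e', ⟨he, he', hQe, hQe', hee'⟩, ⟨hze 0, hze' 0⟩⟩

theorem RatStr.exists_hp2 {z₁ z₂ : ι → F} (h₁ : V0 F₀ P z₁) (h₂ : V0 F₀ P z₂)
    (hn : 7 ≤ Fintype.card ι) :
    ∃ e e', HP Q F₀ P e e' ∧ Perp Q z₁ e e' ∧ Perp Q z₂ e e' := by
  obtain ⟨e, e', he, he', hze, hze', hQe, hQe', hee'⟩ :=
    R.exists_rat_hyp 2 ![z₁, z₂] (fun i => by fin_cases i <;> simpa) (by omega)
  exact ⟨e, e', ⟨he, he', hQe, hQe', hee'⟩, ⟨hze 0, hze' 0⟩, ⟨hze 1, hze' 1⟩⟩

theorem RatStr.exists_hp4 {z₁ z₂ z₃ z₄ : ι → F} (h₁ : V0 F₀ P z₁) (h₂ : V0 F₀ P z₂)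
    (h₃ : V0 F₀ P z₃) (h₄ : V0 F₀ P z₄) (hn : 11 ≤ Fintype.card ι) :
    ∃ e e', HP Q F₀ P e e' ∧ Perp Q z₁ e e' ∧ Perp Q z₂ e e' ∧ Perp Q z₃ e e' ∧
      Perp Q z₄ e e' := by
  obtain ⟨e, e', he, he', hze, hze', hQe, hQe', hee'⟩ :=
    R.exists_rat_hyp 4 ![z₁, z₂, z₃, z₄] (fun i => by fin_cases i <;> simpa) (by omega)
  exact ⟨e, e', ⟨he, he', hQe, hQe', hee'⟩, ⟨hze 0, hze' 0⟩, ⟨hze 1, hze' 1⟩, ⟨hze 2, hze' 2⟩,
    ⟨hze 3, hze' 3⟩⟩

theorem RatStr.exists_hp5 {z₁ z₂ z₃ z₄ z₅ : ι → F} (h₁ : V0 F₀ P z₁) (h₂ : V0 F₀ P z₂)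
    (h₃ : V0 F₀ P z₃) (h₄ : V0 F₀ P z₄) (h₅ : V0 F₀ P z₅) (hn : 13 ≤ Fintype.card ι) :
    ∃ e e', HP Q F₀ P e e' ∧ Perp Q z₁ e e' ∧ Perp Q z₂ e e' ∧ Perp Q z₃ e e' ∧
      Perp Q z₄ e e' ∧ Perp Q z₅ e e' := by
  obtain ⟨e, e', he, he', hze, hze', hQe, hQe', hee'⟩ :=
    R.exists_rat_hyp 5 ![z₁, z₂, z₃, z₄, z₅] (fun i => by fin_cases i <;> simpa) (by omega)
  exact ⟨e, e', ⟨he, he', hQe, hQe', hee'⟩, ⟨hze 0, hze' 0⟩, ⟨hze 1, hze' 1⟩, ⟨hze 2, hze' 2⟩,
    ⟨hze 3, hze' 3⟩, ⟨hze 4, hze' 4⟩⟩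

theorem RatStr.exists_sing7 {z₁ z₂ z₃ z₄ z₅ z₆ z₇ : ι → F} (h₁ : V0 F₀ P z₁) (h₂ : V0 F₀ P z₂)
    (h₃ : V0 F₀ P z₃) (h₄ : V0 F₀ P z₄) (h₅ : V0 F₀ P z₅) (h₆ : V0 F₀ P z₆) (h₇ : V0 F₀ P z₇)
    (hn : 10 ≤ Fintype.card ι) :
    ∃ b : ι → F, V0 F₀ P b ∧ b ≠ 0 ∧ Q b = 0 ∧ polar ⇑Q z₁ b = 0 ∧ polar ⇑Q z₂ b = 0 ∧
      polar ⇑Q z₃ b = 0 ∧ polar ⇑Q z₄ b = 0 ∧ polar ⇑Q z₅ b = 0 ∧ polar ⇑Q z₆ b = 0 ∧
      polar ⇑Q z₇ b = 0 := by
  obtain ⟨b, hb, hb0, hQb, hzb⟩ :=
    R.exists_rat_sing_orth 7 ![z₁, z₂, z₃, z₄, z₅, z₆, z₇] (fun i => by fin_cases i <;> simpa)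
      (by omega)
  exact ⟨b, hb, hb0, hQb, hzb 0, hzb 1, hzb 2, hzb 3, hzb 4, hzb 5, hzb 6⟩

end Cfsg.Agent.Lib.Helper8.Osq
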