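import Mathlib
import Cfsg.Agent.Lib.Helper8.Osq2
import Cfsg.Agent.Lib.Helper5.OrthSingularMax

/-!
# Orthogonal subfield groups: calculus of Eichler transformations in a subgroup
-/

set_option autoImplicit false

namespace Cfsg.Agent.Lib.Helper8.Osq

open Matrix QuadraticMap Cfsg Cfsg.Agent.Lib.Helper2.Usf Cfsg.Agent.Lib.Helper2.Ssf
  Cfsg.Agent.Lib.Helper5.CartanDieudonne Cfsg.Agent.Lib.Helper5.Eichler
  Cfsg.Agent.Lib.Helper5.OrthSingularMax Cfsg.Agent.Lib.Helper5.OmegaSimple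
  Cfsg.Agent.Lib.Helper5.QuadIsom

universe u

variable {ι : Type} [Fintype ι] [DecidableEq ι] {F : Type u} [Field F]
  (Q : QuadraticForm F (ι → F)) (H : Subgroup (GL ι F))

/-- the Eichler transformation with centre `u` and direction `z` lies in `H` -/
def EIn (u z : ι → F) : Prop :=
  ∃ (hu : Q u = 0) (huz : polar ⇑Q u z = 0),
    ((eich Q u z hu huz : ↥(isometryGroup F ⇑Q)) : GL ι F) ∈ H

variable {Q H}

theorem EIn.congr {u u' z z' : ι → F} (h : EIn Q H u z) (hu : u = u') (hz : z = z') :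
    EIn Q H u' z' := by
  subst hu hz
  exact h

theorem EIn.sing {u z : ι → F} (h : EIn Q H u z) : Q u = 0 := h.1

theorem EIn.orth {u z : ι → F} (h : EIn Q H u z) : polar ⇑Q u z = 0 := h.2.1

theorem EIn.add {u z z' : ι → F} (h : EIn Q H u z) (h' : EIn Q H u z') :
    EIn Q H u (z + z') := by
  obtain ⟨hu, huz, hm⟩ := h
  obtain ⟨hu', huz', hm'⟩ := h'
  refine ⟨hu, by rw [polar_add_right, huz, huz', add_zero], ?_⟩
  have := eich_mul Q u z z' hu huz huz'
  rw [← this, Subgroup.coe_mul]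
  exact H.mul_mem hm hm'

theorem EIn.neg {u z : ι → F} (h : EIn Q H u z) : EIn Q H u (-z) := by
  obtain ⟨hu, huz, hm⟩ := h
  refine ⟨hu, by rw [polar_neg_right, huz, neg_zero], ?_⟩
  have := eich_inv Q u z hu huz
  rw [← this, Subgroup.coe_inv]
  exact H.inv_mem hm

theorem EIn.sub {u z z' : ι → F} (h : EIn Q H u z) (h' : EIn Q H u z') :
    EIn Q H u (z - z') := by
  rw [sub_eq_add_neg]
  exact h.add h'.neg

theorem EIn.zero {u : ι → F} (hu : Q u = 0) : EIn Q H u 0 := by
  refine ⟨hu, by simp [polar], ?_⟩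
  rw [eich_zero Q u hu]
  exact H.one_mem

theorem EIn.conj {u z : ι → F} (h : EIn Q H u z) (a : ↥(isometryGroup F ⇑Q))
    (ha : (a : GL ι F) ∈ H) : EIn Q H (act Q a u) (act Q a z) := by
  obtain ⟨hu, huz, hm⟩ := h
  refine ⟨by rw [quad_act, hu], by rw [polar_act, huz], ?_⟩
  have := conj_eich Q a u z hu huz
  rw [← this, Subgroup.coe_mul, Subgroup.coe_mul, Subgroup.coe_inv]
  exact H.mul_mem (H.mul_mem ha hm) (H.inv_mem ha)

theorem EIn.smul_right {u z : ι → F} {c : F} (h : EIn Q H (c • u) z) (hc : c ≠ 0) :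
    EIn Q H u (c • z) := by
  obtain ⟨hcu, hcuz, hm⟩ := h
  have hu : Q u = 0 := by
    rw [QuadraticMap.map_smul, smul_eq_mul] at hcu
    exact (mul_eq_zero.mp hcu).resolve_left (mul_ne_zero hc hc)
  have huz : polar ⇑Q u z = 0 := by
    rw [polar_smul_left, smul_eq_mul] at hcuz
    exact (mul_eq_zero.mp hcuz).resolve_left hc
  refine ⟨hu, by rw [polar_smul_right, huz, smul_zero], ?_⟩
  have := eich_smul_left Q u z hu huz c
  rw [← this]
  exact hm

theorem EIn.smul_left {u z : ι → F} {c : F} (h : EIn Q H u (c • z)) (hc : c ≠ 0) :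
    EIn Q H (c • u) z := by
  obtain ⟨hu, hucz, hm⟩ := h
  have huz : polar ⇑Q u z = 0 := by
    rw [polar_smul_right, smul_eq_mul] at hucz
    exact (mul_eq_zero.mp hucz).resolve_left hc
  refine ⟨by rw [QuadraticMap.map_smul, hu, smul_zero], by rw [polar_smul_left, huz, smul_zero], ?_⟩
  have := eich_smul_left Q u z hu huz c
  rw [this]
  exact hm

/-- for singular `u`, `z` the transformations `E(u,z)` and `E(z,-u)` agree -/
theorem eich_swap (u z : ι → F) (hu : Q u = 0) (huz : polar ⇑Q u z = 0) (hz : Q z = 0) :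
    eich Q u z hu huz = eich Q z (-u) hz (by rw [polar_neg_right, polar_comm, huz, neg_zero]) := by
  apply ext_act
  intro x
  rw [act_eich, act_eich, eichlerMap_apply, eichlerMap_apply, hz, QuadraticMap.map_neg, hu,
    polar_neg_left]
  simp only [zero_mul, add_zero, neg_neg, smul_neg, neg_smul]
  abel

theorem EIn.swap {u z : ι → F} (h : EIn Q H u z) (hz : Q z = 0) : EIn Q H z (-u) := by
  obtain ⟨hu, huz, hm⟩ := h
  refine ⟨hz, by rw [polar_neg_right, polar_comm, huz, neg_zero], ?_⟩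
  rw [← eich_swap u z hu huz hz]
  exact hm

/-- adding a multiple of the centre does not change the transformation -/
theorem eich_add_smul_self (u z : ι → F) (hu : Q u = 0) (huz : polar ⇑Q u z = 0) (c : F) :
    eich Q u (z + c • u) hu (by
      rw [polar_add_right, polar_smul_right, huz, polar_self, hu]; simp) =
      eich Q u z hu huz := by
  apply ext_act
  intro x
  rw [act_eich, act_eich, eichlerMap_apply, eichlerMap_apply, quad_add_smul_sing Q u z hu huz c,
    polar_add_left, polar_smul_left]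
  simp only [smul_eq_mul]
  module

theorem EIn.add_smul_self {u z : ι → F} (h : EIn Q H u z) (c : F) : EIn Q H u (z + c • u) := by
  obtain ⟨hu, huz, hm⟩ := h
  refine ⟨hu, by rw [polar_add_right, polar_smul_right, huz, polar_self, hu]; simp, ?_⟩
  rw [eich_add_smul_self u z hu huz c]
  exact hm

/-- every element of a subgroup of `Ω` is an isometry -/
theorem exists_iso_of_mem [Fintype F] (hH : H ≤ Cfsg.Geo.omegaGL ⇑Q) {x : GL ι F} (hx : x ∈ H) :
    ∃ a : ↥(isometryGroup F ⇑Q), (a : GL ι F) = x := by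
  obtain ⟨a, -, ha⟩ := (mem_omegaGL_iff Q x).mp (hH hx)
  exact ⟨a, ha⟩

section Rat

variable [Fintype F] {F₀ : Subfield F} {P : GL ι F} (R : RatStr Q F₀ P)

include R

theorem V0_act_eich {u z v : ι → F} (hu : V0 F₀ P u) (hz : V0 F₀ P z) (hv : V0 F₀ P v)
    (hQu : Q u = 0) (huz : polar ⇑Q u z = 0) :
    V0 F₀ P (act Q (eich Q u z hQu huz) v) := by
  rw [act_eich, eichlerMap_apply]
  refine (hv.add (hz.smul (R.polar_mem hu hv))).add (hu.smul (F₀.neg_mem ?_))
  exact F₀.add_mem (R.polar_mem hz hv) (F₀.mul_mem (R.val z hz) (R.polar_mem hu hv))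

/-- rational Eichler transformations lie in every overgroup of the subfield group -/
theorem EIn_of_rat (Hy : Hyp Q)
    (hM : Cfsg.Geo.subfieldSubgroup F₀ P ⊓ Cfsg.Geo.omegaGL ⇑Q ≤ H) {u z : ι → F}
    (hu : V0 F₀ P u) (hz : V0 F₀ P z) (hQu : Q u = 0) (huz : polar ⇑Q u z = 0) :
    EIn Q H u z := by
  refine ⟨hQu, huz, hM (Subgroup.mem_inf.mpr ⟨?_, eich_mem_omegaGL Hy u z hQu huz⟩)⟩
  rw [mem_sfS_iff]
  refine ⟨1, one_ne_zero, fun v hv => ?_⟩
  rw [one_smul]
  exact V0_act_eich R hu hz hv hQu huz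

end Rat

end Cfsg.Agent.Lib.Helper8.Osq
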