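import Mathlib
import Cfsg.Agent.Lib.Helper8.Osq3
import Cfsg.Agent.Lib.Helper2.SfmB

/-!
# Orthogonal subfield groups: the field of parameters
-/

set_option autoImplicit false

namespace Cfsg.Agent.Lib.Helper8.Osq

open Matrix QuadraticMap Cfsg Cfsg.Agent.Lib.Helper2.Usf Cfsg.Agent.Lib.Helper2.Ssf
  Cfsg.Agent.Lib.Helper5.CartanDieudonne Cfsg.Agent.Lib.Helper5.Eichler
  Cfsg.Agent.Lib.Helper5.OrthSingularMax Cfsg.Agent.Lib.Helper5.OmegaSimple
  Cfsg.Agent.Lib.Helper5.QuadIsom

universe u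

variable {ι : Type} [Fintype ι] [DecidableEq ι] {F : Type u} [Field F] [Fintype F]

/-- a rational totally singular pair of independent vectors -/
structure TS (Q : QuadraticForm F (ι → F)) (F₀ : Subfield F) (P : GL ι F) (u y : ι → F) :
    Prop where
  ru : V0 F₀ P u
  ry : V0 F₀ P y
  qu : Q u = 0
  qy : Q y = 0
  orth : polar ⇑Q u y = 0
  ne : u ≠ 0
  indep : ∀ c : F, y ≠ c • u

variable {Q : QuadraticForm F (ι → F)} {F₀ : Subfield F} {P : GL ι F} {H : Subgroup (GL ι F)}

theorem TS.ne' {u y : ι → F} (h : TS Q F₀ P u y) : y ≠ 0 := by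
  have := h.indep 0
  simpa using this

theorem TS.symm {u y : ι → F} (h : TS Q F₀ P u y) : TS Q F₀ P y u := by
  refine ⟨h.ry, h.ru, h.qy, h.qu, by rw [polar_comm]; exact h.orth, h.ne', ?_⟩
  intro c hc
  by_cases hc0 : c = 0
  · rw [hc0, zero_smul] at hc
    exact h.ne hc
  · apply h.indep c⁻¹
    rw [hc, smul_smul, inv_mul_cancel₀ hc0, one_smul]

/-- a totally singular pair from a witness of independence -/
theorem ts_of_witness {u y t : ι → F} (ru : V0 F₀ P u) (ry : V0 F₀ P y) (qu : Q u = 0)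
    (qy : Q y = 0) (orth : polar ⇑Q u y = 0) (hu0 : u ≠ 0) (hyt : polar ⇑Q y t ≠ 0)
    (hut : polar ⇑Q u t = 0) : TS Q F₀ P u y := by
  refine ⟨ru, ry, qu, qy, orth, hu0, ?_⟩
  intro c hc
  apply hyt
  rw [hc, polar_smul_left, hut, smul_zero]

theorem HP.ne1 {e e' : ι → F} (h : HP Q F₀ P e e') : e ≠ 0 := by
  intro h0
  have := h.pair
  rw [h0] at this
  simp [polar] at this

theorem HP.ne2 {e e' : ι → F} (h : HP Q F₀ P e e') : e' ≠ 0 := by
  intro h0
  have := h.pair
  rw [h0] at this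
  simp [polar] at this

theorem HP.pair' {e e' : ι → F} (h : HP Q F₀ P e e') : polar ⇑Q e' e = 1 := by
  rw [polar_comm]; exact h.pair

theorem HP.symm {e e' : ι → F} (h : HP Q F₀ P e e') : HP Q F₀ P e' e :=
  ⟨h.r2, h.r1, h.q2, h.q1, h.pair'⟩

section Move

variable (R : RatStr Q F₀ P) (Hy : Hyp Q)
  (hM : Cfsg.Geo.subfieldSubgroup F₀ P ⊓ Cfsg.Geo.omegaGL ⇑Q ≤ H)

include R Hy hM

/-- the basic move: replace the direction `y` by `z` -/
theorem move {u y z : ι → F} (hu : V0 F₀ P u) (hy : V0 F₀ P y) (hz : V0 F₀ P z)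
    (qy : Q y = 0) (qz : Q z = 0) (huy : polar ⇑Q u y = 0)
    (huz : polar ⇑Q u z = 0) (hyz : polar ⇑Q y z = 0) (h : ∀ c d : F, y ≠ c • u + d • z) {c : F}
    (hc : EIn Q H u (c • y)) : EIn Q H u (c • z) := by
  obtain ⟨y', hy', qy', hy'u, hy'z, hy'y⟩ := R.exists_rat_partner_orth hu hz hy qy huy
    (by rw [polar_comm]; exact hyz) h
  obtain ⟨_, _, hgm⟩ := EIn_of_rat R Hy hM hy' hz qy' hy'z
  have h1 := hc.conj (eich Q y' z qy' hy'z) hgm
  have e1 : act Q (eich Q y' z qy' hy'z) u = u := by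
    rw [act_eich, eichlerMap_apply, hy'u, polar_comm _ z u, huz]
    simp
  have e2 : act Q (eich Q y' z qy' hy'z) (c • y) = c • y + c • z := by
    rw [act_eich, eichlerMap_apply, polar_smul_right, polar_smul_right, hy'y, polar_comm _ z y,
      hyz, qz]
    simp
  have h2 := (h1.congr e1 e2).sub hc
  exact h2.congr rfl (by abel)

omit R Hy hM in
/-- swapping the two vectors of a singular pair -/
theorem par_swap {u y : ι → F} (qy : Q y = 0) {c : F} (h : EIn Q H u (c • y)) :
    EIn Q H y (c • u) := by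
  by_cases hc : c = 0
  · rw [hc, zero_smul]
    exact EIn.zero qy
  · have h1 := h.swap (by rw [QuadraticMap.map_smul, qy, smul_zero])
    have h2 := (h1.smul_right hc).neg
    exact h2.congr rfl (by simp)

/-- Step 1: the sets of parameters of all rational totally singular pairs coincide -/
theorem par_subset (hn : 13 ≤ Fintype.card ι) {u y u' y' : ι → F} (h : TS Q F₀ P u y)
    (h' : TS Q F₀ P u' y') {c : F} (hc : EIn Q H u (c • y)) : EIn Q H u' (c • y') := by
  obtain ⟨z, zs, hz, ⟨huz, huzs⟩, ⟨hyz, hyzs⟩, ⟨hu'z, hu'zs⟩, ⟨hy'z, hy'zs⟩⟩ :=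
    R.exists_hp4 h.ru h.ry h'.ru h'.ry (by omega)
  obtain ⟨w, ws, hw, ⟨huw, huws⟩, ⟨hyw, hyws⟩, ⟨hu'w, hu'ws⟩, ⟨hy'w, hy'ws⟩, ⟨hzw, hzws⟩⟩ :=
    R.exists_hp5 h.ru h.ry h'.ru h'.ry hz.r1 hn
  -- (u,y) → (u,z)
  have s1 : EIn Q H u (c • z) := by
    refine move R Hy hM h.ru h.ry hz.r1 h.qy hz.q1 h.orth huz hyz ?_ hc
    intro a b hab
    have h1 := congrArg (fun t => polar ⇑Q t zs) hab
    simp only [polar_add_left, polar_smul_left, hyzs, huzs, hz.pair, smul_eq_mul, mul_zero,
      mul_one, zero_add] at h1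
    rw [← h1, zero_smul, add_zero] at hab
    exact h.indep a hab
  have s2 : EIn Q H z (c • u) := par_swap hz.q1 s1
  -- (z,u) → (z,w)
  have s3 : EIn Q H z (c • w) := by
    refine move R Hy hM hz.r1 h.ru hw.r1 h.qu hw.q1 (by rw [polar_comm]; exact huz) hzw huw ?_ s2
    intro a b hab
    have h1 := congrArg (fun t => polar ⇑Q t ws) hab
    simp only [polar_add_left, polar_smul_left, huws, hzws, hw.pair, smul_eq_mul, mul_zero,
      mul_one, zero_add] at h1
    rw [← h1, zero_smul, add_zero] at hab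
    have h2 := congrArg (fun t => polar ⇑Q t zs) hab
    simp only [polar_smul_left, huzs, hz.pair, smul_eq_mul, mul_one] at h2
    rw [← h2, zero_smul] at hab
    exact h.ne hab
  have s4 : EIn Q H w (c • z) := par_swap hw.q1 s3
  -- (w,z) → (w,u')
  have s5 : EIn Q H w (c • u') := by
    refine move R Hy hM hw.r1 hz.r1 h'.ru hz.q1 h'.qu (by rw [polar_comm]; exact hzw)
      (by rw [polar_comm]; exact hu'w) (by rw [polar_comm]; exact hu'z) ?_ s4
    intro a b hab
    have h1 := congrArg (fun t => polar ⇑Q t ws) hab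
    simp only [polar_add_left, polar_smul_left, hzws, hu'ws, hw.pair, smul_eq_mul, mul_zero,
      mul_one, add_zero] at h1
    rw [← h1, zero_smul, zero_add] at hab
    have h2 := congrArg (fun t => polar ⇑Q t zs) hab
    simp only [polar_smul_left, hu'zs, hz.pair, smul_eq_mul, mul_zero] at h2
    exact one_ne_zero h2
  have s6 : EIn Q H u' (c • w) := par_swap h'.qu s5
  -- (u',w) → (u',y')
  refine move R Hy hM h'.ru hw.r1 h'.ry hw.q1 h'.qy hu'w h'.orth
    (by rw [polar_comm]; exact hy'w) ?_ s6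
  intro a b hab
  have h1 := congrArg (fun t => polar ⇑Q t ws) hab
  simp only [polar_add_left, polar_smul_left, hu'ws, hy'ws, hw.pair, smul_eq_mul, mul_zero,
    add_zero] at h1
  exact one_ne_zero h1

end Move

section Field

variable (R : RatStr Q F₀ P) (Hy : Hyp Q)
  (hM : Cfsg.Geo.subfieldSubgroup F₀ P ⊓ Cfsg.Geo.omegaGL ⇑Q ≤ H)

/-- the common set of parameters -/
def parSet (Q : QuadraticForm F (ι → F)) (F₀ : Subfield F) (P : GL ι F)
    (H : Subgroup (GL ι F)) : Set F :=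
  {c | ∀ u y, TS Q F₀ P u y → EIn Q H u (c • y)}

include R Hy hM in
theorem parSet_mul (hn : 7 ≤ Fintype.card ι) {c c' : F} (hc : c ∈ parSet Q F₀ P H)
    (hc' : c' ∈ parSet Q F₀ P H) : c * c' ∈ parSet Q F₀ P H := by
  intro u z huz
  obtain ⟨y, ys, hy, ⟨huy, huys⟩, ⟨hzy, hzys⟩⟩ := R.exists_hp2 huz.ru huz.ry hn
  have t1 : TS Q F₀ P u y :=
    ts_of_witness huz.ru hy.r1 huz.qu hy.q1 huy huz.ne (by rw [hy.pair]; exact one_ne_zero) huys
  have t2 : TS Q F₀ P ys z :=
    (ts_of_witness huz.ry hy.r2 huz.qy hy.q2 hzys huz.ne' (t := y)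
      (by rw [hy.pair']; exact one_ne_zero) hzy).symm
  have e1 : EIn Q H u (c • y) := hc u y t1
  obtain ⟨qys, hysz, hgm⟩ := hc' ys z t2
  have h1 := e1.conj (eich Q ys (c' • z) qys hysz) hgm
  have a1 : act Q (eich Q ys (c' • z) qys hysz) u = u := by
    rw [act_eich, eichlerMap_apply, polar_comm _ ys u, huys, polar_smul_left, polar_comm _ z u,
      huz.orth]
    simp
  have a2 : act Q (eich Q ys (c' • z) qys hysz) (c • y) = c • y + (c * c') • z := by
    rw [act_eich, eichlerMap_apply, polar_smul_right, polar_smul_right, polar_smul_left, hy.pair',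
      hzy, QuadraticMap.map_smul, huz.qy]
    simp [smul_smul]
  have h2 := (h1.congr a1 a2).sub e1
  exact h2.congr rfl (by abel)

include R Hy hM in
theorem parSet_rat {c : F} (hc : c ∈ F₀) : c ∈ parSet Q F₀ P H := fun u y h =>
  EIn_of_rat R Hy hM h.ru (h.ry.smul hc) h.qu (by rw [polar_smul_right, h.orth, smul_zero])

/-- the field of parameters -/
def parField (hn : 7 ≤ Fintype.card ι) : Subfield F where
  carrier := parSet Q F₀ P H
  mul_mem' := fun h1 h2 => parSet_mul R Hy hM hn h1 h2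
  one_mem' := parSet_rat R Hy hM F₀.one_mem
  add_mem' := fun {a b} h1 h2 u y h =>
    ((h1 u y h).add (h2 u y h)).congr rfl (add_smul a b y).symm
  zero_mem' := parSet_rat R Hy hM F₀.zero_mem
  neg_mem' := fun {a} h1 u y h => (h1 u y h).neg.congr rfl (neg_smul a y).symm
  inv_mem' := by
    intro x hx
    by_cases hx0 : x = 0
    · rw [hx0, _root_.inv_zero]; exact parSet_rat R Hy hM F₀.zero_mem
    · have h1 : ∀ k : ℕ, x ^ k ∈ parSet Q F₀ P H := by
        intro k
        induction k with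
        | zero => rw [pow_zero]; exact parSet_rat R Hy hM F₀.one_mem
        | succ k ih => rw [pow_succ]; exact parSet_mul R Hy hM hn ih hx
      have h2 : x * x ^ (Fintype.card F - 2) = 1 := by
        rw [← pow_succ']
        have : Fintype.card F - 2 + 1 = Fintype.card F - 1 := by
          have : 1 < Fintype.card F := Fintype.one_lt_card
          omega
        rw [this]
        exact FiniteField.pow_card_sub_one_eq_one x hx0
      have h3 : x ^ (Fintype.card F - 2) = x⁻¹ := eq_inv_of_mul_eq_one_right h2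
      show x⁻¹ ∈ parSet Q F₀ P H
      rw [← h3]
      exact h1 _

theorem mem_parField (hn : 7 ≤ Fintype.card ι) (c : F) :
    c ∈ parField R Hy hM hn ↔ c ∈ parSet Q F₀ P H := Iff.rfl

theorem le_parField (hn : 7 ≤ Fintype.card ι) : F₀ ≤ parField R Hy hM hn :=
  fun _ hc => parSet_rat R Hy hM hc

theorem mem_parField_of_EIn (hn : 13 ≤ Fintype.card ι) {u y : ι → F} (h : TS Q F₀ P u y) {c : F}
    (hc : EIn Q H u (c • y)) : c ∈ parField R Hy hM (by omega : 7 ≤ Fintype.card ι) :=
  fun _ _ h' => par_subset R Hy hM hn h h' hc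

end Field

end Cfsg.Agent.Lib.Helper8.Osq
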