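import Mathlib
import Cfsg.Agent.Lib.Helper8.Osq4

/-!
# Orthogonal subfield groups: if all parameters occur then the overgroup contains `Ω`
-/

set_option autoImplicit false

namespace Cfsg.Agent.Lib.Helper8.Osq

open Matrix QuadraticMap Cfsg Cfsg.Agent.Lib.Helper2.Usf Cfsg.Agent.Lib.Helper2.Ssf
  Cfsg.Agent.Lib.Helper5.CartanDieudonne Cfsg.Agent.Lib.Helper5.Eichler
  Cfsg.Agent.Lib.Helper5.OrthSingularMax Cfsg.Agent.Lib.Helper5.OmegaSimple
  Cfsg.Agent.Lib.Helper5.QuadIsom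

universe u

variable {ι : Type} [Fintype ι] [DecidableEq ι] {F : Type u} [Field F] [Fintype F]
  {Q : QuadraticForm F (ι → F)} {F₀ : Subfield F} {P : GL ι F} {H : Subgroup (GL ι F)}
  (R : RatStr Q F₀ P) (Hy : Hyp Q)
  (hM : Cfsg.Geo.subfieldSubgroup F₀ P ⊓ Cfsg.Geo.omegaGL ⇑Q ≤ H)

include R in
omit [Fintype F] in
/-- every vector is a combination of the columns of `P` -/
theorem eq_sum_col (z : ι → F) : z = ∑ j, ((P⁻¹).1 *ᵥ z) j • Helper2.Usf.col P j := by
  rw [← mulVec_eq_sum_col, gl_mulVec_inv_cancel]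

include R in
theorem EIn_rat_perp (hn : 7 ≤ Fintype.card ι) (htop : ∀ c : F, c ∈ parSet Q F₀ P H)
    {u w : ι → F} (hu : V0 F₀ P u) (hu0 : u ≠ 0) (qu : Q u = 0) (hw : V0 F₀ P w)
    (huw : polar ⇑Q u w = 0) (c : F) : EIn Q H u (c • w) := by
  obtain ⟨e, e', he, ⟨hue, hue'⟩, ⟨hwe, hwe'⟩⟩ := R.exists_hp2 hu hw hn
  have hs1 : Q (w + e - Q w • e') = 0 := sing_of_hyp hwe hwe' he.q1 he.q2 he.pair
  have r1 : V0 F₀ P (w + e - Q w • e') := (hw.add he.r1).sub (he.r2.smul (R.val w hw))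
  have t1 : TS Q F₀ P u (w + e - Q w • e') := by
    refine ts_of_witness hu r1 qu hs1 ?_ hu0 (t := e') ?_ hue'
    · rw [polar_sub_right, polar_add_right, polar_smul_right, huw, hue, hue']
      simp
    · rw [polar_sub_left, polar_add_left, polar_smul_left, hwe', he.pair, polar_self_of_sing he.q2]
      simp
  have t2 : TS Q F₀ P u e :=
    ts_of_witness hu he.r1 qu he.q1 hue hu0 (t := e') (by rw [he.pair]; exact one_ne_zero) hue'
  have t3 : TS Q F₀ P u e' :=
    ts_of_witness hu he.r2 qu he.q2 hue' hu0 (t := e) (by rw [he.pair']; exact one_ne_zero) hue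
  have a1 := htop c u _ t1
  have a2 := htop (-c) u e t2
  have a3 := htop (c * Q w) u e' t3
  exact ((a1.add a2).add a3).congr rfl (by module)

include R in
/-- every non-zero rational singular vector is a centre -/
theorem isCentre_rat (hn : 7 ≤ Fintype.card ι) (htop : ∀ c : F, c ∈ parSet Q F₀ P H)
    {u : ι → F} (hu : V0 F₀ P u) (hu0 : u ≠ 0) (qu : Q u = 0) : IsCentre Q H u := by
  refine ⟨qu, fun hu' z huz => ?_⟩
  have key : EIn Q H u z := by
    obtain ⟨us, hus, qus, huus⟩ := R.exists_rat_partner hu hu0 qu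
    set c := (P⁻¹).1 *ᵥ z with hc
    have hz : z = ∑ j, c j • Helper2.Usf.col P j := eq_sum_col R z
    have hsum : ∑ j, c j * polar ⇑Q (Helper2.Usf.col P j) u = 0 := by
      rw [← polar_sum_left, ← hz, polar_comm, huz]
    have hz2 : z = ∑ j, c j • (Helper2.Usf.col P j - polar ⇑Q (Helper2.Usf.col P j) u • us) := by
      have : ∑ j, c j • (Helper2.Usf.col P j - polar ⇑Q (Helper2.Usf.col P j) u • us) =
          ∑ j, c j • Helper2.Usf.col P j - (∑ j, c j * polar ⇑Q (Helper2.Usf.col P j) u) • us := by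
        rw [Finset.sum_smul, ← Finset.sum_sub_distrib]
        apply Finset.sum_congr rfl
        intro j _
        rw [smul_sub, smul_smul]
      rw [this, hsum, zero_smul, sub_zero, ← hz]
    rw [hz2]
    apply Finset.sum_induction _ (fun x => EIn Q H u x) (fun a b ha hb => ha.add hb)
      (EIn.zero qu)
    intro j _
    apply EIn_rat_perp R hn htop hu hu0 qu
    · exact (V0_col j).sub (hus.smul (R.polar_mem (V0_col j) hu))
    · rw [polar_sub_right, polar_smul_right, huus, polar_comm _ u (Helper2.Usf.col P j)]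
      simp
  obtain ⟨_, _, hm⟩ := key
  exact hm

include R Hy in
/-- Step 3: if all parameters occur then `H` contains `Ω` -/
theorem omegaGL_le_of_top (hn : 7 ≤ Fintype.card ι) (htop : ∀ c : F, c ∈ parSet Q F₀ P H) :
    Cfsg.Geo.omegaGL ⇑Q ≤ H := by
  apply omegaGL_le Hy
  intro v qv
  by_cases hv0 : v = 0
  · rw [hv0]; exact isCentre_zero H
  obtain ⟨s, hs, qs, hvs⟩ := R.exists_rat_sing_ne (by omega) hv0
  have hs0 : s ≠ 0 := by
    rintro rfl
    simp [polar] at hvs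
  obtain ⟨ss, hss, qss, hsss⟩ := R.exists_rat_partner hs hs0 qs
  have hss0 : ss ≠ 0 := by
    rintro rfl
    simp [polar] at hsss
  obtain ⟨β, hβ⟩ : ∃ β, β = polar ⇑Q v s := ⟨_, rfl⟩
  have hβ0 : β ≠ 0 := by rw [hβ]; exact hvs
  obtain ⟨v₁, hv₁⟩ : ∃ v₁, v₁ = β⁻¹ • v := ⟨_, rfl⟩
  have hv₁s : polar ⇑Q v₁ s = 1 := by
    rw [hv₁, polar_smul_left, ← hβ, smul_eq_mul, inv_mul_cancel₀ hβ0]
  have qv₁ : Q v₁ = 0 := by rw [hv₁, QuadraticMap.map_smul, qv, smul_zero]
  have hsw : polar ⇑Q s (v₁ - ss) = 0 := by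
    rw [polar_sub_right, polar_comm _ s v₁, hv₁s, hsss, sub_self]
  have c1 := isCentre_rat R hn htop hs hs0 qs
  have c2 := isCentre_rat R hn htop hss hss0 qss
  have hg := c1.2 qs (v₁ - ss) hsw
  have c3 := isCentre_act (eich Q s (v₁ - ss) qs hsw) hg c2
  have e : act Q (eich Q s (v₁ - ss) qs hsw) ss = v₁ := by
    rw [act_eich, eichlerMap_apply, hsss, quad_sub, qv₁, qss, polar_sub_left,
      polar_self_of_sing qss]
    simp
  rw [e] at c3
  have c4 := isCentre_smul β c3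
  have : β • v₁ = v := by rw [hv₁, smul_smul, mul_inv_cancel₀ hβ0, one_smul]
  rw [this] at c4
  exact c4

end Cfsg.Agent.Lib.Helper8.Osq
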