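import Mathlib
import Cfsg.Agent.Lib.Helper2.SfmD
import Cfsg.Agent.S0801

/-!
# A homomorphism from `SL₂` attached to a pair of opposite nilpotent elements, and Dickson's lemma
-/

set_option autoImplicit false

namespace Cfsg.Agent.Lib.Helper8.Osq

open Matrix Cfsg

universe u v

section Hom

variable {F : Type u} [Field F] {A : Type v} [Ring A] [Algebra F A]

/-- the (non-unital) embedding of `2 × 2` matrices attached to `N` and `M` -/
def psi (N M : A) (X : Matrix (Fin 2) (Fin 2) F) : A :=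
  X 0 0 • (M * N) + X 0 1 • M + X 1 0 • N + X 1 1 • (N * M)

theorem psi_add (N M : A) (X Y : Matrix (Fin 2) (Fin 2) F) :
    psi N M (X + Y) = psi N M X + psi N M Y := by
  simp only [psi, Matrix.add_apply, add_smul]
  abel

theorem psi_zero (N M : A) : psi N M (0 : Matrix (Fin 2) (Fin 2) F) = 0 := by
  simp [psi]

theorem psi_mul (N M : A) (h1 : N * N = 0) (h2 : M * M = 0) (h3 : N * M * N = N)
    (h4 : M * N * M = M) (X Y : Matrix (Fin 2) (Fin 2) F) :
    psi N M (X * Y) = psi N M X * psi N M Y := by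
  have h1x : ∀ x, N * (N * x) = 0 := fun x => by rw [← mul_assoc, h1, zero_mul]
  have h2x : ∀ x, M * (M * x) = 0 := fun x => by rw [← mul_assoc, h2, zero_mul]
  have h3' : N * (M * N) = N := by rw [← mul_assoc, h3]
  have h4' : M * (N * M) = M := by rw [← mul_assoc, h4]
  have h3x : ∀ x, N * (M * (N * x)) = N * x := fun x => by
    rw [← mul_assoc, ← mul_assoc, h3]
  have h4x : ∀ x, M * (N * (M * x)) = M * x := fun x => by
    rw [← mul_assoc, ← mul_assoc, h4]
  simp only [psi, Matrix.mul_apply, Fin.sum_univ_two, add_mul, mul_add, smul_mul_assoc,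
    mul_smul_comm, mul_assoc, h1, h2, h1x, h2x, h3', h4', h3x, h4x, smul_zero, add_zero, zero_add,
    mul_zero, zero_mul]
  module

/-- the homomorphism `X ↦ 1 + ψ(X - 1)` -/
def phiHom (N M : A) (h1 : N * N = 0) (h2 : M * M = 0) (h3 : N * M * N = N)
    (h4 : M * N * M = M) : Matrix (Fin 2) (Fin 2) F →* A where
  toFun X := 1 + psi N M (X - 1)
  map_one' := by rw [sub_self, psi_zero, add_zero]
  map_mul' := fun X Y => by
    have e : X * Y - 1 = (X - 1) + (Y - 1) + (X - 1) * (Y - 1) := by noncomm_ring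
    rw [e, psi_add, psi_add, psi_mul N M h1 h2 h3 h4]
    noncomm_ring

theorem phiHom_apply (N M : A) (h1 : N * N = 0) (h2 : M * M = 0) (h3 : N * M * N = N)
    (h4 : M * N * M = M) (X : Matrix (Fin 2) (Fin 2) F) :
    phiHom N M h1 h2 h3 h4 X =
      1 + ((X 0 0 - 1) • (M * N) + X 0 1 • M + X 1 0 • N + (X 1 1 - 1) • (N * M)) := by
  show 1 + psi N M (X - 1) = _
  simp [psi, Matrix.sub_apply]

end Hom

section Dickson

variable {F : Type u} [Field F] [Fintype F] {A : Type v} [Monoid A]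

theorem upper_mul_neg (l : F) :
    (!![1, l; 0, 1] * !![1, -l; 0, 1] : Matrix (Fin 2) (Fin 2) F) = 1 := by
  ext i j
  fin_cases i <;> fin_cases j <;> simp [Matrix.mul_apply, Fin.sum_univ_two]

theorem lower_mul_neg :
    (!![1, 0; 1, 1] * !![1, 0; -1, 1] : Matrix (Fin 2) (Fin 2) F) = 1 := by
  ext i j
  fin_cases i <;> fin_cases j <;> simp [Matrix.mul_apply, Fin.sum_univ_two]

theorem word_eq (l : F) (h : l ^ 2 = -1) :
    (!![1, l; 0, 1] * !![1, 0; 1, 1] * !![1, -l; 0, 1] * !![1, 0; -1, 1] * !![1, l; 0, 1] *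
      !![1, 0; 1, 1] : Matrix (Fin 2) (Fin 2) F) = !![l, 0; 0, -l] := by
  ext i j
  fin_cases i <;> fin_cases j <;> simp [Matrix.mul_apply, Fin.sum_univ_two] <;>
    first
    | linear_combination (1 + l) * h
    | linear_combination l * h
    | linear_combination h
    | linear_combination (-1 : F) * h
    | linear_combination (-l) * h

/-- Dickson's lemma for a homomorphic image of `SL₂` -/
theorem dickson_hom (h2 : (2 : F) ≠ 0) (Φ : Matrix (Fin 2) (Fin 2) F →* A) (H : Subgroup Aˣ)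
    (lam : F) (hlam : lam ≠ 0) {t₁ t₂ : Aˣ} (ht₁ : t₁ ∈ H) (ht₂ : t₂ ∈ H)
    (h₁ : t₁.1 = Φ !![1, 0; 1, 1]) (h₂ : t₂.1 = Φ !![1, lam; 0, 1]) :
    (∃ g ∈ H, g.1 = Φ !![1, 0; lam, 1]) ∨
      (lam ^ 2 = -1 ∧ ∃ g ∈ H, g.1 = Φ !![lam, 0; 0, -lam]) := by
  classical
  set K' := Subfield.closure ({lam} : Set F) with hK'
  set lam' : K' := ⟨lam, Subfield.subset_closure rfl⟩ with hlam'
  set Ψ : Matrix.SpecialLinearGroup (Fin 2) K' →* Aˣ :=
    (Φ.comp (Cfsg.Agent.Lib.Helper2.Sfm.slToMat K')).toHomUnits with hΨ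
  have hΨv : ∀ g, (Ψ g : A) = Φ (K'.subtype.mapMatrix g.1) := by
    intro g
    rw [hΨ, MonoidHom.coe_toHomUnits]
    rfl
  have h2' : (2 : K') ≠ 0 := by
    intro h
    apply h2
    have := congrArg K'.subtype h
    rwa [map_ofNat, map_zero] at this
  have hlam'0 : lam' ≠ 0 := by
    intro h
    apply hlam
    have := congrArg (fun x : K' => (x : F)) h
    simpa [hlam'] using this
  rcases Cfsg.Agent.S0801.result h2' lam' hlam'0
      (Cfsg.Agent.Lib.Helper2.Sfm.closure_singleton_top lam) with ⟨hgen, -⟩ | ⟨-, hsq, -⟩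
  · left
    have hle : Subgroup.closure {g : Matrix.SpecialLinearGroup (Fin 2) K' |
        (g : Matrix (Fin 2) (Fin 2) K') = !![1, 0; 1, 1] ∨
        (g : Matrix (Fin 2) (Fin 2) K') = !![1, lam'; 0, 1]} ≤ H.comap Ψ := by
      rw [Subgroup.closure_le]
      rintro g (hg | hg)
      · have : Ψ g = t₁ := by
          apply Units.ext
          rw [hΨv, hg, Cfsg.Agent.Lib.Helper2.Sfm.mapMatrix_two, h₁]
          simp only [OneMemClass.coe_one, ZeroMemClass.coe_zero]
        show Ψ g ∈ H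
        rw [this]; exact ht₁
      · have : Ψ g = t₂ := by
          apply Units.ext
          rw [hΨv, hg, Cfsg.Agent.Lib.Helper2.Sfm.mapMatrix_two, h₂]
          simp only [OneMemClass.coe_one, ZeroMemClass.coe_zero]
          rfl
        show Ψ g ∈ H
        rw [this]; exact ht₂
    rw [hgen] at hle
    have hdet : (!![1, 0; lam', 1] : Matrix (Fin 2) (Fin 2) K').det = 1 := by
      rw [Matrix.det_fin_two_of]; ring
    obtain ⟨g₀, hg₀⟩ : ∃ g₀ : Matrix.SpecialLinearGroup (Fin 2) K',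
        (g₀ : Matrix (Fin 2) (Fin 2) K') = !![1, 0; lam', 1] := ⟨⟨_, hdet⟩, rfl⟩
    have hmem : Ψ g₀ ∈ H := hle (Subgroup.mem_top _)
    refine ⟨Ψ g₀, hmem, ?_⟩
    rw [hΨv, hg₀, Cfsg.Agent.Lib.Helper2.Sfm.mapMatrix_two]
    simp only [OneMemClass.coe_one, ZeroMemClass.coe_zero]
    rfl
  · right
    have hsq' : lam ^ 2 = -1 := by
      have := congrArg (fun x : K' => (x : F)) hsq
      simpa [hlam'] using this
    refine ⟨hsq', t₂ * t₁ * t₂⁻¹ * t₁⁻¹ * t₂ * t₁, ?_, ?_⟩
    · exact H.mul_mem (H.mul_mem (H.mul_mem (H.mul_mem (H.mul_mem ht₂ ht₁) (H.inv_mem ht₂))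
        (H.inv_mem ht₁)) ht₂) ht₁
    · have i₂ : ((t₂⁻¹ : Aˣ) : A) = Φ !![1, -lam; 0, 1] := by
        apply Units.inv_eq_of_mul_eq_one_right
        rw [h₂, ← map_mul, upper_mul_neg, map_one]
      have i₁ : ((t₁⁻¹ : Aˣ) : A) = Φ !![1, 0; -1, 1] := by
        apply Units.inv_eq_of_mul_eq_one_right
        rw [h₁, ← map_mul, lower_mul_neg, map_one]
      simp only [Units.val_mul]
      rw [i₁, i₂, h₁, h₂, ← map_mul, ← map_mul, ← map_mul, ← map_mul, ← map_mul, word_eq lam hsq']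

end Dickson

end Cfsg.Agent.Lib.Helper8.Osq
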