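import Mathlib
import Cfsg.Agent.Lib.Helper8.Osq3
import Cfsg.Agent.Lib.Helper8.Osq6

/-!
# Orthogonal subfield groups: Dickson's lemma for a pair of opposite long root elements
-/

set_option autoImplicit false

namespace Cfsg.Agent.Lib.Helper8.Osq

open Matrix QuadraticMap Cfsg
  Cfsg.Agent.Lib.Helper5.CartanDieudonne Cfsg.Agent.Lib.Helper5.Eichler
  Cfsg.Agent.Lib.Helper5.OrthSingularMax Cfsg.Agent.Lib.Helper5.OmegaSimple
  Cfsg.Agent.Lib.Helper5.QuadIsom

universe u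

variable {ι : Type} [Fintype ι] [DecidableEq ι] {F : Type u} [Field F]
  (Q : QuadraticForm F (ι → F))

/-- the nilpotent operator `x ↦ B(u,x) y - B(y,x) u` -/
noncomputable def nilL (u y : ι → F) : (ι → F) →ₗ[F] (ι → F) :=
  (polarBilin Q u).smulRight y - (polarBilin Q y).smulRight u

/-- its matrix -/
noncomputable def nilM (u y : ι → F) : Matrix ι ι F := LinearMap.toMatrix' (nilL Q u y)

theorem nilM_mulVec (u y x : ι → F) :
    nilM Q u y *ᵥ x = polar ⇑Q u x • y - polar ⇑Q y x • u := by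
  unfold nilM
  rw [LinearMap.toMatrix'_mulVec]
  simp [nilL, polarBilin_apply_apply]

variable {Q}

theorem eich_smul_val {u y : ι → F} (hu : Q u = 0) (huy : polar ⇑Q u y = 0) (qy : Q y = 0)
    (s : F) :
    ((eich Q u (s • y) hu (by rw [polar_smul_right, huy, smul_zero]) :
      ↥(isometryGroup F ⇑Q)) : GL ι F).1 = 1 + s • nilM Q u y := by
  rw [Matrix.ext_iff_mulVec]
  intro x
  have : (((eich Q u (s • y) hu (by rw [polar_smul_right, huy, smul_zero]) :
      ↥(isometryGroup F ⇑Q)) : GL ι F).1) *ᵥ x =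
      act Q (eich Q u (s • y) hu (by rw [polar_smul_right, huy, smul_zero])) x := rfl
  rw [this, act_eich, eichlerMap_apply, Matrix.add_mulVec, Matrix.one_mulVec, Matrix.smul_mulVec,
    nilM_mulVec, QuadraticMap.map_smul, qy, polar_smul_left]
  simp only [smul_eq_mul, mul_zero, zero_mul, add_zero]
  module

theorem eich_val {u y : ι → F} (hu : Q u = 0) (huy : polar ⇑Q u y = 0) (qy : Q y = 0) :
    ((eich Q u y hu huy : ↥(isometryGroup F ⇑Q)) : GL ι F).1 = 1 + nilM Q u y := by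
  have h := eich_smul_val hu huy qy 1
  simp only [one_smul] at h
  exact h

theorem nilM_sq {u y : ι → F} (qu : Q u = 0) (qy : Q y = 0) (huy : polar ⇑Q u y = 0) :
    nilM Q u y * nilM Q u y = 0 := by
  rw [Matrix.ext_iff_mulVec]
  intro x
  simp only [← Matrix.mulVec_mulVec, nilM_mulVec, polar_sub_right, polar_smul_right, smul_eq_mul,
    polar_self_of_sing qu, polar_self_of_sing qy, huy, polar_comm _ y u, Matrix.zero_mulVec]
  simp

theorem nilM_triple {u y u' y' : ι → F} (qu : Q u = 0) (qy : Q y = 0)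
    (huy : polar ⇑Q u y = 0) :
    nilM Q u y * nilM Q u' y' * nilM Q u y =
      (-(polar ⇑Q u u' * polar ⇑Q y y' - polar ⇑Q u y' * polar ⇑Q y u')) • nilM Q u y := by
  rw [Matrix.ext_iff_mulVec]
  intro x
  simp only [← Matrix.mulVec_mulVec, nilM_mulVec, polar_sub_right, polar_smul_right, smul_eq_mul,
    polar_comm _ u' y, polar_comm _ u' u, polar_comm _ y' y, polar_comm _ y' u,
    Matrix.smul_mulVec]
  module

theorem nilM_mulVec_of_perp {u y b : ι → F} (hub : polar ⇑Q u b = 0) (hyb : polar ⇑Q y b = 0) :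
    nilM Q u y *ᵥ b = 0 := by
  rw [nilM_mulVec, hub, hyb]
  simp

variable [Fintype F]

/-- Dickson's lemma for the group generated by two opposite long root elements -/
theorem dickson_eich (h2 : (2 : F) ≠ 0) {H : Subgroup (GL ι F)} {u y u' y' : ι → F}
    (qy : Q y = 0) (qy' : Q y' = 0) (h1 : EIn Q H u y) (h1' : EIn Q H u' y') {Δ : F}
    (hΔ : Δ = polar ⇑Q u u' * polar ⇑Q y y' - polar ⇑Q u y' * polar ⇑Q y u') (hΔ0 : Δ ≠ 0) :
    EIn Q H u ((-Δ) • y) ∨ (Δ ^ 2 = -1 ∧ ∃ g ∈ H, g.1 *ᵥ u = Δ • u ∧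
      ∀ b, polar ⇑Q u b = 0 → polar ⇑Q y b = 0 → polar ⇑Q u' b = 0 → polar ⇑Q y' b = 0 →
        g.1 *ᵥ b = b) := by
  obtain ⟨qu, huy, hm⟩ := h1
  obtain ⟨qu', hu'y', hm'⟩ := h1'
  obtain ⟨N, hN⟩ : ∃ N, N = nilM Q u y := ⟨_, rfl⟩
  obtain ⟨N', hN'⟩ : ∃ N', N' = nilM Q u' y' := ⟨_, rfl⟩
  obtain ⟨c, hc⟩ : ∃ c : F, c = (-Δ)⁻¹ := ⟨_, rfl⟩
  have hnΔ : -Δ ≠ 0 := neg_ne_zero.mpr hΔ0
  have hcΔ : c * (-Δ) = 1 := by rw [hc, inv_mul_cancel₀ hnΔ]
  have r1 : N * N = 0 := by rw [hN]; exact nilM_sq qu qy huy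
  have r2 : N' * N' = 0 := by rw [hN']; exact nilM_sq qu' qy' hu'y'
  have r3 : N * N' * N = (-Δ) • N := by
    rw [hN, hN', hΔ]; exact nilM_triple qu qy huy
  have r4 : N' * N * N' = (-Δ) • N' := by
    rw [hN, hN', nilM_triple qu' qy' hu'y', hΔ]
    congr 2
    rw [polar_comm _ u' u, polar_comm _ y' y, polar_comm _ u' y, polar_comm _ y' u]
    ring
  obtain ⟨M, hM⟩ : ∃ M, M = c • N' := ⟨_, rfl⟩
  have s1 : M * M = 0 := by rw [hM, smul_mul_smul_comm, r2, smul_zero]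
  have s3 : N * M * N = N := by
    rw [hM, mul_smul_comm, smul_mul_assoc, r3, smul_smul, hcΔ, one_smul]
  have s4 : M * N * M = M := by
    rw [hM, smul_mul_assoc, mul_smul_comm, smul_mul_assoc, r4, smul_smul, smul_smul, mul_assoc,
      hcΔ, mul_one]
  have hΦ := phiHom_apply (F := F) N M r1 s1 s3 s4
  have e₁ : ((eich Q u y qu huy : ↥(isometryGroup F ⇑Q)) : GL ι F).1 =
      phiHom (F := F) N M r1 s1 s3 s4 !![1, 0; 1, 1] := by
    rw [hΦ, eich_val qu huy qy, ← hN]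
    simp
  have e₂ : ((eich Q u' y' qu' hu'y' : ↥(isometryGroup F ⇑Q)) : GL ι F).1 =
      phiHom (F := F) N M r1 s1 s3 s4 !![1, -Δ; 0, 1] := by
    rw [hΦ, eich_val qu' hu'y' qy', ← hN', hM]
    simp [smul_smul, mul_comm (-Δ) c, hcΔ]
  rcases dickson_hom h2 (phiHom (F := F) N M r1 s1 s3 s4) H (-Δ) hnΔ hm hm' e₁ e₂ with
    ⟨g, hg, hgv⟩ | ⟨hsq, g, hg, hgv⟩
  · left
    refine ⟨qu, by rw [polar_smul_right, huy, smul_zero], ?_⟩
    have : ((eich Q u ((-Δ) • y) qu (by rw [polar_smul_right, huy, smul_zero]) :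
        ↥(isometryGroup F ⇑Q)) : GL ι F) = g := by
      apply Units.ext
      rw [hgv, hΦ, eich_smul_val qu huy qy, ← hN]
      simp
    rw [this]
    exact hg
  · right
    refine ⟨by rw [← hsq]; ring, g, hg, ?_, ?_⟩
    · rw [hgv, hΦ]
      have a1 : N *ᵥ u = 0 := by
        rw [hN]
        exact nilM_mulVec_of_perp (polar_self_of_sing qu) (by rw [polar_comm]; exact huy)
      have a2 : (N * M) *ᵥ u = u := by
        have m1 : M *ᵥ u = c • (polar ⇑Q u u' • y' - polar ⇑Q u y' • u') := by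
          rw [hM, hN', Matrix.smul_mulVec, nilM_mulVec, polar_comm _ u' u, polar_comm _ y' u]
        have hc' : c * (-(polar ⇑Q u u' * polar ⇑Q y y' - polar ⇑Q u y' * polar ⇑Q y u')) = 1 := by
          rw [← hΔ]; exact hcΔ
        rw [← Matrix.mulVec_mulVec, m1, hN, nilM_mulVec]
        simp only [polar_smul_right, polar_sub_right, smul_eq_mul]
        have key : (c * (polar ⇑Q u u' * polar ⇑Q u y' - polar ⇑Q u y' * polar ⇑Q u u')) • y -
            (c * (polar ⇑Q u u' * polar ⇑Q y y' - polar ⇑Q u y' * polar ⇑Q y u')) • u =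
            (c * (-(polar ⇑Q u u' * polar ⇑Q y y' - polar ⇑Q u y' * polar ⇑Q y u'))) • u := by
          module
        rw [key, hc', one_smul]
      simp only [Matrix.add_mulVec, Matrix.one_mulVec, Matrix.smul_mulVec, ← Matrix.mulVec_mulVec,
        a1, Matrix.mulVec_zero, smul_zero]
      rw [Matrix.mulVec_mulVec, a2]
      simp
      module
    · intro b hub hyb hu'b hy'b
      have b1 : N *ᵥ b = 0 := by rw [hN]; exact nilM_mulVec_of_perp hub hyb
      have b2 : M *ᵥ b = 0 := by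
        rw [hM, hN', Matrix.smul_mulVec, nilM_mulVec_of_perp hu'b hy'b, smul_zero]
      rw [hgv, hΦ]
      simp only [Matrix.add_mulVec, Matrix.one_mulVec, Matrix.smul_mulVec, ← Matrix.mulVec_mulVec,
        b1, b2, Matrix.mulVec_zero, smul_zero, add_zero]

end Cfsg.Agent.Lib.Helper8.Osq
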