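import Mathlib
import Cfsg.Agent.Lib.Helper8.Osq5
import Cfsg.Agent.Lib.Helper8.Osq7

/-!
# Orthogonal subfield groups: the two by two minors attached to totally singular pairs
-/

set_option autoImplicit false

namespace Cfsg.Agent.Lib.Helper8.Osq

open Matrix QuadraticMap Cfsg Cfsg.Agent.Lib.Helper2.Usf Cfsg.Agent.Lib.Helper2.Ssf
  Cfsg.Agent.Lib.Helper5.CartanDieudonne Cfsg.Agent.Lib.Helper5.Eichler
  Cfsg.Agent.Lib.Helper5.OrthSingularMax Cfsg.Agent.Lib.Helper5.OmegaSimple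
  Cfsg.Agent.Lib.Helper5.QuadIsom

universe u

variable {ι : Type} [Fintype ι] [DecidableEq ι] {F : Type u} [Field F] [Fintype F]

section Decomp

variable (F₀ : Subfield F)

/-- the subfield `F₀ + F₀ θ` for `θ² = -1` -/
def quadField {θ : F} (hsq : θ ^ 2 = -1) : Subfield F where
  carrier := {c | ∃ a ∈ F₀, ∃ b ∈ F₀, c = a + b * θ}
  mul_mem' := by
    rintro x y ⟨a, ha, b, hb, rfl⟩ ⟨a', ha', b', hb', rfl⟩
    refine ⟨a * a' - b * b', F₀.sub_mem (F₀.mul_mem ha ha') (F₀.mul_mem hb hb'),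
      a * b' + b * a', F₀.add_mem (F₀.mul_mem ha hb') (F₀.mul_mem hb ha'), ?_⟩
    linear_combination (b * b') * hsq
  one_mem' := ⟨1, F₀.one_mem, 0, F₀.zero_mem, by ring⟩
  add_mem' := by
    rintro x y ⟨a, ha, b, hb, rfl⟩ ⟨a', ha', b', hb', rfl⟩
    exact ⟨a + a', F₀.add_mem ha ha', b + b', F₀.add_mem hb hb', by ring⟩
  zero_mem' := ⟨0, F₀.zero_mem, 0, F₀.zero_mem, by ring⟩
  neg_mem' := by
    rintro x ⟨a, ha, b, hb, rfl⟩
    exact ⟨-a, F₀.neg_mem ha, -b, F₀.neg_mem hb, by ring⟩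
  inv_mem' := by
    have hmul : ∀ x y : F, (∃ a ∈ F₀, ∃ b ∈ F₀, x = a + b * θ) →
        (∃ a ∈ F₀, ∃ b ∈ F₀, y = a + b * θ) → ∃ a ∈ F₀, ∃ b ∈ F₀, x * y = a + b * θ := by
      rintro x y ⟨a, ha, b, hb, rfl⟩ ⟨a', ha', b', hb', rfl⟩
      refine ⟨a * a' - b * b', F₀.sub_mem (F₀.mul_mem ha ha') (F₀.mul_mem hb hb'),
        a * b' + b * a', F₀.add_mem (F₀.mul_mem ha hb') (F₀.mul_mem hb ha'), ?_⟩
      linear_combination (b * b') * hsq
    intro x hx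
    by_cases hx0 : x = 0
    · rw [hx0, _root_.inv_zero]; exact ⟨0, F₀.zero_mem, 0, F₀.zero_mem, by ring⟩
    · have h1 : ∀ k : ℕ, ∃ a ∈ F₀, ∃ b ∈ F₀, x ^ k = a + b * θ := by
        intro k
        induction k with
        | zero => rw [pow_zero]; exact ⟨1, F₀.one_mem, 0, F₀.zero_mem, by ring⟩
        | succ k ih => rw [pow_succ]; exact hmul _ _ ih hx
      have h2 : x * x ^ (Fintype.card F - 2) = 1 := by
        rw [← pow_succ']
        have : Fintype.card F - 2 + 1 = Fintype.card F - 1 := by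
          have : 1 < Fintype.card F := Fintype.one_lt_card
          omega
        rw [this]
        exact FiniteField.pow_card_sub_one_eq_one x hx0
      have h3 : x ^ (Fintype.card F - 2) = x⁻¹ := eq_inv_of_mul_eq_one_right h2
      show ∃ a ∈ F₀, ∃ b ∈ F₀, x⁻¹ = a + b * θ
      rw [← h3]
      exact h1 _

/-- if `θ² = -1` and `θ ∉ F₀` then `F = F₀ + F₀ θ` -/
theorem exists_decomp_field (r : ℕ) (hr : r.Prime) (hcard : Fintype.card F = Nat.card F₀ ^ r)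
    {θ : F} (hθ : θ ∉ F₀) (hsq : θ ^ 2 = -1) (c : F) : ∃ a ∈ F₀, ∃ b ∈ F₀, c = a + b * θ := by
  have hle : F₀ ≤ quadField F₀ hsq := fun a ha => ⟨a, ha, 0, F₀.zero_mem, by ring⟩
  rcases Cfsg.Agent.Lib.Helper2.Sfm.subfield_eq_or_eq_top F₀ (quadField F₀ hsq) hle r hr hcard with
    h | h
  · exfalso
    apply hθ
    rw [← h]
    exact ⟨0, F₀.zero_mem, 1, F₀.one_mem, by ring⟩
  · have : c ∈ quadField F₀ hsq := by rw [h]; exact Subfield.mem_top c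
    exact this

variable {F₀}

omit [Fintype F] in
theorem exists_decomp_vec {P : GL ι F} {θ : F}
    (hdec : ∀ c : F, ∃ a ∈ F₀, ∃ b ∈ F₀, c = a + b * θ) (v : ι → F) :
    ∃ v₁ v₂, V0 F₀ P v₁ ∧ V0 F₀ P v₂ ∧ v = v₁ + θ • v₂ := by
  choose a ha b hb hab using fun i => hdec (((P⁻¹).1 *ᵥ v) i)
  refine ⟨P.1 *ᵥ a, P.1 *ᵥ b, V0_mulVec ha, V0_mulVec hb, ?_⟩
  rw [← Matrix.mulVec_smul, ← Matrix.mulVec_add]
  have : a + θ • b = (P⁻¹).1 *ᵥ v := by
    funext i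
    rw [hab i]
    simp [mul_comm]
  rw [this, gl_mulVec_inv_cancel]

end Decomp

section Delta

variable {Q : QuadraticForm F (ι → F)} {F₀ : Subfield F} {P : GL ι F} {H : Subgroup (GL ι F)}
  (R : RatStr Q F₀ P) (Hy : Hyp Q)
  (hM : Cfsg.Geo.subfieldSubgroup F₀ P ⊓ Cfsg.Geo.omegaGL ⇑Q ≤ H)
  (hH : H ≤ Cfsg.Geo.omegaGL ⇑Q)

include R Hy hM hH in
/-- Step 4a: the minors attached to two totally singular pairs are rational -/
theorem delta_mem (hn : 13 ≤ Fintype.card ι) (r : ℕ) (hr : r.Prime)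
    (hcard : Fintype.card F = Nat.card F₀ ^ r)
    (hpar : ∀ c : F, c ∈ parSet Q F₀ P H → c ∈ F₀) {u y u₀ y₀ : ι → F} (h : TS Q F₀ P u y)
    (h₀ : TS Q F₀ P u₀ y₀) (a : ↥(isometryGroup F ⇑Q)) (ha : (a : GL ι F) ∈ H) :
    polar ⇑Q u (act Q a u₀) * polar ⇑Q y (act Q a y₀) -
      polar ⇑Q u (act Q a y₀) * polar ⇑Q y (act Q a u₀) ∈ F₀ := by
  obtain ⟨Δ, hΔ⟩ : ∃ Δ, Δ = polar ⇑Q u (act Q a u₀) * polar ⇑Q y (act Q a y₀) -
      polar ⇑Q u (act Q a y₀) * polar ⇑Q y (act Q a u₀) := ⟨_, rfl⟩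
  rw [← hΔ]
  by_cases hΔ0 : Δ = 0
  · rw [hΔ0]; exact F₀.zero_mem
  have h1 : EIn Q H u y := EIn_of_rat R Hy hM h.ru h.ry h.qu h.orth
  have h1' : EIn Q H (act Q a u₀) (act Q a y₀) :=
    (EIn_of_rat R Hy hM h₀.ru h₀.ry h₀.qu h₀.orth).conj a ha
  have qy' : Q (act Q a y₀) = 0 := by rw [quad_act, h₀.qy]
  have hpar' : ∀ {u y : ι → F}, TS Q F₀ P u y → ∀ {c : F}, EIn Q H u (c • y) → c ∈ F₀ :=
    fun ht _ hc => hpar _ (mem_parField_of_EIn R Hy hM hn ht hc)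
  rcases dickson_eich R.two h.qy qy' h1 h1' hΔ hΔ0 with hc | ⟨hsq, g, hg, hgu, hgb⟩
  · have := hpar' h hc
    have h2 := F₀.neg_mem this
    rwa [neg_neg] at h2
  · by_contra hΔm
    have hdec := exists_decomp_field F₀ r hr hcard hΔm hsq
    obtain ⟨p₁, p₂, hp₁, hp₂, hp⟩ := exists_decomp_vec (P := P) hdec (act Q a u₀)
    obtain ⟨q₁, q₂, hq₁, hq₂, hq⟩ := exists_decomp_vec (P := P) hdec (act Q a y₀)
    obtain ⟨us, hus, qus, huus⟩ := R.exists_rat_partner h.ru h.ne h.qu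
    obtain ⟨b, hb, hb0, qb, hub, hyb, hp₁b, hp₂b, hq₁b, hq₂b, husb⟩ :=
      R.exists_sing7 h.ru h.ry hp₁ hp₂ hq₁ hq₂ hus (by omega)
    have hu'b : polar ⇑Q (act Q a u₀) b = 0 := by
      rw [hp, polar_add_left, polar_smul_left, hp₁b, hp₂b]; simp
    have hy'b : polar ⇑Q (act Q a y₀) b = 0 := by
      rw [hq, polar_add_left, polar_smul_left, hq₁b, hq₂b]; simp
    have tb : TS Q F₀ P u b := by
      refine ⟨h.ru, hb, h.qu, qb, hub, h.ne, ?_⟩
      intro c hc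
      have h3 := husb
      rw [hc, polar_smul_right, polar_comm _ us u, huus, smul_eq_mul, mul_one] at h3
      rw [h3, zero_smul] at hc
      exact hb0 hc
    obtain ⟨ag, hag⟩ := exists_iso_of_mem hH hg
    have e0 : EIn Q H u b := EIn_of_rat R Hy hM h.ru hb h.qu hub
    have e1 := e0.conj ag (by rw [hag]; exact hg)
    have eu : act Q ag u = Δ • u := by
      show ((ag : GL ι F)).1 *ᵥ u = _
      rw [hag]; exact hgu
    have eb : act Q ag b = b := by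
      show ((ag : GL ι F)).1 *ᵥ b = _
      rw [hag]; exact hgb b hub hyb hu'b hy'b
    have e2 := (e1.congr eu eb).smul_right hΔ0
    exact hΔm (hpar' tb e2)

end Delta

end Cfsg.Agent.Lib.Helper8.Osq
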