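import Mathlib
import Cfsg.Agent.Lib.Helper8.Osq8

/-!
# Orthogonal subfield groups: from totally singular pairs to all pairs, and the minors lemma
-/

set_option autoImplicit false

namespace Cfsg.Agent.Lib.Helper8.Osq

open Matrix QuadraticMap Cfsg Cfsg.Agent.Lib.Helper2.Usf Cfsg.Agent.Lib.Helper2.Ssf

universe u

variable {ι : Type} [Fintype ι] [DecidableEq ι] {F : Type u} [Field F] [Fintype F]

/-- the alternating form attached to two vectors -/
def DD (Q : QuadraticForm F (ι → F)) (p q a b : ι → F) : F :=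
  polar ⇑Q a p * polar ⇑Q b q - polar ⇑Q a q * polar ⇑Q b p

variable {Q : QuadraticForm F (ι → F)} {F₀ : Subfield F} {P : GL ι F} (R : RatStr Q F₀ P)

include R

theorem two_mem : (2 : F) ∈ F₀ := by
  have := F₀.add_mem F₀.one_mem F₀.one_mem
  rwa [one_add_one_eq_two] at this

section Ext

variable (p q : ι → F)
  (h : ∀ a b, V0 F₀ P a → V0 F₀ P b → Q a = 0 → Q b = 0 → polar ⇑Q a b = 0 → DD Q p q a b ∈ F₀)

include h

theorem DD_mem_A (hn : 7 ≤ Fintype.card ι) {a b : ι → F} (ha : V0 F₀ P a) (hb : V0 F₀ P b)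
    (qa : Q a = 0) (hab : polar ⇑Q a b = 0) : DD Q p q a b ∈ F₀ := by
  obtain ⟨e, e', he, ⟨hae, hae'⟩, ⟨hbe, hbe'⟩⟩ := R.exists_hp2 ha hb hn
  have hs : Q (b + e - Q b • e') = 0 := sing_of_hyp hbe hbe' he.q1 he.q2 he.pair
  have rs : V0 F₀ P (b + e - Q b • e') := (hb.add he.r1).sub (he.r2.smul (R.val b hb))
  have os : polar ⇑Q a (b + e - Q b • e') = 0 := by
    rw [polar_sub_right, polar_add_right, polar_smul_right, hab, hae, hae']; simp
  have t1 := h a _ ha rs qa hs os
  have t2 := h a e ha he.r1 qa he.q1 hae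
  have t3 := h a e' ha he.r2 qa he.q2 hae'
  have key : DD Q p q a b = DD Q p q a (b + e - Q b • e') - DD Q p q a e +
      Q b * DD Q p q a e' := by
    unfold DD
    simp only [polar_add_left, polar_sub_left, polar_smul_left, smul_eq_mul]
    ring
  rw [key]
  exact F₀.add_mem (F₀.sub_mem t1 t2) (F₀.mul_mem (R.val b hb) t3)

theorem DD_mem_B (hn : 7 ≤ Fintype.card ι) {a a' : ι → F} (ha : V0 F₀ P a) (ha' : V0 F₀ P a')
    (qa : Q a = 0) (qa' : Q a' = 0) (haa' : polar ⇑Q a a' = 1) : DD Q p q a a' ∈ F₀ := by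
  obtain ⟨e, e', he, ⟨hae, hae'⟩, ⟨ha'e, ha'e'⟩⟩ := R.exists_hp2 ha ha' hn
  have q1 : Q (a + e) = 0 := by rw [QuadraticMap.map_add Q a e, qa, he.q1, hae]; simp
  have q2 : Q (a' - e') = 0 := by rw [quad_sub, qa', he.q2, ha'e']; simp
  have q3 : Q (a + e') = 0 := by rw [QuadraticMap.map_add Q a e', qa, he.q2, hae']; simp
  have q4 : Q (e - a') = 0 := by rw [quad_sub, qa', he.q1, polar_comm _ e a', ha'e]; simp
  have o1 : polar ⇑Q (a + e) (a' - e') = 0 := by
    rw [polar_add_left, polar_sub_right, polar_sub_right, haa', hae', polar_comm _ e a', ha'e,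
      he.pair]
    ring
  have o2 : polar ⇑Q (a + e') (e - a') = 0 := by
    rw [polar_add_left, polar_sub_right, polar_sub_right, haa', hae, he.pair',
      polar_comm _ e' a', ha'e']
    ring
  have t1 := h _ _ (ha.add he.r1) (ha'.sub he.r2) q1 q2 o1
  have t2 := h _ _ (ha.add he.r2) (he.r1.sub ha') q3 q4 o2
  have t3 := h a e' ha he.r2 qa he.q2 hae'
  have t4 := h e a' he.r1 ha' he.q1 qa' (by rw [polar_comm]; exact ha'e)
  have t5 := h a e ha he.r1 qa he.q1 hae
  have t6 := h e' a' he.r2 ha' he.q2 qa' (by rw [polar_comm]; exact ha'e')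
  have key : 2 * DD Q p q a a' = DD Q p q (a + e) (a' - e') - DD Q p q (a + e') (e - a') +
      DD Q p q a e' - DD Q p q e a' + DD Q p q a e - DD Q p q e' a' := by
    unfold DD
    simp only [polar_add_left, polar_sub_left, polar_smul_left, smul_eq_mul]
    ring
  have h2 := two_mem R
  have key2 : DD Q p q a a' = 2⁻¹ * (2 * DD Q p q a a') := by
    have := R.two
    field_simp
  rw [key2, key]
  exact F₀.mul_mem (F₀.inv_mem h2)
    (F₀.sub_mem (F₀.add_mem (F₀.sub_mem (F₀.add_mem (F₀.sub_mem t1 t2) t3) t4) t5) t6)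

theorem DD_mem_C (hn : 7 ≤ Fintype.card ι) {a b : ι → F} (ha : V0 F₀ P a) (hb : V0 F₀ P b)
    (qa : Q a = 0) : DD Q p q a b ∈ F₀ := by
  by_cases hab : polar ⇑Q a b = 0
  · exact DD_mem_A R p q h hn ha hb qa hab
  obtain ⟨β, hβ⟩ : ∃ β, β = polar ⇑Q a b := ⟨_, rfl⟩
  have hβ0 : β ≠ 0 := by rw [hβ]; exact hab
  have hβm : β ∈ F₀ := by rw [hβ]; exact R.polar_mem ha hb
  obtain ⟨b', hb'⟩ : ∃ b', b' = β⁻¹ • b := ⟨_, rfl⟩
  have rb' : V0 F₀ P b' := by rw [hb']; exact hb.smul (F₀.inv_mem hβm)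
  have hab' : polar ⇑Q a b' = 1 := by
    rw [hb', polar_smul_right, ← hβ, smul_eq_mul, inv_mul_cancel₀ hβ0]
  have ras : V0 F₀ P (b' - Q b' • a) := rb'.sub (ha.smul (R.val b' rb'))
  have qas : Q (b' - Q b' • a) = 0 := by
    rw [quad_sub, QuadraticMap.map_smul, qa, polar_smul_right, polar_comm _ b' a, hab']
    simp
  have oas : polar ⇑Q a (b' - Q b' • a) = 1 := by
    rw [polar_sub_right, polar_smul_right, hab', polar_self_of_sing qa]
    simp
  have t := DD_mem_B R p q h hn ha ras qa qas oas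
  have key : DD Q p q a b = β * DD Q p q a (b' - Q b' • a) := by
    rw [hb']
    unfold DD
    simp only [polar_sub_left, polar_smul_left, smul_eq_mul]
    field_simp
    ring
  rw [key]
  exact F₀.mul_mem hβm t

/-- Step 4b: a rational alternating expression on totally singular pairs is rational on all
pairs -/
theorem delta_ext (hn : 7 ≤ Fintype.card ι) {a b : ι → F} (ha : V0 F₀ P a) (hb : V0 F₀ P b) :
    DD Q p q a b ∈ F₀ := by
  obtain ⟨e, e', he, ⟨hae, hae'⟩⟩ := R.exists_hp1 ha (by omega)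
  have hs : Q (a + e - Q a • e') = 0 := sing_of_hyp hae hae' he.q1 he.q2 he.pair
  have rs : V0 F₀ P (a + e - Q a • e') := (ha.add he.r1).sub (he.r2.smul (R.val a ha))
  have t1 := DD_mem_C R p q h hn rs hb hs
  have t2 := DD_mem_C R p q h hn he.r1 hb he.q1
  have t3 := DD_mem_C R p q h hn he.r2 hb he.q2
  have key : DD Q p q a b = DD Q p q (a + e - Q a • e') b - DD Q p q e b +
      Q a * DD Q p q e' b := by
    unfold DD
    simp only [polar_add_left, polar_sub_left, polar_smul_left, smul_eq_mul]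
    ring
  rw [key]
  exact F₀.add_mem (F₀.sub_mem t1 t2) (F₀.mul_mem (R.val a ha) t3)

end Ext

end Cfsg.Agent.Lib.Helper8.Osq
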