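import Mathlib
import Cfsg.Agent.Lib.Helper8.Osq9

/-!
# Orthogonal subfield groups: the minors lemma and the inclusion in the subfield group
-/

set_option autoImplicit false

namespace Cfsg.Agent.Lib.Helper8.Osq

open Matrix QuadraticMap Cfsg Cfsg.Agent.Lib.Helper2.Usf Cfsg.Agent.Lib.Helper2.Ssf
  Cfsg.Agent.Lib.Helper5.CartanDieudonne Cfsg.Agent.Lib.Helper5.Eichler
  Cfsg.Agent.Lib.Helper5.OrthSingularMax Cfsg.Agent.Lib.Helper5.OmegaSimple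
  Cfsg.Agent.Lib.Helper5.QuadIsom

universe u

variable {ι : Type} [Fintype ι] [DecidableEq ι] {F : Type u} [Field F] [Fintype F]
  {Q : QuadraticForm F (ι → F)} {F₀ : Subfield F} {P : GL ι F} (R : RatStr Q F₀ P)

include R

/-- the rows of a matrix with rational minors are proportional to rational rows -/
theorem row_prop (hn : 7 ≤ Fintype.card ι) (g : GL ι F)
    (hmin : ∀ a b v w, V0 F₀ P a → V0 F₀ P b → V0 F₀ P v → V0 F₀ P w →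
      polar ⇑Q a (g.1 *ᵥ v) * polar ⇑Q b (g.1 *ᵥ w) -
        polar ⇑Q a (g.1 *ᵥ w) * polar ⇑Q b (g.1 *ᵥ v) ∈ F₀)
    {a₀ v₀ v₁ : ι → F} (ha₀ : V0 F₀ P a₀) (hv₀ : V0 F₀ P v₀) (hv₁ : V0 F₀ P v₁)
    (hl : polar ⇑Q a₀ (g.1 *ᵥ v₀) ≠ 0) :
    ∃ k ∈ F₀, polar ⇑Q a₀ (g.1 *ᵥ v₁) = k * polar ⇑Q a₀ (g.1 *ᵥ v₀) := by
  obtain ⟨l, hl'⟩ : ∃ l, l = polar ⇑Q a₀ (g.1 *ᵥ v₀) := ⟨_, rfl⟩
  obtain ⟨θ₁, hθ₁⟩ : ∃ θ₁, θ₁ = polar ⇑Q a₀ (g.1 *ᵥ v₁) := ⟨_, rfl⟩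
  rw [← hl', ← hθ₁]
  rw [← hl'] at hl
  obtain ⟨e, e', he, ⟨hv₀e, hv₀e'⟩, ⟨hv₁e, hv₁e'⟩⟩ := R.exists_hp2 hv₀ hv₁ hn
  obtain ⟨θ₂, hθ₂⟩ : ∃ θ₂, θ₂ = polar ⇑Q a₀ (g.1 *ᵥ e) := ⟨_, rfl⟩
  obtain ⟨w₁, hw₁⟩ : ∃ w₁, w₁ = g.1 *ᵥ (l • v₁ - θ₁ • v₀) := ⟨_, rfl⟩
  obtain ⟨w₂, hw₂⟩ : ∃ w₂, w₂ = g.1 *ᵥ (l • e - θ₂ • v₀) := ⟨_, rfl⟩
  have pw₁ : ∀ a, polar ⇑Q a w₁ =
      l * polar ⇑Q a (g.1 *ᵥ v₁) - θ₁ * polar ⇑Q a (g.1 *ᵥ v₀) := by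
    intro a
    rw [hw₁, Matrix.mulVec_sub, Matrix.mulVec_smul, Matrix.mulVec_smul, polar_sub_right,
      polar_smul_right, polar_smul_right, smul_eq_mul, smul_eq_mul]
  have pw₂ : ∀ a, polar ⇑Q a w₂ =
      l * polar ⇑Q a (g.1 *ᵥ e) - θ₂ * polar ⇑Q a (g.1 *ᵥ v₀) := by
    intro a
    rw [hw₂, Matrix.mulVec_sub, Matrix.mulVec_smul, Matrix.mulVec_smul, polar_sub_right,
      polar_smul_right, polar_smul_right, smul_eq_mul, smul_eq_mul]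
  have rw₁ : V0 F₀ P w₁ := R.rat_of_polar_mem (fun a ha => by
    rw [pw₁, hl', hθ₁]; exact hmin a₀ a v₀ v₁ ha₀ ha hv₀ hv₁)
  have rw₂ : V0 F₀ P w₂ := R.rat_of_polar_mem (fun a ha => by
    rw [pw₂, hl', hθ₂]; exact hmin a₀ a v₀ e ha₀ ha hv₀ he.r1)
  obtain ⟨a, ha, haw₁, -, haw₂⟩ := R.exists_rat_dual rw₁ rw₁ rw₂ (by
    intro c d hcd
    have h1 : g.1 *ᵥ (l • e - θ₂ • v₀) = g.1 *ᵥ ((c + d) • (l • v₁ - θ₁ • v₀)) := by
      rw [Matrix.mulVec_smul, ← hw₁, ← hw₂, hcd, add_smul]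
    have h2 := congrArg (fun t => (g⁻¹).1 *ᵥ t) h1
    simp only [gl_inv_mulVec_cancel] at h2
    have h3 := congrArg (fun t => polar ⇑Q t e') h2
    simp only [polar_sub_left, polar_smul_left, he.pair, hv₀e', hv₁e', smul_eq_mul, mul_zero,
      mul_one, sub_zero] at h3
    exact hl h3)
  have E1 := haw₁
  rw [pw₁] at E1
  have E2 := haw₂
  rw [pw₂] at E2
  have hμ := hmin a₀ a v₁ e ha₀ ha hv₁ he.r1
  rw [← hθ₁, ← hθ₂] at hμ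
  refine ⟨_, hμ, ?_⟩
  linear_combination (-θ₁) * E2 + θ₂ * E1

omit R [Fintype F] in
theorem polar_act_inv (a : ↥(isometryGroup F ⇑Q)) (t z : ι → F) :
    polar ⇑Q z (act Q a⁻¹ t) = polar ⇑Q t (act Q a z) := by
  rw [← polar_act Q a z (act Q a⁻¹ t), Cfsg.Agent.Lib.Helper5.Siegel.act_inv_act, polar_comm]

/-- Step 4c: an isometry all of whose minors are rational lies in the subfield group -/
theorem mem_sfS_of_minors (hn : 7 ≤ Fintype.card ι) (a : ↥(isometryGroup F ⇑Q))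
    (hmin : ∀ p q v w, V0 F₀ P p → V0 F₀ P q → V0 F₀ P v → V0 F₀ P w →
      polar ⇑Q p (act Q a v) * polar ⇑Q q (act Q a w) -
        polar ⇑Q p (act Q a w) * polar ⇑Q q (act Q a v) ∈ F₀) :
    (a : GL ι F) ∈ Cfsg.Geo.subfieldSubgroup F₀ P := by
  have hrow : ∀ {a₀ v₀ v₁ : ι → F}, V0 F₀ P a₀ → V0 F₀ P v₀ → V0 F₀ P v₁ →
      polar ⇑Q a₀ (act Q a v₀) ≠ 0 →
      ∃ k ∈ F₀, polar ⇑Q a₀ (act Q a v₁) = k * polar ⇑Q a₀ (act Q a v₀) :=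
    fun ha₀ hv₀ hv₁ hl => row_prop R hn (a : GL ι F) hmin ha₀ hv₀ hv₁ hl
  have hmin' : ∀ p q v w, V0 F₀ P p → V0 F₀ P q → V0 F₀ P v → V0 F₀ P w →
      polar ⇑Q p (act Q a⁻¹ v) * polar ⇑Q q (act Q a⁻¹ w) -
        polar ⇑Q p (act Q a⁻¹ w) * polar ⇑Q q (act Q a⁻¹ v) ∈ F₀ := by
    intro p q v w hp hq hv hw
    rw [polar_act_inv, polar_act_inv, polar_act_inv, polar_act_inv]
    have := hmin v w p q hv hw hp hq
    convert this using 1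
    ring
  have hcol : ∀ {v₀ a₀ a₁ : ι → F}, V0 F₀ P v₀ → V0 F₀ P a₀ → V0 F₀ P a₁ →
      polar ⇑Q a₀ (act Q a v₀) ≠ 0 →
      ∃ k ∈ F₀, polar ⇑Q a₁ (act Q a v₀) = k * polar ⇑Q a₀ (act Q a v₀) := by
    intro v₀ a₀ a₁ hv₀ ha₀ ha₁ hl
    have := row_prop R hn ((a⁻¹ : ↥(isometryGroup F ⇑Q)) : GL ι F) hmin' hv₀ ha₀ ha₁
      (by
        have e : (((a⁻¹ : ↥(isometryGroup F ⇑Q)) : GL ι F)).1 *ᵥ a₀ = act Q a⁻¹ a₀ := rfl
        rw [e, polar_act_inv]; exact hl)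
    obtain ⟨k, hk, ek⟩ := this
    refine ⟨k, hk, ?_⟩
    have e0 : (((a⁻¹ : ↥(isometryGroup F ⇑Q)) : GL ι F)).1 *ᵥ a₀ = act Q a⁻¹ a₀ := rfl
    have e1 : (((a⁻¹ : ↥(isometryGroup F ⇑Q)) : GL ι F)).1 *ᵥ a₁ = act Q a⁻¹ a₁ := rfl
    rw [e0, e1, polar_act_inv, polar_act_inv] at ek
    exact ek
  obtain ⟨e, e', he, -⟩ := R.exists_hp1 (V0_zero (F₀ := F₀) (P := P)) (by omega)
  have hxe : act Q a e ≠ 0 := fun h0 => he.ne1 (gl_mulVec_eq_zero _ h0)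
  obtain ⟨a₀, ha₀, hl⟩ : ∃ a₀, V0 F₀ P a₀ ∧ polar ⇑Q a₀ (act Q a e) ≠ 0 := by
    by_contra hcon
    push Not at hcon
    exact hxe (R.eq_zero_of_rat_perp hcon)
  obtain ⟨l, hl'⟩ : ∃ l, l = polar ⇑Q a₀ (act Q a e) := ⟨_, rfl⟩
  have hent : ∀ p v, V0 F₀ P p → V0 F₀ P v → ∃ k ∈ F₀, polar ⇑Q p (act Q a v) = k * l := by
    intro p v hp hv
    obtain ⟨k₁, hk₁, e₁⟩ := hcol he.r1 ha₀ hp hl
    by_cases hz : polar ⇑Q p (act Q a e) = 0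
    · have hne : polar ⇑Q (p + a₀) (act Q a e) ≠ 0 := by
        rw [polar_add_left, hz, zero_add]; exact hl
      obtain ⟨k₃, hk₃, e₃⟩ := hrow (hp.add ha₀) he.r1 hv hne
      obtain ⟨k₄, hk₄, e₄⟩ := hrow ha₀ he.r1 hv hl
      refine ⟨k₃ - k₄, F₀.sub_mem hk₃ hk₄, ?_⟩
      rw [polar_add_left, polar_add_left, hz, zero_add] at e₃
      rw [hl']
      linear_combination e₃ - e₄
    · obtain ⟨k₂, hk₂, e₂⟩ := hrow hp he.r1 hv hz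
      exact ⟨k₂ * k₁, F₀.mul_mem hk₂ hk₁, by rw [e₂, e₁, hl']; ring⟩
  have hl0 : l ≠ 0 := by rw [hl']; exact hl
  rw [mem_sfS_iff]
  refine ⟨l⁻¹, inv_ne_zero hl0, fun v hv => R.rat_of_polar_mem (fun p hp => ?_)⟩
  obtain ⟨k, hk, ek⟩ := hent p v hp hv
  have e0 : ((a : GL ι F)).1 *ᵥ v = act Q a v := rfl
  rw [e0, polar_smul_right, ek, smul_eq_mul, ← mul_assoc, mul_comm l⁻¹ k, mul_assoc,
    inv_mul_cancel₀ hl0, mul_one]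
  exact hk

section Final

variable {H : Subgroup (GL ι F)} (Hy : Hyp Q)
  (hM : Cfsg.Geo.subfieldSubgroup F₀ P ⊓ Cfsg.Geo.omegaGL ⇑Q ≤ H)
  (hH : H ≤ Cfsg.Geo.omegaGL ⇑Q)

include Hy hM hH in
/-- Step 4: if only rational parameters occur then `H` lies in the subfield group -/
theorem le_sfS (hn : 13 ≤ Fintype.card ι) (r : ℕ) (hr : r.Prime)
    (hcard : Fintype.card F = Nat.card F₀ ^ r)
    (hpar : ∀ c : F, c ∈ parSet Q F₀ P H → c ∈ F₀) :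
    H ≤ Cfsg.Geo.subfieldSubgroup F₀ P := by
  intro x hx
  obtain ⟨a, rfl⟩ := exists_iso_of_mem hH hx
  apply mem_sfS_of_minors R (by omega) a
  have pass1 : ∀ {u₀ y₀ : ι → F}, TS Q F₀ P u₀ y₀ → ∀ p q, V0 F₀ P p → V0 F₀ P q →
      DD Q (act Q a u₀) (act Q a y₀) p q ∈ F₀ := by
    intro u₀ y₀ h₀ p q hp hq
    apply delta_ext R _ _ _ (by omega) hp hq
    intro p q hp hq qp qq hpq
    by_cases hp0 : p = 0
    · have : DD Q (act Q a u₀) (act Q a y₀) p q = 0 := by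
        unfold DD
        rw [hp0]
        simp [polar]
      rw [this]; exact F₀.zero_mem
    by_cases hdep : ∃ c : F, q = c • p
    · obtain ⟨c, hc⟩ := hdep
      have : DD Q (act Q a u₀) (act Q a y₀) p q = 0 := by
        unfold DD
        rw [hc]
        simp only [polar_smul_left, smul_eq_mul]
        ring
      rw [this]; exact F₀.zero_mem
    push Not at hdep
    exact delta_mem R Hy hM hH hn r hr hcard hpar ⟨hp, hq, qp, qq, hpq, hp0, hdep⟩ h₀ a hx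
  intro p q v w hp hq hv hw
  have key : ∀ v w : ι → F, polar ⇑Q p (act Q a v) * polar ⇑Q q (act Q a w) -
      polar ⇑Q p (act Q a w) * polar ⇑Q q (act Q a v) =
      DD Q (act Q a⁻¹ p) (act Q a⁻¹ q) v w := by
    intro v w
    unfold DD
    rw [polar_act_inv, polar_act_inv, polar_act_inv, polar_act_inv]
    ring
  rw [key v w]
  apply delta_ext R _ _ _ (by omega) hv hw
  intro v w hv hw qv qw hvw
  rw [← key v w]
  by_cases hv0 : v = 0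
  · have : polar ⇑Q p (act Q a v) * polar ⇑Q q (act Q a w) -
        polar ⇑Q p (act Q a w) * polar ⇑Q q (act Q a v) = 0 := by
      rw [hv0]
      simp [polar]
    rw [this]; exact F₀.zero_mem
  by_cases hdep : ∃ c : F, w = c • v
  · obtain ⟨c, hc⟩ := hdep
    have : polar ⇑Q p (act Q a v) * polar ⇑Q q (act Q a w) -
        polar ⇑Q p (act Q a w) * polar ⇑Q q (act Q a v) = 0 := by
      rw [hc, Cfsg.Agent.Lib.Helper5.Siegel.act_smul]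
      simp only [polar_smul_right, smul_eq_mul]
      ring
    rw [this]; exact F₀.zero_mem
  push Not at hdep
  exact pass1 ⟨hv, hw, qv, qw, hvw, hv0, hdep⟩ p q hp hq

end Final

end Cfsg.Agent.Lib.Helper8.Osq
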