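import Mathlib
import Cfsg.Agent.Lib.Helper8.Osq10

/-!
# Orthogonal subfield groups: maximality
-/

set_option autoImplicit false

namespace Cfsg.Agent.Lib.Helper8.Osq

open Matrix QuadraticMap Cfsg Cfsg.Agent.Lib.Helper2.Usf Cfsg.Agent.Lib.Helper2.Ssf
  Cfsg.Agent.Lib.Helper5.CartanDieudonne Cfsg.Agent.Lib.Helper5.Eichler
  Cfsg.Agent.Lib.Helper5.OrthSingularMax Cfsg.Agent.Lib.Helper5.OmegaSimple
  Cfsg.Agent.Lib.Helper5.QuadIsom

universe u

variable {ι : Type} [Fintype ι] [DecidableEq ι] {F : Type u} [Field F] [Fintype F]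
  {Q : QuadraticForm F (ι → F)} {F₀ : Subfield F} {P : GL ι F}

omit [Fintype ι] [DecidableEq ι] in
/-- a proper subfield misses some element -/
theorem exists_not_mem_subfield (F₀ : Subfield F) (r : ℕ) (hr : r.Prime)
    (hcard : Fintype.card F = Nat.card F₀ ^ r) : ∃ θ : F, θ ∉ F₀ := by
  by_contra hcon
  push Not at hcon
  have htop : F₀ = ⊤ := by
    rw [eq_top_iff]
    intro x _
    exact hcon x
  have h1 : Nat.card F₀ = Fintype.card F := by
    rw [htop, ← Nat.card_eq_fintype_card]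
    exact Nat.card_congr (Subfield.topEquiv (K := F)).toEquiv
  rw [h1] at hcard
  have h2 : 1 < Fintype.card F := Fintype.one_lt_card
  have h3 : 2 ≤ r := hr.two_le
  have h4 : Fintype.card F ^ 1 < Fintype.card F ^ r := Nat.pow_lt_pow_right h2 (by omega)
  rw [pow_one] at h4
  omega

/-- the subfield group meets `Ω` in a proper subgroup -/
theorem sfS_inf_lt (R : RatStr Q F₀ P) (Hy : Hyp Q) (hn : 7 ≤ Fintype.card ι) (r : ℕ)
    (hr : r.Prime) (hcard : Fintype.card F = Nat.card F₀ ^ r) :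
    Cfsg.Geo.subfieldSubgroup F₀ P ⊓ Cfsg.Geo.omegaGL ⇑Q < Cfsg.Geo.omegaGL ⇑Q := by
  apply lt_of_le_of_ne inf_le_right
  intro heq
  obtain ⟨θ, hθ⟩ := exists_not_mem_subfield F₀ r hr hcard
  obtain ⟨e, e', he, -⟩ := R.exists_hp1 (V0_zero (F₀ := F₀) (P := P)) (by omega)
  obtain ⟨w, w', hw, ⟨hew, hew'⟩, ⟨he'w, he'w'⟩⟩ := R.exists_hp2 he.r1 he.r2 hn
  have huz : polar ⇑Q e (θ • w) = 0 := by rw [polar_smul_right, hew, smul_zero]
  have hmem : ((eich Q e (θ • w) he.q1 huz : ↥(isometryGroup F ⇑Q)) : GL ι F) ∈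
      Cfsg.Geo.subfieldSubgroup F₀ P := by
    have := eich_mem_omegaGL Hy e (θ • w) he.q1 huz
    rw [← heq] at this
    exact (Subgroup.mem_inf.mp this).1
  rw [mem_sfS_iff] at hmem
  obtain ⟨c, hc0, hc⟩ := hmem
  have h1 := hc e he.r1
  have e1 : ((eich Q e (θ • w) he.q1 huz : ↥(isometryGroup F ⇑Q)) : GL ι F).1 *ᵥ e = e :=
    act_eich_self e (θ • w) he.q1 huz
  rw [e1] at h1
  have hcm : c ∈ F₀ := scalar_mem he.r1 he.ne1 h1
  have h2 := hc e' he.r2
  have e2 : ((eich Q e (θ • w) he.q1 huz : ↥(isometryGroup F ⇑Q)) : GL ι F).1 *ᵥ e' =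
      e' + θ • w := by
    show act Q (eich Q e (θ • w) he.q1 huz) e' = _
    rw [act_eich, eichlerMap_apply, he.pair, polar_smul_left, polar_comm _ w e', he'w,
      QuadraticMap.map_smul, hw.q1]
    simp
  rw [e2] at h2
  have h3 : V0 F₀ P (e' + θ • w) := by
    have := h2.smul (F₀.inv_mem hcm)
    rwa [smul_smul, inv_mul_cancel₀ hc0, one_smul] at this
  have h4 : V0 F₀ P (θ • w) := by
    have := h3.sub he.r2
    rwa [add_sub_cancel_left] at this
  exact hθ (scalar_mem hw.r1 hw.ne1 h4)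

/-- the subfield group of a rational structure for a quadratic form is maximal in `Ω` -/
theorem isMaximalIn_subfield (R : RatStr Q F₀ P) (Hy : Hyp Q) (hn : 13 ≤ Fintype.card ι)
    (r : ℕ) (hr : r.Prime) (hcard : Fintype.card F = Nat.card F₀ ^ r) :
    Cfsg.Geo.IsMaximalIn (Cfsg.Geo.omegaGL ⇑Q)
      (Cfsg.Geo.subfieldSubgroup F₀ P ⊓ Cfsg.Geo.omegaGL ⇑Q) := by
  have hn7 : 7 ≤ Fintype.card ι := by omega
  refine ⟨sfS_inf_lt R Hy hn7 r hr hcard, ?_⟩
  intro H hMH hHΩ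
  rcases Cfsg.Agent.Lib.Helper2.Sfm.subfield_eq_or_eq_top F₀ (parField R Hy hMH hn7)
    (le_parField R Hy hMH hn7) r hr hcard with h | h
  · left
    apply le_antisymm _ hMH
    refine le_inf (le_sfS R Hy hMH hHΩ hn r hr hcard ?_) hHΩ
    intro c hc
    rw [← h]
    exact hc
  · right
    apply le_antisymm hHΩ
    apply omegaGL_le_of_top R Hy hn7
    intro c
    have : c ∈ parField R Hy hMH hn7 := by rw [h]; exact Subfield.mem_top c
    exact this

end Cfsg.Agent.Lib.Helper8.Osq
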