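import Mathlib
import Cfsg.Prelude.Def_Sporadic_a

set_option autoImplicit false
set_option linter.unusedSectionVars false
set_option linter.unusedVariables false

/-! The projective plane over a finite field as a Steiner system, and the action of the
projective special linear group on it. -/

namespace Cfsg.Agent.Lib.Helper8.PG2

open scoped LinearAlgebra.Projectivization
open Projectivization Matrix

variable {K : Type*} [Field K]

/-- incidence of a (dual) vector and a projective point. -/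
def inc (a : Fin 3 → K) (P : ℙ K (Fin 3 → K)) : Prop := a ⬝ᵥ P.rep = 0

theorem inc_mk (a v : Fin 3 → K) (hv : v ≠ 0) : inc a (mk K v hv) ↔ a ⬝ᵥ v = 0 := by
  obtain ⟨c, hc⟩ := exists_smul_eq_mk_rep K v hv
  unfold inc
  rw [← hc, Units.smul_def, dotProduct_smul, smul_eq_mul]
  constructor
  · intro h
    exact (mul_eq_zero.mp h).resolve_left c.ne_zero
  · intro h
    rw [h, mul_zero]

theorem inc_smul (a : Fin 3 → K) (t : K) (ht : t ≠ 0) (P : ℙ K (Fin 3 → K)) :
    inc (t • a) P ↔ inc a P := by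
  unfold inc
  rw [smul_dotProduct, smul_eq_mul]
  constructor
  · intro h
    exact (mul_eq_zero.mp h).resolve_left ht
  · intro h
    rw [h, mul_zero]

/-- the functional attached to a vector. -/
def dotLin (a : Fin 3 → K) : (Fin 3 → K) →ₗ[K] K where
  toFun v := a ⬝ᵥ v
  map_add' := dotProduct_add a
  map_smul' c v := by simp [dotProduct_smul]

theorem dotLin_surjective {a : Fin 3 → K} (ha : a ≠ 0) : Function.Surjective (dotLin a) := by
  have : ∃ i, a i ≠ 0 := by
    by_contra h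
    push Not at h
    exact ha (funext h)
  obtain ⟨i, hi⟩ := this
  intro c
  refine ⟨Pi.single i (c / a i), ?_⟩
  show a ⬝ᵥ Pi.single i (c / a i) = c
  rw [dotProduct_single, mul_div_cancel₀ _ hi]

theorem finrank_ker {a : Fin 3 → K} (ha : a ≠ 0) :
    Module.finrank K (LinearMap.ker (dotLin a)) = 2 := by
  have h1 := LinearMap.finrank_range_add_finrank_ker (dotLin a)
  rw [LinearMap.range_eq_top.2 (dotLin_surjective ha), finrank_top, Module.finrank_self,
    Module.finrank_fin_fun] at h1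
  omega

section Finite

variable [Finite K] [Fintype (ℙ K (Fin 3 → K))] [DecidableEq (ℙ K (Fin 3 → K))]

open Classical in
/-- the line with equation `a`. -/
noncomputable def lineOf (a : Fin 3 → K) : Finset (ℙ K (Fin 3 → K)) :=
  Finset.univ.filter (inc a)

theorem mem_lineOf {a : Fin 3 → K} {P : ℙ K (Fin 3 → K)} : P ∈ lineOf a ↔ inc a P := by
  unfold lineOf
  simp only [Finset.mem_filter, Finset.mem_univ, true_and]

/-- the set of lines. -/
def lines (K : Type*) [Field K] [Fintype (ℙ K (Fin 3 → K))] :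
    Set (Finset (ℙ K (Fin 3 → K))) := {l | ∃ a : Fin 3 → K, a ≠ 0 ∧ l = lineOf a}

theorem coe_lineOf {a : Fin 3 → K} (ha : a ≠ 0) :
    ((lineOf a : Finset (ℙ K (Fin 3 → K))) : Set (ℙ K (Fin 3 → K))) =
      Set.range (Projectivization.map (LinearMap.ker (dotLin a)).subtype
        (Submodule.injective_subtype _)) := by
  ext P
  rw [Finset.mem_coe, mem_lineOf, Set.mem_range]
  induction P using Projectivization.ind with | h v hv =>
  rw [inc_mk]
  constructor
  · intro h
    have hvW : v ∈ LinearMap.ker (dotLin a) := h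
    have hv' : (⟨v, hvW⟩ : LinearMap.ker (dotLin a)) ≠ 0 := by
      intro h0
      exact hv (congrArg Subtype.val h0)
    exact ⟨mk K ⟨v, hvW⟩ hv', rfl⟩
  · rintro ⟨Q, hQ⟩
    induction Q using Projectivization.ind with | h w hw =>
    rw [Projectivization.map_mk, mk_eq_mk_iff] at hQ
    obtain ⟨c, hc⟩ := hQ
    have hw2 : a ⬝ᵥ (w : Fin 3 → K) = 0 := w.2
    have h3 : a ⬝ᵥ (c • v) = 0 := by
      rw [hc]
      exact hw2
    rw [Units.smul_def, dotProduct_smul, smul_eq_mul] at h3
    exact (mul_eq_zero.mp h3).resolve_left c.ne_zero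

theorem card_lineOf {a : Fin 3 → K} (ha : a ≠ 0) :
    (lineOf a : Finset (ℙ K (Fin 3 → K))).card = Nat.card K + 1 := by
  rw [← Set.ncard_coe_finset, coe_lineOf ha, ← Nat.card_coe_set_eq,
    Nat.card_range_of_injective (Projectivization.map_injective _ _)]
  exact Projectivization.card_of_finrank_two K _ (finrank_ker ha)

theorem rep_comp (P Q : ℙ K (Fin 3 → K)) :
    Projectivization.rep ∘ ![P, Q] = ![P.rep, Q.rep] := by
  funext i
  fin_cases i <;> rfl

theorem cross_ne_zero {P Q : ℙ K (Fin 3 → K)} (h : P ≠ Q) : P.rep ⨯₃ Q.rep ≠ 0 := by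
  rw [crossProduct_ne_zero_iff_linearIndependent, ← rep_comp, ← independent_iff,
    independent_pair_iff_ne]
  exact h

theorem inc_cross_left (P Q : ℙ K (Fin 3 → K)) : inc (P.rep ⨯₃ Q.rep) P := by
  unfold inc
  rw [dotProduct_comm]
  exact dot_self_cross _ _

theorem inc_cross_right (P Q : ℙ K (Fin 3 → K)) : inc (P.rep ⨯₃ Q.rep) Q := by
  unfold inc
  rw [dotProduct_comm]
  exact dot_cross_self _ _

theorem lineOf_eq_of_inc {P Q : ℙ K (Fin 3 → K)} (h : P ≠ Q) {c : Fin 3 → K} (hc : c ≠ 0)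
    (hP : inc c P) (hQ : inc c Q) : lineOf c = lineOf (P.rep ⨯₃ Q.rep) := by
  have ha := cross_ne_zero h
  have h0 : P.rep ⨯₃ Q.rep ⨯₃ c = 0 := by
    rw [cross_cross_eq_smul_sub_smul]
    unfold inc at hP hQ
    rw [dotProduct_comm] at hP hQ
    rw [hP, hQ, zero_smul, zero_smul, sub_zero]
  have h1 : ¬ LinearIndependent K ![P.rep ⨯₃ Q.rep, c] := by
    intro hli
    exact (crossProduct_ne_zero_iff_linearIndependent.2 hli) h0
  rw [LinearIndependent.pair_iff' ha] at h1
  push Not at h1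
  obtain ⟨t, ht⟩ := h1
  have ht0 : t ≠ 0 := by
    rintro rfl
    rw [zero_smul] at ht
    exact hc ht.symm
  ext R
  rw [mem_lineOf, mem_lineOf, ← ht, inc_smul _ _ ht0]

theorem steiner (q : ℕ) (hq : Nat.card K = q) :
    Cfsg.IsSteinerSystem 2 (q + 1) (lines K) := by
  refine ⟨?_, ?_⟩
  · rintro b ⟨a, ha, rfl⟩
    rw [card_lineOf ha, hq]
  · intro s hs
    obtain ⟨P, Q, hPQ, rfl⟩ := Finset.card_eq_two.mp hs
    refine ⟨lineOf (P.rep ⨯₃ Q.rep), ⟨⟨_, cross_ne_zero hPQ, rfl⟩, ?_⟩, ?_⟩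
    · intro R hR
      simp only [Finset.mem_insert, Finset.mem_singleton] at hR
      rcases hR with rfl | rfl
      · exact mem_lineOf.2 (inc_cross_left _ _)
      · exact mem_lineOf.2 (inc_cross_right _ _)
    · rintro b ⟨⟨c, hc, rfl⟩, hsub⟩
      have hP : inc c P := mem_lineOf.1 (hsub (by simp))
      have hQ : inc c Q := mem_lineOf.1 (hsub (by simp))
      exact lineOf_eq_of_inc hPQ hc hP hQ

/-! ### the action of the special linear group -/

theorem vecMul_ne_zero (g : Matrix.SpecialLinearGroup (Fin 3) K) {a : Fin 3 → K} (ha : a ≠ 0) :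
    a ᵥ* (g : Matrix (Fin 3) (Fin 3) K) ≠ 0 := by
  intro h0
  apply ha
  have h1 : (a ᵥ* (g : Matrix (Fin 3) (Fin 3) K)) ᵥ* ((g⁻¹ : Matrix.SpecialLinearGroup (Fin 3) K) :
      Matrix (Fin 3) (Fin 3) K) = a := by
    rw [Matrix.vecMul_vecMul, ← Matrix.SpecialLinearGroup.coe_mul, mul_inv_cancel,
      Matrix.SpecialLinearGroup.coe_one, Matrix.vecMul_one]
  rw [← h1, h0, Matrix.zero_vecMul]

theorem inc_smul_SL (g : Matrix.SpecialLinearGroup (Fin 3) K) (a : Fin 3 → K)
    (P : ℙ K (Fin 3 → K)) :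
    inc (a ᵥ* (g : Matrix (Fin 3) (Fin 3) K)) P ↔ inc a (g • P) := by
  induction P using Projectivization.ind with | h v hv =>
  rw [Projectivization.smul_mk, inc_mk, inc_mk, Matrix.SpecialLinearGroup.smul_def,
    Matrix.smul_eq_mulVec, Matrix.dotProduct_mulVec]

theorem image_lineOf (g : Matrix.SpecialLinearGroup (Fin 3) K) (a : Fin 3 → K) :
    (lineOf a).image (fun P : ℙ K (Fin 3 → K) => g • P) =
      lineOf (a ᵥ* ((g⁻¹ : Matrix.SpecialLinearGroup (Fin 3) K) : Matrix (Fin 3) (Fin 3) K)) := by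
  ext R
  rw [Finset.mem_image, mem_lineOf, inc_smul_SL]
  constructor
  · rintro ⟨P, hP, rfl⟩
    rw [inv_smul_smul]
    exact mem_lineOf.1 hP
  · intro h
    exact ⟨g⁻¹ • R, mem_lineOf.2 h, smul_inv_smul g R⟩

theorem image_mem_lines (g : Matrix.SpecialLinearGroup (Fin 3) K)
    {l : Finset (ℙ K (Fin 3 → K))} (hl : l ∈ lines K) :
    l.image (fun P : ℙ K (Fin 3 → K) => g • P) ∈ lines K := by
  obtain ⟨a, ha, rfl⟩ := hl
  exact ⟨_, vecMul_ne_zero g⁻¹ ha, image_lineOf g a⟩

end Finite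

end Cfsg.Agent.Lib.Helper8.PG2
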