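import Cfsg.Agent.Lib.Helper2.Plane4D

set_option autoImplicit false
set_option linter.unusedSectionVars false
set_option linter.unusedVariables false

/-! The collineation group of a projective plane of order 4 has order at most 120960, and a
group-theoretic consequence. -/

namespace Cfsg.Agent.Lib.Helper8.PG2

open Finset Cfsg.Agent.Lib.Helper2.Plane4

section plane

variable {α : Type*} [Fintype α] [DecidableEq α]

theorem aut_image_mem {L : Finset (Finset α)} {g : Equiv.Perm α}
    (hg : g ∈ Cfsg.setSystemAut (L : Set (Finset α))) {l : Finset α} (hl : l ∈ L) :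
    l.image g ∈ L := by
  rw [mem_aut_iff] at hg
  have : l.image g ∈ (fun b : Finset α => b.image g) '' (L : Set (Finset α)) :=
    ⟨l, mem_coe.mpr hl, rfl⟩
  rw [hg] at this
  exact mem_coe.mp this

theorem isArc_image {L : Finset (Finset α)} {g : Equiv.Perm α}
    (hg : g ∈ Cfsg.setSystemAut (L : Set (Finset α))) {Y : Finset α} (hY : IsArc L Y) :
    IsArc L (Y.image g) := by
  have hginv : g⁻¹ ∈ Cfsg.setSystemAut (L : Set (Finset α)) := Subgroup.inv_mem _ hg
  intro l hl
  have hl' := aut_image_mem hginv hl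
  refine le_trans ?_ (hY _ hl')
  apply Finset.card_le_card_of_injOn (fun x => g⁻¹ x)
  · intro x hx
    have hx' := Finset.mem_coe.mp hx
    rw [mem_inter, mem_image] at hx'
    obtain ⟨hxl, y, hy, rfl⟩ := hx'
    rw [Finset.mem_coe, mem_inter]
    refine ⟨mem_image_of_mem _ hxl, ?_⟩
    show g⁻¹ (g y) ∈ Y
    rw [← Equiv.Perm.mul_apply, inv_mul_cancel, Equiv.Perm.one_apply]
    exact hy
  · intro x _ y _ hxy
    exact (g⁻¹).injective hxy

theorem frame_image_mem {L : Finset (Finset α)} {lam : Fin 6 → α} (hF : Frame L lam) :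
    univ.image lam ∈ arcs L 6 := by
  rw [mem_arcs]
  refine ⟨?_, ?_⟩
  · rw [card_image_of_injective _ hF.inj, card_univ, Fintype.card_fin]
  · apply isArc_of_three
    intro l hl x hx y hy z hz hxl hyl hzl
    rw [mem_image] at hx hy hz
    obtain ⟨i, -, rfl⟩ := hx
    obtain ⟨j, -, rfl⟩ := hy
    obtain ⟨k, -, rfl⟩ := hz
    rcases hF.arc l hl i j k hxl hyl hzl with h | h | h
    · exact Or.inl (congrArg lam h)
    · exact Or.inr (Or.inl (congrArg lam h))
    · exact Or.inr (Or.inr (congrArg lam h))

open Classical in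
/-- labelled hyperovals with a given underlying set. -/
noncomputable def fiberOf (Y : Finset α) : Finset (Fin 6 → α) :=
  univ.filter (fun f => Function.Injective f ∧ univ.image f = Y)

theorem card_fiberOf_le (Y : Finset α) (hY : Y.card = 6) : (fiberOf Y).card ≤ 720 := by
  classical
  have h1 : (fiberOf Y).card = Fintype.card {f // f ∈ fiberOf Y} := (Fintype.card_coe _).symm
  have h2 : Fintype.card (Fin 6 ↪ {y // y ∈ Y}) = 720 := by
    rw [Fintype.card_embedding_eq, Fintype.card_coe, hY, Fintype.card_fin]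
    decide
  rw [h1, ← h2]
  have hmem : ∀ f : {f // f ∈ fiberOf Y}, ∀ i, f.1 i ∈ Y := by
    intro f i
    have := f.2
    unfold fiberOf at this
    rw [mem_filter] at this
    have hi : f.1 i ∈ univ.image f.1 := mem_image_of_mem _ (mem_univ i)
    rw [this.2.2] at hi
    exact hi
  have hinj : ∀ f : {f // f ∈ fiberOf Y}, Function.Injective f.1 := by
    intro f
    have := f.2
    unfold fiberOf at this
    rw [mem_filter] at this
    exact this.2.1
  apply Fintype.card_le_of_injective
    (fun f : {f // f ∈ fiberOf Y} => (⟨fun i => ⟨f.1 i, hmem f i⟩, fun i j hij =>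
      hinj f (congrArg Subtype.val hij)⟩ : Fin 6 ↪ {y // y ∈ Y}))
  intro f f' hff
  apply Subtype.ext
  funext i
  have := congrArg (fun e : Fin 6 ↪ {y // y ∈ Y} => (e i : α)) hff
  exact this

theorem card_aut_le {L : Finset (Finset α)} (hP : IsPlane4 L) :
    Nat.card (Cfsg.setSystemAut (L : Set (Finset α))) ≤ 120960 := by
  classical
  obtain ⟨lam0, hF⟩ := exists_frame hP
  have hY0 := frame_image_mem hF
  let S : Finset (Fin 6 → α) := (arcs L 6).biUnion fiberOf
  have hS : S.card ≤ 120960 := by
    calc S.card ≤ ∑ Y ∈ arcs L 6, (fiberOf Y).card := card_biUnion_le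
      _ ≤ ∑ _Y ∈ arcs L 6, 720 := by
          apply sum_le_sum
          intro Y hY
          exact card_fiberOf_le Y (mem_arcs.mp hY).1
      _ = 120960 := by
          rw [sum_const, (card_arcs hP).2]
          rfl
  have hmem : ∀ g : Cfsg.setSystemAut (L : Set (Finset α)),
      (fun i => g.1 (lam0 i)) ∈ S := by
    intro g
    rw [mem_biUnion]
    refine ⟨(univ.image lam0).image g.1, ?_, ?_⟩
    · rw [mem_arcs] at hY0 ⊢
      refine ⟨?_, isArc_image g.2 hY0.2⟩
      rw [card_image_of_injective _ g.1.injective]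
      exact hY0.1
    · unfold fiberOf
      rw [mem_filter]
      refine ⟨mem_univ _, ?_, ?_⟩
      · intro i j hij
        exact hF.inj (g.1.injective hij)
      · rw [image_image]
        rfl
  have h1 : Nat.card (Cfsg.setSystemAut (L : Set (Finset α))) ≤ Nat.card {f // f ∈ S} := by
    apply Nat.card_le_card_of_injective
      (fun g : Cfsg.setSystemAut (L : Set (Finset α)) =>
        (⟨fun i => g.1 (lam0 i), hmem g⟩ : {f // f ∈ S}))
    intro g g' hgg
    apply Subtype.ext
    have hg := (mem_aut_iff _ _).1 g.2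
    have hg' := (mem_aut_iff _ _).1 g'.2
    apply aut_eq_of_frame hP hF g.1 g'.1 hg hg'
    intro i
    have := congrArg (fun f : {f // f ∈ S} => f.1 i) hgg
    exact this
  rw [Nat.card_eq_fintype_card (α := {f // f ∈ S}), Fintype.card_coe] at h1
  exact h1.trans hS

end plane

section group

theorem le_of_simple_of_index {G : Type*} [Group G] [Finite G] (A B : Subgroup G)
    [IsSimpleGroup B] (h : (A.index).factorial < Nat.card B) : B ≤ A := by
  let φ : B →* Equiv.Perm (G ⧸ A) := MulAction.toPermHom B (G ⧸ A)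
  rcases (φ.normal_ker).eq_bot_or_eq_top with h0 | h1
  · exfalso
    have hinj : Function.Injective φ := (MonoidHom.ker_eq_bot_iff φ).1 h0
    have h2 := Nat.card_le_card_of_injective φ hinj
    rw [Nat.card_perm, ← Subgroup.index_eq_card] at h2
    omega
  · intro b hb
    have h2 : (⟨b, hb⟩ : B) ∈ φ.ker := by
      rw [h1]
      trivial
    have h3 : φ ⟨b, hb⟩ = 1 := h2
    have h4 : φ ⟨b, hb⟩ ((1 : G) : G ⧸ A) = ((1 : G) : G ⧸ A) := by
      rw [h3]
      rfl
    have h5 : φ ⟨b, hb⟩ ((1 : G) : G ⧸ A) = ((b * 1 : G) : G ⧸ A) := rfl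
    rw [h5, mul_one, QuotientGroup.eq] at h4
    have := A.inv_mem h4
    simpa using this

theorem eq_of_simple_of_card {G : Type*} [Group G] (Γ A B : Subgroup G) [Finite Γ]
    (hA : A ≤ Γ) (hB : B ≤ Γ) [IsSimpleGroup B] (hΓ : Nat.card Γ ≤ 120960)
    (hcA : Nat.card A = 20160) (hcB : Nat.card B = 20160) : A = B := by
  have hA' : Nat.card (A.subgroupOf Γ) = 20160 := by
    rw [← hcA]
    exact Nat.card_congr (Subgroup.subgroupOfEquivOfLe hA).toEquiv
  have hB' : Nat.card (B.subgroupOf Γ) = 20160 := by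
    rw [← hcB]
    exact Nat.card_congr (Subgroup.subgroupOfEquivOfLe hB).toEquiv
  haveI : IsSimpleGroup (B.subgroupOf Γ) := (Subgroup.subgroupOfEquivOfLe hB).isSimpleGroup
  have hidx : (A.subgroupOf Γ).index ≤ 6 := by
    have := (A.subgroupOf Γ).index_mul_card
    rw [hA'] at this
    by_contra hcon
    push Not at hcon
    have : 7 * 20160 ≤ Nat.card Γ := by
      rw [← this]
      exact Nat.mul_le_mul_right _ hcon
    omega
  have hle : B.subgroupOf Γ ≤ A.subgroupOf Γ := by
    apply le_of_simple_of_index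
    rw [hB']
    calc ((A.subgroupOf Γ).index).factorial ≤ Nat.factorial 6 := Nat.factorial_le hidx
      _ < 20160 := by decide
  have hBA : B ≤ A := by
    intro b hb
    have : (⟨b, hB hb⟩ : Γ) ∈ B.subgroupOf Γ := Subgroup.mem_subgroupOf.2 hb
    exact Subgroup.mem_subgroupOf.1 (hle this)
  haveI : Finite A := Nat.finite_of_card_ne_zero (by rw [hcA]; norm_num)
  exact (Subgroup.eq_of_le_of_card_ge hBA (by rw [hcA, hcB])).symm

end group

end Cfsg.Agent.Lib.Helper8.PG2
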