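import Cfsg.Agent.Lib.Helper8.PG2b
import Cfsg.Agent.S0363
import Cfsg.Agent.S0364
import Cfsg.Agent.S0366
import Cfsg.Agent.S0369

set_option autoImplicit false
set_option linter.unusedSectionVars false
set_option linter.unusedVariables false

/-! The three-point stabiliser in the group of the length-24 code acts on the remaining 21 points,
preserving a projective plane of order 4. -/

namespace Cfsg.Agent.Lib.Helper8.PG2

open Finset MulAction Cfsg

theorem mem_aut_of_image {α : Type*} [Fintype α] [DecidableEq α] {B : Set (Finset α)}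
    (g : Equiv.Perm α) (h : ∀ b ∈ B, b.image g ∈ B) : g ∈ Cfsg.setSystemAut B := by
  rw [Cfsg.Agent.Lib.Helper2.Plane4.mem_aut_iff]
  have hsub : (fun b : Finset α => b.image g) '' B ⊆ B := by
    rintro _ ⟨b, hb, rfl⟩
    exact h b hb
  apply Set.eq_of_subset_of_ncard_le hsub _ (Set.toFinite B)
  rw [Set.ncard_image_of_injective]
  exact Finset.image_injective g.injective

theorem aut_image_mem_set {α : Type*} [Fintype α] [DecidableEq α] {B : Set (Finset α)}
    {g : Equiv.Perm α} (hg : g ∈ Cfsg.setSystemAut B) {b : Finset α} (hb : b ∈ B) :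
    b.image g ∈ B := by
  have h1 := (Cfsg.Agent.Lib.Helper2.Plane4.mem_aut_iff B g).1 hg
  have : b.image g ∈ (fun b : Finset α => b.image g) '' B := ⟨b, hb, rfl⟩
  rw [h1] at this
  exact this

section three

variable (p q r : GolayPt)

/-- the points other than `p`, `q`, `r`. -/
def Off (x : GolayPt) : Prop := x ≠ p ∧ x ≠ q ∧ x ≠ r

instance : DecidablePred (Off p q r) := fun x => by
  unfold Off
  infer_instance

/-- the three-point stabiliser. -/
def H3 : Subgroup ↥M24 := stabilizer M24 p ⊓ stabilizer M24 q ⊓ stabilizer M24 r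

variable {p q r}

theorem H3_fix_p (g : H3 p q r) : (g.1.1 : Equiv.Perm GolayPt) p = p := g.2.1.1
theorem H3_fix_q (g : H3 p q r) : (g.1.1 : Equiv.Perm GolayPt) q = q := g.2.1.2
theorem H3_fix_r (g : H3 p q r) : (g.1.1 : Equiv.Perm GolayPt) r = r := g.2.2

theorem H3_off (g : H3 p q r) (x : GolayPt) :
    Off p q r ((g.1.1 : Equiv.Perm GolayPt) x) ↔ Off p q r x := by
  unfold Off
  have hp := H3_fix_p g
  have hq := H3_fix_q g
  have hr := H3_fix_r g
  constructor
  · rintro ⟨h1, h2, h3⟩
    refine ⟨?_, ?_, ?_⟩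
    · rintro rfl; exact h1 hp
    · rintro rfl; exact h2 hq
    · rintro rfl; exact h3 hr
  · rintro ⟨h1, h2, h3⟩
    refine ⟨?_, ?_, ?_⟩
    · intro h; exact h1 ((g.1.1 : Equiv.Perm GolayPt).injective (h.trans hp.symm))
    · intro h; exact h2 ((g.1.1 : Equiv.Perm GolayPt).injective (h.trans hq.symm))
    · intro h; exact h3 ((g.1.1 : Equiv.Perm GolayPt).injective (h.trans hr.symm))

variable (p q r) in
/-- the action on the remaining points. -/
def rho : H3 p q r →* Equiv.Perm {x // Off p q r x} where
  toFun g := Equiv.Perm.subtypePerm (g.1.1 : Equiv.Perm GolayPt) (H3_off g)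
  map_one' := by
    apply Equiv.ext
    intro x
    rfl
  map_mul' g g' := by
    apply Equiv.ext
    intro x
    rfl

theorem rho_apply (g : H3 p q r) (x : {x // Off p q r x}) :
    ((rho p q r g x : {x // Off p q r x}) : GolayPt) = (g.1.1 : Equiv.Perm GolayPt) x.1 := rfl

theorem rho_injective : Function.Injective (rho p q r) := by
  rw [injective_iff_map_eq_one]
  intro g hg
  apply Subtype.ext
  apply Subtype.ext
  apply Equiv.ext
  intro x
  show (g.1.1 : Equiv.Perm GolayPt) x = x
  by_cases hx : Off p q r x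
  · have := congrArg (fun σ : Equiv.Perm {x // Off p q r x} => ((σ ⟨x, hx⟩ : {x // Off p q r x}) :
      GolayPt)) hg
    exact this
  · unfold Off at hx
    have : x = p ∨ x = q ∨ x = r := by
      by_contra hcon
      push Not at hcon
      exact hx hcon
    rcases this with rfl | rfl | rfl
    · exact H3_fix_p g
    · exact H3_fix_q g
    · exact H3_fix_r g

variable (p q r) in
/-- the lines of the residual plane. -/
def LX : Set (Finset {x // Off p q r x}) :=
  {l | ∃ O ∈ octads, p ∈ O ∧ q ∈ O ∧ r ∈ O ∧ l = O.subtype (Off p q r)}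

theorem card_off (hpq : p ≠ q) (hpr : p ≠ r) (hqr : q ≠ r) :
    Fintype.card {x // Off p q r x} = 21 := by
  rw [Fintype.card_subtype]
  have h1 : (univ.filter (Off p q r)) = univ \ {p, q, r} := by
    ext x
    simp only [mem_filter, mem_univ, true_and, mem_sdiff, mem_insert, mem_singleton, not_or]
    rfl
  have h3 : ({p, q, r} : Finset GolayPt).card = 3 := by
    rw [card_insert_of_notMem, card_insert_of_notMem, card_singleton]
    · simpa using hqr
    · simp only [mem_insert, mem_singleton, not_or]
      exact ⟨hpq, hpr⟩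
  rw [h1, card_univ_sdiff, h3, Fintype.card_option, ZMod.card]

theorem card_subtype_octad (hpq : p ≠ q) (hpr : p ≠ r) (hqr : q ≠ r) {O : Finset GolayPt}
    (hO : O.card = 8) (hp : p ∈ O) (hq : q ∈ O) (hr : r ∈ O) :
    (O.subtype (Off p q r)).card = 5 := by
  rw [card_subtype]
  have h1 : O.filter (Off p q r) = O \ {p, q, r} := by
    ext x
    simp only [mem_filter, mem_sdiff, mem_insert, mem_singleton, not_or]
    rfl
  have h3 : ({p, q, r} : Finset GolayPt).card = 3 := by
    rw [card_insert_of_notMem, card_insert_of_notMem, card_singleton]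
    · simpa using hqr
    · simp only [mem_insert, mem_singleton, not_or]
      exact ⟨hpq, hpr⟩
  have hsub : ({p, q, r} : Finset GolayPt) ⊆ O := by
    intro x hx
    simp only [mem_insert, mem_singleton] at hx
    rcases hx with rfl | rfl | rfl <;> assumption
  rw [h1, card_sdiff_of_subset hsub, hO, h3]

theorem steiner_LX (hpq : p ≠ q) (hpr : p ≠ r) (hqr : q ≠ r) :
    IsSteinerSystem 2 5 (LX p q r) := by
  obtain ⟨hk, hu⟩ := Cfsg.Agent.S0363.result
  refine ⟨?_, ?_⟩
  · rintro l ⟨O, hO, hp, hq, hr, rfl⟩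
    exact card_subtype_octad hpq hpr hqr (hk O hO) hp hq hr
  · intro s hs
    obtain ⟨a, b, hab, rfl⟩ := Finset.card_eq_two.mp hs
    have hab' : a.1 ≠ b.1 := fun h => hab (Subtype.ext h)
    have hT : (insert a.1 (insert b.1 ({p, q, r} : Finset GolayPt))).card = 5 := by
      have h3 : ({p, q, r} : Finset GolayPt).card = 3 := by
        rw [card_insert_of_notMem, card_insert_of_notMem, card_singleton]
        · simpa using hqr
        · simp only [mem_insert, mem_singleton, not_or]
          exact ⟨hpq, hpr⟩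
      rw [card_insert_of_notMem, card_insert_of_notMem, h3]
      · simp only [mem_insert, mem_singleton, not_or]
        exact b.2
      · simp only [mem_insert, mem_singleton, not_or]
        exact ⟨hab', a.2⟩
    obtain ⟨O, ⟨hO, hTO⟩, huniq⟩ := hu _ hT
    have hpO : p ∈ O := hTO (by simp)
    have hqO : q ∈ O := hTO (by simp)
    have hrO : r ∈ O := hTO (by simp)
    have haO : a.1 ∈ O := hTO (by simp)
    have hbO : b.1 ∈ O := hTO (by simp)
    refine ⟨O.subtype (Off p q r), ⟨⟨O, hO, hpO, hqO, hrO, rfl⟩, ?_⟩, ?_⟩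
    · intro x hx
      simp only [mem_insert, mem_singleton] at hx
      rw [mem_subtype]
      rcases hx with rfl | rfl <;> assumption
    · rintro l ⟨⟨O', hO', hp', hq', hr', rfl⟩, hsub⟩
      have ha' : a.1 ∈ O' := mem_subtype.mp (hsub (by simp))
      have hb' : b.1 ∈ O' := mem_subtype.mp (hsub (by simp))
      have : O' = O := by
        apply huniq
        refine ⟨hO', ?_⟩
        intro x hx
        simp only [mem_insert, mem_singleton] at hx
        rcases hx with rfl | rfl | rfl | rfl | rfl <;> assumption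
      rw [this]

theorem rho_mem_aut (g : H3 p q r) : rho p q r g ∈ Cfsg.setSystemAut (LX p q r) := by
  apply mem_aut_of_image
  rintro l ⟨O, hO, hp, hq, hr, rfl⟩
  have hgM : (g.1.1 : Equiv.Perm GolayPt) ∈ Cfsg.setSystemAut octads := by
    rw [← Cfsg.Agent.S0369.result]
    exact g.1.2
  refine ⟨O.image (g.1.1 : Equiv.Perm GolayPt), aut_image_mem_set hgM hO, ?_, ?_, ?_, ?_⟩
  · rw [mem_image]; exact ⟨p, hp, H3_fix_p g⟩
  · rw [mem_image]; exact ⟨q, hq, H3_fix_q g⟩
  · rw [mem_image]; exact ⟨r, hr, H3_fix_r g⟩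
  · ext y
    rw [mem_image, mem_subtype, mem_image]
    constructor
    · rintro ⟨x, hx, rfl⟩
      exact ⟨x.1, mem_subtype.mp hx, rfl⟩
    · rintro ⟨x, hx, hxy⟩
      have hoff : Off p q r x := by
        rw [← H3_off g, hxy]
        exact y.2
      refine ⟨⟨x, hoff⟩, mem_subtype.mpr hx, ?_⟩
      apply Subtype.ext
      exact hxy

theorem card_H3 (hpq : p ≠ q) (hpr : p ≠ r) (hqr : q ≠ r) : Nat.card (H3 p q r) = 20160 := by
  haveI := Cfsg.Agent.S0366.result
  have hcard : Nat.card GolayPt = 24 := by
    rw [Nat.card_eq_fintype_card, Fintype.card_option, ZMod.card]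
  have h3 : IsMultiplyPretransitive M24 GolayPt 3 :=
    isMultiplyPretransitive_of_le (n := 5) (by norm_num) (by rw [hcard]; norm_num)
  have hs : ({p, q, r} : Set GolayPt).ncard = 3 := by
    rw [Set.ncard_eq_three]
    exact ⟨p, q, r, hpq, hpr, hqr, rfl⟩
  have h1 := h3.index_of_fixingSubgroup_mul hs
  rw [hcard] at h1
  have h2 : (fixingSubgroup M24 ({p, q, r} : Set GolayPt)).index = 12144 := by
    have : (24 : ℕ).factorial = 12144 * (24 - 3).factorial := by
      norm_num [Nat.factorial]
    rw [this] at h1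
    exact Nat.eq_of_mul_eq_mul_right (Nat.factorial_pos _) h1
  have h4 : fixingSubgroup M24 ({p, q, r} : Set GolayPt) = H3 p q r := by
    ext g
    rw [mem_fixingSubgroup_iff]
    unfold H3
    simp only [Subgroup.mem_inf, mem_stabilizer_iff, Set.mem_insert_iff, Set.mem_singleton_iff]
    constructor
    · intro h
      exact ⟨⟨h p (Or.inl rfl), h q (Or.inr (Or.inl rfl))⟩, h r (Or.inr (Or.inr rfl))⟩
    · rintro ⟨⟨h1, h2⟩, h3⟩ y (rfl | rfl | rfl) <;> assumption
  have h5 := (fixingSubgroup M24 ({p, q, r} : Set GolayPt)).index_mul_card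
  rw [h2, h4, Cfsg.Agent.S0364.result] at h5
  omega

end three

end Cfsg.Agent.Lib.Helper8.PG2
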