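import Cfsg.Agent.Lib.Helper8.PG2a
import Cfsg.Agent.Lib.Helper8.PG2c
import Cfsg.Agent.S5626
import Cfsg.Agent.S0243
import Cfsg.Agent.S0249

set_option autoImplicit false
set_option linter.unusedSectionVars false
set_option linter.unusedVariables false

/-! The three-point stabiliser in the group of the length-24 code is the projective special linear
group of degree 3 over the field of order 4. -/

namespace Cfsg.Agent.Lib.Helper8.PG2

open scoped LinearAlgebra.Projectivization
open Finset MulAction Cfsg Projectivization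

theorem card_psl34 (F : Type) [Field F] [Fintype F] (hF : Fintype.card F = 4) :
    Nat.card (Matrix.ProjectiveSpecialLinearGroup (Fin 3) F) = 20160 := by
  have h := Cfsg.Agent.S0243.result hF 3 (by norm_num)
  rw [Fin.prod_univ_three] at h
  norm_num at h
  omega

theorem main (p q r : GolayPt) (hpq : p ≠ q) (hpr : p ≠ r) (hqr : q ≠ r)
    (F : Type) [Field F] [Fintype F] (hF : Fintype.card F = 4) :
    Nonempty (↥(H3 p q r) ≃* Matrix.ProjectiveSpecialLinearGroup (Fin 3) F) := by
  classical
  haveI : Fintype (ℙ F (Fin 3 → F)) := Fintype.ofFinite _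
  have hq : Nat.card F = 4 := by rw [Nat.card_eq_fintype_card, hF]
  have hL' : IsSteinerSystem 2 5 (lines F) := steiner 4 hq
  have hβ : Fintype.card (ℙ F (Fin 3 → F)) = 21 := by
    rw [← Nat.card_eq_fintype_card,
      Projectivization.card_of_finrank F (Fin 3 → F) (Module.finrank_fin_fun F), hq]
    decide
  have hα := card_off hpq hpr hqr
  obtain ⟨e, he⟩ := Cfsg.Agent.S5626.result hα hβ (steiner_LX hpq hpr hqr) hL'
  -- the plane as a finite set of lines
  haveI : Fintype (lines F) := Fintype.ofFinite _
  have hcoe : (((lines F).toFinset : Finset (Finset (ℙ F (Fin 3 → F)))) :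
      Set (Finset (ℙ F (Fin 3 → F)))) = lines F := Set.coe_toFinset _
  have hP : Cfsg.Agent.Lib.Helper2.Plane4.IsPlane4 (lines F).toFinset :=
    Cfsg.Agent.Lib.Helper2.Plane4.IsPlane4.of_steiner hβ _ (by rw [hcoe]; exact hL')
  have hΓ : Nat.card (Cfsg.setSystemAut (lines F)) ≤ 120960 := by
    have := card_aut_le hP
    rw [hcoe] at this
    exact this
  -- the projective special linear group inside the collineation group
  have hinjB := Matrix.ProjectiveSpecialLinearGroup.toPermHom_injective (K := F) (ι := Fin 3)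
  have hB : (PSLAction.toPermHom (K := F) (ι := Fin 3)).range ≤ Cfsg.setSystemAut (lines F) := by
    rintro _ ⟨x, rfl⟩
    induction x using QuotientGroup.induction_on with | H g =>
    apply mem_aut_of_image
    intro l hl
    exact image_mem_lines g hl
  have eB := MonoidHom.ofInjective hinjB
  have hcB : Nat.card (PSLAction.toPermHom (K := F) (ι := Fin 3)).range = 20160 := by
    rw [← Nat.card_congr eB.toEquiv]
    exact card_psl34 F hF
  haveI : IsSimpleGroup (Matrix.ProjectiveSpecialLinearGroup (Fin 3) F) :=
    Cfsg.Agent.S0249.result 3 le_rfl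
  haveI : IsSimpleGroup (PSLAction.toPermHom (K := F) (ι := Fin 3)).range :=
    eB.symm.isSimpleGroup
  -- the three-point stabiliser inside the collineation group
  let ψ : H3 p q r →* Equiv.Perm (ℙ F (Fin 3 → F)) :=
    (e.permCongrHom.toMonoidHom).comp (rho p q r)
  have hinjA : Function.Injective ψ := e.permCongrHom.injective.comp rho_injective
  have hA : ψ.range ≤ Cfsg.setSystemAut (lines F) := by
    rintro _ ⟨g, rfl⟩
    apply mem_aut_of_image
    intro l' hl'
    rw [← he] at hl' ⊢
    obtain ⟨l, hl, rfl⟩ := hl'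
    refine ⟨l.image (rho p q r g), aut_image_mem_set (rho_mem_aut g) hl, ?_⟩
    ext y
    simp only [mem_image]
    constructor
    · rintro ⟨_, ⟨x, hx, rfl⟩, rfl⟩
      refine ⟨e x, ⟨x, hx, rfl⟩, ?_⟩
      show e (rho p q r g (e.symm (e x))) = _
      rw [Equiv.symm_apply_apply]
    · rintro ⟨_, ⟨x, hx, rfl⟩, rfl⟩
      refine ⟨rho p q r g x, ⟨x, hx, rfl⟩, ?_⟩
      show _ = e (rho p q r g (e.symm (e x)))
      rw [Equiv.symm_apply_apply]
  have eA := MonoidHom.ofInjective hinjA
  have hcA : Nat.card ψ.range = 20160 := by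
    rw [← Nat.card_congr eA.toEquiv]
    exact card_H3 hpq hpr hqr
  have hAB := eq_of_simple_of_card (Cfsg.setSystemAut (lines F)) ψ.range
    (PSLAction.toPermHom (K := F) (ι := Fin 3)).range hA hB hΓ hcA hcB
  exact ⟨eA.trans ((MulEquiv.subgroupCongr hAB).trans eB.symm)⟩

end Cfsg.Agent.Lib.Helper8.PG2
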