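import Mathlib
import Cfsg.Agent.Lib.Helper8.PComp7
import Cfsg.Agent.Lib.Helper8.CoreIn
import Cfsg.Agent.Lib.Helper7.SylowAux
import Cfsg.Agent.Lib.Helper7.CharP7
import Cfsg.Agent.Lib.Helper7.CharP8
set_option autoImplicit false
set_option linter.style.haveILetI false

namespace Cfsg.Agent.Lib.Helper8.PLocal

open Cfsg Cfsg.Agent.Lib.Helper8.PComp Cfsg.Agent.Lib.Helper8.CoreIn

variable {G : Type*} [Group G]

theorem map_conj_mul' (a b : G) (D : Subgroup G) :
    D.map (MulAut.conj (a * b)).toMonoidHom =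
      (D.map (MulAut.conj b).toMonoidHom).map (MulAut.conj a).toMonoidHom := by
  rw [Subgroup.map_map]
  congr 1
  ext x
  simp [MulAut.conj_apply, mul_assoc]

/-- Frattini argument: modulo a normal `p'`-subgroup, normalizers of `p`-subgroups are images of
normalizers. -/
theorem normalizer_map_mk [Finite G] {p : ℕ} [hp : Fact p.Prime] (O : Subgroup G) [O.Normal]
    (hO : (Nat.card ↥O).Coprime p) {P : Subgroup G} (hP : IsPGroup p ↥P) :
    Subgroup.normalizer ((P.map (QuotientGroup.mk' O) : Subgroup (G ⧸ O)) : Set (G ⧸ O)) =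
      (Subgroup.normalizer (P : Set G)).map (QuotientGroup.mk' O) := by
  apply le_antisymm _ (Subgroup.le_normalizer_map _)
  intro xbar hx
  obtain ⟨x, rfl⟩ := QuotientGroup.mk'_surjective O xbar
  set H : Subgroup G := P ⊔ O with hH
  have hHc : (P.map (QuotientGroup.mk' O)).comap (QuotientGroup.mk' O) = H := by
    rw [Subgroup.comap_map_eq, QuotientGroup.ker_mk']
  have hxH : x ∈ Subgroup.normalizer (H : Set G) := by
    rw [← hHc, ← Subgroup.comap_normalizer_eq_of_surjective _ (QuotientGroup.mk'_surjective O)]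
    exact Subgroup.mem_comap.2 hx
  have hxH' : H.map (MulAut.conj x).toMonoidHom = H :=
    Subgroup.mem_normalizer_iff_map_conj_eq.1 hxH
  set B : Subgroup G := P.map (MulAut.conj x).toMonoidHom with hB
  have hBH : B ≤ H := by
    rw [← hxH']; exact Subgroup.map_mono le_sup_left
  have hBp : IsPGroup p ↥B := hP.map _
  obtain ⟨n, hn, R, hRp, hRH, hPR, hBR⟩ :=
    Cfsg.Agent.Lib.Helper7.exists_conj_le_common_pSubgroup H P B hP hBp le_sup_left hBH
  have hcardH : Nat.card ↥H ∣ Nat.card ↥P * Nat.card ↥O := Cfsg.Agent.Lib.Helper2.card_sup_dvd P O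
  have hRP : R = P := by
    symm
    apply Subgroup.eq_of_le_of_card_ge hPR
    obtain ⟨j, hj⟩ := IsPGroup.iff_card.1 hRp
    have h1 : Nat.card ↥R ∣ Nat.card ↥P * Nat.card ↥O :=
      (Subgroup.card_dvd_of_le hRH).trans hcardH
    have h2 : (Nat.card ↥R).Coprime (Nat.card ↥O) := by
      rw [hj]; exact Nat.Coprime.pow_left j hO.symm
    exact Nat.le_of_dvd Nat.card_pos (h2.dvd_of_dvd_mul_right h1)
  rw [hRP] at hBR
  have hnx : n * x ∈ Subgroup.normalizer (P : Set G) := by
    apply Cfsg.Agent.Lib.Helper7.mem_normalizer_of_map_conj_le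
    rw [map_conj_mul']
    exact hBR
  obtain ⟨a, ha, o, ho, hao⟩ := Subgroup.mem_sup_of_normal_right.1 hn
  refine ⟨a⁻¹ * (n * x), ?_, ?_⟩
  · exact Subgroup.mul_mem _ (Subgroup.inv_mem _ (Subgroup.le_normalizer ha)) hnx
  · rw [← hao]
    simp only [QuotientGroup.mk'_apply, QuotientGroup.mk_mul, QuotientGroup.mk_inv]
    have : ((o : G) : G ⧸ O) = 1 := (QuotientGroup.eq_one_iff o).2 ho
    rw [this]
    group

/-- The quotient of a subgroup `K` by its `p'`-core, when the latter is `K ∩ O_{p'}(G)`. -/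
noncomputable def quotientCoreEquiv' (p : ℕ) (K : Subgroup G)
    (hker : pPrimeCore p ↥K = (pPrimeCore p G).subgroupOf K) :
    (↥K ⧸ pPrimeCore p ↥K) ≃* ↥(K.map (QuotientGroup.mk' (pPrimeCore p G))) := by
  let f : ↥K →* G ⧸ pPrimeCore p G := (QuotientGroup.mk' (pPrimeCore p G)).comp K.subtype
  have hker' : f.ker = pPrimeCore p ↥K := by
    rw [hker]
    ext x
    simp only [f, MonoidHom.mem_ker, MonoidHom.coe_comp, Function.comp_apply,
      QuotientGroup.mk'_apply, QuotientGroup.eq_one_iff, Subgroup.mem_subgroupOf,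
      Subgroup.coe_subtype]
  have hrange : f.range = K.map (QuotientGroup.mk' (pPrimeCore p G)) := by
    simp only [f]
    rw [MonoidHom.range_comp, Subgroup.range_subtype]
  exact ((QuotientGroup.quotientMulEquivOfEq hker'.symm).trans
    (QuotientGroup.quotientKerEquivRange f)).trans (MulEquiv.subgroupCongr hrange)

theorem pPrimeCore_eq_subgroupOf_of_le [Finite G] (p : ℕ) (K : Subgroup G)
    (h : coreIn p K ≤ pPrimeCore p G) :
    pPrimeCore p ↥K = (pPrimeCore p G).subgroupOf K := by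
  apply le_antisymm
  · intro x hx
    rw [Subgroup.mem_subgroupOf]
    exact h ⟨x, hx, rfl⟩
  · apply Cfsg.Agent.Lib.Helper1.le_pPrimeCore inferInstance
    have h1 : Nat.card ↥((pPrimeCore p G).subgroupOf K) ∣ Nat.card ↥(pPrimeCore p G) := by
      have : Nat.card ↥((pPrimeCore p G).subgroupOf K) =
          Nat.card ↥((pPrimeCore p G ⊓ K : Subgroup G)) := by
        rw [← Subgroup.subgroupOf_map_subtype,
          Subgroup.card_map_of_injective K.subtype_injective]
      rw [this]
      exact Subgroup.card_dvd_of_le inf_le_left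
    exact Nat.Coprime.coprime_dvd_left h1 (Cfsg.Agent.Lib.Helper1.pPrimeCore_card_coprime p)

/-- `p`-locals of a `p`-constrained group: trivial `p`-layer and `p'`-core inside `O_{p'}(G)`. -/
theorem pLocal_of_pLayer_eq_bot [Finite G] (p : ℕ) [hp : Fact p.Prime] (hL : pLayer p G = ⊥)
    (P : Subgroup G) (hP : IsPGroup p ↥P) :
    pLayer p ↥(Subgroup.normalizer (P : Set G)) = ⊥ ∧
      coreIn p (Subgroup.normalizer (P : Set G)) ≤ pPrimeCore p G := by
  have hOc : (Nat.card ↥(pPrimeCore p G)).Coprime p :=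
    Cfsg.Agent.Lib.Helper1.pPrimeCore_card_coprime p
  have hlay : layer (G ⧸ pPrimeCore p G) = ⊥ := (pLayer_eq_bot_iff p).1 hL
  have hO' : pPrimeCore p (G ⧸ pPrimeCore p G) = ⊥ :=
    Cfsg.Agent.Lib.Helper1.pPrimeCore_quotient_eq_bot p
  have hC := centralizer_pCore_le_of_layer_eq_bot hO' hlay
  have hchar := Cfsg.Agent.Lib.Helper8.charPIn_normalizer p hC
    (P.map (QuotientGroup.mk' (pPrimeCore p G))) (hP.map _)
  rw [normalizer_map_mk (pPrimeCore p G) hOc hP] at hchar
  have h2 : coreIn p (Subgroup.normalizer (P : Set G)) ≤ pPrimeCore p G := by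
    have hb : (coreIn p (Subgroup.normalizer (P : Set G))).map
        (QuotientGroup.mk' (pPrimeCore p G)) = ⊥ := by
      apply Cfsg.Agent.Lib.Helper7.eq_bot_of_charPIn hchar
      · exact Subgroup.map_mono (coreIn_le p _)
      · rintro _ ⟨n, hn, rfl⟩
        exact Subgroup.le_normalizer_map _ ⟨n, le_normalizer_coreIn p _ hn, rfl⟩
      · exact Nat.Coprime.coprime_dvd_left (Subgroup.card_map_dvd _ _) (coreIn_card_coprime p _)
    rw [Subgroup.map_eq_bot_iff, QuotientGroup.ker_mk'] at hb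
    exact hb
  refine ⟨?_, h2⟩
  rw [pLayer_eq_bot_iff p]
  apply layer_eq_bot_of_centralizer_pCore_le (p := p)
  have e := quotientCoreEquiv' p (Subgroup.normalizer (P : Set G))
    (pPrimeCore_eq_subgroupOf_of_le p _ h2)
  exact Cfsg.Agent.Lib.Helper7.charP_of_mulEquiv e.symm
    ((Cfsg.Agent.Lib.Helper7.charPIn_iff p _).1 hchar)

end Cfsg.Agent.Lib.Helper8.PLocal
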