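import Mathlib
import Cfsg.Prelude.Def_LocalEven
import Cfsg.Prelude.Def_Local
import Cfsg.Prelude.Def_Transfer
import Cfsg.Agent.S2905
import Cfsg.Agent.Lib.Helper7.PMinimal
import Cfsg.Agent.Lib.Helper7.PMinimal2
import Cfsg.Agent.Lib.Helper7.YMinimal
import Cfsg.Agent.Lib.Helper7.FStarCharP
import Cfsg.Agent.Lib.Helper2.Components
import Cfsg.Agent.Lib.Helper2.Components2
import Cfsg.Agent.Lib.Helper2.Components3
import Cfsg.Agent.Lib.Helper2.BenderSub2
import Cfsg.Agent.Lib.Helper8.CompCent4
import Cfsg.Agent.Lib.Helper1.PCore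
import Cfsg.Agent.Lib.Helper1.SubnormalPCore
import Cfsg.Agent.Lib.Helper1.PResidual
import Cfsg.Agent.Lib.Helper1.Fitting

set_option autoImplicit false

namespace Cfsg.Agent.Lib.Helper8.PMin

open Cfsg
open Cfsg.Agent.Lib.Helper7 Cfsg.Agent.Lib.Helper2

variable {P : Type*} [Group P]

/-- a subgroup all of whose elements conjugate `L` into itself normalizes `L` -/
theorem le_normalizer_of_forall_map_le {A L : Subgroup P}
    (h : ∀ t ∈ A, L.map (MulAut.conj t).toMonoidHom ≤ L) :
    A ≤ Subgroup.normalizer (L : Set P) := by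
  intro t ht
  rw [Subgroup.mem_normalizer_iff]
  intro x
  constructor
  · intro hx
    exact h t ht ⟨x, hx, rfl⟩
  · intro hx
    have h1 := h t⁻¹ (A.inv_mem ht) ⟨t * x * t⁻¹, hx, rfl⟩
    have e : (MulAut.conj t⁻¹).toMonoidHom (t * x * t⁻¹) = x := by
      show t⁻¹ * (t * x * t⁻¹) * t⁻¹⁻¹ = x
      group
    rwa [e] at h1

theorem map_conj_map_conj (A : Subgroup P) (s t : P) :
    (A.map (MulAut.conj s).toMonoidHom).map (MulAut.conj t).toMonoidHom =
      A.map (MulAut.conj (t * s)).toMonoidHom := by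
  rw [Subgroup.map_map]
  congr 1
  ext x
  simp [mul_assoc]

theorem map_conj_one (A : Subgroup P) : A.map (MulAut.conj (1 : P)).toMonoidHom = A := by
  ext x
  simp

variable [Finite P] {p : ℕ} [Fact p.Prime]

theorem comp_not_le_normalCore (hP : IsPMinimal p P) (hOp : pCore p P = ⊥) (S : Sylow p P)
    {M : Subgroup P} (hM : IsCoatom M) (hSM : (S : Subgroup P) ≤ M) {K : Subgroup P}
    (hK : IsComponent K) : ¬ K ≤ M.normalCore := by
  intro hKF
  have hmin : IsMinimalOver (S : Subgroup P) := IsPMinimal.isMinimalOver hP S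
  obtain ⟨F, hF⟩ : ∃ F : Subgroup P, F = M.normalCore := ⟨_, rfl⟩
  rw [← hF] at hKF
  haveI hFn : F.Normal := by rw [hF]; exact Subgroup.normalCore_normal M
  have hFM : F ≤ M := by rw [hF]; exact Subgroup.normalCore_le M
  obtain ⟨hnil, -⟩ := IsMinimalOver.quotient_pCore_of_le hmin hM hSM S le_rfl F hFM
  have h0 : pCore p ↥F = ⊥ := by
    have h := Cfsg.Agent.Lib.Helper1.pCore_map_le_of_isSubnormal (p := p) hFn.isSubnormal
    rw [hOp, le_bot_iff] at h
    exact (Subgroup.map_eq_bot_iff_of_injective _ (Subgroup.subtype_injective F)).mp h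
  haveI : Group.IsNilpotent ↥F :=
    Subgroup.isNilpotent_of_ker_le_center (QuotientGroup.mk' (pCore p ↥F))
      (by rw [QuotientGroup.ker_mk', h0]; exact bot_le)
  haveI : Group.IsNilpotent ↥(K.subgroupOf F) := inferInstance
  have hnilK : Group.IsNilpotent ↥K :=
    Group.nilpotent_of_mulEquiv (Subgroup.subgroupOfEquivOfLe hKF)
  haveI : Group.IsPerfect ↥K := hK.2.1
  haveI : Nontrivial ↥K := by
    rw [Subgroup.nontrivial_iff_ne_bot]
    exact isComponent_ne_bot hK
  exact Group.IsPerfect.not_isNilpotent (G := ↥K) hnilK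

theorem pResidual_eq_layer (hP : IsPMinimal p P) (hOp : pCore p P = ⊥) (S : Sylow p P)
    {M : Subgroup P} (hM : IsCoatom M) (hSM : (S : Subgroup P) ≤ M) {K : Subgroup P}
    (hK : IsComponent K) : pResidual p P = layer P := by
  haveI : M.normalCore.Normal := Subgroup.normalCore_normal M
  obtain ⟨-, -, R3, -, -⟩ := Cfsg.Agent.S2905.result hP S M hM hSM
  apply le_antisymm
  · rcases R3 (layer P) layer_normal with h | h
    · exact h
    · exact absurd ((le_layer hK).trans h) (comp_not_le_normalCore hP hOp S hM hSM hK)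
  · refine (Cfsg.Agent.Lib.Helper2.BenderSub.layer_le_closure_coprime p).trans ?_
    unfold pResidual
    apply Subgroup.closure_mono
    intro y hy
    exact hy.2

theorem fitting_le_pResidual (hOp : pCore p P = ⊥) : fittingSubgroup P ≤ pResidual p P := by
  rw [Cfsg.Agent.Lib.Helper1.fittingSubgroup_eq_iSup_pCore]
  apply iSup_le
  intro q
  by_cases hq : (q : ℕ) = p
  · rw [hq, hOp]; exact bot_le
  · intro x hx
    haveI : Fact (q : ℕ).Prime := ⟨q.2⟩
    have hqp := Cfsg.Agent.Lib.Helper1.pCore_isPGroup (G := P) (q : ℕ)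
    obtain ⟨k, hk⟩ := hqp ⟨x, hx⟩
    have hk' : x ^ ((q : ℕ) ^ k) = 1 := by
      have := congrArg Subtype.val hk
      simpa using this
    apply Cfsg.Agent.Lib.Helper1.mem_pResidual_of_coprime
    have hdvd := orderOf_dvd_of_pow_eq_one hk'
    have hp : p.Prime := Fact.out
    have hcop : ((q : ℕ) ^ k).Coprime p :=
      Nat.Coprime.pow_left k ((Nat.coprime_primes q.2 hp).mpr hq)
    exact Nat.Coprime.coprime_dvd_left hdvd hcop

theorem layer_eq_iSup (hP : IsPMinimal p P) (hOp : pCore p P = ⊥) (S : Sylow p P)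
    {M : Subgroup P} (hM : IsCoatom M) (hSM : (S : Subgroup P) ≤ M) {K : Subgroup P}
    (hK : IsComponent K) :
    layer P = ⨆ s : ↥(S : Subgroup P), K.map (MulAut.conj (s : P)).toMonoidHom := by
  haveI : M.normalCore.Normal := Subgroup.normalCore_normal M
  obtain ⟨-, -, R3, -, -⟩ := Cfsg.Agent.S2905.result hP S M hM hSM
  have hres := pResidual_eq_layer hP hOp S hM hSM hK
  obtain ⟨L, hL⟩ : ∃ L : Subgroup P,
      L = ⨆ s : ↥(S : Subgroup P), K.map (MulAut.conj (s : P)).toMonoidHom := ⟨_, rfl⟩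
  rw [← hL]
  have hcomp : ∀ s : P, IsComponent (K.map (MulAut.conj s).toMonoidHom) :=
    fun s => isComponent_conj s hK
  have hKL : K ≤ L := by
    rw [hL]
    have h := le_iSup (fun s : ↥(S : Subgroup P) => K.map (MulAut.conj (s : P)).toMonoidHom) 1
    have e : K.map (MulAut.conj (((1 : ↥(S : Subgroup P)) : P))).toMonoidHom = K :=
      map_conj_one K
    exact le_of_eq_of_le e.symm h
  apply le_antisymm
  · have hSL : (S : Subgroup P) ≤ Subgroup.normalizer (L : Set P) := by
      apply le_normalizer_of_forall_map_le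
      intro t ht
      rw [hL, Subgroup.map_iSup]
      apply iSup_le
      intro s
      rw [map_conj_map_conj]
      exact le_iSup (fun s : ↥(S : Subgroup P) => K.map (MulAut.conj (s : P)).toMonoidHom)
        (⟨t, ht⟩ * s)
    have hEL : layer P ≤ Subgroup.normalizer (L : Set P) := by
      apply le_normalizer_of_forall_map_le
      intro e he
      rw [hL, Subgroup.map_iSup]
      apply iSup_le
      intro s
      refine le_trans ?_
        (le_iSup (fun s : ↥(S : Subgroup P) => K.map (MulAut.conj (s : P)).toMonoidHom) s)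
      rintro _ ⟨x, hx, rfl⟩
      have hn := Cfsg.Agent.Lib.Helper8.CompCent.layer_le_normalizer (hcomp s) he
      exact (Subgroup.mem_normalizer_iff.mp hn x).mp hx
    have hLn : L.Normal := by
      rw [← Subgroup.normalizer_eq_top_iff]
      rw [eq_top_iff, ← Cfsg.Agent.Lib.Helper1.sylow_sup_pResidual_eq_top S, hres]
      exact sup_le hSL hEL
    rcases R3 L hLn with h | h
    · rw [← hres]; exact h
    · exact absurd (hKL.trans h) (comp_not_le_normalCore hP hOp S hM hSM hK)
  · rw [hL]; exact iSup_le (fun s => le_layer (hcomp s))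

end Cfsg.Agent.Lib.Helper8.PMin
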