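import Mathlib
import Cfsg.Agent.Lib.Helper8.PMin1
import Cfsg.Agent.Lib.Helper1.Coprime
import Cfsg.Agent.S2790

set_option autoImplicit false

namespace Cfsg.Agent.Lib.Helper8.PMin

open Cfsg
open Cfsg.Agent.Lib.Helper7 Cfsg.Agent.Lib.Helper2
open scoped commutatorElement

variable {P : Type*} [Group P]

theorem mem_normalizer_of_map_conj_eq {K : Subgroup P} {s : P}
    (h : K.map (MulAut.conj s).toMonoidHom = K) : s ∈ Subgroup.normalizer (K : Set P) := by
  rw [Subgroup.mem_normalizer_iff]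
  intro x
  constructor
  · intro hx
    have h1 : s * x * s⁻¹ ∈ K.map (MulAut.conj s).toMonoidHom := ⟨x, hx, rfl⟩
    rwa [h] at h1
  · intro hx
    have h1 : s * x * s⁻¹ ∈ K.map (MulAut.conj s).toMonoidHom := by rw [h]; exact hx
    obtain ⟨y, hy, hyx⟩ := h1
    have h2 : s * y * s⁻¹ = s * x * s⁻¹ := hyx
    have h3 : y = x := by
      have := congrArg (fun w => s⁻¹ * w * s) h2
      simpa [mul_assoc] using this
    rwa [← h3]

variable [Finite P] {p : ℕ} [Fact p.Prime]

theorem false_of_sylow_inf_layer_eq_bot (hP : IsPMinimal p P) (hOp : pCore p P = ⊥)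
    (S : Sylow p P) {M : Subgroup P} (hM : IsCoatom M) (hSM : (S : Subgroup P) ≤ M)
    {K : Subgroup P} (hK : IsComponent K) (hSE : (S : Subgroup P) ⊓ layer P = ⊥) : False := by
  haveI : M.normalCore.Normal := Subgroup.normalCore_normal M
  obtain ⟨-, -, R3, -, -⟩ := Cfsg.Agent.S2905.result hP S M hM hSM
  have hmin := IsPMinimal.isMinimalOver hP S
  have hle := IsMinimalOver.le_coatom hmin hM hSM
  have hres := pResidual_eq_layer hP hOp S hM hSM hK
  haveI hEn : (layer P).Normal := layer_normal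
  have hp : p.Prime := Fact.out
  apply hM.1
  apply eq_top_of_forall_sylow_le M
  intro t ht
  by_cases htp : t = p
  · rw [htp]; exact ⟨S, hSM⟩
  · haveI := ht
    obtain ⟨T₀⟩ : Nonempty (Sylow t P) := inferInstance
    have hT₀E : (T₀ : Subgroup P) ≤ layer P := by
      intro x hx
      rw [← hres]
      apply Cfsg.Agent.Lib.Helper1.mem_pResidual_of_coprime
      obtain ⟨k, hk⟩ := T₀.2 ⟨x, hx⟩
      have hk' : x ^ (t ^ k) = 1 := by
        have := congrArg Subtype.val hk
        simpa using this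
      have hdvd := orderOf_dvd_of_pow_eq_one hk'
      exact Nat.Coprime.coprime_dvd_left hdvd
        (Nat.Coprime.pow_left k ((Nat.coprime_primes ht.out hp).mpr htp))
    have hQ : ((S : Subgroup P) ⊓ layer P).Normal := by rw [hSE]; infer_instance
    obtain ⟨T, hTE, hST⟩ := exists_sylow_sup_le_normalizer S (layer P) hQ t T₀ hT₀E
    rw [hSE, bot_sup_eq] at hST
    by_cases hX : (T : Subgroup P) ⊔ S = ⊤
    · exfalso
      have hTn : (T : Subgroup P).Normal := by
        rw [← Subgroup.normalizer_eq_top_iff, eq_top_iff, ← hX]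
        exact sup_le Subgroup.le_normalizer hST
      rcases R3 T hTn with h | h
      · have hKT : K ≤ T := (le_layer hK).trans (hres ▸ h)
        exact isComponent_not_isPGroup hK (T.2.to_le hKT)
      · apply hM.1
        rw [eq_top_iff, ← hX]
        exact sup_le (h.trans (Subgroup.normalCore_le M)) hSM
    · exact ⟨T, le_sup_left.trans (hle _ le_sup_right hX)⟩

theorem key (hP : IsPMinimal p P) (hOp : pCore p P = ⊥)
    (S : Sylow p P) {M : Subgroup P} (hM : IsCoatom M) (hSM : (S : Subgroup P) ≤ M)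
    {K : Subgroup P} (hK : IsComponent K) {H : Subgroup P}
    (hS1H : (S : Subgroup P) ⊓ Subgroup.normalizer (K : Set P) ≤ H)
    (hHP1 : H ≤ K ⊔ ((S : Subgroup P) ⊓ Subgroup.normalizer (K : Set P)))
    (hKH : ¬ K ≤ H) : H ≤ M := by
  haveI : M.normalCore.Normal := Subgroup.normalCore_normal M
  obtain ⟨-, -, R3, -, -⟩ := Cfsg.Agent.S2905.result hP S M hM hSM
  have hmin := IsPMinimal.isMinimalOver hP S
  have hle := IsMinimalOver.le_coatom hmin hM hSM
  have hres := pResidual_eq_layer hP hOp S hM hSM hK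
  obtain ⟨S1, hS1⟩ : ∃ S1 : Subgroup P,
      S1 = (S : Subgroup P) ⊓ Subgroup.normalizer (K : Set P) := ⟨_, rfl⟩
  rw [← hS1] at hS1H hHP1
  have hS1S : S1 ≤ S := by rw [hS1]; exact inf_le_left
  have hS1K : S1 ≤ Subgroup.normalizer (K : Set P) := by rw [hS1]; exact inf_le_right
  obtain ⟨A, hA⟩ : ∃ A : Subgroup P, A = H ⊓ K := ⟨_, rfl⟩
  have hAK : A ≤ K := by rw [hA]; exact inf_le_right
  have hAH : A ≤ H := by rw [hA]; exact inf_le_left
  have hAS1 : ∀ t ∈ S1, A.map (MulAut.conj t).toMonoidHom ≤ A := by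
    intro t ht
    rintro _ ⟨x, hx, rfl⟩
    rw [hA] at hx ⊢
    refine ⟨?_, ?_⟩
    · exact H.mul_mem (H.mul_mem (hS1H ht) hx.1) (H.inv_mem (hS1H ht))
    · exact (Subgroup.mem_normalizer_iff.mp (hS1K ht) x).mp hx.2
  obtain ⟨B, hB⟩ : ∃ B : Subgroup P,
      B = ⨆ s : ↥(S : Subgroup P), A.map (MulAut.conj (s : P)).toMonoidHom := ⟨_, rfl⟩
  have hAB : A ≤ B := by
    rw [hB]
    have h := le_iSup (fun s : ↥(S : Subgroup P) => A.map (MulAut.conj (s : P)).toMonoidHom) 1
    have e : A.map (MulAut.conj (((1 : ↥(S : Subgroup P)) : P))).toMonoidHom = A :=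
      map_conj_one A
    exact le_of_eq_of_le e.symm h
  have hSB : (S : Subgroup P) ≤ Subgroup.normalizer (B : Set P) := by
    apply le_normalizer_of_forall_map_le
    intro t ht
    rw [hB, Subgroup.map_iSup]
    apply iSup_le
    intro s
    rw [map_conj_map_conj]
    exact le_iSup (fun s : ↥(S : Subgroup P) => A.map (MulAut.conj (s : P)).toMonoidHom)
      (⟨t, ht⟩ * s)
  have hHdec : ∀ h ∈ H, ∃ k ∈ A, ∃ t ∈ S1, h = k * t := by
    intro h hh
    have h1 : h ∈ ((K ⊔ S1 : Subgroup P) : Set P) := hHP1 hh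
    rw [Subgroup.coe_mul_of_right_le_normalizer_left K S1 hS1K] at h1
    obtain ⟨k, hk, t, ht, rfl⟩ := Set.mem_mul.mp h1
    refine ⟨k, ?_, t, ht, rfl⟩
    rw [hA]
    refine ⟨?_, hk⟩
    have e : k = k * t * t⁻¹ := by group
    rw [e]; exact H.mul_mem hh (H.inv_mem (hS1H ht))
  by_cases hX : B ⊔ (S : Subgroup P) = ⊤
  · exfalso
    have hBn : B.Normal := by
      rw [← Subgroup.normalizer_eq_top_iff, eq_top_iff, ← hX]
      exact sup_le Subgroup.le_normalizer hSB
    rcases R3 B hBn with h | h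
    · have hKB : K ≤ B := (le_layer hK).trans (hres ▸ h)
      apply hKH
      refine le_trans ?_ hAH
      obtain ⟨C0, hC0⟩ : ∃ C0 : Subgroup P, C0 = Subgroup.centralizer (K : Set P) := ⟨_, rfl⟩
      have hBAC : B ≤ A ⊔ C0 := by
        rw [hB]
        apply iSup_le
        intro s
        by_cases hs : K.map (MulAut.conj (s : P)).toMonoidHom = K
        · have hsN := mem_normalizer_of_map_conj_eq hs
          have hsS1 : (s : P) ∈ S1 := by rw [hS1]; exact ⟨s.2, hsN⟩
          exact (hAS1 _ hsS1).trans le_sup_left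
        · rcases isComponent_eq_or_commutator_eq_bot (isComponent_conj (s : P) hK) hK with h' | h'
          · exact absurd h' hs
          · have h1 := Subgroup.commutator_eq_bot_iff_le_centralizer.mp h'
            rw [← hC0] at h1
            exact ((Subgroup.map_mono hAK).trans h1).trans le_sup_right
      have hAC0 : A ≤ Subgroup.normalizer (C0 : Set P) := by
        apply le_normalizer_of_forall_map_le
        intro a ha
        rintro _ ⟨c, hc, rfl⟩
        rw [hC0] at hc ⊢
        rw [SetLike.mem_coe, Subgroup.mem_centralizer_iff] at hc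
        rw [Subgroup.mem_centralizer_iff]
        intro k hk
        have h1 := hc (a⁻¹ * k * a) (K.mul_mem (K.mul_mem (K.inv_mem (hAK ha)) hk) (hAK ha))
        show k * (a * c * a⁻¹) = a * c * a⁻¹ * k
        calc k * (a * c * a⁻¹) = a * ((a⁻¹ * k * a) * c) * a⁻¹ := by group
          _ = a * (c * (a⁻¹ * k * a)) * a⁻¹ := by rw [h1]
          _ = a * c * a⁻¹ * k := by group
      have hdec : ∀ k ∈ K, ∃ a ∈ A, ∃ c ∈ C0, k = a * c := by
        intro k hk
        have h1 : k ∈ ((A ⊔ C0 : Subgroup P) : Set P) := hBAC (hKB hk)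
        rw [Subgroup.coe_mul_of_left_le_normalizer_right A C0 hAC0] at h1
        obtain ⟨a, ha, c, hc, rfl⟩ := Set.mem_mul.mp h1
        exact ⟨a, ha, c, hc, rfl⟩
      have hperf := isComponent_perfect hK
      rw [← hperf, Subgroup.commutator_le]
      intro k1 hk1 k2 hk2
      obtain ⟨a1, ha1, c1, hc1, rfl⟩ := hdec k1 hk1
      obtain ⟨a2, ha2, c2, hc2, rfl⟩ := hdec k2 hk2
      rw [hC0, Subgroup.mem_centralizer_iff] at hc1 hc2
      have e : ⁅a1 * c1, a2 * c2⁆ = ⁅a1, a2⁆ := by
        rw [commutatorElement_def, commutatorElement_def]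
        have h1 := hc1 (a2 * c2) hk2
        have h2 := hc2 a1⁻¹ (K.inv_mem (hAK ha1))
        calc a1 * c1 * (a2 * c2) * (a1 * c1)⁻¹ * (a2 * c2)⁻¹
            = a1 * ((a2 * c2) * c1) * (c1⁻¹ * a1⁻¹) * (c2⁻¹ * a2⁻¹) := by
              rw [h1, mul_inv_rev, mul_inv_rev]; simp only [mul_assoc]
          _ = a1 * a2 * (c2 * a1⁻¹) * (c2⁻¹ * a2⁻¹) := by group
          _ = a1 * a2 * (a1⁻¹ * c2) * (c2⁻¹ * a2⁻¹) := by rw [h2]
          _ = a1 * a2 * a1⁻¹ * a2⁻¹ := by group
      rw [e]
      exact A.mul_mem (A.mul_mem (A.mul_mem ha1 ha2) (A.inv_mem ha1)) (A.inv_mem ha2)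
    · apply hM.1
      rw [eq_top_iff, ← hX]
      exact sup_le (h.trans (Subgroup.normalCore_le M)) hSM
  · have hBM : B ≤ M := le_sup_left.trans (hle _ le_sup_right hX)
    intro h hh
    obtain ⟨k, hk, t, ht, rfl⟩ := hHdec h hh
    exact M.mul_mem (hBM (hAB hk)) (hSM (hS1S ht))

end Cfsg.Agent.Lib.Helper8.PMin
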