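import Mathlib
import Cfsg.Agent.Lib.Helper8.PMin1
import Cfsg.Agent.Lib.Helper8.PMin2
import Cfsg.Agent.Lib.Helper1.Coprime
import Cfsg.Agent.S2790

set_option autoImplicit false

namespace Cfsg.Agent.Lib.Helper8.PMin

open Cfsg
open Cfsg.Agent.Lib.Helper7 Cfsg.Agent.Lib.Helper2

variable {P : Type*} [Group P] [Finite P] {p : ℕ} [Fact p.Prime]

theorem isPMinimal_comp (hP : IsPMinimal p P) (hOp : pCore p P = ⊥)
    (S : Sylow p P) {M : Subgroup P} (hM : IsCoatom M) (hSM : (S : Subgroup P) ≤ M)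
    {K : Subgroup P} (hK : IsComponent K) :
    IsPMinimal p ↥(K ⊔ ((S : Subgroup P) ⊓ Subgroup.normalizer (K : Set P))) := by
  classical
  haveI : M.normalCore.Normal := Subgroup.normalCore_normal M
  have hres := pResidual_eq_layer hP hOp S hM hSM hK
  have hiSup := layer_eq_iSup hP hOp S hM hSM hK
  obtain ⟨S1, hS1⟩ : ∃ S1 : Subgroup P,
      S1 = (S : Subgroup P) ⊓ Subgroup.normalizer (K : Set P) := ⟨_, rfl⟩
  obtain ⟨P1, hP1⟩ : ∃ P1 : Subgroup P, P1 = K ⊔ S1 := ⟨_, rfl⟩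
  rw [← hS1, ← hP1]
  have hS1S : S1 ≤ S := by rw [hS1]; exact inf_le_left
  have hS1K : S1 ≤ Subgroup.normalizer (K : Set P) := by rw [hS1]; exact inf_le_right
  have hKP1 : K ≤ P1 := by rw [hP1]; exact le_sup_left
  have hS1P1 : S1 ≤ P1 := by rw [hP1]; exact le_sup_right
  have hKM : ¬ K ≤ M := fun h => comp_not_le_normalCore hP hOp S hM hSM hK
    (isSubnormal_le_normalCore_of_isCoatom hM hK.1 h)
  have hkey : ∀ H : Subgroup P, S1 ≤ H → H ≤ P1 → ¬ K ≤ H → H ≤ M := by
    intro H h1 h2 h3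
    rw [hS1] at h1
    rw [hP1, hS1] at h2
    exact key hP hOp S hM hSM hK h1 h2 h3
  have hS1'p : IsPGroup p ↥(S1.subgroupOf P1) :=
    (S.2.to_le hS1S).comap_of_injective P1.subtype (Subgroup.subtype_injective _)
  obtain ⟨T0, hT0⟩ := hS1'p.exists_le_sylow
  apply Cfsg.Agent.S2790.isPMinimal_of_pMinAt T0
  have hkey' : ∀ H' : Subgroup ↥P1, S1.subgroupOf P1 ≤ H' → H' ≠ ⊤ →
      H' ≤ M.subgroupOf P1 := by
    intro H' h1 h2
    have hH1 : S1 ≤ H'.map P1.subtype := by
      intro x hx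
      exact ⟨⟨x, hS1P1 hx⟩, h1 (Subgroup.mem_subgroupOf.mpr hx), rfl⟩
    have hH2 : H'.map P1.subtype ≤ P1 := Subgroup.map_subtype_le H'
    have hH3 : ¬ K ≤ H'.map P1.subtype := by
      intro hK'
      apply h2
      rw [eq_top_iff]
      intro q _
      have hq : (q : P) ∈ H'.map P1.subtype := by
        have h3 : P1 ≤ H'.map P1.subtype := (le_of_eq hP1).trans (sup_le hK' hH1)
        exact h3 q.2
      obtain ⟨y, hy, hyq⟩ := hq
      have h4 : y = q := Subtype.ext hyq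
      rwa [← h4]
    have h4 := hkey _ hH1 hH2 hH3
    intro x hx
    rw [Subgroup.mem_subgroupOf]
    exact h4 ⟨x, hx, rfl⟩
  have hM1ne : M.subgroupOf P1 ≠ ⊤ := by
    intro h
    apply hKM
    intro k hk
    have h1 : (⟨k, hKP1 hk⟩ : ↥P1) ∈ M.subgroupOf P1 := by rw [h]; exact Subgroup.mem_top _
    exact Subgroup.mem_subgroupOf.mp h1
  have hnotnormal : ¬ (T0 : Subgroup ↥P1).Normal := by
    intro hn
    obtain ⟨T, hT⟩ : ∃ T : Subgroup P, T = (T0 : Subgroup ↥P1).map P1.subtype := ⟨_, rfl⟩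
    have hS1T : S1 ≤ T := by
      intro x hx
      rw [hT]
      exact ⟨⟨x, hS1P1 hx⟩, hT0 (Subgroup.mem_subgroupOf.mpr hx), rfl⟩
    have hTp : IsPGroup p T := by rw [hT]; exact T0.2.map _
    have hKNT : K ≤ Subgroup.normalizer (T : Set P) := by
      apply le_normalizer_of_forall_map_le
      intro k hk
      rintro _ ⟨x, hx, rfl⟩
      rw [hT] at hx ⊢
      obtain ⟨y, hy, rfl⟩ := hx
      exact ⟨⟨k, hKP1 hk⟩ * y * ⟨k, hKP1 hk⟩⁻¹, hn.conj_mem y hy _, rfl⟩
    rcases isComponent_le_or_commutator_eq_bot_of_le_normalizer hK hKNT with h | h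
    · exact isComponent_not_isPGroup hK (hTp.to_le h)
    · have hTC : T ≤ Subgroup.centralizer (K : Set P) :=
        Subgroup.commutator_eq_bot_iff_le_centralizer.mp h
      apply false_of_sylow_inf_layer_eq_bot hP hOp S hM hSM hK
      obtain ⟨Q0, hQ0⟩ : ∃ Q0 : Subgroup P, Q0 = (S : Subgroup P) ⊓ layer P := ⟨_, rfl⟩
      rw [← hQ0]
      haveI hEn : (layer P).Normal := layer_normal
      have hQ0C : Q0 ≤ Subgroup.centralizer (K : Set P) := by
        refine le_trans ?_ (hS1T.trans hTC)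
        rw [hQ0, hS1]
        exact inf_le_inf_left _ (Cfsg.Agent.Lib.Helper8.CompCent.layer_le_normalizer hK)
      have hSQ0 : (S : Subgroup P) ≤ Subgroup.normalizer (Q0 : Set P) := by
        rw [hQ0]
        apply Cfsg.Agent.Lib.Helper1.le_normalizer_inf Subgroup.le_normalizer
        rw [Subgroup.normalizer_eq_top_iff.mpr hEn]; exact le_top
      have hEQ0 : layer P ≤ Subgroup.centralizer (Q0 : Set P) := by
        rw [hiSup]
        apply iSup_le
        intro s
        rintro _ ⟨k, hk, rfl⟩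
        rw [Subgroup.mem_centralizer_iff]
        intro q hq
        have hq' : (s : P)⁻¹ * q * (s : P) ∈ Q0 := by
          have h1 := (Subgroup.mem_normalizer_iff.mp
            (hSQ0 ((S : Subgroup P).inv_mem s.2)) q).mp hq
          simpa using h1
        have hc := Subgroup.mem_centralizer_iff.mp (hQ0C hq') k hk
        show q * ((s : P) * k * (s : P)⁻¹) = (s : P) * k * (s : P)⁻¹ * q
        calc q * ((s : P) * k * (s : P)⁻¹)
            = (s : P) * (k * ((s : P)⁻¹ * q * (s : P))) * (s : P)⁻¹ := by rw [hc]; group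
          _ = (s : P) * k * (s : P)⁻¹ * q := by group
      have hQ0n : Q0.Normal := by
        rw [← Subgroup.normalizer_eq_top_iff, eq_top_iff,
          ← Cfsg.Agent.Lib.Helper1.sylow_sup_pResidual_eq_top S, hres]
        exact sup_le hSQ0 (hEQ0.trans (Subgroup.centralizer_le_normalizer _))
      have h5 := Cfsg.Agent.Lib.Helper1.le_pCore hQ0n
        (S.2.to_le (by rw [hQ0]; exact inf_le_left))
      rw [hOp] at h5
      exact le_bot_iff.mp h5
  show ¬ _ ∧ _
  refine ⟨hnotnormal, ?_⟩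
  have hT0ne : (T0 : Subgroup ↥P1) ≠ ⊤ := by
    intro h
    apply hnotnormal
    rw [h]
    infer_instance
  rcases eq_top_or_exists_le_coatom (T0 : Subgroup ↥P1) with h | ⟨C, hC, hT0C⟩
  · exact absurd h hT0ne
  · have hCeq : ∀ C' : Subgroup ↥P1, IsCoatom C' → (T0 : Subgroup ↥P1) ≤ C' →
        C' = M.subgroupOf P1 := by
      intro C' hC' hT0C'
      have h1 := hkey' C' (hT0.trans hT0C') hC'.1
      rcases hC'.le_iff.mp h1 with h | h
      · exact absurd h hM1ne
      · exact h.symm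
    refine ⟨C, ⟨hC, hT0C⟩, ?_⟩
    rintro C' ⟨hC', hT0C'⟩
    rw [hCeq C' hC' hT0C', hCeq C hC hT0C]

end Cfsg.Agent.Lib.Helper8.PMin
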