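import Mathlib
import Cfsg.Agent.Lib.Helper8.PRDefs
import Cfsg.Agent.Lib.Helper4.ConjClass

set_option autoImplicit false

namespace Cfsg.Agent.Lib.Helper8.PR

variable {G : Type*} [Group G]

theorem idx_eq_one_iff [Finite G] (x : G) : idx x = 1 ↔ x ∈ Subgroup.center G := by
  unfold idx
  rw [Subgroup.index_eq_one, Subgroup.centralizer_eq_top_iff_subset, Set.singleton_subset_iff]
  rfl

/-- B12 -/
theorem hyp_of_ncard [Finite G] {p : ℕ} (hp : p.Prime)
    (h2 : Set.ncard (Set.range fun x : {x : G // (orderOf x).Coprime p} =>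
      (ConjClasses.mk (x : G)).carrier.ncard) = 2) :
    ∃ m : ℕ, Hyp G p m ∧ ∃ x : G, PReg p x ∧ x ∉ Subgroup.center G := by
  classical
  set f : {x : G // (orderOf x).Coprime p} → ℕ := fun x => (ConjClasses.mk (x : G)).carrier.ncard
    with hf
  have hfx : ∀ x : {x : G // (orderOf x).Coprime p}, f x = idx (x : G) := by
    intro x
    simp only [hf, idx]
    rw [← Cfsg.Agent.Lib.Helper4.card_carrier_eq_index, Nat.card_coe_set_eq]
  obtain ⟨a, b, hab, hr⟩ := Set.ncard_eq_two.mp h2
  have h1mem : (1 : ℕ) ∈ Set.range f := by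
    refine ⟨⟨1, by simp⟩, ?_⟩
    rw [hfx]
    exact (idx_eq_one_iff (1 : G)).mpr (Subgroup.one_mem _)
  -- the other value
  have key : ∃ m : ℕ, m ≠ 1 ∧ Set.range f = {1, m} := by
    rw [hr] at h1mem
    rcases h1mem with h | h
    · subst h
      exact ⟨b, fun hb => hab hb.symm, hr⟩
    · rw [Set.mem_singleton_iff] at h
      subst h
      refine ⟨a, hab, ?_⟩
      rw [hr, Set.pair_comm]
  obtain ⟨m, hm1, hrange⟩ := key
  have hmmem : m ∈ Set.range f := by rw [hrange]; simp
  obtain ⟨x0, hx0⟩ := hmmem
  have hx0' : idx (x0 : G) = m := by rw [← hfx]; exact hx0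
  have hmpos : 0 < m := by
    rw [← hx0']
    unfold idx
    exact Nat.pos_of_ne_zero (Subgroup.index_ne_zero_of_finite)
  refine ⟨m, ⟨hp, by omega, ?_⟩, x0, x0.2, ?_⟩
  · intro x hx
    have : f ⟨x, hx⟩ ∈ Set.range f := ⟨_, rfl⟩
    rw [hrange, hfx] at this
    rcases this with h | h
    · left; exact (idx_eq_one_iff x).mp h
    · right; exact h
  · intro hc
    have := (idx_eq_one_iff (x0 : G)).mpr hc
    omega

/-- B13 -/
theorem exists_q_of_not_twoRho [Finite G] {p : ℕ} (hp : p.Prime)
    (hx : ∃ x : G, PReg p x ∧ x ∉ Subgroup.center G) (h : ¬ TwoRho G p) :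
    ∃ q : ℕ, q.Prime ∧ q ≠ p ∧ ∀ r : ℕ, r.Prime → r ≠ p → r ≠ q → ∀ x : G,
      (∃ k : ℕ, orderOf x = r ^ k) → x ∈ Subgroup.center G := by
  classical
  obtain ⟨x, hxp, hxz⟩ := hx
  -- some primary part of x is noncentral
  have hprim : ∃ q : ℕ, InRho G p q := by
    by_contra hno
    push Not at hno
    apply hxz
    -- x is a product of its primary parts; show each in center
    have hx1 : x ∈ Subgroup.center G := by
      -- use: x ∈ closure of its prime-power-order powers
      have hn : 0 < orderOf x := orderOf_pos x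
      -- strong statement: ∀ y ∈ zpowers x, y ∈ center; by induction on number of prime factors
      have : ∀ (n : ℕ) (y : G), orderOf y = n → PReg p y → y ∈ Subgroup.center G := by
        intro n
        induction n using Nat.recOnPosPrimePosCoprime with
        | prime_pow q k hq hk =>
          intro y hy hyp'
          by_contra hyz
          have hqp : q ≠ p := by
            rintro rfl
            unfold PReg at hyp'
            rw [hy] at hyp'
            have := (Nat.coprime_pow_left_iff hk q q).mp hyp'
            exact hq.one_lt.ne' ((Nat.coprime_self q).mp this)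
          exact hno q ⟨hq, hqp, y, hyz, k, hy⟩
        | zero =>
          intro y hy _
          exact absurd hy (orderOf_pos y).ne'
        | one =>
          intro y hy _
          rw [orderOf_eq_one_iff] at hy
          rw [hy]; exact Subgroup.one_mem _
        | coprime a b ha hb hab iha ihb =>
          intro y hy hyp'
          -- y = y^(b*u) * y^(a*v)
          have hya : orderOf (y ^ b) = a := by
            rw [orderOf_pow' y (by omega : b ≠ 0), hy, Nat.gcd_mul_left_left] 
            exact Nat.mul_div_cancel _ (by omega)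
          have hyb : orderOf (y ^ a) = b := by
            rw [orderOf_pow' y (by omega : a ≠ 0), hy, Nat.gcd_mul_right_left]
            exact Nat.mul_div_cancel_left _ (by omega)
          have h1 := iha (y ^ b) hya (hyp'.pow b)
          have h2 := ihb (y ^ a) hyb (hyp'.pow a)
          -- y ∈ closure {y^a, y^b}
          obtain ⟨u, v, huv⟩ : ∃ u v : ℤ, (a : ℤ) * u + b * v = 1 := by
            have := Int.gcd_eq_gcd_ab a b
            rw [Int.gcd_natCast_natCast, hab] at this
            exact ⟨Int.gcdA a b, Int.gcdB a b, by push_cast at this; linarith⟩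
          have : y = (y ^ a) ^ u * (y ^ b) ^ v := by
            rw [← zpow_natCast, ← zpow_natCast, ← zpow_mul, ← zpow_mul, ← zpow_add, huv, zpow_one]
          rw [this]
          exact Subgroup.mul_mem _ (Subgroup.zpow_mem _ h2 u) (Subgroup.zpow_mem _ h1 v)
      exact this _ x rfl hxp
    exact hx1
  obtain ⟨q, hq⟩ := hprim
  refine ⟨q, hq.1, hq.2.1, ?_⟩
  intro r hr hrp hrq y hy
  by_contra hyz
  exact h ⟨q, r, fun e => hrq e.symm, hq, ⟨hr, hrp, y, hyz, hy⟩⟩

end Cfsg.Agent.Lib.Helper8.PR
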