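import Mathlib
import Cfsg.Agent.Lib.Helper8.PRDefs
import Cfsg.Agent.Lib.Helper8.PRBridge
import Cfsg.Agent.Lib.Helper4.PREPP
import Cfsg.Agent.Lib.Helper4.PRKW
import Cfsg.Agent.Lib.Helper9.PRA3
import Cfsg.Agent.Lib.Helper6.PRA4
import Cfsg.Agent.Lib.Helper9.PRA5
import Cfsg.Agent.Lib.Helper9.PRA6
import Cfsg.Agent.Lib.Helper6.PRB1
import Cfsg.Agent.Lib.Helper6.PRB2
import Cfsg.Agent.Lib.Helper9.PRB3a
import Cfsg.Agent.Lib.Helper4.PRB3b
import Cfsg.Agent.Lib.Helper9.PRB4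
import Cfsg.Agent.Lib.Helper4.PRB5
import Cfsg.Agent.Lib.Helper6.PRB6
import Cfsg.Agent.Lib.Helper9.PRB7
import Cfsg.Agent.Lib.Helper9.PRB8a
import Cfsg.Agent.Lib.Helper4.PRB8b
import Cfsg.Agent.Lib.Helper9.PRB9

set_option autoImplicit false

namespace Cfsg.Agent.Lib.Helper8.PR

variable {G : Type*} [Group G]

theorem h8_index_normalizer_BB [Finite G] {p m : ℕ} (H : Hyp G p m) (h2 : TwoRho G p) {g : G}
    (hg : PReg p g) (hgz : g ∉ Subgroup.center G) :
    ∃ a : ℕ, (Subgroup.normalizer ((BB p g : Subgroup G) : Set G)).index = p ^ a :=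
  h9_index_normalizer_BB_aux H h2 hg hgz (fun _ hx hxz => conj_into_BB H h2 hg hgz hx hxz)

theorem h8_pow_index_CS [Finite G] {p m : ℕ} (H : Hyp G p m) (h2 : TwoRho G p) {g : G}
    (hg : PReg p g) (hgz : g ∉ Subgroup.center G) {s : ℕ} [Fact s.Prime] (hsp : s ≠ p)
    (S : Sylow s G)
    (hS : (S : Subgroup G) ≤ Subgroup.normalizer ((BB p g : Subgroup G) : Set G))
    (hSC : ¬ (S : Subgroup G) ≤ Subgroup.centralizer ({g} : Set G)) :
    ∃ k : ℕ, (Subgroup.centralizer ({g} : Set G) ⊔ (S : Subgroup G)).index = p ^ k :=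
  h9_pow_index_CS_aux H h2 hg hgz hsp S hS hSC (h8_index_normalizer_BB H h2 hg hgz)
    (one_prime H h2 hg hgz)

theorem isPow_of_mem_sylow [Finite G] {s : ℕ} [Fact s.Prime] (S : Sylow s G) {x : G}
    (hx : x ∈ (S : Subgroup G)) : IsPow s x := by
  obtain ⟨k, hk⟩ := (IsPGroup.iff_orderOf.mp S.isPGroup') ⟨x, hx⟩
  exact ⟨k, by rw [← hk]; exact (Subgroup.orderOf_mk x hx).symm⟩

theorem preg_of_isPow {p s : ℕ} (hs : s.Prime) (hp : p.Prime) (hsp : s ≠ p) {x : G}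
    (hx : IsPow s x) : PReg p x := by
  obtain ⟨k, hk⟩ := hx
  unfold PReg
  rw [hk]
  exact Nat.Coprime.pow_left k ((Nat.coprime_primes hs hp).mpr hsp)

theorem isPow_conj {s : ℕ} {x : G} (hx : IsPow s x) (g : G) : IsPow s (g * x * g⁻¹) := by
  obtain ⟨k, hk⟩ := hx
  refine ⟨k, ?_⟩
  have : orderOf (g * x * g⁻¹) = orderOf x := by
    have := orderOf_injective (MulAut.conj g).toMonoidHom (MulAut.conj g).injective x
    simpa using this
  rw [this, hk]

theorem conj_mem_center_iff {x : G} (g : G) :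
    g * x * g⁻¹ ∈ Subgroup.center G ↔ x ∈ Subgroup.center G := by
  constructor
  · intro h
    have := (Subgroup.center G).normal_of_characteristic.conj_mem _ h g⁻¹
    simpa [mul_assoc] using this
  · intro h
    exact (Subgroup.center G).normal_of_characteristic.conj_mem _ h g

/-- B11a -/
theorem exists_setup [Finite G] {p m : ℕ} (H : Hyp G p m) (h2 : TwoRho G p) {s : ℕ}
    [Fact s.Prime] (hsp : s ≠ p) (hsm : s ∣ m) :
    ∃ (g : G) (S : Sylow s G), g ∈ (S : Subgroup G) ∧ g ∉ Subgroup.center G ∧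
      (S : Subgroup G) ≤ Subgroup.normalizer ((BB p g : Subgroup G) : Set G) ∧
      ¬ (S : Subgroup G) ≤ Subgroup.centralizer ({g} : Set G) := by
  obtain ⟨S⟩ : Nonempty (Sylow s G) := inferInstance
  obtain ⟨y, hyS, hyz, hSN⟩ := sylow_le_normalizer H h2 hsp hsm S
  refine ⟨y, S, hyS, hyz, hSN, ?_⟩
  intro hle
  have hpy : PReg p y := preg_of_isPow (Fact.out) H.hp hsp (isPow_of_mem_sylow S hyS)
  have hidx : idx y = m := (H.cls y hpy).resolve_left hyz
  have h1 : (Subgroup.centralizer ({y} : Set G)).index ∣ (S : Subgroup G).index :=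
    Subgroup.index_dvd_of_le hle
  have h2' : ¬ s ∣ (S : Subgroup G).index := S.not_dvd_index
  apply h2'
  unfold idx at hidx
  rw [hidx] at h1
  exact dvd_trans hsm h1


/-- valid elements -/
def Valid (p : ℕ) (g : G) (S : Subgroup G) (y : G) : Prop :=
  y ∈ S ∧ y ∈ BB p g ∧ y ∉ Subgroup.center G ∧ ∀ c ∈ S, y⁻¹ * c⁻¹ * y * c ∈ Subgroup.center G

/-- `X(y)` -/
def XX (p : ℕ) (y : G) : Subgroup G := Subgroup.normalClosure ({y} : Set G) ⊔ Zp G p

theorem mem_normalizer_BB_iff {p : ℕ} {g c : G} :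
    c ∈ Subgroup.normalizer ((BB p g : Subgroup G) : Set G) ↔
      ∀ b, b ∈ BB p g ↔ c * b * c⁻¹ ∈ BB p g := by
  exact Subgroup.mem_normalizer_iff

theorem conj_mem_BB_of_mem_normalizer {p : ℕ} {g c b : G}
    (hc : c ∈ Subgroup.normalizer ((BB p g : Subgroup G) : Set G)) (hb : b ∈ BB p g) :
    c * b * c⁻¹ ∈ BB p g := (mem_normalizer_BB_iff.mp hc b).mp hb

theorem conj_inv_mem_BB_of_mem_normalizer {p : ℕ} {g c b : G}
    (hc : c ∈ Subgroup.normalizer ((BB p g : Subgroup G) : Set G)) (hb : b ∈ BB p g) :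
    c⁻¹ * b * c ∈ BB p g := by
  have := conj_mem_BB_of_mem_normalizer (Subgroup.inv_mem _ hc) hb
  simpa using this

theorem exists_valid_y [Finite G] {p : ℕ} {s : ℕ} [Fact s.Prime] {g : G} (S : Sylow s G)
    (hgS : g ∈ (S : Subgroup G)) (hgp : PReg p g) (hgz : g ∉ Subgroup.center G)
    (hSN : (S : Subgroup G) ≤ Subgroup.normalizer ((BB p g : Subgroup G) : Set G)) :
    ∃ y, Valid p g (S : Subgroup G) y := by
  obtain ⟨d, hdJ, hdz, hd⟩ := exists_valid (Fact.out : s.Prime) (S : Subgroup G)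
    ((S : Subgroup G) ⊓ BB p g) S.isPGroup' inf_le_left
    (fun c hc j hj => ⟨Subgroup.mul_mem _ (Subgroup.mul_mem _ hc hj.1) (Subgroup.inv_mem _ hc),
      conj_mem_BB_of_mem_normalizer (hSN hc) hj.2⟩)
    ⟨g, ⟨hgS, self_mem_BB hgp⟩, hgz⟩
  exact ⟨d, hdJ.1, hdJ.2, hdz, hd⟩

/-- the subgroup of elements whose commutator with `y` lies in a central subgroup -/
def commSub (Z₀ : Subgroup G) (hZ : Z₀ ≤ Subgroup.center G) (y : G) : Subgroup G where
  carrier := {c | y⁻¹ * c⁻¹ * y * c ∈ Z₀}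
  one_mem' := by simp
  mul_mem' := by
    intro c d hc hd
    simp only [Set.mem_ofPred_eq] at *
    have hcz := hZ hc
    have : y⁻¹ * (c * d)⁻¹ * y * (c * d) = (y⁻¹ * d⁻¹ * y * d) * (y⁻¹ * c⁻¹ * y * c) := by
      have h1 : c⁻¹ * y * c = y * (y⁻¹ * c⁻¹ * y * c) := by group
      calc y⁻¹ * (c * d)⁻¹ * y * (c * d) = y⁻¹ * d⁻¹ * (c⁻¹ * y * c) * d := by group
        _ = y⁻¹ * d⁻¹ * (y * (y⁻¹ * c⁻¹ * y * c)) * d := by rw [← h1]
        _ = y⁻¹ * d⁻¹ * y * ((y⁻¹ * c⁻¹ * y * c) * d) := by group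
        _ = y⁻¹ * d⁻¹ * y * (d * (y⁻¹ * c⁻¹ * y * c)) := by
            rw [Subgroup.mem_center_iff.mp hcz d]
        _ = (y⁻¹ * d⁻¹ * y * d) * (y⁻¹ * c⁻¹ * y * c) := by group
    rw [this]
    exact Subgroup.mul_mem _ hd hc
  inv_mem' := by
    intro c hc
    simp only [Set.mem_ofPred_eq] at *
    have hcz := hZ hc
    have h3 : c * (y⁻¹ * c⁻¹ * y * c) * c⁻¹ = y⁻¹ * c⁻¹ * y * c := by
      rw [Subgroup.mem_center_iff.mp hcz c]; group
    have : y⁻¹ * c⁻¹⁻¹ * y * c⁻¹ = (c * (y⁻¹ * c⁻¹ * y * c) * c⁻¹)⁻¹ := by group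
    rw [this, h3]
    exact Subgroup.inv_mem _ hc


theorem exists_K [Finite G] {p m : ℕ} (H : Hyp G p m) (h2 : TwoRho G p) {s : ℕ}
    [Fact s.Prime] (hsp : s ≠ p) {g : G} (S : Sylow s G)
    (hgS : g ∈ (S : Subgroup G)) (hgp : PReg p g) (hgz : g ∉ Subgroup.center G)
    (hSN : (S : Subgroup G) ≤ Subgroup.normalizer ((BB p g : Subgroup G) : Set G))
    (hSC : ¬ (S : Subgroup G) ≤ Subgroup.centralizer ({g} : Set G))
    {y : G} (hv : Valid p g (S : Subgroup G) y) :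
    ∃ K : Subgroup G, K.Normal ∧ Zp G p ≤ K ∧ K ≤ XX p y ∧ y ∉ K ∧
      ∀ x ∈ XX p y, (orderOf x).Coprime s → x ∈ K := by
  obtain ⟨hyS, hyB, hyz, hyc⟩ := hv
  have hidx := h8_pow_index_CS H h2 hgp hgz hsp S hSN hSC
  have hM : ∀ c ∈ Subgroup.centralizer ({g} : Set G) ⊔ (S : Subgroup G),
      y⁻¹ * c⁻¹ * y * c ∈ Zp G p := by
    have hle : Subgroup.centralizer ({g} : Set G) ⊔ (S : Subgroup G) ≤
        commSub (Zp G p) (Zp_le_center p) y := by
      apply sup_le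
      · intro c hc
        show y⁻¹ * c⁻¹ * y * c ∈ Zp G p
        have : c * y = y * c := hyB.2.1 c hc
        have : y⁻¹ * c⁻¹ * y * c = 1 := by
          calc y⁻¹ * c⁻¹ * y * c = y⁻¹ * c⁻¹ * (y * c) := by group
            _ = y⁻¹ * c⁻¹ * (c * y) := by rw [this]
            _ = 1 := by group
        rw [this]; exact Subgroup.one_mem _
      · intro c hc
        show y⁻¹ * c⁻¹ * y * c ∈ Zp G p
        refine ⟨hyc c hc, ?_⟩
        have h1 : c⁻¹ * y * c ∈ BB p g := conj_inv_mem_BB_of_mem_normalizer (hSN hc) hyB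
        have h3 : y⁻¹ * (c⁻¹ * y * c) ∈ BB p g := Subgroup.mul_mem _ (Subgroup.inv_mem _ hyB) h1
        have : y⁻¹ * c⁻¹ * y * c = y⁻¹ * (c⁻¹ * y * c) := by group
        rw [this]
        exact h3.2.2
    exact fun c hc => hle hc
  exact KWcentral H.hp (Fact.out : s.Prime) (Zp G p) (Zp_le_center p) y
    (fun h => hyz h.1) (isPow_of_mem_sylow S hyS) _ hM hidx


theorem isPow_mul_of_commute {s : ℕ} (hs : s.Prime) {a b : G} (ha : IsPow s a) (hb : IsPow s b)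
    (hc : a * b = b * a) : IsPow s (a * b) := by
  obtain ⟨ka, hka⟩ := ha
  obtain ⟨kb, hkb⟩ := hb
  have h1 : orderOf (a * b) ∣ Nat.lcm (orderOf a) (orderOf b) := Commute.orderOf_mul_dvd_lcm hc
  have h2 : Nat.lcm (orderOf a) (orderOf b) ∣ s ^ (max ka kb) := by
    rw [hka, hkb]
    exact Nat.lcm_dvd (pow_dvd_pow s (le_max_left _ _)) (pow_dvd_pow s (le_max_right _ _))
  obtain ⟨j, _, hj⟩ := (Nat.dvd_prime_pow hs).mp (dvd_trans h1 h2)
  exact ⟨j, hj⟩

/-- the `s`-elements of `BB p g` -/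
def BBs (p s : ℕ) (hs : s.Prime) (g : G) : Subgroup G where
  carrier := {b | b ∈ BB p g ∧ IsPow s b}
  one_mem' := ⟨Subgroup.one_mem _, 0, by simp⟩
  mul_mem' := by
    rintro a b ⟨ha, hpa⟩ ⟨hb, hpb⟩
    exact ⟨Subgroup.mul_mem _ ha hb, isPow_mul_of_commute hs hpa hpb (BB_comm ha hb)⟩
  inv_mem' := by
    rintro a ⟨ha, ka, hka⟩
    exact ⟨Subgroup.inv_mem _ ha, ka, by rw [orderOf_inv, hka]⟩

theorem sElt_BB_mem_S [Finite G] {p s : ℕ} [Fact s.Prime] {g : G} (S : Sylow s G)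
    (hSN : (S : Subgroup G) ≤ Subgroup.normalizer ((BB p g : Subgroup G) : Set G))
    {b : G} (hb : b ∈ BB p g) (hbs : IsPow s b) : b ∈ (S : Subgroup G) := by
  have hs : s.Prime := Fact.out
  have hV : IsPGroup s (BBs p s hs g) := by
    rw [IsPGroup.iff_orderOf]
    rintro ⟨x, hx⟩
    obtain ⟨k, hk⟩ := hx.2
    exact ⟨k, by rw [← hk]; exact Subgroup.orderOf_mk x hx⟩
  have hN : (S : Subgroup G) ≤ Subgroup.normalizer ((BBs p s hs g : Subgroup G) : Set G) := by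
    intro c hc
    rw [Subgroup.mem_normalizer_iff]
    intro x
    have hcN := hSN hc
    rw [Subgroup.mem_normalizer_iff] at hcN
    constructor
    · rintro ⟨hx1, hx2⟩
      exact ⟨(hcN x).mp hx1, isPow_conj hx2 c⟩
    · rintro ⟨hx1, hx2⟩
      refine ⟨(hcN x).mpr hx1, ?_⟩
      have := isPow_conj hx2 c⁻¹
      simpa [mul_assoc] using this
  have hsup : IsPGroup s ((BBs p s hs g ⊔ (S : Subgroup G) : Subgroup G)) :=
    IsPGroup.to_sup_of_normal_left' hV S.isPGroup' hN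
  have heq := S.is_maximal' hsup le_sup_right
  have : BBs p s hs g ≤ (S : Subgroup G) := by
    rw [← heq]; exact le_sup_left
  exact this ⟨hb, hbs⟩


theorem BBs_le_BB (p q : ℕ) (hq : q.Prime) (g : G) : BBs p q hq g ≤ BB p g := fun _ h => h.1

theorem isPGroup_BBs (p q : ℕ) (hq : q.Prime) (g : G) : IsPGroup q (BBs p q hq g) := by
  have : Fact q.Prime := ⟨hq⟩
  rw [IsPGroup.iff_orderOf]
  rintro ⟨x, hx⟩
  obtain ⟨k, hk⟩ := hx.2
  exact ⟨k, by rw [← hk]; exact Subgroup.orderOf_mk x hx⟩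

theorem not_dvd_relIndex_BBs [Finite G] (p q : ℕ) (hq : q.Prime) (g : G) :
    ¬ q ∣ (BBs p q hq g).relIndex (BB p g) := by
  have : Fact q.Prime := ⟨hq⟩
  obtain ⟨P₀⟩ : Nonempty (Sylow q (BB p g)) := inferInstance
  have hle : (P₀ : Subgroup (BB p g)) ≤ (BBs p q hq g).subgroupOf (BB p g) := by
    intro x hx
    rw [Subgroup.mem_subgroupOf]
    refine ⟨x.2, ?_⟩
    obtain ⟨k, hk⟩ := (IsPGroup.iff_orderOf.mp P₀.isPGroup') ⟨x, hx⟩
    refine ⟨k, ?_⟩
    rw [← hk, Subgroup.orderOf_mk, Subgroup.orderOf_coe]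
  have h1 : ((BBs p q hq g).subgroupOf (BB p g)).index ∣ (P₀ : Subgroup (BB p g)).index :=
    Subgroup.index_dvd_of_le hle
  intro h
  exact P₀.not_dvd_index (dvd_trans h h1)

theorem card_mul_relIndex_of_le [Finite G] {A B : Subgroup G} (hAB : A ≤ B) :
    Nat.card A * A.relIndex B = Nat.card B := by
  have h := Subgroup.card_mul_index (A.subgroupOf B)
  rw [Nat.card_congr (Subgroup.subgroupOfEquivOfLe hAB).toEquiv] at h
  exact h

theorem card_inf_of_not_dvd_index [Finite G] {q : ℕ} (hq : q.Prime) (K : Subgroup G) [K.Normal]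
    (Q : Subgroup G) (hQ : IsPGroup q Q) (hQi : ¬ q ∣ Q.index) :
    Nat.card (K ⊓ Q : Subgroup G) = q ^ (Nat.card K).factorization q := by
  have : Fact q.Prime := ⟨hq⟩
  have h1 : (K ⊓ Q).relIndex K = Q.relIndex K := by
    rw [inf_comm]; exact Subgroup.inf_relIndex_right Q K
  have h2 : Q.relIndex K ∣ Q.index := h4_relIndex_dvd_index_normal Q K
  have h3 : ¬ q ∣ (K ⊓ Q).relIndex K := fun h => hQi (dvd_trans (h1 ▸ h) h2)
  have h4 : Nat.card (K ⊓ Q : Subgroup G) * (K ⊓ Q).relIndex K = Nat.card K :=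
    card_mul_relIndex_of_le inf_le_left
  have hPG : IsPGroup q (K ⊓ Q : Subgroup G) := hQ.to_le inf_le_right
  obtain ⟨j, hj⟩ := IsPGroup.iff_card.mp hPG
  have hne : (K ⊓ Q).relIndex K ≠ 0 := by
    intro h0
    rw [h0, mul_zero] at h4
    exact Nat.card_pos.ne' h4.symm
  rw [← h4, hj]
  rw [Nat.factorization_mul (pow_ne_zero _ hq.ne_zero) hne]
  rw [Finsupp.add_apply, Nat.factorization_pow, Finsupp.smul_apply, hq.factorization_self,
    Nat.factorization_eq_zero_of_not_dvd h3]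
  simp


theorem self_mem_XX (p : ℕ) (y : G) : y ∈ XX p y :=
  (le_sup_left : Subgroup.normalClosure ({y} : Set G) ≤ XX p y)
    (Subgroup.subset_normalClosure (Set.mem_singleton y))

/-- B11c -/
theorem sElts_central [Finite G] {p m : ℕ} (H : Hyp G p m) (h2 : TwoRho G p) {s : ℕ}
    [Fact s.Prime] (hsp : s ≠ p) {g : G} (S : Sylow s G) (hgp : PReg p g)
    (hgz : g ∉ Subgroup.center G)
    (hSN : (S : Subgroup G) ≤ Subgroup.normalizer ((BB p g : Subgroup G) : Set G))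
    {y : G}
    (hmin : ∀ y', Valid p g (S : Subgroup G) y' → Nat.card (XX p y) ≤ Nat.card (XX p y'))
    (K : Subgroup G) [hKn : K.Normal] (hZK : Zp G p ≤ K) (hKX : K ≤ XX p y) (hyK : y ∉ K) :
    ∀ x ∈ K, IsPow s x → x ∈ Subgroup.center G := by
  intro d hdK hds
  by_contra hdz
  have hs : s.Prime := Fact.out
  have hdp : PReg p d := preg_of_isPow hs H.hp hsp hds
  obtain ⟨h, hh⟩ := conj_into_BB H h2 hgp hgz hdp hdz
  have hd₁K : h * d * h⁻¹ ∈ K := hKn.conj_mem d hdK h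
  have hd₁s : IsPow s (h * d * h⁻¹) := isPow_conj hds h
  have hd₁z : h * d * h⁻¹ ∉ Subgroup.center G := fun hc => hdz ((conj_mem_center_iff h).mp hc)
  have hd₁S : h * d * h⁻¹ ∈ (S : Subgroup G) := sElt_BB_mem_S S hSN hh hd₁s
  have hJn : ∀ c ∈ (S : Subgroup G), ∀ j ∈ K ⊓ (S : Subgroup G) ⊓ BB p g,
      c * j * c⁻¹ ∈ K ⊓ (S : Subgroup G) ⊓ BB p g := by
    intro c hc j hj
    exact ⟨⟨hKn.conj_mem j hj.1.1 c,
      Subgroup.mul_mem _ (Subgroup.mul_mem _ hc hj.1.2) (Subgroup.inv_mem _ hc)⟩,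
      conj_mem_BB_of_mem_normalizer (hSN hc) hj.2⟩
  obtain ⟨d', hd'J, hd'z, hd'c⟩ := exists_valid hs (S : Subgroup G)
    (K ⊓ (S : Subgroup G) ⊓ BB p g) S.isPGroup' (inf_le_left.trans inf_le_right) hJn
    ⟨h * d * h⁻¹, ⟨⟨hd₁K, hd₁S⟩, hh⟩, hd₁z⟩
  have hv' : Valid p g (S : Subgroup G) d' := ⟨hd'J.1.2, hd'J.2, hd'z, hd'c⟩
  have h1 := hmin d' hv'
  have h2' : XX p d' ≤ K :=
    sup_le (Subgroup.normalClosure_le_normal (Set.singleton_subset_iff.mpr hd'J.1.1)) hZK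
  have h3 : Nat.card (XX p d') ≤ Nat.card K := Subgroup.card_le_of_le h2'
  have h4 : K = XX p y := Subgroup.eq_of_le_of_card_ge hKX (le_trans h1 h3)
  exact hyK (h4 ▸ self_mem_XX p y)

theorem s_dvd_relIndex [Finite G] {p m : ℕ} (H : Hyp G p m) {g : G} (hgp : PReg p g)
    (hgz : g ∉ Subgroup.center G) {s : ℕ} [Fact s.Prime] (S : Sylow s G)
    (hSN : (S : Subgroup G) ≤ Subgroup.normalizer ((BB p g : Subgroup G) : Set G))
    (hSC : ¬ (S : Subgroup G) ≤ Subgroup.centralizer ({g} : Set G)) :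
    s ∣ (Subgroup.centralizer ({g} : Set G)).relIndex
      (Subgroup.normalizer ((BB p g : Subgroup G) : Set G)) := by
  have hs : s.Prime := Fact.out
  rw [← centralizer_BB H hgp hgz] at hSC ⊢
  set C := Subgroup.centralizer ((BB p g : Subgroup G) : Set G) with hC
  set N := Subgroup.normalizer ((BB p g : Subgroup G) : Set G) with hN
  have h1 : C.relIndex (S : Subgroup G) ∣ C.relIndex N := by
    have := Subgroup.relIndex_dvd_index_of_normal (C.subgroupOf N) ((S : Subgroup G).subgroupOf N)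
    rw [Subgroup.relIndex_subgroupOf hSN] at this
    exact this
  have h2 : C.relIndex (S : Subgroup G) ≠ 1 := by
    intro h
    exact hSC (Subgroup.relIndex_eq_one.mp h)
  have h3 : C.relIndex (S : Subgroup G) ∣ Nat.card (S : Subgroup G) := Subgroup.relIndex_dvd_card _ _
  obtain ⟨n, hn⟩ := IsPGroup.iff_card.mp S.isPGroup'
  rw [hn] at h3
  obtain ⟨j, _, hj⟩ := (Nat.dvd_prime_pow hs).mp h3
  have hj0 : j ≠ 0 := by
    rintro rfl
    exact h2 (by simpa using hj)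
  exact dvd_trans (hj ▸ dvd_pow_self s hj0) h1

theorem prime_dvd_m_eq [Finite G] {p m : ℕ} (H : Hyp G p m) (h2 : TwoRho G p) {g : G}
    (hgp : PReg p g) (hgz : g ∉ Subgroup.center G) {s : ℕ} [Fact s.Prime] (hsp : s ≠ p)
    (S : Sylow s G)
    (hSN : (S : Subgroup G) ≤ Subgroup.normalizer ((BB p g : Subgroup G) : Set G))
    (hSC : ¬ (S : Subgroup G) ≤ Subgroup.centralizer ({g} : Set G))
    {r : ℕ} (hr : r.Prime) (hrp : r ≠ p) (hrm : r ∣ m) : r = s := by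
  have hs : s.Prime := Fact.out
  have hidx : idx g = m := (H.cls g hgp).resolve_left hgz
  obtain ⟨a, ha⟩ := h8_index_normalizer_BB H h2 hgp hgz
  have hmul := Subgroup.relIndex_mul_index (cent_le_normalizer_BB p g)
  unfold idx at hidx
  rw [hidx, ha] at hmul
  rw [← hmul] at hrm
  rcases (Nat.Prime.dvd_mul hr).mp hrm with h | h
  · exact one_prime H h2 hgp hgz r s hr hs hrp hsp h (s_dvd_relIndex H hgp hgz S hSN hSC)
  · exact absurd ((Nat.prime_dvd_prime_iff_eq hr H.hp).mp (hr.dvd_of_dvd_pow h)) hrp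


theorem comm_not_central {q s : ℕ} (hq : q.Prime) (hs : s.Prime) (hqs : q ≠ s) {v y : G}
    (hv : IsPow q v) (hy : IsPow s y) (hne : y⁻¹ * v * y ≠ v) :
    v⁻¹ * (y⁻¹ * v * y) ∉ Subgroup.center G := by
  intro hc
  set c := v⁻¹ * (y⁻¹ * v * y) with hcdef
  have hvc : y⁻¹ * v * y = v * c := by rw [hcdef]; group
  have hcomm : ∀ x : G, x * c = c * x := fun x => Subgroup.mem_center_iff.mp hc x
  have hiter : ∀ n : ℕ, (y ^ n)⁻¹ * v * y ^ n = v * c ^ n := by
    intro n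
    induction n with
    | zero => simp
    | succ n ih =>
      calc (y ^ (n + 1))⁻¹ * v * y ^ (n + 1) = y⁻¹ * ((y ^ n)⁻¹ * v * y ^ n) * y := by
            rw [pow_succ]; group
        _ = y⁻¹ * (v * c ^ n) * y := by rw [ih]
        _ = (y⁻¹ * v * y) * c ^ n := by
            have : c ^ n * y = y * c ^ n := by
              have := (Commute.pow_right (hcomm y : Commute y c) n)
              exact this.eq.symm
            calc y⁻¹ * (v * c ^ n) * y = y⁻¹ * v * (c ^ n * y) := by group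
              _ = y⁻¹ * v * (y * c ^ n) := by rw [this]
              _ = (y⁻¹ * v * y) * c ^ n := by group
        _ = v * c ^ (n + 1) := by rw [hvc, pow_succ']; group
  obtain ⟨j, hj⟩ := hy
  obtain ⟨k, hk⟩ := hv
  have h1 : c ^ (s ^ j) = 1 := by
    have := hiter (orderOf y)
    rw [pow_orderOf_eq_one] at this
    rw [← hj]
    simpa using this.symm
  have h2 : c ^ (q ^ k) = 1 := by
    have hvcpow : (v * c) ^ (q ^ k) = v ^ (q ^ k) * c ^ (q ^ k) :=
      Commute.mul_pow (hcomm v : Commute v c) _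
    have h3 : (y⁻¹ * v * y) ^ (q ^ k) = 1 := by
      have : (y⁻¹ * v * y) ^ (q ^ k) = y⁻¹ * v ^ (q ^ k) * y := by
        have := conj_pow (a := y⁻¹) (b := v) (i := q ^ k)
        simpa using this
      rw [this, ← hk, pow_orderOf_eq_one]; group
    rw [hvc, hvcpow, ← hk, pow_orderOf_eq_one, one_mul] at h3
    rw [← hk]; exact h3
  have h4 : orderOf c ∣ s ^ j := orderOf_dvd_of_pow_eq_one h1
  have h5 : orderOf c ∣ q ^ k := orderOf_dvd_of_pow_eq_one h2
  have hcop : Nat.Coprime (s ^ j) (q ^ k) :=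
    Nat.Coprime.pow _ _ ((Nat.coprime_primes hs hq).mpr (Ne.symm hqs))
  have h6 : orderOf c = 1 := Nat.eq_one_of_dvd_coprimes hcop h4 h5
  have h7 : c = 1 := orderOf_eq_one_iff.mp h6
  apply hne
  rw [hvc, h7, mul_one]

theorem not_dvd_index_BBs [Finite G] {p m : ℕ} (H : Hyp G p m) (h2 : TwoRho G p) {g : G}
    (hgp : PReg p g) (hgz : g ∉ Subgroup.center G) {q : ℕ} (hq : q.Prime) (hqp : q ≠ p)
    (hqm : ¬ q ∣ m) : ¬ q ∣ (BBs p q hq g).index := by
  obtain ⟨_, k, hk⟩ := card_BB H h2 hgp hgz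
  have hidx : idx g = m := (H.cls g hgp).resolve_left hgz
  unfold idx at hidx
  have h1 := Subgroup.card_mul_index (Subgroup.centralizer ({g} : Set G))
  have h3 := Subgroup.card_mul_index (BB p g)
  rw [hidx, hk] at h1
  have hpos : 0 < Nat.card (BB p g) := Nat.card_pos
  have h4 : (BB p g).index = p ^ k * m := by
    have : Nat.card (BB p g) * (BB p g).index = Nat.card (BB p g) * (p ^ k * m) := by
      rw [h3, ← h1]; ring
    exact Nat.eq_of_mul_eq_mul_left hpos this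
  have h5 := Subgroup.relIndex_mul_index (BBs_le_BB p q hq g)
  rw [← h5, h4]
  intro hd
  rcases (Nat.Prime.dvd_mul hq).mp hd with h | h
  · exact not_dvd_relIndex_BBs p q hq g h
  · rcases (Nat.Prime.dvd_mul hq).mp h with h' | h'
    · exact hqp ((Nat.prime_dvd_prime_iff_eq hq H.hp).mp (hq.dvd_of_dvd_pow h'))
    · exact hqm h'

theorem mem_normalizer_BBs {p q : ℕ} (hq : q.Prime) {u y : G}
    (hy : y ∈ Subgroup.normalizer ((BB p u : Subgroup G) : Set G)) :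
    y ∈ Subgroup.normalizer ((BBs p q hq u : Subgroup G) : Set G) := by
  rw [Subgroup.mem_normalizer_iff] at hy ⊢
  intro x
  constructor
  · rintro ⟨hx1, hx2⟩
    exact ⟨(hy x).mp hx1, isPow_conj hx2 y⟩
  · rintro ⟨hx1, hx2⟩
    refine ⟨(hy x).mpr hx1, ?_⟩
    have := isPow_conj hx2 y⁻¹
    simpa [mul_assoc] using this

/-- B11: no prime other than `p` divides `m` -/
theorem no_prime [Finite G] {p m : ℕ} (H : Hyp G p m) (h2 : TwoRho G p) (s : ℕ) (hs : s.Prime)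
    (hsp : s ≠ p) : ¬ s ∣ m := by
  intro hsm
  have : Fact s.Prime := ⟨hs⟩
  obtain ⟨g, S, hgS, hgz, hSN, hSC⟩ := exists_setup H h2 hsp hsm
  have hgp : PReg p g := preg_of_isPow hs H.hp hsp (isPow_of_mem_sylow S hgS)
  obtain ⟨y0, hy0⟩ := exists_valid_y S hgS hgp hgz hSN
  obtain ⟨y, hv, hmin⟩ : ∃ y, Valid p g (S : Subgroup G) y ∧
      ∀ y', Valid p g (S : Subgroup G) y' → Nat.card (XX p y) ≤ Nat.card (XX p y') := by
    obtain ⟨y, hy, hmin⟩ := Set.exists_min_image {y | Valid p g (S : Subgroup G) y}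
      (fun y => Nat.card (XX p y)) (Set.toFinite _) ⟨y0, hy0⟩
    exact ⟨y, hy, fun y' hy' => hmin y' hy'⟩
  obtain ⟨K, hKn, hZK, hKX, hyK, hKs⟩ := exists_K H h2 hsp S hgS hgp hgz hSN hSC hv
  have hcent := sElts_central H h2 hsp S hgp hgz hSN hmin K hZK hKX hyK
  obtain ⟨hyS, hyB, hyz, hyc⟩ := hv
  have hys : IsPow s y := isPow_of_mem_sylow S hyS
  have hCy : Subgroup.centralizer ({y} : Set G) = Subgroup.centralizer ({g} : Set G) :=
    cent_eq_of_mem_BB H hgp hgz hyB hyz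
  -- the element u
  obtain ⟨u, huS, huC⟩ : ∃ u ∈ (S : Subgroup G), u ∉ Subgroup.centralizer ({g} : Set G) := by
    by_contra hno
    push Not at hno
    exact hSC hno
  have hus : IsPow s u := isPow_of_mem_sylow S huS
  have hup : PReg p u := preg_of_isPow hs H.hp hsp hus
  have huz : u ∉ Subgroup.center G := fun hc => huC (Subgroup.center_le_centralizer _ hc)
  -- y⁻¹ normalizes BB p u
  have hz : y⁻¹ * u⁻¹ * y * u ∈ Subgroup.center G := hyc u huS
  have hzS : y⁻¹ * u⁻¹ * y * u ∈ (S : Subgroup G) :=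
    Subgroup.mul_mem _ (Subgroup.mul_mem _ (Subgroup.mul_mem _ (Subgroup.inv_mem _ hyS)
      (Subgroup.inv_mem _ huS)) hyS) huS
  have hzp : (y⁻¹ * u⁻¹ * y * u) ∈ Zp G p :=
    ⟨hz, preg_of_isPow hs H.hp hsp (isPow_of_mem_sylow S hzS)⟩
  have hw : y⁻¹ * u * y⁻¹⁻¹ ∈ BB p u := by
    have : y⁻¹ * u * y⁻¹⁻¹ = u * (y⁻¹ * u⁻¹ * y * u)⁻¹ := by group
    rw [this]
    exact Subgroup.mul_mem _ (self_mem_BB hup) (Subgroup.inv_mem _ (Zp_le_BB p u hzp))
  have hwz : y⁻¹ * u * y⁻¹⁻¹ ∉ Subgroup.center G :=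
    fun hc => huz ((conj_mem_center_iff y⁻¹).mp hc)
  have hBBw : BB p (y⁻¹ * u * y⁻¹⁻¹) = BB p u := BB_eq_of_mem H hup huz hw hwz
  have hyinvN : y⁻¹ ∈ Subgroup.normalizer ((BB p u : Subgroup G) : Set G) := by
    rw [Subgroup.mem_normalizer_iff_map_conj_eq]
    have h1 := BB_conj p u y⁻¹
    rw [hBBw] at h1
    exact h1.symm
  have hyN : y ∈ Subgroup.normalizer ((BB p u : Subgroup G) : Set G) := by
    have := Subgroup.inv_mem _ hyinvN
    simpa using this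
  -- the prime q
  obtain ⟨q, hqρ, hqs⟩ : ∃ q, InRho G p q ∧ q ≠ s := by
    obtain ⟨q, r, hqr, hq, hr⟩ := h2
    by_cases h : q = s
    · exact ⟨r, hr, fun e => hqr (h.trans e.symm)⟩
    · exact ⟨q, hq, h⟩
  have hq : q.Prime := hqρ.1
  have hqp : q ≠ p := hqρ.2.1
  have : Fact q.Prime := ⟨hq⟩
  obtain ⟨v, hvC, hvz, hvq⟩ := exists_rho_cent H hup huz hqρ
  have hvp : PReg p v := preg_of_isPow hq H.hp hqp hvq
  have hvB : v ∈ BB p u := (mem_BB_iff H h2 hup huz v).mpr ⟨hvC, hvp⟩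
  have hCv : Subgroup.centralizer ({v} : Set G) = Subgroup.centralizer ({u} : Set G) :=
    cent_eq_of_mem_BB H hup huz hvB hvz
  have hne : y⁻¹ * v * y ≠ v := by
    intro he
    have h1 : y ∈ Subgroup.centralizer ({v} : Set G) := by
      rw [Subgroup.mem_centralizer_singleton_iff]
      calc y * v = y * (y⁻¹ * v * y) := by rw [he]
        _ = v * y := by group
    rw [hCv, Subgroup.mem_centralizer_singleton_iff] at h1
    apply huC
    rw [← hCy, Subgroup.mem_centralizer_singleton_iff]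
    exact h1.symm
  have hv1z := comm_not_central hq hs hqs hvq hys hne
  have hconjB : y⁻¹ * v * y ∈ BB p u := by
    have := conj_mem_BB_of_mem_normalizer hyinvN hvB
    simpa using this
  have hv1B : v⁻¹ * (y⁻¹ * v * y) ∈ BB p u :=
    Subgroup.mul_mem _ (Subgroup.inv_mem _ hvB) hconjB
  have hv1q : IsPow q (v⁻¹ * (y⁻¹ * v * y)) := by
    apply isPow_mul_of_commute hq
    · obtain ⟨k, hk⟩ := hvq
      exact ⟨k, by rw [orderOf_inv, hk]⟩
    · have := isPow_conj hvq y⁻¹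
      simpa using this
    · exact BB_comm (Subgroup.inv_mem _ hvB) hconjB
  have hv1X : v⁻¹ * (y⁻¹ * v * y) ∈ XX p y := by
    apply (le_sup_left : Subgroup.normalClosure ({y} : Set G) ≤ XX p y)
    have hyn : y ∈ Subgroup.normalClosure ({y} : Set G) :=
      Subgroup.subset_normalClosure (Set.mem_singleton y)
    have h1 : v⁻¹ * y⁻¹ * v⁻¹⁻¹ ∈ Subgroup.normalClosure ({y} : Set G) :=
      Subgroup.normalClosure_normal.conj_mem _ (Subgroup.inv_mem _ hyn) _
    have : v⁻¹ * (y⁻¹ * v * y) = (v⁻¹ * y⁻¹ * v⁻¹⁻¹) * y := by group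
    rw [this]
    exact Subgroup.mul_mem _ h1 hyn
  have hv1K : v⁻¹ * (y⁻¹ * v * y) ∈ K := by
    apply hKs _ hv1X
    obtain ⟨k, hk⟩ := hv1q
    rw [hk]
    exact Nat.Coprime.pow_left k ((Nat.coprime_primes hq hs).mpr hqs)
  -- q does not divide m
  have hqm : ¬ q ∣ m := fun hd => hqs (prime_dvd_m_eq H h2 hgp hgz hsp S hSN hSC hq hqp hd)
  have hi0 := not_dvd_index_BBs H h2 hgp hgz hq hqp hqm
  have hi1 := not_dvd_index_BBs H h2 hup huz hq hqp hqm
  have hc0 := card_inf_of_not_dvd_index hq K (BBs p q hq g) (isPGroup_BBs p q hq g) hi0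
  have hc1 := card_inf_of_not_dvd_index hq K (BBs p q hq u) (isPGroup_BBs p q hq u) hi1
  -- the group A
  set A : Subgroup G := Subgroup.zpowers y ⊔ (Zp G p ⊓ (S : Subgroup G)) with hA
  have hAS : A ≤ (S : Subgroup G) :=
    sup_le ((Subgroup.zpowers_le).mpr hyS) inf_le_right
  have hAB : A ≤ BB p g :=
    sup_le ((Subgroup.zpowers_le).mpr hyB) (inf_le_left.trans (Zp_le_BB p g))
  have hApg : IsPGroup s A := S.isPGroup'.to_le hAS
  have hKA : ∀ x ∈ K, (∃ j : ℕ, orderOf x = s ^ j) → x ∈ A := by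
    intro x hxK hxs
    have hxc := hcent x hxK hxs
    have hxp : PReg p x := preg_of_isPow hs H.hp hsp hxs
    have hxZ : x ∈ Zp G p := ⟨hxc, hxp⟩
    have hxS : x ∈ (S : Subgroup G) := sElt_BB_mem_S S hSN (Zp_le_BB p g hxZ) hxs
    exact (le_sup_right : Zp G p ⊓ (S : Subgroup G) ≤ A) ⟨hxZ, hxS⟩
  have hcenN : ∀ (V : Subgroup G), Zp G p ⊓ (S : Subgroup G) ≤
      Subgroup.normalizer ((V : Subgroup G) : Set G) := by
    intro V x hx
    rw [Subgroup.mem_normalizer_iff]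
    intro h
    have : x * h * x⁻¹ = h := by
      rw [← Subgroup.mem_center_iff.mp hx.1.1 h]; group
    rw [this]
  have hn0 : ∀ a ∈ A, ∀ w ∈ K ⊓ BBs p q hq g, a * w * a⁻¹ ∈ K ⊓ BBs p q hq g := by
    intro a ha w hw
    have : a * w * a⁻¹ = w := by
      rw [BB_comm (hAB ha) hw.2.1]; group
    rw [this]; exact hw
  have hyN1 : y ∈ Subgroup.normalizer (((K ⊓ BBs p q hq u : Subgroup G)) : Set G) := by
    have h1 := mem_normalizer_BBs hq hyN (q := q)
    rw [Subgroup.mem_normalizer_iff] at h1 ⊢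
    intro x
    constructor
    · rintro ⟨hx1, hx2⟩
      exact ⟨hKn.conj_mem x hx1 y, (h1 x).mp hx2⟩
    · rintro ⟨hx1, hx2⟩
      refine ⟨?_, (h1 x).mpr hx2⟩
      have := hKn.conj_mem _ hx1 y⁻¹
      simpa [mul_assoc] using this
  have hn1 : ∀ a ∈ A, ∀ w ∈ K ⊓ BBs p q hq u, a * w * a⁻¹ ∈ K ⊓ BBs p q hq u := by
    intro a ha w hw
    have hAN : A ≤ Subgroup.normalizer (((K ⊓ BBs p q hq u : Subgroup G)) : Set G) :=
      sup_le ((Subgroup.zpowers_le).mpr hyN1) (hcenN _)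
    exact ((Subgroup.mem_normalizer_iff.mp (hAN ha)) w).mp hw
  obtain ⟨k, hkK, hkA, hkV⟩ := sylConj hs hq (Ne.symm hqs) K A hApg hKA (K ⊓ BBs p q hq g)
    (K ⊓ BBs p q hq u) inf_le_left inf_le_left hc0 hc1 hn0 hn1
  -- k normalizes BB p g
  have hyA : y ∈ A := (le_sup_left : Subgroup.zpowers y ≤ A) (Subgroup.mem_zpowers y)
  have hkyB : k * y * k⁻¹ ∈ BB p g := hAB (hkA y hyA)
  have hkyz : k * y * k⁻¹ ∉ Subgroup.center G := fun hc => hyz ((conj_mem_center_iff k).mp hc)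
  have hBk : (BB p g).map (MulAut.conj k).toMonoidHom = BB p g := by
    have h1 : BB p (k * y * k⁻¹) = BB p g := BB_eq_of_mem H hgp hgz hkyB hkyz
    have h2' : BB p y = BB p g := BB_eq_of_mem H hgp hgz hyB hyz
    rw [BB_conj, h2'] at h1
    exact h1
  -- V₁ = k V₀ k⁻¹
  have hmap : (K ⊓ BBs p q hq g).map (MulAut.conj k).toMonoidHom = K ⊓ BBs p q hq u := by
    apply Subgroup.eq_of_le_of_card_ge
    · rintro _ ⟨w, hw, rfl⟩
      exact hkV w hw
    · rw [Subgroup.card_map_of_injective (MulAut.conj k).injective, hc0, hc1]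
  have hv1V : v⁻¹ * (y⁻¹ * v * y) ∈ K ⊓ BBs p q hq u := ⟨hv1K, hv1B, hv1q⟩
  rw [← hmap] at hv1V
  obtain ⟨w, hw, hwe⟩ := hv1V
  have hv1Bg : v⁻¹ * (y⁻¹ * v * y) ∈ BB p g := by
    rw [← hwe, ← hBk]
    exact ⟨w, hw.2.1, rfl⟩
  have e1 : BB p (v⁻¹ * (y⁻¹ * v * y)) = BB p g := BB_eq_of_mem H hgp hgz hv1Bg hv1z
  have e2 : BB p (v⁻¹ * (y⁻¹ * v * y)) = BB p u := BB_eq_of_mem H hup huz hv1B hv1z
  have huBg : u ∈ BB p g := by
    rw [← e1, e2]; exact self_mem_BB hup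
  apply huC
  have := huBg.1
  rw [Subgroup.mem_centralizer_singleton_iff] at this ⊢
  exact this

end Cfsg.Agent.Lib.Helper8.PR
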