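import Mathlib
import Cfsg.Agent.Lib.Helper8.PReg1

set_option autoImplicit false

/-!
# Separating `p`-regular classes modulo `p`: the main lemma
-/

namespace Cfsg.Agent.Lib.Helper8.PReg

open scoped ComplexConjugate
open Cfsg.Agent.Lib.Helper6

variable {G : Type*} [Group G] [Finite G]

omit [Finite G] in
theorem orderOf_eq_of_isConj {a b : G} (h : IsConj a b) : orderOf a = orderOf b := by
  obtain ⟨c, hc⟩ := isConj_iff.mp h
  rw [← hc]
  exact (orderOf_injective (MulAut.conj c).toMonoidHom (MulAut.conj c).injective a).symm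

omit [Finite G] in
theorem isConj_pow {a b : G} (h : IsConj a b) (k : ℕ) : IsConj (a ^ k) (b ^ k) := by
  obtain ⟨c, hc⟩ := isConj_iff.mp h
  rw [isConj_iff]
  exact ⟨c, by rw [← hc, conj_pow]⟩

omit [Finite G] in
/-- A `p`-regular element is not conjugate to `u z` with `u` `p`-regular and `z ≠ 1` a
commuting `p`-element. -/
theorem not_isConj_mul (p : ℕ) [hp : Fact p.Prime] {u z w : G} (hu : ¬ p ∣ orderOf u)
    (hw : ¬ p ∣ orderOf w) (hz : ∃ k : ℕ, orderOf z = p ^ k) (hz1 : z ≠ 1)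
    (hc : Commute u z) : ¬ IsConj w (u * z) := by
  intro h
  obtain ⟨k, hk⟩ := hz
  have hk0 : k ≠ 0 := by
    rintro rfl
    rw [pow_zero, orderOf_eq_one_iff] at hk
    exact hz1 hk
  have hcop : (orderOf u).Coprime (orderOf z) := by
    rw [hk]
    exact Nat.Coprime.pow_right _ ((Nat.Prime.coprime_iff_not_dvd hp.out).mpr hu).symm
  have h1 := hc.orderOf_mul_eq_mul_orderOf_of_coprime hcop
  have h2 := orderOf_eq_of_isConj h
  apply hw
  rw [h2, h1, hk]
  exact Dvd.dvd.mul_left (dvd_pow_self p hk0) _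

/-- If `u, v` are `p`-regular and all irreducible characters take values on them that are
congruent modulo `p`, then `u` and `v` are conjugate. -/
theorem isConj_of_congr (p : ℕ) [hp : Fact p.Prime] (u v : G)
    (hu : ¬ p ∣ orderOf u) (hv : ¬ p ∣ orderOf v)
    (h : ∀ χ : Cfsg.IrrCharacter G, ∃ γ : Cfsg.AlgInt,
      (χ : G → ℂ) u - (χ : G → ℂ) v = (p : ℂ) * (γ : ℂ)) :
    IsConj u v := by
  classical
  by_contra hne
  haveI : Fintype G := Fintype.ofFinite G
  haveI : Fintype (Cfsg.IrrCharacter G) := Fintype.ofFinite _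
  obtain ⟨S⟩ : Nonempty (Sylow p (Subgroup.centralizer ({u} : Set G))) := inferInstance
  set C := Subgroup.centralizer ({u} : Set G) with hC
  set P : Subgroup G := (S : Subgroup C).map C.subtype with hP
  have hPC : P ≤ C := by
    rintro _ ⟨s, _, rfl⟩
    exact s.2
  have hPp : ∀ z : P, ∃ k : ℕ, orderOf (z : G) = p ^ k := by
    intro z
    have hpg : IsPGroup p P := S.isPGroup'.map C.subtype
    obtain ⟨k, hk⟩ := (IsPGroup.iff_orderOf.mp hpg) z
    exact ⟨k, by rw [← hk, Subgroup.orderOf_coe]⟩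
  have hcardP : Nat.card P = Nat.card (S : Subgroup C) :=
    Subgroup.card_map_of_injective C.subtype_injective
  have hidx : Nat.card C = Nat.card P * (S : Subgroup C).index := by
    rw [hcardP, Subgroup.card_mul_index]
  have hnd : ¬ p ∣ (S : Subgroup C).index := S.not_dvd_index
  choose γ hγ using h
  -- the coefficients
  set b : Cfsg.IrrCharacter G → ℂ := fun χ =>
    (Nat.card P : ℂ)⁻¹ * ∑ z : P, (χ : G → ℂ) (u * z) with hb
  have hbint : ∀ χ, IsIntegral ℤ (b χ) := by
    intro χ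
    obtain ⟨d, ρ, _, hρ⟩ := χ.2
    have := isIntegral_avg ρ u P hPC
    rw [hρ] at this
    exact this
  have hcP : (Nat.card P : ℂ) ≠ 0 := by
    have : Nat.card P ≠ 0 := Nat.card_pos.ne'
    exact_mod_cast this
  -- the key sum
  have hsum : ∑ χ : Cfsg.IrrCharacter G, ((χ : G → ℂ) u - (χ : G → ℂ) v) * conj (b χ)
      = ((S : Subgroup C).index : ℂ) := by
    have h1 : ∀ χ : Cfsg.IrrCharacter G, ((χ : G → ℂ) u - (χ : G → ℂ) v) * conj (b χ)
        = (Nat.card P : ℂ)⁻¹ * ∑ z : P, ((χ : G → ℂ) u * conj ((χ : G → ℂ) (u * z))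
            - (χ : G → ℂ) v * conj ((χ : G → ℂ) (u * z))) := by
      intro χ
      rw [hb]
      simp only [map_mul, map_sum, map_inv₀, Complex.conj_natCast]
      rw [mul_left_comm, Finset.mul_sum]
      congr 1
      apply Finset.sum_congr rfl
      intro z _
      ring
    rw [Finset.sum_congr rfl (fun χ _ => h1 χ), ← Finset.mul_sum, Finset.sum_comm]
    have h2 : ∀ z : P, ∑ χ : Cfsg.IrrCharacter G,
        ((χ : G → ℂ) u * conj ((χ : G → ℂ) (u * z))
            - (χ : G → ℂ) v * conj ((χ : G → ℂ) (u * z)))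
        = if z = 1 then (Nat.card C : ℂ) else 0 := by
      intro z
      rw [Finset.sum_sub_distrib]
      split_ifs with hz
      · subst hz
        rw [Subgroup.coe_one, mul_one, (sum_irr_mul_conj u u).1 (IsConj.refl u),
          (sum_irr_mul_conj v u).2 (fun h => hne h.symm), sub_zero]
      · have hz1 : (z : G) ≠ 1 := fun h => hz (Subtype.ext h)
        have hcz : Commute u (z : G) :=
          (Subgroup.mem_centralizer_singleton_iff.mp (hPC z.2)).symm
        rw [(sum_irr_mul_conj u (u * z)).2 (not_isConj_mul p hu hu (hPp z) hz1 hcz),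
          (sum_irr_mul_conj v (u * z)).2 (not_isConj_mul p hu hv (hPp z) hz1 hcz), sub_zero]
    rw [Finset.sum_congr rfl (fun z _ => h2 z), Finset.sum_ite_eq' Finset.univ (1 : P)]
    simp only [Finset.mem_univ, if_true]
    rw [hidx]
    push_cast
    field_simp
  -- the other evaluation
  have hsum2 : ∑ χ : Cfsg.IrrCharacter G, ((χ : G → ℂ) u - (χ : G → ℂ) v) * conj (b χ)
      = (p : ℂ) * ∑ χ : Cfsg.IrrCharacter G, (γ χ : ℂ) * conj (b χ) := by
    rw [Finset.mul_sum]
    apply Finset.sum_congr rfl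
    intro χ _
    rw [hγ χ]
    ring
  have hΓ : IsIntegral ℤ (∑ χ : Cfsg.IrrCharacter G, (γ χ : ℂ) * conj (b χ)) := by
    refine IsIntegral.sum _ (fun χ _ => ?_)
    exact IsIntegral.mul (γ χ).2 (map_isIntegral_int (starRingEnd ℂ) (hbint χ))
  rw [hsum] at hsum2
  have hpne : (p : ℂ) ≠ 0 := by exact_mod_cast hp.out.ne_zero
  have hq : (∑ χ : Cfsg.IrrCharacter G, (γ χ : ℂ) * conj (b χ))
      = (((((S : Subgroup C).index : ℚ) / (p : ℚ)) : ℚ) : ℂ) := by
    push_cast
    rw [hsum2]
    field_simp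
  rw [hq] at hΓ
  obtain ⟨m, hm⟩ := int_of_isIntegral_ratCast hΓ
  have hpq : (p : ℚ) ≠ 0 := by exact_mod_cast hp.out.ne_zero
  have h3 : ((S : Subgroup C).index : ℤ) = (p : ℤ) * m := by
    have : (((S : Subgroup C).index : ℤ) : ℚ) = (((p : ℤ) * m : ℤ) : ℚ) := by
      push_cast
      rw [hm]
      field_simp
    exact_mod_cast this
  apply hnd
  have h4 : (p : ℤ) ∣ ((S : Subgroup C).index : ℤ) := ⟨m, h3⟩
  exact_mod_cast h4

end Cfsg.Agent.Lib.Helper8.PReg
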