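import Mathlib
import Cfsg.Agent.Lib.Helper8.PReg1

set_option autoImplicit false

/-!
# Nonvanishing of characters of `p'`-degree on `p`-elements
-/

namespace Cfsg.Agent.Lib.Helper8.PReg

open scoped ComplexConjugate
open Cfsg.Agent.Lib.Helper6

/-- If a natural number is `p` times an algebraic integer, then `p` divides it. -/
theorem nat_dvd_of_eq_mul_isIntegral {p d : ℕ} (hp : p ≠ 0) {γ : ℂ} (hγ : IsIntegral ℤ γ)
    (h : (d : ℂ) = (p : ℂ) * γ) : p ∣ d := by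
  have hpne : (p : ℂ) ≠ 0 := by exact_mod_cast hp
  have hq : γ = ((((d : ℚ) / (p : ℚ)) : ℚ) : ℂ) := by
    push_cast
    rw [h]
    field_simp
  rw [hq] at hγ
  obtain ⟨m, hm⟩ := int_of_isIntegral_ratCast hγ
  have hpq : (p : ℚ) ≠ 0 := by exact_mod_cast hp
  have h3 : (d : ℤ) = (p : ℤ) * m := by
    have : ((d : ℤ) : ℚ) = (((p : ℤ) * m : ℤ) : ℚ) := by
      push_cast
      rw [hm]
      field_simp
    exact_mod_cast this
  have h4 : (p : ℤ) ∣ (d : ℤ) := ⟨m, h3⟩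
  exact_mod_cast h4

variable {G : Type*} [Group G] [Finite G]

/-- A character of degree prime to `p` does not vanish at a `p`-element. -/
theorem apply_ne_zero_of_not_dvd (p : ℕ) [hp : Fact p.Prime] {χ : G → ℂ}
    (hχ : Cfsg.IsCharacter G χ) {d : ℕ} (hd : χ 1 = d) (hpd : ¬ p ∣ d) {x : G} {k : ℕ}
    (hx : x ^ (p ^ k) = 1) : χ x ≠ 0 := by
  intro h0
  obtain ⟨γ, hγ⟩ := frob_congr p hχ x k
  rw [h0, hx, hd, zero_pow (pow_ne_zero _ hp.out.ne_zero), zero_sub] at hγ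
  apply hpd
  refine nat_dvd_of_eq_mul_isIntegral hp.out.ne_zero (γ := -(γ : ℂ)) ?_ ?_
  · exact (γ.2).neg
  · rw [mul_neg, ← hγ, neg_neg]

end Cfsg.Agent.Lib.Helper8.PReg
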