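import Mathlib
import Cfsg.Agent.Lib.Helper8.CSGDefs

/-!
# S4321 (prime graph on class sizes of `p`-singular elements): shared definitions
-/

set_option autoImplicit false

namespace Cfsg.Agent.Lib.Helper8.PSG

open Cfsg.Agent.Lib.Helper8.CSG

variable {G : Type*} [Group G]

/-- `a` is a `p`-element -/
def IsPElt (p : ℕ) (a : G) : Prop := ∃ k : ℕ, a ^ p ^ k = 1

/-- the context of the structural part: a noncentral `p`-element `a` of `p'`-class size such that
no class size of a `p`-singular element is divisible by `t * p` for a prime `t ∣ idx a` -/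
structure Ctx (p : ℕ) (a : G) : Prop where
  pelt : IsPElt p a
  not_dvd : ¬ p ∣ idx a
  noncentral : a ∉ Subgroup.center G
  H1 : ∀ t : ℕ, t.Prime → t ∣ idx a → ¬ ∃ y : G, p ∣ orderOf y ∧ t * p ∣ idx y

/-- `P` is normalized by `C(a)`, every element of `C(a)` is a product of an element of `P` and an
element centralizing `P` -/
def Dec (a : G) (P : Subgroup G) : Prop :=
  ∀ c ∈ Subgroup.centralizer ({a} : Set G), ∃ u ∈ P, ∃ w : G, (∀ v ∈ P, w * v = v * w) ∧ c = u * w

/-- the `G`-class of every `y ∈ P` with `p ∣ idx y` is its `P`-class -/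
def ClassInP (p : ℕ) (P : Subgroup G) : Prop :=
  ∀ y ∈ P, p ∣ idx y → ∀ g : G, ∃ u ∈ P, g * y * g⁻¹ = u * y * u⁻¹

end Cfsg.Agent.Lib.Helper8.PSG
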