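import Mathlib
import Cfsg.Agent.S4218
import Cfsg.Agent.Lib.Helper1.Coprime
import Cfsg.Agent.Lib.Helper8.CompNorm1
import Cfsg.Agent.Lib.Helper8.CompBal1
import Cfsg.Agent.Lib.Helper8.PComp3

set_option autoImplicit false
set_option linter.style.haveILetI false

/-! In a `p`-solvable group, a `p'`-subgroup `Q` normalizing a Sylow `p`-subgroup has
`N(Q)/C(Q)` a `p'`-group. -/

namespace Cfsg.Agent.Lib.Helper8.PSolvQ

open Cfsg Cfsg.Agent.Lib.Helper8.CompNorm
open scoped commutatorElement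

universe u

variable {G : Type u} [Group G]

theorem le_normalizer_centralizer (S : Subgroup G) :
    Subgroup.normalizer (S : Set G) ≤ Subgroup.normalizer (Subgroup.centralizer (S : Set G) : Set G) := by
  have key : ∀ h ∈ Subgroup.normalizer (S : Set G), ∀ c ∈ Subgroup.centralizer (S : Set G),
      h * c * h⁻¹ ∈ Subgroup.centralizer (S : Set G) := by
    intro h hh c hc
    refine Subgroup.mem_centralizer_iff.2 ?_
    intro q hq
    have hq' : h⁻¹ * q * h⁻¹⁻¹ ∈ S :=
      (Subgroup.mem_normalizer_iff.1 (Subgroup.inv_mem _ hh) q).1 hq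
    have h1 : (h⁻¹ * q * h⁻¹⁻¹) * c = c * (h⁻¹ * q * h⁻¹⁻¹) := Subgroup.mem_centralizer_iff.1 hc _ hq'
    calc q * (h * c * h⁻¹) = h * ((h⁻¹ * q * h⁻¹⁻¹) * c) * h⁻¹ := by group
      _ = h * (c * (h⁻¹ * q * h⁻¹⁻¹)) * h⁻¹ := by rw [h1]
      _ = h * c * h⁻¹ * q := by group
  intro h hh
  rw [Subgroup.mem_normalizer_iff]
  intro c
  constructor
  · exact key h hh c
  · intro hc
    have := key h⁻¹ (Subgroup.inv_mem _ hh) _ hc
    have e : h⁻¹ * (h * c * h⁻¹) * h⁻¹⁻¹ = c := by group
    rwa [e] at this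

theorem mem_centralizer_of_quotient [Finite G] {p : ℕ} [hp : Fact p.Prime] (M : Subgroup G)
    [hM : M.Normal] (hMc : IsPGroup p ↥M ∨ (Nat.card ↥M).Coprime p) (P : Sylow p G)
    {Q : Subgroup G} (hQ : (Nat.card ↥Q).Coprime p)
    (hQP : Q ≤ Subgroup.normalizer ((P : Subgroup G) : Set G)) {x : G}
    (hx : x ∈ Subgroup.normalizer (Q : Set G)) {k : ℕ} (hxk : x ^ (p ^ k) = 1)
    (hbar : ∀ q ∈ Q, x * q * x⁻¹ * q⁻¹ ∈ M) : x ∈ Subgroup.centralizer (Q : Set G) := by
  have hcQ : ∀ q ∈ Q, x * q * x⁻¹ * q⁻¹ ∈ Q := by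
    intro q hq
    exact Q.mul_mem ((Subgroup.mem_normalizer_iff.1 hx q).1 hq) (Q.inv_mem hq)
  rcases hMc with hMp | hMc
  · refine Subgroup.mem_centralizer_iff.2 ?_
    intro q hq
    have h1 : IsPElem p (x * q * x⁻¹ * q⁻¹) := by
      obtain ⟨i, hi⟩ := hMp ⟨_, hbar q hq⟩
      refine ⟨i, ?_⟩
      have := congrArg Subtype.val hi
      rwa [Subgroup.coe_pow, Subgroup.coe_one] at this
    have h2 := h1.eq_one hQ (hcQ q hq)
    calc q * x = (x * q * x⁻¹ * q⁻¹)⁻¹ * (x * q) := by group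
      _ = x * q := by rw [h2, inv_one, one_mul]
  · set Q₀ := Q ⊓ M with hQ₀
    -- `P` centralizes `Q₀`
    have hPC : (P : Subgroup G) ≤ Subgroup.centralizer (Q₀ : Set G) := by
      intro y hy
      refine Subgroup.mem_centralizer_iff.2 ?_
      intro q hq
      have h1 : q * y * q⁻¹ * y⁻¹ ∈ (P : Subgroup G) :=
        Subgroup.mul_mem _ ((Subgroup.mem_normalizer_iff.1 (hQP hq.1) y).1 hy) (Subgroup.inv_mem _ hy)
      have h2 : q * y * q⁻¹ * y⁻¹ ∈ M := by
        have : q * y * q⁻¹ * y⁻¹ = q * (y * q⁻¹ * y⁻¹) := by group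
        rw [this]
        exact M.mul_mem hq.2 (hM.conj_mem _ (M.inv_mem hq.2) y)
      have h3 : IsPElem p (q * y * q⁻¹ * y⁻¹) := by
        obtain ⟨i, hi⟩ := P.2 ⟨_, h1⟩
        refine ⟨i, ?_⟩
        have := congrArg Subtype.val hi
        rwa [Subgroup.coe_pow, Subgroup.coe_one] at this
      have h4 := h3.eq_one hMc h2
      calc q * y = (q * y * q⁻¹ * y⁻¹) * (y * q) := by group
        _ = y * q := by rw [h4, one_mul]
    -- `x` normalizes `Q₀`
    have hxM : x ∈ Subgroup.normalizer (M : Set G) := by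
      rw [Subgroup.normalizer_eq_top_iff.2 hM]; exact Subgroup.mem_top x
    have hxQ₀ : x ∈ Subgroup.normalizer (Q₀ : Set G) :=
      Cfsg.Agent.Lib.Helper8.CompBal.mem_normalizer_inf hx hxM
    -- `x` centralizes `Q₀`
    have hxC : x ∈ Subgroup.centralizer (Q₀ : Set G) := by
      set H := Subgroup.normalizer (Q₀ : Set G) with hH
      set C := Subgroup.centralizer (Q₀ : Set G) with hC
      have hCH : C ≤ H := Subgroup.centralizer_le_normalizer _
      haveI hCn : (C.subgroupOf H).Normal :=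
        (Subgroup.normal_subgroupOf_iff_le_normalizer hCH).2 (le_normalizer_centralizer Q₀)
      have hidx : ((C.subgroupOf H).index).Coprime p := by
        have h1 : C.relIndex H ∣ (P : Subgroup G).relIndex H := Subgroup.relIndex_dvd_of_le_left H hPC
        have h2 : (P : Subgroup G).relIndex H ∣ (P : Subgroup G).index :=
          Subgroup.relIndex_dvd_index_of_le (hPC.trans hCH)
        have h3 : ¬ p ∣ (P : Subgroup G).index := P.not_dvd_index
        rw [Nat.coprime_comm, Nat.Prime.coprime_iff_not_dvd hp.out]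
        intro h4
        exact h3 ((h4.trans h1).trans h2)
      have hmem : (⟨x, hxQ₀⟩ : ↥H) ∈ C.subgroupOf H := by
        apply Cfsg.Agent.Lib.Helper8.PComp.mem_of_normal_of_index_coprime (C.subgroupOf H) hidx (k := k)
        apply Subtype.ext
        rw [Subgroup.coe_pow, Subgroup.coe_one]
        exact hxk
      exact hmem
    -- commutators
    set A := Subgroup.zpowers x with hA
    have hAN : A ≤ Subgroup.normalizer (Q : Set G) := Subgroup.zpowers_le.2 hx
    have hcomm : ∀ q ∈ Q, Commute (QuotientGroup.mk' M x) (QuotientGroup.mk' M q) := by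
      intro q hq
      have h1 : QuotientGroup.mk' M (x * q * x⁻¹ * q⁻¹) = 1 := by
        rw [QuotientGroup.mk'_apply, QuotientGroup.eq_one_iff]
        exact hbar q hq
      rw [map_mul, map_mul, map_mul, map_inv, map_inv] at h1
      show QuotientGroup.mk' M x * QuotientGroup.mk' M q = QuotientGroup.mk' M q * QuotientGroup.mk' M x
      calc QuotientGroup.mk' M x * QuotientGroup.mk' M q
          = (QuotientGroup.mk' M x * QuotientGroup.mk' M q * (QuotientGroup.mk' M x)⁻¹ *
              (QuotientGroup.mk' M q)⁻¹) * (QuotientGroup.mk' M q * QuotientGroup.mk' M x) := by group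
        _ = _ := by rw [h1, one_mul]
    have h1 : ⁅Q, A⁆ ≤ Q₀ := by
      rw [Subgroup.commutator_le]
      intro q hq a ha
      obtain ⟨j, rfl⟩ := Subgroup.mem_zpowers_iff.1 ha
      refine ⟨?_, ?_⟩
      · rw [commutatorElement_def]
        have hxj : x ^ j ∈ Subgroup.normalizer (Q : Set G) := Subgroup.zpow_mem _ hx j
        have : q * x ^ j * q⁻¹ * (x ^ j)⁻¹ = q * (x ^ j * q⁻¹ * (x ^ j)⁻¹) := by group
        rw [this]
        exact Q.mul_mem hq ((Subgroup.mem_normalizer_iff.1 hxj q⁻¹).1 (Q.inv_mem hq))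
      · show ⁅q, x ^ j⁆ ∈ M
        rw [← QuotientGroup.eq_one_iff, ← QuotientGroup.mk'_apply, commutatorElement_def]
        rw [map_mul, map_mul, map_mul, map_inv, map_inv, map_zpow]
        have hc := ((hcomm q hq).zpow_left j).symm
        calc QuotientGroup.mk' M q * QuotientGroup.mk' M x ^ j * (QuotientGroup.mk' M q)⁻¹ *
              (QuotientGroup.mk' M x ^ j)⁻¹
            = (QuotientGroup.mk' M q * QuotientGroup.mk' M x ^ j) * (QuotientGroup.mk' M q)⁻¹ *
              (QuotientGroup.mk' M x ^ j)⁻¹ := by group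
          _ = (QuotientGroup.mk' M x ^ j * QuotientGroup.mk' M q) * (QuotientGroup.mk' M q)⁻¹ *
              (QuotientGroup.mk' M x ^ j)⁻¹ := by rw [hc.eq]
          _ = 1 := by group
    have h2 : ⁅Q₀, A⁆ = ⊥ := by
      rw [Subgroup.commutator_eq_bot_iff_le_centralizer]
      intro d hd
      refine Subgroup.mem_centralizer_iff.2 ?_
      intro z hz
      obtain ⟨j, rfl⟩ := Subgroup.mem_zpowers_iff.1 hz
      have hc1 : Commute x d := (Subgroup.mem_centralizer_iff.1 hxC d hd).symm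
      exact (hc1.zpow_left j).eq
    have h3 : ⁅⁅Q, A⁆, A⁆ = ⊥ := by
      rw [eq_bot_iff, ← h2]
      exact Subgroup.commutator_mono h1 le_rfl
    have hcop : (Nat.card ↥A).Coprime (Nat.card ↥Q) := by
      rw [hA, Nat.card_zpowers]
      have h4 : orderOf x ∣ p ^ k := orderOf_dvd_of_pow_eq_one hxk
      exact Nat.Coprime.coprime_dvd_left h4 (Nat.Coprime.pow_left k hQ.symm)
    have hsolv : Group.IsSolvable ↥A := by
      apply isSolvable_of_comm
      rintro ⟨a, ha⟩ ⟨b, hb⟩
      apply Subtype.ext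
      obtain ⟨i, rfl⟩ := Subgroup.mem_zpowers_iff.1 ha
      obtain ⟨j, rfl⟩ := Subgroup.mem_zpowers_iff.1 hb
      show x ^ i * x ^ j = x ^ j * x ^ i
      rw [← zpow_add, ← zpow_add, add_comm]
    have h5 := Cfsg.Agent.Lib.Helper1.coprime_commutator_commutator A Q hAN hcop (Or.inl hsolv)
    rw [h3, eq_comm, Subgroup.commutator_eq_bot_iff_le_centralizer] at h5
    refine Subgroup.mem_centralizer_iff.2 ?_
    intro q hq
    exact (Subgroup.mem_centralizer_iff.1 (h5 hq) x (Subgroup.mem_zpowers x)).symm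

end Cfsg.Agent.Lib.Helper8.PSolvQ
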