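import Mathlib
import Cfsg.Agent.Lib.Helper8.PSolvQ
import Cfsg.Agent.Lib.Helper7.PCore

set_option autoImplicit false
set_option linter.style.haveILetI false

namespace Cfsg.Agent.Lib.Helper8.PSolvQ

open Cfsg Cfsg.Agent.Lib.Helper8.CompNorm
open scoped commutatorElement

universe u

theorem card_quotient_lt {G : Type u} [Group G] [Finite G] (M : Subgroup G) [M.Normal] (hM : M ≠ ⊥) :
    Nat.card (G ⧸ M) < Nat.card G := by
  have h1 := Subgroup.card_eq_card_quotient_mul_card_subgroup M
  have h2 : 1 < Nat.card ↥M := (Subgroup.one_lt_card_iff_ne_bot M).2 hM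
  have h3 : 0 < Nat.card (G ⧸ M) := Nat.card_pos
  rw [h1]
  nlinarith

/-- the quotient step. -/
theorem step {G : Type u} [Group G] [Finite G] {p : ℕ} [hp : Fact p.Prime]
    (ih : ∀ (G' : Type u) [Group G'] [Finite G'], Nat.card G' < Nat.card G → IsPSolvable p G' →
      ∀ (P : Sylow p G') (Q : Subgroup G'), (Nat.card ↥Q).Coprime p →
        Q ≤ Subgroup.normalizer ((P : Subgroup G') : Set G') →
        ∀ x ∈ Subgroup.normalizer (Q : Set G'), ∀ k : ℕ, x ^ (p ^ k) = 1 →
          x ∈ Subgroup.centralizer (Q : Set G'))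
    (hG : IsPSolvable p G) (M : Subgroup G) [hM : M.Normal] (hM1 : M ≠ ⊥)
    (hMc : IsPGroup p ↥M ∨ (Nat.card ↥M).Coprime p) (P : Sylow p G)
    {Q : Subgroup G} (hQ : (Nat.card ↥Q).Coprime p)
    (hQP : Q ≤ Subgroup.normalizer ((P : Subgroup G) : Set G)) {x : G}
    (hx : x ∈ Subgroup.normalizer (Q : Set G)) {k : ℕ} (hxk : x ^ (p ^ k) = 1) :
    x ∈ Subgroup.centralizer (Q : Set G) := by
  set π := QuotientGroup.mk' M with hπ
  have hsurj : Function.Surjective π := QuotientGroup.mk'_surjective M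
  have h1 := ih (G ⧸ M) (card_quotient_lt M hM1) (Cfsg.Agent.S4218.isPSolvable_quotient p M hG)
    (P.mapSurjective hsurj) (Q.map π)
    (Nat.Coprime.coprime_dvd_left (Subgroup.card_map_dvd _ _) hQ)
    (by
      rw [Sylow.coe_mapSurjective]
      exact Cfsg.Agent.Lib.Helper8.PComp.le_normalizer_map π hQP)
    (π x) (Subgroup.le_normalizer_map π ⟨x, hx, rfl⟩) k (by rw [← map_pow, hxk, map_one])
  apply mem_centralizer_of_quotient M hMc P hQ hQP hx hxk
  intro q hq
  rw [← QuotientGroup.eq_one_iff, ← QuotientGroup.mk'_apply, ← hπ]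
  have h2 : π q * π x = π x * π q := Subgroup.mem_centralizer_iff.1 h1 (π q) ⟨q, hq, rfl⟩
  rw [map_mul, map_mul, map_mul, map_inv, map_inv]
  calc π x * π q * (π x)⁻¹ * (π q)⁻¹ = (π x * π q) * (π x)⁻¹ * (π q)⁻¹ := by group
    _ = (π q * π x) * (π x)⁻¹ * (π q)⁻¹ := by rw [h2]
    _ = 1 := by group

theorem main {p : ℕ} [hp : Fact p.Prime] : ∀ (n : ℕ) (G : Type u) [Group G] [Finite G],
    Nat.card G = n → IsPSolvable p G →
      ∀ (P : Sylow p G) (Q : Subgroup G), (Nat.card ↥Q).Coprime p →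
        Q ≤ Subgroup.normalizer ((P : Subgroup G) : Set G) →
        ∀ x ∈ Subgroup.normalizer (Q : Set G), ∀ k : ℕ, x ^ (p ^ k) = 1 →
          x ∈ Subgroup.centralizer (Q : Set G) := by
  intro n
  induction n using Nat.strong_induction_on with
  | _ n ih =>
    intro G _ _ hn hG P Q hQ hQP x hx k hxk
    have ih' : ∀ (G' : Type u) [Group G'] [Finite G'], Nat.card G' < Nat.card G → IsPSolvable p G' →
        ∀ (P : Sylow p G') (Q : Subgroup G'), (Nat.card ↥Q).Coprime p →
          Q ≤ Subgroup.normalizer ((P : Subgroup G') : Set G') →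
          ∀ x ∈ Subgroup.normalizer (Q : Set G'), ∀ k : ℕ, x ^ (p ^ k) = 1 →
            x ∈ Subgroup.centralizer (Q : Set G') := by
      intro G' _ _ hlt hG'
      exact ih (Nat.card G') (hn ▸ hlt) G' rfl hG'
    by_cases hK : pPrimeCore p G = ⊥
    · by_cases hR : pCore p G = ⊥
      · have hx1 : x ∈ pCore p G := by
          apply Cfsg.Agent.S4218.HH p hG hK x
          intro y hy
          rw [hR, Subgroup.mem_bot] at hy
          rw [hy]
          simp
        rw [hR, Subgroup.mem_bot] at hx1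
        rw [hx1]
        exact Subgroup.one_mem _
      · haveI : (pCore p G).Normal := Cfsg.Agent.Lib.Helper7.pCore_normal p G
        exact step ih' hG (pCore p G) hR (Or.inl (Cfsg.Agent.Lib.Helper7.pCore_isPGroup p G)) P hQ hQP
          hx hxk
    · haveI : (pPrimeCore p G).Normal := Cfsg.pPrimeCore_normal p G
      exact step ih' hG (pPrimeCore p G) hK
        (Or.inr (Cfsg.Agent.Lib.Helper1.pPrimeCore_card_coprime p)) P hQ hQP hx hxk

/-- in a `p`-solvable group, if the `p'`-subgroup `Q` normalizes a Sylow `p`-subgroup then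
`|N(Q) : C(Q)|` is prime to `p`. -/
theorem not_dvd_relIndex {G : Type u} [Group G] [Finite G] {p : ℕ} [hp : Fact p.Prime]
    (hG : IsPSolvable p G) (P : Sylow p G) {Q : Subgroup G} (hQ : (Nat.card ↥Q).Coprime p)
    (hQP : Q ≤ Subgroup.normalizer ((P : Subgroup G) : Set G)) :
    ¬ p ∣ (Subgroup.centralizer (Q : Set G)).relIndex (Subgroup.normalizer (Q : Set G)) := by
  set N := Subgroup.normalizer (Q : Set G) with hN
  set C := Subgroup.centralizer (Q : Set G) with hC
  obtain R : Sylow p ↥N := default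
  have hle : (R : Subgroup ↥N) ≤ C.subgroupOf N := by
    intro r hr
    rw [Subgroup.mem_subgroupOf]
    obtain ⟨k, hk⟩ := R.2 ⟨r, hr⟩
    have hk' : (r : G) ^ (p ^ k) = 1 := by
      have := congrArg (fun z : (R : Subgroup ↥N) => ((z : ↥N) : G)) hk
      simpa using this
    exact main _ G rfl hG P Q hQ hQP (r : G) r.2 k hk'
  intro hd
  have h1 : (C.subgroupOf N).index ∣ (R : Subgroup ↥N).index := Subgroup.index_dvd_of_le hle
  exact R.not_dvd_index (hd.trans h1)

end Cfsg.Agent.Lib.Helper8.PSolvQ
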