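import Mathlib

/-!
Transport of permutation-group properties along an equivalence of the underlying sets.
-/

namespace Cfsg.Agent.Lib.Helper8.PermTransport

open MulAction

variable {X Y : Type*} (φ : X ≃ Y) (H : Subgroup (Equiv.Perm X))

/-- The image of a permutation group under an equivalence of the permuted sets. -/
def mapSub : Subgroup (Equiv.Perm Y) := H.map φ.permCongrHom.toMonoidHom

/-- The canonical isomorphism `H ≃* mapSub φ H`. -/
noncomputable def mapEquiv : H ≃* mapSub φ H :=
  H.equivMapOfInjective φ.permCongrHom.toMonoidHom φ.permCongrHom.injective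

theorem mapEquiv_apply (g : H) (y : Y) :
    ((mapEquiv φ H g : mapSub φ H) : Equiv.Perm Y) y = φ ((g : Equiv.Perm X) (φ.symm y)) := by
  rfl

/-- The equivariant bijection. -/
noncomputable def mapHom : X →ₑ[mapEquiv φ H] Y where
  toFun := φ
  map_smul' := by
    intro g x
    show φ ((g : Equiv.Perm X) x) = ((mapEquiv φ H g : mapSub φ H) : Equiv.Perm Y) (φ x)
    rw [mapEquiv_apply, Equiv.symm_apply_apply]

theorem mapHom_bijective : Function.Bijective (mapHom φ H) := φ.bijective

theorem mapEquiv_surjective : Function.Surjective (mapEquiv φ H) := (mapEquiv φ H).surjective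

theorem isPretransitive_iff : IsPretransitive H X ↔ IsPretransitive (mapSub φ H) Y :=
  isPretransitive_congr (mapEquiv_surjective φ H) (mapHom_bijective φ H)

theorem isPreprimitive_iff : IsPreprimitive H X ↔ IsPreprimitive (mapSub φ H) Y :=
  isPreprimitive_congr (mapEquiv_surjective φ H) (mapHom_bijective φ H)

theorem isMultiplyPretransitive_iff (n : ℕ) :
    IsMultiplyPretransitive H X n ↔ IsMultiplyPretransitive (mapSub φ H) Y n :=
  IsPretransitive.of_embedding_congr (mapEquiv_surjective φ H) (mapHom_bijective φ H)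

theorem stabilizer_eq_bot (h : ∀ a : X, stabilizer H a = ⊥) (b : Y) :
    stabilizer (mapSub φ H) b = ⊥ := by
  rw [eq_bot_iff]
  intro g hg
  obtain ⟨g0, rfl⟩ := mapEquiv_surjective φ H g
  rw [mem_stabilizer_iff] at hg
  have h1 : ((mapEquiv φ H g0 : mapSub φ H) : Equiv.Perm Y) b = b := hg
  rw [mapEquiv_apply] at h1
  have h2 : g0 ∈ stabilizer H (φ.symm b) := by
    rw [mem_stabilizer_iff]
    show (g0 : Equiv.Perm X) (φ.symm b) = φ.symm b
    apply φ.injective
    rw [h1, Equiv.apply_symm_apply]
  rw [h] at h2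
  rw [Subgroup.mem_bot] at h2 ⊢
  rw [h2, map_one]

theorem mapSub_mono {H K : Subgroup (Equiv.Perm X)} (h : H ≤ K) : mapSub φ H ≤ mapSub φ K :=
  Subgroup.map_mono h

/-- A "regular subgroup inside a primitive, not doubly transitive group" package can be
moved to `Fin n`. -/
theorem transport_package {X : Type*} [Fintype X] {K : Type*} [Group K]
    (G R : Subgroup (Equiv.Perm X))
    (hRG : R ≤ G) (hRK : Nonempty (R ≃* K)) (htr : IsPretransitive R X)
    (hst : ∀ a : X, stabilizer R a = ⊥)
    (hprim : IsPreprimitive G X) (h2 : ¬ IsMultiplyPretransitive G X 2) :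
    ∃ (n : ℕ) (G' R' : Subgroup (Equiv.Perm (Fin n))), R' ≤ G' ∧ Nonempty (R' ≃* K) ∧
      IsPretransitive R' (Fin n) ∧ (∀ a : Fin n, stabilizer R' a = ⊥) ∧
      IsPreprimitive G' (Fin n) ∧ ¬ IsMultiplyPretransitive G' (Fin n) 2 := by
  classical
  let φ : X ≃ Fin (Fintype.card X) := Fintype.equivFin X
  refine ⟨Fintype.card X, mapSub φ G, mapSub φ R, mapSub_mono φ hRG, ?_, ?_, ?_, ?_, ?_⟩
  · obtain ⟨f⟩ := hRK
    exact ⟨(mapEquiv φ R).symm.trans f⟩
  · exact (isPretransitive_iff φ R).1 htr
  · exact stabilizer_eq_bot φ R hst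
  · exact (isPreprimitive_iff φ G).1 hprim
  · intro h
    exact h2 ((isMultiplyPretransitive_iff φ G 2).2 h)

end Cfsg.Agent.Lib.Helper8.PermTransport
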