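import Mathlib
import Cfsg.Agent.S0675

/-! A simple group of order 5616 with a subgroup of index 13 acts faithfully and 2-transitively
on the 13 cosets. -/

set_option autoImplicit false
set_option linter.style.haveILetI false

namespace Cfsg.Agent.Lib.Helper8.Pg3

variable {G : Type*} [Group G] [Finite G]

theorem card_quotient_13 (hG : Nat.card G = 5616) (N : Subgroup G) (hN : Nat.card N = 432) :
    Nat.card (G ⧸ N) = 13 := by
  have h := Subgroup.card_eq_card_quotient_mul_card_subgroup N
  rw [hG, hN] at h
  omega

theorem faithful_quotient [IsSimpleGroup G] (hG : Nat.card G = 5616) (N : Subgroup G)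
    (hN : Nat.card N = 432) (g : G) (hg : ∀ x : G ⧸ N, g • x = x) : g = 1 := by
  have hker : (MulAction.toPermHom G (G ⧸ N)).ker = ⊥ := by
    rcases (MulAction.toPermHom G (G ⧸ N)).normal_ker.eq_bot_or_eq_top with h | h
    · exact h
    · exfalso
      have hNtop : N = ⊤ := by
        rw [eq_top_iff]
        intro x _
        have hx : x ∈ (MulAction.toPermHom G (G ⧸ N)).ker := by rw [h]; trivial
        rw [MonoidHom.mem_ker] at hx
        have h1 : (MulAction.toPermHom G (G ⧸ N) x) ((1 : G) : G ⧸ N) = ((1 : G) : G ⧸ N) := by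
          rw [hx]; rfl
        rw [MulAction.toPermHom_apply, MulAction.toPerm_apply, MulAction.Quotient.smul_mk,
          smul_eq_mul, mul_one] at h1
        have := QuotientGroup.eq.mp h1
        simpa using N.inv_mem this
      rw [hNtop, Subgroup.card_top, hG] at hN
      omega
  have hmem : g ∈ (MulAction.toPermHom G (G ⧸ N)).ker := by
    rw [MonoidHom.mem_ker]
    ext x
    exact hg x
  rw [hker] at hmem
  exact Subgroup.mem_bot.mp hmem

theorem two_transitive_quotient [IsSimpleGroup G] (hG : Nat.card G = 5616) (N : Subgroup G)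
    (hN : Nat.card N = 432) (a b c d : G ⧸ N) (hab : a ≠ b) (hcd : c ≠ d) :
    ∃ g : G, g • a = c ∧ g • b = d := by
  classical
  haveI : Fintype (G ⧸ N) := Fintype.ofFinite _
  have hcard : Fintype.card (G ⧸ N) = 13 := by
    rw [← Nat.card_eq_fintype_card]; exact card_quotient_13 hG N hN
  let ρ := MulAction.toPermHom G (G ⧸ N)
  have hρinj : Function.Injective ρ := by
    rw [injective_iff_map_eq_one]
    intro g hg
    apply faithful_quotient hG N hN g
    intro x
    have := congrArg (fun σ : Equiv.Perm (G ⧸ N) => σ x) hg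
    exact this
  haveI : MulAction.IsPretransitive ρ.range (G ⧸ N) := by
    refine ⟨fun x y => ?_⟩
    obtain ⟨g, hg⟩ := MulAction.exists_smul_eq G x y
    exact ⟨⟨ρ g, g, rfl⟩, hg⟩
  have hprime : (Fintype.card (G ⧸ N)).Prime := by rw [hcard]; norm_num
  rcases Cfsg.Agent.S0675.result hprime ρ.range with hsol | h2
  · exfalso
    haveI := hsol
    have hsolG : IsSolvable G :=
      solvable_of_solvable_injective (f := ρ.rangeRestrict)
        (by
          intro x y hxy
          apply hρinj
          exact congrArg Subtype.val hxy)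
    have hcomm : ∀ a b : G, a * b = b * a := IsSimpleGroup.comm_iff_isSolvable.mpr hsolG
    have hnorm : N.Normal := ⟨fun n hn g => by
      have : g * n * g⁻¹ = n := by rw [hcomm g n, mul_assoc, mul_inv_cancel, mul_one]
      rw [this]; exact hn⟩
    rcases hnorm.eq_bot_or_eq_top with h | h
    · rw [h, Subgroup.card_bot] at hN; omega
    · rw [h, Subgroup.card_top, hG] at hN; omega
  · rw [MulAction.is_two_pretransitive_iff] at h2
    obtain ⟨⟨σ, g, rfl⟩, h1, h2'⟩ := h2 hab hcd
    exact ⟨g, h1, h2'⟩

end Cfsg.Agent.Lib.Helper8.Pg3
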