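import Mathlib
import Cfsg.Agent.Lib.Helper1.BGF3

/-! `|D ⊓ G_b| = 3` for a normal subgroup `D` of order 9 of the point stabiliser `N` (order 432)
of a 2-transitive group of degree 13. -/

set_option autoImplicit false
set_option linter.style.haveILetI false

namespace Cfsg.Agent.Lib.Helper8.Pg3

variable {G : Type*} [Group G] [Finite G] {Ω : Type*} [Fintype Ω] [DecidableEq Ω] [MulAction G Ω]

theorem card_subgroupOf_inf (H N : Subgroup G) :
    Nat.card (H.subgroupOf N) = Nat.card (H ⊓ N : Subgroup G) := by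
  rw [← Subgroup.inf_subgroupOf_right]
  exact Nat.card_congr (Subgroup.subgroupOfEquivOfLe inf_le_right).toEquiv

/-- the two-point stabiliser has order 36 -/
theorem card_two_point (hΩ : Fintype.card Ω = 13) (a₀ : Ω) (N : Subgroup G)
    (hfix : ∀ n ∈ N, n • a₀ = a₀) (hN : Nat.card N = 432)
    (htrans : ∀ b c : Ω, b ≠ a₀ → c ≠ a₀ → ∃ n ∈ N, n • b = c) (b : Ω) (hb : b ≠ a₀) :
    Nat.card (MulAction.stabilizer G b ⊓ N : Subgroup G) = 36 := by
  have horb : MulAction.orbit N b = ({a₀}ᶜ : Set Ω) := by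
    ext c
    simp only [Set.mem_compl_iff, Set.mem_singleton_iff]
    constructor
    · rintro ⟨⟨n, hn⟩, rfl⟩ h
      apply hb
      have h1 : n • b = a₀ := h
      have h2 : n⁻¹ • a₀ = a₀ := hfix _ (N.inv_mem hn)
      calc b = n⁻¹ • (n • b) := by rw [inv_smul_smul]
        _ = a₀ := by rw [h1, h2]
    · intro hc
      obtain ⟨n, hn, hnb⟩ := htrans b c hb hc
      exact ⟨⟨n, hn⟩, hnb⟩
  have hidx := MulAction.index_stabilizer N b
  rw [horb, Set.ncard_compl, Set.ncard_singleton, Nat.card_eq_fintype_card, hΩ] at hidx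
  have hmul := Subgroup.index_mul_card (MulAction.stabilizer N b)
  rw [hidx, hN] at hmul
  have hstab : MulAction.stabilizer N b = (MulAction.stabilizer G b).subgroupOf N := by
    ext ⟨n, hn⟩
    simp only [MulAction.mem_stabilizer_iff, Subgroup.mem_subgroupOf]
    rfl
  rw [hstab, card_subgroupOf_inf] at hmul
  omega

theorem card_inf_stabilizer (hΩ : Fintype.card Ω = 13) (a₀ : Ω) (N D : Subgroup G) (hDN : D ≤ N)
    (hnorm : N ≤ Subgroup.normalizer (D : Set G)) (hfix : ∀ n ∈ N, n • a₀ = a₀)
    (hD : Nat.card D = 9) (hN : Nat.card N = 432)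
    (htrans : ∀ b c : Ω, b ≠ a₀ → c ≠ a₀ → ∃ n ∈ N, n • b = c)
    (hfaith : ∀ g : G, (∀ x : Ω, g • x = x) → g = 1) (b : Ω) (hb : b ≠ a₀) :
    Nat.card (D ⊓ MulAction.stabilizer G b : Subgroup G) = 3 := by
  have h36 := card_two_point hΩ a₀ N hfix hN htrans b hb
  have hdvd : Nat.card (D ⊓ MulAction.stabilizer G b : Subgroup G) ∣ 9 := by
    rw [← hD]; exact Subgroup.card_dvd_of_le inf_le_left
  have hcases : Nat.card (D ⊓ MulAction.stabilizer G b : Subgroup G) = 1 ∨
      Nat.card (D ⊓ MulAction.stabilizer G b : Subgroup G) = 3 ∨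
      Nat.card (D ⊓ MulAction.stabilizer G b : Subgroup G) = 9 := by
    have : Nat.card (D ⊓ MulAction.stabilizer G b : Subgroup G) ∈ Nat.divisors 9 := by
      rw [Nat.mem_divisors]; exact ⟨hdvd, by norm_num⟩
    have h9 : Nat.divisors 9 = {1, 3, 9} := by decide
    rw [h9] at this
    simpa using this
  rcases hcases with h1 | h3 | h9
  · exfalso
    -- disjoint: |D ⊔ N_b| = 324 does not divide 432
    have hbot : D ⊓ MulAction.stabilizer G b = ⊥ := Subgroup.card_eq_one.mp h1
    have hdisj : Disjoint D (MulAction.stabilizer G b ⊓ N) := by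
      rw [disjoint_iff, ← inf_assoc, hbot, bot_inf_eq]
    have hle : MulAction.stabilizer G b ⊓ N ≤ Subgroup.normalizer (D : Set G) :=
      inf_le_right.trans hnorm
    have hcard := Cfsg.Agent.Lib.Helper1.BGF.card_sup_eq_mul hle hdisj
    rw [hD, h36] at hcard
    have hsup : D ⊔ (MulAction.stabilizer G b ⊓ N) ≤ N := sup_le hDN inf_le_right
    have := Subgroup.card_dvd_of_le hsup
    rw [hcard, hN] at this
    omega
  · exact h3
  · exfalso
    have hDle : D ≤ MulAction.stabilizer G b := by
      have : D ⊓ MulAction.stabilizer G b = D := by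
        apply Subgroup.eq_of_le_of_card_ge inf_le_left
        rw [h9, hD]
      rw [← this]; exact inf_le_right
    -- D fixes everything
    have hall : ∀ d ∈ D, ∀ x : Ω, d • x = x := by
      intro d hd x
      by_cases hx : x = a₀
      · rw [hx]; exact hfix d (hDN hd)
      · obtain ⟨n, hn, hnb⟩ := htrans b x hb hx
        have hmem : n⁻¹ * d * n ∈ D := by
          have := (Subgroup.mem_normalizer_iff.mp (hnorm (N.inv_mem hn)) d).mp hd
          simpa using this
        have h1 : (n⁻¹ * d * n) • b = b := MulAction.mem_stabilizer_iff.mp (hDle hmem)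
        rw [← hnb]
        calc d • n • b = n • ((n⁻¹ * d * n) • b) := by
              rw [← mul_smul, ← mul_smul]; congr 1; group
          _ = n • b := by rw [h1]
    have hD1 : ∀ d ∈ D, d = 1 := fun d hd => hfaith d (hall d hd)
    have : D = ⊥ := by
      rw [Subgroup.eq_bot_iff_forall]; exact hD1
    rw [this, Subgroup.card_bot] at hD
    omega

end Cfsg.Agent.Lib.Helper8.Pg3
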