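import Mathlib
import Cfsg.Prelude.Def_Sporadic_a
import Cfsg.Agent.Lib.Helper8.Pg3A
import Cfsg.Agent.Lib.Helper8.Pg3B
import Cfsg.Agent.Lib.Helper9.Fix4A
import Cfsg.Agent.Lib.Helper3.Fx3

set_option autoImplicit false
set_option linter.style.haveILetI false

namespace Cfsg.Agent.Lib.Helper8.Pg3

open Cfsg.Agent.Lib.Helper9.Fix4 Cfsg.Agent.Lib.Helper3.Fx3

variable {G : Type*} [Group G] [Finite G] {Ω : Type*} [Fintype Ω] [DecidableEq Ω] [MulAction G Ω]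

/-- the candidate blocks: fixed point sets of size 4 of subgroups of order 3 -/
def blocks (G : Type*) [Group G] (Ω : Type*) [MulAction G Ω] : Set (Finset Ω) :=
  {l | l.card = 4 ∧ ∃ K : Subgroup G, Nat.card K = 3 ∧ ∀ x, x ∈ l ↔ ∀ k ∈ K, k • x = x}

omit [Finite G] [Fintype Ω] in
/-- transport of a fixed point set by a group element -/
theorem transport (g : G) (K : Subgroup G) (l : Finset Ω)
    (h : ∀ x, x ∈ l ↔ ∀ k ∈ K, k • x = x) :
    ∀ x, x ∈ l.image (fun y => g • y) ↔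
      ∀ k ∈ K.map (MulAut.conj g).toMonoidHom, k • x = x := by
  intro x
  constructor
  · intro hx k hk
    obtain ⟨y, hy, rfl⟩ := Finset.mem_image.mp hx
    obtain ⟨k₀, hk₀, rfl⟩ := Subgroup.mem_map.mp hk
    have := (h y).mp hy k₀ hk₀
    simp only [MulEquiv.coe_toMonoidHom, MulAut.conj_apply]
    rw [mul_smul, mul_smul, inv_smul_smul, this]
  · intro hx
    refine Finset.mem_image.mpr ⟨g⁻¹ • x, ?_, smul_inv_smul g x⟩
    rw [h]
    intro k₀ hk₀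
    have := hx (g * k₀ * g⁻¹) (Subgroup.mem_map.mpr ⟨k₀, hk₀, by simp [MulAut.conj_apply]⟩)
    calc k₀ • g⁻¹ • x = g⁻¹ • ((g * k₀ * g⁻¹) • x) := by
          rw [← mul_smul, ← mul_smul]; congr 1; group
      _ = g⁻¹ • x := by rw [this]

omit [Finite G] [Fintype Ω] in
theorem card_map_conj (g : G) (K : Subgroup G) :
    Nat.card (K.map (MulAut.conj g).toMonoidHom) = Nat.card K :=
  Subgroup.card_map_of_injective (MulAut.conj g).injective

omit [Finite G] [Fintype Ω] in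
theorem image_mem_blocks (g : G) (l : Finset Ω) (hl : l ∈ blocks G Ω) :
    l.image (fun x => g • x) ∈ blocks G Ω := by
  obtain ⟨hc, K, hK, hiff⟩ := hl
  refine ⟨?_, K.map (MulAut.conj g).toMonoidHom, ?_, transport g K l hiff⟩
  · rw [Finset.card_image_of_injective _ (MulAction.injective g)]; exact hc
  · rw [card_map_conj]; exact hK

/-- existence at the base point -/
theorem exists_block_base (hΩ : Fintype.card Ω = 13) (a₀ : Ω) (N D : Subgroup G) (hDN : D ≤ N)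
    (hnorm : N ≤ Subgroup.normalizer (D : Set G))
    (hstabN : ∀ g : G, g • a₀ = a₀ ↔ g ∈ N)
    (hD : Nat.card D = 9) (hN : Nat.card N = 432)
    (htrans : ∀ b c : Ω, b ≠ a₀ → c ≠ a₀ → ∃ n ∈ N, n • b = c)
    (hfaith : ∀ g : G, (∀ x : Ω, g • x = x) → g = 1)
    (hconj : ∀ d ∈ D, ∀ d' ∈ D, d ≠ 1 → d' ≠ 1 → ∃ n ∈ N, n * d * n⁻¹ = d')
    (b : Ω) (hb : b ≠ a₀) :
    ∃ (l : Finset Ω) (K : Subgroup G), l.card = 4 ∧ Nat.card K = 3 ∧
      (∀ x, x ∈ l ↔ ∀ k ∈ K, k • x = x) ∧ a₀ ∈ l ∧ b ∈ l ∧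
      (∀ h : G, h • a₀ = a₀ → h • b = b → ∀ k ∈ K, h * k * h⁻¹ ∈ K) := by
  have hfix : ∀ n ∈ N, n • a₀ = a₀ := fun n hn => (hstabN n).mpr hn
  have hstab := card_inf_stabilizer hΩ a₀ N D hDN hnorm hfix hD hN htrans hfaith
  have hK3 := hstab b hb
  set K : Subgroup G := D ⊓ MulAction.stabilizer G b with hKdef
  haveI : Fact (Nat.Prime 3) := ⟨Nat.prime_three⟩
  -- a nontrivial element of K
  obtain ⟨d, hdK, hd1⟩ : ∃ d ∈ K, d ≠ 1 := by
    by_contra hcon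
    push_neg at hcon
    have : K = ⊥ := by rw [Subgroup.eq_bot_iff_forall]; exact hcon
    rw [this, Subgroup.card_bot] at hK3
    omega
  have hdD : d ∈ D := (Subgroup.mem_inf.mp hdK).1
  have hdb : d • b = b := MulAction.mem_stabilizer_iff.mp (Subgroup.mem_inf.mp hdK).2
  have h4 := card_fixed_eq_four hΩ a₀ N D hDN hfix hD hconj hstab d hdD hd1
  refine ⟨Finset.univ.filter (fun x : Ω => d • x = x), K, h4, hK3, ?_, ?_, ?_, ?_⟩
  · intro x
    simp only [Finset.mem_filter, Finset.mem_univ, true_and]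
    constructor
    · intro hx k hk
      have hmem : (⟨k, hk⟩ : K) ∈ Subgroup.zpowers (⟨d, hdK⟩ : K) :=
        mem_zpowers_of_prime_card hK3 (by
          intro h
          exact hd1 (congrArg Subtype.val h))
      obtain ⟨i, hi⟩ := Subgroup.mem_zpowers_iff.mp hmem
      have hk' : k = d ^ i := by
        have := congrArg Subtype.val hi
        simpa using this.symm
      rw [hk']
      have hds : d ∈ MulAction.stabilizer G x := MulAction.mem_stabilizer_iff.mpr hx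
      exact MulAction.mem_stabilizer_iff.mp (Subgroup.zpow_mem _ hds i)
    · intro hx
      exact hx d hdK
  · simp only [Finset.mem_filter, Finset.mem_univ, true_and]
    exact hfix d (hDN hdD)
  · simp only [Finset.mem_filter, Finset.mem_univ, true_and]
    exact hdb
  · intro h ha hbb k hk
    have hhN : h ∈ N := (hstabN h).mp ha
    refine Subgroup.mem_inf.mpr ⟨?_, ?_⟩
    · exact (Subgroup.mem_normalizer_iff.mp (hnorm hhN) k).mp (Subgroup.mem_inf.mp hk).1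
    · rw [MulAction.mem_stabilizer_iff]
      have hkb : k • b = b := MulAction.mem_stabilizer_iff.mp (Subgroup.mem_inf.mp hk).2
      have hinvb : h⁻¹ • b = b := by
        calc h⁻¹ • b = h⁻¹ • (h • b) := by rw [hbb]
          _ = b := inv_smul_smul h b
      rw [mul_smul, mul_smul, hinvb, hkb, hbb]


/-- existence in general position -/
theorem exists_block (hΩ : Fintype.card Ω = 13) (a₀ : Ω) (N D : Subgroup G) (hDN : D ≤ N)
    (hnorm : N ≤ Subgroup.normalizer (D : Set G))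
    (hstabN : ∀ g : G, g • a₀ = a₀ ↔ g ∈ N)
    (hD : Nat.card D = 9) (hN : Nat.card N = 432)
    (h2t : ∀ a b c d : Ω, a ≠ b → c ≠ d → ∃ g : G, g • a = c ∧ g • b = d)
    (hfaith : ∀ g : G, (∀ x : Ω, g • x = x) → g = 1)
    (hconj : ∀ d ∈ D, ∀ d' ∈ D, d ≠ 1 → d' ≠ 1 → ∃ n ∈ N, n * d * n⁻¹ = d')
    (a b : Ω) (hab : a ≠ b) :
    ∃ (l : Finset Ω) (K : Subgroup G), l.card = 4 ∧ Nat.card K = 3 ∧
      (∀ x, x ∈ l ↔ ∀ k ∈ K, k • x = x) ∧ a ∈ l ∧ b ∈ l ∧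
      (∀ h : G, h • a = a → h • b = b → ∀ k ∈ K, h * k * h⁻¹ ∈ K) := by
  have htrans : ∀ b c : Ω, b ≠ a₀ → c ≠ a₀ → ∃ n ∈ N, n • b = c := by
    intro b c hb hc
    obtain ⟨g, hg1, hg2⟩ := h2t a₀ b a₀ c (Ne.symm hb) (Ne.symm hc)
    exact ⟨g, (hstabN g).mp hg1, hg2⟩
  obtain ⟨b₀, hb₀⟩ : ∃ b₀ : Ω, b₀ ≠ a₀ :=
    Fintype.exists_ne_of_one_lt_card (by rw [hΩ]; norm_num) a₀
  obtain ⟨l₀, K₀, hc, hK, hiff, ha₀, hb₀l, hnrm⟩ :=
    exists_block_base hΩ a₀ N D hDN hnorm hstabN hD hN htrans hfaith hconj b₀ hb₀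
  obtain ⟨g, hga, hgb⟩ := h2t a₀ b₀ a b (Ne.symm hb₀) hab
  refine ⟨l₀.image (fun x => g • x), K₀.map (MulAut.conj g).toMonoidHom, ?_, ?_,
    transport g K₀ l₀ hiff, ?_, ?_, ?_⟩
  · rw [Finset.card_image_of_injective _ (MulAction.injective g)]; exact hc
  · rw [card_map_conj]; exact hK
  · exact Finset.mem_image.mpr ⟨a₀, ha₀, hga⟩
  · exact Finset.mem_image.mpr ⟨b₀, hb₀l, hgb⟩
  · intro h ha hb k hk
    obtain ⟨k₀, hk₀, rfl⟩ := Subgroup.mem_map.mp hk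
    simp only [MulEquiv.coe_toMonoidHom, MulAut.conj_apply]
    have h1 : (g⁻¹ * h * g) • a₀ = a₀ := by
      rw [mul_smul, mul_smul, hga, ha, ← hga, inv_smul_smul]
    have h2 : (g⁻¹ * h * g) • b₀ = b₀ := by
      rw [mul_smul, mul_smul, hgb, hb, ← hgb, inv_smul_smul]
    have h3 := hnrm (g⁻¹ * h * g) h1 h2 k₀ hk₀
    refine Subgroup.mem_map.mpr ⟨(g⁻¹ * h * g) * k₀ * (g⁻¹ * h * g)⁻¹, h3, ?_⟩
    simp only [MulEquiv.coe_toMonoidHom, MulAut.conj_apply]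
    group

omit [Finite G] [Fintype Ω] in
/-- uniqueness -/
theorem block_unique (a b : Ω) (hab : a ≠ b) (l : Finset Ω) (K : Subgroup G)
    (hc : l.card = 4) (hiff : ∀ x, x ∈ l ↔ ∀ k ∈ K, k • x = x) (ha : a ∈ l) (hb : b ∈ l)
    (hnrm : ∀ h : G, h • a = a → h • b = b → ∀ k ∈ K, h * k * h⁻¹ ∈ K)
    (l' : Finset Ω) (hl' : l' ∈ blocks G Ω) (ha' : a ∈ l') (hb' : b ∈ l') : l' = l := by
  obtain ⟨hc', K₁, hK₁, hiff'⟩ := hl'
  have hKa : ∀ k ∈ K₁, k • a = a := (hiff' a).mp ha'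
  have hKb : ∀ k ∈ K₁, k • b = b := (hiff' b).mp hb'
  have hinv : ∀ k₁ ∈ K₁, ∀ x ∈ l, k₁ • x ∈ l := by
    intro k₁ hk₁ x hx
    rw [hiff]
    intro k hk
    have hk₁i : k₁⁻¹ ∈ K₁ := K₁.inv_mem hk₁
    have h1 := hnrm k₁⁻¹ (hKa _ hk₁i) (hKb _ hk₁i) k hk
    have h2 := (hiff x).mp hx _ h1
    calc k • k₁ • x = k₁ • ((k₁⁻¹ * k * k₁⁻¹⁻¹) • x) := by
          rw [← mul_smul, ← mul_smul]; congr 1; group
      _ = k₁ • x := by rw [h2]
  have hfix := fixes_of_card_three K₁ hK₁ l hc hinv a b hab ha hb hKa hKb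
  have hsub : l ⊆ l' := by
    intro x hx
    rw [hiff']
    intro k hk
    exact hfix k hk x hx
  exact (Finset.eq_of_subset_of_card_le hsub (by rw [hc, hc'])).symm

/-- the blocks form a Steiner system `S(2,4,13)` -/
theorem isSteiner (hΩ : Fintype.card Ω = 13) (a₀ : Ω) (N D : Subgroup G) (hDN : D ≤ N)
    (hnorm : N ≤ Subgroup.normalizer (D : Set G))
    (hstabN : ∀ g : G, g • a₀ = a₀ ↔ g ∈ N)
    (hD : Nat.card D = 9) (hN : Nat.card N = 432)
    (h2t : ∀ a b c d : Ω, a ≠ b → c ≠ d → ∃ g : G, g • a = c ∧ g • b = d)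
    (hfaith : ∀ g : G, (∀ x : Ω, g • x = x) → g = 1)
    (hconj : ∀ d ∈ D, ∀ d' ∈ D, d ≠ 1 → d' ≠ 1 → ∃ n ∈ N, n * d * n⁻¹ = d') :
    Cfsg.IsSteinerSystem 2 4 (blocks G Ω) := by
  refine ⟨fun l hl => hl.1, fun s hs => ?_⟩
  obtain ⟨a, b, hab, rfl⟩ := Finset.card_eq_two.mp hs
  obtain ⟨l, K, hc, hK, hiff, ha, hb, hnrm⟩ :=
    exists_block hΩ a₀ N D hDN hnorm hstabN hD hN h2t hfaith hconj a b hab
  refine ⟨l, ⟨⟨hc, K, hK, hiff⟩, ?_⟩, ?_⟩
  · intro x hx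
    rcases Finset.mem_insert.mp hx with rfl | hx
    · exact ha
    · rw [Finset.mem_singleton.mp hx]; exact hb
  · rintro l' ⟨hl', hsub⟩
    exact block_unique a b hab l K hc hiff ha hb hnrm l' hl'
      (hsub (Finset.mem_insert_self _ _))
      (hsub (Finset.mem_insert_of_mem (Finset.mem_singleton_self _)))

end Cfsg.Agent.Lib.Helper8.Pg3
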