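import Mathlib
import Cfsg.Prelude.Def_Sporadic_a

/-! The cyclic model of the projective plane of order 3 and the rigidity of its collineations. -/

set_option autoImplicit false
set_option linter.style.haveILetI false

namespace Cfsg.Agent.Lib.Helper8.Pg3

def S0 : Finset (ZMod 13) := {0, 1, 3, 9}

def mline (i : ZMod 13) : Finset (ZMod 13) := S0.image (· + i)

def modelLines : Finset (Finset (ZMod 13)) := Finset.univ.image mline

theorem mline_inter : ∀ i j : ZMod 13, i ≠ j → (mline i ∩ mline j).card ≤ 1 := by decide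

theorem mline_card : ∀ i : ZMod 13, (mline i).card = 4 := by decide

open scoped Pointwise in
theorem aut_image_mem {α : Type*} [DecidableEq α] {B : Set (Finset α)}
    {g : Equiv.Perm α} (hg : g ∈ Cfsg.setSystemAut B) {b : Finset α} (hb : b ∈ B) :
    b.image g ∈ B := by
  rw [MulAction.mem_stabilizer_iff] at hg
  have h1 : (fun b : Finset α => b.image g) '' B = B := hg
  have : b.image g ∈ (fun b : Finset α => b.image g) '' B := ⟨b, hb, rfl⟩
  rw [h1] at this
  exact this

/-- a collineation fixing two points of a line fixes the line -/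
theorem image_mline_eq {g : Equiv.Perm (ZMod 13)}
    (hg : g ∈ Cfsg.setSystemAut (modelLines : Set (Finset (ZMod 13)))) (i : ZMod 13)
    (p q : ZMod 13) (hpq : p ≠ q) (hp : p ∈ mline i) (hq : q ∈ mline i) (hgp : g p = p)
    (hgq : g q = q) : (mline i).image g = mline i := by
  have hmem : mline i ∈ (modelLines : Set (Finset (ZMod 13))) := by
    rw [Finset.mem_coe]
    exact Finset.mem_image.mpr ⟨i, Finset.mem_univ _, rfl⟩
  have h1 := aut_image_mem hg hmem
  rw [Finset.mem_coe] at h1
  obtain ⟨j, -, hj⟩ := Finset.mem_image.mp h1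
  by_cases hij : i = j
  · rw [← hj, hij]
  · exfalso
    have hp' : p ∈ mline j := by
      rw [hj]; exact Finset.mem_image.mpr ⟨p, hp, hgp⟩
    have hq' : q ∈ mline j := by
      rw [hj]; exact Finset.mem_image.mpr ⟨q, hq, hgq⟩
    have h2 : ({p, q} : Finset (ZMod 13)) ⊆ mline i ∩ mline j := by
      intro x hx
      rcases Finset.mem_insert.mp hx with rfl | hx
      · exact Finset.mem_inter.mpr ⟨hp, hp'⟩
      · rw [Finset.mem_singleton.mp hx]; exact Finset.mem_inter.mpr ⟨hq, hq'⟩
    have h3 := Finset.card_le_card h2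
    rw [Finset.card_pair hpq] at h3
    have := mline_inter i j hij
    omega

/-- one closure step -/
theorem fix_step {g : Equiv.Perm (ZMod 13)}
    (hg : g ∈ Cfsg.setSystemAut (modelLines : Set (Finset (ZMod 13)))) (i j : ZMod 13)
    (p q r s x : ZMod 13) (hpq : p ≠ q) (hp : p ∈ mline i) (hq : q ∈ mline i)
    (hrs : r ≠ s) (hr : r ∈ mline j) (hs : s ∈ mline j)
    (hx : mline i ∩ mline j = {x})
    (hgp : g p = p) (hgq : g q = q) (hgr : g r = r) (hgs : g s = s) : g x = x := by
  have h1 := image_mline_eq hg i p q hpq hp hq hgp hgq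
  have h2 := image_mline_eq hg j r s hrs hr hs hgr hgs
  have hxi : x ∈ mline i := by
    have : x ∈ mline i ∩ mline j := by rw [hx]; exact Finset.mem_singleton_self x
    exact (Finset.mem_inter.mp this).1
  have hxj : x ∈ mline j := by
    have : x ∈ mline i ∩ mline j := by rw [hx]; exact Finset.mem_singleton_self x
    exact (Finset.mem_inter.mp this).2
  have h3 : g x ∈ mline i := by rw [← h1]; exact Finset.mem_image.mpr ⟨x, hxi, rfl⟩
  have h4 : g x ∈ mline j := by rw [← h2]; exact Finset.mem_image.mpr ⟨x, hxj, rfl⟩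
  have h5 : g x ∈ mline i ∩ mline j := Finset.mem_inter.mpr ⟨h3, h4⟩
  rw [hx] at h5
  exact Finset.mem_singleton.mp h5

/-- rigidity: a collineation of the model plane fixing `0, 1, 2, 5` is the identity -/
theorem rigid {g : Equiv.Perm (ZMod 13)}
    (hg : g ∈ Cfsg.setSystemAut (modelLines : Set (Finset (ZMod 13))))
    (h0 : g 0 = 0) (h1 : g 1 = 1) (h2 : g 2 = 2) (h5 : g 5 = 5) : g = 1 := by
  have h3 : g 3 = 3 := fix_step hg 0 2 0 1 2 5 3 (by decide) (by decide) (by decide) (by decide)
    (by decide) (by decide) (by decide) h0 h1 h2 h5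
  have h8 : g 8 = 8 := fix_step hg 12 5 0 2 1 5 8 (by decide) (by decide) (by decide) (by decide)
    (by decide) (by decide) (by decide) h0 h2 h1 h5
  have h4 : g 4 = 4 := fix_step hg 4 1 0 5 1 2 4 (by decide) (by decide) (by decide) (by decide)
    (by decide) (by decide) (by decide) h0 h5 h1 h2
  have h9 : g 9 = 9 := fix_step hg 0 8 0 1 8 4 9 (by decide) (by decide) (by decide) (by decide)
    (by decide) (by decide) (by decide) h0 h1 h8 h4
  have h12 : g 12 = 12 := fix_step hg 12 9 0 2 5 9 12 (by decide) (by decide) (by decide)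
    (by decide) (by decide) (by decide) (by decide) h0 h2 h5 h9
  have h7 : g 7 = 7 := fix_step hg 4 11 0 5 1 12 7 (by decide) (by decide) (by decide)
    (by decide) (by decide) (by decide) (by decide) h0 h5 h1 h12
  have h10 : g 10 = 10 := fix_step hg 1 9 1 2 5 9 10 (by decide) (by decide) (by decide)
    (by decide) (by decide) (by decide) (by decide) h1 h2 h5 h9
  have h6 : g 6 = 6 := fix_step hg 10 5 0 10 1 5 6 (by decide) (by decide) (by decide)
    (by decide) (by decide) (by decide) (by decide) h0 h10 h1 h5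
  have h11 : g 11 = 11 := fix_step hg 10 11 0 10 1 12 11 (by decide) (by decide) (by decide)
    (by decide) (by decide) (by decide) (by decide) h0 h10 h1 h12
  ext x
  have hall : ∀ y : ZMod 13, y = 0 ∨ y = 1 ∨ y = 2 ∨ y = 3 ∨ y = 4 ∨ y = 5 ∨ y = 6 ∨ y = 7 ∨
      y = 8 ∨ y = 9 ∨ y = 10 ∨ y = 11 ∨ y = 12 := by decide
  rcases hall x with rfl | rfl | rfl | rfl | rfl | rfl | rfl | rfl | rfl | rfl | rfl | rfl | rfl
  all_goals simp only [Equiv.Perm.coe_one, id_eq]
  all_goals assumption

/-- the collineation group of the model plane is small -/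
theorem card_aut_model :
    Nat.card (Cfsg.setSystemAut (modelLines : Set (Finset (ZMod 13)))) ≤ 28561 := by
  let f : Cfsg.setSystemAut (modelLines : Set (Finset (ZMod 13))) → (Fin 4 → ZMod 13) :=
    fun g => ![g.1 0, g.1 1, g.1 2, g.1 5]
  have hf : Function.Injective f := by
    intro g h hgh
    have e0 : g.1 0 = h.1 0 := congrFun hgh 0
    have e1 : g.1 1 = h.1 1 := congrFun hgh 1
    have e2 : g.1 2 = h.1 2 := congrFun hgh 2
    have e5 : g.1 5 = h.1 5 := congrFun hgh 3
    have hmem : h.1⁻¹ * g.1 ∈ Cfsg.setSystemAut (modelLines : Set (Finset (ZMod 13))) :=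
      Subgroup.mul_mem _ (Subgroup.inv_mem _ h.2) g.2
    have := rigid hmem (by simp [e0]) (by simp [e1]) (by simp [e2]) (by simp [e5])
    apply Subtype.ext
    have h3 : h.1 * (h.1⁻¹ * g.1) = h.1 * 1 := by rw [this]
    rw [mul_inv_cancel_left, mul_one] at h3
    exact h3
  have := Nat.card_le_card_of_injective f hf
  have h2 : Nat.card (Fin 4 → ZMod 13) = 28561 := by
    rw [Nat.card_eq_fintype_card, Fintype.card_fun, ZMod.card, Fintype.card_fin]
    norm_num
  omega

end Cfsg.Agent.Lib.Helper8.Pg3
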