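import Mathlib
import Cfsg.Prelude.Def_Sporadic_a
import Cfsg.Agent.Lib.Lead.BurnsidePrime
import Cfsg.Agent.Lib.Helper8.Pg3E

/-! A Steiner system `S(2,4,13)` with a point-transitive group of automorphisms is isomorphic to
the cyclic model. -/

set_option autoImplicit false
set_option linter.style.haveILetI false

namespace Cfsg.Agent.Lib.Helper8.Pg3

open Cfsg

/-- classification of the perfect difference sets containing `0` and `1` -/
theorem pds_classify : ∀ x y : ZMod 13,
    ({0, 1, x, y} : Finset (ZMod 13)).card = 4 →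
    (∀ p ∈ ({0, 1, x, y} : Finset (ZMod 13)), ∀ q ∈ ({0, 1, x, y} : Finset (ZMod 13)),
      ∀ p' ∈ ({0, 1, x, y} : Finset (ZMod 13)), ∀ q' ∈ ({0, 1, x, y} : Finset (ZMod 13)),
      p ≠ q → q - p = q' - p' → p = p') →
    ∃ u v : ZMod 13, u ≠ 0 ∧ ({0, 1, x, y} : Finset (ZMod 13)) = S0.image (fun z => u * z + v) := by
  decide

theorem model_ex : ∀ a b : ZMod 13, a ≠ b → ∃ i, a ∈ mline i ∧ b ∈ mline i := by decide


theorem zero_ne_one13 : (0 : ZMod 13) ≠ 1 := by decide

theorem one_ne_zero13 : (1 : ZMod 13) ≠ 0 := by decide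

theorem four_mul_eq_zero : ∀ t : ZMod 13, (4 : ZMod 13) * t = 0 → t = 0 := by decide

section steiner

variable {β : Type*} [DecidableEq β] {L : Set (Finset β)}

theorem steiner_unique (hL : IsSteinerSystem 2 4 L) {m m' : Finset β} (hm : m ∈ L) (hm' : m' ∈ L)
    {a b : β} (hab : a ≠ b) (ha : a ∈ m) (hb : b ∈ m) (ha' : a ∈ m') (hb' : b ∈ m') : m = m' := by
  obtain ⟨l, -, hu⟩ := hL.2 {a, b} (Finset.card_pair hab)
  have h1 := hu m ⟨hm, by
    intro x hx
    rcases Finset.mem_insert.mp hx with rfl | hx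
    · exact ha
    · rw [Finset.mem_singleton.mp hx]; exact hb⟩
  have h2 := hu m' ⟨hm', by
    intro x hx
    rcases Finset.mem_insert.mp hx with rfl | hx
    · exact ha'
    · rw [Finset.mem_singleton.mp hx]; exact hb'⟩
  rw [h1, h2]

theorem steiner_ex (hL : IsSteinerSystem 2 4 L) {a b : β} (hab : a ≠ b) :
    ∃ m ∈ L, a ∈ m ∧ b ∈ m := by
  obtain ⟨l, ⟨hl, hsub⟩, -⟩ := hL.2 {a, b} (Finset.card_pair hab)
  exact ⟨l, hl, hsub (Finset.mem_insert_self _ _),
    hsub (Finset.mem_insert_of_mem (Finset.mem_singleton_self _))⟩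

theorem steiner_transport {α : Type*} [DecidableEq α] {L : Set (Finset α)} (e : α ≃ β)
    (hL : IsSteinerSystem 2 4 L) :
    IsSteinerSystem 2 4 ((fun b : Finset α => b.image e) '' L) := by
  refine ⟨?_, ?_⟩
  · rintro _ ⟨b, hb, rfl⟩
    rw [Finset.card_image_of_injective _ e.injective]
    exact hL.1 b hb
  · intro s hs
    have hs' : (s.image e.symm).card = 2 := by
      rw [Finset.card_image_of_injective _ e.symm.injective]; exact hs
    obtain ⟨b, ⟨hb, hsub⟩, hu⟩ := hL.2 _ hs'
    refine ⟨b.image e, ⟨⟨b, hb, rfl⟩, ?_⟩, ?_⟩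
    · intro x hx
      have : e.symm x ∈ b := hsub (Finset.mem_image.mpr ⟨x, hx, rfl⟩)
      exact Finset.mem_image.mpr ⟨e.symm x, this, e.apply_symm_apply x⟩
    · rintro _ ⟨⟨b', hb', rfl⟩, hsub'⟩
      have : b' = b := by
        apply hu b' ⟨hb', ?_⟩
        intro y hy
        obtain ⟨x, hx, rfl⟩ := Finset.mem_image.mp hy
        obtain ⟨z, hz, hzx⟩ := Finset.mem_image.mp (hsub' hx)
        rw [← hzx, e.symm_apply_apply]
        exact hz
      rw [this]

end steiner

/-- a translation invariant Steiner system `S(2,4,13)` on `ZMod 13` is an affine image of the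
model -/
theorem affine_of_invariant (L₁ : Set (Finset (ZMod 13))) (hL₁ : IsSteinerSystem 2 4 L₁)
    (h1 : ∀ m ∈ L₁, m.image (fun x => x + 1) ∈ L₁) :
    ∃ u v : ZMod 13, u ≠ 0 ∧ (∀ i, (mline i).image (fun z => u * z + v) ∈ L₁) ∧
      ∀ m ∈ L₁, ∃ i, m = (mline i).image (fun z => u * z + v) := by
  haveI : Fact (Nat.Prime 13) := ⟨by norm_num⟩
  have hn : ∀ n : ℕ, ∀ m ∈ L₁, m.image (fun x => x + (n : ZMod 13)) ∈ L₁ := by
    intro n
    induction n with
    | zero =>
      intro m hm
      have : m.image (fun x => x + ((0 : ℕ) : ZMod 13)) = m := by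
        simp
      rw [this]; exact hm
    | succ n ih =>
      intro m hm
      have : m.image (fun x => x + ((n + 1 : ℕ) : ZMod 13)) =
          (m.image (fun x => x + (n : ZMod 13))).image (fun x => x + 1) := by
        rw [Finset.image_image]
        congr 1
        funext x
        simp only [Function.comp_apply, Nat.cast_add, Nat.cast_one]
        ring
      rw [this]
      exact h1 _ (ih m hm)
  have ht : ∀ t : ZMod 13, ∀ m ∈ L₁, m.image (fun x => x + t) ∈ L₁ := by
    intro t m hm
    have := hn t.val m hm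
    rwa [ZMod.natCast_zmod_val] at this
  obtain ⟨S, hS, h0S, h1S⟩ := steiner_ex hL₁ zero_ne_one13
  have hScard : S.card = 4 := hL₁.1 S hS
  -- S is a perfect difference set
  have hpds : ∀ p ∈ S, ∀ q ∈ S, ∀ p' ∈ S, ∀ q' ∈ S, p ≠ q → q - p = q' - p' → p = p' := by
    intro p hp q hq p' hp' q' hq' hpq hd
    have hS' := ht (p' - p) S hS
    have hp'S : p' ∈ S.image (fun x => x + (p' - p)) :=
      Finset.mem_image.mpr ⟨p, hp, by ring⟩
    have hq'S : q' ∈ S.image (fun x => x + (p' - p)) :=
      Finset.mem_image.mpr ⟨q, hq, by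
        have : q' = q - p + p' := by rw [hd]; ring
        rw [this]; ring⟩
    have hp'q' : p' ≠ q' := by
      intro h
      apply hpq
      rw [h, sub_self] at hd
      exact (sub_eq_zero.mp hd).symm
    have heq := steiner_unique hL₁ hS' hS hp'q' hp'S hq'S hp' hq'
    have hsum : ∑ x ∈ S.image (fun x => x + (p' - p)), x = ∑ x ∈ S, x + 4 * (p' - p) := by
      rw [Finset.sum_image (fun a _ b _ h => add_right_cancel h), Finset.sum_add_distrib,
        Finset.sum_const, hScard]
      simp
    rw [heq] at hsum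
    have h4 : (4 : ZMod 13) * (p' - p) = 0 := by
      have := hsum
      linear_combination -this
    have := four_mul_eq_zero _ h4
    exact (sub_eq_zero.mp this).symm
  -- S = {0, 1, x, y}
  have hc2 : ((S.erase 0).erase 1).card = 2 := by
    rw [Finset.card_erase_of_mem (Finset.mem_erase.mpr ⟨one_ne_zero13, h1S⟩),
      Finset.card_erase_of_mem h0S, hScard]
  obtain ⟨x, y, hxy, hxyS⟩ := Finset.card_eq_two.mp hc2
  have hSeq : S = {0, 1, x, y} := by
    rw [← hxyS, Finset.insert_erase (Finset.mem_erase.mpr ⟨one_ne_zero13, h1S⟩),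
      Finset.insert_erase h0S]
  obtain ⟨u, v, hu, huv⟩ := pds_classify x y (by rw [← hSeq]; exact hScard)
    (by rw [← hSeq]; exact hpds)
  rw [← hSeq] at huv
  have himage : ∀ i, (mline i).image (fun z => u * z + v) ∈ L₁ := by
    intro i
    have : (mline i).image (fun z => u * z + v) = S.image (fun x => x + u * i) := by
      rw [huv, mline, Finset.image_image, Finset.image_image]
      congr 1
      funext z
      simp only [Function.comp_apply]
      ring
    rw [this]
    exact ht _ S hS
  refine ⟨u, v, hu, himage, ?_⟩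
  intro m hm
  have hmc : 1 < m.card := by rw [hL₁.1 m hm]; norm_num
  obtain ⟨a, ha, b, hb, hab⟩ := Finset.one_lt_card.mp hmc
  have hab' : u⁻¹ * (a - v) ≠ u⁻¹ * (b - v) := by
    intro h
    apply hab
    have := mul_left_cancel₀ (inv_ne_zero hu) h
    exact sub_left_injective this
  obtain ⟨i, hai, hbi⟩ := model_ex _ _ hab'
  refine ⟨i, steiner_unique hL₁ hm (himage i) hab ha hb ?_ ?_⟩
  · exact Finset.mem_image.mpr ⟨_, hai, by field_simp; ring⟩
  · exact Finset.mem_image.mpr ⟨_, hbi, by field_simp; ring⟩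


/-- a Steiner system `S(2,4,13)` with a point-transitive group of automorphisms is isomorphic to
the cyclic model -/
theorem iso_model {α : Type*} [Fintype α] [DecidableEq α] (hα : Fintype.card α = 13)
    (L : Set (Finset α)) (hL : IsSteinerSystem 2 4 L) (H : Subgroup (Equiv.Perm α))
    [MulAction.IsPretransitive H α] (hH : H ≤ Cfsg.setSystemAut L) :
    Cfsg.SetSystemIso L (modelLines : Set (Finset (ZMod 13))) := by
  haveI : Fact (Nat.Prime 13) := ⟨by norm_num⟩
  obtain ⟨e, σ, hσH, hσ⟩ := Cfsg.Agent.Lib.Lead.BurnsidePrime.exists_equiv (p := 13) hα H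
  have hL₁ := steiner_transport e hL
  have h1 : ∀ m ∈ (fun b : Finset α => b.image e) '' L,
      m.image (fun x => x + 1) ∈ (fun b : Finset α => b.image e) '' L := by
    rintro _ ⟨b, hb, rfl⟩
    refine ⟨b.image σ, aut_image_mem (hH hσH) hb, ?_⟩
    show (b.image σ).image e = (b.image e).image (fun x => x + 1)
    rw [Finset.image_image, Finset.image_image]
    congr 1
    funext x
    simp only [Function.comp_apply]
    exact hσ x
  obtain ⟨u, v, hu, himage, hall⟩ := affine_of_invariant _ hL₁ h1
  let φ : ZMod 13 ≃ ZMod 13 :=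
    { toFun := fun z => u * z + v
      invFun := fun w => u⁻¹ * (w - v)
      left_inv := fun z => by
        show u⁻¹ * (u * z + v - v) = z
        field_simp
        ring
      right_inv := fun w => by
        show u * (u⁻¹ * (w - v)) + v = w
        field_simp
        ring }
  have hφ : ∀ m : Finset (ZMod 13), (m.image (fun z => u * z + v)).image φ.symm = m := by
    intro m
    rw [Finset.image_image]
    have : (φ.symm ∘ fun z => u * z + v) = id := by
      funext z
      exact φ.symm_apply_apply z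
    rw [this, Finset.image_id]
  refine ⟨e.trans φ.symm, ?_⟩
  ext m
  constructor
  · rintro ⟨b, hb, rfl⟩
    obtain ⟨i, hi⟩ := hall (b.image e) ⟨b, hb, rfl⟩
    have : b.image (e.trans φ.symm) = mline i := by
      have h2 : b.image (e.trans φ.symm) = (b.image e).image φ.symm := by
        rw [Finset.image_image]; rfl
      rw [h2, hi, hφ]
    show b.image (e.trans φ.symm) ∈ _
    rw [this]
    exact Finset.mem_coe.mpr (Finset.mem_image.mpr ⟨i, Finset.mem_univ _, rfl⟩)
  · intro hm
    obtain ⟨i, -, rfl⟩ := Finset.mem_image.mp (Finset.mem_coe.mp hm)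
    obtain ⟨b, hb, hbe⟩ := himage i
    refine ⟨b, hb, ?_⟩
    have h2 : b.image (e.trans φ.symm) = (b.image e).image φ.symm := by
      rw [Finset.image_image]; rfl
    show b.image (e.trans φ.symm) = mline i
    rw [h2]
    have h3 : b.image e = (mline i).image (fun z => u * z + v) := hbe
    rw [h3, hφ]

end Cfsg.Agent.Lib.Helper8.Pg3
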