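import Mathlib
import Cfsg.Agent.Lib.Helper8.PG2a
import Cfsg.Agent.S0243
import Cfsg.Agent.Lib.Helper8.Pg3F

set_option autoImplicit false
set_option linter.style.haveILetI false
set_option linter.unusedSectionVars false

namespace Cfsg.Agent.Lib.Helper8.Pg3

open scoped LinearAlgebra.Projectivization
open Cfsg Projectivization Cfsg.Agent.Lib.Helper8.PG2

theorem card_psl33 : Nat.card (Matrix.ProjectiveSpecialLinearGroup (Fin 3) (ZMod 3)) = 5616 := by
  have h := Cfsg.Agent.S0243.result (F := ZMod 3) (q := 3) (ZMod.card 3) 3 (by norm_num)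
  rw [Fin.prod_univ_three] at h
  generalize Nat.card (Matrix.ProjectiveSpecialLinearGroup (Fin 3) (ZMod 3)) = c at h ⊢
  norm_num at h
  omega

open scoped Pointwise in
theorem mem_aut_of_image' {α : Type*} [Fintype α] [DecidableEq α] {B : Set (Finset α)}
    (g : Equiv.Perm α) (h : ∀ b ∈ B, b.image g ∈ B) : g ∈ Cfsg.setSystemAut B := by
  rw [MulAction.mem_stabilizer_iff]
  show (fun b : Finset α => b.image g) '' B = B
  have hsub : (fun b : Finset α => b.image g) '' B ⊆ B := by
    rintro _ ⟨b, hb, rfl⟩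
    exact h b hb
  apply Set.eq_of_subset_of_ncard_le hsub _ (Set.toFinite B)
  rw [Set.ncard_image_of_injective]
  exact Finset.image_injective g.injective

theorem le_of_simple_of_index' {Γ : Type*} [Group Γ] [Finite Γ] (A B : Subgroup Γ)
    [IsSimpleGroup B] (h : (A.index).factorial < Nat.card B) : B ≤ A := by
  let φ : B →* Equiv.Perm (Γ ⧸ A) := MulAction.toPermHom B (Γ ⧸ A)
  rcases (φ.normal_ker).eq_bot_or_eq_top with h0 | h1
  · exfalso
    have hinj : Function.Injective φ := (MonoidHom.ker_eq_bot_iff φ).1 h0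
    have h2 := Nat.card_le_card_of_injective φ hinj
    rw [Nat.card_perm, ← Subgroup.index_eq_card] at h2
    omega
  · intro b hb
    have hmem : (⟨b, hb⟩ : B) ∈ φ.ker := by rw [h1]; trivial
    rw [MonoidHom.mem_ker] at hmem
    have h3 : φ ⟨b, hb⟩ ((1 : Γ) : Γ ⧸ A) = ((1 : Γ) : Γ ⧸ A) := by rw [hmem]; rfl
    have h4 : ((b * 1 : Γ) : Γ ⧸ A) = ((1 : Γ) : Γ ⧸ A) := h3
    rw [mul_one] at h4
    have := QuotientGroup.eq.mp h4
    simpa using A.inv_mem this

/-- transport of a group of automorphisms along an isomorphism of set systems -/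
theorem transport_mem_aut {α β : Type*} [Fintype α] [DecidableEq α] [Fintype β] [DecidableEq β]
    {L : Set (Finset α)} {L' : Set (Finset β)} (e : α ≃ β)
    (he : (fun b : Finset α => b.image e) '' L = L') (g : Equiv.Perm α)
    (hg : ∀ l ∈ L, l.image g ∈ L) : e.permCongrHom g ∈ Cfsg.setSystemAut L' := by
  apply mem_aut_of_image'
  intro l' hl'
  rw [← he] at hl' ⊢
  obtain ⟨l, hl, rfl⟩ := hl'
  refine ⟨l.image g, hg l hl, ?_⟩
  ext y
  simp only [Finset.mem_image]
  constructor
  · rintro ⟨_, ⟨x, hx, rfl⟩, rfl⟩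
    refine ⟨e x, ⟨x, hx, rfl⟩, ?_⟩
    show e (g (e.symm (e x))) = _
    rw [Equiv.symm_apply_apply]
  · rintro ⟨_, ⟨x, hx, rfl⟩, rfl⟩
    refine ⟨g x, ⟨x, hx, rfl⟩, ?_⟩
    show _ = e (g (e.symm (e x)))
    rw [Equiv.symm_apply_apply]

/-- a simple group of order 5616 acting faithfully and transitively on a Steiner system
`S(2,4,13)` by automorphisms is `PSL(3,3)` -/
theorem iso_psl33_of_action {G : Type*} [Group G] [Finite G] [IsSimpleGroup G]
    (hG : Nat.card G = 5616)
    {Ω : Type*} [Fintype Ω] [DecidableEq Ω] [MulAction G Ω] (hΩ : Fintype.card Ω = 13)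
    (hfaith : ∀ g : G, (∀ x : Ω, g • x = x) → g = 1)
    (htrans : ∀ x y : Ω, ∃ g : G, g • x = y)
    (L : Set (Finset Ω)) (hL : Cfsg.IsSteinerSystem 2 4 L)
    (hinv : ∀ g : G, ∀ l ∈ L, l.image (fun x => g • x) ∈ L) :
    Nonempty (G ≃* Matrix.ProjectiveSpecialLinearGroup (Fin 3) (ZMod 3)) := by
  classical
  haveI : Fintype (ℙ (ZMod 3) (Fin 3 → ZMod 3)) := Fintype.ofFinite _
  have hq : Nat.card (ZMod 3) = 3 := by rw [Nat.card_eq_fintype_card, ZMod.card]
  have hL' : IsSteinerSystem 2 4 (lines (ZMod 3)) := steiner 3 hq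
  have hβ : Fintype.card (ℙ (ZMod 3) (Fin 3 → ZMod 3)) = 13 := by
    rw [← Nat.card_eq_fintype_card,
      Projectivization.card_of_finrank (ZMod 3) (Fin 3 → ZMod 3)
        (Module.finrank_fin_fun (ZMod 3)), hq]
    decide
  -- the two groups of collineations
  let ρ : G →* Equiv.Perm Ω := MulAction.toPermHom G Ω
  have hρinj : Function.Injective ρ := by
    rw [injective_iff_map_eq_one]
    intro g hg
    apply hfaith g
    intro x
    exact congrArg (fun σ : Equiv.Perm Ω => σ x) hg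
  have hρaut : ρ.range ≤ Cfsg.setSystemAut L := by
    rintro _ ⟨g, rfl⟩
    exact mem_aut_of_image' _ (hinv g)
  haveI : MulAction.IsPretransitive ρ.range Ω := by
    refine ⟨fun x y => ?_⟩
    obtain ⟨g, hg⟩ := htrans x y
    exact ⟨⟨ρ g, g, rfl⟩, hg⟩
  let π := PSLAction.toPermHom (K := ZMod 3) (ι := Fin 3)
  have hπinj : Function.Injective π :=
    Matrix.ProjectiveSpecialLinearGroup.toPermHom_injective (K := ZMod 3) (ι := Fin 3)
  have hπimg : ∀ x : Matrix.ProjectiveSpecialLinearGroup (Fin 3) (ZMod 3),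
      ∀ l ∈ lines (ZMod 3), l.image (π x) ∈ lines (ZMod 3) := by
    intro x
    induction x using QuotientGroup.induction_on with | H g =>
    intro l hl
    exact image_mem_lines g hl
  have hπaut : π.range ≤ Cfsg.setSystemAut (lines (ZMod 3)) := by
    rintro _ ⟨x, rfl⟩
    exact mem_aut_of_image' _ (hπimg x)
  haveI : MulAction.IsPretransitive π.range (ℙ (ZMod 3) (Fin 3 → ZMod 3)) := by
    refine ⟨fun x y => ?_⟩
    obtain ⟨g, hg⟩ := MulAction.exists_smul_eq
      (Matrix.ProjectiveSpecialLinearGroup (Fin 3) (ZMod 3)) x y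
    exact ⟨⟨π g, g, rfl⟩, hg⟩
  -- both planes are the cyclic model
  obtain ⟨e₁, he₁⟩ := iso_model hΩ L hL ρ.range hρaut
  obtain ⟨e₂, he₂⟩ := iso_model hβ (lines (ZMod 3)) hL' π.range hπaut
  let ψ₁ : G →* Equiv.Perm (ZMod 13) := (e₁.permCongrHom.toMonoidHom).comp ρ
  let ψ₂ : Matrix.ProjectiveSpecialLinearGroup (Fin 3) (ZMod 3) →* Equiv.Perm (ZMod 13) :=
    (e₂.permCongrHom.toMonoidHom).comp π
  have hinj₁ : Function.Injective ψ₁ := e₁.permCongrHom.injective.comp hρinj
  have hinj₂ : Function.Injective ψ₂ := e₂.permCongrHom.injective.comp hπinj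
  have hA₁ : ψ₁.range ≤ Cfsg.setSystemAut (modelLines : Set (Finset (ZMod 13))) := by
    rintro _ ⟨g, rfl⟩
    exact transport_mem_aut e₁ he₁ (ρ g) (hinv g)
  have hA₂ : ψ₂.range ≤ Cfsg.setSystemAut (modelLines : Set (Finset (ZMod 13))) := by
    rintro _ ⟨x, rfl⟩
    exact transport_mem_aut e₂ he₂ (π x) (hπimg x)
  have eA₁ := MonoidHom.ofInjective hinj₁
  have eA₂ := MonoidHom.ofInjective hinj₂
  have hc₁ : Nat.card ψ₁.range = 5616 := by
    rw [← Nat.card_congr eA₁.toEquiv]; exact hG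
  have hc₂ : Nat.card ψ₂.range = 5616 := by
    rw [← Nat.card_congr eA₂.toEquiv]; exact card_psl33
  haveI : IsSimpleGroup ψ₁.range := eA₁.symm.isSimpleGroup
  have hΓ := card_aut_model
  -- compare inside the collineation group of the model
  have h12 : ψ₁.range = ψ₂.range := by
    set Γ := Cfsg.setSystemAut (modelLines : Set (Finset (ZMod 13))) with hΓdef
    have hA' : Nat.card (ψ₂.range.subgroupOf Γ) = 5616 := by
      rw [← hc₂]
      exact Nat.card_congr (Subgroup.subgroupOfEquivOfLe hA₂).toEquiv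
    have hB' : Nat.card (ψ₁.range.subgroupOf Γ) = 5616 := by
      rw [← hc₁]
      exact Nat.card_congr (Subgroup.subgroupOfEquivOfLe hA₁).toEquiv
    haveI : IsSimpleGroup (ψ₁.range.subgroupOf Γ) :=
      (Subgroup.subgroupOfEquivOfLe hA₁).isSimpleGroup
    have hidx : (ψ₂.range.subgroupOf Γ).index ≤ 5 := by
      have := (ψ₂.range.subgroupOf Γ).index_mul_card
      rw [hA'] at this
      by_contra hcon
      push_neg at hcon
      have : 6 * 5616 ≤ Nat.card Γ := by
        rw [← this]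
        exact Nat.mul_le_mul_right _ hcon
      omega
    have hle : ψ₁.range.subgroupOf Γ ≤ ψ₂.range.subgroupOf Γ := by
      apply le_of_simple_of_index'
      rw [hB']
      calc ((ψ₂.range.subgroupOf Γ).index).factorial ≤ Nat.factorial 5 := Nat.factorial_le hidx
        _ < 5616 := by decide
    have hBA : ψ₁.range ≤ ψ₂.range := by
      intro b hb
      have : (⟨b, hA₁ hb⟩ : Γ) ∈ ψ₁.range.subgroupOf Γ := Subgroup.mem_subgroupOf.2 hb
      exact Subgroup.mem_subgroupOf.1 (hle this)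
    haveI : Finite ψ₂.range := Nat.finite_of_card_ne_zero (by rw [hc₂]; norm_num)
    exact Subgroup.eq_of_le_of_card_ge hBA (by rw [hc₁, hc₂])
  exact ⟨eA₁.trans ((MulEquiv.subgroupCongr h12).trans eA₂.symm)⟩

end Cfsg.Agent.Lib.Helper8.Pg3
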