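import Mathlib
import Cfsg.Agent.Lib.Helper8.Pg3C
import Cfsg.Agent.Lib.Helper8.Pg3G
import Cfsg.Agent.Lib.Helper7.Cj9

/-! A simple group of order 5616 with a self-centralizing elementary abelian subgroup of order 9
whose normalizer has order 432 is `PSL(3,3)`. -/

set_option autoImplicit false
set_option linter.style.haveILetI false

namespace Cfsg.Agent.Lib.Helper8.Pg3

theorem iso_psl33 {G : Type*} [Group G] [Finite G] [IsSimpleGroup G] (hG : Nat.card G = 5616)
    (D : Subgroup G) (hD : Nat.card D = 9) (hD3 : ∀ d ∈ D, d ^ 3 = 1)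
    (hCD : Subgroup.centralizer (D : Set G) = D)
    (hND : Nat.card (Subgroup.normalizer (D : Set G)) = 432) :
    Nonempty (G ≃* Matrix.ProjectiveSpecialLinearGroup (Fin 3) (ZMod 3)) := by
  classical
  haveI : Fintype (G ⧸ Subgroup.normalizer (D : Set G)) := Fintype.ofFinite _
  have hΩ : Fintype.card (G ⧸ Subgroup.normalizer (D : Set G)) = 13 := by
    rw [← Nat.card_eq_fintype_card]
    exact card_quotient_13 hG _ hND
  have hfaith := faithful_quotient hG (Subgroup.normalizer (D : Set G)) hND
  have h2t := two_transitive_quotient hG (Subgroup.normalizer (D : Set G)) hND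
  have hstabN : ∀ g : G, g • (((1 : G) : G ⧸ Subgroup.normalizer (D : Set G))) =
      (((1 : G) : G ⧸ Subgroup.normalizer (D : Set G))) ↔
      g ∈ Subgroup.normalizer (D : Set G) := by
    intro g
    rw [← MulAction.mem_stabilizer_iff, MulAction.stabilizer_quotient]
  have hconj := Cfsg.Agent.Lib.Helper7.Cj9.conj_transitive D hD hD3 hCD hND
  have hS := isSteiner hΩ _ (Subgroup.normalizer (D : Set G)) D Subgroup.le_normalizer le_rfl
    hstabN hD hND h2t hfaith hconj
  have htrans : ∀ x y : G ⧸ Subgroup.normalizer (D : Set G), ∃ g : G, g • x = y := by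
    intro x y
    by_cases hxy : x = y
    · exact ⟨1, by rw [one_smul, hxy]⟩
    · obtain ⟨g, hg, -⟩ := h2t x y y x hxy (Ne.symm hxy)
      exact ⟨g, hg⟩
  exact iso_psl33_of_action hG hΩ hfaith htrans (blocks G _) hS
    (fun g l hl => image_mem_blocks g l hl)

end Cfsg.Agent.Lib.Helper8.Pg3
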