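import Mathlib
import Cfsg.Agent.Lib.Helper7.Am4

/-! # The `(S₃, S₃)`-amalgam without symmetry: generic counting tools

`cmod L N t` is the subgroup of the elements of `L` commuting with `t` modulo `N`; two chains of
subgroups squeezed between the same ends are both tight (`nat_tight`, `chain_tight`); a subgroup of
index three has exactly three cosets (`three_cosets`). -/

set_option autoImplicit false
open scoped commutatorElement
open Cfsg
open Cfsg.Agent.Lib.Helper3.JC
open Cfsg.Agent.Lib.Helper7.Am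

namespace Cfsg.Agent.Lib.Helper8.Ph

variable {G : Type*} [Group G]

/-- the elements of `L` commuting with `t` modulo the subgroup `N` normalized by `L` -/
def cmod (L N : Subgroup G) (h : Nz L N) (t : G) : Subgroup G where
  carrier := {f | f ∈ L ∧ ⁅f, t⁆ ∈ N}
  one_mem' := ⟨L.one_mem, by
    have : ⁅(1 : G), t⁆ = 1 := by rw [commutatorElement_def]; group
    rw [this]; exact N.one_mem⟩
  mul_mem' := by
    rintro f g ⟨hf, hf'⟩ ⟨hg, hg'⟩
    refine ⟨mul_mem hf hg, ?_⟩
    have e : ⁅f * g, t⁆ = (f * ⁅g, t⁆ * f⁻¹) * ⁅f, t⁆ := by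
      simp only [commutatorElement_def]; group
    rw [e]
    exact mul_mem (h f hf _ hg') hf'
  inv_mem' := by
    rintro f ⟨hf, hf'⟩
    refine ⟨inv_mem hf, ?_⟩
    have e : ⁅f⁻¹, t⁆ = f⁻¹ * (⁅f, t⁆)⁻¹ * f := by
      simp only [commutatorElement_def]; group
    rw [e]
    exact h.inv_conj hf (inv_mem hf')

theorem mem_cmod {L N : Subgroup G} {h : Nz L N} {t f : G} :
    f ∈ cmod L N h t ↔ f ∈ L ∧ ⁅f, t⁆ ∈ N := Iff.rfl

theorem cmod_le {L N : Subgroup G} (h : Nz L N) (t : G) : cmod L N h t ≤ L := fun _ hf => hf.1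

theorem cmod_mono {L N N' : Subgroup G} (h : Nz L N) (h' : Nz L N') (hNN : N ≤ N') (t : G) :
    cmod L N h t ≤ cmod L N' h' t := fun _ hf => ⟨hf.1, hNN hf.2⟩

/-! ### Cardinalities along chains -/

theorem card_eq_mul_relIndex {K L : Subgroup G} (hKL : K ≤ L) :
    Nat.card ↥L = Nat.card ↥K * K.relIndex L := by
  have h := Subgroup.relIndex_mul_relIndex (⊥ : Subgroup G) K L bot_le hKL
  rw [Subgroup.relIndex_bot_left, Subgroup.relIndex_bot_left] at h
  exact h.symm

theorem two_mul_card_le {K L : Subgroup G} [Finite ↥L] (hKL : K ≤ L) (hne : K ≠ L) :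
    2 * Nat.card ↥K ≤ Nat.card ↥L := by
  rw [card_eq_mul_relIndex hKL, mul_comm]
  apply Nat.mul_le_mul_left
  have h1 : K.relIndex L ≠ 1 := by
    intro h
    exact hne (le_antisymm hKL (Subgroup.relIndex_eq_one.mp h))
  have h0 : K.relIndex L ≠ 0 := by
    intro h
    have hc := card_eq_mul_relIndex hKL
    rw [h, mul_zero] at hc
    exact (Nat.card_pos (α := ↥L)).ne' hc
  omega

/-- two chains between the same ends, one dropping by at least `2` at each step and the other by
at most `2`, drop by exactly `2` everywhere -/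
theorem nat_tight : ∀ (m : ℕ) (a e : ℕ → ℕ), a 0 ≤ e 0 → (∀ j, j < m → 2 * a (j + 1) ≤ a j) →
    (∀ k, k < m → e k ≤ 2 * e (k + 1)) → e m ≤ a m →
    a 0 = e 0 ∧ (∀ j, j < m → a j = 2 * a (j + 1)) ∧ (∀ k, k < m → e k = 2 * e (k + 1)) := by
  intro m
  induction m with
  | zero =>
    intro a e h0 _ _ hm
    exact ⟨le_antisymm h0 hm, fun j hj => absurd hj (Nat.not_lt_zero j),
      fun k hk => absurd hk (Nat.not_lt_zero k)⟩
  | succ m ih =>
    intro a e h0 ha he hm
    have ha0 : 2 * a 1 ≤ a 0 := ha 0 (Nat.succ_pos m)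
    have he0 : e 0 ≤ 2 * e 1 := he 0 (Nat.succ_pos m)
    have h1 : a 1 ≤ e 1 := by omega
    obtain ⟨e1, e2, e3⟩ := ih (fun j => a (j + 1)) (fun k => e (k + 1)) h1
      (fun j hj => ha (j + 1) (by omega)) (fun k hk => he (k + 1) (by omega)) hm
    have e1' : a 1 = e 1 := e1
    refine ⟨by omega, ?_, ?_⟩
    · intro j hj
      cases j with
      | zero => show a 0 = 2 * a 1; omega
      | succ j => exact e2 j (by omega)
    · intro k hk
      cases k with
      | zero => show e 0 = 2 * e 1; omega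
      | succ k => exact e3 k (by omega)

/-- the subgroup version of `nat_tight` -/
theorem chain_tight (m : ℕ) (D C : Subgroup G) [Finite ↥D] (S E : ℕ → Subgroup G)
    (hS0 : S 0 = D) (hS : ∀ j, j < m → S (j + 1) ≤ S j) (hSne : ∀ j, j < m → S (j + 1) ≠ S j)
    (hCS : C ≤ S m)
    (hE0 : E 0 = D) (hE : ∀ k, k < m → E (k + 1) ≤ E k)
    (hEi : ∀ k, k < m → Nat.card ↥(E k) ≤ 2 * Nat.card ↥(E (k + 1))) (hEC : E m ≤ C) :
    (∀ j, j < m → Nat.card ↥(S j) = 2 * Nat.card ↥(S (j + 1))) ∧
      (∀ k, k < m → E (k + 1) ≠ E k) := by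
  have hSD : ∀ j, j ≤ m → S j ≤ D := by
    intro j
    induction j with
    | zero => intro _; rw [hS0]
    | succ j ih => intro hj; exact (hS j (by omega)).trans (ih (by omega))
  have hED : ∀ k, k ≤ m → E k ≤ D := by
    intro k
    induction k with
    | zero => intro _; rw [hE0]
    | succ k ih => intro hk; exact (hE k (by omega)).trans (ih (by omega))
  have hfinS : ∀ j, j ≤ m → Finite ↥(S j) := fun j hj =>
    Finite.of_injective _ (Subgroup.inclusion_injective (hSD j hj))
  have hfinE : ∀ k, k ≤ m → Finite ↥(E k) := fun k hk =>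
    Finite.of_injective _ (Subgroup.inclusion_injective (hED k hk))
  have key := nat_tight m (fun j => Nat.card ↥(S j)) (fun k => Nat.card ↥(E k))
    (by show Nat.card ↥(S 0) ≤ Nat.card ↥(E 0); rw [hS0, hE0])
    (fun j hj => by
      haveI := hfinS j (by omega)
      exact two_mul_card_le (hS j hj) (hSne j hj))
    hEi
    (by
      haveI := hfinS m le_rfl
      exact Nat.card_le_card_of_injective _ (Subgroup.inclusion_injective (hEC.trans hCS)))
  refine ⟨key.2.1, ?_⟩
  intro k hk heq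
  have h1 := key.2.2 k hk
  have h2 : Nat.card ↥(E k) = 2 * Nat.card ↥(E (k + 1)) := h1
  rw [heq] at h2
  haveI := hfinE k (by omega)
  have h3 : 0 < Nat.card ↥(E k) := Nat.card_pos
  omega

/-- index two, elementwise -/
theorem index_two_of_card {K L : Subgroup G} [Finite ↥L] (hKL : K ≤ L)
    (hc : Nat.card ↥L = 2 * Nat.card ↥K) {f₁ f₂ : G} (h₁ : f₁ ∈ L) (h₂ : f₂ ∈ L) :
    f₁ ∈ K ∨ f₂ ∈ K ∨ f₁⁻¹ * f₂ ∈ K := by
  have hidx : K.relIndex L = 2 := by
    have h := card_eq_mul_relIndex hKL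
    rw [hc] at h
    haveI : Finite ↥K := Finite.of_injective _ (Subgroup.inclusion_injective hKL)
    have hpos : 0 < Nat.card ↥K := Nat.card_pos
    have : Nat.card ↥K * 2 = Nat.card ↥K * K.relIndex L := by rw [← h]; ring
    exact (Nat.eq_of_mul_eq_mul_left hpos this).symm
  obtain ⟨a, haL, haK, hall⟩ := Subgroup.relIndex_eq_two_iff_exists_notMem_and'.mp hidx
  by_cases c1 : f₁ ∈ K
  · exact Or.inl c1
  by_cases c2 : f₂ ∈ K
  · exact Or.inr (Or.inl c2)
  refine Or.inr (Or.inr ?_)
  -- `a * f₁⁻¹ ∈ K`-type computations: both `f₁` and `f₂` lie in the nontrivial coset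
  have h1 : a * f₁ ∈ K := (hall f₁ h₁).resolve_right c1
  have h2 : a * f₂ ∈ K := (hall f₂ h₂).resolve_right c2
  have e : f₁⁻¹ * f₂ = (a * f₁)⁻¹ * (a * f₂) := by group
  rw [e]
  exact mul_mem (inv_mem h1) h2

/-- a subgroup of index three has exactly three cosets -/
theorem three_cosets {T H : Subgroup G} (h3 : T.relIndex H = 3) {a b : G} (ha : a ∈ H)
    (hb : b ∈ H) (haT : a ∉ T) (hbT : b ∉ T) (hab : a⁻¹ * b ∉ T) {h : G} (hh : h ∈ H) :
    h ∈ T ∨ a⁻¹ * h ∈ T ∨ b⁻¹ * h ∈ T := by
  classical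
  by_contra hcon
  push Not at hcon
  obtain ⟨c1, c2, c3⟩ := hcon
  have hcard : Nat.card (↥H ⧸ T.subgroupOf H) = 3 := by
    rw [← Subgroup.index_eq_card]; exact h3
  haveI : Finite (↥H ⧸ T.subgroupOf H) := Nat.finite_of_card_ne_zero (by rw [hcard]; norm_num)
  let q : ↥H → ↥H ⧸ T.subgroupOf H := fun x => (x : ↥H ⧸ T.subgroupOf H)
  have hq : ∀ x y : ↥H, q x = q y ↔ (x : G)⁻¹ * (y : G) ∈ T := by
    intro x y
    show ((x : ↥H ⧸ T.subgroupOf H) = (y : ↥H ⧸ T.subgroupOf H)) ↔ _
    rw [QuotientGroup.eq, Subgroup.mem_subgroupOf]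
    simp
  let f : Fin 4 → ↥H ⧸ T.subgroupOf H :=
    ![q 1, q ⟨a, ha⟩, q ⟨b, hb⟩, q ⟨h, hh⟩]
  have hf : Function.Injective f := by
    intro i j hij
    fin_cases i <;> fin_cases j <;> first
      | rfl
      | (exfalso
         simp only [f, Matrix.cons_val_zero, Matrix.cons_val_one, Matrix.cons_val_two,
           Matrix.cons_val_three, Matrix.head_cons, Matrix.tail_cons, Fin.zero_eta, Fin.mk_one,
           Fin.reduceFinMk, Matrix.cons_val] at hij
         first
           | (have := (hq _ _).mp hij; simp at this; first | exact haT this | exact hbT this | exact c1 this | exact hab this | exact c2 this | exact c3 this)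
           | (have := (hq _ _).mp hij.symm; simp at this; first | exact haT this | exact hbT this | exact c1 this | exact hab this | exact c2 this | exact c3 this))
  have := Nat.card_le_card_of_injective f hf
  rw [hcard, Nat.card_fin] at this
  omega

end Cfsg.Agent.Lib.Helper8.Ph
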