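import Mathlib
import Cfsg.Agent.Lib.Helper8.Ph1

/-! # The `(S₃, S₃)`-amalgam without symmetry: pointwise stabilizers of balls

`Kv P r v` is the pointwise stabilizer of the ball of radius `r` around the vertex with label
`v` (for `r = 1` it is `O₂` of the vertex stabilizer). -/

set_option autoImplicit false
open scoped commutatorElement
open Cfsg
open Cfsg.Agent.Lib.Helper3.JC
open Cfsg.Agent.Lib.Helper7.Am

namespace Cfsg.Agent.Lib.Helper8.Ph

variable {G : Type*} [Group G]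

/-- ball stabilizers at the two base vertices -/
def Kb (P : Bool → Subgroup G) : ℕ → Bool → Subgroup G
  | 0, i => P i
  | 1, i => pCoreOf 2 (P i)
  | (r + 2), i => ⨅ g : ↥(P i), cj (g : G) (Kb P (r + 1) (!i))

variable {P : Bool → Subgroup G}

theorem Kb_zero (i : Bool) : Kb P 0 i = P i := rfl

theorem Kb_one (i : Bool) : Kb P 1 i = pCoreOf 2 (P i) := rfl

theorem Kb_succ (r : ℕ) (i : Bool) :
    Kb P (r + 2) i = ⨅ g : ↥(P i), cj (g : G) (Kb P (r + 1) (!i)) := rfl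

theorem mem_Kb_succ {r : ℕ} {i : Bool} {f : G} :
    f ∈ Kb P (r + 2) i ↔ ∀ g ∈ P i, f ∈ cj g (Kb P (r + 1) (!i)) := by
  rw [Kb_succ, Subgroup.mem_iInf]
  constructor
  · intro h g hg; exact h ⟨g, hg⟩
  · intro h g; exact h g g.2

theorem nz_Kb (r : ℕ) (i : Bool) : Nz (P i) (Kb P r i) := by
  match r with
  | 0 => exact nz_self _
  | 1 => exact nz_self_pCoreOf _
  | (r + 2) =>
    intro h hh x hx
    rw [mem_Kb_succ] at hx ⊢
    intro g hg
    have h1 := hx (h⁻¹ * g) (mul_mem (inv_mem hh) hg)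
    rw [mem_cj] at h1 ⊢
    have e : g⁻¹ * (h * x * h⁻¹) * g = (h⁻¹ * g)⁻¹ * x * (h⁻¹ * g) := by group
    rw [e]; exact h1

/-- pointwise stabilizer of the ball of radius `r` around the vertex `v` -/
def Kv (P : Bool → Subgroup G) (r : ℕ) (v : G × Bool) : Subgroup G := cj v.1 (Kb P r v.2)

theorem Kv_zero (v : G × Bool) : Kv P 0 v = St P v := rfl

theorem Kv_one (v : G × Bool) : Kv P 1 v = pCoreOf 2 (St P v) := by
  unfold Kv St
  rw [Kb_one, cj_pCoreOf]

theorem Kv_mv (r : ℕ) (g : G) (v : G × Bool) : Kv P r (mv g v) = cj g (Kv P r v) := by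
  unfold Kv mv
  rw [cj_mul]

theorem nz_Kv (r : ℕ) (v : G × Bool) : Nz (St P v) (Kv P r v) := by
  unfold Kv St
  exact nz_cj (nz_Kb r v.2)

/-- two labels of the same coset have the same ball stabilizers -/
theorem Kv_congr (r : ℕ) {v v' : G × Bool} (h2 : v'.2 = v.2) (h1 : v.1⁻¹ * v'.1 ∈ P v.2) :
    Kv P r v' = Kv P r v := by
  unfold Kv
  rw [h2]
  have e : cj v'.1 (Kb P r v.2) = cj (v.1 * (v.1⁻¹ * v'.1)) (Kb P r v.2) := by
    rw [mul_inv_cancel_left]
  rw [e, ← cj_mul, cj_eq_self_of_nz (nz_Kb r v.2) h1]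

theorem St_congr {v v' : G × Bool} (h2 : v'.2 = v.2) (h1 : v.1⁻¹ * v'.1 ∈ P v.2) :
    St P v' = St P v := Kv_congr 0 h2 h1

/-- the neighbours of `v` are the `(v.1 * g, !v.2)` with `g ∈ P v.2` -/
theorem adj_mul (v : G × Bool) {g : G} (hg : g ∈ P v.2) : Adj P v (v.1 * g, !v.2) := by
  refine ⟨rfl, v.1 * g, ?_, ?_⟩
  · have e : (v.1 * g)⁻¹ * v.1 = g⁻¹ := by group
    rw [e]; exact inv_mem hg
  · show (v.1 * g)⁻¹ * (v.1 * g) ∈ P (!v.2)
    rw [inv_mul_cancel]; exact one_mem _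

theorem mem_Kv_succ {r : ℕ} {v : G × Bool} {f : G} :
    f ∈ Kv P (r + 2) v ↔ ∀ w, Adj P v w → f ∈ Kv P (r + 1) w := by
  constructor
  · intro hf w hw
    obtain ⟨h1, k, hk1, hk2⟩ := hw
    unfold Kv at hf ⊢
    rw [mem_cj, mem_Kb_succ] at hf
    have hg : v.1⁻¹ * k ∈ P v.2 := by
      have e : v.1⁻¹ * k = (k⁻¹ * v.1)⁻¹ := by group
      rw [e]; exact inv_mem hk1
    have h2 := hf _ hg
    rw [mem_cj] at h2
    have hk2' : w.1⁻¹ * k ∈ P w.2 := by
      have e : w.1⁻¹ * k = (k⁻¹ * w.1)⁻¹ := by group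
      rw [e]; exact inv_mem hk2
    rw [h1] at hk2' ⊢
    rw [mem_cj]
    have h3 := (nz_Kb (P := P) (r + 1) (!v.2)) _ hk2' _ h2
    have e : w.1⁻¹ * k * ((v.1⁻¹ * k)⁻¹ * (v.1⁻¹ * f * v.1) * (v.1⁻¹ * k)) * (w.1⁻¹ * k)⁻¹ =
        w.1⁻¹ * f * w.1 := by group
    rw [e] at h3
    exact h3
  · intro hf
    unfold Kv
    rw [mem_cj, mem_Kb_succ]
    intro g hg
    have h1 := hf _ (adj_mul v hg)
    unfold Kv at h1
    rw [mem_cj] at h1 ⊢
    have e : g⁻¹ * (v.1⁻¹ * f * v.1) * g = (v.1 * g)⁻¹ * f * (v.1 * g) := by group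
    rw [e]; exact h1

theorem Kv_adj {r : ℕ} {v w : G × Bool} (hC : Ctx P) (h : Adj P v w) :
    Kv P (r + 1) v ≤ Kv P r w := by
  cases r with
  | zero =>
    rw [Kv_one, Kv_zero]
    exact (h.loc hC).QK
  | succ r =>
    intro f hf
    exact mem_Kv_succ.mp hf w h

theorem Kv_succ_le (hC : Ctx P) (r : ℕ) : ∀ v : G × Bool, Kv P (r + 1) v ≤ Kv P r v := by
  induction r with
  | zero =>
    intro v
    rw [Kv_one, Kv_zero]
    exact pCoreOf_le _
  | succ r ih =>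
    intro v
    cases r with
    | zero =>
      intro f hf
      have hw : Adj P v (v.1 * 1, !v.2) := adj_mul v (one_mem _)
      obtain ⟨lam, hlam, hne⟩ := exists_other hC hw
      have h1 := mem_Kv_succ.mp hf _ hw
      have h2 := mem_Kv_succ.mp hf _ hlam
      rw [Kv_one] at h1 h2 ⊢
      have h3 := (hw.symm.loc hC).Q_le_T h1
      have h4 := (hlam.symm.loc hC).Q_le_T h2
      exact (hlam.loc hC).inf_le (hw.loc hC) hne ⟨⟨h4.2, h4.1⟩, ⟨h3.2, h3.1⟩⟩
    | succ r =>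
      intro f hf
      rw [mem_Kv_succ] at hf ⊢
      intro w hw
      exact ih w (hf w hw)

theorem Kv_anti (hC : Ctx P) {r r' : ℕ} (h : r ≤ r') (v : G × Bool) : Kv P r' v ≤ Kv P r v := by
  induction r' with
  | zero =>
    have : r = 0 := by omega
    rw [this]
  | succ r' ih =>
    rcases Nat.lt_or_ge r (r' + 1) with h1 | h1
    · exact (Kv_succ_le hC r' v).trans (ih (by omega))
    · have : r = r' + 1 := by omega
      rw [this]

/-! ### Property (P) -/

/-- property (P) at the type `i`: `O₂(P i) ∩ O₂(P !i)` is normal in `P i` -/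
def PPb (P : Bool → Subgroup G) (i : Bool) : Prop :=
  Nz (P i) (pCoreOf 2 (P i) ⊓ pCoreOf 2 (P (!i)))

theorem pp_iff {v w : G × Bool} (h : Adj P v w) :
    Nz (St P v) (pCoreOf 2 (St P v) ⊓ pCoreOf 2 (St P w)) ↔ PPb P v.2 := by
  obtain ⟨k, e1, e2⟩ := h.edge
  rw [e1, e2, ← cj_pCoreOf, ← cj_pCoreOf, ← cj_inf, nz_cj_iff]
  rfl

/-- under (P), `Kv 2 v = O₂(G_v) ∩ O₂(G_w)` for every neighbour `w` -/
theorem Kv_two (hC : Ctx P) {v w : G × Bool} (hP : PPb P v.2) (h : Adj P v w) :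
    Kv P 2 v = pCoreOf 2 (St P v) ⊓ pCoreOf 2 (St P w) := by
  apply le_antisymm
  · intro f hf
    refine ⟨?_, ?_⟩
    · rw [← Kv_one]; exact Kv_succ_le hC 1 v hf
    · rw [← Kv_one]; exact Kv_adj hC h hf
  · intro f hf
    rw [mem_Kv_succ]
    intro w' hw'
    rw [Kv_one]
    obtain ⟨g, hg, hgeq⟩ := h.exists_mv hw'
    have hnz := (pp_iff h).mpr hP
    have h1 := hnz g hg f hf
    have h2 : g * f * g⁻¹ ∈ cj g (pCoreOf 2 (St P w)) := conj_mem_cj hf.2
    rw [cj_pCoreOf, ← hgeq] at h2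
    -- `f = g⁻¹ (g f g⁻¹) g` and `g⁻¹` normalizes too; use the inverse conjugation instead
    have h3 := hnz.inv_conj hg hf
    have h4 : g * (g⁻¹ * f * g) * g⁻¹ ∈ cj g (pCoreOf 2 (St P w)) := conj_mem_cj h3.2
    rw [cj_pCoreOf, ← hgeq] at h4
    have e : g * (g⁻¹ * f * g) * g⁻¹ = f := by group
    rw [e] at h4
    exact h4

/-- the kernel identities under (P) at the type `i` -/
theorem Kv_eq (hC : Ctx P) {i : Bool} (hP : PPb P i) (k : ℕ) :
    (∀ v : G × Bool, v.2 = (!i) → Kv P (2 * k + 2) v = Kv P (2 * k + 3) v) ∧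
      (∀ v : G × Bool, v.2 = i → Kv P (2 * k + 3) v = Kv P (2 * k + 4) v) := by
  have step : ∀ k : ℕ,
      (∀ v : G × Bool, v.2 = (!i) → Kv P (2 * k + 2) v = Kv P (2 * k + 3) v) →
      (∀ v : G × Bool, v.2 = i → Kv P (2 * k + 3) v = Kv P (2 * k + 4) v) := by
    intro k hA v hv
    apply le_antisymm _ (Kv_succ_le hC _ v)
    intro f hf
    have e1 : 2 * k + 3 = (2 * k + 1) + 2 := by ring
    have e2 : 2 * k + 4 = (2 * k + 2) + 2 := by ring
    rw [e1, mem_Kv_succ] at hf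
    rw [e2, mem_Kv_succ]
    intro w hw
    have hw2 : w.2 = (!i) := by rw [hw.1, hv]
    have := hf w hw
    have e3 : 2 * k + 1 + 1 = 2 * k + 2 := by ring
    have e4 : 2 * k + 2 + 1 = 2 * k + 3 := by ring
    rw [e3] at this
    rw [e4, ← hA w hw2]
    exact this
  induction k with
  | zero =>
    have hA : ∀ v : G × Bool, v.2 = (!i) → Kv P (2 * 0 + 2) v = Kv P (2 * 0 + 3) v := by
      intro v hv
      apply le_antisymm _ (Kv_succ_le hC _ v)
      intro f hf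
      show f ∈ Kv P (1 + 2) v
      rw [mem_Kv_succ]
      intro w hw
      have hw2 : w.2 = i := by rw [hw.1, hv, Bool.not_not]
      have hPw : PPb P w.2 := by rw [hw2]; exact hP
      rw [Kv_two hC hPw hw.symm]
      refine ⟨?_, ?_⟩
      · rw [← Kv_one]; exact Kv_adj hC hw hf
      · rw [← Kv_one]; exact Kv_succ_le hC 1 v hf
    exact ⟨hA, step 0 hA⟩
  | succ k ih =>
    have hA : ∀ v : G × Bool, v.2 = (!i) →
        Kv P (2 * (k + 1) + 2) v = Kv P (2 * (k + 1) + 3) v := by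
      intro v hv
      apply le_antisymm _ (Kv_succ_le hC _ v)
      intro f hf
      have e1 : 2 * (k + 1) + 2 = (2 * k + 2) + 2 := by ring
      have e2 : 2 * (k + 1) + 3 = (2 * k + 3) + 2 := by ring
      rw [e1, mem_Kv_succ] at hf
      rw [e2, mem_Kv_succ]
      intro w hw
      have hw2 : w.2 = i := by rw [hw.1, hv, Bool.not_not]
      have := hf w hw
      have e3 : 2 * k + 2 + 1 = 2 * k + 3 := by ring
      have e4 : 2 * k + 3 + 1 = 2 * k + 4 := by ring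
      rw [e3] at this
      rw [e4, ← ih.2 w hw2]
      exact this
    exact ⟨hA, step (k + 1) hA⟩

/-- the sandwich `K_{2j+3}(a) ≤ K_{2j+2}(l) ≤ K_{2j+2}(a)` for `a` of the type with (P) -/
theorem Kv_sandwich (hC : Ctx P) {a l : G × Bool} (hP : PPb P a.2) (h : Adj P a l) (j : ℕ) :
    Kv P (2 * j + 3) a ≤ Kv P (2 * j + 2) l ∧ Kv P (2 * j + 2) l ≤ Kv P (2 * j + 2) a := by
  refine ⟨Kv_adj hC h, ?_⟩
  have hl2 : l.2 = (!a.2) := h.1
  rw [(Kv_eq hC hP j).1 l hl2]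
  exact Kv_adj hC h.symm

/-- `Z_v` fixes the ball of radius `b` around `v`; more generally: -/
theorem Z_le_Kv {b : ℕ} (hmin : Min P b) : ∀ (r : ℕ) (m : ℕ) (x : ℕ → G × Bool), IsWalk P x m →
    m + (r + 1) ≤ b → omegaCenterOf (pCoreOf 2 (St P (x m))) ≤ Kv P (r + 1) (x 0) := by
  intro r
  induction r with
  | zero =>
    intro m x hx hm
    rw [Kv_one]
    exact (hmin.le hx (i := 0) (j := m) (by omega) le_rfl (by omega)).2
  | succ r ih =>
    intro m x hx hm f hf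
    rw [mem_Kv_succ]
    intro w hw
    have hw' : IsWalk P (Cfsg.Agent.Lib.Helper7.Am.cons w x) (m + 1) := hx.cons hw.symm
    have := ih (m + 1) (Cfsg.Agent.Lib.Helper7.Am.cons w x) hw' (by omega)
    rw [cons_succ, cons_zero] at this
    exact this hf

end Cfsg.Agent.Lib.Helper8.Ph
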