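import Mathlib
import Cfsg.Agent.Lib.Helper8.Ph2

/-! # The `(S₃, S₃)`-amalgam without symmetry: tightness of the chief factor count

For a minimal critical walk `x 0, …, x b` whose first vertex has property (P), the element
`t ∈ Z_{x b} ∖ O₂(G_{x 0})` acts nontrivially on `b / 2` sections of `D = Kv 2 (x 0)` and
centralizes a subgroup of index at most `2 ^ (b / 2)`; hence both chains are tight. -/

set_option autoImplicit false
open scoped commutatorElement
open Cfsg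
open Cfsg.Agent.Lib.Helper3.JC
open Cfsg.Agent.Lib.Helper7.Am

namespace Cfsg.Agent.Lib.Helper8.Ph

variable {G : Type*} [Group G] {P : Bool → Subgroup G}

/-! ### Generalities on critical walks -/

theorem Z_ne_bot {H K : Subgroup G} (h : Loc H K) : omegaCenterOf (pCoreOf 2 H) ≠ ⊥ := by
  intro hZ
  apply h.act
  intro p _
  rw [Subgroup.mem_centralizer_iff]
  intro z hz
  have h1 := h.oT_le_Z hz
  rw [hZ, Subgroup.mem_bot] at h1
  rw [h1, one_mul, mul_one]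

theorem crit_mv {b : ℕ} {x : ℕ → G × Bool} (hc : Crit P b x) (g : G) :
    Crit P b (fun j => mv g (x j)) := by
  refine ⟨hc.min, hc.walk.mv g, ?_⟩
  show ¬ omegaCenterOf (pCoreOf 2 (St P (mv g (x 0)))) ≤ pCoreOf 2 (St P (mv g (x b)))
  rw [St_mv, St_mv, ← cj_pCoreOf, ← cj_pCoreOf, ← cj_omegaCenterOf, cj_le_cj_iff]
  exact hc.crit

theorem crit_rev {n : ℕ} {x : ℕ → G × Bool} (hC : Ctx P) (hc : Crit P (n + 1) x) :
    Crit P (n + 1) (fun j => x (n + 1 - j)) := by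
  refine ⟨hc.min, hc.walk.rev, ?_⟩
  show ¬ omegaCenterOf (pCoreOf 2 (St P (x (n + 1 - 0)))) ≤ pCoreOf 2 (St P (x (n + 1 - (n + 1))))
  rw [Nat.sub_zero, Nat.sub_self]
  exact hc.crit' hC

/-- the types along a walk alternate -/
theorem walk_type_even {x : ℕ → G × Bool} {n : ℕ} (h : IsWalk P x n) :
    ∀ i, 2 * i ≤ n → (x (2 * i)).2 = (x 0).2 := by
  intro i
  induction i with
  | zero => intro _; rfl
  | succ i ih =>
    intro hi
    have h1 := (h (2 * i) (by omega)).1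
    have h2 := (h (2 * i + 1) (by omega)).1
    have e : 2 * (i + 1) = 2 * i + 1 + 1 := by ring
    rw [e, h2, h1, Bool.not_not]
    exact ih (by omega)

theorem walk_type_odd {x : ℕ → G × Bool} {n : ℕ} (h : IsWalk P x n) (i : ℕ)
    (hi : 2 * i + 1 ≤ n) : (x (2 * i + 1)).2 = (!(x 0).2) := by
  rw [(h (2 * i) (by omega)).1, walk_type_even h i (by omega)]

/-- a minimal critical walk does not backtrack -/
theorem nonbacktrack' {b : ℕ} {x : ℕ → G × Bool} (hC : Ctx P) (hc : Crit P b x) {i : ℕ}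
    (hi : i + 2 ≤ b) :
    St P (x (i + 1)) ⊓ St P (x i) ≠ St P (x (i + 1)) ⊓ St P (x (i + 2)) := by
  intro hT
  have h1 : Adj P (x (i + 1)) (x (i + 2)) := hc.walk (i + 1) (by omega)
  have h2 : Adj P (x (i + 1)) (x i) := (hc.walk i (by omega)).symm
  rcases Nat.lt_or_ge (i + 2) b with hlt | hge
  · have h3 : Adj P (x (i + 2)) (x (i + 3)) := hc.walk (i + 2) (by omega)
    have h4 : Adj P (x i) (x (i + 3)) := h1.congr hC h2 hT.symm h3
    have hw : IsWalk P (fun j => if j ≤ i then x j else x (j + 2)) (b - 2) := by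
      intro j hj
      show Adj P (if j ≤ i then x j else x (j + 2))
        (if j + 1 ≤ i then x (j + 1) else x (j + 1 + 2))
      by_cases hji : j + 1 ≤ i
      · rw [if_pos (by omega : j ≤ i), if_pos hji]
        exact hc.walk j (by omega)
      · by_cases hji' : j ≤ i
        · have hje : j = i := by omega
          subst hje
          rw [if_pos le_rfl, if_neg hji]
          exact h4
        · rw [if_neg hji', if_neg hji]
          exact hc.walk (j + 2) (by omega)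
    have h5 := hc.min (b - 2) (by omega) _ hw
    have e1 : (if (0 : ℕ) ≤ i then x 0 else x (0 + 2)) = x 0 := if_pos (Nat.zero_le i)
    have e2 : (if b - 2 ≤ i then x (b - 2) else x (b - 2 + 2)) = x b := by
      rw [if_neg (by omega)]
      congr 1
      omega
    have h7 : omegaCenterOf (pCoreOf 2 (St P (if (0 : ℕ) ≤ i then x 0 else x (0 + 2)))) ≤
        pCoreOf 2 (St P (if b - 2 ≤ i then x (b - 2) else x (b - 2 + 2))) := h5
    rw [e1, e2] at h7
    exact hc.crit h7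
  · have hb : b = i + 2 := by omega
    have h3 : St P (x (i + 2)) = St P (x i) := h2.St_eq_of_T_eq hC h1 hT
    have h4 := (hc.min.le hc.walk (i := 0) (j := i) (by omega) (by omega) (by omega)).1
    apply hc.crit
    rw [hb, h3]
    exact h4

/-! ### `t` does not centralize the sections -/

theorem not_cent {n : ℕ} {x : ℕ → G × Bool} (hC : Ctx P) (hc : Crit P (n + 2) x)
    (hP : PPb P (x 0).2) {t : G} (ht : t ∈ omegaCenterOf (pCoreOf 2 (St P (x (n + 2)))))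
    (htQ : t ∉ pCoreOf 2 (St P (x 0))) {j : ℕ} (hj : 2 * j + 2 ≤ n + 2) :
    ∃ f ∈ Kv P (2 * j + 2) (x 0), ⁅f, t⁆ ∉ Kv P (2 * j + 3) (x 0) := by
  by_contra hcon
  push Not at hcon
  have hA01 : Adj P (x 0) (x 1) := hc.walk 0 (by omega)
  have hHK1 : Loc (St P (x 0)) (St P (x 1)) := hA01.loc hC
  have htT : t ∈ St P (x 0) ⊓ St P (x 1) := hc.Zb_le (n := n + 1) hC ht
  have htt : t * t = 1 := (hc.locb (n := n + 1) hC).Z_sq ht
  obtain ⟨lam, hlam, hne⟩ := exists_other hC hA01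
  have hHL : Loc (St P (x 0)) (St P lam) := hlam.loc hC
  have hLH : Loc (St P lam) (St P (x 0)) := hlam.symm.loc hC
  have htL : t ∉ St P lam := by
    intro h
    exact htQ (hHL.inf_le hHK1 hne ⟨⟨htT.1, h⟩, htT⟩)
  have hlam' : Adj P (x 0) (mv t lam) := hlam.mv_right htT.1
  have hne' : St P (x 0) ⊓ St P lam ≠ St P (x 0) ⊓ St P (mv t lam) := by
    rw [St_mv]
    exact hHL.cj_T_ne htT.1 htL
  have hHL' : Loc (St P (x 0)) (St P (mv t lam)) := hlam'.loc hC
  have hPl : PPb P (x 0).2 := hP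
  obtain ⟨hs1, hs2⟩ := Kv_sandwich hC hP hlam j
  -- `t` normalizes `X := Kv (2j+2) lam`
  have hle : cj t (Kv P (2 * j + 2) lam) ≤ Kv P (2 * j + 2) lam := by
    rintro y ⟨f, hf, rfl⟩
    show t * f * t⁻¹ ∈ Kv P (2 * j + 2) lam
    have h1 : ⁅f⁻¹, t⁆ ∈ Kv P (2 * j + 3) (x 0) := hcon f⁻¹ (hs2 (inv_mem hf))
    have e : t * f * t⁻¹ = f * ⁅f⁻¹, t⁆ := by
      rw [commutatorElement_def]; group
    rw [e]
    exact mul_mem hf (hs1 h1)
  have heq : cj t (Kv P (2 * j + 2) lam) = Kv P (2 * j + 2) lam := by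
    apply le_antisymm hle
    have h1 := cj_mono (g := t) hle
    rw [cj_mul, htt, cj_one] at h1
    exact h1
  have hX3 : Kv P (2 * j + 2) (mv t lam) = Kv P (2 * j + 2) lam := by
    rw [Kv_mv, heq]
  have hnz1 : Nz (St P (x 0) ⊓ St P lam) (Kv P (2 * j + 2) lam) :=
    (nz_Kv _ lam).mono inf_le_right
  have hnz2 : Nz (St P (x 0) ⊓ St P (mv t lam)) (Kv P (2 * j + 2) lam) := by
    rw [← hX3]
    exact (nz_Kv _ (mv t lam)).mono inf_le_right
  have hnzH : Nz (St P (x 0)) (Kv P (2 * j + 2) lam) :=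
    (hnz1.sup_left hnz2).mono (hHL.sup_eq hHL' hne')
  have hXT : Kv P (2 * j + 2) lam ≤ St P (x 0) ⊓ St P lam := by
    have h1 : Kv P (2 * j + 2) lam ≤ Kv P 1 lam := Kv_anti hC (by omega) lam
    rw [Kv_one] at h1
    have h2 := hLH.Q_le_T
    rw [inf_comm] at h2
    exact h1.trans h2
  have hbot := hC.core_edge hlam hXT hnzH (nz_Kv _ lam)
  have hZ : omegaCenterOf (pCoreOf 2 (St P lam)) ≤ Kv P (n + 1 + 1) lam := by
    have hw : IsWalk P (fun _ : ℕ => lam) 0 := fun m hm => absurd hm (Nat.not_lt_zero m)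
    exact Z_le_Kv hc.min (n + 1) 0 (fun _ => lam) hw (by omega)
  have hZ' : omegaCenterOf (pCoreOf 2 (St P lam)) ≤ Kv P (2 * j + 2) lam :=
    hZ.trans (Kv_anti hC (by omega) lam)
  rw [hbot] at hZ'
  exact Z_ne_bot hLH (le_bot_iff.mp hZ')

/-! ### The upper chain -/

/-- `E k = D_{x 0} ∩ D_{x 2} ∩ … ∩ D_{x (2k)}` -/
def Ech (P : Bool → Subgroup G) (x : ℕ → G × Bool) : ℕ → Subgroup G
  | 0 => Kv P 2 (x 0)
  | (k + 1) => Ech P x k ⊓ Kv P 2 (x (2 * k + 2))

theorem Ech_zero (x : ℕ → G × Bool) : Ech P x 0 = Kv P 2 (x 0) := rfl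

theorem Ech_succ (x : ℕ → G × Bool) (k : ℕ) :
    Ech P x (k + 1) = Ech P x k ⊓ Kv P 2 (x (2 * k + 2)) := rfl

theorem Ech_le (x : ℕ → G × Bool) (k : ℕ) : Ech P x k ≤ Kv P 2 (x (2 * k)) := by
  cases k with
  | zero => exact le_rfl
  | succ k =>
    rw [Ech_succ]
    have e : 2 * (k + 1) = 2 * k + 2 := by ring
    rw [e]
    exact inf_le_right

theorem Ech_le_zero (x : ℕ → G × Bool) (k : ℕ) : Ech P x k ≤ Kv P 2 (x 0) := by
  induction k with
  | zero => exact le_rfl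
  | succ k ih => rw [Ech_succ]; exact inf_le_left.trans ih

theorem Ech_succ_eq {n : ℕ} {x : ℕ → G × Bool} (hC : Ctx P) (hw : IsWalk P x n)
    (hP : PPb P (x 0).2) {k : ℕ} (hk : 2 * k + 2 ≤ n) :
    Ech P x (k + 1) = Ech P x k ⊓ pCoreOf 2 (St P (x (2 * k + 2))) := by
  have hA : Adj P (x (2 * k + 2)) (x (2 * k + 1)) := (hw (2 * k + 1) (by omega)).symm
  have hA' : Adj P (x (2 * k)) (x (2 * k + 1)) := hw (2 * k) (by omega)
  have hty : (x (2 * k + 2)).2 = (x 0).2 := by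
    have := walk_type_even hw (k + 1) (by omega)
    have e : 2 * (k + 1) = 2 * k + 2 := by ring
    rwa [e] at this
  have hP' : PPb P (x (2 * k + 2)).2 := by rw [hty]; exact hP
  rw [Ech_succ, Kv_two hC hP' hA]
  apply le_antisymm
  · exact inf_le_inf le_rfl inf_le_left
  · intro f hf
    refine ⟨hf.1, hf.2, ?_⟩
    have h1 : f ∈ Kv P 1 (x (2 * k + 1)) := Kv_adj hC hA' (Ech_le x k hf.1)
    rwa [Kv_one] at h1

theorem Ech_card {n : ℕ} {x : ℕ → G × Bool} (hC : Ctx P) (hw : IsWalk P x n)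
    (hP : PPb P (x 0).2) {k : ℕ} (hk : 2 * k + 2 ≤ n) :
    Nat.card ↥(Ech P x k) ≤ 2 * Nat.card ↥(Ech P x (k + 1)) := by
  have hA : Adj P (x (2 * k + 2)) (x (2 * k + 1)) := (hw (2 * k + 1) (by omega)).symm
  have hA' : Adj P (x (2 * k)) (x (2 * k + 1)) := hw (2 * k) (by omega)
  have hl : Loc (St P (x (2 * k + 2))) (St P (x (2 * k + 1))) := hA.loc hC
  have hl' : Loc (St P (x (2 * k + 1))) (St P (x (2 * k + 2))) := hA.symm.loc hC
  have hET : Ech P x k ≤ St P (x (2 * k + 2)) ⊓ St P (x (2 * k + 1)) := by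
    intro f hf
    have h1 : f ∈ Kv P 1 (x (2 * k + 1)) := Kv_adj hC hA' (Ech_le x k hf)
    rw [Kv_one] at h1
    have := hl'.Q_le_T h1
    exact ⟨this.2, this.1⟩
  rw [Ech_succ_eq hC hw hP hk]
  have h1 := card_eq_mul_relIndex (inf_le_left :
    Ech P x k ⊓ pCoreOf 2 (St P (x (2 * k + 2))) ≤ Ech P x k)
  rw [Subgroup.inf_relIndex_left] at h1
  have h2 : (pCoreOf 2 (St P (x (2 * k + 2)))).relIndex (Ech P x k) ≤ 2 := by
    have := Subgroup.relIndex_le_of_le_right (H := pCoreOf 2 (St P (x (2 * k + 2)))) hET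
      (by rw [hl.idxQ]; norm_num)
    rwa [hl.idxQ] at this
  rw [h1, mul_comm]
  exact Nat.mul_le_mul_right _ h2

/-! ### Tightness -/

theorem tight {n : ℕ} {x : ℕ → G × Bool} (hC : Ctx P) (hc : Crit P (n + 2) x)
    (hP : PPb P (x 0).2) {t : G} (ht : t ∈ omegaCenterOf (pCoreOf 2 (St P (x (n + 2)))))
    (htQ : t ∉ pCoreOf 2 (St P (x 0))) :
    (∀ k, 2 * k + 2 ≤ n + 2 → ∃ g ∈ Ech P x k, g ∉ pCoreOf 2 (St P (x (2 * k + 2)))) ∧
      (∀ f₁ ∈ Kv P 2 (x 0), ∀ f₂ ∈ Kv P 2 (x 0),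
        ⁅f₁, t⁆ ∈ Kv P 3 (x 0) ∨ ⁅f₂, t⁆ ∈ Kv P 3 (x 0) ∨ ⁅f₁⁻¹ * f₂, t⁆ ∈ Kv P 3 (x 0)) := by
  have hA01 : Adj P (x 0) (x 1) := hc.walk 0 (by omega)
  have hHK1 : Loc (St P (x 0)) (St P (x 1)) := hA01.loc hC
  have htT : t ∈ St P (x 0) ⊓ St P (x 1) := hc.Zb_le (n := n + 1) hC ht
  have hDle : Kv P 2 (x 0) ≤ St P (x 0) := by
    have := Kv_anti hC (by omega : 0 ≤ 2) (x 0)
    rwa [Kv_zero] at this
  haveI : Finite ↥(St P (x 0)) := hHK1.fin
  haveI : Finite ↥(Kv P 2 (x 0)) := Finite.of_injective _ (Subgroup.inclusion_injective hDle)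
  have hnz : ∀ r, Nz (Kv P 2 (x 0)) (Kv P r (x 0)) := fun r => (nz_Kv r (x 0)).mono hDle
  obtain ⟨m, hm⟩ : ∃ m, m = (n + 2) / 2 := ⟨_, rfl⟩
  obtain ⟨S, hSdef⟩ : ∃ S : ℕ → Subgroup G,
      S = fun j => cmod (Kv P 2 (x 0)) (Kv P (2 * j + 2) (x 0)) (hnz _) t := ⟨_, rfl⟩
  obtain ⟨C, hCdef⟩ : ∃ C : Subgroup G,
      C = Kv P 2 (x 0) ⊓ Subgroup.centralizer ({t} : Set G) := ⟨_, rfl⟩
  have hS0 : S 0 = Kv P 2 (x 0) := by
    rw [hSdef]
    apply le_antisymm (cmod_le _ _)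
    intro f hf
    refine ⟨hf, ?_⟩
    show ⁅f, t⁆ ∈ Kv P (2 * 0 + 2) (x 0)
    have e : ⁅f, t⁆ = f * (t * f⁻¹ * t⁻¹) := by rw [commutatorElement_def]; group
    rw [e]
    exact mul_mem hf (nz_Kv 2 (x 0) t htT.1 _ (inv_mem hf))
  have hS : ∀ j, j < m → S (j + 1) ≤ S j := by
    intro j _
    rw [hSdef]
    exact cmod_mono _ _ (Kv_anti hC (by omega) (x 0)) t
  have hSne : ∀ j, j < m → S (j + 1) ≠ S j := by
    intro j hj heq
    obtain ⟨f, hf, hft⟩ := not_cent hC hc hP ht htQ (j := j) (by omega)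
    have h1 : f ∈ S j := by
      rw [hSdef]
      refine ⟨Kv_anti hC (by omega) (x 0) hf, ?_⟩
      have e : ⁅f, t⁆ = f * (t * f⁻¹ * t⁻¹) := by rw [commutatorElement_def]; group
      rw [e]
      exact mul_mem hf (nz_Kv _ (x 0) t htT.1 _ (inv_mem hf))
    rw [← heq, hSdef] at h1
    apply hft
    have h2 : ⁅f, t⁆ ∈ Kv P (2 * (j + 1) + 2) (x 0) := h1.2
    have e : 2 * (j + 1) + 2 = 2 * j + 4 := by ring
    rw [e, ← (Kv_eq hC hP j).2 (x 0) rfl] at h2
    exact h2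
  have hCS : C ≤ S m := by
    rw [hCdef, hSdef]
    intro f hf
    refine ⟨hf.1, ?_⟩
    have h1 := Subgroup.mem_centralizer_iff.mp hf.2 t rfl
    have e : ⁅f, t⁆ = 1 := by
      rw [commutatorElement_def, ← h1]; group
    rw [e]; exact one_mem _
  have hE : ∀ k, k < m → Ech P x (k + 1) ≤ Ech P x k := fun k _ => inf_le_left
  have hEi : ∀ k, k < m → Nat.card ↥(Ech P x k) ≤ 2 * Nat.card ↥(Ech P x (k + 1)) := by
    intro k hk
    exact Ech_card hC hc.walk hP (by omega)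
  have hEQ : Ech P x m ≤ pCoreOf 2 (St P (x (n + 2))) := by
    rcases Nat.even_or_odd' (n + 2) with ⟨q, hq | hq⟩
    · have hmq : m = q := by omega
      have h1 := Ech_le (P := P) x m
      rw [hmq, ← hq] at h1
      have h2 := Kv_succ_le hC 1 (x (n + 2))
      rw [Kv_one] at h2
      rw [hmq]
      exact h1.trans h2
    · have hmq : m = q := by omega
      have h1 := Ech_le (P := P) x m
      rw [hmq] at h1
      have hA : Adj P (x (2 * q)) (x (2 * q + 1)) := hc.walk (2 * q) (by omega)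
      have h2 := Kv_adj (r := 1) hC hA
      rw [Kv_one, ← hq] at h2
      rw [hmq]
      exact h1.trans h2
  have hEC : Ech P x m ≤ C := by
    rw [hCdef]
    intro f hf
    refine Subgroup.mem_inf.mpr ⟨Ech_le_zero x m hf, ?_⟩
    rw [Subgroup.mem_centralizer_iff]
    intro y hy
    rw [Set.mem_singleton_iff] at hy
    rw [hy]
    exact ((hc.locb (n := n + 1) hC).Z_comm ht (hEQ hf)).symm
  obtain ⟨k1, k2⟩ := chain_tight m (Kv P 2 (x 0)) C S (Ech P x) hS0 hS hSne hCS rfl hE hEi hEC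
  constructor
  · intro k hk
    have hkm : k < m := by omega
    have h1 := k2 k hkm
    rw [Ech_succ_eq hC hc.walk hP hk] at h1
    by_contra hcon
    push Not at hcon
    exact h1 (le_antisymm inf_le_left (le_inf le_rfl hcon))
  · intro f₁ hf₁ f₂ hf₂
    have hm1 : 0 < m := by omega
    have h1 := k1 0 hm1
    rw [hS0] at h1
    have hle : S (0 + 1) ≤ Kv P 2 (x 0) := by
      rw [hSdef]; exact cmod_le _ _
    have h2 := index_two_of_card hle h1 hf₁ hf₂
    have key : ∀ f : G, f ∈ S (0 + 1) → ⁅f, t⁆ ∈ Kv P 3 (x 0) := by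
      intro f hf
      rw [hSdef] at hf
      have h3 : ⁅f, t⁆ ∈ Kv P (2 * (0 + 1) + 2) (x 0) := hf.2
      have h4 := (Kv_eq hC hP 0).2 (x 0) rfl
      have e1 : 2 * (0 + 1) + 2 = 2 * 0 + 4 := by ring
      rw [e1, ← h4] at h3
      exact h3
    rcases h2 with h | h | h
    · exact Or.inl (key _ h)
    · exact Or.inr (Or.inl (key _ h))
    · exact Or.inr (Or.inr (key _ h))

end Cfsg.Agent.Lib.Helper8.Ph
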