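import Mathlib
import Cfsg.Agent.Lib.Helper8.Ph3

/-! # The `(S₃, S₃)`-amalgam without symmetry: local geometry at a vertex

The three neighbours of a vertex, the element swapping two of them, transitivity on arcs. -/

set_option autoImplicit false
open scoped commutatorElement
open Cfsg
open Cfsg.Agent.Lib.Helper3.JC
open Cfsg.Agent.Lib.Helper7.Am

namespace Cfsg.Agent.Lib.Helper8.Ph

variable {G : Type*} [Group G] {P : Bool → Subgroup G}

theorem isWalk_tail {x : ℕ → G × Bool} {n : ℕ} (h : IsWalk P x (n + 1)) :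
    IsWalk P (fun j => x (j + 1)) n := fun j hj => h (j + 1) (by omega)

theorem isWalk_drop {x : ℕ → G × Bool} {n : ℕ} (i : ℕ) (h : IsWalk P x (n + i)) :
    IsWalk P (fun j => x (j + i)) n := by
  intro j hj
  have := h (j + i) (by omega)
  have e : j + i + 1 = j + 1 + i := by ring
  rw [e] at this
  exact this

/-- `O₂(G_v)` is not contained in `O₂(G_w)` for adjacent `v`, `w` -/
theorem Q_not_le (hC : Ctx P) {v w : G × Bool} (h : Adj P v w) :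
    ¬ pCoreOf 2 (St P v) ≤ pCoreOf 2 (St P w) := by
  intro hle
  have hl : Loc (St P v) (St P w) := h.loc hC
  have hl' : Loc (St P w) (St P v) := h.symm.loc hC
  have hQwT : pCoreOf 2 (St P w) ≤ St P v ⊓ St P w := by
    have := hl'.Q_le_T
    rwa [inf_comm] at this
  have h1 := Subgroup.relIndex_mul_relIndex _ _ _ hle hQwT
  have h2 : (pCoreOf 2 (St P w)).relIndex (St P v ⊓ St P w) = 2 := by
    have := hl'.idxQ
    rwa [inf_comm] at this
  rw [hl.idxQ, h2] at h1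
  have h3 : (pCoreOf 2 (St P v)).relIndex (pCoreOf 2 (St P w)) = 1 := by omega
  have h4 : pCoreOf 2 (St P w) ≤ pCoreOf 2 (St P v) := Subgroup.relIndex_eq_one.mp h3
  have heq : pCoreOf 2 (St P v) = pCoreOf 2 (St P w) := le_antisymm hle h4
  have hbot : pCoreOf 2 (St P v) = ⊥ := by
    apply hC.core_edge h hl.Q_le_T hl.nzHQ
    rw [heq]; exact hl'.nzHQ
  apply Z_ne_bot hl
  have h5 : omegaCenterOf (pCoreOf 2 (St P v)) ≤ pCoreOf 2 (St P v) := hl.Z_le_Q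
  exact le_bot_iff.mp (h5.trans (le_of_eq hbot))

/-- a third neighbour -/
theorem exists_third (hC : Ctx P) {a l₁ l₂ : G × Bool} (h₁ : Adj P a l₁) (h₂ : Adj P a l₂)
    (hne : St P a ⊓ St P l₁ ≠ St P a ⊓ St P l₂) :
    ∃ l₃ : G × Bool, Adj P a l₃ ∧ St P a ⊓ St P l₃ ≠ St P a ⊓ St P l₁ ∧
      St P a ⊓ St P l₃ ≠ St P a ⊓ St P l₂ := by
  have hL1 : Loc (St P a) (St P l₁) := h₁.loc hC
  have hL2 : Loc (St P a) (St P l₂) := h₂.loc hC
  obtain ⟨u, hu, huQ⟩ := hL1.T_ne_Q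
  have hu2 : u ∉ St P l₂ := by
    intro h
    exact huQ (hL1.inf_le hL2 hne ⟨hu, ⟨hu.1, h⟩⟩)
  refine ⟨mv u l₂, h₂.mv_right hu.1, ?_, ?_⟩
  · rw [St_mv]
    intro heq
    have e1 : cj u (St P a ⊓ St P l₁) = St P a ⊓ St P l₁ := cj_eq_self_of_mem hu
    have e2 : cj u (St P a ⊓ St P l₂) = St P a ⊓ cj u (St P l₂) := by
      rw [cj_inf, cj_eq_self_of_mem hu.1]
    have e3 : cj u (St P a ⊓ St P l₂) = cj u (St P a ⊓ St P l₁) := by rw [e2, heq, e1]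
    exact hne (cj_inj e3).symm
  · rw [St_mv]
    exact (hL2.cj_T_ne hu.1 hu2).symm

/-- an element of the third edge group outside `O₂` swaps the other two neighbours -/
theorem swap (hC : Ctx P) {a l₁ l₂ l₃ : G × Bool} (h₁ : Adj P a l₁) (h₂ : Adj P a l₂)
    (h₃ : Adj P a l₃) (h12 : St P a ⊓ St P l₁ ≠ St P a ⊓ St P l₂)
    (h31 : St P a ⊓ St P l₃ ≠ St P a ⊓ St P l₁) (h32 : St P a ⊓ St P l₃ ≠ St P a ⊓ St P l₂)
    {s : G} (hs : s ∈ St P a ⊓ St P l₃) (hsQ : s ∉ pCoreOf 2 (St P a)) :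
    cj s (St P l₁) = St P l₂ := by
  have hL1 : Loc (St P a) (St P l₁) := h₁.loc hC
  have hL3 : Loc (St P a) (St P l₃) := h₃.loc hC
  obtain ⟨g₂, hg₂, hg₂e⟩ := h₁.exists_mv h₂
  obtain ⟨g₃, hg₃, hg₃e⟩ := h₁.exists_mv h₃
  have key : ∀ g : G, g ∈ St P a ⊓ St P l₁ → cj g (St P l₁) = St P l₁ :=
    fun g hg => cj_eq_self_of_mem hg.2
  have hg₂T : g₂ ∉ St P a ⊓ St P l₁ := by
    intro h
    rw [key g₂ h] at hg₂e
    exact h12 (by rw [hg₂e])
  have hg₃T : g₃ ∉ St P a ⊓ St P l₁ := by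
    intro h
    rw [key g₃ h] at hg₃e
    exact h31 (by rw [hg₃e])
  have hg₂₃ : g₂⁻¹ * g₃ ∉ St P a ⊓ St P l₁ := by
    intro h
    have h1 := key _ h
    rw [← cj_mul] at h1
    have h2 : cj g₃ (St P l₁) = cj g₂ (St P l₁) := by
      have := congrArg (cj g₂) h1
      rwa [cj_cj_inv] at this
    rw [← hg₂e, ← hg₃e] at h2
    exact h32 (by rw [h2])
  rcases three_cosets hL1.idxT hg₂ hg₃ hg₂T hg₃T hg₂₃ hs.1 with h | h | h
  · exact absurd (hL3.inf_le hL1 h31 ⟨hs, h⟩) hsQ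
  · have h1 := key _ h
    rw [← cj_mul] at h1
    have h2 : cj s (St P l₁) = cj g₂ (St P l₁) := by
      have := congrArg (cj g₂) h1
      rwa [cj_cj_inv] at this
    rw [h2, ← hg₂e]
  · exfalso
    have h1 := key _ h
    rw [← cj_mul] at h1
    have h2 : cj s (St P l₁) = cj g₃ (St P l₁) := by
      have := congrArg (cj g₃) h1
      rwa [cj_cj_inv] at this
    rw [← hg₃e] at h2
    have h3 : cj s (St P l₃) = St P l₃ := cj_eq_self_of_mem hs.2
    have h4 : St P l₁ = St P l₃ := cj_inj (h2.trans h3.symm)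
    exact h31 (by rw [h4])

/-- the group is transitive on arcs with first vertex of a given type -/
theorem exists_conj_arc {v w v' w' : G × Bool} (h : Adj P v w) (h' : Adj P v' w')
    (hty : v'.2 = v.2) :
    ∃ g : G, ((mv g v).2 = v'.2 ∧ v'.1⁻¹ * (mv g v).1 ∈ P v'.2) ∧
      ((mv g w).2 = w'.2 ∧ w'.1⁻¹ * (mv g w).1 ∈ P w'.2) := by
  obtain ⟨h1, k, hk1, hk2⟩ := h
  obtain ⟨h1', k', hk1', hk2'⟩ := h'
  have hw2 : w'.2 = w.2 := by rw [h1', h1, hty]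
  refine ⟨k' * k⁻¹, ⟨hty.symm, ?_⟩, ⟨hw2.symm, ?_⟩⟩
  · show v'.1⁻¹ * (k' * k⁻¹ * v.1) ∈ P v'.2
    have e : v'.1⁻¹ * (k' * k⁻¹ * v.1) = (k'⁻¹ * v'.1)⁻¹ * (k⁻¹ * v.1) := by group
    rw [e]
    refine mul_mem (inv_mem hk1') ?_
    rw [hty]; exact hk1
  · show w'.1⁻¹ * (k' * k⁻¹ * w.1) ∈ P w'.2
    have e : w'.1⁻¹ * (k' * k⁻¹ * w.1) = (k'⁻¹ * w'.1)⁻¹ * (k⁻¹ * w.1) := by group
    rw [e]
    refine mul_mem (inv_mem hk2') ?_
    rw [hw2]; exact hk2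

end Cfsg.Agent.Lib.Helper8.Ph
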