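import Mathlib
import Cfsg.Agent.Lib.Helper8.Ph4

/-! # The `(S₃, S₃)`-amalgam without symmetry: the parity argument

If the first vertex of a minimal critical walk `x 0, …, x b` (`b ≥ 3`) has property (P), then the
sibling of `x 0` below `x 1` is critical with `x b` as well, and hence
`[Z_{x 0}, G_{x 0} ∩ G_{x 1}]` is normal in `G_{x 1}`. -/

set_option autoImplicit false
open scoped commutatorElement
open Cfsg
open Cfsg.Agent.Lib.Helper3.JC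
open Cfsg.Agent.Lib.Helper7.Am

namespace Cfsg.Agent.Lib.Helper8.Ph

variable {G : Type*} [Group G] {P : Bool → Subgroup G}

/-- `Z_{x b}` lies in `O₂` of every neighbour of `x 3` -/
theorem L3 {n : ℕ} {x : ℕ → G × Bool} (hC : Ctx P) (hc : Crit P (n + 3) x) {w : G}
    (hw : w ∈ St P (x 2)) (hwe : cj w (St P (x 1)) = St P (x 3)) {τ : G}
    (hτ : τ ∈ omegaCenterOf (pCoreOf 2 (St P (x (n + 3))))) :
    w⁻¹ * τ * w ∈ pCoreOf 2 (St P (x 0)) := by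
  have hA01 : Adj P (x 0) (x 1) := hc.walk 0 (by omega)
  have hA21 : Adj P (x 2) (x 1) := (hc.walk 1 (by omega)).symm
  have hA23 : Adj P (x 2) (x 3) := hc.walk 2 (by omega)
  have h1 : Adj P (x 2) (mv w (x 1)) := hA21.mv_right hw
  have hT : St P (x 2) ⊓ St P (mv w (x 1)) = St P (x 2) ⊓ St P (x 3) := by
    rw [St_mv, hwe]
  have h2 : Adj P (mv w (x 1)) (mv w (x 0)) := hA01.symm.mv w
  have h3 : Adj P (x 3) (mv w (x 0)) := h1.congr hC hA23 hT h2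
  have hw' : IsWalk P (fun j => x (j + 3)) n := isWalk_drop 3 hc.walk
  have hw'' : IsWalk P (Cfsg.Agent.Lib.Helper7.Am.cons (mv w (x 0)) (fun j => x (j + 3))) (n + 1) :=
    hw'.cons h3.symm
  have h4 := (hc.min.le hw'' (i := 0) (j := n + 1) (by omega) le_rfl (by omega)).2
  rw [cons_zero, cons_succ, St_mv, ← cj_pCoreOf] at h4
  exact mem_cj.mp (h4 hτ)

/-- the sibling of `x 0` is critical with `x b` -/
theorem sibling {n : ℕ} {x : ℕ → G × Bool} (hC : Ctx P) (hc : Crit P (n + 3) x)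
    (hP : PPb P (x 0).2) {t z : G} (ht : t ∈ omegaCenterOf (pCoreOf 2 (St P (x (n + 3)))))
    (htQ : t ∉ pCoreOf 2 (St P (x 0))) (hz : z ∈ pCoreOf 2 (St P (x 2)))
    (hzQ : z ∉ pCoreOf 2 (St P (x 1))) :
    t ∉ cj z (pCoreOf 2 (St P (x 0))) := by
  intro hA1
  have hA01 : Adj P (x 0) (x 1) := hc.walk 0 (by omega)
  have hA12 : Adj P (x 1) (x 2) := hc.walk 1 (by omega)
  have hA23 : Adj P (x 2) (x 3) := hc.walk 2 (by omega)
  have h01 : Loc (St P (x 0)) (St P (x 1)) := hA01.loc hC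
  have h10 : Loc (St P (x 1)) (St P (x 0)) := hA01.symm.loc hC
  have h12 : Loc (St P (x 1)) (St P (x 2)) := hA12.loc hC
  have h21 : Loc (St P (x 2)) (St P (x 1)) := hA12.symm.loc hC
  have h23 : Loc (St P (x 2)) (St P (x 3)) := hA23.loc hC
  have hty2 : (x 2).2 = (x 0).2 := walk_type_even hc.walk 1 (by omega)
  have hP2 : PPb P (x 2).2 := by rw [hty2]; exact hP
  have hD : Kv P 2 (x 2) = pCoreOf 2 (St P (x 2)) ⊓ pCoreOf 2 (St P (x 1)) :=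
    Kv_two hC hP2 hA12.symm
  have hne12 : St P (x 2) ⊓ St P (x 1) ≠ St P (x 2) ⊓ St P (x 3) :=
    nonbacktrack' hC hc (i := 1) (by omega)
  -- the basic memberships of `t` and `z`
  have htQ1 : t ∈ pCoreOf 2 (St P (x 1)) :=
    (hc.min.le hc.walk (i := 1) (j := n + 3) (by omega) le_rfl (by omega)).2 ht
  have htQ2 : t ∈ pCoreOf 2 (St P (x 2)) :=
    (hc.min.le hc.walk (i := 2) (j := n + 3) (by omega) le_rfl (by omega)).2 ht
  have htD : t ∈ Kv P 2 (x 2) := by rw [hD]; exact ⟨htQ2, htQ1⟩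
  have hz2 : z ∈ St P (x 2) := h21.Q_le_H hz
  have hz1 : z ∈ St P (x 1) := h21.QK hz
  have hz3 : z ∈ St P (x 3) := h23.QK hz
  have hzz : z * z ∈ pCoreOf 2 (St P (x 1)) := by
    rw [h12.mul_mem_Q_iff ⟨hz1, hz2⟩ ⟨hz1, hz2⟩]
  have hzz0 : z * z ∈ St P (x 0) := h10.QK hzz
  -- `z t z⁻¹ ∈ O₂(G_{x 0})`
  have hA1' : z * t * z⁻¹ ∈ pCoreOf 2 (St P (x 0)) := by
    have h1 : z⁻¹ * t * z ∈ pCoreOf 2 (St P (x 0)) := mem_cj.mp hA1
    have h2 := h01.nzHQ (z * z) hzz0 _ h1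
    have e : z * z * (z⁻¹ * t * z) * (z * z)⁻¹ = z * t * z⁻¹ := by group
    rwa [e] at h2
  -- the third neighbour and the critical walk through it
  obtain ⟨l₃, hl₃, h31, h32⟩ := exists_third hC hA12.symm hA23 hne12
  obtain ⟨g, ⟨hg1, hg2⟩, ⟨hg3, hg4⟩⟩ := exists_conj_arc hA01 hl₃ hty2
  have hcy : Crit P (n + 3) (fun j => mv g (x j)) := crit_mv hc g
  have hK : ∀ r, Kv P r (mv g (x 0)) = Kv P r (x 2) := fun r => Kv_congr r hg1 hg2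
  have hSt0 : St P (mv g (x 0)) = St P (x 2) := St_congr hg1 hg2
  have hSt1 : St P (mv g (x 1)) = St P l₃ := St_congr hg3 hg4
  have hPy : PPb P (mv g (x 0)).2 := hP
  obtain ⟨s, hs, hsQ⟩ := SetLike.not_le_iff_exists.mp (hcy.crit' (n := n + 2) hC)
  have hsT := hcy.Zb_le (n := n + 2) hC hs
  have hsT' : s ∈ St P (x 2) ⊓ St P l₃ := by
    have h1 : s ∈ St P (mv g (x 0)) ⊓ St P (mv g (x 1)) := hsT
    rwa [hSt0, hSt1] at h1
  have hsQ' : s ∉ pCoreOf 2 (St P (x 2)) := by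
    have h1 : s ∉ pCoreOf 2 (St P (mv g (x 0))) := hsQ
    rwa [hSt0] at h1
  have hss : s * s = 1 := (hcy.locb (n := n + 2) hC).Z_sq hs
  have hsinv : s⁻¹ = s := inv_eq_of_mul_eq_one_left hss
  have hT1 := (tight (n := n + 1) hC hcy hPy hs hsQ).2
  have hT1' : ∀ f₁ ∈ Kv P 2 (x 2), ∀ f₂ ∈ Kv P 2 (x 2),
      ⁅f₁, s⁆ ∈ Kv P 3 (x 2) ∨ ⁅f₂, s⁆ ∈ Kv P 3 (x 2) ∨ ⁅f₁⁻¹ * f₂, s⁆ ∈ Kv P 3 (x 2) := by
    intro f₁ hf₁ f₂ hf₂
    have h1 := hT1 f₁ (by rw [hK]; exact hf₁) f₂ (by rw [hK]; exact hf₂)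
    rwa [hK] at h1
  -- `s` swaps `x 1` and `x 3`
  have hswap : cj s (St P (x 1)) = St P (x 3) :=
    swap hC hA12.symm hA23 hl₃ hne12 h31 h32 hsT' hsQ'
  have hswap' : cj s⁻¹ (St P (x 1)) = St P (x 3) := by rw [hsinv]; exact hswap
  have hs2 : s ∈ St P (x 2) := hsT'.1
  -- the elements `w` with `w • x 1 = x 3`
  have hw1 : cj (z⁻¹ * s⁻¹ * z) (St P (x 1)) = St P (x 3) := by
    rw [← cj_mul, ← cj_mul, cj_eq_self_of_mem hz1, hswap', cj_eq_self_of_mem (inv_mem hz3)]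
  have hw2 : cj (z⁻¹ * s⁻¹) (St P (x 1)) = St P (x 3) := by
    rw [← cj_mul, hswap', cj_eq_self_of_mem (inv_mem hz3)]
  have hti : t⁻¹ ∈ omegaCenterOf (pCoreOf 2 (St P (x (n + 3)))) := inv_mem ht
  have m1 : s * t⁻¹ * s⁻¹ ∈ pCoreOf 2 (St P (x 0)) := by
    have := L3 hC hc (inv_mem hs2) hswap' hti
    rwa [inv_inv] at this
  have m1' : s * t * s⁻¹ ∈ pCoreOf 2 (St P (x 0)) := by
    have := L3 hC hc (inv_mem hs2) hswap' ht
    rwa [inv_inv] at this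
  have m2 : (z⁻¹ * s⁻¹ * z)⁻¹ * t⁻¹ * (z⁻¹ * s⁻¹ * z) ∈ pCoreOf 2 (St P (x 0)) :=
    L3 hC hc (mul_mem (mul_mem (inv_mem hz2) (inv_mem hs2)) hz2) hw1 hti
  have m3 : (z⁻¹ * s⁻¹)⁻¹ * t⁻¹ * (z⁻¹ * s⁻¹) ∈ pCoreOf 2 (St P (x 0)) :=
    L3 hC hc (mul_mem (inv_mem hz2) (inv_mem hs2)) hw2 hti
  -- everything lives in `G_{x 0} ∩ G_{x 1}`
  have hQT : pCoreOf 2 (St P (x 1)) ≤ St P (x 0) ⊓ St P (x 1) := by
    have := h10.Q_le_T
    rwa [inf_comm] at this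
  have hQ0T : pCoreOf 2 (St P (x 0)) ≤ St P (x 0) ⊓ St P (x 1) := h01.Q_le_T
  have htT : t ∈ St P (x 0) ⊓ St P (x 1) := hQT htQ1
  -- `Kv 3 (x 2)` lies in both `O₂`'s
  have hK3a : Kv P 3 (x 2) ≤ pCoreOf 2 (St P (x 0)) := by
    have h1 : Kv P 3 (x 2) ≤ Kv P 2 (x 1) := Kv_adj hC hA12.symm
    have h2 : Kv P 2 (x 1) ≤ Kv P 1 (x 0) := Kv_adj hC hA01.symm
    rw [Kv_one] at h2
    exact h1.trans h2
  have hK3b : Kv P 3 (x 2) ≤ cj z (pCoreOf 2 (St P (x 0))) := by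
    have h1 : Kv P 3 (x 2) ≤ Kv P 2 (x 1) := Kv_adj hC hA12.symm
    have h2 : Kv P 2 (x 1) ≤ Kv P 1 (mv z (x 0)) := Kv_adj hC (hA01.symm.mv_right hz1)
    rw [Kv_one, St_mv, ← cj_pCoreOf] at h2
    exact h1.trans h2
  have hf2D : z * t * z⁻¹ ∈ Kv P 2 (x 2) := nz_Kv 2 (x 2) z hz2 t htD
  rcases hT1' t htD (z * t * z⁻¹) hf2D with h | h | h
  · -- first case
    have h1 := hK3a h
    have e : ⁅t, s⁆ = t * (s * t⁻¹ * s⁻¹) := by rw [commutatorElement_def]; group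
    rw [e, h01.mul_mem_Q_iff htT (hQ0T m1)] at h1
    exact htQ (h1.mpr m1)
  · -- second case
    have h1 := mem_cj.mp (hK3b h)
    have e : z⁻¹ * ⁅z * t * z⁻¹, s⁆ * z =
        t * ((z⁻¹ * s⁻¹ * z)⁻¹ * t⁻¹ * (z⁻¹ * s⁻¹ * z)) := by
      rw [commutatorElement_def]; group
    rw [e, h01.mul_mem_Q_iff htT (hQ0T m2)] at h1
    exact htQ (h1.mpr m2)
  · -- third case
    have h1 := hK3a h
    have hf3 : t⁻¹ * (z * t * z⁻¹) ∉ pCoreOf 2 (St P (x 0)) := by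
      rw [h01.mul_mem_Q_iff (inv_mem htT) (hQ0T hA1')]
      intro h2
      exact htQ (inv_mem_iff.mp (h2.mpr hA1'))
    have hm : s * (t⁻¹ * (z * t * z⁻¹))⁻¹ * s⁻¹ ∈ pCoreOf 2 (St P (x 0)) := by
      have e : s * (t⁻¹ * (z * t * z⁻¹))⁻¹ * s⁻¹ =
          ((z⁻¹ * s⁻¹)⁻¹ * t⁻¹ * (z⁻¹ * s⁻¹)) * (s * t * s⁻¹) := by group
      rw [e]
      exact mul_mem m3 m1'
    have hf3T : t⁻¹ * (z * t * z⁻¹) ∈ St P (x 0) ⊓ St P (x 1) :=
      mul_mem (inv_mem htT) (hQ0T hA1')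
    have e : ⁅t⁻¹ * (z * t * z⁻¹), s⁆ =
        (t⁻¹ * (z * t * z⁻¹)) * (s * (t⁻¹ * (z * t * z⁻¹))⁻¹ * s⁻¹) := by
      rw [commutatorElement_def]; group
    rw [e, h01.mul_mem_Q_iff hf3T (hQ0T hm)] at h1
    exact hf3 (h1.mpr hm)

end Cfsg.Agent.Lib.Helper8.Ph
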