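import Mathlib
import Cfsg.Agent.Lib.Helper8.Ph5

/-! # The `(S₃, S₃)`-amalgam without symmetry: the phantom configuration is impossible

If the first vertex of a minimal critical walk of length `b ≥ 3` has property (P) (and, for odd
`b`, the other type does not), we reach a contradiction. -/

set_option autoImplicit false
open scoped commutatorElement
open Cfsg
open Cfsg.Agent.Lib.Helper3.JC
open Cfsg.Agent.Lib.Helper7.Am

namespace Cfsg.Agent.Lib.Helper8.Ph

variable {G : Type*} [Group G] {P : Bool → Subgroup G}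

/-- the commutator `[Z_v, G_v ∩ G_w]` -/
def Rr (P : Bool → Subgroup G) (v w : G × Bool) : Subgroup G :=
  ⁅omegaCenterOf (pCoreOf 2 (St P v)), St P v ⊓ St P w⁆

theorem Rr_mv (g : G) (v w : G × Bool) : Rr P (mv g v) (mv g w) = cj g (Rr P v w) := by
  unfold Rr
  rw [St_mv, St_mv, ← cj_pCoreOf, ← cj_omegaCenterOf, ← cj_inf, ← cj_commutator]

theorem nz_Rr (hC : Ctx P) {v w : G × Bool} (h : Adj P v w) : Nz (St P v ⊓ St P w) (Rr P v w) :=
  ((h.loc hC).nzHZ.mono inf_le_left).commutator (nz_self _)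

theorem Rr_le (hC : Ctx P) {v w : G × Bool} (h : Adj P v w) :
    Rr P v w ≤ omegaCenterOf (pCoreOf 2 (St P v)) := by
  unfold Rr
  rw [Subgroup.commutator_le]
  intro z hz g hg
  have e : ⁅z, g⁆ = z * (g * z⁻¹ * g⁻¹) := by rw [commutatorElement_def]; group
  rw [e]
  exact mul_mem hz ((h.loc hC).nzHZ g hg.1 _ (inv_mem hz))

theorem Rr_ne_bot (hC : Ctx P) {v w : G × Bool} (h : Adj P v w) : Rr P v w ≠ ⊥ := by
  intro hbot
  apply (h.loc hC).comm_not_central
  show Rr P v w ≤ _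
  rw [hbot]
  exact bot_le

/-- the two ends of a critical walk give the same commutator -/
theorem Rr_ends {n : ℕ} {x : ℕ → G × Bool} (hC : Ctx P) (hc : Crit P (n + 1) x) :
    Rr P (x (n + 1)) (x n) = Rr P (x 0) (x 1) := by
  unfold Rr
  rw [hc.commb hC, hc.comm0 hC, Subgroup.commutator_comm]

/-- if `G_w` contains an element outside `G_v` normalizing `[Z_v, G_v ∩ G_w]`, then `G_w`
normalizes it -/
theorem nz_of_mem (hC : Ctx P) {v w : G × Bool} (h : Adj P v w) {R : Subgroup G}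
    (hR : Nz (St P w ⊓ St P v) R) {z : G} (hz : z ∈ St P w) (hzv : z ∉ St P v)
    (hzR : cj z R = R) : Nz (St P w) R := by
  have hl : Loc (St P w) (St P v) := h.symm.loc hC
  have h1 : St P w ⊓ St P v ≤ St P w ⊓ Subgroup.normalizer (R : Set G) :=
    le_inf inf_le_left hR.le_normalizer
  rcases hl.dich h1 inf_le_left with h2 | h2
  · exfalso
    have : z ∈ St P w ⊓ Subgroup.normalizer (R : Set G) := ⟨hz, mem_normalizer_of_cj_eq hzR⟩
    exact hzv (h2 this).2
  · exact nz_of_le_normalizer (h2.trans inf_le_right)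

/-- **Step 5**: `[Z_{x 0}, G_{x 0} ∩ G_{x 1}]` is normal in `G_{x 1}` -/
theorem N1 {n : ℕ} {x : ℕ → G × Bool} (hC : Ctx P) (hc : Crit P (n + 3) x)
    (hP : PPb P (x 0).2) : Nz (St P (x 1)) (Rr P (x 0) (x 1)) := by
  have hA01 : Adj P (x 0) (x 1) := hc.walk 0 (by omega)
  have hA12 : Adj P (x 1) (x 2) := hc.walk 1 (by omega)
  have h01 : Loc (St P (x 0)) (St P (x 1)) := hA01.loc hC
  have h10 : Loc (St P (x 1)) (St P (x 0)) := hA01.symm.loc hC
  have h12 : Loc (St P (x 1)) (St P (x 2)) := hA12.loc hC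
  have h21 : Loc (St P (x 2)) (St P (x 1)) := hA12.symm.loc hC
  obtain ⟨t, ht, htQ⟩ := SetLike.not_le_iff_exists.mp (hc.crit' (n := n + 2) hC)
  obtain ⟨z, hz, hzQ⟩ := SetLike.not_le_iff_exists.mp (Q_not_le hC hA12.symm)
  have hz1 : z ∈ St P (x 1) := h21.QK hz
  have hz2 : z ∈ St P (x 2) := h21.Q_le_H hz
  have hne01 : St P (x 1) ⊓ St P (x 0) ≠ St P (x 1) ⊓ St P (x 2) :=
    nonbacktrack' hC hc (i := 0) (by omega)
  have hz0 : z ∉ St P (x 0) := by
    intro h
    exact hzQ (h10.inf_le h12 hne01 ⟨⟨hz1, h⟩, ⟨hz1, hz2⟩⟩)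
  have hsib := sibling hC hc hP ht htQ hz hzQ
  -- the new critical walk
  have hA' : Adj P (mv z (x 0)) (x 1) := (hA01.symm.mv_right hz1).symm
  have hw' : IsWalk P (fun j => x (j + 1)) (n + 2) := isWalk_tail hc.walk
  have hw'' : IsWalk P (Cfsg.Agent.Lib.Helper7.Am.cons (mv z (x 0)) (fun j => x (j + 1))) (n + 3) :=
    hw'.cons hA'
  have htQ1 : omegaCenterOf (pCoreOf 2 (St P (x (n + 3)))) ≤ pCoreOf 2 (St P (x 1)) :=
    (hc.min.le hc.walk (i := 1) (j := n + 3) (by omega) le_rfl (by omega)).2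
  have hcrit'' : ¬ omegaCenterOf (pCoreOf 2 (St P (mv z (x 0)))) ≤
      pCoreOf 2 (St P (x (n + 3))) := by
    have hlb : Loc (St P (x (n + 3))) (St P (x (n + 2))) := hc.locb (n := n + 2) hC
    have hl0 : Loc (St P (mv z (x 0))) (St P (x 1)) := hA'.loc hC
    have hl0' : Loc (St P (x 1)) (St P (mv z (x 0))) := hA'.symm.loc hC
    apply crit_symm hlb hl0 (htQ1.trans hl0'.QK)
    intro hle
    have := hle ht
    rw [St_mv, ← cj_pCoreOf] at this
    exact hsib this
  have hc'' : Crit P (n + 3) (Cfsg.Agent.Lib.Helper7.Am.cons (mv z (x 0)) (fun j => x (j + 1))) :=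
    ⟨hc.min, hw'', hcrit''⟩
  have e1 := Rr_ends (n := n + 2) hC hc
  have e2 : Rr P (x (n + 3)) (x (n + 2)) = Rr P (mv z (x 0)) (x 1) :=
    Rr_ends (n := n + 2) hC hc''
  have e3 : Rr P (mv z (x 0)) (x 1) = Rr P (x 0) (x 1) := by
    rw [← e2]
    exact e1
  have e4 : cj z (Rr P (x 0) (x 1)) = Rr P (x 0) (x 1) := by
    rw [← Rr_mv]
    have e5 : Rr P (mv z (x 0)) (mv z (x 1)) = Rr P (mv z (x 0)) (x 1) := by
      unfold Rr
      rw [St_mv z (x 1), cj_eq_self_of_mem hz1]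
    rw [e5, e3]
  have hR : Nz (St P (x 1) ⊓ St P (x 0)) (Rr P (x 0) (x 1)) := by
    rw [inf_comm]; exact nz_Rr hC hA01
  exact nz_of_mem hC hA01 hR hz1 hz0 e4

end Cfsg.Agent.Lib.Helper8.Ph
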