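import Mathlib
import Cfsg.Agent.Lib.Helper8.Ph6

/-! # The `(S₃, S₃)`-amalgam without symmetry: the phantom configuration is impossible -/

set_option autoImplicit false
open scoped commutatorElement
open Cfsg
open Cfsg.Agent.Lib.Helper3.JC
open Cfsg.Agent.Lib.Helper7.Am

namespace Cfsg.Agent.Lib.Helper8.Ph

variable {G : Type*} [Group G] {P : Bool → Subgroup G}

/-- tightness of the upper chain: an element fixing `x 0, …, x (2k+1)` (and the neighbours of
`x 1` and of `x (2k+1)`) which moves the neighbours of `x (2k+2)` -/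
theorem drop {n : ℕ} {x : ℕ → G × Bool} (hC : Ctx P) (hc : Crit P (n + 3) x)
    (hP : PPb P (x 0).2) {k : ℕ} (hk : 2 * k + 2 ≤ n + 3) :
    ∃ g : G, g ∈ pCoreOf 2 (St P (x 1)) ∧ g ∈ pCoreOf 2 (St P (x (2 * k + 1))) ∧
      g ∉ pCoreOf 2 (St P (x (2 * k + 2))) := by
  obtain ⟨t, ht, htQ⟩ := SetLike.not_le_iff_exists.mp (hc.crit' (n := n + 2) hC)
  obtain ⟨g, hg, hgQ⟩ := (tight (n := n + 1) hC hc hP ht htQ).1 k hk
  refine ⟨g, ?_, ?_, hgQ⟩
  · have h1 : Kv P 2 (x 0) ≤ Kv P 1 (x 1) := Kv_adj hC (hc.walk 0 (by omega))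
    rw [Kv_one] at h1
    exact h1 (Ech_le_zero x k hg)
  · have h1 : Kv P 2 (x (2 * k)) ≤ Kv P 1 (x (2 * k + 1)) :=
      Kv_adj hC (hc.walk (2 * k) (by omega))
    rw [Kv_one] at h1
    exact h1 (Ech_le x k hg)

/-- the phantom configuration with even critical distance -/
theorem phantom_even {n : ℕ} {x : ℕ → G × Bool} (hC : Ctx P) (hc : Crit P (n + 3) x)
    (hP : PPb P (x 0).2) (hev : Even (n + 3)) : False := by
  obtain ⟨m, hm⟩ := hev
  have hA01 : Adj P (x 0) (x 1) := hc.walk 0 (by omega)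
  have hAn : Adj P (x n) (x (n + 1)) := hc.walk n (by omega)
  have hAn1 : Adj P (x (n + 1)) (x (n + 2)) := hc.walk (n + 1) (by omega)
  have hAn2 : Adj P (x (n + 2)) (x (n + 3)) := hc.walk (n + 2) (by omega)
  have hN1 := N1 hC hc hP
  -- the reversed walk
  have hcr : Crit P (n + 3) (fun j => x (n + 3 - j)) := crit_rev (n := n + 2) hC hc
  have hty : (x (n + 3)).2 = (x 0).2 := by
    have := walk_type_even hc.walk m (by omega)
    have e : 2 * m = n + 3 := by omega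
    rwa [e] at this
  have hPr : PPb P ((fun j => x (n + 3 - j)) 0).2 := by
    show PPb P (x (n + 3 - 0)).2
    rw [Nat.sub_zero, hty]; exact hP
  have hN1r : Nz (St P (x (n + 2))) (Rr P (x (n + 3)) (x (n + 2))) := N1 hC hcr hPr
  rw [Rr_ends (n := n + 2) hC hc] at hN1r
  -- the element `g`
  have hk : 2 * (m - 2) + 2 ≤ n + 3 := by omega
  obtain ⟨g, hg1, hg2, hg3⟩ := drop hC hc hP hk
  have e2 : 2 * (m - 2) + 1 = n := by omega
  have e3 : 2 * (m - 2) + 2 = n + 1 := by omega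
  rw [e2] at hg2
  rw [e3] at hg3
  have hgS1 : g ∈ St P (x 1) := (hA01.symm.loc hC).Q_le_H hg1
  have hgR : cj g (Rr P (x 0) (x 1)) = Rr P (x 0) (x 1) := cj_eq_self_of_nz hN1 hgS1
  have hln : Loc (St P (x n)) (St P (x (n + 1))) := hAn.loc hC
  have hl1 : Loc (St P (x (n + 1))) (St P (x n)) := hAn.symm.loc hC
  have hl2 : Loc (St P (x (n + 1))) (St P (x (n + 2))) := hAn1.loc hC
  have hgT : g ∈ St P (x (n + 1)) ⊓ St P (x n) := by
    have := hln.Q_le_T hg2
    exact ⟨this.2, this.1⟩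
  have hne : St P (x (n + 1)) ⊓ St P (x n) ≠ St P (x (n + 1)) ⊓ St P (x (n + 2)) :=
    nonbacktrack' hC hc (i := n) (by omega)
  have hg4 : g ∉ St P (x (n + 2)) := by
    intro h
    exact hg3 (hl1.inf_le hl2 hne ⟨hgT, ⟨hgT.1, h⟩⟩)
  have hnz1 : Nz (St P (x (n + 1))) (Rr P (x 0) (x 1)) :=
    nz_of_mem hC hAn1.symm (hN1r.mono inf_le_right) hgT.1 hg4 hgR
  -- `R ≤ G_{x (n+1)} ∩ G_{x (n+2)}`
  have hRT : Rr P (x 0) (x 1) ≤ St P (x (n + 1)) ⊓ St P (x (n + 2)) := by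
    rw [← Rr_ends (n := n + 2) hC hc]
    have h1 := Rr_le hC hAn2.symm
    have h2 := (hc.min.le hc.walk (i := n + 2) (j := n + 3) (by omega) le_rfl (by omega)).2
    have h3 := (hAn1.symm.loc hC).Q_le_T
    rw [inf_comm] at h3
    exact h1.trans (h2.trans h3)
  exact Rr_ne_bot hC hA01 (hC.core_edge hAn1 hRT hnz1 hN1r)

/-- the phantom configuration with odd critical distance -/
theorem phantom_odd {n : ℕ} {x : ℕ → G × Bool} (hC : Ctx P) (hc : Crit P (n + 3) x)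
    (hP : PPb P (x 0).2) (hPB : ¬ PPb P (!(x 0).2)) (hodd : Odd (n + 3)) : False := by
  obtain ⟨m, hm⟩ := hodd
  have hA01 : Adj P (x 0) (x 1) := hc.walk 0 (by omega)
  have hA12 : Adj P (x 1) (x 2) := hc.walk 1 (by omega)
  have hA23 : Adj P (x 2) (x 3) := hc.walk 2 (by omega)
  have hAn1 : Adj P (x (n + 1)) (x (n + 2)) := hc.walk (n + 1) (by omega)
  have hAn2 : Adj P (x (n + 2)) (x (n + 3)) := hc.walk (n + 2) (by omega)
  have hN1 := N1 hC hc hP
  -- first element: `R` is normal in `G_{x (n+2)}`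
  have hk : 2 * (m - 1) + 2 ≤ n + 3 := by omega
  obtain ⟨g, hg1, hg2, hg3⟩ := drop hC hc hP hk
  have e2 : 2 * (m - 1) + 1 = n + 1 := by omega
  have e3 : 2 * (m - 1) + 2 = n + 2 := by omega
  rw [e2] at hg2
  rw [e3] at hg3
  have hgS1 : g ∈ St P (x 1) := (hA01.symm.loc hC).Q_le_H hg1
  have hgR : cj g (Rr P (x 0) (x 1)) = Rr P (x 0) (x 1) := cj_eq_self_of_nz hN1 hgS1
  have hgT : g ∈ St P (x (n + 2)) ⊓ St P (x (n + 1)) := by
    have := (hAn1.loc hC).Q_le_T hg2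
    exact ⟨this.2, this.1⟩
  have hne : St P (x (n + 2)) ⊓ St P (x (n + 1)) ≠ St P (x (n + 2)) ⊓ St P (x (n + 3)) :=
    nonbacktrack' hC hc (i := n + 1) (by omega)
  have hg4 : g ∉ St P (x (n + 3)) := by
    intro h
    exact hg3 ((hAn1.symm.loc hC).inf_le (hAn2.loc hC) hne ⟨hgT, ⟨hgT.1, h⟩⟩)
  have hRb : Nz (St P (x (n + 2)) ⊓ St P (x (n + 3))) (Rr P (x 0) (x 1)) := by
    rw [← Rr_ends (n := n + 2) hC hc, inf_comm]
    exact nz_Rr hC hAn2.symm
  have hnz2 : Nz (St P (x (n + 2))) (Rr P (x 0) (x 1)) :=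
    nz_of_mem hC hAn2.symm hRb hgT.1 hg4 hgR
  -- the reversed walk is shiftable
  have hcr : Crit P (n + 3) (fun j => x (n + 3 - j)) := crit_rev (n := n + 2) hC hc
  have e0 : (fun j => x (n + 3 - j)) 0 = x (n + 3) := rfl
  have e1 : (fun j => x (n + 3 - j)) 1 = x (n + 2) := by
    show x (n + 3 - 1) = x (n + 2)
    congr 1
  have en : (fun j => x (n + 3 - j)) n = x 3 := by
    show x (n + 3 - n) = x 3
    congr 1; omega
  have en1 : (fun j => x (n + 3 - j)) (n + 1) = x 2 := by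
    show x (n + 3 - (n + 1)) = x 2
    congr 1; omega
  have en2 : (fun j => x (n + 3 - j)) (n + 2) = x 1 := by
    show x (n + 3 - (n + 2)) = x 1
    congr 1; omega
  have htyb : (x (n + 3)).2 = (!(x 0).2) := by
    have := walk_type_odd hc.walk m (by omega)
    have e : 2 * m + 1 = n + 3 := by omega
    rwa [e] at this
  obtain ⟨lam, hlam, hnel⟩ := exists_other hC (hcr.walk 0 (by omega))
  have hsh : ¬ omegaCenterOf (pCoreOf 2 (St P lam)) ≤
      pCoreOf 2 (St P ((fun j => x (n + 3 - j)) (n + 2))) := by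
    intro hun
    have h1 := unshift (n := n + 1) hC hcr hlam hnel hun
    have h2 : PPb P (x (n + 3)).2 := (pp_iff (hcr.walk 0 (by omega))).mp h1
    rw [htyb] at h2
    exact hPB h2
  have hcy : Crit P (n + 3) (Cfsg.Agent.Lib.Helper7.Am.cons lam (fun j => x (n + 3 - j))) :=
    hcr.shift (n := n + 2) hlam hsh
  have htyl : (Cfsg.Agent.Lib.Helper7.Am.cons lam (fun j => x (n + 3 - j)) 0).2 = (x 0).2 := by
    have h1 : lam.2 = (!(x (n + 3)).2) := hlam.1
    rw [cons_zero, h1, htyb, Bool.not_not]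
  have hPy : PPb P (Cfsg.Agent.Lib.Helper7.Am.cons lam (fun j => x (n + 3 - j)) 0).2 := by
    rw [htyl]; exact hP
  obtain ⟨g', hg1', hg2', hg3'⟩ := drop hC hcy hPy hk
  rw [e2] at hg2'
  rw [e3] at hg3'
  have hg1'' : g' ∈ pCoreOf 2 (St P (x (n + 3))) := hg1'
  have hg2'' : g' ∈ pCoreOf 2 (St P (x 3)) := by
    have : g' ∈ pCoreOf 2 (St P ((fun j => x (n + 3 - j)) n)) := hg2'
    rwa [en] at this
  have hg3'' : g' ∉ pCoreOf 2 (St P (x 2)) := by
    have : g' ∉ pCoreOf 2 (St P ((fun j => x (n + 3 - j)) (n + 1))) := hg3'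
    rwa [en1] at this
  have hg'S : g' ∈ St P (x (n + 2)) := (hAn2.symm.loc hC).QK hg1''
  have hg'R : cj g' (Rr P (x 0) (x 1)) = Rr P (x 0) (x 1) := cj_eq_self_of_nz hnz2 hg'S
  have hg'T : g' ∈ St P (x 2) ⊓ St P (x 3) := by
    have := (hA23.symm.loc hC).Q_le_T hg2''
    exact ⟨this.2, this.1⟩
  have hne' : St P (x 2) ⊓ St P (x 1) ≠ St P (x 2) ⊓ St P (x 3) :=
    nonbacktrack' hC hc (i := 1) (by omega)
  have hg4' : g' ∉ St P (x 1) := by
    intro h
    exact hg3'' ((hA12.symm.loc hC).inf_le (hA23.loc hC) hne' ⟨⟨hg'T.1, h⟩, hg'T⟩)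
  have hnzx2 : Nz (St P (x 2)) (Rr P (x 0) (x 1)) :=
    nz_of_mem hC hA12 (hN1.mono inf_le_right) hg'T.1 hg4' hg'R
  have hRT : Rr P (x 0) (x 1) ≤ St P (x 1) ⊓ St P (x 2) := by
    have h1 := Rr_le hC hA01
    have h2 := (hc.min.le hc.walk (i := 0) (j := 1) (by omega) (by omega) (by omega)).1
    exact h1.trans (h2.trans (hA12.loc hC).Q_le_T)
  exact Rr_ne_bot hC hA01 (hC.core_edge hA12 hRT hN1 hnzx2)

/-- **The phantom configuration is impossible**: a minimal critical walk of length `≥ 3` cannot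
start at a vertex `x 0` with `O₂(G_{x 0}) ∩ O₂(G_{x 1})` normal in `G_{x 0}` unless the same holds
at `x 1` (for even length the second hypothesis is not needed, see `phantom_even`). -/
theorem phantom {n : ℕ} {x : ℕ → G × Bool} (hC : Ctx P) (hc : Crit P (n + 3) x)
    (hPA : Nz (St P (x 0)) (pCoreOf 2 (St P (x 0)) ⊓ pCoreOf 2 (St P (x 1))))
    (hPB : ¬ Nz (St P (x 1)) (pCoreOf 2 (St P (x 1)) ⊓ pCoreOf 2 (St P (x 0)))) : False := by
  have hA01 : Adj P (x 0) (x 1) := hc.walk 0 (by omega)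
  have hP : PPb P (x 0).2 := (pp_iff hA01).mp hPA
  have hPB' : ¬ PPb P (!(x 0).2) := by
    intro h
    apply hPB
    rw [pp_iff hA01.symm, hA01.1]
    exact h
  rcases Nat.even_or_odd (n + 3) with h | h
  · exact phantom_even hC hc hP h
  · exact phantom_odd hC hc hP hPB' h

/-- the even case in the same form -/
theorem phantom_even' {n : ℕ} {x : ℕ → G × Bool} (hC : Ctx P) (hc : Crit P (n + 3) x)
    (hPA : Nz (St P (x 0)) (pCoreOf 2 (St P (x 0)) ⊓ pCoreOf 2 (St P (x 1))))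
    (hev : Even (n + 3)) : False :=
  phantom_even hC hc ((pp_iff (hc.walk 0 (by omega))).mp hPA) hev

end Cfsg.Agent.Lib.Helper8.Ph
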