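import Mathlib
import Cfsg.Prelude.Def_Solvable
import Cfsg.Prelude.Def_Local
import Cfsg.Agent.Lib.Helper7.PCore
import Cfsg.Agent.Lib.Helper7.SylowIn
import Cfsg.Agent.Lib.Helper7.PRedIn6
import Cfsg.Agent.Lib.Helper7.PConstrained2
import Cfsg.Agent.Lib.Helper8.ExtLayer1
import Cfsg.Agent.Lib.Helper8.PComp4
import Cfsg.Agent.Lib.Helper1.FittingCentralizer
import Cfsg.Agent.Lib.Helper1.PLengthOne

/-! The preimage of `O_p(G / C_G(H))` for a normal `p`-subgroup `H` (used for S3076). -/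

set_option autoImplicit false

namespace Cfsg.Agent.Lib.Helper8.PreimOp

open Cfsg Cfsg.Agent.Lib.Helper7

variable {G : Type*} [Group G]

/-- preimage of `O_p(G / C)` -/
def opPre (p : ℕ) (C : Subgroup G) [C.Normal] : Subgroup G :=
  (pCore p (G ⧸ C)).comap (QuotientGroup.mk' C)

theorem opPre_normal (p : ℕ) (C : Subgroup G) [C.Normal] : (opPre p C).Normal := by
  unfold opPre
  haveI := pCore_normal p (G ⧸ C)
  exact Subgroup.Normal.comap inferInstance _

theorem exists_pow_mem_of_mem_opPre (p : ℕ) (C : Subgroup G) [C.Normal] {n : G}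
    (hn : n ∈ opPre p C) : ∃ k : ℕ, n ^ (p ^ k) ∈ C := by
  have hx : (QuotientGroup.mk' C) n ∈ pCore p (G ⧸ C) := Subgroup.mem_comap.mp hn
  obtain ⟨k, hk⟩ := pCore_isPGroup p (G ⧸ C) ⟨_, hx⟩
  refine ⟨k, ?_⟩
  have hk' : ((QuotientGroup.mk' C) n) ^ (p ^ k) = 1 := by
    have := congrArg Subtype.val hk
    simpa using this
  rw [← map_pow, QuotientGroup.mk'_apply, QuotientGroup.eq_one_iff] at hk'
  exact hk'

theorem le_opPre (p : ℕ) (C : Subgroup G) [C.Normal] {M : Subgroup G} (hM : M.Normal)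
    (h : ∀ m ∈ M, ∃ k : ℕ, m ^ (p ^ k) ∈ C) : M ≤ opPre p C := by
  unfold opPre
  rw [← Subgroup.map_le_iff_le_comap]
  apply le_pCore (Subgroup.Normal.map hM _ (QuotientGroup.mk'_surjective C))
  rintro ⟨q, m, hm, rfl⟩
  obtain ⟨k, hk⟩ := h m hm
  refine ⟨k, Subtype.ext ?_⟩
  simp only [Subgroup.coe_pow, Subgroup.coe_one]
  rw [← map_pow, QuotientGroup.mk'_apply, QuotientGroup.eq_one_iff]
  exact hk

theorem pPrimePCore_eq_opPre (p : ℕ) : pPrimePCore p G = opPre p (pPrimeCore p G) := rfl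

theorem main [Finite G] {p : ℕ} [hp : Fact p.Prime] (H : Subgroup G) [hHn : H.Normal]
    (hH : IsPGroup p H) (C : Subgroup G) [hCn : C.Normal]
    (hC : C = Subgroup.centralizer (H : Set G)) (S : Sylow p G) :
    (¬ p ∣ H.relIndex (opPre p C)) ↔
      ((S : Subgroup G) ⊓ C ≤ H ∧ pPrimePCore p G = H ⊔ C) := by
  have hpp : p.Prime := hp.out
  set N := opPre p C with hN
  set X := pPrimeCore p G with hX
  have hNn : N.Normal := opPre_normal p C
  have hHS : H ≤ (S : Subgroup G) := (le_pCore hHn hH).trans (pCore_le_sylow S)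
  have hHN : H ≤ N := le_opPre p C hHn (fun h hh => by
    obtain ⟨k, hk⟩ := hH ⟨h, hh⟩
    refine ⟨k, ?_⟩
    have : h ^ (p ^ k) = 1 := by
      have := congrArg Subtype.val hk
      simpa using this
    rw [this]; exact C.one_mem)
  have hCN : C ≤ N := le_opPre p C hCn (fun c hc => ⟨0, by simpa using hc⟩)
  have hXn : X.Normal := Cfsg.Agent.Lib.Helper1.pPrimeCore_normal p
  have hXcop : (Nat.card X).Coprime p := Cfsg.Agent.Lib.Helper1.pPrimeCore_card_coprime p
  have hXH : X ⊓ H = ⊥ := by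
    apply disjoint_iff.mp
    apply Subgroup.disjoint_of_coprime_natCard
    obtain ⟨k, hk⟩ := IsPGroup.iff_card.mp hH
    rw [hk]
    exact Nat.Coprime.pow_right k hXcop
  have hXC : X ≤ C := by
    intro x hx
    rw [hC, Subgroup.mem_centralizer_iff]
    intro h hh
    have h1 : x * h * x⁻¹ * h⁻¹ ∈ X ⊓ H := by
      refine ⟨?_, ?_⟩
      · have : x * (h * x⁻¹ * h⁻¹) ∈ X := X.mul_mem hx (hXn.conj_mem _ (X.inv_mem hx) h)
        simpa [mul_assoc] using this
      · exact H.mul_mem (hHn.conj_mem _ hh x) (H.inv_mem hh)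
    rw [hXH, Subgroup.mem_bot] at h1
    calc h * x = (x * h * x⁻¹ * h⁻¹)⁻¹ * (x * h) := by group
      _ = x * h := by rw [h1, inv_one, one_mul]
  have hHCn : (H ⊔ C).Normal := Subgroup.sup_normal H C
  have hHCN : H ⊔ C ≤ N := sup_le hHN hCN
  -- every normal subgroup whose elements have p-powers in X lies in K
  have hKmax : ∀ M : Subgroup G, M.Normal → (∀ m ∈ M, ∃ k : ℕ, m ^ (p ^ k) ∈ X) →
      M ≤ pPrimePCore p G := by
    intro M hM h
    rw [pPrimePCore_eq_opPre]
    exact le_opPre p X hM h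
  have hKN : pPrimePCore p G ≤ N := by
    apply le_opPre p C (Cfsg.Agent.Lib.Helper8.ExtLayer.pPrimePCore_normal p)
    intro m hm
    obtain ⟨k, hk⟩ := Cfsg.Agent.Lib.Helper8.ExtLayer.exists_pow_mem_pPrimeCore p hm
    exact ⟨k, hXC hk⟩
  constructor
  · intro hs
    have hsyl : IsSylowIn p H N := ⟨hHN, hH, hs⟩
    -- (a)
    have ha : (S : Subgroup G) ⊓ C ≤ H := by
      have hYp : IsPGroup p ↥(H ⊔ ((S : Subgroup G) ⊓ C)) :=
        S.isPGroup'.to_le (sup_le hHS inf_le_left)
      have hYN : H ⊔ ((S : Subgroup G) ⊓ C) ≤ N := sup_le hHN (inf_le_right.trans hCN)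
      have := hsyl.eq_of_le le_sup_left hYN hYp
      exact (le_sup_right.trans this.le)
    -- (b)
    have hb : N ≤ H ⊔ C := by
      have hquot : IsPGroup p (↥N ⧸ C.subgroupOf N) := by
        intro q
        induction q using QuotientGroup.induction_on with
        | H n =>
          obtain ⟨k, hk⟩ := exists_pow_mem_of_mem_opPre p C n.2
          refine ⟨k, ?_⟩
          rw [← QuotientGroup.mk_pow, QuotientGroup.eq_one_iff, Subgroup.mem_subgroupOf]
          simpa using hk
      obtain ⟨j, hj⟩ := IsPGroup.iff_card.mp hquot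
      have hCrel : C.relIndex N = p ^ j := by
        unfold Subgroup.relIndex
        rw [Subgroup.index_eq_card, hj]
      have h1 : (H ⊔ C).relIndex N ∣ H.relIndex N := Subgroup.relIndex_dvd_of_le_left N le_sup_left
      have h2 : (H ⊔ C).relIndex N ∣ C.relIndex N := Subgroup.relIndex_dvd_of_le_left N le_sup_right
      rw [hCrel] at h2
      have h3 : ¬ p ∣ (H ⊔ C).relIndex N := fun hd => hs (hd.trans h1)
      have h4 : (H ⊔ C).relIndex N = 1 := by
        obtain ⟨i, -, hi⟩ := (Nat.dvd_prime_pow hpp).mp h2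
        rcases Nat.eq_zero_or_pos i with h0 | hpos
        · rw [hi, h0, pow_zero]
        · exfalso; apply h3; rw [hi]; exact dvd_pow_self p hpos.ne'
      exact Subgroup.relIndex_eq_one.mp h4
    have hNeq : N = H ⊔ C := le_antisymm hb hHCN
    -- (c) Burnside
    have hc : C ≤ (H ⊓ C) ⊔ X := by
      have hsylC : IsSylowIn p (H ⊓ C) C :=
        hsyl.inf_normal hCN (by rw [Subgroup.normalizer_eq_top_iff.mpr hCn]; exact le_top)
      obtain ⟨P₀, hP₀⟩ := hsylC.exists_sylow
      have hcent : Subgroup.normalizer ((P₀ : Subgroup ↥C) : Set ↥C) ≤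
          Subgroup.centralizer ((P₀ : Subgroup ↥C) : Set ↥C) := by
        intro c _
        rw [Subgroup.mem_centralizer_iff]
        intro z hz
        have hz' : z ∈ (H ⊓ C).subgroupOf C := by rw [← hP₀]; exact hz
        rw [Subgroup.mem_subgroupOf] at hz'
        have hcC : (c : G) ∈ Subgroup.centralizer (H : Set G) := by rw [← hC]; exact c.2
        rw [Subgroup.mem_centralizer_iff] at hcC
        exact Subtype.ext (hcC _ hz'.1)
      have hcompl := MonoidHom.ker_transferSylow_isComplement' P₀ hcent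
      set Y₀ := (MonoidHom.transferSylow P₀ hcent).ker with hY₀
      have hY₀cop : (Nat.card Y₀).Coprime p := by
        have h1 : (P₀ : Subgroup ↥C).index = Nat.card Y₀ := hcompl.index_eq_card
        rw [← h1]
        exact ((Nat.Prime.coprime_iff_not_dvd hpp).mpr P₀.not_dvd_index).symm
      have hY₀le : Y₀ ≤ pPrimeCore p ↥C :=
        Cfsg.Agent.Lib.Helper1.le_pPrimeCore (MonoidHom.normal_ker _) hY₀cop
      have htop : Y₀ ⊔ (P₀ : Subgroup ↥C) = ⊤ := hcompl.sup_eq_top
      have hmapX : (pPrimeCore p ↥C).map C.subtype ≤ X := by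
        rw [Cfsg.Agent.Lib.Helper8.PComp.map_pPrimeCore_subtype p
          (Subgroup.Normal.isSubnormal hCn)]
        exact inf_le_left
      intro c hc
      have hmem : (⟨c, hc⟩ : ↥C) ∈ Y₀ ⊔ (P₀ : Subgroup ↥C) := by rw [htop]; trivial
      have h5 : c ∈ (Y₀ ⊔ (P₀ : Subgroup ↥C)).map C.subtype := ⟨⟨c, hc⟩, hmem, rfl⟩
      rw [Subgroup.map_sup] at h5
      have h6 : (P₀ : Subgroup ↥C).map C.subtype ≤ H ⊓ C := by
        rw [hP₀, Subgroup.subgroupOf_map_subtype]; exact inf_le_left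
      have h7 : Y₀.map C.subtype ≤ X := (Subgroup.map_mono hY₀le).trans hmapX
      exact (sup_le (h7.trans le_sup_right) (h6.trans le_sup_left)) h5
    refine ⟨ha, le_antisymm (hKN.trans hb) ?_⟩
    -- H ⊔ C ≤ K
    have hHX : H ⊔ C ≤ H ⊔ X :=
      sup_le le_sup_left (hc.trans (sup_le (inf_le_left.trans le_sup_left) le_sup_right))
    have hHK : H ≤ pPrimePCore p G :=
      le_pPrimePCore_of_sup_normal hH (Subgroup.sup_normal H X)
    exact hHX.trans (sup_le hHK (pPrimeCore_le_pPrimePCore p))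
  · rintro ⟨ha, hK⟩
    -- N ≤ K
    have hNK : N ≤ pPrimePCore p G := by
      apply hKmax N hNn
      intro n hn
      obtain ⟨k, hk⟩ := exists_pow_mem_of_mem_opPre p C hn
      have hk' : n ^ (p ^ k) ∈ pPrimePCore p G := by rw [hK]; exact le_sup_right (a := H) hk
      obtain ⟨j, hj⟩ := Cfsg.Agent.Lib.Helper8.ExtLayer.exists_pow_mem_pPrimeCore p hk'
      refine ⟨k + j, ?_⟩
      rw [pow_add, pow_mul]
      exact hj
    have hNeq : N = H ⊔ C := le_antisymm (hNK.trans hK.le) hHCN
    have hSN : (S : Subgroup G) ⊓ N = H := by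
      apply le_antisymm
      · rintro x ⟨hxS, hxN⟩
        rw [SetLike.mem_coe, hNeq] at hxN
        obtain ⟨h, hh, c, hc, rfl⟩ := (Subgroup.mem_sup_of_normal_left (s := H) (t := C)).mp hxN
        have hcS : c ∈ (S : Subgroup G) := by
          have : c = h⁻¹ * (h * c) := by group
          rw [this]
          exact (S : Subgroup G).mul_mem ((S : Subgroup G).inv_mem (hHS hh)) hxS
        exact H.mul_mem hh (ha ⟨hcS, hc⟩)
      · exact le_inf hHS hHN
    have hsylS : IsSylowIn p (S : Subgroup G) ⊤ := isSylowIn_of_sylow S le_top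
    have := hsylS.inf_normal (le_top : N ≤ ⊤)
      (by rw [Subgroup.normalizer_eq_top_iff.mpr hNn])
    rw [hSN] at this
    exact this.2.2

end Cfsg.Agent.Lib.Helper8.PreimOp
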