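import Mathlib
import Cfsg.Agent.S4218
import Cfsg.Agent.Lib.Helper1.CoprimeSylow
import Cfsg.Agent.Lib.Helper1.PSolvSub
import Cfsg.Agent.Lib.Helper1.SubnormalSylow
import Cfsg.Agent.Lib.Helper1.MaxSubgroupSolvable
import Cfsg.Agent.Lib.Helper1.PLengthOne
import Cfsg.Agent.Lib.Helper1.PCore

set_option autoImplicit false
set_option linter.style.haveILetI false

/-! If `G` is `p`- or `q`-solvable and no `q`-element has class size divisible by `p`, then some
Sylow `p`-subgroup normalizes some Sylow `q`-subgroup. -/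

namespace Cfsg.Agent.Lib.Helper8.QClassP

open Cfsg Cfsg.Agent.Lib.Helper1

universe u

/-- no `q`-element has class size divisible by `p` -/
def Hyp (p q : ℕ) (G : Type u) [Group G] : Prop :=
  ∀ y : G, (∃ k : ℕ, orderOf y = q ^ k) →
    ¬ p ∣ (Subgroup.centralizer ({y} : Set G)).index

/-- some Sylow `p` normalizes some Sylow `q` -/
def Concl (p q : ℕ) (G : Type u) [Group G] : Prop :=
  ∃ (P : Sylow p G) (Q : Sylow q G),
    (P : Subgroup G) ≤ Subgroup.normalizer ((Q : Subgroup G) : Set G)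

variable {G : Type u} [Group G]

theorem exists_sylow_le_centralizer [Finite G] {p q : ℕ} [hp : Fact p.Prime] (h : Hyp p q G)
    (y : G) (hy : ∃ k : ℕ, orderOf y = q ^ k) :
    ∃ R : Sylow p G, (R : Subgroup G) ≤ Subgroup.centralizer ({y} : Set G) := by
  obtain ⟨C, hC⟩ : ∃ C : Subgroup G, C = Subgroup.centralizer ({y} : Set G) := ⟨_, rfl⟩
  have hCi : ¬ p ∣ C.index := hC ▸ h y hy
  obtain R : Sylow p ↥C := default
  have hpg : IsPGroup p ((R : Subgroup ↥C).map C.subtype) := R.2.map _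
  have hidx : ¬ p ∣ ((R : Subgroup ↥C).map C.subtype).index := by
    rw [Subgroup.index_map_subtype]
    exact Nat.Prime.not_dvd_mul hp.out R.not_dvd_index hCi
  refine ⟨hpg.toSylow hidx, ?_⟩
  rw [IsPGroup.toSylow_coe, ← hC]
  exact Subgroup.map_subtype_le _

theorem normal_pGroup_le_centralizer [Finite G] {p q : ℕ} [hp : Fact p.Prime] (h : Hyp p q G)
    (M : Subgroup G) [M.Normal] (hM : IsPGroup p M) (y : G) (hy : ∃ k : ℕ, orderOf y = q ^ k) :
    M ≤ Subgroup.centralizer ({y} : Set G) := by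
  obtain ⟨R, hR⟩ := exists_sylow_le_centralizer h y hy
  exact (hM.le_sylow_of_normal R).trans hR

theorem hyp_quotient [Finite G] {p q : ℕ} [hq : Fact q.Prime] (M : Subgroup G) [M.Normal]
    (h : Hyp p q G) : Hyp p q (G ⧸ M) := by
  rintro ybar ⟨k, hk⟩
  have hsurj : Function.Surjective (QuotientGroup.mk' M) := QuotientGroup.mk'_surjective M
  have hpg : IsPGroup q (Subgroup.zpowers ybar) :=
    IsPGroup.of_card (n := k) (by rw [Nat.card_zpowers, hk])
  obtain ⟨Qbar, hQbar⟩ := hpg.exists_le_sylow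
  obtain ⟨Q, rfl⟩ := Sylow.mapSurjective_surjective hsurj q Qbar
  have hmem : ybar ∈ ((Q.mapSurjective hsurj : Sylow q (G ⧸ M)) : Subgroup (G ⧸ M)) :=
    hQbar (Subgroup.mem_zpowers ybar)
  rw [Sylow.coe_mapSurjective] at hmem
  obtain ⟨y, hyQ, rfl⟩ := hmem
  have hy : ∃ j : ℕ, orderOf y = q ^ j := by
    obtain ⟨j, hj⟩ := (IsPGroup.iff_orderOf.mp Q.2) ⟨y, hyQ⟩
    exact ⟨j, by rw [← hj, Subgroup.orderOf_mk]⟩
  have h1 := h y hy
  intro hdvd
  apply h1
  have hle : (Subgroup.centralizer ({y} : Set G)).map (QuotientGroup.mk' M) ≤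
      Subgroup.centralizer ({QuotientGroup.mk' M y} : Set (G ⧸ M)) := by
    rintro _ ⟨c, hc, rfl⟩
    rw [Subgroup.mem_centralizer_iff]
    intro z hz
    rw [Set.mem_singleton_iff] at hz
    rw [hz, ← map_mul, ← map_mul]
    congr 1
    exact Subgroup.mem_centralizer_iff.mp hc y (Set.mem_singleton y)
  exact hdvd.trans ((Subgroup.index_dvd_of_le hle).trans (Subgroup.index_map_dvd _ hsurj))

theorem lift_concl [Finite G] {p q : ℕ} [hp : Fact p.Prime] [hq : Fact q.Prime]
    (M : Subgroup G) [M.Normal] (h : Concl p q (G ⧸ M)) :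
    ∃ (P : Sylow p G) (Q : Sylow q G), (P : Subgroup G) ≤
      Subgroup.normalizer (((Q : Subgroup G) ⊔ M : Subgroup G) : Set G) := by
  obtain ⟨Pbar, Qbar, hPQ⟩ := h
  have hsurj : Function.Surjective (QuotientGroup.mk' M) := QuotientGroup.mk'_surjective M
  obtain ⟨P, rfl⟩ := Sylow.mapSurjective_surjective hsurj p Pbar
  obtain ⟨Q, rfl⟩ := Sylow.mapSurjective_surjective hsurj q Qbar
  refine ⟨P, Q, ?_⟩
  rw [Sylow.coe_mapSurjective, Sylow.coe_mapSurjective] at hPQ
  intro g hg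
  have h1 : QuotientGroup.mk' M g ∈ Subgroup.normalizer
      (((Q : Subgroup G).map (QuotientGroup.mk' M) : Subgroup (G ⧸ M)) : Set (G ⧸ M)) :=
    hPQ ⟨g, hg, rfl⟩
  have h3 := Subgroup.le_normalizer_comap (QuotientGroup.mk' M) (Subgroup.mem_comap.mpr h1)
  rwa [Subgroup.comap_map_eq, QuotientGroup.ker_mk'] at h3

theorem normalizes_of_pGroup [Finite G] {p q : ℕ} [hp : Fact p.Prime] [hq : Fact q.Prime]
    (hpq : p ≠ q) (h : Hyp p q G) (M : Subgroup G) [M.Normal] (hM : IsPGroup p M)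
    (P : Subgroup G) (Q : Sylow q G)
    (hP : P ≤ Subgroup.normalizer (((Q : Subgroup G) ⊔ M : Subgroup G) : Set G)) :
    P ≤ Subgroup.normalizer ((Q : Subgroup G) : Set G) := by
  apply le_normalizer_of_conj_mem
  intro g hg y hy
  have hz : g * y * g⁻¹ ∈ (Q : Subgroup G) ⊔ M :=
    ((Subgroup.mem_normalizer_iff).mp (hP hg) y).mp (Subgroup.mem_sup_left hy)
  obtain ⟨u, hu, m, hm, hum⟩ := Subgroup.mem_sup_of_normal_right.mp hz
  obtain ⟨k, hk⟩ := (IsPGroup.iff_orderOf.mp Q.2) ⟨y, hy⟩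
  rw [Subgroup.orderOf_mk] at hk
  obtain ⟨a, ha⟩ := (IsPGroup.iff_orderOf.mp Q.2) ⟨u, hu⟩
  rw [Subgroup.orderOf_mk] at ha
  obtain ⟨b, hb⟩ := (IsPGroup.iff_orderOf.mp hM) ⟨m, hm⟩
  rw [Subgroup.orderOf_mk] at hb
  have hcomm : Commute u m := by
    have := normal_pGroup_le_centralizer h M hM u ⟨a, ha⟩ hm
    exact (Subgroup.mem_centralizer_iff.mp this u (Set.mem_singleton u))
  have hcop : (orderOf u).Coprime (orderOf m) := by
    rw [ha, hb]
    exact Nat.Coprime.pow _ _ ((Nat.coprime_primes hq.out hp.out).mpr (Ne.symm hpq))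
  have hord := hcomm.orderOf_mul_eq_mul_orderOf_of_coprime hcop
  have hconj : orderOf (g * y * g⁻¹) = orderOf y := by
    have : g * y * g⁻¹ = MulAut.conj g y := by simp
    rw [this, MulEquiv.orderOf_eq]
  rw [hum, hconj, hk, ha, hb] at hord
  have hb1 : p ^ b = 1 := by
    have hd : p ^ b ∣ q ^ k := ⟨q ^ a, by rw [hord]; ring⟩
    have hc : (p ^ b).Coprime (q ^ k) :=
      Nat.Coprime.pow _ _ ((Nat.coprime_primes hp.out hq.out).mpr hpq)
    exact Nat.Coprime.eq_one_of_dvd hc hd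
  have hm1 : m = 1 := by
    rw [← orderOf_eq_one_iff, hb, hb1]
  rw [← hum, hm1, mul_one]
  exact hu

theorem exists_of_coprime [Finite G] {p q : ℕ} [hp : Fact p.Prime] [hq : Fact q.Prime]
    (P : Sylow p G) (Q : Sylow q G) (K : Subgroup G) (hQK : (Q : Subgroup G) ≤ K)
    (hPK : (P : Subgroup G) ≤ Subgroup.normalizer (K : Set G))
    (hcop : (Nat.card K).Coprime p) : Concl p q G := by
  have hcop' : (Nat.card (P : Subgroup G)).Coprime (Nat.card K) := by
    obtain ⟨n, hn⟩ := IsPGroup.iff_card.mp P.2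
    rw [hn]
    exact (Nat.Coprime.pow_right n hcop).symm
  have hsolvP : Group.IsSolvable (P : Subgroup G) := by
    haveI := P.2.isNilpotent
    infer_instance
  obtain ⟨Q', hQ'⟩ := coprime_exists_invariant_sylow (P : Subgroup G) K hPK hcop'
    (Or.inl hsolvP) q
  have hpg : IsPGroup q ((Q' : Subgroup K).map K.subtype) := Q'.2.map _
  have hidx : ¬ q ∣ ((Q' : Subgroup K).map K.subtype).index := by
    rw [Subgroup.index_map_subtype]
    refine Nat.Prime.not_dvd_mul hq.out Q'.not_dvd_index ?_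
    intro hd
    exact Q.not_dvd_index (hd.trans (Subgroup.index_dvd_of_le hQK))
  exact ⟨P, hpg.toSylow hidx, by rw [IsPGroup.toSylow_coe]; exact hQ'⟩

end Cfsg.Agent.Lib.Helper8.QClassP
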