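import Mathlib
import Cfsg.Agent.Lib.Helper8.QClassP
import Cfsg.Agent.Lib.Helper8.PSolvQ2

set_option autoImplicit false
set_option linter.style.haveILetI false

namespace Cfsg.Agent.Lib.Helper8.QClassP

open Cfsg Cfsg.Agent.Lib.Helper1
open scoped Pointwise

universe u

variable {G : Type u} [Group G]

theorem hyp_normalizer [Finite G] {p q : ℕ} [hp : Fact p.Prime] [hq : Fact q.Prime]
    (hyp : Hyp p q G) (M : Subgroup G) [hMn : M.Normal] (hM : (Nat.card M).Coprime q)
    (P0 : Sylow p ↥M) (G1 : Subgroup G)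
    (hG1 : G1 = Subgroup.normalizer (((P0 : Subgroup M).map M.subtype : Subgroup G) : Set G)) :
    Hyp p q ↥G1 := by
  rintro y ⟨k, hk⟩
  have hk' : orderOf (y : G) = q ^ k := by rw [Subgroup.orderOf_coe]; exact hk
  obtain ⟨R, hR⟩ := exists_sylow_le_centralizer hyp (y : G) ⟨k, hk'⟩
  obtain ⟨P1, hP1⟩ := subnormal_inf_sylow p M hMn.isSubnormal R
  obtain ⟨A, hA⟩ : ∃ A : Subgroup G, A = Subgroup.zpowers (y : G) := ⟨_, rfl⟩
  have hAM : A ≤ Subgroup.normalizer (M : Set G) := by
    rw [Subgroup.normalizer_eq_top]; exact le_top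
  have hcop : (Nat.card A).Coprime (Nat.card M) := by
    rw [hA, Nat.card_zpowers, hk']
    exact Nat.Coprime.pow_left _ hM.symm
  have hsolv : Group.IsSolvable A := by
    rw [hA]
    infer_instance
  have hA0 : A ≤ Subgroup.normalizer
      (((P0 : Subgroup M).map M.subtype : Subgroup G) : Set G) := by
    rw [hA, Subgroup.zpowers_le, ← hG1]; exact y.2
  have hyR : ∀ r ∈ (R : Subgroup G), r * (y : G) = (y : G) * r := by
    intro r hr
    exact (Subgroup.mem_centralizer_iff.mp (hR hr) (y : G) (Set.mem_singleton _)).symm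
  have hA1 : A ≤ Subgroup.normalizer
      (((P1 : Subgroup M).map M.subtype : Subgroup G) : Set G) := by
    rw [hP1, Subgroup.subgroupOf_map_subtype, hA, Subgroup.zpowers_le]
    have : Subgroup.zpowers (y : G) ≤
        Subgroup.normalizer (((R : Subgroup G) ⊓ M : Subgroup G) : Set G) := by
      apply le_normalizer_of_conj_mem
      intro g hg x hx
      refine ⟨?_, hMn.conj_mem x hx.2 g⟩
      obtain ⟨n, rfl⟩ := Subgroup.mem_zpowers_iff.mp hg
      have hc : Commute ((y : G) ^ n) x := by
        apply Commute.zpow_left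
        exact (hyR x hx.1).symm
      have : (y : G) ^ n * x * ((y : G) ^ n)⁻¹ = x := by
        rw [hc.eq, mul_inv_cancel_right]
      rw [this]; exact hx.1
    exact this (Subgroup.mem_zpowers _)
  obtain ⟨c, hcA, hc⟩ := coprime_invariant_sylow_conj A M hAM hcop (Or.inl hsolv) p P1 P0 hA1 hA0
  have hcy : (c : G) * (y : G) = (y : G) * (c : G) := by
    have := Subgroup.mem_centralizer_iff.mp hcA (y : G) (by rw [hA]; exact Subgroup.mem_zpowers _)
    exact this.symm
  -- characterization of `P0`
  have hP0 : ∀ x : G, x ∈ ((P0 : Subgroup M).map M.subtype : Subgroup G) ↔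
      x ∈ M ∧ (c : G)⁻¹ * x * (c : G) ∈ (R : Subgroup G) := by
    intro x
    constructor
    · rintro ⟨x', hx', rfl⟩
      refine ⟨x'.2, ?_⟩
      have hx'' : x' ∈ ((MulAut.conj c • P1 : Sylow p ↥M) : Subgroup ↥M) := by
        rw [hc]; exact hx'
      rw [Sylow.pointwise_smul_def] at hx''
      obtain ⟨z, hz, hzx⟩ := (Subgroup.mem_smul_pointwise_iff_exists _ _ _).mp hx''
      have hz' : (z : G) ∈ (R : Subgroup G) := by
        have : z ∈ (R : Subgroup G).subgroupOf M := hP1 ▸ hz
        exact Subgroup.mem_subgroupOf.mp this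
      have : (x' : G) = (c : G) * (z : G) * (c : G)⁻¹ := by
        rw [← hzx]; simp
      simp only [Subgroup.coe_subtype]
      rw [this]
      have e : (c : G)⁻¹ * ((c : G) * (z : G) * (c : G)⁻¹) * (c : G) = (z : G) := by group
      rw [e]; exact hz'
    · rintro ⟨hxM, hxR⟩
      refine ⟨⟨x, hxM⟩, ?_, rfl⟩
      have hmem : (⟨x, hxM⟩ : ↥M) ∈ ((MulAut.conj c • P1 : Sylow p ↥M) : Subgroup ↥M) := by
        rw [Sylow.pointwise_smul_def]
        apply (Subgroup.mem_smul_pointwise_iff_exists _ _ _).mpr
        refine ⟨c⁻¹ * ⟨x, hxM⟩ * c, ?_, ?_⟩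
        · have : c⁻¹ * ⟨x, hxM⟩ * c ∈ (R : Subgroup G).subgroupOf M := by
            rw [Subgroup.mem_subgroupOf]
            simpa using hxR
          exact hP1 ▸ this
        · apply Subtype.ext
          simp
          group
      rw [hc] at hmem
      exact hmem
  -- the conjugate `c R c⁻¹` lies in `G1 ∩ C(y)`
  obtain ⟨S, hS⟩ : ∃ S : Subgroup G,
    S = (R : Subgroup G).map ((MulAut.conj (c : G) : G ≃* G) : G →* G) := ⟨_, rfl⟩
  have hSG1 : S ≤ G1 := by
    rw [hG1, hS]
    apply le_normalizer_of_conj_mem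
    rintro _ ⟨r, hr, rfl⟩ x hx
    rw [hP0] at hx ⊢
    refine ⟨hMn.conj_mem x hx.1 _, ?_⟩
    have e : (c : G)⁻¹ * (((MulAut.conj (c : G) : G ≃* G) : G →* G) r * x *
        (((MulAut.conj (c : G) : G ≃* G) : G →* G) r)⁻¹) * (c : G) =
        r * ((c : G)⁻¹ * x * (c : G)) * r⁻¹ := by
      simp only [MonoidHom.coe_coe, MulAut.conj_apply]
      group
    rw [e]
    exact mul_mem (mul_mem hr hx.2) (inv_mem hr)
  have hSy : ∀ s ∈ S, s * (y : G) = (y : G) * s := by
    rw [hS]
    rintro _ ⟨r, hr, rfl⟩
    have h1 := hyR r hr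
    simp only [MonoidHom.coe_coe, MulAut.conj_apply]
    have hcy' : (c : G)⁻¹ * (y : G) = (y : G) * (c : G)⁻¹ := by
      rw [inv_mul_eq_iff_eq_mul, ← mul_assoc, hcy, mul_assoc, mul_inv_cancel, mul_one]
    calc (c : G) * r * (c : G)⁻¹ * (y : G)
        = (c : G) * r * ((c : G)⁻¹ * (y : G)) := by group
      _ = (c : G) * r * ((y : G) * (c : G)⁻¹) := by rw [hcy']
      _ = (c : G) * (r * (y : G)) * (c : G)⁻¹ := by group
      _ = (c : G) * ((y : G) * r) * (c : G)⁻¹ := by rw [h1]
      _ = ((c : G) * (y : G)) * r * (c : G)⁻¹ := by group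
      _ = ((y : G) * (c : G)) * r * (c : G)⁻¹ := by rw [hcy]
      _ = (y : G) * ((c : G) * r * (c : G)⁻¹) := by group
  have hle : S.subgroupOf G1 ≤ Subgroup.centralizer ({y} : Set ↥G1) := by
    intro s hs
    rw [Subgroup.mem_centralizer_iff]
    intro z hz
    rw [Set.mem_singleton_iff] at hz
    rw [hz]
    apply Subtype.ext
    exact (hSy (s : G) (Subgroup.mem_subgroupOf.mp hs)).symm
  intro hd
  have h1 : (Subgroup.centralizer ({y} : Set ↥G1)).index ∣ (S.subgroupOf G1).index :=
    Subgroup.index_dvd_of_le hle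
  have h2 : (S.subgroupOf G1).index ∣ S.index := Subgroup.relIndex_dvd_index_of_le hSG1
  have h3 : S.index = (R : Subgroup G).index := by
    rw [hS]
    exact Subgroup.index_map_equiv _ (MulAut.conj (c : G))
  exact R.not_dvd_index (h3 ▸ (hd.trans (h1.trans h2)))

theorem trivial_of_cores {X : Type u} [Group X] [Finite X] (p : ℕ) [Fact p.Prime]
    (hsol : IsPSolvable p X) (hK : pPrimeCore p X = ⊥) (hR : pCore p X = ⊥) (x : X) : x = 1 := by
  have hx1 : x ∈ pCore p X := by
    apply Cfsg.Agent.S4218.HH p hsol hK x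
    intro y hy
    rw [hR, Subgroup.mem_bot] at hy
    rw [hy]
    simp
  rwa [hR, Subgroup.mem_bot] at hx1

theorem concl_of_trivial {p q : ℕ} [Fact p.Prime] [Fact q.Prime] (h : ∀ x : G, x = 1) :
    Concl p q G := by
  refine ⟨default, default, ?_⟩
  intro g _
  rw [h g]
  exact Subgroup.one_mem _

theorem main {p q : ℕ} [hp : Fact p.Prime] [hq : Fact q.Prime] (hpq : p ≠ q) :
    ∀ (n : ℕ) (G : Type u) [Group G] [Finite G], Nat.card G = n →
      (IsPSolvable p G ∨ IsPSolvable q G) → Hyp p q G → Concl p q G := by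
  intro n
  induction n using Nat.strong_induction_on with
  | _ n ih =>
    intro G _ _ hn hsol hyp
    have hQp : ∀ Q : Sylow q G, (Nat.card (Q : Subgroup G)).Coprime p := by
      intro Q
      obtain ⟨a, ha⟩ := IsPGroup.iff_card.mp Q.2
      rw [ha]
      exact Nat.Coprime.pow_left _ ((Nat.coprime_primes hq.out hp.out).mpr (Ne.symm hpq))
    have ihQ : ∀ (M : Subgroup G) [M.Normal], M ≠ ⊥ →
        ∃ (P : Sylow p G) (Q : Sylow q G), (P : Subgroup G) ≤
          Subgroup.normalizer (((Q : Subgroup G) ⊔ M : Subgroup G) : Set G) := by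
      intro M _ hM
      apply lift_concl M
      exact ih _ (hn ▸ Cfsg.Agent.Lib.Helper8.PSolvQ.card_quotient_lt M hM) (G ⧸ M) rfl
        (hsol.imp (Cfsg.Agent.S4218.isPSolvable_quotient p M)
          (Cfsg.Agent.S4218.isPSolvable_quotient q M)) (hyp_quotient M hyp)
    have hcopcase : ∀ (M : Subgroup G) [M.Normal], M ≠ ⊥ → (Nat.card M).Coprime p →
        Concl p q G := by
      intro M _ hM hMp
      obtain ⟨P, Q, hPQ⟩ := ihQ M hM
      apply exists_of_coprime P Q ((Q : Subgroup G) ⊔ M) le_sup_left hPQ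
      exact Nat.Coprime.coprime_dvd_left (card_sup_dvd_of_normal (Q : Subgroup G) M)
        (Nat.Coprime.mul_left (hQp Q) hMp)
    have hpcase : ∀ (M : Subgroup G) [M.Normal], M ≠ ⊥ → IsPGroup p M → Concl p q G := by
      intro M _ hM hMp
      obtain ⟨P, Q, hPQ⟩ := ihQ M hM
      exact ⟨P, Q, normalizes_of_pGroup hpq hyp M hMp P Q hPQ⟩
    rcases hsol with hsolp | hsolq
    · by_cases hK : pPrimeCore p G = ⊥
      · by_cases hR : pCore p G = ⊥
        · exact concl_of_trivial (trivial_of_cores p hsolp hK hR)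
        · exact hpcase (pCore p G) hR (pCore_isPGroup p)
      · exact hcopcase (pPrimeCore p G) hK (pPrimeCore_card_coprime p)
    · by_cases hK : pPrimeCore q G = ⊥
      · by_cases hR : pCore q G = ⊥
        · exact concl_of_trivial (trivial_of_cores q hsolq hK hR)
        · obtain ⟨P, Q, hPQ⟩ := ihQ (pCore q G) hR
          have hle : pCore q G ≤ (Q : Subgroup G) :=
            (pCore_isPGroup q).le_sylow_of_normal Q
          rw [sup_eq_left.mpr hle] at hPQ
          exact ⟨P, Q, hPQ⟩
      · obtain ⟨M, hMdef⟩ : ∃ M : Subgroup G, M = pPrimeCore q G := ⟨_, rfl⟩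
        rw [← hMdef] at hK
        haveI hMn : M.Normal := hMdef ▸ (inferInstance : (pPrimeCore q G).Normal)
        have hMq : (Nat.card M).Coprime q := hMdef ▸ pPrimeCore_card_coprime q
        by_cases hpM : (Nat.card M).Coprime p
        · exact hcopcase M hK hpM
        · have hpdvd : p ∣ Nat.card M := by
            by_contra hnd
            exact hpM ((Nat.Prime.coprime_iff_not_dvd hp.out).mpr hnd).symm
          obtain P : Sylow p G := default
          obtain ⟨P0, hP0⟩ := subnormal_inf_sylow p M hMn.isSubnormal P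
          obtain ⟨P0', hP0'⟩ : ∃ P0' : Subgroup G,
            P0' = ((P0 : Subgroup M).map M.subtype : Subgroup G) := ⟨_, rfl⟩
          have hP0'' : P0' = (P : Subgroup G) ⊓ M := by
            rw [hP0', hP0, Subgroup.subgroupOf_map_subtype]
          have hfrat : Subgroup.normalizer (P0' : Set G) ⊔ M = ⊤ := by
            rw [hP0']
            exact Sylow.normalizer_sup_eq_top P0
          have hP0pg : IsPGroup p P0' := by
            rw [hP0']
            exact P0.2.map _
          have hP0ne : P0' ≠ ⊥ := by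
            rw [hP0']
            intro h0
            have := (Subgroup.map_eq_bot_iff_of_injective _ M.subtype_injective).mp h0
            exact Sylow.ne_bot_of_dvd_card P0 hpdvd this
          by_cases hG1 : Subgroup.normalizer (P0' : Set G) = ⊤
          · haveI : P0'.Normal := Subgroup.normalizer_eq_top_iff.mp hG1
            exact hpcase P0' hP0ne hP0pg
          · obtain ⟨G1, hG1def⟩ : ∃ G1 : Subgroup G,
              G1 = Subgroup.normalizer (P0' : Set G) := ⟨_, rfl⟩
            rw [← hG1def] at hG1 hfrat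
            have hlt : Nat.card ↥G1 < Nat.card G := by
              have h1 := Subgroup.card_mul_index G1
              have h2 : 1 < G1.index := Subgroup.one_lt_index_of_ne_top hG1
              have h3 : 0 < Nat.card ↥G1 := Nat.card_pos
              nlinarith
            have hyp1 : Hyp p q ↥G1 := hyp_normalizer hyp M hMq P0 G1 (by rw [hG1def, hP0'])
            obtain ⟨P1, Q1, h1⟩ := ih _ (hn ▸ hlt) ↥G1 rfl
              (Or.inr (PSolvSub.isPSolvable_subgroup hsolq G1)) hyp1
            have hPG1 : (P : Subgroup G) ≤ G1 := by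
              rw [hG1def, hP0'']
              apply le_normalizer_of_conj_mem
              intro g hg x hx
              exact ⟨(P : Subgroup G).mul_mem ((P : Subgroup G).mul_mem hg hx.1)
                ((P : Subgroup G).inv_mem hg), hMn.conj_mem x hx.2 g⟩
            have hpi : ¬ p ∣ G1.index := fun hd =>
              P.not_dvd_index (hd.trans (Subgroup.index_dvd_of_le hPG1))
            have hqi : ¬ q ∣ G1.index := by
              intro hd
              have h2 := index_dvd_card_of_sup_eq_top G1 M hfrat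
              have h3 := (Nat.Prime.coprime_iff_not_dvd hq.out).mp hMq.symm
              exact h3 (hd.trans h2)
            have hP1pg : IsPGroup p ((P1 : Subgroup ↥G1).map G1.subtype) := P1.2.map _
            have hQ1pg : IsPGroup q ((Q1 : Subgroup ↥G1).map G1.subtype) := Q1.2.map _
            have hP1i : ¬ p ∣ ((P1 : Subgroup ↥G1).map G1.subtype).index := by
              rw [Subgroup.index_map_subtype]
              exact Nat.Prime.not_dvd_mul hp.out P1.not_dvd_index hpi
            have hQ1i : ¬ q ∣ ((Q1 : Subgroup ↥G1).map G1.subtype).index := by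
              rw [Subgroup.index_map_subtype]
              exact Nat.Prime.not_dvd_mul hq.out Q1.not_dvd_index hqi
            refine ⟨hP1pg.toSylow hP1i, hQ1pg.toSylow hQ1i, ?_⟩
            rw [IsPGroup.toSylow_coe, IsPGroup.toSylow_coe]
            apply le_normalizer_of_conj_mem
            rintro _ ⟨g, hg, rfl⟩ _ ⟨x, hx, rfl⟩
            have := ((Subgroup.mem_normalizer_iff).mp (h1 hg) x).mp hx
            exact ⟨_, this, by simp⟩

end Cfsg.Agent.Lib.Helper8.QClassP
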