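import Mathlib
import Cfsg.Agent.Lib.Helper8.QQ1

/-! Abelian subgroups of index two in generalized quaternion groups. -/
set_option autoImplicit false
open scoped commutatorElement

namespace Cfsg.Agent.Lib.Helper8.QQ

open QuaternionGroup Cfsg.Agent.Lib.Helper8.BS

section quat

variable {n : ℕ} [NeZero n]

theorem zmod_add_self_eq_zero (t : ZMod (2 * n)) (h : t + t = 0) :
    t = 0 ∨ t = (n : ZMod (2 * n)) := by
  have hn : 0 < n := Nat.pos_of_ne_zero (NeZero.ne n)
  have h1 : ((t.val + t.val : ℕ) : ZMod (2 * n)) = 0 := by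
    push_cast
    rw [ZMod.natCast_zmod_val]
    exact h
  have h2 : 2 * n ∣ t.val + t.val := (ZMod.natCast_eq_zero_iff _ _).mp h1
  have h3 : t.val < 2 * n := ZMod.val_lt t
  obtain ⟨c, hc⟩ := h2
  have hc2 : c = 0 ∨ c = 1 := by
    rcases Nat.lt_or_ge c 2 with h | h
    · omega
    · exfalso
      have : 2 * n * 2 ≤ 2 * n * c := Nat.mul_le_mul_left _ h
      omega
  rcases hc2 with rfl | rfl
  · left
    have : t.val = 0 := by omega
    exact (ZMod.val_eq_zero t).mp this
  · right
    have h4 : t.val = n := by omega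
    calc t = ((t.val : ℕ) : ZMod (2 * n)) := (ZMod.natCast_zmod_val t).symm
      _ = (n : ZMod (2 * n)) := by rw [h4]

variable (A : Subgroup (QuaternionGroup n))

theorem two_mul_eq_zero_of_mem (hA : ∀ x ∈ A, ∀ x' ∈ A, x * x' = x' * x)
    {i l : ZMod (2 * n)} (hi : (a i : QuaternionGroup n) ∈ A) (hl : (xa l : QuaternionGroup n) ∈ A) :
    i + i = 0 := by
  have h := hA _ hl _ hi
  rw [xa_mul_a, a_mul_xa] at h
  have h2 := xa.inj h
  linear_combination h2

theorem add_self_eq_of_not_mem (hA : ∀ x ∈ A, ∀ x' ∈ A, x * x' = x' * x) (hidx : A.index = 2)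
    {j i : ZMod (2 * n)} (hj : (a j : QuaternionGroup n) ∉ A) (hi : (xa i : QuaternionGroup n) ∈ A) :
    j + j = (n : ZMod (2 * n)) := by
  have h1 : (a (j + j) : QuaternionGroup n) ∈ A := by
    rw [← a_mul_a]
    exact Subgroup.mul_self_mem_of_index_two hidx _
  have h2 := two_mul_eq_zero_of_mem A hA h1 hi
  have hu : (a (n : ZMod (2 * n)) : QuaternionGroup n) ∈ A := by
    have := Subgroup.mul_self_mem_of_index_two hidx (xa 0 : QuaternionGroup n)
    rw [xa_mul_xa] at this
    simpa using this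
  rcases zmod_add_self_eq_zero _ h2 with h3 | h3
  · exfalso
    rcases zmod_add_self_eq_zero _ h3 with h4 | h4
    · apply hj
      rw [h4, a_zero]
      exact A.one_mem
    · apply hj
      rw [h4]
      exact hu
  · exact h3

/-- elements outside an abelian subgroup of index two invert it and square to the involution -/
theorem conj_inv_quat (hA : ∀ x ∈ A, ∀ x' ∈ A, x * x' = x' * x) (hidx : A.index = 2)
    {x y : QuaternionGroup n} (hx : x ∈ A) (hy : y ∉ A) :
    y * x * y⁻¹ = x⁻¹ ∧ y * y = a (n : ZMod (2 * n)) := by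
  have h2n : (n : ZMod (2 * n)) + n = 0 := two_m_eq_zero
  cases x with
  | a i =>
    cases y with
    | a j =>
      -- some xa l in A
      have hex : ∃ l, (xa l : QuaternionGroup n) ∈ A := by
        by_cases h0 : (xa 0 : QuaternionGroup n) ∈ A
        · exact ⟨0, h0⟩
        · refine ⟨0 - j, ?_⟩
          rw [← a_mul_xa]
          rw [Subgroup.mul_mem_iff_of_index_two hidx]
          exact ⟨fun h => absurd h hy, fun h => absurd h h0⟩
      obtain ⟨l, hl⟩ := hex
      have h1 := two_mul_eq_zero_of_mem A hA hx hl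
      have h2 := add_self_eq_of_not_mem A hA hidx hy hl
      refine ⟨?_, ?_⟩
      · rw [inv_a, inv_a, a_mul_a, a_mul_a]
        congr 1
        linear_combination h1
      · rw [a_mul_a, h2]
    | xa j =>
      refine ⟨?_, ?_⟩
      · rw [xa_conj_a, inv_a]
      · rw [xa_mul_xa]
        congr 1
        ring
  | xa i =>
    cases y with
    | a j =>
      have h2 := add_self_eq_of_not_mem A hA hidx hy hx
      refine ⟨?_, ?_⟩
      · rw [inv_a, inv_xa, a_mul_xa, xa_mul_a]
        congr 1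
        linear_combination -h2 - h2n
      · rw [a_mul_a, h2]
    | xa j =>
      have h3 : (a ((n : ZMod (2 * n)) + i - j) : QuaternionGroup n) ∉ A := by
        rw [← xa_mul_xa]
        rw [Subgroup.mul_mem_iff_of_index_two hidx]
        intro h
        exact hy (h.mpr hx)
      have h2 := add_self_eq_of_not_mem A hA hidx h3 hx
      refine ⟨?_, ?_⟩
      · rw [inv_xa, inv_xa, xa_mul_xa, a_mul_xa]
        congr 1
        linear_combination -h2
      · rw [xa_mul_xa]
        congr 1
        ring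

end quat

section quot

variable {R : Type*} [Group R] [Finite R]

/-- generators of a non-abelian 2-group with a unique involution, with more information -/
theorem exists_generators' (hR : IsPGroup 2 R) (hna : ¬ IsMulCommutative R)
    (hu : ∃! x : R, orderOf x = 2) :
    ∃ (N : ℕ) (x y : R), 2 ≤ N ∧ Even N ∧ orderOf x = 2 * N ∧ Nat.card R = 4 * N ∧
      y * x * y⁻¹ = x⁻¹ ∧ y * y = x ^ N ∧ y ∉ Subgroup.zpowers x ∧
      ∀ r : R, ∃ k : ℕ, r = x ^ k ∨ r = y * x ^ k := by
  haveI : Fact (Nat.Prime 2) := ⟨Nat.prime_two⟩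
  obtain ⟨k, ⟨φ⟩⟩ := exists_quaternion_iso hR hna hu
  haveI : NeZero (2 ^ k) := ⟨by positivity⟩
  have hcard : Nat.card R = 4 * 2 ^ k := by
    rw [Nat.card_congr φ.toEquiv, Nat.card_eq_fintype_card, QuaternionGroup.card]
  have hk : 1 ≤ k := by
    rcases Nat.eq_zero_or_pos k with h0 | h0
    · exfalso
      apply hna
      rw [h0] at hcard
      have h4 : Nat.card R = 2 ^ 2 := by rw [hcard]; norm_num
      exact IsPGroup.isMulCommutative_of_card_eq_prime_sq h4
    · exact h0
  refine ⟨2 ^ k, φ.symm (a 1), φ.symm (xa 0), ?_, ?_, ?_, hcard, ?_, ?_, ?_, ?_⟩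
  · calc 2 = 2 ^ 1 := rfl
      _ ≤ 2 ^ k := Nat.pow_le_pow_right (by norm_num) hk
  · exact (Nat.even_pow' (by omega)).mpr even_two
  · rw [MulEquiv.orderOf_eq, orderOf_a_one]
  · rw [← map_inv, ← map_mul, ← map_mul, ← map_inv, xa_zero_conj_a_one]
  · rw [← map_mul, ← map_pow, xa_mul_xa, a_one_pow]
    congr 2
    ring
  · intro h
    obtain ⟨j, hj⟩ := (Submonoid.mem_powers_iff _ _).mp (mem_powers_iff_mem_zpowers.mpr h)
    rw [← map_pow, a_one_pow] at hj
    have := φ.symm.injective hj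
    cases this
  · intro r
    have hr : r = φ.symm (φ r) := (φ.symm_apply_apply r).symm
    rcases hq : φ r with i | i
    · refine ⟨i.val, Or.inl ?_⟩
      rw [hr, hq, ← map_pow, ← a_eq_pow]
    · refine ⟨i.val, Or.inr ?_⟩
      rw [hr, hq, ← map_pow, ← map_mul, ← xa_eq]

/-- elements outside an abelian subgroup of index two invert it and square to an involution -/
theorem conj_inv_of_abelian_index_two (hR : IsPGroup 2 R) (hna : ¬ IsMulCommutative R)
    (hu : ∃! x : R, orderOf x = 2) (A : Subgroup R)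
    (hA : ∀ x ∈ A, ∀ x' ∈ A, x * x' = x' * x) (hidx : A.index = 2) {y : R} (hy : y ∉ A) :
    (∀ x ∈ A, y * x * y⁻¹ = x⁻¹) ∧ orderOf (y * y) = 2 := by
  obtain ⟨k, ⟨φ⟩⟩ := exists_quaternion_iso hR hna hu
  haveI : NeZero (2 ^ k) := ⟨by positivity⟩
  have hA' : ∀ x ∈ A.map (φ : R →* QuaternionGroup (2 ^ k)),
      ∀ x' ∈ A.map (φ : R →* QuaternionGroup (2 ^ k)), x * x' = x' * x := by
    rintro _ ⟨x, hx, rfl⟩ _ ⟨x', hx', rfl⟩
    show φ x * φ x' = φ x' * φ x
    rw [← map_mul, ← map_mul, hA x hx x' hx']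
  have hidx' : (A.map (φ : R →* QuaternionGroup (2 ^ k))).index = 2 := by
    rw [Subgroup.index_map_equiv, hidx]
  have hy' : φ y ∉ A.map (φ : R →* QuaternionGroup (2 ^ k)) := by
    rintro ⟨x, hx, hxy⟩
    have : x = y := φ.injective hxy
    exact hy (this ▸ hx)
  refine ⟨?_, ?_⟩
  · intro x hx
    have h1 := (conj_inv_quat _ hA' hidx' (Subgroup.mem_map_of_mem _ hx) hy').1
    apply φ.injective
    rw [map_mul, map_mul, map_inv, map_inv]
    exact h1
  · have h1 := (conj_inv_quat _ hA' hidx' (Subgroup.mem_map_of_mem _ (A.one_mem)) hy').2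
    rw [← MulEquiv.orderOf_eq φ, map_mul]
    have h2 : (φ : R →* QuaternionGroup (2 ^ k)) y = φ y := rfl
    rw [h1]
    exact orderOf_a_m

/-- abelian subgroups are cyclic -/
theorem isCyclic_of_abelian (hR : IsPGroup 2 R) (hu : ∃! x : R, orderOf x = 2) (A : Subgroup R)
    (hA : ∀ x ∈ A, ∀ x' ∈ A, x * x' = x' * x) : IsCyclic ↥A := by
  haveI : Fact (Nat.Prime 2) := ⟨Nat.prime_two⟩
  obtain ⟨u, hu2, huu⟩ := hu
  have hUOP : Cfsg.Agent.Lib.Lead.UniqueP.UOP 2 R := by
    intro x y hx hy hx1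
    by_cases hy1 : y = 1
    · rw [hy1]; exact one_mem _
    have ox : orderOf x = 2 := orderOf_eq_prime hx hx1
    have oy : orderOf y = 2 := orderOf_eq_prime hy hy1
    rw [huu y oy, ← huu x ox]
    exact Subgroup.mem_zpowers x
  letI : CommGroup A :=
    { (inferInstance : Group A) with
      mul_comm := fun x y => Subtype.ext (hA x.1 x.2 y.1 y.2) }
  exact Cfsg.Agent.Lib.Lead.UniqueP.isCyclic_of_comm 2 (hR.to_subgroup A) (hUOP.subgroup A)

end quot

end Cfsg.Agent.Lib.Helper8.QQ
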