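import Mathlib
import Cfsg.Agent.Lib.Helper8.QQ2
import Cfsg.Agent.Lib.Helper1.CoprimeSylow
import Cfsg.Prelude.Def_TwoFusion
import Cfsg.Prelude.Def_Transfer

/-! A 2-group with several generalized quaternion central quotients splits. -/
set_option autoImplicit false
open scoped commutatorElement Pointwise

namespace Cfsg.Agent.Lib.Helper8.QQ

theorem exists_direct_decomposition {S : Type*} [Group S] [Finite S] (hS : IsPGroup 2 S)
    {ι : Type*} (C : ι → Subgroup S) (i₀ : ι) [hn : ∀ i, (C i).Normal]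
    (hCZ : ∀ i, C i ≤ Subgroup.center S)
    (hsq : ∀ z ∈ Subgroup.center S, z ^ 2 = 1)
    (hcard : ∀ i, Nat.card (C i) = Nat.card (C i₀))
    (hint : ∀ x : S, (∀ i, x ∈ C i) → x = 1)
    (hq : ∀ i, ¬ IsMulCommutative (S ⧸ C i) ∧ ∃! x : S ⧸ C i, orderOf x = 2) :
    ∃ E Q : Subgroup S, Cfsg.IsInternalDirectProduct E Q ⊤ ∧ Cfsg.IsElementaryAbelian 2 E ∧
      ¬ IsMulCommutative ↥Q ∧ ∃! x : ↥Q, orderOf x = 2 := by
  haveI : Fact (Nat.Prime 2) := ⟨Nat.prime_two⟩
  have hRi : ∀ i, IsPGroup 2 (S ⧸ C i) := fun i => hS.to_quotient (C i)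
  obtain ⟨N, x, y, hN2, hNe, hox, hcardR, hrel, hyy, hyx, hform⟩ :=
    exists_generators' (hRi i₀) (hq i₀).1 (hq i₀).2
  obtain ⟨a, rfl⟩ := QuotientGroup.mk_surjective x
  obtain ⟨b, rfl⟩ := QuotientGroup.mk_surjective y
  have hcen : ∀ i, ∀ d ∈ C i, ∀ s : S, s * d = d * s := fun i d hd s =>
    Subgroup.mem_center_iff.mp (hCZ i hd) s
  have hmkd : ∀ d ∈ C i₀, (QuotientGroup.mk d : S ⧸ C i₀) = 1 :=
    fun d hd => (QuotientGroup.eq_one_iff d).mpr hd
  have hformS : ∀ s : S, ∃ (k : ℕ) (d : S), d ∈ C i₀ ∧ (s = a ^ k * d ∨ s = b * a ^ k * d) := by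
    intro s
    obtain ⟨k, hk | hk⟩ := hform (QuotientGroup.mk s)
    · refine ⟨k, (a ^ k)⁻¹ * s, ?_, Or.inl (by group)⟩
      rw [← QuotientGroup.mk_pow] at hk
      exact QuotientGroup.eq.mp hk.symm
    · refine ⟨k, (b * a ^ k)⁻¹ * s, ?_, Or.inr (by group)⟩
      rw [← QuotientGroup.mk_pow, ← QuotientGroup.mk_mul] at hk
      exact QuotientGroup.eq.mp hk.symm
  -- the abelian subgroup of index two
  obtain ⟨T, hT⟩ : ∃ T : Subgroup S, T = (Subgroup.zpowers
      (QuotientGroup.mk a : S ⧸ C i₀)).comap (QuotientGroup.mk' (C i₀)) := ⟨_, rfl⟩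
  have hTmem' : ∀ s, s ∈ T ↔ (QuotientGroup.mk s : S ⧸ C i₀) ∈
      Subgroup.zpowers (QuotientGroup.mk a : S ⧸ C i₀) := by
    intro s
    rw [hT]
    exact Iff.rfl
  have hTform : ∀ s ∈ T, ∃ (k : ℕ) (d : S), d ∈ C i₀ ∧ s = a ^ k * d := by
    intro s hs
    obtain ⟨k, d, hd, h | h⟩ := hformS s
    · exact ⟨k, d, hd, h⟩
    · exfalso
      apply hyx
      rw [hTmem'] at hs
      have h1 : (QuotientGroup.mk b : S ⧸ C i₀) =
          QuotientGroup.mk s * ((QuotientGroup.mk a : S ⧸ C i₀) ^ k)⁻¹ := by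
        rw [h, QuotientGroup.mk_mul, QuotientGroup.mk_mul, QuotientGroup.mk_pow, hmkd d hd,
          mul_one, mul_inv_cancel_right]
      rw [h1]
      exact Subgroup.mul_mem _ hs
        (Subgroup.inv_mem _ (Subgroup.pow_mem _ (Subgroup.mem_zpowers _) k))
  have hTof : ∀ (k : ℕ) (d : S), d ∈ C i₀ → a ^ k * d ∈ T := by
    intro k d hd
    rw [hTmem', QuotientGroup.mk_mul, QuotientGroup.mk_pow, hmkd d hd, mul_one]
    exact Subgroup.pow_mem _ (Subgroup.mem_zpowers _) k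
  have haT : a ∈ T := by
    have := hTof 1 1 (C i₀).one_mem
    simpa using this
  have hbT : b ∉ T := by rw [hTmem']; exact hyx
  have hTab : ∀ s ∈ T, ∀ t ∈ T, s * t = t * s := by
    intro s hs t ht
    obtain ⟨k, d, hd, rfl⟩ := hTform s hs
    obtain ⟨l, d', hd', rfl⟩ := hTform t ht
    have h1 : Commute (a ^ k) (a ^ l) := (Commute.refl a).pow_pow k l
    have h2 : ∀ u : S, Commute d u := fun u => (hcen i₀ d hd u).symm
    have h3 : ∀ u : S, Commute d' u := fun u => (hcen i₀ d' hd' u).symm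
    exact ((h1.mul_right (h3 _).symm).mul_left (h2 _)).eq
  have hNpos : 0 < N := by omega
  have hTidx : T.index = 2 := by
    rw [hT, Subgroup.index_comap_of_surjective _ (QuotientGroup.mk'_surjective (C i₀))]
    have h1 := Subgroup.card_mul_index (Subgroup.zpowers (QuotientGroup.mk a : S ⧸ C i₀))
    rw [Nat.card_zpowers, hox, hcardR] at h1
    have h2 : 2 * N * (Subgroup.zpowers (QuotientGroup.mk a : S ⧸ C i₀)).index = 2 * N * 2 := by
      rw [h1]; ring
    exact Nat.eq_of_mul_eq_mul_left (by omega) h2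
  have hZT : Subgroup.center S ≤ T := by
    intro z hz
    obtain ⟨k, d, hd, h | h⟩ := hformS z
    · rw [h]; exact hTof k d hd
    · exfalso
      have hb : b = z * (a ^ k * d)⁻¹ := by rw [h]; group
      have hza : Commute z a := (Subgroup.mem_center_iff.mp hz a).symm
      have hka : Commute (a ^ k * d) a :=
        ((Commute.refl a).pow_left k).mul_left ((hcen i₀ d hd a).symm)
      have hba : Commute b a := by rw [hb]; exact hza.mul_left hka.inv_left
      have h1 : (QuotientGroup.mk b : S ⧸ C i₀) * QuotientGroup.mk a * (QuotientGroup.mk b)⁻¹ =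
          QuotientGroup.mk a := by
        rw [← QuotientGroup.mk_mul, hba.eq, QuotientGroup.mk_mul, mul_inv_cancel_right]
      rw [hrel] at h1
      have h2 : (QuotientGroup.mk a : S ⧸ C i₀) ^ 2 = 1 := by
        rw [pow_two]
        nth_rewrite 1 [← h1]
        exact inv_mul_cancel _
      have h3 := orderOf_dvd_of_pow_eq_one h2
      rw [hox] at h3
      have := Nat.le_of_dvd two_pos h3
      omega
  have hCT : ∀ i, C i ≤ T := fun i => (hCZ i).trans hZT
  have hAidx : ∀ i, (T.map (QuotientGroup.mk' (C i))).index = 2 := by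
    intro i
    rw [Subgroup.index_map_eq _ (QuotientGroup.mk'_surjective (C i))
      (by rw [QuotientGroup.ker_mk']; exact hCT i), hTidx]
  have hAab : ∀ i, ∀ x ∈ T.map (QuotientGroup.mk' (C i)),
      ∀ x' ∈ T.map (QuotientGroup.mk' (C i)), x * x' = x' * x := by
    rintro i _ ⟨s, hs, rfl⟩ _ ⟨t, ht, rfl⟩
    rw [← map_mul, ← map_mul, hTab s hs t ht]
  have hbA : ∀ i, (QuotientGroup.mk b : S ⧸ C i) ∉ T.map (QuotientGroup.mk' (C i)) := by
    rintro i ⟨t, ht, hte⟩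
    apply hbT
    have h1 : t⁻¹ * b ∈ C i := QuotientGroup.eq.mp hte
    have : b = t * (t⁻¹ * b) := by group
    rw [this]
    exact T.mul_mem ht (hCT i h1)
  have hF2 : ∀ i, (∀ x ∈ T.map (QuotientGroup.mk' (C i)),
      (QuotientGroup.mk b : S ⧸ C i) * x * (QuotientGroup.mk b)⁻¹ = x⁻¹) ∧
      orderOf ((QuotientGroup.mk b : S ⧸ C i) * QuotientGroup.mk b) = 2 :=
    fun i => conj_inv_of_abelian_index_two (hRi i) (hq i).1 (hq i).2 _ (hAab i) (hAidx i) (hbA i)
  have hinv : ∀ t ∈ T, b * t * b⁻¹ = t⁻¹ := by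
    intro t ht
    have h1 : b * t * b⁻¹ * t = 1 := by
      apply hint
      intro i
      have h2 := (hF2 i).1 _ (Subgroup.mem_map_of_mem _ ht)
      rw [QuotientGroup.mk'_apply] at h2
      rw [← QuotientGroup.eq_one_iff, QuotientGroup.mk_mul, QuotientGroup.mk_mul,
        QuotientGroup.mk_mul, QuotientGroup.mk_inv, h2]
      exact inv_mul_cancel _
    exact eq_inv_of_mul_eq_one_left h1
  have huniq : ∀ i, ∀ w : S ⧸ C i, orderOf w = 2 →
      w = (QuotientGroup.mk b : S ⧸ C i) * QuotientGroup.mk b := by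
    intro i w hw
    obtain ⟨u, _, huu⟩ := (hq i).2
    rw [huu w hw, huu _ (hF2 i).2]
  have hcardRi : ∀ i, Nat.card (S ⧸ C i) = 4 * N := by
    intro i
    have h1 := Subgroup.card_eq_card_quotient_mul_card_subgroup (C i)
    have h2 := Subgroup.card_eq_card_quotient_mul_card_subgroup (C i₀)
    rw [hcard i] at h1
    rw [h1, hcardR] at h2
    exact Nat.eq_of_mul_eq_mul_right Nat.card_pos h2
  have hcardA : ∀ i, Nat.card (T.map (QuotientGroup.mk' (C i))) = 2 * N := by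
    intro i
    have h1 := Subgroup.card_mul_index (T.map (QuotientGroup.mk' (C i)))
    rw [hAidx i, hcardRi i] at h1
    omega
  have haN : ∀ i, (QuotientGroup.mk (a ^ N) : S ⧸ C i) =
      QuotientGroup.mk b * QuotientGroup.mk b := by
    intro i
    have hcyc := isCyclic_of_abelian (hRi i) (hq i).2 _ (hAab i)
    obtain ⟨⟨g, hgA⟩, hgen⟩ := hcyc.exists_generator
    have hog : orderOf g = 2 * N := by
      rw [← hcardA i, ← Subgroup.orderOf_mk g hgA]
      exact orderOf_eq_card_of_forall_mem_zpowers hgen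
    clear hgen
    obtain ⟨t, ht, rfl⟩ := hgA
    obtain ⟨k, d, hd, rfl⟩ := hTform t ht
    obtain ⟨w, hw⟩ : ∃ w : S ⧸ C i, w = QuotientGroup.mk (a ^ N) := ⟨_, rfl⟩
    have hmkaA : (QuotientGroup.mk a : S ⧸ C i) ∈ T.map (QuotientGroup.mk' (C i)) :=
      Subgroup.mem_map_of_mem _ haT
    have hww : w * w = 1 := by
      rw [hw, ← QuotientGroup.mk_mul, ← pow_add, QuotientGroup.mk_pow]
      have h1 : orderOf (QuotientGroup.mk a : S ⧸ C i) ∣ 2 * N := by
        rw [← hcardA i, ← Subgroup.orderOf_mk _ hmkaA]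
        exact orderOf_dvd_natCard _
      have : N + N = 2 * N := by ring
      rw [this]
      exact orderOf_dvd_iff_pow_eq_one.mp h1
    have hdN : d ^ N = 1 := by
      obtain ⟨r, hr⟩ := hNe
      rw [hr, ← two_mul, pow_mul, hsq d (hCZ i₀ hd), one_pow]
    have hgN : ((QuotientGroup.mk' (C i)) (a ^ k * d)) ^ N = w ^ k := by
      rw [QuotientGroup.mk'_apply, ← QuotientGroup.mk_pow]
      have hc : Commute (a ^ k) d := hcen i₀ d hd (a ^ k)
      rw [hc.mul_pow, hdN, mul_one, ← pow_mul, mul_comm, pow_mul, QuotientGroup.mk_pow, hw]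
    rw [← hw]
    by_cases hw1 : w = 1
    · exfalso
      rw [hw1, one_pow] at hgN
      have h3 := orderOf_dvd_of_pow_eq_one hgN
      rw [hog] at h3
      have := Nat.le_of_dvd hNpos h3
      omega
    · have how : orderOf w = 2 := orderOf_eq_prime (by rw [pow_two]; exact hww) hw1
      exact huniq i w how
  have haNbb : a ^ N = b * b := by
    have h1 : (a ^ N)⁻¹ * (b * b) = 1 := by
      apply hint
      intro i
      rw [← QuotientGroup.eq, haN i, QuotientGroup.mk_mul]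
    exact inv_mul_eq_one.mp h1
  have hbbT : b * b ∈ T := Subgroup.mul_self_mem_of_index_two hTidx b
  have hb4 : (b * b) * (b * b) = 1 := by
    have h1 := hinv (b * b) hbbT
    have h2 : b * (b * b) * b⁻¹ = b * b := by group
    rw [h2] at h1
    calc (b * b) * (b * b) = (b * b)⁻¹ * (b * b) := by rw [← h1]
      _ = 1 := inv_mul_cancel _
  have ha2N : a ^ (2 * N) = 1 := by
    rw [two_mul, pow_add, haNbb, hb4]
  have horda : orderOf a = 2 * N := by
    apply Nat.dvd_antisymm (orderOf_dvd_of_pow_eq_one ha2N)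
    rw [← hox]
    exact orderOf_map_dvd (QuotientGroup.mk' (C i₀)) a
  -- the complement
  obtain ⟨Q, hQ⟩ : ∃ Q : Subgroup S, Q = Subgroup.zpowers a ⊔ Subgroup.zpowers b := ⟨_, rfl⟩
  have hinv' : ∀ t ∈ T, b⁻¹ * t * b = t⁻¹ := by
    intro t ht
    have h1 := hinv t⁻¹ (T.inv_mem ht)
    rw [inv_inv] at h1
    calc b⁻¹ * t * b = b⁻¹ * (b * t⁻¹ * b⁻¹) * b := by rw [h1]
      _ = t⁻¹ := by group
  have hbnorm : Subgroup.zpowers b ≤ Subgroup.normalizer (Subgroup.zpowers a : Set S) := by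
    rw [Subgroup.zpowers_le, Subgroup.mem_normalizer_iff]
    intro h
    constructor
    · rintro ⟨l, rfl⟩
      rw [hinv _ (T.zpow_mem haT l)]
      exact Subgroup.inv_mem _ (Subgroup.zpow_mem _ (Subgroup.mem_zpowers a) l)
    · rintro ⟨l, hl⟩
      have hl' : a ^ l = b * h * b⁻¹ := hl
      have h1 : h = b⁻¹ * (a ^ l) * b := by rw [hl']; group
      rw [h1, hinv' _ (T.zpow_mem haT l)]
      exact Subgroup.inv_mem _ (Subgroup.zpow_mem _ (Subgroup.mem_zpowers a) l)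
  have hQmem : ∀ q ∈ Q, ∃ (i j : ℤ), q = a ^ i * b ^ j := by
    intro q hq
    have h1 : q ∈ ((Subgroup.zpowers a ⊔ Subgroup.zpowers b : Subgroup S) : Set S) := by
      rw [← hQ]; exact hq
    rw [Subgroup.coe_mul_of_right_le_normalizer_left _ _ hbnorm] at h1
    obtain ⟨_, ⟨i, rfl⟩, _, ⟨j, rfl⟩, rfl⟩ := Set.mem_mul.mp h1
    exact ⟨i, j, rfl⟩
  have hEQ : C i₀ ⊓ Q = ⊥ := by
    rw [eq_bot_iff]
    rintro q ⟨hqE, hqQ⟩
    rw [Subgroup.mem_bot]
    obtain ⟨i, j, rfl⟩ := hQmem q hqQ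
    have hqE' : a ^ i * b ^ j ∈ C i₀ := hqE
    have h1 : (QuotientGroup.mk a : S ⧸ C i₀) ^ i * (QuotientGroup.mk b : S ⧸ C i₀) ^ j = 1 := by
      rw [← QuotientGroup.mk_zpow, ← QuotientGroup.mk_zpow, ← QuotientGroup.mk_mul]
      exact (QuotientGroup.eq_one_iff _).mpr hqE'
    rcases Int.even_or_odd' j with ⟨l, hl | hl⟩
    · have hbj : b ^ j = a ^ ((N : ℤ) * l) := by
        rw [hl, zpow_mul, zpow_two, ← haNbb, ← zpow_natCast, ← zpow_mul]
      rw [hbj, ← zpow_add] at hqE' ⊢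
      have h2 : (QuotientGroup.mk a : S ⧸ C i₀) ^ (i + (N : ℤ) * l) = 1 := by
        rw [← QuotientGroup.mk_zpow]
        exact (QuotientGroup.eq_one_iff _).mpr hqE'
      have h3 : ((orderOf (QuotientGroup.mk a : S ⧸ C i₀) : ℕ) : ℤ) ∣ i + (N : ℤ) * l :=
        orderOf_dvd_iff_zpow_eq_one.mpr h2
      rw [hox, ← horda] at h3
      exact orderOf_dvd_iff_zpow_eq_one.mp h3
    · exfalso
      apply hyx
      have hbj : (QuotientGroup.mk b : S ⧸ C i₀) ^ j =
          (QuotientGroup.mk a : S ⧸ C i₀) ^ ((N : ℤ) * l) * QuotientGroup.mk b := by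
        rw [hl, zpow_add, zpow_one, zpow_mul, zpow_two, hyy, ← zpow_natCast, ← zpow_mul]
      rw [hbj, ← mul_assoc, ← zpow_add] at h1
      have h4 : (QuotientGroup.mk b : S ⧸ C i₀) =
          ((QuotientGroup.mk a : S ⧸ C i₀) ^ (i + (N : ℤ) * l))⁻¹ :=
        eq_inv_of_mul_eq_one_right h1
      rw [h4]
      exact Subgroup.inv_mem _ (Subgroup.zpow_mem _ (Subgroup.mem_zpowers _) _)
  have haQ : a ∈ Q := by rw [hQ]; exact Subgroup.mem_sup_left (Subgroup.mem_zpowers a)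
  have hbQ : b ∈ Q := by rw [hQ]; exact Subgroup.mem_sup_right (Subgroup.mem_zpowers b)
  have hsup : C i₀ ⊔ Q = ⊤ := by
    rw [eq_top_iff]
    intro s _
    obtain ⟨k, d, hd, rfl | rfl⟩ := hformS s
    · have : a ^ k * d = d * a ^ k := hcen i₀ d hd _
      rw [this]
      exact Subgroup.mul_mem_sup hd (Q.pow_mem haQ k)
    · have : b * a ^ k * d = d * (b * a ^ k) := hcen i₀ d hd _
      rw [this]
      exact Subgroup.mul_mem_sup hd (Q.mul_mem hbQ (Q.pow_mem haQ k))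
  obtain ⟨f, hf⟩ : ∃ f : ↥Q →* S ⧸ C i₀, f = (QuotientGroup.mk' (C i₀)).comp Q.subtype :=
    ⟨_, rfl⟩
  have hfa : ∀ q : ↥Q, f q = QuotientGroup.mk (q : S) := fun q => by rw [hf]; rfl
  have hfinj : Function.Injective f := by
    rw [injective_iff_map_eq_one]
    intro q hq1
    rw [hfa] at hq1
    have h1 : (q : S) ∈ C i₀ := (QuotientGroup.eq_one_iff _).mp hq1
    have h2 : (q : S) ∈ C i₀ ⊓ Q := ⟨h1, q.2⟩
    rw [hEQ, Subgroup.mem_bot] at h2
    exact Subtype.ext h2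
  have hfsurj : Function.Surjective f := by
    intro r
    obtain ⟨s, rfl⟩ := QuotientGroup.mk_surjective r
    obtain ⟨k, d, hd, rfl | rfl⟩ := hformS s
    · refine ⟨⟨a ^ k, Q.pow_mem haQ k⟩, ?_⟩
      rw [hfa, QuotientGroup.mk_mul, hmkd d hd, mul_one]
    · refine ⟨⟨b * a ^ k, Q.mul_mem hbQ (Q.pow_mem haQ k)⟩, ?_⟩
      rw [hfa, QuotientGroup.mk_mul (C i₀) (b * a ^ k) d, hmkd d hd, mul_one]
  obtain ⟨φ, hφ⟩ : ∃ φ : ↥Q ≃* S ⧸ C i₀, φ = MulEquiv.ofBijective f ⟨hfinj, hfsurj⟩ := ⟨_, rfl⟩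
  refine ⟨C i₀, Q, ⟨le_top, le_top, ?_, hEQ, hsup⟩, ⟨?_, ?_⟩, ?_, ?_⟩
  · intro e he q _
    exact (hcen i₀ e he q).symm
  · exact ⟨⟨fun x y => Subtype.ext (hcen i₀ y.1 y.2 x.1)⟩⟩
  · intro e he
    exact hsq e (hCZ i₀ he)
  · intro hc
    apply (hq i₀).1
    refine ⟨⟨fun r r' => ?_⟩⟩
    obtain ⟨q, rfl⟩ := φ.surjective r
    obtain ⟨q', rfl⟩ := φ.surjective r'
    rw [← map_mul, ← map_mul, hc.is_comm.comm q q']
  · obtain ⟨u, hu2, huu⟩ := (hq i₀).2
    have hu2' : orderOf u = 2 := hu2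
    refine ⟨φ.symm u, ?_, ?_⟩
    · show orderOf (φ.symm u) = 2
      rw [MulEquiv.orderOf_eq]
      exact hu2'
    · intro q hq2
      have hq2' : orderOf q = 2 := hq2
      have : φ q = u := huu (φ q) (by
        show orderOf (φ q) = 2
        rw [MulEquiv.orderOf_eq]; exact hq2')
      rw [← this, MulEquiv.symm_apply_apply]

end Cfsg.Agent.Lib.Helper8.QQ
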