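import Mathlib

/-! # S1233 farm, unit E (case II), part 1: `Q` is normal in `S`

`Core` collects, elementwise, the facts on `Q = Q₁ ∘ Q₂` used in case II
(`C_S(Q₂) = Q₁`, `C_S(Q₁) = Q₂`). -/

set_option autoImplicit false
set_option linter.unusedVariables false
set_option linter.unusedSectionVars false
set_option linter.style.longLine false
set_option maxHeartbeats 1000000

namespace Cfsg.Agent.Lib.Helper8.QQE

variable {S : Type*} [Group S]

/-- the elementwise context of case II -/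
structure Core (Q Q1 Q2 : Subgroup S) (z : S) : Prop where
  z_ne : z ≠ 1
  z_sq : z * z = 1
  z_c : ∀ s : S, s * z = z * s
  z1 : z ∈ Q1
  z2 : z ∈ Q2
  le1 : Q1 ≤ Q
  le2 : Q2 ≤ Q
  inter : ∀ x, x ∈ Q1 → x ∈ Q2 → x = 1 ∨ x = z
  comm : ∀ a ∈ Q1, ∀ b ∈ Q2, a * b = b * a
  sq1 : ∀ x ∈ Q1, x = 1 ∨ x = z ∨ x * x = z
  sq2 : ∀ x ∈ Q2, x = 1 ∨ x = z ∨ x * x = z
  ijk1 : ∃ i ∈ Q1, ∃ j ∈ Q1, i * i = z ∧ j * j = z ∧ (i * j) * (i * j) = z
  a5_1 : ∀ y : S, (∀ q ∈ Q1, y * q * y⁻¹ = q ∨ y * q * y⁻¹ = q * z) → y ∈ Q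
  a5_2 : ∀ y : S, (∀ q ∈ Q2, y * q * y⁻¹ = q ∨ y * q * y⁻¹ = q * z) → y ∈ Q
  a6 : ∀ g : S, (∀ q ∈ Q, g * q * g⁻¹ ∈ Q) →
    ((∀ q ∈ Q1, g * q * g⁻¹ ∈ Q1) ∧ (∀ q ∈ Q2, g * q * g⁻¹ ∈ Q2)) ∨
    ((∀ q ∈ Q1, g * q * g⁻¹ ∈ Q2) ∧ (∀ q ∈ Q2, g * q * g⁻¹ ∈ Q1))
  e1idx : ∀ y y' : S, (∀ q ∈ Q1, y * q * y⁻¹ ∈ Q1) → (∀ q ∈ Q2, y * q * y⁻¹ ∈ Q2) →
    (∀ q ∈ Q1, y' * q * y'⁻¹ ∈ Q1) → (∀ q ∈ Q2, y' * q * y'⁻¹ ∈ Q2) →
    y ∈ Q ∨ y' ∈ Q ∨ y⁻¹ * y' ∈ Q

variable {Q Q1 Q2 : Subgroup S} {z : S}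

/-- an element with square `z` is neither `1` nor `z` -/
theorem Core.not_sq (h : Core Q Q1 Q2 z) {c : S} (hc : c * c = z) : c ≠ 1 ∧ c ≠ z := by
  constructor
  · rintro rfl
    rw [mul_one] at hc
    exact h.z_ne hc.symm
  · rintro rfl
    rw [h.z_sq] at hc
    exact h.z_ne hc.symm

/-- the index-two principle -/
theorem index_step [Finite S] (hcard : Nat.card Q = 32) (Q' : Subgroup S) (hcard' : Nat.card Q' = 32)
    (hidx : ∀ y ∈ Q', ∀ y' ∈ Q', y ∈ Q ∨ y' ∈ Q ∨ y⁻¹ * y' ∈ Q) :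
    ∀ a ∈ Q, ∀ b ∈ Q, a ∈ Q' ∨ b ∈ Q' ∨ a * b ∈ Q' := by
  classical
  intro a ha b hb
  by_cases hle : Q' ≤ Q
  · have : Q' = Q := Subgroup.eq_of_le_of_card_ge hle (by rw [hcard, hcard'])
    left
    rw [this]
    exact ha
  · obtain ⟨y0, hy0, hy0Q⟩ := SetLike.not_le_iff_exists.mp hle
    -- card Q' ≤ 2 * card (Q ⊓ Q')
    let I : Subgroup S := Q ⊓ Q'
    have hinj : Nat.card ↥Q' ≤ Nat.card (↥I × Bool) := by
      let f : ↥Q' → ↥I × Bool := fun y =>
        if hy : (y : S) ∈ Q then (⟨(y : S), ⟨hy, y.2⟩⟩, false)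
        else (⟨y0⁻¹ * (y : S), by
          refine ⟨?_, Q'.mul_mem (Q'.inv_mem hy0) y.2⟩
          rcases hidx y0 hy0 y y.2 with h | h | h
          · exact absurd h hy0Q
          · exact absurd h hy
          · exact h⟩, true)
      have hf : Function.Injective f := by
        intro y y' hyy
        by_cases hy : (y : S) ∈ Q <;> by_cases hy' : (y' : S) ∈ Q
        · simp only [f, dif_pos hy, dif_pos hy', Prod.mk.injEq, and_true] at hyy
          exact Subtype.ext (congrArg (fun t : ↥I => (t : S)) hyy)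
        · simp only [f, dif_pos hy, dif_neg hy', Prod.mk.injEq] at hyy
          exact absurd hyy.2 (by simp)
        · simp only [f, dif_neg hy, dif_pos hy', Prod.mk.injEq] at hyy
          exact absurd hyy.2 (by simp)
        · simp only [f, dif_neg hy, dif_neg hy', Prod.mk.injEq, and_true] at hyy
          exact Subtype.ext (mul_left_cancel (congrArg (fun t : ↥I => (t : S)) hyy))
      exact Nat.card_le_card_of_injective f hf
    have hI16 : 16 ≤ Nat.card ↥I := by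
      rw [Nat.card_prod, Nat.card_eq_fintype_card (α := Bool), Fintype.card_bool, hcard'] at hinj
      omega
    -- index of I in Q is at most 2
    let J : Subgroup ↥Q := I.subgroupOf Q
    have hJcard : Nat.card ↥J = Nat.card ↥I := by
      have : I ≤ Q := inf_le_left
      exact Nat.card_congr (Subgroup.subgroupOfEquivOfLe this).toEquiv
    have hJ : J.index * Nat.card ↥J = 32 := by
      rw [mul_comm, Subgroup.card_mul_index, hcard]
    have hJidx : J.index = 1 ∨ J.index = 2 := by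
      rw [hJcard] at hJ
      have h1 : J.index ≤ 2 := by
        by_contra hgt
        push Not at hgt
        have : 3 * 16 ≤ J.index * Nat.card ↥I := Nat.mul_le_mul hgt hI16
        omega
      have h0 : J.index ≠ 0 := by
        intro h0
        rw [h0] at hJ
        omega
      omega
    rcases hJidx with h1 | h2
    · left
      have : J = ⊤ := Subgroup.index_eq_one.mp h1
      have hm : (⟨a, ha⟩ : ↥Q) ∈ J := by rw [this]; exact Subgroup.mem_top _
      exact (Subgroup.mem_subgroupOf.mp hm).2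
    · by_cases haQ' : a ∈ Q'
      · exact Or.inl haQ'
      by_cases hbQ' : b ∈ Q'
      · exact Or.inr (Or.inl hbQ')
      right; right
      have haJ : (⟨a, ha⟩ : ↥Q) ∉ J := fun hm => haQ' (Subgroup.mem_subgroupOf.mp hm).2
      have hbJ : (⟨b, hb⟩ : ↥Q) ∉ J := fun hm => hbQ' (Subgroup.mem_subgroupOf.mp hm).2
      have := (Subgroup.mul_mem_iff_of_index_two h2 (a := (⟨a, ha⟩ : ↥Q)) (b := ⟨b, hb⟩)).mpr
        ⟨fun h => absurd h haJ, fun h => absurd h hbJ⟩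
      exact (Subgroup.mem_subgroupOf.mp this).2

/-- `y` preserves `Q₁` and `Q₂` -/
def Pres (Q1 Q2 : Subgroup S) (y : S) : Prop :=
  (∀ q ∈ Q1, y * q * y⁻¹ ∈ Q1) ∧ (∀ q ∈ Q2, y * q * y⁻¹ ∈ Q2)

/-- `y` swaps `Q₁` and `Q₂` -/
def Swap (Q1 Q2 : Subgroup S) (y : S) : Prop :=
  (∀ q ∈ Q1, y * q * y⁻¹ ∈ Q2) ∧ (∀ q ∈ Q2, y * q * y⁻¹ ∈ Q1)

theorem Core.not_le12 (h : Core Q Q1 Q2 z) : ¬ Q1 ≤ Q2 := by
  intro hle
  obtain ⟨i, hi, j, hj, hii, -, -⟩ := h.ijk1
  rcases h.inter i hi (hle hi) with h1 | h1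
  · exact (h.not_sq hii).1 h1
  · exact (h.not_sq hii).2 h1

/-- **E2, core**: a second subgroup `Q'` of order 32, of class 2 modulo `z`, normalising `Q` and
normalised by `Q`, equals `Q`. -/
theorem eq_of_normalizing [Finite S] (h : Core Q Q1 Q2 z) (hcard : Nat.card Q = 32)
    (Q' : Subgroup S) (hcard' : Nat.card Q' = 32)
    (hN1 : ∀ y ∈ Q', ∀ q ∈ Q, y * q * y⁻¹ ∈ Q) (hN2 : ∀ x ∈ Q, ∀ y ∈ Q', x * y * x⁻¹ ∈ Q')
    (hc' : ∀ y ∈ Q', ∀ y' ∈ Q', y * y' = y' * y ∨ y * y' = z * (y' * y)) : Q' = Q := by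
  classical
  have hPS : ∀ y ∈ Q', Pres Q1 Q2 y ∨ Swap Q1 Q2 y := fun y hy => h.a6 y (hN1 y hy)
  -- L1
  have L1 : ∀ y ∈ Q', Pres Q1 Q2 y → y ∉ Q → ∃ c ∈ Q1, c ∈ Q' ∧ c * c = z := by
    intro y hy hpres hyQ
    by_contra hno
    apply hyQ
    apply h.a5_1
    intro q hq
    by_contra hne
    push Not at hne
    apply hno
    refine ⟨q⁻¹ * (y * q * y⁻¹), Q1.mul_mem (Q1.inv_mem hq) (hpres.1 q hq), ?_, ?_⟩
    · have h1 : q⁻¹ * y * q⁻¹⁻¹ ∈ Q' := hN2 q⁻¹ (Q.inv_mem (h.le1 hq)) y hy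
      have h2 : q⁻¹ * (y * q * y⁻¹) = (q⁻¹ * y * q⁻¹⁻¹) * y⁻¹ := by group
      rw [h2]
      exact Q'.mul_mem h1 (Q'.inv_mem hy)
    · rcases h.sq1 _ (Q1.mul_mem (Q1.inv_mem hq) (hpres.1 q hq)) with h1 | h1 | h1
      · exfalso
        apply hne.1
        have : y * q * y⁻¹ = q * (q⁻¹ * (y * q * y⁻¹)) := by group
        rw [this, h1, mul_one]
      · exfalso
        apply hne.2
        have : y * q * y⁻¹ = q * (q⁻¹ * (y * q * y⁻¹)) := by group
        rw [this, h1]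
      · exact h1
  -- L2
  have L2 : ∀ y ∈ Q', Swap Q1 Q2 y → ∀ c ∈ Q1, c ∈ Q' → c * c = z → False := by
    intro y hy hswap c hc1 hcQ' hcc
    have h1 : y * c * y⁻¹ ∈ Q2 := hswap.1 c hc1
    have hc2 : c ∈ Q2 := by
      rcases hc' y hy c hcQ' with h2 | h2
      · have : y * c * y⁻¹ = c := by rw [h2]; group
        rwa [this] at h1
      · have : y * c * y⁻¹ = z * c := by rw [h2]; group
        rw [this] at h1
        have := Q2.mul_mem (Q2.inv_mem h.z2) h1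
        rwa [inv_mul_cancel_left] at this
    rcases h.inter c hc1 hc2 with h3 | h3
    · exact (h.not_sq hcc).1 h3
    · exact (h.not_sq hcc).2 h3
  apply Subgroup.eq_of_le_of_card_ge _ (by rw [hcard, hcard'])
  by_contra hle
  obtain ⟨y0, hy0, hy0Q⟩ := SetLike.not_le_iff_exists.mp hle
  by_cases hsw : ∃ ys ∈ Q', Swap Q1 Q2 ys
  · -- Case A
    obtain ⟨ys, hys, hswap⟩ := hsw
    have hPQ : ∀ y ∈ Q', Pres Q1 Q2 y → y ∈ Q := by
      intro y hy hpres
      by_contra hyQ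
      obtain ⟨c, hc1, hcQ', hcc⟩ := L1 y hy hpres hyQ
      exact L2 ys hys hswap c hc1 hcQ' hcc
    have hswinv : ∀ y ∈ Q', Swap Q1 Q2 y → Swap Q1 Q2 y⁻¹ := by
      intro y hy hs
      rcases hPS y⁻¹ (Q'.inv_mem hy) with hp | hp
      · exfalso
        apply h.not_le12
        intro q hq
        have h1 := hp.2 _ (hs.1 q hq)
        have : y⁻¹ * (y * q * y⁻¹) * y⁻¹⁻¹ = q := by group
        rwa [this] at h1
      · exact hp
    have hidx : ∀ y ∈ Q', ∀ y' ∈ Q', y ∈ Q ∨ y' ∈ Q ∨ y⁻¹ * y' ∈ Q := by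
      intro y hy y' hy'
      by_cases h1 : y ∈ Q
      · exact Or.inl h1
      by_cases h2 : y' ∈ Q
      · exact Or.inr (Or.inl h2)
      right; right
      have hs : Swap Q1 Q2 y := by
        rcases hPS y hy with hp | hp
        · exact absurd (hPQ y hy hp) h1
        · exact hp
      have hs' : Swap Q1 Q2 y' := by
        rcases hPS y' hy' with hp | hp
        · exact absurd (hPQ y' hy' hp) h2
        · exact hp
      have hsi := hswinv y hy hs
      apply hPQ _ (Q'.mul_mem (Q'.inv_mem hy) hy')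
      constructor
      · intro q hq
        have := hsi.2 _ (hs'.1 q hq)
        have e : y⁻¹ * y' * q * (y⁻¹ * y')⁻¹ = y⁻¹ * (y' * q * y'⁻¹) * y⁻¹⁻¹ := by group
        rw [e]; exact this
      · intro q hq
        have := hsi.1 _ (hs'.2 q hq)
        have e : y⁻¹ * y' * q * (y⁻¹ * y')⁻¹ = y⁻¹ * (y' * q * y'⁻¹) * y⁻¹⁻¹ := by group
        rw [e]; exact this
    have hstep := index_step hcard Q' hcard' hidx
    obtain ⟨i, hi, j, hj, hii, hjj, hij⟩ := h.ijk1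
    rcases hstep i (h.le1 hi) j (h.le1 hj) with h1 | h1 | h1
    · exact L2 ys hys hswap i hi h1 hii
    · exact L2 ys hys hswap j hj h1 hjj
    · exact L2 ys hys hswap (i * j) (Q1.mul_mem hi hj) h1 hij
  · -- Case B
    push Not at hsw
    have hP : ∀ y ∈ Q', Pres Q1 Q2 y := by
      intro y hy
      rcases hPS y hy with hp | hp
      · exact hp
      · exact absurd hp (hsw y hy)
    have hidx : ∀ y ∈ Q', ∀ y' ∈ Q', y ∈ Q ∨ y' ∈ Q ∨ y⁻¹ * y' ∈ Q := by
      intro y hy y' hy'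
      exact h.e1idx y y' (hP y hy).1 (hP y hy).2 (hP y' hy').1 (hP y' hy').2
    have hstep := index_step hcard Q' hcard' hidx
    have hp0 := hP y0 hy0
    -- x1, x2
    have hx1 : ∃ x1 ∈ Q1, y0 * x1 * y0⁻¹ ≠ x1 ∧ y0 * x1 * y0⁻¹ ≠ x1 * z := by
      by_contra hno
      push Not at hno
      apply hy0Q
      apply h.a5_1
      intro q hq
      by_cases h1 : y0 * q * y0⁻¹ = q
      · exact Or.inl h1
      · exact Or.inr (hno q hq h1)
    have hx2 : ∃ x2 ∈ Q2, y0 * x2 * y0⁻¹ ≠ x2 ∧ y0 * x2 * y0⁻¹ ≠ x2 * z := by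
      by_contra hno
      push Not at hno
      apply hy0Q
      apply h.a5_2
      intro q hq
      by_cases h1 : y0 * q * y0⁻¹ = q
      · exact Or.inl h1
      · exact Or.inr (hno q hq h1)
    obtain ⟨x1, hx1m, hx1a, hx1b⟩ := hx1
    obtain ⟨x2, hx2m, hx2a, hx2b⟩ := hx2
    -- an element of Q' is centralised by y0 modulo z
    have hcent : ∀ x ∈ Q', y0 * x * y0⁻¹ = x ∨ y0 * x * y0⁻¹ = x * z := by
      intro x hx
      rcases hc' y0 hy0 x hx with h2 | h2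
      · left; rw [h2]; group
      · right
        have : y0 * x * y0⁻¹ = z * x := by rw [h2]; group
        rw [this, h.z_c]
    rcases hstep x1 (h.le1 hx1m) x2 (h.le2 hx2m) with h1 | h1 | h1
    · rcases hcent x1 h1 with h2 | h2
      · exact hx1a h2
      · exact hx1b h2
    · rcases hcent x2 h1 with h2 | h2
      · exact hx2a h2
      · exact hx2b h2
    · -- x1 * x2 ∈ Q'
      have hx1' : y0 * x1 * y0⁻¹ ∈ Q1 := hp0.1 x1 hx1m
      have hx2' : y0 * x2 * y0⁻¹ ∈ Q2 := hp0.2 x2 hx2m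
      have hprod : y0 * (x1 * x2) * y0⁻¹ = (y0 * x1 * y0⁻¹) * (y0 * x2 * y0⁻¹) := by group
      -- w ∈ {1, z} with x1' x2' = x1 x2 w
      have key : ∀ w : S, w ∈ Q2 → (∀ s : S, s * w = w * s) →
          (y0 * x1 * y0⁻¹) * (y0 * x2 * y0⁻¹) = x1 * x2 * w →
          x1⁻¹ * (y0 * x1 * y0⁻¹) ∈ Q2 := by
        intro w hw hwc hE
        have : x1⁻¹ * (y0 * x1 * y0⁻¹) = x2 * w * (y0 * x2 * y0⁻¹)⁻¹ := by
          have h3 : x1⁻¹ * (y0 * x1 * y0⁻¹) =
              x1⁻¹ * ((y0 * x1 * y0⁻¹) * (y0 * x2 * y0⁻¹)) * (y0 * x2 * y0⁻¹)⁻¹ := by group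
          rw [h3, hE]; group
        rw [this]
        exact Q2.mul_mem (Q2.mul_mem hx2m hw) (Q2.inv_mem hx2')
      have hu1 : x1⁻¹ * (y0 * x1 * y0⁻¹) ∈ Q1 := Q1.mul_mem (Q1.inv_mem hx1m) hx1'
      have hu2 : x1⁻¹ * (y0 * x1 * y0⁻¹) ∈ Q2 := by
        rcases hcent (x1 * x2) h1 with h2 | h2
        · apply key 1 Q2.one_mem (fun s => by simp)
          rw [← hprod, h2, mul_one]
        · apply key z h.z2 h.z_c
          rw [← hprod, h2]
      rcases h.inter _ hu1 hu2 with h3 | h3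
      · apply hx1a
        have : y0 * x1 * y0⁻¹ = x1 * (x1⁻¹ * (y0 * x1 * y0⁻¹)) := by group
        rw [this, h3, mul_one]
      · apply hx1b
        have : y0 * x1 * y0⁻¹ = x1 * (x1⁻¹ * (y0 * x1 * y0⁻¹)) := by group
        rw [this, h3]

/-- **E2**: in case II, `Q` is normal in `S`. -/
theorem normal_of_core [Finite S] (hS : IsPGroup 2 S) (h : Core Q Q1 Q2 z) (hcard : Nat.card Q = 32)
    (hQc : ∀ x ∈ Q, ∀ y ∈ Q, x * y = y * x ∨ x * y = z * (y * x)) :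
    ∀ g : S, ∀ q ∈ Q, g * q * g⁻¹ ∈ Q := by
  classical
  have hnil : Group.IsNilpotent S := hS.isNilpotent
  have hNC : NormalizerCondition S := Group.normalizerCondition_of_isNilpotent
  have htop : Subgroup.normalizer (Q : Set S) = ⊤ := by
    by_contra hne
    have hlt : Subgroup.normalizer (Q : Set S) < Subgroup.normalizer ((Subgroup.normalizer (Q : Set S) : Subgroup S) : Set S) := hNC _ (lt_top_iff_ne_top.mpr hne)
    obtain ⟨g, hgN, hgT⟩ := SetLike.exists_of_lt hlt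
    -- Q' = g Q g⁻¹
    let Q' : Subgroup S := Q.map (MulAut.conj g).toMonoidHom
    have hmemQ' : ∀ y, y ∈ Q' ↔ ∃ q ∈ Q, g * q * g⁻¹ = y := by
      intro y
      constructor
      · rintro ⟨q, hq, rfl⟩
        exact ⟨q, hq, by simp [MulAut.conj_apply]⟩
      · rintro ⟨q, hq, rfl⟩
        exact ⟨q, hq, by simp [MulAut.conj_apply]⟩
    have hcard' : Nat.card Q' = 32 := by
      rw [← hcard]
      exact Subgroup.card_map_of_injective (MulAut.conj g).injective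
    have hQ'T : Q' ≤ Subgroup.normalizer (Q : Set S) := by
      intro y hy
      obtain ⟨q, hq, rfl⟩ := (hmemQ' y).mp hy
      exact (Subgroup.mem_normalizer_iff.mp hgN q).mp (Subgroup.le_normalizer hq)
    have hN1 : ∀ y ∈ Q', ∀ q ∈ Q, y * q * y⁻¹ ∈ Q := by
      intro y hy q hq
      exact (Subgroup.mem_normalizer_iff.mp (hQ'T hy) q).mp hq
    have hginv : g⁻¹ ∈ Subgroup.normalizer ((Subgroup.normalizer (Q : Set S) : Subgroup S) : Set S) := inv_mem hgN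
    have hN2 : ∀ x ∈ Q, ∀ y ∈ Q', x * y * x⁻¹ ∈ Q' := by
      intro x hx y hy
      obtain ⟨q, hq, rfl⟩ := (hmemQ' y).mp hy
      have h1 : g⁻¹ * x * g⁻¹⁻¹ ∈ Subgroup.normalizer (Q : Set S) :=
        (Subgroup.mem_normalizer_iff.mp hginv x).mp (Subgroup.le_normalizer hx)
      have h2 : (g⁻¹ * x * g⁻¹⁻¹) * q * (g⁻¹ * x * g⁻¹⁻¹)⁻¹ ∈ Q :=
        (Subgroup.mem_normalizer_iff.mp h1 q).mp hq
      refine (hmemQ' _).mpr ⟨_, h2, ?_⟩
      group
    have hc' : ∀ y ∈ Q', ∀ y' ∈ Q', y * y' = y' * y ∨ y * y' = z * (y' * y) := by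
      intro y hy y' hy'
      obtain ⟨q, hq, rfl⟩ := (hmemQ' y).mp hy
      obtain ⟨q', hq', rfl⟩ := (hmemQ' y').mp hy'
      rcases hQc q hq q' hq' with h1 | h1
      · left
        have e1 : g * q * g⁻¹ * (g * q' * g⁻¹) = g * (q * q') * g⁻¹ := by group
        have e2 : g * q' * g⁻¹ * (g * q * g⁻¹) = g * (q' * q) * g⁻¹ := by group
        rw [e1, e2, h1]
      · right
        have e1 : g * q * g⁻¹ * (g * q' * g⁻¹) = g * (q * q') * g⁻¹ := by group
        have e2 : g * q' * g⁻¹ * (g * q * g⁻¹) = g * (q' * q) * g⁻¹ := by group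
        rw [e1, e2, h1]
        have e3 : g * (z * (q' * q)) * g⁻¹ = (g * z) * (q' * q) * g⁻¹ := by group
        rw [e3, h.z_c g]
        group
    have hEq : Q' = Q := eq_of_normalizing h hcard Q' hcard' hN1 hN2 hc'
    apply hgT
    rw [Subgroup.mem_normalizer_iff]
    intro x
    constructor
    · intro hx
      rw [← hEq]
      exact (hmemQ' _).mpr ⟨x, hx, rfl⟩
    · intro hx
      rw [← hEq] at hx
      obtain ⟨q, hq, hqe⟩ := (hmemQ' _).mp hx
      have : q = x := by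
        have := congrArg (fun t => g⁻¹ * t * g) hqe
        simpa [mul_assoc] using this
      rw [← this]
      exact hq
  intro g q hq
  have hg : g ∈ Subgroup.normalizer (Q : Set S) := by rw [htop]; exact Subgroup.mem_top g
  exact (Subgroup.mem_normalizer_iff.mp hg q).mp hq

end Cfsg.Agent.Lib.Helper8.QQE
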