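import Mathlib
import Cfsg.Agent.Lib.Helper8.QQE1

/-! # S1233 farm, unit E (case II), part 3: the structure theorem (SIGMA) from `Core` -/

set_option autoImplicit false
set_option linter.unusedVariables false
set_option linter.unusedSectionVars false
set_option linter.style.longLine false
set_option maxHeartbeats 1000000

namespace Cfsg.Agent.Lib.Helper8.QQE

variable {S : Type*} [Group S] {Q Q1 Q2 : Subgroup S} {z : S}

/-- in a finite group, `g H g⁻¹ ⊆ H` gives `g⁻¹ H g ⊆ H` -/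
theorem conj_inv_mem [Finite S] (H : Subgroup S) (g : S) (h : ∀ q ∈ H, g * q * g⁻¹ ∈ H) :
    ∀ q ∈ H, g⁻¹ * q * g ∈ H := by
  intro q hq
  let f : ↥H → ↥H := fun a => ⟨g * a * g⁻¹, h a a.2⟩
  have hf : Function.Injective f := by
    intro a b hab
    have h1 : g * (a : S) * g⁻¹ = g * (b : S) * g⁻¹ := congrArg (fun t : ↥H => (t : S)) hab
    exact Subtype.ext (mul_left_cancel (mul_right_cancel h1))
  obtain ⟨a, ha⟩ := (Finite.injective_iff_surjective.mp hf) ⟨q, hq⟩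
  have h1 : g * (a : S) * g⁻¹ = q := congrArg (fun t : ↥H => (t : S)) ha
  have e : g⁻¹ * q * g = a := by rw [← h1]; group
  rw [e]; exact a.2

theorem Pres.inv [Finite S] {y : S} (hp : Pres Q1 Q2 y) : Pres Q1 Q2 y⁻¹ := by
  refine ⟨fun q hq => ?_, fun q hq => ?_⟩
  · rw [inv_inv]; exact conj_inv_mem Q1 y hp.1 q hq
  · rw [inv_inv]; exact conj_inv_mem Q2 y hp.2 q hq

theorem Pres.mul {y y' : S} (hp : Pres Q1 Q2 y) (hp' : Pres Q1 Q2 y') : Pres Q1 Q2 (y * y') := by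
  refine ⟨fun q hq => ?_, fun q hq => ?_⟩
  · have e : y * y' * q * (y * y')⁻¹ = y * (y' * q * y'⁻¹) * y⁻¹ := by group
    rw [e]; exact hp.1 _ (hp'.1 q hq)
  · have e : y * y' * q * (y * y')⁻¹ = y * (y' * q * y'⁻¹) * y⁻¹ := by group
    rw [e]; exact hp.2 _ (hp'.2 q hq)

theorem Swap.mul {y y' : S} (hs : Swap Q1 Q2 y) (hs' : Swap Q1 Q2 y') : Pres Q1 Q2 (y * y') := by
  refine ⟨fun q hq => ?_, fun q hq => ?_⟩
  · have e : y * y' * q * (y * y')⁻¹ = y * (y' * q * y'⁻¹) * y⁻¹ := by group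
    rw [e]; exact hs.2 _ (hs'.1 q hq)
  · have e : y * y' * q * (y * y')⁻¹ = y * (y' * q * y'⁻¹) * y⁻¹ := by group
    rw [e]; exact hs.1 _ (hs'.2 q hq)

theorem Swap.conj_pres {a d b : S} (ha : Swap Q1 Q2 a) (hd : Pres Q1 Q2 d) (hb : Swap Q1 Q2 b) :
    Pres Q1 Q2 (a * d * b) := by
  refine ⟨fun q hq => ?_, fun q hq => ?_⟩
  · have e : a * d * b * q * (a * d * b)⁻¹ = a * (d * (b * q * b⁻¹) * d⁻¹) * a⁻¹ := by group
    rw [e]; exact ha.2 _ (hd.2 _ (hb.1 q hq))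
  · have e : a * d * b * q * (a * d * b)⁻¹ = a * (d * (b * q * b⁻¹) * d⁻¹) * a⁻¹ := by group
    rw [e]; exact ha.1 _ (hd.1 _ (hb.2 q hq))

/-- `g` normalises `⟨i⟩` -/
def Fx (g i : S) : Prop := g * i * g⁻¹ ∈ Subgroup.zpowers i

theorem Fx.mul {g g' i : S} (h : Fx g i) (h' : Fx g' i) : Fx (g * g') i := by
  unfold Fx at *
  obtain ⟨k, hk⟩ := Subgroup.mem_zpowers_iff.mp h'
  have e : g * g' * i * (g * g')⁻¹ = (g * i * g⁻¹) ^ k := by
    rw [conj_zpow, hk]; group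
  rw [e]
  exact Subgroup.zpow_mem _ h k

theorem Fx.transport {a d i : S} (h : Fx (a⁻¹ * d * a) i) : Fx d (a * i * a⁻¹) := by
  unfold Fx at *
  obtain ⟨k, hk⟩ := Subgroup.mem_zpowers_iff.mp h
  refine Subgroup.mem_zpowers_iff.mpr ⟨k, ?_⟩
  rw [conj_zpow, hk]; group

theorem Core.fx_of_mem (h : Core Q Q1 Q2 z)
    (hQc : ∀ x ∈ Q, ∀ y ∈ Q, x * y = y * x ∨ x * y = z * (y * x))
    {x i : S} (hx : x ∈ Q) (hi : i ∈ Q) (hii : i * i = z) : Fx x i := by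
  unfold Fx
  rcases hQc x hx i hi with h1 | h1
  · have : x * i * x⁻¹ = i := by rw [h1]; group
    rw [this]; exact Subgroup.mem_zpowers i
  · have : x * i * x⁻¹ = i ^ (3 : ℕ) := by
      rw [h1, mul_assoc, mul_assoc, mul_inv_cancel, mul_one, ← hii, pow_succ, pow_two]
    rw [this]; exact Subgroup.pow_mem _ (Subgroup.mem_zpowers i) 3

theorem Core.conj_sq (h : Core Q Q1 Q2 z) {i : S} (hii : i * i = z) (y : S) :
    (y * i * y⁻¹) * (y * i * y⁻¹) = z := by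
  have : (y * i * y⁻¹) * (y * i * y⁻¹) = y * (i * i) * y⁻¹ := by group
  rw [this, hii, h.z_c y]; group

theorem Core.not_pres_swap (h : Core Q Q1 Q2 z) {y : S} (hp : Pres Q1 Q2 y) (hs : Swap Q1 Q2 y) :
    False := by
  obtain ⟨i, hi, j, hj, hii, -, -⟩ := h.ijk1
  have h1 := hp.1 i hi
  have h2 := hs.1 i hi
  have hsq := h.conj_sq hii y
  rcases h.inter _ h1 h2 with h3 | h3
  · exact (h.not_sq hsq).1 h3
  · exact (h.not_sq hsq).2 h3

theorem Core.swap_inv [Finite S] (h : Core Q Q1 Q2 z) (hN : ∀ g : S, ∀ q ∈ Q, g * q * g⁻¹ ∈ Q)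
    {y : S} (hs : Swap Q1 Q2 y) : Swap Q1 Q2 y⁻¹ := by
  rcases h.a6 y⁻¹ (hN y⁻¹) with hp | hp
  · exfalso
    have := Pres.inv (show Pres Q1 Q2 y⁻¹ from hp)
    rw [inv_inv] at this
    exact h.not_pres_swap this hs
  · exact hp

/-- the choice of `i₁`, `i₂` with `⟨i₁, i₂⟩` normal -/
theorem Core.sigma_N [Finite S] (h : Core Q Q1 Q2 z) (hN : ∀ g : S, ∀ q ∈ Q, g * q * g⁻¹ ∈ Q)
    (hQc : ∀ x ∈ Q, ∀ y ∈ Q, x * y = y * x ∨ x * y = z * (y * x))
    (hi2ex : ∃ i ∈ Q2, i * i = z)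
    (hfix1 : ∀ g : S, (∀ a ∈ Q1, g * a * g⁻¹ ∈ Q1) → g ∉ Q → ∃ i ∈ Q1, i * i = z ∧
      g * i * g⁻¹ ∈ Subgroup.zpowers i ∧ ∀ i' ∈ Q1, i' * i' = z →
        g * i' * g⁻¹ ∈ Subgroup.zpowers i' → i' ∈ Subgroup.zpowers i)
    (hfix2 : ∀ g : S, (∀ a ∈ Q2, g * a * g⁻¹ ∈ Q2) → g ∉ Q → ∃ i ∈ Q2, i * i = z ∧
      g * i * g⁻¹ ∈ Subgroup.zpowers i ∧ ∀ i' ∈ Q2, i' * i' = z →
        g * i' * g⁻¹ ∈ Subgroup.zpowers i' → i' ∈ Subgroup.zpowers i) :
    ∃ i₁ ∈ Q1, ∃ i₂ ∈ Q2, i₁ * i₁ = z ∧ i₂ * i₂ = z ∧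
      ∀ g : S, g * i₁ * g⁻¹ ∈ Subgroup.closure ({i₁, i₂} : Set S) ∧
        g * i₂ * g⁻¹ ∈ Subgroup.closure ({i₁, i₂} : Set S) := by
  classical
  have hz1 : ∀ i₁ i₂ : S, Subgroup.zpowers i₁ ≤ Subgroup.closure ({i₁, i₂} : Set S) :=
    fun i₁ i₂ => Subgroup.zpowers_le.mpr (Subgroup.subset_closure (by simp))
  have hz2 : ∀ i₁ i₂ : S, Subgroup.zpowers i₂ ≤ Subgroup.closure ({i₁, i₂} : Set S) :=
    fun i₁ i₂ => Subgroup.zpowers_le.mpr (Subgroup.subset_closure (by simp))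
  by_cases hd : ∃ d0, Pres Q1 Q2 d0 ∧ d0 ∉ Q
  · obtain ⟨d0, hpd, hdQ⟩ := hd
    obtain ⟨i₁, hi1, hs1, hf1, hu1⟩ := hfix1 d0 hpd.1 hdQ
    obtain ⟨i₂, hi2, hs2, hf2, hu2⟩ := hfix2 d0 hpd.2 hdQ
    refine ⟨i₁, hi1, i₂, hi2, hs1, hs2, ?_⟩
    have hfx : ∀ g, Pres Q1 Q2 g → Fx g i₁ ∧ Fx g i₂ := by
      intro g hg
      rcases h.e1idx d0 g hpd.1 hpd.2 hg.1 hg.2 with h1 | h1 | h1
      · exact absurd h1 hdQ
      · exact ⟨h.fx_of_mem hQc h1 (h.le1 hi1) hs1, h.fx_of_mem hQc h1 (h.le2 hi2) hs2⟩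
      · have e : g = d0 * (d0⁻¹ * g) := by group
        rw [e]
        exact ⟨Fx.mul hf1 (h.fx_of_mem hQc h1 (h.le1 hi1) hs1),
          Fx.mul hf2 (h.fx_of_mem hQc h1 (h.le2 hi2) hs2)⟩
    intro g
    rcases h.a6 g (hN g) with hp | hs
    · exact ⟨hz1 _ _ (hfx g hp).1, hz2 _ _ (hfx g hp).2⟩
    · have hsi := h.swap_inv hN hs
      have hw : Pres Q1 Q2 (g⁻¹ * d0 * g) := Swap.conj_pres hsi hpd hs
      constructor
      · have hfx' : Fx d0 (g * i₁ * g⁻¹) := Fx.transport (hfx _ hw).1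
        exact hz2 _ _ (hu2 _ (hs.1 i₁ hi1) (h.conj_sq hs1 g) hfx')
      · have hfx' : Fx d0 (g * i₂ * g⁻¹) := Fx.transport (hfx _ hw).2
        exact hz1 _ _ (hu1 _ (hs.2 i₂ hi2) (h.conj_sq hs2 g) hfx')
  · push Not at hd
    obtain ⟨i₁, hi1, -, -, hs1, -, -⟩ := h.ijk1
    by_cases hsw : ∃ s0, Swap Q1 Q2 s0
    · obtain ⟨s0, hs0⟩ := hsw
      have hs0i := h.swap_inv hN hs0
      have hi2 : s0 * i₁ * s0⁻¹ ∈ Q2 := hs0.1 i₁ hi1
      have hs2 : (s0 * i₁ * s0⁻¹) * (s0 * i₁ * s0⁻¹) = z := h.conj_sq hs1 s0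
      refine ⟨i₁, hi1, s0 * i₁ * s0⁻¹, hi2, hs1, hs2, ?_⟩
      intro g
      rcases h.a6 g (hN g) with hp | hs
      · have hgQ := hd g hp
        exact ⟨hz1 _ _ (h.fx_of_mem hQc hgQ (h.le1 hi1) hs1),
          hz2 _ _ (h.fx_of_mem hQc hgQ (h.le2 hi2) hs2)⟩
      · constructor
        · have hq : g * s0⁻¹ ∈ Q := hd _ (Swap.mul hs hs0i)
          have e : g * i₁ * g⁻¹ = (g * s0⁻¹) * (s0 * i₁ * s0⁻¹) * (g * s0⁻¹)⁻¹ := by group
          rw [e]
          exact hz2 _ _ (h.fx_of_mem hQc hq (h.le2 hi2) hs2)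
        · have hq : g * s0 ∈ Q := hd _ (Swap.mul hs hs0)
          have e : g * (s0 * i₁ * s0⁻¹) * g⁻¹ = (g * s0) * i₁ * (g * s0)⁻¹ := by group
          rw [e]
          exact hz1 _ _ (h.fx_of_mem hQc hq (h.le1 hi1) hs1)
    · push Not at hsw
      obtain ⟨i₂, hi2, hs2⟩ := hi2ex
      refine ⟨i₁, hi1, i₂, hi2, hs1, hs2, ?_⟩
      intro g
      have hp : Pres Q1 Q2 g := by
        rcases h.a6 g (hN g) with hp | hs
        · exact hp
        · exact absurd hs (hsw g)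
      have hgQ := hd g hp
      exact ⟨hz1 _ _ (h.fx_of_mem hQc hgQ (h.le1 hi1) hs1),
        hz2 _ _ (h.fx_of_mem hQc hgQ (h.le2 hi2) hs2)⟩

/-- the centraliser `R` of `⟨i₁, i₂⟩` is abelian and its elements with square in `⟨z⟩` lie in
`⟨i₁, i₂⟩` -/
theorem Core.sigma_CD [Finite S] (h : Core Q Q1 Q2 z)
    (hN : ∀ g : S, ∀ q ∈ Q, g * q * g⁻¹ ∈ Q)
    (hdec : ∀ x ∈ Q, ∃ a ∈ Q1, ∃ b ∈ Q2, x = a * b)
    (hcent1 : ∀ a ∈ Q1, ∀ i ∈ Q1, i * i = z → a * i = i * a → a ∈ Subgroup.zpowers i)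
    (hcent2 : ∀ a ∈ Q2, ∀ i ∈ Q2, i * i = z → a * i = i * a → a ∈ Subgroup.zpowers i)
    (houter : ∀ r i j : S, i ∈ Q1 → j ∈ Q1 → i * i = z → j * j = z → j ∉ Subgroup.zpowers i →
      (∀ a ∈ Q1, r⁻¹ * a * r ∈ Q1) → r * i = i * r → r ∉ Q → (r * r)⁻¹ * j * (r * r) = j * z)
    {i₁ i₂ : S} (hi1 : i₁ ∈ Q1) (hi2 : i₂ ∈ Q2) (hs1 : i₁ * i₁ = z) (hs2 : i₂ * i₂ = z) :
    (∀ r ∈ Subgroup.centralizer ({i₁, i₂} : Set S), ∀ s ∈ Subgroup.centralizer ({i₁, i₂} : Set S),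
      r⁻¹ * s⁻¹ * r * s ∈ Subgroup.zpowers z) ∧
    (∀ r ∈ Subgroup.centralizer ({i₁, i₂} : Set S), r * r ∈ Subgroup.zpowers z →
      r ∈ Subgroup.closure ({i₁, i₂} : Set S)) := by
  classical
  have hmemR : ∀ r, r ∈ Subgroup.centralizer ({i₁, i₂} : Set S) ↔
      (i₁ * r = r * i₁ ∧ i₂ * r = r * i₂) := by
    intro r
    rw [Subgroup.mem_centralizer_iff]
    constructor
    · intro hh; exact ⟨hh i₁ (by simp), hh i₂ (by simp)⟩
    · rintro ⟨h1, h2⟩ x hx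
      rcases hx with rfl | rfl
      · exact h1
      · exact h2
  -- `B` is central in `R`
  have hBR : ∀ b ∈ Subgroup.closure ({i₁, i₂} : Set S),
      ∀ r ∈ Subgroup.centralizer ({i₁, i₂} : Set S), r * b = b * r := by
    intro b hb r hr
    have hle : Subgroup.closure ({i₁, i₂} : Set S) ≤
        Subgroup.centralizer ((Subgroup.centralizer ({i₁, i₂} : Set S) : Subgroup S) : Set S) := by
      rw [Subgroup.closure_le]
      intro x hx
      rw [SetLike.mem_coe, Subgroup.mem_centralizer_iff]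
      intro r' hr'
      exact ((Subgroup.mem_centralizer_iff.mp hr') x hx).symm
    exact (Subgroup.mem_centralizer_iff.mp (hle hb)) r hr
  -- elements of `R` preserve `Q₁`, `Q₂`
  have hRP : ∀ r ∈ Subgroup.centralizer ({i₁, i₂} : Set S), Pres Q1 Q2 r := by
    intro r hr
    rcases h.a6 r (hN r) with hp | hs
    · exact hp
    · exfalso
      have h1 := hs.1 i₁ hi1
      have e : r * i₁ * r⁻¹ = i₁ := by rw [← ((hmemR r).mp hr).1]; group
      rw [e] at h1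
      rcases h.inter i₁ hi1 h1 with h3 | h3
      · exact (h.not_sq hs1).1 h3
      · exact (h.not_sq hs1).2 h3
  -- `R ∩ Q ≤ B`
  have hRQ : ∀ r ∈ Subgroup.centralizer ({i₁, i₂} : Set S), r ∈ Q →
      r ∈ Subgroup.closure ({i₁, i₂} : Set S) := by
    intro r hr hrQ
    obtain ⟨a, ha, b, hb, rfl⟩ := hdec r hrQ
    obtain ⟨hc1, hc2⟩ := (hmemR _).mp hr
    have hb1 : i₁ * b = b * i₁ := h.comm i₁ hi1 b hb
    have ha2 : a * i₂ = i₂ * a := h.comm a ha i₂ hi2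
    have ha1 : a * i₁ = i₁ * a := by
      have h3 : i₁ * a * b = a * i₁ * b := by
        calc i₁ * a * b = i₁ * (a * b) := by group
          _ = a * b * i₁ := hc1
          _ = a * (b * i₁) := by group
          _ = a * (i₁ * b) := by rw [hb1]
          _ = a * i₁ * b := by group
      exact (mul_right_cancel h3).symm
    have hb2 : b * i₂ = i₂ * b := by
      have h3 : a * (i₂ * b) = a * (b * i₂) := by
        calc a * (i₂ * b) = a * i₂ * b := by group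
          _ = i₂ * a * b := by rw [ha2]
          _ = i₂ * (a * b) := by group
          _ = a * b * i₂ := hc2
          _ = a * (b * i₂) := by group
      exact (mul_left_cancel h3).symm
    have haB : a ∈ Subgroup.closure ({i₁, i₂} : Set S) :=
      (Subgroup.zpowers_le.mpr (Subgroup.subset_closure (by simp))) (hcent1 a ha i₁ hi1 hs1 ha1)
    have hbB : b ∈ Subgroup.closure ({i₁, i₂} : Set S) :=
      (Subgroup.zpowers_le.mpr (Subgroup.subset_closure (by simp))) (hcent2 b hb i₂ hi2 hs2 hb2)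
    exact Subgroup.mul_mem _ haB hbB
  -- `R` is abelian
  have hRab : ∀ r ∈ Subgroup.centralizer ({i₁, i₂} : Set S),
      ∀ s ∈ Subgroup.centralizer ({i₁, i₂} : Set S), r * s = s * r := by
    intro r hr s hs
    by_cases hrQ : r ∈ Q
    · exact (hBR r (hRQ r hr hrQ) s hs).symm
    by_cases hsQ : s ∈ Q
    · exact hBR s (hRQ s hs hsQ) r hr
    have hpr := hRP r hr
    have hps := hRP s hs
    rcases h.e1idx r s hpr.1 hpr.2 hps.1 hps.2 with h1 | h1 | h1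
    · exact absurd h1 hrQ
    · exact absurd h1 hsQ
    · have hb : r⁻¹ * s ∈ Subgroup.closure ({i₁, i₂} : Set S) :=
        hRQ _ (Subgroup.mul_mem _ (Subgroup.inv_mem _ hr) hs) h1
      have h2 := hBR _ hb r hr
      calc r * s = r * (r * (r⁻¹ * s)) := by group
        _ = r * (r⁻¹ * s * r) := by rw [h2]
        _ = s * r := by group
  refine ⟨?_, ?_⟩
  · intro r hr s hs
    have h1 := hRab r hr s hs
    have e : r⁻¹ * s⁻¹ * r * s = r⁻¹ * s⁻¹ * (r * s) := by group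
    have e2 : r⁻¹ * s⁻¹ * (s * r) = 1 := by group
    rw [e, h1, e2]
    exact one_mem _
  · intro r hr hrr
    by_cases hrQ : r ∈ Q
    · exact hRQ r hr hrQ
    exfalso
    have hpr := hRP r hr
    obtain ⟨i, hi, j, hj, hii, hjj, hij⟩ := h.ijk1
    have hex : ∃ j ∈ Q1, j * j = z ∧ j ∉ Subgroup.zpowers i₁ := by
      by_cases h1 : i ∈ Subgroup.zpowers i₁
      · by_cases h2 : j ∈ Subgroup.zpowers i₁
        · exfalso
          obtain ⟨k, hk⟩ := Subgroup.mem_zpowers_iff.mp h1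
          obtain ⟨l, hl⟩ := Subgroup.mem_zpowers_iff.mp h2
          have hc : i * j = j * i := by
            rw [← hk, ← hl, ← zpow_add, ← zpow_add, add_comm]
          have h3 : i * j * (i * j) = i * i * (j * j) := by
            calc i * j * (i * j) = i * (j * i) * j := by group
              _ = i * (i * j) * j := by rw [hc]
              _ = i * i * (j * j) := by group
          rw [hij, hii, hjj, h.z_sq] at h3
          exact h.z_ne h3
        · exact ⟨j, hj, hjj, h2⟩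
      · exact ⟨i, hi, hii, h1⟩
    obtain ⟨j', hj', hjj', hjn⟩ := hex
    have hcomm : r * i₁ = i₁ * r := ((hmemR r).mp hr).1.symm
    have h4 := houter r i₁ j' hi1 hj' hs1 hjj' hjn (conj_inv_mem Q1 r hpr.1) hcomm hrQ
    obtain ⟨k, hk⟩ := Subgroup.mem_zpowers_iff.mp hrr
    have hcz : Commute z j' := (h.z_c j').symm
    have hck : Commute (z ^ k) j' := hcz.zpow_left k
    rw [← hk] at h4
    have h5 : (z ^ k)⁻¹ * j' * z ^ k = j' := by
      rw [mul_assoc, ← hck.eq]; group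
    rw [h5] at h4
    have : z = 1 := by
      have := mul_left_cancel (a := j') (b := 1) (c := z) (by rw [mul_one]; exact h4)
      exact this.symm
    exact h.z_ne this

end Cfsg.Agent.Lib.Helper8.QQE
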