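import Mathlib
import Cfsg.Agent.Lib.Helper1.S1233Defs
import Cfsg.Agent.Lib.Helper1.S1233Glue
import Cfsg.Agent.Lib.Helper6.S1233A2
import Cfsg.Agent.Lib.Helper3.S1233B2a
import Cfsg.Agent.Lib.Helper8.QQE1
import Cfsg.Agent.Lib.Helper8.QQE3

/-! # S1233 farm, unit E (case II), part 4: from `Ctx` to `Core`, and (SIGMA) with the A4 facts
as hypotheses -/

set_option autoImplicit false
set_option linter.unusedVariables false
set_option linter.unusedSectionVars false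
set_option linter.style.longLine false
set_option maxHeartbeats 1000000

namespace Cfsg.Agent.Lib.Helper8.QQE

open Cfsg.Agent.Lib.Helper1.S1233 Cfsg.Agent.Lib.Helper6.S1233A Cfsg.Agent.Lib.Helper6.QQA

variable {S : Type*} [Group S] {Q₁ Q₂ : Subgroup S}

theorem cen2_eq {d : Dat S} (hC : Ctx Q₁ Q₂ d) (h1 : d.n₁ = 2) : cen Q₂ = Q₁ := by
  have := hC.base.fin
  obtain ⟨e₁⟩ := hC.base.q1
  have hle : Q₁ ≤ cen Q₂ := Cfsg.Agent.Lib.Helper3.S1233B2.side_le hC.base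
  have hc : Nat.card ↥(cen Q₂) = 8 := by rw [hC.s1.card, h1]; norm_num
  exact (Subgroup.eq_of_le_of_card_ge hle (by rw [hc, card_q8 e₁])).symm

theorem cen1_eq {d : Dat S} (hC : Ctx Q₁ Q₂ d) (h2 : d.n₂ = 2) : cen Q₁ = Q₂ := by
  have := hC.base.fin
  obtain ⟨e₂⟩ := hC.base.q2
  have hle : Q₂ ≤ cen Q₁ := Cfsg.Agent.Lib.Helper3.S1233B2.side_le (base_symm hC.base)
  have hc : Nat.card ↥(cen Q₁) = 8 := by rw [hC.s2.card, h2]; norm_num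
  exact (Subgroup.eq_of_le_of_card_ge hle (by rw [hc, card_q8 e₂])).symm

theorem q8_ijij : (iq * jq) * (iq * jq) = zq := by decide

theorem core_of_ctx {d : Dat S} (hC : Ctx Q₁ Q₂ d) (h1 : d.n₁ = 2) (h2 : d.n₂ = 2)
    (hidx : ∀ x y : S, (∀ a ∈ Q₁, x⁻¹ * a * x ∈ Q₁) → (∀ a ∈ Q₁, y⁻¹ * a * y ∈ Q₁) →
      x ∉ Q₁ ⊔ cen Q₁ → y ∉ Q₁ ⊔ cen Q₁ → x * y ∈ Q₁ ⊔ cen Q₁) :
    Core (Q₁ ⊔ Q₂) Q₁ Q₂ d.z := by
  classical
  have hfin := hC.base.fin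
  have hB := hC.base
  have hB' := base_symm hB
  have hc1 := cen1_eq hC h2
  have hc2 := cen2_eq hC h1
  obtain ⟨e₁⟩ := hB.q1
  obtain ⟨e₂⟩ := hB.q2
  have hz1 := base_z₁ hB e₁
  have hinter : ∀ x, x ∈ Q₁ → x ∈ Q₂ → x = 1 ∨ x = d.z := by
    intro x hx1 hx2
    have : x ∈ Q₁ ⊓ Q₂ := ⟨hx1, hx2⟩
    rw [A1_inf hB] at this
    exact (mem_Zs_iff hB.z_sq).mp this
  have hi : ∃ i ∈ Q₁, i * i = d.z :=
    ⟨homOf e₁ iq, homOf_mem e₁ iq, by rw [← map_mul, q8_i_sq, hz1]⟩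
  have hne12 : Q₁ ≠ Q₂ := by
    intro heq
    obtain ⟨i, hi1, hii⟩ := hi
    have hi2 : i ∈ Q₂ := heq ▸ hi1
    rcases hinter i hi1 hi2 with h | h
    · rw [h, mul_one] at hii; exact hB.z_ne hii.symm
    · rw [h, hB.z_sq] at hii; exact hB.z_ne hii.symm
  have hsq : ∀ {P₁ P₂ : Subgroup S}, Base P₁ P₂ d.z → ∀ x ∈ P₁, x = 1 ∨ x = d.z ∨ x * x = d.z := by
    intro P₁ P₂ hb x hx
    rcases A1_q8 hb x hx with h | h
    · rcases (mem_Zs_iff hb.z_sq).mp h with h | h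
      · exact Or.inl h
      · exact Or.inr (Or.inl h)
    · exact Or.inr (Or.inr h)
  have hzconj : ∀ a : S, a⁻¹ * d.z * a = d.z := by
    intro a
    rw [mul_assoc, ← hB.z_central a, ← mul_assoc, inv_mul_cancel, one_mul]
  have hcmk : ∀ (P : Subgroup S) (y : S),
      (∀ q ∈ P, y * q * y⁻¹ = q ∨ y * q * y⁻¹ = q * d.z) → ∀ a ∈ P, cm y⁻¹ a ∈ Zs d.z := by
    intro P y hy a ha
    have e : cm y⁻¹ a = (y * a⁻¹ * y⁻¹) * a := by simp only [cm, inv_inv]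
    rw [e]
    rcases hy a⁻¹ (P.inv_mem ha) with h | h
    · rw [h, inv_mul_cancel]; exact one_mem _
    · rw [h, hzconj a]; exact Subgroup.mem_zpowers _
  refine
    { z_ne := hB.z_ne, z_sq := hB.z_sq, z_c := hB.z_central, z1 := hB.z_mem₁, z2 := hB.z_mem₂,
      le1 := le_sup_left, le2 := le_sup_right, inter := hinter, comm := hB.comm,
      sq1 := hsq hB, sq2 := hsq hB', ijk1 := ?_, a5_1 := ?_, a5_2 := ?_, a6 := ?_, e1idx := ?_ }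
  · refine ⟨homOf e₁ iq, homOf_mem e₁ iq, homOf e₁ jq, homOf_mem e₁ jq, ?_, ?_, ?_⟩
    · rw [← map_mul, q8_i_sq, hz1]
    · rw [← map_mul, q8_j_sq, hz1]
    · rw [← map_mul, ← map_mul, q8_ijij, hz1]
  · intro y hy
    obtain ⟨q, hq, y', hy', e⟩ := A5 hB y⁻¹ (hcmk Q₁ y hy)
    rw [hc1] at hy'
    have : y⁻¹ ∈ Q₁ ⊔ Q₂ := by
      rw [e]; exact mul_mem (Subgroup.mem_sup_left hq) (Subgroup.mem_sup_right hy')
    exact inv_mem_iff.mp this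
  · intro y hy
    obtain ⟨q, hq, y', hy', e⟩ := A5' hB y⁻¹ (hcmk Q₂ y hy)
    rw [hc2] at hy'
    have : y⁻¹ ∈ Q₁ ⊔ Q₂ := by
      rw [e]; exact mul_mem (Subgroup.mem_sup_right hq) (Subgroup.mem_sup_left hy')
    exact inv_mem_iff.mp this
  · intro g hg
    have hinj : Function.Injective (MulAut.conj g).toMonoidHom := (MulAut.conj g).injective
    have hmap : ∀ P : Subgroup S, P ≤ Q₁ ⊔ Q₂ → Nonempty (↥P ≃* QuaternionGroup 2) →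
        (P.map (MulAut.conj g).toMonoidHom = Q₁ ∨ P.map (MulAut.conj g).toMonoidHom = Q₂) := by
      intro P hP ⟨e⟩
      apply A3_q8 hB
      · rintro y ⟨q, hq, rfl⟩
        have : (MulAut.conj g).toMonoidHom q = g * q * g⁻¹ := by simp [MulAut.conj_apply]
        rw [this]
        exact hg q (hP hq)
      · exact ⟨(Subgroup.equivMapOfInjective P _ hinj).symm.trans e⟩
    have hmem : ∀ (P : Subgroup S), ∀ q ∈ P, g * q * g⁻¹ ∈ P.map (MulAut.conj g).toMonoidHom := by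
      intro P q hq
      exact ⟨q, hq, by simp [MulAut.conj_apply]⟩
    rcases hmap Q₁ le_sup_left ⟨e₁⟩ with hP1 | hP1 <;> rcases hmap Q₂ le_sup_right ⟨e₂⟩ with hP2 | hP2
    · exfalso
      exact hne12 (Subgroup.map_injective hinj (hP1.trans hP2.symm))
    · left
      exact ⟨fun q hq => hP1 ▸ hmem Q₁ q hq, fun q hq => hP2 ▸ hmem Q₂ q hq⟩
    · right
      exact ⟨fun q hq => hP1 ▸ hmem Q₁ q hq, fun q hq => hP2 ▸ hmem Q₂ q hq⟩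
    · exfalso
      exact hne12 (Subgroup.map_injective hinj (hP1.trans hP2.symm))
  · intro y y' hy1 hy2 hy1' hy2'
    by_cases hyQ : y ∈ Q₁ ⊔ Q₂
    · exact Or.inl hyQ
    by_cases hyQ' : y' ∈ Q₁ ⊔ Q₂
    · exact Or.inr (Or.inl hyQ')
    right; right
    have := hidx y⁻¹ y' (by intro a ha; rw [inv_inv]; exact hy1 a ha)
      (conj_inv_mem Q₁ y' hy1')
      (by rw [hc1]; intro hh; exact hyQ (inv_mem_iff.mp hh))
      (by rw [hc1]; exact hyQ')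
    rwa [hc1] at this

theorem case_II_of {d : Dat S} (hC : Ctx Q₁ Q₂ d) (h1 : d.n₁ = 2) (h2 : d.n₂ = 2)
    (hidx : ∀ x y : S, (∀ a ∈ Q₁, x⁻¹ * a * x ∈ Q₁) → (∀ a ∈ Q₁, y⁻¹ * a * y ∈ Q₁) →
      x ∉ Q₁ ⊔ cen Q₁ → y ∉ Q₁ ⊔ cen Q₁ → x * y ∈ Q₁ ⊔ cen Q₁)
    (hfix1 : ∀ x : S, (∀ a ∈ Q₁, x⁻¹ * a * x ∈ Q₁) → x ∉ Q₁ ⊔ cen Q₁ →
      ∃ i ∈ Q₁, i * i = d.z ∧ x⁻¹ * i * x ∈ Subgroup.zpowers i ∧
        ∀ i' ∈ Q₁, i' * i' = d.z → x⁻¹ * i' * x ∈ Subgroup.zpowers i' → i' ∈ Subgroup.zpowers i)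
    (hfix2 : ∀ x : S, (∀ a ∈ Q₂, x⁻¹ * a * x ∈ Q₂) → x ∉ Q₂ ⊔ cen Q₂ →
      ∃ i ∈ Q₂, i * i = d.z ∧ x⁻¹ * i * x ∈ Subgroup.zpowers i ∧
        ∀ i' ∈ Q₂, i' * i' = d.z → x⁻¹ * i' * x ∈ Subgroup.zpowers i' → i' ∈ Subgroup.zpowers i)
    (houter : ∀ x i j : S, i ∈ Q₁ → j ∈ Q₁ → i * i = d.z → j * j = d.z →
      j ∉ Subgroup.zpowers i → (∀ a ∈ Q₁, x⁻¹ * a * x ∈ Q₁) → x * i = i * x →
      ((x⁻¹ * j * x = j ∨ x⁻¹ * j * x = j * d.z) → x ∈ Q₁ ⊔ cen Q₁) ∧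
      (x ∉ Q₁ ⊔ cen Q₁ → (x⁻¹ * j * x = j * i ∨ x⁻¹ * j * x = j * i⁻¹) ∧
        (x * x)⁻¹ * j * (x * x) = j * d.z)) :
    Sigma Q₁ Q₂ d.z := by
  classical
  have hfin := hC.base.fin
  have hB := hC.base
  have hB' := base_symm hB
  have hc1 := cen1_eq hC h2
  have hc2 := cen2_eq hC h1
  obtain ⟨e₂⟩ := hB.q2
  have hcore := core_of_ctx hC h1 h2 hidx
  have hQc : ∀ x ∈ Q₁ ⊔ Q₂, ∀ y ∈ Q₁ ⊔ Q₂, x * y = y * x ∨ x * y = d.z * (y * x) := by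
    intro x hx y hy
    have e : x * y = y * x * (x⁻¹ * y⁻¹ * x * y) := by group
    rcases (mem_Zs_iff hB.z_sq).mp (A1_comm hB x hx y hy) with h | h
    · left
      have h' : x⁻¹ * y⁻¹ * x * y = 1 := h
      rw [e, h', mul_one]
    · right
      have h' : x⁻¹ * y⁻¹ * x * y = d.z := h
      rw [e, h', hB.z_central]
  have hN := normal_of_core hB.pS hcore hB.card hQc
  have hdec : ∀ x ∈ Q₁ ⊔ Q₂, ∃ a ∈ Q₁, ∃ b ∈ Q₂, x = a * b :=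
    fun x hx => exists_mul_of_mem_sup hB.comm hx
  have hcent : ∀ {P₁ P₂ : Subgroup S}, Base P₁ P₂ d.z → ∀ a ∈ P₁, ∀ i ∈ P₁, i * i = d.z →
      a * i = i * a → a ∈ Subgroup.zpowers i := by
    intro P₁ P₂ hb a ha i hi hii hai
    have hzi : d.z ∈ Subgroup.zpowers i := by
      rw [← hii]; exact mul_mem (Subgroup.mem_zpowers i) (Subgroup.mem_zpowers i)
    rcases A1_q8 hb a ha with h | h
    · rcases (mem_Zs_iff hb.z_sq).mp h with h | h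
      · rw [h]; exact one_mem _
      · rw [h]; exact hzi
    · by_contra hnot
      have h3 := (A1_q8_gen hb i hi a ha hii h hnot).1
      have h4 : a⁻¹ * i * a = i := by rw [mul_assoc, ← hai, ← mul_assoc, inv_mul_cancel, one_mul]
      rw [h4] at h3
      -- i = i⁻¹ so i * i = 1
      have h5 : i * i = 1 := by
        calc i * i = i * i⁻¹ := by rw [← h3]
          _ = 1 := mul_inv_cancel i
      rw [hii] at h5
      exact hb.z_ne h5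
  have houter' : ∀ r i j : S, i ∈ Q₁ → j ∈ Q₁ → i * i = d.z → j * j = d.z →
      j ∉ Subgroup.zpowers i → (∀ a ∈ Q₁, r⁻¹ * a * r ∈ Q₁) → r * i = i * r → r ∉ Q₁ ⊔ Q₂ →
      (r * r)⁻¹ * j * (r * r) = j * d.z := by
    intro r i j hi hj hii hjj hjn hr hri hrQ
    exact ((houter r i j hi hj hii hjj hjn hr hri).2 (by rw [hc1]; exact hrQ)).2
  have hfix1' : ∀ g : S, (∀ a ∈ Q₁, g * a * g⁻¹ ∈ Q₁) → g ∉ Q₁ ⊔ Q₂ → ∃ i ∈ Q₁, i * i = d.z ∧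
      g * i * g⁻¹ ∈ Subgroup.zpowers i ∧ ∀ i' ∈ Q₁, i' * i' = d.z →
        g * i' * g⁻¹ ∈ Subgroup.zpowers i' → i' ∈ Subgroup.zpowers i := by
    intro g hg hgQ
    have := hfix1 g⁻¹ (by intro a ha; rw [inv_inv]; exact hg a ha)
      (by rw [hc1]; intro hh; exact hgQ (inv_mem_iff.mp hh))
    simpa only [inv_inv] using this
  have hfix2' : ∀ g : S, (∀ a ∈ Q₂, g * a * g⁻¹ ∈ Q₂) → g ∉ Q₁ ⊔ Q₂ → ∃ i ∈ Q₂, i * i = d.z ∧
      g * i * g⁻¹ ∈ Subgroup.zpowers i ∧ ∀ i' ∈ Q₂, i' * i' = d.z →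
        g * i' * g⁻¹ ∈ Subgroup.zpowers i' → i' ∈ Subgroup.zpowers i := by
    intro g hg hgQ
    have := hfix2 g⁻¹ (by intro a ha; rw [inv_inv]; exact hg a ha)
      (by rw [hc2, sup_comm]; intro hh; exact hgQ (inv_mem_iff.mp hh))
    simpa only [inv_inv] using this
  have hi2ex : ∃ i ∈ Q₂, i * i = d.z :=
    ⟨homOf e₂ iq, homOf_mem e₂ iq, by rw [← map_mul, q8_i_sq, base_z₂ hB e₂]⟩
  obtain ⟨i₁, hi1, i₂, hi2, hs1, hs2, hNB⟩ := hcore.sigma_N hN hQc hi2ex hfix1' hfix2'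
  obtain ⟨hC', hD'⟩ := hcore.sigma_CD hN hdec (hcent hB) (hcent hB') houter' hi1 hi2 hs1 hs2
  refine ⟨i₁, hi1, i₂, hi2, hs1, hs2, ?_, hC', hD'⟩
  intro g
  have := hNB g⁻¹
  rw [inv_inv] at this
  exact this

end Cfsg.Agent.Lib.Helper8.QQE
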