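import Mathlib
import Cfsg.Agent.Lib.Helper1.S1233Defs
import Cfsg.Agent.Lib.Helper1.S1233Glue
import Cfsg.Agent.Lib.Helper6.S1233A4
import Cfsg.Agent.Lib.Helper8.QQE4

/-! # S1233 farm, unit E: `case_II` (verbatim stub) -/

set_option autoImplicit false

namespace Cfsg.Agent.Lib.Helper8.QQE

open Cfsg.Agent.Lib.Helper1.S1233 Cfsg.Agent.Lib.Helper6.S1233A

/-- **Case II** (`X₁ = Q₁`, `X₂ = Q₂`): the structure theorem (SIGMA). -/
theorem case_II {S : Type*} [Group S] {Q₁ Q₂ : Subgroup S} {d : Dat S} (hC : Ctx Q₁ Q₂ d)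
    (h1 : d.n₁ = 2) (h2 : d.n₂ = 2) : Sigma Q₁ Q₂ d.z :=
  case_II_of hC h1 h2 (A4_index hC.base) (A4_fix hC.base) (A4_fix (base_symm hC.base))
    (A4_outer hC.base)

end Cfsg.Agent.Lib.Helper8.QQE
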