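import Mathlib
import Cfsg.Agent.Lib.Helper8.Slk6
set_option autoImplicit false
open Matrix
universe u v
/-! `SL₂` over a commutative ring: entries, root elements, torus. -/
namespace Cfsg.Agent.Lib.Helper8.Qp

open Cfsg.Agent.Lib.Helper1.SL2Three

variable {R : Type v} [CommRing R]

local notation "SLR" => Matrix.SpecialLinearGroup (Fin 2) R
local notation "M2R" => Matrix (Fin 2) (Fin 2) R

/-- the four entries -/
def ra (g : SLR) : R := (g : M2R) 0 0
def rb (g : SLR) : R := (g : M2R) 0 1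
def rc (g : SLR) : R := (g : M2R) 1 0
def rd (g : SLR) : R := (g : M2R) 1 1

theorem ext_r {g h : SLR} (h1 : ra g = ra h) (h2 : rb g = rb h) (h3 : rc g = rc h)
    (h4 : rd g = rd h) : g = h := by
  ext i j
  fin_cases i <;> fin_cases j
  · exact h1
  · exact h2
  · exact h3
  · exact h4

theorem det_r (g : SLR) : ra g * rd g - rb g * rc g = 1 := by
  have := g.det_coe
  rwa [Matrix.det_fin_two] at this

@[simp] theorem ra_one : ra (1 : SLR) = 1 := by simp [ra]
@[simp] theorem rb_one : rb (1 : SLR) = 0 := by simp [rb]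
@[simp] theorem rc_one : rc (1 : SLR) = 0 := by simp [rc]
@[simp] theorem rd_one : rd (1 : SLR) = 1 := by simp [rd]

theorem ra_mul (g h : SLR) : ra (g * h) = ra g * ra h + rb g * rc h := by
  simp [ra, rb, rc, Matrix.mul_apply, Fin.sum_univ_two]
theorem rb_mul (g h : SLR) : rb (g * h) = ra g * rb h + rb g * rd h := by
  simp [ra, rb, rd, Matrix.mul_apply, Fin.sum_univ_two]
theorem rc_mul (g h : SLR) : rc (g * h) = rc g * ra h + rd g * rc h := by
  simp [ra, rc, rd, Matrix.mul_apply, Fin.sum_univ_two]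
theorem rd_mul (g h : SLR) : rd (g * h) = rc g * rb h + rd g * rd h := by
  simp [rb, rc, rd, Matrix.mul_apply, Fin.sum_univ_two]

theorem ra_inv (g : SLR) : ra g⁻¹ = rd g := by
  simp [ra, rd, Matrix.SpecialLinearGroup.coe_inv, Matrix.adjugate_fin_two]
theorem rb_inv (g : SLR) : rb g⁻¹ = -rb g := by
  simp [rb, Matrix.SpecialLinearGroup.coe_inv, Matrix.adjugate_fin_two]
theorem rc_inv (g : SLR) : rc g⁻¹ = -rc g := by
  simp [rc, Matrix.SpecialLinearGroup.coe_inv, Matrix.adjugate_fin_two]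
theorem rd_inv (g : SLR) : rd g⁻¹ = ra g := by
  simp [ra, rd, Matrix.SpecialLinearGroup.coe_inv, Matrix.adjugate_fin_two]

@[simp] theorem ra_xmat (s : R) : ra (xmat R s) = 1 := by simp [ra]
@[simp] theorem rb_xmat (s : R) : rb (xmat R s) = s := by simp [rb]
@[simp] theorem rc_xmat (s : R) : rc (xmat R s) = 0 := by simp [rc]
@[simp] theorem rd_xmat (s : R) : rd (xmat R s) = 1 := by simp [rd]

@[simp] theorem ra_ymat (s : R) : ra (ymat R s) = 1 := by simp [ra]
@[simp] theorem rb_ymat (s : R) : rb (ymat R s) = 0 := by simp [rb]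
@[simp] theorem rc_ymat (s : R) : rc (ymat R s) = s := by simp [rc]
@[simp] theorem rd_ymat (s : R) : rd (ymat R s) = 1 := by simp [rd]

@[simp] theorem ra_wmat : ra (wmat R) = 0 := by simp [ra]
@[simp] theorem rb_wmat : rb (wmat R) = -1 := by simp [rb]
@[simp] theorem rc_wmat : rc (wmat R) = 1 := by simp [rc]
@[simp] theorem rd_wmat : rd (wmat R) = 0 := by simp [rd]

theorem xr_add (s t : R) : xmat R (s + t) = xmat R s * xmat R t := xmat_add R s t

theorem xr_zero : xmat R (0 : R) = 1 := xmat_zero R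

theorem xr_neg (s : R) : xmat R (-s) = (xmat R s)⁻¹ := by
  apply ext_r <;> simp [ra_inv, rb_inv, rc_inv, rd_inv]

theorem yr_add (s t : R) : ymat R (s + t) = ymat R s * ymat R t := by
  apply ext_r <;> simp [ra_mul, rb_mul, rc_mul, rd_mul, add_comm]

theorem yr_zero : ymat R (0 : R) = 1 := by
  apply ext_r <;> simp

theorem yr_neg (s : R) : ymat R (-s) = (ymat R s)⁻¹ := by
  apply ext_r <;> simp [ra_inv, rb_inv, rc_inv, rd_inv]

theorem xr_injective : Function.Injective (xmat R) := by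
  intro s t h
  have := congrArg rb h
  simpa using this

theorem yr_injective : Function.Injective (ymat R) := by
  intro s t h
  have := congrArg rc h
  simpa using this

/-- the diagonal element `diag(l, l')` with `l * l' = 1` -/
def dr (l l' : R) (h : l * l' = 1) : SLR :=
  ⟨!![l, 0; 0, l'], by simp [Matrix.det_fin_two, h]⟩

@[simp] theorem ra_dr (l l' : R) (h : l * l' = 1) : ra (dr l l' h) = l := by simp [ra, dr]
@[simp] theorem rb_dr (l l' : R) (h : l * l' = 1) : rb (dr l l' h) = 0 := by simp [rb, dr]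
@[simp] theorem rc_dr (l l' : R) (h : l * l' = 1) : rc (dr l l' h) = 0 := by simp [rc, dr]
@[simp] theorem rd_dr (l l' : R) (h : l * l' = 1) : rd (dr l l' h) = l' := by simp [rd, dr]

theorem dr_inv (l l' : R) (h : l * l' = 1) :
    (dr l l' h)⁻¹ = dr l' l (by rw [mul_comm]; exact h) := by
  apply ext_r <;> simp [ra_inv, rb_inv, rc_inv, rd_inv]

theorem dr_conj_x (l l' : R) (h : l * l' = 1) (t : R) :
    dr l l' h * xmat R t * (dr l l' h)⁻¹ = xmat R (l ^ 2 * t) := by
  have h' : l' * l = 1 := by rw [mul_comm]; exact h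
  apply ext_r <;>
    simp [ra_mul, rb_mul, rc_mul, rd_mul, ra_inv, rb_inv, rc_inv, rd_inv, h, h']
  ring

theorem dr_conj_y (l l' : R) (h : l * l' = 1) (t : R) :
    dr l l' h * ymat R t * (dr l l' h)⁻¹ = ymat R (l' ^ 2 * t) := by
  have h' : l' * l = 1 := by rw [mul_comm]; exact h
  apply ext_r <;>
    simp [ra_mul, rb_mul, rc_mul, rd_mul, ra_inv, rb_inv, rc_inv, rd_inv, h, h']
  ring

theorem wr_eq : wmat R = xmat R (-1) * ymat R 1 * xmat R (-1) := by
  apply ext_r <;> simp [ra_mul, rb_mul, rc_mul, rd_mul]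

/-- `diag(l, l') = x(l) y(-l') x(l) w` -/
theorem dr_eq (l l' : R) (h : l * l' = 1) :
    dr l l' h = xmat R l * ymat R (-l') * xmat R l * wmat R := by
  apply ext_r <;> simp [ra_mul, rb_mul, rc_mul, rd_mul, h]
  · rw [mul_comm]; linear_combination h

theorem wr_inv_conj_y (t : R) : (wmat R)⁻¹ * ymat R t * wmat R = xmat R (-t) := by
  apply ext_r <;>
    simp [ra_mul, rb_mul, rc_mul, rd_mul, ra_inv, rb_inv, rc_inv, rd_inv]

theorem wr_conj_x (t : R) : wmat R * xmat R t * (wmat R)⁻¹ = ymat R (-t) := by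
  apply ext_r <;>
    simp [ra_mul, rb_mul, rc_mul, rd_mul, ra_inv, rb_inv, rc_inv, rd_inv]

theorem xr_conj_x (a s : R) : xmat R a * xmat R s * (xmat R a)⁻¹ = xmat R s := by
  rw [← xr_neg, ← xr_add, ← xr_add]
  congr 1
  ring

/-- conjugating `y(u)` by `x(ξ)` where `ξ = a c c'`, `c' = c⁻²`: it is `g x(-u c') g⁻¹` -/
theorem conj_y_eq (g : SLR) (c' : R) (hc : rc g * rc g * c' = 1) (u : R) :
    xmat R (ra g * rc g * c') * ymat R u * (xmat R (ra g * rc g * c'))⁻¹ =
      g * xmat R (-(u * c')) * g⁻¹ := by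
  have hd := det_r g
  apply ext_r
  · simp only [ra_mul, rb_mul, rc_mul, rd_mul, ra_inv, rb_inv, rc_inv, rd_inv, ra_xmat, rb_xmat,
      rc_xmat, rd_xmat, ra_ymat, rb_ymat, rc_ymat, rd_ymat]
    linear_combination (-(1 : R)) * hd
  · simp only [ra_mul, rb_mul, rc_mul, rd_mul, ra_inv, rb_inv, rc_inv, rd_inv, ra_xmat, rb_xmat,
      rc_xmat, rd_xmat, ra_ymat, rb_ymat, rc_ymat, rd_ymat]
    linear_combination (-(ra g ^ 2 * c' * u)) * hc
  · simp only [ra_mul, rb_mul, rc_mul, rd_mul, ra_inv, rb_inv, rc_inv, rd_inv, ra_xmat, rb_xmat,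
      rc_xmat, rd_xmat, ra_ymat, rb_ymat, rc_ymat, rd_ymat]
    linear_combination (-u) * hc
  · simp only [ra_mul, rb_mul, rc_mul, rd_mul, ra_inv, rb_inv, rc_inv, rd_inv, ra_xmat, rb_xmat,
      rc_xmat, rd_xmat, ra_ymat, rb_ymat, rc_ymat, rd_ymat]
    linear_combination (-(1 : R)) * hd

end Cfsg.Agent.Lib.Helper8.Qp
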