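import Mathlib
import Cfsg.Agent.Lib.Helper8.Qp1
set_option autoImplicit false
open Matrix
universe u v
/-! The group `⟨x(c), y(cζ) : c ∈ k⟩ ≤ SL₂(R)` over a commutative `k`-algebra `R`:
ring version of the key lemma. -/
namespace Cfsg.Agent.Lib.Helper8.Qp

open Cfsg.Agent.Lib.Helper1.SL2Three

variable {R : Type v} [CommRing R]
variable {k : Type u} [Field k] [Algebra k R]

local notation "SLR" => Matrix.SpecialLinearGroup (Fin 2) R

/-- the generating set `{x(c)} ∪ {y(cζ)}`, `c ∈ k` -/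
def gensR (k : Type u) [Field k] [Algebra k R] (ζ : R) : Set SLR :=
  {g | ∃ c : k, g = xmat R (algebraMap k R c)} ∪ {g | ∃ c : k, g = ymat R (algebraMap k R c * ζ)}

/-- the group generated -/
def ER (k : Type u) [Field k] [Algebra k R] (ζ : R) : Subgroup SLR :=
  Subgroup.closure (gensR k ζ)

theorem xr_mem (ζ : R) (c : k) : xmat R (algebraMap k R c) ∈ ER k ζ :=
  Subgroup.subset_closure (Or.inl ⟨c, rfl⟩)

theorem yr_mem (ζ : R) (c : k) : ymat R (algebraMap k R c * ζ) ∈ ER k ζ :=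
  Subgroup.subset_closure (Or.inr ⟨c, rfl⟩)

theorem map_mem_of_gensR {H : Type*} [Group H] (ζ : R) (ψ : SLR →* H) (Z : Subgroup H)
    (h1 : ∀ c : k, ψ (xmat R (algebraMap k R c)) ∈ Z)
    (h2 : ∀ c : k, ψ (ymat R (algebraMap k R c * ζ)) ∈ Z) {g : SLR} (hg : g ∈ ER k ζ) :
    ψ g ∈ Z := by
  have : ER k ζ ≤ Z.comap ψ := by
    unfold ER
    rw [Subgroup.closure_le]
    rintro s (⟨c, rfl⟩ | ⟨c, rfl⟩)
    · exact h1 c
    · exact h2 c
  exact this hg

/-- `diag(l, l⁻¹)` for `l ∈ k` -/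
def drk (l : k) (hl : l ≠ 0) : SLR :=
  dr (algebraMap k R l) (algebraMap k R l⁻¹) (by rw [← map_mul, mul_inv_cancel₀ hl, map_one])

theorem drk_inv (l : k) (hl : l ≠ 0) :
    (drk (R := R) l hl)⁻¹ = drk l⁻¹ (inv_ne_zero hl) := by
  unfold drk
  rw [dr_inv]
  congr 1
  rw [inv_inv]

theorem drk_conj_mem (ζ : R) (l : k) (hl : l ≠ 0) {g : SLR} (hg : g ∈ ER k ζ) :
    drk l hl * g * (drk l hl)⁻¹ ∈ ER k ζ := by
  have := map_mem_of_gensR ζ ((MulAut.conj (drk (R := R) l hl)).toMonoidHom) (ER k ζ) ?_ ?_ hg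
  · simpa using this
  · intro c
    simp only [MulEquiv.coe_toMonoidHom, MulAut.conj_apply]
    rw [drk, dr_conj_x, ← map_pow, ← map_mul]
    exact xr_mem ζ _
  · intro c
    simp only [MulEquiv.coe_toMonoidHom, MulAut.conj_apply]
    rw [drk, dr_conj_y, ← map_pow, ← mul_assoc, ← map_mul]
    exact yr_mem ζ _

theorem drk_mem_normalizer (ζ : R) (l : k) (hl : l ≠ 0) :
    drk (R := R) l hl ∈ Subgroup.normalizer (ER k ζ : Set SLR) := by
  rw [Subgroup.mem_normalizer_iff]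
  intro h
  constructor
  · exact drk_conj_mem ζ l hl
  · intro hh
    have := drk_conj_mem ζ l⁻¹ (inv_ne_zero hl) hh
    have h2 : drk (R := R) l⁻¹ (inv_ne_zero hl) = (drk l hl)⁻¹ := (drk_inv l hl).symm
    rw [h2] at this
    simpa [mul_assoc] using this

/-- a subgroup normalized by the `k`-torus has `k`-linear root parameters -/
theorem smul_closedR (hk2 : (2 : k) ≠ 0) (Y : Subgroup SLR)
    (hY : ∀ (l : k) (hl : l ≠ 0) (g : SLR), g ∈ Y → drk l hl * g * (drk l hl)⁻¹ ∈ Y)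
    (c : k) {t : R} (ht : xmat R t ∈ Y) : xmat R (algebraMap k R c * t) ∈ Y := by
  have hsq : ∀ p : k, xmat R (algebraMap k R p ^ 2 * t) ∈ Y := by
    intro p
    by_cases hp : p = 0
    · subst hp
      simp [xr_zero, Y.one_mem]
    · have := hY p hp _ ht
      rwa [drk, dr_conj_x] at this
  have h1 := hsq ((c + 1) / 2)
  have h2 := hsq ((c - 1) / 2)
  have h3 := Y.mul_mem h1 (Y.inv_mem h2)
  rw [← xr_neg, ← xr_add] at h3
  convert h3 using 2
  rw [← map_pow, ← map_pow, ← neg_mul, ← add_mul, ← map_neg, ← map_add]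
  congr 2
  field_simp
  ring

theorem xr_smul_mem (hk2 : (2 : k) ≠ 0) (ζ : R) (c : k) {t : R} (ht : xmat R t ∈ ER k ζ) :
    xmat R (algebraMap k R c * t) ∈ ER k ζ :=
  smul_closedR hk2 (ER k ζ) (fun l hl _ hg => drk_conj_mem ζ l hl hg) c ht

theorem xr_smul_mem_normalizer (hk2 : (2 : k) ≠ 0) (ζ : R) (c : k) {t : R}
    (ht : xmat R t ∈ Subgroup.normalizer (ER k ζ : Set SLR)) :
    xmat R (algebraMap k R c * t) ∈ Subgroup.normalizer (ER k ζ : Set SLR) :=
  smul_closedR hk2 (Subgroup.normalizer (ER k ζ : Set SLR))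
    (fun l hl _ hg => Subgroup.mul_mem _ (Subgroup.mul_mem _ (drk_mem_normalizer ζ l hl) hg)
      (Subgroup.inv_mem _ (drk_mem_normalizer ζ l hl))) c ht

theorem wr_mem_one : wmat R ∈ ER k (1 : R) := by
  rw [wr_eq]
  have h1 : xmat R (-1) ∈ ER k (1 : R) := by
    have := xr_mem (k := k) (1 : R) (-1)
    simpa using this
  have h2 : ymat R 1 ∈ ER k (1 : R) := by
    have := yr_mem (k := k) (1 : R) 1
    simpa using this
  exact Subgroup.mul_mem _ (Subgroup.mul_mem _ h1 h2) h1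

theorem drk_mem_one (l : k) (hl : l ≠ 0) : drk (R := R) l hl ∈ ER k (1 : R) := by
  unfold drk
  rw [dr_eq]
  have h1 : xmat R (algebraMap k R l) ∈ ER k (1 : R) := xr_mem 1 l
  have h2 : ymat R (-(algebraMap k R l⁻¹)) ∈ ER k (1 : R) := by
    have := yr_mem (k := k) (1 : R) (-l⁻¹)
    simpa using this
  exact Subgroup.mul_mem _ (Subgroup.mul_mem _ (Subgroup.mul_mem _ h1 h2) h1) wr_mem_one

/-- **Key lemma over rings**: an element of `E` whose lower-left entry squares into `k^×`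
forces the lower root parameters into the upper ones. -/
theorem keyR (hk2 : (2 : k) ≠ 0) (hk : ∃ l : k, l ≠ 0 ∧ l ^ 2 ≠ 1) (ζ : R) (g : SLR)
    (hg : g ∈ ER k ζ) (d : k) (hd : d ≠ 0) (hgd : rc g ^ 2 = algebraMap k R d) (t : R)
    (ht : ymat R t ∈ ER k ζ) : xmat R t ∈ ER k ζ := by
  have hc : rc g * rc g * algebraMap k R d⁻¹ = 1 := by
    rw [← pow_two, hgd, ← map_mul, mul_inv_cancel₀ hd, map_one]
  obtain ⟨ξ, hξ⟩ : ∃ ξ : R, ξ = ra g * rc g * algebraMap k R d⁻¹ := ⟨_, rfl⟩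
  -- conjugation by x(ξ) maps SL₂(k) into E
  have hS : ∀ h : SLR, h ∈ ER k (1 : R) → xmat R ξ * h * (xmat R ξ)⁻¹ ∈ ER k ζ := by
    intro h hh
    have := map_mem_of_gensR (1 : R) ((MulAut.conj (xmat R ξ)).toMonoidHom) (ER k ζ) ?_ ?_ hh
    · simpa using this
    · intro c
      simp only [MulEquiv.coe_toMonoidHom, MulAut.conj_apply]
      rw [xr_conj_x]
      exact xr_mem ζ c
    · intro c
      simp only [MulEquiv.coe_toMonoidHom, MulAut.conj_apply]
      rw [hξ, mul_one, conj_y_eq g _ hc]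
      refine Subgroup.mul_mem _ (Subgroup.mul_mem _ hg ?_) (Subgroup.inv_mem _ hg)
      have := xr_mem (k := k) ζ (-(c * d⁻¹))
      convert this using 2
      rw [map_neg, map_mul]
  obtain ⟨l, hl0, hl1⟩ := hk
  -- x(ξ) normalizes E
  have hN : xmat R ξ ∈ Subgroup.normalizer (ER k ζ : Set SLR) := by
    have h1 : xmat R ξ * drk l hl0 * (xmat R ξ)⁻¹ ∈ Subgroup.normalizer (ER k ζ : Set SLR) :=
      Subgroup.le_normalizer (hS _ (drk_mem_one l hl0))
    have h2 := Subgroup.mul_mem _ h1 (Subgroup.inv_mem _ (drk_mem_normalizer (k := k) ζ l hl0))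
    have h3 : xmat R ξ * drk l hl0 * (xmat R ξ)⁻¹ * (drk l hl0)⁻¹ =
        xmat R (algebraMap k R (1 - l ^ 2) * ξ) := by
      have : xmat R ξ * drk l hl0 * (xmat R ξ)⁻¹ * (drk l hl0)⁻¹ =
          xmat R ξ * (drk l hl0 * xmat R (-ξ) * (drk l hl0)⁻¹) := by
        rw [xr_neg]
        group
      rw [this, drk, dr_conj_x, ← xr_add]
      congr 1
      rw [map_sub, map_one, map_pow]
      ring
    rw [h3] at h2
    have h4 := xr_smul_mem_normalizer hk2 ζ (1 - l ^ 2)⁻¹ h2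
    have h5 : (1 : k) - l ^ 2 ≠ 0 := by
      intro h
      apply hl1
      linear_combination -h
    rw [← mul_assoc, ← map_mul, inv_mul_cancel₀ h5, map_one, one_mul] at h4
    exact h4
  rw [Subgroup.mem_normalizer_iff] at hN
  have h1 := (hN _).mp ht
  have hn : xmat R ξ * wmat R * (xmat R ξ)⁻¹ ∈ ER k ζ := hS _ wr_mem_one
  have h2 := Subgroup.mul_mem _ (Subgroup.mul_mem _ (Subgroup.inv_mem _ hn) h1) hn
  have h3 : (xmat R ξ * wmat R * (xmat R ξ)⁻¹)⁻¹ * (xmat R ξ * ymat R t * (xmat R ξ)⁻¹) *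
      (xmat R ξ * wmat R * (xmat R ξ)⁻¹) =
      xmat R ξ * ((wmat R)⁻¹ * ymat R t * wmat R) * (xmat R ξ)⁻¹ := by
    group
  rw [h3, wr_inv_conj_y, xr_conj_x, xr_neg, inv_mem_iff] at h2
  exact h2

/-- conjugation by `[[0,1],[-ζ,0]]`, as a function (`ζ ζ' = 1`) -/
def twFun (ζ ζ' : R) (hζ : ζ * ζ' = 1) (g : SLR) : SLR :=
  ⟨!![rd g, -(rc g * ζ'); -(ζ * rb g), ra g], by
    have hd := det_r g
    rw [Matrix.det_fin_two]
    simp only [Matrix.of_apply, Matrix.cons_val', Matrix.cons_val_zero, Matrix.cons_val_one,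
      Matrix.empty_val', Matrix.cons_val_fin_one, Matrix.head_fin_const]
    linear_combination hd - (rb g * rc g) * hζ⟩

@[simp] theorem ra_twFun (ζ ζ' : R) (hζ : ζ * ζ' = 1) (g : SLR) :
    ra (twFun ζ ζ' hζ g) = rd g := by
  simp [ra, rd, twFun]
@[simp] theorem rb_twFun (ζ ζ' : R) (hζ : ζ * ζ' = 1) (g : SLR) :
    rb (twFun ζ ζ' hζ g) = -(rc g * ζ') := by
  simp [rb, rc, twFun]
@[simp] theorem rc_twFun (ζ ζ' : R) (hζ : ζ * ζ' = 1) (g : SLR) :
    rc (twFun ζ ζ' hζ g) = -(ζ * rb g) := by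
  simp [rb, rc, twFun]
@[simp] theorem rd_twFun (ζ ζ' : R) (hζ : ζ * ζ' = 1) (g : SLR) :
    rd (twFun ζ ζ' hζ g) = ra g := by
  simp [ra, rd, twFun]

/-- conjugation by `[[0,1],[-ζ,0]]` as an endomorphism of `SL₂(R)` -/
def tw (ζ ζ' : R) (hζ : ζ * ζ' = 1) : SLR →* SLR where
  toFun g := twFun ζ ζ' hζ g
  map_one' := by
    apply ext_r <;> simp
  map_mul' g h := by
    apply ext_r
    · simp only [ra_mul, rb_mul, rc_mul, rd_mul, ra_twFun, rb_twFun, rc_twFun, rd_twFun]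
      linear_combination (-(rc g * rb h)) * hζ
    · simp only [ra_mul, rb_mul, rc_mul, rd_mul, ra_twFun, rb_twFun, rc_twFun, rd_twFun]
      ring
    · simp only [ra_mul, rb_mul, rc_mul, rd_mul, ra_twFun, rb_twFun, rc_twFun, rd_twFun]
      ring
    · simp only [ra_mul, rb_mul, rc_mul, rd_mul, ra_twFun, rb_twFun, rc_twFun, rd_twFun]
      linear_combination (-(rb g * rc h)) * hζ

theorem tw_xmat (ζ ζ' : R) (hζ : ζ * ζ' = 1) (s : R) :
    tw ζ ζ' hζ (xmat R s) = ymat R (-(ζ * s)) := by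
  apply ext_r <;> simp [tw]

theorem tw_ymat (ζ ζ' : R) (hζ : ζ * ζ' = 1) (s : R) :
    tw ζ ζ' hζ (ymat R s) = xmat R (-(s * ζ')) := by
  apply ext_r <;> simp [tw]

theorem tw_mem (ζ ζ' : R) (hζ : ζ * ζ' = 1) {g : SLR} (hg : g ∈ ER k ζ) :
    tw ζ ζ' hζ g ∈ ER k ζ := by
  refine map_mem_of_gensR ζ (tw ζ ζ' hζ) _ ?_ ?_ hg
  · intro c
    rw [tw_xmat]
    have := yr_mem (k := k) ζ (-c)
    convert this using 2
    rw [map_neg]
    ring
  · intro c
    rw [tw_ymat]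
    have := xr_mem (k := k) ζ (-c)
    convert this using 2
    rw [map_neg, mul_assoc, hζ, mul_one]

/-- `x(u) ∈ E ⇒ y(ζ u) ∈ E` for a unit `ζ` -/
theorem yr_mem_of_xr_mem (ζ ζ' : R) (hζ : ζ * ζ' = 1) {u : R} (hu : xmat R u ∈ ER k ζ) :
    ymat R (ζ * u) ∈ ER k ζ := by
  have := tw_mem (k := k) ζ ζ' hζ hu
  rw [tw_xmat, yr_neg, inv_mem_iff] at this
  exact this

/-- **Polynomial closure**: with an element of `E` whose lower-left entry squares into `k^×`,
all `x(p(ζ))` and `y(ζ p(ζ))` lie in `E` (`ζ` a unit). -/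
theorem polyR (hk2 : (2 : k) ≠ 0) (hk : ∃ l : k, l ≠ 0 ∧ l ^ 2 ≠ 1) (ζ ζ' : R)
    (hζ : ζ * ζ' = 1) (g : SLR)
    (hg : g ∈ ER k ζ) (d : k) (hd : d ≠ 0) (hgd : rc g ^ 2 = algebraMap k R d)
    (p : Polynomial k) :
    xmat R (Polynomial.aeval ζ p) ∈ ER k ζ ∧ ymat R (ζ * Polynomial.aeval ζ p) ∈ ER k ζ := by
  have hpow : ∀ n : ℕ, xmat R (ζ ^ n) ∈ ER k ζ := by
    intro n
    induction n with
    | zero =>
      have := xr_mem (k := k) ζ 1
      simpa using this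
    | succ n ih =>
      have h1 := yr_mem_of_xr_mem (k := k) ζ ζ' hζ ih
      rw [← pow_succ'] at h1
      exact keyR hk2 hk ζ g hg d hd hgd _ h1
  have hx : xmat R (Polynomial.aeval ζ p) ∈ ER k ζ := by
    induction p using Polynomial.induction_on with
    | C a =>
      rw [Polynomial.aeval_C]
      exact xr_mem ζ a
    | add p q hp hq =>
      rw [map_add, xr_add]
      exact Subgroup.mul_mem _ hp hq
    | monomial n a _ =>
      rw [map_mul, Polynomial.aeval_C, map_pow, Polynomial.aeval_X]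
      exact xr_smul_mem hk2 ζ a (hpow (n + 1))
  exact ⟨hx, yr_mem_of_xr_mem ζ ζ' hζ hx⟩

end Cfsg.Agent.Lib.Helper8.Qp
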