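import Mathlib
import Cfsg.Agent.Lib.Helper8.Qp3
set_option autoImplicit false
open Matrix
universe u v w
/-! The matrix model: for `a b` in a `k`-algebra `EE` with `a² = b² = 0` and `a b + b a`
invertible, and a commutative `k`-algebra `R` mapping to the centralizer of `a, b`, there is an
algebra map `M₂(R) → EE` with `E₁₂ ↦ a`, `ζ E₂₁ ↦ b`. -/
namespace Cfsg.Agent.Lib.Helper8.Qp

open Cfsg.Agent.Lib.Helper1.SL2Three

variable {k : Type u} [Field k]
variable {R : Type v} [CommRing R] [Algebra k R]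
variable {EE : Type w} [Ring EE] [Algebra k EE]

/-- the data of a matrix model -/
structure MM (a b tinv : EE) (ev : R →ₐ[k] EE) : Prop where
  aa : a * a = 0
  bb : b * b = 0
  t1 : (a * b + b * a) * tinv = 1
  t2 : tinv * (a * b + b * a) = 1
  ca : ∀ r, ev r * a = a * ev r
  cb : ∀ r, ev r * b = b * ev r

namespace MM

variable {a b tinv : EE} {ev : R →ₐ[k] EE}

theorem ta_eq (h : MM a b tinv ev) : (a * b + b * a) * a = a * (a * b + b * a) := by
  rw [add_mul, mul_add, mul_assoc b a a, h.aa, mul_zero, add_zero, ← mul_assoc a a b, h.aa,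
    zero_mul, zero_add, mul_assoc]

theorem tb_eq (h : MM a b tinv ev) : (a * b + b * a) * b = b * (a * b + b * a) := by
  rw [add_mul, mul_add, mul_assoc a b b, h.bb, mul_zero, zero_add, ← mul_assoc b b a, h.bb,
    zero_mul, add_zero, mul_assoc]

theorem tinv_a (h : MM a b tinv ev) : tinv * a = a * tinv := by
  calc tinv * a = tinv * a * ((a * b + b * a) * tinv) := by rw [h.t1, mul_one]
    _ = tinv * (a * (a * b + b * a)) * tinv := by simp only [mul_assoc]
    _ = tinv * ((a * b + b * a) * a) * tinv := by rw [h.ta_eq]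
    _ = (tinv * (a * b + b * a)) * a * tinv := by simp only [mul_assoc]
    _ = a * tinv := by rw [h.t2, one_mul]

theorem tinv_b (h : MM a b tinv ev) : tinv * b = b * tinv := by
  calc tinv * b = tinv * b * ((a * b + b * a) * tinv) := by rw [h.t1, mul_one]
    _ = tinv * (b * (a * b + b * a)) * tinv := by simp only [mul_assoc]
    _ = tinv * ((a * b + b * a) * b) * tinv := by rw [h.tb_eq]
    _ = (tinv * (a * b + b * a)) * b * tinv := by simp only [mul_assoc]
    _ = b * tinv := by rw [h.t2, one_mul]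

theorem ev_t (h : MM a b tinv ev) (r : R) :
    ev r * (a * b + b * a) = (a * b + b * a) * ev r := by
  rw [mul_add, add_mul, ← mul_assoc, h.ca, mul_assoc, h.cb, ← mul_assoc, ← mul_assoc, h.cb,
    mul_assoc b, h.ca, ← mul_assoc]

theorem ev_tinv (h : MM a b tinv ev) (r : R) : ev r * tinv = tinv * ev r := by
  calc ev r * tinv = (tinv * (a * b + b * a)) * ev r * tinv := by rw [h.t2, one_mul]
    _ = tinv * ((a * b + b * a) * ev r) * tinv := by simp only [mul_assoc]
    _ = tinv * (ev r * (a * b + b * a)) * tinv := by rw [h.ev_t]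
    _ = tinv * ev r * ((a * b + b * a) * tinv) := by simp only [mul_assoc]
    _ = tinv * ev r := by rw [h.t1, mul_one]

theorem aba (h : MM a b tinv ev) : a * b * a = (a * b + b * a) * a := by
  rw [add_mul, mul_assoc b a a, h.aa, mul_zero, add_zero]

theorem bab (h : MM a b tinv ev) : b * a * b = (a * b + b * a) * b := by
  rw [add_mul, mul_assoc a b b, h.bb, mul_zero, zero_add]

theorem tinv_aba (h : MM a b tinv ev) : tinv * (a * b * a) = a := by
  rw [h.aba, ← mul_assoc, h.t2, one_mul]

theorem tinv_bab (h : MM a b tinv ev) : tinv * (b * a * b) = b := by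
  rw [h.bab, ← mul_assoc, h.t2, one_mul]

theorem a_tinv_mul (h : MM a b tinv ev) (x : EE) : a * (tinv * x) = tinv * (a * x) := by
  rw [← mul_assoc, ← h.tinv_a, mul_assoc]

theorem b_tinv_mul (h : MM a b tinv ev) (x : EE) : b * (tinv * x) = tinv * (b * x) := by
  rw [← mul_assoc, ← h.tinv_b, mul_assoc]

theorem aa_mul (h : MM a b tinv ev) (x : EE) : a * (a * x) = 0 := by
  rw [← mul_assoc, h.aa, zero_mul]

theorem bb_mul (h : MM a b tinv ev) (x : EE) : b * (b * x) = 0 := by
  rw [← mul_assoc, h.bb, zero_mul]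

theorem tinv_aba' (h : MM a b tinv ev) : tinv * (a * (b * a)) = a := by
  rw [← mul_assoc a, h.tinv_aba]

theorem tinv_bab' (h : MM a b tinv ev) : tinv * (b * (a * b)) = b := by
  rw [← mul_assoc b, h.tinv_bab]

theorem tinv_aba_mul (h : MM a b tinv ev) (x : EE) : tinv * (a * (b * (a * x))) = a * x := by
  rw [← mul_assoc b, ← mul_assoc a, ← mul_assoc tinv, ← mul_assoc a, h.tinv_aba]

theorem tinv_bab_mul (h : MM a b tinv ev) (x : EE) : tinv * (b * (a * (b * x))) = b * x := by
  rw [← mul_assoc a, ← mul_assoc b, ← mul_assoc tinv, ← mul_assoc b, h.tinv_bab]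

end MM

/-- the matrix units -/
def e11 (a b tinv : EE) : EE := tinv * (a * b)
def e21 (b tinv : EE) : EE := tinv * b
def e22 (a b tinv : EE) : EE := tinv * (b * a)

namespace MM

variable {a b tinv : EE} {ev : R →ₐ[k] EE}

theorem e11_add_e22 (h : MM a b tinv ev) : e11 a b tinv + e22 a b tinv = 1 := by
  rw [e11, e22, ← mul_add, h.t2]

theorem e11_e11 (h : MM a b tinv ev) : e11 a b tinv * e11 a b tinv = e11 a b tinv := by
  simp only [e11, mul_assoc, h.a_tinv_mul, h.b_tinv_mul, h.tinv_aba_mul]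
theorem e11_e12 (h : MM a b tinv ev) : e11 a b tinv * a = a := by
  simp only [e11, mul_assoc, h.tinv_aba']
theorem e11_e21 (h : MM a b tinv ev) : e11 a b tinv * e21 b tinv = 0 := by
  simp only [e11, e21, mul_assoc, h.a_tinv_mul, h.b_tinv_mul, h.bb, mul_zero]
theorem e11_e22 (h : MM a b tinv ev) : e11 a b tinv * e22 a b tinv = 0 := by
  simp only [e11, e22, mul_assoc, h.a_tinv_mul, h.b_tinv_mul, h.bb_mul, mul_zero]
theorem e12_e11 (h : MM a b tinv ev) : a * e11 a b tinv = 0 := by
  simp only [e11, h.a_tinv_mul, h.aa_mul, mul_zero]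
theorem e12_e12 (h : MM a b tinv ev) : a * a = 0 := h.aa
theorem e12_e21 (h : MM a b tinv ev) : a * e21 b tinv = e11 a b tinv := by
  simp only [e11, e21, h.a_tinv_mul]
theorem e12_e22 (h : MM a b tinv ev) : a * e22 a b tinv = a := by
  simp only [e22, h.a_tinv_mul, h.tinv_aba']
theorem e21_e11 (h : MM a b tinv ev) : e21 b tinv * e11 a b tinv = e21 b tinv := by
  simp only [e11, e21, mul_assoc, h.b_tinv_mul, h.tinv_bab']
theorem e21_e12 (h : MM a b tinv ev) : e21 b tinv * a = e22 a b tinv := by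
  simp only [e21, e22, mul_assoc]
theorem e21_e21 (h : MM a b tinv ev) : e21 b tinv * e21 b tinv = 0 := by
  simp only [e21, mul_assoc, h.b_tinv_mul, h.bb, mul_zero]
theorem e21_e22 (h : MM a b tinv ev) : e21 b tinv * e22 a b tinv = 0 := by
  simp only [e21, e22, mul_assoc, h.b_tinv_mul, h.bb_mul, mul_zero]
theorem e22_e11 (h : MM a b tinv ev) : e22 a b tinv * e11 a b tinv = 0 := by
  simp only [e11, e22, mul_assoc, h.a_tinv_mul, h.b_tinv_mul, h.aa_mul, mul_zero]
theorem e22_e12 (h : MM a b tinv ev) : e22 a b tinv * a = 0 := by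
  simp only [e22, mul_assoc, h.aa, mul_zero]
theorem e22_e21 (h : MM a b tinv ev) : e22 a b tinv * e21 b tinv = e21 b tinv := by
  simp only [e21, e22, mul_assoc, h.a_tinv_mul, h.b_tinv_mul, h.tinv_bab']
theorem e22_e22 (h : MM a b tinv ev) : e22 a b tinv * e22 a b tinv = e22 a b tinv := by
  simp only [e22, mul_assoc, h.a_tinv_mul, h.b_tinv_mul, h.tinv_bab_mul]

theorem ev_e11 (h : MM a b tinv ev) (r : R) : ev r * e11 a b tinv = e11 a b tinv * ev r := by
  rw [e11, ← mul_assoc, h.ev_tinv, mul_assoc, ← mul_assoc (ev r), h.ca, mul_assoc a, h.cb]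
  simp only [mul_assoc]
theorem ev_e21 (h : MM a b tinv ev) (r : R) : ev r * e21 b tinv = e21 b tinv * ev r := by
  rw [e21, ← mul_assoc, h.ev_tinv, mul_assoc, h.cb]
  simp only [mul_assoc]
theorem ev_e22 (h : MM a b tinv ev) (r : R) : ev r * e22 a b tinv = e22 a b tinv * ev r := by
  rw [e22, ← mul_assoc, h.ev_tinv, mul_assoc, ← mul_assoc (ev r), h.cb, mul_assoc b, h.ca]
  simp only [mul_assoc]

theorem term11 (h : MM a b tinv ev) (x y : R) (e' : EE) :
    ev x * e11 a b tinv * (ev y * e') = ev (x * y) * (e11 a b tinv * e') := by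
  rw [map_mul, mul_assoc, ← mul_assoc (e11 a b tinv), ← h.ev_e11]
  simp only [mul_assoc]
theorem term12 (h : MM a b tinv ev) (x y : R) (e' : EE) :
    ev x * a * (ev y * e') = ev (x * y) * (a * e') := by
  rw [map_mul, mul_assoc, ← mul_assoc a, ← h.ca]
  simp only [mul_assoc]
theorem term21 (h : MM a b tinv ev) (x y : R) (e' : EE) :
    ev x * e21 b tinv * (ev y * e') = ev (x * y) * (e21 b tinv * e') := by
  rw [map_mul, mul_assoc, ← mul_assoc (e21 b tinv), ← h.ev_e21]
  simp only [mul_assoc]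
theorem term22 (h : MM a b tinv ev) (x y : R) (e' : EE) :
    ev x * e22 a b tinv * (ev y * e') = ev (x * y) * (e22 a b tinv * e') := by
  rw [map_mul, mul_assoc, ← mul_assoc (e22 a b tinv), ← h.ev_e22]
  simp only [mul_assoc]

end MM

/-- the matrix model map, as a function -/
def phiFun (a b tinv : EE) (ev : R →ₐ[k] EE) (m : Matrix (Fin 2) (Fin 2) R) : EE :=
  ev (m 0 0) * e11 a b tinv + ev (m 0 1) * a + ev (m 1 0) * e21 b tinv +
    ev (m 1 1) * e22 a b tinv

/-- the matrix model map `M₂(R) → EE` -/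
def phi {a b tinv : EE} {ev : R →ₐ[k] EE} (h : MM a b tinv ev) :
    Matrix (Fin 2) (Fin 2) R →ₐ[k] EE where
  toFun := phiFun a b tinv ev
  map_one' := by
    simp only [phiFun, Matrix.one_apply_eq, Matrix.one_apply_ne (zero_ne_one' (Fin 2)),
      Matrix.one_apply_ne (zero_ne_one' (Fin 2)).symm, map_one, map_zero, zero_mul, add_zero,
      one_mul]
    exact h.e11_add_e22
  map_mul' m m' := by
    simp only [phiFun, Matrix.mul_apply, Fin.sum_univ_two, add_mul, mul_add, h.term11, h.term12,
      h.term21, h.term22, h.e11_e11, h.e11_e12, h.e11_e21, h.e11_e22, h.e12_e11, h.e12_e12,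
      h.e12_e21, h.e12_e22, h.e21_e11, h.e21_e12, h.e21_e21, h.e21_e22, h.e22_e11, h.e22_e12,
      h.e22_e21, h.e22_e22, mul_zero, add_zero, zero_add, map_add]
    abel
  map_zero' := by
    simp [phiFun]
  map_add' m m' := by
    simp only [phiFun, Matrix.add_apply, map_add, add_mul]
    abel
  commutes' c := by
    simp only [phiFun, Matrix.algebraMap_matrix_apply, if_true, Fin.isValue,
      if_neg (zero_ne_one' (Fin 2)), if_neg (zero_ne_one' (Fin 2)).symm, map_zero, zero_mul,
      add_zero, AlgHom.commutes]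
    rw [← mul_add, h.e11_add_e22, mul_one]

section phiLemmas

variable {a b tinv : EE} {ev : R →ₐ[k] EE}

theorem phi_apply (h : MM a b tinv ev) (m : Matrix (Fin 2) (Fin 2) R) :
    phi h m = ev (m 0 0) * e11 a b tinv + ev (m 0 1) * a + ev (m 1 0) * e21 b tinv +
      ev (m 1 1) * e22 a b tinv := rfl

/-- the image of an upper unitriangular matrix -/
theorem phi_x (h : MM a b tinv ev) (r : R) :
    phi h (xmat R r : Matrix (Fin 2) (Fin 2) R) = 1 + ev r * a := by
  rw [phi_apply, coe_xmat]
  simp only [Matrix.of_apply, Matrix.cons_val', Matrix.cons_val_zero, Matrix.cons_val_one,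
    Matrix.empty_val', Matrix.cons_val_fin_one, Matrix.head_fin_const, Matrix.head_cons,
    map_one, map_zero, zero_mul, add_zero, one_mul]
  rw [add_right_comm, h.e11_add_e22]

/-- the image of a lower unitriangular matrix -/
theorem phi_y (h : MM a b tinv ev) (r : R) :
    phi h (ymat R r : Matrix (Fin 2) (Fin 2) R) = 1 + ev r * e21 b tinv := by
  rw [phi_apply, coe_ymat]
  simp only [Matrix.of_apply, Matrix.cons_val', Matrix.cons_val_zero, Matrix.cons_val_one,
    Matrix.empty_val', Matrix.cons_val_fin_one, Matrix.head_fin_const, Matrix.head_cons,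
    map_one, map_zero, zero_mul, add_zero, one_mul]
  rw [add_right_comm, h.e11_add_e22]

theorem phi_x_k (h : MM a b tinv ev) (c : k) :
    phi h (xmat R (algebraMap k R c) : Matrix (Fin 2) (Fin 2) R) = 1 + c • a := by
  rw [phi_x, AlgHom.commutes, Algebra.algebraMap_eq_smul_one, smul_mul_assoc, one_mul]

theorem phi_y_k (h : MM a b tinv ev) (ζ : R) (hζ : ev ζ = a * b + b * a) (c : k) :
    phi h (ymat R (algebraMap k R c * ζ) : Matrix (Fin 2) (Fin 2) R) = 1 + c • b := by
  rw [phi_y, map_mul, AlgHom.commutes, Algebra.algebraMap_eq_smul_one, smul_mul_assoc, one_mul,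
    hζ, e21, smul_mul_assoc, ← mul_assoc, h.t1, one_mul]

/-- the induced map on unit groups -/
noncomputable def phiU (h : MM a b tinv ev) : Matrix.SpecialLinearGroup (Fin 2) R →* EEˣ :=
  (Units.map (phi h : Matrix (Fin 2) (Fin 2) R →* EE)).comp Matrix.SpecialLinearGroup.toGL

theorem coe_phiU (h : MM a b tinv ev) (g : Matrix.SpecialLinearGroup (Fin 2) R) :
    ((phiU h g : EEˣ) : EE) = phi h (g : Matrix (Fin 2) (Fin 2) R) := rfl

end phiLemmas

end Cfsg.Agent.Lib.Helper8.Qp
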