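import Mathlib
import Cfsg.Agent.Lib.Helper8.Qp4
set_option autoImplicit false
open Matrix
universe u v w
/-! Matrix model on an invariant submodule `V` of `M`, extended to `M` by a retraction. -/
namespace Cfsg.Agent.Lib.Helper8.Qp

open Cfsg.Agent.Lib.Helper1.SL2Three

variable {k : Type u} [Field k]
variable {M : Type w} [AddCommGroup M] [Module k M]

/-- extension of an endomorphism of `V` to `M` through a retraction `e : M → V`:
`x ↦ 1 + ι (x - 1) e`. -/
def extEnd (V : Submodule k M) (e : M →ₗ[k] V) (he : ∀ v : V, e v = v) :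
    Module.End k V →* Module.End k M where
  toFun x := 1 + V.subtype ∘ₗ (x - 1) ∘ₗ e
  map_one' := by simp
  map_mul' x y := by
    apply LinearMap.ext
    intro m
    simp only [LinearMap.add_apply, Module.End.one_apply, LinearMap.comp_apply,
      LinearMap.sub_apply, Module.End.mul_apply, Submodule.subtype_apply, map_add, map_sub, he,
      Submodule.coe_sub, Submodule.coe_add]
    abel

theorem extEnd_apply (V : Submodule k M) (e : M →ₗ[k] V) (he : ∀ v : V, e v = v)
    (x : Module.End k V) (m : M) :
    extEnd V e he x m = m + ((x (e m) : V) : M) - ((e m : V) : M) := by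
  simp only [extEnd, MonoidHom.coe_mk, OneHom.coe_mk, LinearMap.add_apply, Module.End.one_apply,
    LinearMap.comp_apply, LinearMap.sub_apply, Submodule.subtype_apply, Submodule.coe_sub]
  abel

theorem extEnd_apply_mem (V : Submodule k M) (e : M →ₗ[k] V) (he : ∀ v : V, e v = v)
    (x : Module.End k V) (v : V) :
    extEnd V e he x (v : M) = ((x v : V) : M) := by
  rw [extEnd_apply, he]
  abel

theorem extEnd_injective (V : Submodule k M) (e : M →ₗ[k] V) (he : ∀ v : V, e v = v) :
    Function.Injective (extEnd V e he) := by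
  intro x y hxy
  apply LinearMap.ext
  intro v
  have := congrArg (fun f : Module.End k M => f (v : M)) hxy
  simp only [extEnd_apply_mem] at this
  exact Subtype.ext this

variable {R : Type v} [CommRing R] [Algebra k R]

/-- a matrix model for `A, B ∈ End M` on the invariant submodule `V`, with a retraction `e`
onto `V` whose kernel is killed by `A` and `B` -/
structure SubModel (A B : Module.End k M) (V : Submodule k M) (e : M →ₗ[k] V)
    (tinv : Module.End k V) (ev : R →ₐ[k] Module.End k V) (ζ : R) : Prop where
  he : ∀ v : V, e v = v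
  hAV : ∀ v ∈ V, A v ∈ V
  hBV : ∀ v ∈ V, B v ∈ V
  hAe : ∀ m, A (e m) = A m
  hBe : ∀ m, B (e m) = B m
  mm : MM (A.restrict hAV) (B.restrict hBV) tinv ev
  hζ : ev ζ = (A.restrict hAV) * (B.restrict hBV) + (B.restrict hBV) * (A.restrict hAV)

namespace SubModel

variable {A B : Module.End k M} {V : Submodule k M} {e : M →ₗ[k] V}
  {tinv : Module.End k V} {ev : R →ₐ[k] Module.End k V} {ζ : R}

/-- the representation of `SL₂(R)` on `M` -/
noncomputable def Psi (h : SubModel A B V e tinv ev ζ) :
    Matrix.SpecialLinearGroup (Fin 2) R →* (Module.End k M)ˣ :=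
  (Units.map (extEnd V e h.he)).comp (phiU h.mm)

theorem coe_Psi (h : SubModel A B V e tinv ev ζ) (g : Matrix.SpecialLinearGroup (Fin 2) R) :
    ((h.Psi g : (Module.End k M)ˣ) : Module.End k M) =
      extEnd V e h.he (phi h.mm (g : Matrix (Fin 2) (Fin 2) R)) := rfl

theorem Psi_apply_mem (h : SubModel A B V e tinv ev ζ)
    (g : Matrix.SpecialLinearGroup (Fin 2) R) (v : V) :
    ((h.Psi g : (Module.End k M)ˣ) : Module.End k M) (v : M) =
      ((phi h.mm (g : Matrix (Fin 2) (Fin 2) R) v : V) : M) := by
  rw [coe_Psi, extEnd_apply_mem]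

theorem Psi_x_apply (h : SubModel A B V e tinv ev ζ) (r : R) (m : M) :
    ((h.Psi (xmat R r) : (Module.End k M)ˣ) : Module.End k M) m =
      m + ((ev r ((A.restrict h.hAV) (e m)) : V) : M) := by
  rw [coe_Psi, extEnd_apply, phi_x]
  simp only [LinearMap.add_apply, Module.End.one_apply, Module.End.mul_apply, Submodule.coe_add]
  abel

theorem Psi_x_k (h : SubModel A B V e tinv ev ζ) (c : k) :
    ((h.Psi (xmat R (algebraMap k R c)) : (Module.End k M)ˣ) : Module.End k M) = 1 + c • A := by
  apply LinearMap.ext
  intro m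
  rw [coe_Psi, extEnd_apply, phi_x_k]
  simp only [LinearMap.add_apply, Module.End.one_apply, LinearMap.smul_apply,
    Submodule.coe_add, Submodule.coe_smul, LinearMap.restrict_coe_apply, h.hAe]
  abel

theorem Psi_y_k (h : SubModel A B V e tinv ev ζ) (c : k) :
    ((h.Psi (ymat R (algebraMap k R c * ζ)) : (Module.End k M)ˣ) : Module.End k M) =
      1 + c • B := by
  apply LinearMap.ext
  intro m
  rw [coe_Psi, extEnd_apply, phi_y_k h.mm ζ h.hζ]
  simp only [LinearMap.add_apply, Module.End.one_apply, LinearMap.smul_apply,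
    Submodule.coe_add, Submodule.coe_smul, LinearMap.restrict_coe_apply, h.hBe]
  abel

theorem Psi_injective (h : SubModel A B V e tinv ev ζ)
    (hinj : Function.Injective (phi h.mm)) : Function.Injective h.Psi := by
  intro g g' hgg
  have h1 := congrArg (fun u : (Module.End k M)ˣ => (u : Module.End k M)) hgg
  simp only [coe_Psi] at h1
  have h2 := hinj (extEnd_injective V e h.he h1)
  exact Subtype.ext h2

end SubModel

end Cfsg.Agent.Lib.Helper8.Qp
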