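import Mathlib
import Cfsg.Prelude.Def_RootSubgroups
import Cfsg.Agent.Lib.Helper8.Qp5
set_option autoImplicit false
open Matrix
universe u v w
/-! The image of `E = ⟨x(c), y(cζ)⟩` under the representation `Psi` is the group generated by
the two scalar families. -/
namespace Cfsg.Agent.Lib.Helper8.Qp

open Cfsg.Agent.Lib.Helper1.SL2Three

variable {k : Type u} [Field k]
variable {M : Type w} [AddCommGroup M] [Module k M]
variable {R : Type v} [CommRing R] [Algebra k R]

namespace SubModel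

variable {A B : Module.End k M} {V : Submodule k M} {e : M →ₗ[k] V}
  {tinv : Module.End k V} {ev : R →ₐ[k] Module.End k V} {ζ : R}

theorem Psi_image_gens (h : SubModel A B V e tinv ev ζ)
    (σ τ : LinearMap.GeneralLinearGroup k M) (hσ : (σ : M →ₗ[k] M) - 1 = A)
    (hτ : (τ : M →ₗ[k] M) - 1 = B) :
    h.Psi '' (gensR k ζ) = Cfsg.scalarFamily σ ∪ Cfsg.scalarFamily τ := by
  ext u
  constructor
  · rintro ⟨g, (⟨c, rfl⟩ | ⟨c, rfl⟩), rfl⟩
    · left
      refine ⟨c, ?_⟩
      rw [hσ]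
      exact h.Psi_x_k c
    · right
      refine ⟨c, ?_⟩
      rw [hτ]
      exact h.Psi_y_k c
  · rintro (⟨c, hc⟩ | ⟨c, hc⟩)
    · refine ⟨xmat R (algebraMap k R c), Or.inl ⟨c, rfl⟩, ?_⟩
      apply Units.ext
      rw [hc, hσ]
      exact h.Psi_x_k c
    · refine ⟨ymat R (algebraMap k R c * ζ), Or.inr ⟨c, rfl⟩, ?_⟩
      apply Units.ext
      rw [hc, hτ]
      exact h.Psi_y_k c

theorem Psi_map_ER (h : SubModel A B V e tinv ev ζ)
    (σ τ : LinearMap.GeneralLinearGroup k M) (hσ : (σ : M →ₗ[k] M) - 1 = A)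
    (hτ : (τ : M →ₗ[k] M) - 1 = B) :
    (ER k ζ).map h.Psi = Subgroup.closure (Cfsg.scalarFamily σ ∪ Cfsg.scalarFamily τ) := by
  unfold ER
  rw [MonoidHom.map_closure, h.Psi_image_gens σ τ hσ hτ]

end SubModel

end Cfsg.Agent.Lib.Helper8.Qp
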