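import Mathlib
import Cfsg.Prelude.Def_RootSubgroups
import Cfsg.Agent.Lib.Helper8.Qp6
set_option autoImplicit false
open Matrix Polynomial
universe u v w
/-! Evaluation maps `AdjoinRoot π → EE` for noncommutative `EE`, restriction of polynomials in
an endomorphism, and the submodule `V = A M + B M`. -/
namespace Cfsg.Agent.Lib.Helper8.Qp

open Cfsg.Agent.Lib.Helper1.SL2Three

variable {k : Type u} [Field k]

section ev
variable {EE : Type w} [Ring EE] [Algebra k EE]

/-- evaluation `k[X]/(π) → EE` at a root `x` of `π` (for possibly noncommutative `EE`) -/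
noncomputable def evHom (π : k[X]) (x : EE) (h : aeval x π = 0) : AdjoinRoot π →ₐ[k] EE :=
  Ideal.Quotient.liftₐ (Ideal.span {π}) (Polynomial.aeval x) (by
    intro a ha
    rw [Ideal.mem_span_singleton] at ha
    obtain ⟨q, rfl⟩ := ha
    rw [map_mul, h, zero_mul])

theorem evHom_mk (π : k[X]) (x : EE) (h : aeval x π = 0) (p : k[X]) :
    evHom π x h (AdjoinRoot.mk π p) = aeval x p := rfl

theorem evHom_root (π : k[X]) (x : EE) (h : aeval x π = 0) :
    evHom π x h (AdjoinRoot.root π) = x := by
  rw [AdjoinRoot.root, evHom_mk, aeval_X]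

theorem aeval_mul_comm (x y : EE) (h : x * y = y * x) (p : k[X]) :
    aeval x p * y = y * aeval x p := by
  induction p using Polynomial.induction_on with
  | C a =>
    rw [aeval_C]
    exact Algebra.commutes a y
  | add p q hp hq =>
    rw [map_add, add_mul, mul_add, hp, hq]
  | monomial n a ih =>
    rw [pow_succ, ← mul_assoc, map_mul, aeval_X, mul_assoc, h, ← mul_assoc, ih, mul_assoc]

theorem evHom_mul_comm (π : k[X]) (x : EE) (h : aeval x π = 0) (y : EE) (hxy : x * y = y * x)
    (r : AdjoinRoot π) : evHom π x h r * y = y * evHom π x h r := by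
  induction r using AdjoinRoot.induction_on with
  | ih p =>
    rw [evHom_mk]
    exact aeval_mul_comm x y hxy p

end ev

section restrict
variable {M : Type w} [AddCommGroup M] [Module k M]

theorem aeval_restrict_apply (f : Module.End k M) (V : Submodule k M) (hV : ∀ v ∈ V, f v ∈ V)
    (p : k[X]) (v : V) :
    ((aeval (f.restrict hV) p v : V) : M) = aeval f p (v : M) := by
  induction p using Polynomial.induction_on generalizing v with
  | C a =>
    simp [aeval_C, Module.algebraMap_end_apply]
  | add p q hp hq =>
    simp only [map_add, LinearMap.add_apply, Submodule.coe_add, hp, hq]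
  | monomial n a ih =>
    have h1 : ∀ (EE : Type w) [Ring EE] [Algebra k EE] (g : EE),
        aeval g (C a * X ^ (n + 1)) = aeval g (C a * X ^ n) * g := by
      intro EE _ _ g
      rw [pow_succ, ← mul_assoc, map_mul, aeval_X]
    rw [h1, h1, Module.End.mul_apply, Module.End.mul_apply, ih]
    rfl

end restrict

end Cfsg.Agent.Lib.Helper8.Qp
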