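import Mathlib
import Cfsg.Prelude.Def_RootSubgroups
import Cfsg.Agent.Lib.Helper8.Qp7
set_option autoImplicit false
open Matrix Polynomial
universe u v w
/-! The canonical matrix model on `V = A M + B M` over `k[X]/(π)`, where `π(θ) A = π(θ) B = 0`,
`π(0) ≠ 0`, `θ = A B + B A`. -/
namespace Cfsg.Agent.Lib.Helper8.Qp

open Cfsg.Agent.Lib.Helper1.SL2Three

variable {k : Type u} [Field k]

/-- the inverse of the root in `k[X]/(π)` when `π(0) ≠ 0` -/
noncomputable def rootInv (π : k[X]) : AdjoinRoot π :=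
  AdjoinRoot.mk π (-(C (π.coeff 0)⁻¹ * π.divX))

theorem root_mul_rootInv (π : k[X]) (h0 : π.coeff 0 ≠ 0) :
    AdjoinRoot.root π * rootInv π = 1 := by
  have h1 : X * π.divX = π - C (π.coeff 0) := by
    have := Polynomial.divX_mul_X_add π
    rw [mul_comm]
    exact eq_sub_of_add_eq this
  rw [AdjoinRoot.root, rootInv, ← map_mul]
  have h2 : X * -(C (π.coeff 0)⁻¹ * π.divX) = -(C (π.coeff 0)⁻¹) * π + 1 := by
    have h3 : X * -(C (π.coeff 0)⁻¹ * π.divX) = -(C (π.coeff 0)⁻¹) * (X * π.divX) := by ring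
    rw [h3, h1, mul_sub, neg_mul, neg_mul, ← C_mul, inv_mul_cancel₀ h0, C_1]
    ring
  rw [h2, map_add, map_mul, AdjoinRoot.mk_self, mul_zero, zero_add, map_one]

section model
variable {M : Type w} [AddCommGroup M] [Module k M]
variable (A B : Module.End k M)

/-- `V = A M + B M` -/
def VV : Submodule k M := LinearMap.range A ⊔ LinearMap.range B

theorem A_mem_VV (m : M) : A m ∈ VV A B :=
  Submodule.mem_sup_left (LinearMap.mem_range_self A m)

theorem B_mem_VV (m : M) : B m ∈ VV A B :=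
  Submodule.mem_sup_right (LinearMap.mem_range_self B m)

theorem hAVV : ∀ v ∈ VV A B, A v ∈ VV A B := fun v _ => A_mem_VV A B v

theorem hBVV : ∀ v ∈ VV A B, B v ∈ VV A B := fun v _ => B_mem_VV A B v

theorem th_mem_VV (m : M) : (A * B + B * A) m ∈ VV A B := by
  rw [LinearMap.add_apply, Module.End.mul_apply, Module.End.mul_apply]
  exact Submodule.add_mem _ (A_mem_VV A B _) (B_mem_VV A B _)

/-- `A` restricted to `V` -/
def AV : Module.End k (VV A B) := A.restrict (hAVV A B)
/-- `B` restricted to `V` -/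
def BV : Module.End k (VV A B) := B.restrict (hBVV A B)
/-- `θ` restricted to `V` -/
def thV : Module.End k (VV A B) := AV A B * BV A B + BV A B * AV A B

theorem coe_AV_apply (v : VV A B) : ((AV A B v : VV A B) : M) = A (v : M) := rfl
theorem coe_BV_apply (v : VV A B) : ((BV A B v : VV A B) : M) = B (v : M) := rfl
theorem coe_thV_apply (v : VV A B) :
    ((thV A B v : VV A B) : M) = (A * B + B * A) (v : M) := rfl

theorem thV_eq_restrict :
    thV A B = (A * B + B * A).restrict (fun v _ => th_mem_VV A B v) := by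
  apply LinearMap.ext
  intro v
  apply Subtype.ext
  rfl

theorem aeval_thV_eq_zero (π : k[X]) (hπA : aeval (A * B + B * A) π * A = 0)
    (hπB : aeval (A * B + B * A) π * B = 0) : aeval (thV A B) π = 0 := by
  apply LinearMap.ext
  intro v
  apply Subtype.ext
  rw [thV_eq_restrict, aeval_restrict_apply]
  obtain ⟨_, ⟨m1, rfl⟩, _, ⟨m2, rfl⟩, hv⟩ := Submodule.mem_sup.mp v.2
  rw [← hv, map_add, ← Module.End.mul_apply, ← Module.End.mul_apply, hπA, hπB]
  simp

variable {A B}

theorem AV_mul_AV (hA : A * A = 0) : AV A B * AV A B = 0 := by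
  apply LinearMap.ext
  intro v
  apply Subtype.ext
  rw [Module.End.mul_apply, coe_AV_apply, coe_AV_apply, ← Module.End.mul_apply, hA]
  rfl

theorem BV_mul_BV (hB : B * B = 0) : BV A B * BV A B = 0 := by
  apply LinearMap.ext
  intro v
  apply Subtype.ext
  rw [Module.End.mul_apply, coe_BV_apply, coe_BV_apply, ← Module.End.mul_apply, hB]
  rfl

theorem thV_mul_AV (hA : A * A = 0) : thV A B * AV A B = AV A B * thV A B := by
  have h := AV_mul_AV (B := B) hA
  rw [thV, add_mul, mul_add, mul_assoc (BV A B), h, mul_zero, add_zero, ← mul_assoc (AV A B)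
    (AV A B), h, zero_mul, zero_add, mul_assoc]

theorem thV_mul_BV (hB : B * B = 0) : thV A B * BV A B = BV A B * thV A B := by
  have h := BV_mul_BV (A := A) hB
  rw [thV, add_mul, mul_add, mul_assoc (AV A B), h, mul_zero, zero_add, ← mul_assoc (BV A B)
    (BV A B), h, zero_mul, add_zero, mul_assoc]

end model

section model2
variable {M : Type w} [AddCommGroup M] [Module k M]
variable {A B : Module.End k M}

/-- evaluation `k[X]/(π) → End V` at `θ|V` -/
noncomputable def evV (π : k[X]) (hπA : aeval (A * B + B * A) π * A = 0)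
    (hπB : aeval (A * B + B * A) π * B = 0) : AdjoinRoot π →ₐ[k] Module.End k (VV A B) :=
  evHom π (thV A B) (aeval_thV_eq_zero A B π hπA hπB)

theorem evV_mk (π : k[X]) (hπA : aeval (A * B + B * A) π * A = 0)
    (hπB : aeval (A * B + B * A) π * B = 0) (p : k[X]) :
    evV π hπA hπB (AdjoinRoot.mk π p) = aeval (thV A B) p := rfl

theorem evV_root (π : k[X]) (hπA : aeval (A * B + B * A) π * A = 0)
    (hπB : aeval (A * B + B * A) π * B = 0) :
    evV π hπA hπB (AdjoinRoot.root π) = thV A B := evHom_root _ _ _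

/-- the inverse of `θ|V` -/
noncomputable def tinvV (π : k[X]) (hπA : aeval (A * B + B * A) π * A = 0)
    (hπB : aeval (A * B + B * A) π * B = 0) : Module.End k (VV A B) :=
  evV π hπA hπB (rootInv π)

theorem thV_mul_tinvV (π : k[X]) (h0 : π.coeff 0 ≠ 0)
    (hπA : aeval (A * B + B * A) π * A = 0) (hπB : aeval (A * B + B * A) π * B = 0) :
    thV A B * tinvV π hπA hπB = 1 := by
  rw [tinvV, ← evV_root π hπA hπB, ← map_mul, root_mul_rootInv π h0, map_one]

theorem tinvV_mul_thV (π : k[X]) (h0 : π.coeff 0 ≠ 0)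
    (hπA : aeval (A * B + B * A) π * A = 0) (hπB : aeval (A * B + B * A) π * B = 0) :
    tinvV π hπA hπB * thV A B = 1 := by
  rw [tinvV, ← evV_root π hπA hπB, ← map_mul, mul_comm, root_mul_rootInv π h0, map_one]

/-- the retraction `M → V` -/
noncomputable def eV (π : k[X]) (hπA : aeval (A * B + B * A) π * A = 0)
    (hπB : aeval (A * B + B * A) π * B = 0) : M →ₗ[k] VV A B :=
  (tinvV π hπA hπB) ∘ₗ ((A * B + B * A).codRestrict (VV A B) (th_mem_VV A B))

theorem eV_apply_mem (π : k[X]) (h0 : π.coeff 0 ≠ 0)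
    (hπA : aeval (A * B + B * A) π * A = 0) (hπB : aeval (A * B + B * A) π * B = 0)
    (v : VV A B) : eV π hπA hπB (v : M) = v := by
  have h1 : (A * B + B * A).codRestrict (VV A B) (th_mem_VV A B) (v : M) = thV A B v := by
    apply Subtype.ext
    rfl
  rw [eV, LinearMap.comp_apply, h1, ← Module.End.mul_apply, tinvV_mul_thV π h0]
  rfl

theorem mm_V (hA : A * A = 0) (hB : B * B = 0) (π : k[X]) (h0 : π.coeff 0 ≠ 0)
    (hπA : aeval (A * B + B * A) π * A = 0) (hπB : aeval (A * B + B * A) π * B = 0) :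
    MM (AV A B) (BV A B) (tinvV π hπA hπB) (evV π hπA hπB) where
  aa := AV_mul_AV hA
  bb := BV_mul_BV hB
  t1 := thV_mul_tinvV π h0 hπA hπB
  t2 := tinvV_mul_thV π h0 hπA hπB
  ca r := evHom_mul_comm π (thV A B) _ (AV A B) (thV_mul_AV hA) r
  cb r := evHom_mul_comm π (thV A B) _ (BV A B) (thV_mul_BV hB) r

theorem A_eV (hA : A * A = 0) (hB : B * B = 0) (π : k[X]) (h0 : π.coeff 0 ≠ 0)
    (hπA : aeval (A * B + B * A) π * A = 0) (hπB : aeval (A * B + B * A) π * B = 0) (m : M) :
    A (eV π hπA hπB m : M) = A m := by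
  have hmm := mm_V hA hB π h0 hπA hπB
  -- `A' m` as an element of `V`
  have h1 : AV A B ((A * B + B * A).codRestrict (VV A B) (th_mem_VV A B) m) =
      thV A B ⟨A m, A_mem_VV A B m⟩ := by
    apply Subtype.ext
    change A ((A * B + B * A) m) = (A * B + B * A) (A m)
    rw [← Module.End.mul_apply, ← Module.End.mul_apply, mul_add, add_mul, ← mul_assoc, hA,
      zero_mul, zero_add, mul_assoc B, hA, mul_zero, add_zero, mul_assoc]
  have h2 : AV A B (eV π hπA hπB m) = ⟨A m, A_mem_VV A B m⟩ := by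
    rw [eV, LinearMap.comp_apply, ← Module.End.mul_apply, ← hmm.tinv_a, Module.End.mul_apply, h1,
      ← Module.End.mul_apply, tinvV_mul_thV π h0]
    rfl
  exact congrArg Subtype.val h2

theorem B_eV (hA : A * A = 0) (hB : B * B = 0) (π : k[X]) (h0 : π.coeff 0 ≠ 0)
    (hπA : aeval (A * B + B * A) π * A = 0) (hπB : aeval (A * B + B * A) π * B = 0) (m : M) :
    B (eV π hπA hπB m : M) = B m := by
  have hmm := mm_V hA hB π h0 hπA hπB
  have h1 : BV A B ((A * B + B * A).codRestrict (VV A B) (th_mem_VV A B) m) =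
      thV A B ⟨B m, B_mem_VV A B m⟩ := by
    apply Subtype.ext
    change B ((A * B + B * A) m) = (A * B + B * A) (B m)
    rw [← Module.End.mul_apply, ← Module.End.mul_apply, mul_add, add_mul, ← mul_assoc B B, hB,
      zero_mul, add_zero, mul_assoc A, hB, mul_zero, zero_add, mul_assoc]
  have h2 : BV A B (eV π hπA hπB m) = ⟨B m, B_mem_VV A B m⟩ := by
    rw [eV, LinearMap.comp_apply, ← Module.End.mul_apply, ← hmm.tinv_b, Module.End.mul_apply, h1,
      ← Module.End.mul_apply, tinvV_mul_thV π h0]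
    rfl
  exact congrArg Subtype.val h2

/-- the canonical model -/
theorem subModel_V (hA : A * A = 0) (hB : B * B = 0) (π : k[X]) (h0 : π.coeff 0 ≠ 0)
    (hπA : aeval (A * B + B * A) π * A = 0) (hπB : aeval (A * B + B * A) π * B = 0) :
    SubModel A B (VV A B) (eV π hπA hπB) (tinvV π hπA hπB) (evV π hπA hπB)
      (AdjoinRoot.root π) where
  he := eV_apply_mem π h0 hπA hπB
  hAV := hAVV A B
  hBV := hBVV A B
  hAe := A_eV hA hB π h0 hπA hπB
  hBe := B_eV hA hB π h0 hπA hπB
  mm := mm_V hA hB π h0 hπA hπB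
  hζ := evV_root π hπA hπB

end model2

end Cfsg.Agent.Lib.Helper8.Qp
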