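import Mathlib
import Cfsg.Prelude.Def_RootSubgroups
import Cfsg.Agent.Lib.Helper8.Qp8
set_option autoImplicit false
open Matrix Polynomial
universe u v w
/-! **Final isomorphism**: if `π` is irreducible with `π(0) ≠ 0` and `π(θ) A = π(θ) B = 0`
(`θ = A B + B A`, `A² = B² = 0`, `A ≠ 0`), then `⟨1 + kA, 1 + kB⟩ ≃ SL₂(k[X]/(π))`. -/
namespace Cfsg.Agent.Lib.Helper8.Qp

open Cfsg.Agent.Lib.Helper1.SL2Three Cfsg.Agent.Lib.Helper8.Slk Cfsg.Agent.Lib.Helper1.Dickson

theorem exists_sq_of_card {k : Type u} [Field k] (hk2 : ringChar k ≠ 2) (hk3 : Nat.card k ≠ 3) :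
    (2 : k) ≠ 0 ∧ ∃ l : k, l ≠ 0 ∧ l ^ 2 ≠ 1 := by
  have h2 : (2 : k) ≠ 0 := Ring.two_ne_zero hk2
  refine ⟨h2, ?_⟩
  by_contra hcon
  push Not at hcon
  apply hk3
  rw [← Set.ncard_univ, Set.ncard_eq_three]
  refine ⟨0, 1, -1, zero_ne_one, ?_, ?_, ?_⟩
  · intro h
    have : (1 : k) = 0 := by linear_combination h
    exact one_ne_zero this
  · intro h
    apply h2
    linear_combination h
  · ext l
    simp only [Set.mem_univ, Set.mem_insert_iff, Set.mem_singleton_iff, true_iff]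
    by_cases hl : l = 0
    · exact Or.inl hl
    · right
      have h1 := hcon l hl
      have h3 : (l - 1) * (l + 1) = 0 := by linear_combination h1
      rcases mul_eq_zero.mp h3 with h | h
      · left
        linear_combination h
      · right
        linear_combination h

theorem root_ne_zero_of_coeff {k : Type u} [Field k] (π : k[X]) (hπ : Irreducible π)
    (h0 : π.coeff 0 ≠ 0) : AdjoinRoot.root π ≠ 0 := by
  intro h
  rw [AdjoinRoot.root, AdjoinRoot.mk_eq_zero] at h
  have h1 : Associated π X := hπ.associated_of_dvd Polynomial.irreducible_X h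
  obtain ⟨u, hu⟩ := h1
  apply h0
  have h2 : X ∣ π := by
    have : π = X * (↑u⁻¹ : k[X]) := by
      rw [← hu, mul_assoc, Units.mul_inv, mul_one]
    exact ⟨_, this⟩
  exact Polynomial.X_dvd_iff.mp h2

theorem ER_eq_top {k : Type u} [Field k] (hk2 : ringChar k ≠ 2) (hk3 : Nat.card k ≠ 3)
    (π : k[X]) [Fact (Irreducible π)] (h0 : π.coeff 0 ≠ 0) :
    ER k (AdjoinRoot.root π) = ⊤ := by
  obtain ⟨h2, hk⟩ := exists_sq_of_card hk2 hk3
  have hπ : Irreducible π := Fact.out
  have hα0 : AdjoinRoot.root π ≠ 0 := root_ne_zero_of_coeff π hπ h0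
  have hα : IsAlgebraic k (AdjoinRoot.root π) :=
    ⟨π, hπ.ne_zero, by rw [AdjoinRoot.aeval_eq, AdjoinRoot.mk_self]⟩
  have hex : ∃ g ∈ XX k (AdjoinRoot.root π), ∃ d : k, d ≠ 0 ∧
      ec g ^ 2 = algebraMap k (AdjoinRoot π) d := by
    cases finite_or_infinite k with
    | inl h => exact exists_of_finite h2 _ hα hα0
    | inr h => exact exists_of_infinite _ hα hα0
  have hmain := main_of_exists h2 hk _ hα hα0 hex
  have hadj : IntermediateField.adjoin k ({AdjoinRoot.root π} : Set (AdjoinRoot π)) = ⊤ :=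
    IntermediateField.adjoin_eq_top_of_algebra k _ (AdjoinRoot.adjoinRoot_eq_top)
  rw [eq_top_iff]
  intro g _
  have : g ∈ (XX k (AdjoinRoot.root π) : Set _) := by
    rw [hmain, hadj]
    intro i j
    exact IntermediateField.mem_top
  exact this

theorem sl2_of_irreducible {k : Type u} [Field k] (hk2 : ringChar k ≠ 2)
    (hk3 : Nat.card k ≠ 3) {M : Type w} [AddCommGroup M] [Module k M]
    (σ τ : LinearMap.GeneralLinearGroup k M)
    (A B : Module.End k M) (hσ : (σ : M →ₗ[k] M) - 1 = A) (hτ : (τ : M →ₗ[k] M) - 1 = B)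
    (hA : A * A = 0) (hB : B * B = 0) (hne : A ≠ 0)
    (π : k[X]) (hπ : Irreducible π) (h0 : π.coeff 0 ≠ 0)
    (hπA : aeval (A * B + B * A) π * A = 0) (hπB : aeval (A * B + B * A) π * B = 0) :
    ∃ (K : Type u) (_ : Field K) (_ : Algebra k K) (lam : K), IsAlgebraic k lam ∧
      IntermediateField.adjoin k ({lam} : Set K) = ⊤ ∧
      Nonempty (↥(Subgroup.closure (Cfsg.scalarFamily σ ∪ Cfsg.scalarFamily τ)) ≃*
        Matrix.SpecialLinearGroup (Fin 2) K) := by
  haveI : Fact (Irreducible π) := ⟨hπ⟩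
  refine ⟨AdjoinRoot π, inferInstance, inferInstance, AdjoinRoot.root π,
    ⟨π, hπ.ne_zero, by rw [AdjoinRoot.aeval_eq, AdjoinRoot.mk_self]⟩,
    IntermediateField.adjoin_eq_top_of_algebra k _ (AdjoinRoot.adjoinRoot_eq_top), ?_⟩
  have h := subModel_V hA hB π h0 hπA hπB
  have hmap := h.Psi_map_ER σ τ hσ hτ
  rw [ER_eq_top hk2 hk3 π h0, ← MonoidHom.range_eq_map] at hmap
  -- nontriviality of `End V`
  haveI : Nontrivial (VV A B) := by
    have : ∃ m, A m ≠ 0 := by
      by_contra hcon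
      push Not at hcon
      exact hne (LinearMap.ext hcon)
    obtain ⟨m, hm⟩ := this
    refine ⟨⟨⟨A m, A_mem_VV A B m⟩, 0, ?_⟩⟩
    intro h1
    exact hm (congrArg Subtype.val h1)
  have hinj : Function.Injective h.Psi := by
    apply h.Psi_injective
    exact RingHom.injective (phi h.mm).toRingHom
  rw [← hmap]
  exact ⟨(MonoidHom.ofInjective hinj).symm⟩

end Cfsg.Agent.Lib.Helper8.Qp
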