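import Mathlib
import Cfsg.Prelude.Def_RootSubgroups
import Cfsg.Agent.Lib.Helper8.Qp9
set_option autoImplicit false
open Matrix Polynomial
universe u v w
/-! From a conjugate `A' = x A x⁻¹` with `(A A' + A' A) A = -δ A` to `rc g ^ 2 = δ` for a lift
`g` of `x`, and the polynomial elements `1 + p(θ) A`. -/
namespace Cfsg.Agent.Lib.Helper8.Qp

open Cfsg.Agent.Lib.Helper1.SL2Three

variable {k : Type u} [Field k]
variable {R : Type v} [CommRing R] [Algebra k R]

/-- the matrix identity `E₁₂ · g E₁₂ g⁻¹ + g E₁₂ g⁻¹ · E₁₂ = - c² · 1` -/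
theorem e12_conj_identity (g : Matrix.SpecialLinearGroup (Fin 2) R) :
    ((xmat R 1 : Matrix (Fin 2) (Fin 2) R) - 1) *
        ((g : Matrix (Fin 2) (Fin 2) R) * ((xmat R 1 : Matrix (Fin 2) (Fin 2) R) - 1) *
          ((g⁻¹ : Matrix.SpecialLinearGroup (Fin 2) R) : Matrix (Fin 2) (Fin 2) R)) +
      ((g : Matrix (Fin 2) (Fin 2) R) * ((xmat R 1 : Matrix (Fin 2) (Fin 2) R) - 1) *
          ((g⁻¹ : Matrix.SpecialLinearGroup (Fin 2) R) : Matrix (Fin 2) (Fin 2) R)) *
        ((xmat R 1 : Matrix (Fin 2) (Fin 2) R) - 1) =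
      (-(rc g ^ 2)) • (1 : Matrix (Fin 2) (Fin 2) R) := by
  rw [Matrix.SpecialLinearGroup.coe_inv, Matrix.adjugate_fin_two, coe_xmat]
  ext i j
  fin_cases i <;> fin_cases j <;>
    simp [Matrix.mul_apply, Fin.sum_univ_two, rc] <;> ring

section mm
variable {EE : Type w} [Ring EE] [Algebra k EE]
variable {a b tinv : EE} {ev : R →ₐ[k] EE}

theorem phi_smul_one (h : MM a b tinv ev) (r : R) :
    phi h (r • (1 : Matrix (Fin 2) (Fin 2) R)) = ev r := by
  rw [phi_apply]
  simp only [Matrix.smul_apply, Matrix.one_apply_eq, Matrix.one_apply_ne (zero_ne_one' (Fin 2)),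
    Matrix.one_apply_ne (zero_ne_one' (Fin 2)).symm, smul_eq_mul, mul_one, mul_zero, map_zero,
    zero_mul, add_zero]
  rw [← mul_add, h.e11_add_e22, mul_one]

theorem phi_e12 (h : MM a b tinv ev) :
    phi h ((xmat R 1 : Matrix (Fin 2) (Fin 2) R) - 1) = a := by
  rw [map_sub, phi_x, map_one, map_one, one_mul, add_sub_cancel_left]

/-- if `ev r * a = 0` then `ev r = 0` -/
theorem MM.ev_eq_zero_of_mul_a (h : MM a b tinv ev) (r : R) (hr : ev r * a = 0) : ev r = 0 := by
  have h1 : ev r * (a * b + b * a) = 0 := by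
    rw [mul_add, ← mul_assoc, hr, zero_mul, zero_add, ← mul_assoc, h.cb, mul_assoc, hr, mul_zero]
  calc ev r = ev r * ((a * b + b * a) * tinv) := by rw [h.t1, mul_one]
    _ = (ev r * (a * b + b * a)) * tinv := by rw [mul_assoc]
    _ = 0 := by rw [h1, zero_mul]

theorem MM.rc_sq (h : MM a b tinv ev) (hinj : Function.Injective ev)
    (g : Matrix.SpecialLinearGroup (Fin 2) R) (δ : k)
    (hδ : (a * (phi h (g : Matrix (Fin 2) (Fin 2) R) * a *
          phi h ((g⁻¹ : Matrix.SpecialLinearGroup (Fin 2) R) : Matrix (Fin 2) (Fin 2) R)) +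
        (phi h (g : Matrix (Fin 2) (Fin 2) R) * a *
          phi h ((g⁻¹ : Matrix.SpecialLinearGroup (Fin 2) R) : Matrix (Fin 2) (Fin 2) R)) * a) * a =
      -(δ • a)) :
    rc g ^ 2 = algebraMap k R δ := by
  have h1 := congrArg (phi h) (e12_conj_identity g)
  simp only [map_add, map_mul, phi_e12, phi_smul_one, map_neg] at h1
  rw [h1] at hδ
  have h2 : ev (rc g ^ 2 - algebraMap k R δ) * a = 0 := by
    rw [map_sub, sub_mul, AlgHom.commutes, Algebra.algebraMap_eq_smul_one, smul_mul_assoc, one_mul]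
    rw [neg_mul] at hδ
    rw [neg_inj.mp hδ, sub_self]
  have h3 := h.ev_eq_zero_of_mul_a _ h2
  have h4 := hinj (h3.trans (map_zero ev).symm)
  exact sub_eq_zero.mp h4

end mm

section sub
variable {M : Type w} [AddCommGroup M] [Module k M]
variable {A B : Module.End k M} {V : Submodule k M} {e : M →ₗ[k] V}
  {tinv : Module.End k V} {ev : R →ₐ[k] Module.End k V} {ζ : R}

theorem SubModel.rc_sq (h : SubModel A B V e tinv ev ζ) (hinj : Function.Injective ev)
    (g : Matrix.SpecialLinearGroup (Fin 2) R) (δ : k)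
    (hδ : (A * (((h.Psi g : (Module.End k M)ˣ) : Module.End k M) * A *
          (((h.Psi g)⁻¹ : (Module.End k M)ˣ) : Module.End k M)) +
        (((h.Psi g : (Module.End k M)ˣ) : Module.End k M) * A *
          (((h.Psi g)⁻¹ : (Module.End k M)ˣ) : Module.End k M)) * A) * A = -(δ • A)) :
    rc g ^ 2 = algebraMap k R δ := by
  apply h.mm.rc_sq hinj g δ
  apply LinearMap.ext
  intro v
  apply Subtype.ext
  have h0 := congrArg (fun f : Module.End k M => f (v : M)) hδ
  have hP : ∀ (g' : Matrix.SpecialLinearGroup (Fin 2) R) (w : V),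
      ((h.Psi g' : (Module.End k M)ˣ) : Module.End k M) (w : M) =
        ((phi h.mm (g' : Matrix (Fin 2) (Fin 2) R) w : V) : M) := h.Psi_apply_mem
  have hA' : ∀ w : V, A (w : M) = ((A.restrict h.hAV w : V) : M) := fun w => rfl
  rw [← map_inv] at h0
  simp only [Module.End.mul_apply, LinearMap.add_apply, LinearMap.neg_apply,
    LinearMap.smul_apply, hA', hP] at h0
  simp only [Module.End.mul_apply, LinearMap.add_apply, LinearMap.neg_apply,
    LinearMap.smul_apply, Submodule.coe_add, Submodule.coe_neg, Submodule.coe_smul]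
  exact h0

end sub

end Cfsg.Agent.Lib.Helper8.Qp
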