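import Mathlib
import Cfsg.Prelude.Def_RootSubgroups
import Cfsg.Agent.Lib.Helper8.Qp10
set_option autoImplicit false
open Matrix Polynomial
universe u v w
/-! **Theorem IV**: from injectivity of `θ` on `V = A M + B M`, one conjugate `A' = x A x⁻¹` with
`(A A' + A' A) A = -δ A`, and minimality of `rank A`, to `X ≃ SL₂(K)`. -/
namespace Cfsg.Agent.Lib.Helper8.Qp

open Cfsg.Agent.Lib.Helper1.SL2Three

variable {k : Type u} [Field k]
variable {M : Type w} [AddCommGroup M] [Module k M]
variable {A B : Module.End k M}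

theorem th_mul_A (hA : A * A = 0) : (A * B + B * A) * A = A * (A * B + B * A) := by
  rw [add_mul, mul_add, mul_assoc B, hA, mul_zero, add_zero, ← mul_assoc A A, hA, zero_mul,
    zero_add, mul_assoc]

theorem th_mul_B (hB : B * B = 0) : (A * B + B * A) * B = B * (A * B + B * A) := by
  rw [add_mul, mul_add, mul_assoc A, hB, mul_zero, zero_add, ← mul_assoc B B, hB, zero_mul,
    add_zero, mul_assoc]

theorem thV_injective (hinj : ∀ v ∈ VV A B, (A * B + B * A) v = 0 → v = 0) :
    Function.Injective (thV A B) := by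
  rw [← LinearMap.ker_eq_bot, LinearMap.ker_eq_bot']
  intro v hv
  apply Subtype.ext
  apply hinj v v.2
  have := congrArg Subtype.val hv
  rwa [coe_thV_apply] at this

section fd
variable [FiniteDimensional k M]

/-- the minimal polynomial of `θ|V` -/
noncomputable def muV (A B : Module.End k M) : k[X] := minpoly k (thV A B)

theorem muV_coeff_zero (hinj : ∀ v ∈ VV A B, (A * B + B * A) v = 0 → v = 0) :
    (muV A B).coeff 0 ≠ 0 :=
  LinearMap.minpoly_coeff_zero_of_injective (thV_injective hinj)

theorem aeval_thV_muV : aeval (thV A B) (muV A B) = 0 := minpoly.aeval k (thV A B)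

theorem aeval_coe_V (p : k[X]) (v : VV A B) :
    ((aeval (thV A B) p v : VV A B) : M) = aeval (A * B + B * A) p (v : M) := by
  rw [thV_eq_restrict, aeval_restrict_apply]

theorem muV_mul_A : aeval (A * B + B * A) (muV A B) * A = 0 := by
  apply LinearMap.ext
  intro m
  have := aeval_coe_V (A := A) (B := B) (muV A B) ⟨A m, A_mem_VV A B m⟩
  rw [aeval_thV_muV] at this
  rw [Module.End.mul_apply]
  exact this.symm

theorem muV_mul_B : aeval (A * B + B * A) (muV A B) * B = 0 := by
  apply LinearMap.ext
  intro m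
  have := aeval_coe_V (A := A) (B := B) (muV A B) ⟨B m, B_mem_VV A B m⟩
  rw [aeval_thV_muV] at this
  rw [Module.End.mul_apply]
  exact this.symm

theorem evV_muV_injective :
    Function.Injective (evV (muV A B) (muV_mul_A (A := A) (B := B)) muV_mul_B) := by
  rw [injective_iff_map_eq_zero]
  intro r hr
  induction r using AdjoinRoot.induction_on with
  | ih p =>
    rw [evV_mk] at hr
    rw [AdjoinRoot.mk_eq_zero]
    exact minpoly.dvd k _ hr

theorem muV_dvd_of_A (hA : A * A = 0) (hB : B * B = 0)
    (hinj : ∀ v ∈ VV A B, (A * B + B * A) v = 0 → v = 0) (r : k[X])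
    (hr : aeval (A * B + B * A) r * A = 0) : muV A B ∣ r := by
  have hsm := subModel_V hA hB (muV A B) (muV_coeff_zero hinj) muV_mul_A muV_mul_B
  have hrA : ∀ m, aeval (A * B + B * A) r (A m) = 0 := by
    intro m
    rw [← Module.End.mul_apply, hr]
    rfl
  have hcomm : aeval (A * B + B * A) r * B = B * aeval (A * B + B * A) r :=
    aeval_mul_comm _ _ (th_mul_B hB) r
  have hrB : ∀ m, aeval (A * B + B * A) r (B m) = 0 := by
    intro m
    rw [← hsm.hBe m]
    obtain ⟨_, ⟨m3, rfl⟩, _, ⟨m4, rfl⟩, hv⟩ := Submodule.mem_sup.mp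
      (eV (muV A B) (muV_mul_A (A := A) (B := B)) muV_mul_B m).2
    rw [← hv, map_add, ← Module.End.mul_apply B B, hB, LinearMap.zero_apply, add_zero,
      ← Module.End.mul_apply, hcomm, Module.End.mul_apply, hrA, map_zero]
  apply minpoly.dvd k (thV A B)
  apply LinearMap.ext
  intro v
  apply Subtype.ext
  rw [aeval_coe_V]
  obtain ⟨_, ⟨m1, rfl⟩, _, ⟨m2, rfl⟩, hv⟩ := Submodule.mem_sup.mp v.2
  rw [← hv, map_add, hrA, hrB, add_zero]
  rfl

theorem nontrivial_VV (hne : A ≠ 0) : Nontrivial (VV A B) := by
  have : ∃ m, A m ≠ 0 := by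
    by_contra hcon
    push Not at hcon
    exact hne (LinearMap.ext hcon)
  obtain ⟨m, hm⟩ := this
  refine ⟨⟨⟨A m, A_mem_VV A B m⟩, 0, ?_⟩⟩
  intro h1
  exact hm (congrArg Subtype.val h1)

/-- injectivity of `p(θ)` on `A M` from the rank inequality -/
theorem injOn_of_rank_le (p : k[X])
    (hle : Module.finrank k (LinearMap.range A) ≤
      Module.finrank k (LinearMap.range (aeval (A * B + B * A) p * A)))
    (m : M) (hm : aeval (A * B + B * A) p (A m) = 0) : A m = 0 := by
  set f : LinearMap.range A →ₗ[k] M := (aeval (A * B + B * A) p).domRestrict (LinearMap.range A)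
    with hf
  have hrange : LinearMap.range f = LinearMap.range (aeval (A * B + B * A) p * A) := by
    ext y
    constructor
    · rintro ⟨⟨_, ⟨m', rfl⟩⟩, rfl⟩
      exact ⟨m', rfl⟩
    · rintro ⟨m', rfl⟩
      exact ⟨⟨A m', LinearMap.mem_range_self A m'⟩, rfl⟩
  have hrn := LinearMap.finrank_range_add_finrank_ker f
  rw [hrange] at hrn
  have hker : Module.finrank k (LinearMap.ker f) = 0 := by omega
  have hbot : LinearMap.ker f = ⊥ := Submodule.finrank_eq_zero.mp hker
  have hmem : (⟨A m, LinearMap.mem_range_self A m⟩ : LinearMap.range A) ∈ LinearMap.ker f := by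
    rw [LinearMap.mem_ker]
    exact hm
  rw [hbot, Submodule.mem_bot] at hmem
  exact congrArg Subtype.val hmem

theorem muV_irreducible (hA : A * A = 0) (hB : B * B = 0) (hne : A ≠ 0)
    (hinj : ∀ v ∈ VV A B, (A * B + B * A) v = 0 → v = 0)
    (hd : ∀ p : k[X], aeval (A * B + B * A) p * A = 0 ∨
      Module.finrank k (LinearMap.range A) ≤
        Module.finrank k (LinearMap.range (aeval (A * B + B * A) p * A))) :
    Irreducible (muV A B) := by
  haveI := nontrivial_VV (B := B) hne
  have hμ0 : muV A B ≠ 0 := minpoly.ne_zero (Algebra.IsIntegral.isIntegral (thV A B))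
  have hunit : ∀ p q : k[X], muV A B = p * q → muV A B ∣ p → IsUnit q := by
    intro p q hpq ⟨s, hs⟩
    have h1 : muV A B * (s * q) = muV A B * 1 := by
      rw [mul_one, ← mul_assoc, ← hs, ← hpq]
    have h2 := mul_left_cancel₀ hμ0 h1
    exact IsUnit.of_mul_eq_one s (by rw [mul_comm]; exact h2)
  rw [irreducible_iff]
  refine ⟨minpoly.not_isUnit k (thV A B), ?_⟩
  intro p q hpq
  rcases hd p with h0 | hle
  · right
    exact hunit p q hpq (muV_dvd_of_A hA hB hinj p h0)
  · left
    have hq : aeval (A * B + B * A) q * A = 0 := by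
      apply LinearMap.ext
      intro m
      rw [Module.End.mul_apply, LinearMap.zero_apply]
      have hcomm : aeval (A * B + B * A) q * A = A * aeval (A * B + B * A) q :=
        aeval_mul_comm _ _ (th_mul_A hA) q
      have h1 : aeval (A * B + B * A) q (A m) = A (aeval (A * B + B * A) q m) := by
        rw [← Module.End.mul_apply, hcomm]
        rfl
      rw [h1]
      apply injOn_of_rank_le (B := B) p hle
      rw [← h1, ← Module.End.mul_apply, ← Module.End.mul_apply, ← map_mul, ← hpq,
        muV_mul_A]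
      rfl
    exact hunit q p (by rw [mul_comm]; exact hpq) (muV_dvd_of_A hA hB hinj q hq)

end fd

end Cfsg.Agent.Lib.Helper8.Qp
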