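import Mathlib
import Cfsg.Prelude.Def_RootSubgroups
import Cfsg.Agent.Lib.Helper8.Qp11
set_option autoImplicit false
open Matrix Polynomial
universe u v w
/-! **Theorem IV** assembled. -/
namespace Cfsg.Agent.Lib.Helper8.Qp

open Cfsg.Agent.Lib.Helper1.SL2Three

variable {k : Type u} [Field k]
variable {M : Type w} [AddCommGroup M] [Module k M]
variable {A B : Module.End k M}

/-- the value of `Psi (x(p(ζ)))` in the canonical model -/
theorem Psi_x_aeval (hA : A * A = 0) (hB : B * B = 0) (π : k[X]) (h0 : π.coeff 0 ≠ 0)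
    (hπA : aeval (A * B + B * A) π * A = 0) (hπB : aeval (A * B + B * A) π * B = 0) (p : k[X]) :
    (((subModel_V hA hB π h0 hπA hπB).Psi (xmat (AdjoinRoot π) (aeval (AdjoinRoot.root π) p)) :
      (Module.End k M)ˣ) : Module.End k M) = 1 + aeval (A * B + B * A) p * A := by
  apply LinearMap.ext
  intro m
  rw [SubModel.Psi_x_apply, AdjoinRoot.aeval_eq, evV_mk, thV_eq_restrict, aeval_restrict_apply]
  have h1 : ((A.restrict (subModel_V hA hB π h0 hπA hπB).hAV (eV π hπA hπB m) : VV A B) : M) =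
      A m := (subModel_V hA hB π h0 hπA hπB).hAe m
  rw [h1]
  rfl

theorem sl2_of_minimal (hk2 : ringChar k ≠ 2) (hk3 : Nat.card k ≠ 3) [FiniteDimensional k M]
    (σ τ : LinearMap.GeneralLinearGroup k M)
    (A B : Module.End k M) (hσ : (σ : M →ₗ[k] M) - 1 = A) (hτ : (τ : M →ₗ[k] M) - 1 = B)
    (hA : A * A = 0) (hB : B * B = 0) (hne : A ≠ 0)
    (hinj : ∀ v ∈ VV A B, (A * B + B * A) v = 0 → v = 0)
    (hx : ∃ x ∈ Subgroup.closure (Cfsg.scalarFamily σ ∪ Cfsg.scalarFamily τ), ∃ δ : k, δ ≠ 0 ∧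
      (A * (((x : LinearMap.GeneralLinearGroup k M) : Module.End k M) * A *
          ((x⁻¹ : LinearMap.GeneralLinearGroup k M) : Module.End k M)) +
        (((x : LinearMap.GeneralLinearGroup k M) : Module.End k M) * A *
          ((x⁻¹ : LinearMap.GeneralLinearGroup k M) : Module.End k M)) * A) * A = -(δ • A))
    (hmin : ∀ N : Module.End k M, N * N = 0 →
      (∀ c : k, ∃ u ∈ Subgroup.closure (Cfsg.scalarFamily σ ∪ Cfsg.scalarFamily τ),
        ((u : LinearMap.GeneralLinearGroup k M) : Module.End k M) = 1 + c • N) →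
      N = 0 ∨ Module.finrank k (LinearMap.range A) ≤ Module.finrank k (LinearMap.range N)) :
    ∃ (K : Type u) (_ : Field K) (_ : Algebra k K) (lam : K), IsAlgebraic k lam ∧
      IntermediateField.adjoin k ({lam} : Set K) = ⊤ ∧
      Nonempty (↥(Subgroup.closure (Cfsg.scalarFamily σ ∪ Cfsg.scalarFamily τ)) ≃*
        Matrix.SpecialLinearGroup (Fin 2) K) := by
  have h0 : (muV A B).coeff 0 ≠ 0 := muV_coeff_zero hinj
  have hsm := subModel_V hA hB (muV A B) h0 muV_mul_A muV_mul_B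
  have hmap := hsm.Psi_map_ER σ τ hσ hτ
  obtain ⟨x, hxX, δ, hδ0, hδ⟩ := hx
  rw [← hmap] at hxX
  obtain ⟨g, hgE, rfl⟩ := Subgroup.mem_map.mp hxX
  have hrc := hsm.rc_sq evV_muV_injective g δ hδ
  obtain ⟨h2, hk⟩ := exists_sq_of_card hk2 hk3
  have hpoly : ∀ p : k[X], hsm.Psi (xmat _ (aeval (AdjoinRoot.root (muV A B)) p)) ∈
      Subgroup.closure (Cfsg.scalarFamily σ ∪ Cfsg.scalarFamily τ) := by
    intro p
    rw [← hmap]
    exact Subgroup.mem_map_of_mem _
      (polyR h2 hk _ (rootInv (muV A B)) (root_mul_rootInv _ h0) g hgE δ hδ0 hrc p).1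
  have hd : ∀ p : k[X], aeval (A * B + B * A) p * A = 0 ∨
      Module.finrank k (LinearMap.range A) ≤
        Module.finrank k (LinearMap.range (aeval (A * B + B * A) p * A)) := by
    intro p
    apply hmin
    · have hcomm : aeval (A * B + B * A) p * A = A * aeval (A * B + B * A) p :=
        aeval_mul_comm _ _ (th_mul_A hA) p
      rw [mul_assoc, ← mul_assoc A, ← hcomm, mul_assoc, hA, mul_zero, mul_zero]
    · intro c
      refine ⟨_, hpoly (C c * p), ?_⟩
      rw [Psi_x_aeval hA hB (muV A B) h0 muV_mul_A muV_mul_B, map_mul, aeval_C,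
        Algebra.algebraMap_eq_smul_one, smul_mul_assoc, one_mul, smul_mul_assoc]
  have hirr := muV_irreducible hA hB hne hinj hd
  exact sl2_of_irreducible hk2 hk3 σ τ A B hσ hτ hA hB hne (muV A B) hirr h0 muV_mul_A muV_mul_B

end Cfsg.Agent.Lib.Helper8.Qp
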