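import Mathlib
import Cfsg.Prelude.Def_RootSubgroups
import Cfsg.Agent.Lib.Helper8.Qp12
set_option autoImplicit false
open Matrix Polynomial
universe u v w
/-! Matrix models on an arbitrary invariant submodule (no retraction), lifting of elements of
`E` to `X`, and the (α)-core: a conjugate `A' = x A x⁻¹` with `θ(A, A') = -δ` on `ker π(θ)`. -/
namespace Cfsg.Agent.Lib.Helper8.Qp

open Cfsg.Agent.Lib.Helper1.SL2Three

variable {k : Type u} [Field k]
variable {M : Type w} [AddCommGroup M] [Module k M]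
variable {R : Type v} [CommRing R] [Algebra k R]

/-- a matrix model for `A, B ∈ End M` on the invariant submodule `V` -/
structure InvModel (A B : Module.End k M) (V : Submodule k M)
    (tinv : Module.End k V) (ev : R →ₐ[k] Module.End k V) (ζ : R) : Prop where
  hAV : ∀ v ∈ V, A v ∈ V
  hBV : ∀ v ∈ V, B v ∈ V
  mm : MM (A.restrict hAV) (B.restrict hBV) tinv ev
  hζ : ev ζ = (A.restrict hAV) * (B.restrict hBV) + (B.restrict hBV) * (A.restrict hAV)

/-- the unit `1 + c A` for `A² = 0` -/
def unitOf (A : Module.End k M) (hA : A * A = 0) (c : k) : (Module.End k M)ˣ where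
  val := 1 + c • A
  inv := 1 - c • A
  val_inv := by
    rw [add_mul, mul_sub, mul_sub, mul_one, one_mul, smul_mul_smul_comm, hA, smul_zero, sub_zero,
      mul_one]
    abel
  inv_val := by
    rw [sub_mul, mul_add, mul_add, mul_one, one_mul, smul_mul_smul_comm, hA, smul_zero, add_zero,
      mul_one]
    abel

namespace InvModel

variable {A B : Module.End k M} {V : Submodule k M}
  {tinv : Module.End k V} {ev : R →ₐ[k] Module.End k V} {ζ : R}

/-- every element of `E` lifts to an element of `X` acting on `V` through the model -/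
theorem exists_lift (h : InvModel A B V tinv ev ζ)
    (σ τ : LinearMap.GeneralLinearGroup k M) (hσ : (σ : M →ₗ[k] M) - 1 = A)
    (hτ : (τ : M →ₗ[k] M) - 1 = B) (hA : A * A = 0) (hB : B * B = 0)
    {g : Matrix.SpecialLinearGroup (Fin 2) R} (hg : g ∈ ER k ζ) :
    ∃ x ∈ Subgroup.closure (Cfsg.scalarFamily σ ∪ Cfsg.scalarFamily τ),
      ∀ v : V, ((x : LinearMap.GeneralLinearGroup k M) : Module.End k M) (v : M) =
        ((phi h.mm (g : Matrix (Fin 2) (Fin 2) R) v : V) : M) := by
  unfold ER at hg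
  induction hg using Subgroup.closure_induction with
  | mem y hy =>
    rcases hy with ⟨c, rfl⟩ | ⟨c, rfl⟩
    · refine ⟨unitOf A hA c, Subgroup.subset_closure (Or.inl ⟨c, ?_⟩), ?_⟩
      · rw [hσ]
        rfl
      · intro v
        rw [phi_x_k]
        rfl
    · refine ⟨unitOf B hB c, Subgroup.subset_closure (Or.inr ⟨c, ?_⟩), ?_⟩
      · rw [hτ]
        rfl
      · intro v
        rw [phi_y_k h.mm ζ h.hζ]
        rfl
  | one =>
    refine ⟨1, Subgroup.one_mem _, ?_⟩
    intro v
    simp
  | mul y z _ _ hy hz =>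
    obtain ⟨x1, hx1, h1⟩ := hy
    obtain ⟨x2, hx2, h2⟩ := hz
    refine ⟨x1 * x2, Subgroup.mul_mem _ hx1 hx2, ?_⟩
    intro v
    rw [Units.val_mul, Module.End.mul_apply, h2, h1, Matrix.SpecialLinearGroup.coe_mul, map_mul,
      Module.End.mul_apply]
  | inv y _ hy =>
    obtain ⟨x1, hx1, h1⟩ := hy
    refine ⟨x1⁻¹, Subgroup.inv_mem _ hx1, ?_⟩
    intro v
    have h2 := h1 (phi h.mm ((y⁻¹ : Matrix.SpecialLinearGroup (Fin 2) R) :
      Matrix (Fin 2) (Fin 2) R) v)
    have h3 : phi h.mm (y : Matrix (Fin 2) (Fin 2) R)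
        (phi h.mm ((y⁻¹ : Matrix.SpecialLinearGroup (Fin 2) R) : Matrix (Fin 2) (Fin 2) R) v) =
        v := by
      rw [← Module.End.mul_apply, ← map_mul, ← Matrix.SpecialLinearGroup.coe_mul,
        mul_inv_cancel, Matrix.SpecialLinearGroup.coe_one, map_one]
      rfl
    rw [h3] at h2
    have h4 := congrArg (((x1⁻¹ : LinearMap.GeneralLinearGroup k M) : Module.End k M)) h2
    rw [← Module.End.mul_apply, Units.inv_mul, Module.End.one_apply] at h4
    exact h4.symm

/-- the conjugate `x A x⁻¹` acts on `V` through the model, hence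
`A (x A x⁻¹) + (x A x⁻¹) A = - ev (rc g ^ 2)` on `V` -/
theorem theta_conj_apply (h : InvModel A B V tinv ev ζ)
    (x : LinearMap.GeneralLinearGroup k M) (g : Matrix.SpecialLinearGroup (Fin 2) R)
    (hx : ∀ v : V, ((x : LinearMap.GeneralLinearGroup k M) : Module.End k M) (v : M) =
        ((phi h.mm (g : Matrix (Fin 2) (Fin 2) R) v : V) : M)) (v : V) :
    (A * (((x : LinearMap.GeneralLinearGroup k M) : Module.End k M) * A *
          ((x⁻¹ : LinearMap.GeneralLinearGroup k M) : Module.End k M)) +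
        (((x : LinearMap.GeneralLinearGroup k M) : Module.End k M) * A *
          ((x⁻¹ : LinearMap.GeneralLinearGroup k M) : Module.End k M)) * A) (v : M) =
      -((ev (rc g ^ 2) v : V) : M) := by
  have hxi : ∀ w : V, ((x⁻¹ : LinearMap.GeneralLinearGroup k M) : Module.End k M) (w : M) =
      ((phi h.mm ((g⁻¹ : Matrix.SpecialLinearGroup (Fin 2) R) : Matrix (Fin 2) (Fin 2) R) w : V) :
        M) := by
    intro w
    have h2 := hx (phi h.mm ((g⁻¹ : Matrix.SpecialLinearGroup (Fin 2) R) :
      Matrix (Fin 2) (Fin 2) R) w)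
    have h3 : phi h.mm (g : Matrix (Fin 2) (Fin 2) R)
        (phi h.mm ((g⁻¹ : Matrix.SpecialLinearGroup (Fin 2) R) : Matrix (Fin 2) (Fin 2) R) w) =
        w := by
      rw [← Module.End.mul_apply, ← map_mul, ← Matrix.SpecialLinearGroup.coe_mul,
        mul_inv_cancel, Matrix.SpecialLinearGroup.coe_one, map_one]
      rfl
    rw [h3] at h2
    have h4 := congrArg (((x⁻¹ : LinearMap.GeneralLinearGroup k M) : Module.End k M)) h2
    rw [← Module.End.mul_apply, Units.inv_mul, Module.End.one_apply] at h4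
    exact h4.symm
  have hA' : ∀ w : V, A (w : M) = ((A.restrict h.hAV w : V) : M) := fun w => rfl
  have h1 := congrArg (phi h.mm) (e12_conj_identity g)
  simp only [map_add, map_mul, phi_e12, phi_smul_one, map_neg] at h1
  have h5 := congrArg (fun f : Module.End k V => ((f v : V) : M)) h1
  simp only [Module.End.mul_apply, LinearMap.add_apply, LinearMap.neg_apply, Submodule.coe_add,
    Submodule.coe_neg] at h5
  simp only [Module.End.mul_apply, LinearMap.add_apply, hA', hxi, hx]
  exact h5

end InvModel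

section general
variable {A B : Module.End k M}

theorem aeval_th_A_comm (hA : A * A = 0) (p : k[X]) :
    aeval (A * B + B * A) p * A = A * aeval (A * B + B * A) p :=
  aeval_mul_comm _ _ (th_mul_A hA) p

theorem aeval_th_B_comm (hB : B * B = 0) (p : k[X]) :
    aeval (A * B + B * A) p * B = B * aeval (A * B + B * A) p :=
  aeval_mul_comm _ _ (th_mul_B hB) p

/-- `S = ker π(θ)` -/
noncomputable def SS (A B : Module.End k M) (π : k[X]) : Submodule k M :=
  LinearMap.ker (aeval (A * B + B * A) π)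

theorem hASS (hA : A * A = 0) (π : k[X]) : ∀ v ∈ SS A B π, A v ∈ SS A B π := by
  intro v hv
  rw [SS, LinearMap.mem_ker] at hv ⊢
  rw [← Module.End.mul_apply, aeval_th_A_comm hA, Module.End.mul_apply, hv, map_zero]

theorem hBSS (hB : B * B = 0) (π : k[X]) : ∀ v ∈ SS A B π, B v ∈ SS A B π := by
  intro v hv
  rw [SS, LinearMap.mem_ker] at hv ⊢
  rw [← Module.End.mul_apply, aeval_th_B_comm hB, Module.End.mul_apply, hv, map_zero]

/-- `A` restricted to `S` -/
noncomputable def AS (hA : A * A = 0) (π : k[X]) : Module.End k (SS A B π) := A.restrict (hASS hA π)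
/-- `B` restricted to `S` -/
noncomputable def BS (hB : B * B = 0) (π : k[X]) : Module.End k (SS A B π) := B.restrict (hBSS hB π)
/-- `θ` restricted to `S` -/
noncomputable def thS (hA : A * A = 0) (hB : B * B = 0) (π : k[X]) : Module.End k (SS A B π) :=
  AS hA π * BS hB π + BS hB π * AS hA π

theorem thS_eq_restrict (hA : A * A = 0) (hB : B * B = 0) (π : k[X]) :
    thS hA hB π = (A * B + B * A).restrict (fun v hv => by
      rw [LinearMap.add_apply, Module.End.mul_apply, Module.End.mul_apply]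
      exact Submodule.add_mem _ (hASS hA π _ (hBSS hB π _ hv)) (hBSS hB π _ (hASS hA π _ hv))) := by
  apply LinearMap.ext
  intro v
  apply Subtype.ext
  rfl

theorem aeval_thS_eq_zero (hA : A * A = 0) (hB : B * B = 0) (π : k[X]) :
    aeval (thS hA hB π) π = 0 := by
  apply LinearMap.ext
  intro v
  apply Subtype.ext
  rw [thS_eq_restrict, aeval_restrict_apply]
  exact v.2

theorem AS_mul_AS (hA : A * A = 0) (π : k[X]) : AS (B := B) hA π * AS hA π = 0 := by
  apply LinearMap.ext
  intro v
  apply Subtype.ext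
  change A (A (v : M)) = 0
  rw [← Module.End.mul_apply, hA]
  rfl

theorem BS_mul_BS (hB : B * B = 0) (π : k[X]) : BS (A := A) hB π * BS hB π = 0 := by
  apply LinearMap.ext
  intro v
  apply Subtype.ext
  change B (B (v : M)) = 0
  rw [← Module.End.mul_apply, hB]
  rfl

theorem thS_mul_AS (hA : A * A = 0) (hB : B * B = 0) (π : k[X]) :
    thS hA hB π * AS hA π = AS hA π * thS hA hB π := by
  have h := AS_mul_AS (B := B) hA π
  rw [thS, add_mul, mul_add, mul_assoc (BS hB π), h, mul_zero, add_zero, ← mul_assoc (AS hA π)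
    (AS hA π), h, zero_mul, zero_add, mul_assoc]

theorem thS_mul_BS (hA : A * A = 0) (hB : B * B = 0) (π : k[X]) :
    thS hA hB π * BS hB π = BS hB π * thS hA hB π := by
  have h := BS_mul_BS (A := A) hB π
  rw [thS, add_mul, mul_add, mul_assoc (AS hA π), h, mul_zero, zero_add, ← mul_assoc (BS hB π)
    (BS hB π), h, zero_mul, add_zero, mul_assoc]

/-- evaluation `k[X]/(π) → End S` -/
noncomputable def evS (hA : A * A = 0) (hB : B * B = 0) (π : k[X]) :
    AdjoinRoot π →ₐ[k] Module.End k (SS A B π) :=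
  evHom π (thS hA hB π) (aeval_thS_eq_zero hA hB π)

/-- the canonical model on `S = ker π(θ)` -/
theorem invModel_S (hA : A * A = 0) (hB : B * B = 0) (π : k[X]) (h0 : π.coeff 0 ≠ 0) :
    InvModel A B (SS A B π) (evS hA hB π (rootInv π)) (evS hA hB π) (AdjoinRoot.root π) where
  hAV := hASS hA π
  hBV := hBSS hB π
  mm :=
    { aa := AS_mul_AS hA π
      bb := BS_mul_BS hB π
      t1 := by
        change thS hA hB π * _ = 1
        rw [← evHom_root π (thS hA hB π) (aeval_thS_eq_zero hA hB π)]
        change evS hA hB π _ * _ = 1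
        rw [← map_mul, root_mul_rootInv π h0, map_one]
      t2 := by
        change _ * thS hA hB π = 1
        rw [← evHom_root π (thS hA hB π) (aeval_thS_eq_zero hA hB π)]
        change _ * evS hA hB π _ = 1
        rw [← map_mul, mul_comm, root_mul_rootInv π h0, map_one]
      ca := fun r => evHom_mul_comm π (thS hA hB π) _ (AS hA π) (thS_mul_AS hA hB π) r
      cb := fun r => evHom_mul_comm π (thS hA hB π) _ (BS hB π) (thS_mul_BS hA hB π) r }
  hζ := evHom_root _ _ _

end general

open Cfsg.Agent.Lib.Helper8.Slk Cfsg.Agent.Lib.Helper1.Dickson in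
/-- **(α)-core**: for an irreducible `π` with `π(0) ≠ 0` there are `x ∈ X` and `δ ∈ k^×` such
that `A (x A x⁻¹) + (x A x⁻¹) A = -δ` on `ker π(θ)`. -/
theorem exists_conj_of_factor (hk2 : ringChar k ≠ 2)
    (σ τ : LinearMap.GeneralLinearGroup k M)
    (A B : Module.End k M) (hσ : (σ : M →ₗ[k] M) - 1 = A) (hτ : (τ : M →ₗ[k] M) - 1 = B)
    (hA : A * A = 0) (hB : B * B = 0)
    (π : k[X]) (hπ : Irreducible π) (h0 : π.coeff 0 ≠ 0) :
    ∃ x ∈ Subgroup.closure (Cfsg.scalarFamily σ ∪ Cfsg.scalarFamily τ), ∃ δ : k, δ ≠ 0 ∧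
      ∀ v ∈ LinearMap.ker (aeval (A * B + B * A) π),
        (A * (((x : LinearMap.GeneralLinearGroup k M) : Module.End k M) * A *
            ((x⁻¹ : LinearMap.GeneralLinearGroup k M) : Module.End k M)) +
          (((x : LinearMap.GeneralLinearGroup k M) : Module.End k M) * A *
            ((x⁻¹ : LinearMap.GeneralLinearGroup k M) : Module.End k M)) * A) v = -(δ • v) := by
  haveI : Fact (Irreducible π) := ⟨hπ⟩
  have h2 : (2 : k) ≠ 0 := Ring.two_ne_zero hk2
  have hα0 : AdjoinRoot.root π ≠ 0 := root_ne_zero_of_coeff π hπ h0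
  have hα : IsAlgebraic k (AdjoinRoot.root π) :=
    ⟨π, hπ.ne_zero, by rw [AdjoinRoot.aeval_eq, AdjoinRoot.mk_self]⟩
  have hex : ∃ g ∈ XX k (AdjoinRoot.root π), ∃ d : k, d ≠ 0 ∧
      ec g ^ 2 = algebraMap k (AdjoinRoot π) d := by
    cases finite_or_infinite k with
    | inl h => exact exists_of_finite h2 _ hα hα0
    | inr h => exact exists_of_infinite _ hα hα0
  obtain ⟨g, hg, d, hd, hgd⟩ := hex
  have h := invModel_S hA hB π h0
  obtain ⟨x, hxX, hx⟩ := h.exists_lift σ τ hσ hτ hA hB (show g ∈ ER k _ from hg)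
  refine ⟨x, hxX, d, hd, ?_⟩
  intro v hv
  have h1 := h.theta_conj_apply x g hx ⟨v, hv⟩
  have h3 : rc g ^ 2 = algebraMap k (AdjoinRoot π) d := hgd
  rw [h3, AlgHom.commutes] at h1
  rw [h1]
  rfl

end Cfsg.Agent.Lib.Helper8.Qp
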