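import Mathlib
import Cfsg.Prelude.Def_RootSubgroups
import Cfsg.Agent.Lib.Helper8.Qp13
set_option autoImplicit false
open Matrix Polynomial
universe u v w
/-! The flag `F_{j+1} = A F_j + B F_j` and unipotency. -/
namespace Cfsg.Agent.Lib.Helper8.Qp

variable {k : Type u} [Field k]
variable {M : Type w} [AddCommGroup M] [Module k M]

/-- the flag starting at `W` -/
def Fl (A B : Module.End k M) (W : Submodule k M) : ℕ → Submodule k M
  | 0 => W
  | (j + 1) => (Fl A B W j).map A ⊔ (Fl A B W j).map B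

variable {A B : Module.End k M} {W : Submodule k M}

theorem Fl_zero : Fl A B W 0 = W := rfl

theorem Fl_succ (j : ℕ) : Fl A B W (j + 1) = (Fl A B W j).map A ⊔ (Fl A B W j).map B := rfl

theorem A_mem_Fl {j : ℕ} {v : M} (hv : v ∈ Fl A B W j) : A v ∈ Fl A B W (j + 1) :=
  Submodule.mem_sup_left (Submodule.mem_map_of_mem hv)

theorem B_mem_Fl {j : ℕ} {v : M} (hv : v ∈ Fl A B W j) : B v ∈ Fl A B W (j + 1) :=
  Submodule.mem_sup_right (Submodule.mem_map_of_mem hv)

theorem Fl_succ_le (hAW : ∀ v ∈ W, A v ∈ W) (hBW : ∀ v ∈ W, B v ∈ W) (j : ℕ) :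
    Fl A B W (j + 1) ≤ Fl A B W j := by
  induction j with
  | zero =>
    rw [Fl_succ, Fl_zero]
    apply sup_le
    · rintro _ ⟨v, hv, rfl⟩
      exact hAW v hv
    · rintro _ ⟨v, hv, rfl⟩
      exact hBW v hv
  | succ j ih =>
    rw [Fl_succ (j + 1), Fl_succ j]
    exact sup_le_sup (Submodule.map_mono ih) (Submodule.map_mono ih)

theorem Fl_antitone (hAW : ∀ v ∈ W, A v ∈ W) (hBW : ∀ v ∈ W, B v ∈ W) {i j : ℕ} (hij : i ≤ j) :
    Fl A B W j ≤ Fl A B W i := by
  induction hij with
  | refl => exact le_rfl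
  | step _ ih => exact (Fl_succ_le hAW hBW _).trans ih

/-- `F_{j+3} = θ F_{j+1}` -/
theorem Fl_add_three (hA : A * A = 0) (hB : B * B = 0) (j : ℕ) :
    Fl A B W (j + 3) = (Fl A B W (j + 1)).map (A * B + B * A) := by
  apply le_antisymm
  · rw [Fl_succ (j + 2)]
    apply sup_le
    · rintro _ ⟨v, hv, rfl⟩
      rw [Fl_succ (j + 1)] at hv
      obtain ⟨_, ⟨v1, hv1, rfl⟩, _, ⟨v2, hv2, rfl⟩, rfl⟩ := Submodule.mem_sup.mp hv
      rw [Fl_succ j] at hv2
      obtain ⟨_, ⟨a1, ha1, rfl⟩, _, ⟨b1, hb1, rfl⟩, rfl⟩ := Submodule.mem_sup.mp hv2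
      refine ⟨A a1, A_mem_Fl ha1, ?_⟩
      simp only [map_add, LinearMap.add_apply, Module.End.mul_apply]
      have e1 : A (A v1) = 0 := by
        rw [← Module.End.mul_apply A A, hA]; rfl
      have e2 : B (B b1) = 0 := by
        rw [← Module.End.mul_apply B B, hB]; rfl
      have e3 : A (A a1) = 0 := by
        rw [← Module.End.mul_apply A A, hA]; rfl
      rw [e1, e2, e3]
      simp
    · rintro _ ⟨v, hv, rfl⟩
      rw [Fl_succ (j + 1)] at hv
      obtain ⟨_, ⟨v1, hv1, rfl⟩, _, ⟨v2, hv2, rfl⟩, rfl⟩ := Submodule.mem_sup.mp hv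
      rw [Fl_succ j] at hv1
      obtain ⟨_, ⟨a2, ha2, rfl⟩, _, ⟨b2, hb2, rfl⟩, rfl⟩ := Submodule.mem_sup.mp hv1
      refine ⟨B b2, B_mem_Fl hb2, ?_⟩
      simp only [map_add, LinearMap.add_apply, Module.End.mul_apply]
      have e1 : B (B v2) = 0 := by
        rw [← Module.End.mul_apply B B, hB]; rfl
      have e2 : A (A a2) = 0 := by
        rw [← Module.End.mul_apply A A, hA]; rfl
      have e3 : B (B b2) = 0 := by
        rw [← Module.End.mul_apply B B, hB]; rfl
      rw [e1, e2, e3]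
      simp
  · rintro _ ⟨v, hv, rfl⟩
    rw [LinearMap.add_apply, Module.End.mul_apply, Module.End.mul_apply]
    exact Submodule.add_mem _ (A_mem_Fl (B_mem_Fl hv)) (B_mem_Fl (A_mem_Fl hv))

theorem Fl_odd (hA : A * A = 0) (hB : B * B = 0) (n : ℕ) :
    Fl A B W (1 + 2 * n) = (Fl A B W 1).map ((A * B + B * A) ^ n) := by
  induction n with
  | zero =>
    rw [mul_zero, add_zero, pow_zero]
    exact (Submodule.map_id _).symm
  | succ n ih =>
    rw [show 1 + 2 * (n + 1) = (2 * n) + 3 by ring, Fl_add_three hA hB,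
      show 2 * n + 1 = 1 + 2 * n by ring, ih, ← Submodule.map_comp, pow_succ']
    rfl

/-- the inverse of a unit `1 + c A` with `A² = 0` -/
theorem coe_inv_of_eq (hA : A * A = 0) (c : k) (u : (Module.End k M)ˣ)
    (hu : (u : Module.End k M) = 1 + c • A) :
    ((u⁻¹ : (Module.End k M)ˣ) : Module.End k M) = 1 - c • A := by
  have h1 : (u : Module.End k M) * (1 - c • A) = 1 := by
    rw [hu, add_mul, mul_sub, mul_sub, mul_one, one_mul, smul_mul_smul_comm, hA, smul_zero,
      sub_zero, mul_one]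
    abel
  calc ((u⁻¹ : (Module.End k M)ˣ) : Module.End k M)
      = ((u⁻¹ : (Module.End k M)ˣ) : Module.End k M) * ((u : Module.End k M) * (1 - c • A)) := by
        rw [h1, mul_one]
    _ = 1 - c • A := by rw [← mul_assoc, Units.inv_mul, one_mul]

/-- elements of `X` move the flag down -/
theorem sub_mem_Fl (hA : A * A = 0) (hB : B * B = 0)
    (hAW : ∀ v ∈ W, A v ∈ W) (hBW : ∀ v ∈ W, B v ∈ W)
    (σ τ : LinearMap.GeneralLinearGroup k M) (hσ : (σ : M →ₗ[k] M) - 1 = A)
    (hτ : (τ : M →ₗ[k] M) - 1 = B) {g : LinearMap.GeneralLinearGroup k M}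
    (hg : g ∈ Subgroup.closure (Cfsg.scalarFamily σ ∪ Cfsg.scalarFamily τ)) :
    (∀ (j : ℕ) (v : M), v ∈ Fl A B W j → (g : Module.End k M) v - v ∈ Fl A B W (j + 1)) ∧
    (∀ (j : ℕ) (v : M), v ∈ Fl A B W j →
      ((g⁻¹ : LinearMap.GeneralLinearGroup k M) : Module.End k M) v - v ∈ Fl A B W (j + 1)) := by
  have hmul : ∀ (g h : Module.End k M),
      (∀ (j : ℕ) (v : M), v ∈ Fl A B W j → g v - v ∈ Fl A B W (j + 1)) →
      (∀ (j : ℕ) (v : M), v ∈ Fl A B W j → h v - v ∈ Fl A B W (j + 1)) →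
      (∀ (j : ℕ) (v : M), v ∈ Fl A B W j → (g * h) v - v ∈ Fl A B W (j + 1)) := by
    intro g h hg hh j v hv
    have h1 := hh j v hv
    have h2 : h v ∈ Fl A B W j := by
      have := Submodule.add_mem _ (Fl_succ_le hAW hBW j h1) hv
      simpa using this
    have h3 := hg j (h v) h2
    have : (g * h) v - v = (g (h v) - h v) + (h v - v) := by
      rw [Module.End.mul_apply]; abel
    rw [this]
    exact Submodule.add_mem _ h3 h1
  induction hg using Subgroup.closure_induction with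
  | mem y hy =>
    rcases hy with ⟨c, hc⟩ | ⟨c, hc⟩
    · rw [hσ] at hc
      constructor
      · intro j v hv
        rw [hc]
        simp only [LinearMap.add_apply, Module.End.one_apply, LinearMap.smul_apply,
          add_sub_cancel_left]
        exact Submodule.smul_mem _ _ (A_mem_Fl hv)
      · intro j v hv
        rw [coe_inv_of_eq hA c y hc]
        simp only [LinearMap.sub_apply, Module.End.one_apply, LinearMap.smul_apply,
          sub_sub_cancel_left]
        exact Submodule.neg_mem _ (Submodule.smul_mem _ _ (A_mem_Fl hv))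
    · rw [hτ] at hc
      constructor
      · intro j v hv
        rw [hc]
        simp only [LinearMap.add_apply, Module.End.one_apply, LinearMap.smul_apply,
          add_sub_cancel_left]
        exact Submodule.smul_mem _ _ (B_mem_Fl hv)
      · intro j v hv
        rw [coe_inv_of_eq hB c y hc]
        simp only [LinearMap.sub_apply, Module.End.one_apply, LinearMap.smul_apply,
          sub_sub_cancel_left]
        exact Submodule.neg_mem _ (Submodule.smul_mem _ _ (B_mem_Fl hv))
  | one =>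
    constructor
    · intro j v _
      simp
    · intro j v _
      simp
  | mul y z _ _ hy hz =>
    constructor
    · rw [Units.val_mul]
      exact hmul _ _ hy.1 hz.1
    · rw [_root_.mul_inv_rev, Units.val_mul]
      exact hmul _ _ hz.2 hy.2
  | inv y _ hy =>
    constructor
    · exact hy.2
    · rw [inv_inv]
      exact hy.1

/-- elements of `X` preserve the flag -/
theorem apply_mem_Fl (hA : A * A = 0) (hB : B * B = 0)
    (hAW : ∀ v ∈ W, A v ∈ W) (hBW : ∀ v ∈ W, B v ∈ W)
    (σ τ : LinearMap.GeneralLinearGroup k M) (hσ : (σ : M →ₗ[k] M) - 1 = A)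
    (hτ : (τ : M →ₗ[k] M) - 1 = B) {g : LinearMap.GeneralLinearGroup k M}
    (hg : g ∈ Subgroup.closure (Cfsg.scalarFamily σ ∪ Cfsg.scalarFamily τ))
    (j : ℕ) (v : M) (hv : v ∈ Fl A B W j) : (g : Module.End k M) v ∈ Fl A B W j := by
  have h1 := (sub_mem_Fl hA hB hAW hBW σ τ hσ hτ hg).1 j v hv
  have := Submodule.add_mem _ (Fl_succ_le hAW hBW j h1) hv
  simpa using this

/-- if `θⁿ = 0` on `W` then `X` is unipotent on `W` in the sense of the flag -/
theorem prod_mem_Fl (hA : A * A = 0) (hB : B * B = 0)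
    (hAW : ∀ v ∈ W, A v ∈ W) (hBW : ∀ v ∈ W, B v ∈ W)
    (σ τ : LinearMap.GeneralLinearGroup k M) (hσ : (σ : M →ₗ[k] M) - 1 = A)
    (hτ : (τ : M →ₗ[k] M) - 1 = B) (l : List (LinearMap.GeneralLinearGroup k M))
    (hl : ∀ g ∈ l, g ∈ Subgroup.closure (Cfsg.scalarFamily σ ∪ Cfsg.scalarFamily τ))
    (j : ℕ) (v : M) (hv : v ∈ Fl A B W j) :
    (l.map fun g : LinearMap.GeneralLinearGroup k M => (g : Module.End k M) - 1).prod v ∈
      Fl A B W (j + l.length) := by
  induction l with
  | nil => simpa using hv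
  | cons g l ih =>
    rw [List.map_cons, List.prod_cons, Module.End.mul_apply, List.length_cons, ← add_assoc]
    have h1 := ih (fun g' hg' => hl g' (List.mem_cons_of_mem _ hg'))
    have h2 := (sub_mem_Fl hA hB hAW hBW σ τ hσ hτ (hl g List.mem_cons_self)).1 _ _ h1
    simpa using h2

/-- the list expression in `Cfsg.IsUnipotentOn`, in plain form -/
theorem list_coe_eq (l : List (LinearMap.GeneralLinearGroup k M)) :
    (List.map (fun (g : M →ₗ[k] M) => g - 1) do
        let a ← l
        pure ↑a) =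
      l.map fun g : LinearMap.GeneralLinearGroup k M => (g : Module.End k M) - 1 := by
  induction l with
  | nil => rfl
  | cons a l ih =>
    simp only [List.map_cons]
    rw [← ih]
    rfl

/-- `θ` nilpotent implies `X` unipotent -/
theorem isUnipotentOn_of_nilpotent (hA : A * A = 0) (hB : B * B = 0)
    (σ τ : LinearMap.GeneralLinearGroup k M) (hσ : (σ : M →ₗ[k] M) - 1 = A)
    (hτ : (τ : M →ₗ[k] M) - 1 = B) (n : ℕ) (hn : (A * B + B * A) ^ n = 0) :
    Cfsg.IsUnipotentOn (Subgroup.closure (Cfsg.scalarFamily σ ∪ Cfsg.scalarFamily τ)) := by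
  refine ⟨1 + 2 * n, ?_⟩
  intro l hl hlen
  apply LinearMap.ext
  intro v
  have h1 := prod_mem_Fl (W := ⊤) hA hB (fun _ _ => Submodule.mem_top)
    (fun _ _ => Submodule.mem_top) σ τ hσ hτ l hl 0 v Submodule.mem_top
  rw [zero_add, hlen, Fl_odd hA hB n, hn] at h1
  have h2 : Submodule.map (0 : Module.End k M) (Fl A B ⊤ 1) = ⊥ := Submodule.map_zero _
  rw [h2, Submodule.mem_bot] at h1
  rw [list_coe_eq, h1]
  rfl

end Cfsg.Agent.Lib.Helper8.Qp
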