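import Mathlib
import Cfsg.Prelude.Def_RootSubgroups
import Cfsg.Agent.Lib.Helper8.Qp14
set_option autoImplicit false
open Matrix Polynomial
universe u v w
/-! A non-nilpotent endomorphism has an irreducible factor `π ≠ X` of its minimal polynomial
with `ker π(f) ≠ 0`. -/
namespace Cfsg.Agent.Lib.Helper8.Qp

variable {k : Type u} [Field k]
variable {M : Type w} [AddCommGroup M] [Module k M]

theorem exists_factor_of_not_nilpotent [FiniteDimensional k M] (f : Module.End k M)
    (hf : ∀ n : ℕ, f ^ n ≠ 0) :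
    ∃ π : k[X], Irreducible π ∧ π.coeff 0 ≠ 0 ∧ LinearMap.ker (aeval f π) ≠ ⊥ := by
  have hint : IsIntegral k f := Algebra.IsIntegral.isIntegral f
  have hμ0 : minpoly k f ≠ 0 := minpoly.ne_zero hint
  obtain ⟨q, hq, hnd⟩ := Polynomial.exists_eq_pow_rootMultiplicity_mul_and_not_dvd
    (minpoly k f) hμ0 0
  rw [C_0, sub_zero] at hq hnd
  set m := (minpoly k f).rootMultiplicity 0 with hm
  have hq0 : q ≠ 0 := by
    rintro rfl
    rw [mul_zero] at hq
    exact hμ0 hq
  have hqu : ¬ IsUnit q := by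
    intro hu
    obtain ⟨c, hc, rfl⟩ := Polynomial.isUnit_iff.mp hu
    have h1 := minpoly.aeval k f
    rw [hq, map_mul, map_pow, aeval_X, aeval_C] at h1
    apply hf m
    have hc0 : c ≠ 0 := hc.ne_zero
    have h2 : f ^ m * algebraMap k (Module.End k M) c * algebraMap k (Module.End k M) c⁻¹ = 0 := by
      rw [h1, zero_mul]
    rwa [mul_assoc, ← map_mul, mul_inv_cancel₀ hc0, map_one, mul_one] at h2
  obtain ⟨π, hπ, hπq⟩ := WfDvdMonoid.exists_irreducible_factor hqu hq0
  refine ⟨π, hπ, ?_, ?_⟩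
  · intro h0
    apply hnd
    exact (Polynomial.X_dvd_iff.mpr h0).trans hπq
  · intro hker
    obtain ⟨s, hs⟩ := hπq
    have hμ : minpoly k f = π * (X ^ m * s) := by
      rw [hq, hs]; ring
    have h1 := minpoly.aeval k f
    rw [hμ, map_mul] at h1
    have hinj : Function.Injective (aeval f π) := LinearMap.ker_eq_bot.mp hker
    have h2 : aeval f (X ^ m * s) = 0 := by
      apply LinearMap.ext
      intro v
      apply hinj
      rw [← Module.End.mul_apply, h1]
      simp
    have h3 := minpoly.dvd k f h2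
    have hr0 : X ^ m * s ≠ 0 := by
      intro h
      rw [h, mul_zero] at hμ
      exact hμ0 hμ
    rw [hμ] at h3
    obtain ⟨t, ht⟩ := h3
    have h4 : (X ^ m * s) * 1 = (X ^ m * s) * (π * t) := by
      rw [mul_one]
      calc X ^ m * s = π * (X ^ m * s) * t := ht
        _ = (X ^ m * s) * (π * t) := by ring
    have h5 := mul_left_cancel₀ hr0 h4
    exact hπ.not_isUnit (IsUnit.of_mul_eq_one t h5.symm)

end Cfsg.Agent.Lib.Helper8.Qp
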