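import Mathlib
import Cfsg.Prelude.Def_RootSubgroups
import Cfsg.Agent.Lib.Helper8.Qp15
set_option autoImplicit false
open Matrix Polynomial
universe u v w
/-! Scalar families in `G`: closure under conjugation and scalars, and minimality of the rank. -/
namespace Cfsg.Agent.Lib.Helper8.Qp

variable {k : Type u} [Field k]
variable {M : Type w} [AddCommGroup M] [Module k M]

/-- the full scalar family of `N` lies in `G` -/
def Fam (G : Subgroup (LinearMap.GeneralLinearGroup k M)) (N : Module.End k M) : Prop :=
  ∀ c : k, ∃ u ∈ G, ((u : LinearMap.GeneralLinearGroup k M) : Module.End k M) = 1 + c • N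

variable {G : Subgroup (LinearMap.GeneralLinearGroup k M)}

theorem Fam.mono {H : Subgroup (LinearMap.GeneralLinearGroup k M)} (hHG : H ≤ G)
    {N : Module.End k M} (h : Fam H N) : Fam G N := by
  intro c
  obtain ⟨u, hu, huc⟩ := h c
  exact ⟨u, hHG hu, huc⟩

/-- quadratic elements give square-zero operators with full family -/
theorem quad_facts {σ : LinearMap.GeneralLinearGroup k M} (hσ : σ ∈ Cfsg.quadraticElements G) :
    ((σ : M →ₗ[k] M) - 1) * ((σ : M →ₗ[k] M) - 1) = 0 ∧ (σ : M →ₗ[k] M) - 1 ≠ 0 ∧
      Fam G ((σ : M →ₗ[k] M) - 1) := by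
  obtain ⟨_, ⟨h1, h2⟩, h3⟩ := hσ
  refine ⟨h1, h2, ?_⟩
  intro c
  exact ⟨unitOf _ h1 c, h3 ⟨c, rfl⟩, rfl⟩

theorem scalarFamily_subset {σ : LinearMap.GeneralLinearGroup k M}
    (hσ : σ ∈ Cfsg.quadraticElements G) :
    Cfsg.scalarFamily σ ⊆ (G : Set (LinearMap.GeneralLinearGroup k M)) := hσ.2.2

/-- minimality of the rank -/
theorem rank_le_of_family {σ : LinearMap.GeneralLinearGroup k M}
    (hσ : σ ∈ Cfsg.minimalQuadraticElements G) (N : Module.End k M) (hN : N * N = 0)
    (hN0 : N ≠ 0) (hF : Fam G N) :
    Cfsg.commutatorRank σ ≤ Module.finrank k (LinearMap.range N) := by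
  have h1 : ((unitOf N hN 1 : (Module.End k M)ˣ) : Module.End k M) - 1 = N := by
    change (1 + (1 : k) • N) - 1 = N
    rw [one_smul, add_sub_cancel_left]
  have hq : unitOf N hN 1 ∈ Cfsg.quadraticElements G := by
    refine ⟨?_, ⟨?_, ?_⟩, ?_⟩
    · obtain ⟨u, hu, huc⟩ := hF 1
      have : u = unitOf N hN 1 := Units.ext huc
      rw [← this]
      exact hu
    · rw [h1]; exact hN
    · rw [h1]; exact hN0
    · rintro τ' ⟨c, hc⟩
      rw [h1] at hc
      obtain ⟨u, hu, huc⟩ := hF c
      have : τ' = u := Units.ext (hc.trans huc.symm)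
      rw [this]
      exact hu
  have h2 := hσ.2 _ hq
  unfold Cfsg.commutatorRank at h2 ⊢
  rw [h1] at h2
  exact h2

/-- conjugates and scalar multiples -/
theorem Fam.conj {N : Module.End k M} (h : Fam G N) {x : LinearMap.GeneralLinearGroup k M}
    (hx : x ∈ G) (c : k) :
    Fam G (c • ((x : Module.End k M) * N *
      ((x⁻¹ : LinearMap.GeneralLinearGroup k M) : Module.End k M))) := by
  intro t
  obtain ⟨u, hu, huc⟩ := h (t * c)
  refine ⟨x * u * x⁻¹, G.mul_mem (G.mul_mem hx hu) (G.inv_mem hx), ?_⟩
  rw [Units.val_mul, Units.val_mul, huc, mul_add, add_mul, mul_one, Units.mul_inv, mul_smul_comm,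
    smul_mul_assoc, smul_smul]

theorem conj_sq_zero {N : Module.End k M} (hN : N * N = 0)
    (x : LinearMap.GeneralLinearGroup k M) (c : k) :
    (c • ((x : Module.End k M) * N *
        ((x⁻¹ : LinearMap.GeneralLinearGroup k M) : Module.End k M))) *
      (c • ((x : Module.End k M) * N *
        ((x⁻¹ : LinearMap.GeneralLinearGroup k M) : Module.End k M))) = 0 := by
  rw [smul_mul_smul_comm]
  have : (x : Module.End k M) * N * ((x⁻¹ : LinearMap.GeneralLinearGroup k M) : Module.End k M) *
      ((x : Module.End k M) * N * ((x⁻¹ : LinearMap.GeneralLinearGroup k M) : Module.End k M)) =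
      (x : Module.End k M) * (N * N) *
        ((x⁻¹ : LinearMap.GeneralLinearGroup k M) : Module.End k M) := by
    have h1 : ((x⁻¹ : LinearMap.GeneralLinearGroup k M) : Module.End k M) *
        (x : Module.End k M) = 1 := Units.inv_mul x
    calc _ = (x : Module.End k M) * N * (((x⁻¹ : LinearMap.GeneralLinearGroup k M) :
          Module.End k M) * (x : Module.End k M)) * N *
          ((x⁻¹ : LinearMap.GeneralLinearGroup k M) : Module.End k M) := by
          simp only [mul_assoc]
      _ = _ := by rw [h1, mul_one]; simp only [mul_assoc]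
  rw [this, hN, mul_zero, zero_mul, smul_zero]

theorem conj_rank [FiniteDimensional k M] (N : Module.End k M)
    (x : LinearMap.GeneralLinearGroup k M) {c : k} (hc : c ≠ 0) :
    Module.finrank k (LinearMap.range (c • ((x : Module.End k M) * N *
      ((x⁻¹ : LinearMap.GeneralLinearGroup k M) : Module.End k M)))) =
      Module.finrank k (LinearMap.range N) := by
  have hrange : LinearMap.range (c • ((x : Module.End k M) * N *
      ((x⁻¹ : LinearMap.GeneralLinearGroup k M) : Module.End k M))) =
      (LinearMap.range N).map (x : Module.End k M) := by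
    ext y
    constructor
    · rintro ⟨m, rfl⟩
      refine ⟨N (c • ((x⁻¹ : LinearMap.GeneralLinearGroup k M) : Module.End k M) m),
        LinearMap.mem_range_self _ _, ?_⟩
      simp [Module.End.mul_apply]
    · rintro ⟨_, ⟨m, rfl⟩, rfl⟩
      refine ⟨c⁻¹ • (x : Module.End k M) m, ?_⟩
      have h1 : ((x⁻¹ : LinearMap.GeneralLinearGroup k M) : Module.End k M)
          ((x : Module.End k M) m) = m := by
        rw [← Module.End.mul_apply, Units.inv_mul]; rfl
      simp only [LinearMap.smul_apply, Module.End.mul_apply, map_smul, h1, smul_smul,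
        inv_mul_cancel₀ hc, one_smul]
  rw [hrange]
  have hinj : Function.Injective (x : Module.End k M) := by
    intro a b hab
    have := congrArg (((x⁻¹ : LinearMap.GeneralLinearGroup k M) : Module.End k M)) hab
    rwa [← Module.End.mul_apply, ← Module.End.mul_apply, Units.inv_mul] at this
  have h2 := LinearMap.finrank_range_of_inj
    (f := (x : Module.End k M).domRestrict (LinearMap.range N))
    (fun a b hab => Subtype.ext (hinj hab))
  rw [LinearMap.range_domRestrict] at h2
  exact h2

end Cfsg.Agent.Lib.Helper8.Qp
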