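import Mathlib
import Cfsg.Prelude.Def_RootSubgroups
import Cfsg.Agent.Lib.Helper8.Qp16
set_option autoImplicit false
open Matrix Polynomial
universe u v w
/-! The reduction of S5064 to the `λ = 1` statement (I). -/
namespace Cfsg.Agent.Lib.Helper8.Qp

variable {k : Type u} [Field k]
variable {M : Type w} [AddCommGroup M] [Module k M]

/-- the `λ = 1` statement (I) for rank `d` -/
def StatementI (G : Subgroup (LinearMap.GeneralLinearGroup k M)) (d : ℕ) : Prop :=
  ∀ A A' : Module.End k M, A * A = 0 → A' * A' = 0 → Fam G A → Fam G A' →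
    Module.finrank k (LinearMap.range A) = d → Module.finrank k (LinearMap.range A') = d →
    (∃ v : M, v ≠ 0 ∧ (A * A' + A' * A) v = v) → (A * A' + A' * A) * A = A

variable {G : Subgroup (LinearMap.GeneralLinearGroup k M)}

theorem closure_le_G {σ τ : LinearMap.GeneralLinearGroup k M}
    (hσ : σ ∈ Cfsg.quadraticElements G) (hτ : τ ∈ Cfsg.quadraticElements G) :
    Subgroup.closure (Cfsg.scalarFamily σ ∪ Cfsg.scalarFamily τ) ≤ G := by
  rw [Subgroup.closure_le]
  exact Set.union_subset (scalarFamily_subset hσ) (scalarFamily_subset hτ)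

theorem ker_pow_invariant {A B : Module.End k M} (hA : A * A = 0) (n : ℕ) :
    ∀ v ∈ LinearMap.ker ((A * B + B * A) ^ n), A v ∈ LinearMap.ker ((A * B + B * A) ^ n) := by
  intro v hv
  rw [LinearMap.mem_ker] at hv ⊢
  have hc : Commute ((A * B + B * A) ^ n) A := Commute.pow_left (th_mul_A hA) n
  rw [← Module.End.mul_apply, hc.eq, Module.End.mul_apply, hv, map_zero]

theorem ker_pow_invariant' {A B : Module.End k M} (hB : B * B = 0) (n : ℕ) :
    ∀ v ∈ LinearMap.ker ((A * B + B * A) ^ n), B v ∈ LinearMap.ker ((A * B + B * A) ^ n) := by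
  intro v hv
  rw [LinearMap.mem_ker] at hv ⊢
  have hc : Commute ((A * B + B * A) ^ n) B := Commute.pow_left (th_mul_B hB) n
  rw [← Module.End.mul_apply, hc.eq, Module.End.mul_apply, hv, map_zero]

/-- one side of the reduction -/
theorem one_side (hk2 : ringChar k ≠ 2) [FiniteDimensional k M]
    {σ τ : LinearMap.GeneralLinearGroup k M}
    (hσ : σ ∈ Cfsg.quadraticElements G) (hτ : τ ∈ Cfsg.quadraticElements G)
    (A B : Module.End k M) (hσA : (σ : M →ₗ[k] M) - 1 = A) (hτB : (τ : M →ₗ[k] M) - 1 = B)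
    (d : ℕ) (hd : Module.finrank k (LinearMap.range A) = d) (hI : StatementI G d)
    (π : k[X]) (hπ : Irreducible π) (h0 : π.coeff 0 ≠ 0)
    (hker : LinearMap.ker (aeval (A * B + B * A) π) ≠ ⊥) :
    (∃ x ∈ Subgroup.closure (Cfsg.scalarFamily σ ∪ Cfsg.scalarFamily τ), ∃ δ : k, δ ≠ 0 ∧
      (A * (((x : LinearMap.GeneralLinearGroup k M) : Module.End k M) * A *
          ((x⁻¹ : LinearMap.GeneralLinearGroup k M) : Module.End k M)) +
        (((x : LinearMap.GeneralLinearGroup k M) : Module.End k M) * A *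
          ((x⁻¹ : LinearMap.GeneralLinearGroup k M) : Module.End k M)) * A) * A = -(δ • A)) ∧
    (∀ (n : ℕ) (v : M), v ∈ LinearMap.ker ((A * B + B * A) ^ n) → A v = 0) := by
  obtain ⟨hA, hA0, hFA⟩ := quad_facts hσ
  obtain ⟨hB, hB0, hFB⟩ := quad_facts hτ
  rw [hσA] at hA hA0 hFA
  rw [hτB] at hB hB0 hFB
  have hXG := closure_le_G hσ hτ
  obtain ⟨x, hxX, δ, hδ, hS⟩ := exists_conj_of_factor hk2 σ τ A B hσA hτB hA hB π hπ h0
  set C : Module.End k M := ((x : LinearMap.GeneralLinearGroup k M) : Module.End k M) * A *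
    ((x⁻¹ : LinearMap.GeneralLinearGroup k M) : Module.End k M) with hC
  have hδ' : (-δ⁻¹ : k) ≠ 0 := neg_ne_zero.mpr (inv_ne_zero hδ)
  have hA'sq : ((-δ⁻¹ : k) • C) * ((-δ⁻¹ : k) • C) = 0 := conj_sq_zero hA x _
  have hFA' : Fam G ((-δ⁻¹ : k) • C) := hFA.conj (hXG hxX) _
  have hrk : Module.finrank k (LinearMap.range ((-δ⁻¹ : k) • C)) = d := by
    rw [hC, conj_rank A x hδ', hd]
  have hth : A * ((-δ⁻¹ : k) • C) + ((-δ⁻¹ : k) • C) * A = (-δ⁻¹ : k) • (A * C + C * A) := by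
    rw [mul_smul_comm, smul_mul_assoc, smul_add]
  obtain ⟨v, hvS, hv0⟩ := Submodule.exists_mem_ne_zero_of_ne_bot hker
  have hI1 := hI A ((-δ⁻¹ : k) • C) hA hA'sq hFA hFA' hd hrk ⟨v, hv0, by
    rw [hth, LinearMap.smul_apply, hS v hvS, smul_neg, neg_smul, neg_neg, smul_smul,
      inv_mul_cancel₀ hδ, one_smul]⟩
  rw [hth] at hI1
  have hI2 : (A * C + C * A) * A = -(δ • A) := by
    have := congrArg (fun f : Module.End k M => (-δ) • f) hI1
    simp only [smul_mul_assoc, smul_smul] at this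
    rw [show -δ * -δ⁻¹ = 1 by field_simp, one_smul, neg_smul] at this
    exact this
  refine ⟨⟨x, hxX, δ, hδ, hI2⟩, ?_⟩
  -- `A = A A' A` kills the Fitting null part
  have hAAA : A = A * ((-δ⁻¹ : k) • C) * A := by
    have h1 : (-δ⁻¹ : k) • (A * C + C * A) * A = A * ((-δ⁻¹ : k) • C) * A := by
      rw [← hth, add_mul, mul_assoc (((-δ⁻¹ : k) • C)) A A, hA, mul_zero, add_zero]
    rw [← h1]
    exact hI1.symm
  intro n v hv
  set W := LinearMap.ker ((A * B + B * A) ^ n) with hW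
  have hAW := ker_pow_invariant (B := B) hA n
  have hBW := ker_pow_invariant' (A := A) hB n
  have hA'Fl : ∀ (j : ℕ) (w : M), w ∈ Fl A B W j →
      ((-δ⁻¹ : k) • C) w ∈ Fl A B W (j + 1) := by
    intro j w hw
    rw [LinearMap.smul_apply, hC, Module.End.mul_apply, Module.End.mul_apply]
    apply Submodule.smul_mem
    apply apply_mem_Fl hA hB hAW hBW σ τ hσA hτB hxX
    apply A_mem_Fl
    exact apply_mem_Fl hA hB hAW hBW σ τ hσA hτB (Subgroup.inv_mem _ hxX) j w hw
  have hclaim : ∀ r : ℕ, A v ∈ Fl A B W (1 + 2 * r) := by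
    intro r
    induction r with
    | zero => exact A_mem_Fl (j := 0) hv
    | succ r ih =>
      have h1 : A v = A (((-δ⁻¹ : k) • C) (A v)) := by
        conv_lhs => rw [hAAA]
        rfl
      rw [h1, show 1 + 2 * (r + 1) = (1 + 2 * r + 1) + 1 by ring]
      exact A_mem_Fl (hA'Fl _ _ ih)
  have h2 := hclaim n
  rw [Fl_odd hA hB n] at h2
  obtain ⟨w, hw, hwv⟩ := h2
  have hw' : w ∈ W := Fl_succ_le hAW hBW 0 hw
  rw [hW, LinearMap.mem_ker] at hw'
  rw [← hwv, hw']

end Cfsg.Agent.Lib.Helper8.Qp
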