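import Mathlib
import Cfsg.Prelude.Def_RootSubgroups
import Cfsg.Agent.Lib.Helper8.Qp17
set_option autoImplicit false
open Matrix Polynomial
universe u v w
/-! S5064 from the `λ = 1` statement (I). -/
namespace Cfsg.Agent.Lib.Helper8.Qp

variable {k : Type u} [Field k]
variable {M : Type w} [AddCommGroup M] [Module k M]
variable {G : Subgroup (LinearMap.GeneralLinearGroup k M)}

theorem s5064_of_I (hk2 : ringChar k ≠ 2) (hk3 : Nat.card k ≠ 3) [FiniteDimensional k M]
    {σ τ : LinearMap.GeneralLinearGroup k M}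
    (hσ : σ ∈ Cfsg.minimalQuadraticElements G) (hτ : τ ∈ Cfsg.minimalQuadraticElements G)
    (hH : ¬ Cfsg.IsUnipotentOn (Subgroup.closure (Cfsg.scalarFamily σ ∪ Cfsg.scalarFamily τ)))
    (hI : StatementI G (Cfsg.commutatorRank σ)) :
    ∃ (K : Type u) (_ : Field K) (_ : Algebra k K) (lam : K), IsAlgebraic k lam ∧
      IntermediateField.adjoin k ({lam} : Set K) = ⊤ ∧
      Nonempty (↥(Subgroup.closure (Cfsg.scalarFamily σ ∪ Cfsg.scalarFamily τ)) ≃*
        Matrix.SpecialLinearGroup (Fin 2) K) := by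
  obtain ⟨A, hσA⟩ : ∃ A : Module.End k M, (σ : M →ₗ[k] M) - 1 = A := ⟨_, rfl⟩
  obtain ⟨B, hτB⟩ : ∃ B : Module.End k M, (τ : M →ₗ[k] M) - 1 = B := ⟨_, rfl⟩
  obtain ⟨hA, hA0, hFA⟩ := quad_facts hσ.1
  obtain ⟨hB, hB0, hFB⟩ := quad_facts hτ.1
  rw [hσA] at hA hA0 hFA
  rw [hτB] at hB hB0 hFB
  have hXG := closure_le_G hσ.1 hτ.1
  have hdA : Module.finrank k (LinearMap.range A) = Cfsg.commutatorRank σ := by
    rw [← hσA]; rfl
  have hdB : Module.finrank k (LinearMap.range B) = Cfsg.commutatorRank σ := by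
    have h1 : Cfsg.commutatorRank σ ≤ Cfsg.commutatorRank τ := hσ.2 τ hτ.1
    have h2 : Cfsg.commutatorRank τ ≤ Cfsg.commutatorRank σ := hτ.2 σ hσ.1
    have h3 : Module.finrank k (LinearMap.range B) = Cfsg.commutatorRank τ := by
      rw [← hτB]; rfl
    omega
  -- θ is not nilpotent
  have hnil : ∀ n : ℕ, (A * B + B * A) ^ n ≠ 0 := by
    intro n hn
    exact hH (isUnipotentOn_of_nilpotent hA hB σ τ hσA hτB n hn)
  obtain ⟨π, hπ, h0, hker⟩ := exists_factor_of_not_nilpotent (A * B + B * A) hnil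
  -- the two sides
  obtain ⟨hxA, hAker⟩ := one_side hk2 hσ.1 hτ.1 A B hσA hτB _ hdA hI π hπ h0 hker
  have hker' : LinearMap.ker (aeval (B * A + A * B) π) ≠ ⊥ := by
    rw [add_comm]; exact hker
  obtain ⟨-, hBker⟩ := one_side hk2 hτ.1 hσ.1 B A hτB hσA _ hdB hI π hπ h0 hker'
  -- injectivity of θ on `A M + B M`
  have hinj : ∀ v ∈ VV A B, (A * B + B * A) v = 0 → v = 0 := by
    obtain ⟨n, hn1, hn⟩ : ∃ n : ℕ, 1 ≤ n ∧ IsCompl (LinearMap.ker ((A * B + B * A) ^ n))
        (LinearMap.range ((A * B + B * A) ^ n)) := by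
      have h1 := (LinearMap.eventually_isCompl_ker_pow_range_pow (A * B + B * A)).and
        (Filter.eventually_ge_atTop 1)
      obtain ⟨n, hn, hn1⟩ := h1.exists
      exact ⟨n, hn1, hn⟩
    have hArange : ∀ m : M, A m ∈ LinearMap.range ((A * B + B * A) ^ n) := by
      intro m
      obtain ⟨w, hw, u, hu, rfl⟩ := Submodule.mem_sup.mp
        (show m ∈ LinearMap.ker ((A * B + B * A) ^ n) ⊔ LinearMap.range ((A * B + B * A) ^ n) by
          rw [hn.sup_eq_top]; exact Submodule.mem_top)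
      obtain ⟨u', rfl⟩ := hu
      rw [map_add, hAker n w hw, zero_add]
      have hc : Commute ((A * B + B * A) ^ n) A := Commute.pow_left (th_mul_A hA) n
      refine ⟨A u', ?_⟩
      rw [← Module.End.mul_apply, hc.eq, Module.End.mul_apply]
    have hBrange : ∀ m : M, B m ∈ LinearMap.range ((A * B + B * A) ^ n) := by
      intro m
      obtain ⟨w, hw, u, hu, rfl⟩ := Submodule.mem_sup.mp
        (show m ∈ LinearMap.ker ((A * B + B * A) ^ n) ⊔ LinearMap.range ((A * B + B * A) ^ n) by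
          rw [hn.sup_eq_top]; exact Submodule.mem_top)
      obtain ⟨u', rfl⟩ := hu
      have hw' : w ∈ LinearMap.ker ((B * A + A * B) ^ n) := by
        rw [add_comm]; exact hw
      rw [map_add, hBker n w hw', zero_add]
      have hc : Commute ((A * B + B * A) ^ n) B := Commute.pow_left (th_mul_B hB) n
      refine ⟨B u', ?_⟩
      rw [← Module.End.mul_apply, hc.eq, Module.End.mul_apply]
    intro v hv hθv
    obtain ⟨_, ⟨m1, rfl⟩, _, ⟨m2, rfl⟩, rfl⟩ := Submodule.mem_sup.mp hv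
    have h1 : A m1 + B m2 ∈ LinearMap.range ((A * B + B * A) ^ n) :=
      Submodule.add_mem _ (hArange m1) (hBrange m2)
    have h2 : A m1 + B m2 ∈ LinearMap.ker ((A * B + B * A) ^ n) := by
      rw [LinearMap.mem_ker]
      obtain ⟨n', rfl⟩ : ∃ n', n = n' + 1 := ⟨n - 1, by omega⟩
      rw [pow_succ, Module.End.mul_apply, hθv, map_zero]
    have h3 := hn.disjoint.le_bot ⟨h2, h1⟩
    exact (Submodule.mem_bot k).mp h3
  -- minimality
  have hmin : ∀ N : Module.End k M, N * N = 0 →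
      (∀ c : k, ∃ u ∈ Subgroup.closure (Cfsg.scalarFamily σ ∪ Cfsg.scalarFamily τ),
        ((u : LinearMap.GeneralLinearGroup k M) : Module.End k M) = 1 + c • N) →
      N = 0 ∨ Module.finrank k (LinearMap.range A) ≤ Module.finrank k (LinearMap.range N) := by
    intro N hN hF
    by_cases hN0 : N = 0
    · exact Or.inl hN0
    · right
      rw [hdA]
      exact rank_le_of_family hσ N hN hN0 (Fam.mono hXG hF)
  exact sl2_of_minimal hk2 hk3 σ τ A B hσA hτB hA hB hA0 hinj hxA hmin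

end Cfsg.Agent.Lib.Helper8.Qp
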