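import Cfsg.Agent.Lib.Helper1.R4D3
import Cfsg.Agent.Lib.Helper2.R4A3
import Cfsg.Agent.Lib.Helper1.CoprimeAbelian

/-! S3814 farm, unit D4a: `CaseII.core_no_E2`. -/

set_option autoImplicit false
set_option linter.style.haveILetI false

namespace Cfsg.Agent.Lib.Helper2.R4

open scoped Pointwise commutatorElement

variable {G : Type*} [Group G]

/-- the central elements of `P` killed by `p` (this is `Ω₁(Z(P))` when `P` is a `p`-group). -/
def h8_r4_omegaZ (p : ℕ) (P : Subgroup G) : Subgroup G where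
  carrier := {x | x ∈ P ∧ (∀ y ∈ P, x * y = y * x) ∧ x ^ p = 1}
  one_mem' := ⟨P.one_mem, fun y _ => by rw [one_mul, mul_one], one_pow p⟩
  mul_mem' := by
    rintro x y ⟨hx, hxc, hxp⟩ ⟨hy, hyc, hyp⟩
    refine ⟨P.mul_mem hx hy, ?_, ?_⟩
    · intro z hz
      rw [mul_assoc, hyc z hz, ← mul_assoc, hxc z hz, mul_assoc]
    · have hc : Commute x y := hxc y hy
      rw [hc.mul_pow, hxp, hyp, one_mul]
  inv_mem' := by
    rintro x ⟨hx, hxc, hxp⟩
    refine ⟨P.inv_mem hx, ?_, by rw [inv_pow, hxp, inv_one]⟩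
    intro z hz
    have h1 := hxc z hz
    calc x⁻¹ * z = x⁻¹ * (z * x) * x⁻¹ := by group
      _ = x⁻¹ * (x * z) * x⁻¹ := by rw [h1]
      _ = z * x⁻¹ := by group

theorem h8_r4_omegaZ_le (p : ℕ) (P : Subgroup G) : h8_r4_omegaZ p P ≤ P := fun _ hx => hx.1

theorem h8_r4_omegaZ_normalizer {p : ℕ} {P L : Subgroup G}
    (hLP : L ≤ Subgroup.normalizer (P : Set G)) :
    L ≤ Subgroup.normalizer ((h8_r4_omegaZ p P : Subgroup G) : Set G) := by
  apply h1_r4_le_normalizer_of_conj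
  rintro g hg x ⟨hx, hxc, hxp⟩
  have hgN := hLP hg
  refine ⟨((Subgroup.mem_normalizer_iff.mp hgN) x).mp hx, ?_, ?_⟩
  · intro y hy
    have hy' : g⁻¹ * y * g ∈ P := by
      have := ((Subgroup.mem_normalizer_iff.mp (Subgroup.inv_mem _ hgN)) y).mp hy
      simpa using this
    have h1 := hxc _ hy'
    calc g * x * g⁻¹ * y = g * (x * (g⁻¹ * y * g)) * g⁻¹ := by group
      _ = g * ((g⁻¹ * y * g) * x) * g⁻¹ := by rw [h1]
      _ = y * (g * x * g⁻¹) := by group
  · rw [conj_pow, hxp, mul_one, mul_inv_cancel]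

/-- in Case II, an element of `L` of prime order `q` centralizes every abelian `p`-subgroup of `L`
which it normalizes (`p ≠ q`): `A₀ = C_{A₀}(e) × [A₀, e]` and `e` is fpf on `[A₀, e]` (II.3). -/
theorem h8_r4_caseII_centralizes [Finite G] {σ : Finset ℕ} {a b : ℕ} {V V' L : Subgroup G}
    (h : CaseII σ a b V V' L) {p q : ℕ} (hp : p.Prime) (hq : q.Prime) (hpq : p ≠ q)
    {A₀ : Subgroup G} (hA₀L : A₀ ≤ L) (hA₀p : IsPGroup p A₀)
    (hab : ∀ x ∈ A₀, ∀ y ∈ A₀, x * y = y * x) {e : G} (heL : e ∈ L) (heo : orderOf e = q)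
    (heN : e ∈ Subgroup.normalizer (A₀ : Set G)) : ∀ x ∈ A₀, x * e = e * x := by
  haveI : Fact p.Prime := ⟨hp⟩
  haveI : IsMulCommutative A₀ := ⟨⟨fun x y => Subtype.ext (hab x x.2 y y.2)⟩⟩
  have hZN : Subgroup.zpowers e ≤ Subgroup.normalizer (A₀ : Set G) := Subgroup.zpowers_le.mpr heN
  have hcop : (Nat.card (Subgroup.zpowers e)).Coprime (Nat.card A₀) := by
    obtain ⟨k, hk⟩ := IsPGroup.iff_card.mp hA₀p
    rw [Nat.card_zpowers, heo, hk]
    exact Nat.Coprime.pow_right k ((Nat.coprime_primes hq hp).mpr hpq.symm)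
  obtain ⟨hdis, hsup⟩ :=
    Cfsg.Agent.Lib.Helper1.coprime_abelian_decomposition (Subgroup.zpowers e) A₀ hZN hcop
  have hKA : ⁅A₀, Subgroup.zpowers e⁆ ≤ A₀ := Subgroup.le_normalizer_iff_commutator_le_left.mp hZN
  have hKbot : ⁅A₀, Subgroup.zpowers e⁆ = ⊥ := by
    by_contra hK1
    have hZK : Subgroup.zpowers e ≤
        Subgroup.normalizer ((⁅A₀, Subgroup.zpowers e⁆ : Subgroup G) : Set G) := by
      apply h1_r4_le_normalizer_of_conj
      intro g hg x hx
      have h1 : ⁅g, x⁆ ∈ ⁅A₀, Subgroup.zpowers e⁆ := by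
        have := Subgroup.commutator_mem_commutator hg (hKA hx)
        rwa [Subgroup.commutator_comm] at this
      have h2 : g * x * g⁻¹ = ⁅g, x⁆ * x := by
        rw [commutatorElement_def]; group
      rw [h2]
      exact Subgroup.mul_mem _ h1 hx
    have heK := hZK (Subgroup.mem_zpowers e)
    have hfpf : Fpf e ⁅A₀, Subgroup.zpowers e⁆ := by
      intro x hx hxe
      have hxc : x ∈ Subgroup.centralizer ((Subgroup.zpowers e : Subgroup G) : Set G) := by
        rw [Subgroup.mem_centralizer_iff]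
        intro z hz
        obtain ⟨k, rfl⟩ := Subgroup.mem_zpowers_iff.mp hz
        have hc : Commute e x := hxe.symm
        exact (hc.zpow_left k).eq
      have hmem : x ∈ (A₀ ⊓ Subgroup.centralizer ((Subgroup.zpowers e : Subgroup G) : Set G)) ⊓
          ⁅A₀, Subgroup.zpowers e⁆ := ⟨⟨hKA hx, hxc⟩, hx⟩
      rw [hdis] at hmem
      exact Subgroup.mem_bot.mp hmem
    exact CaseII.no_fpf h heL (heo ▸ hq) (hKA.trans hA₀L) hK1 heK hfpf
  intro x hx
  rw [hKbot, sup_bot_eq] at hsup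
  have hmem : x ∈ A₀ ⊓ Subgroup.centralizer ((Subgroup.zpowers e : Subgroup G) : Set G) := by
    rw [hsup]; exact hx
  exact (Subgroup.mem_centralizer_iff.mp hmem.2 e (Subgroup.mem_zpowers e)).symm

/-- (II.7) -/
theorem CaseII.core_no_E2 [Finite G] {σ : Finset ℕ} {a b : ℕ} {V V' L : Subgroup G}
    (h : CaseII σ a b V V' L) {p : ℕ} (hp : p.Prime) {P : Subgroup G} (hPL : P ≤ L)
    (hLP : L ≤ Subgroup.normalizer (P : Set G)) (hP : IsPGroup p P) : ¬ E2 p P := by
  intro hE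
  haveI : Fact p.Prime := ⟨hp⟩
  obtain ⟨A, hAP, hAsq⟩ := hE
  have hpL : p ∣ Nat.card L := by
    have h1 : Nat.card A ∣ Nat.card L := Subgroup.card_dvd_of_le (hAP.trans hPL)
    rw [hAsq.1] at h1
    exact dvd_trans (dvd_pow_self p two_ne_zero) h1
  obtain ⟨hpσ, hpa, hpb⟩ := CaseII.prime_mem h hp hpL
  -- the fourth prime `q`
  obtain ⟨q, hqσ, hqa, hqb, hqp, hall⟩ : ∃ q ∈ σ, q ≠ a ∧ q ≠ b ∧ q ≠ p ∧
      ∀ r ∈ σ, r ≠ a → r ≠ b → r = p ∨ r = q := by
    obtain ⟨c, hc, d, hd, hcd, hca, hcb, hda, hdb, hall⟩ :=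
      MinCex.exists_two_others h.mc h.ha h.hb h.hab
    rcases hall p hpσ with h2 | h2 | h2 | h2
    · exact absurd h2 hpa
    · exact absurd h2 hpb
    · refine ⟨d, hd, hda, hdb, ?_, ?_⟩
      · rw [h2]; exact hcd.symm
      · intro r hr hra hrb
        rcases hall r hr with h3 | h3 | h3 | h3
        · exact absurd h3 hra
        · exact absurd h3 hrb
        · exact Or.inl (h3.trans h2.symm)
        · exact Or.inr h3
    · refine ⟨c, hc, hca, hcb, ?_, ?_⟩
      · rw [h2]; exact hcd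
      · intro r hr hra hrb
        rcases hall r hr with h3 | h3 | h3 | h3
        · exact absurd h3 hra
        · exact absurd h3 hrb
        · exact Or.inr h3
        · exact Or.inl (h3.trans h2.symm)
  have hqpr : q.Prime := h.mc.prime q hqσ
  obtain ⟨B, hBL, hBsq⟩ := CaseII.E2L h hqσ hqa hqb
  -- `P ⊔ B = L`
  have hM : P ⊔ B = L := by
    apply CaseII.gen h (sup_le hPL hBL)
    intro r hr hra hrb
    rcases hall r hr hra hrb with h3 | h3
    · rw [h3]; exact ⟨A, hAP.trans le_sup_left, hAsq⟩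
    · rw [h3]; exact ⟨B, le_sup_right, hBsq⟩
  -- `P` is a Sylow `p`-subgroup of `L`
  have hSyl : ¬ p ∣ P.relIndex L := by
    intro hdvd
    have h1 := Cfsg.Agent.Lib.Helper1.GlaubermanRepl.card_sup_mul_card_inf_of_le_normalizer B P
      (hBL.trans hLP)
    rw [sup_comm, hM, hBsq.1] at h1
    have h2 : P.relIndex L * Nat.card P = Nat.card L := by
      have h1 := (P.subgroupOf L).card_mul_index
      rw [Nat.card_congr (Subgroup.subgroupOfEquivOfLe hPL).toEquiv] at h1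
      rw [mul_comm]
      exact h1
    have h3 : P.relIndex L * Nat.card P ∣ q ^ 2 * Nat.card P := by
      rw [h2, ← h1]; exact dvd_mul_right _ _
    have h4 : P.relIndex L ∣ q ^ 2 := Nat.dvd_of_mul_dvd_mul_right Nat.card_pos h3
    have h5 : p ∣ q ^ 2 := dvd_trans hdvd h4
    have h6 : p ∣ q := hp.dvd_of_dvd_pow h5
    exact hqp ((Nat.prime_dvd_prime_iff_eq hp hqpr).mp h6).symm
  have hA₀P : h8_r4_omegaZ p P ≤ P := h8_r4_omegaZ_le p P
  have hA₀L : h8_r4_omegaZ p P ≤ L := hA₀P.trans hPL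
  have hLA₀ : L ≤ Subgroup.normalizer ((h8_r4_omegaZ p P : Subgroup G) : Set G) :=
    h8_r4_omegaZ_normalizer hLP
  have hA₀p : IsPGroup p (h8_r4_omegaZ p P) := hP.to_le hA₀P
  have hA₀ab : ∀ x ∈ h8_r4_omegaZ p P, ∀ y ∈ h8_r4_omegaZ p P, x * y = y * x :=
    fun x hx y hy => hx.2.1 y (hA₀P hy)
  have hcent : ∀ e ∈ B, ∀ x ∈ h8_r4_omegaZ p P, x * e = e * x := by
    intro e he x hx
    by_cases he1 : e = 1
    · rw [he1, mul_one, one_mul]
    · have heo : orderOf e = q := IsSq.orderOf_eq hqpr hBsq he he1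
      exact h8_r4_caseII_centralizes h hp hqpr hqp.symm hA₀L hA₀p hA₀ab (hBL he) heo
        (hLA₀ (hBL he)) x hx
  -- `E2 p A₀`
  have hE2 : E2 p (h8_r4_omegaZ p P) := by
    by_contra hno
    have hP1 : P ≠ ⊥ := by
      intro hb
      have h1 : Nat.card A = 1 := by
        have h2 : A = ⊥ := le_bot_iff.mp (hb ▸ hAP)
        rw [h2, Subgroup.card_bot]
      rw [hAsq.1] at h1
      have h3 : p = 1 := by
        rcases Nat.pow_eq_one.mp h1 with h4 | h4
        · exact h4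
        · exact absurd h4 two_ne_zero
      exact hp.one_lt.ne' h3
    obtain ⟨z, hzP, hzo, hzc⟩ := h2_r4_exists_central hp hP hP1
    have hzA₀ : z ∈ h8_r4_omegaZ p P := ⟨hzP, hzc, by rw [← hzo]; exact pow_orderOf_eq_one z⟩
    have hA₀1 : h8_r4_omegaZ p P ≠ ⊥ := by
      intro hb
      rw [hb, Subgroup.mem_bot] at hzA₀
      rw [hzA₀, orderOf_one] at hzo
      exact hp.one_lt.ne' hzo.symm
    have hcard : Nat.card (h8_r4_omegaZ p P) = p :=
      card_eq_of_not_E2_of_exp hp hA₀1 (fun v hv => hv.2.2) hno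
    have hzeq : Subgroup.zpowers z = h8_r4_omegaZ p P := by
      apply Subgroup.eq_of_le_of_card_ge (Subgroup.zpowers_le.mpr hzA₀)
      rw [hcard, Nat.card_zpowers, hzo]
    have hLz : L ≤ Subgroup.normalizer ((Subgroup.zpowers z : Subgroup G) : Set G) := by
      rw [hzeq]; exact hLA₀
    obtain ⟨A', hA'P, hA'sq, -, hA'c⟩ :=
      CaseII.exists_central_sq h hpσ hpa hpb (hPL hzP) hzo hLz hPL hP hSyl
    apply hno
    refine ⟨A', ?_, hA'sq⟩
    intro x hx
    exact ⟨hA'P hx, fun s hs => hA'c x hx s hs, hA'sq.2 x hx⟩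
  obtain ⟨A', hA'A₀, hA'sq⟩ := hE2
  have hVN : ∀ S : Subgroup G, S ≤ Subgroup.normalizer (V : Set G) := fun S => by
    haveI := h.Vn
    rw [Subgroup.normalizer_eq_top]; exact le_top
  exact MinCex.no_commuting_squares h.mc h.ha hpσ hqσ (Ne.symm hpa) (Ne.symm hqa) hqp.symm h.Va
    h.Vne hA'sq hBsq (hVN A') (hVN B) (fun x hx e he => hcent e he x (hA'A₀ hx))

end Cfsg.Agent.Lib.Helper2.R4
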