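import Cfsg.Agent.Lib.Helper8.R4D4a
import Cfsg.Agent.Lib.Helper1.R4A10
import Cfsg.Agent.Lib.Helper1.R4A7
import Cfsg.Agent.Lib.Helper2.R4A9
import Cfsg.Agent.Lib.Helper2.R4A8
import Cfsg.Agent.Lib.Helper2.R4A3
import Cfsg.Agent.Lib.Helper1.CoprimeAbelian

/-! S3814 farm, unit D4b: `CaseII.other_two`. -/

set_option autoImplicit false
set_option linter.style.haveILetI false

namespace Cfsg.Agent.Lib.Helper2.R4

open scoped Pointwise

variable {G : Type*} [Group G]

/-- if the conjugate of `n` by `g` generates the same cyclic group, `g` normalizes `⟨n⟩`. -/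
theorem h8_r4_mem_normalizer_zpowers {g n : G}
    (hz : Subgroup.zpowers (g * n * g⁻¹) = Subgroup.zpowers n) :
    g ∈ Subgroup.normalizer ((Subgroup.zpowers n : Subgroup G) : Set G) := by
  rw [Subgroup.mem_normalizer_iff]
  intro x
  constructor
  · intro hx
    obtain ⟨k, rfl⟩ := Subgroup.mem_zpowers_iff.mp hx
    rw [← hz]
    have : g * n ^ k * g⁻¹ = (g * n * g⁻¹) ^ k := (conj_zpow).symm
    rw [this]
    exact Subgroup.zpow_mem_zpowers _ k
  · intro hx
    rw [← hz] at hx
    obtain ⟨k, hk⟩ := Subgroup.mem_zpowers_iff.mp hx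
    have h1 : (g * n * g⁻¹) ^ k = g * n ^ k * g⁻¹ := conj_zpow
    rw [h1] at hk
    have h2 : n ^ k = x := by
      have := congrArg (fun t => g⁻¹ * t * g) hk
      simpa [mul_assoc] using this
    rw [← h2]
    exact Subgroup.zpow_mem_zpowers _ k

/-- an element of prime order in a `q`-group has order `q`. -/
theorem h8_r4_orderOf_eq_of_prime {q : ℕ} (hq : q.Prime) {Q : Subgroup G} (hQ : IsPGroup q Q)
    {v : G} (hv : v ∈ Q) (hvo : (orderOf v).Prime) : orderOf v = q := by
  obtain ⟨k, hk⟩ := hQ ⟨v, hv⟩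
  have h1 : v ^ q ^ k = 1 := by
    have := congrArg Subtype.val hk
    simpa using this
  have h2 : orderOf v ∣ q ^ k := orderOf_dvd_of_pow_eq_one h1
  exact (Nat.prime_dvd_prime_iff_eq hvo hq).mp (hvo.dvd_of_dvd_pow h2)

/-- (II.8a) -/
theorem CaseII.other_two [Finite G] {σ : Finset ℕ} {a b : ℕ} {V V' L : Subgroup G}
    (h : CaseII σ a b V V' L) {p q : ℕ} (hp : p ∈ σ) (hq : q ∈ σ) (hpa : p ≠ a) (hpb : p ≠ b)
    (hqa : q ≠ a) (hqb : q ≠ b) (hpq : p ≠ q) {P Pq : Subgroup G} (hP : IsCoreIn p P L)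
    (hPq : IsCoreIn q Pq L) (hP1 : P ≠ ⊥) : q = 2 ∧ Pq ≠ ⊥ := by
  have hpp : p.Prime := h.mc.prime p hp
  have hqp : q.Prime := h.mc.prime q hq
  haveI : Fact p.Prime := ⟨hpp⟩
  obtain ⟨hPL, hLP, hPp, hPmax⟩ := hP
  obtain ⟨hPqL, hLPq, hPqq, hPqmax⟩ := hPq
  have hPno : ¬ E2 p P := CaseII.core_no_E2 h hpp hPL hLP hPp
  have hPqno : ¬ E2 q Pq := CaseII.core_no_E2 h hqp hPqL hLPq hPqq
  -- an element of order p in P
  obtain ⟨n, hnP, hno⟩ : ∃ n ∈ P, orderOf n = p := by
    obtain ⟨k, hk⟩ := IsPGroup.exists_card_eq hPp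
    have hk0 : k ≠ 0 := by
      rintro rfl
      rw [pow_zero] at hk
      exact hP1 (Subgroup.eq_bot_of_card_eq P hk)
    have hdvd : p ∣ Nat.card P := by
      rw [hk]; exact dvd_pow_self p hk0
    obtain ⟨x, hx⟩ := exists_prime_orderOf_dvd_card' p hdvd
    exact ⟨(x : G), x.2, by rw [Subgroup.orderOf_coe]; exact hx⟩
  have hnL : n ∈ L := hPL hnP
  -- ⟨n⟩ is normalized by L
  have hLn : L ≤ Subgroup.normalizer ((Subgroup.zpowers n : Subgroup G) : Set G) := by
    intro g hg
    apply h8_r4_mem_normalizer_zpowers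
    have hgP : g * n * g⁻¹ ∈ P := ((Subgroup.mem_normalizer_iff.mp (hLP hg)) n).mp hnP
    have hgo : orderOf (g * n * g⁻¹) = p := by
      have := orderOf_injective (MulAut.conj g).toMonoidHom (MulAut.conj g).injective n
      simpa [MulAut.conj_apply] using this.trans hno
    exact zpowers_eq_of_not_E2 hpp hPp hPno hgP hnP hgo hno
  -- a Sylow p-subgroup S of L containing P
  obtain ⟨Q⟩ : Nonempty (Sylow p L) := inferInstance
  set S : Subgroup G := (Q : Subgroup L).map L.subtype with hSdef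
  have hSL : S ≤ L := Subgroup.map_subtype_le _
  have hS : IsPGroup p S := IsPGroup.map Q.isPGroup' _
  have hSyl : ¬ p ∣ S.relIndex L := by
    have h1 : S.subgroupOf L = (Q : Subgroup L) := by
      rw [hSdef]
      ext x
      simp [Subgroup.mem_subgroupOf]
    rw [Subgroup.relIndex, h1]
    exact Sylow.not_dvd_index Q
  have hPS : P ≤ S := by
    haveI : (Subgroup.comap L.subtype P).Normal :=
      (Subgroup.normal_subgroupOf_iff_le_normalizer hPL).mpr hLP
    have h1 : P.subgroupOf L ≤ (Q : Subgroup L) :=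
      IsPGroup.le_sylow_of_normal (IsPGroup.comap_subtype hPp) Q
    have h2 : (P.subgroupOf L).map L.subtype ≤ S := Subgroup.map_mono h1
    rwa [Subgroup.map_subgroupOf_eq_of_le hPL] at h2
  obtain ⟨A, hAS, hAsq, hnA, hAc⟩ :=
    CaseII.exists_central_sq h hp hpa hpb hnL hno hLn hSL hS hSyl
  obtain ⟨y, hyA, hyn⟩ := IsSq.exists_not_mem_zpowers hpp hAsq n
  have hy1 : y ≠ 1 := by
    rintro rfl
    exact hyn (Subgroup.one_mem _)
  have hyo : orderOf y = p := IsSq.orderOf_eq hpp hAsq hyA hy1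
  have hyS : y ∈ S := hAS hyA
  have hyL : y ∈ L := hSL hyS
  have hyP : y ∉ P := by
    intro hyP
    have := zpowers_eq_of_not_E2 hpp hPp hPno hyP hnP hyo hno
    exact hyn (this ▸ Subgroup.mem_zpowers y)
  have hc1 : ∀ x ∈ P, y * x = x * y := fun x hx => hAc y hyA x (hPS hx)
  -- the primes of L
  have hLprimes : ∀ r : ℕ, r.Prime → r ∣ Nat.card L → r = p ∨ r = q := by
    intro r hr hrL
    obtain ⟨hrσ, hra, hrb⟩ := CaseII.prime_mem h hr hrL
    obtain ⟨c, hc, d, hd, hcd, hca, hcb, hda, hdb, hall⟩ :=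
      MinCex.exists_two_others h.mc h.ha h.hb h.hab
    rcases hall r hrσ with h1 | h1 | h1 | h1
    · exact absurd h1 hra
    · exact absurd h1 hrb
    · rcases hall p hp with h2 | h2 | h2 | h2
      · exact absurd h2 hpa
      · exact absurd h2 hpb
      · exact Or.inl (h1.trans h2.symm)
      · rcases hall q hq with h3 | h3 | h3 | h3
        · exact absurd h3 hqa
        · exact absurd h3 hqb
        · exact Or.inr (h1.trans h3.symm)
        · exact absurd (h2.trans h3.symm) hpq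
    · rcases hall p hp with h2 | h2 | h2 | h2
      · exact absurd h2 hpa
      · exact absurd h2 hpb
      · rcases hall q hq with h3 | h3 | h3 | h3
        · exact absurd h3 hqa
        · exact absurd h3 hqb
        · exact absurd (h2.trans h3.symm) hpq
        · exact Or.inr (h1.trans h3.symm)
      · exact Or.inl (h1.trans h2.symm)
  have hsolvG : Group.IsSolvable G := h.mc.solv
  have hsolv : Group.IsSolvable L := inferInstance
  -- y does not centralize Pq
  have hnc : ∃ x ∈ Pq, y * x ≠ x * y := by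
    by_contra hcon
    push Not at hcon
    exact hyP (mem_core_of_centralizes hsolv hpp hqp hpq hLprimes ⟨hPL, hLP, hPp, hPmax⟩
      ⟨hPqL, hLPq, hPqq, hPqmax⟩ hyL hyo hc1 hcon)
  obtain ⟨x₀, hx₀, hx₀c⟩ := hnc
  have hPq1 : Pq ≠ ⊥ := by
    rintro rfl
    rw [Subgroup.mem_bot] at hx₀
    subst hx₀
    exact hx₀c (by rw [mul_one, one_mul])
  refine ⟨?_, hPq1⟩
  by_contra hq2
  have hcyc : IsCyclic Pq := isCyclic_of_not_E2 hqp hq2 hPqq hPqno
  haveI : IsMulCommutative Pq := IsCyclic.isMulCommutative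
  haveI : Fact q.Prime := ⟨hqp⟩
  have hyN : Subgroup.zpowers y ≤ Subgroup.normalizer (Pq : Set G) :=
    Subgroup.zpowers_le.mpr (hLPq hyL)
  have hcop : (Nat.card (Subgroup.zpowers y)).Coprime (Nat.card Pq) := by
    obtain ⟨k, hk⟩ := IsPGroup.exists_card_eq hPqq
    rw [Nat.card_zpowers, hyo, hk]
    exact Nat.Coprime.pow_right k ((Nat.coprime_primes hpp hqp).mpr hpq)
  -- some element of prime order of Pq is not centralized by y
  have hex : ∃ v ∈ Pq, (orderOf v).Prime ∧ y * v ≠ v * y := by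
    by_contra hcon
    push Not at hcon
    have hle := Cfsg.Agent.Lib.Helper1.coprime_abelian_trivial_of_fix_prime_order
      (Subgroup.zpowers y) Pq hyN hcop (by
        intro v hv hvo a ha
        obtain ⟨k, rfl⟩ := Subgroup.mem_zpowers_iff.mp ha
        have hc : Commute y v := hcon v hv hvo
        exact (hc.zpow_left k).eq)
    have hyc : y ∈ Subgroup.centralizer (Pq : Set G) := hle (Subgroup.mem_zpowers y)
    exact hx₀c ((Subgroup.mem_centralizer_iff.mp hyc x₀ hx₀).symm)
  obtain ⟨v, hvPq, hvo, hvc⟩ := hex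
  have hvq : orderOf v = q := h8_r4_orderOf_eq_of_prime hqp hPqq hvPq hvo
  have hyv : y ∈ Subgroup.normalizer ((Subgroup.zpowers v : Subgroup G) : Set G) := by
    apply h8_r4_mem_normalizer_zpowers
    have hgP : y * v * y⁻¹ ∈ Pq := ((Subgroup.mem_normalizer_iff.mp (hLPq hyL)) v).mp hvPq
    have hgo : orderOf (y * v * y⁻¹) = q := by
      have := orderOf_injective (MulAut.conj y).toMonoidHom (MulAut.conj y).injective v
      simpa [MulAut.conj_apply] using this.trans hvq
    exact zpowers_eq_of_not_E2 hqp hPqq hPqno hgP hvPq hgo hvq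
  have hfpf : Fpf y (Subgroup.zpowers v) := fpf_zpowers_of_not_commute hvo hvc
  have hK : Subgroup.zpowers v ≤ L := Subgroup.zpowers_le.mpr (hPqL hvPq)
  have hK1 : Subgroup.zpowers v ≠ ⊥ := by
    intro hbot
    have hv1 : v = 1 := Subgroup.zpowers_eq_bot.mp hbot
    rw [hv1, orderOf_one] at hvo
    exact Nat.not_prime_one hvo
  exact CaseII.no_fpf h hyL (hyo ▸ hpp) hK hK1 hyv hfpf

end Cfsg.Agent.Lib.Helper2.R4
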