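import Mathlib
import Cfsg.Agent.Lib.Helper8.RG3
import Cfsg.Agent.Lib.Helper8.GlauC4

/-! # The relative Glauberman correspondence: restriction of the setting to a subgroup -/
set_option autoImplicit false
set_option linter.unusedSectionVars false

namespace Cfsg.Agent.Lib.Helper8.RelGlau

open Cfsg.Agent.Lib.Helper6 Cfsg.Agent.Lib.Helper8.GlauP Cfsg.Agent.Lib.Helper8.GlauL

namespace Setup

variable {p : ℕ} {K C S : Type*} [Group K] [Group C] [Group S] (D : Setup p K C S)
variable (T : Subgroup K)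

/-- the preimage of `T` in `C` -/
def TC : Subgroup C := T.comap D.ι

theorem mem_TC (c : C) : c ∈ D.TC T ↔ D.ι c ∈ T := Iff.rfl

theorem QC_le_TC (hQT : D.Q ≤ T) : D.QC ≤ D.TC T := fun _ hc => hQT hc

theorem TC_stable (hTs : ∀ (s : S), ∀ t ∈ T, D.φK s t ∈ T) (s : S) :
    ∀ c ∈ D.TC T, D.φC s c ∈ D.TC T := by
  intro c hc
  rw [mem_TC, D.hι]
  exact hTs s _ hc

/-- the restriction of `ι` -/
def ιT : D.TC T →* T := (D.ι.comp (D.TC T).subtype).codRestrict T (fun c => c.2)

theorem ιT_coe (c : D.TC T) : ((D.ιT T c : T) : K) = D.ι (c : C) := rfl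

/-- the setting restricted to an invariant subgroup containing `Q` -/
def sub (hQT : D.Q ≤ T) (hTs : ∀ (s : S), ∀ t ∈ T, D.φK s t ∈ T) : Setup p T (D.TC T) S where
  ι := D.ιT T
  inj := by
    intro a b hab
    exact Subtype.ext (D.inj (congrArg Subtype.val hab))
  Q := D.Q.subgroupOf T
  hQn := inferInstance
  hQle := by
    intro t ht
    rw [Subgroup.mem_subgroupOf] at ht
    obtain ⟨c, hc⟩ := D.hQle ht
    exact ⟨⟨c, by rw [mem_TC, hc]; exact t.2⟩, Subtype.ext hc⟩
  φK := restrictHom D.φK T hTs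
  φC := restrictHom D.φC (D.TC T) (D.TC_stable T hTs)
  hι := by
    intro s c
    apply Subtype.ext
    exact D.hι s c
  hQs := by
    intro s q hq
    rw [Subgroup.mem_subgroupOf] at hq ⊢
    exact D.hQs s _ hq
  hfix := by
    intro t
    constructor
    · intro h
      have h1 : (t : K) ∈ D.ι.range := by
        rw [← D.hfix]
        intro s
        have := h s
        rw [Subgroup.mem_subgroupOf] at this
        exact this
      obtain ⟨c, hc⟩ := h1
      exact ⟨⟨c, by rw [mem_TC, hc]; exact t.2⟩, Subtype.ext hc⟩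
    · rintro ⟨c, rfl⟩ s
      rw [Subgroup.mem_subgroupOf]
      exact (D.hfix (D.ι c)).mpr ⟨c, rfl⟩ s
  pgroup := D.pgroup
  cop := by
    intro h
    apply D.cop
    have h1 : (D.Q.subgroupOf T).index = D.Q.relIndex T := rfl
    rw [h1] at h
    rw [← Subgroup.relIndex_mul_index hQT]
    exact Dvd.dvd.mul_right h _

variable (hQT : D.Q ≤ T) (hTs : ∀ (s : S), ∀ t ∈ T, D.φK s t ∈ T)

theorem sub_Q : (D.sub T hQT hTs).Q = D.Q.subgroupOf T := rfl

theorem sub_ι : (D.sub T hQT hTs).ι = D.ιT T := rfl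

theorem sub_φK_coe (s : S) (t : T) : (((D.sub T hQT hTs).φK s t : T) : K) = D.φK s t := rfl

theorem sub_φC_coe (s : S) (c : D.TC T) :
    (((D.sub T hQT hTs).φC s c : D.TC T) : C) = D.φC s c := rfl

theorem mem_sub_QC (c : D.TC T) : c ∈ (D.sub T hQT hTs).QC ↔ (c : C) ∈ D.QC := Iff.rfl

/-- the two descriptions of the preimage of `Q` in the preimage of `T` -/
def eQC : (D.sub T hQT hTs).QC ≃* D.QC where
  toFun c := ⟨((c : D.TC T) : C), c.2⟩
  invFun c := ⟨⟨(c : C), D.QC_le_TC T hQT c.2⟩, c.2⟩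
  left_inv _ := rfl
  right_inv _ := rfl
  map_mul' _ _ := rfl

theorem eQC_coe (c : (D.sub T hQT hTs).QC) :
    ((D.eQC T hQT hTs c : D.QC) : C) = ((c : D.TC T) : C) := rfl

end Setup

end Cfsg.Agent.Lib.Helper8.RelGlau
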