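import Mathlib
import Cfsg.Agent.S0867
import Cfsg.Agent.Lib.Helper3.DetChar
import Cfsg.Agent.Lib.Helper6.Auto
import Cfsg.Agent.Lib.Helper6.Multiplicity

/-! # The canonical extension of an invariant character of a normal Sylow subgroup is invariant -/
set_option autoImplicit false
set_option linter.unusedSectionVars false

namespace Cfsg.Agent.Lib.Helper8.RelGlau

open Cfsg.Agent.Lib.Helper6 Cfsg.Agent.Lib.Helper3.DetChar

universe u

/-- the order of a function composed with a bijection -/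
theorem orderOf_comp_mulEquiv {T : Type*} [Group T] (a : T ≃* T) (lam : T → ℂ) :
    orderOf (fun t => lam (a t)) = orderOf lam := by
  rw [orderOf_eq_orderOf_iff]
  intro n
  constructor
  · intro h
    funext t
    have h1 := congrFun h (a.symm t)
    simp only [Pi.pow_apply, Pi.one_apply, MulEquiv.apply_symm_apply] at h1
    simpa using h1
  · intro h
    funext t
    have h1 := congrFun h (a t)
    simp only [Pi.pow_apply, Pi.one_apply] at h1
    simpa using h1

theorem detOrder_dvd_card {N : Type u} [Group N] [Finite N] {θ : N → ℂ}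
    (hθ : Cfsg.IsCharacter N θ) : Cfsg.detOrder θ ∣ Nat.card N := by
  unfold Cfsg.detOrder
  apply orderOf_dvd_of_pow_eq_one
  obtain ⟨f, hf⟩ := exists_hom_eq_detChar hθ
  rw [hf]
  funext n
  simp only [Pi.pow_apply, Pi.one_apply]
  rw [← Units.val_pow_eq_pow_val, ← map_pow, pow_card_eq_one', map_one, Units.val_one]

/-- an invariant irreducible character of a normal Sylow `p`-subgroup `N` of `T`, invariant
under a group `S` of automorphisms, has an `S`-invariant extension to `T` -/
theorem exists_invariant_extension {T : Type u} [Group T] [Finite T] {S : Type*} [Group S]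
    (p : ℕ) [hp : Fact p.Prime] (N : Subgroup T) [hN : N.Normal] (φ : S →* MulAut T)
    (hNs : ∀ (s : S), ∀ x ∈ N, φ s x ∈ N) (hNp : IsPGroup p N) (hcop : ¬ p ∣ N.index)
    (θ : N → ℂ) (hθ : Cfsg.IsIrrCharacter N θ)
    (hinv : ∀ (g : T) (n : N), θ ⟨g * n * g⁻¹, hN.conj_mem (n : T) n.2 g⟩ = θ n)
    (hθS : ∀ (s : S) (n : N), θ ⟨φ s n, hNs s n n.2⟩ = θ n) :
    ∃ ϑ : T → ℂ, Cfsg.IsIrrCharacter T ϑ ∧ (∀ n : N, ϑ n = θ n) ∧
      ∀ (s : S) (t : T), ϑ (φ s t) = ϑ t := by
  classical
  haveI : Fintype T := Fintype.ofFinite T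
  haveI : Fintype N := Fintype.ofFinite N
  have hθc := IsIrrCharacter.isCharacter hθ
  obtain ⟨a, ha⟩ := hNp.exists_card_eq
  have hd := IsCharacter.apply_one_eq_charDegree hθc
  have h1 : Cfsg.detOrder θ ∣ p ^ a := ha ▸ detOrder_dvd_card hθc
  have h2 : Cfsg.charDegree θ ∣ p ^ a := ha ▸ IsIrrCharacter.charDegree_dvd_card hθ
  have hcp : Nat.Coprime N.index p :=
    ((Nat.Prime.coprime_iff_not_dvd hp.out).mpr hcop).symm
  have hcop' : Nat.Coprime N.index (Cfsg.detOrder θ * Cfsg.charDegree θ) := by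
    apply Nat.Coprime.coprime_dvd_right (Nat.mul_dvd_mul h1 h2)
    rw [← pow_add]
    exact Nat.Coprime.pow_right _ hcp
  obtain ⟨χ, ⟨hχ, hext, hdet⟩, huniq⟩ :=
    Cfsg.Agent.S0867.result N θ hθ hinv (Cfsg.charDegree θ) hd hcop'
  refine ⟨χ, hχ, hext, ?_⟩
  intro s t
  have hχ' : Cfsg.IsIrrCharacter T (fun t => χ (φ s t)) :=
    IsIrrCharacter.comp_mulEquiv (φ s : T ≃* T) hχ
  have hext' : ∀ n : N, (fun t => χ (φ s t)) n = θ n := by
    intro n
    show χ (φ s n) = θ n
    have := hext ⟨φ s n, hNs s n n.2⟩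
    rw [hθS] at this
    exact this
  have hdet' : Cfsg.detOrder (fun t => χ (φ s t)) = Cfsg.detOrder χ := by
    unfold Cfsg.detOrder
    have := detChar_comp (φ s : T ≃* T).toMonoidHom (IsIrrCharacter.isCharacter hχ)
    have e : (fun k => χ ((φ s : T ≃* T).toMonoidHom k)) = fun t => χ (φ s t) := rfl
    rw [e] at this
    rw [this]
    exact orderOf_comp_mulEquiv (φ s : T ≃* T) (Cfsg.detChar χ)
  have hc : Nat.Coprime N.index (Cfsg.detOrder (fun t => χ (φ s t))) := by
    rw [hdet', hdet]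
    apply Nat.Coprime.coprime_dvd_right h1
    exact Nat.Coprime.pow_right _ hcp
  have := huniq _ hχ' hext' hc
  exact congrFun this t

end Cfsg.Agent.Lib.Helper8.RelGlau
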