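import Mathlib
import Cfsg.Agent.Lib.Helper8.CliffInj
import Cfsg.Agent.Lib.Helper8.GlauN1
import Cfsg.Agent.Lib.Helper6.Auto
import Cfsg.Agent.Lib.Helper6.CharOps

/-! # Complements on the Clifford correspondence -/
set_option autoImplicit false
set_option linter.unusedSectionVars false

namespace Cfsg.Agent.Lib.Helper8.RelGlau

open Cfsg.Agent.Lib.Helper6 Cfsg.Agent.Lib.Helper8.GlauP
open scoped ComplexConjugate

section CP

variable {G : Type*} [Group G] [Fintype G]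

/-- Frobenius reciprocity, with the restriction on the left -/
theorem classInner_restrict_left (H : Subgroup G) [Fintype H] {χ : G → ℂ}
    (hχ : Cfsg.IsClassFunction G χ) (ψ : H → ℂ) :
    Cfsg.classInner (fun h : H => χ h) ψ = Cfsg.classInner χ (Cfsg.indFun H ψ) := by
  rw [← classInner_conj_symm, ← Cfsg.Agent.S0146.result H ψ χ hχ]
  exact classInner_conj_symm _ _

variable (N : Subgroup G) [Fintype N] (hN : N.Normal) (T : Subgroup G) [Fintype T] (hNT : N ≤ T)
variable (θ : Cfsg.IrrCharacter N)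
  (hstab : ∀ g : G, conjFun N hN (θ : N → ℂ) g = (θ : N → ℂ) → g ∈ T)

include hstab in
/-- the restriction to `T` of the induced character contains a character over `θ` only if it is
the one induced, and then once -/
theorem classInner_restrict_indFun (ψ ψ' : Cfsg.IrrCharacter T)
    (hc : Cfsg.classInner (fun n : N => (ψ : T → ℂ) ⟨n, hNT n.2⟩) (θ : N → ℂ) ≠ 0)
    (hc' : Cfsg.classInner (fun n : N => (ψ' : T → ℂ) ⟨n, hNT n.2⟩) (θ : N → ℂ) ≠ 0) :
    Cfsg.classInner (fun t : T => Cfsg.indFun T (ψ : T → ℂ) t) (ψ' : T → ℂ)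
      = if ψ = ψ' then 1 else 0 := by
  have hirr := indFun_isIrrCharacter_of_stab N hN T hNT θ hstab ψ hc
  have hirr' := indFun_isIrrCharacter_of_stab N hN T hNT θ hstab ψ' hc'
  rw [classInner_restrict_left T (IsIrrCharacter.isClassFunction hirr),
    classInner_isIrrCharacter hirr hirr']
  by_cases h : ψ = ψ'
  · rw [if_pos h, if_pos (by rw [h])]
  · rw [if_neg h, if_neg]
    intro hcon
    exact h (CliffInj.indFun_injective_of_stab N hN T hNT θ hstab ψ ψ' hc hc' hcon)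

include hstab in
/-- multiplicities in a pull-back of an induced character, when only characters over `θ`
contribute -/
theorem rmult_indFun_comp {X : Type*} [Group X] [Fintype X] (j : X →* T)
    (ψ : Cfsg.IrrCharacter T)
    (hc : Cfsg.classInner (fun n : N => (ψ : T → ℂ) ⟨n, hNT n.2⟩) (θ : N → ℂ) ≠ 0)
    {ζ : X → ℂ} (hζ : Cfsg.IsIrrCharacter X ζ)
    (hover : ∀ ψ' : Cfsg.IrrCharacter T, rmult j (ψ' : T → ℂ) ζ ≠ 0 →
      Cfsg.classInner (fun n : N => (ψ' : T → ℂ) ⟨n, hNT n.2⟩) (θ : N → ℂ) ≠ 0) :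
    rmult (T.subtype.comp j) (Cfsg.indFun T (ψ : T → ℂ)) ζ = rmult j (ψ : T → ℂ) ζ := by
  classical
  haveI : Fintype (Cfsg.IrrCharacter T) := Fintype.ofFinite _
  have hχ : Cfsg.IsCharacter G (Cfsg.indFun T (ψ : T → ℂ)) :=
    IsCharacter.indFun T (IsIrrCharacter.isCharacter ψ.2)
  have e : (fun h : T => Cfsg.indFun T (ψ : T → ℂ) (T.subtype h))
      = fun t : T => Cfsg.indFun T (ψ : T → ℂ) t := rfl
  rw [rmult_comp T.subtype j hχ hζ, Finset.sum_eq_single ψ]
  · have h1 := rmult_spec T.subtype hχ ψ.2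
    have h2 := classInner_restrict_indFun N hN T hNT θ hstab ψ ψ hc hc
    rw [if_pos rfl] at h2
    rw [e, h2] at h1
    have : rmult T.subtype (Cfsg.indFun T (ψ : T → ℂ)) (ψ : T → ℂ) = 1 := by
      exact_mod_cast h1.symm
    rw [this, one_mul]
  · intro η _ hη
    by_cases h0 : rmult j (η : T → ℂ) ζ = 0
    · rw [h0, mul_zero]
    · have hcη := hover η h0
      have h1 := rmult_spec T.subtype hχ η.2
      have h2 := classInner_restrict_indFun N hN T hNT θ hstab ψ η hc hcη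
      rw [if_neg (fun h => hη h.symm)] at h2
      rw [e, h2] at h1
      have : rmult T.subtype (Cfsg.indFun T (ψ : T → ℂ)) (η : T → ℂ) = 0 := by
        exact_mod_cast h1.symm
      rw [this, zero_mul]
  · intro h
    exact absurd (Finset.mem_univ _) h

include hstab in
/-- the character induced from an invariant character is invariant -/
theorem indFun_comp_of_inv (a : G ≃* G) (aT : T ≃* T) (haT : ∀ t : T, ((aT t : T) : G) = a t)
    (ψ : Cfsg.IrrCharacter T)
    (hc : Cfsg.classInner (fun n : N => (ψ : T → ℂ) ⟨n, hNT n.2⟩) (θ : N → ℂ) ≠ 0)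
    (hψa : ∀ t, (ψ : T → ℂ) (aT t) = (ψ : T → ℂ) t) (g : G) :
    Cfsg.indFun T (ψ : T → ℂ) (a g) = Cfsg.indFun T (ψ : T → ℂ) g := by
  have hirr := indFun_isIrrCharacter_of_stab N hN T hNT θ hstab ψ hc
  have hirr' : Cfsg.IsIrrCharacter G (fun g => Cfsg.indFun T (ψ : T → ℂ) (a g)) :=
    IsIrrCharacter.comp_mulEquiv a hirr
  have h1 : Cfsg.classInner (fun t : T => (fun g => Cfsg.indFun T (ψ : T → ℂ) (a g)) t)
      (ψ : T → ℂ) = 1 := by
    have e1 : (fun t : T => (fun g => Cfsg.indFun T (ψ : T → ℂ) (a g)) t)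
        = fun t : T => (fun t : T => Cfsg.indFun T (ψ : T → ℂ) t) (aT t) := by
      funext t
      show Cfsg.indFun T (ψ : T → ℂ) (a t) = Cfsg.indFun T (ψ : T → ℂ) ((aT t : T) : G)
      rw [haT]
    have h3 := classInner_comp_mulEquiv aT (fun t : T => Cfsg.indFun T (ψ : T → ℂ) t)
      (ψ : T → ℂ)
    have e2 : (fun t => (ψ : T → ℂ) (aT t)) = (ψ : T → ℂ) := funext hψa
    rw [e2] at h3
    rw [e1, h3, classInner_restrict_indFun N hN T hNT θ hstab ψ ψ hc hc, if_pos rfl]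
  rw [classInner_restrict_left T (IsIrrCharacter.isClassFunction hirr'),
    classInner_isIrrCharacter hirr' hirr] at h1
  by_cases h : (fun g => Cfsg.indFun T (ψ : T → ℂ) (a g)) = Cfsg.indFun T (ψ : T → ℂ)
  · exact congrFun h g
  · rw [if_neg h] at h1
    exact absurd h1 zero_ne_one

include hstab in
/-- the Clifford correspondent of an invariant character is invariant -/
theorem inv_of_indFun_comp (a : G ≃* G) (aT : T ≃* T) (aN : N ≃* N)
    (haT : ∀ t : T, ((aT t : T) : G) = a t) (haN : ∀ n : N, ((aN n : N) : G) = a n)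
    (hθa : ∀ n, (θ : N → ℂ) (aN n) = (θ : N → ℂ) n) (ψ : Cfsg.IrrCharacter T)
    (hc : Cfsg.classInner (fun n : N => (ψ : T → ℂ) ⟨n, hNT n.2⟩) (θ : N → ℂ) ≠ 0)
    (hχa : ∀ g, Cfsg.indFun T (ψ : T → ℂ) (a g) = Cfsg.indFun T (ψ : T → ℂ) g) (t : T) :
    (ψ : T → ℂ) (aT t) = (ψ : T → ℂ) t := by
  obtain ⟨ψ', hψ'⟩ : ∃ ψ' : Cfsg.IrrCharacter T, (ψ' : T → ℂ) = fun t => (ψ : T → ℂ) (aT t) :=
    ⟨⟨fun t => (ψ : T → ℂ) (aT t), IsIrrCharacter.comp_mulEquiv aT ψ.2⟩, rfl⟩
  have hc' : Cfsg.classInner (fun n : N => (ψ' : T → ℂ) ⟨n, hNT n.2⟩) (θ : N → ℂ) ≠ 0 := by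
    have e1 : (fun n : N => (ψ' : T → ℂ) ⟨n, hNT n.2⟩)
        = fun n : N => (fun n : N => (ψ : T → ℂ) ⟨n, hNT n.2⟩) (aN n) := by
      funext n
      rw [hψ']
      show (ψ : T → ℂ) (aT ⟨n, hNT n.2⟩) = (ψ : T → ℂ) ⟨(aN n : N), hNT (aN n).2⟩
      refine congrArg _ (Subtype.ext ?_)
      rw [haT]
      exact (haN n).symm
    have e2 : (fun n => (θ : N → ℂ) (aN n)) = (θ : N → ℂ) := funext hθa
    have h3 := classInner_comp_mulEquiv aN (fun n : N => (ψ : T → ℂ) ⟨n, hNT n.2⟩) (θ : N → ℂ)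
    rw [e2] at h3
    rw [e1, h3]
    exact hc
  have h1 := classInner_restrict_indFun N hN T hNT θ hstab ψ ψ' hc hc'
  have h2 : Cfsg.classInner (fun t : T => Cfsg.indFun T (ψ : T → ℂ) t) (ψ' : T → ℂ) = 1 := by
    have e1 : (fun t : T => Cfsg.indFun T (ψ : T → ℂ) t)
        = fun t : T => (fun t : T => Cfsg.indFun T (ψ : T → ℂ) t) (aT t) := by
      funext t
      show Cfsg.indFun T (ψ : T → ℂ) t = Cfsg.indFun T (ψ : T → ℂ) ((aT t : T) : G)
      rw [haT, hχa]
    have h3 := classInner_comp_mulEquiv aT (fun t : T => Cfsg.indFun T (ψ : T → ℂ) t)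
      (ψ : T → ℂ)
    rw [← e1] at h3
    rw [hψ', h3, classInner_restrict_indFun N hN T hNT θ hstab ψ ψ hc hc, if_pos rfl]
  rw [h2] at h1
  by_cases h : ψ = ψ'
  · have h4 := congrFun hψ' t
    rw [← h] at h4
    exact h4.symm
  · rw [if_neg h] at h1
    exact absurd h1 one_ne_zero

end CP

end Cfsg.Agent.Lib.Helper8.RelGlau
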