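import Mathlib
import Cfsg.Agent.Lib.Helper8.RG4
import Cfsg.Agent.Lib.Helper8.RG5
import Cfsg.Agent.Lib.Helper8.RG6
import Cfsg.Agent.Lib.Helper6.Ito
import Cfsg.Agent.Lib.Helper6.BlkFRDict

/-! # The relative Glauberman correspondence: the inertia group of an invariant character -/
set_option autoImplicit false
set_option linter.unusedSectionVars false

namespace Cfsg.Agent.Lib.Helper8.RelGlau

open Cfsg.Agent.Lib.Helper6 Cfsg.Agent.Lib.Helper8.GlauP Cfsg.Agent.Lib.Helper8.GlauL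

namespace Setup

variable {p : ℕ} {K C S : Type*} [Group K] [Group C] [Group S] (D : Setup p K C S)
variable (θ : Cfsg.IrrCharacter D.Q)

/-- the inertia group -/
def TK : Subgroup K := inertia D.Q D.hQn (θ : D.Q → ℂ)

theorem mem_TK (k : K) : k ∈ D.TK θ ↔ conjFun D.Q D.hQn (θ : D.Q → ℂ) k = (θ : D.Q → ℂ) :=
  Iff.rfl

theorem Q_le_TK [Finite K] : D.Q ≤ D.TK θ :=
  le_inertia D.Q D.hQn (IsIrrCharacter.isClassFunction θ.2)

theorem θ_congr (x y : D.Q) (h : (x : K) = y) : (θ : D.Q → ℂ) x = (θ : D.Q → ℂ) y := by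
  rw [Subtype.ext h]

theorem TK_stable
    (hθS : ∀ (s : S) (q : D.Q), (θ : D.Q → ℂ) ⟨D.φK s q, D.hQs s q q.2⟩ = (θ : D.Q → ℂ) q)
    (s : S) : ∀ t ∈ D.TK θ, D.φK s t ∈ D.TK θ := by
  intro t ht
  rw [mem_TK] at ht ⊢
  funext q
  rw [conjFun_apply]
  have hq' : (D.φK s)⁻¹ (q : K) ∈ D.Q := by
    have := D.hQs s⁻¹ q q.2
    rwa [map_inv] at this
  obtain ⟨q', hq'def⟩ : ∃ q' : D.Q, (q' : K) = (D.φK s)⁻¹ (q : K) := ⟨⟨_, hq'⟩, rfl⟩
  have h1 := congrFun ht q'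
  rw [conjFun_apply] at h1
  have h2 := hθS s ⟨t * q' * t⁻¹, D.hQn.conj_mem q' q'.2 t⟩
  have h3 := hθS s q'
  have e1 : (θ : D.Q → ℂ) ⟨D.φK s t * q * (D.φK s t)⁻¹, D.hQn.conj_mem q q.2 (D.φK s t)⟩
      = (θ : D.Q → ℂ) ⟨D.φK s (t * q' * t⁻¹),
        D.hQs s _ (D.hQn.conj_mem q' q'.2 t)⟩ := by
    apply D.θ_congr
    show D.φK s t * q * (D.φK s t)⁻¹ = D.φK s (t * q' * t⁻¹)
    rw [map_mul, map_mul, map_inv, hq'def, MulAut.apply_inv_self]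
  have e2 : (θ : D.Q → ℂ) ⟨D.φK s q', D.hQs s q' q'.2⟩ = (θ : D.Q → ℂ) q := by
    apply D.θ_congr
    show D.φK s q' = q
    rw [hq'def, MulAut.apply_inv_self]
  rw [e1, h2, h1, ← h3, e2]

/-- the character of the preimage of `Q` corresponding to `θ` -/
noncomputable def θC [Finite K] [Finite C] : Cfsg.IrrCharacter D.QC :=
  ⟨fun q => (θ : D.Q → ℂ) (D.eQ q), IsIrrCharacter.comp_mulEquiv D.eQ θ.2⟩

theorem θC_apply [Finite K] [Finite C] (q : D.QC) :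
    (D.θC θ : D.QC → ℂ) q = (θ : D.Q → ℂ) (D.eQ q) := rfl

/-- being over `θ`, seen from `C` -/
theorem classInner_comp_θC [Fintype K] [Fintype C] [Fintype D.Q] [Fintype D.QC] (X : K → ℂ) :
    Cfsg.classInner (fun n : D.QC => X (D.ι n)) (D.θC θ : D.QC → ℂ)
      = Cfsg.classInner (fun n : D.Q => X n) (θ : D.Q → ℂ) :=
  classInner_comp_mulEquiv D.eQ (fun n : D.Q => X n) (θ : D.Q → ℂ)

/-- the stabilizer of `θ` in `C` is the preimage of the inertia group -/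
theorem stab_θC [Finite K] [Finite C] (c : C)
    (h : conjFun D.QC inferInstance (D.θC θ : D.QC → ℂ) c = (D.θC θ : D.QC → ℂ)) :
    c ∈ D.TC (D.TK θ) := by
  rw [mem_TC, mem_TK]
  funext q
  rw [conjFun_apply]
  obtain ⟨q', hq'⟩ : ∃ q' : D.QC, D.eQ q' = q := ⟨D.eQ.symm q, D.eQ.apply_symm_apply q⟩
  have h1 := congrFun h q'
  rw [conjFun_apply, θC_apply, θC_apply, hq'] at h1
  rw [← h1]
  apply D.θ_congr
  show D.ι c * q * (D.ι c)⁻¹ = D.ι (c * q' * c⁻¹)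
  rw [map_mul, map_mul, map_inv, ← hq']
  rfl

/-- `θ_C` is invariant -/
theorem θC_inv [Finite K] [Finite C]
    (hθS : ∀ (s : S) (q : D.Q), (θ : D.Q → ℂ) ⟨D.φK s q, D.hQs s q q.2⟩ = (θ : D.Q → ℂ) q)
    (s : S) (q : D.QC) (h : D.φC s q ∈ D.QC) :
    (D.θC θ : D.QC → ℂ) ⟨D.φC s q, h⟩ = (D.θC θ : D.QC → ℂ) q := by
  rw [θC_apply, θC_apply, ← hθS s (D.eQ q)]
  apply D.θ_congr
  show D.ι (D.φC s q) = D.φK s (D.ι q)
  exact D.hι s q

theorem QC_stable (s : S) : ∀ q ∈ D.QC, D.φC s q ∈ D.QC := by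
  intro q hq
  rw [mem_QC, D.hι]
  exact D.hQs s _ hq

end Setup

end Cfsg.Agent.Lib.Helper8.RelGlau
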