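import Mathlib
import Cfsg.Agent.Lib.Helper8.RG7
import Cfsg.Agent.Lib.Helper8.GlauL6

/-! # The relative Glauberman correspondence: the characters over a fixed invariant character -/
set_option autoImplicit false
set_option linter.unusedSectionVars false

namespace Cfsg.Agent.Lib.Helper8.RelGlau

open Cfsg.Agent.Lib.Helper6 Cfsg.Agent.Lib.Helper8.GlauP Cfsg.Agent.Lib.Helper8.GlauL
open scoped ComplexConjugate

/-- the data attached to an invariant character of `Q`, with an invariant extension to its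
inertia group -/
structure Ctx (p : ℕ) (K C S : Type*) [Group K] [Group C] [Group S] [Finite K] where
  D : Setup p K C S
  θ : Cfsg.IrrCharacter D.Q
  hθS : ∀ (s : S) (q : D.Q), (θ : D.Q → ℂ) ⟨D.φK s q, D.hQs s q q.2⟩ = (θ : D.Q → ℂ) q
  ϑ : D.TK θ → ℂ
  hϑ : Cfsg.IsIrrCharacter (D.TK θ) ϑ
  hϑext : ∀ (t : D.TK θ) (h : (t : K) ∈ D.Q), ϑ t = (θ : D.Q → ℂ) ⟨t, h⟩
  hϑS : ∀ (s : S) (t : D.TK θ), ϑ ⟨D.φK s t, D.TK_stable θ hθS s t t.2⟩ = ϑ t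

namespace Ctx

variable {p : ℕ} {K C S : Type*} [Group K] [Group C] [Group S] [Fintype K] [Fintype C]
variable (X : Ctx p K C S)

/-- the inertia group -/
abbrev T : Subgroup K := X.D.TK X.θ

/-- its preimage -/
abbrev TC : Subgroup C := X.D.TC X.T

theorem hQT : X.D.Q ≤ X.T := X.D.Q_le_TK X.θ

theorem hQCTC : X.D.QC ≤ X.TC := X.D.QC_le_TC X.T X.hQT

/-- the restricted setting -/
def DT : Setup p X.T X.TC S := X.D.sub X.T X.hQT (X.D.TK_stable X.θ X.hθS)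

/-- the two descriptions of `Q` in the inertia group -/
def eQT : X.DT.Q ≃* X.D.Q := Subgroup.subgroupOfEquivOfLe X.hQT

theorem eQT_coe (n : X.DT.Q) : ((X.eQT n : X.D.Q) : K) = ((n : X.T) : K) := rfl

/-- the two descriptions of the preimage of `Q` -/
def eQCT : X.DT.QC ≃* X.D.QC := X.D.eQC X.T X.hQT (X.D.TK_stable X.θ X.hθS)

theorem eQCT_coe (n : X.DT.QC) : ((X.eQCT n : X.D.QC) : C) = ((n : X.TC) : C) := rfl

theorem hϑS' (s : S) (t : X.T) : X.ϑ (X.DT.φK s t) = X.ϑ t := X.hϑS s t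

theorem ϑ_restrict : (fun q : X.DT.Q => X.ϑ q) = fun q => (X.θ : X.D.Q → ℂ) (X.eQT q) := by
  funext q
  exact X.hϑext q q.2

theorem hϑQ : Cfsg.IsIrrCharacter X.DT.Q (fun q : X.DT.Q => X.ϑ q) := by
  rw [X.ϑ_restrict]
  exact IsIrrCharacter.comp_mulEquiv X.eQT X.θ.2

theorem ϑC_restrict : (fun q : X.DT.QC => X.ϑ (X.DT.ι q))
    = fun q => (X.D.θC X.θ : X.D.QC → ℂ) (X.eQCT q) := by
  funext q
  rw [Setup.θC_apply]
  exact X.hϑext (X.DT.ι q) q.2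

variable [Fintype X.D.Q] [Fintype X.D.QC] [Fintype X.T] [Fintype X.TC] [Fintype X.DT.Q]
  [Fintype X.DT.QC] [Fintype (X.T ⧸ X.DT.Q)] [Fintype (X.TC ⧸ X.DT.QC)]

/-- the characters of the inertia group over `θ` -/
noncomputable def galK (β : X.T ⧸ X.DT.Q → ℂ) : X.T → ℂ := gal X.DT.Q X.ϑ β

/-- the characters of the inertia group in `C` over `θ` -/
noncomputable def galC (γ : X.TC ⧸ X.DT.QC → ℂ) : X.TC → ℂ :=
  gal X.DT.QC (fun c => X.ϑ (X.DT.ι c)) γ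

theorem galK_irr {β : X.T ⧸ X.DT.Q → ℂ} (hβ : Cfsg.IsIrrCharacter (X.T ⧸ X.DT.Q) β) :
    Cfsg.IsIrrCharacter X.T (X.galK β) :=
  gal_isIrrCharacter X.DT.Q X.hϑ X.hϑQ hβ

theorem galC_irr {γ : X.TC ⧸ X.DT.QC → ℂ} (hγ : Cfsg.IsIrrCharacter (X.TC ⧸ X.DT.QC) γ) :
    Cfsg.IsIrrCharacter X.TC (X.galC γ) :=
  gal_isIrrCharacter X.DT.QC (X.DT.irr_comp X.hϑ X.hϑQ) (X.DT.irr_comp_QC X.hϑQ) hγ

theorem galK_over {β : X.T ⧸ X.DT.Q → ℂ} (hβ : Cfsg.IsIrrCharacter (X.T ⧸ X.DT.Q) β) :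
    Cfsg.classInner (fun n : X.D.Q => X.galK β ⟨n, X.hQT n.2⟩) (X.θ : X.D.Q → ℂ) ≠ 0 := by
  have h1 : (fun n : X.D.Q => X.galK β ⟨n, X.hQT n.2⟩) = (β 1) • (X.θ : X.D.Q → ℂ) := by
    funext n
    show β (QuotientGroup.mk ⟨n, X.hQT n.2⟩) * X.ϑ ⟨n, X.hQT n.2⟩
      = β 1 * (X.θ : X.D.Q → ℂ) n
    rw [X.hϑext ⟨n, X.hQT n.2⟩ n.2]
    have : (QuotientGroup.mk (⟨n, X.hQT n.2⟩ : X.T) : X.T ⧸ X.DT.Q) = 1 := by
      rw [QuotientGroup.eq_one_iff]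
      exact n.2
    rw [this]
  rw [h1, classInner_smul_left, classInner_irrCharacter X.θ X.θ, if_pos rfl, mul_one]
  exact IsIrrCharacter.apply_one_ne_zero hβ

theorem galC_over {γ : X.TC ⧸ X.DT.QC → ℂ} (hγ : Cfsg.IsIrrCharacter (X.TC ⧸ X.DT.QC) γ) :
    Cfsg.classInner (fun n : X.D.QC => X.galC γ ⟨n, X.hQCTC n.2⟩)
      (X.D.θC X.θ : X.D.QC → ℂ) ≠ 0 := by
  have h1 : (fun n : X.D.QC => X.galC γ ⟨n, X.hQCTC n.2⟩)
      = (γ 1) • (X.D.θC X.θ : X.D.QC → ℂ) := by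
    funext n
    show γ (QuotientGroup.mk ⟨n, X.hQCTC n.2⟩) * X.ϑ (X.DT.ι ⟨n, X.hQCTC n.2⟩)
      = γ 1 * (X.D.θC X.θ : X.D.QC → ℂ) n
    have : (QuotientGroup.mk (⟨n, X.hQCTC n.2⟩ : X.TC) : X.TC ⧸ X.DT.QC) = 1 := by
      rw [QuotientGroup.eq_one_iff]
      exact n.2
    rw [this, X.hϑext (X.DT.ι ⟨n, X.hQCTC n.2⟩) n.2, Setup.θC_apply]
    rfl
  rw [h1, classInner_smul_left, classInner_irrCharacter (X.D.θC X.θ) (X.D.θC X.θ), if_pos rfl,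
    mul_one]
  exact IsIrrCharacter.apply_one_ne_zero hγ

/-- the characters of `K` over `θ` -/
noncomputable def indK (β : X.T ⧸ X.DT.Q → ℂ) : K → ℂ := Cfsg.indFun X.T (X.galK β)

/-- the characters of `C` over `θ` -/
noncomputable def indC (γ : X.TC ⧸ X.DT.QC → ℂ) : C → ℂ := Cfsg.indFun X.TC (X.galC γ)

theorem hstabK : ∀ g : K, conjFun X.D.Q X.D.hQn (X.θ : X.D.Q → ℂ) g = (X.θ : X.D.Q → ℂ) →
    g ∈ X.T := fun _ h => h

theorem hstabC : ∀ c : C, conjFun X.D.QC inferInstance (X.D.θC X.θ : X.D.QC → ℂ) c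
    = (X.D.θC X.θ : X.D.QC → ℂ) → c ∈ X.TC := X.D.stab_θC X.θ

theorem indK_irr {β : X.T ⧸ X.DT.Q → ℂ} (hβ : Cfsg.IsIrrCharacter (X.T ⧸ X.DT.Q) β) :
    Cfsg.IsIrrCharacter K (X.indK β) :=
  indFun_isIrrCharacter_of_stab X.D.Q X.D.hQn X.T X.hQT X.θ X.hstabK
    ⟨X.galK β, X.galK_irr hβ⟩ (X.galK_over hβ)

theorem indC_irr {γ : X.TC ⧸ X.DT.QC → ℂ} (hγ : Cfsg.IsIrrCharacter (X.TC ⧸ X.DT.QC) γ) :
    Cfsg.IsIrrCharacter C (X.indC γ) :=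
  indFun_isIrrCharacter_of_stab X.D.QC inferInstance X.TC X.hQCTC (X.D.θC X.θ) X.hstabC
    ⟨X.galC γ, X.galC_irr hγ⟩ (X.galC_over hγ)

theorem indK_over {β : X.T ⧸ X.DT.Q → ℂ} (hβ : Cfsg.IsIrrCharacter (X.T ⧸ X.DT.Q) β) :
    Cfsg.classInner (fun n : X.D.Q => X.indK β n) (X.θ : X.D.Q → ℂ) ≠ 0 := by
  have h : Cfsg.classInner (fun n : X.D.Q => Cfsg.indFun X.T (X.galK β) n) (X.θ : X.D.Q → ℂ)
      = Cfsg.classInner (fun n : X.D.Q => X.galK β ⟨n, X.hQT n.2⟩) (X.θ : X.D.Q → ℂ) :=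
    classInner_indFun_restrict_of_stab X.D.Q X.D.hQn X.T X.hQT X.θ X.hstabK
      ⟨X.galK β, X.galK_irr hβ⟩ (X.galK_over hβ)
  unfold indK
  rw [h]
  exact X.galK_over hβ

theorem indC_over {γ : X.TC ⧸ X.DT.QC → ℂ} (hγ : Cfsg.IsIrrCharacter (X.TC ⧸ X.DT.QC) γ) :
    Cfsg.classInner (fun n : X.D.QC => X.indC γ n) (X.D.θC X.θ : X.D.QC → ℂ) ≠ 0 := by
  have h : Cfsg.classInner (fun n : X.D.QC => Cfsg.indFun X.TC (X.galC γ) n)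
        (X.D.θC X.θ : X.D.QC → ℂ)
      = Cfsg.classInner (fun n : X.D.QC => X.galC γ ⟨n, X.hQCTC n.2⟩)
        (X.D.θC X.θ : X.D.QC → ℂ) :=
    classInner_indFun_restrict_of_stab X.D.QC inferInstance X.TC X.hQCTC (X.D.θC X.θ) X.hstabC
      ⟨X.galC γ, X.galC_irr hγ⟩ (X.galC_over hγ)
  unfold indC
  rw [h]
  exact X.galC_over hγ

end Ctx

end Cfsg.Agent.Lib.Helper8.RelGlau
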