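import Mathlib
import Cfsg.Agent.Lib.Helper8.RG8

/-! # The relative Glauberman correspondence: parametrization of the characters over `θ` -/
set_option autoImplicit false
set_option linter.unusedSectionVars false

namespace Cfsg.Agent.Lib.Helper8.RelGlau

open Cfsg.Agent.Lib.Helper6 Cfsg.Agent.Lib.Helper8.GlauP Cfsg.Agent.Lib.Helper8.GlauL
open scoped ComplexConjugate

namespace Ctx

variable {p : ℕ} {K C S : Type*} [Group K] [Group C] [Group S] [Fintype K] [Fintype C]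
variable (X : Ctx p K C S)
variable [Fintype X.D.Q] [Fintype X.D.QC] [Fintype X.T] [Fintype X.TC] [Fintype X.DT.Q]
  [Fintype X.DT.QC] [Fintype (X.T ⧸ X.DT.Q)] [Fintype (X.TC ⧸ X.DT.QC)]

/-- every character of `K` over `θ` is of the form `indK β` -/
theorem exists_β (χ : Cfsg.IrrCharacter K)
    (hc : Cfsg.classInner (fun n : X.D.Q => (χ : K → ℂ) n) (X.θ : X.D.Q → ℂ) ≠ 0) :
    ∃ β : X.T ⧸ X.DT.Q → ℂ, Cfsg.IsIrrCharacter (X.T ⧸ X.DT.Q) β ∧ (χ : K → ℂ) = X.indK β := by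
  obtain ⟨ψ, hψc, hψ⟩ := exists_indFun_eq_of_stab X.D.Q X.D.hQn X.T X.hQT X.θ X.hstabK χ hc
  have hover : Cfsg.classInner (fun n : X.DT.Q => (ψ : X.T → ℂ) n) (fun n : X.DT.Q => X.ϑ n)
      ≠ 0 := by
    rw [X.ϑ_restrict]
    have h1 : (fun n : X.DT.Q => (ψ : X.T → ℂ) n)
        = fun n : X.DT.Q => (fun m : X.D.Q => (ψ : X.T → ℂ) ⟨m, X.hQT m.2⟩) (X.eQT n) := by
      funext n
      rfl
    have h2 := classInner_comp_mulEquiv X.eQT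
      (fun m : X.D.Q => (ψ : X.T → ℂ) ⟨m, X.hQT m.2⟩) (X.θ : X.D.Q → ℂ)
    rw [h1, h2]
    exact hψc
  obtain ⟨β, hβ, hψβ⟩ := gal_surjective X.DT.Q X.hϑ X.hϑQ ψ.2 hover
  refine ⟨β, hβ, ?_⟩
  rw [← hψ, hψβ]
  rfl

/-- every character of `C` over `θ` is of the form `indC γ` -/
theorem exists_γ (ξ : Cfsg.IrrCharacter C)
    (hc : Cfsg.classInner (fun n : X.D.QC => (ξ : C → ℂ) n) (X.D.θC X.θ : X.D.QC → ℂ) ≠ 0) :
    ∃ γ : X.TC ⧸ X.DT.QC → ℂ, Cfsg.IsIrrCharacter (X.TC ⧸ X.DT.QC) γ ∧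
      (ξ : C → ℂ) = X.indC γ := by
  obtain ⟨η, hηc, hη⟩ := exists_indFun_eq_of_stab X.D.QC inferInstance X.TC X.hQCTC
    (X.D.θC X.θ) X.hstabC ξ hc
  have hover : Cfsg.classInner (fun n : X.DT.QC => (η : X.TC → ℂ) n)
      (fun n : X.DT.QC => (fun c => X.ϑ (X.DT.ι c)) n) ≠ 0 := by
    have h0 : (fun n : X.DT.QC => (fun c => X.ϑ (X.DT.ι c)) n)
        = fun q : X.DT.QC => X.ϑ (X.DT.ι q) := rfl
    rw [h0, X.ϑC_restrict]
    have h1 : (fun n : X.DT.QC => (η : X.TC → ℂ) n)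
        = fun n : X.DT.QC => (fun m : X.D.QC => (η : X.TC → ℂ) ⟨m, X.hQCTC m.2⟩) (X.eQCT n) := by
      funext n
      rfl
    have h2 := classInner_comp_mulEquiv X.eQCT
      (fun m : X.D.QC => (η : X.TC → ℂ) ⟨m, X.hQCTC m.2⟩) (X.D.θC X.θ : X.D.QC → ℂ)
    rw [h1, h2]
    exact hηc
  obtain ⟨γ, hγ, hηγ⟩ := gal_surjective X.DT.QC (X.DT.irr_comp X.hϑ X.hϑQ)
    (X.DT.irr_comp_QC X.hϑQ) η.2 hover
  refine ⟨γ, hγ, ?_⟩
  rw [← hη, hηγ]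
  rfl

theorem indK_injective {β β' : X.T ⧸ X.DT.Q → ℂ}
    (hβ : Cfsg.IsIrrCharacter (X.T ⧸ X.DT.Q) β) (hβ' : Cfsg.IsIrrCharacter (X.T ⧸ X.DT.Q) β')
    (h : X.indK β = X.indK β') : β = β' := by
  have h1 := CliffInj.indFun_injective_of_stab X.D.Q X.D.hQn X.T X.hQT X.θ X.hstabK
    ⟨X.galK β, X.galK_irr hβ⟩ ⟨X.galK β', X.galK_irr hβ'⟩ (X.galK_over hβ) (X.galK_over hβ') h
  exact gal_injective X.DT.Q X.hϑ X.hϑQ hβ hβ' (congrArg Subtype.val h1)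

theorem indC_injective {γ γ' : X.TC ⧸ X.DT.QC → ℂ}
    (hγ : Cfsg.IsIrrCharacter (X.TC ⧸ X.DT.QC) γ) (hγ' : Cfsg.IsIrrCharacter (X.TC ⧸ X.DT.QC) γ')
    (h : X.indC γ = X.indC γ') : γ = γ' := by
  have h1 := CliffInj.indFun_injective_of_stab X.D.QC inferInstance X.TC X.hQCTC (X.D.θC X.θ)
    X.hstabC ⟨X.galC γ, X.galC_irr hγ⟩ ⟨X.galC γ', X.galC_irr hγ'⟩ (X.galC_over hγ)
    (X.galC_over hγ') h
  exact gal_injective X.DT.QC (X.DT.irr_comp X.hϑ X.hϑQ) (X.DT.irr_comp_QC X.hϑQ) hγ hγ'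
    (congrArg Subtype.val h1)

/-- invariance of the characters over `θ` -/
theorem indK_inv_iff {β : X.T ⧸ X.DT.Q → ℂ} (hβ : Cfsg.IsIrrCharacter (X.T ⧸ X.DT.Q) β) :
    InvChar X.D.φK (X.indK β) ↔ X.DT.toPAct.Inv β := by
  rw [← X.DT.gal_inv_iff X.hϑ X.hϑQ X.hϑS' hβ]
  constructor
  · intro h s t
    exact inv_of_indFun_comp X.D.Q X.D.hQn X.T X.hQT X.θ X.hstabK (X.D.φK s) (X.DT.φK s)
      (restrictHom X.D.φK X.D.Q X.D.hQs s) (fun _ => rfl) (fun _ => rfl) (fun n => X.hθS s n)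
      ⟨X.galK β, X.galK_irr hβ⟩ (X.galK_over hβ) (h s) t
  · intro h s g
    exact indFun_comp_of_inv X.D.Q X.D.hQn X.T X.hQT X.θ X.hstabK (X.D.φK s) (X.DT.φK s)
      (fun _ => rfl) ⟨X.galK β, X.galK_irr hβ⟩ (X.galK_over hβ) (h s) g

/-- the characters of `C` over `θ` are invariant -/
theorem indC_inv {γ : X.TC ⧸ X.DT.QC → ℂ} (hγ : Cfsg.IsIrrCharacter (X.TC ⧸ X.DT.QC) γ) :
    InvChar X.D.φC (X.indC γ) := by
  intro s c
  exact indFun_comp_of_inv X.D.QC inferInstance X.TC X.hQCTC (X.D.θC X.θ) X.hstabC (X.D.φC s)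
    (X.DT.φC s) (fun _ => rfl) ⟨X.galC γ, X.galC_irr hγ⟩ (X.galC_over hγ)
    (fun t => X.DT.galC_inv X.hϑS' γ s t) c

/-- the multiplicities are those of the Glauberman correspondence of the quotient -/
theorem rmult_ind {β : X.T ⧸ X.DT.Q → ℂ} (hβ : Cfsg.IsIrrCharacter (X.T ⧸ X.DT.Q) β)
    {γ : X.TC ⧸ X.DT.QC → ℂ} (hγ : Cfsg.IsIrrCharacter (X.TC ⧸ X.DT.QC) γ) :
    rmult X.D.ι (X.indK β) (X.indC γ) = X.DT.toPAct.mult β γ := by
  classical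
  have hχ : Cfsg.IsCharacter K (X.indK β) := IsIrrCharacter.isCharacter (X.indK_irr hβ)
  have hcf : Cfsg.IsClassFunction C (fun c => X.indK β (X.D.ι c)) :=
    IsCharacter.isClassFunction (IsCharacter.comp X.D.ι hχ)
  have h1 := rmult_spec X.D.ι hχ (X.indC_irr hγ)
  have h2 : Cfsg.classInner (fun h => X.indK β (X.D.ι h)) (X.indC γ)
      = Cfsg.classInner (fun c : X.TC => (fun c => X.indK β (X.D.ι c)) c) (X.galC γ) :=
    (classInner_restrict_left X.TC hcf (X.galC γ)).symm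
  have h3 := rmult_spec (X.T.subtype.comp X.DT.ι) hχ (X.galC_irr hγ)
  have e3 : (fun h : X.TC => X.indK β ((X.T.subtype.comp X.DT.ι) h))
      = fun c : X.TC => (fun c => X.indK β (X.D.ι c)) c := rfl
  -- only characters over `θ` contribute
  have hover : ∀ ψ' : Cfsg.IrrCharacter X.T, rmult X.DT.ι (ψ' : X.T → ℂ) (X.galC γ) ≠ 0 →
      Cfsg.classInner (fun n : X.D.Q => (ψ' : X.T → ℂ) ⟨n, X.hQT n.2⟩) (X.θ : X.D.Q → ℂ) ≠ 0 := by
    intro ψ' hψ'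
    have hg : rmult (Subgroup.inclusion X.hQCTC) (X.galC γ) (X.D.θC X.θ : X.D.QC → ℂ) ≠ 0 := by
      have h4 := rmult_spec (Subgroup.inclusion X.hQCTC)
        (IsIrrCharacter.isCharacter (X.galC_irr hγ)) (X.D.θC X.θ).2
      intro h0
      apply X.galC_over hγ
      rw [h0, Nat.cast_zero] at h4
      exact h4
    have h5 := rmult_comp_ne_zero X.DT.ι (Subgroup.inclusion X.hQCTC)
      (IsIrrCharacter.isCharacter ψ'.2) ⟨X.galC γ, X.galC_irr hγ⟩ (X.D.θC X.θ).2 hψ' hg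
    have h6 := rmult_spec (X.DT.ι.comp (Subgroup.inclusion X.hQCTC))
      (IsIrrCharacter.isCharacter ψ'.2) (X.D.θC X.θ).2
    have e6 : (fun h : X.D.QC => (ψ' : X.T → ℂ) ((X.DT.ι.comp (Subgroup.inclusion X.hQCTC)) h))
        = fun n : X.D.QC => (fun m : X.D.Q => (ψ' : X.T → ℂ) ⟨m, X.hQT m.2⟩) (X.D.eQ n) := by
      funext n
      rfl
    have e7 : (X.D.θC X.θ : X.D.QC → ℂ) = fun n => (X.θ : X.D.Q → ℂ) (X.D.eQ n) := rfl
    have h10 := classInner_comp_mulEquiv X.D.eQ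
      (fun m : X.D.Q => (ψ' : X.T → ℂ) ⟨m, X.hQT m.2⟩) (X.θ : X.D.Q → ℂ)
    rw [e6, e7, h10] at h6
    rw [h6]
    rw [e7] at h5
    exact_mod_cast h5
  have h7 := rmult_indFun_comp X.D.Q X.D.hQn X.T X.hQT X.θ X.hstabK X.DT.ι
    ⟨X.galK β, X.galK_irr hβ⟩ (X.galK_over hβ) (X.galC_irr hγ) hover
  have h8 := X.DT.rmult_gal X.hϑ X.hϑQ hβ hγ
  have h9 : rmult (X.T.subtype.comp X.DT.ι) (X.indK β) (X.galC γ)
      = X.DT.toPAct.mult β γ := h7.trans h8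
  rw [h2, ← e3, h3, h9] at h1
  exact_mod_cast h1.symm

end Ctx

end Cfsg.Agent.Lib.Helper8.RelGlau
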