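import Mathlib
import Cfsg.Agent.Lib.Helper8.RG9
import Cfsg.Agent.Lib.Helper8.GlauE1

/-! # The relative Glauberman correspondence over a fixed invariant character of `Q` -/
set_option autoImplicit false
set_option linter.unusedSectionVars false

namespace Cfsg.Agent.Lib.Helper8.RelGlau

open Cfsg.Agent.Lib.Helper6 Cfsg.Agent.Lib.Helper8.GlauP Cfsg.Agent.Lib.Helper8.GlauL
open scoped ComplexConjugate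

namespace Ctx

variable {p : ℕ} {M : Ideal Cfsg.AlgInt}
variable {K C S : Type*} [Group K] [Group C] [Group S] [Fintype K] [Fintype C] [Finite S]
variable (X : Ctx p K C S)
variable [Fintype X.D.Q] [Fintype X.D.QC] [Fintype X.T] [Fintype X.TC] [Fintype X.DT.Q]
  [Fintype X.DT.QC] [Fintype (X.T ⧸ X.DT.Q)] [Fintype (X.TC ⧸ X.DT.QC)]

/-- existence and uniqueness of the correspondent over `θ` -/
theorem exists_correspondent (hM : Cfsg.IsPModular p M) (χ : Cfsg.IrrCharacter K)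
    (hχS : InvChar X.D.φK (χ : K → ℂ))
    (hc : Cfsg.classInner (fun n : X.D.Q => (χ : K → ℂ) n) (X.θ : X.D.Q → ℂ) ≠ 0) :
    ∃ ξ : Cfsg.IrrCharacter C, InvChar X.D.φC (ξ : C → ℂ) ∧
      Cfsg.classInner (fun n : X.D.QC => (ξ : C → ℂ) n) (X.D.θC X.θ : X.D.QC → ℂ) ≠ 0 ∧
      ((rmult X.D.ι (χ : K → ℂ) (ξ : C → ℂ) : ℤ) ≡ 1 [ZMOD p] ∨
        (rmult X.D.ι (χ : K → ℂ) (ξ : C → ℂ) : ℤ) ≡ -1 [ZMOD p]) ∧
      ∀ ξ' : Cfsg.IrrCharacter C,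
        Cfsg.classInner (fun n : X.D.QC => (ξ' : C → ℂ) n) (X.D.θC X.θ : X.D.QC → ℂ) ≠ 0 →
        ξ' ≠ ξ → p ∣ rmult X.D.ι (χ : K → ℂ) (ξ' : C → ℂ) := by
  obtain ⟨β, hβ, hχβ⟩ := X.exists_β χ hc
  have hβinv : X.DT.toPAct.Inv β := by
    rw [← X.indK_inv_iff hβ, ← hχβ]
    exact hχS
  obtain ⟨γI, hγI⟩ : ∃ γI : Cfsg.IrrCharacter (X.TC ⧸ X.DT.QC),
      γI = X.DT.toPAct.glau ⟨β, hβ⟩ := ⟨_, rfl⟩
  have hspec : ¬ p ∣ X.DT.toPAct.mult β (γI : X.TC ⧸ X.DT.QC → ℂ) := by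
    rw [hγI]
    exact X.DT.toPAct.glau_spec ⟨β, hβ⟩
  refine ⟨⟨X.indC (γI : X.TC ⧸ X.DT.QC → ℂ), X.indC_irr γI.2⟩, X.indC_inv γI.2,
    X.indC_over γI.2, ?_, ?_⟩
  · show ((rmult X.D.ι (χ : K → ℂ) (X.indC (γI : X.TC ⧸ X.DT.QC → ℂ)) : ℤ) ≡ 1 [ZMOD p] ∨
      (rmult X.D.ι (χ : K → ℂ) (X.indC (γI : X.TC ⧸ X.DT.QC → ℂ)) : ℤ) ≡ -1 [ZMOD p])
    rw [hχβ, X.rmult_ind hβ γI.2]
    exact X.DT.toPAct.mult_modEq hM ⟨β, hβ⟩ hβinv γI hspec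
  · intro ξ' hc' hne
    obtain ⟨γ', hγ', hξ'⟩ := X.exists_γ ξ' hc'
    rw [hχβ, hξ', X.rmult_ind hβ hγ']
    by_contra hnd
    have h1 := X.DT.toPAct.unique_beta hM ⟨β, hβ⟩ hβinv ⟨γ', hγ'⟩ γI hnd hspec
    apply hne
    apply Subtype.ext
    rw [hξ']
    show X.indC γ' = X.indC (γI : X.TC ⧸ X.DT.QC → ℂ)
    rw [← h1]

/-- surjectivity over `θ` -/
theorem exists_source (hM : Cfsg.IsPModular p M) (ξ : Cfsg.IrrCharacter C)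
    (hc : Cfsg.classInner (fun n : X.D.QC => (ξ : C → ℂ) n) (X.D.θC X.θ : X.D.QC → ℂ) ≠ 0) :
    ∃ χ : Cfsg.IrrCharacter K, InvChar X.D.φK (χ : K → ℂ) ∧
      Cfsg.classInner (fun n : X.D.Q => (χ : K → ℂ) n) (X.θ : X.D.Q → ℂ) ≠ 0 ∧
      ¬ p ∣ rmult X.D.ι (χ : K → ℂ) (ξ : C → ℂ) := by
  obtain ⟨γ, hγ, hξγ⟩ := X.exists_γ ξ hc
  obtain ⟨βI, hβinv, hglau⟩ := X.DT.toPAct.glau_surj hM ⟨γ, hγ⟩
  refine ⟨⟨X.indK (βI : X.T ⧸ X.DT.Q → ℂ), X.indK_irr βI.2⟩,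
    (X.indK_inv_iff βI.2).mpr hβinv, X.indK_over βI.2, ?_⟩
  show ¬ p ∣ rmult X.D.ι (X.indK (βI : X.T ⧸ X.DT.Q → ℂ)) (ξ : C → ℂ)
  rw [hξγ, X.rmult_ind βI.2 hγ]
  have h1 := X.DT.toPAct.glau_spec βI
  rw [hglau] at h1
  exact h1

/-- injectivity over `θ` -/
theorem source_unique (hM : Cfsg.IsPModular p M) (χ χ' : Cfsg.IrrCharacter K)
    (hχS : InvChar X.D.φK (χ : K → ℂ)) (hχ'S : InvChar X.D.φK (χ' : K → ℂ))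
    (hc : Cfsg.classInner (fun n : X.D.Q => (χ : K → ℂ) n) (X.θ : X.D.Q → ℂ) ≠ 0)
    (hc' : Cfsg.classInner (fun n : X.D.Q => (χ' : K → ℂ) n) (X.θ : X.D.Q → ℂ) ≠ 0)
    (ξ : Cfsg.IrrCharacter C)
    (hcξ : Cfsg.classInner (fun n : X.D.QC => (ξ : C → ℂ) n) (X.D.θC X.θ : X.D.QC → ℂ) ≠ 0)
    (hm : ¬ p ∣ rmult X.D.ι (χ : K → ℂ) (ξ : C → ℂ))
    (hm' : ¬ p ∣ rmult X.D.ι (χ' : K → ℂ) (ξ : C → ℂ)) : χ = χ' := by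
  obtain ⟨β, hβ, hχβ⟩ := X.exists_β χ hc
  obtain ⟨β', hβ', hχβ'⟩ := X.exists_β χ' hc'
  obtain ⟨γ, hγ, hξγ⟩ := X.exists_γ ξ hcξ
  have hβinv : X.DT.toPAct.Inv β := by
    rw [← X.indK_inv_iff hβ, ← hχβ]
    exact hχS
  have hβ'inv : X.DT.toPAct.Inv β' := by
    rw [← X.indK_inv_iff hβ', ← hχβ']
    exact hχ'S
  rw [hχβ, hξγ, X.rmult_ind hβ hγ] at hm
  rw [hχβ', hξγ, X.rmult_ind hβ' hγ] at hm'
  by_contra hne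
  have hne' : (⟨β, hβ⟩ : Cfsg.IrrCharacter (X.T ⧸ X.DT.Q)) ≠ ⟨β', hβ'⟩ := by
    intro h
    apply hne
    apply Subtype.ext
    rw [hχβ, hχβ']
    have : β = β' := congrArg Subtype.val h
    rw [this]
  exact hm' (X.DT.toPAct.dvd_mult_of_ne hM ⟨β, hβ⟩ ⟨β', hβ'⟩ hβinv hβ'inv ⟨γ, hγ⟩ hne' hm)

end Ctx

end Cfsg.Agent.Lib.Helper8.RelGlau
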