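import Mathlib
import Cfsg.Agent.Lib.Helper8.GlauL3

/-! Invariant constituents of the restriction of an invariant character are conjugate under the
fixed points modulo the normal subgroup. -/
set_option autoImplicit false
set_option linter.unusedSectionVars false

namespace Cfsg.Agent.Lib.Helper8.RelGlau

open MulAction Cfsg.Agent.Lib.Helper6 Cfsg.Agent.Lib.Helper8.GlauP Cfsg.Agent.Lib.Helper8.GlauL
open scoped ComplexConjugate

universe u v

variable {S : Type u} {G : Type v} [Group S] [Group G]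

/-- two invariant constituents of the restriction of an invariant character to an invariant
normal subgroup of coprime index are conjugate under an element fixed modulo the subgroup -/
theorem invChar_under_conj [Finite S] [Fintype G] (φ : S →* MulAut G)
    (N : Subgroup G) [Fintype N] [hNn : N.Normal] (hNs : ∀ (s : S), ∀ x ∈ N, φ s x ∈ N)
    (hcop : N.index.Coprime (Nat.card S))
    (hsolv : Group.IsSolvable (G ⧸ N) ∨ Group.IsSolvable S)
    (χ : Cfsg.IrrCharacter G) (hχ : InvChar φ (χ : G → ℂ))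
    (θ θ' : Cfsg.IrrCharacter N)
    (hθ : rmult N.subtype (χ : G → ℂ) (θ : N → ℂ) ≠ 0)
    (hθ' : rmult N.subtype (χ : G → ℂ) (θ' : N → ℂ) ≠ 0)
    (hθS : InvChar (restrictHom φ N hNs) (θ : N → ℂ))
    (hθ'S : InvChar (restrictHom φ N hNs) (θ' : N → ℂ)) :
    ∃ g : G, (∀ s : S, g⁻¹ * φ s g ∈ N) ∧
      ∀ n : N, (θ' : N → ℂ) n = (θ : N → ℂ) ((conjN N g)⁻¹ n) := by
  classical
  set X := {θ : Cfsg.IrrCharacter N // rmult N.subtype (χ : G → ℂ) (θ : N → ℂ) ≠ 0} with hX
  have hχcf := IsIrrCharacter.isClassFunction χ.2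
  have hχc := IsIrrCharacter.isCharacter χ.2
  -- the two actions on the irreducible characters of `N`
  letI aG : MulAction G (Cfsg.IrrCharacter N) := irrAct (conjN N)
  letI aS : MulAction S (Cfsg.IrrCharacter N) := irrAct (restrictHom φ N hNs)
  have hGmult : ∀ (g : G) (θ : Cfsg.IrrCharacter N),
      rmult N.subtype (χ : G → ℂ) ((g • θ : Cfsg.IrrCharacter N) : N → ℂ)
        = rmult N.subtype (χ : G → ℂ) (θ : N → ℂ) := by
    intro g θ
    apply rmult_comp_aut N (MulAut.conj g⁻¹) ((conjN N g)⁻¹)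
    · intro n
      rw [conjN_inv_coe, MulAut.conj_apply, inv_inv]
    · intro x
      rw [MulAut.conj_apply, inv_inv]
      have := hχcf x g⁻¹
      rw [inv_inv] at this
      exact this
  have hSmult : ∀ (s : S) (θ : Cfsg.IrrCharacter N),
      rmult N.subtype (χ : G → ℂ) ((s • θ : Cfsg.IrrCharacter N) : N → ℂ)
        = rmult N.subtype (χ : G → ℂ) (θ : N → ℂ) := by
    intro s θ
    apply rmult_comp_aut N ((φ s)⁻¹) ((restrictHom φ N hNs s)⁻¹)
    · intro n
      rw [← map_inv, ← map_inv]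
      rfl
    · intro x
      have := hχ s ((φ s)⁻¹ x)
      rw [MulAut.apply_inv_self] at this
      exact this.symm
  letI : MulAction G X :=
    { smul := fun g x => ⟨g • x.1, by rw [hGmult]; exact x.2⟩
      one_smul := fun x => Subtype.ext (one_smul G x.1)
      mul_smul := fun g h x => Subtype.ext (mul_smul g h x.1) }
  letI : MulAction S X :=
    { smul := fun s x => ⟨s • x.1, by rw [hSmult]; exact x.2⟩
      one_smul := fun x => Subtype.ext (one_smul S x.1)
      mul_smul := fun s t x => Subtype.ext (mul_smul s t x.1) }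
  have hGsmul : ∀ (g : G) (x : X), ((g • x : X) : Cfsg.IrrCharacter N) = g • x.1 := fun _ _ => rfl
  have hSsmul : ∀ (s : S) (x : X), ((s • x : X) : Cfsg.IrrCharacter N) = s • x.1 := fun _ _ => rfl
  have hGapp : ∀ (g : G) (θ : Cfsg.IrrCharacter N) (n : N),
      ((g • θ : Cfsg.IrrCharacter N) : N → ℂ) n = (θ : N → ℂ) ((conjN N g)⁻¹ n) := fun _ _ _ => rfl
  have hSapp : ∀ (s : S) (θ : Cfsg.IrrCharacter N) (n : N),
      ((s • θ : Cfsg.IrrCharacter N) : N → ℂ) n
        = (θ : N → ℂ) ((restrictHom φ N hNs s)⁻¹ n) := fun _ _ _ => rfl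
  -- the hypotheses of Glauberman's lemma
  have hNtriv : ∀ n ∈ N, ∀ x : X, n • x = x := by
    intro n hn x
    apply Subtype.ext
    rw [hGsmul]
    apply Subtype.ext
    funext m
    rw [hGapp]
    have h1 := IsIrrCharacter.isClassFunction x.1.2 m (⟨n, hn⟩⁻¹ : N)
    rw [← h1]
    refine congrArg _ (Subtype.ext ?_)
    rw [conjN_inv_coe]
    simp
  have hcompat : ∀ (s : S) (g : G) (x : X), s • (g • x) = (φ s g) • (s • x) := by
    intro s g x
    apply Subtype.ext
    rw [hSsmul, hGsmul, hGsmul, hSsmul]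
    apply Subtype.ext
    funext m
    rw [hSapp, hGapp, hGapp, hSapp]
    refine congrArg _ (Subtype.ext ?_)
    rw [conjN_inv_coe]
    have e1 : ∀ n : N, (((restrictHom φ N hNs s)⁻¹ n : N) : G) = (φ s)⁻¹ n := by
      intro n
      rw [← map_inv, ← map_inv]
      rfl
    rw [e1, e1, conjN_inv_coe, map_mul, map_mul, map_inv, MulAut.inv_apply_self]
  have htrans : MulAction.IsPretransitive G X := by
    constructor
    intro x y
    have hx : Cfsg.classInner (fun n : N => (χ : G → ℂ) n) (x.1 : N → ℂ) ≠ 0 := by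
      have h2 := rmult_spec N.subtype hχc x.1.2
      intro h0
      apply x.2
      have e1 : (fun h : N => (χ : G → ℂ) (N.subtype h)) = fun n : N => (χ : G → ℂ) n := rfl
      rw [e1, h0] at h2
      exact_mod_cast h2.symm
    have hy : Cfsg.classInner (fun n : N => (χ : G → ℂ) n) (y.1 : N → ℂ) ≠ 0 := by
      have h2 := rmult_spec N.subtype hχc y.1.2
      intro h0
      apply y.2
      have e1 : (fun h : N => (χ : G → ℂ) (N.subtype h)) = fun n : N => (χ : G → ℂ) n := rfl
      rw [e1, h0] at h2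
      exact_mod_cast h2.symm
    obtain ⟨g, hg⟩ := exists_conjFun_eq_of_constituents N hNn χ.2 x.1.2 y.1.2 hx hy
    refine ⟨g⁻¹, ?_⟩
    apply Subtype.ext
    rw [hGsmul]
    apply Subtype.ext
    rw [hg]
    funext m
    rw [hGapp, conjFun_apply]
    refine congrArg _ (Subtype.ext ?_)
    rw [conjN_inv_coe, inv_inv]
  have hfx : ∀ (ϑ : Cfsg.IrrCharacter N), InvChar (restrictHom φ N hNs) (ϑ : N → ℂ) →
      ∀ s : S, (s • ϑ : Cfsg.IrrCharacter N) = ϑ := by
    intro ϑ hϑ
    exact (irrAct_fixed_iff (restrictHom φ N hNs) ϑ).mpr hϑ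
  obtain ⟨g, hg, hgx⟩ := fixed_conj_quot φ N hNs hNtriv hcompat hcop hsolv htrans
    (⟨θ, hθ⟩ : X) ⟨θ', hθ'⟩
    (fun s => Subtype.ext (by rw [hSsmul]; exact hfx θ hθS s))
    (fun s => Subtype.ext (by rw [hSsmul]; exact hfx θ' hθ'S s))
  refine ⟨g, hg, ?_⟩
  intro n
  have h1 := congrArg Subtype.val hgx
  rw [hGsmul] at h1
  have h2 := congrFun (congrArg Subtype.val h1) n
  rw [hGapp] at h2
  exact h2.symm

end Cfsg.Agent.Lib.Helper8.RelGlau
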