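import Mathlib
import Cfsg.Agent.Lib.Helper8.RG10

/-! # The relative Glauberman correspondence over a fixed invariant character: statements in
terms of the setting alone -/
set_option autoImplicit false
set_option linter.unusedSectionVars false

namespace Cfsg.Agent.Lib.Helper8.RelGlau

open Cfsg.Agent.Lib.Helper6 Cfsg.Agent.Lib.Helper8.GlauP Cfsg.Agent.Lib.Helper8.GlauL
open scoped ComplexConjugate

namespace Setup

variable {p : ℕ} {M : Ideal Cfsg.AlgInt}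
variable {K C S : Type*} [Group K] [Group C] [Group S] [Fintype K] [Fintype C] [Finite S]
variable (D : Setup p K C S) (θ : Cfsg.IrrCharacter D.Q)

/-- the invariant extension to the inertia group -/
theorem exists_ext [Fact p.Prime] (hQp : IsPGroup p D.Q)
    (hθS : ∀ (s : S) (q : D.Q), (θ : D.Q → ℂ) ⟨D.φK s q, D.hQs s q q.2⟩ = (θ : D.Q → ℂ) q) :
    ∃ ϑ : D.TK θ → ℂ, Cfsg.IsIrrCharacter (D.TK θ) ϑ ∧
      (∀ (t : D.TK θ) (h : (t : K) ∈ D.Q), ϑ t = (θ : D.Q → ℂ) ⟨t, h⟩) ∧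
      ∀ (s : S) (t : D.TK θ), ϑ ⟨D.φK s t, D.TK_stable θ hθS s t t.2⟩ = ϑ t := by
  have hQT : D.Q ≤ D.TK θ := D.Q_le_TK θ
  have hTs := D.TK_stable θ hθS
  obtain ⟨θ', hθ'⟩ : ∃ θ' : D.Q.subgroupOf (D.TK θ) → ℂ,
      θ' = fun n => (θ : D.Q → ℂ) (Subgroup.subgroupOfEquivOfLe hQT n) := ⟨_, rfl⟩
  have hθ'irr : Cfsg.IsIrrCharacter (D.Q.subgroupOf (D.TK θ)) θ' := by
    rw [hθ']
    exact IsIrrCharacter.comp_mulEquiv (Subgroup.subgroupOfEquivOfLe hQT) θ.2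
  have hNs : ∀ (s : S), ∀ x ∈ D.Q.subgroupOf (D.TK θ),
      restrictHom D.φK (D.TK θ) hTs s x ∈ D.Q.subgroupOf (D.TK θ) :=
    (D.sub (D.TK θ) hQT hTs).hQs
  have hNp : IsPGroup p (D.Q.subgroupOf (D.TK θ)) := hQp.comap_subtype
  have hcop : ¬ p ∣ (D.Q.subgroupOf (D.TK θ)).index := (D.sub (D.TK θ) hQT hTs).cop
  have hinv : ∀ (g : D.TK θ) (n : D.Q.subgroupOf (D.TK θ)),
      θ' ⟨g * n * g⁻¹, (inferInstance : (D.Q.subgroupOf (D.TK θ)).Normal).conj_mem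
        (n : D.TK θ) n.2 g⟩ = θ' n := by
    intro g n
    rw [hθ']
    have h1 := congrFun ((D.mem_TK θ g).mp g.2) ⟨n, n.2⟩
    rw [conjFun_apply] at h1
    exact h1
  have hθ'S : ∀ (s : S) (n : D.Q.subgroupOf (D.TK θ)),
      θ' ⟨restrictHom D.φK (D.TK θ) hTs s n, hNs s n n.2⟩ = θ' n := by
    intro s n
    rw [hθ']
    exact hθS s ⟨n, n.2⟩
  obtain ⟨ϑ, hϑ, hext, hS⟩ := exists_invariant_extension p (D.Q.subgroupOf (D.TK θ))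
    (restrictHom D.φK (D.TK θ) hTs) hNs hNp hcop θ' hθ'irr hinv hθ'S
  refine ⟨ϑ, hϑ, ?_, fun s t => hS s t⟩
  intro t h
  have h1 := hext ⟨t, h⟩
  rw [hθ'] at h1
  exact h1

variable [Fintype D.Q] [Fintype D.QC]

/-- existence and uniqueness of the correspondent over `θ` -/
theorem exists_correspondent [Fact p.Prime] (hM : Cfsg.IsPModular p M) (hQp : IsPGroup p D.Q)
    (hθS : ∀ (s : S) (q : D.Q), (θ : D.Q → ℂ) ⟨D.φK s q, D.hQs s q q.2⟩ = (θ : D.Q → ℂ) q)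
    (χ : Cfsg.IrrCharacter K) (hχS : InvChar D.φK (χ : K → ℂ))
    (hc : Cfsg.classInner (fun n : D.Q => (χ : K → ℂ) n) (θ : D.Q → ℂ) ≠ 0) :
    ∃ ξ : Cfsg.IrrCharacter C, InvChar D.φC (ξ : C → ℂ) ∧
      Cfsg.classInner (fun n : D.QC => (ξ : C → ℂ) n) (D.θC θ : D.QC → ℂ) ≠ 0 ∧
      ((rmult D.ι (χ : K → ℂ) (ξ : C → ℂ) : ℤ) ≡ 1 [ZMOD p] ∨
        (rmult D.ι (χ : K → ℂ) (ξ : C → ℂ) : ℤ) ≡ -1 [ZMOD p]) ∧
      ∀ ξ' : Cfsg.IrrCharacter C,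
        Cfsg.classInner (fun n : D.QC => (ξ' : C → ℂ) n) (D.θC θ : D.QC → ℂ) ≠ 0 →
        ξ' ≠ ξ → p ∣ rmult D.ι (χ : K → ℂ) (ξ' : C → ℂ) := by
  obtain ⟨ϑ, hϑ, hϑext, hϑS⟩ := D.exists_ext θ hQp hθS
  let X : Ctx p K C S := ⟨D, θ, hθS, ϑ, hϑ, hϑext, hϑS⟩
  haveI : Fintype X.T := Fintype.ofFinite _
  haveI : Fintype X.TC := Fintype.ofFinite _
  haveI : Fintype X.DT.Q := Fintype.ofFinite _
  haveI : Fintype X.DT.QC := Fintype.ofFinite _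
  haveI : Fintype (X.T ⧸ X.DT.Q) := Fintype.ofFinite _
  haveI : Fintype (X.TC ⧸ X.DT.QC) := Fintype.ofFinite _
  exact @Ctx.exists_correspondent p M K C S _ _ _ _ _ _ X ‹Fintype D.Q› ‹Fintype D.QC› _ _ _ _ _ _
    hM χ hχS hc

/-- surjectivity over `θ` -/
theorem exists_source [Fact p.Prime] (hM : Cfsg.IsPModular p M) (hQp : IsPGroup p D.Q)
    (hθS : ∀ (s : S) (q : D.Q), (θ : D.Q → ℂ) ⟨D.φK s q, D.hQs s q q.2⟩ = (θ : D.Q → ℂ) q)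
    (ξ : Cfsg.IrrCharacter C)
    (hc : Cfsg.classInner (fun n : D.QC => (ξ : C → ℂ) n) (D.θC θ : D.QC → ℂ) ≠ 0) :
    ∃ χ : Cfsg.IrrCharacter K, InvChar D.φK (χ : K → ℂ) ∧
      Cfsg.classInner (fun n : D.Q => (χ : K → ℂ) n) (θ : D.Q → ℂ) ≠ 0 ∧
      ¬ p ∣ rmult D.ι (χ : K → ℂ) (ξ : C → ℂ) := by
  obtain ⟨ϑ, hϑ, hϑext, hϑS⟩ := D.exists_ext θ hQp hθS
  let X : Ctx p K C S := ⟨D, θ, hθS, ϑ, hϑ, hϑext, hϑS⟩
  haveI : Fintype X.T := Fintype.ofFinite _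
  haveI : Fintype X.TC := Fintype.ofFinite _
  haveI : Fintype X.DT.Q := Fintype.ofFinite _
  haveI : Fintype X.DT.QC := Fintype.ofFinite _
  haveI : Fintype (X.T ⧸ X.DT.Q) := Fintype.ofFinite _
  haveI : Fintype (X.TC ⧸ X.DT.QC) := Fintype.ofFinite _
  exact @Ctx.exists_source p M K C S _ _ _ _ _ _ X ‹Fintype D.Q› ‹Fintype D.QC› _ _ _ _ _ _
    hM ξ hc

/-- injectivity over `θ` -/
theorem source_unique [Fact p.Prime] (hM : Cfsg.IsPModular p M) (hQp : IsPGroup p D.Q)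
    (hθS : ∀ (s : S) (q : D.Q), (θ : D.Q → ℂ) ⟨D.φK s q, D.hQs s q q.2⟩ = (θ : D.Q → ℂ) q)
    (χ χ' : Cfsg.IrrCharacter K)
    (hχS : InvChar D.φK (χ : K → ℂ)) (hχ'S : InvChar D.φK (χ' : K → ℂ))
    (hc : Cfsg.classInner (fun n : D.Q => (χ : K → ℂ) n) (θ : D.Q → ℂ) ≠ 0)
    (hc' : Cfsg.classInner (fun n : D.Q => (χ' : K → ℂ) n) (θ : D.Q → ℂ) ≠ 0)
    (ξ : Cfsg.IrrCharacter C)
    (hcξ : Cfsg.classInner (fun n : D.QC => (ξ : C → ℂ) n) (D.θC θ : D.QC → ℂ) ≠ 0)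
    (hm : ¬ p ∣ rmult D.ι (χ : K → ℂ) (ξ : C → ℂ))
    (hm' : ¬ p ∣ rmult D.ι (χ' : K → ℂ) (ξ : C → ℂ)) : χ = χ' := by
  obtain ⟨ϑ, hϑ, hϑext, hϑS⟩ := D.exists_ext θ hQp hθS
  let X : Ctx p K C S := ⟨D, θ, hθS, ϑ, hϑ, hϑext, hϑS⟩
  haveI : Fintype X.T := Fintype.ofFinite _
  haveI : Fintype X.TC := Fintype.ofFinite _
  haveI : Fintype X.DT.Q := Fintype.ofFinite _
  haveI : Fintype X.DT.QC := Fintype.ofFinite _
  haveI : Fintype (X.T ⧸ X.DT.Q) := Fintype.ofFinite _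
  haveI : Fintype (X.TC ⧸ X.DT.QC) := Fintype.ofFinite _
  exact @Ctx.source_unique p M K C S _ _ _ _ _ _ X ‹Fintype D.Q› ‹Fintype D.QC› _ _ _ _ _ _
    hM χ χ' hχS hχ'S hc hc' ξ hcξ hm hm'

end Setup

end Cfsg.Agent.Lib.Helper8.RelGlau
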