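import Mathlib
import Cfsg.Agent.Lib.Helper8.RG11
import Cfsg.Agent.Lib.Helper8.RG12
import Cfsg.Agent.Lib.Helper6.BlkVanish

/-! # The relative Glauberman correspondence -/
set_option autoImplicit false
set_option linter.unusedSectionVars false

namespace Cfsg.Agent.Lib.Helper8.RelGlau

open Cfsg.Agent.Lib.Helper6 Cfsg.Agent.Lib.Helper8.GlauP Cfsg.Agent.Lib.Helper8.GlauL
open scoped ComplexConjugate

section general

/-- constituents of a restriction, in terms of `rmult` -/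
theorem rmult_subtype_ne_zero_iff {G : Type*} [Group G] (N : Subgroup G) [Fintype N] {χ : G → ℂ}
    (hχ : Cfsg.IsCharacter G χ) {θ : N → ℂ} (hθ : Cfsg.IsIrrCharacter N θ) :
    rmult N.subtype χ θ ≠ 0 ↔ Cfsg.classInner (fun n : N => χ n) θ ≠ 0 := by
  have h := rmult_spec N.subtype hχ hθ
  have e : (fun h : N => χ (N.subtype h)) = fun n : N => χ n := rfl
  rw [e] at h
  rw [h]
  exact Nat.cast_ne_zero.symm

/-- the degree is the sum of the multiplicities times the degrees -/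
theorem charDegree_eq_sum_rmult {G H : Type*} [Group G] [Group H] [Fintype H]
    [Fintype (Cfsg.IrrCharacter H)] (f : H →* G) {χ : G → ℂ} (hχ : Cfsg.IsCharacter G χ) :
    Cfsg.charDegree χ
      = ∑ η : Cfsg.IrrCharacter H, rmult f χ (η : H → ℂ) * Cfsg.charDegree (η : H → ℂ) := by
  have hψ : Cfsg.IsCharacter H (fun c => χ (f c)) := IsCharacter.comp f hχ
  obtain ⟨m, hm, hm2⟩ := IsCharacter.exists_mult hψ
  have h1 := apply_eq_sum_mult hm 1
  simp only [map_one] at h1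
  have h2 : ∀ β : Cfsg.IrrCharacter H, m β = rmult f χ (β : H → ℂ) := by
    intro β
    have := hm2 β
    rw [rmult_spec f hχ β.2] at this
    exact_mod_cast this.symm
  have h3 : (Cfsg.charDegree χ : ℂ)
      = ((∑ β : Cfsg.IrrCharacter H, rmult f χ (β : H → ℂ) * Cfsg.charDegree (β : H → ℂ) : ℕ) : ℂ) := by
    rw [← IsCharacter.apply_one_eq_charDegree hχ, h1]
    push_cast
    apply Finset.sum_congr rfl
    intro β _
    rw [h2 β, IsCharacter.apply_one_eq_charDegree (IsIrrCharacter.isCharacter β.2)]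
  exact_mod_cast h3

end general

namespace Setup

variable {p : ℕ} {K C S : Type*} [Group K] [Group C] [Group S] [Fintype K] [Fintype C] [Finite S]
variable (D : Setup p K C S)

theorem index_coprime [hp : Fact p.Prime] : D.Q.index.Coprime (Nat.card S) := by
  obtain ⟨n, hn⟩ := D.pgroup.exists_card_eq
  rw [hn]
  apply Nat.Coprime.pow_right
  exact ((Nat.Prime.coprime_iff_not_dvd hp.out).mpr D.cop).symm

theorem index_QC_dvd : D.QC.index ∣ D.Q.index := by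
  unfold QC
  rw [Subgroup.index_comap]
  exact Subgroup.relIndex_dvd_index_of_normal _ _

theorem index_QC_coprime [hp : Fact p.Prime] : D.QC.index.Coprime (Nat.card S) :=
  Nat.Coprime.coprime_dvd_left D.index_QC_dvd D.index_coprime

include D in
theorem isSolvable_S [hp : Fact p.Prime] : Group.IsSolvable S := by
  haveI := D.pgroup.isNilpotent
  infer_instance

variable [Fintype D.Q] [Fintype D.QC]

/-- an invariant character of `K` lies over an invariant character of `Q` -/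
theorem exists_θ_under [hp : Fact p.Prime] (χ : Cfsg.IrrCharacter K)
    (hχ : InvChar D.φK (χ : K → ℂ)) :
    ∃ θ : Cfsg.IrrCharacter D.Q,
      (∀ (s : S) (q : D.Q), (θ : D.Q → ℂ) ⟨D.φK s q, D.hQs s q q.2⟩ = (θ : D.Q → ℂ) q) ∧
      Cfsg.classInner (fun n : D.Q => (χ : K → ℂ) n) (θ : D.Q → ℂ) ≠ 0 := by
  obtain ⟨θ, hθ, hθinv⟩ := exists_invChar_under D.φK D.Q D.hQs D.index_coprime
    (Or.inr D.isSolvable_S) χ hχ
  exact ⟨θ, fun s q => hθinv s q,
    (rmult_subtype_ne_zero_iff D.Q (IsIrrCharacter.isCharacter χ.2) θ.2).mp hθ⟩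

/-- an invariant character of `C` lies over an invariant character of `Q` -/
theorem exists_θ_under_C [hp : Fact p.Prime] (ξ : Cfsg.IrrCharacter C)
    (hξ : InvChar D.φC (ξ : C → ℂ)) :
    ∃ θ : Cfsg.IrrCharacter D.Q,
      (∀ (s : S) (q : D.Q), (θ : D.Q → ℂ) ⟨D.φK s q, D.hQs s q q.2⟩ = (θ : D.Q → ℂ) q) ∧
      Cfsg.classInner (fun n : D.QC => (ξ : C → ℂ) n) (D.θC θ : D.QC → ℂ) ≠ 0 := by
  obtain ⟨θ'', hθ'', hθ''inv⟩ := exists_invChar_under D.φC D.QC D.QC_stable D.index_QC_coprime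
    (Or.inr D.isSolvable_S) ξ hξ
  refine ⟨⟨fun q => (θ'' : D.QC → ℂ) (D.eQ.symm q),
    IsIrrCharacter.comp_mulEquiv D.eQ.symm θ''.2⟩, ?_, ?_⟩
  · intro s q
    show (θ'' : D.QC → ℂ) (D.eQ.symm ⟨D.φK s q, D.hQs s q q.2⟩)
      = (θ'' : D.QC → ℂ) (D.eQ.symm q)
    have h1 := hθ''inv s (D.eQ.symm q)
    rw [← h1]
    refine congrArg _ ?_
    apply D.eQ.injective
    rw [MulEquiv.apply_symm_apply]
    apply Subtype.ext
    show D.φK s q = D.ι (D.φC s (D.eQ.symm q))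
    rw [D.hι]
    have h2 : D.ι ((D.eQ.symm q : D.QC) : C) = q := by
      have := D.eQ_coe (D.eQ.symm q)
      rw [MulEquiv.apply_symm_apply] at this
      exact this.symm
    rw [h2]
  · have e : (D.θC ⟨fun q => (θ'' : D.QC → ℂ) (D.eQ.symm q),
        IsIrrCharacter.comp_mulEquiv D.eQ.symm θ''.2⟩ : D.QC → ℂ) = (θ'' : D.QC → ℂ) := by
      funext q
      show (θ'' : D.QC → ℂ) (D.eQ.symm (D.eQ q)) = (θ'' : D.QC → ℂ) q
      rw [MulEquiv.symm_apply_apply]
    rw [e]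
    exact (rmult_subtype_ne_zero_iff D.QC (IsIrrCharacter.isCharacter ξ.2) θ''.2).mp hθ''

/-- transitivity of lying over -/
theorem over_of_rmult_ne_zero (θ : Cfsg.IrrCharacter D.Q) (χ : Cfsg.IrrCharacter K)
    (ξ : Cfsg.IrrCharacter C) (h1 : rmult D.ι (χ : K → ℂ) (ξ : C → ℂ) ≠ 0)
    (h2 : Cfsg.classInner (fun n : D.QC => (ξ : C → ℂ) n) (D.θC θ : D.QC → ℂ) ≠ 0) :
    Cfsg.classInner (fun n : D.Q => (χ : K → ℂ) n) (θ : D.Q → ℂ) ≠ 0 := by
  have h3 := rmult_comp_ne_zero D.ι D.QC.subtype (IsIrrCharacter.isCharacter χ.2) ξ (D.θC θ).2 h1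
    ((rmult_subtype_ne_zero_iff D.QC (IsIrrCharacter.isCharacter ξ.2) (D.θC θ).2).mpr h2)
  have h4 := rmult_spec (D.ι.comp D.QC.subtype) (IsIrrCharacter.isCharacter χ.2) (D.θC θ).2
  have e : (fun h : D.QC => (χ : K → ℂ) ((D.ι.comp D.QC.subtype) h))
      = fun n : D.QC => (χ : K → ℂ) (D.ι n) := rfl
  rw [e, D.classInner_comp_θC θ] at h4
  rw [h4]
  exact_mod_cast h3

/-- the invariant characters of `Q` under an invariant character of `K` are conjugate
under `C` -/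
theorem over_θC_of_conj [hp : Fact p.Prime] (χ : Cfsg.IrrCharacter K)
    (hχ : InvChar D.φK (χ : K → ℂ)) (θ θ' : Cfsg.IrrCharacter D.Q)
    (hθS : ∀ (s : S) (q : D.Q), (θ : D.Q → ℂ) ⟨D.φK s q, D.hQs s q q.2⟩ = (θ : D.Q → ℂ) q)
    (hθ'S : ∀ (s : S) (q : D.Q), (θ' : D.Q → ℂ) ⟨D.φK s q, D.hQs s q q.2⟩ = (θ' : D.Q → ℂ) q)
    (hc : Cfsg.classInner (fun n : D.Q => (χ : K → ℂ) n) (θ : D.Q → ℂ) ≠ 0)
    (hc' : Cfsg.classInner (fun n : D.Q => (χ : K → ℂ) n) (θ' : D.Q → ℂ) ≠ 0)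
    (ξ' : Cfsg.IrrCharacter C)
    (h : Cfsg.classInner (fun n : D.QC => (ξ' : C → ℂ) n) (D.θC θ' : D.QC → ℂ) ≠ 0) :
    Cfsg.classInner (fun n : D.QC => (ξ' : C → ℂ) n) (D.θC θ : D.QC → ℂ) ≠ 0 := by
  have hχc := IsIrrCharacter.isCharacter χ.2
  obtain ⟨g, hg, hgθ⟩ := invChar_under_conj D.φK D.Q D.hQs D.index_coprime
    (Or.inr D.isSolvable_S) χ hχ θ θ'
    ((rmult_subtype_ne_zero_iff D.Q hχc θ.2).mpr hc)
    ((rmult_subtype_ne_zero_iff D.Q hχc θ'.2).mpr hc') (fun s q => hθS s q) (fun s q => hθ'S s q)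
  have hgr : g ∈ D.ι.range := by
    rw [← D.hfix]
    intro s
    have h1 := D.hQn.conj_mem _ (hg s) g
    have e : g * (g⁻¹ * D.φK s g) * g⁻¹ = D.φK s g * g⁻¹ := by group
    rwa [e] at h1
  obtain ⟨c, rfl⟩ := hgr
  have hξcf := IsIrrCharacter.isClassFunction ξ'.2
  have e1 : (D.θC θ' : D.QC → ℂ) = conjFun D.QC inferInstance (D.θC θ : D.QC → ℂ) c⁻¹ := by
    funext q
    rw [conjFun_apply, Setup.θC_apply, Setup.θC_apply, hgθ]
    apply D.θ_congr
    rw [conjN_inv_coe]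
    show (D.ι c)⁻¹ * (D.eQ q : K) * D.ι c = D.ι (c⁻¹ * q * c⁻¹⁻¹)
    rw [map_mul, map_mul, map_inv, inv_inv, D.eQ_coe]
  have e2 := conjFun_restrict D.QC inferInstance hξcf c⁻¹
  rw [e1, ← e2, classInner_conjFun_conjFun] at h
  exact h

/-- the relative Glauberman correspondence -/
theorem main [hp : Fact p.Prime] (hQp : IsPGroup p D.Q) :
    ∃ f : {χ : Cfsg.IrrCharacter K // InvChar D.φK (χ : K → ℂ)} →
        {ξ : Cfsg.IrrCharacter C // InvChar D.φC (ξ : C → ℂ)},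
      Function.Bijective f ∧ ∀ χ,
        (∀ ξ, (ξ = f χ → ((rmult D.ι (χ.1 : K → ℂ) (ξ.1 : C → ℂ) : ZMod p) = 1 ∨
            (rmult D.ι (χ.1 : K → ℂ) (ξ.1 : C → ℂ) : ZMod p) = -1)) ∧
          (ξ ≠ f χ → p ∣ rmult D.ι (χ.1 : K → ℂ) (ξ.1 : C → ℂ))) ∧
        ((Cfsg.charDegree ((f χ).1 : C → ℂ) : ZMod p) = (Cfsg.charDegree (χ.1 : K → ℂ) : ZMod p) ∨
          (Cfsg.charDegree ((f χ).1 : C → ℂ) : ZMod p)
            = -(Cfsg.charDegree (χ.1 : K → ℂ) : ZMod p)) := by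
  classical
  obtain ⟨M, hM⟩ := exists_isPModular p
  have key : ∀ χ : {χ : Cfsg.IrrCharacter K // InvChar D.φK (χ : K → ℂ)},
      ∃ ξ : {ξ : Cfsg.IrrCharacter C // InvChar D.φC (ξ : C → ℂ)},
        ((rmult D.ι (χ.1 : K → ℂ) (ξ.1 : C → ℂ) : ZMod p) = 1 ∨
          (rmult D.ι (χ.1 : K → ℂ) (ξ.1 : C → ℂ) : ZMod p) = -1) ∧
        ∀ ξ' : {ξ : Cfsg.IrrCharacter C // InvChar D.φC (ξ : C → ℂ)},
          ¬ p ∣ rmult D.ι (χ.1 : K → ℂ) (ξ'.1 : C → ℂ) → ξ' = ξ := by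
    intro χ
    obtain ⟨θ, hθS, hc⟩ := D.exists_θ_under χ.1 χ.2
    obtain ⟨ξ, hξS, hcξ, hmod, huniq⟩ := D.exists_correspondent θ hM hQp hθS χ.1 χ.2 hc
    refine ⟨⟨ξ, hξS⟩, ?_, ?_⟩
    · rcases hmod with h1 | h1
      · left
        have := (ZMod.intCast_eq_intCast_iff _ _ p).mpr h1
        push_cast at this
        exact this
      · right
        have := (ZMod.intCast_eq_intCast_iff _ _ p).mpr h1
        push_cast at this
        exact this
    · intro ξ' hnd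
      have hne0 : rmult D.ι (χ.1 : K → ℂ) (ξ'.1 : C → ℂ) ≠ 0 := by
        intro h0
        apply hnd
        rw [h0]
        exact dvd_zero p
      obtain ⟨θ', hθ'S, hc'ξ⟩ := D.exists_θ_under_C ξ'.1 ξ'.2
      have hc' := D.over_of_rmult_ne_zero θ' χ.1 ξ'.1 hne0 hc'ξ
      have hover := D.over_θC_of_conj χ.1 χ.2 θ θ' hθS hθ'S hc hc' ξ'.1 hc'ξ
      by_contra hne
      apply hnd
      apply huniq ξ'.1 hover
      intro h
      exact hne (Subtype.ext h)
  choose F hF using key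
  have hnd : ∀ χ, ¬ p ∣ rmult D.ι (χ.1 : K → ℂ) ((F χ).1 : C → ℂ) := by
    intro χ h
    have h0 := (ZMod.natCast_eq_zero_iff _ _).mpr h
    rcases (hF χ).1 with h1 | h1
    · rw [h0] at h1
      exact zero_ne_one h1
    · rw [h0] at h1
      have : (1 : ZMod p) = 0 := by
        have := congrArg (fun x => -x) h1
        simpa using this.symm
      exact one_ne_zero this
  have hne0 : ∀ χ, rmult D.ι (χ.1 : K → ℂ) ((F χ).1 : C → ℂ) ≠ 0 := by
    intro χ h0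
    apply hnd χ
    rw [h0]
    exact dvd_zero p
  refine ⟨F, ⟨?_, ?_⟩, ?_⟩
  · -- injective
    intro χ χ' h
    obtain ⟨θ, hθS, hcξ⟩ := D.exists_θ_under_C (F χ).1 (F χ).2
    have hc := D.over_of_rmult_ne_zero θ χ.1 (F χ).1 (hne0 χ) hcξ
    have hc' := D.over_of_rmult_ne_zero θ χ'.1 (F χ).1 (h ▸ hne0 χ') hcξ
    exact Subtype.ext (D.source_unique θ hM hQp hθS χ.1 χ'.1 χ.2 χ'.2 hc hc' (F χ).1 hcξ
      (hnd χ) (h ▸ hnd χ'))
  · -- surjective
    intro ξ
    obtain ⟨θ, hθS, hcξ⟩ := D.exists_θ_under_C ξ.1 ξ.2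
    obtain ⟨χ, hχS, hc, hm⟩ := D.exists_source θ hM hQp hθS ξ.1 hcξ
    exact ⟨⟨χ, hχS⟩, ((hF ⟨χ, hχS⟩).2 ξ hm).symm⟩
  · intro χ
    have hfirst : ∀ ξ : {ξ : Cfsg.IrrCharacter C // InvChar D.φC (ξ : C → ℂ)},
        ξ ≠ F χ → p ∣ rmult D.ι (χ.1 : K → ℂ) (ξ.1 : C → ℂ) := by
      intro ξ hne
      by_contra hnd'
      exact hne ((hF χ).2 ξ hnd')
    refine ⟨fun ξ => ⟨?_, hfirst ξ⟩, ?_⟩
    · rintro rfl
      exact (hF χ).1
    · -- degrees
      haveI : Fintype (Cfsg.IrrCharacter C) := Fintype.ofFinite _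
      letI := irrAct D.φC
      obtain ⟨f, hf⟩ : ∃ f : Cfsg.IrrCharacter C → ℕ, f = fun ξ : Cfsg.IrrCharacter C =>
          rmult D.ι (χ.1 : K → ℂ) (ξ.1 : C → ℂ) * Cfsg.charDegree (ξ.1 : C → ℂ) := ⟨_, rfl⟩
      have hinv : ∀ (s : S) (ξ : Cfsg.IrrCharacter C), f (s • ξ) = f ξ := by
        intro s ξ
        have e1 : ((s • ξ : Cfsg.IrrCharacter C) : C → ℂ)
            = fun c => (ξ : C → ℂ) ((D.φC s)⁻¹ c) := rfl
        rw [hf]
        show rmult D.ι (χ.1 : K → ℂ) ((s • ξ : Cfsg.IrrCharacter C) : C → ℂ)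
            * Cfsg.charDegree ((s • ξ : Cfsg.IrrCharacter C) : C → ℂ)
          = rmult D.ι (χ.1 : K → ℂ) (ξ : C → ℂ) * Cfsg.charDegree (ξ : C → ℂ)
        rw [e1]
        congr 1
        · unfold rmult
          have h1 := classInner_comp_mulEquiv ((D.φC s)⁻¹ : C ≃* C)
            (fun c => (χ.1 : K → ℂ) (D.ι c)) (ξ : C → ℂ)
          have e2 : (fun h => (fun c => (χ.1 : K → ℂ) (D.ι c)) (((D.φC s)⁻¹ : C ≃* C) h))
              = fun c => (χ.1 : K → ℂ) (D.ι c) := by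
            funext c
            show (χ.1 : K → ℂ) (D.ι ((D.φC s)⁻¹ c)) = (χ.1 : K → ℂ) (D.ι c)
            rw [← map_inv, D.hι, χ.2]
          rw [e2] at h1
          rw [h1]
        · unfold Cfsg.charDegree
          show ⌊((ξ : C → ℂ) ((D.φC s)⁻¹ 1)).re⌋₊ = _
          rw [map_one]
      have h1 := sum_modEq_sum_fixed D.pgroup f hinv
      have h2 : Cfsg.charDegree (χ.1 : K → ℂ) = ∑ ξ, f ξ := by
        rw [hf]
        exact charDegree_eq_sum_rmult D.ι (IsIrrCharacter.isCharacter χ.1.2)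
      have h3 : (Cfsg.charDegree (χ.1 : K → ℂ) : ZMod p)
          = ((∑ x ∈ Finset.univ.filter (· ∈ MulAction.fixedPoints S (Cfsg.IrrCharacter C)),
              f x : ℕ) : ZMod p) := by
        rw [h2]
        exact (ZMod.natCast_eq_natCast_iff _ _ _).mpr h1
      have hmem : (F χ).1 ∈ Finset.univ.filter
          (· ∈ MulAction.fixedPoints S (Cfsg.IrrCharacter C)) := by
        rw [Finset.mem_filter]
        refine ⟨Finset.mem_univ _, ?_⟩
        rw [MulAction.mem_fixedPoints]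
        exact (irrAct_fixed_iff D.φC (F χ).1).mpr (F χ).2
      have hothers : ∀ b ∈ Finset.univ.filter
          (· ∈ MulAction.fixedPoints S (Cfsg.IrrCharacter C)), b ≠ (F χ).1 →
          ((f b : ℕ) : ZMod p) = 0 := by
        intro b hb hne
        rw [Finset.mem_filter, MulAction.mem_fixedPoints] at hb
        have hbS : InvChar D.φC (b : C → ℂ) := (irrAct_fixed_iff D.φC b).mp hb.2
        have hdvd := hfirst ⟨b, hbS⟩ (fun h => hne (congrArg Subtype.val h))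
        rw [hf]
        rw [ZMod.natCast_eq_zero_iff]
        exact Dvd.dvd.mul_right hdvd _
      rw [Nat.cast_sum, Finset.sum_eq_single_of_mem (F χ).1 hmem hothers, hf] at h3
      push_cast at h3
      rcases (hF χ).1 with h4 | h4
      · left
        rw [h4, one_mul] at h3
        exact h3.symm
      · right
        rw [h4, neg_one_mul] at h3
        rw [h3, neg_neg]

end Setup

end Cfsg.Agent.Lib.Helper8.RelGlau
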