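import Mathlib
import Cfsg.Prelude.Def_RootSubgroups

set_option autoImplicit false

namespace Cfsg.Agent.Lib.Helper8.RI

open Cfsg

variable {G : Type*} [Group G]

theorem orderOf_conj_eq (g x : G) : orderOf (g * x * g⁻¹) = orderOf x :=
  (MulAut.conj g).orderOf_eq x

theorem orderOf_mul_swap (x y : G) : orderOf (x * y) = orderOf (y * x) := by
  have h := orderOf_conj_eq x (y * x)
  rw [← h]
  congr 1
  group

/-- the purely algebraic heart of the component lemma -/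
theorem alg_key (a z t : G) (ha : a * a = 1) (hz : z * z = 1)
    (haz : a * z = z * a) (hzt : z * t * z = t⁻¹) (hodd : Odd (orderOf t))
    (H1 : ∀ k : ℤ, (t ^ k * z * (t ^ k)⁻¹ * a) ^ 4 = 1)
    (H2 : (t * z * t⁻¹ * (a * z)) ^ 4 = 1) : t = 1 := by
  have hzinv : z⁻¹ = z := inv_eq_of_mul_eq_one_left hz
  have hainv : a⁻¹ = a := inv_eq_of_mul_eq_one_left ha
  -- S1
  have S1 : ∀ k : ℤ, z * t ^ k * z = (t ^ k)⁻¹ := by
    intro k
    have h : (z * t * z⁻¹) ^ k = z * t ^ k * z⁻¹ := conj_zpow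
    rw [hzinv, hzt] at h
    rw [← h, inv_zpow]
  obtain ⟨u, hu⟩ : ∃ u, u = t * t := ⟨_, rfl⟩
  have huk : ∀ k : ℤ, u ^ k = t ^ k * t ^ k := by
    intro k; rw [hu]; exact (Commute.refl t).mul_zpow k
  -- S2
  have S2 : ∀ k : ℤ, t ^ k * z * (t ^ k)⁻¹ = u ^ k * z := by
    intro k
    have h1 : z * (t ^ k)⁻¹ = t ^ k * z := by
      rw [← S1 k]
      calc z * (z * t ^ k * z) = (z * z) * t ^ k * z := by group
        _ = t ^ k * z := by rw [hz, one_mul]
    rw [huk, mul_assoc, h1, ← mul_assoc]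
  have S2' : ∀ k : ℤ, z * u ^ k * z = (u ^ k)⁻¹ := by
    intro k
    rw [huk]
    calc z * (t ^ k * t ^ k) * z = z * t ^ k * 1 * t ^ k * z := by group
      _ = z * t ^ k * (z * z) * t ^ k * z := by rw [hz]
      _ = (z * t ^ k * z) * (z * t ^ k * z) := by group
      _ = (t ^ k)⁻¹ * (t ^ k)⁻¹ := by rw [S1]
      _ = (t ^ k * t ^ k)⁻¹ := by group
  -- S3
  have S3 : ∀ k : ℤ, a * (u ^ k * a * (u ^ k)⁻¹) = (u ^ k * a * (u ^ k)⁻¹) * a := by
    intro k
    have h := H1 k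
    rw [S2 k] at h
    obtain ⟨e, he⟩ : ∃ e, e = u ^ k * z := ⟨_, rfl⟩
    rw [← he] at h
    have hee : e * e = 1 := by
      rw [he]
      calc u ^ k * z * (u ^ k * z) = u ^ k * (z * u ^ k * z) := by group
        _ = 1 := by rw [S2']; group
    have heinv : e⁻¹ = e := inv_eq_of_mul_eq_one_left hee
    have heae : e * a * e = u ^ k * a * (u ^ k)⁻¹ := by
      rw [he]
      calc u ^ k * z * a * (u ^ k * z) = u ^ k * (z * a) * u ^ k * z := by group
        _ = u ^ k * (a * z) * u ^ k * z := by rw [haz]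
        _ = u ^ k * a * (z * u ^ k * z) := by group
        _ = u ^ k * a * (u ^ k)⁻¹ := by rw [S2']
    rw [← heae]
    -- (e a)^4 = 1
    have h2 : (e * a) * (e * a) = ((e * a) * (e * a))⁻¹ := by
      rw [eq_inv_iff_mul_eq_one]
      calc e * a * (e * a) * (e * a * (e * a)) = (e * a) ^ 4 := by
            simp only [pow_succ, pow_zero, one_mul, mul_assoc]
        _ = 1 := h
    have h3 : ((e * a) * (e * a))⁻¹ = a * e * a * e := by
      rw [mul_inv_rev, mul_inv_rev, hainv, heinv]; group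
    calc a * (e * a * e) = a * e * a * e := by group
      _ = (e * a) * (e * a) := by rw [← h3, ← h2]
      _ = e * a * e * a := by group
  -- pairwise commutation
  have S3' : ∀ i j : ℤ, (u ^ i * a * (u ^ i)⁻¹) * (u ^ j * a * (u ^ j)⁻¹) =
      (u ^ j * a * (u ^ j)⁻¹) * (u ^ i * a * (u ^ i)⁻¹) := by
    intro i j
    have h := S3 (j - i)
    calc (u ^ i * a * (u ^ i)⁻¹) * (u ^ j * a * (u ^ j)⁻¹)
        = u ^ i * (a * (u ^ (j - i) * a * (u ^ (j - i))⁻¹)) * (u ^ i)⁻¹ := by group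
      _ = u ^ i * ((u ^ (j - i) * a * (u ^ (j - i))⁻¹) * a) * (u ^ i)⁻¹ := by rw [h]
      _ = (u ^ j * a * (u ^ j)⁻¹) * (u ^ i * a * (u ^ i)⁻¹) := by group
  -- S4
  have S4 : ∀ n : ℕ, ((a * u) ^ n * (u ^ n)⁻¹) * ((a * u) ^ n * (u ^ n)⁻¹) = 1 ∧
      ∀ k : ℤ, ((a * u) ^ n * (u ^ n)⁻¹) * (u ^ k * a * (u ^ k)⁻¹) =
        (u ^ k * a * (u ^ k)⁻¹) * ((a * u) ^ n * (u ^ n)⁻¹) := by
    intro n
    induction n with
    | zero => simp
    | succ n ih =>
      obtain ⟨ih1, ih2⟩ := ih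
      obtain ⟨P, hP⟩ : ∃ P, P = (a * u) ^ n * (u ^ n)⁻¹ := ⟨_, rfl⟩
      rw [← hP] at ih1 ih2
      have hstep : (a * u) ^ (n + 1) * (u ^ (n + 1))⁻¹ = P * (u ^ (n : ℤ) * a * (u ^ (n : ℤ))⁻¹) := by
        rw [hP, pow_succ, pow_succ, zpow_natCast]; group
      rw [hstep]
      constructor
      · calc P * (u ^ (n : ℤ) * a * (u ^ (n : ℤ))⁻¹) * (P * (u ^ (n : ℤ) * a * (u ^ (n : ℤ))⁻¹))
            = P * ((u ^ (n : ℤ) * a * (u ^ (n : ℤ))⁻¹) * P) * (u ^ (n : ℤ) * a * (u ^ (n : ℤ))⁻¹) := by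
              group
          _ = P * (P * (u ^ (n : ℤ) * a * (u ^ (n : ℤ))⁻¹)) * (u ^ (n : ℤ) * a * (u ^ (n : ℤ))⁻¹) := by
              rw [ih2]
          _ = (P * P) * (u ^ (n : ℤ) * (a * a) * (u ^ (n : ℤ))⁻¹) := by group
          _ = 1 := by rw [ih1, ha]; group
      · intro k
        calc P * (u ^ (n : ℤ) * a * (u ^ (n : ℤ))⁻¹) * (u ^ k * a * (u ^ k)⁻¹)
            = P * ((u ^ (n : ℤ) * a * (u ^ (n : ℤ))⁻¹) * (u ^ k * a * (u ^ k)⁻¹)) := by group
          _ = P * ((u ^ k * a * (u ^ k)⁻¹) * (u ^ (n : ℤ) * a * (u ^ (n : ℤ))⁻¹)) := by rw [S3']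
          _ = (P * (u ^ k * a * (u ^ k)⁻¹)) * (u ^ (n : ℤ) * a * (u ^ (n : ℤ))⁻¹) := by group
          _ = ((u ^ k * a * (u ^ k)⁻¹) * P) * (u ^ (n : ℤ) * a * (u ^ (n : ℤ))⁻¹) := by rw [ih2]
          _ = (u ^ k * a * (u ^ k)⁻¹) * (P * (u ^ (n : ℤ) * a * (u ^ (n : ℤ))⁻¹)) := by group
  -- S5
  have hu2 : u = t ^ 2 := by rw [hu, pow_two]
  have hmodd : Odd (orderOf u) := by
    rw [hu2]; exact Odd.of_dvd_nat hodd (orderOf_pow_dvd 2)
  have S5 : (a * u) ^ (orderOf u * 2) = 1 := by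
    have h := (S4 (orderOf u)).1
    rw [pow_orderOf_eq_one, inv_one, mul_one] at h
    rw [pow_mul, pow_two]; exact h
  -- S6
  have S6 : (a * u) ^ 4 = 1 := by
    have h1 : t * z * t⁻¹ * (a * z) = u * a := by
      have h := S2 1
      rw [zpow_one, zpow_one] at h
      rw [h]
      calc u * z * (a * z) = u * (z * a) * z := by group
        _ = u * (a * z) * z := by rw [haz]
        _ = u * a * (z * z) := by group
        _ = u * a := by rw [hz, mul_one]
    rw [h1] at H2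
    have h2 : a * u = a * (u * a) * a⁻¹ := by group
    rw [h2, conj_pow, H2]; group
  -- S7
  have S7 : (a * u) ^ 2 = 1 := by
    have h := pow_gcd_eq_one.mpr ⟨S5, S6⟩
    have hg : Nat.gcd (orderOf u * 2) 4 = 2 := by
      obtain ⟨r, hr⟩ := hmodd
      rw [hr]
      have : (2 * r + 1) * 2 = 2 * (2 * r + 1) := by ring
      rw [this, show (4 : ℕ) = 2 * 2 from rfl, Nat.gcd_mul_left]
      have : Nat.gcd (2 * r + 1) 2 = 1 := by
        rw [Nat.gcd_comm]; simp
      rw [this]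
    rwa [hg] at h
  -- S8
  have S8 : a * u * a = u⁻¹ := by
    rw [pow_two] at S7
    calc a * u * a = (a * u * (a * u)) * u⁻¹ := by group
      _ = u⁻¹ := by rw [S7, one_mul]
  have S8' : a * u⁻¹ = u * a := by
    have h : (a * u * a)⁻¹ = u := by rw [S8, inv_inv]
    rw [mul_inv_rev, mul_inv_rev, hainv] at h
    calc a * u⁻¹ = (a * (u⁻¹ * a)) * a⁻¹ := by group
      _ = u * a := by rw [h, hainv]
  -- S9
  have S9 : u * u = u⁻¹ * u⁻¹ := by
    have h := S3 1
    rw [zpow_one] at h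
    have h1 : u * a * u⁻¹ = u * u * a := by
      calc u * a * u⁻¹ = u * (a * u⁻¹) := by group
        _ = u * u * a := by rw [S8']; group
    rw [h1] at h
    -- a * (u u a) = u u a a
    have h2 : a * (u * u) * a = u * u := by
      calc a * (u * u) * a = a * (u * u * a) := by group
        _ = u * u * a * a := h
        _ = u * u * (a * a) := by group
        _ = u * u := by rw [ha, mul_one]
    have h3 : a * (u * u) * a = u⁻¹ * u⁻¹ := by
      calc a * (u * u) * a = a * u * 1 * u * a := by group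
        _ = a * u * (a * a) * u * a := by rw [ha]
        _ = (a * u * a) * (a * u * a) := by group
        _ = u⁻¹ * u⁻¹ := by rw [S8]
    rw [← h2, h3]
  have S10 : t ^ 8 = 1 := by
    have h : u ^ 4 = 1 := by
      calc u ^ 4 = (u * u) * (u * u) := by
            simp only [pow_succ, pow_zero, one_mul, mul_assoc]
        _ = (u⁻¹ * u⁻¹) * (u * u) := by rw [S9]
        _ = 1 := by group
    rw [hu2, ← pow_mul] at h
    exact h
  have h8 : orderOf t ∣ 8 := orderOf_dvd_of_pow_eq_one S10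
  have h1 : orderOf t = 1 := by
    have hcop : Nat.Coprime (orderOf t) 8 := by
      have : (8 : ℕ) = 2 ^ 3 := by norm_num
      rw [this]
      exact Nat.Coprime.pow_right 3 hodd.coprime_two_right
    exact Nat.Coprime.eq_one_of_dvd hcop h8
  exact orderOf_eq_one_iff.mp h1

end Cfsg.Agent.Lib.Helper8.RI
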