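import Mathlib
import Cfsg.Prelude.Def_RootSubgroups
import Cfsg.Agent.Lib.Helper8.RI1
import Cfsg.Agent.Lib.Helper1.PCore
import Cfsg.Agent.S0199

set_option autoImplicit false

namespace Cfsg.Agent.Lib.Helper8.RI

open Cfsg

variable {G : Type*} [Group G] {D : Set G}

theorem mul_self_of_mem (hD : IsRootInvolutionSet D) {a : G} (ha : a ∈ D) : a * a = 1 := by
  have h := hD.orderOf_eq a ha
  have h2 : a ^ 2 = 1 := by rw [← h]; exact pow_orderOf_eq_one a
  rwa [pow_two] at h2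

theorem inv_eq_of_mem (hD : IsRootInvolutionSet D) {a : G} (ha : a ∈ D) : a⁻¹ = a :=
  inv_eq_of_mul_eq_one_left (mul_self_of_mem hD ha)

theorem ne_one_of_mem (hD : IsRootInvolutionSet D) {a : G} (ha : a ∈ D) : a ≠ 1 := by
  intro h
  have h2 := hD.orderOf_eq a ha
  rw [h, orderOf_one] at h2
  omega

theorem oddAdj_symm {a b : G} (h : OddAdj D a b) : OddAdj D b a := by
  obtain ⟨ha, hb, hne, ho⟩ := h
  exact ⟨hb, ha, hne.symm, by rwa [orderOf_mul_swap]⟩

theorem oddAdj_conj (hD : IsRootInvolutionSet D) {a b : G} (g : G) (h : OddAdj D a b) :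
    OddAdj D (g * a * g⁻¹) (g * b * g⁻¹) := by
  obtain ⟨ha, hb, hne, ho⟩ := h
  refine ⟨hD.conj_mem a ha g, hD.conj_mem b hb g, ?_, ?_⟩
  · intro h
    apply hne
    have h2 := congrArg (fun x => g⁻¹ * x * g) h
    simpa [mul_assoc] using h2
  · have h1 : g * a * g⁻¹ * (g * b * g⁻¹) = g * (a * b) * g⁻¹ := by group
    rw [h1, orderOf_conj_eq]; exact ho

theorem reach_symm {a b : G} (h : Relation.ReflTransGen (OddAdj D) a b) :
    Relation.ReflTransGen (OddAdj D) b a := by
  induction h with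
  | refl => exact Relation.ReflTransGen.refl
  | tail _ hbc ih => exact Relation.ReflTransGen.head (oddAdj_symm hbc) ih

theorem reach_conj (hD : IsRootInvolutionSet D) {a b : G} (g : G)
    (h : Relation.ReflTransGen (OddAdj D) a b) :
    Relation.ReflTransGen (OddAdj D) (g * a * g⁻¹) (g * b * g⁻¹) :=
  Relation.ReflTransGen.lift (fun x => g * x * g⁻¹) (fun _ _ h => oddAdj_conj hD g h) _ _ h

theorem comp_eq_of_reach {a b : G} (h : Relation.ReflTransGen (OddAdj D) a b) :
    elemComponentOf (OddAdj D) D a = elemComponentOf (OddAdj D) D b := by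
  ext c
  constructor
  · rintro ⟨hc, hac⟩
    exact ⟨hc, (reach_symm h).trans hac⟩
  · rintro ⟨hc, hbc⟩
    exact ⟨hc, h.trans hbc⟩

/-- two non-adjacent members have a product of order dividing 4 -/
theorem pow_four_of_not_adj (hD : IsRootInvolutionSet D) {x y : G} (hx : x ∈ D) (hy : y ∈ D)
    (h : ¬ OddAdj D x y) : (x * y) ^ 4 = 1 := by
  rcases hD.pair x hx y hy with hc | ho | ⟨h4, -⟩
  · have h2 : (x * y) ^ 2 = 1 := by
      rw [pow_two]
      calc x * y * (x * y) = x * (y * x) * y := by group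
        _ = x * (x * y) * y := by rw [hc]
        _ = (x * x) * (y * y) := by group
        _ = 1 := by rw [mul_self_of_mem hD hx, mul_self_of_mem hD hy, one_mul]
    calc (x * y) ^ 4 = ((x * y) ^ 2) ^ 2 := by rw [← pow_mul]
      _ = 1 := by rw [h2, one_pow]
  · by_cases hxy : x = y
    · rw [hxy, mul_self_of_mem hD hy, one_pow]
    · exact absurd ⟨hx, hy, hxy, ho⟩ h
  · rw [← h4]; exact pow_orderOf_eq_one _

/-- **Key lemma**: if `a` commutes with the non-isolated `z` and `a z ∈ D`, then `a` or `a z` lies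
in the component of `z`. -/
theorem key_lemma (hD : IsRootInvolutionSet D) {a z c : G} (ha : a ∈ D) (hz : z ∈ D)
    (haz : a * z = z * a) (hazD : a * z ∈ D) (hzc : OddAdj D z c) :
    Relation.ReflTransGen (OddAdj D) z a ∨ Relation.ReflTransGen (OddAdj D) z (a * z) := by
  by_contra hcon
  rw [not_or] at hcon
  obtain ⟨hn1, hn2⟩ := hcon
  obtain ⟨-, hc, hne, hodd⟩ := hzc
  have hzz := mul_self_of_mem hD hz
  have hcc := mul_self_of_mem hD hc
  have hzinv := inv_eq_of_mem hD hz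
  have hcinv := inv_eq_of_mem hD hc
  obtain ⟨t, ht⟩ : ∃ t, t = z * c := ⟨_, rfl⟩
  rw [← ht] at hodd
  have hzt : z * t * z = t⁻¹ := by
    rw [ht, mul_inv_rev, hzinv, hcinv]
    calc z * (z * c) * z = (z * z) * c * z := by group
      _ = c * z := by rw [hzz, one_mul]
  have hS1 : ∀ k : ℤ, z * t ^ k * z = (t ^ k)⁻¹ := by
    intro k
    have h : (z * t * z⁻¹) ^ k = z * t ^ k * z⁻¹ := conj_zpow
    rw [hzinv, hzt] at h
    rw [← h, inv_zpow]
  -- the conjugates of z
  have hreach : ∀ k : ℤ, Relation.ReflTransGen (OddAdj D) z (t ^ k * z * (t ^ k)⁻¹) := by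
    intro k
    by_cases he : z = t ^ k * z * (t ^ k)⁻¹
    · rw [← he]
    · refine Relation.ReflTransGen.single ⟨hz, hD.conj_mem z hz _, he, ?_⟩
      have h1 : z * (t ^ k * z * (t ^ k)⁻¹) = (t ^ k)⁻¹ * (t ^ k)⁻¹ := by
        calc z * (t ^ k * z * (t ^ k)⁻¹) = (z * t ^ k * z) * (t ^ k)⁻¹ := by group
          _ = (t ^ k)⁻¹ * (t ^ k)⁻¹ := by rw [hS1]
      rw [h1]
      have hmem : (t ^ k)⁻¹ * (t ^ k)⁻¹ ∈ Subgroup.zpowers t :=
        Subgroup.mul_mem _ (Subgroup.inv_mem _ (Subgroup.zpow_mem_zpowers t k))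
          (Subgroup.inv_mem _ (Subgroup.zpow_mem_zpowers t k))
      exact Odd.of_dvd_nat hodd (orderOf_dvd_of_mem_zpowers hmem)
  have H1 : ∀ k : ℤ, (t ^ k * z * (t ^ k)⁻¹ * a) ^ 4 = 1 := by
    intro k
    apply pow_four_of_not_adj hD (hD.conj_mem z hz _) ha
    intro hadj
    exact hn1 ((hreach k).tail hadj)
  have H2 : (t * z * t⁻¹ * (a * z)) ^ 4 = 1 := by
    apply pow_four_of_not_adj hD (hD.conj_mem z hz _) hazD
    intro hadj
    have h := hreach 1
    rw [zpow_one] at h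
    exact hn2 (h.tail hadj)
  have ht1 := alg_key a z t (mul_self_of_mem hD ha) hzz haz hzt hodd H1 H2
  apply hne
  rw [ht] at ht1
  calc z = c⁻¹ := eq_inv_of_mul_eq_one_left ht1
    _ = c := hcinv

/-- two involutions with product of order dividing 4 generate a 2-group -/
theorem isPGroup_two_closure_pair {w w' : G} (hw : w * w = 1) (hw' : w' * w' = 1)
    (h4 : (w * w') ^ 4 = 1) : IsPGroup 2 ↥(Subgroup.zpowers w ⊔ Subgroup.zpowers w') := by
  have : Fact (Nat.Prime 2) := ⟨Nat.prime_two⟩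
  obtain ⟨r, hr⟩ : ∃ r, r = w * w' := ⟨_, rfl⟩
  rw [← hr] at h4
  have hwinv : w⁻¹ = w := inv_eq_of_mul_eq_one_left hw
  have hw'inv : w'⁻¹ = w' := inv_eq_of_mul_eq_one_left hw'
  have hPw : IsPGroup 2 (Subgroup.zpowers w) := by
    rw [IsPGroup.iff_orderOf]
    intro x
    have h1 : orderOf (x : G) ∣ 2 := by
      have := orderOf_dvd_of_mem_zpowers x.2
      refine this.trans (orderOf_dvd_of_pow_eq_one ?_)
      rw [pow_two]; exact hw
    rw [Subgroup.orderOf_coe] at h1
    rcases (Nat.dvd_prime Nat.prime_two).mp h1 with h | h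
    · exact ⟨0, by rw [h]; rfl⟩
    · exact ⟨1, by rw [h]; rfl⟩
  have hPr : IsPGroup 2 (Subgroup.zpowers r) := by
    rw [IsPGroup.iff_orderOf]
    intro x
    have h1 : orderOf (x : G) ∣ 2 ^ 2 := by
      have := orderOf_dvd_of_mem_zpowers x.2
      exact this.trans (orderOf_dvd_of_pow_eq_one h4)
    rw [Subgroup.orderOf_coe] at h1
    obtain ⟨k, -, hk⟩ := (Nat.dvd_prime_pow Nat.prime_two).mp h1
    exact ⟨k, hk⟩
  have hnorm : Subgroup.zpowers w ≤ Subgroup.normalizer (Subgroup.zpowers r : Set G) := by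
    rw [Subgroup.zpowers_le]
    rw [Subgroup.mem_normalizer_iff]
    have hconj : w * r * w⁻¹ = r⁻¹ := by
      rw [hr, mul_inv_rev, hwinv, hw'inv]
      calc w * (w * w') * w = (w * w) * w' * w := by group
        _ = w' * w := by rw [hw, one_mul]
    intro x
    constructor
    · intro hx
      obtain ⟨k, rfl⟩ := Subgroup.mem_zpowers_iff.mp hx
      rw [← conj_zpow, hconj]
      exact Subgroup.zpow_mem _ (Subgroup.inv_mem _ (Subgroup.mem_zpowers r)) k
    · intro hx
      obtain ⟨k, hk⟩ := Subgroup.mem_zpowers_iff.mp hx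
      have h1 : x = w⁻¹ * (r ^ k) * w := by rw [hk]; group
      have h2 : w⁻¹ * r * w⁻¹⁻¹ = r⁻¹ := by
        rw [inv_inv, hwinv, ← hconj, hwinv]
      rw [h1]
      have h3 : w⁻¹ * r ^ k * w = (w⁻¹ * r * w⁻¹⁻¹) ^ k := by rw [conj_zpow, inv_inv]
      rw [h3, h2]
      exact Subgroup.zpow_mem _ (Subgroup.inv_mem _ (Subgroup.mem_zpowers r)) k
  have hsup := IsPGroup.to_sup_of_normal_right' hPw hPr hnorm
  refine hsup.to_le ?_
  apply sup_le le_sup_left
  rw [Subgroup.zpowers_le]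
  have h1 : w' = w⁻¹ * r := by rw [hr]; group
  rw [h1]
  exact Subgroup.mul_mem _ (Subgroup.inv_mem _ (le_sup_left (a := Subgroup.zpowers w)
    (Subgroup.mem_zpowers w))) (le_sup_right (b := Subgroup.zpowers r) (Subgroup.mem_zpowers r))

/-- an isolated member lies in `O₂(G)` -/
theorem isolated_mem_pCore [Finite G] (hD : IsRootInvolutionSet D) {w : G}
    (hw : IsIsolatedElem (OddAdj D) D w) : w ∈ pCore 2 G := by
  have : Fact (Nat.Prime 2) := ⟨Nat.prime_two⟩
  obtain ⟨hwD, hiso⟩ := hw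
  have hww := mul_self_of_mem hD hwD
  have hX : IsPGroup 2 (Subgroup.zpowers w) := by
    have h := isPGroup_two_closure_pair hww hww (by rw [hww, one_pow])
    exact h.to_le le_sup_left
  have hpair : ∀ g : G, IsPGroup 2 ↥(Subgroup.zpowers w ⊔
      (Subgroup.zpowers w).map (MulAut.conj g).toMonoidHom) := by
    intro g
    rw [MonoidHom.map_zpowers]
    have hw' : g * w * g⁻¹ ∈ D := hD.conj_mem w hwD g
    have h1 : (MulAut.conj g).toMonoidHom w = g * w * g⁻¹ := rfl
    rw [h1]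
    apply isPGroup_two_closure_pair hww (mul_self_of_mem hD hw')
    exact pow_four_of_not_adj hD hwD hw' (hiso _).1
  obtain ⟨N, hN, hNp, hle⟩ := Cfsg.Agent.S0199.result (Subgroup.zpowers w) hX hpair
  exact Cfsg.Agent.Lib.Helper1.le_pCore hN hNp (hle (Subgroup.mem_zpowers w))

end Cfsg.Agent.Lib.Helper8.RI
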