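import Mathlib
import Cfsg.Prelude.Def_RootSubgroups
import Cfsg.Agent.Lib.Helper8.RI1
import Cfsg.Agent.Lib.Helper8.RI2

set_option autoImplicit false

namespace Cfsg.Agent.Lib.Helper8.RI

open Cfsg

variable {G : Type*} [Group G] {D : Set G}

/-- (*) : no `r ∈ C_D(p)` is oddly adjacent to a `q ∈ X_p`. -/
theorem star (hD : IsRootInvolutionSet D) {p q r : G} (hp : p ∈ D) (_hq : q ∈ D) (hr : r ∈ D)
    (hpq : p * q = q * p) (hpqD : p * q ∈ D) (hpr : p * r = r * p)
    (hodd : Odd (orderOf (q * r))) (hne : q ≠ r) : False := by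
  obtain ⟨t, ht⟩ : ∃ t, t = q * r := ⟨_, rfl⟩
  rw [← ht] at hodd
  have hpt : Commute p t := by
    rw [ht]; exact (show Commute p q from hpq).mul_right hpr
  have hop : orderOf p = 2 := hD.orderOf_eq p hp
  have hco : (orderOf p).Coprime (orderOf t) := by
    rw [hop]; exact Nat.Coprime.symm (Odd.coprime_two_right hodd)
  have ho : orderOf (p * t) = 2 * orderOf t := by
    rw [hpt.orderOf_mul_eq_mul_orderOf_of_coprime hco, hop]
  have hpqr : p * q * r = p * t := by rw [ht, mul_assoc]
  have htne : orderOf t ≠ 1 := by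
    intro h
    rw [orderOf_eq_one_iff] at h
    apply hne
    rw [ht] at h
    calc q = r⁻¹ := eq_inv_of_mul_eq_one_left h
      _ = r := inv_eq_of_mem hD hr
  rcases hD.pair (p * q) hpqD r hr with h | h | ⟨h, -⟩
  · have h2 : (p * q * r) ^ 2 = 1 := by
      rw [pow_two]
      calc p * q * r * (p * q * r) = p * q * (r * (p * q)) * r := by simp only [mul_assoc]
        _ = p * q * (p * q * r) * r := by rw [h]
        _ = (p * q) * (p * q) * (r * r) := by simp only [mul_assoc]
        _ = 1 := by rw [mul_self_of_mem hD hpqD, mul_self_of_mem hD hr, one_mul]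
    rw [hpqr] at h2
    have h3 := orderOf_dvd_of_pow_eq_one h2
    rw [ho] at h3
    have h4 : orderOf t ∣ 1 := Nat.dvd_of_mul_dvd_mul_left two_pos (by simpa using h3)
    exact htne (Nat.dvd_one.mp h4)
  · rw [hpqr, ho] at h
    exact (Nat.not_even_iff_odd.mpr h) (even_two_mul _)
  · rw [hpqr, ho] at h
    have h5 : orderOf t = 2 := by omega
    rw [h5] at hodd
    exact absurd hodd (by decide)

/-- the central involution of a dihedral group of order 8 generated by two members -/
theorem four_facts (hD : IsRootInvolutionSet D) {x y : G} (hx : x ∈ D) (hy : y ∈ D)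
    (h4 : (x * y) ^ 4 = 1) :
    (x * y) ^ 2 * x = x * (x * y) ^ 2 ∧ (x * y) ^ 2 * y = y * (x * y) ^ 2 ∧
      (x * y) ^ 2 * x ∈ D ∧ (x * y) ^ 2 * y ∈ D := by
  have hxx := mul_self_of_mem hD hx
  have hyy := mul_self_of_mem hD hy
  have hxinv := inv_eq_of_mem hD hx
  have hyinv := inv_eq_of_mem hD hy
  have hxx' : ∀ w, x * (x * w) = w := fun w => by rw [← mul_assoc, hxx, one_mul]
  have hyy' : ∀ w, y * (y * w) = w := fun w => by rw [← mul_assoc, hyy, one_mul]
  have h8 : x * (y * (x * (y * (x * (y * (x * y)))))) = 1 := by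
    rw [← h4]; simp only [pow_succ, pow_zero, one_mul, mul_assoc]
  have e1 : y * (x * (y * (x * (y * (x * y))))) = x := by
    have := congrArg (fun w => x * w) h8
    simpa only [hxx', mul_one] using this
  have e2 : x * (y * (x * (y * (x * y)))) = y * x := by
    have := congrArg (fun w => y * w) e1
    simpa only [hyy'] using this
  have e3 : y * (x * (y * (x * y))) = x * (y * x) := by
    have := congrArg (fun w => x * w) e2
    simpa only [hxx'] using this
  have e4 : x * (y * (x * y)) = y * (x * (y * x)) := by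
    have := congrArg (fun w => y * w) e3
    simpa only [hyy'] using this
  refine ⟨?_, ?_, ?_, ?_⟩
  · simp only [pow_two, mul_assoc]
    rw [hxx']
    have := congrArg (fun w => x * w) e4
    simp only [hxx'] at this
    exact this.symm
  · simp only [pow_two, mul_assoc]
    rw [hyy, mul_one]
    have := congrArg (fun w => y * w) e4
    simp only [hyy'] at this
    exact this.symm
  · have : (x * y) ^ 2 * x = (x * y) * x * (x * y)⁻¹ := by
      rw [mul_inv_rev, hxinv, hyinv, pow_two]; simp only [mul_assoc]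
    rw [this]; exact hD.conj_mem x hx _
  · have : (x * y) ^ 2 * y = x * y * x⁻¹ := by
      rw [pow_two, hxinv]; simp only [mul_assoc]; rw [hyy, mul_one]
    rw [this]; exact hD.conj_mem y hy _

theorem commute_of_commute_sq {k t : G} (hodd : Odd (orderOf t)) (h : Commute k (t ^ 2)) :
    Commute k t := by
  obtain ⟨m, hm⟩ := hodd
  have h1 : t = (t ^ 2) ^ (m + 1) := by
    rw [← pow_mul, show 2 * (m + 1) = orderOf t + 1 by omega, pow_succ, pow_orderOf_eq_one,
      one_mul]
  rw [h1]; exact h.pow_right _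

/-- (L1') : a member oddly adjacent to `d` is oddly adjacent to one of the other two points of
any line through `d`. -/
theorem L1' (hD : IsRootInvolutionSet D) {d e a : G} (hd : d ∈ D) (he : e ∈ D)
    (hde : d * e = e * d) (hdeD : d * e ∈ D) (hda : OddAdj D d a) :
    OddAdj D e a ∨ OddAdj D (d * e) a := by
  by_contra hcon
  rw [not_or] at hcon
  obtain ⟨hn1, hn2⟩ := hcon
  obtain ⟨-, ha, hdane, hodd⟩ := hda
  have hdd := mul_self_of_mem hD hd
  have hee := mul_self_of_mem hD he
  have haa := mul_self_of_mem hD ha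
  have hdinv := inv_eq_of_mem hD hd
  have heinv := inv_eq_of_mem hD he
  have hainv := inv_eq_of_mem hD ha
  have hdd' : ∀ w, d * (d * w) = w := fun w => by rw [← mul_assoc, hdd, one_mul]
  have hee' : ∀ w, e * (e * w) = w := fun w => by rw [← mul_assoc, hee, one_mul]
  have hea : e * a ≠ a * e := by
    intro h
    exact star hD he hd ha hde.symm (by rw [← hde]; exact hdeD) h hodd hdane
  have h4ea : orderOf (e * a) = 4 ∧ (e * a) ^ 2 ∈ D := by
    rcases hD.pair e he a ha with h | h | h
    · exact absurd h hea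
    · exfalso; apply hn1; refine ⟨he, ha, ?_, h⟩; intro heq; apply hea; rw [heq]
    · exact h
  obtain ⟨ho4, hf1D⟩ := h4ea
  have h4 : (e * a) ^ 4 = 1 := by rw [← ho4]; exact pow_orderOf_eq_one _
  have h4' : (d * e * a) ^ 4 = 1 := pow_four_of_not_adj hD hdeD ha hn2
  obtain ⟨c1, c2, m1, m2⟩ := four_facts hD he ha h4
  obtain ⟨f1, hf1⟩ : ∃ f1, f1 = (e * a) ^ 2 := ⟨_, rfl⟩
  obtain ⟨f2, hf2⟩ : ∃ f2, f2 = (d * e * a) ^ 2 := ⟨_, rfl⟩
  rw [← hf1] at c1 c2 m1 m2 hf1D
  have hf1d : f1 * d ≠ d * f1 := by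
    intro h
    exact star hD hf1D ha hd c2 m2 h (by rw [orderOf_mul_swap]; exact hodd) hdane.symm
  have hnodd : ¬ Odd (orderOf (d * f1)) := by
    intro h
    exact star hD he hf1D hd c1.symm (by rw [← c1]; exact m1) hde.symm
      (by rw [orderOf_mul_swap]; exact h) (fun heq => hf1d (by rw [heq]))
  have hk : orderOf (d * f1) = 4 ∧ (d * f1) ^ 2 ∈ D := by
    rcases hD.pair d hd f1 hf1D with h | h | h
    · exact absurd h.symm hf1d
    · exact absurd h hnodd
    · exact h
  obtain ⟨hok, hk1D⟩ := hk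
  have h4k : (d * f1) ^ 4 = 1 := by rw [← hok]; exact pow_orderOf_eq_one _
  obtain ⟨kc1, -, km1, -⟩ := four_facts hD hd hf1D h4k
  obtain ⟨k1, hk1⟩ : ∃ k1, k1 = (d * f1) ^ 2 := ⟨_, rfl⟩
  rw [← hk1] at kc1 km1 hk1D
  obtain ⟨r, hr⟩ : ∃ r, r = (d * a) ^ 2 := ⟨_, rfl⟩
  have hf2sq : f2 * f2 = 1 := by rw [hf2, ← pow_two, ← pow_mul]; exact h4'
  have hf1sq : f1 * f1 = 1 := mul_self_of_mem hD hf1D
  have hf1sq' : ∀ w, f1 * (f1 * w) = w := fun w => by rw [← mul_assoc, hf1sq, one_mul]
  have h3 : e * a * e * a * e * a = a * e := by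
    have h : (e * a * e * a * e * a) * (e * a) = 1 := by
      rw [← h4]; simp only [pow_succ, pow_zero, one_mul, mul_assoc]
    rw [eq_inv_of_mul_eq_one_left h, mul_inv_rev, hainv, heinv]
  have hede : e * d * e = d := by rw [← hde, mul_assoc, hee, mul_one]
  have hr1 : r = (d * f1 * d) * f2 := by
    rw [hr, hf1, hf2, pow_two, pow_two, pow_two]
    calc d * a * (d * a) = d * a * (e * d * e) * a := by rw [hede]; simp only [mul_assoc]
      _ = d * (a * e) * (d * e * a) := by simp only [mul_assoc]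
      _ = d * (e * a * e * a * e * a) * (d * e * a) := by rw [h3]
      _ = d * (e * a * (e * a)) * d * (d * e * a * (d * e * a)) := by
        simp only [mul_assoc, hdd']
  have hdr : d * r * d = r⁻¹ := by
    rw [hr, ← inv_pow, mul_inv_rev, hainv, hdinv, pow_two, pow_two]
    simp only [mul_assoc, hdd']
  obtain ⟨u, hu⟩ : ∃ u, u = d * f1 * d := ⟨_, rfl⟩
  have huu : u * u = 1 := by
    rw [hu]; simp only [mul_assoc, hdd', hf1sq', hdd]
  rw [← hu] at hr1
  have hur : u * r * u = r⁻¹ := by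
    rw [hr1, mul_inv_rev, inv_eq_of_mul_eq_one_left hf2sq, inv_eq_of_mul_eq_one_left huu]
    calc u * (u * f2) * u = (u * u) * f2 * u := by simp only [mul_assoc]
      _ = f2 * u := by rw [huu, one_mul]
  have h1 : d * (u * r * u) * d = r := by
    rw [hur]
    have h := congrArg Inv.inv hdr
    simp only [mul_inv_rev, inv_inv, hdinv] at h
    rw [mul_assoc]; exact h
  have h2 : (f1 * d) * r * (d * f1) = r := by
    conv_rhs => rw [← h1, hu]
    simp only [mul_assoc, hdd', hdd, mul_one]
  have hwr : (d * f1) * r = r * (d * f1) := by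
    calc (d * f1) * r = (d * f1) * ((f1 * d) * r * (d * f1)) := by rw [h2]
      _ = r * (d * f1) := by simp only [mul_assoc, hf1sq', hdd']
  have hk1r : Commute k1 r := by
    rw [hk1]; exact (show Commute (d * f1) r from hwr).pow_left 2
  have hk1da : Commute k1 (d * a) := commute_of_commute_sq hodd (by rw [← hr]; exact hk1r)
  have hk1a : k1 * a = a * k1 := by
    have h : Commute k1 (d * (d * a)) := (show Commute k1 d from kc1).mul_right hk1da
    rw [hdd'] at h
    exact h
  exact star hD hk1D hd ha kc1 km1 hk1a hodd hdane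

theorem conj_of_oddAdj (hD : IsRootInvolutionSet D) {x y : G} (h : OddAdj D x y) :
    ∃ g, y = g * x * g⁻¹ := by
  obtain ⟨hx, hy, -, hodd⟩ := h
  obtain ⟨m, hm⟩ := hodd
  have hxx := mul_self_of_mem hD hx
  have hyy := mul_self_of_mem hD hy
  have hxinv := inv_eq_of_mem hD hx
  have hyinv := inv_eq_of_mem hD hy
  obtain ⟨t, ht⟩ : ∃ t, t = x * y := ⟨_, rfl⟩
  rw [← ht] at hm
  have hxt : x * t * x⁻¹ = t⁻¹ := by
    rw [ht, mul_inv_rev, hxinv, hyinv]; simp only [mul_assoc]
    rw [← mul_assoc x x, hxx, one_mul]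
  have hxtm : x * t ^ m * x⁻¹ = (t ^ m)⁻¹ := by rw [← conj_pow, hxt, inv_pow]
  have ht2m : t ^ m * t ^ m = t⁻¹ := by
    have h : t ^ m * t ^ m * t = 1 := by
      rw [← pow_add, ← pow_succ, show m + m + 1 = orderOf t by omega, pow_orderOf_eq_one]
    exact eq_inv_of_mul_eq_one_left h
  refine ⟨t ^ m, ?_⟩
  rw [← hxtm, hxinv]
  calc y = t⁻¹ * x := by rw [ht, mul_inv_rev, hxinv, hyinv, mul_assoc, hxx, mul_one]
    _ = t ^ m * t ^ m * x := by rw [ht2m]
    _ = t ^ m * x * (x * t ^ m * x) := by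
      simp only [mul_assoc]; rw [← mul_assoc x x, hxx, one_mul]

theorem conj_of_reach (hD : IsRootInvolutionSet D) {x y : G}
    (h : Relation.ReflTransGen (OddAdj D) x y) : ∃ g, y = g * x * g⁻¹ := by
  induction h with
  | refl => exact ⟨1, by simp⟩
  | tail _ hbc ih =>
    obtain ⟨g, hg⟩ := ih
    obtain ⟨k, hk⟩ := conj_of_oddAdj hD hbc
    refine ⟨k * g, ?_⟩
    rw [hk, hg, mul_inv_rev]; simp only [mul_assoc]

end Cfsg.Agent.Lib.Helper8.RI
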