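import Mathlib
import Cfsg.Prelude.Def_RootSubgroups
import Cfsg.Prelude.Def_QuasithinSetup
import Cfsg.Agent.Lib.Helper8.RI1
import Cfsg.Agent.Lib.Helper8.RI2
import Cfsg.Agent.Lib.Helper8.RI3
import Cfsg.Agent.Lib.Helper1.PCore
import Cfsg.Agent.Lib.Helper1.SubnormalPCore
import Cfsg.Agent.S0199

set_option autoImplicit false

namespace Cfsg.Agent.Lib.Helper8.RI

open Cfsg

variable {G : Type*} [Group G] {D : Set G}

/-- relative Baer–Suzuki: if the involution `a` generates a 2-group with each of its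
`N`-conjugates (`N` normal), then `[N, a] ≤ O_2(G)`. -/
theorem rel_baer_suzuki [Finite G] {N : Subgroup G} [hN : N.Normal] {a : G} (haa : a * a = 1)
    (h4 : ∀ n ∈ N, (a * (n * a * n⁻¹)) ^ 4 = 1) :
    ∀ n ∈ N, n * a * n⁻¹ * a⁻¹ ∈ pCore 2 G := by
  have : Fact (Nat.Prime 2) := ⟨Nat.prime_two⟩
  obtain ⟨H, hH⟩ : ∃ H : Subgroup G, H = N ⊔ Subgroup.zpowers a := ⟨_, rfl⟩
  have hNH : N ≤ H := by rw [hH]; exact le_sup_left
  have haH : a ∈ H := by
    rw [hH]; exact (le_sup_right : Subgroup.zpowers a ≤ _) (Subgroup.mem_zpowers a)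
  obtain ⟨a', ha'⟩ : ∃ a' : ↥H, a' = ⟨a, haH⟩ := ⟨_, rfl⟩
  have ha'c : (a' : G) = a := by rw [ha']
  have ha'a' : a' * a' = 1 := by rw [ha']; exact Subtype.ext haa
  have hX : IsPGroup 2 (Subgroup.zpowers a') := by
    have h := isPGroup_two_closure_pair ha'a' ha'a' (by rw [ha'a', one_pow])
    exact h.to_le le_sup_left
  have hconj : ∀ h : ↥H, ∃ n ∈ N, ((h * a' * h⁻¹ : ↥H) : G) = n * a * n⁻¹ := by
    intro h
    have hh : (h : G) ∈ ((N ⊔ Subgroup.zpowers a : Subgroup G) : Set G) := by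
      rw [← hH]; exact h.2
    rw [Subgroup.normal_mul] at hh
    obtain ⟨n, hn, z, hz, hnz⟩ := Set.mem_mul.mp hh
    refine ⟨n, hn, ?_⟩
    obtain ⟨k, rfl⟩ := Subgroup.mem_zpowers_iff.mp hz
    rw [Subgroup.coe_mul, Subgroup.coe_mul, Subgroup.coe_inv, ha'c, ← hnz, mul_inv_rev]
    have hc : a ^ k * a * (a ^ k)⁻¹ = a := by
      rw [← zpow_neg, ← zpow_add_one, ← zpow_add]; simp
    calc n * a ^ k * a * ((a ^ k)⁻¹ * n⁻¹) = n * (a ^ k * a * (a ^ k)⁻¹) * n⁻¹ := by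
          simp only [mul_assoc]
      _ = n * a * n⁻¹ := by rw [hc]
  have hpair : ∀ h : ↥H, IsPGroup 2 ↥(Subgroup.zpowers a' ⊔
      (Subgroup.zpowers a').map (MulAut.conj h).toMonoidHom) := by
    intro h
    rw [MonoidHom.map_zpowers]
    have h1 : (MulAut.conj h).toMonoidHom a' = h * a' * h⁻¹ := rfl
    rw [h1]
    obtain ⟨n, hn, hnc⟩ := hconj h
    apply isPGroup_two_closure_pair ha'a'
    · calc h * a' * h⁻¹ * (h * a' * h⁻¹) = h * (a' * a') * h⁻¹ := by group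
        _ = 1 := by rw [ha'a', mul_one, mul_inv_cancel]
    · apply Subtype.ext
      rw [Subgroup.coe_pow, Subgroup.coe_mul, hnc, ha'c, Subgroup.coe_one]
      exact h4 n hn
  obtain ⟨M, hMn, hMp, hXM⟩ := Cfsg.Agent.S0199.result (Subgroup.zpowers a') hX hpair
  have haM : a' ∈ M := hXM (Subgroup.mem_zpowers a')
  obtain ⟨K, hK⟩ : ∃ K : Subgroup G, K = (M ⊓ N.subgroupOf H).map H.subtype := ⟨_, rfl⟩
  have hKN : K ≤ N := by
    intro x hx
    rw [hK] at hx
    obtain ⟨y, hy, rfl⟩ := Subgroup.mem_map.mp hx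
    exact Subgroup.mem_subgroupOf.mp hy.2
  have hKp : IsPGroup 2 K := by
    rw [hK]; exact (hMp.to_le inf_le_left).map _
  have hMNn : (M ⊓ N.subgroupOf H).Normal := Subgroup.normal_inf_normal _ _
  have hKnorm : (K.subgroupOf N).Normal := by
    constructor
    intro x hx g
    rw [Subgroup.mem_subgroupOf] at hx ⊢
    rw [hK] at hx ⊢
    obtain ⟨y, hy, hyx⟩ := Subgroup.mem_map.mp hx
    refine Subgroup.mem_map.mpr ⟨⟨g, hNH g.2⟩ * y * ⟨g, hNH g.2⟩⁻¹, hMNn.conj_mem y hy _, ?_⟩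
    have hyx' : (y : G) = x := hyx
    show ((⟨g, hNH g.2⟩ * y * ⟨g, hNH g.2⟩⁻¹ : ↥H) : G) = ((g * x * g⁻¹ : ↥N) : G)
    simp only [Subgroup.coe_mul, Subgroup.coe_inv]
    rw [hyx']
  have hKsub : K.IsSubnormal := Subgroup.IsSubnormal.step K N hKN hN.isSubnormal hKnorm
  have hKle : K ≤ pCore 2 G :=
    Cfsg.Agent.Lib.Helper1.le_pCore_of_isSubnormal_of_isPGroup hKsub hKp
  intro n hn
  apply hKle
  rw [hK]
  refine Subgroup.mem_map.mpr ⟨⟨n, hNH hn⟩ * a' * ⟨n, hNH hn⟩⁻¹ * a'⁻¹,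
    Subgroup.mem_inf.mpr ⟨?_, ?_⟩, ?_⟩
  · exact M.mul_mem (hMn.conj_mem a' haM _) (M.inv_mem haM)
  · rw [Subgroup.mem_subgroupOf]
    simp only [Subgroup.coe_mul, Subgroup.coe_inv, ha'c]
    have : n * a * n⁻¹ * a⁻¹ = n * (a * n⁻¹ * a⁻¹) := by simp only [mul_assoc]
    rw [this]; exact N.mul_mem hn (hN.conj_mem _ (N.inv_mem hn) a)
  · simp only [Subgroup.coe_subtype, Subgroup.coe_mul, Subgroup.coe_inv, ha'c]

theorem odd_coset_mem {N : Subgroup G} [hN : N.Normal] {m w : G} (hm : m ∈ N) (hw : w * w = 1)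
    (ho : Odd (orderOf (m * w))) : w ∈ N := by
  have hwinv : w⁻¹ = w := inv_eq_of_mul_eq_one_left hw
  have h2 : (m * w) ^ 2 ∈ N := by
    have : (m * w) ^ 2 = m * (w * m * w⁻¹) := by rw [hwinv, pow_two]; simp only [mul_assoc]
    rw [this]; exact N.mul_mem hm (hN.conj_mem m hm w)
  obtain ⟨k, hk⟩ := ho
  have h3 : m * w = ((m * w) ^ 2) ^ (k + 1) := by
    rw [← pow_mul, show 2 * (k + 1) = orderOf (m * w) + 1 by omega, pow_succ,
      pow_orderOf_eq_one, one_mul]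
  have h4 : m * w ∈ N := by rw [h3]; exact N.pow_mem h2 _
  have : w = m⁻¹ * (m * w) := by group
  rw [this]; exact N.mul_mem (N.inv_mem hm) h4

theorem not_adj_conj_of_disjoint (hD : IsRootInvolutionSet D) {N : Subgroup G} [hN : N.Normal]
    (hDN : ∀ d ∈ D, d ∉ N) {a b : G} (ha : a ∈ D) (hb : b ∈ D) (hab : a * b = b * a)
    (habD : a * b ∈ D) {n : G} (hn : n ∈ N) : ¬ OddAdj D a (n * a * n⁻¹) := by
  intro hadj
  have haa := mul_self_of_mem hD ha
  have hbb := mul_self_of_mem hD hb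
  have hcomm : n * a * n⁻¹ * a⁻¹ ∈ N := by
    have : n * a * n⁻¹ * a⁻¹ = n * (a * n⁻¹ * a⁻¹) := by simp only [mul_assoc]
    rw [this]; exact N.mul_mem hn (hN.conj_mem _ (N.inv_mem hn) a)
  rcases L1' hD ha hb hab habD hadj with h | h
  · obtain ⟨-, -, -, ho⟩ := h
    have e : b * (n * a * n⁻¹) = (b * (n * a * n⁻¹ * a⁻¹) * b⁻¹) * (b * a) := by group
    rw [e] at ho
    have hw : (b * a) * (b * a) = 1 := by rw [← hab]; exact mul_self_of_mem hD habD
    have h1 := odd_coset_mem (hN.conj_mem _ hcomm b) hw ho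
    rw [← hab] at h1
    exact hDN _ habD h1
  · obtain ⟨-, -, -, ho⟩ := h
    have e : (a * b) * (n * a * n⁻¹) =
        ((a * b) * (n * a * n⁻¹ * a⁻¹) * (a * b)⁻¹) * (a * b * a) := by group
    have e2 : a * b * a = b := by rw [hab, mul_assoc, haa, mul_one]
    rw [e, e2] at ho
    have h1 := odd_coset_mem (hN.conj_mem _ hcomm (a * b)) hbb ho
    exact hDN _ hb h1

theorem eq_top_of_mem (hD : IsRootInvolutionSet D) (hc : IsConnectedSet (OddAdj D) D)
    {N : Subgroup G} [hN : N.Normal] {d : G} (hd : d ∈ D) (hdN : d ∈ N) : N = ⊤ := by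
  rw [eq_top_iff, ← hD.generates, Subgroup.closure_le]
  intro e he
  obtain ⟨g, hg⟩ := conj_of_reach hD (hc d hd e he)
  rw [hg]; exact hN.conj_mem d hdN g

/-- a normal subgroup missing `D` lies in `O_{2,Z}(G)` -/
theorem le_twoZCore [Finite G] (hD : IsRootInvolutionSet D)
    (hc : IsConnectedSet (OddAdj D) D) {a b : G} (ha : a ∈ D) (hb : b ∈ D)
    (hab : a * b = b * a) (habD : a * b ∈ D) (N : Subgroup G) [hN : N.Normal]
    (hDN : ∀ d ∈ D, d ∉ N) : N ≤ twoZCore G := by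
  have haa := mul_self_of_mem hD ha
  have h4 : ∀ n ∈ N, (a * (n * a * n⁻¹)) ^ 4 = 1 := fun n hn =>
    pow_four_of_not_adj hD ha (hD.conj_mem a ha n)
      (not_adj_conj_of_disjoint hD hDN ha hb hab habD hn)
  have h5 := rel_baer_suzuki haa h4
  have hP : (pCore 2 G).Normal := Cfsg.Agent.Lib.Helper1.pCore_normal 2
  have h6 : ∀ d ∈ D, ∀ n ∈ N, n * d * n⁻¹ * d⁻¹ ∈ pCore 2 G := by
    intro d hd n hn
    obtain ⟨g, hg⟩ := conj_of_reach hD (hc a ha d hd)
    have h := h5 (g⁻¹ * n * g) (by have := hN.conj_mem n hn g⁻¹; simpa using this)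
    have h' := hP.conj_mem _ h g
    have e : g * ((g⁻¹ * n * g) * a * (g⁻¹ * n * g)⁻¹ * a⁻¹) * g⁻¹ = n * d * n⁻¹ * d⁻¹ := by
      rw [hg]; group
    rwa [e] at h'
  intro n hn
  obtain ⟨φ, hφ⟩ : ∃ φ : G →* G ⧸ pCore 2 G, φ = QuotientGroup.mk' (pCore 2 G) := ⟨_, rfl⟩
  have hφ1 : ∀ x, φ x = 1 ↔ x ∈ pCore 2 G := by
    intro x; rw [hφ]; exact QuotientGroup.eq_one_iff x
  have hcl : Subgroup.closure D ≤
      (Subgroup.centralizer ({φ n} : Set (G ⧸ pCore 2 G))).comap φ := by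
    rw [Subgroup.closure_le]
    intro d hd
    rw [SetLike.mem_coe, Subgroup.mem_comap, Subgroup.mem_centralizer_iff]
    intro h hh
    rw [Set.mem_singleton_iff] at hh
    rw [hh]
    have h7 := (hφ1 _).mpr (h6 d hd n hn)
    rw [map_mul, map_mul, map_mul, map_inv, map_inv, mul_inv_eq_one, mul_inv_eq_iff_eq_mul] at h7
    exact h7
  rw [hD.generates] at hcl
  unfold twoZCore
  rw [Subgroup.mem_comap, Subgroup.mem_center_iff, ← hφ]
  intro q
  obtain ⟨g, rfl⟩ : ∃ g, φ g = q := by rw [hφ]; exact QuotientGroup.mk'_surjective _ q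
  have h8 := hcl (Subgroup.mem_top g)
  rw [Subgroup.mem_comap, Subgroup.mem_centralizer_iff] at h8
  exact (h8 _ rfl).symm

theorem not_mem_twoZCore [Finite G] (hD : IsRootInvolutionSet D)
    (hc : IsConnectedSet (OddAdj D) D) {a b : G} (ha : a ∈ D) (hb : b ∈ D) (hne : a ≠ b) :
    ∀ d ∈ D, d ∉ twoZCore G := by
  intro d hd hdZ
  have : Fact (Nat.Prime 2) := ⟨Nat.prime_two⟩
  have hP := Cfsg.Agent.Lib.Helper1.pCore_isPGroup (G := G) 2
  obtain ⟨φ, hφ⟩ : ∃ φ : G →* G ⧸ pCore 2 G, φ = QuotientGroup.mk' (pCore 2 G) := ⟨_, rfl⟩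
  have hφ1 : ∀ x, φ x = 1 ↔ x ∈ pCore 2 G := by
    intro x; rw [hφ]; exact QuotientGroup.eq_one_iff x
  unfold twoZCore at hdZ
  rw [Subgroup.mem_comap, Subgroup.mem_center_iff, ← hφ] at hdZ
  have hdd := mul_self_of_mem hD hd
  have noadj : ∀ y, ¬ OddAdj D d y := by
    intro y hbc
    obtain ⟨g, hg⟩ := conj_of_oddAdj hD hbc
    obtain ⟨-, hy', hne', hodd⟩ := hbc
    have h1 : d * y ∈ pCore 2 G := by
      rw [← hφ1, hg, map_mul, map_mul, map_mul, map_inv, hdZ (φ g), mul_inv_cancel_right,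
        ← map_mul, hdd, map_one]
    obtain ⟨k, hk⟩ := hP ⟨_, h1⟩
    have hk' := congrArg Subtype.val hk
    rw [Subgroup.coe_pow, Subgroup.coe_one] at hk'
    have hdvd := orderOf_dvd_of_pow_eq_one hk'
    have h2 : orderOf (d * y) = 1 :=
      Nat.Coprime.eq_one_of_dvd (Nat.Coprime.pow_right k (Odd.coprime_two_right hodd)) hdvd
    rw [orderOf_eq_one_iff] at h2
    apply hne'
    calc d = y⁻¹ := eq_inv_of_mul_eq_one_left h2
      _ = y := inv_eq_of_mem hD hy'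
  have key : ∀ y, Relation.ReflTransGen (OddAdj D) d y → y = d := by
    intro y hy
    induction hy with
    | refl => rfl
    | tail _ hbc ih =>
      rw [ih] at hbc
      exact absurd hbc (noadj _)
  exact hne ((key a (hc d hd a ha)).trans (key b (hc d hd b hb)).symm)

theorem isSolvable_twoZCore [Finite G] : Group.IsSolvable ↥(twoZCore G) := by
  have : Fact (Nat.Prime 2) := ⟨Nat.prime_two⟩
  have hP := Cfsg.Agent.Lib.Helper1.pCore_isPGroup (G := G) 2
  have hPn : (pCore 2 G).Normal := Cfsg.Agent.Lib.Helper1.pCore_normal 2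
  have hPZ : pCore 2 G ≤ twoZCore G := by
    intro x hx
    unfold twoZCore
    rw [Subgroup.mem_comap, QuotientGroup.mk'_apply, (QuotientGroup.eq_one_iff x).mpr hx]
    exact Subgroup.one_mem _
  haveI : Group.IsNilpotent ↥(pCore 2 G) := hP.isNilpotent
  haveI : Group.IsSolvable ↥(pCore 2 G) := IsNilpotent.to_isSolvable
  obtain ⟨g, hg⟩ : ∃ g : ↥(twoZCore G) →* ↥(Subgroup.center (G ⧸ pCore 2 G)),
      ∀ x, ((g x : G ⧸ pCore 2 G)) = QuotientGroup.mk' (pCore 2 G) (x : G) :=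
    ⟨((QuotientGroup.mk' (pCore 2 G)).comp (twoZCore G).subtype).codRestrict _
      (fun x => x.2), fun x => rfl⟩
  haveI : Group.IsSolvable ↥(Subgroup.center (G ⧸ pCore 2 G)) :=
    Group.isSolvable_of_comm (fun x y => Subtype.ext (Subgroup.mem_center_iff.mp y.2 x))
  apply Group.isSolvable_of_ker_le_range (Subgroup.inclusion hPZ) g
  intro x hx
  rw [MonoidHom.mem_ker] at hx
  have h1 : (x : G) ∈ pCore 2 G := by
    rw [← QuotientGroup.eq_one_iff]
    have := congrArg Subtype.val hx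
    rw [hg] at this
    exact this
  exact ⟨⟨x, h1⟩, Subtype.ext rfl⟩

open scoped commutatorElement in
theorem conj_mul_inv_mem_commutator (g a : G) : g * a * g⁻¹ * a⁻¹ ∈ commutator G := by
  have h1 : g * a * g⁻¹ * a⁻¹ = ⁅g, a⁆ := by rw [commutatorElement_def]
  rw [h1, commutator_def]
  exact Subgroup.commutator_mem_commutator (Subgroup.mem_top g) (Subgroup.mem_top a)

end Cfsg.Agent.Lib.Helper8.RI
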