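import Mathlib
import Cfsg.Agent.Lib.Helper9.RK3HDefs
import Cfsg.Agent.Lib.Helper1.MaschkeSubgroup
import Cfsg.Agent.Lib.Helper1.GX1
import Cfsg.Agent.Lib.Helper1.PL1
import Cfsg.Agent.Lib.Helper1.GlaubermanRepl3

/-!
# Farm RK3 (S4404), LEMMA HHc, unit U1

A minimal counterexample `M` to `coreX` is `⟨R, x⟩`-irreducible.
`U1_of` takes `card_comm_ne_two` (unit B, helper9) as an explicit hypothesis.
-/

set_option autoImplicit false
set_option maxHeartbeats 1000000
open scoped commutatorElement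

namespace Cfsg.Agent.Lib.Helper8.RK3

open Cfsg.Agent.Lib.Helper9.RK3 Cfsg.Agent.Lib.Helper1

universe u

variable {G : Type u} [Group G]

theorem comm_of_elemAb {M : Subgroup G} (hM : Cfsg.IsElementaryAbelian 2 M) {a b : G}
    (ha : a ∈ M) (hb : b ∈ M) : a * b = b * a := by
  have h := hM.1.is_comm.comm ⟨a, ha⟩ ⟨b, hb⟩
  exact congrArg Subtype.val h

theorem elemAb_of_le {M N : Subgroup G} (hM : Cfsg.IsElementaryAbelian 2 M) (h : N ≤ M) :
    Cfsg.IsElementaryAbelian 2 N :=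
  ⟨PL.isMulCommutative_of_comm (fun _ hu _ hv => comm_of_elemAb hM (h hu) (h hv)),
    fun a ha => hM.2 a (h ha)⟩

/-- TS: three subgroups remark (local copy). -/
theorem ts' {M2 R : Subgroup G} {x : G} (hRM2 : R ≤ Subgroup.normalizer (M2 : Set G))
    (hx : ∀ m ∈ M2, x * m = m * x) (hRx : ⁅R, Subgroup.zpowers x⁆ = R) :
    R ≤ Subgroup.centralizer (M2 : Set G) := by
  have hxC : x ∈ Subgroup.centralizer (M2 : Set G) :=
    Subgroup.mem_centralizer_iff.2 (fun m hm => (hx m hm).symm)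
  have hZC : Subgroup.zpowers x ≤ Subgroup.centralizer (M2 : Set G) :=
    (Subgroup.zpowers_le).2 hxC
  rw [← hRx, Subgroup.commutator_le]
  intro g hg y hy
  have hyC := hZC hy
  have hgN : g ∈ Subgroup.normalizer ((Subgroup.centralizer (M2 : Set G) : Subgroup G) : Set G) :=
    PL.mem_normalizer_centralizer (hRM2 hg)
  have h1 : g * y * g⁻¹ ∈ Subgroup.centralizer (M2 : Set G) :=
    (Subgroup.mem_normalizer_iff.mp hgN y).mp hyC
  rw [commutatorElement_def]
  exact (Subgroup.centralizer (M2 : Set G)).mul_mem h1 ((Subgroup.centralizer (M2 : Set G)).inv_mem hyC)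

/-- sub-configuration (local copy) -/
theorem Cfg.sub' [Finite G] {M R : Subgroup G} {x : G} {r : ℕ} (c : Cfg M R x r) {M' : Subgroup G}
    (hM' : M' ≤ M) (hRM' : R ≤ Subgroup.normalizer (M' : Set G))
    (hxM' : x ∈ Subgroup.normalizer (M' : Set G))
    (hfaith : R ⊓ Subgroup.centralizer (M' : Set G) = ⊥) : Cfg M' R x r where
  hr := c.hr
  hr5 := c.hr5
  hM := elemAb_of_le c.hM hM'
  hR := c.hR
  hRM := hRM'
  hxM := hxM'
  hxR := c.hxR
  hx3 := c.hx3
  hV := (Subgroup.card_le_of_le (Subgroup.commutator_mono hM' le_rfl)).trans c.hV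
  faith := hfaith

theorem card_mul_card_le_of_inf_eq_bot [Finite G] (A C : Subgroup G)
    (h : A ⊓ C = ⊥) : Nat.card A * Nat.card C ≤ Nat.card ↥(A ⊔ C) := by
  rw [← Nat.card_prod]
  apply Nat.card_le_card_of_injective (fun p : ↥A × ↥C =>
    (⟨(p.1 : G) * (p.2 : G),
      mul_mem (Subgroup.mem_sup_left p.1.2) (Subgroup.mem_sup_right p.2.2)⟩ : ↥(A ⊔ C)))
  rintro ⟨a, c⟩ ⟨a', c'⟩ hh
  have h' : (a : G) * c = a' * c' := congrArg Subtype.val hh
  have e : (a' : G)⁻¹ * a = c' * (c : G)⁻¹ := by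
    have : (a' : G)⁻¹ * ((a : G) * c) * (c : G)⁻¹ = (a' : G)⁻¹ * (a' * c') * (c : G)⁻¹ := by rw [h']
    simpa [mul_assoc] using this
  have hm : (a' : G)⁻¹ * a ∈ A ⊓ C :=
    ⟨A.mul_mem (A.inv_mem a'.2) a.2, by rw [e]; exact C.mul_mem c'.2 (C.inv_mem c.2)⟩
  rw [h, Subgroup.mem_bot] at hm
  have ha : (a : G) = a' := by
    have : (a' : G) * ((a' : G)⁻¹ * a) = a := by group
    rw [hm, mul_one] at this
    exact this.symm
  have hc : (c : G) = c' := by
    rw [ha] at h'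
    exact mul_left_cancel h'
  exact Prod.ext (Subtype.ext ha) (Subtype.ext hc)

open scoped IsMulCommutative in
/-- complements exist in elementary abelian 2-subgroups -/
theorem exists_compl_of_elemAb [Finite G] {M U : Subgroup G} (hM : Cfsg.IsElementaryAbelian 2 M)
    (hU : U ≤ M) : ∃ W : Subgroup G, W ≤ M ∧ U ⊓ W = ⊥ ∧ U ⊔ W = M := by
  have hp2 : Fact (Nat.Prime 2) := ⟨Nat.prime_two⟩
  have hMc : IsMulCommutative ↥M := hM.1
  have hexp : ∀ v : ↥M, v ^ 2 = 1 := fun v => Subtype.ext (by simpa using hM.2 v v.2)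
  obtain ⟨A, hA1, hA2⟩ := GX.exists_compl_comm (V := ↥M) (p := 2) hexp (U.subgroupOf M)
  refine ⟨A.map M.subtype, Subgroup.map_subtype_le _, ?_, ?_⟩
  · rw [eq_bot_iff]
    rintro y ⟨hyU, ⟨a, ha, rfl⟩⟩
    have haU : a ∈ U.subgroupOf M := Subgroup.mem_subgroupOf.mpr hyU
    rw [hA1 a ha haU]
    exact Subgroup.one_mem _
  · apply le_antisymm (sup_le hU (Subgroup.map_subtype_le _))
    intro m hm
    obtain ⟨z, hz, a, ha, hza⟩ := hA2 ⟨m, hm⟩
    have h1 : m = (z : G) * (a : G) := by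
      have := congrArg Subtype.val hza
      simpa using this
    rw [h1]
    exact Subgroup.mul_mem_sup (Subgroup.mem_subgroupOf.mp hz) ⟨a, ha, rfl⟩

/-- the coprimality needed for Maschke -/
theorem coprime_card_sup_zpowers [Finite G] {M R : Subgroup G} {x : G} {r : ℕ} (c : Cfg M R x r) :
    (Nat.card ↥(R ⊔ Subgroup.zpowers x)).Coprime (Nat.card M) := by
  have hp2 : Fact (Nat.Prime 2) := ⟨Nat.prime_two⟩
  have hr : Fact r.Prime := ⟨c.hr⟩
  have hMp : IsPGroup 2 ↥M := by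
    intro g
    refine ⟨1, Subtype.ext ?_⟩
    rw [pow_one]
    simpa using c.hM.2 g g.2
  obtain ⟨j, hj⟩ := (IsPGroup.iff_card).mp hMp
  obtain ⟨k, hk⟩ := (IsPGroup.iff_card).mp c.hR
  have hZR : Subgroup.zpowers x ≤ Subgroup.normalizer (R : Set G) :=
    (Subgroup.zpowers_le).2 c.hxR
  have hdvd : Nat.card ↥(R ⊔ Subgroup.zpowers x) ∣ Nat.card (Subgroup.zpowers x) * Nat.card R := by
    rw [sup_comm]
    exact Dvd.intro _ (GlaubermanRepl.card_sup_mul_card_inf_of_le_normalizer _ _ hZR)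
  have hZ3 : Nat.card (Subgroup.zpowers x) ∣ 3 := by
    rw [Nat.card_zpowers]
    exact orderOf_dvd_of_pow_eq_one c.hx3
  have hr2 : Nat.Coprime r 2 := by
    rw [Nat.coprime_primes c.hr Nat.prime_two]
    have := c.hr5
    omega
  have h2 : Nat.Coprime (Nat.card ↥(R ⊔ Subgroup.zpowers x)) 2 := by
    apply Nat.Coprime.coprime_dvd_left hdvd
    apply Nat.Coprime.mul_left
    · exact Nat.Coprime.coprime_dvd_left hZ3 (by norm_num)
    · rw [hk]
      exact Nat.Coprime.pow_left k hr2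
  rw [hj]
  exact Nat.Coprime.pow_right j h2

/-- the inductive step: `M = M₁ ⊔ M₂`, `x` centralizes `M₂`, `M₁ ≠ M` is impossible -/
theorem U1_step [Finite G] {M R : Subgroup G} {x : G} {r : ℕ} (c : Cfg M R x r)
    (hRx : ⁅R, Subgroup.zpowers x⁆ = R) (hlt : r < Nat.card R)
    (IH : ∀ M' : Subgroup G, Nat.card M' < Nat.card M → Cfg M' R x r → Nat.card R ≤ r)
    {M₁ M₂ : Subgroup G} (h₁M : M₁ ≤ M) (hsup : M₁ ⊔ M₂ = M)
    (hR1 : R ≤ Subgroup.normalizer (M₁ : Set G)) (hx1 : x ∈ Subgroup.normalizer (M₁ : Set G))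
    (hR2 : R ≤ Subgroup.normalizer (M₂ : Set G)) (hne : M₁ ≠ M)
    (hcomm : ⁅M₂, Subgroup.zpowers x⁆ = ⊥) : False := by
  have hx2 : ∀ m ∈ M₂, x * m = m * x := by
    intro m hm
    have h1 := (Subgroup.commutator_eq_bot_iff_le_centralizer.mp hcomm) hm
    exact Subgroup.mem_centralizer_iff.mp h1 x (Subgroup.mem_zpowers x)
  have hRC2 : R ≤ Subgroup.centralizer (M₂ : Set G) := ts' hR2 hx2 hRx
  have hfaith : R ⊓ Subgroup.centralizer (M₁ : Set G) = ⊥ := by
    rw [eq_bot_iff, ← c.faith]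
    intro g hg
    have hg1 : g ∈ Subgroup.centralizer (M₁ : Set G) := hg.2
    have hg2 : g ∈ Subgroup.centralizer (M₂ : Set G) := hRC2 hg.1
    have hle : M₁ ⊔ M₂ ≤ Subgroup.centralizer ({g} : Set G) := by
      apply sup_le
      · intro d hd
        rw [Subgroup.mem_centralizer_singleton_iff]
        exact Subgroup.mem_centralizer_iff.mp hg1 d hd
      · intro d hd
        rw [Subgroup.mem_centralizer_singleton_iff]
        exact Subgroup.mem_centralizer_iff.mp hg2 d hd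
    rw [hsup] at hle
    have hgM : g ∈ Subgroup.centralizer (M : Set G) := by
      rw [Subgroup.mem_centralizer_iff]
      intro m hm
      have := hle hm
      rw [Subgroup.mem_centralizer_singleton_iff] at this
      exact this
    exact ⟨hg.1, hgM⟩
  have c1 : Cfg M₁ R x r := Cfg.sub' c h₁M hR1 hx1 hfaith
  have hcard : Nat.card M₁ < Nat.card M := by
    by_contra h
    push Not at h
    exact hne (Subgroup.eq_of_le_of_card_ge h₁M h)
  have := IH M₁ hcard c1
  omega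

/-- U1 with `card_comm_ne_two` as an explicit hypothesis. -/
theorem U1_of [Finite G] {M R : Subgroup G} {x : G} {r : ℕ} (c : Cfg M R x r)
    (hne2 : ∀ N : Subgroup G, Cfsg.IsElementaryAbelian 2 N →
      x ∈ Subgroup.normalizer (N : Set G) →
      Nat.card (⁅N, Subgroup.zpowers x⁆ : Subgroup G) ≠ 2)
    (hRx : ⁅R, Subgroup.zpowers x⁆ = R) (hlt : r < Nat.card R)
    (IH : ∀ M' : Subgroup G, Nat.card M' < Nat.card M → Cfg M' R x r → Nat.card R ≤ r) :
    ∀ M' : Subgroup G, M' ≤ M → R ≤ Subgroup.normalizer (M' : Set G) →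
      x ∈ Subgroup.normalizer (M' : Set G) → M' = ⊥ ∨ M' = M := by
  intro M' hM'M hRM' hxM'
  by_contra hcon
  push Not at hcon
  obtain ⟨hM'1, hM'2⟩ := hcon
  have hp2 : Fact (Nat.Prime 2) := ⟨Nat.prime_two⟩
  obtain ⟨A, hA⟩ : ∃ A : Subgroup G, A = R ⊔ Subgroup.zpowers x := ⟨_, rfl⟩
  have hAM : A ≤ Subgroup.normalizer (M : Set G) := by
    rw [hA]; exact sup_le c.hRM ((Subgroup.zpowers_le).2 c.hxM)
  have hAM' : A ≤ Subgroup.normalizer (M' : Set G) := by
    rw [hA]; exact sup_le hRM' ((Subgroup.zpowers_le).2 hxM')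
  have hcop : (Nat.card A).Coprime (Nat.card M) := by
    rw [hA]; exact coprime_card_sup_zpowers c
  obtain ⟨W, hWM, hUW, hUWM⟩ := exists_compl_of_elemAb c.hM hM'M
  obtain ⟨M'', hM''M, hAM'', hinf, hsup⟩ :=
    coprime_invariant_complement M A M' c.hM.1 hAM hcop hM'M hAM' W hWM hUW hUWM
  have hRM'' : R ≤ Subgroup.normalizer (M'' : Set G) := by
    refine le_trans ?_ hAM''
    rw [hA]; exact le_sup_left
  have hxM'' : x ∈ Subgroup.normalizer (M'' : Set G) := by
    apply hAM''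
    rw [hA]; exact Subgroup.mem_sup_right (Subgroup.mem_zpowers x)
  have hM''ne : M'' ≠ M := by
    intro h
    apply hM'1
    have : M' ⊓ M = M' := inf_eq_left.mpr hM'M
    rw [← this, ← h, hinf]
  -- the two commutators
  obtain ⟨C', hC'⟩ : ∃ C' : Subgroup G, C' = ⁅M', Subgroup.zpowers x⁆ := ⟨_, rfl⟩
  obtain ⟨C'', hC''⟩ : ∃ C'' : Subgroup G, C'' = ⁅M'', Subgroup.zpowers x⁆ := ⟨_, rfl⟩
  have hC'M' : C' ≤ M' := by
    rw [hC']
    exact Subgroup.le_normalizer_iff_commutator_le_left.mp ((Subgroup.zpowers_le).2 hxM')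
  have hC''M'' : C'' ≤ M'' := by
    rw [hC'']
    exact Subgroup.le_normalizer_iff_commutator_le_left.mp ((Subgroup.zpowers_le).2 hxM'')
  have hCC : C' ⊓ C'' = ⊥ := by
    rw [eq_bot_iff, ← hinf]
    exact inf_le_inf hC'M' hC''M''
  have hCsup : C' ⊔ C'' ≤ ⁅M, Subgroup.zpowers x⁆ := by
    apply sup_le
    · rw [hC']; exact Subgroup.commutator_mono hM'M le_rfl
    · rw [hC'']; exact Subgroup.commutator_mono hM''M le_rfl
  have hprod : Nat.card C' * Nat.card C'' ≤ 4 :=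
    (card_mul_card_le_of_inf_eq_bot C' C'' hCC).trans ((Subgroup.card_le_of_le hCsup).trans c.hV)
  have hC'ne : Nat.card C' ≠ 2 := by
    rw [hC']; exact hne2 M' (elemAb_of_le c.hM hM'M) hxM'
  have hC''ne : Nat.card C'' ≠ 2 := by
    rw [hC'']; exact hne2 M'' (elemAb_of_le c.hM hM''M) hxM''
  have hpow : ∀ C : Subgroup G, C ≤ M → ∃ n : ℕ, Nat.card C = 2 ^ n := by
    intro C hCM
    have hCp : IsPGroup 2 ↥C := by
      intro g
      refine ⟨1, Subtype.ext ?_⟩
      rw [pow_one]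
      simpa using c.hM.2 g (hCM g.2)
    exact (IsPGroup.iff_card).mp hCp
  obtain ⟨n', hn'⟩ := hpow C' (hC'M'.trans hM'M)
  obtain ⟨n'', hn''⟩ := hpow C'' (hC''M''.trans hM''M)
  have hcases : Nat.card C' = 1 ∨ Nat.card C'' = 1 := by
    by_contra hboth
    push Not at hboth
    have h1 : 2 ≤ n' := by
      rcases n' with _ | _ | n
      · exact absurd (by simpa using hn') hboth.1
      · exact absurd (by simpa using hn') hC'ne
      · omega
    have h2 : 2 ≤ n'' := by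
      rcases n'' with _ | _ | n
      · exact absurd (by simpa using hn'') hboth.2
      · exact absurd (by simpa using hn'') hC''ne
      · omega
    have h3 : 2 ^ 2 ≤ 2 ^ n' := Nat.pow_le_pow_right (by norm_num) h1
    have h4 : 2 ^ 2 ≤ 2 ^ n'' := Nat.pow_le_pow_right (by norm_num) h2
    rw [hn', hn''] at hprod
    have h5 : 2 ^ 2 * 2 ^ 2 ≤ 2 ^ n' * 2 ^ n'' := Nat.mul_le_mul h3 h4
    omega
  rcases hcases with h1 | h1
  · -- x centralizes M'
    have hbot : ⁅M', Subgroup.zpowers x⁆ = ⊥ := by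
      rw [← hC']; exact Subgroup.eq_bot_of_card_eq C' h1
    exact U1_step c hRx hlt IH hM''M (by rw [sup_comm]; exact hsup) hRM'' hxM'' hRM' hM''ne hbot
  · have hbot : ⁅M'', Subgroup.zpowers x⁆ = ⊥ := by
      rw [← hC'']; exact Subgroup.eq_bot_of_card_eq C'' h1
    exact U1_step c hRx hlt IH hM'M hsup hRM' hxM' hRM'' hM'2 hbot

end Cfsg.Agent.Lib.Helper8.RK3
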