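import Mathlib
import Cfsg.Agent.Lib.Helper8.RK3HU1
import Cfsg.Agent.Lib.Helper9.RK3HBasic

/-!
# Farm RK3 (S4404), LEMMA HHc, unit U1 (final, verbatim stub shape)
-/

set_option autoImplicit false
open scoped commutatorElement

namespace Cfsg.Agent.Lib.Helper8.RK3

open Cfsg.Agent.Lib.Helper9.RK3

universe u

variable {G : Type u} [Group G]

/-- U1: a minimal counterexample `M` is `⟨R, x⟩`-irreducible. -/
theorem U1 [Finite G] {M R : Subgroup G} {x : G} {r : ℕ} (c : Cfg M R x r)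
    (hRx : ⁅R, Subgroup.zpowers x⁆ = R) (hlt : r < Nat.card R)
    (IH : ∀ M' : Subgroup G, Nat.card M' < Nat.card M → Cfg M' R x r → Nat.card R ≤ r) :
    ∀ M' : Subgroup G, M' ≤ M → R ≤ Subgroup.normalizer (M' : Set G) →
      x ∈ Subgroup.normalizer (M' : Set G) → M' = ⊥ ∨ M' = M :=
  U1_of c (fun _ hN hxN => card_comm_ne_two hN hxN c.hx3) hRx hlt IH

end Cfsg.Agent.Lib.Helper8.RK3
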