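/-
Farm RV (S3175), unit A9: if every odd-order automorphism of the Sylow 2-subgroup `T` is trivial then `N_G(T)` has a
normal 2-complement (Schur–Zassenhaus; the complement centralises `T`, hence is normal).
Statement verbatim from `Lib/Lead/RVStubs.lean`.
-/
import Mathlib
import Cfsg.Prelude.Def_Transfer

set_option autoImplicit false

namespace Cfsg.Agent.Lib.Helper8.RVA9

/-- a finite group with a normal Sylow 2-subgroup all of whose odd-order automorphisms are trivial has a normal
2-complement -/
theorem npc_of_normal_sylow {H : Type*} [Group H] [Finite H] (P : Sylow 2 H)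
    [hPn : (P : Subgroup H).Normal]
    (hP : ∀ φ : MulAut ↥(P : Subgroup H), Odd (orderOf φ) → φ = 1) :
    Cfsg.HasNormalPComplement 2 H := by
  obtain ⟨K, hK⟩ := Subgroup.exists_left_complement'_of_coprime (N := (P : Subgroup H))
    P.card_coprime_index
  have hKodd : Odd (Nat.card K) := by
    rw [← hK.index_eq_card]
    exact Nat.odd_iff.mpr (Nat.two_dvd_ne_zero.mp P.not_dvd_index)
  have hcent : ∀ k ∈ K, ∀ x ∈ (P : Subgroup H), k * x * k⁻¹ = x := by
    intro k hk x hx
    have hodd : Odd (orderOf (MulAut.conjNormal (H := (P : Subgroup H)) k)) := by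
      apply Odd.of_dvd_nat hKodd
      have h1 : orderOf (MulAut.conjNormal (H := (P : Subgroup H)) k) ∣ orderOf k :=
        orderOf_map_dvd _ k
      have h2 : orderOf k ∣ Nat.card K := by
        have h3 := orderOf_dvd_natCard (⟨k, hk⟩ : K)
        rwa [← Subgroup.orderOf_coe] at h3
      exact h1.trans h2
    have h1 := hP _ hodd
    have h2 := congrArg
      (fun ψ : MulAut (P : Subgroup H) => ((ψ ⟨x, hx⟩ : (P : Subgroup H)) : H)) h1
    simpa [MulAut.conjNormal_apply] using h2
  refine ⟨P, K, ?_, hK⟩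
  constructor
  intro k hk n
  obtain ⟨⟨⟨k', hk'⟩, ⟨p, hp⟩⟩, hkp, -⟩ := (Subgroup.isComplement'_def.mp hK).existsUnique n
  simp only at hkp
  subst hkp
  have hpk : p * k * p⁻¹ = k := by
    have h3 := hcent k hk p hp
    rw [mul_inv_eq_iff_eq_mul] at h3 ⊢
    exact h3.symm
  have e : k' * p * k * (k' * p)⁻¹ = k' * (p * k * p⁻¹) * k'⁻¹ := by group
  rw [e, hpk]
  exact K.mul_mem (K.mul_mem hk' hk) (K.inv_mem hk')

/-- UNIT A9 (Schur–Zassenhaus + centralising complement is normal). -/
theorem npc_of_aut_trivial {G : Type*} [Group G] [Finite G] (T : Sylow 2 G)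
    (h : ∀ φ : MulAut ↥(T : Subgroup G), Odd (orderOf φ) → φ = 1) :
    Cfsg.HasNormalPComplement 2 ↥(Subgroup.normalizer ((T : Subgroup G) : Set G)) := by
  have hle : (T : Subgroup G) ≤ Subgroup.normalizer ((T : Subgroup G) : Set G) :=
    Subgroup.le_normalizer
  have hcoe : ((T.subtype hle : Sylow 2 ↥(Subgroup.normalizer ((T : Subgroup G) : Set G))) :
      Subgroup ↥(Subgroup.normalizer ((T : Subgroup G) : Set G))) =
      (T : Subgroup G).subgroupOf (Subgroup.normalizer ((T : Subgroup G) : Set G)) :=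
    Sylow.coe_subtype T hle
  have hn : ((T.subtype hle : Sylow 2 ↥(Subgroup.normalizer ((T : Subgroup G) : Set G))) :
      Subgroup ↥(Subgroup.normalizer ((T : Subgroup G) : Set G))).Normal := by
    rw [hcoe]; exact Subgroup.normal_in_normalizer
  apply npc_of_normal_sylow (T.subtype hle)
  intro φ hφ
  let e : ↥((T.subtype hle : Sylow 2 ↥(Subgroup.normalizer ((T : Subgroup G) : Set G))) :
      Subgroup ↥(Subgroup.normalizer ((T : Subgroup G) : Set G))) ≃* ↥(T : Subgroup G) :=
    (MulEquiv.subgroupCongr hcoe).trans (Subgroup.subgroupOfEquivOfLe hle)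
  have h1 : MulAut.congr e φ = 1 := by
    apply h
    rw [MulEquiv.orderOf_eq]
    exact hφ
  exact (MulEquiv.map_eq_one_iff (MulAut.congr e)).mp h1

end Cfsg.Agent.Lib.Helper8.RVA9
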