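import Mathlib
import Cfsg.Prelude.Def_PLocal
import Cfsg.Agent.Lib.Helper1.GlaubermanRepl7
import Cfsg.Agent.Lib.Helper1.OmegaCenter
import Cfsg.Agent.Lib.Helper8.Gillam

/-! The replacement theorem with `A` normalizing `B`, and the rank inequality. -/
set_option autoImplicit false
open scoped commutatorElement Pointwise
open Cfsg.Agent.Lib.Helper1.GlaubermanRepl Cfsg.Agent.Lib.Helper1

namespace Helper8.Repl

universe u
variable {G : Type u} [Group G]

theorem mem_omegaOne_iff {p : ℕ} {A : Subgroup G} (hA : ∀ x ∈ A, ∀ y ∈ A, x * y = y * x) {x : G} :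
    x ∈ Cfsg.omegaOne p A ↔ x ∈ A ∧ x ^ p = 1 := by
  constructor
  · intro hx
    unfold Cfsg.omegaOne at hx
    induction hx using Subgroup.closure_induction with
    | mem x hx => exact hx
    | one => exact ⟨A.one_mem, one_pow p⟩
    | mul x y _ _ ihx ihy =>
      exact ⟨A.mul_mem ihx.1 ihy.1, by
        rw [(show Commute x y from hA x ihx.1 y ihy.1).mul_pow, ihx.2, ihy.2, one_mul]⟩
    | inv x _ ih => exact ⟨A.inv_mem ih.1, by rw [inv_pow, ih.2, inv_one]⟩
  · intro hx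
    exact Subgroup.subset_closure hx

theorem exists_setup [Finite G] {p : ℕ} [hp : Fact p.Prime] (hG : IsPGroup p G) (A B : Subgroup G)
    (hA : ∀ x ∈ A, ∀ y ∈ A, x * y = y * x) (hBA : ⁅B, B⁆ ≤ A)
    (hAB : A ≤ Subgroup.normalizer (B : Set G))
    (hBnA : ¬ B ≤ Subgroup.normalizer (A : Set G)) :
    ∃ b : G, Setup A B b ∧ b ∉ Subgroup.normalizer (A : Set G) := by
  obtain ⟨H, hH⟩ : ∃ H : Subgroup G, H = A ⊔ B := ⟨_, rfl⟩
  have hAH : A ≤ H := hH ▸ le_sup_left
  have hBH : B ≤ H := hH ▸ le_sup_right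
  have hHN : H ≤ Subgroup.normalizer (B : Set G) := hH ▸ sup_le hAB Subgroup.le_normalizer
  haveI hBn : (B.subgroupOf H).Normal := Subgroup.normal_subgroupOf_of_le_normalizer hHN
  obtain ⟨N, hN⟩ : ∃ N, N = Subgroup.normalizer (A : Set G) := ⟨_, rfl⟩
  have hnot' : ¬ B.subgroupOf H ≤ N.subgroupOf H := by
    intro h
    apply hBnA
    intro x hx
    have : (⟨x, hBH hx⟩ : H) ∈ B.subgroupOf H := by rw [Subgroup.mem_subgroupOf]; exact hx
    have := h this
    rw [Subgroup.mem_subgroupOf] at this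
    rw [← hN]; exact this
  obtain ⟨b', hb'B, hb'N, hb'not⟩ := exists_mem_normal_normalizer_not_mem (hG.to_subgroup H)
    (B.subgroupOf H) (N.subgroupOf H) hnot'
  rw [Subgroup.mem_subgroupOf] at hb'B hb'not
  obtain ⟨b, hbdef⟩ : ∃ b : G, b = (b' : G) := ⟨_, rfl⟩
  have hbB : b ∈ B := hbdef ▸ hb'B
  have hbA : b ∉ Subgroup.normalizer (A : Set G) := by rw [hbdef, ← hN]; exact hb'not
  have key : ∀ c : H, c ∈ Subgroup.normalizer ((N.subgroupOf H : Subgroup H) : Set H) → ∀ a ∈ A,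
      (c : G) * a * (c : G)⁻¹ ∈ N := by
    intro c hc a ha
    have h1 : (⟨a, hAH ha⟩ : H) ∈ N.subgroupOf H := by
      rw [Subgroup.mem_subgroupOf, hN]; exact Subgroup.le_normalizer ha
    have h2 := (Subgroup.mem_normalizer_iff.mp hc _).mp h1
    rw [Subgroup.mem_subgroupOf] at h2
    exact h2
  refine ⟨b, ?_, hbA⟩
  exact
    { hA := hA
      hBA := hBA
      hAB := hAB
      hb := hbB
      h1 := by
        intro a ha
        have := key b'⁻¹ (Subgroup.inv_mem _ hb'N) a ha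
        rw [hN] at this
        rw [hbdef]
        simpa using this
      h2 := by
        intro a ha
        have := key b' hb'N a ha
        rw [hN] at this
        rw [hbdef]
        exact this }

namespace Setup'

variable {A B : Subgroup G} {b : G} (s : Setup A B b)
include s

/-- `tau b a` has `p`-th power one when `a` does (`p` odd) -/
theorem tau_pow_eq_one {p : ℕ} (hp : Odd p) {a : G} (ha : a ∈ A) (hap : a ^ p = 1) :
    (tau b a) ^ p = 1 := by
  have hcc := s.commCentral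
  have haH : a ∈ A ⊔ conjA A b := Subgroup.mem_sup_left ha
  have hbar : (b⁻¹ * a * b)⁻¹ ∈ A ⊔ conjA A b :=
    Subgroup.inv_mem _ (Subgroup.mem_sup_right (conj_mem_conjA ha))
  have e1 : tau b a = a * (b⁻¹ * a * b)⁻¹ := by unfold tau; group
  have h1 := hcc.mul_pow_eq ⟨a, haH⟩ ⟨(b⁻¹ * a * b)⁻¹, hbar⟩ p
  have h2 := congrArg Subtype.val h1
  simp only [Subgroup.coe_mul, Subgroup.coe_pow] at h2
  rw [e1, h2, hap, one_mul]
  have h3 : ((b⁻¹ * a * b)⁻¹) ^ p = 1 := by
    rw [inv_pow, inv_eq_one]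
    have : (b⁻¹ * a * b) ^ p = b⁻¹ * a ^ p * b := by
      have := conj_pow (a := b⁻¹) (b := a) (i := p)
      rwa [inv_inv] at this
    rw [this, hap]; group
  rw [h3, one_mul]
  obtain ⟨k, hk⟩ : p ∣ p.choose 2 := by
    obtain ⟨j, rfl⟩ := hp
    rw [Nat.choose_two_right]
    have : (2 * j + 1) * (2 * j + 1 - 1) / 2 = (2 * j + 1) * j := by
      have : 2 * j + 1 - 1 = 2 * j := by omega
      rw [this, ← mul_assoc, mul_comm (2 * j + 1) 2, mul_assoc,
        Nat.mul_div_cancel_left _ (by norm_num)]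
    rw [this]
    exact dvd_mul_right _ _
  rw [hk, pow_mul]
  have h5 : ∀ u v : ↥(A ⊔ conjA A b), v ^ p = 1 → (⁅u, v⁆ : ↥(A ⊔ conjA A b)) ^ p = 1 := by
    intro u v hv
    rw [← hcc.comm_pow_right, hv]
    exact commutatorElement_one_right _
  have h5 := h5 ⟨(b⁻¹ * a * b)⁻¹, hbar⟩ ⟨a, haH⟩ (Subtype.ext (by simpa using hap))
  have h6 := congrArg Subtype.val h5
  simp only [Subgroup.coe_pow, Subgroup.coe_one] at h6
  rw [h6, one_pow]

theorem card_omegaOne_le [Finite G] {p : ℕ} (hp : Odd p)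
    (hodd : (∀ x ∈ B, ∀ y ∈ B, x * y = y * x) ∨ ∃ m : ℕ, Odd m ∧ b ^ m = 1) :
    Nat.card (Cfsg.omegaOne p A) ≤ Nat.card (Cfsg.omegaOne p (Astar A b)) := by
  have hAc := s.hA
  have hSc := s.Astar_comm hodd
  obtain ⟨A₁, hA₁⟩ : ∃ A₁, A₁ = Cfsg.omegaOne p A := ⟨_, rfl⟩
  rw [← hA₁]
  have hA₁mem : ∀ x, x ∈ A₁ ↔ x ∈ A ∧ x ^ p = 1 := fun x => by
    rw [hA₁]; exact mem_omegaOne_iff hAc
  have hA₁A : A₁ ≤ A := fun x hx => ((hA₁mem x).1 hx).1
  have hB₁mem : ∀ y, y ∈ conjA A₁ b ↔ y ∈ conjA A b ∧ y ^ p = 1 := by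
    intro y
    rw [mem_conjA, mem_conjA, hA₁mem]
    have : (b * y * b⁻¹) ^ p = b * y ^ p * b⁻¹ := conj_pow
    rw [this]
    constructor
    · rintro ⟨h1, h2⟩
      refine ⟨h1, ?_⟩
      have : y ^ p = b⁻¹ * (b * y ^ p * b⁻¹) * b := by group
      rw [this, h2]; group
    · rintro ⟨h1, h2⟩
      refine ⟨h1, ?_⟩
      rw [h2]; group
  -- E ≤ Ω*
  have hE : Astar A₁ b ≤ Cfsg.omegaOne p (Astar A b) := by
    unfold Astar
    apply sup_le
    · intro x hx
      obtain ⟨hx1, hx2⟩ := Subgroup.mem_inf.1 hx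
      have h1 := (hA₁mem x).1 hx1
      have h2 := (hB₁mem x).1 hx2
      apply Subgroup.subset_closure
      exact ⟨Subgroup.mem_sup_left (Subgroup.mem_inf.2 ⟨h1.1, h2.1⟩), h1.2⟩
    · unfold commAb
      rw [Subgroup.closure_le]
      rintro _ ⟨a, ha, rfl⟩
      have h1 := (hA₁mem a).1 ha
      apply Subgroup.subset_closure
      refine ⟨Subgroup.mem_sup_right (Subgroup.subset_closure ⟨a, h1.1, rfl⟩), ?_⟩
      exact tau_pow_eq_one s hp h1.1 h1.2
  -- normalizer conditions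
  have hAN : A ≤ Subgroup.normalizer (conjA A₁ b : Set G) := by
    intro a ha
    apply mem_normalizer_of_conj_mem_of_finite
    intro y hy
    rw [hB₁mem] at hy ⊢
    refine ⟨(Subgroup.mem_normalizer_iff.1 (s.le_normalizer_conjA ha) y).1 hy.1, ?_⟩
    have : (a * y * a⁻¹) ^ p = a * y ^ p * a⁻¹ := conj_pow
    rw [this, hy.2]; group
  have hBN : conjA A b ≤ Subgroup.normalizer (conjA A₁ b : Set G) := by
    intro c hc
    apply mem_normalizer_of_conj_mem_of_finite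
    intro y hy
    have hyc := ((hB₁mem y).1 hy).1
    have := s.conjA_comm c hc y hyc
    have e : c * y * c⁻¹ = y := by rw [this]; group
    rw [e]; exact hy
  have hHN : A ⊔ conjA A b ≤ Subgroup.normalizer (conjA A₁ b : Set G) := sup_le hAN hBN
  have hEH : Astar A₁ b ≤ A ⊔ conjA A b := by
    unfold Astar
    apply sup_le (inf_le_left.trans (hA₁A.trans le_sup_left))
    refine (Helper8.Gillam.commAb_le_sup A₁ b).trans (sup_le_sup hA₁A ?_)
    intro y hy
    exact ((hB₁mem y).1 hy).1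
  have h1 := card_sup_mul_card_inf_of_le_normalizer A₁ (conjA A₁ b) (hA₁A.trans hAN)
  have h2 := card_sup_mul_card_inf_of_le_normalizer (Astar A₁ b) (conjA A₁ b) (hEH.trans hHN)
  have h3 : A₁ ⊔ conjA A₁ b ≤ Astar A₁ b ⊔ conjA A₁ b := by
    apply sup_le _ le_sup_right
    refine (Helper8.Gillam.le_commAb_sup_conjA A₁ b).trans (sup_le_sup_right ?_ _)
    unfold Astar; exact le_sup_right
  have h4 : A₁ ⊓ conjA A₁ b ≤ Astar A₁ b ⊓ conjA A₁ b :=
    le_inf (by unfold Astar; exact le_sup_left) inf_le_right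
  have h5 := Subgroup.card_le_of_le h3
  have h6 := Subgroup.card_le_of_le h4
  have hBpos : 0 < Nat.card (conjA A₁ b) := Nat.card_pos
  have h7 : Nat.card A₁ * Nat.card (conjA A₁ b) ≤
      Nat.card (Astar A₁ b) * Nat.card (conjA A₁ b) := by
    rw [← h1, ← h2]
    exact Nat.mul_le_mul h5 h6
  exact (Nat.le_of_mul_le_mul_right h7 hBpos).trans (Subgroup.card_le_of_le hE)

end Setup'

theorem main [Finite G] {p : ℕ} [hp : Fact p.Prime] (hp2 : p ≠ 2) (hG : IsPGroup p G)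
    (A B : Subgroup G) (hA : IsMulCommutative A) (hBA : ⁅B, B⁆ ≤ A)
    (hAB : A ≤ Subgroup.normalizer (B : Set G))
    (hBnA : ¬ B ≤ Subgroup.normalizer (A : Set G)) :
    ∃ Astar : Subgroup G, IsMulCommutative Astar ∧ Nat.card Astar = Nat.card A ∧
      A ⊓ B < Astar ⊓ B ∧ Astar ≤ Subgroup.normalizer (A : Set G) ∧
      Astar ≤ Subgroup.normalClosure (A : Set G) ∧
      Monoid.exponent Astar ∣ Monoid.exponent A ∧
      Nat.card (Cfsg.omegaOne p A) ≤ Nat.card (Cfsg.omegaOne p Astar) := by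
  have hAc : ∀ x ∈ A, ∀ y ∈ A, x * y = y * x := fun x hx y hy =>
    congrArg Subtype.val (mul_comm' (⟨x, hx⟩ : A) ⟨y, hy⟩)
  obtain ⟨b, s, hbA⟩ := exists_setup hG A B hAc hBA hAB hBnA
  have hpodd : Odd p := hp.out.odd_of_ne_two hp2
  have hodd : (∀ x ∈ B, ∀ y ∈ B, x * y = y * x) ∨ ∃ m : ℕ, Odd m ∧ b ^ m = 1 :=
    Or.inr (odd_pow_eq_one_of_isPGroup hG hp2 b)
  have hcomm := s.Astar_comm hodd
  haveI : (Subgroup.normalClosure (A : Set G)).Normal := Subgroup.normalClosure_normal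
  refine ⟨Astar A b, ⟨⟨fun x y => Subtype.ext (hcomm x x.2 y y.2)⟩⟩, s.card_Astar,
    s.inf_B_lt hbA, s.Astar_le_normalizer, Astar_le_of_normal Subgroup.le_normalClosure b, ?_,
    Setup'.card_omegaOne_le s hpodd hodd⟩
  have hdvd : Monoid.exponent A ∣ Nat.card A := Group.exponent_dvd_nat_card
  obtain ⟨k, hk⟩ := IsPGroup.iff_card.mp (hG.to_subgroup A)
  rw [hk] at hdvd
  obtain ⟨j, -, hj⟩ := (Nat.dvd_prime_pow hp.out).mp hdvd
  have hoddE : Odd (Monoid.exponent A) := by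
    rw [hj]; exact hpodd.pow
  have hAe : ∀ a ∈ A, a ^ Monoid.exponent A = 1 := by
    intro a ha
    have := Monoid.pow_exponent_eq_one (⟨a, ha⟩ : A)
    exact congrArg Subtype.val this
  have h := s.pow_eq_one_of_mem_Astar hodd hoddE hAe
  apply Monoid.exponent_dvd_of_forall_pow_eq_one
  intro x
  exact Subtype.ext (h x x.2)

end Helper8.Repl
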