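import Mathlib
import Cfsg.Prelude.Def_RootSubgroups
import Cfsg.Agent.S5016
import Cfsg.Agent.Lib.Helper4.RootSub3

set_option autoImplicit false
set_option linter.unusedSimpArgs false

namespace Cfsg.Agent.Lib.Helper8.Rs

open Matrix Cfsg

section ring
variable {R : Type*} [Ring R]

/-- commutator of `1 + X` and `1 + Y` when `X² = Y² = YX = 0` -/
theorem comm_of_YX_zero (X Y : R) (hX : X * X = 0) (hY : Y * Y = 0) (hYX : Y * X = 0) :
    (1 + X) * (1 + Y) * (1 - X) * (1 - Y) = 1 + X * Y := by
  have hYX' : ∀ x, Y * (X * x) = 0 := fun x => by rw [← mul_assoc, hYX, zero_mul]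
  have hXX' : ∀ x, X * (X * x) = 0 := fun x => by rw [← mul_assoc, hX, zero_mul]
  have hYY' : ∀ x, Y * (Y * x) = 0 := fun x => by rw [← mul_assoc, hY, zero_mul]
  simp only [mul_add, add_mul, mul_sub, sub_mul, mul_one, one_mul, mul_assoc, hX, hY, hYX, hXX',
    hYY', hYX', mul_zero, add_zero, zero_add, sub_zero]
  abel

/-- commutator of `1 + X` and `1 + Y` when `X² = Y² = XY = 0` -/
theorem comm_of_XY_zero (X Y : R) (hX : X * X = 0) (hY : Y * Y = 0) (hXY : X * Y = 0) :
    (1 + X) * (1 + Y) * (1 - X) * (1 - Y) = 1 - Y * X := by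
  have hXY' : ∀ x, X * (Y * x) = 0 := fun x => by rw [← mul_assoc, hXY, zero_mul]
  have hXX' : ∀ x, X * (X * x) = 0 := fun x => by rw [← mul_assoc, hX, zero_mul]
  have hYY' : ∀ x, Y * (Y * x) = 0 := fun x => by rw [← mul_assoc, hY, zero_mul]
  simp only [mul_add, add_mul, mul_sub, sub_mul, mul_one, one_mul, mul_assoc, hX, hY, hXY, hXX',
    hYY', hXY', mul_zero, add_zero, zero_add, sub_zero]
  abel

end ring

section emb
variable {k : Type*} [Field k] {ι : Type*} [Fintype ι] [DecidableEq ι]

/-- the `m × 2` matrix with columns `u`, `w` -/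
def colMat (u w : ι → k) : Matrix ι (Fin 2) k := Matrix.of fun i j => ![u i, w i] j

/-- the `2 × m` matrix with rows `u'`, `w'` -/
def rowMat (u' w' : ι → k) : Matrix (Fin 2) ι k := Matrix.of ![u', w']

theorem rowMat_mul_colMat (u w u' w' : ι → k) (h1 : u' ⬝ᵥ u = 1) (h2 : u' ⬝ᵥ w = 0)
    (h3 : w' ⬝ᵥ u = 0) (h4 : w' ⬝ᵥ w = 1) : rowMat u' w' * colMat u w = 1 := by
  ext a b
  rw [Matrix.mul_apply]
  fin_cases a <;> fin_cases b
  · simpa [rowMat, colMat, dotProduct] using h1
  · simpa [rowMat, colMat, dotProduct] using h2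
  · simpa [rowMat, colMat, dotProduct] using h3
  · simpa [rowMat, colMat, dotProduct] using h4

/-- the matrix of the embedded `SL₂` element -/
def embMat (u w u' w' : ι → k) (M : Matrix (Fin 2) (Fin 2) k) : Matrix ι ι k :=
  1 + colMat u w * (M - 1) * rowMat u' w'

theorem embMat_one (u w u' w' : ι → k) : embMat u w u' w' 1 = 1 := by
  unfold embMat
  rw [sub_self, Matrix.mul_zero, Matrix.zero_mul, add_zero]

theorem embMat_mul (u w u' w' : ι → k) (h : rowMat u' w' * colMat u w = 1)
    (M N : Matrix (Fin 2) (Fin 2) k) :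
    embMat u w u' w' (M * N) = embMat u w u' w' M * embMat u w u' w' N := by
  unfold embMat
  obtain ⟨U, hU⟩ : ∃ U, U = colMat u w := ⟨_, rfl⟩
  obtain ⟨V, hV⟩ : ∃ V, V = rowMat u' w' := ⟨_, rfl⟩
  rw [← hU, ← hV] at h ⊢
  have e : U * (M - 1) * V * (U * (N - 1) * V) = U * ((M - 1) * (N - 1)) * V := by
    calc U * (M - 1) * V * (U * (N - 1) * V) = U * (M - 1) * (V * U) * (N - 1) * V := by
          simp only [Matrix.mul_assoc]
      _ = U * ((M - 1) * (N - 1)) * V := by rw [h, Matrix.mul_one]; simp only [Matrix.mul_assoc]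
  rw [mul_add, add_mul, add_mul, one_mul, mul_one, one_mul, e]
  have e2 : M * N - 1 = (M - 1) + (N - 1) + (M - 1) * (N - 1) := by noncomm_ring
  rw [e2, Matrix.mul_add, Matrix.mul_add, Matrix.add_mul, Matrix.add_mul]
  abel

theorem embMat_det (u w u' w' : ι → k) (h : rowMat u' w' * colMat u w = 1)
    (M : Matrix (Fin 2) (Fin 2) k) : (embMat u w u' w' M).det = M.det := by
  unfold embMat
  rw [Matrix.mul_assoc, Matrix.det_one_add_mul_comm, Matrix.mul_assoc, h, Matrix.mul_one,
    add_sub_cancel]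

theorem embMat_injective (u w u' w' : ι → k) (h : rowMat u' w' * colMat u w = 1) :
    Function.Injective (embMat u w u' w') := by
  intro M N hMN
  unfold embMat at hMN
  have h1 := add_left_cancel hMN
  have h2 : rowMat u' w' * (colMat u w * (M - 1) * rowMat u' w') * colMat u w =
      rowMat u' w' * (colMat u w * (N - 1) * rowMat u' w') * colMat u w := by rw [h1]
  have e : ∀ X : Matrix (Fin 2) (Fin 2) k,
      rowMat u' w' * (colMat u w * X * rowMat u' w') * colMat u w = X := by
    intro X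
    calc rowMat u' w' * (colMat u w * X * rowMat u' w') * colMat u w
        = (rowMat u' w' * colMat u w) * X * (rowMat u' w' * colMat u w) := by
          simp only [Matrix.mul_assoc]
      _ = X := by rw [h, Matrix.one_mul, Matrix.mul_one]
  rw [e, e] at h2
  exact sub_left_injective h2

theorem embMat_upper (u w u' w' : ι → k) (t : k) :
    embMat u w u' w' !![1, t; 0, 1] = 1 + t • vecMulVec u w' := by
  unfold embMat
  congr 1
  ext i j
  simp [Matrix.mul_apply, Fin.sum_univ_two, colMat, rowMat, vecMulVec_apply]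
  ring

theorem embMat_lower (u w u' w' : ι → k) (t : k) :
    embMat u w u' w' !![1, 0; t, 1] = 1 + t • vecMulVec w u' := by
  unfold embMat
  congr 1
  ext i j
  simp [Matrix.mul_apply, Fin.sum_univ_two, colMat, rowMat, vecMulVec_apply]
  ring

/-- the embedding `SL₂(k) → SL_m(k)` attached to a hyperbolic pair -/
def emb (u w u' w' : ι → k) (h : rowMat u' w' * colMat u w = 1) :
    Matrix.SpecialLinearGroup (Fin 2) k →* Matrix.SpecialLinearGroup ι k where
  toFun M := ⟨embMat u w u' w' M.1, by rw [embMat_det u w u' w' h, M.2]⟩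
  map_one' := Subtype.ext (embMat_one u w u' w')
  map_mul' M N := Subtype.ext (embMat_mul u w u' w' h M.1 N.1)

theorem emb_coe (u w u' w' : ι → k) (h : rowMat u' w' * colMat u w = 1)
    (M : Matrix.SpecialLinearGroup (Fin 2) k) :
    ((emb u w u' w' h M : Matrix.SpecialLinearGroup ι k) : Matrix ι ι k) =
      embMat u w u' w' M.1 := rfl

theorem emb_injective (u w u' w' : ι → k) (h : rowMat u' w' * colMat u w = 1) :
    Function.Injective (emb u w u' w' h) := by
  intro M N hMN
  apply Subtype.ext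
  apply embMat_injective u w u' w' h
  exact congrArg Subtype.val hMN

end emb

section transport
variable {G H : Type*} [Group G] [Group H]

theorem map_conjBy (f : G →* H) (A : Subgroup G) (g : G) :
    (conjBy A g).map f = conjBy (A.map f) (f g) := by
  unfold conjBy
  rw [Subgroup.map_map, Subgroup.map_map]
  congr 1
  ext x
  simp [MulAut.conj_apply]

theorem rankOneCondition_map (f : G →* H) (hf : Function.Injective f) {A B : Subgroup G}
    (h : RankOneCondition A B) : RankOneCondition (A.map f) (B.map f) := by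
  rintro _ ⟨a, ha, rfl⟩ ha1
  have ha1' : a ≠ 1 := fun h0 => ha1 (by rw [h0, map_one])
  obtain ⟨b, hb, hb1, hconj⟩ := h a ha ha1'
  refine ⟨f b, ⟨b, hb, rfl⟩, fun h0 => hb1 (hf (by rw [h0, map_one])), ?_⟩
  rw [← map_inv, ← map_inv, ← map_conjBy, ← map_conjBy, hconj]

theorem rankOnePair_map (f : G →* H) (hf : Function.Injective f) {A B : Subgroup G}
    (h : IsRankOnePair A B) (hA : ∀ x ∈ A, ∀ y ∈ A, x * y = y * x)
    (hB : ∀ x ∈ B, ∀ y ∈ B, x * y = y * x) : IsRankOnePair (A.map f) (B.map f) where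
  ne := fun h0 => h.ne (Subgroup.map_injective hf h0)
  nilpotent_left := by
    apply Cfsg.Agent.S5016.nilpotent_of
    rintro _ ⟨x, hx, rfl⟩ _ ⟨y, hy, rfl⟩
    rw [← map_mul, ← map_mul, hA x hx y hy]
  nilpotent_right := by
    apply Cfsg.Agent.S5016.nilpotent_of
    rintro _ ⟨x, hx, rfl⟩ _ ⟨y, hy, rfl⟩
    rw [← map_mul, ← map_mul, hB x hx y hy]
  cond_left := rankOneCondition_map f hf h.cond_left
  cond_right := rankOneCondition_map f hf h.cond_right

end transport

end Cfsg.Agent.Lib.Helper8.Rs
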