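import Mathlib

set_option autoImplicit false
set_option linter.unusedSimpArgs false

namespace Cfsg.Agent.Lib.Helper8.Tv

section ring
variable {R : Type*} [Ring R]

theorem eq_of_add_self (h2 : ∀ x : R, x + x = 0) {a b : R} (x : R) (h : a = b + (x + x)) :
    a = b := by
  rw [h, h2, add_zero]

theorem sq_of_BA_zero (h2 : ∀ x : R, x + x = 0) (A B : R) (hA : A * A = 0) (hB : B * B = 0)
    (hBA : B * A = 0) : ((1 + A) * (1 + B)) ^ 2 = 1 + A * B := by
  have hBA' : ∀ x, B * (A * x) = 0 := fun x => by rw [← mul_assoc, hBA, zero_mul]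
  have hAA' : ∀ x, A * (A * x) = 0 := fun x => by rw [← mul_assoc, hA, zero_mul]
  simp only [sq, mul_add, add_mul, mul_one, one_mul, mul_assoc, hA, hB, hBA, hAA', hBA',
    mul_zero, add_zero]
  exact eq_of_add_self h2 (A + B + A * B) (by abel)

theorem sq_of_AB_zero (h2 : ∀ x : R, x + x = 0) (A B : R) (hA : A * A = 0) (hB : B * B = 0)
    (hAB : A * B = 0) : ((1 + A) * (1 + B)) ^ 2 = 1 + B * A := by
  have hAB' : ∀ x, A * (B * x) = 0 := fun x => by rw [← mul_assoc, hAB, zero_mul]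
  have hAA' : ∀ x, A * (A * x) = 0 := fun x => by rw [← mul_assoc, hA, zero_mul]
  have hBB' : ∀ x, B * (B * x) = 0 := fun x => by rw [← mul_assoc, hB, zero_mul]
  simp only [sq, mul_add, add_mul, mul_one, one_mul, mul_assoc, hA, hB, hAB, hAA', hAB', hBB',
    mul_zero, add_zero, zero_add]
  exact eq_of_add_self h2 (A + B) (by abel)

theorem comm_of_zero (A B : R) (hAB : A * B = 0) (hBA : B * A = 0) :
    (1 + A) * (1 + B) = (1 + B) * (1 + A) := by
  simp only [mul_add, add_mul, mul_one, one_mul, hAB, hBA, add_zero]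
  abel

theorem cubic_identity {F : Type*} [CommRing F] [Algebra F R] (h2 : ∀ x : R, x + x = 0)
    (A B : R) (γ : F) (hA : A * A = 0) (hB : B * B = 0) (hABA : A * B * A = γ • A)
    (hBAB : B * A * B = γ • B) :
    ((1 + A) * (1 + B) + 1) * (((1 + A) * (1 + B)) ^ 2 + γ • ((1 + A) * (1 + B)) + 1) = 0 := by
  have hAA' : ∀ x, A * (A * x) = 0 := fun x => by rw [← mul_assoc, hA, zero_mul]
  have hBB' : ∀ x, B * (B * x) = 0 := fun x => by rw [← mul_assoc, hB, zero_mul]
  have hABA' : A * (B * A) = γ • A := by rw [← mul_assoc, hABA]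
  have hBAB' : B * (A * B) = γ • B := by rw [← mul_assoc, hBAB]
  have hABAx : ∀ x, A * (B * (A * x)) = γ • (A * x) := fun x => by
    rw [← mul_assoc, ← mul_assoc, hABA, smul_mul_assoc]
  have hBABx : ∀ x, B * (A * (B * x)) = γ • (B * x) := fun x => by
    rw [← mul_assoc, ← mul_assoc, hBAB, smul_mul_assoc]
  obtain ⟨N, hN⟩ : ∃ N, N = A + B + A * B := ⟨_, rfl⟩
  have e1 : (1 + A) * (1 + B) = 1 + N := by
    rw [hN]; simp only [mul_add, add_mul, mul_one, one_mul]; abel
  have e2 : (1 + N) + 1 = N := eq_of_add_self h2 1 (by abel)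
  have e3 : (1 + N) ^ 2 = 1 + N * N := by
    rw [sq, mul_add, add_mul, add_mul, one_mul, mul_one, one_mul]
    exact eq_of_add_self h2 N (by abel)
  have hN2 : N * N = γ • N + A * B + B * A := by
    rw [hN]
    simp only [mul_add, add_mul, mul_assoc, hA, hB, hAA', hBB', hABA', hBAB', hABAx, hBABx,
      mul_zero, add_zero, zero_add, mul_smul_comm, smul_add]
    abel
  have hNC : N * (A * B + B * A) = γ • N := by
    rw [hN]
    simp only [mul_add, add_mul, mul_assoc, hA, hB, hAA', hBB', hABA', hBAB', hABAx, hBABx,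
      mul_zero, add_zero, zero_add, mul_smul_comm, smul_add, smul_zero]
    abel
  rw [e1, e2, e3, hN2]
  have e4 : 1 + (γ • N + A * B + B * A) + γ • (1 + N) + 1 = (A * B + B * A) + γ • (1 : R) :=
    eq_of_add_self h2 (1 + γ • N) (by rw [smul_add]; abel)
  rw [e4, mul_add, hNC, mul_smul_comm, mul_one, h2]

end ring

section poly
open Polynomial

variable {F : Type*} [Field F] [CharP F 2]

theorem squarefree_cubic (γ : F) (hγ : γ ≠ 0) :
    Squarefree ((X + 1) * (X ^ 2 + C γ * X + 1) : F[X]) := by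
  apply Separable.squarefree
  have h2 : (2 : F[X]) = 0 := CharTwo.two_eq_zero
  have hc : (C γ⁻¹ * C γ : F[X]) = 1 := by rw [← C_mul, inv_mul_cancel₀ hγ, C_1]
  refine Separable.mul ?_ ?_ ?_
  · simpa using separable_X_add_C (1 : F)
  · rw [separable_def]
    have hd : derivative (X ^ 2 + C γ * X + 1 : F[X]) = C γ := by
      simp only [derivative_add, derivative_X_pow, derivative_mul, derivative_C, derivative_X,
        derivative_one, zero_mul, mul_one, zero_add, add_zero]
      have : (C ((2 : ℕ) : F) : F[X]) = 0 := by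
        have : ((2 : ℕ) : F) = 0 := by exact_mod_cast (CharTwo.two_eq_zero : (2 : F) = 0)
        rw [this, C_0]
      rw [this, zero_mul, zero_add]
    rw [hd]
    exact ⟨0, C γ⁻¹, by rw [zero_mul, zero_add, hc]⟩
  · refine ⟨C γ⁻¹ * (X + C γ + 1), C γ⁻¹, ?_⟩
    linear_combination hc + (C γ⁻¹ * (X ^ 2 + X + C γ * X + 1)) * h2

theorem pow_eq_one_of_cubic {R : Type*} [Ring R] [Algebra F R] (g : R) (γ : F) (hγ : γ ≠ 0)
    (hp : (g + 1) * (g ^ 2 + γ • g + 1) = 0) (k : ℕ) (hk : g ^ (2 * k) = 1) : g ^ k = 1 := by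
  have h2R : ∀ x : R, x + x = 0 := by
    intro x
    have h : (2 : R) = 0 := by
      have h1 : algebraMap F R 2 = 2 := map_ofNat _ 2
      rw [← h1, CharTwo.two_eq_zero, map_zero]
    rw [← two_mul, h, zero_mul]
  have hpg : aeval g ((X + 1) * (X ^ 2 + C γ * X + 1) : F[X]) = 0 := by
    simp only [map_mul, map_add, map_pow, aeval_X, map_one, aeval_C]
    rw [← Algebra.smul_def]
    exact hp
  have hmin : minpoly F g ∣ ((X + 1) * (X ^ 2 + C γ * X + 1) : F[X]) := minpoly.dvd F g hpg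
  have hsqm : Squarefree (minpoly F g) := (squarefree_cubic γ hγ).squarefree_of_dvd hmin
  have hh : aeval g ((X ^ k + 1) ^ 2 : F[X]) = 0 := by
    simp only [map_pow, map_add, aeval_X, map_one]
    rw [sq, mul_add, add_mul, add_mul, one_mul, mul_one, ← pow_add, ← two_mul, hk]
    rw [mul_one]
    calc 1 + g ^ k + (g ^ k + 1) = (1 + g ^ k) + (1 + g ^ k) := by abel
      _ = 0 := h2R _
  have hd : minpoly F g ∣ (X ^ k + 1 : F[X]) :=
    (hsqm.dvd_pow_iff_dvd two_ne_zero).1 (minpoly.dvd F g hh)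
  obtain ⟨q, hq⟩ := hd
  have h0 : aeval g (X ^ k + 1 : F[X]) = 0 := by
    rw [hq, map_mul, minpoly.aeval, zero_mul]
  simp only [map_pow, map_add, aeval_X, map_one] at h0
  have := h2R 1
  calc g ^ k = g ^ k + (1 + 1) := by rw [this, add_zero]
    _ = (g ^ k + 1) + 1 := by abel
    _ = 1 := by rw [h0, zero_add]

end poly
end Cfsg.Agent.Lib.Helper8.Tv
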