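import Mathlib
import Cfsg.Agent.Lib.Lead.SLPerm
import Cfsg.Agent.Lib.Helper8.Tv1

set_option autoImplicit false
set_option linter.unusedSimpArgs false

namespace Cfsg.Agent.Lib.Helper8.Tv

open Matrix
open Cfsg.Agent.Lib.Helper5.TvGL
open Cfsg.Agent.Lib.Lead.SLPerm

variable {F : Type*} [Field F] {m : ℕ}

theorem vv_mul (u φ w ψ : Fin m → F) :
    vecMulVec u φ * vecMulVec w ψ = (φ ⬝ᵥ w) • vecMulVec u ψ := by
  rw [vecMulVec_mul_vecMulVec, vecMulVec_smul]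

theorem tvMat_ne_one (u φ : Fin m → F) (hu : u ≠ 0) (hφ : φ ≠ 0) : tvMat φ u ≠ 1 := by
  intro h
  unfold tvMat at h
  have h0 : vecMulVec u φ = 0 := by
    have := congrArg (fun M => M - 1) h
    simpa using this
  rcases vecMulVec_eq_zero.1 h0 with h1 | h1
  · exact hu h1
  · exact hφ h1

theorem conj_tvMat (M M' : Matrix (Fin m) (Fin m) F) (h : M * M' = 1) (u φ : Fin m → F) :
    M * tvMat φ u * M' = tvMat (φ ᵥ* M') (M *ᵥ u) := by
  unfold tvMat
  rw [mul_add, add_mul, mul_one, h, mul_vecMulVec, vecMulVec_mul]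

theorem transvection_eq_tvMat (i j : Fin m) (c : F) :
    Matrix.transvection i j c = tvMat (Pi.single j 1) (Pi.single i c) := by
  unfold tvMat Matrix.transvection
  congr 1
  ext a b
  simp only [single_apply, vecMulVec_apply, Pi.single_apply]
  by_cases ha : i = a <;> by_cases hb : j = b <;> simp [ha, hb, eq_comm]

/-- an `SL` element fixing `e_{i0}` and mapping the coordinate hyperplane `x_{i1} = 0` into the
kernel of `φ`, when `φ i0 = 0`. -/
theorem exists_hyp (i0 i1 : Fin m) (h01 : i0 ≠ i1) (φ : Fin m → F) (hφ0 : φ i0 = 0) :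
    ∃ h : Matrix.SpecialLinearGroup (Fin m) F,
      (h : Matrix (Fin m) (Fin m) F) *ᵥ Pi.single i0 1 = Pi.single i0 1 ∧
      ∀ j, j ≠ i1 → φ ⬝ᵥ ((h : Matrix (Fin m) (Fin m) F) *ᵥ Pi.single j 1) = 0 := by
  by_cases hA : ∀ j, j ≠ i1 → φ j = 0
  · refine ⟨1, by rw [Matrix.SpecialLinearGroup.coe_one, one_mulVec], fun j hj => ?_⟩
    rw [Matrix.SpecialLinearGroup.coe_one, one_mulVec, dotProduct_single, mul_one]
    exact hA j hj
  · push Not at hA
    obtain ⟨j0, hj01, hj0⟩ := hA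
    have hj00 : j0 ≠ i0 := fun h => hj0 (h ▸ hφ0)
    let S : Submodule F (Fin m → F) :=
      { carrier := {v | v i1 = 0 ∧ φ ⬝ᵥ v = 0}
        add_mem' := by
          rintro a b ⟨ha1, ha2⟩ ⟨hb1, hb2⟩
          exact ⟨by simp [ha1, hb1], by rw [dotProduct_add, ha2, hb2, add_zero]⟩
        zero_mem' := ⟨rfl, dotProduct_zero _⟩
        smul_mem' := by
          rintro c a ⟨ha1, ha2⟩
          exact ⟨by simp [ha1], by rw [dotProduct_smul, ha2, smul_zero]⟩ }
    have hS : ∀ v, v ∈ S ↔ v i1 = 0 ∧ φ ⬝ᵥ v = 0 := fun v => Iff.rfl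
    obtain ⟨x, hx⟩ : ∃ x : Fin m → F, x = Pi.single j0 1 := ⟨_, rfl⟩
    obtain ⟨y, hy⟩ : ∃ y : Fin m → F, y = Pi.single i1 1 - (φ i1 / φ j0) • x := ⟨_, rfl⟩
    have hx1 : x i1 = 0 := by rw [hx]; simp [hj01.symm]
    have hφx : φ ⬝ᵥ x = φ j0 := by rw [hx, dotProduct_single, mul_one]
    have hy1 : y i1 = 1 := by rw [hy]; simp [hx1]
    have hφy : φ ⬝ᵥ y = 0 := by
      rw [hy, dotProduct_sub, dotProduct_smul, hφx, dotProduct_single, mul_one, smul_eq_mul,
        div_mul_cancel₀ _ hj0, sub_self]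
    have hxS : x ∉ S := fun h => hj0 (by rw [← hφx]; exact ((hS x).1 h).2)
    have hyS : y ∉ S := fun h => by
      have := ((hS y).1 h).1
      rw [hy1] at this
      exact one_ne_zero this
    have hzS : (Pi.single i1 1 : Fin m → F) ∉ S ⊔ Submodule.span F {x} := by
      intro hm
      obtain ⟨s, hs, t, ht, hst⟩ := Submodule.mem_sup.1 hm
      obtain ⟨c, rfl⟩ := Submodule.mem_span_singleton.1 ht
      have := congrFun hst i1
      simp only [Pi.add_apply, Pi.smul_apply, hx1, ((hS s).1 hs).1, smul_zero, add_zero,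
        Pi.single_eq_same] at this
      exact zero_ne_one this
    obtain ⟨h, hhS, hhx⟩ := move S x y (Pi.single i1 1) hxS hyS hzS
    refine ⟨h, hhS _ ((hS _).2 ⟨by simp [h01], by rw [dotProduct_single, mul_one, hφ0]⟩),
      fun j hj => ?_⟩
    obtain ⟨s, hs⟩ : ∃ s : Fin m → F, s = Pi.single j 1 - (φ j / φ j0) • x := ⟨_, rfl⟩
    have hsS : s ∈ S := by
      rw [hS, hs]
      refine ⟨by simp [hx1, hj], ?_⟩
      rw [dotProduct_sub, dotProduct_smul, hφx, dotProduct_single, mul_one, smul_eq_mul,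
        div_mul_cancel₀ _ hj0, sub_self]
    have hej : (Pi.single j 1 : Fin m → F) = s + (φ j / φ j0) • x := by rw [hs]; abel
    rw [hej, mulVec_add, mulVec_smul, hhS s hsS, hhx, dotProduct_add, dotProduct_smul, hφy,
      smul_zero, add_zero]
    exact ((hS s).1 hsS).2

theorem exists_sl (i0 i1 i2 : Fin m) (h01 : i0 ≠ i1) (h02 : i0 ≠ i2) (h12 : i1 ≠ i2)
    (u φ : Fin m → F) (hu : u ≠ 0) (hφ : φ ≠ 0) (h : φ ⬝ᵥ u = 0) :
    ∃ g : Matrix.SpecialLinearGroup (Fin m) F,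
      (g : Matrix (Fin m) (Fin m) F) *ᵥ Pi.single i0 1 = u ∧
      φ ᵥ* (g : Matrix (Fin m) (Fin m) F) = Pi.single i1 1 := by
  obtain ⟨g1, hg1⟩ := trans1 i0 i1 h01 u hu
  have hφ1 : (φ ᵥ* (g1 : Matrix (Fin m) (Fin m) F)) i0 = 0 := by
    have : (φ ᵥ* (g1 : Matrix (Fin m) (Fin m) F)) ⬝ᵥ Pi.single i0 1 = 0 := by
      rw [← dotProduct_mulVec, hg1, h]
    rwa [dotProduct_single, mul_one] at this
  obtain ⟨k, hk0, hkj⟩ := exists_hyp i0 i1 h01 _ hφ1
  obtain ⟨φ2, hφ2⟩ : ∃ φ2, φ2 = φ ᵥ* ((g1 * k : Matrix.SpecialLinearGroup (Fin m) F) :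
      Matrix (Fin m) (Fin m) F) := ⟨_, rfl⟩
  have hφ2j : ∀ j, j ≠ i1 → φ2 j = 0 := by
    intro j hj
    have : φ2 ⬝ᵥ Pi.single j 1 = 0 := by
      rw [hφ2, Matrix.SpecialLinearGroup.coe_mul, ← vecMul_vecMul, ← dotProduct_mulVec]
      exact hkj j hj
    rwa [dotProduct_single, mul_one] at this
  obtain ⟨c, hcdef⟩ : ∃ c, c = φ2 i1 := ⟨_, rfl⟩
  have hφ2e : φ2 = c • Pi.single i1 1 := by
    funext j
    by_cases hj : j = i1
    · subst hj; simp [hcdef]
    · simp [hφ2j j hj, hj]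
  have hc : c ≠ 0 := by
    intro hc
    apply hφ
    rw [hc, zero_smul] at hφ2e
    have h1 : φ2 ᵥ* (((g1 * k)⁻¹ : Matrix.SpecialLinearGroup (Fin m) F) :
        Matrix (Fin m) (Fin m) F) = φ := by
      rw [hφ2, vecMul_vecMul, ← Matrix.SpecialLinearGroup.coe_mul, mul_inv_cancel,
        Matrix.SpecialLinearGroup.coe_one, vecMul_one]
    rw [← h1, hφ2e, zero_vecMul]
  refine ⟨g1 * k * Matrix.SpecialLinearGroup.diag2n h12.symm c hc, ?_, ?_⟩
  · rw [Matrix.SpecialLinearGroup.coe_mul, ← mulVec_mulVec,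
      Matrix.SpecialLinearGroup.diag2n_coe, diagonal_mulVec_single, if_neg h02, if_neg h01,
      one_mul, Matrix.SpecialLinearGroup.coe_mul, ← mulVec_mulVec, hk0, hg1]
  · rw [Matrix.SpecialLinearGroup.coe_mul, ← vecMul_vecMul, ← hφ2, hφ2e,
      Matrix.SpecialLinearGroup.diag2n_coe]
    funext j
    rw [vecMul_diagonal]
    by_cases hj : j = i1
    · subst hj
      simp [h12, mul_inv_cancel₀ hc]
    · simp [hj]

end Cfsg.Agent.Lib.Helper8.Tv
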