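import Mathlib
import Cfsg.Prelude.Def_RootSubgroups
import Cfsg.Agent.Lib.Helper4.SLnGen
import Cfsg.Agent.Lib.Helper8.Tv2

set_option autoImplicit false
set_option linter.unusedSimpArgs false

namespace Cfsg.Agent.Lib.Helper8.Tv

open Matrix
open Cfsg.Agent.Lib.Helper5.TvGL
open Cfsg.Agent.Lib.Lead.SLPerm

variable {F : Type*} [Field F] {m : ℕ}

/-- the set of transvections, in the form of the statement. -/
def Dset (i0 i1 : Fin m) : Set (Matrix.SpecialLinearGroup (Fin m) F) :=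
  {t | ∃ c : F, c ≠ 0 ∧ ∃ g : Matrix.SpecialLinearGroup (Fin m) F,
    ((g⁻¹ * t * g : Matrix.SpecialLinearGroup (Fin m) F) : Matrix (Fin m) (Fin m) F) =
      Matrix.transvection i0 i1 c}

theorem coe_inv_mul_self (g : Matrix.SpecialLinearGroup (Fin m) F) :
    ((g⁻¹ : Matrix.SpecialLinearGroup (Fin m) F) : Matrix (Fin m) (Fin m) F) *
      (g : Matrix (Fin m) (Fin m) F) = 1 := by
  rw [← Matrix.SpecialLinearGroup.coe_mul, inv_mul_cancel, Matrix.SpecialLinearGroup.coe_one]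

theorem coe_self_mul_inv (g : Matrix.SpecialLinearGroup (Fin m) F) :
    (g : Matrix (Fin m) (Fin m) F) *
      ((g⁻¹ : Matrix.SpecialLinearGroup (Fin m) F) : Matrix (Fin m) (Fin m) F) = 1 := by
  rw [← Matrix.SpecialLinearGroup.coe_mul, mul_inv_cancel, Matrix.SpecialLinearGroup.coe_one]

theorem exists_of_mem {i0 i1 : Fin m} (h01 : i0 ≠ i1) (t : Matrix.SpecialLinearGroup (Fin m) F)
    (ht : t ∈ Dset i0 i1) :
    ∃ u φ : Fin m → F, u ≠ 0 ∧ φ ≠ 0 ∧ φ ⬝ᵥ u = 0 ∧ (t : Matrix (Fin m) (Fin m) F) = tvMat φ u := by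
  obtain ⟨c, hc, g, hg⟩ := ht
  have ht : (t : Matrix (Fin m) (Fin m) F) = (g : Matrix (Fin m) (Fin m) F) *
      Matrix.transvection i0 i1 c *
      ((g⁻¹ : Matrix.SpecialLinearGroup (Fin m) F) : Matrix (Fin m) (Fin m) F) := by
    have e : t = g * (g⁻¹ * t * g) * g⁻¹ := by group
    rw [← hg, ← Matrix.SpecialLinearGroup.coe_mul, ← Matrix.SpecialLinearGroup.coe_mul, ← e]
  rw [transvection_eq_tvMat, conj_tvMat _ _ (coe_self_mul_inv g)] at ht
  refine ⟨_, _, ?_, ?_, ?_, ht⟩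
  · intro h0
    have := mulVec_inj g (a := Pi.single i0 c) (b := 0) (by rw [h0, mulVec_zero])
    have h1 := congrFun this i0
    rw [Pi.single_eq_same] at h1
    exact hc h1
  · intro h0
    have h1 : (Pi.single i1 (1 : F) ᵥ*
        ((g⁻¹ : Matrix.SpecialLinearGroup (Fin m) F) : Matrix (Fin m) (Fin m) F)) ᵥ*
        (g : Matrix (Fin m) (Fin m) F) = Pi.single i1 1 := by
      rw [vecMul_vecMul, coe_inv_mul_self, vecMul_one]
    rw [h0, zero_vecMul] at h1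
    have h2 := congrFun h1 i1
    rw [Pi.single_eq_same] at h2
    exact zero_ne_one h2
  · rw [← dotProduct_mulVec, mulVec_mulVec, coe_inv_mul_self, one_mulVec, dotProduct_single,
      Pi.single_eq_of_ne h01, zero_mul]

theorem conj_std {i0 i1 i2 : Fin m} (h01 : i0 ≠ i1) (h02 : i0 ≠ i2) (h12 : i1 ≠ i2)
    (t : Matrix.SpecialLinearGroup (Fin m) F) (u φ : Fin m → F) (hu : u ≠ 0) (hφ : φ ≠ 0)
    (h : φ ⬝ᵥ u = 0) (ht : (t : Matrix (Fin m) (Fin m) F) = tvMat φ u) :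
    ∃ g : Matrix.SpecialLinearGroup (Fin m) F,
      g⁻¹ * t * g = Matrix.SpecialLinearGroup.transvection h01 1 := by
  obtain ⟨g, hg1, hg2⟩ := exists_sl i0 i1 i2 h01 h02 h12 u φ hu hφ h
  refine ⟨g, Subtype.ext ?_⟩
  have hT : ((Matrix.SpecialLinearGroup.transvection h01 (1 : F) :
      Matrix.SpecialLinearGroup (Fin m) F) : Matrix (Fin m) (Fin m) F) =
      Matrix.transvection i0 i1 1 := rfl
  rw [Matrix.SpecialLinearGroup.coe_mul, Matrix.SpecialLinearGroup.coe_mul, ht,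
    conj_tvMat _ _ (coe_inv_mul_self g), hg2, hT, transvection_eq_tvMat]
  congr 1
  rw [← hg1, mulVec_mulVec, coe_inv_mul_self, one_mulVec]

theorem mem_of_tvMat {i0 i1 i2 : Fin m} (h01 : i0 ≠ i1) (h02 : i0 ≠ i2) (h12 : i1 ≠ i2)
    (t : Matrix.SpecialLinearGroup (Fin m) F) (u φ : Fin m → F) (hu : u ≠ 0) (hφ : φ ≠ 0)
    (h : φ ⬝ᵥ u = 0) (ht : (t : Matrix (Fin m) (Fin m) F) = tvMat φ u) : t ∈ Dset i0 i1 := by
  obtain ⟨g, hg⟩ := conj_std h01 h02 h12 t u φ hu hφ h ht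
  exact ⟨1, one_ne_zero, g, by rw [hg]; rfl⟩

section char2
variable [CharP F 2]

theorem add_self_mat (M : Matrix (Fin m) (Fin m) F) : M + M = 0 := by
  ext i j
  exact CharTwo.add_self_eq_zero _

theorem tvMat_sq (u φ : Fin m → F) (h : φ ⬝ᵥ u = 0) : tvMat φ u * tvMat φ u = 1 := by
  unfold tvMat
  simp only [mul_add, add_mul, one_mul, mul_one]
  rw [vv_mul, h, zero_smul, add_zero, add_assoc, add_self_mat, add_zero]

theorem orderOf_eq_two (t : Matrix.SpecialLinearGroup (Fin m) F) (u φ : Fin m → F) (hu : u ≠ 0)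
    (hφ : φ ≠ 0) (h : φ ⬝ᵥ u = 0) (ht : (t : Matrix (Fin m) (Fin m) F) = tvMat φ u) :
    orderOf t = 2 := by
  haveI : Fact (Nat.Prime 2) := ⟨Nat.prime_two⟩
  apply orderOf_eq_prime
  · apply Subtype.ext
    rw [Matrix.SpecialLinearGroup.coe_pow, ht, sq, tvMat_sq u φ h,
      Matrix.SpecialLinearGroup.coe_one]
  · intro h1
    apply tvMat_ne_one u φ hu hφ
    rw [← ht, h1, Matrix.SpecialLinearGroup.coe_one]

theorem order_four_of_sq {i0 i1 i2 : Fin m} (h01 : i0 ≠ i1) (h02 : i0 ≠ i2) (h12 : i1 ≠ i2)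
    (x : Matrix.SpecialLinearGroup (Fin m) F) (v χ : Fin m → F) (hv : v ≠ 0) (hχ : χ ≠ 0)
    (h : χ ⬝ᵥ v = 0)
    (hx : ((x ^ 2 : Matrix.SpecialLinearGroup (Fin m) F) : Matrix (Fin m) (Fin m) F) = tvMat χ v) :
    orderOf x = 4 ∧ x ^ 2 ∈ Dset i0 i1 := by
  refine ⟨?_, mem_of_tvMat h01 h02 h12 _ v χ hv hχ h hx⟩
  haveI : Fact (Nat.Prime 2) := ⟨Nat.prime_two⟩
  have h2 := orderOf_eq_two (x ^ 2) v χ hv hχ h hx
  have := orderOf_eq_prime_pow (x := x) (p := 2) (n := 1) ?_ ?_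
  · simpa using this
  · intro h1
    rw [pow_one] at h1
    rw [h1, orderOf_one] at h2
    exact absurd h2 (by norm_num)
  · have := pow_orderOf_eq_one (x ^ 2)
    rw [h2, ← pow_mul] at this
    simpa using this

theorem pair_cases {i0 i1 i2 : Fin m} (h01 : i0 ≠ i1) (h02 : i0 ≠ i2) (h12 : i1 ≠ i2)
    (a b : Matrix.SpecialLinearGroup (Fin m) F) (ha : a ∈ Dset i0 i1) (hb : b ∈ Dset i0 i1) :
    a * b = b * a ∨ (orderOf (a * b) = 4 ∧ (a * b) ^ 2 ∈ Dset i0 i1) ∨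
    ∃ γ : F, γ ≠ 0 ∧
      (((a * b : Matrix.SpecialLinearGroup (Fin m) F) : Matrix (Fin m) (Fin m) F) + 1) *
        (((a * b : Matrix.SpecialLinearGroup (Fin m) F) : Matrix (Fin m) (Fin m) F) ^ 2 +
          γ • ((a * b : Matrix.SpecialLinearGroup (Fin m) F) : Matrix (Fin m) (Fin m) F) + 1) = 0 := by
  obtain ⟨u, φ, hu, hφ, hφu, hta⟩ := exists_of_mem h01 a ha
  obtain ⟨w, ψ, hw, hψ, hψw, htb⟩ := exists_of_mem h01 b hb
  obtain ⟨A, hA⟩ : ∃ A, A = vecMulVec u φ := ⟨_, rfl⟩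
  obtain ⟨B, hB⟩ : ∃ B, B = vecMulVec w ψ := ⟨_, rfl⟩
  have hta' : (a : Matrix (Fin m) (Fin m) F) = 1 + A := by rw [hta, hA]; rfl
  have htb' : (b : Matrix (Fin m) (Fin m) F) = 1 + B := by rw [htb, hB]; rfl
  have hAA : A * A = 0 := by rw [hA, vv_mul, hφu, zero_smul]
  have hBB : B * B = 0 := by rw [hB, vv_mul, hψw, zero_smul]
  have hAB : A * B = (φ ⬝ᵥ w) • vecMulVec u ψ := by rw [hA, hB, vv_mul]
  have hBA : B * A = (ψ ⬝ᵥ u) • vecMulVec w φ := by rw [hA, hB, vv_mul]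
  by_cases hα : φ ⬝ᵥ w = 0
  · by_cases hβ : ψ ⬝ᵥ u = 0
    · left
      apply Subtype.ext
      rw [Matrix.SpecialLinearGroup.coe_mul, Matrix.SpecialLinearGroup.coe_mul, hta', htb']
      exact comm_of_zero A B (by rw [hAB, hα, zero_smul]) (by rw [hBA, hβ, zero_smul])
    · right; left
      apply order_four_of_sq h01 h02 h12 (a * b) ((ψ ⬝ᵥ u) • w) φ (smul_ne_zero hβ hw) hφ
        (by rw [dotProduct_smul, hα, smul_zero])
      rw [Matrix.SpecialLinearGroup.coe_pow, Matrix.SpecialLinearGroup.coe_mul, hta', htb',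
        sq_of_AB_zero add_self_mat A B hAA hBB (by rw [hAB, hα, zero_smul]), hBA]
      unfold tvMat
      rw [smul_vecMulVec]
  · by_cases hβ : ψ ⬝ᵥ u = 0
    · right; left
      apply order_four_of_sq h01 h02 h12 (a * b) ((φ ⬝ᵥ w) • u) ψ (smul_ne_zero hα hu) hψ
        (by rw [dotProduct_smul, hβ, smul_zero])
      rw [Matrix.SpecialLinearGroup.coe_pow, Matrix.SpecialLinearGroup.coe_mul, hta', htb',
        sq_of_BA_zero add_self_mat A B hAA hBB (by rw [hBA, hβ, zero_smul]), hAB]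
      unfold tvMat
      rw [smul_vecMulVec]
    · right; right
      refine ⟨(φ ⬝ᵥ w) * (ψ ⬝ᵥ u), mul_ne_zero hα hβ, ?_⟩
      rw [Matrix.SpecialLinearGroup.coe_mul, hta', htb']
      apply cubic_identity add_self_mat A B _ hAA hBB
      · rw [hAB, smul_mul_assoc, hA, vv_mul, smul_smul]
      · rw [hBA, smul_mul_assoc, hB, vv_mul, smul_smul, mul_comm]

theorem odd_of_cubic [Finite F] (x : Matrix.SpecialLinearGroup (Fin m) F) (γ : F) (hγ : γ ≠ 0)
    (h : ((x : Matrix (Fin m) (Fin m) F) + 1) *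
      ((x : Matrix (Fin m) (Fin m) F) ^ 2 + γ • (x : Matrix (Fin m) (Fin m) F) + 1) = 0) :
    Odd (orderOf x) := by
  have hpos : 0 < orderOf x := orderOf_pos x
  by_contra hodd
  rw [Nat.not_odd_iff_even] at hodd
  obtain ⟨k, hk⟩ := hodd
  have h1 : x ^ (2 * k) = 1 := by rw [two_mul, ← hk]; exact pow_orderOf_eq_one x
  have h2 : (x : Matrix (Fin m) (Fin m) F) ^ (2 * k) = 1 := by
    rw [← Matrix.SpecialLinearGroup.coe_pow, h1, Matrix.SpecialLinearGroup.coe_one]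
  have h3 := pow_eq_one_of_cubic (x : Matrix (Fin m) (Fin m) F) γ hγ h k h2
  have h4 : x ^ k = 1 := Subtype.ext (by
    rw [Matrix.SpecialLinearGroup.coe_pow, h3, Matrix.SpecialLinearGroup.coe_one])
  have h5 := orderOf_dvd_of_pow_eq_one h4
  rw [hk] at h5
  rcases Nat.eq_zero_or_pos k with h0 | h0
  · omega
  · have := Nat.le_of_dvd h0 h5
    omega

theorem cube_of_cubic_one (x : Matrix.SpecialLinearGroup (Fin m) F)
    (h : ((x : Matrix (Fin m) (Fin m) F) + 1) *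
      ((x : Matrix (Fin m) (Fin m) F) ^ 2 + (1 : F) • (x : Matrix (Fin m) (Fin m) F) + 1) = 0) :
    x ^ 3 = 1 := by
  apply Subtype.ext
  rw [Matrix.SpecialLinearGroup.coe_pow, Matrix.SpecialLinearGroup.coe_one]
  obtain ⟨M, hM⟩ : ∃ M, M = (x : Matrix (Fin m) (Fin m) F) := ⟨_, rfl⟩
  rw [← hM] at h ⊢
  rw [one_smul] at h
  have e : (M + 1) * (M ^ 2 + M + 1) = M ^ 3 + 1 + ((M ^ 2 + M) + (M ^ 2 + M)) := by
    noncomm_ring
  rw [e, add_self_mat, add_zero] at h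
  calc M ^ 3 = M ^ 3 + (1 + 1) := by rw [add_self_mat, add_zero]
    _ = (M ^ 3 + 1) + 1 := by abel
    _ = 1 := by rw [h, zero_add]

end char2

end Cfsg.Agent.Lib.Helper8.Tv
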