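import Mathlib
import Cfsg.Agent.Lib.Helper8.Rs1
import Cfsg.Agent.Lib.Helper8.Tv3

set_option autoImplicit false
set_option linter.unusedSimpArgs false

namespace Cfsg.Agent.Lib.Helper8.Rs

open Matrix Cfsg
open Cfsg.Agent.Lib.Helper5.TvGL Cfsg.Agent.Lib.Helper8.Tv Cfsg.Agent.Lib.Lead.SLPerm

variable {k : Type*} [Field k] {m : ℕ}


theorem det_one_add_smul (u φ : Fin m → k) (c : k) (h : φ ⬝ᵥ u = 0) :
    (1 + c • vecMulVec u φ).det = 1 := by
  have := det_tvMat φ (c • u) (by rw [dotProduct_smul, h, smul_zero])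
  unfold tvMat at this
  rwa [smul_vecMulVec] at this

/-- auxiliary constructor -/
def xelMk (u φ : Fin m → k) (c : k) (h : φ ⬝ᵥ u = 0) : Matrix.SpecialLinearGroup (Fin m) k :=
  ⟨1 + c • vecMulVec u φ, det_one_add_smul u φ c h⟩

open Classical in
/-- the root element `1 + c u φᵀ` (and `1` if `φ u ≠ 0`) -/
noncomputable def xel (u φ : Fin m → k) (c : k) : Matrix.SpecialLinearGroup (Fin m) k :=
  if h : φ ⬝ᵥ u = 0 then xelMk u φ c h else 1

theorem xel_coe {u φ : Fin m → k} (h : φ ⬝ᵥ u = 0) (c : k) :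
    ((xel u φ c : Matrix.SpecialLinearGroup (Fin m) k) : Matrix (Fin m) (Fin m) k) =
      1 + c • vecMulVec u φ := by
  unfold xel; rw [dif_pos h]; rfl

theorem xel_of_not {u φ : Fin m → k} (h : ¬ φ ⬝ᵥ u = 0) (c : k) : xel u φ c = 1 := by
  unfold xel; rw [dif_neg h]

theorem xel_zero (u φ : Fin m → k) : xel u φ 0 = 1 := by
  by_cases h : φ ⬝ᵥ u = 0
  · apply Subtype.ext
    rw [xel_coe h, zero_smul, add_zero, Matrix.SpecialLinearGroup.coe_one]
  · exact xel_of_not h 0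

theorem xel_mul (u φ : Fin m → k) (c d : k) : xel u φ c * xel u φ d = xel u φ (c + d) := by
  by_cases h : φ ⬝ᵥ u = 0
  · apply Subtype.ext
    rw [Matrix.SpecialLinearGroup.coe_mul, xel_coe h, xel_coe h, xel_coe h]
    have hAA : vecMulVec u φ * vecMulVec u φ = 0 := by rw [vv_mul, h, zero_smul]
    rw [mul_add, add_mul, add_mul, one_mul, mul_one, one_mul, Matrix.smul_mul, Matrix.mul_smul,
      hAA, smul_zero, smul_zero, add_zero, add_smul]
    abel
  · rw [xel_of_not h, xel_of_not h, xel_of_not h, one_mul]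

theorem xel_inv (u φ : Fin m → k) (c : k) : (xel u φ c)⁻¹ = xel u φ (-c) :=
  inv_eq_of_mul_eq_one_right (by rw [xel_mul, add_neg_cancel, xel_zero])

theorem xel_eq_one_iff {u φ : Fin m → k} (hu : u ≠ 0) (hφ : φ ≠ 0) (h : φ ⬝ᵥ u = 0) (c : k) :
    xel u φ c = 1 ↔ c = 0 := by
  constructor
  · intro h1
    have h2 := congrArg (fun t : Matrix.SpecialLinearGroup (Fin m) k =>
      (t : Matrix (Fin m) (Fin m) k)) h1
    simp only [xel_coe h, Matrix.SpecialLinearGroup.coe_one] at h2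
    have h3 : c • vecMulVec u φ = 0 := by
      have := congrArg (fun M => M - 1) h2
      simpa using this
    rcases smul_eq_zero.1 h3 with h4 | h4
    · exact h4
    · rcases vecMulVec_eq_zero.1 h4 with h5 | h5
      · exact absurd h5 hu
      · exact absurd h5 hφ
  · rintro rfl
    exact xel_zero u φ

theorem xel_injective {u φ : Fin m → k} (hu : u ≠ 0) (hφ : φ ≠ 0) (h : φ ⬝ᵥ u = 0) {c d : k}
    (hcd : xel u φ c = xel u φ d) : c = d := by
  have h1 : xel u φ (c - d) = 1 := by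
    rw [sub_eq_add_neg, ← xel_mul, ← xel_inv, hcd, mul_inv_cancel]
  exact sub_eq_zero.1 ((xel_eq_one_iff hu hφ h _).1 h1)

/-- the root subgroup -/
noncomputable def Tg (u φ : Fin m → k) : Subgroup (Matrix.SpecialLinearGroup (Fin m) k) where
  carrier := {t | ∃ c, t = xel u φ c}
  mul_mem' := by
    rintro _ _ ⟨c, rfl⟩ ⟨d, rfl⟩
    exact ⟨c + d, xel_mul u φ c d⟩
  one_mem' := ⟨0, (xel_zero u φ).symm⟩
  inv_mem' := by
    rintro _ ⟨c, rfl⟩
    exact ⟨-c, xel_inv u φ c⟩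

theorem mem_Tg {u φ : Fin m → k} {t : Matrix.SpecialLinearGroup (Fin m) k} :
    t ∈ Tg u φ ↔ ∃ c, t = xel u φ c := Iff.rfl

theorem xel_mem (u φ : Fin m → k) (c : k) : xel u φ c ∈ Tg u φ := ⟨c, rfl⟩

theorem Tg_comm (u φ : Fin m → k) : ∀ x ∈ Tg u φ, ∀ y ∈ Tg u φ, x * y = y * x := by
  rintro _ ⟨c, rfl⟩ _ ⟨d, rfl⟩
  rw [xel_mul, xel_mul, add_comm]

theorem Tg_ne_bot {u φ : Fin m → k} (hu : u ≠ 0) (hφ : φ ≠ 0) (h : φ ⬝ᵥ u = 0) : Tg u φ ≠ ⊥ := by
  intro h0
  have h1 : xel u φ 1 ∈ (⊥ : Subgroup (Matrix.SpecialLinearGroup (Fin m) k)) := h0 ▸ xel_mem u φ 1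
  rw [Subgroup.mem_bot, xel_eq_one_iff hu hφ h] at h1
  exact one_ne_zero h1

theorem conj_dot (g : Matrix.SpecialLinearGroup (Fin m) k) (u φ : Fin m → k) :
    (φ ᵥ* ((g⁻¹ : Matrix.SpecialLinearGroup (Fin m) k) : Matrix (Fin m) (Fin m) k)) ⬝ᵥ
      ((g : Matrix (Fin m) (Fin m) k) *ᵥ u) = φ ⬝ᵥ u := by
  rw [← dotProduct_mulVec, mulVec_mulVec, coe_inv_mul_self, one_mulVec]

theorem conj_xel (g : Matrix.SpecialLinearGroup (Fin m) k) (u φ : Fin m → k) (h : φ ⬝ᵥ u = 0)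
    (c : k) : g * xel u φ c * g⁻¹ =
      xel ((g : Matrix (Fin m) (Fin m) k) *ᵥ u)
        (φ ᵥ* ((g⁻¹ : Matrix.SpecialLinearGroup (Fin m) k) : Matrix (Fin m) (Fin m) k)) c := by
  have h' := (conj_dot g u φ).trans h
  apply Subtype.ext
  rw [Matrix.SpecialLinearGroup.coe_mul, Matrix.SpecialLinearGroup.coe_mul, xel_coe h, xel_coe h',
    mul_add, add_mul, mul_one, coe_self_mul_inv, Matrix.mul_smul, Matrix.smul_mul, mul_vecMulVec,
    vecMulVec_mul]

theorem conjBy_Tg (g : Matrix.SpecialLinearGroup (Fin m) k) (u φ : Fin m → k) (h : φ ⬝ᵥ u = 0) :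
    conjBy (Tg u φ) g = Tg ((g : Matrix (Fin m) (Fin m) k) *ᵥ u)
        (φ ᵥ* ((g⁻¹ : Matrix.SpecialLinearGroup (Fin m) k) : Matrix (Fin m) (Fin m) k)) := by
  ext x
  constructor
  · rintro ⟨a, ⟨c, rfl⟩, rfl⟩
    refine ⟨c, ?_⟩
    rw [← conj_xel g u φ h c]
    rfl
  · rintro ⟨c, rfl⟩
    refine ⟨xel u φ c, ⟨c, rfl⟩, ?_⟩
    rw [← conj_xel g u φ h c]
    rfl

theorem single_dot_single {i j : Fin m} (hij : i ≠ j) :
    (Pi.single j (1 : k) : Fin m → k) ⬝ᵥ Pi.single i 1 = 0 := by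
  rw [dotProduct_single, Pi.single_eq_of_ne hij, zero_mul]

theorem single_dot_self (i : Fin m) :
    (Pi.single i (1 : k) : Fin m → k) ⬝ᵥ Pi.single i 1 = 1 := by
  rw [dotProduct_single, Pi.single_eq_same, one_mul]

theorem single_ne_zero (i : Fin m) : (Pi.single i (1 : k) : Fin m → k) ≠ 0 := by
  intro h
  have := congrFun h i
  rw [Pi.single_eq_same] at this
  exact one_ne_zero this

theorem transvection_eq (i j : Fin m) (c : k) :
    Matrix.transvection i j c = 1 + c • vecMulVec (Pi.single i 1) (Pi.single j 1) := by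
  rw [transvection_eq_tvMat]
  unfold tvMat
  rw [← smul_vecMulVec]
  congr 2
  ext a
  simp [Pi.single_apply]

theorem closure_std {i0 i1 : Fin m} (h01 : i0 ≠ i1) :
    Subgroup.closure {t : Matrix.SpecialLinearGroup (Fin m) k |
      ∃ c : k, (t : Matrix (Fin m) (Fin m) k) = Matrix.transvection i0 i1 c} =
      Tg (Pi.single i0 1) (Pi.single i1 1) := by
  have : {t : Matrix.SpecialLinearGroup (Fin m) k |
      ∃ c : k, (t : Matrix (Fin m) (Fin m) k) = Matrix.transvection i0 i1 c} =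
      ((Tg (Pi.single i0 1) (Pi.single i1 1) : Subgroup (Matrix.SpecialLinearGroup (Fin m) k)) :
        Set (Matrix.SpecialLinearGroup (Fin m) k)) := by
    ext t
    rw [SetLike.mem_coe, mem_Tg]
    constructor
    · rintro ⟨c, hc⟩
      refine ⟨c, Subtype.ext ?_⟩
      rw [hc, xel_coe (single_dot_single h01), transvection_eq]
    · rintro ⟨c, rfl⟩
      refine ⟨c, ?_⟩
      rw [xel_coe (single_dot_single h01), transvection_eq]
  rw [this, Subgroup.closure_eq]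

/-- the class of root subgroups, in the statement's form -/
def Sig (i0 i1 : Fin m) : Set (Subgroup (Matrix.SpecialLinearGroup (Fin m) k)) :=
  {A | ∃ g : Matrix.SpecialLinearGroup (Fin m) k,
    A = conjBy (Subgroup.closure {t : Matrix.SpecialLinearGroup (Fin m) k |
      ∃ c : k, (t : Matrix (Fin m) (Fin m) k) = Matrix.transvection i0 i1 c}) g}

theorem mem_Sig_iff {i0 i1 i2 : Fin m} (h01 : i0 ≠ i1) (h02 : i0 ≠ i2) (h12 : i1 ≠ i2)
    (A : Subgroup (Matrix.SpecialLinearGroup (Fin m) k)) :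
    A ∈ Sig i0 i1 ↔ ∃ u φ : Fin m → k, u ≠ 0 ∧ φ ≠ 0 ∧ φ ⬝ᵥ u = 0 ∧ A = Tg u φ := by
  constructor
  · rintro ⟨g, rfl⟩
    rw [closure_std h01, conjBy_Tg g _ _ (single_dot_single h01)]
    refine ⟨_, _, ?_, ?_, (conj_dot g _ _).trans (single_dot_single h01), rfl⟩
    · intro h0
      have := mulVec_inj g (a := Pi.single i0 (1 : k)) (b := 0) (by rw [h0, mulVec_zero])
      exact single_ne_zero i0 this
    · intro h0
      have h1 : (Pi.single i1 (1 : k) ᵥ*
          ((g⁻¹ : Matrix.SpecialLinearGroup (Fin m) k) : Matrix (Fin m) (Fin m) k)) ᵥ*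
          (g : Matrix (Fin m) (Fin m) k) = Pi.single i1 1 := by
        rw [vecMul_vecMul, coe_inv_mul_self, vecMul_one]
      rw [h0, zero_vecMul] at h1
      exact single_ne_zero i1 h1.symm
  · rintro ⟨u, φ, hu, hφ, h, rfl⟩
    obtain ⟨g, hg1, hg2⟩ := exists_sl i0 i1 i2 h01 h02 h12 u φ hu hφ h
    refine ⟨g, ?_⟩
    rw [closure_std h01, conjBy_Tg g _ _ (single_dot_single h01), hg1, ← hg2, vecMul_vecMul,
      coe_self_mul_inv, vecMul_one]

end Cfsg.Agent.Lib.Helper8.Rs
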