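import Mathlib
import Cfsg.Agent.Lib.Helper8.Rs2

set_option autoImplicit false
set_option linter.unusedSimpArgs false

namespace Cfsg.Agent.Lib.Helper8.Rs

open Matrix Cfsg
open Cfsg.Agent.Lib.Helper5.TvGL Cfsg.Agent.Lib.Helper8.Tv Cfsg.Agent.Lib.Lead.SLPerm
open scoped commutatorElement

variable {k : Type*} [Field k] {m : ℕ}

theorem smul_vv_mul (u φ w ψ : Fin m → k) (c d : k) :
    (c • vecMulVec u φ) * (d • vecMulVec w ψ) = (c * d * (φ ⬝ᵥ w)) • vecMulVec u ψ := by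
  rw [Matrix.smul_mul, Matrix.mul_smul, vv_mul, smul_smul, smul_smul]

theorem xel_comm {u φ w ψ : Fin m → k} (hφu : φ ⬝ᵥ u = 0) (hψw : ψ ⬝ᵥ w = 0)
    (hα : φ ⬝ᵥ w = 0) (hβ : ψ ⬝ᵥ u = 0) (c d : k) :
    xel u φ c * xel w ψ d = xel w ψ d * xel u φ c := by
  apply Subtype.ext
  rw [Matrix.SpecialLinearGroup.coe_mul, Matrix.SpecialLinearGroup.coe_mul, xel_coe hφu,
    xel_coe hψw]
  apply comm_of_zero
  · rw [smul_vv_mul, hα, mul_zero, zero_smul]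
  · rw [smul_vv_mul, hβ, mul_zero, zero_smul]

theorem comm_xel_of_beta_zero {u φ w ψ : Fin m → k} (hφu : φ ⬝ᵥ u = 0) (hψw : ψ ⬝ᵥ w = 0)
    (hβ : ψ ⬝ᵥ u = 0) (c d : k) :
    xel u φ c * xel w ψ d * (xel u φ c)⁻¹ * (xel w ψ d)⁻¹ = xel u ψ (c * d * (φ ⬝ᵥ w)) := by
  rw [xel_inv, xel_inv]
  apply Subtype.ext
  rw [Matrix.SpecialLinearGroup.coe_mul, Matrix.SpecialLinearGroup.coe_mul,
    Matrix.SpecialLinearGroup.coe_mul, xel_coe hφu, xel_coe hψw, xel_coe hφu, xel_coe hψw,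
    xel_coe hβ, neg_smul, neg_smul, ← sub_eq_add_neg, ← sub_eq_add_neg,
    comm_of_YX_zero _ _ (by rw [smul_vv_mul, hφu, mul_zero, zero_smul])
      (by rw [smul_vv_mul, hψw, mul_zero, zero_smul])
      (by rw [smul_vv_mul, hβ, mul_zero, zero_smul]), smul_vv_mul]

theorem comm_xel_of_alpha_zero {u φ w ψ : Fin m → k} (hφu : φ ⬝ᵥ u = 0) (hψw : ψ ⬝ᵥ w = 0)
    (hα : φ ⬝ᵥ w = 0) (c d : k) :
    xel u φ c * xel w ψ d * (xel u φ c)⁻¹ * (xel w ψ d)⁻¹ = xel w φ (-(c * d * (ψ ⬝ᵥ u))) := by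
  rw [xel_inv, xel_inv]
  apply Subtype.ext
  rw [Matrix.SpecialLinearGroup.coe_mul, Matrix.SpecialLinearGroup.coe_mul,
    Matrix.SpecialLinearGroup.coe_mul, xel_coe hφu, xel_coe hψw, xel_coe hφu, xel_coe hψw,
    xel_coe hα, neg_smul, neg_smul, ← sub_eq_add_neg, ← sub_eq_add_neg,
    comm_of_XY_zero _ _ (by rw [smul_vv_mul, hφu, mul_zero, zero_smul])
      (by rw [smul_vv_mul, hψw, mul_zero, zero_smul])
      (by rw [smul_vv_mul, hα, mul_zero, zero_smul]), smul_vv_mul, neg_smul, ← sub_eq_add_neg,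
    mul_comm d c]

/-- the commutator case from a bilinear commutator formula -/
theorem rootCommCase_of {G : Type*} [Group G] (S : Set (Subgroup G)) (A B C : Subgroup G)
    (xA xB xC : k → G) (κ : k) (hκ : κ ≠ 0)
    (hA : ∀ a, a ∈ A ↔ ∃ c, a = xA c) (hB : ∀ b, b ∈ B ↔ ∃ d, b = xB d)
    (hC : ∀ z, z ∈ C ↔ ∃ e, z = xC e) (hA0 : xA 0 = 1) (hB0 : xB 0 = 1) (hCS : C ∈ S)
    (hcomm : ∀ c d, xA c * xB d * (xA c)⁻¹ * (xB d)⁻¹ = xC (κ * c * d))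
    (hcA : ∀ e c, xC e * xA c = xA c * xC e) (hcB : ∀ e d, xC e * xB d = xB d * xC e) :
    RootCommutatorCase S A B := by
  have hAB : ⁅A, B⁆ = C := by
    apply le_antisymm
    · rw [Subgroup.commutator_le]
      intro a ha b hb
      obtain ⟨c, rfl⟩ := (hA a).1 ha
      obtain ⟨d, rfl⟩ := (hB b).1 hb
      rw [commutatorElement_def, hcomm]
      exact (hC _).2 ⟨_, rfl⟩
    · intro z hz
      obtain ⟨e, rfl⟩ := (hC z).1 hz
      have h1 : xC e = ⁅xA 1, xB (e / κ)⁆ := by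
        rw [commutatorElement_def, hcomm, mul_one, mul_div_cancel₀ _ hκ]
      rw [h1]
      exact Subgroup.commutator_mem_commutator ((hA _).2 ⟨_, rfl⟩) ((hB _).2 ⟨_, rfl⟩)
  refine ⟨hAB ▸ hCS, ?_, ?_, ?_⟩
  · intro z hz x hx
    rw [hAB] at hz
    obtain ⟨e, rfl⟩ := (hC z).1 hz
    have hle : A ⊔ B ≤ Subgroup.centralizer {xC e} := by
      apply sup_le
      · intro a ha
        obtain ⟨c, rfl⟩ := (hA a).1 ha
        rw [Subgroup.mem_centralizer_iff]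
        intro y hy
        rw [Set.mem_singleton_iff] at hy
        rw [hy, hcA]
      · intro b hb
        obtain ⟨d, rfl⟩ := (hB b).1 hb
        rw [Subgroup.mem_centralizer_iff]
        intro y hy
        rw [Set.mem_singleton_iff] at hy
        rw [hy, hcB]
    exact (Subgroup.mem_centralizer_iff.1 (hle hx)) _ rfl
  · intro a ha ha1
    obtain ⟨c, rfl⟩ := (hA a).1 ha
    have hc : c ≠ 0 := fun h0 => ha1 (by rw [h0, hA0])
    rw [hAB]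
    have : (fun b : G => xA c * b * (xA c)⁻¹ * b⁻¹) '' (B : Set G) = (C : Set G) := by
      ext z
      constructor
      · rintro ⟨b, hb, rfl⟩
        obtain ⟨d, rfl⟩ := (hB b).1 hb
        show xA c * xB d * (xA c)⁻¹ * (xB d)⁻¹ ∈ C
        rw [hcomm]
        exact (hC _).2 ⟨_, rfl⟩
      · intro hz
        obtain ⟨e, rfl⟩ := (hC z).1 hz
        refine ⟨xB (e / (κ * c)), (hB _).2 ⟨_, rfl⟩, ?_⟩
        show xA c * xB (e / (κ * c)) * (xA c)⁻¹ * (xB (e / (κ * c)))⁻¹ = xC e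
        rw [hcomm, mul_div_cancel₀ _ (mul_ne_zero hκ hc)]
    rw [this, Subgroup.closure_eq]
  · intro b hb hb1
    obtain ⟨d, rfl⟩ := (hB b).1 hb
    have hd : d ≠ 0 := fun h0 => hb1 (by rw [h0, hB0])
    rw [hAB]
    have : (fun a : G => a * xB d * a⁻¹ * (xB d)⁻¹) '' (A : Set G) = (C : Set G) := by
      ext z
      constructor
      · rintro ⟨a, ha, rfl⟩
        obtain ⟨c, rfl⟩ := (hA a).1 ha
        show xA c * xB d * (xA c)⁻¹ * (xB d)⁻¹ ∈ C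
        rw [hcomm]
        exact (hC _).2 ⟨_, rfl⟩
      · intro hz
        obtain ⟨e, rfl⟩ := (hC z).1 hz
        refine ⟨xA (e / (κ * d)), (hA _).2 ⟨_, rfl⟩, ?_⟩
        show xA (e / (κ * d)) * xB d * (xA (e / (κ * d)))⁻¹ * (xB d)⁻¹ = xC e
        rw [hcomm]
        congr 1
        field_simp
    rw [this, Subgroup.closure_eq]

/-- the rank one case -/
theorem rankOne_of {u φ w ψ : Fin m → k} (hφu : φ ⬝ᵥ u = 0) (hψw : ψ ⬝ᵥ w = 0)
    (hα : φ ⬝ᵥ w ≠ 0) (hβ : ψ ⬝ᵥ u ≠ 0) :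
    IsRankOnePair (Tg u φ) (Tg w ψ) ∧ IsPSL2PairOver k (Tg u φ) (Tg w ψ) := by
  obtain ⟨u', hu'⟩ : ∃ u' : Fin m → k, u' = (ψ ⬝ᵥ u)⁻¹ • ψ := ⟨_, rfl⟩
  obtain ⟨w', hw'⟩ : ∃ w' : Fin m → k, w' = (φ ⬝ᵥ w)⁻¹ • φ := ⟨_, rfl⟩
  have h : rowMat u' w' * colMat u w = 1 := by
    apply rowMat_mul_colMat
    · rw [hu', smul_dotProduct, smul_eq_mul, inv_mul_cancel₀ hβ]
    · rw [hu', smul_dotProduct, hψw, smul_zero]
    · rw [hw', smul_dotProduct, hφu, smul_zero]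
    · rw [hw', smul_dotProduct, smul_eq_mul, inv_mul_cancel₀ hα]
  obtain ⟨f, hf⟩ : ∃ f, f = emb u w u' w' h := ⟨_, rfl⟩
  have hinj : Function.Injective f := hf ▸ emb_injective u w u' w' h
  have hfU : ∀ t : k, f (Cfsg.Agent.S5016.Um t) = xel u φ (t * (φ ⬝ᵥ w)⁻¹) := by
    intro t
    apply Subtype.ext
    rw [hf, emb_coe, Cfsg.Agent.S5016.Um_val, embMat_upper, xel_coe hφu, hw', vecMulVec_smul,
      smul_smul]
  have hfL : ∀ t : k, f (Cfsg.Agent.S5016.Lm t) = xel w ψ (t * (ψ ⬝ᵥ u)⁻¹) := by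
    intro t
    apply Subtype.ext
    rw [hf, emb_coe, Cfsg.Agent.S5016.Lm_val, embMat_lower, xel_coe hψw, hu', vecMulVec_smul,
      smul_smul]
  have hU : (upperUnipotentSL2 k).map f = Tg u φ := by
    ext x
    constructor
    · rintro ⟨M, hM, rfl⟩
      obtain ⟨t, rfl⟩ := Cfsg.Agent.S5016.mem_upper.1 hM
      exact ⟨_, hfU t⟩
    · rintro ⟨c, rfl⟩
      refine ⟨Cfsg.Agent.S5016.Um (c * (φ ⬝ᵥ w)), Cfsg.Agent.S5016.mem_upper.2 ⟨_, rfl⟩, ?_⟩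
      rw [hfU, mul_assoc, mul_inv_cancel₀ hα, mul_one]
  have hL : (lowerUnipotentSL2 k).map f = Tg w ψ := by
    ext x
    constructor
    · rintro ⟨M, hM, rfl⟩
      obtain ⟨t, rfl⟩ := Cfsg.Agent.S5016.mem_lower.1 hM
      exact ⟨_, hfL t⟩
    · rintro ⟨c, rfl⟩
      refine ⟨Cfsg.Agent.S5016.Lm (c * (ψ ⬝ᵥ u)), Cfsg.Agent.S5016.mem_lower.2 ⟨_, rfl⟩, ?_⟩
      rw [hfL, mul_assoc, mul_inv_cancel₀ hβ, mul_one]
  constructor
  · have := rankOnePair_map f hinj (RankOnePair_symm (Cfsg.Agent.S5016.rankOnePair (k := k)))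
      Cfsg.Agent.S5016.upper_comm Cfsg.Agent.S5016.lower_comm
    rwa [hU, hL] at this
  · refine ⟨f, ?_, ?_, hU, hL⟩
    · rw [MonoidHom.range_eq_map, ← Cfsg.Agent.S5016.sup_eq_top (k := k), Subgroup.map_sup, hU, hL,
        sup_comm]
    · rw [(MonoidHom.ker_eq_bot_iff f).2 hinj]
      exact bot_le

end Cfsg.Agent.Lib.Helper8.Rs
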