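import Mathlib
import Cfsg.Agent.Lib.Helper8.Rs3

set_option autoImplicit false
set_option linter.unusedSimpArgs false

namespace Cfsg.Agent.Lib.Helper8.Rs

open Matrix Cfsg
open Cfsg.Agent.Lib.Helper5.TvGL Cfsg.Agent.Lib.Helper8.Tv Cfsg.Agent.Lib.Lead.SLPerm
open Cfsg.Agent.Lib.Helper4.RankOneGrp Cfsg.Agent.Lib.Helper4.RootSub
  Cfsg.Agent.Lib.Helper4.RootSub3
open scoped commutatorElement

variable {k : Type*} [Field k] {m : ℕ}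

theorem commCase_beta_zero {i0 i1 i2 : Fin m} (h01 : i0 ≠ i1) (h02 : i0 ≠ i2) (h12 : i1 ≠ i2)
    {u φ w ψ : Fin m → k} (hu : u ≠ 0) (hψ : ψ ≠ 0) (hφu : φ ⬝ᵥ u = 0) (hψw : ψ ⬝ᵥ w = 0)
    (hα : φ ⬝ᵥ w ≠ 0) (hβ : ψ ⬝ᵥ u = 0) :
    RootCommutatorCase (Sig (k := k) i0 i1) (Tg u φ) (Tg w ψ) := by
  apply rootCommCase_of (Sig i0 i1) (Tg u φ) (Tg w ψ) (Tg u ψ) (xel u φ) (xel w ψ) (xel u ψ)
    (φ ⬝ᵥ w) hα (fun _ => Iff.rfl) (fun _ => Iff.rfl) (fun _ => Iff.rfl) (xel_zero _ _)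
    (xel_zero _ _)
  · exact (mem_Sig_iff h01 h02 h12 _).2 ⟨u, ψ, hu, hψ, hβ, rfl⟩
  · intro c d
    rw [comm_xel_of_beta_zero hφu hψw hβ]
    congr 1
    ring
  · intro e c
    exact xel_comm hβ hφu hβ hφu e c
  · intro e d
    exact xel_comm hβ hψw hψw hβ e d

theorem commCase_alpha_zero {i0 i1 i2 : Fin m} (h01 : i0 ≠ i1) (h02 : i0 ≠ i2) (h12 : i1 ≠ i2)
    {u φ w ψ : Fin m → k} (hw : w ≠ 0) (hφ : φ ≠ 0) (hφu : φ ⬝ᵥ u = 0) (hψw : ψ ⬝ᵥ w = 0)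
    (hα : φ ⬝ᵥ w = 0) (hβ : ψ ⬝ᵥ u ≠ 0) :
    RootCommutatorCase (Sig (k := k) i0 i1) (Tg u φ) (Tg w ψ) := by
  apply rootCommCase_of (Sig i0 i1) (Tg u φ) (Tg w ψ) (Tg w φ) (xel u φ) (xel w ψ) (xel w φ)
    (-(ψ ⬝ᵥ u)) (neg_ne_zero.2 hβ) (fun _ => Iff.rfl) (fun _ => Iff.rfl) (fun _ => Iff.rfl)
    (xel_zero _ _) (xel_zero _ _)
  · exact (mem_Sig_iff h01 h02 h12 _).2 ⟨w, φ, hw, hφ, hα, rfl⟩
  · intro c d
    rw [comm_xel_of_alpha_zero hφu hψw hα]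
    congr 1
    ring
  · intro e c
    exact xel_comm hα hφu hφu hα e c
  · intro e d
    exact xel_comm hα hψw hα hψw e d

theorem comm_case {u φ w ψ : Fin m → k} (hφu : φ ⬝ᵥ u = 0) (hψw : ψ ⬝ᵥ w = 0)
    (hα : φ ⬝ᵥ w = 0) (hβ : ψ ⬝ᵥ u = 0) : ∀ a ∈ Tg u φ, ∀ b ∈ Tg w ψ, a * b = b * a := by
  rintro _ ⟨c, rfl⟩ _ ⟨d, rfl⟩
  exact xel_comm hφu hψw hα hβ c d

theorem pair_Tg {i0 i1 i2 : Fin m} (h01 : i0 ≠ i1) (h02 : i0 ≠ i2) (h12 : i1 ≠ i2)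
    {u φ w ψ : Fin m → k} (hu : u ≠ 0) (hφ : φ ≠ 0) (hφu : φ ⬝ᵥ u = 0) (hw : w ≠ 0) (hψ : ψ ≠ 0)
    (hψw : ψ ⬝ᵥ w = 0) :
    ⁅Tg u φ, Tg w ψ⁆ = ⊥ ∨ IsRankOnePair (Tg u φ) (Tg w ψ) ∨
      RootCommutatorCase (Sig (k := k) i0 i1) (Tg u φ) (Tg w ψ) := by
  by_cases hα : φ ⬝ᵥ w = 0
  · by_cases hβ : ψ ⬝ᵥ u = 0
    · left
      rw [commutator_eq_bot_iff']
      exact comm_case hφu hψw hα hβ
    · exact Or.inr (Or.inr (commCase_alpha_zero h01 h02 h12 hw hφ hφu hψw hα hβ))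
  · by_cases hβ : ψ ⬝ᵥ u = 0
    · exact Or.inr (Or.inr (commCase_beta_zero h01 h02 h12 hu hψ hφu hψw hα hβ))
    · exact Or.inr (Or.inl (rankOne_of hφu hψw hα hβ).1)

theorem transvection_eq_xel {i j : Fin m} (hij : i ≠ j) (c : k) :
    Matrix.SpecialLinearGroup.transvection hij c = xel (Pi.single i 1) (Pi.single j 1) c := by
  apply Subtype.ext
  rw [xel_coe (single_dot_single hij), ← transvection_eq]
  rfl

theorem mem_Sig_std {i0 i1 i2 : Fin m} (h01 : i0 ≠ i1) (h02 : i0 ≠ i2) (h12 : i1 ≠ i2)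
    {i j : Fin m} (hij : i ≠ j) :
    Tg (Pi.single i (1 : k)) (Pi.single j 1) ∈ Sig (k := k) i0 i1 :=
  (mem_Sig_iff h01 h02 h12 _).2 ⟨_, _, single_ne_zero i, single_ne_zero j, single_dot_single hij, rfl⟩

theorem rootSet_Sig {i0 i1 i2 : Fin m} (h01 : i0 ≠ i1) (h02 : i0 ≠ i2) (h12 : i1 ≠ i2) :
    IsRootSubgroupSet (Sig (k := k) i0 i1) where
  commutative := by
    intro A hA
    obtain ⟨u, φ, -, -, -, rfl⟩ := (mem_Sig_iff h01 h02 h12 A).1 hA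
    exact Cfsg.Agent.S5016.isMulComm_of _ (Tg_comm u φ)
  ne_bot := by
    intro A hA
    obtain ⟨u, φ, hu, hφ, h, rfl⟩ := (mem_Sig_iff h01 h02 h12 A).1 hA
    exact Tg_ne_bot hu hφ h
  generates := by
    rw [eq_top_iff]
    intro x _
    haveI : Nontrivial (Fin m) := ⟨⟨i0, i1, h01⟩⟩
    refine Cfsg.Agent.Lib.Helper4.transvection_induction_gen
      (fun x => x ∈ ⨆ A ∈ Sig (k := k) i0 i1, A) ?_ (fun A B hA hB => mul_mem hA hB) x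
    intro i j hij c
    rw [transvection_eq_xel hij]
    exact (le_iSup₂ (f := fun (A : Subgroup (Matrix.SpecialLinearGroup (Fin m) k))
      (_ : A ∈ Sig (k := k) i0 i1) => A) _ (mem_Sig_std h01 h02 h12 hij)) (xel_mem _ _ c)
  conj_mem := by
    rintro A ⟨g, rfl⟩ h
    exact ⟨h * g, conjBy_conjBy _ g h⟩
  pair := by
    intro A hA B hB
    obtain ⟨u, φ, hu, hφ, hφu, rfl⟩ := (mem_Sig_iff h01 h02 h12 A).1 hA
    obtain ⟨w, ψ, hw, hψ, hψw, rfl⟩ := (mem_Sig_iff h01 h02 h12 B).1 hB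
    exact pair_Tg h01 h02 h12 hu hφ hφu hw hψ hψw

theorem conjClass_Sig (i0 i1 : Fin m) : IsConjClassOfSubgroups (Sig (k := k) i0 i1) := by
  refine ⟨⟨_, 1, rfl⟩, ?_⟩
  rintro A ⟨g1, rfl⟩ B ⟨g2, rfl⟩
  refine ⟨g2 * g1⁻¹, ?_⟩
  rw [conjBy_conjBy, inv_mul_cancel_right]

theorem kRoot_Sig {i0 i1 i2 : Fin m} (h01 : i0 ≠ i1) (h02 : i0 ≠ i2) (h12 : i1 ≠ i2) :
    IsKRootSubgroupSet k (Sig (k := k) i0 i1) := by
  have hS := rootSet_Sig (k := k) h01 h02 h12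
  refine ⟨hS, ?_⟩
  intro A hA B hB hAB
  obtain ⟨u, φ, hu, hφ, hφu, rfl⟩ := (mem_Sig_iff h01 h02 h12 A).1 hA
  obtain ⟨w, ψ, hw, hψ, hψw, rfl⟩ := (mem_Sig_iff h01 h02 h12 B).1 hB
  by_cases hα : φ ⬝ᵥ w = 0
  · by_cases hβ : ψ ⬝ᵥ u = 0
    · exact (not_commute_of_pair hAB (comm_case hφu hψw hα hβ)).elim
    · exact (not_rankOne_of_commutator_mem hS hA hB
        (commCase_alpha_zero h01 h02 h12 hw hφ hφu hψw hα hβ).1 hAB).elim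
  · by_cases hβ : ψ ⬝ᵥ u = 0
    · exact (not_rankOne_of_commutator_mem hS hA hB
        (commCase_beta_zero h01 h02 h12 hu hψ hφu hψw hα hβ).1 hAB).elim
    · exact (rankOne_of hφu hψw hα hβ).2

theorem nondeg_Sig {i0 i1 i2 : Fin m} (h01 : i0 ≠ i1) (h02 : i0 ≠ i2) (h12 : i1 ≠ i2) :
    IsNondegenerateRootSet (Sig (k := k) i0 i1) := by
  refine ⟨?_, ?_, ?_⟩
  · refine ⟨_, mem_Sig_std h01 h02 h12 h01, _, mem_Sig_std h01 h02 h12 h02, ?_, ?_⟩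
    · intro h
      have h1 : xel (Pi.single i0 (1 : k)) (Pi.single i1 1) 1 ∈
          Tg (Pi.single i0 (1 : k)) (Pi.single i2 1) := h ▸ xel_mem _ _ 1
      obtain ⟨d, hd⟩ := h1
      have h2 := congrArg (fun t : Matrix.SpecialLinearGroup (Fin m) k =>
        (t : Matrix (Fin m) (Fin m) k) i0 i1) hd
      simp only [xel_coe (single_dot_single h01), xel_coe (single_dot_single h02),
        Matrix.add_apply, Matrix.smul_apply, vecMulVec_apply, Pi.single_eq_same,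
        Pi.single_eq_of_ne h12, Matrix.one_apply_ne h01, smul_eq_mul, mul_one, mul_zero,
        zero_add] at h2
      exact one_ne_zero h2
    · rw [commutator_eq_bot_iff']
      exact comm_case (single_dot_single h01) (single_dot_single h02) (single_dot_single h01)
        (single_dot_single h02)
  · refine ⟨_, mem_Sig_std h01 h02 h12 h01, _, mem_Sig_std h01 h02 h12 h01.symm, ?_⟩
    refine (rankOne_of (single_dot_single h01) (single_dot_single h01.symm) ?_ ?_).1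
    · rw [single_dot_self]; exact one_ne_zero
    · rw [single_dot_self]; exact one_ne_zero
  · refine ⟨_, mem_Sig_std h01 h02 h12 h01, _, mem_Sig_std h01 h02 h12 h12, ?_⟩
    refine commCase_beta_zero h01 h02 h12 (single_ne_zero i0) (single_ne_zero i2)
      (single_dot_single h01) (single_dot_single h12) ?_ (single_dot_single h02)
    rw [single_dot_self]; exact one_ne_zero

theorem exists_not_ker2 {φ ψ : Fin m → k} (hφ : φ ≠ 0) (hψ : ψ ≠ 0) :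
    ∃ x : Fin m → k, φ ⬝ᵥ x ≠ 0 ∧ ψ ⬝ᵥ x ≠ 0 := by
  obtain ⟨i, hi⟩ := Function.ne_iff.1 hφ
  obtain ⟨j, hj⟩ := Function.ne_iff.1 hψ
  have h1 : φ ⬝ᵥ Pi.single i 1 ≠ 0 := by rw [dotProduct_single, mul_one]; exact hi
  have h2 : ψ ⬝ᵥ Pi.single j 1 ≠ 0 := by rw [dotProduct_single, mul_one]; exact hj
  by_cases h3 : ψ ⬝ᵥ Pi.single i 1 = 0
  · by_cases h4 : φ ⬝ᵥ Pi.single j 1 = 0
    · refine ⟨Pi.single i 1 + Pi.single j 1, ?_, ?_⟩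
      · rw [dotProduct_add, h4, add_zero]; exact h1
      · rw [dotProduct_add, h3, zero_add]; exact h2
    · exact ⟨_, h4, h2⟩
  · exact ⟨_, h1, h3⟩

theorem exists_dual2 {x u w : Fin m → k} (hu : u ∉ Submodule.span k {x})
    (hw : w ∉ Submodule.span k {x}) :
    ∃ χ : Fin m → k, χ ⬝ᵥ x = 0 ∧ χ ⬝ᵥ u ≠ 0 ∧ χ ⬝ᵥ w ≠ 0 := by
  obtain ⟨χ1, h1, h1u⟩ := exists_dual _ u hu
  obtain ⟨χ2, h2, h2w⟩ := exists_dual _ w hw
  have hx := Submodule.mem_span_singleton_self (R := k) x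
  by_cases h3 : χ1 ⬝ᵥ w = 0
  · by_cases h4 : χ2 ⬝ᵥ u = 0
    · refine ⟨χ1 + χ2, ?_, ?_, ?_⟩
      · rw [add_dotProduct, h1 x hx, h2 x hx, add_zero]
      · rw [add_dotProduct, h1u, h4, add_zero]; exact one_ne_zero
      · rw [add_dotProduct, h3, h2w, zero_add]; exact one_ne_zero
    · exact ⟨χ2, h2 x hx, h4, by rw [h2w]; exact one_ne_zero⟩
  · exact ⟨χ1, h1 x hx, by rw [h1u]; exact one_ne_zero, h3⟩

theorem not_mem_span_of {φ x u : Fin m → k} (hu : u ≠ 0) (hφu : φ ⬝ᵥ u = 0) (hφx : φ ⬝ᵥ x ≠ 0) :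
    u ∉ Submodule.span k {x} := by
  intro h
  obtain ⟨c, rfl⟩ := Submodule.mem_span_singleton.1 h
  rw [dotProduct_smul, smul_eq_mul] at hφu
  rcases mul_eq_zero.1 hφu with h0 | h0
  · exact hu (by rw [h0, zero_smul])
  · exact hφx h0

theorem connected_Sig {i0 i1 i2 : Fin m} (h01 : i0 ≠ i1) (h02 : i0 ≠ i2) (h12 : i1 ≠ i2) :
    IsConnectedFamily (FAdj (Sig (k := k) i0 i1)) (Sig (k := k) i0 i1) := by
  intro A hA B hB
  obtain ⟨u, φ, hu, hφ, hφu, rfl⟩ := (mem_Sig_iff h01 h02 h12 A).1 hA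
  obtain ⟨w, ψ, hw, hψ, hψw, rfl⟩ := (mem_Sig_iff h01 h02 h12 B).1 hB
  obtain ⟨x, hφx, hψx⟩ := exists_not_ker2 hφ hψ
  obtain ⟨χ, hχx, hχu, hχw⟩ := exists_dual2 (not_mem_span_of hu hφu hφx)
    (not_mem_span_of hw hψw hψx)
  have hx : x ≠ 0 := fun h => hφx (by rw [h, dotProduct_zero])
  have hχ : χ ≠ 0 := fun h => hχu (by rw [h, zero_dotProduct])
  have hC : Tg x χ ∈ Sig (k := k) i0 i1 := (mem_Sig_iff h01 h02 h12 _).2 ⟨x, χ, hx, hχ, hχx, rfl⟩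
  exact Relation.ReflTransGen.head ⟨hA, hC, (rankOne_of hφu hχx hφx hχu).1⟩
    (Relation.ReflTransGen.single ⟨hC, hB, (rankOne_of hχx hψw hχw hψx).1⟩)

end Cfsg.Agent.Lib.Helper8.Rs
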