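import Mathlib

set_option autoImplicit false

universe u

namespace Cfsg.Agent.Lib.Helper8.S4079D

/-- A `p`-th root of the identity automorphism has, on every invariant subgroup, a number of fixed
points congruent to the order of the subgroup. -/
theorem fix_modEq {L : Type u} [Group L] [Finite L] {p : ℕ} [Fact p.Prime] (a : MulAut L)
    (ha : a ^ p = 1) (N : Subgroup L) (hN : ∀ x ∈ N, a x ∈ N) :
    Nat.card N ≡ Nat.card {x : N // a (x : L) = x} [MOD p] := by
  classical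
  haveI := Fintype.ofFinite ↥N
  let g : ↥N → ↥N := fun x => ⟨a x, hN x x.2⟩
  let f : Function.End ↥N := g
  have hfk : ∀ (k : ℕ) (x : ↥N), (((f ^ k) x : ↥N) : L) = (a ^ k) (x : L) := by
    intro k
    induction k with
    | zero => intro x; rfl
    | succ k ih =>
      intro x
      have e1 : (f ^ (k + 1)) x = (f ^ k) (f x) := by rw [pow_succ]; rfl
      rw [e1, ih, pow_succ, MulAut.mul_apply]
  have hf : f ^ p ^ 1 = 1 := by
    funext x
    apply Subtype.ext
    rw [pow_one, hfk, ha]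
    rfl
  have h := Equiv.Perm.card_fixedPoints_modEq (p := p) (n := 1) hf
  have e : Fintype.card ↥(Function.fixedPoints f) = Nat.card {x : N // a (x : L) = x} := by
    rw [← Nat.card_eq_fintype_card]
    apply Nat.card_congr
    refine Equiv.subtypeEquivRight (fun x => ?_)
    rw [Function.mem_fixedPoints, Function.IsFixedPt]
    constructor
    · intro h; exact congrArg Subtype.val h
    · intro h; exact Subtype.ext h
  rw [Nat.card_eq_fintype_card, ← e]; exact h

/-- The `p`-th power map `H → W` is onto. -/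
theorem pow_surj {L : Type u} [Group L] [Finite L] {p : ℕ} [Fact p.Prime] (W H : Subgroup L)
    (hW : ∀ x : L, x ∈ W ↔ x ^ p = 1) (hH : ∀ x : L, x ∈ H ↔ x ^ p ∈ W)
    (hWc : Nat.card W = p ^ 2) (hHc : Nat.card H = p ^ 4)
    (hpow : ∀ x ∈ H, ∀ y ∈ H, (x * y) ^ p = x ^ p * y ^ p) :
    ∀ w ∈ W, ∃ h ∈ H, h ^ p = w := by
  have hpp : p.Prime := Fact.out
  have hWH : W ≤ H := fun x hx => (hH x).2 (by rw [(hW x).1 hx]; exact W.one_mem)
  let φ : ↥H →* ↥W := MonoidHom.mk' (fun h => ⟨(h : L) ^ p, (hH h).1 h.2⟩) (by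
    intro x y; apply Subtype.ext; exact hpow x x.2 y y.2)
  have hker : φ.ker = W.subgroupOf H := by
    ext h
    rw [MonoidHom.mem_ker, Subgroup.mem_subgroupOf, hW]
    constructor
    · intro e; exact congrArg Subtype.val e
    · intro e; exact Subtype.ext e
  have hcardker : Nat.card φ.ker = p ^ 2 := by
    rw [hker, ← hWc]; exact Nat.card_congr (Subgroup.subgroupOfEquivOfLe hWH).toEquiv
  have hrange : Nat.card φ.range = p ^ 2 := by
    have h1 := Subgroup.card_eq_card_quotient_mul_card_subgroup φ.ker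
    have h2 : Nat.card (↥H ⧸ φ.ker) = Nat.card φ.range :=
      Nat.card_congr (QuotientGroup.quotientKerEquivRange φ).toEquiv
    rw [hHc, hcardker, h2] at h1
    have hpos : 0 < p ^ 2 := pow_pos hpp.pos 2
    have h3 : p ^ 2 * p ^ 2 = Nat.card φ.range * p ^ 2 := by rw [← h1]; ring
    exact (Nat.eq_of_mul_eq_mul_right hpos h3).symm
  have htop : φ.range = ⊤ := Subgroup.eq_top_of_card_eq _ (by rw [hrange, hWc])
  intro w hw
  have hmem : (⟨w, hw⟩ : ↥W) ∈ φ.range := by rw [htop]; trivial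
  obtain ⟨h, hh⟩ := hmem
  exact ⟨h, h.2, congrArg Subtype.val hh⟩

/-- `w ↦ w⁻¹ a(w)` maps `W` into the fixed points. -/
theorem delta_fixed {L : Type u} [Group L] [Finite L] {p : ℕ} [Fact p.Prime] (W : Subgroup L)
    (hWc : Nat.card W = p ^ 2) (hcomm : ∀ w ∈ W, ∀ w' ∈ W, w * w' = w' * w)
    (a : MulAut L) (ha : a ^ p = 1) (aW : ∀ x ∈ W, a x ∈ W)
    (hF : Nat.card {x : W // a (x : L) = x} = p) :
    ∀ w ∈ W, a (w⁻¹ * a w) = w⁻¹ * a w := by
  classical
  have hpp : p.Prime := Fact.out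
  let δ : ↥W →* L := MonoidHom.mk' (fun w => (w : L)⁻¹ * a (w : L)) (by
    intro w w'
    have c1 : a (w : L) * (w' : L)⁻¹ = (w' : L)⁻¹ * a (w : L) :=
      hcomm _ (aW _ w.2) _ (W.inv_mem w'.2)
    have c2 : (w' : L)⁻¹ * (w : L)⁻¹ = (w : L)⁻¹ * (w' : L)⁻¹ :=
      hcomm _ (W.inv_mem w'.2) _ (W.inv_mem w.2)
    show ((w : L) * (w' : L))⁻¹ * a ((w : L) * (w' : L)) = (w : L)⁻¹ * a (w : L) * ((w' : L)⁻¹ * a (w' : L))
    calc ((w : L) * (w' : L))⁻¹ * a ((w : L) * (w' : L))
        = (w' : L)⁻¹ * (w : L)⁻¹ * (a (w : L) * a (w' : L)) := by rw [mul_inv_rev, map_mul]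
      _ = (w : L)⁻¹ * (w' : L)⁻¹ * (a (w : L) * a (w' : L)) := by rw [c2]
      _ = (w : L)⁻¹ * ((w' : L)⁻¹ * a (w : L)) * a (w' : L) := by simp only [mul_assoc]
      _ = (w : L)⁻¹ * (a (w : L) * (w' : L)⁻¹) * a (w' : L) := by rw [c1]
      _ = (w : L)⁻¹ * a (w : L) * ((w' : L)⁻¹ * a (w' : L)) := by simp only [mul_assoc])
  have hδ : ∀ w : ↥W, δ w = (w : L)⁻¹ * a (w : L) := fun _ => rfl
  set D : Subgroup L := δ.range with hD
  have hkercard : Nat.card δ.ker = p := by
    rw [← hF]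
    apply Nat.card_congr
    refine Equiv.subtypeEquivRight (fun w => ?_)
    rw [MonoidHom.mem_ker, hδ]
    constructor
    · intro e; exact (inv_mul_eq_one.mp e).symm
    · intro e; rw [e, inv_mul_cancel]
  have hDcard : Nat.card D = p := by
    have h1 := Subgroup.card_eq_card_quotient_mul_card_subgroup δ.ker
    have h2 : Nat.card (↥W ⧸ δ.ker) = Nat.card δ.range :=
      Nat.card_congr (QuotientGroup.quotientKerEquivRange δ).toEquiv
    rw [hWc, hkercard, h2] at h1
    have h3 : p * p = Nat.card δ.range * p := by rw [← h1]; ring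
    exact (Nat.eq_of_mul_eq_mul_right hpp.pos h3).symm
  have aD : ∀ d ∈ D, a d ∈ D := by
    rintro _ ⟨w, rfl⟩
    refine ⟨⟨a (w : L), aW _ w.2⟩, ?_⟩
    rw [hδ, hδ, map_mul, map_inv]
  have hmod := fix_modEq a ha D aD
  rw [hDcard] at hmod
  have hdvd : p ∣ Nat.card {x : D // a (x : L) = x} :=
    Nat.modEq_zero_iff_dvd.mp (hmod.symm.trans (Nat.modEq_zero_iff_dvd.mpr dvd_rfl))
  have hall : ∀ x : D, a (x : L) = x := by
    by_contra hne
    push Not at hne
    obtain ⟨x, hx⟩ := hne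
    haveI := Fintype.ofFinite ↥D
    have hlt := Fintype.card_subtype_lt (p := fun x : D => a (x : L) = x) hx
    rw [← Nat.card_eq_fintype_card, ← Nat.card_eq_fintype_card, hDcard] at hlt
    have hpos : 0 < Nat.card {x : D // a (x : L) = x} := by
      haveI : Nonempty {x : D // a (x : L) = x} := ⟨⟨1, by simp⟩⟩
      exact Nat.card_pos
    exact absurd (Nat.le_of_dvd hpos hdvd) (not_le.mpr hlt)
  intro w hw
  exact hall ⟨_, ⟨⟨w, hw⟩, rfl⟩⟩

/-- PIECE D -/
theorem compute {L : Type u} [Group L] [Finite L] {p : ℕ} [Fact p.Prime]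
    (hp : p ≠ 2) (hL : IsPGroup p L) (W H : Subgroup L)
    (hW : ∀ x : L, x ∈ W ↔ x ^ p = 1) (hH : ∀ x : L, x ∈ H ↔ x ^ p ∈ W)
    (hWc : Nat.card W = p ^ 2) (hHc : Nat.card H = p ^ 4)
    (hcen : ∀ w ∈ W, ∀ h ∈ H, w * h = h * w)
    (hpow : ∀ x ∈ H, ∀ y ∈ H, (x * y) ^ p = x ^ p * y ^ p)
    (a : MulAut L) (ha : a ^ p = 1) (x₀ : L) (hx₀ : x₀ ^ p = 1) (hmove : a x₀ ≠ x₀) :
    p = 3 ∧ Nat.card {l : L // a l = l} = 3 := by
  classical
  have hpp : p.Prime := Fact.out
  have hWH : W ≤ H := fun x hx => (hH x).2 (by rw [(hW x).1 hx]; exact W.one_mem)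
  have aW : ∀ x ∈ W, a x ∈ W := fun x hx =>
    (hW _).2 (by rw [← map_pow, (hW x).1 hx, map_one])
  have aH : ∀ x ∈ H, a x ∈ H := fun x hx =>
    (hH _).2 (by rw [← map_pow]; exact aW _ ((hH x).1 hx))
  have hWcomm : ∀ w ∈ W, ∀ w' ∈ W, w * w' = w' * w := fun w hw w' hw' =>
    hcen w hw w' (hWH hw')
  have hsurj := pow_surj W H hW hH hWc hHc hpow
  -- the fixed points
  let Φ : Subgroup L :=
    { carrier := {l | a l = l}
      mul_mem' := fun {x y} hx hy => by
        show a (x * y) = x * y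
        rw [map_mul, (show a x = x from hx), (show a y = y from hy)]
      one_mem' := map_one a
      inv_mem' := fun {x} hx => by
        show a x⁻¹ = x⁻¹
        rw [map_inv, (show a x = x from hx)] }
  have hΦ : ∀ l : L, l ∈ Φ ↔ a l = l := fun _ => Iff.rfl
  set F : Subgroup L := W ⊓ Φ with hFdef
  have hFW : F ≤ W := inf_le_left
  have hFmem : ∀ l : L, l ∈ F ↔ l ∈ W ∧ a l = l := fun l => by
    rw [hFdef, Subgroup.mem_inf, hΦ]
  have eF : Nat.card {x : W // a (x : L) = x} = Nat.card F := by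
    apply Nat.card_congr
    exact { toFun := fun x => ⟨x.1.1, (hFmem _).2 ⟨x.1.2, x.2⟩⟩
            invFun := fun y => ⟨⟨y.1, ((hFmem _).1 y.2).1⟩, ((hFmem _).1 y.2).2⟩
            left_inv := fun _ => rfl
            right_inv := fun _ => rfl }
  have hmodF : p ∣ Nat.card F := by
    have h := fix_modEq a ha W aW
    rw [hWc, eF] at h
    have h2 : p ∣ p ^ 2 := dvd_pow_self p two_ne_zero
    exact Nat.modEq_zero_iff_dvd.mp (h.symm.trans (Nat.modEq_zero_iff_dvd.mpr h2))
  have hFne : F ≠ W := by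
    intro e
    have h1 : x₀ ∈ F := by rw [e]; exact (hW x₀).2 hx₀
    exact hmove ((hFmem _).1 h1).2
  have hFcard : Nat.card F = p := by
    have hdvd : Nat.card F ∣ p ^ 2 := by rw [← hWc]; exact Subgroup.card_dvd_of_le hFW
    obtain ⟨k, hk2, hk⟩ := (Nat.dvd_prime_pow hpp).1 hdvd
    interval_cases k
    · rw [hk, pow_zero] at hmodF
      exact absurd (Nat.dvd_one.mp hmodF) hpp.one_lt.ne'
    · rw [hk, pow_one]
    · exfalso; apply hFne
      exact Subgroup.eq_of_le_of_card_ge hFW (by rw [hk, hWc])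
  have hδ := delta_fixed W hWc hWcomm a ha aW (by rw [eF, hFcard])
  -- step 2
  have hex : ∃ y ∈ H, y⁻¹ * a y ∉ W := by
    by_contra hcon
    push Not at hcon
    obtain ⟨y, hyH, hy⟩ := hsurj x₀ ((hW x₀).2 hx₀)
    apply hmove
    have hv := hcon y hyH
    have e1 : a y = y * (y⁻¹ * a y) := by group
    rw [← hy, map_pow, e1, hpow y hyH _ (hWH hv), (hW _).1 hv, mul_one]
  obtain ⟨y, hyH, hxW⟩ := hex
  set x : L := y⁻¹ * a y with hx
  have hxH : x ∈ H := H.mul_mem (H.inv_mem hyH) (aH y hyH)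
  set t : L := x ^ p with ht
  have htW : t ∈ W := (hH x).1 hxH
  have ht1 : t ≠ 1 := fun e => hxW ((hW x).2 e)
  have hypW : y ^ p ∈ W := (hH y).1 hyH
  have ht_eq : t = (y ^ p)⁻¹ * a (y ^ p) := by
    rw [ht, hx, hpow _ (H.inv_mem hyH) _ (aH y hyH), inv_pow, map_pow]
  have hat : a t = t := by rw [ht_eq]; exact hδ _ hypW
  set w₁ : L := x⁻¹ * a x with hw₁
  have hw₁H : w₁ ∈ H := H.mul_mem (H.inv_mem hxH) (aH x hxH)
  have hw₁W : w₁ ∈ W := by
    rw [hW, hw₁, hpow _ (H.inv_mem hxH) _ (aH x hxH), inv_pow, ← map_pow, ← ht, hat, inv_mul_cancel]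
  set t' : L := w₁⁻¹ * a w₁ with ht'
  have ht'W : t' ∈ W := W.mul_mem (W.inv_mem hw₁W) (aW _ hw₁W)
  have hat' : a t' = t' := hδ _ hw₁W
  have hay : a y = y * x := by rw [hx]; group
  have hax : a x = x * w₁ := by rw [hw₁]; group
  have haw : a w₁ = w₁ * t' := by rw [ht']; group
  have hxw : Commute x w₁ := (hcen w₁ hw₁W x hxH).symm
  have hwt : Commute w₁ t' := hWcomm _ hw₁W _ ht'W
  have hform : ∀ k : ℕ, (a ^ k) y = y * x ^ k * w₁ ^ (k.choose 2) * t' ^ (k.choose 3) := by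
    intro k
    induction k with
    | zero => simp
    | succ k ih =>
      rw [pow_succ', MulAut.mul_apply, ih, map_mul, map_mul, map_mul, map_pow, map_pow, map_pow,
        hay, hax, haw, hat', hxw.mul_pow, hwt.mul_pow,
        show (k + 1).choose 2 = k + k.choose 2 by rw [Nat.choose_succ_succ' k 1, Nat.choose_one_right],
        show (k + 1).choose 3 = k.choose 2 + k.choose 3 from Nat.choose_succ_succ' k 2,
        pow_succ', pow_add, pow_add]
      simp only [mul_assoc]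
  have hw₁p : w₁ ^ p = 1 := (hW _).1 hw₁W
  have ht'p : t' ^ p = 1 := (hW _).1 ht'W
  have hmain : t * w₁ ^ (p.choose 2) * t' ^ (p.choose 3) = 1 := by
    have h1 := hform p
    rw [ha, MulAut.one_apply] at h1
    have h2 : y * (x ^ p * w₁ ^ (p.choose 2) * t' ^ (p.choose 3)) = y * 1 := by
      rw [mul_one]; simp only [← mul_assoc]; exact h1.symm
    exact mul_left_cancel h2
  have hp3 : 3 ≤ p := by
    have := hpp.two_le
    omega
  have hc2 : w₁ ^ (p.choose 2) = 1 := by
    obtain ⟨c, hc⟩ := hpp.dvd_choose_self (k := 2) (by norm_num) (by omega)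
    rw [hc, pow_mul, hw₁p, one_pow]
  rw [hc2, mul_one] at hmain
  have hp_eq : p = 3 := by
    by_contra hne
    have hc3 : t' ^ (p.choose 3) = 1 := by
      obtain ⟨c, hc⟩ := hpp.dvd_choose_self (k := 3) (by norm_num) (by omega)
      rw [hc, pow_mul, ht'p, one_pow]
    rw [hc3, mul_one] at hmain
    exact ht1 hmain
  subst hp_eq
  refine ⟨rfl, ?_⟩
  have htt' : t * t' = 1 := by
    have : (3 : ℕ).choose 3 = 1 := by decide
    rw [this, pow_one] at hmain
    exact hmain
  have ht'1 : t' ≠ 1 := by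
    intro e
    rw [e, mul_one] at htt'
    exact ht1 htt'
  have hot' : orderOf t' = 3 := orderOf_eq_prime ht'p ht'1
  have htF : t ∈ F := (hFmem _).2 ⟨htW, hat⟩
  -- step 5
  have hstep5 : ∀ h ∈ H, a h = h → h ∈ F := by
    intro h hhH hah
    have hsW : h ^ 3 ∈ W := (hH h).1 hhH
    have hsF : h ^ 3 ∈ F := (hFmem _).2 ⟨hsW, by rw [map_pow, hah]⟩
    -- F is generated by t
    haveI : Fact (Nat.Prime 3) := ⟨by norm_num⟩
    have hgen : Subgroup.zpowers (⟨t, htF⟩ : ↥F) = ⊤ :=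
      zpowers_eq_top_of_prime_card hFcard (by
        intro e; exact ht1 (congrArg Subtype.val e))
    have hmem : (⟨h ^ 3, hsF⟩ : ↥F) ∈ Subgroup.zpowers (⟨t, htF⟩ : ↥F) := by
      rw [hgen]; trivial
    rw [← mem_powers_iff_mem_zpowers, Submonoid.mem_powers_iff] at hmem
    obtain ⟨n, hn⟩ := hmem
    have hn' : t ^ n = h ^ 3 := by
      have := congrArg Subtype.val hn
      simpa using this
    have ht3 : t ^ 3 = 1 := (hW _).1 htW
    set m : ℕ := 2 * n with hm
    have hxmH : x ^ m ∈ H := H.pow_mem hxH m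
    set w : L := h * x ^ m with hw
    have hxm3 : (x ^ m) ^ 3 = t ^ m := by
      rw [ht, ← pow_mul, ← pow_mul, mul_comm]
    have hwW : w ∈ W := by
      rw [hW, hw, hpow h hhH _ hxmH, hxm3, ← hn', ← pow_add, hm,
        show n + 2 * n = 3 * n by ring, pow_mul, ht3, one_pow]
    have haw' : a w = w * w₁ ^ m := by
      rw [hw, map_mul, map_pow, hah, hax, hxw.mul_pow, mul_assoc]
    have hfix : a (w₁ ^ m) = w₁ ^ m := by
      have := hδ w hwW
      rw [haw', inv_mul_cancel_left] at this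
      exact this
    have ht'm : t' ^ m = 1 := by
      rw [map_pow, haw, hwt.mul_pow] at hfix
      exact mul_left_cancel (a := w₁ ^ m) (by rw [hfix, mul_one])
    have h3m : 3 ∣ m := by
      rw [← hot']; exact orderOf_dvd_of_pow_eq_one ht'm
    have h3n : 3 ∣ n := by
      rw [hm] at h3m
      exact (Nat.Coprime.dvd_mul_left (by norm_num : Nat.Coprime 3 2)).mp h3m
    obtain ⟨c, hc⟩ := h3n
    have hh3 : h ^ 3 = 1 := by rw [← hn', hc, pow_mul, ht3, one_pow]
    exact (hFmem _).2 ⟨(hW h).2 hh3, hah⟩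
  -- step 6
  have hstep6 : ∀ k : ℕ, ∀ g : L, a g = g → g ^ (3 ^ k) = 1 → g ^ 3 = 1 := by
    intro k
    induction k with
    | zero => intro g _ hg; rw [pow_zero, pow_one] at hg; rw [hg, one_pow]
    | succ k ih =>
      intro g hag hg
      have h1 : (g ^ 3) ^ 3 = 1 := by
        apply ih (g ^ 3) (by rw [map_pow, hag])
        rw [← pow_mul, ← pow_succ']; exact hg
      have h2 : g ^ 3 ∈ W := (hW _).2 h1
      have h3 : g ∈ H := (hH g).2 h2
      have h4 : g ∈ F := hstep5 g h3 hag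
      exact (hW g).1 (hFW h4)
  have hfinal : ∀ g : L, a g = g ↔ g ∈ F := by
    intro g
    constructor
    · intro hag
      obtain ⟨k, hk⟩ := hL g
      have h1 := hstep6 k g hag hk
      exact (hFmem _).2 ⟨(hW g).2 h1, hag⟩
    · intro hg; exact ((hFmem _).1 hg).2
  rw [← hFcard]
  apply Nat.card_congr
  exact Equiv.subtypeEquivRight hfinal

end Cfsg.Agent.Lib.Helper8.S4079D
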