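import Mathlib

set_option autoImplicit false

namespace Cfsg.Agent.Lib.Helper8.S4S3

/-- index of the pairing of `Fin 4` containing the pair `{a, b}` -/
def pairIdx (a b : Fin 4) : Fin 3 :=
  if (a = 0 ∧ b = 1) ∨ (a = 1 ∧ b = 0) ∨ (a = 2 ∧ b = 3) ∨ (a = 3 ∧ b = 2) then 0
  else if (a = 0 ∧ b = 2) ∨ (a = 2 ∧ b = 0) ∨ (a = 1 ∧ b = 3) ∨ (a = 3 ∧ b = 1) then 1
  else 2

/-- the action of a permutation of four points on the three pairings -/
def rhoFun (σ : Equiv.Perm (Fin 4)) (i : Fin 3) : Fin 3 := pairIdx (σ 0) (σ i.succ)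

theorem rhoFun_inv : ∀ σ : Equiv.Perm (Fin 4), ∀ i : Fin 3, rhoFun σ⁻¹ (rhoFun σ i) = i := by
  decide

theorem rhoFun_mul : ∀ σ τ : Equiv.Perm (Fin 4), ∀ i : Fin 3,
    rhoFun (σ * τ) i = rhoFun σ (rhoFun τ i) := by decide

/-- the homomorphism of `S₄` onto `S₃` -/
def rho : Equiv.Perm (Fin 4) →* Equiv.Perm (Fin 3) where
  toFun σ :=
    { toFun := rhoFun σ
      invFun := rhoFun σ⁻¹
      left_inv := rhoFun_inv σ
      right_inv := fun i => by
        have := rhoFun_inv σ⁻¹ i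
        rwa [inv_inv] at this }
  map_one' := by
    apply Equiv.ext
    intro i
    show rhoFun 1 i = i
    revert i
    decide
  map_mul' σ τ := by
    apply Equiv.ext
    intro i
    exact rhoFun_mul σ τ i

theorem rho_apply (σ : Equiv.Perm (Fin 4)) (i : Fin 3) : rho σ i = rhoFun σ i := rfl

theorem rho_eq_one_iff (σ : Equiv.Perm (Fin 4)) : rho σ = 1 ↔ ∀ i, rhoFun σ i = i := by
  constructor
  · intro h i
    rw [← rho_apply, h]; rfl
  · intro h
    apply Equiv.ext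
    intro i
    rw [rho_apply, h]; rfl

theorem rho_surjective : Function.Surjective rho := by
  have key : ∀ τ : Equiv.Perm (Fin 3), ∃ σ : Equiv.Perm (Fin 4), ∀ i, rhoFun σ i = τ i := by
    decide
  intro τ
  obtain ⟨σ, hσ⟩ := key τ
  exact ⟨σ, Equiv.ext hσ⟩

theorem sq_eq_one_of_rho : ∀ σ : Equiv.Perm (Fin 4), rho σ = 1 → σ * σ = 1 := by
  have key : ∀ σ : Equiv.Perm (Fin 4), (∀ i, rhoFun σ i = i) → σ * σ = 1 := by decide
  intro σ h
  exact key σ ((rho_eq_one_iff σ).1 h)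

theorem rho_eq_one_of_commute : ∀ τ : Equiv.Perm (Fin 4),
    (∀ σ : Equiv.Perm (Fin 4), rho σ = 1 → τ * σ = σ * τ) → rho τ = 1 := by
  have key : ∀ τ : Equiv.Perm (Fin 4),
      (∀ σ : Equiv.Perm (Fin 4), (∀ i, rhoFun σ i = i) → τ * σ = σ * τ) → ∀ i, rhoFun τ i = i := by
    decide
  intro τ h
  rw [rho_eq_one_iff]
  apply key
  intro σ hσ
  exact h σ ((rho_eq_one_iff σ).2 hσ)

theorem isPGroup_ker : IsPGroup 2 rho.ker := by
  intro g
  refine ⟨1, ?_⟩
  apply Subtype.ext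
  have := sq_eq_one_of_rho g.1 (MonoidHom.mem_ker.1 g.2)
  rw [pow_one, pow_two]
  exact this

end Cfsg.Agent.Lib.Helper8.S4S3
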