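import Mathlib
import Cfsg.Prelude
import Cfsg.Agent.Lib.Helper2.Involves
import Cfsg.Agent.Lib.Helper8.S4S3

set_option autoImplicit false

namespace Cfsg.Agent.Lib.Helper8.S4Loc

open Cfsg.Agent.Lib.Helper2.Inv Cfsg.Agent.Lib.Helper8.S4S3

universe u v w

/-- A surjection from a subgroup `L` of `M` killing `L ∩ C` gives a section of `M ⧸ C`. -/
theorem involves_quotient_of_surjective {M : Type u} [Group M] {S : Type v} [Group S]
    (C : Subgroup M) [C.Normal] (L : Subgroup M) (ψ : L →* S) (hψ : Function.Surjective ψ)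
    (hker : ∀ l : L, (l : M) ∈ C → ψ l = 1) : Cfsg.Involves S (M ⧸ C) := by
  let π := QuotientGroup.mk' C
  let f : L →* L.map π := π.subgroupMap L
  have hf : Function.Surjective f := MonoidHom.subgroupMap_surjective π L
  have hk : f.ker ≤ ψ.ker := by
    intro l hl
    rw [MonoidHom.mem_ker] at hl ⊢
    apply hker
    have h1 := congrArg Subtype.val hl
    have h2 : π (l : M) = 1 := h1
    rwa [QuotientGroup.mk'_apply, QuotientGroup.eq_one_iff] at h2
  let ψ' : L.map π →* S := f.liftOfSurjective hf ⟨ψ, hk⟩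
  have hψ' : ∀ l, ψ' (f l) = ψ l := fun l =>
    MonoidHom.liftOfRightInverse_comp_apply f _ (Function.rightInverse_surjInv hf) ⟨ψ, hk⟩ l
  refine involves_of_surjective (L.map π) ψ' (fun s => ?_)
  obtain ⟨l, rfl⟩ := hψ s
  exact ⟨f l, hψ' l⟩

/-- If `S₄` is involved in `G`, some `2`-subgroup `T` has `S₃` involved in `N(T)/C(T)`. -/
theorem exists_two_subgroup_of_involves {G : Type u} [Group G] [Finite G]
    (h : Cfsg.Involves (Equiv.Perm (Fin 4)) G) :
    ∃ T : Subgroup G, IsPGroup 2 ↥T ∧ Cfsg.Involves (Equiv.Perm (Fin 3))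
      (↥(Subgroup.normalizer (T : Set G)) ⧸
        (Subgroup.centralizer (T : Set G)).subgroupOf (Subgroup.normalizer (T : Set G))) := by
  obtain ⟨H, φ, hφ⟩ := exists_surjective_of_involves h
  haveI : Fact (Nat.Prime 2) := ⟨Nat.prime_two⟩
  set VH : Subgroup H := rho.ker.comap φ with hVH
  have hVHmem : ∀ v : H, v ∈ VH ↔ rho (φ v) = 1 := fun v => by
    rw [hVH, Subgroup.mem_comap, MonoidHom.mem_ker]
  obtain P : Sylow 2 VH := default
  set TH : Subgroup H := (P : Subgroup VH).map VH.subtype with hTH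
  have hfr : Subgroup.normalizer (TH : Set H) ⊔ VH = ⊤ := Sylow.normalizer_sup_eq_top P
  -- `φ(TH) = ker ρ`
  have himg : ∀ σ : Equiv.Perm (Fin 4), rho σ = 1 → ∃ t ∈ TH, φ t = σ := by
    intro σ hσ
    let f : VH →* rho.ker := φ.subgroupComap rho.ker
    have hf : Function.Surjective f := MonoidHom.subgroupComap_surjective_of_surjective φ _ hφ
    have htop : ((P.mapSurjective hf : Sylow 2 rho.ker) : Subgroup rho.ker) = ⊤ :=
      ((P.mapSurjective hf).is_maximal' (Q := ⊤) (isPGroup_ker.to_subgroup ⊤) le_top).symm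
    have hmem : (⟨σ, hσ⟩ : rho.ker) ∈ (P : Subgroup VH).map f := by
      rw [← Sylow.coe_mapSurjective hf, htop]; trivial
    obtain ⟨t, ht, hft⟩ := hmem
    refine ⟨(t : H), ⟨t, ht, rfl⟩, ?_⟩
    exact congrArg Subtype.val hft
  set T : Subgroup G := TH.map H.subtype with hT
  have hTmem : ∀ t : H, t ∈ TH → (t : G) ∈ T := fun t ht => ⟨t, ht, rfl⟩
  have hT2 : IsPGroup 2 ↥T := (P.isPGroup'.map VH.subtype).map H.subtype
  refine ⟨T, hT2, ?_⟩
  set M : Subgroup G := Subgroup.normalizer (T : Set G) with hM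
  set L : Subgroup M := (M ⊓ H).subgroupOf M with hL
  let ι : L →* H :=
    { toFun := fun l => ⟨((l : M) : G), (Subgroup.mem_subgroupOf.1 l.2).2⟩
      map_one' := rfl
      map_mul' := fun a b => rfl }
  have hι : ∀ l : L, ((ι l : H) : G) = ((l : M) : G) := fun l => rfl
  refine involves_quotient_of_surjective _ L ((rho.comp φ).comp ι) ?_ ?_
  · intro s
    obtain ⟨σ, rfl⟩ := rho_surjective s
    obtain ⟨h, rfl⟩ := hφ σ
    have h1 : h ∈ ((Subgroup.normalizer (TH : Set H) ⊔ VH : Subgroup H) : Set H) := by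
      rw [hfr]; trivial
    rw [Subgroup.mul_normal] at h1
    obtain ⟨n, hn, v, hv, rfl⟩ := Set.mem_mul.1 h1
    have hnN : (n : G) ∈ M := by
      rw [hM]
      apply Subgroup.mem_normalizer_fintype
      rintro _ ⟨t, ht, rfl⟩
      have h2 : n * t * n⁻¹ ∈ TH := (Subgroup.mem_normalizer_iff.1 hn t).1 ht
      exact ⟨n * t * n⁻¹, h2, rfl⟩
    have hl : (⟨(n : G), hnN⟩ : M) ∈ L := by
      rw [hL, Subgroup.mem_subgroupOf]
      exact ⟨hnN, n.2⟩
    refine ⟨⟨⟨(n : G), hnN⟩, hl⟩, ?_⟩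
    have h3 : ι ⟨⟨(n : G), hnN⟩, hl⟩ = n := Subtype.ext rfl
    have h4 : rho (φ v) = 1 := (hVHmem v).1 hv
    show rho (φ (ι ⟨⟨(n : G), hnN⟩, hl⟩)) = rho (φ (n * v))
    rw [h3, map_mul, map_mul, h4, mul_one]
  · intro l hl
    show rho (φ (ι l)) = 1
    apply rho_eq_one_of_commute
    intro σ hσ
    obtain ⟨t, ht, rfl⟩ := himg σ hσ
    rw [← map_mul, ← map_mul]
    congr 1
    apply Subtype.ext
    rw [Subgroup.mem_subgroupOf] at hl
    have h5 := (Subgroup.mem_centralizer_iff.1 hl) (t : G) (hTmem t ht)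
    show ((ι l : H) : G) * (t : G) = (t : G) * ((ι l : H) : G)
    rw [hι]
    exact h5.symm

end Cfsg.Agent.Lib.Helper8.S4Loc
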