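import Mathlib
import Cfsg.Agent.Lib.Helper6.UniGL4
import Cfsg.Agent.Lib.Helper6.Constituent

/-! S4538/S2440, unit Z1e: existence of an irreducible character of `SL_n(F)` of `p`-defect zero
(the Steinberg character). -/

set_option autoImplicit false
set_option linter.unusedSectionVars false
set_option linter.unusedVariables false
set_option linter.style.longLine false
set_option linter.style.haveILetI false

namespace Cfsg.Agent.Lib.Helper8.SLE

open Cfsg Cfsg.Agent.Lib.Helper6 Cfsg.Agent.Lib.Helper6.UniGL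
open Cfsg.Agent.Lib.Helper6.ParabolicIndex Cfsg.Agent.Lib.Helper6.UnipotentDegree
open scoped MatrixGroups

variable {F : Type*} [Field F] [Fintype F]

/-- the exponent of `p` in the order of `SL_n(F)` -/
theorem factorization_card_SL (p : ℕ) [Fact p.Prime] [CharP F p] (n : ℕ) (hn : 1 ≤ n) :
    p ^ (Nat.card (Matrix.SpecialLinearGroup (Fin n) F)).factorization p =
      Fintype.card F ^ tri n := by
  classical
  have hp : p.Prime := Fact.out
  obtain ⟨f, _, hqf⟩ := FiniteField.card F p
  have hf : 1 ≤ (f : ℕ) := f.pos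
  have h2 := Cfsg.Agent.Lib.Helper4.card_SL_mul (F := F) n (by omega)
  have h3 := card_GL_eq (F := F) (n := n)
  rw [← h2] at h3
  have h4 : ∏ i : Fin n, Fintype.card F ^ (n - 1 - i.val) * (Fintype.card F - 1) =
      Fintype.card F ^ tri n * (Fintype.card F - 1) ^ n := by
    rw [Finset.prod_mul_distrib, Finset.prod_const, Finset.card_univ, Fintype.card_fin,
      Finset.prod_pow_eq_pow_sum, sum_fin_rev]
  rw [h4, hqf] at h3
  have hsl : Nat.card (Matrix.SpecialLinearGroup (Fin n) F) ≠ 0 := Nat.card_pos.ne'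
  have hq1 : p ^ (f : ℕ) - 1 ≠ 0 := by
    have : 2 ≤ p ^ (f : ℕ) := by
      calc 2 ≤ p := hp.two_le
        _ = p ^ 1 := (pow_one p).symm
        _ ≤ p ^ (f : ℕ) := Nat.pow_le_pow_right hp.pos hf
    omega
  have hprod : ∏ j ∈ Finset.range n, qint (p ^ (f : ℕ)) (j + 1) ≠ 0 := by
    rw [Finset.prod_ne_zero_iff]
    intro j _
    exact (qint_succ_pos _ j).ne'
  have hprod' : ¬ p ∣ ∏ j ∈ Finset.range n, qint (p ^ (f : ℕ)) (j + 1) := by
    rw [Prime.dvd_finsetProd_iff hp.prime]
    rintro ⟨j, _, hj⟩
    exact not_dvd_qint p f hp hf j hj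
  have h5 := congrArg (fun m : ℕ => m.factorization p) h3
  beta_reduce at h5
  rw [Nat.factorization_mul hsl hq1,
    Nat.factorization_mul (mul_ne_zero (pow_ne_zero _ (pow_ne_zero _ hp.ne_zero))
      (pow_ne_zero _ hq1)) hprod,
    Nat.factorization_mul (pow_ne_zero _ (pow_ne_zero _ hp.ne_zero)) (pow_ne_zero _ hq1)] at h5
  simp only [Finsupp.add_apply] at h5
  rw [Nat.factorization_eq_zero_of_not_dvd (not_dvd_pred p f hp hf),
    Nat.factorization_eq_zero_of_not_dvd hprod', Nat.factorization_pow,
    Nat.factorization_pow, Nat.factorization_pow] at h5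
  simp only [Finsupp.smul_apply, smul_eq_mul, hp.factorization_self, mul_one,
    Nat.factorization_eq_zero_of_not_dvd (not_dvd_pred p f hp hf), mul_zero, add_zero] at h5
  rw [h5, hqf, ← pow_mul, mul_comm]

/-- **Z1e**: existence of a defect-zero irreducible character of `SL_n(F)`. -/
theorem z1e_exists {n : ℕ} (p : ℕ) [Fact p.Prime] [CharP F p] (hn : 2 ≤ n) :
    ∃ θ : IrrCharacter (Matrix.SpecialLinearGroup (Fin n) F),
      (charDegree θ.1).factorization p =
        (Nat.card (Matrix.SpecialLinearGroup (Fin n) F)).factorization p := by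
  classical
  have hp : p.Prime := Fact.out
  have hsum : ∑ i : Fin n, (fun _ : Fin n => 1) i = n := by simp
  let χS : IrrCharacter (Matrix.SpecialLinearGroup (Fin n) F) :=
    ⟨unipotentSL (F := F) (fun _ => 1), isIrrCharacter_unipotentSL _ monotone_const hsum⟩
  refine ⟨χS, ?_⟩
  have h1 : (χS : Matrix.SpecialLinearGroup (Fin n) F → ℂ) 1 =
      ((Fintype.card F : ℕ) : ℂ) ^ tri n := by
    show unipotentCharacterGL n F (fun _ => 1) (Matrix.SpecialLinearGroup.toGL 1) = _
    rw [map_one]
    exact steinberg_degree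
  have h2 := IsCharacter.apply_one_eq_charDegree (IsIrrCharacter.isCharacter χS.2)
  rw [h1] at h2
  have h3 : Fintype.card F ^ tri n = charDegree χS.1 := by exact_mod_cast h2
  rw [← h3, ← factorization_card_SL p n (by omega), Nat.factorization_pow]
  simp [hp.factorization_self]

end Cfsg.Agent.Lib.Helper8.SLE
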