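import Mathlib
import Cfsg.Prelude.Def_Blocks
import Cfsg.Agent.S0914
import Cfsg.Agent.Lib.Helper6.BlkCover3
import Cfsg.Agent.Lib.Helper6.BlkIdem
import Cfsg.Agent.Lib.Helper6.Multiplicity
import Cfsg.Agent.Lib.Helper6.Constituent

/-! S4538/S2440 glue: blocks of defect zero correspond to irreducible characters whose degree has
the full `p`-part; if there is exactly one such character there is exactly one such block. -/

set_option autoImplicit false
set_option linter.unusedSectionVars false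
set_option linter.unusedVariables false
set_option linter.style.longLine false
set_option linter.style.haveILetI false

namespace Cfsg.Agent.Lib.Helper8.SLF

open Cfsg Cfsg.Agent.Lib.Helper6

variable {G : Type*} [Group G] [Finite G]

/-- a character of full `p`-part degree is alone in its block -/
theorem blockOf_eq_singleton (p : ℕ) [Fact p.Prime] (M : Ideal Cfsg.AlgInt)
    (hM : Cfsg.IsPModular p M) (θ : Cfsg.IrrCharacter G)
    (hθ : (Cfsg.charDegree (θ : G → ℂ)).factorization p = (Nat.card G).factorization p) :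
    Cfsg.blockOf M (θ : G → ℂ) = {θ} := by
  classical
  haveI : Fintype G := Fintype.ofFinite G
  have hp : p.Prime := Fact.out
  apply (Cfsg.Agent.S0914.result p M hM θ).mp
  have hdvd : Cfsg.charDegree (θ : G → ℂ) ∣ Nat.card G := IsIrrCharacter.charDegree_dvd_card θ.2
  have hpos : 0 < Cfsg.charDegree (θ : G → ℂ) := IsIrrCharacter.charDegree_pos θ.2
  have hGpos : 0 < Nat.card G := Nat.card_pos
  have hq : Nat.card G / Cfsg.charDegree (θ : G → ℂ) ≠ 0 :=
    (Nat.div_pos (Nat.le_of_dvd hGpos hdvd) hpos).ne'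
  have hfac : (Nat.card G / Cfsg.charDegree (θ : G → ℂ)).factorization p = 0 := by
    rw [Nat.factorization_div hdvd, Finsupp.tsub_apply, hθ, Nat.sub_self]
  intro hdiv
  have := hp.factorization_pos_of_dvd hq hdiv
  omega

theorem blockDefect_singleton (p : ℕ) (θ : Cfsg.IrrCharacter G)
    (hθ : (Cfsg.charDegree (θ : G → ℂ)).factorization p = (Nat.card G).factorization p) :
    Cfsg.blockDefect p ({θ} : Set (Cfsg.IrrCharacter G)) = 0 := by
  unfold Cfsg.blockDefect
  rw [Set.image_singleton, csInf_singleton, hθ, Nat.sub_self]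

/-- a block of defect zero is the singleton of a character of full `p`-part degree -/
theorem exists_of_blockDefect_zero (p : ℕ) [Fact p.Prime] (M : Ideal Cfsg.AlgInt)
    (hM : Cfsg.IsPModular p M) (B : Set (Cfsg.IrrCharacter G)) (hB : Cfsg.IsPBlock M B)
    (h0 : Cfsg.blockDefect p B = 0) :
    ∃ θ : Cfsg.IrrCharacter G,
      (Cfsg.charDegree (θ : G → ℂ)).factorization p = (Nat.card G).factorization p ∧ B = {θ} := by
  classical
  haveI : Fintype G := Fintype.ofFinite G
  obtain ⟨χ0, rfl⟩ := hB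
  have hχ0 : χ0 ∈ Cfsg.blockOf M (χ0 : G → ℂ) := sameBlock_refl hM _
  have hne : ((fun χ : Cfsg.IrrCharacter G =>
      (Cfsg.charDegree (χ : G → ℂ)).factorization p) '' Cfsg.blockOf M (χ0 : G → ℂ)).Nonempty :=
    ⟨_, χ0, hχ0, rfl⟩
  obtain ⟨θ, hθB, hθ⟩ := Nat.sInf_mem hne
  unfold Cfsg.blockDefect at h0
  rw [← hθ] at h0
  simp only at h0 hθ
  have hdvd : Cfsg.charDegree (θ : G → ℂ) ∣ Nat.card G := IsIrrCharacter.charDegree_dvd_card θ.2
  have hpos : 0 < Cfsg.charDegree (θ : G → ℂ) := IsIrrCharacter.charDegree_pos θ.2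
  have hGpos : 0 < Nat.card G := Nat.card_pos
  have hle : (Cfsg.charDegree (θ : G → ℂ)).factorization p ≤ (Nat.card G).factorization p :=
    (Nat.factorization_le_iff_dvd hpos.ne' hGpos.ne').mpr hdvd p
  have hDZ : (Cfsg.charDegree (θ : G → ℂ)).factorization p = (Nat.card G).factorization p := by
    omega
  refine ⟨θ, hDZ, ?_⟩
  rw [blockOf_eq_of_mem hM hθB]
  exact blockOf_eq_singleton p M hM θ hDZ

/-- **glue**: exactly one character of full `p`-part degree ⇒ exactly one block of defect zero -/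
theorem card_defect_zero_blocks (p : ℕ) [Fact p.Prime] (M : Ideal Cfsg.AlgInt)
    (hM : Cfsg.IsPModular p M)
    (hu : ∀ θ1 θ2 : Cfsg.IrrCharacter G,
      (Cfsg.charDegree (θ1 : G → ℂ)).factorization p = (Nat.card G).factorization p →
      (Cfsg.charDegree (θ2 : G → ℂ)).factorization p = (Nat.card G).factorization p → θ1 = θ2)
    (he : ∃ θ : Cfsg.IrrCharacter G,
      (Cfsg.charDegree (θ : G → ℂ)).factorization p = (Nat.card G).factorization p) :
    Nat.card {B : Set (Cfsg.IrrCharacter G) // Cfsg.IsPBlock M B ∧ Cfsg.blockDefect p B = 0} = 1 := by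
  classical
  rw [Nat.card_eq_one_iff_unique]
  obtain ⟨θ0, hθ0⟩ := he
  refine ⟨⟨?_⟩, ⟨⟨{θ0}, ⟨θ0, (blockOf_eq_singleton p M hM θ0 hθ0).symm⟩,
    blockDefect_singleton p θ0 hθ0⟩⟩⟩
  rintro ⟨B1, hB1, h1⟩ ⟨B2, hB2, h2⟩
  apply Subtype.ext
  obtain ⟨θ1, hθ1, rfl⟩ := exists_of_blockDefect_zero p M hM B1 hB1 h1
  obtain ⟨θ2, hθ2, rfl⟩ := exists_of_blockDefect_zero p M hM B2 hB2 h2
  show ({θ1} : Set (Cfsg.IrrCharacter G)) = {θ2}
  rw [hu θ1 θ2 hθ1 hθ2]

end Cfsg.Agent.Lib.Helper8.SLF
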