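import Mathlib
import Cfsg.Prelude.Def_Solvable

/-! S4538/S2440, unit Z2 (part 1): fixed space of a subgroup of `SL_n(F)`, its stabilizer and the
"unipotent radical" `R` of the stabilizer. -/

set_option autoImplicit false
set_option linter.unusedSectionVars false
set_option linter.unusedVariables false
set_option linter.style.longLine false

namespace Cfsg.Agent.Lib.Helper8.SLZ

open Matrix

variable {F : Type*} [Field F] {n : ℕ}

theorem mul_mulVec (g h : Matrix.SpecialLinearGroup (Fin n) F) (v : Fin n → F) :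
    (g * h).1 *ᵥ v = g.1 *ᵥ (h.1 *ᵥ v) := by
  rw [Matrix.SpecialLinearGroup.coe_mul, Matrix.mulVec_mulVec]

theorem one_mulVec' (v : Fin n → F) :
    (1 : Matrix.SpecialLinearGroup (Fin n) F).1 *ᵥ v = v := by
  rw [Matrix.SpecialLinearGroup.coe_one, Matrix.one_mulVec]

theorem inv_mulVec (g : Matrix.SpecialLinearGroup (Fin n) F) (v : Fin n → F) :
    (g⁻¹).1 *ᵥ (g.1 *ᵥ v) = v := by
  rw [← mul_mulVec, inv_mul_cancel, one_mulVec']

theorem mulVec_inv (g : Matrix.SpecialLinearGroup (Fin n) F) (v : Fin n → F) :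
    g.1 *ᵥ ((g⁻¹).1 *ᵥ v) = v := by
  rw [← mul_mulVec, mul_inv_cancel, one_mulVec']

/-- the space of vectors fixed by every element of `D` -/
def fixedSpace (D : Subgroup (Matrix.SpecialLinearGroup (Fin n) F)) :
    Submodule F (Fin n → F) where
  carrier := {v | ∀ d ∈ D, d.1 *ᵥ v = v}
  add_mem' := by
    intro a b ha hb d hd
    rw [Matrix.mulVec_add, ha d hd, hb d hd]
  zero_mem' := by
    intro d hd
    exact Matrix.mulVec_zero _
  smul_mem' := by
    intro c v hv d hd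
    rw [Matrix.mulVec_smul, hv d hd]

theorem mem_fixedSpace (D : Subgroup (Matrix.SpecialLinearGroup (Fin n) F)) (v : Fin n → F) :
    v ∈ fixedSpace D ↔ ∀ d ∈ D, d.1 *ᵥ v = v := Iff.rfl

/-- the stabilizer of a subspace -/
def stab (W : Submodule F (Fin n → F)) : Subgroup (Matrix.SpecialLinearGroup (Fin n) F) where
  carrier := {g | ∀ v, g.1 *ᵥ v ∈ W ↔ v ∈ W}
  mul_mem' := by
    intro a b ha hb v
    rw [mul_mulVec, ha, hb]
  one_mem' := by
    intro v
    rw [one_mulVec']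
  inv_mem' := by
    intro g hg v
    have := hg ((g⁻¹).1 *ᵥ v)
    rw [mulVec_inv] at this
    exact this.symm

theorem mem_stab (W : Submodule F (Fin n → F)) (g : Matrix.SpecialLinearGroup (Fin n) F) :
    g ∈ stab W ↔ ∀ v, g.1 *ᵥ v ∈ W ↔ v ∈ W := Iff.rfl

/-- elements acting trivially on `W` and on `V/W` -/
def radW (W : Submodule F (Fin n → F)) : Subgroup (Matrix.SpecialLinearGroup (Fin n) F) where
  carrier := {g | (∀ v, g.1 *ᵥ v - v ∈ W) ∧ ∀ w ∈ W, g.1 *ᵥ w = w}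
  mul_mem' := by
    rintro a b ⟨ha1, ha2⟩ ⟨hb1, hb2⟩
    refine ⟨fun v => ?_, fun w hw => ?_⟩
    · rw [mul_mulVec]
      have : a.1 *ᵥ (b.1 *ᵥ v) - v = (a.1 *ᵥ (b.1 *ᵥ v) - b.1 *ᵥ v) + (b.1 *ᵥ v - v) := by abel
      rw [this]
      exact W.add_mem (ha1 _) (hb1 _)
    · rw [mul_mulVec, hb2 w hw, ha2 w hw]
  one_mem' := by
    refine ⟨fun v => ?_, fun w _ => one_mulVec' w⟩
    rw [one_mulVec', sub_self]
    exact W.zero_mem
  inv_mem' := by
    rintro g ⟨h1, h2⟩
    refine ⟨fun v => ?_, fun w hw => ?_⟩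
    · have := h1 ((g⁻¹).1 *ᵥ v)
      rw [mulVec_inv] at this
      have h3 : (g⁻¹).1 *ᵥ v - v = -(v - (g⁻¹).1 *ᵥ v) := by abel
      rw [h3]
      exact W.neg_mem this
    · have := h2 w hw
      conv_lhs => rw [← this]
      exact inv_mulVec g w

theorem mem_radW (W : Submodule F (Fin n → F)) (g : Matrix.SpecialLinearGroup (Fin n) F) :
    g ∈ radW W ↔ (∀ v, g.1 *ᵥ v - v ∈ W) ∧ ∀ w ∈ W, g.1 *ᵥ w = w := Iff.rfl

theorem le_stab_fixedSpace (D : Subgroup (Matrix.SpecialLinearGroup (Fin n) F)) :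
    D ≤ stab (fixedSpace D) := by
  intro d hd v
  constructor
  · intro h
    have h1 : (d⁻¹).1 *ᵥ (d.1 *ᵥ v) = d.1 *ᵥ v := h d⁻¹ (D.inv_mem hd)
    rw [inv_mulVec] at h1
    rw [h1]
    exact h
  · intro h
    rw [h d hd]
    exact h

theorem centralizer_le_stab_fixedSpace (D : Subgroup (Matrix.SpecialLinearGroup (Fin n) F)) :
    Subgroup.centralizer (D : Set (Matrix.SpecialLinearGroup (Fin n) F)) ≤ stab (fixedSpace D) := by
  have key : ∀ c ∈ Subgroup.centralizer (D : Set (Matrix.SpecialLinearGroup (Fin n) F)),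
      ∀ v ∈ fixedSpace D, c.1 *ᵥ v ∈ fixedSpace D := by
    intro c hc v hv d hd
    have hcd : d * c = c * d := hc d hd
    rw [← mul_mulVec, hcd, mul_mulVec, hv d hd]
  intro c hc v
  constructor
  · intro h
    have := key c⁻¹ (Subgroup.inv_mem _ hc) _ h
    rwa [inv_mulVec] at this
  · exact key c hc v

theorem stab_le_normalizer_radW (W : Submodule F (Fin n → F)) :
    stab W ≤ Subgroup.normalizer ((radW W : Subgroup (Matrix.SpecialLinearGroup (Fin n) F)) : Set _) := by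
  have key : ∀ h ∈ stab W, ∀ g ∈ radW W, h * g * h⁻¹ ∈ radW W := by
    rintro h hh g ⟨g1, g2⟩
    refine ⟨fun v => ?_, fun w hw => ?_⟩
    · rw [mul_mulVec, mul_mulVec]
      have e : h.1 *ᵥ (g.1 *ᵥ ((h⁻¹).1 *ᵥ v)) - v
          = h.1 *ᵥ (g.1 *ᵥ ((h⁻¹).1 *ᵥ v) - (h⁻¹).1 *ᵥ v) := by
        rw [Matrix.mulVec_sub, mulVec_inv]
      rw [e]
      exact (hh _).mpr (g1 _)
    · rw [mul_mulVec, mul_mulVec]
      have hw' : (h⁻¹).1 *ᵥ w ∈ W := by
        have := (hh ((h⁻¹).1 *ᵥ w))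
        rw [mulVec_inv] at this
        exact this.mp hw
      rw [g2 _ hw', mulVec_inv]
  intro h hh
  rw [Subgroup.mem_normalizer_iff]
  intro g
  constructor
  · exact key h hh g
  · intro hg
    have := key h⁻¹ (Subgroup.inv_mem _ hh) _ hg
    simpa [mul_assoc] using this

end Cfsg.Agent.Lib.Helper8.SLZ
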