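import Mathlib
import Cfsg.Agent.Lib.Helper8.SLZ1

/-! S4538/S2440, unit Z2 (part 2): `radW W` is a `p`-group; transvections; an element
centralizing `radW W` is a scalar modulo a square-zero matrix. -/

set_option autoImplicit false
set_option linter.unusedSectionVars false
set_option linter.unusedVariables false
set_option linter.style.longLine false

namespace Cfsg.Agent.Lib.Helper8.SLZ

open Matrix

variable {F : Type*} [Field F] {n : ℕ}

theorem matrix_eq_zero_of_mulVec (M : Matrix (Fin n) (Fin n) F) (h : ∀ v, M *ᵥ v = 0) : M = 0 := by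
  ext i j
  have := congrFun (h (Pi.single j 1)) i
  rw [Matrix.mulVec_single_one] at this
  simpa using this

/-- the coordinate vector of a linear functional -/
def coordVec (f : (Fin n → F) →ₗ[F] F) : Fin n → F := fun i => f (Pi.single i 1)

theorem coordVec_dot (f : (Fin n → F) →ₗ[F] F) (v : Fin n → F) : coordVec f ⬝ᵥ v = f v := by
  rw [LinearMap.pi_apply_eq_sum_univ f v]
  unfold coordVec dotProduct
  apply Finset.sum_congr rfl
  intro i _
  rw [smul_eq_mul, mul_comm]
  congr 1
  show f (Pi.single i 1) = f fun j => if i = j then 1 else 0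
  congr 1
  funext j
  simp [Pi.single_apply, eq_comm]

/-- the transvection `1 + w φᵀ` as an element of `SL_n`, for `φ ⬝ w = 0` -/
def transv (w φ : Fin n → F) (h : φ ⬝ᵥ w = 0) : Matrix.SpecialLinearGroup (Fin n) F :=
  ⟨1 + vecMulVec w φ, by
    rw [Matrix.vecMulVec_eq (Fin 1), Matrix.det_one_add_replicateCol_mul_replicateRow, h, add_zero]⟩

theorem transv_val (w φ : Fin n → F) (h : φ ⬝ᵥ w = 0) : (transv w φ h).1 = 1 + vecMulVec w φ := rfl

theorem transv_mulVec (w φ : Fin n → F) (h : φ ⬝ᵥ w = 0) (v : Fin n → F) :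
    (transv w φ h).1 *ᵥ v = v + (φ ⬝ᵥ v) • w := by
  rw [transv_val, Matrix.add_mulVec, Matrix.one_mulVec, Matrix.vecMulVec_mulVec]
  congr 1
  ext i
  simp [mul_comm]

theorem transv_mem_radW (W : Submodule F (Fin n → F)) (w φ : Fin n → F) (hw : w ∈ W)
    (hφ : ∀ w' ∈ W, φ ⬝ᵥ w' = 0) : transv w φ (hφ w hw) ∈ radW W := by
  refine ⟨fun v => ?_, fun w' hw' => ?_⟩
  · rw [transv_mulVec, add_sub_cancel_left]
    exact W.smul_mem _ hw
  · rw [transv_mulVec, hφ w' hw', zero_smul, add_zero]

end Cfsg.Agent.Lib.Helper8.SLZ
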