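import Mathlib
import Cfsg.Agent.Lib.Helper8.SLZ2

/-! S4538/S2440, unit Z2 (part 3): an element centralizing `radW W` (for `0 < W < V`) whose
order is prime to the characteristic is central. -/

set_option autoImplicit false
set_option linter.unusedSectionVars false
set_option linter.unusedVariables false
set_option linter.style.longLine false
set_option linter.style.haveILetI false

namespace Cfsg.Agent.Lib.Helper8.SLZ

open Matrix

variable {F : Type*} [Field F] {n : ℕ}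

/-- **Lemma S**: an element commuting with `radW W` acts as one scalar on `W` and on `V/W`. -/
theorem exists_scalar_of_centralizes (W : Submodule F (Fin n → F)) (hbot : W ≠ ⊥) (htop : W ≠ ⊤)
    (x : Matrix.SpecialLinearGroup (Fin n) F)
    (hx : ∀ g ∈ radW W, g * x = x * g) :
    ∃ c : F, (∀ v, x.1 *ᵥ v - c • v ∈ W) ∧ ∀ w ∈ W, x.1 *ᵥ w = c • w := by
  classical
  -- commutation with a transvection, applied to a vector
  have comm : ∀ (w φ : Fin n → F) (hw : w ∈ W) (hφ : ∀ w' ∈ W, φ ⬝ᵥ w' = 0) (v : Fin n → F),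
      (φ ⬝ᵥ (x.1 *ᵥ v)) • w = (φ ⬝ᵥ v) • (x.1 *ᵥ w) := by
    intro w φ hw hφ v
    have h1 := hx _ (transv_mem_radW W w φ hw hφ)
    have h2 : (transv w φ (hφ w hw) * x).1 *ᵥ v = (x * transv w φ (hφ w hw)).1 *ᵥ v := by rw [h1]
    rw [mul_mulVec, mul_mulVec, transv_mulVec, transv_mulVec, Matrix.mulVec_add,
      Matrix.mulVec_smul] at h2
    exact add_left_cancel h2
  obtain ⟨f0, hf0, hWf0⟩ := Submodule.exists_le_ker_of_lt_top W (lt_top_iff_ne_top.mpr htop)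
  obtain ⟨v1, hv1⟩ : ∃ v, f0 v ≠ 0 := by
    by_contra hcon
    push Not at hcon
    exact hf0 (LinearMap.ext hcon)
  obtain ⟨v0, hv0⟩ : ∃ v0, coordVec f0 ⬝ᵥ v0 = 1 := by
    refine ⟨(f0 v1)⁻¹ • v1, ?_⟩
    rw [coordVec_dot, map_smul, smul_eq_mul, inv_mul_cancel₀ hv1]
  have hφ0 : ∀ w' ∈ W, coordVec f0 ⬝ᵥ w' = 0 := by
    intro w' hw'
    rw [coordVec_dot]
    exact hWf0 hw'
  obtain ⟨c, hc⟩ : ∃ c : F, c = coordVec f0 ⬝ᵥ (x.1 *ᵥ v0) := ⟨_, rfl⟩
  have hW : ∀ w ∈ W, x.1 *ᵥ w = c • w := by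
    intro w hw
    have := comm w (coordVec f0) hw hφ0 v0
    rw [hv0, one_smul, ← hc] at this
    exact this.symm
  refine ⟨c, fun v => ?_, hW⟩
  by_contra hnot
  obtain ⟨f, hfv, hWf⟩ := Submodule.exists_le_ker_of_notMem hnot
  have hφ : ∀ w' ∈ W, coordVec f ⬝ᵥ w' = 0 := by
    intro w' hw'
    rw [coordVec_dot]
    exact hWf hw'
  obtain ⟨w0, hw0W, hw0⟩ := (Submodule.ne_bot_iff W).mp hbot
  have h1 := comm w0 (coordVec f) hw0W hφ v
  rw [hW w0 hw0W, smul_smul] at h1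
  have h2 : (coordVec f ⬝ᵥ (x.1 *ᵥ v) - coordVec f ⬝ᵥ v * c) • w0 = 0 := by
    rw [sub_smul, h1, sub_self]
  rcases smul_eq_zero.mp h2 with h3 | h3
  · apply hfv
    rw [map_sub, map_smul, ← coordVec_dot, ← coordVec_dot f v, smul_eq_mul, mul_comm c]
    exact h3
  · exact hw0 h3

/-- square-zero part: `(x - c)^2 = 0` -/
theorem sq_zero_of_scalar (W : Submodule F (Fin n → F)) (x : Matrix (Fin n) (Fin n) F) (c : F)
    (h1 : ∀ v, x *ᵥ v - c • v ∈ W) (h2 : ∀ w ∈ W, x *ᵥ w = c • w) :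
    (x - c • (1 : Matrix (Fin n) (Fin n) F)) * (x - c • (1 : Matrix (Fin n) (Fin n) F)) = 0 := by
  apply matrix_eq_zero_of_mulVec
  intro v
  have e : ∀ u, (x - c • (1 : Matrix (Fin n) (Fin n) F)) *ᵥ u = x *ᵥ u - c • u := by
    intro u
    rw [Matrix.sub_mulVec, Matrix.smul_mulVec, Matrix.one_mulVec]
  rw [← Matrix.mulVec_mulVec, e v, e, h2 _ (h1 v), sub_self]

/-- in characteristic `p`, a matrix `c + N` with `N^2 = 0` has `p`-th power `c^p` -/
theorem pow_char_of_sq_zero (p : ℕ) [Fact p.Prime] [CharP F p] [NeZero n]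
    (x : Matrix (Fin n) (Fin n) F) (c : F)
    (h : (x - c • (1 : Matrix (Fin n) (Fin n) F)) * (x - c • (1 : Matrix (Fin n) (Fin n) F)) = 0) :
    x ^ p = (c ^ p) • (1 : Matrix (Fin n) (Fin n) F) := by
  have hp : p.Prime := Fact.out
  haveI : Nonempty (Fin n) := ⟨⟨0, Nat.pos_of_ne_zero (NeZero.ne n)⟩⟩
  haveI : CharP (Matrix (Fin n) (Fin n) F) p := Matrix.charP p
  obtain ⟨N, hN⟩ : ∃ N, N = x - c • (1 : Matrix (Fin n) (Fin n) F) := ⟨_, rfl⟩
  have hx : x = c • (1 : Matrix (Fin n) (Fin n) F) + N := by rw [hN]; abel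
  have hcomm : Commute (c • (1 : Matrix (Fin n) (Fin n) F)) N := by
    unfold Commute SemiconjBy
    rw [Matrix.smul_mul, Matrix.one_mul, Matrix.mul_smul, Matrix.mul_one]
  have hNp : N ^ p = 0 := by
    obtain ⟨k, hk⟩ : ∃ k, p = 2 + k := ⟨p - 2, by have := hp.two_le; omega⟩
    have hNN : N * N = 0 := by rw [hN]; exact h
    rw [hk, pow_add, pow_two, hNN, zero_mul]
  rw [hx, add_pow_char_of_commute _ hcomm, hNp, add_zero, smul_pow, one_pow]

end Cfsg.Agent.Lib.Helper8.SLZ
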