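import Mathlib
import Cfsg.Agent.Lib.Helper8.SLZ3
import Cfsg.Agent.Lib.Helper3.M24A1

/-! S4538/S2440, unit Z2: in `SL_n(F)`, `char F = p`, a `p`-regular element centralizing a
non-trivial radical `p`-subgroup is central. -/

set_option autoImplicit false
set_option linter.unusedSectionVars false
set_option linter.unusedVariables false
set_option linter.style.longLine false
set_option linter.style.haveILetI false

namespace Cfsg.Agent.Lib.Helper8.SLZ

open Matrix

variable {F : Type*} [Field F] {n : ℕ}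

theorem radW_isPGroup (p : ℕ) [Fact p.Prime] [CharP F p] (W : Submodule F (Fin n → F)) :
    IsPGroup p (radW W) := by
  intro g
  refine ⟨1, ?_⟩
  rw [pow_one]
  rcases Nat.eq_zero_or_pos n with hn | hn
  · subst hn
    apply Subtype.ext
    exact Subsingleton.elim _ _
  · haveI : NeZero n := ⟨hn.ne'⟩
    obtain ⟨h1, h2⟩ := g.2
    have hsq := sq_zero_of_scalar W (g.1.1) 1 (fun v => by rw [one_smul]; exact h1 v)
      (fun w hw => by rw [one_smul]; exact h2 w hw)
    have hpow := pow_char_of_sq_zero p g.1.1 1 hsq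
    rw [one_pow, one_smul] at hpow
    apply Subtype.ext
    apply Subtype.ext
    rw [Subgroup.coe_pow, Matrix.SpecialLinearGroup.coe_pow, hpow]
    rfl

theorem fixedSpace_ne_bot (p : ℕ) [Fact p.Prime] [CharP F p] [Finite F] (hn : 0 < n)
    (D : Subgroup (Matrix.SpecialLinearGroup (Fin n) F)) (hD : IsPGroup p D) :
    fixedSpace D ≠ ⊥ := by
  classical
  haveI : Fintype F := Fintype.ofFinite F
  letI act : MulAction D (Fin n → F) :=
    { smul := fun d v => d.1.1 *ᵥ v
      one_smul := fun v => one_mulVec' v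
      mul_smul := fun a b v => mul_mulVec a.1 b.1 v }
  have hsmul : ∀ (d : D) (v : Fin n → F), d • v = d.1.1 *ᵥ v := fun _ _ => rfl
  have h0 : (0 : Fin n → F) ∈ MulAction.fixedPoints D (Fin n → F) := by
    intro d
    rw [hsmul, Matrix.mulVec_zero]
  have hp : p ∣ Nat.card (Fin n → F) := by
    rw [Nat.card_fun, Nat.card_eq_fintype_card, Nat.card_eq_fintype_card, Fintype.card_fin]
    obtain ⟨k, _, hk⟩ := FiniteField.card F p
    rw [hk]
    apply dvd_pow _ hn.ne'
    exact dvd_pow_self p k.ne_zero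
  obtain ⟨b, hb, hb0⟩ := hD.exists_fixed_point_of_prime_dvd_card_of_fixed_point (Fin n → F) hp h0
  intro hbot
  have hbW : b ∈ fixedSpace D := by
    intro d hd
    exact hb ⟨d, hd⟩
  rw [hbot, Submodule.mem_bot] at hbW
  exact hb0 hbW.symm

theorem fixedSpace_ne_top (D : Subgroup (Matrix.SpecialLinearGroup (Fin n) F)) (hD : D ≠ ⊥) :
    fixedSpace D ≠ ⊤ := by
  intro htop
  apply hD
  rw [Subgroup.eq_bot_iff_forall]
  intro d hd
  apply Subtype.ext
  rw [Matrix.SpecialLinearGroup.coe_one]
  have h : ∀ v, (d.1 - 1) *ᵥ v = 0 := by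
    intro v
    have hv : v ∈ fixedSpace D := by rw [htop]; exact Submodule.mem_top
    rw [Matrix.sub_mulVec, Matrix.one_mulVec, hv d hd, sub_self]
  exact sub_eq_zero.mp (matrix_eq_zero_of_mulVec _ h)

/-- an element of `p'`-order centralizing `radW W` is central -/
theorem mem_center_of_centralizes (p : ℕ) [Fact p.Prime] [CharP F p]
    (W : Submodule F (Fin n → F)) (hbot : W ≠ ⊥) (htop : W ≠ ⊤)
    (x : Matrix.SpecialLinearGroup (Fin n) F)
    (hx : x ∈ Subgroup.centralizer ((radW W : Subgroup _) : Set (Matrix.SpecialLinearGroup (Fin n) F)))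
    (hxp : ¬ p ∣ orderOf x) : x ∈ Subgroup.center (Matrix.SpecialLinearGroup (Fin n) F) := by
  have hp : p.Prime := Fact.out
  rcases Nat.eq_zero_or_pos n with hn | hn
  · subst hn
    rw [Subsingleton.elim x 1]
    exact Subgroup.one_mem _
  haveI : NeZero n := ⟨hn.ne'⟩
  obtain ⟨c, h1, h2⟩ := exists_scalar_of_centralizes W hbot htop x (fun g hg => hx g hg)
  have hsq := sq_zero_of_scalar W x.1 c h1 h2
  have hpow := pow_char_of_sq_zero p x.1 c hsq
  have hcen : x ^ p ∈ Subgroup.center (Matrix.SpecialLinearGroup (Fin n) F) := by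
    rw [Subgroup.mem_center_iff]
    intro g
    apply Subtype.ext
    rw [Matrix.SpecialLinearGroup.coe_mul, Matrix.SpecialLinearGroup.coe_mul,
      Matrix.SpecialLinearGroup.coe_pow, hpow, Matrix.mul_smul, Matrix.mul_one,
      Matrix.smul_mul, Matrix.one_mul]
  have hcop : p.Coprime (orderOf x) := (Nat.Prime.coprime_iff_not_dvd hp).mpr hxp
  obtain ⟨m, hm⟩ := exists_pow_eq_self_of_coprime hcop
  rw [← hm]
  exact Subgroup.pow_mem _ hcen m

/-- **Z2**: in `SL_n(F)`, `char F = p`, a `p`-regular element centralizing a non-trivial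
radical `p`-subgroup is central. -/
theorem z2_central (p : ℕ) [Fact p.Prime] [CharP F p] [Finite F]
    (D : Subgroup (Matrix.SpecialLinearGroup (Fin n) F)) (hDbot : D ≠ ⊥) (hD : IsPGroup p D)
    (hrad : (Cfsg.pCore p (Subgroup.normalizer (D : Set (Matrix.SpecialLinearGroup (Fin n) F)))).map
      (Subgroup.normalizer (D : Set (Matrix.SpecialLinearGroup (Fin n) F))).subtype = D)
    (x : Matrix.SpecialLinearGroup (Fin n) F)
    (hxD : x ∈ Subgroup.centralizer (D : Set (Matrix.SpecialLinearGroup (Fin n) F)))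
    (hxp : ¬ p ∣ orderOf x) :
    x ∈ Subgroup.center (Matrix.SpecialLinearGroup (Fin n) F) := by
  classical
  have hp : p.Prime := Fact.out
  haveI : Fintype F := Fintype.ofFinite F
  haveI : Finite (Matrix.SpecialLinearGroup (Fin n) F) := by
    unfold Matrix.SpecialLinearGroup
    infer_instance
  rcases Nat.eq_zero_or_pos n with hn | hn
  · subst hn
    rw [Subsingleton.elim x 1]
    exact Subgroup.one_mem _
  have hbot := fixedSpace_ne_bot p hn D hD
  have htop := fixedSpace_ne_top D hDbot
  have hcop : (orderOf x).Coprime p :=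
    Nat.coprime_comm.mp ((Nat.Prime.coprime_iff_not_dvd hp).mpr hxp)
  have hcent := Cfsg.Agent.Lib.Helper3.M24A.rad_centralizes p D (stab (fixedSpace D))
    (radW (fixedSpace D)) hD hrad (le_stab_fixedSpace D) (centralizer_le_stab_fixedSpace D)
    (radW_isPGroup p (fixedSpace D)) (stab_le_normalizer_radW (fixedSpace D)) x hxD hcop
  exact mem_center_of_centralizes p (fixedSpace D) hbot htop x hcent hxp

end Cfsg.Agent.Lib.Helper8.SLZ
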