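import Mathlib
import Cfsg.Agent.Lib.Helper8.SLZ4
import Cfsg.Agent.S0906
import Cfsg.Agent.S0908
import Cfsg.Agent.S0955
import Cfsg.Agent.S0956

/-! S4538/S2440, unit Z2 (stub shape): every `p`-block of `SL_n(F)`, `char F = p`, has defect
zero or full defect. -/

set_option autoImplicit false
set_option linter.unusedSectionVars false
set_option linter.unusedVariables false
set_option linter.style.longLine false
set_option linter.style.haveILetI false

namespace Cfsg.Agent.Lib.Helper8.SLZ

open Matrix Cfsg

/-- **Z2**: every block has defect zero or full defect (second conjunct of S4538). -/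
theorem z2_dichotomy {n : ℕ} {F : Type*} [Field F] [Fintype F] (hn : 2 ≤ n) (p : ℕ)
    [Fact p.Prime] [CharP F p]
    (M : Ideal Cfsg.AlgInt) (hM : Cfsg.IsPModular p M) :
    ∀ B : Set (Cfsg.IrrCharacter (Matrix.SpecialLinearGroup (Fin n) F)), Cfsg.IsPBlock M B →
      Cfsg.blockDefect p B = 0 ∨ Cfsg.blockDefect p B =
        (Nat.card (Matrix.SpecialLinearGroup (Fin n) F)).factorization p := by
  classical
  intro B hB
  have hp : p.Prime := Fact.out
  haveI : Finite (Matrix.SpecialLinearGroup (Fin n) F) := by
    unfold Matrix.SpecialLinearGroup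
    infer_instance
  obtain ⟨g, hg⟩ := Cfsg.Agent.S0906.result p M hM B hB
  obtain ⟨S0⟩ : Nonempty (Sylow p (Subgroup.centralizer
    ({g} : Set (Matrix.SpecialLinearGroup (Fin n) F)))) := inferInstance
  obtain ⟨D, hDdef⟩ : ∃ D : Subgroup (Matrix.SpecialLinearGroup (Fin n) F),
      D = (S0 : Subgroup (Subgroup.centralizer
        ({g} : Set (Matrix.SpecialLinearGroup (Fin n) F)))).map
      (Subgroup.centralizer ({g} : Set (Matrix.SpecialLinearGroup (Fin n) F))).subtype := ⟨_, rfl⟩
  have hD : Cfsg.IsDefectGroup p M B D := ⟨g, hg, S0, hDdef⟩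
  have hDp : IsPGroup p D := by
    rw [hDdef]; exact S0.isPGroup'.map _
  obtain ⟨P, hDP⟩ := hDp.exists_le_sylow
  obtain ⟨x, hxp, ⟨S, hS⟩, hint⟩ := Cfsg.Agent.S0956.result p M hM B hB D hD P hDP
  have hrad := Cfsg.Agent.S0955.result p M hM B hB D hD
  have hcard := Cfsg.Agent.S0908.result p M hM B hB D hD
  by_cases hbot : D = ⊥
  · left
    rw [hbot, Subgroup.card_bot] at hcard
    by_contra hne
    have h1 : 1 < p ^ Cfsg.blockDefect p B := Nat.one_lt_pow hne hp.one_lt
    omega
  · right
    have hxD : x ∈ Subgroup.centralizer (D : Set (Matrix.SpecialLinearGroup (Fin n) F)) := by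
      rw [← hS, Subgroup.mem_centralizer_iff]
      rintro d ⟨c, hc, rfl⟩
      have hc2 := c.2
      rw [Subgroup.mem_centralizer_iff] at hc2
      exact (hc2 x (Set.mem_singleton x)).symm
    have hxc : x ∈ Subgroup.center (Matrix.SpecialLinearGroup (Fin n) F) :=
      z2_central p D hbot hDp hrad x hxD hxp
    have hDP' : (P : Subgroup (Matrix.SpecialLinearGroup (Fin n) F)) = D := by
      rw [← hint]
      have : (MulAut.conj x).toMonoidHom = MonoidHom.id (Matrix.SpecialLinearGroup (Fin n) F) := by
        ext1 y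
        have h := Subgroup.mem_center_iff.mp hxc y
        show x * y * x⁻¹ = y
        rw [← h, mul_inv_cancel_right]
      rw [this, Subgroup.map_id, inf_idem]
    have hPcard : Nat.card (P : Subgroup (Matrix.SpecialLinearGroup (Fin n) F)) =
        p ^ (Nat.card (Matrix.SpecialLinearGroup (Fin n) F)).factorization p :=
      Sylow.card_eq_multiplicity P
    rw [hDP', hcard] at hPcard
    exact Nat.pow_right_injective hp.two_le hPcard

end Cfsg.Agent.Lib.Helper8.SLZ
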