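import Mathlib
import Cfsg.Agent.Lib.Helper8.SLF1
import Cfsg.Agent.Lib.Helper8.SLE1
import Cfsg.Agent.Lib.Helper8.SLZ5

/-! S4538 from the uniqueness of the defect-zero character of `SL_n(F)` (unit Z1). -/

set_option autoImplicit false
set_option linter.unusedSectionVars false
set_option linter.unusedVariables false
set_option linter.style.longLine false
set_option linter.style.haveILetI false

namespace Cfsg.Agent.Lib.Helper8.SLF

open Cfsg

/-- the statement of S4538, given the uniqueness unit Z1 as a hypothesis -/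
theorem s4538_of_unique {F : Type*} [Field F] [Fintype F] (n : ℕ) (hn : 2 ≤ n) (p : ℕ)
    [Fact p.Prime] [CharP F p] (M : Ideal Cfsg.AlgInt) (hM : Cfsg.IsPModular p M)
    (hu : ∀ θ1 θ2 : Cfsg.IrrCharacter (Matrix.SpecialLinearGroup (Fin n) F),
      (Cfsg.charDegree θ1.1).factorization p =
        (Nat.card (Matrix.SpecialLinearGroup (Fin n) F)).factorization p →
      (Cfsg.charDegree θ2.1).factorization p =
        (Nat.card (Matrix.SpecialLinearGroup (Fin n) F)).factorization p → θ1 = θ2) :
    Nat.card {B : Set (Cfsg.IrrCharacter (Matrix.SpecialLinearGroup (Fin n) F)) //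
      Cfsg.IsPBlock M B ∧ Cfsg.blockDefect p B = 0} = 1 ∧
    ∀ B : Set (Cfsg.IrrCharacter (Matrix.SpecialLinearGroup (Fin n) F)), Cfsg.IsPBlock M B →
      Cfsg.blockDefect p B = 0 ∨ Cfsg.blockDefect p B =
        (Nat.card (Matrix.SpecialLinearGroup (Fin n) F)).factorization p := by
  haveI : Finite (Matrix.SpecialLinearGroup (Fin n) F) := by
    unfold Matrix.SpecialLinearGroup
    infer_instance
  exact ⟨card_defect_zero_blocks p M hM hu (Cfsg.Agent.Lib.Helper8.SLE.z1e_exists p hn),
    Cfsg.Agent.Lib.Helper8.SLZ.z2_dichotomy hn p M hM⟩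

end Cfsg.Agent.Lib.Helper8.SLF
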