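import Mathlib
import Cfsg.Agent.Lib.Helper2.GLU2
import Cfsg.Agent.Lib.Helper7.SLZ1a
import Cfsg.Agent.Lib.Helper6.CliffordDeg
import Cfsg.Agent.Lib.Helper6.Auto
import Cfsg.Agent.Lib.Helper6.BlkNormalDef
import Cfsg.Agent.Lib.Helper6.CharMisc
import Cfsg.Agent.Lib.Helper6.UniGL4
import Cfsg.Agent.Lib.Helper4.SLCard

/-! S4538/S2440, unit Z1 (hedge copy): uniqueness of the defect-zero irreducible character of
`SL_n(F)`, from THEOREM GL (`Helper2.GLU.gl_final`) by Clifford theory for `SL_n ⊴ GL_n`. -/

set_option autoImplicit false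
set_option linter.unusedSectionVars false
set_option linter.unusedVariables false
set_option linter.style.longLine false
set_option linter.style.haveILetI false

namespace Cfsg.Agent.Lib.Helper8.SLU

open Cfsg Cfsg.Agent.Lib.Helper6 Cfsg.Agent.Lib.Helper7.SLY
open scoped ComplexConjugate MatrixGroups

variable {n : ℕ} {F : Type*} [Field F] [Fintype F]

/-- `SL_n` as a subgroup of `GL_n` -/
noncomputable def slSub (n : ℕ) (F : Type*) [Field F] : Subgroup (GL (Fin n) F) :=
  (Matrix.SpecialLinearGroup.toGL :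
    Matrix.SpecialLinearGroup (Fin n) F →* GL (Fin n) F).range

theorem slSub_normal : (slSub n F).Normal := by
  unfold slSub
  rw [← Cfsg.Agent.Lib.Helper4.ker_det_eq_range_toGL]
  exact MonoidHom.normal_ker _

theorem det_of_mem_slSub (g : GL (Fin n) F) (hg : g ∈ slSub n F) :
    Matrix.GeneralLinearGroup.det g = 1 := by
  unfold slSub at hg
  rw [← Cfsg.Agent.Lib.Helper4.ker_det_eq_range_toGL] at hg
  exact MonoidHom.mem_ker.mp hg

/-- the isomorphism of `SL_n` with its image in `GL_n` -/
noncomputable def slEquiv (n : ℕ) (F : Type*) [Field F] :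
    Matrix.SpecialLinearGroup (Fin n) F ≃* slSub n F :=
  MonoidHom.ofInjective Matrix.SpecialLinearGroup.toGL_injective

end Cfsg.Agent.Lib.Helper8.SLU
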