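import Mathlib
import Cfsg.Agent.Lib.Helper8.SLU1
import Cfsg.Agent.Lib.Helper8.SLE1

/-! S4538/S2440, unit Z1 (hedge copy), part 2: lifting a defect-zero character of `SL_n(F)` to
`GL_n(F)`. -/

set_option autoImplicit false
set_option linter.unusedSectionVars false
set_option linter.unusedVariables false
set_option linter.style.longLine false
set_option linter.style.haveILetI false

namespace Cfsg.Agent.Lib.Helper8.SLU

open Cfsg Cfsg.Agent.Lib.Helper6 Cfsg.Agent.Lib.Helper7.SLY
open scoped ComplexConjugate MatrixGroups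

variable {n : ℕ} {F : Type*} [Field F] [Fintype F]

/-- the exponent of `p` in `|GL_n(F)|` equals that in `|SL_n(F)|` -/
theorem factorization_card_GL (p : ℕ) [Fact p.Prime] [CharP F p] (hn : 1 ≤ n) :
    (Nat.card (GL (Fin n) F)).factorization p =
      (Nat.card (Matrix.SpecialLinearGroup (Fin n) F)).factorization p := by
  have hp : p.Prime := Fact.out
  obtain ⟨f, _, hqf⟩ := FiniteField.card F p
  have hf : 1 ≤ (f : ℕ) := f.pos
  have h2 := Cfsg.Agent.Lib.Helper4.card_SL_mul (F := F) n (by omega)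
  have hsl : Nat.card (Matrix.SpecialLinearGroup (Fin n) F) ≠ 0 := Nat.card_pos.ne'
  have hq1 : p ^ (f : ℕ) - 1 ≠ 0 := by
    have : 2 ≤ p ^ (f : ℕ) := by
      calc 2 ≤ p := hp.two_le
        _ = p ^ 1 := (pow_one p).symm
        _ ≤ p ^ (f : ℕ) := Nat.pow_le_pow_right hp.pos hf
    omega
  rw [← h2, hqf, Nat.factorization_mul hsl hq1, Finsupp.add_apply,
    Nat.factorization_eq_zero_of_not_dvd (Cfsg.Agent.Lib.Helper6.UniGL.not_dvd_pred p f hp hf),
    add_zero]

/-- non-identity elements of `Uni` are `p`-singular -/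
theorem dvd_orderOf_of_mem_Uni (p : ℕ) [Fact p.Prime] [CharP F p] (u : GL (Fin n) F)
    (hu : u ∈ Uni n F) (hu1 : u ≠ 1) : p ∣ orderOf u := by
  have hp : p.Prime := Fact.out
  obtain ⟨k, hk⟩ := z1a_pgroup (n := n) (F := F) p u hu
  have hdvd : orderOf u ∣ p ^ k := orderOf_dvd_of_pow_eq_one hk
  obtain ⟨i, _, hi⟩ := (Nat.dvd_prime_pow hp).mp hdvd
  rcases Nat.eq_zero_or_pos i with h0 | h0
  · exfalso
    rw [h0, pow_zero, orderOf_eq_one_iff] at hi
    exact hu1 hi
  · rw [hi]
    exact dvd_pow_self p (by omega)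

/-- **lift**: a defect-zero irreducible character of `SL_n(F)` lies under an irreducible
character of `GL_n(F)` vanishing on `Uni ∖ 1`, whose degree is divisible by its degree. -/
theorem exists_lift [Fintype (GL (Fin n) F)] [Fintype (slSub n F)] (p : ℕ) [Fact p.Prime] [CharP F p] (hn : 1 ≤ n)
    (θ : IrrCharacter (Matrix.SpecialLinearGroup (Fin n) F))
    (h : (charDegree θ.1).factorization p =
      (Nat.card (Matrix.SpecialLinearGroup (Fin n) F)).factorization p) :
    ∃ χ : IrrCharacter (GL (Fin n) F),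
      (∀ u ∈ Uni n F, u ≠ 1 → χ.1 u = 0) ∧
      charDegree θ.1 ∣ charDegree χ.1 ∧
      classInner (fun g : slSub n F => χ.1 g)
        (fun g : slSub n F => θ.1 ((slEquiv n F).symm g)) ≠ 0 := by
  classical
  have hp : p.Prime := Fact.out
  haveI : Finite (Matrix.SpecialLinearGroup (Fin n) F) := by
    unfold Matrix.SpecialLinearGroup
    infer_instance
  obtain ⟨θ', hθ'def⟩ : ∃ θ' : slSub n F → ℂ,
      θ' = fun g : slSub n F => θ.1 ((slEquiv n F).symm g) := ⟨_, rfl⟩
  have hθ' : IsIrrCharacter (slSub n F) θ' := by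
    rw [hθ'def]
    exact IsIrrCharacter.comp_mulEquiv (slEquiv n F).symm θ.2
  have hdeg' : charDegree θ' = charDegree θ.1 := by
    unfold charDegree
    rw [hθ'def]
    simp only [map_one]
  -- an irreducible constituent of the induced character
  have hInd : IsCharacter (GL (Fin n) F) (indFun (slSub n F) θ') :=
    IsCharacter.indFun (slSub n F) (IsIrrCharacter.isCharacter hθ')
  have hInd1 : indFun (slSub n F) θ' 1 ≠ 0 := by
    rw [indFun_one]
    apply mul_ne_zero
    · have : (slSub n F).index ≠ 0 := Subgroup.index_ne_zero_of_finite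
      exact_mod_cast this
    · exact IsIrrCharacter.apply_one_ne_zero hθ'
  obtain ⟨χ, hχ⟩ := IsCharacter.exists_constituent hInd hInd1
  have hfrob : classInner (fun g : slSub n F => χ.1 g) θ' ≠ 0 := by
    rw [IndFunMore.classInner_indFun (slSub n F) θ' χ.1
      (IsCharacter.isClassFunction (IsIrrCharacter.isCharacter χ.2))] at hχ
    have e : (Nat.card (slSub n F) : ℂ)⁻¹ * ∑ h : slSub n F, θ' h * conj (χ.1 h) =
        classInner θ' (fun g : slSub n F => χ.1 g) := rfl
    rw [e, ← classInner_conj_symm] at hχ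
    exact (map_ne_zero _).mp hχ
  have hcliff : charDegree θ' ∣ charDegree χ.1 :=
    charDegree_dvd_of_constituent (slSub n F) slSub_normal χ ⟨θ', hθ'⟩ hfrob
  rw [hdeg'] at hcliff
  refine ⟨χ, ?_, hcliff, by rw [← hθ'def]; exact hfrob⟩
  -- vanishing on `p`-singular elements
  set a := (Nat.card (Matrix.SpecialLinearGroup (Fin n) F)).factorization p with ha
  have hGL := factorization_card_GL (n := n) (F := F) p hn
  have h1 : p ^ a ∣ Nat.card (GL (Fin n) F) := by
    rw [ha, ← hGL]
    exact Nat.ordProj_dvd _ p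
  have h2 : ¬ p ^ (a + 1) ∣ Nat.card (GL (Fin n) F) := by
    rw [ha, ← hGL]
    exact Nat.pow_succ_factorization_not_dvd Nat.card_pos.ne' hp
  have h3 : p ^ a ∣ charDegree χ.1 := by
    refine dvd_trans ?_ hcliff
    rw [← h]
    exact Nat.ordProj_dvd _ p
  intro u hu hu1
  exact IsIrrCharacter.eq_zero_of_defect_zero χ.2 p a hp h1 h2 h3 u
    (dvd_orderOf_of_mem_Uni p u hu hu1)

end Cfsg.Agent.Lib.Helper8.SLU
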