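import Mathlib
import Cfsg.Agent.Lib.Helper8.SLU2

/-! S4538/S2440, unit Z1 (hedge copy), part 3: uniqueness of the defect-zero irreducible
character of `SL_n(F)`. -/

set_option autoImplicit false
set_option linter.unusedSectionVars false
set_option linter.unusedVariables false
set_option linter.style.longLine false
set_option linter.style.haveILetI false

namespace Cfsg.Agent.Lib.Helper8.SLU

open Cfsg Cfsg.Agent.Lib.Helper6 Cfsg.Agent.Lib.Helper7.SLY
open scoped ComplexConjugate MatrixGroups

variable {n : ℕ} {F : Type*} [Field F] [Fintype F]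

/-- the restriction of the lift is the original character -/
theorem restrict_lift_eq [Fintype (GL (Fin n) F)] [Fintype (slSub n F)] (p : ℕ) [Fact p.Prime]
    [CharP F p] (hn : 1 ≤ n)
    (θ : IrrCharacter (Matrix.SpecialLinearGroup (Fin n) F))
    (h : (charDegree θ.1).factorization p =
      (Nat.card (Matrix.SpecialLinearGroup (Fin n) F)).factorization p)
    (χ : IrrCharacter (GL (Fin n) F))
    (hχ1 : χ.1 1 = (Nat.card (Uni n F) : ℂ))
    (hd : charDegree θ.1 ∣ charDegree χ.1)
    (hc : classInner (fun g : slSub n F => χ.1 g)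
        (fun g : slSub n F => θ.1 ((slEquiv n F).symm g)) ≠ 0) :
    ∀ s : Matrix.SpecialLinearGroup (Fin n) F,
      θ.1 s = χ.1 (Matrix.SpecialLinearGroup.toGL s) := by
  classical
  have hp : p.Prime := Fact.out
  haveI : Finite (Matrix.SpecialLinearGroup (Fin n) F) := by
    unfold Matrix.SpecialLinearGroup
    infer_instance
  set a := (Nat.card (Matrix.SpecialLinearGroup (Fin n) F)).factorization p with ha
  -- `|Uni| = p^b` with `b ≤ a`
  obtain ⟨b, hb⟩ := (isPGroup_Uni (n := n) (F := F) p).exists_card_eq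
  have hdegχ : charDegree χ.1 = p ^ b := by
    have h2 := IsCharacter.apply_one_eq_charDegree (IsIrrCharacter.isCharacter χ.2)
    rw [hχ1, hb] at h2
    exact_mod_cast h2.symm
  have hba : b ≤ a := by
    have hdvd : p ^ b ∣ Nat.card (GL (Fin n) F) := by
      rw [← hb]
      exact Subgroup.card_subgroup_dvd_card _
    have := (hp.pow_dvd_iff_le_factorization Nat.card_pos.ne').mp hdvd
    rw [factorization_card_GL (n := n) (F := F) p hn] at this
    exact this
  have hpa : p ^ a ∣ charDegree θ.1 := by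
    rw [← h]
    exact Nat.ordProj_dvd _ p
  have hab : a ≤ b := by
    have : p ^ a ∣ p ^ b := by
      rw [← hdegχ]
      exact dvd_trans hpa hd
    exact (Nat.pow_dvd_pow_iff_le_right hp.one_lt).mp this
  have hab' : a = b := le_antisymm hab hba
  have hdegθ : charDegree θ.1 = charDegree χ.1 := by
    rw [hdegχ]
    apply Nat.dvd_antisymm
    · rw [← hdegχ]; exact hd
    · rw [← hab']; exact hpa
  obtain ⟨θ', hθ'def⟩ : ∃ θ' : slSub n F → ℂ,
      θ' = fun g : slSub n F => θ.1 ((slEquiv n F).symm g) := ⟨_, rfl⟩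
  have hθ' : IsIrrCharacter (slSub n F) θ' := by
    rw [hθ'def]
    exact IsIrrCharacter.comp_mulEquiv (slEquiv n F).symm θ.2
  have hχN : IsCharacter (slSub n F) (fun g : slSub n F => χ.1 g) :=
    IsCharacter.restrict (slSub n F) (IsIrrCharacter.isCharacter χ.2)
  have h1 : (fun g : slSub n F => χ.1 g) 1 = θ' 1 := by
    rw [hθ'def]
    simp only [map_one, OneMemClass.coe_one]
    rw [IsCharacter.apply_one_eq_charDegree (IsIrrCharacter.isCharacter χ.2),
      IsCharacter.apply_one_eq_charDegree (IsIrrCharacter.isCharacter θ.2), hdegθ]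
  have heq := IsCharacter.eq_of_constituent_of_apply_one_eq hχN hθ' (by rw [hθ'def]; exact hc) h1
  intro s
  have h2 := congrFun heq (slEquiv n F s)
  rw [hθ'def] at h2
  simp only [MulEquiv.symm_apply_apply] at h2
  rw [← h2]
  rfl

/-- **Z1**: uniqueness of the defect-zero irreducible character of `SL_n(F)`. -/
theorem z1_unique (p : ℕ) [Fact p.Prime] [CharP F p] (hn : 2 ≤ n)
    (θ1 θ2 : IrrCharacter (Matrix.SpecialLinearGroup (Fin n) F))
    (h1 : (charDegree θ1.1).factorization p =
      (Nat.card (Matrix.SpecialLinearGroup (Fin n) F)).factorization p)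
    (h2 : (charDegree θ2.1).factorization p =
      (Nat.card (Matrix.SpecialLinearGroup (Fin n) F)).factorization p) : θ1 = θ2 := by
  classical
  haveI : Fintype (GL (Fin n) F) := Fintype.ofFinite _
  haveI : Fintype (slSub n F) := Fintype.ofFinite _
  obtain ⟨χ1, hv1, hd1, hc1⟩ := exists_lift p (by omega) θ1 h1
  obtain ⟨χ2, hv2, hd2, hc2⟩ := exists_lift p (by omega) θ2 h2
  obtain ⟨hχ1, hχ2, α, hα⟩ := Cfsg.Agent.Lib.Helper2.GLU.gl_final hn χ1 χ2 hv1 hv2
  have e1 := restrict_lift_eq p (by omega) θ1 h1 χ1 hχ1 hd1 hc1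
  have e2 := restrict_lift_eq p (by omega) θ2 h2 χ2 hχ2 hd2 hc2
  apply Subtype.ext
  funext s
  rw [e1 s, e2 s, hα]
  have hdet : Matrix.GeneralLinearGroup.det (Matrix.SpecialLinearGroup.toGL s : GL (Fin n) F) = 1 :=
    det_of_mem_slSub _ ⟨s, rfl⟩
  rw [hdet, map_one, Units.val_one, mul_one]

end Cfsg.Agent.Lib.Helper8.SLU
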