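import Mathlib
import Cfsg.Agent.Lib.Helper8.SN17N4a

/-!
# S3641 (SN17), piece N4b: `n_3 = 136` for a group of order 2448 with spectrum dividing 8, 9, 17
-/

set_option autoImplicit false
set_option linter.unusedSectionVars false
set_option linter.style.haveILetI false
set_option linter.unusedVariables false

namespace Cfsg.Agent.Lib.Helper8.SN17

variable {G : Type*} [Group G]

/-- the conjugation orbit map `Q ⧸ C_Q(t) → {s // P s}`. -/
noncomputable def orbMap (Q : Subgroup G) (t : G) (P : G → Prop)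
    (hX : ∀ y ∈ Q, P (y * t * y⁻¹)) :
    (↥Q ⧸ (Subgroup.centralizer ({t} : Set G)).subgroupOf Q) → {s : G // P s} :=
  fun q => Quotient.liftOn' q (fun y => (⟨(y : G) * t * (y : G)⁻¹, hX y y.2⟩ : {s : G // P s})) (by
    intro a b hab
    rw [QuotientGroup.leftRel_apply, Subgroup.mem_subgroupOf, Subgroup.mem_centralizer_iff] at hab
    have h := hab t (Set.mem_singleton t)
    apply Subtype.ext
    show (a : G) * t * (a : G)⁻¹ = (b : G) * t * (b : G)⁻¹
    simp only [Subgroup.coe_mul, Subgroup.coe_inv] at h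
    calc (a : G) * t * (a : G)⁻¹ = a * (t * ((a : G)⁻¹ * b)) * (b : G)⁻¹ := by group
      _ = a * ((a : G)⁻¹ * b * t) * (b : G)⁻¹ := by rw [h]
      _ = (b : G) * t * (b : G)⁻¹ := by group)

theorem orbMap_injective (Q : Subgroup G) (t : G) (P : G → Prop)
    (hX : ∀ y ∈ Q, P (y * t * y⁻¹)) : Function.Injective (orbMap Q t P hX) := by
  intro q1 q2
  refine Quotient.inductionOn₂' q1 q2 ?_
  intro a b hab
  have h : (a : G) * t * (a : G)⁻¹ = (b : G) * t * (b : G)⁻¹ := congrArg Subtype.val hab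
  apply Quotient.sound'
  rw [QuotientGroup.leftRel_apply, Subgroup.mem_subgroupOf, Subgroup.mem_centralizer_iff]
  intro z hz
  rw [Set.mem_singleton_iff] at hz
  rw [hz]
  simp only [Subgroup.coe_mul, Subgroup.coe_inv]
  calc t * ((a : G)⁻¹ * b) = (a : G)⁻¹ * ((a : G) * t * (a : G)⁻¹) * a * ((a : G)⁻¹ * b) := by group
    _ = (a : G)⁻¹ * ((b : G) * t * (b : G)⁻¹) * a * ((a : G)⁻¹ * b) := by rw [h]
    _ = (a : G)⁻¹ * b * t := by group

/-- a group of order 9 containing an element `w` of order 9 has at most 6 elements of order 9. -/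
theorem card_order_nine_le {T : Type*} [Group T] [Finite T] (P : Subgroup T) (hP : Nat.card P = 9)
    (w : T) (hw : orderOf w = 9) (hwP : w ∈ P) :
    Nat.card {s : T // s ∈ P ∧ orderOf s = 9} ≤ 6 := by
  have h3 : orderOf (w ^ 3) = 3 := by rw [orderOf_pow' w (by norm_num), hw]; norm_num
  have h6 : orderOf (w ^ 6) = 3 := by rw [orderOf_pow' w (by norm_num), hw]; norm_num
  have hne1 : w ^ 3 ≠ 1 := by
    intro h; rw [h, orderOf_one] at h3; omega
  have hne2 : w ^ 6 ≠ 1 := by
    intro h; rw [h, orderOf_one] at h6; omega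
  have hne3 : w ^ 3 ≠ w ^ 6 := by
    intro h
    have : w ^ 6 = w ^ 3 * w ^ 3 := by rw [← pow_add]
    rw [this] at h
    have : w ^ 3 = 1 := by
      have h' : w ^ 3 * 1 = w ^ 3 * w ^ 3 := by rw [mul_one]; exact h
      exact (mul_left_cancel h').symm
    exact hne1 this
  have hsub : {s : T | s ∈ P ∧ orderOf s = 9} ⊆ (P : Set T) \ {1, w ^ 3, w ^ 6} := by
    intro s hs
    have hs2 : orderOf s = 9 := hs.2
    refine ⟨hs.1, ?_⟩
    intro hmem
    rcases hmem with h | h | h
    · rw [h, orderOf_one] at hs2; omega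
    · rw [h, h3] at hs2; omega
    · rw [Set.mem_singleton_iff] at h; rw [h, h6] at hs2; omega
  have hcard3 : ({1, w ^ 3, w ^ 6} : Set T).ncard = 3 := by
    rw [Set.ncard_insert_of_notMem, Set.ncard_insert_of_notMem, Set.ncard_singleton]
    · simpa using hne3
    · simp only [Set.mem_insert_iff, Set.mem_singleton_iff, not_or]
      exact ⟨hne1.symm, hne2.symm⟩
  have hsub3 : ({1, w ^ 3, w ^ 6} : Set T) ⊆ (P : Set T) := by
    intro x hx
    rcases hx with h | h | h
    · rw [h]; exact P.one_mem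
    · rw [h]; exact P.pow_mem hwP 3
    · rw [Set.mem_singleton_iff] at h; rw [h]; exact P.pow_mem hwP 6
  have hPn : (P : Set T).ncard = 9 := by
    rw [← hP]; exact (Nat.card_coe_set_eq _).symm
  have h1 : Nat.card {s : T // s ∈ P ∧ orderOf s = 9} = ({s : T | s ∈ P ∧ orderOf s = 9}).ncard :=
    Nat.card_coe_set_eq _
  rw [h1]
  calc ({s : T | s ∈ P ∧ orderOf s = 9}).ncard ≤ ((P : Set T) \ {1, w ^ 3, w ^ 6}).ncard :=
        Set.ncard_le_ncard hsub (Set.toFinite _)
    _ = 9 - 3 := by rw [Set.ncard_sdiff hsub3 (Set.toFinite _), hPn, hcard3]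
    _ = 6 := by norm_num

theorem n3_eq {T : Type*} [Group T] [Finite T] (hT : Nat.card T = 2448)
    (hspec : ∀ t : T, orderOf t ∣ 8 ∨ orderOf t ∣ 9 ∨ orderOf t ∣ 17)
    (h9 : ∃ t : T, orderOf t = 9) :
    Nat.card (Sylow 3 T) = 136 := by
  haveI : Fact (Nat.Prime 3) := ⟨Nat.prime_three⟩
  obtain ⟨w, hw⟩ := h9
  have hwP : IsPGroup 3 (Subgroup.zpowers w) :=
    IsPGroup.of_card (n := 2) (by rw [Nat.card_zpowers, hw]; norm_num)
  obtain ⟨P, hwle⟩ := hwP.exists_le_sylow
  have hPcard : Nat.card (P : Subgroup T) = 9 := by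
    have := card_sylow_of_card 3 2 272 (by rw [hT]; norm_num) (by norm_num) P
    rw [this]; norm_num
  have hwmem : w ∈ (P : Subgroup T) := hwle (Subgroup.mem_zpowers w)
  -- `|C(w)| = 9`
  set C := Subgroup.centralizer ({w} : Set T) with hC
  have hC0 : Nat.card C ≠ 0 := Nat.card_pos.ne'
  have hCprime : ∀ {d : ℕ}, d.Prime → d ∣ Nat.card C → d = 3 := by
    intro d hd hdC
    by_contra hne
    haveI : Fact d.Prime := ⟨hd⟩
    obtain ⟨y, hy⟩ := exists_prime_orderOf_dvd_card' d hdC
    have hy' : orderOf (y : T) = d := by rw [Subgroup.orderOf_coe]; exact hy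
    have hcomm : Commute (y : T) w := by
      have := Subgroup.mem_centralizer_iff.1 y.2 w (Set.mem_singleton w)
      exact this.symm
    have hcop : (orderOf (y : T)).Coprime (orderOf w) := by
      rw [hy', hw]
      have : Nat.Coprime d 3 := (Nat.coprime_primes hd Nat.prime_three).2 hne
      have h9' : (9 : ℕ) = 3 ^ 2 := by norm_num
      rw [h9']; exact Nat.Coprime.pow_right 2 this
    have hmul := hcomm.orderOf_mul_eq_mul_orderOf_of_coprime hcop
    rw [hy', hw] at hmul
    have hd2 : 2 ≤ d := hd.two_le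
    rcases hspec ((y : T) * w) with h | h | h <;> rw [hmul] at h
    · have := Nat.le_of_dvd (by norm_num) h
      omega
    · have := Nat.le_of_dvd (by norm_num) h
      omega
    · have h9d : 9 ∣ 17 := dvd_trans (Dvd.intro_left d rfl) h
      omega
  have hCpow := Nat.eq_prime_pow_of_unique_prime_dvd hC0 hCprime
  set k := (Nat.card C).primeFactorsList.length with hk
  have hCdvd : Nat.card C ∣ 2448 := hT ▸ Subgroup.card_subgroup_dvd_card C
  have hC9 : Nat.card C ∣ 9 := by
    rw [hCpow] at hCdvd ⊢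
    have hc : Nat.Coprime (3 ^ k) 272 := Nat.Coprime.pow_left k (by norm_num)
    have : 3 ^ k ∣ 9 * 272 := by norm_num; exact hCdvd
    exact hc.dvd_of_dvd_mul_right this
  have hCle : Nat.card C ≤ 9 := Nat.le_of_dvd (by norm_num) hC9
  -- the normalizer
  set N := Subgroup.normalizer ((P : Subgroup T) : Set T) with hN
  have hPN : (P : Subgroup T) ≤ N := Subgroup.le_normalizer
  have hX : ∀ y ∈ N, (fun s : T => s ∈ (P : Subgroup T) ∧ orderOf s = 9) (y * w * y⁻¹) := by
    intro y hy
    refine ⟨(Subgroup.mem_normalizer_iff.1 hy w).1 hwmem, ?_⟩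
    have : y * w * y⁻¹ = MulAut.conj y w := rfl
    rw [this, MulEquiv.orderOf_eq, hw]
  have hinj := orbMap_injective N w (fun s : T => s ∈ (P : Subgroup T) ∧ orderOf s = 9) hX
  have hidx : (C.subgroupOf N).index ≤ 6 := by
    refine le_trans ?_ (card_order_nine_le (P : Subgroup T) hPcard w hw hwmem)
    exact Nat.card_le_card_of_injective _ hinj
  have hsub : Nat.card (C.subgroupOf N) ≤ 9 := by
    refine le_trans ?_ hCle
    exact Nat.card_le_card_of_injective (fun x => (⟨(x : T), x.2⟩ : C))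
      (fun a b hab => by
        have h1 : ((a : N) : T) = ((b : N) : T) := congrArg (fun c : C => (c : T)) hab
        exact Subtype.ext (Subtype.ext h1))
  have hNle : Nat.card N ≤ 54 := by
    rw [← Subgroup.index_mul_card (C.subgroupOf N)]
    calc (C.subgroupOf N).index * Nat.card (C.subgroupOf N) ≤ 6 * 9 := Nat.mul_le_mul hidx hsub
      _ = 54 := by norm_num
  have h9N : 9 ∣ Nat.card N := by rw [← hPcard]; exact Subgroup.card_dvd_of_le hPN
  have hmod := card_sylow_modEq_one 3 T
  rw [Sylow.card_eq_index_normalizer P] at hmod ⊢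
  have hmul := Subgroup.index_mul_card N
  rw [hT] at hmul
  obtain ⟨m, hm⟩ := h9N
  show N.index = 136
  have hmod' : N.index % 3 = 1 := hmod
  rw [hm] at hmul hNle
  have hm6 : m ≤ 6 := by omega
  have hm0 : 0 < m := by
    rcases Nat.eq_zero_or_pos m with h | h
    · rw [h] at hmul; omega
    · exact h
  interval_cases m <;> omega

end Cfsg.Agent.Lib.Helper8.SN17
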