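import Mathlib

set_option autoImplicit false

/-! Stabiliser chains with a known group order: if the partial transversals found have sizes
whose product is at least the order of the group, then they are complete. -/

namespace Cfsg.Agent.Lib.Helper8.SQ

variable {α : Type*} [Fintype α] [DecidableEq α]

/-- the pointwise stabiliser in `K` of a list of points -/
def fixG (K : Subgroup (Equiv.Perm α)) (bs : List α) : Subgroup (Equiv.Perm α) where
  carrier := {g | g ∈ K ∧ ∀ b ∈ bs, g b = b}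
  one_mem' := ⟨K.one_mem, fun _ _ => rfl⟩
  mul_mem' := by
    rintro g h ⟨hg, hg'⟩ ⟨hh, hh'⟩
    refine ⟨K.mul_mem hg hh, fun b hb => ?_⟩
    rw [Equiv.Perm.mul_apply, hh' b hb, hg' b hb]
  inv_mem' := by
    rintro g ⟨hg, hg'⟩
    refine ⟨K.inv_mem hg, fun b hb => ?_⟩
    rw [Equiv.Perm.inv_eq_iff_eq, hg' b hb]

theorem mem_fixG {K : Subgroup (Equiv.Perm α)} {bs : List α} {g : Equiv.Perm α} :
    g ∈ fixG K bs ↔ g ∈ K ∧ ∀ b ∈ bs, g b = b := Iff.rfl

theorem fixG_nil (K : Subgroup (Equiv.Perm α)) : fixG K [] = K := by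
  ext g
  rw [mem_fixG]
  simp

theorem mem_fixG_cons {K : Subgroup (Equiv.Perm α)} {bs : List α} {b : α} {g : Equiv.Perm α} :
    g ∈ fixG K (b :: bs) ↔ g ∈ fixG K bs ∧ g b = b := by
  rw [mem_fixG, mem_fixG]
  constructor
  · rintro ⟨h1, h2⟩
    exact ⟨⟨h1, fun c hc => h2 c (List.mem_cons_of_mem _ hc)⟩, h2 b List.mem_cons_self⟩
  · rintro ⟨⟨h1, h2⟩, h3⟩
    refine ⟨h1, fun c hc => ?_⟩
    rcases List.mem_cons.1 hc with rfl | hc
    · exact h3
    · exact h2 c hc

/-- the levels: a base point and a set of points known to lie in its orbit -/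
def Good (K : Subgroup (Equiv.Perm α)) : List α → List (α × Finset α) → Prop
  | _, [] => True
  | done, L :: Ls => (∀ p ∈ L.2, ∃ v ∈ fixG K done, v p = L.1) ∧ Good K (L.1 :: done) Ls

/-- the conclusion: the sets are the full orbits and the last stabiliser is trivial -/
def Concl (K : Subgroup (Equiv.Perm α)) : List α → List (α × Finset α) → Prop
  | done, [] => ∀ g ∈ fixG K done, g = 1
  | done, L :: Ls => (∀ g ∈ fixG K done, g L.1 ∈ L.2) ∧ Concl K (L.1 :: done) Ls

/-- the product of the sizes -/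
def sizes : List (α × Finset α) → ℕ
  | [] => 1
  | L :: Ls => L.2.card * sizes Ls

theorem step_inj (K : Subgroup (Equiv.Perm α)) (done : List α) (b : α) (O : Finset α)
    (h : ∀ p ∈ O, ∃ v ∈ fixG K done, v p = b) :
    ∃ F : {p // p ∈ O} × ↥(fixG K (b :: done)) → ↥(fixG K done), Function.Injective F ∧
      ∀ x, (F x).1 b = x.1.1 := by
  choose v hv hvp using h
  refine ⟨fun x => ⟨(v x.1.1 x.1.2)⁻¹ * x.2.1,
    (fixG K done).mul_mem ((fixG K done).inv_mem (hv _ _)) (mem_fixG_cons.1 x.2.2).1⟩, ?_, ?_⟩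
  · have key : ∀ x : {p // p ∈ O} × ↥(fixG K (b :: done)),
        ((v x.1.1 x.1.2)⁻¹ * x.2.1) b = x.1.1 := by
      intro x
      rw [Equiv.Perm.mul_apply, (mem_fixG_cons.1 x.2.2).2, Equiv.Perm.inv_eq_iff_eq, hvp]
    rintro ⟨⟨p, hp⟩, ⟨g, hg⟩⟩ ⟨⟨q, hq⟩, ⟨g', hg'⟩⟩ hxy
    have e : (v p hp)⁻¹ * g = (v q hq)⁻¹ * g' := congrArg Subtype.val hxy
    have e1 : p = q := by
      have h1 := key ⟨⟨p, hp⟩, ⟨g, hg⟩⟩
      have h2 := key ⟨⟨q, hq⟩, ⟨g', hg'⟩⟩
      simp only at h1 h2
      rw [← h1, ← h2, e]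
    subst e1
    have e2 : g = g' := mul_left_cancel e
    subst e2
    rfl
  · intro x
    show ((v x.1.1 x.1.2)⁻¹ * x.2.1) b = x.1.1
    rw [Equiv.Perm.mul_apply, (mem_fixG_cons.1 x.2.2).2, Equiv.Perm.inv_eq_iff_eq, hvp]

theorem card_ge (K : Subgroup (Equiv.Perm α)) (Ls : List (α × Finset α)) :
    ∀ done : List α, Good K done Ls → sizes Ls ≤ Nat.card (fixG K done) := by
  induction Ls with
  | nil =>
    intro done _
    exact Nat.one_le_iff_ne_zero.2 Nat.card_pos.ne'
  | cons L Ls ih =>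
    intro done hg
    obtain ⟨F, hF, -⟩ := step_inj K done L.1 L.2 hg.1
    have h1 := Nat.card_le_card_of_injective F hF
    rw [Nat.card_prod, Nat.card_eq_fintype_card, Fintype.card_coe] at h1
    calc sizes (L :: Ls) = L.2.card * sizes Ls := rfl
      _ ≤ L.2.card * Nat.card (fixG K (L.1 :: done)) := Nat.mul_le_mul_left _ (ih _ hg.2)
      _ ≤ _ := h1

theorem tight (K : Subgroup (Equiv.Perm α)) (Ls : List (α × Finset α)) :
    ∀ done : List α, Good K done Ls → Nat.card (fixG K done) ≤ sizes Ls → Concl K done Ls := by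
  induction Ls with
  | nil =>
    intro done _ hle g hg
    have h1 : Nat.card (fixG K done) = 1 :=
      le_antisymm hle (Nat.one_le_iff_ne_zero.2 Nat.card_pos.ne')
    have := (Subgroup.card_eq_one.1 h1)
    rw [this] at hg
    exact Subgroup.mem_bot.1 hg
  | cons L Ls ih =>
    intro done hg hle
    obtain ⟨F, hF, hFb⟩ := step_inj K done L.1 L.2 hg.1
    have hge := card_ge K Ls (L.1 :: done) hg.2
    have hprod : Nat.card ({p // p ∈ L.2} × ↥(fixG K (L.1 :: done))) =
        L.2.card * Nat.card (fixG K (L.1 :: done)) := by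
      rw [Nat.card_prod, Nat.card_eq_fintype_card, Fintype.card_coe]
    have h1 := Nat.card_le_card_of_injective F hF
    rw [hprod] at h1
    have hle' : Nat.card (fixG K done) ≤ L.2.card * sizes Ls := hle
    have hpos : 0 < L.2.card := by
      rcases Nat.eq_zero_or_pos L.2.card with h0 | h0
      · rw [h0, Nat.zero_mul] at hle'
        exact absurd hle' (Nat.not_le.2 Nat.card_pos)
      · exact h0
    have h2 : L.2.card * Nat.card (fixG K (L.1 :: done)) ≤ L.2.card * sizes Ls := le_trans h1 hle'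
    have h3 : Nat.card (fixG K (L.1 :: done)) ≤ sizes Ls := Nat.le_of_mul_le_mul_left h2 hpos
    refine ⟨?_, ih _ hg.2 h3⟩
    have hbij : Function.Bijective F := by
      apply hF.bijective_of_nat_card_le
      rw [hprod]
      calc Nat.card (fixG K done) ≤ L.2.card * sizes Ls := hle'
        _ ≤ _ := Nat.mul_le_mul_left _ hge
    intro g hg'
    obtain ⟨x, hx⟩ := hbij.2 ⟨g, hg'⟩
    have := hFb x
    rw [hx] at this
    show g L.1 ∈ L.2
    rw [this]
    exact x.1.2

end Cfsg.Agent.Lib.Helper8.SQ
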