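import Cfsg.Agent.Lib.Helper8.SQ1

set_option autoImplicit false

/-! Computational layer for stabiliser chains with Schreier trees: tables as functions on `ℕ`,
realisation by elements of a permutation group, tree walks and sifting. -/

namespace Cfsg.Agent.Lib.Helper8.SQ

/-- entry `i` of a packed table with entries of width `w` (`mask = 2^w - 1`) -/
def rd (w mask T i : ℕ) : ℕ := Nat.land (Nat.shiftRight T (Nat.mul w i)) mask

/-- apply the letters of a word one after the other, the first letter first -/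
def evalApp (tb : ℕ → ℕ → ℕ) (w : List ℕ) (x : ℕ) : ℕ := w.foldl (fun y k => tb k y) x

theorem evalApp_nil (tb : ℕ → ℕ → ℕ) (x : ℕ) : evalApp tb [] x = x := rfl

theorem evalApp_cons (tb : ℕ → ℕ → ℕ) (k : ℕ) (w : List ℕ) (x : ℕ) :
    evalApp tb (k :: w) x = evalApp tb w (tb k x) := rfl

theorem evalApp_append (tb : ℕ → ℕ → ℕ) (w w' : List ℕ) (x : ℕ) :
    evalApp tb (w ++ w') x = evalApp tb w' (evalApp tb w x) := by
  unfold evalApp
  rw [List.foldl_append]

/-- all numbers below `n` satisfy `P` -/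
def allB : ℕ → (ℕ → Bool) → Bool
  | 0, _ => true
  | n + 1, P => P n && allB n P

theorem allB_spec {n : ℕ} {P : ℕ → Bool} (h : allB n P = true) : ∀ x, x < n → P x = true := by
  induction n with
  | zero => intro x hx; exact absurd hx (Nat.not_lt_zero _)
  | succ n ih =>
    intro x hx
    rw [allB, Bool.and_eq_true] at h
    rcases Nat.lt_succ_iff_lt_or_eq.1 hx with h1 | h1
    · exact ih h.2 x h1
    · rw [h1]; exact h.1

/-- the number of `x < n` with `P x` -/
def cntB : ℕ → (ℕ → Bool) → ℕ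
  | 0, _ => 0
  | n + 1, P => cntB n P + (if P n then 1 else 0)

variable {N : ℕ}

/-- a permutation of `Fin N` as a function on `ℕ` -/
def gN (g : Equiv.Perm (Fin N)) (x : ℕ) : ℕ := if h : x < N then (g ⟨x, h⟩).1 else x

theorem gN_of_lt (g : Equiv.Perm (Fin N)) {x : ℕ} (h : x < N) : gN g x = (g ⟨x, h⟩).1 := by
  rw [gN, dif_pos h]

theorem gN_fin (g : Equiv.Perm (Fin N)) (x : Fin N) : gN g x.1 = (g x).1 := by
  rw [gN_of_lt g x.2]

theorem gN_lt (g : Equiv.Perm (Fin N)) {x : ℕ} (h : x < N) : gN g x < N := by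
  rw [gN_of_lt g h]; exact (g ⟨x, h⟩).2

theorem gN_one (x : ℕ) : gN (1 : Equiv.Perm (Fin N)) x = x := by
  unfold gN
  split_ifs <;> rfl

theorem gN_mul (g g' : Equiv.Perm (Fin N)) (x : ℕ) : gN (g * g') x = gN g (gN g' x) := by
  by_cases h : x < N
  · rw [gN_of_lt _ h, gN_of_lt g' h, gN_fin]
    rfl
  · have e1 : gN g' x = x := by rw [gN, dif_neg h]
    have e2 : gN g x = x := by rw [gN, dif_neg h]
    have e3 : gN (g * g') x = x := by rw [gN, dif_neg h]
    rw [e1, e2, e3]

theorem gN_inv_gN (g : Equiv.Perm (Fin N)) (x : ℕ) : gN g⁻¹ (gN g x) = x := by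
  rw [← gN_mul, inv_mul_cancel, gN_one]

theorem gN_gN_inv (g : Equiv.Perm (Fin N)) (x : ℕ) : gN g (gN g⁻¹ x) = x := by
  rw [← gN_mul, mul_inv_cancel, gN_one]

theorem ext_gN {g g' : Equiv.Perm (Fin N)} (h : ∀ x, x < N → gN g x = gN g' x) : g = g' := by
  apply Equiv.ext
  intro x
  apply Fin.ext
  rw [← gN_fin, ← gN_fin]
  exact h x.1 x.2

/-- the function `f` is the action of an element of `K` -/
def Real (K : Subgroup (Equiv.Perm (Fin N))) (f : ℕ → ℕ) : Prop :=
  ∃ g ∈ K, ∀ x, x < N → gN g x = f x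

theorem Real.lt {K : Subgroup (Equiv.Perm (Fin N))} {f : ℕ → ℕ} (h : Real K f) {x : ℕ}
    (hx : x < N) : f x < N := by
  obtain ⟨g, -, hg⟩ := h
  rw [← hg x hx]
  exact gN_lt g hx

theorem Real.mono {K K' : Subgroup (Equiv.Perm (Fin N))} (hK : K ≤ K') {f : ℕ → ℕ}
    (h : Real K f) : Real K' f := by
  obtain ⟨g, hg, h⟩ := h
  exact ⟨g, hK hg, h⟩

theorem real_evalApp {K : Subgroup (Equiv.Perm (Fin N))} {tb : ℕ → ℕ → ℕ} :
    ∀ w : List ℕ, (∀ k ∈ w, Real K (tb k)) → Real K (evalApp tb w) := by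
  intro w
  induction w with
  | nil =>
    intro _
    exact ⟨1, K.one_mem, fun x _ => gN_one x⟩
  | cons k w ih =>
    intro h
    obtain ⟨g, hg, hg'⟩ := h k List.mem_cons_self
    obtain ⟨g2, hg2, hg2'⟩ := ih fun k' hk' => h k' (List.mem_cons_of_mem _ hk')
    refine ⟨g2 * g, K.mul_mem hg2 hg, fun x hx => ?_⟩
    rw [gN_mul, evalApp_cons, hg' x hx, hg2' _ (by rw [← hg' x hx]; exact gN_lt g hx)]

/-- a table is realised if it satisfies `wL = table ∘ wR` for realised words -/
theorem real_of_cert {K : Subgroup (Equiv.Perm (Fin N))} {tb : ℕ → ℕ → ℕ} {f : ℕ → ℕ}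
    {wL wR : List ℕ} (hL : ∀ k ∈ wL, Real K (tb k)) (hR : ∀ k ∈ wR, Real K (tb k))
    (h : ∀ x, x < N → evalApp tb wL x = f (evalApp tb wR x)) : Real K f := by
  obtain ⟨gL, hgL, hgL'⟩ := real_evalApp wL hL
  obtain ⟨gR, hgR, hgR'⟩ := real_evalApp wR hR
  refine ⟨gL * gR⁻¹, K.mul_mem hgL (K.inv_mem hgR), fun x hx => ?_⟩
  have hy : gN gR⁻¹ x < N := gN_lt _ hx
  rw [gN_mul, hgL' _ hy, h _ hy, ← hgR' _ hy, gN_gN_inv]

theorem Real.comp {K : Subgroup (Equiv.Perm (Fin N))} {f f' : ℕ → ℕ} (h : Real K f)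
    (h' : Real K f') : Real K (fun x => f (f' x)) := by
  obtain ⟨g, hg, hg'⟩ := h
  obtain ⟨g2, hg2, hg2'⟩ := h'
  refine ⟨g * g2, K.mul_mem hg hg2, fun x hx => ?_⟩
  rw [gN_mul, hg2' x hx, hg' _ (by rw [← hg2' x hx]; exact gN_lt g2 hx)]

theorem real_id {K : Subgroup (Equiv.Perm (Fin N))} : Real K (fun x => x) :=
  ⟨1, K.one_mem, fun x _ => gN_one x⟩

/-- a table is realised if `fL = table ∘ fR` for realised functions `fL`, `fR` -/
theorem real_of_eq {K : Subgroup (Equiv.Perm (Fin N))} {f fL fR : ℕ → ℕ} (hL : Real K fL)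
    (hR : Real K fR) (h : ∀ x, x < N → fL x = f (fR x)) : Real K f := by
  obtain ⟨gL, hgL, hgL'⟩ := hL
  obtain ⟨gR, hgR, hgR'⟩ := hR
  refine ⟨gL * gR⁻¹, K.mul_mem hgL (K.inv_mem hgR), fun x hx => ?_⟩
  have hy : gN gR⁻¹ x < N := gN_lt _ hx
  rw [gN_mul, hgL' _ hy, h _ hy, ← hgR' _ hy, gN_gN_inv]

/-! ### Levels -/

/-- a level: base point, number of generators, the action of the generator with a given label,
labels and ranks of the Schreier tree. Label `0`: not in the orbit; `1`: the base point;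
`l + 2`: apply generator number `l`. The rank is the distance from the base point. -/
structure Lv where
  b : ℕ
  ng : ℕ
  step : ℕ → ℕ → ℕ
  lab : ℕ → ℕ
  rk : ℕ → ℕ

/-- the check of a level -/
def lvOK (N : ℕ) (L : Lv) : Bool :=
  Nat.blt L.b N && Nat.beq (L.lab L.b) 1 && Nat.beq (L.rk L.b) 0 &&
    allB N (fun p =>
      Nat.beq (L.lab p) 0 || (Nat.beq (L.lab p) 1 && Nat.beq p L.b) ||
      (Nat.ble 2 (L.lab p) && Nat.blt (L.lab p) (L.ng + 2) &&
        !(Nat.beq (L.lab (L.step (L.lab p) p)) 0) &&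
        Nat.beq (Nat.succ (L.rk (L.step (L.lab p) p))) (L.rk p)))

/-- the labels on the path from `p` to the base point -/
def walkW (L : Lv) : ℕ → ℕ → List ℕ
  | 0, _ => []
  | fuel + 1, p => L.lab p :: walkW L fuel (L.step (L.lab p) p)

/-- apply the generators with the given labels one after the other -/
def evalL (L : Lv) : List ℕ → ℕ → ℕ
  | [], x => x
  | l :: w, x => evalL L w (L.step l x)

/-- walk from `p` to the base point, applying the generators to the tracked points -/
def walkT (L : Lv) : ℕ → ℕ → List ℕ → List ℕ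
  | 0, _, ts => ts
  | fuel + 1, p, ts => walkT L fuel (L.step (L.lab p) p) (ts.map (L.step (L.lab p)))

theorem walkT_eq (L : Lv) : ∀ (fuel p : ℕ) (ts : List ℕ),
    walkT L fuel p ts = ts.map (evalL L (walkW L fuel p)) := by
  intro fuel
  induction fuel with
  | zero =>
    intro p ts
    show ts = ts.map (fun x => x)
    exact (List.map_id' ts).symm
  | succ fuel ih =>
    intro p ts
    rw [walkT, ih, walkW, List.map_map]
    rfl

theorem blt_true {a b : ℕ} (h : Nat.blt a b = true) : a < b := by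
  rw [Nat.blt] at h
  exact Nat.le_of_ble_eq_true h

theorem lvOK_b {L : Lv} (h : lvOK N L = true) : L.b < N := by
  simp only [lvOK, Bool.and_eq_true] at h
  exact blt_true h.1.1.1

theorem lvOK_lab_b {L : Lv} (h : lvOK N L = true) : L.lab L.b = 1 := by
  simp only [lvOK, Bool.and_eq_true] at h
  exact Nat.eq_of_beq_eq_true h.1.1.2

theorem lvOK_rk_b {L : Lv} (h : lvOK N L = true) : L.rk L.b = 0 := by
  simp only [lvOK, Bool.and_eq_true] at h
  exact Nat.eq_of_beq_eq_true h.1.2

theorem lvOK_step {L : Lv} (h : lvOK N L = true) {p : ℕ} (hp : p < N)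
    (h0 : L.lab p ≠ 0) :
    (L.lab p = 1 ∧ p = L.b) ∨ (2 ≤ L.lab p ∧ L.lab p < L.ng + 2 ∧
      L.lab (L.step (L.lab p) p) ≠ 0 ∧ L.rk (L.step (L.lab p) p) + 1 = L.rk p) := by
  simp only [lvOK, Bool.and_eq_true] at h
  have h2 := allB_spec h.2 p hp
  simp only [Bool.or_eq_true, Bool.and_eq_true, Bool.not_eq_true'] at h2
  rcases h2 with (h2 | h2) | h2
  · exact absurd (Nat.eq_of_beq_eq_true h2) h0
  · exact Or.inl ⟨Nat.eq_of_beq_eq_true h2.1, Nat.eq_of_beq_eq_true h2.2⟩
  · right
    refine ⟨Nat.le_of_ble_eq_true h2.1.1.1, blt_true h2.1.1.2, ?_, Nat.eq_of_beq_eq_true h2.2⟩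
    intro h3
    have := h2.1.2
    rw [h3] at this
    exact absurd this (by decide)

theorem walk_spec {K : Subgroup (Equiv.Perm (Fin N))} {L : Lv}
    (h : lvOK N L = true) (hr : ∀ l, 2 ≤ l → l < L.ng + 2 → Real K (L.step l)) :
    ∀ fuel p, p < N → L.lab p ≠ 0 → L.rk p = fuel →
      (∀ l ∈ walkW L fuel p, 2 ≤ l ∧ l < L.ng + 2) ∧ evalL L (walkW L fuel p) p = L.b := by
  intro fuel
  induction fuel with
  | zero =>
    intro p hp h0 hrk
    rcases lvOK_step h hp h0 with h1 | h1
    · exact ⟨fun k hk => absurd hk (by rw [walkW]; exact List.not_mem_nil), by rw [walkW]; exact h1.2⟩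
    · omega
  | succ fuel ih =>
    intro p hp h0 hrk
    rcases lvOK_step h hp h0 with h1 | h1
    · rw [h1.2, lvOK_rk_b h] at hrk
      omega
    · have hq : L.step (L.lab p) p < N := (hr _ h1.1 h1.2.1).lt hp
      obtain ⟨i1, i2⟩ := ih _ hq h1.2.2.1 (by omega)
      rw [walkW]
      refine ⟨fun k hk => ?_, ?_⟩
      · rcases List.mem_cons.1 hk with rfl | hk
        · exact ⟨h1.1, h1.2.1⟩
        · exact i1 k hk
      · rw [evalL]
        exact i2

theorem real_evalL {K : Subgroup (Equiv.Perm (Fin N))} {L : Lv} :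
    ∀ w : List ℕ, (∀ l ∈ w, Real K (L.step l)) → Real K (evalL L w) := by
  intro w
  induction w with
  | nil =>
    intro _
    exact ⟨1, K.one_mem, fun x _ => gN_one x⟩
  | cons k w ih =>
    intro h
    obtain ⟨g, hg, hg'⟩ := h k List.mem_cons_self
    obtain ⟨g2, hg2, hg2'⟩ := ih fun k' hk' => h k' (List.mem_cons_of_mem _ hk')
    refine ⟨g2 * g, K.mul_mem hg2 hg, fun x hx => ?_⟩
    rw [gN_mul, evalL, hg' x hx, hg2' _ (by rw [← hg' x hx]; exact gN_lt g hx)]

/-- sifting: the tracked list starts with the images of the base points under an unknown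
element; the result is the list of the images of the remaining points under the inverse -/
def sift : List Lv → List ℕ → Option (List ℕ)
  | [], tr => some tr
  | _ :: _, [] => none
  | L :: Ls, t :: tr =>
    if L.lab t = 0 then none else sift Ls (walkT L (L.rk t) t tr)

/-- the base point of a level as an element of `Fin N` -/
def bF (N : ℕ) [NeZero N] (L : Lv) : Fin N := Fin.ofNat N L.b

theorem bF_val [NeZero N] {L : Lv} (h : L.b < N) : (bF N L).1 = L.b := by
  show L.b % N = L.b
  exact Nat.mod_eq_of_lt h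

/-- the orbit of a level as a set of points -/
def orbF (N : ℕ) (L : Lv) : Finset (Fin N) := Finset.univ.filter (fun p => L.lab p.1 ≠ 0)

def pairOf (N : ℕ) [NeZero N] (L : Lv) : Fin N × Finset (Fin N) := (bF N L, orbF N L)

/-- the generators of each level are realised in the stabiliser of the earlier base points,
and the trees are valid -/
def GensFix [NeZero N] (K : Subgroup (Equiv.Perm (Fin N))) :
    List (Fin N) → List Lv → Prop
  | _, [] => True
  | done, L :: Ls => (∀ l, 2 ≤ l → l < L.ng + 2 → Real (fixG K done) (L.step l)) ∧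
      lvOK N L = true ∧ GensFix K (bF N L :: done) Ls

theorem exists_walk [NeZero N] {K : Subgroup (Equiv.Perm (Fin N))}
    {done : List (Fin N)} {L : Lv}
    (hr : ∀ l, 2 ≤ l → l < L.ng + 2 → Real (fixG K done) (L.step l))
    (hok : lvOK N L = true) (p : ℕ) (hp : p < N) (h0 : L.lab p ≠ 0) :
    ∃ v ∈ fixG K done, (∀ x, x < N → gN v x = evalL L (walkW L (L.rk p) p) x) ∧
      gN v p = L.b := by
  obtain ⟨i1, i2⟩ := walk_spec hok hr (L.rk p) p hp h0 rfl
  obtain ⟨v, hv, hv'⟩ := real_evalL (K := fixG K done) (L := L) _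
    fun k hk => hr k (i1 k hk).1 (i1 k hk).2
  exact ⟨v, hv, hv', by rw [hv' p hp, i2]⟩

theorem good_of_gensFix [NeZero N] {K : Subgroup (Equiv.Perm (Fin N))} :
    ∀ (Ls : List Lv) (done : List (Fin N)), GensFix K done Ls →
      Good K done (Ls.map (pairOf N)) := by
  intro Ls
  induction Ls with
  | nil => intro _ _; trivial
  | cons L Ls ih =>
    intro done h
    refine ⟨?_, ih _ h.2.2⟩
    intro p hp
    have h0 : L.lab p.1 ≠ 0 := (Finset.mem_filter.1 hp).2
    obtain ⟨v, hv, -, hv2⟩ := exists_walk h.1 h.2.1 p.1 p.2 h0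
    refine ⟨v, hv, ?_⟩
    apply Fin.ext
    rw [← gN_fin, hv2]
    exact (bF_val (lvOK_b h.2.1)).symm

theorem gensFix_b [NeZero N] {K : Subgroup (Equiv.Perm (Fin N))} :
    ∀ (Ls : List Lv) (done : List (Fin N)), GensFix K done Ls → ∀ L ∈ Ls, L.b < N := by
  intro Ls
  induction Ls with
  | nil => intro _ _ L h; exact absurd h List.not_mem_nil
  | cons L0 Ls ih =>
    intro done h L hL
    rcases List.mem_cons.1 hL with rfl | hL
    · exact lvOK_b h.2.1
    · exact ih _ h.2.2 L hL

theorem sift_spec [NeZero N] {K : Subgroup (Equiv.Perm (Fin N))} :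
    ∀ (Ls : List Lv) (done : List (Fin N)), GensFix K done Ls →
      Concl K done (Ls.map (pairOf N)) → ∀ g ∈ fixG K done, ∀ e : List ℕ, (∀ x ∈ e, x < N) →
      sift Ls ((Ls.map fun L => gN g L.b) ++ e) = some (e.map (gN g⁻¹)) := by
  intro Ls
  induction Ls with
  | nil =>
    intro done _ hc g hg e _
    have : g = 1 := hc g hg
    subst this
    rw [List.map_nil, List.nil_append, sift, inv_one]
    congr 1
    symm
    calc e.map (gN (1 : Equiv.Perm (Fin N))) = e.map id := by
          congr 1; funext x; exact gN_one x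
      _ = e := List.map_id e
  | cons L Ls ih =>
    intro done hgf hc g hg e he
    have hb := lvOK_b hgf.2.1
    have ht : gN g L.b < N := gN_lt g hb
    have h0 : L.lab (gN g L.b) ≠ 0 := by
      have h1 : (g (bF N L)).1 = gN g L.b := by
        rw [← gN_fin, bF_val hb]
      have h2 : L.lab (g (bF N L)).1 ≠ 0 := (Finset.mem_filter.1 (hc.1 g hg)).2
      rwa [h1] at h2
    obtain ⟨v, hv, hv1, hv2⟩ := exists_walk hgf.1 hgf.2.1 (gN g L.b) ht h0
    have hvg : v * g ∈ fixG K (bF N L :: done) := by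
      rw [mem_fixG_cons]
      refine ⟨(fixG K done).mul_mem hv hg, ?_⟩
      apply Fin.ext
      rw [← gN_fin, gN_mul, bF_val hb, hv2]
    have hih := ih (bF N L :: done) hgf.2.2 hc.2 (v * g) hvg
      (e.map (evalL L (walkW L (L.rk (gN g L.b)) (gN g L.b))))
      (by
        intro x hx
        obtain ⟨y, hy, rfl⟩ := List.mem_map.1 hx
        rw [← hv1 y (he y hy)]
        exact gN_lt v (he y hy))
    rw [List.map_cons, List.cons_append, sift, if_neg h0, walkT_eq, List.map_append]
    have e1 : (List.map (fun L => gN g L.b) Ls).map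
        (evalL L (walkW L (L.rk (gN g L.b)) (gN g L.b))) =
        Ls.map fun L => gN (v * g) L.b := by
      rw [List.map_map]
      apply List.map_congr_left
      intro L' hL'
      show evalL L _ (gN g L'.b) = gN (v * g) L'.b
      rw [gN_mul]
      exact (hv1 _ (gN_lt g (gensFix_b Ls _ hgf.2.2 L' hL'))).symm
    rw [e1, hih, List.map_map]
    congr 1
    apply List.map_congr_left
    intro x hx
    show gN (v * g)⁻¹ (evalL L _ x) = gN g⁻¹ x
    rw [← hv1 x (he x hx), mul_inv_rev, gN_mul, gN_inv_gN]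

end Cfsg.Agent.Lib.Helper8.SQ
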