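import Cfsg.Agent.Lib.Helper8.SQ2

set_option autoImplicit false

/-! Stabiliser chains from Boolean checks and the known order of the group; sifting and
transporter tests. -/

namespace Cfsg.Agent.Lib.Helper8.SQ

variable {N : ℕ}

/-- the generators of each level fix the earlier base points -/
def fixOK : List ℕ → List Lv → Bool
  | _, [] => true
  | done, L :: Ls => allB L.ng (fun i => done.all (fun b => Nat.beq (L.step (i + 2) b) b)) &&
      fixOK (L.b :: done) Ls

/-- the product of the orbit sizes -/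
def sizesN (N : ℕ) : List Lv → ℕ
  | [] => 1
  | L :: Ls => cntB N (fun p => !(Nat.beq (L.lab p) 0)) * sizesN N Ls

theorem cntB_eq_sum (n : ℕ) (P : ℕ → Bool) :
    cntB n P = ∑ i ∈ Finset.range n, if P i = true then 1 else 0 := by
  induction n with
  | zero => rfl
  | succ n ih => rw [cntB, Finset.sum_range_succ, ih]

theorem card_orbF (N : ℕ) (L : Lv) :
    (orbF N L).card = cntB N (fun p => !(Nat.beq (L.lab p) 0)) := by
  rw [orbF, Finset.card_filter, cntB_eq_sum,
    ← Fin.sum_univ_eq_sum_range (fun i => if (!(Nat.beq (L.lab i) 0)) = true then 1 else 0) N]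
  apply Finset.sum_congr rfl
  intro p _
  by_cases h : L.lab p.1 = 0
  · rw [if_neg (not_not.2 h), if_neg]
    rw [h]; decide
  · rw [if_pos h, if_pos]
    rw [Bool.not_eq_true']
    cases hb : Nat.beq (L.lab p.1) 0
    · rfl
    · exact absurd (Nat.eq_of_beq_eq_true hb) h

theorem sizes_eq [NeZero N] (Ls : List Lv) : sizes (Ls.map (pairOf N)) = sizesN N Ls := by
  induction Ls with
  | nil => rfl
  | cons L Ls ih =>
    rw [List.map_cons, sizes, sizesN, ih]
    show (orbF N L).card * _ = _
    rw [card_orbF]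

theorem gensFix_of_checks [NeZero N] {K : Subgroup (Equiv.Perm (Fin N))} :
    ∀ (Ls : List Lv) (done : List (Fin N)),
      (∀ L ∈ Ls, ∀ l, 2 ≤ l → l < L.ng + 2 → Real K (L.step l)) →
      (∀ L ∈ Ls, lvOK N L = true) → fixOK (done.map fun b => b.1) Ls = true →
      GensFix K done Ls := by
  intro Ls
  induction Ls with
  | nil => intro _ _ _ _; trivial
  | cons L Ls ih =>
    intro done hm hok hfix
    rw [fixOK, Bool.and_eq_true] at hfix
    have hL := hok L List.mem_cons_self
    refine ⟨?_, hL, ?_⟩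
    · intro l hl1 hl2
      obtain ⟨g, hg, hg'⟩ := hm L List.mem_cons_self l hl1 hl2
      refine ⟨g, ⟨hg, ?_⟩, hg'⟩
      intro b hb
      have h1 := allB_spec hfix.1 (l - 2) (by omega)
      rw [List.all_eq_true] at h1
      have h2 := Nat.eq_of_beq_eq_true (h1 b.1 (List.mem_map.2 ⟨b, hb, rfl⟩))
      have e : l - 2 + 2 = l := by omega
      rw [e] at h2
      apply Fin.ext
      rw [← gN_fin, hg' b.1 b.2, h2]
    · apply ih
      · intro L' hL' l hl1 hl2
        exact hm L' (List.mem_cons_of_mem _ hL') l hl1 hl2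
      · intro L' hL'
        exact hok L' (List.mem_cons_of_mem _ hL')
      · rw [List.map_cons, bF_val (lvOK_b hL)]
        exact hfix.2

/-- a verified chain -/
structure ChainOK [NeZero N] (K : Subgroup (Equiv.Perm (Fin N)))
    (Ls : List Lv) : Prop where
  gf : GensFix K [] Ls
  concl : Concl K [] (Ls.map (pairOf N))

theorem chainOK_of_checks [NeZero N] (K : Subgroup (Equiv.Perm (Fin N))) (Ls : List Lv)
    (hm : ∀ L ∈ Ls, ∀ l, 2 ≤ l → l < L.ng + 2 → Real K (L.step l))
    (hok : ∀ L ∈ Ls, lvOK N L = true)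
    (hfix : fixOK [] Ls = true) (hcard : Nat.card K ≤ sizesN N Ls) : ChainOK K Ls := by
  have gf : GensFix K [] Ls := gensFix_of_checks Ls [] hm hok hfix
  refine ⟨gf, ?_⟩
  apply tight K _ [] (good_of_gensFix Ls [] gf)
  rw [fixG_nil, sizes_eq]
  exact hcard

theorem concl_eq_one [NeZero N] {K : Subgroup (Equiv.Perm (Fin N))} :
    ∀ (Ps : List (Fin N × Finset (Fin N))) (done : List (Fin N)), Concl K done Ps →
      ∀ g ∈ fixG K done, (∀ P ∈ Ps, g P.1 = P.1) → g = 1 := by
  intro Ps
  induction Ps with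
  | nil => intro done hc g hg _; exact hc g hg
  | cons P Ps ih =>
    intro done hc g hg hb
    apply ih (P.1 :: done) hc.2 g
    · rw [mem_fixG_cons]
      exact ⟨hg, hb P List.mem_cons_self⟩
    · intro P' hP'
      exact hb P' (List.mem_cons_of_mem _ hP')

namespace ChainOK

variable [NeZero N] {K : Subgroup (Equiv.Perm (Fin N))} {Ls : List Lv}

theorem b_lt (h : ChainOK K Ls) {L : Lv} (hL : L ∈ Ls) : L.b < N := gensFix_b Ls [] h.gf L hL

/-- an element of the group fixing the base is trivial -/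
theorem eq_one (h : ChainOK K Ls) {g : Equiv.Perm (Fin N)} (hg : g ∈ K)
    (hb : ∀ L ∈ Ls, gN g L.b = L.b) : g = 1 := by
  apply concl_eq_one _ [] h.concl g (by rw [fixG_nil]; exact hg)
  intro P hP
  obtain ⟨L, hL, rfl⟩ := List.mem_map.1 hP
  apply Fin.ext
  show (g (bF N L)).1 = (bF N L).1
  rw [← gN_fin, bF_val (h.b_lt hL)]
  exact hb L hL

/-- two elements of the group that agree on the base are equal -/
theorem eq_of_base (h : ChainOK K Ls) {g g' : Equiv.Perm (Fin N)} (hg : g ∈ K) (hg' : g' ∈ K)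
    (hb : ∀ L ∈ Ls, gN g L.b = gN g' L.b) : g = g' := by
  have : g'⁻¹ * g = 1 := by
    apply h.eq_one (K.mul_mem (K.inv_mem hg') hg)
    intro L hL
    rw [gN_mul, hb L hL, gN_inv_gN]
  calc g = g' * (g'⁻¹ * g) := by group
    _ = g' := by rw [this, mul_one]

/-- sifting the base images of an element of the group succeeds and returns the images of the
extra points under the inverse -/
theorem sift_eq (h : ChainOK K Ls) {g : Equiv.Perm (Fin N)} (hg : g ∈ K) (e : List ℕ)
    (he : ∀ x ∈ e, x < N) :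
    sift Ls ((Ls.map fun L => gN g L.b) ++ e) = some (e.map (gN g⁻¹)) :=
  sift_spec Ls [] h.gf h.concl g (by rw [fixG_nil]; exact hg) e he

end ChainOK

/-- all numbers in `[lo, lo + n)` satisfy `P` -/
def allR (lo n : ℕ) (P : ℕ → Bool) : Bool := allB n (fun i => P (Nat.add lo i))

theorem allR_spec {lo n : ℕ} {P : ℕ → Bool} (h : allR lo n P = true) :
    ∀ x, lo ≤ x → x < lo + n → P x = true := by
  intro x h1 h2
  have := allB_spec h (x - lo) (by omega)
  have e : Nat.add lo (x - lo) = x := by show lo + (x - lo) = x; omega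
  rwa [e] at this

/-- the list `[p, f p, f (f p), …]` of length `n` -/
def iterL (f : ℕ → ℕ) : ℕ → ℕ → List ℕ
  | 0, _ => []
  | n + 1, p => p :: iterL f n (f p)

theorem iterL_map {f f' : ℕ → ℕ} {u : ℕ → ℕ} (hu : ∀ x, x < N → u (f x) = f' (u x))
    (hf : ∀ x, x < N → f x < N) : ∀ (n p : ℕ), p < N →
    (iterL f n p).map u = iterL f' n (u p) := by
  intro n
  induction n with
  | zero => intro _ _; rfl
  | succ n ih =>
    intro p hp
    rw [iterL, iterL, List.map_cons, ih (f p) (hf p hp), hu p hp]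

/-- the transporter test: if `g` conjugates `py` to `py'` and the base is an orbit segment of
`py`, then sifting the corresponding orbit segment of `py'` succeeds and the extra points
satisfy the intertwining relation -/
theorem transporter_test [NeZero N] {K : Subgroup (Equiv.Perm (Fin N))}
    {Ls : List Lv} (h : ChainOK K Ls) (yT yT' : ℕ → ℕ) (py py' : Equiv.Perm (Fin N))
    (hy : ∀ x, x < N → gN py x = yT x) (hy' : ∀ x, x < N → gN py' x = yT' x)
    (b0 : ℕ) (hb0 : b0 < N) (hbase : Ls.map (fun L => L.b) = iterL yT Ls.length b0)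
    {g : Equiv.Perm (Fin N)} (hg : g ∈ K) (hc : g * py = py' * g) (e : List ℕ)
    (he : ∀ x ∈ e, x < N) :
    sift Ls (iterL yT' Ls.length (gN g b0) ++ e) = some (e.map (gN g⁻¹)) ∧
      ∀ q, q < N → gN g⁻¹ (yT' q) = yT (gN g⁻¹ q) := by
  constructor
  · have e1 : (Ls.map fun L => gN g L.b) = iterL yT' Ls.length (gN g b0) := by
      have : (Ls.map fun L => gN g L.b) = (Ls.map fun L => L.b).map (gN g) := by
        rw [List.map_map]; rfl
      rw [this, hbase]
      apply iterL_map (N := N) _ _ _ _ hb0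
      · intro x hx
        rw [← hy x hx, ← gN_mul, hc, gN_mul, hy' _ (gN_lt g hx)]
      · intro x hx
        rw [← hy x hx]; exact gN_lt py hx
    rw [← e1]
    exact h.sift_eq hg e he
  · intro q hq
    have hc' : g⁻¹ * py' = py * g⁻¹ := by
      calc g⁻¹ * py' = g⁻¹ * (py' * g) * g⁻¹ := by group
        _ = g⁻¹ * (g * py) * g⁻¹ := by rw [hc]
        _ = py * g⁻¹ := by group
    rw [← hy' q hq, ← gN_mul, hc', gN_mul, hy _ (gN_lt _ hq)]

end Cfsg.Agent.Lib.Helper8.SQ
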