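import Mathlib
import Cfsg.Prelude.Def_Transfer

/-! A 2-group acting on an odd abelian minimal normal subgroup: the inverting involution. -/
set_option autoImplicit false

namespace Cfsg.Agent.Lib.Helper8.SRAvg

open Subgroup

variable {G : Type*} [Group G] [Finite G]

omit [Finite G] in
/-- elements of `G = N P` decompose -/
theorem exists_mul_of_sup_eq_top (N P : Subgroup G) (hN : N.Normal) (hprod : N ⊔ P = ⊤) (g : G) :
    ∃ n ∈ N, ∃ x ∈ P, g = n * x := by
  haveI := hN
  have hg : g ∈ ((N ⊔ P : Subgroup G) : Set G) := by rw [hprod]; exact mem_top g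
  rw [Subgroup.normal_mul] at hg
  obtain ⟨n, hn, x, hx, rfl⟩ := Set.mem_mul.1 hg
  exact ⟨n, hn, x, hx, rfl⟩

/-- a central involution of `P` inverts the minimal normal subgroup `N` -/
theorem exists_inverting_involution (N P : Subgroup G) (hN : N.Normal)
    (hNc : ∀ a ∈ N, ∀ b ∈ N, a * b = b * a) (hP : IsPGroup 2 ↥P) (hP1 : P ≠ ⊥)
    (hdisj : N ⊓ P = ⊥) (hprod : N ⊔ P = ⊤)
    (hmin : N ≠ ⊥ ∧ ∀ M : Subgroup G, M.Normal → M ≠ ⊥ → N ≤ M) :
    ∃ z ∈ P, z * z = 1 ∧ ∀ n ∈ N, z * n * z⁻¹ = n⁻¹ := by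
  haveI : Fact (Nat.Prime 2) := ⟨Nat.prime_two⟩
  haveI : Nontrivial P := (Subgroup.nontrivial_iff_ne_bot P).2 hP1
  haveI := IsPGroup.center_nontrivial hP
  have hZ : IsPGroup 2 (center ↥P) := hP.to_subgroup _
  obtain ⟨k, hk0, hk⟩ := (hZ.nontrivial_iff_card).1 inferInstance
  have h2 : 2 ∣ Nat.card (center ↥P) := by
    rw [hk]
    exact dvd_pow_self 2 hk0.ne'
  obtain ⟨z₀, hz₀⟩ := exists_prime_orderOf_dvd_card' 2 h2
  set z : G := ((z₀ : ↥P) : G) with hz
  have hzP : z ∈ P := (z₀ : ↥P).2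
  have hzo : orderOf z = 2 := by
    rw [hz, Subgroup.orderOf_coe, Subgroup.orderOf_coe]
    exact hz₀
  have hz2 : z * z = 1 := by
    rw [← pow_two, ← hzo, pow_orderOf_eq_one]
  have hz1 : z ≠ 1 := by
    intro h
    rw [h, orderOf_one] at hzo
    omega
  have hzinv : z⁻¹ = z := inv_eq_of_mul_eq_one_left hz2
  have hzc : ∀ x ∈ P, z * x = x * z := by
    intro x hx
    have := (mem_center_iff.1 z₀.2) ⟨x, hx⟩
    exact (congrArg Subtype.val this).symm
  -- `C_N(z)` is normal
  set C : Subgroup G := N ⊓ centralizer ({z} : Set G) with hC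
  have hCn : C.Normal := by
    refine ⟨fun c hc g => ?_⟩
    obtain ⟨n, hn, x, hx, rfl⟩ := exists_mul_of_sup_eq_top N P hN hprod g
    have hcN : c ∈ N := hc.1
    have hcz : c * z = z * c := mem_centralizer_singleton_iff.1 hc.2
    have h1 : x * c * x⁻¹ ∈ N := hN.conj_mem c hcN x
    have h2 : n * x * c * (n * x)⁻¹ = x * c * x⁻¹ := by
      have : n * x * c * (n * x)⁻¹ = n * (x * c * x⁻¹) * n⁻¹ := by group
      rw [this, hNc n hn _ h1]
      group
    rw [h2]
    refine ⟨h1, ?_⟩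
    show x * c * x⁻¹ ∈ centralizer ({z} : Set G)
    rw [mem_centralizer_singleton_iff]
    have hxz : x⁻¹ * z = z * x⁻¹ := (hzc x⁻¹ (P.inv_mem hx)).symm
    calc x * c * x⁻¹ * z = x * c * (x⁻¹ * z) := by group
      _ = x * c * (z * x⁻¹) := by rw [hxz]
      _ = x * (c * z) * x⁻¹ := by group
      _ = x * (z * c) * x⁻¹ := by rw [hcz]
      _ = (x * z) * c * x⁻¹ := by group
      _ = (z * x) * c * x⁻¹ := by rw [hzc x hx]
      _ = z * (x * c * x⁻¹) := by group
  have hCbot : C = ⊥ := by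
    by_contra hne
    have hNC := hmin.2 C hCn hne
    -- then `z` centralizes `N`
    set D : Subgroup G := P ⊓ centralizer (N : Set G) with hD
    have hDn : D.Normal := by
      refine ⟨fun d hd g => ?_⟩
      obtain ⟨n, hn, x, hx, rfl⟩ := exists_mul_of_sup_eq_top N P hN hprod g
      have hdP : d ∈ P := hd.1
      have hdc : ∀ m ∈ N, m * d = d * m := fun m hm => (mem_centralizer_iff.1 hd.2 m hm)
      have h1 : x * d * x⁻¹ ∈ P := P.mul_mem (P.mul_mem hx hdP) (P.inv_mem hx)
      have h1c : ∀ m ∈ N, m * (x * d * x⁻¹) = (x * d * x⁻¹) * m := by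
        intro m hm
        have hm' : x⁻¹ * m * x ∈ N := by
          have := hN.conj_mem m hm x⁻¹
          rwa [inv_inv] at this
        calc m * (x * d * x⁻¹) = x * ((x⁻¹ * m * x) * d) * x⁻¹ := by group
          _ = x * (d * (x⁻¹ * m * x)) * x⁻¹ := by rw [hdc _ hm']
          _ = (x * d * x⁻¹) * m := by group
      have h2 : n * x * d * (n * x)⁻¹ = x * d * x⁻¹ := by
        have : n * x * d * (n * x)⁻¹ = (n * (x * d * x⁻¹)) * n⁻¹ := by group
        rw [this, h1c n hn]
        group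
      rw [h2]
      refine ⟨h1, ?_⟩
      show x * d * x⁻¹ ∈ centralizer (N : Set G)
      rw [mem_centralizer_iff]
      exact h1c
    have hzD : z ∈ D := by
      refine ⟨hzP, ?_⟩
      show z ∈ centralizer (N : Set G)
      rw [mem_centralizer_iff]
      intro m hm
      have := (hNC hm).2
      exact (mem_centralizer_singleton_iff.1 this)
    have hDne : D ≠ ⊥ := by
      intro h
      rw [h, mem_bot] at hzD
      exact hz1 hzD
    have hND := hmin.2 D hDn hDne
    apply hmin.1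
    rw [eq_bot_iff, ← hdisj]
    intro m hm
    exact ⟨hm, (hND hm).1⟩
  refine ⟨z, hzP, hz2, ?_⟩
  intro n hn
  have h1 : z * n * z⁻¹ ∈ N := hN.conj_mem n hn z
  have hm : n * (z * n * z⁻¹) ∈ C := by
    refine ⟨N.mul_mem hn h1, ?_⟩
    show n * (z * n * z⁻¹) ∈ centralizer ({z} : Set G)
    rw [mem_centralizer_singleton_iff, hzinv]
    have h1' : z * n * z ∈ N := by rw [hzinv] at h1; exact h1
    calc n * (z * n * z) * z = n * z * n * (z * z) := by group
      _ = n * z * n := by rw [hz2, mul_one]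
      _ = (z * z) * n * z * n := by rw [hz2, one_mul]
      _ = z * ((z * n * z) * n) := by group
      _ = z * (n * (z * n * z)) := by rw [hNc _ h1' n hn]
  rw [hCbot, mem_bot] at hm
  exact (eq_inv_of_mul_eq_one_right hm)

end Cfsg.Agent.Lib.Helper8.SRAvg
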