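import Mathlib
import Cfsg.Agent.Lib.Helper8.SRAvg1
import Cfsg.Agent.Lib.Helper8.FS9
import Cfsg.Agent.Lib.Helper8.AFT1
import Cfsg.Agent.Lib.Helper6.Ito

/-! The indicator of the character induced from an extension of a linear character inverted by an
involution. -/
set_option autoImplicit false

namespace Cfsg.Agent.Lib.Helper8.SRAvg

open Subgroup Cfsg.Agent.Lib.Helper6 Cfsg.Agent.Lib.Helper8.FS
open scoped ComplexConjugate

variable {G : Type*} [Group G]

/-- the character of a homomorphism -/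
def chr {N : Type*} [Group N] (μ : N →* ℂˣ) : N → ℂ := fun n => ((μ n : ℂˣ) : ℂ)

variable (N : Subgroup G) (hN : N.Normal) (μ : N →* ℂˣ)

theorem mem_inertia_iff (g : G) : g ∈ inertia N hN (chr μ)
    ↔ ∀ n : N, μ ⟨g * n * g⁻¹, hN.conj_mem n n.2 g⟩ = μ n := by
  rw [mem_inertia]
  constructor
  · intro h n
    have := congrFun h n
    rw [conjFun_apply] at this
    exact Units.ext this
  · intro h
    funext n
    rw [conjFun_apply]
    show ((μ _ : ℂˣ) : ℂ) = ((μ n : ℂˣ) : ℂ)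
    rw [h n]

theorem le_inertia_chr : N ≤ inertia N hN (chr μ) := by
  intro g hg
  rw [mem_inertia_iff]
  intro n
  have h1 : (⟨g * n * g⁻¹, hN.conj_mem n n.2 g⟩ : N) = ⟨g, hg⟩ * n * ⟨g, hg⟩⁻¹ := rfl
  rw [h1, map_mul, map_mul, map_inv, mul_comm (μ ⟨g, hg⟩), mul_assoc, mul_inv_cancel, mul_one]

variable {N} in
theorem conj_mem_inertia {z : G} (hz2 : z * z = 1) (hzinv : ∀ n ∈ N, z * n * z⁻¹ = n⁻¹) {i : G}
    (hi : i ∈ inertia N hN (chr μ)) : z * i * z⁻¹ ∈ inertia N hN (chr μ) := by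
  have hzi : z⁻¹ = z := inv_eq_of_mul_eq_one_left hz2
  rw [mem_inertia_iff] at hi ⊢
  intro n
  have h1 : i * (n : G)⁻¹ * i⁻¹ ∈ N := hN.conj_mem _ (N.inv_mem n.2) i
  have h2 : z * i * z⁻¹ * n * (z * i * z⁻¹)⁻¹ = (i * (n : G)⁻¹ * i⁻¹)⁻¹ := by
    have e1 : z * i * z⁻¹ * n * (z * i * z⁻¹)⁻¹ = z * (i * (z⁻¹ * n * z) * i⁻¹) * z⁻¹ := by group
    have e2 : z⁻¹ * (n : G) * z = (n : G)⁻¹ := by
      have := hzinv n n.2
      rw [hzi] at this ⊢
      exact this
    rw [e1, e2, hzinv _ h1]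
  have h3 : (⟨z * i * z⁻¹ * n * (z * i * z⁻¹)⁻¹, hN.conj_mem n n.2 _⟩ : N)
      = (⟨i * ((n⁻¹ : N) : G) * i⁻¹, hN.conj_mem _ (n⁻¹).2 i⟩ : N)⁻¹ := by
    apply Subtype.ext
    rw [Subgroup.coe_inv]
    exact h2
  rw [h3, map_inv, hi n⁻¹, map_inv, inv_inv]

variable [Fintype G]

local notation "II" => inertia N hN (chr μ)

/-- the indicator is one -/
theorem fsInd_indFun_eq_one {z : G} (hz2 : z * z = 1) (hzinv : ∀ n ∈ N, z * n * z⁻¹ = n⁻¹)
    (ψ : ↥(inertia N hN (chr μ)) →* ℂˣ)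
    (hψ : ∀ n : N, ψ ⟨n, le_inertia_chr N hN μ n.2⟩ = μ n)
    (hψz : ∀ i : ↥(inertia N hN (chr μ)),
      ψ ⟨z * i * z⁻¹, conj_mem_inertia hN μ hz2 hzinv i.2⟩ * ψ i = 1) :
    fsInd (Cfsg.indFun (inertia N hN (chr μ)) (chr ψ)) = 1 := by
  classical
  haveI : Fintype N := Fintype.ofFinite N
  have hNI : N ≤ II := le_inertia_chr N hN μ
  have hzi : z⁻¹ = z := inv_eq_of_mul_eq_one_left hz2
  rw [fsInd_indFun]
  have hmemN : ∀ (g : G) (n : N), g⁻¹ * (n : G) * g ∈ N := by
    intro g n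
    have := hN.conj_mem n n.2 g⁻¹
    rwa [inv_inv] at this
  have hprod : ∀ (g : G) (n : N), (g * (n : G)) * (g * n) = (g * g) * (g⁻¹ * n * g) * n := by
    intro g n; group
  -- the sum over a coset of `N`
  have hcoset : ∀ g : G, ∑ n : N, Cfsg.extendByZero II (chr ψ) ((g * n) * (g * n))
      = if z * g ∈ II then (Nat.card N : ℂ) else 0 := by
    intro g
    split_ifs with hzg
    · have h1 : ∀ n : N, Cfsg.extendByZero II (chr ψ) ((g * n) * (g * n)) = 1 := by
        intro n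
        have hi : z * g * n ∈ II := Subgroup.mul_mem _ hzg (hNI n.2)
        have hi' : z * (z * g * n) * z⁻¹ ∈ II := conj_mem_inertia hN μ hz2 hzinv hi
        have e1 : (g * (n : G)) * (g * n) = (z * (z * g * n) * z⁻¹) * (z * g * n) := by
          rw [hzi]
          have : z * (z * g * ↑n) * z * (z * g * ↑n) = (z * z) * g * n * ((z * z) * g * n) := by
            group
          rw [this, hz2, one_mul]
        have hmem : (g * (n : G)) * (g * n) ∈ II := by
          rw [e1]; exact Subgroup.mul_mem _ hi' hi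
        rw [extendByZero_of_mem _ _ hmem]
        have e2 : (⟨(g * (n : G)) * (g * n), hmem⟩ : II)
            = ⟨z * (z * g * n) * z⁻¹, hi'⟩ * ⟨z * g * n, hi⟩ := Subtype.ext e1
        show ((ψ _ : ℂˣ) : ℂ) = 1
        rw [e2, map_mul, hψz ⟨z * g * n, hi⟩, Units.val_one]
      rw [Finset.sum_congr rfl (fun n _ => h1 n), Finset.sum_const, Finset.card_univ, nsmul_eq_mul,
        mul_one, Nat.card_eq_fintype_card]
    · by_cases hg2 : g * g ∈ II
      · set μ' : N →* ℂˣ := μ.comp (conjHom N hN N le_rfl g) with hμ'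
        have hμ'a : ∀ n : N, μ' n = μ ⟨g⁻¹ * n * g, hmemN g n⟩ := fun n => rfl
        have h1 : ∀ n : N, Cfsg.extendByZero II (chr ψ) ((g * n) * (g * n))
            = ((ψ ⟨g * g, hg2⟩ : ℂˣ) : ℂ) * (((μ' * μ) n : ℂˣ) : ℂ) := by
          intro n
          have hmem : (g * (n : G)) * (g * n) ∈ II := by
            rw [hprod]
            exact Subgroup.mul_mem _ (Subgroup.mul_mem _ hg2 (hNI (hmemN g n))) (hNI n.2)
          rw [extendByZero_of_mem _ _ hmem]
          have e2 : (⟨(g * (n : G)) * (g * n), hmem⟩ : II)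
              = ⟨g * g, hg2⟩ * ⟨g⁻¹ * n * g, hNI (hmemN g n)⟩ * ⟨n, hNI n.2⟩ :=
            Subtype.ext (hprod g n)
          show ((ψ _ : ℂˣ) : ℂ) = _
          rw [e2, map_mul, map_mul, hψ n, hψ ⟨g⁻¹ * n * g, hmemN g n⟩, MonoidHom.mul_apply, hμ'a,
            Units.val_mul, Units.val_mul, Units.val_mul, mul_assoc]
        rw [Finset.sum_congr rfl (fun n _ => h1 n), ← Finset.mul_sum, AFT.sum_hom]
        have hne : μ' * μ ≠ 1 := by
          intro h
          apply hzg
          rw [mem_inertia_iff]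
          intro n
          -- `μ (g n g⁻¹) = (μ n)⁻¹`
          have h2 : g * (n : G) * g⁻¹ ∈ N := hN.conj_mem n n.2 g
          have h3 := DFunLike.congr_fun h ⟨g * n * g⁻¹, h2⟩
          rw [MonoidHom.mul_apply, hμ'a, MonoidHom.one_apply] at h3
          have h4 : (⟨g⁻¹ * ((⟨g * n * g⁻¹, h2⟩ : N) : G) * g, hmemN g ⟨g * n * g⁻¹, h2⟩⟩ : N) = n := by
            apply Subtype.ext
            show g⁻¹ * (g * (n : G) * g⁻¹) * g = n
            group
          rw [h4] at h3
          have h5 : z * g * n * (z * g)⁻¹ = (g * (n : G) * g⁻¹)⁻¹ := by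
            have : z * g * n * (z * g)⁻¹ = z * (g * n * g⁻¹) * z⁻¹ := by group
            rw [this, hzinv _ h2]
          have h6 : (⟨z * g * n * (z * g)⁻¹, hN.conj_mem n n.2 _⟩ : N)
              = (⟨g * n * g⁻¹, h2⟩ : N)⁻¹ := by
            apply Subtype.ext
            rw [Subgroup.coe_inv]
            exact h5
          rw [h6, map_inv]
          exact inv_eq_of_mul_eq_one_left h3
        rw [if_neg hne, mul_zero]
      · apply Finset.sum_eq_zero
        intro n _
        apply extendByZero_of_not_mem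
        intro hmem
        apply hg2
        rw [hprod] at hmem
        have h1 : g⁻¹ * (n : G) * g * n ∈ II := Subgroup.mul_mem _ (hNI (hmemN g n)) (hNI n.2)
        have h2 : g * g = (g * g * (g⁻¹ * n * g) * n) * (g⁻¹ * (n : G) * g * n)⁻¹ := by group
        rw [h2]
        exact Subgroup.mul_mem _ hmem (Subgroup.inv_mem _ h1)
  -- average over `N`
  have havg : (Nat.card N : ℂ) * ∑ g : G, Cfsg.extendByZero II (chr ψ) (g * g)
      = ∑ g : G, ∑ n : N, Cfsg.extendByZero II (chr ψ) ((g * n) * (g * n)) := by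
    rw [Finset.sum_comm]
    have h1 : ∀ n : N, ∑ g : G, Cfsg.extendByZero II (chr ψ) ((g * n) * (g * n))
        = ∑ g : G, Cfsg.extendByZero II (chr ψ) (g * g) := by
      intro n
      exact Equiv.sum_comp (Equiv.mulRight (n : G))
        (fun g => Cfsg.extendByZero II (chr ψ) (g * g))
    rw [Finset.sum_congr rfl (fun n _ => h1 n), Finset.sum_const, Finset.card_univ, nsmul_eq_mul,
      Nat.card_eq_fintype_card]
  have hcount : ∑ g : G, (if z * g ∈ II then (Nat.card N : ℂ) else 0)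
      = (Nat.card N : ℂ) * (Nat.card II : ℂ) := by
    rw [← Finset.sum_filter, Finset.sum_const, nsmul_eq_mul, mul_comm]
    congr 2
    rw [Nat.card_eq_fintype_card, Fintype.card_subtype]
    apply Finset.card_bij (fun g _ => z * g)
    · intro g hg
      rw [Finset.mem_filter] at hg ⊢
      exact ⟨Finset.mem_univ _, hg.2⟩
    · intro a _ b _ hab
      exact mul_left_cancel hab
    · intro i hi
      rw [Finset.mem_filter] at hi
      refine ⟨z * i, ?_, ?_⟩
      · rw [Finset.mem_filter]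
        refine ⟨Finset.mem_univ _, ?_⟩
        rw [← mul_assoc, hz2, one_mul]
        exact hi.2
      · rw [← mul_assoc, hz2, one_mul]
  rw [Finset.sum_congr rfl (fun g _ => hcoset g), hcount] at havg
  have hNne : (Nat.card N : ℂ) ≠ 0 := by
    have : Nat.card N ≠ 0 := Nat.card_pos.ne'
    exact_mod_cast this
  have hIne : (Nat.card II : ℂ) ≠ 0 := by
    have : Nat.card II ≠ 0 := Nat.card_pos.ne'
    exact_mod_cast this
  have hsum : ∑ g : G, Cfsg.extendByZero II (chr ψ) (g * g) = (Nat.card II : ℂ) :=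
    mul_left_cancel₀ hNne havg
  rw [hsum, inv_mul_cancel₀ hIne]

end Cfsg.Agent.Lib.Helper8.SRAvg
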