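import Mathlib
import Cfsg.Agent.Lib.Helper8.SRAvg2
import Cfsg.Agent.Lib.Helper8.McK1

/-! Extensions of odd order of a linear character of a normal subgroup of 2-power index. -/
set_option autoImplicit false

namespace Cfsg.Agent.Lib.Helper8.SRAvg

open Subgroup Cfsg.Agent.Lib.Helper6 Cfsg.Agent.Lib.Helper8.FS
open scoped ComplexConjugate

variable {G : Type*} [Group G] [Fintype G]
variable (N : Subgroup G) (hN : N.Normal) (μ : N →* ℂˣ)

local notation "II" => inertia N hN (chr μ)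

/-- an extension of order dividing `q` -/
theorem exists_odd_extension (q k : ℕ) (hq : q.Prime) (hq2 : q ≠ 2)
    (hNq : ∀ a ∈ N, a ^ q = 1) (hidx : N.index = 2 ^ k) :
    ∃ ψ : ↥(II) →* ℂˣ, (∀ n : N, ψ ⟨n, le_inertia_chr N hN μ n.2⟩ = μ n) ∧
      ∀ i : ↥(II), ψ i ^ q = 1 := by
  classical
  haveI := hN
  haveI : Fact q.Prime := ⟨hq⟩
  haveI : Fintype N := Fintype.ofFinite N
  haveI : Fintype ↥(II) := Fintype.ofFinite _
  have hNI : N ≤ II := le_inertia_chr N hN μ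
  set K : Subgroup ↥(II) := N.subgroupOf (II) with hK
  haveI hKn : K.Normal := Subgroup.Normal.subgroupOf hN _
  haveI : Fintype K := Fintype.ofFinite K
  let e : ↥K ≃* ↥N := subgroupOfEquivOfLe hNI
  have he : ∀ k : K, ((e k : N) : G) = ((k : ↥(II)) : G) := fun k => rfl
  let θ : Cfsg.IrrCharacter ↥K :=
    ⟨fun k => ((μ (e k) : ℂˣ) : ℂ), isIrrCharacter_of_hom (μ.comp e.toMonoidHom)⟩
  have hinv : Cfsg.Agent.Lib.Helper8.McK.InvK K (θ : ↥K → ℂ) := by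
    intro g k
    show ((μ (e _) : ℂˣ) : ℂ) = ((μ (e k) : ℂˣ) : ℂ)
    have h1 := (mem_inertia_iff N hN μ (g : G)).1 g.2 (e k)
    rw [← h1]
    congr 2
  -- coprimality
  have hqodd : Nat.Coprime q 2 := by
    rw [Nat.coprime_primes hq Nat.prime_two]
    exact hq2
  have hNp : IsPGroup q N := by
    intro a
    refine ⟨1, ?_⟩
    rw [pow_one]
    apply Subtype.ext
    rw [Subgroup.coe_pow]
    exact hNq a a.2
  obtain ⟨m0, hm0⟩ := IsPGroup.iff_card.mp hNp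
  have hKcard : Nat.card K = q ^ m0 := by rw [Nat.card_congr e.toEquiv, hm0]
  have hKidx : K.index ∣ 2 ^ k := by
    rw [← hidx]
    exact Subgroup.relIndex_dvd_index_of_normal N (II)
  have hcop : (Nat.card K).Coprime K.index := by
    rw [hKcard]
    apply Nat.Coprime.coprime_dvd_right hKidx
    exact Nat.Coprime.pow _ _ hqodd
  obtain ⟨ψ₀, hψ₀⟩ := Cfsg.Agent.Lib.Helper8.McK.exists_extension K hcop θ hinv
  have h1 : (ψ₀ : ↥(II) → ℂ) 1 = 1 := by
    have := hψ₀ 1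
    rw [Subgroup.coe_one] at this
    rw [this]
    show ((μ (e 1) : ℂˣ) : ℂ) = 1
    rw [map_one, map_one, Units.val_one]
  set ψh : ↥(II) →* ℂˣ := linearCharHom (IsIrrCharacter.isCharacter ψ₀.2) h1 with hψh
  have hψhN : ∀ n : N, ψh ⟨n, hNI n.2⟩ = μ n := by
    intro n
    apply Units.ext
    rw [hψh, linearCharHom_apply]
    have h2 : (⟨(n : G), hNI n.2⟩ : ↥(II)) ∈ K := by
      rw [hK, mem_subgroupOf]
      exact n.2
    have h3 := hψ₀ ⟨⟨n, hNI n.2⟩, h2⟩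
    rw [h3]
    show ((μ (e _) : ℂˣ) : ℂ) = _
    congr 2
  -- the exponent
  have hcop2 : Nat.Coprime (2 ^ k) q := (Nat.Coprime.pow_right k hqodd).symm
  obtain ⟨u, -, hu⟩ := Nat.exists_mul_mod_eq_one_of_coprime hcop2 hq.one_lt
  have hm : 2 ^ k * u = q * (2 ^ k * u / q) + 1 := by
    have := Nat.div_add_mod (2 ^ k * u) q
    rw [hu] at this
    exact this.symm
  have hμq : ∀ n : N, μ n ^ q = 1 := by
    intro n
    rw [← map_pow]
    have : n ^ q = 1 := by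
      apply Subtype.ext
      rw [Subgroup.coe_pow]
      exact hNq n n.2
    rw [this, map_one]
  refine ⟨ψh ^ (2 ^ k * u), ?_, ?_⟩
  · intro n
    rw [MonoidHom.pow_apply, hψhN, hm, pow_succ, pow_mul, hμq, one_pow, one_mul]
  · intro i
    rw [MonoidHom.pow_apply]
    have h2 : i ^ (2 ^ k) ∈ K := by
      obtain ⟨c, hc⟩ := hKidx
      rw [hc, pow_mul]
      exact K.pow_mem (Subgroup.pow_index_mem K i) c
    have h3 : ψh (i ^ (2 ^ k)) = μ (e ⟨i ^ (2 ^ k), h2⟩) := by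
      have := hψhN (e ⟨i ^ (2 ^ k), h2⟩)
      rw [← this]
      congr 1
    have h4 : (ψh i ^ (2 ^ k * u)) ^ q = ((ψh (i ^ (2 ^ k))) ^ q) ^ u := by
      rw [map_pow, ← pow_mul, ← pow_mul, ← pow_mul]
      congr 1
      ring
    rw [h4, h3, hμq, one_pow]

omit [Fintype G] in
/-- an extension of odd order is inverted by the involution -/
theorem mul_conj_eq_one (q k : ℕ) (hq : q.Prime) (hq2 : q ≠ 2) (hidx : N.index = 2 ^ k)
    {z : G} (hz2 : z * z = 1) (hzinv : ∀ n ∈ N, z * n * z⁻¹ = n⁻¹)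
    (ψ : ↥(II) →* ℂˣ) (hψ : ∀ n : N, ψ ⟨n, le_inertia_chr N hN μ n.2⟩ = μ n)
    (hψq : ∀ i : ↥(II), ψ i ^ q = 1) (i : ↥(II)) :
    ψ ⟨z * i * z⁻¹, conj_mem_inertia hN μ hz2 hzinv i.2⟩ * ψ i = 1 := by
  haveI := hN
  have hNI : N ≤ II := le_inertia_chr N hN μ
  have hqodd : Nat.Coprime q 2 := by
    rw [Nat.coprime_primes hq Nat.prime_two]
    exact hq2
  set b := ψ ⟨z * i * z⁻¹, conj_mem_inertia hN μ hz2 hzinv i.2⟩ * ψ i with hb
  have hbq : b ^ q = 1 := by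
    rw [hb, mul_pow, hψq, hψq, one_mul]
  have hi2 : ((i : G)) ^ (2 ^ k) ∈ N := by
    rw [← hidx]
    exact Subgroup.pow_index_mem N (i : G)
  have hb2 : b ^ (2 ^ k) = 1 := by
    rw [hb, mul_pow, ← map_pow, ← map_pow]
    have e1 : (⟨z * i * z⁻¹, conj_mem_inertia hN μ hz2 hzinv i.2⟩ : ↥(II)) ^ (2 ^ k)
        = ⟨((⟨((i : G)) ^ (2 ^ k), hi2⟩ : N)⁻¹ : N), hNI (N.inv_mem hi2)⟩ := by
      apply Subtype.ext
      rw [Subgroup.coe_pow]
      show (z * (i : G) * z⁻¹) ^ (2 ^ k) = ((i : G) ^ (2 ^ k))⁻¹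
      rw [conj_pow, hzinv _ hi2]
    have e2 : i ^ (2 ^ k) = ⟨((⟨((i : G)) ^ (2 ^ k), hi2⟩ : N) : G), hNI hi2⟩ := by
      apply Subtype.ext
      rw [Subgroup.coe_pow]
    rw [e1, e2, hψ, hψ, map_inv, inv_mul_cancel]
  have h := pow_gcd_eq_one.2 ⟨hbq, hb2⟩
  have hg : Nat.gcd q (2 ^ k) = 1 := Nat.Coprime.pow_right k hqodd
  rw [hg, pow_one] at h
  exact h

end Cfsg.Agent.Lib.Helper8.SRAvg
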