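import Mathlib

set_option autoImplicit false
set_option linter.unusedSectionVars false
set_option linter.unusedVariables false

/-! Permutations of `Fin n` coded by natural numbers (10 bits per entry), for kernel-checked
certificates about explicit permutation groups. -/

namespace Cfsg.Agent.Lib.Helper8.SS

/-- entry `x` of the table coded by `N` (10 bits per entry). -/
def get (N x : ℕ) : ℕ := (N >>> (10 * x)) % 1024

variable (n : ℕ) [NeZero n]

/-- `N` and `M` code mutually inverse permutations of `Fin n`. -/
def Valid (N M : ℕ) : Prop :=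
  ∀ x < n, get N x < n ∧ get M x < n ∧ get M (get N x) = x ∧ get N (get M x) = x

instance (N M : ℕ) : Decidable (Valid n N M) := by
  unfold Valid
  infer_instance

/-- the map coded by `N`. -/
def tab (N : ℕ) : Fin n → Fin n :=
  fun x => ⟨get N x.1 % n, Nat.mod_lt _ (Nat.pos_of_ne_zero (NeZero.ne n))⟩

theorem tab_val {N M : ℕ} (h : Valid n N M) (x : Fin n) : (tab n N x).1 = get N x.1 :=
  Nat.mod_eq_of_lt (h x.1 x.2).1

theorem tab_val' {N M : ℕ} (h : Valid n N M) (x : Fin n) : (tab n M x).1 = get M x.1 :=
  Nat.mod_eq_of_lt (h x.1 x.2).2.1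

/-- the permutation coded by `N` (with inverse coded by `M`); the identity if the codes are
not valid. -/
def perm (N M : ℕ) : Equiv.Perm (Fin n) :=
  if h : Valid n N M then
    { toFun := tab n N
      invFun := tab n M
      left_inv := fun x => by
        apply Fin.ext
        rw [tab_val' n h, tab_val n h]
        exact (h x.1 x.2).2.2.1
      right_inv := fun x => by
        apply Fin.ext
        rw [tab_val n h, tab_val' n h]
        exact (h x.1 x.2).2.2.2 }
  else 1

theorem perm_apply {N M : ℕ} (h : Valid n N M) (x : Fin n) :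
    ((perm n N M) x).1 = get N x.1 := by
  unfold perm
  rw [dif_pos h]
  exact tab_val n h x

theorem perm_inv_apply {N M : ℕ} (h : Valid n N M) (x : Fin n) :
    ((perm n N M)⁻¹ x).1 = get M x.1 := by
  unfold perm
  rw [dif_pos h]
  exact tab_val' n h x

variable (pN pM : ℕ → ℕ)

/-- the `i`-th permutation of the table. -/
def P (i : ℕ) : Equiv.Perm (Fin n) := perm n (pN i) (pM i)

/-- evaluate a word (list of indices) on the tables; the leftmost letter is applied last. -/
def ev (w : List ℕ) (x : ℕ) : ℕ := w.foldr (fun i acc => get (pN i) acc) x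

/-- the product of a word. -/
def prodW (w : List ℕ) : Equiv.Perm (Fin n) := (w.map (P n pN pM)).prod

theorem prodW_nil : prodW n pN pM [] = 1 := rfl

theorem prodW_cons (i : ℕ) (w : List ℕ) :
    prodW n pN pM (i :: w) = P n pN pM i * prodW n pN pM w := by
  unfold prodW
  rw [List.map_cons, List.prod_cons]

theorem prodW_append (w w' : List ℕ) :
    prodW n pN pM (w ++ w') = prodW n pN pM w * prodW n pN pM w' := by
  unfold prodW
  rw [List.map_append, List.prod_append]

theorem prodW_apply {w : List ℕ} (hv : ∀ i ∈ w, Valid n (pN i) (pM i)) (x : Fin n) :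
    ((prodW n pN pM w) x).1 = ev pN w x.1 := by
  induction w with
  | nil => rfl
  | cons i w ih =>
    rw [prodW_cons, Equiv.Perm.mul_apply]
    unfold P
    rw [perm_apply n (hv i (List.mem_cons_self ..)),
      ih (fun j hj => hv j (List.mem_cons_of_mem _ hj))]
    rfl

theorem prodW_eq_of_ev {w w' : List ℕ} (hv : ∀ i ∈ w, Valid n (pN i) (pM i))
    (hv' : ∀ i ∈ w', Valid n (pN i) (pM i)) (h : ∀ x < n, ev pN w x = ev pN w' x) :
    prodW n pN pM w = prodW n pN pM w' := by
  apply Equiv.ext
  intro x
  apply Fin.ext
  rw [prodW_apply n pN pM hv, prodW_apply n pN pM hv']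
  exact h x.1 x.2

/-- signed words: `(i, true)` is the `i`-th permutation, `(i, false)` its inverse. -/
def evS (w : List (ℕ × Bool)) (x : ℕ) : ℕ :=
  w.foldr (fun l acc => if l.2 then get (pN l.1) acc else get (pM l.1) acc) x

/-- the permutation of a signed letter. -/
def PS (l : ℕ × Bool) : Equiv.Perm (Fin n) := if l.2 then P n pN pM l.1 else (P n pN pM l.1)⁻¹

/-- the product of a signed word. -/
def prodS (w : List (ℕ × Bool)) : Equiv.Perm (Fin n) := (w.map (PS n pN pM)).prod

theorem prodS_cons (l : ℕ × Bool) (w : List (ℕ × Bool)) :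
    prodS n pN pM (l :: w) = PS n pN pM l * prodS n pN pM w := by
  unfold prodS
  rw [List.map_cons, List.prod_cons]

theorem prodS_append (w w' : List (ℕ × Bool)) :
    prodS n pN pM (w ++ w') = prodS n pN pM w * prodS n pN pM w' := by
  unfold prodS
  rw [List.map_append, List.prod_append]

theorem prodS_apply {w : List (ℕ × Bool)} (hv : ∀ l ∈ w, Valid n (pN l.1) (pM l.1))
    (x : Fin n) : ((prodS n pN pM w) x).1 = evS pN pM w x.1 := by
  induction w with
  | nil => rfl
  | cons l w ih =>
    rw [prodS_cons, Equiv.Perm.mul_apply]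
    have hl := hv l (List.mem_cons_self ..)
    have ih' := ih (fun j hj => hv j (List.mem_cons_of_mem _ hj))
    unfold PS P
    by_cases h2 : l.2 = true
    · rw [if_pos h2, perm_apply n hl, ih']
      show _ = (if l.2 then _ else _)
      rw [if_pos h2]
      rfl
    · rw [if_neg h2, perm_inv_apply n hl, ih']
      show _ = (if l.2 then _ else _)
      rw [if_neg h2]
      rfl

/-- the forward word of a plain word. -/
def fwd (w : List ℕ) : List (ℕ × Bool) := w.map (fun i => (i, true))

/-- the inverse word of a plain word. -/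
def bwd (w : List ℕ) : List (ℕ × Bool) := w.reverse.map (fun i => (i, false))

theorem prodS_fwd (w : List ℕ) : prodS n pN pM (fwd w) = prodW n pN pM w := by
  induction w with
  | nil => rfl
  | cons i w ih =>
    show prodS n pN pM ((i, true) :: fwd w) = _
    rw [prodS_cons, prodW_cons, ih]
    rfl

theorem prodS_bwd (w : List ℕ) : prodS n pN pM (bwd w) = (prodW n pN pM w)⁻¹ := by
  induction w with
  | nil =>
    show (1 : Equiv.Perm (Fin n)) = (1 : Equiv.Perm (Fin n))⁻¹
    rw [inv_one]
  | cons i w ih =>
    have : bwd (i :: w) = bwd w ++ [(i, false)] := by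
      unfold bwd
      rw [List.reverse_cons, List.map_append]
      rfl
    rw [this, prodS_append, ih, prodW_cons, mul_inv_rev]
    congr 1

end Cfsg.Agent.Lib.Helper8.SS
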