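import Mathlib

set_option autoImplicit false
set_option linter.unusedSectionVars false
set_option linter.unusedVariables false

/-! Abstract lemmas for certificates about explicit permutation groups: one level of a
stabiliser chain, primitivity of rank-three actions, a simplicity criterion. -/

namespace Cfsg.Agent.Lib.Helper8.SS

open Subgroup MulAction

section chain

variable {G : Type*} [Group G] [Finite G]

theorem closure_mul_mem {S T : Set G} (hT : ∀ s ∈ S, ∀ t ∈ T, s * t ∈ T) :
    ∀ g ∈ closure S, ∀ t ∈ T, g * t ∈ T := by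
  intro g hg
  induction hg using Subgroup.closure_induction with
  | mem s hs => exact hT s hs
  | one => intro t ht; rwa [one_mul]
  | mul a b _ _ iha ihb =>
    intro t ht
    rw [mul_assoc]
    exact iha _ (ihb t ht)
  | inv a _ iha =>
    have hpow : ∀ k : ℕ, ∀ t ∈ T, a ^ k * t ∈ T := by
      intro k
      induction k with
      | zero => intro t ht; rwa [pow_zero, one_mul]
      | succ k ih =>
        intro t ht
        rw [pow_succ, mul_assoc]
        exact ih _ (iha t ht)
    have hpos : 0 < orderOf a := orderOf_pos a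
    have h1 : a ^ (orderOf a - 1) * a = 1 := by
      rw [← pow_succ, Nat.sub_add_cancel hpos, pow_orderOf_eq_one]
    have h2 : a⁻¹ = a ^ (orderOf a - 1) := (eq_inv_of_mul_eq_one_left h1).symm
    rw [h2]
    exact hpow _

/-- one level of a stabiliser chain: upper bound. -/
theorem card_closure_le (S : Set G) (H : Subgroup G) (U : Finset G) (h1 : (1 : G) ∈ U)
    (hS : ∀ s ∈ S, ∀ u ∈ U, ∃ u' ∈ U, ∃ h ∈ H, s * u = u' * h) :
    Nat.card (closure S) ≤ U.card * Nat.card H := by
  classical
  let T : Set G := {g | ∃ u ∈ U, ∃ h ∈ H, g = u * h}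
  have hT : ∀ s ∈ S, ∀ t ∈ T, s * t ∈ T := by
    rintro s hs _ ⟨u, hu, h, hh, rfl⟩
    obtain ⟨u', hu', h', hh', e⟩ := hS s hs u hu
    refine ⟨u', hu', h' * h, H.mul_mem hh' hh, ?_⟩
    rw [← mul_assoc, e, mul_assoc]
  have h1T : (1 : G) ∈ T := ⟨1, h1, 1, H.one_mem, by rw [mul_one]⟩
  have hsub : ∀ g ∈ closure S, g ∈ T := by
    intro g hg
    have := closure_mul_mem hT g hg 1 h1T
    rwa [mul_one] at this
  choose fu hfu fh hfh hfe using hsub
  have hinj : Function.Injective
      (fun g : closure S => ((⟨fu g.1 g.2, hfu g.1 g.2⟩, ⟨fh g.1 g.2, hfh g.1 g.2⟩) :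
        {u // u ∈ U} × H)) := by
    intro g g' hgg
    apply Subtype.ext
    have e1 : fu g.1 g.2 = fu g'.1 g'.2 := congrArg (fun z : {u // u ∈ U} × H => (z.1 : G)) hgg
    have e2 : fh g.1 g.2 = fh g'.1 g'.2 := congrArg (fun z : {u // u ∈ U} × H => (z.2 : G)) hgg
    rw [hfe g.1 g.2, hfe g'.1 g'.2, e1, e2]
  have := Nat.card_le_card_of_injective _ hinj
  rw [Nat.card_prod, Nat.card_eq_fintype_card (α := {u // u ∈ U}), Fintype.card_coe] at this
  exact this

end chain

section lower

variable {α : Type*} [Fintype α] [DecidableEq α]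

/-- one level of a stabiliser chain: lower bound. -/
theorem card_ge_of_fix {K K' : Subgroup (Equiv.Perm α)}
    (hK : K' ≤ K) (p : α) (hfix : ∀ g ∈ K', g p = p) (T : Finset α)
    (hT : ∀ q ∈ T, ∃ g ∈ K, g p = q) : T.card * Nat.card K' ≤ Nat.card K := by
  have h1 := index_stabilizer K p
  have h2 := (stabilizer K p).card_mul_index
  have h3 : T.card ≤ (orbit K p).ncard := by
    rw [← Set.ncard_coe_finset T]
    apply Set.ncard_le_ncard _ (Set.toFinite _)
    intro q hq
    obtain ⟨g, hg, hgq⟩ := hT q (Finset.mem_coe.mp hq)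
    exact ⟨⟨g, hg⟩, hgq⟩
  have h4 : Nat.card K' ≤ Nat.card (stabilizer K p) := by
    apply Nat.card_le_card_of_injective
      (fun x : K' => (⟨⟨x.1, hK x.2⟩, hfix x.1 x.2⟩ : stabilizer K p))
    intro x y hxy
    apply Subtype.ext
    exact congrArg (fun z : stabilizer K p => (z.1.1 : Equiv.Perm α)) hxy
  rw [h1] at h2
  calc T.card * Nat.card K' ≤ (orbit K p).ncard * Nat.card (stabilizer K p) :=
        Nat.mul_le_mul h3 h4
    _ = Nat.card K := by rw [mul_comm]; exact h2

end lower

section prim

open scoped Pointwise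

variable {G : Type*} [Group G] {α : Type*} [MulAction G α]

/-- a transitive action whose point stabiliser has exactly two orbits on the other points, of
suitable sizes, is primitive. -/
theorem isPreprimitive_of_rank3 [Finite α] [IsPretransitive G α] (a : α) (Δ1 Δ2 : Set α)
    (hcover : ∀ x, x = a ∨ x ∈ Δ1 ∨ x ∈ Δ2)
    (h1 : ∀ y ∈ Δ1, ∀ z ∈ Δ1, ∃ g ∈ stabilizer G a, g • y = z)
    (h2 : ∀ y ∈ Δ2, ∀ z ∈ Δ2, ∃ g ∈ stabilizer G a, g • y = z)
    (hn1 : ¬ (insert a Δ1).ncard ∣ Nat.card α) (hn2 : ¬ (insert a Δ2).ncard ∣ Nat.card α) :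
    IsPreprimitive G α := by
  apply IsPreprimitive.of_isTrivialBlock_base a
  intro B haB hB
  have hinv : ∀ g ∈ stabilizer G a, ∀ y ∈ B, g • y ∈ B := by
    intro g hg y hy
    have hgB : g • B = B := mem_stabilizer_iff.mp (hB.stabilizer_le haB hg)
    rw [← hgB]
    exact Set.smul_mem_smul_set hy
  have hsub1 : (B ∩ Δ1).Nonempty → Δ1 ⊆ B := by
    rintro ⟨y, hyB, hy1⟩ z hz
    obtain ⟨g, hg, rfl⟩ := h1 y hy1 z hz
    exact hinv g hg y hyB
  have hsub2 : (B ∩ Δ2).Nonempty → Δ2 ⊆ B := by
    rintro ⟨y, hyB, hy2⟩ z hz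
    obtain ⟨g, hg, rfl⟩ := h2 y hy2 z hz
    exact hinv g hg y hyB
  have hdvd := hB.ncard_dvd_card ⟨a, haB⟩
  by_cases e1 : (B ∩ Δ1).Nonempty
  · by_cases e2 : (B ∩ Δ2).Nonempty
    · right
      ext x
      simp only [Set.mem_univ, iff_true]
      rcases hcover x with rfl | hx | hx
      · exact haB
      · exact hsub1 e1 hx
      · exact hsub2 e2 hx
    · exfalso
      apply hn1
      have : B = insert a Δ1 := by
        ext x
        constructor
        · intro hx
          rcases hcover x with rfl | hx1 | hx2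
          · exact Set.mem_insert _ _
          · exact Set.mem_insert_of_mem _ hx1
          · exact absurd ⟨x, hx, hx2⟩ e2
        · rintro (rfl | hx)
          · exact haB
          · exact hsub1 e1 hx
      rw [← this]
      exact hdvd
  · by_cases e2 : (B ∩ Δ2).Nonempty
    · exfalso
      apply hn2
      have : B = insert a Δ2 := by
        ext x
        constructor
        · intro hx
          rcases hcover x with rfl | hx1 | hx2
          · exact Set.mem_insert _ _
          · exact absurd ⟨x, hx, hx1⟩ e1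
          · exact Set.mem_insert_of_mem _ hx2
        · rintro (rfl | hx)
          · exact haB
          · exact hsub2 e2 hx
      rw [← this]
      exact hdvd
    · left
      intro x hx y hy
      have hxa : x = a := by
        rcases hcover x with rfl | hx1 | hx2
        · rfl
        · exact absurd ⟨x, hx, hx1⟩ e1
        · exact absurd ⟨x, hx, hx2⟩ e2
      have hya : y = a := by
        rcases hcover y with rfl | hy1 | hy2
        · rfl
        · exact absurd ⟨y, hy, hy1⟩ e1
        · exact absurd ⟨y, hy, hy2⟩ e2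
      rw [hxa, hya]

end prim

section simple

variable {G : Type*} [Group G] [Finite G]

/-- an element of prime-power order lies in every normal subgroup of index prime to it. -/
theorem mem_of_orderOf_of_normal (N : Subgroup G) [N.Normal] (p k : ℕ) (hp : p.Prime)
    (hidx : ¬ p ∣ N.index) (x : G) (hx : orderOf x = p ^ k) : x ∈ N := by
  have h1 : orderOf (QuotientGroup.mk' N x) ∣ p ^ k := by
    rw [← hx]
    exact orderOf_map_dvd _ x
  have h2 : orderOf (QuotientGroup.mk' N x) ∣ N.index := by
    rw [Subgroup.index_eq_card]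
    exact orderOf_dvd_natCard _
  have hcop : Nat.Coprime (p ^ k) N.index :=
    Nat.Coprime.pow_left k ((Nat.Prime.coprime_iff_not_dvd hp).2 hidx)
  have h3 : orderOf (QuotientGroup.mk' N x) = 1 :=
    Nat.eq_one_of_dvd_coprimes hcop h1 h2
  rw [orderOf_eq_one_iff] at h3
  exact (QuotientGroup.eq_one_iff x).1 h3

/-- simplicity criterion for primitive groups. -/
theorem simple_of_cert {α : Type*} [MulAction G α] [Finite α] [FaithfulSMul G α] [Nontrivial G]
    (hprim : IsPreprimitive G α) (p k : ℕ) (hp : p.Prime) (hpα : p ^ k ∣ Nat.card α)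
    (hpG : ¬ p ^ (k + 1) ∣ Nat.card G) (x : G) (hx : orderOf x = p)
    (hgen : Subgroup.normalClosure {x} = ⊤) : IsSimpleGroup G := by
  refine ⟨fun N hN => ?_⟩
  by_cases hbot : N = ⊥
  · exact Or.inl hbot
  right
  haveI := hN
  haveI : IsPretransitive N α := by
    apply IsQuasiPreprimitive.isPretransitive_of_normal
    intro hfix
    apply hbot
    rw [eq_bot_iff]
    intro n hn
    rw [Subgroup.mem_bot]
    apply FaithfulSMul.eq_of_smul_eq_smul (α := α)
    intro a
    rw [one_smul]
    have : a ∈ fixedPoints N α := by rw [hfix]; trivial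
    exact this ⟨n, hn⟩
  obtain ⟨a⟩ : Nonempty α := by
    by_contra hne
    rw [not_nonempty_iff] at hne
    obtain ⟨g, hg⟩ := exists_ne (1 : G)
    apply hg
    apply FaithfulSMul.eq_of_smul_eq_smul (α := α)
    intro a
    exact (hne.false a).elim
  have h1 : Nat.card α ∣ Nat.card N := by
    rw [← index_stabilizer_of_transitive N a]
    exact Subgroup.index_dvd_card _
  have h2 : ¬ p ∣ N.index := by
    intro hdiv
    apply hpG
    rw [← N.card_mul_index, pow_succ]
    exact Nat.mul_dvd_mul (hpα.trans h1) hdiv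
  have hxN : x ∈ N := mem_of_orderOf_of_normal N p 1 hp h2 x (by rw [pow_one]; exact hx)
  rw [eq_top_iff, ← hgen]
  exact Subgroup.normalClosure_le_normal (Set.singleton_subset_iff.mpr hxN)

end simple

end Cfsg.Agent.Lib.Helper8.SS
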