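import Cfsg.Agent.Lib.Helper8.SS1
import Cfsg.Agent.Lib.Helper8.SS2

set_option autoImplicit false
set_option linter.unusedSectionVars false
set_option linter.unusedVariables false

/-! Verified stabiliser chains for permutation groups given by coded tables. -/

namespace Cfsg.Agent.Lib.Helper8.SS

open Subgroup MulAction

/-- the data of one level of a stabiliser chain: indices of the strong generators fixing the
earlier base points, indices of the transversal, the base point, the Schreier tree of the
transversal, and the sifting words of the Schreier generators. -/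
structure Level where
  S : List ℕ
  U : List ℕ
  b : ℕ
  tree : List (ℕ × ℕ)
  sift : List (List (List ℕ))

variable (n : ℕ) [NeZero n] (pN pM : ℕ → ℕ) (np : ℕ)

/-- the subgroup generated by the permutations with indices in `S`. -/
def grp (S : List ℕ) : Subgroup (Equiv.Perm (Fin n)) :=
  Subgroup.closure {g | ∃ i ∈ S, P n pN pM i = g}

/-- the certificate for one level. -/
def LevelOK (L : Level) (Snext deep : List ℕ) : Prop :=
  L.b < n ∧
  (∀ i ∈ L.S, i < np) ∧ (∀ i ∈ L.U, i < np) ∧
  L.U.head? = some 0 ∧
  (∀ m < L.U.length, m = 0 ∨ ((L.tree.getD m (0, 0)).2 < m ∧ (L.tree.getD m (0, 0)).1 ∈ L.S ∧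
    ∀ x < n, get (pN (L.U.getD m 0)) x =
      get (pN (L.tree.getD m (0, 0)).1) (get (pN (L.U.getD (L.tree.getD m (0, 0)).2 0)) x))) ∧
  (∀ a < L.S.length, ∀ m < L.U.length,
    ((L.sift.getD a []).getD m []).headD 0 ∈ L.U ∧
    (∀ i ∈ ((L.sift.getD a []).getD m []).tail, i ∈ deep) ∧
    ∀ x < n, get (pN (L.S.getD a 0)) (get (pN (L.U.getD m 0)) x) =
      ev pN ((L.sift.getD a []).getD m []) x) ∧
  (∀ i ∈ Snext, i ∈ L.S) ∧
  (∀ i ∈ Snext, get (pN i) L.b = L.b) ∧
  (L.U.map (fun i => get (pN i) L.b)).Nodup

instance (L : Level) (Snext deep : List ℕ) : Decidable (LevelOK n pN np L Snext deep) := by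
  unfold LevelOK
  infer_instance

variable {n pN pM np}

theorem P_zero (hv : Valid n (pN 0) (pM 0)) (hid : ∀ x < n, get (pN 0) x = x) :
    P n pN pM 0 = 1 := by
  apply Equiv.ext
  intro x
  apply Fin.ext
  unfold P
  rw [perm_apply n hv]
  exact hid x.1 x.2

theorem P_mem_grp {S : List ℕ} {i : ℕ} (hi : i ∈ S) : P n pN pM i ∈ grp n pN pM S :=
  Subgroup.subset_closure ⟨i, hi, rfl⟩

theorem prodW_mem {H : Subgroup (Equiv.Perm (Fin n))} {w : List ℕ}
    (h : ∀ i ∈ w, P n pN pM i ∈ H) : prodW n pN pM w ∈ H := by
  unfold prodW
  apply Subgroup.list_prod_mem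
  intro g hg
  rw [List.mem_map] at hg
  obtain ⟨i, hi, rfl⟩ := hg
  exact h i hi

theorem prodW_headD_tail (hP0 : P n pN pM 0 = 1) (w : List ℕ) :
    prodW n pN pM w = P n pN pM (w.headD 0) * prodW n pN pM w.tail := by
  cases w with
  | nil =>
    show (1 : Equiv.Perm (Fin n)) = P n pN pM 0 * 1
    rw [hP0, mul_one]
  | cons i w => exact prodW_cons n pN pM i w

theorem getD_mem {l : List ℕ} {m : ℕ} (hm : m < l.length) : l.getD m 0 ∈ l := by
  rw [List.getD_eq_getElem _ _ hm]
  exact List.getElem_mem hm

theorem level_spec (hv : ∀ i < np, Valid n (pN i) (pM i)) (hid : ∀ x < n, get (pN 0) x = x)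
    (L : Level) (Snext deep : List ℕ) (hok : LevelOK n pN np L Snext deep)
    (hdeep : ∀ i ∈ deep, i < np ∧ P n pN pM i ∈ grp n pN pM Snext) :
    (∀ i ∈ L.U, P n pN pM i ∈ grp n pN pM L.S) ∧
    grp n pN pM Snext ≤ grp n pN pM L.S ∧
    Nat.card (grp n pN pM L.S) = L.U.length * Nat.card (grp n pN pM Snext) := by
  obtain ⟨hb, hSlt, hUlt, hhead, htree, hsift, hnest, hfix, hnodup⟩ := hok
  have h0U : 0 ∈ L.U := by
    cases hU : L.U with
    | nil => rw [hU] at hhead; simp at hhead
    | cons a l =>
      rw [hU] at hhead
      simp only [List.head?_cons, Option.some.injEq] at hhead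
      rw [hhead]
      exact List.mem_cons_self ..
  have hU0 : L.U.getD 0 0 = 0 := by
    cases hU : L.U with
    | nil => rfl
    | cons a l =>
      rw [hU] at hhead
      simp only [List.head?_cons, Option.some.injEq] at hhead
      rw [hhead]
      rfl
  have hP0 : P n pN pM 0 = 1 := P_zero (hv 0 (hUlt 0 h0U)) hid
  -- (a) the transversal lies in the group
  have ha : ∀ m, m < L.U.length → P n pN pM (L.U.getD m 0) ∈ grp n pN pM L.S := by
    intro m
    induction m using Nat.strong_induction_on with
    | _ m ih =>
      intro hm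
      rcases htree m hm with rfl | ⟨hp, hg, htab⟩
      · rw [hU0, hP0]
        exact Subgroup.one_mem _
      · have hpl : (L.tree.getD m (0, 0)).2 < L.U.length := lt_trans hp hm
        have e : prodW n pN pM [L.U.getD m 0] =
            prodW n pN pM [(L.tree.getD m (0, 0)).1, L.U.getD (L.tree.getD m (0, 0)).2 0] := by
          apply prodW_eq_of_ev
          · intro i hi
            simp only [List.mem_singleton] at hi
            rw [hi]
            exact hv _ (hUlt _ (getD_mem hm))
          · intro i hi
            simp only [List.mem_cons, List.mem_nil_iff, or_false] at hi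
            rcases hi with rfl | rfl
            · exact hv _ (hSlt _ hg)
            · exact hv _ (hUlt _ (getD_mem hpl))
          · intro x hx
            exact htab x hx
        rw [prodW_cons, prodW_nil, mul_one, prodW_cons, prodW_cons, prodW_nil, mul_one] at e
        rw [e]
        exact Subgroup.mul_mem _ (P_mem_grp hg) (ih _ hp hpl)
  have haU : ∀ i ∈ L.U, P n pN pM i ∈ grp n pN pM L.S := by
    intro i hi
    obtain ⟨m, hm, rfl⟩ := List.getElem_of_mem hi
    have := ha m hm
    rwa [List.getD_eq_getElem _ _ hm] at this
  -- (b)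
  have hle : grp n pN pM Snext ≤ grp n pN pM L.S := by
    apply Subgroup.closure_mono
    rintro g ⟨i, hi, rfl⟩
    exact ⟨i, hnest i hi, rfl⟩
  refine ⟨haU, hle, le_antisymm ?_ ?_⟩
  · -- upper bound
    classical
    have hcl := card_closure_le {g | ∃ i ∈ L.S, P n pN pM i = g} (grp n pN pM Snext)
      (L.U.map (P n pN pM)).toFinset
      (by
        rw [List.mem_toFinset, List.mem_map]
        exact ⟨0, h0U, hP0⟩)
      (by
        rintro s ⟨i, hi, rfl⟩ u hu
        rw [List.mem_toFinset, List.mem_map] at hu
        obtain ⟨j, hj, rfl⟩ := hu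
        obtain ⟨a, ha', rfl⟩ := List.getElem_of_mem hi
        obtain ⟨m, hm', rfl⟩ := List.getElem_of_mem hj
        obtain ⟨hh, ht, htab⟩ := hsift a ha' m hm'
        rw [List.getD_eq_getElem _ _ ha', List.getD_eq_getElem _ _ hm'] at htab
        have e : prodW n pN pM [L.S[a], L.U[m]] =
            prodW n pN pM ((L.sift.getD a []).getD m []) := by
          apply prodW_eq_of_ev
          · intro i hi'
            simp only [List.mem_cons, List.mem_nil_iff, or_false] at hi'
            rcases hi' with rfl | rfl
            · exact hv _ (hSlt _ hi)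
            · exact hv _ (hUlt _ hj)
          · intro i hi'
            cases hw : (L.sift.getD a []).getD m [] with
            | nil => rw [hw] at hi'; simp at hi'
            | cons c w =>
              rw [hw] at hi' hh ht
              simp only [List.mem_cons] at hi'
              rcases hi' with rfl | hi'
              · exact hv _ (hUlt _ hh)
              · exact hv _ (hdeep _ (ht _ hi')).1
          · exact htab
        rw [prodW_cons, prodW_cons, prodW_nil, mul_one, prodW_headD_tail hP0] at e
        refine ⟨P n pN pM (((L.sift.getD a []).getD m []).headD 0), ?_,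
          prodW n pN pM ((L.sift.getD a []).getD m []).tail, ?_, e⟩
        · rw [List.mem_toFinset, List.mem_map]
          exact ⟨_, hh, rfl⟩
        · apply prodW_mem
          intro i hi'
          exact (hdeep _ (ht _ hi')).2)
    refine hcl.trans (Nat.mul_le_mul_right _ ?_)
    exact (List.toFinset_card_le _).trans (by rw [List.length_map])
  · -- lower bound
    classical
    let p : Fin n := ⟨L.b, hb⟩
    have hval : ∀ i ∈ L.U, ((P n pN pM i) p).1 = get (pN i) L.b := by
      intro i hi
      unfold P
      rw [perm_apply n (hv _ (hUlt _ hi))]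
    have hnd : (L.U.map (fun i => (P n pN pM i) p)).Nodup := by
      apply List.Nodup.of_map Fin.val
      rw [List.map_map]
      have : (L.U.map (Fin.val ∘ fun i => (P n pN pM i) p)) =
          L.U.map (fun i => get (pN i) L.b) := by
        apply List.map_congr_left
        intro i hi
        exact hval i hi
      rw [this]
      exact hnodup
    have hge := card_ge_of_fix (K := grp n pN pM L.S) (K' := grp n pN pM Snext) hle p
      (by
        have : grp n pN pM Snext ≤ stabilizer (Equiv.Perm (Fin n)) p := by
          apply (Subgroup.closure_le _).mpr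
          rintro g ⟨i, hi, rfl⟩
          show (P n pN pM i) p = p
          apply Fin.ext
          unfold P
          rw [perm_apply n (hv _ (hSlt _ (hnest i hi)))]
          exact hfix i hi
        exact fun g hg => this hg)
      (L.U.map (fun i => (P n pN pM i) p)).toFinset
      (by
        intro q hq
        rw [List.mem_toFinset, List.mem_map] at hq
        obtain ⟨i, hi, rfl⟩ := hq
        exact ⟨_, haU i hi, rfl⟩)
    rw [List.toFinset_card_of_nodup hnd, List.length_map] at hge
    exact hge

end Cfsg.Agent.Lib.Helper8.SS
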