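import Cfsg.Agent.Lib.Helper8.SS3

set_option autoImplicit false
set_option linter.unusedSectionVars false
set_option linter.unusedVariables false

/-! Verified stabiliser chains: the whole chain, Schreier trees, conjugate words. -/

namespace Cfsg.Agent.Lib.Helper8.SS

open Subgroup MulAction

variable (n : ℕ) [NeZero n] (pN pM : ℕ → ℕ) (np : ℕ)

/-- all transversal indices of a chain. -/
def deepOf (Ls : List Level) : List ℕ := (Ls.map (fun L => L.U)).flatten

/-- the generators of the first level. -/
def headS : List Level → List ℕ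
  | [] => []
  | L :: _ => L.S

/-- the certificate for a whole chain. -/
def ChainOK : List Level → Prop
  | [] => True
  | L :: rest => LevelOK n pN np L (headS rest) (deepOf rest) ∧ ChainOK rest

variable {n pN pM np}

theorem grp_nil : grp n pN pM [] = ⊥ := by
  unfold grp
  rw [Subgroup.closure_eq_bot_iff]
  rintro g ⟨i, hi, _⟩
  simp at hi

theorem chain_spec (hv : ∀ i < np, Valid n (pN i) (pM i)) (hid : ∀ x < n, get (pN 0) x = x) :
    ∀ Ls : List Level, ChainOK n pN np Ls →
      (∀ i ∈ deepOf Ls, i < np ∧ P n pN pM i ∈ grp n pN pM (headS Ls)) ∧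
      Nat.card (grp n pN pM (headS Ls)) = (Ls.map (fun L => L.U.length)).prod := by
  intro Ls
  induction Ls with
  | nil =>
    intro _
    refine ⟨?_, ?_⟩
    · intro i hi
      simp [deepOf] at hi
    · show Nat.card (grp n pN pM []) = 1
      rw [grp_nil, Subgroup.card_bot]
  | cons L rest ih =>
    rintro ⟨hL, hrest⟩
    obtain ⟨ih1, ih2⟩ := ih hrest
    obtain ⟨h1, h2, h3⟩ := level_spec hv hid L (headS rest) (deepOf rest) hL ih1
    refine ⟨?_, ?_⟩
    · intro i hi
      have : i ∈ L.U ∨ i ∈ deepOf rest := by
        unfold deepOf at hi ⊢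
        rw [List.map_cons, List.flatten_cons, List.mem_append] at hi
        exact hi
      rcases this with hi | hi
      · exact ⟨hL.2.2.1 i hi, h1 i hi⟩
      · exact ⟨(ih1 i hi).1, h2 (ih1 i hi).2⟩
    · show Nat.card (grp n pN pM L.S) = _
      rw [h3, ih2, List.map_cons, List.prod_cons]

/-- the elements of a group generated by permutations fixing a point fix it. -/
theorem grp_fix (hv : ∀ i < np, Valid n (pN i) (pM i)) {S : List ℕ} (hS : ∀ i ∈ S, i < np)
    {b : ℕ} (hb : b < n) (hfix : ∀ i ∈ S, get (pN i) b = b) :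
    ∀ g ∈ grp n pN pM S, g ⟨b, hb⟩ = ⟨b, hb⟩ := by
  have : grp n pN pM S ≤ stabilizer (Equiv.Perm (Fin n)) (⟨b, hb⟩ : Fin n) := by
    apply (Subgroup.closure_le _).mpr
    rintro g ⟨i, hi, rfl⟩
    show (P n pN pM i) ⟨b, hb⟩ = ⟨b, hb⟩
    apply Fin.ext
    unfold P
    rw [perm_apply n (hv _ (hS i hi))]
    exact hfix i hi
  exact fun g hg => this hg

variable (n pN np) in
/-- the certificate that the permutations with indices in `W` are words in those of `S`. -/
def TreeOK (S W : List ℕ) (tree : List (ℕ × ℕ)) : Prop :=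
  (∀ i ∈ S, i < np) ∧ (∀ i ∈ W, i < np) ∧ W.head? = some 0 ∧
  (∀ m < W.length, m = 0 ∨ ((tree.getD m (0, 0)).2 < m ∧ (tree.getD m (0, 0)).1 ∈ S ∧
    ∀ x < n, get (pN (W.getD m 0)) x =
      get (pN (tree.getD m (0, 0)).1) (get (pN (W.getD (tree.getD m (0, 0)).2 0)) x)))

instance (S W : List ℕ) (tree : List (ℕ × ℕ)) : Decidable (TreeOK n pN np S W tree) := by
  unfold TreeOK
  infer_instance

theorem tree_spec (hv : ∀ i < np, Valid n (pN i) (pM i)) (hid : ∀ x < n, get (pN 0) x = x)
    {S W : List ℕ} {tree : List (ℕ × ℕ)} (hok : TreeOK n pN np S W tree) :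
    ∀ i ∈ W, P n pN pM i ∈ grp n pN pM S := by
  obtain ⟨hSlt, hUlt, hhead, htree⟩ := hok
  have h0U : 0 ∈ W := by
    cases hU : W with
    | nil => rw [hU] at hhead; simp at hhead
    | cons a l =>
      rw [hU] at hhead
      simp only [List.head?_cons, Option.some.injEq] at hhead
      rw [hhead]
      exact List.mem_cons_self ..
  have hU0 : W.getD 0 0 = 0 := by
    cases hU : W with
    | nil => rfl
    | cons a l =>
      rw [hU] at hhead
      simp only [List.head?_cons, Option.some.injEq] at hhead
      rw [hhead]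
      rfl
  have hP0 : P n pN pM 0 = 1 := P_zero (hv 0 (hUlt 0 h0U)) hid
  have ha : ∀ m, m < W.length → P n pN pM (W.getD m 0) ∈ grp n pN pM S := by
    intro m
    induction m using Nat.strong_induction_on with
    | _ m ih =>
      intro hm
      rcases htree m hm with rfl | ⟨hp, hg, htab⟩
      · rw [hU0, hP0]
        exact Subgroup.one_mem _
      · have hpl : (tree.getD m (0, 0)).2 < W.length := lt_trans hp hm
        have e : prodW n pN pM [W.getD m 0] =
            prodW n pN pM [(tree.getD m (0, 0)).1, W.getD (tree.getD m (0, 0)).2 0] := by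
          apply prodW_eq_of_ev
          · intro i hi
            simp only [List.mem_singleton] at hi
            rw [hi]
            exact hv _ (hUlt _ (getD_mem hm))
          · intro i hi
            simp only [List.mem_cons, List.mem_nil_iff, or_false] at hi
            rcases hi with rfl | rfl
            · exact hv _ (hSlt _ hg)
            · exact hv _ (hUlt _ (getD_mem hpl))
          · intro x hx
            exact htab x hx
        rw [prodW_cons, prodW_nil, mul_one, prodW_cons, prodW_cons, prodW_nil, mul_one] at e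
        rw [e]
        exact Subgroup.mul_mem _ (P_mem_grp hg) (ih _ hp hpl)
  intro i hi
  obtain ⟨m, hm, rfl⟩ := List.getElem_of_mem hi
  have := ha m hm
  rwa [List.getD_eq_getElem _ _ hm] at this

/-! ### conjugate words -/

variable (pN pM) in
/-- the signed word of a product of conjugates of the `c`-th permutation. -/
def conjWord (c : ℕ) (cs : List (List ℕ)) : List (ℕ × Bool) :=
  (cs.map (fun w => fwd w ++ [(c, true)] ++ bwd w)).flatten

theorem prodS_conjWord (c : ℕ) (cs : List (List ℕ)) :
    prodS n pN pM (conjWord c cs) =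
      (cs.map (fun w => prodW n pN pM w * P n pN pM c * (prodW n pN pM w)⁻¹)).prod := by
  induction cs with
  | nil => rfl
  | cons w cs ih =>
    have : conjWord c (w :: cs) = (fwd w ++ [(c, true)] ++ bwd w) ++ conjWord c cs := by
      unfold conjWord
      rw [List.map_cons, List.flatten_cons]
    rw [this, prodS_append, ih, List.map_cons, List.prod_cons, prodS_append, prodS_append,
      prodS_fwd, prodS_bwd]
    congr 2

variable (n pN pM np) in
/-- certificate: the `i`-th permutation is a product of conjugates of the `c`-th one by words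
in the generators `S`. -/
def ConjOK (S : List ℕ) (c i : ℕ) (cs : List (List ℕ)) : Prop :=
  c < np ∧ i < np ∧ (∀ w ∈ cs, ∀ j ∈ w, j ∈ S) ∧ (∀ j ∈ S, j < np) ∧
  ∀ x < n, get (pN i) x = evS pN pM (conjWord c cs) x

instance (S : List ℕ) (c i : ℕ) (cs : List (List ℕ)) : Decidable (ConjOK n pN pM np S c i cs) := by
  unfold ConjOK
  infer_instance

theorem conj_spec (hv : ∀ i < np, Valid n (pN i) (pM i)) {S : List ℕ} {c i : ℕ}
    {cs : List (List ℕ)} (hok : ConjOK n pN pM np S c i cs) :
    P n pN pM i =
      (cs.map (fun w => prodW n pN pM w * P n pN pM c * (prodW n pN pM w)⁻¹)).prod ∧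
    ∀ w ∈ cs, prodW n pN pM w ∈ grp n pN pM S := by
  obtain ⟨hc, hi, hw, hS, htab⟩ := hok
  refine ⟨?_, ?_⟩
  · rw [← prodS_conjWord]
    apply Equiv.ext
    intro x
    apply Fin.ext
    have hvw : ∀ l ∈ conjWord c cs, Valid n (pN l.1) (pM l.1) := by
      intro l hl
      unfold conjWord at hl
      rw [List.mem_flatten] at hl
      obtain ⟨z, hz, hlz⟩ := hl
      rw [List.mem_map] at hz
      obtain ⟨w, hwcs, rfl⟩ := hz
      rw [List.mem_append, List.mem_append] at hlz
      rcases hlz with (hlz | hlz) | hlz
      · unfold fwd at hlz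
        rw [List.mem_map] at hlz
        obtain ⟨j, hj, rfl⟩ := hlz
        exact hv _ (hS _ (hw w hwcs j hj))
      · simp only [List.mem_singleton] at hlz
        rw [hlz]
        exact hv _ hc
      · unfold bwd at hlz
        rw [List.mem_map] at hlz
        obtain ⟨j, hj, rfl⟩ := hlz
        exact hv _ (hS _ (hw w hwcs j (List.mem_reverse.mp hj)))
    rw [prodS_apply n pN pM hvw]
    unfold P
    rw [perm_apply n (hv _ hi)]
    exact htab x.1 x.2
  · intro w hwcs
    apply prodW_mem
    intro j hj
    exact P_mem_grp (hw w hwcs j hj)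

end Cfsg.Agent.Lib.Helper8.SS
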