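import Cfsg.Agent.Lib.Helper8.SS4

set_option autoImplicit false
set_option linter.unusedSectionVars false
set_option linter.unusedVariables false

/-! Verified stabiliser chains: primitivity of rank-three groups and simplicity from data. -/

namespace Cfsg.Agent.Lib.Helper8.SS

open Subgroup MulAction

variable {n : ℕ} [NeZero n] {pN pM : ℕ → ℕ} {np : ℕ}

theorem P_apply_val (hv : ∀ i < np, Valid n (pN i) (pM i)) {i : ℕ} (hi : i < np) (x : Fin n) :
    ((P n pN pM i) x).1 = get (pN i) x.1 := by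
  unfold P
  rw [perm_apply n (hv _ hi)]

theorem nodup_points (hv : ∀ i < np, Valid n (pN i) (pM i)) {U : List ℕ}
    (hU : ∀ i ∈ U, i < np) (p : Fin n) (hnd : (U.map (fun i => get (pN i) p.1)).Nodup) :
    (U.map (fun i => (P n pN pM i) p)).Nodup := by
  apply List.Nodup.of_map Fin.val
  rw [List.map_map]
  have : (U.map (Fin.val ∘ fun i => (P n pN pM i) p)) = U.map (fun i => get (pN i) p.1) := by
    apply List.map_congr_left
    intro i hi
    exact P_apply_val hv (hU i hi) p
  rw [this]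
  exact hnd

theorem exists_of_mem_points (hv : ∀ i < np, Valid n (pN i) (pM i)) {U : List ℕ}
    (hU : ∀ i ∈ U, i < np) (p x : Fin n) (hx : x.1 ∈ U.map (fun i => get (pN i) p.1)) :
    ∃ i ∈ U, (P n pN pM i) p = x := by
  rw [List.mem_map] at hx
  obtain ⟨i, hi, hix⟩ := hx
  refine ⟨i, hi, ?_⟩
  apply Fin.ext
  rw [P_apply_val hv (hU i hi), hix]

theorem transitive_of_cover (hv : ∀ i < np, Valid n (pN i) (pM i)) {S U : List ℕ}
    (hU : ∀ i ∈ U, i < np) (hUS : ∀ i ∈ U, P n pN pM i ∈ grp n pN pM S) (a : Fin n)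
    (hcover : ∀ x < n, x ∈ U.map (fun i => get (pN i) a.1)) :
    IsPretransitive (grp n pN pM S) (Fin n) := by
  rw [isPretransitive_iff_base a]
  intro y
  obtain ⟨i, hi, hiy⟩ := exists_of_mem_points hv hU a y (hcover y.1 y.2)
  exact ⟨⟨P n pN pM i, hUS i hi⟩, hiy⟩

/-- primitivity of a rank-three group from data. -/
theorem prim_of_rank3_data (hv : ∀ i < np, Valid n (pN i) (pM i))
    (hid : ∀ x < n, get (pN 0) x = x) (L0 L1 : Level) (rest : List Level)
    (hchain : ChainOK n pN np (L0 :: L1 :: rest))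
    (hcover0 : ∀ x < n, x ∈ L0.U.map (fun i => get (pN i) L0.b))
    (W : List ℕ) (treeW : List (ℕ × ℕ)) (c : ℕ) (hW : TreeOK n pN np L1.S W treeW) (hc : c < n)
    (hcover : ∀ x < n, x = L0.b ∨ x ∈ L1.U.map (fun i => get (pN i) L1.b) ∨
      x ∈ W.map (fun i => get (pN i) c))
    (hnd2 : (W.map (fun i => get (pN i) c)).Nodup)
    (hb1 : L0.b ∉ L1.U.map (fun i => get (pN i) L1.b))
    (hb2 : L0.b ∉ W.map (fun i => get (pN i) c))
    (hn1 : ¬ (L1.U.length + 1) ∣ n) (hn2 : ¬ (W.length + 1) ∣ n) :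
    IsPreprimitive (grp n pN pM L0.S) (Fin n) := by
  classical
  obtain ⟨hL0, hrest⟩ := hchain
  have hrest' := hrest
  obtain ⟨hL1, _⟩ := hrest
  obtain ⟨ih1, -⟩ := chain_spec (pM := pM) hv hid (L1 :: rest) hrest'
  obtain ⟨h0U, hle, -⟩ := level_spec (pM := pM) hv hid L0 L1.S (deepOf (L1 :: rest)) hL0 ih1
  have hb0 : L0.b < n := hL0.1
  have hb1' : L1.b < n := hL1.1
  let a : Fin n := ⟨L0.b, hb0⟩
  let p1 : Fin n := ⟨L1.b, hb1'⟩
  let p2 : Fin n := ⟨c, hc⟩
  have hU0lt : ∀ i ∈ L0.U, i < np := hL0.2.2.1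
  have hU1lt : ∀ i ∈ L1.U, i < np := hL1.2.2.1
  have hS1lt : ∀ i ∈ L1.S, i < np := hL1.2.1
  have hWlt : ∀ i ∈ W, i < np := hW.2.1
  have hU1H : ∀ i ∈ L1.U, P n pN pM i ∈ grp n pN pM L1.S := by
    intro i hi
    apply (ih1 i _).2
    unfold deepOf
    rw [List.map_cons, List.flatten_cons, List.mem_append]
    exact Or.inl hi
  have hWH : ∀ i ∈ W, P n pN pM i ∈ grp n pN pM L1.S := tree_spec hv hid hW
  have hHfix : ∀ g ∈ grp n pN pM L1.S, g a = a :=
    grp_fix hv hS1lt hb0 hL0.2.2.2.2.2.2.2.1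
  haveI : IsPretransitive (grp n pN pM L0.S) (Fin n) :=
    transitive_of_cover hv hU0lt h0U a hcover0
  have hstab : ∀ g (hg : g ∈ grp n pN pM L1.S),
      (⟨g, hle hg⟩ : grp n pN pM L0.S) ∈ stabilizer (grp n pN pM L0.S) a := by
    intro g hg
    rw [mem_stabilizer_iff]
    exact hHfix g hg
  let D1 : Finset (Fin n) := (L1.U.map (fun i => (P n pN pM i) p1)).toFinset
  let D2 : Finset (Fin n) := (W.map (fun i => (P n pN pM i) p2)).toFinset
  have hD1card : D1.card = L1.U.length := by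
    rw [List.toFinset_card_of_nodup (nodup_points hv hU1lt p1 hL1.2.2.2.2.2.2.2.2), List.length_map]
  have hD2card : D2.card = W.length := by
    rw [List.toFinset_card_of_nodup (nodup_points hv hWlt p2 hnd2), List.length_map]
  have haD1 : a ∉ D1 := by
    intro h
    rw [List.mem_toFinset, List.mem_map] at h
    obtain ⟨i, hi, hia⟩ := h
    apply hb1
    rw [List.mem_map]
    refine ⟨i, hi, ?_⟩
    rw [← P_apply_val hv (hU1lt i hi) p1, hia]
  have haD2 : a ∉ D2 := by
    intro h
    rw [List.mem_toFinset, List.mem_map] at h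
    obtain ⟨i, hi, hia⟩ := h
    apply hb2
    rw [List.mem_map]
    refine ⟨i, hi, ?_⟩
    rw [← P_apply_val hv (hWlt i hi) p2, hia]
  have htrans : ∀ (U : List ℕ) (p : Fin n), (∀ i ∈ U, P n pN pM i ∈ grp n pN pM L1.S) →
      ∀ y ∈ ((U.map (fun i => (P n pN pM i) p)).toFinset : Set (Fin n)),
      ∀ z ∈ ((U.map (fun i => (P n pN pM i) p)).toFinset : Set (Fin n)),
      ∃ g ∈ stabilizer (grp n pN pM L0.S) a, g • y = z := by
    intro U p hUH y hy z hz
    rw [Finset.mem_coe, List.mem_toFinset, List.mem_map] at hy hz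
    obtain ⟨i, hi, rfl⟩ := hy
    obtain ⟨j, hj, rfl⟩ := hz
    have hg : P n pN pM j * (P n pN pM i)⁻¹ ∈ grp n pN pM L1.S :=
      Subgroup.mul_mem _ (hUH j hj) (Subgroup.inv_mem _ (hUH i hi))
    refine ⟨⟨_, hle hg⟩, hstab _ hg, ?_⟩
    show (P n pN pM j * (P n pN pM i)⁻¹) ((P n pN pM i) p) = _
    rw [Equiv.Perm.mul_apply, ← Equiv.Perm.mul_apply (P n pN pM i)⁻¹, inv_mul_cancel,
      Equiv.Perm.one_apply]
  apply isPreprimitive_of_rank3 a (D1 : Set (Fin n)) (D2 : Set (Fin n))
  · intro x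
    rcases hcover x.1 x.2 with h | h | h
    · left
      exact Fin.ext h
    · right; left
      obtain ⟨i, hi, hix⟩ := exists_of_mem_points hv hU1lt p1 x h
      rw [Finset.mem_coe, List.mem_toFinset, List.mem_map]
      exact ⟨i, hi, hix⟩
    · right; right
      obtain ⟨i, hi, hix⟩ := exists_of_mem_points hv hWlt p2 x h
      rw [Finset.mem_coe, List.mem_toFinset, List.mem_map]
      exact ⟨i, hi, hix⟩
  · exact htrans L1.U p1 hU1H
  · exact htrans W p2 hWH
  · rw [← Finset.coe_insert, Set.ncard_coe_finset, Finset.card_insert_of_notMem haD1, hD1card,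
      Nat.card_eq_fintype_card, Fintype.card_fin]
    exact hn1
  · rw [← Finset.coe_insert, Set.ncard_coe_finset, Finset.card_insert_of_notMem haD2, hD2card,
      Nat.card_eq_fintype_card, Fintype.card_fin]
    exact hn2

/-- simplicity of a primitive group from data. -/
theorem simple_of_data (hv : ∀ i < np, Valid n (pN i) (pM i)) (S0 : List ℕ)
    (hprim : IsPreprimitive (grp n pN pM S0) (Fin n))
    (p k : ℕ) (hp : p.Prime) (hpn : p ^ k ∣ n)
    (hpG : ¬ p ^ (k + 1) ∣ Nat.card (grp n pN pM S0))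
    (c5 : ℕ) (w5 : List ℕ) (hw5 : ∀ j ∈ w5, j ∈ S0) (hc5 : c5 < np)
    (h5tab : ∀ x < n, get (pN c5) x = ev pN w5 x)
    (hord : ∀ x < n, ev pN (List.replicate p c5) x = x) (hne : ∃ x < n, get (pN c5) x ≠ x)
    (cs : ℕ → List (List ℕ)) (hcs : ∀ i ∈ S0, ConjOK n pN pM np S0 c5 i (cs i))
    (hnt : 1 < Nat.card (grp n pN pM S0)) : IsSimpleGroup (grp n pN pM S0) := by
  classical
  have hS0 : ∀ j ∈ S0, j < np := by
    intro j hj
    exact (hcs j hj).2.2.2.1 j hj
  have hv5 : Valid n (pN c5) (pM c5) := hv _ hc5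
  -- the element of order `p`
  have hx5 : P n pN pM c5 = prodW n pN pM w5 := by
    have e : prodW n pN pM [c5] = prodW n pN pM w5 := by
      apply prodW_eq_of_ev
      · intro i hi
        simp only [List.mem_singleton] at hi
        rw [hi]; exact hv5
      · intro i hi
        exact hv _ (hS0 _ (hw5 i hi))
      · intro x hx
        exact h5tab x hx
    rw [prodW_cons, prodW_nil, mul_one] at e
    exact e
  have hx5G : P n pN pM c5 ∈ grp n pN pM S0 := by
    rw [hx5]
    apply prodW_mem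
    intro j hj
    exact P_mem_grp (hw5 j hj)
  let x : grp n pN pM S0 := ⟨P n pN pM c5, hx5G⟩
  have hxp : x ^ p = 1 := by
    apply Subtype.ext
    show (P n pN pM c5) ^ p = 1
    have e : prodW n pN pM (List.replicate p c5) = prodW n pN pM [] := by
      apply prodW_eq_of_ev
      · intro i hi
        rw [List.mem_replicate] at hi
        rw [hi.2]; exact hv5
      · intro i hi
        simp at hi
      · intro y hy
        exact hord y hy
    unfold prodW at e
    rw [List.map_replicate, List.prod_replicate] at e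
    exact e
  have hx1 : x ≠ 1 := by
    intro h
    obtain ⟨y, hy, hyne⟩ := hne
    apply hyne
    have h1 : P n pN pM c5 = 1 := congrArg Subtype.val h
    have h2 := P_apply_val hv hc5 (⟨y, hy⟩ : Fin n)
    rw [h1] at h2
    exact h2.symm
  haveI : Fact p.Prime := ⟨hp⟩
  have hox : orderOf x = p := orderOf_eq_prime hxp hx1
  haveI : Nontrivial (grp n pN pM S0) := Finite.one_lt_card_iff_nontrivial.mp hnt
  -- the normal closure
  have hgen : Subgroup.normalClosure {x} = ⊤ := by
    rw [eq_top_iff]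
    have hmap : grp n pN pM S0 ≤ (Subgroup.normalClosure {x}).map (grp n pN pM S0).subtype := by
      apply (Subgroup.closure_le _).mpr
      rintro g ⟨i, hi, rfl⟩
      obtain ⟨he, hwG⟩ := conj_spec (pM := pM) hv (hcs i hi)
      show P n pN pM i ∈ _
      rw [he]
      apply Subgroup.list_prod_mem
      intro f hf
      rw [List.mem_map] at hf
      obtain ⟨w, hw, rfl⟩ := hf
      refine ⟨(⟨prodW n pN pM w, hwG w hw⟩ : grp n pN pM S0) * x *
        (⟨prodW n pN pM w, hwG w hw⟩ : grp n pN pM S0)⁻¹, ?_, rfl⟩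
      exact (Subgroup.normalClosure_normal).conj_mem _
        (Subgroup.subset_normalClosure (Set.mem_singleton x)) _
    intro g _
    obtain ⟨g', hg', hgg⟩ := hmap g.2
    have : g' = g := Subtype.ext hgg
    rw [← this]
    exact hg'
  apply simple_of_cert hprim p k hp _ hpG x hox hgen
  rw [Nat.card_eq_fintype_card, Fintype.card_fin]
  exact hpn

end Cfsg.Agent.Lib.Helper8.SS
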