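import Cfsg.Agent.Lib.Helper8.SS4

set_option autoImplicit false
set_option linter.unusedSectionVars false
set_option linter.unusedVariables false

/-! Verified stabiliser chains, lifted: every permutation of the table carries an element of a
second group `Γ`; the chain certificates, checked on both sides, bound the order of the
subgroup of the product generated by the pairs, so that the group generated on the `Γ` side is
isomorphic to the permutation group. -/

namespace Cfsg.Agent.Lib.Helper8.SS

open Subgroup MulAction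

section abstract

variable {G Γ : Type*} [Group G] [Group Γ]

/-- a subgroup of a product no larger than its first projection, which is simple, and not
contained in the first factor, has isomorphic projections. -/
theorem iso_of_card_le [Finite G] [Finite Γ] (D : Subgroup (G × Γ))
    (hcard : Nat.card D ≤ Nat.card (D.map (MonoidHom.fst G Γ)))
    (hs : IsSimpleGroup (D.map (MonoidHom.fst G Γ))) (hne : ∃ d ∈ D, (d : G × Γ).2 ≠ 1) :
    Nonempty (D.map (MonoidHom.snd G Γ) ≃* D.map (MonoidHom.fst G Γ)) := by
  have hb1 : Function.Bijective ((MonoidHom.fst G Γ).subgroupMap D) :=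
    Function.Surjective.bijective_of_nat_card_le
      ((MonoidHom.fst G Γ).subgroupMap_surjective D) hcard
  let e1 : D ≃* D.map (MonoidHom.fst G Γ) := MulEquiv.ofBijective _ hb1
  haveI : IsSimpleGroup D := MulEquiv.isSimpleGroup e1
  have hker : ((MonoidHom.snd G Γ).subgroupMap D).ker = ⊥ := by
    rcases (((MonoidHom.snd G Γ).subgroupMap D).normal_ker).eq_bot_or_eq_top with h | h
    · exact h
    · exfalso
      obtain ⟨d, hd, hd2⟩ := hne
      apply hd2
      have hmem : (⟨d, hd⟩ : D) ∈ ((MonoidHom.snd G Γ).subgroupMap D).ker := by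
        rw [h]; trivial
      rw [MonoidHom.mem_ker] at hmem
      exact congrArg Subtype.val hmem
  have hb2 : Function.Bijective ((MonoidHom.snd G Γ).subgroupMap D) :=
    ⟨(MonoidHom.ker_eq_bot_iff _).mp hker, (MonoidHom.snd G Γ).subgroupMap_surjective D⟩
  let e2 : D ≃* D.map (MonoidHom.snd G Γ) := MulEquiv.ofBijective _ hb2
  exact ⟨e2.symm.trans e1⟩

end abstract

variable (n : ℕ) [NeZero n] (pN pM : ℕ → ℕ) (np : ℕ) {Γ : Type*} [Group Γ] (Q : ℕ → Γ)

/-- the `i`-th pair of the table. -/
def PQ (i : ℕ) : Equiv.Perm (Fin n) × Γ := (P n pN pM i, Q i)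

/-- the subgroup of the product generated by the pairs with indices in `S`. -/
def grpD (S : List ℕ) : Subgroup (Equiv.Perm (Fin n) × Γ) :=
  Subgroup.closure {g | ∃ i ∈ S, PQ n pN pM Q i = g}

/-- the product of a word on the `Γ` side. -/
def prodQ (w : List ℕ) : Γ := (w.map Q).prod

/-- the product of a word of pairs. -/
def prodD (w : List ℕ) : Equiv.Perm (Fin n) × Γ := (w.map (PQ n pN pM Q)).prod

/-- the certificate of a level on the `Γ` side. -/
def LevelQ (L : Level) : Prop :=
  (∀ m < L.U.length, m = 0 ∨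
    prodQ Q [L.U.getD m 0] =
      prodQ Q [(L.tree.getD m (0, 0)).1, L.U.getD (L.tree.getD m (0, 0)).2 0]) ∧
  (∀ a < L.S.length, ∀ m < L.U.length,
    prodQ Q [L.S.getD a 0, L.U.getD m 0] = prodQ Q ((L.sift.getD a []).getD m []))

/-- the certificate of a chain on the `Γ` side. -/
def ChainQ : List Level → Prop
  | [] => True
  | L :: rest => LevelQ Q L ∧ ChainQ rest

variable {n pN pM np Q}

theorem prodQ_nil : prodQ Q [] = 1 := rfl

theorem prodQ_cons (i : ℕ) (w : List ℕ) : prodQ Q (i :: w) = Q i * prodQ Q w := by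
  unfold prodQ
  rw [List.map_cons, List.prod_cons]

theorem prodD_nil : prodD n pN pM Q [] = 1 := rfl

theorem prodD_cons (i : ℕ) (w : List ℕ) :
    prodD n pN pM Q (i :: w) = PQ n pN pM Q i * prodD n pN pM Q w := by
  unfold prodD
  rw [List.map_cons, List.prod_cons]

theorem prodD_eq (w : List ℕ) : prodD n pN pM Q w = (prodW n pN pM w, prodQ Q w) := by
  induction w with
  | nil => rfl
  | cons i w ih =>
    rw [prodD_cons, ih, prodW_cons, prodQ_cons]
    rfl

theorem PQ_mem_grpD {S : List ℕ} {i : ℕ} (hi : i ∈ S) : PQ n pN pM Q i ∈ grpD n pN pM Q S :=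
  Subgroup.subset_closure ⟨i, hi, rfl⟩

theorem prodD_mem {H : Subgroup (Equiv.Perm (Fin n) × Γ)} {w : List ℕ}
    (h : ∀ i ∈ w, PQ n pN pM Q i ∈ H) : prodD n pN pM Q w ∈ H := by
  unfold prodD
  apply Subgroup.list_prod_mem
  intro g hg
  rw [List.mem_map] at hg
  obtain ⟨i, hi, rfl⟩ := hg
  exact h i hi

theorem grpD_nil : grpD n pN pM Q [] = ⊥ := by
  unfold grpD
  rw [Subgroup.closure_eq_bot_iff]
  rintro g ⟨i, hi, _⟩
  simp at hi

theorem map_fst_grpD (S : List ℕ) :
    (grpD n pN pM Q S).map (MonoidHom.fst _ Γ) = grp n pN pM S := by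
  unfold grpD grp
  rw [MonoidHom.map_closure]
  congr 1
  ext g
  constructor
  · rintro ⟨_, ⟨i, hi, rfl⟩, rfl⟩
    exact ⟨i, hi, rfl⟩
  · rintro ⟨i, hi, rfl⟩
    exact ⟨PQ n pN pM Q i, ⟨i, hi, rfl⟩, rfl⟩

theorem map_snd_grpD (S : List ℕ) :
    (grpD n pN pM Q S).map (MonoidHom.snd (Equiv.Perm (Fin n)) Γ) =
      Subgroup.closure {g | ∃ i ∈ S, Q i = g} := by
  unfold grpD
  rw [MonoidHom.map_closure]
  congr 1
  ext g
  constructor
  · rintro ⟨_, ⟨i, hi, rfl⟩, rfl⟩
    exact ⟨i, hi, rfl⟩
  · rintro ⟨i, hi, rfl⟩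
    exact ⟨PQ n pN pM Q i, ⟨i, hi, rfl⟩, rfl⟩

theorem level_spec_D [Finite Γ] (hv : ∀ i < np, Valid n (pN i) (pM i))
    (hid : ∀ x < n, get (pN 0) x = x) (hQ0 : Q 0 = 1)
    (L : Level) (Snext deep : List ℕ) (hok : LevelOK n pN np L Snext deep) (hq : LevelQ Q L)
    (hdeep : ∀ i ∈ deep, i < np ∧ PQ n pN pM Q i ∈ grpD n pN pM Q Snext) :
    (∀ i ∈ L.U, PQ n pN pM Q i ∈ grpD n pN pM Q L.S) ∧
    grpD n pN pM Q Snext ≤ grpD n pN pM Q L.S ∧
    Nat.card (grpD n pN pM Q L.S) ≤ L.U.length * Nat.card (grpD n pN pM Q Snext) := by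
  obtain ⟨hb, hSlt, hUlt, hhead, htree, hsift, hnest, hfix, hnodup⟩ := hok
  obtain ⟨hqtree, hqsift⟩ := hq
  have h0U : 0 ∈ L.U := by
    cases hU : L.U with
    | nil => rw [hU] at hhead; simp at hhead
    | cons a l =>
      rw [hU] at hhead
      simp only [List.head?_cons, Option.some.injEq] at hhead
      rw [hhead]
      exact List.mem_cons_self ..
  have hU0 : L.U.getD 0 0 = 0 := by
    cases hU : L.U with
    | nil => rfl
    | cons a l =>
      rw [hU] at hhead
      simp only [List.head?_cons, Option.some.injEq] at hhead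
      rw [hhead]
      rfl
  have hP0 : P n pN pM 0 = 1 := P_zero (hv 0 (hUlt 0 h0U)) hid
  have hPQ0 : PQ n pN pM Q 0 = 1 := by
    unfold PQ
    rw [hP0, hQ0]
    rfl
  -- (a)
  have ha : ∀ m, m < L.U.length → PQ n pN pM Q (L.U.getD m 0) ∈ grpD n pN pM Q L.S := by
    intro m
    induction m using Nat.strong_induction_on with
    | _ m ih =>
      intro hm
      rcases htree m hm with rfl | ⟨hp, hg, htab⟩
      · rw [hU0, hPQ0]
        exact Subgroup.one_mem _
      · have hpl : (L.tree.getD m (0, 0)).2 < L.U.length := lt_trans hp hm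
        have e : prodW n pN pM [L.U.getD m 0] =
            prodW n pN pM [(L.tree.getD m (0, 0)).1, L.U.getD (L.tree.getD m (0, 0)).2 0] := by
          apply prodW_eq_of_ev
          · intro i hi
            simp only [List.mem_singleton] at hi
            rw [hi]
            exact hv _ (hUlt _ (getD_mem hm))
          · intro i hi
            simp only [List.mem_cons, List.mem_nil_iff, or_false] at hi
            rcases hi with rfl | rfl
            · exact hv _ (hSlt _ hg)
            · exact hv _ (hUlt _ (getD_mem hpl))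
          · intro x hx
            exact htab x hx
        have eq : prodQ Q [L.U.getD m 0] =
            prodQ Q [(L.tree.getD m (0, 0)).1, L.U.getD (L.tree.getD m (0, 0)).2 0] := by
          rcases hqtree m hm with rfl | h
          · exact absurd hp (Nat.not_lt_zero _)
          · exact h
        have eD : prodD n pN pM Q [L.U.getD m 0] =
            prodD n pN pM Q [(L.tree.getD m (0, 0)).1, L.U.getD (L.tree.getD m (0, 0)).2 0] := by
          rw [prodD_eq, prodD_eq, e, eq]
        rw [prodD_cons, prodD_nil, mul_one, prodD_cons, prodD_cons, prodD_nil, mul_one] at eD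
        rw [eD]
        exact Subgroup.mul_mem _ (PQ_mem_grpD hg) (ih _ hp hpl)
  have haU : ∀ i ∈ L.U, PQ n pN pM Q i ∈ grpD n pN pM Q L.S := by
    intro i hi
    obtain ⟨m, hm, rfl⟩ := List.getElem_of_mem hi
    have := ha m hm
    rwa [List.getD_eq_getElem _ _ hm] at this
  have hle : grpD n pN pM Q Snext ≤ grpD n pN pM Q L.S := by
    apply Subgroup.closure_mono
    rintro g ⟨i, hi, rfl⟩
    exact ⟨i, hnest i hi, rfl⟩
  refine ⟨haU, hle, ?_⟩
  classical
  have hcl := card_closure_le {g | ∃ i ∈ L.S, PQ n pN pM Q i = g} (grpD n pN pM Q Snext)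
    (L.U.map (PQ n pN pM Q)).toFinset
    (by
      rw [List.mem_toFinset, List.mem_map]
      exact ⟨0, h0U, hPQ0⟩)
    (by
      rintro s ⟨i, hi, rfl⟩ u hu
      rw [List.mem_toFinset, List.mem_map] at hu
      obtain ⟨j, hj, rfl⟩ := hu
      obtain ⟨a, ha', rfl⟩ := List.getElem_of_mem hi
      obtain ⟨m, hm', rfl⟩ := List.getElem_of_mem hj
      obtain ⟨hh, ht, htab⟩ := hsift a ha' m hm'
      have hqs := hqsift a ha' m hm'
      rw [List.getD_eq_getElem _ _ ha', List.getD_eq_getElem _ _ hm'] at htab hqs
      have e : prodW n pN pM [L.S[a], L.U[m]] =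
          prodW n pN pM ((L.sift.getD a []).getD m []) := by
        apply prodW_eq_of_ev
        · intro i hi'
          simp only [List.mem_cons, List.mem_nil_iff, or_false] at hi'
          rcases hi' with rfl | rfl
          · exact hv _ (hSlt _ hi)
          · exact hv _ (hUlt _ hj)
        · intro i hi'
          cases hw : (L.sift.getD a []).getD m [] with
          | nil => rw [hw] at hi'; simp at hi'
          | cons c w =>
            rw [hw] at hi' hh ht
            simp only [List.mem_cons] at hi'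
            rcases hi' with rfl | hi'
            · exact hv _ (hUlt _ hh)
            · exact hv _ (hdeep _ (ht _ hi')).1
        · exact htab
      have eD : prodD n pN pM Q [L.S[a], L.U[m]] =
          prodD n pN pM Q ((L.sift.getD a []).getD m []) := by
        rw [prodD_eq, prodD_eq, e, hqs]
      have hsplit : prodD n pN pM Q ((L.sift.getD a []).getD m []) =
          PQ n pN pM Q (((L.sift.getD a []).getD m []).headD 0) *
            prodD n pN pM Q ((L.sift.getD a []).getD m []).tail := by
        cases (L.sift.getD a []).getD m [] with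
        | nil =>
          show (1 : Equiv.Perm (Fin n) × Γ) = PQ n pN pM Q 0 * 1
          rw [hPQ0, mul_one]
        | cons c w => exact prodD_cons c w
      rw [prodD_cons, prodD_cons, prodD_nil, mul_one, hsplit] at eD
      refine ⟨PQ n pN pM Q (((L.sift.getD a []).getD m []).headD 0), ?_,
        prodD n pN pM Q ((L.sift.getD a []).getD m []).tail, ?_, eD⟩
      · rw [List.mem_toFinset, List.mem_map]
        exact ⟨_, hh, rfl⟩
      · apply prodD_mem
        intro i hi'
        exact (hdeep _ (ht _ hi')).2)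
  refine hcl.trans (Nat.mul_le_mul_right _ ?_)
  exact (List.toFinset_card_le _).trans (by rw [List.length_map])

theorem chain_spec_D [Finite Γ] (hv : ∀ i < np, Valid n (pN i) (pM i))
    (hid : ∀ x < n, get (pN 0) x = x) (hQ0 : Q 0 = 1) :
    ∀ Ls : List Level, ChainOK n pN np Ls → ChainQ Q Ls →
      (∀ i ∈ deepOf Ls, i < np ∧ PQ n pN pM Q i ∈ grpD n pN pM Q (headS Ls)) ∧
      Nat.card (grpD n pN pM Q (headS Ls)) ≤ (Ls.map (fun L => L.U.length)).prod := by
  intro Ls
  induction Ls with
  | nil =>
    intro _ _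
    refine ⟨?_, ?_⟩
    · intro i hi
      simp [deepOf] at hi
    · show Nat.card (grpD n pN pM Q []) ≤ 1
      rw [grpD_nil, Subgroup.card_bot]
  | cons L rest ih =>
    rintro ⟨hL, hrest⟩ ⟨hqL, hqrest⟩
    obtain ⟨ih1, ih2⟩ := ih hrest hqrest
    obtain ⟨h1, h2, h3⟩ := level_spec_D hv hid hQ0 L (headS rest) (deepOf rest) hL hqL ih1
    refine ⟨?_, ?_⟩
    · intro i hi
      have : i ∈ L.U ∨ i ∈ deepOf rest := by
        unfold deepOf at hi ⊢
        rw [List.map_cons, List.flatten_cons, List.mem_append] at hi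
        exact hi
      rcases this with hi | hi
      · exact ⟨hL.2.2.1 i hi, h1 i hi⟩
      · exact ⟨(ih1 i hi).1, h2 (ih1 i hi).2⟩
    · show Nat.card (grpD n pN pM Q L.S) ≤ _
      rw [List.map_cons, List.prod_cons]
      exact h3.trans (Nat.mul_le_mul_left _ ih2)

/-! ### straight-line programs -/

variable (n pN np) in
/-- certificate: every permutation with index in `W` is a generator from `S` or the product of
two earlier ones. -/
def SlpOK (S W : List ℕ) (slp : List (ℕ × ℕ)) : Prop :=
  (∀ i ∈ S, i < np) ∧ (∀ i ∈ W, i < np) ∧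
  ∀ m < W.length, W.getD m 0 ∈ S ∨ ((slp.getD m (0, 0)).1 < m ∧ (slp.getD m (0, 0)).2 < m ∧
    ∀ x < n, get (pN (W.getD m 0)) x =
      get (pN (W.getD (slp.getD m (0, 0)).1 0)) (get (pN (W.getD (slp.getD m (0, 0)).2 0)) x))

instance (S W : List ℕ) (slp : List (ℕ × ℕ)) : Decidable (SlpOK n pN np S W slp) := by
  unfold SlpOK
  infer_instance

variable (Q) in
/-- the same certificate on the `Γ` side. -/
def SlpQ (S W : List ℕ) (slp : List (ℕ × ℕ)) : Prop :=
  ∀ m < W.length, W.getD m 0 ∈ S ∨
    prodQ Q [W.getD m 0] =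
      prodQ Q [W.getD (slp.getD m (0, 0)).1 0, W.getD (slp.getD m (0, 0)).2 0]

theorem slp_spec_D (hv : ∀ i < np, Valid n (pN i) (pM i)) {S W : List ℕ}
    {slp : List (ℕ × ℕ)} (hok : SlpOK n pN np S W slp) (hq : SlpQ Q S W slp) :
    ∀ i ∈ W, PQ n pN pM Q i ∈ grpD n pN pM Q S := by
  obtain ⟨hSlt, hWlt, hslp⟩ := hok
  have ha : ∀ m, m < W.length → PQ n pN pM Q (W.getD m 0) ∈ grpD n pN pM Q S := by
    intro m
    induction m using Nat.strong_induction_on with
    | _ m ih =>
      intro hm
      by_cases hmem : W.getD m 0 ∈ S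
      · exact PQ_mem_grpD hmem
      · rcases hslp m hm with h | ⟨h1, h2, htab⟩
        · exact absurd h hmem
        · have hl1 : (slp.getD m (0, 0)).1 < W.length := lt_trans h1 hm
          have hl2 : (slp.getD m (0, 0)).2 < W.length := lt_trans h2 hm
          have e : prodW n pN pM [W.getD m 0] =
              prodW n pN pM [W.getD (slp.getD m (0, 0)).1 0, W.getD (slp.getD m (0, 0)).2 0] := by
            apply prodW_eq_of_ev
            · intro i hi
              simp only [List.mem_singleton] at hi
              rw [hi]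
              exact hv _ (hWlt _ (getD_mem hm))
            · intro i hi
              simp only [List.mem_cons, List.mem_nil_iff, or_false] at hi
              rcases hi with rfl | rfl
              · exact hv _ (hWlt _ (getD_mem hl1))
              · exact hv _ (hWlt _ (getD_mem hl2))
            · intro x hx
              exact htab x hx
          have eq : prodQ Q [W.getD m 0] =
              prodQ Q [W.getD (slp.getD m (0, 0)).1 0, W.getD (slp.getD m (0, 0)).2 0] := by
            rcases hq m hm with h | h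
            · exact absurd h hmem
            · exact h
          have eD : prodD n pN pM Q [W.getD m 0] =
              prodD n pN pM Q [W.getD (slp.getD m (0, 0)).1 0,
                W.getD (slp.getD m (0, 0)).2 0] := by
            rw [prodD_eq, prodD_eq, e, eq]
          rw [prodD_cons, prodD_nil, mul_one, prodD_cons, prodD_cons, prodD_nil, mul_one] at eD
          rw [eD]
          exact Subgroup.mul_mem _ (ih _ h1 hl1) (ih _ h2 hl2)
  intro i hi
  obtain ⟨m, hm, rfl⟩ := List.getElem_of_mem hi
  have := ha m hm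
  rwa [List.getD_eq_getElem _ _ hm] at this

/-- the main theorem: the group generated on the `Γ` side by two of the elements is isomorphic
to the permutation group of the chain, if the latter is simple. -/
theorem lifted_iso [Finite Γ] (hv : ∀ i < np, Valid n (pN i) (pM i))
    (hid : ∀ x < n, get (pN 0) x = x) (hQ0 : Q 0 = 1) (Ls : List Level)
    (hchain : ChainOK n pN np Ls) (hchainQ : ChainQ Q Ls)
    (S : List ℕ) (W : List ℕ) (slp : List (ℕ × ℕ))
    (hW : SlpOK n pN np S W slp) (hWQ : SlpQ Q S W slp)
    (hS0 : ∀ i ∈ headS Ls, i ∈ W) (hS : ∀ i ∈ S, i ∈ headS Ls)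
    (hsimple : IsSimpleGroup (grp n pN pM (headS Ls)))
    (hne : ∃ i ∈ S, Q i ≠ 1) :
    Nonempty (Subgroup.closure {g | ∃ i ∈ S, Q i = g} ≃* grp n pN pM (headS Ls)) := by
  have h1 := (chain_spec hv hid Ls hchain).2
  have h2 := (chain_spec_D (Q := Q) hv hid hQ0 Ls hchain hchainQ).2
  have hD : grpD n pN pM Q (headS Ls) = grpD n pN pM Q S := by
    apply le_antisymm
    · apply (Subgroup.closure_le _).mpr
      rintro g ⟨i, hi, rfl⟩
      exact slp_spec_D hv hW hWQ i (hS0 i hi)
    · apply Subgroup.closure_mono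
      rintro g ⟨i, hi, rfl⟩
      exact ⟨i, hS i hi, rfl⟩
  have hfst := map_fst_grpD (n := n) (pN := pN) (pM := pM) (Q := Q) (headS Ls)
  have hsnd := map_snd_grpD (n := n) (pN := pN) (pM := pM) (Q := Q) S
  have key := iso_of_card_le (grpD n pN pM Q (headS Ls))
    (by rw [hfst, h1]; exact h2)
    (by rw [hfst]; exact hsimple)
    (by
      obtain ⟨i, hi, hne'⟩ := hne
      exact ⟨PQ n pN pM Q i, PQ_mem_grpD (hS i hi), hne'⟩)
  rw [hfst] at key
  rw [hD, hsnd] at key
  exact key

end Cfsg.Agent.Lib.Helper8.SS
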