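import Cfsg.Agent.Lib.Helper8.SS5

set_option autoImplicit false
set_option linter.unusedSectionVars false
set_option linter.unusedVariables false

/-! Primitivity of a transitive group from the orbits of a point stabiliser: a block through
the point is a union of such orbits, and the finitely many candidates are excluded by their
sizes or by a witness. -/

namespace Cfsg.Agent.Lib.Helper8.SS

open Subgroup MulAction

section abstract

open scoped Pointwise

variable {G : Type*} [Group G] {α : Type*} [MulAction G α]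

theorem isPreprimitive_of_suborbits [Finite α] [IsPretransitive G α] (a : α) (H : Subgroup G)
    (hH : ∀ h ∈ H, h • a = a) (k : ℕ) (Δ : ℕ → Set α)
    (hcover : ∀ x, x = a ∨ ∃ j < k, x ∈ Δ j)
    (horb : ∀ j < k, ∀ y ∈ Δ j, ∀ z ∈ Δ j, ∃ g ∈ H, g • y = z)
    (hcert : ∀ T ∈ (List.range k).sublists, T = [] ∨ T = List.range k ∨
      ¬ ((insert a (⋃ j ∈ T, Δ j)).ncard ∣ Nat.card α) ∨
      ∃ g : G, g • a ∈ insert a (⋃ j ∈ T, Δ j) ∧
        ∃ y ∈ insert a (⋃ j ∈ T, Δ j), g • y ∉ insert a (⋃ j ∈ T, Δ j)) :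
    IsPreprimitive G α := by
  classical
  apply IsPreprimitive.of_isTrivialBlock_base a
  intro B haB hB
  have hinv : ∀ g ∈ H, ∀ y ∈ B, g • y ∈ B := by
    intro g hg y hy
    have hgs : g ∈ stabilizer G a := mem_stabilizer_iff.mpr (hH g hg)
    have hgB : g • B = B := mem_stabilizer_iff.mp (hB.stabilizer_le haB hgs)
    rw [← hgB]
    exact Set.smul_mem_smul_set hy
  let T : List ℕ := (List.range k).filter (fun j => decide ((B ∩ Δ j).Nonempty))
  have hT : T ∈ (List.range k).sublists := List.mem_sublists.mpr List.filter_sublist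
  have hTmem : ∀ j, j ∈ T ↔ j < k ∧ (B ∩ Δ j).Nonempty := by
    intro j
    simp only [T, List.mem_filter, List.mem_range, decide_eq_true_eq]
  have hBeq : B = insert a (⋃ j ∈ T, Δ j) := by
    ext x
    constructor
    · intro hx
      rcases hcover x with rfl | ⟨j, hj, hxj⟩
      · exact Set.mem_insert _ _
      · apply Set.mem_insert_of_mem
        rw [Set.mem_iUnion₂]
        exact ⟨j, (hTmem j).mpr ⟨hj, x, hx, hxj⟩, hxj⟩
    · rintro (rfl | hx)
      · exact haB
      · rw [Set.mem_iUnion₂] at hx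
        obtain ⟨j, hjT, hxj⟩ := hx
        obtain ⟨hj, y, hyB, hyj⟩ := (hTmem j).mp hjT
        obtain ⟨g, hg, rfl⟩ := horb j hj y hyj x hxj
        exact hinv g hg y hyB
  rcases hcert T hT with h | h | h | ⟨g, hga, y, hy, hgy⟩
  · left
    rw [hBeq, h]
    simp
  · right
    rw [hBeq]
    ext x
    simp only [Set.mem_univ, iff_true]
    rcases hcover x with rfl | ⟨j, hj, hxj⟩
    · exact Set.mem_insert _ _
    · apply Set.mem_insert_of_mem
      rw [Set.mem_iUnion₂]
      exact ⟨j, by rw [h]; exact List.mem_range.mpr hj, hxj⟩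
  · exfalso
    apply h
    rw [← hBeq]
    exact hB.ncard_dvd_card ⟨a, haB⟩
  · exfalso
    rw [← hBeq] at hga hy hgy
    rcases hB.smul_eq_or_disjoint g with h | h
    · apply hgy
      rw [← h]
      exact Set.smul_mem_smul_set hy
    · exact Set.disjoint_left.mp h (Set.smul_mem_smul_set haB) hga

end abstract

variable {n : ℕ} [NeZero n] {pN pM : ℕ → ℕ} {np : ℕ}

theorem ncard_of_list (l : List ℕ) (hl : ∀ x ∈ l, x < n) (hnd : l.Nodup) :
    ({x : Fin n | x.1 ∈ l} : Set (Fin n)).ncard = l.length := by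
  classical
  rw [← Set.ncard_image_of_injective _ Fin.val_injective]
  have : Fin.val '' ({x : Fin n | x.1 ∈ l} : Set (Fin n)) = (l.toFinset : Set ℕ) := by
    ext y
    simp only [Set.mem_image, Set.mem_ofPred_eq, Finset.mem_coe, List.mem_toFinset]
    constructor
    · rintro ⟨x, hx, rfl⟩
      exact hx
    · intro hy
      exact ⟨⟨y, hl y hy⟩, hy, rfl⟩
  rw [this, Set.ncard_coe_finset, List.toFinset_card_of_nodup hnd]

/-- the union of the orbits with indices in `T`, with the base point. -/
def blockList (b : ℕ) (orbs : List (List ℕ)) (T : List ℕ) : List ℕ :=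
  b :: (T.map (fun j => orbs.getD j [])).flatten

/-- primitivity from the orbits of the stabiliser of the first base point. -/
theorem prim_of_suborbit_data (hv : ∀ i < np, Valid n (pN i) (pM i))
    (hid : ∀ x < n, get (pN 0) x = x) (L0 L1 : Level) (rest : List Level)
    (hchain : ChainOK n pN np (L0 :: L1 :: rest))
    (hcover0 : ∀ x < n, x ∈ L0.U.map (fun i => get (pN i) L0.b))
    (orbs : List (List ℕ)) (otree : List (List (ℕ × ℕ)))
    (horb : ∀ j < orbs.length, ∀ m < (orbs.getD j []).length, m = 0 ∨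
      (((otree.getD j []).getD m (0, 0)).2 < m ∧ ((otree.getD j []).getD m (0, 0)).1 ∈ L1.S ∧
        get (pN ((otree.getD j []).getD m (0, 0)).1)
          ((orbs.getD j []).getD ((otree.getD j []).getD m (0, 0)).2 0) =
            (orbs.getD j []).getD m 0))
    (hlt : ∀ x ∈ orbs.flatten, x < n)
    (hcover : ∀ x < n, x = L0.b ∨ x ∈ orbs.flatten)
    (hnd : (L0.b :: orbs.flatten).Nodup)
    (wit : List (List ℕ × ℕ × ℕ))
    (hcert : ∀ T ∈ (List.range orbs.length).sublists, T = [] ∨ T = List.range orbs.length ∨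
      ¬ ((blockList L0.b orbs T).length ∣ n) ∨
      ∃ e ∈ wit, e.1 = T ∧ e.2.1 ∈ L0.U ∧ get (pN e.2.1) L0.b ∈ blockList L0.b orbs T ∧
        e.2.2 < n ∧ e.2.2 ∈ blockList L0.b orbs T ∧
        get (pN e.2.1) e.2.2 ∉ blockList L0.b orbs T) :
    IsPreprimitive (grp n pN pM L0.S) (Fin n) := by
  classical
  obtain ⟨hL0, hrest⟩ := hchain
  have hrest' := hrest
  obtain ⟨hL1, _⟩ := hrest
  obtain ⟨ih1, -⟩ := chain_spec (pM := pM) hv hid (L1 :: rest) hrest'
  obtain ⟨h0U, hle, -⟩ := level_spec (pM := pM) hv hid L0 L1.S (deepOf (L1 :: rest)) hL0 ih1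
  have hb0 : L0.b < n := hL0.1
  let a : Fin n := ⟨L0.b, hb0⟩
  have hU0lt : ∀ i ∈ L0.U, i < np := hL0.2.2.1
  have hS1lt : ∀ i ∈ L1.S, i < np := hL1.2.1
  have hHfix : ∀ g ∈ grp n pN pM L1.S, g a = a :=
    grp_fix hv hS1lt hb0 hL0.2.2.2.2.2.2.2.1
  haveI : IsPretransitive (grp n pN pM L0.S) (Fin n) :=
    transitive_of_cover hv hU0lt h0U a hcover0
  let Δ : ℕ → Set (Fin n) := fun j => {x : Fin n | x.1 ∈ orbs.getD j []}
  have hmemflat : ∀ j < orbs.length, ∀ x ∈ orbs.getD j [], x ∈ orbs.flatten := by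
    intro j hj x hx
    rw [List.mem_flatten]
    refine ⟨orbs.getD j [], ?_, hx⟩
    rw [List.getD_eq_getElem _ _ hj]
    exact List.getElem_mem hj
  -- reachability inside an orbit
  have hgetlt : ∀ j, j < orbs.length → ∀ m, m < (orbs.getD j []).length →
      (orbs.getD j []).getD m 0 < n := by
    intro j hj m hm
    apply hlt _ (hmemflat j hj _ _)
    rw [List.getD_eq_getElem _ _ hm]
    exact List.getElem_mem hm
  have hreach : ∀ j (hj : j < orbs.length) m (hm : m < (orbs.getD j []).length)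
      (h0 : 0 < (orbs.getD j []).length),
      ∃ g ∈ grp n pN pM L1.S,
        g ⟨(orbs.getD j []).getD 0 0, hgetlt j hj 0 h0⟩ =
          ⟨(orbs.getD j []).getD m 0, hgetlt j hj m hm⟩ := by
    intro j hj m
    induction m using Nat.strong_induction_on with
    | _ m ih =>
      intro hm h0
      rcases horb j hj m hm with rfl | ⟨hp, hg, htab⟩
      · exact ⟨1, Subgroup.one_mem _, rfl⟩
      · have hpl : ((otree.getD j []).getD m (0, 0)).2 < (orbs.getD j []).length :=
          lt_trans hp hm
        obtain ⟨g, hg', hgeq⟩ := ih _ hp hpl h0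
        refine ⟨P n pN pM ((otree.getD j []).getD m (0, 0)).1 * g,
          Subgroup.mul_mem _ (P_mem_grp hg) hg', ?_⟩
        rw [Equiv.Perm.mul_apply, hgeq]
        apply Fin.ext
        rw [P_apply_val hv (hS1lt _ hg)]
        exact htab
  let H : Subgroup (grp n pN pM L0.S) := (grp n pN pM L1.S).subgroupOf (grp n pN pM L0.S)
  have hΔ : ∀ T : List ℕ, (insert a (⋃ j ∈ T, Δ j) : Set (Fin n)) =
      {x : Fin n | x.1 ∈ blockList L0.b orbs T} := by
    intro T
    ext x
    simp only [Set.mem_insert_iff, Set.mem_iUnion₂, Set.mem_ofPred_eq, blockList, List.mem_cons,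
      List.mem_flatten, List.mem_map, Δ]
    constructor
    · rintro (rfl | ⟨j, hjT, hx⟩)
      · exact Or.inl rfl
      · exact Or.inr ⟨_, ⟨j, hjT, rfl⟩, hx⟩
    · rintro (h | ⟨l, ⟨j, hjT, rfl⟩, hx⟩)
      · exact Or.inl (Fin.ext h)
      · exact Or.inr ⟨j, hjT, hx⟩
  have hsub : ∀ T ∈ (List.range orbs.length).sublists,
      (blockList L0.b orbs T).Sublist (L0.b :: orbs.flatten) := by
    intro T hT
    rw [List.mem_sublists] at hT
    unfold blockList
    apply List.Sublist.cons_cons
    have h1 : (T.map (fun j => orbs.getD j [])).Sublist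
        ((List.range orbs.length).map (fun j => orbs.getD j [])) := hT.map _
    have h2 : (List.range orbs.length).map (fun j => orbs.getD j []) = orbs := by
      apply List.ext_getElem
      · simp
      · intro i h1 h2
        simp only [List.getElem_map, List.getElem_range]
        rw [List.getD_eq_getElem _ _ (by simpa using h1)]
    rw [h2] at h1
    exact h1.flatten
  apply isPreprimitive_of_suborbits a H _ orbs.length Δ
  · intro x
    rcases hcover x.1 x.2 with h | h
    · exact Or.inl (Fin.ext h)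
    · right
      rw [List.mem_flatten] at h
      obtain ⟨l, hl, hxl⟩ := h
      obtain ⟨j, hj, rfl⟩ := List.getElem_of_mem hl
      refine ⟨j, hj, ?_⟩
      show x.1 ∈ orbs.getD j []
      rw [List.getD_eq_getElem _ _ hj]
      exact hxl
  · intro j hj y hy z hz
    have hy' : y.1 ∈ orbs.getD j [] := hy
    have hz' : z.1 ∈ orbs.getD j [] := hz
    obtain ⟨my, hmy, hmye⟩ := List.getElem_of_mem hy'
    obtain ⟨mz, hmz, hmze⟩ := List.getElem_of_mem hz'
    have h0 : 0 < (orbs.getD j []).length := lt_of_le_of_lt (Nat.zero_le _) hmy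
    obtain ⟨gy, hgy, hgye⟩ := hreach j hj my hmy h0
    obtain ⟨gz, hgz, hgze⟩ := hreach j hj mz hmz h0
    have hg : gz * gy⁻¹ ∈ grp n pN pM L1.S := Subgroup.mul_mem _ hgz (Subgroup.inv_mem _ hgy)
    refine ⟨⟨gz * gy⁻¹, hle hg⟩, ?_, ?_⟩
    · exact Subgroup.mem_subgroupOf.mpr hg
    · show (gz * gy⁻¹) y = z
      have ey : y = gy ⟨(orbs.getD j []).getD 0 0, hgetlt j hj 0 h0⟩ := by
        rw [hgye]
        apply Fin.ext
        show y.1 = (orbs.getD j []).getD my 0
        rw [List.getD_eq_getElem _ _ hmy, hmye]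
      have ez : z = gz ⟨(orbs.getD j []).getD 0 0, hgetlt j hj 0 h0⟩ := by
        rw [hgze]
        apply Fin.ext
        show z.1 = (orbs.getD j []).getD mz 0
        rw [List.getD_eq_getElem _ _ hmz, hmze]
      rw [ey, ez, Equiv.Perm.mul_apply, ← Equiv.Perm.mul_apply gy⁻¹, inv_mul_cancel,
        Equiv.Perm.one_apply]
  · intro T hT
    rcases hcert T hT with h | h | h | ⟨e, he, heT, heU, h1, h2lt, h2, h3⟩
    · exact Or.inl h
    · exact Or.inr (Or.inl h)
    · right; right; left
      rw [hΔ T, ncard_of_list _ _ ((hsub T hT).nodup hnd), Nat.card_eq_fintype_card,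
        Fintype.card_fin]
      · exact h
      · intro x hx
        have := (hsub T hT).subset hx
        rcases List.mem_cons.mp this with h | h
        · rw [h]; exact hb0
        · exact hlt x h
    · right; right; right
      rw [hΔ T]
      refine ⟨⟨P n pN pM e.2.1, h0U _ heU⟩, ?_, ⟨e.2.2, h2lt⟩, h2, ?_⟩
      · show ((P n pN pM e.2.1) a).1 ∈ blockList L0.b orbs T
        rw [P_apply_val hv (hU0lt _ heU)]
        rw [← heT]
        rw [← heT] at h1
        exact h1
      · show ¬ ((P n pN pM e.2.1) ⟨e.2.2, h2lt⟩).1 ∈ blockList L0.b orbs T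
        rw [P_apply_val hv (hU0lt _ heU)]
        exact h3
  · intro h hh
    have : (h : Equiv.Perm (Fin n)) ∈ grp n pN pM L1.S := Subgroup.mem_subgroupOf.mp hh
    exact hHfix _ this

end Cfsg.Agent.Lib.Helper8.SS
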