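import Cfsg.Agent.Lib.Helper8.MatN2

set_option autoImplicit false
set_option linter.unusedSectionVars false
set_option linter.unusedVariables false

/-! Boolean versions of the heavy certificates of a stabiliser chain, which the kernel
evaluates much faster than the decidable propositions. -/

namespace Cfsg.Agent.Lib.Helper8.SS

open Cfsg.Agent.Lib.Helper8.FastDec Cfsg.Agent.Lib.Helper8.MatN

/-- entry `x` of the table coded by `N`, by primitive operations. -/
def getR (N x : ℕ) : ℕ := Nat.mod (Nat.shiftRight N (Nat.mul 10 x)) 1024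

theorem getR_eq (N x : ℕ) : getR N x = get N x := rfl

/-- evaluate a list of codes on a point (by the recursor, which the kernel evaluates
quickly). -/
noncomputable def evC (c : List ℕ) (x : ℕ) : ℕ :=
  List.rec (motive := fun _ => ℕ) x (fun N _ ih => getR N ih) c

theorem evC_nil (x : ℕ) : evC [] x = x := rfl

theorem evC_cons (N : ℕ) (c : List ℕ) (x : ℕ) : evC (N :: c) x = getR N (evC c x) := rfl

theorem evC_map (pN : ℕ → ℕ) (w : List ℕ) (x : ℕ) : evC (w.map pN) x = ev pN w x := by
  induction w with
  | nil => rfl
  | cons i w ih =>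
    rw [List.map_cons, evC_cons, ih]
    rfl

/-- membership in a list of numbers (boolean, by the recursor). -/
noncomputable def memB (a : ℕ) (l : List ℕ) : Bool :=
  List.rec (motive := fun _ => Bool) false (fun b _ ih => Nat.beq a b || ih) l

theorem memB_iff (a : ℕ) (l : List ℕ) : memB a l = true ↔ a ∈ l := by
  induction l with
  | nil => simp [memB]
  | cons b l ih =>
    have : memB a (b :: l) = (Nat.beq a b || memB a l) := rfl
    rw [this, Bool.or_eq_true, ih, List.mem_cons]
    constructor
    · rintro (h | h)
      · exact Or.inl (Nat.eq_of_beq_eq_true h)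
      · exact Or.inr h
    · rintro (h | h)
      · exact Or.inl (by rw [h]; exact Nat.beq_refl b)
      · exact Or.inr h

/-- no repetition in a list of numbers (boolean, by the recursor). -/
noncomputable def nodupB (l : List ℕ) : Bool :=
  List.rec (motive := fun _ => Bool) true (fun a t ih => !(memB a t) && ih) l

theorem nodup_of_nodupB (l : List ℕ) (h : nodupB l = true) : l.Nodup := by
  induction l with
  | nil => exact List.nodup_nil
  | cons a t ih =>
    have e : nodupB (a :: t) = (!(memB a t) && nodupB t) := rfl
    rw [e, Bool.and_eq_true, Bool.not_eq_true', ← Bool.not_eq_true, memB_iff] at h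
    exact List.nodup_cons.mpr ⟨h.1, ih h.2⟩

variable (n : ℕ) (pN pM : ℕ → ℕ) (np : ℕ)

/-- two words give the same map on the points (boolean). -/
noncomputable def eqWordB (w w' : List ℕ) : Bool :=
  forceList (w.map pN) (fun c => forceList (w'.map pN) (fun c' =>
    allLt n (fun x => Nat.beq (evC c x) (evC c' x))))

/-- all the pairs of tables are valid (boolean). -/
noncomputable def validAllB : Bool :=
  allLt np (fun i => withVal (pN i) (fun N => withVal (pM i) (fun M =>
    allLt n (fun x => Nat.blt (getR N x) n && (Nat.blt (getR M x) n &&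
      (Nat.beq (getR M (getR N x)) x && Nat.beq (getR N (getR M x)) x))))))

/-- the cheap part of the certificate of a level. -/
def LevelCheap (L : Level) (Snext : List ℕ) : Prop :=
  L.b < n ∧ (∀ i ∈ L.S, i < np) ∧ (∀ i ∈ L.U, i < np) ∧ L.U.head? = some 0 ∧
  (∀ i ∈ Snext, i ∈ L.S) ∧ (∀ i ∈ Snext, get (pN i) L.b = L.b)

instance (L : Level) (Snext : List ℕ) : Decidable (LevelCheap n pN np L Snext) := by
  unfold LevelCheap
  infer_instance

/-- the Schreier tree of a level (boolean). -/
noncomputable def treeB (L : Level) : Bool :=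
  allLt L.U.length (fun m => Nat.beq m 0 ||
    withVal (nthR L.tree m (0, 0)).1 (fun g => withVal (nthR L.tree m (0, 0)).2 (fun q =>
      withVal (nthR L.U m 0) (fun u => withVal (nthR L.U q 0) (fun u' =>
        Nat.blt q m && (memB g L.S && eqWordB n pN [u] [g, u']))))))

/-- the sifting words of a level (boolean). -/
noncomputable def siftB (L : Level) (deep : List ℕ) : Bool :=
  forceList deep (fun deep' =>
    allLt L.S.length (fun a => withVal (nthR L.S a 0) (fun s =>
      allLt L.U.length (fun m => withVal (nthR L.U m 0) (fun u =>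
        forceList (nthR (nthR L.sift a []) m []) (fun w =>
          memB (w.headD 0) L.U &&
            (w.tail.all (fun i => memB i deep') && eqWordB n pN [s, u] w)))))))

variable {n pN pM np}

theorem eqWordB_spec {w w' : List ℕ} (h : eqWordB n pN w w' = true) :
    ∀ x < n, ev pN w x = ev pN w' x := by
  unfold eqWordB at h
  rw [forceList_eq, forceList_eq, allLt_iff] at h
  intro x hx
  have := Nat.eq_of_beq_eq_true (h x hx)
  rwa [evC_map, evC_map] at this

theorem valid_of_validAllB (h : validAllB n pN pM np = true) :
    ∀ i < np, Valid n (pN i) (pM i) := by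
  unfold validAllB at h
  rw [allLt_iff] at h
  intro i hi
  have := h i hi
  rw [withVal_eq, withVal_eq, allLt_iff] at this
  intro x hx
  have := this x hx
  rw [Bool.and_eq_true, Bool.and_eq_true, Bool.and_eq_true, blt_iff, blt_iff] at this
  exact ⟨this.1, this.2.1, Nat.eq_of_beq_eq_true this.2.2.1, Nat.eq_of_beq_eq_true this.2.2.2⟩

theorem levelOK_of {L : Level} {Snext deep : List ℕ} (h1 : LevelCheap n pN np L Snext)
    (hnd' : nodupB (L.U.map (fun i => get (pN i) L.b)) = true)
    (h2 : treeB n pN L = true) (h3 : siftB n pN L deep = true) :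
    LevelOK n pN np L Snext deep := by
  obtain ⟨hb, hS, hU, hhead, hnest, hfix⟩ := h1
  have hnd := nodup_of_nodupB _ hnd'
  unfold treeB at h2
  unfold siftB at h3
  rw [forceList_eq] at h3
  rw [allLt_iff] at h2 h3
  refine ⟨hb, hS, hU, hhead, ?_, ?_, hnest, hfix, hnd⟩
  · intro m hm
    have := h2 m hm
    rw [Bool.or_eq_true] at this
    rcases this with h0 | h
    · exact Or.inl (Nat.eq_of_beq_eq_true h0)
    · right
      rw [withVal_eq, withVal_eq, withVal_eq, withVal_eq, Bool.and_eq_true, Bool.and_eq_true,
        blt_iff, nthR_eq, nthR_eq, nthR_eq] at h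
      obtain ⟨ha, hb', hc⟩ := h
      exact ⟨ha, (memB_iff _ _).mp hb', eqWordB_spec hc⟩
  · intro a ha m hm
    have := h3 a ha
    rw [withVal_eq, allLt_iff] at this
    have := this m hm
    rw [withVal_eq, forceList_eq, Bool.and_eq_true, Bool.and_eq_true, List.all_eq_true, nthR_eq,
      nthR_eq, nthR_eq, nthR_eq] at this
    obtain ⟨ha', hb', hc⟩ := this
    exact ⟨(memB_iff _ _).mp ha', fun i hi => (memB_iff _ _).mp (hb' i hi),
      eqWordB_spec hc⟩

end Cfsg.Agent.Lib.Helper8.SS
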