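import Cfsg.Agent.Lib.Helper8.SSZ

set_option autoImplicit false
set_option linter.unusedSectionVars false
set_option linter.unusedVariables false

/-! Verified stabiliser chains of any length: elements as products of transversal elements, the
base, and the pruned centraliser search over the levels. -/

namespace Cfsg.Agent.Lib.Helper8.SS

open Cfsg.Agent.Lib.Helper8.FastDec Cfsg.Agent.Lib.Helper8.MatN

variable {n : ℕ} [NeZero n] {pN pM : ℕ → ℕ} {np : ℕ}

/-- every element of a group with a verified chain is a product of transversal elements -/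
theorem chain_decomp (hv : ∀ i < np, Valid n (pN i) (pM i)) (hid : ∀ x < n, get (pN 0) x = x) :
    ∀ Ls : List Level, ChainOK n pN np Ls → ∀ g ∈ grp n pN pM (headS Ls),
      ∃ r : List ℕ, List.Forall₂ (fun i (L : Level) => i ∈ L.U) r Ls ∧
        g = prodW n pN pM r := by
  intro Ls
  induction Ls with
  | nil =>
    intro _ g hg
    have : g ∈ grp n pN pM [] := hg
    rw [grp_nil, Subgroup.mem_bot] at this
    exact ⟨[], List.Forall₂.nil, this⟩
  | cons L rest ih =>
    rintro ⟨hL, hrest⟩ g hg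
    obtain ⟨i, hi, hmem⟩ := level_decomp hv hid L (headS rest) (deepOf rest) hL
      (chain_spec hv hid rest hrest).1 g hg
    obtain ⟨r, hr, e⟩ := ih hrest _ hmem
    refine ⟨i :: r, List.Forall₂.cons hi hr, ?_⟩
    rw [prodW_cons, ← e, mul_inv_cancel_left]

/-- an element fixing the base of a verified chain is trivial -/
theorem chain_base (hv : ∀ i < np, Valid n (pN i) (pM i)) (hid : ∀ x < n, get (pN 0) x = x) :
    ∀ Ls : List Level, ChainOK n pN np Ls → ∀ g ∈ grp n pN pM (headS Ls),
      (∀ L ∈ Ls, ∀ hb : L.b < n, g ⟨L.b, hb⟩ = ⟨L.b, hb⟩) → g = 1 := by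
  intro Ls
  induction Ls with
  | nil =>
    intro _ g hg _
    have : g ∈ grp n pN pM [] := hg
    rw [grp_nil, Subgroup.mem_bot] at this
    exact this
  | cons L rest ih =>
    rintro ⟨hL, hrest⟩ g hg hfix
    have h1 := level_stab hv hid L (headS rest) (deepOf rest) hL
      (chain_spec hv hid rest hrest).1 g hg (hfix L (List.mem_cons_self ..) hL.1)
    exact ih hrest g h1 (fun L' hL' hb => hfix L' (List.mem_cons_of_mem _ hL') hb)

/-- run a test on all the lists of codes of choices from the levels (boolean). -/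
noncomputable def prodAll (pN : ℕ → ℕ) (Ls : List (List ℕ)) (acc : List ℕ)
    (f : List ℕ → Bool) : Bool :=
  List.rec (motive := fun _ => List ℕ → Bool) (fun acc => f acc)
    (fun U _ ih acc => allL U (fun i => withVal (pN i) (fun Ni => ih (acc ++ [Ni])))) Ls acc

theorem prodAll_nil (pN : ℕ → ℕ) (acc : List ℕ) (f : List ℕ → Bool) :
    prodAll pN [] acc f = f acc := rfl

theorem prodAll_cons (pN : ℕ → ℕ) (U : List ℕ) (Ls : List (List ℕ)) (acc : List ℕ)
    (f : List ℕ → Bool) : prodAll pN (U :: Ls) acc f =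
      allL U (fun i => withVal (pN i) (fun Ni => prodAll pN Ls (acc ++ [Ni]) f)) := rfl

theorem prodAll_spec (pN : ℕ → ℕ) (Ls : List (List ℕ)) (acc : List ℕ) (f : List ℕ → Bool)
    (h : prodAll pN Ls acc f = true) (r : List ℕ)
    (hr : List.Forall₂ (fun i (U : List ℕ) => i ∈ U) r Ls) : f (acc ++ r.map pN) = true := by
  induction hr generalizing acc with
  | nil =>
    rw [prodAll_nil] at h
    rw [List.map_nil, List.append_nil]
    exact h
  | cons hi _ ih =>
    rw [prodAll_cons, allL_iff] at h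
    have := h _ hi
    rw [withVal_eq] at this
    have := ih _ this
    rw [List.append_assoc] at this
    exact this

/-- the pruned search for the centraliser of the permutation with code `Ny` over the levels of a
chain (boolean). -/
noncomputable def centP (pN : ℕ → ℕ) (U0 U1 : List ℕ) (rest : List (List ℕ)) (tests : List ℕ)
    (Ny a b : ℕ) (fin : List ℕ → Bool) : Bool :=
  allL U0 (fun i0 => withVal (pN i0) (fun N0 =>
    allL U1 (fun i1 => withVal (pN i1) (fun N1 =>
      !(Nat.beq (getR N0 (getR N1 a)) (getR Ny (getR N0 (getR N1 b)))) ||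
        prodAll pN rest [N0, N1] (fun c =>
          !(allL tests (fun p => Nat.beq (evC c (getR Ny p)) (getR Ny (evC c p)))) ||
            fin c)))))

theorem ev_fix_of_letters {w : List ℕ} {a : ℕ} (h : ∀ i ∈ w, get (pN i) a = a) :
    ev pN w a = a := by
  induction w with
  | nil => rfl
  | cons i w ih =>
    show get (pN i) (ev pN w a) = a
    rw [ih (fun j hj => h j (List.mem_cons_of_mem _ hj)), h i (List.mem_cons_self ..)]

theorem mem_of_forall₂ {r : List ℕ} {Ls : List (List ℕ)}
    (hr : List.Forall₂ (fun i (U : List ℕ) => i ∈ U) r Ls) :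
    ∀ i ∈ r, ∃ U ∈ Ls, i ∈ U := by
  induction hr with
  | nil => intro i hi; simp at hi
  | cons hi _ ih =>
    intro j hj
    rcases List.mem_cons.mp hj with rfl | hj
    · exact ⟨_, List.mem_cons_self .., hi⟩
    · obtain ⟨U, hU, hjU⟩ := ih j hj
      exact ⟨U, List.mem_cons_of_mem _ hU, hjU⟩

theorem centP_spec (hv : ∀ i < np, Valid n (pN i) (pM i)) (K : Subgroup (Equiv.Perm (Fin n)))
    {U0 U1 : List ℕ} {rest : List (List ℕ)} {tests : List ℕ} {Ny My a b : ℕ}
    {fin : List ℕ → Bool}
    (hU0 : ∀ i ∈ U0, i < np) (hU1 : ∀ i ∈ U1, i < np) (hR : ∀ U ∈ rest, ∀ i ∈ U, i < np)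
    (hdec : ∀ g ∈ K, ∃ i0 ∈ U0, ∃ i1 ∈ U1, ∃ r : List ℕ,
      List.Forall₂ (fun i (U : List ℕ) => i ∈ U) r rest ∧ g = prodW n pN pM (i0 :: i1 :: r))
    (hvy : Valid n Ny My) (ha : a < n) (hb : b < n) (hyb : get Ny b = a)
    (hRa : ∀ U ∈ rest, ∀ i ∈ U, get (pN i) a = a) (hRb : ∀ U ∈ rest, ∀ i ∈ U, get (pN i) b = b)
    (ht : ∀ p ∈ tests, p < n)
    (h : centP pN U0 U1 rest tests Ny a b fin = true) :
    ∀ g ∈ K, g * perm n Ny My = perm n Ny My * g →
      ∃ w : List ℕ, (∀ i ∈ w, i < np) ∧ g = prodW n pN pM w ∧ fin (w.map pN) = true := by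
  intro g hg hc
  obtain ⟨i0, hi0, i1, hi1, r, hr, rfl⟩ := hdec g hg
  have hrm := mem_of_forall₂ hr
  have hwlt : ∀ i ∈ i0 :: i1 :: r, i < np := by
    intro i hi
    rcases List.mem_cons.mp hi with rfl | hi
    · exact hU0 _ hi0
    · rcases List.mem_cons.mp hi with rfl | hi
      · exact hU1 _ hi1
      · obtain ⟨U, hU, hiU⟩ := hrm i hi
        exact hR U hU i hiU
  refine ⟨i0 :: i1 :: r, hwlt, rfl, ?_⟩
  have hval : ∀ x : Fin n, ((prodW n pN pM (i0 :: i1 :: r)) x).1 = ev pN (i0 :: i1 :: r) x.1 :=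
    fun x => prodW_apply n pN pM (fun i hi => hv i (hwlt i hi)) x
  have hcx : ∀ p, ∀ hp : p < n, ev pN (i0 :: i1 :: r) (get Ny p) =
      get Ny (ev pN (i0 :: i1 :: r) p) := by
    intro p hp
    have := congrArg (fun σ : Equiv.Perm (Fin n) => (σ ⟨p, hp⟩).1) hc
    simp only [Equiv.Perm.mul_apply] at this
    rw [hval, perm_apply n hvy, perm_apply n hvy, hval] at this
    exact this
  have hra : ev pN r a = a := ev_fix_of_letters (fun i hi => by
    obtain ⟨U, hU, hiU⟩ := hrm i hi
    exact hRa U hU i hiU)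
  have hrb : ev pN r b = b := ev_fix_of_letters (fun i hi => by
    obtain ⟨U, hU, hiU⟩ := hrm i hi
    exact hRb U hU i hiU)
  unfold centP at h
  rw [allL_iff] at h
  have h0 := h i0 hi0
  rw [withVal_eq, allL_iff] at h0
  have h1 := h0 i1 hi1
  rw [withVal_eq] at h1
  have e1 : Nat.beq (getR (pN i0) (getR (pN i1) a))
      (getR Ny (getR (pN i0) (getR (pN i1) b))) = true := by
    have := hcx b hb
    rw [hyb] at this
    have ea : ev pN (i0 :: i1 :: r) a = getR (pN i0) (getR (pN i1) a) := by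
      show get (pN i0) (get (pN i1) (ev pN r a)) = _
      rw [hra]
      rfl
    have eb : ev pN (i0 :: i1 :: r) b = getR (pN i0) (getR (pN i1) b) := by
      show get (pN i0) (get (pN i1) (ev pN r b)) = _
      rw [hrb]
      rfl
    rw [ea, eb] at this
    rw [this]
    exact Nat.beq_refl _
  rw [e1, Bool.not_true, Bool.false_or] at h1
  have h2 := prodAll_spec pN rest _ _ h1 r hr
  have e3 : [pN i0, pN i1] ++ r.map pN = (i0 :: i1 :: r).map pN := rfl
  rw [e3] at h2
  have e2 : allL tests (fun p => Nat.beq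
      (evC ((i0 :: i1 :: r).map pN) (getR Ny p))
      (getR Ny (evC ((i0 :: i1 :: r).map pN) p))) = true := by
    rw [allL_iff]
    intro p hp
    rw [evC_map, evC_map, getR_eq, getR_eq, hcx p (ht p hp)]
    exact Nat.beq_refl _
  rw [e2, Bool.not_true, Bool.false_or] at h2
  exact h2

end Cfsg.Agent.Lib.Helper8.SS
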