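import Cfsg.Agent.Lib.Helper8.SSW

set_option autoImplicit false
set_option linter.unusedSectionVars false
set_option linter.unusedVariables false

/-! Further tools for permutation groups given by tables: a second table on the same indices,
stabilisers of subsets, and counting suborbits on cosets. -/

namespace Cfsg.Agent.Lib.Helper8.SS

open Cfsg.Agent.Lib.Helper8.FastDec Cfsg.Agent.Lib.Helper8.MatN

section abstract

/-- counting a suborbit on the cosets of a subgroup -/
theorem orbit_count {G : Type*} [Group G] [Finite G] (H : Subgroup G) (g : G) (a b : ℕ)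
    (fa : Fin a → G) (hfa : Function.Injective fa) (ha : ∀ i, fa i ∈ H ∧ g⁻¹ * fa i * g ∈ H)
    (fb : Fin b → G) (hb : ∀ j, fb j ∈ H)
    (hbd : ∀ j j', j ≠ j' → (fb j * g)⁻¹ * (fb j' * g) ∉ H)
    (hab : a * b = Nat.card H) :
    (MulAction.orbit ↥H (QuotientGroup.mk g : G ⧸ H)).ncard = b := by
  have h1 : (MulAction.orbit ↥H (QuotientGroup.mk g : G ⧸ H)).ncard *
      Nat.card (MulAction.stabilizer ↥H (QuotientGroup.mk g : G ⧸ H)) = Nat.card H := by
    rw [← MulAction.index_stabilizer, mul_comm]
    exact Subgroup.card_mul_index _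
  have hsm : ∀ (h : ↥H) (x : G), h • (QuotientGroup.mk x : G ⧸ H) = QuotientGroup.mk (h.1 * x) :=
    fun h x => rfl
  have h2 : a ≤ Nat.card (MulAction.stabilizer ↥H (QuotientGroup.mk g : G ⧸ H)) := by
    let f : Fin a → MulAction.stabilizer ↥H (QuotientGroup.mk g : G ⧸ H) := fun i =>
      ⟨⟨fa i, (ha i).1⟩, by
        rw [MulAction.mem_stabilizer_iff, hsm, QuotientGroup.eq]
        have e : (fa i * g)⁻¹ * g = (g⁻¹ * fa i * g)⁻¹ := by group
        rw [e]
        exact H.inv_mem (ha i).2⟩
    have hf : Function.Injective f := by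
      intro i j hij
      apply hfa
      exact congrArg (fun z : MulAction.stabilizer ↥H (QuotientGroup.mk g : G ⧸ H) => (z.1.1 : G)) hij
    have := Nat.card_le_card_of_injective f hf
    rwa [Nat.card_fin] at this
  have h3 : b ≤ (MulAction.orbit ↥H (QuotientGroup.mk g : G ⧸ H)).ncard := by
    rw [← Nat.card_coe_set_eq]
    let f : Fin b → MulAction.orbit ↥H (QuotientGroup.mk g : G ⧸ H) := fun j =>
      ⟨(⟨fb j, hb j⟩ : ↥H) • (QuotientGroup.mk g : G ⧸ H), MulAction.mem_orbit _ _⟩
    have hf : Function.Injective f := by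
      intro j j' hjj
      by_contra hne
      have e : ((⟨fb j, hb j⟩ : ↥H) • (QuotientGroup.mk g : G ⧸ H)) =
          (⟨fb j', hb j'⟩ : ↥H) • (QuotientGroup.mk g : G ⧸ H) := congrArg Subtype.val hjj
      rw [hsm, hsm, QuotientGroup.eq] at e
      exact hbd j j' hne e
    have := Nat.card_le_card_of_injective f hf
    rwa [Nat.card_fin] at this
  have hpos : 0 < Nat.card H := Nat.card_pos
  have hapos : 0 < a := by
    rcases Nat.eq_zero_or_pos a with h | h
    · rw [h, zero_mul] at hab; omega
    · exact h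
  by_contra hne
  have hlt : b < (MulAction.orbit ↥H (QuotientGroup.mk g : G ⧸ H)).ncard :=
    lt_of_le_of_ne h3 (Ne.symm hne)
  have h4 : (b + 1) * a ≤ (MulAction.orbit ↥H (QuotientGroup.mk g : G ⧸ H)).ncard *
      Nat.card (MulAction.stabilizer ↥H (QuotientGroup.mk g : G ⧸ H)) :=
    Nat.mul_le_mul hlt h2
  rw [h1, ← hab] at h4
  nlinarith

/-- the same, transported along an isomorphism -/
theorem orbit_count_equiv {G G' : Type*} [Group G] [Group G'] [Finite G] (e : G ≃* G')
    (H' : Subgroup G') (g' : G') (a b : ℕ)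
    (fa : Fin a → G') (hfa : Function.Injective fa)
    (ha : ∀ i, fa i ∈ H' ∧ g'⁻¹ * fa i * g' ∈ H')
    (fb : Fin b → G') (hb : ∀ j, fb j ∈ H')
    (hbd : ∀ j j', j ≠ j' → (fb j * g')⁻¹ * (fb j' * g') ∉ H')
    (hab : a * b = Nat.card H') :
    (MulAction.orbit ↥(H'.comap e.toMonoidHom)
      (QuotientGroup.mk (e.symm g') : G ⧸ H'.comap e.toMonoidHom)).ncard = b := by
  have hc : Nat.card (H'.comap e.toMonoidHom) = Nat.card H' := by
    have hm : (H'.comap e.toMonoidHom).map e.toMonoidHom = H' :=
      Subgroup.map_comap_eq_self_of_surjective e.surjective H'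
    have hm' : (H'.comap e.toMonoidHom).map (e : G →* G') = H' := hm
    have := Nat.card_congr (e.subgroupMap (H'.comap e.toMonoidHom)).toEquiv
    rw [this, hm']
  apply orbit_count (H'.comap e.toMonoidHom) (e.symm g') a b (fun i => e.symm (fa i))
    (fun i j hij => hfa (e.symm.injective hij)) ?_ (fun j => e.symm (fb j)) ?_ ?_ (by rw [hc, hab])
  · intro i
    constructor
    · rw [Subgroup.mem_comap]
      show e (e.symm (fa i)) ∈ H'
      rw [e.apply_symm_apply]
      exact (ha i).1
    · rw [Subgroup.mem_comap]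
      show e ((e.symm g')⁻¹ * e.symm (fa i) * e.symm g') ∈ H'
      rw [map_mul, map_mul, map_inv, e.apply_symm_apply, e.apply_symm_apply]
      exact (ha i).2
  · intro j
    rw [Subgroup.mem_comap]
    show e (e.symm (fb j)) ∈ H'
    rw [e.apply_symm_apply]
    exact hb j
  · intro j j' hne hmem
    rw [Subgroup.mem_comap] at hmem
    have : e ((e.symm (fb j) * e.symm g')⁻¹ * (e.symm (fb j') * e.symm g')) ∈ H' := hmem
    rw [map_mul, map_inv, map_mul, map_mul, e.apply_symm_apply, e.apply_symm_apply,
      e.apply_symm_apply] at this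
    exact hbd j j' hne this

/-- the stabiliser of a finite subset in a permutation group -/
def stabF {α : Type*} [DecidableEq α] (K : Subgroup (Equiv.Perm α)) (O : Finset α) :
    Subgroup (Equiv.Perm α) where
  carrier := {σ | σ ∈ K ∧ O.image σ = O}
  one_mem' := ⟨K.one_mem, by ext x; simp⟩
  mul_mem' := by
    rintro σ τ ⟨hσ, eσ⟩ ⟨hτ, eτ⟩
    refine ⟨K.mul_mem hσ hτ, ?_⟩
    have : O.image (σ * τ) = (O.image τ).image σ := by
      rw [Finset.image_image]
      rfl
    rw [this, eτ, eσ]
  inv_mem' := by
    rintro σ ⟨hσ, eσ⟩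
    refine ⟨K.inv_mem hσ, ?_⟩
    have : O.image (⇑(σ⁻¹)) = (O.image σ).image (⇑(σ⁻¹)) := by rw [eσ]
    rw [this, Finset.image_image]
    ext x
    simp

theorem mem_stabF {α : Type*} [DecidableEq α] {K : Subgroup (Equiv.Perm α)} {O : Finset α}
    {σ : Equiv.Perm α} : σ ∈ stabF K O ↔ σ ∈ K ∧ O.image σ = O := Iff.rfl

theorem stabF_le {α : Type*} [DecidableEq α] (K : Subgroup (Equiv.Perm α)) (O : Finset α) :
    stabF K O ≤ K := fun _ h => h.1

/-- elements in one coset of the stabiliser have the same image -/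
theorem image_eq_of_coset {α : Type*} [DecidableEq α] {K : Subgroup (Equiv.Perm α)}
    {O : Finset α} {x y : Equiv.Perm α} (h : x⁻¹ * y ∈ stabF K O) : O.image y = O.image x := by
  have e : O.image (x⁻¹ * y) = O := h.2
  have e2 : O.image y = (O.image (x⁻¹ * y)).image x := by
    rw [Finset.image_image]
    congr 1
    ext z
    simp
  rw [e2, e]

end abstract

variable (n : ℕ) [NeZero n] (pN pM : ℕ → ℕ) (np : ℕ)

/-- the subset of points given by a list -/
def lset (l : List ℕ) : Finset (Fin n) := Finset.univ.filter (fun x => x.1 ∈ l)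

/-- whether a point lies in the image of a list of points under a word (boolean) -/
noncomputable def charB (l : List ℕ) (w : List ℕ) (p : ℕ) : Bool :=
  memB p (l.map (ev pN w))

/-- the membership pattern of some points in the image of a list of points under a word -/
noncomputable def keyW (l probes : List ℕ) (w : List ℕ) : List Bool :=
  probes.map (charB pN l w)

/-- the membership pattern, packed in a number (evaluating the codes of the word first) -/
noncomputable def keyN (l probes : List ℕ) (w : List ℕ) : ℕ :=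
  forceList (w.map pN) (fun c => forceList (l.map (evC c)) (fun im =>
    probes.foldr (fun p acc => Nat.add (cond (memB p im) 1 0) (Nat.mul 2 acc)) 0))

/-- a word maps a list of points into itself (boolean) -/
noncomputable def stabB (l : List ℕ) (w : List ℕ) : Bool :=
  forceList (w.map pN) (fun c => l.all (fun p => memB (evC c p) l))

variable {n pN pM np}

theorem mem_lset {l : List ℕ} {x : Fin n} : x ∈ lset n l ↔ x.1 ∈ l := by
  simp [lset]

theorem charB_iff (hv : ∀ i < np, Valid n (pN i) (pM i)) {l w : List ℕ}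
    (hl : ∀ q ∈ l, q < n) (hw : ∀ i ∈ w, i < np) {p : ℕ} (hp : p < n) :
    charB pN l w p = true ↔ (⟨p, hp⟩ : Fin n) ∈ (lset n l).image (prodW n pN pM w) := by
  unfold charB
  rw [memB_iff, List.mem_map, Finset.mem_image]
  constructor
  · rintro ⟨q, hq, e⟩
    refine ⟨⟨q, hl q hq⟩, mem_lset.mpr hq, ?_⟩
    apply Fin.ext
    rw [prodW_apply n pN pM (fun i hi => hv i (hw i hi))]
    exact e
  · rintro ⟨x, hx, e⟩
    refine ⟨x.1, mem_lset.mp hx, ?_⟩
    rw [← prodW_apply n pN pM (fun i hi => hv i (hw i hi)), e]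

theorem keyW_eq (hv : ∀ i < np, Valid n (pN i) (pM i)) {l probes w w' : List ℕ}
    (hl : ∀ q ∈ l, q < n) (hp : ∀ p ∈ probes, p < n) (hw : ∀ i ∈ w, i < np)
    (hw' : ∀ i ∈ w', i < np)
    (e : (lset n l).image (prodW n pN pM w) = (lset n l).image (prodW n pN pM w')) :
    keyW pN l probes w = keyW pN l probes w' := by
  unfold keyW
  apply List.map_congr_left
  intro p hpm
  rw [Bool.eq_iff_iff, charB_iff (pM := pM) hv hl hw (hp p hpm),
    charB_iff (pM := pM) hv hl hw' (hp p hpm), e]

theorem image_eq_of_stabB (hv : ∀ i < np, Valid n (pN i) (pM i)) {l w : List ℕ}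
    (hw : ∀ i ∈ w, i < np) (h : stabB pN l w = true) :
    (lset n l).image (prodW n pN pM w) = lset n l := by
  unfold stabB at h
  rw [forceList_eq, List.all_eq_true] at h
  apply Finset.eq_of_subset_of_card_le
  · intro y hy
    rw [Finset.mem_image] at hy
    obtain ⟨x, hx, rfl⟩ := hy
    rw [mem_lset, prodW_apply n pN pM (fun i hi => hv i (hw i hi))]
    have := (memB_iff _ _).mp (h x.1 (mem_lset.mp hx))
    rwa [evC_map] at this
  · rw [Finset.card_image_of_injective _ (prodW n pN pM w).injective]

theorem keyN_eq_foldr (l probes w : List ℕ) : keyN pN l probes w =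
    (keyW pN l probes w).foldr (fun b acc => cond b 1 0 + 2 * acc) 0 := by
  unfold keyN keyW
  rw [forceList_eq, forceList_eq, List.foldr_map]
  have : l.map (evC (w.map pN)) = l.map (ev pN w) := by
    apply List.map_congr_left
    intro x _
    exact evC_map pN w x
  rw [this]
  rfl

theorem keyN_eq (hv : ∀ i < np, Valid n (pN i) (pM i)) {l probes w w' : List ℕ}
    (hl : ∀ q ∈ l, q < n) (hp : ∀ p ∈ probes, p < n) (hw : ∀ i ∈ w, i < np)
    (hw' : ∀ i ∈ w', i < np)
    (e : (lset n l).image (prodW n pN pM w) = (lset n l).image (prodW n pN pM w')) :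
    keyN pN l probes w = keyN pN l probes w' := by
  rw [keyN_eq_foldr, keyN_eq_foldr, keyW_eq (pM := pM) hv hl hp hw hw' e]

theorem lset_map (hv : ∀ i < np, Valid n (pN i) (pM i)) {l g : List ℕ}
    (hl : ∀ q ∈ l, q < n) (hg : ∀ i ∈ g, i < np) :
    lset n (l.map (ev pN g)) = (lset n l).image (prodW n pN pM g) := by
  ext x
  rw [mem_lset, List.mem_map, Finset.mem_image]
  constructor
  · rintro ⟨q, hq, e⟩
    refine ⟨⟨q, hl q hq⟩, mem_lset.mpr hq, ?_⟩
    apply Fin.ext
    rw [prodW_apply n pN pM (fun i hi => hv i (hg i hi))]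
    exact e
  · rintro ⟨y, hy, e⟩
    refine ⟨y.1, mem_lset.mp hy, ?_⟩
    rw [← prodW_apply n pN pM (fun i hi => hv i (hg i hi)), e]

theorem conj_stab (hv : ∀ i < np, Valid n (pN i) (pM i)) {l g w GO : List ℕ}
    (hl : ∀ q ∈ l, q < n) (hg : ∀ i ∈ g, i < np) (hw : ∀ i ∈ w, i < np)
    (hGO : l.map (ev pN g) = GO) (h : stabB pN GO w = true) :
    (lset n l).image ((prodW n pN pM g)⁻¹ * prodW n pN pM w * prodW n pN pM g) = lset n l := by
  have e1 : lset n GO = (lset n l).image (prodW n pN pM g) := by
    rw [← hGO]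
    exact lset_map hv hl hg
  have e2 : ((lset n l).image (prodW n pN pM g)).image (prodW n pN pM w) =
      (lset n l).image (prodW n pN pM g) := by
    rw [← e1]
    exact image_eq_of_stabB hv hw h
  calc (lset n l).image ((prodW n pN pM g)⁻¹ * prodW n pN pM w * prodW n pN pM g)
      = (((lset n l).image (prodW n pN pM g)).image (prodW n pN pM w)).image
          (⇑(prodW n pN pM g)⁻¹) := by
        rw [Finset.image_image, Finset.image_image]
        rfl
    _ = ((lset n l).image (prodW n pN pM g)).image (⇑(prodW n pN pM g)⁻¹) := by rw [e2]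
    _ = lset n l := by
        rw [Finset.image_image]
        ext x
        simp

/-! ### a second table on the same indices -/

theorem prodQ_P (w : List ℕ) : prodQ (P n pN pM) w = prodW n pN pM w := rfl

theorem slpQ_of_slpOK (hv : ∀ i < np, Valid n (pN i) (pM i)) {S W : List ℕ}
    {slp : List (ℕ × ℕ)} (h : SlpOK n pN np S W slp) : SlpQ (P n pN pM) S W slp := by
  obtain ⟨hS, hW, h3⟩ := h
  intro m hm
  rcases h3 m hm with h | ⟨h1, h2, h4⟩
  · exact Or.inl h
  · right
    rw [prodQ_P, prodQ_P]
    have hlt : ∀ k, k < W.length → W.getD k 0 < np := fun k hk => hW _ (getD_mem hk)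
    apply prodW_eq_of_ev
    · intro i hi
      rw [List.mem_singleton] at hi
      rw [hi]
      exact hv _ (hlt m hm)
    · intro i hi
      simp only [List.mem_cons, List.mem_nil_iff, or_false] at hi
      rcases hi with rfl | rfl
      · exact hv _ (hlt _ (lt_trans h1 hm))
      · exact hv _ (hlt _ (lt_trans h2 hm))
    · intro x hx
      exact h4 x hx

/-- the permutations of a straight-line program lie in the group of its generators -/
theorem slp_mem (hv : ∀ i < np, Valid n (pN i) (pM i)) {S W : List ℕ} {slp : List (ℕ × ℕ)}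
    (hok : SlpOK n pN np S W slp) : ∀ i ∈ W, P n pN pM i ∈ grp n pN pM S := by
  intro i hi
  have h := slp_spec_D (Q := fun _ => (1 : Unit)) (pM := pM) hv hok
    (by intro m _; right; exact Subsingleton.elim _ _) i hi
  have h2 := Subgroup.mem_map_of_mem (MonoidHom.fst (Equiv.Perm (Fin n)) Unit) h
  rw [map_fst_grpD] at h2
  simp only [MonoidHom.coe_fst, PQ] at h2
  exact h2

theorem levelQ_of (hv : ∀ i < np, Valid n (pN i) (pM i)) {L : Level} {deep : List ℕ}
    (hS : ∀ i ∈ L.S, i < np) (hU : ∀ i ∈ L.U, i < np) (hdeep : ∀ i ∈ deep, i < np)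
    (h2 : treeB n pN L = true) (h3 : siftB n pN L deep = true) : LevelQ (P n pN pM) L := by
  unfold treeB at h2
  unfold siftB at h3
  rw [forceList_eq] at h3
  rw [allLt_iff] at h2 h3
  constructor
  · intro m hm
    have := h2 m hm
    rw [Bool.or_eq_true] at this
    rcases this with h0 | h
    · exact Or.inl (Nat.eq_of_beq_eq_true h0)
    · right
      rw [withVal_eq, withVal_eq, withVal_eq, withVal_eq, Bool.and_eq_true, Bool.and_eq_true,
        blt_iff, nthR_eq, nthR_eq, nthR_eq] at h
      obtain ⟨ha, hb', hc⟩ := h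
      rw [prodQ_P, prodQ_P]
      refine prodW_eq_of_ev n pN pM ?_ ?_ (eqWordB_spec hc)
      · intro i hi
        rw [List.mem_singleton] at hi
        rw [hi]
        exact hv _ (hU _ (getD_mem hm))
      · intro i hi
        simp only [List.mem_cons, List.mem_nil_iff, or_false] at hi
        rcases hi with rfl | rfl
        · exact hv _ (hS _ ((memB_iff _ _).mp hb'))
        · exact hv _ (hU _ (getD_mem (lt_trans ha hm)))
  · intro a ha m hm
    have := h3 a ha
    rw [withVal_eq, allLt_iff] at this
    have := this m hm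
    rw [withVal_eq, forceList_eq, Bool.and_eq_true, Bool.and_eq_true, List.all_eq_true, nthR_eq,
      nthR_eq, nthR_eq, nthR_eq] at this
    obtain ⟨ha', hb', hc⟩ := this
    rw [prodQ_P, prodQ_P]
    refine prodW_eq_of_ev n pN pM ?_ ?_ (eqWordB_spec hc)
    · intro i hi
      simp only [List.mem_cons, List.mem_nil_iff, or_false] at hi
      rcases hi with rfl | rfl
      · exact hv _ (hS _ (getD_mem ha))
      · exact hv _ (hU _ (getD_mem hm))
    · intro i hi
      cases hw : (L.sift.getD a []).getD m [] with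
      | nil => rw [hw] at hi; simp at hi
      | cons c w =>
        rw [hw] at hi ha' hb'
        simp only [List.mem_cons] at hi
        rcases hi with rfl | hi
        · exact hv _ (hU _ ((memB_iff _ _).mp ha'))
        · exact hv _ (hdeep _ ((memB_iff _ _).mp (hb' _ hi)))

end Cfsg.Agent.Lib.Helper8.SS
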