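import Cfsg.Agent.Lib.Helper8.SS8
import Cfsg.Agent.Lib.Helper4.ES2A

set_option autoImplicit false
set_option linter.unusedSectionVars false
set_option linter.unusedVariables false

/-! Small subgroups of a permutation group given by explicit lists of words in a table of
permutations, with boolean certificates. -/

namespace Cfsg.Agent.Lib.Helper8.SS

open Cfsg.Agent.Lib.Helper8.FastDec Cfsg.Agent.Lib.Helper8.MatN Cfsg.Agent.Lib.Helper4.ES2

variable (n : ℕ) [NeZero n] (pN pM : ℕ → ℕ) (np : ℕ)

/-- the permutations given by a list of words -/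
def wset (W : List (List ℕ)) : Set (Equiv.Perm (Fin n)) := {g | ∃ w ∈ W, prodW n pN pM w = g}

/-- the subgroup generated by a list of words -/
def wgrp (W : List (List ℕ)) : Subgroup (Equiv.Perm (Fin n)) :=
  Subgroup.closure (wset n pN pM W)

/-- all letters are indices of the table -/
def WordsLt (W : List (List ℕ)) : Prop := ∀ w ∈ W, ∀ i ∈ w, i < np

instance (W : List (List ℕ)) : Decidable (WordsLt np W) := by unfold WordsLt; infer_instance

/-- a multiplication table of a list of words (boolean) -/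
noncomputable def mulTabB (W T : List (List ℕ)) : Bool :=
  allLt W.length (fun a => allLt W.length (fun b =>
    withVal (nthR (nthR T a []) b 0) (fun c => Nat.blt c W.length &&
      eqWordB n pN (nthR W a [] ++ nthR W b []) (nthR W c []))))

/-- the conjugates of a list of words by a list of letters (boolean) -/
noncomputable def normTabB (S : List ℕ) (W T : List (List ℕ)) : Bool :=
  allLt S.length (fun a => allLt W.length (fun b =>
    withVal (nthR (nthR T a []) b 0) (fun c => Nat.blt c W.length &&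
      eqWordB n pN (nthR S a 0 :: nthR W b []) (nthR W c [] ++ [nthR S a 0]))))

/-- the images of a list of points under a word, packed in a number -/
def fpW (pts : List ℕ) (w : List ℕ) : ℕ := pts.foldr (fun x acc => ev pN w x + 1024 * acc) 0

variable {n pN pM np}

theorem eqWordB_prod (hv : ∀ i < np, Valid n (pN i) (pM i)) {w w' : List ℕ}
    (hw : ∀ i ∈ w, i < np) (hw' : ∀ i ∈ w', i < np) (h : eqWordB n pN w w' = true) :
    prodW n pN pM w = prodW n pN pM w' :=
  prodW_eq_of_ev n pN pM (fun i hi => hv i (hw i hi)) (fun i hi => hv i (hw' i hi))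
    (eqWordB_spec h)

theorem ev_eq_of_prod (hv : ∀ i < np, Valid n (pN i) (pM i)) {w w' : List ℕ}
    (hw : ∀ i ∈ w, i < np) (hw' : ∀ i ∈ w', i < np)
    (e : prodW n pN pM w = prodW n pN pM w') : ∀ x < n, ev pN w x = ev pN w' x := by
  intro x hx
  rw [← prodW_apply n pN pM (fun i hi => hv i (hw i hi)) ⟨x, hx⟩,
    ← prodW_apply n pN pM (fun i hi => hv i (hw' i hi)) ⟨x, hx⟩, e]

theorem eqWordB_ne (hv : ∀ i < np, Valid n (pN i) (pM i)) {w w' : List ℕ}
    (hw : ∀ i ∈ w, i < np) (hw' : ∀ i ∈ w', i < np) (h : eqWordB n pN w w' = false) :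
    prodW n pN pM w ≠ prodW n pN pM w' := by
  intro e
  have key := ev_eq_of_prod hv hw hw' e
  have : eqWordB n pN w w' = true := by
    unfold eqWordB
    rw [forceList_eq, forceList_eq, allLt_iff]
    intro x hx
    rw [evC_map, evC_map, key x hx]
    exact Nat.beq_refl _
  rw [this] at h
  exact Bool.noConfusion h

theorem mem_wgrp {W : List (List ℕ)} {w : List ℕ} (hw : w ∈ W) :
    prodW n pN pM w ∈ wgrp n pN pM W :=
  Subgroup.subset_closure ⟨w, hw, rfl⟩

theorem wgrp_le {W : List (List ℕ)} {S : Subgroup (Equiv.Perm (Fin n))}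
    (h : ∀ w ∈ W, ∀ i ∈ w, P n pN pM i ∈ S) : wgrp n pN pM W ≤ S := by
  apply (Subgroup.closure_le _).mpr
  rintro _ ⟨w, hw, rfl⟩
  exact prodW_mem (h w hw)

theorem wset_mul (hv : ∀ i < np, Valid n (pN i) (pM i)) {W T : List (List ℕ)}
    (hW : WordsLt np W) (h : mulTabB n pN W T = true) :
    ∀ s ∈ wset n pN pM W, ∀ t ∈ wset n pN pM W, s * t ∈ wset n pN pM W := by
  rintro _ ⟨w, hw, rfl⟩ _ ⟨w', hw', rfl⟩
  obtain ⟨a, ha, rfl⟩ := List.getElem_of_mem hw
  obtain ⟨b, hb, rfl⟩ := List.getElem_of_mem hw'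
  unfold mulTabB at h
  rw [allLt_iff] at h
  have h1 := h a ha
  rw [allLt_iff] at h1
  have h2 := h1 b hb
  rw [withVal_eq, Bool.and_eq_true, blt_iff, nthR_eq, nthR_eq, nthR_eq, nthR_eq, nthR_eq] at h2
  obtain ⟨hc, he⟩ := h2
  rw [List.getD_eq_getElem _ _ ha, List.getD_eq_getElem _ _ hb, List.getD_eq_getElem _ _ hc] at he
  refine ⟨W[(T.getD a []).getD b 0], List.getElem_mem hc, ?_⟩
  rw [← prodW_append]
  refine (eqWordB_prod hv ?_ (hW _ (List.getElem_mem hc)) he).symm
  intro i hi
  rcases List.mem_append.mp hi with h | h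
  · exact hW _ (List.getElem_mem ha) i h
  · exact hW _ (List.getElem_mem hb) i h

theorem mem_wset_of_mem_wgrp (hv : ∀ i < np, Valid n (pN i) (pM i)) {W T : List (List ℕ)}
    (hW : WordsLt np W) (h : mulTabB n pN W T = true) (h1 : [] ∈ W) :
    ∀ g ∈ wgrp n pN pM W, g ∈ wset n pN pM W := by
  intro g hg
  have := closure_mul_mem (wset_mul hv hW h) g hg 1 ⟨[], h1, rfl⟩
  rwa [mul_one] at this

theorem fpW_eq (hv : ∀ i < np, Valid n (pN i) (pM i)) {pts : List ℕ} (hp : ∀ x ∈ pts, x < n)
    {w w' : List ℕ} (hw : ∀ i ∈ w, i < np) (hw' : ∀ i ∈ w', i < np)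
    (e : prodW n pN pM w = prodW n pN pM w') : fpW pN pts w = fpW pN pts w' := by
  have key := ev_eq_of_prod hv hw hw' e
  induction pts with
  | nil => rfl
  | cons x pts ih =>
    show ev pN w x + 1024 * fpW pN pts w = ev pN w' x + 1024 * fpW pN pts w'
    rw [key x (hp x (List.mem_cons_self ..)), ih (fun y hy => hp y (List.mem_cons_of_mem _ hy))]

theorem card_wgrp (hv : ∀ i < np, Valid n (pN i) (pM i)) {W T : List (List ℕ)}
    (hW : WordsLt np W) (h : mulTabB n pN W T = true) (h1 : [] ∈ W) (pts : List ℕ)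
    (hp : ∀ x ∈ pts, x < n) (hnd : nodupB (W.map (fpW pN pts)) = true) :
    Nat.card (wgrp n pN pM W) = W.length := by
  have hnd' := nodup_of_nodupB _ hnd
  let f : Fin W.length → wgrp n pN pM W := fun i =>
    ⟨prodW n pN pM W[i], mem_wgrp (List.getElem_mem i.2)⟩
  have hf : Function.Bijective f := by
    constructor
    · intro i j hij
      have e : prodW n pN pM W[i] = prodW n pN pM W[j] := congrArg Subtype.val hij
      have e2 := fpW_eq hv hp (hW _ (List.getElem_mem i.2)) (hW _ (List.getElem_mem j.2)) e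
      apply Fin.ext
      have hi : i.1 < (W.map (fpW pN pts)).length := by rw [List.length_map]; exact i.2
      have hj : j.1 < (W.map (fpW pN pts)).length := by rw [List.length_map]; exact j.2
      have e3 : (W.map (fpW pN pts))[i.1] = (W.map (fpW pN pts))[j.1] := by
        rw [List.getElem_map, List.getElem_map]
        exact e2
      exact (hnd'.getElem_inj_iff).mp e3
    · rintro ⟨g, hg⟩
      obtain ⟨w, hw, rfl⟩ := mem_wset_of_mem_wgrp hv hW h h1 g hg
      obtain ⟨a, ha, rfl⟩ := List.getElem_of_mem hw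
      exact ⟨⟨a, ha⟩, rfl⟩
  rw [← Nat.card_eq_of_bijective f hf, Nat.card_fin]

theorem norm_spec (hv : ∀ i < np, Valid n (pN i) (pM i)) {S : List ℕ} {W T : List (List ℕ)}
    (hS : ∀ i ∈ S, i < np) (hW : WordsLt np W) (h : normTabB n pN S W T = true) :
    ∀ i ∈ S, ∀ q ∈ wset n pN pM W,
      P n pN pM i * q * (P n pN pM i)⁻¹ ∈ wset n pN pM W := by
  rintro i hi _ ⟨w, hw, rfl⟩
  obtain ⟨a, ha, rfl⟩ := List.getElem_of_mem hi
  obtain ⟨b, hb, rfl⟩ := List.getElem_of_mem hw
  unfold normTabB at h
  rw [allLt_iff] at h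
  have h1 := h a ha
  rw [allLt_iff] at h1
  have h2 := h1 b hb
  rw [withVal_eq, Bool.and_eq_true, blt_iff, nthR_eq, nthR_eq, nthR_eq, nthR_eq, nthR_eq] at h2
  obtain ⟨hc, he⟩ := h2
  rw [List.getD_eq_getElem _ _ ha, List.getD_eq_getElem _ _ hb, List.getD_eq_getElem _ _ hc] at he
  refine ⟨W[(T.getD a []).getD b 0], List.getElem_mem hc, ?_⟩
  have e := eqWordB_prod (pM := pM) hv (w := S[a] :: W[b])
    (w' := W[(T.getD a []).getD b 0] ++ [S[a]]) ?_ ?_ he
  · rw [prodW_cons, prodW_append, prodW_cons, prodW_nil, mul_one] at e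
    rw [e, mul_inv_cancel_right]
  · intro i hi
    rcases List.mem_cons.mp hi with h | h
    · rw [h]; exact hS _ (List.getElem_mem ha)
    · exact hW _ (List.getElem_mem hb) i h
  · intro i hi
    rcases List.mem_append.mp hi with h | h
    · exact hW _ (List.getElem_mem hc) i h
    · rw [List.mem_singleton] at h
      rw [h]; exact hS _ (List.getElem_mem ha)

/-- the extraspecial data of a group given by a list of words -/
theorem data_of_checks (hv : ∀ i < np, Valid n (pN i) (pM i)) {W T : List (List ℕ)}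
    {wz : List ℕ} (hW : WordsLt np W) (hT : mulTabB n pN W T = true) (h1 : [] ∈ W)
    (hz : wz ∈ W) (hne : eqWordB n pN wz [] = false)
    (hsq : eqWordB n pN (wz ++ wz) [] = true)
    (hcomm : ∀ w ∈ W, eqWordB n pN (w ++ wz) (wz ++ w) = true)
    (hcen : ∀ w ∈ W, w = [] ∨ w = wz ∨ ∃ w' ∈ W, eqWordB n pN (w' ++ w) (w ++ w') = false)
    (hcm : ∀ a ∈ W, ∀ b ∈ W, eqWordB n pN (a ++ b) (b ++ a) = true ∨
      eqWordB n pN (a ++ b) (wz ++ (b ++ a)) = true)
    (hsqm : ∀ a ∈ W, eqWordB n pN (a ++ a) [] = true ∨ eqWordB n pN (a ++ a) wz = true) :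
    Data (wgrp n pN pM W) (prodW n pN pM wz) := by
  have hmem := mem_wset_of_mem_wgrp (pM := pM) hv hW hT h1
  have hnil : ∀ i ∈ ([] : List ℕ), i < np := by intro i hi; simp at hi
  have happ : ∀ {a b : List ℕ}, a ∈ W → b ∈ W → ∀ i ∈ a ++ b, i < np := by
    intro a b ha hb i hi
    rcases List.mem_append.mp hi with h | h
    · exact hW a ha i h
    · exact hW b hb i h
  refine ⟨mem_wgrp hz, ?_, ?_, ?_, ?_, ?_, ?_⟩
  · have := eqWordB_ne (pM := pM) hv (hW wz hz) hnil hne
    rwa [prodW_nil] at this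
  · have := eqWordB_prod (pM := pM) hv (happ hz hz) hnil hsq
    rwa [prodW_append, prodW_nil] at this
  · intro q hq
    obtain ⟨w, hw, rfl⟩ := hmem q hq
    have := eqWordB_prod (pM := pM) hv (happ hw hz) (happ hz hw) (hcomm w hw)
    rwa [prodW_append, prodW_append] at this
  · intro c hc hcc
    obtain ⟨w, hw, rfl⟩ := hmem c hc
    rcases hcen w hw with h | h | ⟨w', hw', h⟩
    · left; rw [h, prodW_nil]
    · right; rw [h]
    · exfalso
      have := eqWordB_ne (pM := pM) hv (happ hw' hw) (happ hw hw') h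
      rw [prodW_append, prodW_append] at this
      exact this (hcc _ (mem_wgrp hw'))
  · intro a ha b hb
    obtain ⟨wa, hwa, rfl⟩ := hmem a ha
    obtain ⟨wb, hwb, rfl⟩ := hmem b hb
    rcases hcm wa hwa wb hwb with h | h
    · left
      have := eqWordB_prod (pM := pM) hv (happ hwa hwb) (happ hwb hwa) h
      rw [prodW_append, prodW_append] at this
      unfold cm
      rw [this]; group
    · right
      have := eqWordB_prod (pM := pM) hv (happ hwa hwb) (w' := wz ++ (wb ++ wa)) ?_ h
      · rw [prodW_append, prodW_append, prodW_append] at this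
        unfold cm
        rw [this]; group
      · intro i hi
        rcases List.mem_append.mp hi with h | h
        · exact hW wz hz i h
        · exact happ hwb hwa i h
  · intro a ha
    obtain ⟨wa, hwa, rfl⟩ := hmem a ha
    rcases hsqm wa hwa with h | h
    · left
      have := eqWordB_prod (pM := pM) hv (happ hwa hwa) hnil h
      rwa [prodW_append, prodW_nil] at this
    · right
      have := eqWordB_prod (pM := pM) hv (happ hwa hwa) (hW wz hz) h
      rwa [prodW_append] at this

end Cfsg.Agent.Lib.Helper8.SS
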