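import Cfsg.Agent.Lib.Helper8.SS5

set_option autoImplicit false
set_option linter.unusedSectionVars false
set_option linter.unusedVariables false

/-! Verified stabiliser chains: every element is a transversal element times an element of the
next group, and the next group is the whole point stabiliser. -/

namespace Cfsg.Agent.Lib.Helper8.SS

open Subgroup MulAction

variable {n : ℕ} [NeZero n] {pN pM : ℕ → ℕ} {np : ℕ}

/-- the elements of a level are the products of a transversal element and an element of the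
next group. -/
theorem level_decomp (hv : ∀ i < np, Valid n (pN i) (pM i)) (hid : ∀ x < n, get (pN 0) x = x)
    (L : Level) (Snext deep : List ℕ) (hok : LevelOK n pN np L Snext deep)
    (hdeep : ∀ i ∈ deep, i < np ∧ P n pN pM i ∈ grp n pN pM Snext) :
    ∀ g ∈ grp n pN pM L.S, ∃ i ∈ L.U, (P n pN pM i)⁻¹ * g ∈ grp n pN pM Snext := by
  obtain ⟨hU, hle, hcard⟩ := level_spec hv hid L Snext deep hok hdeep
  obtain ⟨hb, hSlt, hUlt, hhead, htree, hsift, hnest, hfix, hnodup⟩ := hok
  have hSn : ∀ i ∈ Snext, i < np := fun i hi => hSlt i (hnest i hi)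
  have hHfix := grp_fix (pM := pM) hv hSn hb hfix
  let p : Fin n := ⟨L.b, hb⟩
  have hnd := nodup_points (pM := pM) hv hUlt p hnodup
  let f : Fin L.U.length × ↥(grp n pN pM Snext) → ↥(grp n pN pM L.S) := fun x =>
    ⟨P n pN pM (L.U[x.1.1]) * x.2.1,
      Subgroup.mul_mem _ (hU _ (List.getElem_mem x.1.2)) (hle x.2.2)⟩
  have hinj : Function.Injective f := by
    rintro ⟨m, h⟩ ⟨m', h'⟩ e
    have e' : P n pN pM (L.U[m.1]) * h.1 = P n pN pM (L.U[m'.1]) * h'.1 :=
      congrArg Subtype.val e
    have e1 : (P n pN pM (L.U[m.1])) p = (P n pN pM (L.U[m'.1])) p := by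
      have := congrArg (fun σ : Equiv.Perm (Fin n) => σ p) e'
      simp only [Equiv.Perm.mul_apply] at this
      rw [hHfix h.1 h.2, hHfix h'.1 h'.2] at this
      exact this
    have hmm : m = m' := by
      apply Fin.ext
      have hl : (L.U.map (fun i => (P n pN pM i) p)).length = L.U.length := List.length_map _
      have := (List.Nodup.getElem_inj_iff hnd (i := m.1) (hi := by rw [hl]; exact m.2)
        (j := m'.1) (hj := by rw [hl]; exact m'.2)).mp (by
          rw [List.getElem_map, List.getElem_map]; exact e1)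
      exact this
    subst hmm
    have : h.1 = h'.1 := mul_left_cancel e'
    exact Prod.ext rfl (Subtype.ext this)
  have hfin : Finite ↥(grp n pN pM L.S) := inferInstance
  have hbij : Function.Bijective f := by
    apply Function.Injective.bijective_of_nat_card_le hinj
    rw [Nat.card_prod, Nat.card_fin, hcard]
  intro g hg
  obtain ⟨⟨m, h⟩, e⟩ := hbij.2 ⟨g, hg⟩
  refine ⟨L.U[m.1], List.getElem_mem m.2, ?_⟩
  have e' : P n pN pM (L.U[m.1]) * h.1 = g := congrArg Subtype.val e
  rw [← e', inv_mul_cancel_left]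
  exact h.2

/-- the next group of a level is the whole point stabiliser. -/
theorem level_stab (hv : ∀ i < np, Valid n (pN i) (pM i)) (hid : ∀ x < n, get (pN 0) x = x)
    (L : Level) (Snext deep : List ℕ) (hok : LevelOK n pN np L Snext deep)
    (hdeep : ∀ i ∈ deep, i < np ∧ P n pN pM i ∈ grp n pN pM Snext)
    (g : Equiv.Perm (Fin n)) (hg : g ∈ grp n pN pM L.S)
    (hfixg : g ⟨L.b, hok.1⟩ = ⟨L.b, hok.1⟩) : g ∈ grp n pN pM Snext := by
  obtain ⟨i, hi, hmem⟩ := level_decomp hv hid L Snext deep hok hdeep g hg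
  obtain ⟨hb, hSlt, hUlt, hhead, htree, hsift, hnest, hfix, hnodup⟩ := hok
  have hSn : ∀ i ∈ Snext, i < np := fun i hi => hSlt i (hnest i hi)
  have hHfix := grp_fix (pM := pM) hv hSn hb hfix
  let p : Fin n := ⟨L.b, hb⟩
  have h0U : 0 ∈ L.U := by
    cases hU : L.U with
    | nil => rw [hU] at hhead; simp at hhead
    | cons a l =>
      rw [hU] at hhead
      simp only [List.head?_cons, Option.some.injEq] at hhead
      rw [hhead]
      exact List.mem_cons_self ..
  have hP0 : P n pN pM 0 = 1 := P_zero (hv 0 (hUlt 0 h0U)) hid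
  have hnd := nodup_points (pM := pM) hv hUlt p hnodup
  -- P i fixes p
  have h1 := hHfix _ hmem
  rw [Equiv.Perm.mul_apply, hfixg] at h1
  have h2 : (P n pN pM i) p = p := (Equiv.Perm.inv_eq_iff_eq.mp h1).symm
  have h3 : (P n pN pM i) p = (P n pN pM 0) p := by
    rw [h2, hP0, Equiv.Perm.one_apply]
  have hi0 : i = 0 := by
    exact List.inj_on_of_nodup_map hnd hi h0U h3
  rw [hi0, hP0, inv_one, one_mul] at hmem
  exact hmem

end Cfsg.Agent.Lib.Helper8.SS
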