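import Cfsg.Agent.Lib.Helper8.SSW
import Cfsg.Agent.Lib.Helper8.SSX

set_option autoImplicit false
set_option linter.unusedSectionVars false
set_option linter.unusedVariables false

/-! Centralisers of elements of a permutation group with a verified stabiliser chain, by a
pruned search with boolean certificates; orders of elements. -/

namespace Cfsg.Agent.Lib.Helper8.SS

open Cfsg.Agent.Lib.Helper8.FastDec Cfsg.Agent.Lib.Helper8.MatN

/-- all the elements of a list pass a test (by the recursor). -/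
noncomputable def allL {α : Type} (l : List α) (p : α → Bool) : Bool :=
  List.rec (motive := fun _ => Bool) true (fun a _ ih => p a && ih) l

theorem allL_iff {α : Type} (l : List α) (p : α → Bool) :
    allL l p = true ↔ ∀ a ∈ l, p a = true := by
  induction l with
  | nil => simp [allL]
  | cons a l ih =>
    have e : allL (a :: l) p = (p a && allL l p) := rfl
    rw [e, Bool.and_eq_true, ih]
    simp

/-- some element of a list passes a test (by the recursor). -/
noncomputable def anyL {α : Type} (l : List α) (p : α → Bool) : Bool :=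
  List.rec (motive := fun _ => Bool) false (fun a _ ih => p a || ih) l

theorem anyL_iff {α : Type} (l : List α) (p : α → Bool) :
    anyL l p = true ↔ ∃ a ∈ l, p a = true := by
  induction l with
  | nil => simp [anyL]
  | cons a l ih =>
    have e : anyL (a :: l) p = (p a || anyL l p) := rfl
    rw [e, Bool.or_eq_true, ih]
    simp

/-- iterate the map of a list of codes. -/
noncomputable def iterC (c : List ℕ) (k p : ℕ) : ℕ :=
  Nat.rec (motive := fun _ => ℕ) p (fun _ ih => evC c ih) k

theorem iterC_zero (c : List ℕ) (p : ℕ) : iterC c 0 p = p := rfl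

theorem iterC_succ (c : List ℕ) (k p : ℕ) : iterC c (k + 1) p = evC c (iterC c k p) := rfl

theorem ev_append (pN : ℕ → ℕ) (w w' : List ℕ) (x : ℕ) :
    ev pN (w ++ w') x = ev pN w (ev pN w' x) := by
  unfold ev
  rw [List.foldr_append]

theorem iterC_eq (pN : ℕ → ℕ) (w : List ℕ) (k p : ℕ) :
    iterC (w.map pN) k p = ev pN (List.replicate k w).flatten p := by
  induction k with
  | zero => rfl
  | succ k ih =>
    rw [iterC_succ, ih, evC_map, List.replicate_succ, List.flatten_cons, ev_append]

/-- some power with exponent in `es` fixes the points of `base` (boolean). -/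
noncomputable def ordB (es base c : List ℕ) : Bool :=
  anyL es (fun e => allL base (fun p => Nat.beq (iterC c e p) p))

variable {n : ℕ} [NeZero n] {pN pM : ℕ → ℕ} {np : ℕ}

theorem prodW_replicate (w : List ℕ) (k : ℕ) :
    prodW n pN pM (List.replicate k w).flatten = (prodW n pN pM w) ^ k := by
  induction k with
  | zero => rfl
  | succ k ih =>
    rw [List.replicate_succ, List.flatten_cons, prodW_append, ih, pow_succ']

theorem mem_replicate_flatten {w : List ℕ} {k i : ℕ}
    (hi : i ∈ (List.replicate k w).flatten) : i ∈ w := by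
  rw [List.mem_flatten] at hi
  obtain ⟨l, hl, hil⟩ := hi
  rw [List.mem_replicate] at hl
  rw [hl.2] at hil
  exact hil

theorem pow_eq_one_of_ordB (hv : ∀ i < np, Valid n (pN i) (pM i))
    (K : Subgroup (Equiv.Perm (Fin n))) {es base : List ℕ}
    (hbase : ∀ g ∈ K, (∀ p ∈ base, ∀ hp : p < n, g ⟨p, hp⟩ = ⟨p, hp⟩) → g = 1)
    {w : List ℕ} (hw : ∀ i ∈ w, i < np) (hK : prodW n pN pM w ∈ K)
    (h : ordB es base (w.map pN) = true) : ∃ e ∈ es, (prodW n pN pM w) ^ e = 1 := by
  unfold ordB at h
  rw [anyL_iff] at h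
  obtain ⟨e, he, h⟩ := h
  rw [allL_iff] at h
  refine ⟨e, he, ?_⟩
  apply hbase _ (K.pow_mem hK e)
  intro p hp hpn
  apply Fin.ext
  rw [← prodW_replicate, prodW_apply n pN pM
    (fun i hi => hv i (hw i (mem_replicate_flatten hi)))]
  have := Nat.eq_of_beq_eq_true (h p hp)
  rw [iterC_eq] at this
  exact this

variable (pN) in
/-- the pruned search for the centraliser of the permutation with code `Ny` (boolean): the
elements `u₀ u₁ r` commuting with it pass the final test. -/
noncomputable def centB (U0 U1 : List ℕ) (R : List (List ℕ)) (tests : List ℕ) (Ny a b : ℕ)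
    (fin : List ℕ → Bool) : Bool :=
  allLt U0.length (fun m0 => withVal (pN (nthR U0 m0 0)) (fun N0 =>
    allLt U1.length (fun m1 => withVal (pN (nthR U1 m1 0)) (fun N1 =>
      !(Nat.beq (getR N0 (getR N1 a)) (getR Ny (getR N0 (getR N1 b)))) ||
        allLt R.length (fun m2 => forceList ((nthR R m2 []).map pN) (fun c =>
          !(allL tests (fun p => Nat.beq (evC (N0 :: N1 :: c) (getR Ny p))
              (getR Ny (evC (N0 :: N1 :: c) p)))) ||
            fin (N0 :: N1 :: c)))))))

theorem cent_spec (hv : ∀ i < np, Valid n (pN i) (pM i)) (K : Subgroup (Equiv.Perm (Fin n)))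
    {U0 U1 : List ℕ} {R : List (List ℕ)} {tests : List ℕ} {Ny My a b : ℕ}
    {fin : List ℕ → Bool}
    (hU0 : ∀ i ∈ U0, i < np) (hU1 : ∀ i ∈ U1, i < np) (hR : WordsLt np R)
    (hdec : ∀ g ∈ K, ∃ i0 ∈ U0, ∃ i1 ∈ U1, ∃ r ∈ R, g = prodW n pN pM (i0 :: i1 :: r))
    (hvy : Valid n Ny My) (ha : a < n) (hb : b < n) (hyb : get Ny b = a)
    (hRa : ∀ r ∈ R, ev pN r a = a) (hRb : ∀ r ∈ R, ev pN r b = b)
    (ht : ∀ p ∈ tests, p < n)
    (h : centB pN U0 U1 R tests Ny a b fin = true) :
    ∀ g ∈ K, g * perm n Ny My = perm n Ny My * g →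
      ∃ w : List ℕ, (∀ i ∈ w, i < np) ∧ g = prodW n pN pM w ∧ fin (w.map pN) = true := by
  intro g hg hc
  obtain ⟨i0, hi0, i1, hi1, r, hr, rfl⟩ := hdec g hg
  have hwlt : ∀ i ∈ i0 :: i1 :: r, i < np := by
    intro i hi
    rcases List.mem_cons.mp hi with rfl | hi
    · exact hU0 _ hi0
    · rcases List.mem_cons.mp hi with rfl | hi
      · exact hU1 _ hi1
      · exact hR r hr i hi
  refine ⟨i0 :: i1 :: r, hwlt, rfl, ?_⟩
  have hval : ∀ x : Fin n, ((prodW n pN pM (i0 :: i1 :: r)) x).1 = ev pN (i0 :: i1 :: r) x.1 :=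
    fun x => prodW_apply n pN pM (fun i hi => hv i (hwlt i hi)) x
  have hcx : ∀ p, ∀ hp : p < n, ev pN (i0 :: i1 :: r) (get Ny p) =
      get Ny (ev pN (i0 :: i1 :: r) p) := by
    intro p hp
    have := congrArg (fun σ : Equiv.Perm (Fin n) => (σ ⟨p, hp⟩).1) hc
    simp only [Equiv.Perm.mul_apply] at this
    rw [hval, perm_apply n hvy, perm_apply n hvy, hval] at this
    exact this
  obtain ⟨m0, hm0, rfl⟩ := List.getElem_of_mem hi0
  obtain ⟨m1, hm1, rfl⟩ := List.getElem_of_mem hi1
  obtain ⟨m2, hm2, rfl⟩ := List.getElem_of_mem hr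
  unfold centB at h
  rw [allLt_iff] at h
  have h0 := h m0 hm0
  rw [withVal_eq, nthR_eq, List.getD_eq_getElem _ _ hm0, allLt_iff] at h0
  have h1 := h0 m1 hm1
  rw [withVal_eq, nthR_eq, List.getD_eq_getElem _ _ hm1] at h1
  have e1 : Nat.beq (getR (pN U0[m0]) (getR (pN U1[m1]) a))
      (getR Ny (getR (pN U0[m0]) (getR (pN U1[m1]) b))) = true := by
    have := hcx b hb
    rw [hyb] at this
    have ea : ev pN (U0[m0] :: U1[m1] :: R[m2]) a = getR (pN U0[m0]) (getR (pN U1[m1]) a) := by
      show get (pN U0[m0]) (get (pN U1[m1]) (ev pN R[m2] a)) = _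
      rw [hRa _ hr]
      rfl
    have eb : ev pN (U0[m0] :: U1[m1] :: R[m2]) b = getR (pN U0[m0]) (getR (pN U1[m1]) b) := by
      show get (pN U0[m0]) (get (pN U1[m1]) (ev pN R[m2] b)) = _
      rw [hRb _ hr]
      rfl
    rw [ea, eb] at this
    rw [this]
    exact Nat.beq_refl _
  rw [e1, Bool.not_true, Bool.false_or, allLt_iff] at h1
  have h2 := h1 m2 hm2
  rw [forceList_eq, nthR_eq, List.getD_eq_getElem _ _ hm2] at h2
  have e2 : allL tests (fun p => Nat.beq
      (evC (pN U0[m0] :: pN U1[m1] :: R[m2].map pN) (getR Ny p))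
      (getR Ny (evC (pN U0[m0] :: pN U1[m1] :: R[m2].map pN) p))) = true := by
    rw [allL_iff]
    intro p hp
    have e3 : pN U0[m0] :: pN U1[m1] :: R[m2].map pN = (U0[m0] :: U1[m1] :: R[m2]).map pN := rfl
    rw [e3, evC_map, evC_map, getR_eq, getR_eq, hcx p (ht p hp)]
    exact Nat.beq_refl _
  rw [e2, Bool.not_true, Bool.false_or] at h2
  exact h2

end Cfsg.Agent.Lib.Helper8.SS
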