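import Cfsg.Agent.Lib.Helper8.SSY

set_option autoImplicit false
set_option linter.unusedSectionVars false
set_option linter.unusedVariables false

/-! Conjugacy classes of the elements of prime order of a permutation group, by Sylow's theorem
and boolean certificates. -/

namespace Cfsg.Agent.Lib.Helper8.SS

open Cfsg.Agent.Lib.Helper8.FastDec Cfsg.Agent.Lib.Helper8.MatN

theorem evC_append (l l' : List ℕ) (x : ℕ) : evC (l ++ l') x = evC l (evC l' x) := by
  induction l with
  | nil => rfl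
  | cons a l ih => rw [List.cons_append, evC_cons, evC_cons, ih]

variable {n : ℕ} [NeZero n] {pN pM : ℕ → ℕ} {np : ℕ}

theorem perm_pow_apply {N M : ℕ} (h : Valid n N M) (e : ℕ) (x : Fin n) :
    (((perm n N M) ^ e) x).1 = evC (List.replicate e N) x.1 := by
  induction e with
  | zero => rfl
  | succ e ih =>
    rw [pow_succ', Equiv.Perm.mul_apply, perm_apply n h, ih, List.replicate_succ, evC_cons]
    rfl

variable (n pN) in
/-- the certificate of the classes of the elements of order `r` of a list of words (boolean):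
each word is trivial, or its `r`-th power moves a point, or it is conjugate to a power (prime
to `r`) of one of the permutations with codes in `reps`. The entries of the certificate are
`(kind, j, e, c)`. -/
noncomputable def classB (r : ℕ) (W : List (List ℕ)) (reps : List ℕ)
    (cert : List (ℕ × ℕ × ℕ × List ℕ)) : Bool :=
  allLt W.length (fun m =>
    withVal (nthR cert m (0, 0, 0, [])).1 (fun kind =>
    withVal (nthR cert m (0, 0, 0, [])).2.1 (fun j =>
    withVal (nthR cert m (0, 0, 0, [])).2.2.1 (fun e =>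
    forceList ((nthR W m []).map pN) (fun cw =>
    forceList ((nthR cert m (0, 0, 0, [])).2.2.2.map pN) (fun cc =>
      (Nat.beq kind 0 && (nthR W m []).isEmpty) ||
      ((Nat.beq kind 1 && (Nat.blt j n && !(Nat.beq (iterC cw r j) j))) ||
       (Nat.beq kind 2 && (Nat.blt 0 (Nat.mod e r) && (Nat.blt j reps.length &&
         withVal (nthR reps j 0) (fun Ny =>
           allLt n (fun x => Nat.beq (evC (cc ++ cw) x)
             (evC (List.replicate e Ny ++ cc) x)))))))))))))

theorem class_spec (hv : ∀ i < np, Valid n (pN i) (pM i)) {r : ℕ} {W : List (List ℕ)}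
    {reps repsM : List ℕ} {cert : List (ℕ × ℕ × ℕ × List ℕ)}
    (hW : WordsLt np W) (hcert : ∀ c ∈ cert, ∀ i ∈ c.2.2.2, i < np)
    (hreps : ∀ j < reps.length, Valid n (reps.getD j 0) (repsM.getD j 0))
    (h : classB n pN r W reps cert = true) :
    ∀ w ∈ W, (prodW n pN pM w) ^ r = 1 → prodW n pN pM w ≠ 1 →
      ∃ c ∈ cert, ∃ j < reps.length, ∃ e : ℕ, e % r ≠ 0 ∧
        prodW n pN pM c.2.2.2 * prodW n pN pM w =
          (perm n (reps.getD j 0) (repsM.getD j 0)) ^ e * prodW n pN pM c.2.2.2 := by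
  intro w hw hpow hne
  obtain ⟨m, hm, rfl⟩ := List.getElem_of_mem hw
  unfold classB at h
  rw [allLt_iff] at h
  have h0 := h m hm
  simp only [withVal_eq, forceList_eq, nthR_eq, List.getD_eq_getElem _ _ hm] at h0
  rw [Bool.or_eq_true, Bool.or_eq_true] at h0
  rcases h0 with h0 | h0 | h0
  · exfalso
    rw [Bool.and_eq_true, List.isEmpty_iff] at h0
    apply hne
    rw [h0.2]
    rfl
  · exfalso
    rw [Bool.and_eq_true, Bool.and_eq_true, Bool.not_eq_true'] at h0
    obtain ⟨_, hj, hmv⟩ := h0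
    have hjn : (cert.getD m (0, 0, 0, [])).2.1 < n := Nat.le_of_ble_eq_true hj
    have := congrArg (fun σ : Equiv.Perm (Fin n) => (σ ⟨_, hjn⟩).1) hpow
    simp only [Equiv.Perm.one_apply] at this
    rw [← prodW_replicate, prodW_apply n pN pM
      (fun i hi => hv i (hW _ hw i (mem_replicate_flatten hi))), ← iterC_eq] at this
    rw [this] at hmv
    have := Nat.beq_refl (cert.getD m (0, 0, 0, [])).2.1
    rw [this] at hmv
    exact Bool.noConfusion hmv
  · rw [Bool.and_eq_true, Bool.and_eq_true, Bool.and_eq_true] at h0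
    obtain ⟨hk, he, hj, hx⟩ := h0
    have hmc : m < cert.length := by
      by_contra hcon
      rw [List.getD_eq_default _ _ (Nat.le_of_not_lt hcon)] at hk
      exact Bool.noConfusion hk
    rw [List.getD_eq_getElem _ _ hmc] at he hj hx
    have hjl : (cert[m]).2.1 < reps.length := Nat.le_of_ble_eq_true hj
    refine ⟨cert[m], List.getElem_mem hmc, (cert[m]).2.1, hjl, (cert[m]).2.2.1, ?_, ?_⟩
    · intro h0
      have : Nat.mod (cert[m]).2.2.1 r = 0 := h0
      rw [this] at he
      exact Bool.noConfusion he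
    · rw [allLt_iff] at hx
      have hvc : ∀ i ∈ (cert[m]).2.2.2, Valid n (pN i) (pM i) :=
        fun i hi => hv i (hcert _ (List.getElem_mem hmc) i hi)
      have hvw : ∀ i ∈ W[m], Valid n (pN i) (pM i) := fun i hi => hv i (hW _ hw i hi)
      apply Equiv.ext
      intro x
      apply Fin.ext
      rw [Equiv.Perm.mul_apply, Equiv.Perm.mul_apply, prodW_apply n pN pM hvc,
        prodW_apply n pN pM hvw, perm_pow_apply (hreps _ hjl), prodW_apply n pN pM hvc]
      have := Nat.eq_of_beq_eq_true (hx x.1 x.2)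
      rw [evC_append, evC_append, evC_map, evC_map, evC_map] at this
      exact this

/-! ### group theory -/

theorem exists_conj_mem_of_card {G : Type*} [Group G] [Finite G] (p : ℕ) [Fact p.Prime]
    (P : Subgroup G) (k m : ℕ) (hG : Nat.card G = p ^ k * m) (hm : ¬ p ∣ m)
    (hP : Nat.card P = p ^ k) (x : G) (hx : orderOf x = p) : ∃ g : G, g * x * g⁻¹ ∈ P := by
  have hp : p.Prime := Fact.out
  have hPp : IsPGroup p P := IsPGroup.of_card hP
  obtain ⟨Q, hQ⟩ := hPp.exists_le_sylow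
  have hfac : (Nat.card G).factorization p = k := by
    have hm0 : m ≠ 0 := by
      rintro rfl
      exact hm (dvd_zero p)
    rw [hG, Nat.factorization_mul (pow_ne_zero _ hp.ne_zero) hm0, Nat.Prime.factorization_pow hp]
    simp [Nat.factorization_eq_zero_of_not_dvd hm]
  have hcQ : Nat.card Q = p ^ k := by
    rw [Sylow.card_eq_multiplicity, hfac]
  have hQP : (Q : Subgroup G) = P :=
    (Subgroup.eq_of_le_of_card_ge hQ (by rw [hP, hcQ])).symm
  have hxp : IsPGroup p (Subgroup.zpowers x) := by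
    apply IsPGroup.of_card (n := 1)
    rw [Nat.card_zpowers, hx, pow_one]
  obtain ⟨Q', hQ'⟩ := hxp.exists_le_sylow
  obtain ⟨g, hg⟩ := MulAction.exists_smul_eq G Q' Q
  refine ⟨g, ?_⟩
  rw [← hQP, ← hg, Sylow.coe_subgroup_smul]
  have hxQ : x ∈ (Q' : Subgroup G) := hQ' (Subgroup.mem_zpowers x)
  have := Subgroup.smul_mem_pointwise_smul x (MulAut.conj g) (Q' : Subgroup G) hxQ
  rwa [MulAut.smul_def, MulAut.conj_apply] at this

theorem commute_of_pow_coprime {G : Type*} [Group G] (g y : G) (r e : ℕ) (hr : y ^ r = 1)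
    (hcop : Nat.Coprime e r) (h : g * y ^ e = y ^ e * g) : g * y = y * g := by
  have hdvd : orderOf y ∣ r := orderOf_dvd_of_pow_eq_one hr
  have hc : Nat.Coprime e (orderOf y) := Nat.Coprime.coprime_dvd_right hdvd hcop
  obtain ⟨m, hm⟩ := exists_pow_eq_self_of_coprime hc
  have hcm : Commute g (y ^ e) := h
  have := hcm.pow_right m
  rw [hm] at this
  exact this

/-- the elements whose order is divisible by the prime `r` have a property that holds for the
centralisers of representatives of the classes of elements of order `r` -/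
theorem prop_of_prime_dvd (K : Subgroup (Equiv.Perm (Fin n))) (r k m : ℕ) [Fact r.Prime]
    (hK : Nat.card K = r ^ k * m) (hm : ¬ r ∣ m)
    (Pr : Subgroup (Equiv.Perm (Fin n))) (hPK : Pr ≤ K) (hPc : Nat.card Pr = r ^ k)
    (Y : Set (Equiv.Perm (Fin n)))
    (hclass : ∀ s ∈ Pr, s ^ r = 1 → s ≠ 1 → ∃ c ∈ K, ∃ y ∈ Y, ∃ e : ℕ, e % r ≠ 0 ∧
      c * s = y ^ e * c)
    (hY : ∀ y ∈ Y, y ^ r = 1)
    (Q : Equiv.Perm (Fin n) → Prop)
    (hcent : ∀ y ∈ Y, ∀ g ∈ K, g * y = y * g → Q g)
    (hQ : ∀ g c, c ∈ K → Q (c * g * c⁻¹) → Q g) :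
    ∀ g ∈ K, r ∣ orderOf g → Q g := by
  intro g hg hdvd
  have hr : r.Prime := Fact.out
  haveI : Finite ↥K := inferInstance
  obtain ⟨q, hq⟩ := hdvd
  have ho : orderOf (g ^ q) = r := by
    have hpos : 0 < orderOf g := orderOf_pos g
    have hq0 : q ≠ 0 := by
      rintro rfl
      rw [mul_zero] at hq
      omega
    rw [orderOf_pow' g hq0, hq, Nat.gcd_mul_left_left, Nat.mul_div_cancel _ (Nat.pos_of_ne_zero hq0)]
  -- conjugate into the Sylow subgroup
  have hoK : orderOf (⟨g ^ q, K.pow_mem hg q⟩ : ↥K) = r := by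
    rw [← ho]
    exact (Subgroup.orderOf_mk _ _)
  obtain ⟨c1, hc1⟩ := exists_conj_mem_of_card r (Pr.subgroupOf K) k m hK hm
    (by rw [Nat.card_congr (Subgroup.subgroupOfEquivOfLe hPK).toEquiv, hPc])
    ⟨g ^ q, K.pow_mem hg q⟩ hoK
  rw [Subgroup.mem_subgroupOf] at hc1
  have hs : (c1 : Equiv.Perm (Fin n)) * g ^ q * (c1 : Equiv.Perm (Fin n))⁻¹ ∈ Pr := hc1
  set s := (c1 : Equiv.Perm (Fin n)) * g ^ q * (c1 : Equiv.Perm (Fin n))⁻¹ with hsdef
  have hsr : s ^ r = 1 := by
    rw [hsdef, conj_pow, ← ho, pow_orderOf_eq_one, mul_one, mul_inv_cancel]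
  have hs1 : s ≠ 1 := by
    intro h1
    rw [hsdef, conj_eq_one_iff] at h1
    rw [h1, orderOf_one] at ho
    exact hr.one_lt.ne ho
  obtain ⟨c2, hc2, y, hy, e, he, hconj⟩ := hclass s hs hsr hs1
  -- the conjugate of g commutes with y ^ e
  set c := c2 * (c1 : Equiv.Perm (Fin n)) with hcdef
  have hcK : c ∈ K := K.mul_mem hc2 c1.2
  apply hQ g c hcK
  apply hcent y hy _ (K.mul_mem (K.mul_mem hcK hg) (K.inv_mem hcK))
  apply commute_of_pow_coprime _ y r e (hY y hy)
    ((Nat.coprime_comm.mp ((Nat.Prime.coprime_iff_not_dvd hr).mpr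
      (fun hd => he (Nat.mod_eq_zero_of_dvd hd)))))
  have hye : y ^ e = c2 * s * c2⁻¹ := by
    rw [hconj]; group
  have hcomm : g * g ^ q = g ^ q * g := (Commute.self_pow g q)
  rw [hye, hsdef, hcdef]
  calc c2 * ↑c1 * g * (c2 * ↑c1)⁻¹ * (c2 * (↑c1 * g ^ q * (↑c1 : Equiv.Perm (Fin n))⁻¹) * c2⁻¹)
      = c2 * ↑c1 * (g * g ^ q) * (↑c1 : Equiv.Perm (Fin n))⁻¹ * c2⁻¹ := by group
    _ = c2 * ↑c1 * (g ^ q * g) * (↑c1 : Equiv.Perm (Fin n))⁻¹ * c2⁻¹ := by rw [hcomm]
    _ = c2 * (↑c1 * g ^ q * (↑c1 : Equiv.Perm (Fin n))⁻¹) * c2⁻¹ *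
        (c2 * ↑c1 * g * (c2 * ↑c1)⁻¹) := by group

end Cfsg.Agent.Lib.Helper8.SS
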