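/-
Farm SW (S3211), unit A: structure of `H = C(j) = L ∪ nL`, `L = L₁L₂`.
Statements verbatim from `Lib/Lead/SWStubs.lean` (with the structures of `Lib/Lead/SWDefs.lean`).
-/
import Mathlib
import Cfsg.Agent.Lib.Lead.SWDefs

set_option autoImplicit false

namespace Cfsg.Agent.Lib.Helper8.SWA

open Cfsg.Agent.Lib.Lead.SWD

variable {G : Type*} [Group G]

/-- elements of a central product are products -/
theorem exists_mul_of_mem_sup (A B : Subgroup G) (hc : ∀ a ∈ A, ∀ b ∈ B, a * b = b * a) {x : G}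
    (hx : x ∈ A ⊔ B) : ∃ a ∈ A, ∃ b ∈ B, x = a * b := by
  rw [Subgroup.sup_eq_closure] at hx
  induction hx using Subgroup.closure_induction with
  | mem x hx =>
    rcases hx with h | h
    · exact ⟨x, h, 1, B.one_mem, (mul_one x).symm⟩
    · exact ⟨1, A.one_mem, x, h, (one_mul x).symm⟩
  | one => exact ⟨1, A.one_mem, 1, B.one_mem, (mul_one 1).symm⟩
  | mul x y _ _ hx hy =>
    obtain ⟨a, ha, b, hb, rfl⟩ := hx
    obtain ⟨a', ha', b', hb', rfl⟩ := hy
    refine ⟨a * a', A.mul_mem ha ha', b * b', B.mul_mem hb hb', ?_⟩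
    calc a * b * (a' * b') = a * (b * a') * b' := by group
      _ = a * (a' * b) * b' := by rw [hc a' ha' b hb]
      _ = a * a' * (b * b') := by group
  | inv x _ hx =>
    obtain ⟨a, ha, b, hb, rfl⟩ := hx
    refine ⟨a⁻¹, A.inv_mem ha, b⁻¹, B.inv_mem hb, ?_⟩
    rw [mul_inv_rev, hc a⁻¹ (A.inv_mem ha) b⁻¹ (B.inv_mem hb)]

section basics

variable {L₁ L₂ : Subgroup G} {j n : G}

theorem j_mul_j (S : Setting L₁ L₂ j n) : j * j = 1 := by
  rw [← pow_two, ← S.hj]; exact pow_orderOf_eq_one j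

theorem j_ne_one (S : Setting L₁ L₂ j n) : j ≠ 1 := by
  intro h
  have h2 := S.hj
  rw [h, orderOf_one] at h2
  exact absurd h2 (by norm_num)

theorem j_inv (S : Setting L₁ L₂ j n) : j⁻¹ = j :=
  inv_eq_of_mul_eq_one_left (j_mul_j S)

theorem mem_zpowers_cases (S : Setting L₁ L₂ j n) {x : G} (hx : x ∈ Subgroup.zpowers j) :
    x = 1 ∨ x = j := by
  obtain ⟨k, rfl⟩ := Subgroup.mem_zpowers_iff.mp hx
  have h2 : j ^ (2 : ℤ) = 1 := by rw [zpow_two]; exact j_mul_j S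
  rcases Int.even_or_odd k with ⟨m, rfl⟩ | ⟨m, rfl⟩
  · left
    rw [← two_mul, zpow_mul, h2, one_zpow]
  · right
    rw [zpow_add, zpow_mul, h2, one_zpow, one_mul, zpow_one]

theorem j_mem₁ (S : Setting L₁ L₂ j n) : j ∈ L₁ := S.q1.j_mem

theorem j_mem₂ (S : Setting L₁ L₂ j n) : j ∈ L₂ := by
  have h : j ∈ L₁ ⊓ L₂ := by rw [S.hm]; exact Subgroup.mem_zpowers j
  exact (Subgroup.mem_inf.mp h).2

theorem inf_cases (S : Setting L₁ L₂ j n) {x : G} (h1 : x ∈ L₁) (h2 : x ∈ L₂) : x = 1 ∨ x = j := by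
  apply mem_zpowers_cases S
  rw [← S.hm]
  exact Subgroup.mem_inf.mpr ⟨h1, h2⟩

theorem comm_j_of_mem_cent {j x : G} (hx : x ∈ Subgroup.centralizer ({j} : Set G)) :
    j * x = x * j :=
  Subgroup.mem_centralizer_iff.mp hx j (Set.mem_singleton j)

theorem mem_cent₁ (S : Setting L₁ L₂ j n) {x : G} (hx : x ∈ L₁) :
    x ∈ Subgroup.centralizer ({j} : Set G) := S.hle (Subgroup.mem_sup_left hx)

theorem mem_cent₂ (S : Setting L₁ L₂ j n) {x : G} (hx : x ∈ L₂) :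
    x ∈ Subgroup.centralizer ({j} : Set G) := S.hle (Subgroup.mem_sup_right hx)

theorem n_comm_j (S : Setting L₁ L₂ j n) : j * n = n * j := comm_j_of_mem_cent S.hn

theorem n_mul_n (S : Setting L₁ L₂ j n) : n * n = j := by rw [← pow_two]; exact S.hn2

/-- `n⁻¹ = n j` -/
theorem n_inv (S : Setting L₁ L₂ j n) : n⁻¹ = n * j := by
  apply inv_eq_of_mul_eq_one_right
  rw [← mul_assoc, n_mul_n S, j_mul_j S]

/-- conjugation by `n` is an involution on `C(j)` -/
theorem sig_sig (S : Setting L₁ L₂ j n) {x : G} (hx : x ∈ Subgroup.centralizer ({j} : Set G)) :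
    MulAut.conj n (MulAut.conj n x) = x := by
  rw [MulAut.conj_apply, MulAut.conj_apply]
  have h : n * (n * x * n⁻¹) * n⁻¹ = (n * n) * x * (n * n)⁻¹ := by group
  rw [h, n_mul_n S, comm_j_of_mem_cent hx, mul_inv_cancel_right]

/-- `n⁻¹ x n = n x n⁻¹` for `x ∈ C(j)` -/
theorem inv_conj_eq (S : Setting L₁ L₂ j n) {x : G} (hx : x ∈ Subgroup.centralizer ({j} : Set G)) :
    n⁻¹ * x * n = n * x * n⁻¹ := by
  have h := sig_sig S hx
  rw [MulAut.conj_apply, MulAut.conj_apply] at h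
  calc n⁻¹ * x * n = n⁻¹ * (n * (n * x * n⁻¹) * n⁻¹) * n := by rw [h]
    _ = n * x * n⁻¹ := by group

theorem sig_j (S : Setting L₁ L₂ j n) : MulAut.conj n j = j := by
  rw [MulAut.conj_apply, ← n_comm_j S, mul_inv_cancel_right]

theorem sig_mem₂ (S : Setting L₁ L₂ j n) {x : G} (hx : x ∈ L₁) : MulAut.conj n x ∈ L₂ := by
  rw [← S.hswap]
  exact Subgroup.mem_map.mpr ⟨x, hx, rfl⟩

theorem sig_mem₁ (S : Setting L₁ L₂ j n) {y : G} (hy : y ∈ L₂) : MulAut.conj n y ∈ L₁ := by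
  have hy' := hy
  rw [← S.hswap] at hy'
  obtain ⟨x, hx, hxy⟩ := Subgroup.mem_map.mp hy'
  have e : MulAut.conj n y = x := by
    rw [← hxy]
    exact sig_sig S (mem_cent₁ S hx)
  rw [e]; exact hx

/-- `n` normalises `L₁L₂` -/
theorem sig_mem_sup (S : Setting L₁ L₂ j n) {l : G} (hl : l ∈ L₁ ⊔ L₂) :
    MulAut.conj n l ∈ L₁ ⊔ L₂ := by
  obtain ⟨u, hu, v, hv, rfl⟩ := exists_mul_of_mem_sup L₁ L₂ S.hc hl
  rw [map_mul]
  exact Subgroup.mul_mem _ (Subgroup.mem_sup_right (sig_mem₂ S hu))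
    (Subgroup.mem_sup_left (sig_mem₁ S hv))

theorem sig_cases (S : Setting L₁ L₂ j n) {x : G}
    (h : MulAut.conj n x = 1 ∨ MulAut.conj n x = j) : x = 1 ∨ x = j := by
  rcases h with h | h
  · left
    exact (map_eq_one_iff (MulAut.conj n) (MulAut.conj n).injective).mp h
  · right
    apply (MulAut.conj n).injective
    rw [h, sig_j S]

/-- uniqueness of the decomposition `l = u v` up to `(u j, v j)` -/
theorem decomp_unique (S : Setting L₁ L₂ j n) {u u' v v' : G} (hu : u ∈ L₁) (hu' : u' ∈ L₁)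
    (hv : v ∈ L₂) (hv' : v' ∈ L₂) (h : u * v = u' * v') :
    (u' = u ∧ v' = v) ∨ (u' = u * j ∧ v' = v * j) := by
  have hz : u⁻¹ * u' = v * v'⁻¹ := by
    calc u⁻¹ * u' = u⁻¹ * (u' * v') * v'⁻¹ := by group
      _ = u⁻¹ * (u * v) * v'⁻¹ := by rw [h]
      _ = v * v'⁻¹ := by group
  have m1 : u⁻¹ * u' ∈ L₁ := L₁.mul_mem (L₁.inv_mem hu) hu'
  have m2 : u⁻¹ * u' ∈ L₂ := by rw [hz]; exact L₂.mul_mem hv (L₂.inv_mem hv')
  rcases inf_cases S m1 m2 with hz1 | hz1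
  · left
    have e1 : u' = u := by
      calc u' = u * (u⁻¹ * u') := by group
        _ = u := by rw [hz1, mul_one]
    refine ⟨e1, ?_⟩
    rw [e1] at h
    exact (mul_left_cancel h).symm
  · right
    have e1 : u' = u * j := by
      calc u' = u * (u⁻¹ * u') := by group
        _ = u * j := by rw [hz1]
    refine ⟨e1, ?_⟩
    rw [hz1] at hz
    have hvj : v * j = j * v := (comm_j_of_mem_cent (mem_cent₂ S hv)).symm
    calc v' = (v * v'⁻¹)⁻¹ * v := by group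
      _ = j⁻¹ * v := by rw [← hz]
      _ = v * j := by rw [j_inv S, hvj]

end basics

/-! ### the unit -/

theorem Setting.n_not_mem {L₁ L₂ : Subgroup G} {j n : G} (S : Setting L₁ L₂ j n) : n ∉ L₁ ⊔ L₂ := by
  intro hn
  obtain ⟨u, hu, v, hv, huv⟩ := exists_mul_of_mem_sup L₁ L₂ S.hc hn
  have h1 : ∀ x ∈ L₁, x = 1 ∨ x = j := by
    intro x hx
    have e : MulAut.conj n x = u * x * u⁻¹ := by
      rw [MulAut.conj_apply, huv]
      have hvx : v * x = x * v := (S.hc x hx v hv).symm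
      calc u * v * x * (u * v)⁻¹ = u * (v * x) * v⁻¹ * u⁻¹ := by group
        _ = u * (x * v) * v⁻¹ * u⁻¹ := by rw [hvx]
        _ = u * x * u⁻¹ := by group
    have m1 : MulAut.conj n x ∈ L₁ := by
      rw [e]; exact L₁.mul_mem (L₁.mul_mem hu hx) (L₁.inv_mem hu)
    have m2 : MulAut.conj n x ∈ L₂ := sig_mem₂ S hx
    exact sig_cases S (inf_cases S m1 m2)
  have h2 : ∀ y ∈ L₂, y = 1 ∨ y = j := by
    intro y hy
    exact sig_cases S (h1 _ (sig_mem₁ S hy))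
  have hn1 : n * n = 1 := by
    rcases h1 u hu with hu1 | hu1 <;> rcases h2 v hv with hv1 | hv1 <;>
      rw [huv, hu1, hv1] <;> simp [j_mul_j S]
  exact j_ne_one S (by rw [← n_mul_n S]; exact hn1)

theorem Setting.mem_cases {L₁ L₂ : Subgroup G} {j n : G} (S : Setting L₁ L₂ j n) (h : G)
    (hh : h ∈ Subgroup.centralizer ({j} : Set G)) :
    h ∈ L₁ ⊔ L₂ ∨ ∃ l ∈ L₁ ⊔ L₂, h = n * l := by
  by_cases hL : h ∈ L₁ ⊔ L₂
  · exact Or.inl hL
  · right
    have hidx : ((L₁ ⊔ L₂).subgroupOf (Subgroup.centralizer ({j} : Set G))).index = 2 := S.hi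
    have key := Subgroup.mul_mem_iff_of_index_two hidx
      (a := (⟨n⁻¹, inv_mem S.hn⟩ : Subgroup.centralizer ({j} : Set G))) (b := ⟨h, hh⟩)
    simp only [Subgroup.mem_subgroupOf] at key
    have hn' : n⁻¹ ∉ L₁ ⊔ L₂ := fun hc => Setting.n_not_mem S (by simpa using inv_mem hc)
    have hmem : n⁻¹ * h ∈ L₁ ⊔ L₂ := by
      have h3 := key.mpr ⟨fun a => absurd a hn', fun a => absurd a hL⟩
      simpa using h3
    exact ⟨n⁻¹ * h, hmem, by group⟩

/-- `QLike` for the second factor (conjugate everything by `n`) -/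
theorem Setting.q2 {L₁ L₂ : Subgroup G} {j n : G} (S : Setting L₁ L₂ j n) : QLike L₂ j where
  j_mem := j_mem₂ S
  inv_unique := by
    intro y hy hy2
    apply sig_cases S
    apply S.q1.inv_unique _ (sig_mem₁ S hy)
    rw [← map_pow, hy2, map_one]
  conj4 := by
    intro x hx y hy hx2 hy2
    have hx2' : (MulAut.conj n x) ^ 2 = j := by rw [← map_pow, hx2, sig_j S]
    have hy2' : (MulAut.conj n y) ^ 2 = j := by rw [← map_pow, hy2, sig_j S]
    obtain ⟨g, hg, hgxy⟩ := S.q1.conj4 _ (sig_mem₁ S hx) _ (sig_mem₁ S hy) hx2' hy2'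
    refine ⟨MulAut.conj n g, sig_mem₂ S hg, ?_⟩
    have h3 := congrArg (MulAut.conj n) hgxy
    rw [map_mul, map_mul, map_inv, sig_sig S (mem_cent₂ S hx), sig_sig S (mem_cent₂ S hy)] at h3
    exact h3
  sqrt4 := by
    intro u hu v hv huv h4
    have huv' : (MulAut.conj n u) ^ 2 = (MulAut.conj n v) ^ 2 := by
      rw [← map_pow, ← map_pow, huv]
    have h4' : ((MulAut.conj n u) ^ 2) ^ 2 = j := by
      rw [← map_pow, ← map_pow, h4, sig_j S]
    rcases S.q1.sqrt4 _ (sig_mem₁ S hu) _ (sig_mem₁ S hv) huv' h4' with h | h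
    · left
      exact (MulAut.conj n).injective h
    · right
      apply (MulAut.conj n).injective
      rw [h, map_mul, sig_j S]

/-- `(n u v)² = (σ(v) j u) (σ(u) v)`, the two factors lying in `L₁`, `L₂` -/
theorem sq_outside {L₁ L₂ : Subgroup G} {j n : G} (S : Setting L₁ L₂ j n) {u v : G}
    (hu : u ∈ L₁) (hv : v ∈ L₂) :
    (n * (u * v)) ^ 2 = (MulAut.conj n v * j * u) * (MulAut.conj n u * v) := by
  have hsu2 : MulAut.conj n u ∈ L₂ := sig_mem₂ S hu
  have hsv1 : MulAut.conj n v ∈ L₁ := sig_mem₁ S hv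
  have hA : MulAut.conj n v * j * u ∈ L₁ := L₁.mul_mem (L₁.mul_mem hsv1 (j_mem₁ S)) hu
  have c : MulAut.conj n u * (MulAut.conj n v * j * u) = (MulAut.conj n v * j * u) * MulAut.conj n u :=
    (S.hc _ hA _ hsu2).symm
  have e1 : (n * (u * v)) ^ 2 = MulAut.conj n u * (MulAut.conj n v * j * u) * v := by
    rw [MulAut.conj_apply, MulAut.conj_apply, ← n_mul_n S, pow_two]; group
  rw [e1, c, mul_assoc]

/-- no involution in the coset `nL` -/
theorem Setting.no_inv_outside {L₁ L₂ : Subgroup G} {j n : G} (S : Setting L₁ L₂ j n) (l : G)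
    (hl : l ∈ L₁ ⊔ L₂) : (n * l) ^ 2 ≠ 1 := by
  intro h
  obtain ⟨u, hu, v, hv, rfl⟩ := exists_mul_of_mem_sup L₁ L₂ S.hc hl
  rw [sq_outside S hu hv] at h
  have hsu2 : MulAut.conj n u ∈ L₂ := sig_mem₂ S hu
  have hsv1 : MulAut.conj n v ∈ L₁ := sig_mem₁ S hv
  have hA : MulAut.conj n v * j * u ∈ L₁ := L₁.mul_mem (L₁.mul_mem hsv1 (j_mem₁ S)) hu
  have hB : MulAut.conj n u * v ∈ L₂ := L₂.mul_mem hsu2 hv
  have hB1 : MulAut.conj n u * v ∈ L₁ := by
    rw [eq_inv_of_mul_eq_one_right h]; exact L₁.inv_mem hA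
  have huj : j * u = u * j := comm_j_of_mem_cent (mem_cent₁ S hu)
  rcases inf_cases S hB1 hB with hb | hb
  · -- `σ(u) v = 1`
    have hv' : v = (MulAut.conj n u)⁻¹ := eq_inv_of_mul_eq_one_right hb
    have hsv : MulAut.conj n v = u⁻¹ := by
      rw [hv', map_inv, sig_sig S (mem_cent₁ S hu)]
    rw [hb, hsv, mul_one, mul_assoc, huj, inv_mul_cancel_left] at h
    exact j_ne_one S h
  · -- `σ(u) v = j`
    have hv' : v = (MulAut.conj n u)⁻¹ * j := eq_inv_mul_of_mul_eq hb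
    have hsv : MulAut.conj n v = u⁻¹ * j := by
      rw [hv', map_mul, map_inv, sig_sig S (mem_cent₁ S hu), sig_j S]
    rw [hb, hsv, mul_assoc u⁻¹, j_mul_j S, mul_one, inv_mul_cancel, one_mul] at h
    exact j_ne_one S h

/-- the involutions of `C(j)` other than `j` -/
theorem Setting.inv_form {L₁ L₂ : Subgroup G} {j n : G} (S : Setting L₁ L₂ j n) (t : G)
    (ht : t ∈ Subgroup.centralizer ({j} : Set G)) (ht2 : t ^ 2 = 1) (ht1 : t ≠ 1) (htj : t ≠ j) :
    ∃ a ∈ L₁, ∃ b ∈ L₂, t = a * b ∧ a ^ 2 = j ∧ b ^ 2 = j := by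
  have htL : t ∈ L₁ ⊔ L₂ := by
    rcases Setting.mem_cases S t ht with h | ⟨l, hl, rfl⟩
    · exact h
    · exact absurd ht2 (Setting.no_inv_outside S l hl)
  obtain ⟨a, ha, b, hb, rfl⟩ := exists_mul_of_mem_sup L₁ L₂ S.hc htL
  have hab : b * a = a * b := (S.hc a ha b hb).symm
  have hsq : a ^ 2 * b ^ 2 = 1 := by
    rw [← ht2]
    calc a ^ 2 * b ^ 2 = a * (a * b) * b := by rw [pow_two, pow_two]; group
      _ = a * (b * a) * b := by rw [hab]
      _ = (a * b) ^ 2 := by rw [pow_two]; group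
  have ha2L₂ : a ^ 2 ∈ L₂ := by
    rw [eq_inv_of_mul_eq_one_left hsq]; exact L₂.inv_mem (L₂.pow_mem hb 2)
  rcases inf_cases S (L₁.pow_mem ha 2) ha2L₂ with h | h
  · exfalso
    have hb2 : b ^ 2 = 1 := by rw [h, one_mul] at hsq; exact hsq
    rcases S.q1.inv_unique a ha h with ha1 | ha1 <;>
      rcases (Setting.q2 S).inv_unique b hb hb2 with hb1 | hb1
    · exact ht1 (by rw [ha1, hb1, mul_one])
    · exact htj (by rw [ha1, hb1, one_mul])
    · exact htj (by rw [ha1, hb1, mul_one])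
    · exact ht1 (by rw [ha1, hb1, j_mul_j S])
  · refine ⟨a, ha, b, hb, rfl, h, ?_⟩
    rw [h] at hsq
    calc b ^ 2 = j⁻¹ * (j * b ^ 2) := by group
      _ = j := by rw [hsq, mul_one, j_inv S]

end Cfsg.Agent.Lib.Helper8.SWA
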