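import Mathlib
import Cfsg.Agent.Lib.Helper8.Sc4
import Cfsg.Agent.S0998
import Cfsg.Agent.Lib.Helper4.SLCenter
import Cfsg.Agent.Lib.Helper4.K4Field

/-!
# S4501: the case division
-/

set_option autoImplicit false
set_option linter.style.haveILetI false

namespace Cfsg.Agent.Lib.Helper8.Sc

open Subgroup

variable {G : Type*} [Group G] [Finite G] [IsSimpleGroup G]

/-- a nonabelian simple group of order `60` is `A₅` -/
theorem iso_A5 (h : Nat.card G = 60) : Nonempty (G ≃* alternatingGroup (Fin 5)) :=
  Cfsg.Agent.Lib.Helper4.simple_sixty_iso h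

/-- `|PSL₂(F)| = 60` for `|F| = 5` -/
theorem card_psl2_five (F : Type) [Field F] [Fintype F] (hF : Fintype.card F = 5) :
    Nat.card (Matrix.ProjectiveSpecialLinearGroup (Fin 2) F) = 60 := by
  have h1 := Cfsg.Agent.Lib.Helper4.card_PSL_mul (F := F) 2 (by norm_num)
  rw [Cfsg.Agent.Lib.Helper4.card_SL2, hF] at h1
  norm_num at h1
  omega

/-- a Sylow subgroup of prime order with `|G : R|` prime to `r!` -/
theorem false_of_coprime_index_factorial (hna : ∃ x y : G, x * y ≠ y * x) {r : ℕ}
    [hr : Fact r.Prime] (R : Sylow r G) (hR : Nat.card R = r)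
    (hcop : Nat.Coprime (R : Subgroup G).index r.factorial) : False := by
  have hrG : r ∣ Nat.card G := by
    have := card_subgroup_dvd_card (R : Subgroup G)
    have hR' : Nat.card (R : Subgroup G) = r := hR
    rwa [hR'] at this
  apply burnside_transfer hna R hrG
  haveI : IsCyclic (R : Subgroup G) := isCyclic_of_prime_card (p := r) hR
  have hle : (R : Subgroup G) ≤ centralizer ((R : Subgroup G) : Set G) := le_centralizer _
  have h1 := relIndex_cent_norm_dvd (R : Subgroup G)
  have hR' : Nat.card (R : Subgroup G) = r := hR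
  rw [hR'] at h1
  have h2 : (centralizer ((R : Subgroup G) : Set G)).relIndex
      (normalizer ((R : Subgroup G) : Set G)) ∣ (R : Subgroup G).index :=
    (relIndex_dvd_of_le_left _ hle).trans (relIndex_dvd_index_of_le le_normalizer)
  exact relIndex_eq_one.mp (Nat.eq_one_of_dvd_coprimes hcop h2 h1)

omit [Finite G] [IsSimpleGroup G] in
theorem prime_ge_five {p : ℕ} (hp : p.Prime) (h2 : p ≠ 2) (h3 : p ≠ 3) : 5 ≤ p := by
  have := hp.two_le
  by_contra h
  have h4 : p = 4 := by omega
  subst h4
  norm_num at hp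

/-- part I of S4501, modulo the cases (4B1) and (4B2) -/
theorem part_one (hna : ∃ x y : G, x * y ≠ y * x)
    (H4B1 : ∀ p b : ℕ, p.Prime → 5 ≤ p → Nat.card G = 4 * p * 3 ^ b → Nat.card G = 60)
    (H4B2 : ∀ p b : ℕ, p.Prime → 5 ≤ p → Nat.card G = 4 * p ^ 2 * 3 ^ b → False)
    (p q a b : ℕ) (hp : p.Prime) (hq : q.Prime) (hpq : p ≠ q) (ha : a ≤ 2)
    (hG : Nat.card G = 4 * p ^ a * q ^ b) : Nat.card G = 60 := by
  have hp2 : p ≠ 2 := by
    rintro rfl
    exact not_two_primes hna 2 q (a + 2) b Nat.prime_two hq (by rw [hG]; ring)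
  have hq2 : q ≠ 2 := by
    rintro rfl
    exact not_two_primes hna p 2 a (b + 2) hp Nat.prime_two (by rw [hG]; ring)
  haveI : Fact (Nat.Prime 2) := ⟨Nat.prime_two⟩
  obtain ⟨P⟩ : Nonempty (Sylow 2 G) := inferInstance
  have hodd : ¬ 2 ∣ p ^ a * q ^ b := by
    intro h
    rcases (Nat.Prime.dvd_mul Nat.prime_two).mp h with h | h
    · exact hp2 ((Nat.prime_dvd_prime_iff_eq Nat.prime_two hp).mp
        (Nat.prime_two.dvd_of_dvd_pow h)).symm
    · exact hq2 ((Nat.prime_dvd_prime_iff_eq Nat.prime_two hq).mp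
        (Nat.prime_two.dvd_of_dvd_pow h)).symm
  have hP : Nat.card P = 4 := by
    have := Cfsg.Agent.Lib.Helper4.sylow_card_of_eq 2 2 (p ^ a * q ^ b) (by rw [hG]; ring) hodd P
    rw [this]; norm_num
  have h3 : 3 ∣ Nat.card G := three_dvd_of_sylow_two hna P hP
  rw [hG] at h3
  have h3' : 3 ∣ p ^ a ∨ 3 ∣ q ^ b := by
    rcases (Nat.Prime.dvd_mul Nat.prime_three).mp h3 with h | h
    · rcases (Nat.Prime.dvd_mul Nat.prime_three).mp h with h | h
      · norm_num at h
      · exact Or.inl h
    · exact Or.inr h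
  rcases h3' with h | h
  · -- `p = 3`
    have hp3 : p = 3 := ((Nat.prime_dvd_prime_iff_eq Nat.prime_three hp).mp
      (Nat.prime_three.dvd_of_dvd_pow h)).symm
    subst hp3
    have hq5 : 5 ≤ q := prime_ge_five hq hq2 (Ne.symm hpq)
    have ha' : a = 0 ∨ a = 1 ∨ a = 2 := by omega
    rcases ha' with rfl | rfl | rfl
    · exfalso
      exact not_two_primes hna 2 q 2 b Nat.prime_two hq (by rw [hG]; ring)
    · exact case_4A1 hna q b hq hq5 (by rw [hG]; ring)
    · exfalso
      exact case_4A2 hna q b hq hq5 (by rw [hG]; ring)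
  · -- `q = 3`
    have hq3 : q = 3 := ((Nat.prime_dvd_prime_iff_eq Nat.prime_three hq).mp
      (Nat.prime_three.dvd_of_dvd_pow h)).symm
    subst hq3
    have hp5 : 5 ≤ p := prime_ge_five hp hp2 hpq
    have ha' : a = 0 ∨ a = 1 ∨ a = 2 := by omega
    rcases ha' with rfl | rfl | rfl
    · exfalso
      exact not_two_primes hna 2 3 2 b Nat.prime_two Nat.prime_three (by rw [hG]; ring)
    · exact H4B1 p b hp hp5 (by rw [hG]; ring)
    · exfalso
      exact H4B2 p b hp hp5 hG

/-- part II of S4501, modulo the case (3B2) -/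
theorem part_two (hna : ∃ x y : G, x * y ≠ y * x)
    (H3B2 : ∀ p b : ℕ, p.Prime → 5 ≤ p → Nat.card G = 3 * p ^ 2 * 2 ^ b → False)
    (p q a b : ℕ) (hp : p.Prime) (hq : q.Prime) (hpq : p ≠ q) (ha : a ≤ 2)
    (hG : Nat.card G = 3 * p ^ a * q ^ b) :
    Nonempty (G ≃* alternatingGroup (Fin 5)) ∨
      Nonempty (G ≃* Matrix.ProjectiveSpecialLinearGroup (Fin 2) (ZMod 7)) := by
  have hp3 : p ≠ 3 := by
    rintro rfl
    exact not_two_primes hna 3 q (a + 1) b Nat.prime_three hq (by rw [hG]; ring)
  have hq3 : q ≠ 3 := by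
    rintro rfl
    exact not_two_primes hna p 3 a (b + 1) hp Nat.prime_three (by rw [hG]; ring)
  by_cases hq2 : q = 2
  · subst hq2
    have hp5 : 5 ≤ p := prime_ge_five hp hpq hp3
    have ha' : a = 0 ∨ a = 1 ∨ a = 2 := by omega
    rcases ha' with rfl | rfl | rfl
    · exfalso
      exact not_two_primes hna 3 2 1 b Nat.prime_three Nat.prime_two (by rw [hG]; ring)
    · -- (3B1): S0998
      have hnc : ¬ IsCyclic G := by
        intro hc
        exact not_isMulCommutative hna inferInstance
      rcases Cfsg.Agent.S0998.result (G := G) hnc 3 2 p b Nat.prime_three Nat.prime_two hp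
        (by norm_num) (Ne.symm hp3) (Ne.symm hpq) (by rw [hG]; ring) with
        ⟨F, _, _, hF, ⟨e⟩⟩ | ⟨F, _, _, hF, ⟨e⟩⟩
      · left
        apply iso_A5
        rw [Nat.card_congr e.toEquiv]
        exact card_psl2_five F hF
      · right
        have e7 : ZMod 7 ≃+* F := ZMod.ringEquivOfPrime F (by norm_num) hF
        exact ⟨e.trans (Cfsg.Agent.Lib.Helper4.K4Field.pslEquivN 2 e7.symm)⟩
    · exfalso
      exact H3B2 p b hp hp5 hG
  · by_cases hp2 : p = 2
    · subst hp2
      have hq5 : 5 ≤ q := prime_ge_five hq hq2 hq3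
      have ha' : a = 0 ∨ a = 1 ∨ a = 2 := by omega
      rcases ha' with rfl | rfl | rfl
      · exfalso
        exact not_two_primes hna 3 q 1 b Nat.prime_three hq (by rw [hG]; ring)
      · -- Sylow `2`-subgroup of order `2`
        exfalso
        haveI : Fact (Nat.Prime 2) := ⟨Nat.prime_two⟩
        obtain ⟨P⟩ : Nonempty (Sylow 2 G) := inferInstance
        have hodd : ¬ 2 ∣ 3 * q ^ b := by
          intro h
          rcases (Nat.Prime.dvd_mul Nat.prime_two).mp h with h | h
          · norm_num at h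
          · exact hq2 ((Nat.prime_dvd_prime_iff_eq Nat.prime_two hq).mp
              (Nat.prime_two.dvd_of_dvd_pow h)).symm
        have hP : Nat.card P = 2 := by
          have := Cfsg.Agent.Lib.Helper4.sylow_card_of_eq 2 1 (3 * q ^ b)
            (by rw [hG]; ring) hodd P
          rw [this]; norm_num
        have hidx : (P : Subgroup G).index = 3 * q ^ b :=
          sylow_index_of_eq 2 1 (3 * q ^ b) (by rw [hG]; ring) hodd P
        apply false_of_coprime_index_factorial hna P hP
        rw [hidx]
        have : Nat.factorial 2 = 2 := by decide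
        rw [this]
        exact ((Nat.Prime.coprime_iff_not_dvd Nat.prime_two).mpr hodd).symm
      · left
        apply iso_A5
        exact case_4A1 hna q b hq hq5 (by rw [hG]; ring)
    · -- `|G|` is odd: Sylow `3`-subgroup of order `3`
      exfalso
      haveI : Fact (Nat.Prime 3) := ⟨Nat.prime_three⟩
      obtain ⟨X⟩ : Nonempty (Sylow 3 G) := inferInstance
      have hp5 : 5 ≤ p := prime_ge_five hp hp2 hp3
      have hq5 : 5 ≤ q := prime_ge_five hq hq2 hq3
      have hcop : Nat.Coprime (p ^ a * q ^ b) 6 := by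
        have h6 : (6 : ℕ) = 2 * 3 := by norm_num
        rw [h6]
        apply Nat.Coprime.mul_left
        · apply Nat.Coprime.pow_left
          apply Nat.Coprime.mul_right
          · exact (Nat.coprime_primes hp Nat.prime_two).mpr hp2
          · exact (Nat.coprime_primes hp Nat.prime_three).mpr hp3
        · apply Nat.Coprime.pow_left
          apply Nat.Coprime.mul_right
          · exact (Nat.coprime_primes hq Nat.prime_two).mpr hq2
          · exact (Nat.coprime_primes hq Nat.prime_three).mpr hq3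
      have h3n : ¬ 3 ∣ p ^ a * q ^ b := by
        intro h
        have := Nat.Coprime.eq_one_of_dvd (hcop.coprime_dvd_right (by norm_num : 3 ∣ 6)).symm h
        norm_num at this
      have hX : Nat.card X = 3 := by
        have := Cfsg.Agent.Lib.Helper4.sylow_card_of_eq 3 1 (p ^ a * q ^ b)
          (by rw [hG]; ring) h3n X
        rw [this]; norm_num
      have hidx : (X : Subgroup G).index = p ^ a * q ^ b :=
        sylow_index_of_eq 3 1 (p ^ a * q ^ b) (by rw [hG]; ring) h3n X
      apply false_of_coprime_index_factorial hna X hX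
      rw [hidx]
      have : Nat.factorial 3 = 6 := by decide
      rw [this]
      exact hcop

end Cfsg.Agent.Lib.Helper8.Sc
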