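import Mathlib
import Cfsg.Agent.Lib.Helper8.Sc1
import Cfsg.Agent.S0997
import Cfsg.Agent.Lib.Helper4.SLCenter

/-!
# S4501: case (4B1) for `p ≥ 7`, `|G| = 4 p 3^b`, via S0997
-/

set_option autoImplicit false
set_option linter.style.haveILetI false

namespace Cfsg.Agent.Lib.Helper8.Sc

open Subgroup

variable {G : Type*} [Group G] [Finite G] [IsSimpleGroup G]

theorem two_not_dvd_three_pow (b : ℕ) : ¬ 2 ∣ 3 ^ b := by
  intro h
  have := Nat.prime_two.dvd_of_dvd_pow h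
  norm_num at this

theorem three_le_of_six_le_two_pow {m : ℕ} (h : 6 ≤ 2 ^ m) : 3 ≤ m := by
  by_contra hm
  have hm2 : m ≤ 2 := by omega
  have : 2 ^ m ≤ 2 ^ 2 := Nat.pow_le_pow_right (by norm_num) hm2
  omega

/-- order of `PSL₂(F)` for `|F| = p` odd -/
theorem two_mul_card_psl2_odd (F : Type) [Field F] [Fintype F] (s : ℕ)
    (hF : Fintype.card F = 2 * s + 1) :
    2 * Nat.card (Matrix.ProjectiveSpecialLinearGroup (Fin 2) F) =
      (2 * s + 1) * (4 * s * s + 4 * s) := by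
  have h1 := Cfsg.Agent.Lib.Helper4.card_PSL_mul (F := F) 2 (by norm_num)
  rw [Cfsg.Agent.Lib.Helper4.card_SL2, hF] at h1
  have h2 : 2 * s + 1 - 1 = 2 * s := by omega
  have h3 : Nat.gcd 2 (2 * s) = 2 := Nat.gcd_eq_left (dvd_mul_right 2 s)
  have h4 : (2 * s + 1) ^ 2 - 1 = 4 * s * s + 4 * s := by
    have : (2 * s + 1) ^ 2 = 4 * s * s + 4 * s + 1 := by ring
    omega
  rw [h2, h3, h4] at h1
  exact h1

/-- order of `PSL₂(F)` for `|F| = 2 ^ m` -/
theorem card_psl2_even (F : Type) [Field F] [Fintype F] (t : ℕ) (ht : 1 ≤ t)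
    (hF : Fintype.card F = 2 * t) :
    Nat.card (Matrix.ProjectiveSpecialLinearGroup (Fin 2) F) =
      2 * t * (4 * t * t - 1) := by
  have h1 := Cfsg.Agent.Lib.Helper4.card_PSL_mul (F := F) 2 (by norm_num)
  rw [Cfsg.Agent.Lib.Helper4.card_SL2, hF] at h1
  have h3 : Nat.gcd 2 (2 * t - 1) = 1 := by
    rw [← Nat.coprime_iff_gcd_eq_one, Nat.Prime.coprime_iff_not_dvd Nat.prime_two]
    omega
  have h4 : (2 * t) ^ 2 = 4 * t * t := by ring
  rw [h3, one_mul, h4] at h1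
  exact h1

/-- case (4B1), `p ≥ 7` -/
theorem case_4B1_big (hna : ∃ x y : G, x * y ≠ y * x) (p b : ℕ) (hp : p.Prime) (hp7 : 7 ≤ p)
    (hG : Nat.card G = 4 * p * 3 ^ b) : False := by
  have hnc : ¬ IsCyclic G := fun hc => not_isMulCommutative hna inferInstance
  have hp3 : p ≠ 3 := by omega
  have hppos : 0 < p := hp.pos
  rcases Cfsg.Agent.S0997.result (G := G) hnc p 3 b 4 hp Nat.prime_three hp3
      (by rw [hG]; ring) (by omega) with ⟨m, F, _, _, hF, hpm, ⟨e⟩⟩ | ⟨m, F, _, _, hF, hpm, -, ⟨e⟩⟩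
  · -- `|F| = p = 2^m ± 1`
    have hcard : Nat.card G = Nat.card (Matrix.ProjectiveSpecialLinearGroup (Fin 2) F) :=
      Nat.card_congr e.toEquiv
    -- `p = 8 t ± 1`
    rcases hpm with hpm | hpm
    · have hm3 : 3 ≤ m := three_le_of_six_le_two_pow (by omega)
      obtain ⟨t, ht⟩ : 2 ^ 3 ∣ 2 ^ m := pow_dvd_pow 2 hm3
      have hp' : p = 2 * (4 * t) + 1 := by rw [hpm, ht]; ring
      have h1 := two_mul_card_psl2_odd F (4 * t) (by rw [hF, hp'])
      rw [← hcard, hG, hp'] at h1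
      have h2 : (2 * (4 * t) + 1) * (8 * 3 ^ b) =
          (2 * (4 * t) + 1) * (2 * (8 * (4 * t * t + t))) := by
        linear_combination h1
      have h3 := Nat.eq_of_mul_eq_mul_left (by omega) h2
      have h4 : 3 ^ b = 2 * (4 * t * t + t) := by omega
      exact two_not_dvd_three_pow b ⟨_, h4⟩
    · have hm3 : 3 ≤ m := three_le_of_six_le_two_pow (by omega)
      obtain ⟨t, ht⟩ : 2 ^ 3 ∣ 2 ^ m := pow_dvd_pow 2 hm3
      have ht1 : 1 ≤ t := by
        rcases Nat.eq_zero_or_pos t with h | h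
        · rw [h] at ht; simp at ht
        · exact h
      obtain ⟨s, rfl⟩ : ∃ s, t = s + 1 := ⟨t - 1, by omega⟩
      have hp' : p = 2 * (4 * s + 3) + 1 := by rw [hpm, ht]; omega
      have h1 := two_mul_card_psl2_odd F (4 * s + 3) (by rw [hF, hp'])
      rw [← hcard, hG, hp'] at h1
      have h2 : (2 * (4 * s + 3) + 1) * (8 * 3 ^ b) =
          (2 * (4 * s + 3) + 1) * (2 * (8 * (4 * s * s + 7 * s + 3))) := by
        linear_combination h1
      have h3 := Nat.eq_of_mul_eq_mul_left (by omega) h2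
      have h4 : 3 ^ b = 2 * (4 * s * s + 7 * s + 3) := by omega
      exact two_not_dvd_three_pow b ⟨_, h4⟩
  · -- `|F| = 2^m`, `p = 2^m + 1`
    have hcard : Nat.card G = Nat.card (Matrix.ProjectiveSpecialLinearGroup (Fin 2) F) :=
      Nat.card_congr e.toEquiv
    have hm3 : 3 ≤ m := three_le_of_six_le_two_pow (by omega)
    obtain ⟨t, ht⟩ : 2 ^ 3 ∣ 2 ^ m := pow_dvd_pow 2 hm3
    have ht1 : 1 ≤ t := by
      rcases Nat.eq_zero_or_pos t with h | h
      · rw [h] at ht; simp at ht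
      · exact h
    have h1 := card_psl2_even F (4 * t) (by omega) (by rw [hF, ht]; ring)
    rw [← hcard, hG] at h1
    have h2 : 4 * (p * 3 ^ b) = 4 * (2 * (t * (4 * (4 * t) * (4 * t) - 1))) := by
      rw [show 4 * (p * 3 ^ b) = 4 * p * 3 ^ b by ring, h1]; ring
    have h3 := Nat.eq_of_mul_eq_mul_left (by norm_num) h2
    have h4 : 2 ∣ p * 3 ^ b := ⟨_, h3⟩
    rcases (Nat.Prime.dvd_mul Nat.prime_two).mp h4 with h | h
    · have := (Nat.prime_dvd_prime_iff_eq Nat.prime_two hp).mp h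
      omega
    · exact two_not_dvd_three_pow b h

end Cfsg.Agent.Lib.Helper8.Sc
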