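import Mathlib
import Cfsg.Prelude.Def_Solvable
import Cfsg.Agent.Lib.Helper1.PLengthOne
import Cfsg.Agent.Lib.Helper8.PComp1

/-! Groups with a self-centralizing element of prime order: basic structure. -/
set_option autoImplicit false

namespace Cfsg.Agent.Lib.Helper8.SelfCent

open Subgroup
open scoped commutatorElement Pointwise

variable {G : Type*} [Group G] [Finite G] {p : ℕ} {x : G}

omit [Finite G] in
theorem card_zpowers_eq (hx : orderOf x = p) : Nat.card (zpowers x) = p := by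
  rw [Nat.card_zpowers, hx]

omit [Finite G] in
theorem x_ne_one (hp : p.Prime) (hx : orderOf x = p) : x ≠ 1 := by
  intro h
  rw [h, orderOf_one] at hx
  exact hp.one_lt.ne hx

/-- nonidentity elements of `⟨x⟩` generate it -/
theorem zpowers_eq_of_mem (hp : p.Prime) (hx : orderOf x = p) {y : G} (hy : y ∈ zpowers x)
    (hy1 : y ≠ 1) : zpowers y = zpowers x := by
  apply Subgroup.eq_of_le_of_card_ge (zpowers_le.2 hy)
  rw [card_zpowers_eq hx, Nat.card_zpowers]
  have hdvd : orderOf y ∣ p := by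
    rw [← hx]
    exact orderOf_dvd_of_mem_zpowers hy
  rcases (Nat.dvd_prime hp).1 hdvd with h | h
  · exact absurd (orderOf_eq_one_iff.1 h) hy1
  · exact h.ge

theorem orderOf_eq_of_mem (hp : p.Prime) (hx : orderOf x = p) {y : G} (hy : y ∈ zpowers x)
    (hy1 : y ≠ 1) : orderOf y = p := by
  rw [← Nat.card_zpowers, zpowers_eq_of_mem hp hx hy hy1, card_zpowers_eq hx]

theorem centralizer_eq_of_mem (hp : p.Prime) (hx : orderOf x = p)
    (hC : centralizer ({x} : Set G) = zpowers x) {y : G} (hy : y ∈ zpowers x) (hy1 : y ≠ 1) :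
    centralizer ({y} : Set G) = zpowers x := by
  have hz := zpowers_eq_of_mem hp hx hy hy1
  ext g
  rw [← hC, mem_centralizer_singleton_iff, mem_centralizer_singleton_iff]
  constructor
  · intro h
    have hxy : x ∈ zpowers y := by rw [hz]; exact mem_zpowers x
    obtain ⟨k, hk⟩ := hxy
    have hk' : y ^ k = x := hk
    rw [← hk']
    have hc : Commute g y := h
    exact (hc.zpow_right k).eq
  · intro h
    obtain ⟨k, hk⟩ := hy
    have hk' : x ^ k = y := hk
    rw [← hk']
    have hc : Commute g x := h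
    exact (hc.zpow_right k).eq

theorem exists_sylow [Fact p.Prime] (hx : orderOf x = p)
    (hC : centralizer ({x} : Set G) = zpowers x) :
    ∃ S : Sylow p G, (S : Subgroup G) = zpowers x := by
  have hp : p.Prime := Fact.out
  have hP : IsPGroup p (zpowers x) := IsPGroup.of_card (n := 1) (by rw [card_zpowers_eq hx, pow_one])
  obtain ⟨S, hS⟩ := hP.exists_le_sylow
  refine ⟨S, le_antisymm ?_ hS⟩
  haveI : Nontrivial S := ⟨⟨⟨x, hS (mem_zpowers x)⟩, 1,
    fun h => x_ne_one hp hx (congrArg Subtype.val h)⟩⟩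
  haveI := IsPGroup.center_nontrivial S.isPGroup'
  obtain ⟨z, hz1⟩ := exists_ne (1 : center S)
  have hzx : ((z : S) : G) ∈ zpowers x := by
    rw [← hC, mem_centralizer_singleton_iff]
    have := (mem_center_iff.1 z.2) ⟨x, hS (mem_zpowers x)⟩
    exact (congrArg Subtype.val this).symm
  have hz1' : ((z : S) : G) ≠ 1 := by
    intro h
    apply hz1
    apply Subtype.ext
    apply Subtype.ext
    exact h
  have hcent := centralizer_eq_of_mem hp hx hC hzx hz1'
  intro s hs
  rw [← hcent, mem_centralizer_singleton_iff]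
  have := (mem_center_iff.1 z.2) ⟨s, hs⟩
  exact congrArg Subtype.val this

theorem factorization_card [Fact p.Prime] (hx : orderOf x = p)
    (hC : centralizer ({x} : Set G) = zpowers x) : (Nat.card G).factorization p = 1 := by
  have hp : p.Prime := Fact.out
  obtain ⟨S, hS⟩ := exists_sylow hx hC
  have h1 := S.card_eq_multiplicity
  rw [hS, card_zpowers_eq hx] at h1
  have h2 : p ^ 1 = p ^ (Nat.card G).factorization p := by rw [pow_one]; exact h1
  exact (Nat.pow_right_injective hp.two_le h2).symm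

omit [Finite G] in
/-- `⟨x⟩` meets every `p'`-subgroup trivially -/
theorem inf_eq_bot_of_coprime (hx : orderOf x = p) (S : Subgroup G)
    (hS : (Nat.card S).Coprime p) : zpowers x ⊓ S = ⊥ := by
  apply disjoint_iff.1
  apply Subgroup.disjoint_of_coprime_natCard
  rw [card_zpowers_eq hx]
  exact hS.symm

/-- the fixed-point-free action of `x` on a normal `p'`-subgroup: every element is a commutator -/
theorem exists_commutator_eq (hx : orderOf x = p)
    (hC : centralizer ({x} : Set G) = zpowers x) (S : Subgroup G) [hSn : S.Normal]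
    (hS : (Nat.card S).Coprime p) (s : G) (hs : s ∈ S) :
    ∃ k ∈ S, s = k * x * k⁻¹ * x⁻¹ := by
  have hmem : ∀ k : S, (k : G) * x * (k : G)⁻¹ * x⁻¹ ∈ S := by
    intro k
    have h1 : x * (k : G)⁻¹ * x⁻¹ ∈ S := hSn.conj_mem _ (S.inv_mem k.2) x
    have h2 : (k : G) * x * (k : G)⁻¹ * x⁻¹ = (k : G) * (x * (k : G)⁻¹ * x⁻¹) := by group
    rw [h2]
    exact S.mul_mem k.2 h1
  let φ : S → S := fun k => ⟨(k : G) * x * (k : G)⁻¹ * x⁻¹, hmem k⟩
  have hinj : Function.Injective φ := by
    intro k k' h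
    have h1 : (k : G) * x * (k : G)⁻¹ * x⁻¹ = (k' : G) * x * (k' : G)⁻¹ * x⁻¹ :=
      congrArg Subtype.val h
    have h2 : (k' : G)⁻¹ * (k : G) ∈ centralizer ({x} : Set G) := by
      rw [mem_centralizer_singleton_iff]
      have h3 : (k : G) * x * (k : G)⁻¹ = (k' : G) * x * (k' : G)⁻¹ := mul_right_cancel h1
      symm
      calc x * ((k' : G)⁻¹ * (k : G)) = (k' : G)⁻¹ * ((k' : G) * x * (k' : G)⁻¹) * (k : G) := by group
        _ = (k' : G)⁻¹ * ((k : G) * x * (k : G)⁻¹) * (k : G) := by rw [h3]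
        _ = (k' : G)⁻¹ * (k : G) * x := by group
    rw [hC] at h2
    have h4 : (k' : G)⁻¹ * (k : G) ∈ zpowers x ⊓ S := ⟨h2, S.mul_mem (S.inv_mem k'.2) k.2⟩
    rw [inf_eq_bot_of_coprime hx S hS, mem_bot] at h4
    apply Subtype.ext
    have : (k : G) = (k' : G) := by
      calc (k : G) = (k' : G) * ((k' : G)⁻¹ * (k : G)) := by group
        _ = (k' : G) := by rw [h4, mul_one]
    exact this
  have hsurj := Finite.surjective_of_injective hinj
  obtain ⟨k, hk⟩ := hsurj ⟨s, hs⟩
  exact ⟨k, k.2, (congrArg Subtype.val hk).symm⟩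

/-- a normal `p'`-subgroup lies in the commutator subgroup -/
theorem le_commutator_of_coprime (hx : orderOf x = p)
    (hC : centralizer ({x} : Set G) = zpowers x) (S : Subgroup G) [hSn : S.Normal]
    (hS : (Nat.card S).Coprime p) : S ≤ commutator G := by
  intro s hs
  obtain ⟨k, _, hk⟩ := exists_commutator_eq hx hC S hS s hs
  rw [hk, _root_.commutator_def]
  exact Subgroup.commutator_mem_commutator (mem_top k) (mem_top x)

/-- if the normalizer of `⟨x⟩` is bigger than `⟨x⟩`, then `⟨x⟩` lies in the commutator subgroup -/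
theorem zpowers_le_commutator (hp : p.Prime) (hx : orderOf x = p)
    (hC : centralizer ({x} : Set G) = zpowers x)
    (h : ∃ n ∈ normalizer (zpowers x : Set G), n ∉ zpowers x) : zpowers x ≤ commutator G := by
  obtain ⟨n, hn, hnP⟩ := h
  have h1 : n * x * n⁻¹ ∈ zpowers x := (mem_normalizer_iff.1 hn x).1 (mem_zpowers x)
  have hc : n * x * n⁻¹ * x⁻¹ ∈ zpowers x := (zpowers x).mul_mem h1 ((zpowers x).inv_mem (mem_zpowers x))
  have hc1 : n * x * n⁻¹ * x⁻¹ ≠ 1 := by
    intro h2
    apply hnP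
    rw [← hC, mem_centralizer_singleton_iff]
    have h3 : n * x * n⁻¹ = x := by
      rw [mul_inv_eq_one] at h2
      exact h2
    symm
    calc x * n = (n * x * n⁻¹) * n := by rw [h3]
      _ = n * x := by group
  rw [← zpowers_eq_of_mem hp hx hc hc1, zpowers_le, _root_.commutator_def]
  exact Subgroup.commutator_mem_commutator (mem_top n) (mem_top x)

omit [Finite G] in
/-- commutators of elements of the normalizer lie in `⟨x⟩` -/
theorem commutator_mem_of_mem_normalizer (hC : centralizer ({x} : Set G) = zpowers x)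
    {n m : G} (hn : n ∈ normalizer (zpowers x : Set G)) (hm : m ∈ normalizer (zpowers x : Set G)) :
    ⁅n, m⁆ ∈ zpowers x := by
  have key : ∀ u v : G, u ∈ normalizer (zpowers x : Set G) → v ∈ normalizer (zpowers x : Set G) →
      (u * v) * x * (u * v)⁻¹ = (v * u) * x * (v * u)⁻¹ := by
    intro u v hu hv
    obtain ⟨a, ha⟩ := (mem_normalizer_iff.1 hu x).1 (mem_zpowers x)
    obtain ⟨b, hb⟩ := (mem_normalizer_iff.1 hv x).1 (mem_zpowers x)
    have ha' : x ^ a = u * x * u⁻¹ := ha
    have hb' : x ^ b = v * x * v⁻¹ := hb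
    have h1 : (u * v) * x * (u * v)⁻¹ = (x ^ a) ^ b := by
      calc (u * v) * x * (u * v)⁻¹ = u * (v * x * v⁻¹) * u⁻¹ := by group
        _ = u * x ^ b * u⁻¹ := by rw [hb']
        _ = (u * x * u⁻¹) ^ b := by rw [conj_zpow]
        _ = (x ^ a) ^ b := by rw [ha']
    have h2 : (v * u) * x * (v * u)⁻¹ = (x ^ b) ^ a := by
      calc (v * u) * x * (v * u)⁻¹ = v * (u * x * u⁻¹) * v⁻¹ := by group
        _ = v * x ^ a * v⁻¹ := by rw [ha']
        _ = (v * x * v⁻¹) ^ a := by rw [conj_zpow]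
        _ = (x ^ b) ^ a := by rw [hb']
    rw [h1, h2, ← zpow_mul, ← zpow_mul, mul_comm]
  have h3 := key n⁻¹ m⁻¹ (inv_mem hn) (inv_mem hm)
  rw [← hC, mem_centralizer_singleton_iff]
  have h4 : ⁅n, m⁆ = (m⁻¹ * n⁻¹)⁻¹ * (n⁻¹ * m⁻¹) := by
    rw [commutatorElement_def]; group
  rw [h4]
  symm
  calc x * ((m⁻¹ * n⁻¹)⁻¹ * (n⁻¹ * m⁻¹))
      = (m⁻¹ * n⁻¹)⁻¹ * ((m⁻¹ * n⁻¹) * x * (m⁻¹ * n⁻¹)⁻¹) * (n⁻¹ * m⁻¹) := by group
    _ = (m⁻¹ * n⁻¹)⁻¹ * ((n⁻¹ * m⁻¹) * x * (n⁻¹ * m⁻¹)⁻¹) * (n⁻¹ * m⁻¹) := by rw [h3]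
    _ = (m⁻¹ * n⁻¹)⁻¹ * (n⁻¹ * m⁻¹) * x := by group

/-- a normal subgroup containing `⟨x⟩` contains the commutator subgroup -/
theorem commutator_le_of_zpowers_le [Fact p.Prime] (hx : orderOf x = p)
    (hC : centralizer ({x} : Set G) = zpowers x) (M : Subgroup G) [hM : M.Normal]
    (hPM : zpowers x ≤ M) : commutator G ≤ M := by
  obtain ⟨S, hS⟩ := exists_sylow hx hC
  have hfr := Sylow.normalizer_sup_eq_top' S (N := M) (by rw [hS]; exact hPM)
  have hSset : ((S : Sylow p G) : Set G) = (zpowers x : Set G) := by rw [← hS]; rfl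
  rw [hSset] at hfr
  rw [commutator_def, Subgroup.commutator_le]
  intro g _ h _
  have hg : g ∈ normalizer (zpowers x : Set G) ⊔ M := by rw [hfr]; exact mem_top g
  have hh : h ∈ normalizer (zpowers x : Set G) ⊔ M := by rw [hfr]; exact mem_top h
  have hg' : g ∈ ((normalizer (zpowers x : Set G) ⊔ M : Subgroup G) : Set G) := hg
  have hh' : h ∈ ((normalizer (zpowers x : Set G) ⊔ M : Subgroup G) : Set G) := hh
  rw [Subgroup.mul_normal] at hg' hh'
  obtain ⟨n, hn, m, hm, rfl⟩ := Set.mem_mul.1 hg'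
  obtain ⟨n', hn', m', hm', rfl⟩ := Set.mem_mul.1 hh'
  rw [← QuotientGroup.eq_one_iff, ← QuotientGroup.mk'_apply, map_commutatorElement]
  have e1 : QuotientGroup.mk' M (n * m) = QuotientGroup.mk' M n := by
    have : QuotientGroup.mk' M m = 1 := (QuotientGroup.eq_one_iff m).2 hm
    rw [map_mul, this, mul_one]
  have e2 : QuotientGroup.mk' M (n' * m') = QuotientGroup.mk' M n' := by
    have : QuotientGroup.mk' M m' = 1 := (QuotientGroup.eq_one_iff m').2 hm'
    rw [map_mul, this, mul_one]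
  rw [e1, e2, ← map_commutatorElement]
  exact (QuotientGroup.eq_one_iff _).2 (hPM (commutator_mem_of_mem_normalizer hC hn hn'))

/-- every element of order `p` is conjugate into `⟨x⟩` -/
theorem exists_conj_mem [Fact p.Prime] (hx : orderOf x = p)
    (hC : centralizer ({x} : Set G) = zpowers x) {y : G} (hy : orderOf y = p) :
    ∃ g : G, g * y * g⁻¹ ∈ zpowers x := by
  obtain ⟨S, hS⟩ := exists_sylow hx hC
  have hP : IsPGroup p (zpowers y) := IsPGroup.of_card (n := 1) (by rw [card_zpowers_eq hy, pow_one])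
  obtain ⟨Q, hQ⟩ := hP.exists_le_sylow
  obtain ⟨g, hg⟩ := MulAction.exists_smul_eq G Q S
  refine ⟨g, ?_⟩
  rw [← hS, ← hg]
  have : MulAut.conj g • y ∈ MulAut.conj g • (Q : Subgroup G) :=
    Subgroup.smul_mem_pointwise_smul _ _ _ (hQ (mem_zpowers y))
  have h2 : MulAut.conj g • y = g * y * g⁻¹ := by simp [MulAut.smul_def]
  rw [h2] at this
  exact this

/-- a normal subgroup of order divisible by `p` contains `⟨x⟩` -/
theorem zpowers_le_of_dvd_card [Fact p.Prime] (hx : orderOf x = p)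
    (hC : centralizer ({x} : Set G) = zpowers x) (M : Subgroup G) [hM : M.Normal]
    (hpM : p ∣ Nat.card M) : zpowers x ≤ M := by
  have hp : p.Prime := Fact.out
  obtain ⟨y, hy⟩ := exists_prime_orderOf_dvd_card' p hpM
  have hy' : orderOf (y : G) = p := by rw [Subgroup.orderOf_coe]; exact hy
  obtain ⟨g, hg⟩ := exists_conj_mem hx hC hy'
  have hgM : g * y * g⁻¹ ∈ M := hM.conj_mem _ y.2 g
  have hne : g * (y : G) * g⁻¹ ≠ 1 := by
    intro h
    have : (y : G) = 1 := by
      calc (y : G) = g⁻¹ * (g * y * g⁻¹) * g := by group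
        _ = 1 := by rw [h]; group
    rw [this, orderOf_one] at hy'
    exact hp.one_lt.ne hy'
  rw [← zpowers_eq_of_mem hp hx hg hne, zpowers_le]
  exact hgM

end Cfsg.Agent.Lib.Helper8.SelfCent
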