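import Mathlib
import Cfsg.Agent.Lib.Helper8.SelfCent1

/-! Groups with a self-centralizing element of prime order: counting the classes of elements
of order `p`. -/
set_option autoImplicit false

namespace Cfsg.Agent.Lib.Helper8.SelfCent

open Subgroup
open scoped commutatorElement Pointwise

variable {G : Type*} [Group G] [Finite G] {p : ℕ} {x : G}

/-- the conjugation action of a subgroup on the group -/
@[reducible] def conjAct (N : Subgroup G) : MulAction ↥N G :=
  MulAction.compHom G ((MulAut.conj : G →* MulAut G).comp N.subtype)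

omit [Finite G] in
theorem conjAct_smul (N : Subgroup G) (n : N) (g : G) :
    (letI := conjAct N; n • g) = (n : G) * g * (n : G)⁻¹ := rfl

omit [Finite G] in
theorem zpowers_le_normalizer : zpowers x ≤ normalizer (zpowers x : Set G) :=
  Subgroup.le_normalizer

/-- the fibre of the class map over a class of elements of order `p` -/
theorem card_fiber [Fact p.Prime] (hx : orderOf x = p)
    (hC : centralizer ({x} : Set G) = zpowers x)
    (c : ConjClasses G) (hc : ∃ g ∈ c.carrier, orderOf g = p) :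
    Nat.card {y : G // y ∈ zpowers x ∧ y ≠ 1 ∧ ConjClasses.mk y = c} * p
      = Nat.card (normalizer (zpowers x : Set G)) := by
  have hp : p.Prime := Fact.out
  obtain ⟨g, hgc, hg⟩ := hc
  obtain ⟨h, hh⟩ := exists_conj_mem hx hC hg
  set y₀ := h * g * h⁻¹ with hy₀
  have hy₀1 : y₀ ≠ 1 := by
    intro h1
    have : g = 1 := by
      calc g = h⁻¹ * y₀ * h := by rw [hy₀]; group
        _ = 1 := by rw [h1]; group
    rw [this, orderOf_one] at hg
    exact hp.one_lt.ne hg
  have hcy₀ : ConjClasses.mk y₀ = c := by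
    rw [ConjClasses.mem_carrier_iff_mk_eq] at hgc
    rw [← hgc, ConjClasses.mk_eq_mk_iff_isConj, isConj_iff]
    exact ⟨h⁻¹, by rw [hy₀]; group⟩
  set N := normalizer (zpowers x : Set G) with hN
  letI := conjAct N
  obtain ⟨S, hS⟩ := exists_sylow hx hC
  have hSset : ((S : Sylow p G) : Set G) = (zpowers x : Set G) := by rw [← hS]; rfl
  have hcomm : ∀ a ∈ zpowers x, a ∈ centralizer ((S : Sylow p G) : Set G) := by
    intro a ha
    rw [hSset, mem_centralizer_iff]
    intro b hb
    obtain ⟨i, rfl⟩ := ha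
    obtain ⟨j, rfl⟩ := hb
    exact ((Commute.refl x).zpow_zpow j i).eq
  -- the orbit is the fibre
  have horb : ∀ y : G, (y ∈ zpowers x ∧ y ≠ 1 ∧ ConjClasses.mk y = c)
      ↔ y ∈ MulAction.orbit ↥N y₀ := by
    intro y
    constructor
    · rintro ⟨hy, _, hyc⟩
      rw [← hcy₀, ConjClasses.mk_eq_mk_iff_isConj, isConj_comm, isConj_iff] at hyc
      obtain ⟨k, hk⟩ := hyc
      have h1 := Sylow.conj_eq_normalizer_conj_of_mem_centralizer S y₀ k⁻¹ (hcomm y₀ hh)
        (by rw [inv_inv, hk]; exact hcomm y hy)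
      obtain ⟨n, hn, hn'⟩ := h1
      rw [inv_inv, hk] at hn'
      rw [hSset] at hn
      refine ⟨⟨n⁻¹, inv_mem hn⟩, ?_⟩
      show n⁻¹ * y₀ * (n⁻¹)⁻¹ = y
      rw [inv_inv]
      exact hn'.symm
    · rintro ⟨n, hn⟩
      have hn' : (n : G) * y₀ * (n : G)⁻¹ = y := hn
      refine ⟨?_, ?_, ?_⟩
      · rw [← hn']
        exact (mem_normalizer_iff.1 n.2 y₀).1 hh
      · intro h1
        apply hy₀1
        rw [← hn'] at h1
        calc y₀ = (n : G)⁻¹ * ((n : G) * y₀ * (n : G)⁻¹) * (n : G) := by group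
          _ = 1 := by rw [h1]; group
      · rw [← hcy₀, ConjClasses.mk_eq_mk_iff_isConj, isConj_comm, isConj_iff]
        exact ⟨n, hn'⟩
  have hstab : MulAction.stabilizer ↥N y₀ = (zpowers x).subgroupOf N := by
    ext n
    rw [MulAction.mem_stabilizer_iff, mem_subgroupOf, ← centralizer_eq_of_mem hp hx hC hh hy₀1,
      mem_centralizer_singleton_iff, conjAct_smul]
    constructor
    · intro h1
      calc (n : G) * y₀ = ((n : G) * y₀ * (n : G)⁻¹) * (n : G) := by group
        _ = y₀ * (n : G) := by rw [h1]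
    · intro h1
      rw [h1]; group
  have hos : Nat.card (MulAction.orbit ↥N y₀) * Nat.card (MulAction.stabilizer ↥N y₀) = Nat.card N := by
    rw [← Nat.card_prod]
    exact Nat.card_congr (MulAction.orbitProdStabilizerEquivGroup ↥N y₀)
  rw [hstab, Nat.card_congr (subgroupOfEquivOfLe zpowers_le_normalizer).toEquiv,
    card_zpowers_eq hx] at hos
  rw [← hos]
  congr 1
  exact Nat.card_congr (Equiv.subtypeEquivRight horb)

/-- the number of nonidentity elements of `⟨x⟩` -/
theorem card_nonidentity (hx : orderOf x = p) :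
    Nat.card {y : G // y ∈ zpowers x ∧ y ≠ 1} = p - 1 := by
  classical
  have e : {y : G // y ∈ zpowers x ∧ y ≠ 1} ≃ {y : zpowers x // y ≠ 1} :=
    { toFun := fun y => ⟨⟨y.1, y.2.1⟩, fun h => y.2.2 (congrArg Subtype.val h)⟩
      invFun := fun y => ⟨y.1.1, y.1.2, fun h => y.2 (Subtype.ext h)⟩
      left_inv := fun y => rfl
      right_inv := fun y => rfl }
  rw [Nat.card_congr e]
  haveI : Fintype (zpowers x) := Fintype.ofFinite _
  rw [Nat.card_eq_fintype_card, Fintype.card_subtype_compl, Fintype.card_subtype_eq,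
    ← Nat.card_eq_fintype_card, card_zpowers_eq hx]

/-- the counting formula `|N_G(⟨x⟩)| · t = p (p - 1)` -/
theorem card_normalizer_mul [Fact p.Prime] (hx : orderOf x = p)
    (hC : centralizer ({x} : Set G) = zpowers x) :
    Nat.card (normalizer (zpowers x : Set G))
      * Nat.card {C : ConjClasses G // ∃ g ∈ C.carrier, orderOf g = p} = p * (p - 1) := by
  classical
  have hp : p.Prime := Fact.out
  haveI : Fintype {C : ConjClasses G // ∃ g ∈ C.carrier, orderOf g = p} := Fintype.ofFinite _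
  let e : {y : G // y ∈ zpowers x ∧ y ≠ 1} ≃
      Σ c : {C : ConjClasses G // ∃ g ∈ C.carrier, orderOf g = p},
        {y : G // y ∈ zpowers x ∧ y ≠ 1 ∧ ConjClasses.mk y = c.1} :=
    { toFun := fun y => ⟨⟨ConjClasses.mk y.1, y.1, ConjClasses.mem_carrier_mk,
        orderOf_eq_of_mem hp hx y.2.1 y.2.2⟩, ⟨y.1, y.2.1, y.2.2, rfl⟩⟩
      invFun := fun z => ⟨z.2.1, z.2.2.1, z.2.2.2.1⟩
      left_inv := fun y => rfl
      right_inv := by
        intro z
        obtain ⟨⟨c, hc⟩, ⟨y, h1, h2, h3⟩⟩ := z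
        obtain rfl : c = ConjClasses.mk y := h3.symm
        rfl }
  have h1 := card_nonidentity (G := G) hx
  rw [Nat.card_congr e, Nat.card_sigma] at h1
  have h2 : ∀ c : {C : ConjClasses G // ∃ g ∈ C.carrier, orderOf g = p},
      Nat.card {y : G // y ∈ zpowers x ∧ y ≠ 1 ∧ ConjClasses.mk y = c.1} * p
        = Nat.card (normalizer (zpowers x : Set G)) := fun c => card_fiber hx hC c.1 c.2
  have h3 : (∑ c : {C : ConjClasses G // ∃ g ∈ C.carrier, orderOf g = p},
      Nat.card {y : G // y ∈ zpowers x ∧ y ≠ 1 ∧ ConjClasses.mk y = c.1}) * p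
      = Nat.card {C : ConjClasses G // ∃ g ∈ C.carrier, orderOf g = p}
        * Nat.card (normalizer (zpowers x : Set G)) := by
    rw [Finset.sum_mul, Finset.sum_congr rfl (fun c _ => h2 c), Finset.sum_const, Finset.card_univ,
      smul_eq_mul, ← Nat.card_eq_fintype_card]
  rw [h1] at h3
  rw [mul_comm, ← h3, mul_comm]

end Cfsg.Agent.Lib.Helper8.SelfCent
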