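import Mathlib
import Cfsg.Agent.Lib.Helper8.SelfCent2

/-! Groups with a self-centralizing element of prime order: the index of the normalizer, the
Frattini argument and the normal `p`-complement. -/
set_option autoImplicit false

namespace Cfsg.Agent.Lib.Helper8.SelfCent

open Subgroup
open scoped commutatorElement Pointwise

variable {G : Type*} [Group G] [Finite G] {p : ℕ} {x : G}

omit [Finite G] in
theorem relIndex_mul (hx : orderOf x = p) :
    (zpowers x).relIndex (normalizer (zpowers x : Set G)) * p
      = Nat.card (normalizer (zpowers x : Set G)) := by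
  have h1 := Subgroup.index_mul_card ((zpowers x).subgroupOf (normalizer (zpowers x : Set G)))
  rw [Nat.card_congr (subgroupOfEquivOfLe zpowers_le_normalizer).toEquiv, card_zpowers_eq hx] at h1
  exact h1

/-- `e t = p - 1` -/
theorem relIndex_mul_card_classes [Fact p.Prime] (hx : orderOf x = p)
    (hC : centralizer ({x} : Set G) = zpowers x) :
    (zpowers x).relIndex (normalizer (zpowers x : Set G))
      * Nat.card {C : ConjClasses G // ∃ g ∈ C.carrier, orderOf g = p} = p - 1 := by
  have hp : p.Prime := Fact.out
  have h1 := card_normalizer_mul hx hC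
  rw [← relIndex_mul hx] at h1
  have h2 : p * ((zpowers x).relIndex (normalizer (zpowers x : Set G))
      * Nat.card {C : ConjClasses G // ∃ g ∈ C.carrier, orderOf g = p}) = p * (p - 1) := by
    rw [← h1]; ring
  exact Nat.eq_of_mul_eq_mul_left hp.pos h2

omit [Finite G] in
theorem relIndex_eq_one_iff :
    (zpowers x).relIndex (normalizer (zpowers x : Set G)) = 1
      ↔ normalizer (zpowers x : Set G) = zpowers x := by
  rw [Subgroup.relIndex_eq_one]
  constructor
  · intro h
    exact le_antisymm h zpowers_le_normalizer
  · intro h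
    exact h.le

/-- `t = p - 1` iff `⟨x⟩` is self-normalizing -/
theorem card_classes_eq_iff [Fact p.Prime] (hx : orderOf x = p)
    (hC : centralizer ({x} : Set G) = zpowers x) :
    Nat.card {C : ConjClasses G // ∃ g ∈ C.carrier, orderOf g = p} = p - 1
      ↔ normalizer (zpowers x : Set G) = zpowers x := by
  have hp : p.Prime := Fact.out
  have h1 := relIndex_mul_card_classes hx hC
  have hpos : 0 < p - 1 := Nat.sub_pos_of_lt hp.one_lt
  rw [← relIndex_eq_one_iff]
  constructor
  · intro h
    rw [h] at h1
    exact Nat.eq_of_mul_eq_mul_right hpos (by rw [h1, one_mul])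
  · intro h
    rw [h, one_mul] at h1
    exact h1

theorem card_classes_le [Fact p.Prime] (hx : orderOf x = p)
    (hC : centralizer ({x} : Set G) = zpowers x) :
    Nat.card {C : ConjClasses G // ∃ g ∈ C.carrier, orderOf g = p} ≤ p - 1 := by
  have hp : p.Prime := Fact.out
  have h1 := relIndex_mul_card_classes hx hC
  have hpos : 0 < p - 1 := Nat.sub_pos_of_lt hp.one_lt
  have h2 : 0 < (zpowers x).relIndex (normalizer (zpowers x : Set G)) := by
    rcases Nat.eq_zero_or_pos ((zpowers x).relIndex (normalizer (zpowers x : Set G))) with h | h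
    · rw [h, zero_mul] at h1; omega
    · exact h
  calc Nat.card {C : ConjClasses G // ∃ g ∈ C.carrier, orderOf g = p}
      ≤ (zpowers x).relIndex (normalizer (zpowers x : Set G))
        * Nat.card {C : ConjClasses G // ∃ g ∈ C.carrier, orderOf g = p} :=
        Nat.le_mul_of_pos_left _ h2
    _ = p - 1 := h1

omit [Finite G] in
theorem exists_mem_normalizer_not_mem (h : normalizer (zpowers x : Set G) ≠ zpowers x) :
    ∃ n ∈ normalizer (zpowers x : Set G), n ∉ zpowers x := by
  by_contra hcon
  push Not at hcon
  exact h (le_antisymm hcon zpowers_le_normalizer)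

/-- Frattini: a normal subgroup containing `⟨x⟩` has index dividing `e` -/
theorem index_dvd_relIndex [Fact p.Prime] (hx : orderOf x = p)
    (hC : centralizer ({x} : Set G) = zpowers x) (M : Subgroup G) [hM : M.Normal]
    (hPM : zpowers x ≤ M) :
    M.index ∣ (zpowers x).relIndex (normalizer (zpowers x : Set G)) := by
  obtain ⟨S, hS⟩ := exists_sylow hx hC
  have hfr := Sylow.normalizer_sup_eq_top' S (N := M) (by rw [hS]; exact hPM)
  have hSset : ((S : Sylow p G) : Set G) = (zpowers x : Set G) := by rw [← hS]; rfl
  rw [hSset] at hfr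
  have h1 : M.relIndex (normalizer (zpowers x : Set G) ⊔ M)
      = M.relIndex (normalizer (zpowers x : Set G)) := Subgroup.relIndex_sup_right _ _
  rw [hfr, Subgroup.relIndex_top_right] at h1
  rw [h1]
  exact Subgroup.relIndex_dvd_of_le_left _ hPM

theorem sup_eq_top_of_le [Fact p.Prime] (hx : orderOf x = p)
    (hC : centralizer ({x} : Set G) = zpowers x) (M : Subgroup G) [hM : M.Normal]
    (hPM : zpowers x ≤ M) : normalizer (zpowers x : Set G) ⊔ M = ⊤ := by
  obtain ⟨S, hS⟩ := exists_sylow hx hC
  have hfr := Sylow.normalizer_sup_eq_top' S (N := M) (by rw [hS]; exact hPM)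
  have hSset : ((S : Sylow p G) : Set G) = (zpowers x : Set G) := by rw [← hS]; rfl
  rw [hSset] at hfr
  exact hfr

/-- the normal `p`-complement when `⟨x⟩` is self-normalizing -/
theorem exists_complement [Fact p.Prime] (hx : orderOf x = p)
    (hC : centralizer ({x} : Set G) = zpowers x)
    (hNP : normalizer (zpowers x : Set G) = zpowers x) :
    ∃ K : Subgroup G, K.Normal ∧ (Nat.card K).Coprime p ∧ Nat.card K * p = Nat.card G ∧
      commutator G = K := by
  have hp : p.Prime := Fact.out
  obtain ⟨S, hS⟩ := exists_sylow hx hC
  have hSset : ((S : Sylow p G) : Set G) = (zpowers x : Set G) := by rw [← hS]; rfl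
  have hP : normalizer ((S : Sylow p G) : Set G) ≤ centralizer ((S : Sylow p G) : Set G) := by
    rw [hSset, hNP]
    intro a ha
    rw [mem_centralizer_iff]
    intro b hb
    obtain ⟨i, rfl⟩ := ha
    obtain ⟨j, rfl⟩ := hb
    exact ((Commute.refl x).zpow_zpow j i).eq
  have hcomp := MonoidHom.ker_transferSylow_isComplement' S hP
  set K := (MonoidHom.transferSylow S hP).ker with hK
  have hKn : K.Normal := MonoidHom.normal_ker _
  have hcard : Nat.card K * p = Nat.card G := by
    have := hcomp.card_mul_card
    rw [hS, card_zpowers_eq hx] at this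
    exact this
  have hcop : (Nat.card K).Coprime p := by
    rw [Nat.coprime_comm, Nat.Prime.coprime_iff_not_dvd hp]
    exact MonoidHom.not_dvd_card_ker_transferSylow S hP
  refine ⟨K, hKn, hcop, hcard, ?_⟩
  apply le_antisymm
  · rw [_root_.commutator_def, Subgroup.commutator_le]
    intro a _ b _
    rw [hK, MonoidHom.mem_ker, map_commutatorElement, commutatorElement_eq_one_iff_commute]
    have hcm : ∀ u v : (S : Subgroup G), u * v = v * u := by
      intro u v
      apply Subtype.ext
      exact (hP (le_normalizer v.2) u u.2)
    exact hcm _ _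
  · exact le_commutator_of_coprime hx hC K hcop

end Cfsg.Agent.Lib.Helper8.SelfCent
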