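import Mathlib
import Cfsg.Agent.Lib.Helper8.SelfCent3
import Cfsg.Agent.Lib.Helper4.ConjClass

/-! Groups with a self-centralizing element of prime order: sums of class functions over the
nonidentity elements of `⟨x⟩` and over the elements of order `p`. -/
set_option autoImplicit false

namespace Cfsg.Agent.Lib.Helper8.SelfCent

open Subgroup

variable {G : Type*} [Group G] [Finite G] {p : ℕ} {x : G}

omit [Finite G] in
theorem apply_eq_of_isConj {M : Type*} (F : G → M) (hF : ∀ g h : G, F (h * g * h⁻¹) = F g)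
    {a b : G} (h : IsConj a b) : F a = F b := by
  obtain ⟨c, hc⟩ := isConj_iff.mp h
  rw [← hc, hF]

/-- the sum of a class function over the nonidentity elements of `⟨x⟩` -/
theorem sum_nonidentity [Fact p.Prime] (hx : orderOf x = p)
    (hC : centralizer ({x} : Set G) = zpowers x)
    {M : Type*} [AddCommMonoid M] (F : G → M) (hF : ∀ g h : G, F (h * g * h⁻¹) = F g)
    [Fintype {y : G // y ∈ zpowers x ∧ y ≠ 1}]
    [Fintype {C : ConjClasses G // ∃ g ∈ C.carrier, orderOf g = p}] :
    ∑ y : {y : G // y ∈ zpowers x ∧ y ≠ 1}, F y.1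
      = ((zpowers x).relIndex (normalizer (zpowers x : Set G))) •
        ∑ c : {C : ConjClasses G // ∃ g ∈ C.carrier, orderOf g = p}, F (Quotient.out c.1) := by
  classical
  have hp : p.Prime := Fact.out
  haveI : ∀ c : {C : ConjClasses G // ∃ g ∈ C.carrier, orderOf g = p},
      Fintype {y : G // y ∈ zpowers x ∧ y ≠ 1 ∧ ConjClasses.mk y = c.1} :=
    fun c => Fintype.ofFinite _
  let e : {y : G // y ∈ zpowers x ∧ y ≠ 1} ≃
      Σ c : {C : ConjClasses G // ∃ g ∈ C.carrier, orderOf g = p},
        {y : G // y ∈ zpowers x ∧ y ≠ 1 ∧ ConjClasses.mk y = c.1} :=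
    { toFun := fun y => ⟨⟨ConjClasses.mk y.1, y.1, ConjClasses.mem_carrier_mk,
        orderOf_eq_of_mem hp hx y.2.1 y.2.2⟩, ⟨y.1, y.2.1, y.2.2, rfl⟩⟩
      invFun := fun z => ⟨z.2.1, z.2.2.1, z.2.2.2.1⟩
      left_inv := fun y => rfl
      right_inv := by
        intro z
        obtain ⟨⟨c, hc⟩, ⟨y, h1, h2, h3⟩⟩ := z
        obtain rfl : c = ConjClasses.mk y := h3.symm
        rfl }
  rw [Fintype.sum_equiv e (fun y => F y.1) (fun z => F z.2.1) (fun y => rfl), Fintype.sum_sigma,
    Finset.smul_sum]
  apply Finset.sum_congr rfl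
  intro c _
  have h1 : ∀ y : {y : G // y ∈ zpowers x ∧ y ≠ 1 ∧ ConjClasses.mk y = c.1},
      F y.1 = F (Quotient.out c.1) := by
    intro y
    apply apply_eq_of_isConj F hF
    rw [← ConjClasses.mk_eq_mk_iff_isConj, y.2.2.2]
    exact (Quotient.out_eq c.1).symm
  rw [Finset.sum_congr rfl (fun y _ => h1 y), Finset.sum_const, Finset.card_univ,
    ← Nat.card_eq_fintype_card]
  congr 1
  have h2 := card_fiber hx hC c.1 c.2
  rw [← relIndex_mul hx] at h2
  exact Nat.eq_of_mul_eq_mul_right hp.pos h2

/-- centralizers of elements of order `p` have order `p` -/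
theorem card_centralizer_of_orderOf [Fact p.Prime] (hx : orderOf x = p)
    (hC : centralizer ({x} : Set G) = zpowers x) {g : G} (hg : orderOf g = p) :
    Nat.card (centralizer ({g} : Set G)) = p := by
  have hp : p.Prime := Fact.out
  obtain ⟨h, hh⟩ := exists_conj_mem hx hC hg
  have hy1 : h * g * h⁻¹ ≠ 1 := by
    intro h1
    have : g = 1 := by
      calc g = h⁻¹ * (h * g * h⁻¹) * h := by group
        _ = 1 := by rw [h1]; group
    rw [this, orderOf_one] at hg
    exact hp.one_lt.ne hg
  have h1 := centralizer_eq_of_mem hp hx hC hh hy1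
  have h2 : (centralizer ({g} : Set G)).index = (centralizer ({h * g * h⁻¹} : Set G)).index := by
    rw [← Cfsg.Agent.Lib.Helper4.card_carrier_eq_index,
      ← Cfsg.Agent.Lib.Helper4.card_carrier_eq_index]
    have : ConjClasses.mk g = ConjClasses.mk (h * g * h⁻¹) := by
      rw [ConjClasses.mk_eq_mk_iff_isConj, isConj_iff]
      exact ⟨h, rfl⟩
    rw [this]
  have h3 := Subgroup.card_mul_index (centralizer ({g} : Set G))
  have h4 := Subgroup.card_mul_index (centralizer ({h * g * h⁻¹} : Set G))
  have h5 : Nat.card (centralizer ({h * g * h⁻¹} : Set G)) = p := by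
    rw [h1, card_zpowers_eq hx]
  rw [h5] at h4
  rw [h2, ← h4] at h3
  have hpos : 0 < (centralizer ({h * g * h⁻¹} : Set G)).index := by
    have : (centralizer ({h * g * h⁻¹} : Set G)).index ≠ 0 := Subgroup.index_ne_zero_of_finite
    omega
  exact Nat.eq_of_mul_eq_mul_right hpos h3

/-- the sum of a class function over the elements of order `p` -/
theorem sum_orderOf [Fact p.Prime] (hx : orderOf x = p)
    (hC : centralizer ({x} : Set G) = zpowers x)
    {M : Type*} [AddCommMonoid M] (F : G → M) (hF : ∀ g h : G, F (h * g * h⁻¹) = F g)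
    [Fintype {g : G // orderOf g = p}]
    [Fintype {C : ConjClasses G // ∃ g ∈ C.carrier, orderOf g = p}] :
    p • ∑ g : {g : G // orderOf g = p}, F g.1
      = Nat.card G •
        ∑ c : {C : ConjClasses G // ∃ g ∈ C.carrier, orderOf g = p}, F (Quotient.out c.1) := by
  classical
  have hp : p.Prime := Fact.out
  haveI : ∀ c : {C : ConjClasses G // ∃ g ∈ C.carrier, orderOf g = p},
      Fintype {g : G // ConjClasses.mk g = c.1} := fun c => Fintype.ofFinite _
  have hord : ∀ c : {C : ConjClasses G // ∃ g ∈ C.carrier, orderOf g = p},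
      ∀ g : G, ConjClasses.mk g = c.1 → orderOf g = p := by
    intro c g hg
    obtain ⟨g', hg', ho⟩ := c.2
    rw [ConjClasses.mem_carrier_iff_mk_eq] at hg'
    have hconj : IsConj g g' := by
      rw [← ConjClasses.mk_eq_mk_iff_isConj, hg, hg']
    obtain ⟨a, ha⟩ := isConj_iff.mp hconj
    rw [← ho, ← ha]
    exact (orderOf_injective (MulAut.conj a).toMonoidHom (MulAut.conj a).injective g).symm
  let e : {g : G // orderOf g = p} ≃
      Σ c : {C : ConjClasses G // ∃ g ∈ C.carrier, orderOf g = p},
        {g : G // ConjClasses.mk g = c.1} :=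
    { toFun := fun g => ⟨⟨ConjClasses.mk g.1, g.1, ConjClasses.mem_carrier_mk, g.2⟩, ⟨g.1, rfl⟩⟩
      invFun := fun z => ⟨z.2.1, hord z.1 z.2.1 z.2.2⟩
      left_inv := fun g => rfl
      right_inv := by
        intro z
        obtain ⟨⟨c, hc⟩, ⟨g, h3⟩⟩ := z
        obtain rfl : c = ConjClasses.mk g := h3.symm
        rfl }
  rw [Fintype.sum_equiv e (fun g => F g.1) (fun z => F z.2.1) (fun g => rfl), Fintype.sum_sigma,
    Finset.smul_sum, Finset.smul_sum]
  apply Finset.sum_congr rfl
  intro c _
  have h1 : ∀ g : {g : G // ConjClasses.mk g = c.1}, F g.1 = F (Quotient.out c.1) := by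
    intro g
    apply apply_eq_of_isConj F hF
    rw [← ConjClasses.mk_eq_mk_iff_isConj, g.2]
    exact (Quotient.out_eq c.1).symm
  rw [Finset.sum_congr rfl (fun g _ => h1 g), Finset.sum_const, Finset.card_univ,
    ← Nat.card_eq_fintype_card, smul_smul]
  congr 1
  have hout : ConjClasses.mk (Quotient.out c.1) = c.1 := Quotient.out_eq c.1
  have h2 : Nat.card {g : G // ConjClasses.mk g = c.1}
      = (centralizer ({Quotient.out c.1} : Set G)).index := by
    rw [← Cfsg.Agent.Lib.Helper4.card_carrier_eq_index, hout]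
    refine Nat.card_congr (Equiv.subtypeEquivRight (fun g => ?_))
    rw [ConjClasses.mem_carrier_iff_mk_eq]
  have h3 := card_centralizer_of_orderOf hx hC (hord c _ hout)
  have h4 := Subgroup.card_mul_index (centralizer ({Quotient.out c.1} : Set G))
  rw [h3] at h4
  rw [h2]
  exact h4

end Cfsg.Agent.Lib.Helper8.SelfCent
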