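import Mathlib
import Cfsg.Agent.Lib.Helper8.SelfCent6
import Cfsg.Agent.Lib.Helper8.CycEig
import Cfsg.Agent.Lib.Helper8.PReg3
import Cfsg.Agent.Lib.Helper3.BurnsideIneq
import Cfsg.Agent.Lib.Helper6.CharBasic

/-! Groups with a self-centralizing element of prime order: restriction of a character to
`⟨x⟩`. -/
set_option autoImplicit false

namespace Cfsg.Agent.Lib.Helper8.SelfCent

open Subgroup Cfsg.Agent.Lib.Helper6
open scoped ComplexConjugate

variable {G : Type*} [Group G] [Finite G] {p : ℕ} {x : G}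

/-- sums over the powers of `x` and over the nonidentity elements of `⟨x⟩` -/
theorem sum_range_eq (hp : p.Prime) (hx : orderOf x = p) {M : Type*} [AddCommMonoid M]
    (F : G → M) [Fintype {y : G // y ∈ zpowers x ∧ y ≠ 1}] :
    ∑ k ∈ Finset.range p, F (x ^ k)
      = F 1 + ∑ y : {y : G // y ∈ zpowers x ∧ y ≠ 1}, F y.1 := by
  classical
  rw [Finset.range_eq_Ico, Finset.sum_eq_sum_Ico_succ_bot hp.pos, pow_zero]
  congr 1
  refine Finset.sum_bij
    (fun k hk => (⟨x ^ k, Subgroup.npow_mem_zpowers x k, ?_⟩ : {y : G // y ∈ zpowers x ∧ y ≠ 1}))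
    (fun k hk => Finset.mem_univ _) ?_ ?_ (fun k hk => rfl)
  · rw [Finset.mem_Ico] at hk
    exact pow_ne_one_of_lt_orderOf (by omega) (by rw [hx]; exact hk.2)
  · intro k hk l hl h
    rw [Finset.mem_Ico] at hk hl
    have h1 : x ^ k = x ^ l := congrArg (fun y : {y : G // y ∈ zpowers x ∧ y ≠ 1} => y.1) h
    exact pow_injOn_Iio_orderOf (by rw [hx]; exact hk.2) (by rw [hx]; exact hl.2) h1
  · rintro ⟨y, hy, hy1⟩ _
    rw [mem_zpowers_iff_mem_range_orderOf, Finset.mem_image] at hy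
    obtain ⟨k, hk, hky⟩ := hy
    rw [Finset.mem_range, hx] at hk
    have hk0 : k ≠ 0 := by
      rintro rfl
      rw [pow_zero] at hky
      exact hy1 hky.symm
    exact ⟨k, Finset.mem_Ico.mpr ⟨by omega, hk⟩, Subtype.ext hky⟩

/-- eigenvalue data of `ρ x` -/
theorem eigen_data (hp : p.Prime) (hx : orderOf x = p) {d : ℕ}
    (ρ : Representation ℂ G (Fin d → ℂ)) :
    ∃ a : ℕ, a ≤ d ∧
      (∑ k ∈ Finset.range p, ρ.character (x ^ k) = (p : ℂ) * (a : ℂ)) ∧
      ((p : ℝ) * ((a : ℝ) ^ 2 + ((d : ℝ) - (a : ℝ)))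
        ≤ ∑ k ∈ Finset.range p, ‖ρ.character (x ^ k)‖ ^ 2) ∧
      (a = 0 → ∑ k ∈ Finset.range p, ρ (x ^ k) = 0) := by
  classical
  obtain ⟨ι, hι, b, μ, hb, hμ⟩ := exists_eigenbasis_rep ρ x
  rw [hx] at hμ
  have hcard : Fintype.card ι = d := by
    rw [← Module.finrank_eq_card_basis b]
    simp
  have hchar : ∀ k : ℕ, ρ.character (x ^ k) = LinearMap.trace ℂ (Fin d → ℂ) ((ρ x) ^ k) := by
    intro k
    rw [← map_pow]
    rfl
  have hale : (Finset.univ.filter (fun i => μ i = 1)).card ≤ d := by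
    rw [← hcard, ← Finset.card_univ]
    exact Finset.card_filter_le _ _
  refine ⟨(Finset.univ.filter (fun i => μ i = 1)).card, hale, ?_, ?_, ?_⟩
  · simp_rw [hchar]
    exact CycEig.sum_trace_pow b μ (ρ x) hb hμ
  · have h1 := CycEig.sum_normSq_trace_pow b μ (ρ x) hb hp.pos hμ
    have h2 := CycEig.card_pairs_ge μ
    rw [hcard] at h2
    have h3 : ∀ k : ℕ, LinearMap.trace ℂ (Fin d → ℂ) ((ρ x) ^ k)
        * conj (LinearMap.trace ℂ (Fin d → ℂ) ((ρ x) ^ k))
        = ((‖ρ.character (x ^ k)‖ ^ 2 : ℝ) : ℂ) := by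
      intro k
      rw [hchar k, Complex.mul_conj, Complex.normSq_eq_norm_sq]
    rw [Finset.sum_congr rfl (fun k _ => h3 k)] at h1
    have h4 : ∑ k ∈ Finset.range p, ‖ρ.character (x ^ k)‖ ^ 2
        = (p : ℝ) * (((Finset.univ ×ˢ Finset.univ).filter
          (fun ij : ι × ι => μ ij.1 = μ ij.2)).card : ℝ) := by
      have : ((∑ k ∈ Finset.range p, ‖ρ.character (x ^ k)‖ ^ 2 : ℝ) : ℂ)
          = (((p : ℝ) * (((Finset.univ ×ˢ Finset.univ).filter
            (fun ij : ι × ι => μ ij.1 = μ ij.2)).card : ℝ) : ℝ) : ℂ) := by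
        push_cast
        push_cast at h1
        exact h1
      exact_mod_cast this
    rw [h4]
    have hp0 : (0 : ℝ) ≤ p := Nat.cast_nonneg p
    apply mul_le_mul_of_nonneg_left _ hp0
    have h5 : (((Finset.univ.filter (fun i => μ i = 1)).card ^ 2
        + (d - (Finset.univ.filter (fun i => μ i = 1)).card) : ℕ) : ℝ)
        ≤ (((Finset.univ ×ˢ Finset.univ).filter
          (fun ij : ι × ι => μ ij.1 = μ ij.2)).card : ℝ) := by
      exact_mod_cast h2
    rw [Nat.cast_add, Nat.cast_pow, Nat.cast_sub hale] at h5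
    exact h5
  · intro ha
    have h1 : ∀ i, μ i ≠ 1 := by
      intro i hi
      have : i ∈ Finset.univ.filter (fun i => μ i = 1) := by
        rw [Finset.mem_filter]
        exact ⟨Finset.mem_univ _, hi⟩
      rw [Finset.card_eq_zero.mp ha] at this
      exact absurd this (Finset.notMem_empty i)
    have h2 := CycEig.sum_pow_eq_zero b μ (ρ x) hb hμ h1
    simp_rw [← map_pow] at h2
    exact h2

end Cfsg.Agent.Lib.Helper8.SelfCent
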