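import Mathlib
import Cfsg.Agent.Lib.Helper8.SelfCent7

/-! Groups with a self-centralizing element of prime order: a character of degree `p - 1`
does not contain the trivial character of `⟨x⟩` when `e` is even, and vanishes on
`N_G(⟨x⟩) ∖ ⟨x⟩`. -/
set_option autoImplicit false

namespace Cfsg.Agent.Lib.Helper8.SelfCent

open Subgroup Cfsg.Agent.Lib.Helper6
open scoped ComplexConjugate

variable {G : Type*} [Group G] [Finite G] {p : ℕ} {x : G}

theorem mult_eq_zero [Fact p.Prime] (hx : orderOf x = p)
    (hC : centralizer ({x} : Set G) = zpowers x) {d : ℕ}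
    (ρ : Representation ℂ G (Fin d → ℂ)) (hirr : Cfsg.IsIrrCharacter G ρ.character)
    (hd : d + 1 = p)
    (he : Even ((zpowers x).relIndex (normalizer (zpowers x : Set G)))) {a : ℕ} (ha : a ≤ d)
    (h1 : ∑ k ∈ Finset.range p, ρ.character (x ^ k) = (p : ℂ) * (a : ℂ))
    (h2 : (p : ℝ) * ((a : ℝ) ^ 2 + ((d : ℝ) - (a : ℝ)))
        ≤ ∑ k ∈ Finset.range p, ‖ρ.character (x ^ k)‖ ^ 2) : a = 0 := by
  classical
  have hp : p.Prime := Fact.out
  haveI : Fintype G := Fintype.ofFinite G
  haveI : Fintype {y : G // y ∈ zpowers x ∧ y ≠ 1} := Fintype.ofFinite _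
  haveI : Fintype {C : ConjClasses G // ∃ g ∈ C.carrier, orderOf g = p} := Fintype.ofFinite _
  haveI : Fintype {g : G // orderOf g = p} := Fintype.ofFinite _
  obtain ⟨e, he_def⟩ : ∃ e, e = (zpowers x).relIndex (normalizer (zpowers x : Set G)) :=
    ⟨_, rfl⟩
  obtain ⟨t, ht_def⟩ : ∃ t, t = Nat.card {C : ConjClasses G // ∃ g ∈ C.carrier, orderOf g = p} :=
    ⟨_, rfl⟩
  rw [← he_def] at he
  have h2le := hp.two_le
  have het : e * t = d := by
    have h0 := relIndex_mul_card_classes hx hC
    rw [← he_def, ← ht_def] at h0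
    omega
  have hχc : Cfsg.IsCharacter G ρ.character := ⟨d, ρ, rfl⟩
  have hcf : ∀ g h : G, ρ.character (h * g * h⁻¹) = ρ.character g :=
    fun g h => Representation.char_conj ρ g h
  have hχ1 : ρ.character 1 = (d : ℂ) := by
    rw [Representation.char_one]
    simp
  -- divisibility `e ∣ a`
  have hea : e ∣ a := by
    have S1 := sum_range_eq hp hx (fun g => ρ.character g)
    have S2 := sum_nonidentity hx hC (fun g => ρ.character g) hcf
    beta_reduce at S1 S2
    rw [← he_def] at S2
    rw [S2, h1, hχ1, nsmul_eq_mul] at S1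
    set s := ∑ c : {C : ConjClasses G // ∃ g ∈ C.carrier, orderOf g = p},
      ρ.character (Quotient.out c.1) with hs
    have hsint : IsIntegral ℤ s :=
      IsIntegral.sum _ (fun c _ => isIntegral_character ρ _)
    have h3 : ((p * a : ℕ) : ℂ) = (e : ℂ) * ((t : ℂ) + s) := by
      push_cast
      rw [S1, ← het]
      push_cast
      ring
    have h4 : e ∣ p * a := by
      have hepos : e ≠ 0 := by
        intro h0
        rw [h0, zero_mul] at het
        omega
      exact Cfsg.Agent.Lib.Helper8.PReg.nat_dvd_of_eq_mul_isIntegral hepos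
        (IsIntegral.add (isIntegral_algebraMap (x := (t : ℤ)) |> fun h => by simpa using h) hsint)
        h3
    have hcop : Nat.Coprime e p := by
      have h5 : e ∣ p - 1 := ⟨t, by omega⟩
      have h6 : Nat.Coprime (p - 1) p := by
        have := Nat.coprime_self_sub_right (n := p) (m := 1) hp.one_lt.le
        rw [Nat.coprime_one_right_eq_true] at this
        rw [Nat.coprime_comm]
        simpa using this
      exact Nat.Coprime.coprime_dvd_left h5 h6
    exact hcop.dvd_of_dvd_mul_left h4
  -- the inequality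
  set f : G → ℝ := fun g => ‖ρ.character g‖ ^ 2 with hf
  have hfc : ∀ g h : G, f (h * g * h⁻¹) = f g := by
    intro g h
    simp only [hf, hcf]
  have T1 := sum_range_eq hp hx f
  have T2 := sum_nonidentity hx hC f hfc
  have T3 := sum_orderOf hx hC f hfc
  have T4 : ∑ g : G, f g = (Nat.card G : ℝ) :=
    Cfsg.Agent.Lib.Helper3.BurnsideIneq.sum_norm_sq_eq_card hirr
  have hf1 : f 1 = (d : ℝ) ^ 2 := by
    simp only [hf, hχ1]
    simp
  have T5 : f 1 + ∑ g : {g : G // orderOf g = p}, f g.1 ≤ ∑ g : G, f g := by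
    have h3 : ∑ g : {g : G // orderOf g = p}, f g.1
        = ∑ g ∈ Finset.univ.filter (fun g : G => orderOf g = p), f g := by
      exact (Finset.sum_subtype (p := fun g : G => orderOf g = p)
        (Finset.univ.filter (fun g : G => orderOf g = p)) (fun g => by simp) f).symm
    rw [h3]
    have h4 : (1 : G) ∉ Finset.univ.filter (fun g : G => orderOf g = p) := by
      rw [Finset.mem_filter]
      rintro ⟨_, h⟩
      rw [orderOf_one] at h
      exact hp.one_lt.ne h
    rw [← Finset.sum_insert h4]
    apply Finset.sum_le_sum_of_subset_of_nonneg (Finset.subset_univ _)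
    intro g _ _
    exact sq_nonneg _
  set Sc := ∑ c : {C : ConjClasses G // ∃ g ∈ C.carrier, orderOf g = p},
    f (Quotient.out c.1) with hSc
  rw [nsmul_eq_mul, nsmul_eq_mul] at T3
  rw [← he_def, nsmul_eq_mul] at T2
  rw [T2, hf1] at T1
  rw [T1] at h2
  rw [T4, hf1] at T5
  -- arithmetic
  by_contra ha0
  have hepos : 0 < e := by
    rcases Nat.eq_zero_or_pos e with h0 | h0
    · rw [h0, zero_mul] at het
      omega
    · exact h0
  have he2 : 2 ≤ e := by
    obtain ⟨m, hm⟩ := he
    omega
  have hae : e ≤ a := Nat.le_of_dvd (Nat.pos_of_ne_zero ha0) hea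
  have hGpos : (0 : ℝ) < Nat.card G := by
    have : 0 < Nat.card G := Nat.card_pos
    exact_mod_cast this
  have hpR : (p : ℝ) = d + 1 := by
    rw [← hd]
    push_cast
    ring
  have hdpos : (1 : ℝ) ≤ d := by
    have : 1 ≤ d := by
      have := hp.two_le
      omega
    exact_mod_cast this
  have he2R : (2 : ℝ) ≤ e := by exact_mod_cast he2
  have haeR : (e : ℝ) ≤ a := by exact_mod_cast hae
  -- `Sc < p`
  have hScp : Sc < p := by
    by_contra hge
    rw [not_lt] at hge
    have h5 : (Nat.card G : ℝ) * (p : ℝ) ≤ (Nat.card G : ℝ) * Sc :=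
      mul_le_mul_of_nonneg_left hge hGpos.le
    rw [← T3] at h5
    have hppos : (0 : ℝ) < p := by rw [hpR]; linarith
    nlinarith
  nlinarith [mul_le_mul haeR (by linarith : (1 : ℝ) ≤ (a : ℝ) - 1) (by norm_num) (by linarith)]

end Cfsg.Agent.Lib.Helper8.SelfCent
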