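import Mathlib
import Cfsg.Agent.Lib.Helper8.SelfCent8

/-! Groups with a self-centralizing element of prime order: vanishing on
`N_G(⟨x⟩) ∖ ⟨x⟩`. -/
set_option autoImplicit false

namespace Cfsg.Agent.Lib.Helper8.SelfCent

open Subgroup Cfsg.Agent.Lib.Helper6
open scoped ComplexConjugate

variable {G : Type*} [Group G] [Finite G] {p : ℕ} {x : G}

/-- an element of `N_G(⟨x⟩) ∖ ⟨x⟩` is conjugate to every element of its `⟨x⟩`-coset -/
theorem isConj_mul_of_mem_normalizer (hp : p.Prime) (hx : orderOf x = p)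
    (hC : centralizer ({x} : Set G) = zpowers x) {n : G}
    (hn : n ∈ normalizer (zpowers x : Set G)) (hnP : n ∉ zpowers x) {z : G}
    (hz : z ∈ zpowers x) : IsConj n (n * z) := by
  have hninv : n⁻¹ ∈ normalizer (zpowers x : Set G) := Subgroup.inv_mem _ hn
  have hmem : ∀ y : zpowers x, n⁻¹ * (y : G)⁻¹ * n * (y : G) ∈ zpowers x := by
    intro y
    have h1 : n⁻¹ * (y : G)⁻¹ * n⁻¹⁻¹ ∈ zpowers x :=
      (Subgroup.mem_normalizer_iff.mp hninv _).mp (Subgroup.inv_mem _ y.2)
    rw [inv_inv] at h1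
    exact Subgroup.mul_mem _ h1 y.2
  let g : zpowers x → zpowers x := fun y => ⟨n⁻¹ * (y : G)⁻¹ * n * (y : G), hmem y⟩
  have hinj : Function.Injective g := by
    intro y y' h
    have h1 : n⁻¹ * (y : G)⁻¹ * n * (y : G) = n⁻¹ * (y' : G)⁻¹ * n * (y' : G) :=
      congrArg Subtype.val h
    -- `w = y' y⁻¹` commutes with `n`
    have h2 : ((y' : G) * (y : G)⁻¹) * n = n * ((y' : G) * (y : G)⁻¹) := by
      have h3 : (y : G)⁻¹ * n * (y : G) = (y' : G)⁻¹ * n * (y' : G) := by
        have := congrArg (fun w => n * w) h1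
        simpa [mul_assoc] using this
      calc ((y' : G) * (y : G)⁻¹) * n
          = (y' : G) * ((y : G)⁻¹ * n * (y : G)) * (y : G)⁻¹ := by group
        _ = (y' : G) * ((y' : G)⁻¹ * n * (y' : G)) * (y : G)⁻¹ := by rw [h3]
        _ = n * ((y' : G) * (y : G)⁻¹) := by group
    by_contra hne
    have hw1 : (y' : G) * (y : G)⁻¹ ≠ 1 := by
      intro h1
      apply hne
      apply Subtype.ext
      exact (mul_inv_eq_one.mp h1).symm
    have hwP : (y' : G) * (y : G)⁻¹ ∈ zpowers x :=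
      Subgroup.mul_mem _ y'.2 (Subgroup.inv_mem _ y.2)
    have hcent := centralizer_eq_of_mem hp hx hC hwP hw1
    apply hnP
    rw [← hcent, Subgroup.mem_centralizer_singleton_iff]
    exact h2.symm
  have hsurj : Function.Surjective g := Finite.injective_iff_surjective.mp hinj
  obtain ⟨y, hy⟩ := hsurj ⟨z, hz⟩
  have hy' : n⁻¹ * (y : G)⁻¹ * n * (y : G) = z := congrArg Subtype.val hy
  rw [isConj_iff]
  refine ⟨(y : G)⁻¹, ?_⟩
  rw [inv_inv, ← hy']
  group

/-- vanishing on `N_G(⟨x⟩) ∖ ⟨x⟩` -/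
theorem apply_eq_zero_of_mem_normalizer (hp : p.Prime) (hx : orderOf x = p)
    (hC : centralizer ({x} : Set G) = zpowers x) {d : ℕ}
    (ρ : Representation ℂ G (Fin d → ℂ))
    (h0 : ∑ k ∈ Finset.range p, ρ (x ^ k) = 0) {n : G}
    (hn : n ∈ normalizer (zpowers x : Set G)) (hnP : n ∉ zpowers x) :
    ρ.character n = 0 := by
  have h1 : ∀ k : ℕ, ρ.character (n * x ^ k) = ρ.character n := by
    intro k
    have hc := isConj_mul_of_mem_normalizer hp hx hC hn hnP (Subgroup.npow_mem_zpowers x k)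
    obtain ⟨c, hc⟩ := isConj_iff.mp hc
    rw [← hc]
    exact Representation.char_conj ρ n c
  have h2 : ∑ k ∈ Finset.range p, ρ.character (n * x ^ k) = (p : ℂ) * ρ.character n := by
    rw [Finset.sum_congr rfl (fun k _ => h1 k), Finset.sum_const, Finset.card_range,
      nsmul_eq_mul]
  have h3 : ∑ k ∈ Finset.range p, ρ.character (n * x ^ k) = 0 := by
    have h4 : ∀ k : ℕ, ρ.character (n * x ^ k)
        = LinearMap.trace ℂ (Fin d → ℂ) (ρ n * ρ (x ^ k)) := by
      intro k
      rw [← map_mul]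
      rfl
    rw [Finset.sum_congr rfl (fun k _ => h4 k), ← map_sum, ← Finset.mul_sum, h0, mul_zero,
      map_zero]
  rw [h3] at h2
  have hp0 : (p : ℂ) ≠ 0 := by exact_mod_cast hp.ne_zero
  rcases mul_eq_zero.mp h2.symm with h | h
  · exact absurd h hp0
  · exact h

end Cfsg.Agent.Lib.Helper8.SelfCent
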