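import Mathlib
import Cfsg.Agent.Lib.Helper8.SelfCent9

/-! Groups with a self-centralizing element of prime order: a `2`-element of
`N_G(⟨x⟩)` generating a Sylow `2`-subgroup. -/
set_option autoImplicit false

namespace Cfsg.Agent.Lib.Helper8.SelfCent

open Subgroup

variable {G : Type*} [Group G] [Finite G] {p : ℕ} {x : G}

/-- the Sylow `2`-subgroups of `N_G(⟨x⟩)` are cyclic -/
theorem exists_two_element [Fact p.Prime] (hx : orderOf x = p)
    (hC : centralizer ({x} : Set G) = zpowers x) (hp2 : p ≠ 2) :
    ∃ u ∈ normalizer (zpowers x : Set G),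
      orderOf u = 2 ^ ((zpowers x).relIndex (normalizer (zpowers x : Set G))).factorization 2 ∧
      ∀ j, 0 < j → j < orderOf u → u ^ j ∉ zpowers x := by
  classical
  have hp : p.Prime := Fact.out
  obtain ⟨N, hN⟩ : ∃ N, N = normalizer (zpowers x : Set G) := ⟨_, rfl⟩
  obtain ⟨e, he⟩ : ∃ e, e = (zpowers x).relIndex (normalizer (zpowers x : Set G)) := ⟨_, rfl⟩
  have hcardN : e * p = Nat.card N := by
    rw [he, hN]
    exact relIndex_mul hx
  have hPN : zpowers x ≤ N := by
    rw [hN]
    exact zpowers_le_normalizer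
  have he0 : e ≠ 0 := by
    intro h0
    rw [h0, zero_mul] at hcardN
    exact Nat.card_pos.ne' hcardN.symm
  haveI hnorm : ((zpowers x).subgroupOf N).Normal := by
    rw [hN]
    exact Subgroup.normal_in_normalizer
  -- the conjugation action of `N` on `⟨x⟩`
  let ψ : N →* MulAut ((zpowers x).subgroupOf N) := MulAut.conjNormal
  have hcardH : Nat.card ((zpowers x).subgroupOf N) = p := by
    rw [Nat.card_congr (subgroupOfEquivOfLe hPN).toEquiv, card_zpowers_eq hx]
  haveI : Fact (Nat.card ((zpowers x).subgroupOf N)).Prime := ⟨by rw [hcardH]; exact hp⟩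
  haveI : IsCyclic ((zpowers x).subgroupOf N) := isCyclic_of_prime_card rfl
  haveI : IsCyclic (MulAut ((zpowers x).subgroupOf N)) :=
    isCyclic_of_surjective (IsCyclic.mulAutMulEquiv ((zpowers x).subgroupOf N)).symm
      (IsCyclic.mulAutMulEquiv ((zpowers x).subgroupOf N)).symm.surjective
  haveI : Fact (Nat.Prime 2) := ⟨Nat.prime_two⟩
  obtain ⟨S⟩ : Nonempty (Sylow 2 N) := inferInstance
  -- `ψ` is injective on `S`
  have hker : ∀ s : N, s ∈ (S : Subgroup N) → ψ s = 1 → s = 1 := by
    intro s hs h1
    have h2 : (s : G) ∈ centralizer ({x} : Set G) := by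
      rw [Subgroup.mem_centralizer_singleton_iff]
      have hxH : (⟨x, hPN (mem_zpowers x)⟩ : N) ∈ (zpowers x).subgroupOf N := by
        rw [Subgroup.mem_subgroupOf]
        exact mem_zpowers x
      have h3 := congrArg (fun a : MulAut ((zpowers x).subgroupOf N) =>
        (((a ⟨⟨x, hPN (mem_zpowers x)⟩, hxH⟩ : (zpowers x).subgroupOf N) : N) : G)) h1
      simp only [ψ, MulAut.conjNormal_apply, MulAut.one_apply] at h3
      have h4 : (s : G) * x * (s : G)⁻¹ = x := h3
      calc (s : G) * x = ((s : G) * x * (s : G)⁻¹) * (s : G) := by group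
        _ = x * (s : G) := by rw [h4]
    rw [hC] at h2
    -- order of `s` divides `p` and is a power of two
    have ho1 : orderOf (s : G) ∣ p := by
      rw [← hx]
      exact orderOf_dvd_of_mem_zpowers h2
    obtain ⟨k, hk⟩ := (IsPGroup.iff_orderOf.mp S.isPGroup') ⟨s, hs⟩
    have ho2 : orderOf (s : G) = 2 ^ k := by
      rw [← hk, Subgroup.orderOf_mk]
      exact Subgroup.orderOf_coe s
    have ho3 : orderOf (s : G) = 1 := by
      rcases (Nat.dvd_prime hp).mp ho1 with h | h
      · exact h
      · exfalso
        rw [ho2] at h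
        have h5 : 2 ∣ p := by
          rw [← h]
          cases k with
          | zero =>
            rw [pow_zero] at h
            exact absurd h.symm hp.one_lt.ne'
          | succ k => exact dvd_pow_self 2 (Nat.succ_ne_zero k)
        exact hp2 ((Nat.prime_dvd_prime_iff_eq Nat.prime_two hp).mp h5).symm
    apply Subtype.ext
    rw [orderOf_eq_one_iff] at ho3
    exact ho3
  have hinj : Function.Injective (ψ.comp (S : Subgroup N).subtype) := by
    rw [injective_iff_map_eq_one]
    intro s hs
    apply Subtype.ext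
    exact hker s.1 s.2 hs
  haveI : IsCyclic (S : Subgroup N) := isCyclic_of_injective _ hinj
  obtain ⟨g, hg⟩ := IsCyclic.exists_generator (α := (S : Subgroup N))
  have hog : orderOf g = Nat.card (S : Subgroup N) := orderOf_eq_card_of_forall_mem_zpowers hg
  have hcardS : Nat.card (S : Subgroup N) = 2 ^ e.factorization 2 := by
    rw [S.card_eq_multiplicity, ← hcardN, Nat.factorization_mul he0 hp.ne_zero]
    have : p.factorization 2 = 0 := by
      apply Nat.factorization_eq_zero_of_not_dvd
      intro h
      exact hp2 ((Nat.prime_dvd_prime_iff_eq Nat.prime_two hp).mp h).symm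
    simp [this]
  refine ⟨((g : N) : G), ?_, ?_, ?_⟩
  · rw [← hN]
    exact (g : N).2
  · rw [Subgroup.orderOf_coe, Subgroup.orderOf_coe, hog, hcardS, he]
  · intro j hj0 hjlt hmem
    rw [Subgroup.orderOf_coe, Subgroup.orderOf_coe] at hjlt
    -- `g ^ j` is in the kernel
    have hgj : ((g ^ j : (S : Subgroup N)) : N) = 1 := by
      apply hker _ (g ^ j).2
      -- conjugation by an element of `⟨x⟩` is trivial on `⟨x⟩`
      apply MulEquiv.ext
      intro y
      apply Subtype.ext
      apply Subtype.ext
      simp only [ψ, MulAut.conjNormal_apply, MulAut.one_apply]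
      have hy : ((y : N) : G) ∈ zpowers x := Subgroup.mem_subgroupOf.mp y.2
      have hgjm : (((g ^ j : (S : Subgroup N)) : N) : G) ∈ zpowers x := by
        simpa using hmem
      obtain ⟨a, ha⟩ := hy
      obtain ⟨b, hb⟩ := hgjm
      show (((g ^ j : (S : Subgroup N)) : N) : G) * ((y : N) : G)
        * (((g ^ j : (S : Subgroup N)) : N) : G)⁻¹ = ((y : N) : G)
      rw [← ha, ← hb]
      simp only
      rw [← zpow_add, ← zpow_neg, ← zpow_add]
      congr 1
      ring
    have hgj' : g ^ j = 1 := Subtype.ext hgj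
    have := orderOf_dvd_of_pow_eq_one hgj'
    exact absurd (Nat.le_of_dvd hj0 this) (not_le.mpr hjlt)

end Cfsg.Agent.Lib.Helper8.SelfCent
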