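import Mathlib
import Cfsg.Agent.Lib.Helper8.SelfCent3

/-! Groups with a self-centralizing element of prime order: normal subgroups of the commutator
subgroup. -/
set_option autoImplicit false

namespace Cfsg.Agent.Lib.Helper8.SelfCent

open Subgroup
open scoped commutatorElement Pointwise

variable {G : Type*} [Group G] [Finite G] {p : ℕ} {x : G}

/-- a subgroup of `G'` normalized by `G'` lies in `O_{p'}(G)` or is `G'` -/
theorem le_or_eq_of_normal_in_commutator [Fact p.Prime] (hx : orderOf x = p)
    (hC : centralizer ({x} : Set G) = zpowers x)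
    (hNP : normalizer (zpowers x : Set G) ≠ zpowers x)
    (K : Subgroup G) (hKD : K ≤ commutator G) (hKn : (K.subgroupOf (commutator G)).Normal) :
    K ≤ Cfsg.pPrimeCore p G ∨ K = commutator G := by
  have hp : p.Prime := Fact.out
  have hPD := zpowers_le_commutator hp hx hC (exists_mem_normalizer_not_mem hNP)
  have hfr := sup_eq_top_of_le hx hC (commutator G) hPD
  have hnorm : ∀ d ∈ commutator G, ∀ k ∈ K, d * k * d⁻¹ ∈ K := by
    intro d hd k hk
    have := hKn.conj_mem ⟨k, hKD hk⟩ (mem_subgroupOf.2 hk) ⟨d, hd⟩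
    exact mem_subgroupOf.1 this
  by_cases hpK : p ∣ Nat.card K
  · right
    -- `⟨x⟩ ≤ K`
    have hPK : zpowers x ≤ K := by
      obtain ⟨y, hy⟩ := exists_prime_orderOf_dvd_card' p hpK
      have hy' : orderOf (y : G) = p := by rw [Subgroup.orderOf_coe]; exact hy
      obtain ⟨g, hg⟩ := exists_conj_mem hx hC hy'
      have hg' : g ∈ ((normalizer (zpowers x : Set G) ⊔ commutator G : Subgroup G) : Set G) := by
        rw [hfr]; exact mem_top g
      rw [Subgroup.mul_normal] at hg'
      obtain ⟨n, hn, d, hd, rfl⟩ := Set.mem_mul.1 hg'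
      have h1 : n * (d * y * d⁻¹) * n⁻¹ ∈ zpowers x := by
        have : n * (d * y * d⁻¹) * n⁻¹ = n * d * y * (n * d)⁻¹ := by group
        rw [this]; exact hg
      have h2 : d * y * d⁻¹ ∈ zpowers x := (mem_normalizer_iff.1 hn _).2 h1
      have h3 : d * y * d⁻¹ ∈ K := hnorm d hd y y.2
      have hne : d * (y : G) * d⁻¹ ≠ 1 := by
        intro h
        have : (y : G) = 1 := by
          calc (y : G) = d⁻¹ * (d * y * d⁻¹) * d := by group
            _ = 1 := by rw [h]; group
        rw [this, orderOf_one] at hy'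
        exact hp.one_lt.ne hy'
      rw [← zpowers_eq_of_mem hp hx h2 hne, zpowers_le]
      exact h3
    have hnc : normalClosure (zpowers x : Set G) ≤ K := by
      rw [normalClosure, closure_le]
      intro a ha
      rw [Group.mem_conjugatesOfSet_iff] at ha
      obtain ⟨b, hb, hba⟩ := ha
      rw [isConj_iff] at hba
      obtain ⟨g, rfl⟩ := hba
      have hg' : g ∈ ((commutator G ⊔ normalizer (zpowers x : Set G) : Subgroup G) : Set G) := by
        rw [sup_comm, hfr]; exact mem_top g
      rw [Subgroup.normal_mul] at hg'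
      obtain ⟨d, hd, n, hn, rfl⟩ := Set.mem_mul.1 hg'
      have h1 : n * b * n⁻¹ ∈ zpowers x := (mem_normalizer_iff.1 hn b).1 hb
      have h2 : d * n * b * (d * n)⁻¹ = d * (n * b * n⁻¹) * d⁻¹ := by group
      show d * n * b * (d * n)⁻¹ ∈ K
      rw [h2]
      exact hnorm d hd _ (hPK h1)
    have hD : commutator G ≤ normalClosure (zpowers x : Set G) :=
      commutator_le_of_zpowers_le hx hC _ le_normalClosure
    exact le_antisymm hKD (hD.trans hnc)
  · left
    have hsub : K.IsSubnormal :=
      IsSubnormal.step K (commutator G) hKD (Normal.isSubnormal inferInstance) hKn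
    have hcop : (Nat.card K).Coprime p := by
      rw [Nat.coprime_comm]
      exact (Nat.Prime.coprime_iff_not_dvd hp).2 hpK
    exact Cfsg.Agent.Lib.Helper8.PComp.le_pPrimeCore_of_isSubnormal p hsub hcop

end Cfsg.Agent.Lib.Helper8.SelfCent
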