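import Mathlib
import Cfsg.Agent.Lib.Helper8.SelfCent4

/-! Groups with a self-centralizing element of prime order: the number of subgroups of order `p`
and normal subgroups of that order. -/
set_option autoImplicit false

namespace Cfsg.Agent.Lib.Helper8.SelfCent

open Subgroup
open scoped commutatorElement Pointwise

variable {G : Type*} [Group G] [Finite G] {p : ℕ} {x : G}

omit [Finite G] in
theorem relIndex_mul_card_of_le {S L : Subgroup G} (h : S ≤ L) :
    S.relIndex L * Nat.card S = Nat.card L := by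
  have h1 := Subgroup.index_mul_card (S.subgroupOf L)
  rw [Nat.card_congr (subgroupOfEquivOfLe h).toEquiv] at h1
  exact h1

omit [Finite G] in
/-- the order of a semidirect product inside a group -/
theorem card_sup_of_inf_eq_bot (H S : Subgroup G) [hS : S.Normal] (h : S ⊓ H = ⊥) :
    Nat.card (H ⊔ S : Subgroup G) = Nat.card H * Nat.card S := by
  have h1 : S.relIndex (H ⊔ S) = Nat.card H := by
    rw [Subgroup.relIndex_sup_right, ← Subgroup.inf_relIndex_right, h, Subgroup.relIndex_bot_left]
  rw [← relIndex_mul_card_of_le (le_sup_right : S ≤ H ⊔ S), h1]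

/-- the number of subgroups of order `p` -/
theorem card_subgroups_eq_index [Fact p.Prime] (hx : orderOf x = p)
    (hC : centralizer ({x} : Set G) = zpowers x) :
    Nat.card {H : Subgroup G // Nat.card H = p} = (normalizer (zpowers x : Set G)).index := by
  have hf := factorization_card hx hC
  let e : {H : Subgroup G // Nat.card H = p} ≃ Sylow p G :=
    { toFun := fun H => Sylow.ofCard H.1 (by rw [H.2, hf, pow_one])
      invFun := fun S => ⟨S.1, by rw [S.card_eq_multiplicity, hf, pow_one]⟩
      left_inv := fun H => rfl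
      right_inv := fun S => Sylow.ext rfl }
  obtain ⟨S, hS⟩ := exists_sylow hx hC
  have hSset : ((S : Sylow p G) : Set G) = (zpowers x : Set G) := by rw [← hS]; rfl
  rw [Nat.card_congr e, Sylow.card_eq_index_normalizer S, hSset]

omit [Finite G] in
/-- a normal `p'`-subgroup meets the normalizer of `⟨x⟩` trivially -/
theorem inf_normalizer_eq_bot (hx : orderOf x = p)
    (hC : centralizer ({x} : Set G) = zpowers x) (S : Subgroup G) [hSn : S.Normal]
    (hS : (Nat.card S).Coprime p) : S ⊓ normalizer (zpowers x : Set G) = ⊥ := by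
  rw [eq_bot_iff]
  rintro s ⟨hsS, hsN⟩
  have hdis := inf_eq_bot_of_coprime hx S hS
  have h1 : s * x * s⁻¹ * x⁻¹ ∈ S := by
    have h2 : s * x * s⁻¹ * x⁻¹ = s * (x * s⁻¹ * x⁻¹) := by group
    rw [h2]
    exact S.mul_mem hsS (hSn.conj_mem _ (S.inv_mem hsS) x)
  have h2 : s * x * s⁻¹ * x⁻¹ ∈ zpowers x :=
    (zpowers x).mul_mem ((mem_normalizer_iff.1 hsN x).1 (mem_zpowers x))
      ((zpowers x).inv_mem (mem_zpowers x))
  have h3 : s * x * s⁻¹ * x⁻¹ ∈ zpowers x ⊓ S := ⟨h2, h1⟩
  rw [hdis, mem_bot] at h3
  have h4 : s ∈ centralizer ({x} : Set G) := by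
    rw [mem_centralizer_singleton_iff]
    have h5 : s * x * s⁻¹ = x := by
      rw [mul_inv_eq_one] at h3
      exact h3
    calc s * x = (s * x * s⁻¹) * s := by group
      _ = x * s := by rw [h5]
  rw [hC] at h4
  have h6 : s ∈ zpowers x ⊓ S := ⟨h4, hsS⟩
  rw [hdis] at h6
  exact h6

/-- a normal `p'`-subgroup complementing the normalizer has order the index of the normalizer -/
theorem card_eq_index_of_sup_eq_top (hx : orderOf x = p)
    (hC : centralizer ({x} : Set G) = zpowers x) (S : Subgroup G) [hSn : S.Normal]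
    (hS : (Nat.card S).Coprime p) (htop : normalizer (zpowers x : Set G) ⊔ S = ⊤) :
    Nat.card S = (normalizer (zpowers x : Set G)).index := by
  have h1 := card_sup_of_inf_eq_bot (normalizer (zpowers x : Set G)) S
    (inf_normalizer_eq_bot hx hC S hS)
  rw [htop, Subgroup.card_top] at h1
  have h2 := Subgroup.card_mul_index (normalizer (zpowers x : Set G))
  rw [h1] at h2
  exact (Nat.eq_of_mul_eq_mul_left Nat.card_pos h2).symm

/-- a normal `p'`-subgroup of order the index of the normalizer complements the normalizer -/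
theorem sup_eq_top_of_card_eq_index (hx : orderOf x = p)
    (hC : centralizer ({x} : Set G) = zpowers x) (S : Subgroup G) [hSn : S.Normal]
    (hS : (Nat.card S).Coprime p)
    (hcard : Nat.card S = (normalizer (zpowers x : Set G)).index) :
    normalizer (zpowers x : Set G) ⊔ S = ⊤ := by
  apply Subgroup.eq_top_of_card_eq
  rw [card_sup_of_inf_eq_bot (normalizer (zpowers x : Set G)) S
    (inf_normalizer_eq_bot hx hC S hS), hcard]
  exact Subgroup.card_mul_index _

omit [Finite G] in
/-- if a normal `p'`-subgroup complements the normalizer then the second derived group lies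
in it -/
theorem derived_le_of_sup_eq_top
    (hC : centralizer ({x} : Set G) = zpowers x) (S : Subgroup G) [hSn : S.Normal]
    (htop : normalizer (zpowers x : Set G) ⊔ S = ⊤) :
    ⁅commutator G, commutator G⁆ ≤ S := by
  -- `G' ≤ P S`
  have hA : commutator G ≤ zpowers x ⊔ S := by
    rw [_root_.commutator_def, Subgroup.commutator_le]
    intro a _ b _
    have ha : a ∈ ((normalizer (zpowers x : Set G) ⊔ S : Subgroup G) : Set G) := by
      rw [htop]; exact mem_top a
    have hb : b ∈ ((normalizer (zpowers x : Set G) ⊔ S : Subgroup G) : Set G) := by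
      rw [htop]; exact mem_top b
    rw [Subgroup.mul_normal] at ha hb
    obtain ⟨n, hn, s, hs, rfl⟩ := Set.mem_mul.1 ha
    obtain ⟨n', hn', s', hs', rfl⟩ := Set.mem_mul.1 hb
    have e1 : QuotientGroup.mk' S (n * s) = QuotientGroup.mk' S n := by
      have : QuotientGroup.mk' S s = 1 := (QuotientGroup.eq_one_iff s).2 hs
      rw [map_mul, this, mul_one]
    have e2 : QuotientGroup.mk' S (n' * s') = QuotientGroup.mk' S n' := by
      have : QuotientGroup.mk' S s' = 1 := (QuotientGroup.eq_one_iff s').2 hs'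
      rw [map_mul, this, mul_one]
    have e3 : QuotientGroup.mk' S ⁅n * s, n' * s'⁆ = QuotientGroup.mk' S ⁅n, n'⁆ := by
      rw [map_commutatorElement, e1, e2, ← map_commutatorElement]
    have e4 : (⁅n, n'⁆)⁻¹ * ⁅n * s, n' * s'⁆ ∈ S := by
      have := e3.symm
      rw [QuotientGroup.mk'_apply, QuotientGroup.mk'_apply, QuotientGroup.eq] at this
      exact this
    have e5 : ⁅n * s, n' * s'⁆ = ⁅n, n'⁆ * ((⁅n, n'⁆)⁻¹ * ⁅n * s, n' * s'⁆) := by group
    rw [e5]
    exact Subgroup.mul_mem_sup (commutator_mem_of_mem_normalizer hC hn hn') e4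
  refine (Subgroup.commutator_mono hA hA).trans ?_
  rw [Subgroup.commutator_le]
  intro a ha b hb
  have ha' : a ∈ ((zpowers x ⊔ S : Subgroup G) : Set G) := ha
  have hb' : b ∈ ((zpowers x ⊔ S : Subgroup G) : Set G) := hb
  rw [Subgroup.mul_normal] at ha' hb'
  obtain ⟨y, hy, s, hs, rfl⟩ := Set.mem_mul.1 ha'
  obtain ⟨y', hy', s', hs', rfl⟩ := Set.mem_mul.1 hb'
  have e1 : QuotientGroup.mk' S (y * s) = QuotientGroup.mk' S y := by
    have : QuotientGroup.mk' S s = 1 := (QuotientGroup.eq_one_iff s).2 hs
    rw [map_mul, this, mul_one]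
  have e2 : QuotientGroup.mk' S (y' * s') = QuotientGroup.mk' S y' := by
    have : QuotientGroup.mk' S s' = 1 := (QuotientGroup.eq_one_iff s').2 hs'
    rw [map_mul, this, mul_one]
  have hyy : ⁅y, y'⁆ = 1 := by
    rw [commutatorElement_eq_one_iff_commute]
    obtain ⟨i, rfl⟩ := hy
    obtain ⟨j, rfl⟩ := hy'
    exact (Commute.refl x).zpow_zpow i j
  rw [← QuotientGroup.eq_one_iff, ← QuotientGroup.mk'_apply, map_commutatorElement, e1, e2,
    ← map_commutatorElement, hyy, map_one]

/-- the structure when `⟨x⟩` is not self-normalizing and `G'' ≠ G'` -/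
theorem structure_of_derived_ne [Fact p.Prime] (hx : orderOf x = p)
    (hC : centralizer ({x} : Set G) = zpowers x)
    (hNP : normalizer (zpowers x : Set G) ≠ zpowers x)
    (hne : ⁅commutator G, commutator G⁆ ≠ commutator G) :
    ⁅commutator G, commutator G⁆ = Cfsg.pPrimeCore p G ∧
    Nat.card (Cfsg.pPrimeCore p G) = (normalizer (zpowers x : Set G)).index ∧
    Nat.card (commutator G) = p * (normalizer (zpowers x : Set G)).index := by
  have hp : p.Prime := Fact.out
  have hPD := zpowers_le_commutator hp hx hC (exists_mem_normalizer_not_mem hNP)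
  have hfr := sup_eq_top_of_le hx hC (commutator G) hPD
  have hcopS := Cfsg.Agent.Lib.Helper1.pPrimeCore_card_coprime (G := G) p
  have hSD : Cfsg.pPrimeCore p G ≤ commutator G :=
    le_commutator_of_coprime hx hC (Cfsg.pPrimeCore p G) hcopS
  have hD2le : ⁅commutator G, commutator G⁆ ≤ commutator G := Subgroup.commutator_le_left _ _
  -- `p ∤ |G''|`
  have hnd : ¬ p ∣ Nat.card (⁅commutator G, commutator G⁆ : Subgroup G) := by
    intro hd
    have h1 := zpowers_le_of_dvd_card hx hC _ hd
    have h2 := commutator_le_of_zpowers_le hx hC _ h1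
    exact hne (le_antisymm hD2le h2)
  have hD2S : ⁅commutator G, commutator G⁆ ≤ Cfsg.pPrimeCore p G := by
    apply Cfsg.Agent.Lib.Helper1.le_pPrimeCore inferInstance
    rw [Nat.coprime_comm]
    exact (Nat.Prime.coprime_iff_not_dvd hp).2 hnd
  have hSD2 : Cfsg.pPrimeCore p G ≤ ⁅commutator G, commutator G⁆ := by
    intro s hs
    obtain ⟨k, hk, hks⟩ := exists_commutator_eq hx hC (Cfsg.pPrimeCore p G) hcopS s hs
    rw [hks]
    exact Subgroup.commutator_mem_commutator (hSD hk) (hPD (mem_zpowers x))
  have hD2 : ⁅commutator G, commutator G⁆ = Cfsg.pPrimeCore p G := le_antisymm hD2S hSD2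
  -- `G' = P S*`
  have hxS : x ∉ Cfsg.pPrimeCore p G := by
    intro hxs
    have h1 : x ∈ zpowers x ⊓ Cfsg.pPrimeCore p G := ⟨mem_zpowers x, hxs⟩
    rw [inf_eq_bot_of_coprime hx _ hcopS, mem_bot] at h1
    exact x_ne_one hp hx h1
  have hKD : zpowers x ⊔ Cfsg.pPrimeCore p G ≤ commutator G := sup_le hPD hSD
  have hKn : ((zpowers x ⊔ Cfsg.pPrimeCore p G).subgroupOf (commutator G)).Normal := by
    refine ⟨fun k hk d => ?_⟩
    rw [mem_subgroupOf] at hk ⊢
    have h1 : ((d * k * d⁻¹ : commutator G) : G) = ⁅(d : G), (k : G)⁆ * (k : G) := by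
      rw [commutatorElement_def]
      simp only [Subgroup.coe_mul, Subgroup.coe_inv]
      group
    rw [h1]
    apply Subgroup.mul_mem _ _ hk
    apply le_sup_right (a := zpowers x)
    rw [← hD2]
    exact Subgroup.commutator_mem_commutator d.2 k.2
  have hDeq : zpowers x ⊔ Cfsg.pPrimeCore p G = commutator G := by
    rcases le_or_eq_of_normal_in_commutator hx hC hNP _ hKD hKn with h | h
    · exact absurd (h (le_sup_left (a := zpowers x) (mem_zpowers x))) hxS
    · exact h
  have htop : normalizer (zpowers x : Set G) ⊔ Cfsg.pPrimeCore p G = ⊤ := by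
    rw [← hfr, ← hDeq, ← sup_assoc, sup_eq_left.2 (zpowers_le_normalizer (x := x))]
  have hcardS := card_eq_index_of_sup_eq_top hx hC (Cfsg.pPrimeCore p G) hcopS htop
  refine ⟨hD2, hcardS, ?_⟩
  rw [← hDeq, card_sup_of_inf_eq_bot (zpowers x) (Cfsg.pPrimeCore p G)
    (by rw [inf_comm]; exact inf_eq_bot_of_coprime hx _ hcopS), card_zpowers_eq hx, hcardS]

end Cfsg.Agent.Lib.Helper8.SelfCent
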