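import Mathlib
import Cfsg.Prelude.Def_RootSubgroups
import Cfsg.Agent.Lib.Helper8.Rs1
import Cfsg.Agent.Lib.Helper4.RootSub3
import Cfsg.Agent.S5016

set_option autoImplicit false

namespace Cfsg.Agent.Lib.Helper8.Xf

open Cfsg
open Cfsg.Agent.Lib.Helper8.Rs Cfsg.Agent.Lib.Helper4.RankOneGrp Cfsg.Agent.Lib.Helper4.RootSub
open Cfsg.Agent.Lib.Helper4.RootSub3
open scoped commutatorElement

variable {G : Type*} [Group G]

/-- `A`, `B` are the images of the two unitriangular subgroups under an injective homomorphism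
from `SL₂(L)` -/
def SL2Pair (L : Type*) [Field L] (A B : Subgroup G) : Prop :=
  ∃ φ : Matrix.SpecialLinearGroup (Fin 2) L →* G, Function.Injective φ ∧
    (upperUnipotentSL2 L).map φ = A ∧ (lowerUnipotentSL2 L).map φ = B

theorem SL2Pair.rankOne {L : Type*} [Field L] {A B : Subgroup G} (h : SL2Pair L A B) :
    IsRankOnePair A B ∧ IsPSL2PairOver L A B := by
  obtain ⟨f, hinj, hU, hL⟩ := h
  constructor
  · have := rankOnePair_map f hinj (RankOnePair_symm (Cfsg.Agent.S5016.rankOnePair (k := L)))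
      Cfsg.Agent.S5016.upper_comm Cfsg.Agent.S5016.lower_comm
    rwa [hU, hL] at this
  · refine ⟨f, ?_, ?_, hU, hL⟩
    · rw [MonoidHom.range_eq_map, ← Cfsg.Agent.S5016.sup_eq_top (k := L), Subgroup.map_sup, hU, hL,
        sup_comm]
    · rw [(MonoidHom.ker_eq_bot_iff f).2 hinj]
      exact bot_le

theorem SL2Pair.restrict {L : Type*} [Field L] {A B K : Subgroup G} (h : SL2Pair L A B)
    (hA : A ≤ K) (hB : B ≤ K) : SL2Pair L (A.subgroupOf K) (B.subgroupOf K) := by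
  obtain ⟨f, hinj, hU, hL⟩ := h
  have hr : ∀ M, f M ∈ K := by
    intro M
    have h1 : f M ∈ f.range := ⟨M, rfl⟩
    rw [MonoidHom.range_eq_map, ← Cfsg.Agent.S5016.sup_eq_top (k := L), Subgroup.map_sup, hU,
      hL] at h1
    exact (sup_le hB hA) h1
  refine ⟨f.codRestrict K hr, ?_, ?_, ?_⟩
  · intro M N hMN
    apply hinj
    exact congrArg Subtype.val hMN
  · ext x
    rw [Subgroup.mem_subgroupOf, ← hU]
    constructor
    · rintro ⟨M, hM, rfl⟩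
      exact ⟨M, hM, rfl⟩
    · rintro ⟨M, hM, hMx⟩
      exact ⟨M, hM, Subtype.ext hMx⟩
  · ext x
    rw [Subgroup.mem_subgroupOf, ← hL]
    constructor
    · rintro ⟨M, hM, rfl⟩
      exact ⟨M, hM, rfl⟩
    · rintro ⟨M, hM, hMx⟩
      exact ⟨M, hM, Subtype.ext hMx⟩

theorem conjBy_subgroupOf (K A : Subgroup G) (g : ↥K) :
    conjBy (A.subgroupOf K) g = (conjBy A (g : G)).subgroupOf K := by
  ext x
  rw [mem_conjBy, Subgroup.mem_subgroupOf, Subgroup.mem_subgroupOf, mem_conjBy]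
  rfl

theorem conj_of_path {S : Set (Subgroup G)} {A B : Subgroup G}
    (h : Relation.ReflTransGen (FAdj S) A B) : ∃ g : G, B = conjBy A g := by
  induction h with
  | refl => exact ⟨1, (conjBy_one A).symm⟩
  | tail _ hBC ih =>
    obtain ⟨g, rfl⟩ := ih
    obtain ⟨x, -, hx⟩ := right_mem_unipotent hBC.2.2
    exact ⟨x * g, by rw [hx, conjBy_conjBy]⟩

section main

variable (L : Type*) [Field L] (S₀ : Set (Subgroup G)) (K : Subgroup G)

theorem rootSet (hle : ∀ A ∈ S₀, A ≤ K) (hgen : K ≤ ⨆ B ∈ S₀, B)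
    (hcomm : ∀ A ∈ S₀, ∀ x ∈ A, ∀ y ∈ A, x * y = y * x)
    (hbot : ∀ A ∈ S₀, A ≠ ⊥)
    (hconj : ∀ A ∈ S₀, ∀ g : G, conjBy A g ∈ S₀)
    (hpair : ∀ A ∈ S₀, ∀ B ∈ S₀, (∀ a ∈ A, ∀ b ∈ B, a * b = b * a) ∨ SL2Pair L A B) :
    IsRootSubgroupSet ((fun A : Subgroup G => A.subgroupOf K) '' S₀) where
  commutative := by
    rintro _ ⟨A, hA, rfl⟩
    exact Cfsg.Agent.S5016.isMulComm_of _
      (fun x hx y hy => Subtype.ext (hcomm A hA x hx y hy))
  ne_bot := by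
    rintro _ ⟨A, hA, rfl⟩ h0
    replace h0 : A.subgroupOf K = ⊥ := h0
    apply hbot A hA
    rw [eq_bot_iff]
    intro x hx
    have h1 : (⟨x, hle A hA hx⟩ : ↥K) ∈ A.subgroupOf K := hx
    rw [h0, Subgroup.mem_bot] at h1
    exact Subgroup.mem_bot.2 (congrArg Subtype.val h1)
  generates := by
    rw [eq_top_iff]
    intro x _
    obtain ⟨T, hT⟩ : ∃ T : Subgroup ↥K, T = ⨆ A' ∈ ((fun A : Subgroup G => A.subgroupOf K) '' S₀), A' :=
      ⟨_, rfl⟩
    rw [← hT]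
    have h1 : K ≤ T.map K.subtype := by
      refine hgen.trans (iSup₂_le ?_)
      intro A hA
      have h2 : A.subgroupOf K ≤ T := by
        rw [hT]
        exact le_iSup₂ (f := fun (A' : Subgroup ↥K)
          (_ : A' ∈ ((fun A : Subgroup G => A.subgroupOf K) '' S₀)) => A') _ ⟨A, hA, rfl⟩
      have h3 := Subgroup.map_mono (f := K.subtype) h2
      rwa [Subgroup.map_subgroupOf_eq_of_le (hle A hA)] at h3
    obtain ⟨t, ht, htx⟩ := h1 x.2
    have : t = x := Subtype.ext htx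
    rwa [this] at ht
  conj_mem := by
    rintro _ ⟨A, hA, rfl⟩ g
    exact ⟨conjBy A g, hconj A hA g, (conjBy_subgroupOf K A g).symm⟩
  pair := by
    rintro _ ⟨A, hA, rfl⟩ _ ⟨B, hB, rfl⟩
    rcases hpair A hA B hB with h | h
    · left
      rw [commutator_eq_bot_iff']
      exact fun a ha b hb => Subtype.ext (h a ha b hb)
    · exact Or.inr (Or.inl ((h.restrict (hle A hA) (hle B hB)).rankOne).1)

theorem main (hne : S₀.Nonempty)
    (hcomm : ∀ A ∈ S₀, ∀ x ∈ A, ∀ y ∈ A, x * y = y * x)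
    (hbot : ∀ A ∈ S₀, A ≠ ⊥)
    (hconj : ∀ A ∈ S₀, ∀ g : G, conjBy A g ∈ S₀)
    (hpair : ∀ A ∈ S₀, ∀ B ∈ S₀, (∀ a ∈ A, ∀ b ∈ B, a * b = b * a) ∨ SL2Pair L A B)
    (hconn : ∀ A ∈ S₀, ∀ B ∈ S₀, SL2Pair L A B ∨ ∃ C ∈ S₀, SL2Pair L A C ∧ SL2Pair L C B) :
    IsRootSubgroupClass ((fun A : Subgroup G => A.subgroupOf (⨆ B ∈ S₀, B)) '' S₀) ∧
    IsDegenerateRootSet ((fun A : Subgroup G => A.subgroupOf (⨆ B ∈ S₀, B)) '' S₀) ∧
    IsKRootSubgroupSet L ((fun A : Subgroup G => A.subgroupOf (⨆ B ∈ S₀, B)) '' S₀) ∧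
    IsConnectedFamily (FAdj ((fun A : Subgroup G => A.subgroupOf (⨆ B ∈ S₀, B)) '' S₀))
      ((fun A : Subgroup G => A.subgroupOf (⨆ B ∈ S₀, B)) '' S₀) := by
  have hle : ∀ A ∈ S₀, A ≤ ⨆ B ∈ S₀, B :=
    fun A hA => le_iSup₂ (f := fun (B : Subgroup G) (_ : B ∈ S₀) => B) A hA
  obtain ⟨K, hK⟩ : ∃ K : Subgroup G, K = ⨆ B ∈ S₀, B := ⟨_, rfl⟩
  rw [← hK] at hle ⊢
  have hS := rootSet L S₀ K hle hK.le hcomm hbot hconj hpair
  have hconnS : IsConnectedFamily (FAdj ((fun A : Subgroup G => A.subgroupOf K) '' S₀))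
      ((fun A : Subgroup G => A.subgroupOf K) '' S₀) := by
    rintro _ ⟨A, hA, rfl⟩ _ ⟨B, hB, rfl⟩
    rcases hconn A hA B hB with h | ⟨C, hC, h1, h2⟩
    · exact Relation.ReflTransGen.single ⟨⟨A, hA, rfl⟩, ⟨B, hB, rfl⟩,
        ((h.restrict (hle A hA) (hle B hB)).rankOne).1⟩
    · exact Relation.ReflTransGen.head ⟨⟨A, hA, rfl⟩, ⟨C, hC, rfl⟩,
        ((h1.restrict (hle A hA) (hle C hC)).rankOne).1⟩
        (Relation.ReflTransGen.single ⟨⟨C, hC, rfl⟩, ⟨B, hB, rfl⟩,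
        ((h2.restrict (hle C hC) (hle B hB)).rankOne).1⟩)
  refine ⟨⟨hS, ?_, ?_⟩, ?_, ⟨hS, ?_⟩, hconnS⟩
  · obtain ⟨A, hA⟩ := hne
    exact ⟨_, ⟨A, hA, rfl⟩⟩
  · intro A hA B hB
    exact conj_of_path (hconnS A hA B hB)
  · rintro _ ⟨A, hA, rfl⟩ _ ⟨B, hB, rfl⟩ hcase
    rcases hpair A hA B hB with h | h
    · have h1 : ⁅A.subgroupOf K, B.subgroupOf K⁆ = ⊥ := by
        rw [commutator_eq_bot_iff']
        exact fun a ha b hb => Subtype.ext (h a ha b hb)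
      exact hS.ne_bot _ hcase.1 h1
    · exact not_rankOne_of_commutator_mem hS ⟨A, hA, rfl⟩ ⟨B, hB, rfl⟩ hcase.1
        ((h.restrict (hle A hA) (hle B hB)).rankOne).1
  · rintro _ ⟨A, hA, rfl⟩ _ ⟨B, hB, rfl⟩ hAB
    rcases hpair A hA B hB with h | h
    · exact (not_commute_of_pair hAB
        (fun a ha b hb => Subtype.ext (h a ha b hb))).elim
    · exact ((h.restrict (hle A hA) (hle B hB)).rankOne).2

end main

end Cfsg.Agent.Lib.Helper8.Xf
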