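import Mathlib
import Cfsg.Prelude.Def_RootSubgroups
import Cfsg.Agent.Lib.Helper5.SiegelComm
import Cfsg.Agent.Lib.Helper5.HypDisc
import Cfsg.Agent.Lib.Helper8.Xf

set_option autoImplicit false

namespace Cfsg.Agent.Lib.Helper8.Sg

open Matrix Cfsg QuadraticMap
open Cfsg.Agent.Lib.Helper5.CartanDieudonne Cfsg.Agent.Lib.Helper5.Refl
  Cfsg.Agent.Lib.Helper5.Siegel Cfsg.Agent.Lib.Helper5.QuadIsom
open Cfsg.Agent.Lib.Helper4.RankOneGrp

variable {ι : Type} [Fintype ι] [DecidableEq ι] {F : Type*} [Field F]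
variable (Q : QuadraticForm F (ι → F))

theorem ext_act' {g h : ↥(isometryGroup F ⇑Q)} (H : ∀ x, act Q g x = act Q h x) : g = h := by
  apply Subtype.ext
  apply Units.ext
  rw [ext_iff_mulVec]
  exact H

theorem act_one' (x : ι → F) : act Q 1 x = x := one_mulVec x

theorem act_inv_act' (a : ↥(isometryGroup F ⇑Q)) (x : ι → F) : act Q a⁻¹ (act Q a x) = x := by
  rw [← act_mul, inv_mul_cancel]
  exact one_mulVec x

/-- the set of isometries fixing `⟨p, r⟩^⊥` pointwise, written as in the statement -/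
def Tset (p r : ι → F) : Set ↥(isometryGroup F ⇑Q) :=
  {σ | ∀ v : ι → F, Q (v + p) - Q v - Q p = 0 → Q (v + r) - Q v - Q r = 0 →
    ((σ : Matrix.GeneralLinearGroup ι F) : Matrix ι ι F) *ᵥ v = v}

/-- the Siegel transvection group of the line `⟨p, r⟩` -/
def Tp (p r : ι → F) : Subgroup ↥(isometryGroup F ⇑Q) := Subgroup.closure (Tset Q p r)

/-- `p, r` span a singular line -/
def IsL (p r : ι → F) : Prop :=
  LinearIndependent F ![p, r] ∧ Q p = 0 ∧ Q r = 0 ∧ Q (p + r) = 0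

/-- the set of Siegel transvection groups, as in the statement -/
def Sig : Set (Subgroup ↥(isometryGroup F ⇑Q)) :=
  {A | ∃ p r : ι → F, LinearIndependent F ![p, r] ∧ Q p = 0 ∧ Q r = 0 ∧ Q (p + r) = 0 ∧
    A = Subgroup.closure {σ : ↥(isometryGroup F ⇑Q) | ∀ v : ι → F,
      Q (v + p) - Q v - Q p = 0 → Q (v + r) - Q v - Q r = 0 →
        ((σ : Matrix.GeneralLinearGroup ι F) : Matrix ι ι F) *ᵥ v = v}}

theorem mem_Sig {A : Subgroup ↥(isometryGroup F ⇑Q)} :
    A ∈ Sig Q ↔ ∃ p r : ι → F, IsL Q p r ∧ A = Tp Q p r := by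
  constructor
  · rintro ⟨p, r, h1, h2, h3, h4, h5⟩
    exact ⟨p, r, ⟨h1, h2, h3, h4⟩, h5⟩
  · rintro ⟨p, r, ⟨h1, h2, h3, h4⟩, h5⟩
    exact ⟨p, r, h1, h2, h3, h4, h5⟩

variable {Q}

theorem mem_Tset {p r : ι → F} {σ : ↥(isometryGroup F ⇑Q)} :
    σ ∈ Tset Q p r ↔ ∀ v, polar ⇑Q v p = 0 → polar ⇑Q v r = 0 → act Q σ v = v := Iff.rfl

theorem IsL.li {p r : ι → F} (h : IsL Q p r) : LinearIndependent F ![p, r] := h.1

theorem IsL.q1 {p r : ι → F} (h : IsL Q p r) : Q p = 0 := h.2.1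

theorem IsL.q2 {p r : ι → F} (h : IsL Q p r) : Q r = 0 := h.2.2.1

theorem IsL.q3 {p r : ι → F} (h : IsL Q p r) : Q (p + r) = 0 := h.2.2.2

theorem IsL.polar {p r : ι → F} (h : IsL Q p r) : polar ⇑Q p r = 0 := by
  unfold QuadraticMap.polar
  rw [h.2.2.2, h.2.1, h.2.2.1]
  simp

theorem polar_self_zero {p : ι → F} (hp : Q p = 0) : polar ⇑Q p p = 0 := by
  rw [polar_self, hp]
  simp

theorem Tset_one (p r : ι → F) : (1 : ↥(isometryGroup F ⇑Q)) ∈ Tset Q p r :=
  fun v _ _ => one_mulVec v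

theorem Tset_mul {p r : ι → F} {x y : ↥(isometryGroup F ⇑Q)} (hx : x ∈ Tset Q p r)
    (hy : y ∈ Tset Q p r) : x * y ∈ Tset Q p r := by
  rw [mem_Tset] at hx hy ⊢
  intro v h1 h2
  rw [act_mul, hy v h1 h2, hx v h1 h2]

theorem Tset_inv {p r : ι → F} {x : ↥(isometryGroup F ⇑Q)} (hx : x ∈ Tset Q p r) :
    x⁻¹ ∈ Tset Q p r := by
  rw [mem_Tset] at hx ⊢
  intro v h1 h2
  calc act Q x⁻¹ v = act Q x⁻¹ (act Q x v) := by rw [hx v h1 h2]
    _ = v := act_inv_act' Q x v

theorem mem_Tp {p r : ι → F} {x : ↥(isometryGroup F ⇑Q)} : x ∈ Tp Q p r ↔ x ∈ Tset Q p r := by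
  constructor
  · intro hx
    unfold Tp at hx
    induction hx using Subgroup.closure_induction with
    | mem x hx => exact hx
    | one => exact Tset_one p r
    | mul x y _ _ hx hy => exact Tset_mul hx hy
    | inv x _ hx => exact Tset_inv hx
  · exact fun hx => Subgroup.subset_closure hx

theorem Tset_congr {p r p₁ r₁ : ι → F}
    (H : ∀ v, (polar ⇑Q v p = 0 ∧ polar ⇑Q v r = 0) ↔ (polar ⇑Q v p₁ = 0 ∧ polar ⇑Q v r₁ = 0)) :
    Tset Q p r = Tset Q p₁ r₁ := by
  ext σ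
  rw [mem_Tset, mem_Tset]
  constructor
  · intro h v h1 h2
    obtain ⟨h3, h4⟩ := (H v).2 ⟨h1, h2⟩
    exact h v h3 h4
  · intro h v h1 h2
    obtain ⟨h3, h4⟩ := (H v).1 ⟨h1, h2⟩
    exact h v h3 h4

theorem quad_comb {p r : ι → F} (hp : Q p = 0) (hr : Q r = 0) (hpr : polar ⇑Q p r = 0) (a b : F) :
    Q (a • p + b • r) = 0 := by
  have h := quad_add_two Q 0 p r a b
  rw [zero_add] at h
  rw [h, hp, hr, hpr]
  simp [QuadraticMap.polar]

/-- change of basis of the line -/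
theorem Tset_change (p r : ι → F) {a b c d : F} (hdet : a * d ≠ b * c) :
    Tset Q (a • p + b • r) (c • p + d • r) = Tset Q p r := by
  apply Tset_congr
  intro v
  rw [polar_add_right, polar_add_right, polar_smul_right, polar_smul_right, polar_smul_right,
    polar_smul_right, smul_eq_mul, smul_eq_mul, smul_eq_mul, smul_eq_mul]
  constructor
  · rintro ⟨h1, h2⟩
    have hD : a * d - b * c ≠ 0 := sub_ne_zero.2 hdet
    constructor
    · have : (a * d - b * c) * polar ⇑Q v p = 0 := by linear_combination d * h1 - b * h2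
      exact (mul_eq_zero.1 this).resolve_left hD
    · have : (a * d - b * c) * polar ⇑Q v r = 0 := by linear_combination a * h2 - c * h1
      exact (mul_eq_zero.1 this).resolve_left hD
  · rintro ⟨h1, h2⟩
    rw [h1, h2]
    simp

theorem Tp_change (p r : ι → F) {a b c d : F} (hdet : a * d ≠ b * c) :
    Tp Q (a • p + b • r) (c • p + d • r) = Tp Q p r := by
  unfold Tp
  rw [Tset_change p r hdet]

theorem IsL.change {p r : ι → F} (h : IsL Q p r) {a b c d : F} (hdet : a * d ≠ b * c) :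
    IsL Q (a • p + b • r) (c • p + d • r) := by
  refine ⟨?_, quad_comb h.2.1 h.2.2.1 h.polar a b, quad_comb h.2.1 h.2.2.1 h.polar c d, ?_⟩
  · rw [LinearIndependent.pair_add_smul_add_smul_iff]
    exact ⟨h.1, hdet⟩
  · have e : a • p + b • r + (c • p + d • r) = (a + c) • p + (b + d) • r := by module
    rw [e]
    exact quad_comb h.2.1 h.2.2.1 h.polar _ _

theorem Tp_swap (p r : ι → F) : Tp Q r p = Tp Q p r := by
  have h := Tp_change (Q := Q) p r (a := 0) (b := 1) (c := 1) (d := 0) (by simp)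
  simpa using h

theorem IsL.swap {p r : ι → F} (h : IsL Q p r) : IsL Q r p := by
  have h1 := h.change (a := 0) (b := 1) (c := 1) (d := 0) (by simp)
  simpa using h1

theorem siegel_mem_Tset {p r : ι → F} (hp : Q p = 0) (hr : Q r = 0) (hpr : polar ⇑Q p r = 0)
    (c : F) : siegel Q p r hp hr hpr c ∈ Tset Q p r := by
  rw [mem_Tset]
  intro v h1 h2
  rw [act_siegel, polar_comm ⇑Q p v, polar_comm ⇑Q r v, h1, h2]
  simp

theorem Tset_explicit (hQ : (polarBilin Q).Nondegenerate) {p r : ι → F} (hL : IsL Q p r)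
    {σ : ↥(isometryGroup F ⇑Q)} (hσ : σ ∈ Tset Q p r) :
    ∃ c : F, σ = siegel Q p r hL.q1 hL.q2 hL.polar c := by
  have hp := hL.q1
  have hr := hL.q2
  have hpr := hL.polar
  have hpp := polar_self_zero hp
  have hrr := polar_self_zero hr
  have hrp : polar ⇑Q r p = 0 := by rw [polar_comm]; exact hpr
  obtain ⟨u, hu⟩ := Cfsg.Agent.Lib.Helper5.HypDisc.exists_dual_family (polarBilin Q) hQ ![p, r] hL.li
  obtain ⟨p', hp'⟩ : ∃ p', p' = u 0 := ⟨_, rfl⟩
  obtain ⟨r', hr'⟩ : ∃ r', r' = u 1 := ⟨_, rfl⟩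
  have h00 : polar ⇑Q p p' = 1 := by have := hu 0 0; simpa [hp'] using this
  have h01 : polar ⇑Q p r' = 0 := by have := hu 0 1; simpa [hr'] using this
  have h10 : polar ⇑Q r p' = 0 := by have := hu 1 0; simpa [hp'] using this
  have h11 : polar ⇑Q r r' = 1 := by have := hu 1 1; simpa [hr'] using this
  have g00 : polar ⇑Q p' p = 1 := by rw [polar_comm]; exact h00
  have g01 : polar ⇑Q r' p = 0 := by rw [polar_comm]; exact h01
  have g10 : polar ⇑Q p' r = 0 := by rw [polar_comm]; exact h10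
  have g11 : polar ⇑Q r' r = 1 := by rw [polar_comm]; exact h11
  rw [mem_Tset] at hσ
  have hperp : ∀ w v, polar ⇑Q v p = 0 → polar ⇑Q v r = 0 →
      polar ⇑Q (act Q σ w - w) v = 0 := by
    intro w v h1 h2
    have h3 := polar_act Q σ w v
    rw [hσ v h1 h2] at h3
    rw [polar_sub_left, h3, sub_self]
  -- decomposition of an arbitrary vector
  have hdec : ∀ x, ∃ y, polar ⇑Q y p = 0 ∧ polar ⇑Q y r = 0 ∧
      x = y + polar ⇑Q p x • p' + polar ⇑Q r x • r' := by
    intro x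
    refine ⟨x - polar ⇑Q p x • p' - polar ⇑Q r x • r', ?_, ?_, by abel⟩
    · rw [polar_sub_left, polar_sub_left, polar_smul_left, polar_smul_left, g00, g01,
        polar_comm ⇑Q x p]
      simp
    · rw [polar_sub_left, polar_sub_left, polar_smul_left, polar_smul_left, g10, g11,
        polar_comm ⇑Q x r]
      simp
  have key : ∀ d, (∀ v, polar ⇑Q v p = 0 → polar ⇑Q v r = 0 → polar ⇑Q d v = 0) →
      d = polar ⇑Q d p' • p + polar ⇑Q d r' • r := by
    intro d hd
    rw [← sub_eq_zero]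
    apply hQ.1
    intro x
    rw [polarBilin_apply_apply]
    obtain ⟨y, hy1, hy2, hx⟩ := hdec x
    have hdy := hd y hy1 hy2
    have e1 : polar ⇑Q d x = polar ⇑Q d y + polar ⇑Q p x * polar ⇑Q d p' +
        polar ⇑Q r x * polar ⇑Q d r' := by
      calc polar ⇑Q d x = polar ⇑Q d (y + polar ⇑Q p x • p' + polar ⇑Q r x • r') := by rw [← hx]
        _ = _ := by
          rw [polar_add_right, polar_add_right, polar_smul_right, polar_smul_right, smul_eq_mul,
            smul_eq_mul]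
    rw [polar_sub_left, polar_add_left, polar_smul_left, polar_smul_left, smul_eq_mul, smul_eq_mul,
      e1, hdy]
    ring
  obtain ⟨a₁, ha₁⟩ : ∃ a, a = polar ⇑Q (act Q σ p' - p') p' := ⟨_, rfl⟩
  obtain ⟨b₁, hb₁⟩ : ∃ a, a = polar ⇑Q (act Q σ p' - p') r' := ⟨_, rfl⟩
  obtain ⟨a₂, ha₂⟩ : ∃ a, a = polar ⇑Q (act Q σ r' - r') p' := ⟨_, rfl⟩
  obtain ⟨b₂, hb₂⟩ : ∃ a, a = polar ⇑Q (act Q σ r' - r') r' := ⟨_, rfl⟩
  have e1 : act Q σ p' = p' + a₁ • p + b₁ • r := by
    have := key _ (hperp p')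
    rw [← ha₁, ← hb₁] at this
    rw [add_assoc, ← this]
    abel
  have e2 : act Q σ r' = r' + a₂ • p + b₂ • r := by
    have := key _ (hperp r')
    rw [← ha₂, ← hb₂] at this
    rw [add_assoc, ← this]
    abel
  have f1 : a₁ = 0 := by
    have h := quad_act Q σ p'
    rw [e1, quad_add_two, hp, hr, hpr, g00, g10] at h
    linear_combination h
  have f2 : b₂ = 0 := by
    have h := quad_act Q σ r'
    rw [e2, quad_add_two, hp, hr, hpr, g01, g11] at h
    linear_combination h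
  have f3 : a₂ = -b₁ := by
    have h := polar_act Q σ p' r'
    rw [e1, e2, f1, f2] at h
    simp only [zero_smul, add_zero, polar_add_left, polar_add_right, polar_smul_left,
      polar_smul_right, smul_eq_mul, g00, h11, hrp, mul_zero, mul_one] at h
    linear_combination h
  refine ⟨b₁, ?_⟩
  apply ext_act' Q
  intro x
  obtain ⟨y, hy1, hy2, hx⟩ := hdec x
  rw [act_siegel]
  obtain ⟨α, hα⟩ : ∃ α, α = polar ⇑Q p x := ⟨_, rfl⟩
  obtain ⟨β, hβ⟩ : ∃ β, β = polar ⇑Q r x := ⟨_, rfl⟩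
  rw [← hα, ← hβ] at hx ⊢
  calc act Q σ x = act Q σ (y + α • p' + β • r') := by rw [← hx]
    _ = y + α • (p' + a₁ • p + b₁ • r) + β • (r' + a₂ • p + b₂ • r) := by
        rw [act_add, act_add, act_smul, act_smul, hσ y hy1 hy2, e1, e2]
    _ = (y + α • p' + β • r') + (b₁ * α) • r - (b₁ * β) • p := by
        rw [f1, f2, f3]
        module
    _ = x + (b₁ * α) • r - (b₁ * β) • p := by rw [← hx]

theorem exists_partners (hQ : (polarBilin Q).Nondegenerate) {p r : ι → F}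
    (hli : LinearIndependent F ![p, r]) :
    ∃ p' r' : ι → F, polar ⇑Q p p' = 1 ∧ polar ⇑Q p r' = 0 ∧ polar ⇑Q r p' = 0 ∧
      polar ⇑Q r r' = 1 := by
  obtain ⟨u, hu⟩ := Cfsg.Agent.Lib.Helper5.HypDisc.exists_dual_family (polarBilin Q) hQ ![p, r] hli
  refine ⟨u 0, u 1, ?_, ?_, ?_, ?_⟩
  · have := hu 0 0; simpa using this
  · have := hu 0 1; simpa using this
  · have := hu 1 0; simpa using this
  · have := hu 1 1; simpa using this

theorem IsL.ne_zero_right {p r : ι → F} (h : IsL Q p r) : r ≠ 0 := by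
  have := h.1.ne_zero 1
  simpa using this

theorem IsL.ne_zero_left {p r : ι → F} (h : IsL Q p r) : p ≠ 0 := by
  have := h.1.ne_zero 0
  simpa using this

theorem siegel_eq_one (hQ : (polarBilin Q).Nondegenerate) {p r : ι → F} (hL : IsL Q p r) {c : F}
    (h : siegel Q p r hL.q1 hL.q2 hL.polar c = 1) : c = 0 := by
  obtain ⟨p', r', h00, h01, h10, h11⟩ := exists_partners hQ hL.li
  have h1 : act Q (siegel Q p r hL.q1 hL.q2 hL.polar c) p' = p' := by
    rw [h]
    exact one_mulVec p'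
  rw [act_siegel, h00, h10, mul_one, mul_zero, zero_smul, sub_zero] at h1
  have h2 : c • r = 0 := by
    have := congrArg (fun z => z - p') h1
    simpa using this
  exact (smul_eq_zero.1 h2).resolve_right hL.ne_zero_right

theorem siegel_injective (hQ : (polarBilin Q).Nondegenerate) {p r : ι → F} (hL : IsL Q p r)
    {c d : F} (h : siegel Q p r hL.q1 hL.q2 hL.polar c =
      siegel Q p r hL.q1 hL.q2 hL.polar d) : c = d := by
  have h1 : siegel Q p r hL.q1 hL.q2 hL.polar (c + -d) = 1 := by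
    rw [← siegel_mul_siegel, ← siegel_inv, h, mul_inv_cancel]
  have := siegel_eq_one hQ hL h1
  linear_combination this

theorem mem_Tp_iff (hQ : (polarBilin Q).Nondegenerate) {p r : ι → F} (hL : IsL Q p r)
    {σ : ↥(isometryGroup F ⇑Q)} :
    σ ∈ Tp Q p r ↔ ∃ c : F, σ = siegel Q p r hL.q1 hL.q2 hL.polar c := by
  rw [mem_Tp]
  constructor
  · exact Tset_explicit hQ hL
  · rintro ⟨c, rfl⟩
    exact siegel_mem_Tset _ _ _ c

theorem Tp_comm (hQ : (polarBilin Q).Nondegenerate) {p r : ι → F} (hL : IsL Q p r)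
    {x y : ↥(isometryGroup F ⇑Q)} (hx : x ∈ Tp Q p r) (hy : y ∈ Tp Q p r) : x * y = y * x := by
  obtain ⟨c, rfl⟩ := (mem_Tp_iff hQ hL).1 hx
  obtain ⟨d, rfl⟩ := (mem_Tp_iff hQ hL).1 hy
  rw [siegel_mul_siegel, siegel_mul_siegel, add_comm c d]

theorem Tp_ne_bot (hQ : (polarBilin Q).Nondegenerate) {p r : ι → F} (hL : IsL Q p r) :
    Tp Q p r ≠ ⊥ := by
  intro h
  have h1 : siegel Q p r hL.q1 hL.q2 hL.polar 1 ∈ Tp Q p r :=
    (mem_Tp_iff hQ hL).2 ⟨1, rfl⟩
  rw [h, Subgroup.mem_bot] at h1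
  exact one_ne_zero (siegel_eq_one hQ hL h1)

theorem IsL.map_act {p r : ι → F} (h : IsL Q p r) (g : ↥(isometryGroup F ⇑Q)) :
    IsL Q (act Q g p) (act Q g r) := by
  refine ⟨?_, by rw [quad_act]; exact h.2.1, by rw [quad_act]; exact h.2.2.1, ?_⟩
  · rw [LinearIndependent.pair_iff]
    intro s t hst
    have h1 : act Q g (s • p + t • r) = 0 := by
      rw [act_add, act_smul, act_smul]
      exact hst
    have h2 : s • p + t • r = 0 := by
      have := congrArg (act Q g⁻¹) h1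
      rw [act_inv_act'] at this
      rw [this]
      exact mulVec_zero _
    exact LinearIndependent.pair_iff.1 h.1 s t h2
  · rw [← act_add, quad_act]
    exact h.2.2.2

theorem conj_Tset (g : ↥(isometryGroup F ⇑Q)) {p r : ι → F} {x : ↥(isometryGroup F ⇑Q)}
    (hx : x ∈ Tset Q p r) : g * x * g⁻¹ ∈ Tset Q (act Q g p) (act Q g r) := by
  rw [mem_Tset] at hx ⊢
  intro v h1 h2
  have e1 : polar ⇑Q (act Q g⁻¹ v) p = 0 := by
    rw [← polar_act Q g, act_inv_act]
    exact h1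
  have e2 : polar ⇑Q (act Q g⁻¹ v) r = 0 := by
    rw [← polar_act Q g, act_inv_act]
    exact h2
  rw [act_mul, act_mul, hx _ e1 e2, act_inv_act]

theorem conjBy_Tp (g : ↥(isometryGroup F ⇑Q)) (p r : ι → F) :
    conjBy (Tp Q p r) g = Tp Q (act Q g p) (act Q g r) := by
  ext x
  rw [mem_conjBy, mem_Tp, mem_Tp]
  constructor
  · intro hx
    have h1 := conj_Tset g hx
    have e : g * (g⁻¹ * x * g) * g⁻¹ = x := by group
    rwa [e] at h1
  · intro hx
    have h1 := conj_Tset g⁻¹ hx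
    rw [act_inv_act', act_inv_act', inv_inv] at h1
    exact h1

theorem Sig_conj {A : Subgroup ↥(isometryGroup F ⇑Q)} (hA : A ∈ Sig Q)
    (g : ↥(isometryGroup F ⇑Q)) : conjBy A g ∈ Sig Q := by
  rw [mem_Sig] at hA ⊢
  obtain ⟨p, r, hL, rfl⟩ := hA
  exact ⟨_, _, hL.map_act g, conjBy_Tp g p r⟩

end Cfsg.Agent.Lib.Helper8.Sg
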