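import Mathlib
import Cfsg.Agent.Lib.Helper8.Sg1

set_option autoImplicit false

namespace Cfsg.Agent.Lib.Helper8.Sg

open Matrix Cfsg QuadraticMap
open Cfsg.Agent.Lib.Helper5.CartanDieudonne Cfsg.Agent.Lib.Helper5.Refl
  Cfsg.Agent.Lib.Helper5.Siegel Cfsg.Agent.Lib.Helper5.QuadIsom
  Cfsg.Agent.Lib.Helper5.SiegelComm
open Cfsg.Agent.Lib.Helper4.RankOneGrp
open scoped commutatorElement

variable {ι : Type} [Fintype ι] [DecidableEq ι] {F : Type*} [Field F]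
variable {Q : QuadraticForm F (ι → F)}

theorem siegel_zero {p r : ι → F} (hp : Q p = 0) (hr : Q r = 0) (hpr : polar ⇑Q p r = 0) :
    siegel Q p r hp hr hpr 0 = 1 := by
  apply Subtype.ext
  apply Units.ext
  exact siegelMatrix_zero Q p r

/-- two Siegel groups whose lines are perpendicular commute -/
theorem comm_of_perp (hQ : (polarBilin Q).Nondegenerate) {p r p' r' : ι → F}
    (hL' : IsL Q p' r') (h1 : polar ⇑Q p p' = 0) (h2 : polar ⇑Q p r' = 0)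
    (h3 : polar ⇑Q r p' = 0) (h4 : polar ⇑Q r r' = 0) :
    ∀ a ∈ Tp Q p r, ∀ b ∈ Tp Q p' r', a * b = b * a := by
  intro a ha b hb
  rw [mem_Tp, mem_Tset] at ha
  obtain ⟨d, rfl⟩ := (mem_Tp_iff hQ hL').1 hb
  have e1 : act Q a p' = p' := ha p' (by rw [polar_comm]; exact h1) (by rw [polar_comm]; exact h3)
  have e2 : act Q a r' = r' := ha r' (by rw [polar_comm]; exact h2) (by rw [polar_comm]; exact h4)
  rw [← mul_inv_eq_iff_eq_mul]
  apply ext_act' Q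
  intro x
  rw [conj_siegel, act_siegel, act_siegel, e1, e2]

/-- two lines meeting in a point (and not perpendicular): the Siegel groups commute -/
theorem comm_of_meet (hQ : (polarBilin Q).Nondegenerate) {p r p' r' : ι → F}
    (hL : IsL Q p r) (hL' : IsL Q p' r') (h1 : polar ⇑Q p p' = 1) (h2 : polar ⇑Q p r' = 0)
    (h3 : polar ⇑Q r p' = 0) (h4 : polar ⇑Q r r' = 0) {l : F} (hl : l • r = r') :
    ∀ a ∈ Tp Q p r, ∀ b ∈ Tp Q p' r', a * b = b * a := by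
  intro a ha b hb
  obtain ⟨c, rfl⟩ := (mem_Tp_iff hQ hL).1 ha
  obtain ⟨d, rfl⟩ := (mem_Tp_iff hQ hL').1 hb
  have e1 : act Q (siegel Q p r hL.q1 hL.q2 hL.polar c) p' = p' + c • r := by
    rw [act_siegel, h1, h3]
    simp
  have e2 : act Q (siegel Q p r hL.q1 hL.q2 hL.polar c) r' = r' := by
    rw [act_siegel, h2, h4]
    simp
  rw [← mul_inv_eq_iff_eq_mul]
  apply ext_act' Q
  intro x
  rw [conj_siegel, act_siegel, e1, e2, act_siegel, polar_add_left, polar_smul_left, ← hl,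
    polar_smul_left, smul_eq_mul, smul_eq_mul]
  module

theorem quad_add_of_polar {r r' : ι → F} (hr : Q r = 0) (hr' : Q r' = 0)
    (h : polar ⇑Q r r' = 0) : Q (r + r') = 0 := by
  unfold QuadraticMap.polar at h
  rw [hr, hr'] at h
  simpa using h

/-- the commutator case -/
theorem commCase (hQ : (polarBilin Q).Nondegenerate) {p r p' r' : ι → F}
    (hL : IsL Q p r) (hL' : IsL Q p' r') (h1 : polar ⇑Q p p' = 1) (h2 : polar ⇑Q p r' = 0)
    (h3 : polar ⇑Q r p' = 0) (h4 : polar ⇑Q r r' = 0) (hli : LinearIndependent F ![r, r']) :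
    RootCommutatorCase (Sig Q) (Tp Q p r) (Tp Q p' r') := by
  have hp := hL.q1
  have hr := hL.q2
  have hp' := hL'.q1
  have hr' := hL'.q2
  have hLrr : IsL Q r r' := ⟨hli, hr, hr', quad_add_of_polar hr hr' h4⟩
  have hLs : IsL Q r p := hL.swap
  have key : ∀ c d : F, ⁅siegel Q r p hLs.q1 hLs.q2 hLs.polar c,
      siegel Q p' r' hL'.q1 hL'.q2 hL'.polar d⁆ =
      siegel Q r r' hLrr.q1 hLrr.q2 hLrr.polar (-(c * d)) :=
    fun c d => siegel_commutator Q r r' p p' hr hr' hp hp' hLs.polar hL'.polar h4 h3 h1 h2 c d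
  have memA : ∀ {a}, a ∈ Tp Q p r ↔ ∃ c : F, a = siegel Q r p hLs.q1 hLs.q2 hLs.polar c := by
    intro a
    rw [Tp_swap r p]
    exact mem_Tp_iff hQ hLs
  have hcomm_eq : ⁅Tp Q p r, Tp Q p' r'⁆ = Tp Q r r' := by
    apply le_antisymm
    · rw [Subgroup.commutator_le]
      intro a ha b hb
      obtain ⟨c, rfl⟩ := memA.1 ha
      obtain ⟨d, rfl⟩ := (mem_Tp_iff hQ hL').1 hb
      rw [key]
      exact (mem_Tp_iff hQ hLrr).2 ⟨_, rfl⟩
    · intro x hx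
      obtain ⟨t, rfl⟩ := (mem_Tp_iff hQ hLrr).1 hx
      have h5 := Subgroup.commutator_mem_commutator (memA.2 ⟨-t, rfl⟩)
        ((mem_Tp_iff hQ hL').2 ⟨1, rfl⟩)
      rw [key] at h5
      have e : -(-t * 1) = t := by ring
      rwa [e] at h5
  refine ⟨?_, ?_, ?_, ?_⟩
  · rw [hcomm_eq, mem_Sig]
    exact ⟨r, r', hLrr, rfl⟩
  · rw [hcomm_eq]
    intro c hc x hx
    have hA : Tp Q p r ≤ Subgroup.centralizer (Tp Q r r' : Set ↥(isometryGroup F ⇑Q)) := by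
      intro a ha
      rw [Subgroup.mem_centralizer_iff]
      intro h hh
      exact comm_of_perp hQ hL hLs.polar (polar_self_zero hr)
        (by rw [polar_comm]; exact h2) (by rw [polar_comm]; exact h4) h hh a ha
    have hB : Tp Q p' r' ≤ Subgroup.centralizer (Tp Q r r' : Set ↥(isometryGroup F ⇑Q)) := by
      intro a ha
      rw [Subgroup.mem_centralizer_iff]
      intro h hh
      exact comm_of_perp hQ hL' h3 h4
        (by rw [polar_comm]; exact hL'.polar) (polar_self_zero hr') h hh a ha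
    have := (sup_le hA hB) hx
    rw [Subgroup.mem_centralizer_iff] at this
    exact this c hc
  · intro a ha ha1
    obtain ⟨c, rfl⟩ := memA.1 ha
    have hc : c ≠ 0 := by
      rintro rfl
      exact ha1 (siegel_zero _ _ _)
    rw [hcomm_eq]
    apply le_antisymm
    · rw [Subgroup.closure_le]
      rintro _ ⟨b, hb, rfl⟩
      obtain ⟨d, rfl⟩ := (mem_Tp_iff hQ hL').1 hb
      show _ * _ * _⁻¹ * _⁻¹ ∈ Tp Q r r'
      rw [← commutatorElement_def, key]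
      exact (mem_Tp_iff hQ hLrr).2 ⟨_, rfl⟩
    · intro x hx
      obtain ⟨t, rfl⟩ := (mem_Tp_iff hQ hLrr).1 hx
      apply Subgroup.subset_closure
      refine ⟨siegel Q p' r' hL'.q1 hL'.q2 hL'.polar (-(t / c)),
        (mem_Tp_iff hQ hL').2 ⟨_, rfl⟩, ?_⟩
      show _ * _ * _⁻¹ * _⁻¹ = _
      rw [← commutatorElement_def, key]
      have e : -(c * -(t / c)) = t := by field_simp
      rw [e]
  · intro b hb hb1
    obtain ⟨d, rfl⟩ := (mem_Tp_iff hQ hL').1 hb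
    have hd : d ≠ 0 := by
      rintro rfl
      exact hb1 (siegel_zero _ _ _)
    rw [hcomm_eq]
    apply le_antisymm
    · rw [Subgroup.closure_le]
      rintro _ ⟨a, ha, rfl⟩
      obtain ⟨c, rfl⟩ := memA.1 ha
      show _ * _ * _⁻¹ * _⁻¹ ∈ Tp Q r r'
      rw [← commutatorElement_def, key]
      exact (mem_Tp_iff hQ hLrr).2 ⟨_, rfl⟩
    · intro x hx
      obtain ⟨t, rfl⟩ := (mem_Tp_iff hQ hLrr).1 hx
      apply Subgroup.subset_closure
      refine ⟨siegel Q r p hLs.q1 hLs.q2 hLs.polar (-(t / d)), memA.2 ⟨_, rfl⟩, ?_⟩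
      show _ * _ * _⁻¹ * _⁻¹ = _
      rw [← commutatorElement_def, key]
      have e : -(-(t / d) * d) = t := by field_simp
      rw [e]

/-- normal form of a pair of lines with `polar p p' ≠ 0` -/
theorem nf_of_ne {p r p' r' : ι → F} (hL : IsL Q p r) (hL' : IsL Q p' r')
    (hα : polar ⇑Q p p' ≠ 0) :
    ∃ p₁ r₁ p₁' r₁' : ι → F, IsL Q p₁ r₁ ∧ IsL Q p₁' r₁' ∧ Tp Q p₁ r₁ = Tp Q p r ∧
      Tp Q p₁' r₁' = Tp Q p' r' ∧ polar ⇑Q p₁ p₁' = 1 ∧ polar ⇑Q p₁ r₁' = 0 ∧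
      polar ⇑Q r₁ p₁' = 0 := by
  obtain ⟨α, hα'⟩ : ∃ α, α = polar ⇑Q p p' := ⟨_, rfl⟩
  obtain ⟨β, hβ⟩ : ∃ β, β = polar ⇑Q p r' := ⟨_, rfl⟩
  obtain ⟨γ, hγ⟩ : ∃ γ, γ = polar ⇑Q r p' := ⟨_, rfl⟩
  rw [← hα'] at hα
  have d1 : α⁻¹ * 1 ≠ 0 * (-(γ / α)) := by
    rw [mul_one, zero_mul]
    exact inv_ne_zero hα
  have d2 : (1 : F) * 1 ≠ 0 * (-(β / α)) := by
    rw [mul_one, zero_mul]
    exact one_ne_zero
  refine ⟨α⁻¹ • p + (0 : F) • r, (-(γ / α)) • p + (1 : F) • r, (1 : F) • p' + (0 : F) • r',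
    (-(β / α)) • p' + (1 : F) • r', hL.change d1, hL'.change d2, Tp_change p r d1,
    Tp_change p' r' d2, ?_, ?_, ?_⟩
  · simp only [polar_add_left, polar_add_right, polar_smul_left, polar_smul_right, smul_eq_mul,
      ← hα', ← hβ, ← hγ]
    field_simp
    ring
  · simp only [polar_add_left, polar_add_right, polar_smul_left, polar_smul_right, smul_eq_mul,
      ← hα', ← hβ, ← hγ]
    field_simp
    ring
  · simp only [polar_add_left, polar_add_right, polar_smul_left, polar_smul_right, smul_eq_mul,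
      ← hα', ← hβ, ← hγ]
    field_simp
    ring

/-- normal form of a pair of non-perpendicular lines -/
theorem nf {p r p' r' : ι → F} (hL : IsL Q p r) (hL' : IsL Q p' r')
    (hne : ¬ (polar ⇑Q p p' = 0 ∧ polar ⇑Q p r' = 0 ∧ polar ⇑Q r p' = 0 ∧ polar ⇑Q r r' = 0)) :
    ∃ p₁ r₁ p₁' r₁' : ι → F, IsL Q p₁ r₁ ∧ IsL Q p₁' r₁' ∧ Tp Q p₁ r₁ = Tp Q p r ∧
      Tp Q p₁' r₁' = Tp Q p' r' ∧ polar ⇑Q p₁ p₁' = 1 ∧ polar ⇑Q p₁ r₁' = 0 ∧
      polar ⇑Q r₁ p₁' = 0 := by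
  by_cases h1 : polar ⇑Q p p' = 0
  · by_cases h2 : polar ⇑Q p r' = 0
    · by_cases h3 : polar ⇑Q r p' = 0
      · have h4 : polar ⇑Q r r' ≠ 0 := fun h4 => hne ⟨h1, h2, h3, h4⟩
        obtain ⟨p₁, r₁, p₁', r₁', g1, g2, g3, g4, g5⟩ := nf_of_ne hL.swap hL'.swap h4
        exact ⟨p₁, r₁, p₁', r₁', g1, g2, g3.trans (Tp_swap p r), g4.trans (Tp_swap p' r'), g5⟩
      · obtain ⟨p₁, r₁, p₁', r₁', g1, g2, g3, g4, g5⟩ := nf_of_ne hL.swap hL' h3
        exact ⟨p₁, r₁, p₁', r₁', g1, g2, g3.trans (Tp_swap p r), g4, g5⟩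
    · obtain ⟨p₁, r₁, p₁', r₁', g1, g2, g3, g4, g5⟩ := nf_of_ne hL hL'.swap h2
      exact ⟨p₁, r₁, p₁', r₁', g1, g2, g3, g4.trans (Tp_swap p' r'), g5⟩
  · exact nf_of_ne hL hL' h1

end Cfsg.Agent.Lib.Helper8.Sg
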