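import Mathlib
import Cfsg.Agent.Lib.Helper8.Sg2

set_option autoImplicit false

namespace Cfsg.Agent.Lib.Helper8.Sg

open Matrix Cfsg QuadraticMap
open Cfsg.Agent.Lib.Helper5.CartanDieudonne Cfsg.Agent.Lib.Helper5.Refl
  Cfsg.Agent.Lib.Helper5.Siegel Cfsg.Agent.Lib.Helper5.QuadIsom
open Cfsg.Agent.Lib.Helper4.RankOneGrp
open Cfsg.Agent.Lib.Helper8.Rs Cfsg.Agent.Lib.Helper8.Xf

section mat
variable {k : Type*} [Field k] {κ : Type*} [Fintype κ] [DecidableEq κ]

theorem rowMat_mul_colMat_zero (u w u' w' : κ → k) (h1 : u' ⬝ᵥ u = 0) (h2 : u' ⬝ᵥ w = 0)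
    (h3 : w' ⬝ᵥ u = 0) (h4 : w' ⬝ᵥ w = 0) : rowMat u' w' * colMat u w = 0 := by
  ext a b
  rw [Matrix.mul_apply]
  fin_cases a <;> fin_cases b
  · simpa [rowMat, colMat, dotProduct] using h1
  · simpa [rowMat, colMat, dotProduct] using h2
  · simpa [rowMat, colMat, dotProduct] using h3
  · simpa [rowMat, colMat, dotProduct] using h4

theorem two_emb_mul (C₁ C₂ : Matrix κ (Fin 2) k) (R₁ R₂ : Matrix (Fin 2) κ k)
    (h12 : R₁ * C₂ = 0) (X Y : Matrix (Fin 2) (Fin 2) k) :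
    (1 + C₁ * X * R₁) * (1 + C₂ * Y * R₂) = 1 + C₁ * X * R₁ + C₂ * Y * R₂ := by
  have e : C₁ * X * R₁ * (C₂ * Y * R₂) = 0 := by
    calc C₁ * X * R₁ * (C₂ * Y * R₂) = C₁ * X * (R₁ * C₂) * Y * R₂ := by
          simp only [Matrix.mul_assoc]
      _ = 0 := by rw [h12]; simp
  obtain ⟨A, hA⟩ : ∃ A, A = C₁ * X * R₁ := ⟨_, rfl⟩
  obtain ⟨B, hB⟩ : ∃ B, B = C₂ * Y * R₂ := ⟨_, rfl⟩
  rw [← hA, ← hB] at e ⊢
  have : (1 + A) * (1 + B) = 1 + A + B + A * B := by noncomm_ring
  rw [this, e, add_zero]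

theorem sandwich (C₁ C₂ : Matrix κ (Fin 2) k) (R₁ R₂ : Matrix (Fin 2) κ k)
    (h11 : R₁ * C₁ = 1) (h12 : R₁ * C₂ = 0) (X Y : Matrix (Fin 2) (Fin 2) k) :
    R₁ * (1 + C₁ * X * R₁ + C₂ * Y * R₂) * C₁ = 1 + X := by
  have e1 : R₁ * (C₁ * X * R₁) * C₁ = X := by
    calc R₁ * (C₁ * X * R₁) * C₁ = (R₁ * C₁) * X * (R₁ * C₁) := by simp only [Matrix.mul_assoc]
      _ = X := by rw [h11, Matrix.one_mul, Matrix.mul_one]
  have e2 : R₁ * (C₂ * Y * R₂) * C₁ = 0 := by
    calc R₁ * (C₂ * Y * R₂) * C₁ = (R₁ * C₂) * Y * R₂ * C₁ := by simp only [Matrix.mul_assoc]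
      _ = 0 := by rw [h12]; simp
  rw [Matrix.mul_add, Matrix.mul_add, Matrix.add_mul, Matrix.add_mul, Matrix.mul_one, h11, e1, e2,
    add_zero]

theorem tv_mulVec (u w x : κ → k) (t : k) :
    (1 + t • vecMulVec u w) *ᵥ x = x + (t * (w ⬝ᵥ x)) • u := by
  rw [add_mulVec, one_mulVec, smul_mulVec, vecMulVec_mulVec]
  ext i
  simp [mul_comm, mul_left_comm, mul_assoc]

end mat

section emb
variable {ι : Type} [Fintype ι] [DecidableEq ι] {F : Type*} [Field F]
variable {Q : QuadraticForm F (ι → F)}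

open Cfsg.Agent.S5016 in
/-- opposite lines: the two Siegel groups are the unipotent subgroups of an embedded `SL₂(F)` -/
theorem sl2pair_of_gram (hQ : (polarBilin Q).Nondegenerate) {p r p' r' : ι → F}
    (hL : IsL Q p r) (hL' : IsL Q p' r') (h1 : polar ⇑Q p p' = 1) (h2 : polar ⇑Q p r' = 0)
    (h3 : polar ⇑Q r p' = 0) (h4 : polar ⇑Q r r' = 1) :
    SL2Pair F (Tp Q p r) (Tp Q p' r') := by
  have hp := hL.q1
  have hr := hL.q2
  have hp' := hL'.q1
  have hr' := hL'.q2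
  have hpr := hL.polar
  have hpr' := hL'.polar
  have g1 : polar ⇑Q p' p = 1 := by rw [polar_comm]; exact h1
  have g2 : polar ⇑Q r' p = 0 := by rw [polar_comm]; exact h2
  have g3 : polar ⇑Q p' r = 0 := by rw [polar_comm]; exact h3
  have g4 : polar ⇑Q r' r = 1 := by rw [polar_comm]; exact h4
  have hrp : polar ⇑Q r p = 0 := by rw [polar_comm]; exact hpr
  have hr'p' : polar ⇑Q r' p' = 0 := by rw [polar_comm]; exact hpr'
  have hpp := polar_self_zero hp
  have hrr := polar_self_zero hr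
  have hp'p' := polar_self_zero hp'
  have hr'r' := polar_self_zero hr'
  have hd1 : rowMat (polarVec ⇑Q r') (polarVec ⇑Q p) * colMat r p' = 1 := by
    apply rowMat_mul_colMat
    · rw [polarVec_dotProduct]; exact g4
    · rw [polarVec_dotProduct]; exact hr'p'
    · rw [polarVec_dotProduct]; exact hpr
    · rw [polarVec_dotProduct]; exact h1
  have hd2 : rowMat (polarVec ⇑Q p') (polarVec ⇑Q (-r)) * colMat p (-r') = 1 := by
    apply rowMat_mul_colMat
    · rw [polarVec_dotProduct]; exact g1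
    · rw [polarVec_dotProduct, polar_neg_right, hpr', neg_zero]
    · rw [polarVec_dotProduct, polar_neg_left, hrp, neg_zero]
    · rw [polarVec_dotProduct, polar_neg_left, polar_neg_right, neg_neg]; exact h4
  have hc12 : rowMat (polarVec ⇑Q r') (polarVec ⇑Q p) * colMat p (-r') = 0 := by
    apply rowMat_mul_colMat_zero
    · rw [polarVec_dotProduct]; exact g2
    · rw [polarVec_dotProduct, polar_neg_right, hr'r', neg_zero]
    · rw [polarVec_dotProduct]; exact hpp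
    · rw [polarVec_dotProduct, polar_neg_right, h2, neg_zero]
  have hc21 : rowMat (polarVec ⇑Q p') (polarVec ⇑Q (-r)) * colMat r p' = 0 := by
    apply rowMat_mul_colMat_zero
    · rw [polarVec_dotProduct]; exact g3
    · rw [polarVec_dotProduct]; exact hp'p'
    · rw [polarVec_dotProduct, polar_neg_left, hrr, neg_zero]
    · rw [polarVec_dotProduct, polar_neg_left, h3, neg_zero]
  obtain ⟨f₁, hf₁⟩ : ∃ f : Matrix.SpecialLinearGroup (Fin 2) F →* Matrix.GeneralLinearGroup ι F,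
      f = Matrix.SpecialLinearGroup.toGL.comp (emb r p' _ _ hd1) := ⟨_, rfl⟩
  obtain ⟨f₂, hf₂⟩ : ∃ f : Matrix.SpecialLinearGroup (Fin 2) F →* Matrix.GeneralLinearGroup ι F,
      f = Matrix.SpecialLinearGroup.toGL.comp (emb p (-r') _ _ hd2) := ⟨_, rfl⟩
  have hf₁v : ∀ M, ((f₁ M : Matrix.GeneralLinearGroup ι F) : Matrix ι ι F) =
      embMat r p' (polarVec ⇑Q r') (polarVec ⇑Q p) M.1 := by
    intro M
    rw [hf₁]
    rfl
  have hf₂v : ∀ M, ((f₂ M : Matrix.GeneralLinearGroup ι F) : Matrix ι ι F) =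
      embMat p (-r') (polarVec ⇑Q p') (polarVec ⇑Q (-r)) M.1 := by
    intro M
    rw [hf₂]
    rfl
  have hcomm : ∀ M N, f₁ M * f₂ N = f₂ N * f₁ M := by
    intro M N
    apply Units.ext
    rw [Units.val_mul, Units.val_mul, hf₁v, hf₂v]
    unfold embMat
    rw [two_emb_mul _ _ _ _ hc12, two_emb_mul _ _ _ _ hc21]
    abel
  obtain ⟨φ₀, hφ₀⟩ : ∃ φ₀ : Matrix.SpecialLinearGroup (Fin 2) F →* Matrix.GeneralLinearGroup ι F,
      ∀ M, φ₀ M = f₁ M * f₂ M :=
    ⟨{ toFun := fun M => f₁ M * f₂ M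
       map_one' := by rw [map_one, map_one, one_mul]
       map_mul' := fun M N => by
        rw [map_mul, map_mul]
        calc f₁ M * f₁ N * (f₂ M * f₂ N) = f₁ M * (f₁ N * f₂ M) * f₂ N := by
              simp only [mul_assoc]
          _ = f₁ M * (f₂ M * f₁ N) * f₂ N := by rw [hcomm]
          _ = f₁ M * f₂ M * (f₁ N * f₂ N) := by simp only [mul_assoc] }, fun M => rfl⟩
  have hφv : ∀ M, ((φ₀ M : Matrix.GeneralLinearGroup ι F) : Matrix ι ι F) =
      1 + colMat r p' * (M.1 - 1) * rowMat (polarVec ⇑Q r') (polarVec ⇑Q p) +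
        colMat p (-r') * (M.1 - 1) * rowMat (polarVec ⇑Q p') (polarVec ⇑Q (-r)) := by
    intro M
    rw [hφ₀, Units.val_mul, hf₁v, hf₂v]
    unfold embMat
    exact two_emb_mul _ _ _ _ hc12 _ _
  have hU : ∀ t, ((φ₀ (Um t) : Matrix.GeneralLinearGroup ι F) : Matrix ι ι F) =
      siegelMatrix ⇑Q p r t := by
    intro t
    rw [hφ₀, Units.val_mul, hf₁v, hf₂v, Um_val, embMat_upper, embMat_upper, ext_iff_mulVec]
    intro x
    rw [← mulVec_mulVec, tv_mulVec, tv_mulVec, siegelMatrix_mulVec]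
    simp only [polarVec_dotProduct, polar_add_right, polar_smul_right, polar_neg_left, hpp,
      smul_eq_mul, mul_zero, add_zero]
    module
  have hLw : ∀ t, ((φ₀ (Lm t) : Matrix.GeneralLinearGroup ι F) : Matrix ι ι F) =
      siegelMatrix ⇑Q r' p' t := by
    intro t
    rw [hφ₀, Units.val_mul, hf₁v, hf₂v, Lm_val, embMat_lower, embMat_lower, ext_iff_mulVec]
    intro x
    rw [← mulVec_mulVec, tv_mulVec, tv_mulVec, siegelMatrix_mulVec]
    simp only [polarVec_dotProduct, polar_add_right, polar_smul_right, polar_neg_right, hr'r',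
      smul_eq_mul, mul_zero, neg_zero, add_zero]
    module
  have hmem : ∀ M, φ₀ M ∈ isometryGroup F ⇑Q := by
    have h5 : (⊤ : Subgroup (Matrix.SpecialLinearGroup (Fin 2) F)) ≤
        (isometryGroup F ⇑Q).comap φ₀ := by
      rw [← sup_eq_top (k := F), sup_le_iff]
      constructor
      · intro M hM
        obtain ⟨t, rfl⟩ := mem_lower.1 hM
        show φ₀ (Lm t) ∈ isometryGroup F ⇑Q
        rw [Cfsg.Agent.Lib.Helper5.OrthCard.mem_isometryGroup_iff]
        intro v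
        rw [hLw]
        exact siegel_preserves Q r' p' hr' hp' hr'p' t v
      · intro M hM
        obtain ⟨t, rfl⟩ := mem_upper.1 hM
        show φ₀ (Um t) ∈ isometryGroup F ⇑Q
        rw [Cfsg.Agent.Lib.Helper5.OrthCard.mem_isometryGroup_iff]
        intro v
        rw [hU]
        exact siegel_preserves Q p r hp hr hpr t v
    exact fun M => h5 (Subgroup.mem_top M)
  have hs : ∀ M : Matrix.SpecialLinearGroup (Fin 2) F,
      rowMat (polarVec ⇑Q r') (polarVec ⇑Q p) *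
        ((φ₀ M : Matrix.GeneralLinearGroup ι F) : Matrix ι ι F) * colMat r p' = M.1 := by
    intro M
    rw [hφv, sandwich _ _ _ _ hd1 hc12]
    abel
  have hφU : ∀ t, φ₀.codRestrict (isometryGroup F ⇑Q) hmem (Um t) = siegel Q p r hp hr hpr t :=
    fun t => Subtype.ext (Units.ext (hU t))
  have hφL : ∀ t, φ₀.codRestrict (isometryGroup F ⇑Q) hmem (Lm t) =
      siegel Q r' p' hr' hp' hr'p' t :=
    fun t => Subtype.ext (Units.ext (hLw t))
  refine ⟨φ₀.codRestrict (isometryGroup F ⇑Q) hmem, ?_, ?_, ?_⟩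
  · intro M N hMN
    have h5 : φ₀ M = φ₀ N := congrArg Subtype.val hMN
    apply Subtype.ext
    rw [← hs M, ← hs N, h5]
  · ext x
    constructor
    · rintro ⟨M, hM, rfl⟩
      obtain ⟨t, rfl⟩ := mem_upper.1 hM
      rw [hφU t]
      exact (mem_Tp_iff hQ hL).2 ⟨t, rfl⟩
    · intro hx
      obtain ⟨c, rfl⟩ := (mem_Tp_iff hQ hL).1 hx
      exact ⟨Um c, mem_upper.2 ⟨c, rfl⟩, hφU c⟩
  · rw [Tp_swap r' p']
    ext x
    constructor
    · rintro ⟨M, hM, rfl⟩
      obtain ⟨t, rfl⟩ := mem_lower.1 hM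
      rw [hφL t]
      exact (mem_Tp_iff hQ hL'.swap).2 ⟨t, rfl⟩
    · intro hx
      obtain ⟨c, rfl⟩ := (mem_Tp_iff hQ hL'.swap).1 hx
      exact ⟨Lm c, mem_lower.2 ⟨c, rfl⟩, hφL c⟩

/-- the trichotomy for two Siegel transvection groups -/
theorem tri (hQ : (polarBilin Q).Nondegenerate) {p r p' r' : ι → F}
    (hL : IsL Q p r) (hL' : IsL Q p' r') :
    (∀ a ∈ Tp Q p r, ∀ b ∈ Tp Q p' r', a * b = b * a) ∨ SL2Pair F (Tp Q p r) (Tp Q p' r') ∨
      RootCommutatorCase (Sig Q) (Tp Q p r) (Tp Q p' r') := by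
  by_cases h0 : polar ⇑Q p p' = 0 ∧ polar ⇑Q p r' = 0 ∧ polar ⇑Q r p' = 0 ∧ polar ⇑Q r r' = 0
  · left
    exact comm_of_perp hQ hL' h0.1 h0.2.1 h0.2.2.1 h0.2.2.2
  · obtain ⟨p₁, r₁, p₁', r₁', g1, g2, g3, g4, e1, e2, e3⟩ := nf hL hL' h0
    rw [← g3, ← g4]
    by_cases hε : polar ⇑Q r₁ r₁' = 0
    · by_cases hli : LinearIndependent F ![r₁, r₁']
      · right; right
        exact commCase hQ g1 g2 e1 e2 e3 hε hli
      · left
        rw [LinearIndependent.pair_iff' g1.ne_zero_right] at hli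
        push Not at hli
        obtain ⟨l, hl⟩ := hli
        exact comm_of_meet hQ g1 g2 e1 e2 e3 hε hl
    · right; left
      obtain ⟨ε, hε'⟩ : ∃ ε, ε = polar ⇑Q r₁ r₁' := ⟨_, rfl⟩
      rw [← hε'] at hε
      have d : (1 : F) * ε⁻¹ ≠ 0 * 0 := by
        rw [one_mul, zero_mul]
        exact inv_ne_zero hε
      rw [← Tp_change p₁ r₁ d]
      apply sl2pair_of_gram hQ (g1.change d) g2
      · simp only [polar_add_left, polar_smul_left, smul_eq_mul, e1, e3]
        ring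
      · simp only [polar_add_left, polar_smul_left, smul_eq_mul, e2, ← hε']
        ring
      · simp only [polar_add_left, polar_smul_left, smul_eq_mul, e1, e3]
        ring
      · simp only [polar_add_left, polar_smul_left, smul_eq_mul, e2, ← hε']
        field_simp
        ring

end emb

end Cfsg.Agent.Lib.Helper8.Sg
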