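import Mathlib
import Cfsg.Agent.Lib.Helper8.Sg3
import Cfsg.Agent.Lib.Helper5.PlusGeom

set_option autoImplicit false

namespace Cfsg.Agent.Lib.Helper8.Sg

open Matrix Cfsg QuadraticMap
open Cfsg.Agent.Lib.Helper5.CartanDieudonne Cfsg.Agent.Lib.Helper5.Refl
  Cfsg.Agent.Lib.Helper5.Siegel Cfsg.Agent.Lib.Helper5.QuadIsom
open Cfsg.Agent.Lib.Helper4.RankOneGrp
open Cfsg.Agent.Lib.Helper8.Rs Cfsg.Agent.Lib.Helper8.Xf
open Cfsg.Agent.Lib.Helper5 Cfsg.Agent.Lib.Helper5.PlusGeom

section gen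
variable {ι : Type} [Fintype ι] [DecidableEq ι] {F : Type*} [Field F]
variable {Q : QuadraticForm F (ι → F)}

theorem li_of_dual {n : ℕ} (v w : Fin n → ι → F)
    (h : ∀ i j, polar ⇑Q (v i) (w j) = if i = j then 1 else 0) : LinearIndependent F v := by
  rw [Fintype.linearIndependent_iff]
  intro c hc j
  have := congrArg (fun y => (polarBilin Q).flip (w j) y) hc
  simpa only [map_sum, map_smul, LinearMap.flip_apply, polarBilin_apply_apply, smul_eq_mul,
    map_zero, h, mul_ite, mul_one, mul_zero, Finset.sum_ite_eq', Finset.sum_ite_eq,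
    Finset.mem_univ, if_true] using this

theorem li_of_gram {p r x y : ι → F} (h1 : polar ⇑Q p x = 1) (h2 : polar ⇑Q p y = 0)
    (h3 : polar ⇑Q r x = 0) (h4 : polar ⇑Q r y = 1) : LinearIndependent F ![x, y] := by
  rw [LinearIndependent.pair_iff]
  intro s t hst
  have e1 := congrArg (fun z => polar ⇑Q p z) hst
  have e2 := congrArg (fun z => polar ⇑Q r z) hst
  simp only [polar_add_right, polar_smul_right, h1, h2, h3, h4, smul_eq_mul, mul_one, mul_zero,
    add_zero, zero_add] at e1 e2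
  constructor
  · rw [e1]; simp [QuadraticMap.polar]
  · rw [e2]; simp [QuadraticMap.polar]

theorem IsL.smul_right {p r : ι → F} (h : IsL Q p r) {c : F} (hc : c ≠ 0) : IsL Q p (c • r) := by
  have d : (1 : F) * c ≠ 0 * 0 := by rw [one_mul, zero_mul]; exact hc
  have := h.change d
  simpa using this

theorem Tp_smul_right (p r : ι → F) {c : F} (hc : c ≠ 0) : Tp Q p (c • r) = Tp Q p r := by
  have d : (1 : F) * c ≠ 0 * 0 := by rw [one_mul, zero_mul]; exact hc
  have := Tp_change (Q := Q) p r d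
  simpa using this

end gen

section std
variable (F : Type*) [Field F] (n : ℕ)

/-- standard basis vectors `e_i` -/
def eS (i : Fin n) : Fin n ⊕ Fin n → F := Pi.single (Sum.inl i) 1

/-- standard basis vectors `f_i` -/
def fS (i : Fin n) : Fin n ⊕ Fin n → F := Pi.single (Sum.inr i) 1

theorem polar_e_f (i j : Fin n) :
    polar ⇑(plusForm n F) (eS F n i) (fS F n j) = if i = j then 1 else 0 := by
  unfold fS
  rw [polar_single_inr]
  unfold eS
  rw [Pi.single_apply]
  simp [eq_comm]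

theorem polar_f_e (i j : Fin n) :
    polar ⇑(plusForm n F) (fS F n i) (eS F n j) = if i = j then 1 else 0 := by
  unfold eS
  rw [polar_single_inl]
  unfold fS
  rw [Pi.single_apply]
  simp [eq_comm]

theorem polar_e_e (i j : Fin n) : polar ⇑(plusForm n F) (eS F n i) (eS F n j) = 0 := by
  unfold eS
  rw [polar_single_inl, Pi.single_apply]
  simp

theorem polar_f_f (i j : Fin n) : polar ⇑(plusForm n F) (fS F n i) (fS F n j) = 0 := by
  unfold fS
  rw [polar_single_inr, Pi.single_apply]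
  simp

theorem q_e (i : Fin n) : plusForm n F (eS F n i) = 0 := plus_single_inl n i 1

theorem q_f (i : Fin n) : plusForm n F (fS F n i) = 0 := plus_single_inr n i 1

variable {F} {n}

/-- two lines through a common point, spanning a 3-space, have a common opposite line -/
theorem common_opp {i j l : Fin n} (hij : i ≠ j) (hil : i ≠ l) (hjl : j ≠ l)
    {z a b : Fin n ⊕ Fin n → F} (hL : IsL (plusForm n F) z a) (hL' : IsL (plusForm n F) z b)
    (hli : LinearIndependent F ![b, z, a]) :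
    ∃ C ∈ Sig (plusForm n F), SL2Pair F (Tp (plusForm n F) z a) C ∧
      SL2Pair F (Tp (plusForm n F) z b) C := by
  have hQ : (polarBilin (plusForm n F)).Nondegenerate := plus_nondegenerate n
  obtain ⟨β, hβ⟩ : ∃ β, β = polar ⇑(plusForm n F) b a := ⟨_, rfl⟩
  have hji := hij.symm
  have hli' := hil.symm
  have hlj := hjl.symm
  -- the model
  obtain ⟨z₀, hz₀⟩ : ∃ z₀, z₀ = eS F n i := ⟨_, rfl⟩
  obtain ⟨a₀, ha₀⟩ : ∃ a₀, a₀ = eS F n j := ⟨_, rfl⟩
  obtain ⟨b₀, hb₀⟩ : ∃ b₀, b₀ = β • fS F n j + eS F n l := ⟨_, rfl⟩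
  obtain ⟨X₀, hX₀⟩ : ∃ X₀, X₀ = fS F n i := ⟨_, rfl⟩
  obtain ⟨Y₀, hY₀⟩ : ∃ Y₀, Y₀ = fS F n j + fS F n l := ⟨_, rfl⟩
  have qz₀ : plusForm n F z₀ = 0 := by rw [hz₀]; exact q_e F n i
  have qa₀ : plusForm n F a₀ = 0 := by rw [ha₀]; exact q_e F n j
  have qb₀ : plusForm n F b₀ = 0 := by
    rw [hb₀]
    have := quad_add_two (plusForm n F) 0 (fS F n j) (eS F n l) β 1
    rw [zero_add, one_smul] at this
    rw [this, q_f, q_e, polar_f_e, if_neg hjl]
    simp [QuadraticMap.polar]
  have qX₀ : plusForm n F X₀ = 0 := by rw [hX₀]; exact q_f F n i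
  have qY₀ : plusForm n F Y₀ = 0 := by
    rw [hY₀]
    exact quad_add_of_polar (q_f F n j) (q_f F n l) (polar_f_f F n j l)
  have m1 : polar ⇑(plusForm n F) z₀ X₀ = 1 := by rw [hz₀, hX₀, polar_e_f, if_pos rfl]
  have m2 : polar ⇑(plusForm n F) z₀ Y₀ = 0 := by
    rw [hz₀, hY₀, polar_add_right, polar_e_f, polar_e_f, if_neg hij, if_neg hil, add_zero]
  have m3 : polar ⇑(plusForm n F) a₀ X₀ = 0 := by rw [ha₀, hX₀, polar_e_f, if_neg hji]
  have m4 : polar ⇑(plusForm n F) a₀ Y₀ = 1 := by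
    rw [ha₀, hY₀, polar_add_right, polar_e_f, polar_e_f, if_pos rfl, if_neg hjl, add_zero]
  have m5 : polar ⇑(plusForm n F) b₀ X₀ = 0 := by
    rw [hb₀, hX₀, polar_add_left, polar_smul_left, polar_f_f, polar_e_f, if_neg hli', smul_zero,
      add_zero]
  have m6 : polar ⇑(plusForm n F) b₀ Y₀ = 1 := by
    rw [hb₀, hY₀, polar_add_left, polar_smul_left, polar_add_right, polar_add_right, polar_f_f,
      polar_f_f, polar_e_f, polar_e_f, if_neg hlj, if_pos rfl]
    simp
  have m7 : polar ⇑(plusForm n F) X₀ Y₀ = 0 := by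
    rw [hX₀, hY₀, polar_add_right, polar_f_f, polar_f_f, add_zero]
  have m8 : polar ⇑(plusForm n F) b₀ z₀ = 0 := by
    rw [hb₀, hz₀, polar_add_left, polar_smul_left, polar_f_e, polar_e_e, if_neg hji]
    simp
  have m9 : polar ⇑(plusForm n F) b₀ a₀ = β := by
    rw [hb₀, ha₀, polar_add_left, polar_smul_left, polar_f_e, polar_e_e, if_pos rfl]
    simp
  have m10 : polar ⇑(plusForm n F) z₀ a₀ = 0 := by rw [hz₀, ha₀, polar_e_e]
  -- independence of the model triple
  have hx : LinearIndependent F ![b₀, z₀, a₀] := by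
    apply li_of_dual (Q := plusForm n F) ![b₀, z₀, a₀] ![fS F n l, fS F n i, fS F n j]
    intro s t
    fin_cases s <;> fin_cases t <;>
      simp [hb₀, hz₀, ha₀, polar_add_left, polar_smul_left, polar_f_f, polar_e_f, hij, hil, hjl,
        hji, hli', hlj, q_f, q_e]
  have hzb : polar ⇑(plusForm n F) z b = 0 := hL'.polar
  have hza : polar ⇑(plusForm n F) z a = 0 := hL.polar
  have c1 : ∀ u v : Fin n ⊕ Fin n → F, polar ⇑(plusForm n F) u v = polar ⇑(plusForm n F) v u :=
    fun u v => polar_comm _ u v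
  obtain ⟨g, hg, hgx⟩ := witt_family (plusForm n F) hQ 3 ![b₀, z₀, a₀] ![b, z, a] hx hli
    (by
      intro s
      fin_cases s
      · simp [qb₀, hL'.q2]
      · simp [qz₀, hL.q1]
      · simp [qa₀, hL.q2])
    (by
      intro s t
      fin_cases s <;> fin_cases t <;>
        simp [polar_self_zero qb₀, polar_self_zero qz₀, polar_self_zero qa₀, polar_self_zero hL.q1,
          polar_self_zero hL.q2, polar_self_zero hL'.q2, m8, m9, m10, c1 z₀ b₀, c1 a₀ b₀, c1 a₀ z₀,
          hzb, hza, c1 b z, c1 a z, c1 a b, ← hβ])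
  have gb : g b₀ = b := by have := hgx 0; simpa using this
  have gz : g z₀ = z := by have := hgx 1; simpa using this
  have ga : g a₀ = a := by have := hgx 2; simpa using this
  have hpol : ∀ u v, polar ⇑(plusForm n F) (g u) (g v) = polar ⇑(plusForm n F) u v :=
    fun u v => polar_of_isom (plusForm n F) (g : (Fin n ⊕ Fin n → F) →ₗ[F] (Fin n ⊕ Fin n → F)) hg u v
  have k1 : polar ⇑(plusForm n F) z (g X₀) = 1 := by rw [← gz, hpol, m1]
  have k2 : polar ⇑(plusForm n F) z (g Y₀) = 0 := by rw [← gz, hpol, m2]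
  have k3 : polar ⇑(plusForm n F) a (g X₀) = 0 := by rw [← ga, hpol, m3]
  have k4 : polar ⇑(plusForm n F) a (g Y₀) = 1 := by rw [← ga, hpol, m4]
  have k5 : polar ⇑(plusForm n F) b (g X₀) = 0 := by rw [← gb, hpol, m5]
  have k6 : polar ⇑(plusForm n F) b (g Y₀) = 1 := by rw [← gb, hpol, m6]
  have k7 : polar ⇑(plusForm n F) (g X₀) (g Y₀) = 0 := by rw [hpol, m7]
  have hXY : IsL (plusForm n F) (g X₀) (g Y₀) :=
    ⟨li_of_gram k1 k2 k3 k4, by rw [hg, qX₀], by rw [hg, qY₀],
      quad_add_of_polar (by rw [hg, qX₀]) (by rw [hg, qY₀]) k7⟩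
  refine ⟨Tp (plusForm n F) (g X₀) (g Y₀), (mem_Sig _).2 ⟨_, _, hXY, rfl⟩, ?_, ?_⟩
  · exact sl2pair_of_gram hQ hL hXY k1 k2 k3 k4
  · exact sl2pair_of_gram hQ hL' hXY k1 k2 k5 k6

theorem mem_Sig_of {Q : QuadraticForm F (Fin n ⊕ Fin n → F)} {p r : Fin n ⊕ Fin n → F}
    (h : IsL Q p r) : Tp Q p r ∈ Sig Q := (mem_Sig Q).2 ⟨p, r, h, rfl⟩

/-- two lines through a common point are connected in the graph of opposite lines -/
theorem conn_share {i j l : Fin n} (hij : i ≠ j) (hil : i ≠ l) (hjl : j ≠ l)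
    {z a b : Fin n ⊕ Fin n → F} (hL : IsL (plusForm n F) z a) (hL' : IsL (plusForm n F) z b) :
    Relation.ReflTransGen (FAdj (Sig (plusForm n F))) (Tp (plusForm n F) z a)
      (Tp (plusForm n F) z b) := by
  by_cases hli : LinearIndependent F ![b, z, a]
  · obtain ⟨C, hC, h1, h2⟩ := common_opp hij hil hjl hL hL' hli
    exact Relation.ReflTransGen.head ⟨mem_Sig_of hL, hC, h1.rankOne.1⟩
      (Relation.ReflTransGen.single ⟨hC, mem_Sig_of hL', RankOnePair_symm h2.rankOne.1⟩)
  · have h1 : b ∈ Submodule.span F (Set.range ![z, a]) := by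
      by_contra hb
      apply hli
      have : LinearIndependent F (Fin.cons b ![z, a] : Fin 3 → Fin n ⊕ Fin n → F) :=
        linearIndependent_finCons.2 ⟨hL.li, hb⟩
      exact this
    have h2 : Set.range ![z, a] = {z, a} := by
      ext x
      simp only [Set.mem_range, Set.mem_insert_iff, Set.mem_singleton_iff]
      constructor
      · rintro ⟨y, rfl⟩
        fin_cases y
        · left; rfl
        · right; rfl
      · rintro (rfl | rfl)
        · exact ⟨0, rfl⟩
        · exact ⟨1, rfl⟩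
    rw [h2, Submodule.mem_span_pair] at h1
    obtain ⟨s, t, hst⟩ := h1
    have ht : t ≠ 0 := by
      rintro rfl
      rw [zero_smul, add_zero] at hst
      have := (LinearIndependent.pair_iff' hL'.ne_zero_left).1 hL'.li s
      exact this hst
    have d : (1 : F) * t ≠ 0 * s := by rw [one_mul, zero_mul]; exact ht
    have h3 := Tp_change (Q := plusForm n F) z a d
    rw [one_smul, zero_smul, add_zero, hst] at h3
    rw [h3]

/-- a basis of the second line whose first vector is perpendicular to `p` -/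
theorem exists_perp_basis {Q : QuadraticForm F (Fin n ⊕ Fin n → F)}
    (p : Fin n ⊕ Fin n → F) {p' r' : Fin n ⊕ Fin n → F} (hL' : IsL Q p' r') :
    ∃ z' w', IsL Q z' w' ∧ Tp Q z' w' = Tp Q p' r' ∧ polar ⇑Q p z' = 0 := by
  by_cases hβ : polar ⇑Q p r' = 0
  · exact ⟨r', p', hL'.swap, Tp_swap p' r', hβ⟩
  · have d : (1 : F) * 1 ≠ (-(polar ⇑Q p p' / polar ⇑Q p r')) * 0 := by
      rw [mul_one, mul_zero]
      exact one_ne_zero
    refine ⟨_, _, hL'.change d, Tp_change p' r' d, ?_⟩
    rw [polar_add_right, polar_smul_right, polar_smul_right, smul_eq_mul, smul_eq_mul]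
    field_simp
    ring

/-- the graph of opposite lines is connected -/
theorem conn {i j l : Fin n} (hij : i ≠ j) (hil : i ≠ l) (hjl : j ≠ l) :
    IsConnectedFamily (FAdj (Sig (plusForm n F))) (Sig (plusForm n F)) := by
  intro A hA B hB
  rw [mem_Sig] at hA hB
  obtain ⟨p, r, hL, rfl⟩ := hA
  obtain ⟨p', r', hL', rfl⟩ := hB
  obtain ⟨z', w', hLz, hT, hpz⟩ := exists_perp_basis p hL'
  rw [← hT]
  by_cases hli : LinearIndependent F ![p, z']
  · have hLpz : IsL (plusForm n F) p z' :=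
      ⟨hli, hL.q1, hLz.q1, quad_add_of_polar hL.q1 hLz.q1 hpz⟩
    have h1 := conn_share hij hil hjl hL hLpz
    have h2 := conn_share hij hil hjl hLpz.swap hLz
    rw [Tp_swap p z'] at h2
    exact h1.trans h2
  · rw [LinearIndependent.pair_iff' hL.ne_zero_left] at hli
    push Not at hli
    obtain ⟨c, hc⟩ := hli
    have hc0 : c ≠ 0 := by
      rintro rfl
      rw [zero_smul] at hc
      exact hLz.ne_zero_left hc.symm
    have d : c⁻¹ * 1 ≠ 0 * 0 := by
      rw [mul_one, zero_mul]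
      exact inv_ne_zero hc0
    have e : c⁻¹ • z' + (0 : F) • w' = p := by
      rw [← hc, smul_smul, inv_mul_cancel₀ hc0, one_smul, zero_smul, add_zero]
    have e' : (0 : F) • z' + (1 : F) • w' = w' := by rw [zero_smul, one_smul, zero_add]
    have h1 := hLz.change d
    have h2 := Tp_change (Q := plusForm n F) z' w' d
    rw [e, e'] at h1 h2
    rw [← h2]
    exact conn_share hij hil hjl hL h1

end std

end Cfsg.Agent.Lib.Helper8.Sg
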