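import Mathlib
import Cfsg.Agent.Lib.Helper8.Sg4

set_option autoImplicit false

namespace Cfsg.Agent.Lib.Helper8.Sg

open Cfsg
open Cfsg.Agent.Lib.Helper8.Rs Cfsg.Agent.Lib.Helper4.RankOneGrp Cfsg.Agent.Lib.Helper4.RootSub
open Cfsg.Agent.Lib.Helper4.RootSub3 Cfsg.Agent.Lib.Helper8.Xf
open scoped commutatorElement

section transfer

variable {G : Type*} [Group G]

theorem commutator_subgroupOf {K A B : Subgroup G} (hA : A ≤ K) (hB : B ≤ K) :
    ⁅A.subgroupOf K, B.subgroupOf K⁆ = (⁅A, B⁆).subgroupOf K := by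
  have h1 : (⁅A.subgroupOf K, B.subgroupOf K⁆).map K.subtype = ⁅A, B⁆ := by
    rw [Subgroup.map_commutator, Subgroup.map_subgroupOf_eq_of_le hA,
      Subgroup.map_subgroupOf_eq_of_le hB]
  rw [← h1]
  exact (Subgroup.comap_map_eq_self_of_injective K.subtype_injective _).symm

theorem commCase_restrict {S₀ : Set (Subgroup G)} {K : Subgroup G} (hle : ∀ A ∈ S₀, A ≤ K)
    {A B : Subgroup G} (hA : A ∈ S₀) (hB : B ∈ S₀) (h : RootCommutatorCase S₀ A B) :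
    RootCommutatorCase ((fun A : Subgroup G => A.subgroupOf K) '' S₀) (A.subgroupOf K)
      (B.subgroupOf K) := by
  have hAK := hle A hA
  have hBK := hle B hB
  have key := commutator_subgroupOf hAK hBK
  have hmap : (⁅A.subgroupOf K, B.subgroupOf K⁆).map K.subtype = ⁅A, B⁆ := by
    rw [Subgroup.map_commutator, Subgroup.map_subgroupOf_eq_of_le hAK,
      Subgroup.map_subgroupOf_eq_of_le hBK]
  obtain ⟨h1, h2, h3, h4⟩ := h
  refine ⟨⟨⁅A, B⁆, h1, key.symm⟩, ?_, ?_, ?_⟩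
  · intro c hc x hx
    rw [key, Subgroup.mem_subgroupOf] at hc
    have hx' : (x : G) ∈ A ⊔ B := by
      have := Subgroup.mem_map_of_mem K.subtype hx
      rwa [Subgroup.map_sup, Subgroup.map_subgroupOf_eq_of_le hAK,
        Subgroup.map_subgroupOf_eq_of_le hBK] at this
    exact Subtype.ext (h2 _ hc _ hx')
  · intro a ha ha1
    have ha' : (a : G) ∈ A := ha
    have ha1' : (a : G) ≠ 1 := fun h0 => ha1 (Subtype.ext h0)
    apply Subgroup.map_injective K.subtype_injective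
    rw [hmap, MonoidHom.map_closure, ← h3 _ ha' ha1']
    congr 1
    ext y
    constructor
    · rintro ⟨_, ⟨b, hb, rfl⟩, rfl⟩
      exact ⟨(b : G), hb, rfl⟩
    · rintro ⟨b, hb, rfl⟩
      exact ⟨_, ⟨⟨b, hBK hb⟩, hb, rfl⟩, rfl⟩
  · intro b hb hb1
    have hb' : (b : G) ∈ B := hb
    have hb1' : (b : G) ≠ 1 := fun h0 => hb1 (Subtype.ext h0)
    apply Subgroup.map_injective K.subtype_injective
    rw [hmap, MonoidHom.map_closure, ← h4 _ hb' hb1']
    congr 1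
    ext y
    constructor
    · rintro ⟨_, ⟨a, ha, rfl⟩, rfl⟩
      exact ⟨(a : G), ha, rfl⟩
    · rintro ⟨a, ha, rfl⟩
      exact ⟨_, ⟨⟨a, hAK ha⟩, ha, rfl⟩, rfl⟩

variable (L : Type*) [Field L] (S₀ : Set (Subgroup G)) (K : Subgroup G)

theorem rootSet3 (hle : ∀ A ∈ S₀, A ≤ K) (hgen : K ≤ ⨆ B ∈ S₀, B)
    (hcomm : ∀ A ∈ S₀, ∀ x ∈ A, ∀ y ∈ A, x * y = y * x)
    (hbot : ∀ A ∈ S₀, A ≠ ⊥)
    (hconj : ∀ A ∈ S₀, ∀ g : G, conjBy A g ∈ S₀)
    (hpair : ∀ A ∈ S₀, ∀ B ∈ S₀, (∀ a ∈ A, ∀ b ∈ B, a * b = b * a) ∨ SL2Pair L A B ∨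
      RootCommutatorCase S₀ A B) :
    IsRootSubgroupSet ((fun A : Subgroup G => A.subgroupOf K) '' S₀) where
  commutative := by
    rintro _ ⟨A, hA, rfl⟩
    exact Cfsg.Agent.S5016.isMulComm_of _
      (fun x hx y hy => Subtype.ext (hcomm A hA x hx y hy))
  ne_bot := by
    rintro _ ⟨A, hA, rfl⟩ h0
    replace h0 : A.subgroupOf K = ⊥ := h0
    apply hbot A hA
    rw [eq_bot_iff]
    intro x hx
    have h1 : (⟨x, hle A hA hx⟩ : ↥K) ∈ A.subgroupOf K := hx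
    rw [h0, Subgroup.mem_bot] at h1
    exact Subgroup.mem_bot.2 (congrArg Subtype.val h1)
  generates := by
    rw [eq_top_iff]
    intro x _
    obtain ⟨T, hT⟩ : ∃ T : Subgroup ↥K, T = ⨆ A' ∈ ((fun A : Subgroup G => A.subgroupOf K) '' S₀), A' :=
      ⟨_, rfl⟩
    rw [← hT]
    have h1 : K ≤ T.map K.subtype := by
      refine hgen.trans (iSup₂_le ?_)
      intro A hA
      have h2 : A.subgroupOf K ≤ T := by
        rw [hT]
        exact le_iSup₂ (f := fun (A' : Subgroup ↥K)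
          (_ : A' ∈ ((fun A : Subgroup G => A.subgroupOf K) '' S₀)) => A') _ ⟨A, hA, rfl⟩
      have h3 := Subgroup.map_mono (f := K.subtype) h2
      rwa [Subgroup.map_subgroupOf_eq_of_le (hle A hA)] at h3
    obtain ⟨t, ht, htx⟩ := h1 x.2
    have : t = x := Subtype.ext htx
    rwa [this] at ht
  conj_mem := by
    rintro _ ⟨A, hA, rfl⟩ g
    exact ⟨conjBy A g, hconj A hA g, (conjBy_subgroupOf K A g).symm⟩
  pair := by
    rintro _ ⟨A, hA, rfl⟩ _ ⟨B, hB, rfl⟩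
    rcases hpair A hA B hB with h | h | h
    · left
      rw [commutator_eq_bot_iff']
      exact fun a ha b hb => Subtype.ext (h a ha b hb)
    · exact Or.inr (Or.inl ((h.restrict (hle A hA) (hle B hB)).rankOne).1)
    · exact Or.inr (Or.inr (commCase_restrict hle hA hB h))

theorem main3
    (hcomm : ∀ A ∈ S₀, ∀ x ∈ A, ∀ y ∈ A, x * y = y * x)
    (hbot : ∀ A ∈ S₀, A ≠ ⊥)
    (hconj : ∀ A ∈ S₀, ∀ g : G, conjBy A g ∈ S₀)
    (hpair : ∀ A ∈ S₀, ∀ B ∈ S₀, (∀ a ∈ A, ∀ b ∈ B, a * b = b * a) ∨ SL2Pair L A B ∨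
      RootCommutatorCase S₀ A B) :
    IsKRootSubgroupSet L ((fun A : Subgroup G => A.subgroupOf (⨆ B ∈ S₀, B)) '' S₀) := by
  have hle : ∀ A ∈ S₀, A ≤ ⨆ B ∈ S₀, B :=
    fun A hA => le_iSup₂ (f := fun (B : Subgroup G) (_ : B ∈ S₀) => B) A hA
  obtain ⟨K, hK⟩ : ∃ K : Subgroup G, K = ⨆ B ∈ S₀, B := ⟨_, rfl⟩
  rw [← hK] at hle ⊢
  have hS := rootSet3 L S₀ K hle hK.le hcomm hbot hconj hpair
  refine ⟨hS, ?_⟩
  rintro _ ⟨A, hA, rfl⟩ _ ⟨B, hB, rfl⟩ hAB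
  rcases hpair A hA B hB with h | h | h
  · exact (not_commute_of_pair hAB
      (fun a ha b hb => Subtype.ext (h a ha b hb))).elim
  · exact ((h.restrict (hle A hA) (hle B hB)).rankOne).2
  · exact (not_rankOne_of_commutator_mem hS ⟨A, hA, rfl⟩ ⟨B, hB, rfl⟩
      (commCase_restrict hle hA hB h).1 hAB).elim

end transfer

section final

open Cfsg.Agent.Lib.Helper5 Cfsg.Agent.Lib.Helper5.PlusGeom

variable (F : Type*) [Field F] (m : ℕ)

theorem main_plus :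
    IsKRootSubgroupSet F ((fun A : Subgroup ↥(isometryGroup F ⇑(plusForm (m + 3) F)) =>
      A.subgroupOf (⨆ B ∈ Sig (plusForm (m + 3) F), B)) '' Sig (plusForm (m + 3) F)) ∧
    IsConnectedFamily (FAdj (Sig (plusForm (m + 3) F))) (Sig (plusForm (m + 3) F)) := by
  have hQ := plus_nondegenerate (F := F) (m + 3)
  refine ⟨main3 F (Sig (plusForm (m + 3) F)) ?_ ?_ ?_ ?_, ?_⟩
  · intro A hA x hx y hy
    obtain ⟨p, r, hL, rfl⟩ := (mem_Sig _).1 hA
    exact Tp_comm hQ hL hx hy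
  · intro A hA
    obtain ⟨p, r, hL, rfl⟩ := (mem_Sig _).1 hA
    exact Tp_ne_bot hQ hL
  · intro A hA g
    exact Sig_conj hA g
  · intro A hA B hB
    obtain ⟨p, r, hL, rfl⟩ := (mem_Sig _).1 hA
    obtain ⟨p', r', hL', rfl⟩ := (mem_Sig _).1 hB
    exact tri hQ hL hL'
  · exact conn (i := (⟨0, by omega⟩ : Fin (m + 3))) (j := ⟨1, by omega⟩) (l := ⟨2, by omega⟩)
      (by simp [Fin.ext_iff]) (by simp [Fin.ext_iff]) (by simp [Fin.ext_iff])

end final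

end Cfsg.Agent.Lib.Helper8.Sg
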