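import Mathlib
import Cfsg.Prelude.Def_Balance
import Cfsg.Agent.Lib.Helper8.SigFun3
set_option autoImplicit false
set_option linter.style.haveILetI false

namespace Cfsg.Agent.Lib.Helper8.SigFun

open Cfsg

variable {G : Type*} [Group G] {p : ℕ} {A : Subgroup G} {θ : G → Subgroup G}

theorem coprime_card_of_fam [Finite G] [hp : Fact p.Prime] (hAe : ∀ a ∈ A, a ^ p = 1)
    {H : Subgroup G} (hH : H ∈ signalizerFamily p A θ) :
    (Nat.card ↥A).Coprime (Nat.card ↥H) := by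
  have hAp : IsPGroup p ↥A := Cfsg.Agent.Lib.Helper8.Hyperplane.isPGroup_of_pow_eq_one hAe
  obtain ⟨k, hk⟩ := IsPGroup.iff_card.1 hAp
  rw [hk]
  exact Nat.Coprime.pow_left _ ((Nat.Prime.coprime_iff_not_dvd hp.out).2 hH.2.1)

theorem exists_sylow_eq_conj_inf [Finite G] [Fact p.Prime] (hA : IsElementaryAbelian p A)
    (hA3 : p ^ 3 ≤ Nat.card ↥A) (hθ : IsSolvableSignalizerFunctor p A θ) {q : ℕ} [Fact q.Prime]
    (hqp : q ≠ p) {Q : Subgroup G} (hQ : IsMaxQ p A θ q Q) {H : Subgroup G}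
    (hH : H ∈ signalizerFamily p A θ) :
    ∃ c ∈ signalizerInf A θ, ∃ S : Sylow q ↥H,
      (S : Subgroup ↥H).map H.subtype = Q.map (MulAut.conj c).toMonoidHom ⊓ H := by
  have hAH : A ≤ Subgroup.normalizer (H : Set G) := le_normalizer_of_conj_mem' hH.2.2.1
  have hcop := coprime_card_of_fam hA.2 hH
  obtain ⟨S, hS⟩ := Cfsg.Agent.Lib.Helper1.coprime_exists_invariant_sylow A H hAH hcop
    (Or.inr hH.1) q
  have hSF : (S : Subgroup H).map H.subtype ∈ signalizerFamily p A θ :=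
    fam_of_le hH (Subgroup.map_subtype_le _) (conj_mem_of_le_normalizer hS)
  obtain ⟨Q', hQ', hSQ'⟩ := exists_isMaxQ_ge hSF (S.isPGroup'.map _)
  obtain ⟨c, hc, rfl⟩ := transitivity hA hA3 hθ hqp hQ hQ'
  refine ⟨c, hc, S, ?_⟩
  have h1 : ((Q.map (MulAut.conj c).toMonoidHom ⊓ H).subgroupOf H) = S := by
    apply S.is_maximal'
    · exact ((hQ.2.1.map _).to_le inf_le_left).comap_subtype
    · intro x hx
      rw [Subgroup.mem_subgroupOf]
      exact ⟨hSQ' ⟨x, hx, rfl⟩, x.2⟩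
  rw [← h1, Subgroup.map_subgroupOf_eq_of_le inf_le_right]

theorem signalizerInf_mono {B : Subgroup G} (hBA : B ≤ A) :
    signalizerInf A θ ≤ signalizerInf B θ := by
  intro x hx
  rw [mem_signalizerInf_iff] at hx ⊢
  intro b hb hb1
  exact hx b (hBA hb) hb1

theorem signalizerInf_le_centralizer' (hθ : IsSignalizerFunctor p A θ) {B : Subgroup G}
    (hBA : B ≤ A) : signalizerInf B θ ≤ Subgroup.centralizer (B : Set G) := by
  intro x hx
  rw [Subgroup.mem_centralizer_iff]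
  intro b hb
  by_cases hb1 : b = 1
  · rw [hb1]; simp
  · have h1 := hθ.1 b (hBA hb) hb1 (mem_signalizerInf_iff.1 hx b hb hb1)
    exact (Subgroup.mem_centralizer_singleton_iff.1 h1).symm

theorem signalizerInf_mem_fam (hθ : IsSolvableSignalizerFunctor p A θ) {B : Subgroup G}
    (hBA : B ≤ A) (hB : B ≠ ⊥) : signalizerInf B θ ∈ signalizerFamily p A θ := by
  obtain ⟨b, hb, hb1⟩ := (Subgroup.bot_or_exists_ne_one _).resolve_left hB
  refine fam_of_le (theta_mem_fam hθ (hBA hb) hb1) ?_ ?_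
  · intro x hx
    exact mem_signalizerInf_iff.1 hx b hb hb1
  · intro a ha x hx
    rw [mem_signalizerInf_iff] at hx ⊢
    intro b' hb' hb'1
    exact hθ.1.2.2.1 b' (hBA hb') hb'1 a ha x (hx b' hb' hb'1)

theorem inf_centralizer_le_signalizerInf' {B : Subgroup G} (hBA : B ≤ A) {U : Subgroup G}
    (hU : U ∈ signalizerFamily p A θ) :
    U ⊓ Subgroup.centralizer (B : Set G) ≤ signalizerInf B θ := by
  intro x hx
  rw [mem_signalizerInf_iff]
  intro b hb hb1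
  refine hU.2.2.2 b (hBA hb) hb1 ⟨hx.1, ?_⟩
  exact Subgroup.centralizer_le (by simpa using hb) hx.2

theorem exists_sylow_signalizerInf [Finite G] [Fact p.Prime] (hA : IsElementaryAbelian p A)
    (hA3 : p ^ 3 ≤ Nat.card ↥A) (hθ : IsSolvableSignalizerFunctor p A θ) {q : ℕ} [Fact q.Prime]
    (hqp : q ≠ p) {Q : Subgroup G} (hQ : IsMaxQ p A θ q Q) {B : Subgroup G} (hBA : B ≤ A)
    (hB : B ≠ ⊥) :
    ∃ S : Sylow q ↥(signalizerInf B θ),
      (S : Subgroup ↥(signalizerInf B θ)).map (signalizerInf B θ).subtype =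
        Q ⊓ Subgroup.centralizer (B : Set G) := by
  have hWF := signalizerInf_mem_fam hθ hBA hB
  obtain ⟨c, hc, S, hS⟩ := exists_sylow_eq_conj_inf hA hA3 hθ hqp hQ hWF
  have hcW : c ∈ signalizerInf B θ := signalizerInf_mono hBA hc
  have hcW' : c⁻¹ ∈ signalizerInf B θ := Subgroup.inv_mem _ hcW
  refine ⟨(⟨c⁻¹, hcW'⟩ : ↥(signalizerInf B θ)) • S, ?_⟩
  have h1 := map_subtype_conj_smul (signalizerInf B θ) ⟨c⁻¹, hcW'⟩ S
    ((⟨c⁻¹, hcW'⟩ : ↥(signalizerInf B θ)) • S) Sylow.smul_def.symm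
  rw [← h1, hS]
  ext x
  constructor
  · rintro ⟨_, ⟨⟨y, hy, rfl⟩, hyW⟩, rfl⟩
    have e : (MulAut.conj c⁻¹).toMonoidHom ((MulAut.conj c).toMonoidHom y) = y := by
      simp [MulAut.conj_apply, mul_assoc]
    have hyW2 : y ∈ signalizerInf B θ := by
      have := Subgroup.mul_mem _ (Subgroup.mul_mem _ hcW' hyW) hcW
      simpa [MulAut.conj_apply, mul_assoc] using this
    change (MulAut.conj c⁻¹).toMonoidHom ((MulAut.conj c).toMonoidHom y) ∈ _
    rw [e]
    exact ⟨hy, signalizerInf_le_centralizer' hθ.1 hBA hyW2⟩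
  · rintro ⟨hxQ, hxB⟩
    have hxW : x ∈ signalizerInf B θ := inf_centralizer_le_signalizerInf' hBA hQ.1 ⟨hxQ, hxB⟩
    refine ⟨c * x * c⁻¹, ⟨⟨x, hxQ, by simp [MulAut.conj_apply]⟩, ?_⟩, ?_⟩
    · exact Subgroup.mul_mem _ (Subgroup.mul_mem _ hcW hxW) hcW'
    · simp [MulAut.conj_apply, mul_assoc]

end Cfsg.Agent.Lib.Helper8.SigFun
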