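import Mathlib
import Cfsg.Agent.Lib.Helper7.Am1

/-! Sims' theorem in local form: type-level counting lemmas. -/

set_option autoImplicit false

open Cfsg
open Cfsg.Agent.Lib.Helper3.JC
open Cfsg.Agent.Lib.Helper7.Am

namespace Cfsg.Agent.Lib.Helper8.Sm

/-- In a group `X` with a normal subgroup `N` of index `2q` (`q` prime), a subgroup containing
`N`, an element `t ∉ N` with `t² ∈ N` and an element `u ∉ N ∪ Nt` is everything. -/
theorem gen_top {X : Type*} [Group X] [Finite X] {q : ℕ} (hq : q.Prime)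
    (N : Subgroup X) [N.Normal] (hidx : N.index = 2 * q)
    {t u : X} (ht : t ∉ N) (ht2 : t * t ∈ N) (hu : u ∉ N) (hut : u * t⁻¹ ∉ N)
    (C : Subgroup X) (hNC : N ≤ C) (htC : t ∈ C) (huC : u ∈ C) : C = ⊤ := by
  classical
  set π := QuotientGroup.mk' N with hπ
  have hcard : Nat.card (X ⧸ N) = 2 * q := by rw [← Subgroup.index_eq_card, hidx]
  set Cb := C.map π with hCb
  have h1 : Nat.card Cb ∣ 2 * q := by rw [← hcard]; exact Subgroup.card_subgroup_dvd_card Cb
  have htb : π t ∈ Cb := Subgroup.mem_map_of_mem _ htC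
  have hub : π u ∈ Cb := Subgroup.mem_map_of_mem _ huC
  have hne : π t ≠ 1 := by
    intro h; exact ht ((QuotientGroup.eq_one_iff t).1 h)
  have hsq : π t * π t = 1 := by
    rw [← map_mul]; exact (QuotientGroup.eq_one_iff _).2 ht2
  have hord : orderOf (π t) = 2 := orderOf_eq_prime (by rw [pow_two]; exact hsq) hne
  have h2 : 2 ∣ Nat.card Cb := by
    have := orderOf_dvd_natCard (⟨π t, htb⟩ : Cb)
    rwa [Subgroup.orderOf_mk, hord] at this
  obtain ⟨m, hm⟩ := h2
  have hmq : m ∣ q := by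
    rw [hm] at h1; exact Nat.dvd_of_mul_dvd_mul_left two_pos h1
  rcases (Nat.dvd_prime hq).1 hmq with rfl | rfl
  · exfalso
    have hz : Subgroup.zpowers (π t) = Cb := by
      apply Subgroup.eq_of_le_of_card_ge
      · rwa [Subgroup.zpowers_le]
      · rw [Nat.card_zpowers, hord, hm]
    have hmem : π u ∈ Subgroup.zpowers (π t) := hz ▸ hub
    obtain ⟨k, hk⟩ := Subgroup.mem_zpowers_iff.1 hmem
    rcases Int.even_or_odd k with ⟨j, rfl⟩ | ⟨j, rfl⟩
    · have h1' : π u = 1 := by rw [← hk, zpow_add, ← (Commute.refl (π t)).mul_zpow, hsq, one_zpow]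
      exact hu ((QuotientGroup.eq_one_iff u).1 h1')
    · have h1' : π u = π t := by
        rw [← hk, zpow_add, zpow_mul, zpow_two, hsq, one_zpow, one_mul, zpow_one]
      apply hut
      rw [← QuotientGroup.eq_one_iff]
      show π (u * t⁻¹) = 1
      rw [map_mul, map_inv, h1', mul_inv_cancel]
  · have hCbtop : Cb = ⊤ := Subgroup.eq_top_of_card_eq _ (by rw [hm, hcard])
    have h3 : C = Subgroup.comap π Cb :=
      (Subgroup.comap_map_eq_self (by rw [QuotientGroup.ker_mk']; exact hNC)).symm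
    rw [h3, hCbtop, Subgroup.comap_top]

/-- Fixed-point counting: an element `e` with `e ^ q = 1` (`q ≥ 5` prime) normalizing a finite
`2`-group `V` and centralizing a subgroup of index at most `4` centralizes `V`. -/
theorem cent_of_small_index {G : Type*} [Group G] {q : ℕ} (hq : q.Prime) (h5 : 5 ≤ q)
    (V W : Subgroup G) [Finite ↥V] (hV2 : IsPGroup 2 ↥V) (e : G) (he : e ^ q = 1)
    (hn : ∀ g ∈ Subgroup.zpowers e, ∀ v ∈ V, g * v * g⁻¹ ∈ V)
    (hW : ∀ w ∈ W, e * w = w * e) (hidx : W.relIndex V ≤ 4) :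
    ∀ v ∈ V, e * v = v * e := by
  classical
  haveI : Fact q.Prime := ⟨hq⟩
  have hE : IsPGroup q ↥(Subgroup.zpowers e) := by
    intro g
    refine ⟨1, ?_⟩
    obtain ⟨g, hg⟩ := g
    obtain ⟨k, rfl⟩ := Subgroup.mem_zpowers_iff.1 hg
    apply Subtype.ext
    show (e ^ k) ^ (q ^ 1) = 1
    rw [pow_one, ← zpow_natCast, ← zpow_mul, mul_comm, zpow_mul, zpow_natCast, he, one_zpow]
  letI act : MulAction ↥(Subgroup.zpowers e) ↥V :=
    { smul := fun g v => ⟨(g : G) * v * (g : G)⁻¹, hn g g.2 v v.2⟩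
      one_smul := fun v => Subtype.ext (by
        show ((1 : ↥(Subgroup.zpowers e)) : G) * v * ((1 : ↥(Subgroup.zpowers e)) : G)⁻¹ = v
        simp)
      mul_smul := fun g g' v => Subtype.ext (by
        show ((g * g' : ↥(Subgroup.zpowers e)) : G) * v * ((g * g' : ↥(Subgroup.zpowers e)) : G)⁻¹
          = (g : G) * ((g' : G) * v * (g' : G)⁻¹) * (g : G)⁻¹
        simp [mul_assoc]) }
  have hsmul : ∀ (g : ↥(Subgroup.zpowers e)) (v : ↥V), ((g • v : ↥V) : G) = (g : G) * v * (g : G)⁻¹ :=
    fun _ _ => rfl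
  have key := hE.card_modEq_card_fixedPoints ↥V
  set F : Subgroup ↥V := (Subgroup.centralizer ({e} : Set G)).subgroupOf V with hF
  have hfix : MulAction.fixedPoints ↥(Subgroup.zpowers e) ↥V = (F : Set ↥V) := by
    ext v
    simp only [MulAction.mem_fixedPoints, SetLike.mem_coe, hF, Subgroup.mem_subgroupOf,
      Subgroup.mem_centralizer_iff, Set.mem_singleton_iff, forall_eq]
    constructor
    · intro h
      have h1 := congrArg Subtype.val (h ⟨e, Subgroup.mem_zpowers e⟩)
      rw [hsmul] at h1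
      have h2 : e * (v : G) * e⁻¹ = v := h1
      calc e * (v : G) = e * v * e⁻¹ * e := by group
        _ = v * e := by rw [h2]
    · intro h g
      apply Subtype.ext
      rw [hsmul]
      obtain ⟨g, hg⟩ := g
      obtain ⟨k, rfl⟩ := Subgroup.mem_zpowers_iff.1 hg
      have hc : Commute e (v : G) := h
      have hc' : Commute (e ^ k) (v : G) := hc.zpow_left k
      show e ^ k * (v : G) * (e ^ k)⁻¹ = v
      rw [hc'.eq, mul_inv_cancel_right]
  rw [hfix] at key
  have key' : Nat.card ↥V ≡ Nat.card ↥F [MOD q] := key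
  have hmul : Nat.card ↥F * F.index = Nat.card ↥V := Subgroup.card_mul_index F
  have hFW : W.subgroupOf V ≤ F := by
    intro x hx
    rw [hF, Subgroup.mem_subgroupOf, Subgroup.mem_centralizer_iff]
    intro y hy
    rw [Set.mem_singleton_iff] at hy
    rw [hy]
    exact hW _ (Subgroup.mem_subgroupOf.1 hx)
  have hi4 : F.index ≤ 4 := by
    have h0 : (W.subgroupOf V).index ≠ 0 := Subgroup.index_ne_zero_of_finite
    exact (Nat.le_of_dvd (Nat.pos_of_ne_zero h0) (Subgroup.index_dvd_of_le hFW)).trans hidx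
  have hi0 : F.index ≠ 0 := Subgroup.index_ne_zero_of_finite
  obtain ⟨n, hn2⟩ := (hV2.to_subgroup F).exists_card_eq
  have hcop : Nat.Coprime q (Nat.card ↥F) := by
    rw [hn2]
    apply Nat.Coprime.pow_right
    rw [Nat.coprime_primes hq Nat.prime_two]
    omega
  have h4 : F.index ≡ 1 [MOD q] := by
    apply Nat.ModEq.cancel_left_of_coprime hcop
    rw [hmul, mul_one]
    exact key'
  have h6 : F.index = 1 := by
    have h7 : F.index % q = 1 % q := h4
    rw [Nat.mod_eq_of_lt (by omega), Nat.mod_eq_of_lt (by omega)] at h7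
    exact h7
  rw [Subgroup.index_eq_one] at h6
  intro v hv
  have hvF : (⟨v, hv⟩ : ↥V) ∈ F := by rw [h6]; exact Subgroup.mem_top _
  rw [hF, Subgroup.mem_subgroupOf, Subgroup.mem_centralizer_iff] at hvF
  exact hvF e rfl

end Cfsg.Agent.Lib.Helper8.Sm
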