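import Cfsg.Agent.Lib.Helper8.Sm1

/-! Sims' theorem in local form: the local contradiction for `q ≥ 5`. -/

set_option autoImplicit false

open Cfsg
open Cfsg.Agent.Lib.Helper3.JC
open Cfsg.Agent.Lib.Helper7.Am

namespace Cfsg.Agent.Lib.Helper8.Sm

variable {G : Type*} [Group G]

/-- a normal `2`-subgroup of `K` lies in `O₂(K)`. -/
theorem le_pCoreOf' {K P : Subgroup G} (hP : IsPGroup 2 ↥P)
    (hPK : P ≤ K) (hKP : Nz K P) : P ≤ pCoreOf 2 K := by
  have hn : (P.subgroupOf K).Normal :=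
    (Subgroup.normal_subgroupOf_iff_le_normalizer hPK).2 hKP.le_normalizer
  have h1 : P.subgroupOf K ≤ pCore 2 ↥K :=
    le_sSup ⟨hn, hP.comap_subtype⟩
  intro x hx
  exact ⟨⟨x, hPK hx⟩, h1 (Subgroup.mem_subgroupOf.2 hx), rfl⟩

theorem rel_dvd {Q B V : Subgroup G} (hQB : Q ≤ B) (h : Nz B Q) (hVB : V ≤ B) :
    Q.relIndex V ∣ Q.relIndex B := by
  haveI : (Q.subgroupOf B).Normal :=
    (Subgroup.normal_subgroupOf_iff_le_normalizer hQB).2 h.le_normalizer
  rw [← Subgroup.relIndex_subgroupOf hVB (H := Q)]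
  exact Subgroup.relIndex_dvd_index_of_normal _ _

/-- local data at a vertex: `|A : O₂(A)| = 2q` and `C_A(Ω₁Z(O₂(A))) ≤ O₂(A)`. -/
structure LQ (q : ℕ) (A : Subgroup G) : Prop where
  idx : (pCoreOf 2 A).relIndex A = 2 * q
  cz : A ⊓ Subgroup.centralizer (omegaCenterOf (pCoreOf 2 A) : Set G) ≤ pCoreOf 2 A

theorem LQ.conj {q : ℕ} {A : Subgroup G} (h : LQ q A) (g : G) : LQ q (cj g A) := by
  constructor
  · rw [← cj_pCoreOf, cj_relIndex]; exact h.idx
  · rw [← cj_pCoreOf, ← cj_omegaCenterOf, ← cj_centralizer, ← cj_inf]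
    exact cj_mono h.cz

theorem mem_cent_zpowers {t y : G} (h : t * y = y * t) :
    y ∈ Subgroup.centralizer (Subgroup.zpowers t : Set G) := by
  rw [Subgroup.mem_centralizer_iff]
  intro x hx
  obtain ⟨k, rfl⟩ := Subgroup.mem_zpowers_iff.1 hx
  have hc : Commute t y := h
  exact (hc.zpow_left k).eq

theorem idx_cent [Finite G] {q : ℕ} (hq : q.Prime) (hq2 : q ≠ 2) {B : Subgroup G} (hB : LQ q B)
    {V : Subgroup G} (hVB : V ≤ B) (hV2 : IsPGroup 2 ↥V) {t : G}
    (ht : t ∈ omegaCenterOf (pCoreOf 2 B)) :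
    (V ⊓ Subgroup.centralizer (Subgroup.zpowers t : Set G)).relIndex V ∣ 2 := by
  have h1 : (pCoreOf 2 B).relIndex V ∣ 2 * q := by
    rw [← hB.idx]; exact rel_dvd (pCoreOf_le B) (nz_self_pCoreOf B) hVB
  obtain ⟨n, hn⟩ : ∃ n, (pCoreOf 2 B).relIndex V = 2 ^ n := by
    haveI : Fact (Nat.Prime 2) := ⟨Nat.prime_two⟩
    exact hV2.index ((pCoreOf 2 B).subgroupOf V)
  have h3 : (pCoreOf 2 B).relIndex V ∣ 2 := by
    have hcop : Nat.Coprime ((pCoreOf 2 B).relIndex V) q := by
      rw [hn]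
      apply Nat.Coprime.pow_left
      rw [Nat.coprime_primes Nat.prime_two hq]
      exact fun h => hq2 h.symm
    exact hcop.dvd_of_dvd_mul_right h1
  have h4 : V ⊓ pCoreOf 2 B ≤ V ⊓ Subgroup.centralizer (Subgroup.zpowers t : Set G) := by
    refine inf_le_inf_left V ?_
    intro y hy
    apply mem_cent_zpowers
    have := Subgroup.mem_centralizer_iff.1 ((omegaCenterOf_le (pCoreOf 2 B) ht).2) y hy
    exact this.symm
  have h5 := Subgroup.relIndex_dvd_of_le_left V h4
  rw [Subgroup.inf_relIndex_left V (pCoreOf 2 B)] at h5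
  exact h5.trans h3

theorem isPGroup_zpowers_of_sq {t : G} (ht : t * t = 1) : IsPGroup 2 ↥(Subgroup.zpowers t) := by
  intro g
  refine ⟨1, ?_⟩
  obtain ⟨g, hg⟩ := g
  obtain ⟨k, rfl⟩ := Subgroup.mem_zpowers_iff.1 hg
  apply Subtype.ext
  show (t ^ k) ^ (2 ^ 1) = 1
  rw [pow_one, ← zpow_natCast, ← zpow_mul, mul_comm, zpow_mul, zpow_natCast, pow_two, ht, one_zpow]

/-- The local contradiction: for `q ≥ 5` there is no pair of vertices `A`, `B` with `Z_A ≤ B`,
`Z_B ≤ A` and `Z_A ≰ Q_B`. -/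
theorem local_kill [Finite G] {q : ℕ} (hq : q.Prime) (h5 : 5 ≤ q) {A B : Subgroup G}
    (hA : LQ q A) (hB : LQ q B)
    (hAB : omegaCenterOf (pCoreOf 2 A) ≤ B) (hBA : omegaCenterOf (pCoreOf 2 B) ≤ A)
    (hn : ¬ omegaCenterOf (pCoreOf 2 A) ≤ pCoreOf 2 B) : False := by
  have hq2 : q ≠ 2 := by omega
  haveI : Fact q.Prime := ⟨hq⟩
  have hVQ : omegaCenterOf (pCoreOf 2 A) ≤ pCoreOf 2 A :=
    (omegaCenterOf_le (pCoreOf 2 A)).trans inf_le_left
  have hVc : ∀ v ∈ omegaCenterOf (pCoreOf 2 A), ∀ y ∈ pCoreOf 2 A, y * v = v * y :=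
    fun v hv y hy => Subgroup.mem_centralizer_iff.1 ((omegaCenterOf_le (pCoreOf 2 A) hv).2) y hy
  have hQAA : pCoreOf 2 A ≤ A := pCoreOf_le A
  have hV2 : IsPGroup 2 ↥(omegaCenterOf (pCoreOf 2 A)) := (pCoreOf_isPGroup A).to_le hVQ
  have nzAQ : Nz A (pCoreOf 2 A) := nz_self_pCoreOf A
  have nzAV : Nz A (omegaCenterOf (pCoreOf 2 A)) := nz_omegaCenterOf nzAQ
  -- an element of `Z_B` acting nontrivially on `Z_A`
  obtain ⟨a, haV, haQB⟩ := SetLike.not_le_iff_exists.1 hn
  have haB : a ∈ B := hAB haV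
  have hac : a ∉ Subgroup.centralizer (omegaCenterOf (pCoreOf 2 B) : Set G) :=
    fun h => haQB (hB.cz ⟨haB, h⟩)
  rw [Subgroup.mem_centralizer_iff] at hac
  push Not at hac
  obtain ⟨t, htVB, hta⟩ := hac
  have htA : t ∈ A := hBA htVB
  have htQ : t ∉ pCoreOf 2 A := fun h => hta (hVc a haV t h)
  have ht2 : t * t = 1 := omegaCenterOf_sq (pCoreOf 2 B) t htVB
  -- a conjugate of `t` outside `Q_A ∪ Q_A t`
  have hex : ∃ g ∈ A, g * t * g⁻¹ * t⁻¹ ∉ pCoreOf 2 A := by
    by_contra hcon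
    push Not at hcon
    set R := pCoreOf 2 A ⊔ Subgroup.zpowers t with hR
    have htR : t ∈ R := Subgroup.mem_sup_right (Subgroup.mem_zpowers t)
    have hRA : R ≤ A := sup_le hQAA (by rw [Subgroup.zpowers_le]; exact htA)
    have hR2 : IsPGroup 2 ↥R :=
      IsPGroup.to_sup_of_normal_left' (pCoreOf_isPGroup A) (isPGroup_zpowers_of_sq ht2)
        (by rw [Subgroup.zpowers_le]; exact nzAQ.le_normalizer htA)
    have hnz : Nz A R := by
      apply nz_of_map_le
      intro g hg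
      rw [hR, Subgroup.map_sup]
      apply sup_le
      · exact (nzAQ.map_le hg).trans le_sup_left
      · rw [MonoidHom.map_zpowers, Subgroup.zpowers_le]
        show g * t * g⁻¹ ∈ R
        have e1 : g * t * g⁻¹ = (g * t * g⁻¹ * t⁻¹) * t := by group
        rw [e1]; exact R.mul_mem (Subgroup.mem_sup_left (hcon g hg)) htR
    exact htQ (le_pCoreOf' hR2 hRA hnz htR)
  obtain ⟨g, hgA, hgt⟩ := hex
  have huA : g * t * g⁻¹ ∈ A := A.mul_mem (A.mul_mem hgA htA) (A.inv_mem hgA)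
  have huQ : g * t * g⁻¹ ∉ pCoreOf 2 A := by
    intro h
    have := nzAQ.inv_conj hgA h
    have e1 : g⁻¹ * (g * t * g⁻¹) * g = t := by group
    rw [e1] at this
    exact htQ this
  -- index of the centralizers
  have hVA : omegaCenterOf (pCoreOf 2 A) ≤ A := hVQ.trans hQAA
  have i1 := idx_cent hq hq2 hB hAB hV2 htVB
  have hVgB : omegaCenterOf (pCoreOf 2 A) ≤ cj g B := by
    have := cj_mono (g := g) hAB
    rwa [cj_eq_self_of_nz nzAV hgA] at this
  have hugB : g * t * g⁻¹ ∈ omegaCenterOf (pCoreOf 2 (cj g B)) := by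
    rw [← cj_pCoreOf, ← cj_omegaCenterOf]
    exact conj_mem_cj htVB
  have i2 := idx_cent hq hq2 (hB.conj g) hVgB hV2 hugB
  set V := omegaCenterOf (pCoreOf 2 A) with hV
  set W := (V ⊓ Subgroup.centralizer (Subgroup.zpowers t : Set G)) ⊓
    (V ⊓ Subgroup.centralizer (Subgroup.zpowers (g * t * g⁻¹) : Set G)) with hW
  have hWV : W ≤ V := inf_le_left.trans inf_le_left
  have hidxW : W.relIndex V ≤ 4 := by
    have h1 := Subgroup.relIndex_inf_le
      (H := V ⊓ Subgroup.centralizer (Subgroup.zpowers t : Set G))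
      (K := V ⊓ Subgroup.centralizer (Subgroup.zpowers (g * t * g⁻¹) : Set G)) (L := V)
    have h2 := Nat.le_of_dvd two_pos i1
    have h3 := Nat.le_of_dvd two_pos i2
    calc W.relIndex V ≤ _ := h1
      _ ≤ 2 * 2 := Nat.mul_le_mul h2 h3
  -- `A` centralizes `W`
  have hAW : A ≤ Subgroup.centralizer (W : Set G) := by
    have : (pCore 2 ↥A).Normal := by
      have : ((pCoreOf 2 A).subgroupOf A).Normal :=
        (Subgroup.normal_subgroupOf_iff_le_normalizer hQAA).2 nzAQ.le_normalizer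
      have e : (pCoreOf 2 A).subgroupOf A = pCore 2 ↥A := by
        ext x
        rw [Subgroup.mem_subgroupOf]
        constructor
        · rintro ⟨y, hy, hxy⟩
          have : y = x := Subtype.ext hxy
          rwa [← this]
        · intro hx
          exact ⟨x, hx, rfl⟩
      rwa [e] at this
    have hmem : ∀ (x : G) (hx : x ∈ A), (⟨x, hx⟩ : ↥A) ∈ pCore 2 ↥A ↔ x ∈ pCoreOf 2 A := by
      intro x hx
      constructor
      · intro h; exact ⟨⟨x, hx⟩, h, rfl⟩
      · rintro ⟨y, hy, hxy⟩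
        have : y = ⟨x, hx⟩ := Subtype.ext hxy
        rwa [← this]
    have hidx' : (pCore 2 ↥A).index = 2 * q := by
      rw [← hA.idx]
      show _ = ((pCoreOf 2 A).subgroupOf A).index
      congr 1
      ext x
      rw [Subgroup.mem_subgroupOf]
      exact hmem x x.2
    have hC := gen_top hq (pCore 2 ↥A) hidx' (t := ⟨t, htA⟩) (u := ⟨g * t * g⁻¹, huA⟩)
      (by rw [hmem]; exact htQ)
      (by
        show (⟨t * t, _⟩ : ↥A) ∈ pCore 2 ↥A
        rw [hmem, ht2]; exact Subgroup.one_mem _)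
      (by rw [hmem]; exact huQ)
      (by
        show (⟨g * t * g⁻¹ * t⁻¹, _⟩ : ↥A) ∈ pCore 2 ↥A → False
        rw [hmem]; exact hgt)
      ((Subgroup.centralizer (W : Set G)).subgroupOf A)
      (by
        intro x hx
        rw [Subgroup.mem_subgroupOf, Subgroup.mem_centralizer_iff]
        intro w hw
        have hxQ : (x : G) ∈ pCoreOf 2 A := (hmem x x.2).1 hx
        exact (hVc w (hWV hw) x hxQ).symm)
      (by
        rw [Subgroup.mem_subgroupOf, Subgroup.mem_centralizer_iff]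
        intro w hw
        have := Subgroup.mem_centralizer_iff.1 hw.1.2 t (Subgroup.mem_zpowers t)
        exact this.symm)
      (by
        rw [Subgroup.mem_subgroupOf, Subgroup.mem_centralizer_iff]
        intro w hw
        have := Subgroup.mem_centralizer_iff.1 hw.2.2 (g * t * g⁻¹) (Subgroup.mem_zpowers _)
        exact this.symm)
    intro x hx
    have : (⟨x, hx⟩ : ↥A) ∈ (Subgroup.centralizer (W : Set G)).subgroupOf A := by
      rw [hC]; exact Subgroup.mem_top _
    exact Subgroup.mem_subgroupOf.1 this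
  -- an element of order `q` in `A`
  have hcardA : Nat.card ↥A = Nat.card ↥(pCoreOf 2 A) * (2 * q) := by
    rw [← hA.idx]
    exact (Subgroup.card_mul_index ((pCoreOf 2 A).subgroupOf A)).symm.trans (by
      congr 1
      exact Nat.card_congr (Subgroup.subgroupOfEquivOfLe hQAA).toEquiv)
  obtain ⟨e, he⟩ := exists_prime_orderOf_dvd_card' (G := ↥A) q (by
    rw [hcardA]; exact ⟨Nat.card ↥(pCoreOf 2 A) * 2, by ring⟩)
  have heq : (e : G) ^ q = 1 := by
    have := pow_orderOf_eq_one e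
    rw [he] at this
    exact congrArg Subtype.val this
  have hcent := cent_of_small_index hq h5 V W hV2 (e : G) heq
    (by
      intro x hx v hv
      have hxA : x ∈ A := by
        obtain ⟨k, rfl⟩ := Subgroup.mem_zpowers_iff.1 hx
        exact A.zpow_mem e.2 k
      exact nzAV x hxA v hv)
    (by
      intro w hw
      exact (Subgroup.mem_centralizer_iff.1 (hAW e.2) w hw).symm)
    hidxW
  have heQ : (e : G) ∈ pCoreOf 2 A := by
    have h1 : (e : G) ∈ A ⊓ Subgroup.centralizer (V : Set G) :=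
      ⟨e.2, Subgroup.mem_centralizer_iff.2 (fun v hv => (hcent v hv).symm)⟩
    exact hA.cz h1
  -- contradiction: `e` has order `q` in a 2-group
  obtain ⟨k, hk⟩ := (pCoreOf_isPGroup A) ⟨e, heQ⟩
  have hk' : (e : G) ^ (2 ^ k) = 1 := congrArg Subtype.val hk
  have hord : orderOf (e : G) = q := by rw [Subgroup.orderOf_coe]; exact he
  have hdvd : q ∣ 2 ^ k := by rw [← hord]; exact orderOf_dvd_of_pow_eq_one hk'
  have := (Nat.prime_dvd_prime_iff_eq hq Nat.prime_two).1 (hq.dvd_of_dvd_pow hdvd)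
  exact hq2 this

end Cfsg.Agent.Lib.Helper8.Sm
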