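import Mathlib
import Cfsg.Agent.Lib.Helper7.Am19
import Cfsg.Agent.Lib.Helper1.DihedralRecognition

/-! # Primitive groups with a suborbit of length three: generic lemmas

Subgroups of index three, recognition of `Z₃`, `S₃` and `D₁₂`. -/

set_option autoImplicit false
open scoped commutatorElement
open Cfsg
open Cfsg.Agent.Lib.Helper3.JC
open Cfsg.Agent.Lib.Helper7.Am

namespace Cfsg.Agent.Lib.Helper8.Wg

/-- the core of a subgroup of index three has index dividing two in it -/
theorem core_relIndex {X : Type*} [Group X] [Finite X] (U : Subgroup X) (h : U.index = 3) :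
    U.normalCore.relIndex U ∣ 2 := by
  classical
  have h1 : U.normalCore.index = Nat.card (MulAction.toPermHom X (X ⧸ U)).range := by
    rw [Subgroup.normalCore_eq_ker, Subgroup.index_ker]
  have h2 : Nat.card (MulAction.toPermHom X (X ⧸ U)).range ∣ Nat.card (Equiv.Perm (X ⧸ U)) :=
    Subgroup.card_subgroup_dvd_card _
  have h3 : Nat.card (Equiv.Perm (X ⧸ U)) = 6 := by
    haveI : Fintype (X ⧸ U) := Fintype.ofFinite _
    have hc : Fintype.card (X ⧸ U) = 3 := by
      rw [← Nat.card_eq_fintype_card, ← Subgroup.index_eq_card, h]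
    rw [Nat.card_eq_fintype_card, Fintype.card_perm, hc]
    rfl
  have h4 := Subgroup.relIndex_mul_index (Subgroup.normalCore_le U)
  rw [h] at h4
  rw [h3, ← h1, ← h4] at h2
  -- r * 3 ∣ 6
  have : U.normalCore.relIndex U * 3 ∣ 2 * 3 := h2
  exact (Nat.mul_dvd_mul_iff_right (by norm_num : 0 < 3)).mp this

/-- elements of odd order of a subgroup of index three lie in its core -/
theorem odd_mem_core {X : Type*} [Group X] [Finite X] (U : Subgroup X) (h : U.index = 3)
    {x : X} (hx : x ∈ U) (hodd : Odd (orderOf x)) : x ∈ U.normalCore := by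
  have hd := core_relIndex U h
  have hN : (U.normalCore.subgroupOf U).Normal := by
    haveI : U.normalCore.Normal := inferInstance
    exact Subgroup.Normal.subgroupOf inferInstance U
  have h1 : (⟨x, hx⟩ : ↥U) ^ (U.normalCore.subgroupOf U).index ∈ U.normalCore.subgroupOf U :=
    Subgroup.pow_index_mem _ _
  have h2 : x ^ (U.normalCore.relIndex U) ∈ U.normalCore := by
    have := Subgroup.mem_subgroupOf.mp h1
    have e : (U.normalCore.subgroupOf U).index = U.normalCore.relIndex U := rfl
    rw [e] at this
    simpa using this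
  have hr : U.normalCore.relIndex U = 1 ∨ U.normalCore.relIndex U = 2 := by
    have := Nat.le_of_dvd (by norm_num) hd
    have h0 : U.normalCore.relIndex U ≠ 0 := fun h0 => by rw [h0] at hd; simp at hd
    interval_cases (U.normalCore.relIndex U) <;> simp_all
  rcases hr with hr | hr
  · rw [hr, pow_one] at h2; exact h2
  · rw [hr] at h2
    obtain ⟨k, hk⟩ := hodd
    have h3 : x ^ (2 * k + 1) = 1 := by rw [← hk]; exact pow_orderOf_eq_one x
    have h4 : x = ((x ^ 2) ^ k)⁻¹ := by
      have : (x ^ 2) ^ k * x = 1 := by rw [← pow_mul, ← pow_succ]; exact h3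
      exact eq_inv_of_mul_eq_one_right this
    rw [h4]
    exact inv_mem (pow_mem h2 k)

/-- a finite group all of whose elements of odd order are trivial is a `2`-group -/
theorem isPGroup_two_of_odd {X : Type*} [Group X] [Finite X]
    (h : ∀ x : X, Odd (orderOf x) → x = 1) : IsPGroup 2 X := by
  intro x
  have hpos : 0 < orderOf x := orderOf_pos x
  obtain ⟨k, m, hm, hkm⟩ := Nat.exists_eq_two_pow_mul_odd hpos.ne'
  refine ⟨k, ?_⟩
  apply h
  rw [orderOf_pow' x (pow_ne_zero k (by norm_num : (2 : ℕ) ≠ 0)), hkm]
  have : Nat.gcd (2 ^ k * m) (2 ^ k) = 2 ^ k := Nat.gcd_eq_right (dvd_mul_right _ _)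
  rw [this, Nat.mul_div_cancel_left _ (pow_pos (by norm_num) k)]
  exact hm

/-- a group of order three is `Z₃` -/
theorem equiv_Z3 {X : Type*} [Group X] (h : Nat.card X = 3) :
    Nonempty (X ≃* Multiplicative (ZMod 3)) := by
  haveI : Fact (Nat.Prime 3) := ⟨by norm_num⟩
  haveI : IsCyclic X := isCyclic_of_prime_card h
  have e := zmodCyclicMulEquiv (G := X) inferInstance
  rw [h] at e
  exact ⟨e.symm⟩

/-- a group of order six with a core-free subgroup of index three is `S₃` -/
theorem equiv_S3 {X : Type*} [Group X] [Finite X] (U : Subgroup X) (h : U.index = 3)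
    (hcore : U.normalCore = ⊥) (hcard : Nat.card X = 6) :
    Nonempty (X ≃* Equiv.Perm (Fin 3)) := by
  classical
  haveI : Fintype (X ⧸ U) := Fintype.ofFinite _
  have hc : Fintype.card (X ⧸ U) = 3 := by
    rw [← Nat.card_eq_fintype_card, ← Subgroup.index_eq_card, h]
  have hinj : Function.Injective (MulAction.toPermHom X (X ⧸ U)) := by
    rw [← MonoidHom.ker_eq_bot_iff, ← Subgroup.normalCore_eq_ker, hcore]
  have hcardP : Nat.card (Equiv.Perm (X ⧸ U)) = 6 := by
    rw [Nat.card_eq_fintype_card, Fintype.card_perm, hc]; rfl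
  have hbij : Function.Bijective (MulAction.toPermHom X (X ⧸ U)) := by
    rw [Nat.bijective_iff_injective_and_card]
    exact ⟨hinj, by rw [hcard, hcardP]⟩
  have e1 : X ≃* Equiv.Perm (X ⧸ U) := MulEquiv.ofBijective _ hbij
  have e2 : (X ⧸ U) ≃ Fin 3 := by
    have := Fintype.equivFinOfCardEq hc
    exact this
  exact ⟨e1.trans (Equiv.permCongrHom e2)⟩

/-- recognition of `D₁₂` -/
theorem equiv_D12 {X : Type*} [Group X] [Finite X] (hcard : Nat.card X = 12) (q u : X)
    (hq : q ≠ 1) (hq2 : q * q = 1) (hqc : ∀ x : X, x * q = q * x) (hu2 : u * u = 1)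
    (hu1 : u ≠ 1) (huq : u ≠ q) (hT : ¬ (Subgroup.closure ({q, u} : Set X)).Normal) :
    Nonempty (X ≃* DihedralGroup 6) := by
  haveI : Fact (Nat.Prime 3) := ⟨by norm_num⟩
  haveI : Fact (Nat.Prime 2) := ⟨by norm_num⟩
  obtain ⟨d, hd⟩ := exists_prime_orderOf_dvd_card' (G := X) 3 (by rw [hcard]; norm_num)
  have hoq : orderOf q = 2 := orderOf_eq_prime (by rw [pow_two]; exact hq2) hq
  have hou : orderOf u = 2 := orderOf_eq_prime (by rw [pow_two]; exact hu2) hu1
  have hcomm : Commute q d := (hqc d).symm
  have hoa : orderOf (q * d) = 6 := by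
    rw [hcomm.orderOf_mul_eq_mul_orderOf_of_coprime (by rw [hoq, hd]; norm_num), hoq, hd]
  obtain ⟨a, ha⟩ : ∃ a : X, a = q * d := ⟨_, rfl⟩
  rw [← ha] at hoa
  have ha6 : a ^ 6 = 1 := by rw [← hoa]; exact pow_orderOf_eq_one a
  have ha3 : a ^ 3 = q := by
    rw [ha, hcomm.mul_pow]
    have hd3 : d ^ 3 = 1 := by rw [← hd]; exact pow_orderOf_eq_one d
    have hq3 : q ^ 3 = q := by
      calc q ^ 3 = q * q * q := by rw [pow_succ, pow_two]
        _ = q := by rw [hq2, one_mul]
    rw [hd3, hq3, mul_one]
  -- `⟨a⟩` has index two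
  have hcz : Nat.card ↥(Subgroup.zpowers a) = 6 := by rw [Nat.card_zpowers, hoa]
  have hidx : (Subgroup.zpowers a).index = 2 := by
    have := Subgroup.card_mul_index (Subgroup.zpowers a)
    rw [hcz, hcard] at this
    omega
  haveI hnorm : (Subgroup.zpowers a).Normal := Subgroup.normal_of_index_eq_two hidx
  -- elements of `⟨a⟩` are powers `a ^ k`, `k < 6`
  have hpow : ∀ y ∈ Subgroup.zpowers a, ∃ k : ℕ, k < 6 ∧ a ^ k = y := by
    intro y hy
    have hfin : IsOfFinOrder a := isOfFinOrder_of_finite a
    rw [← mem_powers_iff_mem_zpowers] at hy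
    obtain ⟨k, rfl⟩ := hy
    refine ⟨k % 6, Nat.mod_lt _ (by norm_num), ?_⟩
    rw [← hoa, pow_mod_orderOf]
  -- `u ∉ ⟨a⟩`
  have hunot : u ∉ Subgroup.zpowers a := by
    intro hu
    obtain ⟨k, hk, hku⟩ := hpow u hu
    have h1 : a ^ (2 * k) = 1 := by
      rw [mul_comm, pow_mul, hku, pow_two, hu2]
    have h2 : 6 ∣ 2 * k := by rw [← hoa]; exact orderOf_dvd_of_pow_eq_one h1
    have h3 : k = 0 ∨ k = 3 := by omega
    rcases h3 with h3 | h3
    · rw [h3, pow_zero] at hku; exact hu1 hku.symm
    · rw [h3, ha3] at hku; exact huq hku.symm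
  -- `u a u⁻¹ = a⁻¹`
  have hconjmem : u * a * u⁻¹ ∈ Subgroup.zpowers a :=
    hnorm.conj_mem a (Subgroup.mem_zpowers a) u
  obtain ⟨j, hj, hja⟩ := hpow _ hconjmem
  have hoconj : orderOf (u * a * u⁻¹) = 6 := by
    have : u * a * u⁻¹ = MulAut.conj u a := rfl
    rw [this, MulEquiv.orderOf_eq, hoa]
  have hgcd : Nat.gcd 6 j = 1 := by
    have h1 : orderOf (a ^ j) = 6 := by rw [hja]; exact hoconj
    rw [orderOf_pow, hoa] at h1
    have h2 : Nat.gcd 6 j ∣ 6 := Nat.gcd_dvd_left 6 j
    have h3 : 6 / Nat.gcd 6 j * Nat.gcd 6 j = 6 := Nat.div_mul_cancel h2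
    rw [h1] at h3
    omega
  have hj15 : j = 1 ∨ j = 5 := by
    interval_cases j <;> simp_all
  have hconj : u * a * u⁻¹ = a⁻¹ := by
    rcases hj15 with h | h
    · exfalso
      rw [h, pow_one] at hja
      -- `u` commutes with `a`, so `u` is central
      have hua : u * a = a * u := by
        calc u * a = (u * a * u⁻¹) * u := by group
          _ = a * u := by rw [← hja]
      have htop : Subgroup.closure ({a, u} : Set X) = ⊤ := by
        have hle : Subgroup.zpowers a ≤ Subgroup.closure ({a, u} : Set X) := by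
          rw [Subgroup.zpowers_le]
          exact Subgroup.subset_closure (by simp)
        have hne : Subgroup.zpowers a ≠ Subgroup.closure ({a, u} : Set X) := by
          intro he
          apply hunot
          rw [he]
          exact Subgroup.subset_closure (by simp)
        have h1 := Subgroup.relIndex_mul_index hle
        rw [hidx] at h1
        have h2 : (Subgroup.zpowers a).relIndex (Subgroup.closure ({a, u} : Set X)) ≠ 1 := by
          intro h
          exact hne (le_antisymm hle (Subgroup.relIndex_eq_one.mp h))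
        have h3 : (Subgroup.closure ({a, u} : Set X)).index ≠ 0 := Subgroup.index_ne_zero_of_finite
        have h4 : (Subgroup.closure ({a, u} : Set X)).index = 1 := by
          have h5 : (Subgroup.zpowers a).relIndex (Subgroup.closure ({a, u} : Set X)) ∣ 2 :=
            ⟨_, h1.symm⟩
          have h6 := (Nat.dvd_prime Nat.prime_two).mp h5
          rcases h6 with h6 | h6
          · exact absurd h6 h2
          · rw [h6] at h1; omega
        exact Subgroup.index_eq_one.mp h4
      have hucen : u ∈ Subgroup.center X := by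
        rw [Subgroup.mem_center_iff]
        intro g
        have hg : g ∈ Subgroup.closure ({a, u} : Set X) := by rw [htop]; exact Subgroup.mem_top g
        have hcen : Subgroup.closure ({a, u} : Set X) ≤ Subgroup.centralizer ({u} : Set X) := by
          rw [Subgroup.closure_le]
          intro y hy
          rw [Set.mem_insert_iff, Set.mem_singleton_iff] at hy
          rw [SetLike.mem_coe, Subgroup.mem_centralizer_iff]
          intro z hz
          rw [Set.mem_singleton_iff] at hz
          rw [hz]
          rcases hy with rfl | rfl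
          · exact hua
          · rfl
        have := Subgroup.mem_centralizer_iff.mp (hcen hg) u rfl
        exact this.symm
      have hqcen : q ∈ Subgroup.center X := by
        rw [Subgroup.mem_center_iff]
        intro g
        exact hqc g
      apply hT
      have hle : Subgroup.closure ({q, u} : Set X) ≤ Subgroup.center X := by
        rw [Subgroup.closure_le]
        intro y hy
        rw [Set.mem_insert_iff, Set.mem_singleton_iff] at hy
        rcases hy with rfl | rfl
        · exact hqcen
        · exact hucen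
      constructor
      intro n hn g
      have := Subgroup.mem_center_iff.mp (hle hn) g
      have e : g * n * g⁻¹ = n := by rw [this]; group
      rw [e]; exact hn
    · rw [h] at hja
      rw [← hja]
      have : a ^ 5 * a = 1 := by rw [← pow_succ]; exact ha6
      exact eq_inv_of_mul_eq_one_left this
  exact Cfsg.Agent.Lib.Helper1.nonempty_mulEquiv_dihedralGroup 6 a u hoa hunot hu2 hconj
    (by rw [hcard])

end Cfsg.Agent.Lib.Helper8.Wg
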