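import Mathlib
import Cfsg.Agent.Lib.Helper8.Wg1

/-! # Primitive groups with a suborbit of length three: subgroups of index three in `G` -/

set_option autoImplicit false
open scoped commutatorElement Pointwise
open Cfsg
open Cfsg.Agent.Lib.Helper3.JC
open Cfsg.Agent.Lib.Helper7.Am

namespace Cfsg.Agent.Lib.Helper8.Wg

variable {G : Type*} [Group G]

/-- the largest subgroup of `T` normalized by `H` -/
def Nc (H T : Subgroup G) : Subgroup G := ((T.subgroupOf H).normalCore).map H.subtype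

theorem Nc_le {H T : Subgroup G} : Nc H T ≤ T := by
  unfold Nc
  have h1 : ((T.subgroupOf H).normalCore).map H.subtype ≤ (T.subgroupOf H).map H.subtype :=
    Subgroup.map_mono (Subgroup.normalCore_le _)
  rw [Subgroup.subgroupOf_map_subtype] at h1
  exact h1.trans inf_le_left

theorem Nc_le' {H T : Subgroup G} : Nc H T ≤ H := by
  unfold Nc
  rintro _ ⟨y, _, rfl⟩
  exact y.2

theorem nz_Nc (H T : Subgroup G) : Nz H (Nc H T) := by
  intro h hh x hx
  obtain ⟨y, hy, rfl⟩ := hx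
  have hn : ((T.subgroupOf H).normalCore).Normal := inferInstance
  have h1 := hn.conj_mem y hy ⟨h, hh⟩
  exact ⟨_, h1, rfl⟩

theorem le_Nc {H T M : Subgroup G} (hMT : M ≤ T) (hTH : T ≤ H) (hM : Nz H M) : M ≤ Nc H T := by
  have hMH : M ≤ H := hMT.trans hTH
  haveI hn : (M.subgroupOf H).Normal :=
    (Subgroup.normal_subgroupOf_iff_le_normalizer hMH).mpr hM.le_normalizer
  have h1 : M.subgroupOf H ≤ (T.subgroupOf H).normalCore := by
    rw [Subgroup.normal_le_normalCore]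
    exact fun x hx => Subgroup.mem_subgroupOf.mpr (hMT (Subgroup.mem_subgroupOf.mp hx))
  intro x hx
  exact ⟨⟨x, hMH hx⟩, h1 (Subgroup.mem_subgroupOf.mpr hx), rfl⟩

theorem Nc_relIndex {H T : Subgroup G} [Finite ↥H] (hTH : T ≤ H) (h3 : T.relIndex H = 3) :
    (Nc H T).relIndex T ∣ 2 := by
  have h1 := core_relIndex (T.subgroupOf H) h3
  have h2 := Subgroup.relIndex_map_map_of_injective ((T.subgroupOf H).normalCore)
    (T.subgroupOf H) H.subtype_injective
  rw [Subgroup.map_subgroupOf_eq_of_le hTH] at h2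
  unfold Nc
  rw [h2]
  exact h1

theorem odd_mem_Nc {H T : Subgroup G} [Finite ↥H] (hTH : T ≤ H) (h3 : T.relIndex H = 3)
    {x : G} (hx : x ∈ T) (hodd : Odd (orderOf x)) : x ∈ Nc H T := by
  have h1 : (⟨x, hTH hx⟩ : ↥H) ∈ T.subgroupOf H := Subgroup.mem_subgroupOf.mpr hx
  have h2 : Odd (orderOf (⟨x, hTH hx⟩ : ↥H)) := by
    rw [Subgroup.orderOf_mk]; exact hodd
  exact ⟨_, odd_mem_core (T.subgroupOf H) h3 h1 h2, rfl⟩

/-- the subgroup generated by the elements of odd order of `T` -/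
def Od (T : Subgroup G) : Subgroup G := Subgroup.closure {x | x ∈ T ∧ Odd (orderOf x)}

theorem Od_le (T : Subgroup G) : Od T ≤ T := by
  unfold Od
  rw [Subgroup.closure_le]
  intro x hx
  exact hx.1

theorem nz_Od {H T : Subgroup G} [Finite ↥H] (hTH : T ≤ H) (h3 : T.relIndex H = 3) :
    Nz H (Od T) := by
  apply nz_of_map_le
  intro h hh
  unfold Od
  rw [MonoidHom.map_closure, Subgroup.closure_le]
  rintro _ ⟨x, ⟨hxT, hxo⟩, rfl⟩
  apply Subgroup.subset_closure
  refine ⟨?_, ?_⟩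
  · exact Nc_le (nz_Nc H T h hh x (odd_mem_Nc hTH h3 hxT hxo))
  · show Odd (orderOf (MulAut.conj h x))
    rw [MulEquiv.orderOf_eq]; exact hxo

theorem isPGroup_of_Od_eq_bot {T : Subgroup G} [Finite ↥T] (h : Od T = ⊥) : IsPGroup 2 ↥T := by
  apply isPGroup_two_of_odd
  intro x hx
  have h1 : (x : G) ∈ Od T := Subgroup.subset_closure ⟨x.2, by rw [Subgroup.orderOf_coe]; exact hx⟩
  rw [h, Subgroup.mem_bot] at h1
  exact Subtype.ext h1

/-- `O₂(H) = Nc H T` when `T` is a `2`-subgroup of index three -/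
theorem pCoreOf_eq_Nc {H T : Subgroup G} [Finite ↥H] (hTH : T ≤ H) (h3 : T.relIndex H = 3)
    (hT : IsPGroup 2 ↥T) : pCoreOf 2 H = Nc H T := by
  haveI : Fact (Nat.Prime 2) := ⟨Nat.prime_two⟩
  apply le_antisymm
  · -- `O₂(H) ≤ T`
    have hQT : pCoreOf 2 H ≤ T := by
      have hp : IsPGroup 2 ↥(pCoreOf 2 H ⊔ T : Subgroup G) :=
        (pCoreOf_isPGroup H).to_sup_of_normal_left' hT
          (hTH.trans (nz_self_pCoreOf H).le_normalizer)
      have hle : pCoreOf 2 H ⊔ T ≤ H := sup_le (pCoreOf_le H) hTH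
      have h1 := Subgroup.relIndex_mul_relIndex T (pCoreOf 2 H ⊔ T) H le_sup_right hle
      rw [h3] at h1
      haveI : Finite ↥(pCoreOf 2 H ⊔ T : Subgroup G) :=
        Finite.of_injective _ (Subgroup.inclusion_injective hle)
      obtain ⟨n, hn⟩ := hp.index (T.subgroupOf (pCoreOf 2 H ⊔ T))
      have h2 : T.relIndex (pCoreOf 2 H ⊔ T) = 2 ^ n := hn
      have h4 : T.relIndex (pCoreOf 2 H ⊔ T) = 1 := by
        rcases Nat.eq_zero_or_pos n with rfl | hpos
        · simpa using h2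
        · exfalso
          have h5 : 2 ∣ 3 := by
            rw [← h1, h2]
            exact Dvd.dvd.mul_right (dvd_pow_self 2 hpos.ne') _
          omega
      exact le_sup_left.trans (Subgroup.relIndex_eq_one.mp h4)
    exact le_Nc hQT hTH (nz_self_pCoreOf H)
  · exact Cfsg.Agent.Lib.Helper7.le_pCoreIn (p := 2) Nc_le' (hT.to_le Nc_le)
      (nz_Nc H T).le_normalizer

/-- two `2`-subgroups of index three of `L` are conjugate in `L` -/
theorem exists_cj_eq {L T T' : Subgroup G} [Finite ↥L] (hT : IsPGroup 2 ↥T) (hTL : T ≤ L)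
    (h3 : T.relIndex L = 3) (hT' : IsPGroup 2 ↥T') (hTL' : T' ≤ L) (h3' : T'.relIndex L = 3) :
    ∃ l ∈ L, cj l T' = T := by
  haveI : Fact (Nat.Prime 2) := ⟨Nat.prime_two⟩
  have h1 : IsPGroup 2 ↥(T.subgroupOf L) := hT.comap_subtype
  have h2 : ¬ 2 ∣ (T.subgroupOf L).index := by
    show ¬ 2 ∣ T.relIndex L
    rw [h3]; norm_num
  have h1' : IsPGroup 2 ↥(T'.subgroupOf L) := hT'.comap_subtype
  have h2' : ¬ 2 ∣ (T'.subgroupOf L).index := by
    show ¬ 2 ∣ T'.relIndex L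
    rw [h3']; norm_num
  obtain ⟨P, hP⟩ : ∃ P : Sylow 2 ↥L, (P : Subgroup ↥L) = T.subgroupOf L := ⟨h1.toSylow h2, rfl⟩
  obtain ⟨P', hP'⟩ : ∃ P' : Sylow 2 ↥L, (P' : Subgroup ↥L) = T'.subgroupOf L :=
    ⟨h1'.toSylow h2', rfl⟩
  obtain ⟨l, hl⟩ := MulAction.exists_smul_eq ↥L P' P
  refine ⟨l, l.2, ?_⟩
  have h5 : MulAut.conj l • (P' : Subgroup ↥L) = (P : Subgroup ↥L) := by
    rw [← hl]; rfl
  rw [hP, hP'] at h5
  ext y
  rw [mem_cj]
  constructor
  · intro hy
    have hyL : y ∈ L := by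
      have := hTL' hy
      have e : y = l * ((l : G)⁻¹ * y * l) * (l : G)⁻¹ := by group
      rw [e]
      exact mul_mem (mul_mem l.2 this) (inv_mem l.2)
    have h6 : (⟨(l : G)⁻¹ * y * l, hTL' hy⟩ : ↥L) ∈ T'.subgroupOf L :=
      Subgroup.mem_subgroupOf.mpr hy
    have h7 := Subgroup.smul_mem_pointwise_smul _ (MulAut.conj l) _ h6
    rw [h5, Subgroup.mem_subgroupOf] at h7
    have e : ((MulAut.conj l • (⟨(l : G)⁻¹ * y * l, hTL' hy⟩ : ↥L) : ↥L) : G) = y := by
      simp [MulAut.smul_def]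
      group
    rwa [e] at h7
  · intro hy
    have h6 : (⟨y, hTL hy⟩ : ↥L) ∈ T.subgroupOf L := Subgroup.mem_subgroupOf.mpr hy
    rw [← h5] at h6
    obtain ⟨z, hz, hzy⟩ := h6
    have hz' : (z : G) ∈ T' := Subgroup.mem_subgroupOf.mp hz
    have e : (l : G)⁻¹ * y * l = z := by
      have h8 : ((MulAut.conj l • z : ↥L) : G) = y := by
        have := congrArg Subtype.val hzy
        simpa using this
      have h9 : ((MulAut.conj l • z : ↥L) : G) = l * z * (l : G)⁻¹ := by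
        simp [MulAut.smul_def]
      rw [← h8, h9]; group
    rw [e]; exact hz'

end Cfsg.Agent.Lib.Helper8.Wg
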