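import Mathlib
import Cfsg.Agent.Lib.Helper8.Wg2
import Cfsg.Agent.Lib.Helper8.Ph1

/-! # Primitive groups with a suborbit of length three: the abstract theorem

Two conjugate subgroups `H`, `K` of a finite group meeting in a subgroup of index three, with no
nontrivial subgroup of `H ⊓ K` normalized by both: `H` is `Z₃`, `S₃`, `D₁₂`, `S₄` or `S₄ × Z₂`. -/

set_option autoImplicit false
open scoped commutatorElement Pointwise
open Cfsg
open Cfsg.Agent.Lib.Helper3.JC
open Cfsg.Agent.Lib.Helper7.Am

namespace Cfsg.Agent.Lib.Helper8.Wg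

variable {G : Type*} [Group G]

theorem omegaCenterOf_ne_bot {T : Subgroup G} [Finite ↥T] (hT : IsPGroup 2 ↥T) (hne : T ≠ ⊥) :
    omegaCenterOf T ≠ ⊥ := by
  haveI : Fact (Nat.Prime 2) := ⟨Nat.prime_two⟩
  haveI : Nontrivial ↥T := (Subgroup.nontrivial_iff_ne_bot T).mpr hne
  haveI : Nontrivial ↥(Subgroup.center ↥T) := hT.center_nontrivial
  have hZ : IsPGroup 2 ↥(Subgroup.center ↥T) := hT.to_subgroup _
  obtain ⟨k, hk⟩ := (IsPGroup.iff_card).mp hZ
  have hk0 : k ≠ 0 := by
    rintro rfl
    have h1 : Nat.card ↥(Subgroup.center ↥T) = 1 := by simpa using hk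
    have := Finite.one_lt_card (α := ↥(Subgroup.center ↥T))
    omega
  have hdvd : 2 ∣ Nat.card ↥(Subgroup.center ↥T) := by rw [hk]; exact dvd_pow_self 2 hk0
  obtain ⟨z, hz⟩ := exists_prime_orderOf_dvd_card' 2 hdvd
  have hz2 : ((z : ↥T) : G) ^ 2 = 1 := by
    have := pow_orderOf_eq_one z
    rw [hz] at this
    have h2 := congrArg (fun w : ↥(Subgroup.center ↥T) => ((w : ↥T) : G)) this
    simpa using h2
  have hz1 : ((z : ↥T) : G) ≠ 1 := by
    intro h
    have : z = 1 := Subtype.ext (Subtype.ext h)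
    rw [this, orderOf_one] at hz
    omega
  have hzc : ((z : ↥T) : G) ∈ Subgroup.centralizer (T : Set G) := by
    rw [Subgroup.mem_centralizer_iff]
    intro y hy
    have := Subgroup.mem_center_iff.mp z.2 ⟨y, hy⟩
    exact congrArg Subtype.val this
  intro hbot
  have hmem : ((z : ↥T) : G) ∈ omegaCenterOf T :=
    Subgroup.subset_closure ⟨⟨(z : ↥T).2, hzc⟩, hz2⟩
  rw [hbot, Subgroup.mem_bot] at hmem
  exact hz1 hmem

/-- if `H` centralizes `Ω₁Z(T)` then so does its conjugate `K` -/
theorem cent_transfer {H K T : Subgroup G} [Finite ↥K] {g : G} (hK : K = cj g H)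
    (hT : IsPGroup 2 ↥T) (hTH : T ≤ H) (hTK : T ≤ K) (h3 : T.relIndex H = 3)
    (h3K : T.relIndex K = 3)
    (h : H ≤ Subgroup.centralizer (omegaCenterOf T : Set G)) :
    K ≤ Subgroup.centralizer (omegaCenterOf T : Set G) := by
  have hT' : IsPGroup 2 ↥(cj g T) := isPGroup_cj hT
  have hTK' : cj g T ≤ K := by rw [hK]; exact cj_mono hTH
  have h3' : (cj g T).relIndex K = 3 := by rw [hK, cj_relIndex]; exact h3
  obtain ⟨l, hl, hle⟩ := exists_cj_eq hT hTK h3K hT' hTK' h3'
  rw [cj_mul] at hle
  have h1 := cj_mono (g := l * g) h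
  rw [cj_centralizer, cj_omegaCenterOf, hle, ← cj_mul, ← hK, cj_eq_self_of_mem hl] at h1
  exact h1

/-- in the non-constrained case `O₂(H) ∩ Q'` is normal in `H` -/
theorem nz_D {H T Q' : Subgroup G} [Finite ↥H] (hTH : T ≤ H) (h3 : T.relIndex H = 3)
    (hT : IsPGroup 2 ↥T)
    (hnc : ¬ H ⊓ Subgroup.centralizer (pCoreOf 2 H : Set G) ≤ pCoreOf 2 H) (hQ' : Nz T Q') :
    Nz H (pCoreOf 2 H ⊓ Q') := by
  have hnzC : Nz H (H ⊓ Subgroup.centralizer (pCoreOf 2 H : Set G)) :=
    (nz_self H).inf (nz_self_pCoreOf H).centralizer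
  have hX : H ≤ (H ⊓ Subgroup.centralizer (pCoreOf 2 H : Set G)) ⊔ T := by
    rcases relIndex_three_dichotomy (Q := T)
      (X := (H ⊓ Subgroup.centralizer (pCoreOf 2 H : Set G)) ⊔ T) (K := H) le_sup_right
      (sup_le inf_le_left hTH) h3 with h1 | h1
    · exfalso
      apply hnc
      have hCT : H ⊓ Subgroup.centralizer (pCoreOf 2 H : Set G) ≤ T := le_sup_left.trans h1
      exact Cfsg.Agent.Lib.Helper7.le_pCoreIn (p := 2) inf_le_left (hT.to_le hCT)
        hnzC.le_normalizer
    · exact h1
  have hnz1 : Nz (H ⊓ Subgroup.centralizer (pCoreOf 2 H : Set G)) (pCoreOf 2 H ⊓ Q') := by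
    intro c hc d hd
    have h1 := Subgroup.mem_centralizer_iff.mp hc.2 d hd.1
    have e : c * d * c⁻¹ = d := by rw [← h1]; group
    rw [e]; exact hd
  have hnz2 : Nz T (pCoreOf 2 H ⊓ Q') := ((nz_self_pCoreOf H).mono hTH).inf hQ'
  exact (hnz1.sup_left hnz2).mono hX

/-- the abstract form of Wong's theorem -/
theorem wong [Finite G] (H K : Subgroup G) (g : G) (hK : K = cj g H)
    (h3 : (H ⊓ K).relIndex H = 3)
    (hcore : ∀ N : Subgroup G, N ≤ H ⊓ K → Nz H N → Nz K N → N = ⊥) :
    Nonempty (↥H ≃* Multiplicative (ZMod 3)) ∨ Nonempty (↥H ≃* Equiv.Perm (Fin 3)) ∨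
      Nonempty (↥H ≃* DihedralGroup 6) ∨ Nonempty (↥H ≃* Equiv.Perm (Fin 4)) ∨
      Nonempty (↥H ≃* Equiv.Perm (Fin 4) × Multiplicative (ZMod 2)) := by
  obtain ⟨T, hTdef⟩ : ∃ T : Subgroup G, T = H ⊓ K := ⟨_, rfl⟩
  rw [← hTdef] at h3 hcore
  have hTH : T ≤ H := by rw [hTdef]; exact inf_le_left
  have hTK : T ≤ K := by rw [hTdef]; exact inf_le_right
  have hcardK : Nat.card ↥K = Nat.card ↥H := by rw [hK]; exact card_cj g H
  have hcH := Ph.card_eq_mul_relIndex hTH
  rw [h3] at hcH
  have hcK := Ph.card_eq_mul_relIndex hTK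
  have hTpos : 0 < Nat.card ↥T := Nat.card_pos
  have h3K : T.relIndex K = 3 := by
    rw [hcardK, hcH] at hcK
    exact (Nat.eq_of_mul_eq_mul_left hTpos hcK).symm
  -- `T` is a `2`-group
  have hOd : Od T = ⊥ := hcore _ (Od_le T) (nz_Od hTH h3) (nz_Od hTK h3K)
  have hT2 : IsPGroup 2 ↥T := isPGroup_of_Od_eq_bot hOd
  -- the `2`-cores
  have hQH : pCoreOf 2 H = Nc H T := pCoreOf_eq_Nc hTH h3 hT2
  have hQK : pCoreOf 2 K = Nc K T := pCoreOf_eq_Nc hTK h3K hT2
  have hQHT : pCoreOf 2 H ≤ T := by rw [hQH]; exact Nc_le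
  have hQKT : pCoreOf 2 K ≤ T := by rw [hQK]; exact Nc_le
  have hQKcj : pCoreOf 2 K = cj g (pCoreOf 2 H) := by rw [hK, cj_pCoreOf]
  have hcardQ : Nat.card ↥(pCoreOf 2 K) = Nat.card ↥(pCoreOf 2 H) := by
    rw [hQKcj]; exact card_cj g _
  have hrH : (pCoreOf 2 H).relIndex T ∣ 2 := by rw [hQH]; exact Nc_relIndex hTH h3
  have hcTH := Ph.card_eq_mul_relIndex hQHT
  have hcTK := Ph.card_eq_mul_relIndex hQKT
  have hQpos : 0 < Nat.card ↥(pCoreOf 2 H) := Nat.card_pos
  have hrHK : (pCoreOf 2 K).relIndex T = (pCoreOf 2 H).relIndex T := by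
    rw [hcTH, hcardQ] at hcTK
    exact (Nat.eq_of_mul_eq_mul_left hQpos hcTK).symm
  rcases (Nat.dvd_prime Nat.prime_two).mp hrH with hr | hr
  · -- `T = O₂(H) = O₂(K)`, so `T = 1`
    left
    have hTQH : T = pCoreOf 2 H := le_antisymm (Subgroup.relIndex_eq_one.mp hr) hQHT
    have hTQK : T = pCoreOf 2 K :=
      le_antisymm (Subgroup.relIndex_eq_one.mp (hrHK.trans hr)) hQKT
    have hTbot : T = ⊥ := by
      apply hcore T le_rfl
      · rw [hTQH]; exact nz_self_pCoreOf H
      · rw [hTQK]; exact nz_self_pCoreOf K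
    have hc1 : Nat.card ↥T = 1 := by rw [hTbot]; exact Subgroup.card_bot
    rw [hc1, one_mul] at hcH
    exact equiv_Z3 hcH
  · right
    have hrK : (pCoreOf 2 K).relIndex T = 2 := hrHK.trans hr
    have hTne : T ≠ ⊥ := by
      intro h
      rw [hr] at hcTH
      have hc1 : Nat.card ↥T = 1 := by rw [h]; exact Subgroup.card_bot
      omega
    by_cases hcent : H ⊓ Subgroup.centralizer (pCoreOf 2 H : Set G) ≤ pCoreOf 2 H
    · -- the constrained case: the amalgam theorem
      right; right
      have hcentK : K ⊓ Subgroup.centralizer (pCoreOf 2 K : Set G) ≤ pCoreOf 2 K := by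
        rw [hQKcj, ← cj_centralizer, hK, ← cj_inf]
        exact cj_mono hcent
      have hZne : omegaCenterOf T ≠ ⊥ := omegaCenterOf_ne_bot hT2 hTne
      have hZT : omegaCenterOf T ≤ T := (omegaCenterOf_le T).trans inf_le_left
      have nz_of_cent : ∀ L : Subgroup G,
          L ≤ Subgroup.centralizer (omegaCenterOf T : Set G) → Nz L (omegaCenterOf T) := by
        intro L hL l hl z hz
        have h1 := Subgroup.mem_centralizer_iff.mp (hL hl) z hz
        have e : l * z * l⁻¹ = z := by rw [← h1]; group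
        rw [e]; exact hz
      have hactH : ¬ H ≤ Subgroup.centralizer (omegaCenterOf T : Set G) := by
        intro h
        have hk := cent_transfer hK hT2 hTH hTK h3 h3K h
        exact hZne (hcore _ hZT (nz_of_cent H h) (nz_of_cent K hk))
      have hactK : ¬ K ≤ Subgroup.centralizer (omegaCenterOf T : Set G) := by
        intro h
        have hH' : H = cj g⁻¹ K := by rw [hK, cj_inv_cj]
        have hh := cent_transfer hH' hT2 hTK hTH h3K h3 h
        exact hZne (hcore _ hZT (nz_of_cent H hh) (nz_of_cent K h))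
      have hTdef' : T = K ⊓ H := by rw [hTdef, inf_comm]
      have hLH : Loc H K :=
        { fin := inferInstance
          cent := hcent
          pg := by rw [← hTdef]; exact hT2
          idxT := by rw [← hTdef]; exact h3
          QK := hQHT.trans hTK
          idxQ := by rw [← hTdef]; exact hr
          act := by rw [← hTdef]; exact hactH }
      have hLK : Loc K H :=
        { fin := inferInstance
          cent := hcentK
          pg := by rw [← hTdef']; exact hT2
          idxT := by rw [← hTdef']; exact h3K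
          QK := hQKT.trans hTH
          idxQ := by rw [← hTdef']; exact hrK
          act := by rw [← hTdef']; exact hactK }
      have hC : Ctx (fun i : Bool => if i then H else K) :=
        { loc := by
            intro i
            cases i with
            | true => exact hLH
            | false => exact hLK
          core := by
            intro N hN h1 h2
            have hN' : N ≤ T := by rw [hTdef]; exact hN
            exact hcore N hN' h1 h2 }
      rcases amalgam_ctx hC with ⟨⟨e⟩, _⟩ | ⟨⟨e⟩, _⟩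
      · left
        exact ⟨e⟩
      · right
        exact ⟨e.trans MulEquiv.prodComm⟩
    · -- the non-constrained case
      have hcentK : ¬ K ⊓ Subgroup.centralizer (pCoreOf 2 K : Set G) ≤ pCoreOf 2 K := by
        intro h
        apply hcent
        rw [hQKcj, ← cj_centralizer, hK, ← cj_inf] at h
        exact cj_le_cj_iff.mp h
      have hnzTQK : Nz T (pCoreOf 2 K) := (nz_self_pCoreOf K).mono hTK
      have hnzTQH : Nz T (pCoreOf 2 H) := (nz_self_pCoreOf H).mono hTH
      have hD1 : Nz H (pCoreOf 2 H ⊓ pCoreOf 2 K) := nz_D hTH h3 hT2 hcent hnzTQK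
      have hD2 : Nz K (pCoreOf 2 H ⊓ pCoreOf 2 K) := by
        rw [inf_comm]; exact nz_D hTK h3K hT2 hcentK hnzTQH
      have hD : pCoreOf 2 H ⊓ pCoreOf 2 K = ⊥ := hcore _ (inf_le_left.trans hQHT) hD1 hD2
      have hcQK2 : Nat.card ↥(pCoreOf 2 K) ≤ 2 := by
        have h1 : (pCoreOf 2 H ⊓ pCoreOf 2 K).relIndex (pCoreOf 2 K) =
            (pCoreOf 2 H).relIndex (pCoreOf 2 K) := Subgroup.inf_relIndex_right _ _
        rw [hD, Subgroup.relIndex_bot_left] at h1
        have h2 := Subgroup.relIndex_le_of_le_right (H := pCoreOf 2 H) hQKT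
          (by rw [hr]; norm_num)
        rw [hr] at h2
        omega
      rw [hcardQ] at hcQK2
      rw [hr] at hcTH
      have hcases : Nat.card ↥(pCoreOf 2 H) = 1 ∨ Nat.card ↥(pCoreOf 2 H) = 2 := by omega
      rcases hcases with hc | hc
      · -- `S₃`
        left
        have hQbot : pCoreOf 2 H = ⊥ := Subgroup.card_eq_one.mp hc
        have hcore' : (T.subgroupOf H).normalCore = ⊥ := by
          have h1 : Nc H T = ⊥ := by rw [← hQH, hQbot]
          unfold Nc at h1
          exact (Subgroup.map_eq_bot_iff_of_injective _ H.subtype_injective).mp h1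
        have hcard6 : Nat.card ↥H = 6 := by rw [hcH, hcTH, hc]
        exact equiv_S3 (T.subgroupOf H) h3 hcore' hcard6
      · -- `D₁₂`
        right; left
        have hcard12 : Nat.card ↥H = 12 := by rw [hcH, hcTH, hc]
        haveI : Fact (Nat.Prime 2) := ⟨Nat.prime_two⟩
        -- the nontrivial element of `O₂(H)`
        have hcK2 : Nat.card ↥(pCoreOf 2 K) = 2 := by rw [hcardQ, hc]
        obtain ⟨q', hq', hq'u⟩ := (Nat.card_eq_two_iff' (1 : ↥(pCoreOf 2 H))).mp hc
        obtain ⟨u', hu', _⟩ := (Nat.card_eq_two_iff' (1 : ↥(pCoreOf 2 K))).mp hcK2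
        have hq1 : (q' : G) ≠ 1 := fun h => hq' (Subtype.ext h)
        have hu1 : (u' : G) ≠ 1 := fun h => hu' (Subtype.ext h)
        have hq2 : (q' : G) * (q' : G) = 1 := by
          have h1 : q' ^ Nat.card ↥(pCoreOf 2 H) = 1 := pow_card_eq_one'
          rw [hc, pow_two] at h1
          exact congrArg Subtype.val h1
        have hu2 : (u' : G) * (u' : G) = 1 := by
          have h1 : u' ^ Nat.card ↥(pCoreOf 2 K) = 1 := pow_card_eq_one'
          rw [hcK2, pow_two] at h1
          exact congrArg Subtype.val h1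
        have hqH : (q' : G) ∈ H := pCoreOf_le H q'.2
        have huH : (u' : G) ∈ H := hTH (hQKT u'.2)
        have huq : (u' : G) ≠ (q' : G) := by
          intro h
          have h1 : (q' : G) ∈ pCoreOf 2 H ⊓ pCoreOf 2 K := ⟨q'.2, by rw [← h]; exact u'.2⟩
          rw [hD, Subgroup.mem_bot] at h1
          exact hq1 h1
        have huQH : (u' : G) ∉ pCoreOf 2 H := by
          intro h
          have h1 : (u' : G) ∈ pCoreOf 2 H ⊓ pCoreOf 2 K := ⟨h, u'.2⟩
          rw [hD, Subgroup.mem_bot] at h1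
          exact hu1 h1
        have hqc : ∀ x : ↥H, x * (⟨q', hqH⟩ : ↥H) = ⟨q', hqH⟩ * x := by
          intro x
          have h1 : (x : G) * q' * (x : G)⁻¹ ∈ pCoreOf 2 H := nz_self_pCoreOf H x x.2 q' q'.2
          have h2 : (⟨(x : G) * q' * (x : G)⁻¹, h1⟩ : ↥(pCoreOf 2 H)) = q' := by
            apply hq'u
            intro h
            have h3 : (x : G) * q' * (x : G)⁻¹ = 1 := congrArg Subtype.val h
            apply hq1
            calc (q' : G) = (x : G)⁻¹ * ((x : G) * q' * (x : G)⁻¹) * x := by group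
              _ = 1 := by rw [h3]; group
          have h3 : (x : G) * q' * (x : G)⁻¹ = q' := congrArg Subtype.val h2
          apply Subtype.ext
          show (x : G) * q' = q' * x
          calc (x : G) * q' = ((x : G) * q' * (x : G)⁻¹) * x := by group
            _ = q' * x := by rw [h3]
        apply equiv_D12 hcard12 (⟨q', hqH⟩ : ↥H) (⟨u', huH⟩ : ↥H)
        · intro h; exact hq1 (congrArg Subtype.val h)
        · exact Subtype.ext hq2
        · exact hqc
        · exact Subtype.ext hu2
        · intro h; exact hu1 (congrArg Subtype.val h)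
        · intro h; exact huq (congrArg Subtype.val h)
        · intro hn
          -- the closure would be a normal `2`-subgroup containing `u`
          obtain ⟨M', hM'⟩ : ∃ M' : Subgroup ↥H,
              M' = Subgroup.closure ({(⟨q', hqH⟩ : ↥H), (⟨u', huH⟩ : ↥H)} : Set ↥H) := ⟨_, rfl⟩
          rw [← hM'] at hn
          have hM'T : M' ≤ T.subgroupOf H := by
            rw [hM', Subgroup.closure_le]
            intro y hy
            rw [Set.mem_insert_iff, Set.mem_singleton_iff] at hy
            rcases hy with rfl | rfl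
            · exact Subgroup.mem_subgroupOf.mpr (hQHT q'.2)
            · exact Subgroup.mem_subgroupOf.mpr (hQKT u'.2)
          have hMT : M'.map H.subtype ≤ T := by
            rintro _ ⟨y, hy, rfl⟩
            exact Subgroup.mem_subgroupOf.mp (hM'T hy)
          have hnzM : Nz H (M'.map H.subtype) := by
            intro h hh x hx
            obtain ⟨y, hy, rfl⟩ := hx
            exact ⟨_, hn.conj_mem y hy ⟨h, hh⟩, rfl⟩
          have hle : M'.map H.subtype ≤ pCoreOf 2 H :=
            Cfsg.Agent.Lib.Helper7.le_pCoreIn (p := 2) (hMT.trans hTH) (hT2.to_le hMT)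
              hnzM.le_normalizer
          apply huQH
          apply hle
          refine ⟨⟨u', huH⟩, ?_, rfl⟩
          rw [hM']
          exact Subgroup.subset_closure (by simp)

end Cfsg.Agent.Lib.Helper8.Wg
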