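import Cfsg.Agent.Lib.Helper8.Sm2
import Cfsg.Agent.Lib.Helper8.Wg3

/-! Sims' theorem in local form: walks on the conjugates of `P` and the global contradiction for
`q ≥ 5`. -/

set_option autoImplicit false

open Cfsg
open Cfsg.Agent.Lib.Helper3.JC
open Cfsg.Agent.Lib.Helper7.Am

namespace Cfsg.Agent.Lib.Helper8.Sm

variable {G : Type*} [Group G]

/-- adjacency of two conjugates of `P`: the pair is conjugate to `(P, P^x)` or `(P^x, P)` -/
def Adj (P : Subgroup G) (x : G) (A B : Subgroup G) : Prop :=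
  ∃ h : G, (A = cj h P ∧ B = cj h (cj x P)) ∨ (A = cj h (cj x P) ∧ B = cj h P)

theorem Adj.symm {P : Subgroup G} {x : G} {A B : Subgroup G} (h : Adj P x A B) : Adj P x B A := by
  obtain ⟨g, h | h⟩ := h
  · exact ⟨g, Or.inr ⟨h.2, h.1⟩⟩
  · exact ⟨g, Or.inl ⟨h.2, h.1⟩⟩

theorem Adj.conj {P : Subgroup G} {x : G} {A B : Subgroup G} (h : Adj P x A B) (g : G) :
    Adj P x (cj g A) (cj g B) := by
  obtain ⟨k, h | h⟩ := h
  · exact ⟨g * k, Or.inl ⟨by rw [h.1, cj_mul], by rw [h.2, cj_mul]⟩⟩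
  · exact ⟨g * k, Or.inr ⟨by rw [h.1, cj_mul], by rw [h.2, cj_mul]⟩⟩

theorem Adj.left_conj {P : Subgroup G} {x : G} {A B : Subgroup G} (h : Adj P x A B) :
    ∃ k, A = cj k P := by
  obtain ⟨k, h | h⟩ := h
  · exact ⟨k, h.1⟩
  · exact ⟨k * x, by rw [h.1, cj_mul]⟩

theorem Adj.right_conj {P : Subgroup G} {x : G} {A B : Subgroup G} (h : Adj P x A B) :
    ∃ k, B = cj k P := h.symm.left_conj

theorem adj_base (P : Subgroup G) (x : G) : Adj P x P (cj x P) :=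
  ⟨1, Or.inl ⟨(cj_one P).symm, (cj_one _).symm⟩⟩

/-- walks of length `n` -/
def Wk (P : Subgroup G) (x : G) : ℕ → Subgroup G → Subgroup G → Prop
  | 0, A, B => A = B ∧ ∃ h, A = cj h P
  | (n + 1), A, B => ∃ C, Wk P x n A C ∧ Adj P x C B

theorem Wk.conj {P : Subgroup G} {x : G} (g : G) :
    ∀ (n : ℕ) {A B : Subgroup G}, Wk P x n A B → Wk P x n (cj g A) (cj g B)
  | 0, A, B, h => ⟨by rw [h.1], by
      obtain ⟨k, hk⟩ := h.2
      exact ⟨g * k, by rw [hk, cj_mul]⟩⟩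
  | (n + 1), A, B, h => by
      obtain ⟨C, h1, h2⟩ := h
      exact ⟨cj g C, Wk.conj g n h1, h2.conj g⟩

theorem Wk.left_conj {P : Subgroup G} {x : G} :
    ∀ (n : ℕ) {A B : Subgroup G}, Wk P x n A B → ∃ k, A = cj k P
  | 0, _, _, h => h.2
  | (n + 1), _, _, h => by
      obtain ⟨C, h1, _⟩ := h
      exact Wk.left_conj n h1

theorem Wk.right_conj {P : Subgroup G} {x : G} :
    ∀ (n : ℕ) {A B : Subgroup G}, Wk P x n A B → ∃ k, B = cj k P
  | 0, _, _, h => by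
      obtain ⟨k, hk⟩ := h.2
      exact ⟨k, by rw [← h.1, hk]⟩
  | (n + 1), _, _, h => by
      obtain ⟨C, _, h2⟩ := h
      exact h2.right_conj

theorem wk_cons {P : Subgroup G} {x : G} {A C : Subgroup G} (hAC : Adj P x A C) :
    ∀ (n : ℕ) {B : Subgroup G}, Wk P x n C B → Wk P x (n + 1) A B
  | 0, B, h => ⟨A, ⟨rfl, hAC.left_conj⟩, by rw [← h.1]; exact hAC⟩
  | (n + 1), B, h => by
      obtain ⟨D, h1, h2⟩ := h
      exact ⟨D, wk_cons hAC n h1, h2⟩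

theorem wk_head {P : Subgroup G} {x : G} {A : Subgroup G} :
    ∀ (n : ℕ) {B : Subgroup G}, Wk P x (n + 1) A B → ∃ C, Adj P x A C ∧ Wk P x n C B
  | 0, B, h => by
      obtain ⟨C, h1, h2⟩ := h
      refine ⟨B, by rw [h1.1]; exact h2, rfl, h2.right_conj⟩
  | (n + 1), B, h => by
      obtain ⟨D, h1, h2⟩ := h
      obtain ⟨C, h3, h4⟩ := wk_head n h1
      exact ⟨C, h3, D, h4, h2⟩

theorem wk_trans {P : Subgroup G} {x : G} {A B : Subgroup G} {m : ℕ} (hAB : Wk P x m A B) :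
    ∀ (n : ℕ) {C : Subgroup G}, Wk P x n B C → Wk P x (m + n) A C
  | 0, C, h => by rw [← h.1]; exact hAB
  | (n + 1), C, h => by
      obtain ⟨D, h1, h2⟩ := h
      exact ⟨D, wk_trans hAB n h1, h2⟩

theorem adj_Q {P : Subgroup G} {x : G} (hQ1 : pCoreOf 2 P ≤ cj x P)
    (hQ2 : pCoreOf 2 (cj x P) ≤ P) {C B : Subgroup G} (h : Adj P x C B) : pCoreOf 2 C ≤ B := by
  obtain ⟨k, h | h⟩ := h
  · rw [h.1, h.2, ← cj_pCoreOf]; exact cj_mono hQ1
  · rw [h.1, h.2, ← cj_pCoreOf]; exact cj_mono hQ2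

theorem walk_le [Finite G] {q : ℕ} (hq : q.Prime) (h5 : 5 ≤ q) {P : Subgroup G} {x : G}
    (hP : LQ q P) (hQ1 : pCoreOf 2 P ≤ cj x P) (hQ2 : pCoreOf 2 (cj x P) ≤ P) :
    ∀ (n : ℕ) (A B : Subgroup G), Wk P x n A B →
      omegaCenterOf (pCoreOf 2 A) ≤ pCoreOf 2 B ∧ omegaCenterOf (pCoreOf 2 B) ≤ pCoreOf 2 A := by
  intro n
  induction n with
  | zero =>
    intro A B h
    rw [← h.1]
    exact ⟨(omegaCenterOf_le _).trans inf_le_left, (omegaCenterOf_le _).trans inf_le_left⟩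
  | succ n ih =>
    intro A B h
    obtain ⟨kA, hkA⟩ := Wk.left_conj _ h
    obtain ⟨kB, hkB⟩ := Wk.right_conj _ h
    have hA : LQ q A := by rw [hkA]; exact hP.conj kA
    have hB : LQ q B := by rw [hkB]; exact hP.conj kB
    obtain ⟨C, hC1, hC2⟩ := h
    obtain ⟨C', hC1', hC2'⟩ := wk_head n (show Wk P x (n + 1) A B from ⟨C, hC1, hC2⟩)
    have hAB : omegaCenterOf (pCoreOf 2 A) ≤ B := (ih A C hC1).1.trans (adj_Q hQ1 hQ2 hC2)
    have hBA : omegaCenterOf (pCoreOf 2 B) ≤ A :=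
      (ih C' B hC2').2.trans (adj_Q hQ1 hQ2 hC1'.symm)
    constructor
    · by_contra hcon
      exact local_kill hq h5 hA hB hAB hBA hcon
    · by_contra hcon
      exact local_kill hq h5 hB hA hBA hAB hcon

/-- The global contradiction for `q ≥ 5`. -/
theorem sims_kill [Finite G] {q : ℕ} (hq : q.Prime) (h5 : 5 ≤ q) (P : Subgroup G) (x : G)
    (hP : LQ q P) (hQ1 : pCoreOf 2 P ≤ cj x P) (hQ2 : pCoreOf 2 (cj x P) ≤ P)
    (hgen : P ⊔ cj x P = ⊤) (hcore : ∀ N : Subgroup G, N.Normal → N ≤ P → N = ⊥) : False := by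
  set 𝒞 : Set (Subgroup G) := {B | ∃ n, Wk P x n P B} with h𝒞
  set N := sInf 𝒞 with hN
  have hP𝒞 : P ∈ 𝒞 := ⟨0, rfl, 1, (cj_one P).symm⟩
  have hNP : N ≤ P := sInf_le hP𝒞
  have hZN : omegaCenterOf (pCoreOf 2 P) ≤ N := by
    apply le_sInf
    rintro B ⟨n, hn⟩
    exact (walk_le hq h5 hP hQ1 hQ2 n P B hn).1.trans (pCoreOf_le B)
  have nz1 : Nz P N := by
    intro p hp n hn
    rw [hN, Subgroup.mem_sInf]
    rintro B ⟨k, hk⟩
    have h1 : Wk P x k P (cj p⁻¹ B) := by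
      have := Wk.conj p⁻¹ k hk
      rwa [cj_eq_self_of_mem (P.inv_mem hp)] at this
    have h2 : n ∈ cj p⁻¹ B := (Subgroup.mem_sInf.1 hn) _ ⟨k, h1⟩
    rw [mem_cj, inv_inv] at h2
    exact h2
  have nz2 : Nz (cj x P) N := by
    intro y hy n hn
    rw [hN, Subgroup.mem_sInf]
    rintro B ⟨k, hk⟩
    have hy' : y⁻¹ ∈ cj x P := (cj x P).inv_mem hy
    have h0 : Wk P x 1 P (cj x P) := ⟨P, ⟨rfl, 1, (cj_one P).symm⟩, adj_base P x⟩
    have hadj : Adj P x (cj x P) (cj y⁻¹ P) := by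
      have := (adj_base P x).symm.conj y⁻¹
      rwa [cj_eq_self_of_mem hy'] at this
    have h2 : Wk P x 2 P (cj y⁻¹ P) := ⟨cj x P, h0, hadj⟩
    have h3 : Wk P x (2 + k) P (cj y⁻¹ B) := wk_trans h2 k (Wk.conj y⁻¹ k hk)
    have h4 : n ∈ cj y⁻¹ B := (Subgroup.mem_sInf.1 hn) _ ⟨2 + k, h3⟩
    rw [mem_cj, inv_inv] at h4
    exact h4
  have nzT : Nz ⊤ N := by rw [← hgen]; exact Nz.sup_left nz1 nz2
  have hNn : N.Normal := ⟨fun n hn g => nzT g (Subgroup.mem_top g) n hn⟩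
  have hNbot : N = ⊥ := hcore N hNn hNP
  have hZbot : omegaCenterOf (pCoreOf 2 P) = ⊥ := by
    rw [eq_bot_iff, ← hNbot]; exact hZN
  have hQbot : pCoreOf 2 P = ⊥ := by
    by_contra hne
    exact Wg.omegaCenterOf_ne_bot (pCoreOf_isPGroup P) hne hZbot
  have hPbot : P ≤ ⊥ := by
    have := hP.cz
    rw [hZbot, hQbot] at this
    intro p hp
    have hc : p ∈ Subgroup.centralizer ((⊥ : Subgroup G) : Set G) := by
      rw [Subgroup.mem_centralizer_iff]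
      intro y hy
      rw [SetLike.mem_coe, Subgroup.mem_bot] at hy
      rw [hy, one_mul, mul_one]
    exact this ⟨hp, hc⟩
  have hidx := hP.idx
  rw [hQbot, Subgroup.relIndex_eq_one.2 hPbot] at hidx
  have := hq.two_le
  omega

end Cfsg.Agent.Lib.Helper8.Sm
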