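import Cfsg.Agent.Lib.Helper8.Sm3
import Cfsg.Agent.Lib.Helper7.PCore

/-! Sims' theorem in local form: type-level preparation. -/

set_option autoImplicit false

open Cfsg
open Cfsg.Agent.Lib.Helper3.JC
open Cfsg.Agent.Lib.Helper7.Am

namespace Cfsg.Agent.Lib.Helper8.Sm

theorem sylow_index {X : Type*} [Group X] [Finite X] {q : ℕ} (hq2 : ¬ 2 ∣ q)
    (N : Subgroup X) [N.Normal] (hN2 : IsPGroup 2 ↥N) (hidx : N.index = 2 * q) (S : Sylow 2 X) :
    (S : Subgroup X).index = q := by
  haveI : Fact (Nat.Prime 2) := ⟨Nat.prime_two⟩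
  have hNS : N ≤ S := hN2.le_sylow_of_normal S
  have h1 := Subgroup.relIndex_mul_index hNS
  rw [hidx] at h1
  obtain ⟨k, hk⟩ : ∃ k, N.relIndex S = 2 ^ k := S.isPGroup'.index (N.subgroupOf S)
  have h2 : ¬ 2 ∣ (S : Subgroup X).index := S.not_dvd_index
  rw [hk] at h1
  rcases k with _ | _ | k
  · exfalso; apply h2
    rw [pow_zero, one_mul] at h1
    rw [h1]; exact Dvd.intro _ rfl
  · rw [zero_add, pow_one] at h1
    exact Nat.eq_of_mul_eq_mul_left two_pos h1
  · exfalso; apply hq2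
    have e : 2 ^ (k + 1 + 1) * (S : Subgroup X).index = 2 * (2 * (2 ^ k * (S : Subgroup X).index)) := by
      ring
    rw [e] at h1
    have := Nat.eq_of_mul_eq_mul_left two_pos h1
    rw [← this]; exact Dvd.intro _ rfl

theorem sup_sylow_eq_top {X : Type*} [Group X] [Finite X] {q : ℕ} (hq : q.Prime) (hq2 : ¬ 2 ∣ q)
    (hidx : (pCore 2 X).index = 2 * q) (S : Sylow 2 X) (C : Subgroup X) [C.Normal]
    (hC : ¬ C ≤ pCore 2 X) : C ⊔ (S : Subgroup X) = ⊤ := by
  have hS := sylow_index hq2 (pCore 2 X) (Cfsg.Agent.Lib.Helper7.pCore_isPGroup 2 X) hidx S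
  have hle : (S : Subgroup X) ≤ C ⊔ S := le_sup_right
  have hdvd := Subgroup.index_dvd_of_le hle
  rw [hS] at hdvd
  rcases (Nat.dvd_prime hq).1 hdvd with h | h
  · exact Subgroup.index_eq_one.1 h
  · exfalso
    have h1 := Subgroup.card_mul_index (C ⊔ (S : Subgroup X))
    have h2 := Subgroup.card_mul_index (S : Subgroup X)
    rw [h] at h1; rw [hS] at h2
    have h3 : Nat.card ↥(C ⊔ (S : Subgroup X)) = Nat.card ↥(S : Subgroup X) :=
      Nat.eq_of_mul_eq_mul_right hq.pos (h1.trans h2.symm)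
    have h4 : (S : Subgroup X) = C ⊔ S := Subgroup.eq_of_le_of_card_ge hle (le_of_eq h3)
    have h5 : C ≤ S := by rw [h4]; exact le_sup_left
    exact hC (Cfsg.Agent.Lib.Helper7.le_pCore inferInstance (S.isPGroup'.to_le h5))

/-- `q = 2` is impossible. -/
theorem index_ne_four {X : Type*} [Group X] [Finite X] (hidx : (pCore 2 X).index = 4) : False := by
  have hN2 := Cfsg.Agent.Lib.Helper7.pCore_isPGroup 2 X
  obtain ⟨k, hk⟩ := hN2.exists_card_eq
  have h1 := Subgroup.card_mul_index (pCore 2 X)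
  rw [hidx, hk] at h1
  have hX : IsPGroup 2 X := IsPGroup.of_card (n := k + 2) (by rw [← h1]; ring)
  have h2 : (⊤ : Subgroup X) ≤ pCore 2 X :=
    Cfsg.Agent.Lib.Helper7.le_pCore inferInstance (hX.to_subgroup ⊤)
  have h3 : (pCore 2 X).index = 1 := Subgroup.index_eq_one.2 (top_le_iff.1 h2)
  omega

/-- a normal subgroup of order at most `2` is central -/
theorem central_of_card_le_two {X : Type*} [Group X] (N : Subgroup X) [N.Normal] [Finite ↥N]
    (h : Nat.card ↥N ≤ 2) : ∀ n ∈ N, ∀ g : X, g * n = n * g := by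
  intro n hn g
  by_cases h1 : n = 1
  · rw [h1, mul_one, one_mul]
  have hc : g * n * g⁻¹ ∈ N := ‹N.Normal›.conj_mem n hn g
  by_contra hne
  have hne' : g * n * g⁻¹ ≠ n := by
    intro h2
    apply hne
    calc g * n = g * n * g⁻¹ * g := by group
      _ = n * g := by rw [h2]
  have hne1 : g * n * g⁻¹ ≠ 1 := by
    intro h2
    apply h1
    calc n = g⁻¹ * (g * n * g⁻¹) * g := by group
      _ = 1 := by rw [h2]; group
  have h3 : 3 ≤ Nat.card ↥N := by
    classical
    haveI := Fintype.ofFinite ↥N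
    rw [Nat.card_eq_fintype_card]
    have : ({⟨1, N.one_mem⟩, ⟨n, hn⟩, ⟨g * n * g⁻¹, hc⟩} : Finset ↥N).card = 3 := by
      rw [Finset.card_insert_of_notMem, Finset.card_insert_of_notMem, Finset.card_singleton]
      · simp only [Finset.mem_singleton, Subtype.mk.injEq]
        exact fun h => hne' h.symm
      · simp only [Finset.mem_insert, Finset.mem_singleton, Subtype.mk.injEq, not_or]
        exact ⟨fun h => h1 h.symm, fun h => hne1 h.symm⟩
    rw [← this]
    exact Finset.card_le_univ _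
  omega

end Cfsg.Agent.Lib.Helper8.Sm
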