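import Cfsg.Agent.Lib.Helper8.Sm4

/-! Sims' theorem in local form: the final assembly. -/

set_option autoImplicit false

open Cfsg
open Cfsg.Agent.Lib.Helper3.JC
open Cfsg.Agent.Lib.Helper7.Am

namespace Cfsg.Agent.Lib.Helper8.Sm

variable {H : Type*} [Group H]

theorem mem_pCoreOf_iff (G : Subgroup H) (y : ↥G) : y ∈ pCore 2 ↥G ↔ (y : H) ∈ pCoreOf 2 G := by
  constructor
  · intro h; exact ⟨y, h, rfl⟩
  · rintro ⟨z, hz, hzy⟩
    have : z = y := Subtype.ext hzy
    rwa [← this]

theorem pCoreOf_subgroupOf (G : Subgroup H) : (pCoreOf 2 G).subgroupOf G = pCore 2 ↥G := by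
  ext y
  rw [Subgroup.mem_subgroupOf, mem_pCoreOf_iff]

theorem map_subgroupOf (G : Subgroup H) (K : Subgroup ↥G) : (K.map G.subtype).subgroupOf G = K :=
  Subgroup.comap_map_eq_self_of_injective G.subtype_injective K

/-- transport of `C_G(O₂(G)) ≤ O₂(G)` to the ambient group -/
theorem cent_amb (G : Subgroup H)
    (hchar : Subgroup.centralizer (Cfsg.pCore 2 ↥G : Set ↥G) ≤ Cfsg.pCore 2 ↥G) :
    G ⊓ Subgroup.centralizer (pCoreOf 2 G : Set H) ≤ pCoreOf 2 G := by
  rintro y ⟨hyG, hyc⟩
  have h1 : (⟨y, hyG⟩ : ↥G) ∈ Subgroup.centralizer (Cfsg.pCore 2 ↥G : Set ↥G) := by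
    rw [Subgroup.mem_centralizer_iff]
    intro n hn
    apply Subtype.ext
    exact Subgroup.mem_centralizer_iff.1 hyc (n : H) ((mem_pCoreOf_iff G n).1 hn)
  exact (mem_pCoreOf_iff G ⟨y, hyG⟩).1 (hchar h1)

/-- `Ω₁Z(S) ≤ Ω₁Z(O₂(G))` for `O₂(G) ≤ S ≤ G` -/
theorem omega_le {G S' : Subgroup H} (hcent : G ⊓ Subgroup.centralizer (pCoreOf 2 G : Set H) ≤ pCoreOf 2 G)
    (hQS : pCoreOf 2 G ≤ S') (hSG : S' ≤ G) : omegaCenterOf S' ≤ omegaCenterOf (pCoreOf 2 G) := by
  unfold omegaCenterOf omegaOne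
  rw [Subgroup.closure_le]
  rintro z ⟨hz, hz2⟩
  have hzS : z ∈ S' := hz.1
  have hzc : z ∈ Subgroup.centralizer (S' : Set H) := hz.2
  have hzcQ : z ∈ Subgroup.centralizer (pCoreOf 2 G : Set H) := by
    rw [Subgroup.mem_centralizer_iff] at hzc ⊢
    intro y hy
    exact hzc y (hQS hy)
  have hzQ : z ∈ pCoreOf 2 G := hcent ⟨hSG hzS, hzcQ⟩
  exact Subgroup.subset_closure ⟨⟨hzQ, hzcQ⟩, hz2⟩

theorem sims_local [Finite H] [IsSimpleGroup H] (hna : ¬ IsMulCommutative H)
    (G : Subgroup H) (hG : IsCoatom G)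
    (hchar : Subgroup.centralizer (Cfsg.pCore 2 ↥G : Set ↥G) ≤ Cfsg.pCore 2 ↥G) (S : Sylow 2 ↥G)
    (hN : ¬ Subgroup.normalizer (((S : Subgroup ↥G).map G.subtype : Subgroup H) : Set H) ≤ G)
    (q : ℕ) (hq : q.Prime) (hcard : (Cfsg.pCore 2 ↥G).index = 2 * q) :
    Nonempty (↥G ≃* Equiv.Perm (Fin 4)) ∨
      Nonempty (↥G ≃* Equiv.Perm (Fin 4) × Multiplicative (ZMod 2)) := by
  -- `q ≠ 2`
  have hq2 : ¬ 2 ∣ q := by
    intro h
    have : 2 = q := (Nat.prime_dvd_prime_iff_eq Nat.prime_two hq).1 h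
    subst this
    exact index_ne_four hcard
  have hN2 : IsPGroup 2 ↥(pCore 2 ↥G) := Cfsg.Agent.Lib.Helper7.pCore_isPGroup 2 ↥G
  obtain ⟨k, hk⟩ := hN2.exists_card_eq
  have hcardG : Nat.card ↥G = 2 ^ k * (2 * q) := by
    rw [← hk, ← hcard]; exact (Subgroup.card_mul_index _).symm
  have hkpos : 1 ≤ 2 ^ k := Nat.one_le_two_pow
  have hqpos : 2 ≤ q := hq.two_le
  have hidx : (pCoreOf 2 G).relIndex G = 2 * q := by
    rw [← hcard]
    show ((pCoreOf 2 G).subgroupOf G).index = _
    rw [pCoreOf_subgroupOf]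
  have hcent := cent_amb G hchar
  -- the element `x`
  obtain ⟨x, hxN, hxG⟩ := SetLike.not_le_iff_exists.1 hN
  set S' : Subgroup H := (S : Subgroup ↥G).map G.subtype with hS'
  have hxS : cj x S' = S' := cj_eq_self hxN
  have hQS : pCoreOf 2 G ≤ S' := Subgroup.map_mono (Cfsg.Agent.Lib.Helper7.pCore_le_sylow S)
  have hSG : S' ≤ G := Subgroup.map_subtype_le _
  have hSxG : S' ≤ cj x G := by rw [← hxS]; exact cj_mono hSG
  have hQ1 : pCoreOf 2 G ≤ cj x G := hQS.trans hSxG
  have hQ2 : pCoreOf 2 (cj x G) ≤ G := by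
    rw [← cj_pCoreOf]
    exact (cj_mono hQS).trans (hxS.le.trans hSG)
  have hS2 : IsPGroup 2 ↥S' := S.isPGroup'.map _
  -- simplicity
  have hcore : ∀ M : Subgroup H, M.Normal → M ≤ G → M = ⊥ := by
    intro M hM hMG
    rcases hM.eq_bot_or_eq_top with h | h
    · exact h
    · exfalso; rw [h] at hMG; exact hG.1 (top_le_iff.1 hMG)
  have hGbot : G ≠ ⊥ := by
    intro h
    have : Nat.card ↥G = 1 := by rw [h]; exact Subgroup.card_bot
    rw [hcardG] at this
    nlinarith
  have hxGne : cj x G ≠ G := by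
    intro h
    have hxn : x ∈ Subgroup.normalizer (G : Set H) := mem_normalizer_of_cj_eq h
    have hle : G ≤ Subgroup.normalizer (G : Set H) := Subgroup.le_normalizer
    rcases eq_or_lt_of_le hle with h1 | h1
    · rw [← h1] at hxn; exact hxG hxn
    · have h2 := hG.2 _ h1
      have hn : G.Normal := Subgroup.normalizer_eq_top_iff.1 h2
      rcases hn.eq_bot_or_eq_top with h3 | h3
      · exact hGbot h3
      · exact hG.1 h3
  have hgen : G ⊔ cj x G = ⊤ := by
    by_contra hne
    have h1 : G ⊔ cj x G = G := by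
      by_contra h2
      exact hne (hG.2 _ (lt_of_le_of_ne le_sup_left (Ne.symm h2)))
    have h2 : cj x G ≤ G := le_sup_right.trans h1.le
    exact hxGne (Subgroup.eq_of_le_of_card_ge h2 (le_of_eq (card_cj x G).symm))
  have hSidx : S'.relIndex G = q := by
    show (S'.subgroupOf G).index = q
    rw [hS', map_subgroupOf]
    exact sylow_index hq2 (pCore 2 ↥G) hN2 hcard S
  rcases Nat.lt_or_ge q 5 with hlt | h5
  · -- `q = 3`
    have hq3 : q = 3 := by
      have : q ≠ 4 := by rintro rfl; exact hq2 ⟨2, rfl⟩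
      have : q ≠ 2 := by rintro rfl; exact hq2 ⟨1, rfl⟩
      omega
    subst hq3
    have hTG : (G ⊓ cj x G).relIndex G = 3 := by
      have h1 := Subgroup.relIndex_mul_relIndex S' (G ⊓ cj x G) G (le_inf hSG hSxG) inf_le_left
      rw [hSidx] at h1
      have h2 : (G ⊓ cj x G).relIndex G ∣ 3 := Dvd.intro_left _ h1
      rcases (Nat.dvd_prime Nat.prime_three).1 h2 with h3 | h3
      · exfalso
        have h4 : G ≤ G ⊓ cj x G := Subgroup.relIndex_eq_one.1 h3
        have h5 : G ≤ cj x G := h4.trans inf_le_right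
        exact hxGne (Subgroup.eq_of_le_of_card_ge h5 (le_of_eq (card_cj x G))).symm
      · exact h3
    have hw := Wg.wong G (cj x G) x rfl hTG (by
      intro M hM h1 h2
      have nzT : Nz ⊤ M := by rw [← hgen]; exact Nz.sup_left h1 h2
      exact hcore M ⟨fun n hn g => nzT g (Subgroup.mem_top g) n hn⟩ (hM.trans inf_le_left))
    rcases hw with ⟨⟨e⟩⟩ | ⟨⟨e⟩⟩ | ⟨⟨e⟩⟩ | h | h
    · exfalso
      have h1 : 2 ^ k * (2 * 3) = 3 := by
        rw [← hcardG, Nat.card_congr e.toEquiv]; simp
      omega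
    · exfalso
      have h1 : 2 ^ k * (2 * 3) = 6 := by
        rw [← hcardG, Nat.card_congr e.toEquiv, Nat.card_perm, Nat.card_fin]; rfl
      have h2 : Nat.card ↥(pCore 2 ↥G) = 1 := by rw [hk]; omega
      have h3 := central_of_card_le_two (pCore 2 ↥G) (by omega)
      have h4 : (⊤ : Subgroup ↥G) ≤ pCore 2 ↥G := by
        intro y _
        apply hchar
        rw [Subgroup.mem_centralizer_iff]
        intro n hn
        exact (h3 n hn y).symm
      have h5 := Subgroup.card_le_of_le h4
      rw [Subgroup.card_top, hcardG, h2] at h5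
      omega
    · exfalso
      have h1 : 2 ^ k * (2 * 3) = 12 := by
        rw [← hcardG, Nat.card_congr e.toEquiv, DihedralGroup.nat_card]
      have h2 : Nat.card ↥(pCore 2 ↥G) = 2 := by rw [hk]; omega
      have h3 := central_of_card_le_two (pCore 2 ↥G) (by omega)
      have h4 : (⊤ : Subgroup ↥G) ≤ pCore 2 ↥G := by
        intro y _
        apply hchar
        rw [Subgroup.mem_centralizer_iff]
        intro n hn
        exact (h3 n hn y).symm
      have h5 := Subgroup.card_le_of_le h4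
      rw [Subgroup.card_top, hcardG, h2] at h5
      omega
    · exact Or.inl h
    · exact Or.inr h
  · -- `q ≥ 5`
    exfalso
    have nzGQ : Nz G (pCoreOf 2 G) := nz_self_pCoreOf G
    have nzGV : Nz G (omegaCenterOf (pCoreOf 2 G)) := nz_omegaCenterOf nzGQ
    have hLQ : LQ q G := by
      refine ⟨hidx, ?_⟩
      by_contra hcon
      set C := G ⊓ Subgroup.centralizer (omegaCenterOf (pCoreOf 2 G) : Set H) with hC
      have nzGC : Nz G C := Nz.inf (nz_self G) nzGV.centralizer
      have hCn : (C.subgroupOf G).Normal :=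
        (Subgroup.normal_subgroupOf_iff_le_normalizer inf_le_left).2 nzGC.le_normalizer
      have hCN : ¬ C.subgroupOf G ≤ pCore 2 ↥G := by
        intro h
        apply hcon
        intro y hy
        have := h (show (⟨y, hy.1⟩ : ↥G) ∈ C.subgroupOf G from Subgroup.mem_subgroupOf.2 hy)
        exact (mem_pCoreOf_iff G ⟨y, hy.1⟩).1 this
      have htop := sup_sylow_eq_top hq hq2 hcard S (C.subgroupOf G) hCN
      -- `G` centralizes `Ω₁Z(S')`
      have hZle := omega_le hcent hQS hSG
      have hK1 : C.subgroupOf G ≤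
          (Subgroup.centralizer (omegaCenterOf S' : Set H)).subgroupOf G := by
        intro y hy
        rw [Subgroup.mem_subgroupOf] at hy ⊢
        exact Subgroup.centralizer_le (SetLike.coe_subset_coe.2 hZle) hy.2
      have hK2 : (S : Subgroup ↥G) ≤
          (Subgroup.centralizer (omegaCenterOf S' : Set H)).subgroupOf G := by
        intro y hy
        rw [Subgroup.mem_subgroupOf, Subgroup.mem_centralizer_iff]
        intro z hz
        have hyS : (y : H) ∈ S' := ⟨y, hy, rfl⟩
        exact (Subgroup.mem_centralizer_iff.1 ((omegaCenterOf_le S' hz).2) y hyS).symm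
      have hK : (⊤ : Subgroup ↥G) ≤
          (Subgroup.centralizer (omegaCenterOf S' : Set H)).subgroupOf G := by
        rw [← htop]; exact sup_le hK1 hK2
      have hGc : G ≤ Subgroup.centralizer (omegaCenterOf S' : Set H) := by
        intro y hy
        exact Subgroup.mem_subgroupOf.1 (hK (Subgroup.mem_top (⟨y, hy⟩ : ↥G)))
      have hGc' : cj x G ≤ Subgroup.centralizer (omegaCenterOf S' : Set H) := by
        have := cj_mono (g := x) hGc
        rwa [cj_centralizer, cj_omegaCenterOf, hxS] at this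
      have hall : (⊤ : Subgroup H) ≤ Subgroup.centralizer (omegaCenterOf S' : Set H) := by
        rw [← hgen]; exact sup_le hGc hGc'
      have hZc : omegaCenterOf S' ≤ Subgroup.center H := by
        intro z hz
        rw [Subgroup.mem_center_iff]
        intro g
        exact Subgroup.mem_centralizer_iff.1 (hall (Subgroup.mem_top g)) z hz |>.symm
      have hcen : Subgroup.center H = ⊥ := by
        rcases (inferInstance : (Subgroup.center H).Normal).eq_bot_or_eq_top with h | h
        · exact h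
        · exact absurd (Subgroup.center_eq_top_iff.1 h) hna
      have hZbot : omegaCenterOf S' = ⊥ := by rw [eq_bot_iff, ← hcen]; exact hZc
      have hSbot : S' = ⊥ := by
        by_contra hne
        exact Wg.omegaCenterOf_ne_bot hS2 hne hZbot
      have h1 := Ph.card_eq_mul_relIndex hSG
      rw [hSidx, hSbot, Subgroup.card_bot, hcardG] at h1
      nlinarith
    exact sims_kill hq h5 G x hLQ hQ1 hQ2 hgen hcore

end Cfsg.Agent.Lib.Helper8.Sm
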