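import Cfsg.Agent.Lib.Helper8.SpA1

set_option autoImplicit false

/-! Invariant subspaces, orthogonal complements, and the reducible case for the symplectic group. -/

namespace Cfsg.Agent.Lib.Helper8.Asch

open Module Matrix
open Cfsg.Geo

variable {ι : Type} [Fintype ι] [DecidableEq ι] {F : Type*} [Field F]

theorem inv_mulVec_mulVec (g : GL ι F) (v : ι → F) :
    ((g⁻¹ : GL ι F) : Matrix ι ι F) *ᵥ ((g : Matrix ι ι F) *ᵥ v) = v := by
  rw [Matrix.mulVec_mulVec, ← Units.val_mul, inv_mul_cancel, Units.val_one, Matrix.one_mulVec]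

theorem mulVec_inv_mulVec (g : GL ι F) (v : ι → F) :
    (g : Matrix ι ι F) *ᵥ (((g⁻¹ : GL ι F) : Matrix ι ι F) *ᵥ v) = v := by
  rw [Matrix.mulVec_mulVec, ← Units.val_mul, mul_inv_cancel, Units.val_one, Matrix.one_mulVec]

theorem le_subspaceStabilizer (H : Subgroup (GL ι F)) (W : Submodule F (ι → F))
    (hW : ∀ h ∈ H, ∀ w ∈ W, (h : Matrix ι ι F) *ᵥ w ∈ W) : H ≤ subspaceStabilizer W := by
  intro g hg v
  constructor
  · intro hv
    exact hW g hg v hv
  · intro hv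
    have h2 := hW g⁻¹ (H.inv_mem hg) _ hv
    have e : ((g⁻¹ : GL ι F) : Matrix ι ι F) *ᵥ ((glToMat ι F) g *ᵥ v) = v :=
      inv_mulVec_mulVec g v
    rwa [e] at h2

theorem map_eq_of_invariant (H : Subgroup (GL ι F)) (W : Submodule F (ι → F))
    (hW : ∀ h ∈ H, ∀ w ∈ W, (h : Matrix ι ι F) *ᵥ w ∈ W) {h : GL ι F} (hh : h ∈ H) :
    W.map (Matrix.toLin' (h : Matrix ι ι F)) = W := by
  apply le_antisymm
  · rintro _ ⟨w, hw, rfl⟩
    rw [Matrix.toLin'_apply]
    exact hW h hh w hw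
  · intro w hw
    refine ⟨((h⁻¹ : GL ι F) : Matrix ι ι F) *ᵥ w, hW _ (H.inv_mem hh) w hw, ?_⟩
    rw [Matrix.toLin'_apply, mulVec_inv_mulVec]

/-- isometries of a function-form -/
def Isom (f : (ι → F) → (ι → F) → F) (H : Subgroup (GL ι F)) : Prop :=
  ∀ h ∈ H, ∀ u v, f ((h : Matrix ι ι F) *ᵥ u) ((h : Matrix ι ι F) *ᵥ v) = f u v

theorem Isom.apply_inv {f : (ι → F) → (ι → F) → F} {H : Subgroup (GL ι F)} (hH : Isom f H)
    {h : GL ι F} (hh : h ∈ H) (u v : ι → F) :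
    f ((h : Matrix ι ι F) *ᵥ u) v = f u (((h⁻¹ : GL ι F) : Matrix ι ι F) *ᵥ v) := by
  have := hH h hh u (((h⁻¹ : GL ι F) : Matrix ι ι F) *ᵥ v)
  rw [mulVec_inv_mulVec] at this
  exact this

theorem Isom.apply_inv' {f : (ι → F) → (ι → F) → F} {H : Subgroup (GL ι F)} (hH : Isom f H)
    {h : GL ι F} (hh : h ∈ H) (u v : ι → F) :
    f u ((h : Matrix ι ι F) *ᵥ v) = f (((h⁻¹ : GL ι F) : Matrix ι ι F) *ᵥ u) v := by
  have := hH h hh (((h⁻¹ : GL ι F) : Matrix ι ι F) *ᵥ u) v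
  rw [mulVec_inv_mulVec] at this
  exact this

theorem perp_invariant {f : (ι → F) → (ι → F) → F} (hf : IsBilinearForm f)
    {H : Subgroup (GL ι F)} (hH : Isom f H) (W : Submodule F (ι → F))
    (hW : ∀ h ∈ H, ∀ w ∈ W, (h : Matrix ι ι F) *ᵥ w ∈ W) :
    ∀ h ∈ H, ∀ w ∈ (toBilin hf).orthogonal W, (h : Matrix ι ι F) *ᵥ w ∈ (toBilin hf).orthogonal W := by
  intro h hh w hw u hu
  show toBilin hf u ((h : Matrix ι ι F) *ᵥ w) = 0
  rw [toBilin_apply, hH.apply_inv' hh]
  exact hw _ (hW _ (H.inv_mem hh) u hu)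

theorem nondegOn_of_disjoint {f : (ι → F) → (ι → F) → F} (hf : IsSymplecticForm f)
    (W : Submodule F (ι → F)) (hd : Disjoint W ((toBilin hf.bilinear).orthogonal W)) :
    IsNondegenerateOn f W := by
  intro w hw hw0
  have key : ∃ x ∈ W, f x w ≠ 0 := by
    by_contra hcon
    push Not at hcon
    apply hw0
    have : w ∈ W ⊓ (toBilin hf.bilinear).orthogonal W := ⟨hw, fun x hx => hcon x hx⟩
    rw [hd.eq_bot] at this
    exact (Submodule.mem_bot F).mp this
  obtain ⟨x, hx, hxw⟩ := key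
  refine ⟨⟨x, hx, hxw⟩, ⟨x, hx, ?_⟩⟩
  rw [hf.skew]
  exact neg_ne_zero.mpr hxw

theorem isMDecomposition_pair {m : ℕ} (hm : 0 < m) (W W' : Submodule F (ι → F)) (hc : IsCompl W W')
    (h1 : finrank F W = m) (h2 : finrank F W' = m) :
    IsMDecomposition m ![W, W'] := by
  refine ⟨le_refl _, hm, ?_, ?_, ?_⟩
  · intro i
    fin_cases i
    · exact h1
    · exact h2
  · intro i
    fin_cases i
    · show Disjoint W (⨆ j, ⨆ (_ : j ≠ 0), ![W, W'] j)
      have : (⨆ j, ⨆ (_ : j ≠ (0 : Fin 2)), ![W, W'] j) = W' := by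
        apply le_antisymm
        · refine iSup_le fun j => iSup_le fun hj => ?_
          fin_cases j
          · exact absurd rfl hj
          · exact le_refl _
        · exact le_iSup₂_of_le (1 : Fin 2) (by decide) (le_refl _)
      rw [this]
      exact hc.disjoint
    · show Disjoint W' (⨆ j, ⨆ (_ : j ≠ 1), ![W, W'] j)
      have : (⨆ j, ⨆ (_ : j ≠ (1 : Fin 2)), ![W, W'] j) = W := by
        apply le_antisymm
        · refine iSup_le fun j => iSup_le fun hj => ?_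
          fin_cases j
          · exact le_refl _
          · exact absurd rfl hj
        · exact le_iSup₂_of_le (0 : Fin 2) (by decide) (le_refl _)
      rw [this]
      exact hc.disjoint.symm
  · rw [eq_top_iff, ← hc.sup_eq_top]
    apply sup_le
    · exact le_iSup (fun i => ![W, W'] i) 0
    · exact le_iSup (fun i => ![W, W'] i) 1

theorem le_decompositionStabilizer_of_invariant {t : ℕ} (H : Subgroup (GL ι F))
    (D : Fin t → Submodule F (ι → F))
    (hD : ∀ i, ∀ h ∈ H, ∀ w ∈ D i, (h : Matrix ι ι F) *ᵥ w ∈ D i) :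
    H ≤ decompositionStabilizer D := by
  intro h hh
  exact ⟨1, fun i => map_eq_of_invariant H (D i) (hD i) hh⟩

end Cfsg.Agent.Lib.Helper8.Asch
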