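import Cfsg.Agent.Lib.Helper8.SpA2
import Cfsg.Agent.Lib.Helper8.SpA0

set_option autoImplicit false

/-! The reducible case for the symplectic group: classes 1 and 2. -/

namespace Cfsg.Agent.Lib.Helper8.Asch

open Module Matrix
open Cfsg.Geo

variable {F : Type*} [Field F] [Fintype F]

theorem isom_of_le_spGL {m : ℕ} {H : Subgroup (GL (Fin m ⊕ Fin m) F)} (hH : H ≤ spGL m F) :
    Isom (sympForm m F) H := fun h hh => hH hh

theorem sp_reducible (m : ℕ) (hm : 1 ≤ m) (H : Subgroup (GL (Fin m ⊕ Fin m) F)) (hH : H ≤ spGL m F)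
    (W : Submodule F (Fin m ⊕ Fin m → F)) (hbot : W ≠ ⊥) (htop : W ≠ ⊤)
    (hW : ∀ h ∈ H, ∀ w ∈ W, (h : Matrix _ _ F) *ᵥ w ∈ W) :
    ∃ M : Subgroup (GL (Fin m ⊕ Fin m) F), ISPC m F M ∧ H ≤ M := by
  have hf := isSymplecticForm_sympForm (F := F) m
  have hiso := isom_of_le_spGL hH
  set B := toBilin hf.bilinear with hBdef
  have hBnd : B.Nondegenerate := toBilin_nondegenerate hf.bilinear hf.nondegenerate
  have hBr : B.IsRefl := toBilin_isRefl hf
  set W' := B.orthogonal W with hW'
  have hW'inv : ∀ h ∈ H, ∀ w ∈ W', (h : Matrix _ _ F) *ᵥ w ∈ W' := perp_invariant hf.bilinear hiso W hW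
  by_cases hR : W ⊓ W' = ⊥
  swap
  · -- totally singular radical
    refine ⟨subspaceStabilizer (W ⊓ W') ⊓ spGL m F, Or.inl ⟨W ⊓ W', hR, ?_, rfl⟩, ?_⟩
    · intro u hu v hv
      exact hv.2 u hu.1
    · refine le_inf (le_subspaceStabilizer H _ ?_) hH
      intro h hh w hw
      exact ⟨hW h hh w hw.1, hW'inv h hh w hw.2⟩
  have hdisj : Disjoint W W' := disjoint_iff.mpr hR
  have hcompl : IsCompl W W' := (LinearMap.BilinForm.isCompl_orthogonal_iff_disjoint hBr).mpr hdisj
  have hWnd : IsNondegenerateOn (sympForm m F) W := nondegOn_of_disjoint hf W hdisj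
  have hW'' : B.orthogonal W' = W := LinearMap.BilinForm.orthogonal_orthogonal hBnd hBr W
  have hdisj' : Disjoint W' (B.orthogonal W') := by rw [hW'']; exact hdisj.symm
  have hW'nd : IsNondegenerateOn (sympForm m F) W' := nondegOn_of_disjoint hf W' hdisj'
  have hdim : finrank F W + finrank F W' = m + m := by
    have := Submodule.finrank_add_eq_of_isCompl hcompl
    rw [this, Module.finrank_pi, Fintype.card_sum, Fintype.card_fin]
  have hW'bot : W' ≠ ⊥ := by
    intro h0
    apply htop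
    have := hcompl.sup_eq_top
    rwa [h0, sup_bot_eq] at this
  by_cases h1 : finrank F W < m
  · refine ⟨subspaceStabilizer W ⊓ spGL m F, Or.inr (Or.inl ⟨W, hbot, hWnd, h1, rfl⟩), ?_⟩
    exact le_inf (le_subspaceStabilizer H _ hW) hH
  by_cases h2 : finrank F W' < m
  · refine ⟨subspaceStabilizer W' ⊓ spGL m F, Or.inr (Or.inl ⟨W', hW'bot, hW'nd, h2, rfl⟩), ?_⟩
    exact le_inf (le_subspaceStabilizer H _ hW'inv) hH
  have e1 : finrank F W = m := by omega
  have e2 : finrank F W' = m := by omega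
  refine ⟨decompositionStabilizer ![W, W'] ⊓ spGL m F,
    Or.inr (Or.inr (Or.inl ⟨2, m, ![W, W'], ⟨isMDecomposition_pair hm W W' hcompl e1 e2, ?_, ?_⟩, rfl⟩)), ?_⟩
  · intro i
    fin_cases i
    · exact hWnd
    · exact hW'nd
  · intro i j hij
    fin_cases i <;> fin_cases j
    · exact absurd rfl hij
    · intro u hu v hv
      exact hv u hu
    · intro u hu v hv
      show sympForm m F u v = 0
      rw [hf.skew, neg_eq_zero]
      exact hu v hv
    · exact absurd rfl hij
  · refine le_inf (le_decompositionStabilizer_of_invariant H _ ?_) hH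
    intro i
    fin_cases i
    · exact hW
    · exact hW'inv

end Cfsg.Agent.Lib.Helper8.Asch
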