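import Cfsg.Agent.Lib.Helper8.SpB1
import Cfsg.Agent.Lib.Helper8.Asch7
import Cfsg.Agent.Lib.Helper8.Asch29

set_option autoImplicit false

/-! Adjoint-closed subalgebras for an ε-symmetric form; orthogonal complements of isotypic
components are sums of isotypic components. -/

namespace Cfsg.Agent.Lib.Helper8.Asch

open Module

variable {F : Type*} [Field F] {V : Type*} [AddCommGroup V] [Module F V]

/-- a non-degenerate bilinear form with `B x y = ε B y x` -/
structure EpsForm (B : LinearMap.BilinForm F V) (ε : F) : Prop where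
  nondeg : B.Nondegenerate
  symm : ∀ x y, B x y = ε * B y x
  sq : ε * ε = 1

theorem EpsForm.isRefl {B : LinearMap.BilinForm F V} {ε : F} (hB : EpsForm B ε) : B.IsRefl := by
  intro x y h
  rw [hB.symm, h, mul_zero]

/-- every element of `A` has an adjoint in `A` -/
def AdjClosed (B : LinearMap.BilinForm F V) (A : Subalgebra F (Module.End F V)) : Prop :=
  ∀ a ∈ A, ∃ a' ∈ A, ∀ u v, B (a u) v = B u (a' v)

theorem AdjClosed.flip {B : LinearMap.BilinForm F V} {ε : F} (hB : EpsForm B ε)
    {A : Subalgebra F (Module.End F V)} (hA : AdjClosed B A) :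
    ∀ a ∈ A, ∃ a' ∈ A, ∀ u v, B u (a v) = B (a' u) v := by
  intro a ha
  obtain ⟨a', ha', h⟩ := hA a ha
  refine ⟨a', ha', fun u v => ?_⟩
  rw [hB.symm u (a v), h, hB.symm v (a' u), ← mul_assoc, hB.sq, one_mul]

/-- isometries -/
def IsomV (B : LinearMap.BilinForm F V) (H : Subgroup (GLV F V)) : Prop :=
  ∀ h ∈ H, ∀ u v, B ((h : Module.End F V) u) ((h : Module.End F V) v) = B u v

theorem adjClosed_algOf {B : LinearMap.BilinForm F V} {N : Subgroup (GLV F V)}
    (hN : IsomV B N) : AdjClosed B (algOf N) := by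
  intro a ha
  unfold algOf at ha ⊢
  induction ha using Algebra.adjoin_induction with
  | mem x hx =>
    obtain ⟨g, hg, rfl⟩ := hx
    refine ⟨((g⁻¹ : GLV F V) : Module.End F V), Algebra.subset_adjoin ⟨g⁻¹, N.inv_mem hg, rfl⟩, ?_⟩
    intro u v
    have := hN g hg u (((g⁻¹ : GLV F V) : Module.End F V) v)
    rw [apply_inv_apply] at this
    exact this
  | algebraMap c =>
    refine ⟨algebraMap F _ c, Subalgebra.algebraMap_mem _ c, fun u v => ?_⟩
    rw [Module.algebraMap_end_apply, Module.algebraMap_end_apply, map_smul, LinearMap.smul_apply,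
      map_smul]
  | add x y _ _ hx hy =>
    obtain ⟨x', hx', h1⟩ := hx
    obtain ⟨y', hy', h2⟩ := hy
    refine ⟨x' + y', Subalgebra.add_mem _ hx' hy', fun u v => ?_⟩
    rw [LinearMap.add_apply, LinearMap.add_apply, map_add, LinearMap.add_apply, h1, h2, map_add]
  | mul x y _ _ hx hy =>
    obtain ⟨x', hx', h1⟩ := hx
    obtain ⟨y', hy', h2⟩ := hy
    refine ⟨y' * x', Subalgebra.mul_mem _ hy' hx', fun u v => ?_⟩
    rw [Module.End.mul_apply, Module.End.mul_apply, h1, h2]

/-- the orthogonal complement of an `A`-submodule, as an `A`-submodule -/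
def perpA {B : LinearMap.BilinForm F V} {ε : F} (hB : EpsForm B ε)
    {A : Subalgebra F (Module.End F V)} (hA : AdjClosed B A) (C : Submodule A V) :
    Submodule A V where
  carrier := {v | ∀ u ∈ C, B u v = 0}
  add_mem' := by
    intro x y hx hy u hu
    rw [map_add, hx u hu, hy u hu, add_zero]
  zero_mem' := by
    intro u _
    rw [map_zero]
  smul_mem' := by
    intro a v hv u hu
    obtain ⟨a', ha', h⟩ := hA.flip hB a.1 a.2
    show B u (a.1 v) = 0
    rw [h]
    exact hv _ (C.smul_mem ⟨a', ha'⟩ hu)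

theorem mem_perpA {B : LinearMap.BilinForm F V} {ε : F} (hB : EpsForm B ε)
    {A : Subalgebra F (Module.End F V)} (hA : AdjClosed B A) (C : Submodule A V) (v : V) :
    v ∈ perpA hB hA C ↔ ∀ u ∈ C, B u v = 0 := Iff.rfl

theorem perpA_restrictScalars {B : LinearMap.BilinForm F V} {ε : F} (hB : EpsForm B ε)
    {A : Subalgebra F (Module.End F V)} (hA : AdjClosed B A) (C : Submodule A V) :
    (perpA hB hA C).restrictScalars F = B.orthogonal (C.restrictScalars F) := by
  ext v
  rfl

theorem perpA_fullyInvariant [FiniteDimensional F V] {B : LinearMap.BilinForm F V} {ε : F}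
    (hB : EpsForm B ε)
    {A : Subalgebra F (Module.End F V)} (hA : AdjClosed B A) (C : Submodule A V)
    (hC : C.IsFullyInvariant) : (perpA hB hA C).IsFullyInvariant := by
  intro c v hv
  set c₀ := B.leftAdjointOfNondegenerate hB.nondeg (c.restrictScalars F) with hc₀
  have hadj : ∀ x y, B (c₀ x) y = B x (c y) := fun x y =>
    LinearMap.BilinForm.isAdjointPairLeftAdjointOfNondegenerate B hB.nondeg (c.restrictScalars F) x y
  have hcmt : c₀ ∈ Cmt A := by
    rw [mem_Cmt]
    intro a ha
    obtain ⟨a', ha', h⟩ := hA a ha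
    ext x
    rw [Module.End.mul_apply, Module.End.mul_apply]
    have hz : ∀ y, B (a (c₀ x) - c₀ (a x)) y = 0 := by
      intro y
      rw [map_sub, LinearMap.sub_apply, h, hadj, hadj, h]
      have : c (a' y) = a' (c y) := c.map_smul (⟨a', ha'⟩ : A) y
      rw [this, sub_self]
    exact sub_eq_zero.mp (hB.nondeg.1 _ hz)
  rw [Submodule.mem_comap, mem_perpA]
  intro u hu
  rw [← hadj]
  have : c₀ u ∈ C := hC (toEndA A c₀ hcmt) hu
  exact hv _ this

theorem exists_set_perp [FiniteDimensional F V] {B : LinearMap.BilinForm F V} {ε : F}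
    (hB : EpsForm B ε)
    {A : Subalgebra F (Module.End F V)} (hA : AdjClosed B A) [IsSemisimpleModule A V]
    (C : Submodule A V) (hC : C ∈ isotypicComponents A V) :
    ∃ s ⊆ isotypicComponents A V, perpA hB hA C = sSup s :=
  isFullyInvariant_iff_sSup_isotypicComponents.mp
    (perpA_fullyInvariant hB hA C (.of_mem_isotypicComponents hC))

end Cfsg.Agent.Lib.Helper8.Asch
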