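import Cfsg.Agent.Lib.Helper8.SpB2

set_option autoImplicit false

/-! The pairing of the components of a decomposition under a non-degenerate ε-symmetric form. -/

namespace Cfsg.Agent.Lib.Helper8.Asch

open Module

variable {F : Type*} [Field F] {V : Type*} [AddCommGroup V] [Module F V]

theorem pairing_aux [FiniteDimensional F V] {B : LinearMap.BilinForm F V} {ε : F} (hB : EpsForm B ε)
    {t m : ℕ} (D : Fin t → Submodule F V) (hm : 0 < m) (hfr : ∀ i, finrank F (D i) = m)
    (hind : iSupIndep D) (hsup : iSup D = ⊤) (i : Fin t) (S : Set (Fin t))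
    (hS : B.orthogonal (D i) = ⨆ j ∈ S, D j) :
    ∃ j, j ∉ S ∧ ∀ j', j' ∉ S → j' = j := by
  have hperp : finrank F (B.orthogonal (D i)) = finrank F V - m := by
    rw [LinearMap.BilinForm.finrank_orthogonal hB.nondeg, hfr]
  have hmn : m ≤ finrank F V := by
    rw [← hfr i]
    exact Submodule.finrank_le _
  have hex : ∃ j, j ∉ S := by
    by_contra hcon
    push Not at hcon
    have : (⨆ j ∈ S, D j) = ⊤ := by
      rw [eq_top_iff, ← hsup]
      exact iSup_le fun j => le_iSup₂_of_le j (hcon j) (le_refl _)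
    rw [← hS] at this
    rw [this, finrank_top] at hperp
    omega
  obtain ⟨j, hj⟩ := hex
  refine ⟨j, hj, fun j' hj' => ?_⟩
  by_contra hne
  set Y : Submodule F V := ⨆ l ∈ ({j, j'} : Set (Fin t)), D l with hY
  have hdisj : Disjoint (⨆ l ∈ S, D l) Y := by
    apply hind.disjoint_biSup_biSup' _ (Set.toFinite S)
    rw [Set.disjoint_right]
    rintro l (rfl | rfl)
    · exact hj
    · exact hj'
  have hYeq : Y = D j ⊔ D j' := by
    rw [hY, iSup_insert, iSup_singleton]
  have hjj' : Disjoint (D j) (D j') := hind.pairwiseDisjoint (Ne.symm hne)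
  have hYdim : finrank F Y = m + m := by
    rw [hYeq]
    have := Submodule.finrank_sup_add_finrank_inf_eq (D j) (D j')
    rw [hjj'.eq_bot, finrank_bot, add_zero, hfr, hfr] at this
    exact this
  have h1 := Submodule.finrank_sup_add_finrank_inf_eq (⨆ l ∈ S, D l) Y
  rw [hdisj.eq_bot, finrank_bot, add_zero, ← hS, hperp, hYdim] at h1
  have h2 : finrank F ↥(B.orthogonal (D i) ⊔ Y) ≤ finrank F V := Submodule.finrank_le _
  omega

theorem pairing [FiniteDimensional F V] {B : LinearMap.BilinForm F V} {ε : F} (hB : EpsForm B ε)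
    {t m : ℕ} (D : Fin t → Submodule F V) (hm : 0 < m) (hfr : ∀ i, finrank F (D i) = m)
    (hind : iSupIndep D) (hsup : iSup D = ⊤)
    (hS : ∀ i, ∃ S : Set (Fin t), B.orthogonal (D i) = ⨆ j ∈ S, D j) :
    ∃ σ : Fin t → Fin t, (∀ i j, j ≠ σ i → D j ≤ B.orthogonal (D i)) ∧
      (∀ i, Disjoint (D (σ i)) (B.orthogonal (D i))) ∧ (∀ i, σ (σ i) = i) := by
  have hne : ∀ i, D i ≠ ⊥ := by
    intro i h0
    have := hfr i
    rw [h0, finrank_bot] at this
    omega
  choose S hS using hS
  have key := fun i => pairing_aux hB D hm hfr hind hsup i (S i) (hS i)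
  choose σ hσ1 hσ2 using key
  have p1 : ∀ i j, j ≠ σ i → D j ≤ B.orthogonal (D i) := by
    intro i j hj
    have hjS : j ∈ S i := by
      by_contra hjS
      exact hj (hσ2 i j hjS)
    rw [hS i]
    exact le_iSup₂_of_le j hjS (le_refl _)
  have p2 : ∀ i, Disjoint (D (σ i)) (B.orthogonal (D i)) := by
    intro i
    rw [hS i]
    exact hind.disjoint_biSup (hσ1 i)
  refine ⟨σ, p1, p2, ?_⟩
  intro i
  by_contra hne'
  -- D i ≤ (D (σ i))^⊥, hence D (σ i) ≤ (D i)^⊥
  have h1 : D i ≤ B.orthogonal (D (σ i)) := p1 (σ i) i (Ne.symm hne')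
  have h2 : D (σ i) ≤ B.orthogonal (D i) := by
    intro v hv u hu
    have := h1 hu v hv
    exact hB.isRefl _ _ this
  have := (p2 i).eq_bot
  rw [inf_eq_left.mpr h2] at this
  exact hne _ this

end Cfsg.Agent.Lib.Helper8.Asch
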