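import Cfsg.Agent.Lib.Helper8.SpB3

set_option autoImplicit false

/-! Clifford's theorem for a group of isometries: the components are paired by the form. -/

namespace Cfsg.Agent.Lib.Helper8.Asch

open Module

variable {F : Type*} [Field F] {V : Type*} [AddCommGroup V] [Module F V]

theorem perp_eq_biSup [FiniteDimensional F V] {B : LinearMap.BilinForm F V} {ε : F}
    (hB : EpsForm B ε)
    {A : Subalgebra F (Module.End F V)} (hA : AdjClosed B A) [IsSemisimpleModule A V]
    {t : ℕ} (C : Fin t → Submodule A V) (hC : ∀ i, C i ∈ isotypicComponents A V)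
    (hsurj : ∀ c ∈ isotypicComponents A V, ∃ i, C i = c) (i : Fin t) :
    ∃ S : Set (Fin t), B.orthogonal ((C i).restrictScalars F) =
      ⨆ j ∈ S, (C j).restrictScalars F := by
  obtain ⟨s, hs, hperp⟩ := exists_set_perp hB hA (C i) (hC i)
  refine ⟨{j | C j ∈ s}, ?_⟩
  rw [← perpA_restrictScalars hB hA, hperp]
  have h1 : sSup s = ⨆ j ∈ {j | C j ∈ s}, C j := by
    apply le_antisymm
    · apply sSup_le
      intro c hc
      obtain ⟨j, rfl⟩ := hsurj c (hs hc)
      exact le_iSup₂_of_le j hc (le_refl _)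
    · exact iSup₂_le fun j hj => le_sSup hj
  rw [h1, Submodule.restrictScalars_iSup]
  congr 1
  ext j : 1
  rw [Submodule.restrictScalars_iSup]

/-- Clifford for isometry groups: in the non-isotypic case the components are permuted
transitively and paired by the form. -/
theorem clifford_form [FiniteDimensional F V] [Nontrivial V] {B : LinearMap.BilinForm F V} {ε : F}
    (hB : EpsForm B ε) (H : Subgroup (GLV F V)) (hirr : Irr H)
    (A : Subalgebra F (Module.End F V)) (hA : ∀ h ∈ H, Nrm A h) (hadj : AdjClosed B A) :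
    IsIsotypic A V ∨ ∃ (t m : ℕ) (D : Fin t → Submodule F V) (σ : Fin t → Fin t), 2 ≤ t ∧ 0 < m ∧
      (∀ i, Module.finrank F (D i) = m) ∧ iSupIndep D ∧ iSup D = ⊤ ∧
      (∀ h ∈ H, ∃ π : Equiv.Perm (Fin t), ∀ i, (D i).map (h : Module.End F V) = D (π i)) ∧
      (∀ i j, ∃ h ∈ H, (D i).map (h : Module.End F V) = D j) ∧
      (∀ i j, j ≠ σ i → D j ≤ B.orthogonal (D i)) ∧
      (∀ i, Disjoint (D (σ i)) (B.orthogonal (D i))) ∧ (∀ i, σ (σ i) = i) := by
  have ss : IsSemisimpleModule A V := clifford_semisimple H hirr A hA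
  rcases clifford_iso H hirr A hA with h | ⟨t, m, C, ht, hm, hfr, hind, hsup, hperm, hC, hsurj, htrans⟩
  · exact Or.inl h
  · right
    obtain ⟨σ, p1, p2, p3⟩ := pairing hB (fun i => (C i).restrictScalars F) hm hfr hind hsup
      (fun i => perp_eq_biSup hB hadj C hC hsurj i)
    exact ⟨t, m, fun i => (C i).restrictScalars F, σ, ht, hm, hfr, hind, hsup, hperm, htrans,
      p1, p2, p3⟩

end Cfsg.Agent.Lib.Helper8.Asch
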