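import Cfsg.Agent.Lib.Helper8.SpB4
import Cfsg.Agent.Lib.Helper8.SpA3

set_option autoImplicit false

/-! From a paired decomposition to a non-degenerate decomposition (coarsening when necessary). -/

namespace Cfsg.Agent.Lib.Helper8.Asch

open Module Matrix
open Cfsg.Geo

variable {F : Type*} [Field F] {V : Type*} [AddCommGroup V] [Module F V]

/-- a family of subspaces mapped into itself by an injective map is permuted -/
theorem perm_of_map {s : ℕ} (E : Fin s → Submodule F V) (hE : Function.Injective E)
    (g : Module.End F V) (hg : Function.Injective g)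
    (h : ∀ p, ∃ p', (E p).map g = E p') :
    ∃ π : Equiv.Perm (Fin s), ∀ p, (E p).map g = E (π p) := by
  choose φ hφ using h
  have hinj : Function.Injective φ := by
    intro p q hpq
    apply hE
    apply Submodule.map_injective_of_injective hg
    rw [hφ, hφ, hpq]
  exact ⟨Equiv.ofBijective φ (Finite.injective_iff_bijective.mp hinj), hφ⟩

/-- the data of a paired decomposition -/
structure PairedDecomp (B : LinearMap.BilinForm F V) {t : ℕ} (m : ℕ) (D : Fin t → Submodule F V)
    (σ : Fin t → Fin t) : Prop where
  pos : 0 < m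
  finrank_eq : ∀ i, Module.finrank F (D i) = m
  indep : iSupIndep D
  sup : iSup D = ⊤
  orth : ∀ i j, j ≠ σ i → D j ≤ B.orthogonal (D i)
  disj : ∀ i, Disjoint (D (σ i)) (B.orthogonal (D i))
  invol : ∀ i, σ (σ i) = i

namespace PairedDecomp

variable {B : LinearMap.BilinForm F V} {t m : ℕ} {D : Fin t → Submodule F V} {σ : Fin t → Fin t}

theorem ne_bot (hP : PairedDecomp B m D σ) (i : Fin t) : D i ≠ ⊥ := by
  intro h0
  have := hP.finrank_eq i
  rw [h0, finrank_bot] at this
  have := hP.pos
  omega

theorem injective (hP : PairedDecomp B m D σ) : Function.Injective D :=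
  hP.indep.injective hP.ne_bot

theorem not_le (hP : PairedDecomp B m D σ) (i : Fin t) : ¬ D (σ i) ≤ B.orthogonal (D i) := by
  intro h
  have := (hP.disj i).eq_bot
  rw [inf_eq_left.mpr h] at this
  exact hP.ne_bot _ this

theorem eq_sigma (hP : PairedDecomp B m D σ) {i j : Fin t} (h : ¬ D j ≤ B.orthogonal (D i)) :
    j = σ i := by
  by_contra hne
  exact h (hP.orth i j hne)

/-- an isometry permuting the components commutes with the pairing -/
theorem perm_comm (hP : PairedDecomp B m D σ) (g : GLV F V)
    (hg : ∀ u v, B ((g : Module.End F V) u) ((g : Module.End F V) v) = B u v)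
    (π : Equiv.Perm (Fin t)) (hπ : ∀ i, (D i).map (g : Module.End F V) = D (π i)) (i : Fin t) :
    π (σ i) = σ (π i) := by
  apply hP.eq_sigma
  intro hle
  apply hP.not_le i
  intro v hv u hu
  have h1 : (g : Module.End F V) v ∈ D (π (σ i)) := by
    rw [← hπ]
    exact Submodule.mem_map_of_mem hv
  have h2 : (g : Module.End F V) u ∈ D (π i) := by
    rw [← hπ]
    exact Submodule.mem_map_of_mem hu
  have := hle h1 _ h2
  rw [hg] at this
  exact this

/-- all-or-nothing for fixed points of the pairing, under transitivity -/
theorem sigma_all (hP : PairedDecomp B m D σ) (H : Subgroup (GLV F V)) (hH : IsomV B H)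
    (htrans : ∀ i j, ∃ h ∈ H, (D i).map (h : Module.End F V) = D j)
    {i : Fin t} (hi : σ i = i) (j : Fin t) : σ j = j := by
  by_contra hj
  obtain ⟨h, hh, hmap⟩ := htrans i j
  have h1 : D j ≤ B.orthogonal (D j) := hP.orth j j (Ne.symm hj)
  have h2 : D i ≤ B.orthogonal (D i) := by
    intro v hv u hu
    have hv' : (h : Module.End F V) v ∈ D j := by rw [← hmap]; exact Submodule.mem_map_of_mem hv
    have hu' : (h : Module.End F V) u ∈ D j := by rw [← hmap]; exact Submodule.mem_map_of_mem hu
    have := h1 hv' _ hu'
    rw [hH h hh] at this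
    exact this
  have := hP.not_le i
  rw [hi] at this
  exact this h2

end PairedDecomp

end Cfsg.Agent.Lib.Helper8.Asch
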