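import Cfsg.Agent.Lib.Helper8.SpB5

set_option autoImplicit false

/-! Coarsening a paired decomposition without fixed points into a non-degenerate decomposition. -/

namespace Cfsg.Agent.Lib.Helper8.Asch

open Module Matrix
open Cfsg.Geo

variable {F : Type*} [Field F] {V : Type*} [AddCommGroup V] [Module F V]

namespace PairedDecomp

variable {B : LinearMap.BilinForm F V} {t m : ℕ} {D : Fin t → Submodule F V} {σ : Fin t → Fin t}

/-- the sum of a component and its partner -/
def G (D : Fin t → Submodule F V) (σ : Fin t → Fin t) (x : Fin t) : Submodule F V := D x ⊔ D (σ x)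

theorem G_sigma (hP : PairedDecomp B m D σ) (x : Fin t) : G D σ (σ x) = G D σ x := by
  unfold G
  rw [hP.invol, sup_comm]

theorem sigma_injective (hP : PairedDecomp B m D σ) : Function.Injective σ := by
  intro a b hab
  have := congrArg σ hab
  rwa [hP.invol, hP.invol] at this

theorem finrank_G [FiniteDimensional F V] (hP : PairedDecomp B m D σ) (hfix : ∀ i, σ i ≠ i)
    (x : Fin t) : finrank F (G D σ x) = m + m := by
  unfold G
  have hd : Disjoint (D x) (D (σ x)) := hP.indep.pairwiseDisjoint (Ne.symm (hfix x))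
  have := Submodule.finrank_sup_add_finrank_inf_eq (D x) (D (σ x))
  rw [hd.eq_bot, finrank_bot, add_zero, hP.finrank_eq, hP.finrank_eq] at this
  exact this

theorem G_disjoint_perp (hP : PairedDecomp B m D σ) (hfix : ∀ i, σ i ≠ i) (x : Fin t) :
    Disjoint (G D σ x) (B.orthogonal (G D σ x)) := by
  rw [disjoint_iff, eq_bot_iff]
  rintro v ⟨hv1, hv2⟩
  obtain ⟨a, ha, b, hb, rfl⟩ := Submodule.mem_sup.mp hv1
  have hxx : D x ≤ B.orthogonal (D x) := hP.orth x x (Ne.symm (hfix x))
  have hss : D (σ x) ≤ B.orthogonal (D (σ x)) := hP.orth (σ x) (σ x) (Ne.symm (hfix (σ x)))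
  have hb0 : b = 0 := by
    have : b ∈ D (σ x) ⊓ B.orthogonal (D x) := by
      refine ⟨hb, fun u hu => ?_⟩
      have h1 := hv2 u (le_sup_left (a := D x) (b := D (σ x)) hu)
      have h2 := hxx ha u hu
      show B u b = 0
      rw [map_add, h2, zero_add] at h1
      exact h1
    rw [(hP.disj x).eq_bot] at this
    exact (Submodule.mem_bot F).mp this
  have ha0 : a = 0 := by
    have : a ∈ D (σ (σ x)) ⊓ B.orthogonal (D (σ x)) := by
      rw [hP.invol]
      refine ⟨ha, fun u hu => ?_⟩
      have h1 := hv2 u (le_sup_right (a := D x) (b := D (σ x)) hu)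
      have h2 := hss hb u hu
      show B u a = 0
      rw [map_add, h2, add_zero] at h1
      exact h1
    rw [(hP.disj (σ x)).eq_bot] at this
    exact (Submodule.mem_bot F).mp this
  rw [ha0, hb0, add_zero]
  exact Submodule.zero_mem _

theorem G_le_perp (hP : PairedDecomp B m D σ) {x y : Fin t} (h1 : y ≠ x) (h2 : y ≠ σ x) :
    G D σ y ≤ B.orthogonal (G D σ x) := by
  have e1 : D y ≤ B.orthogonal (D x) := hP.orth x y h2
  have e2 : D (σ y) ≤ B.orthogonal (D x) :=
    hP.orth x (σ y) (fun h => h1 (hP.sigma_injective h))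
  have e3 : D y ≤ B.orthogonal (D (σ x)) := hP.orth (σ x) y (by rw [hP.invol]; exact h1)
  have e4 : D (σ y) ≤ B.orthogonal (D (σ x)) :=
    hP.orth (σ x) (σ y) (fun h => h2 (hP.sigma_injective h))
  intro w hw u hu
  obtain ⟨a', ha', b', hb', rfl⟩ := Submodule.mem_sup.mp hw
  obtain ⟨a, ha, b, hb, rfl⟩ := Submodule.mem_sup.mp hu
  have f1 := e1 ha' a ha
  have f2 := e2 hb' a ha
  have f3 := e3 ha' b hb
  have f4 := e4 hb' b hb
  show B (a + b) (a' + b') = 0
  rw [map_add, map_add, LinearMap.add_apply, LinearMap.add_apply, f1, f2, f3, f4]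
  simp

end PairedDecomp

end Cfsg.Agent.Lib.Helper8.Asch
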