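import Cfsg.Agent.Lib.Helper8.SpB6

set_option autoImplicit false

/-! Coarsening a paired decomposition without fixed points: the theorem. -/

namespace Cfsg.Agent.Lib.Helper8.Asch

open Module Matrix
open Cfsg.Geo

variable {F : Type*} [Field F] {V : Type*} [AddCommGroup V] [Module F V]

namespace PairedDecomp

variable {B : LinearMap.BilinForm F V} {t m : ℕ} {D : Fin t → Submodule F V} {σ : Fin t → Fin t}

theorem coarsen [FiniteDimensional F V] (hP : PairedDecomp B m D σ) (hfix : ∀ i, σ i ≠ i)
    (ht : 3 ≤ t) (H : Subgroup (GLV F V)) (hH : IsomV B H)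
    (hperm : ∀ h ∈ H, ∃ π : Equiv.Perm (Fin t), ∀ i, (D i).map (h : Module.End F V) = D (π i)) :
    ∃ (s : ℕ) (E : Fin s → Submodule F V), 2 ≤ s ∧ (∀ p, finrank F (E p) = m + m) ∧
      iSupIndep E ∧ iSup E = ⊤ ∧ (∀ p, Disjoint (E p) (B.orthogonal (E p))) ∧
      (∀ p q, p ≠ q → E q ≤ B.orthogonal (E p)) ∧
      (∀ h ∈ H, ∃ π : Equiv.Perm (Fin s), ∀ p, (E p).map (h : Module.End F V) = E (π p)) := by
  classical
  -- representatives
  let P := {i : Fin t // i < σ i}
  have hlt : ∀ x : Fin t, ¬ x < σ x → σ x < σ (σ x) := by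
    intro x hx
    rw [hP.invol]
    exact lt_of_le_of_ne (not_lt.mp hx) (hfix x)
  let rep : Fin t → P := fun x => if h : x < σ x then ⟨x, h⟩ else ⟨σ x, hlt x h⟩
  have hrep : ∀ x, (rep x).1 = x ∨ (rep x).1 = σ x := by
    intro x
    by_cases h : x < σ x
    · left; simp only [rep, dif_pos h]
    · right; simp only [rep, dif_neg h]
  have hGrep : ∀ x, G D σ (rep x).1 = G D σ x := by
    intro x
    rcases hrep x with h | h
    · rw [h]
    · rw [h, hP.G_sigma]
  set s := Fintype.card P with hs
  let e : Fin s ≃ P := (Fintype.equivFin P).symm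
  let E : Fin s → Submodule F V := fun p => G D σ (e p).1
  have hEG : ∀ x, G D σ x = E (e.symm (rep x)) := by
    intro x
    show G D σ x = G D σ (e (e.symm (rep x))).1
    rw [Equiv.apply_symm_apply, hGrep]
  -- distinct representatives lie in distinct orbits
  have hdist : ∀ p q : Fin s, p ≠ q → (e q).1 ≠ (e p).1 ∧ (e q).1 ≠ σ (e p).1 := by
    intro p q hpq
    constructor
    · intro h
      apply hpq
      have : e q = e p := Subtype.ext h
      exact (e.injective this).symm
    · intro h
      have h1 := (e q).2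
      have h2 := (e p).2
      rw [h, hP.invol] at h1
      exact absurd h1 (not_lt.mpr h2.le)
  have hEorth : ∀ p q, p ≠ q → E q ≤ B.orthogonal (E p) := by
    intro p q hpq
    obtain ⟨h1, h2⟩ := hdist p q hpq
    exact hP.G_le_perp h1 h2
  have hEdisj : ∀ p, Disjoint (E p) (B.orthogonal (E p)) := fun p => hP.G_disjoint_perp hfix _
  have hEfr : ∀ p, finrank F (E p) = m + m := fun p => hP.finrank_G hfix _
  have hEne : ∀ p, E p ≠ ⊥ := by
    intro p h0
    have := hEfr p
    rw [h0, finrank_bot] at this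
    have := hP.pos
    omega
  have hEind : iSupIndep E := by
    intro p
    have h1 : (⨆ q, ⨆ (_ : q ≠ p), E q) ≤ B.orthogonal (E p) :=
      iSup₂_le fun q hq => hEorth p q (Ne.symm hq)
    exact (hEdisj p).mono_right h1
  have hEsup : iSup E = ⊤ := by
    rw [eq_top_iff, ← hP.sup]
    apply iSup_le
    intro x
    calc D x ≤ G D σ x := le_sup_left
      _ = E (e.symm (rep x)) := hEG x
      _ ≤ iSup E := le_iSup E _
  have hEinj : Function.Injective E := hEind.injective hEne
  -- at least two blocks
  have hs2 : 2 ≤ s := by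
    let x₀ : P := rep ⟨0, by omega⟩
    have hex : ∃ l : Fin t, l ≠ x₀.1 ∧ l ≠ σ x₀.1 := by
      by_contra hcon
      push Not at hcon
      have hsub : (Finset.univ : Finset (Fin t)) ⊆ {x₀.1, σ x₀.1} := by
        intro l _
        by_cases h : l = x₀.1
        · rw [h]; exact Finset.mem_insert_self _ _
        · rw [hcon l h]
          exact Finset.mem_insert_of_mem (Finset.mem_singleton_self _)
      have h1 := Finset.card_le_card hsub
      rw [Finset.card_univ, Fintype.card_fin] at h1
      have h2 : ({x₀.1, σ x₀.1} : Finset (Fin t)).card ≤ 2 := Finset.card_le_two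
      omega
    obtain ⟨l, hl1, hl2⟩ := hex
    have hne : rep l ≠ x₀ := by
      intro h
      rcases hrep l with h' | h'
      · rw [h] at h'
        exact hl1 h'.symm
      · rw [h] at h'
        apply hl2
        rw [h', hP.invol]
    rw [hs]
    exact Fintype.one_lt_card_iff.mpr ⟨rep l, x₀, hne⟩
  refine ⟨s, E, hs2, hEfr, hEind, hEsup, hEdisj, hEorth, ?_⟩
  intro h hh
  obtain ⟨π, hπ⟩ := hperm h hh
  have hinj : Function.Injective (h : Module.End F V) := by
    intro x y hxy
    have := congrArg ((h⁻¹ : GLV F V) : Module.End F V) hxy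
    rwa [inv_apply_apply, inv_apply_apply] at this
  apply perm_of_map E hEinj _ hinj
  intro p
  refine ⟨e.symm (rep (π (e p).1)), ?_⟩
  rw [← hEG]
  show (D (e p).1 ⊔ D (σ (e p).1)).map (h : Module.End F V) = D (π (e p).1) ⊔ D (σ (π (e p).1))
  rw [Submodule.map_sup, hπ, hπ, hP.perm_comm h (hH h hh) π hπ]

end PairedDecomp

end Cfsg.Agent.Lib.Helper8.Asch
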