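import Cfsg.Agent.Lib.Helper8.SpB7
import Cfsg.Agent.Lib.Helper8.AschF3

set_option autoImplicit false

/-! A complementary pair of totally singular subspaces in characteristic two: the quadratic form
`Q(a + b) = f(a, b)`. -/

namespace Cfsg.Agent.Lib.Helper8.Asch

open Module Matrix
open Cfsg.Geo

variable {ι : Type} [Fintype ι] [DecidableEq ι] {F : Type*} [Field F]

/-- the quadratic form attached to a complementary pair -/
noncomputable def tsQ (f : (ι → F) → (ι → F) → F) {W W' : Submodule F (ι → F)} (hc : IsCompl W W')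
    (v : ι → F) : F :=
  f ((Submodule.existsUnique_add_of_isCompl hc v).choose : ι → F)
    ((Submodule.existsUnique_add_of_isCompl hc v).choose_spec.choose : ι → F)

theorem tsQ_spec (f : (ι → F) → (ι → F) → F) {W W' : Submodule F (ι → F)} (hc : IsCompl W W')
    {a b : ι → F} (ha : a ∈ W) (hb : b ∈ W') : tsQ f hc (a + b) = f a b := by
  unfold tsQ
  have h := (Submodule.existsUnique_add_of_isCompl hc (a + b)).choose_spec.choose_spec
  obtain ⟨h1, h2⟩ := h.2 ⟨a, ha⟩ ⟨b, hb⟩ rfl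
  have e1 : ((Submodule.existsUnique_add_of_isCompl hc (a + b)).choose : ι → F) = a :=
    (congrArg Subtype.val h1).symm
  have e2 : ((Submodule.existsUnique_add_of_isCompl hc (a + b)).choose_spec.choose : ι → F) = b :=
    (congrArg Subtype.val h2).symm
  exact congrArg₂ f e1 e2

theorem exists_decomp {W W' : Submodule F (ι → F)} (hc : IsCompl W W') (v : ι → F) :
    ∃ a ∈ W, ∃ b ∈ W', v = a + b := by
  obtain ⟨a, b, h, -⟩ := Submodule.existsUnique_add_of_isCompl hc v
  exact ⟨a, a.2, b, b.2, h.symm⟩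

theorem tsQ_polar {f : (ι → F) → (ι → F) → F} (hf : IsSymplecticForm f) (h2 : (2 : F) = 0)
    {W W' : Submodule F (ι → F)} (hc : IsCompl W W') (hW : IsTotallySingularFor f W)
    (hW' : IsTotallySingularFor f W') (u v : ι → F) :
    QuadraticMap.polar (tsQ f hc) u v = f u v := by
  obtain ⟨a, ha, b, hb, rfl⟩ := exists_decomp hc u
  obtain ⟨a', ha', b', hb', rfl⟩ := exists_decomp hc v
  have e : a + b + (a' + b') = (a + a') + (b + b') := by abel
  unfold QuadraticMap.polar
  rw [e, tsQ_spec f hc (W.add_mem ha ha') (W'.add_mem hb hb'), tsQ_spec f hc ha hb,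
    tsQ_spec f hc ha' hb']
  have hbil := hf.bilinear
  simp only [hbil.add_left, hbil.add_right]
  rw [hW a ha a' ha', hW' b hb b' hb', hf.skew b a']
  linear_combination (f a' b) * h2

theorem tsQ_nondeg {f : (ι → F) → (ι → F) → F} (hf : IsSymplecticForm f) (h2 : (2 : F) = 0)
    {W W' : Submodule F (ι → F)} (hc : IsCompl W W') (hW : IsTotallySingularFor f W)
    (hW' : IsTotallySingularFor f W') : IsNondegenerateQuadraticForm (tsQ f hc) := by
  have hpol : QuadraticMap.polar (tsQ f hc) = f := by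
    funext u v
    exact tsQ_polar hf h2 hc hW hW' u v
  refine ⟨?_, ?_, ?_⟩
  · intro c v
    obtain ⟨a, ha, b, hb, rfl⟩ := exists_decomp hc v
    rw [smul_add, tsQ_spec f hc (W.smul_mem c ha) (W'.smul_mem c hb), tsQ_spec f hc ha hb,
      hf.bilinear.smul_left, hf.bilinear.smul_right]
    ring
  · rw [hpol]
    exact hf.bilinear
  · rw [hpol]
    exact hf.nondegenerate

theorem tsQ_invariant {f : (ι → F) → (ι → F) → F} (hf : IsSymplecticForm f) (h2 : (2 : F) = 0)
    {W W' : Submodule F (ι → F)} (hc : IsCompl W W') (g : Matrix ι ι F)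
    (hg : ∀ u v, f (g *ᵥ u) (g *ᵥ v) = f u v)
    (hcase : ((∀ w ∈ W, g *ᵥ w ∈ W) ∧ (∀ w ∈ W', g *ᵥ w ∈ W')) ∨
      ((∀ w ∈ W, g *ᵥ w ∈ W') ∧ (∀ w ∈ W', g *ᵥ w ∈ W))) (v : ι → F) :
    tsQ f hc (g *ᵥ v) = tsQ f hc v := by
  obtain ⟨a, ha, b, hb, rfl⟩ := exists_decomp hc v
  rw [Matrix.mulVec_add, tsQ_spec f hc ha hb]
  rcases hcase with ⟨h1, h1'⟩ | ⟨h1, h1'⟩
  · rw [tsQ_spec f hc (h1 a ha) (h1' b hb), hg]
  · rw [add_comm, tsQ_spec f hc (h1' b hb) (h1 a ha), hg, hf.skew]
    linear_combination (-(f a b)) * h2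

end Cfsg.Agent.Lib.Helper8.Asch
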