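import Cfsg.Agent.Lib.Helper8.SpB2

set_option autoImplicit false

/-! The adjoint involution of a non-degenerate ε-symmetric form. -/

namespace Cfsg.Agent.Lib.Helper8.Asch

open Module

variable {F : Type*} [Field F] {V : Type*} [AddCommGroup V] [Module F V] [FiniteDimensional F V]
variable {B : LinearMap.BilinForm F V} {ε : F}

/-- the adjoint -/
noncomputable def adjE (hB : EpsForm B ε) (x : Module.End F V) : Module.End F V :=
  B.leftAdjointOfNondegenerate hB.nondeg x

theorem adjE_apply (hB : EpsForm B ε) (x : Module.End F V) (u v : V) :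
    B (adjE hB x u) v = B u (x v) :=
  LinearMap.BilinForm.isAdjointPairLeftAdjointOfNondegenerate B hB.nondeg x u v

theorem adjE_apply' (hB : EpsForm B ε) (x : Module.End F V) (u v : V) :
    B (x u) v = B u (adjE hB x v) := by
  rw [hB.symm (x u) v, ← adjE_apply hB, hB.symm (adjE hB x v) u, ← mul_assoc, hB.sq, one_mul]

theorem eq_of_forall_left (hB : EpsForm B ε) {y z : Module.End F V}
    (h : ∀ u v, B (y u) v = B (z u) v) : y = z := by
  ext u
  have : ∀ v, B (y u - z u) v = 0 := by
    intro v
    rw [map_sub, LinearMap.sub_apply, h, sub_self]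
  exact sub_eq_zero.mp (hB.nondeg.1 _ this)

theorem adjE_unique (hB : EpsForm B ε) {x y : Module.End F V}
    (h : ∀ u v, B (y u) v = B u (x v)) : y = adjE hB x := by
  apply eq_of_forall_left hB
  intro u v
  rw [h, adjE_apply]

theorem adjE_unique' (hB : EpsForm B ε) {x y : Module.End F V}
    (h : ∀ u v, B (x u) v = B u (y v)) : y = adjE hB x := by
  apply adjE_unique hB
  intro u v
  rw [hB.symm (y u) v, ← h, hB.symm (x v) u, ← mul_assoc, hB.sq, one_mul]

theorem adjE_mul (hB : EpsForm B ε) (x y : Module.End F V) :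
    adjE hB (x * y) = adjE hB y * adjE hB x := by
  symm
  apply adjE_unique hB
  intro u v
  rw [Module.End.mul_apply, Module.End.mul_apply, adjE_apply, adjE_apply]

theorem adjE_add (hB : EpsForm B ε) (x y : Module.End F V) :
    adjE hB (x + y) = adjE hB x + adjE hB y := by
  symm
  apply adjE_unique hB
  intro u v
  rw [LinearMap.add_apply, LinearMap.add_apply, map_add, LinearMap.add_apply, adjE_apply,
    adjE_apply, map_add]

theorem adjE_smul (hB : EpsForm B ε) (c : F) (x : Module.End F V) :
    adjE hB (c • x) = c • adjE hB x := by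
  symm
  apply adjE_unique hB
  intro u v
  rw [LinearMap.smul_apply, LinearMap.smul_apply, map_smul, LinearMap.smul_apply, adjE_apply,
    map_smul]

theorem adjE_one (hB : EpsForm B ε) : adjE hB (1 : Module.End F V) = 1 := by
  symm
  apply adjE_unique hB
  intro u v
  rfl

theorem adjE_zero (hB : EpsForm B ε) : adjE hB (0 : Module.End F V) = 0 := by
  symm
  apply adjE_unique hB
  intro u v
  simp

theorem adjE_adjE (hB : EpsForm B ε) (x : Module.End F V) : adjE hB (adjE hB x) = x := by
  symm
  apply adjE_unique hB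
  intro u v
  exact adjE_apply' hB x u v

theorem adjE_injective (hB : EpsForm B ε) : Function.Injective (adjE hB (V := V)) := by
  intro x y h
  rw [← adjE_adjE hB x, h, adjE_adjE]

theorem adjE_pow (hB : EpsForm B ε) (x : Module.End F V) (n : ℕ) :
    adjE hB (x ^ n) = adjE hB x ^ n := by
  induction n with
  | zero => rw [pow_zero, pow_zero, adjE_one]
  | succ n ih => rw [pow_succ, adjE_mul, ih, pow_succ']

theorem adjE_algebraMap (hB : EpsForm B ε) (c : F) :
    adjE hB (algebraMap F (Module.End F V) c) = algebraMap F (Module.End F V) c := by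
  rw [Algebra.algebraMap_eq_smul_one, adjE_smul, adjE_one]

theorem adjE_isom (hB : EpsForm B ε) (g : GLV F V)
    (hg : ∀ u v, B ((g : Module.End F V) u) ((g : Module.End F V) v) = B u v) :
    adjE hB (g : Module.End F V) = ((g⁻¹ : GLV F V) : Module.End F V) := by
  symm
  apply adjE_unique hB
  intro u v
  have := hg (((g⁻¹ : GLV F V) : Module.End F V) u) v
  rw [apply_inv_apply] at this
  exact this.symm

theorem AdjClosed.adjE_mem (hB : EpsForm B ε) {A : Subalgebra F (Module.End F V)}
    (hA : AdjClosed B A) {a : Module.End F V} (ha : a ∈ A) : adjE hB a ∈ A := by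
  obtain ⟨a', ha', h⟩ := hA a ha
  rw [← adjE_unique' hB h]
  exact ha'

theorem adjClosed_of_adjE_mem (hB : EpsForm B ε) {A : Subalgebra F (Module.End F V)}
    (h : ∀ a ∈ A, adjE hB a ∈ A) : AdjClosed B A :=
  fun a ha => ⟨adjE hB a, h a ha, fun u v => adjE_apply' hB a u v⟩

theorem adjClosed_Cmt (hB : EpsForm B ε) {A : Subalgebra F (Module.End F V)}
    (hA : AdjClosed B A) : AdjClosed B (Cmt A) := by
  apply adjClosed_of_adjE_mem hB
  intro c hc
  rw [mem_Cmt] at hc ⊢
  intro a ha
  have h1 := hc _ (hA.adjE_mem hB ha)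
  have h2 := congrArg (adjE hB) h1
  rw [adjE_mul, adjE_mul, adjE_adjE] at h2
  exact h2.symm

theorem adjClosed_ZC (hB : EpsForm B ε) {A : Subalgebra F (Module.End F V)}
    (hA : AdjClosed B A) : AdjClosed B (ZC A) := by
  apply adjClosed_of_adjE_mem hB
  intro z hz
  rw [mem_ZC] at hz ⊢
  constructor
  · intro a ha
    have h1 := hz.1 _ (hA.adjE_mem hB ha)
    have h2 := congrArg (adjE hB) h1
    rw [adjE_mul, adjE_mul, adjE_adjE] at h2
    exact h2.symm
  · intro c hc
    have h1 := hz.2 _ ((adjClosed_Cmt hB hA).adjE_mem hB hc)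
    have h2 := congrArg (adjE hB) h1
    rw [adjE_mul, adjE_mul, adjE_adjE] at h2
    exact h2.symm

end Cfsg.Agent.Lib.Helper8.Asch
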