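import Cfsg.Agent.Lib.Helper8.SpC1
import Cfsg.Agent.Lib.Helper8.Asch5

set_option autoImplicit false

/-! The field case, with an adjoint-closed subfield. -/

namespace Cfsg.Agent.Lib.Helper8.Asch

open Module

variable {F : Type*} [Field F] {V : Type*} [AddCommGroup V] [Module F V]

theorem class3_of_ZC_ne_adj [Finite F] [FiniteDimensional F V] [Nontrivial V]
    {B : LinearMap.BilinForm F V} {ε : F} (hB : EpsForm B ε)
    (H : Subgroup (GLV F V)) (A : Subalgebra F (Module.End F V)) (hA : ∀ h ∈ H, Nrm A h)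
    (hadj : AdjClosed B A)
    [IsSemisimpleModule A V] (hiso : IsIsotypic A V)
    (hne : ∃ z ∈ ZC A, ∀ c : F, z ≠ c • (1 : Module.End F V)) :
    ∃ (r : ℕ) (K : Subalgebra F (Module.End F V)), r.Prime ∧ IsFld K ∧ finrank F K = r ∧
      (∀ h ∈ H, ∀ x, x ∈ K ↔
        (h : Module.End F V) * x * ((h⁻¹ : GLV F V) : Module.End F V) ∈ K) ∧
      (∀ x ∈ K, adjE hB x ∈ K) := by
  have hE : IsFld (ZC A) := isFld_ZC A hiso
  have hd1 : finrank F (ZC A) ≠ 1 := by
    intro h1
    rw [Subalgebra.finrank_eq_one_iff] at h1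
    obtain ⟨z, hz, hzc⟩ := hne
    rw [h1, Algebra.mem_bot] at hz
    obtain ⟨c, rfl⟩ := hz
    exact hzc c (Algebra.algebraMap_eq_smul_one c)
  set r := (finrank F (ZC A)).minFac with hr
  have hrp : r.Prime := Nat.minFac_prime hd1
  have hrd : r ∣ finrank F (ZC A) := Nat.minFac_dvd _
  obtain ⟨K, hKE, hKf, hKr, N, hKN⟩ := exists_subfield_of_dvd (ZC A) hE r hrp.pos hrd
  refine ⟨r, K, hrp, hKf, hKr, ?_, ?_⟩
  · have key : ∀ h ∈ H, ∀ x, x ∈ K →
        (h : Module.End F V) * x * ((h⁻¹ : GLV F V) : Module.End F V) ∈ K := by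
      intro h hh x hx
      rw [hKN] at hx ⊢
      refine ⟨Nrm_ZC (hA h hh) (Nrm.inv_of_subgroup hA hh) x hx.1, ?_⟩
      rw [Units.conj_pow, hx.2]
    intro h hh x
    refine ⟨key h hh x, fun hx => ?_⟩
    have := key h⁻¹ (H.inv_mem hh) _ hx
    rw [inv_inv] at this
    have e : ((h⁻¹ : GLV F V) : Module.End F V) *
        ((h : Module.End F V) * x * ((h⁻¹ : GLV F V) : Module.End F V)) * (h : Module.End F V) = x := by
      calc _ = (((h⁻¹ : GLV F V) : Module.End F V) * (h : Module.End F V)) * x *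
          (((h⁻¹ : GLV F V) : Module.End F V) * (h : Module.End F V)) := by simp only [mul_assoc]
        _ = x := by rw [val_inv_mul, one_mul, mul_one]
    rwa [e] at this
  · intro x hx
    rw [hKN] at hx ⊢
    refine ⟨(adjClosed_ZC hB hadj).adjE_mem hB hx.1, ?_⟩
    rw [← adjE_pow, hx.2]

end Cfsg.Agent.Lib.Helper8.Asch
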