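import Cfsg.Agent.Lib.Helper8.SpC2
import Cfsg.Agent.Lib.Helper8.Asch4

set_option autoImplicit false

/-! An adjoint-closed subfield of prime degree is self-adjoint or of degree two. -/

namespace Cfsg.Agent.Lib.Helper8.Asch

open Module

variable {F : Type*} [Field F] {V : Type*} [AddCommGroup V] [Module F V]

theorem field_dichotomy [Finite F] [FiniteDimensional F V] [Nontrivial V]
    {B : LinearMap.BilinForm F V} {ε : F} (hB : EpsForm B ε)
    (K : Subalgebra F (Module.End F V)) (hK : IsFld K) (r : ℕ) (hr : r.Prime)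
    (hfr : finrank F K = r) (hadj : ∀ x ∈ K, adjE hB x ∈ K) :
    (∀ x ∈ K, adjE hB x = x) ∨ (r = 2 ∧ ∃ x ∈ K, adjE hB x ≠ x) := by
  by_cases hself : ∀ x ∈ K, adjE hB x = x
  · exact Or.inl hself
  right
  push Not at hself
  obtain ⟨x₀, hx₀, hne⟩ := hself
  refine ⟨?_, x₀, hx₀, hne⟩
  haveI : Finite K := Module.finite_of_finite F
  letI fK : Field K := hK.field
  letI aK : @Algebra F K _ fK.toSemiring := (Subalgebra.algebra K : Algebra F K)
  haveI : @Module.Finite F K _ _ aK.toModule := (inferInstance : Module.Finite F K)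
  let τ : K ≃ₐ[F] K :=
    { toFun := fun x => ⟨adjE hB x.1, hadj x.1 x.2⟩
      invFun := fun x => ⟨adjE hB x.1, hadj x.1 x.2⟩
      left_inv := fun x => Subtype.ext (adjE_adjE hB x.1)
      right_inv := fun x => Subtype.ext (adjE_adjE hB x.1)
      map_mul' := fun x y => by
        apply Subtype.ext
        show adjE hB (x.1 * y.1) = adjE hB x.1 * adjE hB y.1
        rw [adjE_mul]
        exact hK.comm _ (hadj _ y.2) _ (hadj _ x.2)
      map_add' := fun x y => Subtype.ext (adjE_add hB x.1 y.1)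
      commutes' := fun c => Subtype.ext (adjE_algebraMap hB c) }
  have hτ1 : τ ≠ 1 := by
    intro h
    have := congrArg (fun σ : K ≃ₐ[F] K => (σ ⟨x₀, hx₀⟩ : Module.End F V)) h
    exact hne this
  have hτ2 : τ ^ 2 = 1 := by
    apply AlgEquiv.ext
    intro x
    rw [pow_two]
    apply Subtype.ext
    show adjE hB (adjE hB x.1) = x.1
    exact adjE_adjE hB x.1
  have hord : orderOf τ = 2 := orderOf_eq_prime hτ2 hτ1
  have hdvd : 2 ∣ Nat.card (K ≃ₐ[F] K) := hord ▸ orderOf_dvd_natCard τ
  have hgal : Nat.card (K ≃ₐ[F] K) = r := (IsGalois.card_aut_eq_finrank F K).trans hfr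
  rw [hgal] at hdvd
  exact ((Nat.prime_dvd_prime_iff_eq Nat.prime_two hr).mp hdvd).symm

end Cfsg.Agent.Lib.Helper8.Asch
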