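import Cfsg.Agent.Lib.Helper8.SpC3

set_option autoImplicit false

/-! A self-adjoint subfield for an alternating form: `B (k v) v = 0`. -/

namespace Cfsg.Agent.Lib.Helper8.Asch

open Module

variable {F : Type*} [Field F] {V : Type*} [AddCommGroup V] [Module F V]

theorem finrank_le_of_isFld [FiniteDimensional F V] [Nontrivial V]
    (K : Subalgebra F (Module.End F V)) (hK : IsFld K) : finrank F K ≤ finrank F V := by
  obtain ⟨v₀, hv₀⟩ := exists_ne (0 : V)
  let φ : K →ₗ[F] V :=
    { toFun := fun k => k.1 v₀
      map_add' := fun x y => by simp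
      map_smul' := fun c x => by simp }
  apply LinearMap.finrank_le_finrank_of_injective (f := φ)
  rw [← LinearMap.ker_eq_bot, LinearMap.ker_eq_bot']
  intro k hk
  by_contra hk0
  have hk0' : k.1 ≠ 0 := fun h => hk0 (Subtype.ext h)
  obtain ⟨y, hy, hky⟩ := hK.inv k.1 k.2 hk0'
  have hyk : y * k.1 = 1 := by rw [hK.comm y hy k.1 k.2]; exact hky
  apply hv₀
  have : (y * k.1) v₀ = v₀ := by rw [hyk]; rfl
  rw [← this, Module.End.mul_apply]
  have hk' : k.1 v₀ = 0 := hk
  rw [hk', map_zero]

/-- the conjugate `h⁻¹ x h` -/
theorem adjE_conj [FiniteDimensional F V] {B : LinearMap.BilinForm F V} {ε : F} (hB : EpsForm B ε)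
    (h : GLV F V)
    (hh : ∀ u v, B ((h : Module.End F V) u) ((h : Module.End F V) v) = B u v) (x : Module.End F V) :
    adjE hB (((h⁻¹ : GLV F V) : Module.End F V) * x * (h : Module.End F V)) =
      ((h⁻¹ : GLV F V) : Module.End F V) * adjE hB x * (h : Module.End F V) := by
  have hh' : ∀ u v, B (((h⁻¹ : GLV F V) : Module.End F V) u) (((h⁻¹ : GLV F V) : Module.End F V) v) =
      B u v := by
    intro u v
    have := hh (((h⁻¹ : GLV F V) : Module.End F V) u) (((h⁻¹ : GLV F V) : Module.End F V) v)
    rw [apply_inv_apply, apply_inv_apply] at this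
    exact this.symm
  rw [adjE_mul, adjE_mul, adjE_isom hB h hh, adjE_isom hB h⁻¹ hh', inv_inv, mul_assoc]

theorem selfadj_alt [Finite F] [FiniteDimensional F V] [Nontrivial V]
    {B : LinearMap.BilinForm F V} (hB : EpsForm B (-1)) (halt : B.IsAlt)
    (H : Subgroup (GLV F V)) (hirr : Irr H) (hH : IsomV B H)
    (K : Subalgebra F (Module.End F V))
    (hnorm : ∀ h ∈ H, ∀ x ∈ K, ((h⁻¹ : GLV F V) : Module.End F V) * x * (h : Module.End F V) ∈ K)
    (hself : ∀ x ∈ K, adjE hB x = x) (hdim : finrank F K < finrank F V) :
    ∀ k ∈ K, ∀ v, B (k v) v = 0 := by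
  have hsw : ∀ k ∈ K, ∀ u v, B (k v) u = - B (k u) v := by
    intro k hk u v
    rw [adjE_apply' hB, hself k hk, hB.symm]
    ring
  -- the subspace
  let U : Submodule F V :=
    { carrier := {v | ∀ k ∈ K, B (k v) v = 0}
      add_mem' := by
        intro u v hu hv k hk
        show B (k (u + v)) (u + v) = 0
        simp only [map_add, LinearMap.add_apply]
        rw [hu k hk, hv k hk, hsw k hk u v]
        ring
      zero_mem' := by
        intro k _
        simp
      smul_mem' := by
        intro c v hv k hk
        show B (k (c • v)) (c • v) = 0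
        rw [map_smul, map_smul, map_smul, LinearMap.smul_apply, hv k hk]
        simp }
  have hUinv : ∀ h ∈ H, ∀ w ∈ U, (h : Module.End F V) w ∈ U := by
    intro h hh w hw k hk
    have h1 := hw _ (hnorm h hh k hk)
    rw [Module.End.mul_apply, Module.End.mul_apply] at h1
    have h2 := hH h hh (((h⁻¹ : GLV F V) : Module.End F V) (k ((h : Module.End F V) w))) w
    rw [apply_inv_apply] at h2
    rw [h2]
    exact h1
  rcases hirr U hUinv with hbot | htop
  swap
  · intro k hk v
    have : v ∈ U := by rw [htop]; trivial
    exact this k hk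
  exfalso
  by_cases h2 : (2 : F) = 0
  swap
  · -- odd characteristic: every vector lies in U
    obtain ⟨v₀, hv₀⟩ := exists_ne (0 : V)
    apply hv₀
    have : v₀ ∈ U := by
      intro k hk
      have := hsw k hk v₀ v₀
      have h3 : (2 : F) * B (k v₀) v₀ = 0 := by linear_combination this
      rcases mul_eq_zero.mp h3 with h | h
      · exact absurd h h2
      · exact h
    rw [hbot] at this
    exact (Submodule.mem_bot F).mp this
  · -- characteristic two: counting
    have hneg : ∀ x : F, -x = x := by
      intro x
      have : x + x = 0 := by linear_combination x * h2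
      linear_combination -this
    let Φ : V → (K →ₗ[F] F) := fun v =>
      { toFun := fun k => B (k.1 v) v
        map_add' := fun x y => by simp
        map_smul' := fun c x => by simp }
    have hΦadd : ∀ u v, Φ (u + v) = Φ u + Φ v := by
      intro u v
      ext k
      show B (k.1 (u + v)) (u + v) = B (k.1 u) u + B (k.1 v) v
      simp only [map_add, LinearMap.add_apply]
      rw [hsw k.1 k.2 u v]
      ring
    have hΦneg : ∀ v, Φ (-v) = Φ v := by
      intro v
      ext k
      show B (k.1 (-v)) (-v) = B (k.1 v) v
      simp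
    have hinj : Function.Injective Φ := by
      intro u v huv
      have h1 : Φ (u - v) = 0 := by
        rw [sub_eq_add_neg, hΦadd, hΦneg, huv]
        ext k
        show B (k.1 v) v + B (k.1 v) v = 0
        linear_combination (B (k.1 v) v) * h2
      have h3 : u - v ∈ U := by
        intro k hk
        exact congrArg (fun φ : K →ₗ[F] F => φ ⟨k, hk⟩) h1
      rw [hbot] at h3
      exact sub_eq_zero.mp ((Submodule.mem_bot F).mp h3)
    have hfin : Finite (K →ₗ[F] F) := Module.finite_of_finite F
    have hc1 := Nat.card_le_card_of_injective Φ hinj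
    rw [Module.natCard_eq_pow_finrank (K := F) (V := V),
      Module.natCard_eq_pow_finrank (K := F) (V := K →ₗ[F] F)] at hc1
    have hd : finrank F (K →ₗ[F] F) = finrank F K := Subspace.dual_finrank_eq
    rw [hd] at hc1
    have hq : 1 < Nat.card F := Finite.one_lt_card
    have := (Nat.pow_le_pow_iff_right hq).mp hc1
    omega

end Cfsg.Agent.Lib.Helper8.Asch
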