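import Cfsg.Agent.Lib.Helper8.SpC4

set_option autoImplicit false

/-! A degree-two adjoint-closed, not self-adjoint subfield in characteristic two: an invariant
quadratic form. -/

namespace Cfsg.Agent.Lib.Helper8.Asch

open Module

variable {F : Type*} [Field F] {V : Type*} [AddCommGroup V] [Module F V]

theorem fixed_eq_scalar [FiniteDimensional F V] [Nontrivial V]
    {B : LinearMap.BilinForm F V} {ε : F} (hB : EpsForm B ε)
    (K : Subalgebra F (Module.End F V)) (hK : IsFld K) (hfr : finrank F K = 2)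
    {x₀ : Module.End F V} (hx₀ : x₀ ∈ K) (hne : adjE hB x₀ ≠ x₀)
    {d : Module.End F V} (hd : d ∈ K) (hdfix : adjE hB d = d) :
    ∃ c : F, d = c • (1 : Module.End F V) := by
  let K₀ : Subalgebra F (Module.End F V) :=
    { carrier := {x | x ∈ K ∧ adjE hB x = x}
      mul_mem' := by
        rintro x y ⟨hx, hx'⟩ ⟨hy, hy'⟩
        refine ⟨K.mul_mem hx hy, ?_⟩
        rw [adjE_mul, hx', hy']
        exact hK.comm y hy x hx
      add_mem' := by
        rintro x y ⟨hx, hx'⟩ ⟨hy, hy'⟩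
        exact ⟨K.add_mem hx hy, by rw [adjE_add, hx', hy']⟩
      algebraMap_mem' := by
        intro c
        exact ⟨K.algebraMap_mem c, adjE_algebraMap hB c⟩ }
  have hle : K₀ ≤ K := fun x hx => hx.1
  have hlt : K₀ < K := by
    refine lt_of_le_of_ne hle ?_
    intro h
    have : x₀ ∈ K₀ := by rw [h]; exact hx₀
    exact hne this.2
  have h1 : finrank F K₀ < finrank F K := by
    have : Subalgebra.toSubmodule K₀ < Subalgebra.toSubmodule K := hlt
    have := Submodule.finrank_lt_finrank_of_lt this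
    simpa using this
  have h2 : 0 < finrank F K₀ := by
    rw [Module.finrank_pos_iff]
    exact ⟨⟨0, 1, fun h => one_ne_zero (congrArg Subtype.val h).symm⟩⟩
  have h3 : finrank F K₀ = 1 := by omega
  rw [Subalgebra.finrank_eq_one_iff] at h3
  have hdK₀ : d ∈ K₀ := ⟨hd, hdfix⟩
  rw [h3, Algebra.mem_bot] at hdK₀
  obtain ⟨c, rfl⟩ := hdK₀
  exact ⟨c, Algebra.algebraMap_eq_smul_one c⟩

theorem nonselfadj_char2 [FiniteDimensional F V] [Nontrivial V]
    {B : LinearMap.BilinForm F V} (hB : EpsForm B (-1)) (halt : B.IsAlt) (h2 : (2 : F) = 0)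
    (H : Subgroup (GLV F V)) (hH : IsomV B H)
    (K : Subalgebra F (Module.End F V)) (hK : IsFld K) (hfr : finrank F K = 2)
    (hadj : ∀ x ∈ K, adjE hB x ∈ K)
    (hnorm : ∀ h ∈ H, ∀ x ∈ K, ((h⁻¹ : GLV F V) : Module.End F V) * x * (h : Module.End F V) ∈ K)
    {x₀ : Module.End F V} (hx₀ : x₀ ∈ K) (hne : adjE hB x₀ ≠ x₀) :
    ∃ k₀ ∈ K, k₀ + adjE hB k₀ = 1 ∧
      ∀ h ∈ H, ∀ v, B (k₀ ((h : Module.End F V) v)) ((h : Module.End F V) v) = B (k₀ v) v := by
  have hneg : ∀ x : Module.End F V, -x = x := by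
    intro x
    have h2' : (2 : F) • x = 0 := by rw [h2, zero_smul]
    rw [two_smul] at h2'
    exact neg_eq_of_add_eq_zero_left h2'
  set t := x₀ + adjE hB x₀ with ht
  have htK : t ∈ K := K.add_mem hx₀ (hadj _ hx₀)
  have htfix : adjE hB t = t := by rw [ht, adjE_add, adjE_adjE, add_comm]
  have ht0 : t ≠ 0 := by
    intro h0
    apply hne
    have : adjE hB x₀ = -x₀ := by
      rw [ht] at h0
      exact eq_neg_of_add_eq_zero_right h0
    rw [this, hneg]
  obtain ⟨c, hc⟩ := fixed_eq_scalar hB K hK hfr hx₀ hne htK htfix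
  have hc0 : c ≠ 0 := by
    intro h0
    rw [h0, zero_smul] at hc
    exact ht0 hc
  refine ⟨c⁻¹ • x₀, K.smul_mem hx₀ _, ?_, ?_⟩
  · rw [adjE_smul, ← smul_add, ← ht, hc, smul_smul, inv_mul_cancel₀ hc0, one_smul]
  · have hk₀ : (c⁻¹ • x₀) + adjE hB (c⁻¹ • x₀) = 1 := by
      rw [adjE_smul, ← smul_add, ← ht, hc, smul_smul, inv_mul_cancel₀ hc0, one_smul]
    set k₀ := c⁻¹ • x₀ with hk₀def
    have hk₀K : k₀ ∈ K := K.smul_mem hx₀ _
    intro h hh v
    set k' := ((h⁻¹ : GLV F V) : Module.End F V) * k₀ * (h : Module.End F V) with hk'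
    have hk'K : k' ∈ K := hnorm h hh k₀ hk₀K
    have hk'1 : k' + adjE hB k' = 1 := by
      rw [hk', adjE_conj hB h (hH h hh), ← add_mul, ← mul_add, hk₀, mul_one, val_inv_mul]
    have hd : adjE hB (k' - k₀) = k' - k₀ := by
      have e1 : adjE hB k' = 1 - k' := eq_sub_of_add_eq' hk'1
      have e2 : adjE hB k₀ = 1 - k₀ := eq_sub_of_add_eq' hk₀
      have e4 : adjE hB (k' - k₀) = adjE hB k' - adjE hB k₀ := by
        rw [sub_eq_add_neg, adjE_add, ← neg_one_smul F k₀, adjE_smul, neg_one_smul, ← sub_eq_add_neg]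
      rw [e4, e1, e2, ← hneg (k' - k₀)]
      abel
    obtain ⟨d, hd'⟩ := fixed_eq_scalar hB K hK hfr hx₀ hne (K.sub_mem hk'K hk₀K) hd
    have e3 : k' = k₀ + d • (1 : Module.End F V) := by rw [← hd']; abel
    have h1 := hH h hh (((h⁻¹ : GLV F V) : Module.End F V) (k₀ ((h : Module.End F V) v))) v
    rw [apply_inv_apply] at h1
    rw [h1]
    have : ((h⁻¹ : GLV F V) : Module.End F V) (k₀ ((h : Module.End F V) v)) = k' v := rfl
    rw [this, e3]
    show B (k₀ v + d • v) v = B (k₀ v) v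
    rw [map_add, LinearMap.add_apply, map_smul]
    have hv0 : (d • B v) v = 0 := by
      show d • (B v v) = 0
      rw [halt v, smul_zero]
    rw [hv0, add_zero]

theorem polar_of_adj_add [FiniteDimensional F V]
    {B : LinearMap.BilinForm F V} (hB : EpsForm B (-1)) (h2 : (2 : F) = 0)
    {k₀ : Module.End F V} (hk₀ : k₀ + adjE hB k₀ = 1) (u v : V) :
    B (k₀ (u + v)) (u + v) - B (k₀ u) u - B (k₀ v) v = B u v := by
  have e1 : B (k₀ v) u = B (adjE hB k₀ u) v := by
    have hm : (-1 : F) = 1 := by linear_combination -h2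
    rw [adjE_apply' hB, hB.symm]
    linear_combination (B (adjE hB k₀ u) v) * hm
  have e2 : B u v = B (k₀ u) v + B (adjE hB k₀ u) v := by
    rw [← LinearMap.add_apply, ← map_add, ← LinearMap.add_apply, hk₀]
    rfl
  simp only [map_add, LinearMap.add_apply]
  rw [e2, e1]
  ring

end Cfsg.Agent.Lib.Helper8.Asch
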