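import Cfsg.Agent.Lib.Helper8.SpC6
import Cfsg.Agent.Lib.Helper8.AschF3

set_option autoImplicit false

/-! Tensor decompositions and forms: the change of basis attached to a basis indexed by another type,
uniqueness of Kronecker factors, and the Gram matrix of a form whose adjoint preserves a tensor
factor. -/

namespace Cfsg.Agent.Lib.Helper8.Asch

open Module Matrix
open scoped Kronecker
open Cfsg.Geo

section basisGL

variable {ι κ : Type} [Fintype ι] [DecidableEq ι] [Fintype κ] [DecidableEq κ]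
  {F : Type*} [Field F]

/-- the change of basis matrix attached to a basis `b` indexed by `κ` and a bijection `ι ≃ κ` -/
noncomputable def basisGL (b : Basis κ F (ι → F)) (e : ι ≃ κ) : GL ι F where
  val := ((Pi.basisFun F ι).toMatrix b).submatrix id e
  inv := (b.toMatrix (Pi.basisFun F ι)).submatrix e id
  val_inv := by
    rw [Matrix.submatrix_mul_equiv, Basis.toMatrix_mul_toMatrix_flip, Matrix.submatrix_id_id]
  inv_val := by
    have : (b.toMatrix (Pi.basisFun F ι)).submatrix e id *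
        ((Pi.basisFun F ι).toMatrix b).submatrix id e =
        ((b.toMatrix (Pi.basisFun F ι)) * ((Pi.basisFun F ι).toMatrix b)).submatrix e e := by
      rw [Matrix.submatrix_mul (b.toMatrix (Pi.basisFun F ι)) ((Pi.basisFun F ι).toMatrix b) e id e
        Function.bijective_id]
    rw [this, Basis.toMatrix_mul_toMatrix_flip, Matrix.submatrix_one_equiv]

theorem basisGL_val (b : Basis κ F (ι → F)) (e : ι ≃ κ) :
    (basisGL b e : Matrix ι ι F) = ((Pi.basisFun F ι).toMatrix b).submatrix id e := rfl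

theorem basisGL_inv (b : Basis κ F (ι → F)) (e : ι ≃ κ) :
    ((basisGL b e)⁻¹ : GL ι F).val = (b.toMatrix (Pi.basisFun F ι)).submatrix e id := rfl

theorem basisGL_mulVec (b : Basis κ F (ι → F)) (e : ι ≃ κ) (x : κ → F) :
    (basisGL b e : Matrix ι ι F) *ᵥ (x ∘ e) = ∑ k, x k • b k := by
  ext i
  rw [basisGL_val, Matrix.mulVec, dotProduct, Finset.sum_apply]
  rw [← Equiv.sum_comp e (fun k => (x k • b k) i)]
  refine Finset.sum_congr rfl fun j _ => ?_
  rw [Matrix.submatrix_apply, Basis.toMatrix_apply, Pi.basisFun_repr, Function.comp_apply,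
    Pi.smul_apply, smul_eq_mul, id, mul_comm]

theorem mem_conj_basisGL (S : Subgroup (GL κ F)) (b : Basis κ F (ι → F)) (e : ι ≃ κ)
    (h : GL ι F)
    (hs : ∃ s ∈ S, LinearMap.toMatrix b b (Matrix.toLin' (h : Matrix ι ι F)) = (s : Matrix κ κ F)) :
    h ∈ (S.map (glReindex e.symm).toMonoidHom).map (MulAut.conj (basisGL b e)).toMonoidHom := by
  set Q : Matrix κ ι F := b.toMatrix (Pi.basisFun F ι) with hQ
  set Q' : Matrix ι κ F := (Pi.basisFun F ι).toMatrix b with hQ'
  have q2 : Q' * Q = 1 := Basis.toMatrix_mul_toMatrix_flip _ _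
  obtain ⟨s, hs, hsM⟩ := hs
  rw [toMatrix_toLin'] at hsM
  rw [Subgroup.mem_map]
  refine ⟨glReindex e.symm s, Subgroup.mem_map_of_mem _ hs, ?_⟩
  apply Units.ext
  simp only [MulEquiv.toMonoidHom_eq_coe, MonoidHom.coe_coe, MulAut.conj_apply, Units.val_mul]
  show Q'.submatrix id e * (Matrix.reindexAlgEquiv F F e.symm (s : Matrix κ κ F)) *
    Q.submatrix e id = (h : Matrix ι ι F)
  have hre : Matrix.reindexAlgEquiv F F e.symm (s : Matrix κ κ F) =
      (s : Matrix κ κ F).submatrix e e := rfl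
  rw [hre, ← hsM]
  have h1 : Q'.submatrix id e * (Q * (h : Matrix ι ι F) * Q').submatrix e e * Q.submatrix e id =
      (Q' * (Q * (h : Matrix ι ι F) * Q') * Q).submatrix id id := by
    rw [Matrix.submatrix_mul_equiv, Matrix.submatrix_mul_equiv]
  rw [h1, Matrix.submatrix_id_id]
  calc Q' * (Q * (h : Matrix ι ι F) * Q') * Q = (Q' * Q) * (h : Matrix ι ι F) * (Q' * Q) := by
        simp only [Matrix.mul_assoc]
    _ = (h : Matrix ι ι F) := by rw [q2, one_mul, mul_one]

end basisGL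

section kron

variable {F : Type*} [Field F]
variable {I J : Type*} [Fintype I] [Fintype J] [DecidableEq I] [DecidableEq J]

/-- uniqueness of Kronecker factors up to a scalar -/
theorem kron_eq_kron {A A' : Matrix I I F} {B B' : Matrix J J F}
    (h : A ⊗ₖ B = A' ⊗ₖ B') (hA' : A' ≠ 0) (hB' : B' ≠ 0) :
    ∃ μ : F, μ ≠ 0 ∧ A = μ • A' ∧ B = μ⁻¹ • B' := by
  have hent : ∀ i j k l, A i j * B k l = A' i j * B' k l := by
    intro i j k l
    have := congrFun (congrFun h (i, k)) (j, l)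
    rwa [Matrix.kroneckerMap_apply, Matrix.kroneckerMap_apply] at this
  obtain ⟨i₀, j₀, hij⟩ : ∃ i j, A' i j ≠ 0 := by
    by_contra hcon
    push Not at hcon
    exact hA' (Matrix.ext hcon)
  obtain ⟨k₀, l₀, hkl⟩ : ∃ k l, B' k l ≠ 0 := by
    by_contra hcon
    push Not at hcon
    exact hB' (Matrix.ext hcon)
  have h0 := hent i₀ j₀ k₀ l₀
  have hne : A i₀ j₀ * B k₀ l₀ ≠ 0 := by
    rw [h0]
    exact mul_ne_zero hij hkl
  have hA0 : A i₀ j₀ ≠ 0 := left_ne_zero_of_mul hne
  have hB0 : B k₀ l₀ ≠ 0 := right_ne_zero_of_mul hne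
  refine ⟨B' k₀ l₀ / B k₀ l₀, div_ne_zero hkl hB0, ?_, ?_⟩
  · ext i j
    rw [Matrix.smul_apply, smul_eq_mul]
    have := hent i j k₀ l₀
    field_simp
    linear_combination this
  · ext k l
    rw [Matrix.smul_apply, smul_eq_mul]
    have h1 := hent i₀ j₀ k l
    have h2 : A' i₀ j₀ * (B k l * B' k₀ l₀ - B k₀ l₀ * B' k l) = 0 := by
      linear_combination (B k₀ l₀) * h1 - (B k l) * h0
    have h3 : B k l * B' k₀ l₀ = B k₀ l₀ * B' k l := by
      rcases mul_eq_zero.mp h2 with h4 | h4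
      · exact absurd h4 hij
      · linear_combination h4
    rw [inv_div]
    field_simp
    linear_combination h3

theorem kron_ne_zero {A : Matrix I I F} {B : Matrix J J F} (hA : A ≠ 0) (hB : B ≠ 0) :
    A ⊗ₖ B ≠ 0 := by
  obtain ⟨i₀, j₀, hij⟩ : ∃ i j, A i j ≠ 0 := by
    by_contra hcon
    push Not at hcon
    exact hA (Matrix.ext hcon)
  obtain ⟨k₀, l₀, hkl⟩ : ∃ k l, B k l ≠ 0 := by
    by_contra hcon
    push Not at hcon
    exact hB (Matrix.ext hcon)
  intro h0
  have := congrFun (congrFun h0 (i₀, k₀)) (j₀, l₀)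
  rw [Matrix.kroneckerMap_apply, Matrix.zero_apply] at this
  exact mul_ne_zero hij hkl this

/-- symmetry type of the Kronecker factors of an `ε`-symmetric matrix -/
theorem kron_transpose_eps {G₁ : Matrix I I F} {G₂ : Matrix J J F} {ε : F}
    (h : (G₁ ⊗ₖ G₂)ᵀ = ε • (G₁ ⊗ₖ G₂)) (hε : ε * ε = 1) (h1 : G₁ ≠ 0) (h2 : G₂ ≠ 0) :
    ∃ l : F, l * l = 1 ∧ G₁ᵀ = l • G₁ ∧ G₂ᵀ = (ε * l) • G₂ := by
  have hε0 : ε ≠ 0 := by
    rintro rfl
    rw [mul_zero] at hε
    exact zero_ne_one hε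
  have h' : G₁ᵀ ⊗ₖ G₂ᵀ = (ε • G₁) ⊗ₖ G₂ := by
    rw [Matrix.kroneckerMap_transpose, h, Matrix.smul_kronecker]
  have hεG : ε • G₁ ≠ 0 := by
    intro h0
    apply h1
    have := congrArg (fun M => ε⁻¹ • M) h0
    simpa [smul_smul, inv_mul_cancel₀ hε0] using this
  obtain ⟨μ, hμ, e1, e2⟩ := kron_eq_kron h' hεG h2
  have e1' : G₁ᵀ = (μ * ε) • G₁ := by rw [e1, smul_smul]
  have hl : (μ * ε) * (μ * ε) = 1 := by
    have : G₁ = ((μ * ε) * (μ * ε)) • G₁ := by
      calc G₁ = (G₁ᵀ)ᵀ := (Matrix.transpose_transpose G₁).symm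
        _ = ((μ * ε) • G₁)ᵀ := by rw [← e1']
        _ = (μ * ε) • G₁ᵀ := Matrix.transpose_smul _ _
        _ = ((μ * ε) * (μ * ε)) • G₁ := by rw [e1', smul_smul]
    obtain ⟨i₀, j₀, hij⟩ : ∃ i j, G₁ i j ≠ 0 := by
      by_contra hcon
      push Not at hcon
      exact h1 (Matrix.ext hcon)
    have := congrFun (congrFun this i₀) j₀
    rw [Matrix.smul_apply, smul_eq_mul] at this
    have h3 : ((μ * ε) * (μ * ε) - 1) * G₁ i₀ j₀ = 0 := by linear_combination -this
    rcases mul_eq_zero.mp h3 with h4 | h4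
    · linear_combination h4
    · exact absurd h4 hij
  refine ⟨μ * ε, hl, e1', ?_⟩
  rw [e2]
  congr 1
  have hμ2 : μ * μ = 1 := by
    have : (μ * ε) * (μ * ε) = (μ * μ) * (ε * ε) := by ring
    rw [this, hε, mul_one] at hl
    exact hl
  have hinv : μ⁻¹ = μ := by
    field_simp
    rw [pow_two]
    exact hμ2.symm
  rw [hinv]
  linear_combination (-μ) * hε

end kron

end Cfsg.Agent.Lib.Helper8.Asch
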