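import Cfsg.Agent.Lib.Helper8.SpD1

set_option autoImplicit false

/-! The Gram matrix of a form, in a basis adapted to a tensor decomposition whose first factor algebra
is closed under adjoints, is a Kronecker product. -/

namespace Cfsg.Agent.Lib.Helper8.Asch

open Module Matrix
open scoped Kronecker
open Cfsg.Geo

variable {F : Type*} [Field F] {V : Type*} [AddCommGroup V] [Module F V]

theorem gram_adj {κ : Type*} [Fintype κ] [DecidableEq κ] (B : LinearMap.BilinForm F V)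
    (b : Basis κ F V) (x y : Module.End F V) (h : ∀ u v, B (x u) v = B u (y v)) :
    (LinearMap.toMatrix b b x)ᵀ * LinearMap.BilinForm.toMatrix b B =
      LinearMap.BilinForm.toMatrix b B * LinearMap.toMatrix b b y := by
  rw [← LinearMap.BilinForm.toMatrix_compLeft, ← LinearMap.BilinForm.toMatrix_compRight]
  congr 1
  ext u v
  simp [h]

theorem gram_isom {κ : Type*} [Fintype κ] [DecidableEq κ] (B : LinearMap.BilinForm F V)
    (b : Basis κ F V) (x : Module.End F V) (h : ∀ u v, B (x u) (x v) = B u v) :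
    (LinearMap.toMatrix b b x)ᵀ * LinearMap.BilinForm.toMatrix b B * LinearMap.toMatrix b b x =
      LinearMap.BilinForm.toMatrix b B := by
  rw [← LinearMap.BilinForm.toMatrix_comp]
  congr 1
  ext u v
  simp [h]

theorem gram_transpose {κ : Type*} [Fintype κ] [DecidableEq κ] {B : LinearMap.BilinForm F V}
    {ε : F} (hB : EpsForm B ε) (b : Basis κ F V) :
    (LinearMap.BilinForm.toMatrix b B)ᵀ = ε • LinearMap.BilinForm.toMatrix b B := by
  ext k l
  rw [Matrix.transpose_apply, Matrix.smul_apply, LinearMap.BilinForm.toMatrix_apply,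
    LinearMap.BilinForm.toMatrix_apply, smul_eq_mul]
  exact hB.symm _ _

theorem gl_ne_zero {I : Type*} [Fintype I] [DecidableEq I] [Nonempty I] (G : GL I F) :
    (G : Matrix I I F) ≠ 0 := by
  intro h0
  have : (1 : Matrix I I F) = 0 := by
    rw [← Units.mul_inv G, h0, zero_mul]
  exact one_ne_zero this

variable {I J : Type*} [Fintype I] [Fintype J] [DecidableEq I] [DecidableEq J]

theorem gram_kron [Nonempty I] [Nonempty J] {B : LinearMap.BilinForm F V}
    (hB : B.Nondegenerate) (b : Basis (I × J) F V) (A : Subalgebra F (Module.End F V))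
    (hb1 : ∀ x ∈ A, ∃ X : Matrix I I F, LinearMap.toMatrix b b x = X ⊗ₖ (1 : Matrix J J F))
    (hb2 : ∀ X : Matrix I I F, ∃ x ∈ A, LinearMap.toMatrix b b x = X ⊗ₖ (1 : Matrix J J F))
    (hadj : AdjClosed B A) :
    ∃ (G₁ : GL I F) (G₂ : GL J F),
      LinearMap.BilinForm.toMatrix b B = (G₁ : Matrix I I F) ⊗ₖ (G₂ : Matrix J J F) := by
  set G := LinearMap.BilinForm.toMatrix b B with hG
  have hdet : G.det ≠ 0 := (LinearMap.BilinForm.nondegenerate_iff_det_ne_zero b).mp hB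
  let g : GL (I × J) F := Matrix.GeneralLinearGroup.mkOfDetNeZero G hdet
  have hg : (g : Matrix (I × J) (I × J) F) = G := rfl
  have key := kron_of_normalizes g⁻¹ (by
    intro X
    obtain ⟨x, hx, hxX⟩ := hb2 Xᵀ
    obtain ⟨x', hx', hadj'⟩ := hadj x hx
    obtain ⟨X', hX'⟩ := hb1 x' hx'
    refine ⟨X', ?_⟩
    have h1 := gram_adj B b x x' hadj'
    rw [hxX, hX', ← Matrix.kroneckerMap_transpose, Matrix.transpose_transpose,
      Matrix.transpose_one, ← hG] at h1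
    rw [inv_inv, hg, mul_assoc, h1, ← mul_assoc, ← hg, ← Units.val_mul, inv_mul_cancel,
      Units.val_one, one_mul])
  obtain ⟨U, Γ, hUΓ⟩ := key
  refine ⟨U⁻¹, Γ⁻¹, ?_⟩
  have h1 : G * ((U : Matrix I I F) ⊗ₖ (Γ : Matrix J J F)) = 1 := by
    rw [← hUΓ, ← hg, ← Units.val_mul, mul_inv_cancel, Units.val_one]
  have h2 : ((U : Matrix I I F) ⊗ₖ (Γ : Matrix J J F)) *
      (((U⁻¹ : GL I F) : Matrix I I F) ⊗ₖ ((Γ⁻¹ : GL J F) : Matrix J J F)) = 1 := by
    rw [← Matrix.mul_kronecker_mul, ← Units.val_mul, ← Units.val_mul, mul_inv_cancel,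
      mul_inv_cancel, Units.val_one, Units.val_one, Matrix.one_kronecker_one]
  calc G = G * (((U : Matrix I I F) ⊗ₖ (Γ : Matrix J J F)) *
      (((U⁻¹ : GL I F) : Matrix I I F) ⊗ₖ ((Γ⁻¹ : GL J F) : Matrix J J F))) := by
        rw [h2, mul_one]
    _ = ((U⁻¹ : GL I F) : Matrix I I F) ⊗ₖ ((Γ⁻¹ : GL J F) : Matrix J J F) := by
        rw [← mul_assoc, h1, one_mul]

theorem gram_kron_eps [Nonempty I] [Nonempty J] {B : LinearMap.BilinForm F V} {ε : F}
    (hB : EpsForm B ε) (b : Basis (I × J) F V) (A : Subalgebra F (Module.End F V))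
    (hb1 : ∀ x ∈ A, ∃ X : Matrix I I F, LinearMap.toMatrix b b x = X ⊗ₖ (1 : Matrix J J F))
    (hb2 : ∀ X : Matrix I I F, ∃ x ∈ A, LinearMap.toMatrix b b x = X ⊗ₖ (1 : Matrix J J F))
    (hadj : AdjClosed B A) :
    ∃ (G₁ : GL I F) (G₂ : GL J F) (l : F),
      LinearMap.BilinForm.toMatrix b B = (G₁ : Matrix I I F) ⊗ₖ (G₂ : Matrix J J F) ∧
      l * l = 1 ∧ (G₁ : Matrix I I F)ᵀ = l • (G₁ : Matrix I I F) ∧
      (G₂ : Matrix J J F)ᵀ = (ε * l) • (G₂ : Matrix J J F) := by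
  obtain ⟨G₁, G₂, hG⟩ := gram_kron hB.nondeg b A hb1 hb2 hadj
  have ht := gram_transpose hB b
  rw [hG] at ht
  obtain ⟨l, hl, h1, h2⟩ := kron_transpose_eps ht hB.sq (gl_ne_zero G₁) (gl_ne_zero G₂)
  exact ⟨G₁, G₂, l, hG, hl, h1, h2⟩

theorem kron_similarity [Nonempty I] [Nonempty J] (G₁ : GL I F) (G₂ : GL J F)
    (X : Matrix I I F) (Y : Matrix J J F)
    (h : (X ⊗ₖ Y)ᵀ * ((G₁ : Matrix I I F) ⊗ₖ (G₂ : Matrix J J F)) * (X ⊗ₖ Y) =
      (G₁ : Matrix I I F) ⊗ₖ (G₂ : Matrix J J F)) :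
    ∃ μ : F, μ ≠ 0 ∧ Xᵀ * (G₁ : Matrix I I F) * X = μ • (G₁ : Matrix I I F) ∧
      Yᵀ * (G₂ : Matrix J J F) * Y = μ⁻¹ • (G₂ : Matrix J J F) := by
  rw [← Matrix.kroneckerMap_transpose, ← Matrix.mul_kronecker_mul, ← Matrix.mul_kronecker_mul] at h
  exact kron_eq_kron h (gl_ne_zero G₁) (gl_ne_zero G₂)

end Cfsg.Agent.Lib.Helper8.Asch
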