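import Cfsg.Agent.Lib.Helper8.SpD2

set_option autoImplicit false

/-! Class 4 for the symplectic group from a tensor decomposition of the form. -/

namespace Cfsg.Agent.Lib.Helper8.Asch

open Module Matrix
open scoped Kronecker
open Cfsg.Geo

variable {F : Type*} [Field F]

theorem gramMatrix_gf {κ : Type} [Fintype κ] [DecidableEq κ] (G : Matrix κ κ F) :
    gramMatrix (gf (RingHom.id F) G) = G := by
  ext a b
  exact gf_single _ G a b

theorem bilin_sum_basis {ι κ : Type} [Fintype ι] [DecidableEq ι] [Fintype κ] [DecidableEq κ]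
    (B : LinearMap.BilinForm F (ι → F)) (b : Basis κ F (ι → F)) (x y : κ → F) :
    B (∑ k, x k • b k) (∑ k, y k • b k) =
      ∑ k, ∑ l, x k * LinearMap.BilinForm.toMatrix b B k l * y l := by
  rw [LinearMap.BilinForm.apply_eq_dotProduct_toMatrix_mulVec b, Basis.repr_sum_self,
    Basis.repr_sum_self]
  simp only [dotProduct, Matrix.mulVec, Finset.mul_sum, mul_assoc]

theorem tensorFormStructure_of_gram {ι : Type} [Fintype ι] [DecidableEq ι]
    {f : (ι → F) → (ι → F) → F} (hf : IsBilinearForm f) {n₁ n₂ : ℕ}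
    (b : Basis (Fin n₁ × Fin n₂) F (ι → F)) (e : ι ≃ Fin n₁ × Fin n₂)
    (G₁ : Matrix (Fin n₁) (Fin n₁) F) (G₂ : Matrix (Fin n₂) (Fin n₂) F)
    (hG : LinearMap.BilinForm.toMatrix b (toBilin hf) = G₁ ⊗ₖ G₂) :
    IsTensorFormStructure id f (gf (RingHom.id F) G₁) (gf (RingHom.id F) G₂) e (basisGL b e) := by
  refine ⟨1, one_ne_zero, fun x y => ?_⟩
  rw [basisGL_mulVec, basisGL_mulVec, one_mul, gramMatrix_gf, gramMatrix_gf]
  have := bilin_sum_basis (toBilin hf) b x y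
  rw [toBilin_apply] at this
  rw [this, hG]
  rfl

theorem gl_det_ne_zero {I : Type*} [Fintype I] [DecidableEq I] (G : GL I F) :
    (G : Matrix I I F).det ≠ 0 := by
  have := (Matrix.isUnit_iff_isUnit_det (G : Matrix I I F)).mp G.isUnit
  exact this.ne_zero

theorem isSymplecticForm_gf {κ : Type} [Fintype κ] [DecidableEq κ] (G : GL κ F)
    (h2 : (2 : F) ≠ 0) (hskew : (G : Matrix κ κ F)ᵀ = -(G : Matrix κ κ F)) :
    IsSymplecticForm (gf (RingHom.id F) (G : Matrix κ κ F)) := by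
  have hsk : ∀ a b, (G : Matrix κ κ F) a b + (G : Matrix κ κ F) b a = 0 := by
    intro a b
    have := congrFun (congrFun hskew b) a
    rw [Matrix.transpose_apply, Matrix.neg_apply] at this
    rw [this]
    ring
  have hdiag : ∀ a, (G : Matrix κ κ F) a a = 0 := by
    intro a
    have := hsk a a
    have h3 : (2 : F) * (G : Matrix κ κ F) a a = 0 := by linear_combination this
    rcases mul_eq_zero.mp h3 with h4 | h4
    · exact absurd h4 h2
    · exact h4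
  exact ⟨gf_bilinear _, gf_skew _ hsk, gf_alt _ hsk hdiag,
    gf_nondeg _ (RingHom.id F).injective _ (gl_det_ne_zero G)⟩

theorem isSymmetricForm_gf {κ : Type} [Fintype κ] [DecidableEq κ] (G : GL κ F)
    (hsymm : (G : Matrix κ κ F)ᵀ = (G : Matrix κ κ F)) :
    IsSymmetricForm (gf (RingHom.id F) (G : Matrix κ κ F)) := by
  refine ⟨gf_bilinear _, fun u v => ?_, gf_nondeg _ (RingHom.id F).injective _ (gl_det_ne_zero G)⟩
  rw [← gf_transpose, hsymm]

theorem sp_class4 [Fintype F] (m : ℕ) (H : Subgroup (GL (Fin m ⊕ Fin m) F)) (hH : H ≤ spGL m F)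
    (hodd : Odd (Fintype.card F)) {n₁ n₂ : ℕ} (hn₂ : 3 ≤ n₂)
    (b : Basis (Fin n₁ × Fin n₂) F (Fin m ⊕ Fin m → F))
    (G₁ : GL (Fin n₁) F) (G₂ : GL (Fin n₂) F)
    (hG : LinearMap.BilinForm.toMatrix b (toBilin (isSymplecticForm_sympForm (F := F) m).bilinear) =
      (G₁ : Matrix (Fin n₁) (Fin n₁) F) ⊗ₖ (G₂ : Matrix (Fin n₂) (Fin n₂) F))
    (h1 : (G₁ : Matrix (Fin n₁) (Fin n₁) F)ᵀ = -(G₁ : Matrix (Fin n₁) (Fin n₁) F))
    (h2 : (G₂ : Matrix (Fin n₂) (Fin n₂) F)ᵀ = (G₂ : Matrix (Fin n₂) (Fin n₂) F))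
    (hHk : ∀ h ∈ H, ∃ (U : GL (Fin n₁) F) (Γ : GL (Fin n₂) F),
      LinearMap.toMatrix b b (Matrix.toLin' (h : Matrix (Fin m ⊕ Fin m) (Fin m ⊕ Fin m) F)) =
        (U : Matrix (Fin n₁) (Fin n₁) F) ⊗ₖ (Γ : Matrix (Fin n₂) (Fin n₂) F)) :
    ∃ M : Subgroup (GL (Fin m ⊕ Fin m) F), ISC m F M ∧ H ≤ M := by
  have hcard : Fintype.card (Fin m ⊕ Fin m) = Fintype.card (Fin n₁ × Fin n₂) := by
    have h1 := Module.finrank_eq_card_basis b
    rw [Module.finrank_fintype_fun_eq_card] at h1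
    exact h1
  let e' : (Fin m ⊕ Fin m) ≃ Fin n₁ × Fin n₂ := Fintype.equivOfCardEq hcard
  refine ⟨tensorProductSubgroup n₁ n₂ e' (basisGL b e') ⊓ spGL m F, ?_, ?_⟩
  · right; right; right; left
    exact ⟨n₁, n₂, e', basisGL b e', gf (RingHom.id F) (G₁ : Matrix (Fin n₁) (Fin n₁) F),
      gf (RingHom.id F) (G₂ : Matrix (Fin n₂) (Fin n₂) F), hodd, hn₂,
      isSymplecticForm_gf G₁ (two_ne_zero_of_odd hodd) h1, isSymmetricForm_gf G₂ h2,
      tensorFormStructure_of_gram _ b e' _ _ hG, rfl⟩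
  · intro h hh
    refine ⟨?_, hH hh⟩
    obtain ⟨U, Γ, hUΓ⟩ := hHk h hh
    exact mem_conj_basisGL (kroneckerSubgroup n₁ n₂ F) b e' h ⟨kronGL U Γ, ⟨U, Γ, rfl⟩, hUΓ⟩

/-- swapping the two tensor factors -/
theorem gram_swap {ι : Type} [Fintype ι] [DecidableEq ι] {a e : ℕ}
    (B : LinearMap.BilinForm F (ι → F)) (b : Basis (Fin a × Fin e) F (ι → F))
    (G₁ : Matrix (Fin a) (Fin a) F) (G₂ : Matrix (Fin e) (Fin e) F)
    (hG : LinearMap.BilinForm.toMatrix b B = G₁ ⊗ₖ G₂) :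
    LinearMap.BilinForm.toMatrix (b.reindex (Equiv.prodComm _ _)) B = G₂ ⊗ₖ G₁ := by
  ext ⟨p, q⟩ ⟨p', q'⟩
  rw [LinearMap.BilinForm.toMatrix_apply, Basis.reindex_apply, Basis.reindex_apply,
    Matrix.kroneckerMap_apply]
  have := congrFun (congrFun hG (q, p)) (q', p')
  rw [LinearMap.BilinForm.toMatrix_apply, Matrix.kroneckerMap_apply] at this
  rw [mul_comm]
  exact this

theorem kron_swap {ι : Type} [Fintype ι] [DecidableEq ι] {a e : ℕ}
    (b : Basis (Fin a × Fin e) F (ι → F)) (x : Module.End F (ι → F))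
    (U : Matrix (Fin a) (Fin a) F) (Γ : Matrix (Fin e) (Fin e) F)
    (hx : LinearMap.toMatrix b b x = U ⊗ₖ Γ) :
    LinearMap.toMatrix (b.reindex (Equiv.prodComm _ _)) (b.reindex (Equiv.prodComm _ _)) x =
      Γ ⊗ₖ U := by
  ext ⟨p, q⟩ ⟨p', q'⟩
  rw [toMatrix_reindex, hx, Matrix.kroneckerMap_apply, Matrix.kroneckerMap_apply, mul_comm]
  rfl

end Cfsg.Agent.Lib.Helper8.Asch
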