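import Cfsg.Agent.Lib.Helper8.SpD3

set_option autoImplicit false

/-! The subalgebra spanned by `1` and an endomorphism whose square is a scalar. -/

namespace Cfsg.Agent.Lib.Helper8.Asch

open Module

variable {F : Type*} [Field F] {V : Type*} [AddCommGroup V] [Module F V]

theorem quad_mul (ρ : Module.End F V) (c : F) (h : ρ * ρ = c • (1 : Module.End F V))
    (α β α' β' : F) :
    (α • (1 : Module.End F V) + β • ρ) * (α' • (1 : Module.End F V) + β' • ρ) =
      (α * α' + β * β' * c) • (1 : Module.End F V) + (α * β' + β * α') • ρ := by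
  simp only [add_mul, mul_add, smul_mul_assoc, mul_smul_comm, one_mul, mul_one, h]
  module

/-- the subalgebra spanned by `1` and `ρ` -/
def quadAlg (ρ : Module.End F V) (c : F) (h : ρ * ρ = c • (1 : Module.End F V)) :
    Subalgebra F (Module.End F V) where
  carrier := {x | ∃ α β : F, x = α • (1 : Module.End F V) + β • ρ}
  mul_mem' := by
    rintro _ _ ⟨α, β, rfl⟩ ⟨α', β', rfl⟩
    exact ⟨_, _, quad_mul ρ c h α β α' β'⟩
  one_mem' := ⟨1, 0, by rw [one_smul, zero_smul, add_zero]⟩
  add_mem' := by
    rintro _ _ ⟨α, β, rfl⟩ ⟨α', β', rfl⟩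
    exact ⟨α + α', β + β', by rw [add_smul, add_smul]; abel⟩
  zero_mem' := ⟨0, 0, by rw [zero_smul, zero_smul, add_zero]⟩
  algebraMap_mem' := fun r => ⟨r, 0, by
    rw [zero_smul, add_zero, Algebra.algebraMap_eq_smul_one]⟩

theorem mem_quadAlg {ρ : Module.End F V} {c : F} {h : ρ * ρ = c • (1 : Module.End F V)}
    {x : Module.End F V} :
    x ∈ quadAlg ρ c h ↔ ∃ α β : F, x = α • (1 : Module.End F V) + β • ρ := Iff.rfl

theorem quadAlg_isFld [Nontrivial V] (ρ : Module.End F V) (c : F)
    (h : ρ * ρ = c • (1 : Module.End F V)) (hns : ∀ d : F, d * d ≠ c) :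
    IsFld (quadAlg ρ c h) := by
  constructor
  · rintro _ ⟨α, β, rfl⟩ _ ⟨α', β', rfl⟩
    rw [quad_mul ρ c h, quad_mul ρ c h]
    congr 2 <;> ring
  · rintro _ ⟨α, β, rfl⟩ hne
    have hN : α * α - β * β * c ≠ 0 := by
      intro h0
      by_cases hβ : β = 0
      · subst hβ
        have hα : α = 0 := by
          have : α * α = 0 := by linear_combination h0
          exact mul_self_eq_zero.mp this
        apply hne
        rw [hα, zero_smul, zero_smul, add_zero]
      · apply hns (α / β)
        field_simp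
        linear_combination h0
    obtain ⟨N, hNdef⟩ : ∃ N, N = α * α - β * β * c := ⟨_, rfl⟩
    rw [← hNdef] at hN
    refine ⟨(α / N) • (1 : Module.End F V) + (-β / N) • ρ, ⟨_, _, rfl⟩, ?_⟩
    rw [quad_mul ρ c h]
    have e1 : α * (α / N) + β * (-β / N) * c = 1 := by
      field_simp
      linear_combination -hNdef
    have e2 : α * (-β / N) + β * (α / N) = 0 := by
      field_simp
      ring
    rw [e1, e2, one_smul, zero_smul, add_zero]

theorem quadAlg_finrank [Nontrivial V] (ρ : Module.End F V) (c : F)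
    (h : ρ * ρ = c • (1 : Module.End F V)) (hρ : ∀ s : F, ρ ≠ s • (1 : Module.End F V)) :
    finrank F (quadAlg ρ c h) = 2 := by
  let φ : (F × F) →ₗ[F] quadAlg ρ c h :=
    { toFun := fun p => ⟨p.1 • (1 : Module.End F V) + p.2 • ρ, ⟨p.1, p.2, rfl⟩⟩
      map_add' := by
        rintro ⟨a, b⟩ ⟨a', b'⟩
        apply Subtype.ext
        show (a + a') • (1 : Module.End F V) + (b + b') • ρ =
          (a • (1 : Module.End F V) + b • ρ) + (a' • (1 : Module.End F V) + b' • ρ)
        rw [add_smul, add_smul]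
        abel
      map_smul' := by
        rintro r ⟨a, b⟩
        apply Subtype.ext
        show (r * a) • (1 : Module.End F V) + (r * b) • ρ =
          r • (a • (1 : Module.End F V) + b • ρ)
        rw [smul_add, smul_smul, smul_smul] }
  have hinj : Function.Injective φ := by
    rw [← LinearMap.ker_eq_bot, LinearMap.ker_eq_bot']
    rintro ⟨a, b⟩ hab
    have h0 : a • (1 : Module.End F V) + b • ρ = 0 := congrArg Subtype.val hab
    have hb : b = 0 := by
      by_contra hb
      apply hρ (-a / b)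
      have : b • ρ = -(a • (1 : Module.End F V)) := by
        rw [eq_neg_iff_add_eq_zero, add_comm]
        exact h0
      calc ρ = b⁻¹ • (b • ρ) := by rw [smul_smul, inv_mul_cancel₀ hb, one_smul]
        _ = (-a / b) • (1 : Module.End F V) := by
          rw [this, smul_neg, smul_smul, ← neg_smul]
          congr 1
          field_simp
    subst hb
    rw [zero_smul, add_zero] at h0
    have ha : a = 0 := by
      rcases smul_eq_zero.mp h0 with h1 | h1
      · exact h1
      · exact absurd h1 one_ne_zero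
    subst ha
    rfl
  have hsurj : Function.Surjective φ := by
    rintro ⟨x, α, β, rfl⟩
    exact ⟨(α, β), rfl⟩
  have e := LinearEquiv.ofBijective φ ⟨hinj, hsurj⟩
  rw [← e.finrank_eq, Module.finrank_prod, Module.finrank_self]

theorem quadAlg_not_scalar [Nontrivial V] (ρ : Module.End F V) (c : F)
    (h : ρ * ρ = c • (1 : Module.End F V)) (hns : ∀ d : F, d * d ≠ c) :
    ∀ s : F, ρ ≠ s • (1 : Module.End F V) := by
  intro s hs
  apply hns s
  have h10 : (1 : Module.End F V) ≠ 0 := one_ne_zero
  have : (s * s - c) • (1 : Module.End F V) = 0 := by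
    rw [sub_smul, ← h, hs, smul_mul_assoc, one_mul, smul_smul, sub_self]
  rcases smul_eq_zero.mp this with h' | h'
  · linear_combination h'
  · exact absurd h' h10

theorem quadAlg_conj (ρ : Module.End F V) (c : F) (h1 : ρ * ρ = c • (1 : Module.End F V))
    (h : GLV F V)
    (h3 : (h : Module.End F V) * ρ = ρ * (h : Module.End F V) ∨
      (h : Module.End F V) * ρ = -(ρ * (h : Module.End F V))) :
    ∀ x ∈ quadAlg ρ c h1,
      (h : Module.End F V) * x * ((h⁻¹ : GLV F V) : Module.End F V) ∈ quadAlg ρ c h1 := by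
  rintro _ ⟨α, β, rfl⟩
  have hinv : (h : Module.End F V) * ((h⁻¹ : GLV F V) : Module.End F V) = 1 := by
    rw [← Units.val_mul, mul_inv_cancel, Units.val_one]
  rcases h3 with hcm | hac
  · refine ⟨α, β, ?_⟩
    rw [mul_add, add_mul, mul_smul_comm, mul_smul_comm, smul_mul_assoc, smul_mul_assoc, mul_one,
      hinv, hcm, mul_assoc, hinv, mul_one]
  · refine ⟨α, -β, ?_⟩
    rw [mul_add, add_mul, mul_smul_comm, mul_smul_comm, smul_mul_assoc, smul_mul_assoc, mul_one,
      hinv, hac, neg_mul, mul_assoc, hinv, mul_one, smul_neg, neg_smul]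

theorem quadAlg_adj [FiniteDimensional F V] {B : LinearMap.BilinForm F V} {ε : F}
    (hB : EpsForm B ε) (ρ : Module.End F V) (c : F) (h1 : ρ * ρ = c • (1 : Module.End F V))
    (h2 : ∀ u v, B (ρ u) v = - B u (ρ v)) :
    ∀ x ∈ quadAlg ρ c h1, adjE hB x ∈ quadAlg ρ c h1 := by
  have hadjρ : adjE hB ρ = -ρ := by
    symm
    apply adjE_unique' hB
    intro u v
    rw [LinearMap.neg_apply, map_neg]
    exact h2 u v
  rintro _ ⟨α, β, rfl⟩
  refine ⟨α, -β, ?_⟩
  rw [adjE_add, adjE_smul, adjE_smul, adjE_one, hadjρ, smul_neg, neg_smul]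

end Cfsg.Agent.Lib.Helper8.Asch
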