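import Cfsg.Agent.Lib.Helper8.SpD4

set_option autoImplicit false

/-! An endomorphism with scalar square, skew for the form and normalised up to sign, gives class 2
or class 3 for the symplectic group in odd characteristic. -/

namespace Cfsg.Agent.Lib.Helper8.Asch

open Module Matrix
open Cfsg.Geo

variable {F : Type*} [Field F] [Fintype F]

theorem sp_rho (m : ℕ) (hm : 2 ≤ m) (H : Subgroup (GL (Fin m ⊕ Fin m) F)) (hH : H ≤ spGL m F)
    (hirr : Irr (HV H)) (hodd : Odd (Fintype.card F))
    (ρ : Module.End F (Fin m ⊕ Fin m → F)) (c : F) (hc : c ≠ 0)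
    (h1 : ρ * ρ = c • (1 : Module.End F (Fin m ⊕ Fin m → F)))
    (h2 : ∀ u v, toBilin (isSymplecticForm_sympForm (F := F) m).bilinear (ρ u) v =
      - toBilin (isSymplecticForm_sympForm (F := F) m).bilinear u (ρ v))
    (h3 : ∀ h ∈ HV H, (h : Module.End F (Fin m ⊕ Fin m → F)) * ρ =
        ρ * (h : Module.End F (Fin m ⊕ Fin m → F)) ∨
      (h : Module.End F (Fin m ⊕ Fin m → F)) * ρ =
        -(ρ * (h : Module.End F (Fin m ⊕ Fin m → F)))) :
    ∃ M : Subgroup (GL (Fin m ⊕ Fin m) F), ISC m F M ∧ H ≤ M := by
  have hf := isSymplecticForm_sympForm (F := F) m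
  set hB := epsForm_symp (F := F) m with hBdef
  set B := toBilin hf.bilinear with hBd
  have h2F : (2 : F) ≠ 0 := two_ne_zero_of_odd hodd
  haveI : Nontrivial (Fin m ⊕ Fin m → F) := by
    haveI : Nonempty (Fin m ⊕ Fin m) := ⟨Sum.inl ⟨0, by omega⟩⟩
    infer_instance
  have hρρ : ∀ v, ρ (ρ v) = c • v := by
    intro v
    have := LinearMap.congr_fun h1 v
    rwa [Module.End.mul_apply, LinearMap.smul_apply, Module.End.one_apply] at this
  by_cases hsq : ∃ d : F, d * d = c
  · obtain ⟨d, hd⟩ := hsq
    have hd0 : d ≠ 0 := by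
      rintro rfl
      rw [mul_zero] at hd
      exact hc hd.symm
    have h2d : (2 * d : F) ≠ 0 := mul_ne_zero h2F hd0
    set Ep : Submodule F (Fin m ⊕ Fin m → F) :=
      LinearMap.ker (ρ - d • (1 : Module.End F (Fin m ⊕ Fin m → F))) with hEp
    set Em : Submodule F (Fin m ⊕ Fin m → F) :=
      LinearMap.ker (ρ + d • (1 : Module.End F (Fin m ⊕ Fin m → F))) with hEm
    have memp : ∀ v, v ∈ Ep ↔ ρ v = d • v := by
      intro v
      rw [hEp, LinearMap.mem_ker, LinearMap.sub_apply, LinearMap.smul_apply, Module.End.one_apply,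
        sub_eq_zero]
    have memm : ∀ v, v ∈ Em ↔ ρ v = -(d • v) := by
      intro v
      rw [hEm, LinearMap.mem_ker, LinearMap.add_apply, LinearMap.smul_apply, Module.End.one_apply,
        add_eq_zero_iff_eq_neg]
    have hcompl : IsCompl Ep Em := by
      constructor
      · rw [Submodule.disjoint_def]
        intro v hvp hvm
        have e1 := (memp v).mp hvp
        have e2 := (memm v).mp hvm
        have : (2 * d) • v = 0 := by
          rw [mul_smul, two_smul]
          nth_rewrite 1 [← e1]
          rw [e2, neg_add_cancel]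
        rcases smul_eq_zero.mp this with h | h
        · exact absurd h h2d
        · exact h
      · rw [codisjoint_iff, eq_top_iff]
        intro v _
        rw [Submodule.mem_sup]
        refine ⟨(2 * d)⁻¹ • (ρ v + d • v), ?_, (2 * d)⁻¹ • (d • v - ρ v), ?_, ?_⟩
        · rw [memp, map_smul, map_add, map_smul, hρρ, ← hd]
          module
        · rw [memm, map_smul, map_sub, map_smul, hρρ, ← hd]
          module
        · rw [← smul_add]
          have : ρ v + d • v + (d • v - ρ v) = (2 * d) • v := by module
          rw [this, smul_smul, inv_mul_cancel₀ h2d, one_smul]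
    have hBzero : ∀ u v, (2 * d) * B u v = 0 → B u v = 0 := by
      intro u v h
      rcases mul_eq_zero.mp h with h | h
      · exact absurd h h2d
      · exact h
    have tsp : ∀ u ∈ Ep, ∀ v ∈ Ep, B u v = 0 := by
      intro u hu v hv
      apply hBzero
      have := h2 u v
      rw [(memp u).mp hu, (memp v).mp hv, map_smul, LinearMap.smul_apply, map_smul,
        smul_eq_mul] at this
      linear_combination this
    have tsm : ∀ u ∈ Em, ∀ v ∈ Em, B u v = 0 := by
      intro u hu v hv
      apply hBzero
      have := h2 u v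
      rw [(memm u).mp hu, (memm v).mp hv, map_neg, map_neg, map_smul, LinearMap.neg_apply,
        LinearMap.smul_apply, map_smul, smul_eq_mul] at this
      linear_combination -this
    have hV : finrank F (Fin m ⊕ Fin m → F) = m + m := by
      rw [Module.finrank_pi, Fintype.card_sum, Fintype.card_fin]
    have hle : ∀ E : Submodule F (Fin m ⊕ Fin m → F), (∀ u ∈ E, ∀ v ∈ E, B u v = 0) →
        finrank F E ≤ m := by
      intro E hE
      have h1 : E ≤ B.orthogonal E := by
        intro v hv
        rw [LinearMap.BilinForm.mem_orthogonal_iff]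
        intro u hu
        exact hE u hu v hv
      have h2 := Submodule.finrank_mono h1
      rw [LinearMap.BilinForm.finrank_orthogonal hB.nondeg, hV] at h2
      omega
    have hsum := Submodule.finrank_add_eq_of_isCompl hcompl
    rw [hV] at hsum
    have hp := hle Ep tsp
    have hmm := hle Em tsm
    have hfp : finrank F Ep = m := by omega
    have hfm : finrank F Em = m := by omega
    have hdec : IsMDecomposition m ![Ep, Em] :=
      isMDecomposition_pair (by omega) Ep Em hcompl hfp hfm
    refine ⟨decompositionStabilizer ![Ep, Em] ⊓ spGL m F, Or.inl ?_, le_inf ?_ hH⟩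
    · right; right; right; left
      refine ⟨![Ep, Em], hodd, hdec, ?_, rfl⟩
      intro i
      fin_cases i
      · exact tsp
      · exact tsm
    · intro g hg
      have hmap : ∀ (E E' : Submodule F (Fin m ⊕ Fin m → F)), finrank F E = m →
          finrank F E' = m → (∀ v ∈ E, (g : Matrix _ _ F) *ᵥ v ∈ E') →
          E.map (Matrix.toLin' (g : Matrix (Fin m ⊕ Fin m) (Fin m ⊕ Fin m) F)) = E' := by
        intro E E' hE hE' hmaps
        apply Submodule.eq_of_le_of_finrank_eq
        · rintro _ ⟨v, hv, rfl⟩
          rw [Matrix.toLin'_apply]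
          exact hmaps v hv
        · rw [hE']
          have hinj : Function.Injective
              (Matrix.toLin' (g : Matrix (Fin m ⊕ Fin m) (Fin m ⊕ Fin m) F)) := by
            intro u v huv
            rw [Matrix.toLin'_apply, Matrix.toLin'_apply] at huv
            have := congrArg (fun w => ((g⁻¹ : GL (Fin m ⊕ Fin m) F) :
              Matrix (Fin m ⊕ Fin m) (Fin m ⊕ Fin m) F) *ᵥ w) huv
            simpa [inv_mulVec_mulVec] using this
          rw [← (Submodule.equivMapOfInjective _ hinj E).finrank_eq, hE]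
      have hg3 := h3 (toV g) (mem_HV hg)
      rw [toV_val] at hg3
      have happ : ∀ x y : Module.End F (Fin m ⊕ Fin m → F), ∀ v, (x * y) v = x (y v) :=
        fun x y v => rfl
      rcases hg3 with hcm | hac
      · have hc' : ∀ v, ρ ((g : Matrix _ _ F) *ᵥ v) = (g : Matrix _ _ F) *ᵥ (ρ v) := by
          intro v
          have := LinearMap.congr_fun hcm v
          rw [happ, happ, Matrix.toLin'_apply, Matrix.toLin'_apply] at this
          exact this.symm
        refine ⟨Equiv.refl _, fun i => ?_⟩
        fin_cases i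
        · refine hmap Ep Ep hfp hfp fun v hv => ?_
          rw [memp, hc', (memp v).mp hv, Matrix.mulVec_smul]
        · refine hmap Em Em hfm hfm fun v hv => ?_
          rw [memm, hc', (memm v).mp hv, Matrix.mulVec_neg, Matrix.mulVec_smul]
      · have hc' : ∀ v, ρ ((g : Matrix _ _ F) *ᵥ v) = -((g : Matrix _ _ F) *ᵥ (ρ v)) := by
          intro v
          have := LinearMap.congr_fun hac v
          rw [LinearMap.neg_apply, happ, happ, Matrix.toLin'_apply, Matrix.toLin'_apply] at this
          rw [this, neg_neg]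
        refine ⟨Equiv.swap 0 1, fun i => ?_⟩
        fin_cases i
        · refine hmap Ep Em hfp hfm fun v hv => ?_
          rw [memm, hc', (memp v).mp hv, Matrix.mulVec_smul]
        · refine hmap Em Ep hfm hfp fun v hv => ?_
          rw [memp, hc', (memm v).mp hv, Matrix.mulVec_neg, Matrix.mulVec_smul, neg_neg]
  · push Not at hsq
    have hρ := quadAlg_not_scalar ρ c h1 hsq
    set K := quadAlg ρ c h1 with hKdef
    have hK : IsFld K := quadAlg_isFld ρ c h1 hsq
    have hfr : finrank F K = 2 := quadAlg_finrank ρ c h1 hρ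
    have hfwd : ∀ h ∈ HV H, ∀ x ∈ K, (h : Module.End F (Fin m ⊕ Fin m → F)) * x *
        ((h⁻¹ : GLV F (Fin m ⊕ Fin m → F)) : Module.End F (Fin m ⊕ Fin m → F)) ∈ K :=
      fun h hh => quadAlg_conj ρ c h1 h (h3 h hh)
    have hnorm : ∀ h ∈ HV H, ∀ x, x ∈ K ↔ (h : Module.End F (Fin m ⊕ Fin m → F)) * x *
        ((h⁻¹ : GLV F (Fin m ⊕ Fin m → F)) : Module.End F (Fin m ⊕ Fin m → F)) ∈ K := by
      intro h hh x
      refine ⟨hfwd h hh x, fun hx => ?_⟩
      have := hfwd h⁻¹ ((HV H).inv_mem hh) _ hx
      rw [inv_inv] at this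
      have e : ((h⁻¹ : GLV F (Fin m ⊕ Fin m → F)) : Module.End F (Fin m ⊕ Fin m → F)) *
          ((h : Module.End F (Fin m ⊕ Fin m → F)) * x *
            ((h⁻¹ : GLV F (Fin m ⊕ Fin m → F)) : Module.End F (Fin m ⊕ Fin m → F))) *
          (h : Module.End F (Fin m ⊕ Fin m → F)) = x := by
        have hinv' : ((h⁻¹ : GLV F (Fin m ⊕ Fin m → F)) : Module.End F (Fin m ⊕ Fin m → F)) *
            (h : Module.End F (Fin m ⊕ Fin m → F)) = 1 := by
          rw [← Units.val_mul, inv_mul_cancel, Units.val_one]
        calc _ = (((h⁻¹ : GLV F (Fin m ⊕ Fin m → F)) : Module.End F (Fin m ⊕ Fin m → F)) *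
            (h : Module.End F (Fin m ⊕ Fin m → F))) * x *
            (((h⁻¹ : GLV F (Fin m ⊕ Fin m → F)) : Module.End F (Fin m ⊕ Fin m → F)) *
            (h : Module.End F (Fin m ⊕ Fin m → F))) := by simp only [mul_assoc]
          _ = x := by rw [hinv', one_mul, mul_one]
      rwa [e] at this
    have hadj : ∀ x ∈ K, adjE hB x ∈ K := quadAlg_adj hB ρ c h1 h2
    exact sp_field m hm H hH hirr 2 K Nat.prime_two hK hfr hnorm hadj

end Cfsg.Agent.Lib.Helper8.Asch
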