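import Cfsg.Agent.Lib.Helper8.SpD5

set_option autoImplicit false

/-! A two-dimensional symmetric tensor factor produces an endomorphism with scalar square which is
skew for the form and normalised up to sign. -/

namespace Cfsg.Agent.Lib.Helper8.Asch

open Module Matrix
open scoped Kronecker
open Cfsg.Geo

variable {F : Type*} [Field F] {V : Type*} [AddCommGroup V] [Module F V]

theorem kron_neg_right {I J : Type*} [Fintype I] [Fintype J] (A : Matrix I I F) (B : Matrix J J F) :
    A ⊗ₖ (-B) = -(A ⊗ₖ B) := by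
  ext ⟨i, k⟩ ⟨j, l⟩
  simp [Matrix.kroneckerMap_apply]

theorem J2_sq : J2 F * J2 F = -1 := by
  have := J2_mul_neg (F := F)
  rw [Matrix.mul_neg] at this
  rw [← this, neg_neg]

theorem rho_of_gram {a : ℕ} [FiniteDimensional F V] {B : LinearMap.BilinForm F V}
    (b : Basis (Fin a × Fin 2) F V) (G₁ : GL (Fin a) F) (G₂ : GL (Fin 2) F)
    (hG : LinearMap.BilinForm.toMatrix b B =
      (G₁ : Matrix (Fin a) (Fin a) F) ⊗ₖ (G₂ : Matrix (Fin 2) (Fin 2) F))
    (hsymm : (G₂ : Matrix (Fin 2) (Fin 2) F)ᵀ = (G₂ : Matrix (Fin 2) (Fin 2) F)) :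
    ∃ (ρ : Module.End F V) (c : F), c ≠ 0 ∧ ρ * ρ = c • (1 : Module.End F V) ∧
      (∀ u v, B (ρ u) v = - B u (ρ v)) ∧
      ∀ (h : Module.End F V) (U : Matrix (Fin a) (Fin a) F) (Γ : Matrix (Fin 2) (Fin 2) F),
        LinearMap.toMatrix b b h = U ⊗ₖ Γ →
        (∃ ν : F, ν ≠ 0 ∧ Γᵀ * (G₂ : Matrix (Fin 2) (Fin 2) F) * Γ =
          ν • (G₂ : Matrix (Fin 2) (Fin 2) F)) →
        h * ρ = ρ * h ∨ h * ρ = -(ρ * h) := by
  set g₂ : Matrix (Fin 2) (Fin 2) F := (G₂ : Matrix (Fin 2) (Fin 2) F) with hg₂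
  set R : Matrix (Fin 2) (Fin 2) F := J2 F * g₂ with hR
  set ρ : Module.End F V := (LinearMap.toMatrix b b).symm ((1 : Matrix (Fin a) (Fin a) F) ⊗ₖ R)
    with hρ
  have hρM : LinearMap.toMatrix b b ρ = (1 : Matrix (Fin a) (Fin a) F) ⊗ₖ R :=
    LinearEquiv.apply_symm_apply _ _
  have hdet : g₂.det ≠ 0 := gl_det_ne_zero G₂
  have hconj : g₂ᵀ * J2 F * g₂ = g₂.det • J2 F := J2_conj g₂
  rw [hsymm] at hconj
  have hRR : R * R = (-g₂.det) • (1 : Matrix (Fin 2) (Fin 2) F) := by
    calc R * R = J2 F * (g₂ * J2 F * g₂) := by rw [hR]; simp only [Matrix.mul_assoc]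
      _ = (-g₂.det) • (1 : Matrix (Fin 2) (Fin 2) F) := by
        rw [hconj, Matrix.mul_smul, J2_sq, smul_neg, neg_smul]
  have hRt : Rᵀ * g₂ = -(g₂ * R) := by
    rw [hR, Matrix.transpose_mul, hsymm, J2_transpose, Matrix.mul_smul, Matrix.smul_mul, neg_smul,
      one_smul, Matrix.mul_assoc]
  refine ⟨ρ, -g₂.det, neg_ne_zero.mpr hdet, ?_, ?_, ?_⟩
  · apply (LinearMap.toMatrix b b).injective
    rw [LinearMap.toMatrix_mul, hρM, ← Matrix.mul_kronecker_mul, hRR, Matrix.mul_one,
      Matrix.kronecker_smul, Matrix.one_kronecker_one, map_smul, LinearMap.toMatrix_one]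
  · have hcomp : B.compLeft ρ + B.compRight ρ = 0 := by
      apply (LinearMap.BilinForm.toMatrix b).injective
      rw [map_add, map_zero, LinearMap.BilinForm.toMatrix_compLeft,
        LinearMap.BilinForm.toMatrix_compRight,
        hρM, hG, ← Matrix.kroneckerMap_transpose, Matrix.transpose_one, ← Matrix.mul_kronecker_mul,
        ← Matrix.mul_kronecker_mul, Matrix.one_mul, Matrix.mul_one, hRt, kron_neg_right,
        neg_add_cancel]
    intro u v
    have := LinearMap.congr_fun (LinearMap.congr_fun hcomp u) v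
    simp only [LinearMap.add_apply, LinearMap.BilinForm.compLeft_apply,
      LinearMap.BilinForm.compRight_apply, LinearMap.zero_apply] at this
    linear_combination this
  · rintro h U Γ hhM ⟨ν, hν, hsim⟩
    have hΓ : Γ * J2 F * Γᵀ = Γ.det • J2 F := by
      have := J2_conj Γᵀ
      rwa [Matrix.transpose_transpose, Matrix.det_transpose] at this
    have key : Γ.det • (R * Γ) = ν • (Γ * R) := by
      calc Γ.det • (R * Γ) = (Γ.det • J2 F) * g₂ * Γ := by
            rw [hR, Matrix.smul_mul, Matrix.smul_mul]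
        _ = Γ * J2 F * (Γᵀ * g₂ * Γ) := by rw [← hΓ]; simp only [Matrix.mul_assoc]
        _ = ν • (Γ * R) := by
            rw [hsim, Matrix.mul_smul, hR]
            simp only [Matrix.mul_assoc]
    have hdd : Γ.det * Γ.det = ν * ν := by
      have h1 := congrArg Matrix.det hsim
      rw [Matrix.det_mul, Matrix.det_mul, Matrix.det_transpose, Matrix.det_smul,
        Fintype.card_fin] at h1
      have h2 : (Γ.det * Γ.det - ν * ν) * g₂.det = 0 := by linear_combination h1
      rcases mul_eq_zero.mp h2 with h3 | h3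
      · linear_combination h3
      · exact absurd h3 hdet
    have hcases : Γ.det = ν ∨ Γ.det = -ν := by
      have : (Γ.det - ν) * (Γ.det + ν) = 0 := by linear_combination hdd
      rcases mul_eq_zero.mp this with h | h
      · left; linear_combination h
      · right; linear_combination h
    have hmulL : LinearMap.toMatrix b b (h * ρ) = U ⊗ₖ (Γ * R) := by
      rw [LinearMap.toMatrix_mul, hhM, hρM, ← Matrix.mul_kronecker_mul, Matrix.mul_one]
    have hmulR : LinearMap.toMatrix b b (ρ * h) = U ⊗ₖ (R * Γ) := by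
      rw [LinearMap.toMatrix_mul, hhM, hρM, ← Matrix.mul_kronecker_mul, Matrix.one_mul]
    rcases hcases with hc | hc
    · left
      apply (LinearMap.toMatrix b b).injective
      rw [hmulL, hmulR]
      congr 1
      rw [hc] at key
      have := congrArg (fun M => ν⁻¹ • M) key
      simp only [smul_smul, inv_mul_cancel₀ hν, one_smul] at this
      exact this.symm
    · right
      apply (LinearMap.toMatrix b b).injective
      rw [map_neg, hmulL, hmulR, ← kron_neg_right]
      congr 1
      rw [hc] at key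
      have := congrArg (fun M => ν⁻¹ • M) key
      simp only [smul_smul, neg_smul, smul_neg, inv_mul_cancel₀ hν, one_smul] at this
      exact this.symm

end Cfsg.Agent.Lib.Helper8.Asch
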