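import Cfsg.Agent.Lib.Helper8.SpD6

set_option autoImplicit false

/-! Class 8 for the symplectic group in even characteristic from a quadratic form which vanishes on
an invariant spanning set; Kronecker products of forms and vectors. -/

namespace Cfsg.Agent.Lib.Helper8.Asch

open Module Matrix
open scoped Kronecker
open Cfsg.Geo

section quad

variable {F : Type*} [Field F] [Fintype F]

theorem sp_class8_of_quad (m : ℕ) (H : Subgroup (GL (Fin m ⊕ Fin m) F)) (hH : H ≤ spGL m F)
    (heven : ¬ Odd (Fintype.card F)) (Q : (Fin m ⊕ Fin m → F) → F)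
    (hsm : ∀ (c : F) (v : Fin m ⊕ Fin m → F), Q (c • v) = c ^ 2 * Q v)
    (hpol : ∀ u v, QuadraticMap.polar Q u v = sympForm m F u v)
    (S : Set (Fin m ⊕ Fin m → F)) (hS : Submodule.span F S = ⊤)
    (hSH : ∀ h ∈ H, ∀ s ∈ S, (h : Matrix (Fin m ⊕ Fin m) (Fin m ⊕ Fin m) F) *ᵥ s ∈ S)
    (hQS : ∀ s ∈ S, Q s = 0) :
    ∃ M : Subgroup (GL (Fin m ⊕ Fin m) F), ISPC m F M ∧ H ≤ M := by
  have hf := isSymplecticForm_sympForm (F := F) m
  have hpolf : QuadraticMap.polar Q = sympForm m F := by
    funext u v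
    exact hpol u v
  refine ⟨quadSimilarityGroup Q ⊓ spGL m F, ?_, le_inf ?_ hH⟩
  · right; right; right; right; right; right
    refine ⟨Q, heven, ⟨hsm, ?_, ?_⟩, hpol, rfl⟩
    · rw [hpolf]
      exact hf.bilinear
    · rw [hpolf]
      exact hf.nondegenerate
  · intro g hg
    refine ⟨1, fun v => ?_⟩
    rw [Units.val_one, one_mul]
    have hiso : ∀ u v, sympForm m F ((g : Matrix _ _ F) *ᵥ u) ((g : Matrix _ _ F) *ᵥ v) =
        sympForm m F u v := (mem_spGL_iff m g).mp (hH hg)
    have hadd : ∀ u v, Q (u + v) = Q u + Q v + sympForm m F u v := by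
      intro u v
      have := hpol u v
      unfold QuadraticMap.polar at this
      linear_combination this
    have hv : v ∈ Submodule.span F S := by
      rw [hS]
      exact Submodule.mem_top
    induction hv using Submodule.span_induction with
    | mem s hs => rw [hQS s hs, hQS _ (hSH g hg s hs)]
    | zero => rw [Matrix.mulVec_zero]
    | add u w _ _ hu hw => rw [Matrix.mulVec_add, hadd, hadd, hu, hw, hiso]
    | smul c u _ hu => rw [Matrix.mulVec_smul, hsm, hsm, hu]

end quad

section kron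

variable {F : Type*} [Field F]
variable {I J : Type} [Fintype I] [Fintype J] [DecidableEq I] [DecidableEq J]

/-- the pure tensor of two coordinate vectors -/
def tp (w : I → F) (u : J → F) : I × J → F := fun p => w p.1 * u p.2

theorem kron_mulVec_tp (A : Matrix I I F) (B : Matrix J J F) (w : I → F) (u : J → F) :
    (A ⊗ₖ B) *ᵥ (tp w u) = tp (A *ᵥ w) (B *ᵥ u) := by
  funext ⟨i, k⟩
  simp only [Matrix.mulVec, dotProduct, tp, Matrix.kroneckerMap_apply, Fintype.sum_prod_type]
  rw [Finset.sum_mul_sum]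
  refine Finset.sum_congr rfl fun j _ => Finset.sum_congr rfl fun l _ => ?_
  ring

theorem tp_dotProduct (w w' : I → F) (u u' : J → F) :
    tp w u ⬝ᵥ tp w' u' = (w ⬝ᵥ w') * (u ⬝ᵥ u') := by
  simp only [dotProduct, tp, Fintype.sum_prod_type]
  rw [Finset.sum_mul_sum]
  refine Finset.sum_congr rfl fun j _ => Finset.sum_congr rfl fun l _ => ?_
  ring

theorem gf_kron_tp (A : Matrix I I F) (B : Matrix J J F) (w w' : I → F) (u u' : J → F) :
    gf (RingHom.id F) (A ⊗ₖ B) (tp w u) (tp w' u') =
      gf (RingHom.id F) A w w' * gf (RingHom.id F) B u u' := by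
  unfold gf
  have e : ∀ {K : Type} (x : K → F), (RingHom.id F) ∘ x = x := fun x => rfl
  rw [e, e, e, kron_mulVec_tp, tp_dotProduct]

theorem tp_single (i : I) (k : J) :
    tp (Pi.single i (1 : F)) (Pi.single k (1 : F)) = Pi.single (i, k) 1 := by
  funext ⟨j, l⟩
  unfold tp
  by_cases h1 : j = i
  · by_cases h2 : l = k
    · subst h1; subst h2
      simp
    · have : (j, l) ≠ (i, k) := fun h => h2 (Prod.ext_iff.mp h).2
      rw [Pi.single_eq_of_ne this]
      simp [h2]
  · have : (j, l) ≠ (i, k) := fun h => h1 (Prod.ext_iff.mp h).1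
    rw [Pi.single_eq_of_ne this]
    simp [h1]

end kron

end Cfsg.Agent.Lib.Helper8.Asch
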