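import Cfsg.Agent.Lib.Helper8.SpD8

set_option autoImplicit false

/-! In characteristic two a tensor decomposition with a symmetric non-alternating factor (preserved up
to scalars) is reducible. -/

namespace Cfsg.Agent.Lib.Helper8.Asch

open Module Matrix
open scoped Kronecker
open Cfsg.Geo

variable {F : Type*} [Field F]

/-- the diagonal quadratic map of a matrix -/
def dq {κ : Type} [Fintype κ] [DecidableEq κ] (G : Matrix κ κ F) (y : κ → F) : F :=
  gf (RingHom.id F) G y y

theorem dq_add {κ : Type} [Fintype κ] [DecidableEq κ] (h2F : (2 : F) = 0) (G : Matrix κ κ F)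
    (hs : Gᵀ = G) (y y' : κ → F) : dq G (y + y') = dq G y + dq G y' := by
  unfold dq
  rw [gf_add_left, gf_add_right, gf_add_right]
  have : gf (RingHom.id F) G y' y = gf (RingHom.id F) G y y' := by
    rw [← gf_transpose, hs]
  rw [this]
  linear_combination (gf (RingHom.id F) G y y') * h2F

theorem dq_smul {κ : Type} [Fintype κ] [DecidableEq κ] (G : Matrix κ κ F) (c : F) (y : κ → F) :
    dq G (c • y) = c ^ 2 * dq G y := by
  unfold dq
  rw [gf_smul_left, gf_smul_right, RingHom.id_apply]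
  ring

theorem dq_zero {κ : Type} [Fintype κ] [DecidableEq κ] (G : Matrix κ κ F) : dq G (0 : κ → F) = 0 := by
  have := dq_smul G 0 (0 : κ → F)
  rw [zero_smul] at this
  rw [this]
  ring

theorem dq_sum {κ : Type} [Fintype κ] [DecidableEq κ] (h2F : (2 : F) = 0) (G : Matrix κ κ F)
    (hs : Gᵀ = G) {α : Type*} (s : Finset α) (c : α → F) (y : α → κ → F)
    (hy : ∀ j ∈ s, dq G (y j) = 0) : dq G (∑ j ∈ s, c j • y j) = 0 := by
  classical
  induction s using Finset.induction_on with
  | empty => rw [Finset.sum_empty, dq_zero]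
  | insert j s hj ih =>
    rw [Finset.sum_insert hj, dq_add h2F G hs, dq_smul, hy j (Finset.mem_insert_self _ _),
      ih (fun l hl => hy l (Finset.mem_insert_of_mem hl)), mul_zero, add_zero]

theorem dq_mulVec {κ : Type} [Fintype κ] [DecidableEq κ] (G Γ : Matrix κ κ F) (ν : F)
    (h : Γᵀ * G * Γ = ν • G) (y : κ → F) : dq G (Γ *ᵥ y) = ν * dq G y := by
  unfold dq
  rw [gf_mulVec, map_id', h, gf_smul_mat]

/-- the rows of a coordinate vector on a product -/
def rowOf {I J : Type} (x : I × J → F) (i : I) : J → F := fun k => x (i, k)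

theorem rowOf_kron_mulVec {I J : Type} [Fintype I] [Fintype J] [DecidableEq I] [DecidableEq J]
    (U : Matrix I I F) (Γ : Matrix J J F) (x : I × J → F) (i : I) :
    rowOf ((U ⊗ₖ Γ) *ᵥ x) i = ∑ j, U i j • (Γ *ᵥ rowOf x j) := by
  funext k
  simp only [rowOf, Matrix.mulVec, dotProduct, Matrix.kroneckerMap_apply, Fintype.sum_prod_type,
    Finset.sum_apply, Pi.smul_apply, smul_eq_mul, Finset.mul_sum]
  refine Finset.sum_congr rfl fun j _ => Finset.sum_congr rfl fun l _ => ?_
  ring

theorem rowOf_tp {I J : Type} (w : I → F) (u : J → F) (i : I) : rowOf (tp w u) i = w i • u := rfl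

theorem reducible_of_nonalt [Fintype F] {ι : Type} [Fintype ι] [DecidableEq ι]
    (H : Subgroup (GL ι F)) (h2F : (2 : F) = 0) {a e : ℕ} (ha : 1 ≤ a) (he : 2 ≤ e)
    (b : Basis (Fin a × Fin e) F (ι → F)) (G₂ : Matrix (Fin e) (Fin e) F) (h2 : G₂ᵀ = G₂)
    (k₀ : Fin e) (hk₀ : G₂ k₀ k₀ ≠ 0)
    (hHk : ∀ h ∈ H, ∃ (U : Matrix (Fin a) (Fin a) F) (Γ : Matrix (Fin e) (Fin e) F) (ν : F),
      LinearMap.toMatrix b b (Matrix.toLin' (h : Matrix ι ι F)) = U ⊗ₖ Γ ∧
        Γᵀ * G₂ * Γ = ν • G₂) :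
    ¬ Irr (HV H) := by
  intro hirr
  let V₀ : Submodule F (ι → F) :=
    { carrier := {v | ∀ i, dq G₂ (rowOf (⇑(b.repr v)) i) = 0}
      add_mem' := by
        intro u v hu hv i
        have : rowOf (⇑(b.repr (u + v))) i = rowOf (⇑(b.repr u)) i + rowOf (⇑(b.repr v)) i := by
          rw [map_add, Finsupp.coe_add]
          rfl
        rw [this, dq_add h2F G₂ h2, hu i, hv i, add_zero]
      zero_mem' := by
        intro i
        have : rowOf (⇑(b.repr (0 : ι → F))) i = 0 := by
          rw [map_zero, Finsupp.coe_zero]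
          rfl
        rw [this, dq_zero]
      smul_mem' := by
        intro c v hv i
        have : rowOf (⇑(b.repr (c • v))) i = c • rowOf (⇑(b.repr v)) i := by
          rw [map_smul, Finsupp.coe_smul]
          rfl
        rw [this, dq_smul, hv i, mul_zero] }
  have hmem : ∀ v, v ∈ V₀ ↔ ∀ i, dq G₂ (rowOf (⇑(b.repr v)) i) = 0 := fun v => Iff.rfl
  have hinv : ∀ h ∈ HV H, ∀ w ∈ V₀, (h : Module.End F (ι → F)) w ∈ V₀ := by
    intro h hh w hw
    obtain ⟨g, hg, rfl⟩ := exists_of_mem_HV hh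
    rw [toV_val]
    obtain ⟨U, Γ, ν, hUΓ, hsim⟩ := hHk g hg
    rw [hmem]
    intro i
    rw [← LinearMap.toMatrix_mulVec_repr b b, hUΓ, rowOf_kron_mulVec]
    apply dq_sum h2F G₂ h2
    intro j _
    rw [dq_mulVec G₂ Γ ν hsim, (hmem w).mp hw j, mul_zero]
  let i₀ : Fin a := ⟨0, by omega⟩
  rcases hirr V₀ hinv with hbot | htop
  · -- a non-zero element
    obtain ⟨k₁, hk₁⟩ : ∃ k₁ : Fin e, k₁ ≠ k₀ := by
      by_cases h0 : k₀ = ⟨0, by omega⟩
      · exact ⟨⟨1, by omega⟩, by rw [h0]; intro h; have := congrArg Fin.val h; simp at this⟩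
      · exact ⟨⟨0, by omega⟩, fun h => h0 h.symm⟩
    haveI : CharP F 2 := CharTwo.of_one_ne_zero_of_two_eq_zero one_ne_zero h2F
    have hchar : ringChar F = 2 := ringChar.eq F 2
    obtain ⟨c, hc⟩ := FiniteField.isSquare_of_char_two hchar (G₂ k₁ k₁ / G₂ k₀ k₀)
    set u : Fin e → F := c • Pi.single k₀ 1 + Pi.single k₁ 1 with hu
    have hdu : dq G₂ u = 0 := by
      rw [hu, dq_add h2F G₂ h2, dq_smul]
      unfold dq
      rw [gf_single, gf_single]
      have : c ^ 2 = G₂ k₁ k₁ / G₂ k₀ k₀ := by rw [hc, pow_two]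
      rw [this]
      field_simp
      linear_combination (G₂ k₁ k₁) * h2F
    set v : ι → F := ∑ p, tp (Pi.single i₀ (1 : F)) u p • b p with hv
    have hrv : ⇑(b.repr v) = tp (Pi.single i₀ (1 : F)) u := by
      rw [hv, Basis.repr_sum_self]
    have hvV : v ∈ V₀ := by
      rw [hmem]
      intro i
      rw [hrv, rowOf_tp, dq_smul, hdu, mul_zero]
    rw [hbot, Submodule.mem_bot] at hvV
    have h1 : tp (Pi.single i₀ (1 : F)) u (i₀, k₁) = 1 := by
      unfold tp
      rw [hu]
      simp [Pi.single_eq_of_ne hk₁]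
    rw [← hrv, hvV, map_zero] at h1
    simp at h1
  · have hb : b (i₀, k₀) ∈ V₀ := by
      rw [htop]
      exact Submodule.mem_top
    rw [hmem] at hb
    have := hb i₀
    rw [Basis.repr_self, Finsupp.single_eq_pi_single, ← tp_single, rowOf_tp, Pi.single_eq_same,
      one_smul] at this
    unfold dq at this
    rw [gf_single] at this
    exact hk₀ this

end Cfsg.Agent.Lib.Helper8.Asch
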