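import Cfsg.Agent.Lib.Helper8.SpD9

set_option autoImplicit false

/-! The tensor case for the symplectic group. -/

namespace Cfsg.Agent.Lib.Helper8.Asch

open Module Matrix
open scoped Kronecker
open Cfsg.Geo

variable {F : Type*} [Field F]

/-- every element of `H` is, in the basis `b`, a Kronecker product of similarities of `G₁`, `G₂`
with inverse multipliers -/
def KronSim {ι : Type} [Fintype ι] [DecidableEq ι] (H : Subgroup (GL ι F)) {n₁ n₂ : ℕ}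
    (b : Basis (Fin n₁ × Fin n₂) F (ι → F)) (G₁ : Matrix (Fin n₁) (Fin n₁) F)
    (G₂ : Matrix (Fin n₂) (Fin n₂) F) : Prop :=
  ∀ h ∈ H, ∃ (U : GL (Fin n₁) F) (Γ : GL (Fin n₂) F) (μ : F), μ ≠ 0 ∧
    LinearMap.toMatrix b b (Matrix.toLin' (h : Matrix ι ι F)) =
      (U : Matrix (Fin n₁) (Fin n₁) F) ⊗ₖ (Γ : Matrix (Fin n₂) (Fin n₂) F) ∧
    (U : Matrix (Fin n₁) (Fin n₁) F)ᵀ * G₁ * (U : Matrix (Fin n₁) (Fin n₁) F) = μ • G₁ ∧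
    (Γ : Matrix (Fin n₂) (Fin n₂) F)ᵀ * G₂ * (Γ : Matrix (Fin n₂) (Fin n₂) F) = μ⁻¹ • G₂

theorem KronSim.swap {ι : Type} [Fintype ι] [DecidableEq ι] {H : Subgroup (GL ι F)} {n₁ n₂ : ℕ}
    {b : Basis (Fin n₁ × Fin n₂) F (ι → F)} {G₁ : Matrix (Fin n₁) (Fin n₁) F}
    {G₂ : Matrix (Fin n₂) (Fin n₂) F} (hK : KronSim H b G₁ G₂) :
    KronSim H (b.reindex (Equiv.prodComm _ _)) G₂ G₁ := by
  intro h hh
  obtain ⟨U, Γ, μ, hμ, hUΓ, h1, h2⟩ := hK h hh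
  refine ⟨Γ, U, μ⁻¹, inv_ne_zero hμ, kron_swap b _ _ _ hUΓ, h2, ?_⟩
  rw [inv_inv]
  exact h1

theorem kronSim_of_isom {ι : Type} [Fintype ι] [DecidableEq ι] {f : (ι → F) → (ι → F) → F}
    (hf : IsBilinearForm f) {H : Subgroup (GL ι F)} (hH : Isom f H) {n₁ n₂ : ℕ}
    [Nonempty (Fin n₁)] [Nonempty (Fin n₂)]
    (b : Basis (Fin n₁ × Fin n₂) F (ι → F)) (G₁ : GL (Fin n₁) F) (G₂ : GL (Fin n₂) F)
    (hG : LinearMap.BilinForm.toMatrix b (toBilin hf) =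
      (G₁ : Matrix (Fin n₁) (Fin n₁) F) ⊗ₖ (G₂ : Matrix (Fin n₂) (Fin n₂) F))
    (hHk : ∀ h ∈ HV H, ∃ (U : GL (Fin n₁) F) (Γ : GL (Fin n₂) F),
      LinearMap.toMatrix b b (h : Module.End F (ι → F)) =
        (U : Matrix (Fin n₁) (Fin n₁) F) ⊗ₖ (Γ : Matrix (Fin n₂) (Fin n₂) F)) :
    KronSim H b (G₁ : Matrix (Fin n₁) (Fin n₁) F) (G₂ : Matrix (Fin n₂) (Fin n₂) F) := by
  intro h hh
  obtain ⟨U, Γ, hUΓ⟩ := hHk (toV h) (mem_HV hh)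
  rw [toV_val] at hUΓ
  have hiso := gram_isom (toBilin hf) b (Matrix.toLin' (h : Matrix ι ι F)) (by
    intro u v
    rw [toBilin_apply, toBilin_apply, Matrix.toLin'_apply, Matrix.toLin'_apply]
    exact hH h hh u v)
  rw [hUΓ, hG] at hiso
  obtain ⟨μ, hμ, h1, h2⟩ := kron_similarity G₁ G₂ _ _ hiso
  exact ⟨U, Γ, μ, hμ, hUΓ, h1, h2⟩

end Cfsg.Agent.Lib.Helper8.Asch
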