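import Cfsg.Agent.Lib.Helper8.SpE2
import Cfsg.Agent.Lib.Helper8.AschS2
import Cfsg.Agent.Lib.Helper8.AschA4

set_option autoImplicit false

/-! Uniqueness of the invariant form of an absolutely irreducible group and rationality of the form
over a subfield over which the group is written. -/

namespace Cfsg.Agent.Lib.Helper8.Asch

open Module Matrix
open Cfsg.Geo

variable {ι : Type} [Fintype ι] [DecidableEq ι] {F : Type*} [Field F]

/-- two forms invariant under a group with scalar centraliser are proportional -/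
theorem invariant_form_unique (S : Subgroup (GL ι F))
    (hcent : ∀ w : Matrix ι ι F, (∀ s ∈ S, w * (s : Matrix ι ι F) = (s : Matrix ι ι F) * w) →
      ∃ c : F, w = c • (1 : Matrix ι ι F))
    (G : GL ι F) (G₂ : Matrix ι ι F)
    (h1 : ∀ s ∈ S, (s : Matrix ι ι F)ᵀ * (G : Matrix ι ι F) * (s : Matrix ι ι F) =
      (G : Matrix ι ι F))
    (h2 : ∀ s ∈ S, (s : Matrix ι ι F)ᵀ * G₂ * (s : Matrix ι ι F) = G₂) :
    ∃ c : F, G₂ = c • (G : Matrix ι ι F) := by
  set Gi : Matrix ι ι F := ((G⁻¹ : GL ι F) : Matrix ι ι F) with hGi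
  have hGiG : Gi * (G : Matrix ι ι F) = 1 := by
    rw [hGi, ← Units.val_mul, inv_mul_cancel, Units.val_one]
  have hGGi : (G : Matrix ι ι F) * Gi = 1 := by
    rw [hGi, ← Units.val_mul, mul_inv_cancel, Units.val_one]
  obtain ⟨c, hc⟩ := hcent (Gi * G₂) (by
    intro s hs
    set t : GL ι F := s⁻¹ with ht
    have htS : t ∈ S := S.inv_mem hs
    have hts : (t : Matrix ι ι F) * (s : Matrix ι ι F) = 1 := by
      rw [ht, ← Units.val_mul, inv_mul_cancel, Units.val_one]
    have e1 : (t : Matrix ι ι F)ᵀ * (G : Matrix ι ι F) = (G : Matrix ι ι F) * (s : Matrix ι ι F) := by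
      calc (t : Matrix ι ι F)ᵀ * (G : Matrix ι ι F)
          = (t : Matrix ι ι F)ᵀ * (G : Matrix ι ι F) * ((t : Matrix ι ι F) * (s : Matrix ι ι F)) := by
            rw [hts, mul_one]
        _ = ((t : Matrix ι ι F)ᵀ * (G : Matrix ι ι F) * (t : Matrix ι ι F)) * (s : Matrix ι ι F) := by
            simp only [Matrix.mul_assoc]
        _ = (G : Matrix ι ι F) * (s : Matrix ι ι F) := by rw [h1 t htS]
    have e2 : (t : Matrix ι ι F)ᵀ * G₂ = G₂ * (s : Matrix ι ι F) := by
      calc (t : Matrix ι ι F)ᵀ * G₂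
          = (t : Matrix ι ι F)ᵀ * G₂ * ((t : Matrix ι ι F) * (s : Matrix ι ι F)) := by
            rw [hts, mul_one]
        _ = ((t : Matrix ι ι F)ᵀ * G₂ * (t : Matrix ι ι F)) * (s : Matrix ι ι F) := by
            simp only [Matrix.mul_assoc]
        _ = G₂ * (s : Matrix ι ι F) := by rw [h2 t htS]
    have e3 : Gi * (t : Matrix ι ι F)ᵀ = (s : Matrix ι ι F) * Gi := by
      calc Gi * (t : Matrix ι ι F)ᵀ = Gi * ((t : Matrix ι ι F)ᵀ * (G : Matrix ι ι F)) * Gi := by
            rw [Matrix.mul_assoc, Matrix.mul_assoc, hGGi, mul_one]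
        _ = (s : Matrix ι ι F) * Gi := by
            rw [e1, ← Matrix.mul_assoc, hGiG, one_mul]
    rw [Matrix.mul_assoc, ← e2, ← Matrix.mul_assoc, e3, Matrix.mul_assoc])
  refine ⟨c, ?_⟩
  calc G₂ = (G : Matrix ι ι F) * (Gi * G₂) := by rw [← Matrix.mul_assoc, hGGi, one_mul]
    _ = c • (G : Matrix ι ι F) := by rw [hc, Matrix.mul_smul, mul_one]

/-- an invariant form of an absolutely irreducible group written over a subfield is a scalar multiple
of a form with entries in the subfield -/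
theorem invariant_form_rational [Fintype F] [Nonempty ι] (K : Subfield F) (S : Subgroup (GL ι F))
    (hK : ∀ s ∈ S, ∀ i j, (s : Matrix ι ι F) i j ∈ K)
    (hcent : ∀ w : Matrix ι ι F, (∀ s ∈ S, w * (s : Matrix ι ι F) = (s : Matrix ι ι F) * w) →
      ∃ c : F, w = c • (1 : Matrix ι ι F))
    (G : GL ι F)
    (h1 : ∀ s ∈ S, (s : Matrix ι ι F)ᵀ * (G : Matrix ι ι F) * (s : Matrix ι ι F) =
      (G : Matrix ι ι F)) :
    ∃ ζ : F, ζ ≠ 0 ∧ ∀ i j, (ζ • (G : Matrix ι ι F)) i j ∈ K := by
  obtain ⟨p, hchar⟩ := CharP.exists F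
  haveI := hchar
  haveI hpF : Fact p.Prime := ⟨CharP.char_is_prime F p⟩
  -- the cardinality of `K` is a power of `p`
  haveI : CharP K p := by
    exact (RingHom.charP_iff K.subtype K.subtype_injective p).mpr hchar
  haveI : Fintype K := Fintype.ofFinite K
  obtain ⟨d, -, hd⟩ := FiniteField.card K p
  have hcardK : Nat.card K = p ^ (d : ℕ) := by
    rw [Nat.card_eq_fintype_card, hd]
  set σ : F →+* F := (frobEquiv (F := F) p d : F →+* F) with hσ
  have hσapp : ∀ x : F, σ x = x ^ Nat.card K := by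
    intro x
    rw [hcardK]
    rfl
  have hfix : ∀ x : F, x ∈ K ↔ σ x = x := by
    intro x
    rw [hσapp]
    exact mem_subfield_iff_pow K x
  have h2 : ∀ s ∈ S, (s : Matrix ι ι F)ᵀ * ((G : Matrix ι ι F).map σ) * (s : Matrix ι ι F) =
      (G : Matrix ι ι F).map σ := by
    intro s hs
    have hs' : (s : Matrix ι ι F).map σ = (s : Matrix ι ι F) := by
      ext i j
      rw [Matrix.map_apply]
      exact (hfix _).mp (hK s hs i j)
    have := congrArg (fun M : Matrix ι ι F => M.map σ) (h1 s hs)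
    simp only [Matrix.map_mul, Matrix.transpose_map, hs'] at this
    exact this
  obtain ⟨c, hc⟩ := invariant_form_unique S hcent G _ h1 h2
  obtain ⟨i₀, j₀, hij⟩ : ∃ i j, (G : Matrix ι ι F) i j ≠ 0 := by
    by_contra hcon
    push Not at hcon
    exact gl_ne_zero G (Matrix.ext hcon)
  set g := (G : Matrix ι ι F) i₀ j₀ with hg
  have hcg : σ g = c * g := by
    have := congrFun (congrFun hc i₀) j₀
    rwa [Matrix.map_apply, Matrix.smul_apply, smul_eq_mul] at this
  refine ⟨g⁻¹, inv_ne_zero hij, fun i j => ?_⟩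
  rw [hfix, Matrix.smul_apply, smul_eq_mul, map_mul, map_inv₀, hcg]
  have := congrFun (congrFun hc i) j
  rw [Matrix.map_apply, Matrix.smul_apply, smul_eq_mul] at this
  rw [this]
  have hc0 : c ≠ 0 := by
    rintro rfl
    rw [zero_mul] at hcg
    exact hij ((map_eq_zero σ).mp hcg)
  field_simp

end Cfsg.Agent.Lib.Helper8.Asch
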