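import Mathlib

set_option autoImplicit false

/-! Dimension count for an independent family of subspaces. -/

namespace Cfsg.Agent.Lib.Helper8.Asch

open Module

variable {F : Type*} [Field F] {V : Type*} [AddCommGroup V] [Module F V]

theorem finrank_biSup_of_indep [FiniteDimensional F V] {κ : Type*} (p : κ → Submodule F V)
    (h : iSupIndep p) (s : Finset κ) :
    finrank F ↥(⨆ i ∈ s, p i) = ∑ i ∈ s, finrank F (p i) := by
  classical
  induction s using Finset.induction_on with
  | empty => simp
  | insert a s ha ih =>
    rw [Finset.iSup_insert, Finset.sum_insert ha, ← ih]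
    have hd : Disjoint (p a) (⨆ i ∈ s, p i) := by
      have := h.disjoint_biSup (x := a) (y := (↑s : Set κ)) (by simpa using ha)
      simpa using this
    have := Submodule.finrank_sup_add_finrank_inf_eq (p a) (⨆ i ∈ s, p i)
    rw [hd.eq_bot, finrank_bot, add_zero] at this
    exact this

theorem sum_finrank_le_of_indep [FiniteDimensional F V] {κ : Type*} [Fintype κ]
    (p : κ → Submodule F V) (h : iSupIndep p) :
    ∑ i, finrank F (p i) ≤ finrank F V := by
  rw [← finrank_biSup_of_indep p h Finset.univ]
  exact Submodule.finrank_le _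

/-- an independent family of `finrank V` non-zero subspaces consists of lines and spans -/
theorem lines_of_indep_card [FiniteDimensional F V] {κ : Type*} [Fintype κ]
    (p : κ → Submodule F V) (h : iSupIndep p) (hne : ∀ i, p i ≠ ⊥)
    (hcard : finrank F V ≤ Fintype.card κ) :
    (∀ i, finrank F (p i) = 1) ∧ (⨆ i, p i) = ⊤ := by
  have h1 : ∀ i, 1 ≤ finrank F (p i) := by
    intro i
    have := Submodule.one_le_finrank_iff.mpr (hne i)
    exact this
  have hsum := sum_finrank_le_of_indep p h
  have hge : Fintype.card κ ≤ ∑ i, finrank F (p i) := by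
    calc Fintype.card κ = ∑ _i : κ, 1 := by simp
      _ ≤ ∑ i, finrank F (p i) := Finset.sum_le_sum fun i _ => h1 i
  have heq : ∑ i, finrank F (p i) = ∑ _i : κ, 1 := by
    have : ∑ _i : κ, 1 = Fintype.card κ := by simp
    omega
  constructor
  · intro i
    by_contra hne1
    have hlt : 1 < finrank F (p i) := lt_of_le_of_ne (h1 i) (Ne.symm hne1)
    have : ∑ _i : κ, 1 < ∑ i, finrank F (p i) :=
      Finset.sum_lt_sum (fun j _ => h1 j) ⟨i, Finset.mem_univ _, hlt⟩
    omega
  · apply Submodule.eq_top_of_finrank_eq
    have h2 := finrank_biSup_of_indep p h Finset.univ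
    have h3 : (⨆ i ∈ (Finset.univ : Finset κ), p i) = ⨆ i, p i := by simp
    rw [h3] at h2
    have : ∑ _i : κ, 1 = Fintype.card κ := by simp
    omega

end Cfsg.Agent.Lib.Helper8.Asch
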