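import Cfsg.Agent.Lib.Helper8.SpH1
import Cfsg.Agent.Lib.Helper8.SpA2

set_option autoImplicit false

/-! Simultaneous eigenspaces of an abelian matrix group for its linear characters. -/

namespace Cfsg.Agent.Lib.Helper8.Asch

open Module Matrix

variable {ι : Type} [Fintype ι] [DecidableEq ι] {F : Type*} [Field F]

/-- the simultaneous eigenspace of the character `χ` -/
def charSpace (A : Subgroup (GL ι F)) (χ : A →* Fˣ) : Submodule F (ι → F) :=
  ⨅ a : A, Module.End.eigenspace (Matrix.toLin' ((a : GL ι F) : Matrix ι ι F)) ((χ a : Fˣ) : F)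

theorem mem_charSpace {A : Subgroup (GL ι F)} {χ : A →* Fˣ} {v : ι → F} :
    v ∈ charSpace A χ ↔ ∀ a : A, ((a : GL ι F) : Matrix ι ι F) *ᵥ v = ((χ a : Fˣ) : F) • v := by
  unfold charSpace
  rw [Submodule.mem_iInf]
  refine forall_congr' fun a => ?_
  rw [Module.End.mem_eigenspace_iff, Matrix.toLin'_apply]

theorem charSpace_indep (A : Subgroup (GL ι F)) (hcomm : ∀ a b : A, a * b = b * a) :
    iSupIndep (charSpace A) := by
  let f : A → Module.End F (ι → F) := fun a => Matrix.toLin' ((a : GL ι F) : Matrix ι ι F)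
  have hmaps : ∀ i j φ, Set.MapsTo (f i) ((f j).maxGenEigenspace φ) ((f j).maxGenEigenspace φ) := by
    intro i j φ
    apply Module.End.mapsTo_maxGenEigenspace_of_comm
    show f j * f i = f i * f j
    have := congrArg (fun x : A => ((x : GL ι F) : Matrix ι ι F)) (hcomm j i)
    simp only [Subgroup.coe_mul, Units.val_mul] at this
    have e : ∀ a b : Matrix ι ι F, Matrix.toLin' (a * b) = Matrix.toLin' a * Matrix.toLin' b :=
      fun a b => Matrix.toLin'_mul a b
    show Matrix.toLin' _ * Matrix.toLin' _ = Matrix.toLin' _ * Matrix.toLin' _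
    rw [← e, ← e, this]
  have h1 := Module.End.independent_iInf_maxGenEigenspace_of_forall_mapsTo f hmaps
  let g : (A →* Fˣ) → (A → F) := fun χ a => ((χ a : Fˣ) : F)
  have hg : Function.Injective g := by
    intro χ χ' h
    ext a
    exact congrFun h a
  have h2 := h1.comp hg
  refine h2.mono ?_
  intro χ
  show charSpace A χ ≤ ⨅ a, (f a).maxGenEigenspace (g χ a)
  unfold charSpace
  exact iInf_mono fun a => Module.End.eigenspace_le_maxGenEigenspace

end Cfsg.Agent.Lib.Helper8.Asch
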