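import Cfsg.Agent.Lib.Helper8.SpH2
import Cfsg.Agent.Lib.Helper8.AschA3

set_option autoImplicit false

/-! Traces in a class-two group with scalars `±1`, and the projector attached to a character of an
abelian subgroup. -/

namespace Cfsg.Agent.Lib.Helper8.Asch

open Module Matrix
open scoped commutatorElement

variable {ι : Type} [Fintype ι] [DecidableEq ι] {F : Type*} [Field F]

theorem trace_eq_zero_of_not_scalar [Nonempty ι] {N : Subgroup (GL ι F)} (hN : Cl2 N)
    (h2 : (2 : F) ≠ 0)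
    (hpm : ∀ g ∈ N, g ∈ Zs ι F → sv g = 1 ∨ sv g = -1) {g : GL ι F} (hg : g ∈ N)
    (hgZ : g ∉ Zs ι F) : Matrix.trace (g : Matrix ι ι F) = 0 := by
  obtain ⟨y, hy, hne⟩ : ∃ y ∈ N, g * y ≠ y * g := by
    by_contra hcon
    push Not at hcon
    exact hgZ (hN.mem_Zs_of_commute hcon)
  set c : GL ι F := ⁅y, g⁆ with hc
  have hcZ : c ∈ Zs ι F := hN.comm y hy g hg
  have hcN : c ∈ N := by
    rw [hc, commutatorElement_def]
    exact N.mul_mem (N.mul_mem (N.mul_mem hy hg) (N.inv_mem hy)) (N.inv_mem hg)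
  have hcg : c * g = y * g * y⁻¹ := by
    rw [hc, commutatorElement_def]
    group
  have hc1 : sv c ≠ 1 := by
    intro h1
    have hcv := val_eq_sv_smul hcZ
    rw [h1, one_smul] at hcv
    have : c = 1 := Units.ext hcv
    rw [this, one_mul] at hcg
    apply hne
    calc g * y = (y * g * y⁻¹) * y := congrArg (· * y) hcg
      _ = y * g := by group
  have hcm : sv c = -1 := by
    rcases hpm c hcN hcZ with h | h
    · exact absurd h hc1
    · exact h
  have hmat : (y : Matrix ι ι F) * (g : Matrix ι ι F) * ((y⁻¹ : GL ι F) : Matrix ι ι F) =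
      -(g : Matrix ι ι F) := by
    rw [← Units.val_mul, ← Units.val_mul, ← hcg, Units.val_mul, val_eq_sv_smul hcZ, hcm,
      Matrix.smul_mul, one_mul, neg_smul, one_smul]
  have htr := Matrix.trace_units_conj y (g : Matrix ι ι F)
  rw [hmat, Matrix.trace_neg] at htr
  have : (2 : F) * Matrix.trace (g : Matrix ι ι F) = 0 := by linear_combination -htr
  rcases mul_eq_zero.mp this with h | h
  · exact absurd h h2
  · exact h

theorem trace_of_scalar [Nonempty ι] {g : GL ι F} (hg : g ∈ Zs ι F) :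
    Matrix.trace (g : Matrix ι ι F) = sv g * (Fintype.card ι : F) := by
  rw [val_eq_sv_smul hg, Matrix.trace_smul, Matrix.trace_one, smul_eq_mul]

/-- the (unnormalised) projector attached to a character -/
noncomputable def charProj (A : Subgroup (GL ι F)) [Fintype A] (χ : A →* Fˣ) : Matrix ι ι F :=
  ∑ a : A, ((χ a⁻¹ : Fˣ) : F) • ((a : GL ι F) : Matrix ι ι F)

theorem mul_charProj (A : Subgroup (GL ι F)) [Fintype A] (χ : A →* Fˣ) (b : A) :
    ((b : GL ι F) : Matrix ι ι F) * charProj A χ = ((χ b : Fˣ) : F) • charProj A χ := by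
  unfold charProj
  rw [Finset.mul_sum, Finset.smul_sum]
  rw [← Equiv.sum_comp (Equiv.mulLeft b)
    (fun c : A => ((χ b : Fˣ) : F) • (((χ c⁻¹ : Fˣ) : F) • ((c : GL ι F) : Matrix ι ι F)))]
  refine Finset.sum_congr rfl fun a _ => ?_
  rw [Equiv.coe_mulLeft, Matrix.mul_smul, smul_smul, Subgroup.coe_mul, Units.val_mul]
  congr 1
  rw [_root_.mul_inv_rev, map_mul, map_inv, map_inv, Units.val_mul, ← mul_assoc]
  rw [mul_comm ((χ b : Fˣ) : F), mul_assoc, ← Units.val_mul, mul_inv_cancel, Units.val_one, mul_one]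

theorem charProj_mulVec_mem (A : Subgroup (GL ι F)) [Fintype A] (χ : A →* Fˣ) (u : ι → F) :
    charProj A χ *ᵥ u ∈ charSpace A χ := by
  rw [mem_charSpace]
  intro b
  rw [Matrix.mulVec_mulVec, mul_charProj, Matrix.smul_mulVec]

theorem charSpace_ne_bot_of_charProj (A : Subgroup (GL ι F)) [Fintype A] (χ : A →* Fˣ)
    (h : charProj A χ ≠ 0) : charSpace A χ ≠ ⊥ := by
  intro hbot
  apply h
  ext i j
  have := charProj_mulVec_mem A χ (Pi.single j 1)
  rw [hbot, Submodule.mem_bot] at this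
  have := congrFun this i
  rwa [Matrix.mulVec_single_one, Pi.zero_apply] at this

theorem trace_charProj (A : Subgroup (GL ι F)) [Fintype A] (χ : A →* Fˣ) :
    Matrix.trace (charProj A χ) =
      ∑ a : A, ((χ a⁻¹ : Fˣ) : F) * Matrix.trace ((a : GL ι F) : Matrix ι ι F) := by
  unfold charProj
  rw [Matrix.trace_sum]
  refine Finset.sum_congr rfl fun a _ => ?_
  rw [Matrix.trace_smul, smul_eq_mul]

end Cfsg.Agent.Lib.Helper8.Asch
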