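import Mathlib

set_option autoImplicit false

/-! Counting the extensions of a character from a subgroup of a finite abelian group. -/

namespace Cfsg.Agent.Lib.Helper8.Asch

theorem card_extensions_ge {G M : Type*} [Group G] [Finite G] (hcomm : ∀ a b : G, a * b = b * a)
    [CommMonoid M] [HasEnoughRootsOfUnity M (Monoid.exponent G)] (Z : Subgroup G)
    (ψ : Z →* Mˣ) :
    Nat.card (G ⧸ Z) ≤ Nat.card {χ : G →* Mˣ // ∀ z : Z, χ (z : G) = ψ z} := by
  letI : CommGroup G := { ‹Group G› with mul_comm := hcomm }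
  obtain ⟨χ₀, hχ₀⟩ := MonoidHom.domRestrict_surjective (M := M) Z ψ
  have hχ₀' : ∀ z : Z, χ₀ (z : G) = ψ z := by
    intro z
    rw [← hχ₀]
    rfl
  rw [← CommGroup.card_domRestrictHom_ker (M := M) Z]
  let φ : (MonoidHom.domRestrictHom Z Mˣ).ker → {χ : G →* Mˣ // ∀ z : Z, χ (z : G) = ψ z} :=
    fun κ => ⟨χ₀ * κ.1, by
      intro z
      have hκ : (MonoidHom.domRestrictHom Z Mˣ) κ.1 = 1 := κ.2
      have : κ.1 (z : G) = 1 := by
        have := DFunLike.congr_fun hκ z
        exact this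
      rw [MonoidHom.mul_apply, this, mul_one, hχ₀']⟩
  have hφ : Function.Injective φ := by
    intro κ κ' h
    have h1 : χ₀ * κ.1 = χ₀ * κ'.1 := congrArg Subtype.val h
    exact Subtype.ext (mul_left_cancel h1)
  exact Nat.card_le_card_of_injective φ hφ

end Cfsg.Agent.Lib.Helper8.Asch
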