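import Cfsg.Agent.Lib.Helper8.SpH3
import Cfsg.Agent.Lib.Helper8.SpH4
import Cfsg.Agent.Lib.Helper8.SpA1

set_option autoImplicit false

/-! An absolutely irreducible class-two group with scalars `±1` preserving a symplectic form (in odd
characteristic) has no elementary abelian subgroup of order twice the dimension. -/

namespace Cfsg.Agent.Lib.Helper8.Asch

open Module Matrix
open Cfsg.Geo

variable {ι : Type} [Fintype ι] [DecidableEq ι] {F : Type*} [Field F]

theorem hasEnough_two (h2 : (2 : F) ≠ 0) : HasEnoughRootsOfUnity F 2 := by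
  obtain ⟨p, hp⟩ := CharP.exists F
  haveI := hp
  have hp2 : p ≠ 2 := by
    rintro rfl
    apply h2
    have := CharP.cast_eq_zero F 2
    exact_mod_cast this
  exact ⟨⟨-1, IsPrimitiveRoot.neg_one p hp2⟩, rootsOfUnity.isCyclic F 2⟩

theorem elemAbelian_card_lt [Nonempty ι] {f : (ι → F) → (ι → F) → F} (hf : IsSymplecticForm f)
    {N : Subgroup (GL ι F)} (hN : Cl2 N) (hNf : Isom f N) (h2 : (2 : F) ≠ 0)
    (hpm : ∀ g ∈ N, g ∈ Zs ι F → sv g = 1 ∨ sv g = -1)
    (hcardne : ((Fintype.card ι : ℕ) : F) ≠ 0)
    (A' : Subgroup (GL ι F)) (hA'N : A' ≤ N) (hcomm : ∀ a b : A', a * b = b * a)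
    (hinv : ∀ a : A', a * a = 1) : Nat.card A' < 2 * Fintype.card ι := by
  by_contra hge
  push Not at hge
  haveI : Finite N := hN.fin
  haveI : Finite A' :=
    Finite.of_injective (Subgroup.inclusion hA'N) (Subgroup.inclusion_injective _)
  haveI : Fintype A' := Fintype.ofFinite A'
  set Zₐ : Subgroup A' := (Zs ι F).subgroupOf A' with hZₐ
  have hmemZ : ∀ a : A', a ∈ Zₐ ↔ (a : GL ι F) ∈ Zs ι F := fun a => Subgroup.mem_subgroupOf
  -- the scalars in `A'`
  have hsvZ : ∀ a : A', (a : GL ι F) ∈ Zs ι F → sv (a : GL ι F) = 1 ∨ sv (a : GL ι F) = -1 :=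
    fun a ha => hpm _ (hA'N a.2) ha
  have hZcard : Nat.card Zₐ ≤ 2 := by
    classical
    let φ : Zₐ → Bool := fun z => decide (sv ((z : A') : GL ι F) = 1)
    have hφ : Function.Injective φ := by
      intro z z' h
      have hz := (hmemZ z.1).mp z.2
      have hz' := (hmemZ z'.1).mp z'.2
      have hsv : sv ((z : A') : GL ι F) = sv ((z' : A') : GL ι F) := by
        by_cases h1 : sv ((z : A') : GL ι F) = 1
        · have : φ z = true := decide_eq_true h1
          rw [h] at this
          rw [h1, of_decide_eq_true this]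
        · have : φ z = false := decide_eq_false h1
          rw [h] at this
          have h1' := of_decide_eq_false this
          rcases hsvZ _ hz with e | e
          · exact absurd e h1
          · rcases hsvZ _ hz' with e' | e'
            · exact absurd e' h1'
            · rw [e, e']
      apply Subtype.ext
      apply Subtype.ext
      apply Units.ext
      rw [val_eq_sv_smul hz, val_eq_sv_smul hz', hsv]
    have := Nat.card_le_card_of_injective φ hφ
    simpa using this
  have hZpos : 0 < Nat.card Zₐ := Nat.card_pos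
  -- enough roots of unity
  haveI : NeZero (2 : ℕ) := ⟨by norm_num⟩
  haveI h2r : HasEnoughRootsOfUnity F 2 := hasEnough_two h2
  have hexp2 : Monoid.exponent A' ∣ 2 := by
    apply Monoid.exponent_dvd_of_forall_pow_eq_one
    intro a
    rw [pow_two]
    exact hinv a
  haveI : HasEnoughRootsOfUnity F (Monoid.exponent A') := HasEnoughRootsOfUnity.of_dvd F hexp2
  -- the character of the scalars
  let ψ : Zₐ →* Fˣ :=
    { toFun := fun z => Units.mk0 (sv ((z : A') : GL ι F)) (sv_ne_zero ((hmemZ z.1).mp z.2))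
      map_one' := by
        apply Units.ext
        show sv ((1 : GL ι F)) = 1
        exact sv_one
      map_mul' := by
        intro z z'
        apply Units.ext
        show sv (((z : A') : GL ι F) * ((z' : A') : GL ι F)) = _
        rw [sv_mul ((hmemZ z.1).mp z.2) ((hmemZ z'.1).mp z'.2)]
        rfl }
  have hX := card_extensions_ge (M := F) hcomm Zₐ ψ
  have hcardA := Subgroup.card_eq_card_quotient_mul_card_subgroup Zₐ
  have hq : Fintype.card ι ≤ Nat.card (A' ⧸ Zₐ) := by
    have : Nat.card (A' ⧸ Zₐ) * Nat.card Zₐ ≤ Nat.card (A' ⧸ Zₐ) * 2 :=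
      Nat.mul_le_mul_left _ hZcard
    omega
  set X := {χ : A' →* Fˣ // ∀ z : Zₐ, χ (z : A') = ψ z} with hXdef
  haveI : Finite X := inferInstance
  haveI : Fintype X := Fintype.ofFinite X
  have hXcard : Fintype.card ι ≤ Fintype.card X := by
    have := hq.trans hX
    rwa [Nat.card_eq_fintype_card] at this
  -- every such character has a non-zero eigenspace
  have hχZ : ∀ (χ : X) (a : A'), (a : GL ι F) ∈ Zs ι F →
      ((χ.1 a : Fˣ) : F) = sv (a : GL ι F) := by
    intro χ a ha
    have := χ.2 ⟨a, (hmemZ a).mpr ha⟩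
    rw [this]
    rfl
  have hne : ∀ χ : X, charSpace A' χ.1 ≠ ⊥ := by
    intro χ
    apply charSpace_ne_bot_of_charProj
    intro h0
    have htr := trace_charProj A' χ.1
    rw [h0, Matrix.trace_zero] at htr
    classical
    have hterm : ∀ a : A', ((χ.1 a⁻¹ : Fˣ) : F) * Matrix.trace ((a : GL ι F) : Matrix ι ι F) =
        if (a : GL ι F) ∈ Zs ι F then ((Fintype.card ι : ℕ) : F) else 0 := by
      intro a
      by_cases ha : (a : GL ι F) ∈ Zs ι F
      · rw [if_pos ha, trace_of_scalar ha, map_inv, Units.val_inv_eq_inv_val, hχZ χ a ha,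
          ← mul_assoc, inv_mul_cancel₀ (sv_ne_zero ha), one_mul]
      · rw [if_neg ha, trace_eq_zero_of_not_scalar hN h2 hpm (hA'N a.2) ha, mul_zero]
    rw [Finset.sum_congr rfl (fun a _ => hterm a), Finset.sum_ite, Finset.sum_const_zero,
      add_zero, Finset.sum_const, nsmul_eq_mul] at htr
    have hcz : (Finset.univ.filter fun a : A' => (a : GL ι F) ∈ Zs ι F).card = Nat.card Zₐ := by
      rw [Nat.card_eq_fintype_card, ← Fintype.card_subtype]
      apply Fintype.card_congr
      exact Equiv.subtypeEquivRight (fun a => (hmemZ a).symm)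
    rw [hcz] at htr
    have hc0 : ((Nat.card Zₐ : ℕ) : F) ≠ 0 := by
      have : Nat.card Zₐ = 1 ∨ Nat.card Zₐ = 2 := by omega
      rcases this with h | h
      · rw [h]; simp
      · rw [h]; exact_mod_cast h2
    rcases mul_eq_zero.mp htr.symm with h | h
    · exact hc0 h
    · exact hcardne h
  have hind : iSupIndep fun χ : X => charSpace A' χ.1 :=
    (charSpace_indep A' hcomm).comp Subtype.val_injective
  obtain ⟨hone, htop⟩ := lines_of_indep_card (fun χ : X => charSpace A' χ.1) hind hne (by
    rw [Module.finrank_fintype_fun_eq_card]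
    exact hXcard)
  -- the form argument
  have hXne : Nonempty X := by
    rw [← Fintype.card_pos_iff]
    have : 0 < Fintype.card ι := Fintype.card_pos
    omega
  obtain ⟨χ₁⟩ := hXne
  obtain ⟨v, hv, hv0⟩ := Submodule.exists_mem_ne_zero_of_ne_bot (hne χ₁)
  have hsq : ∀ (χ : X) (a : A'), ((χ.1 a : Fˣ) : F) = 1 ∨ ((χ.1 a : Fˣ) : F) = -1 := by
    intro χ a
    have : ((χ.1 a : Fˣ) : F) * ((χ.1 a : Fˣ) : F) = 1 := by
      rw [← Units.val_mul, ← map_mul, hinv a, map_one, Units.val_one]
    have h' : (((χ.1 a : Fˣ) : F) - 1) * (((χ.1 a : Fˣ) : F) + 1) = 0 := by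
      linear_combination this
    rcases mul_eq_zero.mp h' with h | h
    · left; linear_combination h
    · right; linear_combination h
  let U : Submodule F (ι → F) := LinearMap.ker (toBilin hf.bilinear v)
  have hU : ∀ w, w ∈ U ↔ f v w = 0 := by
    intro w
    rw [LinearMap.mem_ker, toBilin_apply]
  have hle : ∀ χ : X, charSpace A' χ.1 ≤ U := by
    intro χ w hw
    rw [hU]
    by_cases hχ : χ = χ₁
    · subst hχ
      obtain ⟨c, hc⟩ := (finrank_eq_one_iff_of_nonzero' (⟨v, hv⟩ : charSpace A' χ.1)
        (fun h => hv0 (congrArg Subtype.val h))).mp (hone χ) ⟨w, hw⟩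
      have hc' : c • v = w := congrArg Subtype.val hc
      rw [← hc', hf.bilinear.smul_right, hf.alternating, mul_zero]
    · have : ∃ a : A', χ.1 a ≠ χ₁.1 a := by
        by_contra hcon
        push Not at hcon
        exact hχ (Subtype.ext (MonoidHom.ext hcon))
      obtain ⟨a, ha⟩ := this
      have e1 := (mem_charSpace.mp hv) a
      have e2 := (mem_charSpace.mp hw) a
      have hiso := hNf (a : GL ι F) (hA'N a.2) v w
      rw [e1, e2, hf.bilinear.smul_left, hf.bilinear.smul_right] at hiso
      have hprod : ((χ₁.1 a : Fˣ) : F) * ((χ.1 a : Fˣ) : F) = -1 := by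
        have hne' : ((χ.1 a : Fˣ) : F) ≠ ((χ₁.1 a : Fˣ) : F) := fun h => ha (Units.ext h)
        rcases hsq χ a with h | h <;> rcases hsq χ₁ a with h' | h'
        · exact absurd (h.trans h'.symm) hne'
        · rw [h, h']; ring
        · rw [h, h']; ring
        · exact absurd (h.trans h'.symm) hne'
      have : (2 : F) * f v w = 0 := by
        have h3 : ((χ₁.1 a : Fˣ) : F) * (((χ.1 a : Fˣ) : F) * f v w) = -(f v w) := by
          rw [← mul_assoc, hprod]
          ring
        linear_combination -hiso + h3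
      rcases mul_eq_zero.mp this with h | h
      · exact absurd h h2
      · exact h
  have hUtop : U = ⊤ := by
    rw [eq_top_iff, ← htop]
    exact iSup_le hle
  obtain ⟨-, x, hx⟩ := hf.nondegenerate v hv0
  apply hx
  rw [← hU, hUtop]
  exact Submodule.mem_top

end Cfsg.Agent.Lib.Helper8.Asch
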