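import Cfsg.Agent.Lib.Helper8.SpG2
import Cfsg.Agent.Lib.Helper8.SpD9

set_option autoImplicit false

/-! Case B with one factor: a normal absolutely irreducible subgroup fixing a quadratic form. -/

namespace Cfsg.Agent.Lib.Helper8.Asch

open Module Matrix
open Cfsg.Geo

variable {F : Type*} [Field F] [Fintype F]

/-- an additive map `D` with `D (c • v) = c ^ 2 * D v` on a space of dimension at least two over a
finite field of characteristic two has a non-zero zero -/
theorem exists_ne_zero_of_semilinear {ι : Type} [Fintype ι] [DecidableEq ι] (h2F : (2 : F) = 0)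
    (hcard : 2 ≤ Fintype.card ι) (D : (ι → F) → F) (hadd : ∀ u v, D (u + v) = D u + D v)
    (hsm : ∀ (c : F) (v : ι → F), D (c • v) = c ^ 2 * D v) : ∃ v : ι → F, v ≠ 0 ∧ D v = 0 := by
  obtain ⟨i₀, i₁, hne⟩ : ∃ i₀ i₁ : ι, i₀ ≠ i₁ := by
    have : 1 < Fintype.card ι := by omega
    obtain ⟨a, b, hab⟩ := Fintype.exists_pair_of_one_lt_card this
    exact ⟨a, b, hab⟩
  by_cases h0 : D (Pi.single i₀ 1) = 0
  · refine ⟨Pi.single i₀ 1, ?_, h0⟩
    intro h
    have := congrFun h i₀
    rw [Pi.single_eq_same, Pi.zero_apply] at this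
    exact one_ne_zero this
  · haveI : CharP F 2 := CharTwo.of_one_ne_zero_of_two_eq_zero one_ne_zero h2F
    have hchar : ringChar F = 2 := ringChar.eq F 2
    obtain ⟨c, hc⟩ := FiniteField.isSquare_of_char_two hchar
      (D (Pi.single i₁ 1) / D (Pi.single i₀ 1))
    refine ⟨c • Pi.single i₀ 1 + Pi.single i₁ 1, ?_, ?_⟩
    · intro h
      have := congrFun h i₁
      rw [Pi.add_apply, Pi.smul_apply, Pi.single_eq_of_ne hne.symm, Pi.single_eq_same, smul_zero,
        zero_add, Pi.zero_apply] at this
      exact one_ne_zero this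
    · rw [hadd, hsm]
      have : c ^ 2 = D (Pi.single i₁ 1) / D (Pi.single i₀ 1) := by rw [hc, pow_two]
      rw [this]
      field_simp
      linear_combination (D (Pi.single i₁ 1)) * h2F

theorem sp_class8_of_fixes_quad (m : ℕ) (hm : 1 ≤ m) (H N : Subgroup (GL (Fin m ⊕ Fin m) F))
    (hH : H ≤ spGL m F) (hNH : N ≤ H) (hHN : HInv H N)
    (hspan : Submodule.span F (mset N) = ⊤)
    (Q : (Fin m ⊕ Fin m → F) → F) (hQ : IsNondegenerateQuadraticForm Q)
    (hfix : FixesQuadForm (matrixSet N) Q) :
    ∃ M : Subgroup (GL (Fin m ⊕ Fin m) F), ISPC m F M ∧ H ≤ M := by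
  have hf := isSymplecticForm_sympForm (F := F) m
  haveI : Nonempty (Fin m ⊕ Fin m) := ⟨Sum.inl ⟨0, by omega⟩⟩
  have hNf : Isom (sympForm m F) N := isom_of_le_spGL (hNH.trans hH)
  set β := QuadraticMap.polar Q with hβ
  have hβbil : IsBilinearForm β := hQ.polar_bilinear
  -- the polar form is invariant
  have hβinv : ∀ x ∈ N, ∀ u v, β ((x : Matrix _ _ F) *ᵥ u) ((x : Matrix _ _ F) *ᵥ v) = β u v := by
    intro x hx u v
    have hq := hfix _ ⟨x, hx, rfl⟩
    show Q (_ + _) - Q _ - Q _ = Q (u + v) - Q u - Q v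
    rw [← Matrix.mulVec_add, hq, hq, hq]
  -- proportional to the symplectic form
  have hdetJ := gram_det_ne_zero hf.bilinear hf.nondegenerate
  let G : GL (Fin m ⊕ Fin m) F := Matrix.GeneralLinearGroup.mkOfDetNeZero _ hdetJ
  obtain ⟨c, hc⟩ := invariant_form_unique N
    (fun w hw => (absIrred_of_span N hspan).2 w (by
      rintro _ ⟨x, hx, rfl⟩
      exact hw x hx)) G (gramMatrix β)
    (fun s hs => gram_invariant hf.bilinear _ (hNf s hs))
    (fun s hs => gram_invariant hβbil _ (hβinv s hs))
  have hβf : ∀ u v, β u v = c * sympForm m F u v := by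
    intro u v
    rw [eq_gf_id hβbil, hc, gf_smul_mat, eq_gf_id hf.bilinear]
    rfl
  have hc0 : c ≠ 0 := by
    rintro rfl
    obtain ⟨i₀⟩ := ‹Nonempty (Fin m ⊕ Fin m)›
    have hv0 : (Pi.single i₀ (1 : F) : Fin m ⊕ Fin m → F) ≠ 0 := by
      intro h0
      have := congrFun h0 i₀
      rw [Pi.single_eq_same, Pi.zero_apply] at this
      exact one_ne_zero this
    obtain ⟨⟨x, hx⟩, -⟩ := hQ.nondegenerate _ hv0
    apply hx
    rw [← hβ, hβf, zero_mul]
  have hQ2 : ∀ v, (2 : F) * Q v = 0 := by
    intro v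
    have h1 := hβf v v
    rw [hf.alternating, mul_zero, hβ] at h1
    unfold QuadraticMap.polar at h1
    have h2 : v + v = (2 : F) • v := (two_smul F v).symm
    rw [h2, hQ.smul] at h1
    linear_combination h1
  by_cases hodd : Odd (Fintype.card F)
  · exfalso
    have h2F := two_ne_zero_of_odd hodd
    have hQ0 : ∀ v, Q v = 0 := by
      intro v
      rcases mul_eq_zero.mp (hQ2 v) with h | h
      · exact absurd h h2F
      · exact h
    obtain ⟨i₀⟩ := ‹Nonempty (Fin m ⊕ Fin m)›
    have hv0 : (Pi.single i₀ (1 : F) : Fin m ⊕ Fin m → F) ≠ 0 := by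
      intro h0
      have := congrFun h0 i₀
      rw [Pi.single_eq_same, Pi.zero_apply] at this
      exact one_ne_zero this
    obtain ⟨⟨x, hx⟩, -⟩ := hQ.nondegenerate _ hv0
    apply hx
    unfold QuadraticMap.polar
    rw [hQ0, hQ0, hQ0]
    ring
  · have h2F : (2 : F) = 0 := two_eq_zero_of_not_odd hodd
    let Q' : (Fin m ⊕ Fin m → F) → F := fun v => c⁻¹ * Q v
    have hQ'pol : ∀ u v, QuadraticMap.polar Q' u v = sympForm m F u v := by
      intro u v
      have := hβf u v
      rw [hβ] at this
      unfold QuadraticMap.polar at this ⊢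
      show c⁻¹ * Q (u + v) - c⁻¹ * Q u - c⁻¹ * Q v = _
      field_simp
      linear_combination this
    have hQ'sm : ∀ (a : F) (v : Fin m ⊕ Fin m → F), Q' (a • v) = a ^ 2 * Q' v := by
      intro a v
      show c⁻¹ * Q (a • v) = a ^ 2 * (c⁻¹ * Q v)
      rw [hQ.smul]
      ring
    have hQ'add : ∀ u v, Q' (u + v) = Q' u + Q' v + sympForm m F u v := by
      intro u v
      have := hQ'pol u v
      unfold QuadraticMap.polar at this
      linear_combination this
    have hQ'N : ∀ x ∈ N, ∀ v, Q' ((x : Matrix _ _ F) *ᵥ v) = Q' v := by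
      intro x hx v
      show c⁻¹ * Q _ = c⁻¹ * Q v
      rw [hfix _ ⟨x, hx, rfl⟩]
    have hpolf : QuadraticMap.polar Q' = sympForm m F := by
      funext u v
      exact hQ'pol u v
    refine ⟨quadSimilarityGroup Q' ⊓ spGL m F, ?_, le_inf ?_ hH⟩
    · right; right; right; right; right; right
      refine ⟨Q', hodd, ⟨hQ'sm, ?_, ?_⟩, hQ'pol, rfl⟩
      · rw [hpolf]; exact hf.bilinear
      · rw [hpolf]; exact hf.nondegenerate
    · intro h hh
      refine ⟨1, fun v => ?_⟩
      rw [Units.val_one, one_mul]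
      have hiso : ∀ u v, sympForm m F ((h : Matrix _ _ F) *ᵥ u) ((h : Matrix _ _ F) *ᵥ v) =
          sympForm m F u v := (mem_spGL_iff m h).mp (hH hh)
      let D : (Fin m ⊕ Fin m → F) → F := fun v => Q' ((h : Matrix _ _ F) *ᵥ v) - Q' v
      have hDadd : ∀ u v, D (u + v) = D u + D v := by
        intro u v
        show Q' _ - Q' (u + v) = (Q' _ - Q' u) + (Q' _ - Q' v)
        rw [Matrix.mulVec_add, hQ'add, hQ'add, hiso]
        ring
      have hDsm : ∀ (a : F) (v : Fin m ⊕ Fin m → F), D (a • v) = a ^ 2 * D v := by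
        intro a v
        show Q' _ - Q' (a • v) = a ^ 2 * (Q' _ - Q' v)
        rw [Matrix.mulVec_smul, hQ'sm, hQ'sm]
        ring
      have hDN : ∀ x ∈ N, ∀ v, D ((x : Matrix _ _ F) *ᵥ v) = D v := by
        intro x hx v
        show Q' _ - Q' _ = Q' _ - Q' v
        rw [hQ'N x hx]
        have hc' : h * x * h⁻¹ ∈ N := hHN h hh x hx
        have := hQ'N _ hc' ((h : Matrix _ _ F) *ᵥ v)
        rw [Units.val_mul, Units.val_mul, ← Matrix.mulVec_mulVec, ← Matrix.mulVec_mulVec,
          inv_mulVec_mulVec] at this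
        rw [this]
      -- the kernel of `D` is an invariant subspace
      let W : Submodule F (Fin m ⊕ Fin m → F) :=
        { carrier := {v | D v = 0}
          add_mem' := by
            intro u v hu hv
            show D (u + v) = 0
            rw [hDadd, hu, hv, add_zero]
          zero_mem' := by
            show D 0 = 0
            have := hDsm 0 0
            rw [zero_smul] at this
            rw [this]
            ring
          smul_mem' := by
            intro a v hv
            show D (a • v) = 0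
            rw [hDsm, hv, mul_zero] }
      have hWinv : ∀ u ∈ HV N, ∀ w ∈ W, (u : Module.End F (Fin m ⊕ Fin m → F)) w ∈ W := by
        intro u hu w hw
        obtain ⟨x, hx, rfl⟩ := exists_of_mem_HV hu
        rw [toV_apply]
        show D _ = 0
        rw [hDN x hx]
        exact hw
      rcases irr_of_span N hspan W hWinv with hbot | htop
      · exfalso
        obtain ⟨v, hv0, hDv⟩ := exists_ne_zero_of_semilinear h2F (by
          rw [Fintype.card_sum, Fintype.card_fin]; omega) D hDadd hDsm
        have : v ∈ W := hDv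
        rw [hbot, Submodule.mem_bot] at this
        exact hv0 this
      · have : v ∈ W := by
          rw [htop]
          exact Submodule.mem_top
        have hDv : D v = 0 := this
        show Q' _ = Q' v
        linear_combination hDv

end Cfsg.Agent.Lib.Helper8.Asch
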