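import Cfsg.Agent.Lib.Helper8.AschS1
import Cfsg.Agent.Lib.Helper8.AschA4

set_option autoImplicit false

/-! An involutory automorphism of a finite field: its fixed field, and surjectivity of the norm. -/

namespace Cfsg.Agent.Lib.Helper8.Asch

open Polynomial

variable {F : Type*} [Field F]

/-- the subfield fixed by a field automorphism -/
def fixSub (σ : F ≃+* F) : Subfield F := RingHom.eqLocusField (σ : F →+* F) (RingHom.id F)

theorem mem_fixSub (σ : F ≃+* F) (x : F) : x ∈ fixSub σ ↔ σ x = x := Iff.rfl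

theorem fixSub_ne_top (σ : F ≃+* F) (hne : σ ≠ RingEquiv.refl F) : fixSub σ ≠ ⊤ := by
  intro h
  apply hne
  ext x
  have : x ∈ fixSub σ := by
    rw [h]
    trivial
  exact this

theorem card_le_of_forall_pow_eq [Fintype F] (N : ℕ) (hN : 1 < N) (h : ∀ x : F, x ^ N = x) :
    Fintype.card F ≤ N := by
  classical
  set P : F[X] := X ^ N - X with hPdef
  have hP : P ≠ 0 := FiniteField.X_pow_card_sub_X_ne_zero F hN
  have hdeg : P.natDegree = N := FiniteField.X_pow_card_sub_X_natDegree_eq F hN
  have h1 : (Finset.univ : Finset F) ⊆ P.roots.toFinset := by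
    intro y _
    rw [Multiset.mem_toFinset, Polynomial.mem_roots hP, Polynomial.IsRoot, hPdef]
    simp [sub_eq_zero, h y]
  have h2 : P.roots.toFinset.card ≤ N :=
    ((Multiset.toFinset_card_le _).trans (Polynomial.card_roots' P)).trans_eq hdeg
  exact (Finset.card_le_card h1).trans h2

theorem sigma_eq_pow [Finite F] (σ : F ≃+* F) (hσ : ∀ a, σ (σ a) = a) (x : F) :
    σ x = x ^ Nat.card (fixSub σ) := by
  classical
  haveI : Fintype F := Fintype.ofFinite F
  set K := fixSub σ with hK
  haveI : Fintype K := Fintype.ofFinite K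
  set p := ringChar F with hp
  haveI : CharP F p := ringChar.charP F
  haveI hpp : Fact p.Prime := ⟨CharP.char_is_prime F p⟩
  haveI : CharP K p := RingHom.charP K.subtype Subtype.val_injective p
  obtain ⟨n, -, hn⟩ := FiniteField.card K p
  have hq : Nat.card K = p ^ (n : ℕ) := by rw [← Fintype.card_eq_nat_card, hn]
  rw [hq]
  set φ := frobEquiv (F := F) p n with hφ
  have hφx : ∀ y, φ y = y ^ p ^ (n : ℕ) := fun y => frobEquiv_apply p n y
  have hfix : ∀ y, σ y = y → φ y = y := by
    intro y hy
    rw [hφx, ← hq]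
    exact (mem_subfield_iff_pow K y).mp hy
  have hfix' : ∀ y, φ y = y → σ y = y := by
    intro y hy
    rw [hφx, ← hq] at hy
    exact (mem_subfield_iff_pow K y).mpr hy
  rw [← hφx]
  have ha : φ (x + σ x) = x + σ x := hfix _ (by rw [map_add, hσ, add_comm])
  have hb : φ (x * σ x) = x * σ x := hfix _ (by rw [map_mul, hσ, mul_comm])
  have h0 : (φ x - x) * (φ x - σ x) = 0 := by
    have h1 : (φ x - x) * (φ x - σ x) = φ x * φ x - (x + σ x) * φ x + x * σ x := by ring
    rw [h1, ← ha, ← hb, ← map_mul, ← map_mul, ← map_sub, ← map_add]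
    rw [show x * x - (x + σ x) * x + x * σ x = 0 by ring, map_zero]
  rcases mul_eq_zero.mp h0 with h | h
  · have h1 : φ x = x := sub_eq_zero.mp h
    rw [hfix' x h1, h1]
  · exact (sub_eq_zero.mp h).symm

theorem card_eq_sq [Finite F] (σ : F ≃+* F) (hne : σ ≠ RingEquiv.refl F)
    (hσ : ∀ a, σ (σ a) = a) : Nat.card F = Nat.card (fixSub σ) ^ 2 := by
  classical
  haveI : Fintype F := Fintype.ofFinite F
  set K := fixSub σ with hK
  haveI : Fintype K := Fintype.ofFinite K
  set q := Nat.card K with hq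
  have hq1 : 1 < q := Finite.one_lt_card
  have hcard : Nat.card F = q ^ Module.finrank K F := by
    rw [Nat.card_eq_fintype_card, Module.card_eq_pow_finrank (K := K) (V := F), hq,
      Nat.card_eq_fintype_card]
  have hpow : ∀ x : F, x ^ q ^ 2 = x := by
    intro x
    rw [pow_two, pow_mul, ← sigma_eq_pow σ hσ, ← sigma_eq_pow σ hσ, hσ]
  have hle : Nat.card F ≤ q ^ 2 := by
    rw [Nat.card_eq_fintype_card]
    exact card_le_of_forall_pow_eq (q ^ 2) (by nlinarith) hpow
  have hr2 : Module.finrank K F ≤ 2 := by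
    rw [hcard] at hle
    exact (Nat.pow_le_pow_iff_right hq1).mp hle
  have hF1 : 1 < Nat.card F := Finite.one_lt_card
  have hr0 : Module.finrank K F ≠ 0 := by
    intro h0
    rw [hcard, h0, pow_zero] at hF1
    omega
  have hr1 : Module.finrank K F ≠ 1 := by
    intro h1
    rw [h1, pow_one] at hcard
    apply fixSub_ne_top σ hne
    rw [eq_top_iff]
    intro x _
    have hbij : Function.Bijective (K.subtype : K → F) :=
      Function.Injective.bijective_of_nat_card_le Subtype.val_injective (by rw [hcard])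
    obtain ⟨y, hy⟩ := hbij.2 x
    rw [← hy]
    exact y.2
  have : Module.finrank K F = 2 := by omega
  rw [hcard, this]

theorem exists_norm_eq [Finite F] (σ : F ≃+* F) (hne : σ ≠ RingEquiv.refl F)
    (hσ : ∀ a, σ (σ a) = a) (c : F) (hc : σ c = c) : ∃ μ : F, μ * σ μ = c := by
  set K := fixSub σ with hK
  set q := Nat.card K with hq
  have hq1 : 1 < q := Finite.one_lt_card
  obtain ⟨x, hx⟩ := FiniteField.norm_surjective K F ⟨c, hc⟩
  refine ⟨x, ?_⟩
  have h1 := FiniteField.algebraMap_norm_eq_pow (K := K) (K' := F) (x := x)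
  rw [hx, card_eq_sq σ hne hσ, ← hK, ← hq] at h1
  have h2 : (q ^ 2 - 1) / (q - 1) = q + 1 := by
    apply Nat.div_eq_of_eq_mul_left (by omega)
    have : q ^ 2 = (q - 1 + 1) ^ 2 := by
      congr 1
      omega
    rw [this]
    have h3 : q + 1 = (q - 1) + 2 := by omega
    rw [h3]
    ring_nf
    omega
  rw [h2, pow_succ', ← sigma_eq_pow σ hσ] at h1
  rw [← h1]
  rfl

end Cfsg.Agent.Lib.Helper8.Asch
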