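import Cfsg.Agent.Lib.Helper8.SpJ2
import Cfsg.Agent.Lib.Helper8.SpG2

set_option autoImplicit false

/-! Descent for an involutory semilinear map: a matrix `C` with `C * σ(C) = 1` is `B * σ(B)⁻¹`. -/

namespace Cfsg.Agent.Lib.Helper8.Asch

open Module Matrix
open Cfsg.Geo

variable {ι : Type} [Fintype ι] [DecidableEq ι] {F : Type*} [Field F]

theorem comp_comp_invol (τ : F →+* F) (hτ : ∀ a, τ (τ a) = a) (v : ι → F) : τ ∘ (τ ∘ v) = v := by
  funext i
  exact hτ (v i)

theorem map_map_invol (τ : F →+* F) (hτ : ∀ a, τ (τ a) = a) (X : Matrix ι ι F) :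
    (X.map τ).map τ = X := by
  ext i j
  exact hτ (X i j)

theorem hilbert90_mat (τ : F →+* F) (hτ : ∀ a, τ (τ a) = a) (ω : F) (hω : τ ω ≠ ω)
    (C : Matrix ι ι F) (hC : C * C.map τ = 1) :
    ∃ B : GL ι F, C * (B : Matrix ι ι F).map τ = (B : Matrix ι ι F) := by
  classical
  set θ : (ι → F) → (ι → F) := fun v => C *ᵥ (τ ∘ v) with hθ
  have hθadd : ∀ u v, θ (u + v) = θ u + θ v := by
    intro u v
    show C *ᵥ (τ ∘ (u + v)) = C *ᵥ (τ ∘ u) + C *ᵥ (τ ∘ v)
    rw [comp_add, Matrix.mulVec_add]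
  have hθsmul : ∀ (a : F) v, θ (a • v) = τ a • θ v := by
    intro a v
    show C *ᵥ (τ ∘ (a • v)) = τ a • C *ᵥ (τ ∘ v)
    rw [comp_smul, Matrix.mulVec_smul]
  have hθθ : ∀ v, θ (θ v) = v := by
    intro v
    show C *ᵥ (τ ∘ (C *ᵥ (τ ∘ v))) = v
    rw [comp_mulVec, comp_comp_invol τ hτ, Matrix.mulVec_mulVec, hC, Matrix.one_mulVec]
  set S : Set (ι → F) := {v | θ v = v} with hS
  have hspan : Submodule.span F S = ⊤ := by
    rw [eq_top_iff]
    intro v _
    have h1 : v + θ v ∈ S := by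
      show θ (v + θ v) = v + θ v
      rw [hθadd, hθθ, add_comm]
    have h2 : ω • v + τ ω • θ v ∈ S := by
      show θ (ω • v + τ ω • θ v) = ω • v + τ ω • θ v
      rw [hθadd, hθsmul, hθsmul, hθθ, hτ, add_comm]
    have hne : ω - τ ω ≠ 0 := by
      intro h
      apply hω
      exact (sub_eq_zero.mp h).symm
    have h3 : v = (ω - τ ω)⁻¹ • ((ω • v + τ ω • θ v) - τ ω • (v + θ v)) := by
      have : (ω • v + τ ω • θ v) - τ ω • (v + θ v) = (ω - τ ω) • v := by
        rw [smul_add, sub_smul]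
        abel
      rw [this, smul_smul, inv_mul_cancel₀ hne, one_smul]
    rw [h3]
    refine Submodule.smul_mem _ _ (Submodule.sub_mem _ (Submodule.subset_span h2) ?_)
    exact Submodule.smul_mem _ _ (Submodule.subset_span h1)
  obtain ⟨b, hbS, hbspan, hli⟩ := exists_linearIndependent F S
  have hsp : ⊤ ≤ Submodule.span F (Set.range (Subtype.val : b → (ι → F))) := by
    rw [Subtype.range_coe, hbspan, hspan]
  set bb : Basis b F (ι → F) := Basis.mk hli hsp with hbb
  haveI : Fintype b := FiniteDimensional.fintypeBasisIndex bb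
  have hcard : Fintype.card ι = Fintype.card b := by
    rw [← Module.finrank_eq_card_basis bb, Module.finrank_fintype_fun_eq_card]
  let e : ι ≃ b := Fintype.equivOfCardEq hcard
  set b' : Basis ι F (ι → F) := bb.reindex e.symm with hb'
  have hb'S : ∀ j, θ (b' j) = b' j := by
    intro j
    have : b' j = ((e j : b) : ι → F) := by
      rw [hb', Basis.reindex_apply, Equiv.symm_symm, hbb, Basis.mk_apply]
    rw [this]
    exact hbS (e j).2
  refine ⟨basisGL b' (Equiv.refl ι), ?_⟩
  have hcol : ∀ j, (basisGL b' (Equiv.refl ι) : Matrix ι ι F) *ᵥ (Pi.single j 1) = b' j := by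
    intro j
    have := basisGL_mulVec b' (Equiv.refl ι) (Pi.single j 1)
    rw [Equiv.coe_refl, Function.comp_id] at this
    rw [this, Finset.sum_eq_single j]
    · rw [Pi.single_eq_same, one_smul]
    · intro k _ hk
      rw [Pi.single_eq_of_ne hk, zero_smul]
    · intro h
      exact absurd (Finset.mem_univ j) h
  ext i j
  have h1 : (C * (basisGL b' (Equiv.refl ι) : Matrix ι ι F).map τ) *ᵥ (Pi.single j 1) = b' j := by
    rw [← Matrix.mulVec_mulVec, ← comp_single τ j, ← comp_mulVec, hcol]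
    exact hb'S j
  have h2 := congrFun (h1.trans (hcol j).symm) i
  rw [Matrix.mulVec_single_one, Matrix.mulVec_single_one] at h2
  exact h2

end Cfsg.Agent.Lib.Helper8.Asch
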