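import Cfsg.Agent.Lib.Helper8.AschF3

set_option autoImplicit false

/-! Pure tensor vectors, and uniqueness of the factors of a pure tensor of matrices. -/

namespace Cfsg.Agent.Lib.Helper8.Asch

open Matrix

variable {k m : ℕ} {F : Type*} [Field F]

/-- a pure tensor of vectors -/
def ptV (ws : Fin k → Fin m → F) : (Fin k → Fin m) → F := fun f => ∏ i, ws i (f i)

theorem ptV_apply (ws : Fin k → Fin m → F) (f : Fin k → Fin m) : ptV ws f = ∏ i, ws i (f i) := rfl

theorem ptM_mulVec_ptV (Xs : Fin k → Matrix (Fin m) (Fin m) F) (ws : Fin k → Fin m → F) :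
    ptM Xs *ᵥ ptV ws = ptV (fun i => Xs i *ᵥ ws i) := by
  funext f
  rw [ptV_apply]
  simp only [Matrix.mulVec, dotProduct, ptM_apply, ptV_apply]
  rw [Finset.prod_univ_sum]
  simp only [Fintype.piFinset_univ]
  apply Finset.sum_congr rfl
  intro g _
  rw [← Finset.prod_mul_distrib]

theorem ptV_dotProduct (ws ws' : Fin k → Fin m → F) :
    ptV ws ⬝ᵥ ptV ws' = ∏ i, ws i ⬝ᵥ ws' i := by
  simp only [dotProduct, ptV_apply]
  rw [Finset.prod_univ_sum]
  simp only [Fintype.piFinset_univ]
  apply Finset.sum_congr rfl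
  intro g _
  rw [← Finset.prod_mul_distrib]

theorem facPerm_mulVec (σ : Equiv.Perm (Fin k)) (v : (Fin k → Fin m) → F) (x : Fin k → Fin m) :
    (facPerm m F σ *ᵥ v) x = v (x ∘ σ) := by
  simp only [Matrix.mulVec, dotProduct]
  rw [Finset.sum_eq_single (x ∘ σ)]
  · unfold facPerm
    rw [if_pos rfl, one_mul]
  · intro h _ hh
    unfold facPerm
    rw [if_neg hh, zero_mul]
  · intro hh
    exact absurd (Finset.mem_univ _) hh

theorem facPerm_mulVec_ptV (σ : Equiv.Perm (Fin k)) (ws : Fin k → Fin m → F) :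
    facPerm m F σ *ᵥ ptV ws = ptV (fun i => ws (σ.symm i)) := by
  funext x
  rw [facPerm_mulVec, ptV_apply, ptV_apply]
  simp only [Function.comp_apply]
  exact Fintype.prod_equiv σ _ _ (fun i => by simp)

theorem posMat_transpose (i : Fin k) (X : Matrix (Fin m) (Fin m) F) :
    (posMat i X)ᵀ = posMat i Xᵀ := by
  unfold posMat
  rw [ptM_transpose]
  congr 1
  funext j
  by_cases hj : j = i
  · subst hj
    simp
  · simp [Function.update_of_ne hj]

theorem ptM_update_eq (Xs : Fin k → Matrix (Fin m) (Fin m) F) (i : Fin k)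
    (A : Matrix (Fin m) (Fin m) F) :
    ptM (Function.update Xs i A) = posMat i A * ptM (Function.update Xs i 1) := by
  unfold posMat
  rw [ptM_mul]
  congr 1
  funext j
  by_cases hj : j = i
  · subst hj
    simp
  · simp [Function.update_of_ne hj]

theorem ptM_update_add (Xs : Fin k → Matrix (Fin m) (Fin m) F) (i : Fin k)
    (A B : Matrix (Fin m) (Fin m) F) :
    ptM (Function.update Xs i (A + B)) =
      ptM (Function.update Xs i A) + ptM (Function.update Xs i B) := by
  rw [ptM_update_eq Xs i (A + B), ptM_update_eq Xs i A, ptM_update_eq Xs i B, posMat_add,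
    Matrix.add_mul]

theorem ptM_eq_smul_ptM (Xs Ys : Fin k → Matrix (Fin m) (Fin m) F) (a : F) (ha : a ≠ 0)
    (hY : ∀ i, Ys i ≠ 0) (h : ptM Xs = a • ptM Ys) :
    ∃ c : Fin k → F, (∀ i, Xs i = c i • Ys i) ∧ ∏ i, c i = a := by
  have hne : ∀ i, ∃ p q, Ys i p q ≠ 0 := by
    intro i
    by_contra hcon
    push Not at hcon
    exact hY i (by ext p q; exact hcon p q)
  choose p q hpq using hne
  have hprodY : ∏ i, Ys i (p i) (q i) ≠ 0 := Finset.prod_ne_zero_iff.mpr (fun i _ => hpq i)
  have hpq0 := congrFun (congrFun h p) q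
  rw [Matrix.smul_apply, ptM_apply, ptM_apply, smul_eq_mul] at hpq0
  have hprodX : ∏ i, Xs i (p i) (q i) ≠ 0 := by
    rw [hpq0]
    exact mul_ne_zero ha hprodY
  refine ⟨fun i => Xs i (p i) (q i) / Ys i (p i) (q i), ?_, ?_⟩
  · intro i
    ext s t
    have h1 := congrFun (congrFun h (Function.update p i s)) (Function.update q i t)
    rw [Matrix.smul_apply, ptM_apply, ptM_apply, smul_eq_mul] at h1
    have e1 : ∀ Zs : Fin k → Matrix (Fin m) (Fin m) F,
        ∏ j, Zs j (Function.update p i s j) (Function.update q i t j) =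
          Zs i s t * ∏ j ∈ Finset.univ.erase i, Zs j (p j) (q j) := by
      intro Zs
      rw [← Finset.mul_prod_erase Finset.univ _ (Finset.mem_univ i), Function.update_self,
        Function.update_self]
      congr 1
      apply Finset.prod_congr rfl
      intro j hj
      rw [Function.update_of_ne (Finset.ne_of_mem_erase hj),
        Function.update_of_ne (Finset.ne_of_mem_erase hj)]
    have e2 : ∀ Zs : Fin k → Matrix (Fin m) (Fin m) F,
        ∏ j, Zs j (p j) (q j) =
          Zs i (p i) (q i) * ∏ j ∈ Finset.univ.erase i, Zs j (p j) (q j) :=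
      fun Zs => (Finset.mul_prod_erase Finset.univ _ (Finset.mem_univ i)).symm
    rw [e1 Xs, e1 Ys] at h1
    have hpq1 := hpq0
    rw [e2 Xs, e2 Ys] at hpq1
    have hα : ∏ j ∈ Finset.univ.erase i, Xs j (p j) (q j) ≠ 0 := by
      intro h0
      apply hprodX
      rw [e2 Xs, h0, mul_zero]
    rw [Matrix.smul_apply, smul_eq_mul, div_mul_eq_mul_div, eq_div_iff (hpq i)]
    apply mul_right_cancel₀ hα
    linear_combination (Ys i (p i) (q i)) * h1 - (Ys i s t) * hpq1
  · rw [Finset.prod_div_distrib, hpq0, mul_div_assoc, div_self hprodY, mul_one]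

end Cfsg.Agent.Lib.Helper8.Asch
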