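import Cfsg.Agent.Lib.Helper8.SpK1
import Cfsg.Agent.Lib.Helper8.SpD3
import Cfsg.Agent.Lib.Helper8.SpB9
import Cfsg.Agent.Lib.Helper8.AschB2

set_option autoImplicit false

/-! The Gram matrix of a bilinear form in a wreath basis, and change of basis. -/

namespace Cfsg.Agent.Lib.Helper8.Asch

open Module Matrix
open Cfsg.Geo

variable {k m : ℕ} {F : Type*} [Field F]

theorem gram_ptM {V : Type*} [AddCommGroup V] [Module F V] {B : LinearMap.BilinForm F V}
    (hB : B.Nondegenerate) (hk : 0 < k) (hm : 0 < m) (b : Basis (Fin k → Fin m) F V)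
    (A : Fin k → Subalgebra F (Module.End F V))
    (hb1 : ∀ i, ∀ x ∈ A i, ∃ X : Matrix (Fin m) (Fin m) F, LinearMap.toMatrix b b x = posMat i X)
    (hb2 : ∀ i (X : Matrix (Fin m) (Fin m) F), ∃ x ∈ A i, LinearMap.toMatrix b b x = posMat i X)
    (hadj : ∀ i, AdjClosed B (A i)) :
    ∃ Gs : Fin k → GL (Fin m) F, LinearMap.BilinForm.toMatrix b B =
      ptM (fun i => ((Gs i : GL (Fin m) F) : Matrix (Fin m) (Fin m) F)) := by
  set G := LinearMap.BilinForm.toMatrix b B with hG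
  have hdet : G.det ≠ 0 := (LinearMap.BilinForm.nondegenerate_iff_det_ne_zero b).mp hB
  let g : GL (Fin k → Fin m) F := Matrix.GeneralLinearGroup.mkOfDetNeZero G hdet
  have hg : (g : Matrix (Fin k → Fin m) (Fin k → Fin m) F) = G := rfl
  obtain ⟨Us, hUs⟩ := wreath_decomp hm hk g⁻¹ 1 (by
    intro i X
    obtain ⟨x, hx, hxX⟩ := hb2 i Xᵀ
    obtain ⟨x', hx', hadj'⟩ := hadj i x hx
    obtain ⟨X', hX'⟩ := hb1 i x' hx'
    refine ⟨X', ?_⟩
    have h1 := gram_adj B b x x' hadj'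
    rw [hxX, hX', posMat_transpose, Matrix.transpose_transpose, ← hG] at h1
    rw [inv_inv, hg, mul_assoc, h1, ← mul_assoc, ← hg, ← Units.val_mul, inv_mul_cancel,
      Units.val_one, one_mul]
    rfl)
  rw [facPerm_one, one_mul] at hUs
  refine ⟨fun i => (Us i)⁻¹, ?_⟩
  have h1 : G * ptM (fun i => ((Us i : GL (Fin m) F) : Matrix (Fin m) (Fin m) F)) = 1 := by
    rw [← hUs, ← hg, ← Units.val_mul, mul_inv_cancel, Units.val_one]
  have h2 : ptM (fun i => ((Us i : GL (Fin m) F) : Matrix (Fin m) (Fin m) F)) *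
      ptM (fun i => (((Us i)⁻¹ : GL (Fin m) F) : Matrix (Fin m) (Fin m) F)) = 1 := by
    rw [ptM_mul]
    simp only [Units.mul_inv]
    exact ptM_one
  calc G = G * (ptM (fun i => ((Us i : GL (Fin m) F) : Matrix (Fin m) (Fin m) F)) *
      ptM (fun i => (((Us i)⁻¹ : GL (Fin m) F) : Matrix (Fin m) (Fin m) F))) := by
        rw [h2, mul_one]
    _ = ptM (fun i => (((Us i)⁻¹ : GL (Fin m) F) : Matrix (Fin m) (Fin m) F)) := by
        rw [← mul_assoc, h1, one_mul]

theorem exists_basis_toMatrix {κ : Type*} [Fintype κ] [DecidableEq κ] {V : Type*} [AddCommGroup V]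
    [Module F V] (b : Basis κ F V) (T : GL κ F) :
    ∃ b' : Basis κ F V, b.toMatrix b' = (T : Matrix κ κ F) ∧
      b'.toMatrix b = ((T⁻¹ : GL κ F) : Matrix κ κ F) := by
  have hdet : IsUnit (T : Matrix κ κ F).det := isUnit_iff_ne_zero.mpr (gl_det_ne_zero T)
  let φ : V ≃ₗ[F] V := Matrix.toLinearEquiv b (T : Matrix κ κ F) hdet
  let b' : Basis κ F V := b.map φ
  have h1 : b.toMatrix b' = (T : Matrix κ κ F) := by
    ext i j
    rw [Basis.toMatrix_apply, Basis.map_apply]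
    show b.repr (Matrix.toLin b b (T : Matrix κ κ F) (b j)) i = _
    rw [← LinearMap.toMatrix_apply, LinearMap.toMatrix_toLin]
  refine ⟨b', h1, ?_⟩
  have h2 : b.toMatrix b' * b'.toMatrix b = 1 := Basis.toMatrix_mul_toMatrix_flip b b'
  calc b'.toMatrix b = (((T⁻¹ : GL κ F) : Matrix κ κ F) * (T : Matrix κ κ F)) * b'.toMatrix b := by
        rw [← Units.val_mul, inv_mul_cancel, Units.val_one, Matrix.one_mul]
    _ = ((T⁻¹ : GL κ F) : Matrix κ κ F) * (b.toMatrix b' * b'.toMatrix b) := by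
        rw [h1, Matrix.mul_assoc]
    _ = ((T⁻¹ : GL κ F) : Matrix κ κ F) := by rw [h2, Matrix.mul_one]

theorem toMatrix_change {κ : Type*} [Fintype κ] [DecidableEq κ] {V : Type*} [AddCommGroup V]
    [Module F V] (b b' : Basis κ F V) (T : GL κ F) (h1 : b.toMatrix b' = (T : Matrix κ κ F))
    (h2 : b'.toMatrix b = ((T⁻¹ : GL κ F) : Matrix κ κ F)) (x : Module.End F V) :
    LinearMap.toMatrix b' b' x =
      ((T⁻¹ : GL κ F) : Matrix κ κ F) * LinearMap.toMatrix b b x * (T : Matrix κ κ F) := by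
  rw [← h1, ← h2, basis_toMatrix_mul_linearMap_toMatrix_mul_basis_toMatrix]

theorem gram_change {κ : Type*} [Fintype κ] [DecidableEq κ] {V : Type*} [AddCommGroup V]
    [Module F V] (b b' : Basis κ F V) (T : GL κ F) (h1 : b.toMatrix b' = (T : Matrix κ κ F))
    (B : LinearMap.BilinForm F V) :
    LinearMap.BilinForm.toMatrix b' B =
      (T : Matrix κ κ F)ᵀ * LinearMap.BilinForm.toMatrix b B * (T : Matrix κ κ F) := by
  rw [← h1, LinearMap.BilinForm.toMatrix_mul_basis_toMatrix]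

variable {ι : Type} [Fintype ι] [DecidableEq ι]

theorem wreath_data [Fintype F] [Nonempty ι] {f : (ι → F) → (ι → F) → F} (hf : IsBilinearForm f)
    (hnd : IsNondegenerateForm f) (H N : Subgroup (GL ι F)) (hH : Isom f H) (hNH : N ≤ H)
    (hspan : Submodule.span F (mset N) = ⊤)
    (k : ℕ) (P : Fin k → Subgroup (GL ι F)) (hk : 2 ≤ k) (hPN : ∀ i, P i ≤ N)
    (hcomm : ∀ i j, i ≠ j → ∀ x ∈ P i, ∀ y ∈ P j, x * y = y * x)
    (hgen : Subgroup.closure (⋃ i, (P i : Set (GL ι F))) = N)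
    (htrans : ∀ i j, ∃ h ∈ H, cj h (P i) = P j) :
    ∃ (mm : ℕ) (b : Basis (Fin k → Fin mm) F (ι → F)) (Gs : Fin k → GL (Fin mm) F), 0 < mm ∧
      LinearMap.BilinForm.toMatrix b (toBilin hf) =
        ptM (fun i => ((Gs i : GL (Fin mm) F) : Matrix (Fin mm) (Fin mm) F)) ∧
      (∀ h ∈ H, ∀ σ : Equiv.Perm (Fin k), (∀ i, cj h (P i) = P (σ i)) →
        ∃ Us : Fin k → GL (Fin mm) F,
          LinearMap.toMatrix b b (Matrix.toLin' (h : Matrix ι ι F)) =
            facPerm mm F σ * ptM (fun i => ((Us i : GL (Fin mm) F) : Matrix (Fin mm) (Fin mm) F))) ∧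
      (∀ i, ∀ g ∈ P i, ∃ X : Matrix (Fin mm) (Fin mm) F,
        LinearMap.toMatrix b b (Matrix.toLin' (g : Matrix ι ι F)) = posMat i X) := by
  have hgen' : HV N ≤ Subgroup.closure (⋃ i, (HV (P i) : Set (GLV F (ι → F)))) := by
    rw [← hgen]
    unfold HV
    rw [MonoidHom.map_closure]
    apply Subgroup.closure_mono
    rintro x ⟨g, hg, rfl⟩
    obtain ⟨i, hi⟩ := Set.mem_iUnion.mp hg
    exact Set.mem_iUnion.mpr ⟨i, Subgroup.mem_map_of_mem _ hi⟩
  have hcomm' : ∀ i j, i ≠ j → ∀ x ∈ HV (P i), ∀ y ∈ HV (P j), x * y = y * x := by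
    intro i j hij x hx y hy
    obtain ⟨x₀, hx₀, rfl⟩ := exists_of_mem_HV hx
    obtain ⟨y₀, hy₀, rfl⟩ := exists_of_mem_HV hy
    rw [← map_mul, ← map_mul, hcomm i j hij x₀ hx₀ y₀ hy₀]
  have hdim : ∀ i j, finrank F (algOf (HV (P i))) = finrank F (algOf (HV (P j))) := by
    have hle : ∀ i j, finrank F (algOf (HV (P i))) ≤ finrank F (algOf (HV (P j))) := by
      intro i j
      obtain ⟨h, -, hh⟩ := htrans i j
      have := finrank_algOf_le (P i) h
      rwa [hh] at this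
    exact fun i j => le_antisymm (hle i j) (hle j i)
  obtain ⟨mm, b, hmm, hb⟩ := tensor_factor_basis (by omega : 0 < k)
    (fun i => Subgroup.map_mono (hPN i)) hgen' hcomm' (irr_of_span N hspan)
    (cent_of_span N hspan) hdim
  have hadj : ∀ i, AdjClosed (toBilin hf) (algOf (HV (P i))) := by
    intro i
    apply adjClosed_algOf
    apply isomV_HV hf
    intro g hg
    exact hH g (hNH (hPN i hg))
  obtain ⟨Gs, hGs⟩ := gram_ptM (toBilin_nondegenerate hf hnd) (by omega : 0 < k) hmm b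
    (fun i => algOf (HV (P i))) (fun i => (hb i).1) (fun i => (hb i).2) hadj
  refine ⟨mm, b, Gs, hmm, hGs, ?_, ?_⟩
  · intro h hh σ hσ
    set u : GLV F (ι → F) := toV h with hu
    have hg : ∀ i (X : Matrix (Fin mm) (Fin mm) F), ∃ X' : Matrix (Fin mm) (Fin mm) F,
        (glMat b u : Matrix (Fin k → Fin mm) (Fin k → Fin mm) F) * posMat i X *
          (((glMat b u)⁻¹ : GL (Fin k → Fin mm) F) : Matrix (Fin k → Fin mm) (Fin k → Fin mm) F) =
            posMat (σ i) X' := by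
      intro i X
      obtain ⟨x, hx, hxX⟩ := (hb i).2 X
      have h1 := conj_mem_algOf (P i) h x hx
      rw [hσ i] at h1
      obtain ⟨X', hX'⟩ := (hb (σ i)).1 _ h1
      refine ⟨X', ?_⟩
      rw [← hX', ← map_inv, glMat_val, glMat_val, ← hxX, LinearMap.toMatrix_mul,
        LinearMap.toMatrix_mul]
    obtain ⟨Us, hUs⟩ := wreath_decomp hmm (by omega) (glMat b u) σ hg
    refine ⟨Us, ?_⟩
    rw [← hUs, glMat_val, hu, toV_val]
  · intro i g hg
    obtain ⟨X, hX⟩ := (hb i).1 _ (mem_algOf (mem_HV hg))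
    exact ⟨X, by rw [← hX, toV_val]⟩

end Cfsg.Agent.Lib.Helper8.Asch
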