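import Cfsg.Agent.Lib.Helper8.SpK2

set_option autoImplicit false

/-! Normalising the factors of the Gram matrix in a wreath basis. -/

namespace Cfsg.Agent.Lib.Helper8.Asch

open Module Matrix
open Cfsg.Geo

variable {k m : ℕ} {F : Type*} [Field F]

theorem ptM_mul_facPerm (σ : Equiv.Perm (Fin k)) (Xs : Fin k → Matrix (Fin m) (Fin m) F) :
    ptM Xs * facPerm m F σ = facPerm m F σ * ptM (fun i => Xs (σ i)) := by
  ext x y
  rw [mul_facPerm_apply, facPerm_mul_apply, ptM_apply, ptM_apply]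
  simp only [Function.comp_apply]
  exact (Fintype.prod_equiv σ _ _ (fun i => by simp)).symm

theorem wreath_transpose_conj (σ : Equiv.Perm (Fin k)) (Us Gs : Fin k → Matrix (Fin m) (Fin m) F) :
    (facPerm m F σ * ptM Us)ᵀ * ptM Gs * (facPerm m F σ * ptM Us) =
      ptM (fun j => (Us j)ᵀ * Gs (σ j) * Us j) := by
  rw [transpose_mul, facPerm_transpose, ptM_transpose]
  calc ptM (fun i => (Us i)ᵀ) * facPerm m F σ⁻¹ * ptM Gs * (facPerm m F σ * ptM Us)
      = ptM (fun i => (Us i)ᵀ) * (facPerm m F σ⁻¹ * (ptM Gs * facPerm m F σ)) * ptM Us := by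
        simp only [Matrix.mul_assoc]
    _ = ptM (fun i => (Us i)ᵀ) * (facPerm m F σ⁻¹ * (facPerm m F σ * ptM (fun i => Gs (σ i)))) *
          ptM Us := by rw [ptM_mul_facPerm]
    _ = ptM (fun i => (Us i)ᵀ) * ptM (fun i => Gs (σ i)) * ptM Us := by
        rw [← Matrix.mul_assoc (facPerm m F σ⁻¹), facPerm_mul, inv_mul_cancel, facPerm_one,
          Matrix.one_mul]
    _ = ptM (fun j => (Us j)ᵀ * Gs (σ j) * Us j) := by rw [ptM_mul, ptM_mul]

theorem ptGL_val (R : Fin k → GL (Fin m) F) :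
    ((ptGL R : GL (Fin k → Fin m) F) : Matrix (Fin k → Fin m) (Fin k → Fin m) F) =
      ptM (fun i => ((R i : GL (Fin m) F) : Matrix (Fin m) (Fin m) F)) := rfl

theorem ptGL_inv_val (R : Fin k → GL (Fin m) F) :
    (((ptGL R)⁻¹ : GL (Fin k → Fin m) F) : Matrix (Fin k → Fin m) (Fin k → Fin m) F) =
      ptM (fun i => (((R i)⁻¹ : GL (Fin m) F) : Matrix (Fin m) (Fin m) F)) := rfl

theorem conj_ptM_wreath (R : Fin k → GL (Fin m) F) (σ : Equiv.Perm (Fin k))
    (Us : Fin k → GL (Fin m) F) :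
    (((ptGL R)⁻¹ : GL (Fin k → Fin m) F) : Matrix (Fin k → Fin m) (Fin k → Fin m) F) *
        (facPerm m F σ * ptM (fun i => ((Us i : GL (Fin m) F) : Matrix (Fin m) (Fin m) F))) *
        ((ptGL R : GL (Fin k → Fin m) F) : Matrix (Fin k → Fin m) (Fin k → Fin m) F) =
      facPerm m F σ * ptM (fun i => (((R (σ i))⁻¹ * Us i * R i : GL (Fin m) F) :
        Matrix (Fin m) (Fin m) F)) := by
  rw [ptGL_val, ptGL_inv_val, ← Matrix.mul_assoc, ptM_mul_facPerm, Matrix.mul_assoc,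
    Matrix.mul_assoc, ptM_mul, ptM_mul]
  congr 2
  funext i
  rw [Units.val_mul, Units.val_mul, Matrix.mul_assoc]

/-- the matrix of `x` in the basis `b` is a factor permutation times a pure tensor -/
def IsWr {V : Type*} [AddCommGroup V] [Module F V] (b : Basis (Fin k → Fin m) F V)
    (x : Module.End F V) (σ : Equiv.Perm (Fin k)) : Prop :=
  ∃ Us : Fin k → GL (Fin m) F, LinearMap.toMatrix b b x =
    facPerm m F σ * ptM (fun i => ((Us i : GL (Fin m) F) : Matrix (Fin m) (Fin m) F))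

theorem wreath_normalize {V : Type*} [AddCommGroup V] [Module F V] (B : LinearMap.BilinForm F V)
    (b : Basis (Fin k → Fin m) F V) (i₀ : Fin k) (Gs : Fin k → GL (Fin m) F) [Nonempty (Fin m)]
    (hG : LinearMap.BilinForm.toMatrix b B =
      ptM (fun i => ((Gs i : GL (Fin m) F) : Matrix (Fin m) (Fin m) F)))
    (htr : ∀ i, ∃ x : Module.End F V, (∀ u v, B (x u) (x v) = B u v) ∧
      ∃ σ : Equiv.Perm (Fin k), σ i₀ = i ∧ IsWr b x σ) :
    ∃ (b' : Basis (Fin k → Fin m) F V) (Λ : F), Λ ≠ 0 ∧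
      LinearMap.BilinForm.toMatrix b' B =
        Λ • ptM (fun _ => ((Gs i₀ : GL (Fin m) F) : Matrix (Fin m) (Fin m) F)) ∧
      ∀ (x : Module.End F V) (σ : Equiv.Perm (Fin k)), IsWr b x σ → IsWr b' x σ := by
  choose x hxB σ hσ Us hUs using htr
  have hkey : ∀ i, ∃ c : F, c ≠ 0 ∧
      ((Us i i₀ : GL (Fin m) F) : Matrix (Fin m) (Fin m) F)ᵀ *
        ((Gs i : GL (Fin m) F) : Matrix (Fin m) (Fin m) F) *
        ((Us i i₀ : GL (Fin m) F) : Matrix (Fin m) (Fin m) F) =
          c • ((Gs i₀ : GL (Fin m) F) : Matrix (Fin m) (Fin m) F) := by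
    intro i
    have h1 := gram_isom B b (x i) (hxB i)
    rw [hUs i, hG, wreath_transpose_conj] at h1
    have h2 : ptM (fun j => ((Us i j : GL (Fin m) F) : Matrix (Fin m) (Fin m) F)ᵀ *
        ((Gs (σ i j) : GL (Fin m) F) : Matrix (Fin m) (Fin m) F) *
        ((Us i j : GL (Fin m) F) : Matrix (Fin m) (Fin m) F)) =
        (1 : F) • ptM (fun i => ((Gs i : GL (Fin m) F) : Matrix (Fin m) (Fin m) F)) := by
      rw [h1, one_smul]
    obtain ⟨c, hc, hprod⟩ := ptM_eq_smul_ptM _ _ 1 one_ne_zero (fun j => gl_ne_zero (Gs j)) h2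
    refine ⟨c i₀, ?_, ?_⟩
    · intro h0
      have : ∏ j, c j = 0 := Finset.prod_eq_zero (Finset.mem_univ i₀) h0
      rw [hprod] at this
      exact one_ne_zero this
    · have := hc i₀
      rw [hσ i] at this
      exact this
  choose lam hlam0 hlam using hkey
  set R : Fin k → GL (Fin m) F := fun i => Us i i₀ with hR
  obtain ⟨b', h1, h2⟩ := exists_basis_toMatrix b (ptGL R)
  refine ⟨b', ∏ i, lam i, Finset.prod_ne_zero_iff.mpr (fun i _ => hlam0 i), ?_, ?_⟩
  · rw [gram_change b b' (ptGL R) h1 B, hG, ptGL_val, ptM_transpose, ptM_mul, ptM_mul,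
      ← ptM_smul_family]
    congr 1
    funext i
    exact hlam i
  · rintro y τ ⟨Vs, hVs⟩
    refine ⟨fun i => (R (τ i))⁻¹ * Vs i * R i, ?_⟩
    rw [toMatrix_change b b' (ptGL R) h1 h2 y, hVs, conj_ptM_wreath]

end Cfsg.Agent.Lib.Helper8.Asch
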