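import Cfsg.Agent.Lib.Helper8.SpK3
import Cfsg.Agent.S0144

set_option autoImplicit false

/-! A perfect non-trivial group does not embed in the general linear group of degree two over the
field with three elements. -/

namespace Cfsg.Agent.Lib.Helper8.Asch

open Module Matrix
open scoped commutatorElement
open Cfsg.Geo

theorem trivial_of_perfect_of_card_dvd {G : Type*} [Group G] (P : Subgroup G) (hperf : ⁅P, P⁆ = P)
    (a b : ℕ) (hdvd : Nat.card P ∣ 2 ^ a * 3 ^ b) : P = ⊥ := by
  by_contra hne
  have hfin : Finite P := by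
    apply Nat.finite_of_card_ne_zero
    intro h0
    rw [h0] at hdvd
    have h2 := Nat.eq_zero_of_zero_dvd hdvd
    have h3 : 0 < 2 ^ a * 3 ^ b := by positivity
    omega
  obtain ⟨a', b', hab⟩ := Cfsg.Agent.S0144.shape_of_dvd Nat.prime_two Nat.prime_three hdvd
  haveI : Group.IsSolvable P := Cfsg.Agent.S0144.result 2 3 a' b' Nat.prime_two Nat.prime_three hab
  haveI : Nontrivial P := (Subgroup.nontrivial_iff_ne_bot P).mpr hne
  have h1 := Group.IsSolvable.commutator_lt_top_of_nontrivial P
  apply ne_of_lt h1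
  apply Subgroup.map_injective P.subtype_injective
  rw [commutator_def, Subgroup.map_commutator, ← MonoidHom.range_eq_map, Subgroup.range_subtype]
  exact hperf

variable {F : Type*} [Field F]

theorem not_three_two [Fintype F] {ι : Type} [Fintype ι] [DecidableEq ι] (P₀ : Subgroup (GL ι F))
    (hperf : ⁅P₀, P₀⁆ = P₀) (hne : P₀ ≠ ⊥) {k mm : ℕ} (hmm : 0 < mm)
    (b : Basis (Fin k → Fin mm) F (ι → F)) (i : Fin k)
    (hP : ∀ g ∈ P₀, ∃ X : Matrix (Fin mm) (Fin mm) F,
      LinearMap.toMatrix b b (Matrix.toLin' (g : Matrix ι ι F)) = posMat i X) :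
    ¬ (Fintype.card F = 3 ∧ mm = 2) := by
  rintro ⟨hcard, rfl⟩
  apply hne
  choose X hX using hP
  have hinj := posMat_injective (k := k) (F := F) hmm i
  have e : ∀ a b' : Matrix ι ι F,
      Matrix.toLin' (a * b') = Matrix.toLin' a * Matrix.toLin' b' := fun a b' => Matrix.toLin'_mul a b'
  let φ₀ : P₀ →* Matrix (Fin 2) (Fin 2) F :=
    { toFun := fun g => X g.1 g.2
      map_one' := by
        apply hinj
        rw [← hX, posMat_one]
        show LinearMap.toMatrix b b (Matrix.toLin' (1 : Matrix ι ι F)) = 1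
        rw [Matrix.toLin'_one]
        exact LinearMap.toMatrix_one b
      map_mul' := by
        intro g h
        apply hinj
        rw [← posMat_mul, ← hX, ← hX, ← hX]
        show LinearMap.toMatrix b b (Matrix.toLin' ((g.1 : Matrix ι ι F) * (h.1 : Matrix ι ι F))) = _
        rw [e, LinearMap.toMatrix_mul] }
  let φ : P₀ →* GL (Fin 2) F := φ₀.toHomUnits
  have hφinj : Function.Injective φ := by
    intro g h hgh
    have h1 : φ₀ g = φ₀ h := by
      have := congrArg (fun u : GL (Fin 2) F => (u : Matrix (Fin 2) (Fin 2) F)) hgh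
      exact this
    have h2 : posMat i (X g.1 g.2) = posMat i (X h.1 h.2) := congrArg (posMat i) h1
    rw [← hX, ← hX] at h2
    have h3 := Matrix.toLin'.injective ((LinearMap.toMatrix b b).injective h2)
    exact Subtype.ext (Units.ext h3)
  have hdvd : Nat.card P₀ ∣ 2 ^ 4 * 3 ^ 1 := by
    have h1 := Subgroup.card_dvd_of_injective φ hφinj
    rw [Matrix.card_GL_field, hcard, Fin.prod_univ_two] at h1
    exact h1
  exact trivial_of_perfect_of_card_dvd P₀ hperf 4 1 hdvd

end Cfsg.Agent.Lib.Helper8.Asch
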