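import Cfsg.Agent.Lib.Helper8.SpK5
import Cfsg.Agent.Lib.Helper8.SpD8

set_option autoImplicit false

/-! A wreath basis with constant Gram factors: class 8 in even characteristic. -/

namespace Cfsg.Agent.Lib.Helper8.Asch

open Module Matrix
open Cfsg.Geo

variable {F : Type*} [Field F]

theorem ptV_single {k mm : ℕ} (f : Fin k → Fin mm) :
    ptV (fun i => (Pi.single (f i) (1 : F) : Fin mm → F)) = Pi.single f 1 := by
  funext g
  rw [ptV_apply]
  by_cases hfg : g = f
  · subst hfg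
    simp
  · rw [Pi.single_eq_of_ne hfg]
    obtain ⟨i, hi⟩ := Function.ne_iff.mp hfg
    apply Finset.prod_eq_zero (Finset.mem_univ i)
    rw [Pi.single_eq_of_ne hi]

variable [Fintype F]

theorem sp_class8_wreath (m : ℕ) (H : Subgroup (GL (Fin m ⊕ Fin m) F)) (hH : H ≤ spGL m F)
    (heven : ¬ Odd (Fintype.card F)) {k mm : ℕ} (hk : 2 ≤ k)
    (b : Basis (Fin k → Fin mm) F (Fin m ⊕ Fin m → F)) (G₀ : GL (Fin mm) F) [Nonempty (Fin mm)]
    (Λ : F) (hΛ : Λ ≠ 0)
    (hG : LinearMap.BilinForm.toMatrix b (toBilin (isSymplecticForm_sympForm (F := F) m).bilinear) =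
      Λ • ptM (fun _ : Fin k => (G₀ : Matrix (Fin mm) (Fin mm) F)))
    (hHk : ∀ h ∈ H, ∃ (σ : Equiv.Perm (Fin k)) (Us : Fin k → GL (Fin mm) F),
      LinearMap.toMatrix b b (Matrix.toLin' (h : Matrix (Fin m ⊕ Fin m) (Fin m ⊕ Fin m) F)) =
        facPerm mm F σ * ptM (fun i => ((Us i : GL (Fin mm) F) : Matrix (Fin mm) (Fin mm) F))) :
    ∃ M : Subgroup (GL (Fin m ⊕ Fin m) F), ISPC m F M ∧ H ≤ M := by
  have h2F : (2 : F) = 0 := two_eq_zero_of_not_odd heven
  have hf := isSymplecticForm_sympForm (F := F) m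
  have ht := gram_transpose (epsForm_symp (F := F) m) b
  rw [hG] at ht
  obtain ⟨c, hc, -, hcc⟩ := const_factor_symm (by omega : 0 < k)
    (G₀ : Matrix (Fin mm) (Fin mm) F) (gl_ne_zero G₀) Λ (-1) hΛ (by simp) ht
  have hc1 : c = 1 := by
    have h1 : (c + 1) * (c + 1) = 0 := by linear_combination hcc + (c + 1) * h2F
    rcases mul_eq_zero.mp h1 with h | h <;> linear_combination h - h2F
  subst hc1
  rw [one_smul] at hc
  set G := (G₀ : Matrix (Fin mm) (Fin mm) F) with hGd
  have hdiag : ∀ p, G p p = 0 := by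
    intro p
    have h1 := congrFun (congrFun hG (fun _ => p)) (fun _ => p)
    rw [LinearMap.BilinForm.toMatrix_apply, toBilin_apply, hf.alternating, Matrix.smul_apply,
      ptM_apply, smul_eq_mul, Finset.prod_const] at h1
    rcases mul_eq_zero.mp h1.symm with h | h
    · exact absurd h hΛ
    · exact pow_eq_zero_iff (by rw [Finset.card_univ, Fintype.card_fin]; omega) |>.mp h
  have hsk : ∀ p q, G p q + G q p = 0 := by
    intro p q
    have := congrFun (congrFun hc p) q
    rw [Matrix.transpose_apply] at this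
    rw [this]
    linear_combination (G p q) * h2F
  set i₀ : Fin k := ⟨0, by omega⟩ with hi₀
  set i₁ : Fin k := ⟨1, by omega⟩ with hi₁
  have hi01 : i₁ ≠ i₀ := by
    intro h
    have := congrArg Fin.val h
    simp [hi₀, hi₁] at this
  set Ts : Fin k → Matrix (Fin mm) (Fin mm) F :=
    Function.update (fun _ => G) i₀ (upperPart G) with hTs
  set T : Matrix (Fin k → Fin mm) (Fin k → Fin mm) F := Λ • ptM Ts with hT
  have hTT : T + Tᵀ = Λ • ptM (fun _ : Fin k => G) := by
    have h1 : (fun i => (Ts i)ᵀ) = Function.update (fun _ => G) i₀ (upperPart G)ᵀ := by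
      funext i
      by_cases hi : i = i₀
      · subst hi
        rw [hTs, Function.update_self, Function.update_self]
      · rw [hTs, Function.update_of_ne hi, Function.update_of_ne hi, hc]
    rw [hT, Matrix.transpose_smul, ptM_transpose, h1, ← smul_add, hTs, ← ptM_update_add,
      upperPart_add_transpose G hc hdiag]
    congr 2
    exact Function.update_eq_self i₀ (fun _ => G)
  let Q : (Fin m ⊕ Fin m → F) → F := fun v => gf (RingHom.id F) T (b.repr v) (b.repr v)
  have hQ : ∀ v, Q v = gf (RingHom.id F) T (b.repr v) (b.repr v) := fun v => rfl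
  let S : Set (Fin m ⊕ Fin m → F) := {v | ∃ ws : Fin k → Fin mm → F, ⇑(b.repr v) = ptV ws}
  refine sp_class8_of_quad m H hH heven Q ?_ ?_ S ?_ ?_ ?_
  · intro c v
    rw [hQ, hQ, map_smul, Finsupp.coe_smul, gf_smul_left, gf_smul_right, RingHom.id_apply]
    ring
  · intro u v
    unfold QuadraticMap.polar
    rw [hQ, hQ, hQ, map_add, Finsupp.coe_add]
    have := polar_gf T (b.repr u) (b.repr v)
    unfold QuadraticMap.polar at this
    rw [this, hTT, ← hG, ← gf_repr]
    rfl
  · rw [eq_top_iff, ← b.span_eq]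
    apply Submodule.span_mono
    rintro _ ⟨f, rfl⟩
    refine ⟨fun i => Pi.single (f i) 1, ?_⟩
    rw [Basis.repr_self, ptV_single, Finsupp.single_eq_pi_single]
  · rintro h hh v ⟨ws, hws⟩
    obtain ⟨σ, Us, hσU⟩ := hHk h hh
    refine ⟨fun i => ((Us (σ.symm i) : GL (Fin mm) F) : Matrix (Fin mm) (Fin mm) F) *ᵥ
      ws (σ.symm i), ?_⟩
    rw [← Matrix.toLin'_apply, ← LinearMap.toMatrix_mulVec_repr b b, hσU, hws,
      ← Matrix.mulVec_mulVec, ptM_mulVec_ptV, facPerm_mulVec_ptV]
  · rintro v ⟨ws, hws⟩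
    rw [hQ, hws]
    unfold gf
    have hid : ⇑(RingHom.id F) ∘ ptV ws = ptV ws := rfl
    rw [hid, hT, Matrix.smul_mulVec, ptM_mulVec_ptV, dotProduct_smul, ptV_dotProduct, smul_eq_mul]
    have h0 : ws i₁ ⬝ᵥ (Ts i₁ *ᵥ ws i₁) = 0 := by
      rw [hTs, Function.update_of_ne hi01]
      exact gf_alt G hsk hdiag (ws i₁)
    rw [Finset.prod_eq_zero (Finset.mem_univ i₁) h0, mul_zero]

end Cfsg.Agent.Lib.Helper8.Asch
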