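import Mathlib
import Cfsg.Prelude
import Cfsg.Agent.Lib.Helper5.OInSpMax
import Cfsg.Agent.Lib.Helper5.QuadSign.GeoInst
import Cfsg.Agent.Lib.Helper5.QuadSign.TS
import Cfsg.Agent.Lib.Helper5.QuadSign.Std
import Cfsg.Agent.Lib.Helper5.SympBridge
import Cfsg.Agent.Lib.Helper8.SpA1

set_option autoImplicit false
set_option linter.unusedSectionVars false
set_option linter.unusedVariables false
open Cfsg

/-! Quadratic forms in characteristic two polarising to the standard alternating form: sign, plus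
type, and the action of the symplectic group on them. -/

namespace Cfsg.Agent.Lib.Helper8.Sq

open Matrix Module QuadraticMap
open Cfsg.Agent.Lib.Helper5.QuadTwo Cfsg.Agent.Lib.Helper5.QuadSign
open Cfsg.Agent.Lib.Helper5.OrthBridge Cfsg.Agent.Lib.Helper5.SympBridge

universe u
variable {F : Type u} [Field F] [Fintype F] {d : ℕ}

/-- a quadratic form (as a function) polarising to the standard alternating form -/
structure SQ (Q : (Fin d ⊕ Fin d → F) → F) : Prop where
  nd : Cfsg.Geo.IsNondegenerateQuadraticForm Q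
  pol : ∀ u v, QuadraticMap.polar Q u v = Cfsg.sympForm d F u v

namespace SQ

variable {Q : (Fin d ⊕ Fin d → F) → F}

/-- the bundled form -/
noncomputable def qf (h : SQ Q) : QuadraticForm F (Fin d ⊕ Fin d → F) := toQF Q h.nd

theorem qf_coe (h : SQ Q) : ⇑h.qf = Q := coe_toQF Q h.nd

theorem qf_apply (h : SQ Q) (v : Fin d ⊕ Fin d → F) : h.qf v = Q v := by rw [qf_coe]

theorem polar_qf (h : SQ Q) (u v : Fin d ⊕ Fin d → F) : polar h.qf u v = sympForm d F u v := by
  rw [qf_coe]; exact h.pol u v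

theorem nd_qf (h : SQ Q) : Nd h.qf := by
  intro v hv
  by_contra hne
  obtain ⟨x, hx⟩ := (h.nd.nondegenerate v hne).1
  apply hx
  have := hv x
  rw [qf_coe] at this
  exact this

theorem add (h : SQ Q) (x y : Fin d ⊕ Fin d → F) : Q (x + y) = Q x + Q y + sympForm d F x y := by
  rw [← h.pol]; unfold QuadraticMap.polar; ring

theorem smul (h : SQ Q) (c : F) (x : Fin d ⊕ Fin d → F) : Q (c • x) = c ^ 2 * Q x := h.nd.smul c x

theorem zero (h : SQ Q) : Q 0 = 0 := by
  have := h.smul 0 0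
  rw [zero_smul] at this
  rw [this]; ring

theorem exists_sign (h : SQ Q) : HasSign Q d 1 ∨ HasSign Q d (-1) := by
  have := Geo.hasSign (geo_all (F := F)) h.qf h.nd_qf d (finrank_plus d)
  rw [qf_coe] at this
  exact this

end SQ

/-- the form `Q ∘ g` -/
theorem SQ.comp {Q : (Fin d ⊕ Fin d → F) → F} (h : SQ Q) (g : GL (Fin d ⊕ Fin d) F)
    (hg : g ∈ spGL d F) :
    SQ (fun v => Q ((g : Matrix (Fin d ⊕ Fin d) (Fin d ⊕ Fin d) F) *ᵥ v)) := by
  have hpol : ∀ u v, QuadraticMap.polar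
      (fun v => Q ((g : Matrix (Fin d ⊕ Fin d) (Fin d ⊕ Fin d) F) *ᵥ v)) u v =
      sympForm d F u v := by
    intro u v
    unfold QuadraticMap.polar
    have := h.pol ((g : Matrix (Fin d ⊕ Fin d) (Fin d ⊕ Fin d) F) *ᵥ u)
      ((g : Matrix (Fin d ⊕ Fin d) (Fin d ⊕ Fin d) F) *ᵥ v)
    unfold QuadraticMap.polar at this
    show Q (_ *ᵥ (u + v)) - Q (_ *ᵥ u) - Q (_ *ᵥ v) = _
    rw [Matrix.mulVec_add, this]
    exact hg u v
  refine ⟨⟨?_, ?_, ?_⟩, hpol⟩
  · intro c v
    show Q _ = c ^ 2 * Q _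
    rw [Matrix.mulVec_smul, h.smul]
  · have hb : Cfsg.Geo.IsBilinearForm (sympForm d F) := by
      have := h.nd.polar_bilinear
      have he : QuadraticMap.polar Q = sympForm d F := by
        funext u v; exact h.pol u v
      rwa [he] at this
    have he : QuadraticMap.polar
        (fun v => Q ((g : Matrix (Fin d ⊕ Fin d) (Fin d ⊕ Fin d) F) *ᵥ v)) = sympForm d F := by
      funext u v; exact hpol u v
    rw [he]; exact hb
  · have he : QuadraticMap.polar
        (fun v => Q ((g : Matrix (Fin d ⊕ Fin d) (Fin d ⊕ Fin d) F) *ᵥ v)) = sympForm d F := by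
      funext u v; exact hpol u v
    rw [he]
    have := h.nd.nondegenerate
    have he' : QuadraticMap.polar Q = sympForm d F := by
      funext u v; exact h.pol u v
    rwa [he'] at this

/-- the sign of `Q ∘ g` -/
theorem hasSign_comp {Q : (Fin d ⊕ Fin d → F) → F} (g : GL (Fin d ⊕ Fin d) F) (s : ℤ) :
    HasSign (fun v => Q ((g : Matrix (Fin d ⊕ Fin d) (Fin d ⊕ Fin d) F) *ᵥ v)) d s ↔
      HasSign Q d s := by
  let e : (Fin d ⊕ Fin d → F) ≃ (Fin d ⊕ Fin d → F) :=
    { toFun := fun v => (g : Matrix (Fin d ⊕ Fin d) (Fin d ⊕ Fin d) F) *ᵥ v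
      invFun := fun v => ((g⁻¹ : GL (Fin d ⊕ Fin d) F) : Matrix (Fin d ⊕ Fin d) (Fin d ⊕ Fin d) F) *ᵥ v
      left_inv := fun v => by
        simp only [Matrix.mulVec_mulVec]
        rw [← Units.val_mul, inv_mul_cancel, Units.val_one, Matrix.one_mulVec]
      right_inv := fun v => by
        simp only [Matrix.mulVec_mulVec]
        rw [← Units.val_mul, mul_inv_cancel, Units.val_one, Matrix.one_mulVec] }
  exact hasSign_congr e (fun v => Q ((g : Matrix (Fin d ⊕ Fin d) (Fin d ⊕ Fin d) F) *ᵥ v)) Q (fun x => rfl) d s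

/-- **Transitivity**: two forms of the same sign are conjugate under the symplectic group. -/
theorem exists_spGL_conj {Q Q' : (Fin d ⊕ Fin d → F) → F} (h : SQ Q) (h' : SQ Q') (s : ℤ)
    (hs : HasSign Q d s) (hs' : HasSign Q' d s) :
    ∃ g ∈ spGL d F, ∀ v, Q' ((g : Matrix (Fin d ⊕ Fin d) (Fin d ⊕ Fin d) F) *ᵥ v) = Q v := by
  have hs1 : HasSign h.qf d s := by rw [h.qf_coe]; exact hs
  have hs2 : HasSign h'.qf d s := by rw [h'.qf_coe]; exact hs'
  obtain ⟨φ, hφ⟩ := Geo.iso_of_hasSign (geo_all (F := F)) h.qf h'.qf h.nd_qf h'.nd_qf d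
    (finrank_plus d) (finrank_plus d) s hs1 hs2
  have hφ' : ∀ x, Q' (φ x) = Q x := by
    intro x
    have := hφ x
    rwa [h.qf_apply, h'.qf_apply] at this
  have hsymp : ∀ u v, sympForm d F (φ u) (φ v) = sympForm d F u v := by
    intro u v
    rw [← h'.pol, ← h.pol]
    unfold QuadraticMap.polar
    rw [← map_add, hφ', hφ', hφ']
  obtain ⟨A, hA⟩ := exists_spGL_of_isometry d φ hsymp
  refine ⟨A.1, A.2, fun v => ?_⟩
  rw [hA, hφ']

/-- plus type is the sign `1` -/
theorem isPlusType_iff {Q : (Fin d ⊕ Fin d → F) → F} (h : SQ Q) :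
    Cfsg.Geo.IsPlusTypeOn Q ⊤ ↔ HasSign Q d 1 := by
  constructor
  · rintro ⟨U, -, hU, hfin⟩
    rw [finrank_top, finrank_plus] at hfin
    have := hasSign_of_ts d (Fin d ⊕ Fin d → F) h.qf h.nd_qf (finrank_plus d) U
      (fun x hx => by rw [h.qf_apply]; exact hU x hx) (by omega)
    rwa [h.qf_coe] at this
  · intro hs
    have hs1 : HasSign h.qf d 1 := by rw [h.qf_coe]; exact hs
    obtain ⟨φ, hφ⟩ := Geo.iso_of_hasSign (geo_all (F := F)) h.qf (qPlus d) h.nd_qf (nd_qPlus d) d
      (finrank_plus d) (finrank_plus d) 1 hs1 (hasSign_qPlus d)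
    refine ⟨(plusL d).map φ.symm.toLinearMap, le_top, ?_, ?_⟩
    · rintro w ⟨y, hy, rfl⟩
      have := hφ (φ.symm y)
      rw [h.qf_apply, LinearEquiv.apply_symm_apply] at this
      show Q (φ.symm y) = 0
      rw [← this, qPlus_apply]
      rw [SetLike.mem_coe, mem_plusL] at hy
      apply Finset.sum_eq_zero
      intro i _
      rw [hy i, mul_zero]
    · rw [finrank_top, finrank_plus]
      have : finrank F ((plusL d).map φ.symm.toLinearMap) = finrank F (plusL (F := F) d) :=
        LinearEquiv.finrank_map_eq φ.symm (plusL d)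
      rw [this, finrank_plusL]

end Cfsg.Agent.Lib.Helper8.Sq
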