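import Mathlib
import Cfsg.Prelude
import Cfsg.Agent.Lib.Helper8.Sq1
import Cfsg.Agent.Lib.Helper5.OrthCard
import Cfsg.Agent.Lib.Helper5.QuadSign.StdMinus
import Cfsg.Agent.Lib.Helper5.QuadSign.ProdTwo
import Cfsg.Agent.Lib.Helper2.FexD
import Cfsg.Agent.S0287
import Cfsg.Agent.S0288

set_option autoImplicit false
set_option linter.unusedSectionVars false
set_option linter.unusedVariables false
open Cfsg

/-! The index of the orthogonal group of a quadratic form in characteristic two in the symplectic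
group of its polar form. -/

namespace Cfsg.Agent.Lib.Helper8.Sq

open Matrix Module QuadraticMap
open Cfsg.Agent.Lib.Helper5.QuadTwo Cfsg.Agent.Lib.Helper5.QuadSign
open Cfsg.Agent.Lib.Helper5.OrthBridge Cfsg.Agent.Lib.Helper5.SympBridge
open Cfsg.Agent.Lib.Helper5.OrthCard Cfsg.Agent.Lib.Helper2.Fex

universe u
variable {F : Type u} [Field F] [Fintype F] {d : ℕ}

section iso
variable {ι ι' : Type} [Fintype ι] [DecidableEq ι] [Fintype ι'] [DecidableEq ι']

/-- transport of automorphisms along a linear equivalence -/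
noncomputable def conjEquiv (φ : (ι → F) ≃ₗ[F] (ι' → F)) :
    ((ι → F) ≃ₗ[F] (ι → F)) ≃ ((ι' → F) ≃ₗ[F] (ι' → F)) where
  toFun a := φ.symm.trans (a.trans φ)
  invFun b := φ.trans (b.trans φ.symm)
  left_inv a := by
    ext v : 1
    simp
  right_inv b := by
    ext v : 1
    simp

theorem conjEquiv_apply (φ : (ι → F) ≃ₗ[F] (ι' → F)) (a : (ι → F) ≃ₗ[F] (ι → F)) (v : ι' → F) :
    conjEquiv φ a v = φ (a (φ.symm v)) := rfl

/-- isometric forms have isometry groups of the same order -/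
theorem card_isometryGroup_of_iso (Q : (ι → F) → F) (Q' : (ι' → F) → F)
    (φ : (ι → F) ≃ₗ[F] (ι' → F)) (hφ : ∀ v, Q' (φ v) = Q v) :
    Nat.card (isometryGroup F Q) = Nat.card (isometryGroup F Q') := by
  let e : GL ι F ≃ GL ι' F :=
    (toGLm (F := F) (n := ι)).symm.toEquiv.trans ((conjEquiv φ).trans (toGLm (F := F) (n := ι')).toEquiv)
  have he : ∀ (A : GL ι F) (v : ι' → F),
      ((e A : GL ι' F) : Matrix ι' ι' F) *ᵥ v = φ ((A : Matrix ι ι F) *ᵥ (φ.symm v)) := by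
    intro A v
    show ((toGLm (conjEquiv φ (toGLm.symm A)) : GL ι' F) : Matrix ι' ι' F) *ᵥ v = _
    rw [toGLm_mulVec, conjEquiv_apply]
    have := toGLm_mulVec ((toGLm (F := F) (n := ι)).symm A) (φ.symm v)
    rw [MulEquiv.apply_symm_apply] at this
    rw [this]
  refine Nat.card_congr (Equiv.subtypeEquiv e ?_)
  intro A
  rw [mem_isometryGroup_iff, mem_isometryGroup_iff]
  constructor
  · intro h v
    rw [he, hφ, h, ← hφ, LinearEquiv.apply_symm_apply]
  · intro h v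
    have := h (φ v)
    rw [he, hφ, LinearEquiv.symm_apply_apply, hφ] at this
    exact this

end iso

/-- the orthogonal group inside the symplectic group -/
theorem inf_eq_isometryGroup {Q : (Fin d ⊕ Fin d → F) → F} (h : SQ Q) (hd : 1 ≤ d) :
    Cfsg.Geo.quadSimilarityGroup Q ⊓ spGL d F = isometryGroup F Q := by
  ext g
  rw [mem_isometryGroup_iff]
  constructor
  · intro hg v
    exact Cfsg.Agent.Lib.Helper5.OInSpMax.isom_of_mem h.nd h.pol hd g hg v
  · intro hg
    refine ⟨⟨1, fun v => by rw [hg, Units.val_one, one_mul]⟩, ?_⟩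
    intro u v
    show sympForm d F _ _ = sympForm d F u v
    rw [← h.pol, ← h.pol]
    unfold QuadraticMap.polar
    show Q ((g : Matrix (Fin d ⊕ Fin d) (Fin d ⊕ Fin d) F) *ᵥ u +
      (g : Matrix (Fin d ⊕ Fin d) (Fin d ⊕ Fin d) F) *ᵥ v) - Q _ - Q _ = _
    rw [← Matrix.mulVec_add]
    have e1 : ∀ w, Q ((glToMat (Fin d ⊕ Fin d) F) g *ᵥ w) = Q w := hg
    rw [e1, e1, hg]

theorem relIndex_mul_card {Q : (Fin d ⊕ Fin d → F) → F} (h : SQ Q) (hd : 1 ≤ d) :
    (Cfsg.Geo.quadSimilarityGroup Q).relIndex (spGL d F) * Nat.card (isometryGroup F Q) =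
      Nat.card (spGL d F) := by
  rw [← inf_eq_isometryGroup h hd]
  rw [← Subgroup.inf_relIndex_right]
  have : Nat.card ↥(Cfsg.Geo.quadSimilarityGroup Q ⊓ spGL d F) =
      Nat.card ↥((Cfsg.Geo.quadSimilarityGroup Q ⊓ spGL d F).subgroupOf (spGL d F)) :=
    Nat.card_congr (Subgroup.subgroupOfEquivOfLe inf_le_right).symm.toEquiv
  rw [this, Subgroup.relIndex, mul_comm]
  exact Subgroup.card_mul_index _


/-- the hyperbolic form polarises to the standard alternating form in characteristic two -/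
theorem sq_plus (h2 : (2 : F) = 0) : SQ (quadFormPlus d F) := by
  have hneg : ∀ a : F, -a = a := fun a => by
    have : a + a = 0 := by rw [← two_mul, h2, zero_mul]
    exact neg_eq_of_add_eq_zero_left this
  have hpol : ∀ u v, QuadraticMap.polar (quadFormPlus d F) u v = sympForm d F u v := by
    intro u v
    rw [← qPlus_coe, polar_qPlus, Cfsg.Agent.Lib.Helper8.Asch.sympForm_eq]
    refine Finset.sum_congr rfl fun i _ => ?_
    rw [sub_eq_add_neg, hneg]
    ring
  have he : QuadraticMap.polar (quadFormPlus d F) = sympForm d F := by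
    funext u v; exact hpol u v
  refine ⟨⟨?_, ?_, ?_⟩, hpol⟩
  · intro c v
    rw [← qPlus_coe, QuadraticMap.map_smul, smul_eq_mul]
    ring
  · rw [he]; exact (Cfsg.Agent.Lib.Helper8.Asch.isSymplecticForm_sympForm d).bilinear
  · rw [he]; exact (Cfsg.Agent.Lib.Helper8.Asch.isSymplecticForm_sympForm d).nondegenerate

theorem prod_pos_aux (q n : ℕ) (hq : 2 ≤ q) :
    0 < ∏ i ∈ Finset.range n, (q ^ (2 * (i + 1)) - 1) := by
  apply Finset.prod_pos
  intro i _
  have : 2 ^ (2 * (i + 1)) ≤ q ^ (2 * (i + 1)) := Nat.pow_le_pow_left hq _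
  have h4 : 2 ≤ 2 ^ (2 * (i + 1)) := by
    calc 2 = 2 ^ 1 := by norm_num
      _ ≤ 2 ^ (2 * (i + 1)) := Nat.pow_le_pow_right (by norm_num) (by omega)
  omega

/-- the index for a form of sign `1` -/
theorem two_mul_relIndex_plus {Q : (Fin d ⊕ Fin d → F) → F} (h : SQ Q) (hd : 1 ≤ d)
    (h2 : (2 : F) = 0) (hs : HasSign Q d 1) :
    2 * (Cfsg.Geo.quadSimilarityGroup Q).relIndex (spGL d F) =
      Fintype.card F ^ d * (Fintype.card F ^ d + 1) := by
  obtain ⟨g, hg, hgQ⟩ := exists_spGL_conj h (sq_plus h2) 1 hs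
    (by rw [← qPlus_coe]; exact hasSign_qPlus d)
  have hc : Nat.card (isometryGroup F Q) = Nat.card (isometryGroup F (quadFormPlus d F)) := by
    refine card_isometryGroup_of_iso Q (quadFormPlus d F) (toGLm.symm g) ?_
    intro v
    have := toGLm_mulVec ((toGLm (F := F) (n := Fin d ⊕ Fin d)).symm g) v
    rw [MulEquiv.apply_symm_apply] at this
    rw [← this, hgQ]
  have h1 := relIndex_mul_card h hd
  rw [hc, Cfsg.Agent.S0287.result rfl d hd, card_spGL] at h1
  obtain ⟨m, rfl⟩ : ∃ m, d = m + 1 := ⟨d - 1, by omega⟩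
  set q := Fintype.card F with hq
  have hq2 : 2 ≤ q := Fintype.one_lt_card
  rw [Finset.prod_range_succ, Nat.add_sub_cancel] at h1
  set P := ∏ i ∈ Finset.range m, (q ^ (2 * (i + 1)) - 1) with hP
  have hPpos : 0 < P := prod_pos_aux q m hq2
  have hqd : 1 ≤ q ^ (m + 1) := Nat.one_le_pow _ _ (by omega)
  have hqd2 : 2 ≤ q ^ (m + 1) := by
    calc 2 ≤ q := hq2
      _ = q ^ 1 := (pow_one q).symm
      _ ≤ q ^ (m + 1) := Nat.pow_le_pow_right (by omega) (by omega)
  have e1 : q ^ ((m + 1) ^ 2) = q ^ ((m + 1) * m) * q ^ (m + 1) := by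
    rw [← pow_add]; congr 1; ring
  have e2 : q ^ (2 * (m + 1)) - 1 = (q ^ (m + 1) - 1) * (q ^ (m + 1) + 1) := by
    have : q ^ (2 * (m + 1)) = q ^ (m + 1) * q ^ (m + 1) := by rw [← pow_add]; congr 1; ring
    rw [this]
    obtain ⟨t, ht⟩ : ∃ t, q ^ (m + 1) = t + 1 := ⟨q ^ (m + 1) - 1, by omega⟩
    rw [ht, Nat.add_sub_cancel]
    have : (t + 1) * (t + 1) = t * (t + 1 + 1) + 1 := by ring
    rw [this, Nat.add_sub_cancel]
  rw [e1, e2] at h1
  have hpos : 0 < q ^ ((m + 1) * m) * (q ^ (m + 1) - 1) * P := by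
    apply Nat.mul_pos (Nat.mul_pos (Nat.pow_pos (by omega)) (by omega)) hPpos
  apply Nat.eq_of_mul_eq_mul_right hpos
  calc 2 * (Cfsg.Geo.quadSimilarityGroup Q).relIndex (spGL (m + 1) F) *
        (q ^ ((m + 1) * m) * (q ^ (m + 1) - 1) * P)
      = (Cfsg.Geo.quadSimilarityGroup Q).relIndex (spGL (m + 1) F) *
        (2 * q ^ ((m + 1) * m) * (q ^ (m + 1) - 1) * P) := by ring
    _ = q ^ ((m + 1) * m) * q ^ (m + 1) * (P * ((q ^ (m + 1) - 1) * (q ^ (m + 1) + 1))) := h1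
    _ = q ^ (m + 1) * (q ^ (m + 1) + 1) * (q ^ ((m + 1) * m) * (q ^ (m + 1) - 1) * P) := by ring


/-- the index for a form of sign `-1` -/
theorem two_mul_relIndex_minus {Q : (Fin d ⊕ Fin d → F) → F} (h : SQ Q) (hd : 1 ≤ d)
    (h2 : (2 : F) = 0) (hs : HasSign Q d (-1)) :
    2 * (Cfsg.Geo.quadSimilarityGroup Q).relIndex (spGL d F) =
      Fintype.card F ^ d * (Fintype.card F ^ d - 1) := by
  obtain ⟨m, rfl⟩ : ∃ m, d = m + 1 := ⟨d - 1, by omega⟩
  obtain ⟨c₀, hc₀⟩ := exists_aniso_two (F := F) h2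
  have hs1 : HasSign h.qf (m + 1) (-1) := by rw [h.qf_coe]; exact hs
  obtain ⟨φ, hφ⟩ := Geo.iso_of_hasSign (geo_all (F := F)) h.qf (qMinus m 1 c₀) h.nd_qf
    (nd_qMinus m hc₀) (m + 1) (finrank_plus (m + 1)) (finrank_minus m) (-1) hs1
    (hasSign_qMinus m hc₀)
  have hc : Nat.card (isometryGroup F Q) =
      Nat.card (isometryGroup F (quadFormMinus m F 1 c₀)) := by
    refine card_isometryGroup_of_iso Q (quadFormMinus m F 1 c₀) φ ?_
    intro v
    have := hφ v
    rw [h.qf_apply, qMinus_coe] at this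
    exact this
  have h288 : Nat.card (isometryGroup F (quadFormMinus m F 1 c₀)) =
      2 * Fintype.card F ^ ((m + 1) * m) * (Fintype.card F ^ (m + 1) + 1) *
        ∏ i ∈ Finset.range m, (Fintype.card F ^ (2 * (i + 1)) - 1) :=
    Cfsg.Agent.S0288.result rfl (m + 1) (by omega) 1 c₀ hc₀
  have h1 := relIndex_mul_card h hd
  rw [hc, h288, card_spGL] at h1
  set q := Fintype.card F with hq
  have hq2 : 2 ≤ q := Fintype.one_lt_card
  rw [Finset.prod_range_succ] at h1
  set P := ∏ i ∈ Finset.range m, (q ^ (2 * (i + 1)) - 1) with hP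
  have hPpos : 0 < P := prod_pos_aux q m hq2
  have hqd : 1 ≤ q ^ (m + 1) := Nat.one_le_pow _ _ (by omega)
  have e1 : q ^ ((m + 1) ^ 2) = q ^ ((m + 1) * m) * q ^ (m + 1) := by
    rw [← pow_add]; congr 1; ring
  have e2 : q ^ (2 * (m + 1)) - 1 = (q ^ (m + 1) - 1) * (q ^ (m + 1) + 1) := by
    have : q ^ (2 * (m + 1)) = q ^ (m + 1) * q ^ (m + 1) := by rw [← pow_add]; congr 1; ring
    rw [this]
    obtain ⟨t, ht⟩ : ∃ t, q ^ (m + 1) = t + 1 := ⟨q ^ (m + 1) - 1, by omega⟩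
    rw [ht, Nat.add_sub_cancel]
    have : (t + 1) * (t + 1) = t * (t + 1 + 1) + 1 := by ring
    rw [this, Nat.add_sub_cancel]
  rw [e1, e2] at h1
  have hpos : 0 < q ^ ((m + 1) * m) * (q ^ (m + 1) + 1) * P := by
    apply Nat.mul_pos (Nat.mul_pos (Nat.pow_pos (by omega)) (by omega)) hPpos
  apply Nat.eq_of_mul_eq_mul_right hpos
  calc 2 * (Cfsg.Geo.quadSimilarityGroup Q).relIndex (spGL (m + 1) F) *
        (q ^ ((m + 1) * m) * (q ^ (m + 1) + 1) * P)
      = (Cfsg.Geo.quadSimilarityGroup Q).relIndex (spGL (m + 1) F) *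
        (2 * q ^ ((m + 1) * m) * (q ^ (m + 1) + 1) * P) := by ring
    _ = q ^ ((m + 1) * m) * q ^ (m + 1) * (P * ((q ^ (m + 1) - 1) * (q ^ (m + 1) + 1))) := h1
    _ = q ^ (m + 1) * (q ^ (m + 1) - 1) * (q ^ ((m + 1) * m) * (q ^ (m + 1) + 1) * P) := by ring

end Cfsg.Agent.Lib.Helper8.Sq
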