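import Mathlib
import Cfsg.Prelude
import Cfsg.Agent.Lib.Helper8.Sq2
import Cfsg.Agent.Lib.Helper5.QuadSign.Main

set_option autoImplicit false
set_option linter.unusedSectionVars false
set_option linter.unusedVariables false
open Cfsg

/-! Elements of odd prime order of the symplectic group in characteristic two with no conjugate
in a given orthogonal group. -/

namespace Cfsg.Agent.Lib.Helper8.Sq

open Matrix Module QuadraticMap Polynomial
open Cfsg.Agent.Lib.Helper5.QuadTwo Cfsg.Agent.Lib.Helper5.QuadSign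
open Cfsg.Agent.Lib.Helper5.OrthBridge Cfsg.Agent.Lib.Helper5.SympBridge
open Cfsg.Agent.Lib.Helper5.OrthCard Cfsg.Agent.Lib.Helper2.Fex
open Cfsg.Agent.Lib.Helper5.SemiConj Cfsg.Agent.Lib.Helper5.SemiCount
open Cfsg.Agent.Lib.Helper4.PrimeOrd Cfsg.Agent.Lib.Helper4.SemiMod

universe u
variable {F : Type u} [Field F] [Fintype F] {d : ℕ}

/-- an element with a conjugate in the orthogonal group of `Q` preserves a form of the same
sign -/
theorem exists_form_of_conj {Q : (Fin d ⊕ Fin d → F) → F} (h : SQ Q) (hd : 1 ≤ d)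
    (x g : GL (Fin d ⊕ Fin d) F) (hg : g ∈ spGL d F)
    (hc : g⁻¹ * x * g ∈ Cfsg.Geo.quadSimilarityGroup Q) (hx : x ∈ spGL d F) :
    ∃ Q' : (Fin d ⊕ Fin d → F) → F, SQ Q' ∧ (∀ s, HasSign Q' d s ↔ HasSign Q d s) ∧
      ∀ v, Q' ((x : Matrix (Fin d ⊕ Fin d) (Fin d ⊕ Fin d) F) *ᵥ v) = Q' v := by
  have hg' : g⁻¹ ∈ spGL d F := (spGL d F).inv_mem hg
  refine ⟨_, h.comp g⁻¹ hg', fun s => hasSign_comp g⁻¹ s, ?_⟩
  intro v
  have hmem : g⁻¹ * x * g ∈ Cfsg.Geo.quadSimilarityGroup Q ⊓ spGL d F :=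
    ⟨hc, (spGL d F).mul_mem ((spGL d F).mul_mem hg' hx) hg⟩
  have := Cfsg.Agent.Lib.Helper5.OInSpMax.isom_of_mem h.nd h.pol hd _ hmem
    (((g⁻¹ : GL (Fin d ⊕ Fin d) F) : Matrix (Fin d ⊕ Fin d) (Fin d ⊕ Fin d) F) *ᵥ v)
  show Q (_ *ᵥ (_ *ᵥ v)) = Q (_ *ᵥ v)
  rw [← this]
  congr 1
  simp only [Matrix.mulVec_mulVec, ← Units.val_mul]
  congr 2
  group


/-- the hypothesis that every element of order `r` has a conjugate in the orthogonal group -/
def AllConj (Q : (Fin d ⊕ Fin d → F) → F) (r : ℕ) : Prop :=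
  ∀ x ∈ spGL d F,
    (∃ z : F, ((x ^ r : GL (Fin d ⊕ Fin d) F) : Matrix (Fin d ⊕ Fin d) (Fin d ⊕ Fin d) F) =
      z • (1 : Matrix (Fin d ⊕ Fin d) (Fin d ⊕ Fin d) F)) →
    (∀ z : F, (x : Matrix (Fin d ⊕ Fin d) (Fin d ⊕ Fin d) F) ≠
      z • (1 : Matrix (Fin d ⊕ Fin d) (Fin d ⊕ Fin d) F)) →
    ∃ g ∈ spGL d F, g⁻¹ * x * g ∈ Cfsg.Geo.quadSimilarityGroup Q

theorem order_dvd_sub_one (r q i : ℕ) [Fact r.Prime] (hi : i = orderOf ((q : ℕ) : ZMod r))
    (hi0 : i ≠ 0) : i ∣ r - 1 := by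
  have ha : ((q : ℕ) : ZMod r) ≠ 0 := by
    intro h0
    have h1 := pow_orderOf_eq_one ((q : ℕ) : ZMod r)
    rw [← hi, h0, zero_pow hi0] at h1
    exact zero_ne_one h1
  rw [hi]
  exact orderOf_dvd_of_pow_eq_one (ZMod.pow_card_sub_one_eq_one ha)

/-- a symplectic scalar matrix in characteristic two is the identity -/
theorem scalar_eq_one (h2 : (2 : F) = 0) (hd : 1 ≤ d) (x : GL (Fin d ⊕ Fin d) F)
    (hx : x ∈ spGL d F) (z : F)
    (hz : (x : Matrix (Fin d ⊕ Fin d) (Fin d ⊕ Fin d) F) =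
      z • (1 : Matrix (Fin d ⊕ Fin d) (Fin d ⊕ Fin d) F)) : z = 1 := by
  have hne : (Pi.single (Sum.inl ⟨0, hd⟩) 1 : Fin d ⊕ Fin d → F) ≠ 0 := by
    intro h0
    have := congrFun h0 (Sum.inl ⟨0, hd⟩)
    rw [Pi.single_eq_same] at this
    exact one_ne_zero this
  obtain ⟨w, hw⟩ := ((Cfsg.Agent.Lib.Helper8.Asch.isSymplecticForm_sympForm (F := F) d).nondegenerate
    _ hne).1
  have h1 := hx w (Pi.single (Sum.inl ⟨0, hd⟩) 1)
  have h1' : sympForm d F ((x : Matrix (Fin d ⊕ Fin d) (Fin d ⊕ Fin d) F) *ᵥ w)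
      ((x : Matrix (Fin d ⊕ Fin d) (Fin d ⊕ Fin d) F) *ᵥ (Pi.single (Sum.inl ⟨0, hd⟩) 1)) =
      sympForm d F w (Pi.single (Sum.inl ⟨0, hd⟩) 1) := h1
  rw [hz, Matrix.smul_mulVec, Matrix.smul_mulVec, Matrix.one_mulVec, Matrix.one_mulVec,
    Cfsg.Agent.Lib.Helper5.SympTv.sympForm_smul_left,
    Cfsg.Agent.Lib.Helper5.SympTv.sympForm_smul_right] at h1'
  have h3 : z * z = 1 := by
    have : (z * z - 1) * sympForm d F w (Pi.single (Sum.inl ⟨0, hd⟩) 1) = 0 := by
      linear_combination h1'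
    rcases mul_eq_zero.1 this with h4 | h4
    · exact sub_eq_zero.1 h4
    · exact absurd h4 hw
  have h4 : (z - 1) * (z - 1) = 0 := by
    linear_combination h3 + (1 - z) * h2
  rcases mul_eq_zero.1 h4 with h5 | h5 <;> exact sub_eq_zero.1 h5

/-- the case of even order of `q` modulo `r` -/
theorem even_case (p : ℕ) [Fact p.Prime] [CharP F p] (h2 : (2 : F) = 0)
    {Q : (Fin d ⊕ Fin d → F) → F} (h : SQ Q)
    (hd : 1 ≤ d) (s : ℤ) (hs1 : s = 1 ∨ s = -1) (hs : HasSign Q d s) (r : ℕ) [hr : Fact r.Prime]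
    (hr2 : r ≠ 2) (hrp : r ≠ p) (hall : AllConj Q r) (i : ℕ)
    (hi : i = orderOf ((Fintype.card F : ℕ) : ZMod r)) (hev : Even i) (S : ℕ)
    (hS : i * S = 2 * d) : (-1 : ℤ) ^ S = s := by
  classical
  have hi0 : i ≠ 0 := by
    rintro rfl
    omega
  obtain ⟨t, ht⟩ := order_dvd_sub_one r (Fintype.card F) i hi hi0
  have ht' : t * i = r - 1 := by rw [ht, mul_comm]
  obtain ⟨r0, hi', ht1, f, H, π, hπi, hπ, hπev, -⟩ :=
    family_setup p (F := F) rfl r i t hr.out hr2 hrp hi ht'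
  have hπ' : ∀ j, star (RingHom.id F) (f j) = f j := by
    intro j
    rw [hπ j, hπev hev]
    rfl
  set j₀ : Fin t := ⟨0, ht1⟩ with hj₀
  set c : Fin t → ℕ := fun j => if j = j₀ then S else 0 with hc
  have hsum : ∑ j, c j = S := by
    rw [hc]
    simp only [Finset.sum_ite_eq', Finset.mem_univ, if_true]
  obtain ⟨hh, -, hhr, hcp, hev1⟩ := exists_h_Pc p H hπ' c d (by rw [hsum]; omega)
  set x : GL (Fin d ⊕ Fin d) F := Cfsg.Agent.Lib.Helper5.SpCentres.toGL hh with hxdef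
  have hxmat : (x : Matrix (Fin d ⊕ Fin d) (Fin d ⊕ Fin d) F) = hh.1 := rfl
  have hxsp : x ∈ spGL d F := by
    rw [Cfsg.Agent.Lib.Helper5.SpCentres.mem_spGL_iff]
    exact (mem_symplectic_iff d hh.1).mp hh.2
  have hxr : x ^ r = 1 := by
    rw [hxdef, ← map_pow, hhr, map_one]
  have hns : ∀ z : F, (x : Matrix (Fin d ⊕ Fin d) (Fin d ⊕ Fin d) F) ≠
      z • (1 : Matrix (Fin d ⊕ Fin d) (Fin d ⊕ Fin d) F) := by
    intro z hz
    have hz1 := scalar_eq_one h2 hd x hxsp z hz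
    rw [hz1, one_smul] at hz
    rw [← hxmat, hz, Matrix.charpoly_one] at hev1
    apply hev1
    rw [eval_pow, eval_sub, eval_X, eval_one, sub_self, zero_pow]
    rw [Fintype.card_sum, Fintype.card_fin]
    omega
  obtain ⟨g, hg, hgc⟩ := hall x hxsp ⟨1, by rw [hxr, one_smul]; rfl⟩ hns
  obtain ⟨Q', hQ', hsign, hinv⟩ := exists_form_of_conj h hd x g hg hgc hxsp
  have hmem : x ∈ isometryGroup F ⇑hQ'.qf := by
    rw [hQ'.qf_coe, mem_isometryGroup_iff]
    exact hinv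
  have hs' : HasSign hQ'.qf d s := by
    rw [hQ'.qf_coe]
    exact (hsign s).2 hs
  have hfull : i * ∑ j, c j = 2 * d := by rw [hsum]; exact hS
  have := sign_constraint hr2 r0 H hi' hev hQ'.qf hQ'.nd_qf d s hs1 hs' ⟨x, hmem⟩
    (by apply Subtype.ext; exact hxr) c
    (by rw [Pc_full (2 * d) c hfull]; exact hcp) hfull
  rw [hsum] at this
  exact this


/-- the case of odd order of `q` modulo `r` -/
theorem odd_case (p : ℕ) [Fact p.Prime] [CharP F p] (h2 : (2 : F) = 0)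
    {Q : (Fin d ⊕ Fin d → F) → F} (h : SQ Q)
    (hd : 1 ≤ d) (hs : HasSign Q d (-1)) (r : ℕ) [hr : Fact r.Prime]
    (hr2 : r ≠ 2) (hrp : r ≠ p) (hall : AllConj Q r) (i : ℕ)
    (hi : i = orderOf ((Fintype.card F : ℕ) : ZMod r)) (hodd : ¬ Even i) (k : ℕ)
    (hk : i * k = d) : False := by
  classical
  have hi0 : i ≠ 0 := by
    rintro rfl
    omega
  obtain ⟨t, ht⟩ := order_dvd_sub_one r (Fintype.card F) i hi hi0
  have ht' : t * i = r - 1 := by rw [ht, mul_comm]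
  obtain ⟨r0, hi', ht1, f, H, π, hπi, hπ, -, hπodd⟩ :=
    family_setup p (F := F) rfl r i t hr.out hr2 hrp hi ht'
  have hfp := hπodd hodd
  set j₀ : Fin t := ⟨0, ht1⟩ with hj₀
  set c : Fin t → ℕ := fun j => (if j = j₀ then k else 0) + (if j = π j₀ then k else 0) with hc
  have hsum : ∑ j, c j = 2 * k := by
    rw [hc]
    simp only [Finset.sum_add_distrib, Finset.sum_ite_eq', Finset.mem_univ, if_true]
    ring
  have hcπ : ∀ j, c (π j) = c j := by
    intro j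
    rw [hc]
    show (if π j = j₀ then k else 0) + (if π j = π j₀ then k else 0) =
      (if j = j₀ then k else 0) + (if j = π j₀ then k else 0)
    have e1 : (π j = j₀) ↔ (j = π j₀) := by
      constructor
      · intro h; rw [← h, hπi j]
      · intro h; rw [h, hπi j₀]
    have e2 : (π j = π j₀) ↔ (j = j₀) := hπi.injective.eq_iff
    simp only [e1, e2]
    ring
  have hfull : i * ∑ j, c j = 2 * d := by rw [hsum, ← hk]; ring
  obtain ⟨g, hgr, hcp⟩ := exists_plus_Pc_odd p H π hπi hπ hfp d c hfull.le hcπ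
  set x : GL (Fin d ⊕ Fin d) F := g.1 with hxdef
  have hxsp : x ∈ spGL d F := by
    have h1 : (g : GL (Fin d ⊕ Fin d) F) ∈ isometryGroup F (quadFormPlus d F) := g.2
    have h3 : (g : GL (Fin d ⊕ Fin d) F) ∈
        Cfsg.Geo.quadSimilarityGroup (quadFormPlus d F) ⊓ spGL d F := by
      rw [inf_eq_isometryGroup (sq_plus h2) hd]; exact h1
    exact h3.2
  have hxr : x ^ r = 1 := by
    have := congrArg Subtype.val hgr
    exact this
  have hev1 : eval 1 ((x : Matrix (Fin d ⊕ Fin d) (Fin d ⊕ Fin d) F).charpoly) ≠ 0 := by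
    rw [hxdef, hcp]
    exact eval_one_Pc_full H (2 * d) c hfull
  have hns : ∀ z : F, (x : Matrix (Fin d ⊕ Fin d) (Fin d ⊕ Fin d) F) ≠
      z • (1 : Matrix (Fin d ⊕ Fin d) (Fin d ⊕ Fin d) F) := by
    intro z hz
    have hz1 := scalar_eq_one h2 hd x hxsp z hz
    rw [hz1, one_smul] at hz
    rw [hz, Matrix.charpoly_one] at hev1
    apply hev1
    rw [eval_pow, eval_sub, eval_X, eval_one, sub_self, zero_pow]
    rw [Fintype.card_sum, Fintype.card_fin]
    omega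
  obtain ⟨g', hg', hgc⟩ := hall x hxsp ⟨1, by rw [hxr, one_smul]; rfl⟩ hns
  obtain ⟨Q', hQ', hsign, hinv⟩ := exists_form_of_conj h hd x g' hg' hgc hxsp
  have hmem : x ∈ isometryGroup F ⇑hQ'.qf := by
    rw [hQ'.qf_coe, mem_isometryGroup_iff]
    exact hinv
  have hcard : Fintype.card (Fin d ⊕ Fin d) = 2 * d := by
    rw [Fintype.card_sum, Fintype.card_fin]; ring
  have := hasSign_of_dual_pairs r0 H π hπi hπ hfp hQ'.qf hQ'.nd_qf d hcard ⟨x, hmem⟩
    (by apply Subtype.ext; exact hxr) c hcπ hcp hfull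
  rw [hQ'.qf_coe] at this
  have h1 := (hsign 1).1 this
  have := HasSign.unique h1 hs
  omega

/-- **No odd prime.** -/
theorem no_odd (p : ℕ) [hpf : Fact p.Prime] [CharP F p] (hp : p = 2)
    {Q : (Fin d ⊕ Fin d → F) → F} (h : SQ Q) (hd : 1 ≤ d) (r : ℕ) [hr : Fact r.Prime]
    (hr2 : r ≠ 2)
    (hΩ : r ∣ (Cfsg.Geo.quadSimilarityGroup Q).relIndex (spGL d F)) (hall : AllConj Q r) :
    False := by
  subst hp
  have h2 : (2 : F) = 0 := by
    have := CharP.cast_eq_zero F 2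
    exact_mod_cast this
  have hrp : r ≠ 2 := hr2
  set q := Fintype.card F with hq
  obtain ⟨n, -, hn⟩ := FiniteField.card F 2
  have hrq : ¬ r ∣ q ^ d := by
    intro hdvd
    have h1 := hr.out.dvd_of_dvd_pow hdvd
    rw [hq, hn] at h1
    have h3 := hr.out.dvd_of_dvd_pow h1
    exact hr2 ((Nat.prime_dvd_prime_iff_eq hr.out Nat.prime_two).1 h3)
  have hr3 : 2 < r := by
    have := hr.out.two_le
    omega
  haveI : Fact (2 < r) := ⟨hr3⟩
  have hne : (-1 : ZMod r) ≠ 1 := ZMod.neg_one_ne_one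
  set a : ZMod r := ((q : ℕ) : ZMod r) with ha
  set i := orderOf a with hi
  have hqd : 1 ≤ q ^ d := Nat.one_le_pow _ _ Fintype.card_pos
  rcases h.exists_sign with hs | hs
  · have hidx := two_mul_relIndex_plus h hd h2 hs
    have h1 : r ∣ q ^ d * (q ^ d + 1) := by
      rw [← hq] at hidx
      rw [← hidx]
      exact Dvd.dvd.mul_left hΩ 2
    have h3 : r ∣ q ^ d + 1 := (hr.out.dvd_mul.1 h1).resolve_left hrq
    have h4 : a ^ d = -1 := by
      have := (ZMod.natCast_eq_zero_iff (q ^ d + 1) r).2 h3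
      push_cast at this
      exact eq_neg_of_add_eq_zero_left this
    have h5 : a ^ (2 * d) = 1 := by
      rw [mul_comm, pow_mul, h4]; norm_num
    have h6 : i ∣ 2 * d := orderOf_dvd_of_pow_eq_one h5
    have hnd : ¬ i ∣ d := by
      rintro ⟨k, hk⟩
      apply hne
      rw [← h4, hk, pow_mul, hi, pow_orderOf_eq_one, one_pow]
    obtain ⟨S, hS⟩ := h6
    by_cases hev : Even i
    · have h7 := even_case 2 h2 h hd 1 (Or.inl rfl) hs r hr2 hrp hall i hi hev S hS.symm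
      have h8 : Even S := by
        rcases Nat.even_or_odd S with h | h
        · exact h
        · rw [h.neg_one_pow] at h7
          omega
      obtain ⟨S', hS'⟩ := h8
      apply hnd
      refine ⟨S', ?_⟩
      rw [hS'] at hS
      have : 2 * d = 2 * (i * S') := by rw [hS]; ring
      omega
    · apply hnd
      have hodd : Odd i := Nat.not_even_iff_odd.1 hev
      have hcop : Nat.Coprime i 2 := Nat.Coprime.symm (Nat.coprime_two_left.2 hodd)
      exact hcop.dvd_of_dvd_mul_left ⟨S, hS⟩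
  · have hidx := two_mul_relIndex_minus h hd h2 hs
    have h1 : r ∣ q ^ d * (q ^ d - 1) := by
      rw [← hq] at hidx
      rw [← hidx]
      exact Dvd.dvd.mul_left hΩ 2
    have h3 : r ∣ q ^ d - 1 := (hr.out.dvd_mul.1 h1).resolve_left hrq
    have h4 : a ^ d = 1 := by
      have := (ZMod.natCast_eq_zero_iff (q ^ d - 1) r).2 h3
      rw [Nat.cast_sub hqd] at this
      push_cast at this
      exact sub_eq_zero.1 this
    obtain ⟨k, hk⟩ : i ∣ d := orderOf_dvd_of_pow_eq_one h4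
    by_cases hev : Even i
    · have h7 := even_case 2 h2 h hd (-1) (Or.inr rfl) hs r hr2 hrp hall i hi hev (2 * k)
        (by rw [hk]; ring)
      rw [pow_mul] at h7
      norm_num at h7
    · exact odd_case 2 h2 h hd hs r hr2 hrp hall i hi hev k hk.symm

end Cfsg.Agent.Lib.Helper8.Sq
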