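import Mathlib
import Cfsg.Prelude
import Cfsg.Agent.Lib.Helper8.Sq2
import Cfsg.Agent.Lib.Helper5.AltForm

set_option autoImplicit false
set_option linter.unusedSectionVars false
set_option linter.unusedVariables false
open Cfsg

/-! Involutions of the symplectic group in characteristic two and the quadratic forms they
preserve. -/

namespace Cfsg.Agent.Lib.Helper8.Sq

open Matrix Module QuadraticMap
open Cfsg.Agent.Lib.Helper5.QuadTwo Cfsg.Agent.Lib.Helper5.QuadSign
open Cfsg.Agent.Lib.Helper5.OrthBridge Cfsg.Agent.Lib.Helper5.SympBridge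
open Cfsg.Agent.Lib.Helper5.SympTv

universe u
variable {F : Type u} [Field F] [Fintype F] {d : ℕ}

section chartwo
variable (h2 : (2 : F) = 0)
include h2

theorem add_self_eq_zero' (a : F) : a + a = 0 := by rw [← two_mul, h2, zero_mul]

theorem neg_eq' (a : F) : -a = a := neg_eq_of_add_eq_zero_left (add_self_eq_zero' h2 a)

theorem symp_symm (u v : Fin d ⊕ Fin d → F) : sympForm d F u v = sympForm d F v u := by
  rw [sympForm_swap, neg_eq' h2]

theorem sq_inj (a b : F) (h : a ^ 2 = b ^ 2) : a = b := by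
  have : (a - b) ^ 2 = 0 := by
    have e : (a - b) ^ 2 = a ^ 2 + b ^ 2 - 2 * (a * b) := by ring
    rw [e, h, h2, zero_mul, sub_zero, add_self_eq_zero' h2]
  exact sub_eq_zero.1 ((pow_eq_zero_iff (n := 2) (by norm_num)).1 this)

theorem add_sq_two (a b : F) : (a + b) ^ 2 = a ^ 2 + b ^ 2 := by
  have e : (a + b) ^ 2 = a ^ 2 + b ^ 2 + 2 * (a * b) := by ring
  rw [e, h2, zero_mul, add_zero]

/-- an additive map, homogeneous of degree two, is the square of a functional `v ↦ f(v, b)` -/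
theorem exists_repr_sq (D : (Fin d ⊕ Fin d → F) → F) (hadd : ∀ u v, D (u + v) = D u + D v)
    (hsm : ∀ (c : F) v, D (c • v) = c ^ 2 * D v) :
    ∃ b : Fin d ⊕ Fin d → F, ∀ v, (sympForm d F v b) ^ 2 = D v := by
  have hsq : ∀ y : F, ∃ s : F, s ^ 2 = y := Cfsg.Agent.Lib.Helper5.OInSpMax.exists_sq h2
  choose σ hσ using hsq
  let lam : (Fin d ⊕ Fin d → F) →ₗ[F] F :=
    { toFun := fun v => σ (D v)
      map_add' := fun u v => by
        apply sq_inj h2
        rw [add_sq_two h2, hσ, hσ, hσ, hadd]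
      map_smul' := fun c v => by
        apply sq_inj h2
        rw [RingHom.id_apply, smul_eq_mul, mul_pow, hσ, hσ, hsm] }
  refine ⟨((sympBilin F d).toDual (sympBilin_nondegenerate d)).symm lam, fun v => ?_⟩
  have := LinearMap.BilinForm.apply_toDual_symm_apply (B := sympBilin F d)
    (hB := sympBilin_nondegenerate d) lam v
  rw [sympBilin_apply] at this
  rw [symp_symm h2, this]
  exact hσ (D v)

end chartwo


theorem sf_zero_right (u : Fin d ⊕ Fin d → F) : sympForm d F u 0 = 0 := by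
  rw [← sympBilin_apply, map_zero]

theorem sf_zero_left (u : Fin d ⊕ Fin d → F) : sympForm d F 0 u = 0 := by
  rw [← sympBilin_apply, map_zero, LinearMap.zero_apply]

/-- the form `Q + f(·, a)²` -/
def Qa (Q : (Fin d ⊕ Fin d → F) → F) (a v : Fin d ⊕ Fin d → F) : F :=
  Q v + (sympForm d F v a) ^ 2

theorem sq_Qa (h2 : (2 : F) = 0) {Q : (Fin d ⊕ Fin d → F) → F} (h : SQ Q)
    (a : Fin d ⊕ Fin d → F) : SQ (Qa Q a) := by
  have hpol : ∀ u v, QuadraticMap.polar (Qa Q a) u v = sympForm d F u v := by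
    intro u v
    rw [← h.pol]
    unfold QuadraticMap.polar Qa
    rw [sympForm_add_left, add_sq_two h2]
    ring
  have he : QuadraticMap.polar (Qa Q a) = QuadraticMap.polar Q := by
    funext u v; rw [hpol, h.pol]
  refine ⟨⟨?_, ?_, ?_⟩, hpol⟩
  · intro c v
    unfold Qa
    rw [h.smul, sympForm_smul_left]
    ring
  · rw [he]; exact h.nd.polar_bilinear
  · rw [he]; exact h.nd.nondegenerate

/-- if `Q a` is of the form `t² + t`, the form `Q + f(·, a)²` is a symplectic transform of `Q` -/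
theorem exists_spGL_Qa (h2 : (2 : F) = 0) {Q : (Fin d ⊕ Fin d → F) → F} (h : SQ Q)
    (a : Fin d ⊕ Fin d → F) (t : F) (ht : t ^ 2 + t = Q a) :
    ∃ g ∈ spGL d F, ∀ v, Qa Q a v =
      Q ((g : Matrix (Fin d ⊕ Fin d) (Fin d ⊕ Fin d) F) *ᵥ v) := by
  by_cases h0 : Q a = 0
  · refine ⟨Cfsg.Agent.Lib.Helper5.SpCentres.tvGL d a 1,
      Cfsg.Agent.Lib.Helper5.SpCentres.tvGL_mem d a 1, fun v => ?_⟩
    rw [Cfsg.Agent.Lib.Helper5.OInSpMax.Q_tv h.nd h.pol, h0]
    unfold Qa
    ring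
  · refine ⟨Cfsg.Agent.Lib.Helper5.SpCentres.tvGL d a (t / Q a),
      Cfsg.Agent.Lib.Helper5.SpCentres.tvGL_mem d a (t / Q a), fun v => ?_⟩
    rw [Cfsg.Agent.Lib.Helper5.OInSpMax.Q_tv h.nd h.pol]
    unfold Qa
    have : t / Q a * (t / Q a * Q a + 1) = 1 := by
      field_simp
      rw [← ht]; ring
    rw [mul_right_comm, this, one_mul]

/-- a nilpotent self-adjoint map: `1 + N` is a symplectic involution -/
structure NilSA (N : (Fin d ⊕ Fin d → F) →ₗ[F] (Fin d ⊕ Fin d → F)) : Prop where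
  sq : ∀ v, N (N v) = 0
  adj : ∀ u v, sympForm d F (N u) v = sympForm d F u (N v)

namespace NilSA

variable {N : (Fin d ⊕ Fin d → F) →ₗ[F] (Fin d ⊕ Fin d → F)}

theorem iso (hN : NilSA N) (u v : Fin d ⊕ Fin d → F) : sympForm d F (N u) (N v) = 0 := by
  rw [hN.adj, hN.sq, sf_zero_right]

theorem range_eq (hN : NilSA N) :
    LinearMap.range N = (sympBilin F d).orthogonal (LinearMap.ker N) := by
  apply Submodule.eq_of_le_of_finrank_eq
  · rintro _ ⟨u, rfl⟩
    rw [LinearMap.BilinForm.mem_orthogonal_iff]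
    intro k hk
    rw [LinearMap.mem_ker] at hk
    show sympBilin F d k (N u) = 0
    rw [sympBilin_apply, ← hN.adj, hk, sf_zero_left]
  · have h1 := LinearMap.BilinForm.finrank_orthogonal (sympBilin_nondegenerate (F := F) d)
      (LinearMap.ker N)
    have h3 := LinearMap.finrank_range_add_finrank_ker N
    omega

theorem exists_preimage (hN : NilSA N) (b : Fin d ⊕ Fin d → F)
    (hb : ∀ k, N k = 0 → sympForm d F k b = 0) : ∃ a, N a = b := by
  have : b ∈ LinearMap.range N := by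
    rw [hN.range_eq, LinearMap.BilinForm.mem_orthogonal_iff]
    intro k hk
    rw [LinearMap.mem_ker] at hk
    exact hb k hk
  exact this

/-- the defect of invariance -/
def Dfun (Q : (Fin d ⊕ Fin d → F) → F) (N : (Fin d ⊕ Fin d → F) →ₗ[F] (Fin d ⊕ Fin d → F))
    (v : Fin d ⊕ Fin d → F) : F := Q (N v) + sympForm d F v (N v)

theorem Dfun_add (h2 : (2 : F) = 0) (hN : NilSA N) {Q : (Fin d ⊕ Fin d → F) → F} (h : SQ Q)
    (u v : Fin d ⊕ Fin d → F) : Dfun Q N (u + v) = Dfun Q N u + Dfun Q N v := by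
  unfold Dfun
  rw [map_add, h.add, hN.iso, sympForm_add_left, sympForm_add_right, sympForm_add_right]
  have : sympForm d F v (N u) = sympForm d F u (N v) := by
    rw [← hN.adj, symp_symm h2]
  rw [this]
  linear_combination (sympForm d F u (N v)) * h2

theorem Dfun_smul (hN : NilSA N) {Q : (Fin d ⊕ Fin d → F) → F} (h : SQ Q) (c : F)
    (v : Fin d ⊕ Fin d → F) : Dfun Q N (c • v) = c ^ 2 * Dfun Q N v := by
  unfold Dfun
  rw [map_smul, h.smul, sympForm_smul_left, sympForm_smul_right]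
  ring

/-- an invariant form exists -/
theorem exists_inv (h2 : (2 : F) = 0) (hN : NilSA N) {Q : (Fin d ⊕ Fin d → F) → F} (h : SQ Q) :
    ∃ a : Fin d ⊕ Fin d → F, ∀ v, (sympForm d F (N v) a) ^ 2 = Dfun Q N v := by
  obtain ⟨b, hb⟩ := exists_repr_sq h2 (Dfun Q N) (Dfun_add h2 hN h) (Dfun_smul hN h)
  obtain ⟨a, ha⟩ := hN.exists_preimage b (by
    intro k hk
    have := hb k
    unfold Dfun at this
    rw [hk, h.zero, sf_zero_right, add_zero] at this
    exact (pow_eq_zero_iff (n := 2) (by norm_num)).1 this)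
  refine ⟨a, fun v => ?_⟩
  rw [hN.adj, ha, hb]

/-- the invariance -/
theorem Qa_inv (h2 : (2 : F) = 0) (hN : NilSA N) {Q : (Fin d ⊕ Fin d → F) → F} (h : SQ Q)
    (a : Fin d ⊕ Fin d → F) (ha : ∀ v, (sympForm d F (N v) a) ^ 2 = Dfun Q N v)
    (v : Fin d ⊕ Fin d → F) : Qa Q a (v + N v) = Qa Q a v := by
  unfold Qa
  rw [h.add, sympForm_add_left, add_sq_two h2, ha]
  unfold Dfun
  linear_combination (Q (N v) + sympForm d F v (N v)) * h2

theorem Qa_range (h2 : (2 : F) = 0) (hN : NilSA N) {Q : (Fin d ⊕ Fin d → F) → F} (h : SQ Q)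
    (a : Fin d ⊕ Fin d → F) (ha : ∀ v, (sympForm d F (N v) a) ^ 2 = Dfun Q N v)
    (v : Fin d ⊕ Fin d → F) : Qa Q a (N v) = sympForm d F v (N v) := by
  unfold Qa
  rw [ha]
  unfold Dfun
  linear_combination (Q (N v)) * h2

theorem inv_add_ker (hN : NilSA N) {Q : (Fin d ⊕ Fin d → F) → F}
    (a k : Fin d ⊕ Fin d → F) (ha : ∀ v, (sympForm d F (N v) a) ^ 2 = Dfun Q N v)
    (hk : N k = 0) : ∀ v, (sympForm d F (N v) (a + k)) ^ 2 = Dfun Q N v := by
  intro v
  rw [sympForm_add_right, hN.adj v k, hk, sf_zero_right, add_zero, ha]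

end NilSA


theorem Q_pair {Q : (Fin d ⊕ Fin d → F) → F} (h : SQ Q) (k₁ k₂ : Fin d ⊕ Fin d → F) (α β : F) :
    Q (α • k₁ + β • k₂) = α ^ 2 * Q k₁ + β ^ 2 * Q k₂ + α * β * sympForm d F k₁ k₂ := by
  rw [h.add, h.smul, h.smul, sympForm_smul_left, sympForm_smul_right]
  ring

/-- a binary form with non-zero polar form represents every element -/
theorem exists_pair_value (h2 : (2 : F) = 0) {Q : (Fin d ⊕ Fin d → F) → F} (h : SQ Q)
    (k₁ k₂ : Fin d ⊕ Fin d → F) (hγ : sympForm d F k₁ k₂ ≠ 0) (C : F) :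
    ∃ α β : F, Q (α • k₁ + β • k₂) = C := by
  by_cases h1 : Q k₁ = 0
  · by_cases h3 : Q k₂ = 0
    · refine ⟨1, C / sympForm d F k₁ k₂, ?_⟩
      rw [Q_pair h, h1, h3]
      field_simp
      ring
    · obtain ⟨s, hs⟩ := Cfsg.Agent.Lib.Helper5.OInSpMax.exists_sq h2 (C / Q k₂)
      refine ⟨0, s, ?_⟩
      rw [Q_pair h, hs]
      field_simp
      ring
  · obtain ⟨s, hs⟩ := Cfsg.Agent.Lib.Helper5.OInSpMax.exists_sq h2 (C / Q k₁)
    refine ⟨s, 0, ?_⟩
    rw [Q_pair h, hs]
    field_simp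
    ring

namespace NilSA

variable {N : (Fin d ⊕ Fin d → F) →ₗ[F] (Fin d ⊕ Fin d → F)}

/-- **The invariant form of the right sign.** -/
theorem exists_good (h2 : (2 : F) = 0) (hN : NilSA N) {Q : (Fin d ⊕ Fin d → F) → F} (h : SQ Q)
    (hplus : HasSign Q d 1 ∨ Odd d) :
    ∃ Q' : (Fin d ⊕ Fin d → F) → F, (∀ v, Q' (v + N v) = Q' v) ∧
      ∃ g ∈ spGL d F, ∀ v, Q' v = Q ((g : Matrix (Fin d ⊕ Fin d) (Fin d ⊕ Fin d) F) *ᵥ v) := by
  obtain ⟨a₀, ha₀⟩ := hN.exists_inv h2 h
  by_cases hc1 : ∃ v, sympForm d F v (N v) ≠ 0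
  · obtain ⟨v, hv⟩ := hc1
    obtain ⟨c, hc⟩ := Cfsg.Agent.Lib.Helper5.OInSpMax.exists_sq h2 (Q a₀ / sympForm d F v (N v))
    have hk : N (c • N v) = 0 := by rw [map_smul, hN.sq, smul_zero]
    have ha := hN.inv_add_ker a₀ (c • N v) ha₀ hk
    refine ⟨Qa Q (a₀ + c • N v), hN.Qa_inv h2 h _ ha, ?_⟩
    refine exists_spGL_Qa h2 h _ (c * sympForm d F (N v) a₀) ?_
    have h1 := ha₀ v
    unfold Dfun at h1
    rw [h.add, h.smul, sympForm_smul_right, symp_symm h2 a₀ (N v), mul_pow, hc]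
    have h3 : Q (N v) = sympForm d F (N v) a₀ ^ 2 - sympForm d F v (N v) := by
      rw [h1]; ring
    rw [h3]
    field_simp
    ring
  · push Not at hc1
    by_cases hc2 : ∃ k₁, N k₁ = 0 ∧ k₁ ∉ LinearMap.range N
    · obtain ⟨k₁, hk₁, hk₁r⟩ := hc2
      obtain ⟨k₂, hk₂, hγ'⟩ : ∃ k₂, N k₂ = 0 ∧ sympForm d F k₂ k₁ ≠ 0 := by
        by_contra hcon
        push Not at hcon
        exact hk₁r (hN.exists_preimage k₁ hcon)
      have hγ : sympForm d F k₁ k₂ ≠ 0 := by rwa [symp_symm h2]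
      set γ := sympForm d F k₁ k₂ with hγdef
      set s₁ := sympForm d F a₀ k₁ with hs₁
      set s₂ := sympForm d F a₀ k₂ with hs₂
      set a₁ := a₀ + ((s₂ / γ) • k₁ + (s₁ / γ) • k₂) with ha₁def
      have hka : N ((s₂ / γ) • k₁ + (s₁ / γ) • k₂) = 0 := by
        rw [map_add, map_smul, map_smul, hk₁, hk₂, smul_zero, smul_zero, add_zero]
      have ha₁ := hN.inv_add_ker a₀ _ ha₀ hka
      have e1 : sympForm d F a₁ k₁ = 0 := by
        rw [ha₁def, sympForm_add_left, sympForm_add_left, sympForm_smul_left, sympForm_smul_left,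
          sympForm_self, symp_symm h2 k₂ k₁, ← hγdef, ← hs₁, div_mul_cancel₀ _ hγ]
        linear_combination s₁ * h2
      have e2 : sympForm d F a₁ k₂ = 0 := by
        rw [ha₁def, sympForm_add_left, sympForm_add_left, sympForm_smul_left, sympForm_smul_left,
          sympForm_self, ← hγdef, ← hs₂, div_mul_cancel₀ _ hγ]
        linear_combination s₂ * h2
      obtain ⟨α, β, hαβ⟩ := exists_pair_value h2 h k₁ k₂ hγ (Q a₁)
      have hκ : N (α • k₁ + β • k₂) = 0 := by
        rw [map_add, map_smul, map_smul, hk₁, hk₂, smul_zero, smul_zero, add_zero]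
      have ha := hN.inv_add_ker a₁ _ ha₁ hκ
      refine ⟨Qa Q (a₁ + (α • k₁ + β • k₂)), hN.Qa_inv h2 h _ ha, ?_⟩
      refine exists_spGL_Qa h2 h _ 0 ?_
      rw [h.add, hαβ, sympForm_add_right, sympForm_smul_right, sympForm_smul_right, e1, e2]
      linear_combination (-Q a₁) * h2
    · push Not at hc2
      have hker : LinearMap.ker N = LinearMap.range N := by
        apply le_antisymm
        · intro k hk
          exact hc2 k (LinearMap.mem_ker.1 hk)
        · rintro _ ⟨u, rfl⟩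
          rw [LinearMap.mem_ker]
          exact hN.sq u
      have hfin : finrank F (LinearMap.ker N) = d := by
        have h3 := LinearMap.finrank_range_add_finrank_ker N
        rw [← hker, finrank_plus] at h3
        omega
      rcases hplus with hs | hodd
      · have hQ' := sq_Qa h2 h a₀
        have hs' : HasSign (Qa Q a₀) d 1 := by
          have := hasSign_of_ts d (Fin d ⊕ Fin d → F) hQ'.qf hQ'.nd_qf (finrank_plus d)
            (LinearMap.ker N) (fun x hx => by
              rw [hker] at hx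
              obtain ⟨u, rfl⟩ := hx
              rw [hQ'.qf_apply, hN.Qa_range h2 h a₀ ha₀, hc1]) hfin.ge
          rwa [hQ'.qf_coe] at this
        obtain ⟨g, hg, hgQ⟩ := exists_spGL_conj hQ' h 1 hs' hs
        exact ⟨Qa Q a₀, hN.Qa_inv h2 h _ ha₀, g, hg, fun v => (hgQ v).symm⟩
      · exfalso
        have hA : ((sympBilin F d).compRight N).IsAlt := by
          intro v
          rw [LinearMap.BilinForm.compRight_apply, sympBilin_apply]
          exact hc1 v
        obtain ⟨m, e, f, -, -, -, hm⟩ :=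
          Cfsg.Agent.Lib.Helper5.AltForm.exists_hyp_family (2 * d)
            ((sympBilin F d).compRight N) hA (finrank_plus d)
        have hk : LinearMap.ker ((sympBilin F d).compRight N) = LinearMap.ker N := by
          ext u
          rw [LinearMap.mem_ker, LinearMap.mem_ker]
          constructor
          · intro hu
            apply eq_zero_of_sympForm_right d
            intro v
            have := LinearMap.congr_fun hu v
            rw [LinearMap.BilinForm.compRight_apply, sympBilin_apply, LinearMap.zero_apply] at this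
            rw [hN.adj]
            exact this
          · intro hu
            refine LinearMap.ext fun v => ?_
            rw [LinearMap.BilinForm.compRight_apply, sympBilin_apply, LinearMap.zero_apply,
              ← hN.adj, hu, sf_zero_left]
        rw [hk, hfin] at hm
        obtain ⟨j, hj⟩ := hodd
        omega

end NilSA

/-- **Involutions.** -/
theorem invol_conj (h2 : (2 : F) = 0) {Q : (Fin d ⊕ Fin d → F) → F} (h : SQ Q)
    (hplus : HasSign Q d 1 ∨ Odd d) (x : GL (Fin d ⊕ Fin d) F) (hx : x ∈ spGL d F)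
    (hx2 : x * x = 1) :
    ∃ g ∈ spGL d F, g⁻¹ * x * g ∈ Cfsg.Geo.quadSimilarityGroup Q := by
  set N : (Fin d ⊕ Fin d → F) →ₗ[F] (Fin d ⊕ Fin d → F) :=
    Matrix.toLin' (x : Matrix (Fin d ⊕ Fin d) (Fin d ⊕ Fin d) F) + LinearMap.id with hNdef
  have hNv : ∀ v, N v = (x : Matrix (Fin d ⊕ Fin d) (Fin d ⊕ Fin d) F) *ᵥ v + v := by
    intro v
    rw [hNdef, LinearMap.add_apply, Matrix.toLin'_apply, LinearMap.id_apply]
  have hxx : ∀ v, (x : Matrix (Fin d ⊕ Fin d) (Fin d ⊕ Fin d) F) *ᵥ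
      ((x : Matrix (Fin d ⊕ Fin d) (Fin d ⊕ Fin d) F) *ᵥ v) = v := by
    intro v
    rw [Matrix.mulVec_mulVec, ← Units.val_mul, hx2, Units.val_one, Matrix.one_mulVec]
  have hsp : ∀ u v, sympForm d F ((x : Matrix (Fin d ⊕ Fin d) (Fin d ⊕ Fin d) F) *ᵥ u)
      ((x : Matrix (Fin d ⊕ Fin d) (Fin d ⊕ Fin d) F) *ᵥ v) = sympForm d F u v := hx
  have hN : NilSA N := by
    constructor
    · intro v
      rw [hNv, hNv, Matrix.mulVec_add, hxx]
      funext i
      simp only [Pi.add_apply, Pi.zero_apply]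
      linear_combination
        (v i + ((x : Matrix (Fin d ⊕ Fin d) (Fin d ⊕ Fin d) F) *ᵥ v) i) * h2
    · intro u v
      rw [hNv, hNv, sympForm_add_left, sympForm_add_right]
      congr 1
      have := hsp ((x : Matrix (Fin d ⊕ Fin d) (Fin d ⊕ Fin d) F) *ᵥ u) v
      rw [hxx] at this
      exact this.symm
  obtain ⟨Q', hinv, g, hg, hgQ⟩ := hN.exists_good h2 h hplus
  have hinv' : ∀ v, Q' ((x : Matrix (Fin d ⊕ Fin d) (Fin d ⊕ Fin d) F) *ᵥ v) = Q' v := by
    intro v
    have := hinv v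
    rw [hNv] at this
    have e : v + ((x : Matrix (Fin d ⊕ Fin d) (Fin d ⊕ Fin d) F) *ᵥ v + v) =
        (x : Matrix (Fin d ⊕ Fin d) (Fin d ⊕ Fin d) F) *ᵥ v := by
      funext i
      simp only [Pi.add_apply]
      linear_combination (v i) * h2
    rwa [e] at this
  refine ⟨g⁻¹, (spGL d F).inv_mem hg, ⟨1, fun v => ?_⟩⟩
  rw [Units.val_one, one_mul, inv_inv]
  have e : ((g * x * g⁻¹ : GL (Fin d ⊕ Fin d) F) : Matrix (Fin d ⊕ Fin d) (Fin d ⊕ Fin d) F) *ᵥ v
      = (g : Matrix (Fin d ⊕ Fin d) (Fin d ⊕ Fin d) F) *ᵥ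
        ((x : Matrix (Fin d ⊕ Fin d) (Fin d ⊕ Fin d) F) *ᵥ
          (((g⁻¹ : GL (Fin d ⊕ Fin d) F) : Matrix (Fin d ⊕ Fin d) (Fin d ⊕ Fin d) F) *ᵥ v)) := by
    rw [Matrix.mulVec_mulVec, Matrix.mulVec_mulVec, ← Units.val_mul, ← Units.val_mul, mul_assoc]
  rw [e, ← hgQ, hinv', hgQ, Matrix.mulVec_mulVec, ← Units.val_mul, mul_inv_cancel, Units.val_one,
    Matrix.one_mulVec]

end Cfsg.Agent.Lib.Helper8.Sq
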