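import Mathlib
import Cfsg.Prelude
import Cfsg.Agent.Lib.Helper8.Sq3
import Cfsg.Agent.Lib.Helper8.Sq4

set_option autoImplicit false
set_option linter.unusedSectionVars false
set_option linter.unusedVariables false
open Cfsg

/-! An involution of the symplectic group of even rank in characteristic two all of whose
invariant quadratic forms are of plus type. -/

namespace Cfsg.Agent.Lib.Helper8.Sq

open Matrix Module QuadraticMap
open Cfsg.Agent.Lib.Helper5.QuadTwo Cfsg.Agent.Lib.Helper5.QuadSign
open Cfsg.Agent.Lib.Helper5.OrthBridge Cfsg.Agent.Lib.Helper5.SympBridge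
open Cfsg.Agent.Lib.Helper5.SympTv Cfsg.Agent.Lib.Helper2.Fex

universe u
variable {F : Type u} [Field F] [Fintype F] {k : ℕ}

/-- a fixed-point-free involution of the index set -/
def swapFin (k : ℕ) : Fin (k + k) ≃ Fin (k + k) :=
  finSumFinEquiv.symm.trans ((Equiv.sumComm (Fin k) (Fin k)).trans finSumFinEquiv)

theorem swapFin_swapFin (i : Fin (k + k)) : swapFin k (swapFin k i) = i := by
  unfold swapFin
  simp

theorem swapFin_ne (i : Fin (k + k)) : swapFin k i ≠ i := by
  unfold swapFin
  intro h
  rw [Equiv.trans_apply, Equiv.trans_apply] at h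
  have h1 := congrArg finSumFinEquiv.symm h
  rw [Equiv.symm_apply_apply] at h1
  rcases hh : finSumFinEquiv.symm i with j | j
  · rw [hh] at h1
    simp at h1
  · rw [hh] at h1
    simp at h1

/-- the nilpotent map -/
def aN (F : Type u) [Field F] (k : ℕ) :
    (Fin (k + k) ⊕ Fin (k + k) → F) →ₗ[F] (Fin (k + k) ⊕ Fin (k + k) → F) where
  toFun v := Sum.elim (fun i => v (Sum.inr (swapFin k i))) 0
  map_add' u v := by
    funext i
    rcases i with i | i <;> simp
  map_smul' c v := by
    funext i
    rcases i with i | i <;> simp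

theorem aN_inl (v : Fin (k + k) ⊕ Fin (k + k) → F) (i : Fin (k + k)) :
    aN F k v (Sum.inl i) = v (Sum.inr (swapFin k i)) := rfl

theorem aN_inr (v : Fin (k + k) ⊕ Fin (k + k) → F) (i : Fin (k + k)) :
    aN F k v (Sum.inr i) = 0 := rfl

theorem aN_alt (h2 : (2 : F) = 0) (v : Fin (k + k) ⊕ Fin (k + k) → F) :
    sympForm (k + k) F v (aN F k v) = 0 := by
  rw [Cfsg.Agent.Lib.Helper8.Asch.sympForm_eq]
  simp only [aN_inl, aN_inr, mul_zero, sub_zero]
  apply Finset.sum_involution (fun i _ => swapFin k i)
  · intro i _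
    rw [swapFin_swapFin]
    linear_combination (v (Sum.inr i) * v (Sum.inr (swapFin k i))) * h2
  · intro i _ _
    exact swapFin_ne i
  · intro i _
    exact Finset.mem_univ _
  · intro i _
    exact swapFin_swapFin i

theorem aN_nilSA (h2 : (2 : F) = 0) : NilSA (aN F k) := by
  constructor
  · intro v
    funext i
    rcases i with i | i
    · rw [aN_inl, aN_inr]; rfl
    · rw [aN_inr]; rfl
  · intro u v
    rw [Cfsg.Agent.Lib.Helper8.Asch.sympForm_eq, Cfsg.Agent.Lib.Helper8.Asch.sympForm_eq]
    simp only [aN_inl, aN_inr, mul_zero, sub_zero, zero_mul, zero_sub]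
    rw [← Equiv.sum_comp (swapFin k) (fun i => u (Sum.inr i) * v (Sum.inr (swapFin k i)))]
    simp only [swapFin_swapFin]
    rw [Finset.sum_neg_distrib, neg_eq' h2]


/-- the involution `1 + N` as a linear equivalence -/
noncomputable def aEquiv (h2 : (2 : F) = 0) :
    (Fin (k + k) ⊕ Fin (k + k) → F) ≃ₗ[F] (Fin (k + k) ⊕ Fin (k + k) → F) :=
  LinearEquiv.ofLinear (LinearMap.id + aN F k) (LinearMap.id + aN F k)
    (by
      refine LinearMap.ext fun v => ?_
      simp only [LinearMap.comp_apply, LinearMap.add_apply, LinearMap.id_apply, map_add,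
        (aN_nilSA (k := k) h2).sq, add_zero]
      funext i
      simp only [Pi.add_apply]
      linear_combination (aN F k v i) * h2)
    (by
      refine LinearMap.ext fun v => ?_
      simp only [LinearMap.comp_apply, LinearMap.add_apply, LinearMap.id_apply, map_add,
        (aN_nilSA (k := k) h2).sq, add_zero]
      funext i
      simp only [Pi.add_apply]
      linear_combination (aN F k v i) * h2)

theorem aEquiv_apply (h2 : (2 : F) = 0) (v : Fin (k + k) ⊕ Fin (k + k) → F) :
    aEquiv h2 v = v + aN F k v := rfl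

/-- **The exceptional involution**: for a form of sign `-1` in even rank, not every involution
has a conjugate in the orthogonal group. -/
theorem not_allConj_two (h2 : (2 : F) = 0) (hk : 1 ≤ k)
    {Q : (Fin (k + k) ⊕ Fin (k + k) → F) → F} (h : SQ Q) (hs : HasSign Q (k + k) (-1))
    (hall : AllConj Q 2) : False := by
  have hN := aN_nilSA (F := F) (k := k) h2
  set x : GL (Fin (k + k) ⊕ Fin (k + k)) F := toGLm (aEquiv h2) with hxdef
  have hxv : ∀ v, (x : Matrix (Fin (k + k) ⊕ Fin (k + k)) (Fin (k + k) ⊕ Fin (k + k)) F) *ᵥ v =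
      v + aN F k v := by
    intro v
    rw [hxdef, toGLm_mulVec, aEquiv_apply]
  have hxsp : x ∈ spGL (k + k) F := by
    intro u v
    show sympForm (k + k) F
      ((x : Matrix (Fin (k + k) ⊕ Fin (k + k)) (Fin (k + k) ⊕ Fin (k + k)) F) *ᵥ u)
      ((x : Matrix (Fin (k + k) ⊕ Fin (k + k)) (Fin (k + k) ⊕ Fin (k + k)) F) *ᵥ v) = _
    rw [hxv, hxv, sympForm_add_left, sympForm_add_right, sympForm_add_right, hN.iso, hN.adj]
    linear_combination (sympForm (k + k) F u (aN F k v)) * h2
  have hx2 : x ^ 2 = 1 := by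
    rw [hxdef, ← map_pow]
    have : (aEquiv (F := F) (k := k) h2) ^ 2 = 1 := by
      ext v : 1
      rw [pow_two, LinearEquiv.mul_apply, aEquiv_apply, aEquiv_apply, map_add, hN.sq,
        LinearEquiv.coe_one, id_eq, add_zero]
      funext i
      simp only [Pi.add_apply]
      linear_combination (aN F k v i) * h2
    rw [this, map_one]
  have hns : ∀ z : F,
      (x : Matrix (Fin (k + k) ⊕ Fin (k + k)) (Fin (k + k) ⊕ Fin (k + k)) F) ≠
        z • (1 : Matrix (Fin (k + k) ⊕ Fin (k + k)) (Fin (k + k) ⊕ Fin (k + k)) F) := by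
    intro z hz
    have hz1 := scalar_eq_one h2 (by omega) x hxsp z hz
    rw [hz1, one_smul] at hz
    have j : Fin (k + k) := ⟨0, by omega⟩
    have := hxv (Pi.single (Sum.inr (swapFin k j)) 1)
    rw [hz, Matrix.one_mulVec] at this
    have h1 := congrFun this (Sum.inl j)
    rw [Pi.add_apply, aN_inl, Pi.single_eq_same] at h1
    have h3 : (Pi.single (Sum.inr (swapFin k j)) (1 : F) :
        Fin (k + k) ⊕ Fin (k + k) → F) (Sum.inl j) = 0 := by
      rw [Pi.single_apply, if_neg (by simp)]
    rw [h3, zero_add] at h1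
    exact zero_ne_one h1
  obtain ⟨g, hg, hgc⟩ := hall x hxsp ⟨1, by rw [hx2, one_smul]; rfl⟩ hns
  obtain ⟨Q', hQ', hsign, hinv⟩ := exists_form_of_conj h (by omega) x g hg hgc hxsp
  have hvan : ∀ v, Q' (aN F k v) = 0 := by
    intro v
    have := hinv v
    rw [hxv, hQ'.add, aN_alt h2, add_zero] at this
    have e : Q' v + Q' (aN F k v) - Q' v = Q' v - Q' v := by rw [this]
    rw [add_sub_cancel_left, sub_self] at e
    exact e
  have hs' : HasSign Q' (k + k) 1 := by
    have := hasSign_of_ts (k + k) (Fin (k + k) ⊕ Fin (k + k) → F) hQ'.qf hQ'.nd_qf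
      (finrank_plus (k + k)) (plusL (k + k)) (fun w hw => by
        rw [mem_plusL] at hw
        rw [hQ'.qf_apply]
        have : w = aN F k (Sum.elim 0 (fun j => w (Sum.inl (swapFin k j)))) := by
          funext i
          rcases i with i | i
          · rw [aN_inl, Sum.elim_inr, swapFin_swapFin]
          · rw [aN_inr, hw i]
        rw [this]
        exact hvan _) (finrank_plusL (k + k)).ge
    rwa [hQ'.qf_coe] at this
  have h1 := (hsign 1).1 hs'
  have := HasSign.unique h1 hs
  omega

end Cfsg.Agent.Lib.Helper8.Sq
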