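import Mathlib
import Cfsg.Agent.Lib.Helper5.MatPowChk

set_option autoImplicit false

/-!
The kernel of an integer matrix `A` acting on `G^l` (`G` a commutative group), when the cokernel of
`A` is cyclic of order `d`, generated by the class of a basis vector: the kernel is the group of
elements of `G` of exponent `d`.
-/

namespace Cfsg.Agent.Lib.Helper8.StSl

open Cfsg.Agent.Lib.Helper5.MatPow

variable {G : Type*} [CommGroup G] {l : ℕ}

theorem prod_zpow_ite (c : Fin l → G) (j : Fin l) (e : ℤ) :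
    ∏ k, c k ^ (if k = j then e else 0) = c j ^ e := by
  rw [Finset.prod_eq_single j]
  · rw [if_pos rfl]
  · intro b _ hb
    rw [if_neg hb, zpow_zero]
  · intro h
    exact absurd (Finset.mem_univ j) h

/-- elements of the kernel of `A` on `G^l` are determined by one coordinate -/
theorem kerCartan_key (fA fU : ℕ → ℕ → ℤ) (i0 : ℕ) (hi0 : i0 < l) (d : ℕ) (m : ℕ → ℕ)
    (hm0 : m i0 = 1)
    (hB : ∀ k < l, ∀ i < l, fmul fA fU l k i
      = if i = i0 then (if k = i0 then (d : ℤ) else 0)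
        else ((if k = i then 1 else 0) - (if k = i0 then (m i : ℤ) else 0)))
    (cu : Fin l → G) (hcu : cu ∈ (mpow (fmat fA l) : (Fin l → G) →* (Fin l → G)).ker) :
    cu ⟨i0, hi0⟩ ^ d = 1 ∧ ∀ i : Fin l, cu i = cu ⟨i0, hi0⟩ ^ m i.val := by
  have h1 : mpow (fmat fA l * fmat fU l) cu = 1 := by
    rw [← mpow_mpow, MonoidHom.mem_ker.1 hcu, map_one]
  rw [fmat_mul] at h1
  have h2 : ∀ i : Fin l, ∏ k : Fin l, cu k ^ (fmul fA fU l k.val i.val) = 1 := by
    intro i
    have := congrFun h1 i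
    rw [mpow_apply] at this
    exact this
  have h3 : cu ⟨i0, hi0⟩ ^ d = 1 := by
    have := h2 ⟨i0, hi0⟩
    have e1 : ∀ k : Fin l, fmul fA fU l k.val i0
        = if k = ⟨i0, hi0⟩ then (d : ℤ) else 0 := by
      intro k
      rw [hB k.val k.isLt i0 hi0, if_pos rfl]
      by_cases hk : k = ⟨i0, hi0⟩
      · rw [if_pos hk, if_pos (congrArg Fin.val hk)]
      · rw [if_neg hk, if_neg (fun h => hk (Fin.ext h))]
    simp only [e1] at this
    rw [prod_zpow_ite, zpow_natCast] at this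
    exact this
  refine ⟨h3, ?_⟩
  intro i
  by_cases hi : i.val = i0
  · have : i = ⟨i0, hi0⟩ := Fin.ext hi
    rw [this, hm0, pow_one]
  · have := h2 i
    have e1 : ∀ k : Fin l, fmul fA fU l k.val i.val
        = (if k = i then (1 : ℤ) else 0) - (if k = ⟨i0, hi0⟩ then (m i.val : ℤ) else 0) := by
      intro k
      rw [hB k.val k.isLt i.val i.isLt, if_neg hi]
      congr 1
      · by_cases hk : k = i
        · rw [if_pos hk, if_pos (congrArg Fin.val hk)]
        · rw [if_neg hk, if_neg (fun h => hk (Fin.ext h))]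
      · by_cases hk : k = ⟨i0, hi0⟩
        · rw [if_pos hk, if_pos (congrArg Fin.val hk)]
        · rw [if_neg hk, if_neg (fun h => hk (Fin.ext h))]
    simp only [e1, zpow_sub] at this
    rw [Finset.prod_mul_distrib, Finset.prod_inv_distrib, prod_zpow_ite, prod_zpow_ite, zpow_one,
      zpow_natCast, mul_inv_eq_one] at this
    exact this

/-- the kernel of `A` on `G^l` is the `d`-torsion of `G` -/
theorem kerCartan_equiv (fA fU : ℕ → ℕ → ℤ) (i0 : ℕ) (hi0 : i0 < l) (d : ℕ) (m : ℕ → ℕ)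
    (hm0 : m i0 = 1)
    (hB : ∀ k < l, ∀ i < l, fmul fA fU l k i
      = if i = i0 then (if k = i0 then (d : ℤ) else 0)
        else ((if k = i then 1 else 0) - (if k = i0 then (m i : ℤ) else 0)))
    (v : ℕ → ℤ)
    (hv : ∀ j < l, ((List.range l).map fun k => (m k : ℤ) * fA k j).sum = d * v j) :
    ∃ e : (mpow (fmat fA l) : (Fin l → G) →* (Fin l → G)).ker ≃* (powMonoidHom d : G →* G).ker,
      ∀ cu, ((e cu : (powMonoidHom d : G →* G).ker) : G) = cu.1 ⟨i0, hi0⟩ := by
  -- consequences of lying in the kernel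
  have key : ∀ cu : Fin l → G, cu ∈ (mpow (fmat fA l) : (Fin l → G) →* (Fin l → G)).ker →
      cu ⟨i0, hi0⟩ ^ d = 1 ∧ ∀ i : Fin l, cu i = cu ⟨i0, hi0⟩ ^ m i.val :=
    fun cu hcu => kerCartan_key fA fU i0 hi0 d m hm0 hB cu hcu
  -- the parametrisation lies in the kernel
  have hpar : ∀ ω : G, ω ^ d = 1 →
      (fun i : Fin l => ω ^ m i.val) ∈ (mpow (fmat fA l) : (Fin l → G) →* (Fin l → G)).ker := by
    intro ω hω
    rw [MonoidHom.mem_ker]
    funext j
    rw [mpow_apply, Pi.one_apply]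
    have e1 : ∀ k : Fin l, (ω ^ m k.val) ^ (fmat fA l k j) = ω ^ ((m k.val : ℤ) * fA k.val j.val) := by
      intro k
      rw [← zpow_natCast, ← zpow_mul]
      rfl
    simp only [e1]
    rw [← zpow_sum_eq, ← list_range_map_sum_fin l (fun k => (m k : ℤ) * fA k j.val),
      hv j.val j.isLt, zpow_mul, zpow_natCast, hω, one_zpow]
  let e1 : (mpow (fmat fA l) : (Fin l → G) →* (Fin l → G)).ker →* (powMonoidHom d : G →* G).ker :=
    { toFun := fun cu => ⟨cu.1 ⟨i0, hi0⟩, by
        rw [MonoidHom.mem_ker, powMonoidHom_apply]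
        exact (key cu.1 cu.2).1⟩
      map_one' := rfl
      map_mul' := fun a b => rfl }
  refine ⟨MulEquiv.ofBijective e1 ⟨?_, ?_⟩, fun cu => rfl⟩
  · rw [injective_iff_map_eq_one]
    intro a ha
    apply Subtype.ext
    have h0 : a.1 ⟨i0, hi0⟩ = 1 := congrArg Subtype.val ha
    funext i
    rw [(key a.1 a.2).2 i, h0, one_pow]
    rfl
  · rintro ⟨ω, hω⟩
    rw [MonoidHom.mem_ker, powMonoidHom_apply] at hω
    refine ⟨⟨fun i => ω ^ m i.val, hpar ω hω⟩, ?_⟩
    apply Subtype.ext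
    show ω ^ m i0 = ω
    rw [hm0, pow_one]

end Cfsg.Agent.Lib.Helper8.StSl
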