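import Mathlib
import Cfsg.Agent.Lib.Helper5.StPres.HTorus
import Cfsg.Agent.Lib.Helper5.StPres.CoverR3
import Cfsg.Agent.Lib.Helper5.StPres.CoverMain

set_option autoImplicit false

/-!
The kernel of the canonical homomorphism from the group presented by (R1), (R2) onto the Chevalley
group, over a finite field: it is the image of the kernel of the Cartan matrix acting on `(Fˣ)^l`.
-/

namespace Cfsg.Agent.Lib.Helper8.StSl

open Cfsg Cfsg.Lie Cfsg.Agent.Lib.Helper5.ChevSym Cfsg.Agent.Lib.Helper5.ChevStruct
  Cfsg.Agent.Lib.Helper5.StPres Cfsg.Agent.Lib.Helper5.MatPow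

section cov

variable (D : ChevalleyDatum) (hD : D ∈ Seven) (F : Type*) [Field F]

/-- the canonical homomorphism from the presented group onto the Chevalley group -/
noncomputable def covHom : D.SteinbergCover F →* ↥(D.group F) := (gGens D hD F).fromCover hD

theorem covHom_scGen (r : ℕ) (hr : r < D.nroots) (t : F) :
    covHom D hD F (D.scGen F r t) = xG D hD r t :=
  (gGens D hD F).fromCover_scGen hD r hr t

theorem covHom_surjective : Function.Surjective (covHom D hD F) :=
  surjective_of_gens (coverGens D F) hD _ (fun r t hr => covHom_scGen D hD F r hr t)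

/-- two homomorphisms from the presented group that agree on the generators are equal -/
theorem cover_hom_ext2 {Γ : Type*} [Group Γ] (φ ψ : D.SteinbergCover F →* Γ)
    (h : ∀ (r : ℕ) (t : F), r < D.nroots → φ (D.scGen F r t) = ψ (D.scGen F r t)) : φ = ψ := by
  apply PresentedGroup.ext
  rintro ⟨r, t⟩
  have := h r.1 t r.2
  unfold ChevalleyDatum.scGen ChevalleyDatum.stX at this
  rw [dif_pos r.2] at this
  exact this

theorem covHom_ker_le_center :
    (covHom D hD F).ker ≤ Subgroup.center (D.SteinbergCover F) := by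
  obtain ⟨θ, -, hker, hθ⟩ := cover_main D hD F
  have : θ = covHom D hD F := by
    apply cover_hom_ext2
    intro r t hr
    rw [covHom_scGen D hD F r hr t]
    apply Subtype.ext
    apply Units.ext
    rw [hθ r t hr, xG_val]
  rw [← this]
  exact hker

theorem coverBiModel_π :
    (coverBiModel D hD F).π = (D.group F).subtype.comp (covHom D hD F) := rfl

theorem mem_ker_covHom_iff (z : D.SteinbergCover F) :
    z ∈ (covHom D hD F).ker ↔ (coverBiModel D hD F).π z = 1 := by
  rw [MonoidHom.mem_ker, coverBiModel_π]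
  constructor
  · intro h
    show ((covHom D hD F z : ↥(D.group F)) : GL D.Idx F) = 1
    rw [h]
    rfl
  · intro h
    apply Subtype.ext
    exact h

include hD in
theorem simple_lt (i : ℕ) (hi : i < D.rank) : D.simple i < D.nroots :=
  (checkUp_spec D i (chkUp_all D hD i hi)).1.1

variable [Finite F]

/-- (R3) for the simple roots in the presented group, over a finite field -/
theorem cover_R3 (i : ℕ) (t₁ t₂ : F) (hi : i < D.rank) (h1 : t₁ ≠ 0) (h2 : t₂ ≠ 0) :
    (coverBiModel D hD F).R.hbar (D.simple i) t₁ * (coverBiModel D hD F).R.hbar (D.simple i) t₂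
      = (coverBiModel D hD F).R.hbar (D.simple i) (t₁ * t₂) :=
  cover_hbar_mul D hD F (D.simple i) t₁ t₂ (simple_lt D hD i hi) h1 h2

/-- the element of the presented group attached to a tuple of units -/
noncomputable def hU (cu : Fin D.rank → Fˣ) : D.SteinbergCover F :=
  (coverBiModel D hD F).R.hprod (extU D cu) D.rank

theorem hU_mul (cu cu' : Fin D.rank → Fˣ) :
    hU D hD F cu * hU D hD F cu' = hU D hD F (cu * cu') := by
  unfold hU
  rw [(coverBiModel D hD F).hprod_mul hD (cover_R3 D hD F) _ _ (extU_ne_zero D cu)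
    (extU_ne_zero D cu') D.rank (le_refl _), extU_mul]

omit [Finite F] in
theorem π_hU (cu : Fin D.rank → Fˣ) :
    (coverBiModel D hD F).π (hU D hD F cu) = torHom D F cu := by
  apply Units.ext
  unfold hU
  rw [(coverBiModel D hD F).π_hprod hD _ (extU_ne_zero D cu) D.rank (le_refl _), torHom_val]
  congr 1
  funext i
  unfold extU
  split_ifs <;> rfl

/-- elements of the kernel come from the kernel of the Cartan matrix -/
theorem exists_hU_of_mem_ker (z : D.SteinbergCover F) (hz : z ∈ (covHom D hD F).ker) :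
    ∃ cu : Fin D.rank → Fˣ,
      cu ∈ (mpow (fmat (cartanFn D) D.rank) : (Fin D.rank → Fˣ) →* (Fin D.rank → Fˣ)).ker ∧
      z = hU D hD F cu := by
  have hz' : z ∈ (coverBiModel D hD F).π.ker := by
    rw [MonoidHom.mem_ker]
    exact (mem_ker_covHom_iff D hD F z).1 hz
  have hh := (coverBiModel D hD F).ker_le_hSub hD hz'
  obtain ⟨c, hc, rfl⟩ := (coverBiModel D hD F).exists_hprod hD (cover_R3 D hD F) z hh
  set cu : Fin D.rank → Fˣ := fun i => Units.mk0 (c i.val) (hc i.val) with hcu
  have heq : (coverBiModel D hD F).R.hprod c D.rank = hU D hD F cu := by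
    unfold hU
    apply RootGens.hprod_congr
    intro i hi
    rw [extU_of_lt D cu i hi]
    rfl
  refine ⟨cu, ?_, heq⟩
  rw [← mem_ker_torHom_iff D hD cu, MonoidHom.mem_ker, ← π_hU D hD F cu, ← heq]
  exact MonoidHom.mem_ker.1 hz'

/-- tuples in the kernel of the Cartan matrix give elements of the kernel -/
theorem hU_mem_ker (cu : Fin D.rank → Fˣ)
    (h : cu ∈ (mpow (fmat (cartanFn D) D.rank) : (Fin D.rank → Fˣ) →* (Fin D.rank → Fˣ)).ker) :
    hU D hD F cu ∈ (covHom D hD F).ker := by
  rw [mem_ker_covHom_iff, π_hU]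
  exact MonoidHom.mem_ker.1 ((mem_ker_torHom_iff D hD cu).2 h)

/-- the kernel of the canonical homomorphism is the kernel of the Cartan matrix on `(Fˣ)^l`, as
soon as the latter embeds -/
theorem ker_covHom_equiv
    (hinj : ∀ cu : Fin D.rank → Fˣ,
      cu ∈ (mpow (fmat (cartanFn D) D.rank) : (Fin D.rank → Fˣ) →* (Fin D.rank → Fˣ)).ker →
      hU D hD F cu = 1 → cu = 1) :
    Nonempty ((mpow (fmat (cartanFn D) D.rank) : (Fin D.rank → Fˣ) →* (Fin D.rank → Fˣ)).ker
      ≃* (covHom D hD F).ker) := by
  let Z : (mpow (fmat (cartanFn D) D.rank) : (Fin D.rank → Fˣ) →* (Fin D.rank → Fˣ)).ker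
      →* (covHom D hD F).ker :=
    { toFun := fun cu => ⟨hU D hD F cu.1, hU_mem_ker D hD F cu.1 cu.2⟩
      map_one' := by
        apply Subtype.ext
        show hU D hD F (1 : Fin D.rank → Fˣ) = 1
        have := hU_mul D hD F 1 1
        rw [mul_one] at this
        exact mul_eq_left.1 this
      map_mul' := by
        intro a b
        apply Subtype.ext
        show hU D hD F (a.1 * b.1) = hU D hD F a.1 * hU D hD F b.1
        rw [hU_mul] }
  refine ⟨MulEquiv.ofBijective Z ⟨?_, ?_⟩⟩
  · rw [injective_iff_map_eq_one]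
    intro a ha
    apply Subtype.ext
    exact hinj a.1 a.2 (congrArg Subtype.val ha)
  · rintro ⟨z, hz⟩
    obtain ⟨cu, hcu, rfl⟩ := exists_hU_of_mem_ker D hD F z hz
    exact ⟨⟨cu, hcu⟩, rfl⟩

end cov

end Cfsg.Agent.Lib.Helper8.StSl
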