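import Mathlib
import Cfsg.Agent.Lib.Helper8.StSlC

set_option autoImplicit false

/-!
Embeddings of simply-laced data: a map of roots compatible with the chain tables gives a
homomorphism from the group presented by (R1), (R2) of the small datum to the Chevalley group of the
big one.
-/

namespace Cfsg.Agent.Lib.Helper8.StSl

open Cfsg Cfsg.Lie Cfsg.Agent.Lib.Helper5.ChevSym Cfsg.Agent.Lib.Helper5.ChevStruct
  Cfsg.Agent.Lib.Helper5.StPres Cfsg.Agent.Lib.Helper8.StLift

/-- the Boolean check of a root embedding `ι` at the ordered pair `(r, s)` -/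
def embChk (ce ce' : ℕ → ℕ → List (ℕ × ℤ)) (ng ng' : ℕ → ℕ) (n' : ℕ) (ι : ℕ → ℕ) (r s : ℕ) :
    Bool :=
  decide (ι r < n') && (ι (ng r) == ng' (ι r)) && (r == s || ι r != ι s) &&
  (match ce r s with
    | [] => (ce' (ι r) (ι s)).isEmpty
    | [(k, M)] =>
      (match ce' (ι r) (ι s) with
        | [(k', M')] => k' == ι k && M' == M
        | _ => false)
    | _ => false)

/-- a certified root embedding -/
structure Emb (D D' : ChevalleyDatum) (ι : ℕ → ℕ) : Prop where
  h : ∀ r < D.nroots, ∀ s < D.nroots,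
    embChk D.chainEntry D'.chainEntry D.neg D'.neg D'.nroots ι r s = true

section emb

variable {D D' : ChevalleyDatum} {ι : ℕ → ℕ} (hE : Emb D D' ι)

include hE

theorem Emb.spec {r s : ℕ} (hr : r < D.nroots) (hs : s < D.nroots) :
    ι r < D'.nroots ∧ ι (D.neg r) = D'.neg (ι r) ∧ (r = s ∨ ι r ≠ ι s) ∧
    (D.chainEntry r s = [] → D'.chainEntry (ι r) (ι s) = []) ∧
    (∀ k M, D.chainEntry r s = [(k, M)] → D'.chainEntry (ι r) (ι s) = [(ι k, M)]) := by
  have h := hE.h r hr s hs
  unfold embChk at h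
  simp only [Bool.and_eq_true, decide_eq_true_eq, beq_iff_eq, Bool.or_eq_true, bne_iff_ne] at h
  obtain ⟨⟨⟨h1, h2⟩, h3⟩, h4⟩ := h
  refine ⟨h1, h2, h3, ?_, ?_⟩
  · intro h0
    rw [h0] at h4
    simpa using h4
  · intro k M h0
    rw [h0] at h4
    dsimp only at h4
    split at h4
    · rename_i k' M' heq
      simp only [Bool.and_eq_true, beq_iff_eq] at h4
      rw [heq, h4.1, h4.2]
    · exact absurd h4 (by simp)

end emb

/-- the homomorphism attached to a certified root embedding -/
theorem exists_emb {D D' : ChevalleyDatum} (hD : D ∈ Seven) (hD' : D' ∈ Seven) {ι : ℕ → ℕ}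
    (hE : Emb D D' ι) {decf decf' : ℕ → ℕ × ℕ} {twf twf' : ℕ → ℕ → ℕ} (hC : Cert D decf twf)
    (hC' : Cert D' decf' twf') (K : Type*) [Field K] :
    ∃ φ : D.SteinbergCover K →* GL D'.Idx K, ∀ (r : ℕ) (t : K), r < D.nroots →
      φ (D.scGen K r t) = xGL D' hD' (ι r) t := by
  apply lift_of_Y hD (fun r t => xGL D' hD' (ι r) t)
  · intro r t u hr
    exact xGL_add D' hD' (ι r) (hE.spec hr hr).1 t u
  · intro r s t u hr hs hsr hsn
    obtain ⟨hlr, hnr, -, hnil, hone⟩ := hE.spec hr hs
    obtain ⟨hls, -, hinj, -, -⟩ := hE.spec hs hr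
    have hinj' : ι s ≠ ι r := by
      rcases hinj with h | h
      · exact absurd h hsr
      · exact h
    obtain ⟨hnrlt, -, -⟩ := neg_lt D hD r hr
    have hinjn : ι s ≠ D'.neg (ι r) := by
      rw [← hnr]
      rcases (hE.spec hs hnrlt).2.2.1 with h | h
      · exact absurd h hsn
      · exact h
    have hR := xGL_comm (K := K) D' hD' (ι r) (ι s) t u hlr hls hinj' hinjn
    rw [hR]
    unfold ChevalleyDatum.commWord
    rw [commTerms_of_short D r s (hC.short hr hs) (hC.short hs hr),
      commTerms_of_short D' (ι r) (ι s) (hC'.short hlr hls) (hC'.short hls hlr)]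
    have hlen := hC.short hr hs
    rcases hL : D.chainEntry r s with _ | ⟨⟨k, M⟩, _ | ⟨b, L⟩⟩
    · rw [hnil hL]
      rfl
    · rw [hone k M hL]
      unfold wordGL
      rfl
    · rw [hL] at hlen
      simp at hlen

end Cfsg.Agent.Lib.Helper8.StSl
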