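import Mathlib
import Cfsg.Agent.Lib.Helper8.StEmb
import Cfsg.Agent.Lib.Helper8.StCen
import Cfsg.Agent.Lib.Helper9.InvolXA

set_option autoImplicit false

/-!
The homomorphism attached to a root embedding: the images of the torus elements `h̄_a(t)` and the
action of the image of a product of such elements on the root subgroups of the big group.
-/

namespace Cfsg.Agent.Lib.Helper8.StSl

open Cfsg Cfsg.Lie Cfsg.Agent.Lib.Helper5.ChevSym Cfsg.Agent.Lib.Helper5.ChevStruct
  Cfsg.Agent.Lib.Helper5.StPres Cfsg.Agent.Lib.Helper8.StLift Cfsg.Agent.Lib.Helper9.InvolX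

variable {D D' : ChevalleyDatum} (hD : D ∈ Seven) (hD' : D' ∈ Seven) {ι : ℕ → ℕ}
  (hE : Emb D D' ι) {K : Type*} [Field K] (φ : D.SteinbergCover K →* GL D'.Idx K)
  (hφ : ∀ (r : ℕ) (t : K), r < D.nroots → φ (D.scGen K r t) = xGL D' hD' (ι r) t)

include hD hE hφ

theorem emb_hbar (a : ℕ) (ha : a < D.nroots) (t : K) :
    φ ((coverGens D K).hbar a t) = hGL D' hD' (ι a) t := by
  have hna := (neg_lt D hD a ha).1
  have hneg := (hE.spec ha ha).2.1
  show φ (((D.hWord a t).map fun p => D.scGen K p.1 p.2).prod)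
    = wordGL D' hD' (D'.hWord (ι a) t)
  unfold ChevalleyDatum.hWord ChevalleyDatum.nWord wordGL
  simp only [List.cons_append, List.nil_append, List.map_cons, List.map_nil, List.prod_cons,
    List.prod_nil, map_mul, map_one]
  rw [hφ a _ ha, hφ (D.neg a) _ hna, hφ a _ ha, hφ (D.neg a) _ hna, hneg]

theorem emb_hprod_conj (c : ℕ → K) (hc : ∀ i, c i ≠ 0) (s : ℕ) :
    ∀ k ≤ D.rank, ∀ u : K,
    φ ((coverGens D K).hprod c k) * xGL D' hD' s u * (φ ((coverGens D K).hprod c k))⁻¹
      = xGL D' hD' s
          (((List.range k).map fun i => c i ^ pairZ D' (ι (D.simple i)) s).prod * u) := by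
  intro k
  induction k with
  | zero =>
    intro _ u
    rw [RootGens.hprod_zero, map_one]
    simp
  | succ k ih =>
    intro hk u
    have hk' : k < D.rank := hk
    have hs := simple_lt D hD k hk'
    have hιs := (hE.spec hs hs).1
    rw [RootGens.hprod_succ, map_mul, emb_hbar hD hD' hE φ hφ (D.simple k) hs (c k)]
    have h1 := hGL_conj_x_gen D' hD' (ι (D.simple k)) hιs (c k) (hc k) s u
    calc φ ((coverGens D K).hprod c k) * hGL D' hD' (ι (D.simple k)) (c k) * xGL D' hD' s u
          * (φ ((coverGens D K).hprod c k) * hGL D' hD' (ι (D.simple k)) (c k))⁻¹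
        = φ ((coverGens D K).hprod c k) * (hGL D' hD' (ι (D.simple k)) (c k) * xGL D' hD' s u
          * (hGL D' hD' (ι (D.simple k)) (c k))⁻¹) * (φ ((coverGens D K).hprod c k))⁻¹ := by group
      _ = _ := by
        rw [h1, ih (by omega) _, List.range_succ, List.map_append, List.prod_append,
          List.map_singleton, List.prod_singleton]
        congr 1
        ring

end Cfsg.Agent.Lib.Helper8.StSl
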