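import Mathlib
import Cfsg.Agent.Lib.Helper8.StEmb
import Cfsg.Agent.Lib.Helper8.StSlE8
import Cfsg.Agent.Lib.Helper8.StSlE67

set_option autoImplicit false

/-!
The root systems `E₆` and `E₇` inside `E₈` (tables generated from the coroot coordinates: a root of
the small system goes to the root of `E₈` with the same coordinates on the first simple roots), and
the homomorphisms from the presented groups of types `E₆`, `E₇` to the Chevalley group of type `E₈`.
-/

namespace Cfsg.Agent.Lib.Helper8.StSl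

open Cfsg Cfsg.Lie Cfsg.Agent.Lib.Helper5.ChevSym Cfsg.Agent.Lib.Helper5.ChevStruct
  Cfsg.Agent.Lib.Helper5.StPres Cfsg.Agent.Lib.Helper8.StLift

/-- the check of a root embedding at all ordered pairs -/
def embRows (ce ce' : ℕ → ℕ → List (ℕ × ℤ)) (ng ng' : ℕ → ℕ) (n n' : ℕ) (ι : ℕ → ℕ) : Bool :=
  (List.range n).all fun r => (List.range n).all fun s => embChk ce ce' ng ng' n' ι r s

theorem emb_of_rows {D D' : ChevalleyDatum} {ι : ℕ → ℕ}
    (h : embRows D.chainEntry D'.chainEntry D.neg D'.neg D.nroots D'.nroots ι = true) :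
    Emb D D' ι := by
  constructor
  intro r hr s hs
  unfold embRows at h
  rw [List.all_eq_true] at h
  have h1 := h r (List.mem_range.2 hr)
  rw [List.all_eq_true] at h1
  exact h1 s (List.mem_range.2 hs)

def e6Iota2 : List (List ℕ) := [[35, 45, 51, 54, 55, 61, 64, 65, 68, 69, 70, 73, 74, 75, 76, 77], [83, 86, 87, 90, 91, 92, 95, 96, 97, 98, 101, 102, 103, 104, 107, 108], [109, 112, 113, 116, 123, 126, 127, 130, 131, 132, 135, 136, 137, 138, 141, 142], [143, 144, 147, 148, 149, 152, 153, 156, 162, 163, 164, 165, 166, 169, 170, 171], [174, 175, 178, 184, 185, 188, 194, 204, 0, 0, 0, 0, 0, 0, 0, 0]]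

/-- the root of `E₈` attached to a root of the small system -/
def e6iota (r : ℕ) : ℕ := get2 e6Iota2 0 r

set_option maxRecDepth 100000 in
theorem e6_emb_ok : embRows e6ce e8ce e6ng e8ng 72 240 e6iota = true := by decide +kernel

theorem e6_emb : Emb chevE6 chevE8 e6iota := by
  apply emb_of_rows
  rw [← e6ce_eq, ← e8ce_eq, ← e6ng_eq, ← e8ng_eq, e6_nroots, e8_nroots]
  exact e6_emb_ok

def e7Iota2 : List (List ℕ) := [[13, 20, 25, 29, 32, 34, 35, 39, 42, 44, 45, 48, 50, 51, 53, 54], [55, 58, 60, 61, 63, 64, 65, 67, 68, 69, 70, 72, 73, 74, 75, 76], [77, 80, 82, 83, 85, 86, 87, 89, 90, 91, 92, 94, 95, 96, 97, 98], [100, 101, 102, 103, 104, 106, 107, 108, 109, 111, 112, 113, 115, 116, 118, 121], [123, 124, 126, 127, 128, 130, 131, 132, 133, 135, 136, 137, 138, 139, 141, 142], [143, 144, 145, 147, 148, 149, 150, 152, 153, 154, 156, 157, 159, 162, 163, 164], [165, 166, 167, 169, 170, 171, 172, 174, 175, 176, 178, 179, 181, 184, 185, 186], [188, 189, 191, 194, 195, 197, 200, 204, 205, 207,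 210, 214, 219, 226, 0, 0]]

/-- the root of `E₈` attached to a root of the small system -/
def e7iota (r : ℕ) : ℕ := get2 e7Iota2 0 r

set_option maxRecDepth 100000 in
theorem e7_emb_ok : embRows e7ce e8ce e7ng e8ng 126 240 e7iota = true := by decide +kernel

theorem e7_emb : Emb chevE7 chevE8 e7iota := by
  apply emb_of_rows
  rw [← e7ce_eq, ← e8ce_eq, ← e7ng_eq, ← e8ng_eq, e7_nroots, e8_nroots]
  exact e7_emb_ok

/-- the homomorphism from the presented group of type `E₆` to `E₈(K)` -/
theorem exists_emb_E6 (K : Type*) [Field K] :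
    ∃ φ : chevE6.SteinbergCover K →* GL chevE8.Idx K, ∀ (r : ℕ) (t : K), r < chevE6.nroots →
      φ (chevE6.scGen K r t) = xGL chevE8 E8_mem_Seven (e6iota r) t :=
  exists_emb E6_mem_Seven E8_mem_Seven e6_emb e6_cert e8_cert K

/-- the homomorphism from the presented group of type `E₇` to `E₈(K)` -/
theorem exists_emb_E7 (K : Type*) [Field K] :
    ∃ φ : chevE7.SteinbergCover K →* GL chevE8.Idx K, ∀ (r : ℕ) (t : K), r < chevE7.nroots →
      φ (chevE7.scGen K r t) = xGL chevE8 E8_mem_Seven (e7iota r) t :=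
  exists_emb E7_mem_Seven E8_mem_Seven e7_emb e7_cert e8_cert K

end Cfsg.Agent.Lib.Helper8.StSl
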