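import Mathlib
import Cfsg.Prelude.Def_KGroupFacts
import Cfsg.Agent.Lib.Helper8.StSlC
import Cfsg.Agent.Lib.Helper8.StCen

set_option autoImplicit false

/-!
The Schur multiplier of a Chevalley group from the lifting theorem and the kernel of the canonical
homomorphism from the presented group.
-/

namespace Cfsg.Agent.Lib.Helper8.StSl

open Cfsg Cfsg.Lie Cfsg.Agent.Lib.Helper5.ChevSym Cfsg.Agent.Lib.Helper5.ChevStruct
  Cfsg.Agent.Lib.Helper5.StPres Cfsg.Agent.Lib.Helper8.StLift

universe u

theorem schur_of_ker {D : ChevalleyDatum} (hD : D ∈ Seven) {F : Type u} [Field F] [Fintype F]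
    (hperf : commutator (D.SteinbergCover F) = ⊤)
    (hlift : ∀ (E : Type u) [Group E] (C : Ctx0 D hD F E),
      ∃ τ : D.SteinbergCover F →* E, ∀ (r : ℕ) (t : F), r < D.nroots →
        C.Ψ (τ (D.scGen F r t)) = xGL D hD r t)
    (g : ℕ) [NeZero g] (e : (covHom D hD F).ker ≃* Multiplicative (ZMod g)) :
    Cfsg.HasCyclicSchurMultiplier ↥(D.group F) g := by
  classical
  have hsurjπ := covHom_surjective D hD F
  constructor
  · -- the presented group is a finite stem extension
    have hfinker : Finite (covHom D hD F).ker := Finite.of_equiv _ e.symm.toEquiv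
    have hfinq : Finite (D.SteinbergCover F ⧸ (covHom D hD F).ker) :=
      Finite.of_equiv _ (QuotientGroup.quotientKerEquivOfSurjective _ hsurjπ).symm.toEquiv
    have hfin : Finite (D.SteinbergCover F) := Finite.of_subgroup_quotient (covHom D hD F).ker
    refine ⟨D.SteinbergCover F, inferInstance, hfin, covHom D hD F, ⟨hsurjπ, ?_, ?_⟩, ⟨e⟩⟩
    · exact covHom_ker_le_center D hD F
    · rw [hperf]
      exact le_top
  · intro Γ _ _ σ hσ
    obtain ⟨hsurj, hcen, hcomm⟩ := hσ
    let C : Ctx0 D hD F Γ :=
      { Ψ := (D.group F).subtype.comp σ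
        hc := by
          intro x hx
          apply hcen
          rw [MonoidHom.mem_ker] at hx ⊢
          exact Subtype.ext hx
        hsurj := by
          intro a ha
          obtain ⟨x, hx⟩ := hsurj ⟨a, ha⟩
          exact ⟨x, by show ((σ x : ↥(D.group F)) : GL D.Idx F) = a; rw [hx]⟩ }
    obtain ⟨τ, hτ⟩ := hlift Γ C
    -- `σ ∘ τ` is the canonical homomorphism
    have hστ : σ.comp τ = covHom D hD F := by
      apply cover_hom_ext2
      intro r t hr
      rw [covHom_scGen D hD F r hr t]
      apply Subtype.ext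
      exact hτ r t hr
    -- the commutator subgroup lies in the range of `τ`
    have hcr : commutator Γ ≤ τ.range := by
      rw [commutator_eq_closure, Subgroup.closure_le]
      rintro x ⟨a, b, rfl⟩
      obtain ⟨d, hd⟩ := hsurjπ (σ a)
      obtain ⟨d', hd'⟩ := hsurjπ (σ b)
      rw [← hστ] at hd hd'
      refine ⟨d * d' * d⁻¹ * d'⁻¹, ?_⟩
      rw [commutatorElement_def, map_mul, map_mul, map_mul, map_inv, map_inv]
      exact comm_lift_indep σ hcen hd hd'
    -- `τ` maps the kernel onto the kernel
    have hmap : ∀ z ∈ σ.ker, ∃ d ∈ (covHom D hD F).ker, τ d = z := by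
      intro z hz
      obtain ⟨d, rfl⟩ := hcr (hcomm hz)
      refine ⟨d, ?_, rfl⟩
      rw [MonoidHom.mem_ker, ← hστ]
      exact MonoidHom.mem_ker.1 hz
    let ρ : (covHom D hD F).ker →* σ.ker :=
      { toFun := fun d => ⟨τ d.1, by
          rw [MonoidHom.mem_ker]
          have h1 := MonoidHom.mem_ker.1 d.2
          have h2 : (σ.comp τ) d.1 = covHom D hD F d.1 := by rw [hστ]
          rw [← h1, ← h2]
          rfl⟩
        map_one' := by
          apply Subtype.ext
          show τ 1 = 1
          exact map_one τ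
        map_mul' := by
          intro a b
          apply Subtype.ext
          show τ (a.1 * b.1) = τ a.1 * τ b.1
          exact map_mul τ _ _ }
    refine ⟨ρ.comp e.symm.toMonoidHom, ?_⟩
    rintro ⟨z, hz⟩
    obtain ⟨d, hd, rfl⟩ := hmap z hz
    refine ⟨e ⟨d, hd⟩, ?_⟩
    apply Subtype.ext
    show τ ((e.symm (e ⟨d, hd⟩)).1) = τ d
    rw [MulEquiv.symm_apply_apply]

end Cfsg.Agent.Lib.Helper8.StSl
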