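import Mathlib
import Cfsg.Prelude.Def_KGroupFacts
import Cfsg.Agent.Lib.Helper8.StCartan
import Cfsg.Agent.Lib.Helper8.StEmb2
import Cfsg.Agent.Lib.Helper8.StEmbE
import Cfsg.Agent.Lib.Helper8.StSchurA
import Cfsg.Agent.S2395

set_option autoImplicit false

/-!
The Schur multiplier of the adjoint Chevalley group `E₇(q)` is cyclic of order `gcd(2, q - 1)`.
-/

namespace Cfsg.Agent.Lib.Helper8.StSl

open Cfsg Cfsg.Lie Cfsg.Agent.Lib.Helper5.ChevSym Cfsg.Agent.Lib.Helper5.ChevStruct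
  Cfsg.Agent.Lib.Helper5.StPres Cfsg.Agent.Lib.Helper8.StLift Cfsg.Agent.Lib.Helper9.InvolX
  Cfsg.Agent.Lib.Helper5.MatPow

/-- the certificate matrix: `A U` has columns `e_i - m_i e_6` (`i ≠ 6`) and `2 e_6` -/
def e7U : List (List ℤ) :=
  [[2, 1, 3, 4, 2, 2, 2], [2, 2, 4, 6, 3, 3, 3], [3, 2, 6, 8, 4, 4, 4], [4, 3, 8, 12, 6, 6, 6],
   [3, 2, 6, 9, 5, 5, 5], [2, 1, 4, 6, 3, 4, 4], [1, 0, 2, 3, 1, 2, 3]]

/-- the central cocharacter `α₂^∨ + α₅^∨ + α₇^∨` -/
def e7m (k : ℕ) : ℕ := [0, 1, 0, 0, 1, 0, 1].getD k 0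

def e7v (j : ℕ) : ℤ := [0, 1, 0, -1, 1, -1, 1].getD j 0

theorem e7_hB : ∀ k < chevE7.rank, ∀ i < chevE7.rank,
    fmul (cartanFn chevE7) (lfun e7U) chevE7.rank k i
      = if i = 6 then (if k = 6 then ((2 : ℕ) : ℤ) else 0)
        else ((if k = i then 1 else 0) - (if k = 6 then (e7m i : ℤ) else 0)) := by
  decide +kernel

theorem e7_hv : ∀ j < chevE7.rank,
    ((List.range chevE7.rank).map fun k => (e7m k : ℤ) * cartanFn chevE7 k j).sum
      = ((2 : ℕ) : ℤ) * e7v j := by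
  decide +kernel

theorem e7_pair : ∀ i < chevE7.rank,
    pairZ chevE8 (e7iota (chevE7.simple i)) (chevE8.simple 7) = if i = 6 then -1 else 0 := by
  decide +kernel

theorem e7_hinj {F : Type*} [Field F] [Finite F] (cu : Fin chevE7.rank → Fˣ)
    (hcu : cu ∈ (mpow (fmat (cartanFn chevE7) chevE7.rank) :
      (Fin chevE7.rank → Fˣ) →* (Fin chevE7.rank → Fˣ)).ker)
    (h1 : hU chevE7 E7_mem_Seven F cu = 1) : cu = 1 := by
  obtain ⟨φ, hφ⟩ := exists_emb_E7 F
  have hconj := emb_hprod_conj E7_mem_Seven E8_mem_Seven e7_emb φ hφ (extU chevE7 cu)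
    (extU_ne_zero _ cu) (chevE8.simple 7) chevE7.rank (le_refl _) 1
  have h1' : (coverGens chevE7 F).hprod (extU chevE7 cu) chevE7.rank = 1 := h1
  rw [h1', map_one, inv_one, one_mul, mul_one] at hconj
  have h2 := xGL_inj_sl chevE8 E8_mem_Seven (chevE8.simple 7) (by decide) _ _ hconj
  have hprod : ((List.range chevE7.rank).map fun i => extU chevE7 cu i
      ^ pairZ chevE8 (e7iota (chevE7.simple i)) (chevE8.simple 7)).prod
      = (extU chevE7 cu 6)⁻¹ := by
    have e1 : ((List.range chevE7.rank).map fun i => extU chevE7 cu i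
        ^ pairZ chevE8 (e7iota (chevE7.simple i)) (chevE8.simple 7))
        = (List.range chevE7.rank).map fun i => extU chevE7 cu i ^ (if i = 6 then (-1 : ℤ) else 0) := by
      apply List.map_congr_left
      intro i hi
      rw [e7_pair i (List.mem_range.1 hi)]
    rw [e1]
    have e2 : chevE7.rank = 7 := rfl
    rw [e2]
    simp [List.range_succ]
  rw [hprod, mul_one] at h2
  have h6 : extU chevE7 cu 6 = 1 := by
    rw [← inv_inv (extU chevE7 cu 6), ← h2, inv_one]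
  have h6' : cu ⟨6, by decide⟩ = 1 := by
    apply Units.ext
    rw [← extU_of_lt chevE7 cu 6 (by decide), h6]
    rfl
  obtain ⟨-, kall⟩ := kerCartan_key (cartanFn chevE7) (lfun e7U) 6 (by decide) 2 e7m rfl e7_hB
    cu hcu
  funext i
  rw [kall i, h6', one_pow]
  rfl

theorem E7_not_small : chevE7 ∈ [chevB2, chevG2] → False := by
  intro h
  simp only [List.mem_cons, List.not_mem_nil, or_false] at h
  rcases h with h | h
  · have := congrArg ChevalleyDatum.rank h
    revert this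
    decide
  · have := congrArg ChevalleyDatum.rank h
    revert this
    decide

universe u

theorem schur_E7 {F : Type u} [Field F] [Fintype F] {q : ℕ} (hF : Fintype.card F = q) :
    Cfsg.HasCyclicSchurMultiplier ↥(Cfsg.Lie.chevE7.group F) (Nat.gcd 2 (q - 1)) := by
  classical
  obtain ⟨e1⟩ := ker_covHom_equiv chevE7 E7_mem_Seven F e7_hinj
  obtain ⟨e2, -⟩ := kerCartan_equiv (G := Fˣ) (cartanFn chevE7) (lfun e7U) 6
    (show 6 < chevE7.rank by decide) 2 e7m rfl e7_hB e7v e7_hv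
  have hcyc : IsCyclic (powMonoidHom 2 : Fˣ →* Fˣ).ker := inferInstance
  have hcard : Nat.card (powMonoidHom 2 : Fˣ →* Fˣ).ker = Nat.gcd 2 (q - 1) := by
    rw [IsCyclic.card_powMonoidHom_ker, Nat.card_eq_fintype_card, Fintype.card_units, hF,
      Nat.gcd_comm]
  have hne : NeZero (Nat.gcd 2 (q - 1)) := ⟨Nat.pos_iff_ne_zero.1 (Nat.gcd_pos_of_pos_left _ (by norm_num))⟩
  have e3 : Multiplicative (ZMod (Nat.gcd 2 (q - 1))) ≃* (powMonoidHom 2 : Fˣ →* Fˣ).ker := by
    rw [← hcard]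
    exact zmodCyclicMulEquiv hcyc
  exact schur_of_ker E7_mem_Seven
    (Cfsg.Agent.S2395.result chevE7 (by simp) (fun h => (E7_not_small h).elim))
    (fun E _ C => exists_lift_E7 C) (Nat.gcd 2 (q - 1))
    (e1.symm.trans (e2.trans e3.symm))

end Cfsg.Agent.Lib.Helper8.StSl
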