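import Mathlib
import Cfsg.Agent.Lib.Helper8.StSlB

set_option autoImplicit false

/-!
The certificate check over arbitrary lookup functions (so that faster mirrors of the tables of the
datum can be used in kernel evaluation), and the check of blocks of rows.
-/

namespace Cfsg.Agent.Lib.Helper8.StSl

open Cfsg Cfsg.Lie

/-- `cmB` over lookup functions -/
def cmG (ce : ℕ → ℕ → List (ℕ × ℤ)) (ng : ℕ → ℕ) (a c : ℕ) : Bool :=
  (a == c) || (c != ng a && (ce a c).isEmpty)

/-- `smB` over lookup functions -/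
def smG (ce : ℕ → ℕ → List (ℕ × ℤ)) (a b k : ℕ) : Bool :=
  match ce a b with
  | [(k', N)] => k' == k && pmB N
  | _ => false

/-- `chkW` over lookup functions -/
def chkG (ce : ℕ → ℕ → List (ℕ × ℤ)) (ng : ℕ → ℕ) (n : ℕ) (decf : ℕ → ℕ × ℕ)
    (twf : ℕ → ℕ → ℕ) (a b w : ℕ) : Bool :=
  if b = ng a then (ce a b).isEmpty
  else
    match ce a b with
    | [] => decide (w % 256 < n) && decide (w / 256 % 256 < n) &&
        smG ce (w % 256) (w / 256 % 256) b && cmG ce ng a (w % 256) &&
        cmG ce ng a (w / 256 % 256)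
    | [(e, M)] =>
        (a != b) && pmB M && decide (e < n) && decide (w % 256 < n) &&
        decide (w / 256 % 256 < n) &&
        (match ce a (w % 256) with
          | [(p, N1)] => pmB N1 && decide (p < n) &&
              smG ce (w % 256) (w / 256 % 256) b &&
              cmG ce ng a (w / 256 % 256) && smG ce p (w / 256 % 256) e &&
              cmG ce ng p b && cmG ce ng b e && cmG ce ng a e &&
              (decf e == (a, b) ||
                decide (twf p (w / 256 % 256) / 65536 < w / 65536))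
          | _ => false)
    | _ => false

theorem chkG_eq (D : ChevalleyDatum) (decf : ℕ → ℕ × ℕ) (twf : ℕ → ℕ → ℕ) (a b w : ℕ) :
    chkG D.chainEntry D.neg D.nroots decf twf a b w = chkW D decf twf a b w := rfl

/-- `chkDec` over lookup functions -/
def chkDecG (ce : ℕ → ℕ → List (ℕ × ℤ)) (n : ℕ) (decf : ℕ → ℕ × ℕ) (e : ℕ) : Bool :=
  decide ((decf e).1 < n) && decide ((decf e).2 < n) && smG ce (decf e).1 (decf e).2 e

theorem chkDecG_eq (D : ChevalleyDatum) (decf : ℕ → ℕ × ℕ) (e : ℕ) :
    chkDecG D.chainEntry D.nroots decf e = chkDec D decf e := rfl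

/-- evaluate the number before using it -/
def forceNat (w : ℕ) (f : ℕ → Bool) : Bool :=
  match w with
  | 0 => f 0
  | k + 1 => f (k + 1)

theorem forceNat_eq (w : ℕ) (f : ℕ → Bool) : forceNat w f = f w := by
  unfold forceNat
  cases w <;> rfl

/-- the check of a block of rows -/
def chkRowsG (ce : ℕ → ℕ → List (ℕ × ℤ)) (ng : ℕ → ℕ) (n : ℕ) (decf : ℕ → ℕ × ℕ)
    (twf : ℕ → ℕ → ℕ) (lo len : ℕ) : Bool :=
  (List.range len).all fun i => forceNat (i + lo) fun a =>
    (List.range n).all fun b => forceNat (twf a b) fun w => chkG ce ng n decf twf a b w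

theorem chk_of_chkRowsG {D : ChevalleyDatum} {decf : ℕ → ℕ × ℕ} {twf : ℕ → ℕ → ℕ}
    {ce : ℕ → ℕ → List (ℕ × ℤ)} {ng : ℕ → ℕ} (hce : ce = D.chainEntry) (hng : ng = D.neg)
    {lo len a b : ℕ} (h : chkRowsG ce ng D.nroots decf twf lo len = true) (h1 : lo ≤ a)
    (h2 : a < lo + len) (hb : b < D.nroots) : chk D decf twf a b = true := by
  subst hce hng
  unfold chkRowsG at h
  rw [List.all_eq_true] at h
  have h3 := h (a - lo) (List.mem_range.2 (by omega))
  have h4 : a - lo + lo = a := by omega
  rw [h4, forceNat_eq, List.all_eq_true] at h3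
  have h5 := h3 b (List.mem_range.2 hb)
  rw [forceNat_eq, chkG_eq] at h5
  exact h5

/-- the check of all chosen decompositions -/
def chkDecAllG (ce : ℕ → ℕ → List (ℕ × ℤ)) (n : ℕ) (decf : ℕ → ℕ × ℕ) : Bool :=
  (List.range n).all fun e => chkDecG ce n decf e

theorem chkDec_of_allG {D : ChevalleyDatum} {decf : ℕ → ℕ × ℕ} {ce : ℕ → ℕ → List (ℕ × ℤ)}
    (hce : ce = D.chainEntry) (h : chkDecAllG ce D.nroots decf = true)
    {e : ℕ} (he : e < D.nroots) : chkDec D decf e = true := by
  subst hce
  unfold chkDecAllG at h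
  rw [List.all_eq_true] at h
  have := h e (List.mem_range.2 he)
  rw [chkDecG_eq] at this
  exact this

/-! ### Two-level tables -/

/-- lookup in a table cut into blocks of 16 -/
def get2 {α : Type} (L : List (List α)) (d : α) (i : ℕ) : α := (L.getD (i / 16) []).getD (i % 16) d

end Cfsg.Agent.Lib.Helper8.StSl
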