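import Mathlib
import Cfsg.Agent.Lib.Helper8.StSlA

set_option autoImplicit false

/-!
Central extensions and a torus element: a central-valued defect that is additive in a field
parameter and invariant under a homothety `ω ≠ 1` is trivial.  This gives Steinberg's relations for
lifts as soon as there is a torus element acting by `ω` on one root group and trivially on the
other; it needs only one element `ω ≠ 0, 1` of the field.
-/

namespace Cfsg.Agent.Lib.Helper8.StT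

open Cfsg.Agent.Lib.Helper8.StLift Cfsg.Agent.Lib.Helper8.StSl

section kill

variable {K : Type*} [Field K] {E : Type*} [Group E]

/-- an additive map to a group that is invariant under a homothety `ω ≠ 1` is trivial -/
theorem kill_of_add_inv (f : K → E) (ω : K) (hω1 : ω ≠ 1)
    (hadd : ∀ t t', f (t + t') = f t * f t') (hinv : ∀ t, f (ω * t) = f t) : ∀ t, f t = 1 := by
  have h1 : ∀ t, f ((ω - 1) * t) = 1 := by
    intro t
    have h := hadd ((ω - 1) * t) t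
    have e : (ω - 1) * t + t = ω * t := by ring
    rw [e, hinv] at h
    exact mul_eq_right.1 h.symm
  intro t
  have hne : ω - 1 ≠ 0 := sub_ne_zero.2 hω1
  have h2 := h1 (t / (ω - 1))
  rwa [mul_div_cancel₀ _ hne] at h2

theorem add_aux (a a' b r r' z z' : E) (hz : ∀ g : E, g * z = z * g)
    (hL : b⁻¹ * a⁻¹ * b * a = z * r) (hL' : b⁻¹ * a'⁻¹ * b * a' = z' * r')
    (har : r * a' = a' * r) (hrr : r' * r = r * r') :
    b⁻¹ * (a * a')⁻¹ * b * (a * a') * (r * r')⁻¹ = z * z' := by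
  calc b⁻¹ * (a * a')⁻¹ * b * (a * a') * (r * r')⁻¹
      = (b⁻¹ * a'⁻¹ * b * a') * a'⁻¹ * (b⁻¹ * a⁻¹ * b * a) * a' * (r * r')⁻¹ := by group
    _ = (z' * r') * a'⁻¹ * (z * r) * a' * (r * r')⁻¹ := by rw [hL, hL']
    _ = z' * r' * a'⁻¹ * z * (r * a') * (r * r')⁻¹ := by group
    _ = z' * r' * a'⁻¹ * z * (a' * r) * (r * r')⁻¹ := by rw [har]
    _ = z' * r' * (a'⁻¹ * z) * a' * r * (r * r')⁻¹ := by group
    _ = z' * r' * (z * a'⁻¹) * a' * r * (r * r')⁻¹ := by rw [hz a'⁻¹]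
    _ = z' * (r' * z) * r * (r * r')⁻¹ := by group
    _ = z' * (z * r') * r * (r * r')⁻¹ := by rw [hz r']
    _ = (z' * z) * (r' * r) * (r * r')⁻¹ := by group
    _ = (z * z') * (r * r') * (r * r')⁻¹ := by rw [hz z', hrr]
    _ = z * z' := by group

variable {G : Type*} [Group G] (Ψ : E →* G)

/-- the torus trick: `A` is the lifted root group of the first root, `B` a lift of an element of
the second root group, `Rf t` the expected value of the commutator, `ht` a lift of a torus element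
acting by `ω` on the first root group and trivially on the second -/
theorem torus_kill (hc : Ψ.ker ≤ Subgroup.center E) (A : K → E) (B : E) (Rf : K → E) (ht : E)
    (ω : K) (hω1 : ω ≠ 1)
    (hA : ∀ t t', A (t + t') = A t * A t')
    (hR : ∀ t t', Rf (t + t') = Rf t * Rf t')
    (hAR : ∀ t t', Rf t * A t' = A t' * Rf t)
    (hcA : ∀ t, ht * A t * ht⁻¹ = A (ω * t))
    (hcB : Ψ (ht * B * ht⁻¹) = Ψ B)
    (hcR : ∀ t, ht * Rf t * ht⁻¹ = Rf (ω * t))
    (hΨ : ∀ t, Ψ (B⁻¹ * (A t)⁻¹ * B * A t) = Ψ (Rf t)) :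
    ∀ t, B⁻¹ * (A t)⁻¹ * B * A t = Rf t := by
  have hfc : ∀ t, B⁻¹ * (A t)⁻¹ * B * A t * (Rf t)⁻¹ ∈ Subgroup.center E := by
    intro t
    apply hc
    rw [MonoidHom.mem_ker, map_mul, hΨ, map_inv, mul_inv_cancel]
  have hz : ∀ (t : K) (g : E), g * (B⁻¹ * (A t)⁻¹ * B * A t * (Rf t)⁻¹)
      = (B⁻¹ * (A t)⁻¹ * B * A t * (Rf t)⁻¹) * g :=
    fun t g => Subgroup.mem_center_iff.1 (hfc t) g
  have hrr : ∀ t t', Rf t' * Rf t = Rf t * Rf t' := by
    intro t t'
    rw [← hR, ← hR, add_comm]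
  have key := kill_of_add_inv (fun t => B⁻¹ * (A t)⁻¹ * B * A t * (Rf t)⁻¹) ω hω1 ?_ ?_
  · intro t
    exact mul_inv_eq_one.1 (key t)
  · intro t t'
    show B⁻¹ * (A (t + t'))⁻¹ * B * A (t + t') * (Rf (t + t'))⁻¹ = _
    rw [hA, hR]
    exact add_aux (A t) (A t') B (Rf t) (Rf t') _ _ (hz t) (by group) (by group) (hAR t t')
      (hrr t t')
  · intro t
    show B⁻¹ * (A (ω * t))⁻¹ * B * A (ω * t) * (Rf (ω * t))⁻¹
      = B⁻¹ * (A t)⁻¹ * B * A t * (Rf t)⁻¹
    have h1 : ht * (B⁻¹ * (A t)⁻¹ * B * A t * (Rf t)⁻¹) * ht⁻¹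
        = B⁻¹ * (A t)⁻¹ * B * A t * (Rf t)⁻¹ := by
      rw [hz t ht]
      group
    have h2 : ht * (B⁻¹ * (A t)⁻¹ * B * A t * (Rf t)⁻¹) * ht⁻¹
        = ((ht * B * ht⁻¹)⁻¹ * (ht * A t * ht⁻¹)⁻¹ * ((ht * B * ht⁻¹)⁻¹)⁻¹) * (ht * A t * ht⁻¹)
            * (ht * Rf t * ht⁻¹)⁻¹ := by
      group
    have h3 : Ψ (ht * B * ht⁻¹)⁻¹ = Ψ B⁻¹ := by rw [map_inv, map_inv, hcB]
    rw [← h1, h2, conj_lift_indep Ψ hc h3, hcA, hcR, inv_inv]

end kill

end Cfsg.Agent.Lib.Helper8.StT
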