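import Mathlib
import Cfsg.Agent.Lib.Helper8.StTA
import Cfsg.Agent.Lib.Helper8.StSlC

set_option autoImplicit false

/-!
Canonical lifts of root elements in a central extension of a Chevalley group, defined with a torus
element `h_γ(ω)`, `ω ≠ 0, 1`, `⟨r, γ^∨⟩ = 1`; their additivity, their behaviour under the torus,
and the torus trick for pairs of roots.
-/

namespace Cfsg.Agent.Lib.Helper8.StT

open Cfsg Cfsg.Lie Cfsg.Agent.Lib.Helper5.ChevSym Cfsg.Agent.Lib.Helper5.ChevStruct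
  Cfsg.Agent.Lib.Helper5.StPres Cfsg.Agent.Lib.Helper9.InvolX Cfsg.Agent.Lib.Helper8.StLift
  Cfsg.Agent.Lib.Helper8.StSl

/-- the parameters of the canonical lifts: an element `ω ≠ 0, 1` of the field and for each root `r`
a root `γ` with `⟨r, γ^∨⟩ = 1` -/
structure Par (D : ChevalleyDatum) (K : Type*) [Field K] where
  ω : K
  h0 : ω ≠ 0
  h1 : ω ≠ 1
  gam : ℕ → ℕ
  hgam : ∀ r < D.nroots, gam r < D.nroots ∧ pairZ D (gam r) r = 1

variable {D : ChevalleyDatum} {hD : D ∈ Seven} {K : Type*} [Field K] {E : Type*} [Group E]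
  (C : Ctx0 D hD K E) (P : Par D K)

/-- a chosen lift of `h_γ(a)` (junk unless `γ < nroots`, `a ≠ 0`) -/
noncomputable def hlT (γ : ℕ) (a : K) : E := by
  classical
  exact if h : γ < D.nroots ∧ a ≠ 0 then
    Classical.choose (C.hsurj (hGL D hD γ a) (hGL_mem_group D hD γ h.1 a h.2)) else 1

theorem Ψ_hlT (γ : ℕ) (hγ : γ < D.nroots) (a : K) (ha : a ≠ 0) :
    C.Ψ (hlT C γ a) = hGL D hD γ a := by
  unfold hlT
  rw [dif_pos ⟨hγ, ha⟩]
  exact Classical.choose_spec (C.hsurj (hGL D hD γ a) (hGL_mem_group D hD γ hγ a ha))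

/-- the canonical lift of `x_r(t)` -/
noncomputable def YT (r : ℕ) (t : K) : E :=
  cm (hlT C (P.gam r) P.ω) (C.xl r (t / (P.ω - 1)))

theorem Par.sub_ne : P.ω - 1 ≠ 0 := sub_ne_zero.2 P.h1

theorem Ψ_YT (r : ℕ) (hr : r < D.nroots) (t : K) : C.Ψ (YT C P r t) = xGL D hD r t := by
  obtain ⟨hγ, hp⟩ := P.hgam r hr
  unfold YT
  rw [map_cm, Ψ_hlT C _ hγ _ P.h0, C.Ψ_xl]
  unfold cm
  rw [hGL_conj_x_gen D hD _ hγ P.ω P.h0, hp, zpow_one, ← xGL_neg D hD r hr, xGL_add D hD r hr]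
  congr 1
  have := P.sub_ne
  field_simp
  ring

theorem YT_add (r : ℕ) (hr : r < D.nroots) (hLC : LCm C.Ψ (xGL D hD) r r) (t u : K) :
    YT C P r (t + u) = YT C P r t * YT C P r u := by
  have h1 : YT C P r (t + u)
      = cm (hlT C (P.gam r) P.ω) (C.xl r (t / (P.ω - 1)) * C.xl r (u / (P.ω - 1))) := by
    unfold YT
    apply cm_lift_indep C.Ψ C.hc rfl
    rw [map_mul, C.Ψ_xl, C.Ψ_xl, C.Ψ_xl, xGL_add D hD r hr, add_div]
  rw [h1, cm_mul_right]
  have h2 : C.xl r (t / (P.ω - 1)) * YT C P r u = YT C P r u * C.xl r (t / (P.ω - 1)) :=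
    hLC _ _ _ _ (C.Ψ_xl _ _) (Ψ_YT C P r hr u)
  have h3 : C.xl r (t / (P.ω - 1)) * cm (hlT C (P.gam r) P.ω) (C.xl r (u / (P.ω - 1)))
      * (C.xl r (t / (P.ω - 1)))⁻¹ = YT C P r u := by
    show C.xl r (t / (P.ω - 1)) * YT C P r u * (C.xl r (t / (P.ω - 1)))⁻¹ = YT C P r u
    rw [h2]
    group
  rw [h3]
  rfl

theorem YT_zero (r : ℕ) (hr : r < D.nroots) (hLC : LCm C.Ψ (xGL D hD) r r) :
    YT C P r 0 = 1 := by
  have h := YT_add C P r hr hLC 0 0
  rw [add_zero] at h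
  exact mul_eq_left.1 h.symm

theorem YT_neg (r : ℕ) (hr : r < D.nroots) (hLC : LCm C.Ψ (xGL D hD) r r) (t : K) :
    YT C P r (-t) = (YT C P r t)⁻¹ := by
  have h := YT_add C P r hr hLC t (-t)
  rw [add_neg_cancel, YT_zero C P r hr hLC] at h
  exact (inv_eq_of_mul_eq_one_right h.symm).symm

/-- conjugation of a canonical lift by a lift of the torus element `h_γ(ω)` -/
theorem conj_YT (r : ℕ) (hr : r < D.nroots) (γ : ℕ) (hγ : γ < D.nroots) (e : E)
    (he : C.Ψ e = hGL D hD γ P.ω) (t : K) :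
    e * YT C P r t * e⁻¹ = YT C P r (P.ω ^ (pairZ D γ r) * t) := by
  obtain ⟨hγr, -⟩ := P.hgam r hr
  have h1 : e * YT C P r t * e⁻¹
      = cm (e * hlT C (P.gam r) P.ω * e⁻¹) (e * C.xl r (t / (P.ω - 1)) * e⁻¹) := by
    unfold YT cm
    group
  rw [h1]
  unfold YT
  apply cm_lift_indep C.Ψ C.hc
  · rw [map_mul, map_mul, map_inv, he, Ψ_hlT C _ hγr _ P.h0]
    have := diagonal_commute D hD _ _ (hGL_mem_diagonal D hD γ hγ P.ω P.h0)
      (hGL_mem_diagonal D hD (P.gam r) hγr P.ω P.h0)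
    rw [this]
    group
  · rw [map_mul, map_mul, map_inv, he, C.Ψ_xl, C.Ψ_xl, hGL_conj_x_gen D hD γ hγ P.ω P.h0,
      mul_div_assoc]

theorem lcm_symm {a b : ℕ} (h : LCm C.Ψ (xGL D hD) a b) : LCm C.Ψ (xGL D hD) b a :=
  fun e e' t u he he' => (h e' e u t he' he).symm

include P in
/-- the torus trick for commuting root elements -/
theorem lcm_of_torus {r s : ℕ} (hr : r < D.nroots) (hLC : LCm C.Ψ (xGL D hD) r r)
    (γ : ℕ) (hγ : γ < D.nroots) (h1 : pairZ D γ r = 1) (h0 : pairZ D γ s = 0)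
    (hcm : Cm (xGL (F := K) D hD) r s) : LCm C.Ψ (xGL D hD) r s := by
  intro e e' t u he he'
  have key := torus_kill C.Ψ C.hc (YT C P r) e' (fun _ => 1) (hlT C γ P.ω) P.ω P.h1
    (YT_add C P r hr hLC) (fun _ _ => (mul_one 1).symm) (fun _ _ => by rw [one_mul, mul_one])
    (fun t => by
      rw [conj_YT C P r hr γ hγ _ (Ψ_hlT C γ hγ _ P.h0), h1, zpow_one])
    (by
      rw [map_mul, map_mul, map_inv, Ψ_hlT C γ hγ _ P.h0, he',
        hGL_conj_x_gen D hD γ hγ P.ω P.h0, h0, zpow_zero, one_mul])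
    (fun _ => by group)
    (fun t => by
      rw [map_mul, map_mul, map_mul, map_inv, map_inv, he', Ψ_YT C P r hr, map_one]
      calc (xGL D hD s u)⁻¹ * (xGL D hD r t)⁻¹ * xGL D hD s u * xGL D hD r t
          = (xGL D hD s u)⁻¹ * (xGL D hD r t)⁻¹ * (xGL D hD s u * xGL D hD r t) := by group
        _ = (xGL D hD s u)⁻¹ * (xGL D hD r t)⁻¹ * (xGL D hD r t * xGL D hD s u) := by
            rw [hcm t u]
        _ = 1 := by group) t
  have h2 : YT C P r t * e' = e' * YT C P r t := by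
    calc YT C P r t * e' = YT C P r t * e' * (e'⁻¹ * (YT C P r t)⁻¹ * e' * YT C P r t) := by
          rw [key, mul_one]
      _ = e' * YT C P r t := by group
  exact commute_lift_indep C.Ψ C.hc ((Ψ_YT C P r hr t).trans he.symm) h2

end Cfsg.Agent.Lib.Helper8.StT
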