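import Mathlib
import Cfsg.Agent.Lib.Helper8.StTC

set_option autoImplicit false

/-!
The torus trick with exponents: canonical lifts `[h_γ(ω), x_r(t / (ω^m - 1))]`, `m = ⟨r, γ^∨⟩`,
`ω^m ≠ 1`; lifts of commuting root elements commute when a torus element acts by `ω^m ≠ 1` on one
of them and trivially on the other (no canonical lifts are needed for this).
-/

namespace Cfsg.Agent.Lib.Helper8.StT2

open Cfsg Cfsg.Lie Cfsg.Agent.Lib.Helper5.ChevSym Cfsg.Agent.Lib.Helper5.ChevStruct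
  Cfsg.Agent.Lib.Helper5.StPres Cfsg.Agent.Lib.Helper9.InvolX Cfsg.Agent.Lib.Helper8.StLift
  Cfsg.Agent.Lib.Helper8.StSl Cfsg.Agent.Lib.Helper8.StT

/-- the parameters of the canonical lifts: an element `ω ≠ 0` of the field and for each root `r`
a root `γ` with `ω ^ ⟨r, γ^∨⟩ ≠ 1` -/
structure Par2 (D : ChevalleyDatum) (K : Type*) [Field K] where
  ω : K
  h0 : ω ≠ 0
  gam : ℕ → ℕ
  hgam : ∀ r < D.nroots, gam r < D.nroots ∧ ω ^ (pairZ D (gam r) r) ≠ 1

variable {D : ChevalleyDatum} {hD : D ∈ Seven} {K : Type*} [Field K] {E : Type*} [Group E]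
  (C : Ctx0 D hD K E)

/-- the torus trick for lifts of commuting root elements -/
theorem lcm_of_torus0 (ω : K) (h0 : ω ≠ 0) {r s : ℕ} (γ : ℕ) (hγ : γ < D.nroots)
    (hχ : ω ^ (pairZ D γ r) ≠ 1) (hs0 : pairZ D γ s = 0)
    (hcm : Cm (xGL (F := K) D hD) r s) : LCm C.Ψ (xGL D hD) r s := by
  intro e e' t u he he'
  have hcen : ∀ v : K, cm (C.xl r v) e' ∈ Subgroup.center E := by
    intro v
    apply C.hc
    rw [MonoidHom.mem_ker, map_cm, C.Ψ_xl, he']
    unfold cm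
    rw [hcm v u]
    group
  have key := kill_of_add_inv (fun v => cm (C.xl r v) e') (ω ^ (pairZ D γ r)) hχ ?_ ?_ t
  · have h2 : C.xl r t * e' = e' * C.xl r t := by
      have h3 : cm (C.xl r t) e' = 1 := key
      unfold cm at h3
      calc C.xl r t * e' = (C.xl r t * e' * (C.xl r t)⁻¹ * e'⁻¹) * e' * C.xl r t := by group
        _ = e' * C.xl r t := by rw [h3, one_mul]
    exact commute_lift_indep C.Ψ C.hc ((C.Ψ_xl r t).trans he.symm) h2
  · intro v v'
    show cm (C.xl r (v + v')) e' = cm (C.xl r v) e' * cm (C.xl r v') e'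
    have h1 : cm (C.xl r (v + v')) e' = cm (C.xl r v * C.xl r v') e' := by
      apply cm_lift_indep C.Ψ C.hc _ rfl
      by_cases hr : r < D.nroots
      · rw [map_mul, C.Ψ_xl, C.Ψ_xl, C.Ψ_xl, xGL_add D hD r hr]
      · rw [map_mul, C.Ψ_xl, C.Ψ_xl, C.Ψ_xl]
        have hz : ∀ w : K, xGL D hD r w = 1 := by
          intro w
          apply Units.ext
          rw [xGL_val]
          unfold ChevalleyDatum.x
          simp [hr]
        rw [hz, hz, hz, one_mul]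
    rw [h1, cm_mul_left]
    have hz := Subgroup.mem_center_iff.1 (hcen v')
    calc C.xl r v * cm (C.xl r v') e' * (C.xl r v)⁻¹ * cm (C.xl r v) e'
        = (C.xl r v * cm (C.xl r v') e') * (C.xl r v)⁻¹ * cm (C.xl r v) e' := by group
      _ = (cm (C.xl r v') e' * C.xl r v) * (C.xl r v)⁻¹ * cm (C.xl r v) e' := by rw [hz]
      _ = cm (C.xl r v') e' * cm (C.xl r v) e' := by group
      _ = cm (C.xl r v) e' * cm (C.xl r v') e' :=
          (Subgroup.mem_center_iff.1 (hcen v') _).symm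
  · intro v
    show cm (C.xl r (ω ^ (pairZ D γ r) * v)) e' = cm (C.xl r v) e'
    have hz := Subgroup.mem_center_iff.1 (hcen v) (hlT C γ ω)
    have h1 : hlT C γ ω * cm (C.xl r v) e' * (hlT C γ ω)⁻¹ = cm (C.xl r v) e' := by
      rw [hz]
      group
    have h2 : hlT C γ ω * cm (C.xl r v) e' * (hlT C γ ω)⁻¹
        = cm (hlT C γ ω * C.xl r v * (hlT C γ ω)⁻¹) (hlT C γ ω * e' * (hlT C γ ω)⁻¹) := by
      unfold cm
      group
    rw [← h1, h2]
    symm
    apply cm_lift_indep C.Ψ C.hc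
    · rw [map_mul, map_mul, map_inv, Ψ_hlT C γ hγ _ h0, C.Ψ_xl, C.Ψ_xl,
        hGL_conj_x_gen D hD γ hγ ω h0]
    · rw [map_mul, map_mul, map_inv, Ψ_hlT C γ hγ _ h0, he',
        hGL_conj_x_gen D hD γ hγ ω h0, hs0, zpow_zero, one_mul]

variable (P : Par2 D K)

/-- the canonical lift of `x_r(t)` -/
noncomputable def YT2 (r : ℕ) (t : K) : E :=
  cm (hlT C (P.gam r) P.ω) (C.xl r (t / (P.ω ^ (pairZ D (P.gam r) r) - 1)))

theorem Ψ_YT2 (r : ℕ) (hr : r < D.nroots) (t : K) : C.Ψ (YT2 C P r t) = xGL D hD r t := by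
  obtain ⟨hγ, hp⟩ := P.hgam r hr
  unfold YT2
  rw [map_cm, Ψ_hlT C _ hγ _ P.h0, C.Ψ_xl]
  unfold cm
  rw [hGL_conj_x_gen D hD _ hγ P.ω P.h0, ← xGL_neg D hD r hr, xGL_add D hD r hr]
  congr 1
  have := sub_ne_zero.2 hp
  field_simp
  ring

theorem YT2_add (r : ℕ) (hr : r < D.nroots) (hLC : LCm C.Ψ (xGL D hD) r r) (t u : K) :
    YT2 C P r (t + u) = YT2 C P r t * YT2 C P r u := by
  set c : K := P.ω ^ (pairZ D (P.gam r) r) - 1 with hc
  have h1 : YT2 C P r (t + u)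
      = cm (hlT C (P.gam r) P.ω) (C.xl r (t / c) * C.xl r (u / c)) := by
    unfold YT2
    apply cm_lift_indep C.Ψ C.hc rfl
    rw [map_mul, C.Ψ_xl, C.Ψ_xl, C.Ψ_xl, xGL_add D hD r hr, add_div]
  rw [h1, cm_mul_right]
  have h2 : C.xl r (t / c) * YT2 C P r u = YT2 C P r u * C.xl r (t / c) :=
    hLC _ _ _ _ (C.Ψ_xl _ _) (Ψ_YT2 C P r hr u)
  have h3 : C.xl r (t / c) * cm (hlT C (P.gam r) P.ω) (C.xl r (u / c))
      * (C.xl r (t / c))⁻¹ = YT2 C P r u := by
    show C.xl r (t / c) * YT2 C P r u * (C.xl r (t / c))⁻¹ = YT2 C P r u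
    rw [h2]
    group
  rw [h3]
  rfl

/-- conjugation of a canonical lift by a lift of the torus element `h_γ(ω)` -/
theorem conj_YT2 (r : ℕ) (hr : r < D.nroots) (γ : ℕ) (hγ : γ < D.nroots) (e : E)
    (he : C.Ψ e = hGL D hD γ P.ω) (t : K) :
    e * YT2 C P r t * e⁻¹ = YT2 C P r (P.ω ^ (pairZ D γ r) * t) := by
  obtain ⟨hγr, -⟩ := P.hgam r hr
  have h1 : e * YT2 C P r t * e⁻¹
      = cm (e * hlT C (P.gam r) P.ω * e⁻¹)
          (e * C.xl r (t / (P.ω ^ (pairZ D (P.gam r) r) - 1)) * e⁻¹) := by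
    unfold YT2 cm
    group
  rw [h1]
  unfold YT2
  apply cm_lift_indep C.Ψ C.hc
  · rw [map_mul, map_mul, map_inv, he, Ψ_hlT C _ hγr _ P.h0]
    have := diagonal_commute D hD _ _ (hGL_mem_diagonal D hD γ hγ P.ω P.h0)
      (hGL_mem_diagonal D hD (P.gam r) hγr P.ω P.h0)
    rw [this]
    group
  · rw [map_mul, map_mul, map_inv, he, C.Ψ_xl, C.Ψ_xl, hGL_conj_x_gen D hD γ hγ P.ω P.h0,
      mul_div_assoc]

end Cfsg.Agent.Lib.Helper8.StT2
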