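import Mathlib
import Cfsg.Agent.Lib.Helper8.StT2B

set_option autoImplicit false

/-!
Products of canonical lifts with parameters linear in one variable, and Steinberg's relation (R2)
for a pair of roots by the torus trick with exponents.
-/

namespace Cfsg.Agent.Lib.Helper8.StT2

open Cfsg Cfsg.Lie Cfsg.Agent.Lib.Helper5.ChevSym Cfsg.Agent.Lib.Helper5.ChevStruct
  Cfsg.Agent.Lib.Helper5.StPres Cfsg.Agent.Lib.Helper9.InvolX Cfsg.Agent.Lib.Helper8.StLift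
  Cfsg.Agent.Lib.Helper8.StSl Cfsg.Agent.Lib.Helper8.StT

variable {D : ChevalleyDatum} {hD : D ∈ Seven} {K : Type*} [Field K] {E : Type*} [Group E]
  (C : Ctx0 D hD K E) (P : Par2 D K)

/-- a product of canonical lifts with parameters linear in `t` -/
noncomputable def Wl2 (l : List (ℕ × K)) (t : K) : E :=
  (l.map fun p => YT2 C P p.1 (p.2 * t)).prod

theorem Wl2_nil (t : K) : Wl2 C P [] t = 1 := rfl

theorem Wl2_cons (p : ℕ × K) (l : List (ℕ × K)) (t : K) :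
    Wl2 C P (p :: l) t = YT2 C P p.1 (p.2 * t) * Wl2 C P l t := by
  unfold Wl2
  rw [List.map_cons, List.prod_cons]

theorem commute_Wl2 (e : E) (l : List (ℕ × K)) (t : K)
    (h : ∀ q ∈ l, e * YT2 C P q.1 (q.2 * t) = YT2 C P q.1 (q.2 * t) * e) :
    e * Wl2 C P l t = Wl2 C P l t * e := by
  induction l with
  | nil => rw [Wl2_nil, mul_one, one_mul]
  | cons p l ih =>
    rw [Wl2_cons]
    have h1 := h p List.mem_cons_self
    have h2 := ih fun q hq => h q (List.mem_cons_of_mem _ hq)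
    calc e * (YT2 C P p.1 (p.2 * t) * Wl2 C P l t)
        = (e * YT2 C P p.1 (p.2 * t)) * Wl2 C P l t := by group
      _ = YT2 C P p.1 (p.2 * t) * (e * Wl2 C P l t) := by rw [h1]; group
      _ = YT2 C P p.1 (p.2 * t) * Wl2 C P l t * e := by rw [h2]; group

theorem Wl2_add (l : List (ℕ × K))
    (hl : ∀ p ∈ l, p.1 < D.nroots ∧ ∀ q ∈ l, LCm C.Ψ (xGL D hD) p.1 q.1) (t t' : K) :
    Wl2 C P l (t + t') = Wl2 C P l t * Wl2 C P l t' := by
  induction l with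
  | nil => rw [Wl2_nil, Wl2_nil, Wl2_nil, mul_one]
  | cons p l ih =>
    have ih' := ih fun q hq => ⟨(hl q (List.mem_cons_of_mem _ hq)).1, fun q' hq' =>
      (hl q (List.mem_cons_of_mem _ hq)).2 q' (List.mem_cons_of_mem _ hq')⟩
    obtain ⟨hp, hpl⟩ := hl p List.mem_cons_self
    rw [Wl2_cons, Wl2_cons, Wl2_cons, ih', mul_add,
      YT2_add C P p.1 hp (hpl p List.mem_cons_self)]
    have hc : YT2 C P p.1 (p.2 * t') * Wl2 C P l t = Wl2 C P l t * YT2 C P p.1 (p.2 * t') := by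
      apply commute_Wl2
      intro q hq
      exact hpl q (List.mem_cons_of_mem _ hq) _ _ _ _ (Ψ_YT2 C P p.1 hp _)
        (Ψ_YT2 C P q.1 (hl q (List.mem_cons_of_mem _ hq)).1 _)
    calc YT2 C P p.1 (p.2 * t) * YT2 C P p.1 (p.2 * t') * (Wl2 C P l t * Wl2 C P l t')
        = YT2 C P p.1 (p.2 * t) * (YT2 C P p.1 (p.2 * t') * Wl2 C P l t) * Wl2 C P l t' := by group
      _ = YT2 C P p.1 (p.2 * t) * Wl2 C P l t * (YT2 C P p.1 (p.2 * t') * Wl2 C P l t') := by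
          rw [hc]; group

theorem Wl2_comm (l : List (ℕ × K)) (r : ℕ) (hr : r < D.nroots)
    (hl : ∀ q ∈ l, q.1 < D.nroots ∧ LCm C.Ψ (xGL D hD) r q.1) (t t' : K) :
    Wl2 C P l t * YT2 C P r t' = YT2 C P r t' * Wl2 C P l t := by
  symm
  apply commute_Wl2
  intro q hq
  exact (hl q hq).2 _ _ _ _ (Ψ_YT2 C P r hr _) (Ψ_YT2 C P q.1 (hl q hq).1 _)

theorem Wl2_conj (l : List (ℕ × K)) (γ : ℕ) (hγ : γ < D.nroots) (m : ℤ)
    (hl : ∀ q ∈ l, q.1 < D.nroots ∧ pairZ D γ q.1 = m) (e : E) (he : C.Ψ e = hGL D hD γ P.ω)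
    (t : K) : e * Wl2 C P l t * e⁻¹ = Wl2 C P l (P.ω ^ m * t) := by
  induction l with
  | nil => rw [Wl2_nil, Wl2_nil]; group
  | cons p l ih =>
    have ih' := ih fun q hq => hl q (List.mem_cons_of_mem _ hq)
    obtain ⟨hp, hpz⟩ := hl p List.mem_cons_self
    rw [Wl2_cons, Wl2_cons, ← ih']
    have h := conj_YT2 C P p.1 hp γ hγ e he (p.2 * t)
    rw [hpz] at h
    have e1 : p.2 * (P.ω ^ m * t) = P.ω ^ m * (p.2 * t) := by ring
    rw [e1, ← h]
    group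

theorem Ψ_Wl2 (l : List (ℕ × K)) (hl : ∀ q ∈ l, q.1 < D.nroots) (t : K) :
    C.Ψ (Wl2 C P l t) = wordGL D hD (l.map fun p => (p.1, p.2 * t)) := by
  induction l with
  | nil => rw [Wl2_nil, map_one]; rfl
  | cons p l ih =>
    rw [Wl2_cons, map_mul, ih fun q hq => hl q (List.mem_cons_of_mem _ hq), List.map_cons,
      wordGL_cons, Ψ_YT2 C P p.1 (hl p List.mem_cons_self)]

/-- (R2) for the canonical lifts by the torus trick, when the right-hand side is linear in the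
parameter of the first root -/
theorem rel_L2
    (hLC : ∀ a b, a < D.nroots → b < D.nroots → cmT D a b = true → LCm C.Ψ (xGL D hD) a b)
    {r s : ℕ} (hr : r < D.nroots) (hs : s < D.nroots) (hsr : s ≠ r) (hsn : s ≠ D.neg r)
    (γ : ℕ) (hγ : γ < D.nroots) (h1 : P.ω ^ (pairZ D γ r) ≠ 1) (h0 : pairZ D γ s = 0)
    (hT : ∀ c ∈ D.commTerms r s, c.2.2.1 = 1 ∧ c.1 < D.nroots ∧
      pairZ D γ c.1 = pairZ D γ r ∧
      cmT D r c.1 = true ∧ ∀ c' ∈ D.commTerms r s, cmT D c.1 c'.1 = true) (t u : K) :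
    (YT2 C P s u)⁻¹ * (YT2 C P r t)⁻¹ * YT2 C P s u * YT2 C P r t
      = ((D.commWord K r s t u).map fun p => YT2 C P p.1 p.2).prod := by
  set l : List (ℕ × K) := (D.commTerms r s).map fun c => (c.1, -((c.2.1 : K) * u ^ c.2.2.2))
    with hl
  have hmem : ∀ q ∈ l, ∃ c ∈ D.commTerms r s, q.1 = c.1 := by
    intro q hq
    rw [hl, List.mem_map] at hq
    obtain ⟨c, hc, rfl⟩ := hq
    exact ⟨c, hc, rfl⟩
  have hcw : ∀ t : K, D.commWord K r s t u = l.map fun p => (p.1, p.2 * t) := by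
    intro t
    unfold ChevalleyDatum.commWord
    rw [hl, List.map_map]
    apply List.map_congr_left
    intro c hc
    simp only [Function.comp]
    rw [(hT c hc).1, pow_one]
    congr 1
    ring
  have hw : ∀ t : K, ((D.commWord K r s t u).map fun p => YT2 C P p.1 p.2).prod = Wl2 C P l t := by
    intro t
    rw [hcw t, List.map_map]
    rfl
  rw [hw]
  have hlt : ∀ q ∈ l, q.1 < D.nroots := by
    intro q hq
    obtain ⟨c, hc, hqc⟩ := hmem q hq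
    rw [hqc]
    exact (hT c hc).2.1
  refine torus_kill C.Ψ C.hc (YT2 C P r) (YT2 C P s u) (Wl2 C P l) (hlT C γ P.ω)
    (P.ω ^ (pairZ D γ r)) h1
    (YT2_add C P r hr (hLC r r hr hr (by simp [cmT]))) ?_ ?_ ?_ ?_ ?_ ?_ t
  · apply Wl2_add
    intro p hp
    obtain ⟨c, hc, hpc⟩ := hmem p hp
    refine ⟨hlt p hp, fun q hq => ?_⟩
    obtain ⟨c', hc', hqc⟩ := hmem q hq
    rw [hpc, hqc]
    exact hLC _ _ (hT c hc).2.1 (hT c' hc').2.1 ((hT c hc).2.2.2.2 c' hc')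
  · intro t t'
    apply Wl2_comm C P l r hr
    intro q hq
    obtain ⟨c, hc, hqc⟩ := hmem q hq
    refine ⟨hlt q hq, ?_⟩
    rw [hqc]
    exact hLC _ _ hr (hT c hc).2.1 (hT c hc).2.2.2.1
  · intro t
    rw [conj_YT2 C P r hr γ hγ _ (Ψ_hlT C γ hγ _ P.h0)]
  · rw [map_mul, map_mul, map_inv, Ψ_hlT C γ hγ _ P.h0, Ψ_YT2 C P s hs,
      hGL_conj_x_gen D hD γ hγ P.ω P.h0, h0, zpow_zero, one_mul]
  · intro t
    apply Wl2_conj C P l γ hγ (pairZ D γ r) _ _ (Ψ_hlT C γ hγ _ P.h0)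
    intro q hq
    obtain ⟨c, hc, hqc⟩ := hmem q hq
    refine ⟨hlt q hq, ?_⟩
    rw [hqc]
    exact (hT c hc).2.2.1
  · intro t
    rw [Ψ_Wl2 C P l hlt, ← hcw, map_mul, map_mul, map_mul, map_inv, map_inv, Ψ_YT2 C P s hs,
      Ψ_YT2 C P r hr]
    exact xGL_comm D hD r s t u hr hs hsr hsn

/-- (R2) for the canonical lifts by the torus trick, when the right-hand side is linear in the
parameter of the second root -/
theorem rel_R2
    (hLC : ∀ a b, a < D.nroots → b < D.nroots → cmT D a b = true → LCm C.Ψ (xGL D hD) a b)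
    {r s : ℕ} (hr : r < D.nroots) (hs : s < D.nroots) (hsr : s ≠ r) (hsn : s ≠ D.neg r)
    (γ : ℕ) (hγ : γ < D.nroots) (h1 : pairZ D γ r = 0) (h0 : P.ω ^ (pairZ D γ s) ≠ 1)
    (hT : ∀ c ∈ D.commTerms r s, c.2.2.2 = 1 ∧ c.1 < D.nroots ∧
      pairZ D γ c.1 = pairZ D γ s ∧
      cmT D s c.1 = true ∧ ∀ c' ∈ D.commTerms r s, cmT D c.1 c'.1 = true) (t u : K) :
    (YT2 C P s u)⁻¹ * (YT2 C P r t)⁻¹ * YT2 C P s u * YT2 C P r t
      = ((D.commWord K r s t u).map fun p => YT2 C P p.1 p.2).prod := by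
  set l : List (ℕ × K) := (D.commTerms r s).map fun c => (c.1, (c.2.1 : K) * (-t) ^ c.2.2.1)
    with hl
  have hmem : ∀ q ∈ l, ∃ c ∈ D.commTerms r s, q.1 = c.1 := by
    intro q hq
    rw [hl, List.mem_map] at hq
    obtain ⟨c, hc, rfl⟩ := hq
    exact ⟨c, hc, rfl⟩
  have hcw : ∀ u : K, D.commWord K r s t u = l.map fun p => (p.1, p.2 * u) := by
    intro u
    unfold ChevalleyDatum.commWord
    rw [hl, List.map_map]
    apply List.map_congr_left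
    intro c hc
    simp only [Function.comp]
    rw [(hT c hc).1, pow_one]
  have hw : ∀ u : K, ((D.commWord K r s t u).map fun p => YT2 C P p.1 p.2).prod = Wl2 C P l u := by
    intro u
    rw [hcw u, List.map_map]
    rfl
  rw [hw]
  have hlt : ∀ q ∈ l, q.1 < D.nroots := by
    intro q hq
    obtain ⟨c, hc, hqc⟩ := hmem q hq
    rw [hqc]
    exact (hT c hc).2.1
  have hadd : ∀ u u' : K, Wl2 C P l (u + u') = Wl2 C P l u * Wl2 C P l u' := by
    apply Wl2_add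
    intro p hp
    obtain ⟨c, hc, hpc⟩ := hmem p hp
    refine ⟨hlt p hp, fun q hq => ?_⟩
    obtain ⟨c', hc', hqc⟩ := hmem q hq
    rw [hpc, hqc]
    exact hLC _ _ (hT c hc).2.1 (hT c' hc').2.1 ((hT c hc).2.2.2.2 c' hc')
  have hcomm : ∀ u u' : K, Wl2 C P l u * YT2 C P s u' = YT2 C P s u' * Wl2 C P l u := by
    intro u u'
    apply Wl2_comm C P l s hs
    intro q hq
    obtain ⟨c, hc, hqc⟩ := hmem q hq
    refine ⟨hlt q hq, ?_⟩
    rw [hqc]
    exact hLC _ _ hs (hT c hc).2.1 (hT c hc).2.2.2.1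
  have key := torus_kill C.Ψ C.hc (YT2 C P s) (YT2 C P r t) (fun u => (Wl2 C P l u)⁻¹)
    (hlT C γ P.ω) (P.ω ^ (pairZ D γ s)) h0
    (YT2_add C P s hs (hLC s s hs hs (by simp [cmT]))) ?_ ?_ ?_ ?_ ?_ ?_ u
  · calc (YT2 C P s u)⁻¹ * (YT2 C P r t)⁻¹ * YT2 C P s u * YT2 C P r t
        = ((YT2 C P r t)⁻¹ * (YT2 C P s u)⁻¹ * YT2 C P r t * YT2 C P s u)⁻¹ := by group
      _ = Wl2 C P l u := by rw [key, inv_inv]
  · intro u u'
    show (Wl2 C P l (u + u'))⁻¹ = (Wl2 C P l u)⁻¹ * (Wl2 C P l u')⁻¹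
    rw [add_comm, hadd, mul_inv_rev]
  · intro u u'
    show (Wl2 C P l u)⁻¹ * YT2 C P s u' = YT2 C P s u' * (Wl2 C P l u)⁻¹
    calc (Wl2 C P l u)⁻¹ * YT2 C P s u'
        = (Wl2 C P l u)⁻¹ * (YT2 C P s u' * Wl2 C P l u) * (Wl2 C P l u)⁻¹ := by group
      _ = YT2 C P s u' * (Wl2 C P l u)⁻¹ := by rw [← hcomm]; group
  · intro u
    rw [conj_YT2 C P s hs γ hγ _ (Ψ_hlT C γ hγ _ P.h0)]
  · rw [map_mul, map_mul, map_inv, Ψ_hlT C γ hγ _ P.h0, Ψ_YT2 C P r hr,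
      hGL_conj_x_gen D hD γ hγ P.ω P.h0, h1, zpow_zero, one_mul]
  · intro u
    show hlT C γ P.ω * (Wl2 C P l u)⁻¹ * (hlT C γ P.ω)⁻¹
      = (Wl2 C P l (P.ω ^ (pairZ D γ s) * u))⁻¹
    have hcj : hlT C γ P.ω * Wl2 C P l u * (hlT C γ P.ω)⁻¹
        = Wl2 C P l (P.ω ^ (pairZ D γ s) * u) := by
      apply Wl2_conj C P l γ hγ (pairZ D γ s) _ _ (Ψ_hlT C γ hγ _ P.h0)
      intro q hq
      obtain ⟨c, hc, hqc⟩ := hmem q hq
      refine ⟨hlt q hq, ?_⟩
      rw [hqc]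
      exact (hT c hc).2.2.1
    rw [← hcj]
    group
  · intro u
    show C.Ψ ((YT2 C P r t)⁻¹ * (YT2 C P s u)⁻¹ * YT2 C P r t * YT2 C P s u) = C.Ψ (Wl2 C P l u)⁻¹
    rw [map_inv (C.Ψ) (Wl2 C P l u), Ψ_Wl2 C P l hlt, ← hcw, map_mul, map_mul, map_mul, map_inv,
      map_inv, Ψ_YT2 C P s hs, Ψ_YT2 C P r hr, ← xGL_comm D hD r s t u hr hs hsr hsn]
    group

end Cfsg.Agent.Lib.Helper8.StT2
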