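import Mathlib
import Cfsg.Agent.Lib.Helper8.StT2C

set_option autoImplicit false

/-!
The Boolean certificate for the torus trick with exponents `1` and (optionally) `2`, and the
lifting theorem for certified data: a central extension of the Chevalley group receives a
homomorphism from the group presented by (R1), (R2).  Lifts inside one root subgroup are assumed to
commute, and so are the lifts of the commuting pairs that the certificate marks as external.
-/

namespace Cfsg.Agent.Lib.Helper8.StT2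

open Cfsg Cfsg.Lie Cfsg.Agent.Lib.Helper5.ChevSym Cfsg.Agent.Lib.Helper5.ChevStruct
  Cfsg.Agent.Lib.Helper5.StPres Cfsg.Agent.Lib.Helper9.InvolX Cfsg.Agent.Lib.Helper8.StLift
  Cfsg.Agent.Lib.Helper8.StSl Cfsg.Agent.Lib.Helper8.StT

/-! ### The checker -/

/-- the admissible exponents -/
def mOK (two : Bool) (m : ℤ) : Bool := (m == 1) || (two && m == 2)

theorem mOK_spec {K : Type*} [Field K] {two : Bool} {m : ℤ} (h : mOK two m = true) (ω : K)
    (h1 : ω ≠ 1) (h2 : two = true → ω ^ (2 : ℤ) ≠ 1) : ω ^ m ≠ 1 := by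
  unfold mOK at h
  rw [Bool.or_eq_true, Bool.and_eq_true] at h
  rcases h with h | ⟨ht, h⟩
  · have : m = 1 := by simpa using h
    rw [this, zpow_one]
    exact h1
  · have : m = 2 := by simpa using h
    rw [this]
    exact h2 ht

def chkGam2 (D : ChevalleyDatum) (two : Bool) (gam : ℕ → ℕ) (r : ℕ) : Bool :=
  decide (gam r < D.nroots) && mOK two (pairZ D (gam r) r)

def termsL2 (D : ChevalleyDatum) (r γ : ℕ) (T : List (ℕ × ℤ × ℕ × ℕ)) : Bool :=
  T.all fun c => (c.2.2.1 == 1) && decide (c.1 < D.nroots) && (pairZ D γ c.1 == pairZ D γ r) &&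
    cmT D r c.1 && T.all fun c' => cmT D c.1 c'.1

def termsR2 (D : ChevalleyDatum) (s γ : ℕ) (T : List (ℕ × ℤ × ℕ × ℕ)) : Bool :=
  T.all fun c => (c.2.2.2 == 1) && decide (c.1 < D.nroots) && (pairZ D γ c.1 == pairZ D γ s) &&
    cmT D s c.1 && T.all fun c' => cmT D c.1 c'.1

def chkL2 (D : ChevalleyDatum) (two : Bool) (r s γ : ℕ) : Bool :=
  decide (γ < D.nroots) && mOK two (pairZ D γ r) && (pairZ D γ s == 0) &&
    termsL2 D r γ (D.commTerms r s)

def chkR2 (D : ChevalleyDatum) (two : Bool) (r s γ : ℕ) : Bool :=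
  decide (γ < D.nroots) && (pairZ D γ r == 0) && mOK two (pairZ D γ s) &&
    termsR2 D s γ (D.commTerms r s)

/-- the check of the ordered pair `(r, s)`; the table entry `tw r s` is `γ + 65536 * type`, and a
type `≥ 2` marks a commuting pair handled outside -/
def chkPair2 (D : ChevalleyDatum) (two : Bool) (tw : ℕ → ℕ → ℕ) (r s : ℕ) : Bool :=
  (s == r) || (s == D.neg r) ||
  (if tw r s / 65536 = 0 then chkL2 D two r s (tw r s % 256)
   else if tw r s / 65536 = 1 then chkR2 D two r s (tw r s % 256)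
   else (D.commTerms r s).isEmpty)

/-- the certificate -/
structure CertT2 (D : ChevalleyDatum) (two : Bool) (gam : ℕ → ℕ) (tw : ℕ → ℕ → ℕ) : Prop where
  hgam : ∀ r < D.nroots, chkGam2 D two gam r = true
  hpair : ∀ r < D.nroots, ∀ s < D.nroots, chkPair2 D two tw r s = true

theorem chkL2_spec {D : ChevalleyDatum} {two : Bool} {r s γ : ℕ} (h : chkL2 D two r s γ = true) :
    γ < D.nroots ∧ mOK two (pairZ D γ r) = true ∧ pairZ D γ s = 0 ∧
    ∀ c ∈ D.commTerms r s, c.2.2.1 = 1 ∧ c.1 < D.nroots ∧ pairZ D γ c.1 = pairZ D γ r ∧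
      cmT D r c.1 = true ∧ ∀ c' ∈ D.commTerms r s, cmT D c.1 c'.1 = true := by
  unfold chkL2 termsL2 at h
  simp only [Bool.and_eq_true, decide_eq_true_eq, beq_iff_eq, List.all_eq_true] at h
  obtain ⟨⟨⟨h1, h2⟩, h3⟩, h4⟩ := h
  refine ⟨h1, h2, h3, fun c hc => ?_⟩
  obtain ⟨⟨⟨⟨a1, a2⟩, a3⟩, a4⟩, a5⟩ := h4 c hc
  exact ⟨a1, a2, a3, a4, a5⟩

theorem chkR2_spec {D : ChevalleyDatum} {two : Bool} {r s γ : ℕ} (h : chkR2 D two r s γ = true) :
    γ < D.nroots ∧ pairZ D γ r = 0 ∧ mOK two (pairZ D γ s) = true ∧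
    ∀ c ∈ D.commTerms r s, c.2.2.2 = 1 ∧ c.1 < D.nroots ∧ pairZ D γ c.1 = pairZ D γ s ∧
      cmT D s c.1 = true ∧ ∀ c' ∈ D.commTerms r s, cmT D c.1 c'.1 = true := by
  unfold chkR2 termsR2 at h
  simp only [Bool.and_eq_true, decide_eq_true_eq, beq_iff_eq, List.all_eq_true] at h
  obtain ⟨⟨⟨h1, h2⟩, h3⟩, h4⟩ := h
  refine ⟨h1, h2, h3, fun c hc => ?_⟩
  obtain ⟨⟨⟨⟨a1, a2⟩, a3⟩, a4⟩, a5⟩ := h4 c hc
  exact ⟨a1, a2, a3, a4, a5⟩

section cert

variable {D : ChevalleyDatum} {hD : D ∈ Seven} {K : Type*} [Field K] {E : Type*} [Group E]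
  (C : Ctx0 D hD K E) {two : Bool} {gam : ℕ → ℕ} {tw : ℕ → ℕ → ℕ}
  (hC : CertT2 D two gam tw)

include hC

/-- the parameters of the canonical lifts given by the certificate -/
def CertT2.par (ω : K) (h0 : ω ≠ 0) (h1 : ω ≠ 1) (h2 : two = true → ω ^ (2 : ℤ) ≠ 1) :
    Par2 D K where
  ω := ω
  h0 := h0
  gam := gam
  hgam := by
    intro r hr
    have h := hC.hgam r hr
    unfold chkGam2 at h
    simp only [Bool.and_eq_true, decide_eq_true_eq] at h
    exact ⟨h.1, mOK_spec h.2 ω h1 h2⟩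

omit hC in
theorem cm_symm2 {a b : ℕ} (h : Cm (xGL (F := K) D hD) a b) : Cm (xGL (F := K) D hD) b a :=
  fun t u => (h u t).symm

/-- the torus trick for a commuting pair with a table entry of torus type -/
theorem CertT2.lcm_torus (ω : K) (h0 : ω ≠ 0) (h1 : ω ≠ 1) (h2 : two = true → ω ^ (2 : ℤ) ≠ 1)
    {r s : ℕ} (hr : r < D.nroots)
    (hs : s < D.nroots) (hsr : s ≠ r) (hsn : s ≠ D.neg r) (hT : D.commTerms r s = [])
    (hw : tw r s / 65536 < 2) : LCm C.Ψ (xGL D hD) r s := by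
  have hcm : Cm (xGL (F := K) D hD) r s := by
    apply cm_of_cmT hD K hr hs
    unfold cmT
    simp [hsn, hT]
  have h := hC.hpair r hr s hs
  unfold chkPair2 at h
  have e1 : (s == r) = false := by simpa using hsr
  have e2 : (s == D.neg r) = false := by simpa using hsn
  rw [e1, e2, Bool.false_or, Bool.false_or] at h
  by_cases hw0 : tw r s / 65536 = 0
  · rw [if_pos hw0] at h
    obtain ⟨hγ, hm, hp0, -⟩ := chkL2_spec h
    exact lcm_of_torus0 C ω h0 _ hγ (mOK_spec hm ω h1 h2) hp0 hcm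
  · have hw1 : tw r s / 65536 = 1 := by omega
    rw [if_neg hw0, if_pos hw1] at h
    obtain ⟨hγ, hp0, hm, -⟩ := chkR2_spec h
    exact lcm_symm C (lcm_of_torus0 C ω h0 _ hγ (mOK_spec hm ω h1 h2) hp0 (cm_symm2 hcm))

/-- lifts of commuting root elements commute -/
theorem CertT2.lcm_all (hself : ∀ r < D.nroots, LCm C.Ψ (xGL D hD) r r)
    (hext : ∀ r s, r < D.nroots → s < D.nroots → s ≠ r → s ≠ D.neg r → D.commTerms r s = [] →
      2 ≤ tw r s / 65536 → LCm C.Ψ (xGL D hD) r s)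
    (ω : K) (h0 : ω ≠ 0) (h1 : ω ≠ 1) (h2 : two = true → ω ^ (2 : ℤ) ≠ 1)
    (a b : ℕ) (ha : a < D.nroots)
    (hb : b < D.nroots) (h : cmT D a b = true) : LCm C.Ψ (xGL D hD) a b := by
  rcases cmT_spec h with h | ⟨hba, hbn, hT⟩
  · subst h
    exact hself a ha
  by_cases hw : tw a b / 65536 < 2
  · exact hC.lcm_torus C ω h0 h1 h2 ha hb hba hbn hT hw
  · exact hext a b ha hb hba hbn hT (by omega)

/-- the lifting theorem for certified data -/
theorem CertT2.exists_lift (hself : ∀ r < D.nroots, LCm C.Ψ (xGL D hD) r r)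
    (hext : ∀ r s, r < D.nroots → s < D.nroots → s ≠ r → s ≠ D.neg r → D.commTerms r s = [] →
      2 ≤ tw r s / 65536 → LCm C.Ψ (xGL D hD) r s)
    (ω : K) (h0 : ω ≠ 0) (h1 : ω ≠ 1) (h2 : two = true → ω ^ (2 : ℤ) ≠ 1) :
    ∃ τ : D.SteinbergCover K →* E, ∀ (r : ℕ) (t : K), r < D.nroots →
      C.Ψ (τ (D.scGen K r t)) = xGL D hD r t := by
  have hLC := hC.lcm_all C hself hext ω h0 h1 h2
  obtain ⟨τ, hτ⟩ := lift_of_Y hD (YT2 C (hC.par ω h0 h1 h2))
    (fun r t u hr => (YT2_add C (hC.par ω h0 h1 h2) r hr (hself r hr) t u).symm) (by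
    intro r s t u hr hs hsr hsn
    by_cases hT : D.commTerms r s = []
    · unfold ChevalleyDatum.commWord
      rw [hT, List.map_nil, List.map_nil, List.prod_nil]
      have hcm : cmT D r s = true := by
        unfold cmT
        simp [hsn, hT]
      have h := hLC r s hr hs hcm _ _ t u (Ψ_YT2 C (hC.par ω h0 h1 h2) r hr t)
        (Ψ_YT2 C (hC.par ω h0 h1 h2) s hs u)
      calc (YT2 C (hC.par ω h0 h1 h2) s u)⁻¹ * (YT2 C (hC.par ω h0 h1 h2) r t)⁻¹
            * YT2 C (hC.par ω h0 h1 h2) s u * YT2 C (hC.par ω h0 h1 h2) r t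
          = (YT2 C (hC.par ω h0 h1 h2) s u)⁻¹ * (YT2 C (hC.par ω h0 h1 h2) r t)⁻¹
            * (YT2 C (hC.par ω h0 h1 h2) s u * YT2 C (hC.par ω h0 h1 h2) r t) := by group
        _ = (YT2 C (hC.par ω h0 h1 h2) s u)⁻¹ * (YT2 C (hC.par ω h0 h1 h2) r t)⁻¹
            * (YT2 C (hC.par ω h0 h1 h2) r t * YT2 C (hC.par ω h0 h1 h2) s u) := by rw [h]
        _ = 1 := by group
    · have hp := hC.hpair r hr s hs
      unfold chkPair2 at hp
      have e1 : (s == r) = false := by simpa using hsr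
      have e2 : (s == D.neg r) = false := by simpa using hsn
      rw [e1, e2, Bool.false_or, Bool.false_or] at hp
      by_cases hw0 : tw r s / 65536 = 0
      · rw [if_pos hw0] at hp
        obtain ⟨hγ, hm, hp0, hterms⟩ := chkL2_spec hp
        exact rel_L2 C (hC.par ω h0 h1 h2) hLC hr hs hsr hsn _ hγ (mOK_spec hm ω h1 h2) hp0
          hterms t u
      by_cases hw1 : tw r s / 65536 = 1
      · rw [if_neg hw0, if_pos hw1] at hp
        obtain ⟨hγ, hp0, hm, hterms⟩ := chkR2_spec hp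
        exact rel_R2 C (hC.par ω h0 h1 h2) hLC hr hs hsr hsn _ hγ hp0 (mOK_spec hm ω h1 h2)
          hterms t u
      · rw [if_neg hw0, if_neg hw1] at hp
        exact absurd (by simpa using hp) hT)
  exact ⟨τ, fun r t hr => by rw [hτ r t hr, Ψ_YT2 C (hC.par ω h0 h1 h2) r hr]⟩

end cert

end Cfsg.Agent.Lib.Helper8.StT2
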