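import Mathlib
import Cfsg.Agent.Lib.Helper8.StTC

set_option autoImplicit false

/-!
The Boolean certificate for the torus trick, and the lifting theorem for certified data over every
field with an element `ω ≠ 0, 1`: a central extension of the Chevalley group receives a
homomorphism from the group presented by (R1), (R2).
-/

namespace Cfsg.Agent.Lib.Helper8.StT

open Cfsg Cfsg.Lie Cfsg.Agent.Lib.Helper5.ChevSym Cfsg.Agent.Lib.Helper5.ChevStruct
  Cfsg.Agent.Lib.Helper5.StPres Cfsg.Agent.Lib.Helper9.InvolX Cfsg.Agent.Lib.Helper8.StLift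
  Cfsg.Agent.Lib.Helper8.StSl

section special

variable {D : ChevalleyDatum} {hD : D ∈ Seven} {K : Type*} [Field K] {E : Type*} [Group E]
  (C : Ctx0 D hD K E) (P : Par D K)

include P in
/-- lifts of commuting root elements `x_a`, `x_b` commute when `b = α + 2β` is the long end of the
commutator of `x_α`, `x_β`, both commuting with `x_a`, and lifts of `x_a`, `x_{α+β}` commute -/
theorem lcm_special {a b α β ab : ℕ} {C1 C2 : ℤ} (hα : α < D.nroots) (hβ : β < D.nroots)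
    (hab : ab < D.nroots) (hβα : β ≠ α) (hβn : β ≠ D.neg α)
    (hT : D.commTerms α β = [(ab, C1, 1, 1), (b, C2, 1, 2)]) (hC2 : pmB C2 = true)
    (h1 : Cm (xGL (F := K) D hD) a α) (h2 : Cm (xGL (F := K) D hD) a β)
    (h3 : LCm C.Ψ (xGL D hD) a ab) : LCm C.Ψ (xGL D hD) a b := by
  intro e e' t v he he'
  set t' : K := -(C2 : K) * v with ht'
  have hR := xGL_comm (K := K) D hD α β t' 1 hα hβ hβα hβn
  unfold ChevalleyDatum.commWord at hR
  rw [hT, List.map_cons, List.map_cons, List.map_nil, wordGL_cons, wordGL_cons, wordGL_nil,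
    mul_one] at hR
  simp only [] at hR
  have hv : (C2 : K) * (-t') ^ 1 * 1 ^ 2 = v := by
    rw [ht']
    calc (C2 : K) * (-(-(C2 : K) * v)) ^ 1 * 1 ^ 2 = ((C2 : K) * (C2 : K)) * v := by ring
      _ = v := by rw [pm_cast_sq hC2, one_mul]
  rw [hv] at hR
  set p : K := (C1 : K) * (-t') ^ 1 * 1 ^ 1 with hp
  have hcm : C.Ψ (cm (C.xl β (-1)) (C.xl α (-t'))) = xGL D hD ab p * xGL D hD b v := by
    rw [map_cm, C.Ψ_xl, C.Ψ_xl, xGL_neg D hD β hβ, xGL_neg D hD α hα, ← hR]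
    unfold cm
    group
  have hΨ : C.Ψ ((YT C P ab p)⁻¹ * cm (C.xl β (-1)) (C.xl α (-t'))) = C.Ψ e' := by
    rw [map_mul, map_inv, Ψ_YT C P ab hab, hcm, he']
    group
  obtain ⟨z, hz, hf⟩ := conj_eq_mul_central C.Ψ C.hc (e := e) (f := C.xl β (-1))
    (by rw [he, C.Ψ_xl]; exact h2 t _)
  obtain ⟨z', hz', hg⟩ := conj_eq_mul_central C.Ψ C.hc (e := e) (f := C.xl α (-t'))
    (by rw [he, C.Ψ_xl]; exact h1 t _)
  have h4 := commute_cm_of_central hz hz' hf hg
  have h5 : e * YT C P ab p = YT C P ab p * e := h3 e _ t p he (Ψ_YT C P ab hab p)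
  have h6 : e * (YT C P ab p)⁻¹ = (YT C P ab p)⁻¹ * e := by
    calc e * (YT C P ab p)⁻¹ = (YT C P ab p)⁻¹ * (YT C P ab p * e) * (YT C P ab p)⁻¹ := by group
      _ = (YT C P ab p)⁻¹ * e := by rw [← h5]; group
  have h7 : (YT C P ab p)⁻¹ * cm (C.xl β (-1)) (C.xl α (-t')) * e
      = e * ((YT C P ab p)⁻¹ * cm (C.xl β (-1)) (C.xl α (-t'))) := by
    calc (YT C P ab p)⁻¹ * cm (C.xl β (-1)) (C.xl α (-t')) * e
        = (YT C P ab p)⁻¹ * (cm (C.xl β (-1)) (C.xl α (-t')) * e) := by group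
      _ = ((YT C P ab p)⁻¹ * e) * cm (C.xl β (-1)) (C.xl α (-t')) := by rw [← h4]; group
      _ = e * ((YT C P ab p)⁻¹ * cm (C.xl β (-1)) (C.xl α (-t'))) := by rw [← h6]; group
  exact (commute_lift_indep C.Ψ C.hc hΨ h7).symm

end special

/-! ### The checker -/

def chkGam (D : ChevalleyDatum) (gam : ℕ → ℕ) (r : ℕ) : Bool :=
  decide (gam r < D.nroots) && (pairZ D (gam r) r == 1)

def chkSelf (D : ChevalleyDatum) (decA : ℕ → ℕ × ℕ) (r : ℕ) : Bool :=
  decide ((decA r).1 < D.nroots) && decide ((decA r).2 < D.nroots) &&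
  ((decA r).2 != (decA r).1) && ((decA r).2 != D.neg (decA r).1) &&
  (match D.commTerms (decA r).1 (decA r).2 with
   | [(k, N, i, j)] => (k == r) && pmB N && (i == 1) && (j == 1)
   | _ => false) && cmT D r (decA r).1 && cmT D r (decA r).2

def termsL (D : ChevalleyDatum) (r γ : ℕ) (T : List (ℕ × ℤ × ℕ × ℕ)) : Bool :=
  T.all fun c => (c.2.2.1 == 1) && decide (c.1 < D.nroots) && (pairZ D γ c.1 == 1) &&
    cmT D r c.1 && T.all fun c' => cmT D c.1 c'.1

def termsR (D : ChevalleyDatum) (s γ : ℕ) (T : List (ℕ × ℤ × ℕ × ℕ)) : Bool :=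
  T.all fun c => (c.2.2.2 == 1) && decide (c.1 < D.nroots) && (pairZ D γ c.1 == 1) &&
    cmT D s c.1 && T.all fun c' => cmT D c.1 c'.1

def chkL (D : ChevalleyDatum) (r s γ : ℕ) : Bool :=
  decide (γ < D.nroots) && (pairZ D γ r == 1) && (pairZ D γ s == 0) &&
    termsL D r γ (D.commTerms r s)

def chkR (D : ChevalleyDatum) (r s γ : ℕ) : Bool :=
  decide (γ < D.nroots) && (pairZ D γ r == 0) && (pairZ D γ s == 1) &&
    termsR D s γ (D.commTerms r s)

def chkS (D : ChevalleyDatum) (tw : ℕ → ℕ → ℕ) (r s α β : ℕ) : Bool :=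
  (D.commTerms r s).isEmpty && decide (α < D.nroots) && decide (β < D.nroots) && (β != α) &&
  (β != D.neg α) &&
  (match D.commTerms α β with
   | [(ab, _, i1, j1), (b, C2, i2, j2)] =>
       (b == s) && pmB C2 && (i1 == 1) && (j1 == 1) && (i2 == 1) && (j2 == 2) &&
       decide (ab < D.nroots) && cmT D r α && cmT D r β && (ab != r) && (ab != D.neg r) &&
       (D.commTerms r ab).isEmpty && decide (tw r ab / 65536 < 2)
   | _ => false)

/-- the check of the ordered pair `(r, s)`; the table entry `tw r s` is `γ + 65536 * type`, or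
`α + 256 β + 65536 * 2` -/
def chkPair (D : ChevalleyDatum) (tw : ℕ → ℕ → ℕ) (r s : ℕ) : Bool :=
  (s == r) || (s == D.neg r) ||
  (if tw r s / 65536 = 0 then chkL D r s (tw r s % 256)
   else if tw r s / 65536 = 1 then chkR D r s (tw r s % 256)
   else chkS D tw r s (tw r s % 256) (tw r s / 256 % 256))

/-- the certificate -/
structure CertT (D : ChevalleyDatum) (gam : ℕ → ℕ) (decA : ℕ → ℕ × ℕ) (tw : ℕ → ℕ → ℕ) :
    Prop where
  hgam : ∀ r < D.nroots, chkGam D gam r = true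
  hself : ∀ r < D.nroots, chkSelf D decA r = true
  hpair : ∀ r < D.nroots, ∀ s < D.nroots, chkPair D tw r s = true

theorem chkL_spec {D : ChevalleyDatum} {r s γ : ℕ} (h : chkL D r s γ = true) :
    γ < D.nroots ∧ pairZ D γ r = 1 ∧ pairZ D γ s = 0 ∧
    ∀ c ∈ D.commTerms r s, c.2.2.1 = 1 ∧ c.1 < D.nroots ∧ pairZ D γ c.1 = 1 ∧
      cmT D r c.1 = true ∧ ∀ c' ∈ D.commTerms r s, cmT D c.1 c'.1 = true := by
  unfold chkL termsL at h
  simp only [Bool.and_eq_true, decide_eq_true_eq, beq_iff_eq, List.all_eq_true] at h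
  obtain ⟨⟨⟨h1, h2⟩, h3⟩, h4⟩ := h
  refine ⟨h1, h2, h3, fun c hc => ?_⟩
  obtain ⟨⟨⟨⟨a1, a2⟩, a3⟩, a4⟩, a5⟩ := h4 c hc
  exact ⟨a1, a2, a3, a4, a5⟩

theorem chkR_spec {D : ChevalleyDatum} {r s γ : ℕ} (h : chkR D r s γ = true) :
    γ < D.nroots ∧ pairZ D γ r = 0 ∧ pairZ D γ s = 1 ∧
    ∀ c ∈ D.commTerms r s, c.2.2.2 = 1 ∧ c.1 < D.nroots ∧ pairZ D γ c.1 = 1 ∧
      cmT D s c.1 = true ∧ ∀ c' ∈ D.commTerms r s, cmT D c.1 c'.1 = true := by
  unfold chkR termsR at h
  simp only [Bool.and_eq_true, decide_eq_true_eq, beq_iff_eq, List.all_eq_true] at h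
  obtain ⟨⟨⟨h1, h2⟩, h3⟩, h4⟩ := h
  refine ⟨h1, h2, h3, fun c hc => ?_⟩
  obtain ⟨⟨⟨⟨a1, a2⟩, a3⟩, a4⟩, a5⟩ := h4 c hc
  exact ⟨a1, a2, a3, a4, a5⟩

theorem chkS_spec {D : ChevalleyDatum} {tw : ℕ → ℕ → ℕ} {r s α β : ℕ}
    (h : chkS D tw r s α β = true) :
    D.commTerms r s = [] ∧ α < D.nroots ∧ β < D.nroots ∧ β ≠ α ∧ β ≠ D.neg α ∧
    ∃ ab C1 C2, D.commTerms α β = [(ab, C1, 1, 1), (s, C2, 1, 2)] ∧ pmB C2 = true ∧
      ab < D.nroots ∧ cmT D r α = true ∧ cmT D r β = true ∧ ab ≠ r ∧ ab ≠ D.neg r ∧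
      D.commTerms r ab = [] ∧ tw r ab / 65536 < 2 := by
  unfold chkS at h
  rw [Bool.and_eq_true, Bool.and_eq_true, Bool.and_eq_true, Bool.and_eq_true,
    Bool.and_eq_true] at h
  obtain ⟨⟨⟨⟨⟨h1, h2⟩, h3⟩, h4⟩, h5⟩, h6⟩ := h
  refine ⟨by simpa using h1, by simpa using h2, by simpa using h3, by simpa using h4,
    by simpa using h5, ?_⟩
  split at h6
  · rename_i ab C1 i1 j1 b C2 i2 j2 heq
    simp only [Bool.and_eq_true, decide_eq_true_eq, beq_iff_eq, bne_iff_ne, ne_eq,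
      List.isEmpty_iff] at h6
    obtain ⟨⟨⟨⟨⟨⟨⟨⟨⟨⟨⟨⟨a1, a2⟩, a3⟩, a4⟩, a5⟩, a6⟩, a7⟩, a8⟩, a9⟩, a10⟩, a11⟩, a12⟩, a13⟩ := h6
    subst a1 a3 a4 a5 a6
    exact ⟨ab, C1, C2, heq, a2, a7, a8, a9, a10, a11, a12, a13⟩
  · exact absurd h6 (by simp)

section cert

variable {D : ChevalleyDatum} {hD : D ∈ Seven} {K : Type*} [Field K] {E : Type*} [Group E]
  (C : Ctx0 D hD K E) {gam : ℕ → ℕ} {decA : ℕ → ℕ × ℕ} {tw : ℕ → ℕ → ℕ}
  (hC : CertT D gam decA tw)

include hC

/-- the parameters of the canonical lifts given by the certificate -/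
def CertT.par (ω : K) (h0 : ω ≠ 0) (h1 : ω ≠ 1) : Par D K where
  ω := ω
  h0 := h0
  h1 := h1
  gam := gam
  hgam := by
    intro r hr
    have h := hC.hgam r hr
    unfold chkGam at h
    simp only [Bool.and_eq_true, decide_eq_true_eq, beq_iff_eq] at h
    exact h

/-- stage 0: lifts of elements of one root subgroup commute -/
theorem CertT.lcm_self {r : ℕ} (hr : r < D.nroots) : LCm C.Ψ (xGL D hD) r r := by
  have h := hC.hself r hr
  unfold chkSelf at h
  rw [Bool.and_eq_true, Bool.and_eq_true, Bool.and_eq_true, Bool.and_eq_true, Bool.and_eq_true,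
    Bool.and_eq_true] at h
  obtain ⟨⟨⟨⟨⟨⟨h1, h2⟩, h3⟩, h4⟩, h5⟩, h6⟩, h7⟩ := h
  have h1' : (decA r).1 < D.nroots := by simpa using h1
  have h2' : (decA r).2 < D.nroots := by simpa using h2
  have h3' : (decA r).2 ≠ (decA r).1 := by simpa using h3
  have h4' : (decA r).2 ≠ D.neg (decA r).1 := by simpa using h4
  split at h5
  · rename_i k N i j heq
    simp only [Bool.and_eq_true, beq_iff_eq] at h5
    obtain ⟨⟨⟨a1, a2⟩, a3⟩, a4⟩ := h5
    subst a1 a3 a4
    exact lcm_of_dec C.hc C.xl C.Ψ_xl (pm_cast_sq a2)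
      (sm_of_terms hD K h1' h2' hr h3' h4' heq) (cm_of_cmT hD K hr h1' h6)
      (cm_of_cmT hD K hr h2' h7)
  · exact absurd h5 (by simp)

omit hC in
theorem cm_symm {a b : ℕ} (h : Cm (xGL (F := K) D hD) a b) : Cm (xGL (F := K) D hD) b a :=
  fun t u => (h u t).symm

/-- stage 1a: the torus trick for a commuting pair with a table entry of torus type -/
theorem CertT.lcm_torus (ω : K) (h0 : ω ≠ 0) (h1 : ω ≠ 1) {r s : ℕ} (hr : r < D.nroots)
    (hs : s < D.nroots) (hsr : s ≠ r) (hsn : s ≠ D.neg r) (hT : D.commTerms r s = [])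
    (hw : tw r s / 65536 < 2) : LCm C.Ψ (xGL D hD) r s := by
  have hcm : Cm (xGL (F := K) D hD) r s := by
    apply cm_of_cmT hD K hr hs
    unfold cmT
    simp [hsn, hT]
  have h := hC.hpair r hr s hs
  unfold chkPair at h
  have e1 : (s == r) = false := by simpa using hsr
  have e2 : (s == D.neg r) = false := by simpa using hsn
  rw [e1, e2, Bool.false_or, Bool.false_or] at h
  by_cases hw0 : tw r s / 65536 = 0
  · rw [if_pos hw0] at h
    obtain ⟨hγ, hp1, hp0, -⟩ := chkL_spec h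
    exact lcm_of_torus C (hC.par ω h0 h1) hr (hC.lcm_self C hr) _ hγ hp1 hp0 hcm
  · have hw1 : tw r s / 65536 = 1 := by omega
    rw [if_neg hw0, if_pos hw1] at h
    obtain ⟨hγ, hp0, hp1, -⟩ := chkR_spec h
    exact lcm_symm C (lcm_of_torus C (hC.par ω h0 h1) hs (hC.lcm_self C hs) _ hγ hp1 hp0
      (cm_symm hcm))

/-- stage 1: lifts of commuting root elements commute -/
theorem CertT.lcm_all (ω : K) (h0 : ω ≠ 0) (h1 : ω ≠ 1) (a b : ℕ) (ha : a < D.nroots)
    (hb : b < D.nroots) (h : cmT D a b = true) : LCm C.Ψ (xGL D hD) a b := by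
  rcases cmT_spec h with h | ⟨hba, hbn, hT⟩
  · subst h
    exact hC.lcm_self C ha
  have hp := hC.hpair a ha b hb
  unfold chkPair at hp
  have e1 : (b == a) = false := by simpa using hba
  have e2 : (b == D.neg a) = false := by simpa using hbn
  rw [e1, e2, Bool.false_or, Bool.false_or] at hp
  by_cases hw : tw a b / 65536 < 2
  · exact hC.lcm_torus C ω h0 h1 ha hb hba hbn hT hw
  · rw [if_neg (by omega), if_neg (by omega)] at hp
    obtain ⟨-, hα, hβ, hβα, hβn, ab, C1, C2, hterms, hC2, hab, hc1, hc2, habr, habn, hTab, hwab⟩ :=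
      chkS_spec hp
    exact lcm_special C (hC.par ω h0 h1) hα hβ hab hβα hβn hterms hC2
      (cm_of_cmT hD K ha hα hc1) (cm_of_cmT hD K ha hβ hc2)
      (hC.lcm_torus C ω h0 h1 ha hab habr habn hTab hwab)

/-- the lifting theorem for certified data, over every field with an element `ω ≠ 0, 1` -/
theorem CertT.exists_lift (ω : K) (h0 : ω ≠ 0) (h1 : ω ≠ 1) :
    ∃ τ : D.SteinbergCover K →* E, ∀ (r : ℕ) (t : K), r < D.nroots →
      C.Ψ (τ (D.scGen K r t)) = xGL D hD r t := by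
  have hLC := hC.lcm_all C ω h0 h1
  obtain ⟨τ, hτ⟩ := lift_of_Y hD (YT C (hC.par ω h0 h1))
    (fun r t u hr => (YT_add C (hC.par ω h0 h1) r hr (hC.lcm_self C hr) t u).symm) (by
    intro r s t u hr hs hsr hsn
    by_cases hT : D.commTerms r s = []
    · unfold ChevalleyDatum.commWord
      rw [hT, List.map_nil, List.map_nil, List.prod_nil]
      have hcm : cmT D r s = true := by
        unfold cmT
        simp [hsn, hT]
      have h := hLC r s hr hs hcm _ _ t u (Ψ_YT C (hC.par ω h0 h1) r hr t)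
        (Ψ_YT C (hC.par ω h0 h1) s hs u)
      calc (YT C (hC.par ω h0 h1) s u)⁻¹ * (YT C (hC.par ω h0 h1) r t)⁻¹
            * YT C (hC.par ω h0 h1) s u * YT C (hC.par ω h0 h1) r t
          = (YT C (hC.par ω h0 h1) s u)⁻¹ * (YT C (hC.par ω h0 h1) r t)⁻¹
            * (YT C (hC.par ω h0 h1) s u * YT C (hC.par ω h0 h1) r t) := by group
        _ = (YT C (hC.par ω h0 h1) s u)⁻¹ * (YT C (hC.par ω h0 h1) r t)⁻¹
            * (YT C (hC.par ω h0 h1) r t * YT C (hC.par ω h0 h1) s u) := by rw [h]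
        _ = 1 := by group
    · have hp := hC.hpair r hr s hs
      unfold chkPair at hp
      have e1 : (s == r) = false := by simpa using hsr
      have e2 : (s == D.neg r) = false := by simpa using hsn
      rw [e1, e2, Bool.false_or, Bool.false_or] at hp
      by_cases hw0 : tw r s / 65536 = 0
      · rw [if_pos hw0] at hp
        obtain ⟨hγ, hp1, hp0, hterms⟩ := chkL_spec hp
        exact rel_L C (hC.par ω h0 h1) hLC hr hs hsr hsn _ hγ hp1 hp0 hterms t u
      by_cases hw1 : tw r s / 65536 = 1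
      · rw [if_neg hw0, if_pos hw1] at hp
        obtain ⟨hγ, hp0, hp1, hterms⟩ := chkR_spec hp
        exact rel_R C (hC.par ω h0 h1) hLC hr hs hsr hsn _ hγ hp0 hp1 hterms t u
      · rw [if_neg hw0, if_neg hw1] at hp
        exact absurd (chkS_spec hp).1 hT)
  exact ⟨τ, fun r t hr => by rw [hτ r t hr, Ψ_YT C (hC.par ω h0 h1) r hr]⟩

end cert

end Cfsg.Agent.Lib.Helper8.StT
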