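import Mathlib
import Cfsg.Agent.Lib.Helper8.StT2D
import Cfsg.Agent.Lib.Helper8.StTD

set_option autoImplicit false

/-!
Commutators of lifts of commuting root elements: biadditivity, the three-root move
`c_{a,b}(t, N₁ u) = c_{c,p}(u, N₂ t)` for `b = c + d`, `p = a + d`, and the field with three
elements: a cycle of moves of total sign `-1` kills the commutator.
-/

namespace Cfsg.Agent.Lib.Helper8.StT2

open Cfsg Cfsg.Lie Cfsg.Agent.Lib.Helper5.ChevSym Cfsg.Agent.Lib.Helper5.ChevStruct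
  Cfsg.Agent.Lib.Helper5.StPres Cfsg.Agent.Lib.Helper9.InvolX Cfsg.Agent.Lib.Helper8.StLift
  Cfsg.Agent.Lib.Helper8.StSl Cfsg.Agent.Lib.Helper8.StT

variable {D : ChevalleyDatum} {hD : D ∈ Seven} {K : Type*} [Field K] {E : Type*} [Group E]
  (C : Ctx0 D hD K E)

/-- lifts of elements of one root subgroup commute, by the commutator trick -/
theorem lcm_self_of_chk {decA : ℕ → ℕ × ℕ} {r : ℕ} (hr : r < D.nroots)
    (h : chkSelf D decA r = true) : LCm C.Ψ (xGL D hD) r r := by
  unfold chkSelf at h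
  rw [Bool.and_eq_true, Bool.and_eq_true, Bool.and_eq_true, Bool.and_eq_true, Bool.and_eq_true,
    Bool.and_eq_true] at h
  obtain ⟨⟨⟨⟨⟨⟨h1, h2⟩, h3⟩, h4⟩, h5⟩, h6⟩, h7⟩ := h
  have h1' : (decA r).1 < D.nroots := by simpa using h1
  have h2' : (decA r).2 < D.nroots := by simpa using h2
  have h3' : (decA r).2 ≠ (decA r).1 := by simpa using h3
  have h4' : (decA r).2 ≠ D.neg (decA r).1 := by simpa using h4
  split at h5
  · rename_i k N i j heq
    simp only [Bool.and_eq_true, beq_iff_eq] at h5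
    obtain ⟨⟨⟨a1, a2⟩, a3⟩, a4⟩ := h5
    subst a1 a3 a4
    exact lcm_of_dec C.hc C.xl C.Ψ_xl (pm_cast_sq a2)
      (sm_of_terms hD K h1' h2' hr h3' h4' heq) (cm_of_cmT hD K hr h1' h6)
      (cm_of_cmT hD K hr h2' h7)
  · exact absurd h5 (by simp)

/-- `x_r(0) = 1` also for indices out of range -/
theorem xGL_zero' (r : ℕ) : xGL (F := K) D hD r 0 = 1 := by
  by_cases hr : r < D.nroots
  · exact xGL_zero D hD r hr
  · apply Units.ext
    rw [xGL_val]
    unfold ChevalleyDatum.x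
    simp [hr]

theorem xGL_add' (r : ℕ) (t u : K) : xGL D hD r t * xGL D hD r u = xGL D hD r (t + u) := by
  by_cases hr : r < D.nroots
  · exact xGL_add D hD r hr t u
  · have hz : ∀ w : K, xGL D hD r w = 1 := by
      intro w
      apply Units.ext
      rw [xGL_val]
      unfold ChevalleyDatum.x
      simp [hr]
    rw [hz, hz, hz, one_mul]

/-- the commutator of the chosen lifts -/
noncomputable def cc (a b : ℕ) (t u : K) : E := cm (C.xl a t) (C.xl b u)

theorem cc_eq {a b : ℕ} {t u : K} {e e' : E} (he : C.Ψ e = xGL D hD a t)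
    (he' : C.Ψ e' = xGL D hD b u) : cm e e' = cc C a b t u := by
  unfold cc
  apply cm_lift_indep C.Ψ C.hc
  · rw [he, C.Ψ_xl]
  · rw [he', C.Ψ_xl]

theorem cc_central {a b : ℕ} (hcm : Cm (xGL (F := K) D hD) a b) (t u : K) :
    cc C a b t u ∈ Subgroup.center E := by
  apply C.hc
  unfold cc
  rw [MonoidHom.mem_ker, map_cm, C.Ψ_xl, C.Ψ_xl]
  unfold cm
  rw [hcm t u]
  group

theorem cc_add_left {a b : ℕ} (hcm : Cm (xGL (F := K) D hD) a b) (t t' u : K) :
    cc C a b (t + t') u = cc C a b t u * cc C a b t' u := by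
  have h1 : cc C a b (t + t') u = cm (C.xl a t * C.xl a t') (C.xl b u) := by
    symm
    apply cc_eq
    · rw [map_mul, C.Ψ_xl, C.Ψ_xl, xGL_add']
    · exact C.Ψ_xl _ _
  rw [h1, cm_mul_left]
  have hz := Subgroup.mem_center_iff.1 (cc_central C hcm t' u)
  show C.xl a t * cc C a b t' u * (C.xl a t)⁻¹ * cc C a b t u = _
  calc C.xl a t * cc C a b t' u * (C.xl a t)⁻¹ * cc C a b t u
      = (C.xl a t * cc C a b t' u) * (C.xl a t)⁻¹ * cc C a b t u := by group
    _ = (cc C a b t' u * C.xl a t) * (C.xl a t)⁻¹ * cc C a b t u := by rw [hz]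
    _ = cc C a b t' u * cc C a b t u := by group
    _ = cc C a b t u * cc C a b t' u := (hz _).symm

theorem cc_add_right {a b : ℕ} (hcm : Cm (xGL (F := K) D hD) a b) (t u u' : K) :
    cc C a b t (u + u') = cc C a b t u * cc C a b t u' := by
  have h1 : cc C a b t (u + u') = cm (C.xl a t) (C.xl b u * C.xl b u') := by
    symm
    apply cc_eq
    · exact C.Ψ_xl _ _
    · rw [map_mul, C.Ψ_xl, C.Ψ_xl, xGL_add']
  rw [h1, cm_mul_right]
  have hz := Subgroup.mem_center_iff.1 (cc_central C hcm t u')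
  show cc C a b t u * (C.xl b u * cc C a b t u' * (C.xl b u)⁻¹) = _
  congr 1
  rw [hz]
  group

theorem cc_zero_left {a b : ℕ} (hcm : Cm (xGL (F := K) D hD) a b) (u : K) :
    cc C a b 0 u = 1 := by
  have h := cc_add_left C hcm 0 0 u
  rw [add_zero] at h
  exact mul_eq_left.1 h.symm

theorem cc_zero_right {a b : ℕ} (hcm : Cm (xGL (F := K) D hD) a b) (t : K) :
    cc C a b t 0 = 1 := by
  have h := cc_add_right C hcm t 0 0
  rw [add_zero] at h
  exact mul_eq_left.1 h.symm

theorem cc_neg_left {a b : ℕ} (hcm : Cm (xGL (F := K) D hD) a b) (t u : K) :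
    cc C a b (-t) u = (cc C a b t u)⁻¹ := by
  have h := cc_add_left C hcm t (-t) u
  rw [add_neg_cancel, cc_zero_left C hcm] at h
  exact (inv_eq_of_mul_eq_one_right h.symm).symm

theorem cc_neg_right {a b : ℕ} (hcm : Cm (xGL (F := K) D hD) a b) (t u : K) :
    cc C a b t (-u) = (cc C a b t u)⁻¹ := by
  have h := cc_add_right C hcm t u (-u)
  rw [add_neg_cancel, cc_zero_right C hcm] at h
  exact (inv_eq_of_mul_eq_one_right h.symm).symm

/-- the three-root move -/
theorem move_eq {a b c d p : ℕ} {N1 N2 : K}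
    (hS1 : Sm (xGL (F := K) D hD) c d b N1) (hS2 : Sm (xGL (F := K) D hD) a d p N2)
    (hac : Cm (xGL (F := K) D hD) a c) (hpb : LCm C.Ψ (xGL D hD) p b) (t u : K) :
    cc C a b t (N1 * u) = cc C c p u (N2 * t) := by
  set e := C.xl a t with he
  set f := C.xl c u with hf
  set g := C.xl d 1 with hg
  have hV : C.Ψ (cm f g) = xGL D hD b (N1 * u) := by
    rw [map_cm, hf, hg, C.Ψ_xl, C.Ψ_xl, hS1, mul_one]
  have hW : C.Ψ (cm e g) = xGL D hD p (N2 * t) := by
    rw [map_cm, he, hg, C.Ψ_xl, C.Ψ_xl, hS2, mul_one]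
  obtain ⟨z, hz, hfz⟩ := conj_eq_mul_central C.Ψ C.hc (e := e) (f := f)
    (by rw [he, hf, C.Ψ_xl, C.Ψ_xl]; exact hac t u)
  have h1 : e * cm f g * e⁻¹ = cm (e * f * e⁻¹) (e * g * e⁻¹) := by unfold cm; group
  have h2 : e * g * e⁻¹ = cm e g * g := by unfold cm; group
  have h3 : cm (f * z) (cm e g * g) = cm f (cm e g * g) := by
    rw [cm_mul_left, cm_central_left hz]
    group
  have h4 : cm e g * cm f g * (cm e g)⁻¹ = cm f g := by
    rw [hpb _ _ _ _ hW hV]
    group
  have h5 : e * cm f g * e⁻¹ = cm f (cm e g) * cm f g := by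
    rw [h1, hfz, h2, h3, cm_mul_right, h4]
  have h6 : cm e (cm f g) = cm f (cm e g) := by
    calc cm e (cm f g) = (e * cm f g * e⁻¹) * (cm f g)⁻¹ := by unfold cm; group
      _ = cm f (cm e g) := by rw [h5]; group
  rw [← cc_eq C (C.Ψ_xl a t) hV, ← cc_eq C (C.Ψ_xl c u) hW]
  exact h6

/-! ### The field with three elements -/

section three

variable (hK3 : ∀ t : K, t = 0 ∨ t = 1 ∨ t = -1) (h3 : (1 : K) + 1 + 1 = 0)

include h3 in
theorem cc_cube {a b : ℕ} (hcm : Cm (xGL (F := K) D hD) a b) :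
    cc C a b 1 1 * cc C a b 1 1 * cc C a b 1 1 = 1 := by
  rw [← cc_add_left C hcm, ← cc_add_left C hcm, h3, cc_zero_left C hcm]

/-- the value at `(N₁, N₂)`, `N₁, N₂ = ±1` -/
theorem cc_pm {a b : ℕ} (hcm : Cm (xGL (F := K) D hD) a b) {N1 N2 : ℤ} (h1 : pmB N1 = true)
    (h2 : pmB N2 = true) :
    cc C a b (N1 : K) (N2 : K) = cc C a b 1 1 ^ (N1 * N2) := by
  rcases pmB_spec h1 with rfl | rfl <;> rcases pmB_spec h2 with rfl | rfl
  · simp
  · simp [cc_neg_right C hcm]
  · simp [cc_neg_left C hcm]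
  · simp [cc_neg_left C hcm, cc_neg_right C hcm]

include hK3 in
/-- over the field with three elements the commutator of lifts is determined by its value at
`(1, 1)` -/
theorem lcm_of_cc_one {a b : ℕ} (hcm : Cm (xGL (F := K) D hD) a b) (h : cc C a b 1 1 = 1) :
    LCm C.Ψ (xGL D hD) a b := by
  intro e e' t u he he'
  have h1 : cm e e' = 1 := by
    rw [cc_eq C he he']
    rcases hK3 t with rfl | rfl | rfl
    · exact cc_zero_left C hcm u
    · rcases hK3 u with rfl | rfl | rfl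
      · exact cc_zero_right C hcm _
      · exact h
      · rw [cc_neg_right C hcm, h, inv_one]
    · rcases hK3 u with rfl | rfl | rfl
      · exact cc_zero_right C hcm _
      · rw [cc_neg_left C hcm, h, inv_one]
      · rw [cc_neg_left C hcm, cc_neg_right C hcm, h, inv_one, inv_one]
  unfold cm at h1
  calc e * e' = (e * e' * e⁻¹ * e'⁻¹) * e' * e := by group
    _ = e' * e := by rw [h1, one_mul]

/-- one move at `(1, 1)` -/
theorem move_one {a b c d p : ℕ} {N1 N2 : ℤ} (hp1 : pmB N1 = true) (hp2 : pmB N2 = true)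
    (hS1 : Sm (xGL (F := K) D hD) c d b (N1 : K)) (hS2 : Sm (xGL (F := K) D hD) a d p (N2 : K))
    (hac : Cm (xGL (F := K) D hD) a c) (hcp : Cm (xGL (F := K) D hD) c p)
    (hpb : LCm C.Ψ (xGL D hD) p b) :
    cc C a b 1 1 = cc C c p 1 1 ^ (N1 * N2) := by
  have h := move_eq C hS1 hS2 hac hpb 1 (N1 : K)
  rw [pm_cast_sq hp1, mul_one, cc_pm C hcp hp1 hp2] at h
  exact h

end three

end Cfsg.Agent.Lib.Helper8.StT2
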