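import Mathlib
import Cfsg.Agent.Lib.Helper8.StT2E

set_option autoImplicit false

/-!
The field with three elements: the certificate of a cycle of three moves of total sign `-1` for a
pair of commuting roots that no torus element separates, and what it gives.
-/

namespace Cfsg.Agent.Lib.Helper8.StT2

open Cfsg Cfsg.Lie Cfsg.Agent.Lib.Helper5.ChevSym Cfsg.Agent.Lib.Helper5.ChevStruct
  Cfsg.Agent.Lib.Helper5.StPres Cfsg.Agent.Lib.Helper9.InvolX Cfsg.Agent.Lib.Helper8.StLift
  Cfsg.Agent.Lib.Helper8.StSl Cfsg.Agent.Lib.Helper8.StT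

/-- one step of a cycle: from the pair `(a, b)` and the decomposition `b = c + d` to the pair
`(c, p)`, `p = a + d`; the result is `(p, N₁ N₂)` -/
def stepC (D : ChevalleyDatum) (tw : ℕ → ℕ → ℕ) (a b c d : ℕ) : Option (ℕ × ℤ) :=
  match D.commTerms c d, D.commTerms a d with
  | [(b', N1, i1, j1)], [(p, N2, i2, j2)] =>
      if (b' == b) && pmB N1 && (i1 == 1) && (j1 == 1) && (i2 == 1) && (j2 == 1) && pmB N2 &&
          decide (c < D.nroots) && decide (d < D.nroots) && decide (p < D.nroots) &&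
          (d != c) && (d != D.neg c) && (d != a) && (d != D.neg a) && cmT D a c && cmT D c p &&
          (b != p) && (b != D.neg p) && (D.commTerms p b).isEmpty &&
          decide (tw p b / 65536 < 2)
      then some (p, N1 * N2) else none
  | _, _ => none

theorem stepC_spec {D : ChevalleyDatum} {tw : ℕ → ℕ → ℕ} {a b c d p : ℕ} {ε : ℤ}
    (h : stepC D tw a b c d = some (p, ε)) :
    ∃ N1 N2 : ℤ, ε = N1 * N2 ∧ D.commTerms c d = [(b, N1, 1, 1)] ∧
      D.commTerms a d = [(p, N2, 1, 1)] ∧ pmB N1 = true ∧ pmB N2 = true ∧ c < D.nroots ∧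
      d < D.nroots ∧ p < D.nroots ∧ d ≠ c ∧ d ≠ D.neg c ∧ d ≠ a ∧ d ≠ D.neg a ∧
      cmT D a c = true ∧ cmT D c p = true ∧ b ≠ p ∧ b ≠ D.neg p ∧ D.commTerms p b = [] ∧
      tw p b / 65536 < 2 := by
  unfold stepC at h
  split at h
  · rename_i b' N1 i1 j1 p' N2 i2 j2 heq1 heq2
    split at h
    · rename_i hc
      simp only [Bool.and_eq_true, decide_eq_true_eq, beq_iff_eq, bne_iff_ne, ne_eq,
        List.isEmpty_iff] at hc
      obtain ⟨⟨⟨⟨⟨⟨⟨⟨⟨⟨⟨⟨⟨⟨⟨⟨⟨⟨⟨a1, a2⟩, a3⟩, a4⟩, a5⟩, a6⟩, a7⟩, a8⟩, a9⟩, a10⟩, a11⟩, a12⟩,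
        a13⟩, a14⟩, a15⟩, a16⟩, a17⟩, a18⟩, a19⟩, a20⟩ := hc
      have h' := Option.some.inj h
      have hp : p' = p := congrArg Prod.fst h'
      have hε : N1 * N2 = ε := congrArg Prod.snd h'
      subst a1 a3 a4 a5 a6 hp
      exact ⟨N1, N2, hε.symm, heq1, heq2, a2, a7, a8, a9, a10, a11, a12, a13, a14, a15, a16,
        a17, a18, a19, a20⟩
    · exact absurd h (by simp)
  · exact absurd h (by simp)

/-- the check of a cycle of three moves of total sign `-1` from `(a, b)` to itself -/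
def chkCyc (D : ChevalleyDatum) (tw : ℕ → ℕ → ℕ) (a b c1 d1 c2 d2 c3 d3 : ℕ) : Bool :=
  match stepC D tw a b c1 d1 with
  | some (p1, e1) =>
    match stepC D tw c1 p1 c2 d2 with
    | some (p2, e2) =>
      match stepC D tw c2 p2 c3 d3 with
      | some (p3, e3) => (c3 == a) && (p3 == b) && (e1 * e2 * e3 == -1)
      | none => false
    | none => false
  | none => false

section cert

variable {D : ChevalleyDatum} {hD : D ∈ Seven} {K : Type*} [Field K] {E : Type*} [Group E]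
  (C : Ctx0 D hD K E) {gam : ℕ → ℕ} {tw : ℕ → ℕ → ℕ}
  (hC : CertT2 D false gam tw)
  (hK3 : ∀ t : K, t = 0 ∨ t = 1 ∨ t = -1) (h3 : (1 : K) + 1 + 1 = 0)

include h3 in
theorem neg_one_ne_one : (-1 : K) ≠ 1 := by
  intro h
  have h2 : (1 : K) + 1 = 0 := by
    have h4 : (1 : K) + (-1) = 0 := by ring
    rw [h] at h4
    exact h4
  rw [h2, zero_add] at h3
  exact one_ne_zero h3

include hC h3 in
/-- one step of a cycle -/
theorem step_move {a b c d p : ℕ} {ε : ℤ} (ha : a < D.nroots) (hb : b < D.nroots)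
    (h : stepC D tw a b c d = some (p, ε)) :
    c < D.nroots ∧ p < D.nroots ∧ Cm (xGL (F := K) D hD) c p ∧
      cc C a b 1 1 = cc C c p 1 1 ^ ε := by
  obtain ⟨N1, N2, hε, hT1, hT2, hp1, hp2, hc, hd, hp, hdc, hdn, hda, hdna, hac, hcp, hbp, hbnp,
    hTpb, hwpb⟩ := stepC_spec h
  have hcm : Cm (xGL (F := K) D hD) c p := cm_of_cmT hD K hc hp hcp
  refine ⟨hc, hp, hcm, ?_⟩
  rw [hε]
  exact move_one C hp1 hp2 (sm_of_terms hD K hc hd hb hdc hdn hT1)
    (sm_of_terms hD K ha hd hp hda hdna hT2) (cm_of_cmT hD K ha hc hac) hcm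
    (hC.lcm_torus C (-1) (neg_ne_zero.2 one_ne_zero) (neg_one_ne_one h3) (by simp) hp hb hbp
      hbnp hTpb hwpb)

include hC hK3 h3 in
/-- a cycle of three moves of total sign `-1` kills the commutator of lifts -/
theorem lcm_of_cyc {a b c1 d1 c2 d2 c3 d3 : ℕ} (ha : a < D.nroots) (hb : b < D.nroots)
    (hcm : Cm (xGL (F := K) D hD) a b)
    (h : chkCyc D tw a b c1 d1 c2 d2 c3 d3 = true) : LCm C.Ψ (xGL D hD) a b := by
  unfold chkCyc at h
  split at h
  · rename_i p1 e1 hs1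
    split at h
    · rename_i p2 e2 hs2
      split at h
      · rename_i p3 e3 hs3
        simp only [Bool.and_eq_true, beq_iff_eq] at h
        obtain ⟨⟨hca, hpb⟩, hsign⟩ := h
        obtain ⟨hc1, hp1, -, hm1⟩ := step_move C hC h3 ha hb hs1
        obtain ⟨hc2, hp2, -, hm2⟩ := step_move C hC h3 hc1 hp1 hs2
        obtain ⟨-, -, -, hm3⟩ := step_move C hC h3 hc2 hp2 hs3
        rw [hca, hpb] at hm3
        have hκ : cc C a b 1 1 = (cc C a b 1 1)⁻¹ := by
          have h1 : cc C a b 1 1 = cc C a b 1 1 ^ (e3 * e2 * e1) := by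
            rw [zpow_mul, zpow_mul, ← hm3, ← hm2, ← hm1]
          have h2 : e3 * e2 * e1 = -1 := by rw [← hsign]; ring
          rw [h2, zpow_neg_one] at h1
          exact h1
        have hsq : cc C a b 1 1 * cc C a b 1 1 = 1 := by
          nth_rewrite 1 [hκ]
          exact inv_mul_cancel _
        have hcube := cc_cube C h3 hcm
        rw [hsq, one_mul] at hcube
        exact lcm_of_cc_one C hK3 hcm hcube
      · exact absurd h (by simp)
    · exact absurd h (by simp)
  · exact absurd h (by simp)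

end cert

end Cfsg.Agent.Lib.Helper8.StT2
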