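import Mathlib
import Cfsg.Prelude.Def_ChevB2
import Cfsg.Agent.Lib.Helper8.StT2F

set_option autoImplicit false

/-!
The certificate tables of `B2` for the torus trick with exponents (generated).
-/

namespace Cfsg.Agent.Lib.Helper8.StT2

open Cfsg Cfsg.Lie

def b2gamL : List ℕ := [0, 0, 0, 1, 2, 3, 4, 5]

def b2gam (r : ℕ) : ℕ := b2gamL.getD r 0

def b2tw2L : List (List ℕ) := [
  [0, 65539, 65540, 0, 0, 1, 2, 0],
  [3, 0, 1, 0, 65538, 1, 0, 65541],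
  [4, 65537, 0, 65537, 0, 0, 2, 65542],
  [65536, 65536, 1, 0, 0, 65543, 5, 3],
  [65536, 2, 65536, 0, 0, 6, 65543, 4],
  [65537, 65537, 0, 7, 65542, 0, 5, 3],
  [65538, 0, 65538, 65541, 7, 65541, 0, 4],
  [0, 5, 6, 65539, 65540, 65539, 65540, 0]]

def b2tw2 (r s : ℕ) : ℕ := (b2tw2L.getD r []).getD s 0

end Cfsg.Agent.Lib.Helper8.StT2
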