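import Mathlib
import Cfsg.Agent.Lib.Helper8.StT2B2T

set_option autoImplicit false

/-!
The certificate for `B₂` (torus trick with exponents `1, 2`) and the lifting theorem for `B₂` over
every field with an element `ω ≠ 0` with `ω² ≠ 1`, given that lifts inside each root subgroup
commute.
-/

namespace Cfsg.Agent.Lib.Helper8.StT2

open Cfsg Cfsg.Lie Cfsg.Agent.Lib.Helper5.ChevSym Cfsg.Agent.Lib.Helper5.ChevStruct
  Cfsg.Agent.Lib.Helper5.StPres Cfsg.Agent.Lib.Helper9.InvolX Cfsg.Agent.Lib.Helper8.StLift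
  Cfsg.Agent.Lib.Helper8.StSl Cfsg.Agent.Lib.Helper8.StT

theorem b2_nroots : chevB2.nroots = 8 := rfl

theorem B2_mem_Seven : chevB2 ∈ Seven := by simp [Seven]

set_option maxRecDepth 100000 in
theorem b2_chk_two : ((List.range 8).all fun r => chkGam2 chevB2 true b2gam r &&
    (List.range 8).all fun s =>
      chkPair2 chevB2 true b2tw2 r s && decide (b2tw2 r s / 65536 < 2)) = true := by
  decide +kernel

theorem b2_key_two : ∀ r < 8, chkGam2 chevB2 true b2gam r = true ∧
    ∀ s < 8, chkPair2 chevB2 true b2tw2 r s = true ∧ b2tw2 r s / 65536 < 2 := by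
  have h := b2_chk_two
  rw [List.all_eq_true] at h
  intro r hr
  have h1 := h r (List.mem_range.2 hr)
  rw [Bool.and_eq_true, List.all_eq_true] at h1
  refine ⟨h1.1, fun s hs => ?_⟩
  have h2 := h1.2 s (List.mem_range.2 hs)
  rw [Bool.and_eq_true, decide_eq_true_eq] at h2
  exact h2

theorem b2_cert_two : CertT2 chevB2 true b2gam b2tw2 :=
  ⟨fun r hr => (b2_key_two r (by rw [b2_nroots] at hr; exact hr)).1,
    fun r hr s hs => ((b2_key_two r (by rw [b2_nroots] at hr; exact hr)).2 s
      (by rw [b2_nroots] at hs; exact hs)).1⟩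

/-- the lifting theorem for `B₂`, over every field with an element `ω ≠ 0` with `ω² ≠ 1`, given
that the lifts inside each root subgroup commute -/
theorem exists_lift_B2_of_self {K : Type*} [Field K] {E : Type*} [Group E]
    (C : Ctx0 chevB2 B2_mem_Seven K E)
    (hself : ∀ r < chevB2.nroots, LCm C.Ψ (xGL chevB2 B2_mem_Seven) r r)
    (ω : K) (h0 : ω ≠ 0) (h2 : ω ^ (2 : ℤ) ≠ 1) :
    ∃ τ : chevB2.SteinbergCover K →* E, ∀ (r : ℕ) (t : K), r < chevB2.nroots →
      C.Ψ (τ (chevB2.scGen K r t)) = xGL chevB2 B2_mem_Seven r t := by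
  have h1 : ω ≠ 1 := by
    intro h
    apply h2
    rw [h, one_zpow]
  refine b2_cert_two.exists_lift C hself ?_ ω h0 h1 (fun _ => h2)
  intro r s hr hs _ _ _ hw
  have := ((b2_key_two r (by rw [b2_nroots] at hr; exact hr)).2 s
    (by rw [b2_nroots] at hs; exact hs)).2
  omega

end Cfsg.Agent.Lib.Helper8.StT2
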