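import Mathlib
import Cfsg.Prelude.Def_KGroupFacts
import Cfsg.Agent.Lib.Helper8.StTF4T
import Cfsg.Agent.Lib.Helper8.StSlE8
import Cfsg.Agent.Lib.Helper5.StPres.HTorus
import Cfsg.Agent.Lib.Helper5.StPres.CoverR3

set_option autoImplicit false

/-!
The certificate for `F₄`, the lifting theorem for `F₄` over every field with more than two
elements, and the Schur multiplier of `F₄(q)`, `q ≥ 3`.
-/

namespace Cfsg.Agent.Lib.Helper8.StT

open Cfsg Cfsg.Lie Cfsg.Agent.Lib.Helper5.ChevSym Cfsg.Agent.Lib.Helper5.ChevStruct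
  Cfsg.Agent.Lib.Helper5.StPres Cfsg.Agent.Lib.Helper8.StLift Cfsg.Agent.Lib.Helper8.StSl

set_option maxRecDepth 100000 in
theorem f4_chk_all : ((List.range 48).all fun r => chkGam chevF4 f4gam r &&
    chkSelf chevF4 f4decA r && (List.range 48).all fun s => chkPair chevF4 f4tw r s) = true := by
  decide +kernel

theorem f4_nroots : chevF4.nroots = 48 := rfl

theorem f4_cert : CertT chevF4 f4gam f4decA f4tw := by
  have h := f4_chk_all
  rw [List.all_eq_true] at h
  have key : ∀ r < 48, chkGam chevF4 f4gam r = true ∧ chkSelf chevF4 f4decA r = true ∧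
      ∀ s < 48, chkPair chevF4 f4tw r s = true := by
    intro r hr
    have h1 := h r (List.mem_range.2 hr)
    rw [Bool.and_eq_true, Bool.and_eq_true, List.all_eq_true] at h1
    exact ⟨h1.1.1, h1.1.2, fun s hs => h1.2 s (List.mem_range.2 hs)⟩
  refine ⟨fun r hr => (key r (by rw [f4_nroots] at hr; exact hr)).1,
    fun r hr => (key r (by rw [f4_nroots] at hr; exact hr)).2.1,
    fun r hr s hs => (key r (by rw [f4_nroots] at hr; exact hr)).2.2 s
      (by rw [f4_nroots] at hs; exact hs)⟩

theorem F4_mem_Seven : chevF4 ∈ Seven := by simp [Seven]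

/-- the lifting theorem for `F₄`, over every field with an element `ω ≠ 0, 1` -/
theorem exists_lift_F4 {K : Type*} [Field K] {E : Type*} [Group E]
    (C : Ctx0 chevF4 F4_mem_Seven K E) (ω : K) (h0 : ω ≠ 0) (h1 : ω ≠ 1) :
    ∃ τ : chevF4.SteinbergCover K →* E, ∀ (r : ℕ) (t : K), r < chevF4.nroots →
      C.Ψ (τ (chevF4.scGen K r t)) = xGL chevF4 F4_mem_Seven r t :=
  f4_cert.exists_lift C ω h0 h1

/-- for `F₄` over a finite field the presented group maps injectively -/
theorem injective_cover_F4 {K : Type*} [Field K] [Finite K]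
    (θ : chevF4.SteinbergCover K →* GL chevF4.Idx K)
    (hθ : ∀ (r : ℕ) (t : K), r < chevF4.nroots →
      θ (chevF4.scGen K r t) = xGL chevF4 F4_mem_Seven r t) :
    Function.Injective θ := by
  obtain ⟨e, he⟩ := cover_equiv_st chevF4 F4_mem_Seven K
  obtain ⟨θs, -, hker, hθs⟩ := st_main chevF4 F4_mem_Seven K
  have hcen := st_center_eq_bot chevF4 (by simp) K
  have hinj : Function.Injective θs := by
    rw [← MonoidHom.ker_eq_bot_iff, hker, hcen]
  have heq : θ = ((chevF4.group K).subtype.comp θs).comp e.toMonoidHom := by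
    apply cover_hom_ext'
    intro r t hr
    rw [hθ r t hr]
    show _ = ((θs (e (chevF4.scGen K r t)) : ↥(chevF4.group K)) : GL chevF4.Idx K)
    rw [he]
    apply Units.ext
    rw [hθs r t hr, xGL_val]
  rw [heq]
  intro a b hab
  have h1 : θs (e a) = θs (e b) := Subtype.ext hab
  exact e.injective (hinj h1)

/-- a finite field with at least three elements has an element `ω ≠ 0, 1` -/
theorem exists_ne_zero_one {F : Type*} [Field F] [Fintype F] (hF : 3 ≤ Fintype.card F) :
    ∃ ω : F, ω ≠ 0 ∧ ω ≠ 1 := by
  classical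
  by_contra hne
  push Not at hne
  have hsub : (Finset.univ : Finset F) ⊆ {0, 1} := by
    intro x _
    by_cases hx : x = 0
    · simp [hx]
    · simp [hne x hx]
  have h1 := Finset.card_le_card hsub
  have h2 : ({0, 1} : Finset F).card ≤ 2 := Finset.card_le_two
  rw [Finset.card_univ] at h1
  omega

theorem schur_F4 {F : Type*} [Field F] [Fintype F] (hF : 3 ≤ Fintype.card F) :
    Cfsg.HasCyclicSchurMultiplier ↥(Cfsg.Lie.chevF4.group F) 1 := by
  classical
  obtain ⟨ω, hω0, hω1⟩ := exists_ne_zero_one hF
  constructor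
  · refine ⟨↥(chevF4.group F), inferInstance, inferInstance, MonoidHom.id _, ⟨?_, ?_, ?_⟩, ?_⟩
    · exact Function.surjective_id
    · intro x hx
      rw [MonoidHom.mem_ker, MonoidHom.id_apply] at hx
      rw [hx]
      exact one_mem _
    · intro x hx
      rw [MonoidHom.mem_ker, MonoidHom.id_apply] at hx
      rw [hx]
      exact one_mem _
    · have hsub : Subsingleton ↥(MonoidHom.id ↥(chevF4.group F)).ker := by
        constructor
        intro a b
        apply Subtype.ext
        have ha := a.2
        have hb := b.2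
        rw [MonoidHom.mem_ker, MonoidHom.id_apply] at ha hb
        rw [ha, hb]
      have hsub2 : Subsingleton (Multiplicative (ZMod 1)) := by
        constructor
        intro a b
        exact Subsingleton.elim (α := ZMod 1) a b
      exact ⟨{ toFun := fun _ => 1
               invFun := fun _ => 1
               left_inv := fun a => Subsingleton.elim _ _
               right_inv := fun a => Subsingleton.elim _ _
               map_mul' := fun a b => Subsingleton.elim _ _ }⟩
  · intro Γ _ _ σ hσ
    obtain ⟨hsurj, hcen, hcomm⟩ := hσ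
    have hbot : ∀ z ∈ σ.ker, z = 1 := by
      let C : Ctx0 chevF4 F4_mem_Seven F Γ :=
        { Ψ := (chevF4.group F).subtype.comp σ
          hc := by
            intro x hx
            apply hcen
            rw [MonoidHom.mem_ker] at hx ⊢
            exact Subtype.ext hx
          hsurj := by
            intro g hg
            obtain ⟨e, he⟩ := hsurj ⟨g, hg⟩
            exact ⟨e, by show ((σ e : ↥(chevF4.group F)) : GL chevF4.Idx F) = g; rw [he]⟩ }
      obtain ⟨τ, hτ⟩ := exists_lift_F4 C ω hω0 hω1
      have hinj := injective_cover_F4 (C.Ψ.comp τ) (fun r t hr => hτ r t hr)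
      -- `σ ∘ τ` is onto
      have hστ : Function.Surjective (σ.comp τ) := by
        rw [← MonoidHom.range_eq_top, eq_top_iff, ← (gGens chevF4 F4_mem_Seven F).gen,
          Subgroup.closure_le]
        rintro g ⟨r, t, hr, rfl⟩
        refine ⟨chevF4.scGen F r t, ?_⟩
        apply Subtype.ext
        exact hτ r t hr
      -- the commutator subgroup lies in the range of `τ`
      have hcr : commutator Γ ≤ τ.range := by
        rw [commutator_eq_closure, Subgroup.closure_le]
        rintro x ⟨g, g', rfl⟩
        obtain ⟨d, hd⟩ := hστ (σ g)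
        obtain ⟨d', hd'⟩ := hστ (σ g')
        refine ⟨d * d' * d⁻¹ * d'⁻¹, ?_⟩
        rw [commutatorElement_def, map_mul, map_mul, map_mul, map_inv, map_inv]
        exact comm_lift_indep σ hcen hd hd'
      intro z hz
      obtain ⟨d, rfl⟩ := hcr (hcomm hz)
      have h1 : (C.Ψ.comp τ) d = (C.Ψ.comp τ) 1 := by
        rw [map_one]
        show ((σ (τ d) : ↥(chevF4.group F)) : GL chevF4.Idx F) = 1
        rw [MonoidHom.mem_ker.1 hz]
        rfl
      rw [hinj h1, map_one]
    refine ⟨1, ?_⟩
    intro z
    refine ⟨1, ?_⟩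
    apply Subtype.ext
    rw [MonoidHom.one_apply]
    exact (hbot z.1 z.2).symm

end Cfsg.Agent.Lib.Helper8.StT
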