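import Mathlib
import Cfsg.Agent.Lib.Helper8.StT2D4T
import Cfsg.Agent.Lib.Helper8.StTF4

set_option autoImplicit false

/-!
The certificates for `D₄` and the lifting theorem for `D₄` over every finite field with more than
two elements: over fields with an element `ω ≠ 0` with `ω² ≠ 1` the torus trick with exponents
`1, 2` settles every pair; over the field with three elements the commuting pairs of orthogonal
roots that no torus element separates are settled by cycles of three moves of total sign `-1`.
-/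

namespace Cfsg.Agent.Lib.Helper8.StT2

open Cfsg Cfsg.Lie Cfsg.Agent.Lib.Helper5.ChevSym Cfsg.Agent.Lib.Helper5.ChevStruct
  Cfsg.Agent.Lib.Helper5.StPres Cfsg.Agent.Lib.Helper9.InvolX Cfsg.Agent.Lib.Helper8.StLift
  Cfsg.Agent.Lib.Helper8.StSl Cfsg.Agent.Lib.Helper8.StT

theorem d4_nroots : chevD4.nroots = 24 := rfl

theorem D4_mem_Seven : chevD4 ∈ Seven := by simp [Seven]

/-- the unpacked cycle check -/
def d4chkCyc (r s : ℕ) : Bool :=
  chkCyc chevD4 d4tw1 r s (d4cyc r s % 32) (d4cyc r s / 32 % 32) (d4cyc r s / 1024 % 32)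
    (d4cyc r s / 32768 % 32) (d4cyc r s / 1048576 % 32) (d4cyc r s / 33554432 % 32)

set_option maxRecDepth 100000 in
theorem d4_chk_two : ((List.range 24).all fun r => chkGam2 chevD4 true d4gam r &&
    chkSelf chevD4 d4decA r && (List.range 24).all fun s =>
      chkPair2 chevD4 true d4tw2 r s && decide (d4tw2 r s / 65536 < 2)) = true := by
  decide +kernel

set_option maxRecDepth 100000 in
theorem d4_chk_one : ((List.range 24).all fun r => chkGam2 chevD4 false d4gam r &&
    (List.range 24).all fun s =>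
      chkPair2 chevD4 false d4tw1 r s && (decide (d4tw1 r s / 65536 < 2) || d4chkCyc r s)) =
      true := by
  decide +kernel

theorem d4_key_two : ∀ r < 24, chkGam2 chevD4 true d4gam r = true ∧
    chkSelf chevD4 d4decA r = true ∧
    ∀ s < 24, chkPair2 chevD4 true d4tw2 r s = true ∧ d4tw2 r s / 65536 < 2 := by
  have h := d4_chk_two
  rw [List.all_eq_true] at h
  intro r hr
  have h1 := h r (List.mem_range.2 hr)
  rw [Bool.and_eq_true, Bool.and_eq_true, List.all_eq_true] at h1
  refine ⟨h1.1.1, h1.1.2, fun s hs => ?_⟩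
  have h2 := h1.2 s (List.mem_range.2 hs)
  rw [Bool.and_eq_true, decide_eq_true_eq] at h2
  exact h2

theorem d4_key_one : ∀ r < 24, chkGam2 chevD4 false d4gam r = true ∧
    ∀ s < 24, chkPair2 chevD4 false d4tw1 r s = true ∧
      (d4tw1 r s / 65536 < 2 ∨ d4chkCyc r s = true) := by
  have h := d4_chk_one
  rw [List.all_eq_true] at h
  intro r hr
  have h1 := h r (List.mem_range.2 hr)
  rw [Bool.and_eq_true, List.all_eq_true] at h1
  refine ⟨h1.1, fun s hs => ?_⟩
  have h2 := h1.2 s (List.mem_range.2 hs)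
  rw [Bool.and_eq_true, Bool.or_eq_true, decide_eq_true_eq] at h2
  exact h2

theorem d4_cert_two : CertT2 chevD4 true d4gam d4tw2 :=
  ⟨fun r hr => (d4_key_two r (by rw [d4_nroots] at hr; exact hr)).1,
    fun r hr s hs => ((d4_key_two r (by rw [d4_nroots] at hr; exact hr)).2.2 s
      (by rw [d4_nroots] at hs; exact hs)).1⟩

theorem d4_cert_one : CertT2 chevD4 false d4gam d4tw1 :=
  ⟨fun r hr => (d4_key_one r (by rw [d4_nroots] at hr; exact hr)).1,
    fun r hr s hs => ((d4_key_one r (by rw [d4_nroots] at hr; exact hr)).2 s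
      (by rw [d4_nroots] at hs; exact hs)).1⟩

section lift

variable {K : Type*} [Field K] {E : Type*} [Group E] (C : Ctx0 chevD4 D4_mem_Seven K E)

theorem d4_lcm_self (r : ℕ) (hr : r < chevD4.nroots) :
    LCm C.Ψ (xGL chevD4 D4_mem_Seven) r r :=
  lcm_self_of_chk C hr (d4_key_two r (by rw [d4_nroots] at hr; exact hr)).2.1

/-- the lifting theorem for `D₄`, over every field with an element `ω ≠ 0` with `ω² ≠ 1` -/
theorem exists_lift_D4_of_sq (ω : K) (h0 : ω ≠ 0) (h2 : ω ^ (2 : ℤ) ≠ 1) :
    ∃ τ : chevD4.SteinbergCover K →* E, ∀ (r : ℕ) (t : K), r < chevD4.nroots →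
      C.Ψ (τ (chevD4.scGen K r t)) = xGL chevD4 D4_mem_Seven r t := by
  have h1 : ω ≠ 1 := by
    intro h
    apply h2
    rw [h, one_zpow]
  refine d4_cert_two.exists_lift C (d4_lcm_self C) ?_ ω h0 h1 (fun _ => h2)
  intro r s hr hs _ _ _ hw
  have := ((d4_key_two r (by rw [d4_nroots] at hr; exact hr)).2.2 s
    (by rw [d4_nroots] at hs; exact hs)).2
  omega

/-- the lifting theorem for `D₄` over the field with three elements -/
theorem exists_lift_D4_three (hK3 : ∀ t : K, t = 0 ∨ t = 1 ∨ t = -1) (h3 : (1 : K) + 1 + 1 = 0) :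
    ∃ τ : chevD4.SteinbergCover K →* E, ∀ (r : ℕ) (t : K), r < chevD4.nroots →
      C.Ψ (τ (chevD4.scGen K r t)) = xGL chevD4 D4_mem_Seven r t := by
  refine d4_cert_one.exists_lift C (d4_lcm_self C) ?_ (-1) (neg_ne_zero.2 one_ne_zero)
    (neg_one_ne_one h3) (by simp)
  intro r s hr hs hsr hsn hT hw
  have hcm : Cm (xGL (F := K) chevD4 D4_mem_Seven) r s := by
    apply cm_of_cmT D4_mem_Seven K hr hs
    unfold cmT
    simp [hsn, hT]
  rcases ((d4_key_one r (by rw [d4_nroots] at hr; exact hr)).2 s
    (by rw [d4_nroots] at hs; exact hs)).2 with h | h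
  · omega
  · exact lcm_of_cyc C d4_cert_one hK3 h3 hr hs hcm h

end lift

/-- a finite field with at least four elements has an element `ω ≠ 0` with `ω² ≠ 1` -/
theorem exists_sq_ne_one {F : Type*} [Field F] [Fintype F] (hF : 4 ≤ Fintype.card F) :
    ∃ ω : F, ω ≠ 0 ∧ ω ^ (2 : ℤ) ≠ 1 := by
  classical
  by_contra hne
  push Not at hne
  have hsub : (Finset.univ : Finset F) ⊆ {0, 1, -1} := by
    intro x _
    by_cases hx : x = 0
    · simp [hx]
    · have h := hne x hx
      have h' : (x - 1) * (x + 1) = 0 := by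
        have : x ^ 2 = 1 := by exact_mod_cast h
        ring_nf
        rw [this]
        ring
      rcases mul_eq_zero.1 h' with h'' | h''
      · have : x = 1 := by linear_combination h''
        simp [this]
      · have : x = -1 := by linear_combination h''
        simp [this]
  have h1 := Finset.card_le_card hsub
  have h2 : ({0, 1, -1} : Finset F).card ≤ 3 := Finset.card_le_three
  rw [Finset.card_univ] at h1
  omega

/-- a field with three elements -/
theorem three_of_card {F : Type*} [Field F] [Fintype F] (hF : Fintype.card F = 3) :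
    (∀ t : F, t = 0 ∨ t = 1 ∨ t = -1) ∧ (1 : F) + 1 + 1 = 0 := by
  classical
  have h3 : (1 : F) + 1 + 1 = 0 := by
    have h := Nat.cast_card_eq_zero F
    rw [hF] at h
    have : ((3 : ℕ) : F) = 1 + 1 + 1 := by norm_num
    rw [← this]
    exact h
  have hne : (-1 : F) ≠ 1 := neg_one_ne_one h3
  refine ⟨?_, h3⟩
  have hcard : ({0, 1, -1} : Finset F).card = 3 := by
    rw [Finset.card_insert_of_notMem, Finset.card_insert_of_notMem, Finset.card_singleton]
    · simpa using hne.symm
    · simp only [Finset.mem_insert, Finset.mem_singleton, not_or]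
      exact ⟨zero_ne_one, by simp⟩
  have huniv : ({0, 1, -1} : Finset F) = Finset.univ := by
    apply Finset.eq_univ_of_card
    rw [hcard, hF]
  intro t
  have ht : t ∈ ({0, 1, -1} : Finset F) := by rw [huniv]; exact Finset.mem_univ t
  simpa using ht

/-- the lifting theorem for `D₄`, over every finite field with more than two elements -/
theorem exists_lift_D4 {K : Type*} [Field K] [Fintype K] (hK : 3 ≤ Fintype.card K)
    {E : Type*} [Group E] (C : Ctx0 chevD4 D4_mem_Seven K E) :
    ∃ τ : chevD4.SteinbergCover K →* E, ∀ (r : ℕ) (t : K), r < chevD4.nroots →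
      C.Ψ (τ (chevD4.scGen K r t)) = xGL chevD4 D4_mem_Seven r t := by
  by_cases h4 : 4 ≤ Fintype.card K
  · obtain ⟨ω, h0, h2⟩ := exists_sq_ne_one h4
    exact exists_lift_D4_of_sq C ω h0 h2
  · have h3 : Fintype.card K = 3 := by omega
    obtain ⟨hK3, h3'⟩ := three_of_card h3
    exact exists_lift_D4_three C hK3 h3'

end Cfsg.Agent.Lib.Helper8.StT2
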