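import Mathlib
import Cfsg.Agent.Lib.Helper8.StT2E

set_option autoImplicit false

/-!
Lifts and two-term commutator relations `[x_α, x_β] = x_{α+β} x_{α+2β}`: commuting of lifts with
either of the two factors from commuting with the other, without canonical lifts.  A single-term
relation whose coefficient vanishes in the field.
-/

namespace Cfsg.Agent.Lib.Helper8.StT2

open Cfsg Cfsg.Lie Cfsg.Agent.Lib.Helper5.ChevSym Cfsg.Agent.Lib.Helper5.ChevStruct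
  Cfsg.Agent.Lib.Helper5.StPres Cfsg.Agent.Lib.Helper9.InvolX Cfsg.Agent.Lib.Helper8.StLift
  Cfsg.Agent.Lib.Helper8.StSl Cfsg.Agent.Lib.Helper8.StT

variable {D : ChevalleyDatum} {hD : D ∈ Seven} {K : Type*} [Field K] {E : Type*} [Group E]
  (C : Ctx0 D hD K E)

/-- a single-term commutator whose coefficient vanishes in the field -/
theorem cm_of_sm_zero {a b k : ℕ} {N : K} (hk : k < D.nroots)
    (hS : Sm (xGL (F := K) D hD) a b k N) (hN : N = 0) : Cm (xGL (F := K) D hD) a b := by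
  intro t u
  have h := hS t u
  rw [hN, zero_mul, zero_mul, xGL_zero D hD k hk] at h
  unfold cm at h
  calc xGL D hD a t * xGL D hD b u
      = (xGL D hD a t * xGL D hD b u * (xGL D hD a t)⁻¹ * (xGL D hD b u)⁻¹) *
        (xGL D hD b u * xGL D hD a t) := by group
    _ = xGL D hD b u * xGL D hD a t := by rw [h, one_mul]

/-- lifts of commuting root elements `x_a`, `x_b` commute when `b = α + 2β` is the long end of the
commutator of `x_α`, `x_β`, both commuting with `x_a`, and lifts of `x_a`, `x_{α+β}` commute -/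
theorem lcm_second0 {a b α β ab : ℕ} {C1 C2 : ℤ} (hα : α < D.nroots) (hβ : β < D.nroots)
    (hβα : β ≠ α) (hβn : β ≠ D.neg α)
    (hT : D.commTerms α β = [(ab, C1, 1, 1), (b, C2, 1, 2)]) (hC2 : pmB C2 = true)
    (h1 : Cm (xGL (F := K) D hD) a α) (h2 : Cm (xGL (F := K) D hD) a β)
    (h3 : LCm C.Ψ (xGL D hD) a ab) : LCm C.Ψ (xGL D hD) a b := by
  intro e e' t v he he'
  set t' : K := -(C2 : K) * v with ht'
  have hR := xGL_comm (K := K) D hD α β t' 1 hα hβ hβα hβn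
  unfold ChevalleyDatum.commWord at hR
  rw [hT, List.map_cons, List.map_cons, List.map_nil, wordGL_cons, wordGL_cons, wordGL_nil,
    mul_one] at hR
  simp only [] at hR
  have hv : (C2 : K) * (-t') ^ 1 * 1 ^ 2 = v := by
    rw [ht']
    calc (C2 : K) * (-(-(C2 : K) * v)) ^ 1 * 1 ^ 2 = ((C2 : K) * (C2 : K)) * v := by ring
      _ = v := by rw [pm_cast_sq hC2, one_mul]
  rw [hv] at hR
  set p : K := (C1 : K) * (-t') ^ 1 * 1 ^ 1 with hp
  have hcm : C.Ψ (cm (C.xl β (-1)) (C.xl α (-t'))) = xGL D hD ab p * xGL D hD b v := by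
    rw [map_cm, C.Ψ_xl, C.Ψ_xl, xGL_neg D hD β hβ, xGL_neg D hD α hα, ← hR]
    unfold cm
    group
  have hΨ : C.Ψ ((C.xl ab p)⁻¹ * cm (C.xl β (-1)) (C.xl α (-t'))) = C.Ψ e' := by
    rw [map_mul, map_inv, C.Ψ_xl, hcm, he']
    group
  obtain ⟨z, hz, hf⟩ := conj_eq_mul_central C.Ψ C.hc (e := e) (f := C.xl β (-1))
    (by rw [he, C.Ψ_xl]; exact h2 t _)
  obtain ⟨z', hz', hg⟩ := conj_eq_mul_central C.Ψ C.hc (e := e) (f := C.xl α (-t'))
    (by rw [he, C.Ψ_xl]; exact h1 t _)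
  have h4 := commute_cm_of_central hz hz' hf hg
  have h5 : e * C.xl ab p = C.xl ab p * e := h3 e _ t p he (C.Ψ_xl ab p)
  have h6 : e * (C.xl ab p)⁻¹ = (C.xl ab p)⁻¹ * e := by
    calc e * (C.xl ab p)⁻¹ = (C.xl ab p)⁻¹ * (C.xl ab p * e) * (C.xl ab p)⁻¹ := by group
      _ = (C.xl ab p)⁻¹ * e := by rw [← h5]; group
  have h7 : (C.xl ab p)⁻¹ * cm (C.xl β (-1)) (C.xl α (-t')) * e
      = e * ((C.xl ab p)⁻¹ * cm (C.xl β (-1)) (C.xl α (-t'))) := by
    calc (C.xl ab p)⁻¹ * cm (C.xl β (-1)) (C.xl α (-t')) * e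
        = (C.xl ab p)⁻¹ * (cm (C.xl β (-1)) (C.xl α (-t')) * e) := by group
      _ = ((C.xl ab p)⁻¹ * e) * cm (C.xl β (-1)) (C.xl α (-t')) := by rw [← h4]; group
      _ = e * ((C.xl ab p)⁻¹ * cm (C.xl β (-1)) (C.xl α (-t'))) := by rw [← h6]; group
  exact (commute_lift_indep C.Ψ C.hc hΨ h7).symm

/-- lifts of commuting root elements `x_a`, `x_{α+β}` commute when `x_α`, `x_β` both commute with
`x_a` and lifts of `x_a`, `x_{α+2β}` commute -/
theorem lcm_first0 {a b α β ab : ℕ} {C1 C2 : ℤ} (hα : α < D.nroots) (hβ : β < D.nroots)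
    (hβα : β ≠ α) (hβn : β ≠ D.neg α)
    (hT : D.commTerms α β = [(ab, C1, 1, 1), (b, C2, 1, 2)]) (hC1 : pmB C1 = true)
    (h1 : Cm (xGL (F := K) D hD) a α) (h2 : Cm (xGL (F := K) D hD) a β)
    (h3 : LCm C.Ψ (xGL D hD) a b) : LCm C.Ψ (xGL D hD) a ab := by
  intro e e' t v he he'
  set t' : K := -(C1 : K) * v with ht'
  have hR := xGL_comm (K := K) D hD α β t' 1 hα hβ hβα hβn
  unfold ChevalleyDatum.commWord at hR
  rw [hT, List.map_cons, List.map_cons, List.map_nil, wordGL_cons, wordGL_cons, wordGL_nil,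
    mul_one] at hR
  simp only [] at hR
  have hv : (C1 : K) * (-t') ^ 1 * 1 ^ 1 = v := by
    rw [ht']
    calc (C1 : K) * (-(-(C1 : K) * v)) ^ 1 * 1 ^ 1 = ((C1 : K) * (C1 : K)) * v := by ring
      _ = v := by rw [pm_cast_sq hC1, one_mul]
  rw [hv] at hR
  set p : K := (C2 : K) * (-t') ^ 1 * 1 ^ 2 with hp
  have hcm : C.Ψ (cm (C.xl β (-1)) (C.xl α (-t'))) = xGL D hD ab v * xGL D hD b p := by
    rw [map_cm, C.Ψ_xl, C.Ψ_xl, xGL_neg D hD β hβ, xGL_neg D hD α hα, ← hR]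
    unfold cm
    group
  have hΨ : C.Ψ (cm (C.xl β (-1)) (C.xl α (-t')) * (C.xl b p)⁻¹) = C.Ψ e' := by
    rw [map_mul, map_inv, C.Ψ_xl, hcm, he']
    group
  obtain ⟨z, hz, hf⟩ := conj_eq_mul_central C.Ψ C.hc (e := e) (f := C.xl β (-1))
    (by rw [he, C.Ψ_xl]; exact h2 t _)
  obtain ⟨z', hz', hg⟩ := conj_eq_mul_central C.Ψ C.hc (e := e) (f := C.xl α (-t'))
    (by rw [he, C.Ψ_xl]; exact h1 t _)
  have h4 := commute_cm_of_central hz hz' hf hg
  have h5 : e * C.xl b p = C.xl b p * e := h3 e _ t p he (C.Ψ_xl b p)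
  have h6 : e * (C.xl b p)⁻¹ = (C.xl b p)⁻¹ * e := by
    calc e * (C.xl b p)⁻¹ = (C.xl b p)⁻¹ * (C.xl b p * e) * (C.xl b p)⁻¹ := by group
      _ = (C.xl b p)⁻¹ * e := by rw [← h5]; group
  have h7 : cm (C.xl β (-1)) (C.xl α (-t')) * (C.xl b p)⁻¹ * e
      = e * (cm (C.xl β (-1)) (C.xl α (-t')) * (C.xl b p)⁻¹) := by
    calc cm (C.xl β (-1)) (C.xl α (-t')) * (C.xl b p)⁻¹ * e
        = cm (C.xl β (-1)) (C.xl α (-t')) * ((C.xl b p)⁻¹ * e) := by group
      _ = (cm (C.xl β (-1)) (C.xl α (-t')) * e) * (C.xl b p)⁻¹ := by rw [← h6]; group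
      _ = e * (cm (C.xl β (-1)) (C.xl α (-t')) * (C.xl b p)⁻¹) := by rw [← h4]; group
  exact (commute_lift_indep C.Ψ C.hc hΨ h7).symm

end Cfsg.Agent.Lib.Helper8.StT2
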