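import Mathlib
import Cfsg.Agent.Lib.Helper8.StT2B2
import Cfsg.Agent.Lib.Helper8.StT2G
import Cfsg.Agent.Lib.Helper8.StT2D4

set_option autoImplicit false

/-!
`B₂` over a field of characteristic two with an element `ω ≠ 0`, `ω² ≠ 1` (so with at least four
elements): lifts inside one root subgroup commute, and the lifting theorem.
-/

namespace Cfsg.Agent.Lib.Helper8.StT2

open Cfsg Cfsg.Lie Cfsg.Agent.Lib.Helper5.ChevSym Cfsg.Agent.Lib.Helper5.ChevStruct
  Cfsg.Agent.Lib.Helper5.StPres Cfsg.Agent.Lib.Helper9.InvolX Cfsg.Agent.Lib.Helper8.StLift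
  Cfsg.Agent.Lib.Helper8.StSl Cfsg.Agent.Lib.Helper8.StT

section lift

variable {K : Type*} [Field K] {E : Type*} [Group E] (C : Ctx0 chevB2 B2_mem_Seven K E)
  (ω : K) (h0 : ω ≠ 0) (h2 : ω ^ (2 : ℤ) ≠ 1)

include h0 h2

/-- lifts of distinct commuting root elements of `B₂` commute -/
theorem b2_lcm {r s : ℕ} (hr : r < 8) (hs : s < 8) (hsr : s ≠ r) (hsn : s ≠ chevB2.neg r)
    (hT : chevB2.commTerms r s = []) : LCm C.Ψ (xGL chevB2 B2_mem_Seven) r s := by
  have h1 : ω ≠ 1 := by
    intro h
    apply h2
    rw [h, one_zpow]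
  exact b2_cert_two.lcm_torus C ω h0 h1 (fun _ => h2) hr hs hsr hsn hT
    ((b2_key_two r hr).2 s hs).2

/-- the long roots: lifts inside the root subgroup commute -/
theorem b2_self_long {a α β ab : ℕ} {C1 C2 : ℤ} (ha : a < 8) (hα : α < 8) (hβ : β < 8)
    (hab : ab < 8) (hβα : β ≠ α) (hβn : β ≠ chevB2.neg α)
    (hT : chevB2.commTerms α β = [(ab, C1, 1, 1), (a, C2, 1, 2)]) (hC2 : pmB C2 = true)
    (h1 : cmT chevB2 a α = true) (h2' : cmT chevB2 a β = true)
    (hne : ab ≠ a) (hnn : ab ≠ chevB2.neg a) (hT' : chevB2.commTerms a ab = []) :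
    LCm C.Ψ (xGL chevB2 B2_mem_Seven) a a :=
  lcm_second0 C hα hβ hβα hβn hT hC2 (cm_of_cmT B2_mem_Seven K ha hα h1)
    (cm_of_cmT B2_mem_Seven K ha hβ h2') (b2_lcm C ω h0 h2 ha hab hne hnn hT')

/-- the short roots in characteristic two: lifts inside the root subgroup commute -/
theorem b2_self_short (hchar : (2 : K) = 0) {a α β b k : ℕ} {C1 C2 N : ℤ} (ha : a < 8)
    (hα : α < 8) (hβ : β < 8) (hb : b < 8) (hk : k < 8) (hβα : β ≠ α) (hβn : β ≠ chevB2.neg α)
    (hT : chevB2.commTerms α β = [(a, C1, 1, 1), (b, C2, 1, 2)]) (hC1 : pmB C1 = true)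
    (h1 : cmT chevB2 a α = true)
    (hβa : β ≠ a) (hβna : β ≠ chevB2.neg a) (hTβ : chevB2.commTerms a β = [(k, N, 1, 1)])
    (hN : N = 2 ∨ N = -2)
    (hne : b ≠ a) (hnn : b ≠ chevB2.neg a) (hT' : chevB2.commTerms a b = []) :
    LCm C.Ψ (xGL chevB2 B2_mem_Seven) a a := by
  have hN0 : ((N : ℤ) : K) = 0 := by
    rcases hN with h | h
    · rw [h]
      push_cast
      exact hchar
    · rw [h]
      push_cast
      rw [hchar, neg_zero]
  exact lcm_first0 C hα hβ hβα hβn hT hC1 (cm_of_cmT B2_mem_Seven K ha hα h1)
    (cm_of_sm_zero hk (sm_of_terms B2_mem_Seven K ha hβ hk hβa hβna hTβ) hN0)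
    (b2_lcm C ω h0 h2 ha hb hne hnn hT')

/-- lifts inside one root subgroup of `B₂` commute, in characteristic two -/
theorem b2_self_char_two (hchar : (2 : K) = 0) (r : ℕ) (hr : r < chevB2.nroots) :
    LCm C.Ψ (xGL chevB2 B2_mem_Seven) r r := by
  have hr' : r < 8 := hr
  interval_cases r
  · exact b2_self_long C ω h0 h2 (a := 0) (α := 3) (β := 2) (ab := 1) (C1 := -1) (C2 := -1)
      (by decide) (by decide) (by decide) (by decide) (by decide) (by decide +kernel)
      (by decide +kernel) (by decide) (by decide +kernel) (by decide +kernel) (by decide)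
      (by decide +kernel) (by decide +kernel)
  · exact b2_self_short C ω h0 h2 hchar (a := 1) (α := 0) (β := 5) (b := 3) (k := 3) (C1 := 1)
      (C2 := -1) (N := -2)
      (by decide) (by decide) (by decide) (by decide) (by decide) (by decide) (by decide +kernel)
      (by decide +kernel) (by decide) (by decide +kernel) (by decide) (by decide +kernel)
      (by decide +kernel) (by decide) (by decide) (by decide +kernel) (by decide +kernel)
  · exact b2_self_short C ω h0 h2 hchar (a := 2) (α := 0) (β := 6) (b := 4) (k := 4) (C1 := -1)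
      (C2 := 1) (N := -2)
      (by decide) (by decide) (by decide) (by decide) (by decide) (by decide) (by decide +kernel)
      (by decide +kernel) (by decide) (by decide +kernel) (by decide) (by decide +kernel)
      (by decide +kernel) (by decide) (by decide) (by decide +kernel) (by decide +kernel)
  · exact b2_self_long C ω h0 h2 (a := 3) (α := 0) (β := 5) (ab := 1) (C1 := 1) (C2 := -1)
      (by decide) (by decide) (by decide) (by decide) (by decide) (by decide +kernel)
      (by decide +kernel) (by decide) (by decide +kernel) (by decide +kernel) (by decide)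
      (by decide +kernel) (by decide +kernel)
  · exact b2_self_long C ω h0 h2 (a := 4) (α := 0) (β := 6) (ab := 2) (C1 := -1) (C2 := 1)
      (by decide) (by decide) (by decide) (by decide) (by decide) (by decide +kernel)
      (by decide +kernel) (by decide) (by decide +kernel) (by decide +kernel) (by decide)
      (by decide +kernel) (by decide +kernel)
  · exact b2_self_short C ω h0 h2 hchar (a := 5) (α := 3) (β := 6) (b := 7) (k := 7) (C1 := 1)
      (C2 := 1) (N := 2)
      (by decide) (by decide) (by decide) (by decide) (by decide) (by decide) (by decide +kernel)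
      (by decide +kernel) (by decide) (by decide +kernel) (by decide) (by decide +kernel)
      (by decide +kernel) (by decide) (by decide) (by decide +kernel) (by decide +kernel)
  · exact b2_self_short C ω h0 h2 hchar (a := 6) (α := 4) (β := 5) (b := 7) (k := 7) (C1 := 1)
      (C2 := -1) (N := -2)
      (by decide) (by decide) (by decide) (by decide) (by decide) (by decide) (by decide +kernel)
      (by decide +kernel) (by decide) (by decide +kernel) (by decide) (by decide +kernel)
      (by decide +kernel) (by decide) (by decide) (by decide +kernel) (by decide +kernel)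
  · exact b2_self_long C ω h0 h2 (a := 7) (α := 3) (β := 6) (ab := 5) (C1 := 1) (C2 := 1)
      (by decide) (by decide) (by decide) (by decide) (by decide) (by decide +kernel)
      (by decide +kernel) (by decide) (by decide +kernel) (by decide +kernel) (by decide)
      (by decide +kernel) (by decide +kernel)

/-- the lifting theorem for `B₂` over a field of characteristic two with an element `ω ≠ 0`,
`ω² ≠ 1` -/
theorem exists_lift_B2_char_two (hchar : (2 : K) = 0) :
    ∃ τ : chevB2.SteinbergCover K →* E, ∀ (r : ℕ) (t : K), r < chevB2.nroots →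
      C.Ψ (τ (chevB2.scGen K r t)) = xGL chevB2 B2_mem_Seven r t :=
  exists_lift_B2_of_self C (b2_self_char_two C ω h0 h2 hchar) ω h0 h2

end lift

/-- a field with four elements has characteristic two -/
theorem two_eq_zero_of_card_four {F : Type*} [Field F] [Fintype F] (hF : Fintype.card F = 4) :
    (2 : F) = 0 := by
  have h := Nat.cast_card_eq_zero F
  rw [hF] at h
  have h4 : (2 : F) * 2 = 0 := by
    have : ((4 : ℕ) : F) = 2 * 2 := by norm_num
    rw [← this]
    exact h
  rcases mul_eq_zero.1 h4 with h' | h' <;> exact h'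

/-- the lifting theorem for `B₂` over the field with four elements -/
theorem exists_lift_B2_four {K : Type*} [Field K] [Fintype K] (hK : Fintype.card K = 4)
    {E : Type*} [Group E] (C : Ctx0 chevB2 B2_mem_Seven K E) :
    ∃ τ : chevB2.SteinbergCover K →* E, ∀ (r : ℕ) (t : K), r < chevB2.nroots →
      C.Ψ (τ (chevB2.scGen K r t)) = xGL chevB2 B2_mem_Seven r t := by
  obtain ⟨ω, h0, h2⟩ := exists_sq_ne_one (F := K) (by omega)
  exact exists_lift_B2_char_two C ω h0 h2 (two_eq_zero_of_card_four hK)

end Cfsg.Agent.Lib.Helper8.StT2
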