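import Mathlib
import Cfsg.Agent.Lib.Helper8.StT2G

set_option autoImplicit false

/-!
Tools for root systems with two root lengths over the field with three elements: lifts inside one
root subgroup commute (prime field); canonical lifts of short root elements by the torus trick
(without a global parameter structure); canonical lifts of long root elements as commutators of
lifts of short root elements; lifts of two orthogonal long root elements commute.
-/

namespace Cfsg.Agent.Lib.Helper8.StT2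

open Cfsg Cfsg.Lie Cfsg.Agent.Lib.Helper5.ChevSym Cfsg.Agent.Lib.Helper5.ChevStruct
  Cfsg.Agent.Lib.Helper5.StPres Cfsg.Agent.Lib.Helper9.InvolX Cfsg.Agent.Lib.Helper8.StLift
  Cfsg.Agent.Lib.Helper8.StSl Cfsg.Agent.Lib.Helper8.StT

variable {D : ChevalleyDatum} {hD : D ∈ Seven} {K : Type*} [Field K] {E : Type*} [Group E]
  (C : Ctx0 D hD K E)

/-- over the field with three elements lifts inside one root subgroup commute -/
theorem lcm_self_three (hK3 : ∀ t : K, t = 0 ∨ t = 1 ∨ t = -1) (r : ℕ) :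
    LCm C.Ψ (xGL D hD) r r := by
  have hcm : Cm (xGL (F := K) D hD) r r := by
    intro t u
    rw [xGL_add', xGL_add', add_comm]
  apply lcm_of_cc_one C hK3 hcm
  unfold cc cm
  group

/-- the two-term commutator in the group, in the form `⁅x_s(u), x_r(t)⁆` -/
theorem cm_two_terms {r s c d : ℕ} {C1 C2 : ℤ} {i1 j1 i2 j2 : ℕ} (hr : r < D.nroots)
    (hs : s < D.nroots) (hsr : s ≠ r) (hsn : s ≠ D.neg r)
    (hT : D.commTerms r s = [(c, C1, i1, j1), (d, C2, i2, j2)]) (t u : K) :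
    cm (xGL D hD s u) (xGL D hD r t)
      = xGL D hD c ((C1 : K) * (- -t) ^ i1 * (-u) ^ j1)
        * xGL D hD d ((C2 : K) * (- -t) ^ i2 * (-u) ^ j2) := by
  have hR := xGL_comm (K := K) D hD r s (-t) (-u) hr hs hsr hsn
  unfold ChevalleyDatum.commWord at hR
  rw [hT, List.map_cons, List.map_cons, List.map_nil, wordGL_cons, wordGL_cons, wordGL_nil,
    mul_one, xGL_neg D hD s hs, xGL_neg D hD r hr, inv_inv, inv_inv] at hR
  simp only [] at hR
  unfold cm
  exact hR

/-! ### Canonical lifts by the torus trick, for one root -/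

/-- the canonical lift `[h_γ(ω), x_r(t / (ω^m - 1))]` of `x_r(t)` -/
noncomputable def YS (ω : K) (γ r : ℕ) (t : K) : E :=
  cm (hlT C γ ω) (C.xl r (t / (ω ^ (pairZ D γ r) - 1)))

theorem Ψ_YS (ω : K) (h0 : ω ≠ 0) (γ : ℕ) (hγ : γ < D.nroots) (r : ℕ) (hr : r < D.nroots)
    (hp : ω ^ (pairZ D γ r) ≠ 1) (t : K) : C.Ψ (YS C ω γ r t) = xGL D hD r t := by
  unfold YS
  rw [map_cm, Ψ_hlT C _ hγ _ h0, C.Ψ_xl]
  unfold cm
  rw [hGL_conj_x_gen D hD _ hγ ω h0, ← xGL_neg D hD r hr, xGL_add D hD r hr]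
  congr 1
  have := sub_ne_zero.2 hp
  field_simp
  ring

theorem YS_add (ω : K) (h0 : ω ≠ 0) (γ : ℕ) (hγ : γ < D.nroots) (r : ℕ) (hr : r < D.nroots)
    (hp : ω ^ (pairZ D γ r) ≠ 1) (hLC : LCm C.Ψ (xGL D hD) r r) (t u : K) :
    YS C ω γ r (t + u) = YS C ω γ r t * YS C ω γ r u := by
  set c : K := ω ^ (pairZ D γ r) - 1 with hc
  have h1 : YS C ω γ r (t + u) = cm (hlT C γ ω) (C.xl r (t / c) * C.xl r (u / c)) := by
    unfold YS
    apply cm_lift_indep C.Ψ C.hc rfl
    rw [map_mul, C.Ψ_xl, C.Ψ_xl, C.Ψ_xl, xGL_add D hD r hr, add_div]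
  rw [h1, cm_mul_right]
  have h2 : C.xl r (t / c) * YS C ω γ r u = YS C ω γ r u * C.xl r (t / c) :=
    hLC _ _ _ _ (C.Ψ_xl _ _) (Ψ_YS C ω h0 γ hγ r hr hp u)
  have h3 : C.xl r (t / c) * cm (hlT C γ ω) (C.xl r (u / c)) * (C.xl r (t / c))⁻¹
      = YS C ω γ r u := by
    show C.xl r (t / c) * YS C ω γ r u * (C.xl r (t / c))⁻¹ = YS C ω γ r u
    rw [h2]
    group
  rw [h3]
  rfl

/-- conjugation of a canonical lift by a lift of a torus element `h_γ'(ω)` -/
theorem conj_YS (ω : K) (h0 : ω ≠ 0) (γ : ℕ) (hγ : γ < D.nroots) (r : ℕ) (γ' : ℕ)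
    (hγ' : γ' < D.nroots) (e : E) (he : C.Ψ e = hGL D hD γ' ω) (t : K) :
    e * YS C ω γ r t * e⁻¹ = YS C ω γ r (ω ^ (pairZ D γ' r) * t) := by
  have h1 : e * YS C ω γ r t * e⁻¹
      = cm (e * hlT C γ ω * e⁻¹) (e * C.xl r (t / (ω ^ (pairZ D γ r) - 1)) * e⁻¹) := by
    unfold YS cm
    group
  rw [h1]
  unfold YS
  apply cm_lift_indep C.Ψ C.hc
  · rw [map_mul, map_mul, map_inv, he, Ψ_hlT C _ hγ _ h0]
    have := diagonal_commute D hD _ _ (hGL_mem_diagonal D hD γ' hγ' ω h0)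
      (hGL_mem_diagonal D hD γ hγ ω h0)
    rw [this]
    group
  · rw [map_mul, map_mul, map_inv, he, C.Ψ_xl, C.Ψ_xl, hGL_conj_x_gen D hD γ' hγ' ω h0,
      mul_div_assoc]

/-! ### Pairs of roots with a single-term commutator -/

/-- the data making the commutator of lifts of `x_b`, `x_c` biadditive -/
structure SmCtx (b c l : ℕ) (N : K) : Prop where
  hS : Sm (xGL (F := K) D hD) b c l N
  hbl : LCm C.Ψ (xGL D hD) b l
  hcl : LCm C.Ψ (xGL D hD) c l
  hll : LCm C.Ψ (xGL D hD) l l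

section sm

variable {C} {b c l : ℕ} {N : K} (S : SmCtx C b c l N)

include S

theorem g_add_left (t t' u : K) :
    gg C.xl b c (t + t') u = gg C.xl b c t u * gg C.xl b c t' u :=
  gg_add_left C.hc C.xl C.Ψ_xl (fun t u => (xGL_add' b t u).symm) S.hS S.hbl S.hll t t' u

theorem g_add_right (t u u' : K) :
    gg C.xl b c t (u + u') = gg C.xl b c t u * gg C.xl b c t u' :=
  gg_add_right C.hc C.xl C.Ψ_xl (fun t u => (xGL_add' c t u).symm) S.hS S.hcl t u u'

theorem g_zero_left (u : K) : gg C.xl b c 0 u = 1 := by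
  have h := g_add_left S 0 0 u
  rw [add_zero] at h
  exact mul_eq_left.1 h.symm

theorem g_zero_right (t : K) : gg C.xl b c t 0 = 1 := by
  have h := g_add_right S t 0 0
  rw [add_zero] at h
  exact mul_eq_left.1 h.symm

theorem g_neg_left (t u : K) : gg C.xl b c (-t) u = (gg C.xl b c t u)⁻¹ := by
  have h := g_add_left S t (-t) u
  rw [add_neg_cancel, g_zero_left S] at h
  exact (inv_eq_of_mul_eq_one_right h.symm).symm

theorem g_neg_right (t u : K) : gg C.xl b c t (-u) = (gg C.xl b c t u)⁻¹ := by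
  have h := g_add_right S t u (-u)
  rw [add_neg_cancel, g_zero_right S] at h
  exact (inv_eq_of_mul_eq_one_right h.symm).symm

/-- over the field with three elements the commutator of lifts is bilinear -/
theorem g_scal (hK3 : ∀ t : K, t = 0 ∨ t = 1 ∨ t = -1) (t u : K) :
    gg C.xl b c t u = gg C.xl b c (t * u) 1 := by
  rcases hK3 u with rfl | rfl | rfl
  · rw [mul_zero, g_zero_right S, g_zero_left S]
  · rw [mul_one]
  · rw [mul_neg, mul_one, g_neg_right S, g_neg_left S]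

end sm

/-- the canonical lift of the long root element `x_l(t)`, `l = b + c` -/
noncomputable def YL (b c : ℕ) (N : K) (t : K) : E := gg C.xl b c (t / N) 1

section sm2

variable {C} {b c l : ℕ} {N : K} (S : SmCtx C b c l N) (hN : N ≠ 0)

include S

include hN in
theorem Ψ_YL (t : K) : C.Ψ (YL C b c N t) = xGL D hD l t := by
  unfold YL
  rw [map_gg C.xl C.Ψ_xl S.hS]
  congr 1
  field_simp

theorem YL_add (t u : K) : YL C b c N (t + u) = YL C b c N t * YL C b c N u := by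
  unfold YL
  rw [add_div, g_add_left S]

theorem YL_zero : YL C b c N 0 = 1 := by
  unfold YL
  rw [zero_div, g_zero_left S]

theorem YL_neg (t : K) : YL C b c N (-t) = (YL C b c N t)⁻¹ := by
  unfold YL
  rw [neg_div, g_neg_left S]

/-- conjugation by a lift of a torus element acting by the same sign on `x_b` and `x_c` -/
theorem conj_YL {ω : K} (h0 : ω ≠ 0) {γ : ℕ} (hγ : γ < D.nroots) {ε : K}
    (hb : ω ^ (pairZ D γ b) = ε) (hc : ω ^ (pairZ D γ c) = ε) (hε : ε = 1 ∨ ε = -1)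
    (e : E) (he : C.Ψ e = hGL D hD γ ω) (t : K) :
    e * YL C b c N t * e⁻¹ = YL C b c N t := by
  have h1 : e * YL C b c N t * e⁻¹
      = cm (e * C.xl b (t / N) * e⁻¹) (e * C.xl c 1 * e⁻¹) := by
    unfold YL gg cm
    group
  have h2 : cm (e * C.xl b (t / N) * e⁻¹) (e * C.xl c 1 * e⁻¹)
      = gg C.xl b c (ε * (t / N)) (ε * 1) := by
    symm
    apply gg_eq_cm C.hc C.xl C.Ψ_xl
    · rw [map_mul, map_mul, map_inv, he, C.Ψ_xl, hGL_conj_x_gen D hD γ hγ ω h0, hb]
    · rw [map_mul, map_mul, map_inv, he, C.Ψ_xl, hGL_conj_x_gen D hD γ hγ ω h0, hc]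
  rw [h1, h2]
  unfold YL
  rcases hε with rfl | rfl
  · rw [one_mul, one_mul]
  · rw [neg_one_mul, neg_one_mul, g_neg_left S, g_neg_right S, inv_inv]

include hN in
/-- the commutator of any lifts of `x_b(u)`, `x_c(v)` is the canonical lift -/
theorem ss_rel (hK3 : ∀ t : K, t = 0 ∨ t = 1 ∨ t = -1) {e f : E} {u v : K}
    (he : C.Ψ e = xGL D hD b u) (hf : C.Ψ f = xGL D hD c v) :
    cm e f = YL C b c N (N * u * v) := by
  rw [← gg_eq_cm C.hc C.xl C.Ψ_xl he hf, g_scal S hK3]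
  unfold YL
  congr 1
  field_simp

include hN in
theorem ss_rel_rev (hK3 : ∀ t : K, t = 0 ∨ t = 1 ∨ t = -1) {e f : E} {u v : K}
    (he : C.Ψ e = xGL D hD b u) (hf : C.Ψ f = xGL D hD c v) :
    cm f e = YL C b c N (-N * v * u) := by
  rw [← cm_inv, ss_rel S hN hK3 he hf, ← YL_neg S]
  congr 1
  ring

end sm2

/-! ### Two orthogonal long roots -/

/-- an element whose image is a product of two root elements commutes with the lifts of the root
elements that commute with both -/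
theorem commute_of_two {c d k : ℕ} (h1 : LCm C.Ψ (xGL D hD) c k) (h2 : LCm C.Ψ (xGL D hD) d k)
    {w g : E} {p q v : K} (hw : C.Ψ w = xGL D hD c p * xGL D hD d q)
    (hg : C.Ψ g = xGL D hD k v) : w * g = g * w := by
  have ha : C.Ψ (C.xl c p * C.xl d q) = C.Ψ w := by
    rw [map_mul, C.Ψ_xl, C.Ψ_xl, hw]
  apply commute_lift_indep C.Ψ C.hc ha
  have e1 := h1 _ _ p v (C.Ψ_xl c p) hg
  have e2 := h2 _ _ q v (C.Ψ_xl d q) hg
  calc C.xl c p * C.xl d q * g = C.xl c p * (C.xl d q * g) := by group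
    _ = C.xl c p * (g * C.xl d q) := by rw [e2]
    _ = (C.xl c p * g) * C.xl d q := by group
    _ = (g * C.xl c p) * C.xl d q := by rw [e1]
    _ = g * (C.xl c p * C.xl d q) := by group

/-- lifts of `x_a`, `x_d` commute when `d = b + c`, `⁅x_a, x_b⁆ ∈ X_c X_d`, and `x_a`, `x_c`
commute -/
theorem lcm_orth {a d b c : ℕ} {N : K} {C1 C2 : ℤ} {i1 j1 i2 j2 : ℕ} (ha : a < D.nroots)
    (hb : b < D.nroots) (hab : a ≠ b) (han : a ≠ D.neg b)
    (hT : D.commTerms b a = [(c, C1, i1, j1), (d, C2, i2, j2)])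
    (hN : N ≠ 0) (hS : Sm (xGL (F := K) D hD) b c d N) (hac : Cm (xGL (F := K) D hD) a c)
    (hcc : LCm C.Ψ (xGL D hD) c c) (hdc : LCm C.Ψ (xGL D hD) d c)
    (hcd : LCm C.Ψ (xGL D hD) c d) (hdd : LCm C.Ψ (xGL D hD) d d) :
    LCm C.Ψ (xGL D hD) a d := by
  intro e e' t v he he'
  set f := C.xl b (v / N) with hf
  set g := C.xl c 1 with hg
  have hV : C.Ψ (cm f g) = xGL D hD d v := by
    rw [map_cm, hf, hg, C.Ψ_xl, C.Ψ_xl, hS]
    congr 1
    field_simp
  have hw : C.Ψ (cm e f) = xGL D hD c ((C1 : K) * (- -(v / N)) ^ i1 * (-t) ^ j1)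
        * xGL D hD d ((C2 : K) * (- -(v / N)) ^ i2 * (-t) ^ j2) := by
    rw [map_cm, he, hf, C.Ψ_xl]
    exact cm_two_terms hb ha hab han hT (v / N) t
  have hwg : cm e f * g = g * cm e f := commute_of_two C hcc hdc hw (C.Ψ_xl c 1)
  have hwV : cm e f * cm f g = cm f g * cm e f := commute_of_two C hcd hdd hw hV
  obtain ⟨z, hz, hgz⟩ := conj_eq_mul_central C.Ψ C.hc (e := e) (f := g)
    (by rw [he, hg, C.Ψ_xl]; exact hac t 1)
  have h1 : e * cm f g * e⁻¹ = cm (e * f * e⁻¹) (e * g * e⁻¹) := by unfold cm; group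
  have h2 : e * f * e⁻¹ = cm e f * f := by unfold cm; group
  have h3 : cm (cm e f * f) (g * z) = cm f g := by
    rw [cm_mul_right, cm_central_right hz, cm_mul_left]
    have h4 : cm (cm e f) g = 1 := by
      show cm e f * g * (cm e f)⁻¹ * g⁻¹ = 1
      rw [hwg]
      group
    have h5 : cm e f * cm f g * (cm e f)⁻¹ = cm f g := by
      rw [hwV]
      group
    rw [h4, h5]
    group
  rw [h2, hgz, h3] at h1
  have h6 : cm f g * e = e * cm f g := by
    calc cm f g * e = (e * cm f g * e⁻¹) * e := by rw [h1]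
      _ = e * cm f g := by group
  exact (commute_lift_indep C.Ψ C.hc (hV.trans he'.symm) h6).symm

end Cfsg.Agent.Lib.Helper8.StT2
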