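import Mathlib

set_option autoImplicit false
set_option linter.unusedSectionVars false

/-!
The two-term commutator relation `[x_a(t), x_b(u)] = x_{a+b}(C₁ t u) x_{a+2b}(C₂ t u²)` for
canonical lifts in a central extension, over a field of characteristic three: the central defect
is additive in `t`, invariant under `u ↦ -u` (conjugation by a torus element) and inverted by
`u ↦ -u` (inversion), hence trivial.  Abstract version, in terms of four one-parameter families.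
-/

namespace Cfsg.Agent.Lib.Helper8.StT2

section two

variable {E G : Type*} [Group E] [Group G] {K : Type*} [Field K]

/-- the commutator word -/
def Lw (A B : K → E) (t u : K) : E := (B u)⁻¹ * (A t)⁻¹ * B u * A t

/-- the right-hand side of the relation -/
def Rw (Yc Yd : K → E) (C1 C2 : K) (t u : K) : E := Yc (C1 * -t * u) * Yd (C2 * -t * u ^ 2)

/-- the defect -/
def fw (A B Yc Yd : K → E) (C1 C2 : K) (t u : K) : E := Lw A B t u * (Rw Yc Yd C1 C2 t u)⁻¹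

/-- the hypotheses -/
structure TwoCtx (Ψ : E →* G) (A B Yc Yd : K → E) (C1 C2 N : K) (h : E) : Prop where
  hc : Ψ.ker ≤ Subgroup.center E
  h3 : (1 : K) + 1 + 1 = 0
  hA : ∀ t t', A (t + t') = A t * A t'
  hB : ∀ u u', B (u + u') = B u * B u'
  hYc : ∀ p p', Yc (p + p') = Yc p * Yc p'
  hYd : ∀ q q', Yd (q + q') = Yd q * Yd q'
  hAc : ∀ t p, A t * Yc p = Yc p * A t
  hAd : ∀ t q, A t * Yd q = Yd q * A t
  hcd : ∀ p q, Yc p * Yd q = Yd q * Yc p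
  hBd : ∀ u q, B u * Yd q = Yd q * B u
  hbc : ∀ u v, B u * Yc v * (B u)⁻¹ = Yd (N * u * v) * Yc v
  hΨ : ∀ t u, Ψ (Lw A B t u) = Ψ (Rw Yc Yd C1 C2 t u)
  hid : N * C1 + 2 * C2 = 0
  hhA : ∀ t, h * A t * h⁻¹ = A t
  hhB : ∀ u, h * B u * h⁻¹ = B (-u)
  hhc : ∀ p, h * Yc p * h⁻¹ = Yc (-p)
  hhd : ∀ q, h * Yd q * h⁻¹ = Yd q

theorem add_hom_zero (F : K → E) (hF : ∀ t t', F (t + t') = F t * F t') : F 0 = 1 := by
  have h := hF 0 0
  rw [add_zero] at h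
  exact mul_eq_left.1 h.symm

theorem add_hom_neg (F : K → E) (hF : ∀ t t', F (t + t') = F t * F t') (t : K) :
    F (-t) = (F t)⁻¹ := by
  have h := hF t (-t)
  rw [add_neg_cancel, add_hom_zero F hF] at h
  exact (inv_eq_of_mul_eq_one_right h.symm).symm

variable {Ψ : E →* G} {A B Yc Yd : K → E} {C1 C2 N : K} {h : E}
  (T : TwoCtx Ψ A B Yc Yd C1 C2 N h)

include T

theorem TwoCtx.f_central (t u : K) : fw A B Yc Yd C1 C2 t u ∈ Subgroup.center E := by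
  apply T.hc
  unfold fw
  rw [MonoidHom.mem_ker, map_mul, map_inv, T.hΨ, mul_inv_cancel]

theorem TwoCtx.L_eq (t u : K) :
    Lw A B t u = fw A B Yc Yd C1 C2 t u * Rw Yc Yd C1 C2 t u := by
  unfold fw
  group

theorem TwoCtx.A_comm_R (t' t u : K) :
    A t' * Rw Yc Yd C1 C2 t u = Rw Yc Yd C1 C2 t u * A t' := by
  unfold Rw
  calc A t' * (Yc (C1 * -t * u) * Yd (C2 * -t * u ^ 2))
      = (A t' * Yc (C1 * -t * u)) * Yd (C2 * -t * u ^ 2) := by group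
    _ = (Yc (C1 * -t * u) * A t') * Yd (C2 * -t * u ^ 2) := by rw [T.hAc]
    _ = Yc (C1 * -t * u) * (A t' * Yd (C2 * -t * u ^ 2)) := by group
    _ = Yc (C1 * -t * u) * (Yd (C2 * -t * u ^ 2) * A t') := by rw [T.hAd]
    _ = Yc (C1 * -t * u) * Yd (C2 * -t * u ^ 2) * A t' := by group

theorem TwoCtx.A_comm_L (t' t u : K) : A t' * Lw A B t u = Lw A B t u * A t' := by
  have hz := Subgroup.mem_center_iff.1 (T.f_central t u)
  rw [T.L_eq t u]
  calc A t' * (fw A B Yc Yd C1 C2 t u * Rw Yc Yd C1 C2 t u)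
      = (A t' * fw A B Yc Yd C1 C2 t u) * Rw Yc Yd C1 C2 t u := by group
    _ = (fw A B Yc Yd C1 C2 t u * A t') * Rw Yc Yd C1 C2 t u := by rw [hz]
    _ = fw A B Yc Yd C1 C2 t u * (A t' * Rw Yc Yd C1 C2 t u) := by group
    _ = fw A B Yc Yd C1 C2 t u * (Rw Yc Yd C1 C2 t u * A t') := by rw [T.A_comm_R]
    _ = fw A B Yc Yd C1 C2 t u * Rw Yc Yd C1 C2 t u * A t' := by group

theorem TwoCtx.L_add (t t' u : K) : Lw A B (t + t') u = Lw A B t' u * Lw A B t u := by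
  have h1 : Lw A B (t + t') u = Lw A B t' u * ((A t')⁻¹ * Lw A B t u * A t') := by
    unfold Lw
    rw [T.hA]
    group
  have h2 : (A t')⁻¹ * Lw A B t u * A t' = Lw A B t u := by
    calc (A t')⁻¹ * Lw A B t u * A t' = (A t')⁻¹ * (Lw A B t u * A t') := by group
      _ = (A t')⁻¹ * (A t' * Lw A B t u) := by rw [T.A_comm_L]
      _ = Lw A B t u := by group
  rw [h1, h2]

theorem TwoCtx.R_add (t t' u : K) :
    Rw Yc Yd C1 C2 (t + t') u = Rw Yc Yd C1 C2 t u * Rw Yc Yd C1 C2 t' u := by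
  unfold Rw
  have e1 : C1 * -(t + t') * u = C1 * -t * u + C1 * -t' * u := by ring
  have e2 : C2 * -(t + t') * u ^ 2 = C2 * -t * u ^ 2 + C2 * -t' * u ^ 2 := by ring
  rw [e1, e2, T.hYc, T.hYd]
  calc Yc (C1 * -t * u) * Yc (C1 * -t' * u) * (Yd (C2 * -t * u ^ 2) * Yd (C2 * -t' * u ^ 2))
      = Yc (C1 * -t * u) * (Yc (C1 * -t' * u) * Yd (C2 * -t * u ^ 2))
        * Yd (C2 * -t' * u ^ 2) := by group
    _ = Yc (C1 * -t * u) * (Yd (C2 * -t * u ^ 2) * Yc (C1 * -t' * u))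
        * Yd (C2 * -t' * u ^ 2) := by rw [T.hcd]
    _ = Yc (C1 * -t * u) * Yd (C2 * -t * u ^ 2)
        * (Yc (C1 * -t' * u) * Yd (C2 * -t' * u ^ 2)) := by group

theorem TwoCtx.f_add (t t' u : K) :
    fw A B Yc Yd C1 C2 (t + t') u = fw A B Yc Yd C1 C2 t u * fw A B Yc Yd C1 C2 t' u := by
  have hz := Subgroup.mem_center_iff.1 (T.f_central t u)
  have h1 : fw A B Yc Yd C1 C2 (t + t') u
      = Lw A B t' u * fw A B Yc Yd C1 C2 t u * (Rw Yc Yd C1 C2 t' u)⁻¹ := by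
    unfold fw
    rw [T.L_add, add_comm t t', T.R_add]
    group
  rw [h1, hz]
  unfold fw
  group

theorem TwoCtx.f_zero (u : K) : fw A B Yc Yd C1 C2 0 u = 1 := by
  unfold fw Lw Rw
  rw [add_hom_zero A T.hA, neg_zero, mul_zero, zero_mul, mul_zero, zero_mul,
    add_hom_zero Yc T.hYc, add_hom_zero Yd T.hYd]
  group

theorem TwoCtx.f_cube (t u : K) :
    fw A B Yc Yd C1 C2 t u * fw A B Yc Yd C1 C2 t u * fw A B Yc Yd C1 C2 t u = 1 := by
  rw [← T.f_add, ← T.f_add]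
  have h0 : t + t + t = 0 := by linear_combination t * T.h3
  rw [h0, T.f_zero]

theorem TwoCtx.f_tor (t u : K) : fw A B Yc Yd C1 C2 t (-u) = fw A B Yc Yd C1 C2 t u := by
  have hz := Subgroup.mem_center_iff.1 (T.f_central t u) h
  have h1 : h * fw A B Yc Yd C1 C2 t u * h⁻¹ = fw A B Yc Yd C1 C2 t u := by
    rw [hz]
    group
  have h2 : h * Lw A B t u * h⁻¹ = Lw A B t (-u) := by
    have : h * Lw A B t u * h⁻¹
        = (h * B u * h⁻¹)⁻¹ * (h * A t * h⁻¹)⁻¹ * (h * B u * h⁻¹) * (h * A t * h⁻¹) := by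
      unfold Lw
      group
    rw [this, T.hhA, T.hhB]
    rfl
  have h3 : h * Rw Yc Yd C1 C2 t u * h⁻¹ = Rw Yc Yd C1 C2 t (-u) := by
    have : h * Rw Yc Yd C1 C2 t u * h⁻¹
        = (h * Yc (C1 * -t * u) * h⁻¹) * (h * Yd (C2 * -t * u ^ 2) * h⁻¹) := by
      unfold Rw
      group
    rw [this, T.hhc, T.hhd]
    unfold Rw
    have e1 : C1 * -t * -u = -(C1 * -t * u) := by ring
    have e2 : C2 * -t * (-u) ^ 2 = C2 * -t * u ^ 2 := by ring
    rw [e1, e2]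
  have h4 : h * fw A B Yc Yd C1 C2 t u * h⁻¹
      = (h * Lw A B t u * h⁻¹) * (h * Rw Yc Yd C1 C2 t u * h⁻¹)⁻¹ := by
    unfold fw
    group
  rw [← h1, h4, h2, h3]
  rfl

theorem TwoCtx.R_key (t u : K) :
    Rw Yc Yd C1 C2 t (-u) * (B u * Rw Yc Yd C1 C2 t u * (B u)⁻¹) = 1 := by
  obtain ⟨p, hp⟩ : ∃ p : K, p = C1 * -t * u := ⟨_, rfl⟩
  obtain ⟨q, hq⟩ : ∃ q : K, q = C2 * -t * u ^ 2 := ⟨_, rfl⟩
  have e1 : C1 * -t * -u = -p := by rw [hp]; ring
  have e2 : C2 * -t * (-u) ^ 2 = q := by rw [hq]; ring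
  have h1 : Rw Yc Yd C1 C2 t (-u) = (Yc p)⁻¹ * Yd q := by
    unfold Rw
    rw [e1, e2, add_hom_neg Yc T.hYc]
  have h0 : Rw Yc Yd C1 C2 t u = Yc p * Yd q := by
    unfold Rw
    rw [hp, hq]
  have h2 : B u * Rw Yc Yd C1 C2 t u * (B u)⁻¹ = Yd (N * u * p) * Yc p * Yd q := by
    have h2a : B u * Yd q * (B u)⁻¹ = Yd q := by
      rw [T.hBd]
      group
    calc B u * Rw Yc Yd C1 C2 t u * (B u)⁻¹
        = (B u * Yc p * (B u)⁻¹) * (B u * Yd q * (B u)⁻¹) := by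
          rw [h0]
          group
      _ = Yd (N * u * p) * Yc p * Yd q := by rw [T.hbc, h2a]
  rw [h1, h2]
  have e3 : Yd (N * u * p) * Yc p = Yc p * Yd (N * u * p) := (T.hcd _ _).symm
  have e4 : Yd q * Yc p = Yc p * Yd q := (T.hcd _ _).symm
  calc (Yc p)⁻¹ * Yd q * (Yd (N * u * p) * Yc p * Yd q)
      = (Yc p)⁻¹ * Yd q * (Yc p * Yd (N * u * p)) * Yd q := by rw [e3]; group
    _ = (Yc p)⁻¹ * (Yd q * Yc p) * Yd (N * u * p) * Yd q := by group
    _ = (Yc p)⁻¹ * (Yc p * Yd q) * Yd (N * u * p) * Yd q := by rw [e4]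
    _ = Yd q * Yd (N * u * p) * Yd q := by group
    _ = Yd (q + N * u * p + q) := by rw [T.hYd, T.hYd]
    _ = Yd 0 := by
        congr 1
        rw [hp, hq]
        linear_combination (-t * u ^ 2) * T.hid
    _ = 1 := add_hom_zero Yd T.hYd

theorem TwoCtx.f_inv (t u : K) :
    fw A B Yc Yd C1 C2 t (-u) * fw A B Yc Yd C1 C2 t u = 1 := by
  have hz := Subgroup.mem_center_iff.1 (T.f_central t u)
  have h1 : Lw A B t (-u) = B u * (Lw A B t u)⁻¹ * (B u)⁻¹ := by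
    unfold Lw
    rw [add_hom_neg B T.hB]
    group
  have h2 : (Lw A B t u)⁻¹ * fw A B Yc Yd C1 C2 t u = (Rw Yc Yd C1 C2 t u)⁻¹ := by
    unfold fw
    group
  calc fw A B Yc Yd C1 C2 t (-u) * fw A B Yc Yd C1 C2 t u
      = B u * (Lw A B t u)⁻¹ * ((B u)⁻¹ * (Rw Yc Yd C1 C2 t (-u))⁻¹ * fw A B Yc Yd C1 C2 t u) := by
        unfold fw
        rw [h1]
        group
    _ = B u * (Lw A B t u)⁻¹
        * (fw A B Yc Yd C1 C2 t u * ((B u)⁻¹ * (Rw Yc Yd C1 C2 t (-u))⁻¹)) := by rw [hz]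
    _ = B u * ((Lw A B t u)⁻¹ * fw A B Yc Yd C1 C2 t u) * (B u)⁻¹
        * (Rw Yc Yd C1 C2 t (-u))⁻¹ := by group
    _ = (Rw Yc Yd C1 C2 t (-u) * (B u * Rw Yc Yd C1 C2 t u * (B u)⁻¹))⁻¹ := by
        rw [h2]
        group
    _ = 1 := by rw [T.R_key, inv_one]

/-- the relation -/
theorem TwoCtx.rel (t u : K) :
    (B u)⁻¹ * (A t)⁻¹ * B u * A t = Yc (C1 * -t * u) * Yd (C2 * -t * u ^ 2) := by
  have h1 := T.f_inv t u
  rw [T.f_tor] at h1
  have h2 := T.f_cube t u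
  rw [h1, one_mul] at h2
  have h3 := T.L_eq t u
  rw [h2, one_mul] at h3
  exact h3

/-- the relation for the reversed pair -/
theorem TwoCtx.rel_rev (t u : K) :
    (A t)⁻¹ * (B u)⁻¹ * A t * B u = Yc (C1 * t * u) * Yd (C2 * t * u ^ 2) := by
  have h1 : (A t)⁻¹ * (B u)⁻¹ * A t * B u = ((B u)⁻¹ * (A t)⁻¹ * B u * A t)⁻¹ := by group
  rw [h1, T.rel, mul_inv_rev, ← add_hom_neg Yc T.hYc, ← add_hom_neg Yd T.hYd, ← T.hcd]
  have e1 : -(C1 * -t * u) = C1 * t * u := by ring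
  have e2 : -(C2 * -t * u ^ 2) = C2 * t * u ^ 2 := by ring
  rw [e1, e2]

end two

end Cfsg.Agent.Lib.Helper8.StT2
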