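import Mathlib
import Cfsg.Agent.Lib.Helper8.StT2B2
import Cfsg.Agent.Lib.Helper8.StT2H
import Cfsg.Agent.Lib.Helper8.StT2I
import Cfsg.Agent.Lib.Helper8.StT2D4

set_option autoImplicit false
set_option linter.unusedSectionVars false
set_option linter.unusedVariables false

/-!
`B₂` over the field with three elements: the lifting theorem (generated case analysis over the
pairs of roots of `B₂`, on top of the generic tools of `StT2H`, `StT2I`).
-/

namespace Cfsg.Agent.Lib.Helper8.StT2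

open Cfsg Cfsg.Lie Cfsg.Agent.Lib.Helper5.ChevSym Cfsg.Agent.Lib.Helper5.ChevStruct
  Cfsg.Agent.Lib.Helper5.StPres Cfsg.Agent.Lib.Helper9.InvolX Cfsg.Agent.Lib.Helper8.StLift
  Cfsg.Agent.Lib.Helper8.StSl Cfsg.Agent.Lib.Helper8.StT

section defs

variable {K : Type*} [Field K] {E : Type*} [Group E] (C : Ctx0 chevB2 B2_mem_Seven K E)

/-- the canonical lifts for `B₂` over the field with three elements -/
noncomputable def YB (r : ℕ) (t : K) : E :=
  match r with
  | 0 => YL C 1 2 ((2 : ℤ) : K) t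
  | 1 => YS C (-1) 0 1 t
  | 2 => YS C (-1) 0 2 t
  | 3 => YL C 1 5 ((-2 : ℤ) : K) t
  | 4 => YL C 2 6 ((-2 : ℤ) : K) t
  | 5 => YS C (-1) 0 5 t
  | 6 => YS C (-1) 0 6 t
  | 7 => YL C 5 6 ((2 : ℤ) : K) t
  | _ => 1

end defs

section b3

variable {K : Type*} [Field K] {E : Type*} [Group E] (C : Ctx0 chevB2 B2_mem_Seven K E)
  (hK3 : ∀ t : K, t = 0 ∨ t = 1 ∨ t = -1) (h3 : (1 : K) + 1 + 1 = 0)

include hK3 h3

theorem b3_two_ne : ((2 : ℤ) : K) ≠ 0 := by
  push_cast
  intro h
  have : (1 : K) = 0 := by linear_combination h3 - h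
  exact one_ne_zero this

theorem b3_neg_two_ne : ((-2 : ℤ) : K) ≠ 0 := by
  push_cast
  intro h
  have : (1 : K) = 0 := by linear_combination h3 + h
  exact one_ne_zero this

theorem b3_pow_eq {m : ℤ} (hm : m = 1 ∨ m = -1) : (-1 : K) ^ m = -1 := by
  rcases hm with rfl | rfl
  · rw [zpow_one]
  · rw [zpow_neg_one, inv_neg_one]

theorem b3_pow_ne {m : ℤ} (hm : m = 1 ∨ m = -1) : (-1 : K) ^ m ≠ 1 := by
  rw [b3_pow_eq hK3 h3 hm]
  exact neg_one_ne_one h3

theorem b3_neg_one_ne_zero : (-1 : K) ≠ 0 := neg_ne_zero.2 one_ne_zero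

/-- the torus trick with `h_γ(-1)` for a short and a long root -/
theorem b3_lcm_mixed {r s γ : ℕ} (hr : r < 8) (hs : s < 8) (hγ : γ < 8)
    (hcm : cmT chevB2 r s = true)
    (hodd : pairZ chevB2 γ r = 1 ∨ pairZ chevB2 γ r = -1) (h0 : pairZ chevB2 γ s = 0) :
    LCm C.Ψ (xGL chevB2 B2_mem_Seven) r s :=
  lcm_of_torus0 C (-1) (neg_ne_zero.2 one_ne_zero) γ hγ (b3_pow_ne hK3 h3 hodd) h0
    (cm_of_cmT B2_mem_Seven K hr hs hcm)


theorem b3_l_1_0 : LCm C.Ψ (xGL chevB2 B2_mem_Seven) 1 0 :=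
  b3_lcm_mixed C hK3 h3 (γ := 3) (by decide) (by decide) (by decide) (by decide +kernel)
    (by decide +kernel) (by decide +kernel)

theorem b3_l_0_1 : LCm C.Ψ (xGL chevB2 B2_mem_Seven) 0 1 :=
  lcm_symm C (b3_l_1_0 C hK3 h3)

theorem b3_l_1_3 : LCm C.Ψ (xGL chevB2 B2_mem_Seven) 1 3 :=
  b3_lcm_mixed C hK3 h3 (γ := 0) (by decide) (by decide) (by decide) (by decide +kernel)
    (by decide +kernel) (by decide +kernel)

theorem b3_l_3_1 : LCm C.Ψ (xGL chevB2 B2_mem_Seven) 3 1 :=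
  lcm_symm C (b3_l_1_3 C hK3 h3)

theorem b3_l_2_0 : LCm C.Ψ (xGL chevB2 B2_mem_Seven) 2 0 :=
  b3_lcm_mixed C hK3 h3 (γ := 3) (by decide) (by decide) (by decide) (by decide +kernel)
    (by decide +kernel) (by decide +kernel)

theorem b3_l_0_2 : LCm C.Ψ (xGL chevB2 B2_mem_Seven) 0 2 :=
  lcm_symm C (b3_l_2_0 C hK3 h3)

theorem b3_l_2_4 : LCm C.Ψ (xGL chevB2 B2_mem_Seven) 2 4 :=
  b3_lcm_mixed C hK3 h3 (γ := 0) (by decide) (by decide) (by decide) (by decide +kernel)
    (by decide +kernel) (by decide +kernel)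

theorem b3_l_4_2 : LCm C.Ψ (xGL chevB2 B2_mem_Seven) 4 2 :=
  lcm_symm C (b3_l_2_4 C hK3 h3)

theorem b3_l_5_3 : LCm C.Ψ (xGL chevB2 B2_mem_Seven) 5 3 :=
  b3_lcm_mixed C hK3 h3 (γ := 0) (by decide) (by decide) (by decide) (by decide +kernel)
    (by decide +kernel) (by decide +kernel)

theorem b3_l_3_5 : LCm C.Ψ (xGL chevB2 B2_mem_Seven) 3 5 :=
  lcm_symm C (b3_l_5_3 C hK3 h3)

theorem b3_l_5_7 : LCm C.Ψ (xGL chevB2 B2_mem_Seven) 5 7 :=
  b3_lcm_mixed C hK3 h3 (γ := 3) (by decide) (by decide) (by decide) (by decide +kernel)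
    (by decide +kernel) (by decide +kernel)

theorem b3_l_7_5 : LCm C.Ψ (xGL chevB2 B2_mem_Seven) 7 5 :=
  lcm_symm C (b3_l_5_7 C hK3 h3)

theorem b3_l_6_4 : LCm C.Ψ (xGL chevB2 B2_mem_Seven) 6 4 :=
  b3_lcm_mixed C hK3 h3 (γ := 0) (by decide) (by decide) (by decide) (by decide +kernel)
    (by decide +kernel) (by decide +kernel)

theorem b3_l_4_6 : LCm C.Ψ (xGL chevB2 B2_mem_Seven) 4 6 :=
  lcm_symm C (b3_l_6_4 C hK3 h3)

theorem b3_l_6_7 : LCm C.Ψ (xGL chevB2 B2_mem_Seven) 6 7 :=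
  b3_lcm_mixed C hK3 h3 (γ := 3) (by decide) (by decide) (by decide) (by decide +kernel)
    (by decide +kernel) (by decide +kernel)

theorem b3_l_7_6 : LCm C.Ψ (xGL chevB2 B2_mem_Seven) 7 6 :=
  lcm_symm C (b3_l_6_7 C hK3 h3)

theorem b3_l_0_3 : LCm C.Ψ (xGL chevB2 B2_mem_Seven) 0 3 :=
  lcm_orth C (a := 0) (d := 3) (b := 5) (c := 1) (N := (((2 : ℤ)) : K)) (C1 := -1) (C2 := -1)
    (i1 := 1) (j1 := 1) (i2 := 2) (j2 := 1)
    (by decide) (by decide) (by decide) (by decide +kernel) (by decide +kernel) (b3_two_ne hK3 h3)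
    (sm_of_terms B2_mem_Seven K (by decide) (by decide) (by decide) (by decide) (by decide +kernel)
      (by decide +kernel))
    (cm_of_cmT B2_mem_Seven K (by decide) (by decide) (by decide +kernel))
    (lcm_self_three C hK3 1) (b3_l_3_1 C hK3 h3) (b3_l_1_3 C hK3 h3) (lcm_self_three C hK3 3)

theorem b3_l_0_4 : LCm C.Ψ (xGL chevB2 B2_mem_Seven) 0 4 :=
  lcm_orth C (a := 0) (d := 4) (b := 6) (c := 2) (N := (((2 : ℤ)) : K)) (C1 := 1) (C2 := 1)
    (i1 := 1) (j1 := 1) (i2 := 2) (j2 := 1)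
    (by decide) (by decide) (by decide) (by decide +kernel) (by decide +kernel) (b3_two_ne hK3 h3)
    (sm_of_terms B2_mem_Seven K (by decide) (by decide) (by decide) (by decide) (by decide +kernel)
      (by decide +kernel))
    (cm_of_cmT B2_mem_Seven K (by decide) (by decide) (by decide +kernel))
    (lcm_self_three C hK3 2) (b3_l_4_2 C hK3 h3) (b3_l_2_4 C hK3 h3) (lcm_self_three C hK3 4)

theorem b3_l_3_0 : LCm C.Ψ (xGL chevB2 B2_mem_Seven) 3 0 :=
  lcm_orth C (a := 3) (d := 0) (b := 2) (c := 1) (N := (((-2 : ℤ)) : K)) (C1 := 1) (C2 := -1)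
    (i1 := 1) (j1 := 1) (i2 := 2) (j2 := 1)
    (by decide) (by decide) (by decide) (by decide +kernel) (by decide +kernel) (b3_neg_two_ne hK3 h3)
    (sm_of_terms B2_mem_Seven K (by decide) (by decide) (by decide) (by decide) (by decide +kernel)
      (by decide +kernel))
    (cm_of_cmT B2_mem_Seven K (by decide) (by decide) (by decide +kernel))
    (lcm_self_three C hK3 1) (b3_l_0_1 C hK3 h3) (b3_l_1_0 C hK3 h3) (lcm_self_three C hK3 0)

theorem b3_l_3_7 : LCm C.Ψ (xGL chevB2 B2_mem_Seven) 3 7 :=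
  lcm_orth C (a := 3) (d := 7) (b := 6) (c := 5) (N := (((-2 : ℤ)) : K)) (C1 := -1) (C2 := 1)
    (i1 := 1) (j1 := 1) (i2 := 2) (j2 := 1)
    (by decide) (by decide) (by decide) (by decide +kernel) (by decide +kernel) (b3_neg_two_ne hK3 h3)
    (sm_of_terms B2_mem_Seven K (by decide) (by decide) (by decide) (by decide) (by decide +kernel)
      (by decide +kernel))
    (cm_of_cmT B2_mem_Seven K (by decide) (by decide) (by decide +kernel))
    (lcm_self_three C hK3 5) (b3_l_7_5 C hK3 h3) (b3_l_5_7 C hK3 h3) (lcm_self_three C hK3 7)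

theorem b3_l_4_0 : LCm C.Ψ (xGL chevB2 B2_mem_Seven) 4 0 :=
  lcm_orth C (a := 4) (d := 0) (b := 1) (c := 2) (N := (((2 : ℤ)) : K)) (C1 := 1) (C2 := 1)
    (i1 := 1) (j1 := 1) (i2 := 2) (j2 := 1)
    (by decide) (by decide) (by decide) (by decide +kernel) (by decide +kernel) (b3_two_ne hK3 h3)
    (sm_of_terms B2_mem_Seven K (by decide) (by decide) (by decide) (by decide) (by decide +kernel)
      (by decide +kernel))
    (cm_of_cmT B2_mem_Seven K (by decide) (by decide) (by decide +kernel))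
    (lcm_self_three C hK3 2) (b3_l_0_2 C hK3 h3) (b3_l_2_0 C hK3 h3) (lcm_self_three C hK3 0)

theorem b3_l_4_7 : LCm C.Ψ (xGL chevB2 B2_mem_Seven) 4 7 :=
  lcm_orth C (a := 4) (d := 7) (b := 5) (c := 6) (N := (((2 : ℤ)) : K)) (C1 := -1) (C2 := -1)
    (i1 := 1) (j1 := 1) (i2 := 2) (j2 := 1)
    (by decide) (by decide) (by decide) (by decide +kernel) (by decide +kernel) (b3_two_ne hK3 h3)
    (sm_of_terms B2_mem_Seven K (by decide) (by decide) (by decide) (by decide) (by decide +kernel)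
      (by decide +kernel))
    (cm_of_cmT B2_mem_Seven K (by decide) (by decide) (by decide +kernel))
    (lcm_self_three C hK3 6) (b3_l_7_6 C hK3 h3) (b3_l_6_7 C hK3 h3) (lcm_self_three C hK3 7)

theorem b3_l_7_3 : LCm C.Ψ (xGL chevB2 B2_mem_Seven) 7 3 :=
  lcm_orth C (a := 7) (d := 3) (b := 1) (c := 5) (N := (((-2 : ℤ)) : K)) (C1 := -1) (C2 := 1)
    (i1 := 1) (j1 := 1) (i2 := 2) (j2 := 1)
    (by decide) (by decide) (by decide) (by decide +kernel) (by decide +kernel) (b3_neg_two_ne hK3 h3)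
    (sm_of_terms B2_mem_Seven K (by decide) (by decide) (by decide) (by decide) (by decide +kernel)
      (by decide +kernel))
    (cm_of_cmT B2_mem_Seven K (by decide) (by decide) (by decide +kernel))
    (lcm_self_three C hK3 5) (b3_l_3_5 C hK3 h3) (b3_l_5_3 C hK3 h3) (lcm_self_three C hK3 3)

theorem b3_l_7_4 : LCm C.Ψ (xGL chevB2 B2_mem_Seven) 7 4 :=
  lcm_orth C (a := 7) (d := 4) (b := 2) (c := 6) (N := (((-2 : ℤ)) : K)) (C1 := 1) (C2 := -1)
    (i1 := 1) (j1 := 1) (i2 := 2) (j2 := 1)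
    (by decide) (by decide) (by decide) (by decide +kernel) (by decide +kernel) (b3_neg_two_ne hK3 h3)
    (sm_of_terms B2_mem_Seven K (by decide) (by decide) (by decide) (by decide) (by decide +kernel)
      (by decide +kernel))
    (cm_of_cmT B2_mem_Seven K (by decide) (by decide) (by decide +kernel))
    (lcm_self_three C hK3 6) (b3_l_4_6 C hK3 h3) (b3_l_6_4 C hK3 h3) (lcm_self_three C hK3 4)

/-- lifts of commuting root elements commute -/
theorem b3_lcm (r s : ℕ) (hr : r < 8) (hs : s < 8) (hcm : cmT chevB2 r s = true) :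
    LCm C.Ψ (xGL chevB2 B2_mem_Seven) r s := by
  interval_cases r
  · interval_cases s
    · exact lcm_self_three C hK3 0
    · exact b3_l_0_1 C hK3 h3
    · exact b3_l_0_2 C hK3 h3
    · exact b3_l_0_3 C hK3 h3
    · exact b3_l_0_4 C hK3 h3
    · exact absurd hcm (by decide +kernel)
    · exact absurd hcm (by decide +kernel)
    · exact absurd hcm (by decide +kernel)
  · interval_cases s
    · exact b3_l_1_0 C hK3 h3
    · exact lcm_self_three C hK3 1
    · exact absurd hcm (by decide +kernel)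
    · exact b3_l_1_3 C hK3 h3
    · exact absurd hcm (by decide +kernel)
    · exact absurd hcm (by decide +kernel)
    · exact absurd hcm (by decide +kernel)
    · exact absurd hcm (by decide +kernel)
  · interval_cases s
    · exact b3_l_2_0 C hK3 h3
    · exact absurd hcm (by decide +kernel)
    · exact lcm_self_three C hK3 2
    · exact absurd hcm (by decide +kernel)
    · exact b3_l_2_4 C hK3 h3
    · exact absurd hcm (by decide +kernel)
    · exact absurd hcm (by decide +kernel)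
    · exact absurd hcm (by decide +kernel)
  · interval_cases s
    · exact b3_l_3_0 C hK3 h3
    · exact b3_l_3_1 C hK3 h3
    · exact absurd hcm (by decide +kernel)
    · exact lcm_self_three C hK3 3
    · exact absurd hcm (by decide +kernel)
    · exact b3_l_3_5 C hK3 h3
    · exact absurd hcm (by decide +kernel)
    · exact b3_l_3_7 C hK3 h3
  · interval_cases s
    · exact b3_l_4_0 C hK3 h3
    · exact absurd hcm (by decide +kernel)
    · exact b3_l_4_2 C hK3 h3
    · exact absurd hcm (by decide +kernel)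
    · exact lcm_self_three C hK3 4
    · exact absurd hcm (by decide +kernel)
    · exact b3_l_4_6 C hK3 h3
    · exact b3_l_4_7 C hK3 h3
  · interval_cases s
    · exact absurd hcm (by decide +kernel)
    · exact absurd hcm (by decide +kernel)
    · exact absurd hcm (by decide +kernel)
    · exact b3_l_5_3 C hK3 h3
    · exact absurd hcm (by decide +kernel)
    · exact lcm_self_three C hK3 5
    · exact absurd hcm (by decide +kernel)
    · exact b3_l_5_7 C hK3 h3
  · interval_cases s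
    · exact absurd hcm (by decide +kernel)
    · exact absurd hcm (by decide +kernel)
    · exact absurd hcm (by decide +kernel)
    · exact absurd hcm (by decide +kernel)
    · exact b3_l_6_4 C hK3 h3
    · exact absurd hcm (by decide +kernel)
    · exact lcm_self_three C hK3 6
    · exact b3_l_6_7 C hK3 h3
  · interval_cases s
    · exact absurd hcm (by decide +kernel)
    · exact absurd hcm (by decide +kernel)
    · exact absurd hcm (by decide +kernel)
    · exact b3_l_7_3 C hK3 h3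
    · exact b3_l_7_4 C hK3 h3
    · exact b3_l_7_5 C hK3 h3
    · exact b3_l_7_6 C hK3 h3
    · exact lcm_self_three C hK3 7

theorem b3_sm0 : SmCtx C 1 2 0 (((2 : ℤ)) : K) :=
  ⟨sm_of_terms B2_mem_Seven K (by decide) (by decide) (by decide) (by decide) (by decide +kernel)
    (by decide +kernel), b3_l_1_0 C hK3 h3, b3_l_2_0 C hK3 h3, lcm_self_three C hK3 0⟩

theorem b3_sm3 : SmCtx C 1 5 3 (((-2 : ℤ)) : K) :=
  ⟨sm_of_terms B2_mem_Seven K (by decide) (by decide) (by decide) (by decide) (by decide +kernel)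
    (by decide +kernel), b3_l_1_3 C hK3 h3, b3_l_5_3 C hK3 h3, lcm_self_three C hK3 3⟩

theorem b3_sm4 : SmCtx C 2 6 4 (((-2 : ℤ)) : K) :=
  ⟨sm_of_terms B2_mem_Seven K (by decide) (by decide) (by decide) (by decide) (by decide +kernel)
    (by decide +kernel), b3_l_2_4 C hK3 h3, b3_l_6_4 C hK3 h3, lcm_self_three C hK3 4⟩

theorem b3_sm7 : SmCtx C 5 6 7 (((2 : ℤ)) : K) :=
  ⟨sm_of_terms B2_mem_Seven K (by decide) (by decide) (by decide) (by decide) (by decide +kernel)
    (by decide +kernel), b3_l_5_7 C hK3 h3, b3_l_6_7 C hK3 h3, lcm_self_three C hK3 7⟩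

theorem Ψ_YB (r : ℕ) (hr : r < 8) (t : K) : C.Ψ (YB C r t) = xGL chevB2 B2_mem_Seven r t := by
  interval_cases r
  · exact Ψ_YL (b3_sm0 C hK3 h3) (b3_two_ne hK3 h3) t
  · exact Ψ_YS C (-1) (b3_neg_one_ne_zero hK3 h3) 0 (by decide) 1 (by decide)
      (b3_pow_ne hK3 h3 (by decide +kernel)) t
  · exact Ψ_YS C (-1) (b3_neg_one_ne_zero hK3 h3) 0 (by decide) 2 (by decide)
      (b3_pow_ne hK3 h3 (by decide +kernel)) t
  · exact Ψ_YL (b3_sm3 C hK3 h3) (b3_neg_two_ne hK3 h3) t
  · exact Ψ_YL (b3_sm4 C hK3 h3) (b3_neg_two_ne hK3 h3) t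
  · exact Ψ_YS C (-1) (b3_neg_one_ne_zero hK3 h3) 0 (by decide) 5 (by decide)
      (b3_pow_ne hK3 h3 (by decide +kernel)) t
  · exact Ψ_YS C (-1) (b3_neg_one_ne_zero hK3 h3) 0 (by decide) 6 (by decide)
      (b3_pow_ne hK3 h3 (by decide +kernel)) t
  · exact Ψ_YL (b3_sm7 C hK3 h3) (b3_two_ne hK3 h3) t

theorem YB_add (r : ℕ) (hr : r < 8) (t u : K) : YB C r (t + u) = YB C r t * YB C r u := by
  interval_cases r
  · exact YL_add (b3_sm0 C hK3 h3) t u
  · exact YS_add C (-1) (b3_neg_one_ne_zero hK3 h3) 0 (by decide) 1 (by decide)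
      (b3_pow_ne hK3 h3 (by decide +kernel)) (lcm_self_three C hK3 1) t u
  · exact YS_add C (-1) (b3_neg_one_ne_zero hK3 h3) 0 (by decide) 2 (by decide)
      (b3_pow_ne hK3 h3 (by decide +kernel)) (lcm_self_three C hK3 2) t u
  · exact YL_add (b3_sm3 C hK3 h3) t u
  · exact YL_add (b3_sm4 C hK3 h3) t u
  · exact YS_add C (-1) (b3_neg_one_ne_zero hK3 h3) 0 (by decide) 5 (by decide)
      (b3_pow_ne hK3 h3 (by decide +kernel)) (lcm_self_three C hK3 5) t u
  · exact YS_add C (-1) (b3_neg_one_ne_zero hK3 h3) 0 (by decide) 6 (by decide)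
      (b3_pow_ne hK3 h3 (by decide +kernel)) (lcm_self_three C hK3 6) t u
  · exact YL_add (b3_sm7 C hK3 h3) t u

theorem Ψ_h0 : C.Ψ (hlT C 0 (-1)) = hGL chevB2 B2_mem_Seven 0 (-1) :=
  Ψ_hlT C 0 (by decide) (-1) (b3_neg_one_ne_zero hK3 h3)

theorem YB_conj_long (r : ℕ) (hr : r = 0 ∨ r = 3 ∨ r = 4 ∨ r = 7) (t : K) :
    hlT C 0 (-1) * YB C r t * (hlT C 0 (-1))⁻¹ = YB C r t := by
  rcases hr with rfl | rfl | rfl | rfl
  · exact conj_YL (b3_sm0 C hK3 h3) (b3_neg_one_ne_zero hK3 h3) (γ := 0) (by decide)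
      (b3_pow_eq hK3 h3 (by decide +kernel)) (b3_pow_eq hK3 h3 (by decide +kernel)) (Or.inr rfl) _
      (Ψ_h0 C hK3 h3) t
  · exact conj_YL (b3_sm3 C hK3 h3) (b3_neg_one_ne_zero hK3 h3) (γ := 0) (by decide)
      (b3_pow_eq hK3 h3 (by decide +kernel)) (b3_pow_eq hK3 h3 (by decide +kernel)) (Or.inr rfl) _
      (Ψ_h0 C hK3 h3) t
  · exact conj_YL (b3_sm4 C hK3 h3) (b3_neg_one_ne_zero hK3 h3) (γ := 0) (by decide)
      (b3_pow_eq hK3 h3 (by decide +kernel)) (b3_pow_eq hK3 h3 (by decide +kernel)) (Or.inr rfl) _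
      (Ψ_h0 C hK3 h3) t
  · exact conj_YL (b3_sm7 C hK3 h3) (b3_neg_one_ne_zero hK3 h3) (γ := 0) (by decide)
      (b3_pow_eq hK3 h3 (by decide +kernel)) (b3_pow_eq hK3 h3 (by decide +kernel)) (Or.inr rfl) _
      (Ψ_h0 C hK3 h3) t

theorem YB_conj_short (r : ℕ) (hr : r = 1 ∨ r = 2 ∨ r = 5 ∨ r = 6) (t : K) :
    hlT C 0 (-1) * YB C r t * (hlT C 0 (-1))⁻¹ = YB C r (-t) := by
  rcases hr with rfl | rfl | rfl | rfl
  · have h := conj_YS C (-1) (b3_neg_one_ne_zero hK3 h3) 0 (by decide) 1 0 (by decide) _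
      (Ψ_h0 C hK3 h3) t
    rw [b3_pow_eq hK3 h3 (by decide +kernel), neg_one_mul] at h
    exact h
  · have h := conj_YS C (-1) (b3_neg_one_ne_zero hK3 h3) 0 (by decide) 2 0 (by decide) _
      (Ψ_h0 C hK3 h3) t
    rw [b3_pow_eq hK3 h3 (by decide +kernel), neg_one_mul] at h
    exact h
  · have h := conj_YS C (-1) (b3_neg_one_ne_zero hK3 h3) 0 (by decide) 5 0 (by decide) _
      (Ψ_h0 C hK3 h3) t
    rw [b3_pow_eq hK3 h3 (by decide +kernel), neg_one_mul] at h
    exact h
  · have h := conj_YS C (-1) (b3_neg_one_ne_zero hK3 h3) 0 (by decide) 6 0 (by decide) _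
      (Ψ_h0 C hK3 h3) t
    rw [b3_pow_eq hK3 h3 (by decide +kernel), neg_one_mul] at h
    exact h

theorem b3_ss_1_2 (e f : E) (u v : K) (he : C.Ψ e = xGL chevB2 B2_mem_Seven 1 u)
    (hf : C.Ψ f = xGL chevB2 B2_mem_Seven 2 v) : cm e f = YB C 0 ((((2 : ℤ)) : K) * u * v) :=
  ss_rel (b3_sm0 C hK3 h3) (b3_two_ne hK3 h3) hK3 he hf

theorem b3_ss_1_5 (e f : E) (u v : K) (he : C.Ψ e = xGL chevB2 B2_mem_Seven 1 u)
    (hf : C.Ψ f = xGL chevB2 B2_mem_Seven 5 v) : cm e f = YB C 3 ((((-2 : ℤ)) : K) * u * v) :=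
  ss_rel (b3_sm3 C hK3 h3) (b3_neg_two_ne hK3 h3) hK3 he hf

theorem b3_ss_2_1 (e f : E) (u v : K) (he : C.Ψ e = xGL chevB2 B2_mem_Seven 2 u)
    (hf : C.Ψ f = xGL chevB2 B2_mem_Seven 1 v) : cm e f = YB C 0 ((((-2 : ℤ)) : K) * u * v) := by
  have h := ss_rel_rev (b3_sm0 C hK3 h3) (b3_two_ne hK3 h3) hK3 hf he
  rw [h]
  show YL C 1 2 (((2 : ℤ)) : K) _ = YL C 1 2 (((2 : ℤ)) : K) _
  congr 1
  push_cast
  ring

theorem b3_ss_2_6 (e f : E) (u v : K) (he : C.Ψ e = xGL chevB2 B2_mem_Seven 2 u)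
    (hf : C.Ψ f = xGL chevB2 B2_mem_Seven 6 v) : cm e f = YB C 4 ((((-2 : ℤ)) : K) * u * v) :=
  ss_rel (b3_sm4 C hK3 h3) (b3_neg_two_ne hK3 h3) hK3 he hf

theorem b3_ss_5_1 (e f : E) (u v : K) (he : C.Ψ e = xGL chevB2 B2_mem_Seven 5 u)
    (hf : C.Ψ f = xGL chevB2 B2_mem_Seven 1 v) : cm e f = YB C 3 ((((2 : ℤ)) : K) * u * v) := by
  have h := ss_rel_rev (b3_sm3 C hK3 h3) (b3_neg_two_ne hK3 h3) hK3 hf he
  rw [h]
  show YL C 1 5 (((-2 : ℤ)) : K) _ = YL C 1 5 (((-2 : ℤ)) : K) _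
  congr 1
  push_cast
  ring

theorem b3_ss_5_6 (e f : E) (u v : K) (he : C.Ψ e = xGL chevB2 B2_mem_Seven 5 u)
    (hf : C.Ψ f = xGL chevB2 B2_mem_Seven 6 v) : cm e f = YB C 7 ((((2 : ℤ)) : K) * u * v) :=
  ss_rel (b3_sm7 C hK3 h3) (b3_two_ne hK3 h3) hK3 he hf

theorem b3_ss_6_2 (e f : E) (u v : K) (he : C.Ψ e = xGL chevB2 B2_mem_Seven 6 u)
    (hf : C.Ψ f = xGL chevB2 B2_mem_Seven 2 v) : cm e f = YB C 4 ((((2 : ℤ)) : K) * u * v) := by
  have h := ss_rel_rev (b3_sm4 C hK3 h3) (b3_neg_two_ne hK3 h3) hK3 hf he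
  rw [h]
  show YL C 2 6 (((-2 : ℤ)) : K) _ = YL C 2 6 (((-2 : ℤ)) : K) _
  congr 1
  push_cast
  ring

theorem b3_ss_6_5 (e f : E) (u v : K) (he : C.Ψ e = xGL chevB2 B2_mem_Seven 6 u)
    (hf : C.Ψ f = xGL chevB2 B2_mem_Seven 5 v) : cm e f = YB C 7 ((((-2 : ℤ)) : K) * u * v) := by
  have h := ss_rel_rev (b3_sm7 C hK3 h3) (b3_two_ne hK3 h3) hK3 hf he
  rw [h]
  show YL C 5 6 (((2 : ℤ)) : K) _ = YL C 5 6 (((2 : ℤ)) : K) _
  congr 1
  push_cast
  ring

theorem YB_comm {r s : ℕ} (hr : r < 8) (hs : s < 8) (hcm : cmT chevB2 r s = true) (t u : K) :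
    YB C r t * YB C s u = YB C s u * YB C r t :=
  b3_lcm C hK3 h3 r s hr hs hcm _ _ t u (Ψ_YB C hK3 h3 r hr t) (Ψ_YB C hK3 h3 s hs u)

/-- the hypotheses of the two-term relation for a long root `a` and a short root `b` -/
theorem b3_two {a b c d : ℕ} {C1 C2 N : ℤ} (ha : a < 8) (hb : b < 8) (hc : c < 8) (hd : d < 8)
    (hba : b ≠ a) (hbn : b ≠ chevB2.neg a)
    (hT : chevB2.commTerms a b = [(c, C1, 1, 1), (d, C2, 1, 2)])
    (hac : cmT chevB2 a c = true) (had : cmT chevB2 a d = true) (hcd : cmT chevB2 c d = true)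
    (hbd : cmT chevB2 b d = true)
    (hss : ∀ (e f : E) (u v : K), C.Ψ e = xGL chevB2 B2_mem_Seven b u →
      C.Ψ f = xGL chevB2 B2_mem_Seven c v → cm e f = YB C d ((N : K) * u * v))
    (hid : N * C1 + 2 * C2 = 0)
    (hLa : a = 0 ∨ a = 3 ∨ a = 4 ∨ a = 7) (hSb : b = 1 ∨ b = 2 ∨ b = 5 ∨ b = 6)
    (hSc : c = 1 ∨ c = 2 ∨ c = 5 ∨ c = 6) (hLd : d = 0 ∨ d = 3 ∨ d = 4 ∨ d = 7) :
    TwoCtx C.Ψ (YB C a) (YB C b) (YB C c) (YB C d) (C1 : K) (C2 : K) (N : K) (hlT C 0 (-1)) where
  hc := C.hc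
  h3 := h3
  hA := YB_add C hK3 h3 a ha
  hB := YB_add C hK3 h3 b hb
  hYc := YB_add C hK3 h3 c hc
  hYd := YB_add C hK3 h3 d hd
  hAc := YB_comm C hK3 h3 ha hc hac
  hAd := YB_comm C hK3 h3 ha hd had
  hcd := YB_comm C hK3 h3 hc hd hcd
  hBd := YB_comm C hK3 h3 hb hd hbd
  hbc := fun u v => by
    rw [← hss _ _ u v (Ψ_YB C hK3 h3 b hb u) (Ψ_YB C hK3 h3 c hc v)]
    unfold cm
    group
  hΨ := fun t u => by
    unfold Lw Rw
    rw [map_mul, map_mul, map_mul, map_inv, map_inv, map_mul, Ψ_YB C hK3 h3 a ha,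
      Ψ_YB C hK3 h3 b hb, Ψ_YB C hK3 h3 c hc, Ψ_YB C hK3 h3 d hd]
    have hR := xGL_comm (K := K) chevB2 B2_mem_Seven a b t u ha hb hba hbn
    unfold ChevalleyDatum.commWord at hR
    rw [hT, List.map_cons, List.map_cons, List.map_nil, wordGL_cons, wordGL_cons, wordGL_nil,
      mul_one] at hR
    simp only [pow_one] at hR
    exact hR
  hid := by
    have h := congrArg (Int.cast : ℤ → K) hid
    push_cast at h
    exact h
  hhA := YB_conj_long C hK3 h3 a hLa
  hhB := YB_conj_short C hK3 h3 b hSb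
  hhc := YB_conj_short C hK3 h3 c hSc
  hhd := YB_conj_long C hK3 h3 d hLd

theorem b3_rel2 {a b c d : ℕ} {C1 C2 N : ℤ}
    (T : TwoCtx C.Ψ (YB C a) (YB C b) (YB C c) (YB C d) (C1 : K) (C2 : K) (N : K) (hlT C 0 (-1)))
    (hT : chevB2.commTerms a b = [(c, C1, 1, 1), (d, C2, 1, 2)]) (t u : K) :
    (YB C b u)⁻¹ * (YB C a t)⁻¹ * YB C b u * YB C a t
      = ((chevB2.commWord K a b t u).map fun p => YB C p.1 p.2).prod := by
  unfold ChevalleyDatum.commWord
  rw [hT]
  simp only [List.map_cons, List.map_nil, List.prod_cons, List.prod_nil, mul_one, pow_one]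
  exact T.rel t u

theorem b3_rel3 {a b c d : ℕ} {C1 C2 N C1' C2' : ℤ}
    (T : TwoCtx C.Ψ (YB C a) (YB C b) (YB C c) (YB C d) (C1 : K) (C2 : K) (N : K) (hlT C 0 (-1)))
    (hT : chevB2.commTerms b a = [(c, C1', 1, 1), (d, C2', 2, 1)]) (h1 : C1' = -C1)
    (h2 : C2' = C2) (t u : K) :
    (YB C a u)⁻¹ * (YB C b t)⁻¹ * YB C a u * YB C b t
      = ((chevB2.commWord K b a t u).map fun p => YB C p.1 p.2).prod := by
  unfold ChevalleyDatum.commWord
  rw [hT]
  simp only [List.map_cons, List.map_nil, List.prod_cons, List.prod_nil, mul_one, pow_one]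
  rw [T.rel_rev u t, h1, h2]
  congr 2
  · push_cast
    ring
  · push_cast
    ring

theorem b3_rel1 {r s l : ℕ} {Nrs Nsr : ℤ} (hr : r < 8) (hs : s < 8)
    (hT : chevB2.commTerms r s = [(l, Nrs, 1, 1)]) (hNN : Nsr = -Nrs)
    (hss : ∀ (e f : E) (u v : K), C.Ψ e = xGL chevB2 B2_mem_Seven s u →
      C.Ψ f = xGL chevB2 B2_mem_Seven r v → cm e f = YB C l ((Nsr : K) * u * v)) (t u : K) :
    (YB C s u)⁻¹ * (YB C r t)⁻¹ * YB C s u * YB C r t
      = ((chevB2.commWord K r s t u).map fun p => YB C p.1 p.2).prod := by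
  unfold ChevalleyDatum.commWord
  rw [hT]
  simp only [List.map_cons, List.map_nil, List.prod_cons, List.prod_nil, mul_one, pow_one]
  have h1 : (YB C s u)⁻¹ * (YB C r t)⁻¹ * YB C s u * YB C r t
      = cm ((YB C s u)⁻¹) ((YB C r t)⁻¹) := by
    unfold cm
    group
  rw [h1, hss _ _ (-u) (-t)
    (by rw [map_inv, Ψ_YB C hK3 h3 s hs, xGL_neg chevB2 B2_mem_Seven s hs])
    (by rw [map_inv, Ψ_YB C hK3 h3 r hr, xGL_neg chevB2 B2_mem_Seven r hr]), hNN]
  congr 1
  push_cast
  ring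

theorem b3_rel0 {r s : ℕ} (hr : r < 8) (hs : s < 8) (hcm : cmT chevB2 r s = true) (hsr : s ≠ r)
    (t u : K) :
    (YB C s u)⁻¹ * (YB C r t)⁻¹ * YB C s u * YB C r t
      = ((chevB2.commWord K r s t u).map fun p => YB C p.1 p.2).prod := by
  obtain h | ⟨-, -, hT⟩ := cmT_spec hcm
  · exact absurd h.symm hsr
  unfold ChevalleyDatum.commWord
  rw [hT, List.map_nil, List.map_nil, List.prod_nil]
  have h := YB_comm C hK3 h3 hr hs hcm t u
  calc (YB C s u)⁻¹ * (YB C r t)⁻¹ * YB C s u * YB C r t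
      = (YB C s u)⁻¹ * (YB C r t)⁻¹ * (YB C s u * YB C r t) := by group
    _ = (YB C s u)⁻¹ * (YB C r t)⁻¹ * (YB C r t * YB C s u) := by rw [h]
    _ = 1 := by group

theorem b3_T_0_5 : TwoCtx C.Ψ (YB C 0) (YB C 5) (YB C 1) (YB C 3) (((1 : ℤ)) : K) (((-1 : ℤ)) : K) (((2 : ℤ)) : K)
    (hlT C 0 (-1)) :=
  b3_two C hK3 h3 (a := 0) (b := 5) (c := 1) (d := 3) (C1 := 1) (C2 := -1) (N := 2)
    (by decide) (by decide) (by decide) (by decide) (by decide) (by decide +kernel)
    (by decide +kernel) (by decide +kernel) (by decide +kernel) (by decide +kernel)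
    (by decide +kernel) (b3_ss_5_1 C hK3 h3) (by decide) (by decide) (by decide) (by decide)
    (by decide)

theorem b3_T_0_6 : TwoCtx C.Ψ (YB C 0) (YB C 6) (YB C 2) (YB C 4) (((-1 : ℤ)) : K) (((1 : ℤ)) : K) (((2 : ℤ)) : K)
    (hlT C 0 (-1)) :=
  b3_two C hK3 h3 (a := 0) (b := 6) (c := 2) (d := 4) (C1 := -1) (C2 := 1) (N := 2)
    (by decide) (by decide) (by decide) (by decide) (by decide) (by decide +kernel)
    (by decide +kernel) (by decide +kernel) (by decide +kernel) (by decide +kernel)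
    (by decide +kernel) (b3_ss_6_2 C hK3 h3) (by decide) (by decide) (by decide) (by decide)
    (by decide)

theorem b3_T_3_2 : TwoCtx C.Ψ (YB C 3) (YB C 2) (YB C 1) (YB C 0) (((-1 : ℤ)) : K) (((-1 : ℤ)) : K) (((-2 : ℤ)) : K)
    (hlT C 0 (-1)) :=
  b3_two C hK3 h3 (a := 3) (b := 2) (c := 1) (d := 0) (C1 := -1) (C2 := -1) (N := -2)
    (by decide) (by decide) (by decide) (by decide) (by decide) (by decide +kernel)
    (by decide +kernel) (by decide +kernel) (by decide +kernel) (by decide +kernel)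
    (by decide +kernel) (b3_ss_2_1 C hK3 h3) (by decide) (by decide) (by decide) (by decide)
    (by decide)

theorem b3_T_3_6 : TwoCtx C.Ψ (YB C 3) (YB C 6) (YB C 5) (YB C 7) (((1 : ℤ)) : K) (((1 : ℤ)) : K) (((-2 : ℤ)) : K)
    (hlT C 0 (-1)) :=
  b3_two C hK3 h3 (a := 3) (b := 6) (c := 5) (d := 7) (C1 := 1) (C2 := 1) (N := -2)
    (by decide) (by decide) (by decide) (by decide) (by decide) (by decide +kernel)
    (by decide +kernel) (by decide +kernel) (by decide +kernel) (by decide +kernel)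
    (by decide +kernel) (b3_ss_6_5 C hK3 h3) (by decide) (by decide) (by decide) (by decide)
    (by decide)

theorem b3_T_4_1 : TwoCtx C.Ψ (YB C 4) (YB C 1) (YB C 2) (YB C 0) (((-1 : ℤ)) : K) (((1 : ℤ)) : K) (((2 : ℤ)) : K)
    (hlT C 0 (-1)) :=
  b3_two C hK3 h3 (a := 4) (b := 1) (c := 2) (d := 0) (C1 := -1) (C2 := 1) (N := 2)
    (by decide) (by decide) (by decide) (by decide) (by decide) (by decide +kernel)
    (by decide +kernel) (by decide +kernel) (by decide +kernel) (by decide +kernel)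
    (by decide +kernel) (b3_ss_1_2 C hK3 h3) (by decide) (by decide) (by decide) (by decide)
    (by decide)

theorem b3_T_4_5 : TwoCtx C.Ψ (YB C 4) (YB C 5) (YB C 6) (YB C 7) (((1 : ℤ)) : K) (((-1 : ℤ)) : K) (((2 : ℤ)) : K)
    (hlT C 0 (-1)) :=
  b3_two C hK3 h3 (a := 4) (b := 5) (c := 6) (d := 7) (C1 := 1) (C2 := -1) (N := 2)
    (by decide) (by decide) (by decide) (by decide) (by decide) (by decide +kernel)
    (by decide +kernel) (by decide +kernel) (by decide +kernel) (by decide +kernel)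
    (by decide +kernel) (b3_ss_5_6 C hK3 h3) (by decide) (by decide) (by decide) (by decide)
    (by decide)

theorem b3_T_7_1 : TwoCtx C.Ψ (YB C 7) (YB C 1) (YB C 5) (YB C 3) (((1 : ℤ)) : K) (((1 : ℤ)) : K) (((-2 : ℤ)) : K)
    (hlT C 0 (-1)) :=
  b3_two C hK3 h3 (a := 7) (b := 1) (c := 5) (d := 3) (C1 := 1) (C2 := 1) (N := -2)
    (by decide) (by decide) (by decide) (by decide) (by decide) (by decide +kernel)
    (by decide +kernel) (by decide +kernel) (by decide +kernel) (by decide +kernel)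
    (by decide +kernel) (b3_ss_1_5 C hK3 h3) (by decide) (by decide) (by decide) (by decide)
    (by decide)

theorem b3_T_7_2 : TwoCtx C.Ψ (YB C 7) (YB C 2) (YB C 6) (YB C 4) (((-1 : ℤ)) : K) (((-1 : ℤ)) : K) (((-2 : ℤ)) : K)
    (hlT C 0 (-1)) :=
  b3_two C hK3 h3 (a := 7) (b := 2) (c := 6) (d := 4) (C1 := -1) (C2 := -1) (N := -2)
    (by decide) (by decide) (by decide) (by decide) (by decide) (by decide +kernel)
    (by decide +kernel) (by decide +kernel) (by decide +kernel) (by decide +kernel)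
    (by decide +kernel) (b3_ss_2_6 C hK3 h3) (by decide) (by decide) (by decide) (by decide)
    (by decide)

/-- the lifting theorem for `B₂` over the field with three elements -/
theorem exists_lift_B2_three :
    ∃ τ : chevB2.SteinbergCover K →* E, ∀ (r : ℕ) (t : K), r < chevB2.nroots →
      C.Ψ (τ (chevB2.scGen K r t)) = xGL chevB2 B2_mem_Seven r t := by
  obtain ⟨τ, hτ⟩ := lift_of_Y B2_mem_Seven (YB C)
    (fun r t u hr => (YB_add C hK3 h3 r hr t u).symm) (by
    intro r s t u hr hs hsr hsn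
    have hr' : r < 8 := hr
    have hs' : s < 8 := hs
    interval_cases r
    · interval_cases s
      · exact absurd rfl hsr
      · exact b3_rel0 C hK3 h3 (by decide) (by decide) (by decide +kernel) (by decide) t u
      · exact b3_rel0 C hK3 h3 (by decide) (by decide) (by decide +kernel) (by decide) t u
      · exact b3_rel0 C hK3 h3 (by decide) (by decide) (by decide +kernel) (by decide) t u
      · exact b3_rel0 C hK3 h3 (by decide) (by decide) (by decide +kernel) (by decide) t u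
      · exact b3_rel2 C hK3 h3 (b3_T_0_5 C hK3 h3) (by decide +kernel) t u
      · exact b3_rel2 C hK3 h3 (b3_T_0_6 C hK3 h3) (by decide +kernel) t u
      · exact absurd (by decide +kernel) hsn
    · interval_cases s
      · exact b3_rel0 C hK3 h3 (by decide) (by decide) (by decide +kernel) (by decide) t u
      · exact absurd rfl hsr
      · exact b3_rel1 C hK3 h3 (l := 0) (Nrs := 2) (Nsr := -2) (by decide) (by decide)
          (by decide +kernel) (by decide) (b3_ss_2_1 C hK3 h3) t u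
      · exact b3_rel0 C hK3 h3 (by decide) (by decide) (by decide +kernel) (by decide) t u
      · exact b3_rel3 C hK3 h3 (C1' := 1) (C2' := 1) (b3_T_4_1 C hK3 h3) (by decide +kernel)
          (by decide) (by decide) t u
      · exact b3_rel1 C hK3 h3 (l := 3) (Nrs := -2) (Nsr := 2) (by decide) (by decide)
          (by decide +kernel) (by decide) (b3_ss_5_1 C hK3 h3) t u
      · exact absurd (by decide +kernel) hsn
      · exact b3_rel3 C hK3 h3 (C1' := -1) (C2' := 1) (b3_T_7_1 C hK3 h3) (by decide +kernel)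
          (by decide) (by decide) t u
    · interval_cases s
      · exact b3_rel0 C hK3 h3 (by decide) (by decide) (by decide +kernel) (by decide) t u
      · exact b3_rel1 C hK3 h3 (l := 0) (Nrs := -2) (Nsr := 2) (by decide) (by decide)
          (by decide +kernel) (by decide) (b3_ss_1_2 C hK3 h3) t u
      · exact absurd rfl hsr
      · exact b3_rel3 C hK3 h3 (C1' := 1) (C2' := -1) (b3_T_3_2 C hK3 h3) (by decide +kernel)
          (by decide) (by decide) t u
      · exact b3_rel0 C hK3 h3 (by decide) (by decide) (by decide +kernel) (by decide) t u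
      · exact absurd (by decide +kernel) hsn
      · exact b3_rel1 C hK3 h3 (l := 4) (Nrs := -2) (Nsr := 2) (by decide) (by decide)
          (by decide +kernel) (by decide) (b3_ss_6_2 C hK3 h3) t u
      · exact b3_rel3 C hK3 h3 (C1' := 1) (C2' := -1) (b3_T_7_2 C hK3 h3) (by decide +kernel)
          (by decide) (by decide) t u
    · interval_cases s
      · exact b3_rel0 C hK3 h3 (by decide) (by decide) (by decide +kernel) (by decide) t u
      · exact b3_rel0 C hK3 h3 (by decide) (by decide) (by decide +kernel) (by decide) t u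
      · exact b3_rel2 C hK3 h3 (b3_T_3_2 C hK3 h3) (by decide +kernel) t u
      · exact absurd rfl hsr
      · exact absurd (by decide +kernel) hsn
      · exact b3_rel0 C hK3 h3 (by decide) (by decide) (by decide +kernel) (by decide) t u
      · exact b3_rel2 C hK3 h3 (b3_T_3_6 C hK3 h3) (by decide +kernel) t u
      · exact b3_rel0 C hK3 h3 (by decide) (by decide) (by decide +kernel) (by decide) t u
    · interval_cases s
      · exact b3_rel0 C hK3 h3 (by decide) (by decide) (by decide +kernel) (by decide) t u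
      · exact b3_rel2 C hK3 h3 (b3_T_4_1 C hK3 h3) (by decide +kernel) t u
      · exact b3_rel0 C hK3 h3 (by decide) (by decide) (by decide +kernel) (by decide) t u
      · exact absurd (by decide +kernel) hsn
      · exact absurd rfl hsr
      · exact b3_rel2 C hK3 h3 (b3_T_4_5 C hK3 h3) (by decide +kernel) t u
      · exact b3_rel0 C hK3 h3 (by decide) (by decide) (by decide +kernel) (by decide) t u
      · exact b3_rel0 C hK3 h3 (by decide) (by decide) (by decide +kernel) (by decide) t u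
    · interval_cases s
      · exact b3_rel3 C hK3 h3 (C1' := -1) (C2' := -1) (b3_T_0_5 C hK3 h3) (by decide +kernel)
          (by decide) (by decide) t u
      · exact b3_rel1 C hK3 h3 (l := 3) (Nrs := 2) (Nsr := -2) (by decide) (by decide)
          (by decide +kernel) (by decide) (b3_ss_1_5 C hK3 h3) t u
      · exact absurd (by decide +kernel) hsn
      · exact b3_rel0 C hK3 h3 (by decide) (by decide) (by decide +kernel) (by decide) t u
      · exact b3_rel3 C hK3 h3 (C1' := -1) (C2' := -1) (b3_T_4_5 C hK3 h3) (by decide +kernel)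
          (by decide) (by decide) t u
      · exact absurd rfl hsr
      · exact b3_rel1 C hK3 h3 (l := 7) (Nrs := 2) (Nsr := -2) (by decide) (by decide)
          (by decide +kernel) (by decide) (b3_ss_6_5 C hK3 h3) t u
      · exact b3_rel0 C hK3 h3 (by decide) (by decide) (by decide +kernel) (by decide) t u
    · interval_cases s
      · exact b3_rel3 C hK3 h3 (C1' := 1) (C2' := 1) (b3_T_0_6 C hK3 h3) (by decide +kernel)
          (by decide) (by decide) t u
      · exact absurd (by decide +kernel) hsn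
      · exact b3_rel1 C hK3 h3 (l := 4) (Nrs := 2) (Nsr := -2) (by decide) (by decide)
          (by decide +kernel) (by decide) (b3_ss_2_6 C hK3 h3) t u
      · exact b3_rel3 C hK3 h3 (C1' := -1) (C2' := 1) (b3_T_3_6 C hK3 h3) (by decide +kernel)
          (by decide) (by decide) t u
      · exact b3_rel0 C hK3 h3 (by decide) (by decide) (by decide +kernel) (by decide) t u
      · exact b3_rel1 C hK3 h3 (l := 7) (Nrs := -2) (Nsr := 2) (by decide) (by decide)
          (by decide +kernel) (by decide) (b3_ss_5_6 C hK3 h3) t u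
      · exact absurd rfl hsr
      · exact b3_rel0 C hK3 h3 (by decide) (by decide) (by decide +kernel) (by decide) t u
    · interval_cases s
      · exact absurd (by decide +kernel) hsn
      · exact b3_rel2 C hK3 h3 (b3_T_7_1 C hK3 h3) (by decide +kernel) t u
      · exact b3_rel2 C hK3 h3 (b3_T_7_2 C hK3 h3) (by decide +kernel) t u
      · exact b3_rel0 C hK3 h3 (by decide) (by decide) (by decide +kernel) (by decide) t u
      · exact b3_rel0 C hK3 h3 (by decide) (by decide) (by decide +kernel) (by decide) t u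
      · exact b3_rel0 C hK3 h3 (by decide) (by decide) (by decide +kernel) (by decide) t u
      · exact b3_rel0 C hK3 h3 (by decide) (by decide) (by decide +kernel) (by decide) t u
      · exact absurd rfl hsr
    )
  exact ⟨τ, fun r t hr => by rw [hτ r t hr, Ψ_YB C hK3 h3 r hr]⟩

end b3

/-- the lifting theorem for `B₂` over the field with three elements -/
theorem exists_lift_B2_card_three {K : Type*} [Field K] [Fintype K] (hK : Fintype.card K = 3)
    {E : Type*} [Group E] (C : Ctx0 chevB2 B2_mem_Seven K E) :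
    ∃ τ : chevB2.SteinbergCover K →* E, ∀ (r : ℕ) (t : K), r < chevB2.nroots →
      C.Ψ (τ (chevB2.scGen K r t)) = xGL chevB2 B2_mem_Seven r t := by
  obtain ⟨hK3, h3⟩ := three_of_card hK
  exact exists_lift_B2_three C hK3 h3

end Cfsg.Agent.Lib.Helper8.StT2
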