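import Mathlib
import Cfsg.Prelude
import Cfsg.Agent.Lib.Helper8.Su1
import Cfsg.Agent.Lib.Helper4.PSLCent2
import Cfsg.Agent.Lib.Helper2.UtiC

set_option autoImplicit false
set_option linter.unusedSectionVars false
set_option linter.unusedVariables false
open Cfsg

/-! Derangements of odd prime order `r` with `r ∤ q₀ - 1` for the unitary-type subgroup of
`SL_n(q₀²)`; geometric multiplicities and their invariance. -/

namespace Cfsg.Agent.Lib.Helper8.Su

open Matrix Module
open Cfsg.Agent.Lib.Helper5 Cfsg.Agent.Lib.Helper2 Cfsg.Agent.Lib.Helper2.Uti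

section arith

theorem exists_min_k (r : ℕ) [hr : Fact r.Prime] (hr2 : r ≠ 2) (q₀ : ℕ) (hr1 : ¬ r ∣ q₀ - 1)
    (hq₀ : 1 ≤ q₀) (k : ℕ) (hk1 : 1 ≤ k) (hk : (-(q₀ : ZMod r)) ^ k = -1) :
    ∃ m, 2 ≤ m ∧ m ≤ k ∧ (-(q₀ : ZMod r)) ^ m = -1 ∧ m < orderOf (-(q₀ : ZMod r)) := by
  classical
  haveI : Fact (2 < r) := ⟨lt_of_le_of_ne hr.out.two_le (Ne.symm hr2)⟩
  have hne : (-1 : ZMod r) ≠ 1 := ZMod.neg_one_ne_one
  have hex : ∃ m, 1 ≤ m ∧ (-(q₀ : ZMod r)) ^ m = -1 := ⟨k, hk1, hk⟩
  set m := Nat.find hex with hm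
  have hspec : 1 ≤ m ∧ (-(q₀ : ZMod r)) ^ m = -1 := Nat.find_spec hex
  obtain ⟨hm1, hmp⟩ := hspec
  have hmin : ∀ m' < m, ¬ (1 ≤ m' ∧ (-(q₀ : ZMod r)) ^ m' = -1) := fun m' h => Nat.find_min hex h
  have hmk : m ≤ k := Nat.find_min' hex ⟨hk1, hk⟩
  refine ⟨m, ?_, hmk, hmp, ?_⟩
  · by_contra hlt
    have h1 : m = 1 := by omega
    rw [h1, pow_one, neg_inj] at hmp
    apply hr1
    rw [← ZMod.natCast_eq_zero_iff, Nat.cast_sub hq₀, hmp]
    simp
  · by_contra hle
    rw [not_lt] at hle
    set a := -(q₀ : ZMod r) with ha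
    set j := orderOf a with hj
    have hfin : IsOfFinOrder a := by
      rw [isOfFinOrder_iff_pow_eq_one]
      refine ⟨2 * m, by omega, ?_⟩
      rw [mul_comm, pow_mul, hmp]
      simp
    have hjpos : 0 < j := hfin.orderOf_pos
    have h2 : a ^ (m - j) = -1 := by
      have : a ^ m = a ^ (m - j) * a ^ j := by rw [← pow_add]; congr 1; omega
      rw [hj, pow_orderOf_eq_one, mul_one] at this
      rw [← this]; exact hmp
    by_cases h3 : m - j = 0
    · rw [h3, pow_zero] at h2
      exact hne h2.symm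
    · exact hmin (m - j) (by omega) ⟨by omega, h2⟩

end arith

variable {F : Type*} [Field F]

section block

variable {m l : ℕ}

/-- block embedding of a matrix -/
noncomputable def blk (A : Matrix (Fin m) (Fin m) F) : Matrix (Fin (m + l)) (Fin (m + l)) F :=
  Matrix.reindexAlgEquiv F F finSumFinEquiv (Matrix.fromBlocks A 0 0 1)

theorem blk_mul (A B : Matrix (Fin m) (Fin m) F) : blk (l := l) (A * B) = blk A * blk B := by
  unfold blk
  rw [← map_mul, Matrix.fromBlocks_multiply]
  simp

theorem blk_one : blk (l := l) (1 : Matrix (Fin m) (Fin m) F) = 1 := by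
  unfold blk
  rw [Matrix.fromBlocks_one, map_one]

theorem blk_pow (A : Matrix (Fin m) (Fin m) F) (k : ℕ) : blk (l := l) (A ^ k) = blk A ^ k := by
  induction k with
  | zero => rw [pow_zero, pow_zero, blk_one]
  | succ k ih => rw [pow_succ, pow_succ, blk_mul, ih]

theorem det_blk (A : Matrix (Fin m) (Fin m) F) : (blk (l := l) A).det = A.det := by
  unfold blk
  rw [Matrix.det_reindexAlgEquiv, Matrix.det_fromBlocks_zero₂₁, Matrix.det_one, mul_one]

theorem blk_injective : Function.Injective (blk (l := l) (m := m) (F := F)) := by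
  intro A B h
  unfold blk at h
  have h1 := (Matrix.reindexAlgEquiv F F finSumFinEquiv).injective h
  exact (Matrix.fromBlocks_inj.mp h1).1

/-- the vectors supported on the last `l` coordinates -/
def tailVec (v : Fin l → F) : Fin (m + l) → F :=
  (Sum.elim (0 : Fin m → F) v : Fin m ⊕ Fin l → F) ∘ finSumFinEquiv.symm

theorem blk_mulVec_tail (A : Matrix (Fin m) (Fin m) F) (v : Fin l → F) :
    blk A *ᵥ tailVec (m := m) v = tailVec v := by
  unfold blk tailVec
  rw [Matrix.reindexAlgEquiv_apply, Matrix.reindex_apply, Matrix.submatrix_mulVec_equiv]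
  congr 1
  have : (Sum.elim (0 : Fin m → F) v ∘ ⇑finSumFinEquiv.symm) ∘ ⇑finSumFinEquiv.symm.symm =
      (Sum.elim (0 : Fin m → F) v : Fin m ⊕ Fin l → F) := by
    funext i; simp
  rw [this, Matrix.fromBlocks_mulVec]
  simp

/-- `tailVec` as a linear map -/
def tailLin : (Fin l → F) →ₗ[F] (Fin (m + l) → F) where
  toFun := tailVec
  map_add' u v := by
    funext i
    unfold tailVec
    simp only [Function.comp_apply, Pi.add_apply]
    rcases finSumFinEquiv.symm i with a | a <;> simp
  map_smul' c v := by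
    funext i
    unfold tailVec
    simp only [Function.comp_apply, Pi.smul_apply, RingHom.id_apply]
    rcases finSumFinEquiv.symm i with a | a <;> simp

theorem tailLin_injective : Function.Injective (tailLin (F := F) (m := m) (l := l)) := by
  intro u v h
  funext i
  have := congrFun h (finSumFinEquiv (Sum.inr i))
  simpa [tailLin, tailVec] using this

end block

section gl

variable {n : ℕ}

/-- the linear equivalence of an invertible matrix -/
noncomputable def glEquiv (g : GL (Fin n) F) : (Fin n → F) ≃ₗ[F] (Fin n → F) :=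
  LinearEquiv.ofLinear (Matrix.toLin' (g : Matrix (Fin n) (Fin n) F))
    (Matrix.toLin' ((g⁻¹ : GL (Fin n) F) : Matrix (Fin n) (Fin n) F))
    (by rw [← Matrix.toLin'_mul, ← Units.val_mul, mul_inv_cancel, Units.val_one,
      Matrix.toLin'_one])
    (by rw [← Matrix.toLin'_mul, ← Units.val_mul, inv_mul_cancel, Units.val_one,
      Matrix.toLin'_one])

theorem glEquiv_apply (g : GL (Fin n) F) (v : Fin n → F) :
    glEquiv g v = (g : Matrix (Fin n) (Fin n) F) *ᵥ v := by
  unfold glEquiv
  simp [Matrix.toLin'_apply]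

/-- geometric multiplicity of `μ` as an eigenvalue of `x` -/
noncomputable def gm (x : GL (Fin n) F) (μ : F) : ℕ :=
  finrank F (LinearMap.ker (Matrix.toLin' (x : Matrix (Fin n) (Fin n) F) - μ • 1))

theorem mem_ker_iff (x : GL (Fin n) F) (μ : F) (v : Fin n → F) :
    v ∈ LinearMap.ker (Matrix.toLin' (x : Matrix (Fin n) (Fin n) F) - μ • 1) ↔
      (x : Matrix (Fin n) (Fin n) F) *ᵥ v = μ • v := by
  rw [LinearMap.mem_ker, LinearMap.sub_apply, Matrix.toLin'_apply, LinearMap.smul_apply,
    Module.End.one_apply, sub_eq_zero]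

theorem gm_conj (x g : GL (Fin n) F) (μ : F) : gm (g⁻¹ * x * g) μ = gm x μ := by
  unfold gm
  have h : LinearMap.ker (Matrix.toLin' ((g⁻¹ * x * g : GL (Fin n) F) :
      Matrix (Fin n) (Fin n) F) - μ • 1) =
      (LinearMap.ker (Matrix.toLin' (x : Matrix (Fin n) (Fin n) F) - μ • 1)).map
        (glEquiv g⁻¹ : (Fin n → F) →ₗ[F] (Fin n → F)) := by
    ext v
    rw [mem_ker_iff, Submodule.mem_map]
    constructor
    · intro hv
      refine ⟨(g : Matrix (Fin n) (Fin n) F) *ᵥ v, ?_, ?_⟩
      · rw [mem_ker_iff]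
        have h2 : (g : Matrix (Fin n) (Fin n) F) *ᵥ
            (((g⁻¹ * x * g : GL (Fin n) F) : Matrix (Fin n) (Fin n) F) *ᵥ v) =
            (g : Matrix (Fin n) (Fin n) F) *ᵥ (μ • v) := congrArg _ hv
        rw [Matrix.mulVec_smul, Units.val_mul, Units.val_mul, Matrix.mulVec_mulVec,
          ← Matrix.mul_assoc, ← Matrix.mul_assoc, ← Units.val_mul, mul_inv_cancel, Units.val_one,
          Matrix.one_mul, ← Matrix.mulVec_mulVec] at h2
        exact h2
      · rw [LinearEquiv.coe_coe, glEquiv_apply, Matrix.mulVec_mulVec, ← Units.val_mul,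
          inv_mul_cancel, Units.val_one, Matrix.one_mulVec]
    · rintro ⟨w, hw, rfl⟩
      rw [mem_ker_iff] at hw
      rw [LinearEquiv.coe_coe, glEquiv_apply, Matrix.mulVec_mulVec, Units.val_mul, Units.val_mul,
        Matrix.mul_assoc, Matrix.mul_assoc, ← Units.val_mul g, mul_inv_cancel, Units.val_one,
        Matrix.mul_one, ← Matrix.mulVec_mulVec, hw, Matrix.mulVec_smul]
  rw [h]
  exact LinearEquiv.finrank_map_eq (glEquiv g⁻¹) _

theorem gm_lt_of_ne (x : GL (Fin n) F) (μ : F)
    (hx : (x : Matrix (Fin n) (Fin n) F) ≠ μ • (1 : Matrix (Fin n) (Fin n) F)) : gm x μ < n := by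
  unfold gm
  have hle := Submodule.finrank_le
    (LinearMap.ker (Matrix.toLin' (x : Matrix (Fin n) (Fin n) F) - μ • 1))
  rw [Module.finrank_fin_fun] at hle
  rcases lt_or_eq_of_le hle with h | h
  · exact h
  · exfalso
    apply hx
    have htop : LinearMap.ker (Matrix.toLin' (x : Matrix (Fin n) (Fin n) F) - μ • 1) = ⊤ := by
      apply Submodule.eq_top_of_finrank_eq
      rw [h, Module.finrank_fin_fun]
    have h2 : ∀ v : Fin n → F, (x : Matrix (Fin n) (Fin n) F) *ᵥ v = μ • v := by
      intro v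
      rw [← mem_ker_iff, htop]
      trivial
    apply Matrix.toLin'.injective
    apply LinearMap.ext
    intro v
    rw [Matrix.toLin'_apply, h2, Matrix.toLin'_apply, Matrix.smul_mulVec, Matrix.one_mulVec]

end gl

end Cfsg.Agent.Lib.Helper8.Su
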