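import Mathlib
import Cfsg.Prelude
import Cfsg.Agent.Lib.Helper8.Su3

set_option autoImplicit false
set_option linter.unusedSectionVars false
set_option linter.unusedVariables false
open Cfsg

/-! Multipliers of similarities; the derangement of odd prime order `r ∤ q₀ - 1`. -/

namespace Cfsg.Agent.Lib.Helper8.Su

open Matrix Module
open Cfsg.Agent.Lib.Helper5 Cfsg.Agent.Lib.Helper2 Cfsg.Agent.Lib.Helper2.Uti

variable {F : Type*} [Field F]

theorem toLin'_pow' {n : ℕ} (M : Matrix (Fin n) (Fin n) F) (k : ℕ) :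
    Matrix.toLin' (M ^ k) = (Matrix.toLin' M) ^ k := by
  induction k with
  | zero => rw [pow_zero, pow_zero, Matrix.toLin'_one]; rfl
  | succ k ih => rw [pow_succ, pow_succ, Matrix.toLin'_mul, ih]; rfl

variable [Fintype F] {q₀ : ℕ} (hF : Fintype.card F = q₀ ^ 2) {n : ℕ}
  {f : (Fin n → F) → (Fin n → F) → F} (hf : Cfsg.Geo.IsUnitaryFormPow q₀ f)

include hf in
theorem exists_ne_zero (hn : 1 ≤ n) : ∃ u v : Fin n → F, f u v ≠ 0 := by
  have h0 : (Pi.single (⟨0, by omega⟩ : Fin n) (1 : F) : Fin n → F) ≠ 0 := by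
    intro h
    have := congrFun h ⟨0, by omega⟩
    simp at this
  obtain ⟨x, hx⟩ := (hf.nondegenerate _ h0).1
  exact ⟨x, _, hx⟩

omit [Fintype F] in
theorem mult_pow {y : GL (Fin n) F} {c : F}
    (hc : ∀ u v : Fin n → F, f ((y : Matrix (Fin n) (Fin n) F) *ᵥ u)
      ((y : Matrix (Fin n) (Fin n) F) *ᵥ v) = c * f u v) (k : ℕ) (u v : Fin n → F) :
    f (((y ^ k : GL (Fin n) F) : Matrix (Fin n) (Fin n) F) *ᵥ u)
      (((y ^ k : GL (Fin n) F) : Matrix (Fin n) (Fin n) F) *ᵥ v) = c ^ k * f u v := by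
  induction k generalizing u v with
  | zero => simp
  | succ k ih =>
    rw [pow_succ, Units.val_mul, ← Matrix.mulVec_mulVec, ← Matrix.mulVec_mulVec, ih, hc, pow_succ,
      mul_assoc]

include hf in
theorem mult_fixed (hn : 1 ≤ n) {y : GL (Fin n) F} {c : F}
    (hc : ∀ u v : Fin n → F, f ((y : Matrix (Fin n) (Fin n) F) *ᵥ u)
      ((y : Matrix (Fin n) (Fin n) F) *ᵥ v) = c * f u v) : c ^ q₀ = c := by
  obtain ⟨u, v, huv⟩ := exists_ne_zero hf hn
  have h1 := hc u v
  rw [hf.herm, hc, mul_pow, ← hf.herm] at h1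
  exact mul_right_cancel₀ huv h1

include hf in
/-- a similarity of order `r` with `r ∤ q₀ - 1` is an isometry -/
theorem isom_of_sim (hn : 1 ≤ n) (hq₀ : 1 ≤ q₀) (r : ℕ) (hr : r.Prime) (hr1 : ¬ r ∣ q₀ - 1)
    {y : GL (Fin n) F} (hy : y ∈ Cfsg.Geo.similarityGroup f) (hyr : y ^ r = 1)
    (u v : Fin n → F) :
    f ((y : Matrix (Fin n) (Fin n) F) *ᵥ u) ((y : Matrix (Fin n) (Fin n) F) *ᵥ v) = f u v := by
  obtain ⟨c, hc⟩ := hy
  obtain ⟨u₀, v₀, huv⟩ := exists_ne_zero hf hn
  have h1 : (c : F) ^ r = 1 := by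
    have := mult_pow hc r u₀ v₀
    rw [hyr, Units.val_one, Matrix.one_mulVec, Matrix.one_mulVec] at this
    have h2 : (1 : F) * f u₀ v₀ = (c : F) ^ r * f u₀ v₀ := by rw [one_mul]; exact this
    exact (mul_right_cancel₀ huv h2).symm
  have h2 : (c : F) ^ (q₀ - 1) = 1 := by
    have h3 := mult_fixed hf hn hc
    have h4 : (c : F) ^ (q₀ - 1) * (c : F) = 1 * (c : F) := by
      rw [← pow_succ, one_mul]
      have : q₀ - 1 + 1 = q₀ := by omega
      rw [this]; exact h3
    exact mul_right_cancel₀ c.ne_zero h4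
  have h3 : (c : F) ^ (Nat.gcd r (q₀ - 1)) = 1 := pow_gcd_eq_one.mpr ⟨h1, h2⟩
  rw [(Nat.Prime.coprime_iff_not_dvd hr).mpr hr1, pow_one] at h3
  rw [hc, h3, one_mul]

include hF hf in
/-- for an odd prime `r ∤ q₀(q₀-1)` with `(-q₀)^k = -1` for some `1 ≤ k ≤ n` there is an element of
order `r` of `SL_n` no conjugate of which is a similarity of `f` -/
theorem derange_big (hq₀ : 2 ≤ q₀) (r : ℕ) [hr : Fact r.Prime] (hr2 : r ≠ 2)
    (hrF : (r : F) ≠ 0) (hrq : ¬ r ∣ q₀) (hr1 : ¬ r ∣ q₀ - 1) (k : ℕ) (hk1 : 1 ≤ k) (hkn : k ≤ n)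
    (hk : (-(q₀ : ZMod r)) ^ k = -1) :
    ∃ x ∈ Cfsg.Geo.specialLinear (Fin n) F, x ^ r = 1 ∧
      ∀ g : GL (Fin n) F, g⁻¹ * x * g ∉ Cfsg.Geo.similarityGroup f := by
  classical
  obtain ⟨m, hm2, hmk, hmp, hmj⟩ := exists_min_k r hr2 q₀ hr1 (by omega) k hk1 hk
  obtain ⟨l, rfl⟩ : ∃ l, n = m + l := ⟨n - m, by omega⟩
  have hdvd : r ∣ Fintype.card F ^ m - 1 := by
    rw [hF, ← ZMod.natCast_eq_zero_iff,
      Nat.cast_sub (Nat.one_le_pow _ _ (pow_pos (by omega) 2)), Nat.cast_pow,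
      Nat.cast_pow, Nat.cast_one]
    have h1 : ((q₀ : ZMod r) ^ 2) ^ m = ((-(q₀ : ZMod r)) ^ m) ^ 2 := by
      rw [← pow_mul (-(q₀ : ZMod r)), mul_comm m 2, pow_mul (-(q₀ : ZMod r)) 2 m, neg_sq]
    rw [h1, hmp]
    simp
  have hcard := Cfsg.Agent.Lib.Helper4.PSLCent.dvd_card_SL_of_dvd (F := F) m r m hm2 (by omega)
    le_rfl hdvd
  obtain ⟨A, hA⟩ := exists_prime_orderOf_dvd_card' r hcard
  have hAr : (A : Matrix (Fin m) (Fin m) F) ^ r = 1 := by
    have := pow_orderOf_eq_one A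
    rw [hA] at this
    have h2 := congrArg (fun B : Matrix.SpecialLinearGroup (Fin m) F =>
      (B : Matrix (Fin m) (Fin m) F)) this
    simpa using h2
  have hA1 : (A : Matrix (Fin m) (Fin m) F) ≠ 1 := by
    intro h
    have : A = 1 := by
      apply Subtype.ext
      simpa using h
    rw [this, orderOf_one] at hA
    exact hr.out.one_lt.ne hA
  set M : Matrix (Fin (m + l)) (Fin (m + l)) F := blk (l := l) (A : Matrix (Fin m) (Fin m) F)
    with hM
  have hdet : M.det = 1 := by rw [hM, det_blk]; exact A.2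
  let x : GL (Fin (m + l)) F := Matrix.GeneralLinearGroup.mkOfDetNeZero M
    (by rw [hdet]; exact one_ne_zero)
  have hxval : (x : Matrix (Fin (m + l)) (Fin (m + l)) F) = M := rfl
  have hxr : x ^ r = 1 := by
    apply Units.ext
    rw [Units.val_pow_eq_pow_val, hxval, hM, ← blk_pow, hAr, blk_one, Units.val_one]
  have hx1 : (x : Matrix (Fin (m + l)) (Fin (m + l)) F) ≠
      (1 : F) • (1 : Matrix (Fin (m + l)) (Fin (m + l)) F) := by
    rw [one_smul, hxval, hM, ← blk_one (l := l) (m := m) (F := F)]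
    intro h
    exact hA1 (blk_injective h)
  refine ⟨x, ?_, hxr, ?_⟩
  · unfold Cfsg.Geo.specialLinear
    rw [MonoidHom.mem_ker]
    apply Units.ext
    rw [Matrix.GeneralLinearGroup.val_det_apply, hxval, hdet, Units.val_one]
  · intro g hmem
    set y := g⁻¹ * x * g with hy
    have hyr : y ^ r = 1 := by
      have h1 : y = g⁻¹ * x * (g⁻¹)⁻¹ := by rw [inv_inv]
      rw [h1, conj_pow, hxr, mul_one, mul_inv_cancel]
    have hiso := isom_of_sim hf (by omega) (by omega) r hr.out hr1 hmem hyr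
    set Y : Module.End F (Fin (m + l) → F) :=
      Matrix.toLin' (y : Matrix (Fin (m + l)) (Fin (m + l)) F) with hY
    have hYB : IsIsom (sesq hF hf) Y := by
      intro u v
      rw [sesq_apply, sesq_apply, hY, Matrix.toLin'_apply, Matrix.toLin'_apply]
      exact hiso v u
    have hYr : Y ^ r = 1 := by
      rw [hY, ← toLin'_pow', ← Units.val_pow_eq_pow_val, hyr, Units.val_one, Matrix.toLin'_one]
      rfl
    have hdiv := herm_mod hF (sesq hF hf) (sesq_isSymm hF hf) (sesq_nondegenerate hF hf) hYB r hrF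
      hrq hYr (nd_top (sesq hF hf) (sesq_nondegenerate hF hf)) (fun v _ => Submodule.mem_top)
    rw [top_inf_eq, finrank_top, Module.finrank_fin_fun] at hdiv
    have hgm : finrank F (LinearMap.ker (Y - 1)) = gm x 1 := by
      rw [← gm_conj x g 1]
      unfold gm
      rw [one_smul]
    rw [hgm] at hdiv
    have hlt : gm x 1 < m + l := gm_lt_of_ne x 1 hx1
    have hge : l ≤ gm x 1 := by
      unfold gm
      have hmem : ∀ v : Fin l → F, tailLin (m := m) v ∈
          LinearMap.ker (Matrix.toLin' (x : Matrix (Fin (m + l)) (Fin (m + l)) F) - (1 : F) • 1) := by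
        intro v
        rw [mem_ker_iff, one_smul, hxval, hM]
        exact blk_mulVec_tail _ v
      have hinj : Function.Injective (LinearMap.codRestrict _ (tailLin (F := F) (m := m) (l := l))
          hmem) := by
        intro u v h
        apply tailLin_injective
        exact congrArg Subtype.val h
      have := LinearMap.finrank_le_finrank_of_injective hinj
      rwa [Module.finrank_fin_fun] at this
    have hpos : 0 < m + l - gm x 1 := by omega
    have := Nat.le_of_dvd hpos hdiv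
    omega

end Cfsg.Agent.Lib.Helper8.Su
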