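import Mathlib
import Cfsg.Prelude
import Cfsg.Agent.Lib.Helper8.Su4
import Cfsg.Agent.Lib.Helper2.UtiA

set_option autoImplicit false
set_option linter.unusedSectionVars false
set_option linter.unusedVariables false
open Cfsg

/-! Eigenvalue multiplicities of similarities of a unitary form are symmetric under
`μ ↦ c μ^{-q₀}`; multiplicities of diagonal matrices; the resulting derangement criterion. -/

namespace Cfsg.Agent.Lib.Helper8.Su

open Matrix Module
open Cfsg.Agent.Lib.Helper5 Cfsg.Agent.Lib.Helper2 Cfsg.Agent.Lib.Helper2.Uti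
open Cfsg.Agent.Lib.Helper5.UnitaryFormTwo

variable {F : Type*} [Field F]

section diag
variable {n : ℕ}

/-- the invertible diagonal matrix with non-zero entries `d` -/
noncomputable def diagGL (d : Fin n → F) (hd : ∀ i, d i ≠ 0) : GL (Fin n) F :=
  Matrix.GeneralLinearGroup.mkOfDetNeZero (Matrix.diagonal d)
    (by rw [Matrix.det_diagonal]; exact Finset.prod_ne_zero_iff.mpr fun i _ => hd i)

theorem diagGL_val (d : Fin n → F) (hd : ∀ i, d i ≠ 0) :
    ((diagGL d hd : GL (Fin n) F) : Matrix (Fin n) (Fin n) F) = Matrix.diagonal d := rfl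

open Classical in
/-- the number of entries equal to `μ` -/
noncomputable def cnt (d : Fin n → F) (μ : F) : ℕ := ∑ i, if d i = μ then 1 else 0

open Classical in
theorem cnt_eq_card (d : Fin n → F) (μ : F) : cnt d μ = Fintype.card {i // d i = μ} := by
  unfold cnt
  rw [Fintype.card_subtype, Finset.card_filter]

open Classical in
theorem cnt_cons {m : ℕ} (a : F) (d : Fin m → F) (μ : F) :
    cnt (Fin.cons a d : Fin (m + 1) → F) μ = (if a = μ then 1 else 0) + cnt d μ := by
  unfold cnt
  rw [Fin.sum_univ_succ]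
  simp only [Fin.cons_zero, Fin.cons_succ]

open Classical in
theorem cnt_const {m : ℕ} (a μ : F) : cnt (fun _ : Fin m => a) μ = if a = μ then m else 0 := by
  unfold cnt
  by_cases h : a = μ
  · simp [h]
  · simp [h]

theorem gm_diag (d : Fin n → F) (hd : ∀ i, d i ≠ 0) (μ : F) :
    gm (diagGL d hd) μ = cnt d μ := by
  classical
  rw [cnt_eq_card]
  unfold gm
  let φ : ({i // d i = μ} → F) →ₗ[F] (Fin n → F) :=
    LinearMap.pi (fun i => if h : d i = μ then LinearMap.proj ⟨i, h⟩ else 0)
  have hφ : ∀ w i, φ w i = if h : d i = μ then w ⟨i, h⟩ else 0 := by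
    intro w i
    show (if h : d i = μ then LinearMap.proj (R := F) (φ := fun _ : {i // d i = μ} => F) ⟨i, h⟩
      else 0) w = _
    split_ifs with h
    · rfl
    · rfl
  have hinj : Function.Injective φ := by
    intro w w' h
    funext i
    have := congrFun h i.1
    rw [hφ, hφ, dif_pos i.2, dif_pos i.2] at this
    exact this
  have hrange : LinearMap.range φ =
      LinearMap.ker (Matrix.toLin' ((diagGL d hd : GL (Fin n) F) : Matrix (Fin n) (Fin n) F) -
        μ • 1) := by
    ext v
    rw [mem_ker_iff, diagGL_val, LinearMap.mem_range]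
    constructor
    · rintro ⟨w, rfl⟩
      funext i
      rw [Matrix.mulVec_diagonal, Pi.smul_apply, smul_eq_mul, hφ]
      split_ifs with h
      · rw [h]
      · rw [mul_zero, mul_zero]
    · intro hv
      refine ⟨fun i => v i.1, ?_⟩
      funext i
      rw [hφ]
      split_ifs with h
      · rfl
      · have h1 := congrFun hv i
        rw [Matrix.mulVec_diagonal, Pi.smul_apply, smul_eq_mul] at h1
        have h2 : (d i - μ) * v i = 0 := by rw [sub_mul, h1, sub_self]
        rcases mul_eq_zero.mp h2 with h3 | h3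
        · exact absurd (sub_eq_zero.mp h3) h
        · exact h3.symm
  rw [← hrange, LinearMap.finrank_range_of_inj hinj, Module.finrank_fintype_fun_eq_card]

end diag

variable [Fintype F] {q₀ : ℕ} (hF : Fintype.card F = q₀ ^ 2) {n : ℕ}
  {f : (Fin n → F) → (Fin n → F) → F} (hf : Cfsg.Geo.IsUnitaryFormPow q₀ f)

include hF hf in
theorem f_right_sub_smul (v a u : Fin n → F) (μ : F) :
    f v (a - μ • u) = f v a - μ ^ q₀ * f v u := by
  have h1 : f v (a - μ • u) = sesq hF hf (a - μ • u) v := rfl
  rw [h1, map_sub, LinearMap.sub_apply, LinearMap.map_smulₛₗ, LinearMap.smul_apply, smul_eq_mul,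
    HermBridge.sigma_apply]
  rfl

include hF hf in
/-- the symmetry of the eigenvalue multiplicities of a similarity -/
theorem gm_sim {y : GL (Fin n) F} {c : F} (hc0 : c ≠ 0)
    (hc : ∀ u v : Fin n → F, f ((y : Matrix (Fin n) (Fin n) F) *ᵥ u)
      ((y : Matrix (Fin n) (Fin n) F) *ᵥ v) = c * f u v) (μ : F) (hμ : μ ≠ 0) :
    gm y (c * (μ ^ q₀)⁻¹) = gm y μ := by
  set Y : Module.End F (Fin n → F) := Matrix.toLin' (y : Matrix (Fin n) (Fin n) F) with hY
  set ν : F := c * (μ ^ q₀)⁻¹ with hν
  have hμq : μ ^ q₀ ≠ 0 := pow_ne_zero _ hμ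
  have hν0 : ν ≠ 0 := mul_ne_zero hc0 (inv_ne_zero hμq)
  have hperp : perp (sesq hF hf) (LinearMap.range (Y - μ • 1)) = LinearMap.ker (Y - ν • 1) := by
    ext v
    rw [mem_perp, mem_ker_iff]
    constructor
    · intro h
      by_contra hne
      have hne' : (y : Matrix (Fin n) (Fin n) F) *ᵥ v - ν • v ≠ 0 := sub_ne_zero.mpr hne
      obtain ⟨w, hw⟩ := (hf.nondegenerate _ hne').2
      apply hw
      set u := ((y⁻¹ : GL (Fin n) F) : Matrix (Fin n) (Fin n) F) *ᵥ w with hu
      have hwu : w = (y : Matrix (Fin n) (Fin n) F) *ᵥ u := by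
        rw [hu, Matrix.mulVec_mulVec, ← Units.val_mul, mul_inv_cancel, Units.val_one,
          Matrix.one_mulVec]
      have h1 : f v ((y : Matrix (Fin n) (Fin n) F) *ᵥ u - μ • u) = 0 := by
        have := h (Y u - μ • u) ⟨u, by
          rw [LinearMap.sub_apply, LinearMap.smul_apply, Module.End.one_apply]⟩
        rw [sesq_apply, hY, Matrix.toLin'_apply] at this
        exact this
      rw [f_right_sub_smul hF hf] at h1
      rw [hwu, u_sub_left hf, hf.smul_left, hc, sub_eq_zero.mp h1, hν]
      field_simp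
      ring
    · intro h w hw
      obtain ⟨u, rfl⟩ := hw
      rw [sesq_apply, LinearMap.sub_apply, LinearMap.smul_apply, Module.End.one_apply, hY,
        Matrix.toLin'_apply, f_right_sub_smul hF hf]
      have h1 : ν * f v ((y : Matrix (Fin n) (Fin n) F) *ᵥ u) = c * f v u := by
        rw [← hf.smul_left, ← h, hc]
      have h2 : f v ((y : Matrix (Fin n) (Fin n) F) *ᵥ u) = μ ^ q₀ * f v u := by
        have h3 : f v ((y : Matrix (Fin n) (Fin n) F) *ᵥ u) = ν⁻¹ * (c * f v u) := by
          rw [← h1, ← mul_assoc, inv_mul_cancel₀ hν0, one_mul]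
        rw [h3, hν]
        field_simp
      rw [h2, sub_self]
  have h1 := finrank_perp (sesq hF hf) (HermBridge.sigma_sigma hF) (sesq_nondegenerate hF hf)
    (LinearMap.range (Y - μ • 1))
  have h2 := LinearMap.finrank_range_add_finrank_ker (Y - μ • 1)
  rw [hperp] at h1
  show finrank F (LinearMap.ker (Y - ν • 1)) = finrank F (LinearMap.ker (Y - μ • 1))
  omega

include hF hf in
/-- a diagonal matrix whose multiplicity function admits no symmetry `μ ↦ c μ^{-q₀}` has no
conjugate in the similarity group -/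
theorem no_conj_of_cnt (hn : 1 ≤ n) (d : Fin n → F) (hd : ∀ i, d i ≠ 0)
    (hbad : ∀ c : F, c ≠ 0 → c ^ q₀ = c →
      ¬ (∀ μ : F, μ ≠ 0 → cnt d (c * (μ ^ q₀)⁻¹) = cnt d μ)) (g : GL (Fin n) F) :
    g⁻¹ * diagGL d hd * g ∉ Cfsg.Geo.similarityGroup f := by
  rintro ⟨c, hc⟩
  apply hbad c c.ne_zero (mult_fixed hf hn hc)
  intro μ hμ
  rw [← gm_diag d hd, ← gm_diag d hd, ← gm_conj _ g, ← gm_conj _ g μ]
  exact gm_sim hF hf c.ne_zero hc μ hμ

include hf in
/-- scalar matrices are similarities -/
theorem scalar_mem_sim (x : GL (Fin n) F) (z : F)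
    (hx : (x : Matrix (Fin n) (Fin n) F) = z • (1 : Matrix (Fin n) (Fin n) F)) (hz : z ≠ 0) :
    x ∈ Cfsg.Geo.similarityGroup f := by
  refine ⟨Units.mk0 (z * z ^ q₀) (mul_ne_zero hz (pow_ne_zero _ hz)), fun u v => ?_⟩
  rw [hx, Matrix.smul_mulVec, Matrix.one_mulVec, Matrix.smul_mulVec, Matrix.one_mulVec,
    hf.smul_left, u_smul_right hf, Units.val_mk0]
  ring

end Cfsg.Agent.Lib.Helper8.Su
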