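import Mathlib
import Cfsg.Prelude
import Cfsg.Agent.Lib.Helper8.Su9

set_option autoImplicit false
set_option linter.unusedSectionVars false
set_option linter.unusedVariables false
open Cfsg

/-! Diagonal derangements for the unitary-type subgroup of `SL_n(q₀²)` when `r ∣ q₀ - 1`. -/

namespace Cfsg.Agent.Lib.Helper8.Su

open Matrix Module
open Cfsg.Agent.Lib.Helper5 Cfsg.Agent.Lib.Helper2

variable {F : Type*} [Field F]

section vectors

/-- `(ω, ω, ω, 1, …, 1)` -/
def dC (ω : F) (m : ℕ) : Fin (m + 3) → F :=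
  Fin.cons ω (Fin.cons ω (Fin.cons ω (fun _ : Fin m => (1 : F))))

/-- `(ω, ω, ω⁻², 1, …, 1)` -/
def dA (ω : F) (m : ℕ) : Fin (m + 3) → F :=
  Fin.cons ω (Fin.cons ω (Fin.cons (ω⁻¹ * ω⁻¹) (fun _ : Fin m => (1 : F))))

/-- `(ρ ω⁻¹, ρ, …, ρ)` -/
def dB (ρ ω : F) (m : ℕ) : Fin (m + 1) → F :=
  Fin.cons (ρ * ω⁻¹) (fun _ : Fin m => ρ)

open Classical in
theorem cnt_dC (ω : F) (m : ℕ) (μ : F) :
    cnt (dC ω m) μ = (if ω = μ then 3 else 0) + (if 1 = μ then m else 0) := by
  unfold dC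
  rw [cnt_cons, cnt_cons, cnt_cons, cnt_const]
  split_ifs <;> omega

open Classical in
theorem cnt_dA (ω : F) (m : ℕ) (μ : F) :
    cnt (dA ω m) μ = (if ω = μ then 2 else 0) + (if ω⁻¹ * ω⁻¹ = μ then 1 else 0) +
      (if 1 = μ then m else 0) := by
  unfold dA
  rw [cnt_cons, cnt_cons, cnt_cons, cnt_const]
  split_ifs <;> omega

open Classical in
theorem cnt_dB (ρ ω : F) (m : ℕ) (μ : F) :
    cnt (dB ρ ω m) μ = (if ρ * ω⁻¹ = μ then 1 else 0) + (if ρ = μ then m else 0) := by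
  unfold dB
  rw [cnt_cons, cnt_const]

theorem cons_pow {m : ℕ} (a : F) (d : Fin m → F) (k : ℕ) :
    (Fin.cons a d : Fin (m + 1) → F) ^ k = Fin.cons (a ^ k) (d ^ k) := by
  funext i
  refine Fin.cases ?_ (fun j => ?_) i
  · simp
  · simp

theorem prod_cons {m : ℕ} (a : F) (d : Fin m → F) :
    ∏ i, (Fin.cons a d : Fin (m + 1) → F) i = a * ∏ i, d i := by
  rw [Fin.prod_univ_succ]
  simp

end vectors

section bad

variable {q₀ : ℕ}

open Classical in
theorem bad_C (ω : F) (hω1 : ω ≠ 1) (hω3 : ω ^ 3 = 1) (hωq : ω ^ q₀ = ω) (m : ℕ) (hm1 : 1 ≤ m)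
    (hm3 : m ≠ 3) (c : F) :
    ¬ (∀ μ : F, μ ≠ 0 → cnt (dC ω m) (c * (μ ^ q₀)⁻¹) = cnt (dC ω m) μ) := by
  intro H
  have hω0 : ω ≠ 0 := by
    rintro rfl
    simp at hω3
  have h1 := H ω hω0
  have h2 := H 1 one_ne_zero
  rw [hωq, cnt_dC, cnt_dC, if_pos rfl, if_neg (Ne.symm hω1)] at h1
  rw [one_pow, inv_one, mul_one, cnt_dC, cnt_dC, if_neg hω1, if_pos rfl] at h2
  by_cases p1 : ω = c * ω⁻¹
  · have hc : ω * ω = c := (eq_mul_inv_iff_mul_eq₀ hω0).mp p1
    have q1 : ¬ ω = c := by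
      intro h
      rw [← hc] at h
      have : ω * 1 = ω * ω := by rw [mul_one]; exact h
      exact hω1 (mul_left_cancel₀ hω0 this).symm
    have q2 : ¬ 1 = c := by
      intro h
      rw [← hc] at h
      apply hω1
      calc ω = ω * 1 := (mul_one ω).symm
        _ = ω * (ω * ω) := by rw [← h]
        _ = ω ^ 3 := by ring
        _ = 1 := hω3
    rw [if_neg q1, if_neg q2] at h2
    omega
  · rw [if_neg p1] at h1
    by_cases p2 : 1 = c * ω⁻¹
    · rw [if_pos p2] at h1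
      omega
    · rw [if_neg p2] at h1
      omega

open Classical in
theorem bad_B (ρ ω : F) (hρ0 : ρ ≠ 0) (hω0 : ω ≠ 0) (hω1 : ω ≠ 1) (hω2 : ω * ω ≠ 1)
    (hωq : ω ^ q₀ = ω) (m : ℕ) (hm : 2 ≤ m) (c : F) :
    ¬ (∀ μ : F, μ ≠ 0 → cnt (dB ρ ω m) (c * (μ ^ q₀)⁻¹) = cnt (dB ρ ω m) μ) := by
  intro H
  have hρq0 : ρ ^ q₀ ≠ 0 := pow_ne_zero _ hρ0
  have hμ0 : ρ * ω⁻¹ ≠ 0 := mul_ne_zero hρ0 (inv_ne_zero hω0)
  have h1 := H ρ hρ0
  have h2 := H (ρ * ω⁻¹) hμ0
  have e1 : ¬ ρ * ω⁻¹ = ρ := by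
    intro h
    have h' : ρ * ω⁻¹ = ρ * 1 := by rw [mul_one]; exact h
    have := mul_left_cancel₀ hρ0 h'
    exact hω1 (inv_eq_one.mp this)
  rw [cnt_dB, cnt_dB, if_neg e1, if_pos rfl] at h1
  rw [cnt_dB, cnt_dB, if_pos rfl, if_neg (Ne.symm e1)] at h2
  by_cases p1 : ρ = c * (ρ ^ q₀)⁻¹
  · have hc : ρ * ρ ^ q₀ = c := (eq_mul_inv_iff_mul_eq₀ hρq0).mp p1
    have hν : c * ((ρ * ω⁻¹) ^ q₀)⁻¹ = ρ * ω := by
      rw [← hc, mul_pow, inv_pow, hωq]
      field_simp
    rw [hν] at h2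
    have q1 : ¬ ρ * ω⁻¹ = ρ * ω := by
      intro h
      have h3 : ω⁻¹ = ω := mul_left_cancel₀ hρ0 h
      apply hω2
      have h4 : ω⁻¹ * ω = 1 := inv_mul_cancel₀ hω0
      rwa [h3] at h4
    have q2 : ¬ ρ = ρ * ω := by
      intro h
      have h' : ρ * 1 = ρ * ω := by rw [mul_one]; exact h
      exact hω1 (mul_left_cancel₀ hρ0 h').symm
    rw [if_neg q1, if_neg q2] at h2
    omega
  · rw [if_neg p1] at h1
    by_cases p2 : ρ * ω⁻¹ = c * (ρ ^ q₀)⁻¹
    · rw [if_pos p2] at h1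
      omega
    · rw [if_neg p2] at h1
      omega

open Classical in
theorem bad_A (ω : F) (hω0 : ω ≠ 0) (n1 : ω ≠ 1) (n2 : ω ^ 2 ≠ 1) (n3 : ω ^ 3 ≠ 1)
    (n4 : ω ^ 4 ≠ 1) (n6 : ω ^ 6 ≠ 1) (hωq : ω ^ q₀ = ω) (m : ℕ) (n5 : m = 2 → ω ^ 5 ≠ 1)
    (c : F) :
    ¬ (∀ μ : F, μ ≠ 0 → cnt (dA ω m) (c * (μ ^ q₀)⁻¹) = cnt (dA ω m) μ) := by
  intro H
  set e : F := ω⁻¹ * ω⁻¹ with he
  have he0 : e ≠ 0 := mul_ne_zero (inv_ne_zero hω0) (inv_ne_zero hω0)
  have hee : e * ω ^ 2 = 1 := by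
    rw [he]
    field_simp
  have heq : e ^ q₀ = e := by
    rw [he, mul_pow, inv_pow, hωq]
  have einv : e⁻¹ = ω ^ 2 := by
    rw [he]
    field_simp
  -- distinctness
  have d1 : ¬ e = ω := by
    intro h
    apply n3
    rw [← hee, h]
    ring
  have d2 : ¬ 1 = ω := fun h => n1 h.symm
  have d3 : ¬ 1 = e := by
    intro h
    apply n2
    rw [← hee, ← h, one_mul]
  have d4 : ¬ ω = e := fun h => d1 h.symm
  have d5 : ¬ ω = 1 := n1
  have d6 : ¬ e = 1 := fun h => d3 h.symm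
  have h1 := H ω hω0
  have h2 := H e he0
  have h3 := H 1 one_ne_zero
  rw [hωq, cnt_dA, cnt_dA, ← he, if_pos rfl, if_neg d1, if_neg d2] at h1
  rw [heq, einv, cnt_dA, cnt_dA, ← he, if_neg d4, if_pos rfl, if_neg d3] at h2
  rw [one_pow, inv_one, mul_one, cnt_dA, cnt_dA, ← he, if_neg d5, if_neg d6, if_pos rfl] at h3
  rcases Nat.lt_or_ge m 2 with hm | hm
  · -- m ≤ 1
    by_cases p1 : ω = c * ω⁻¹
    · have hc : c = ω ^ 2 := by
        rw [← (eq_mul_inv_iff_mul_eq₀ hω0).mp p1]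
        ring
      rw [hc] at h2
      have q1 : ¬ ω = ω ^ 2 * ω ^ 2 := by
        intro h
        apply n3
        have h' : ω * 1 = ω * ω ^ 3 := by
          rw [mul_one]
          calc ω = ω ^ 2 * ω ^ 2 := h
            _ = ω * ω ^ 3 := by ring
        exact (mul_left_cancel₀ hω0 h').symm
      have q2 : ¬ e = ω ^ 2 * ω ^ 2 := by
        intro h
        apply n6
        rw [← hee, h]
        ring
      have q3 : ¬ 1 = ω ^ 2 * ω ^ 2 := by
        intro h
        apply n4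
        rw [h]
        ring
      rw [if_neg q1, if_neg q2, if_neg q3] at h2
      omega
    · rw [if_neg p1] at h1
      by_cases p2 : e = c * ω⁻¹
      · by_cases p3 : 1 = c * ω⁻¹
        · exact d3 (p3.trans p2.symm)
        · rw [if_pos p2, if_neg p3] at h1
          omega
      · rw [if_neg p2] at h1
        by_cases p3 : 1 = c * ω⁻¹
        · rw [if_pos p3] at h1
          omega
        · rw [if_neg p3] at h1
          omega
  · rcases Nat.eq_or_lt_of_le hm with hm2 | hm3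
    · -- m = 2
      by_cases p2 : e = c * ω ^ 2
      · have hc : c = e * e := by
          have h' : c = c * (ω ^ 2 * e) := by rw [mul_comm (ω ^ 2) e, hee, mul_one]
          rw [h', ← mul_assoc, ← p2]
        rw [hc] at h3
        have q1 : ¬ ω = e * e := by
          intro h
          apply n5 hm2.symm
          calc ω ^ 5 = ω * (ω ^ 2 * ω ^ 2) := by ring
            _ = (e * e) * (ω ^ 2 * ω ^ 2) := by rw [← h]
            _ = (e * ω ^ 2) * (e * ω ^ 2) := by ring
            _ = 1 := by rw [hee, one_mul]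
        have q2 : ¬ e = e * e := by
          intro h
          have h' : e * 1 = e * e := by rw [mul_one]; exact h
          exact d3 (mul_left_cancel₀ he0 h')
        have q3 : ¬ 1 = e * e := by
          intro h
          apply n4
          calc ω ^ 4 = 1 * (ω ^ 2 * ω ^ 2) := by ring
            _ = (e * e) * (ω ^ 2 * ω ^ 2) := by rw [← h]
            _ = (e * ω ^ 2) * (e * ω ^ 2) := by ring
            _ = 1 := by rw [hee, one_mul]
        rw [if_neg q1, if_neg q2, if_neg q3] at h3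
        omega
      · rw [if_neg p2] at h2
        by_cases p1 : ω = c * ω ^ 2
        · rw [if_pos p1] at h2
          omega
        · rw [if_neg p1] at h2
          by_cases p3 : 1 = c * ω ^ 2
          · rw [if_pos p3] at h2
            omega
          · rw [if_neg p3] at h2
            omega
    · -- m ≥ 3
      by_cases p3 : 1 = c
      · rw [← p3, one_mul] at h1
        have q1 : ¬ ω = ω⁻¹ := by
          intro h
          apply n2
          rw [sq]
          nth_rewrite 2 [h]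
          exact mul_inv_cancel₀ hω0
        have q2 : ¬ e = ω⁻¹ := by
          intro h
          have h' : ω⁻¹ * ω⁻¹ = ω⁻¹ * 1 := by rw [mul_one]; exact h
          have := mul_left_cancel₀ (inv_ne_zero hω0) h'
          exact n1 (inv_eq_one.mp this)
        have q3 : ¬ 1 = ω⁻¹ := by
          intro h
          exact n1 (inv_eq_one.mp h.symm)
        rw [if_neg q1, if_neg q2, if_neg q3] at h1
        omega
      · rw [if_neg p3] at h3
        by_cases p1 : ω = c
        · by_cases p2 : e = c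
          · exact d4 (p1.trans p2.symm)
          · rw [if_pos p1, if_neg p2] at h3
            omega
        · rw [if_neg p1] at h3
          by_cases p2 : e = c
          · rw [if_pos p2] at h3
            omega
          · rw [if_neg p2] at h3
            omega

end bad

end Cfsg.Agent.Lib.Helper8.Su
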