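import Mathlib
import Cfsg.Prelude
import Cfsg.Agent.Lib.Helper8.Su1
import Cfsg.Agent.Lib.Helper5.HermCard
import Cfsg.Agent.Lib.Helper4.SLCard
import Cfsg.Agent.Lib.Helper2.UppE

set_option autoImplicit false
set_option linter.unusedSectionVars false
set_option linter.unusedVariables false
open Cfsg

/-! The index of the unitary-type subgroup of `SL_n(q₀²)` divides
`q₀^{n(n-1)/2} ∏_{k=2}^n (q₀^k + (-1)^k)`. -/

namespace Cfsg.Agent.Lib.Helper8.Su

open Matrix Module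
open Cfsg.Agent.Lib.Helper5 Cfsg.Agent.Lib.Helper2

section arith

theorem prod_GL (q n : ℕ) (hq : 1 ≤ q) :
    ∏ i : Fin n, (q ^ n - q ^ (i : ℕ)) =
      (∏ i ∈ Finset.range n, q ^ i) * ∏ i ∈ Finset.range n, (q ^ (i + 1) - 1) := by
  rw [Fin.prod_univ_eq_prod_range (fun i => q ^ n - q ^ i) n]
  rw [← Finset.prod_range_reflect (fun i => q ^ (i + 1) - 1) n, ← Finset.prod_mul_distrib]
  refine Finset.prod_congr rfl fun i hi => ?_
  have hi' : i < n := Finset.mem_range.mp hi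
  have h1 : n - 1 - i + 1 = n - i := by omega
  rw [h1, Nat.mul_sub, mul_one, ← pow_add]
  congr 2
  omega

/-- the factors of `|GU_n(q₀)|` -/
def fU (q₀ i : ℕ) : ℕ := if Even i then q₀ ^ (i + 1) + 1 else q₀ ^ (i + 1) - 1

/-- the complementary factors -/
def fW (q₀ i : ℕ) : ℕ := if Even i then q₀ ^ (i + 1) - 1 else q₀ ^ (i + 1) + 1

theorem succ_mul_pred (a : ℕ) (ha : 1 ≤ a) : (a + 1) * (a - 1) = a ^ 2 - 1 := by
  obtain ⟨b, rfl⟩ := Nat.exists_eq_add_of_le ha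
  rw [Nat.add_sub_cancel_left]
  exact (Nat.sub_eq_of_eq_add (by ring)).symm

theorem fU_mul_fW (q₀ i : ℕ) (hq : 1 ≤ q₀) : fU q₀ i * fW q₀ i = (q₀ ^ 2) ^ (i + 1) - 1 := by
  have h1 : (q₀ ^ 2) ^ (i + 1) = (q₀ ^ (i + 1)) ^ 2 := by rw [← pow_mul, ← pow_mul, mul_comm]
  have h2 : 1 ≤ q₀ ^ (i + 1) := Nat.one_le_pow _ _ hq
  unfold fU fW
  split_ifs
  · rw [h1, succ_mul_pred _ h2]
  · rw [h1, mul_comm, succ_mul_pred _ h2]

theorem GL_factor (q₀ n : ℕ) (hq : 1 ≤ q₀) :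
    ∏ i : Fin n, ((q₀ ^ 2) ^ n - (q₀ ^ 2) ^ (i : ℕ)) =
      (q₀ ^ (n * (n - 1) / 2) * ∏ i ∈ Finset.range n, fU q₀ i) *
      (q₀ ^ (n * (n - 1) / 2) * ∏ i ∈ Finset.range n, fW q₀ i) := by
  rw [prod_GL _ _ (Nat.one_le_pow _ _ hq), Finset.prod_pow_eq_pow_sum, Finset.sum_range_id]
  have h1 : (q₀ ^ 2) ^ (n * (n - 1) / 2) = q₀ ^ (n * (n - 1) / 2) * q₀ ^ (n * (n - 1) / 2) := by
    rw [← pow_mul, two_mul, pow_add]
  have h2 : ∏ i ∈ Finset.range n, ((q₀ ^ 2) ^ (i + 1) - 1) =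
      (∏ i ∈ Finset.range n, fU q₀ i) * ∏ i ∈ Finset.range n, fW q₀ i := by
    rw [← Finset.prod_mul_distrib]
    exact Finset.prod_congr rfl fun i _ => (fU_mul_fW q₀ i hq).symm
  rw [h1, h2]
  ring

theorem prod_fW (q₀ n : ℕ) (hn : 1 ≤ n) :
    ∏ i ∈ Finset.range n, fW q₀ i = (q₀ - 1) * ∏ i ∈ Finset.range (n - 1), fW q₀ (i + 1) := by
  obtain ⟨m, rfl⟩ := Nat.exists_eq_add_of_le hn
  rw [Nat.add_sub_cancel_left, add_comm 1 m, Finset.prod_range_succ', mul_comm]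
  congr 1
  simp [fW]

end arith

variable {F : Type*} [Field F] [Fintype F] {q₀ : ℕ} (hF : Fintype.card F = q₀ ^ 2) {n : ℕ}
  {f : (Fin n → F) → (Fin n → F) → F} (hf : Cfsg.Geo.IsUnitaryFormPow q₀ f)

omit [Fintype F] in
/-- transport of isometries along an equivalence of forms -/
theorem pres_conj {f f' : (Fin n → F) → (Fin n → F) → F} (T : GL (Fin n) F)
    (hT : ∀ u v : Fin n → F,
      f ((T : Matrix (Fin n) (Fin n) F) *ᵥ u) ((T : Matrix (Fin n) (Fin n) F) *ᵥ v) = f' u v)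
    {y : GL (Fin n) F} (hy : ∀ u v : Fin n → F, f' ((y : Matrix (Fin n) (Fin n) F) *ᵥ u)
      ((y : Matrix (Fin n) (Fin n) F) *ᵥ v) = f' u v) (u v : Fin n → F) :
    f (((T * y * T⁻¹ : GL (Fin n) F) : Matrix (Fin n) (Fin n) F) *ᵥ u)
      (((T * y * T⁻¹ : GL (Fin n) F) : Matrix (Fin n) (Fin n) F) *ᵥ v) = f u v := by
  have key : ∀ w : Fin n → F, ((T * y * T⁻¹ : GL (Fin n) F) : Matrix (Fin n) (Fin n) F) *ᵥ w =
      (T : Matrix (Fin n) (Fin n) F) *ᵥ ((y : Matrix (Fin n) (Fin n) F) *ᵥ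
        (((T⁻¹ : GL (Fin n) F) : Matrix (Fin n) (Fin n) F) *ᵥ w)) := by
    intro w
    rw [Units.val_mul, Units.val_mul, Matrix.mulVec_mulVec, Matrix.mulVec_mulVec, Matrix.mul_assoc]
  have back : ∀ w : Fin n → F, (T : Matrix (Fin n) (Fin n) F) *ᵥ
      (((T⁻¹ : GL (Fin n) F) : Matrix (Fin n) (Fin n) F) *ᵥ w) = w := by
    intro w
    rw [Matrix.mulVec_mulVec, ← Units.val_mul, mul_inv_cancel, Units.val_one, Matrix.one_mulVec]
  rw [key, key, hT, hy, ← hT, back, back]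

omit [Fintype F] in
theorem equiv_inv {f f' : (Fin n → F) → (Fin n → F) → F} (T : GL (Fin n) F)
    (hT : ∀ u v : Fin n → F,
      f ((T : Matrix (Fin n) (Fin n) F) *ᵥ u) ((T : Matrix (Fin n) (Fin n) F) *ᵥ v) = f' u v)
    (u v : Fin n → F) :
    f' (((T⁻¹ : GL (Fin n) F) : Matrix (Fin n) (Fin n) F) *ᵥ u)
      (((T⁻¹ : GL (Fin n) F) : Matrix (Fin n) (Fin n) F) *ᵥ v) = f u v := by
  rw [← hT, Matrix.mulVec_mulVec, Matrix.mulVec_mulVec, ← Units.val_mul, mul_inv_cancel,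
    Units.val_one, Matrix.one_mulVec, Matrix.one_mulVec]

/-- the isometry group of `f` inside `GL` -/
abbrev isoGL (f : (Fin n → F) → (Fin n → F) → F) : Subgroup (GL (Fin n) F) :=
  preserving (Units.coeHom (Matrix (Fin n) (Fin n) F)) f

omit [Fintype F] in
theorem mem_isoGL {f : (Fin n → F) → (Fin n → F) → F} {g : GL (Fin n) F} :
    g ∈ isoGL f ↔ ∀ u v : Fin n → F, f ((g : Matrix (Fin n) (Fin n) F) *ᵥ u)
      ((g : Matrix (Fin n) (Fin n) F) *ᵥ v) = f u v := Iff.rfl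

omit [Fintype F] in
theorem isoGL_le_sim (f : (Fin n → F) → (Fin n → F) → F) :
    isoGL f ≤ Cfsg.Geo.similarityGroup f := by
  intro g hg
  refine ⟨1, fun u v => ?_⟩
  rw [Units.val_one, one_mul]
  exact hg u v

include hF hf in
theorem card_isoGL : Nat.card ↥(isoGL f) = Nat.card ↥(Cfsg.GU n F q₀) := by
  obtain ⟨T, hT⟩ := exists_std hF hf
  refine Nat.card_congr ⟨fun g => ⟨T⁻¹ * g.1 * T, ?_⟩, fun h => ⟨T * h.1 * T⁻¹, ?_⟩, ?_, ?_⟩
  · intro u v
    have := pres_conj (f := hermForm n F q₀) (f' := f) T⁻¹ (equiv_inv T hT) (y := g.1) g.2 u v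
    rwa [inv_inv] at this
  · intro u v
    exact pres_conj T hT (y := h.1) h.2 u v
  · intro g
    apply Subtype.ext
    simp [mul_assoc]
  · intro h
    apply Subtype.ext
    simp [mul_assoc]

include hF hf in
theorem det_isoGL {g : GL (Fin n) F} (hg : g ∈ isoGL f) :
    (g : Matrix (Fin n) (Fin n) F).det ^ (q₀ + 1) = 1 := by
  obtain ⟨T, hT⟩ := exists_std hF hf
  have h1 : T⁻¹ * g * T ∈ Cfsg.GU n F q₀ := by
    intro u v
    have := pres_conj (f := hermForm n F q₀) (f' := f) T⁻¹ (equiv_inv T hT) (y := g) hg u v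
    rwa [inv_inv] at this
  have h2 := Upp.det_mul_det_pow hF _ h1
  have h3 : ((T⁻¹ * g * T : GL (Fin n) F) : Matrix (Fin n) (Fin n) F).det =
      (g : Matrix (Fin n) (Fin n) F).det := by
    rw [Units.val_mul, Units.val_mul, Matrix.det_mul, Matrix.det_mul, mul_comm, ← mul_assoc,
      ← Matrix.det_mul, ← Units.val_mul, mul_inv_cancel, Units.val_one, Matrix.det_one, one_mul]
  rw [h3, ← pow_succ'] at h2
  exact h2

theorem card_subgroupOf_eq {G : Type*} [Group G] (H K : Subgroup G) :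
    Nat.card ↥(H.subgroupOf K) = Nat.card ↥(H ⊓ K) := by
  rw [← Subgroup.inf_subgroupOf_right]
  exact (Nat.card_congr (Subgroup.subgroupOfEquivOfLe inf_le_right).toEquiv)

include hF hf in
/-- `|GU(f)|` divides `(q₀+1)·|SU(f)|` -/
theorem card_isoGL_dvd :
    Nat.card ↥(isoGL f) ∣
      (q₀ + 1) * Nat.card ↥(isoGL f ⊓ Cfsg.Geo.specialLinear (Fin n) F : Subgroup (GL (Fin n) F)) := by
  let φ : ↥(isoGL f) →* Fˣ := (Matrix.GeneralLinearGroup.det).comp (isoGL f).subtype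
  have hker : φ.ker = (Cfsg.Geo.specialLinear (Fin n) F).subgroupOf (isoGL f) := by
    ext g
    rw [MonoidHom.mem_ker, Subgroup.mem_subgroupOf]
    unfold Cfsg.Geo.specialLinear
    rw [MonoidHom.mem_ker]
    rfl
  have h1 := Subgroup.card_mul_index φ.ker
  rw [Subgroup.index_ker, hker, card_subgroupOf_eq, inf_comm] at h1
  have h2 : Nat.card ↥φ.range ∣ q₀ + 1 := by
    haveI : IsCyclic ↥φ.range := Subgroup.isCyclic _
    obtain ⟨a, ha⟩ := IsCyclic.exists_generator (α := ↥φ.range)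
    rw [← orderOf_eq_card_of_forall_mem_zpowers ha]
    apply orderOf_dvd_of_pow_eq_one
    obtain ⟨g, hg⟩ := a.2
    apply Subtype.ext
    rw [Subgroup.coe_pow, ← hg, Subgroup.coe_one]
    apply Units.ext
    rw [Units.val_pow_eq_pow_val, Units.val_one]
    exact det_isoGL hF hf g.2
  rw [← h1, mul_comm]
  exact mul_dvd_mul_right h2 _

theorem card_specialLinear_mul (hn : 0 < n) :
    Nat.card ↥(Cfsg.Geo.specialLinear (Fin n) F) * (Fintype.card F - 1) =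
      Nat.card (GL (Fin n) F) := by
  have h1 := Subgroup.card_mul_index (Matrix.GeneralLinearGroup.det : GL (Fin n) F →* Fˣ).ker
  rw [Subgroup.index_ker,
    MonoidHom.range_eq_top.mpr (Cfsg.Agent.Lib.Helper4.det_surjective_GL n hn),
    Subgroup.card_top, Nat.card_units, Nat.card_eq_fintype_card (α := F)] at h1
  exact h1

include hF hf in
/-- the index divides `q₀^N ∏_{k=2}^n (q₀^k + (-1)^k)` -/
theorem relIndex_dvd (hn : 1 ≤ n) (hq₀ : 2 ≤ q₀) :
    (Cfsg.Geo.similarityGroup f).relIndex (Cfsg.Geo.specialLinear (Fin n) F) ∣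
      q₀ ^ (n * (n - 1) / 2) * ∏ i ∈ Finset.range (n - 1), fW q₀ (i + 1) := by
  set R := (Cfsg.Geo.similarityGroup f).relIndex (Cfsg.Geo.specialLinear (Fin n) F) with hR
  set SLn := Cfsg.Geo.specialLinear (Fin n) F with hSLn
  -- (1)
  have e1 : R * Nat.card ↥(Cfsg.Geo.similarityGroup f ⊓ SLn : Subgroup (GL (Fin n) F)) =
      Nat.card ↥SLn := by
    rw [← card_subgroupOf_eq, hR, Subgroup.relIndex, mul_comm]
    exact Subgroup.card_mul_index _
  -- (2)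
  have e2 : Nat.card ↥(isoGL f ⊓ SLn : Subgroup (GL (Fin n) F)) ∣
      Nat.card ↥(Cfsg.Geo.similarityGroup f ⊓ SLn : Subgroup (GL (Fin n) F)) :=
    Subgroup.card_dvd_of_le (inf_le_inf_right _ (isoGL_le_sim f))
  obtain ⟨m, hm⟩ := e2
  obtain ⟨t, ht⟩ := card_isoGL_dvd hF hf
  have e4 := card_isoGL hF hf
  rw [HermCard.card_GU hF] at e4
  have e5 := card_specialLinear_mul (F := F) (n := n) hn
  rw [Matrix.card_GL_field, hF, GL_factor q₀ n (by omega), prod_fW q₀ n hn] at e5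
  have hfU : ∀ i, (if Even i then q₀ ^ (i + 1) + 1 else q₀ ^ (i + 1) - 1) = fU q₀ i := fun i => rfl
  simp only [hfU] at e4
  set U := q₀ ^ (n * (n - 1) / 2) * ∏ i ∈ Finset.range n, fU q₀ i with hU
  set P := ∏ i ∈ Finset.range (n - 1), fW q₀ (i + 1) with hP
  have hUpos : 0 < U := by
    rw [← e4]
    exact Nat.card_pos
  have hq1 : (q₀ - 1) * (q₀ + 1) = q₀ ^ 2 - 1 := by
    rw [mul_comm]
    exact succ_mul_pred q₀ (by omega)
  have key : U * (R * m * t * (q₀ - 1)) = U * ((q₀ - 1) * (q₀ ^ (n * (n - 1) / 2) * P)) := by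
    calc U * (R * m * t * (q₀ - 1)) = R * m * (q₀ - 1) * (U * t) := by ring
      _ = R * m * (q₀ - 1) * ((q₀ + 1) *
            Nat.card ↥(isoGL f ⊓ SLn : Subgroup (GL (Fin n) F))) := by rw [← e4, ← ht]
      _ = R * (Nat.card ↥(isoGL f ⊓ SLn : Subgroup (GL (Fin n) F)) * m) *
            ((q₀ - 1) * (q₀ + 1)) := by ring
      _ = Nat.card ↥SLn * (q₀ ^ 2 - 1) := by rw [← hm, e1, hq1]
      _ = U * (q₀ ^ (n * (n - 1) / 2) * ((q₀ - 1) * P)) := e5
      _ = U * ((q₀ - 1) * (q₀ ^ (n * (n - 1) / 2) * P)) := by ring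
  have k2 := Nat.eq_of_mul_eq_mul_left hUpos key
  have k3 : (q₀ - 1) * (R * m * t) = (q₀ - 1) * (q₀ ^ (n * (n - 1) / 2) * P) := by
    rw [← k2]; ring
  have k4 := Nat.eq_of_mul_eq_mul_left (by omega : 0 < q₀ - 1) k3
  exact Dvd.intro (m * t) (by rw [← k4]; ring)

include hF hf in
/-- a prime divisor of the index other than the characteristic divides some `q₀^k + (-1)^k` -/
theorem exists_of_dvd_relIndex (hn : 1 ≤ n) (hq₀ : 2 ≤ q₀) (r : ℕ) (hr : r.Prime)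
    (hrq : ¬ r ∣ q₀)
    (h : r ∣ (Cfsg.Geo.similarityGroup f).relIndex (Cfsg.Geo.specialLinear (Fin n) F)) :
    ∃ k, 2 ≤ k ∧ k ≤ n ∧ r ∣ (if Even k then q₀ ^ k + 1 else q₀ ^ k - 1) := by
  have h1 := h.trans (relIndex_dvd hF hf hn hq₀)
  rcases (Nat.Prime.dvd_mul hr).mp h1 with h2 | h2
  · exact absurd (hr.dvd_of_dvd_pow h2) hrq
  · obtain ⟨i, hi, h3⟩ := (Prime.dvd_finsetProd_iff hr.prime _).mp h2
    have hi' : i < n - 1 := Finset.mem_range.mp hi
    refine ⟨i + 2, by omega, by omega, ?_⟩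
    unfold fW at h3
    by_cases he : Even (i + 1)
    · rw [if_pos he] at h3
      have h4 : ¬ Even (i + 2) := by
        rw [show i + 2 = (i + 1) + 1 from rfl, Nat.even_add_one]
        exact not_not.mpr he
      rw [if_neg h4]
      exact h3
    · rw [if_neg he] at h3
      have h4 : Even (i + 2) := by
        rw [show i + 2 = (i + 1) + 1 from rfl, Nat.even_add_one]
        exact he
      rw [if_pos h4]
      exact h3

end Cfsg.Agent.Lib.Helper8.Su
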