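import Mathlib
import Cfsg.Prelude
import Cfsg.Agent.Lib.Helper8.Su10
import Cfsg.Agent.Lib.Helper8.Su2
import Cfsg.Agent.Lib.Helper7.OQ5

set_option autoImplicit false
set_option linter.unusedSectionVars false
set_option linter.unusedVariables false
open Cfsg

/-! Packaged diagonal derangements for `r ∣ q₀ - 1`. -/

namespace Cfsg.Agent.Lib.Helper8.Su

open Matrix Module
open Cfsg.Agent.Lib.Helper5 Cfsg.Agent.Lib.Helper2

universe u

variable {F : Type u} [Field F] [Fintype F] {q₀ : ℕ} (hF : Fintype.card F = q₀ ^ 2) {n : ℕ}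
  {f : (Fin n → F) → (Fin n → F) → F} (hf : Cfsg.Geo.IsUnitaryFormPow q₀ f)

include hF hf in
theorem derange_diag (hn : 1 ≤ n) (d : Fin n → F) (hd : ∀ i, d i ≠ 0) (hdet : ∏ i, d i = 1)
    (r : ℕ) (z : F) (hpow : ∀ i, d i ^ r = z)
    (hbad : ∀ c : F, c ≠ 0 → c ^ q₀ = c →
      ¬ (∀ μ : F, μ ≠ 0 → cnt d (c * (μ ^ q₀)⁻¹) = cnt d μ)) :
    ∃ x ∈ Cfsg.Geo.specialLinear (Fin n) F,
      (∃ z : F, ((x ^ r : GL (Fin n) F) : Matrix (Fin n) (Fin n) F) =
        z • (1 : Matrix (Fin n) (Fin n) F)) ∧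
      ∀ g : GL (Fin n) F, g⁻¹ * x * g ∉ Cfsg.Geo.similarityGroup f := by
  refine ⟨diagGL d hd, ?_, ⟨z, ?_⟩, no_conj_of_cnt hF hf hn d hd hbad⟩
  · unfold Cfsg.Geo.specialLinear
    rw [MonoidHom.mem_ker]
    apply Units.ext
    rw [Matrix.GeneralLinearGroup.val_det_apply, diagGL_val, Matrix.det_diagonal, hdet,
      Units.val_one]
  · rw [Units.val_pow_eq_pow_val, diagGL_val, Matrix.diagonal_pow, Matrix.smul_one_eq_diagonal]
    congr 1
    funext i
    rw [Pi.pow_apply, hpow]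

omit [Fintype F] in
theorem cons_forall {m : ℕ} {P : F → Prop} (a : F) (d : Fin m → F) (ha : P a)
    (hd : ∀ j, P (d j)) : ∀ i, P ((Fin.cons a d : Fin (m + 1) → F) i) := by
  intro i
  refine Fin.cases ?_ (fun j => ?_) i
  · simpa using ha
  · simpa using hd j

omit [Fintype F] in
theorem pow_eq_of_dvd_sub_one (ω : F) (r : ℕ) (hω : ω ^ r = 1) (hr1 : r ∣ q₀ - 1) (hq₀ : 1 ≤ q₀) :
    ω ^ q₀ = ω := by
  obtain ⟨m, hm⟩ := hr1
  have h1 : q₀ = r * m + 1 := by omega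
  rw [h1, pow_succ, pow_mul, hω, one_pow, one_mul]

theorem dvd_card_sub_one (r : ℕ) (hr1 : r ∣ q₀ - 1) (hq₀ : 1 ≤ q₀) (hF : Fintype.card F = q₀ ^ 2) :
    r ∣ Fintype.card F - 1 := by
  have hfac : Fintype.card F - 1 = (q₀ - 1) * (q₀ + 1) := by
    rw [hF, mul_comm]
    exact (succ_mul_pred q₀ hq₀).symm
  rw [hfac]
  exact Dvd.dvd.mul_right hr1 _

include hF hf in
theorem derange_A (r : ℕ) [hr : Fact r.Prime] (hr5 : 5 ≤ r) (hr1 : r ∣ q₀ - 1) (hq₀ : 2 ≤ q₀)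
    (hn : 3 ≤ n) (h55 : ¬ (n = 5 ∧ r = 5)) :
    ∃ x ∈ Cfsg.Geo.specialLinear (Fin n) F,
      (∃ z : F, ((x ^ r : GL (Fin n) F) : Matrix (Fin n) (Fin n) F) =
        z • (1 : Matrix (Fin n) (Fin n) F)) ∧
      ∀ g : GL (Fin n) F, g⁻¹ * x * g ∉ Cfsg.Geo.similarityGroup f := by
  obtain ⟨m, rfl⟩ : ∃ m, n = m + 3 := ⟨n - 3, by omega⟩
  obtain ⟨ω, hω1, hωne, hω3⟩ := Cfsg.Agent.Lib.Helper7.OQ.exists_root_of_unity (F := F) r
    (dvd_card_sub_one r hr1 (by omega) hF)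
  have hωq := pow_eq_of_dvd_sub_one ω r hω1 hr1 (by omega)
  have hω0 : ω ≠ 0 := by
    rintro rfl
    rw [zero_pow hr.out.ne_zero] at hω1
    exact zero_ne_one hω1
  have hk : ∀ k : ℕ, ¬ r ∣ k → ω ^ k ≠ 1 := by
    intro k hk h
    apply hk
    rw [← hω3]
    exact orderOf_dvd_of_pow_eq_one h
  have hsmall : ∀ k : ℕ, 0 < k → k < 5 → ¬ r ∣ k := by
    intro k hk0 hk5 h
    have := Nat.le_of_dvd hk0 h
    omega
  have h6 : ¬ r ∣ 6 := by
    intro h
    have h1 := Nat.le_of_dvd (by norm_num) h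
    have h2 : r = 5 ∨ r = 6 := by omega
    rcases h2 with rfl | rfl
    · norm_num at h
    · exact absurd hr.out (by norm_num)
  have h5 : m = 2 → ¬ r ∣ 5 := by
    intro hm h
    have h1 := Nat.le_of_dvd (by norm_num) h
    apply h55
    exact ⟨by omega, by omega⟩
  have hd : ∀ i, dA ω m i ≠ 0 :=
    cons_forall (P := fun x => x ≠ 0) _ _ hω0 (cons_forall (P := fun x => x ≠ 0) _ _ hω0
      (cons_forall (P := fun x => x ≠ 0) _ _
        (mul_ne_zero (inv_ne_zero hω0) (inv_ne_zero hω0)) (fun _ => one_ne_zero)))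
  refine derange_diag hF hf (by omega) (dA ω m) hd ?_ r 1 ?_ ?_
  · unfold dA
    rw [prod_cons, prod_cons, prod_cons, Finset.prod_const_one]
    field_simp
  · have he : (ω⁻¹ * ω⁻¹) ^ r = 1 := by rw [mul_pow, inv_pow, hω1, inv_one, one_mul]
    exact cons_forall (P := fun x => x ^ r = 1) _ _ hω1 (cons_forall (P := fun x => x ^ r = 1) _ _
      hω1 (cons_forall (P := fun x => x ^ r = 1) _ _ he (fun _ => one_pow _)))
  · intro c _ _
    have n1 : ω ≠ 1 := hωne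
    exact bad_A ω hω0 n1 (hk 2 (hsmall 2 (by norm_num) (by norm_num)))
      (hk 3 (hsmall 3 (by norm_num) (by norm_num))) (hk 4 (hsmall 4 (by norm_num) (by norm_num)))
      (hk 6 h6) hωq m (fun hm => hk 5 (h5 hm)) c

include hF hf in
theorem derange_C (hr1 : 3 ∣ q₀ - 1) (hq₀ : 2 ≤ q₀) (hn : 4 ≤ n) (hn6 : n ≠ 6) :
    ∃ x ∈ Cfsg.Geo.specialLinear (Fin n) F,
      (∃ z : F, ((x ^ 3 : GL (Fin n) F) : Matrix (Fin n) (Fin n) F) =
        z • (1 : Matrix (Fin n) (Fin n) F)) ∧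
      ∀ g : GL (Fin n) F, g⁻¹ * x * g ∉ Cfsg.Geo.similarityGroup f := by
  obtain ⟨m, rfl⟩ : ∃ m, n = m + 3 := ⟨n - 3, by omega⟩
  haveI : Fact (Nat.Prime 3) := ⟨Nat.prime_three⟩
  obtain ⟨ω, hω1, hωne, hω3⟩ := Cfsg.Agent.Lib.Helper7.OQ.exists_root_of_unity (F := F) 3
    (dvd_card_sub_one 3 hr1 (by omega) hF)
  have hωq := pow_eq_of_dvd_sub_one ω 3 hω1 hr1 (by omega)
  have hω0 : ω ≠ 0 := by
    rintro rfl
    norm_num at hω1
  have hd : ∀ i, dC ω m i ≠ 0 :=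
    cons_forall (P := fun x => x ≠ 0) _ _ hω0 (cons_forall (P := fun x => x ≠ 0) _ _ hω0
      (cons_forall (P := fun x => x ≠ 0) _ _ hω0 (fun _ => one_ne_zero)))
  refine derange_diag hF hf (by omega) (dC ω m) hd ?_ 3 1 ?_ ?_
  · unfold dC
    rw [prod_cons, prod_cons, prod_cons, Finset.prod_const_one, mul_one, ← mul_assoc, ← hω1]
    ring
  · exact cons_forall (P := fun x => x ^ 3 = 1) _ _ hω1 (cons_forall (P := fun x => x ^ 3 = 1) _ _
      hω1 (cons_forall (P := fun x => x ^ 3 = 1) _ _ hω1 (fun _ => one_pow _)))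
  · intro c _ _
    exact bad_C ω hωne hω1 hωq m (by omega) (by omega) c

/-- an element `ρ` whose `r`-th power has order `r` -/
theorem exists_rho (r : ℕ) [hr : Fact r.Prime] (h : r * r ∣ Fintype.card F - 1) :
    ∃ ρ : F, ρ ≠ 0 ∧ orderOf (ρ ^ r) = r := by
  obtain ⟨γ, hγ⟩ := IsCyclic.exists_generator (α := Fˣ)
  have hord : orderOf γ = Fintype.card F - 1 := by
    rw [orderOf_eq_card_of_forall_mem_zpowers hγ, Nat.card_units, Nat.card_eq_fintype_card]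
  obtain ⟨N, hN⟩ := h
  have hcard : 2 ≤ Fintype.card F := Fintype.one_lt_card
  have hN0 : 0 < N := by
    rcases Nat.eq_zero_or_pos N with h0 | h0
    · rw [h0, mul_zero] at hN
      omega
    · exact h0
  have hr2 := hr.out.two_le
  refine ⟨((γ ^ N : Fˣ) : F), Units.ne_zero _, ?_⟩
  rw [← Units.val_pow_eq_pow_val, orderOf_units]
  apply orderOf_eq_prime
  · rw [← pow_mul, ← pow_mul]
    have h1 : N * (r * r) = orderOf γ := by rw [hord, hN]; ring
    rw [h1]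
    exact pow_orderOf_eq_one γ
  · rw [← pow_mul]
    apply pow_ne_one_of_lt_orderOf
    · exact (Nat.mul_pos hN0 (by omega)).ne'
    · rw [hord, hN]
      calc N * r < 2 * (N * r) := by
            have := Nat.mul_pos hN0 (by omega : 0 < r)
            omega
        _ ≤ r * (N * r) := Nat.mul_le_mul_right _ hr2
        _ = r * r * N := by ring

end Cfsg.Agent.Lib.Helper8.Su
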