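import Mathlib
import Cfsg.Prelude
import Cfsg.Agent.Lib.Helper8.Su11
import Cfsg.Agent.Lib.Helper2.SpInvC

set_option autoImplicit false
set_option linter.unusedSectionVars false
set_option linter.unusedVariables false
open Cfsg

/-! The derangement for `n = r`, `r² ∣ q₀ - 1`, and the derangement with non-square scalar square
in odd characteristic when `(q-1)_2 < n_2`. -/

namespace Cfsg.Agent.Lib.Helper8.Su

open Matrix Module Kronecker
open Cfsg.Agent.Lib.Helper5 Cfsg.Agent.Lib.Helper2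

universe u

variable {F : Type u} [Field F] [Fintype F] {q₀ : ℕ} (hF : Fintype.card F = q₀ ^ 2) {n : ℕ}
  {f : (Fin n → F) → (Fin n → F) → F} (hf : Cfsg.Geo.IsUnitaryFormPow q₀ f)

include hF hf in
theorem derange_B (r : ℕ) [hr : Fact r.Prime] (hr2 : r ≠ 2) (hrr : r * r ∣ q₀ - 1) (hq₀ : 2 ≤ q₀)
    (hn : n = r) :
    ∃ x ∈ Cfsg.Geo.specialLinear (Fin n) F,
      (∃ z : F, ((x ^ r : GL (Fin n) F) : Matrix (Fin n) (Fin n) F) =
        z • (1 : Matrix (Fin n) (Fin n) F)) ∧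
      ∀ g : GL (Fin n) F, g⁻¹ * x * g ∉ Cfsg.Geo.similarityGroup f := by
  have hr3 : 3 ≤ r := by
    have := hr.out.two_le
    omega
  obtain ⟨m, rfl⟩ : ∃ m, n = m + 1 := ⟨n - 1, by omega⟩
  have hm : 2 ≤ m := by omega
  obtain ⟨ρ, hρ0, hρ⟩ := exists_rho (F := F) r (dvd_card_sub_one (r * r) hrr (by omega) hF)
  set ω : F := ρ ^ r with hωdef
  have hω1 : ω ^ r = 1 := by
    have := pow_orderOf_eq_one ω
    rwa [hρ] at this
  have hω0 : ω ≠ 0 := pow_ne_zero _ hρ0
  have hωne : ω ≠ 1 := by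
    intro h
    rw [h, orderOf_one] at hρ
    omega
  have hω2 : ω * ω ≠ 1 := by
    intro h
    have h1 : orderOf ω ∣ 2 := orderOf_dvd_of_pow_eq_one (by rw [sq]; exact h)
    rw [hρ] at h1
    have := Nat.le_of_dvd two_pos h1
    omega
  have hr1 : r ∣ q₀ - 1 := dvd_of_mul_left_dvd hrr
  have hωq := pow_eq_of_dvd_sub_one ω r hω1 hr1 (by omega)
  have hd : ∀ i, dB ρ ω m i ≠ 0 :=
    cons_forall (P := fun x => x ≠ 0) _ _ (mul_ne_zero hρ0 (inv_ne_zero hω0)) (fun _ => hρ0)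
  refine derange_diag hF hf (by omega) (dB ρ ω m) hd ?_ r ω ?_ ?_
  · unfold dB
    rw [prod_cons, Finset.prod_const, Finset.card_univ, Fintype.card_fin]
    have : ρ * ω⁻¹ * ρ ^ m = ρ ^ (m + 1) * ω⁻¹ := by ring
    rw [this, hn, ← hωdef, mul_inv_cancel₀ hω0]
  · have h1 : (ρ * ω⁻¹) ^ r = ω := by
      rw [mul_pow, inv_pow, hω1, inv_one, mul_one]
    exact cons_forall (P := fun x => x ^ r = ω) _ _ h1 (fun _ => rfl)
  · intro c _ _
    exact bad_B ρ ω hρ0 hω0 hωne hω2 hωq m hm c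

section two

/-- the `2 × 2` companion block -/
def blockC (z : F) : Matrix (Fin 2) (Fin 2) F := !![0, z; 1, 0]

omit [Fintype F] in
theorem blockC_mul (z : F) : blockC z * blockC z = z • (1 : Matrix (Fin 2) (Fin 2) F) := by
  unfold blockC
  ext i j
  fin_cases i <;> fin_cases j <;> simp [Matrix.mul_apply, Fin.sum_univ_two]

omit [Fintype F] in
theorem det_blockC (z : F) : (blockC z).det = -z := by
  unfold blockC
  rw [Matrix.det_fin_two_of]
  ring

/-- the block-diagonal matrix with `k` blocks `blockC z` -/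
noncomputable def blockM (k : ℕ) (z : F) : Matrix (Fin (k * 2)) (Fin (k * 2)) F :=
  Matrix.reindexAlgEquiv F F finProdFinEquiv ((1 : Matrix (Fin k) (Fin k) F) ⊗ₖ blockC z)

omit [Fintype F] in
theorem blockM_mul (k : ℕ) (z : F) :
    blockM k z * blockM k z = z • (1 : Matrix (Fin (k * 2)) (Fin (k * 2)) F) := by
  unfold blockM
  rw [← map_mul, ← Matrix.mul_kronecker_mul, blockC_mul, Matrix.one_mul, Matrix.kronecker_smul,
    Matrix.one_kronecker_one, map_smul, map_one]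

omit [Fintype F] in
theorem det_blockM (k : ℕ) (z : F) : (blockM k z).det = (-z) ^ k := by
  unfold blockM
  rw [Matrix.det_reindexAlgEquiv, Matrix.det_kronecker, Matrix.det_one, one_pow, one_mul,
    det_blockC, Fintype.card_fin]

include hF hf in
theorem derange_two (h2 : (2 : F) ≠ 0) (hn : 1 ≤ n)
    (hv : padicValNat 2 (Fintype.card F - 1) < padicValNat 2 n) :
    ∃ x ∈ Cfsg.Geo.specialLinear (Fin n) F,
      (∃ z : F, ((x ^ 2 : GL (Fin n) F) : Matrix (Fin n) (Fin n) F) =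
        z • (1 : Matrix (Fin n) (Fin n) F)) ∧
      ∀ g : GL (Fin n) F, g⁻¹ * x * g ∉ Cfsg.Geo.similarityGroup f := by
  classical
  have hchar : ringChar F ≠ 2 := by
    intro h
    apply h2
    have := ringChar.Nat.cast_ringChar (R := F)
    rw [h] at this
    exact_mod_cast this
  have hoddF := FiniteField.odd_card_of_char_ne_two hchar
  have hcard : 2 ≤ Fintype.card F := Fintype.one_lt_card
  obtain ⟨j, hj⟩ : ∃ j, q₀ = 2 * j + 1 := by
    rcases Nat.even_or_odd q₀ with ⟨j, hj⟩ | ⟨j, hj⟩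
    · exfalso
      have : q₀ ^ 2 = 2 * (2 * j * j) := by rw [hj]; ring
      rw [hF] at hoddF
      omega
    · exact ⟨j, hj⟩
  have hhalf : Fintype.card F / 2 = (q₀ + 1) * j := by
    have hq : q₀ ^ 2 = 2 * ((q₀ + 1) * j) + 1 := by rw [hj]; ring
    rw [hF, hq]
    omega
  have heven : Even (Fintype.card F / 2) := by
    rw [hhalf, hj]
    exact ⟨(j + 1) * j, by ring⟩
  set Q := Fintype.card F - 1 with hQ
  have hQ0 : Q ≠ 0 := by omega
  set b := padicValNat 2 Q with hb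
  have hb1 : 1 ≤ b := by
    have : 2 ∣ Q := by omega
    exact one_le_padicValNat_of_dvd hQ0 this
  -- `Q = 2^b * m'` with `m'` odd
  obtain ⟨m', hm'⟩ : 2 ^ b ∣ Q := pow_padicValNat_dvd
  have hm'odd : Odd m' := by
    rw [← Nat.not_even_iff_odd]
    rintro ⟨t, ht⟩
    have : 2 ^ (b + 1) ∣ Q := ⟨t, by rw [hm', ht, pow_succ]; ring⟩
    exact pow_succ_padicValNat_not_dvd hQ0 this
  have hhalf2 : Fintype.card F / 2 = 2 ^ (b - 1) * m' := by
    have h1 : Q = 2 * (2 ^ (b - 1) * m') := by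
      rw [hm', ← mul_assoc, ← pow_succ']
      congr 2
      omega
    omega
  obtain ⟨w, hw⟩ := SpInv.exists_root_neg_one (F := F) (2 ^ (b - 1)) (by positivity) (by
    rw [padicValNat.prime_pow]
    show b - 1 < b
    omega)
  set z : F := -w with hz
  have hzE : z ^ (Fintype.card F / 2) = -1 := by
    rw [hz, Even.neg_pow heven, hhalf2, pow_mul, hw, Odd.neg_one_pow hm'odd]
  have hw2 : w ^ (2 ^ b) = 1 := by
    have : 2 ^ b = 2 ^ (b - 1) * 2 := by rw [← pow_succ]; congr 1; omega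
    rw [this, pow_mul, hw]
    norm_num
  -- `n = k * 2` with `2^b ∣ k`
  have hn0 : n ≠ 0 := by omega
  have h2n : 2 ^ (b + 1) ∣ n := (padicValNat_dvd_iff_le hn0).mpr hv
  obtain ⟨k', hk'⟩ := h2n
  obtain ⟨k, hk⟩ : ∃ k, n = k * 2 ∧ k = 2 ^ b * k' := ⟨2 ^ b * k', by rw [hk', pow_succ]; ring, rfl⟩
  obtain ⟨hnk, hkk⟩ := hk
  subst hnk
  have hzk : (-z) ^ k = 1 := by
    rw [hz, neg_neg, hkk, pow_mul, hw2, one_pow]
  have hdet : (blockM k z).det = 1 := by rw [det_blockM, hzk]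
  let x : GL (Fin (k * 2)) F := Matrix.GeneralLinearGroup.mkOfDetNeZero (blockM k z)
    (by rw [hdet]; exact one_ne_zero)
  have hxval : (x : Matrix (Fin (k * 2)) (Fin (k * 2)) F) = blockM k z := rfl
  have hx2 : ((x ^ 2 : GL (Fin (k * 2)) F) : Matrix (Fin (k * 2)) (Fin (k * 2)) F) =
      z • (1 : Matrix (Fin (k * 2)) (Fin (k * 2)) F) := by
    rw [Units.val_pow_eq_pow_val, hxval, sq, blockM_mul]
  refine ⟨x, ?_, ⟨z, hx2⟩, ?_⟩
  · unfold Cfsg.Geo.specialLinear
    rw [MonoidHom.mem_ker]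
    apply Units.ext
    rw [Matrix.GeneralLinearGroup.val_det_apply, hxval, hdet, Units.val_one]
  · rintro g ⟨c, hc⟩
    set y := g⁻¹ * x * g with hy
    have hy2 : ((y ^ 2 : GL (Fin (k * 2)) F) : Matrix (Fin (k * 2)) (Fin (k * 2)) F) =
        z • (1 : Matrix (Fin (k * 2)) (Fin (k * 2)) F) := by
      have h1 : y = g⁻¹ * x * (g⁻¹)⁻¹ := by rw [inv_inv]
      rw [h1, conj_pow, inv_inv, Units.val_mul, Units.val_mul, hx2, Matrix.mul_smul,
        Matrix.mul_one, Matrix.smul_mul, ← Units.val_mul, inv_mul_cancel, Units.val_one]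
    obtain ⟨u₀, v₀, huv⟩ := exists_ne_zero hf hn
    have h3 := mult_pow hc 2 u₀ v₀
    rw [hy2, Matrix.smul_mulVec, Matrix.one_mulVec, Matrix.smul_mulVec, Matrix.one_mulVec,
      hf.smul_left, UnitaryFormTwo.u_smul_right hf, ← mul_assoc] at h3
    have h4 : z * z ^ q₀ = (c : F) ^ 2 := mul_right_cancel₀ huv h3
    have h5 := mult_fixed hf hn hc
    have h6 : (c : F) ^ (2 * j) = 1 := by
      have h7 : (c : F) ^ (2 * j) * (c : F) = 1 * (c : F) := by
        rw [← pow_succ, one_mul, ← hj]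
        exact h5
      exact mul_right_cancel₀ c.ne_zero h7
    have h8 : z ^ (Fintype.card F / 2) = 1 := by
      rw [hhalf, pow_mul, pow_succ', h4, ← pow_mul]
      exact h6
    rw [hzE] at h8
    have : (2 : F) = 0 := by linear_combination -h8
    exact h2 this

end two

end Cfsg.Agent.Lib.Helper8.Su
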