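import Mathlib
import Cfsg.Prelude
import Cfsg.Agent.Lib.Helper8.Su4

set_option autoImplicit false
set_option linter.unusedSectionVars false
set_option linter.unusedVariables false
open Cfsg

/-! The unitary form attached to a basis and an involution of its index set; conjugating a
similarity of such a form into the similarity group of a given unitary form by an element of
determinant one. -/

namespace Cfsg.Agent.Lib.Helper8.Su

open Matrix Module
open Cfsg.Agent.Lib.Helper5

variable {F : Type*} [Field F]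

section coord
variable {V : Type*} [AddCommGroup V] [Module F V] {ι : Type*}

theorem coord_eigen (b : Basis ι F V) (y : Module.End F V) (d : ι → F)
    (hy : ∀ i, y (b i) = d i • b i) (i : ι) (u : V) :
    b.coord i (y u) = d i * b.coord i u := by
  classical
  have h : (b.coord i) ∘ₗ y = d i • b.coord i := by
    apply b.ext
    intro j
    rw [LinearMap.comp_apply, hy, map_smul, LinearMap.smul_apply, Basis.coord_apply,
      Basis.repr_self, Finsupp.single_apply, smul_eq_mul, smul_eq_mul]
    by_cases hji : j = i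
    · rw [hji]
    · rw [if_neg hji, mul_zero, mul_zero]
  have h1 := LinearMap.congr_fun h u
  rw [LinearMap.comp_apply, LinearMap.smul_apply, smul_eq_mul] at h1
  exact h1

theorem coord_perm (b : Basis ι F V) (y : Module.End F V) (τ : ι → ι) (hτ : ∀ i, τ (τ i) = i)
    (hy : ∀ i, y (b i) = b (τ i)) (i : ι) (u : V) :
    b.coord i (y u) = b.coord (τ i) u := by
  classical
  have h : (b.coord i) ∘ₗ y = b.coord (τ i) := by
    apply b.ext
    intro j
    rw [LinearMap.comp_apply, hy, Basis.coord_apply, Basis.coord_apply, Basis.repr_self,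
      Basis.repr_self, Finsupp.single_apply, Finsupp.single_apply]
    by_cases hji : τ j = i
    · rw [if_pos hji, if_pos (by rw [← hji, hτ])]
    · rw [if_neg hji, if_neg (fun h => hji (by rw [h, hτ]))]
  have h1 := LinearMap.congr_fun h u
  rw [LinearMap.comp_apply] at h1
  exact h1

end coord

variable [Fintype F] {q₀ : ℕ} (hF : Fintype.card F = q₀ ^ 2) {n : ℕ}
  {ι : Type} [Fintype ι]

/-- the form `Σ u_i (v_{τ i})^{q₀}` in the coordinates of a basis -/
noncomputable def stdForm (q₀ : ℕ) (b : Basis ι F (Fin n → F)) (τ : ι → ι)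
    (u v : Fin n → F) : F :=
  ∑ i, b.coord i u * (b.coord (τ i) v) ^ q₀

include hF in
theorem stdForm_unitary (b : Basis ι F (Fin n → F)) (τ : ι → ι) (hτ : ∀ i, τ (τ i) = i) :
    Cfsg.Geo.IsUnitaryFormPow q₀ (stdForm q₀ b τ) := by
  classical
  have herm : ∀ v w, stdForm q₀ b τ v w = (stdForm q₀ b τ w v) ^ q₀ := by
    intro v w
    unfold stdForm
    rw [← HermBridge.sigma_apply hF, map_sum]
    rw [← Equiv.sum_comp (⟨τ, τ, hτ, hτ⟩ : ι ≃ ι)]
    refine Finset.sum_congr rfl fun i _ => ?_
    have e1 : ∀ a : F, HermBridge.sigma hF (a ^ q₀) = a := by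
      intro a
      rw [← HermBridge.sigma_apply hF a, HermBridge.sigma_sigma]
    rw [Equiv.coe_fn_mk, map_mul, e1, HermBridge.sigma_apply, hτ, mul_comm]
  have nd1 : ∀ v : Fin n → F, v ≠ 0 → ∃ x, stdForm q₀ b τ x v ≠ 0 := by
    intro v hv
    have hex : ∃ j, b.coord j v ≠ 0 := by
      by_contra hno
      push Not at hno
      apply hv
      apply b.ext_elem
      intro i
      rw [map_zero, Finsupp.zero_apply]
      exact hno i
    obtain ⟨j, hj⟩ := hex
    refine ⟨b (τ j), ?_⟩
    unfold stdForm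
    rw [Finset.sum_eq_single (τ j)]
    · rw [Basis.coord_apply, Basis.repr_self, Finsupp.single_apply, if_pos rfl, one_mul, hτ]
      exact pow_ne_zero _ hj
    · intro i _ hi
      rw [Basis.coord_apply, Basis.repr_self, Finsupp.single_apply, if_neg (Ne.symm hi), zero_mul]
    · intro h
      exact absurd (Finset.mem_univ _) h
  refine ⟨?_, ?_, herm, ?_⟩
  · intro x y v
    unfold stdForm
    rw [← Finset.sum_add_distrib]
    refine Finset.sum_congr rfl fun i _ => ?_
    rw [map_add, add_mul]
  · intro c x v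
    unfold stdForm
    rw [Finset.mul_sum]
    refine Finset.sum_congr rfl fun i _ => ?_
    rw [map_smul, smul_eq_mul, mul_assoc]
  · intro v hv
    obtain ⟨x, hx⟩ := nd1 v hv
    refine ⟨⟨x, hx⟩, ⟨x, ?_⟩⟩
    rw [herm]
    exact pow_ne_zero _ hx

omit [Fintype F] in
theorem stdForm_diag (b : Basis ι F (Fin n → F)) (τ : ι → ι) (y : Module.End F (Fin n → F))
    (d : ι → F) (hy : ∀ i, y (b i) = d i • b i) (c : F)
    (hc : ∀ i, d i * (d (τ i)) ^ q₀ = c) (u v : Fin n → F) :
    stdForm q₀ b τ (y u) (y v) = c * stdForm q₀ b τ u v := by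
  unfold stdForm
  rw [Finset.mul_sum]
  refine Finset.sum_congr rfl fun i _ => ?_
  rw [coord_eigen b y d hy, coord_eigen b y d hy, mul_pow, ← hc i]
  ring

omit [Fintype F] in
theorem stdForm_perm (b : Basis ι F (Fin n → F)) (τ : ι → ι) (hτ : ∀ i, τ (τ i) = i)
    (y : Module.End F (Fin n → F)) (hy : ∀ i, y (b i) = b (τ i)) (u v : Fin n → F) :
    stdForm q₀ b τ (y u) (y v) = stdForm q₀ b τ u v := by
  unfold stdForm
  rw [← Equiv.sum_comp (⟨τ, τ, hτ, hτ⟩ : ι ≃ ι)]
  refine Finset.sum_congr rfl fun i _ => ?_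
  rw [Equiv.coe_fn_mk, coord_perm b y τ hτ hy, coord_perm b y τ hτ hy, hτ]

variable {f : (Fin n → F) → (Fin n → F) → F} (hf : Cfsg.Geo.IsUnitaryFormPow q₀ f)

include hF hf in
/-- a similarity of some unitary form with centralising elements of every determinant is conjugate
under `SL` to a similarity of the given form -/
theorem conj_into {f' : (Fin n → F) → (Fin n → F) → F}
    (hf' : Cfsg.Geo.IsUnitaryFormPow q₀ f') (x : GL (Fin n) F) (c : F) (hc : c ≠ 0)
    (hsim : ∀ u v : Fin n → F, f' ((x : Matrix (Fin n) (Fin n) F) *ᵥ u)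
      ((x : Matrix (Fin n) (Fin n) F) *ᵥ v) = c * f' u v)
    (hcent : ∀ δ : F, δ ≠ 0 → ∃ h : Module.End F (Fin n → F),
      h * Matrix.toLin' (x : Matrix (Fin n) (Fin n) F) =
        Matrix.toLin' (x : Matrix (Fin n) (Fin n) F) * h ∧ LinearMap.det h = δ) :
    ∃ g ∈ Cfsg.Geo.specialLinear (Fin n) F, g⁻¹ * x * g ∈ Cfsg.Geo.similarityGroup f := by
  obtain ⟨T, hT⟩ := exists_equiv hF hf hf'
  have hx' : x ∈ Cfsg.Geo.similarityGroup f' := ⟨Units.mk0 c hc, hsim⟩
  have h1 : T * x * T⁻¹ ∈ Cfsg.Geo.similarityGroup f := sim_of_equiv T hT hx'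
  have hdT : (T : Matrix (Fin n) (Fin n) F).det ≠ 0 := by
    have := T.isUnit.map (Matrix.detMonoidHom : Matrix (Fin n) (Fin n) F →* F)
    exact this.ne_zero
  obtain ⟨h, hcomm, hdet⟩ := hcent _ hdT
  set Hm : Matrix (Fin n) (Fin n) F := LinearMap.toMatrix' h with hHm
  have hHdet : Hm.det = (T : Matrix (Fin n) (Fin n) F).det := by
    rw [hHm, LinearMap.det_toMatrix', hdet]
  let H : GL (Fin n) F := Matrix.GeneralLinearGroup.mkOfDetNeZero Hm (by rw [hHdet]; exact hdT)
  have hHval : (H : Matrix (Fin n) (Fin n) F) = Hm := rfl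
  have hHx : H * x = x * H := by
    apply Units.ext
    rw [Units.val_mul, Units.val_mul, hHval]
    apply Matrix.toLin'.injective
    rw [Matrix.toLin'_mul, Matrix.toLin'_mul, hHm, Matrix.toLin'_toMatrix']
    exact hcomm
  refine ⟨H * T⁻¹, ?_, ?_⟩
  · unfold Cfsg.Geo.specialLinear
    rw [MonoidHom.mem_ker]
    apply Units.ext
    rw [Matrix.GeneralLinearGroup.val_det_apply, Units.val_mul, Matrix.det_mul, hHval, hHdet,
      ← Matrix.det_mul, ← Units.val_mul, mul_inv_cancel, Units.val_one, Matrix.det_one,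
      Units.val_one]
  · have h2 : (H * T⁻¹)⁻¹ * x * (H * T⁻¹) = T * x * T⁻¹ := by
      have h3 : H⁻¹ * x * H = x := by
        rw [mul_assoc, ← hHx, ← mul_assoc, inv_mul_cancel, one_mul]
      have h4 : (H * T⁻¹)⁻¹ * x * (H * T⁻¹) = T * (H⁻¹ * x * H) * T⁻¹ := by
        simp only [_root_.mul_inv_rev, inv_inv, mul_assoc]
      rw [h4, h3]
    rw [h2]
    exact h1

omit [Fintype F] in
/-- centralising elements of every determinant for an operator with an eigenbasis -/
theorem cent_of_eigenbasis {V : Type*} [AddCommGroup V] [Module F V] (b : Basis ι F V)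
    (y : Module.End F V) (d : ι → F) (hy : ∀ i, y (b i) = d i • b i) (i₀ : ι) (δ : F) :
    ∃ h : Module.End F V, h * y = y * h ∧ LinearMap.det h = δ := by
  classical
  let e : ι → F := fun i => if i = i₀ then δ else 1
  let h : Module.End F V := b.constr F (fun i => e i • b i)
  have hh : ∀ i, h (b i) = e i • b i := fun i => b.constr_basis F _ i
  refine ⟨h, ?_, ?_⟩
  · apply b.ext
    intro i
    rw [Module.End.mul_apply, Module.End.mul_apply, hy, map_smul, hh, map_smul, hy, smul_comm]
  · have hM : LinearMap.toMatrix b b h = Matrix.diagonal e := by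
      ext i j
      rw [LinearMap.toMatrix_apply, hh, map_smul, Basis.repr_self, Finsupp.smul_apply,
        Finsupp.single_apply, Matrix.diagonal_apply, smul_eq_mul]
      by_cases hij : i = j
      · rw [if_pos hij, if_pos hij.symm, mul_one, hij]
      · rw [if_neg hij, if_neg (Ne.symm hij), mul_zero]
    rw [← LinearMap.det_toMatrix b, hM, Matrix.det_diagonal]
    simp [e, Finset.prod_ite_eq']

end Cfsg.Agent.Lib.Helper8.Su
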