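import Mathlib
import Cfsg.Prelude
import Cfsg.Agent.Lib.Helper8.Su5
import Cfsg.Agent.Lib.Helper2.SpInvB
import Cfsg.Agent.Lib.Helper2.SfrF

set_option autoImplicit false
set_option linter.unusedSectionVars false
set_option linter.unusedVariables false
open Cfsg

/-! Involutions in characteristic two permute a basis; elements of `GL_n(q₀²)`, `q₀` even, with
scalar square are `SL`-conjugate into the similarity group of any unitary form. -/

namespace Cfsg.Agent.Lib.Helper8.Su

open Matrix Module
open Cfsg.Agent.Lib.Helper5 Cfsg.Agent.Lib.Helper2 Cfsg.Agent.Lib.Helper5.UnitaryFormTwo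

universe u v

theorem exists_perm_basis {F : Type u} [Field F] (h2 : (2 : F) = 0) :
    ∀ (N : ℕ) (V : Type v) [AddCommGroup V] [Module F V] [FiniteDimensional F V]
      (t : Module.End F V), (∀ u, t (t u) = u) → finrank F V = N →
      ∃ (ι : Type) (_ : Fintype ι) (b : Basis ι F V) (τ : ι → ι),
        (∀ i, τ (τ i) = i) ∧ ∀ i, t (b i) = b (τ i) := by
  intro N
  induction N using Nat.strong_induction_on with
  | _ N ih =>
    intro V _ _ _ t ht hfin
    by_cases hfix : ∀ u, t u = u
    · exact ⟨Fin (finrank F V), inferInstance, Module.finBasis F V, id, fun _ => rfl,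
        fun i => hfix _⟩
    · push Not at hfix
      obtain ⟨f, hf⟩ := hfix
      have h11 : (1 : F) + 1 = 0 := by rw [one_add_one_eq_two, h2]
      have hneg : (-(1 * 1) : F) = 1 := by
        rw [mul_one]
        exact neg_eq_of_add_eq_zero_left h11
      have hrel : ∀ u, t (t u) = ((1 : F) + 1) • t u + (-(1 * 1) : F) • u := by
        intro u
        rw [h11, zero_smul, zero_add, hneg, one_smul, ht]
      have hli := SpInv.li_of_not_eigen t 1 hrel f (by rwa [one_smul])
      have hrel' : ∀ u, t (t u) = (0 : F) • t u + (1 : F) • u := by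
        intro u
        rw [zero_smul, zero_add, one_smul, ht]
      obtain ⟨P, C, hPC, hP, hC, a, b, hfP, hli', hTa, hTb, -⟩ :=
        SpInv.quad_split t 0 1 hrel' one_ne_zero f hli
      have htC : ∀ u, (t.restrict hC) ((t.restrict hC) u) = u := by
        intro u
        apply Subtype.ext
        rw [LinearMap.restrict_coe_apply, LinearMap.restrict_coe_apply, ht]
      have hfinC : finrank F C < N := by
        have h1 := Submodule.finrank_add_eq_of_isCompl hPC
        omega
      obtain ⟨ι₂, _, b₂, τ₂, hτ₂, hb₂⟩ := ih (finrank F C) hfinC C (t.restrict hC) htC rfl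
      obtain ⟨b₁, hb10, hb11⟩ := SpInv.plane_basis a b hli' hfP
      obtain ⟨bb, hbl, hbr⟩ := Sfr.glue_basis hPC b₁ b₂
      have hta : t (a : V) = (b : V) := by
        have := congrArg Subtype.val hTa
        rw [LinearMap.restrict_coe_apply] at this
        rw [this, zero_smul, zero_add, one_smul]
      have htb : t (b : V) = (a : V) := by
        have := congrArg Subtype.val hTb
        rw [LinearMap.restrict_coe_apply] at this
        rw [this, zero_smul, add_zero, one_smul]
      refine ⟨Fin 2 ⊕ ι₂, inferInstance, bb, Sum.map Fin.rev τ₂, ?_, ?_⟩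
      · rintro (j | j)
        · rw [Sum.map_inl, Sum.map_inl, Fin.rev_rev]
        · rw [Sum.map_inr, Sum.map_inr, hτ₂]
      · rintro (j | j)
        · rw [Sum.map_inl, hbl, hbl]
          fin_cases j
          · show t (b₁ 0 : V) = (b₁ (Fin.rev 0) : V)
            have : Fin.rev (0 : Fin 2) = 1 := by decide
            rw [this, hb10, hb11, hta]
          · show t (b₁ 1 : V) = (b₁ (Fin.rev 1) : V)
            have : Fin.rev (1 : Fin 2) = 0 := by decide
            rw [this, hb10, hb11, htb]
        · rw [Sum.map_inr, hbr, hbr]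
          have h1 := congrArg Subtype.val (hb₂ j)
          rw [LinearMap.restrict_coe_apply] at h1
          exact h1

variable {F : Type u} [Field F] [Fintype F] {q₀ : ℕ} (hF : Fintype.card F = q₀ ^ 2) {n : ℕ}
  {f : (Fin n → F) → (Fin n → F) → F} (hf : Cfsg.Geo.IsUnitaryFormPow q₀ f)

omit [Fintype F] in
theorem scalar_ne_zero (x : GL (Fin n) F) (z : F)
    (hx2 : ((x ^ 2 : GL (Fin n) F) : Matrix (Fin n) (Fin n) F) = z • (1 : Matrix (Fin n) (Fin n) F))
    (hns : ∀ z' : F, (x : Matrix (Fin n) (Fin n) F) ≠ z' • (1 : Matrix (Fin n) (Fin n) F)) :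
    z ≠ 0 := by
  intro hz
  rw [hz, zero_smul] at hx2
  have h1 : (1 : Matrix (Fin n) (Fin n) F) = 0 := by
    have := congrArg (fun M => M * (((x ^ 2)⁻¹ : GL (Fin n) F) : Matrix (Fin n) (Fin n) F)) hx2
    simp only [zero_mul] at this
    rw [← Units.val_mul, mul_inv_cancel, Units.val_one] at this
    exact this
  apply hns 0
  rw [zero_smul, ← Matrix.mul_one (x : Matrix (Fin n) (Fin n) F), h1, Matrix.mul_zero]

omit [Fintype F] in
theorem toLin_sq (x : GL (Fin n) F) (z : F)
    (hx2 : ((x ^ 2 : GL (Fin n) F) : Matrix (Fin n) (Fin n) F) = z • (1 : Matrix (Fin n) (Fin n) F))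
    (u : Fin n → F) :
    Matrix.toLin' (x : Matrix (Fin n) (Fin n) F) (Matrix.toLin' (x : Matrix (Fin n) (Fin n) F) u) =
      z • u := by
  rw [Matrix.toLin'_apply, Matrix.toLin'_apply, Matrix.mulVec_mulVec, ← sq,
    ← Units.val_pow_eq_pow_val, hx2, Matrix.smul_mulVec, Matrix.one_mulVec]

omit [Fintype F] in
theorem exists_not_eigen (x : GL (Fin n) F) (w : F)
    (hns : (x : Matrix (Fin n) (Fin n) F) ≠ w • (1 : Matrix (Fin n) (Fin n) F)) :
    ∃ v : Fin n → F, Matrix.toLin' (x : Matrix (Fin n) (Fin n) F) v ≠ w • v := by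
  by_contra hno
  push Not at hno
  apply hns
  apply Matrix.toLin'.injective
  apply LinearMap.ext
  intro v
  rw [hno v, Matrix.toLin'_apply, Matrix.smul_mulVec, Matrix.one_mulVec]

include hF hf in
/-- characteristic two: every non-scalar element with scalar square is `SL`-conjugate into the
similarity group -/
theorem conj_two_even (h2 : (2 : F) = 0) (x : GL (Fin n) F) (z : F)
    (hx2 : ((x ^ 2 : GL (Fin n) F) : Matrix (Fin n) (Fin n) F) = z • (1 : Matrix (Fin n) (Fin n) F))
    (hns : ∀ z' : F, (x : Matrix (Fin n) (Fin n) F) ≠ z' • (1 : Matrix (Fin n) (Fin n) F)) :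
    ∃ g ∈ Cfsg.Geo.specialLinear (Fin n) F, g⁻¹ * x * g ∈ Cfsg.Geo.similarityGroup f := by
  classical
  have hz := scalar_ne_zero x z hx2 hns
  have hchar : ringChar F = 2 :=
    CharP.ringChar_of_prime_eq_zero Nat.prime_two (by exact_mod_cast h2)
  have hsq : ∀ δ : F, ∃ ε : F, ε * ε = δ := by
    intro δ
    obtain ⟨ε, hε⟩ := FiniteField.isSquare_of_char_two hchar δ
    exact ⟨ε, hε.symm⟩
  obtain ⟨w, hw⟩ := hsq z
  have hw0 : w ≠ 0 := by
    intro h
    rw [h, mul_zero] at hw
    exact hz hw.symm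
  have hww : w + w = 0 := by rw [← two_mul, h2, zero_mul]
  have hnegw : -(w * w) = w * w := by
    have : w * w + w * w = 0 := by rw [← two_mul, h2, zero_mul]
    exact neg_eq_of_add_eq_zero_left this
  set y : Module.End F (Fin n → F) := Matrix.toLin' (x : Matrix (Fin n) (Fin n) F) with hy
  have hyy : ∀ u, y (y u) = (w * w) • u := by
    intro u
    rw [hw]
    exact toLin_sq x z hx2 u
  set t : Module.End F (Fin n → F) := w⁻¹ • y with ht
  have htt : ∀ u, t (t u) = u := by
    intro u
    rw [ht, LinearMap.smul_apply, LinearMap.smul_apply, map_smul, hyy, smul_smul, smul_smul]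
    have : w⁻¹ * w⁻¹ * (w * w) = 1 := by field_simp
    rw [this, one_smul]
  obtain ⟨ι, hι, b, τ, hτ, hb⟩ := exists_perm_basis h2 n (Fin n → F) t htt (Module.finrank_fin_fun F)
  have hyt : ∀ u, y u = w • t u := by
    intro u
    rw [ht, LinearMap.smul_apply, smul_smul, mul_inv_cancel₀ hw0, one_smul]
  have hf' := stdForm_unitary hF b τ hτ
  have hsim : ∀ u v : Fin n → F, stdForm q₀ b τ ((x : Matrix (Fin n) (Fin n) F) *ᵥ u)
      ((x : Matrix (Fin n) (Fin n) F) *ᵥ v) = (w * w ^ q₀) * stdForm q₀ b τ u v := by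
    intro u v
    rw [← Matrix.toLin'_apply, ← Matrix.toLin'_apply, ← hy, hyt, hyt, hf'.smul_left,
      u_smul_right hf', stdForm_perm b τ hτ t hb]
    ring
  have hrel : ∀ u, y (y u) = (w + w) • y u + (-(w * w)) • u := by
    intro u
    rw [hww, zero_smul, zero_add, hnegw, hyy]
  obtain ⟨v₀, hv₀⟩ := exists_not_eigen x w (hns w)
  exact conj_into hF hf hf' x (w * w ^ q₀) (mul_ne_zero hw0 (pow_ne_zero _ hw0)) hsim
    (fun δ _ => SpInv.cent_quad_A y w hw0 hrel v₀ hv₀ hsq δ)

end Cfsg.Agent.Lib.Helper8.Su
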