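import Mathlib
import Cfsg.Prelude
import Cfsg.Agent.Lib.Helper8.Su6
import Cfsg.Agent.Lib.Helper2.ElusB
import Cfsg.Agent.Lib.Helper7.OQ6

set_option autoImplicit false
set_option linter.unusedSectionVars false
set_option linter.unusedVariables false
open Cfsg

/-! Odd characteristic: elements of `SL_n(q₀²)` with scalar square are `SL`-conjugate into the
similarity group of any unitary form when `n_2 ≤ (q-1)_2`. -/

namespace Cfsg.Agent.Lib.Helper8.Su

open Matrix Module
open Cfsg.Agent.Lib.Helper5 Cfsg.Agent.Lib.Helper2 Cfsg.Agent.Lib.Helper5.UnitaryFormTwo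

universe u

variable {F : Type u} [Field F] [Fintype F]

theorem pow_half_eq_one (hc : ringChar F ≠ 2) (a : F) (ha : a ≠ 0) (k : ℕ) (hk : 0 < k)
    (hak : a ^ k = 1) (hv : padicValNat 2 k < padicValNat 2 (Fintype.card F - 1)) :
    a ^ (Fintype.card F / 2) = 1 := by
  have hodd := FiniteField.odd_card_of_char_ne_two hc
  set Q := Fintype.card F - 1 with hQdef
  have hQ : a ^ Q = 1 := FiniteField.pow_card_sub_one_eq_one a ha
  have hcard : 2 ≤ Fintype.card F := Fintype.one_lt_card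
  have hQ2 : Q = 2 * (Fintype.card F / 2) := by omega
  have hQ0 : Q ≠ 0 := by omega
  set g := Nat.gcd k Q with hg
  have hag : a ^ g = 1 := pow_gcd_eq_one.mpr ⟨hak, hQ⟩
  have hgdvd : g ∣ Fintype.card F / 2 := by
    obtain ⟨m, hm⟩ : g ∣ Q := Nat.gcd_dvd_right k Q
    rcases Nat.even_or_odd m with ⟨m₁, hm₁⟩ | hmo
    · refine ⟨m₁, ?_⟩
      apply Nat.eq_of_mul_eq_mul_left two_pos
      rw [← hQ2, hm, hm₁]
      ring
    · exfalso
      have h1 : 2 ^ (padicValNat 2 k + 1) ∣ Q := (padicValNat_dvd_iff_le hQ0).mpr hv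
      rw [hm] at h1
      have hcop : Nat.Coprime (2 ^ (padicValNat 2 k + 1)) m :=
        Nat.Coprime.pow_left _ (Nat.coprime_two_left.mpr hmo)
      have h2 : 2 ^ (padicValNat 2 k + 1) ∣ g := hcop.dvd_of_dvd_mul_right h1
      have h3 : 2 ^ (padicValNat 2 k + 1) ∣ k := h2.trans (Nat.gcd_dvd_left k Q)
      exact pow_succ_padicValNat_not_dvd hk.ne' h3
  obtain ⟨m, hm⟩ := hgdvd
  rw [hm, pow_mul, hag, one_pow]

variable {q₀ : ℕ} (hF : Fintype.card F = q₀ ^ 2) {n : ℕ}
  {f : (Fin n → F) → (Fin n → F) → F} (hf : Cfsg.Geo.IsUnitaryFormPow q₀ f)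

include hF hf in
theorem conj_two_odd (h2 : (2 : F) ≠ 0) (hn : 1 ≤ n)
    (hv : padicValNat 2 n ≤ padicValNat 2 (Fintype.card F - 1)) (x : GL (Fin n) F)
    (hx : x ∈ Cfsg.Geo.specialLinear (Fin n) F) (z : F)
    (hx2 : ((x ^ 2 : GL (Fin n) F) : Matrix (Fin n) (Fin n) F) = z • (1 : Matrix (Fin n) (Fin n) F))
    (hns : ∀ z' : F, (x : Matrix (Fin n) (Fin n) F) ≠ z' • (1 : Matrix (Fin n) (Fin n) F)) :
    ∃ g ∈ Cfsg.Geo.specialLinear (Fin n) F, g⁻¹ * x * g ∈ Cfsg.Geo.similarityGroup f := by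
  classical
  have hz := scalar_ne_zero x z hx2 hns
  have hchar : ringChar F ≠ 2 := by
    intro h
    apply h2
    have := ringChar.Nat.cast_ringChar (R := F)
    rw [h] at this
    exact_mod_cast this
  have hoddF := FiniteField.odd_card_of_char_ne_two hchar
  obtain ⟨j, hj⟩ : ∃ j, q₀ = 2 * j + 1 := by
    rcases Nat.even_or_odd q₀ with ⟨j, hj⟩ | ⟨j, hj⟩
    · exfalso
      have : q₀ ^ 2 = 2 * (2 * j * j) := by rw [hj]; ring
      rw [hF] at hoddF
      omega
    · exact ⟨j, hj⟩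
  set y : Module.End F (Fin n → F) := Matrix.toLin' (x : Matrix (Fin n) (Fin n) F) with hy
  by_cases hsq : IsSquare z
  · obtain ⟨w, hw⟩ := hsq
    have hw0 : w ≠ 0 := by
      intro h
      rw [h, mul_zero] at hw
      exact hz hw
    have hyy : ∀ u, y (y u) = (w * w) • u := by
      intro u
      rw [← hw]
      exact toLin_sq x z hx2 u
    obtain ⟨k₀, rfl⟩ : ∃ k₀, n = k₀ + 1 := ⟨n - 1, by omega⟩
    obtain ⟨b, d, hb, hd⟩ := Cfsg.Agent.Lib.Helper7.OQ.exists_eigenbasis_sq h2 y w hw0 hyy k₀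
      (Module.finrank_fin_fun F)
    have hf' := stdForm_unitary hF b id (fun _ => rfl)
    have hc : ∀ i, d i * (d (id i)) ^ q₀ = w * w ^ q₀ := by
      intro i
      show d i * (d i) ^ q₀ = w * w ^ q₀
      rw [← pow_succ', ← pow_succ', hj]
      have e1 : 2 * j + 1 + 1 = 2 * (j + 1) := by ring
      rw [e1, pow_mul, pow_mul, sq, sq, hd i]
    have hsim : ∀ u v : Fin (k₀ + 1) → F,
        stdForm q₀ b id ((x : Matrix (Fin (k₀ + 1)) (Fin (k₀ + 1)) F) *ᵥ u)
          ((x : Matrix (Fin (k₀ + 1)) (Fin (k₀ + 1)) F) *ᵥ v) =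
          (w * w ^ q₀) * stdForm q₀ b id u v := by
      intro u v
      rw [← Matrix.toLin'_apply, ← Matrix.toLin'_apply]
      exact stdForm_diag b id y d hb _ hc u v
    exact conj_into hF hf hf' x (w * w ^ q₀) (mul_ne_zero hw0 (pow_ne_zero _ hw0)) hsim
      (fun δ _ => cent_of_eigenbasis b y d hb 0 δ)
  · exfalso
    apply hsq
    have hno : ∀ b : F, b ^ 2 ≠ z := by
      intro b hb
      exact hsq ⟨b, by rw [← hb, sq]⟩
    haveI : Fact (Nat.Prime 2) := ⟨Nat.prime_two⟩
    have hy2 : y ^ 2 = z • 1 := by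
      rw [hy, ← toLin'_pow', ← Units.val_pow_eq_pow_val, hx2, map_smul, Matrix.toLin'_one]
      rfl
    have hdvd : 2 ∣ n := by
      have := Elus.dvd_finrank_of_inv y 2 z hy2 hno ⊤ (fun v _ => Submodule.mem_top)
      rwa [finrank_top, Module.finrank_fin_fun] at this
    obtain ⟨k, hk⟩ := hdvd
    have hk0 : 0 < k := by omega
    have hdet := Elus.det_of_pow_eq_smul 2 z hno k (Fin n → F) y hy2
      (by rw [Module.finrank_fin_fun, hk])
    have hdet1 : LinearMap.det y = 1 := by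
      rw [hy, LinearMap.det_toLin']
      unfold Cfsg.Geo.specialLinear at hx
      rw [MonoidHom.mem_ker] at hx
      have := congrArg Units.val hx
      rwa [Matrix.GeneralLinearGroup.val_det_apply, Units.val_one] at this
    rw [hdet1] at hdet
    have hzk : (-z) ^ k = 1 := by
      rw [hdet]
      congr 1
      ring
    have hvk : padicValNat 2 k < padicValNat 2 (Fintype.card F - 1) := by
      have : padicValNat 2 n = 1 + padicValNat 2 k := by
        rw [hk, padicValNat.mul two_ne_zero hk0.ne', padicValNat.self (by norm_num)]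
      omega
    have h3 := pow_half_eq_one hchar (-z) (neg_ne_zero.mpr hz) k hk0 hzk hvk
    have heven : Even (Fintype.card F / 2) := by
      have hq : q₀ ^ 2 = 2 * (2 * (j * j + j)) + 1 := by rw [hj]; ring
      rw [hF, hq]
      refine ⟨j * j + j, ?_⟩
      omega
    rw [Even.neg_pow heven] at h3
    exact (FiniteField.isSquare_iff hchar hz).mpr h3

end Cfsg.Agent.Lib.Helper8.Su
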