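import Mathlib
import Cfsg.Prelude
import Cfsg.Agent.Lib.Helper8.Su7
import Cfsg.Agent.Lib.Helper8.Su2
import Cfsg.Agent.Lib.Helper7.OQ7

set_option autoImplicit false
set_option linter.unusedSectionVars false
set_option linter.unusedVariables false
open Cfsg

/-! The exceptional case `n = r ∈ {3, 5}`, `(q₀ - 1)_r = r`: every non-scalar element of
`SL_r(q₀²)` with scalar `r`-th power is `SL`-conjugate into the similarity group of a unitary
form. -/

namespace Cfsg.Agent.Lib.Helper8.Su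

open Matrix Module
open Cfsg.Agent.Lib.Helper5 Cfsg.Agent.Lib.Helper2 Cfsg.Agent.Lib.Helper5.UnitaryFormTwo
open Cfsg.Agent.Lib.Helper7.OQ

universe u

variable {F : Type u} [Field F] [Fintype F] {q₀ : ℕ} (hF : Fintype.card F = q₀ ^ 2)

include hF in
theorem conj_odd_exc (p : ℕ) [hp : Fact p.Prime] [CharP F p] (hq₀ : 2 ≤ q₀) (r : ℕ)
    [hr : Fact r.Prime] (hr35 : r = 3 ∨ r = 5) (hv : padicValNat r (q₀ - 1) = 1)
    {f : (Fin r → F) → (Fin r → F) → F} (hf : Cfsg.Geo.IsUnitaryFormPow q₀ f)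
    (x : GL (Fin r) F) (hx : x ∈ Cfsg.Geo.specialLinear (Fin r) F) (z : F)
    (hxr : ((x ^ r : GL (Fin r) F) : Matrix (Fin r) (Fin r) F) =
      z • (1 : Matrix (Fin r) (Fin r) F))
    (hns : ∀ z' : F, (x : Matrix (Fin r) (Fin r) F) ≠ z' • (1 : Matrix (Fin r) (Fin r) F)) :
    ∃ g ∈ Cfsg.Geo.specialLinear (Fin r) F, g⁻¹ * x * g ∈ Cfsg.Geo.similarityGroup f := by
  classical
  have hr2 : r ≠ 2 := by
    rcases hr35 with h | h <;> omega
  have hrodd : Odd r := hr.out.odd_of_ne_two hr2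
  have hr0 : 0 < r := hr.out.pos
  haveI : NeZero r := ⟨hr0.ne'⟩
  have hr1 : r ∣ q₀ - 1 := dvd_of_one_le_padicValNat (by omega)
  have hfac : Fintype.card F - 1 = (q₀ - 1) * (q₀ + 1) := by
    rw [hF, mul_comm]
    exact (succ_mul_pred q₀ (by omega)).symm
  have hrq : r ∣ Fintype.card F - 1 := by
    rw [hfac]
    exact Dvd.dvd.mul_right hr1 _
  have hnd : ¬ r ∣ q₀ + 1 := by
    intro h
    have h2 : r ∣ (q₀ + 1) - (q₀ - 1) := Nat.dvd_sub h hr1
    have h3 : (q₀ + 1) - (q₀ - 1) = 2 := by omega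
    rw [h3] at h2
    have := Nat.le_of_dvd two_pos h2
    have := hr.out.two_le
    omega
  have hvq : padicValNat r (Fintype.card F - 1) = 1 := by
    rw [hfac, padicValNat.mul (by omega) (by omega), hv, padicValNat.eq_zero_of_not_dvd hnd]
  have hq1 : Fintype.card F - 1 ≠ 0 := by
    have := Fintype.one_lt_card (α := F)
    omega
  have hrp : r ≠ p := Elus.ne_char_of_dvd_sub_one (F := F) r 1 one_pos (by rwa [pow_one])
  have hrF : ((r : ℕ) : F) ≠ 0 := by
    intro h
    have h1 : p ∣ r := (CharP.cast_eq_zero_iff F p r).1 h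
    exact hrp ((Nat.prime_dvd_prime_iff_eq hp.out hr.out).1 h1).symm
  set y : Module.End F (Fin r → F) := Matrix.toLin' (x : Matrix (Fin r) (Fin r) F) with hydef
  have hdet : LinearMap.det y = 1 := by
    rw [hydef, LinearMap.det_toLin']
    unfold Cfsg.Geo.specialLinear at hx
    rw [MonoidHom.mem_ker] at hx
    have := congrArg Units.val hx
    rwa [Matrix.GeneralLinearGroup.val_det_apply, Units.val_one] at this
  have hy : y ^ r = z • 1 := by
    rw [hydef, ← toLin'_pow', ← Units.val_pow_eq_pow_val, hxr, map_smul, Matrix.toLin'_one]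
    rfl
  have hzr : z ^ r = 1 := by
    have h1 := congrArg LinearMap.det hy
    rw [map_pow, hdet, one_pow, LinearMap.det_smul, Module.finrank_fin_fun, map_one,
      mul_one] at h1
    exact h1.symm
  have hz1 : z = 1 := by
    have hpow : ∃ w : F, w ^ r = z := by
      by_contra hno
      push Not at hno
      have h1 := Elus.det_of_pow_eq_smul r z hno 1 (Fin r → F) y hy
        (by rw [Module.finrank_fin_fun, mul_one])
      rw [hdet, pow_one, Even.neg_one_pow hrodd.add_one, one_mul] at h1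
      exact hno 1 (by rw [one_pow, h1])
    obtain ⟨w, hw⟩ := hpow
    have hw0 : w ≠ 0 := by
      intro h
      rw [h, zero_pow hr0.ne'] at hw
      rw [← hw, zero_pow hr0.ne'] at hzr
      exact zero_ne_one hzr
    have hw1 : w ^ (r * r) = 1 := by rw [pow_mul, hw, hzr]
    have hw2 : w ^ (Fintype.card F - 1) = 1 := FiniteField.pow_card_sub_one_eq_one w hw0
    have hw3 : w ^ r = 1 := by
      have h1 := pow_gcd_eq_one.2 ⟨hw1, hw2⟩
      rwa [gcd_sq_eq r _ hq1 hvq] at h1
    rw [← hw, hw3]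
  rw [hz1, one_smul] at hy
  obtain ⟨ζ, hζ1, -, hζ3⟩ := exists_root_of_unity (F := F) r hrq
  have hζq : ζ ^ q₀ = ζ := by
    obtain ⟨m, hm⟩ := hr1
    have h1 : q₀ = r * m + 1 := by omega
    rw [h1, pow_succ, pow_mul, hζ1, one_pow, one_mul]
  obtain ⟨ι, hι, b, e, hb⟩ := Sfr.exists_eigenbasis ζ r hζ3 hrF r (Fin r → F) y hy
    (Module.finrank_fin_fun F)
  have hcard : Fintype.card ι = r := by
    rw [← Module.finrank_eq_card_basis b, Module.finrank_fin_fun]
  have hsum0 : ∑ i, e i = 0 := by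
    have hM : LinearMap.toMatrix b b y = Matrix.diagonal (fun i => Sfr.pw ζ r (e i)) := by
      ext i j
      rw [LinearMap.toMatrix_apply, hb, map_smul, Basis.repr_self, Finsupp.smul_apply,
        Finsupp.single_apply, Matrix.diagonal_apply, smul_eq_mul]
      by_cases hij : i = j
      · rw [if_pos hij, if_pos hij.symm, mul_one, hij]
      · rw [if_neg hij, if_neg (Ne.symm hij), mul_zero]
    have h1 : LinearMap.det y = ∏ i, Sfr.pw ζ r (e i) := by
      rw [← LinearMap.det_toMatrix b, hM, Matrix.det_diagonal]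
    rw [hdet, Sfr.pw_sum ζ r hζ1 Finset.univ e] at h1
    apply Sfr.pw_injective ζ r hζ3
    rw [← h1, Sfr.pw_zero]
  have hm1 : ∑ a, Nat.card {i // e i = a} = r := (sum_card_fiber e).trans hcard
  have hm2 : ∑ a, Nat.card {i // e i = a} • a = 0 := (sum_eq_fiber e).symm.trans hsum0
  have hm3 : ∀ a, Nat.card {i // e i = a} ≠ r := by
    intro a hma
    apply hns (Sfr.pw ζ r a)
    apply Matrix.toLin'.injective
    apply b.ext
    intro i
    rw [← hydef, hb, map_smul, Matrix.toLin'_one, LinearMap.smul_apply, LinearMap.id_apply]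
    by_contra hne
    have hia : ¬ e i = a := fun h => hne (by rw [h])
    have h1 := Fintype.card_subtype_lt (p := fun i => e i = a) hia
    rw [Nat.card_eq_fintype_card] at hma
    omega
  obtain ⟨c0, hc0⟩ := exists_center r hr35 (fun a => Nat.card {i // e i = a}) hm1 hm2 hm3
  obtain ⟨τ, hτ1, hτ2⟩ := exists_involution e (fun a => c0 - a) (fun a => sub_sub_cancel c0 a) hc0
  have hpwq : ∀ a : ZMod r, (Sfr.pw ζ r a) ^ q₀ = Sfr.pw ζ r a := by
    intro a
    unfold Sfr.pw
    rw [← pow_mul, mul_comm, pow_mul, hζq]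
  have hc : ∀ i, Sfr.pw ζ r (e i) * (Sfr.pw ζ r (e (τ i))) ^ q₀ = Sfr.pw ζ r c0 := by
    intro i
    rw [hpwq, hτ2 i, ← Sfr.pw_add ζ r hζ1]
    congr 1
    ring
  have hf' := stdForm_unitary hF b τ hτ1
  have hsim : ∀ u v : Fin r → F,
      stdForm q₀ b τ ((x : Matrix (Fin r) (Fin r) F) *ᵥ u)
        ((x : Matrix (Fin r) (Fin r) F) *ᵥ v) = Sfr.pw ζ r c0 * stdForm q₀ b τ u v := by
    intro u v
    rw [← Matrix.toLin'_apply, ← Matrix.toLin'_apply]
    exact stdForm_diag b τ y (fun i => Sfr.pw ζ r (e i)) hb _ hc u v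
  haveI : Nonempty ι := Fintype.card_pos_iff.1 (by omega)
  obtain ⟨i₀⟩ := ‹Nonempty ι›
  exact conj_into hF hf hf' x (Sfr.pw ζ r c0) (Sfr.pw_ne_zero ζ r hζ1 c0) hsim
    (fun δ _ => cent_of_eigenbasis b y (fun i => Sfr.pw ζ r (e i)) hb i₀ δ)

end Cfsg.Agent.Lib.Helper8.Su
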