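import Mathlib
import Cfsg.Prelude
import Cfsg.Agent.Lib.Helper8.Su8
import Cfsg.Agent.Lib.Helper8.Su12

set_option autoImplicit false
set_option linter.unusedSectionVars false
set_option linter.unusedVariables false
open Cfsg

/-! Elements of prime order of `PSL_n(q₀²)` and the subgroups of unitary type: assembly. -/

namespace Cfsg.Agent.Lib.Helper8.Su

open Matrix Module
open Cfsg.Agent.Lib.Helper5 Cfsg.Agent.Lib.Helper2

universe u

variable {F : Type u} [Field F] [Fintype F] {q₀ : ℕ} (hF : Fintype.card F = q₀ ^ 2) {n : ℕ}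
  {f : (Fin n → F) → (Fin n → F) → F} (hf : Cfsg.Geo.IsUnitaryFormPow q₀ f)

include hf in
theorem no_derangement (hn : 1 ≤ n) (r : ℕ)
    (L : ∀ x ∈ Cfsg.Geo.specialLinear (Fin n) F,
      (∃ z : F, ((x ^ r : GL (Fin n) F) : Matrix (Fin n) (Fin n) F) =
        z • (1 : Matrix (Fin n) (Fin n) F)) →
      (∀ z : F, (x : Matrix (Fin n) (Fin n) F) ≠ z • (1 : Matrix (Fin n) (Fin n) F)) →
      ∃ g ∈ Cfsg.Geo.specialLinear (Fin n) F, g⁻¹ * x * g ∈ Cfsg.Geo.similarityGroup f)
    (hex : ∃ x ∈ Cfsg.Geo.specialLinear (Fin n) F,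
      (∃ z : F, ((x ^ r : GL (Fin n) F) : Matrix (Fin n) (Fin n) F) =
        z • (1 : Matrix (Fin n) (Fin n) F)) ∧
      ∀ g : GL (Fin n) F, g⁻¹ * x * g ∉ Cfsg.Geo.similarityGroup f) : False := by
  obtain ⟨x, hx, hxz, hxg⟩ := hex
  have hns : ∀ z' : F, (x : Matrix (Fin n) (Fin n) F) ≠ z' • (1 : Matrix (Fin n) (Fin n) F) := by
    intro z' hz'
    have hz0 : z' ≠ 0 := by
      rintro rfl
      rw [zero_smul] at hz'
      have h1 : (1 : Matrix (Fin n) (Fin n) F) = 0 := by
        rw [← Units.val_one (α := Matrix (Fin n) (Fin n) F), ← mul_inv_cancel x, Units.val_mul,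
          hz', zero_mul]
      have := congrFun (congrFun h1 ⟨0, by omega⟩) ⟨0, by omega⟩
      simp at this
    apply hxg 1
    rw [inv_one, one_mul, mul_one]
    exact scalar_mem_sim hf x z' hz' hz0
  obtain ⟨g, _, hg⟩ := L x hx hxz hns
  exact hxg g hg

include hF hf in
theorem main (p : ℕ) [hp : Fact p.Prime] [CharP F p] (hn : 3 ≤ n) (r : ℕ) [hr : Fact r.Prime]
    (hrp : r = 2 ∨ r ≠ p) (hgap : ¬ (n = 6 ∧ r = 3))
    (hΩ : r ∣ (Cfsg.Geo.similarityGroup f).relIndex (Cfsg.Geo.specialLinear (Fin n) F)) :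
    (∀ x ∈ Cfsg.Geo.specialLinear (Fin n) F,
      (∃ z : F, ((x ^ r : GL (Fin n) F) : Matrix (Fin n) (Fin n) F) =
        z • (1 : Matrix (Fin n) (Fin n) F)) →
      (∀ z : F, (x : Matrix (Fin n) (Fin n) F) ≠ z • (1 : Matrix (Fin n) (Fin n) F)) →
      ∃ g ∈ Cfsg.Geo.specialLinear (Fin n) F, g⁻¹ * x * g ∈ Cfsg.Geo.similarityGroup f) ↔
    ((r = 2 ∧ (p = 2 ∨ padicValNat 2 n ≤ padicValNat 2 (Fintype.card F - 1))) ∨
      ((r = 3 ∨ r = 5) ∧ n = r ∧ padicValNat r (q₀ - 1) = 1)) := by
  have hcard : 2 ≤ Fintype.card F := Fintype.one_lt_card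
  have hq₀2 : 2 ≤ q₀ := by
    by_contra h
    have h1 : q₀ = 0 ∨ q₀ = 1 := by omega
    rcases h1 with h1 | h1 <;> rw [hF, h1] at hcard <;> norm_num at hcard
  have h2iff : (2 : F) = 0 ↔ p = 2 := by
    have h1 := CharP.cast_eq_zero_iff F p 2
    rw [Nat.cast_ofNat] at h1
    rw [h1]
    constructor
    · intro h
      exact (Nat.prime_dvd_prime_iff_eq hp.out Nat.prime_two).mp h
    · intro h
      rw [h]
  constructor
  · intro L
    by_cases hr2 : r = 2
    · subst hr2
      left
      refine ⟨rfl, ?_⟩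
      by_cases hp2 : p = 2
      · left; exact hp2
      · right
        by_contra hv
        rw [not_le] at hv
        have h2F : (2 : F) ≠ 0 := fun h => hp2 (h2iff.mp h)
        exact no_derangement hf (by omega) 2 L (derange_two hF hf h2F (by omega) hv)
    · have hrp' : r ≠ p := by
        rcases hrp with h | h
        · exact absurd h hr2
        · exact h
      have hrF : ((r : ℕ) : F) ≠ 0 := by
        intro h
        have h1 : p ∣ r := (CharP.cast_eq_zero_iff F p r).1 h
        exact hrp' ((Nat.prime_dvd_prime_iff_eq hp.out hr.out).1 h1).symm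
      have hrq : ¬ r ∣ q₀ := by
        intro h
        apply hrF
        have h1 : r ∣ Fintype.card F := by
          rw [hF]
          exact Dvd.dvd.mul_right h _ |>.trans (by rw [sq])
        obtain ⟨t, ht⟩ := h1
        have h2 : ((Fintype.card F : ℕ) : F) = 0 := Nat.cast_card_eq_zero F
        rw [ht, Nat.cast_mul] at h2
        rcases mul_eq_zero.mp h2 with h3 | h3
        · exact h3
        · exfalso
          -- `t` is a power of `p`, and `r t = p^k`
          obtain ⟨⟨k, hkpos⟩, hpk, hk⟩ := FiniteField.card F p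
          have h4 : r ∣ p ^ (k : ℕ) := by
            have h' : Fintype.card F = p ^ k := hk
            rw [← h']
            exact ⟨t, ht⟩
          have h5 := (Nat.prime_dvd_prime_iff_eq hr.out hpk).mp (hr.out.dvd_of_dvd_pow h4)
          exact hrp' h5
      by_cases hr1 : r ∣ q₀ - 1
      · by_contra hRHS
        have hq01 : q₀ - 1 ≠ 0 := by omega
        have hv1 : 1 ≤ padicValNat r (q₀ - 1) := one_le_padicValNat_of_dvd hq01 hr1
        by_cases hB : n = r ∧ 2 ≤ padicValNat r (q₀ - 1)
        · have hrr : r * r ∣ q₀ - 1 := by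
            rw [← sq]
            exact (padicValNat_dvd_iff_le hq01).mpr hB.2
          exact no_derangement hf (by omega) r L (derange_B hF hf r hr2 hrr hq₀2 hB.1)
        · have hexc : n = r → padicValNat r (q₀ - 1) = 1 := by
            intro h
            by_contra h'
            exact hB ⟨h, by omega⟩
          by_cases h3 : r = 3
          · subst h3
            have hn3 : n ≠ 3 := by
              intro h
              exact hRHS (Or.inr ⟨Or.inl rfl, h, hexc h⟩)
            have hn6 : n ≠ 6 := fun h => hgap ⟨h, rfl⟩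
            exact no_derangement hf (by omega) 3 L (derange_C hF hf hr1 hq₀2 (by omega) hn6)
          · have hr5 : 5 ≤ r := by
              have h2 := hr.out.two_le
              by_contra h
              have h4 : r = 4 := by omega
              rw [h4] at hr
              exact absurd hr.out (by norm_num)
            have h55 : ¬ (n = 5 ∧ r = 5) := by
              rintro ⟨h, h'⟩
              exact hRHS (Or.inr ⟨Or.inr h', by rw [h, h'], hexc (by rw [h, h'])⟩)
            exact no_derangement hf (by omega) r L (derange_A hF hf r hr5 hr1 hq₀2 hn h55)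
      · exfalso
        obtain ⟨k, hk2, hkn, hkd⟩ := exists_of_dvd_relIndex hF hf (by omega) hq₀2 r hr.out hrq hΩ
        have hk : (-(q₀ : ZMod r)) ^ k = -1 := by
          by_cases hev : Even k
          · rw [if_pos hev, ← ZMod.natCast_eq_zero_iff, Nat.cast_add, Nat.cast_pow,
              Nat.cast_one] at hkd
            rw [Even.neg_pow hev]
            exact eq_neg_of_add_eq_zero_left hkd
          · rw [if_neg hev, ← ZMod.natCast_eq_zero_iff,
              Nat.cast_sub (Nat.one_le_pow _ _ (by omega)), Nat.cast_pow, Nat.cast_one] at hkd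
            rw [Odd.neg_pow (Nat.not_even_iff_odd.mp hev), sub_eq_zero.mp hkd]
        obtain ⟨x, hx, hxr, hxg⟩ := derange_big hF hf hq₀2 r hr2 hrF hrq hr1 k (by omega) hkn hk
        refine no_derangement hf (by omega) r L ⟨x, hx, ⟨1, ?_⟩, hxg⟩
        rw [hxr, Units.val_one, one_smul]
  · rintro (⟨hr2, h⟩ | ⟨h35, hnr, hv⟩)
    · subst hr2
      intro x hx hxz hns
      obtain ⟨z, hz⟩ := hxz
      by_cases hp2 : p = 2
      · exact conj_two_even hF hf (h2iff.mpr hp2) x z hz hns
      · have h2F : (2 : F) ≠ 0 := fun h => hp2 (h2iff.mp h)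
        have hv : padicValNat 2 n ≤ padicValNat 2 (Fintype.card F - 1) := by
          rcases h with h | h
          · exact absurd h hp2
          · exact h
        exact conj_two_odd hF hf h2F (by omega) hv x hx z hz hns
    · subst hnr
      intro x hx hxz hns
      obtain ⟨z, hz⟩ := hxz
      exact conj_odd_exc hF p hq₀2 n h35 hv hf x hx z hz hns

end Cfsg.Agent.Lib.Helper8.Su
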