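import Cfsg.Agent.Lib.Helper8.SuO1

set_option autoImplicit false
set_option maxRecDepth 100000

/-! The Suzuki sporadic group on 1782 points: the certificates of the tables (generated). -/

namespace Cfsg.Agent.Lib.Helper8.SuO

theorem cert_7 : SQ.allB 1782 (fun x => Nat.beq (u0 (u1 (u2 (u1 (u3 (u4 (u5 (x)))))))) (u7 (x))) = true := by decide +kernel
theorem cert_8 : SQ.allB 1782 (fun x => Nat.beq (u0 (u1 (u2 (u1 (u3 (u4 (u6 (x)))))))) (u8 (x))) = true := by decide +kernel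
theorem cert_9 : SQ.allB 1782 (fun x => Nat.beq (u7 (u1 (u0 (u1 (u7 (u1 (x))))))) (u9 (u2 (u7 (u5 (u7 (u0 (x)))))))) = true := by decide +kernel
theorem cert_10 : SQ.allB 1782 (fun x => Nat.beq (u4 (u7 (u7 (u7 (u4 (u6 (x))))))) (u10 (u4 (u7 (u0 (u4 (u6 (u7 (x))))))))) = true := by decide +kernel
theorem cert_11 : SQ.allB 1782 (fun x => Nat.beq (u9 (u9 (u10 (u9 (u10 (u10 (u9 (u9 (u10 (u10 (u10 (u10 (u9 (u10 (u10 (u9 (x))))))))))))))))) (u11 (u9 (u10 (u9 (u10 (u10 (u10 (u10 (u9 (u9 (u10 (u9 (u9 (u10 (u10 (x))))))))))))))))) = true := by decide +kernel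
theorem cert_12 : SQ.allB 1782 (fun x => Nat.beq (u9 (u10 (u9 (u9 (u10 (u10 (u10 (u9 (u10 (u10 (u10 (x)))))))))))) (u12 (u9 (u9 (u10 (u9 (u9 (u10 (u9 (u10 (u10 (u9 (x))))))))))))) = true := by decide +kernel
theorem cert_13 : SQ.allB 1782 (fun x => Nat.beq (u10 (u9 (u9 (u10 (u10 (u9 (u9 (u10 (u10 (u9 (u7 (u6 (u7 (u1 (u2 (u4 (x))))))))))))))))) (u13 (u4 (u7 (u2 (u5 (u6 (x)))))))) = true := by decide +kernel
theorem cert_14 : SQ.allB 1782 (fun x => Nat.beq (u10 (u10 (u10 (u10 (u10 (u2 (u4 (u5 (u1 (u2 (u5 (x)))))))))))) (u14 (u0 (u2 (u7 (u1 (u2 (u1 (x))))))))) = true := by decide +kernel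
theorem cert_15 : SQ.allB 1782 (fun x => Nat.beq (u14 (u12 (u14 (u13 (u13 (u11 (x))))))) (u15 (u14 (u13 (u14 (u14 (u13 (x)))))))) = true := by decide +kernel
theorem cert_16 : SQ.allB 1782 (fun x => Nat.beq (u11 (u14 (u11 (u12 (u14 (u11 (u10 (u10 (u9 (u10 (u13 (u9 (u14 (x)))))))))))))) (u16 (u10 (u13 (u10 (u13 (u14 (u9 (x))))))))) = true := by decide +kernel
theorem cert_17 : SQ.allB 1782 (fun x => Nat.beq (u11 (u14 (u16 (u16 (u14 (u11 (u11 (x)))))))) (u17 (u12 (u16 (u11 (u13 (u11 (u16 (x))))))))) = true := by decide +kernel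
theorem cert_18 : SQ.allB 1782 (fun x => Nat.beq (u7 (u7 (u7 (u7 (u7 (u7 (u7 (u7 (u7 (u7 (u7 (u7 (u15 (u17 (u15 (u16 (u15 (u11 (u12 (u14 (u11 (u12 (u9 (u9 (u14 (u14 (u13 (u10 (u0 (u1 (u6 (x)))))))))))))))))))))))))))))))) (u18 (x))) = true := by decide +kernel
theorem cert_19 : SQ.allB 1782 (fun x => Nat.beq (u18 (x)) (u19 (x))) = true := by decide +kernel
theorem cert_20 : SQ.allB 1782 (fun x => Nat.beq (u7 (u1 (u0 (u1 (u7 (u1 (x))))))) (u20 (u2 (u7 (u5 (u7 (u0 (x)))))))) = true := by decide +kernel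
theorem cert_21 : SQ.allB 1782 (fun x => Nat.beq (u4 (u7 (u7 (u7 (u4 (u6 (x))))))) (u21 (u4 (u7 (u0 (u4 (u6 (u7 (x))))))))) = true := by decide +kernel
theorem cert_22 : SQ.allB 1782 (fun x => Nat.beq (u21 (u21 (u21 (u20 (u21 (u21 (u20 (u21 (u20 (u21 (u21 (u20 (x))))))))))))) (u22 (u20 (u21 (u21 (u21 (u21 (u20 (u21 (u20 (u20 (u21 (x))))))))))))) = true := by decide +kernel
theorem cert_23 : SQ.allB 1782 (fun x => Nat.beq (u21 (u20 (u20 (u21 (u21 (u20 (u21 (u20 (u5 (u6 (u7 (u0 (x))))))))))))) (u23 (u7 (u5 (x))))) = true := by decide +kernel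
theorem cert_24 : SQ.allB 1782 (fun x => Nat.beq (u20 (u23 (u21 (u21 (u20 (u23 (u20 (u0 (u7 (u1 (u0 (u2 (u3 (x)))))))))))))) (u24 (u0 (u2 (u7 (u1 (u2 (x)))))))) = true := by decide +kernel
theorem cert_25 : SQ.allB 1782 (fun x => Nat.beq (u24 (u24 (u22 (u22 (u20 (u23 (u24 (u23 (u21 (u21 (u24 (x)))))))))))) (u25 (u20 (u24 (u24 (u21 (u23 (u20 (x))))))))) = true := by decide +kernel
theorem cert_26 : SQ.allB 1782 (fun x => Nat.beq (u22 (u22 (u23 (u23 (u24 (u25 (u24 (u20 (u20 (u24 (u24 (u20 (u20 (u21 (u21 (x)))))))))))))))) (u26 (u20 (u21 (u24 (u21 (u20 (u20 (x))))))))) = true := by decide +kernel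
theorem cert_27 : SQ.allB 1782 (fun x => Nat.beq (u25 (u25 (u26 (u26 (u26 (u22 (u23 (u26 (u24 (u23 (u21 (u20 (u21 (u23 (u23 (u0 (u4 (u3 (x))))))))))))))))))) (u27 (x))) = true := by decide +kernel
theorem cert_28 : SQ.allB 1782 (fun x => Nat.beq (u18 (u18 (u7 (u18 (u7 (u27 (u7 (u27 (x))))))))) (u28 (u7 (u27 (u7 (u18 (u27 (u7 (u7 (x)))))))))) = true := by decide +kernel
theorem cert_29 : SQ.allB 1782 (fun x => Nat.beq (u7 (u27 (u27 (u7 (u18 (u7 (u27 (u7 (u18 (x)))))))))) (u29 (u27 (u7 (u27 (u27 (u7 (u7 (u27 (x)))))))))) = true := by decide +kernel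
theorem cert_30 : SQ.allB 1782 (fun x => Nat.beq (u28 (u28 (u28 (u28 (u28 (u29 (u28 (u29 (u29 (u18 (u7 (u27 (u7 (u7 (u7 (u27 (u27 (u18 (x))))))))))))))))))) (u30 (u7 (u7 (u27 (u27 (u7 (u7 (u27 (u27 (x))))))))))) = true := by decide +kernel
theorem cert_31 : SQ.allB 1782 (fun x => Nat.beq (u29 (u28 (u30 (u30 (u29 (u27 (u7 (u7 (u18 (u27 (u27 (u7 (u7 (u27 (x))))))))))))))) (u31 (u18 (u7 (u7 (u18 (u27 (u7 (u27 (u7 (x))))))))))) = true := by decide +kernel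
theorem cert_32 : SQ.allB 1782 (fun x => Nat.beq (u31 (u30 (u31 (u30 (u31 (u31 (u30 (u30 (u28 (u28 (u29 (u30 (u29 (u28 (u28 (x)))))))))))))))) (u32 (u28 (u31 (u30 (u29 (u29 (u29 (x))))))))) = true := by decide +kernel
theorem cert_33 : SQ.allB 1782 (fun x => Nat.beq (u30 (u31 (u31 (u30 (u30 (u32 (u31 (u29 (u31 (u30 (u29 (u30 (u27 (u7 (u18 (u27 (u27 (u7 (u7 (u27 (u27 (x)))))))))))))))))))))) (u33 (u7 (u27 (u7 (u27 (u7 (x)))))))) = true := by decide +kernel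
theorem genw_0 : SQ.allB 1782 (fun x => Nat.beq (u32 (u33 (u33 (u32 (u33 (u33 (u32 (u33 (u32 (u31 (u31 (u30 (u28 (u30 (u30 (u28 (u33 (u31 (u7 (u27 (u27 (u27 (u27 (u27 (x))))))))))))))))))))))))) (u0 x)) = true := by decide +kernel
theorem genw_1 : SQ.allB 1782 (fun x => Nat.beq (u32 (u32 (u32 (u33 (u33 (u32 (u33 (u30 (u33 (u33 (u32 (u32 (u28 (u33 (u30 (u31 (u28 (u18 (u18 (u27 (u27 (u27 (u7 (u27 (u27 (x)))))))))))))))))))))))))) (u1 x)) = true := by decide +kernel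
theorem genw_2 : SQ.allB 1782 (fun x => Nat.beq (u32 (u32 (u33 (u32 (u32 (u33 (u32 (u30 (u30 (u30 (u33 (u31 (u33 (u29 (u30 (u33 (u29 (u28 (u7 (u18 (u7 (u27 (u7 (u7 (u27 (x)))))))))))))))))))))))))) (u2 x)) = true := by decide +kernel
theorem genw_3 : SQ.allB 1782 (fun x => Nat.beq (u32 (u32 (u30 (u32 (u31 (u31 (u28 (u33 (u30 (u33 (u29 (u27 (u7 (u7 (u7 (u27 (u27 (u27 (x))))))))))))))))))) (u3 x)) = true := by decide +kernel
theorem genw_4 : SQ.allB 1782 (fun x => Nat.beq (u32 (u32 (u33 (u32 (u32 (u33 (u32 (u30 (u33 (u33 (u30 (u30 (u30 (u31 (u28 (u28 (u31 (u28 (u29 (u33 (u7 (u27 (u7 (x)))))))))))))))))))))))) (u4 x)) = true := by decide +kernel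
theorem genw_5 : SQ.allB 1782 (fun x => Nat.beq (u33 (u33 (u32 (u32 (u32 (u33 (u33 (u32 (u30 (u31 (u31 (u30 (u31 (u31 (u29 (u29 (u33 (u30 (u30 (u18 (u27 (u27 (u27 (u27 (u7 (u18 (u27 (x)))))))))))))))))))))))))))) (u5 x)) = true := by decide +kernel
theorem genw_6 : SQ.allB 1782 (fun x => Nat.beq (u33 (u33 (u32 (u32 (u33 (u32 (u33 (u30 (u33 (u30 (u31 (u31 (u32 (u29 (u31 (u33 (u30 (u29 (u7 (u27 (u7 (u18 (u18 (u18 (x))))))))))))))))))))))))) (u6 x)) = true := by decide +kernel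

end Cfsg.Agent.Lib.Helper8.SuO
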