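import Cfsg.Agent.Lib.Helper8.SuO3

set_option autoImplicit false
set_option maxRecDepth 100000

/-! The Suzuki sporadic group on 1782 points: the centraliser and transporter searches (generated). -/

namespace Cfsg.Agent.Lib.Helper8.SuO

/-- the candidates for the image of the first base point under an element centralising `x` -/
def passC (p : ℕ) : Bool :=
  match SQ.sift LsX (SQ.iterL u7 4 p ++ [1, u7 1, 2, u7 2]) with
  | some [r0, s0, r1, s1] => Nat.beq s0 (u7 r0) && Nat.beq s1 (u7 r1)
  | _ => false

def xorbB (p : ℕ) : Bool := Nat.beq p 787 || Nat.beq p 1321 || Nat.beq p 1666 || Nat.beq p 1219 || Nat.beq p 839 || Nat.beq p 971 || Nat.beq p 1643 || Nat.beq p 1352 || Nat.beq p 1740 || Nat.beq p 760 || Nat.beq p 594 || Nat.beq p 727 || Nat.beq p 545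

/-- the candidates for the image of the first base point under an element conjugating `x` to
its image under the diagram automorphism -/
def passN (p : ℕ) : Bool :=
  match SQ.sift LsX (SQ.iterL u8 4 p ++ [1, u8 1, 2, u8 2, 3, u8 3]) with
  | some [r0, s0, r1, s1, r2, s2] => Nat.beq s0 (u7 r0) && Nat.beq s1 (u7 r1) && Nat.beq s2 (u7 r2)
  | _ => false

/-- the element centralising `t` and taking `p` to the first base point, at `q` -/
def FQ (p q : ℕ) : ℕ :=
  match SQ.sift LsZ (SQ.iterL u19 4 p ++ [q]) with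
  | some [r] => r
  | _ => 1782

def pre0 (q : ℕ) : ℕ := u7 (u7 (q))
def itQ0 (p : ℕ) : ℕ → ℕ → ℕ
  | 0, q => q
  | k + 1, q => itQ0 p k (pre0 (FQ p q))

def pre1 (q : ℕ) : ℕ := u7 (u18 (q))
def itQ1 (p : ℕ) : ℕ → ℕ → ℕ
  | 0, q => q
  | k + 1, q => itQ1 p k (pre1 (FQ p q))

def testQ (p : ℕ) : Bool :=
  (SQ.sift LsZ (SQ.iterL u19 4 p ++ [])).isSome && Nat.beq (itQ0 p 7 1) 1 && Nat.beq (itQ1 p 7 1) 1

theorem passC_0 : SQ.allR 0 891 (fun p => !(passC p) || xorbB p) = true := by decide +kernel
theorem passC_1 : SQ.allR 891 891 (fun p => !(passC p) || xorbB p) = true := by decide +kernel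
theorem passC_all : ∀ p, p < 1782 → (!(passC p) || xorbB p) = true := by
  intro p hp
  rcases Nat.lt_or_ge p 891 with h | h
  · exact SQ.allR_spec passC_0 p (by omega) (by omega)
  exact SQ.allR_spec passC_1 p (by omega) (by omega)

theorem passN_0 : SQ.allR 0 891 (fun p => !(passN p)) = true := by decide +kernel
theorem passN_1 : SQ.allR 891 891 (fun p => !(passN p)) = true := by decide +kernel
theorem passN_all : ∀ p, p < 1782 → (!(passN p)) = true := by
  intro p hp
  rcases Nat.lt_or_ge p 891 with h | h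
  · exact SQ.allR_spec passN_0 p (by omega) (by omega)
  exact SQ.allR_spec passN_1 p (by omega) (by omega)

theorem testQ_0 : SQ.allR 0 891 (fun p => !(testQ p) || Nat.beq p 652) = true := by decide +kernel
theorem testQ_1 : SQ.allR 891 891 (fun p => !(testQ p) || Nat.beq p 652) = true := by decide +kernel
theorem testQ_all : ∀ p, p < 1782 → (!(testQ p) || Nat.beq p 652) = true := by
  intro p hp
  rcases Nat.lt_or_ge p 891 with h | h
  · exact SQ.allR_spec testQ_0 p (by omega) (by omega)
  exact SQ.allR_spec testQ_1 p (by omega) (by omega)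


end Cfsg.Agent.Lib.Helper8.SuO
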