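import Cfsg.Agent.Lib.Helper8.SuO3

set_option autoImplicit false
set_option maxRecDepth 100000

/-! The Suzuki sporadic group on 1782 points: the checks for the automorphism group (generated). -/

namespace Cfsg.Agent.Lib.Helper8.SuO

theorem nu_ok : SQ.allB 1782 (fun q => Nat.beq (u7 (u18 q)) (u18 (u7 (u7 (u7 (u7 (q))))))) = true := by decide +kernel
/-- the conjugator of `x` to a power of its image under the diagram automorphism -/
def muF (q : ℕ) : ℕ := u16 (u15 (u15 (u11 (u11 (u12 (u13 (u14 (u9 (u13 (u4 (u7 (u7 (u6 (q))))))))))))))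
theorem mu_ok : SQ.allB 1782 (fun q => Nat.beq (u7 (muF q)) (muF (u8 (u8 (u8 (u8 (u8 (q)))))))) = true := by decide +kernel
theorem srel_0 : SQ.allB 1782 (fun q => Nat.beq (u0 (u5 (u6 (u5 (u6 (q)))))) q) = true := by decide +kernel
theorem srel_1 : SQ.allB 1782 (fun q => Nat.beq (u0 (u1 (u2 (u6 (u0 (u1 (u2 (u6 (u0 (u1 (u2 (u6 (u0 (u1 (u2 (u6 (u0 (u1 (u2 (u6 (q))))))))))))))))))))) q) = true := by decide +kernel
theorem srel_2 : SQ.allB 1782 (fun q => Nat.beq (u1 (u6 (u5 (u1 (u6 (u5 (u1 (u6 (u5 (u1 (u6 (u5 (u1 (u6 (u5 (q)))))))))))))))) q) = true := by decide +kernel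
theorem x_ord : SQ.allB 1782 (fun q => Nat.beq (u7 (u7 (u7 (u7 (u7 (u7 (u7 (u7 (u7 (u7 (u7 (u7 (u7 (q)))))))))))))) q) = true := by decide +kernel
theorem x_ne : u7 787 = 1321 := by decide +kernel
theorem zt_comm : SQ.allB 1782 (fun q => Nat.beq (u27 (u19 q)) (u19 (u27 q))) = true := by decide +kernel
theorem rel_0 : SQ.allB 1782 (fun q => Nat.beq (u7 (u7 (u27 (u7 (u7 (u27 (u7 (u7 (u27 (u7 (u7 (u27 (u7 (u7 (u27 (u7 (u7 (u27 (u7 (u7 (u27 (q)))))))))))))))))))))) q) = true := by decide +kernel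
theorem rel_1 : SQ.allB 1782 (fun q => Nat.beq (u7 (u18 (u27 (u7 (u18 (u27 (u7 (u18 (u27 (u7 (u18 (u27 (u7 (u18 (u27 (u7 (u18 (u27 (u7 (u18 (u27 (q)))))))))))))))))))))) q) = true := by decide +kernel
theorem z_pz : u27 652 = 787 := by decide +kernel
theorem xorb_eq : SQ.iterL u7 13 787 = [787, 1321, 1666, 1219, 839, 971, 1643, 1352, 1740, 760, 594, 727, 545] := by decide +kernel
theorem baseX : LsX.map (fun L => L.b) = SQ.iterL u7 4 787 := by decide +kernel
theorem baseZ : LsZ.map (fun L => L.b) = SQ.iterL u19 4 787 := by decide +kernel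

end Cfsg.Agent.Lib.Helper8.SuO
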