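import Cfsg.Agent.S1694
import Cfsg.Agent.Lib.Helper8.SuO2
import Cfsg.Agent.Lib.Helper8.SuO3

set_option autoImplicit false
set_option maxRecDepth 100000

/-! The Suzuki sporadic group on 1782 points: the tables are realised by group elements; the two verified chains; generation (generated). -/

namespace Cfsg.Agent.Lib.Helper8.SuO

open Cfsg.Spor Cfsg.Agent.Lib.Helper4.TC Cfsg.Agent.Lib.Helper4.TCD Cfsg.Agent.Lib.Helper4.TC.Log

theorem gen_0 : SQ.allB 1782 (fun i => Nat.beq (u0 i) (Tab.act Suz1.T Suz1.D [0] i)) = true := by decide +kernel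
theorem gen_1 : SQ.allB 1782 (fun i => Nat.beq (u1 i) (Tab.act Suz1.T Suz1.D [1] i)) = true := by decide +kernel
theorem gen_2 : SQ.allB 1782 (fun i => Nat.beq (u2 i) (Tab.act Suz1.T Suz1.D [2] i)) = true := by decide +kernel
theorem gen_3 : SQ.allB 1782 (fun i => Nat.beq (u3 i) (Tab.act Suz1.T Suz1.D [3] i)) = true := by decide +kernel
theorem gen_4 : SQ.allB 1782 (fun i => Nat.beq (u4 i) (Tab.act Suz1.T Suz1.D [4] i)) = true := by decide +kernel
theorem gen_5 : SQ.allB 1782 (fun i => Nat.beq (u5 i) (Tab.act Suz1.T Suz1.D [5] i)) = true := by decide +kernel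
theorem gen_6 : SQ.allB 1782 (fun i => Nat.beq (u6 i) (Tab.act Suz1.T Suz1.D [6] i)) = true := by decide +kernel

/-- the presented group -/
abbrev Gp : Type := PSuz.P.Grp

/-- the action on the 1782 points -/
noncomputable def φ : Gp →* Equiv.Perm (Fin 1782) := Suz1.inst.phi

theorem finGp : Finite Gp := Cfsg.Agent.S1694.order_aux.1

theorem cardGp : Nat.card Gp = 448345497600 := Cfsg.Agent.S1694.order_aux.2.2

theorem φ_inj : Function.Injective φ := Cfsg.Agent.S1694.order_aux.2.1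

theorem φ_word (w : List ℕ) (hw : ∀ y ∈ w, y < 7) (x : Fin 1782) :
    (φ (wordP PSuz.P.gR w) x).1 = Tab.act Suz1.T Suz1.D w x.1 := by
  show (Suz1.inst.phi (wordP PSuz.P.gR w) x).1 = Tab.act Suz1.T Suz1.D w x.1
  rw [← Suz1.inst.gE_word w hw]
  exact Suz1.inst.hC.phi_word Suz1.inst.phi Suz1.inst.hphi w
    (fun y hy => by rw [Suz1.inst.hk]; exact hw y hy) x

/-- the permutation group on the 1782 points -/
noncomputable abbrev Kp : Subgroup (Equiv.Perm (Fin 1782)) := φ.range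

theorem ub_act (k : ℕ) (hk : k < 7) (i : ℕ) (hi : i < 1782) :
    ub k i = Tab.act Suz1.T Suz1.D [k] i := by
  interval_cases k
  · exact Nat.eq_of_beq_eq_true (SQ.allB_spec gen_0 i hi)
  · exact Nat.eq_of_beq_eq_true (SQ.allB_spec gen_1 i hi)
  · exact Nat.eq_of_beq_eq_true (SQ.allB_spec gen_2 i hi)
  · exact Nat.eq_of_beq_eq_true (SQ.allB_spec gen_3 i hi)
  · exact Nat.eq_of_beq_eq_true (SQ.allB_spec gen_4 i hi)
  · exact Nat.eq_of_beq_eq_true (SQ.allB_spec gen_5 i hi)
  · exact Nat.eq_of_beq_eq_true (SQ.allB_spec gen_6 i hi)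

/-- the action of a word in the generators -/
def actU (w : List ℕ) (i : ℕ) : ℕ := w.foldr (fun k acc => ub k acc) i

theorem actU_cons (k : ℕ) (w : List ℕ) (i : ℕ) : actU (k :: w) i = ub k (actU w i) := rfl

theorem act_lt (w : List ℕ) (hw : ∀ y ∈ w, y < 7) (i : ℕ) (hi : i < 1782) :
    Tab.act Suz1.T Suz1.D w i < 1782 := by
  have := φ_word w hw ⟨i, hi⟩
  show Tab.act Suz1.T Suz1.D w (⟨i, hi⟩ : Fin 1782).1 < 1782
  rw [← this]
  exact (φ (wordP PSuz.P.gR w) ⟨i, hi⟩).2

theorem act_eq (w : List ℕ) (hw : ∀ y ∈ w, y < 7) (i : ℕ) (hi : i < 1782) :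
    Tab.act Suz1.T Suz1.D w i = actU w i := by
  induction w with
  | nil => rfl
  | cons k w ih =>
    have hw' : ∀ y ∈ w, y < 7 := fun y hy => hw y (List.mem_cons_of_mem _ hy)
    have e : Tab.act Suz1.T Suz1.D (k :: w) i =
        Tab.act Suz1.T Suz1.D [k] (Tab.act Suz1.T Suz1.D w i) := rfl
    rw [e, ← ub_act k (hw k List.mem_cons_self) _ (act_lt w hw' i hi), ih hw', actU_cons]

theorem gN_word (w : List ℕ) (hw : ∀ y ∈ w, y < 7) (i : ℕ) (hi : i < 1782) :
    SQ.gN (φ (wordP PSuz.P.gR w)) i = actU w i := by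
  rw [SQ.gN_of_lt _ hi, ← act_eq w hw i hi]
  exact φ_word w hw ⟨i, hi⟩

theorem real_gen (k : ℕ) (hk : k < 7) : SQ.Real Kp (ub k) := by
  refine ⟨φ (wordP PSuz.P.gR [k]), ⟨_, rfl⟩, fun i hi => ?_⟩
  rw [gN_word [k] (by intro y hy; rw [List.mem_singleton] at hy; omega) i hi]
  rfl

theorem real_0 : SQ.Real Kp u0 := real_gen 0 (by decide)
theorem real_1 : SQ.Real Kp u1 := real_gen 1 (by decide)
theorem real_2 : SQ.Real Kp u2 := real_gen 2 (by decide)
theorem real_3 : SQ.Real Kp u3 := real_gen 3 (by decide)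
theorem real_4 : SQ.Real Kp u4 := real_gen 4 (by decide)
theorem real_5 : SQ.Real Kp u5 := real_gen 5 (by decide)
theorem real_6 : SQ.Real Kp u6 := real_gen 6 (by decide)

theorem real_7 : SQ.Real Kp u7 :=
  SQ.real_of_eq (fL := fun x => u0 (u1 (u2 (u1 (u3 (u4 (u5 (x)))))))) (fR := fun x => x)
    ((real_0).comp ((real_1).comp ((real_2).comp ((real_1).comp ((real_3).comp ((real_4).comp (real_5)))))))
    (SQ.real_id)
    (fun x hx => Nat.eq_of_beq_eq_true (SQ.allB_spec cert_7 x hx))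
theorem real_8 : SQ.Real Kp u8 :=
  SQ.real_of_eq (fL := fun x => u0 (u1 (u2 (u1 (u3 (u4 (u6 (x)))))))) (fR := fun x => x)
    ((real_0).comp ((real_1).comp ((real_2).comp ((real_1).comp ((real_3).comp ((real_4).comp (real_6)))))))
    (SQ.real_id)
    (fun x hx => Nat.eq_of_beq_eq_true (SQ.allB_spec cert_8 x hx))
theorem real_9 : SQ.Real Kp u9 :=
  SQ.real_of_eq (fL := fun x => u7 (u1 (u0 (u1 (u7 (u1 (x))))))) (fR := fun x => u2 (u7 (u5 (u7 (u0 (x))))))
    ((real_7).comp ((real_1).comp ((real_0).comp ((real_1).comp ((real_7).comp (real_1))))))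
    ((real_2).comp ((real_7).comp ((real_5).comp ((real_7).comp (real_0)))))
    (fun x hx => Nat.eq_of_beq_eq_true (SQ.allB_spec cert_9 x hx))
theorem real_10 : SQ.Real Kp u10 :=
  SQ.real_of_eq (fL := fun x => u4 (u7 (u7 (u7 (u4 (u6 (x))))))) (fR := fun x => u4 (u7 (u0 (u4 (u6 (u7 (x)))))))
    ((real_4).comp ((real_7).comp ((real_7).comp ((real_7).comp ((real_4).comp (real_6))))))
    ((real_4).comp ((real_7).comp ((real_0).comp ((real_4).comp ((real_6).comp (real_7))))))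
    (fun x hx => Nat.eq_of_beq_eq_true (SQ.allB_spec cert_10 x hx))
theorem real_11 : SQ.Real Kp u11 :=
  SQ.real_of_eq (fL := fun x => u9 (u9 (u10 (u9 (u10 (u10 (u9 (u9 (u10 (u10 (u10 (u10 (u9 (u10 (u10 (u9 (x))))))))))))))))) (fR := fun x => u9 (u10 (u9 (u10 (u10 (u10 (u10 (u9 (u9 (u10 (u9 (u9 (u10 (u10 (x)))))))))))))))
    ((real_9).comp ((real_9).comp ((real_10).comp ((real_9).comp ((real_10).comp ((real_10).comp ((real_9).comp ((real_9).comp ((real_10).comp ((real_10).comp ((real_10).comp ((real_10).comp ((real_9).comp ((real_10).comp ((real_10).comp (real_9))))))))))))))))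
    ((real_9).comp ((real_10).comp ((real_9).comp ((real_10).comp ((real_10).comp ((real_10).comp ((real_10).comp ((real_9).comp ((real_9).comp ((real_10).comp ((real_9).comp ((real_9).comp ((real_10).comp (real_10))))))))))))))
    (fun x hx => Nat.eq_of_beq_eq_true (SQ.allB_spec cert_11 x hx))
theorem real_12 : SQ.Real Kp u12 :=
  SQ.real_of_eq (fL := fun x => u9 (u10 (u9 (u9 (u10 (u10 (u10 (u9 (u10 (u10 (u10 (x)))))))))))) (fR := fun x => u9 (u9 (u10 (u9 (u9 (u10 (u9 (u10 (u10 (u9 (x)))))))))))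
    ((real_9).comp ((real_10).comp ((real_9).comp ((real_9).comp ((real_10).comp ((real_10).comp ((real_10).comp ((real_9).comp ((real_10).comp ((real_10).comp (real_10)))))))))))
    ((real_9).comp ((real_9).comp ((real_10).comp ((real_9).comp ((real_9).comp ((real_10).comp ((real_9).comp ((real_10).comp ((real_10).comp (real_9))))))))))
    (fun x hx => Nat.eq_of_beq_eq_true (SQ.allB_spec cert_12 x hx))
theorem real_13 : SQ.Real Kp u13 :=
  SQ.real_of_eq (fL := fun x => u10 (u9 (u9 (u10 (u10 (u9 (u9 (u10 (u10 (u9 (u7 (u6 (u7 (u1 (u2 (u4 (x))))))))))))))))) (fR := fun x => u4 (u7 (u2 (u5 (u6 (x))))))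
    ((real_10).comp ((real_9).comp ((real_9).comp ((real_10).comp ((real_10).comp ((real_9).comp ((real_9).comp ((real_10).comp ((real_10).comp ((real_9).comp ((real_7).comp ((real_6).comp ((real_7).comp ((real_1).comp ((real_2).comp (real_4))))))))))))))))
    ((real_4).comp ((real_7).comp ((real_2).comp ((real_5).comp (real_6)))))
    (fun x hx => Nat.eq_of_beq_eq_true (SQ.allB_spec cert_13 x hx))
theorem real_14 : SQ.Real Kp u14 :=
  SQ.real_of_eq (fL := fun x => u10 (u10 (u10 (u10 (u10 (u2 (u4 (u5 (u1 (u2 (u5 (x)))))))))))) (fR := fun x => u0 (u2 (u7 (u1 (u2 (u1 (x)))))))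
    ((real_10).comp ((real_10).comp ((real_10).comp ((real_10).comp ((real_10).comp ((real_2).comp ((real_4).comp ((real_5).comp ((real_1).comp ((real_2).comp (real_5)))))))))))
    ((real_0).comp ((real_2).comp ((real_7).comp ((real_1).comp ((real_2).comp (real_1))))))
    (fun x hx => Nat.eq_of_beq_eq_true (SQ.allB_spec cert_14 x hx))
theorem real_15 : SQ.Real Kp u15 :=
  SQ.real_of_eq (fL := fun x => u14 (u12 (u14 (u13 (u13 (u11 (x))))))) (fR := fun x => u14 (u13 (u14 (u14 (u13 (x))))))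
    ((real_14).comp ((real_12).comp ((real_14).comp ((real_13).comp ((real_13).comp (real_11))))))
    ((real_14).comp ((real_13).comp ((real_14).comp ((real_14).comp (real_13)))))
    (fun x hx => Nat.eq_of_beq_eq_true (SQ.allB_spec cert_15 x hx))
theorem real_16 : SQ.Real Kp u16 :=
  SQ.real_of_eq (fL := fun x => u11 (u14 (u11 (u12 (u14 (u11 (u10 (u10 (u9 (u10 (u13 (u9 (u14 (x)))))))))))))) (fR := fun x => u10 (u13 (u10 (u13 (u14 (u9 (x)))))))
    ((real_11).comp ((real_14).comp ((real_11).comp ((real_12).comp ((real_14).comp ((real_11).comp ((real_10).comp ((real_10).comp ((real_9).comp ((real_10).comp ((real_13).comp ((real_9).comp (real_14)))))))))))))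
    ((real_10).comp ((real_13).comp ((real_10).comp ((real_13).comp ((real_14).comp (real_9))))))
    (fun x hx => Nat.eq_of_beq_eq_true (SQ.allB_spec cert_16 x hx))
theorem real_17 : SQ.Real Kp u17 :=
  SQ.real_of_eq (fL := fun x => u11 (u14 (u16 (u16 (u14 (u11 (u11 (x)))))))) (fR := fun x => u12 (u16 (u11 (u13 (u11 (u16 (x)))))))
    ((real_11).comp ((real_14).comp ((real_16).comp ((real_16).comp ((real_14).comp ((real_11).comp (real_11)))))))
    ((real_12).comp ((real_16).comp ((real_11).comp ((real_13).comp ((real_11).comp (real_16))))))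
    (fun x hx => Nat.eq_of_beq_eq_true (SQ.allB_spec cert_17 x hx))
theorem real_18 : SQ.Real Kp u18 :=
  SQ.real_of_eq (fL := fun x => u7 (u7 (u7 (u7 (u7 (u7 (u7 (u7 (u7 (u7 (u7 (u7 (u15 (u17 (u15 (u16 (u15 (u11 (u12 (u14 (u11 (u12 (u9 (u9 (u14 (u14 (u13 (u10 (u0 (u1 (u6 (x)))))))))))))))))))))))))))))))) (fR := fun x => x)
    ((real_7).comp ((real_7).comp ((real_7).comp ((real_7).comp ((real_7).comp ((real_7).comp ((real_7).comp ((real_7).comp ((real_7).comp ((real_7).comp ((real_7).comp ((real_7).comp ((real_15).comp ((real_17).comp ((real_15).comp ((real_16).comp ((real_15).comp ((real_11).comp ((real_12).comp ((real_14).comp ((real_11).comp ((real_12).comp ((real_9).comp ((real_9).comp ((real_14).comp ((real_14).comp ((real_13).comp ((real_10).comp ((real_0).comp ((real_1).comp (real_6)))))))))))))))))))))))))))))))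
    (SQ.real_id)
    (fun x hx => Nat.eq_of_beq_eq_true (SQ.allB_spec cert_18 x hx))
theorem real_19 : SQ.Real Kp u19 :=
  SQ.real_of_eq (fL := fun x => u18 (x)) (fR := fun x => x)
    (real_18)
    (SQ.real_id)
    (fun x hx => Nat.eq_of_beq_eq_true (SQ.allB_spec cert_19 x hx))
theorem real_20 : SQ.Real Kp u20 :=
  SQ.real_of_eq (fL := fun x => u7 (u1 (u0 (u1 (u7 (u1 (x))))))) (fR := fun x => u2 (u7 (u5 (u7 (u0 (x))))))
    ((real_7).comp ((real_1).comp ((real_0).comp ((real_1).comp ((real_7).comp (real_1))))))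
    ((real_2).comp ((real_7).comp ((real_5).comp ((real_7).comp (real_0)))))
    (fun x hx => Nat.eq_of_beq_eq_true (SQ.allB_spec cert_20 x hx))
theorem real_21 : SQ.Real Kp u21 :=
  SQ.real_of_eq (fL := fun x => u4 (u7 (u7 (u7 (u4 (u6 (x))))))) (fR := fun x => u4 (u7 (u0 (u4 (u6 (u7 (x)))))))
    ((real_4).comp ((real_7).comp ((real_7).comp ((real_7).comp ((real_4).comp (real_6))))))
    ((real_4).comp ((real_7).comp ((real_0).comp ((real_4).comp ((real_6).comp (real_7))))))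
    (fun x hx => Nat.eq_of_beq_eq_true (SQ.allB_spec cert_21 x hx))
theorem real_22 : SQ.Real Kp u22 :=
  SQ.real_of_eq (fL := fun x => u21 (u21 (u21 (u20 (u21 (u21 (u20 (u21 (u20 (u21 (u21 (u20 (x))))))))))))) (fR := fun x => u20 (u21 (u21 (u21 (u21 (u20 (u21 (u20 (u20 (u21 (x)))))))))))
    ((real_21).comp ((real_21).comp ((real_21).comp ((real_20).comp ((real_21).comp ((real_21).comp ((real_20).comp ((real_21).comp ((real_20).comp ((real_21).comp ((real_21).comp (real_20))))))))))))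
    ((real_20).comp ((real_21).comp ((real_21).comp ((real_21).comp ((real_21).comp ((real_20).comp ((real_21).comp ((real_20).comp ((real_20).comp (real_21))))))))))
    (fun x hx => Nat.eq_of_beq_eq_true (SQ.allB_spec cert_22 x hx))
theorem real_23 : SQ.Real Kp u23 :=
  SQ.real_of_eq (fL := fun x => u21 (u20 (u20 (u21 (u21 (u20 (u21 (u20 (u5 (u6 (u7 (u0 (x))))))))))))) (fR := fun x => u7 (u5 (x)))
    ((real_21).comp ((real_20).comp ((real_20).comp ((real_21).comp ((real_21).comp ((real_20).comp ((real_21).comp ((real_20).comp ((real_5).comp ((real_6).comp ((real_7).comp (real_0))))))))))))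
    ((real_7).comp (real_5))
    (fun x hx => Nat.eq_of_beq_eq_true (SQ.allB_spec cert_23 x hx))
theorem real_24 : SQ.Real Kp u24 :=
  SQ.real_of_eq (fL := fun x => u20 (u23 (u21 (u21 (u20 (u23 (u20 (u0 (u7 (u1 (u0 (u2 (u3 (x)))))))))))))) (fR := fun x => u0 (u2 (u7 (u1 (u2 (x))))))
    ((real_20).comp ((real_23).comp ((real_21).comp ((real_21).comp ((real_20).comp ((real_23).comp ((real_20).comp ((real_0).comp ((real_7).comp ((real_1).comp ((real_0).comp ((real_2).comp (real_3)))))))))))))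
    ((real_0).comp ((real_2).comp ((real_7).comp ((real_1).comp (real_2)))))
    (fun x hx => Nat.eq_of_beq_eq_true (SQ.allB_spec cert_24 x hx))
theorem real_25 : SQ.Real Kp u25 :=
  SQ.real_of_eq (fL := fun x => u24 (u24 (u22 (u22 (u20 (u23 (u24 (u23 (u21 (u21 (u24 (x)))))))))))) (fR := fun x => u20 (u24 (u24 (u21 (u23 (u20 (x)))))))
    ((real_24).comp ((real_24).comp ((real_22).comp ((real_22).comp ((real_20).comp ((real_23).comp ((real_24).comp ((real_23).comp ((real_21).comp ((real_21).comp (real_24)))))))))))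
    ((real_20).comp ((real_24).comp ((real_24).comp ((real_21).comp ((real_23).comp (real_20))))))
    (fun x hx => Nat.eq_of_beq_eq_true (SQ.allB_spec cert_25 x hx))
theorem real_26 : SQ.Real Kp u26 :=
  SQ.real_of_eq (fL := fun x => u22 (u22 (u23 (u23 (u24 (u25 (u24 (u20 (u20 (u24 (u24 (u20 (u20 (u21 (u21 (x)))))))))))))))) (fR := fun x => u20 (u21 (u24 (u21 (u20 (u20 (x)))))))
    ((real_22).comp ((real_22).comp ((real_23).comp ((real_23).comp ((real_24).comp ((real_25).comp ((real_24).comp ((real_20).comp ((real_20).comp ((real_24).comp ((real_24).comp ((real_20).comp ((real_20).comp ((real_21).comp (real_21)))))))))))))))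
    ((real_20).comp ((real_21).comp ((real_24).comp ((real_21).comp ((real_20).comp (real_20))))))
    (fun x hx => Nat.eq_of_beq_eq_true (SQ.allB_spec cert_26 x hx))
theorem real_27 : SQ.Real Kp u27 :=
  SQ.real_of_eq (fL := fun x => u25 (u25 (u26 (u26 (u26 (u22 (u23 (u26 (u24 (u23 (u21 (u20 (u21 (u23 (u23 (u0 (u4 (u3 (x))))))))))))))))))) (fR := fun x => x)
    ((real_25).comp ((real_25).comp ((real_26).comp ((real_26).comp ((real_26).comp ((real_22).comp ((real_23).comp ((real_26).comp ((real_24).comp ((real_23).comp ((real_21).comp ((real_20).comp ((real_21).comp ((real_23).comp ((real_23).comp ((real_0).comp ((real_4).comp (real_3))))))))))))))))))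
    (SQ.real_id)
    (fun x hx => Nat.eq_of_beq_eq_true (SQ.allB_spec cert_27 x hx))

theorem real_stepX0 : ∀ l, 2 ≤ l → l < LX0.ng + 2 → SQ.Real Kp (LX0.step l) := by
  intro l h1 h2
  have h3 : l < 10 := h2
  interval_cases l
  · exact real_0
  · exact real_1
  · exact real_2
  · exact real_3
  · exact real_4
  · exact real_5
  · exact real_6
  · exact real_7

theorem real_stepX1 : ∀ l, 2 ≤ l → l < LX1.ng + 2 → SQ.Real Kp (LX1.step l) := by
  intro l h1 h2
  have h3 : l < 6 := h2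
  interval_cases l
  · exact real_9
  · exact real_10
  · exact real_13
  · exact real_14

theorem real_stepX2 : ∀ l, 2 ≤ l → l < LX2.ng + 2 → SQ.Real Kp (LX2.step l) := by
  intro l h1 h2
  have h3 : l < 7 := h2
  interval_cases l
  · exact real_11
  · exact real_12
  · exact real_13
  · exact real_14
  · exact real_16

theorem real_stepX3 : ∀ l, 2 ≤ l → l < LX3.ng + 2 → SQ.Real Kp (LX3.step l) := by
  intro l h1 h2
  have h3 : l < 5 := h2
  interval_cases l
  · exact real_15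
  · exact real_16
  · exact real_17

theorem real_stepZ1 : ∀ l, 2 ≤ l → l < LZ1.ng + 2 → SQ.Real Kp (LZ1.step l) := by
  intro l h1 h2
  have h3 : l < 6 := h2
  interval_cases l
  · exact real_20
  · exact real_21
  · exact real_23
  · exact real_24

theorem real_stepZ2 : ∀ l, 2 ≤ l → l < LZ2.ng + 2 → SQ.Real Kp (LZ2.step l) := by
  intro l h1 h2
  have h3 : l < 7 := h2
  interval_cases l
  · exact real_22
  · exact real_23
  · exact real_24
  · exact real_25
  · exact real_26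

theorem real_stepZ3 : ∀ l, 2 ≤ l → l < LZ3.ng + 2 → SQ.Real Kp (LZ3.step l) := by
  intro l h1 h2
  have h3 : l < 5 := h2
  interval_cases l
  · exact real_23
  · exact real_25
  · exact real_26

theorem real_steps_X : ∀ L ∈ LsX, ∀ l, 2 ≤ l → l < L.ng + 2 → SQ.Real Kp (L.step l) := by
  intro L hL
  simp only [LsX, List.mem_cons, List.not_mem_nil, or_false] at hL
  rcases hL with rfl | rfl | rfl | rfl
  · exact real_stepX0
  · exact real_stepX1
  · exact real_stepX2
  · exact real_stepX3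

theorem real_steps_Z : ∀ L ∈ LsZ, ∀ l, 2 ≤ l → l < L.ng + 2 → SQ.Real Kp (L.step l) := by
  intro L hL
  simp only [LsZ, List.mem_cons, List.not_mem_nil, or_false] at hL
  rcases hL with rfl | rfl | rfl | rfl
  · exact real_stepX0
  · exact real_stepZ1
  · exact real_stepZ2
  · exact real_stepZ3

theorem card_Kp : Nat.card Kp = 448345497600 := by
  rw [← cardGp]
  exact (Nat.card_congr (MonoidHom.ofInjective φ_inj).toEquiv).symm

theorem chainX : SQ.ChainOK Kp LsX :=
  SQ.chainOK_of_checks Kp LsX real_steps_X lvOK_LsX fixOK_X (by rw [card_Kp]; exact size_X)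

theorem chainZ : SQ.ChainOK Kp LsZ :=
  SQ.chainOK_of_checks Kp LsZ real_steps_Z lvOK_LsZ fixOK_Z (by rw [card_Kp]; exact size_Z)

/-! ### generation by `x`, `n`, `z` -/

theorem real2_28 (K' : Subgroup (Equiv.Perm (Fin 1782))) (hx : SQ.Real K' u7) (hn : SQ.Real K' u18) (hz : SQ.Real K' u27) : SQ.Real K' u28 :=
  SQ.real_of_eq (fL := fun x => u18 (u18 (u7 (u18 (u7 (u27 (u7 (u27 (x))))))))) (fR := fun x => u7 (u27 (u7 (u18 (u27 (u7 (u7 (x))))))))
    ((hn).comp ((hn).comp ((hx).comp ((hn).comp ((hx).comp ((hz).comp ((hx).comp (hz))))))))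
    ((hx).comp ((hz).comp ((hx).comp ((hn).comp ((hz).comp ((hx).comp (hx)))))))
    (fun x hx => Nat.eq_of_beq_eq_true (SQ.allB_spec cert_28 x hx))
theorem real2_29 (K' : Subgroup (Equiv.Perm (Fin 1782))) (hx : SQ.Real K' u7) (hn : SQ.Real K' u18) (hz : SQ.Real K' u27) : SQ.Real K' u29 :=
  SQ.real_of_eq (fL := fun x => u7 (u27 (u27 (u7 (u18 (u7 (u27 (u7 (u18 (x)))))))))) (fR := fun x => u27 (u7 (u27 (u27 (u7 (u7 (u27 (x))))))))
    ((hx).comp ((hz).comp ((hz).comp ((hx).comp ((hn).comp ((hx).comp ((hz).comp ((hx).comp (hn)))))))))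
    ((hz).comp ((hx).comp ((hz).comp ((hz).comp ((hx).comp ((hx).comp (hz)))))))
    (fun x hx => Nat.eq_of_beq_eq_true (SQ.allB_spec cert_29 x hx))
theorem real2_30 (K' : Subgroup (Equiv.Perm (Fin 1782))) (hx : SQ.Real K' u7) (hn : SQ.Real K' u18) (hz : SQ.Real K' u27) : SQ.Real K' u30 :=
  SQ.real_of_eq (fL := fun x => u28 (u28 (u28 (u28 (u28 (u29 (u28 (u29 (u29 (u18 (u7 (u27 (u7 (u7 (u7 (u27 (u27 (u18 (x))))))))))))))))))) (fR := fun x => u7 (u7 (u27 (u27 (u7 (u7 (u27 (u27 (x)))))))))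
    ((real2_28 K' hx hn hz).comp ((real2_28 K' hx hn hz).comp ((real2_28 K' hx hn hz).comp ((real2_28 K' hx hn hz).comp ((real2_28 K' hx hn hz).comp ((real2_29 K' hx hn hz).comp ((real2_28 K' hx hn hz).comp ((real2_29 K' hx hn hz).comp ((real2_29 K' hx hn hz).comp ((hn).comp ((hx).comp ((hz).comp ((hx).comp ((hx).comp ((hx).comp ((hz).comp ((hz).comp (hn))))))))))))))))))
    ((hx).comp ((hx).comp ((hz).comp ((hz).comp ((hx).comp ((hx).comp ((hz).comp (hz))))))))
    (fun x hx => Nat.eq_of_beq_eq_true (SQ.allB_spec cert_30 x hx))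
theorem real2_31 (K' : Subgroup (Equiv.Perm (Fin 1782))) (hx : SQ.Real K' u7) (hn : SQ.Real K' u18) (hz : SQ.Real K' u27) : SQ.Real K' u31 :=
  SQ.real_of_eq (fL := fun x => u29 (u28 (u30 (u30 (u29 (u27 (u7 (u7 (u18 (u27 (u27 (u7 (u7 (u27 (x))))))))))))))) (fR := fun x => u18 (u7 (u7 (u18 (u27 (u7 (u27 (u7 (x)))))))))
    ((real2_29 K' hx hn hz).comp ((real2_28 K' hx hn hz).comp ((real2_30 K' hx hn hz).comp ((real2_30 K' hx hn hz).comp ((real2_29 K' hx hn hz).comp ((hz).comp ((hx).comp ((hx).comp ((hn).comp ((hz).comp ((hz).comp ((hx).comp ((hx).comp (hz))))))))))))))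
    ((hn).comp ((hx).comp ((hx).comp ((hn).comp ((hz).comp ((hx).comp ((hz).comp (hx))))))))
    (fun x hx => Nat.eq_of_beq_eq_true (SQ.allB_spec cert_31 x hx))
theorem real2_32 (K' : Subgroup (Equiv.Perm (Fin 1782))) (hx : SQ.Real K' u7) (hn : SQ.Real K' u18) (hz : SQ.Real K' u27) : SQ.Real K' u32 :=
  SQ.real_of_eq (fL := fun x => u31 (u30 (u31 (u30 (u31 (u31 (u30 (u30 (u28 (u28 (u29 (u30 (u29 (u28 (u28 (x)))))))))))))))) (fR := fun x => u28 (u31 (u30 (u29 (u29 (u29 (x)))))))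
    ((real2_31 K' hx hn hz).comp ((real2_30 K' hx hn hz).comp ((real2_31 K' hx hn hz).comp ((real2_30 K' hx hn hz).comp ((real2_31 K' hx hn hz).comp ((real2_31 K' hx hn hz).comp ((real2_30 K' hx hn hz).comp ((real2_30 K' hx hn hz).comp ((real2_28 K' hx hn hz).comp ((real2_28 K' hx hn hz).comp ((real2_29 K' hx hn hz).comp ((real2_30 K' hx hn hz).comp ((real2_29 K' hx hn hz).comp ((real2_28 K' hx hn hz).comp (real2_28 K' hx hn hz)))))))))))))))
    ((real2_28 K' hx hn hz).comp ((real2_31 K' hx hn hz).comp ((real2_30 K' hx hn hz).comp ((real2_29 K' hx hn hz).comp ((real2_29 K' hx hn hz).comp (real2_29 K' hx hn hz))))))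
    (fun x hx => Nat.eq_of_beq_eq_true (SQ.allB_spec cert_32 x hx))
theorem real2_33 (K' : Subgroup (Equiv.Perm (Fin 1782))) (hx : SQ.Real K' u7) (hn : SQ.Real K' u18) (hz : SQ.Real K' u27) : SQ.Real K' u33 :=
  SQ.real_of_eq (fL := fun x => u30 (u31 (u31 (u30 (u30 (u32 (u31 (u29 (u31 (u30 (u29 (u30 (u27 (u7 (u18 (u27 (u27 (u7 (u7 (u27 (u27 (x)))))))))))))))))))))) (fR := fun x => u7 (u27 (u7 (u27 (u7 (x))))))
    ((real2_30 K' hx hn hz).comp ((real2_31 K' hx hn hz).comp ((real2_31 K' hx hn hz).comp ((real2_30 K' hx hn hz).comp ((real2_30 K' hx hn hz).comp ((real2_32 K' hx hn hz).comp ((real2_31 K' hx hn hz).comp ((real2_29 K' hx hn hz).comp ((real2_31 K' hx hn hz).comp ((real2_30 K' hx hn hz).comp ((real2_29 K' hx hn hz).comp ((real2_30 K' hx hn hz).comp ((hz).comp ((hx).comp ((hn).comp ((hz).comp ((hz).comp ((hx).comp ((hx).comp ((hz).comp (hz)))))))))))))))))))))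
    ((hx).comp ((hz).comp ((hx).comp ((hz).comp (hx)))))
    (fun x hx => Nat.eq_of_beq_eq_true (SQ.allB_spec cert_33 x hx))
theorem real2_g0 (K' : Subgroup (Equiv.Perm (Fin 1782))) (hx : SQ.Real K' u7) (hn : SQ.Real K' u18) (hz : SQ.Real K' u27) : SQ.Real K' u0 :=
  SQ.real_of_eq (fL := fun x => u32 (u33 (u33 (u32 (u33 (u33 (u32 (u33 (u32 (u31 (u31 (u30 (u28 (u30 (u30 (u28 (u33 (u31 (u7 (u27 (u27 (u27 (u27 (u27 (x))))))))))))))))))))))))) (fR := fun x => x)
    ((real2_32 K' hx hn hz).comp ((real2_33 K' hx hn hz).comp ((real2_33 K' hx hn hz).comp ((real2_32 K' hx hn hz).comp ((real2_33 K' hx hn hz).comp ((real2_33 K' hx hn hz).comp ((real2_32 K' hx hn hz).comp ((real2_33 K' hx hn hz).comp ((real2_32 K' hx hn hz).comp ((real2_31 K' hx hn hz).comp ((real2_31 K' hx hn hz).comp ((real2_30 K' hx hn hz).comp ((real2_28 K' hx hn hz).comp ((real2_30 K' hx hn hz).comp ((real2_30 K' hx hn hz).comp ((real2_28 K' hx hn hz).comp ((real2_33 K' hx hn hz).comp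 ((real2_31 K' hx hn hz).comp ((hx).comp ((hz).comp ((hz).comp ((hz).comp ((hz).comp (hz))))))))))))))))))))))))
    (SQ.real_id)
    (fun x hx => Nat.eq_of_beq_eq_true (SQ.allB_spec genw_0 x hx))
theorem real2_g1 (K' : Subgroup (Equiv.Perm (Fin 1782))) (hx : SQ.Real K' u7) (hn : SQ.Real K' u18) (hz : SQ.Real K' u27) : SQ.Real K' u1 :=
  SQ.real_of_eq (fL := fun x => u32 (u32 (u32 (u33 (u33 (u32 (u33 (u30 (u33 (u33 (u32 (u32 (u28 (u33 (u30 (u31 (u28 (u18 (u18 (u27 (u27 (u27 (u7 (u27 (u27 (x)))))))))))))))))))))))))) (fR := fun x => x)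
    ((real2_32 K' hx hn hz).comp ((real2_32 K' hx hn hz).comp ((real2_32 K' hx hn hz).comp ((real2_33 K' hx hn hz).comp ((real2_33 K' hx hn hz).comp ((real2_32 K' hx hn hz).comp ((real2_33 K' hx hn hz).comp ((real2_30 K' hx hn hz).comp ((real2_33 K' hx hn hz).comp ((real2_33 K' hx hn hz).comp ((real2_32 K' hx hn hz).comp ((real2_32 K' hx hn hz).comp ((real2_28 K' hx hn hz).comp ((real2_33 K' hx hn hz).comp ((real2_30 K' hx hn hz).comp ((real2_31 K' hx hn hz).comp ((real2_28 K' hx hn hz).comp ((hn).comp ((hn).comp ((hz).comp ((hz).comp ((hz).comp ((hx).comp ((hz).comp (hz)))))))))))))))))))))))))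
    (SQ.real_id)
    (fun x hx => Nat.eq_of_beq_eq_true (SQ.allB_spec genw_1 x hx))
theorem real2_g2 (K' : Subgroup (Equiv.Perm (Fin 1782))) (hx : SQ.Real K' u7) (hn : SQ.Real K' u18) (hz : SQ.Real K' u27) : SQ.Real K' u2 :=
  SQ.real_of_eq (fL := fun x => u32 (u32 (u33 (u32 (u32 (u33 (u32 (u30 (u30 (u30 (u33 (u31 (u33 (u29 (u30 (u33 (u29 (u28 (u7 (u18 (u7 (u27 (u7 (u7 (u27 (x)))))))))))))))))))))))))) (fR := fun x => x)
    ((real2_32 K' hx hn hz).comp ((real2_32 K' hx hn hz).comp ((real2_33 K' hx hn hz).comp ((real2_32 K' hx hn hz).comp ((real2_32 K' hx hn hz).comp ((real2_33 K' hx hn hz).comp ((real2_32 K' hx hn hz).comp ((real2_30 K' hx hn hz).comp ((real2_30 K' hx hn hz).comp ((real2_30 K' hx hn hz).comp ((real2_33 K' hx hn hz).comp ((real2_31 K' hx hn hz).comp ((real2_33 K' hx hn hz).comp ((real2_29 K' hx hn hz).comp ((real2_30 K' hx hn hz).comp ((real2_33 K' hx hn hz).comp ((real2_29 K' hx hn hz).comp ((real2_28 K' hx hn hz).comp ((hx).comp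 ((hn).comp ((hx).comp ((hz).comp ((hx).comp ((hx).comp (hz)))))))))))))))))))))))))
    (SQ.real_id)
    (fun x hx => Nat.eq_of_beq_eq_true (SQ.allB_spec genw_2 x hx))
theorem real2_g3 (K' : Subgroup (Equiv.Perm (Fin 1782))) (hx : SQ.Real K' u7) (hn : SQ.Real K' u18) (hz : SQ.Real K' u27) : SQ.Real K' u3 :=
  SQ.real_of_eq (fL := fun x => u32 (u32 (u30 (u32 (u31 (u31 (u28 (u33 (u30 (u33 (u29 (u27 (u7 (u7 (u7 (u27 (u27 (u27 (x))))))))))))))))))) (fR := fun x => x)
    ((real2_32 K' hx hn hz).comp ((real2_32 K' hx hn hz).comp ((real2_30 K' hx hn hz).comp ((real2_32 K' hx hn hz).comp ((real2_31 K' hx hn hz).comp ((real2_31 K' hx hn hz).comp ((real2_28 K' hx hn hz).comp ((real2_33 K' hx hn hz).comp ((real2_30 K' hx hn hz).comp ((real2_33 K' hx hn hz).comp ((real2_29 K' hx hn hz).comp ((hz).comp ((hx).comp ((hx).comp ((hx).comp ((hz).comp ((hz).comp (hz))))))))))))))))))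
    (SQ.real_id)
    (fun x hx => Nat.eq_of_beq_eq_true (SQ.allB_spec genw_3 x hx))
theorem real2_g4 (K' : Subgroup (Equiv.Perm (Fin 1782))) (hx : SQ.Real K' u7) (hn : SQ.Real K' u18) (hz : SQ.Real K' u27) : SQ.Real K' u4 :=
  SQ.real_of_eq (fL := fun x => u32 (u32 (u33 (u32 (u32 (u33 (u32 (u30 (u33 (u33 (u30 (u30 (u30 (u31 (u28 (u28 (u31 (u28 (u29 (u33 (u7 (u27 (u7 (x)))))))))))))))))))))))) (fR := fun x => x)
    ((real2_32 K' hx hn hz).comp ((real2_32 K' hx hn hz).comp ((real2_33 K' hx hn hz).comp ((real2_32 K' hx hn hz).comp ((real2_32 K' hx hn hz).comp ((real2_33 K' hx hn hz).comp ((real2_32 K' hx hn hz).comp ((real2_30 K' hx hn hz).comp ((real2_33 K' hx hn hz).comp ((real2_33 K' hx hn hz).comp ((real2_30 K' hx hn hz).comp ((real2_30 K' hx hn hz).comp ((real2_30 K' hx hn hz).comp ((real2_31 K' hx hn hz).comp ((real2_28 K' hx hn hz).comp ((real2_28 K' hx hn hz).comp ((real2_31 K' hx hn hz).comp ((real2_28 K' hx hn hz).comp ((real2_29 K' hx hn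 hz).comp ((real2_33 K' hx hn hz).comp ((hx).comp ((hz).comp (hx)))))))))))))))))))))))
    (SQ.real_id)
    (fun x hx => Nat.eq_of_beq_eq_true (SQ.allB_spec genw_4 x hx))
theorem real2_g5 (K' : Subgroup (Equiv.Perm (Fin 1782))) (hx : SQ.Real K' u7) (hn : SQ.Real K' u18) (hz : SQ.Real K' u27) : SQ.Real K' u5 :=
  SQ.real_of_eq (fL := fun x => u33 (u33 (u32 (u32 (u32 (u33 (u33 (u32 (u30 (u31 (u31 (u30 (u31 (u31 (u29 (u29 (u33 (u30 (u30 (u18 (u27 (u27 (u27 (u27 (u7 (u18 (u27 (x)))))))))))))))))))))))))))) (fR := fun x => x)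
    ((real2_33 K' hx hn hz).comp ((real2_33 K' hx hn hz).comp ((real2_32 K' hx hn hz).comp ((real2_32 K' hx hn hz).comp ((real2_32 K' hx hn hz).comp ((real2_33 K' hx hn hz).comp ((real2_33 K' hx hn hz).comp ((real2_32 K' hx hn hz).comp ((real2_30 K' hx hn hz).comp ((real2_31 K' hx hn hz).comp ((real2_31 K' hx hn hz).comp ((real2_30 K' hx hn hz).comp ((real2_31 K' hx hn hz).comp ((real2_31 K' hx hn hz).comp ((real2_29 K' hx hn hz).comp ((real2_29 K' hx hn hz).comp ((real2_33 K' hx hn hz).comp ((real2_30 K' hx hn hz).comp ((real2_30 K' hx hn hz).comp ((hn).comp ((hz).comp ((hz).comp ((hz).comp ((hz).comp ((hx).comp ((hn).comp (hz)))))))))))))))))))))))))))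
    (SQ.real_id)
    (fun x hx => Nat.eq_of_beq_eq_true (SQ.allB_spec genw_5 x hx))
theorem real2_g6 (K' : Subgroup (Equiv.Perm (Fin 1782))) (hx : SQ.Real K' u7) (hn : SQ.Real K' u18) (hz : SQ.Real K' u27) : SQ.Real K' u6 :=
  SQ.real_of_eq (fL := fun x => u33 (u33 (u32 (u32 (u33 (u32 (u33 (u30 (u33 (u30 (u31 (u31 (u32 (u29 (u31 (u33 (u30 (u29 (u7 (u27 (u7 (u18 (u18 (u18 (x))))))))))))))))))))))))) (fR := fun x => x)
    ((real2_33 K' hx hn hz).comp ((real2_33 K' hx hn hz).comp ((real2_32 K' hx hn hz).comp ((real2_32 K' hx hn hz).comp ((real2_33 K' hx hn hz).comp ((real2_32 K' hx hn hz).comp ((real2_33 K' hx hn hz).comp ((real2_30 K' hx hn hz).comp ((real2_33 K' hx hn hz).comp ((real2_30 K' hx hn hz).comp ((real2_31 K' hx hn hz).comp ((real2_31 K' hx hn hz).comp ((real2_32 K' hx hn hz).comp ((real2_29 K' hx hn hz).comp ((real2_31 K' hx hn hz).comp ((real2_33 K' hx hn hz).comp ((real2_30 K' hx hn hz).comp ((real2_29 K' hx hn hz).comp ((hx).comp ((hz).comp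 ((hx).comp ((hn).comp ((hn).comp (hn))))))))))))))))))))))))
    (SQ.real_id)
    (fun x hx => Nat.eq_of_beq_eq_true (SQ.allB_spec genw_6 x hx))

end Cfsg.Agent.Lib.Helper8.SuO
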