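import Cfsg.Agent.Lib.Helper8.SuO7
import Cfsg.Agent.Lib.Helper8.SuO4
import Cfsg.Agent.Lib.Helper8.OutG4

set_option autoImplicit false
set_option maxRecDepth 100000

/-! The presented group (The Suzuki sporadic group): an element `x` of order 13, an element `n` normalising
`⟨x⟩`, and an element `z` in the centraliser of a power `t` of `n`. -/

namespace Cfsg.Agent.Lib.Helper8.SuO

open Cfsg.Spor Cfsg.Agent.Lib.Helper4.TC Cfsg.Agent.Lib.Helper4.TCD Cfsg.Agent.Lib.Helper4.TC.Log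

def xW : List ℕ := [0, 1, 2, 1, 3, 4, 5]

/-- an element of order 13 -/
noncomputable def xE : Gp := wordP PSuz.P.gR xW

theorem gN_xE (i : ℕ) (hi : i < 1782) : SQ.gN (φ xE) i = u7 i := by
  rw [xE, gN_word xW (by decide) i hi]
  exact Nat.eq_of_beq_eq_true (SQ.allB_spec cert_7 i hi)

theorem exists_nE : ∃ n : Gp, ∀ i, i < 1782 → SQ.gN (φ n) i = u18 i := by
  obtain ⟨ν, ⟨n', rfl⟩, hν⟩ := real_18
  exact ⟨n', hν⟩

/-- an element normalising `⟨x⟩` -/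
noncomputable def nE : Gp := Classical.choose exists_nE

theorem gN_nE (i : ℕ) (hi : i < 1782) : SQ.gN (φ nE) i = u18 i :=
  Classical.choose_spec exists_nE i hi

theorem exists_zE : ∃ z : Gp, ∀ i, i < 1782 → SQ.gN (φ z) i = u27 i := by
  obtain ⟨ν, ⟨z', rfl⟩, hν⟩ := real_27
  exact ⟨z', hν⟩

/-- an element centralising `t` -/
noncomputable def zE : Gp := Classical.choose exists_zE

theorem gN_zE (i : ℕ) (hi : i < 1782) : SQ.gN (φ zE) i = u27 i :=
  Classical.choose_spec exists_zE i hi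

theorem u_lt {f : ℕ → ℕ} (h : SQ.Real Kp f) {i : ℕ} (hi : i < 1782) : f i < 1782 := h.lt hi

theorem mem_Kp (g : Gp) : φ g ∈ Kp := ⟨g, rfl⟩

/-- an element acting trivially is trivial -/
theorem eq_one_of_gN (g : Gp) (h : ∀ i, i < 1782 → SQ.gN (φ g) i = i) : g = 1 := by
  apply φ_inj
  rw [map_one]
  exact SQ.eq_one_of_gN h

theorem eq_of_gN (g g' : Gp) (h : ∀ i, i < 1782 → SQ.gN (φ g) i = SQ.gN (φ g') i) : g = g' := by
  apply φ_inj
  exact SQ.ext_gN h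

theorem gN_pow_iter (g : Gp) (f : ℕ → ℕ) (hf : ∀ i, i < 1782 → SQ.gN (φ g) i = f i) (n : ℕ) :
    ∀ i, i < 1782 → SQ.gN (φ (g ^ n)) i = f^[n] i ∧ f^[n] i < 1782 := by
  induction n with
  | zero =>
    intro i hi
    rw [pow_zero, map_one, SQ.gN_one]
    exact ⟨rfl, hi⟩
  | succ n ih =>
    intro i hi
    rw [pow_succ, map_mul, SQ.gN_mul, hf i hi, Function.iterate_succ_apply]
    have h1 : f i < 1782 := by rw [← hf i hi]; exact SQ.gN_lt _ hi
    exact ih (f i) h1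

/-- the power of `n` whose centraliser is used -/
noncomputable def tE : Gp := nE ^ 1

theorem gN_tE (i : ℕ) (hi : i < 1782) : SQ.gN (φ tE) i = u19 i := by
  rw [tE, (gN_pow_iter nE u18 gN_nE 1 i hi).1]
  exact Nat.eq_of_beq_eq_true (SQ.allB_spec cert_19 i hi)

theorem xE_pow : xE ^ 13 = 1 := by
  apply eq_one_of_gN
  intro i hi
  rw [(gN_pow_iter xE u7 gN_xE 13 i hi).1]
  exact Nat.eq_of_beq_eq_true (SQ.allB_spec x_ord i hi)

theorem xE_ne_one : xE ≠ 1 := by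
  intro h
  have := gN_xE 787 (by decide)
  rw [h, map_one, SQ.gN_one, x_ne] at this
  exact absurd this (by decide)

instance : Fact (Nat.Prime 13) := ⟨by norm_num⟩

theorem orderOf_xE : orderOf xE = 13 := orderOf_eq_prime xE_pow xE_ne_one

instance : Finite Gp := finGp

theorem fact_p : (Nat.card Gp).factorization 13 = 1 := by
  rw [cardGp, show 448345497600 = 13 * 34488115200 from by norm_num]
  rw [Nat.factorization_mul (by norm_num) (by norm_num), Finsupp.add_apply,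
    (show Nat.Prime 13 by norm_num).factorization_self,
    Nat.factorization_eq_zero_of_not_dvd (by norm_num)]

theorem gN_xE_pow (n : ℕ) (i : ℕ) (hi : i < 1782) : SQ.gN (φ (xE ^ n)) i = u7^[n] i :=
  (gN_pow_iter xE u7 gN_xE n i hi).1

/-- `n` normalises `⟨x⟩` -/
theorem hxn : xE * nE = nE * xE ^ 4 := by
  apply eq_of_gN
  intro i hi
  have h1 : u18 i < 1782 := u_lt real_18 hi
  have h2 : u7^[4] i < 1782 := (gN_pow_iter xE u7 gN_xE 4 i hi).2
  rw [map_mul, map_mul, SQ.gN_mul, SQ.gN_mul, gN_nE i hi, gN_xE _ h1, gN_xE_pow 4 i hi,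
    gN_nE _ h2]
  exact Nat.eq_of_beq_eq_true (SQ.allB_spec nu_ok i hi)

theorem hzt : zE * tE = tE * zE := by
  apply eq_of_gN
  intro i hi
  rw [map_mul, map_mul, SQ.gN_mul, SQ.gN_mul, gN_tE i hi, gN_zE _ (u_lt real_19 hi),
    gN_zE i hi, gN_tE _ (u_lt real_27 hi)]
  exact Nat.eq_of_beq_eq_true (SQ.allB_spec zt_comm i hi)

theorem harith_conj : ∀ j : ℕ, j < 13 → ∃ i : ℕ, (4 * i) % 13 = (4 * j + i) % 13 := by
  intro j hj
  interval_cases j
  · exact ⟨0, rfl⟩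
  · exact ⟨10, rfl⟩
  · exact ⟨7, rfl⟩
  · exact ⟨4, rfl⟩
  · exact ⟨1, rfl⟩
  · exact ⟨11, rfl⟩
  · exact ⟨8, rfl⟩
  · exact ⟨5, rfl⟩
  · exact ⟨2, rfl⟩
  · exact ⟨12, rfl⟩
  · exact ⟨9, rfl⟩
  · exact ⟨6, rfl⟩
  · exact ⟨3, rfl⟩

theorem hconj : ∀ j : ℕ, ∃ i : ℕ, xE ^ i * nE * (xE ^ i)⁻¹ = xE ^ j * nE :=
  OutG.conj_of_arith (by norm_num) xE_pow hxn harith_conj

/-- a prefix of a relation pinning down `z` -/
noncomputable def P0 : Gp := xE ^ 2

theorem gN_P0 (q : ℕ) (hq : q < 1782) : SQ.gN (φ P0) q = pre0 q := by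
  unfold P0
  exact (gN_pow_iter xE u7 gN_xE 2 q hq).1

theorem gN_Pz0 (q : ℕ) (hq : q < 1782) : SQ.gN (φ (P0 * zE)) q = pre0 (u27 q) := by
  rw [map_mul φ P0 zE, SQ.gN_mul, gN_zE q hq, gN_P0 _ (u_lt real_27 hq)]

theorem hrel0 : (P0 * zE) ^ 7 = 1 := by
  apply eq_one_of_gN
  intro i hi
  rw [(gN_pow_iter (P0 * zE) (fun q => pre0 (u27 q)) gN_Pz0 7 i hi).1]
  exact Nat.eq_of_beq_eq_true (SQ.allB_spec rel_0 i hi)

/-- a prefix of a relation pinning down `z` -/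
noncomputable def P1 : Gp := xE * nE

theorem gN_P1 (q : ℕ) (hq : q < 1782) : SQ.gN (φ P1) q = pre1 q := by
  unfold P1
  rw [map_mul, SQ.gN_mul, gN_nE q hq, gN_xE _ (u_lt real_18 hq)]
  rfl

theorem gN_Pz1 (q : ℕ) (hq : q < 1782) : SQ.gN (φ (P1 * zE)) q = pre1 (u27 q) := by
  rw [map_mul φ P1 zE, SQ.gN_mul, gN_zE q hq, gN_P1 _ (u_lt real_27 hq)]

theorem hrel1 : (P1 * zE) ^ 7 = 1 := by
  apply eq_one_of_gN
  intro i hi
  rw [(gN_pow_iter (P1 * zE) (fun q => pre1 (u27 q)) gN_Pz1 7 i hi).1]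
  exact Nat.eq_of_beq_eq_true (SQ.allB_spec rel_1 i hi)

theorem exists_n : ∃ n : Gp, n * xE * n⁻¹ = xE ^ 4 := by
  refine ⟨nE⁻¹, ?_⟩
  calc nE⁻¹ * xE * nE⁻¹⁻¹ = nE⁻¹ * (xE * nE) := by group
    _ = nE⁻¹ * (nE * xE ^ 4) := by rw [hxn]
    _ = xE ^ 4 := by group

/-- the image of `x` under the diagram automorphism -/
noncomputable def xsE : Gp := wordP PSuz.P.gR (xW.map swN)

theorem sig_xE : sig xE = xsE := sig_word xW (by decide)

theorem gN_xsE (i : ℕ) (hi : i < 1782) : SQ.gN (φ xsE) i = u8 i := by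
  rw [xsE, gN_word _ (by decide) i hi]
  exact Nat.eq_of_beq_eq_true (SQ.allB_spec cert_8 i hi)

theorem xsE_pow : xsE ^ 13 = 1 := by
  rw [← sig_xE, ← map_pow, xE_pow, map_one]

/-! ### the diagram automorphism does not preserve the class of `x` -/

theorem not_conj : ¬ ∃ k : Gp, sig xE = k * xE * k⁻¹ := by
  rintro ⟨k, hk⟩
  rw [sig_xE] at hk
  have hc : φ k * φ xE = φ xsE * φ k := by
    rw [← map_mul, ← map_mul, hk]
    congr 1
    group
  have h := SQ.transporter_test chainX u7 u8 (φ xE) (φ xsE) gN_xE gN_xsE 787 (by decide) baseX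
    (mem_Kp k) hc [1, u8 1, 2, u8 2, 3, u8 3] (by
      intro x hx
      simp only [List.mem_cons, List.not_mem_nil, or_false] at hx
      rcases hx with rfl | rfl | rfl | rfl | rfl | rfl
      · decide
      · exact u_lt real_8 (by decide)
      · decide
      · exact u_lt real_8 (by decide)
      · decide
      · exact u_lt real_8 (by decide))
  have hp : passN (SQ.gN (φ k) 787) = true := by
    unfold passN
    have e : LsX.length = 4 := rfl
    rw [e] at h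
    rw [h.1]
    show (Nat.beq (SQ.gN (φ k)⁻¹ (u8 1)) (u7 (SQ.gN (φ k)⁻¹ 1)) &&
      Nat.beq (SQ.gN (φ k)⁻¹ (u8 2)) (u7 (SQ.gN (φ k)⁻¹ 2)) &&
      Nat.beq (SQ.gN (φ k)⁻¹ (u8 3)) (u7 (SQ.gN (φ k)⁻¹ 3))) = true
    rw [h.2 1 (by decide), h.2 2 (by decide), h.2 3 (by decide), Nat.beq_refl, Nat.beq_refl, Nat.beq_refl]
    rfl
  have := passN_all _ (SQ.gN_lt (φ k) (by decide : 787 < 1782))
  rw [hp] at this
  exact absurd this (by decide)

/-! ### every automorphism maps `x` into the class of `x` or of its image -/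

theorem real_muF : SQ.Real Kp muF :=
  (real_16).comp ((real_15).comp ((real_15).comp ((real_11).comp ((real_11).comp ((real_12).comp ((real_13).comp ((real_14).comp ((real_9).comp ((real_13).comp ((real_4).comp ((real_7).comp ((real_7).comp (real_6)))))))))))))

theorem exists_m : ∃ m : Gp, sig xE = m * xE ^ 8 * m⁻¹ := by
  obtain ⟨μ, ⟨m', rfl⟩, hμ⟩ := real_muF
  refine ⟨m'⁻¹, ?_⟩
  have e : xE * m' = m' * xsE ^ 5 := by
    apply eq_of_gN
    intro i hi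
    have h1 : muF i < 1782 := by rw [← hμ i hi]; exact SQ.gN_lt _ hi
    have h2 : u8^[5] i < 1782 := (gN_pow_iter xsE u8 gN_xsE 5 i hi).2
    rw [map_mul, map_mul, SQ.gN_mul, SQ.gN_mul, hμ i hi, gN_xE _ h1,
      (gN_pow_iter xsE u8 gN_xsE 5 i hi).1, hμ _ h2]
    exact Nat.eq_of_beq_eq_true (SQ.allB_spec mu_ok i hi)
  have e2 : xsE ^ 5 = m'⁻¹ * xE * m' := by
    calc xsE ^ 5 = m'⁻¹ * (m' * xsE ^ 5) := by group
      _ = m'⁻¹ * (xE * m') := by rw [e]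
      _ = m'⁻¹ * xE * m' := by group
  have e3 : xsE = (xsE ^ 5) ^ 8 := by
    rw [← pow_mul, show 5 * 8 = 13 * 3 + 1 from rfl, pow_add, pow_mul, xsE_pow, one_pow, one_mul,
      pow_one]
  rw [sig_xE, e3, e2]
  have : m'⁻¹ * xE * m' = m'⁻¹ * xE * m'⁻¹⁻¹ := by group
  rw [this, conj_pow]

theorem arith_p : ∀ j, j < 13 → j ≠ 0 → ∃ i, j = 4 ^ i % 13 ∨ j = 8 * 4 ^ i % 13 := by
  intro j hj h0
  interval_cases j
  · exact absurd rfl h0
  · exact ⟨0, Or.inl rfl⟩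
  · exact ⟨5, Or.inr rfl⟩
  · exact ⟨2, Or.inl rfl⟩
  · exact ⟨1, Or.inl rfl⟩
  · exact ⟨3, Or.inr rfl⟩
  · exact ⟨1, Or.inr rfl⟩
  · exact ⟨4, Or.inr rfl⟩
  · exact ⟨0, Or.inr rfl⟩
  · exact ⟨4, Or.inl rfl⟩
  · exact ⟨5, Or.inl rfl⟩
  · exact ⟨2, Or.inr rfl⟩
  · exact ⟨3, Or.inl rfl⟩

theorem h1 (α : MulAut Gp) :
    (∃ k : Gp, α xE = k * xE * k⁻¹) ∨ (∃ k : Gp, α xE = k * sig xE * k⁻¹) :=
  OutG.class_dichotomy 13 fact_p xE orderOf_xE sig 4 8 exists_n exists_m arith_p α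

end Cfsg.Agent.Lib.Helper8.SuO
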