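import Mathlib
import Cfsg.Prelude.Def_RootSubgroups
import Cfsg.Agent.Lib.Helper5.SympBridge
import Cfsg.Agent.Lib.Helper8.Rs1

set_option autoImplicit false
set_option linter.unusedSimpArgs false

namespace Cfsg.Agent.Lib.Helper8.Sy

open Matrix Cfsg
open Cfsg.Agent.Lib.Helper5.SympTv Cfsg.Agent.Lib.Helper5.SympBridge Cfsg.Agent.Lib.Helper8.Rs

variable {F : Type*} [Field F] (m : ℕ)

/-- the symplectic transvection as an element of the symplectic group -/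
def tel (p : Fin m ⊕ Fin m → F) (c : F) : symplecticGroup (Fin m) F :=
  ⟨sympTransvection m p c, sympTransvection_mem m p c⟩

theorem tel_coe (p : Fin m ⊕ Fin m → F) (c : F) :
    ((tel m p c : symplecticGroup (Fin m) F) : Matrix (Fin m ⊕ Fin m) (Fin m ⊕ Fin m) F) =
      sympTransvection m p c := rfl

theorem tel_mul (p : Fin m ⊕ Fin m → F) (c d : F) : tel m p c * tel m p d = tel m p (c + d) :=
  Subtype.ext (sympTransvection_mul m p c d)

theorem tel_zero (p : Fin m ⊕ Fin m → F) : tel m p (0 : F) = 1 := by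
  apply Subtype.ext
  rw [tel_coe]
  unfold sympTransvection
  rw [zero_smul, add_zero]
  rfl

theorem tel_inv (p : Fin m ⊕ Fin m → F) (c : F) : (tel m p c)⁻¹ = tel m p (-c) :=
  inv_eq_of_mul_eq_one_right (by rw [tel_mul, add_neg_cancel, tel_zero])

theorem tel_mulVec (p : Fin m ⊕ Fin m → F) (c : F) (x : Fin m ⊕ Fin m → F) :
    ((tel m p c : symplecticGroup (Fin m) F) : Matrix (Fin m ⊕ Fin m) (Fin m ⊕ Fin m) F) *ᵥ x =
      x + (c * sympForm m F x p) • p := sympTransvection_mulVec m p c x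

theorem exists_partner {p : Fin m ⊕ Fin m → F} (hp : p ≠ 0) : ∃ v, sympForm m F p v = 1 := by
  by_contra hcon
  push Not at hcon
  apply hp
  apply eq_zero_of_sympForm_right m p
  intro v
  by_contra hv
  apply hcon ((sympForm m F p v)⁻¹ • v)
  rw [sympForm_smul_right, inv_mul_cancel₀ hv]

theorem tel_eq_one_iff {p : Fin m ⊕ Fin m → F} (hp : p ≠ 0) (c : F) : tel m p c = 1 ↔ c = 0 := by
  constructor
  · intro h
    obtain ⟨v, hv⟩ := exists_partner m hp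
    have h1 := tel_mulVec m p c v
    rw [h] at h1
    have h2 : ((1 : symplecticGroup (Fin m) F) : Matrix (Fin m ⊕ Fin m) (Fin m ⊕ Fin m) F) = 1 :=
      rfl
    rw [h2, one_mulVec, sympForm_swap, hv, mul_neg, mul_one] at h1
    have h3 : (-c) • p = 0 := by
      have := congrArg (fun x => x - v) h1
      simpa using this.symm
    rcases smul_eq_zero.1 h3 with h4 | h4
    · exact neg_eq_zero.1 h4
    · exact absurd h4 hp
  · rintro rfl
    exact tel_zero m p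

/-- the root subgroup `T(p)` -/
def Tp (p : Fin m ⊕ Fin m → F) : Subgroup (symplecticGroup (Fin m) F) where
  carrier := {t | ∃ c, t = tel m p c}
  mul_mem' := by
    rintro _ _ ⟨c, rfl⟩ ⟨d, rfl⟩
    exact ⟨c + d, tel_mul m p c d⟩
  one_mem' := ⟨0, (tel_zero m p).symm⟩
  inv_mem' := by
    rintro _ ⟨c, rfl⟩
    exact ⟨-c, tel_inv m p c⟩

theorem mem_Tp {p : Fin m ⊕ Fin m → F} {t : symplecticGroup (Fin m) F} :
    t ∈ Tp m p ↔ ∃ c, t = tel m p c := Iff.rfl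

theorem tel_mem (p : Fin m ⊕ Fin m → F) (c : F) : tel m p c ∈ Tp m p := ⟨c, rfl⟩

theorem Tp_comm (p : Fin m ⊕ Fin m → F) : ∀ x ∈ Tp m p, ∀ y ∈ Tp m p, x * y = y * x := by
  rintro _ ⟨c, rfl⟩ _ ⟨d, rfl⟩
  rw [tel_mul, tel_mul, add_comm]

theorem Tp_ne_bot {p : Fin m ⊕ Fin m → F} (hp : p ≠ 0) : Tp m p ≠ ⊥ := by
  intro h0
  have h1 : tel m p (1 : F) ∈ (⊥ : Subgroup (symplecticGroup (Fin m) F)) := h0 ▸ tel_mem m p 1
  rw [Subgroup.mem_bot, tel_eq_one_iff m hp] at h1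
  exact one_ne_zero h1

theorem closure_stmt (p : Fin m ⊕ Fin m → F) :
    Subgroup.closure {g : symplecticGroup (Fin m) F | ∃ c : F, ∀ v : Fin m ⊕ Fin m → F,
      (g : Matrix (Fin m ⊕ Fin m) (Fin m ⊕ Fin m) F) *ᵥ v =
        v + (c * (v ⬝ᵥ (Matrix.J (Fin m) F *ᵥ p))) • p} = Tp m p := by
  have : {g : symplecticGroup (Fin m) F | ∃ c : F, ∀ v : Fin m ⊕ Fin m → F,
      (g : Matrix (Fin m ⊕ Fin m) (Fin m ⊕ Fin m) F) *ᵥ v =
        v + (c * (v ⬝ᵥ (Matrix.J (Fin m) F *ᵥ p))) • p} =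
      ((Tp m p : Subgroup (symplecticGroup (Fin m) F)) : Set (symplecticGroup (Fin m) F)) := by
    ext g
    rw [SetLike.mem_coe, mem_Tp]
    constructor
    · rintro ⟨c, hc⟩
      refine ⟨c, Subtype.ext ?_⟩
      rw [ext_iff_mulVec]
      intro v
      rw [hc v, tel_mulVec]
      rfl
    · rintro ⟨c, rfl⟩
      exact ⟨c, fun v => tel_mulVec m p c v⟩
  rw [this, Subgroup.closure_eq]

theorem coe_mul_inv_mulVec (g : symplecticGroup (Fin m) F) (v : Fin m ⊕ Fin m → F) :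
    (g : Matrix (Fin m ⊕ Fin m) (Fin m ⊕ Fin m) F) *ᵥ
      (((g⁻¹ : symplecticGroup (Fin m) F) : Matrix (Fin m ⊕ Fin m) (Fin m ⊕ Fin m) F) *ᵥ v) = v := by
  rw [mulVec_mulVec]
  have : (g : Matrix (Fin m ⊕ Fin m) (Fin m ⊕ Fin m) F) *
      ((g⁻¹ : symplecticGroup (Fin m) F) : Matrix (Fin m ⊕ Fin m) (Fin m ⊕ Fin m) F) = 1 := by
    have h := mul_inv_cancel g
    exact congrArg Subtype.val h
  rw [this, one_mulVec]

theorem conj_tel (g : symplecticGroup (Fin m) F) (p : Fin m ⊕ Fin m → F) (c : F) :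
    g * tel m p c * g⁻¹ =
      tel m ((g : Matrix (Fin m ⊕ Fin m) (Fin m ⊕ Fin m) F) *ᵥ p) c := by
  apply Subtype.ext
  rw [ext_iff_mulVec]
  intro v
  have e : ((g * tel m p c * g⁻¹ : symplecticGroup (Fin m) F) :
      Matrix (Fin m ⊕ Fin m) (Fin m ⊕ Fin m) F) =
      (g : Matrix (Fin m ⊕ Fin m) (Fin m ⊕ Fin m) F) *
        ((tel m p c : symplecticGroup (Fin m) F) : Matrix (Fin m ⊕ Fin m) (Fin m ⊕ Fin m) F) *
        ((g⁻¹ : symplecticGroup (Fin m) F) : Matrix (Fin m ⊕ Fin m) (Fin m ⊕ Fin m) F) := rfl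
  rw [e, ← mulVec_mulVec, ← mulVec_mulVec, tel_mulVec, tel_mulVec, mulVec_add, mulVec_smul,
    coe_mul_inv_mulVec]
  congr 3
  rw [← sympForm_mulVec m g.2, coe_mul_inv_mulVec]

theorem conjBy_Tp (g : symplecticGroup (Fin m) F) (p : Fin m ⊕ Fin m → F) :
    conjBy (Tp m p) g = Tp m ((g : Matrix (Fin m ⊕ Fin m) (Fin m ⊕ Fin m) F) *ᵥ p) := by
  ext x
  constructor
  · rintro ⟨a, ⟨c, rfl⟩, rfl⟩
    refine ⟨c, ?_⟩
    rw [← conj_tel m g p c]
    rfl
  · rintro ⟨c, rfl⟩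
    refine ⟨tel m p c, ⟨c, rfl⟩, ?_⟩
    rw [← conj_tel m g p c]
    rfl

theorem tel_comm {p q : Fin m ⊕ Fin m → F} (h : sympForm m F p q = 0) (c d : F) :
    tel m p c * tel m q d = tel m q d * tel m p c := by
  have h' : sympForm m F q p = 0 := by rw [sympForm_swap, h, neg_zero]
  apply Subtype.ext
  rw [ext_iff_mulVec]
  intro v
  have e1 : ((tel m p c * tel m q d : symplecticGroup (Fin m) F) :
      Matrix (Fin m ⊕ Fin m) (Fin m ⊕ Fin m) F) = (tel m p c).1 * (tel m q d).1 := rfl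
  have e2 : ((tel m q d * tel m p c : symplecticGroup (Fin m) F) :
      Matrix (Fin m ⊕ Fin m) (Fin m ⊕ Fin m) F) = (tel m q d).1 * (tel m p c).1 := rfl
  rw [e1, e2, ← mulVec_mulVec, ← mulVec_mulVec, tel_mulVec, tel_mulVec, tel_mulVec, tel_mulVec,
    sympForm_add_left, sympForm_add_left, sympForm_smul_left, sympForm_smul_left, h, h', mul_zero,
    mul_zero, add_zero, add_zero]
  abel

theorem comm_case {p q : Fin m ⊕ Fin m → F} (h : sympForm m F p q = 0) :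
    ∀ a ∈ Tp m p, ∀ b ∈ Tp m q, a * b = b * a := by
  rintro _ ⟨c, rfl⟩ _ ⟨d, rfl⟩
  exact tel_comm m h c d

end Cfsg.Agent.Lib.Helper8.Sy
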