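import Mathlib
import Cfsg.Agent.Lib.Helper8.Sy1

set_option autoImplicit false
set_option linter.unusedSimpArgs false

namespace Cfsg.Agent.Lib.Helper8.Sy

open Matrix Cfsg
open Cfsg.Agent.Lib.Helper5.SympTv Cfsg.Agent.Lib.Helper5.SympBridge Cfsg.Agent.Lib.Helper8.Rs
open Cfsg.Agent.Lib.Helper4.RankOneGrp Cfsg.Agent.Lib.Helper4.RootSub
  Cfsg.Agent.Lib.Helper4.RootSub3
open scoped commutatorElement

variable {F : Type*} [Field F] (m : ℕ)

/-- first dual vector of a hyperbolic pair -/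
def dualP (p q : Fin m ⊕ Fin m → F) : Fin m ⊕ Fin m → F :=
  (sympForm m F p q)⁻¹ • (Matrix.J (Fin m) F *ᵥ q)

/-- second dual vector of a hyperbolic pair -/
def dualQ (p q : Fin m ⊕ Fin m → F) : Fin m ⊕ Fin m → F :=
  (-(sympForm m F p q))⁻¹ • (Matrix.J (Fin m) F *ᵥ p)

theorem J_dot (x y : Fin m ⊕ Fin m → F) : (Matrix.J (Fin m) F *ᵥ y) ⬝ᵥ x = sympForm m F x y := by
  unfold sympForm
  rw [dotProduct_comm]

theorem dual_mat {p q : Fin m ⊕ Fin m → F} (h : sympForm m F p q ≠ 0) :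
    rowMat (dualP m p q) (dualQ m p q) * colMat p q = 1 := by
  apply rowMat_mul_colMat
  · unfold dualP
    rw [smul_dotProduct, J_dot, smul_eq_mul, inv_mul_cancel₀ h]
  · unfold dualP
    rw [smul_dotProduct, J_dot, sympForm_self, smul_zero]
  · unfold dualQ
    rw [smul_dotProduct, J_dot, sympForm_self, smul_zero]
  · unfold dualQ
    have e : sympForm m F q p = -(sympForm m F p q) := sympForm_swap m q p
    rw [smul_dotProduct, J_dot, e, smul_eq_mul, inv_mul_cancel₀ (neg_ne_zero.2 h)]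

theorem embMat_Um {p q : Fin m ⊕ Fin m → F} (t : F) :
    embMat p q (dualP m p q) (dualQ m p q) (Cfsg.Agent.S5016.Um t).1 =
      sympTransvection m p (t * (-(sympForm m F p q))⁻¹) := by
  rw [Cfsg.Agent.S5016.Um_val, embMat_upper]
  unfold sympTransvection dualQ
  rw [vecMulVec_smul, smul_smul]

theorem embMat_Lm {p q : Fin m ⊕ Fin m → F} (t : F) :
    embMat p q (dualP m p q) (dualQ m p q) (Cfsg.Agent.S5016.Lm t).1 =
      sympTransvection m q (t * (sympForm m F p q)⁻¹) := by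
  rw [Cfsg.Agent.S5016.Lm_val, embMat_lower]
  unfold sympTransvection dualP
  rw [vecMulVec_smul, smul_smul]

/-- the subgroup of `SL₂` whose image lies in the symplectic group -/
def Ksub {p q : Fin m ⊕ Fin m → F} (h : sympForm m F p q ≠ 0) :
    Subgroup (Matrix.SpecialLinearGroup (Fin 2) F) where
  carrier := {M | embMat p q (dualP m p q) (dualQ m p q) M.1 ∈ symplecticGroup (Fin m) F}
  mul_mem' := by
    intro M N hM hN
    show embMat p q (dualP m p q) (dualQ m p q) (M * N).1 ∈ symplecticGroup (Fin m) F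
    rw [Matrix.SpecialLinearGroup.coe_mul, embMat_mul _ _ _ _ (dual_mat m h)]
    exact mul_mem hM hN
  one_mem' := by
    show embMat p q (dualP m p q) (dualQ m p q) (1 : Matrix.SpecialLinearGroup (Fin 2) F).1 ∈
      symplecticGroup (Fin m) F
    rw [Matrix.SpecialLinearGroup.coe_one, embMat_one]
    exact one_mem _
  inv_mem' := by
    intro M hM
    show embMat p q (dualP m p q) (dualQ m p q) (M⁻¹).1 ∈ symplecticGroup (Fin m) F
    have h1 : embMat p q (dualP m p q) (dualQ m p q) M.1 *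
        embMat p q (dualP m p q) (dualQ m p q) (M⁻¹).1 = 1 := by
      rw [← embMat_mul _ _ _ _ (dual_mat m h), ← Matrix.SpecialLinearGroup.coe_mul,
        mul_inv_cancel, Matrix.SpecialLinearGroup.coe_one, embMat_one]
    obtain ⟨A, hA⟩ : ∃ A : symplecticGroup (Fin m) F,
        A = ⟨embMat p q (dualP m p q) (dualQ m p q) M.1, hM⟩ := ⟨_, rfl⟩
    have h2 : (A⁻¹ : symplecticGroup (Fin m) F).1 * A.1 = 1 :=
      congrArg Subtype.val (inv_mul_cancel A)
    have h3 : embMat p q (dualP m p q) (dualQ m p q) (M⁻¹).1 = (A⁻¹ : symplecticGroup (Fin m) F).1 := by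
      have hA1 : A.1 = embMat p q (dualP m p q) (dualQ m p q) M.1 := by rw [hA]
      calc embMat p q (dualP m p q) (dualQ m p q) (M⁻¹).1
          = ((A⁻¹ : symplecticGroup (Fin m) F).1 * A.1) *
            embMat p q (dualP m p q) (dualQ m p q) (M⁻¹).1 := by rw [h2, Matrix.one_mul]
        _ = (A⁻¹ : symplecticGroup (Fin m) F).1 := by rw [Matrix.mul_assoc, hA1, h1, Matrix.mul_one]
    rw [h3]
    exact (A⁻¹ : symplecticGroup (Fin m) F).2

theorem Ksub_eq_top {p q : Fin m ⊕ Fin m → F} (h : sympForm m F p q ≠ 0) : Ksub m h = ⊤ := by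
  rw [eq_top_iff, ← Cfsg.Agent.S5016.sup_eq_top (k := F)]
  apply sup_le
  · intro M hM
    obtain ⟨t, rfl⟩ := Cfsg.Agent.S5016.mem_lower.1 hM
    show embMat p q (dualP m p q) (dualQ m p q) (Cfsg.Agent.S5016.Lm t).1 ∈ symplecticGroup (Fin m) F
    rw [embMat_Lm]
    exact sympTransvection_mem m _ _
  · intro M hM
    obtain ⟨t, rfl⟩ := Cfsg.Agent.S5016.mem_upper.1 hM
    show embMat p q (dualP m p q) (dualQ m p q) (Cfsg.Agent.S5016.Um t).1 ∈ symplecticGroup (Fin m) F
    rw [embMat_Um]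
    exact sympTransvection_mem m _ _

/-- the embedding of `SL₂(F)` in the symplectic group attached to a hyperbolic pair -/
def embSp {p q : Fin m ⊕ Fin m → F} (h : sympForm m F p q ≠ 0) :
    Matrix.SpecialLinearGroup (Fin 2) F →* symplecticGroup (Fin m) F where
  toFun M := ⟨embMat p q (dualP m p q) (dualQ m p q) M.1, by
    have : M ∈ Ksub m h := by rw [Ksub_eq_top]; exact Subgroup.mem_top _
    exact this⟩
  map_one' := Subtype.ext (by
    show embMat p q (dualP m p q) (dualQ m p q) (1 : Matrix.SpecialLinearGroup (Fin 2) F).1 = 1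
    rw [Matrix.SpecialLinearGroup.coe_one, embMat_one])
  map_mul' M N := Subtype.ext (by
    show embMat p q (dualP m p q) (dualQ m p q) (M * N).1 = _
    rw [Matrix.SpecialLinearGroup.coe_mul, embMat_mul _ _ _ _ (dual_mat m h)]
    rfl)

theorem embSp_injective {p q : Fin m ⊕ Fin m → F} (h : sympForm m F p q ≠ 0) :
    Function.Injective (embSp m h) := by
  intro M N hMN
  apply Subtype.ext
  apply embMat_injective p q _ _ (dual_mat m h)
  exact congrArg Subtype.val hMN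

theorem embSp_Um {p q : Fin m ⊕ Fin m → F} (h : sympForm m F p q ≠ 0) (t : F) :
    embSp m h (Cfsg.Agent.S5016.Um t) = tel m p (t * (-(sympForm m F p q))⁻¹) :=
  Subtype.ext (embMat_Um m t)

theorem embSp_Lm {p q : Fin m ⊕ Fin m → F} (h : sympForm m F p q ≠ 0) (t : F) :
    embSp m h (Cfsg.Agent.S5016.Lm t) = tel m q (t * (sympForm m F p q)⁻¹) :=
  Subtype.ext (embMat_Lm m t)

theorem rankOne_of {p q : Fin m ⊕ Fin m → F} (h : sympForm m F p q ≠ 0) :
    IsRankOnePair (Tp m p) (Tp m q) ∧ IsPSL2PairOver F (Tp m p) (Tp m q) := by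
  have hn : -(sympForm m F p q) ≠ 0 := neg_ne_zero.2 h
  obtain ⟨f, hf⟩ : ∃ f, f = embSp m h := ⟨_, rfl⟩
  have hinj : Function.Injective f := hf ▸ embSp_injective m h
  have hU : (upperUnipotentSL2 F).map f = Tp m p := by
    ext x
    constructor
    · rintro ⟨M, hM, rfl⟩
      obtain ⟨t, rfl⟩ := Cfsg.Agent.S5016.mem_upper.1 hM
      exact ⟨_, by rw [hf, embSp_Um]⟩
    · rintro ⟨c, rfl⟩
      refine ⟨Cfsg.Agent.S5016.Um (c * (-(sympForm m F p q))),
        Cfsg.Agent.S5016.mem_upper.2 ⟨_, rfl⟩, ?_⟩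
      rw [hf, embSp_Um, mul_assoc, mul_inv_cancel₀ hn, mul_one]
  have hL : (lowerUnipotentSL2 F).map f = Tp m q := by
    ext x
    constructor
    · rintro ⟨M, hM, rfl⟩
      obtain ⟨t, rfl⟩ := Cfsg.Agent.S5016.mem_lower.1 hM
      exact ⟨_, by rw [hf, embSp_Lm]⟩
    · rintro ⟨c, rfl⟩
      refine ⟨Cfsg.Agent.S5016.Lm (c * (sympForm m F p q)),
        Cfsg.Agent.S5016.mem_lower.2 ⟨_, rfl⟩, ?_⟩
      rw [hf, embSp_Lm, mul_assoc, mul_inv_cancel₀ h, mul_one]
  constructor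
  · have := rankOnePair_map f hinj (RankOnePair_symm (Cfsg.Agent.S5016.rankOnePair (k := F)))
      Cfsg.Agent.S5016.upper_comm Cfsg.Agent.S5016.lower_comm
    rwa [hU, hL] at this
  · refine ⟨f, ?_, ?_, hU, hL⟩
    · rw [MonoidHom.range_eq_map, ← Cfsg.Agent.S5016.sup_eq_top (k := F), Subgroup.map_sup, hU, hL,
        sup_comm]
    · rw [(MonoidHom.ker_eq_bot_iff f).2 hinj]
      exact bot_le

/-- the class of symplectic root subgroups -/
def Sig : Set (Subgroup (symplecticGroup (Fin m) F)) :=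
  {A | ∃ p : Fin m ⊕ Fin m → F, p ≠ 0 ∧ A = Tp m p}

theorem rootSet_Sig : IsRootSubgroupSet (Sig (F := F) m) where
  commutative := by
    rintro A ⟨p, -, rfl⟩
    exact Cfsg.Agent.S5016.isMulComm_of _ (Tp_comm m p)
  ne_bot := by
    rintro A ⟨p, hp, rfl⟩
    exact Tp_ne_bot m hp
  generates := by
    rw [eq_top_iff, ← Cfsg.Agent.Lib.Helper5.SympGen.closure_tvSet_eq_top, Subgroup.closure_le]
    rintro A ⟨w, c, hA⟩
    have hA' : A = tel m w c := Subtype.ext hA
    by_cases hw : w = 0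
    · have : A = 1 := by
        rw [hA']
        apply Subtype.ext
        rw [tel_coe, hw]
        unfold sympTransvection
        rw [zero_vecMulVec, smul_zero, add_zero]
        rfl
      rw [this]
      exact one_mem _
    · rw [hA']
      exact (le_iSup₂ (f := fun (A : Subgroup (symplecticGroup (Fin m) F))
        (_ : A ∈ Sig (F := F) m) => A) _ ⟨w, hw, rfl⟩) (tel_mem m w c)
  conj_mem := by
    rintro A ⟨p, hp, rfl⟩ g
    refine ⟨_, ?_, conjBy_Tp m g p⟩
    intro h0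
    apply hp
    have := coe_mul_inv_mulVec m g⁻¹ p
    rw [inv_inv, h0, mulVec_zero] at this
    exact this.symm
  pair := by
    rintro A ⟨p, hp, rfl⟩ B ⟨q, hq, rfl⟩
    by_cases h : sympForm m F p q = 0
    · left
      rw [commutator_eq_bot_iff']
      exact comm_case m h
    · exact Or.inr (Or.inl (rankOne_of m h).1)

theorem exists_conj {p q : Fin m ⊕ Fin m → F} (hp : p ≠ 0) (hq : q ≠ 0) :
    ∃ g : symplecticGroup (Fin m) F,
      (g : Matrix (Fin m ⊕ Fin m) (Fin m ⊕ Fin m) F) *ᵥ p = q := by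
  obtain ⟨v, hv⟩ := exists_partner m hp
  obtain ⟨v', hv'⟩ := exists_partner m hq
  obtain ⟨A, -, hA, -⟩ := move_first m p v q v' hv hv'
  exact ⟨A, hA⟩

theorem conjClass_Sig (hm : 0 < m) : IsConjClassOfSubgroups (Sig (F := F) m) := by
  constructor
  · refine ⟨Tp m (Pi.single (Sum.inl ⟨0, hm⟩) 1), _, ?_, rfl⟩
    intro h
    have := congrFun h (Sum.inl ⟨0, hm⟩)
    rw [Pi.single_eq_same] at this
    exact one_ne_zero this
  · rintro A ⟨p, hp, rfl⟩ B ⟨q, hq, rfl⟩
    obtain ⟨g, hg⟩ := exists_conj m hp hq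
    exact ⟨g, by rw [conjBy_Tp, hg]⟩

theorem degenerate_Sig : IsDegenerateRootSet (Sig (F := F) m) := by
  have hS := rootSet_Sig (F := F) m
  rintro A hA B hB hcase
  obtain ⟨p, hp, rfl⟩ := hA
  obtain ⟨q, hq, rfl⟩ := hB
  by_cases h : sympForm m F p q = 0
  · have h1 : ⁅Tp m p, Tp m q⁆ = ⊥ := by
      rw [commutator_eq_bot_iff']
      exact comm_case m h
    exact hS.ne_bot _ hcase.1 h1
  · exact not_rankOne_of_commutator_mem hS ⟨p, hp, rfl⟩ ⟨q, hq, rfl⟩ hcase.1 (rankOne_of m h).1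

theorem kRoot_Sig : IsKRootSubgroupSet F (Sig (F := F) m) := by
  refine ⟨rootSet_Sig m, ?_⟩
  rintro A ⟨p, hp, rfl⟩ B ⟨q, hq, rfl⟩ hAB
  by_cases h : sympForm m F p q = 0
  · exact (not_commute_of_pair hAB (comm_case m h)).elim
  · exact (rankOne_of m h).2

theorem connected_Sig : IsConnectedFamily (FAdj (Sig (F := F) m)) (Sig (F := F) m) := by
  rintro A ⟨p, hp, rfl⟩ B ⟨q, hq, rfl⟩
  obtain ⟨v, hv⟩ := exists_partner m hp
  obtain ⟨v', hv'⟩ := exists_partner m hq
  obtain ⟨r, hr1, hr2⟩ : ∃ r, sympForm m F p r ≠ 0 ∧ sympForm m F r q ≠ 0 := by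
    have hqv' : sympForm m F v' q ≠ 0 := by
      rw [sympForm_swap, hv']; exact neg_ne_zero.2 one_ne_zero
    by_cases h1 : sympForm m F v q = 0
    · by_cases h2 : sympForm m F p v' = 0
      · refine ⟨v + v', ?_, ?_⟩
        · rw [sympForm_add_right, hv, h2, add_zero]; exact one_ne_zero
        · rw [sympForm_add_left, h1, zero_add]; exact hqv'
      · exact ⟨v', h2, hqv'⟩
    · exact ⟨v, by rw [hv]; exact one_ne_zero, h1⟩
  have hr : r ≠ 0 := by
    rintro rfl
    apply hr1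
    unfold sympForm
    rw [mulVec_zero, dotProduct_zero]
  exact Relation.ReflTransGen.head ⟨⟨p, hp, rfl⟩, ⟨r, hr, rfl⟩, (rankOne_of m hr1).1⟩
    (Relation.ReflTransGen.single ⟨⟨r, hr, rfl⟩, ⟨q, hq, rfl⟩, (rankOne_of m hr2).1⟩)

theorem Sig_eq_stmt :
    {A : Subgroup (symplecticGroup (Fin m) F) | ∃ p : Fin m ⊕ Fin m → F, p ≠ 0 ∧
      A = Subgroup.closure {g : symplecticGroup (Fin m) F | ∃ c : F, ∀ v : Fin m ⊕ Fin m → F,
        (g : Matrix (Fin m ⊕ Fin m) (Fin m ⊕ Fin m) F) *ᵥ v =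
          v + (c * (v ⬝ᵥ (Matrix.J (Fin m) F *ᵥ p))) • p}} = Sig (F := F) m := by
  ext A
  constructor
  · rintro ⟨p, hp, rfl⟩
    exact ⟨p, hp, closure_stmt m p⟩
  · rintro ⟨p, hp, rfl⟩
    exact ⟨p, hp, (closure_stmt m p).symm⟩

end Cfsg.Agent.Lib.Helper8.Sy
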