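import Mathlib

/-! Cycle types in degree `n` and a Fibonacci bound for their number. -/

set_option autoImplicit false

namespace Cfsg.Agent.Lib.Helper8.SymCl

open Equiv

/-- admissible cycle types in degree `n` -/
def Ty (n : ℕ) : Set (Multiset ℕ) := {m | (∀ a ∈ m, 2 ≤ a) ∧ m.sum ≤ n}

theorem ty_eq_range (n : ℕ) : Ty n = Set.range (fun g : Perm (Fin n) => g.cycleType) := by
  ext m
  constructor
  · rintro ⟨h2, hs⟩
    obtain ⟨g, hg⟩ := (Equiv.Perm.exists_with_cycleType_iff (Fin n)).mpr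
      ⟨by simpa using hs, h2⟩
    exact ⟨g, hg⟩
  · rintro ⟨g, rfl⟩
    refine ⟨fun a ha => Equiv.Perm.two_le_of_mem_cycleType ha, ?_⟩
    have := Equiv.Perm.sum_cycleType_le g
    simpa using this

theorem ty_finite (n : ℕ) : (Ty n).Finite := by
  rw [ty_eq_range]
  exact Set.finite_range _

theorem mem_le_sum {m : Multiset ℕ} {a : ℕ} (ha : a ∈ m) : a ≤ m.sum := by
  have := Multiset.sum_erase ha
  omega

theorem ty_small {n : ℕ} (hn : n ≤ 1) : Ty n = {0} := by
  ext m
  simp only [Ty, Set.mem_ofPred_eq, Set.mem_singleton_iff]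
  constructor
  · rintro ⟨h2, hs⟩
    apply Multiset.eq_zero_of_forall_notMem
    intro a ha
    have h1 := h2 a ha
    have h3 := mem_le_sum ha
    omega
  · rintro rfl
    simp

/-- pick an element of a nonempty multiset -/
noncomputable def pick (m : Multiset ℕ) : ℕ :=
  if h : m = 0 then 0 else Classical.choose (Multiset.exists_mem_of_ne_zero h)

theorem pick_mem {m : Multiset ℕ} (h : m ≠ 0) : pick m ∈ m := by
  unfold pick
  rw [dif_neg h]
  exact Classical.choose_spec (Multiset.exists_mem_of_ne_zero h)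

theorem ty_rec (n : ℕ) : (Ty (n + 2)).ncard ≤ (Ty (n + 1)).ncard + (Ty n).ncard := by
  classical
  have hsub : Ty (n + 2) ⊆ Ty (n + 1) ∪ {m | m ∈ Ty (n + 2) ∧ m.sum = n + 2} := by
    rintro m ⟨h2, hs⟩
    by_cases h : m.sum = n + 2
    · exact Or.inr ⟨⟨h2, hs⟩, h⟩
    · exact Or.inl ⟨h2, by omega⟩
  have hfin : (Ty (n + 1) ∪ {m | m ∈ Ty (n + 2) ∧ m.sum = n + 2}).Finite :=
    (ty_finite _).union ((ty_finite (n + 2)).subset (fun m hm => hm.1))
  have hE : {m | m ∈ Ty (n + 2) ∧ m.sum = n + 2}.ncard ≤ (Ty n).ncard := by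
    apply Set.ncard_le_ncard_of_injOn (fun m => m.erase (pick m)) _ _ (ty_finite n)
    · rintro m ⟨⟨h2, -⟩, hs⟩
      have hm0 : m ≠ 0 := by
        rintro rfl
        simp at hs
      have ha := pick_mem hm0
      have hsum := Multiset.sum_erase ha
      refine ⟨fun b hb => h2 b (Multiset.mem_of_mem_erase hb), ?_⟩
      have := h2 _ ha
      show (m.erase (pick m)).sum ≤ n
      omega
    · rintro m ⟨⟨h2, -⟩, hs⟩ m' ⟨⟨h2', -⟩, hs'⟩ heq
      have hm0 : m ≠ 0 := by
        rintro rfl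
        simp at hs
      have hm0' : m' ≠ 0 := by
        rintro rfl
        simp at hs'
      have ha := pick_mem hm0
      have ha' := pick_mem hm0'
      have hsum := Multiset.sum_erase ha
      have hsum' := Multiset.sum_erase ha'
      simp only at heq
      have hpick : pick m = pick m' := by
        rw [heq] at hsum
        omega
      rw [← Multiset.cons_erase ha, ← Multiset.cons_erase ha', heq, hpick]
  calc (Ty (n + 2)).ncard ≤ (Ty (n + 1) ∪ {m | m ∈ Ty (n + 2) ∧ m.sum = n + 2}).ncard :=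
        Set.ncard_le_ncard hsub hfin
    _ ≤ (Ty (n + 1)).ncard + {m | m ∈ Ty (n + 2) ∧ m.sum = n + 2}.ncard := Set.ncard_union_le _ _
    _ ≤ (Ty (n + 1)).ncard + (Ty n).ncard := Nat.add_le_add_left hE _

theorem ty_le_fib (n : ℕ) : (Ty n).ncard ≤ Nat.fib (n + 1) := by
  induction n using Nat.strong_induction_on with
  | _ n ih =>
    rcases n with _ | _ | n
    · rw [ty_small (le_of_lt Nat.zero_lt_one)]; simp
    · rw [ty_small le_rfl]; simp
    · show (Ty (n + 2)).ncard ≤ Nat.fib (n + 2 + 1)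
      have h1 : (Ty (n + 1)).ncard ≤ Nat.fib (n + 1 + 1) := ih (n + 1) (by omega)
      have h2 : (Ty n).ncard ≤ Nat.fib (n + 1) := ih n (by omega)
      have h3 := ty_rec n
      have h4 : Nat.fib (n + 2 + 1) = Nat.fib (n + 1) + Nat.fib (n + 1 + 1) := Nat.fib_add_two
      omega

theorem fib_le_two_pow (n : ℕ) (hn : 5 ≤ n) : Nat.fib (n + 1) ≤ 2 ^ (n - 2) := by
  induction n using Nat.strong_induction_on with
  | _ n ih =>
    rcases Nat.lt_or_ge n 7 with h | h
    · interval_cases n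
      · decide
      · decide
    · obtain ⟨k, rfl⟩ : ∃ k, n = k + 2 := ⟨n - 2, by omega⟩
      have h1 := ih (k + 1) (by omega) (by omega)
      have h2 := ih k (by omega) (by omega)
      have h4 : Nat.fib (k + 2 + 1) = Nat.fib (k + 1) + Nat.fib (k + 1 + 1) := Nat.fib_add_two
      have e1 : k + 2 - 2 = (k - 2) + 2 := by omega
      have e2 : k + 1 - 2 = (k - 2) + 1 := by omega
      rw [e1, h4]
      rw [e2] at h1
      have : 2 ^ (k - 2 + 2) = 2 ^ (k - 2) + 2 ^ (k - 2) + 2 ^ (k - 2 + 1) := by ring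
      omega

theorem ty_le_two_pow (n : ℕ) (hn : 5 ≤ n) : (Ty n).ncard ≤ 2 ^ (n - 2) :=
  (ty_le_fib n).trans (fib_le_two_pow n hn)

end Cfsg.Agent.Lib.Helper8.SymCl
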