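import Cfsg.Agent.Lib.Helper8.SymCl1

/-! Class numbers of the symmetric and alternating groups. -/

set_option autoImplicit false

namespace Cfsg.Agent.Lib.Helper8.SymCl

open Equiv Equiv.Perm

/-- cycle type of a class of the symmetric group -/
def tyS (n : ℕ) : ConjClasses (Perm (Fin n)) → Multiset ℕ :=
  Quotient.lift (s := IsConj.setoid _) (fun g : Perm (Fin n) => g.cycleType)
    (fun _ _ h => Equiv.Perm.isConj_iff_cycleType_eq.mp h)

theorem tyS_mk (n : ℕ) (g : Perm (Fin n)) : tyS n (ConjClasses.mk g) = g.cycleType := rfl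

theorem tyS_injective (n : ℕ) : Function.Injective (tyS n) := by
  intro a b h
  obtain ⟨g, rfl⟩ := ConjClasses.mk_surjective a
  obtain ⟨g', rfl⟩ := ConjClasses.mk_surjective b
  rw [tyS_mk, tyS_mk] at h
  exact ConjClasses.mk_eq_mk_iff_isConj.mpr (Equiv.Perm.isConj_iff_cycleType_eq.mpr h)

theorem range_tyS (n : ℕ) : Set.range (tyS n) = Ty n := by
  rw [ty_eq_range]
  ext m
  constructor
  · rintro ⟨a, rfl⟩
    obtain ⟨g, rfl⟩ := ConjClasses.mk_surjective a
    exact ⟨g, rfl⟩
  · rintro ⟨g, rfl⟩
    exact ⟨ConjClasses.mk g, rfl⟩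

theorem card_classes_sym (n : ℕ) : Nat.card (ConjClasses (Perm (Fin n))) = (Ty n).ncard := by
  rw [← range_tyS, Set.ncard_range_of_injective (tyS_injective n)]

/-- cycle type of a class of the alternating group -/
def tyA (n : ℕ) : ConjClasses ↥(alternatingGroup (Fin n)) → Multiset ℕ :=
  Quotient.lift (s := IsConj.setoid _)
    (fun g : ↥(alternatingGroup (Fin n)) => (g : Perm (Fin n)).cycleType)
    (fun a b h => by
      obtain ⟨c, hc⟩ := isConj_iff.mp h
      have : (b : Perm (Fin n)) = (c : Perm (Fin n)) * a * (c : Perm (Fin n))⁻¹ := by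
        rw [← hc]; rfl
      show (a : Perm (Fin n)).cycleType = (b : Perm (Fin n)).cycleType
      rw [this, Equiv.Perm.cycleType_conj])

theorem tyA_mk (n : ℕ) (g : ↥(alternatingGroup (Fin n))) :
    tyA n (ConjClasses.mk g) = (g : Perm (Fin n)).cycleType := rfl

theorem neg_one_pow_units (k : ℕ) : ((-1 : ℤˣ) ^ k = 1) ↔ Even k := by
  constructor
  · intro h
    by_contra hk
    rw [Nat.not_even_iff_odd] at hk
    rw [hk.neg_one_pow] at h
    exact absurd h (by decide)
  · intro h
    exact h.neg_one_pow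

theorem mem_alt_iff_even {n : ℕ} (g : Perm (Fin n)) :
    g ∈ alternatingGroup (Fin n) ↔ Even (g.cycleType.sum + Multiset.card g.cycleType) := by
  rw [Equiv.Perm.mem_alternatingGroup, Equiv.Perm.sign_of_cycleType, neg_one_pow_units]

/-- two elements of `A_n` of the same cycle type are `A_n`-conjugate if the centralizer of one is
not inside `A_n`. -/
theorem conj_of_centralizer_not_le {n : ℕ} (h h' : ↥(alternatingGroup (Fin n)))
    (hty : (h : Perm (Fin n)).cycleType = (h' : Perm (Fin n)).cycleType)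
    (hc : ¬ Subgroup.centralizer {(h : Perm (Fin n))} ≤ alternatingGroup (Fin n)) :
    IsConj h h' := by
  obtain ⟨g, hg⟩ := isConj_iff.mp (Equiv.Perm.isConj_iff_cycleType_eq.mpr hty)
  by_cases hgA : g ∈ alternatingGroup (Fin n)
  · exact isConj_iff.mpr ⟨⟨g, hgA⟩, Subtype.ext hg⟩
  · rw [SetLike.not_le_iff_exists] at hc
    obtain ⟨c, hcC, hcA⟩ := hc
    rw [Subgroup.mem_centralizer_singleton_iff] at hcC
    have hgc : g * c ∈ alternatingGroup (Fin n) := by
      rw [Equiv.Perm.mem_alternatingGroup] at hgA hcA ⊢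
      rw [map_mul]
      rcases Int.units_eq_one_or (sign g) with h1 | h1
      · exact absurd h1 hgA
      · rcases Int.units_eq_one_or (sign c) with h2 | h2
        · exact absurd h2 hcA
        · rw [h1, h2]; rfl
    refine isConj_iff.mpr ⟨⟨g * c, hgc⟩, Subtype.ext ?_⟩
    show g * c * (h : Perm (Fin n)) * (g * c)⁻¹ = h'
    rw [← hg]
    have : c * (h : Perm (Fin n)) * c⁻¹ = h := by
      rw [hcC, mul_inv_cancel_right]
    calc g * c * (h : Perm (Fin n)) * (g * c)⁻¹ = g * (c * (h : Perm (Fin n)) * c⁻¹) * g⁻¹ := by group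
      _ = g * h * g⁻¹ := by rw [this]

/-- among three elements of `A_n` of the same cycle type two are `A_n`-conjugate. -/
theorem conj_of_three {n : ℕ} (h h' h'' : ↥(alternatingGroup (Fin n)))
    (hty : (h : Perm (Fin n)).cycleType = (h' : Perm (Fin n)).cycleType)
    (hty' : (h : Perm (Fin n)).cycleType = (h'' : Perm (Fin n)).cycleType) :
    IsConj h h' ∨ IsConj h h'' ∨ IsConj h' h'' := by
  obtain ⟨g, hg⟩ := isConj_iff.mp (Equiv.Perm.isConj_iff_cycleType_eq.mpr hty)
  obtain ⟨g', hg'⟩ := isConj_iff.mp (Equiv.Perm.isConj_iff_cycleType_eq.mpr hty')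
  by_cases hgA : g ∈ alternatingGroup (Fin n)
  · exact Or.inl (isConj_iff.mpr ⟨⟨g, hgA⟩, Subtype.ext hg⟩)
  by_cases hgA' : g' ∈ alternatingGroup (Fin n)
  · exact Or.inr (Or.inl (isConj_iff.mpr ⟨⟨g', hgA'⟩, Subtype.ext hg'⟩))
  right; right
  have hgg : g' * g⁻¹ ∈ alternatingGroup (Fin n) := by
    rw [Equiv.Perm.mem_alternatingGroup] at hgA hgA' ⊢
    rw [map_mul, map_inv]
    rcases Int.units_eq_one_or (sign g) with h1 | h1
    · exact absurd h1 hgA
    · rcases Int.units_eq_one_or (sign g') with h2 | h2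
      · exact absurd h2 hgA'
      · rw [h1, h2]; rfl
  refine isConj_iff.mpr ⟨⟨g' * g⁻¹, hgg⟩, Subtype.ext ?_⟩
  show g' * g⁻¹ * (h' : Perm (Fin n)) * (g' * g⁻¹)⁻¹ = h''
  rw [← hg, ← hg']
  group

/-- even types -/
def TyEven (n : ℕ) : Set (Multiset ℕ) := {m | m ∈ Ty n ∧ Even (m.sum + Multiset.card m)}

/-- odd types -/
def TyOdd (n : ℕ) : Set (Multiset ℕ) := {m | m ∈ Ty n ∧ ¬ Even (m.sum + Multiset.card m)}

/-- split types -/
def TySplit (n : ℕ) : Set (Multiset ℕ) :=
  {m | m ∈ Ty n ∧ (∀ c ∈ m, Odd c) ∧ n ≤ m.sum + 1 ∧ ∀ i, m.count i ≤ 1}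

theorem ty_eq_union (n : ℕ) : Ty n = TyEven n ∪ TyOdd n := by
  ext m
  constructor
  · intro hm
    by_cases h : Even (m.sum + Multiset.card m)
    · exact Or.inl ⟨hm, h⟩
    · exact Or.inr ⟨hm, h⟩
  · rintro (h | h) <;> exact h.1

theorem disjoint_even_odd (n : ℕ) : Disjoint (TyEven n) (TyOdd n) := by
  rw [Set.disjoint_left]
  intro m h1 h2
  exact h2.2 h1.2

theorem ncard_ty (n : ℕ) : (Ty n).ncard = (TyEven n).ncard + (TyOdd n).ncard := by
  rw [ty_eq_union, Set.ncard_union_eq (disjoint_even_odd n)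
    ((ty_finite n).subset (fun m hm => hm.1)) ((ty_finite n).subset (fun m hm => hm.1))]

/-- the class number of `A_n` is at most `#even + #split`. -/
theorem card_classes_alt_le (n : ℕ) :
    Nat.card (ConjClasses ↥(alternatingGroup (Fin n))) ≤ (TyEven n).ncard + (TySplit n).ncard := by
  classical
  -- a representative class for each type
  let r : Multiset ℕ → ConjClasses ↥(alternatingGroup (Fin n)) := fun m =>
    if h : ∃ c, tyA n c = m then Classical.choose h else ConjClasses.mk 1
  have hr : ∀ c, tyA n (r (tyA n c)) = tyA n c := by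
    intro c
    have h : ∃ c', tyA n c' = tyA n c := ⟨c, rfl⟩
    show tyA n (if h : ∃ c', tyA n c' = tyA n c then Classical.choose h else ConjClasses.mk 1) = _
    rw [dif_pos h]
    exact Classical.choose_spec h
  let Φ : ConjClasses ↥(alternatingGroup (Fin n)) → Multiset ℕ ⊕ Multiset ℕ := fun c =>
    if c = r (tyA n c) then Sum.inl (tyA n c) else Sum.inr (tyA n c)
  have hΦinj : Function.Injective Φ := by
    intro c c' h
    by_cases h1 : c = r (tyA n c)
    · by_cases h2 : c' = r (tyA n c')
      · simp only [Φ, if_pos h1, if_pos h2] at h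
        have := Sum.inl.inj h
        rw [h1, h2, this]
      · simp only [Φ, if_pos h1, if_neg h2] at h
        exact absurd h (by simp)
    · by_cases h2 : c' = r (tyA n c')
      · simp only [Φ, if_neg h1, if_pos h2] at h
        exact absurd h (by simp)
      · simp only [Φ, if_neg h1, if_neg h2] at h
        have hty := Sum.inr.inj h
        -- three classes of the same type
        obtain ⟨x, hx⟩ := ConjClasses.mk_surjective c
        obtain ⟨x', hx'⟩ := ConjClasses.mk_surjective c'
        obtain ⟨y, hy⟩ := ConjClasses.mk_surjective (r (tyA n c))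
        have e1 : (y : Perm (Fin n)).cycleType = (x : Perm (Fin n)).cycleType := by
          rw [← tyA_mk, ← tyA_mk, hy, hx, hr]
        have e2 : (y : Perm (Fin n)).cycleType = (x' : Perm (Fin n)).cycleType := by
          rw [← tyA_mk, ← tyA_mk, hy, hx', ← hty, hr]
        rcases conj_of_three y x x' e1 e2 with h3 | h3 | h3
        · exfalso
          apply h1
          rw [← hy, ← hx]
          exact (ConjClasses.mk_eq_mk_iff_isConj.mpr h3).symm
        · exfalso
          apply h2
          rw [← hty, ← hx', ← hy]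
          exact (ConjClasses.mk_eq_mk_iff_isConj.mpr h3).symm
        · rw [← hx, ← hx']
          exact ConjClasses.mk_eq_mk_iff_isConj.mpr h3
  have hΦrange : Set.range Φ ⊆ Sum.inl '' TyEven n ∪ Sum.inr '' TySplit n := by
    rintro _ ⟨c, rfl⟩
    obtain ⟨x, hx⟩ := ConjClasses.mk_surjective c
    have hxty : tyA n c = (x : Perm (Fin n)).cycleType := by rw [← hx, tyA_mk]
    have hmem : tyA n c ∈ Ty n := by
      rw [ty_eq_range, hxty]
      exact ⟨x, rfl⟩
    by_cases h1 : c = r (tyA n c)
    · left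
      refine ⟨tyA n c, ⟨hmem, ?_⟩, ?_⟩
      · rw [hxty]
        exact (mem_alt_iff_even _).mp x.2
      · simp only [Φ, if_pos h1]
    · right
      refine ⟨tyA n c, ⟨hmem, ?_⟩, ?_⟩
      · obtain ⟨y, hy⟩ := ConjClasses.mk_surjective (r (tyA n c))
        have e1 : (x : Perm (Fin n)).cycleType = (y : Perm (Fin n)).cycleType := by
          rw [← tyA_mk, ← tyA_mk, hy, hx, hr]
        have hcent : Subgroup.centralizer {(x : Perm (Fin n))} ≤ alternatingGroup (Fin n) := by
          by_contra hcon
          apply h1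
          rw [← hy, ← hx]
          exact ConjClasses.mk_eq_mk_iff_isConj.mpr (conj_of_centralizer_not_le x y e1 hcon)
        have := Equiv.Perm.centralizer_le_alternating_iff.mp hcent
        rw [hxty]
        simpa using this
      · simp only [Φ, if_neg h1]
  have hfinE : (TyEven n).Finite := (ty_finite n).subset (fun m hm => hm.1)
  have hfinS : (TySplit n).Finite := (ty_finite n).subset (fun m hm => hm.1)
  calc Nat.card (ConjClasses ↥(alternatingGroup (Fin n)))
      = (Set.range Φ).ncard := (Set.ncard_range_of_injective hΦinj).symm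
    _ ≤ (Sum.inl '' TyEven n ∪ Sum.inr '' TySplit n).ncard :=
        Set.ncard_le_ncard hΦrange ((hfinE.image _).union (hfinS.image _))
    _ ≤ (Sum.inl '' TyEven n).ncard + (Sum.inr '' TySplit n).ncard := Set.ncard_union_le _ _
    _ = (TyEven n).ncard + (TySplit n).ncard := by
        rw [Set.ncard_image_of_injective _ Sum.inl_injective,
          Set.ncard_image_of_injective _ Sum.inr_injective]

end Cfsg.Agent.Lib.Helper8.SymCl
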