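import Cfsg.Agent.Lib.Helper8.SymCl2

/-! Fewer split types than odd types. -/

set_option autoImplicit false

namespace Cfsg.Agent.Lib.Helper8.SymCl

open Equiv Equiv.Perm

theorem even_sum_add_card_of_odd (m : Multiset ℕ) (h : ∀ c ∈ m, Odd c) :
    Even (m.sum + Multiset.card m) := by
  induction m using Multiset.induction_on with
  | empty => simp
  | cons a s ih =>
    have ha : Odd a := h a (Multiset.mem_cons_self a s)
    have hs := ih (fun c hc => h c (Multiset.mem_cons_of_mem hc))
    rw [Multiset.sum_cons, Multiset.card_cons]
    have : a + s.sum + (Multiset.card s + 1) = (a + 1) + (s.sum + Multiset.card s) := by ring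
    rw [this]
    exact (ha.add_one).add hs

/-- the map on types -/
noncomputable def psi (m : Multiset ℕ) : Multiset ℕ := (pick m - 1) ::ₘ m.erase (pick m)

theorem split_lt_odd (n : ℕ) (hn : 5 ≤ n) : (TySplit n).ncard < (TyOdd n).ncard := by
  classical
  have hfinO : (TyOdd n).Finite := (ty_finite n).subset (fun m hm => hm.1)
  have h2mem : ({2} : Multiset ℕ) ∈ TyOdd n := by
    refine ⟨⟨?_, ?_⟩, ?_⟩
    · intro a ha
      rw [Multiset.mem_singleton] at ha
      omega
    · simp only [Multiset.sum_singleton]; omega
    · simp only [Multiset.sum_singleton, Multiset.card_singleton]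
      decide
  have key : (TySplit n).ncard ≤ (TyOdd n \ {{2}}).ncard := by
    apply Set.ncard_le_ncard_of_injOn psi _ _ (hfinO.subset Set.sdiff_subset)
    · rintro m ⟨⟨h2, hs⟩, hodd, hfix, -⟩
      have hm0 : m ≠ 0 := by
        rintro rfl
        simp at hfix
        omega
      have ha := pick_mem hm0
      have hsum := Multiset.sum_erase ha
      have ha2 := h2 _ ha
      have haodd := hodd _ ha
      have ha3 : 3 ≤ pick m := by
        rcases haodd with ⟨k, hk⟩
        omega
      have hcard : Multiset.card (m.erase (pick m)) + 1 = Multiset.card m := by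
        rw [← Multiset.card_cons (pick m), Multiset.cons_erase ha]
      have heven := even_sum_add_card_of_odd m hodd
      refine ⟨⟨⟨?_, ?_⟩, ?_⟩, ?_⟩
      · intro b hb
        unfold psi at hb
        rw [Multiset.mem_cons] at hb
        rcases hb with rfl | hb
        · omega
        · exact h2 b (Multiset.mem_of_mem_erase hb)
      · unfold psi
        rw [Multiset.sum_cons]
        omega
      · unfold psi
        rw [Multiset.sum_cons, Multiset.card_cons]
        intro hev
        have e : m.sum + Multiset.card m =
            (pick m - 1 + (m.erase (pick m)).sum + (Multiset.card (m.erase (pick m)) + 1)) + 1 := by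
          omega
        rw [e] at heven
        exact (Nat.even_add_one.mp heven) hev
      · intro hmem
        rw [Set.mem_singleton_iff] at hmem
        unfold psi at hmem
        have hc := congrArg Multiset.card hmem
        rw [Multiset.card_cons, Multiset.card_singleton] at hc
        have hs' := congrArg Multiset.sum hmem
        rw [Multiset.sum_cons, Multiset.sum_singleton] at hs'
        have h0 : m.erase (pick m) = 0 := Multiset.card_eq_zero.mp (by omega)
        rw [h0, Multiset.sum_zero] at hs' hsum
        omega
    · rintro m ⟨⟨h2, hs⟩, hodd, hfix, -⟩ m' ⟨⟨h2', hs'⟩, hodd', hfix', -⟩ heq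
      have hm0 : m ≠ 0 := by
        rintro rfl
        simp at hfix
        omega
      have hm0' : m' ≠ 0 := by
        rintro rfl
        simp at hfix'
        omega
      have ha := pick_mem hm0
      have ha' := pick_mem hm0'
      have haodd := hodd _ ha
      have haodd' := hodd' _ ha'
      have ha2 := h2 _ ha
      have ha2' := h2' _ ha'
      unfold psi at heq
      have hmem : pick m - 1 ∈ (pick m' - 1) ::ₘ m'.erase (pick m') := by
        rw [← heq]; exact Multiset.mem_cons_self _ _
      rw [Multiset.mem_cons] at hmem
      have hpick : pick m = pick m' := by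
        rcases hmem with h | h
        · omega
        · exfalso
          have := hodd' _ (Multiset.mem_of_mem_erase h)
          rcases this with ⟨k, hk⟩
          rcases haodd with ⟨j, hj⟩
          omega
      rw [hpick] at heq
      have := (Multiset.cons_inj_right _).mp heq
      rw [← Multiset.cons_erase ha, ← Multiset.cons_erase ha', hpick, this]
  exact lt_of_le_of_lt key (Set.ncard_sdiff_singleton_lt_of_mem h2mem hfinO)

theorem card_classes_alt_lt (n : ℕ) (hn : 5 ≤ n) :
    Nat.card (ConjClasses ↥(alternatingGroup (Fin n))) <
      Nat.card (ConjClasses (Perm (Fin n))) := by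
  rw [card_classes_sym, ncard_ty]
  have h1 := card_classes_alt_le n
  have h2 := split_lt_odd n hn
  omega

theorem card_classes_sym_le (n : ℕ) (hn : 5 ≤ n) :
    Nat.card (ConjClasses (Perm (Fin n))) ≤ 2 ^ (n - 2) := by
  rw [card_classes_sym]
  exact ty_le_two_pow n hn

end Cfsg.Agent.Lib.Helper8.SymCl
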