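import Cfsg.Agent.Lib.Helper4.TernaryGolay

set_option autoImplicit false

/-! Explicit monomial automorphisms of the length-12 ternary code: the computational facts. -/

namespace Cfsg.Agent.Lib.Helper8.T12

open Cfsg Cfsg.Agent.Lib.Helper4.TernaryGolay

/-- numbering of the twelve positions of the array. -/
def ePt : Fin 12 ≃ ArrayPt := (finProdFinEquiv : Fin 4 × Fin 3 ≃ Fin 12).symm

def tS : Equiv.Perm (Fin 12) := ⟨![0, 1, 2, 4, 5, 3, 7, 8, 6, 10, 11, 9], ![0, 1, 2, 5, 3, 4, 8, 6, 7, 11, 9, 10], by decide, by decide⟩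
def sS : Equiv.Perm ArrayPt := ePt.permCongr tS
def cS : ArrayPt → (ZMod 3)ˣ := fun p => if (![true, true, true, true, true, true, true, true, true, true, true, true] : Fin 12 → Bool) (ePt.symm p) then 1 else -1
def LS : P6 → P6 := fun p => (1 * p.1, 1 * p.1 + 2 * p.2.1 + 1 * p.2.2.1 + 1 * p.2.2.2.1 + 2 * p.2.2.2.2.1, 1 * p.1 + 1 * p.2.1 + 2 * p.2.2.1 + 1 * p.2.2.2.1 + 2 * p.2.2.2.2.1 + 2 * p.2.2.2.2.2, 1 * p.1 + 1 * p.2.1 + 1 * p.2.2.1 + 2 * p.2.2.2.1 + 2 * p.2.2.2.2.1 + 1 * p.2.2.2.2.2, 1 * p.1 + 1 * p.2.1 + 1 * p.2.2.1 + 1 * p.2.2.2.1 + 1 * p.2.2.2.2.1, 1 * p.2.2.2.2.2)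
def tT : Equiv.Perm (Fin 12) := ⟨![0, 1, 2, 10, 11, 9, 4, 5, 3, 7, 8, 6], ![0, 1, 2, 8, 6, 7, 11, 9, 10, 5, 3, 4], by decide, by decide⟩
def sT : Equiv.Perm ArrayPt := ePt.permCongr tT
def cT : ArrayPt → (ZMod 3)ˣ := fun p => if (![true, true, true, true, true, true, true, true, true, true, true, true] : Fin 12 → Bool) (ePt.symm p) then 1 else -1
def LT : P6 → P6 := fun p => (1 * p.1, 1 * p.1 + 1 * p.2.1 + 2 * p.2.2.1 + 1 * p.2.2.2.1 + 2 * p.2.2.2.2.1 + 2 * p.2.2.2.2.2, 1 * p.1 + 1 * p.2.1 + 1 * p.2.2.1 + 2 * p.2.2.2.1 + 2 * p.2.2.2.2.1 + 1 * p.2.2.2.2.2, 1 * p.1 + 2 * p.2.1 + 1 * p.2.2.1 + 1 * p.2.2.2.1 + 2 * p.2.2.2.2.1, 1 * p.1 + 1 * p.2.1 + 1 * p.2.2.1 + 1 * p.2.2.2.1 + 1 * p.2.2.2.2.1 + 1 * p.2.2.2.2.2, 1 * p.2.2.2.2.2)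
def tU : Equiv.Perm (Fin 12) := ⟨![0, 1, 2, 3, 10, 8, 11, 6, 4, 7, 5, 9], ![0, 1, 2, 3, 8, 10, 7, 9, 5, 11, 4, 6], by decide, by decide⟩
def sU : Equiv.Perm ArrayPt := ePt.permCongr tU
def cU : ArrayPt → (ZMod 3)ˣ := fun p => if (![true, true, false, false, false, false, false, false, false, false, false, false] : Fin 12 → Bool) (ePt.symm p) then 1 else -1
def LU : P6 → P6 := fun p => (1 * p.1, 2 * p.2.1, 2 * p.1 + 2 * p.2.1 + 1 * p.2.2.1 + 2 * p.2.2.2.1 + 2 * p.2.2.2.2.1 + 2 * p.2.2.2.2.2, 2 * p.1 + 2 * p.2.1 + 2 * p.2.2.1 + 1 * p.2.2.2.1 + 1 * p.2.2.2.2.1 + 2 * p.2.2.2.2.2, 1 * p.2.2.1 + 2 * p.2.2.2.1 + 1 * p.2.2.2.2.1, 2 * p.1 + 1 * p.2.1 + 1 * p.2.2.1 + 1 * p.2.2.2.1)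
def tV : Equiv.Perm (Fin 12) := ⟨![0, 1, 2, 3, 11, 7, 8, 4, 9, 10, 6, 5], ![0, 1, 2, 3, 7, 11, 10, 5, 6, 8, 9, 4], by decide, by decide⟩
def sV : Equiv.Perm ArrayPt := ePt.permCongr tV
def cV : ArrayPt → (ZMod 3)ˣ := fun p => if (![true, false, true, false, false, false, false, false, false, false, false, false] : Fin 12 → Bool) (ePt.symm p) then 1 else -1
def LV : P6 → P6 := fun p => (1 * p.1, 2 * p.2.1, 2 * p.1 + 2 * p.2.1 + 2 * p.2.2.1 + 1 * p.2.2.2.1 + 2 * p.2.2.2.2.1 + 1 * p.2.2.2.2.2, 2 * p.1 + 2 * p.2.1 + 1 * p.2.2.1 + 2 * p.2.2.2.1 + 1 * p.2.2.2.2.1 + 1 * p.2.2.2.2.2, 1 * p.2.2.1 + 2 * p.2.2.2.1 + 2 * p.2.2.2.2.1, 1 * p.1 + 2 * p.2.1 + 2 * p.2.2.1 + 2 * p.2.2.2.1)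
def tW : Equiv.Perm (Fin 12) := ⟨![0, 1, 2, 3, 6, 9, 5, 8, 11, 4, 7, 10], ![0, 1, 2, 3, 9, 6, 4, 10, 7, 5, 11, 8], by decide, by decide⟩
def sW : Equiv.Perm ArrayPt := ePt.permCongr tW
def cW : ArrayPt → (ZMod 3)ˣ := fun p => if (![true, false, false, true, true, true, true, true, true, true, true, true] : Fin 12 → Bool) (ePt.symm p) then 1 else -1
def LW : P6 → P6 := fun p => (1 * p.1, 1 * p.2.1, 1 * p.1 + 2 * p.2.1 + 1 * p.2.2.1 + 1 * p.2.2.2.1 + 1 * p.2.2.2.2.1, 1 * p.1 + 2 * p.2.1 + 1 * p.2.2.1 + 1 * p.2.2.2.1 + 2 * p.2.2.2.2.1, 1 * p.2.2.1 + 2 * p.2.2.2.1, 2 * p.2.2.2.2.2)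
def tX1 : Equiv.Perm (Fin 12) := ⟨![3, 1, 2, 0, 4, 5, 9, 8, 7, 6, 11, 10], ![3, 1, 2, 0, 4, 5, 9, 8, 7, 6, 11, 10], by decide, by decide⟩
def sX1 : Equiv.Perm ArrayPt := ePt.permCongr tX1
def cX1 : ArrayPt → (ZMod 3)ˣ := fun p => if (![true, false, false, true, false, false, false, true, true, false, true, true] : Fin 12 → Bool) (ePt.symm p) then 1 else -1
def LX1 : P6 → P6 := fun p => (1 * p.2.1, 1 * p.1, 2 * p.2.2.2.1, 2 * p.2.2.1, 2 * p.2.2.2.2.1, 2 * p.2.2.2.2.2)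
def tX2 : Equiv.Perm (Fin 12) := ⟨![1, 0, 2, 3, 4, 5, 11, 9, 10, 7, 8, 6], ![1, 0, 2, 3, 4, 5, 11, 9, 10, 7, 8, 6], by decide, by decide⟩
def sX2 : Equiv.Perm ArrayPt := ePt.permCongr tX2
def cX2 : ArrayPt → (ZMod 3)ˣ := fun p => if (![true, true, true, true, true, true, true, true, true, true, true, true] : Fin 12 → Bool) (ePt.symm p) then 1 else -1
def LX2 : P6 → P6 := fun p => (2 * p.1 + 1 * p.2.1 + 1 * p.2.2.1 + 1 * p.2.2.2.1 + 1 * p.2.2.2.2.2, 1 * p.2.1, 1 * p.1 + 1 * p.2.1 + 1 * p.2.2.1 + 2 * p.2.2.2.1 + 2 * p.2.2.2.2.1 + 1 * p.2.2.2.2.2, 1 * p.1 + 1 * p.2.1 + 2 * p.2.2.1 + 1 * p.2.2.2.1 + 1 * p.2.2.2.2.1 + 1 * p.2.2.2.2.2, 1 * p.2.2.2.2.1, 1 * p.1 + 1 * p.2.1 + 1 * p.2.2.1 + 1 * p.2.2.2.1 + 2 * p.2.2.2.2.2)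
def tX3 : Equiv.Perm (Fin 12) := ⟨![0, 2, 1, 3, 4, 5, 9, 10, 11, 6, 7, 8], ![0, 2, 1, 3, 4, 5, 9, 10, 11, 6, 7, 8], by decide, by decide⟩
def sX3 : Equiv.Perm ArrayPt := ePt.permCongr tX3
def cX3 : ArrayPt → (ZMod 3)ˣ := fun p => if (![true, true, true, true, true, true, true, true, true, true, true, true] : Fin 12 → Bool) (ePt.symm p) then 1 else -1
def LX3 : P6 → P6 := fun p => (1 * p.1, 1 * p.2.1, 1 * p.2.2.2.1, 1 * p.2.2.1, 1 * p.2.2.2.2.1, 2 * p.2.2.2.2.2)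

set_option maxRecDepth 100000 in
theorem mon_S : ∀ p : P6, monomialMap sS cS (encP p) = encP (LS p) := by decide +kernel

set_option maxRecDepth 100000 in
theorem mon_T : ∀ p : P6, monomialMap sT cT (encP p) = encP (LT p) := by decide +kernel

set_option maxRecDepth 100000 in
theorem mon_U : ∀ p : P6, monomialMap sU cU (encP p) = encP (LU p) := by decide +kernel

set_option maxRecDepth 100000 in
theorem mon_V : ∀ p : P6, monomialMap sV cV (encP p) = encP (LV p) := by decide +kernel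

set_option maxRecDepth 100000 in
theorem mon_W : ∀ p : P6, monomialMap sW cW (encP p) = encP (LW p) := by decide +kernel

set_option maxRecDepth 100000 in
theorem mon_X1 : ∀ p : P6, monomialMap sX1 cX1 (encP p) = encP (LX1 p) := by decide +kernel

set_option maxRecDepth 100000 in
theorem mon_X2 : ∀ p : P6, monomialMap sX2 cX2 (encP p) = encP (LX2 p) := by decide +kernel

set_option maxRecDepth 100000 in
theorem mon_X3 : ∀ p : P6, monomialMap sX3 cX3 (encP p) = encP (LX3 p) := by decide +kernel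

end Cfsg.Agent.Lib.Helper8.T12
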