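import Cfsg.Agent.Lib.Helper8.T12a
import Cfsg.Agent.Lib.Helper8.W7
import Cfsg.Agent.S1592
import Cfsg.Agent.S1593

set_option autoImplicit false
set_option linter.unusedSectionVars false
set_option linter.unusedVariables false

/-! Monomial automorphisms of the length-12 ternary code: general theory. -/

namespace Cfsg.Agent.Lib.Helper8.T12

open Cfsg Finset MulAction Cfsg.Agent.Lib.Helper4.TernaryGolay

/-- the pair `(σ, c)` preserves the code. -/
def IsMon (σ : Equiv.Perm ArrayPt) (c : ArrayPt → (ZMod 3)ˣ) : Prop :=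
  ∀ x ∈ ternaryGolayCode, monomialMap σ c x ∈ ternaryGolayCode

/-- the hexad system of the code. -/
def H : Set (Finset ArrayPt) :=
  {h : Finset ArrayPt | ∃ x ∈ ternaryGolayCode, ternarySupport x = h ∧ h.card = 6}

theorem steiner_H : IsSteinerSystem 5 6 H := Cfsg.Agent.S1592.result.1

theorem cardPt : Fintype.card ArrayPt = 12 := by
  rw [Fintype.card_prod, Fintype.card_fin, ZMod.card]

theorem monomialMap_mul (σ τ : Equiv.Perm ArrayPt) (c d : ArrayPt → (ZMod 3)ˣ)
    (x : ArrayPt → ZMod 3) :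
    monomialMap σ c (monomialMap τ d x) =
      monomialMap (σ * τ) (fun i => c i * d (σ.symm i)) x := by
  funext i
  simp only [monomialMap]
  rw [Units.val_mul, mul_assoc]
  rfl

theorem isMon_one : IsMon 1 (fun _ => 1) := by
  intro x hx
  have : monomialMap (1 : Equiv.Perm ArrayPt) (fun _ => (1 : (ZMod 3)ˣ)) x = x := by
    funext i
    show ((1 : (ZMod 3)ˣ) : ZMod 3) * x i = x i
    rw [Units.val_one, one_mul]
  rw [this]
  exact hx

/-- the permutation parts of the monomial automorphisms, as a submonoid. -/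
def monSub : Submonoid (Equiv.Perm ArrayPt) where
  carrier := {σ | ∃ c, IsMon σ c}
  mul_mem' := by
    rintro σ τ ⟨c, hc⟩ ⟨d, hd⟩
    refine ⟨fun i => c i * d (σ.symm i), fun x hx => ?_⟩
    rw [← monomialMap_mul]
    exact hc _ (hd x hx)
  one_mem' := ⟨_, isMon_one⟩

/-- the permutation parts of the monomial automorphisms, as a subgroup. -/
def monPerm : Subgroup (Equiv.Perm ArrayPt) where
  toSubmonoid := monSub
  inv_mem' := by
    intro σ hσ
    have hpos : 0 < orderOf σ := orderOf_pos σ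
    have h1 : σ ^ (orderOf σ - 1) * σ = 1 := by
      rw [← pow_succ, Nat.sub_add_cancel hpos, pow_orderOf_eq_one]
    have h2 : σ⁻¹ = σ ^ (orderOf σ - 1) := (eq_inv_of_mul_eq_one_left h1).symm
    rw [h2]
    exact monSub.pow_mem hσ _

theorem mem_monPerm {σ : Equiv.Perm ArrayPt} : σ ∈ monPerm ↔ ∃ c, IsMon σ c := Iff.rfl

theorem support_monomialMap (σ : Equiv.Perm ArrayPt) (c : ArrayPt → (ZMod 3)ˣ)
    (x : ArrayPt → ZMod 3) :
    ternarySupport (monomialMap σ c x) = (ternarySupport x).image σ := by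
  ext i
  rw [ternarySupport, mem_filter, mem_image]
  constructor
  · rintro ⟨-, h⟩
    refine ⟨σ.symm i, ?_, σ.apply_symm_apply i⟩
    rw [ternarySupport, mem_filter]
    refine ⟨mem_univ _, ?_⟩
    intro h0
    apply h
    show (c i : ZMod 3) * x (σ.symm i) = 0
    rw [h0, mul_zero]
  · rintro ⟨j, hj, rfl⟩
    rw [ternarySupport, mem_filter] at hj
    refine ⟨mem_univ _, ?_⟩
    show (c (σ j) : ZMod 3) * x (σ.symm (σ j)) ≠ 0
    rw [σ.symm_apply_apply]
    exact mul_ne_zero (Units.ne_zero _) hj.2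

theorem mem_aut_of_image' {α : Type*} [Fintype α] [DecidableEq α] {B : Set (Finset α)}
    (g : Equiv.Perm α) (h : ∀ b ∈ B, b.image g ∈ B) : g ∈ Cfsg.setSystemAut B := by
  rw [Cfsg.Agent.Lib.Helper8.W.mem_aut_iff]
  have hsub : (fun b : Finset α => b.image g) '' B ⊆ B := by
    rintro _ ⟨b, hb, rfl⟩
    exact h b hb
  apply Set.eq_of_subset_of_ncard_le hsub _ (Set.toFinite B)
  rw [Set.ncard_image_of_injective]
  exact Finset.image_injective g.injective

theorem monPerm_le_aut : monPerm ≤ Cfsg.setSystemAut H := by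
  rintro σ ⟨c, hc⟩
  apply mem_aut_of_image'
  rintro h ⟨x, hx, rfl, h6⟩
  refine ⟨monomialMap σ c x, hc x hx, support_monomialMap σ c x, ?_⟩
  rw [card_image_of_injective _ σ.injective]
  exact h6

theorem isMon_of (σ : Equiv.Perm ArrayPt) (c : ArrayPt → (ZMod 3)ˣ) (L : P6 → P6)
    (h : ∀ p : P6, monomialMap σ c (encP p) = encP (L p)) : IsMon σ c := by
  intro x hx
  obtain ⟨p, rfl⟩ := exists_encP x hx
  rw [h]
  exact encP_mem _

/-! ### orbit-stabiliser chain -/

theorem card_ge_of_fix' {α : Type*} [Fintype α] [DecidableEq α] {K K' : Subgroup (Equiv.Perm α)}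
    (hK : K' ≤ K) (p : α) (hfix : ∀ g ∈ K', g p = p) (T : Finset α)
    (hT : ∀ q ∈ T, ∃ g ∈ K, g p = q) : T.card * Nat.card K' ≤ Nat.card K := by
  have h1 := index_stabilizer K p
  have h2 := (stabilizer K p).card_mul_index
  have h3 : T.card ≤ (orbit K p).ncard := by
    rw [← Set.ncard_coe_finset T]
    apply Set.ncard_le_ncard _ (Set.toFinite _)
    intro q hq
    obtain ⟨g, hg, hgq⟩ := hT q (Finset.mem_coe.mp hq)
    exact ⟨⟨g, hg⟩, hgq⟩
  have h4 : Nat.card K' ≤ Nat.card (stabilizer K p) := by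
    apply Nat.card_le_card_of_injective
      (fun x : K' => (⟨⟨x.1, hK x.2⟩, hfix x.1 x.2⟩ : stabilizer K p))
    intro x y hxy
    apply Subtype.ext
    exact congrArg (fun z : stabilizer K p => (z.1.1 : Equiv.Perm α)) hxy
  rw [h1] at h2
  calc T.card * Nat.card K' ≤ (orbit K p).ncard * Nat.card (stabilizer K p) :=
        Nat.mul_le_mul h3 h4
    _ = Nat.card K := by rw [mul_comm]; exact h2

/-! ### counting the monomial automorphisms -/

theorem units_ne_neg : ∀ u : (ZMod 3)ˣ, u ≠ -u := by decide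

theorem isMon_neg {σ : Equiv.Perm ArrayPt} {c : ArrayPt → (ZMod 3)ˣ} (h : IsMon σ c) :
    IsMon σ (fun i => -c i) := by
  intro x hx
  have : monomialMap σ (fun i => -c i) x = -monomialMap σ c x := by
    funext i
    simp [monomialMap]
  rw [this]
  exact ternaryGolayCode.neg_mem (h x hx)

theorem monomialMap_injective (σ : Equiv.Perm ArrayPt) (c : ArrayPt → (ZMod 3)ˣ) :
    Function.Injective (monomialMap σ c) := by
  intro x y hxy
  funext j
  have := congrFun hxy (σ j)
  simp only [monomialMap, Equiv.symm_apply_apply] at this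
  exact (Units.mul_right_inj (c (σ j))).mp this

theorem isMon_surj {σ : Equiv.Perm ArrayPt} {c : ArrayPt → (ZMod 3)ˣ} (h : IsMon σ c)
    (y : ArrayPt → ZMod 3) (hy : y ∈ ternaryGolayCode) :
    ∃ x ∈ ternaryGolayCode, monomialMap σ c x = y := by
  let f : ternaryGolayCode → ternaryGolayCode := fun x => ⟨monomialMap σ c x.1, h x.1 x.2⟩
  have hinj : Function.Injective f := by
    intro x x' hxx
    apply Subtype.ext
    exact monomialMap_injective σ c (congrArg Subtype.val hxx)
  obtain ⟨x, hx⟩ := Finite.surjective_of_injective hinj ⟨y, hy⟩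
  exact ⟨x.1, x.2, congrArg Subtype.val hx⟩

theorem fiber_eq {σ : Equiv.Perm ArrayPt} {c0 : ArrayPt → (ZMod 3)ˣ} (h0 : IsMon σ c0) :
    {c | IsMon σ c} = {c0, fun i => -c0 i} := by
  ext c
  simp only [Set.mem_ofPred_eq, Set.mem_insert_iff, Set.mem_singleton_iff]
  constructor
  · intro hc
    have hd : ∀ y ∈ ternaryGolayCode,
        monomialMap 1 (fun i => c i * (c0 i)⁻¹) y ∈ ternaryGolayCode := by
      intro y hy
      obtain ⟨x, hx, rfl⟩ := isMon_surj h0 y hy
      have : monomialMap 1 (fun i => c i * (c0 i)⁻¹) (monomialMap σ c0 x) = monomialMap σ c x := by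
        funext i
        simp only [monomialMap, Equiv.Perm.one_symm, Equiv.Perm.one_apply, Units.val_mul]
        rw [mul_assoc, ← mul_assoc (((c0 i)⁻¹ : (ZMod 3)ˣ) : ZMod 3), ← Units.val_mul,
          inv_mul_cancel, Units.val_one, one_mul]
      rw [this]
      exact hc x hx
    rcases Cfsg.Agent.S1593.result _ hd with h1 | h1
    · left
      funext i
      exact mul_inv_eq_one.mp (h1 i)
    · right
      funext i
      have := h1 i
      rw [mul_inv_eq_iff_eq_mul] at this
      rw [this, neg_one_mul]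
  · rintro (rfl | rfl)
    · exact h0
    · exact isMon_neg h0

theorem fiber_card (σ : monPerm) : Nat.card {c // IsMon σ.1 c} = 2 := by
  obtain ⟨c0, h0⟩ := σ.2
  have := fiber_eq h0
  rw [← Set.coe_ofPred, Nat.card_coe_set_eq, this, Set.ncard_pair]
  intro hcon
  exact units_ne_neg (c0 (ePt 0)) (congrFun hcon (ePt 0))

/-- the monomial automorphisms fibre over their permutation parts. -/
def monEquiv : {f : Equiv.Perm ArrayPt × (ArrayPt → (ZMod 3)ˣ) // IsMon f.1 f.2} ≃
    (Σ σ : monPerm, {c // IsMon σ.1 c}) where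
  toFun f := ⟨⟨f.1.1, ⟨f.1.2, f.2⟩⟩, ⟨f.1.2, f.2⟩⟩
  invFun s := ⟨(s.1.1, s.2.1), s.2.2⟩
  left_inv f := rfl
  right_inv s := rfl

theorem card_mon :
    Nat.card {f : Equiv.Perm ArrayPt × (ArrayPt → (ZMod 3)ˣ) // IsMon f.1 f.2} =
      Nat.card monPerm * 2 := by
  haveI : Fintype monPerm := Fintype.ofFinite _
  rw [Nat.card_congr monEquiv, Nat.card_sigma]
  simp only [fiber_card]
  rw [Finset.sum_const, smul_eq_mul, Finset.card_univ, Nat.card_eq_fintype_card]

end Cfsg.Agent.Lib.Helper8.T12
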