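import Cfsg.Agent.Lib.Helper8.T12b

set_option autoImplicit false
set_option linter.unusedSectionVars false
set_option linter.unusedVariables false

/-! Monomial automorphisms of the length-12 ternary code: the permutation parts are the full
automorphism group of the hexad system. -/

namespace Cfsg.Agent.Lib.Helper8.T12

open Cfsg Finset MulAction Cfsg.Agent.Lib.Helper4.TernaryGolay

def K0 : Subgroup (Equiv.Perm ArrayPt) := Subgroup.closure {sS, sT, sU, sV, sW, sX1, sX2, sX3}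
def K1 : Subgroup (Equiv.Perm ArrayPt) := Subgroup.closure {sS, sT, sU, sV, sW, sX1, sX2}
def K2 : Subgroup (Equiv.Perm ArrayPt) := Subgroup.closure {sS, sT, sU, sV, sW, sX1}
def K3 : Subgroup (Equiv.Perm ArrayPt) := Subgroup.closure {sS, sT, sU, sV, sW}
def K4 : Subgroup (Equiv.Perm ArrayPt) := Subgroup.closure {sU, sV, sW}

theorem mem_K0_sS : sS ∈ K0 := Subgroup.subset_closure (by simp)
theorem mem_K0_sT : sT ∈ K0 := Subgroup.subset_closure (by simp)
theorem mem_K0_sU : sU ∈ K0 := Subgroup.subset_closure (by simp)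
theorem mem_K0_sV : sV ∈ K0 := Subgroup.subset_closure (by simp)
theorem mem_K0_sW : sW ∈ K0 := Subgroup.subset_closure (by simp)
theorem mem_K0_sX1 : sX1 ∈ K0 := Subgroup.subset_closure (by simp)
theorem mem_K0_sX2 : sX2 ∈ K0 := Subgroup.subset_closure (by simp)
theorem mem_K0_sX3 : sX3 ∈ K0 := Subgroup.subset_closure (by simp)
theorem mem_K1_sS : sS ∈ K1 := Subgroup.subset_closure (by simp)
theorem mem_K1_sT : sT ∈ K1 := Subgroup.subset_closure (by simp)
theorem mem_K1_sU : sU ∈ K1 := Subgroup.subset_closure (by simp)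
theorem mem_K1_sV : sV ∈ K1 := Subgroup.subset_closure (by simp)
theorem mem_K1_sW : sW ∈ K1 := Subgroup.subset_closure (by simp)
theorem mem_K1_sX1 : sX1 ∈ K1 := Subgroup.subset_closure (by simp)
theorem mem_K1_sX2 : sX2 ∈ K1 := Subgroup.subset_closure (by simp)
theorem mem_K2_sS : sS ∈ K2 := Subgroup.subset_closure (by simp)
theorem mem_K2_sT : sT ∈ K2 := Subgroup.subset_closure (by simp)
theorem mem_K2_sU : sU ∈ K2 := Subgroup.subset_closure (by simp)
theorem mem_K2_sV : sV ∈ K2 := Subgroup.subset_closure (by simp)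
theorem mem_K2_sW : sW ∈ K2 := Subgroup.subset_closure (by simp)
theorem mem_K2_sX1 : sX1 ∈ K2 := Subgroup.subset_closure (by simp)
theorem mem_K3_sS : sS ∈ K3 := Subgroup.subset_closure (by simp)
theorem mem_K3_sT : sT ∈ K3 := Subgroup.subset_closure (by simp)
theorem mem_K3_sU : sU ∈ K3 := Subgroup.subset_closure (by simp)
theorem mem_K3_sV : sV ∈ K3 := Subgroup.subset_closure (by simp)
theorem mem_K3_sW : sW ∈ K3 := Subgroup.subset_closure (by simp)
theorem mem_K4_sU : sU ∈ K4 := Subgroup.subset_closure (by simp)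
theorem mem_K4_sV : sV ∈ K4 := Subgroup.subset_closure (by simp)
theorem mem_K4_sW : sW ∈ K4 := Subgroup.subset_closure (by simp)

theorem K1_le_K0 : K1 ≤ K0 := (Subgroup.closure_le _).mpr (by
  intro x hx
  simp only [Set.mem_insert_iff, Set.mem_singleton_iff] at hx
  rcases hx with rfl | rfl | rfl | rfl | rfl | rfl | rfl
  exacts [mem_K0_sS, mem_K0_sT, mem_K0_sU, mem_K0_sV, mem_K0_sW, mem_K0_sX1, mem_K0_sX2])

theorem K2_le_K1 : K2 ≤ K1 := (Subgroup.closure_le _).mpr (by
  intro x hx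
  simp only [Set.mem_insert_iff, Set.mem_singleton_iff] at hx
  rcases hx with rfl | rfl | rfl | rfl | rfl | rfl
  exacts [mem_K1_sS, mem_K1_sT, mem_K1_sU, mem_K1_sV, mem_K1_sW, mem_K1_sX1])

theorem K3_le_K2 : K3 ≤ K2 := (Subgroup.closure_le _).mpr (by
  intro x hx
  simp only [Set.mem_insert_iff, Set.mem_singleton_iff] at hx
  rcases hx with rfl | rfl | rfl | rfl | rfl
  exacts [mem_K2_sS, mem_K2_sT, mem_K2_sU, mem_K2_sV, mem_K2_sW])

theorem K4_le_K3 : K4 ≤ K3 := (Subgroup.closure_le _).mpr (by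
  intro x hx
  simp only [Set.mem_insert_iff, Set.mem_singleton_iff] at hx
  rcases hx with rfl | rfl | rfl
  exacts [mem_K3_sU, mem_K3_sV, mem_K3_sW])

theorem K1_fix : ∀ g ∈ K1, g (ePt 2) = ePt 2 := by
  have : K1 ≤ stabilizer (Equiv.Perm ArrayPt) (ePt 2) := by
    apply (Subgroup.closure_le _).mpr
    intro x hx
    simp only [Set.mem_insert_iff, Set.mem_singleton_iff] at hx
    rcases hx with rfl | rfl | rfl | rfl | rfl | rfl | rfl <;>
    · show _ • (ePt 2) = ePt 2
      decide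
  exact fun g hg => this hg

theorem K2_fix : ∀ g ∈ K2, g (ePt 1) = ePt 1 := by
  have : K2 ≤ stabilizer (Equiv.Perm ArrayPt) (ePt 1) := by
    apply (Subgroup.closure_le _).mpr
    intro x hx
    simp only [Set.mem_insert_iff, Set.mem_singleton_iff] at hx
    rcases hx with rfl | rfl | rfl | rfl | rfl | rfl <;>
    · show _ • (ePt 1) = ePt 1
      decide
  exact fun g hg => this hg

theorem K3_fix : ∀ g ∈ K3, g (ePt 0) = ePt 0 := by
  have : K3 ≤ stabilizer (Equiv.Perm ArrayPt) (ePt 0) := by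
    apply (Subgroup.closure_le _).mpr
    intro x hx
    simp only [Set.mem_insert_iff, Set.mem_singleton_iff] at hx
    rcases hx with rfl | rfl | rfl | rfl | rfl <;>
    · show _ • (ePt 0) = ePt 0
      decide
  exact fun g hg => this hg

theorem K4_fix : ∀ g ∈ K4, g (ePt 3) = ePt 3 := by
  have : K4 ≤ stabilizer (Equiv.Perm ArrayPt) (ePt 3) := by
    apply (Subgroup.closure_le _).mpr
    intro x hx
    simp only [Set.mem_insert_iff, Set.mem_singleton_iff] at hx
    rcases hx with rfl | rfl | rfl <;>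
    · show _ • (ePt 3) = ePt 3
      decide
  exact fun g hg => this hg

/-- `q` is in the orbit of `p` under `K`. -/
def Reach (K : Subgroup (Equiv.Perm ArrayPt)) (p q : ArrayPt) : Prop := ∃ g ∈ K, g p = q

theorem Reach.refl (K : Subgroup (Equiv.Perm ArrayPt)) (p : ArrayPt) : Reach K p p :=
  ⟨1, K.one_mem, rfl⟩

theorem Reach.step {K : Subgroup (Equiv.Perm ArrayPt)} {p q : ArrayPt} (h : Reach K p q)
    {g : Equiv.Perm ArrayPt} (hg : g ∈ K) {q' : ArrayPt} (hq : g q = q') : Reach K p q' := by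
  obtain ⟨g0, hg0, rfl⟩ := h
  exact ⟨g * g0, K.mul_mem hg hg0, by rw [Equiv.Perm.mul_apply, hq]⟩

def T0 : Finset (Fin 12) := {0, 1, 2, 3, 4, 5, 6, 7, 8, 9, 10, 11}

theorem reach0 : ∀ q : Fin 12, q ∈ T0 → Reach K0 (ePt 2) (ePt q) := by
  have h2 : Reach K0 (ePt 2) (ePt 2) := Reach.refl _ _
  have h1 : Reach K0 (ePt 2) (ePt 1) := h2.step (mem_K0_sX3) (by decide)
  have h0 : Reach K0 (ePt 2) (ePt 0) := h1.step (mem_K0_sX2) (by decide)
  have h3 : Reach K0 (ePt 2) (ePt 3) := h0.step (mem_K0_sX1) (by decide)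
  have h4 : Reach K0 (ePt 2) (ePt 4) := h3.step (mem_K0_sS) (by decide)
  have h10 : Reach K0 (ePt 2) (ePt 10) := h3.step (mem_K0_sT) (by decide)
  have h5 : Reach K0 (ePt 2) (ePt 5) := h4.step (mem_K0_sS) (by decide)
  have h11 : Reach K0 (ePt 2) (ePt 11) := h4.step (mem_K0_sT) (by decide)
  have h6 : Reach K0 (ePt 2) (ePt 6) := h4.step (mem_K0_sW) (by decide)
  have h8 : Reach K0 (ePt 2) (ePt 8) := h10.step (mem_K0_sT) (by decide)
  have h7 : Reach K0 (ePt 2) (ePt 7) := h10.step (mem_K0_sW) (by decide)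
  have h9 : Reach K0 (ePt 2) (ePt 9) := h5.step (mem_K0_sT) (by decide)
  intro q hq
  fin_cases q <;> assumption

def T1 : Finset (Fin 12) := {0, 1, 3, 4, 5, 6, 7, 8, 9, 10, 11}

theorem reach1 : ∀ q : Fin 12, q ∈ T1 → Reach K1 (ePt 1) (ePt q) := by
  have h1 : Reach K1 (ePt 1) (ePt 1) := Reach.refl _ _
  have h0 : Reach K1 (ePt 1) (ePt 0) := h1.step (mem_K1_sX2) (by decide)
  have h3 : Reach K1 (ePt 1) (ePt 3) := h0.step (mem_K1_sX1) (by decide)
  have h4 : Reach K1 (ePt 1) (ePt 4) := h3.step (mem_K1_sS) (by decide)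
  have h10 : Reach K1 (ePt 1) (ePt 10) := h3.step (mem_K1_sT) (by decide)
  have h5 : Reach K1 (ePt 1) (ePt 5) := h4.step (mem_K1_sS) (by decide)
  have h11 : Reach K1 (ePt 1) (ePt 11) := h4.step (mem_K1_sT) (by decide)
  have h6 : Reach K1 (ePt 1) (ePt 6) := h4.step (mem_K1_sW) (by decide)
  have h8 : Reach K1 (ePt 1) (ePt 8) := h10.step (mem_K1_sT) (by decide)
  have h7 : Reach K1 (ePt 1) (ePt 7) := h10.step (mem_K1_sW) (by decide)
  have h9 : Reach K1 (ePt 1) (ePt 9) := h5.step (mem_K1_sT) (by decide)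
  intro q hq
  fin_cases q <;> first | assumption | exact absurd hq (by decide)

def T2 : Finset (Fin 12) := {0, 3, 4, 5, 6, 7, 8, 9, 10, 11}

theorem reach2 : ∀ q : Fin 12, q ∈ T2 → Reach K2 (ePt 0) (ePt q) := by
  have h0 : Reach K2 (ePt 0) (ePt 0) := Reach.refl _ _
  have h3 : Reach K2 (ePt 0) (ePt 3) := h0.step (mem_K2_sX1) (by decide)
  have h4 : Reach K2 (ePt 0) (ePt 4) := h3.step (mem_K2_sS) (by decide)
  have h10 : Reach K2 (ePt 0) (ePt 10) := h3.step (mem_K2_sT) (by decide)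
  have h5 : Reach K2 (ePt 0) (ePt 5) := h4.step (mem_K2_sS) (by decide)
  have h11 : Reach K2 (ePt 0) (ePt 11) := h4.step (mem_K2_sT) (by decide)
  have h6 : Reach K2 (ePt 0) (ePt 6) := h4.step (mem_K2_sW) (by decide)
  have h8 : Reach K2 (ePt 0) (ePt 8) := h10.step (mem_K2_sT) (by decide)
  have h7 : Reach K2 (ePt 0) (ePt 7) := h10.step (mem_K2_sW) (by decide)
  have h9 : Reach K2 (ePt 0) (ePt 9) := h5.step (mem_K2_sT) (by decide)
  intro q hq
  fin_cases q <;> first | assumption | exact absurd hq (by decide)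

def T3 : Finset (Fin 12) := {3, 4, 5, 6, 7, 8, 9, 10, 11}

theorem reach3 : ∀ q : Fin 12, q ∈ T3 → Reach K3 (ePt 3) (ePt q) := by
  have h3 : Reach K3 (ePt 3) (ePt 3) := Reach.refl _ _
  have h4 : Reach K3 (ePt 3) (ePt 4) := h3.step (mem_K3_sS) (by decide)
  have h10 : Reach K3 (ePt 3) (ePt 10) := h3.step (mem_K3_sT) (by decide)
  have h5 : Reach K3 (ePt 3) (ePt 5) := h4.step (mem_K3_sS) (by decide)
  have h11 : Reach K3 (ePt 3) (ePt 11) := h4.step (mem_K3_sT) (by decide)
  have h6 : Reach K3 (ePt 3) (ePt 6) := h4.step (mem_K3_sW) (by decide)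
  have h8 : Reach K3 (ePt 3) (ePt 8) := h10.step (mem_K3_sT) (by decide)
  have h7 : Reach K3 (ePt 3) (ePt 7) := h10.step (mem_K3_sW) (by decide)
  have h9 : Reach K3 (ePt 3) (ePt 9) := h5.step (mem_K3_sT) (by decide)
  intro q hq
  fin_cases q <;> first | assumption | exact absurd hq (by decide)

def T4 : Finset (Fin 12) := {4, 5, 6, 7, 8, 9, 10, 11}

theorem reach4 : ∀ q : Fin 12, q ∈ T4 → Reach K4 (ePt 4) (ePt q) := by
  have h4 : Reach K4 (ePt 4) (ePt 4) := Reach.refl _ _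
  have h10 : Reach K4 (ePt 4) (ePt 10) := h4.step (mem_K4_sU) (by decide)
  have h11 : Reach K4 (ePt 4) (ePt 11) := h4.step (mem_K4_sV) (by decide)
  have h6 : Reach K4 (ePt 4) (ePt 6) := h4.step (mem_K4_sW) (by decide)
  have h5 : Reach K4 (ePt 4) (ePt 5) := h10.step (mem_K4_sU) (by decide)
  have h7 : Reach K4 (ePt 4) (ePt 7) := h10.step (mem_K4_sW) (by decide)
  have h9 : Reach K4 (ePt 4) (ePt 9) := h11.step (mem_K4_sU) (by decide)
  have h8 : Reach K4 (ePt 4) (ePt 8) := h6.step (mem_K4_sV) (by decide)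
  intro q hq
  fin_cases q <;> first | assumption | exact absurd hq (by decide)

theorem reach_map {K : Subgroup (Equiv.Perm ArrayPt)} {p : Fin 12} {T : Finset (Fin 12)}
    (h : ∀ q : Fin 12, q ∈ T → Reach K (ePt p) (ePt q)) :
    ∀ q ∈ T.map ePt.toEmbedding, ∃ g ∈ K, g (ePt p) = q := by
  intro q hq
  obtain ⟨q0, hq0, rfl⟩ := Finset.mem_map.mp hq
  exact h q0 hq0

theorem card_K4 : 8 ≤ Nat.card K4 := by
  have := card_ge_of_fix' (K := K4) (K' := ⊥) bot_le (ePt 4)
    (fun g hg => by rw [Subgroup.mem_bot.mp hg]; rfl) (T4.map ePt.toEmbedding) (reach_map reach4)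
  rw [Subgroup.card_bot, mul_one, Finset.card_map] at this
  exact this

theorem card_K3 : 72 ≤ Nat.card K3 := by
  have := card_ge_of_fix' K4_le_K3 (ePt 3) K4_fix (T3.map ePt.toEmbedding) (reach_map reach3)
  have h4 := card_K4
  have hT : T3.card = 9 := by decide
  rw [Finset.card_map, hT] at this
  omega

theorem card_K2 : 720 ≤ Nat.card K2 := by
  have := card_ge_of_fix' K3_le_K2 (ePt 0) K3_fix (T2.map ePt.toEmbedding) (reach_map reach2)
  have h3 := card_K3
  have hT : T2.card = 10 := by decide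
  rw [Finset.card_map, hT] at this
  omega

theorem card_K1_ge : 7920 ≤ Nat.card K1 := by
  have := card_ge_of_fix' K2_le_K1 (ePt 1) K2_fix (T1.map ePt.toEmbedding) (reach_map reach1)
  have h2 := card_K2
  have hT : T1.card = 11 := by decide
  rw [Finset.card_map, hT] at this
  omega

theorem card_K0_ge : 95040 ≤ Nat.card K0 := by
  have := card_ge_of_fix' K1_le_K0 (ePt 2) K1_fix (T0.map ePt.toEmbedding) (reach_map reach0)
  have h1 := card_K1_ge
  have hT : T0.card = 12 := by decide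
  rw [Finset.card_map, hT] at this
  omega

theorem K0_le_monPerm : K0 ≤ monPerm := by
  apply (Subgroup.closure_le _).mpr
  intro x hx
  simp only [Set.mem_insert_iff, Set.mem_singleton_iff] at hx
  rcases hx with rfl | rfl | rfl | rfl | rfl | rfl | rfl | rfl
  · exact ⟨cS, isMon_of _ _ LS mon_S⟩
  · exact ⟨cT, isMon_of _ _ LT mon_T⟩
  · exact ⟨cU, isMon_of _ _ LU mon_U⟩
  · exact ⟨cV, isMon_of _ _ LV mon_V⟩
  · exact ⟨cW, isMon_of _ _ LW mon_W⟩
  · exact ⟨cX1, isMon_of _ _ LX1 mon_X1⟩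
  · exact ⟨cX2, isMon_of _ _ LX2 mon_X2⟩
  · exact ⟨cX3, isMon_of _ _ LX3 mon_X3⟩

theorem card_aut_H : Nat.card (Cfsg.setSystemAut H) = 95040 :=
  Cfsg.Agent.Lib.Helper8.W.aut_card cardPt steiner_H

theorem monPerm_eq : monPerm = Cfsg.setSystemAut H := by
  apply Subgroup.eq_of_le_of_card_ge monPerm_le_aut
  rw [card_aut_H]
  exact card_K0_ge.trans (Subgroup.card_le_of_le K0_le_monPerm)

theorem card_mon_eq :
    Nat.card {f : Equiv.Perm ArrayPt × (ArrayPt → (ZMod 3)ˣ) // IsMon f.1 f.2} = 190080 := by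
  rw [card_mon, monPerm_eq, card_aut_H]

end Cfsg.Agent.Lib.Helper8.T12
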