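import Mathlib

/-! S3797 piece H: a finite abelian 2-group whose automorphism group is transitive on its
involutions is homocyclic. -/

namespace Cfsg.Agent.Lib.Helper8.T97

/-- every element of `Multiplicative (ZMod N)` has `N`-th power one -/
theorem zmod_pow_self (N : ℕ) (t : Multiplicative (ZMod N)) : t ^ N = 1 := by
  have h : N • Multiplicative.toAdd t = 0 := by
    rw [nsmul_eq_mul, ZMod.natCast_self, zero_mul]
  have h2 : Multiplicative.ofAdd (N • Multiplicative.toAdd t) = 1 := by rw [h]; rfl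
  rw [ofAdd_nsmul] at h2
  simpa using h2

/-- the standard generator of the `i`-th cyclic factor -/
noncomputable def gen {ι : Type} [DecidableEq ι] (n : ι → ℕ) (i : ι) :
    (i : ι) → Multiplicative (ZMod (n i)) :=
  Pi.mulSingle i (Multiplicative.ofAdd (1 : ZMod (n i)))

theorem gen_pow {ι : Type} [DecidableEq ι] (n : ι → ℕ) (i : ι) (c : ℕ) :
    gen n i ^ c = Pi.mulSingle i (Multiplicative.ofAdd ((c : ℕ) : ZMod (n i))) := by
  unfold gen
  rw [← Pi.mulSingle_pow, ← ofAdd_nsmul, nsmul_eq_mul, mul_one]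

theorem homocyclic_aux {ι : Type} [Fintype ι] (n : ι → ℕ) (k : ℕ)
    (hcard : Nat.card ((i : ι) → Multiplicative (ZMod (n i))) = 2 ^ k) (h1 : ∀ i, 1 < n i)
    (htr : ∀ x y : ((i : ι) → Multiplicative (ZMod (n i))), x ≠ 1 → x ^ 2 = 1 → y ≠ 1 →
      y ^ 2 = 1 → ∃ a : MulAut ((i : ι) → Multiplicative (ZMod (n i))), a x = y) :
    ∃ m : ℕ, ∀ i, n i = 2 ^ m := by
  classical
  have hdvd : ∀ i, n i ∣ 2 ^ k := by
    intro i
    rw [← hcard, Nat.card_pi]
    have : Nat.card (Multiplicative (ZMod (n i))) = n i := Nat.card_zmod (n i)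
    rw [← this]
    exact Finset.dvd_prod_of_mem (fun a => Nat.card (Multiplicative (ZMod (n a)))) (Finset.mem_univ i)
  have hex : ∀ i, ∃ e, e ≤ k ∧ n i = 2 ^ e := fun i =>
    (Nat.dvd_prime_pow Nat.prime_two).1 (hdvd i)
  choose ex hexk hexn using hex
  refine ⟨Finset.univ.sup ex, ?_⟩
  set m := Finset.univ.sup ex with hm
  have hle : ∀ i, ex i ≤ m := fun i => Finset.le_sup (Finset.mem_univ i)
  intro j
  rw [hexn j]
  congr 1
  by_contra hne
  have hlt : ex j < m := lt_of_le_of_ne (hle j) hne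
  haveI : Nonempty ι := ⟨j⟩
  obtain ⟨i0, _, hi0⟩ := Finset.exists_mem_eq_sup Finset.univ Finset.univ_nonempty ex
  rw [← hm] at hi0
  have hej : 1 ≤ ex j := by
    by_contra h
    have : ex j = 0 := by omega
    have h2 := h1 j
    rw [hexn j, this] at h2
    simp at h2
  -- generators
  have hi0' : ex i0 = m := hi0.symm
  have hgen : ∀ i (c : ℕ), gen n i ^ c = 1 ↔ n i ∣ c := by
    intro i c
    rw [gen_pow, Pi.mulSingle_eq_one_iff]
    constructor
    · intro h
      have h4 : ((c : ℕ) : ZMod (n i)) = 0 := by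
        have := congrArg Multiplicative.toAdd h
        simpa using this
      exact (ZMod.natCast_eq_zero_iff c (n i)).1 h4
    · intro h
      have h4 : ((c : ℕ) : ZMod (n i)) = 0 := (ZMod.natCast_eq_zero_iff c (n i)).2 h
      rw [h4]
      rfl
  set x := gen n i0 ^ (2 ^ (m - 1)) with hx
  set y := gen n j ^ (2 ^ (ex j - 1)) with hy
  have hx1 : x ≠ 1 := by
    intro h
    have := (hgen i0 _).1 h
    rw [hexn i0, hi0'] at this
    have := (Nat.pow_dvd_pow_iff_le_right (by norm_num : 1 < 2)).1 this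
    omega
  have hx2 : x ^ 2 = 1 := by
    rw [hx, ← pow_mul, hgen, hexn i0, hi0']
    have : 2 ^ (m - 1) * 2 = 2 ^ m := by
      rw [← pow_succ]
      congr 1
      omega
    rw [this]
  have hy1 : y ≠ 1 := by
    intro h
    have := (hgen j _).1 h
    rw [hexn j] at this
    have := (Nat.pow_dvd_pow_iff_le_right (by norm_num : 1 < 2)).1 this
    omega
  have hy2 : y ^ 2 = 1 := by
    rw [hy, ← pow_mul, hgen, hexn j]
    have : 2 ^ (ex j - 1) * 2 = 2 ^ (ex j) := by
      rw [← pow_succ]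
      congr 1
      omega
    rw [this]
  obtain ⟨a, ha⟩ := htr x y hx1 hx2 hy1 hy2
  -- y is a 2^(m-1)-th power
  have hyp : y = (a (gen n i0)) ^ (2 ^ (m - 1)) := by
    rw [← ha, hx, map_pow]
  have hyj : y j = 1 := by
    rw [hyp, Pi.pow_apply]
    have h5 : n j ∣ 2 ^ (m - 1) := by
      rw [hexn j]
      exact Nat.pow_dvd_pow 2 (by omega)
    obtain ⟨d, hd⟩ := h5
    rw [hd, pow_mul, zmod_pow_self, one_pow]
  apply hy1
  -- y is supported on coordinate j
  have h6 : y = Pi.mulSingle j (y j) := by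
    rw [hy, gen_pow]
    simp
  rw [h6, hyj, Pi.mulSingle_one]

theorem homocyclic_of_trans {S : Type*} [Group S] [Finite S] (hS : IsPGroup 2 S)
    (hab : ∀ x y : S, x * y = y * x)
    (htr : ∀ x y : S, x ≠ 1 → x ^ 2 = 1 → y ≠ 1 → y ^ 2 = 1 → ∃ a : MulAut S, a x = y) :
    ∃ m r : ℕ, Nonempty (S ≃* (Fin r → Multiplicative (ZMod (2 ^ m)))) := by
  classical
  let _ : CommGroup S := { ‹Group S› with mul_comm := hab }
  obtain ⟨ι, _, n, h1, ⟨e⟩⟩ := CommGroup.equiv_prod_multiplicative_zmod_of_finite S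
  obtain ⟨k, hk⟩ := IsPGroup.iff_card.1 hS
  have hcard : Nat.card ((i : ι) → Multiplicative (ZMod (n i))) = 2 ^ k := by
    rw [← hk]
    exact (Nat.card_congr e.toEquiv).symm
  have htr' : ∀ x y : ((i : ι) → Multiplicative (ZMod (n i))), x ≠ 1 → x ^ 2 = 1 → y ≠ 1 →
      y ^ 2 = 1 → ∃ a : MulAut ((i : ι) → Multiplicative (ZMod (n i))), a x = y := by
    intro x y hx1 hx2 hy1 hy2
    have hx1' : e.symm x ≠ 1 := fun h => hx1 (by simpa using congrArg e h)
    have hy1' : e.symm y ≠ 1 := fun h => hy1 (by simpa using congrArg e h)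
    have hx2' : e.symm x ^ 2 = 1 := by rw [← map_pow, hx2, map_one]
    have hy2' : e.symm y ^ 2 = 1 := by rw [← map_pow, hy2, map_one]
    obtain ⟨a, ha⟩ := htr _ _ hx1' hx2' hy1' hy2'
    refine ⟨(e.symm.trans a).trans e, ?_⟩
    show e (a (e.symm x)) = y
    rw [ha]
    simp
  obtain ⟨m, hm⟩ := homocyclic_aux n k hcard h1 htr'
  refine ⟨m, Fintype.card ι, ⟨?_⟩⟩
  have e1 : ((i : ι) → Multiplicative (ZMod (n i))) ≃* (ι → Multiplicative (ZMod (2 ^ m))) :=
    MulEquiv.piCongrRight (fun i => AddEquiv.toMultiplicative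
      (ZMod.ringEquivCongr (hm i)).toAddEquiv)
  have e2 : (ι → Multiplicative (ZMod (2 ^ m))) ≃*
      (Fin (Fintype.card ι) → Multiplicative (ZMod (2 ^ m))) :=
    MulEquiv.arrowCongr (Fintype.equivFin ι) (MulEquiv.refl _)
  exact (e.trans e1).trans e2

end Cfsg.Agent.Lib.Helper8.T97
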