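import Mathlib

/-! S3797 piece Q3: Frattini argument, `N_G(S)` induces a solvable group of automorphisms of `S`
transitive on the involutions of `S`. -/

namespace Cfsg.Agent.Lib.Helper8.T97

theorem exists_Y {G : Type*} [Group G] [Finite G] (hG : Group.IsSolvable G) (S : Sylow 2 G)
    (O : Subgroup G) [O.Normal] (hOc : (Nat.card O).Coprime 2)
    (hn : ((S : Subgroup G) ⊔ O).Normal)
    (hconj : ∀ x y : G, x ≠ 1 → x ^ 2 = 1 → y ≠ 1 → y ^ 2 = 1 → IsConj x y) :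
    ∃ Y : Subgroup (MulAut ↥(S : Subgroup G)), Group.IsSolvable Y ∧
      ∀ x y : ↥(S : Subgroup G), x ≠ 1 → x ^ 2 = 1 → y ≠ 1 → y ^ 2 = 1 → ∃ a ∈ Y, a x = y := by
  haveI := hG
  haveI := hn
  refine ⟨(Subgroup.normalizerMonoidHom (S : Subgroup G)).range, ?_, ?_⟩
  · exact solvable_of_surjective
      (Subgroup.normalizerMonoidHom (S : Subgroup G)).rangeRestrict_surjective
  · intro x y hx1 hx2 hy1 hy2
    have hx1' : (x : G) ≠ 1 := fun h => hx1 (Subtype.ext h)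
    have hy1' : (y : G) ≠ 1 := fun h => hy1 (Subtype.ext h)
    have hx2' : (x : G) ^ 2 = 1 := by simpa using congrArg Subtype.val hx2
    have hy2' : (y : G) ^ 2 = 1 := by simpa using congrArg Subtype.val hy2
    obtain ⟨g, hg⟩ := isConj_iff.1 (hconj x y hx1' hx2' hy1' hy2')
    -- Frattini
    have hfr := Sylow.normalizer_sup_eq_top' S (N := (S : Subgroup G) ⊔ O) le_sup_left
    have hgm0 := Subgroup.mem_top g
    rw [← hfr] at hgm0
    have hgm : g ∈ Subgroup.normalizer ((S : Subgroup G) : Set G) ⊔ ((S : Subgroup G) ⊔ O) := hgm0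
    have h1 : g ∈ ((Subgroup.normalizer ((S : Subgroup G) : Set G) ⊔ ((S : Subgroup G) ⊔ O) :
        Subgroup G) : Set G) := hgm
    rw [Subgroup.mul_normal] at h1
    obtain ⟨n, hnN, m, hm, rfl⟩ := Set.mem_mul.1 h1
    have h2 : m ∈ (((S : Subgroup G) ⊔ O : Subgroup G) : Set G) := hm
    rw [Subgroup.mul_normal] at h2
    obtain ⟨s, hs, o, ho, rfl⟩ := Set.mem_mul.1 h2
    have hsN : s ∈ Subgroup.normalizer ((S : Subgroup G) : Set G) := Subgroup.le_normalizer hs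
    have hn' : n * s ∈ Subgroup.normalizer ((S : Subgroup G) : Set G) := Subgroup.mul_mem _ hnN hsN
    -- o x o⁻¹ ∈ S
    have h3 : o * x * o⁻¹ = (n * s)⁻¹ * y * (n * s)⁻¹⁻¹ := by
      rw [← hg]; group
    have h4 : o * x * o⁻¹ ∈ (S : Subgroup G) := by
      rw [h3]
      exact (Subgroup.mem_normalizer_iff.1 (Subgroup.inv_mem _ hn') y).1 y.2
    have h5 : (x : G)⁻¹ * (o * x * o⁻¹) ∈ (S : Subgroup G) ⊓ O := by
      refine ⟨Subgroup.mul_mem _ (Subgroup.inv_mem _ x.2) h4, ?_⟩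
      have : (x : G)⁻¹ * (o * x * o⁻¹) = ((x : G)⁻¹ * o * (x : G)⁻¹⁻¹) * o⁻¹ := by group
      rw [this]
      exact Subgroup.mul_mem _ (Subgroup.Normal.conj_mem inferInstance o ho _) (Subgroup.inv_mem _ ho)
    have hcop : (Nat.card (S : Subgroup G)).Coprime (Nat.card O) := by
      obtain ⟨k, hk⟩ := (IsPGroup.iff_card.1 S.2)
      rw [hk]
      exact Nat.Coprime.pow_left k hOc.symm
    have h6 : (S : Subgroup G) ⊓ O = ⊥ := (Subgroup.disjoint_of_coprime_natCard hcop).eq_bot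
    rw [h6, Subgroup.mem_bot] at h5
    have h7 : o * x * o⁻¹ = x := by
      have : (x : G) * ((x : G)⁻¹ * (o * x * o⁻¹)) = x * 1 := by rw [h5]
      simpa using this
    refine ⟨Subgroup.normalizerMonoidHom (S : Subgroup G) ⟨n * s, hn'⟩, ⟨_, rfl⟩, ?_⟩
    apply Subtype.ext
    show (n * s) * (x : G) * (n * s)⁻¹ = y
    rw [← hg]
    calc n * s * ↑x * (n * s)⁻¹ = n * s * (o * x * o⁻¹) * (n * s)⁻¹ := by rw [h7]
      _ = n * (s * o) * ↑x * (n * (s * o))⁻¹ := by group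

end Cfsg.Agent.Lib.Helper8.T97
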