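import Mathlib
import Cfsg.Prelude.Def_Balance
import Cfsg.Prelude.Def_ClassificationStages
import Cfsg.Agent.Lib.Helper7.BB1
import Cfsg.Agent.Lib.Helper8.PComp4
import Cfsg.Agent.Lib.Helper4.StemLib11

/-! Farm TCL (S1775), unit U8. -/

set_option autoImplicit false

namespace Cfsg.Agent.Lib.Helper8.TCL

open Cfsg
open scoped commutatorElement

/-- U8: the image modulo `O(X)` of a 2-component `K` of a subgroup `C` with
`[K, O(C)] ≤ O(X)` is quasisimple. -/
theorem U8 {X : Type*} [Group X] [Finite X] (C K : Subgroup X)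
    (hK : Cfsg.IsPComponentOf 2 K C)
    (hKM : ⁅K, (Cfsg.oddCore ↥C).map C.subtype⁆ ≤ Cfsg.oddCore X) :
    Cfsg.IsQuasisimple ↥(K.map (QuotientGroup.mk' (Cfsg.oddCore X))) := by
  have : Fact (Nat.Prime 2) := ⟨Nat.prime_two⟩
  obtain ⟨hKC, hsub, hPL⟩ := (Cfsg.Agent.Lib.Helper7.BB.isPComponentOf_iff K C).1 hK
  -- the surjection π : K → K̄
  obtain ⟨π, hπdef⟩ : ∃ π : ↥K →* ↥(K.map (QuotientGroup.mk' (Cfsg.oddCore X))),
      π = (QuotientGroup.mk' (Cfsg.oddCore X)).subgroupMap K := ⟨_, rfl⟩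
  have hπ : Function.Surjective π := by
    rw [hπdef]; exact MonoidHom.subgroupMap_surjective _ _
  have hπval : ∀ k : ↥K, ((π k : ↥(K.map (QuotientGroup.mk' (Cfsg.oddCore X)))) : X ⧸ Cfsg.oddCore X) =
      QuotientGroup.mk' (Cfsg.oddCore X) (k : X) := by
    intro k; rw [hπdef]; rfl
  -- O(K) inside X lies in O(C) inside X
  have hOK : (pPrimeCore 2 ↥K).map K.subtype ≤ (Cfsg.oddCore ↥C).map C.subtype := by
    have hJK : (pPrimeCore 2 ↥K).map K.subtype ≤ K := Subgroup.map_subtype_le _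
    have h1 : (((pPrimeCore 2 ↥K).map K.subtype).subgroupOf K).IsSubnormal := by
      have : ((pPrimeCore 2 ↥K).map K.subtype).subgroupOf K = pPrimeCore 2 ↥K := by
        ext y
        rw [Subgroup.mem_subgroupOf]
        constructor
        · rintro ⟨z, hz, hzy⟩
          have : z = y := Subtype.ext hzy
          rwa [← this]
        · intro hy
          exact ⟨y, hy, rfl⟩
      rw [this]
      exact Subgroup.Normal.isSubnormal inferInstance
    have h2 := Cfsg.Agent.Lib.Helper7.BB.subn_trans hJK hKC h1 hsub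
    have hc : (Nat.card ↥(((pPrimeCore 2 ↥K).map K.subtype).subgroupOf C)).Coprime 2 := by
      have e1 : Nat.card ↥(((pPrimeCore 2 ↥K).map K.subtype).subgroupOf C) =
          Nat.card ↥((pPrimeCore 2 ↥K).map K.subtype) :=
        Nat.card_congr (Subgroup.subgroupOfEquivOfLe (hJK.trans hKC)).toEquiv
      rw [e1, Subgroup.card_map_of_injective K.subtype_injective]
      exact Cfsg.Agent.Lib.Helper1.pPrimeCore_card_coprime 2
    have h3 := Cfsg.Agent.Lib.Helper8.PComp.le_pPrimeCore_of_isSubnormal 2 h2 hc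
    have h4 := Subgroup.map_mono (f := C.subtype) h3
    rwa [Subgroup.map_subgroupOf_eq_of_le (hJK.trans hKC)] at h4
  -- kernel of π lies in O(K)
  have hker : π.ker ≤ pPrimeCore 2 ↥K := by
    apply Cfsg.Agent.Lib.Helper1.le_pPrimeCore inferInstance
    have hle : (π.ker).map K.subtype ≤ Cfsg.oddCore X := by
      rintro _ ⟨k, hk, rfl⟩
      have h1 : π k = 1 := hk
      have h2 := hπval k
      rw [h1] at h2
      have h3 : QuotientGroup.mk' (Cfsg.oddCore X) (k : X) = 1 := by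
        rw [← h2]; rfl
      rwa [← MonoidHom.mem_ker, QuotientGroup.ker_mk'] at h3
    have hdvd : Nat.card ↥(π.ker) ∣ Nat.card ↥(Cfsg.oddCore X) := by
      rw [← Subgroup.card_map_of_injective K.subtype_injective]
      exact Subgroup.card_dvd_of_le hle
    exact Nat.Coprime.coprime_dvd_left hdvd (Cfsg.Agent.Lib.Helper1.pPrimeCore_card_coprime 2)
  -- the induced map f : K̄ → K / O(K)
  have hker' : π.ker ≤ (QuotientGroup.mk' (pPrimeCore 2 ↥K)).ker := by
    rw [QuotientGroup.ker_mk']; exact hker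
  obtain ⟨f, hf⟩ : ∃ f : ↥(K.map (QuotientGroup.mk' (Cfsg.oddCore X))) →* ↥K ⧸ pPrimeCore 2 ↥K,
      ∀ k : ↥K, f (π k) = QuotientGroup.mk' (pPrimeCore 2 ↥K) k :=
    ⟨π.liftOfSurjective hπ ⟨QuotientGroup.mk' (pPrimeCore 2 ↥K), hker'⟩,
      fun k => MonoidHom.liftOfRightInverse_comp_apply _ _ _ _ k⟩
  have hfs : Function.Surjective f := by
    intro q
    obtain ⟨k, rfl⟩ := QuotientGroup.mk'_surjective _ q
    exact ⟨π k, hf k⟩
  have hfker : f.ker ≤ Subgroup.center ↥(K.map (QuotientGroup.mk' (Cfsg.oddCore X))) := by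
    intro y hy
    obtain ⟨k, rfl⟩ := hπ y
    have h1 : f (π k) = 1 := hy
    rw [hf k] at h1
    have hk : k ∈ pPrimeCore 2 ↥K := by
      rwa [← MonoidHom.mem_ker, QuotientGroup.ker_mk'] at h1
    rw [Subgroup.mem_center_iff]
    intro z
    obtain ⟨k', rfl⟩ := hπ z
    apply Subtype.ext
    show ((π k' * π k : ↥(K.map (QuotientGroup.mk' (Cfsg.oddCore X)))) : X ⧸ Cfsg.oddCore X) =
      ((π k * π k' : ↥(K.map (QuotientGroup.mk' (Cfsg.oddCore X)))) : X ⧸ Cfsg.oddCore X)
    rw [Subgroup.coe_mul, Subgroup.coe_mul, hπval, hπval, ← map_mul, ← map_mul]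
    have hcomm : ⁅(k' : X), (k : X)⁆ ∈ Cfsg.oddCore X :=
      hKM (Subgroup.commutator_mem_commutator k'.2 (hOK ⟨k, hk, rfl⟩))
    have h2 : (k' : X) * (k : X) = ⁅(k' : X), (k : X)⁆ * ((k : X) * (k' : X)) := by
      rw [commutatorElement_def]; group
    rw [h2, map_mul]
    have h3 : QuotientGroup.mk' (Cfsg.oddCore X) ⁅(k' : X), (k : X)⁆ = 1 := by
      rw [← MonoidHom.mem_ker, QuotientGroup.ker_mk']; exact hcomm
    rw [h3, one_mul]
  -- K̄ is perfect
  have hperfK : Group.IsPerfect ↥K := hPL.isPerfect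
  have hperf : Group.IsPerfect ↥(K.map (QuotientGroup.mk' (Cfsg.oddCore X))) := by
    constructor
    exact Cfsg.Agent.Lib.Helper4.Stem.perfect_of_surjective π hπ hperfK.commutator_eq_top
  exact Cfsg.Agent.Lib.Helper7.BB.isQuasisimple_of_central_quot hperf f hfs hfker hPL.1

end Cfsg.Agent.Lib.Helper8.TCL
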