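import Mathlib
import Cfsg.Agent.Lib.Helper3.TDMDefs
import Cfsg.Agent.Lib.Helper6.TDMC1
import Cfsg.Agent.Lib.Helper6.TDMP1
import Cfsg.Agent.Lib.Helper8.TDMP2

/-! Farm TDM (S2342), unit P2, verbatim statement `a00_ge`. -/

set_option autoImplicit false
set_option linter.unusedSectionVars false
set_option linter.unusedVariables false

namespace Cfsg.Agent.Lib.Helper8.TDM

open Cfsg.Agent.Lib.Helper3.TDM

section main

variable {K : Type*} [Field K] [Fintype K] [DecidableEq K] {Fr : Frob3 K} [Fintype ↥(Fx Fr.φ)]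
  {G : Type*} [Group G] (D : Data Fr G) (hD : Rel D) (hG : Fr.Good)
  (ψ : AddChar ↥(Fx Fr.φ) ℂ) (hψ : ψ ≠ 1)

include hD hG hψ in
theorem a00_ge {V : Type*} [AddCommGroup V] [Module ℂ V] [FiniteDimensional ℂ V]
    (ρ : Representation ℂ G V) (h : fZ D ρ.character - a00 D ρ.character ≠ 0) :
    ∃ n : ℕ, a00 D ρ.character = n ∧ Fintype.card ↥(Fx Fr.φ) - 1 ≤ n := by
  have hχ : ∀ x y : G, ρ.character (x * y * x⁻¹) = ρ.character y := fun x y =>
    Representation.char_conj ρ y x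
  exact a00_ge_of D hD hG ψ ρ.character hχ
    (fun a b c d => Cfsg.Agent.Lib.Helper6.TDM.cM_nat D hD ψ ρ a b c d)
    (Cfsg.Agent.Lib.Helper6.TDM.fZ_eq_sum_cM D hD hG ψ hψ ρ.character)
    (Cfsg.Agent.Lib.Helper6.TDM.a00_eq_sum_cM D hD hG ψ hψ ρ.character)
    (fun t => Cfsg.Agent.Lib.Helper6.TDM.b00_eq_sum_cM D hD hG ψ hψ ρ.character hχ t)
    (Cfsg.Agent.Lib.Helper6.TDM.a00_eq_b00 D hD ρ.character hχ) h

end main

end Cfsg.Agent.Lib.Helper8.TDM
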