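import Mathlib
import Cfsg.Agent.Lib.Helper3.TGSDefs
import Cfsg.Agent.Lib.Helper1.RVB4

/-! Farm TGS (S3161), unit U8: a central extension `Ext3 σ ι β₁ β₂` is determined by its squaring map `σ`. -/

set_option autoImplicit false

namespace Cfsg.Agent.Lib.Helper8.TGSU8

open Cfsg.Agent.Lib.Helper3.TGSDefs

/-- a complement modulo `D`, with the covering property (same proof as `Helper1.RVB4.exists_compl_mod`) -/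
theorem exists_compl_cover {P : Type*} [Group P] [Finite P] (Y Z D : Subgroup P) (hDZ : D ≤ Z)
    (hZY : Z ≤ Y) (hsq : ∀ y ∈ Y, y ^ 2 ∈ D) (hcomm : ∀ a ∈ Y, ∀ b ∈ Y, a * b * a⁻¹ * b⁻¹ ∈ D) :
    ∃ U : Subgroup P, D ≤ U ∧ U ≤ Y ∧ U ⊓ Z = D ∧ ∀ y ∈ Y, y ∈ U ⊔ Z := by
  classical
  let S : Set (Subgroup P) := {U | D ≤ U ∧ U ≤ Y ∧ U ⊓ Z = D}
  have hS : S.Finite := Set.toFinite S
  have hD : D ∈ S := ⟨le_rfl, hDZ.trans hZY, inf_eq_left.mpr hDZ⟩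
  obtain ⟨U, hDU', hUmax⟩ := hS.exists_le_maximal hD
  obtain ⟨⟨hDU, hUY, hUZ⟩, hmax⟩ := hUmax
  have hnorm : ∀ y ∈ Y, ∀ u ∈ U, y * u * y⁻¹ ∈ U := by
    intro y hy u hu
    have : y * u * y⁻¹ = (y * u * y⁻¹ * u⁻¹) * u := by group
    rw [this]
    exact U.mul_mem (hDU (hcomm y hy u (hUY hu))) hu
  refine ⟨U, hDU, hUY, hUZ, ?_⟩
  intro y hy
  by_contra hyn
  have hn' : ∀ u ∈ U, y⁻¹ * u * y ∈ U := by
    intro u hu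
    have := hnorm y⁻¹ (Y.inv_mem hy) u hu
    rwa [inv_inv] at this
  have hy2 : y * y ∈ U := by rw [← pow_two]; exact hDU (hsq y hy)
  let U₁ := Cfsg.Agent.Lib.Helper1.RVB4.adjoin U y (hnorm y hy) hn' hy2
  have hUU₁ : U ≤ U₁ := fun u hu => Or.inl hu
  have hU₁S : U₁ ∈ S := by
    refine ⟨hDU.trans hUU₁, ?_, ?_⟩
    · rintro g (hg | hg)
      · exact hUY hg
      · have : g = (g * y) * y⁻¹ := by group
        rw [this]; exact Y.mul_mem (hUY hg) (Y.inv_mem hy)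
    · apply le_antisymm
      · rintro g ⟨(hg | hg), hgZ⟩
        · rw [← hUZ]; exact ⟨hg, hgZ⟩
        · exfalso
          apply hyn
          have : y = g⁻¹ * (g * y) := by group
          rw [this]
          exact (U ⊔ Z).mul_mem ((U ⊔ Z).inv_mem (Subgroup.mem_sup_right hgZ)) (Subgroup.mem_sup_left hg)
      · rw [← hUZ]
        exact inf_le_inf_right Z hUU₁
  have hle : U₁ ≤ U := hmax hU₁S hUU₁
  apply hyn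
  have hyinv : y⁻¹ ∈ U₁ := Or.inr (by rw [inv_mul_cancel]; exact U.one_mem)
  have := hle hyinv
  have hyU : y ∈ U := by rwa [inv_mem_iff] at this
  exact Subgroup.mem_sup_left hyU

section

variable {F : Type} [Field F] [Fintype F] [CharP F 2]

section ext
variable {G : Type*} [Group G] {σ : F → F → F} {ι : F → G} {β₁ β₂ : G → F}

omit [Fintype F] [CharP F 2] in
theorem iota_zero (h : Ext3 σ ι β₁ β₂) : ι 0 = 1 := by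
  have := h.iota_add 0 0
  rw [add_zero] at this
  exact (mul_eq_left.mp this.symm)

omit [Fintype F] [CharP F 2] in
theorem b1_one (h : Ext3 σ ι β₁ β₂) : β₁ 1 = 0 := by
  have := h.b1_mul 1 1
  rw [mul_one] at this
  exact (add_eq_left.mp this.symm)

omit [Fintype F] [CharP F 2] in
theorem b2_one (h : Ext3 σ ι β₁ β₂) : β₂ 1 = 0 := by
  have := h.b2_mul 1 1
  rw [mul_one] at this
  exact (add_eq_left.mp this.symm)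

omit [Fintype F] [CharP F 2] in
theorem b1_inv (h : Ext3 σ ι β₁ β₂) (g : G) : β₁ g⁻¹ = -β₁ g := by
  have := h.b1_mul g g⁻¹
  rw [mul_inv_cancel, b1_one h] at this
  exact (neg_eq_of_add_eq_zero_right this.symm).symm

omit [Fintype F] [CharP F 2] in
theorem b2_inv (h : Ext3 σ ι β₁ β₂) (g : G) : β₂ g⁻¹ = -β₂ g := by
  have := h.b2_mul g g⁻¹
  rw [mul_inv_cancel, b2_one h] at this
  exact (neg_eq_of_add_eq_zero_right this.symm).symm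

omit [Fintype F] [CharP F 2] in
theorem b_iota (h : Ext3 σ ι β₁ β₂) (a : F) : β₁ (ι a) = 0 ∧ β₂ (ι a) = 0 :=
  (h.ker (ι a)).mpr ⟨a, rfl⟩

omit [Fintype F] in
theorem iota_mul_self (h : Ext3 σ ι β₁ β₂) (a : F) : ι a * ι a = 1 := by
  rw [← h.iota_add, CharTwo.add_self_eq_zero, iota_zero h]

omit [Fintype F] in
/-- the commutator formula -/
theorem comm_formula (h : Ext3 σ ι β₁ β₂) (g k : G) :
    g * k * g⁻¹ * k⁻¹ = ι (σ (β₁ g + β₁ k) (β₂ g + β₂ k) + σ (β₁ g) (β₂ g) + σ (β₁ k) (β₂ k)) := by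
  have hg : g⁻¹ = g * ι (σ (β₁ g) (β₂ g)) := by
    apply inv_eq_of_mul_eq_one_right
    rw [← mul_assoc, ← pow_two, h.sq, iota_mul_self h]
  have hk : k⁻¹ = k * ι (σ (β₁ k) (β₂ k)) := by
    apply inv_eq_of_mul_eq_one_right
    rw [← mul_assoc, ← pow_two, h.sq, iota_mul_self h]
  have hgk := h.sq (g * k)
  rw [h.b1_mul, h.b2_mul, pow_two] at hgk
  rw [h.iota_add, h.iota_add, ← hgk, hg, hk]
  have c1 := h.central (σ (β₁ g) (β₂ g)) k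
  calc g * k * (g * ι (σ (β₁ g) (β₂ g))) * (k * ι (σ (β₁ k) (β₂ k)))
      = g * k * g * (ι (σ (β₁ g) (β₂ g)) * k) * ι (σ (β₁ k) (β₂ k)) := by group
    _ = g * k * g * (k * ι (σ (β₁ g) (β₂ g))) * ι (σ (β₁ k) (β₂ k)) := by rw [c1]
    _ = g * k * (g * k) * ι (σ (β₁ g) (β₂ g)) * ι (σ (β₁ k) (β₂ k)) := by group

end ext

variable {G₁ : Type*} {G₂ : Type*} [Group G₁] [Group G₂]
  {σ : F → F → F} {ι₁ : F → G₁} {β₁ β₂ : G₁ → F} {ι₂ : F → G₂} {γ₁ γ₂ : G₂ → F}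

/-- the fibre product -/
def Dd (h₁ : Ext3 σ ι₁ β₁ β₂) (h₂ : Ext3 σ ι₂ γ₁ γ₂) : Subgroup (G₁ × G₂) where
  carrier := {p | β₁ p.1 = γ₁ p.2 ∧ β₂ p.1 = γ₂ p.2}
  one_mem' := by
    show β₁ (1 : G₁) = γ₁ (1 : G₂) ∧ β₂ (1 : G₁) = γ₂ (1 : G₂)
    rw [b1_one h₁, b2_one h₁, b1_one h₂, b2_one h₂]
    exact ⟨rfl, rfl⟩
  mul_mem' := by
    rintro ⟨x, y⟩ ⟨x', y'⟩ ⟨h1, h2⟩ ⟨h1', h2'⟩
    show β₁ (x * x') = γ₁ (y * y') ∧ β₂ (x * x') = γ₂ (y * y')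
    simp only at h1 h2 h1' h2'
    rw [h₁.b1_mul, h₁.b2_mul, h₂.b1_mul, h₂.b2_mul, h1, h2, h1', h2']
    exact ⟨rfl, rfl⟩
  inv_mem' := by
    rintro ⟨x, y⟩ ⟨h1, h2⟩
    show β₁ x⁻¹ = γ₁ y⁻¹ ∧ β₂ x⁻¹ = γ₂ y⁻¹
    simp only at h1 h2
    rw [b1_inv h₁, b2_inv h₁, b1_inv h₂, b2_inv h₂, h1, h2]
    exact ⟨rfl, rfl⟩

/-- the diagonal central subgroup -/
def Nn (h₁ : Ext3 σ ι₁ β₁ β₂) (h₂ : Ext3 σ ι₂ γ₁ γ₂) : Subgroup (G₁ × G₂) where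
  carrier := {p | ∃ a : F, p = (ι₁ a, ι₂ a)}
  one_mem' := ⟨0, by rw [iota_zero h₁, iota_zero h₂]; rfl⟩
  mul_mem' := by
    rintro _ _ ⟨a, rfl⟩ ⟨b, rfl⟩
    exact ⟨a + b, by rw [h₁.iota_add, h₂.iota_add]; rfl⟩
  inv_mem' := by
    rintro _ ⟨a, rfl⟩
    refine ⟨a, ?_⟩
    have e1 : (ι₁ a)⁻¹ = ι₁ a := inv_eq_of_mul_eq_one_right (iota_mul_self h₁ a)
    have e2 : (ι₂ a)⁻¹ = ι₂ a := inv_eq_of_mul_eq_one_right (iota_mul_self h₂ a)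
    show ((ι₁ a)⁻¹, (ι₂ a)⁻¹) = (ι₁ a, ι₂ a)
    rw [e1, e2]

/-- the full central subgroup -/
def Zz (h₁ : Ext3 σ ι₁ β₁ β₂) (h₂ : Ext3 σ ι₂ γ₁ γ₂) : Subgroup (G₁ × G₂) where
  carrier := {p | ∃ a b : F, p = (ι₁ a, ι₂ b)}
  one_mem' := ⟨0, 0, by rw [iota_zero h₁, iota_zero h₂]; rfl⟩
  mul_mem' := by
    rintro _ _ ⟨a, b, rfl⟩ ⟨a', b', rfl⟩
    exact ⟨a + a', b + b', by rw [h₁.iota_add, h₂.iota_add]; rfl⟩
  inv_mem' := by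
    rintro _ ⟨a, b, rfl⟩
    refine ⟨a, b, ?_⟩
    have e1 : (ι₁ a)⁻¹ = ι₁ a := inv_eq_of_mul_eq_one_right (iota_mul_self h₁ a)
    have e2 : (ι₂ b)⁻¹ = ι₂ b := inv_eq_of_mul_eq_one_right (iota_mul_self h₂ b)
    show ((ι₁ a)⁻¹, (ι₂ b)⁻¹) = (ι₁ a, ι₂ b)
    rw [e1, e2]

/-- U8: the extension is determined by the squaring map. -/
theorem U8_ext_unique {G₁ : Type*} {G₂ : Type*} [Group G₁] [Group G₂] [Finite G₁] [Finite G₂]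
    (σ : F → F → F) {ι₁ : F → G₁} {β₁ β₂ : G₁ → F} {ι₂ : F → G₂} {γ₁ γ₂ : G₂ → F}
    (h₁ : Ext3 σ ι₁ β₁ β₂) (h₂ : Ext3 σ ι₂ γ₁ γ₂) : Nonempty (G₁ ≃* G₂) := by
  classical
  have hfin : Finite (G₁ × G₂) := inferInstance
  have hNZ : Nn h₁ h₂ ≤ Zz h₁ h₂ := by
    rintro _ ⟨a, rfl⟩
    exact ⟨a, a, rfl⟩
  have hZD : Zz h₁ h₂ ≤ Dd h₁ h₂ := by
    rintro _ ⟨a, b, rfl⟩
    show β₁ (ι₁ a) = γ₁ (ι₂ b) ∧ β₂ (ι₁ a) = γ₂ (ι₂ b)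
    rw [(b_iota h₁ a).1, (b_iota h₁ a).2, (b_iota h₂ b).1, (b_iota h₂ b).2]
    exact ⟨rfl, rfl⟩
  have hsq : ∀ y ∈ Dd h₁ h₂, y ^ 2 ∈ Nn h₁ h₂ := by
    rintro ⟨x, y⟩ ⟨e1, e2⟩
    simp only at e1 e2
    refine ⟨σ (β₁ x) (β₂ x), ?_⟩
    show (x ^ 2, y ^ 2) = _
    rw [h₁.sq, h₂.sq, e1, e2]
  have hcomm : ∀ a ∈ Dd h₁ h₂, ∀ b ∈ Dd h₁ h₂, a * b * a⁻¹ * b⁻¹ ∈ Nn h₁ h₂ := by
    rintro ⟨x, y⟩ ⟨e1, e2⟩ ⟨x', y'⟩ ⟨e1', e2'⟩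
    simp only at e1 e2 e1' e2'
    refine ⟨σ (β₁ x + β₁ x') (β₂ x + β₂ x') + σ (β₁ x) (β₂ x) + σ (β₁ x') (β₂ x'), ?_⟩
    show (x * x' * x⁻¹ * x'⁻¹, y * y' * y⁻¹ * y'⁻¹) = _
    rw [comm_formula h₁, comm_formula h₂, e1, e2, e1', e2']
  obtain ⟨Δ, hNΔ, hΔD, hΔZ, hcover⟩ :=
    exists_compl_cover (Dd h₁ h₂) (Zz h₁ h₂) (Nn h₁ h₂) hNZ hZD hsq hcomm
  -- `Zz` is central, hence normal
  have hZcen : ∀ z ∈ Zz h₁ h₂, ∀ g : G₁ × G₂, z * g = g * z := by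
    rintro _ ⟨a, b, rfl⟩ ⟨x, y⟩
    show (ι₁ a * x, ι₂ b * y) = (x * ι₁ a, y * ι₂ b)
    rw [h₁.central, h₂.central]
  have hZn : (Zz h₁ h₂).Normal := by
    constructor
    intro z hz g
    rw [← hZcen z hz g, mul_inv_cancel_right]
    exact hz
  -- decomposition
  have hdec : ∀ y ∈ Dd h₁ h₂, ∃ u ∈ Δ, ∃ z ∈ Zz h₁ h₂, u * z = y := by
    intro y hy
    exact Subgroup.mem_sup_of_normal_right.mp (hcover y hy)
  -- the two projections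
  let f₁ : ↥Δ →* G₁ := (MonoidHom.fst G₁ G₂).comp Δ.subtype
  let f₂ : ↥Δ →* G₂ := (MonoidHom.snd G₁ G₂).comp Δ.subtype
  have hf₁inj : Function.Injective f₁ := by
    rw [injective_iff_map_eq_one]
    rintro ⟨⟨x, y⟩, hxy⟩ hx
    change x = 1 at hx
    subst hx
    have hD := hΔD hxy
    obtain ⟨e1, e2⟩ := hD
    simp only at e1 e2
    rw [b1_one h₁] at e1
    rw [b2_one h₁] at e2
    obtain ⟨b, hb⟩ := (h₂.ker y).mp ⟨e1.symm, e2.symm⟩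
    have hZ : ((1 : G₁), y) ∈ Zz h₁ h₂ := ⟨0, b, by rw [iota_zero h₁, hb]⟩
    have hN : ((1 : G₁), y) ∈ Nn h₁ h₂ := by
      rw [← hΔZ]; exact ⟨hxy, hZ⟩
    obtain ⟨a, ha⟩ := hN
    have ha1 : (1 : G₁) = ι₁ a := congrArg Prod.fst ha
    have ha2 : y = ι₂ a := congrArg Prod.snd ha
    have ha0 : a = 0 := h₁.iota_inj (by rw [← ha1, iota_zero h₁])
    apply Subtype.ext
    show ((1 : G₁), y) = 1
    rw [ha2, ha0, iota_zero h₂]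
    rfl
  have hf₂inj : Function.Injective f₂ := by
    rw [injective_iff_map_eq_one]
    rintro ⟨⟨x, y⟩, hxy⟩ hy
    change y = 1 at hy
    subst hy
    have hD := hΔD hxy
    obtain ⟨e1, e2⟩ := hD
    simp only at e1 e2
    rw [b1_one h₂] at e1
    rw [b2_one h₂] at e2
    obtain ⟨b, hb⟩ := (h₁.ker x).mp ⟨e1, e2⟩
    have hZ : (x, (1 : G₂)) ∈ Zz h₁ h₂ := ⟨b, 0, by rw [iota_zero h₂, hb]⟩
    have hN : (x, (1 : G₂)) ∈ Nn h₁ h₂ := by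
      rw [← hΔZ]; exact ⟨hxy, hZ⟩
    obtain ⟨a, ha⟩ := hN
    have ha1 : x = ι₁ a := congrArg Prod.fst ha
    have ha2 : (1 : G₂) = ι₂ a := congrArg Prod.snd ha
    have ha0 : a = 0 := h₂.iota_inj (by rw [← ha2, iota_zero h₂])
    apply Subtype.ext
    show (x, (1 : G₂)) = 1
    rw [ha1, ha0, iota_zero h₁]
    rfl
  have hf₁surj : Function.Surjective f₁ := by
    intro x
    obtain ⟨y, hy1, hy2⟩ := h₂.surj (β₁ x) (β₂ x)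
    have hxy : (x, y) ∈ Dd h₁ h₂ := ⟨hy1.symm, hy2.symm⟩
    obtain ⟨u, hu, _, ⟨a, b, rfl⟩, huz⟩ := hdec _ hxy
    -- correct `u` by the diagonal element `(ι₁ a, ι₂ a)`
    have hn : (ι₁ a, ι₂ a) ∈ Δ := hNΔ ⟨a, rfl⟩
    refine ⟨⟨u * (ι₁ a, ι₂ a), Δ.mul_mem hu hn⟩, ?_⟩
    show (u * (ι₁ a, ι₂ a)).1 = x
    have := congrArg Prod.fst huz
    simpa using this
  have hf₂surj : Function.Surjective f₂ := by
    intro y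
    obtain ⟨x, hx1, hx2⟩ := h₁.surj (γ₁ y) (γ₂ y)
    have hxy : (x, y) ∈ Dd h₁ h₂ := ⟨hx1, hx2⟩
    obtain ⟨u, hu, _, ⟨a, b, rfl⟩, huz⟩ := hdec _ hxy
    have hn : (ι₁ b, ι₂ b) ∈ Δ := hNΔ ⟨b, rfl⟩
    refine ⟨⟨u * (ι₁ b, ι₂ b), Δ.mul_mem hu hn⟩, ?_⟩
    show (u * (ι₁ b, ι₂ b)).2 = y
    have := congrArg Prod.snd huz
    simpa using this
  let e₁ : ↥Δ ≃* G₁ := MulEquiv.ofBijective f₁ ⟨hf₁inj, hf₁surj⟩
  let e₂ : ↥Δ ≃* G₂ := MulEquiv.ofBijective f₂ ⟨hf₂inj, hf₂surj⟩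
  exact ⟨e₁.symm.trans e₂⟩

end

end Cfsg.Agent.Lib.Helper8.TGSU8
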