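import Cfsg.Agent.Lib.Helper8.FFT1
import Cfsg.Agent.Lib.Helper1.NPC5
import Cfsg.Agent.Lib.Helper7.PConstrained

/-! General lemmas for the local analysis in Thompson's normal `p`-complement theorem
(abelian version of `J`). -/
set_option autoImplicit false
universe u
open Cfsg
open scoped commutatorElement Pointwise

namespace Cfsg.Agent.Lib.Helper8.ThLoc

open Cfsg.Agent.Lib.Helper1 Cfsg.Agent.Lib.Helper1.ZJ Cfsg.Agent.Lib.Helper1.GlaubermanRepl

variable {Y : Type u} [Group Y]

/-- A `p'`-element normalizing an abelian `p`-group and centralizing its elements of order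
dividing `p` centralizes it (all primes `p`). -/
theorem centralizes_abelian_of_centralizes_omega [Finite Y] {p : ℕ} [hp : Fact p.Prime]
    (V : Subgroup Y) (hVp : IsPGroup p V) (hVc : ∀ x ∈ V, ∀ y ∈ V, x * y = y * x) (a : Y)
    (ha : a ∈ Subgroup.normalizer (V : Set Y)) (hac : (orderOf a).Coprime p)
    (hom : ∀ w ∈ V, w ^ p = 1 → a * w = w * a) : ∀ v ∈ V, a * v = v * a := by
  have key : ∀ k : ℕ, ∀ v ∈ V, v ^ (p ^ k) = 1 → a * v = v * a := by
    intro k
    induction k with
    | zero =>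
      intro v _ hv
      rw [pow_zero, pow_one] at hv
      rw [hv, mul_one, one_mul]
    | succ k ih =>
      intro v hv hvk
      have hvp : a * v ^ p = v ^ p * a := by
        apply ih _ (V.pow_mem hv p)
        rw [← pow_mul, ← pow_succ']; exact hvk
      obtain ⟨c, hc⟩ : ∃ c : Y, c = a * v * a⁻¹ * v⁻¹ := ⟨_, rfl⟩
      have hav : a * v * a⁻¹ ∈ V := (Subgroup.mem_normalizer_iff.mp ha v).mp hv
      have hcV : c ∈ V := by rw [hc]; exact V.mul_mem hav (V.inv_mem hv)
      have hcp : c ^ p = 1 := by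
        have hcomm : Commute (a * v * a⁻¹) v⁻¹ := hVc _ hav _ (V.inv_mem hv)
        rw [hc, hcomm.mul_pow, conj_pow, inv_pow]
        have : a * v ^ p * a⁻¹ = v ^ p := by rw [hvp]; group
        rw [this, mul_inv_cancel]
      have hca : a * c = c * a := hom c hcV hcp
      have hconj : a * v * a⁻¹ = c * v := by rw [hc]; group
      have h1 := Cfsg.Agent.Lib.Helper8.FFT.conj_pow_of_comm hconj hca (orderOf a)
      rw [pow_orderOf_eq_one, one_mul, inv_one, mul_one] at h1
      have hcn : c ^ orderOf a = 1 := by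
        have : c ^ orderOf a * v = 1 * v := by rw [← h1, one_mul]
        exact mul_right_cancel this
      have h2 : orderOf c ∣ orderOf a := orderOf_dvd_of_pow_eq_one hcn
      have h3 : orderOf c ∣ p := orderOf_dvd_of_pow_eq_one hcp
      have h4 : orderOf c = 1 := Nat.eq_one_of_dvd_coprimes hac h2 h3
      have h5 : c = 1 := orderOf_eq_one_iff.mp h4
      rw [h5, one_mul] at hconj
      calc a * v = (a * v * a⁻¹) * a := by group
        _ = v * a := by rw [hconj]
  intro v hv
  obtain ⟨k, hk⟩ := hVp ⟨v, hv⟩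
  apply key k v hv
  have := congrArg Subtype.val hk
  simpa using this

/-- In a group `X = N P` with `N` a normal `p'`-subgroup, `P` a Sylow `p`-subgroup and no
nontrivial normal `p`-subgroup, the centralizer of `N` lies in `N`. -/
theorem centralizer_le_of_complement [Finite Y] {p : ℕ} [hp : Fact p.Prime] (N : Subgroup Y)
    [hNn : N.Normal] (P : Sylow p Y) (hc : N.IsComplement' (P : Subgroup Y))
    (hOp : ∀ D : Subgroup Y, D.Normal → IsPGroup p D → D = ⊥) :
    Subgroup.centralizer (N : Set Y) ≤ N := by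
  obtain ⟨C, hC⟩ : ∃ C : Subgroup Y, C = Subgroup.centralizer (N : Set Y) := ⟨_, rfl⟩
  rw [← hC]
  have hCn : C.Normal := by rw [hC]; infer_instance
  -- `C ∩ P` is a normal `p`-subgroup
  have hR : C ⊓ (P : Subgroup Y) = ⊥ := by
    apply hOp _ _ (P.isPGroup'.to_le inf_le_right)
    rw [← Subgroup.normalizer_eq_top_iff, ← top_le_iff]
    intro g _
    have hg : g ∈ ((N ⊔ (P : Subgroup Y) : Subgroup Y) : Set Y) := by
      rw [hc.sup_eq_top]; trivial
    rw [Subgroup.normal_mul] at hg
    obtain ⟨n, hn, q, hq, rfl⟩ := hg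
    apply Subgroup.mul_mem
    · apply (le_normalizer_of_conj_mem (S := N) ?_) hn
      intro n hn r hr
      have : n * r * n⁻¹ = r := by
        have h1 := Subgroup.mem_centralizer_iff.mp (hC ▸ hr.1) n hn
        rw [h1]; group
      rw [this]; exact hr
    · apply (le_normalizer_of_conj_mem (S := (P : Subgroup Y)) ?_) hq
      intro q hq r hr
      exact ⟨hCn.conj_mem r hr.1 q,
        (P : Subgroup Y).mul_mem ((P : Subgroup Y).mul_mem hq hr.2) ((P : Subgroup Y).inv_mem hq)⟩
  have hquot : IsPGroup p (Y ⧸ N) := by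
    obtain ⟨m, hm⟩ := IsPGroup.iff_card.mp P.isPGroup'
    apply IsPGroup.of_card (n := m)
    rw [← Subgroup.index_eq_card, hc.symm.index_eq_card, hm]
  intro c hcC
  obtain ⟨a, ha', b, hb', hcab, hac, k, hbk⟩ := Cfsg.Agent.Lib.Helper7.exists_pPart_decomp p c
  have hzp : Subgroup.zpowers c ≤ C := by rw [Subgroup.zpowers_le]; exact hcC
  -- the `p`-part is trivial
  have hb1 : b = 1 := by
    have hbp : IsPGroup p (Subgroup.zpowers b) := by
      rintro ⟨z, hz⟩
      obtain ⟨j, rfl⟩ := Subgroup.mem_zpowers_iff.mp hz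
      refine ⟨k, Subtype.ext ?_⟩
      rw [Subgroup.coe_pow, Subgroup.coe_one]
      show (b ^ j) ^ p ^ k = 1
      rw [← zpow_natCast, ← zpow_mul, mul_comm, zpow_mul, zpow_natCast, hbk, one_zpow]
    obtain ⟨P', hP'⟩ := hbp.exists_le_sylow
    obtain ⟨g, hg⟩ := MulAction.exists_smul_eq Y P' P
    have hb1 : g * b * g⁻¹ ∈ (P : Subgroup Y) := by
      rw [← hg, Sylow.coe_subgroup_smul]
      have : g * b * g⁻¹ = MulAut.conj g • b := rfl
      rw [this]
      exact Subgroup.smul_mem_pointwise_smul _ _ _ (hP' (Subgroup.mem_zpowers b))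
    have hb2 : g * b * g⁻¹ ∈ C := hCn.conj_mem b (hzp hb') g
    have : g * b * g⁻¹ ∈ C ⊓ (P : Subgroup Y) := ⟨hb2, hb1⟩
    rw [hR, Subgroup.mem_bot] at this
    calc b = g⁻¹ * (g * b * g⁻¹) * g := by group
      _ = 1 := by rw [this]; group
  -- the `p'`-part lies in `N`
  have haN : a ∈ N := by
    rw [← QuotientGroup.eq_one_iff]
    obtain ⟨j, hj⟩ := hquot (QuotientGroup.mk a)
    have h1 : orderOf (QuotientGroup.mk a : Y ⧸ N) ∣ p ^ j := orderOf_dvd_of_pow_eq_one hj
    have h2 : orderOf (QuotientGroup.mk a : Y ⧸ N) ∣ orderOf a :=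
      orderOf_map_dvd (QuotientGroup.mk' N) a
    have h3 : orderOf (QuotientGroup.mk a : Y ⧸ N) = 1 :=
      Nat.eq_one_of_dvd_coprimes (hac.pow_right j) h2 h1
    exact orderOf_eq_one_iff.mp h3
  rw [hcab, hb1, mul_one]
  exact haN

end Cfsg.Agent.Lib.Helper8.ThLoc
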