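import Cfsg.Agent.Lib.Helper8.ThLoc2
import Cfsg.Agent.Lib.Helper8.ThLoc3
import Cfsg.Agent.Lib.Helper8.FFT3
import Cfsg.Agent.Lib.Helper8.ThPC
import Cfsg.Agent.Lib.Helper1.ThP2

/-! Thompson's normal `p`-complement theorem for the abelian version `J_a` of the Thompson subgroup,
for odd `p` or `S₄`-free groups: the local statements. -/
set_option autoImplicit false
universe u
open Cfsg
open scoped commutatorElement Pointwise

namespace Cfsg.Agent.Lib.Helper8.ThLoc

open Cfsg.Agent.Lib.Helper1 Cfsg.Agent.Lib.Helper1.ZJ Cfsg.Agent.Lib.Helper1.GlaubermanRepl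
  Cfsg.Agent.Lib.Helper1.ThP

section loc
variable {Y : Type u} [Group Y] [Finite Y] {p : ℕ} [hp : Fact p.Prime]

theorem thompsonA_local_odd (hp2 : p ≠ 2)
    (hcon : Subgroup.centralizer ((pCore p Y : Subgroup Y) : Set Y) ≤ pCore p Y)
    (hnil : HasNormalPComplement p (Y ⧸ pCore p Y))
    (T : Subgroup Y) (hTp : IsPGroup p ↥T) (hTidx : ¬ p ∣ T.index) (hco : IsCoatom T) :
    (thompsonSubgroupAOf T).Normal ∨
      T ⊓ Subgroup.centralizer (T : Set Y) ≤ Subgroup.center Y := by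
  obtain ⟨TS, hTS⟩ : ∃ TS : Sylow p Y, (TS : Subgroup Y) = T :=
    ⟨hTp.toSylow hTidx, IsPGroup.toSylow_coe _ _⟩
  have hab := Cfsg.Agent.Lib.Helper1.NPC.comm_sylow_two_of_max_sylow hp2 hnil TS
    (by rw [hTS]; exact hco)
  have hchar := zj_theorem_A hp2 hcon
    (fun P hPn hP => @Cfsg.Agent.Lib.Helper1.NPC.isPStableOn_of_comm_sylow_of_isPGroup _ _ _ p _ hp2
      P hPn hP hab) TS
  rw [hTS] at hchar
  obtain ⟨Z₁, hZ₁⟩ : ∃ Z₁ : Subgroup Y, Z₁ = centerThompsonAOf T := ⟨_, rfl⟩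
  rw [← hZ₁] at hchar
  have hZ₁n : Z₁.Normal := Subgroup.normal_of_characteristic _
  obtain ⟨J, hJ⟩ : ∃ J : Subgroup Y, J = thompsonSubgroupAOf T := ⟨_, rfl⟩
  have hZ₁J : Z₁ = J ⊓ Subgroup.centralizer (J : Set Y) := by rw [hZ₁, hJ]; rfl
  obtain ⟨C, hC⟩ : ∃ C : Subgroup Y, C = Subgroup.centralizer (Z₁ : Set Y) := ⟨_, rfl⟩
  have hCn : C.Normal := by rw [hC]; infer_instance
  have hJC : J ≤ C := by
    intro j hj
    rw [hC, Subgroup.mem_centralizer_iff]
    intro z hz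
    rw [hZ₁J] at hz
    exact (Subgroup.mem_centralizer_iff.mp hz.2 j hj).symm
  obtain ⟨Z, hZ⟩ : ∃ Z : Subgroup Y, Z = T ⊓ Subgroup.centralizer (T : Set Y) := ⟨_, rfl⟩
  rw [← hZ]
  have hZZ₁ : Z ≤ Z₁ := by rw [hZ, hZ₁]; exact center_le_centerThompsonAOf T
  by_cases hCT : C ≤ T
  · left
    have hCp : IsPGroup p ↥C := hTp.to_le hCT
    have heq := thompsonSubgroupAOf_eq_of_le hCT (hJ ▸ hJC)
    rw [← heq]
    exact thompsonSubgroupAOf_normal C hCp
  · right
    have hlt : T < T ⊔ C := by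
      apply lt_of_le_of_ne le_sup_left
      intro h
      exact hCT (h ▸ le_sup_right)
    have htop := hco.2 _ hlt
    have hcen : T ⊔ C ≤ Subgroup.centralizer (Z : Set Y) := by
      apply sup_le
      · rw [Subgroup.le_centralizer_iff, hZ]
        exact inf_le_right
      · rw [hC]
        exact Subgroup.centralizer_le hZZ₁
    rw [htop] at hcen
    intro z hz
    rw [Subgroup.mem_center_iff]
    intro g
    exact (Subgroup.mem_centralizer_iff.mp (hcen (Subgroup.mem_top g)) z hz).symm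

theorem thompsonA_local_two (hp2 : p = 2) (hfree : ¬ Involves (Equiv.Perm (Fin 4)) Y)
    (hcon : Subgroup.centralizer ((pCore p Y : Subgroup Y) : Set Y) ≤ pCore p Y)
    (hnil : HasNormalPComplement p (Y ⧸ pCore p Y))
    (T : Subgroup Y) (hTp : IsPGroup p ↥T) (hTidx : ¬ p ∣ T.index) (hco : IsCoatom T) :
    (thompsonSubgroupAOf T).Normal ∨
      T ⊓ Subgroup.centralizer (T : Set Y) ≤ Subgroup.center Y := by
  obtain ⟨TS, hTS⟩ : ∃ TS : Sylow p Y, (TS : Subgroup Y) = T :=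
    ⟨hTp.toSylow hTidx, IsPGroup.toSylow_coe _ _⟩
  have hP₀n : (pCore p Y).Normal := Cfsg.Agent.Lib.Helper7.pCore_normal p Y
  have hP₀p : IsPGroup p ↥(pCore p Y) := Cfsg.Agent.Lib.Helper7.pCore_isPGroup p Y
  have hP₀T : pCore p Y ≤ T := by rw [← hTS]; exact Cfsg.Agent.Lib.Helper7.pCore_le_sylow TS
  have hle_P₀ : ∀ N : Subgroup Y, N.Normal → IsPGroup p ↥N → N ≤ pCore p Y := by
    intro N hN hNp
    exact Cfsg.Agent.Lib.Helper7.le_pCore hN hNp
  obtain ⟨Z, hZ⟩ : ∃ Z : Subgroup Y, Z = T ⊓ Subgroup.centralizer (T : Set Y) := ⟨_, rfl⟩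
  rw [← hZ]
  have hZcP : Z ≤ Subgroup.centralizer ((pCore p Y : Subgroup Y) : Set Y) := by
    rw [hZ]; exact inf_le_right.trans (Subgroup.centralizer_le hP₀T)
  obtain ⟨V, hV⟩ : ∃ V : Subgroup Y, V = Subgroup.normalClosure (Z : Set Y) := ⟨_, rfl⟩
  have hVn : V.Normal := by rw [hV]; exact Subgroup.normalClosure_normal
  have hZV : Z ≤ V := by rw [hV]; exact Subgroup.subset_normalClosure
  have hVP : V ≤ pCore p Y := by
    rw [hV]; exact Subgroup.normalClosure_le_normal (hZcP.trans hcon)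
  have hVc : V ≤ Subgroup.centralizer ((pCore p Y : Subgroup Y) : Set Y) := by
    rw [hV]; exact Subgroup.normalClosure_le_normal hZcP
  have hVp : IsPGroup p ↥V := hP₀p.to_le hVP
  have hVcomm : ∀ x ∈ V, ∀ y ∈ V, x * y = y * x := by
    intro x hx y hy
    exact (Subgroup.mem_centralizer_iff.mp (hVc hx) y (hVP hy)).symm
  obtain ⟨W, hWdef⟩ : ∃ W : Subgroup Y, W = omegaSub p V hVcomm := ⟨_, rfl⟩
  have hWmem : ∀ x : Y, x ∈ W ↔ x ∈ V ∧ x ^ p = 1 := by
    intro x; rw [hWdef]; rfl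
  have hWV : W ≤ V := fun x hx => ((hWmem x).mp hx).1
  have hWn : W.Normal := by
    constructor
    intro x hx g
    rw [hWmem] at hx ⊢
    exact ⟨hVn.conj_mem x hx.1 g, by rw [conj_pow, hx.2]; group⟩
  have hWel : IsElementaryAbelian p W := by
    refine ⟨⟨⟨fun a b => Subtype.ext (hVcomm a (hWV a.2) b (hWV b.2))⟩⟩, ?_⟩
    intro a ha
    exact ((hWmem a).mp ha).2
  obtain ⟨D, hD⟩ : ∃ D : Subgroup Y, D = Subgroup.centralizer (V : Set Y) := ⟨_, rfl⟩
  by_cases hDT : D ≤ T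
  swap
  · right
    have hlt : T < T ⊔ D := by
      apply lt_of_le_of_ne le_sup_left
      intro h
      exact hDT (h ▸ le_sup_right)
    have htop := hco.2 _ hlt
    have hcen : T ⊔ D ≤ Subgroup.centralizer (Z : Set Y) := by
      apply sup_le
      · rw [Subgroup.le_centralizer_iff, hZ]
        exact inf_le_right
      · rw [hD]
        exact Subgroup.centralizer_le hZV
    rw [htop] at hcen
    intro z hz
    rw [Subgroup.mem_center_iff]
    intro g
    exact (Subgroup.mem_centralizer_iff.mp (hcen (Subgroup.mem_top g)) z hz).symm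
  have hDn : D.Normal := by rw [hD]; infer_instance
  have hDP : D ≤ pCore p Y := hle_P₀ D hDn (hTp.to_le hDT)
  obtain ⟨C, hC⟩ : ∃ C : Subgroup Y, C = Subgroup.centralizer (W : Set Y) := ⟨_, rfl⟩
  have hCn : C.Normal := by rw [hC]; infer_instance
  have hCp : IsPGroup p ↥C := by
    rintro ⟨x, hx⟩
    obtain ⟨a, ha', b, hb, hxab, hac, k, hbk⟩ := Cfsg.Agent.Lib.Helper7.exists_pPart_decomp p x
    have haC : a ∈ C := by
      have : Subgroup.zpowers x ≤ C := by rw [Subgroup.zpowers_le]; exact hx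
      exact this ha'
    have haD : a ∈ D := by
      rw [hD, Subgroup.mem_centralizer_iff]
      intro v hv
      have := centralizes_abelian_of_centralizes_omega V hVp hVcomm a
        (by rw [Subgroup.normalizer_eq_top_iff.mpr hVn]; exact Subgroup.mem_top a) hac
        (fun w hw hwp => by
          have hwW : w ∈ W := (hWmem w).mpr ⟨hw, hwp⟩
          rw [hC] at haC
          exact (Subgroup.mem_centralizer_iff.mp haC w hwW).symm) v hv
      exact this.symm
    have haT : a ∈ T := hDT haD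
    obtain ⟨j, hj⟩ := hTp ⟨a, haT⟩
    have hj' : a ^ (p ^ j) = 1 := by
      have := congrArg Subtype.val hj
      rwa [Subgroup.coe_pow, Subgroup.coe_one] at this
    have h1 : orderOf a ∣ p ^ j := orderOf_dvd_of_pow_eq_one hj'
    have h2 : orderOf a = 1 := Nat.Coprime.eq_one_of_dvd (hac.pow_right j) h1
    have h3 : a = 1 := orderOf_eq_one_iff.mp h2
    refine ⟨k, ?_⟩
    apply Subtype.ext
    rw [Subgroup.coe_pow, Subgroup.coe_one]
    show x ^ p ^ k = 1
    rw [hxab, h3, one_mul, hbk]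
  have hCP : C ≤ pCore p Y := hle_P₀ C hCn hCp
  have hWcP : W ≤ Subgroup.centralizer ((pCore p Y : Subgroup Y) : Set Y) := hWV.trans hVc
  have hPC : pCore p Y ≤ C := by
    rw [hC, Subgroup.le_centralizer_iff]
    exact hWcP
  have hP₀eq : pCore p Y = Subgroup.centralizer (W : Set Y) := by
    rw [← hC]; exact le_antisymm hPC hCP
  by_cases hJ : thompsonSubgroupAOf T ≤ pCore p Y
  · left
    have heq := thompsonSubgroupAOf_eq_of_le hP₀T hJ
    rw [← heq]
    exact thompsonSubgroupAOf_normal (pCore p Y) hP₀p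
  exfalso
  obtain ⟨A, hAmem, hAP⟩ := exists_mem_not_le hJ
  have hAT : A ≤ T := hAmem.1
  have hAc : ∀ x ∈ A, ∀ y ∈ A, x * y = y * x := hAmem.2.1
  have hWT : W ≤ T := (hWV.trans hVP).trans hP₀T
  have hoff : Nat.card W * Nat.card ↥(A ⊓ pCore p Y) ≤
      Nat.card A * Nat.card ↥(W ⊓ Subgroup.centralizer (A : Set Y)) := by
    have h1 := card_mul_card_le_card_sup_mul_card_inf W (A ⊓ pCore p Y)
    have hBT : W ⊔ (A ⊓ pCore p Y) ≤ T := sup_le hWT (inf_le_left.trans hAT)
    have hBab : PrA (W ⊔ (A ⊓ pCore p Y)) := by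
      have hgen : ∀ x ∈ ((W : Set Y) ∪ ((A ⊓ pCore p Y : Subgroup Y) : Set Y)),
          ∀ y ∈ ((W : Set Y) ∪ ((A ⊓ pCore p Y : Subgroup Y) : Set Y)), x * y = y * x := by
        rintro x (hx | hx) y (hy | hy)
        · exact hVcomm x (hWV hx) y (hWV hy)
        · exact (Subgroup.mem_centralizer_iff.mp (hWcP hx) y hy.2).symm
        · exact (Subgroup.mem_centralizer_iff.mp (hWcP hy) x hx.2)
        · exact hAc x hx.1 y hy.1
      have := Subgroup.isMulCommutative_closure hgen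
      rw [Subgroup.sup_eq_closure]
      intro x hx y hy
      have h2 := mul_comm' (⟨x, hx⟩ : Subgroup.closure ((W : Set Y) ∪
        ((A ⊓ pCore p Y : Subgroup Y) : Set Y))) ⟨y, hy⟩
      exact congrArg Subtype.val h2
    have h2 := hAmem.2.2 _ hBT hBab
    have h3 : Nat.card ↥(W ⊓ (A ⊓ pCore p Y)) ≤
        Nat.card ↥(W ⊓ Subgroup.centralizer (A : Set Y)) := by
      apply Subgroup.card_le_of_le
      apply inf_le_inf_left
      intro x hx
      rw [Subgroup.mem_centralizer_iff]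
      intro y hy
      exact hAc y hy x hx.1
    calc Nat.card W * Nat.card ↥(A ⊓ pCore p Y)
        ≤ Nat.card ↥(W ⊔ (A ⊓ pCore p Y)) * Nat.card ↥(W ⊓ (A ⊓ pCore p Y)) := h1
      _ ≤ Nat.card A * Nat.card ↥(W ⊓ Subgroup.centralizer (A : Set Y)) :=
          Nat.mul_le_mul h2 h3
  obtain ⟨PS, Nb, hNbn, hcompl⟩ := hnil
  have hQ : (Nat.card Nb).Coprime p := by
    rw [← hcompl.index_eq_card]
    exact ((Nat.Prime.coprime_iff_not_dvd hp.out).mpr PS.not_dvd_index).symm
  have hOp : ∀ D' : Subgroup (Y ⧸ pCore p Y), D'.Normal → IsPGroup p D' → D' = ⊥ := by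
    intro D' hD'n hD'p
    have h1 : IsPGroup p ↥(D'.comap (QuotientGroup.mk' (pCore p Y))) := by
      apply hD'p.comap_of_ker_isPGroup
      rw [QuotientGroup.ker_mk']; exact hP₀p
    have h2 : D'.comap (QuotientGroup.mk' (pCore p Y)) ≤ pCore p Y :=
      hle_P₀ _ (hD'n.comap _) h1
    rw [eq_bot_iff]
    intro d hd
    induction d using QuotientGroup.induction_on with
    | H g =>
      rw [Subgroup.mem_bot, QuotientGroup.eq_one_iff]
      exact h2 hd
  have hCQ := centralizer_le_of_complement Nb PS hcompl hOp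
  obtain ⟨hp23, a, haA, haP, hap, S, hSW, hScard, hS⟩ :=
    Cfsg.Agent.Lib.Helper8.FFT.exists_transvection W (pCore p Y) hP₀eq hWel Nb hQ hCQ A hAc
      (hTp.to_le hAT) hAP hoff
  subst hp2
  exact hfree (involves_S4_of_transvection W (pCore 2 Y) hP₀eq hWel Nb hQ hCQ a haP hap S hSW
    hScard hS)

end loc

end Cfsg.Agent.Lib.Helper8.ThLoc
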