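import Mathlib
import Cfsg.Agent.Lib.Helper8.ThompsonDihedral1
import Cfsg.Agent.Lib.Helper1.FittingCentralizer
import Cfsg.Agent.Lib.Helper1.SubnormalFitting

/-!
Thompson's dihedral lemma, part 3: reduction to an abelian subgroup on which `A` is faithful.
-/

namespace Cfsg.Agent.Lib.Helper8.ThompsonDihedral

open scoped commutatorElement

variable {G : Type*} [Group G]

theorem eq_one_of_mul_self_of_odd' [Finite G] (M : Subgroup G) (hodd : Odd (Nat.card M)) {x : G}
    (hx : x ∈ M) (h2 : x * x = 1) : x = 1 := by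
  have h1 : orderOf x ∣ 2 := orderOf_dvd_of_pow_eq_one (by rw [pow_two]; exact h2)
  have h3 : orderOf x ∣ Nat.card M := Subgroup.orderOf_dvd_natCard M hx
  have h4 : orderOf x = 1 := by
    rcases (Nat.dvd_prime Nat.prime_two).mp h1 with h | h
    · exact h
    · exfalso
      rw [h] at h3
      exact (Nat.not_even_iff_odd.mpr hodd) (even_iff_two_dvd.mpr h3)
  exact orderOf_eq_one_iff.mp h4

theorem inv_conj_comm (k l : G) (hkk : k * k = 1) :
    k * (k * l * k⁻¹ * l⁻¹) * k⁻¹ = (k * l * k⁻¹ * l⁻¹)⁻¹ := by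
  have hkinv : k⁻¹ = k := inv_eq_of_mul_eq_one_left hkk
  calc k * (k * l * k⁻¹ * l⁻¹) * k⁻¹ = (k * k) * (l * k⁻¹ * l⁻¹ * k⁻¹) := by group
    _ = l * k⁻¹ * l⁻¹ * k⁻¹ := by rw [hkk, one_mul]
    _ = l * k * l⁻¹ * k⁻¹ := by rw [hkinv]
    _ = (k * l * k⁻¹ * l⁻¹)⁻¹ := by group

/-- If `L₀ ⊴ L` contains its centraliser in `L`, then a 2-group acting faithfully on the odd
order group `L` acts faithfully on `L₀`. -/
theorem faithful_of_self_centralizing [Finite G] (L L₀ A : Subgroup G) (hLodd : Odd (Nat.card L))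
    (hA2 : ∀ a ∈ A, a * a = 1) (hAL : A ≤ Subgroup.normalizer (L : Set G))
    (hfaith : A ⊓ Subgroup.centralizer (L : Set G) = ⊥)
    (hLn : L ≤ Subgroup.normalizer (L₀ : Set G))
    (hC : Subgroup.centralizer (L₀ : Set G) ⊓ L ≤ L₀) :
    A ⊓ Subgroup.centralizer (L₀ : Set G) = ⊥ := by
  rw [eq_bot_iff]
  intro k hk
  obtain ⟨hkA, hkC⟩ := Subgroup.mem_inf.mp hk
  rw [← hfaith, Subgroup.mem_inf]
  refine ⟨hkA, ?_⟩
  rw [Subgroup.mem_centralizer_iff]
  intro l hl
  have hkk : k * k = 1 := hA2 k hkA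
  have hkC' : ∀ u ∈ L₀, u * k = k * u := Subgroup.mem_centralizer_iff.mp hkC
  have hkl : k * l * k⁻¹ ∈ L := (Subgroup.mem_normalizer_iff.mp (hAL hkA) l).mp hl
  have hc'L : k * l * k⁻¹ * l⁻¹ ∈ L := L.mul_mem hkl (L.inv_mem hl)
  have h1 : l * k⁻¹ * l⁻¹ ∈ Subgroup.centralizer (L₀ : Set G) := by
    rw [Subgroup.mem_centralizer_iff]
    intro y hy
    have hy₁ : l⁻¹ * y * l ∈ L₀ := by
      have := (Subgroup.mem_normalizer_iff.mp (hLn (L.inv_mem hl)) y).mp hy
      rwa [inv_inv] at this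
    have hcomm : Commute k (l⁻¹ * y * l) := (hkC' _ hy₁).symm
    symm
    calc (l * k⁻¹ * l⁻¹) * y = l * (k⁻¹ * (l⁻¹ * y * l)) * l⁻¹ := by group
      _ = l * ((l⁻¹ * y * l) * k⁻¹) * l⁻¹ := by rw [hcomm.inv_left.eq]
      _ = y * (l * k⁻¹ * l⁻¹) := by group
  have hc'C : k * l * k⁻¹ * l⁻¹ ∈ Subgroup.centralizer (L₀ : Set G) := by
    have : k * l * k⁻¹ * l⁻¹ = k * (l * k⁻¹ * l⁻¹) := by group
    rw [this]
    exact Subgroup.mul_mem _ hkC h1
  have hc'L₀ : k * l * k⁻¹ * l⁻¹ ∈ L₀ := hC ⟨hc'C, hc'L⟩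
  have h2 : k * (k * l * k⁻¹ * l⁻¹) * k⁻¹ = k * l * k⁻¹ * l⁻¹ := by
    rw [mul_inv_eq_iff_eq_mul]
    exact (hkC' _ hc'L₀).symm
  have h3 := inv_conj_comm k l hkk
  rw [h2] at h3
  have h4 : (k * l * k⁻¹ * l⁻¹) * (k * l * k⁻¹ * l⁻¹) = 1 := by
    nth_rewrite 1 [h3]
    exact inv_mul_cancel _
  have h5 := eq_one_of_mul_self_of_odd' L hLodd hc'L h4
  have h6 : k * l * k⁻¹ = l := mul_inv_eq_one.mp h5
  exact (mul_inv_eq_iff_eq_mul.mp h6).symm

/-- the normaliser of `L` normalises (the image of) every characteristic subgroup of `L` -/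
theorem normalizer_le_normalizer_map_char [Finite G] (L : Subgroup G) (K : Subgroup ↥L)
    [hK : K.Characteristic] :
    Subgroup.normalizer (L : Set G) ≤
      Subgroup.normalizer ((K.map L.subtype : Subgroup G) : Set G) := by
  intro g hg
  apply Mazurov.mem_normalizer_of_conj_mem
  rintro _ ⟨x, hx, rfl⟩
  have h1 : (L.normalizerMonoidHom ⟨g, hg⟩) x ∈ K :=
    (Subgroup.characteristic_iff_le_comap.mp hK (L.normalizerMonoidHom ⟨g, hg⟩)) hx
  exact ⟨_, h1, rfl⟩


/-- A nonabelian solvable group `L` acted on by an elementary abelian 2-group `A` has a proper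
`A`-invariant normal subgroup containing its centraliser in `L`. -/
theorem exists_proper_self_centralizing [Finite G] (A L : Subgroup G)
    (hAc : ∀ a ∈ A, ∀ b ∈ A, a * b = b * a) (hA2 : ∀ a ∈ A, a * a = 1)
    (hLs : Group.IsSolvable ↥L) (hAL : A ≤ Subgroup.normalizer (L : Set G))
    (hnab : ¬ ∀ x ∈ L, ∀ y ∈ L, x * y = y * x) :
    ∃ L₀ : Subgroup G, L₀ < L ∧ L ≤ Subgroup.normalizer (L₀ : Set G) ∧
      A ≤ Subgroup.normalizer (L₀ : Set G) ∧ Subgroup.centralizer (L₀ : Set G) ⊓ L ≤ L₀ := by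
  classical
  by_cases hF : Cfsg.fittingSubgroup ↥L = ⊤
  · -- nilpotent case
    have hnil : Group.IsNilpotent ↥L := by
      have := Helper1.fittingSubgroup_isNilpotent (G := ↥L)
      rw [hF] at this
      exact Group.isNilpotent_top.mp this
    set Z' : Subgroup ↥L := Subgroup.upperCentralSeries ↥L 1 with hZ'
    set W' : Subgroup ↥L := Subgroup.upperCentralSeries ↥L 2 with hW'
    have hZ'c : Z' = Subgroup.center ↥L := Subgroup.upperCentralSeries_one ↥L
    have hZW' : Z' < W' := by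
      refine lt_of_le_of_ne (Subgroup.upperCentralSeries_mono ↥L (by norm_num)) ?_
      intro h
      have htop : Z' = ⊤ := Subgroup.upperCentralSeries.eq_top (by norm_num) h
      apply hnab
      intro x hx y hy
      have hxc : (⟨x, hx⟩ : ↥L) ∈ Subgroup.center ↥L := by rw [← hZ'c, htop]; trivial
      have := Subgroup.mem_center_iff.mp hxc ⟨y, hy⟩
      have h2 := congrArg Subtype.val this
      exact h2.symm
    set Z : Subgroup G := Z'.map L.subtype with hZ
    set W : Subgroup G := W'.map L.subtype with hW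
    have hZL : Z ≤ L := Subgroup.map_subtype_le Z'
    have hWL : W ≤ L := Subgroup.map_subtype_le W'
    have hNZ : Subgroup.normalizer (L : Set G) ≤ Subgroup.normalizer (Z : Set G) :=
      normalizer_le_normalizer_map_char L Z'
    have hNW : Subgroup.normalizer (L : Set G) ≤ Subgroup.normalizer (W : Set G) :=
      normalizer_le_normalizer_map_char L W'
    have hZW : Z < W := by
      refine lt_of_le_of_ne (Subgroup.map_mono hZW'.le) ?_
      intro h
      apply hZW'.ne
      apply le_antisymm hZW'.le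
      intro u hu
      have : (u : G) ∈ Z := by rw [h]; exact ⟨u, hu, rfl⟩
      obtain ⟨v, hv, hvu⟩ := this
      have : v = u := Subtype.ext hvu
      rw [← this]; exact hv
    have hZcent : ∀ z ∈ Z, ∀ l ∈ L, z * l = l * z := by
      rintro _ ⟨u, hu, rfl⟩ l hl
      rw [hZ'c] at hu
      have := Subgroup.mem_center_iff.mp hu ⟨l, hl⟩
      exact (congrArg Subtype.val this).symm
    have hWcomm : ∀ w ∈ W, ∀ l ∈ L, ⁅w, l⁆ ∈ Z := by
      rintro _ ⟨u, hu, rfl⟩ l hl
      have := (Subgroup.mem_upperCentralSeries_succ_iff (n := 1)).mp hu ⟨l, hl⟩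
      exact ⟨_, this, rfl⟩
    have hWW : ⁅W, W⁆ ≤ Z := by
      rw [Subgroup.commutator_le]
      intro w₁ h₁ w₂ h₂
      exact hWcomm w₁ h₁ w₂ (hWL h₂)
    obtain ⟨w, hwW, hwZ, hwA⟩ := eigen_exists A hAc hA2 (Nat.card W) Z W le_rfl hZW
      ((hWL.trans Subgroup.le_normalizer).trans hNZ) hWW (hAL.trans hNZ) (hAL.trans hNW)
    have hwL : w ∈ L := hWL hwW
    refine ⟨L ⊓ Subgroup.centralizer {w}, ?_, ?_, ?_, ?_⟩
    · refine lt_of_le_of_ne inf_le_left ?_
      intro h
      apply hwZ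
      have hmem : (⟨w, hwL⟩ : ↥L) ∈ Z' := by
        rw [hZ'c, Subgroup.mem_center_iff]
        rintro ⟨l, hl⟩
        have : l ∈ L ⊓ Subgroup.centralizer {w} := by rw [h]; exact hl
        have h2 := Subgroup.mem_centralizer_singleton_iff.mp this.2
        exact Subtype.ext h2
      exact ⟨⟨w, hwL⟩, hmem, rfl⟩
    · intro l hl
      apply Mazurov.mem_normalizer_of_conj_mem
      intro c hc
      obtain ⟨hcL, hcw⟩ := Subgroup.mem_inf.mp hc
      rw [Subgroup.mem_centralizer_singleton_iff] at hcw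
      rw [Subgroup.mem_inf, Subgroup.mem_centralizer_singleton_iff]
      refine ⟨L.mul_mem (L.mul_mem hl hcL) (L.inv_mem hl), ?_⟩
      have hζ : w⁻¹ * l⁻¹ * w * l ∈ Z := by
        have := hWcomm w⁻¹ (W.inv_mem hwW) l⁻¹ (L.inv_mem hl)
        rwa [commutatorElement_def, inv_inv, inv_inv] at this
      have e1 : l⁻¹ * w * l = w * (w⁻¹ * l⁻¹ * w * l) := by group
      have h1 : c * (l⁻¹ * w * l) = (l⁻¹ * w * l) * c := by
        rw [e1]
        exact (Commute.mul_right (show Commute c w from hcw)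
          (show Commute c _ from (hZcent _ hζ c hcL).symm)).eq
      calc (l * c * l⁻¹) * w = l * (c * (l⁻¹ * w * l)) * l⁻¹ := by group
        _ = l * ((l⁻¹ * w * l) * c) * l⁻¹ := by rw [h1]
        _ = w * (l * c * l⁻¹) := by group
    · intro a ha
      apply Mazurov.mem_normalizer_of_conj_mem
      intro c hc
      obtain ⟨hcL, hcw⟩ := Subgroup.mem_inf.mp hc
      rw [Subgroup.mem_centralizer_singleton_iff] at hcw
      rw [Subgroup.mem_inf, Subgroup.mem_centralizer_singleton_iff]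
      refine ⟨(Subgroup.mem_normalizer_iff.mp (hAL ha) c).mp hcL, ?_⟩
      have hcw' : c * w⁻¹ = w⁻¹ * c := by
        have hcomm : Commute c w := hcw
        exact hcomm.inv_right.eq
      have key : ∀ b ∈ A, c * (b * w * b⁻¹) = (b * w * b⁻¹) * c := by
        intro b hb
        rcases hwA b hb with h | h
        · have e1 : b * w * b⁻¹ = (b * w * b⁻¹ * w⁻¹) * w := by group
          rw [e1]
          exact (Commute.mul_right (show Commute c _ from (hZcent _ h c hcL).symm)
            (show Commute c w from hcw)).eq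
        · have e1 : b * w * b⁻¹ = (b * w * b⁻¹ * w) * w⁻¹ := by group
          rw [e1]
          exact (Commute.mul_right (show Commute c _ from (hZcent _ h c hcL).symm)
            (show Commute c w⁻¹ from hcw')).eq
      have h1 := key a⁻¹ (A.inv_mem ha)
      rw [inv_inv] at h1
      calc (a * c * a⁻¹) * w = a * (c * (a⁻¹ * w * a)) * a⁻¹ := by group
        _ = a * ((a⁻¹ * w * a) * c) * a⁻¹ := by rw [h1]
        _ = w * (a * c * a⁻¹) := by group
    · intro c hc
      obtain ⟨hcC, hcL⟩ := Subgroup.mem_inf.mp hc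
      rw [Subgroup.mem_inf, Subgroup.mem_centralizer_singleton_iff]
      refine ⟨hcL, ?_⟩
      have hwL₀ : w ∈ L ⊓ Subgroup.centralizer {w} := by
        rw [Subgroup.mem_inf, Subgroup.mem_centralizer_singleton_iff]
        exact ⟨hwL, rfl⟩
      exact (Subgroup.mem_centralizer_iff.mp hcC w hwL₀).symm
  · -- Fitting subgroup is proper
    set F' : Subgroup ↥L := Cfsg.fittingSubgroup ↥L with hF'
    haveI : F'.Characteristic := Helper1.fittingSubgroup_characteristic
    have hN : Subgroup.normalizer (L : Set G) ≤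
        Subgroup.normalizer ((F'.map L.subtype : Subgroup G) : Set G) :=
      normalizer_le_normalizer_map_char L F'
    refine ⟨F'.map L.subtype, ?_, Subgroup.le_normalizer.trans hN, hAL.trans hN, ?_⟩
    · refine lt_of_le_of_ne (Subgroup.map_subtype_le F') ?_
      intro h
      apply hF
      rw [eq_top_iff]
      intro u _
      have : (u : G) ∈ F'.map L.subtype := by rw [h]; exact u.2
      obtain ⟨v, hv, hvu⟩ := this
      have : v = u := Subtype.ext hvu
      rw [← this]; exact hv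
    · intro c hc
      obtain ⟨hcC, hcL⟩ := Subgroup.mem_inf.mp hc
      have h1 : (⟨c, hcL⟩ : ↥L) ∈ Subgroup.centralizer (F' : Set ↥L) := by
        rw [Subgroup.mem_centralizer_iff]
        intro y hy
        apply Subtype.ext
        exact Subgroup.mem_centralizer_iff.mp hcC y ⟨y, hy, rfl⟩
      have h2 := Helper1.centralizer_fittingSubgroup_le (G := ↥L) h1
      exact ⟨_, h2, rfl⟩

/-- **Reduction to the abelian case.** -/
theorem exists_abelian_faithful [Finite G] (A : Subgroup G)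
    (hAc : ∀ a ∈ A, ∀ b ∈ A, a * b = b * a) (hA2 : ∀ a ∈ A, a * a = 1) :
    ∀ (n : ℕ) (L : Subgroup G), Nat.card L ≤ n → Group.IsSolvable ↥L → Odd (Nat.card L) →
      A ≤ Subgroup.normalizer (L : Set G) → A ⊓ Subgroup.centralizer (L : Set G) = ⊥ →
      ∃ M : Subgroup G, M ≤ L ∧ (∀ x ∈ M, ∀ y ∈ M, x * y = y * x) ∧
        A ≤ Subgroup.normalizer (M : Set G) ∧ A ⊓ Subgroup.centralizer (M : Set G) = ⊥ := by
  intro n
  induction n with
  | zero =>
    intro L hn
    exact absurd hn (by have := Nat.card_pos (α := L); omega)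
  | succ n ih =>
    intro L hn hLs hLodd hAL hfaith
    by_cases hab : ∀ x ∈ L, ∀ y ∈ L, x * y = y * x
    · exact ⟨L, le_rfl, hab, hAL, hfaith⟩
    · obtain ⟨L₀, hlt, hLn, hAL₀, hC⟩ := exists_proper_self_centralizing A L hAc hA2 hLs hAL hab
      have hcard : Nat.card L₀ ≤ n := by
        by_contra hcon
        have : Nat.card L ≤ Nat.card L₀ := by omega
        exact absurd (Subgroup.eq_of_le_of_card_ge hlt.le this) hlt.ne
      have hs₀ : Group.IsSolvable ↥L₀ :=
        Group.isSolvable_of_isSolvable_injective (Subgroup.inclusion_injective hlt.le)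
      have hodd₀ : Odd (Nat.card L₀) := hLodd.of_dvd_nat (Subgroup.card_dvd_of_le hlt.le)
      have hf₀ := faithful_of_self_centralizing L L₀ A hLodd hA2 hAL hfaith hLn hC
      obtain ⟨M, hML₀, hMc, hAM, hMf⟩ := ih L₀ hcard hs₀ hodd₀ hAL₀ hf₀
      exact ⟨M, hML₀.trans hlt.le, hMc, hAM, hMf⟩

end Cfsg.Agent.Lib.Helper8.ThompsonDihedral
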