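import Mathlib

set_option autoImplicit false
set_option linter.style.haveILetI false

/-! Transfer argument: `P/QP'`, `Q/Q'` elementary abelian and `N/N'` odd imply `P/P'` elementary
abelian (for `P` a Sylow 2-subgroup with `PN = K`, `Q = P ∩ N`). -/

namespace Cfsg.Agent.Lib.Helper8.TransferSq

open scoped commutatorElement

universe u

variable {K : Type u} [Group K] [Finite K]

theorem key (N : Subgroup K) [hN : N.Normal] (P : Sylow 2 K)
    (hPN : (P : Subgroup K) ⊔ N = ⊤)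
    (hP : ∀ x ∈ (P : Subgroup K), x ^ 2 ∈ ((P : Subgroup K) ⊓ N) ⊔
      ⁅(P : Subgroup K), (P : Subgroup K)⁆)
    (hQ : ∀ x ∈ (P : Subgroup K) ⊓ N, x ^ 2 ∈ ⁅(P : Subgroup K) ⊓ N, (P : Subgroup K) ⊓ N⁆)
    (hodd : Odd (Nat.card (Abelianization N))) :
    ∀ x ∈ (P : Subgroup K), x ^ 2 ∈ ⁅(P : Subgroup K), (P : Subgroup K)⁆ := by
  classical
  obtain ⟨H, hH⟩ : ∃ H : Subgroup K, H = (P : Subgroup K) := ⟨_, rfl⟩
  rw [← hH] at hPN hP hQ ⊢
  have hHp : IsPGroup 2 H := hH ▸ P.2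
  have hHidx : ¬ 2 ∣ H.index := hH ▸ P.not_dvd_index
  let ϕ : H →* Abelianization H := Abelianization.of
  let V : K →* Abelianization H := MonoidHom.transfer ϕ
  -- F0: `ϕ` kills `⁅H,H⁆`
  have hF0 : ∀ c : H, (c : K) ∈ ⁅H, H⁆ → ϕ c = 1 := by
    intro c hc
    rw [← Subgroup.map_subtype_commutator] at hc
    obtain ⟨c', hc', hcc⟩ := hc
    have : c' = c := Subtype.ext hcc
    rw [← this, ← MonoidHom.mem_ker]
    change c' ∈ (Abelianization.of : H →* Abelianization H).ker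
    rw [Abelianization.ker_of]
    exact hc'
  -- F1: elements of `(H ⊓ N) ⊔ ⁅H,H⁆` have `ϕ`-image of square one
  have hF1 : ∀ y : H, (y : K) ∈ (H ⊓ N) ⊔ ⁅H, H⁆ → ϕ y ^ 2 = 1 := by
    let ψ : H →* Abelianization H := (powMonoidHom 2).comp ϕ
    have hle : (H ⊓ N) ⊔ ⁅H, H⁆ ≤ ψ.ker.map H.subtype := by
      apply sup_le
      · intro q hq
        refine ⟨⟨q, hq.1⟩, ?_, rfl⟩
        rw [SetLike.mem_coe, MonoidHom.mem_ker]
        change ϕ ⟨q, hq.1⟩ ^ 2 = 1
        rw [← map_pow]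
        apply hF0
        exact Subgroup.commutator_mono inf_le_left inf_le_left (hQ q hq)
      · intro c hc
        have hcH : c ∈ H := Subgroup.commutator_le_self H hc
        refine ⟨⟨c, hcH⟩, ?_, rfl⟩
        rw [SetLike.mem_coe, MonoidHom.mem_ker]
        change ϕ ⟨c, hcH⟩ ^ 2 = 1
        rw [hF0 ⟨c, hcH⟩ hc, one_pow]
    intro y hy
    obtain ⟨y', hy', hyy⟩ := hle hy
    have : y' = y := Subtype.ext hyy
    rw [← this]
    exact hy'
  -- F2: `V` kills `N`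
  have hAcard : ∃ a : ℕ, Nat.card (Abelianization H) = 2 ^ a := by
    obtain ⟨k, hk⟩ := IsPGroup.iff_card.mp hHp
    have hdvd : Nat.card (Abelianization H) ∣ 2 ^ k := by
      rw [← hk]
      have : Nat.card (Abelianization H) = (commutator H).index :=
        (Subgroup.index_eq_card _).symm
      rw [this]
      exact Subgroup.index_dvd_card _
    obtain ⟨a, -, ha⟩ := (Nat.dvd_prime_pow Nat.prime_two).mp hdvd
    exact ⟨a, ha⟩
  obtain ⟨a, ha⟩ := hAcard
  have hF2 : ∀ n ∈ N, V n = 1 := by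
    intro n hn
    let f : N →* Abelianization H := V.comp N.subtype
    have h1 : f ⟨n, hn⟩ = Abelianization.lift f (Abelianization.of ⟨n, hn⟩) := by
      rw [Abelianization.lift_apply_of]
    have h2 : orderOf (f ⟨n, hn⟩) ∣ Nat.card (Abelianization N) := by
      rw [h1]
      exact (orderOf_map_dvd _ _).trans (orderOf_dvd_natCard _)
    have h3 : orderOf (f ⟨n, hn⟩) ∣ 2 ^ a := by
      rw [← ha]
      exact orderOf_dvd_natCard _
    have h4 : orderOf (f ⟨n, hn⟩) = 1 := by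
      obtain ⟨b, -, hb⟩ := (Nat.dvd_prime_pow Nat.prime_two).mp h3
      rcases Nat.eq_zero_or_pos b with hb0 | hb0
      · rw [hb, hb0, pow_zero]
      · exfalso
        have h5 : 2 ∣ Nat.card (Abelianization N) := by
          refine dvd_trans ?_ h2
          rw [hb]
          exact dvd_pow_self 2 hb0.ne'
        exact (Nat.not_even_iff_odd.mpr hodd) (even_iff_two_dvd.mpr h5)
    exact orderOf_eq_one_iff.mp h4
  -- F4: `V` kills `(H ⊓ N) ⊔ ⁅H,H⁆`
  have hF4 : (H ⊓ N) ⊔ ⁅H, H⁆ ≤ V.ker := by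
    apply sup_le
    · intro q hq
      exact hF2 q hq.2
    · have h1 : ⁅H, H⁆ ≤ commutator K := by
        rw [commutator_def]
        exact Subgroup.commutator_mono le_top le_top
      exact h1.trans (Abelianization.commutator_subset_ker V)
  -- F3a: conjugates have the same `ϕ`-square
  have hF3a : ∀ (g : K) (h : H) (hg : g⁻¹ * (h : K) * g ∈ H),
      ϕ ⟨g⁻¹ * (h : K) * g, hg⟩ ^ 2 = ϕ h ^ 2 := by
    intro g h hg
    have hgm : g ∈ H ⊔ N := by rw [hPN]; trivial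
    obtain ⟨u, hu, n', hn', rfl⟩ := Subgroup.mem_sup_of_normal_right.mp hgm
    obtain ⟨w, hw⟩ : ∃ w : H, (w : K) = u⁻¹ * (h : K) * u :=
      ⟨⟨u⁻¹ * (h : K) * u, H.mul_mem (H.mul_mem (H.inv_mem hu) h.2) hu⟩, rfl⟩
    have hνH : (w : K)⁻¹ * ((u * n')⁻¹ * (h : K) * (u * n')) ∈ H :=
      H.mul_mem (H.inv_mem w.2) hg
    have hνN : (w : K)⁻¹ * ((u * n')⁻¹ * (h : K) * (u * n')) ∈ N := by
      have e : (w : K)⁻¹ * ((u * n')⁻¹ * (h : K) * (u * n')) =
          ((w : K)⁻¹ * n'⁻¹ * (w : K)⁻¹⁻¹) * n' := by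
        rw [hw]; group
      rw [e]
      exact N.mul_mem (hN.conj_mem _ (N.inv_mem hn') _) hn'
    have hprod : (⟨(u * n')⁻¹ * (h : K) * (u * n'), hg⟩ : H) =
        w * ⟨(w : K)⁻¹ * ((u * n')⁻¹ * (h : K) * (u * n')), hνH⟩ := by
      apply Subtype.ext
      simp
    rw [hprod, map_mul, mul_pow]
    have h1 : ϕ ⟨(w : K)⁻¹ * ((u * n')⁻¹ * (h : K) * (u * n')), hνH⟩ ^ 2 = 1 :=
      hF1 _ (Subgroup.mem_sup_left ⟨hνH, hνN⟩)
    have h2 : ϕ w = ϕ h := by
      have : w = (⟨u, hu⟩ : H)⁻¹ * h * ⟨u, hu⟩ := Subtype.ext hw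
      rw [this, map_mul, map_mul, map_inv, mul_comm, ← mul_assoc, mul_inv_cancel, one_mul]
    rw [h1, h2, mul_one]
  -- F3: `V x ^ 2 = ϕ x ^ (2 * index)`
  have hF3 : ∀ x : H, V (x : K) ^ 2 = ϕ x ^ (2 * H.index) := by
    intro x
    haveI : Fintype (Quotient (MulAction.orbitRel (Subgroup.zpowers (x : K)) (K ⧸ H))) :=
      Fintype.ofFinite _
    change MonoidHom.transfer ϕ (x : K) ^ 2 = _
    rw [MonoidHom.transfer_eq_prod_quotient_orbitRel_zpowers_quot, ← Finset.prod_pow]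
    have : ∀ q : Quotient (MulAction.orbitRel (Subgroup.zpowers (x : K)) (K ⧸ H)),
        ϕ ⟨q.out.out⁻¹ * (x : K) ^ Function.minimalPeriod ((x : K) • ·) q.out * q.out.out,
          QuotientGroup.out_conj_pow_minimalPeriod_mem H (x : K) q.out⟩ ^ 2 =
        ϕ x ^ (2 * Function.minimalPeriod ((x : K) • ·) q.out) := by
      intro q
      have := hF3a q.out.out (x ^ Function.minimalPeriod ((x : K) • ·) q.out)
        (by
          rw [Subgroup.coe_pow]
          exact QuotientGroup.out_conj_pow_minimalPeriod_mem H (x : K) q.out)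
      simp only [Subgroup.coe_pow] at this
      rw [this, map_pow, ← pow_mul, mul_comm]
    rw [Finset.prod_congr rfl (fun q _ => this q), Finset.prod_pow_eq_pow_sum, ← Finset.mul_sum,
      ← Subgroup.index_eq_sum_minimalPeriod H (x : K)]
  -- conclusion
  intro x hx
  have h1 : V x ^ 2 = 1 := by
    rw [← map_pow]
    exact hF4 (hP x hx)
  have h2 := hF3 ⟨x, hx⟩
  rw [show ((⟨x, hx⟩ : H) : K) = x from rfl, h1] at h2
  -- `ϕ x ^ 2` has odd order dividing a power of two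
  have h3 : orderOf (ϕ ⟨x, hx⟩ ^ 2) ∣ H.index := by
    apply orderOf_dvd_of_pow_eq_one
    rw [← pow_mul, ← h2]
  have h4 : orderOf (ϕ ⟨x, hx⟩ ^ 2) ∣ 2 ^ a := by
    rw [← ha]
    exact orderOf_dvd_natCard _
  have h5 : orderOf (ϕ ⟨x, hx⟩ ^ 2) = 1 := by
    obtain ⟨b, -, hb⟩ := (Nat.dvd_prime_pow Nat.prime_two).mp h4
    rcases Nat.eq_zero_or_pos b with hb0 | hb0
    · rw [hb, hb0, pow_zero]
    · exfalso
      apply hHidx
      refine dvd_trans ?_ h3
      rw [hb]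
      exact dvd_pow_self 2 hb0.ne'
  have h6 : ϕ ⟨x, hx⟩ ^ 2 = 1 := orderOf_eq_one_iff.mp h5
  rw [← map_pow] at h6
  have h7 : (⟨x, hx⟩ : H) ^ 2 ∈ (Abelianization.of : H →* Abelianization H).ker := h6
  rw [Abelianization.ker_of] at h7
  rw [← Subgroup.map_subtype_commutator]
  exact ⟨_, h7, rfl⟩

theorem main {G : Type u} [Group G] [Finite G] (N : Subgroup G) [hN : N.Normal] (P : Sylow 2 G)
    (hP : ∀ x ∈ (P : Subgroup G), x ^ 2 ∈ ((P : Subgroup G) ⊓ N) ⊔
      ⁅(P : Subgroup G), (P : Subgroup G)⁆)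
    (hQ : ∀ x ∈ (P : Subgroup G) ⊓ N, x ^ 2 ∈ ⁅(P : Subgroup G) ⊓ N, (P : Subgroup G) ⊓ N⁆)
    (hodd : Odd (Nat.card (Abelianization N))) :
    ∀ x ∈ (P : Subgroup G), x ^ 2 ∈ ⁅(P : Subgroup G), (P : Subgroup G)⁆ := by
  obtain ⟨Kt, hKt⟩ : ∃ Kt : Subgroup G, Kt = (P : Subgroup G) ⊔ N := ⟨_, rfl⟩
  have hPK : (P : Subgroup G) ≤ Kt := hKt ▸ le_sup_left
  have hNK : N ≤ Kt := hKt ▸ le_sup_right
  have hinj : Function.Injective Kt.subtype := Kt.subtype_injective
  have hmP : ((P : Subgroup G).subgroupOf Kt).map Kt.subtype = (P : Subgroup G) :=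
    Subgroup.map_subgroupOf_eq_of_le hPK
  have hmN : (N.subgroupOf Kt).map Kt.subtype = N := Subgroup.map_subgroupOf_eq_of_le hNK
  have hmem : ∀ (S : Subgroup ↥Kt) (x : ↥Kt), x ∈ S ↔ (x : G) ∈ S.map Kt.subtype := by
    intro S x
    exact (Subgroup.mem_map_iff_mem hinj).symm
  have hmPP : (⁅(P : Subgroup G).subgroupOf Kt, (P : Subgroup G).subgroupOf Kt⁆).map Kt.subtype =
      ⁅(P : Subgroup G), (P : Subgroup G)⁆ := by
    rw [Subgroup.map_commutator, hmP]
  have hmQ : ((P : Subgroup G).subgroupOf Kt ⊓ N.subgroupOf Kt).map Kt.subtype =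
      (P : Subgroup G) ⊓ N := by
    rw [Subgroup.map_inf _ _ _ hinj, hmP, hmN]
  have hkey := key (N.subgroupOf Kt) (P.subtype hPK)
    (by
      rw [Sylow.coe_subtype, ← Subgroup.subgroupOf_sup hPK hNK, ← hKt]
      exact Subgroup.subgroupOf_self Kt)
    (by
      rw [Sylow.coe_subtype]
      intro x hx
      rw [hmem, Subgroup.map_sup, hmQ, hmPP]
      exact hP (x : G) (Subgroup.mem_subgroupOf.mp hx))
    (by
      rw [Sylow.coe_subtype]
      intro x hx
      rw [hmem, Subgroup.map_commutator, hmQ]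
      apply hQ (x : G)
      rw [← hmQ]
      exact (hmem _ x).mp hx)
    (by
      have e : Abelianization ↥(N.subgroupOf Kt) ≃* Abelianization ↥N :=
        (Subgroup.subgroupOfEquivOfLe hNK).abelianizationCongr
      rw [Nat.card_congr e.toEquiv]
      exact hodd)
  intro x hx
  have h1 := hkey ⟨x, hPK hx⟩ (by rw [Sylow.coe_subtype]; exact Subgroup.mem_subgroupOf.mpr hx)
  rw [Sylow.coe_subtype, hmem, hmPP] at h1
  exact h1

end Cfsg.Agent.Lib.Helper8.TransferSq
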