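import Mathlib
import Cfsg.Agent.Lib.Helper8.CharP
import Cfsg.Agent.Lib.Helper2.Cores

set_option autoImplicit false

namespace Cfsg.Agent.Lib.Helper8.TransvCent

open Matrix

variable {F : Type*} [Field F] [Fintype F] [DecidableEq F] {n : ℕ}

theorem eq_zero_or_one (hF : Fintype.card F = 2) (a : F) : a = 0 ∨ a = 1 := by
  have hF' : Nat.card F = 2 := by rw [Nat.card_eq_fintype_card]; exact hF
  obtain ⟨x, y, hxy, huniv⟩ := Nat.card_eq_two_iff.1 hF'
  have mem : ∀ b : F, b = x ∨ b = y := by
    intro b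
    have : b ∈ (Set.univ : Set F) := Set.mem_univ b
    rw [← huniv] at this
    simpa using this
  have h01 : (0 : F) ≠ 1 := zero_ne_one
  rcases mem 0 with h0 | h0 <;> rcases mem 1 with h1 | h1 <;> rcases mem a with ha | ha
  all_goals first
    | (left; rw [ha, h0]; done)
    | (right; rw [ha, h1]; done)
    | (exfalso; exact h01 (h0.trans h1.symm))

theorem add_self_eq_zero' (hF : Fintype.card F = 2) (a : F) : a + a = 0 := by
  have h2 : (1 : F) + 1 = 0 := by
    rcases eq_zero_or_one hF ((1 : F) + 1) with h | h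
    · exact h
    · exfalso
      have : (1 : F) = 0 := by
        have h' : (1 : F) + 1 = 1 + 0 := by rw [h, add_zero]
        exact add_left_cancel h'
      exact one_ne_zero this
  calc a + a = a * (1 + 1) := by ring
    _ = 0 := by rw [h2, mul_zero]

/-- If the rows `m ≠ i` of `A` are those of the identity, `A * B` has the rows `m ≠ i` of `B`. -/
theorem mul_apply_of_row {i : Fin n} {A : Matrix (Fin n) (Fin n) F}
    (hA : ∀ m k, m ≠ i → A m k = (1 : Matrix (Fin n) (Fin n) F) m k)
    (B : Matrix (Fin n) (Fin n) F) {m : Fin n} (hm : m ≠ i) (k : Fin n) :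
    (A * B) m k = B m k := by
  rw [Matrix.mul_apply, Finset.sum_eq_single m]
  · rw [hA m m hm, Matrix.one_apply_eq, one_mul]
  · intro l _ hl
    rw [hA m l hm, Matrix.one_apply_ne (Ne.symm hl), zero_mul]
  · intro h
    exact absurd (Finset.mem_univ m) h

/-- The elementary abelian normal subgroup `R₀` of `C(t)`: rows `m ≠ i` are those of `1`. -/
def R0 (F : Type*) [Field F] [Fintype F] [DecidableEq F] {n : ℕ} (i : Fin n) :
    Subgroup (SpecialLinearGroup (Fin n) F) where
  carrier := {g | ∀ m k, m ≠ i →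
    (g : Matrix (Fin n) (Fin n) F) m k = (1 : Matrix (Fin n) (Fin n) F) m k}
  mul_mem' := by
    intro a b ha hb m k hm
    rw [Matrix.SpecialLinearGroup.coe_mul, mul_apply_of_row ha _ hm k]
    exact hb m k hm
  one_mem' := by
    intro m k _
    rw [Matrix.SpecialLinearGroup.coe_one]
  inv_mem' := by
    intro a ha m k hm
    have h1 := mul_apply_of_row ha ((a⁻¹ : SpecialLinearGroup (Fin n) F) :
      Matrix (Fin n) (Fin n) F) hm k
    rw [← Matrix.SpecialLinearGroup.coe_mul, mul_inv_cancel, Matrix.SpecialLinearGroup.coe_one] at h1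
    exact h1.symm

theorem mem_R0 {i : Fin n} {g : SpecialLinearGroup (Fin n) F} :
    g ∈ R0 F i ↔ ∀ m k, m ≠ i →
      (g : Matrix (Fin n) (Fin n) F) m k = (1 : Matrix (Fin n) (Fin n) F) m k := Iff.rfl

theorem diag_eq_one (hF : Fintype.card F = 2) {i : Fin n} (g : SpecialLinearGroup (Fin n) F)
    (h : ∀ m, m ≠ i → (g : Matrix (Fin n) (Fin n) F) m i = 0) :
    (g : Matrix (Fin n) (Fin n) F) i i = 1 := by
  rcases eq_zero_or_one hF ((g : Matrix (Fin n) (Fin n) F) i i) with h0 | h1
  · exfalso
    have hd : (g : Matrix (Fin n) (Fin n) F).det = 0 := by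
      apply Matrix.det_eq_zero_of_column_eq_zero i
      intro m
      by_cases hm : m = i
      · rw [hm]; exact h0
      · exact h m hm
    rw [g.2] at hd
    exact one_ne_zero hd
  · exact h1

theorem mem_centralizer_iff {i j : Fin n} {t : SpecialLinearGroup (Fin n) F}
    (ht : (t : Matrix (Fin n) (Fin n) F) = Matrix.transvection i j 1)
    (g : SpecialLinearGroup (Fin n) F) :
    g ∈ Subgroup.centralizer ({t} : Set (SpecialLinearGroup (Fin n) F)) ↔
      Commute (Matrix.single i j (1 : F)) (g : Matrix (Fin n) (Fin n) F) := by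
  rw [Subgroup.mem_centralizer_singleton_iff]
  constructor
  · intro h
    have h1 : ((g * t : SpecialLinearGroup (Fin n) F) : Matrix (Fin n) (Fin n) F)
        = ((t * g : SpecialLinearGroup (Fin n) F) : Matrix (Fin n) (Fin n) F) := by rw [h]
    rw [Matrix.SpecialLinearGroup.coe_mul, Matrix.SpecialLinearGroup.coe_mul, ht, Matrix.transvection,
      mul_add, add_mul, mul_one, one_mul] at h1
    exact (add_left_cancel h1).symm
  · intro h
    apply Subtype.ext
    rw [Matrix.SpecialLinearGroup.coe_mul, Matrix.SpecialLinearGroup.coe_mul, ht, Matrix.transvection,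
      mul_add, add_mul, mul_one, one_mul, h.eq]

theorem mul_self_eq_one (hF : Fintype.card F = 2) {i : Fin n}
    {g : SpecialLinearGroup (Fin n) F} (hg : g ∈ R0 F i) : g * g = 1 := by
  have hii : (g : Matrix (Fin n) (Fin n) F) i i = 1 :=
    diag_eq_one hF g (fun m hm => by rw [hg m i hm, Matrix.one_apply_ne hm])
  apply Subtype.ext
  rw [Matrix.SpecialLinearGroup.coe_mul, Matrix.SpecialLinearGroup.coe_one]
  ext m k
  by_cases hm : m = i
  · rw [hm, Matrix.mul_apply]
    by_cases hk : k = i
    · rw [hk, Finset.sum_eq_single i]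
      · rw [hii, mul_one, Matrix.one_apply_eq]
      · intro l _ hl
        rw [hg l i hl, Matrix.one_apply_ne hl, mul_zero]
      · intro h
        exact absurd (Finset.mem_univ _) h
    · rw [Matrix.one_apply_ne (Ne.symm hk)]
      refine (Finset.sum_eq_add i k (Ne.symm hk) ?_ ?_ ?_).trans ?_
      · intro l _ hl
        rw [hg l k hl.1, Matrix.one_apply_ne hl.2, mul_zero]
      · intro h
        exact absurd (Finset.mem_univ _) h
      · intro h
        exact absurd (Finset.mem_univ _) h
      · rw [hii, one_mul, hg k k hk, Matrix.one_apply_eq, mul_one]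
        exact add_self_eq_zero' hF _
  · rw [mul_apply_of_row hg _ hm k]
    exact hg m k hm

theorem R0_le_centralizer (hF : Fintype.card F = 2) {i j : Fin n} (hij : i ≠ j)
    {t : SpecialLinearGroup (Fin n) F}
    (ht : (t : Matrix (Fin n) (Fin n) F) = Matrix.transvection i j 1) :
    R0 F i ≤ Subgroup.centralizer ({t} : Set (SpecialLinearGroup (Fin n) F)) := by
  intro g hg
  rw [mem_centralizer_iff ht]
  have hii : (g : Matrix (Fin n) (Fin n) F) i i = 1 :=
    diag_eq_one hF g (fun m hm => by rw [hg m i hm, Matrix.one_apply_ne hm])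
  have hji : j ≠ i := Ne.symm hij
  ext m k
  by_cases hm : m = i
  · rw [hm, Matrix.single_mul_apply_same, one_mul, hg j k hji]
    by_cases hk : k = j
    · rw [hk, Matrix.mul_single_apply_same, hii, mul_one, Matrix.one_apply_eq]
    · rw [Matrix.mul_single_apply_of_ne (hbj := hk), Matrix.one_apply_ne (Ne.symm hk)]
  · rw [Matrix.single_mul_apply_of_ne (h := hm)]
    by_cases hk : k = j
    · rw [hk, Matrix.mul_single_apply_same, hg m i hm, Matrix.one_apply_ne hm, zero_mul]
    · rw [Matrix.mul_single_apply_of_ne (hbj := hk)]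

theorem conj_mem_R0 {i j : Fin n}
    {c g : SpecialLinearGroup (Fin n) F}
    (hc : Commute (Matrix.single i j (1 : F)) (c : Matrix (Fin n) (Fin n) F))
    (hg : g ∈ R0 F i) : c * g * c⁻¹ ∈ R0 F i := by
  intro m k hm
  have h1 : ∀ l, ((c : Matrix (Fin n) (Fin n) F) * (g : Matrix (Fin n) (Fin n) F)) m l
      = (c : Matrix (Fin n) (Fin n) F) m l := by
    intro l
    have h2 : ((c : Matrix (Fin n) (Fin n) F) * (g : Matrix (Fin n) (Fin n) F)) m l
        = ((c : Matrix (Fin n) (Fin n) F) * (1 : Matrix (Fin n) (Fin n) F)) m l := by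
      rw [Matrix.mul_apply, Matrix.mul_apply]
      apply Finset.sum_congr rfl
      intro l' _
      by_cases hl' : l' = i
      · rw [hl', Matrix.col_eq_zero_of_commute_single hc hm, zero_mul, zero_mul]
      · rw [hg l' l hl']
    rw [h2, mul_one]
  rw [Matrix.SpecialLinearGroup.coe_mul, Matrix.SpecialLinearGroup.coe_mul, Matrix.mul_apply]
  have h3 : ∑ l, ((c : Matrix (Fin n) (Fin n) F) * (g : Matrix (Fin n) (Fin n) F)) m l
      * ((c⁻¹ : SpecialLinearGroup (Fin n) F) : Matrix (Fin n) (Fin n) F) l k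
      = ((c : Matrix (Fin n) (Fin n) F)
        * ((c⁻¹ : SpecialLinearGroup (Fin n) F) : Matrix (Fin n) (Fin n) F)) m k := by
    rw [Matrix.mul_apply]
    apply Finset.sum_congr rfl
    intro l _
    rw [h1 l]
  rw [h3, ← Matrix.SpecialLinearGroup.coe_mul, mul_inv_cancel, Matrix.SpecialLinearGroup.coe_one]

theorem centralizer_le_normalizer_R0 {i j : Fin n}
    {t : SpecialLinearGroup (Fin n) F}
    (ht : (t : Matrix (Fin n) (Fin n) F) = Matrix.transvection i j 1) :
    Subgroup.centralizer ({t} : Set (SpecialLinearGroup (Fin n) F)) ≤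
      Subgroup.normalizer (R0 F i : Set (SpecialLinearGroup (Fin n) F)) := by
  intro c hc
  have hc' : c⁻¹ ∈ Subgroup.centralizer ({t} : Set (SpecialLinearGroup (Fin n) F)) :=
    inv_mem hc
  rw [mem_centralizer_iff ht] at hc hc'
  rw [Subgroup.mem_normalizer_iff]
  intro g
  constructor
  · intro hg
    exact conj_mem_R0 hc hg
  · intro hg
    have := conj_mem_R0 hc' hg
    rwa [inv_inv, show c⁻¹ * (c * g * c⁻¹) * c = g by group] at this

/-- The transvection `1 + E_{ik}` as an element of `SL`. -/
def tv (F : Type*) [Field F] [Fintype F] [DecidableEq F] {n : ℕ} (i k : Fin n) (hik : i ≠ k) :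
    SpecialLinearGroup (Fin n) F :=
  ⟨Matrix.transvection i k 1, Matrix.det_transvection_of_ne i k hik 1⟩

theorem tv_mem_R0 {i k : Fin n} (hik : i ≠ k) : tv F i k hik ∈ R0 F i := by
  intro m l hm
  show (Matrix.transvection i k (1 : F)) m l = _
  rw [Matrix.transvection, Matrix.add_apply, Matrix.single_apply_of_row_ne (Ne.symm hm), add_zero]

theorem centralizer_R0_le (hF : Fintype.card F = 2) {i j : Fin n}
    {t : SpecialLinearGroup (Fin n) F}
    (ht : (t : Matrix (Fin n) (Fin n) F) = Matrix.transvection i j 1)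
    {c : SpecialLinearGroup (Fin n) F}
    (hc : c ∈ Subgroup.centralizer ({t} : Set (SpecialLinearGroup (Fin n) F)))
    (hcR : ∀ g ∈ R0 F i, g * c = c * g) : c ∈ R0 F i := by
  rw [mem_centralizer_iff ht] at hc
  have hii : (c : Matrix (Fin n) (Fin n) F) i i = 1 :=
    diag_eq_one hF c (fun m hm => Matrix.col_eq_zero_of_commute_single hc hm)
  intro m k hm
  have hT : c ∈ Subgroup.centralizer
      ({tv F i m (Ne.symm hm)} : Set (SpecialLinearGroup (Fin n) F)) := by
    rw [Subgroup.mem_centralizer_singleton_iff]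
    exact (hcR _ (tv_mem_R0 (Ne.symm hm))).symm
  rw [mem_centralizer_iff (i := i) (j := m) (t := tv F i m (Ne.symm hm)) rfl] at hT
  by_cases hk : k = m
  · rw [hk, ← Matrix.diag_eq_of_commute_single hT, hii, Matrix.one_apply_eq]
  · rw [Matrix.row_eq_zero_of_commute_single hT hk, Matrix.one_apply_ne (Ne.symm hk)]

end Cfsg.Agent.Lib.Helper8.TransvCent
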