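import Mathlib
import Cfsg.Prelude
import Cfsg.Agent.Lib.Helper8.UM5

set_option autoImplicit false
set_option linter.unusedVariables false
set_option linter.unusedSectionVars false
set_option linter.style.longLine false

/-! The rank lemma for monomial matrices and the `(K)` lemma. -/

namespace Cfsg.Agent.Lib.Helper8.UM

open Matrix Cfsg.Agent.Lib.Helper5 Cfsg.Agent.Lib.Helper5.Herm
open scoped Classical

variable {F : Type*} [Field F] [Fintype F] {q : ℕ} (hF : Fintype.card F = q ^ 2) {n : ℕ}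

theorem sub_one_mulVec_ev (M : Matrix (Fin n) (Fin n) F) (c : F) (x i : Fin n) :
    ((M - c • (1 : Matrix (Fin n) (Fin n) F)) *ᵥ (ev x : Fin n → F)) i =
      M i x - if i = x then c else 0 := by
  rw [mulVec_ev]
  show (M - c • (1 : Matrix (Fin n) (Fin n) F)) i x = _
  rw [Matrix.sub_apply, Matrix.smul_apply, Matrix.one_apply, smul_eq_mul]
  split_ifs <;> simp

/-- rank lemma: a monomial matrix `M` such that `(M - c) e_x` is a non-zero vector of a
`d`-dimensional subspace for all `x ∈ S` has `|S| ≤ 2 d` -/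
theorem rk_bound {M B : Matrix (Fin n) (Fin n) F} (hM : Mono.IsMono M) (hBM : B * M = 1) (c : F)
    (hc : c ≠ 0) :
    ∀ (d : ℕ) (U : Submodule F (Fin n → F)), Module.finrank F U ≤ d → ∀ S : Finset (Fin n),
      (∀ x ∈ S, (M - c • (1 : Matrix (Fin n) (Fin n) F)) *ᵥ (ev x : Fin n → F) ∈ U ∧
        (M - c • (1 : Matrix (Fin n) (Fin n) F)) *ᵥ (ev x : Fin n → F) ≠ 0) →
      S.card ≤ 2 * d := by
  obtain ⟨σ, hσ0, hσ1, -, -⟩ := Mono.exists_perm hM hBM
  have factA : ∀ x, (M - c • (1 : Matrix (Fin n) (Fin n) F)) *ᵥ (ev x : Fin n → F) ≠ 0 →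
      ((M - c • (1 : Matrix (Fin n) (Fin n) F)) *ᵥ (ev x : Fin n → F)) x ≠ 0 := by
    intro x hx
    rw [sub_one_mulVec_ev, if_pos rfl]
    by_cases hsx : σ x = x
    · intro h0
      apply hx
      ext i
      rw [sub_one_mulVec_ev]
      by_cases hix : i = x
      · subst hix
        rw [if_pos rfl]
        exact h0
      · rw [if_neg hix, hσ0 i x (by rw [hsx]; exact hix)]
        simp
    · rw [hσ0 x x (fun h => hsx h.symm)]
      simpa using hc
  have factB : ∀ x x₀, x ≠ x₀ →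
      ((M - c • (1 : Matrix (Fin n) (Fin n) F)) *ᵥ (ev x : Fin n → F)) x₀ ≠ 0 → x = σ⁻¹ x₀ := by
    intro x x₀ hxx h
    rw [sub_one_mulVec_ev, if_neg (Ne.symm hxx), sub_zero] at h
    have : x₀ = σ x := by
      by_contra hne
      exact h (hσ0 x₀ x hne)
    rw [this]
    simp
  intro d
  induction d with
  | zero =>
    intro U hU S hS
    have hU0 : U = ⊥ := by
      apply Submodule.finrank_eq_zero.mp
      omega
    have : S = ∅ := by
      apply Finset.eq_empty_of_forall_notMem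
      intro x hx
      have := hS x hx
      rw [hU0, Submodule.mem_bot] at this
      exact this.2 this.1
    rw [this]
    simp
  | succ d ih =>
    intro U hU S hS
    by_cases hSe : S = ∅
    · rw [hSe]; simp
    obtain ⟨x₀, hx₀⟩ := Finset.nonempty_iff_ne_empty.mpr hSe
    set U' : Submodule F (Fin n → F) :=
      U ⊓ LinearMap.ker (LinearMap.proj x₀ : (Fin n → F) →ₗ[F] F) with hU'
    have hlt : U' < U := by
      refine lt_of_le_of_ne inf_le_left ?_
      intro heq
      have h1 := (hS x₀ hx₀).1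
      rw [← heq, hU', Submodule.mem_inf, LinearMap.mem_ker] at h1
      exact factA x₀ (hS x₀ hx₀).2 h1.2
    have hfr : Module.finrank F U' ≤ d := by
      have := Submodule.finrank_lt_finrank_of_lt hlt
      omega
    set S' := S.filter (fun x =>
      ((M - c • (1 : Matrix (Fin n) (Fin n) F)) *ᵥ (ev x : Fin n → F)) x₀ = 0) with hS'
    have hS'prop : ∀ x ∈ S', (M - c • (1 : Matrix (Fin n) (Fin n) F)) *ᵥ (ev x : Fin n → F) ∈ U' ∧
        (M - c • (1 : Matrix (Fin n) (Fin n) F)) *ᵥ (ev x : Fin n → F) ≠ 0 := by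
      intro x hx
      rw [hS', Finset.mem_filter] at hx
      refine ⟨?_, (hS x hx.1).2⟩
      rw [hU', Submodule.mem_inf, LinearMap.mem_ker]
      exact ⟨(hS x hx.1).1, hx.2⟩
    have hih := ih U' hfr S' hS'prop
    have hsub : S ⊆ S' ∪ {x₀, σ⁻¹ x₀} := by
      intro x hx
      rw [Finset.mem_union, Finset.mem_insert, Finset.mem_singleton]
      by_cases hxx : x = x₀
      · right; left; exact hxx
      · by_cases h0 : ((M - c • (1 : Matrix (Fin n) (Fin n) F)) *ᵥ (ev x : Fin n → F)) x₀ = 0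
        · left
          rw [hS', Finset.mem_filter]
          exact ⟨hx, h0⟩
        · right; right
          exact factB x x₀ hxx h0
    have h1 := Finset.card_le_card hsub
    have h2 := Finset.card_union_le S' {x₀, σ⁻¹ x₀}
    have h3 : ({x₀, σ⁻¹ x₀} : Finset (Fin n)).card ≤ 2 := Finset.card_le_two
    omega

include hF in
/-- entries of a conjugate of a diagonal matrix -/
theorem conj_dgm_apply {g : GL (Fin n) F} (hg : g ∈ Cfsg.GU n F q) (τ : Fin n → F)
    (hτ : ∀ i, τ i ^ (q + 1) = 1) (y x : Fin n) :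
    ((g⁻¹ * dgm τ hτ * g : GL (Fin n) F) : Matrix (Fin n) (Fin n) F) y x =
      ∑ k, ((g : Matrix (Fin n) (Fin n) F) k y) ^ q * τ k * (g : Matrix (Fin n) (Fin n) F) k x := by
  rw [Units.val_mul, Units.val_mul, Matrix.mul_assoc, Matrix.mul_apply]
  refine Finset.sum_congr rfl fun k _ => ?_
  rw [GU_inv_apply hF hg, Matrix.mul_apply, Finset.sum_eq_single k]
  · rw [dgm_apply, if_pos rfl]
    ring
  · intro b _ hb
    rw [dgm_apply, if_neg (Ne.symm hb), zero_mul]
  · intro h
    exact absurd (Finset.mem_univ _) h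

include hF in
/-- the `(K)` lemma -/
theorem K_lemma {g : GL (Fin n) F} (hg : g ∈ Cfsg.GU n F q) (τ : Fin n → F)
    (hτ : ∀ i, τ i ^ (q + 1) = 1)
    (hM : Mono.IsMono ((g⁻¹ * dgm τ hτ * g : GL (Fin n) F) : Matrix (Fin n) (Fin n) F))
    (x : Fin n) :
    (∃ c : F, ∀ k, (g : Matrix (Fin n) (Fin n) F) k x ≠ 0 → τ k = c) ∨
      ∑ k, τ k * ((g : Matrix (Fin n) (Fin n) F) k x) ^ (q + 1) = 0 := by
  obtain ⟨i₀, hi₀⟩ := hM x
  by_cases hix : i₀ = x
  · left
    subst hix
    set M := ((g⁻¹ * dgm τ hτ * g : GL (Fin n) F) : Matrix (Fin n) (Fin n) F) with hMdef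
    refine ⟨M i₀ i₀, ?_⟩
    have h1 : M *ᵥ (ev i₀ : Fin n → F) = (M i₀ i₀) • (ev i₀ : Fin n → F) := by
      ext i
      rw [mulVec_ev]
      show M i i₀ = _
      by_cases hi : i = i₀
      · subst hi
        simp
      · rw [hi₀ i hi]
        simp [hi]
    have h2 : ((dgm τ hτ : GL (Fin n) F) : Matrix (Fin n) (Fin n) F) *ᵥ
        ((g : Matrix (Fin n) (Fin n) F) *ᵥ (ev i₀ : Fin n → F)) =
        (M i₀ i₀) • ((g : Matrix (Fin n) (Fin n) F) *ᵥ (ev i₀ : Fin n → F)) := by
      have h3 : (g : Matrix (Fin n) (Fin n) F) *ᵥ (M *ᵥ (ev i₀ : Fin n → F)) =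
          ((dgm τ hτ : GL (Fin n) F) : Matrix (Fin n) (Fin n) F) *ᵥ
            ((g : Matrix (Fin n) (Fin n) F) *ᵥ (ev i₀ : Fin n → F)) := by
        rw [hMdef, Matrix.mulVec_mulVec, Matrix.mulVec_mulVec,
          ← Units.val_mul, ← Units.val_mul]
        congr 2
        group
      rw [← h3, h1, Matrix.mulVec_smul]
    intro k hk
    have h4 := congrFun h2 k
    rw [dgm_mulVec, mulVec_ev] at h4
    simp only [Pi.smul_apply, smul_eq_mul] at h4
    exact mul_right_cancel₀ hk h4
  · right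
    have h1 := hi₀ x (Ne.symm hix)
    rw [conj_dgm_apply hF hg] at h1
    rw [← h1]
    refine Finset.sum_congr rfl fun k _ => ?_
    rw [pow_succ]
    ring

end Cfsg.Agent.Lib.Helper8.UM
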