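import Mathlib
import Cfsg.Prelude
import Cfsg.Agent.Lib.Helper8.UM6

set_option autoImplicit false
set_option linter.unusedVariables false
set_option linter.unusedSectionVars false
set_option linter.style.longLine false

/-! Part II (odd `q`): under `CN`, elements with two zeros in a column are monomial (`q ≥ 4`). -/

namespace Cfsg.Agent.Lib.Helper8.UM

open Matrix Cfsg.Agent.Lib.Helper5 Cfsg.Agent.Lib.Helper5.Herm
open scoped Classical

variable {F : Type*} [Field F] [Fintype F] {q : ℕ} (hF : Fintype.card F = q ^ 2) {n : ℕ}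

/-- every element of `X` with a monomial column is monomial -/
def CN (X : Subgroup (GL (Fin n) F)) : Prop :=
  ∀ g ∈ X, (∃ b b' : Fin n, ∀ i, i ≠ b' → (g : Matrix (Fin n) (Fin n) F) i b = 0) →
    Mono.IsMono (g : Matrix (Fin n) (Fin n) F)

theorem prod_eq_of_off (τ : Fin n → F) (s : Finset (Fin n)) (h : ∀ k, k ∉ s → τ k = 1) :
    ∏ k, τ k = ∏ k ∈ s, τ k :=
  (Finset.prod_subset (Finset.subset_univ s) (fun k _ hk => h k hk)).symm

theorem sum_eq_of_off (τ ν : Fin n → F) (s : Finset (Fin n)) (h : ∀ k, k ∉ s → τ k = 1) :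
    ∑ k, τ k * ν k = ∑ k, ν k + ∑ k ∈ s, (τ k - 1) * ν k := by
  have h1 : ∑ k ∈ s, (τ k - 1) * ν k = ∑ k, (τ k - 1) * ν k :=
    Finset.sum_subset (Finset.subset_univ s) (fun k _ hk => by rw [h k hk, sub_self, zero_mul])
  rw [h1, ← Finset.sum_add_distrib]
  exact Finset.sum_congr rfl fun k _ => by ring

include hF in
/-- three distinct norm-one elements whose squares are not one -/
theorem exists_three_mu (hq : 4 ≤ q) :
    ∃ a b c : F, a ^ (q + 1) = 1 ∧ b ^ (q + 1) = 1 ∧ c ^ (q + 1) = 1 ∧ a ^ 2 ≠ 1 ∧ b ^ 2 ≠ 1 ∧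
      c ^ 2 ≠ 1 ∧ a ≠ b ∧ a ≠ c ∧ b ≠ c := by
  set S := (muF F q).filter (fun x => x ^ 2 ≠ 1) with hS
  have hsub : muF F q ⊆ S ∪ {1, -1} := by
    intro x hx
    rw [Finset.mem_union, Finset.mem_insert, Finset.mem_singleton]
    by_cases h : x ^ 2 = 1
    · right
      exact sq_eq_one_iff.mp h
    · left
      rw [hS, Finset.mem_filter]
      exact ⟨hx, h⟩
  have h1 := Finset.card_le_card hsub
  have h2 := Finset.card_union_le S {1, -1}
  have h3 : ({1, -1} : Finset F).card ≤ 2 := Finset.card_le_two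
  rw [card_muF hF] at h1
  have h4 : 2 < S.card := by omega
  obtain ⟨a, ha, b, hb, c, hc, hab, hac, hbc⟩ := Finset.two_lt_card.mp h4
  rw [hS, Finset.mem_filter, mem_muF] at ha hb hc
  exact ⟨a, b, c, ha.1, hb.1, hc.1, ha.2, hb.2, hc.2, hab, hac, hbc⟩

/-- the diagonal vector `λ` at `k₁`, `λ⁻¹` at `k₂`, one elsewhere -/
noncomputable def d2 (k₁ k₂ : Fin n) (l : F) : Fin n → F :=
  fun k => if k = k₁ then l else if k = k₂ then l⁻¹ else 1

theorem d2_mu (k₁ k₂ : Fin n) {l : F} (hl : l ^ (q + 1) = 1) (k : Fin n) :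
    d2 k₁ k₂ l k ^ (q + 1) = 1 := by
  unfold d2
  split_ifs
  · exact hl
  · exact mu_inv hl
  · exact one_pow _

theorem d2_prod (k₁ k₂ : Fin n) (hk : k₁ ≠ k₂) {l : F} (hl : l ≠ 0) : ∏ k, d2 k₁ k₂ l k = 1 := by
  rw [prod_eq_of_off (d2 k₁ k₂ l) {k₁, k₂}, Finset.prod_pair hk]
  · unfold d2
    rw [if_pos rfl, if_neg (Ne.symm hk), if_pos rfl, mul_inv_cancel₀ hl]
  · intro k hk'
    rw [Finset.mem_insert, Finset.mem_singleton] at hk'
    push Not at hk'
    unfold d2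
    rw [if_neg hk'.1, if_neg hk'.2]

theorem d2_sum (k₁ k₂ : Fin n) (hk : k₁ ≠ k₂) (l : F) (ν : Fin n → F) :
    ∑ k, d2 k₁ k₂ l k * ν k = ∑ k, ν k + ((l - 1) * ν k₁ + (l⁻¹ - 1) * ν k₂) := by
  rw [sum_eq_of_off (d2 k₁ k₂ l) ν {k₁, k₂}, Finset.sum_pair hk]
  · unfold d2
    rw [if_pos rfl, if_neg (Ne.symm hk), if_pos rfl]
  · intro k hk'
    rw [Finset.mem_insert, Finset.mem_singleton] at hk'
    push Not at hk'
    unfold d2
    rw [if_neg hk'.1, if_neg hk'.2]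

include hF in
/-- a diagonal conjugate `g⁻¹ τ g` fixes `e_a` when `τ = 1` on the support of column `a` -/
theorem conj_dgm_col {g : GL (Fin n) F} (hg : g ∈ Cfsg.GU n F q) (τ : Fin n → F)
    (hτ : ∀ i, τ i ^ (q + 1) = 1) (a : Fin n) (c₀ : F)
    (h : ∀ k, (g : Matrix (Fin n) (Fin n) F) k a ≠ 0 → τ k = c₀) (i : Fin n) (hi : i ≠ a) :
    ((g⁻¹ * dgm τ hτ * g : GL (Fin n) F) : Matrix (Fin n) (Fin n) F) i a = 0 := by
  rw [conj_dgm_apply hF hg]
  have h1 := GU_col_orth hF hg a i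
  rw [if_neg (Ne.symm hi)] at h1
  have h2 : ∑ k, ((g : Matrix (Fin n) (Fin n) F) k i) ^ q * τ k * (g : Matrix (Fin n) (Fin n) F) k a =
      c₀ * ∑ k, (g : Matrix (Fin n) (Fin n) F) k a * ((g : Matrix (Fin n) (Fin n) F) k i) ^ q := by
    rw [Finset.mul_sum]
    refine Finset.sum_congr rfl fun k _ => ?_
    by_cases hk : (g : Matrix (Fin n) (Fin n) F) k a = 0
    · rw [hk]; ring
    · rw [h k hk]; ring
  rw [h2, h1, mul_zero]

include hF in
/-- every row of a unitary matrix is non-zero -/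
theorem exists_row_ne {g : GL (Fin n) F} (hg : g ∈ Cfsg.GU n F q) (k : Fin n) :
    ∃ x, (g : Matrix (Fin n) (Fin n) F) k x ≠ 0 := by
  by_contra hcon
  push Not at hcon
  have h1 := GU_row_orth hF hg k k
  rw [if_pos rfl] at h1
  have : ∑ x, (g : Matrix (Fin n) (Fin n) F) k x * ((g : Matrix (Fin n) (Fin n) F) k x) ^ q = 0 :=
    Finset.sum_eq_zero fun x _ => by rw [hcon x, zero_mul]
  rw [this] at h1
  exact zero_ne_one h1

include hF in
theorem col_norm {g : GL (Fin n) F} (hg : g ∈ Cfsg.GU n F q) (x : Fin n) :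
    ∑ k, ((g : Matrix (Fin n) (Fin n) F) k x) ^ (q + 1) = 1 := by
  have h1 := GU_col_orth hF hg x x
  rw [if_pos rfl] at h1
  rw [← h1]
  exact Finset.sum_congr rfl fun k _ => by rw [pow_succ]; ring

include hF in
/-- `(I-2)`: under `CN`, for `q ≥ 4`, an element of `X` with two zeros in a column is monomial -/
theorem I_two (hq : 4 ≤ q) {X : Subgroup (GL (Fin n) F)} (hX : Ctx n F q X) (hCN : CN X)
    {g : GL (Fin n) F} (hg : g ∈ X) (a k₁ k₂ : Fin n) (hk : k₁ ≠ k₂)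
    (h1 : (g : Matrix (Fin n) (Fin n) F) k₁ a = 0) (h2 : (g : Matrix (Fin n) (Fin n) F) k₂ a = 0) :
    Mono.IsMono (g : Matrix (Fin n) (Fin n) F) := by
  have hgU : g ∈ Cfsg.GU n F q := (hX.le hg).1
  obtain ⟨x, hx⟩ := exists_row_ne hF hgU k₁
  apply hCN g hg
  refine ⟨x, k₁, ?_⟩
  by_contra hcon
  push Not at hcon
  obtain ⟨k', hk', hk'x⟩ := hcon
  set ν : Fin n → F := fun k => ((g : Matrix (Fin n) (Fin n) F) k x) ^ (q + 1) with hν
  have hνsum : ∑ k, ν k = 1 := col_norm hF hgU x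
  -- the quadratic
  have key : ∀ l : F, l ^ (q + 1) = 1 → l ^ 2 ≠ 1 →
      ν k₁ * l ^ 2 + (1 - ν k₁ - ν k₂) * l + ν k₂ = 0 := by
    intro l hl hl2
    have hl0 : l ≠ 0 := mu_ne_zero hl
    have hτ : ∀ i, d2 k₁ k₂ l i ^ (q + 1) = 1 := d2_mu k₁ k₂ hl
    have hmem : g⁻¹ * dgm (d2 k₁ k₂ l) hτ * g ∈ X :=
      X.mul_mem (X.mul_mem (X.inv_mem hg) (dgm_mem hF hX _ hτ (d2_prod k₁ k₂ hk hl0))) hg
    have hmono : Mono.IsMono ((g⁻¹ * dgm (d2 k₁ k₂ l) hτ * g : GL (Fin n) F) :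
        Matrix (Fin n) (Fin n) F) := by
      apply hCN _ hmem
      refine ⟨a, a, fun i hi => conj_dgm_col hF hgU _ hτ a 1 ?_ i hi⟩
      intro k hka
      unfold d2
      rw [if_neg (fun h : k = k₁ => hka (by rw [h]; exact h1)),
        if_neg (fun h : k = k₂ => hka (by rw [h]; exact h2))]
    rcases K_lemma hF hgU _ hτ hmono x with ⟨c, hc⟩ | hsum
    · exfalso
      have e1 := hc k₁ hx
      have e2 := hc k' hk'x
      unfold d2 at e1 e2
      rw [if_pos rfl] at e1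
      rw [if_neg hk'] at e2
      by_cases hk2 : k' = k₂
      · rw [if_pos hk2] at e2
        apply hl2
        have : l = l⁻¹ := e1.trans e2.symm
        field_simp at this
        exact this
      · rw [if_neg hk2] at e2
        apply hl2
        rw [e1, ← e2, one_pow]
    · have h3 := d2_sum k₁ k₂ hk l ν
      rw [hνsum] at h3
      have h4 : ∑ k, d2 k₁ k₂ l k * ν k = 0 := hsum
      rw [h4] at h3
      field_simp at h3
      linear_combination -h3
  obtain ⟨l₁, l₂, l₃, hl₁, hl₂, hl₃, hs₁, hs₂, hs₃, h12, h13, h23⟩ := exists_three_mu hF hq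
  have h0 := three_roots h12 h13 h23 (key l₁ hl₁ hs₁) (key l₂ hl₂ hs₂) (key l₃ hl₃ hs₃)
  exact hx (pow_eq_zero_iff (Nat.succ_ne_zero q) |>.mp h0)

end Cfsg.Agent.Lib.Helper8.UM
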