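import Mathlib
import Cfsg.Prelude
import Cfsg.Agent.Lib.Helper8.UM7

set_option autoImplicit false
set_option linter.unusedVariables false
set_option linter.unusedSectionVars false
set_option linter.style.longLine false

/-! Part II (odd `q`): the case `q = 3` of `(I)`, and the row/column forms. -/

namespace Cfsg.Agent.Lib.Helper8.UM

open Matrix Cfsg.Agent.Lib.Helper5 Cfsg.Agent.Lib.Helper5.Herm
open scoped Classical

variable {F : Type*} [Field F] [Fintype F] {q : ℕ} (hF : Fintype.card F = q ^ 2) {n : ℕ}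

/-- diagonal vector with three prescribed entries -/
noncomputable def d3 (k₁ k₂ k₃ : Fin n) (s₁ s₂ s₃ : F) : Fin n → F :=
  fun k => if k = k₁ then s₁ else if k = k₂ then s₂ else if k = k₃ then s₃ else 1

theorem d3_mu (k₁ k₂ k₃ : Fin n) {s₁ s₂ s₃ : F} (h1 : s₁ ^ (q + 1) = 1) (h2 : s₂ ^ (q + 1) = 1)
    (h3 : s₃ ^ (q + 1) = 1) (k : Fin n) : d3 k₁ k₂ k₃ s₁ s₂ s₃ k ^ (q + 1) = 1 := by
  unfold d3
  split_ifs
  · exact h1
  · exact h2
  · exact h3
  · exact one_pow _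

theorem d3_off (k₁ k₂ k₃ : Fin n) (s₁ s₂ s₃ : F) (k : Fin n)
    (hk : k ∉ ({k₁, k₂, k₃} : Finset (Fin n))) : d3 k₁ k₂ k₃ s₁ s₂ s₃ k = 1 := by
  simp only [Finset.mem_insert, Finset.mem_singleton, not_or] at hk
  unfold d3
  rw [if_neg hk.1, if_neg hk.2.1, if_neg hk.2.2]

theorem d3_prod (k₁ k₂ k₃ : Fin n) (h12 : k₁ ≠ k₂) (h13 : k₁ ≠ k₃) (h23 : k₂ ≠ k₃) (s₁ s₂ s₃ : F) :
    ∏ k, d3 k₁ k₂ k₃ s₁ s₂ s₃ k = s₁ * s₂ * s₃ := by
  rw [prod_eq_of_off _ {k₁, k₂, k₃} (d3_off k₁ k₂ k₃ s₁ s₂ s₃),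
    Finset.prod_insert (by simp [h12, h13]), Finset.prod_pair h23]
  unfold d3
  rw [if_pos rfl, if_neg (Ne.symm h12), if_pos rfl, if_neg (Ne.symm h13), if_neg (Ne.symm h23),
    if_pos rfl]
  ring

theorem d3_sum (k₁ k₂ k₃ : Fin n) (h12 : k₁ ≠ k₂) (h13 : k₁ ≠ k₃) (h23 : k₂ ≠ k₃) (s₁ s₂ s₃ : F)
    (ν : Fin n → F) :
    ∑ k, d3 k₁ k₂ k₃ s₁ s₂ s₃ k * ν k =
      ∑ k, ν k + ((s₁ - 1) * ν k₁ + (s₂ - 1) * ν k₂ + (s₃ - 1) * ν k₃) := by
  rw [sum_eq_of_off _ ν {k₁, k₂, k₃} (d3_off k₁ k₂ k₃ s₁ s₂ s₃),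
    Finset.sum_insert (by simp [h12, h13]), Finset.sum_pair h23]
  unfold d3
  rw [if_pos rfl, if_neg (Ne.symm h12), if_pos rfl, if_neg (Ne.symm h13), if_neg (Ne.symm h23),
    if_pos rfl]
  ring

include hF in
theorem three_eq_zero (hq : q = 3) : (3 : F) = 0 := by
  obtain ⟨p, j, hp, hcp, hqp⟩ := exists_char_pow hF
  have hj : j ≠ 0 := by
    rintro rfl
    rw [pow_zero] at hqp
    omega
  have hp3 : p = 3 := by
    have hdvd : p ∣ 3 := by
      rw [← hq, hqp]
      exact dvd_pow_self p hj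
    exact (Nat.prime_dvd_prime_iff_eq hp Nat.prime_three).mp hdvd
  subst hp3
  have := CharP.cast_eq_zero F 3
  exact_mod_cast this

include hF in
/-- `(I-3)`: under `CN`, for `q = 3`, an element of `X` with three zeros in a column is monomial -/
theorem I_three (hq : q = 3) {X : Subgroup (GL (Fin n) F)} (hX : Ctx n F q X) (hCN : CN X)
    {g : GL (Fin n) F} (hg : g ∈ X) (a k₁ k₂ k₃ : Fin n) (h12 : k₁ ≠ k₂) (h13 : k₁ ≠ k₃)
    (h23 : k₂ ≠ k₃) (h1 : (g : Matrix (Fin n) (Fin n) F) k₁ a = 0)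
    (h2 : (g : Matrix (Fin n) (Fin n) F) k₂ a = 0) (h3 : (g : Matrix (Fin n) (Fin n) F) k₃ a = 0) :
    Mono.IsMono (g : Matrix (Fin n) (Fin n) F) := by
  have hgU : g ∈ Cfsg.GU n F q := (hX.le hg).1
  have hc3 := three_eq_zero hF hq
  obtain ⟨i, hi4, hi2⟩ := HermCenter.exists_norm_one_sq_ne hF
  have hi0 : i ≠ 0 := mu_ne_zero hi4
  have hisq : i ^ 2 = -1 := by
    have h4 : i ^ 4 = 1 := by rw [hq] at hi4; exact hi4
    have h5 : (i ^ 2 - 1) * (i ^ 2 + 1) = 0 := by linear_combination h4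
    rcases mul_eq_zero.mp h5 with h6 | h6
    · exact absurd (sub_eq_zero.mp h6) hi2
    · linear_combination h6
  have hiinv : i⁻¹ = -i := by
    apply inv_eq_of_mul_eq_one_right
    linear_combination -hisq
  have hi1 : i ≠ 1 := by
    rintro rfl
    exact hi2 (one_pow _)
  have hineg : i ≠ -1 := by
    rintro rfl
    apply hi2
    ring
  obtain ⟨x, hx⟩ := exists_row_ne hF hgU k₁
  apply hCN g hg
  refine ⟨x, k₁, ?_⟩
  by_contra hcon
  push Not at hcon
  obtain ⟨k', hk', hk'x⟩ := hcon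
  set ν : Fin n → F := fun k => ((g : Matrix (Fin n) (Fin n) F) k x) ^ (q + 1) with hν
  have hνsum : ∑ k, ν k = 1 := col_norm hF hgU x
  have hνq : ∀ k, ν k ^ q = ν k := fun k => SUCentres.pow_q_norm hF _
  have hν1 : ν k₁ ≠ 0 := pow_ne_zero _ hx
  -- the `(K)` alternative for a three-entry diagonal element
  have key : ∀ s₁ s₂ s₃ : F, s₁ ^ (q + 1) = 1 → s₂ ^ (q + 1) = 1 → s₃ ^ (q + 1) = 1 →
      s₁ * s₂ * s₃ = 1 →
      (∃ c : F, ∀ k, (g : Matrix (Fin n) (Fin n) F) k x ≠ 0 → d3 k₁ k₂ k₃ s₁ s₂ s₃ k = c) ∨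
        1 + ((s₁ - 1) * ν k₁ + (s₂ - 1) * ν k₂ + (s₃ - 1) * ν k₃) = 0 := by
    intro s₁ s₂ s₃ hs1 hs2 hs3 hprod
    have hτ : ∀ j, d3 k₁ k₂ k₃ s₁ s₂ s₃ j ^ (q + 1) = 1 := d3_mu k₁ k₂ k₃ hs1 hs2 hs3
    have hmem : g⁻¹ * dgm (d3 k₁ k₂ k₃ s₁ s₂ s₃) hτ * g ∈ X :=
      X.mul_mem (X.mul_mem (X.inv_mem hg) (dgm_mem hF hX _ hτ
        (by rw [d3_prod k₁ k₂ k₃ h12 h13 h23]; exact hprod))) hg
    have hmono : Mono.IsMono ((g⁻¹ * dgm (d3 k₁ k₂ k₃ s₁ s₂ s₃) hτ * g : GL (Fin n) F) :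
        Matrix (Fin n) (Fin n) F) := by
      apply hCN _ hmem
      refine ⟨a, a, fun j hj => conj_dgm_col hF hgU _ hτ a 1 ?_ j hj⟩
      intro k hka
      unfold d3
      rw [if_neg (fun h : k = k₁ => hka (by rw [h]; exact h1)),
        if_neg (fun h : k = k₂ => hka (by rw [h]; exact h2)),
        if_neg (fun h : k = k₃ => hka (by rw [h]; exact h3))]
    rcases K_lemma hF hgU _ hτ hmono x with hc | hsum
    · left; exact hc
    · right
      have h4 := d3_sum k₁ k₂ k₃ h12 h13 h23 s₁ s₂ s₃ ν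
      rw [hνsum] at h4
      rw [← h4]
      exact hsum
  have hiinv4 : (i⁻¹) ^ (q + 1) = 1 := mu_inv hi4
  -- first element: (i, i⁻¹, 1)
  have E1 : 1 + ((i - 1) * ν k₁ + (i⁻¹ - 1) * ν k₂ + (1 - 1) * ν k₃) = 0 := by
    rcases key i i⁻¹ 1 hi4 hiinv4 (one_pow _) (by field_simp) with ⟨c, hc⟩ | h
    · exfalso
      have e1 := hc k₁ hx
      have e2 := hc k' hk'x
      unfold d3 at e1 e2
      rw [if_pos rfl] at e1
      rw [if_neg hk'] at e2
      by_cases hk2 : k' = k₂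
      · rw [if_pos hk2] at e2
        have : i = i⁻¹ := e1.trans e2.symm
        rw [hiinv] at this
        have h2i : (2 : F) * i = 0 := by linear_combination this
        have h3i : (3 : F) * i = 0 := by rw [hc3, zero_mul]
        exact hi0 (by linear_combination h3i - h2i)
      · rw [if_neg hk2] at e2
        have : (if k' = k₃ then (1 : F) else 1) = 1 := by split_ifs <;> rfl
        rw [this] at e2
        exact hi1 (e1.trans e2.symm)
    · exact h
  have E2 : 1 + ((i - 1) * ν k₁ + (1 - 1) * ν k₂ + (i⁻¹ - 1) * ν k₃) = 0 := by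
    rcases key i 1 i⁻¹ hi4 (one_pow _) hiinv4 (by field_simp) with ⟨c, hc⟩ | h
    · exfalso
      have e1 := hc k₁ hx
      have e2 := hc k' hk'x
      unfold d3 at e1 e2
      rw [if_pos rfl] at e1
      rw [if_neg hk'] at e2
      by_cases hk2 : k' = k₂
      · rw [if_pos hk2] at e2
        exact hi1 (e1.trans e2.symm)
      · rw [if_neg hk2] at e2
        by_cases hk3 : k' = k₃
        · rw [if_pos hk3] at e2
          have : i = i⁻¹ := e1.trans e2.symm
          rw [hiinv] at this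
          have h2i : (2 : F) * i = 0 := by linear_combination this
          have h3i : (3 : F) * i = 0 := by rw [hc3, zero_mul]
          exact hi0 (by linear_combination h3i - h2i)
        · rw [if_neg hk3] at e2
          exact hi1 (e1.trans e2.symm)
    · exact h
  -- conjugate equations
  have hiq : i ^ q = -i := by rw [mu_conj hi4, hiinv]
  have E1' : 1 + ((-i - 1) * ν k₁ + (i - 1) * ν k₂) = 0 := by
    have := congrArg (· ^ q) E1
    rw [zero_pow (q_ne_zero hF), pow_q_add hF, pow_q_add hF, pow_q_add hF, one_pow, mul_pow,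
      mul_pow, mul_pow, hνq, hνq, hνq, pow_q_sub hF, pow_q_sub hF, pow_q_sub hF, one_pow, hiq,
      hiinv, pow_q_neg hF, hiq] at this
    linear_combination this
  rw [hiinv] at E1 E2
  have hν12 : ν k₁ = ν k₂ := by
    have h5 : (2 * i) * (ν k₁ - ν k₂) = 0 := by linear_combination E1 - E1'
    have h2i : (2 : F) * i ≠ 0 := by
      intro h2i
      have h3i : (3 : F) * i = 0 := by rw [hc3, zero_mul]
      exact hi0 (by linear_combination h3i - h2i)
    exact sub_eq_zero.mp ((mul_eq_zero.mp h5).resolve_left h2i)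
  have hν1v : ν k₁ = -1 := by
    have h6 : 1 - 2 * ν k₁ = 0 := by
      rw [← hν12] at E1
      linear_combination E1
    linear_combination h6 + hc3 * ν k₁
  have hν2v : ν k₂ = -1 := hν12 ▸ hν1v
  have hν3v : ν k₃ = -1 := by
    have h7 : (i + 1) * (ν k₂ - ν k₃) = 0 := by linear_combination E2 - E1
    have hi1' : i + 1 ≠ 0 := fun h => hineg (by linear_combination h)
    have := sub_eq_zero.mp ((mul_eq_zero.mp h7).resolve_left hi1')
    rw [← this]
    exact hν2v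
  -- third element: (i, i, -1)
  have hneg1 : (-1 : F) ^ (q + 1) = 1 := by
    rw [hq]
    norm_num
  rcases key i i (-1) hi4 hi4 hneg1 (by linear_combination -hisq) with ⟨c, hc⟩ | h
  · have e1 := hc k₁ hx
    have hk3x : (g : Matrix (Fin n) (Fin n) F) k₃ x ≠ 0 := by
      intro h0
      have : ν k₃ = 0 := by
        rw [hν]
        simp only
        rw [h0, zero_pow (Nat.succ_ne_zero q)]
      rw [hν3v] at this
      exact one_ne_zero (by linear_combination -this)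
    have e3 := hc k₃ hk3x
    unfold d3 at e1 e3
    rw [if_pos rfl] at e1
    rw [if_neg (Ne.symm h13), if_neg (Ne.symm h23), if_pos rfl] at e3
    exact hineg (e1.trans e3.symm)
  · rw [hν1v, hν2v, hν3v] at h
    apply hi1
    linear_combination h + (i - 2) * hc3

end Cfsg.Agent.Lib.Helper8.UM
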