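import Mathlib
import Cfsg.Prelude
import Cfsg.Agent.Lib.Helper8.UM8

set_option autoImplicit false
set_option linter.unusedVariables false
set_option linter.unusedSectionVars false
set_option linter.style.longLine false

/-! Part II (odd `q`): column/row forms of `(I)`, conjugation lemmas, case `(G)`. -/

namespace Cfsg.Agent.Lib.Helper8.UM

open Matrix Cfsg.Agent.Lib.Helper5 Cfsg.Agent.Lib.Helper5.Herm
open scoped Classical

variable {F : Type*} [Field F] [Fintype F] {q : ℕ} (hF : Fintype.card F = q ^ 2) {n : ℕ}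

include hF in
/-- `(I)`, column form -/
theorem I_col (hq : 3 ≤ q) {X : Subgroup (GL (Fin n) F)} (hX : Ctx n F q X) (hCN : CN X)
    {g : GL (Fin n) F} (hg : g ∈ X) (a k₁ k₂ k₃ : Fin n) (h12 : k₁ ≠ k₂) (h13 : k₁ ≠ k₃)
    (h23 : k₂ ≠ k₃) (h1 : (g : Matrix (Fin n) (Fin n) F) k₁ a = 0)
    (h2 : (g : Matrix (Fin n) (Fin n) F) k₂ a = 0) (h3 : (g : Matrix (Fin n) (Fin n) F) k₃ a = 0) :
    Mono.IsMono (g : Matrix (Fin n) (Fin n) F) := by
  by_cases hq3 : q = 3
  · exact I_three hF hq3 hX hCN hg a k₁ k₂ k₃ h12 h13 h23 h1 h2 h3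
  · exact I_two hF (by omega) hX hCN hg a k₁ k₂ h12 h1 h2

theorem isMono_of_inv {g : GL (Fin n) F}
    (h : Mono.IsMono ((g⁻¹ : GL (Fin n) F) : Matrix (Fin n) (Fin n) F)) :
    Mono.IsMono (g : Matrix (Fin n) (Fin n) F) := by
  apply Mono.IsMono.inv h
  rw [← Units.val_mul, mul_inv_cancel, Units.val_one]

include hF in
/-- `(I)`, row form -/
theorem I_row (hq : 3 ≤ q) {X : Subgroup (GL (Fin n) F)} (hX : Ctx n F q X) (hCN : CN X)
    {g : GL (Fin n) F} (hg : g ∈ X) (a k₁ k₂ k₃ : Fin n) (h12 : k₁ ≠ k₂) (h13 : k₁ ≠ k₃)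
    (h23 : k₂ ≠ k₃) (h1 : (g : Matrix (Fin n) (Fin n) F) a k₁ = 0)
    (h2 : (g : Matrix (Fin n) (Fin n) F) a k₂ = 0) (h3 : (g : Matrix (Fin n) (Fin n) F) a k₃ = 0) :
    Mono.IsMono (g : Matrix (Fin n) (Fin n) F) := by
  have hgU : g ∈ Cfsg.GU n F q := (hX.le hg).1
  apply isMono_of_inv
  apply I_col hF hq hX hCN (X.inv_mem hg) a k₁ k₂ k₃ h12 h13 h23
  · rw [GU_inv_apply hF hgU, h1, zero_pow (q_ne_zero hF)]
  · rw [GU_inv_apply hF hgU, h2, zero_pow (q_ne_zero hF)]
  · rw [GU_inv_apply hF hgU, h3, zero_pow (q_ne_zero hF)]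

include hF in
/-- `(I-2)`, row form -/
theorem I_row2 (hq : 4 ≤ q) {X : Subgroup (GL (Fin n) F)} (hX : Ctx n F q X) (hCN : CN X)
    {g : GL (Fin n) F} (hg : g ∈ X) (a k₁ k₂ : Fin n) (h12 : k₁ ≠ k₂)
    (h1 : (g : Matrix (Fin n) (Fin n) F) a k₁ = 0) (h2 : (g : Matrix (Fin n) (Fin n) F) a k₂ = 0) :
    Mono.IsMono (g : Matrix (Fin n) (Fin n) F) := by
  have hgU : g ∈ Cfsg.GU n F q := (hX.le hg).1
  apply isMono_of_inv
  apply I_two hF hq hX hCN (X.inv_mem hg) a k₁ k₂ h12
  · rw [GU_inv_apply hF hgU, h1, zero_pow (q_ne_zero hF)]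
  · rw [GU_inv_apply hF hgU, h2, zero_pow (q_ne_zero hF)]

theorem GL_mulVec_ne_zero (g : GL (Fin n) F) {w : Fin n → F} (hw : w ≠ 0) :
    (g : Matrix (Fin n) (Fin n) F) *ᵥ w ≠ 0 := by
  intro h
  apply hw
  have : ((g⁻¹ : GL (Fin n) F) : Matrix (Fin n) (Fin n) F) *ᵥ ((g : Matrix (Fin n) (Fin n) F) *ᵥ w) = w := by
    rw [Matrix.mulVec_mulVec, ← Units.val_mul, inv_mul_cancel, Units.val_one, Matrix.one_mulVec]
  rw [← this, h, Matrix.mulVec_zero]

/-- conjugation formula -/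
theorem conj_sub_mulVec (g h : GL (Fin n) F) (c : F) (v : Fin n → F) :
    (((g * h * g⁻¹ : GL (Fin n) F) : Matrix (Fin n) (Fin n) F) - c • (1 : Matrix (Fin n) (Fin n) F)) *ᵥ v =
      (g : Matrix (Fin n) (Fin n) F) *ᵥ (((h : Matrix (Fin n) (Fin n) F) - c • (1 : Matrix (Fin n) (Fin n) F)) *ᵥ
        (((g⁻¹ : GL (Fin n) F) : Matrix (Fin n) (Fin n) F) *ᵥ v)) := by
  rw [Matrix.mulVec_mulVec, Matrix.mulVec_mulVec]
  congr 1
  have h1 : (g : Matrix (Fin n) (Fin n) F) * ((g⁻¹ : GL (Fin n) F) : Matrix (Fin n) (Fin n) F) = 1 := by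
    rw [← Units.val_mul, mul_inv_cancel, Units.val_one]
  rw [Units.val_mul, Units.val_mul, Matrix.mul_sub, Matrix.sub_mul, Matrix.mul_smul, Matrix.mul_one,
    Matrix.smul_mul, h1]

theorem sub_smul_one_mulVec (A : Matrix (Fin n) (Fin n) F) (c : F) (y : Fin n → F) :
    (A - c • (1 : Matrix (Fin n) (Fin n) F)) *ᵥ y = A *ᵥ y - c • y := by
  rw [Matrix.sub_mulVec, Matrix.smul_mulVec, Matrix.one_mulVec]

/-- the image of a vector supported on `K` lies in the span of the corresponding columns -/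
theorem mulVec_mem_span (g : GL (Fin n) F) (K : Finset (Fin n)) (w : Fin n → F)
    (hw : ∀ k, k ∉ K → w k = 0) :
    (g : Matrix (Fin n) (Fin n) F) *ᵥ w ∈
      Submodule.span F ((K.image (fun k => (g : Matrix (Fin n) (Fin n) F) *ᵥ (ev k : Fin n → F)) :
        Finset (Fin n → F)) : Set (Fin n → F)) := by
  have h1 : w = ∑ k ∈ K, w k • (ev k : Fin n → F) := by
    ext i
    rw [Finset.sum_apply]
    simp only [Pi.smul_apply, smul_eq_mul, Pi.single_apply, mul_ite, mul_one, mul_zero]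
    rw [Finset.sum_ite_eq]
    split_ifs with hi
    · rfl
    · exact hw i hi
  rw [h1, Matrix.mulVec_sum]
  apply Submodule.sum_mem
  intro k hk
  rw [Matrix.mulVec_smul]
  apply Submodule.smul_mem
  apply Submodule.subset_span
  exact Finset.mem_coe.mpr (Finset.mem_image_of_mem _ hk)

theorem finrank_span_cols_le (g : GL (Fin n) F) (K : Finset (Fin n)) :
    Module.finrank F (Submodule.span F ((K.image
      (fun k => (g : Matrix (Fin n) (Fin n) F) *ᵥ (ev k : Fin n → F)) : Finset (Fin n → F)) :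
        Set (Fin n → F))) ≤ K.card :=
  (finrank_span_finset_le_card _).trans Finset.card_image_le

include hF in
/-- Part II, case `(G)` -/
theorem c_G (hq : 3 ≤ q) (hn : 13 ≤ n) {X : Subgroup (GL (Fin n) F)} (hX : Ctx n F q X)
    (hCN : CN X) {g : GL (Fin n) F} (hg : g ∈ X) (b a : Fin n)
    (h0 : (g : Matrix (Fin n) (Fin n) F) b a = 0) (c : F) (hc : c ^ (q + 1) = 1)
    (hcn : c ^ n ≠ 1) : Mono.IsMono (g : Matrix (Fin n) (Fin n) F) := by
  have hgU : g ∈ Cfsg.GU n F q := (hX.le hg).1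
  have hgiU : g⁻¹ ∈ Cfsg.GU n F q := (Cfsg.GU n F q).inv_mem hgU
  have hc0 : c ≠ 0 := mu_ne_zero hc
  have hcn0 : c ^ n ≠ 0 := pow_ne_zero _ hc0
  set κ : F := (c ^ n)⁻¹ with hκ
  have hκ1 : κ ≠ 1 := by
    intro h
    apply hcn
    rw [hκ, inv_eq_one] at h
    exact h
  have hκmu : κ ^ (q + 1) = 1 := by
    rw [hκ]
    apply mu_inv
    rw [← pow_mul, mul_comm, pow_mul, hc, one_pow]
  set τ : Fin n → F := fun k => if k = a then c * κ else c with hτdef
  have hτ : ∀ k, τ k ^ (q + 1) = 1 := by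
    intro k
    rw [hτdef]
    simp only
    split_ifs
    · exact mu_mul hc hκmu
    · exact hc
  have hprod : ∏ k, τ k = 1 := by
    have h1 : ∀ k, τ k = c * (if k = a then κ else 1) := by
      intro k
      rw [hτdef]
      simp only
      split_ifs <;> ring
    rw [Finset.prod_congr rfl (fun k _ => h1 k), Finset.prod_mul_distrib, Finset.prod_const,
      Finset.prod_ite_eq' Finset.univ a (fun _ => κ), if_pos (Finset.mem_univ _), Finset.card_univ,
      Fintype.card_fin, hκ, mul_inv_cancel₀ hcn0]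
  have hm : g * dgm τ hτ * g⁻¹ ∈ X :=
    X.mul_mem (X.mul_mem hg (dgm_mem hF hX τ hτ hprod)) (X.inv_mem hg)
  have hmono : Mono.IsMono ((g * dgm τ hτ * g⁻¹ : GL (Fin n) F) : Matrix (Fin n) (Fin n) F) := by
    apply hCN _ hm
    refine ⟨b, b, fun i hi => ?_⟩
    have h1 := conj_dgm_col hF hgiU τ hτ b c ?_ i hi
    · rw [inv_inv] at h1
      exact h1
    · intro k hk
      rw [GU_inv_apply hF hgU] at hk
      rw [hτdef]
      simp only
      rw [if_neg]
      rintro rfl
      exact hk (by rw [h0, zero_pow (q_ne_zero hF)])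
  -- the rank bound
  set S := Finset.univ.filter (fun x => (g : Matrix (Fin n) (Fin n) F) x a ≠ 0) with hS
  have hbound : S.card ≤ 2 * 1 := by
    apply rk_bound hmono (B := ((g * dgm τ hτ * g⁻¹ : GL (Fin n) F)⁻¹ : GL (Fin n) F))
      (by rw [← Units.val_mul, inv_mul_cancel, Units.val_one]) c hc0 1
      (Submodule.span F ((({a} : Finset (Fin n)).image
        (fun k => (g : Matrix (Fin n) (Fin n) F) *ᵥ (ev k : Fin n → F)) : Finset (Fin n → F)) :
          Set (Fin n → F)))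
    · exact (finrank_span_cols_le g {a}).trans (by simp)
    · intro x hx
      rw [hS, Finset.mem_filter] at hx
      rw [conj_sub_mulVec]
      set y := ((g⁻¹ : GL (Fin n) F) : Matrix (Fin n) (Fin n) F) *ᵥ (ev x : Fin n → F) with hy
      have hw : ∀ k, ((((dgm τ hτ : GL (Fin n) F) : Matrix (Fin n) (Fin n) F) -
          c • (1 : Matrix (Fin n) (Fin n) F)) *ᵥ y) k = (τ k - c) * y k := by
        intro k
        rw [sub_smul_one_mulVec, dgm_mulVec]
        simp only [Pi.sub_apply, Pi.smul_apply, smul_eq_mul]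
        ring
      refine ⟨mulVec_mem_span g {a} _ ?_, GL_mulVec_ne_zero g ?_⟩
      · intro k hk
        rw [Finset.mem_singleton] at hk
        rw [hw, hτdef]
        simp only
        rw [if_neg hk, sub_self, zero_mul]
      · intro hzero
        have h1 := congrFun hzero a
        rw [hw] at h1
        simp only [Pi.zero_apply] at h1
        have h2 : τ a - c ≠ 0 := by
          rw [hτdef]
          simp only [if_true]
          intro h3
          apply hκ1
          have : c * (κ - 1) = 0 := by linear_combination h3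
          exact sub_eq_zero.mp ((mul_eq_zero.mp this).resolve_left hc0)
        have h3 : y a ≠ 0 := by
          rw [hy, mulVec_ev]
          simp only
          rw [GU_inv_apply hF hgU]
          exact pow_ne_zero _ hx.2
        exact mul_ne_zero h2 h3 h1
  -- three zeros in column `a`
  have hcompl : 2 < (Finset.univ \ S).card := by
    rw [Finset.card_sdiff_of_subset (Finset.subset_univ _), Finset.card_univ, Fintype.card_fin]
    omega
  obtain ⟨k₁, hk₁, k₂, hk₂, k₃, hk₃, h12, h13, h23⟩ := Finset.two_lt_card.mp hcompl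
  have hz : ∀ k, k ∈ Finset.univ \ S → (g : Matrix (Fin n) (Fin n) F) k a = 0 := by
    intro k hk
    rw [Finset.mem_sdiff, hS, Finset.mem_filter] at hk
    by_contra h
    exact hk.2 ⟨Finset.mem_univ _, h⟩
  exact I_col hF hq hX hCN hg a k₁ k₂ k₃ h12 h13 h23 (hz k₁ hk₁) (hz k₂ hk₂) (hz k₃ hk₃)

end Cfsg.Agent.Lib.Helper8.UM
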