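import Mathlib
import Cfsg.Prelude
import Cfsg.Agent.Lib.Helper8.UM9

set_option autoImplicit false
set_option linter.unusedVariables false
set_option linter.unusedSectionVars false
set_option linter.style.longLine false
set_option maxHeartbeats 800000

/-! Part II (odd `q`): case `(S)`. -/

namespace Cfsg.Agent.Lib.Helper8.UM

open Matrix Cfsg.Agent.Lib.Helper5 Cfsg.Agent.Lib.Helper5.Herm
open scoped Classical

variable {F : Type*} [Field F] [Fintype F] {q : ℕ} (hF : Fintype.card F = q ^ 2) {n : ℕ}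

include hF in
theorem le_of_all_pow (hn : 0 < n) (hS : ∀ c : F, c ^ (q + 1) = 1 → c ^ n = 1) : q + 1 ≤ n := by
  have hsub : muF F q ⊆ (Polynomial.nthRoots n (1 : F)).toFinset := by
    intro x hx
    rw [Multiset.mem_toFinset, Polynomial.mem_nthRoots hn]
    exact hS x (mem_muF.mp hx)
  have h1 := Finset.card_le_card hsub
  rw [card_muF hF] at h1
  exact h1.trans ((Multiset.toFinset_card_le _).trans (Polynomial.card_nthRoots n 1))

include hF in
theorem two_ne_zero_of_odd (hodd : Odd q) : (2 : F) ≠ 0 := by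
  obtain ⟨p, j, hp, hcp, hqp⟩ := exists_char_pow hF
  intro h2
  have h3 : ((2 : ℕ) : F) = 0 := by exact_mod_cast h2
  rw [CharP.cast_eq_zero_iff F p] at h3
  have hp2 : p = 2 := (Nat.prime_dvd_prime_iff_eq hp Nat.prime_two).mp h3
  rw [hqp, hp2] at hodd
  have : j ≠ 0 := by
    rintro rfl
    have := two_le_q hF
    rw [hqp, pow_zero] at this
    omega
  exact (Nat.not_even_iff_odd.mpr hodd) ((Nat.even_pow.mpr ⟨even_two, this⟩))

include hF in
/-- Part II, case `(S)`, `q` odd -/
theorem c_S (hq : 3 ≤ q) (hodd : Odd q) (hn : 13 ≤ n) {X : Subgroup (GL (Fin n) F)}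
    (hX : Ctx n F q X) (hCN : CN X) {g : GL (Fin n) F} (hg : g ∈ X) (b a : Fin n)
    (h0 : (g : Matrix (Fin n) (Fin n) F) b a = 0)
    (hS : ∀ c : F, c ^ (q + 1) = 1 → c ^ n = 1) : Mono.IsMono (g : Matrix (Fin n) (Fin n) F) := by
  have hgU : g ∈ Cfsg.GU n F q := (hX.le hg).1
  have h2 : (2 : F) ≠ 0 := two_ne_zero_of_odd hF hodd
  have hqn : q + 1 ≤ n := le_of_all_pow hF (by omega) hS
  set P := Finset.univ.filter (fun k => (g : Matrix (Fin n) (Fin n) F) b k ≠ 0) with hP
  have hzP : ∀ k, k ∈ Finset.univ \ P → (g : Matrix (Fin n) (Fin n) F) b k = 0 := by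
    intro k hk
    rw [Finset.mem_sdiff, hP, Finset.mem_filter] at hk
    by_contra h
    exact hk.2 ⟨Finset.mem_univ _, h⟩
  have hcardc : (Finset.univ \ P).card = n - P.card := by
    rw [Finset.card_sdiff_of_subset (Finset.subset_univ _), Finset.card_univ, Fintype.card_fin]
  by_cases hPc : P.card ≤ q - 1
  · -- many zeros in row `b`
    by_cases hq3 : q = 3
    · have hcompl : 2 < (Finset.univ \ P).card := by rw [hcardc]; omega
      obtain ⟨k₁, hk₁, k₂, hk₂, k₃, hk₃, h12, h13, h23⟩ := Finset.two_lt_card.mp hcompl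
      exact I_row hF hq hX hCN hg b k₁ k₂ k₃ h12 h13 h23 (hzP k₁ hk₁) (hzP k₂ hk₂) (hzP k₃ hk₃)
    · have hcompl : 1 < (Finset.univ \ P).card := by rw [hcardc]; omega
      obtain ⟨k₁, hk₁, k₂, hk₂, h12⟩ := Finset.one_lt_card.mp hcompl
      exact I_row2 hF (by omega) hX hCN hg b k₁ k₂ h12 (hzP k₁ hk₁) (hzP k₂ hk₂)
  · push Not at hPc
    -- an equal-norm pair
    have hmaps : ∀ k ∈ P, ((g : Matrix (Fin n) (Fin n) F) b k) ^ (q + 1) ∈ FqX F q := by
      intro k hk
      rw [hP, Finset.mem_filter] at hk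
      rw [mem_FqX]
      exact ⟨pow_ne_zero _ hk.2, SUCentres.pow_q_norm hF _⟩
    obtain ⟨i, hi, j, hj, hij, hnorm⟩ := Finset.exists_ne_map_eq_of_card_lt_of_maps_to
      (by rw [card_FqX hF]; exact hPc) hmaps
    rw [hP, Finset.mem_filter] at hi hj
    have hia : i ≠ a := fun h => hi.2 (h ▸ h0)
    have hja : j ≠ a := fun h => hj.2 (h ▸ h0)
    set r : Fin n → F := fun k => ((g : Matrix (Fin n) (Fin n) F) b k) ^ q with hr
    have hri : r i ≠ 0 := pow_ne_zero _ hi.2
    have hrj : r j ≠ 0 := pow_ne_zero _ hj.2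
    have hra : r a = 0 := by rw [hr]; simp only; rw [h0, zero_pow (q_ne_zero hF)]
    have hrinv : ((g⁻¹ : GL (Fin n) F) : Matrix (Fin n) (Fin n) F) *ᵥ (ev b : Fin n → F) = r := by
      rw [mulVec_ev]
      ext k
      rw [GU_inv_apply hF hgU]
    set β : F := r j / r i with hβ
    have hβ0 : β ≠ 0 := div_ne_zero hrj hri
    have hβmu : β ^ (q + 1) = 1 := by
      rw [hβ, div_pow, hr]
      simp only
      rw [← pow_mul, ← pow_mul, mul_comm q, pow_mul, pow_mul, hnorm]
      exact div_self (pow_ne_zero _ (pow_ne_zero _ hj.2))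
    have hneg1 : (-1 : F) ^ (q + 1) = 1 := by
      obtain ⟨m, hm⟩ := hodd
      rw [hm]
      have : 2 * m + 1 + 1 = 2 * (m + 1) := by ring
      rw [this, pow_mul]
      norm_num
    set τ : Fin n → F := d3 i j a β β⁻¹ (-1) with hτdef
    have hτ : ∀ k, τ k ^ (q + 1) = 1 := d3_mu i j a hβmu (mu_inv hβmu) hneg1
    set σ : Equiv.Perm (Fin n) := Equiv.swap i j with hσ
    have hh : mon σ τ hτ ∈ X := by
      apply mon_mem hF hX
      rw [hσ, Equiv.Perm.sign_swap hij, hτdef, d3_prod i j a hij hia hja]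
      simp only [Units.val_neg, Units.val_one, Int.cast_neg, Int.cast_one]
      field_simp
    have hτi : τ i = β := by rw [hτdef]; unfold d3; rw [if_pos rfl]
    have hτj : τ j = β⁻¹ := by rw [hτdef]; unfold d3; rw [if_neg (Ne.symm hij), if_pos rfl]
    have hτa : τ a = -1 := by
      rw [hτdef]; unfold d3; rw [if_neg (Ne.symm hia), if_neg (Ne.symm hja), if_pos rfl]
    have hτo : ∀ k, k ≠ i → k ≠ j → k ≠ a → τ k = 1 := by
      intro k h1 h2 h3
      rw [hτdef]; unfold d3; rw [if_neg h1, if_neg h2, if_neg h3]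
    have hσi : σ⁻¹ i = j := by rw [hσ, Equiv.swap_inv, Equiv.swap_apply_left]
    have hσj : σ⁻¹ j = i := by rw [hσ, Equiv.swap_inv, Equiv.swap_apply_right]
    have hσo : ∀ k, k ≠ i → k ≠ j → σ⁻¹ k = k := by
      intro k h1 h2
      rw [hσ, Equiv.swap_inv, Equiv.swap_apply_of_ne_of_ne h1 h2]
    -- `h` fixes `r`
    have hhr : ((mon σ τ hτ : GL (Fin n) F) : Matrix (Fin n) (Fin n) F) *ᵥ r = r := by
      rw [mon_mulVec]
      ext k
      by_cases hki : k = i
      · subst hki
        rw [hσi, hτj, hβ]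
        field_simp
      · by_cases hkj : k = j
        · subst hkj
          rw [hσj, hτi, hβ]
          field_simp
        · rw [hσo k hki hkj]
          by_cases hka : k = a
          · subst hka
            rw [hra, mul_zero]
          · rw [hτo k hki hkj hka, one_mul]
    have hm : g * mon σ τ hτ * g⁻¹ ∈ X := X.mul_mem (X.mul_mem hg hh) (X.inv_mem hg)
    have hmono : Mono.IsMono ((g * mon σ τ hτ * g⁻¹ : GL (Fin n) F) : Matrix (Fin n) (Fin n) F) := by
      apply hCN _ hm
      refine ⟨b, b, fun i' hi' => ?_⟩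
      have h1 : ((g * mon σ τ hτ * g⁻¹ : GL (Fin n) F) : Matrix (Fin n) (Fin n) F) *ᵥ
          (ev b : Fin n → F) = (ev b : Fin n → F) := by
        rw [Units.val_mul, Units.val_mul, ← Matrix.mulVec_mulVec, ← Matrix.mulVec_mulVec, hrinv, hhr,
          ← hrinv, Matrix.mulVec_mulVec, ← Units.val_mul, mul_inv_cancel, Units.val_one,
          Matrix.one_mulVec]
      have h2' := congrFun h1 i'
      rw [mulVec_ev] at h2'
      simp only at h2'
      rw [h2']
      simp [hi']
    -- the rank bound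
    set S := Finset.univ.filter (fun x => (g : Matrix (Fin n) (Fin n) F) x a ≠ 0) with hSdef
    have hbound : S.card ≤ 2 * 3 := by
      apply rk_bound hmono (B := ((g * mon σ τ hτ * g⁻¹ : GL (Fin n) F)⁻¹ : GL (Fin n) F))
        (by rw [← Units.val_mul, inv_mul_cancel, Units.val_one]) 1 one_ne_zero 3
        (Submodule.span F ((({i, j, a} : Finset (Fin n)).image
          (fun k => (g : Matrix (Fin n) (Fin n) F) *ᵥ (ev k : Fin n → F)) : Finset (Fin n → F)) :
            Set (Fin n → F)))
      · exact (finrank_span_cols_le g {i, j, a}).trans Finset.card_le_three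
      · intro x hx
        rw [hSdef, Finset.mem_filter] at hx
        rw [conj_sub_mulVec]
        set y := ((g⁻¹ : GL (Fin n) F) : Matrix (Fin n) (Fin n) F) *ᵥ (ev x : Fin n → F) with hy
        have hw : ∀ k, ((((mon σ τ hτ : GL (Fin n) F) : Matrix (Fin n) (Fin n) F) -
            (1 : F) • (1 : Matrix (Fin n) (Fin n) F)) *ᵥ y) k =
              τ (σ⁻¹ k) * y (σ⁻¹ k) - y k := by
          intro k
          rw [sub_smul_one_mulVec, mon_mulVec]
          simp only [Pi.sub_apply, Pi.smul_apply, smul_eq_mul, one_mul]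
        refine ⟨mulVec_mem_span g {i, j, a} _ ?_, GL_mulVec_ne_zero g ?_⟩
        · intro k hk
          simp only [Finset.mem_insert, Finset.mem_singleton, not_or] at hk
          rw [hw, hσo k hk.1 hk.2.1, hτo k hk.1 hk.2.1 hk.2.2, one_mul, sub_self]
        · intro hzero
          have h1 := congrFun hzero a
          rw [hw, hσo a (Ne.symm hia) (Ne.symm hja), hτa] at h1
          simp only [Pi.zero_apply] at h1
          have h3 : y a ≠ 0 := by
            rw [hy, mulVec_ev]
            simp only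
            rw [GU_inv_apply hF hgU]
            exact pow_ne_zero _ hx.2
          have h4 : (2 : F) * y a = 0 := by linear_combination -h1
          exact (mul_ne_zero h2 h3) h4
    have hcompl : 2 < (Finset.univ \ S).card := by
      rw [Finset.card_sdiff_of_subset (Finset.subset_univ _), Finset.card_univ, Fintype.card_fin]
      omega
    obtain ⟨k₁, hk₁, k₂, hk₂, k₃, hk₃, h12, h13, h23⟩ := Finset.two_lt_card.mp hcompl
    have hz : ∀ k, k ∈ Finset.univ \ S → (g : Matrix (Fin n) (Fin n) F) k a = 0 := by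
      intro k hk
      rw [Finset.mem_sdiff, hSdef, Finset.mem_filter] at hk
      by_contra h
      exact hk.2 ⟨Finset.mem_univ _, h⟩
    exact I_col hF hq hX hCN hg a k₁ k₂ k₃ h12 h13 h23 (hz k₁ hk₁) (hz k₂ hk₂) (hz k₃ hk₃)

end Cfsg.Agent.Lib.Helper8.UM
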