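import Mathlib
import Cfsg.Prelude
import Cfsg.Agent.Lib.Helper8.UM10

set_option autoImplicit false
set_option linter.unusedVariables false
set_option linter.unusedSectionVars false
set_option linter.style.longLine false

/-! Block solutions of a linear equation with norm-one unknowns and determinant one. -/

namespace Cfsg.Agent.Lib.Helper8.UM

open Matrix Cfsg.Agent.Lib.Helper5 Cfsg.Agent.Lib.Helper5.Herm
open scoped Classical

variable {F : Type*} [Field F] [Fintype F] {q : ℕ} (hF : Fintype.card F = q ^ 2) {n : ℕ}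

include hF in
/-- vector form of the four-term lemma -/
theorem four_term_vec (c : Fin 4 → F) (hc : ∀ i, c i ≠ 0) (s : F) :
    ∃ t u : Fin 4 → F, (∀ i, t i ^ (q + 1) = 1) ∧ (∀ i, u i ^ (q + 1) = 1) ∧
      ∑ i, t i * c i = s ∧ ∑ i, u i * c i = s ∧ t ≠ u := by
  obtain ⟨t₁, t₂, t₃, t₄, u₁, u₂, u₃, u₄, ht1, ht2, ht3, ht4, hu1, hu2, hu3, hu4, hts, hus, hne⟩ :=
    four_term hF (c 0) (c 1) (c 2) (c 3) (hc 0) (hc 1) (hc 2) (hc 3) s
  refine ⟨![t₁, t₂, t₃, t₄], ![u₁, u₂, u₃, u₄], ?_, ?_, ?_, ?_, ?_⟩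
  · intro i
    fin_cases i <;> simp [ht1, ht2, ht3, ht4]
  · intro i
    fin_cases i <;> simp [hu1, hu2, hu3, hu4]
  · rw [Fin.sum_univ_four]
    simpa using hts
  · rw [Fin.sum_univ_four]
    simpa using hus
  · intro h
    apply hne
    have h0 := congrFun h 0
    have h1 := congrFun h 1
    simp at h0 h1
    rw [h0, h1]

section extend
variable {J : Type} [Fintype J] (e : J ↪ Fin n)

/-- extend a function on `J` by one -/
noncomputable def ext1 (t : J → F) : Fin n → F :=
  fun k => if h : ∃ j, e j = k then t h.choose else 1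

theorem ext1_apply (t : J → F) (j : J) : ext1 e t (e j) = t j := by
  unfold ext1
  have h : ∃ j', e j' = e j := ⟨j, rfl⟩
  rw [dif_pos h]
  congr 1
  exact e.injective h.choose_spec

theorem ext1_off (t : J → F) (k : Fin n) (hk : ∀ j, e j ≠ k) : ext1 e t k = 1 := by
  unfold ext1
  rw [dif_neg]
  rintro ⟨j, hj⟩
  exact hk j hj

theorem ext1_mu (t : J → F) (ht : ∀ j, t j ^ (q + 1) = 1) (k : Fin n) :
    ext1 e t k ^ (q + 1) = 1 := by
  by_cases h : ∃ j, e j = k
  · obtain ⟨j, rfl⟩ := h
    rw [ext1_apply]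
    exact ht j
  · push Not at h
    rw [ext1_off e t k h, one_pow]

theorem ext1_prod (t : J → F) : ∏ k, ext1 e t k = ∏ j, t j := by
  rw [prod_eq_of_off (ext1 e t) (Finset.univ.map e), Finset.prod_map]
  · exact Finset.prod_congr rfl fun j _ => ext1_apply e t j
  · intro k hk
    apply ext1_off
    intro j hj
    apply hk
    rw [Finset.mem_map]
    exact ⟨j, Finset.mem_univ _, hj⟩

theorem ext1_sum (t : J → F) (c : Fin n → F) :
    ∑ k, ext1 e t k * c k = ∑ j, t j * c (e j) + ∑ k ∈ Finset.univ \ Finset.univ.map e, c k := by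
  rw [← Finset.sum_sdiff (Finset.subset_univ (Finset.univ.map e)), add_comm, Finset.sum_map]
  congr 1
  · exact Finset.sum_congr rfl fun j _ => by rw [ext1_apply]
  · refine Finset.sum_congr rfl fun k hk => ?_
    rw [Finset.mem_sdiff, Finset.mem_map] at hk
    rw [ext1_off, one_mul]
    intro j hj
    exact hk.2 ⟨j, Finset.mem_univ _, hj⟩

end extend

end Cfsg.Agent.Lib.Helper8.UM
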