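import Mathlib
import Cfsg.Prelude
import Cfsg.Agent.Lib.Helper8.UM11

set_option autoImplicit false
set_option linter.unusedVariables false
set_option linter.unusedSectionVars false
set_option linter.style.longLine false
set_option maxHeartbeats 1000000

/-! Two determinant-one solutions of a homogeneous linear equation differing in few places. -/

namespace Cfsg.Agent.Lib.Helper8.UM

open Matrix Cfsg.Agent.Lib.Helper5 Cfsg.Agent.Lib.Helper5.Herm
open scoped Classical

variable {F : Type*} [Field F] [Fintype F] {q : ℕ} (hF : Fintype.card F = q ^ 2) {n : ℕ}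

theorem prod_mu {ι : Type*} (s : Finset ι) (f : ι → F) (hf : ∀ i ∈ s, f i ^ (q + 1) = 1) :
    (∏ i ∈ s, f i) ^ (q + 1) = 1 := by
  rw [← Finset.prod_pow]
  exact Finset.prod_eq_one hf

/-- the index type of the thirteen special coordinates -/
abbrev J13 : Type := Unit ⊕ (Fin 4 ⊕ (Fin 4 ⊕ Fin 4))

include hF in
theorem blk (hn : 13 ≤ n) (c : Fin n → F) (hc : ∀ k, c k ≠ 0) :
    ∃ τ τ' : Fin n → F, (∀ k, τ k ^ (q + 1) = 1) ∧ (∀ k, τ' k ^ (q + 1) = 1) ∧ ∏ k, τ k = 1 ∧
      ∏ k, τ' k = 1 ∧ ∑ k, τ k * c k = 0 ∧ ∑ k, τ' k * c k = 0 ∧ τ ≠ τ' ∧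
      (Finset.univ.filter (fun k => τ k ≠ τ' k)).card ≤ 5 := by
  have hq := two_le_q hF
  obtain ⟨e⟩ : Nonempty (J13 ↪ Fin n) := by
    apply Function.Embedding.nonempty_of_card_le
    simp only [Fintype.card_sum, Fintype.card_unit, Fintype.card_fin]
    omega
  set c₀ : F := c (e (Sum.inl ())) with hc₀
  set c₁ : Fin 4 → F := fun i => c (e (Sum.inr (Sum.inl i))) with hc₁
  set c₂ : Fin 4 → F := fun i => c (e (Sum.inr (Sum.inr (Sum.inl i)))) with hc₂
  set c₃ : Fin 4 → F := fun i => c (e (Sum.inr (Sum.inr (Sum.inr i)))) with hc₃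
  set s₀ : F := ∑ k ∈ Finset.univ \ Finset.univ.map e, c k with hs₀
  obtain ⟨v, -, hv, -, hvs, -, -⟩ := four_term_vec hF c₃ (fun i => hc _) (-s₀)
  obtain ⟨w, -, hw, -, hws, -, -⟩ := four_term_vec hF c₂ (fun i => hc _) 0
  have hex : ∀ x₀ : F, ∃ t u : Fin 4 → F, (∀ i, t i ^ (q + 1) = 1) ∧ (∀ i, u i ^ (q + 1) = 1) ∧
      ∑ i, t i * c₁ i = -(x₀ * c₀) ∧ ∑ i, u i * c₁ i = -(x₀ * c₀) ∧ t ≠ u :=
    fun x₀ => four_term_vec hF c₁ (fun i => hc _) _
  choose T U hT hU hTs hUs hTU using hex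
  set Y : F → Bool → Fin 4 → F := fun x₀ b => if b then T x₀ else U x₀ with hY
  have hYmu : ∀ x₀ b i, Y x₀ b i ^ (q + 1) = 1 := by
    intro x₀ b i
    rw [hY]
    cases b
    · exact hU x₀ i
    · exact hT x₀ i
  have hYs : ∀ x₀ b, ∑ i, Y x₀ b i * c₁ i = -(x₀ * c₀) := by
    intro x₀ b
    rw [hY]
    cases b
    · exact hUs x₀
    · exact hTs x₀
  set Φ : F × Bool → F := fun p => p.1 * ∏ i, Y p.1 p.2 i with hΦ
  set D : Finset (F × Bool) := (muF F q) ×ˢ (Finset.univ : Finset Bool) with hD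
  have hDcard : D.card = (q + 1) * 2 := by
    rw [hD, Finset.card_product, card_muF hF]
    simp
  have hmaps : ∀ p ∈ D, Φ p ∈ muF F q := by
    intro p hp
    rw [hD, Finset.mem_product, mem_muF] at hp
    rw [mem_muF, hΦ]
    exact mu_mul hp.1 (prod_mu _ _ (fun i _ => hYmu _ _ i))
  obtain ⟨p, hp, p', hp', hpp, hΦpp⟩ := Finset.exists_ne_map_eq_of_card_lt_of_maps_to
    (by rw [card_muF hF, hDcard]; omega) hmaps
  rw [hD, Finset.mem_product, mem_muF] at hp hp'
  have hwprod : (∏ i, w i) ^ (q + 1) = 1 := prod_mu _ _ (fun i _ => hw i)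
  have hvprod : (∏ i, v i) ^ (q + 1) = 1 := prod_mu _ _ (fun i _ => hv i)
  have hΦmu : Φ p ^ (q + 1) = 1 := mem_muF.mp (hmaps p (by rw [hD, Finset.mem_product, mem_muF]; exact hp))
  set P₀ : F := Φ p * (∏ i, w i) * ∏ i, v i with hP₀
  have hP₀mu : P₀ ^ (q + 1) = 1 := mu_mul (mu_mul hΦmu hwprod) hvprod
  have hP₀0 : P₀ ≠ 0 := mu_ne_zero hP₀mu
  set γ : F := P₀⁻¹ with hγ
  have hγmu : γ ^ (q + 1) = 1 := mu_inv hP₀mu
  have hγ0 : γ ≠ 0 := mu_ne_zero hγmu
  -- the two solutions on `J13`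
  have build : ∀ r : F × Bool, r.1 ^ (q + 1) = 1 → Φ r = Φ p →
      ∃ t : J13 → F, (∀ j, t j ^ (q + 1) = 1) ∧ ∏ j, t j = 1 ∧
        ∑ j, t j * c (e j) = -s₀ ∧ t (Sum.inl ()) = γ * r.1 ∧
        (∀ i, t (Sum.inr (Sum.inl i)) = γ * Y r.1 r.2 i) ∧
        (∀ i, t (Sum.inr (Sum.inr (Sum.inl i))) = γ⁻¹ * w i) ∧
        (∀ i, t (Sum.inr (Sum.inr (Sum.inr i))) = v i) := by
    intro r hr hΦr
    refine ⟨Sum.elim (fun _ => γ * r.1) (Sum.elim (fun i => γ * Y r.1 r.2 i)
      (Sum.elim (fun i => γ⁻¹ * w i) v)), ?_, ?_, ?_, rfl, fun i => rfl, fun i => rfl, fun i => rfl⟩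
    · rintro (u | i | i | i)
      · exact mu_mul hγmu hr
      · exact mu_mul hγmu (hYmu _ _ i)
      · exact mu_mul (mu_inv hγmu) (hw i)
      · exact hv i
    · rw [Fintype.prod_sum_type, Fintype.prod_sum_type, Fintype.prod_sum_type]
      simp only [Sum.elim_inl, Sum.elim_inr, Finset.univ_unique, Finset.prod_singleton]
      rw [Finset.prod_mul_distrib, Finset.prod_mul_distrib, Finset.prod_const, Finset.prod_const,
        Finset.card_univ, Fintype.card_fin]
      have h1 : r.1 * ∏ i, Y r.1 r.2 i = Φ p := hΦr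
      have h2 : γ * P₀ = 1 := inv_mul_cancel₀ hP₀0
      generalize hA : ∏ i, Y r.1 r.2 i = A at h1 ⊢
      rw [hP₀] at h2
      generalize hB : ∏ i, w i = B at h2 ⊢
      generalize hC : ∏ i, v i = C at h2 ⊢
      have h3 : γ * r.1 * (γ ^ 4 * A * ((γ⁻¹) ^ 4 * B * C)) =
          (γ * γ⁻¹) ^ 4 * (γ * (r.1 * A * B * C)) := by ring
      rw [h3, h1, mul_inv_cancel₀ hγ0, one_pow, one_mul]
      exact h2
    · rw [Fintype.sum_sum_type, Fintype.sum_sum_type, Fintype.sum_sum_type]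
      simp only [Sum.elim_inl, Sum.elim_inr, Finset.univ_unique, Finset.sum_singleton]
      have h1 : ∑ i, γ * Y r.1 r.2 i * c (e (Sum.inr (Sum.inl i))) = γ * -(r.1 * c₀) := by
        rw [← hYs r.1 r.2, Finset.mul_sum]
        exact Finset.sum_congr rfl fun i _ => by rw [hc₁]; ring
      have h2 : ∑ i, γ⁻¹ * w i * c (e (Sum.inr (Sum.inr (Sum.inl i)))) = 0 := by
        have : ∑ i, γ⁻¹ * w i * c (e (Sum.inr (Sum.inr (Sum.inl i)))) = γ⁻¹ * ∑ i, w i * c₂ i := by
          rw [Finset.mul_sum]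
          exact Finset.sum_congr rfl fun i _ => by rw [hc₂]; ring
        rw [this, hws, mul_zero]
      have h3 : ∑ i, v i * c (e (Sum.inr (Sum.inr (Sum.inr i)))) = -s₀ := hvs
      rw [h1, h2, h3, hc₀]
      ring
  obtain ⟨t, htmu, htprod, htsum, ht0, ht1, ht2, ht3⟩ := build p hp.1 rfl
  obtain ⟨t', htmu', htprod', htsum', ht0', ht1', ht2', ht3'⟩ := build p' hp'.1 hΦpp.symm
  refine ⟨ext1 e t, ext1 e t', ext1_mu e t htmu, ext1_mu e t' htmu', ?_, ?_, ?_, ?_, ?_, ?_⟩
  · rw [ext1_prod, htprod]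
  · rw [ext1_prod, htprod']
  · rw [ext1_sum, htsum, ← hs₀]
    ring
  · rw [ext1_sum, htsum', ← hs₀]
    ring
  · intro heq
    apply hpp
    have hfst : p.1 = p'.1 := by
      have h1 := congrFun heq (e (Sum.inl ()))
      rw [ext1_apply, ext1_apply, ht0, ht0'] at h1
      exact mul_left_cancel₀ hγ0 h1
    have hsnd : p.2 = p'.2 := by
      by_contra hne
      have hYeq : Y p.1 p.2 = Y p'.1 p'.2 := by
        ext i
        have h1 := congrFun heq (e (Sum.inr (Sum.inl i)))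
        rw [ext1_apply, ext1_apply, ht1, ht1'] at h1
        exact mul_left_cancel₀ hγ0 h1
      rw [← hfst] at hYeq
      rw [hY] at hYeq
      simp only at hYeq
      cases hb : p.2 <;> cases hb' : p'.2
      · exact hne (hb.trans hb'.symm)
      · rw [hb, hb'] at hYeq
        simp only [Bool.false_eq_true, if_false, if_true] at hYeq
        exact hTU p.1 hYeq.symm
      · rw [hb, hb'] at hYeq
        simp only [Bool.false_eq_true, if_false, if_true] at hYeq
        exact hTU p.1 hYeq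
      · exact hne (hb.trans hb'.symm)
    exact Prod.ext hfst hsnd
  · have hsub : Finset.univ.filter (fun k => ext1 e t k ≠ ext1 e t' k) ⊆
        (Finset.univ : Finset (Unit ⊕ Fin 4)).image
          (fun u => e (Sum.elim (fun _ => Sum.inl ()) (fun i => Sum.inr (Sum.inl i)) u)) := by
      intro k hk
      rw [Finset.mem_filter] at hk
      rw [Finset.mem_image]
      by_cases hex : ∃ j, e j = k
      · obtain ⟨j, rfl⟩ := hex
        rw [ext1_apply, ext1_apply] at hk
        rcases j with u | i | i | i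
        · exact ⟨Sum.inl (), Finset.mem_univ _, rfl⟩
        · exact ⟨Sum.inr i, Finset.mem_univ _, rfl⟩
        · exfalso
          apply hk.2
          rw [ht2, ht2']
        · exfalso
          apply hk.2
          rw [ht3, ht3']
      · exfalso
        push Not at hex
        apply hk.2
        rw [ext1_off e t k hex, ext1_off e t' k hex]
    refine (Finset.card_le_card hsub).trans (Finset.card_image_le.trans ?_)
    simp

end Cfsg.Agent.Lib.Helper8.UM
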