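import Mathlib
import Cfsg.Prelude
import Cfsg.Agent.Lib.Helper8.UM12

set_option autoImplicit false
set_option linter.unusedVariables false
set_option linter.unusedSectionVars false
set_option linter.style.longLine false
set_option maxHeartbeats 800000

/-! Part II (odd `q`): producing a zero entry; the main statement for odd `q`. -/

namespace Cfsg.Agent.Lib.Helper8.UM

open Matrix Cfsg.Agent.Lib.Helper5 Cfsg.Agent.Lib.Helper5.Herm
open scoped Classical

variable {F : Type*} [Field F] [Fintype F] {q : ℕ} (hF : Fintype.card F = q ^ 2) {n : ℕ}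

theorem dgm_val (τ : Fin n → F) (hτ : ∀ i, τ i ^ (q + 1) = 1) :
    ((dgm τ hτ : GL (Fin n) F) : Matrix (Fin n) (Fin n) F) = Matrix.diagonal τ := by
  ext a b
  rw [dgm_apply, Matrix.diagonal_apply]
  by_cases h : a = b
  · subst h; simp
  · simp [h]

theorem dgm_mul (τ₁ τ₂ : Fin n → F) (h₁ : ∀ i, τ₁ i ^ (q + 1) = 1) (h₂ : ∀ i, τ₂ i ^ (q + 1) = 1) :
    dgm τ₁ h₁ * dgm τ₂ h₂ = dgm (fun i => τ₁ i * τ₂ i) (fun i => mu_mul (h₁ i) (h₂ i)) := by
  apply Units.ext
  rw [Units.val_mul, dgm_val, dgm_val, dgm_val, Matrix.diagonal_mul_diagonal]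

include hF in
/-- an element of `X` without zero entries yields a non-monomial element of `X` with a zero entry -/
theorem exists_zero_entry (hn : 13 ≤ n) {X : Subgroup (GL (Fin n) F)} (hX : Ctx n F q X)
    {z : GL (Fin n) F} (hz : z ∈ X) (hfull : ∀ k x, (z : Matrix (Fin n) (Fin n) F) k x ≠ 0) :
    ∃ g' ∈ X, ¬ Mono.IsMono (g' : Matrix (Fin n) (Fin n) F) ∧
      ∃ i j, (g' : Matrix (Fin n) (Fin n) F) i j = 0 := by
  have hzU : z ∈ Cfsg.GU n F q := (hX.le hz).1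
  set x₁ : Fin n := ⟨0, by omega⟩ with hx₁
  set x₂ : Fin n := ⟨1, by omega⟩ with hx₂
  have hx12 : x₁ ≠ x₂ := by
    rw [hx₁, hx₂]
    intro h
    have := congrArg Fin.val h
    simp at this
  set c : Fin n → F := fun k => (z : Matrix (Fin n) (Fin n) F) k x₁ *
    ((z : Matrix (Fin n) (Fin n) F) k x₂) ^ q with hc
  have hc0 : ∀ k, c k ≠ 0 := fun k => mul_ne_zero (hfull k x₁) (pow_ne_zero _ (hfull k x₂))
  obtain ⟨τ, τ', hτ, hτ', hp, hp', hs, hs', hne, hcard⟩ := blk hF hn c hc0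
  have hg₁ : z⁻¹ * dgm τ hτ * z ∈ X :=
    X.mul_mem (X.mul_mem (X.inv_mem hz) (dgm_mem hF hX τ hτ hp)) hz
  have hg₂ : z⁻¹ * dgm τ' hτ' * z ∈ X :=
    X.mul_mem (X.mul_mem (X.inv_mem hz) (dgm_mem hF hX τ' hτ' hp')) hz
  have hentry : ∀ (t : Fin n → F) (ht : ∀ i, t i ^ (q + 1) = 1), ∑ k, t k * c k = 0 →
      ((z⁻¹ * dgm t ht * z : GL (Fin n) F) : Matrix (Fin n) (Fin n) F) x₂ x₁ = 0 := by
    intro t ht hsum
    rw [conj_dgm_apply hF hzU, ← hsum]
    exact Finset.sum_congr rfl fun k _ => by rw [hc]; ring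
  by_cases hm₁ : Mono.IsMono ((z⁻¹ * dgm τ hτ * z : GL (Fin n) F) : Matrix (Fin n) (Fin n) F)
  swap
  · exact ⟨_, hg₁, hm₁, x₂, x₁, hentry τ hτ hs⟩
  by_cases hm₂ : Mono.IsMono ((z⁻¹ * dgm τ' hτ' * z : GL (Fin n) F) : Matrix (Fin n) (Fin n) F)
  swap
  · exact ⟨_, hg₂, hm₂, x₂, x₁, hentry τ' hτ' hs'⟩
  exfalso
  set σ : Fin n → F := fun k => τ' k * (τ k)⁻¹ with hσ
  have hσmu : ∀ k, σ k ^ (q + 1) = 1 := fun k => mu_mul (hτ' k) (mu_inv (hτ k))
  set M : GL (Fin n) F := z⁻¹ * dgm σ hσmu * (z⁻¹)⁻¹ with hM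
  have hMeq : (z⁻¹ * dgm τ hτ * z) * M = z⁻¹ * dgm τ' hτ' * z := by
    have h1 : dgm τ hτ * dgm σ hσmu = dgm τ' hτ' := by
      rw [dgm_mul]
      congr 1
      ext k
      rw [hσ]
      have := mu_ne_zero (hτ k)
      field_simp
    rw [hM, inv_inv, ← h1]
    group
  have hMmono : Mono.IsMono (M : Matrix (Fin n) (Fin n) F) := by
    have h2 : M = (z⁻¹ * dgm τ hτ * z)⁻¹ * (z⁻¹ * dgm τ' hτ' * z) := by
      rw [← hMeq]
      group
    rw [h2, Units.val_mul]
    refine Mono.IsMono.mul (Mono.IsMono.inv hm₁ ?_) hm₂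
    rw [← Units.val_mul, inv_mul_cancel, Units.val_one]
  set B' := Finset.univ.filter (fun k => τ k ≠ τ' k) with hB'
  obtain ⟨k₀, hk₀⟩ : ∃ k₀, τ k₀ ≠ τ' k₀ := by
    by_contra hcon
    push Not at hcon
    exact hne (funext hcon)
  have hσ1 : ∀ k, σ k - 1 = 0 ↔ τ k = τ' k := by
    intro k
    have h0 := mu_ne_zero (hτ k)
    have hσk : σ k = τ' k * (τ k)⁻¹ := rfl
    rw [hσk]
    constructor
    · intro h
      have h1 : τ' k * (τ k)⁻¹ = 1 := by linear_combination h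
      have h2 : τ' k = τ k := by
        have := congrArg (fun x => x * τ k) h1
        simp only [inv_mul_cancel_right₀ h0, one_mul] at this
        exact this
      exact h2.symm
    · intro h
      rw [← h, mul_inv_cancel₀ h0, sub_self]
  have hbound : (Finset.univ : Finset (Fin n)).card ≤ 2 * 5 := by
    apply rk_bound hMmono (B := ((M⁻¹ : GL (Fin n) F) : Matrix (Fin n) (Fin n) F))
      (by rw [← Units.val_mul, inv_mul_cancel, Units.val_one]) 1 one_ne_zero 5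
      (Submodule.span F ((B'.image
        (fun k => ((z⁻¹ : GL (Fin n) F) : Matrix (Fin n) (Fin n) F) *ᵥ (ev k : Fin n → F)) :
          Finset (Fin n → F)) : Set (Fin n → F)))
    · exact (finrank_span_cols_le z⁻¹ B').trans hcard
    · intro x _
      rw [hM, conj_sub_mulVec]
      have hw : ∀ k, ((((dgm σ hσmu : GL (Fin n) F) : Matrix (Fin n) (Fin n) F) -
          (1 : F) • (1 : Matrix (Fin n) (Fin n) F)) *ᵥ
            ((((z⁻¹)⁻¹ : GL (Fin n) F) : Matrix (Fin n) (Fin n) F) *ᵥ (ev x : Fin n → F))) k =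
              (σ k - 1) * (z : Matrix (Fin n) (Fin n) F) k x := by
        intro k
        rw [sub_smul_one_mulVec, dgm_mulVec, inv_inv, mulVec_ev]
        simp only [Pi.sub_apply, Pi.smul_apply, smul_eq_mul]
        ring
      refine ⟨mulVec_mem_span z⁻¹ B' _ ?_, GL_mulVec_ne_zero z⁻¹ ?_⟩
      · intro k hk
        rw [hB', Finset.mem_filter] at hk
        push Not at hk
        rw [hw, (hσ1 k).mpr (hk (Finset.mem_univ _)), zero_mul]
      · intro hzero
        have h1 := congrFun hzero k₀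
        rw [hw] at h1
        simp only [Pi.zero_apply] at h1
        rcases mul_eq_zero.mp h1 with h2 | h2
        · exact hk₀ ((hσ1 k₀).mp h2)
        · exact hfull k₀ x h2
  rw [Finset.card_univ, Fintype.card_fin] at hbound
  omega

include hF in
/-- Part II for odd `q`: `CN` fails -/
theorem partII_odd (hq : 3 ≤ q) (hodd : Odd q) (hn : 13 ≤ n) {X : Subgroup (GL (Fin n) F)}
    (hX : Ctx n F q X) (hne : ∃ g ∈ X, ¬ Mono.IsMono (g : Matrix (Fin n) (Fin n) F)) : ¬ CN X := by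
  intro hCN
  obtain ⟨z, hz, hzm⟩ := hne
  obtain ⟨g, hg, hgm, b, a, h0⟩ : ∃ g ∈ X, ¬ Mono.IsMono (g : Matrix (Fin n) (Fin n) F) ∧
      ∃ b a, (g : Matrix (Fin n) (Fin n) F) b a = 0 := by
    by_cases hfull : ∀ k x, (z : Matrix (Fin n) (Fin n) F) k x ≠ 0
    · exact exists_zero_entry hF hn hX hz hfull
    · push Not at hfull
      obtain ⟨k, x, hkx⟩ := hfull
      exact ⟨z, hz, hzm, k, x, hkx⟩
  by_cases hG : ∃ c : F, c ^ (q + 1) = 1 ∧ c ^ n ≠ 1
  · obtain ⟨c, hc, hcn⟩ := hG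
    exact hgm (c_G hF hq hn hX hCN hg b a h0 c hc hcn)
  · push Not at hG
    exact hgm (c_S hF hq hodd hn hX hCN hg b a h0 hG)

include hF in
/-- Part II for odd `q`: a non-monomial element of `X` with a monomial column -/
theorem witness_odd (hq : 3 ≤ q) (hodd : Odd q) (hn : 13 ≤ n) {X : Subgroup (GL (Fin n) F)}
    (hX : Ctx n F q X) (hne : ∃ g ∈ X, ¬ Mono.IsMono (g : Matrix (Fin n) (Fin n) F)) :
    ∃ g ∈ X, ¬ Mono.IsMono (g : Matrix (Fin n) (Fin n) F) ∧
      ∃ b b' : Fin n, ∀ i, i ≠ b' → (g : Matrix (Fin n) (Fin n) F) i b = 0 := by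
  have h := partII_odd hF hq hodd hn hX hne
  unfold CN at h
  push Not at h
  obtain ⟨g, hg, hex, hm⟩ := h
  exact ⟨g, hg, hm, hex⟩

end Cfsg.Agent.Lib.Helper8.UM
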