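import Mathlib
import Cfsg.Prelude
import Cfsg.Agent.Lib.Helper8.UM13
import Cfsg.Agent.Lib.Helper5.SUCentres
import Cfsg.Agent.Lib.Helper5.HermEich

set_option autoImplicit false
set_option linter.unusedVariables false
set_option linter.unusedSectionVars false
set_option linter.style.longLine false
set_option maxHeartbeats 800000

/-! Part I': the orbit set `Om` and the quasi-reflections `rho`. -/

namespace Cfsg.Agent.Lib.Helper8.UM

open Matrix Cfsg.Agent.Lib.Helper5 Cfsg.Agent.Lib.Helper5.Herm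
open scoped Classical

variable {F : Type*} [Field F] [Fintype F] {q : ℕ} (hF : Fintype.card F = q ^ 2) {n : ℕ}

/-- `x` fixes the line spanned by the `b`-th basis vector -/
def FixB (b : Fin n) (x : GL (Fin n) F) : Prop :=
  ∀ i, i ≠ b → (x : Matrix (Fin n) (Fin n) F) i b = 0

theorem fixB_mulVec {b : Fin n} {x : GL (Fin n) F} (hx : FixB b x) :
    (x : Matrix (Fin n) (Fin n) F) *ᵥ (ev b : Fin n → F) =
      (x : Matrix (Fin n) (Fin n) F) b b • (ev b : Fin n → F) := by
  rw [mulVec_ev]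
  funext i
  by_cases hi : i = b
  · subst hi; simp [ev]
  · rw [hx i hi]; simp [ev, hi]

theorem fixB_mul {b : Fin n} {x y : GL (Fin n) F} (hx : FixB b x) (hy : FixB b y) :
    FixB b (x * y) := by
  intro i hi
  rw [Units.val_mul, Matrix.mul_apply]
  apply Finset.sum_eq_zero
  intro k _
  by_cases hk : k = b
  · subst hk; rw [hx i hi, zero_mul]
  · rw [hy k hk, mul_zero]

theorem fixB_of_mulVec {b : Fin n} {x : GL (Fin n) F} (c : F)
    (h : (x : Matrix (Fin n) (Fin n) F) *ᵥ (ev b : Fin n → F) = c • (ev b : Fin n → F)) :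
    FixB b x := by
  intro i hi
  have h1 := congrFun h i
  rw [mulVec_ev] at h1
  simp only [Pi.smul_apply, smul_eq_mul, ev, Pi.single_apply, if_neg hi, mul_zero] at h1
  exact h1

theorem fixB_diag_ne {b : Fin n} {x : GL (Fin n) F} (hx : FixB b x) :
    (x : Matrix (Fin n) (Fin n) F) b b ≠ 0 := by
  intro h0
  have h1 := fixB_mulVec hx
  rw [h0, zero_smul] at h1
  refine GL_mulVec_ne_zero x (w := (ev b : Fin n → F)) ?_ h1
  intro h2
  have := congrFun h2 b
  simp [ev] at this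

/-- the set of images of basis vectors (other than the `b`-th) under elements of `X` fixing the
line of the `b`-th basis vector -/
def Om (X : Subgroup (GL (Fin n) F)) (b : Fin n) : Set (Fin n → F) :=
  {u | ∃ x ∈ X, FixB b x ∧ ∃ a, a ≠ b ∧ u = (x : Matrix (Fin n) (Fin n) F) *ᵥ (ev a : Fin n → F)}

theorem om_mulVec {X : Subgroup (GL (Fin n) F)} {b : Fin n} {u : Fin n → F} (hu : u ∈ Om X b)
    {h : GL (Fin n) F} (hh : h ∈ X) (hfh : FixB b h) :
    (h : Matrix (Fin n) (Fin n) F) *ᵥ u ∈ Om X b := by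
  obtain ⟨x, hx, hfx, a, hab, rfl⟩ := hu
  refine ⟨h * x, X.mul_mem hh hx, fixB_mul hfh hfx, a, hab, ?_⟩
  rw [Units.val_mul, Matrix.mulVec_mulVec]

include hF in
theorem om_norm {X : Subgroup (GL (Fin n) F)} (hX : Ctx n F q X) {b : Fin n} {u : Fin n → F}
    (hu : u ∈ Om X b) : hermForm n F q u u = 1 := by
  obtain ⟨x, hx, hfx, a, hab, rfl⟩ := hu
  rw [GU_herm (hX.le hx).1, hermForm_single_left]
  simp [ev]

include hF in
theorem fixB_diag_mu {b : Fin n} {x : GL (Fin n) F} (hxU : x ∈ Cfsg.GU n F q) (hx : FixB b x) :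
    ((x : Matrix (Fin n) (Fin n) F) b b) ^ (q + 1) = 1 := by
  have h1 := GU_col_orth hF hxU b b
  rw [if_pos rfl] at h1
  rw [Finset.sum_eq_single b (fun k _ hk => by rw [hx k hk, zero_mul]) (by simp)] at h1
  rw [pow_succ']
  exact h1

include hF in
theorem om_b {X : Subgroup (GL (Fin n) F)} (hX : Ctx n F q X) {b : Fin n} {u : Fin n → F}
    (hu : u ∈ Om X b) : u b = 0 := by
  obtain ⟨x, hx, hfx, a, hab, rfl⟩ := hu
  have hxU := (hX.le hx).1
  rw [mulVec_ev]
  show (x : Matrix (Fin n) (Fin n) F) b a = 0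
  have h1 := GU_col_orth hF hxU a b
  rw [if_neg hab] at h1
  rw [Finset.sum_eq_single b (fun k _ hk => by
    rw [hfx k hk, zero_pow (q_ne_zero hF), mul_zero]) (by simp)] at h1
  exact (mul_eq_zero.mp h1).resolve_right (pow_ne_zero _ (fixB_diag_ne hfx))

include hF in
/-- the quasi-reflection attached to `u ∈ Om X b` and `l ∈ μ_{q+1}` -/
theorem rho {X : Subgroup (GL (Fin n) F)} (hX : Ctx n F q X) {b : Fin n} {u : Fin n → F}
    (hu : u ∈ Om X b) {l : F} (hl : l ^ (q + 1) = 1) :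
    ∃ r ∈ X, ∀ y : Fin n → F, (r : Matrix (Fin n) (Fin n) F) *ᵥ y =
      y + ((l - 1) * hermForm n F q y u) • u + ((l⁻¹ - 1) * y b) • (ev b : Fin n → F) := by
  obtain ⟨x, hx, hfx, a, hab, rfl⟩ := hu
  have hxU := (hX.le hx).1
  refine ⟨x * dgm (d2 a b l) (d2_mu a b hl) * x⁻¹,
    X.mul_mem (X.mul_mem hx (dgm_mem hF hX _ _ (d2_prod a b hab (mu_ne_zero hl)))) (X.inv_mem hx),
    fun y => ?_⟩
  set z : Fin n → F := ((x⁻¹ : GL (Fin n) F) : Matrix (Fin n) (Fin n) F) *ᵥ y with hz
  have hxz : (x : Matrix (Fin n) (Fin n) F) *ᵥ z = y := by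
    rw [hz, Matrix.mulVec_mulVec, ← Units.val_mul, mul_inv_cancel, Units.val_one, Matrix.one_mulVec]
  have hza : z a = hermForm n F q y ((x : Matrix (Fin n) (Fin n) F) *ᵥ (ev a : Fin n → F)) := by
    rw [hz, mulVec_ev]
    unfold hermForm
    simp only [Matrix.mulVec, dotProduct]
    exact Finset.sum_congr rfl fun j _ => by rw [GU_inv_apply hF hxU, mul_comm]
  have hzb : z b = ((x : Matrix (Fin n) (Fin n) F) b b) ^ q * y b := by
    rw [hz]
    simp only [Matrix.mulVec, dotProduct]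
    rw [Finset.sum_eq_single b (fun j _ hj => by
      rw [GU_inv_apply hF hxU, hfx j hj, zero_pow (q_ne_zero hF), zero_mul]) (by simp)]
    rw [GU_inv_apply hF hxU]
  have hd : ((dgm (d2 a b l) (d2_mu a b hl) : GL (Fin n) F) : Matrix (Fin n) (Fin n) F) *ᵥ z =
      z + ((l - 1) * z a) • (ev a : Fin n → F) + ((l⁻¹ - 1) * z b) • (ev b : Fin n → F) := by
    rw [dgm_mulVec]
    funext k
    simp only [Pi.add_apply, Pi.smul_apply, smul_eq_mul, ev, Pi.single_apply, d2]
    by_cases hka : k = a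
    · subst hka
      rw [if_pos rfl, if_pos rfl, if_neg hab]
      ring
    · rw [if_neg hka, if_neg hka]
      by_cases hkb : k = b
      · subst hkb
        rw [if_pos rfl, if_pos rfl]
        ring
      · rw [if_neg hkb, if_neg hkb]
        ring
  rw [Units.val_mul, Units.val_mul, ← Matrix.mulVec_mulVec, ← Matrix.mulVec_mulVec, ← hz, hd,
    Matrix.mulVec_add, Matrix.mulVec_add, Matrix.mulVec_smul, Matrix.mulVec_smul, hxz,
    fixB_mulVec hfx, hza, hzb, smul_smul]
  have hmu := fixB_diag_mu hF hxU hfx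
  congr 2
  rw [pow_succ] at hmu
  linear_combination ((l⁻¹ - 1) * y b) * hmu

end Cfsg.Agent.Lib.Helper8.UM
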