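import Mathlib
import Cfsg.Prelude
import Cfsg.Agent.Lib.Helper8.UM14

set_option autoImplicit false
set_option linter.unusedVariables false
set_option linter.unusedSectionVars false
set_option linter.style.longLine false
set_option maxHeartbeats 800000

/-! Part I': closure properties of `Om`. -/

namespace Cfsg.Agent.Lib.Helper8.UM

open Matrix Cfsg.Agent.Lib.Helper5 Cfsg.Agent.Lib.Helper5.Herm
open scoped Classical

variable {F : Type*} [Field F] [Fintype F] {q : ℕ} (hF : Fintype.card F = q ^ 2) {n : ℕ}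

include hF in
theorem rho' {X : Subgroup (GL (Fin n) F)} (hX : Ctx n F q X) {b : Fin n} {u : Fin n → F}
    (hu : u ∈ Om X b) {l : F} (hl : l ^ (q + 1) = 1) :
    ∃ r ∈ X, FixB b r ∧ ∀ y : Fin n → F, (r : Matrix (Fin n) (Fin n) F) *ᵥ y =
      y + ((l - 1) * hermForm n F q y u) • u + ((l⁻¹ - 1) * y b) • (ev b : Fin n → F) := by
  obtain ⟨r, hr, hry⟩ := rho hF hX hu hl
  refine ⟨r, hr, fixB_of_mulVec l⁻¹ ?_, hry⟩
  rw [hry, hermForm_single_left, om_b hF hX hu, zero_pow (q_ne_zero hF), mul_zero, zero_smul,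
    add_zero]
  funext k
  simp only [Pi.add_apply, Pi.smul_apply, smul_eq_mul, ev, Pi.single_apply]
  by_cases hk : k = b
  · subst hk; simp
  · simp [hk]

include hF in
/-- `Om` is stable under diagonal `μ`-valued scalings -/
theorem om_diag {X : Subgroup (GL (Fin n) F)} (hX : Ctx n F q X) {b : Fin n} {u : Fin n → F}
    (hu : u ∈ Om X b) (τ : Fin n → F) (hτ : ∀ k, τ k ^ (q + 1) = 1) :
    (fun k => τ k * u k) ∈ Om X b := by
  set P := ∏ k ∈ Finset.univ.erase b, τ k with hP
  have hPmu : P ^ (q + 1) = 1 := prod_mu _ _ (fun i _ => hτ i)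
  set τ' : Fin n → F := Function.update τ b P⁻¹ with hτ'
  have hτ'mu : ∀ k, τ' k ^ (q + 1) = 1 := by
    intro k
    by_cases hk : k = b
    · subst hk; rw [hτ', Function.update_self]; exact mu_inv hPmu
    · rw [hτ', Function.update_of_ne hk]; exact hτ k
  have hprod : ∏ k, τ' k = 1 := by
    rw [← Finset.mul_prod_erase Finset.univ τ' (Finset.mem_univ b)]
    have h1 : ∏ k ∈ Finset.univ.erase b, τ' k = P :=
      Finset.prod_congr rfl (fun k hk => by
        rw [hτ', Function.update_of_ne (Finset.ne_of_mem_erase hk)])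
    rw [h1, hτ', Function.update_self, inv_mul_cancel₀ (mu_ne_zero hPmu)]
  have h1 := om_mulVec hu (dgm_mem hF hX τ' hτ'mu hprod) (fun i hi => by rw [dgm_apply, if_neg hi])
  rw [dgm_mulVec] at h1
  have h2 : (fun k => τ k * u k) = fun a => τ' a * u a := by
    funext k
    by_cases hk : k = b
    · subst hk; rw [om_b hF hX hu, mul_zero, mul_zero]
    · rw [hτ', Function.update_of_ne hk]
  rw [h2]
  exact h1

include hF in
/-- scaling one coordinate -/
theorem om_sc {X : Subgroup (GL (Fin n) F)} (hX : Ctx n F q X) {b : Fin n} {u : Fin n → F}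
    (hu : u ∈ Om X b) (k₀ : Fin n) {l : F} (hl : l ^ (q + 1) = 1) :
    (fun k => if k = k₀ then l * u k else u k) ∈ Om X b := by
  have h1 := om_diag hF hX hu (fun k => if k = k₀ then l else 1) (fun k => by
    by_cases hk : k = k₀
    · rw [if_pos hk]; exact hl
    · rw [if_neg hk]; exact one_pow _)
  have h2 : (fun k => if k = k₀ then l * u k else u k) =
      fun k => (if k = k₀ then l else 1) * u k := by
    funext k
    by_cases hk : k = k₀
    · rw [if_pos hk, if_pos hk]
    · rw [if_neg hk, if_neg hk, one_mul]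
  rw [h2]
  exact h1

include hF in
/-- the cutting lemma -/
theorem om_cut {X : Subgroup (GL (Fin n) F)} (hX : Ctx n F q X) {b : Fin n} {u : Fin n → F}
    (hu : u ∈ Om X b) (τ : Fin n → F) (hτ : ∀ k, τ k ^ (q + 1) = 1)
    (h1 : ∑ k, (1 - τ k) ^ (q + 1) * (u k) ^ (q + 1) = 1) :
    (fun k => (τ k - 1) * u k) ∈ Om X b := by
  have hw := om_diag hF hX hu τ hτ
  have hnorm := om_norm hF hX hu
  obtain ⟨c, hc⟩ : ∃ c, c = hermForm n F q (fun k => τ k * u k) u := ⟨_, rfl⟩
  have hcsum : c = ∑ k, τ k * (u k) ^ (q + 1) := by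
    rw [hc]
    unfold hermForm
    exact Finset.sum_congr rfl fun k _ => by ring
  have hcq : c ^ q = ∑ k, (τ k)⁻¹ * (u k) ^ (q + 1) := by
    rw [hcsum, pow_q_sum hF]
    exact Finset.sum_congr rfl fun k _ => by
      rw [mul_pow, mu_conj (hτ k), SUCentres.pow_q_norm hF]
  have h2 : ∑ k, (u k) ^ (q + 1) = 1 := by
    rw [← hnorm]
    unfold hermForm
    exact Finset.sum_congr rfl fun k _ => by ring
  have hcc : c + c ^ q = 1 := by
    have h3 : ∑ k, (1 - τ k) ^ (q + 1) * (u k) ^ (q + 1) =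
        2 * ∑ k, (u k) ^ (q + 1) - c - c ^ q := by
      rw [hcq, hcsum, Finset.mul_sum, ← Finset.sum_sub_distrib, ← Finset.sum_sub_distrib]
      exact Finset.sum_congr rfl fun k _ => by
        rw [theta_eq hF (hτ k)]
        ring
    rw [h1, h2] at h3
    linear_combination h3
  have hc0 : c ≠ 0 := by
    intro h0
    rw [h0, zero_pow (q_ne_zero hF), add_zero] at hcc
    exact zero_ne_one hcc
  have hcq0 : c ^ q ≠ 0 := pow_ne_zero _ hc0
  have hlmu : (1 - c⁻¹) ^ (q + 1) = 1 := by
    rw [pow_succ, pow_q_sub hF, one_pow, inv_pow]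
    have h4 : c ^ q = 1 - c := by linear_combination hcc
    have h5 : (1 - c) ≠ 0 := by rw [← h4]; exact hcq0
    rw [h4]
    field_simp
    ring
  obtain ⟨r, hr, hfr, hry⟩ := rho' hF hX hu hlmu
  have h5 := om_mulVec hw hr hfr
  rw [hry, ← hc] at h5
  have h6 : (fun k => τ k * u k) + ((1 - c⁻¹ - 1) * c) • u +
      (((1 - c⁻¹)⁻¹ - 1) * (fun k => τ k * u k) b) • (ev b : Fin n → F) =
        fun k => (τ k - 1) * u k := by
    have h7 : (1 - c⁻¹ - 1) * c = -1 := by field_simp; ring
    rw [h7]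
    funext k
    simp only [Pi.add_apply, Pi.smul_apply, smul_eq_mul, om_b hF hX hu, mul_zero, zero_mul,
      add_zero]
    ring
  rw [h6] at h5
  exact h5

end Cfsg.Agent.Lib.Helper8.UM
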