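import Mathlib
import Cfsg.Prelude
import Cfsg.Agent.Lib.Helper8.UM15

set_option autoImplicit false
set_option linter.unusedVariables false
set_option linter.unusedSectionVars false
set_option linter.style.longLine false
set_option maxHeartbeats 800000

/-! Part I': enlarging supports in `Om`. -/

namespace Cfsg.Agent.Lib.Helper8.UM

open Matrix Cfsg.Agent.Lib.Helper5 Cfsg.Agent.Lib.Helper5.Herm
open scoped Classical

variable {F : Type*} [Field F] [Fintype F] {q : ℕ} (hF : Fintype.card F = q ^ 2) {n : ℕ}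

include hF in
theorem neg_one_mu : (-1 : F) ^ (q + 1) = 1 := by
  rw [pow_succ, pow_q_neg_one hF]
  ring

include hF in
theorem exists_mu_ne_one : ∃ t : F, t ^ (q + 1) = 1 ∧ t ≠ 1 := by
  obtain ⟨x, hx, hx2⟩ := HermCenter.exists_norm_one_sq_ne hF
  refine ⟨x, hx, ?_⟩
  intro h
  rw [h, one_pow] at hx2
  exact hx2 rfl

include hF in
theorem exists_mu_avoid (hq : 3 ≤ q) (a b c : F) :
    ∃ l : F, l ^ (q + 1) = 1 ∧ l ≠ a ∧ l ≠ b ∧ l ≠ c := by
  have h1 : ({a, b, c} : Finset F).card < (muF F q).card := by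
    rw [card_muF hF]
    have := Finset.card_le_three (a := a) (b := b) (c := c)
    omega
  obtain ⟨l, hl, hl'⟩ := Finset.exists_mem_notMem_of_card_lt_card h1
  rw [mem_muF] at hl
  simp only [Finset.mem_insert, Finset.mem_singleton, not_or] at hl'
  exact ⟨l, hl, hl'.1, hl'.2.1, hl'.2.2⟩

include hF in
/-- the swap of two coordinates (with a sign at `b`) preserves `Om` -/
theorem om_swap {X : Subgroup (GL (Fin n) F)} (hX : Ctx n F q X) {b : Fin n} {u : Fin n → F}
    (hu : u ∈ Om X b) (k₁ t : Fin n) (hk₁t : k₁ ≠ t) (hk₁b : k₁ ≠ b) (htb : t ≠ b) :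
    (fun a => u (Equiv.swap k₁ t a)) ∈ Om X b := by
  set τv : Fin n → F := fun k => if k = b then -1 else 1 with hτv
  have hτvmu : ∀ k, τv k ^ (q + 1) = 1 := by
    intro k
    rw [hτv]
    by_cases hk : k = b
    · simp only [if_pos hk]; exact neg_one_mu hF
    · simp only [if_neg hk]; exact one_pow _
  have hdet : ((Equiv.Perm.sign (Equiv.swap k₁ t) : ℤ) : F) * ∏ i, τv i = 1 := by
    rw [Equiv.Perm.sign_swap hk₁t, hτv, Finset.prod_ite_eq' Finset.univ b (fun _ => (-1 : F))]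
    simp
  have hmem := mon_mem hF hX (Equiv.swap k₁ t) τv hτvmu hdet
  have hsb : Equiv.swap k₁ t b = b := Equiv.swap_apply_of_ne_of_ne (Ne.symm hk₁b) (Ne.symm htb)
  have hfix : FixB b (mon (Equiv.swap k₁ t) τv hτvmu) := by
    intro i hi
    rw [mon_apply, hsb, if_neg hi]
  have h1 := om_mulVec hu hmem hfix
  rw [mon_mulVec, Equiv.swap_inv] at h1
  have h2 : (fun a => u (Equiv.swap k₁ t a)) =
      fun a => τv (Equiv.swap k₁ t a) * u (Equiv.swap k₁ t a) := by
    funext a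
    by_cases ha : Equiv.swap k₁ t a = b
    · rw [ha, om_b hF hX hu, mul_zero]
    · rw [hτv]
      simp only [if_neg ha, one_mul]
  rw [h2]
  exact h1

include hF in
/-- growing the support by one coordinate -/
theorem grow (hq : 3 ≤ q) {X : Subgroup (GL (Fin n) F)} (hX : Ctx n F q X) {b : Fin n}
    {u : Fin n → F} (hu : u ∈ Om X b) (k₁ k₂ t : Fin n) (h12 : k₁ ≠ k₂) (h1 : u k₁ ≠ 0)
    (h2 : u k₂ ≠ 0) (ht : u t = 0) (htb : t ≠ b) :
    ∃ w ∈ Om X b, w t ≠ 0 ∧ ∀ k, u k ≠ 0 → w k ≠ 0 := by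
  have hub := om_b hF hX hu
  have hk₁b : k₁ ≠ b := fun h => h1 (h ▸ hub)
  have hk₂b : k₂ ≠ b := fun h => h2 (h ▸ hub)
  have hk₁t : k₁ ≠ t := fun h => h1 (h ▸ ht)
  have hk₂t : k₂ ≠ t := fun h => h2 (h ▸ ht)
  have hnorm := om_norm hF hX hu
  -- choose the torus element
  obtain ⟨τ, hτ, hc₁⟩ : ∃ τ : F, τ ^ (q + 1) = 1 ∧
      1 - (u k₁) ^ (q + 1) + (τ - 1) * (u k₂) ^ (q + 1) ≠ 0 := by
    by_cases h : 1 - (u k₁) ^ (q + 1) = 0
    · obtain ⟨τ, hτ, hτ1⟩ := exists_mu_ne_one hF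
      refine ⟨τ, hτ, ?_⟩
      rw [h, zero_add]
      exact mul_ne_zero (sub_ne_zero.mpr hτ1) (pow_ne_zero _ h2)
    · exact ⟨1, one_pow _, by rw [sub_self, zero_mul, add_zero]; exact h⟩
  set c₁ := 1 - (u k₁) ^ (q + 1) + (τ - 1) * (u k₂) ^ (q + 1) with hc₁def
  have hu₁ := om_sc hF hX hu k₂ hτ
  have hu' := om_swap hF hX hu₁ k₁ t hk₁t hk₁b htb
  set u' : Fin n → F := fun a => (fun k => if k = k₂ then τ * u k else u k) (Equiv.swap k₁ t a)
    with hu'def
  have hu't : u' t = u k₁ := by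
    rw [hu'def]
    simp only [Equiv.swap_apply_right, if_neg h12]
  have hu'k₁ : u' k₁ = 0 := by
    rw [hu'def]
    simp only [Equiv.swap_apply_left, if_neg (Ne.symm hk₂t), ht]
  have hu'k₂ : u' k₂ = τ * u k₂ := by
    rw [hu'def]
    simp only [Equiv.swap_apply_of_ne_of_ne (Ne.symm h12) hk₂t, if_true]
  have hu'o : ∀ k, k ≠ k₁ → k ≠ k₂ → k ≠ t → u' k = u k := by
    intro k hk1 hk2 hkt
    rw [hu'def]
    simp only [Equiv.swap_apply_of_ne_of_ne hk1 hkt, if_neg hk2]
  have hlin : u' = u + ((τ - 1) * u k₂) • (ev k₂ : Fin n → F) + (u k₁) • (ev t : Fin n → F) +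
      (-(u k₁)) • (ev k₁ : Fin n → F) := by
    funext a
    simp only [Pi.add_apply, Pi.smul_apply, smul_eq_mul, ev, Pi.single_apply]
    by_cases hat : a = t
    · subst hat
      rw [hu't, if_neg (Ne.symm hk₂t), if_pos rfl, if_neg (Ne.symm hk₁t), ht]
      ring
    · by_cases hak₁ : a = k₁
      · subst hak₁
        rw [hu'k₁, if_neg h12, if_neg hk₁t, if_pos rfl]
        ring
      · by_cases hak₂ : a = k₂
        · subst hak₂
          rw [hu'k₂, if_pos rfl, if_neg hat, if_neg hak₁]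
          ring
        · rw [hu'o a hak₁ hak₂ hat, if_neg hak₂, if_neg hat, if_neg hak₁]
          ring
  have hform : hermForm n F q u' u = c₁ := by
    rw [hlin, hermForm_add_left, hermForm_add_left, hermForm_add_left, hermForm_smul_left,
      hermForm_smul_left, hermForm_smul_left, hermForm_single_left, hermForm_single_left,
      hermForm_single_left, hnorm, ht, zero_pow (q_ne_zero hF), hc₁def]
    ring
  -- choose the reflection parameter
  obtain ⟨l, hl, hl1, hl2, hl3⟩ := exists_mu_avoid hF hq 1 (1 - τ / c₁) (1 - c₁⁻¹)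
  obtain ⟨r, hr, hfr, hry⟩ := rho' hF hX hu hl
  have hw := om_mulVec hu' hr hfr
  rw [hry, hform, om_b hF hX hu', mul_zero, zero_smul, add_zero] at hw
  have hm0 : (l - 1) * c₁ ≠ 0 := mul_ne_zero (sub_ne_zero.mpr hl1) hc₁
  have hmτ : τ + (l - 1) * c₁ ≠ 0 := by
    intro h
    apply hl2
    field_simp
    linear_combination h
  have hm1 : 1 + (l - 1) * c₁ ≠ 0 := by
    intro h
    apply hl3
    field_simp
    linear_combination h
  refine ⟨_, hw, ?_, ?_⟩
  · simp only [Pi.add_apply, Pi.smul_apply, smul_eq_mul, ht, mul_zero, add_zero, hu't]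
    exact h1
  · intro k hk
    have hkt : k ≠ t := fun h => hk (h ▸ ht)
    simp only [Pi.add_apply, Pi.smul_apply, smul_eq_mul]
    by_cases hk1 : k = k₁
    · subst hk1
      rw [hu'k₁, zero_add]
      exact mul_ne_zero hm0 hk
    · by_cases hk2 : k = k₂
      · subst hk2
        rw [hu'k₂, ← add_mul]
        exact mul_ne_zero hmτ hk
      · rw [hu'o k hk1 hk2 hkt]
        have : u k + (l - 1) * c₁ * u k = (1 + (l - 1) * c₁) * u k := by ring
        rw [this]
        exact mul_ne_zero hm1 hk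

end Cfsg.Agent.Lib.Helper8.UM
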