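import Mathlib
import Cfsg.Prelude
import Cfsg.Agent.Lib.Helper8.UM16

set_option autoImplicit false
set_option linter.unusedVariables false
set_option linter.unusedSectionVars false
set_option linter.style.longLine false
set_option maxHeartbeats 800000

/-! Part I': four nonzero coordinates and the splitting step. -/

namespace Cfsg.Agent.Lib.Helper8.UM

open Matrix Cfsg.Agent.Lib.Helper5 Cfsg.Agent.Lib.Helper5.Herm
open scoped Classical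

variable {F : Type*} [Field F] [Fintype F] {q : ℕ} (hF : Fintype.card F = q ^ 2) {n : ℕ}

/-- the support of a vector -/
noncomputable def supp (u : Fin n → F) : Finset (Fin n) := Finset.univ.filter (fun k => u k ≠ 0)

theorem mem_supp {u : Fin n → F} {k : Fin n} : k ∈ supp u ↔ u k ≠ 0 := by
  unfold supp
  simp

include hF in
theorem grow_card (hq : 3 ≤ q) {X : Subgroup (GL (Fin n) F)} (hX : Ctx n F q X) {b : Fin n}
    {u : Fin n → F} (hu : u ∈ Om X b) (h2 : 2 ≤ (supp u).card) (hn : (supp u).card + 2 ≤ n) :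
    ∃ w ∈ Om X b, (supp u).card + 1 ≤ (supp w).card := by
  obtain ⟨k₁, hk₁, k₂, hk₂, h12⟩ := Finset.one_lt_card.mp (by omega : 1 < (supp u).card)
  rw [mem_supp] at hk₁ hk₂
  have hcard : (insert b (supp u)).card < (Finset.univ : Finset (Fin n)).card := by
    rw [Finset.card_univ, Fintype.card_fin]
    have := Finset.card_insert_le b (supp u)
    omega
  obtain ⟨t, _, ht⟩ := Finset.exists_mem_notMem_of_card_lt_card hcard
  rw [Finset.mem_insert, not_or, mem_supp, not_not] at ht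
  obtain ⟨w, hw, hwt, hwk⟩ := grow hF hq hX hu k₁ k₂ t h12 hk₁ hk₂ ht.2 ht.1
  refine ⟨w, hw, ?_⟩
  have hsub : insert t (supp u) ⊆ supp w := by
    intro k hk
    rw [Finset.mem_insert] at hk
    rw [mem_supp]
    rcases hk with rfl | hk
    · exact hwt
    · exact hwk k (mem_supp.mp hk)
  have h3 : (insert t (supp u)).card = (supp u).card + 1 :=
    Finset.card_insert_of_notMem (by rw [mem_supp, not_not]; exact ht.2)
  rw [← h3]
  exact Finset.card_le_card hsub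

include hF in
theorem om_four (hq : 3 ≤ q) (hn : 13 ≤ n) {X : Subgroup (GL (Fin n) F)} (hX : Ctx n F q X)
    {b : Fin n} {u : Fin n → F} (hu : u ∈ Om X b) (h2 : 2 ≤ (supp u).card) :
    ∃ w ∈ Om X b, ∃ k₁ k₂ k₃ k₄ : Fin n, k₁ ≠ k₂ ∧ k₁ ≠ k₃ ∧ k₁ ≠ k₄ ∧ k₂ ≠ k₃ ∧ k₂ ≠ k₄ ∧
      k₃ ≠ k₄ ∧ w k₁ ≠ 0 ∧ w k₂ ≠ 0 ∧ w k₃ ≠ 0 ∧ w k₄ ≠ 0 := by
  obtain ⟨w, hw, hw4⟩ : ∃ w ∈ Om X b, 4 ≤ (supp w).card := by
    by_cases h4 : 4 ≤ (supp u).card
    · exact ⟨u, hu, h4⟩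
    · obtain ⟨w₁, hw₁, hc₁⟩ := grow_card hF hq hX hu h2 (by omega)
      by_cases h4' : 4 ≤ (supp w₁).card
      · exact ⟨w₁, hw₁, h4'⟩
      · obtain ⟨w₂, hw₂, hc₂⟩ := grow_card hF hq hX hw₁ (by omega) (by omega)
        exact ⟨w₂, hw₂, by omega⟩
  have hc : Fintype.card (Fin 4) ≤ Fintype.card ↥(supp w) := by
    rw [Fintype.card_fin, Fintype.card_coe]
    exact hw4
  obtain ⟨e⟩ := Function.Embedding.nonempty_of_card_le hc
  have hne : ∀ i j : Fin 4, i ≠ j → ((e i : ↥(supp w)) : Fin n) ≠ ((e j : ↥(supp w)) : Fin n) := by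
    intro i j hij h
    exact hij (e.injective (Subtype.ext h))
  refine ⟨w, hw, (e 0 : ↥(supp w)), (e 1 : ↥(supp w)), (e 2 : ↥(supp w)), (e 3 : ↥(supp w)),
    hne 0 1 (by decide), hne 0 2 (by decide), hne 0 3 (by decide), hne 1 2 (by decide),
    hne 1 3 (by decide), hne 2 3 (by decide), mem_supp.mp (e 0).2, mem_supp.mp (e 1).2,
    mem_supp.mp (e 2).2, mem_supp.mp (e 3).2⟩

theorem sum_four (g : Fin n → F) (k₁ k₂ k₃ k₄ : Fin n) (h12 : k₁ ≠ k₂) (h13 : k₁ ≠ k₃)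
    (h14 : k₁ ≠ k₄) (h23 : k₂ ≠ k₃) (h24 : k₂ ≠ k₄) (h34 : k₃ ≠ k₄)
    (h : ∀ k, k ≠ k₁ → k ≠ k₂ → k ≠ k₃ → k ≠ k₄ → g k = 0) :
    ∑ k, g k = g k₁ + g k₂ + g k₃ + g k₄ := by
  have hsub : ({k₁, k₂, k₃, k₄} : Finset (Fin n)) ⊆ Finset.univ := Finset.subset_univ _
  rw [← Finset.sum_subset hsub (fun k _ hk => by
    simp only [Finset.mem_insert, Finset.mem_singleton, not_or] at hk
    exact h k hk.1 hk.2.1 hk.2.2.1 hk.2.2.2)]
  rw [Finset.sum_insert (by simp [h12, h13, h14]), Finset.sum_insert (by simp [h23, h24]),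
    Finset.sum_insert (by simp [h34]), Finset.sum_singleton]
  ring

include hF in
theorem sub_one_pow (t : F) : (t - 1) ^ (q + 1) = (1 - t) ^ (q + 1) := by
  rw [← neg_sub, neg_pow, neg_one_mu hF, one_mul]

include hF in
/-- the splitting step -/
theorem om_split {X : Subgroup (GL (Fin n) F)} (hX : Ctx n F q X) {b : Fin n} {u : Fin n → F}
    (hu : u ∈ Om X b) (k₁ k₂ k₃ k₄ : Fin n) (h12 : k₁ ≠ k₂) (h13 : k₁ ≠ k₃) (h14 : k₁ ≠ k₄)
    (h23 : k₂ ≠ k₃) (h24 : k₂ ≠ k₄) (h34 : k₃ ≠ k₄) (h1 : u k₁ ≠ 0) (h2 : u k₂ ≠ 0)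
    (h3 : u k₃ ≠ 0) (h4 : u k₄ ≠ 0) :
    ∃ v ∈ Om X b, (∀ k, k ≠ k₁ → k ≠ k₂ → k ≠ k₃ → k ≠ k₄ → v k = 0) ∧ v k₁ ≠ 0 ∧ v k₂ ≠ 0 ∧
      v k₃ ≠ 0 ∧ (v k₁) ^ (q + 1) + (v k₂) ^ (q + 1) = 0 := by
  obtain ⟨t₁, t₂, ht₁, ht₂, ht₁1, ht₂1, hz⟩ := exists_theta_zero hF ((u k₁) ^ (q + 1))
    ((u k₂) ^ (q + 1)) (pow_ne_zero _ h1) (pow_ne_zero _ h2) (SUCentres.pow_q_norm hF _)
    (SUCentres.pow_q_norm hF _)
  obtain ⟨t₃, t₄, ht₃, ht₄, ht₃1, ho⟩ := exists_theta_one hF ((u k₃) ^ (q + 1))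
    ((u k₄) ^ (q + 1)) (pow_ne_zero _ h3) (pow_ne_zero _ h4) (SUCentres.pow_q_norm hF _)
    (SUCentres.pow_q_norm hF _)
  set τ : Fin n → F := fun k => if k = k₁ then t₁ else if k = k₂ then t₂ else
    if k = k₃ then t₃ else if k = k₄ then t₄ else 1 with hτ
  have hτ1 : τ k₁ = t₁ := by rw [hτ]; simp only [if_true]
  have hτ2 : τ k₂ = t₂ := by rw [hτ]; simp only [if_neg (Ne.symm h12), if_true]
  have hτ3 : τ k₃ = t₃ := by
    rw [hτ]; simp only [if_neg (Ne.symm h13), if_neg (Ne.symm h23), if_true]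
  have hτ4 : τ k₄ = t₄ := by
    rw [hτ]; simp only [if_neg (Ne.symm h14), if_neg (Ne.symm h24), if_neg (Ne.symm h34), if_true]
  have hτo : ∀ k, k ≠ k₁ → k ≠ k₂ → k ≠ k₃ → k ≠ k₄ → τ k = 1 := by
    intro k hk1 hk2 hk3 hk4
    rw [hτ]; simp only [if_neg hk1, if_neg hk2, if_neg hk3, if_neg hk4]
  have hτmu : ∀ k, τ k ^ (q + 1) = 1 := by
    intro k
    by_cases hk1 : k = k₁
    · rw [hk1, hτ1]; exact ht₁
    by_cases hk2 : k = k₂
    · rw [hk2, hτ2]; exact ht₂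
    by_cases hk3 : k = k₃
    · rw [hk3, hτ3]; exact ht₃
    by_cases hk4 : k = k₄
    · rw [hk4, hτ4]; exact ht₄
    rw [hτo k hk1 hk2 hk3 hk4]; exact one_pow _
  have hsum : ∑ k, (1 - τ k) ^ (q + 1) * (u k) ^ (q + 1) = 1 := by
    rw [sum_four _ k₁ k₂ k₃ k₄ h12 h13 h14 h23 h24 h34 (fun k hk1 hk2 hk3 hk4 => by
      rw [hτo k hk1 hk2 hk3 hk4, sub_self, zero_pow (Nat.succ_ne_zero q), zero_mul]),
      hτ1, hτ2, hτ3, hτ4]
    linear_combination hz + ho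
  refine ⟨_, om_cut hF hX hu τ hτmu hsum, ?_, ?_, ?_, ?_, ?_⟩
  · intro k hk1 hk2 hk3 hk4
    simp only [hτo k hk1 hk2 hk3 hk4, sub_self, zero_mul]
  · simp only [hτ1]
    exact mul_ne_zero (sub_ne_zero.mpr ht₁1) h1
  · simp only [hτ2]
    exact mul_ne_zero (sub_ne_zero.mpr ht₂1) h2
  · simp only [hτ3]
    exact mul_ne_zero (sub_ne_zero.mpr ht₃1) h3
  · simp only [hτ1, hτ2, mul_pow, sub_one_pow hF]
    exact hz

end Cfsg.Agent.Lib.Helper8.UM
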