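import Mathlib
import Cfsg.Prelude
import Cfsg.Agent.Lib.Helper8.UM17

set_option autoImplicit false
set_option linter.unusedVariables false
set_option linter.unusedSectionVars false
set_option linter.style.longLine false
set_option maxHeartbeats 800000

/-! Part I': Eichler elements in `X` and the centre criterion. -/

namespace Cfsg.Agent.Lib.Helper8.UM

open Matrix Cfsg.Agent.Lib.Helper5 Cfsg.Agent.Lib.Helper5.Herm Cfsg.Agent.Lib.Helper5.HermTv
  Cfsg.Agent.Lib.Helper5.HermEich Cfsg.Agent.Lib.Helper5.SUCentres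
open scoped Classical

variable {F : Type*} [Field F] [Fintype F] {q : ℕ} (hF : Fintype.card F = q ^ 2) {n : ℕ}

include hF in
theorem ehyp_of {v x : Fin n → F} (hv : hermForm n F q v v = 1) (hx : hermForm n F q x x = 0)
    (hvx : hermForm n F q v x = 0) {l : F} (hl : l ^ (q + 1) = 1) :
    EHyp n q x ((1 - l) • v) (l⁻¹ - 1) where
  hx := hx
  hwx := by rw [hermForm_smul_left, hvx, mul_zero]
  hb := by
    rw [hermForm_smul_left, hermForm_smul_right, hv, mul_one, pow_q_sub hF, one_pow, inv_pow,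
      mu_conj hl, inv_inv]
    have h1 : (1 - l) * (1 - l⁻¹) = 2 - l - l⁻¹ := by
      have := mu_ne_zero hl
      field_simp
      ring
    rw [pow_q_sub hF, one_pow, mu_conj hl] at *
    linear_combination h1

include hF in
/-- the Eichler element attached to `v, v + x ∈ Om` lies in `X` -/
theorem eich_mem {X : Subgroup (GL (Fin n) F)} (hX : Ctx n F q X) {b : Fin n} {v x : Fin n → F}
    (hv : v ∈ Om X b) (hx : hermForm n F q x x = 0) (hvx : hermForm n F q v x = 0)
    (hvx' : v + x ∈ Om X b) {l : F} (hl : l ^ (q + 1) = 1)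
    (H : EHyp n q x ((1 - l) • v) (l⁻¹ - 1)) :
    ((eich hF n x ((1 - l) • v) (l⁻¹ - 1) H : ↥(Cfsg.GU n F q)) : GL (Fin n) F) ∈ X := by
  obtain ⟨r₁, hr₁, -, hry₁⟩ := rho' hF hX hv hl
  obtain ⟨r₂, hr₂, -, hry₂⟩ := rho' hF hX hvx' (mu_inv hl)
  have hR : r₁ * r₂ ∈ X := X.mul_mem hr₁ hr₂
  have hRU : r₁ * r₂ ∈ Cfsg.GU n F q := (hX.le hR).1
  have hl0 := mu_ne_zero hl
  have hvv := om_norm hF hX hv
  have hvb := om_b hF hX hv
  have hvxb := om_b hF hX hvx'
  have hxv : hermForm n F q x v = 0 := herm_symm_zero hF n hvx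
  have key : (⟨r₁ * r₂, hRU⟩ : ↥(Cfsg.GU n F q)) = eich hF n x ((1 - l) • v) (l⁻¹ - 1) H := by
    apply ext_gact
    intro y
    rw [gact_eich hF n x ((1 - l) • v) (l⁻¹ - 1) H y]
    show ((r₁ * r₂ : GL (Fin n) F) : Matrix (Fin n) (Fin n) F) *ᵥ y = _
    rw [Units.val_mul, ← Matrix.mulVec_mulVec, hry₂, inv_inv, hermForm_add_right hF]
    set A := hermForm n F q y v with hA
    set B := hermForm n F q y x with hB
    rw [hry₁]
    have hzv : hermForm n F q (y + ((l⁻¹ - 1) * (A + B)) • (v + x) +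
        ((l - 1) * y b) • (ev b : Fin n → F)) v = A + (l⁻¹ - 1) * (A + B) := by
      rw [hermForm_add_left, hermForm_add_left, hermForm_smul_left, hermForm_smul_left,
        hermForm_add_left, hvv, hxv, hermForm_single_left, hvb, zero_pow (q_ne_zero hF)]
      ring
    have hzb : (y + ((l⁻¹ - 1) * (A + B)) • (v + x) +
        ((l - 1) * y b) • (ev b : Fin n → F)) b = l * y b := by
      have h1 : (v + x) b = 0 := hvxb
      simp only [Pi.add_apply, Pi.smul_apply, smul_eq_mul] at h1 ⊢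
      rw [h1]
      simp only [ev, Pi.single_eq_same]
      ring
    rw [hzv, hzb, hermForm_smul_right, pow_q_sub hF, one_pow, mu_conj hl]
    funext k
    simp only [Pi.add_apply, Pi.smul_apply, smul_eq_mul]
    field_simp
    ring
  rw [← key]
  exact hR

/-- the additive group of parameters of transvections with centre `x` lying in `X` -/
def CC (X : Subgroup (GL (Fin n) F)) (x : Fin n → F) (hx : hermForm n F q x x = 0) :
    AddSubgroup F where
  carrier := {c | c ^ q = -c ∧ ∀ hc : QCond n q x c,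
    ((qtv hF n x c hc : ↥(Cfsg.GU n F q)) : GL (Fin n) F) ∈ X}
  zero_mem' := by
    refine ⟨by rw [zero_pow (q_ne_zero hF), neg_zero], fun hc => ?_⟩
    have h1 : ((qtv hF n x 0 hc : ↥(Cfsg.GU n F q)) : GL (Fin n) F) = 1 := by
      apply Units.ext
      rw [qtv_coe, tv_zero]
      rfl
    rw [h1]
    exact X.one_mem
  add_mem' := by
    intro c d hc hd
    refine ⟨by rw [pow_q_add hF, hc.1, hd.1]; ring, fun hcd => ?_⟩
    have hc' : QCond n q x c := (qcond_iso n hx c).mpr hc.1
    have hd' : QCond n q x d := (qcond_iso n hx d).mpr hd.1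
    have hcd' : QCond n q x (c + d + c * d * hermForm n F q x x) := by
      rw [hx, mul_zero, add_zero]; exact hcd
    have h1 : qtv hF n x (c + d) hcd = qtv hF n x c hc' * qtv hF n x d hd' := by
      rw [qtv_mul hF n x c d hc' hd' hcd']
      exact qtv_congr hF n rfl (by rw [hx, mul_zero, add_zero]) _ _
    rw [h1, Subgroup.coe_mul]
    exact X.mul_mem (hc.2 hc') (hd.2 hd')
  neg_mem' := by
    intro c hc
    refine ⟨by rw [pow_q_neg hF, hc.1], fun hnc => ?_⟩
    have hc' : QCond n q x c := (qcond_iso n hx c).mpr hc.1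
    have h0 : QCond n q x (c + -c + c * -c * hermForm n F q x x) := by
      rw [hx, mul_zero, add_zero, add_neg_cancel]
      unfold QCond
      rw [zero_pow (q_ne_zero hF)]
      ring
    have h1 : qtv hF n x c hc' * qtv hF n x (-c) hnc = 1 := by
      rw [qtv_mul hF n x c (-c) hc' hnc h0]
      apply Subtype.ext
      apply Units.ext
      rw [qtv_coe]
      rw [hx, mul_zero, add_zero, add_neg_cancel, tv_zero]
      rfl
    rw [eq_inv_of_mul_eq_one_right h1, Subgroup.coe_inv]
    exact X.inv_mem (hc.2 hc')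

include hF in
theorem centre_of_theta {X : Subgroup (GL (Fin n) F)} {x : Fin n → F}
    (hx : hermForm n F q x x = 0) (κ₀ : F) (hκ : κ₀ ≠ 0)
    (h : ∀ t : F, t ^ (q + 1) = 1 → t ≠ 1 → ((1 - t) ^ (q + 1) * κ₀) ^ q = -((1 - t) ^ (q + 1) * κ₀) ∧
      ∀ hc : QCond n q x ((1 - t) ^ (q + 1) * κ₀),
        ((qtv hF n x ((1 - t) ^ (q + 1) * κ₀) hc : ↥(Cfsg.GU n F q)) : GL (Fin n) F) ∈ X) :
    IsCentre hF n X x := by
  have hfull := addsub_full hF (CC hF X x hx) (fun c hc => hc.1) κ₀ hκ (fun t ht ht1 => h t ht ht1)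
  refine ⟨hx, fun c hc => ?_⟩
  exact (hfull c ((qcond_iso n hx c).mp hc)).2 hc

end Cfsg.Agent.Lib.Helper8.UM
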