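import Mathlib
import Cfsg.Prelude
import Cfsg.Agent.Lib.Helper8.UM18

set_option autoImplicit false
set_option linter.unusedVariables false
set_option linter.unusedSectionVars false
set_option linter.style.longLine false
set_option maxHeartbeats 1600000

/-! Part I': an isotropic centre of weight two. -/

namespace Cfsg.Agent.Lib.Helper8.UM

open Matrix Cfsg.Agent.Lib.Helper5 Cfsg.Agent.Lib.Helper5.Herm Cfsg.Agent.Lib.Helper5.HermTv
  Cfsg.Agent.Lib.Helper5.HermEich Cfsg.Agent.Lib.Helper5.SUCentres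
open scoped Classical

variable {F : Type*} [Field F] [Fintype F] {q : ℕ} (hF : Fintype.card F = q ^ 2) {n : ℕ}

include hF in
theorem om_centre {X : Subgroup (GL (Fin n) F)} (hX : Ctx n F q X) {b : Fin n} {v : Fin n → F}
    (hv : v ∈ Om X b) (k₁ k₂ k₃ k₄ : Fin n) (h12 : k₁ ≠ k₂) (h13 : k₁ ≠ k₃) (h14 : k₁ ≠ k₄)
    (h23 : k₂ ≠ k₃) (h24 : k₂ ≠ k₄) (h34 : k₃ ≠ k₄)
    (hoff : ∀ k, k ≠ k₁ → k ≠ k₂ → k ≠ k₃ → k ≠ k₄ → v k = 0) (h1 : v k₁ ≠ 0) (h2 : v k₂ ≠ 0)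
    (h3 : v k₃ ≠ 0) (hiso : (v k₁) ^ (q + 1) + (v k₂) ^ (q + 1) = 0) :
    IsCentre hF n X (fun k => if k = k₁ ∨ k = k₂ then v k else 0) := by
  obtain ⟨a, ha⟩ : ∃ a : Fin n → F, a = fun k => if k = k₁ ∨ k = k₂ then v k else 0 := ⟨_, rfl⟩
  rw [← ha]
  have ha1 : a k₁ = v k₁ := by rw [ha]; simp
  have ha2 : a k₂ = v k₂ := by rw [ha]; simp
  have hao : ∀ k, k ≠ k₁ → k ≠ k₂ → a k = 0 := by
    intro k hk1 hk2; rw [ha]; simp [hk1, hk2]
  have hvb := om_b hF hX hv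
  have hvv := om_norm hF hX hv
  have hq0 := q_ne_zero hF
  have haa : hermForm n F q a a = 0 := by
    unfold hermForm
    rw [sum_four _ k₁ k₂ k₃ k₄ h12 h13 h14 h23 h24 h34 (fun k hk1 hk2 _ _ => by
      rw [hao k hk1 hk2, zero_mul]), ha1, ha2, hao k₃ (Ne.symm h13) (Ne.symm h23),
      hao k₄ (Ne.symm h14) (Ne.symm h24), zero_mul, add_zero, add_zero, ← hiso]
    ring
  have hwa : ∀ w : Fin n → F, w k₁ = v k₁ → w k₂ = v k₂ → hermForm n F q w a = 0 := by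
    intro w hw1 hw2
    unfold hermForm
    rw [sum_four _ k₁ k₂ k₃ k₄ h12 h13 h14 h23 h24 h34 (fun k hk1 hk2 _ _ => by
      rw [hao k hk1 hk2, zero_pow hq0, mul_zero]), ha1, ha2, hao k₃ (Ne.symm h13) (Ne.symm h23),
      hao k₄ (Ne.symm h14) (Ne.symm h24), zero_pow hq0, mul_zero, mul_zero, add_zero, add_zero,
      hw1, hw2, ← hiso]
    ring
  obtain ⟨σ, hσ, hσ1⟩ := exists_mu_ne_one hF
  have hx : hermForm n F q ((σ - 1) • a) ((σ - 1) • a) = 0 := by
    rw [hermForm_smul_left, hermForm_smul_right, haa, mul_zero, mul_zero]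
  have hwx : ∀ w : Fin n → F, w k₁ = v k₁ → w k₂ = v k₂ →
      hermForm n F q w ((σ - 1) • a) = 0 := by
    intro w hw1 hw2
    rw [hermForm_smul_right, hwa w hw1 hw2, mul_zero]
  have hplus : ∀ w : Fin n → F, w ∈ Om X b → w k₁ = v k₁ → w k₂ = v k₂ →
      w + (σ - 1) • a ∈ Om X b := by
    intro w hw hw1 hw2
    have h := om_sc hF hX (om_sc hF hX hw k₂ hσ) k₁ hσ
    have e : w + (σ - 1) • a = fun k => if k = k₁ then
        σ * (fun k => if k = k₂ then σ * w k else w k) k else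
          (fun k => if k = k₂ then σ * w k else w k) k := by
      funext k
      simp only [Pi.add_apply, Pi.smul_apply, smul_eq_mul]
      by_cases hk1 : k = k₁
      · subst hk1
        rw [if_pos rfl, if_neg h12, ha1, ← hw1]
        ring
      · rw [if_neg hk1]
        by_cases hk2 : k = k₂
        · subst hk2
          rw [if_pos rfl, ha2, ← hw2]
          ring
        · rw [if_neg hk2, hao k hk1 hk2]
          ring
    rw [e]
    exact h
  obtain ⟨ε, hε, hε2⟩ := HermCenter.exists_norm_one_sq_ne hF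
  have hε0 := mu_ne_zero hε
  obtain ⟨v₂, hv₂def⟩ : ∃ v₂ : Fin n → F, v₂ = fun k => if k = k₃ then ε * v k else v k :=
    ⟨_, rfl⟩
  have hv₂ : v₂ ∈ Om X b := by rw [hv₂def]; exact om_sc hF hX hv k₃ hε
  have hv₂1 : v₂ k₁ = v k₁ := by rw [hv₂def]; simp only [if_neg h13]
  have hv₂2 : v₂ k₂ = v k₂ := by rw [hv₂def]; simp only [if_neg h23]
  have hv₂3 : v₂ k₃ = ε * v k₃ := by rw [hv₂def]; simp only [if_true]
  have hv₂o : ∀ k, k ≠ k₃ → v₂ k = v k := by
    intro k hk; rw [hv₂def]; simp only [if_neg hk]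
  have hv₂v₂ := om_norm hF hX hv₂
  obtain ⟨κ₀, hκ₀def⟩ : ∃ κ₀ : F, κ₀ = hermForm n F q v v₂ - hermForm n F q v₂ v := ⟨_, rfl⟩
  have hκval : κ₀ = (ε⁻¹ - ε) * (v k₃) ^ (q + 1) := by
    rw [hκ₀def]
    unfold hermForm
    rw [← Finset.sum_sub_distrib, Finset.sum_eq_single k₃ (fun k _ hk => by
      rw [hv₂o k hk, sub_self]) (by simp), hv₂3, mul_pow, mu_conj hε]
    ring
  have hκ : κ₀ ≠ 0 := by
    rw [hκval]
    refine mul_ne_zero ?_ (pow_ne_zero _ h3)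
    intro h
    apply hε2
    have h5 : ε⁻¹ = ε := by linear_combination h
    have h6 : ε * ε⁻¹ = 1 := mul_inv_cancel₀ hε0
    rw [h5] at h6
    rw [sq]
    exact h6
  have hκq : κ₀ ^ q = -κ₀ := by
    rw [hκ₀def, pow_q_sub hF, hermForm_conj hF, hermForm_conj hF]
    ring
  have hcen : IsCentre hF n X ((σ - 1) • a) := by
    apply centre_of_theta hF hx κ₀ hκ
    intro t ht ht1
    have hθ : ((1 - t) ^ (q + 1) * κ₀) ^ q = -((1 - t) ^ (q + 1) * κ₀) := by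
      rw [mul_pow, theta_fixed hF, hκq]
      ring
    refine ⟨hθ, fun hc' => ?_⟩
    have H₁ := ehyp_of hF hvv hx (hwx v rfl rfl) ht
    have H₂ := ehyp_of hF hv₂v₂ hx (hwx v₂ hv₂1 hv₂2) ht
    have hE₁ := eich_mem hF hX hv hx (hwx v rfl rfl) (hplus v hv rfl rfl) ht H₁
    have hE₂ := eich_mem hF hX hv₂ hx (hwx v₂ hv₂1 hv₂2) (hplus v₂ hv₂ hv₂1 hv₂2) ht H₂
    have hval : hermForm n F q ((1 - t) • v) ((1 - t) • v₂) -
        hermForm n F q ((1 - t) • v₂) ((1 - t) • v) = (1 - t) ^ (q + 1) * κ₀ := by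
      rw [hermForm_smul_left, hermForm_smul_right, hermForm_smul_left, hermForm_smul_right,
        hκ₀def, pow_succ]
      ring
    have hc : QCond n q ((σ - 1) • a) (hermForm n F q ((1 - t) • v) ((1 - t) • v₂) -
        hermForm n F q ((1 - t) • v₂) ((1 - t) • v)) := by
      rw [hval]; exact hc'
    have hcomm := commutator_eich hF n ((σ - 1) • a) ((1 - t) • v) ((1 - t) • v₂) (t⁻¹ - 1)
      (t⁻¹ - 1) H₁ H₂ hc
    have e : qtv hF n ((σ - 1) • a) ((1 - t) ^ (q + 1) * κ₀) hc' =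
        qtv hF n ((σ - 1) • a) _ hc := qtv_congr hF n rfl hval.symm _ _
    rw [e, ← hcomm, commutatorElement_def, Subgroup.coe_mul, Subgroup.coe_mul, Subgroup.coe_mul,
      Subgroup.coe_inv, Subgroup.coe_inv]
    exact X.mul_mem (X.mul_mem (X.mul_mem hE₁ hE₂) (X.inv_mem hE₁)) (X.inv_mem hE₂)
  have h7 := isCentre_smul hF (σ - 1)⁻¹ hcen
  rw [smul_smul, inv_mul_cancel₀ (sub_ne_zero.mpr hσ1), one_smul] at h7
  exact h7

end Cfsg.Agent.Lib.Helper8.UM
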