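import Mathlib
import Cfsg.Prelude
import Cfsg.Agent.Lib.Helper8.UM19

set_option autoImplicit false
set_option linter.unusedVariables false
set_option linter.unusedSectionVars false
set_option linter.style.longLine false
set_option maxHeartbeats 800000

/-! Part I': from a non-monomial element fixing a coordinate line to a centre of weight two. -/

namespace Cfsg.Agent.Lib.Helper8.UM

open Matrix Cfsg.Agent.Lib.Helper5 Cfsg.Agent.Lib.Helper5.Herm Cfsg.Agent.Lib.Helper5.HermTv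
  Cfsg.Agent.Lib.Helper5.HermEich Cfsg.Agent.Lib.Helper5.SUCentres
open scoped Classical

variable {F : Type*} [Field F] [Fintype F] {q : ℕ} (hF : Fintype.card F = q ^ 2) {n : ℕ}

include hF in
theorem partI (hq : 3 ≤ q) (hn : 13 ≤ n) {X : Subgroup (GL (Fin n) F)} (hX : Ctx n F q X)
    {g : GL (Fin n) F} (hg : g ∈ X) (hgm : ¬ Mono.IsMono (g : Matrix (Fin n) (Fin n) F))
    {b : Fin n} (hfb : FixB b g) :
    ∃ (k₁ k₂ : Fin n) (a : Fin n → F), k₁ ≠ k₂ ∧ a k₁ ≠ 0 ∧ a k₂ ≠ 0 ∧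
      (∀ k, k ≠ k₁ → k ≠ k₂ → a k = 0) ∧ IsCentre hF n X a := by
  unfold Mono.IsMono Mono.MonoCol at hgm
  push Not at hgm
  obtain ⟨j, hj⟩ := hgm
  obtain ⟨i₁, _, hi₁⟩ := hj b
  obtain ⟨i₂, hi₂ne, hi₂⟩ := hj i₁
  have hjb : j ≠ b := by
    intro h
    subst h
    by_cases h1 : i₁ = j
    · subst h1
      exact hi₂ (hfb i₂ hi₂ne)
    · exact hi₁ (hfb i₁ h1)
  have hu : (g : Matrix (Fin n) (Fin n) F) *ᵥ (ev j : Fin n → F) ∈ Om X b :=
    ⟨g, hg, hfb, j, hjb, rfl⟩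
  have h2 : 2 ≤ (supp ((g : Matrix (Fin n) (Fin n) F) *ᵥ (ev j : Fin n → F))).card := by
    have : 1 < (supp ((g : Matrix (Fin n) (Fin n) F) *ᵥ (ev j : Fin n → F))).card := by
      rw [Finset.one_lt_card]
      refine ⟨i₁, ?_, i₂, ?_, Ne.symm hi₂ne⟩
      · rw [mem_supp, mulVec_ev]; exact hi₁
      · rw [mem_supp, mulVec_ev]; exact hi₂
    omega
  obtain ⟨w, hw, k₁, k₂, k₃, k₄, h12, h13, h14, h23, h24, h34, hw1, hw2, hw3, hw4⟩ :=
    om_four hF hq hn hX hu h2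
  obtain ⟨v, hv, hoff, hv1, hv2, hv3, hiso⟩ :=
    om_split hF hX hw k₁ k₂ k₃ k₄ h12 h13 h14 h23 h24 h34 hw1 hw2 hw3 hw4
  have hc := om_centre hF hX hv k₁ k₂ k₃ k₄ h12 h13 h14 h23 h24 h34 hoff hv1 hv2 hv3 hiso
  refine ⟨k₁, k₂, _, h12, ?_, ?_, ?_, hc⟩
  · simp only [true_or, if_true]; exact hv1
  · simp only [or_true, if_true]; exact hv2
  · intro k hk1 hk2
    simp only [hk1, hk2, or_self, if_false]

end Cfsg.Agent.Lib.Helper8.UM
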