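import Mathlib
import Cfsg.Prelude
import Cfsg.Agent.Lib.Helper8.UM20

set_option autoImplicit false
set_option linter.unusedVariables false
set_option linter.unusedSectionVars false
set_option linter.style.longLine false
set_option maxHeartbeats 800000

/-! From one isotropic centre of weight two to all of them. -/

namespace Cfsg.Agent.Lib.Helper8.UM

open Matrix Cfsg.Agent.Lib.Helper5 Cfsg.Agent.Lib.Helper5.Herm Cfsg.Agent.Lib.Helper5.HermTv
  Cfsg.Agent.Lib.Helper5.HermEich Cfsg.Agent.Lib.Helper5.SUCentres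
open scoped Classical

variable {F : Type*} [Field F] [Fintype F] {q : ℕ} (hF : Fintype.card F = q ^ 2) {n : ℕ}

theorem centre_zero (X : Subgroup (GL (Fin n) F)) : IsCentre hF n X (0 : Fin n → F) := by
  refine ⟨hermForm_zero_left n q 0, fun c hc => ?_⟩
  have h1 : ((qtv hF n (0 : Fin n → F) c hc : ↥(Cfsg.GU n F q)) : GL (Fin n) F) = 1 := by
    apply Units.ext
    rw [qtv_coe, tv_zero_centre]
    rfl
  rw [h1]
  exact X.one_mem

/-- the sign vector used to correct determinants of permutation matrices -/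
noncomputable def sgv (π : Equiv.Perm (Fin n)) (k₃ : Fin n) : Fin n → F :=
  fun k => if k = k₃ then ((Equiv.Perm.sign π : ℤ) : F) else 1

include hF in
theorem sign_mu (π : Equiv.Perm (Fin n)) : (((Equiv.Perm.sign π : ℤ) : F)) ^ (q + 1) = 1 := by
  rcases Int.units_eq_one_or (Equiv.Perm.sign π) with h | h
  · rw [h]; simp
  · rw [h]
    simp only [Units.val_neg, Units.val_one, Int.cast_neg, Int.cast_one]
    exact neg_one_mu hF

theorem sign_sq (π : Equiv.Perm (Fin n)) :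
    (((Equiv.Perm.sign π : ℤ) : F)) * (((Equiv.Perm.sign π : ℤ) : F)) = 1 := by
  rcases Int.units_eq_one_or (Equiv.Perm.sign π) with h | h
  · rw [h]; simp
  · rw [h]; simp

include hF in
theorem sgv_mu (π : Equiv.Perm (Fin n)) (k₃ : Fin n) (k : Fin n) :
    (sgv π k₃ k : F) ^ (q + 1) = 1 := by
  unfold sgv
  by_cases hk : k = k₃
  · rw [if_pos hk]; exact sign_mu hF π
  · rw [if_neg hk]; exact one_pow _

theorem sgv_det (π : Equiv.Perm (Fin n)) (k₃ : Fin n) :
    (((Equiv.Perm.sign π : ℤ) : F)) * ∏ i, (sgv π k₃ i : F) = 1 := by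
  unfold sgv
  rw [Finset.prod_ite_eq' Finset.univ k₃ (fun _ => (((Equiv.Perm.sign π : ℤ) : F)))]
  simp only [Finset.mem_univ, if_true]
  exact sign_sq π

include hF in
theorem pmon_mem {X : Subgroup (GL (Fin n) F)} (hX : Ctx n F q X) (π : Equiv.Perm (Fin n))
    (k₃ : Fin n) : mon π (sgv π k₃) (sgv_mu hF π k₃) ∈ X :=
  mon_mem hF hX π _ _ (sgv_det π k₃)

include hF in
/-- permuting coordinates of a centre with a zero coordinate -/
theorem isCentre_perm {X : Subgroup (GL (Fin n) F)} (hX : Ctx n F q X) (π : Equiv.Perm (Fin n))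
    (k₃ : Fin n) {v : Fin n → F} (hv3 : v k₃ = 0) (hv : IsCentre hF n X v) :
    IsCentre hF n X (fun i => v (π⁻¹ i)) := by
  have h := isCentre_gact hF hX.le _ (pmon_mem hF hX π k₃) hv
  rw [mon_mulVec] at h
  have e : (fun i => v (π⁻¹ i)) = fun a => sgv π k₃ (π⁻¹ a) * v (π⁻¹ a) := by
    funext i
    unfold sgv
    by_cases hi : π⁻¹ i = k₃
    · rw [hi, hv3, mul_zero]
    · rw [if_neg hi, one_mul]
  rw [e]
  exact h

theorem herm_two {k₁ k₂ : Fin n} (h12 : k₁ ≠ k₂) {w : Fin n → F}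
    (hwo : ∀ k, k ≠ k₁ → k ≠ k₂ → w k = 0) :
    hermForm n F q w w = (w k₁) ^ (q + 1) + (w k₂) ^ (q + 1) := by
  unfold hermForm
  rw [← Finset.sum_subset (Finset.subset_univ {k₁, k₂}) (fun k _ hk => by
    simp only [Finset.mem_insert, Finset.mem_singleton, not_or] at hk
    rw [hwo k hk.1 hk.2, zero_mul]), Finset.sum_pair h12]
  ring

theorem exists_third (hn : 3 ≤ n) (k₁ k₂ : Fin n) : ∃ k₃ : Fin n, k₃ ≠ k₁ ∧ k₃ ≠ k₂ := by
  have hcard : ({k₁, k₂} : Finset (Fin n)).card < (Finset.univ : Finset (Fin n)).card := by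
    rw [Finset.card_univ, Fintype.card_fin]
    have := Finset.card_le_two (a := k₁) (b := k₂)
    omega
  obtain ⟨k₃, _, hk₃⟩ := Finset.exists_mem_notMem_of_card_lt_card hcard
  simp only [Finset.mem_insert, Finset.mem_singleton, not_or] at hk₃
  exact ⟨k₃, hk₃.1, hk₃.2⟩

include hF in
/-- all isotropic vectors supported on the same pair of coordinates -/
theorem centre_pair_torus (hn : 3 ≤ n) {X : Subgroup (GL (Fin n) F)} (hX : Ctx n F q X)
    {k₁ k₂ : Fin n} (h12 : k₁ ≠ k₂) {a : Fin n → F} (ha1 : a k₁ ≠ 0) (ha2 : a k₂ ≠ 0)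
    (hao : ∀ k, k ≠ k₁ → k ≠ k₂ → a k = 0) (hcen : IsCentre hF n X a) {v : Fin n → F}
    (hvo : ∀ k, k ≠ k₁ → k ≠ k₂ → v k = 0) (hv : hermForm n F q v v = 0) :
    IsCentre hF n X v := by
  have hα : (a k₁) ^ (q + 1) + (a k₂) ^ (q + 1) = 0 := by rw [← herm_two h12 hao]; exact hcen.1
  have hβ : (v k₁) ^ (q + 1) + (v k₂) ^ (q + 1) = 0 := by rw [← herm_two h12 hvo]; exact hv
  by_cases hv1 : v k₁ = 0
  · have hv2 : v k₂ = 0 := by
      rw [hv1, zero_pow (Nat.succ_ne_zero q), zero_add] at hβ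
      exact pow_eq_zero_iff (Nat.succ_ne_zero q) |>.mp hβ
    have hv0 : v = 0 := by
      funext k
      by_cases hk1 : k = k₁
      · rw [hk1]; exact hv1
      by_cases hk2 : k = k₂
      · rw [hk2]; exact hv2
      exact hvo k hk1 hk2
    rw [hv0]
    exact centre_zero hF X
  · have hv2 : v k₂ ≠ 0 := by
      intro h0
      rw [h0, zero_pow (Nat.succ_ne_zero q), add_zero] at hβ
      exact hv1 (pow_eq_zero_iff (Nat.succ_ne_zero q) |>.mp hβ)
    obtain ⟨k₃, h31, h32⟩ := exists_third hn k₁ k₂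
    have hN1 : (v k₁) ^ (q + 1) ≠ 0 := pow_ne_zero _ hv1
    have hNa : (a k₁) ^ (q + 1) ≠ 0 := pow_ne_zero _ ha1
    have hτ₂ : (v k₂ * a k₁ / (v k₁ * a k₂)) ^ (q + 1) = 1 := by
      rw [div_pow, mul_pow, mul_pow]
      have e1 : (v k₂) ^ (q + 1) = -(v k₁) ^ (q + 1) := by linear_combination hβ
      have e2 : (a k₂) ^ (q + 1) = -(a k₁) ^ (q + 1) := by linear_combination hα
      rw [e1, e2]
      field_simp
    have hmem := dgm_mem hF hX (d2 k₂ k₃ (v k₂ * a k₁ / (v k₁ * a k₂))) (d2_mu k₂ k₃ hτ₂)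
      (d2_prod k₂ k₃ (Ne.symm h32) (mu_ne_zero hτ₂))
    have h1 := isCentre_gact hF hX.le _ hmem hcen
    rw [dgm_mulVec] at h1
    have h2 := isCentre_smul hF (v k₁ / a k₁) h1
    have e : v = (v k₁ / a k₁) • fun k => d2 k₂ k₃ (v k₂ * a k₁ / (v k₁ * a k₂)) k * a k := by
      funext k
      simp only [Pi.smul_apply, smul_eq_mul, d2]
      by_cases hk1 : k = k₁
      · subst hk1
        rw [if_neg h12, if_neg (Ne.symm h31)]
        field_simp
      · by_cases hk2 : k = k₂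
        · subst hk2
          rw [if_pos rfl]
          field_simp
        · rw [hao k hk1 hk2, hvo k hk1 hk2, mul_zero, mul_zero]
    rw [e]
    exact h2

include hF in
/-- all isotropic vectors of weight at most two are centres -/
theorem centre_pairs (hn : 3 ≤ n) {X : Subgroup (GL (Fin n) F)} (hX : Ctx n F q X)
    {k₁ k₂ : Fin n} (h12 : k₁ ≠ k₂) {a : Fin n → F} (ha1 : a k₁ ≠ 0) (ha2 : a k₂ ≠ 0)
    (hao : ∀ k, k ≠ k₁ → k ≠ k₂ → a k = 0) (hcen : IsCentre hF n X a) :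
    ∀ a₁ a₂ : Fin n, ∀ v : Fin n → F, hermForm n F q v v = 0 →
      (∀ k, k ≠ a₁ → k ≠ a₂ → v k = 0) → IsCentre hF n X v := by
  have key : ∀ a₁ a₂ : Fin n, a₁ ≠ a₂ → ∀ v : Fin n → F, hermForm n F q v v = 0 →
      (∀ k, k ≠ a₁ → k ≠ a₂ → v k = 0) → IsCentre hF n X v := by
    intro a₁ a₂ ha v hv hvo
    set π : Equiv.Perm (Fin n) := Equiv.swap (Equiv.swap k₁ a₁ k₂) a₂ * Equiv.swap k₁ a₁ with hπ
    have hne : a₁ ≠ Equiv.swap k₁ a₁ k₂ := by
      intro h
      have h' : Equiv.swap k₁ a₁ k₁ = Equiv.swap k₁ a₁ k₂ := by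
        rw [Equiv.swap_apply_left]; exact h
      exact h12 ((Equiv.swap k₁ a₁).injective h')
    have hπ1 : π k₁ = a₁ := by
      rw [hπ, Equiv.Perm.mul_apply, Equiv.swap_apply_left,
        Equiv.swap_apply_of_ne_of_ne hne ha]
    have hπ2 : π k₂ = a₂ := by
      rw [hπ, Equiv.Perm.mul_apply, Equiv.swap_apply_left]
    have hv'o : ∀ k, k ≠ k₁ → k ≠ k₂ → (fun k => v (π k)) k = 0 := by
      intro k hk1 hk2
      apply hvo
      · rw [← hπ1]; exact fun h => hk1 (π.injective h)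
      · rw [← hπ2]; exact fun h => hk2 (π.injective h)
    have hv' : hermForm n F q (fun k => v (π k)) (fun k => v (π k)) = 0 := by
      rw [← hv]
      unfold hermForm
      exact Equiv.sum_comp π (fun i => v i * (v i) ^ q)
    have hc' := centre_pair_torus hF hn hX h12 ha1 ha2 hao hcen hv'o hv'
    obtain ⟨k₃, h31, h32⟩ := exists_third hn k₁ k₂
    have h := isCentre_perm hF hX π k₃ (hv'o k₃ h31 h32) hc'
    have e : (fun i => (fun k => v (π k)) (π⁻¹ i)) = v := by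
      funext i
      show v (π (π⁻¹ i)) = v i
      rw [Equiv.Perm.coe_inv, Equiv.apply_symm_apply]
    rw [e] at h
    exact h
  intro a₁ a₂ v hv hvo
  by_cases ha : a₁ = a₂
  · subst ha
    obtain ⟨a₃, h31, _⟩ := exists_third hn a₁ a₁
    exact key a₁ a₃ (Ne.symm h31) v hv (fun k hk1 _ => hvo k hk1 hk1)
  · exact key a₁ a₂ ha v hv hvo

end Cfsg.Agent.Lib.Helper8.UM
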