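import Mathlib
import Cfsg.Prelude
import Cfsg.Agent.Lib.Helper8.UM21
import Cfsg.Agent.Lib.Helper7.UD8
import Cfsg.Agent.Lib.Helper7.UD10
import Cfsg.Agent.Lib.Helper7.UD12

set_option autoImplicit false
set_option linter.unusedVariables false
set_option linter.unusedSectionVars false
set_option linter.style.longLine false
set_option maxHeartbeats 800000

/-! The main statement in the standard frame: a subgroup of the special unitary group containing
all monomial elements and one non-monomial element is the whole special unitary group. -/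

namespace Cfsg.Agent.Lib.Helper8.UM

open Matrix Cfsg.Agent.Lib.Helper5 Cfsg.Agent.Lib.Helper5.Herm Cfsg.Agent.Lib.Helper5.HermTv
  Cfsg.Agent.Lib.Helper5.HermEich Cfsg.Agent.Lib.Helper5.SUCentres
open scoped Classical

variable {F : Type*} [Field F] [Fintype F] {q : ℕ} (hF : Fintype.card F = q ^ 2) {n : ℕ}

include hF in
theorem witness_norm (hn : 3 ≤ n) {X : Subgroup (GL (Fin n) F)} (hX : Ctx n F q X)
    {g : GL (Fin n) F} (hg : g ∈ X) (hgm : ¬ Mono.IsMono (g : Matrix (Fin n) (Fin n) F))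
    (b b' : Fin n) (hcol : ∀ i, i ≠ b' → (g : Matrix (Fin n) (Fin n) F) i b = 0) :
    ∃ g' ∈ X, ¬ Mono.IsMono (g' : Matrix (Fin n) (Fin n) F) ∧ FixB b g' := by
  obtain ⟨k₃, _, _⟩ := exists_third hn b b'
  have hmem := pmon_mem hF hX (Equiv.swap b' b) k₃
  refine ⟨mon (Equiv.swap b' b) (sgv (Equiv.swap b' b) k₃) (sgv_mu hF _ k₃) * g,
    X.mul_mem hmem hg, ?_, ?_⟩
  · intro hm
    apply hgm
    have hinv : Mono.IsMono (((mon (Equiv.swap b' b) (sgv (Equiv.swap b' b) k₃)
        (sgv_mu hF _ k₃))⁻¹ : GL (Fin n) F) : Matrix (Fin n) (Fin n) F) :=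
      Mono.IsMono.inv (isMono_mon _ _ _) (by
        rw [← Units.val_mul, inv_mul_cancel, Units.val_one])
    have e : g = (mon (Equiv.swap b' b) (sgv (Equiv.swap b' b) k₃) (sgv_mu hF _ k₃))⁻¹ *
        (mon (Equiv.swap b' b) (sgv (Equiv.swap b' b) k₃) (sgv_mu hF _ k₃) * g) := by group
    rw [e, Units.val_mul]
    exact Mono.IsMono.mul hinv hm
  · intro i hi
    rw [Units.val_mul, Matrix.mul_apply]
    apply Finset.sum_eq_zero
    intro k _
    by_cases hk : k = b'
    · subst hk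
      rw [mon_apply, Equiv.swap_apply_left, if_neg hi, zero_mul]
    · rw [hcol k hk, mul_zero]

include hF in
/-- the main statement in the standard frame -/
theorem main_std (hn : 13 ≤ n) {X : Subgroup (GL (Fin n) F)} (hX : Ctx n F q X)
    (hne : ∃ g ∈ X, ¬ Mono.IsMono (g : Matrix (Fin n) (Fin n) F)) : SUg n F q ≤ X := by
  have h2q := two_le_q hF
  by_cases hq2 : q = 2
  · exact Cfsg.Agent.Lib.Helper7.UD.mono_q2 hF hq2 hn hX hne
  have hq : 3 ≤ q := by omega
  obtain ⟨g, hg, hgm, b, b', hcol⟩ : ∃ g ∈ X, ¬ Mono.IsMono (g : Matrix (Fin n) (Fin n) F) ∧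
      ∃ b b' : Fin n, ∀ i, i ≠ b' → (g : Matrix (Fin n) (Fin n) F) i b = 0 := by
    rcases Nat.even_or_odd q with he | ho
    · have h4 : 4 ≤ q := by
        obtain ⟨r, hr⟩ := he
        omega
      obtain ⟨g, hg, hgm, b, hb⟩ := Cfsg.Agent.Lib.Helper7.UD.mono_even hF he h4 hn hX hne
      exact ⟨g, hg, hgm, b, b, hb⟩
    · exact witness_odd hF hq ho hn hX hne
  obtain ⟨g', hg', hgm', hfb⟩ := witness_norm hF (by omega) hX hg hgm b b' hcol
  obtain ⟨k₁, k₂, a, h12, ha1, ha2, hao, hcen⟩ := partI hF hq hn hX hg' hgm' hfb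
  have h2 := centre_pairs hF (by omega) hX h12 ha1 ha2 hao hcen
  have hall := Cfsg.Agent.Lib.Helper7.UD.spread_of_weight_two hF (by omega) hq hX.le h2
  exact SU_le hF (by omega) (by omega) hall

end Cfsg.Agent.Lib.Helper8.UM
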