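import Mathlib
import Cfsg.Prelude.Def_RootSubgroups
import Cfsg.Agent.Lib.Helper5.HermTv
import Cfsg.Agent.Lib.Helper8.Xf

set_option autoImplicit false

namespace Cfsg.Agent.Lib.Helper8.Un

open Matrix Cfsg
open Cfsg.Agent.Lib.Helper5.Herm
open Cfsg.Agent.Lib.Helper4.RankOneGrp

section basic

variable {F : Type*} [Field F] {q : ℕ} (m : ℕ)

/-- the action of `SU` on vectors -/
abbrev act (g : ↥(Cfsg.SU m F q)) (v : Fin m → F) : Fin m → F :=
  ((g : Matrix.SpecialLinearGroup (Fin m) F) : Matrix (Fin m) (Fin m) F) *ᵥ v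

theorem herm_act (g : ↥(Cfsg.SU m F q)) (x y : Fin m → F) :
    hermForm m F q (act m g x) (act m g y) = hermForm m F q x y := g.2 x y

theorem act_mul (g h : ↥(Cfsg.SU m F q)) (x : Fin m → F) :
    act m (g * h) x = act m g (act m h x) := by
  unfold act
  rw [mulVec_mulVec]
  rfl

theorem act_one (x : Fin m → F) : act m (1 : ↥(Cfsg.SU m F q)) x = x := one_mulVec x

theorem act_inv_act (g : ↥(Cfsg.SU m F q)) (x : Fin m → F) : act m g⁻¹ (act m g x) = x := by
  rw [← act_mul, inv_mul_cancel, act_one]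

theorem act_act_inv (g : ↥(Cfsg.SU m F q)) (x : Fin m → F) : act m g (act m g⁻¹ x) = x := by
  rw [← act_mul, mul_inv_cancel, act_one]

theorem act_add (g : ↥(Cfsg.SU m F q)) (x y : Fin m → F) :
    act m g (x + y) = act m g x + act m g y := mulVec_add _ x y

theorem act_smul (g : ↥(Cfsg.SU m F q)) (a : F) (x : Fin m → F) :
    act m g (a • x) = a • act m g x := mulVec_smul _ a x

theorem act_zero (g : ↥(Cfsg.SU m F q)) : act m g 0 = 0 := mulVec_zero _

theorem ext_act {g h : ↥(Cfsg.SU m F q)} (H : ∀ x, act m g x = act m h x) : g = h := by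
  apply Subtype.ext
  apply Subtype.ext
  rw [ext_iff_mulVec]
  exact H

variable (q) in
/-- the set of unitary transvections with centre `p`, as in the statement -/
def Tset (p : Fin m → F) : Set ↥(Cfsg.SU m F q) :=
  {g | (∀ v : Fin m → F, ∃ c : F, act m g v = v + c • p) ∧
    ∀ v : Fin m → F, hermForm m F q v p = 0 → act m g v = v}

variable (q) in
/-- the transvection group with centre `p` -/
def Tp (p : Fin m → F) : Subgroup ↥(Cfsg.SU m F q) := Subgroup.closure (Tset q m p)

theorem Tset_one (p : Fin m → F) : (1 : ↥(Cfsg.SU m F q)) ∈ Tset q m p :=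
  ⟨fun v => ⟨0, by rw [act_one, zero_smul, add_zero]⟩, fun v _ => act_one m v⟩

theorem Tset_mul {p : Fin m → F} (hp : hermForm m F q p p = 0) {x y : ↥(Cfsg.SU m F q)}
    (hx : x ∈ Tset q m p) (hy : y ∈ Tset q m p) : x * y ∈ Tset q m p := by
  refine ⟨fun v => ?_, fun v hv => ?_⟩
  · obtain ⟨c', hc'⟩ := hy.1 v
    obtain ⟨c, hc⟩ := hx.1 v
    refine ⟨c + c', ?_⟩
    rw [act_mul, hc', act_add, act_smul, hx.2 p hp, hc, add_smul, add_assoc]
  · rw [act_mul, hy.2 v hv, hx.2 v hv]

theorem Tset_inv {p : Fin m → F} {x : ↥(Cfsg.SU m F q)} (hx : x ∈ Tset q m p) :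
    x⁻¹ ∈ Tset q m p := by
  refine ⟨fun v => ?_, fun v hv => ?_⟩
  · obtain ⟨c, hc⟩ := hx.1 (act m x⁻¹ v)
    rw [act_act_inv] at hc
    refine ⟨-c, ?_⟩
    rw [neg_smul]
    exact eq_add_neg_of_add_eq hc.symm
  · have h1 := hx.2 v hv
    calc act m x⁻¹ v = act m x⁻¹ (act m x v) := by rw [h1]
      _ = v := act_inv_act m x v

theorem mem_Tp {p : Fin m → F} (hp : hermForm m F q p p = 0) {x : ↥(Cfsg.SU m F q)} :
    x ∈ Tp q m p ↔ x ∈ Tset q m p := by
  constructor
  · intro hx
    unfold Tp at hx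
    induction hx using Subgroup.closure_induction with
    | mem x hx => exact hx
    | one => exact Tset_one m p
    | mul x y _ _ hx hy => exact Tset_mul m hp hx hy
    | inv x _ hx => exact Tset_inv m hx
  · exact fun hx => Subgroup.subset_closure hx

theorem Tset_smul {c : F} (hc : c ≠ 0) (p : Fin m → F) : Tset q m (c • p) = Tset q m p := by
  ext g
  constructor
  · rintro ⟨h1, h2⟩
    refine ⟨fun v => ?_, fun v hv => ?_⟩
    · obtain ⟨a, ha⟩ := h1 v
      exact ⟨a * c, by rw [ha, smul_smul]⟩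
    · apply h2 v
      rw [hermForm_smul_right, hv, mul_zero]
  · rintro ⟨h1, h2⟩
    refine ⟨fun v => ?_, fun v hv => ?_⟩
    · obtain ⟨a, ha⟩ := h1 v
      exact ⟨a * c⁻¹, by rw [ha, smul_smul, mul_assoc, inv_mul_cancel₀ hc, mul_one]⟩
    · apply h2 v
      rw [hermForm_smul_right] at hv
      exact (mul_eq_zero.1 hv).resolve_left (pow_ne_zero _ hc)

theorem Tp_smul {c : F} (hc : c ≠ 0) (p : Fin m → F) : Tp q m (c • p) = Tp q m p := by
  unfold Tp
  rw [Tset_smul m hc]

theorem Tset_comm {p p' : Fin m → F} (h1 : hermForm m F q p p' = 0)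
    (h2 : hermForm m F q p' p = 0) {x y : ↥(Cfsg.SU m F q)} (hx : x ∈ Tset q m p)
    (hy : y ∈ Tset q m p') : x * y = y * x := by
  apply ext_act m
  intro v
  obtain ⟨c, hc⟩ := hx.1 v
  obtain ⟨c', hc'⟩ := hy.1 v
  have e1 : act m (x * y) v = v + c • p + c' • p' := by
    rw [act_mul, hc', act_add, act_smul, hx.2 p' h2, hc]
  have e2 : act m (y * x) v = v + c' • p' + c • p := by
    rw [act_mul, hc, act_add, act_smul, hy.2 p h1, hc']
  rw [e1, e2]
  abel

theorem conj_Tset (g : ↥(Cfsg.SU m F q)) {p : Fin m → F} {x : ↥(Cfsg.SU m F q)}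
    (hx : x ∈ Tset q m p) : g * x * g⁻¹ ∈ Tset q m (act m g p) := by
  refine ⟨fun v => ?_, fun v hv => ?_⟩
  · obtain ⟨c, hc⟩ := hx.1 (act m g⁻¹ v)
    refine ⟨c, ?_⟩
    rw [act_mul, act_mul, hc, act_add, act_smul, act_act_inv]
  · have h0 : hermForm m F q (act m g⁻¹ v) p = 0 := by
      rw [← herm_act m g, act_act_inv]
      exact hv
    rw [act_mul, act_mul, hx.2 _ h0, act_act_inv]

theorem conjBy_Tp (g : ↥(Cfsg.SU m F q)) {p : Fin m → F} (hp : hermForm m F q p p = 0) :
    conjBy (Tp q m p) g = Tp q m (act m g p) := by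
  have hp' : hermForm m F q (act m g p) (act m g p) = 0 := by
    rw [herm_act]
    exact hp
  ext x
  rw [mem_conjBy, mem_Tp m hp, mem_Tp m hp']
  constructor
  · intro hx
    have h1 := conj_Tset m g hx
    have e : g * (g⁻¹ * x * g) * g⁻¹ = x := by group
    rwa [e] at h1
  · intro hx
    have h1 := conj_Tset m g⁻¹ hx
    rw [act_inv_act, inv_inv] at h1
    exact h1

theorem Tset_of_explicit {p : Fin m → F} {g : ↥(Cfsg.SU m F q)} (c : F)
    (H : ∀ v, act m g v = v + (c * hermForm m F q v p) • p) : g ∈ Tset q m p :=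
  ⟨fun v => ⟨c * hermForm m F q v p, H v⟩,
    fun v hv => by rw [H v, hv, mul_zero, zero_smul, add_zero]⟩

end basic

section finite

variable {F : Type*} [Field F] [Fintype F] {q : ℕ} (hF : Fintype.card F = q ^ 2) (m : ℕ)
include hF

theorem herm_swap_zero {x y : Fin m → F} (h : hermForm m F q x y = 0) :
    hermForm m F q y x = 0 := by
  rw [← hermForm_conj hF, h, zero_pow (q_ne_zero hF)]

theorem herm_swap_ne {x y : Fin m → F} (h : hermForm m F q x y ≠ 0) :
    hermForm m F q y x ≠ 0 := fun h0 => h (herm_swap_zero hF m h0)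

theorem Tset_explicit {p : Fin m → F} (hp0 : p ≠ 0) (hp : hermForm m F q p p = 0)
    {g : ↥(Cfsg.SU m F q)} (hg : g ∈ Tset q m p) :
    ∃ c : F, c ^ q = -c ∧ ∀ v, act m g v = v + (c * hermForm m F q v p) • p := by
  obtain ⟨f, hff, hpf⟩ := Cfsg.Agent.Lib.Helper5.HermTv.exists_partner hF m p hp0 hp
  have hfp : hermForm m F q f p = 1 := by
    rw [← hermForm_conj hF, hpf, one_pow]
  obtain ⟨c, hc⟩ := hg.1 f
  refine ⟨c, ?_, ?_⟩
  · have h1 := herm_act m g f f
    rw [hc, hermForm_add_left, hermForm_add_right hF, hermForm_add_right hF, hermForm_smul_left,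
      hermForm_smul_left, hermForm_smul_right, hermForm_smul_right, hp, hpf, hfp, hff] at h1
    linear_combination h1
  · intro v
    obtain ⟨a, ha⟩ : ∃ a, a = hermForm m F q v p := ⟨_, rfl⟩
    have hv' : hermForm m F q (v + (-a) • f) p = 0 := by
      rw [hermForm_add_left, hermForm_smul_left, hfp, ← ha]
      ring
    have e1 := hg.2 _ hv'
    have e2 : v = (v + (-a) • f) + a • f := by module
    calc act m g v = act m g ((v + (-a) • f) + a • f) := by rw [← e2]
      _ = (v + (-a) • f) + a • (f + c • p) := by rw [act_add, act_smul, e1, hc]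
      _ = v + (c * a) • p := by module
      _ = v + (c * hermForm m F q v p) • p := by rw [ha]

end finite

end Cfsg.Agent.Lib.Helper8.Un
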