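import Mathlib
import Cfsg.Agent.Lib.Helper8.Un1

set_option autoImplicit false

namespace Cfsg.Agent.Lib.Helper8.Un

open Matrix Cfsg
open Cfsg.Agent.Lib.Helper5.Herm
open Cfsg.Agent.Lib.Helper4.RankOneGrp
open Cfsg.Agent.Lib.Helper8.Rs Cfsg.Agent.Lib.Helper8.Xf

section field

variable {F : Type*} [Field F] [Fintype F] {q : ℕ} (hF : Fintype.card F = q ^ 2)
include hF

theorem card_fixed_le : ∀ [DecidableEq F], (Finset.univ.filter (fun x : F => x ^ q = x)).card ≤ q := by
  intro _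
  have hq : 1 < q := two_le_q hF
  have hne : (Polynomial.X ^ q - Polynomial.X : Polynomial F) ≠ 0 :=
    FiniteField.X_pow_card_sub_X_ne_zero F hq
  have hsub : Finset.univ.filter (fun x : F => x ^ q = x) ⊆
      (Polynomial.X ^ q - Polynomial.X : Polynomial F).roots.toFinset := by
    intro x hx
    rw [Finset.mem_filter] at hx
    rw [Multiset.mem_toFinset, Polynomial.mem_roots hne, Polynomial.IsRoot.def]
    simp [hx.2]
  calc (Finset.univ.filter (fun x : F => x ^ q = x)).card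
      ≤ (Polynomial.X ^ q - Polynomial.X : Polynomial F).roots.toFinset.card :=
        Finset.card_le_card hsub
    _ ≤ (Polynomial.X ^ q - Polynomial.X : Polynomial F).roots.card := Multiset.toFinset_card_le _
    _ ≤ (Polynomial.X ^ q - Polynomial.X : Polynomial F).natDegree := Polynomial.card_roots' _
    _ = q := FiniteField.X_pow_card_sub_X_natDegree_eq F hq

/-- a field with `q` elements in `Type`, embedded in `F` as the fixed field of `x ↦ x ^ q` -/
theorem exists_subfield : ∃ (L : Type) (_ : Field L) (_ : Fintype L) (ι₀ : L →+* F),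
    Fintype.card L = q ∧ ∀ x : F, x ^ q = x ↔ ∃ l, ι₀ l = x := by
  classical
  obtain ⟨p, j, hp, hchar, hq⟩ := exists_char_pow hF
  haveI := Fact.mk hp
  have hj : j ≠ 0 := by
    rintro rfl
    have := two_le_q hF
    rw [pow_zero] at hq
    omega
  letI : Algebra (ZMod p) F := ZMod.algebra F p
  have hfr : Module.finrank (ZMod p) F = j * 2 := by
    have h1 := FiniteField.pow_finrank_eq_card p F
    rw [hF, hq, ← pow_mul] at h1
    exact Nat.pow_right_injective hp.two_le h1
  obtain ⟨f⟩ := FiniteField.nonempty_algHom_of_finrank_dvd (F := ZMod p) (K := GaloisField p j)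
    (L := F) (by rw [GaloisField.finrank p hj, hfr]; exact dvd_mul_right _ _)
  letI : Fintype (GaloisField p j) := Fintype.ofFinite _
  have hcard : Fintype.card (GaloisField p j) = q := by
    rw [← Nat.card_eq_fintype_card, GaloisField.card p j hj, hq]
  refine ⟨GaloisField p j, inferInstance, inferInstance, f.toRingHom, hcard, ?_⟩
  have hfix : ∀ l : GaloisField p j, (f l) ^ q = f l := by
    intro l
    rw [← map_pow, ← hcard, FiniteField.pow_card]
  have hsub : Finset.univ.image (fun l : GaloisField p j => f l) ⊆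
      Finset.univ.filter (fun x : F => x ^ q = x) := by
    intro x hx
    rw [Finset.mem_image] at hx
    obtain ⟨l, -, rfl⟩ := hx
    rw [Finset.mem_filter]
    exact ⟨Finset.mem_univ _, hfix l⟩
  have hc1 : (Finset.univ.image (fun l : GaloisField p j => f l)).card = q := by
    have hinj : Function.Injective (fun l : GaloisField p j => f l) := f.injective
    rw [Finset.card_image_of_injective _ hinj, Finset.card_univ, hcard]
  have heq := Finset.eq_of_subset_of_card_le hsub (by rw [hc1]; exact card_fixed_le hF)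
  intro x
  constructor
  · intro hx
    have h1 : x ∈ Finset.univ.filter (fun x : F => x ^ q = x) := by
      rw [Finset.mem_filter]
      exact ⟨Finset.mem_univ _, hx⟩
    rw [← heq, Finset.mem_image] at h1
    obtain ⟨l, -, hl⟩ := h1
    exact ⟨l, hl⟩
  · rintro ⟨l, rfl⟩
    exact hfix l

end field

section emb

variable {F : Type*} [Field F] {q : ℕ} (m : ℕ)

variable (q) in
/-- first dual vector of a (rescaled) hyperbolic pair -/
def dU (γ : F) (f : Fin m → F) : Fin m → F := fun j => γ⁻¹ * (f j) ^ q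

variable (q) in
/-- second dual vector of a (rescaled) hyperbolic pair -/
def dW (γ : F) (e : Fin m → F) : Fin m → F := fun j => -γ⁻¹ * (e j) ^ q

theorem dU_dot (γ : F) (f v : Fin m → F) : dU q m γ f ⬝ᵥ v = γ⁻¹ * hermForm m F q v f := by
  unfold dU hermForm dotProduct
  rw [Finset.mul_sum]
  exact Finset.sum_congr rfl fun j _ => by ring

theorem dW_dot (γ : F) (e v : Fin m → F) : dW q m γ e ⬝ᵥ v = -γ⁻¹ * hermForm m F q v e := by
  unfold dW hermForm dotProduct
  rw [Finset.mul_sum]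
  exact Finset.sum_congr rfl fun j _ => by ring

theorem map_Um {L : Type*} [Field L] (ι₀ : L →+* F) (t : L) :
    Matrix.SpecialLinearGroup.map ι₀ (Cfsg.Agent.S5016.Um t) = Cfsg.Agent.S5016.Um (ι₀ t) := by
  apply Subtype.ext
  rw [Matrix.SpecialLinearGroup.map_apply_coe, Cfsg.Agent.S5016.Um_val, Cfsg.Agent.S5016.Um_val]
  ext i j
  fin_cases i <;> fin_cases j <;> simp

theorem map_Lm {L : Type*} [Field L] (ι₀ : L →+* F) (t : L) :
    Matrix.SpecialLinearGroup.map ι₀ (Cfsg.Agent.S5016.Lm t) = Cfsg.Agent.S5016.Lm (ι₀ t) := by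
  apply Subtype.ext
  rw [Matrix.SpecialLinearGroup.map_apply_coe, Cfsg.Agent.S5016.Lm_val, Cfsg.Agent.S5016.Lm_val]
  ext i j
  fin_cases i <;> fin_cases j <;> simp

theorem map_injective {L : Type*} [Field L] (ι₀ : L →+* F) :
    Function.Injective (Matrix.SpecialLinearGroup.map (n := Fin 2) ι₀) := by
  intro M N h
  apply Subtype.ext
  ext i j
  have h1 := congrArg (fun g : Matrix.SpecialLinearGroup (Fin 2) F => g.1 i j) h
  simp only [Matrix.SpecialLinearGroup.map_apply_coe, RingHom.mapMatrix_apply,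
    Matrix.map_apply] at h1
  exact ι₀.injective h1

theorem embMat_Um_herm (γ : F) (e f : Fin m → F) (t : F) :
    embMat e f (dU q m γ f) (dW q m γ e) (Cfsg.Agent.S5016.Um t).1 =
      unitaryTransvection m q e (-γ⁻¹ * t) := by
  rw [Cfsg.Agent.S5016.Um_val, embMat_upper]
  unfold unitaryTransvection
  have e1 : dW q m γ e = (-γ⁻¹) • (fun j => (e j) ^ q) := by
    ext j
    simp [dW]
  rw [e1, vecMulVec_smul, smul_smul, mul_comm]

theorem embMat_Lm_herm (γ : F) (e f : Fin m → F) (t : F) :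
    embMat e f (dU q m γ f) (dW q m γ e) (Cfsg.Agent.S5016.Lm t).1 =
      unitaryTransvection m q f (γ⁻¹ * t) := by
  rw [Cfsg.Agent.S5016.Lm_val, embMat_lower]
  unfold unitaryTransvection
  have e1 : dU q m γ f = (γ⁻¹) • (fun j => (f j) ^ q) := by
    ext j
    simp [dU]
  rw [e1, vecMulVec_smul, smul_smul, mul_comm]

end emb

section emb2

variable {F : Type*} [Field F] [Fintype F] {q : ℕ} (hF : Fintype.card F = q ^ 2) (m : ℕ)
include hF

theorem tv_mem_SU {e : Fin m → F} (he : hermForm m F q e e = 0) {c : F} (hc : c ^ q = -c)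
    (g : Matrix.SpecialLinearGroup (Fin m) F) (hg : g.1 = unitaryTransvection m q e c) :
    g ∈ Cfsg.SU m F q := by
  intro u v
  show hermForm m F q (g.1 *ᵥ u) (g.1 *ᵥ v) = hermForm m F q u v
  rw [hg, hermForm_unitaryTransvection hF, he, hc]
  ring

theorem exists_emb {L : Type*} [Field L] (ι₀ : L →+* F)
    (hι : ∀ x : F, x ^ q = x ↔ ∃ l, ι₀ l = x)
    {e f : Fin m → F} (he : hermForm m F q e e = 0) (hf : hermForm m F q f f = 0) {γ : F}
    (hγ0 : γ ≠ 0) (hγ : γ ^ q = -γ) (hef : hermForm m F q e f = γ) :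
    SL2Pair L (Tp q m e) (Tp q m f) := by
  have hfe : hermForm m F q f e = -γ := by rw [← hermForm_conj hF, hef, hγ]
  have he0 : e ≠ 0 := by
    rintro rfl
    rw [hermForm_zero_left] at hef
    exact hγ0 hef.symm
  have hf0 : f ≠ 0 := by
    rintro rfl
    rw [hermForm_zero_right hF] at hef
    exact hγ0 hef.symm
  have hdual : rowMat (dU q m γ f) (dW q m γ e) * colMat e f = 1 := by
    apply rowMat_mul_colMat
    · rw [dU_dot, hef, inv_mul_cancel₀ hγ0]
    · rw [dU_dot, hf, mul_zero]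
    · rw [dW_dot, he, mul_zero]
    · rw [dW_dot, hfe, neg_mul_neg, inv_mul_cancel₀ hγ0]
  have hγi : (γ⁻¹) ^ q = -γ⁻¹ := by rw [inv_pow, hγ, inv_neg]
  have hιq : ∀ t : L, (ι₀ t) ^ q = ι₀ t := fun t => (hι _).2 ⟨t, rfl⟩
  have hcU : ∀ t : L, (-γ⁻¹ * ι₀ t) ^ q = -(-γ⁻¹ * ι₀ t) := by
    intro t
    rw [mul_pow, pow_q_neg hF, hγi, hιq, neg_mul]
  have hcL : ∀ t : L, (γ⁻¹ * ι₀ t) ^ q = -(γ⁻¹ * ι₀ t) := by
    intro t
    rw [mul_pow, hγi, hιq, neg_mul]
  obtain ⟨f₀, hf₀⟩ : ∃ f₀ : Matrix.SpecialLinearGroup (Fin 2) L →*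
      Matrix.SpecialLinearGroup (Fin m) F,
      f₀ = (emb e f (dU q m γ f) (dW q m γ e) hdual).comp (Matrix.SpecialLinearGroup.map ι₀) :=
    ⟨_, rfl⟩
  have hU0 : ∀ t : L, (f₀ (Cfsg.Agent.S5016.Um t)).1 =
      unitaryTransvection m q e (-γ⁻¹ * ι₀ t) := by
    intro t
    rw [hf₀, MonoidHom.comp_apply, map_Um, emb_coe, embMat_Um_herm]
  have hL0 : ∀ t : L, (f₀ (Cfsg.Agent.S5016.Lm t)).1 =
      unitaryTransvection m q f (γ⁻¹ * ι₀ t) := by
    intro t
    rw [hf₀, MonoidHom.comp_apply, map_Lm, emb_coe, embMat_Lm_herm]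
  have hr : ∀ M, f₀ M ∈ Cfsg.SU m F q := by
    have h1 : (⊤ : Subgroup (Matrix.SpecialLinearGroup (Fin 2) L)) ≤
        (Cfsg.SU m F q).comap f₀ := by
      rw [← Cfsg.Agent.S5016.sup_eq_top (k := L), sup_le_iff]
      constructor
      · intro M hM
        obtain ⟨t, rfl⟩ := Cfsg.Agent.S5016.mem_lower.1 hM
        exact tv_mem_SU hF m hf (hcL t) _ (hL0 t)
      · intro M hM
        obtain ⟨t, rfl⟩ := Cfsg.Agent.S5016.mem_upper.1 hM
        exact tv_mem_SU hF m he (hcU t) _ (hU0 t)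
    exact fun M => h1 (Subgroup.mem_top M)
  have hinj : Function.Injective f₀ := by
    rw [hf₀]
    exact (emb_injective e f _ _ hdual).comp (map_injective ι₀)
  refine ⟨f₀.codRestrict (Cfsg.SU m F q) hr, ?_, ?_, ?_⟩
  · intro M N hMN
    exact hinj (congrArg Subtype.val hMN)
  · ext x
    rw [mem_Tp m he]
    constructor
    · rintro ⟨M, hM, rfl⟩
      obtain ⟨t, rfl⟩ := Cfsg.Agent.S5016.mem_upper.1 hM
      apply Tset_of_explicit m (-γ⁻¹ * ι₀ t)
      intro v
      show (f₀ (Cfsg.Agent.S5016.Um t)).1 *ᵥ v = _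
      rw [hU0, unitaryTransvection_mulVec]
    · intro hx
      obtain ⟨c, hc, hact⟩ := Tset_explicit hF m he0 he hx
      obtain ⟨t, ht⟩ := (hι (-γ * c)).1 (by rw [mul_pow, pow_q_neg hF, hγ, hc]; ring)
      refine ⟨Cfsg.Agent.S5016.Um t, Cfsg.Agent.S5016.mem_upper.2 ⟨t, rfl⟩, ?_⟩
      apply ext_act m
      intro v
      rw [hact v]
      show (f₀ (Cfsg.Agent.S5016.Um t)).1 *ᵥ v = _
      rw [hU0, unitaryTransvection_mulVec, ht]
      have e1 : -γ⁻¹ * (-γ * c) = c := by field_simp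
      rw [e1]
  · ext x
    rw [mem_Tp m hf]
    constructor
    · rintro ⟨M, hM, rfl⟩
      obtain ⟨t, rfl⟩ := Cfsg.Agent.S5016.mem_lower.1 hM
      apply Tset_of_explicit m (γ⁻¹ * ι₀ t)
      intro v
      show (f₀ (Cfsg.Agent.S5016.Lm t)).1 *ᵥ v = _
      rw [hL0, unitaryTransvection_mulVec]
    · intro hx
      obtain ⟨c, hc, hact⟩ := Tset_explicit hF m hf0 hf hx
      obtain ⟨t, ht⟩ := (hι (γ * c)).1 (by rw [mul_pow, hγ, hc]; ring)
      refine ⟨Cfsg.Agent.S5016.Lm t, Cfsg.Agent.S5016.mem_lower.2 ⟨t, rfl⟩, ?_⟩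
      apply ext_act m
      intro v
      rw [hact v]
      show (f₀ (Cfsg.Agent.S5016.Lm t)).1 *ᵥ v = _
      rw [hL0, unitaryTransvection_mulVec, ht]
      have e1 : γ⁻¹ * (γ * c) = c := by field_simp
      rw [e1]

end emb2

end Cfsg.Agent.Lib.Helper8.Un
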