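import Mathlib
import Cfsg.Agent.Lib.Helper8.Un2

set_option autoImplicit false

namespace Cfsg.Agent.Lib.Helper8.Un

open Matrix Cfsg
open Cfsg.Agent.Lib.Helper5.Herm
open Cfsg.Agent.Lib.Helper4.RankOneGrp
open Cfsg.Agent.Lib.Helper8.Rs Cfsg.Agent.Lib.Helper8.Xf

section final

variable {F : Type*} [Field F] [Fintype F] {q : ℕ} (hF : Fintype.card F = q ^ 2) (m : ℕ)

variable (q) in
/-- the set of unitary transvection groups -/
def Sig : Set (Subgroup ↥(Cfsg.SU m F q)) :=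
  {A | ∃ p : Fin m → F, p ≠ 0 ∧ hermForm m F q p p = 0 ∧ A = Tp q m p}

include hF

/-- non-orthogonal isotropic vectors give an `SL₂` pair -/
theorem pair_of_ne {L : Type*} [Field L] (ι₀ : L →+* F)
    (hι : ∀ x : F, x ^ q = x ↔ ∃ l, ι₀ l = x) {p p' : Fin m → F}
    (hp : hermForm m F q p p = 0) (hp' : hermForm m F q p' p' = 0)
    (hpp' : hermForm m F q p p' ≠ 0) : SL2Pair L (Tp q m p) (Tp q m p') := by
  obtain ⟨ε, hε0, hε⟩ := Cfsg.Agent.Lib.Helper5.HermTv.exists_trace_zero hF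
  obtain ⟨c, hc⟩ : ∃ c : F, c = (ε / hermForm m F q p p') ^ q := ⟨_, rfl⟩
  have hc0 : c ≠ 0 := by
    rw [hc]
    exact pow_ne_zero _ (div_ne_zero hε0 hpp')
  have h1 : hermForm m F q p (c • p') = ε := by
    rw [hermForm_smul_right, hc, pow_q_pow_q hF, div_mul_cancel₀ _ hpp']
  have h2 : hermForm m F q (c • p') (c • p') = 0 := by
    rw [hermForm_smul_left, hermForm_smul_right, hp', mul_zero, mul_zero]
  have h3 := exists_emb hF m ι₀ hι hp h2 hε0 hε h1
  rwa [Tp_smul m hc0] at h3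

theorem exists_common {p p' : Fin m → F} (hp0 : p ≠ 0) (hp : hermForm m F q p p = 0)
    (hp'0 : p' ≠ 0) (hp' : hermForm m F q p' p' = 0) (hpp' : hermForm m F q p p' = 0) :
    ∃ r, hermForm m F q r r = 0 ∧ hermForm m F q p r ≠ 0 ∧ hermForm m F q r p' ≠ 0 := by
  obtain ⟨f₁, hf₁, hpf₁⟩ := Cfsg.Agent.Lib.Helper5.HermTv.exists_partner hF m p hp0 hp
  obtain ⟨f₂, hf₂, hpf₂⟩ := Cfsg.Agent.Lib.Helper5.HermTv.exists_partner hF m p' hp'0 hp'
  have hf₂p' : hermForm m F q f₂ p' = 1 := by rw [← hermForm_conj hF, hpf₂, one_pow]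
  by_cases hA : hermForm m F q f₁ p' = 0
  · by_cases hB : hermForm m F q p f₂ = 0
    · obtain ⟨v, hv⟩ : ∃ v, v = f₁ + f₂ := ⟨_, rfl⟩
      have hpv : hermForm m F q p v = 1 := by
        rw [hv, hermForm_add_right hF, hpf₁, hB, add_zero]
      have hvp : hermForm m F q v p = 1 := by rw [← hermForm_conj hF, hpv, one_pow]
      have hvp' : hermForm m F q v p' = 1 := by
        rw [hv, hermForm_add_left, hA, hf₂p', zero_add]
      obtain ⟨a, ha⟩ := Cfsg.Agent.Lib.Helper5.HermTv.exists_trace_eq hF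
        (-(hermForm m F q v v)) (by
          rw [pow_q_neg hF, Cfsg.Agent.Lib.Helper5.HermTv.herm_self_fixed hF])
      refine ⟨v + a • p, ?_, ?_, ?_⟩
      · rw [hermForm_add_left, hermForm_add_right hF, hermForm_add_right hF, hermForm_smul_left,
          hermForm_smul_left, hermForm_smul_right, hermForm_smul_right, hp, hvp, hpv]
        linear_combination ha
      · rw [hermForm_add_right hF, hermForm_smul_right, hp, hpv, mul_zero, add_zero]
        exact one_ne_zero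
      · rw [hermForm_add_left, hermForm_smul_left, hpp', hvp', mul_zero, add_zero]
        exact one_ne_zero
    · exact ⟨f₂, hf₂, hB, by rw [hf₂p']; exact one_ne_zero⟩
  · exact ⟨f₁, hf₁, by rw [hpf₁]; exact one_ne_zero, hA⟩

theorem main_SU (hm : 2 ≤ m) : ∃ (L : Type) (_ : Field L) (_ : Fintype L), Fintype.card L = q ∧
    (IsRootSubgroupClass ((fun A : Subgroup ↥(Cfsg.SU m F q) =>
        A.subgroupOf (⨆ B ∈ Sig q m, B)) '' Sig q m) ∧
    IsDegenerateRootSet ((fun A : Subgroup ↥(Cfsg.SU m F q) =>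
        A.subgroupOf (⨆ B ∈ Sig q m, B)) '' Sig q m) ∧
    IsKRootSubgroupSet L ((fun A : Subgroup ↥(Cfsg.SU m F q) =>
        A.subgroupOf (⨆ B ∈ Sig q m, B)) '' Sig q m) ∧
    IsConnectedFamily (FAdj ((fun A : Subgroup ↥(Cfsg.SU m F q) =>
        A.subgroupOf (⨆ B ∈ Sig q m, B)) '' Sig q m))
      ((fun A : Subgroup ↥(Cfsg.SU m F q) =>
        A.subgroupOf (⨆ B ∈ Sig q m, B)) '' Sig q m)) := by
  obtain ⟨L, iL, iF, ι₀, hcard, hι⟩ := exists_subfield hF
  refine ⟨L, iL, iF, hcard, ?_⟩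
  have hzero : ∀ {x y : Fin m → F}, hermForm m F q x y ≠ 0 → x ≠ 0 := by
    intro x y h h0
    apply h
    rw [h0, hermForm_zero_left]
  have hzero' : ∀ {x y : Fin m → F}, hermForm m F q x y ≠ 0 → y ≠ 0 := by
    intro x y h h0
    apply h
    rw [h0, hermForm_zero_right hF]
  apply Xf.main L (Sig q m)
  · obtain ⟨e, f, he, -, hef⟩ := Cfsg.Agent.Lib.Helper5.HermTv.exists_hyp_pair hF m hm
    exact ⟨Tp q m e, e, hzero (by rw [hef]; exact one_ne_zero), he, rfl⟩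
  · rintro A ⟨p, hp0, hp, rfl⟩ x hx y hy
    exact Tset_comm m hp hp ((mem_Tp m hp).1 hx) ((mem_Tp m hp).1 hy)
  · rintro A ⟨p, hp0, hp, rfl⟩
    obtain ⟨f, hf, hpf⟩ := Cfsg.Agent.Lib.Helper5.HermTv.exists_partner hF m p hp0 hp
    have h1 := pair_of_ne hF m ι₀ hι hp hf (by rw [hpf]; exact one_ne_zero)
    exact left_ne_bot h1.rankOne.1
  · rintro A ⟨p, hp0, hp, rfl⟩ g
    refine ⟨act m g p, ?_, by rw [herm_act]; exact hp, conjBy_Tp m g hp⟩
    intro h0
    apply hp0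
    have h1 := act_inv_act m g p
    rw [h0, act_zero] at h1
    exact h1.symm
  · rintro A ⟨p, hp0, hp, rfl⟩ B ⟨p', hp'0, hp', rfl⟩
    by_cases h : hermForm m F q p p' = 0
    · left
      intro a ha b hb
      exact Tset_comm m h (herm_swap_zero hF m h) ((mem_Tp m hp).1 ha) ((mem_Tp m hp').1 hb)
    · exact Or.inr (pair_of_ne hF m ι₀ hι hp hp' h)
  · rintro A ⟨p, hp0, hp, rfl⟩ B ⟨p', hp'0, hp', rfl⟩
    by_cases h : hermForm m F q p p' = 0
    · right
      obtain ⟨r, hr, h1, h2⟩ := exists_common hF m hp0 hp hp'0 hp' h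
      exact ⟨Tp q m r, ⟨r, hzero' h1, hr, rfl⟩, pair_of_ne hF m ι₀ hι hp hr h1,
        pair_of_ne hF m ι₀ hι hr hp' h2⟩
    · exact Or.inl (pair_of_ne hF m ι₀ hι hp hp' h)

end final

end Cfsg.Agent.Lib.Helper8.Un
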