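import Cfsg.Agent.Lib.Helper8.HeSpA
import Cfsg.Prelude.Def_Classical

/-! The action of `SU(4,2)`, over a concrete field with four elements, on the 40 points of the
unitary space that are not isotropic (points indexed by `Fin 40`); its kernel is central. -/

set_option autoImplicit false

namespace Cfsg.Agent.Lib.Helper8.Usp

open Matrix Cfsg.Agent.Lib.Helper8.HeSp

/-- a vector as a function on `Fin 4` -/
def toW (t : V4) : Fin 4 → K4 := ![t.a, t.b, t.c, t.d]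
def ofW (x : Fin 4 → K4) : V4 := ⟨x 0, x 1, x 2, x 3⟩

theorem ofW_toW (t : V4) : ofW (toW t) = t := rfl

theorem toW_ofW (x : Fin 4 → K4) : toW (ofW x) = x := by
  ext i
  fin_cases i <;> rfl

theorem toW_injective : Function.Injective toW := fun s t h => by
  rw [← ofW_toW s, ← ofW_toW t, h]

theorem toW_add (s t : V4) : toW (V4.add s t) = toW s + toW t := by
  ext i
  fin_cases i <;> rfl

theorem toW_smul (l : K4) (t : V4) : toW (V4.smul l t) = l • toW t := by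
  ext i
  fin_cases i <;> rfl

theorem ofW_smul (l : K4) (x : Fin 4 → K4) : ofW (l • x) = V4.smul l (ofW x) := rfl

/-- the Hermitian form -/
def hf (s t : V4) : K4 :=
  s.a * (t.a * t.a) + s.b * (t.b * t.b) + s.c * (t.c * t.c) + s.d * (t.d * t.d)

theorem hf_toW (s t : V4) : Cfsg.hermForm 4 K4 2 (toW s) (toW t) = hf s t := by
  unfold Cfsg.hermForm hf
  rw [Fin.sum_univ_four]
  simp only [pow_two]
  rfl

theorem hf_ofW (x y : Fin 4 → K4) : hf (ofW x) (ofW y) = Cfsg.hermForm 4 K4 2 x y := by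
  rw [← hf_toW, toW_ofW, toW_ofW]

def WSL : List ℕ := [64, 16, 4, 1, 69, 133, 197, 201, 73, 137, 141, 205, 77, 21, 57, 45, 37, 25, 61, 53, 41, 29, 84, 148, 212, 100, 164, 228, 116, 180, 244, 81, 209, 145, 97, 225, 161, 113, 241, 177]

def ISL : List ℕ := [0, 3, 3, 3, 2, 0, 0, 0, 2, 0, 0, 0, 2, 0, 0, 0, 1, 0, 0, 0, 0, 13, 18, 20, 0, 17, 19, 15, 0, 21, 14, 16, 1, 0, 0, 0, 0, 16, 21, 14, 0, 20, 13, 18, 0, 15, 17, 19, 1, 0, 0, 0, 0, 19, 15, 17, 0, 14, 16, 21, 0, 18, 20, 13, 0, 0, 0, 0, 0, 4, 11, 9, 0, 8, 6, 10, 0, 12, 7, 5, 0, 31, 38, 36, 22, 0, 0, 0, 30, 0, 0, 0, 26, 0, 0, 0, 0, 34, 32, 39, 25, 0, 0, 0, 24, 0, 0, 0, 29, 0, 0, 0, 0, 37, 35, 33, 28, 0, 0, 0, 27, 0, 0, 0, 23, 0, 0, 0, 0, 0, 0, 0, 0, 5, 12, 7, 0, 9, 4, 11, 0, 10, 8, 6, 0, 33, 37, 35, 23, 0, 0, 0, 28, 0, 0, 0, 27, 0, 0, 0, 0, 36, 31, 38, 26, 0, 0, 0, 22, 0, 0, 0, 30, 0, 0, 0, 0, 39, 34, 32, 29, 0, 0, 0, 25, 0, 0, 0, 24, 0,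 0, 0, 0, 0, 0, 0, 0, 6, 10, 8, 0, 7, 5, 12, 0, 11, 9, 4, 0, 32, 39, 34, 24, 0, 0, 0, 29, 0, 0, 0, 25, 0, 0, 0, 0, 35, 33, 37, 27, 0, 0, 0, 23, 0, 0, 0, 28, 0, 0, 0, 0, 38, 36, 31, 30, 0, 0, 0, 26, 0, 0, 0, 22, 0, 0, 0]

/-- the normalised vector of the `j`-th point -/
def WS (j : Fin 40) : V4 := V4.ofCode (WSL.getD j.1 0)

/-- the index of the point spanned by a vector -/
def idxS (t : V4) : Fin 40 := ⟨ISL.getD t.code 0 % 40, Nat.mod_lt _ (by decide)⟩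

theorem idxS_WS : ∀ j : Fin 40, idxS (WS j) = j := by decide

theorem WS_norm : ∀ j : Fin 40, hf (WS j) (WS j) ≠ 0 := by decide

theorem WS_idxS : ∀ a b c d : K4, hf ⟨a, b, c, d⟩ ⟨a, b, c, d⟩ ≠ 0 →
    ∃ l : K4, l ≠ 0 ∧ WS (idxS ⟨a, b, c, d⟩) = V4.smul l ⟨a, b, c, d⟩ := by decide

theorem idxS_smul : ∀ l a b c d : K4, l ≠ 0 →
    idxS (V4.smul l ⟨a, b, c, d⟩) = idxS ⟨a, b, c, d⟩ := by decide

theorem WS_idxS' (t : V4) (ht : hf t t ≠ 0) : ∃ l : K4, l ≠ 0 ∧ WS (idxS t) = V4.smul l t := by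
  obtain ⟨a, b, c, d⟩ := t
  exact WS_idxS a b c d ht

theorem idxS_smul' (l : K4) (t : V4) (hl : l ≠ 0) : idxS (V4.smul l t) = idxS t := by
  obtain ⟨a, b, c, d⟩ := t
  exact idxS_smul l a b c d hl

/-- the special unitary group -/
abbrev SU4 : Type := ↥(Cfsg.SU 4 K4 2)

/-- the matrix of an element -/
def mat (A : SU4) : Matrix (Fin 4) (Fin 4) K4 := ((A : Matrix.SpecialLinearGroup (Fin 4) K4) : Matrix (Fin 4) (Fin 4) K4)

theorem mat_one : mat 1 = 1 := rfl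

theorem mat_mul (A B : SU4) : mat (A * B) = mat A * mat B := rfl

theorem mat_herm (A : SU4) (x y : Fin 4 → K4) :
    Cfsg.hermForm 4 K4 2 (mat A *ᵥ x) (mat A *ᵥ y) = Cfsg.hermForm 4 K4 2 x y := A.2 x y

theorem hf_mat (A : SU4) (t : V4) : hf (ofW (mat A *ᵥ toW t)) (ofW (mat A *ᵥ toW t)) = hf t t := by
  rw [hf_ofW, mat_herm, hf_toW]

/-- the action on point indices -/
noncomputable def pactS (A : SU4) (j : Fin 40) : Fin 40 := idxS (ofW (mat A *ᵥ toW (WS j)))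

theorem pactS_one (j : Fin 40) : pactS 1 j = j := by
  unfold pactS
  rw [mat_one, one_mulVec, ofW_toW, idxS_WS]

theorem pactS_mul (A B : SU4) (j : Fin 40) : pactS (A * B) j = pactS A (pactS B j) := by
  unfold pactS
  have hy0 : hf (ofW (mat B *ᵥ toW (WS j))) (ofW (mat B *ᵥ toW (WS j))) ≠ 0 := by
    rw [hf_mat]
    exact WS_norm j
  obtain ⟨l, hl, hW⟩ := WS_idxS' _ hy0
  rw [hW, toW_smul, toW_ofW, mulVec_smul, ofW_smul, idxS_smul' _ _ hl, mulVec_mulVec, mat_mul]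

noncomputable instance instMulActionSU4 : MulAction SU4 (Fin 40) where
  smul := pactS
  one_smul := pactS_one
  mul_smul := pactS_mul

/-- the permutation representation on the 40 points -/
noncomputable def rhoS : SU4 →* Equiv.Perm (Fin 40) := MulAction.toPermHom SU4 (Fin 40)

theorem rhoS_apply (A : SU4) (j : Fin 40) : rhoS A j = pactS A j := rfl

theorem eigen_of_fixS (A : SU4) (h : ∀ j, pactS A j = j) (t : V4) (ht : hf t t ≠ 0) :
    ∃ μ : K4, mat A *ᵥ toW t = μ • toW t := by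
  obtain ⟨l, hl, hW⟩ := WS_idxS' t ht
  have hj := h (idxS t)
  unfold pactS at hj
  have hy0 : hf (ofW (mat A *ᵥ toW (WS (idxS t)))) (ofW (mat A *ᵥ toW (WS (idxS t)))) ≠ 0 := by
    rw [hf_mat]
    exact WS_norm _
  obtain ⟨l', hl', hW'⟩ := WS_idxS' _ hy0
  rw [hj] at hW'
  have e1 := congrArg toW hW'
  rw [toW_smul, toW_ofW, hW, toW_smul, mulVec_smul] at e1
  refine ⟨l'⁻¹, ?_⟩
  have e2 : (l'⁻¹ * l⁻¹) • (l • toW t) = (l'⁻¹ * l⁻¹) • (l' • l • (mat A *ᵥ toW t)) := by rw [e1]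
  rw [smul_smul, smul_smul, smul_smul] at e2
  have h1 : l'⁻¹ * l⁻¹ * l = l'⁻¹ := by rw [mul_assoc, inv_mul_cancel₀ hl, mul_one]
  have h2 : l'⁻¹ * l⁻¹ * l' * l = 1 := by field_simp
  rw [h1, h2, one_smul] at e2
  exact e2.symm

/-- the standard basis -/
def E4 : Fin 4 → V4 := ![⟨1, 0, 0, 0⟩, ⟨0, 1, 0, 0⟩, ⟨0, 0, 1, 0⟩, ⟨0, 0, 0, 1⟩]

theorem toW_E4 (i : Fin 4) : toW (E4 i) = Pi.single i 1 := by
  ext j
  fin_cases i <;> fin_cases j <;> rfl

theorem E4_norm : ∀ i : Fin 4, hf (E4 i) (E4 i) ≠ 0 := by decide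

/-- a third index -/
def third : Fin 4 → Fin 4 := ![1, 2, 1, 1]

theorem third_ne : ∀ i : Fin 4, i ≠ 0 → third i ≠ 0 ∧ third i ≠ i := by decide

theorem E4_three_norm : ∀ i : Fin 4, i ≠ 0 →
    hf (V4.add (V4.add (E4 0) (E4 i)) (E4 (third i))) (V4.add (V4.add (E4 0) (E4 i)) (E4 (third i))) ≠ 0 := by
  decide

theorem scalar_of_fixS (A : SU4) (h : ∀ j, pactS A j = j) :
    ∃ μ : K4, mat A = μ • (1 : Matrix (Fin 4) (Fin 4) K4) := by
  have eig := eigen_of_fixS A h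
  choose μ hμ using fun i => eig (E4 i) (E4_norm i)
  have key : ∀ i, μ i = μ 0 := by
    intro i
    by_cases hi : i = 0
    · rw [hi]
    · obtain ⟨ν, hν⟩ := eig _ (E4_three_norm i hi)
      obtain ⟨h3, h4⟩ := third_ne i hi
      rw [toW_add, toW_add, mulVec_add, mulVec_add, hμ, hμ, hμ, smul_add, smul_add, toW_E4, toW_E4,
        toW_E4] at hν
      have a := congrFun hν 0
      have b := congrFun hν i
      simp [hi, Ne.symm hi, Ne.symm h3, Ne.symm h4] at a b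
      rw [a, b]
  refine ⟨μ 0, ?_⟩
  apply Matrix.ext_of_mulVec_single
  intro i
  rw [← toW_E4, hμ, key i, smul_mulVec, one_mulVec]

theorem mem_center_of_fixS (A : SU4) (h : ∀ j, pactS A j = j) : A ∈ Subgroup.center SU4 := by
  obtain ⟨μ, hμ⟩ := scalar_of_fixS A h
  rw [Subgroup.mem_center_iff]
  intro B
  apply Subtype.ext
  apply Subtype.ext
  show mat (B * A) = mat (A * B)
  rw [mat_mul, mat_mul, hμ, Matrix.mul_smul, Matrix.smul_mul, Matrix.mul_one, Matrix.one_mul]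

theorem rhoS_ker_le : rhoS.ker ≤ Subgroup.center SU4 := by
  intro A hA
  rw [MonoidHom.mem_ker] at hA
  apply mem_center_of_fixS
  intro j
  have := congrArg (fun p : Equiv.Perm (Fin 40) => p j) hA
  simpa [rhoS_apply] using this

end Cfsg.Agent.Lib.Helper8.Usp
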