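import Mathlib
import Cfsg.Prelude.Def_ClassicalGeometry
import Cfsg.Agent.Lib.Helper5.SympTv
import Cfsg.Agent.S0246

/-! 4-vectors and 4x4 matrices over `ZMod 3`, and the action of `Sp(4,3)` and of `PSp(4,3)` on the
40 points of the projective space (points indexed by `Fin 40`). -/

set_option autoImplicit false

namespace Cfsg.Agent.Lib.Helper8.Usp

open Matrix Cfsg.Agent.Lib.Helper5.SympTv

/-- vectors with four coordinates over `ZMod 3` -/
structure P4 where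
  a : ZMod 3
  b : ZMod 3
  c : ZMod 3
  d : ZMod 3
  deriving DecidableEq

namespace P4

def zero : P4 := ⟨0, 0, 0, 0⟩
def add (s t : P4) : P4 := ⟨s.a + t.a, s.b + t.b, s.c + t.c, s.d + t.d⟩
def smul (l : ZMod 3) (t : P4) : P4 := ⟨l * t.a, l * t.b, l * t.c, l * t.d⟩
def dot (s t : P4) : ZMod 3 := s.a * t.a + s.b * t.b + s.c * t.c + s.d * t.d
def form (s t : P4) : ZMod 3 := s.c * t.a + s.d * t.b - s.a * t.c - s.b * t.d

def toV (t : P4) : Fin 2 ⊕ Fin 2 → ZMod 3 := Sum.elim ![t.a, t.b] ![t.c, t.d]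
def ofV (x : Fin 2 ⊕ Fin 2 → ZMod 3) : P4 :=
  ⟨x (Sum.inl 0), x (Sum.inl 1), x (Sum.inr 0), x (Sum.inr 1)⟩

theorem ofV_toV (t : P4) : ofV t.toV = t := rfl

theorem toV_ofV (x : Fin 2 ⊕ Fin 2 → ZMod 3) : (ofV x).toV = x := by
  ext i
  rcases i with i | i <;> fin_cases i <;> rfl

theorem toV_injective : Function.Injective toV := fun s t h => by
  rw [← ofV_toV s, ← ofV_toV t, h]

theorem toV_zero : zero.toV = 0 := by
  ext i
  rcases i with i | i <;> fin_cases i <;> rfl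

theorem toV_add (s t : P4) : (add s t).toV = s.toV + t.toV := by
  ext i
  rcases i with i | i <;> fin_cases i <;> rfl

theorem toV_smul (l : ZMod 3) (t : P4) : (smul l t).toV = l • t.toV := by
  ext i
  rcases i with i | i <;> fin_cases i <;> rfl

theorem ofV_smul (l : ZMod 3) (x : Fin 2 ⊕ Fin 2 → ZMod 3) : ofV (l • x) = smul l (ofV x) := rfl

theorem ofV_eq_zero_iff (x : Fin 2 ⊕ Fin 2 → ZMod 3) : ofV x = zero ↔ x = 0 := by
  constructor
  · intro h
    rw [← toV_ofV x, h, toV_zero]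
  · rintro rfl
    rfl

theorem form_toV (s t : P4) : Cfsg.sympForm 2 (ZMod 3) s.toV t.toV = form s t := by
  unfold Cfsg.sympForm
  simp [Matrix.J, dotProduct, Matrix.mulVec, Fintype.sum_sum_type, Fin.sum_univ_two, toV, form]
  ring

def code (t : P4) : ℕ := t.a.val + 3 * t.b.val + 9 * t.c.val + 27 * t.d.val

def ofCode (n : ℕ) : P4 :=
  ⟨(n : ZMod 3), ((n / 3 : ℕ) : ZMod 3), ((n / 9 : ℕ) : ZMod 3), ((n / 27 : ℕ) : ZMod 3)⟩

end P4

/-- 4x4 matrices over `ZMod 3`, by rows -/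
structure M4P where
  r0 : P4
  r1 : P4
  r2 : P4
  r3 : P4

namespace M4P

def mv (M : M4P) (t : P4) : P4 := ⟨M.r0.dot t, M.r1.dot t, M.r2.dot t, M.r3.dot t⟩

def toM (M : M4P) : Matrix (Fin 2 ⊕ Fin 2) (Fin 2 ⊕ Fin 2) (ZMod 3) :=
  Matrix.of (Sum.elim ![M.r0.toV, M.r1.toV] ![M.r2.toV, M.r3.toV])

theorem toM_mulVec (M : M4P) (t : P4) : M.toM *ᵥ t.toV = (M.mv t).toV := by
  ext i
  rcases i with i | i <;> fin_cases i <;>
    simp [toM, Matrix.mulVec, dotProduct, Fintype.sum_sum_type, Fin.sum_univ_two, P4.toV, mv, P4.dot] <;>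
    ring

def ofCode (n : ℕ) : M4P :=
  ⟨P4.ofCode n, P4.ofCode (n / 81), P4.ofCode (n / 6561), P4.ofCode (n / 531441)⟩

end M4P

/-- the standard basis -/
def EP : Fin 2 ⊕ Fin 2 → P4 := Sum.elim ![⟨1, 0, 0, 0⟩, ⟨0, 1, 0, 0⟩] ![⟨0, 0, 1, 0⟩, ⟨0, 0, 0, 1⟩]

theorem toV_EP (i : Fin 2 ⊕ Fin 2) : (EP i).toV = Pi.single i 1 := by
  ext j
  rcases i with i | i <;> fin_cases i <;> rcases j with j | j <;> fin_cases j <;> rfl

/-- the matrix preserves the symplectic form (checked on the basis) -/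
def M4P.isSp (M : M4P) : Prop :=
  ∀ i j : Fin 2 ⊕ Fin 2, P4.form (M.mv (EP i)) (M.mv (EP j)) = P4.form (EP i) (EP j)

instance (M : M4P) : Decidable M.isSp := by unfold M4P.isSp; infer_instance

theorem M4P.toM_mem (M : M4P) (h : M.isSp) : M.toM ∈ Matrix.symplecticGroup (Fin 2) (ZMod 3) := by
  rw [SymplecticGroup.mem_iff']
  ext i j
  have := h i j
  rw [← P4.form_toV, ← P4.form_toV, ← M4P.toM_mulVec, ← M4P.toM_mulVec, toV_EP, toV_EP] at this
  unfold Cfsg.sympForm at this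
  rw [← vecMul_transpose M.toM, ← dotProduct_mulVec, mulVec_mulVec, mulVec_mulVec,
    mulVec_single_one, mulVec_single_one, single_dotProduct, single_dotProduct, one_mul, one_mul]
    at this
  exact this

/-- the symplectic group `Sp(4,3)` -/
abbrev Sp3 : Type := ↥(Matrix.symplecticGroup (Fin 2) (ZMod 3))

/-! ### the 40 points -/

def WPL : List ℕ := [27, 9, 36, 63, 3, 30, 57, 12, 39, 66, 21, 48, 75, 1, 28, 55, 10, 37, 64, 19, 46, 73, 4, 31, 58, 13, 40, 67, 22, 49, 76, 7, 34, 61, 16, 43, 70, 25, 52, 79]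

def IPL : List ℕ := [0, 13, 13, 4, 22, 31, 4, 31, 22, 1, 16, 19, 7, 25, 37, 10, 34, 28, 1, 19, 16, 10, 28, 34, 7, 37, 25, 0, 14, 15, 5, 23, 33, 6, 32, 24, 2, 17, 21, 8, 26, 39, 12, 35, 30, 3, 20, 18, 11, 29, 36, 9, 38, 27, 0, 15, 14, 6, 24, 32, 5, 33, 23, 3, 18, 20, 9, 27, 38, 11, 36, 29, 2, 21, 17, 12, 30, 35, 8, 39, 26]

/-- the normalised vector of the `j`-th point -/
def WP (j : Fin 40) : P4 := P4.ofCode (WPL.getD j.1 0)

/-- the index of the point spanned by a vector -/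
def idxP (t : P4) : Fin 40 := ⟨IPL.getD t.code 0 % 40, Nat.mod_lt _ (by decide)⟩

theorem idxP_WP : ∀ j : Fin 40, idxP (WP j) = j := by decide

theorem WP_ne_zero : ∀ j : Fin 40, WP j ≠ P4.zero := by decide

theorem WP_idxP : ∀ a b c d : ZMod 3, (⟨a, b, c, d⟩ : P4) ≠ P4.zero →
    ∃ l : ZMod 3, l ≠ 0 ∧ WP (idxP ⟨a, b, c, d⟩) = P4.smul l ⟨a, b, c, d⟩ := by decide

theorem idxP_smul : ∀ l a b c d : ZMod 3, l ≠ 0 →
    idxP (P4.smul l ⟨a, b, c, d⟩) = idxP ⟨a, b, c, d⟩ := by decide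

theorem WP_idxP' (t : P4) (ht : t ≠ P4.zero) : ∃ l : ZMod 3, l ≠ 0 ∧ WP (idxP t) = P4.smul l t := by
  obtain ⟨a, b, c, d⟩ := t
  exact WP_idxP a b c d ht

theorem idxP_smul' (l : ZMod 3) (t : P4) (hl : l ≠ 0) : idxP (P4.smul l t) = idxP t := by
  obtain ⟨a, b, c, d⟩ := t
  exact idxP_smul l a b c d hl

/-- the action on point indices -/
noncomputable def pactP (A : Sp3) (j : Fin 40) : Fin 40 := idxP (P4.ofV (A.1 *ᵥ (WP j).toV))

theorem sp_mulVec_ne_zero (A : Sp3) (x : Fin 2 ⊕ Fin 2 → ZMod 3) (hx : x ≠ 0) : A.1 *ᵥ x ≠ 0 := by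
  intro h
  have h1 : (A⁻¹).1 *ᵥ (A.1 *ᵥ x) = x := by
    rw [mulVec_mulVec, ← Submonoid.coe_mul, inv_mul_cancel, Submonoid.coe_one, one_mulVec]
  rw [h, mulVec_zero] at h1
  exact hx h1.symm

theorem WP_toV_ne_zero (j : Fin 40) : (WP j).toV ≠ 0 := by
  intro h
  apply WP_ne_zero j
  apply P4.toV_injective
  rw [h, P4.toV_zero]

theorem pactP_one (j : Fin 40) : pactP 1 j = j := by
  unfold pactP
  rw [Submonoid.coe_one, one_mulVec, P4.ofV_toV, idxP_WP]

theorem pactP_mul (A B : Sp3) (j : Fin 40) : pactP (A * B) j = pactP A (pactP B j) := by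
  unfold pactP
  have hy0 : P4.ofV (B.1 *ᵥ (WP j).toV) ≠ P4.zero := by
    rw [Ne, P4.ofV_eq_zero_iff]
    exact sp_mulVec_ne_zero B _ (WP_toV_ne_zero j)
  obtain ⟨l, hl, hW⟩ := WP_idxP' _ hy0
  rw [hW, P4.toV_smul, P4.toV_ofV, mulVec_smul, P4.ofV_smul, idxP_smul' _ _ hl, mulVec_mulVec,
    Submonoid.coe_mul]

noncomputable instance instMulActionSp3 : MulAction Sp3 (Fin 40) where
  smul := pactP
  one_smul := pactP_one
  mul_smul := pactP_mul

/-- the permutation representation on the 40 points -/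
noncomputable def rhoP : Sp3 →* Equiv.Perm (Fin 40) := MulAction.toPermHom Sp3 (Fin 40)

theorem rhoP_apply (A : Sp3) (j : Fin 40) : rhoP A j = pactP A j := rfl

theorem rhoP_sp (M : M4P) (h : M.isSp) (j : Fin 40) :
    rhoP ⟨M.toM, M.toM_mem h⟩ j = idxP (M.mv (WP j)) := by
  rw [rhoP_apply]
  unfold pactP
  rw [M4P.toM_mulVec, P4.ofV_toV]

theorem fix_of_mem_centerP (A : Sp3) (hA : A ∈ Subgroup.center Sp3) (j : Fin 40) :
    pactP A j = j := by
  obtain ⟨a, ha⟩ := Cfsg.Agent.S0246.central_eigen 2 A hA (WP j).toV (WP_toV_ne_zero j)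
  have ha0 : a ≠ 0 := by
    rintro rfl
    rw [zero_smul] at ha
    exact sp_mulVec_ne_zero A _ (WP_toV_ne_zero j) ha
  unfold pactP
  rw [ha, P4.ofV_smul, idxP_smul' _ _ ha0, P4.ofV_toV, idxP_WP]

/-- the projective symplectic group -/
abbrev PSp3 : Type := Cfsg.PSp 2 (ZMod 3)

/-- the permutation representation of `PSp(4,3)` on the 40 points -/
noncomputable def tauP : PSp3 →* Equiv.Perm (Fin 40) :=
  QuotientGroup.lift (Subgroup.center Sp3) rhoP (fun A hA => by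
    ext j
    rw [rhoP_apply, fix_of_mem_centerP A hA j]
    rfl)

theorem tauP_mk (A : Sp3) : tauP (QuotientGroup.mk A) = rhoP A := rfl

end Cfsg.Agent.Lib.Helper8.Usp
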