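import Cfsg.Agent.Lib.Helper8.UspA
import Cfsg.Agent.Lib.Helper8.UspB
import Cfsg.Agent.Lib.Helper5.HermSU

/-! The unitary transvections of `SU(4,2)` act on the 40 points as elements of `PSp(4,3)` do. -/

set_option autoImplicit false

namespace Cfsg.Agent.Lib.Helper8.Usp

open Matrix Cfsg.Agent.Lib.Helper8.HeSp

def GLt : List ℕ := [14408200, 9920400, 11002965, 10491207, 14644478, 15215285, 15727043, 33540322, 34622887, 34111129, 14821706, 15904271, 15392513, 38323294, 38894101, 39405859, 28757350, 572292, 10138236, 5355264, 749520, 10827222, 4961685, 926748, 9921885, 6221478, 29839915, 34978126, 39249340, 29112589, 34289140, 39583870, 28935361, 33541105, 38324077, 28758133, 29328157, 34467070, 29113291, 39761800, 33541807, 28758835, 38324779, 34801600, 28936063, 39072814]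

def KLt : List ℕ := [0, 0, 0, 0, 0, 16, 36, 26, 0, 26, 16, 36, 0, 36, 26, 16, 0, 13, 15, 14, 7, 0, 0, 0, 9, 0, 0, 0, 8, 0, 0, 0, 0, 14, 13, 15, 8, 0, 0, 0, 7, 0, 0, 0, 9, 0, 0, 0, 0, 15, 14, 13, 9, 0, 0, 0, 8, 0, 0, 0, 7, 0, 0, 0, 0, 10, 12, 11, 4, 0, 0, 0, 6, 0, 0, 0, 5, 0, 0, 0, 1, 0, 0, 0, 0, 17, 45, 31, 0, 27, 25, 41, 0, 37, 35, 21, 3, 0, 0, 0, 0, 20, 39, 34, 0, 30, 19, 44, 0, 40, 29, 24, 2, 0, 0, 0, 0, 23, 42, 28, 0, 33, 22, 38, 0, 43, 32, 18, 0, 11, 10, 12, 5, 0, 0, 0, 4, 0, 0, 0, 6, 0, 0, 0, 2, 0, 0, 0, 0, 18, 43, 32, 0, 28, 23, 42, 0, 38, 33, 22, 1, 0, 0, 0, 0, 21, 37, 35, 0, 31, 17, 45, 0, 41, 27, 25, 3, 0, 0, 0, 0, 24, 40, 29, 0, 34, 20, 39, 0, 44, 30, 19, 0, 12, 11, 10, 6, 0, 0, 0, 5, 0, 0, 0, 4, 0, 0, 0, 3, 0, 0, 0, 0, 19, 44, 30, 0, 29, 24, 40, 0, 39, 34, 20, 2, 0, 0, 0, 0, 22, 38, 33, 0, 32, 18, 43, 0, 42, 28, 23, 1, 0, 0, 0, 0,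 25, 41, 27, 0, 35, 21, 37, 0, 45, 31, 17]

/-- the symplectic matrix of an index -/
def gP (k : ℕ) : M4P := M4P.ofCode (GLt.getD k 0)

theorem gP_isSp : ∀ k : Fin 46, (gP k.1).isSp := by decide +kernel

/-- the unitary transvection on vectors -/
def tvS (v : V4) (c : K4) (x : V4) : V4 := V4.add x (V4.smul (c * hf x v) v)

/-- the index of the symplectic matrix of a transvection -/
def kOf (v : V4) (c : K4) : ℕ := if c = 1 then KLt.getD v.code 0 else 0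

theorem chk : ∀ a b c d cc : K4, hf ⟨a, b, c, d⟩ ⟨a, b, c, d⟩ = 0 →
    (∀ j : Fin 40, hf (tvS ⟨a, b, c, d⟩ cc (WS j)) (tvS ⟨a, b, c, d⟩ cc (WS j)) ≠ 0) →
    kOf ⟨a, b, c, d⟩ cc < 46 ∧ ∀ j : Fin 40,
      idxS (tvS ⟨a, b, c, d⟩ cc (WS j)) = idxP ((gP (kOf ⟨a, b, c, d⟩ cc)).mv (WP j)) := by
  decide +kernel

end Cfsg.Agent.Lib.Helper8.Usp
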