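import Cfsg.Agent.Lib.Helper8.UspC

/-! The image of `SU(4,2)` on the 40 points lies in the image of `PSp(4,3)`. -/

set_option autoImplicit false

namespace Cfsg.Agent.Lib.Helper8.Usp

open Matrix Cfsg.Agent.Lib.Helper8.HeSp

theorem tvS_toW (v : V4) (c : K4) (x : V4) :
    Cfsg.unitaryTransvection 4 2 (toW v) c *ᵥ toW x = toW (tvS v c x) := by
  rw [Cfsg.Agent.Lib.Helper5.Herm.unitaryTransvection_mulVec, hf_toW, tvS, toW_add, toW_smul]

theorem tv_mem_range (A : SU4) (hA : A ∈ Cfsg.Agent.Lib.Helper5.HermSU.tvSet K4 2 4) :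
    rhoS A ∈ tauP.range := by
  obtain ⟨v, c, hv, hm⟩ := hA
  have hmat : mat A = Cfsg.unitaryTransvection 4 2 (toW (ofW v)) c := by
    rw [toW_ofW]
    exact hm
  have hv' : hf (ofW v) (ofW v) = 0 := by rw [hf_ofW]; exact hv
  have hact : ∀ j, ofW (mat A *ᵥ toW (WS j)) = tvS (ofW v) c (WS j) := by
    intro j
    rw [hmat, tvS_toW, ofW_toW]
  have key : ∀ t : V4, hf t t = 0 → (∀ j, ofW (mat A *ᵥ toW (WS j)) = tvS t c (WS j)) →
      rhoS A ∈ tauP.range := by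
    intro t ht hact
    have hn : ∀ j : Fin 40, hf (tvS t c (WS j)) (tvS t c (WS j)) ≠ 0 := by
      intro j
      rw [← hact, hf_mat]
      exact WS_norm j
    obtain ⟨a, b, c', d⟩ := t
    obtain ⟨hk, hj⟩ := chk a b c' d c ht hn
    have hsp := gP_isSp ⟨_, hk⟩
    refine ⟨QuotientGroup.mk ⟨(gP (kOf ⟨a, b, c', d⟩ c)).toM, M4P.toM_mem _ hsp⟩, ?_⟩
    rw [tauP_mk]
    ext j
    rw [rhoP_sp _ hsp, rhoS_apply, ← hj j]
    unfold pactS
    rw [hact]
  exact key (ofW v) hv' hact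

theorem range_le : rhoS.range ≤ tauP.range := by
  have hgen := Cfsg.Agent.Lib.Helper5.HermSU.closure_tvSet (F := K4) (q := 2) K4.card_eq 4
    (by norm_num) (by norm_num)
  rw [MonoidHom.range_eq_map, ← hgen, MonoidHom.map_closure, Subgroup.closure_le]
  rintro _ ⟨A, hA, rfl⟩
  exact tv_mem_range A hA

end Cfsg.Agent.Lib.Helper8.Usp
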