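import Cfsg.Agent.Lib.Helper2.Plane4M

set_option autoImplicit false
set_option linter.unusedSectionVars false
set_option linter.unusedVariables false

/-! Steiner systems S(5,6,12): the hexad structure relative to a fixed block, encoded on
`Fin 6 × Fin 6`; combinatorial lemmas on synthemes (by kernel evaluation). -/

namespace Cfsg.Agent.Lib.Helper8.W

open Finset Cfsg.Agent.Lib.Helper2.Plane4

/-- `y z` is a non-edge of each of the three synthemes. -/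
def ne3 (i j k : Fin 15) (y z : Fin 6) : Prop := syn i y ≠ z ∧ syn j y ≠ z ∧ syn k y ≠ z

instance (i j k : Fin 15) (y z : Fin 6) : Decidable (ne3 i j k y z) := by
  unfold ne3; infer_instance

theorem c0 : ∀ i j k : Fin 15, ∃ y z : Fin 6, y ≠ z ∧ ne3 i j k y z := by decide +kernel

theorem c1 : ∀ i j : Fin 15, sdisj i j → ∀ k, sdisj i k → sdisj j k →
    ∀ y z : Fin 6, y ≠ z → ne3 i j k y z → ∀ w, w ≠ y → w ≠ z → ne3 i j k y w → ne3 i j k z w →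
    ∀ w', w' ≠ y → w' ≠ z → ne3 i j k y w' → ne3 i j k z w' → w = w' := by decide +kernel

theorem c2 : ∀ i j : Fin 15, sdisj i j → ∀ k, sdisj i k → sdisj j k →
    ∀ y z : Fin 6, y ≠ z → ne3 i j k y z → ∀ w, w ≠ y → w ≠ z → ne3 i j k y w → ne3 i j k z w →
    ∀ x, syn k x = syn i (syn j (syn i x)) := by decide +kernel

def vv (t1 t2 t3 t4 t5 : Fin 15) (c : Fin 6) : Fin 6 → Fin 6 :=
  ![c, syn t1 c, syn t2 c, syn t3 c, syn t4 c, syn t5 c]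

theorem g0 : ∀ t1 t2 : Fin 15, sdisj t1 t2 → ∀ t3, sdisj t1 t3 → sdisj t2 t3 →
    ∀ t4, sdisj t1 t4 → sdisj t2 t4 → sdisj t3 t4 →
    ∀ t5, sdisj t1 t5 → sdisj t2 t5 → sdisj t3 t5 → sdisj t4 t5 →
    ∃ c : Fin 6, (∀ a b, vv t1 t2 t3 t4 t5 c a = vv t1 t2 t3 t4 t5 c b → a = b) ∧
      ∀ y, syn t1 (vv t1 t2 t3 t4 t5 c y) = vv t1 t2 t3 t4 t5 c (syn 0 y) ∧
        syn t2 (vv t1 t2 t3 t4 t5 c y) = vv t1 t2 t3 t4 t5 c (syn 4 y) ∧
        syn t3 (vv t1 t2 t3 t4 t5 c y) = vv t1 t2 t3 t4 t5 c (syn 8 y) ∧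
        syn t4 (vv t1 t2 t3 t4 t5 c y) = vv t1 t2 t3 t4 t5 c (syn 10 y) ∧
        syn t5 (vv t1 t2 t3 t4 t5 c y) = vv t1 t2 t3 t4 t5 c (syn 12 y) := by decide +kernel

theorem g1 : ∀ c : Fin 6, (∀ y, syn 0 (vv 0 4 8 10 12 c y) = vv 0 4 8 10 12 c (syn 0 y) ∧
        syn 4 (vv 0 4 8 10 12 c y) = vv 0 4 8 10 12 c (syn 4 y) ∧
        syn 8 (vv 0 4 8 10 12 c y) = vv 0 4 8 10 12 c (syn 8 y) ∧
        syn 10 (vv 0 4 8 10 12 c y) = vv 0 4 8 10 12 c (syn 10 y) ∧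
        syn 12 (vv 0 4 8 10 12 c y) = vv 0 4 8 10 12 c (syn 12 y)) → c = 0 := by decide +kernel

theorem compl3_card : ∀ a b c : Fin 6, a ≠ b → a ≠ c → b ≠ c →
    ({a, b, c}ᶜ : Finset (Fin 6)).card = 3 := by decide +kernel

theorem insert_compl3_a : ∀ a b c : Fin 6, a ≠ b → a ≠ c → b ≠ c →
    insert a ({a, b, c}ᶜ : Finset (Fin 6)) = {b, c}ᶜ := by decide +kernel

theorem insert_compl3_b : ∀ a b c : Fin 6, a ≠ b → a ≠ c → b ≠ c →
    insert b ({a, b, c}ᶜ : Finset (Fin 6)) = {a, c}ᶜ := by decide +kernel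

theorem insert_compl3_c : ∀ a b c : Fin 6, a ≠ b → a ≠ c → b ≠ c →
    insert c ({a, b, c}ᶜ : Finset (Fin 6)) = {a, b}ᶜ := by decide +kernel

theorem compl2_card : ∀ a b : Fin 6, a ≠ b → ({a, b}ᶜ : Finset (Fin 6)).card = 4 := by
  decide +kernel

end Cfsg.Agent.Lib.Helper8.W
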