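import Cfsg.Agent.Lib.Helper8.W1

set_option autoImplicit false
set_option linter.unusedSectionVars false
set_option linter.unusedVariables false

/-! Steiner systems S(5,6,12): structure theory of the hexads relative to a fixed block,
in the encoded form `P L R` on `Fin 6 × Fin 6`. -/

namespace Cfsg.Agent.Lib.Helper8.W

open Finset Cfsg.Agent.Lib.Helper2.Plane4

/-- Axioms of the encoded hexad system: `P L R` says that the union of `L` (in the fixed block)
and `R` (in the complementary block) is a hexad. -/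
structure IsW (P : Finset (Fin 6) → Finset (Fin 6) → Prop) : Prop where
  card : ∀ L R, P L R → L.card + R.card = 6
  compl : ∀ L R, P L R → P Lᶜ Rᶜ
  top : P univ ∅
  uniq : ∀ L R L' R', P L R → P L' R' → 5 ≤ (L ∩ L').card + (R ∩ R').card → L = L' ∧ R = R'
  ex : ∀ A A' : Finset (Fin 6), A.card + A'.card = 5 → ∃ L R, P L R ∧ A ⊆ L ∧ A' ⊆ R

variable {P P' : Finset (Fin 6) → Finset (Fin 6) → Prop}

theorem IsW.card_ne_five (h : IsW P) {L R : Finset (Fin 6)} (hP : P L R) : L.card ≠ 5 := by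
  intro h5
  have := h.uniq L R univ ∅ hP h.top (by rw [inter_univ, inter_empty, card_empty, h5])
  rw [this.1, card_univ, Fintype.card_fin] at h5
  omega

theorem IsW.exists_mate (h : IsW P) {T : Finset (Fin 6)} (hT : T.card = 4) (y : Fin 6) :
    ∃ z, z ≠ y ∧ P T {y, z} := by
  obtain ⟨L, R, hP, hTL, hyR⟩ := h.ex T {y} (by rw [hT, card_singleton])
  have hc := h.card L R hP
  have h5 := h.card_ne_five hP
  have hLT : T.card ≤ L.card := card_le_card hTL
  have hyR' : y ∈ R := hyR (mem_singleton_self y)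
  have hR1 : 1 ≤ R.card := card_pos.mpr ⟨y, hyR'⟩
  have hL4 : L.card = 4 := by omega
  have hLeq : T = L := eq_of_subset_of_card_le hTL (by omega)
  have hR2 : R.card = 2 := by omega
  obtain ⟨u, v, huv, rfl⟩ := card_eq_two.mp hR2
  rw [mem_insert, mem_singleton] at hyR'
  rcases hyR' with rfl | rfl
  · exact ⟨v, huv.symm, hLeq ▸ hP⟩
  · refine ⟨u, huv, ?_⟩
    rw [pair_comm]
    exact hLeq ▸ hP

theorem IsW.mate_unique (h : IsW P) {T : Finset (Fin 6)} (hT : T.card = 4) {y z z' : Fin 6}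
    (hz : z ≠ y) (hz' : z' ≠ y) (h1 : P T {y, z}) (h2 : P T {y, z'}) : z = z' := by
  have hy : y ∈ ({y, z} ∩ {y, z'} : Finset (Fin 6)) := by simp
  have h3 : 1 ≤ (({y, z} : Finset (Fin 6)) ∩ {y, z'}).card := card_pos.mpr ⟨y, hy⟩
  have := h.uniq T {y, z} T {y, z'} h1 h2 (by rw [inter_self, hT]; omega)
  have hz2 : z ∈ ({y, z'} : Finset (Fin 6)) := by rw [← this.2]; simp
  rw [mem_insert, mem_singleton] at hz2
  rcases hz2 with h3 | h3
  · exact absurd h3 hz
  · exact h3

/-- the syntheme (number `t`) attached to a 4-subset `T` of the fixed block. -/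
def IsSyn (P : Finset (Fin 6) → Finset (Fin 6) → Prop) (T : Finset (Fin 6)) (t : Fin 15) :
    Prop := ∀ y z, P T {y, z} ↔ syn t y = z

theorem IsW.exists_isSyn (h : IsW P) {T : Finset (Fin 6)} (hT : T.card = 4) :
    ∃ t, IsSyn P T t := by
  choose m hm1 hm2 using h.exists_mate hT
  have hinv : ∀ y, m (m y) = y := by
    intro y
    have h1 : P T {m y, m (m y)} := hm2 (m y)
    have h2 : P T {m y, y} := by rw [pair_comm]; exact hm2 y
    exact h.mate_unique hT (hm1 (m y)) (hm1 y).symm h1 h2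
  obtain ⟨t, ht⟩ := syn_complete m hinv hm1
  refine ⟨t, fun y z => ⟨fun hP => ?_, fun hz => ?_⟩⟩
  · have hzy : z ≠ y := by
      rintro rfl
      have := h.card _ _ hP
      rw [hT] at this
      simp at this
    rw [ht]
    exact (h.mate_unique hT hzy (hm1 y) hP (hm2 y)).symm
  · rw [← hz, ht]
    exact hm2 y

theorem IsSyn.unique {T : Finset (Fin 6)} {t t' : Fin 15} (h1 : IsSyn P T t)
    (h2 : IsSyn P T t') : t = t' := by
  apply syn_inj
  intro a
  exact ((h2 a _).mp ((h1 a _).mpr rfl)).symm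

theorem sdisj_of (h : IsW P) {L : Finset (Fin 6)} (hL : L.card = 3) {a b : Fin 6}
    (ha : a ∉ L) (hab : a ≠ b) {i j : Fin 15} (si : IsSyn P (insert a L) i)
    (sj : IsSyn P (insert b L) j) : sdisj i j := by
  intro y hy
  have h1 : P (insert a L) {y, syn i y} := (si y _).mpr rfl
  have h2 : P (insert b L) {y, syn i y} := (sj y _).mpr hy.symm
  have hsub : L ⊆ insert a L ∩ insert b L :=
    subset_inter (subset_insert _ _) (subset_insert _ _)
  have h3 : 3 ≤ (insert a L ∩ insert b L).card := by rw [← hL]; exact card_le_card hsub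
  have hne : syn i y ≠ y := syn_ne i y
  have h4 : ({y, syn i y} : Finset (Fin 6)).card = 2 := card_pair hne.symm
  have := h.uniq _ _ _ _ h1 h2 (by rw [inter_self, h4]; omega)
  have ha' : a ∈ insert b L := by rw [← this.1]; exact mem_insert_self a L
  rw [mem_insert] at ha'
  rcases ha' with h5 | h5
  · exact hab h5
  · exact ha h5

theorem indep_of (h : IsW P) {L R : Finset (Fin 6)} (hL : L.card = 3) {c : Fin 6} (hc : c ∉ L)
    {t : Fin 15} (st : IsSyn P (insert c L) t) (hP : P L R) {y z : Fin 6} (hy : y ∈ R)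
    (hz : z ∈ R) : syn t y ≠ z := by
  intro hyz
  have h1 : P (insert c L) {y, z} := (st y z).mpr hyz
  have hne : y ≠ z := by rw [← hyz]; exact (syn_ne t y).symm
  have h2 : ({y, z} : Finset (Fin 6)) ⊆ R ∩ {y, z} := by
    intro x hx
    rw [mem_inter]
    refine ⟨?_, hx⟩
    rw [mem_insert, mem_singleton] at hx
    rcases hx with rfl | rfl <;> assumption
  have h3 : 2 ≤ (R ∩ {y, z}).card := by rw [← card_pair hne]; exact card_le_card h2
  have h4 : L ∩ insert c L = L := inter_eq_left.mpr (subset_insert _ _)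
  have := h.uniq _ _ _ _ hP h1 (by rw [h4, hL]; omega)
  apply hc
  have h5 : c ∈ insert c L := mem_insert_self c L
  rw [← this.1] at h5
  exact h5

/-- a 3-subset `L` of the fixed block, the three points `a b c` outside it, and the three
synthemes attached to the 4-sets `L ∪ {a}`, `L ∪ {b}`, `L ∪ {c}`. -/
structure Tri (P : Finset (Fin 6) → Finset (Fin 6) → Prop) (L : Finset (Fin 6))
    (a b c : Fin 6) (i j k : Fin 15) : Prop where
  cardL : L.card = 3
  out : ∀ u, u ∉ L ↔ (u = a ∨ u = b ∨ u = c)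
  hab : a ≠ b
  hac : a ≠ c
  hbc : b ≠ c
  si : IsSyn P (insert a L) i
  sj : IsSyn P (insert b L) j
  sk : IsSyn P (insert c L) k

section tri

variable {L : Finset (Fin 6)} {a b c : Fin 6} {i j k : Fin 15}

theorem Tri.ha (T : Tri P L a b c i j k) : a ∉ L := (T.out a).mpr (Or.inl rfl)

theorem Tri.hb (T : Tri P L a b c i j k) : b ∉ L := (T.out b).mpr (Or.inr (Or.inl rfl))

theorem Tri.hc (T : Tri P L a b c i j k) : c ∉ L := (T.out c).mpr (Or.inr (Or.inr rfl))

theorem Tri.sdisj_ij (T : Tri P L a b c i j k) (h : IsW P) : sdisj i j :=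
  sdisj_of h T.cardL T.ha T.hab T.si T.sj

theorem Tri.sdisj_ik (T : Tri P L a b c i j k) (h : IsW P) : sdisj i k :=
  sdisj_of h T.cardL T.ha T.hac T.si T.sk

theorem Tri.sdisj_jk (T : Tri P L a b c i j k) (h : IsW P) : sdisj j k :=
  sdisj_of h T.cardL T.hb T.hbc T.sj T.sk

theorem Tri.indep (T : Tri P L a b c i j k) (h : IsW P) {R : Finset (Fin 6)} (hP : P L R)
    {y z : Fin 6} (hy : y ∈ R) (hz : z ∈ R) : ne3 i j k y z :=
  ⟨indep_of h T.cardL T.ha T.si hP hy hz, indep_of h T.cardL T.hb T.sj hP hy hz,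
    indep_of h T.cardL T.hc T.sk hP hy hz⟩

theorem Tri.exists_triple_of_ne3 (T : Tri P L a b c i j k) (h : IsW P) {y z : Fin 6}
    (hyz : y ≠ z) (hn : ne3 i j k y z) : ∃ R, P L R ∧ R.card = 3 ∧ y ∈ R ∧ z ∈ R := by
  obtain ⟨L1, R1, hP, hL1, hR1⟩ := h.ex L {y, z} (by rw [T.cardL, card_pair hyz])
  have hc := h.card _ _ hP
  have h5 := h.card_ne_five hP
  have hyR : y ∈ R1 := hR1 (by simp)
  have hzR : z ∈ R1 := hR1 (by simp)
  have hR2 : 2 ≤ R1.card := by rw [← card_pair hyz]; exact card_le_card hR1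
  have hL3 : 3 ≤ L1.card := by rw [← T.cardL]; exact card_le_card hL1
  have h34 : L1.card = 3 ∨ L1.card = 4 := by omega
  rcases h34 with h3 | h4
  · have : L = L1 := eq_of_subset_of_card_le hL1 (by rw [h3, T.cardL])
    exact ⟨R1, this ▸ hP, by omega, hyR, hzR⟩
  · exfalso
    have hR1eq : R1 = {y, z} :=
      (eq_of_subset_of_card_le hR1 (by rw [card_pair hyz]; omega)).symm
    have hex : ∃ u, u ∉ L ∧ L1 = insert u L := by
      have hd : (L1 \ L).card = 1 := by
        rw [card_sdiff_of_subset hL1, h4, T.cardL]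
      obtain ⟨u, hu⟩ := card_eq_one.mp hd
      have hu' : u ∈ L1 \ L := by rw [hu]; exact mem_singleton_self u
      rw [mem_sdiff] at hu'
      refine ⟨u, hu'.2, ?_⟩
      refine (eq_of_subset_of_card_le (insert_subset hu'.1 hL1) ?_).symm
      rw [card_insert_of_notMem hu'.2, T.cardL, h4]
    obtain ⟨u, huL, rfl⟩ := hex
    rw [hR1eq] at hP
    rcases (T.out u).mp huL with rfl | rfl | rfl
    · exact hn.1 ((T.si y z).mp hP)
    · exact hn.2.1 ((T.sj y z).mp hP)
    · exact hn.2.2 ((T.sk y z).mp hP)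

theorem Tri.mem_of_indep (T : Tri P L a b c i j k) (h : IsW P) {y z w : Fin 6} (hyz : y ≠ z)
    (hyw : y ≠ w) (hzw : z ≠ w) (n1 : ne3 i j k y z) (n2 : ne3 i j k y w)
    (n3 : ne3 i j k z w) : P L {y, z, w} := by
  obtain ⟨R1, hP, hR3, hyR, hzR⟩ := T.exists_triple_of_ne3 h hyz n1
  have hex : ∃ w1, w1 ≠ y ∧ w1 ≠ z ∧ R1 = {y, z, w1} := by
    have hsub : ({y, z} : Finset (Fin 6)) ⊆ R1 := by
      intro x hx
      rw [mem_insert, mem_singleton] at hx
      rcases hx with rfl | rfl <;> assumption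
    have hd : (R1 \ {y, z}).card = 1 := by
      rw [card_sdiff_of_subset hsub, hR3, card_pair hyz]
    obtain ⟨w1, hw1⟩ := card_eq_one.mp hd
    have hw1' : w1 ∈ R1 \ {y, z} := by rw [hw1]; exact mem_singleton_self _
    rw [mem_sdiff, mem_insert, mem_singleton, not_or] at hw1'
    refine ⟨w1, hw1'.2.1, hw1'.2.2, ?_⟩
    symm
    apply eq_of_subset_of_card_le
    · intro x hx
      rw [mem_insert, mem_insert, mem_singleton] at hx
      rcases hx with rfl | rfl | rfl
      · exact hyR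
      · exact hzR
      · exact hw1'.1
    · rw [hR3]
      exact (card_eq_three.mpr ⟨y, z, w1, hyz, (Ne.symm hw1'.2.1), (Ne.symm hw1'.2.2), rfl⟩).ge
  obtain ⟨w1, hw1y, hw1z, rfl⟩ := hex
  have m1 : ne3 i j k y w1 := T.indep h hP (by simp) (by simp)
  have m2 : ne3 i j k z w1 := T.indep h hP (by simp) (by simp)
  have := c1 i j (T.sdisj_ij h) k (T.sdisj_ik h) (T.sdisj_jk h) y z hyz n1 w hyw.symm hzw.symm
    n2 n3 w1 hw1y hw1z m1 m2
  rw [this]
  exact hP

theorem Tri.hex (T : Tri P L a b c i j k) (h : IsW P) :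
    ∀ x, syn k x = syn i (syn j (syn i x)) := by
  obtain ⟨y0, z0, hyz0, hn0⟩ := c0 i j k
  obtain ⟨R, hP, hR3, -, -⟩ := T.exists_triple_of_ne3 h hyz0 hn0
  obtain ⟨y, z, w, hyz, hyw, hzw, rfl⟩ := card_eq_three.mp hR3
  exact c2 i j (T.sdisj_ij h) k (T.sdisj_ik h) (T.sdisj_jk h) y z hyz
    (T.indep h hP (by simp) (by simp)) w hyw.symm hzw.symm
    (T.indep h hP (by simp) (by simp)) (T.indep h hP (by simp) (by simp))

end tri

theorem mkTri {a b c : Fin 6} (hab : a ≠ b) (hac : a ≠ c) (hbc : b ≠ c) {i j k : Fin 15}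
    (si : IsSyn P {b, c}ᶜ i) (sj : IsSyn P {a, c}ᶜ j) (sk : IsSyn P {a, b}ᶜ k) :
    Tri P {a, b, c}ᶜ a b c i j k := by
  refine ⟨compl3_card a b c hab hac hbc, ?_, hab, hac, hbc, ?_, ?_, ?_⟩
  · intro u
    rw [mem_compl, not_not, mem_insert, mem_insert, mem_singleton]
  · rw [insert_compl3_a a b c hab hac hbc]; exact si
  · rw [insert_compl3_b a b c hab hac hbc]; exact sj
  · rw [insert_compl3_c a b c hab hac hbc]; exact sk

/-- the standard synthemes (the total `tot 0`) attached to the duads `{0, a}`. -/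
def std : Fin 6 → Fin 15 := ![0, 0, 4, 8, 10, 12]

/-- normalised systems: the syntheme attached to the complement of `{0, a}` is `std a`. -/
def IsNorm (P : Finset (Fin 6) → Finset (Fin 6) → Prop) : Prop :=
  ∀ a : Fin 6, a ≠ 0 → IsSyn P ({0, a}ᶜ) (std a)

theorem agree_duad (h : IsW P) (h' : IsW P') (n : IsNorm P) (n' : IsNorm P') :
    ∀ a b : Fin 6, a ≠ b → ∀ t, IsSyn P {a, b}ᶜ t → IsSyn P' {a, b}ᶜ t := by
  intro a b hab t ht
  by_cases ha : a = 0
  · subst ha
    rw [ht.unique (n b hab.symm)]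
    exact n' b hab.symm
  by_cases hb : b = 0
  · subst hb
    rw [pair_comm] at ht ⊢
    rw [ht.unique (n a ha)]
    exact n' a ha
  have e1 : ({b, 0} : Finset (Fin 6)) = {0, b} := pair_comm _ _
  have e2 : ({a, 0} : Finset (Fin 6)) = {0, a} := pair_comm _ _
  have T : Tri P {a, b, 0}ᶜ a b 0 (std b) (std a) t :=
    mkTri hab ha hb (by rw [e1]; exact n b hb) (by rw [e2]; exact n a ha) ht
  obtain ⟨t', ht'⟩ := h'.exists_isSyn (compl2_card a b hab)
  have T' : Tri P' {a, b, 0}ᶜ a b 0 (std b) (std a) t' :=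
    mkTri hab ha hb (by rw [e1]; exact n' b hb) (by rw [e2]; exact n' a ha) ht'
  have : t = t' := by
    apply syn_inj
    intro x
    rw [T.hex h x, T'.hex h' x]
  rw [this]
  exact ht'

theorem agree_ge3 (h : IsW P) (h' : IsW P')
    (H : ∀ T : Finset (Fin 6), T.card = 4 → ∀ t, IsSyn P T t → IsSyn P' T t) :
    ∀ L R, 3 ≤ L.card → P L R → P' L R := by
  intro L R hL3 hP
  have hc := h.card _ _ hP
  have h5 := h.card_ne_five hP
  have hL6 : L.card ≤ 6 := by
    have := card_le_univ L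
    rwa [Fintype.card_fin] at this
  have h346 : L.card = 3 ∨ L.card = 4 ∨ L.card = 6 := by omega
  rcases h346 with h3 | h4 | h6
  · have hLc : Lᶜ.card = 3 := by rw [card_compl, h3, Fintype.card_fin]
    obtain ⟨a, b, c, hab, hac, hbc, hLc'⟩ := card_eq_three.mp hLc
    have out : ∀ u, u ∉ L ↔ (u = a ∨ u = b ∨ u = c) := by
      intro u
      rw [← mem_compl, hLc', mem_insert, mem_insert, mem_singleton]
    have haL : a ∉ L := (out a).mpr (Or.inl rfl)
    have hbL : b ∉ L := (out b).mpr (Or.inr (Or.inl rfl))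
    have hcL : c ∉ L := (out c).mpr (Or.inr (Or.inr rfl))
    have ca : (insert a L).card = 4 := by rw [card_insert_of_notMem haL, h3]
    have cb : (insert b L).card = 4 := by rw [card_insert_of_notMem hbL, h3]
    have cc : (insert c L).card = 4 := by rw [card_insert_of_notMem hcL, h3]
    obtain ⟨i, hi⟩ := h.exists_isSyn ca
    obtain ⟨j, hj⟩ := h.exists_isSyn cb
    obtain ⟨k, hk⟩ := h.exists_isSyn cc
    have T : Tri P L a b c i j k := ⟨h3, out, hab, hac, hbc, hi, hj, hk⟩
    have T' : Tri P' L a b c i j k :=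
      ⟨h3, out, hab, hac, hbc, H _ ca _ hi, H _ cb _ hj, H _ cc _ hk⟩
    have hR3 : R.card = 3 := by omega
    obtain ⟨y, z, w, hyz, hyw, hzw, rfl⟩ := card_eq_three.mp hR3
    exact T'.mem_of_indep h' hyz hyw hzw (T.indep h hP (by simp) (by simp))
      (T.indep h hP (by simp) (by simp)) (T.indep h hP (by simp) (by simp))
  · have hR2 : R.card = 2 := by omega
    obtain ⟨y, z, hyz, rfl⟩ := card_eq_two.mp hR2
    obtain ⟨t, ht⟩ := h.exists_isSyn h4
    exact ((H L h4 t ht) y z).mpr ((ht y z).mp hP)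
  · have hLu : L = univ := by
      apply eq_univ_of_card
      rw [h6, Fintype.card_fin]
    subst hLu
    have hR0 : R.card = 0 := by omega
    rw [card_eq_zero] at hR0
    subst hR0
    exact h'.top

theorem agree (h : IsW P) (h' : IsW P')
    (H : ∀ T : Finset (Fin 6), T.card = 4 → ∀ t, IsSyn P T t → IsSyn P' T t) :
    ∀ L R, P L R → P' L R := by
  intro L R hP
  by_cases hL : 3 ≤ L.card
  · exact agree_ge3 h h' H L R hL hP
  · have hP2 := h.compl _ _ hP
    have h3 : 3 ≤ Lᶜ.card := by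
      rw [card_compl, Fintype.card_fin]
      omega
    have := h'.compl _ _ (agree_ge3 h h' H _ _ h3 hP2)
    rwa [compl_compl, compl_compl] at this

theorem agree_norm (h : IsW P) (h' : IsW P') (n : IsNorm P) (n' : IsNorm P') :
    ∀ L R, P L R → P' L R := by
  apply agree h h'
  intro T hT t ht
  have hTc : Tᶜ.card = 2 := by rw [card_compl, hT, Fintype.card_fin]
  obtain ⟨a, b, hab, hTc'⟩ := card_eq_two.mp hTc
  have hT' : T = {a, b}ᶜ := by rw [← hTc', compl_compl]
  rw [hT'] at ht ⊢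
  exact agree_duad h h' n n' a b hab t ht

theorem eq_of_norm (h : IsW P) (h' : IsW P') (n : IsNorm P) (n' : IsNorm P') :
    ∀ L R, P L R ↔ P' L R :=
  fun L R => ⟨agree_norm h h' n n' L R, agree_norm h' h n' n L R⟩

end Cfsg.Agent.Lib.Helper8.W
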