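import Mathlib
import Cfsg.Agent.Lib.Helper8.W2ConcA
import Cfsg.Agent.Lib.Helper8.W2Defs

/-! # W2 = S4402, CONC part B0: names for the concrete model. -/

set_option autoImplicit false
set_option linter.unusedVariables false
set_option linter.style.longLine false
set_option maxRecDepth 100000

namespace Cfsg.Agent.Lib.Helper8.W2C

open Cfsg.Agent.Lib.Helper8.W2

/-- generators of `B` with small commutators -/
def mU : ℕ := 0xf80020202a0000018000000000684407

/-- membership in a bitmask -/
def tb (m : ℕ) (a : T0) : Bool := Nat.testBit m (Fin.val (show Fin 128 from a))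

def z1 : T0 := (22 : Fin 128)

def z2 : T0 := (89 : Fin 128)

def τ : T0 := (3 : Fin 128)

/-- `w ∈ B` with `[w, B] ⊆ {1, zi}` -/
def inc (zi w : T0) : Prop := tb mB w = true ∧ ∀ d : T0, tb mB d = true → cm w d = 1 ∨ cm w d = zi

instance (zi w : T0) : Decidable (inc zi w) := by unfold inc; infer_instance

end Cfsg.Agent.Lib.Helper8.W2C
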