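import Mathlib
import Cfsg.Agent.Lib.Helper8.W2ConcB0

/-! # W2 = S4402, CONC part B: the facts about the concrete model, by kernel evaluation. -/

set_option autoImplicit false
set_option linter.unusedVariables false
set_option linter.style.longLine false
set_option maxRecDepth 100000

namespace Cfsg.Agent.Lib.Helper8.W2C

open Cfsg.Agent.Lib.Helper8.W2

theorem sV1 : (∀ a b : T0, tb mV1 a = true → tb mV1 b = true → tb mV1 (a * b) = true) ∧ tb mV1 1 = true ∧
    ∀ a : T0, tb mV1 a = true → tb mV1 a⁻¹ = true := by decide +kernel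

theorem sV2 : (∀ a b : T0, tb mV2 a = true → tb mV2 b = true → tb mV2 (a * b) = true) ∧ tb mV2 1 = true ∧
    ∀ a : T0, tb mV2 a = true → tb mV2 a⁻¹ = true := by decide +kernel

theorem sB : (∀ a b : T0, tb mB a = true → tb mB b = true → tb mB (a * b) = true) ∧ tb mB 1 = true ∧
    ∀ a : T0, tb mB a = true → tb mB a⁻¹ = true := by decide +kernel

theorem sZ0 : (∀ a b : T0, tb mZ0 a = true → tb mZ0 b = true → tb mZ0 (a * b) = true) ∧ tb mZ0 1 = true ∧
    ∀ a : T0, tb mZ0 a = true → tb mZ0 a⁻¹ = true := by decide +kernel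

theorem sCt : (∀ a b : T0, tb mCt a = true → tb mCt b = true → tb mCt (a * b) = true) ∧ tb mCt 1 = true ∧
    ∀ a : T0, tb mCt a = true → tb mCt a⁻¹ = true := by decide +kernel

theorem hV1n : ∀ g v : T0, tb mV1 v = true → tb mV1 (g * v * g⁻¹) = true := by decide +kernel

theorem hV2n : ∀ g v : T0, tb mV2 v = true → tb mV2 (g * v * g⁻¹) = true := by decide +kernel

theorem hV1e : (∀ a b : T0, tb mV1 a = true → tb mV1 b = true → a * b = b * a) ∧
    ∀ a : T0, tb mV1 a = true → a * a = 1 := by decide +kernel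

theorem hV2e : (∀ a b : T0, tb mV2 a = true → tb mV2 b = true → a * b = b * a) ∧
    ∀ a : T0, tb mV2 a = true → a * a = 1 := by decide +kernel

theorem cV1 : (Finset.univ.filter (fun a : T0 => tb mV1 a = true)).card = 16 := by decide +kernel

theorem cV2 : (Finset.univ.filter (fun a : T0 => tb mV2 a = true)).card = 16 := by decide +kernel

theorem cB : (Finset.univ.filter (fun a : T0 => tb mB a = true)).card = 64 := by decide +kernel

theorem cCt : (Finset.univ.filter (fun a : T0 => tb mCt a = true)).card = 16 := by decide +kernel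

theorem hne12 : ∃ a : T0, tb mV1 a = true ∧ tb mV2 a = false := by decide +kernel

theorem huniq : ∀ v : T0, v * v = 1 → (∀ g : T0, v * (g * v * g⁻¹) = (g * v * g⁻¹) * v) →
    tb mV1 v = true ∨ tb mV2 v = true := by decide +kernel

theorem hBle : (∀ v : T0, tb mV1 v = true → tb mB v = true) ∧ (∀ v : T0, tb mV2 v = true → tb mB v = true) := by
  decide +kernel

theorem hBge : ∀ b : T0, tb mB b = true →
    ∃ v1 : T0, tb mV1 v1 = true ∧ ∃ v2 : T0, tb mV2 v2 = true ∧ b = v1 * v2 := by decide +kernel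

theorem hZ0 : ∀ x : T0, tb mZ0 x = true ↔ (tb mV1 x = true ∧ tb mV2 x = true) := by decide +kernel

theorem hmemZ0 : ∀ x : T0, tb mZ0 x = true ↔ x = 1 ∨ x = z1 ∨ x = z2 ∨ x = z1 * z2 := by decide +kernel

theorem hzne : z1 ≠ 1 ∧ z2 ≠ 1 ∧ z1 ≠ z2 := by decide +kernel

theorem hcenter : ∀ c : T0, (∀ g : T0, c * g = g * c) → c = 1 ∨ c = z1 * z2 := by decide +kernel

theorem hzcentral : ∀ g : T0, (z1 * z2) * g = g * (z1 * z2) := by decide +kernel

theorem hsqB : ∀ d : T0, tb mB d = true → tb mZ0 (d * d) = true := by decide +kernel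

theorem hcommB : ∀ d d' : T0, tb mB d = true → tb mB d' = true → tb mZ0 (cm d d') = true := by decide +kernel

theorem hZ0c : ∀ c d : T0, tb mZ0 c = true → tb mB d = true → c * d = d * c := by decide +kernel

theorem hselfC : ∀ d : T0, tb mB d = true → (∀ d' : T0, tb mB d' = true → d * d' = d' * d) →
    tb mZ0 d = true := by decide +kernel

theorem hτ : ¬ (tb mB τ = true) ∧ τ * τ = 1 ∧ τ * z1 * τ⁻¹ = z2 := by decide +kernel

theorem hinvol : ∀ t : T0, ¬ (tb mB t = true) → t * t = 1 → ∃ p : T0, t = p * τ * p⁻¹ := by decide +kernel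

theorem hCt : ∀ g : T0, tb mCt g = true ↔ τ * g = g * τ := by decide +kernel

theorem hZ2 : ∀ n : T0, (∀ g : T0, cm n g = 1 ∨ cm n g = z1 * z2) → tb mZ0 n = true := by decide +kernel

theorem hp8a1 : ∀ u u' : T0,
    ((tb mV1 u = true ∧ tb mV1 u' = true) ∨ (tb mV2 u = true ∧ tb mV2 u' = true)) →
    inc z1 u → inc z1 u' → ¬ (tb mZ0 u = true) → ¬ (tb mZ0 u' = true) → tb mZ0 (u' * u⁻¹) = true := by
  decide +kernel

theorem hp8a2 : ∀ u u' : T0,
    ((tb mV1 u = true ∧ tb mV1 u' = true) ∨ (tb mV2 u = true ∧ tb mV2 u' = true)) →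
    inc z2 u → inc z2 u' → ¬ (tb mZ0 u = true) → ¬ (tb mZ0 u' = true) → tb mZ0 (u' * u⁻¹) = true := by
  decide +kernel

theorem hp8a : ∀ zi u u' : T0, (zi = z1 ∨ zi = z2) →
    ((tb mV1 u = true ∧ tb mV1 u' = true) ∨ (tb mV2 u = true ∧ tb mV2 u' = true)) →
    inc zi u → inc zi u' → ¬ (tb mZ0 u = true) → ¬ (tb mZ0 u' = true) → tb mZ0 (u' * u⁻¹) = true := by
  intro zi u u' hzi
  rcases hzi with h | h
  · rw [h]; exact hp8a1 u u'
  · rw [h]; exact hp8a2 u u'

theorem hU : ∀ u : T0, tb mU u = true →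
    (tb mV1 u = true ∨ tb mV2 u = true) ∧ (inc z1 u ∨ inc z2 u) := by decide +kernel

theorem hp8b : (∀ v : T0, tb mV1 v = true → ∃ u1 : T0, tb mU u1 = true ∧ ∃ u2 : T0, tb mU u2 = true ∧ v = u1 * u2) ∧
    (∀ v : T0, tb mV2 v = true → ∃ u1 : T0, tb mU u1 = true ∧ ∃ u2 : T0, tb mU u2 = true ∧ v = u1 * u2) := by
  decide +kernel

end Cfsg.Agent.Lib.Helper8.W2C
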