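import Mathlib
import Cfsg.Agent.Lib.Helper8.W2ConcB
import Cfsg.Agent.Lib.Helper7.W2Uniq

/-! # W2 = S4402, CONC part C: `WD` for the concrete model and the statement `conc`. -/

set_option autoImplicit false
set_option linter.unusedVariables false
set_option linter.style.longLine false

namespace Cfsg.Agent.Lib.Helper8.W2C

open Cfsg.Agent.Lib.Helper8.W2

/-- the subgroup given by a bitmask -/
def subOf (m : ℕ) (h : (∀ a b : T0, tb m a = true → tb m b = true → tb m (a * b) = true) ∧ tb m 1 = true ∧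
    ∀ a : T0, tb m a = true → tb m a⁻¹ = true) : Subgroup T0 where
  carrier := {a | tb m a = true}
  mul_mem' := fun ha hb => h.1 _ _ ha hb
  one_mem' := h.2.1
  inv_mem' := fun ha => h.2.2 _ ha

theorem mem_subOf (m : ℕ) (h) (a : T0) : a ∈ subOf m h ↔ tb m a = true := Iff.rfl

instance (m : ℕ) (h) : DecidablePred (· ∈ subOf m h) := fun a => inferInstanceAs (Decidable (tb m a = true))

theorem card_subOf (m : ℕ) (h) :
    Nat.card ↥(subOf m h) = (Finset.univ.filter (fun a : T0 => tb m a = true)).card := by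
  rw [Nat.card_eq_fintype_card]
  exact Fintype.card_subtype _

def V1 : Subgroup T0 := subOf mV1 sV1

def V2 : Subgroup T0 := subOf mV2 sV2

def B : Subgroup T0 := subOf mB sB

def Z0 : Subgroup T0 := subOf mZ0 sZ0

def Ct : Subgroup T0 := subOf mCt sCt

theorem card_V1 : Nat.card ↥V1 = 16 := (card_subOf _ _).trans cV1

theorem card_V2 : Nat.card ↥V2 = 16 := (card_subOf _ _).trans cV2

theorem elem_of (m : ℕ) (h) (he : (∀ a b : T0, tb m a = true → tb m b = true → a * b = b * a) ∧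
    ∀ a : T0, tb m a = true → a * a = 1) : Cfsg.IsElementaryAbelian 2 (subOf m h) := by
  refine ⟨⟨⟨fun a b => ?_⟩⟩, ?_⟩
  · exact Subtype.ext (he.1 a.1 b.1 a.2 b.2)
  · intro a ha
    rw [pow_two]
    exact he.2 a ha

theorem V1_le_B : V1 ≤ B := fun v hv => hBle.1 v hv

theorem V2_le_B : V2 ≤ B := fun v hv => hBle.2 v hv

theorem B_eq : B = V1 ⊔ V2 := by
  apply le_antisymm
  · intro b hb
    obtain ⟨v1, h1, v2, h2, e⟩ := hBge b hb
    rw [e]
    exact mul_mem (Subgroup.mem_sup_left h1) (Subgroup.mem_sup_right h2)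
  · exact sup_le V1_le_B V2_le_B

theorem Z0_eq : Z0 = V1 ⊓ V2 := by
  ext x
  rw [Subgroup.mem_inf]
  exact hZ0 x

theorem centτ_eq : ((⊤ : Subgroup T0) ⊓ Subgroup.centralizer {τ} : Subgroup T0) = Ct := by
  ext g
  rw [Subgroup.mem_inf, Subgroup.mem_centralizer_iff]
  constructor
  · rintro ⟨-, h⟩
    exact (hCt g).mpr (h τ rfl)
  · intro h
    refine ⟨Subgroup.mem_top _, ?_⟩
    intro k hk
    rw [Set.mem_singleton_iff] at hk
    rw [hk]
    exact (hCt g).mp h

theorem inC_iff (zi w : T0) : InC B zi w ↔ inc zi w := Iff.rfl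

theorem wd : WD (⊤ : Subgroup T0) V1 V2 B Z0 z1 z2 τ where
  cardP := by rw [Subgroup.card_top]; exact card_T0
  V1le := le_top
  V2le := le_top
  V1n := fun g _ v hv => hV1n g v hv
  V2n := fun g _ v hv => hV2n g v hv
  V1e := elem_of _ _ hV1e
  V2e := elem_of _ _ hV2e
  V1c := card_V1
  V2c := card_V2
  ne12 := by
    intro h
    obtain ⟨a, ha1, ha2⟩ := hne12
    have h1 : a ∈ V1 := ha1
    rw [h] at h1
    have h2 : tb mV2 a = true := h1
    rw [ha2] at h2
    exact Bool.false_ne_true h2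
  uniq := Cfsg.Agent.Lib.Helper7.W2.uniq_of_forall ⊤ V1 V2 card_V1 card_V2
    (fun x _ hx hc => huniq x hx (fun g => hc g (Subgroup.mem_top g)))
  hB := B_eq
  hZ0 := Z0_eq
  cardB := (card_subOf _ _).trans cB
  memZ0 := hmemZ0
  z1ne := hzne.1
  z2ne := hzne.2.1
  z12 := hzne.2.2
  center := fun c _ hc => hcenter c (fun g => hc g (Subgroup.mem_top g))
  zcentral := fun g _ => hzcentral g
  sqB := fun d hd => hsqB d hd
  commB := fun d hd d' hd' => hcommB d d' hd hd'
  Z0c := fun c hc d hd => hZ0c c d hc hd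
  selfC := fun d hd h => hselfC d hd h
  τP := Subgroup.mem_top _
  τB := hτ.1
  τsq := hτ.2.1
  τz := hτ.2.2
  invol := fun t _ htB ht => by
    obtain ⟨p, hp⟩ := hinvol t htB ht
    exact ⟨p, Subgroup.mem_top p, hp⟩
  centτ := by
    rw [centτ_eq]
    exact (card_subOf _ _).trans cCt
  Z2 := fun n _ h => hZ2 n (fun g => h g (Subgroup.mem_top g))
  p8a := fun zi hzi u u' hV hu hu' huZ hu'Z => hp8a zi u u' hzi hV hu hu' huZ hu'Z
  p8b := by
    refine le_trans (le_of_eq B_eq) ?_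
    have hUs : ∀ u : T0, tb mU u = true →
        u ∈ Subgroup.closure {u : T0 | (u ∈ V1 ∨ u ∈ V2) ∧ (InC B z1 u ∨ InC B z2 u)} := by
      intro u hu
      exact Subgroup.subset_closure (hU u hu)
    apply sup_le
    · intro v hv
      obtain ⟨u1, h1, u2, h2, e⟩ := hp8b.1 v hv
      rw [e]
      exact mul_mem (hUs u1 h1) (hUs u2 h2)
    · intro v hv
      obtain ⟨u1, h1, u2, h2, e⟩ := hp8b.2 v hv
      rw [e]
      exact mul_mem (hUs u1 h1) (hUs u2 h2)

/-- **CONC** -/
theorem conc : ∃ (T0 : Type) (_ : Group T0) (V1 V2 B Z0 : Subgroup T0) (z1 z2 τ : T0),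
    WD (⊤ : Subgroup T0) V1 V2 B Z0 z1 z2 τ ∧
    ∀ T : Sylow 2 (Equiv.Perm (Fin 8)), Nonempty (T0 ≃* ↥(T : Subgroup (Equiv.Perm (Fin 8)))) :=
  ⟨T0, inferInstance, V1, V2, B, Z0, z1, z2, τ, wd, iso_sylow⟩

end Cfsg.Agent.Lib.Helper8.W2C
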