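import Mathlib
import Cfsg.Agent.Lib.Helper8.W2Defs

set_option autoImplicit false
set_option linter.unusedVariables false
set_option linter.unusedSectionVars false
set_option linter.style.longLine false

/-! # W2 = S4402: STUBS (never import this file). Exact statements of the units.

Paper proof: tip `NOMINATE S4402` (helper8, 06:05Z Dec 5).  Tools on main:
`Cfsg.Agent.Lib.Helper5.GH7.false_of_gen_section` (import `Cfsg.Agent.Lib.Helper5.GH7Sec`): generators `T`, `M` with squares and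
commutators of generators in `M`, `32 * |M| ≤ |closure T|` contradicts `SectionalPRankLE 2 4`;
helper9's table model of `Syl₂(S₈)`: `Cfsg.Agent.Lib.Helper9.SyT.TB : TabGrp (Equiv.Perm (Fin 8)) 128`, `fact_S8`
(import `Cfsg.Agent.Lib.Helper9.SyTE`). -/

namespace Cfsg.Agent.Lib.Helper8.W2.Stubs

open Cfsg.Agent.Lib.Helper8.W2

universe u

variable {S : Type u} [Group S] [Finite S] {P V1 V2 B Z0 : Subgroup S} {z1 z2 τ : S}

/-- **EXISTS** (= CONC + TRANSPORT): the facts hold for every `P ≅ Syl₂(S₈)`.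
CONC: the same statement for the concrete group (table model `TB`, `decide` over `Fin 128`); TRANSPORT: along the isomorphism
(all Sylow 2-subgroups of `S₈` are isomorphic to `TB.sub`). -/
theorem exists_wd (P : Subgroup S)
    (hP : ∃ T : Sylow 2 (Equiv.Perm (Fin 8)), Nonempty (↥P ≃* ↥(T : Subgroup (Equiv.Perm (Fin 8))))) :
    ∃ (V1 V2 B Z0 : Subgroup S) (z1 z2 τ : S), WD P V1 V2 B Z0 z1 z2 τ := by
  sorry

/-- **STEP1** (key): an element of `N_S(P)` normalising `V1` lies in `P`.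
(Suppose not. `x` permutes the normal `E16` of `P` (`uniq`), so fixes `V2`, `B`, `Z0`, and `z1 z2` (`center`); it fixes or swaps
`z1, z2` (`memZ0`); replacing `x` by `x τ` assume `x` centralises `Z0`. Conjugation by `x` preserves `InC B zi` and `V_j`, so by
`p8a` the subgroup `{d ∈ B | x d x⁻¹ d⁻¹ ∈ Z0}` contains the generators of `p8b`: `[B, x] ⊆ Z0`. Replace `x` by a power `x''`
with `x'' ∉ B`, `x''² ∈ B`. `ψ d = x'' d x''⁻¹ = d ζ(d)` with `ζ(d) ∈ Z0` fixed by `ψ`, so `ψ² d = d ζ(d)² = d`: `x''²` centralises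
`B`, so `x''² ∈ Z0` (`selfC`). `T = B ∪ {x''}`, `M = Z0` in `false_of_gen_section` (`sqB`, `commB`, `cardB`, `|Z0| = 4`).) -/
theorem step1 (w : WD P V1 V2 B Z0 z1 z2 τ) (hr : Cfsg.SectionalPRankLE 2 4 S) (h2 : IsPGroup 2 S) (x : S)
    (hxN : x ∈ Subgroup.normalizer (P : Set S)) (hxV : ∀ v ∈ V1, x * v * x⁻¹ ∈ V1) : x ∈ P := by
  sorry

/-- **STEP2**: `|N_S(P) : P| = 2`. (Every `x ∈ N` sends `V1` to `V1` or `V2`; if `x, y ∈ N ∖ P` then `y⁻¹ x` normalises `V1`, so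
lies in `P` by `step1`; `N ≠ P` by the normaliser condition.) Also the usable form `step2'`. -/
theorem step2 (w : WD P V1 V2 B Z0 z1 z2 τ) (hr : Cfsg.SectionalPRankLE 2 4 S) (h2 : IsPGroup 2 S) (hPlt : P ≠ ⊤) :
    P.relIndex (Subgroup.normalizer (P : Set S)) = 2 := by
  sorry

theorem step2' (w : WD P V1 V2 B Z0 z1 z2 τ) (hr : Cfsg.SectionalPRankLE 2 4 S) (h2 : IsPGroup 2 S) (hPlt : P ≠ ⊤) :
    ∃ x0 ∈ Subgroup.normalizer (P : Set S), x0 ∉ P ∧
      ∀ y ∈ Subgroup.normalizer (P : Set S), y ∈ P ∨ y * x0⁻¹ ∈ P := by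
  sorry

/-- **STEP3**: `N_S(V) = P` for every normal `E16` of `P`. (`V ∈ {V1, V2}`; if `M = N_S(V) > P` then `N_M(P) > P` gives
`x ∈ N_S(P) ∖ P` fixing `V`, hence `V1`: `step1`.) -/
theorem step3 (w : WD P V1 V2 B Z0 z1 z2 τ) (hr : Cfsg.SectionalPRankLE 2 4 S) (h2 : IsPGroup 2 S)
    (V : Subgroup S) (hVP : V ≤ P) (hVn : ∀ g ∈ P, ∀ v ∈ V, g * v * g⁻¹ ∈ V) (hVe : Cfsg.IsElementaryAbelian 2 V)
    (hVc : Nat.card V = 16) : Subgroup.normalizer (V : Set S) = P := by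
  sorry

/-- **STEP4**: the centre. (`c ∈ Z(S)` normalises `P` and `V1`, so `c ∈ P` by `step1`, so `c ∈ {1, z1 z2}` (`center`); `Z(S) ≠ 1`.) -/
theorem step4 (w : WD P V1 V2 B Z0 z1 z2 τ) (hr : Cfsg.SectionalPRankLE 2 4 S) (h2 : IsPGroup 2 S) :
    (∀ c : S, c ∈ Subgroup.center S ↔ c = 1 ∨ c = z1 * z2) ∧
    Subgroup.center S = (Subgroup.center ↥P).map P.subtype ∧ Nat.card ↥(Subgroup.center S) = 2 := by
  sorry

/-- **STEP5a**: some `x0 ∈ N_S(P) ∖ P` centralises `τ`. (`x τ x⁻¹` is an involution of `P ∖ B` (`x` normalises `B = V1 ⊔ V2`), so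
`= p τ p⁻¹` by `invol`; `x0 = p⁻¹ x`.) -/
theorem step5a (w : WD P V1 V2 B Z0 z1 z2 τ) (hr : Cfsg.SectionalPRankLE 2 4 S) (h2 : IsPGroup 2 S) (hPlt : P ≠ ⊤) :
    ∃ x0 ∈ Subgroup.normalizer (P : Set S), x0 ∉ P ∧ x0 * τ = τ * x0 := by
  sorry

/-- **STEP5b**: `Y = C_N(τ)` has order 32 and its core in `N = N_S(P)` is `{1, z1 z2}`.
(`|Y| = 2 |C_P(τ)|` by `centτ`, `step5a`, `step2'`. Core: `K = core` is normal in the 2-group `N` and contains `z = z1 z2`; if `K ≠ ⟨z⟩`,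
the fixed-point congruence for `N` acting on `K/⟨z⟩` gives `n ∈ K ∖ ⟨z⟩` with `[n, N] ⊆ ⟨z⟩`; `n` normalises `V1`, so `n ∈ P` (`step1`),
`n ∈ Z0` (`Z2`), `n ∈ {z1, z2}`; but `τ z1 τ⁻¹ = z2 ≠ z1` and `K ≤ Y`.) -/
theorem step5b (w : WD P V1 V2 B Z0 z1 z2 τ) (hr : Cfsg.SectionalPRankLE 2 4 S) (h2 : IsPGroup 2 S) (hPlt : P ≠ ⊤) :
    Nat.card (Subgroup.normalizer (P : Set S) ⊓ Subgroup.centralizer {τ} : Subgroup S) = 32 ∧
    ∀ k ∈ Subgroup.normalizer (P : Set S),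
      (∀ n ∈ Subgroup.normalizer (P : Set S), n⁻¹ * k * n ∈ Subgroup.centralizer ({τ} : Set S)) →
      k = 1 ∨ k = z1 * z2 := by
  sorry

/-- **STEP5c** (generic packaging): a group of order 256 with a subgroup of order 32 whose core is a normal subgroup `Z` of order 2
has `N0 ⧸ Z ≅ Syl₂(S₈)`. (Action on the 8 cosets `N0 ⧸ Y`, kernel `Z`, image of order 128 = `2 ^ 7`, `Sylow.ofCard`, `fact_S8`.) -/
theorem step5c {N0 : Type u} [Group N0] [Finite N0] (hc : Nat.card N0 = 256) (Y Z : Subgroup N0) [Z.Normal]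
    (hY : Nat.card Y = 32) (hZ : Nat.card Z = 2) (hcore : ∀ k : N0, (∀ n : N0, n⁻¹ * k * n ∈ Y) ↔ k ∈ Z) :
    ∃ T : Sylow 2 (Equiv.Perm (Fin 8)), Nonempty (N0 ⧸ Z ≃* ↥(T : Subgroup (Equiv.Perm (Fin 8)))) := by
  sorry

/-- **STEP5** (glue of 5a-5c, `step2`, `step4`). -/
theorem step5 (w : WD P V1 V2 B Z0 z1 z2 τ) (hr : Cfsg.SectionalPRankLE 2 4 S) (h2 : IsPGroup 2 S) (hPlt : P ≠ ⊤) :
    ∃ (_ : ((Subgroup.center S).subgroupOf (Subgroup.normalizer (P : Set S))).Normal)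
      (T : Sylow 2 (Equiv.Perm (Fin 8))),
      Nonempty (↥(Subgroup.normalizer (P : Set S)) ⧸ (Subgroup.center S).subgroupOf (Subgroup.normalizer (P : Set S)) ≃*
        ↥(T : Subgroup (Equiv.Perm (Fin 8)))) := by
  sorry

end Cfsg.Agent.Lib.Helper8.W2.Stubs
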