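import Cfsg.Agent.Lib.Helper8.W2

set_option autoImplicit false
set_option linter.unusedSectionVars false
set_option linter.unusedVariables false

/-! Steiner systems S(5,6,12): normalisation of the encoded hexad system by a permutation of
the complementary block, and the resulting uniqueness statement. -/

namespace Cfsg.Agent.Lib.Helper8.W

open Finset Cfsg.Agent.Lib.Helper2.Plane4

variable {P P' : Finset (Fin 6) → Finset (Fin 6) → Prop}

/-- relabel the complementary block by the permutation `g`. -/
def conjP (P : Finset (Fin 6) → Finset (Fin 6) → Prop) (g : Equiv.Perm (Fin 6)) :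
    Finset (Fin 6) → Finset (Fin 6) → Prop :=
  fun L R => P L (R.map g.toEmbedding)

theorem map_compl_perm (g : Equiv.Perm (Fin 6)) (R : Finset (Fin 6)) :
    (R.map g.toEmbedding)ᶜ = Rᶜ.map g.toEmbedding := by
  ext x
  rw [mem_compl, mem_map_equiv, mem_map_equiv, mem_compl]

theorem map_map_perm (g g' : Equiv.Perm (Fin 6)) (R : Finset (Fin 6)) :
    (R.map g.toEmbedding).map g'.toEmbedding = R.map (g.trans g').toEmbedding := by
  ext x
  rw [mem_map_equiv, mem_map_equiv, mem_map_equiv]
  rfl

theorem map_symm_map (g : Equiv.Perm (Fin 6)) (R : Finset (Fin 6)) :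
    (R.map g.symm.toEmbedding).map g.toEmbedding = R := by
  ext x
  rw [mem_map_equiv, mem_map_equiv, Equiv.symm_symm, Equiv.apply_symm_apply]

theorem IsW.conjP (h : IsW P) (g : Equiv.Perm (Fin 6)) : IsW (conjP P g) := by
  refine ⟨?_, ?_, ?_, ?_, ?_⟩
  · intro L R hP
    have := h.card _ _ hP
    rwa [card_map] at this
  · intro L R hP
    have := h.compl _ _ hP
    rwa [map_compl_perm] at this
  · show P univ ((∅ : Finset (Fin 6)).map g.toEmbedding)
    rw [map_empty]
    exact h.top
  · intro L R L' R' hP hP' h5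
    have := h.uniq _ _ _ _ hP hP' (by rw [← map_inter, card_map]; exact h5)
    exact ⟨this.1, map_injective _ this.2⟩
  · intro A A' hA
    obtain ⟨L, R0, hP, hAL, hAR⟩ := h.ex A (A'.map g.toEmbedding) (by rw [card_map]; exact hA)
    refine ⟨L, R0.map g.symm.toEmbedding, ?_, hAL, ?_⟩
    · show P L ((R0.map g.symm.toEmbedding).map g.toEmbedding)
      rw [map_symm_map]
      exact hP
    · intro x hx
      rw [mem_map_equiv, Equiv.symm_symm]
      exact hAR (mem_map_of_mem _ hx)

theorem isSyn_conjP {T : Finset (Fin 6)} {t s : Fin 15} {g : Equiv.Perm (Fin 6)}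
    (ht : IsSyn P T t) (hg : ∀ y, syn t (g y) = g (syn s y)) : IsSyn (conjP P g) T s := by
  intro y z
  have : ({y, z} : Finset (Fin 6)).map g.toEmbedding = {g y, g z} := by
    rw [map_insert, map_singleton]
    rfl
  show P T (({y, z} : Finset (Fin 6)).map g.toEmbedding) ↔ _
  rw [this, ht (g y) (g z), hg y]
  exact g.injective.eq_iff

theorem exists_norm (h : IsW P) : ∃ g : Equiv.Perm (Fin 6), IsNorm (conjP P g) := by
  have hex : ∀ a : Fin 6, ∃ t, a ≠ 0 → IsSyn P {0, a}ᶜ t := by
    intro a
    by_cases ha : a = 0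
    · exact ⟨0, fun h0 => absurd ha h0⟩
    · obtain ⟨t, ht⟩ := h.exists_isSyn (compl2_card 0 a (Ne.symm ha))
      exact ⟨t, fun _ => ht⟩
  choose t ht using hex
  have hd : ∀ a b : Fin 6, a ≠ 0 → b ≠ 0 → a ≠ b → sdisj (t a) (t b) := by
    intro a b ha hb hab
    have h1 : IsSyn P (insert b ({0, a, b}ᶜ : Finset (Fin 6))) (t a) := by
      rw [insert_compl3_c 0 a b (Ne.symm ha) (Ne.symm hb) hab]
      exact ht a ha
    have h2 : IsSyn P (insert a ({0, a, b}ᶜ : Finset (Fin 6))) (t b) := by
      rw [insert_compl3_b 0 a b (Ne.symm ha) (Ne.symm hb) hab]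
      exact ht b hb
    have hbL : b ∉ ({0, a, b}ᶜ : Finset (Fin 6)) := by
      rw [mem_compl, not_not]
      simp
    exact sdisj_of h (compl3_card 0 a b (Ne.symm ha) (Ne.symm hb) hab) hbL hab.symm h1 h2
  obtain ⟨c, hinj, hc⟩ := g0 (t 1) (t 2) (hd 1 2 (by decide) (by decide) (by decide))
    (t 3) (hd 1 3 (by decide) (by decide) (by decide)) (hd 2 3 (by decide) (by decide) (by decide))
    (t 4) (hd 1 4 (by decide) (by decide) (by decide)) (hd 2 4 (by decide) (by decide) (by decide))
    (hd 3 4 (by decide) (by decide) (by decide))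
    (t 5) (hd 1 5 (by decide) (by decide) (by decide)) (hd 2 5 (by decide) (by decide) (by decide))
    (hd 3 5 (by decide) (by decide) (by decide)) (hd 4 5 (by decide) (by decide) (by decide))
  have hinj' : Function.Injective (vv (t 1) (t 2) (t 3) (t 4) (t 5) c) := fun a b hab => hinj a b hab
  refine ⟨Equiv.ofBijective _ (Finite.injective_iff_bijective.mp hinj'), ?_⟩
  intro a ha
  apply isSyn_conjP (ht a ha)
  intro y
  rw [Equiv.ofBijective_apply, Equiv.ofBijective_apply]
  fin_cases a
  · exact absurd rfl ha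
  · exact (hc y).1
  · exact (hc y).2.1
  · exact (hc y).2.2.1
  · exact (hc y).2.2.2.1
  · exact (hc y).2.2.2.2

/-- Two encoded hexad systems differ by a relabelling of the complementary block. -/
theorem main (h : IsW P) (h' : IsW P') :
    ∃ g : Equiv.Perm (Fin 6), ∀ L R, P L R ↔ P' L (R.map g.toEmbedding) := by
  obtain ⟨g1, n1⟩ := exists_norm h
  obtain ⟨g2, n2⟩ := exists_norm h'
  refine ⟨g1.symm.trans g2, fun L R => ?_⟩
  have := eq_of_norm (h.conjP g1) (h'.conjP g2) n1 n2 L (R.map g1.symm.toEmbedding)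
  unfold conjP at this
  rw [map_symm_map, map_map_perm] at this
  exact this

end Cfsg.Agent.Lib.Helper8.W
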