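import Cfsg.Agent.Lib.Helper8.W3
import Cfsg.Agent.Lib.Helper9.Steiner7

set_option autoImplicit false
set_option linter.unusedSectionVars false
set_option linter.unusedVariables false

/-! Steiner systems S(5,6,12): encoding an abstract system relative to a block, and
uniqueness up to isomorphism (with prescribed bijection between two chosen blocks). -/

namespace Cfsg.Agent.Lib.Helper8.W

open Finset

theorem map_compl_equiv {γ α : Type*} [Fintype γ] [DecidableEq γ] [Fintype α] [DecidableEq α]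
    (e : γ ≃ α) (s : Finset γ) : (s.map e.toEmbedding)ᶜ = sᶜ.map e.toEmbedding := by
  ext x
  rw [mem_compl, mem_map_equiv, mem_map_equiv, mem_compl]

theorem map_symm_map_equiv {γ α : Type*} [DecidableEq γ] [DecidableEq α]
    (e : γ ≃ α) (s : Finset α) : (s.map e.symm.toEmbedding).map e.toEmbedding = s := by
  ext x
  rw [mem_map_equiv, mem_map_equiv, Equiv.symm_symm, Equiv.apply_symm_apply]

theorem disjSum_compl (L R : Finset (Fin 6)) : (L.disjSum R)ᶜ = Lᶜ.disjSum Rᶜ := by
  ext x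
  rcases x with a | b
  · rw [mem_compl, inl_mem_disjSum, inl_mem_disjSum, mem_compl]
  · rw [mem_compl, inr_mem_disjSum, inr_mem_disjSum, mem_compl]

theorem disjSum_inter (L R L' R' : Finset (Fin 6)) :
    L.disjSum R ∩ L'.disjSum R' = (L ∩ L').disjSum (R ∩ R') := by
  ext x
  rcases x with a | b
  · rw [mem_inter, inl_mem_disjSum, inl_mem_disjSum, inl_mem_disjSum, mem_inter]
  · rw [mem_inter, inr_mem_disjSum, inr_mem_disjSum, inr_mem_disjSum, mem_inter]

section param

variable {α : Type*} [Fintype α] [DecidableEq α]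

/-- the encoded hexad system of `B` with respect to the parametrisation `ε`. -/
def PW (B : Set (Finset α)) (ε : Fin 6 ⊕ Fin 6 ≃ α) (L R : Finset (Fin 6)) : Prop :=
  (L.disjSum R).map ε.toEmbedding ∈ B

theorem exists_LR (ε : Fin 6 ⊕ Fin 6 ≃ α) (b : Finset α) :
    ∃ L R : Finset (Fin 6), (L.disjSum R).map ε.toEmbedding = b :=
  ⟨(b.map ε.symm.toEmbedding).toLeft, (b.map ε.symm.toEmbedding).toRight, by
    rw [toLeft_disjSum_toRight, map_symm_map_equiv]⟩

theorem isW_PW (hα : Fintype.card α = 12) {B : Set (Finset α)}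
    (hB : Cfsg.IsSteinerSystem 5 6 B) (ε : Fin 6 ⊕ Fin 6 ≃ α) (htop : PW B ε univ ∅) :
    IsW (PW B ε) := by
  refine ⟨?_, ?_, htop, ?_, ?_⟩
  · intro L R hP
    have := hB.1 _ hP
    rwa [card_map, card_disjSum] at this
  · intro L R hP
    have := Cfsg.Agent.Lib.Helper9.Steiner7.compl_block_5_6_12 hα hB hP
    rw [map_compl_equiv, disjSum_compl] at this
    exact this
  · intro L R L' R' hP hP' h5
    obtain ⟨Bf, rfl⟩ := Cfsg.Agent.Lib.Helper9.Steiner5.exists_finset B
    have hb : (L.disjSum R).map ε.toEmbedding ∈ Bf := mem_coe.mp hP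
    have hc : (L'.disjSum R').map ε.toEmbedding ∈ Bf := mem_coe.mp hP'
    have := Cfsg.Agent.Lib.Helper9.Steiner6.block_eq_of_ge 5 6 Bf hB _ _ hb hc (by
      rw [← map_inter, card_map, disjSum_inter, card_disjSum]
      exact h5)
    exact disjSum_inj.mp (map_injective _ this)
  · intro A A' hA
    have hs : ((A.disjSum A').map ε.toEmbedding).card = 5 := by
      rw [card_map, card_disjSum, hA]
    obtain ⟨b, ⟨hb, hsb⟩, -⟩ := hB.2 _ hs
    refine ⟨(b.map ε.symm.toEmbedding).toLeft, (b.map ε.symm.toEmbedding).toRight, ?_, ?_, ?_⟩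
    · show (_ : Finset α) ∈ B
      rw [toLeft_disjSum_toRight, map_symm_map_equiv]
      exact hb
    · intro a ha
      rw [mem_toLeft, mem_map_equiv, Equiv.symm_symm]
      exact hsb (mem_map_of_mem _ (inl_mem_disjSum.mpr ha))
    · intro a ha
      rw [mem_toRight, mem_map_equiv, Equiv.symm_symm]
      exact hsb (mem_map_of_mem _ (inr_mem_disjSum.mpr ha))

theorem exists_param (hα : Fintype.card α = 12) {B : Set (Finset α)}
    (hB : Cfsg.IsSteinerSystem 5 6 B) (p : α) :
    ∃ ε : Fin 6 ⊕ Fin 6 ≃ α, PW B ε univ ∅ ∧ ε (Sum.inl 0) = p := by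
  obtain ⟨s, hps, -, hs5⟩ := exists_subsuperset_card_eq (s := {p}) (t := (univ : Finset α))
    (n := 5) (subset_univ _) (by rw [card_singleton]; omega) (by rw [card_univ, hα]; omega)
  obtain ⟨X, ⟨hX, hsX⟩, -⟩ := hB.2 s hs5
  have hX6 : X.card = 6 := hB.1 X hX
  have hpX : p ∈ X := hsX (hps (mem_singleton_self p))
  have hc1 : Fintype.card {a // a ∈ X} = 6 := by rw [Fintype.card_coe, hX6]
  have hc2 : Fintype.card {a // ¬ a ∈ X} = 6 := by
    rw [Fintype.card_subtype_compl, hc1, hα]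
  let e10 : Fin 6 ≃ {a // a ∈ X} := (Fintype.equivFinOfCardEq hc1).symm
  let e2 : Fin 6 ≃ {a // ¬ a ∈ X} := (Fintype.equivFinOfCardEq hc2).symm
  let e1 : Fin 6 ≃ {a // a ∈ X} := (Equiv.swap 0 (e10.symm ⟨p, hpX⟩)).trans e10
  let ε : Fin 6 ⊕ Fin 6 ≃ α := (Equiv.sumCongr e1 e2).trans (Equiv.sumCompl (· ∈ X))
  have hinl : ∀ a, ε (Sum.inl a) = (e1 a : α) := fun a => rfl
  refine ⟨ε, ?_, ?_⟩
  · show (_ : Finset α) ∈ B
    have : ((univ : Finset (Fin 6)).disjSum (∅ : Finset (Fin 6))).map ε.toEmbedding = X := by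
      apply eq_of_subset_of_card_le
      · intro x hx
        rw [mem_map] at hx
        obtain ⟨u, hu, rfl⟩ := hx
        rcases u with a | b
        · exact (e1 a).2
        · rw [inr_mem_disjSum] at hu
          exact absurd hu (notMem_empty _)
      · rw [card_map, card_disjSum, card_univ, Fintype.card_fin, card_empty, hX6]
    rw [this]
    exact hX
  · rw [hinl]
    show ((e10 (Equiv.swap 0 (e10.symm ⟨p, hpX⟩) 0) : {a // a ∈ X}) : α) = p
    rw [Equiv.swap_apply_left, Equiv.apply_symm_apply]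

end param

theorem image_sumCongr (g : Equiv.Perm (Fin 6)) (L R : Finset (Fin 6)) :
    (L.disjSum R).image (Equiv.sumCongr (Equiv.refl (Fin 6)) g) =
      L.disjSum (R.map g.toEmbedding) := by
  ext v
  rw [mem_image]
  constructor
  · rintro ⟨u, hu, rfl⟩
    rcases u with a | b
    · rw [inl_mem_disjSum] at hu
      rw [Equiv.sumCongr_apply, Sum.map_inl, inl_mem_disjSum]
      exact hu
    · rw [inr_mem_disjSum] at hu
      rw [Equiv.sumCongr_apply, Sum.map_inr, inr_mem_disjSum]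
      exact mem_map_of_mem _ hu
  · intro hv
    rcases v with a | b
    · exact ⟨Sum.inl a, inl_mem_disjSum.mpr (inl_mem_disjSum.mp hv), rfl⟩
    · rw [inr_mem_disjSum, mem_map_equiv] at hv
      refine ⟨Sum.inr (g.symm b), inr_mem_disjSum.mpr hv, ?_⟩
      rw [Equiv.sumCongr_apply, Sum.map_inr, Equiv.apply_symm_apply]

section iso

variable {α : Type*} {β : Type*} [Fintype α] [DecidableEq α] [Fintype β] [DecidableEq β]

/-- the bijection attached to two parametrisations and a relabelling `g`. -/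
def isoOf (ε : Fin 6 ⊕ Fin 6 ≃ α) (ε' : Fin 6 ⊕ Fin 6 ≃ β) (g : Equiv.Perm (Fin 6)) : α ≃ β :=
  ε.symm.trans ((Equiv.sumCongr (Equiv.refl (Fin 6)) g).trans ε')

theorem image_isoOf (ε : Fin 6 ⊕ Fin 6 ≃ α) (ε' : Fin 6 ⊕ Fin 6 ≃ β) (g : Equiv.Perm (Fin 6))
    (L R : Finset (Fin 6)) :
    ((L.disjSum R).map ε.toEmbedding).image (isoOf ε ε' g) =
      (L.disjSum (R.map g.toEmbedding)).map ε'.toEmbedding := by
  rw [← image_sumCongr, map_eq_image, map_eq_image, image_image, image_image]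
  apply image_congr
  intro u _
  show ε' ((Equiv.sumCongr (Equiv.refl (Fin 6)) g) (ε.symm (ε u))) = _
  rw [Equiv.symm_apply_apply]
  rfl

theorem iso_of_param (hα : Fintype.card α = 12) (hβ : Fintype.card β = 12)
    {B : Set (Finset α)} {B' : Set (Finset β)} (hB : Cfsg.IsSteinerSystem 5 6 B)
    (hB' : Cfsg.IsSteinerSystem 5 6 B') (ε : Fin 6 ⊕ Fin 6 ≃ α) (ε' : Fin 6 ⊕ Fin 6 ≃ β)
    (ht : PW B ε univ ∅) (ht' : PW B' ε' univ ∅) :
    ∃ e : α ≃ β, (∀ a, e (ε (Sum.inl a)) = ε' (Sum.inl a)) ∧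
      (fun b => b.image e) '' B = B' := by
  obtain ⟨g, hg⟩ := main (isW_PW hα hB ε ht) (isW_PW hβ hB' ε' ht')
  refine ⟨isoOf ε ε' g, ?_, ?_⟩
  · intro a
    show ε' ((Equiv.sumCongr (Equiv.refl (Fin 6)) g) (ε.symm (ε (Sum.inl a)))) = _
    rw [Equiv.symm_apply_apply]
    rfl
  · ext c
    constructor
    · rintro ⟨b, hb, rfl⟩
      obtain ⟨L, R, rfl⟩ := exists_LR ε b
      show ((L.disjSum R).map ε.toEmbedding).image (isoOf ε ε' g) ∈ B'
      rw [image_isoOf]
      exact (hg L R).mp hb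
    · intro hc
      obtain ⟨L, R, rfl⟩ := exists_LR ε' c
      have h1 : PW B' ε' L ((R.map g.symm.toEmbedding).map g.toEmbedding) := by
        rw [map_symm_map]
        exact hc
      have h2 := (hg L _).mpr h1
      refine ⟨_, h2, ?_⟩
      show ((L.disjSum _).map ε.toEmbedding).image (isoOf ε ε' g) = _
      rw [image_isoOf, map_symm_map]

/-- Uniqueness of S(5,6,12), with a prescribed pair of corresponding points. -/
theorem unique_5_6_12 (hα : Fintype.card α = 12) (hβ : Fintype.card β = 12)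
    {B : Set (Finset α)} {B' : Set (Finset β)} (hB : Cfsg.IsSteinerSystem 5 6 B)
    (hB' : Cfsg.IsSteinerSystem 5 6 B') (p : α) (p' : β) :
    ∃ e : α ≃ β, e p = p' ∧ (fun b => b.image e) '' B = B' := by
  obtain ⟨ε, ht, hp⟩ := exists_param hα hB p
  obtain ⟨ε', ht', hp'⟩ := exists_param hβ hB' p'
  obtain ⟨e, he, heB⟩ := iso_of_param hα hβ hB hB' ε ε' ht ht'
  refine ⟨e, ?_, heB⟩
  rw [← hp, he, hp']

end iso

end Cfsg.Agent.Lib.Helper8.W
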