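import Cfsg.Agent.Lib.Helper8.W4
import Cfsg.Agent.Lib.Helper2.S22A

set_option autoImplicit false
set_option linter.unusedSectionVars false
set_option linter.unusedVariables false

/-! Steiner systems S(4,5,11): the extension to an S(5,6,12) and uniqueness. -/

namespace Cfsg.Agent.Lib.Helper8.W

open Finset Cfsg.Agent.Lib.Helper9.Steiner3 Cfsg.Agent.Lib.Helper9.Steiner5
  Cfsg.Agent.Lib.Helper9.Steiner6 Cfsg.Agent.Lib.Helper2.S22

section ext

variable {α : Type*} [Fintype α] [DecidableEq α]

theorem n5_eq (Bf : Finset (Finset α)) (hB : Cfsg.IsSteinerSystem 4 5 (Bf : Set (Finset α)))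
    (Y : Finset α) (hY : Y.card = 5) :
    (Bf.filter (fun b => (b ∩ Y).card = 5)).card = if Y ∈ Bf then 1 else 0 := by
  have key : ∀ b ∈ Bf, (b ∩ Y).card = 5 ↔ b = Y := by
    intro b hb
    have hb5 := hB.1 b (mem_coe.mpr hb)
    constructor
    · intro h
      have h1 : b ∩ Y = b := eq_of_subset_of_card_le inter_subset_left (by rw [h, hb5])
      have h2 : b ∩ Y = Y := eq_of_subset_of_card_le inter_subset_right (by rw [h, hY])
      rw [← h1, h2]
    · rintro rfl
      rw [inter_self, hY]
  split_ifs with hYB
  · rw [card_eq_one]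
    refine ⟨Y, ?_⟩
    ext b
    rw [mem_filter, mem_singleton]
    constructor
    · rintro ⟨hb, h⟩
      exact (key b hb).mp h
    · rintro rfl
      exact ⟨hYB, (key b hYB).mpr rfl⟩
  · rw [card_eq_zero, filter_eq_empty_iff]
    intro b hb h
    exact hYB ((key b hb).mp h ▸ hb)

theorem count_disjoint (hα : Fintype.card α = 11) (Bf : Finset (Finset α))
    (hB : Cfsg.IsSteinerSystem 4 5 (Bf : Set (Finset α))) (Y : Finset α) (hY : Y.card = 5) :
    (Bf.filter (fun b => (b ∩ Y).card = 0)).card + (if Y ∈ Bf then 1 else 0) = 1 := by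
  have m0 := moment 4 5 Bf hB Y 0 (by omega) 66 (by rw [hα]; decide) (by decide)
  have m1 := moment 4 5 Bf hB Y 1 (by omega) 30 (by rw [hα]; decide) (by decide)
  have m2 := moment 4 5 Bf hB Y 2 (by omega) 12 (by rw [hα]; decide) (by decide)
  have m3 := moment 4 5 Bf hB Y 3 (by omega) 4 (by rw [hα]; decide) (by decide)
  have m4 := moment 4 5 Bf hB Y 4 (by omega) 1 (by rw [hα]; decide) (by decide)
  rw [sum_fiber_inter Bf Y 5 (by omega) (fun k => k.choose 0)] at m0
  rw [sum_fiber_inter Bf Y 5 (by omega) (fun k => k.choose 1)] at m1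
  rw [sum_fiber_inter Bf Y 5 (by omega) (fun k => k.choose 2)] at m2
  rw [sum_fiber_inter Bf Y 5 (by omega) (fun k => k.choose 3)] at m3
  rw [sum_fiber_inter Bf Y 5 (by omega) (fun k => k.choose 4)] at m4
  simp only [sum_range_succ, sum_range_zero] at m0 m1 m2 m3 m4
  rw [n5_eq Bf hB Y hY, hY] at m0 m1 m2 m3 m4
  generalize (Bf.filter (fun x => (x ∩ Y).card = 0)).card = c0 at *
  generalize (Bf.filter (fun x => (x ∩ Y).card = 1)).card = c1 at *
  generalize (Bf.filter (fun x => (x ∩ Y).card = 2)).card = c2 at *
  generalize (Bf.filter (fun x => (x ∩ Y).card = 3)).card = c3 at *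
  generalize (Bf.filter (fun x => (x ∩ Y).card = 4)).card = c4 at *
  generalize (if Y ∈ Bf then 1 else 0) = c5 at *
  norm_num [Nat.choose] at m0 m1 m2 m3 m4
  omega

/-- the extension of a system on `α` to `Option α`: blocks with the new point added, and
complements of blocks. -/
def extSys (D : Set (Finset α)) : Set (Finset (Option α)) :=
  {c | (none ∈ c ∧ eraseNone c ∈ D) ∨ (none ∉ c ∧ (eraseNone c)ᶜ ∈ D)}

theorem steiner_ext (hα : Fintype.card α = 11) {D : Set (Finset α)}
    (hD : Cfsg.IsSteinerSystem 4 5 D) : Cfsg.IsSteinerSystem 5 6 (extSys D) := by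
  obtain ⟨Df, rfl⟩ := exists_finset D
  constructor
  · rintro c (⟨hn, hc⟩ | ⟨hn, hc⟩)
    · have := hD.1 _ hc
      rw [← Cfsg.Agent.Lib.Helper2.S22.card_eraseNone_of_mem hn, this]
    · have h5 := hD.1 _ hc
      rw [card_compl, hα] at h5
      have hle : (eraseNone c).card ≤ 11 := by
        rw [← hα]
        exact card_le_univ _
      rw [← Cfsg.Agent.Lib.Helper2.S22.card_eraseNone_of_notMem hn]
      omega
  · intro S hS
    by_cases hn : none ∈ S
    · have hS' : (eraseNone S).card = 4 := by
        have := Cfsg.Agent.Lib.Helper2.S22.card_eraseNone_of_mem hn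
        omega
      obtain ⟨b, ⟨hb, hSb⟩, hbu⟩ := hD.2 _ hS'
      refine ⟨insertNone b, ⟨Or.inl ⟨none_mem_insertNone, by
        rw [eraseNone_insertNone]; exact hb⟩, ?_⟩, ?_⟩
      · intro x hx
        rcases x with _ | a
        · exact none_mem_insertNone
        · rw [some_mem_insertNone]
          exact hSb (mem_eraseNone.mpr hx)
      · rintro c' ⟨hc', hSc'⟩
        have hn' : none ∈ c' := hSc' hn
        rcases hc' with ⟨-, hc'⟩ | ⟨hn2, -⟩
        · have : eraseNone c' = b := hbu _ ⟨hc', eraseNone.monotone hSc'⟩
          rw [← this, insertNone_eraseNone, insert_eq_of_mem hn']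
        · exact absurd hn' hn2
    · have hS' : (eraseNone S).card = 5 := by
        rw [Cfsg.Agent.Lib.Helper2.S22.card_eraseNone_of_notMem hn, hS]
      have hcnt := count_disjoint hα Df hD (eraseNone S) hS'
      have hSsome : ∀ x ∈ S, ∃ a, x = some a ∧ a ∈ eraseNone S := by
        intro x hx
        rcases x with _ | a
        · exact absurd hx hn
        · exact ⟨a, rfl, mem_eraseNone.mpr hx⟩
      by_cases hSD : eraseNone S ∈ Df
      · rw [if_pos hSD] at hcnt
        have h0 : (Df.filter (fun b => (b ∩ eraseNone S).card = 0)).card = 0 := by omega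
        rw [card_eq_zero, filter_eq_empty_iff] at h0
        refine ⟨insertNone (eraseNone S), ⟨Or.inl ⟨none_mem_insertNone, by
          rw [eraseNone_insertNone]; exact mem_coe.mpr hSD⟩, ?_⟩, ?_⟩
        · intro x hx
          obtain ⟨a, rfl, ha⟩ := hSsome x hx
          rw [some_mem_insertNone]
          exact ha
        · rintro c' ⟨hc', hSc'⟩
          have hmono : eraseNone S ⊆ eraseNone c' := eraseNone.monotone hSc'
          rcases hc' with ⟨hn', hc'⟩ | ⟨hn', hc'⟩
          · have h5 := hD.1 _ hc'
            have : eraseNone S = eraseNone c' :=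
              eq_of_subset_of_card_le hmono (by rw [h5, hS'])
            rw [this, insertNone_eraseNone, insert_eq_of_mem hn']
          · exfalso
            apply h0 (mem_coe.mp hc')
            rw [card_eq_zero, ← disjoint_iff_inter_eq_empty, disjoint_left]
            intro a ha ha2
            exact (mem_compl.mp ha) (hmono ha2)
      · rw [if_neg hSD] at hcnt
        have h1 : (Df.filter (fun b => (b ∩ eraseNone S).card = 0)).card = 1 := by omega
        obtain ⟨b0, hb0⟩ := card_eq_one.mp h1
        have hb0m : b0 ∈ Df.filter (fun b => (b ∩ eraseNone S).card = 0) := by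
          rw [hb0]
          exact mem_singleton_self _
        rw [mem_filter, card_eq_zero, ← disjoint_iff_inter_eq_empty] at hb0m
        have hnn : none ∉ b0ᶜ.map Function.Embedding.some := by
          rw [mem_map]
          rintro ⟨a, -, ha⟩
          exact Option.some_ne_none a ha
        refine ⟨b0ᶜ.map Function.Embedding.some, ⟨Or.inr ⟨hnn, ?_⟩, ?_⟩, ?_⟩
        · rw [eraseNone_map_some, compl_compl]
          exact mem_coe.mpr hb0m.1
        · intro x hx
          obtain ⟨a, rfl, ha⟩ := hSsome x hx
          apply mem_map_of_mem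
          rw [mem_compl]
          exact fun hab => disjoint_left.mp hb0m.2 hab ha
        · rintro c' ⟨hc', hSc'⟩
          have hmono : eraseNone S ⊆ eraseNone c' := eraseNone.monotone hSc'
          rcases hc' with ⟨hn', hc'⟩ | ⟨hn', hc'⟩
          · exfalso
            have h5 := hD.1 _ hc'
            have : eraseNone S = eraseNone c' :=
              eq_of_subset_of_card_le hmono (by rw [h5, hS'])
            exact hSD (by rw [this]; exact mem_coe.mp hc')
          · have hmem : (eraseNone c')ᶜ ∈ Df.filter (fun b => (b ∩ eraseNone S).card = 0) := by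
              rw [mem_filter, card_eq_zero, ← disjoint_iff_inter_eq_empty, disjoint_left]
              exact ⟨mem_coe.mp hc', fun a ha ha2 => (mem_compl.mp ha) (hmono ha2)⟩
            rw [hb0, mem_singleton] at hmem
            apply Cfsg.Agent.Lib.Helper2.S22.eraseNone_inj_of_notMem hn' hnn
            rw [eraseNone_map_some, ← hmem, compl_compl]

end ext

section iso

variable {α : Type*} {β : Type*} [Fintype α] [DecidableEq α] [Fintype β] [DecidableEq β]

theorem image_insertNone (e : Option α ≃ Option β) (f : α ≃ β) (he0 : e none = none)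
    (hf : ∀ a, e (some a) = some (f a)) (b : Finset α) :
    (insertNone b).image e = insertNone (b.image f) := by
  ext x
  rcases x with _ | y
  · constructor
    · intro _
      exact none_mem_insertNone
    · intro _
      exact mem_image.mpr ⟨none, none_mem_insertNone, he0⟩
  · rw [some_mem_insertNone, mem_image, mem_image]
    constructor
    · rintro ⟨x, hx, hxy⟩
      rcases x with _ | a
      · rw [he0] at hxy
        exact absurd hxy.symm (Option.some_ne_none y)
      · rw [hf, Option.some_inj] at hxy
        exact ⟨a, some_mem_insertNone.mp hx, hxy⟩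
    · rintro ⟨a, ha, rfl⟩
      exact ⟨some a, some_mem_insertNone.mpr ha, hf a⟩

/-- Uniqueness of S(4,5,11). -/
theorem unique_4_5_11 (hα : Fintype.card α = 11) (hβ : Fintype.card β = 11)
    {D : Set (Finset α)} {D' : Set (Finset β)} (hD : Cfsg.IsSteinerSystem 4 5 D)
    (hD' : Cfsg.IsSteinerSystem 4 5 D') : Cfsg.SetSystemIso D D' := by
  have hα' : Fintype.card (Option α) = 12 := by rw [Fintype.card_option, hα]
  have hβ' : Fintype.card (Option β) = 12 := by rw [Fintype.card_option, hβ]
  obtain ⟨e, he0, heE⟩ := unique_5_6_12 hα' hβ' (steiner_ext hα hD) (steiner_ext hβ hD')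
    none none
  have hsome : ∀ a, ∃ b, e (some a) = some b := by
    intro a
    rcases h : e (some a) with _ | b
    · exfalso
      rw [← he0] at h
      exact Option.some_ne_none a (e.injective h)
    · exact ⟨b, rfl⟩
  have hf : ∀ a, e (some a) = some (e.removeNone a) := fun a =>
    (Equiv.removeNone_some e (hsome a)).symm
  refine ⟨e.removeNone, ?_⟩
  ext b'
  constructor
  · rintro ⟨b, hb, rfl⟩
    have h1 : insertNone b ∈ extSys D :=
      Or.inl ⟨none_mem_insertNone, by rw [eraseNone_insertNone]; exact hb⟩
    have h2 : (insertNone b).image e ∈ extSys D' := by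
      rw [← heE]
      exact ⟨_, h1, rfl⟩
    rw [image_insertNone e _ he0 hf] at h2
    rcases h2 with ⟨-, h3⟩ | ⟨h3, -⟩
    · rw [eraseNone_insertNone] at h3
      exact h3
    · exact absurd none_mem_insertNone h3
  · intro hb'
    have h1 : insertNone b' ∈ extSys D' :=
      Or.inl ⟨none_mem_insertNone, by rw [eraseNone_insertNone]; exact hb'⟩
    rw [← heE] at h1
    obtain ⟨c, hc, hce⟩ := h1
    have hce' : c.image e = insertNone b' := hce
    have hnc : none ∈ c := by
      have : none ∈ c.image e := by rw [hce']; exact none_mem_insertNone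
      obtain ⟨x, hx, hxe⟩ := mem_image.mp this
      rw [← he0] at hxe
      rw [← e.injective hxe]
      exact hx
    rcases hc with ⟨-, hc⟩ | ⟨hc, -⟩
    · refine ⟨eraseNone c, hc, ?_⟩
      apply insertNone.injective
      rw [← image_insertNone e _ he0 hf, insertNone_eraseNone, insert_eq_of_mem hnc]
      exact hce'
    · exact absurd hnc hc

end iso

end Cfsg.Agent.Lib.Helper8.W
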