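import Cfsg.Agent.Lib.Helper8.W4

set_option autoImplicit false
set_option linter.unusedSectionVars false
set_option linter.unusedVariables false

/-! Steiner systems S(5,6,12): the automorphism group is sharply 5-transitive. -/

namespace Cfsg.Agent.Lib.Helper8.W

open Finset Cfsg.Agent.Lib.Helper2.Plane4

variable {P : Finset (Fin 6) → Finset (Fin 6) → Prop}

theorem vv_zero : ∀ a : Fin 6, vv 0 4 8 10 12 0 a = a := by decide

theorem std_comm (h : IsW P) (n : IsNorm P) (k : Equiv.Perm (Fin 6))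
    (hk : ∀ L R, P L R → P L (R.map k.toEmbedding)) :
    ∀ a : Fin 6, a ≠ 0 → ∀ y, syn (std a) (k y) = k (syn (std a) y) := by
  intro a ha y
  have h1 : P ({0, a}ᶜ) {y, syn (std a) y} := (n a ha y _).mpr rfl
  have h2 := hk _ _ h1
  have h3 : ({y, syn (std a) y} : Finset (Fin 6)).map k.toEmbedding =
      {k y, k (syn (std a) y)} := by
    rw [map_insert, map_singleton]
    rfl
  rw [h3] at h2
  exact (n a ha _ _).mp h2

theorem eq_one_of_norm (h : IsW P) (n : IsNorm P) (k : Equiv.Perm (Fin 6))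
    (hk : ∀ L R, P L R → P L (R.map k.toEmbedding)) : k = 1 := by
  have hc := std_comm h n k hk
  have hv : ∀ a, k a = vv 0 4 8 10 12 (k 0) a := by
    intro a
    fin_cases a
    · rfl
    · exact (hc 1 (by decide) 0).symm
    · exact (hc 2 (by decide) 0).symm
    · exact (hc 3 (by decide) 0).symm
    · exact (hc 4 (by decide) 0).symm
    · exact (hc 5 (by decide) 0).symm
  have h0 : k 0 = 0 := by
    apply g1
    intro y
    rw [← hv, ← hv, ← hv, ← hv, ← hv, ← hv]
    exact ⟨hc 1 (by decide) y, hc 2 (by decide) y, hc 3 (by decide) y, hc 4 (by decide) y,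
      hc 5 (by decide) y⟩
  ext a
  rw [hv a, h0, vv_zero]
  rfl

/-- an encoded hexad system has no nontrivial symmetry acting on the complementary block only. -/
theorem rigid (h : IsW P) (g : Equiv.Perm (Fin 6))
    (hg : ∀ L R, P L R → P L (R.map g.toEmbedding)) : g = 1 := by
  obtain ⟨g1, n1⟩ := exists_norm h
  have hk : ∀ L R, conjP P g1 L R →
      conjP P g1 L (R.map (g1.trans (g.trans g1.symm)).toEmbedding) := by
    intro L R hP
    unfold conjP at hP ⊢
    have h2 := hg _ _ hP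
    rw [map_map_perm] at h2 ⊢
    have e : (g1.trans (g.trans g1.symm)).trans g1 = g1.trans g := by
      ext y
      simp
    rw [e]
    exact h2
  have h3 := eq_one_of_norm (h.conjP g1) n1 _ hk
  apply Equiv.ext
  intro z
  have h4 := congrArg (fun e : Equiv.Perm (Fin 6) => g1 (e (g1.symm z))) h3
  simpa using h4

section aut

variable {α : Type*} [Fintype α] [DecidableEq α]

theorem param_of (hα : Fintype.card α = 12) {B : Set (Finset α)}
    (hB : Cfsg.IsSteinerSystem 5 6 B) {X : Finset α} (hX : X ∈ B)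
    (e1 : Fin 6 ≃ {a // a ∈ X}) :
    ∃ ε : Fin 6 ⊕ Fin 6 ≃ α, PW B ε univ ∅ ∧ ∀ i, ε (Sum.inl i) = (e1 i : α) := by
  have hX6 : X.card = 6 := hB.1 X hX
  have hc1 : Fintype.card {a // a ∈ X} = 6 := by rw [Fintype.card_coe, hX6]
  have hc2 : Fintype.card {a // ¬ a ∈ X} = 6 := by
    rw [Fintype.card_subtype_compl, hc1, hα]
  let e2 : Fin 6 ≃ {a // ¬ a ∈ X} := (Fintype.equivFinOfCardEq hc2).symm
  let ε : Fin 6 ⊕ Fin 6 ≃ α := (Equiv.sumCongr e1 e2).trans (Equiv.sumCompl (· ∈ X))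
  have hinl : ∀ a, ε (Sum.inl a) = (e1 a : α) := fun a => rfl
  refine ⟨ε, ?_, hinl⟩
  show (_ : Finset α) ∈ B
  have : ((univ : Finset (Fin 6)).disjSum (∅ : Finset (Fin 6))).map ε.toEmbedding = X := by
    apply eq_of_subset_of_card_le
    · intro x hx
      rw [mem_map] at hx
      obtain ⟨u, hu, rfl⟩ := hx
      rcases u with a | b
      · exact (e1 a).2
      · rw [inr_mem_disjSum] at hu
        exact absurd hu (notMem_empty _)
    · rw [card_map, card_disjSum, card_univ, Fintype.card_fin, card_empty, hX6]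
  rw [this]
  exact hX

theorem exists_param_emb (hα : Fintype.card α = 12) {B : Set (Finset α)}
    (hB : Cfsg.IsSteinerSystem 5 6 B) (x : Fin 5 ↪ α) :
    ∃ ε : Fin 6 ⊕ Fin 6 ≃ α, PW B ε univ ∅ ∧ ∀ i : Fin 5, ε (Sum.inl i.castSucc) = x i := by
  have hs5 : ((univ : Finset (Fin 5)).map x).card = 5 := by
    rw [card_map, card_univ, Fintype.card_fin]
  obtain ⟨X, ⟨hX, hsX⟩, -⟩ := hB.2 _ hs5
  have hX6 : X.card = 6 := hB.1 X hX
  have hxX : ∀ i, x i ∈ X := fun i => hsX (mem_map_of_mem _ (mem_univ i))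
  have hc1 : Fintype.card {a // a ∈ X} = 6 := by rw [Fintype.card_coe, hX6]
  let e10 : Fin 6 ≃ {a // a ∈ X} := (Fintype.equivFinOfCardEq hc1).symm
  have hinj : Function.Injective (fun i : Fin 5 => e10.symm ⟨x i, hxX i⟩) := by
    intro i j hij
    have := e10.symm.injective hij
    exact x.injective (congrArg Subtype.val this)
  obtain ⟨π, hπ⟩ := Equiv.Perm.exists_extending_pair (fun i : Fin 5 => (i.castSucc : Fin 6))
    (fun i : Fin 5 => e10.symm ⟨x i, hxX i⟩) (Fin.castSucc_injective 5) hinj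
  obtain ⟨ε, ht, hε⟩ := param_of hα hB hX (π.trans e10)
  refine ⟨ε, ht, fun i => ?_⟩
  rw [hε]
  show ((e10 (π i.castSucc) : {a // a ∈ X}) : α) = x i
  rw [hπ i, Equiv.apply_symm_apply]

open scoped Pointwise in
theorem mem_aut_iff (B : Set (Finset α)) (g : Equiv.Perm α) :
    g ∈ Cfsg.setSystemAut B ↔ (fun b : Finset α => b.image g) '' B = B := by
  rw [MulAction.mem_stabilizer_iff]
  rfl

theorem aut_trans (hα : Fintype.card α = 12) {B : Set (Finset α)}
    (hB : Cfsg.IsSteinerSystem 5 6 B) (x y : Fin 5 ↪ α) :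
    ∃ g : Equiv.Perm α, g ∈ Cfsg.setSystemAut B ∧ ∀ i, g (x i) = y i := by
  obtain ⟨ε, ht, hε⟩ := exists_param_emb hα hB x
  obtain ⟨ε', ht', hε'⟩ := exists_param_emb hα hB y
  obtain ⟨e, he, heB⟩ := iso_of_param hα hα hB hB ε ε' ht ht'
  refine ⟨e, (mem_aut_iff B e).mpr heB, fun i => ?_⟩
  rw [← hε, he, hε']

theorem aut_fix_eq_one (hα : Fintype.card α = 12) {B : Set (Finset α)}
    (hB : Cfsg.IsSteinerSystem 5 6 B) (ε : Fin 6 ⊕ Fin 6 ≃ α) (ht : PW B ε univ ∅)
    (g : Equiv.Perm α) (hg : g ∈ Cfsg.setSystemAut B)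
    (hfix : ∀ a, g (ε (Sum.inl a)) = ε (Sum.inl a)) : g = 1 := by
  rw [mem_aut_iff] at hg
  have hmaps : Set.MapsTo ((ε.trans g).trans ε.symm : Equiv.Perm (Fin 6 ⊕ Fin 6))
      (Set.range Sum.inl) (Set.range Sum.inl) := by
    rintro _ ⟨a, rfl⟩
    refine ⟨a, ?_⟩
    show Sum.inl a = ε.symm (g (ε (Sum.inl a)))
    rw [hfix, Equiv.symm_apply_apply]
  obtain ⟨⟨σ1, σ2⟩, hσ⟩ := Equiv.Perm.mem_sumCongrHom_range_of_perm_mapsTo_inl hmaps
  have hσ' : ∀ u, Sum.map σ1 σ2 u = ε.symm (g (ε u)) := by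
    intro u
    have := congrArg (fun e : Equiv.Perm (Fin 6 ⊕ Fin 6) => e u) hσ
    exact this
  have hσ1 : ∀ a, σ1 a = a := by
    intro a
    have := hσ' (Sum.inl a)
    rw [hfix, Equiv.symm_apply_apply, Sum.map_inl] at this
    exact Sum.inl_injective this
  have hgiso : g = isoOf ε ε σ2 := by
    ext x
    show g x = ε ((Equiv.sumCongr (Equiv.refl (Fin 6)) σ2) (ε.symm x))
    have h1 := hσ' (ε.symm x)
    rw [Equiv.apply_symm_apply] at h1
    rw [Equiv.sumCongr_apply]
    rcases hu : ε.symm x with a | b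
    · rw [hu, Sum.map_inl] at h1
      rw [Sum.map_inl, Equiv.refl_apply, ← hσ1 a, h1, Equiv.apply_symm_apply]
    · rw [hu, Sum.map_inr] at h1
      rw [Sum.map_inr, h1, Equiv.apply_symm_apply]
  have hinv : ∀ L R, PW B ε L R → PW B ε L (R.map σ2.toEmbedding) := by
    intro L R hP
    have h1 : ((L.disjSum R).map ε.toEmbedding).image g ∈ B := by
      rw [← hg]
      exact ⟨_, hP, rfl⟩
    rw [hgiso, image_isoOf] at h1
    exact h1
  have hσ2 := rigid (isW_PW hα hB ε ht) σ2 hinv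
  rw [hgiso, hσ2]
  ext x
  show ε ((Equiv.sumCongr (Equiv.refl (Fin 6)) (1 : Equiv.Perm (Fin 6))) (ε.symm x)) = x
  rw [Equiv.sumCongr_apply]
  rcases hu : ε.symm x with a | b
  · rw [Sum.map_inl, Equiv.refl_apply, ← hu, Equiv.apply_symm_apply]
  · rw [Sum.map_inr, Equiv.Perm.one_apply, ← hu, Equiv.apply_symm_apply]

theorem aut_sharp (hα : Fintype.card α = 12) {B : Set (Finset α)}
    (hB : Cfsg.IsSteinerSystem 5 6 B) (x : Fin 5 ↪ α) (g : Equiv.Perm α)
    (hg : g ∈ Cfsg.setSystemAut B) (hx : ∀ i, g (x i) = x i) : g = 1 := by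
  obtain ⟨ε, ht, hε⟩ := exists_param_emb hα hB x
  apply aut_fix_eq_one hα hB ε ht g hg
  have hg' := (mem_aut_iff B g).mp hg
  -- the block `X` is fixed by `g`
  have hXB : ((univ : Finset (Fin 6)).disjSum (∅ : Finset (Fin 6))).map ε.toEmbedding ∈ B := ht
  have hXg : (((univ : Finset (Fin 6)).disjSum (∅ : Finset (Fin 6))).map ε.toEmbedding).image g
      ∈ B := by
    rw [← hg']
    exact ⟨_, hXB, rfl⟩
  have hs5 : ((univ : Finset (Fin 5)).map x).card = 5 := by
    rw [card_map, card_univ, Fintype.card_fin]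
  have hsub1 : (univ : Finset (Fin 5)).map x ⊆
      ((univ : Finset (Fin 6)).disjSum (∅ : Finset (Fin 6))).map ε.toEmbedding := by
    intro z hz
    rw [mem_map] at hz
    obtain ⟨i, -, rfl⟩ := hz
    rw [← hε i]
    exact mem_map_of_mem _ (inl_mem_disjSum.mpr (mem_univ _))
  have hsub2 : (univ : Finset (Fin 5)).map x ⊆
      (((univ : Finset (Fin 6)).disjSum (∅ : Finset (Fin 6))).map ε.toEmbedding).image g := by
    intro z hz
    rw [mem_map] at hz
    obtain ⟨i, -, rfl⟩ := hz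
    rw [mem_image]
    exact ⟨x i, hsub1 (mem_map_of_mem _ (mem_univ i)), hx i⟩
  obtain ⟨b0, -, hb0⟩ := hB.2 _ hs5
  have hXeq : (((univ : Finset (Fin 6)).disjSum (∅ : Finset (Fin 6))).map ε.toEmbedding).image g
      = ((univ : Finset (Fin 6)).disjSum (∅ : Finset (Fin 6))).map ε.toEmbedding := by
    rw [hb0 _ ⟨hXg, hsub2⟩, hb0 _ ⟨hXB, hsub1⟩]
  intro a
  refine Fin.lastCases ?_ (fun i => ?_) a
  · -- the sixth point
    have hq : g (ε (Sum.inl (Fin.last 5))) ∈
        ((univ : Finset (Fin 6)).disjSum (∅ : Finset (Fin 6))).map ε.toEmbedding := by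
      rw [← hXeq]
      exact mem_image_of_mem _ (mem_map_of_mem _ (inl_mem_disjSum.mpr (mem_univ _)))
    rw [mem_map] at hq
    obtain ⟨u, hu, hue⟩ := hq
    rcases u with j | j
    · revert hue hu
      refine Fin.lastCases ?_ (fun i => ?_) j
      · intro hu hue; exact hue.symm
      · intro hu hue
        exfalso
        have h1 : ε (Sum.inl i.castSucc) = g (ε (Sum.inl i.castSucc)) := by
          rw [hε i, hx i]
        have h2 : g (ε (Sum.inl i.castSucc)) = g (ε (Sum.inl (Fin.last 5))) := by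
          rw [← h1]; exact hue
        have h3 := Sum.inl_injective (ε.injective (g.injective h2))
        exact (Fin.castSucc_lt_last i).ne h3
    · rw [inr_mem_disjSum] at hu
      exact absurd hu (notMem_empty _)
  · rw [hε i, hx i]

end aut

end Cfsg.Agent.Lib.Helper8.W
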