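import Cfsg.Agent.Lib.Helper8.ThLoc2

/-! Functoriality facts about the abelian-version Thompson subgroup used for the weak closure
theorem. -/
set_option autoImplicit false
universe u
open Cfsg

namespace Cfsg.Agent.Lib.Helper8.WC

open Cfsg.Agent.Lib.Helper1 Cfsg.Agent.Lib.Helper1.ZJ Cfsg.Agent.Lib.Helper8.ThLoc

variable {G : Type u} [Group G]

theorem JA_map_injective (p : ℕ) [Fact p.Prime] {Z : Type u} [Group Z] (f : G →* Z)
    (hf : Function.Injective f) (P : Subgroup G) [Finite ↥P] (hP : IsPGroup p ↥P) :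
    (thompsonSubgroupAOf P).map f = thompsonSubgroupAOf (P.map f) :=
  Cfsg.Agent.Lib.Helper7.inducedFunctor_map_of_injective (isCharPFunctor_thompsonSubgroupA p) f hf P hP

theorem JA_conj (p : ℕ) [Fact p.Prime] (g : G) (P : Subgroup G) [Finite ↥P] (hP : IsPGroup p ↥P) :
    thompsonSubgroupAOf (P.map (MulAut.conj g).toMonoidHom) =
      (thompsonSubgroupAOf P).map (MulAut.conj g).toMonoidHom :=
  (JA_map_injective p (MulAut.conj g).toMonoidHom (MulAut.conj g).injective P hP).symm

theorem normalizer_le_normalizer_JA [Finite G] (p : ℕ) [Fact p.Prime] {P : Subgroup G}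
    (hP : IsPGroup p ↥P) :
    Subgroup.normalizer (P : Set G) ≤ Subgroup.normalizer ((thompsonSubgroupAOf P : Subgroup G) : Set G) :=
  Cfsg.Agent.Lib.Helper7.normalizer_le_normalizer_functor
    (Cfsg.Agent.Lib.Helper7.isConjugacyFunctor_inducedFunctor (X := G)
      (isCharPFunctor_thompsonSubgroupA p)) hP

theorem le_JA_of_mem_FPr {T A : Subgroup G} (hA : A ∈ FPr (PrA (G := G)) T) :
    A ≤ thompsonSubgroupAOf T := by
  rw [thompsonSubgroupAOf_eq]
  exact le_sSup hA

theorem center_le_JA [Finite G] (T : Subgroup G) :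
    T ⊓ Subgroup.centralizer (T : Set G) ≤ thompsonSubgroupAOf T := by
  obtain ⟨A, hA⟩ := (zjFamily_A (G := G) 2).nonempty T
  exact (center_le_of_mem_FPr hA).trans (le_JA_of_mem_FPr hA)

end Cfsg.Agent.Lib.Helper8.WC
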