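import Cfsg.Agent.Lib.Helper8.WC1
import Cfsg.Agent.Lib.Helper1.ZJ11
import Cfsg.Agent.Lib.Helper9.Alperin3

/-! Fusion reduction for the weak closure theorem: a maximal-intersection argument replacing
Alperin's theorem. -/
set_option autoImplicit false
universe u
open Cfsg

namespace Cfsg.Agent.Lib.Helper8.WC

open Cfsg.Agent.Lib.Helper1 Cfsg.Agent.Lib.Helper1.ZJ Cfsg.Agent.Lib.Helper8.ThLoc

section basics

variable {G : Type u} [Group G] {p : ℕ} [Fact p.Prime]

theorem sylow_eq_of_le {P Q : Sylow p G} (h : (P : Subgroup G) ≤ Q) : P = Q :=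
  Sylow.ext (P.is_maximal' Q.isPGroup' h).symm

theorem mem_smul_sylow_iff (g : G) (P : Sylow p G) (y : G) :
    y ∈ ((g • P : Sylow p G) : Subgroup G) ↔ g⁻¹ * y * g ∈ (P : Subgroup G) := by
  rw [Sylow.coe_subgroup_smul, Subgroup.mem_pointwise_smul_iff_inv_smul_mem]
  simp [MulAut.smul_def]

theorem exists_sylow_of_le_subgroup [Finite G] (N H : Subgroup G) (hHN : H ≤ N)
    (hH : IsPGroup p ↥H) : ∃ T : Sylow p N, H ≤ (T : Subgroup N).map N.subtype := by
  have h1 : IsPGroup p ↥(H.subgroupOf N) := hH.comap_subtype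
  obtain ⟨T, hT⟩ := h1.exists_le_sylow
  refine ⟨T, ?_⟩
  intro y hy
  exact ⟨⟨y, hHN hy⟩, hT (by rw [Subgroup.mem_subgroupOf]; exact hy), rfl⟩

theorem exists_conj_sylow_subgroup [Finite G] (N : Subgroup G) (T₁ T₂ : Sylow p N) :
    ∃ n ∈ N, ∀ y ∈ (T₂ : Subgroup N).map N.subtype,
      n⁻¹ * y * n ∈ (T₁ : Subgroup N).map N.subtype := by
  obtain ⟨n, hn⟩ := MulAction.exists_smul_eq N T₁ T₂
  refine ⟨n, n.2, ?_⟩
  rintro _ ⟨y, hy, rfl⟩
  have hy' : y ∈ ((n • T₁ : Sylow p N) : Subgroup N) := by rw [hn]; exact hy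
  have h2 := (mem_smul_sylow_iff n T₁ y).1 hy'
  exact ⟨n⁻¹ * y * n, h2, rfl⟩

theorem conj_mem_of_mem_normalizer {D : Subgroup G} {n d : G}
    (hn : n ∈ Subgroup.normalizer (D : Set G)) (hd : d ∈ D) : n * d * n⁻¹ ∈ D :=
  (Subgroup.mem_normalizer_iff.1 hn d).1 hd

theorem conj_inv_mem_of_mem_normalizer {D : Subgroup G} {n d : G}
    (hn : n ∈ Subgroup.normalizer (D : Set G)) (hd : d ∈ D) : n⁻¹ * d * n ∈ D := by
  have h1 := conj_mem_of_mem_normalizer (Subgroup.inv_mem _ hn) hd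
  simpa using h1

theorem centralizer_le_normalizer_of_le {D P : Subgroup G} (hDP : D ≤ P) :
    Subgroup.centralizer (P : Set G) ≤ Subgroup.normalizer (D : Set G) :=
  (Subgroup.centralizer_le (by exact_mod_cast hDP)).trans (Subgroup.centralizer_le_normalizer _)

end basics

section fusion

variable {G : Type u} [Group G] [Finite G] {p : ℕ} [Fact p.Prime]

/-- an equivariant choice of a central element in every Sylow `p`-subgroup, centralized by the
normalizer of the Thompson subgroup, and weakly closed in all proper subgroups -/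
structure FusData (p : ℕ) [Fact p.Prime] (G : Type u) [Group G] [Finite G] where
  xP : Sylow p G → G
  conj : ∀ (g : G) (P : Sylow p G), xP (g • P) = g * xP P * g⁻¹
  mem : ∀ P : Sylow p G, xP P ∈ (P : Subgroup G)
  cent : ∀ P : Sylow p G, ∀ n ∈ Subgroup.normalizer
    ((thompsonSubgroupAOf (P : Subgroup G) : Subgroup G) : Set G), n * xP P = xP P * n
  sub : ∀ (L : Subgroup G), L ≠ ⊤ → ∀ (P : Sylow p G) (T : Sylow p L),
    (T : Subgroup L).map L.subtype ≤ P →
    (P : Subgroup G) ⊓ Subgroup.centralizer ((P : Subgroup G) : Set G) ≤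
      (T : Subgroup L).map L.subtype →
    (∀ n ∈ L ⊓ Subgroup.normalizer
      ((thompsonSubgroupAOf ((T : Subgroup L).map L.subtype) : Subgroup G) : Set G),
        n * xP P = xP P * n) →
    ∀ l ∈ L, l * xP P * l⁻¹ ∈ (T : Subgroup L).map L.subtype → l * xP P * l⁻¹ = xP P

/-- a family of subgroups closed upwards and under passage to the Thompson subgroup of a
`p`-overgroup -/
structure Fam (p : ℕ) (F : Subgroup G → Prop) : Prop where
  mono : ∀ {D D' : Subgroup G}, F D → D ≤ D' → F D'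
  thomp : ∀ {D T : Subgroup G}, F D → D ≤ T → IsPGroup p ↥T → F (thompsonSubgroupAOf T)

namespace FusData

variable (X : FusData p G)

theorem mem_center (P : Sylow p G) :
    X.xP P ∈ (P : Subgroup G) ⊓ Subgroup.centralizer ((P : Subgroup G) : Set G) := by
  refine ⟨X.mem P, ?_⟩
  show X.xP P ∈ Subgroup.centralizer ((P : Subgroup G) : Set G)
  rw [Subgroup.mem_centralizer_iff]
  intro s hs
  have h1 : s ∈ Subgroup.normalizer ((thompsonSubgroupAOf (P : Subgroup G) : Subgroup G) : Set G) :=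
    normalizer_le_normalizer_JA p P.2 (Subgroup.le_normalizer hs)
  exact X.cent P s h1

/-- a violating pair of Sylow subgroups -/
def Viol (F : Subgroup G → Prop) (P Q : Sylow p G) : Prop :=
  F ((P : Subgroup G) ⊓ Q) ∧ X.xP P ∈ (Q : Subgroup G) ∧ X.xP P ≠ X.xP Q

/-- a bad pair -/
def Bad (F : Subgroup G → Prop) (P : Sylow p G) (D : Subgroup G) : Prop :=
  D ≤ P ∧ F D ∧ X.xP P ∈ D ∧ ∃ n ∈ Subgroup.normalizer (D : Set G), n * X.xP P ≠ X.xP P * n

theorem bad_of_max_viol {F : Subgroup G → Prop} (hF : Fam p F) (P Q : Sylow p G)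
    (hv : X.Viol F P Q)
    (hmax : ∀ P' Q' : Sylow p G, X.Viol F P' Q' →
      Nat.card ↥((P' : Subgroup G) ⊓ Q') ≤ Nat.card ↥((P : Subgroup G) ⊓ Q)) :
    ∃ P₁ : Sylow p G, X.Bad F P₁ ((P : Subgroup G) ⊓ Q) ∧
      Nat.card ↥((P : Subgroup G) ⊓ Q) <
        Nat.card ↥((P₁ : Subgroup G) ⊓
          Subgroup.normalizer ((((P : Subgroup G) ⊓ Q : Subgroup G)) : Set G)) := by
  obtain ⟨D, hD⟩ : ∃ D : Subgroup G, D = (P : Subgroup G) ⊓ Q := ⟨_, rfl⟩
  rw [← hD] at hmax ⊢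
  have hxD : X.xP P ∈ D := by rw [hD]; exact ⟨X.mem P, hv.2.1⟩
  have hDleP : D ≤ P := by rw [hD]; exact inf_le_left
  have hDleQ : D ≤ Q := by rw [hD]; exact inf_le_right
  have hFD : F D := by rw [hD]; exact hv.1
  have hDP : D < P := by
    apply lt_of_le_of_ne hDleP
    intro h
    apply hv.2.2
    have h1 : (P : Subgroup G) ≤ Q := by rw [← h]; exact hDleQ
    rw [sylow_eq_of_le h1]
  have hDQ : D < Q := by
    apply lt_of_le_of_ne hDleQ
    intro h
    apply hv.2.2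
    have h1 : (Q : Subgroup G) ≤ P := by rw [← h]; exact hDleP
    rw [sylow_eq_of_le h1]
  obtain ⟨N, hN⟩ : ∃ N : Subgroup G, N = Subgroup.normalizer (D : Set G) := ⟨_, rfl⟩
  rw [← hN]
  have hNP : D < (P : Subgroup G) ⊓ N := by rw [hN]; exact lt_inf_normalizer_of_lt P.2 hDP
  have hNQ : D < (Q : Subgroup G) ⊓ N := by rw [hN]; exact lt_inf_normalizer_of_lt Q.2 hDQ
  obtain ⟨T₁, hT₁⟩ := exists_sylow_of_le_subgroup N ((P : Subgroup G) ⊓ N) inf_le_right
    (P.2.to_le inf_le_left)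
  obtain ⟨T₂, hT₂⟩ := exists_sylow_of_le_subgroup N ((Q : Subgroup G) ⊓ N) inf_le_right
    (Q.2.to_le inf_le_left)
  obtain ⟨PS, hPS⟩ : ∃ PS : Subgroup G, PS = (T₁ : Subgroup N).map N.subtype := ⟨_, rfl⟩
  obtain ⟨QS, hQS⟩ : ∃ QS : Subgroup G, QS = (T₂ : Subgroup N).map N.subtype := ⟨_, rfl⟩
  rw [← hPS] at hT₁
  rw [← hQS] at hT₂
  have hPSp : IsPGroup p ↥PS := by rw [hPS]; exact T₁.2.map _
  have hQSp : IsPGroup p ↥QS := by rw [hQS]; exact T₂.2.map _
  have hPSN : PS ≤ N := by rw [hPS]; exact Subgroup.map_subtype_le _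
  obtain ⟨P₁, hP₁⟩ := hPSp.exists_le_sylow
  obtain ⟨Q₁, hQ₁⟩ := hQSp.exists_le_sylow
  obtain ⟨n, hnN, hn⟩ := exists_conj_sylow_subgroup N T₁ T₂
  rw [← hPS, ← hQS] at hn
  have hnD : n ∈ Subgroup.normalizer (D : Set G) := by rw [← hN]; exact hnN
  have hDP₁ : D ≤ P₁ := hNP.le.trans (hT₁.trans hP₁)
  have hDQ₁ : D ≤ Q₁ := hNQ.le.trans (hT₂.trans hQ₁)
  -- the pair `(P, P₁)`
  have e1 : X.xP P = X.xP P₁ := by
    by_contra hne
    have hviol : X.Viol F P P₁ := ⟨hF.mono hFD (le_inf hDleP hDP₁), hDP₁ hxD, hne⟩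
    have h1 := hmax P P₁ hviol
    have h2 : Nat.card ↥D < Nat.card ↥((P : Subgroup G) ⊓ N) :=
      Cfsg.Agent.Lib.Helper9.card_lt_of_lt' hNP
    have h3 : Nat.card ↥((P : Subgroup G) ⊓ N) ≤ Nat.card ↥((P : Subgroup G) ⊓ P₁) :=
      Subgroup.card_le_of_le (le_inf inf_le_left (hT₁.trans hP₁))
    omega
  -- the pair `(Q, Q₁)`
  have e3 : X.xP Q = X.xP Q₁ := by
    by_contra hne
    have hxQ : X.xP Q ∈ (Q : Subgroup G) ⊓ N := by
      refine ⟨X.mem Q, ?_⟩
      rw [hN]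
      exact centralizer_le_normalizer_of_le hDleQ (X.mem_center Q).2
    have hviol : X.Viol F Q Q₁ := ⟨hF.mono hFD (le_inf hDleQ hDQ₁), hQ₁ (hT₂ hxQ), hne⟩
    have h1 := hmax Q Q₁ hviol
    have h2 : Nat.card ↥D < Nat.card ↥((Q : Subgroup G) ⊓ N) :=
      Cfsg.Agent.Lib.Helper9.card_lt_of_lt' hNQ
    have h3 : Nat.card ↥((Q : Subgroup G) ⊓ N) ≤ Nat.card ↥((Q : Subgroup G) ⊓ Q₁) :=
      Subgroup.card_le_of_le (le_inf inf_le_left (hT₂.trans hQ₁))
    omega
  -- the pair `(n • P₁, Q₁)`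
  have hconj : X.xP (n • P₁) = n * X.xP P * n⁻¹ := by rw [X.conj, e1]
  have e2 : X.xP (n • P₁) = X.xP Q₁ := by
    by_contra hne
    have hDn : D ≤ ((n • P₁ : Sylow p G) : Subgroup G) := by
      intro d hd
      rw [mem_smul_sylow_iff]
      exact hDP₁ (conj_inv_mem_of_mem_normalizer hnD hd)
    have hQSn : QS ≤ ((n • P₁ : Sylow p G) : Subgroup G) := by
      intro y hy
      rw [mem_smul_sylow_iff]
      exact hP₁ (hn y hy)
    have hviol : X.Viol F (n • P₁) Q₁ := by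
      refine ⟨hF.mono hFD (le_inf hDn hDQ₁), ?_, hne⟩
      rw [hconj]
      exact hDQ₁ (conj_mem_of_mem_normalizer hnD hxD)
    have h1 := hmax (n • P₁) Q₁ hviol
    have h2 : Nat.card ↥D < Nat.card ↥((Q : Subgroup G) ⊓ N) :=
      Cfsg.Agent.Lib.Helper9.card_lt_of_lt' hNQ
    have h3 : Nat.card ↥((Q : Subgroup G) ⊓ N) ≤
        Nat.card ↥(((n • P₁ : Sylow p G) : Subgroup G) ⊓ Q₁) :=
      Subgroup.card_le_of_le (le_inf (hT₂.trans hQSn) (hT₂.trans hQ₁))
    omega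
  have hmove : n * X.xP P * n⁻¹ ≠ X.xP P := by
    rw [← hconj, e2, ← e3]
    exact fun h => hv.2.2 h.symm
  refine ⟨P₁, ⟨hDP₁, hFD, by rw [← e1]; exact hxD, n, hnD, ?_⟩, ?_⟩
  · rw [← e1]
    intro h
    apply hmove
    rw [h]; group
  · calc Nat.card ↥D < Nat.card ↥((P : Subgroup G) ⊓ N) :=
        Cfsg.Agent.Lib.Helper9.card_lt_of_lt' hNP
      _ ≤ Nat.card ↥((P₁ : Subgroup G) ⊓ N) :=
        Subgroup.card_le_of_le (le_inf (hT₁.trans hP₁) inf_le_right)

/-- the fusion reduction: a violating pair forces a normal `p`-subgroup in the family containing a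
non-central value of `xP` -/
theorem fusion_reduction {F : Subgroup G → Prop} (hF : Fam p F) (P₀ Q₀ : Sylow p G)
    (hv₀ : X.Viol F P₀ Q₀) :
    ∃ D : Subgroup G, D.Normal ∧ IsPGroup p ↥D ∧ F D ∧
      ∃ (P : Sylow p G) (n : G), X.xP P ∈ D ∧ n * X.xP P ≠ X.xP P * n := by
  classical
  -- a maximal violating pair
  obtain ⟨⟨Pm, Qm⟩, hvm, hmaxm⟩ := Set.exists_max_image
    {PQ : Sylow p G × Sylow p G | X.Viol F PQ.1 PQ.2}
    (fun PQ => Nat.card ↥((PQ.1 : Subgroup G) ⊓ PQ.2)) (Set.toFinite _) ⟨(P₀, Q₀), hv₀⟩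
  have hmaxm' : ∀ P' Q' : Sylow p G, X.Viol F P' Q' →
      Nat.card ↥((P' : Subgroup G) ⊓ Q') ≤ Nat.card ↥((Pm : Subgroup G) ⊓ Qm) :=
    fun P' Q' h => hmaxm (P', Q') h
  obtain ⟨Pb, hbad₀, hcard₀⟩ := X.bad_of_max_viol hF Pm Qm hvm hmaxm'
  -- a maximal bad pair
  obtain ⟨⟨P, D⟩, hbad, hmaxb⟩ := Set.exists_max_image
    {PD : Sylow p G × Subgroup G | X.Bad F PD.1 PD.2}
    (fun PD => Nat.card ↥((PD.1 : Subgroup G) ⊓ Subgroup.normalizer (PD.2 : Set G)))
    (Set.toFinite _) ⟨(Pb, _), hbad₀⟩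
  have hmaxb' : ∀ (P' : Sylow p G) (D' : Subgroup G), X.Bad F P' D' →
      Nat.card ↥((P' : Subgroup G) ⊓ Subgroup.normalizer (D' : Set G)) ≤
        Nat.card ↥((P : Subgroup G) ⊓ Subgroup.normalizer (D : Set G)) :=
    fun P' D' h => hmaxb (P', D') h
  change X.Bad F P D at hbad
  obtain ⟨hDP, hFD, hxD, n, hnN, hnx⟩ := hbad
  obtain ⟨N, hN⟩ : ∃ N : Subgroup G, N = Subgroup.normalizer (D : Set G) := ⟨_, rfl⟩
  rw [← hN] at hmaxb' hnN
  obtain ⟨T, hT⟩ : ∃ T : Subgroup G, T = (P : Subgroup G) ⊓ N := ⟨_, rfl⟩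
  rw [← hT] at hmaxb'
  have hTP : T ≤ P := by rw [hT]; exact inf_le_left
  have hTN : T ≤ N := by rw [hT]; exact inf_le_right
  have hDT : D ≤ T := by rw [hT, hN]; exact le_inf hDP Subgroup.le_normalizer
  have hTp : IsPGroup p ↥T := P.2.to_le hTP
  obtain ⟨Ts, hTs⟩ := exists_sylow_of_le_subgroup N T hTN hTp
  obtain ⟨TS, hTS⟩ : ∃ TS : Subgroup G, TS = (Ts : Subgroup N).map N.subtype := ⟨_, rfl⟩
  rw [← hTS] at hTs
  have hTSp : IsPGroup p ↥TS := by rw [hTS]; exact Ts.2.map _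
  have hTSN : TS ≤ N := by rw [hTS]; exact Subgroup.map_subtype_le _
  obtain ⟨P', hP'⟩ := hTSp.exists_le_sylow
  have hmove : n * X.xP P * n⁻¹ ≠ X.xP P := by
    intro h
    apply hnx
    have := congrArg (· * n) h
    simpa using this
  -- `T` is a Sylow subgroup of `N`
  have hcardTS : Nat.card ↥TS ≤ Nat.card ↥T := by
    by_cases hx : X.xP P' = X.xP P
    · have hbad' : X.Bad F P' D :=
        ⟨hDT.trans (hTs.trans hP'), hFD, by rw [hx]; exact hxD, n, by rw [← hN]; exact hnN,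
          by rw [hx]; exact hnx⟩
      have h1 := hmaxb' P' D hbad'
      rw [← hN] at h1
      exact (Subgroup.card_le_of_le (le_inf hP' hTSN)).trans h1
    · exfalso
      have hviol : X.Viol F P P' :=
        ⟨hF.mono hFD (le_inf hDP (hDT.trans (hTs.trans hP'))), hDT.trans (hTs.trans hP') hxD,
          fun h => hx h.symm⟩
      have h1 := hmaxm' P P' hviol
      have h2 : Nat.card ↥T ≤ Nat.card ↥((P : Subgroup G) ⊓ P') :=
        Subgroup.card_le_of_le (le_inf hTP (hTs.trans hP'))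
      have h3 := hmaxb' Pb _ hbad₀
      omega
  have hTSeq : TS = T := (Subgroup.eq_of_le_of_card_ge hTs hcardTS).symm
  have hTseq : (Ts : Subgroup N).map N.subtype = T := by rw [← hTS]; exact hTSeq
  have hZT : (P : Subgroup G) ⊓ Subgroup.centralizer ((P : Subgroup G) : Set G) ≤ T := by
    rw [hT, hN]
    exact le_inf inf_le_left (inf_le_right.trans (centralizer_le_normalizer_of_le hDP))
  have hnT : n * X.xP P * n⁻¹ ∈ T := by
    apply hDT
    rw [hN] at hnN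
    exact conj_mem_of_mem_normalizer hnN hxD
  by_cases hTeq : T = P
  · by_cases hNtop : N = ⊤
    · refine ⟨D, ?_, P.2.to_le hDP, hFD, P, n, hxD, hnx⟩
      rw [hNtop] at hN
      exact Subgroup.normalizer_eq_top_iff.1 hN.symm
    · exfalso
      apply hmove
      apply X.sub N hNtop P Ts (by rw [hTseq]; exact hTP) (by rw [hTseq]; exact hZT) _ n hnN
        (by rw [hTseq]; exact hnT)
      intro m hm
      rw [hTseq, hTeq] at hm
      exact X.cent P m hm.2
  · exfalso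
    have hTlt : T < P := lt_of_le_of_ne hTP hTeq
    have hNtop : N ≠ ⊤ := by
      intro h
      apply hTeq
      rw [hT, h, inf_top_eq]
    by_cases hc : ∀ m ∈ N ⊓ Subgroup.normalizer ((thompsonSubgroupAOf T : Subgroup G) : Set G),
        m * X.xP P = X.xP P * m
    · apply hmove
      apply X.sub N hNtop P Ts (by rw [hTseq]; exact hTP) (by rw [hTseq]; exact hZT) _ n hnN
        (by rw [hTseq]; exact hnT)
      intro m hm
      rw [hTseq] at hm
      exact hc m hm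
    · push Not at hc
      obtain ⟨m, hm, hmx⟩ := hc
      have hxJ : X.xP P ∈ thompsonSubgroupAOf T := by
        apply center_le_JA T
        refine ⟨hDT hxD, ?_⟩
        exact Subgroup.centralizer_le (by exact_mod_cast hTP) (X.mem_center P).2
      have hbad' : X.Bad F P (thompsonSubgroupAOf T) :=
        ⟨(thompsonSubgroupAOf_le T).trans hTP, hF.thomp hFD hDT hTp, hxJ, m, hm.2, hmx⟩
      have h1 := hmaxb' P _ hbad'
      have h2 : T < (P : Subgroup G) ⊓ Subgroup.normalizer (T : Set G) :=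
        lt_inf_normalizer_of_lt P.2 hTlt
      have h3 : Nat.card ↥T < Nat.card ↥((P : Subgroup G) ⊓ Subgroup.normalizer (T : Set G)) :=
        Cfsg.Agent.Lib.Helper9.card_lt_of_lt' h2
      have h4 : Nat.card ↥((P : Subgroup G) ⊓ Subgroup.normalizer (T : Set G)) ≤
          Nat.card ↥((P : Subgroup G) ⊓
            Subgroup.normalizer ((thompsonSubgroupAOf T : Subgroup G) : Set G)) :=
        Subgroup.card_le_of_le (inf_le_inf_left _ (normalizer_le_normalizer_JA p hTp))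
      omega

end FusData

end fusion

end Cfsg.Agent.Lib.Helper8.WC
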