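import Mathlib

/-! Products of all elements of finite abelian groups, and products over orbits of a quadratic
action. -/
set_option autoImplicit false
universe u

namespace Cfsg.Agent.Lib.Helper8.WC

section tau

variable {I : Type*} [CommGroup I] [Fintype I]

theorem prod_univ_sq_eq_one : (∏ i : I, i) ^ 2 = 1 := by
  rw [pow_two]
  nth_rewrite 2 [← Equiv.prod_comp (Equiv.inv I)]
  rw [← Finset.prod_mul_distrib]
  simp

theorem prod_univ_eq_one_of_odd (h : Odd (Fintype.card I)) : ∏ i : I, i = 1 := by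
  have h1 := prod_univ_sq_eq_one (I := I)
  have h2 : orderOf (∏ i : I, i) ∣ 2 := orderOf_dvd_of_pow_eq_one h1
  have h3 : orderOf (∏ i : I, i) ∣ Fintype.card I := orderOf_dvd_card
  have hc : Nat.Coprime 2 (Fintype.card I) := Nat.coprime_two_left.2 h
  exact orderOf_eq_one_iff.1 (Nat.eq_one_of_dvd_coprimes hc h2 h3)

theorem prod_univ_eq_one_of_not_isCyclic (h2 : IsPGroup 2 I) (hc : ¬ IsCyclic I) :
    ∏ i : I, i = 1 := by
  classical
  haveI : Fact (Nat.Prime 2) := ⟨Nat.prime_two⟩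
  obtain ⟨k, hk⟩ := IsPGroup.iff_card.1 h2
  have hk0 : k ≠ 0 := by
    rintro rfl
    apply hc
    rw [pow_zero] at hk
    haveI : Subsingleton I := (Nat.card_eq_one_iff_unique.1 hk).1
    exact isCyclic_of_subsingleton
  obtain ⟨k', rfl⟩ := Nat.exists_eq_succ_of_ne_zero hk0
  obtain ⟨I₀, hI₀⟩ := Sylow.exists_subgroup_card_pow_prime 2 (G := I) (n := k')
    (by rw [hk]; exact pow_dvd_pow 2 (Nat.le_succ k'))
  have hidx : I₀.index = 2 := by
    have h1 := I₀.index_mul_card
    rw [hk, hI₀, pow_succ] at h1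
    have h3 : 0 < 2 ^ k' := by positivity
    nlinarith
  obtain ⟨a, ha⟩ := Subgroup.index_eq_two_iff.1 hidx
  have haI : a ∉ I₀ := by
    have h1 := ha 1
    rw [one_mul] at h1
    rcases h1 with h | h
    · exact absurd I₀.one_mem h.2
    · exact h.2
  have hmem : ∀ b : I, b ∉ I₀ → b * a ∈ I₀ := by
    intro b hb
    rcases ha b with h | h
    · exact h.1
    · exact absurd h.1 hb
  have hsplit := Finset.prod_filter_mul_prod_filter_not (Finset.univ : Finset I) (· ∈ I₀)
    (fun i => i)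
  have hp1 : ∏ x ∈ Finset.univ.filter (· ∈ I₀), x = ((∏ c : I₀, c : I₀) : I) := by
    rw [Finset.prod_subtype (Finset.univ.filter (· ∈ I₀)) (p := (· ∈ I₀)) (by simp) (fun i => i)]
    exact (map_prod I₀.subtype (fun c => c) Finset.univ).symm
  have hp2 : ∏ x ∈ Finset.univ.filter (fun x => ¬ x ∈ I₀), x =
      ((∏ c : I₀, c : I₀) : I) * (a⁻¹) ^ Fintype.card I₀ := by
    have h1 : ∏ c : I₀, ((c : I) * a⁻¹) = ∏ x ∈ Finset.univ.filter (fun x => ¬ x ∈ I₀), x := by
      apply Finset.prod_bij (fun (c : I₀) _ => (c : I) * a⁻¹)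
      · intro c _
        rw [Finset.mem_filter]
        refine ⟨Finset.mem_univ _, ?_⟩
        intro h
        apply haI
        have h3 : a⁻¹ ∈ I₀ := by
          have := I₀.mul_mem (I₀.inv_mem c.2) h
          simpa using this
        simpa using I₀.inv_mem h3
      · intro c₁ _ c₂ _ h
        exact Subtype.ext (mul_right_cancel h)
      · intro b hb
        rw [Finset.mem_filter] at hb
        exact ⟨⟨b * a, hmem b hb.2⟩, Finset.mem_univ _, by simp⟩
      · intro c _; rfl
    rw [← h1, Finset.prod_mul_distrib, Finset.prod_const, Finset.card_univ]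
    congr 1
    exact (map_prod I₀.subtype (fun c => c) Finset.univ).symm
  rw [← hsplit, hp1, hp2]
  have hsq := prod_univ_sq_eq_one (I := I₀)
  have hsq' : ((∏ c : I₀, c : I₀) : I) * ((∏ c : I₀, c : I₀) : I) = 1 := by
    have := congrArg (Subtype.val) hsq
    simpa [pow_two] using this
  rw [← mul_assoc, hsq', one_mul]
  have hcard : Fintype.card I₀ = 2 ^ k' := by rw [← Nat.card_eq_fintype_card]; exact hI₀
  rw [hcard, inv_pow, inv_eq_one]
  -- `a` has order less than `2 ^ (k' + 1)`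
  have ho : orderOf a ∣ 2 ^ (k' + 1) := by rw [← hk]; exact orderOf_dvd_natCard a
  obtain ⟨j, hj, hoj⟩ := (Nat.dvd_prime_pow Nat.prime_two).1 ho
  have hjne : j ≠ k' + 1 := by
    rintro rfl
    apply hc
    exact isCyclic_of_orderOf_eq_card a (by rw [hoj, hk])
  have hjle : j ≤ k' := by omega
  apply orderOf_dvd_iff_pow_eq_one.1
  rw [hoj]
  exact pow_dvd_pow 2 hjle

end tau

section bridge

variable {M : Type*} [CommGroup M]

theorem prod_finset_eq_coe (I : Subgroup M) (s : Finset M) (hs : ∀ y, y ∈ s ↔ y ∈ I)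
    [Fintype I] : ∏ i ∈ s, i = ((∏ i : I, i : I) : M) := by
  rw [Finset.prod_subtype s hs (fun i => i)]
  exact (map_prod I.subtype (fun c => c) Finset.univ).symm

theorem prod_finset_subgroup_sq (I : Subgroup M) (s : Finset M) (hs : ∀ y, y ∈ s ↔ y ∈ I) :
    (∏ i ∈ s, i) ^ 2 = 1 := by
  letI : Fintype I := Fintype.subtype s hs
  rw [prod_finset_eq_coe I s hs, ← Subgroup.coe_pow, prod_univ_sq_eq_one, Subgroup.coe_one]

theorem prod_finset_subgroup_of_odd (I : Subgroup M) (s : Finset M) (hs : ∀ y, y ∈ s ↔ y ∈ I)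
    (hodd : Odd s.card) : ∏ i ∈ s, i = 1 := by
  letI : Fintype I := Fintype.subtype s hs
  have hc : Fintype.card I = s.card := Fintype.card_of_subtype s hs
  rw [prod_finset_eq_coe I s hs, prod_univ_eq_one_of_odd (by rw [hc]; exact hodd), Subgroup.coe_one]

theorem prod_finset_subgroup_of_not_isCyclic (I : Subgroup M) (s : Finset M)
    (hs : ∀ y, y ∈ s ↔ y ∈ I) (h2 : IsPGroup 2 I) (hc : ¬ IsCyclic I) : ∏ i ∈ s, i = 1 := by
  letI : Fintype I := Fintype.subtype s hs
  rw [prod_finset_eq_coe I s hs, prod_univ_eq_one_of_not_isCyclic h2 hc, Subgroup.coe_one]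

theorem orbit_prod_formula (w x : M) (e : ℕ) (s : Finset M) :
    ∏ i ∈ s, ((w * i) ^ e / x) = (w ^ e / x) ^ s.card * (∏ i ∈ s, i) ^ e := by
  have h1 : ∀ i ∈ s, (w * i) ^ e / x = (w ^ e / x) * i ^ e := by
    intro i _
    rw [mul_pow, div_mul_eq_mul_div]
  rw [Finset.prod_congr rfl h1, Finset.prod_mul_distrib, Finset.prod_const, Finset.prod_pow]

end bridge

section orbit

variable {A M : Type*} [Group A] [CommGroup M]

/-- quadratic action -/
def IsQuad (φ : A →* MulAut M) : Prop := ∀ a b : A, ∀ v : M, φ b (φ a v / v) = φ a v / v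

variable {φ : A →* MulAut M}

/-- the commutator homomorphism -/
def delta (hq : IsQuad φ) (w : M) : A →* M where
  toFun a := φ a w / w
  map_one' := by simp
  map_mul' a b := by
    have h := hq b a w
    have h1 : φ a (φ b w) = φ a w * (φ b w / w) := by
      calc φ a (φ b w) = φ a (w * (φ b w / w)) := by rw [mul_div_cancel]
        _ = φ a w * φ a (φ b w / w) := map_mul _ _ _
        _ = φ a w * (φ b w / w) := by rw [h]
    rw [map_mul, MulAut.mul_apply, h1, mul_div_assoc, mul_comm, div_mul_eq_mul_div, mul_div_assoc,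
      mul_comm]

theorem delta_apply (hq : IsQuad φ) (w : M) (a : A) : delta hq w a = φ a w / w := rfl

/-- the orbit relation -/
def orbSetoid (φ : A →* MulAut M) : Setoid M where
  r u v := ∃ a, φ a u = v
  iseqv :=
    { refl := fun u => ⟨1, by simp⟩
      symm := by
        rintro u v ⟨a, rfl⟩
        exact ⟨a⁻¹, by simp⟩
      trans := by
        rintro u v w ⟨a, rfl⟩ ⟨b, rfl⟩
        exact ⟨b * a, by simp⟩ }

theorem prod_eq_one_of_orbit_prods [Fintype M] [DecidableEq M] (hq : IsQuad φ) (Z : Finset M)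
    (hZ : ∀ a, ∀ w ∈ Z, φ a w ∈ Z) (g : M → M)
    (h : ∀ w ∈ Z, ∀ s : Finset M, (∀ y, y ∈ s ↔ y ∈ (delta hq w).range) →
      ∏ i ∈ s, g (w * i) = 1) : ∏ w ∈ Z, g w = 1 := by
  classical
  apply Finset.prod_cancels_of_partition_cancels (orbSetoid φ)
  intro w hw
  obtain ⟨s, hs⟩ : ∃ s : Finset M, ∀ y, y ∈ s ↔ y ∈ (delta hq w).range :=
    ⟨Finset.univ.filter (· ∈ (delta hq w).range), by simp⟩
  have hcls : Z.filter (fun y => (orbSetoid φ).r y w) = s.image (fun i => w * i) := by
    ext y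
    rw [Finset.mem_filter, Finset.mem_image]
    constructor
    · rintro ⟨hy, a, rfl⟩
      refine ⟨φ a⁻¹ (φ a y) / φ a y, ?_, by rw [mul_div_cancel]; simp⟩
      rw [hs]
      exact ⟨a⁻¹, rfl⟩
    · rintro ⟨i, hi, rfl⟩
      rw [hs] at hi
      obtain ⟨a, rfl⟩ := hi
      rw [delta_apply, mul_div_cancel]
      exact ⟨hZ a w hw, a⁻¹, by simp⟩
  show ∏ a ∈ Z.filter (fun y => (orbSetoid φ).r y w), g a = 1
  rw [hcls, Finset.prod_image (fun i _ j _ hij => mul_left_cancel hij)]
  exact h w hw s hs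

end orbit

end Cfsg.Agent.Lib.Helper8.WC
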