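import Cfsg.Agent.Lib.Helper8.WC4
import Cfsg.Agent.Lib.Helper8.WC5a
import Cfsg.Agent.Lib.Helper1.BestOffender
import Cfsg.Agent.Lib.Helper8.WC2

/-! An offender of index two over the centralizer of a conjugate forces a transvection. -/
set_option autoImplicit false
universe u
open Cfsg

namespace Cfsg.Agent.Lib.Helper8.WC

open Cfsg.Agent.Lib.Helper1 Cfsg.Agent.Lib.Helper1.ZJ Cfsg.Agent.Lib.Helper8.ThLoc

variable {G : Type u} [Group G]

theorem prA_sup_centralizer {V A₀ : Subgroup G} (hVc : ∀ x ∈ V, ∀ y ∈ V, x * y = y * x)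
    (hA₀c : PrA A₀) : PrA (A₀ ⊔ (V ⊓ Subgroup.centralizer (A₀ : Set G))) := by
  obtain ⟨B, hB⟩ : ∃ B : Subgroup G, B = V ⊓ Subgroup.centralizer (A₀ : Set G) := ⟨_, rfl⟩
  rw [← hB]
  have h1 : A₀ ⊔ B ≤ Subgroup.centralizer (A₀ : Set G) := by
    apply sup_le
    · intro a ha
      rw [Subgroup.mem_centralizer_iff]
      intro b hb
      exact hA₀c b hb a ha
    · rw [hB]; exact inf_le_right
  have h2 : A₀ ⊔ B ≤ Subgroup.centralizer (B : Set G) := by
    apply sup_le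
    · rw [Subgroup.le_centralizer_iff, hB]; exact inf_le_right
    · intro a ha
      rw [Subgroup.mem_centralizer_iff]
      intro b hb
      rw [hB] at ha hb
      exact hVc b hb.1 a ha.1
  have h3 : A₀ ⊔ B ≤ Subgroup.centralizer ((A₀ ⊔ B : Subgroup G) : Set G) := by
    intro y hy
    have hy1 := h1 hy
    have hy2 := h2 hy
    have : (A₀ ⊔ B : Subgroup G) ≤ Subgroup.centralizer ({y} : Set G) := by
      apply sup_le
      · intro a ha
        rw [Subgroup.mem_centralizer_iff]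
        intro c hc
        rw [Set.mem_singleton_iff] at hc
        rw [hc]
        exact (Subgroup.mem_centralizer_iff.1 hy1 a ha).symm
      · intro a ha
        rw [Subgroup.mem_centralizer_iff]
        intro c hc
        rw [Set.mem_singleton_iff] at hc
        rw [hc]
        exact (Subgroup.mem_centralizer_iff.1 hy2 a ha).symm
    rw [Subgroup.mem_centralizer_iff]
    intro c hc
    have := Subgroup.mem_centralizer_iff.1 (this hc) y (Set.mem_singleton y)
    exact this.symm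
  intro a ha b hb
  exact (Subgroup.mem_centralizer_iff.1 (h3 hb) a ha)

/-- the key counting step: an abelian subgroup of largest order acting quadratically, having an
index-two subgroup `A₀` centralizing some `w ∈ V \ A`, and maximal intersection with `V`, has `A₀`
centralizing `V` and `|V| ≤ 2 |V ∩ A₀|`. -/
theorem offender_index_two [Finite G] {S V A A₀ : Subgroup G} {w : G}
    (hVS : V ≤ S) (hVc : ∀ x ∈ V, ∀ y ∈ V, x * y = y * x)
    (hSV : S ≤ Subgroup.normalizer (V : Set G))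
    (hA : A ∈ FPr (PrA (G := G)) S) (hq : QuadOn V A)
    (hwV : w ∈ V) (hA₀A : A₀ ≤ A) (hA₀w : ∀ a ∈ A₀, a * w = w * a)
    (hidx : Nat.card ↥A ≤ 2 * Nat.card ↥A₀) (hwA : w ∉ A)
    (hmax : ∀ A' ∈ FPr (PrA (G := G)) S, QuadOn V A' →
      ¬ A' ≤ Subgroup.centralizer (V : Set G) → Nat.card ↥(V ⊓ A' : Subgroup G) ≤
        Nat.card ↥(V ⊓ A : Subgroup G)) :
    A₀ ≤ Subgroup.centralizer (V : Set G) ∧
      Nat.card ↥V ≤ 2 * Nat.card ↥(V ⊓ A₀ : Subgroup G) := by
  obtain ⟨hAS, hAc, hAmax⟩ := hA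
  obtain ⟨B, hB⟩ : ∃ B : Subgroup G, B = V ⊓ Subgroup.centralizer (A₀ : Set G) := ⟨_, rfl⟩
  obtain ⟨As, hAs⟩ : ∃ As : Subgroup G, As = A₀ ⊔ B := ⟨_, rfl⟩
  have hA₀c : PrA A₀ := fun a ha b hb => hAc a (hA₀A ha) b (hA₀A hb)
  have hAsc : PrA As := by rw [hAs, hB]; exact prA_sup_centralizer hVc hA₀c
  have hBV : B ≤ V := by rw [hB]; exact inf_le_left
  have hAsS : As ≤ S := by
    rw [hAs]; exact sup_le (hA₀A.trans hAS) (hBV.trans hVS)
  have hB1 : V ⊓ A ≤ B := by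
    rw [hB]
    apply le_inf inf_le_left
    intro v hv
    rw [Subgroup.mem_centralizer_iff]
    intro a ha
    exact hAc a (hA₀A ha) v hv.2
  have hB2 : w ∈ B := by
    rw [hB]
    refine ⟨hwV, ?_⟩
    show w ∈ Subgroup.centralizer (A₀ : Set G)
    rw [Subgroup.mem_centralizer_iff]
    intro a ha
    exact hA₀w a ha
  have hlt : V ⊓ A < B := by
    apply lt_of_le_of_ne hB1
    intro h
    apply hwA
    have : w ∈ V ⊓ A := by rw [h]; exact hB2
    exact this.2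
  have hpos : 0 < Nat.card ↥(V ⊓ A : Subgroup G) := Nat.card_pos
  have hcardB : 2 * Nat.card ↥(V ⊓ A : Subgroup G) ≤ Nat.card ↥B := by
    obtain ⟨k, hk⟩ := Subgroup.card_dvd_of_le hB1
    have h1 := Cfsg.Agent.Lib.Helper9.card_lt_of_lt' hlt
    rw [hk] at h1 ⊢
    have hk2 : 2 ≤ k := by
      by_contra hk2
      push Not at hk2
      interval_cases k
      · simp at h1
      · simp at h1
    calc 2 * Nat.card ↥(V ⊓ A : Subgroup G) = Nat.card ↥(V ⊓ A : Subgroup G) * 2 := by ring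
      _ ≤ Nat.card ↥(V ⊓ A : Subgroup G) * k := Nat.mul_le_mul_left _ hk2
  have hcard := card_mul_card_le_card_sup_mul_card_inf A₀ B
  rw [← hAs] at hcard
  have hinf : A₀ ⊓ B ≤ V ⊓ A := le_inf (inf_le_right.trans hBV) (inf_le_left.trans hA₀A)
  have hinf' : A₀ ⊓ B ≤ V ⊓ A₀ := le_inf (inf_le_right.trans hBV) inf_le_left
  have hinfc : Nat.card ↥(A₀ ⊓ B : Subgroup G) ≤ Nat.card ↥(V ⊓ A : Subgroup G) :=
    Subgroup.card_le_of_le hinf
  have hinfc' : Nat.card ↥(A₀ ⊓ B : Subgroup G) ≤ Nat.card ↥(V ⊓ A₀ : Subgroup G) :=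
    Subgroup.card_le_of_le hinf'
  have hAle : Nat.card ↥A ≤ Nat.card ↥As := by
    have h1 : Nat.card ↥A * Nat.card ↥(V ⊓ A : Subgroup G) ≤
        Nat.card ↥As * Nat.card ↥(V ⊓ A : Subgroup G) := by
      calc Nat.card ↥A * Nat.card ↥(V ⊓ A : Subgroup G)
          ≤ (2 * Nat.card ↥A₀) * Nat.card ↥(V ⊓ A : Subgroup G) := Nat.mul_le_mul_right _ hidx
        _ = Nat.card ↥A₀ * (2 * Nat.card ↥(V ⊓ A : Subgroup G)) := by ring
        _ ≤ Nat.card ↥A₀ * Nat.card ↥B := Nat.mul_le_mul_left _ hcardB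
        _ ≤ Nat.card ↥As * Nat.card ↥(A₀ ⊓ B : Subgroup G) := hcard
        _ ≤ Nat.card ↥As * Nat.card ↥(V ⊓ A : Subgroup G) := Nat.mul_le_mul_left _ hinfc
    exact Nat.le_of_mul_le_mul_right h1 hpos
  have hAsF : As ∈ FPr (PrA (G := G)) S :=
    ⟨hAsS, hAsc, fun B' hB'S hB'c => (hAmax B' hB'S hB'c).trans hAle⟩
  have hSN : ∀ b ∈ S, ∀ v ∈ V, b * v * b⁻¹ ∈ V := fun b hb v hv =>
    conj_mem_of_mem_normalizer (hSV hb) hv
  have hqs : QuadOn V As := by
    rw [hAs, hB]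
    apply quadOn_sup_of_le (U := V ⊓ Subgroup.centralizer (A : Set G)) hVc inf_le_left
    · intro b hb v hv
      refine ⟨V.mul_mem (hSN b (hAS (hA₀A hb)) v hv) (V.inv_mem hv), ?_⟩
      show b * v * b⁻¹ * v⁻¹ ∈ Subgroup.centralizer (A : Set G)
      rw [Subgroup.mem_centralizer_iff]
      intro a ha
      have h1 := hq b (hA₀A hb) a ha v hv
      calc a * (b * v * b⁻¹ * v⁻¹) = a * (b * v * b⁻¹ * v⁻¹) * a⁻¹ * a := by group
        _ = b * v * b⁻¹ * v⁻¹ * a := by rw [h1]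
    · intro b hb u hu
      exact (Subgroup.mem_centralizer_iff.1 hu.2 b (hA₀A hb))
  have hBAs : B ≤ V ⊓ As := le_inf hBV (by rw [hAs]; exact le_sup_right)
  have hcardlt : Nat.card ↥(V ⊓ A : Subgroup G) < Nat.card ↥(V ⊓ As : Subgroup G) :=
    lt_of_lt_of_le (Cfsg.Agent.Lib.Helper9.card_lt_of_lt' hlt) (Subgroup.card_le_of_le hBAs)
  have hAsV : As ≤ Subgroup.centralizer (V : Set G) := by
    by_contra hno
    have := hmax As hAsF hqs hno
    omega
  have hA₀V : A₀ ≤ Subgroup.centralizer (V : Set G) := by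
    refine le_trans ?_ hAsV
    rw [hAs]; exact le_sup_left
  refine ⟨hA₀V, ?_⟩
  have hVB : V ≤ B := by
    rw [hB]
    apply le_inf le_rfl
    rw [Subgroup.le_centralizer_iff]
    exact hA₀V
  have hAsle : Nat.card ↥As ≤ Nat.card ↥A := hAmax As hAsS hAsc
  have hpos0 : 0 < Nat.card ↥A₀ := Nat.card_pos
  have h2 : Nat.card ↥A₀ * Nat.card ↥V ≤ Nat.card ↥A₀ * (2 * Nat.card ↥(V ⊓ A₀ : Subgroup G)) := by
    calc Nat.card ↥A₀ * Nat.card ↥V ≤ Nat.card ↥A₀ * Nat.card ↥B :=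
          Nat.mul_le_mul_left _ (Subgroup.card_le_of_le hVB)
      _ ≤ Nat.card ↥As * Nat.card ↥(A₀ ⊓ B : Subgroup G) := hcard
      _ ≤ Nat.card ↥A * Nat.card ↥(A₀ ⊓ B : Subgroup G) := Nat.mul_le_mul_right _ hAsle
      _ ≤ (2 * Nat.card ↥A₀) * Nat.card ↥(A₀ ⊓ B : Subgroup G) := Nat.mul_le_mul_right _ hidx
      _ ≤ (2 * Nat.card ↥A₀) * Nat.card ↥(V ⊓ A₀ : Subgroup G) := Nat.mul_le_mul_left _ hinfc'
      _ = Nat.card ↥A₀ * (2 * Nat.card ↥(V ⊓ A₀ : Subgroup G)) := by ring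
  exact Nat.le_of_mul_le_mul_left h2 hpos0

/-- an element of an abelian group `A` whose centralizer of `V` has index two, with `V` large
compared with `C_V(A)`, acts as a transvection. -/
theorem exists_transvection [Finite G] {V A A₀ : Subgroup G}
    (hVc : ∀ x ∈ V, ∀ y ∈ V, x * y = y * x)
    (hAV : A ≤ Subgroup.normalizer (V : Set G)) (hAc : PrA A)
    (hA₀A : A₀ ≤ A) (hA₀V : A₀ ≤ Subgroup.centralizer (V : Set G))
    (hidx : Nat.card ↥A ≤ 2 * Nat.card ↥A₀)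
    (hcard : Nat.card ↥V ≤ 2 * Nat.card ↥(V ⊓ A₀ : Subgroup G))
    (hAnV : ¬ A ≤ Subgroup.centralizer (V : Set G)) :
    ∃ a ∈ A, a ∉ Subgroup.centralizer (V : Set G) ∧ a ^ 2 ∈ Subgroup.centralizer (V : Set G) ∧
      ∃ S₀ : Subgroup G, S₀ ≤ V ∧ Nat.card ↥S₀ = 2 ∧ ∀ v ∈ V, a * v * a⁻¹ * v⁻¹ ∈ S₀ := by
  obtain ⟨a, haA, haV⟩ := SetLike.not_le_iff_exists.1 hAnV
  refine ⟨a, haA, haV, ?_, ?_⟩
  · -- `a ^ 2 ∈ A₀`
    apply hA₀V
    have h1 := relIndex_mul_card_inf A₀ A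
    rw [inf_eq_left.2 hA₀A] at h1
    have hpos : 0 < Nat.card ↥A₀ := Nat.card_pos
    have h2 : A₀.relIndex A ≤ 2 := by
      have : A₀.relIndex A * Nat.card ↥A₀ ≤ 2 * Nat.card ↥A₀ := by rw [h1]; exact hidx
      exact Nat.le_of_mul_le_mul_right this hpos
    have h3 : A₀.relIndex A ≠ 1 := by
      intro h
      rw [Subgroup.relIndex_eq_one] at h
      exact hAnV (h.trans hA₀V)
    have h4 : A₀.relIndex A ≠ 0 := by
      intro h
      rw [h, zero_mul] at h1
      have : 0 < Nat.card ↥A := Nat.card_pos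
      omega
    have h5 : (A₀.subgroupOf A).index = 2 := by
      change A₀.relIndex A = 2
      omega
    have h6 := Subgroup.sq_mem_of_index_two h5 ⟨a, haA⟩
    rw [Subgroup.mem_subgroupOf] at h6
    simpa using h6
  · have hN : ∀ v ∈ V, a * v * a⁻¹ ∈ V := fun v hv =>
      conj_mem_of_mem_normalizer (hAV haA) hv
    let δ : ↥V →* G :=
      { toFun := fun v => a * v * a⁻¹ * (v : G)⁻¹
        map_one' := by simp
        map_mul' := by
          intro v v'
          have hc : (a * (v' : G) * a⁻¹ * (v' : G)⁻¹) * (v : G)⁻¹ =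
              (v : G)⁻¹ * (a * (v' : G) * a⁻¹ * (v' : G)⁻¹) :=
            hVc _ (V.mul_mem (hN _ v'.2) (V.inv_mem v'.2)) _ (V.inv_mem v.2)
          show a * ((v : G) * (v' : G)) * a⁻¹ * ((v : G) * (v' : G))⁻¹ =
            a * v * a⁻¹ * (v : G)⁻¹ * (a * v' * a⁻¹ * (v' : G)⁻¹)
          calc a * ((v : G) * (v' : G)) * a⁻¹ * ((v : G) * (v' : G))⁻¹
              = a * v * a⁻¹ * ((a * (v' : G) * a⁻¹ * (v' : G)⁻¹) * (v : G)⁻¹) := by group
            _ = a * v * a⁻¹ * ((v : G)⁻¹ * (a * (v' : G) * a⁻¹ * (v' : G)⁻¹)) := by rw [hc]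
            _ = a * v * a⁻¹ * (v : G)⁻¹ * (a * v' * a⁻¹ * (v' : G)⁻¹) := by group }
    have hδ : ∀ v : ↥V, δ v = a * v * a⁻¹ * (v : G)⁻¹ := fun v => rfl
    refine ⟨δ.range, ?_, ?_, ?_⟩
    · rintro _ ⟨v, rfl⟩
      rw [hδ]
      exact V.mul_mem (hN _ v.2) (V.inv_mem v.2)
    · have h1 := Subgroup.card_mul_index δ.ker
      rw [Subgroup.index_ker] at h1
      have h2 : Nat.card ↥(V ⊓ A₀ : Subgroup G) ≤ Nat.card ↥δ.ker := by
        rw [← card_subgroupOf_of_le (inf_le_left : V ⊓ A₀ ≤ V)]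
        apply Subgroup.card_le_of_le
        intro v hv
        rw [Subgroup.mem_subgroupOf] at hv
        rw [MonoidHom.mem_ker, hδ]
        have h3 : a * (v : G) = v * a := hAc a haA v (hA₀A hv.2)
        rw [h3]; group
      have hkpos : 0 < Nat.card ↥δ.ker := Nat.card_pos
      have hrpos : 0 < Nat.card ↥δ.range := Nat.card_pos
      have h3 : Nat.card ↥δ.range ≤ 2 := by
        have : Nat.card ↥δ.ker * Nat.card ↥δ.range ≤ Nat.card ↥δ.ker * 2 := by
          rw [h1]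
          calc Nat.card ↥V ≤ 2 * Nat.card ↥(V ⊓ A₀ : Subgroup G) := hcard
            _ ≤ 2 * Nat.card ↥δ.ker := Nat.mul_le_mul_left _ h2
            _ = Nat.card ↥δ.ker * 2 := by ring
        exact Nat.le_of_mul_le_mul_left this hkpos
      have h4 : Nat.card ↥δ.range ≠ 1 := by
        intro h
        rw [Subgroup.card_eq_one] at h
        apply haV
        rw [Subgroup.mem_centralizer_iff]
        intro v hv
        have h5 : δ ⟨v, hv⟩ ∈ δ.range := ⟨_, rfl⟩
        rw [h, Subgroup.mem_bot, hδ] at h5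
        have h6 : a * v * a⁻¹ = v := by
          have := congrArg (· * v) h5
          simpa using this
        calc v * a = a * v * a⁻¹ * a := by rw [h6]
          _ = a * v := by group
      omega
    · intro v hv
      exact ⟨⟨v, hv⟩, rfl⟩

end Cfsg.Agent.Lib.Helper8.WC
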