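import Cfsg.Agent.Lib.Helper8.WC5a
import Cfsg.Agent.Lib.Helper8.WC5b
import Cfsg.Agent.Lib.Helper8.ThLoc1
import Cfsg.Agent.Lib.Helper1.OmegaCenter
import Cfsg.Agent.Lib.Helper7.PConstrained
import Cfsg.Agent.Lib.Helper7.PCore
import Cfsg.Agent.S0200

/-! A transvection on a normal abelian `2`-subgroup generated by Sylow fixed points produces a
section `S₄`. -/
set_option autoImplicit false
universe u
open Cfsg

namespace Cfsg.Agent.Lib.Helper8.WC

open Cfsg.Agent.Lib.Helper8.ThLoc Cfsg.Agent.Lib.Helper1 Cfsg.Agent.Lib.Helper1.ZJ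

variable {G : Type u} [Group G]

theorem involves_S4_of_transvection [Finite G] (V : Subgroup G) [hVn : V.Normal]
    (hVc : ∀ x ∈ V, ∀ y ∈ V, x * y = y * x) (hV2 : IsPGroup 2 ↥V)
    (hgen : V = ⨆ S : Sylow 2 G, V ⊓ Subgroup.centralizer ((S : Subgroup G) : Set G))
    (a : G) (ha : a ∉ Subgroup.centralizer (V : Set G))
    (ha2 : a ^ 2 ∈ Subgroup.centralizer (V : Set G))
    (S₀ : Subgroup G) (hS₀V : S₀ ≤ V) (hS₀ : Nat.card ↥S₀ = 2)
    (hS : ∀ v ∈ V, a * v * a⁻¹ * v⁻¹ ∈ S₀) : Involves (Equiv.Perm (Fin 4)) G := by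
  haveI : Fact (Nat.Prime 2) := ⟨Nat.prime_two⟩
  have hcore := Cfsg.Agent.Lib.Helper1.pCore_quotient_centralizer_eq_bot (p := 2) V hgen
  obtain ⟨f, hf⟩ : ∃ f : G →* G ⧸ Subgroup.centralizer (V : Set G),
      f = QuotientGroup.mk' (Subgroup.centralizer (V : Set G)) := ⟨_, rfl⟩
  have hfker : ∀ y : G, f y = 1 ↔ y ∈ Subgroup.centralizer (V : Set G) := by
    intro y; rw [hf]; exact QuotientGroup.eq_one_iff y
  have hfsurj : Function.Surjective f := by rw [hf]; exact QuotientGroup.mk'_surjective _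
  have ht1 : f a ≠ 1 := fun h => ha ((hfker a).1 h)
  have ht2 : f a ^ 2 = 1 := by rw [← map_pow]; exact (hfker _).2 ha2
  have hto : orderOf (f a) = 2 := orderOf_eq_prime ht2 ht1
  have hO : ∀ N : Subgroup (G ⧸ Subgroup.centralizer (V : Set G)), N.Normal → IsPGroup 2 N →
      f a ∉ N := by
    intro N hN hN2 htN
    have h1 : N ≤ pCore 2 (G ⧸ Subgroup.centralizer (V : Set G)) :=
      Cfsg.Agent.Lib.Helper7.le_pCore hN hN2
    rw [hcore] at h1
    exact ht1 (Subgroup.mem_bot.1 (h1 htN))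
  obtain ⟨hbar, hne, hodd, hinv⟩ := Cfsg.Agent.S0200.result (f a) hto hO
  obtain ⟨h, rfl⟩ := hfsurj hbar
  -- the commutator maps to `(f h) ^ 2`
  have hinv' : f a * (f h)⁻¹ * (f a)⁻¹ = f h := by
    have := congrArg (·⁻¹) hinv
    simpa [mul_assoc] using this
  have hfc : f (h * a * h⁻¹ * a⁻¹) = f h ^ 2 := by
    rw [map_mul, map_mul, map_mul, map_inv, map_inv, pow_two]
    calc f h * f a * (f h)⁻¹ * (f a)⁻¹ = f h * (f a * (f h)⁻¹ * (f a)⁻¹) := by group
      _ = f h * f h := by rw [hinv']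
  have h8 : f h ^ 8 ≠ 1 := by
    intro h8
    have h1 : orderOf (f h) ∣ 8 := orderOf_dvd_of_pow_eq_one h8
    have h2 : Nat.Coprime (orderOf (f h)) 8 := by
      have : Nat.Coprime (orderOf (f h)) (2 ^ 3) :=
        Nat.Coprime.pow_right 3 (Nat.coprime_two_right.2 hodd)
      simpa using this
    have h3 := Nat.Coprime.eq_one_of_dvd h2 h1
    exact hne (orderOf_eq_one_iff.1 h3)
  -- `Ω₁(V)`
  let W : Subgroup G :=
    { carrier := {v | v ∈ V ∧ v ^ 2 = 1}
      mul_mem' := by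
        rintro u v ⟨hu, hu2⟩ ⟨hv, hv2⟩
        refine ⟨V.mul_mem hu hv, ?_⟩
        rw [(show Commute u v from hVc u hu v hv).mul_pow, hu2, hv2, one_mul]
      one_mem' := ⟨V.one_mem, one_pow 2⟩
      inv_mem' := by
        rintro u ⟨hu, hu2⟩
        exact ⟨V.inv_mem hu, by rw [inv_pow, hu2, inv_one]⟩ }
  have hWmem : ∀ v, v ∈ W ↔ v ∈ V ∧ v ^ 2 = 1 := fun v => Iff.rfl
  haveI hWn : W.Normal := by
    refine ⟨fun v hv g => ?_⟩
    rw [hWmem] at hv ⊢
    refine ⟨hVn.conj_mem v hv.1 g, ?_⟩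
    rw [conj_pow, hv.2, mul_one, mul_inv_cancel]
  have hWel : IsElementaryAbelian 2 W := by
    refine ⟨⟨⟨fun u v => Subtype.ext (hVc u u.2.1 v v.2.1)⟩⟩, fun u hu => hu.2⟩
  have hS₀W : S₀ ≤ W := by
    intro s hs
    rw [hWmem]
    refine ⟨hS₀V hs, ?_⟩
    have h1 : (⟨s, hs⟩ : ↥S₀) ^ Nat.card ↥S₀ = 1 := pow_card_eq_one'
    rw [hS₀] at h1
    simpa using congrArg Subtype.val h1
  have hc4 : (h * a * h⁻¹ * a⁻¹) ^ 4 ∉ Subgroup.centralizer (W : Set G) := by
    intro hin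
    obtain ⟨g, hg⟩ : ∃ g : G, g = (h * a * h⁻¹ * a⁻¹) ^ 4 := ⟨_, rfl⟩
    rw [← hg] at hin
    have hfg : f g = f h ^ 8 := by
      rw [hg, map_pow, hfc, ← pow_mul]
    obtain ⟨x, hx, y, hy, hgxy, hxcop, k, hyk⟩ := Cfsg.Agent.Lib.Helper7.exists_pPart_decomp 2 g
    have hzp : Subgroup.zpowers g ≤ Subgroup.centralizer (W : Set G) :=
      (Subgroup.zpowers_le).2 hin
    have hxW := hzp hx
    have hxV : ∀ v ∈ V, x * v = v * x := by
      apply centralizes_abelian_of_centralizes_omega V hV2 hVc x _ hxcop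
      · intro w hw hw2
        exact (Subgroup.mem_centralizer_iff.1 hxW w ((hWmem w).2 ⟨hw, hw2⟩)).symm
      · rw [Subgroup.normalizer_eq_top_iff.2 hVn]; exact Subgroup.mem_top x
    have hfx : f x = 1 := by
      rw [hfker, Subgroup.mem_centralizer_iff]
      intro v hv
      exact (hxV v hv).symm
    have hfgy : f g = f y := by rw [hgxy, map_mul, hfx, one_mul]
    have h1 : (f g) ^ (2 ^ k) = 1 := by rw [hfgy, ← map_pow, hyk, map_one]
    have h2 : (f g) ^ (orderOf (f h)) = 1 := by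
      rw [hfg, ← pow_mul, mul_comm, pow_mul, pow_orderOf_eq_one, one_pow]
    have h3 : orderOf (f g) ∣ 2 ^ k := orderOf_dvd_of_pow_eq_one h1
    have h4 : orderOf (f g) ∣ orderOf (f h) := orderOf_dvd_of_pow_eq_one h2
    have h5 : Nat.Coprime (orderOf (f h)) (2 ^ k) :=
      Nat.Coprime.pow_right k (Nat.coprime_two_right.2 hodd)
    have h6 : orderOf (f g) = 1 := Nat.eq_one_of_dvd_coprimes h5 h4 h3
    apply h8
    rw [← hfg]
    exact orderOf_eq_one_iff.1 h6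
  exact involves_S4_of_transvection_conj W (Subgroup.centralizer (W : Set G)) rfl hWel a h S₀
    hS₀W hS₀ (fun v hv => hS v hv.1) hc4

/-- the cyclic case of the weak closure argument: an offender with an index-two centralizer of a
conjugate produces a section `S₄`. -/
theorem involves_S4_of_offender [Finite G] (S : Sylow 2 G) (V : Subgroup G) [hVn : V.Normal]
    (hVS : V ≤ S) (hVc : ∀ x ∈ V, ∀ y ∈ V, x * y = y * x)
    (hgen : V = ⨆ S : Sylow 2 G, V ⊓ Subgroup.centralizer ((S : Subgroup G) : Set G))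
    {A A₀ : Subgroup G} {w : G}
    (hA : A ∈ FPr (PrA (G := G)) (S : Subgroup G)) (hq : QuadOn V A)
    (hAnV : ¬ A ≤ Subgroup.centralizer (V : Set G))
    (hwV : w ∈ V) (hA₀A : A₀ ≤ A) (hA₀w : ∀ a ∈ A₀, a * w = w * a)
    (hidx : Nat.card ↥A ≤ 2 * Nat.card ↥A₀) (hwA : ¬ ∀ a ∈ A, a * w = w * a)
    (hmax : ∀ A' ∈ FPr (PrA (G := G)) (S : Subgroup G), QuadOn V A' →
      ¬ A' ≤ Subgroup.centralizer (V : Set G) → Nat.card ↥(V ⊓ A' : Subgroup G) ≤
        Nat.card ↥(V ⊓ A : Subgroup G)) :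
    Involves (Equiv.Perm (Fin 4)) G := by
  have hwA' : w ∉ A := fun hw => hwA (fun a ha => hA.2.1 a ha w hw)
  have hNV : Subgroup.normalizer (V : Set G) = ⊤ := Subgroup.normalizer_eq_top_iff.2 hVn
  have hSV : (S : Subgroup G) ≤ Subgroup.normalizer (V : Set G) := by rw [hNV]; exact le_top
  obtain ⟨hA₀V, hcard⟩ := offender_index_two hVS hVc hSV hA hq hwV hA₀A hA₀w hidx hwA' hmax
  obtain ⟨a, -, haV, ha2, S₀, hS₀V, hS₀, hS⟩ := exists_transvection hVc (hA.1.trans hSV) hA.2.1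
    hA₀A hA₀V hidx hcard hAnV
  exact involves_S4_of_transvection V hVc (S.2.to_le hVS) hgen a haV ha2 S₀ hS₀V hS₀ hS

end Cfsg.Agent.Lib.Helper8.WC
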