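import Cfsg.Agent.Lib.Helper8.WC3
import Cfsg.Agent.Lib.Helper8.WC4
import Cfsg.Agent.Lib.Helper8.WC2

/-! The orbit product argument of the weak closure theorem. -/
set_option autoImplicit false
universe u
open Cfsg

namespace Cfsg.Agent.Lib.Helper8.WC

open Cfsg.Agent.Lib.Helper1 Cfsg.Agent.Lib.Helper1.ZJ Cfsg.Agent.Lib.Helper8.ThLoc

variable {G : Type u} [Group G]

theorem card_eq_of_quad [Finite G] {V A : Subgroup G}
    (hVc : ∀ x ∈ V, ∀ y ∈ V, x * y = y * x) (hAV : A ≤ Subgroup.normalizer (V : Set G))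
    (hq : QuadOn V A) {w : G} (hwV : w ∈ V) (I : Subgroup G)
    (hI : ∀ y, y ∈ I ↔ ∃ a ∈ A, y = a * w * a⁻¹ * w⁻¹) :
    Nat.card ↥A = Nat.card ↥(A ⊓ Subgroup.centralizer ({w} : Set G) : Subgroup G) *
      Nat.card ↥I := by
  have hN : ∀ a ∈ A, a * w * a⁻¹ * w⁻¹ ∈ V := fun a ha =>
    V.mul_mem (conj_mem_of_mem_normalizer (hAV ha) hwV) (V.inv_mem hwV)
  let δ : ↥A →* G :=
    { toFun := fun a => a * w * (a : G)⁻¹ * w⁻¹
      map_one' := by simp
      map_mul' := by
        intro a b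
        have h1 := hq b b.2 a a.2 w hwV
        have h2 : (b : G) * w * (b : G)⁻¹ * w⁻¹ * ((a : G) * w * (a : G)⁻¹ * w⁻¹) =
            (a : G) * w * (a : G)⁻¹ * w⁻¹ * ((b : G) * w * (b : G)⁻¹ * w⁻¹) :=
          hVc _ (hN b b.2) _ (hN a a.2)
        show (a : G) * (b : G) * w * ((a : G) * (b : G))⁻¹ * w⁻¹ =
          (a : G) * w * (a : G)⁻¹ * w⁻¹ * ((b : G) * w * (b : G)⁻¹ * w⁻¹)
        calc (a : G) * (b : G) * w * ((a : G) * (b : G))⁻¹ * w⁻¹
            = (a : G) * ((b : G) * w * (b : G)⁻¹ * w⁻¹) * (a : G)⁻¹ *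
                ((a : G) * w * (a : G)⁻¹ * w⁻¹) := by group
          _ = (b : G) * w * (b : G)⁻¹ * w⁻¹ * ((a : G) * w * (a : G)⁻¹ * w⁻¹) := by rw [h1]
          _ = _ := h2 }
  have hδ : ∀ a : ↥A, δ a = a * w * (a : G)⁻¹ * w⁻¹ := fun a => rfl
  have hrange : δ.range = I := by
    ext y
    rw [hI, MonoidHom.mem_range]
    constructor
    · rintro ⟨a, rfl⟩; exact ⟨a, a.2, hδ a⟩
    · rintro ⟨a, ha, rfl⟩; exact ⟨⟨a, ha⟩, hδ _⟩
  have hker : δ.ker = (A ⊓ Subgroup.centralizer ({w} : Set G) : Subgroup G).subgroupOf A := by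
    ext a
    rw [MonoidHom.mem_ker, hδ, Subgroup.mem_subgroupOf, Subgroup.mem_inf,
      Subgroup.mem_centralizer_singleton_iff]
    constructor
    · intro h
      refine ⟨a.2, ?_⟩
      have := congrArg (· * w * (a : G)) h
      simp only [one_mul] at this
      rw [← this]; group
    · rintro ⟨-, h⟩
      rw [h]; group
  have h1 := Subgroup.card_mul_index δ.ker
  rw [Subgroup.index_ker, hrange, hker, card_subgroupOf_of_le inf_le_left] at h1
  exact h1.symm

theorem not_dvd_card_conj_finset [Finite G] {p : ℕ} [Fact p.Prime] (S : Sylow p G)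
    (V : Subgroup G) [hVn : V.Normal] (z : ↥V) (hz : ∀ s ∈ S, s * (z : G) = z * s)
    (Z : Finset ↥V) (hZ : ∀ w, w ∈ Z ↔ ∃ g : G, (w : G) = g * z * g⁻¹) : ¬ p ∣ Z.card := by
  letI : MulAction G ↥V := MulAction.compHom ↥V (MulAut.conjNormal : G →* MulAut ↥V)
  have hsmul : ∀ (g : G) (v : ↥V), ((g • v : ↥V) : G) = g * v * g⁻¹ := fun g v => rfl
  have h1 : (S : Subgroup G) ≤ MulAction.stabilizer G z := by
    intro s hs
    rw [MulAction.mem_stabilizer_iff]
    apply Subtype.ext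
    rw [hsmul, hz s hs]; group
  have h2 : (Z : Set ↥V) = MulAction.orbit G z := by
    ext w
    rw [Finset.mem_coe, hZ, MulAction.mem_orbit_iff]
    constructor
    · rintro ⟨g, hg⟩; exact ⟨g, Subtype.ext (by rw [hsmul, hg])⟩
    · rintro ⟨g, hg⟩; exact ⟨g, by rw [← hg, hsmul]⟩
  have h3 : Z.card = (MulAction.stabilizer G z).index := by
    rw [MulAction.index_stabilizer, ← h2, Set.ncard_coe_finset]
  rw [h3]
  intro hdvd
  exact S.not_dvd_index (hdvd.trans (Subgroup.index_dvd_of_le h1))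

open scoped IsMulCommutative in
/-- the orbit product argument: the product of all conjugates of `z` is central, and is a power
of `x` with exponent prime to `p`. -/
theorem central_of_orbits [Finite G] {p : ℕ} [hp : Fact p.Prime] (S : Sylow p G) (V : Subgroup G)
    [hVn : V.Normal] (hVc : ∀ x ∈ V, ∀ y ∈ V, x * y = y * x) (hVp : IsPGroup p ↥V)
    (A : Subgroup G) (hq : QuadOn V A)
    (z x : G) (hzV : z ∈ V) (hzS : ∀ s ∈ S, s * z = z * s) (hxS : x ∈ (S : Subgroup G))
    (e : ℕ) (hze : z ^ e = x)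
    (hxp : ∀ g : G, g * x ^ p * g⁻¹ = x ^ p)
    (hfix : ∀ g : G, (∀ a ∈ A, a * (g * z * g⁻¹) = g * z * g⁻¹ * a) → (g * z * g⁻¹) ^ e = x)
    (htau : ∀ (g : G) (I : Subgroup G), I ≤ V →
      (∀ y, y ∈ I ↔ ∃ a ∈ A, y = a * (g * z * g⁻¹) * a⁻¹ * (g * z * g⁻¹)⁻¹) → I ≠ ⊥ →
      Odd (Nat.card ↥I) ∨ e = 2 ∨ (e = 1 ∧ IsPGroup 2 ↥I ∧ ¬ IsCyclic ↥I)) :
    ∀ g : G, g * x * g⁻¹ = x := by
  classical
  haveI : IsMulCommutative ↥V := ⟨⟨fun a b => Subtype.ext (hVc a a.2 b b.2)⟩⟩
  haveI : Fintype ↥V := Fintype.ofFinite _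
  let φ : ↥A →* MulAut ↥V := (MulAut.conjNormal (H := V)).comp A.subtype
  have hφ : ∀ (a : ↥A) (v : ↥V), ((φ a v : ↥V) : G) = a * v * (a : G)⁻¹ := fun a v => rfl
  have hdiv : ∀ u v : ↥V, ((u / v : ↥V) : G) = (u : G) * (v : G)⁻¹ := fun u v => by
    rw [Subgroup.coe_div, div_eq_mul_inv]
  have hquad : IsQuad φ := by
    intro a b v
    apply Subtype.ext
    rw [hφ, hdiv, hφ]
    exact hq a a.2 b b.2 v v.2
  let z' : ↥V := ⟨z, hzV⟩
  have hxV : x ∈ V := by rw [← hze]; exact V.pow_mem hzV e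
  let x' : ↥V := ⟨x, hxV⟩
  let Z : Finset ↥V := Finset.univ.filter (fun w : ↥V => ∃ g : G, (w : G) = g * z * g⁻¹)
  have hZmem : ∀ w : ↥V, w ∈ Z ↔ ∃ g : G, (w : G) = g * z * g⁻¹ := fun w => by simp [Z]
  have hZinv : ∀ a, ∀ w ∈ Z, φ a w ∈ Z := by
    intro a w hw
    rw [hZmem] at hw ⊢
    obtain ⟨g, hg⟩ := hw
    exact ⟨a * g, by rw [hφ, hg]; group⟩
  have hcop : ¬ p ∣ Z.card := not_dvd_card_conj_finset S V z' hzS Z hZmem
  have key : ∏ w ∈ Z, (w ^ e / x') = 1 := by
    apply prod_eq_one_of_orbit_prods hquad Z hZinv (fun u => u ^ e / x')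
    intro w hw s hs
    show ∏ i ∈ s, ((w * i) ^ e / x') = 1
    rw [orbit_prod_formula]
    obtain ⟨g, hg⟩ := (hZmem w).1 hw
    have hdel : ∀ a : ↥A, ((delta hquad w a : ↥V) : G) =
        a * (g * z * g⁻¹) * (a : G)⁻¹ * (g * z * g⁻¹)⁻¹ := by
      intro a; rw [delta_apply, hdiv, hφ, hg]
    by_cases hbot : (delta hquad w).range = ⊥
    · have hs1 : s = {1} := by
        ext y; rw [hs, hbot, Subgroup.mem_bot, Finset.mem_singleton]
      have hfixw : ∀ a ∈ A, a * (g * z * g⁻¹) = g * z * g⁻¹ * a := by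
        intro a ha
        have h1 : delta hquad w ⟨a, ha⟩ = 1 := by
          have : delta hquad w ⟨a, ha⟩ ∈ (delta hquad w).range := ⟨_, rfl⟩
          rw [hbot] at this; exact Subgroup.mem_bot.1 this
        have h2 := congrArg Subtype.val h1
        rw [hdel] at h2
        have h3 : a * (g * z * g⁻¹) * a⁻¹ = g * z * g⁻¹ := mul_inv_eq_one.1 h2
        calc a * (g * z * g⁻¹) = a * (g * z * g⁻¹) * a⁻¹ * a := by group
          _ = g * z * g⁻¹ * a := by rw [h3]
      have h4 := hfix g hfixw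
      have h5 : w ^ e = x' := Subtype.ext (by rw [Subgroup.coe_pow, hg]; exact h4)
      rw [hs1, h5]; simp
    · obtain ⟨I', hI'⟩ : ∃ I' : Subgroup ↥V, I' = (delta hquad w).range := ⟨_, rfl⟩
      rw [← hI'] at hbot hs
      have hcards : Nat.card ↥I' = s.card := by
        rw [Nat.card_congr (Equiv.subtypeEquivRight (fun y => (hs y).symm)),
          Nat.card_eq_fintype_card, Fintype.card_coe]
      have hI'p : IsPGroup p ↥I' := hVp.to_subgroup I'
      have hpdvd : p ∣ s.card := by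
        obtain ⟨n, hn⟩ := hI'p.exists_card_eq
        rw [← hcards, hn]
        rcases n with _ | n
        · exfalso
          rw [pow_zero, Subgroup.card_eq_one] at hn
          exact hbot hn
        · exact dvd_pow_self p (Nat.succ_ne_zero n)
      -- first factor
      have hwe : ((w ^ e : ↥V) : G) = g * x * g⁻¹ := by
        rw [Subgroup.coe_pow, hg, conj_pow, hze]
      have hfirst : (w ^ e / x') ^ p = 1 := by
        rw [div_pow, div_eq_one]
        apply Subtype.ext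
        show ((w ^ e : ↥V) : G) ^ p = x ^ p
        rw [hwe, conj_pow, hxp]
      have hfirst' : (w ^ e / x') ^ s.card = 1 := by
        obtain ⟨k, hk⟩ := hpdvd
        rw [hk, pow_mul, hfirst, one_pow]
      rw [hfirst', one_mul]
      -- second factor
      obtain ⟨I, hI⟩ : ∃ I : Subgroup G, I = I'.map V.subtype := ⟨_, rfl⟩
      have hIV : I ≤ V := by rw [hI]; exact Subgroup.map_subtype_le _
      have hImem : ∀ y, y ∈ I ↔ ∃ a ∈ A, y = a * (g * z * g⁻¹) * a⁻¹ * (g * z * g⁻¹)⁻¹ := by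
        intro y
        rw [hI, Subgroup.mem_map]
        constructor
        · rintro ⟨u, hu, rfl⟩
          rw [hI'] at hu
          obtain ⟨a, rfl⟩ := hu
          exact ⟨a, a.2, hdel a⟩
        · rintro ⟨a, ha, rfl⟩
          refine ⟨delta hquad w ⟨a, ha⟩, ?_, hdel ⟨a, ha⟩⟩
          rw [hI']; exact ⟨_, rfl⟩
      have hIne : I ≠ ⊥ := by
        rw [hI]
        intro h
        exact hbot ((Subgroup.map_eq_bot_iff_of_injective _ V.subtype_injective).1 h)
      let eqv : ↥I' ≃* ↥(I'.map V.subtype) :=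
        Subgroup.equivMapOfInjective I' V.subtype V.subtype_injective
      have hcardI : Nat.card ↥I = Nat.card ↥I' := by
        rw [hI]; exact (Nat.card_congr eqv.toEquiv).symm
      rcases htau g I hIV hImem hIne with hodd | he2 | ⟨he1, hI2, hIc⟩
      · rw [hcardI, hcards] at hodd
        rw [prod_finset_subgroup_of_odd I' s hs hodd, one_pow]
      · rw [he2]
        exact prod_finset_subgroup_sq I' s hs
      · have hI'2 : IsPGroup 2 ↥I' := by
          rw [hI] at hI2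
          exact hI2.of_equiv eqv.symm
        have hI'c : ¬ IsCyclic ↥I' := by
          intro hc
          apply hIc
          rw [hI]
          exact isCyclic_of_surjective eqv eqv.surjective
        rw [prod_finset_subgroup_of_not_isCyclic I' s hs hI'2 hI'c, one_pow]
  -- the product of all conjugates
  have h1 : (∏ w ∈ Z, w) ^ e = x' ^ Z.card := by
    have := key
    rw [Finset.prod_div_distrib, Finset.prod_pow, Finset.prod_const, div_eq_one] at this
    exact this
  intro g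
  have hcn : ∀ (k : G) (u : ↥V), ((MulAut.conjNormal k u : ↥V) : G) = k * u * k⁻¹ :=
    fun k u => rfl
  have hinvP : MulAut.conjNormal g (∏ w ∈ Z, w) = ∏ w ∈ Z, w := by
    rw [map_prod]
    apply Finset.prod_bij (fun (w : ↥V) _ => MulAut.conjNormal g w)
    · intro w hw
      rw [hZmem] at hw ⊢
      obtain ⟨k, hk⟩ := hw
      exact ⟨g * k, by rw [hcn, hk]; group⟩
    · intro a _ b _ hab
      exact (MulAut.conjNormal g).injective hab
    · intro b hb
      refine ⟨(MulAut.conjNormal g).symm b, ?_, by simp⟩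
      rw [hZmem] at hb ⊢
      obtain ⟨k, hk⟩ := hb
      refine ⟨g⁻¹ * k, ?_⟩
      have h2 : (MulAut.conjNormal g).symm b = MulAut.conjNormal g⁻¹ b := by
        rw [map_inv]; rfl
      rw [h2, hcn, hk]; group
    · intro a _; rfl
  have h2 : MulAut.conjNormal g (x' ^ Z.card) = x' ^ Z.card := by
    rw [← h1, map_pow, hinvP]
  have h3 : g * x ^ Z.card * g⁻¹ = x ^ Z.card := by
    have := congrArg Subtype.val h2
    rw [hcn, Subgroup.coe_pow] at this
    exact this
  have hcoprime : Nat.Coprime Z.card (orderOf x) := by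
    obtain ⟨k, hk⟩ := S.2 ⟨x, hxS⟩
    have hk' : x ^ p ^ k = 1 := by simpa using congrArg Subtype.val hk
    obtain ⟨j, -, hj⟩ := (Nat.dvd_prime_pow hp.out).1 (orderOf_dvd_of_pow_eq_one hk')
    rw [hj]
    exact Nat.Coprime.pow_right j ((Nat.Prime.coprime_iff_not_dvd hp.out).2 hcop).symm
  obtain ⟨m, hm⟩ := exists_pow_eq_self_of_coprime hcoprime
  calc g * x * g⁻¹ = g * (x ^ Z.card) ^ m * g⁻¹ := by rw [hm]
    _ = (g * x ^ Z.card * g⁻¹) ^ m := (conj_pow).symm
    _ = (x ^ Z.card) ^ m := by rw [h3]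
    _ = x := hm

end Cfsg.Agent.Lib.Helper8.WC
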