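import Cfsg.Agent.Lib.Helper8.WC5c
import Cfsg.Agent.Lib.Helper8.WC6a
import Cfsg.Agent.Lib.Helper8.WC6b

/-! The minimal counterexample to the weak closure theorem does not exist. -/
set_option autoImplicit false
universe u
open Cfsg

namespace Cfsg.Agent.Lib.Helper8.WC

open Cfsg.Agent.Lib.Helper1 Cfsg.Agent.Lib.Helper1.ZJ Cfsg.Agent.Lib.Helper8.ThLoc

variable {G : Type u} [Group G] [Finite G]

/-- in an `S₄`-free group the commutator group `[w, A]` of exponent two is not cyclic -/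
theorem not_isCyclic_of_S4_free (S : Sylow 2 G) (V : Subgroup G) [hVn : V.Normal]
    (hVS : V ≤ S) (hVc : ∀ x ∈ V, ∀ y ∈ V, x * y = y * x)
    (hgen : V = ⨆ S : Sylow 2 G, V ⊓ Subgroup.centralizer ((S : Subgroup G) : Set G))
    {A : Subgroup G} {w : G}
    (hA : A ∈ FPr (PrA (G := G)) (S : Subgroup G)) (hq : QuadOn V A)
    (hAnV : ¬ A ≤ Subgroup.centralizer (V : Set G))
    (hmax : ∀ A' ∈ FPr (PrA (G := G)) (S : Subgroup G), QuadOn V A' →
      ¬ A' ≤ Subgroup.centralizer (V : Set G) → Nat.card ↥(V ⊓ A' : Subgroup G) ≤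
        Nat.card ↥(V ⊓ A : Subgroup G))
    (hwV : w ∈ V) (hw2 : ∀ a ∈ A, (a * w * a⁻¹ * w⁻¹) ^ 2 = 1)
    (I : Subgroup G) (hImem : ∀ y, y ∈ I ↔ ∃ a ∈ A, y = a * w * a⁻¹ * w⁻¹) (hIne : I ≠ ⊥)
    (hS4 : ¬ Involves (Equiv.Perm (Fin 4)) G) : ¬ IsCyclic ↥I := by
  intro hcyc
  apply hS4
  have hNV : Subgroup.normalizer (V : Set G) = ⊤ := Subgroup.normalizer_eq_top_iff.2 hVn
  have hAN : A ≤ Subgroup.normalizer (V : Set G) := by rw [hNV]; exact le_top
  -- `|I| = 2`
  obtain ⟨c, hc⟩ := hcyc.exists_generator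
  have hc2 : c ^ 2 = 1 := by
    obtain ⟨a, ha, hca⟩ := (hImem c).1 c.2
    apply Subtype.ext
    rw [Subgroup.coe_pow, hca, hw2 a ha]; rfl
  have hcardI : Nat.card ↥I = orderOf c := (orderOf_eq_card_of_forall_mem_zpowers hc).symm
  have hle : Nat.card ↥I ≤ 2 := by
    rw [hcardI]
    exact Nat.le_of_dvd (by norm_num) (orderOf_dvd_of_pow_eq_one hc2)
  have hne1 : Nat.card ↥I ≠ 1 := fun h => hIne (Subgroup.card_eq_one.1 h)
  have hpos : 0 < Nat.card ↥I := Nat.card_pos
  have hI2 : Nat.card ↥I = 2 := by omega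
  have hcard := card_eq_of_quad hVc hAN hq hwV I hImem
  rw [hI2] at hcard
  have hwA : ¬ ∀ a ∈ A, a * w = w * a := by
    intro h
    apply hIne
    rw [eq_bot_iff]
    intro y hy
    obtain ⟨a, ha, rfl⟩ := (hImem y).1 hy
    rw [Subgroup.mem_bot, h a ha]; group
  refine involves_S4_of_offender S V hVS hVc hgen hA hq hAnV hwV
    (inf_le_left : A ⊓ Subgroup.centralizer ({w} : Set G) ≤ A) ?_ ?_ hwA hmax
  · intro a ha
    exact Subgroup.mem_centralizer_singleton_iff.1 ha.2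
  · rw [hcard]; omega

/-- the conjugates of a central element of a Sylow subgroup generate a group generated by Sylow
fixed points -/
theorem normalClosure_eq_iSup_fixed {p : ℕ} [hp : Fact p.Prime] (S : Sylow p G) (z : G)
    (hzC : ∀ s ∈ S, s * z = z * s) :
    Subgroup.normalClosure ({z} : Set G) = ⨆ S' : Sylow p G,
      Subgroup.normalClosure ({z} : Set G) ⊓
        Subgroup.centralizer ((S' : Subgroup G) : Set G) := by
  apply le_antisymm
  · unfold Subgroup.normalClosure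
    rw [Subgroup.closure_le]
    intro y hy
    rw [Group.mem_conjugatesOfSet_iff] at hy
    obtain ⟨a, ha, hconj⟩ := hy
    rw [Set.mem_singleton_iff] at ha
    rw [ha, isConj_iff] at hconj
    obtain ⟨c, hc⟩ := hconj
    apply (le_iSup (fun S' : Sylow p G => Subgroup.closure (Group.conjugatesOfSet ({z} : Set G)) ⊓
        Subgroup.centralizer ((S' : Subgroup G) : Set G)) (c • S))
    refine ⟨?_, ?_⟩
    · apply Subgroup.subset_closure
      rw [Group.mem_conjugatesOfSet_iff]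
      exact ⟨z, Set.mem_singleton z, isConj_iff.2 ⟨c, hc⟩⟩
    · show y ∈ Subgroup.centralizer (((c • S : Sylow p G) : Subgroup G) : Set G)
      rw [Subgroup.mem_centralizer_iff]
      intro t ht
      have ht' : t ∈ ((c • S : Sylow p G) : Subgroup G) := ht
      rw [mem_smul_sylow_iff] at ht'
      have h1 := hzC _ ht'
      rw [← hc]
      calc t * (c * z * c⁻¹) = c * (c⁻¹ * t * c * z) * c⁻¹ := by group
        _ = c * (z * (c⁻¹ * t * c)) * c⁻¹ := by rw [h1]
        _ = c * z * c⁻¹ * t := by group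
  · exact iSup_le (fun _ => inf_le_left)

/-- the minimal counterexample analysis -/
theorem core {p : ℕ} [hp : Fact p.Prime] (X : FusData p G) (S : Sylow p G) (e : ℕ) (z : G)
    (hzS : z ∈ (S : Subgroup G)) (hzC : ∀ s ∈ S, s * z = z * s) (hze : z ^ e = X.xP S)
    (hxp : ∀ g : G, g * (X.xP S) ^ p * g⁻¹ ∈ (S : Subgroup G) →
      g * (X.xP S) ^ p * g⁻¹ = (X.xP S) ^ p)
    (hcase : p ≠ 2 ∨ e = 2 ∨ (e = 1 ∧ ¬ Involves (Equiv.Perm (Fin 4)) G))
    (P₀ Q₀ : Sylow p G) (hv : X.Viol (fun _ => True) P₀ Q₀) : False := by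
  have hFam : Fam p (fun _ : Subgroup G => True) := ⟨fun _ _ => trivial, fun _ _ _ => trivial⟩
  obtain ⟨D₀, hD₀n, hD₀p, -, P, n, hxD, hnx⟩ := X.fusion_reduction hFam P₀ Q₀ hv
  obtain ⟨k, hk⟩ := MulAction.exists_smul_eq G S P
  have hcent := X.cent S
  have hmemc := X.mem_center S
  have hprop0 := fun (hx : X.xP S ∈ D₀) (L : Subgroup G) (hL : L ≠ ⊤)
    (hSL : (S : Subgroup G) ≤ L) => centralizes_of_proper X S hD₀n hD₀p hx hL hSL
  have hfix0 := fun (V : Subgroup G) (hVn : V.Normal) => @claim_fixed G _ _ p hp X S V hVn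
  have hxPk : X.xP P = k * X.xP S * k⁻¹ := by rw [← hk, X.conj]
  obtain ⟨x, hx⟩ : ∃ x, x = X.xP S := ⟨_, rfl⟩
  rw [← hx] at hze hxp hcent hmemc hprop0 hfix0 hxPk
  have hxD₀ : x ∈ D₀ := by
    have h1 := hD₀n.conj_mem _ hxD k⁻¹
    rw [hxPk] at h1
    have e1 : k⁻¹ * (k * x * k⁻¹) * k⁻¹⁻¹ = x := by group
    rwa [e1] at h1
  have hnc : ∃ n' : G, n' * x ≠ x * n' := by
    refine ⟨k⁻¹ * n * k, ?_⟩
    intro h
    apply hnx
    rw [hxPk]
    calc n * (k * x * k⁻¹) = k * (k⁻¹ * n * k * x) * k⁻¹ := by group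
      _ = k * (x * (k⁻¹ * n * k)) * k⁻¹ := by rw [h]
      _ = k * x * k⁻¹ * n := by group
  have hprop := hprop0 hxD₀
  have hD₀S : D₀ ≤ S := normal_le_sylow S hD₀n hD₀p
  have hxpZ : ∀ g : G, g * x ^ p * g⁻¹ = x ^ p := fun g =>
    hxp g (hD₀S (hD₀n.conj_mem _ (D₀.pow_mem hxD₀ p) g))
  have hxS : x ∈ (S : Subgroup G) := hmemc.1
  -- the `p`-core
  obtain ⟨R, hR⟩ : ∃ R : Subgroup G, R = pCore p G := ⟨_, rfl⟩
  haveI hRn : R.Normal := by rw [hR]; exact Cfsg.Agent.Lib.Helper7.pCore_normal p G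
  have hRS : R ≤ S := by rw [hR]; exact Cfsg.Agent.Lib.Helper7.pCore_le_sylow S
  have hRmax : ∀ D : Subgroup G, D.Normal → IsPGroup p ↥D → D ≤ R := by
    intro D hDn hDp; rw [hR]; exact Cfsg.Agent.Lib.Helper7.le_pCore hDn hDp
  have hxR : x ∈ R := hRmax D₀ hD₀n hD₀p hxD₀
  have hCRx : ∀ c ∈ Subgroup.centralizer (R : Set G), c * x = x * c := fun c hc =>
    (Subgroup.mem_centralizer_iff.1 hc x hxR).symm
  have hSCRn := inf_normal_of_centralizes S x hprop hnc (Subgroup.centralizer (R : Set G)) hCRx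
  have hSCR : (S : Subgroup G) ⊓ Subgroup.centralizer (R : Set G) ≤ R :=
    hRmax _ hSCRn (S.2.to_le inf_le_left)
  have hzCR : z ∈ Subgroup.centralizer (R : Set G) := by
    rw [Subgroup.mem_centralizer_iff]
    intro r hr
    exact hzC r (hRS hr)
  have hzR : z ∈ R := hSCR ⟨hzS, hzCR⟩
  -- the normal closure of `z`
  obtain ⟨V, hV⟩ : ∃ V : Subgroup G, V = Subgroup.normalClosure ({z} : Set G) := ⟨_, rfl⟩
  haveI hVn : V.Normal := by rw [hV]; exact Subgroup.normalClosure_normal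
  have hVZR : V ≤ R ⊓ Subgroup.centralizer (R : Set G) := by
    rw [hV]
    apply Subgroup.normalClosure_le_normal
    rw [Set.singleton_subset_iff]
    exact ⟨hzR, hzCR⟩
  have hVc : ∀ u ∈ V, ∀ v ∈ V, u * v = v * u := fun u hu v hv =>
    Subgroup.mem_centralizer_iff.1 (hVZR hv).2 u (hVZR hu).1
  have hVS : V ≤ S := (hVZR.trans inf_le_left).trans hRS
  have hVp : IsPGroup p ↥V := S.2.to_le hVS
  have hzV : z ∈ V := by rw [hV]; exact Subgroup.subset_normalClosure (Set.mem_singleton z)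
  have hxV : x ∈ V := by rw [← hze]; exact V.pow_mem hzV e
  have hRV : R ≤ Subgroup.centralizer (V : Set G) := by
    rw [Subgroup.le_centralizer_iff]; exact hVZR.trans inf_le_right
  have hRall : ∀ D : Subgroup G, D.Normal → IsPGroup p ↥D →
      D ≤ Subgroup.centralizer (V : Set G) := fun D hDn hDp => (hRmax D hDn hDp).trans hRV
  have hCVx : ∀ c ∈ Subgroup.centralizer (V : Set G), c * x = x * c := fun c hc =>
    (Subgroup.mem_centralizer_iff.1 hc x hxV).symm
  have hNV : Subgroup.normalizer (V : Set G) = ⊤ := Subgroup.normalizer_eq_top_iff.2 hVn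
  have hSNV : (S : Subgroup G) ≤ Subgroup.normalizer (V : Set G) := by rw [hNV]; exact le_top
  -- the Thompson subgroup does not centralize `V`
  have hJ : ¬ thompsonSubgroupAOf (S : Subgroup G) ≤ Subgroup.centralizer (V : Set G) := by
    intro hJle
    haveI hn := inf_normal_of_centralizes S x hprop hnc (Subgroup.centralizer (V : Set G)) hCVx
    have h1 : thompsonSubgroupAOf ((S : Subgroup G) ⊓ Subgroup.centralizer (V : Set G)) =
        thompsonSubgroupAOf (S : Subgroup G) :=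
      thompsonSubgroupAOf_eq_of_le inf_le_left (le_inf (thompsonSubgroupAOf_le _) hJle)
    have h2 : (thompsonSubgroupAOf ((S : Subgroup G) ⊓
        Subgroup.centralizer (V : Set G))).Normal :=
      thompsonSubgroupAOf_normal (p := p) _ (S.2.to_le inf_le_left)
    rw [h1] at h2
    obtain ⟨n', hn'⟩ := hnc
    apply hn'
    apply hcent n'
    rw [Subgroup.normalizer_eq_top_iff.2 h2]
    exact Subgroup.mem_top n'
  obtain ⟨A₁, hA₁, hA₁V⟩ := exists_mem_not_le hJ
  obtain ⟨A₂, hA₂, hA₂V, hA₂q, -⟩ := exists_quadratic_mem_FPr S.2 hVS hVc hSNV hA₁ hA₁V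
  obtain ⟨A, ⟨hA, hAV, hq⟩, hmax0⟩ := Set.exists_max_image
    {A' : Subgroup G | A' ∈ FPr (PrA (G := G)) (S : Subgroup G) ∧
      ¬ A' ≤ Subgroup.centralizer (V : Set G) ∧ QuadOn V A'}
    (fun A' => Nat.card ↥(V ⊓ A' : Subgroup G)) (Set.toFinite _) ⟨A₂, hA₂, hA₂V, hA₂q⟩
  have hmax : ∀ A' ∈ FPr (PrA (G := G)) (S : Subgroup G), QuadOn V A' →
      ¬ A' ≤ Subgroup.centralizer (V : Set G) → Nat.card ↥(V ⊓ A' : Subgroup G) ≤
        Nat.card ↥(V ⊓ A : Subgroup G) := fun A' h1 h2 h3 => hmax0 A' ⟨h1, h3, h2⟩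
  have hfix := hfix0 V hVn hVS hRall A hA hAV z hzV hzC e hze
  -- the orbit argument
  have hcentral := central_of_orbits S V hVc hVp A hq z x hzV hzC hxS e hze hxpZ hfix ?_
  · obtain ⟨n', hn'⟩ := hnc
    apply hn'
    have h1 := hcentral n'
    calc n' * x = n' * x * n'⁻¹ * n' := by group
      _ = x * n' := by rw [h1]
  · intro g I hIV hImem hIne
    by_cases hp2 : p = 2
    · rcases hcase with h | h | ⟨he1, hS4⟩
      · exact absurd hp2 h
      · exact Or.inr (Or.inl h)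
      · refine Or.inr (Or.inr ⟨he1, ?_, ?_⟩)
        · rw [← hp2]; exact hVp.to_le hIV
        · subst hp2
          have hzx : z = x := by rw [← hze, he1, pow_one]
          have hgen : V = ⨆ S' : Sylow 2 G,
              V ⊓ Subgroup.centralizer ((S' : Subgroup G) : Set G) := by
            rw [hV]; exact normalClosure_eq_iSup_fixed S z hzC
          have hwV : g * z * g⁻¹ ∈ V := hVn.conj_mem z hzV g
          have hwsq : (g * z * g⁻¹) ^ 2 = x ^ 2 := by rw [conj_pow, hzx, hxpZ g]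
          have hw2 : ∀ a ∈ A, (a * (g * z * g⁻¹) * a⁻¹ * (g * z * g⁻¹)⁻¹) ^ 2 = 1 := by
            intro a ha
            have hc : Commute (a * (g * z * g⁻¹) * a⁻¹) (g * z * g⁻¹)⁻¹ :=
              hVc _ (hVn.conj_mem _ hwV a) _ (V.inv_mem hwV)
            rw [hc.mul_pow, conj_pow, inv_pow, hwsq, hxpZ a, mul_inv_cancel]
          exact not_isCyclic_of_S4_free S V hVS hVc hgen hA hq hAV hmax hwV hw2 I hImem hIne hS4
    · left
      obtain ⟨j, hj⟩ := (hVp.to_le hIV).exists_card_eq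
      rw [hj]
      exact Odd.pow ((hp.out.eq_two_or_odd').resolve_left hp2)

end Cfsg.Agent.Lib.Helper8.WC
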