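import Mathlib

set_option autoImplicit false
set_option linter.style.haveILetI false

/-!
Coprime fixed points in cosets: a finite abelian `p'`-group `K` normalizing a finite `p`-group `Y`
and stabilizing (under conjugation) the coset `vY` centralizes some element of `vY`.
-/

namespace Cfsg.Agent.Lib.Helper8.WCFix

variable {G : Type*} [Group G]

/-- if all elements of prime power order of a finite-order-closed set lie in a subgroup `C`, then so
does every element of finite order whose powers are in the set -/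
theorem mem_of_primePow_mem (C K : Subgroup G) [Finite K]
    (h : ∀ g ∈ K, IsPrimePow (orderOf g) → g ∈ C) : K ≤ C := by
  suffices hs : ∀ n : ℕ, ∀ g : G, g ∈ K → orderOf g = n → g ∈ C from
    fun g hg => hs _ g hg rfl
  intro n
  induction' n using Nat.strong_induction_on with n ih
  intro g hg hn
  have hfin : IsOfFinOrder g := by
    have : IsOfFinOrder (⟨g, hg⟩ : K) := isOfFinOrder_of_finite _
    have h2 := (Submonoid.isOfFinOrder_coe (H := K.toSubmonoid) (x := ⟨g, hg⟩)).2 this
    exact h2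
  have hpos : 0 < orderOf g := hfin.orderOf_pos
  by_cases h1 : orderOf g = 1
  · rw [orderOf_eq_one_iff] at h1
    rw [h1]; exact C.one_mem
  by_cases hpp : IsPrimePow (orderOf g)
  · exact h g hg hpp
  -- split the order into coprime parts
  obtain ⟨q, hq, hqd⟩ := Nat.exists_prime_and_dvd h1
  set a := q ^ (orderOf g).factorization q with ha
  set b := orderOf g / a with hb
  have hadvd : a ∣ orderOf g := Nat.ordProj_dvd _ _
  have hab : a * b = orderOf g := Nat.mul_div_cancel' hadvd
  have hcop : Nat.Coprime a b := by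
    rw [ha, hb]
    exact (Nat.coprime_ordCompl hq hpos.ne').pow_left _
  have hfpos : 0 < (orderOf g).factorization q :=
    hq.factorization_pos_of_dvd hpos.ne' hqd
  have ha1 : 1 < a := Nat.one_lt_pow hfpos.ne' hq.one_lt
  have hb1 : 1 < b := by
    by_contra hcon
    have hb0 : b ≠ 0 := by
      intro h0; rw [h0, mul_zero] at hab; exact hpos.ne' hab.symm
    have : b = 1 :=
      Nat.le_antisymm (Nat.le_of_not_lt hcon) (Nat.one_le_iff_ne_zero.2 hb0)
    rw [this, mul_one] at hab
    apply hpp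
    rw [← hab, ha]
    exact ⟨q, _, hq.prime, hfpos, rfl⟩
  have hoa : orderOf (g ^ a) = b := by
    rw [orderOf_pow' g (by omega : a ≠ 0), Nat.gcd_eq_right hadvd]
  have hob : orderOf (g ^ b) = a := by
    have hbd : b ∣ orderOf g := ⟨a, by rw [mul_comm]; exact hab.symm⟩
    rw [orderOf_pow' g (by omega : b ≠ 0), Nat.gcd_eq_right hbd]
    rw [← hab]; exact Nat.mul_div_cancel _ (by omega)
  have h1' : g ^ a ∈ C := ih b (by rw [← hn, ← hab]; nlinarith) (g ^ a) (K.pow_mem hg _) hoa
  have h2' : g ^ b ∈ C := ih a (by rw [← hn, ← hab]; nlinarith) (g ^ b) (K.pow_mem hg _) hob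
  -- Bezout
  have hbez := Nat.gcd_eq_gcd_ab a b
  rw [hcop.gcd_eq_one] at hbez
  have : g = (g ^ a) ^ (Nat.gcdA a b) * (g ^ b) ^ (Nat.gcdB a b) := by
    rw [← zpow_natCast g a, ← zpow_natCast g b, ← zpow_mul, ← zpow_mul, ← zpow_add, ← hbez]
    simp
  rw [this]
  exact C.mul_mem (C.zpow_mem h1' _) (C.zpow_mem h2' _)

/-- one step: a cyclic `q`-group `⟨h⟩` (`q ≠ p`) normalizing the finite `p`-group `Y'` and
stabilizing the coset `v'Y'` centralizes some element of it -/
theorem exists_fixed_step (p : ℕ) [hp : Fact p.Prime] (Y' : Subgroup G) [Finite Y']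
    (hY : IsPGroup p Y') (h : G) (hpp : IsPrimePow (orderOf h)) (hcop : (orderOf h).Coprime p)
    (hn : ∀ g ∈ Subgroup.zpowers h, ∀ y ∈ Y', g * y * g⁻¹ ∈ Y')
    (v' : G) (hv : ∀ g ∈ Subgroup.zpowers h, v'⁻¹ * (g * v' * g⁻¹) ∈ Y') :
    ∃ y ∈ Y', h * (v' * y) * h⁻¹ = v' * y := by
  obtain ⟨q, k, hq, hk, hqk⟩ := hpp
  have hq' : q.Prime := hq.nat_prime
  haveI : Fact q.Prime := ⟨hq'⟩
  have hqp : q ≠ p := by
    rintro rfl
    rw [← hqk] at hcop
    have := Nat.Coprime.coprime_dvd_left (dvd_pow_self q hk.ne') hcop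
    exact hq'.one_lt.ne' (Nat.coprime_self q |>.1 this)
  have hQ : IsPGroup q (Subgroup.zpowers h) := by
    apply IsPGroup.of_card (n := k)
    rw [Nat.card_zpowers, hqk]
  letI : MulAction (Subgroup.zpowers h) Y' :=
    { smul := fun g y => ⟨v'⁻¹ * (g : G) * v' * (y : G) * (g : G)⁻¹, by
        have h1 := hv g g.2
        have h2 := hn g g.2 y y.2
        have : v'⁻¹ * (g : G) * v' * (y : G) * (g : G)⁻¹
            = (v'⁻¹ * ((g : G) * v' * (g : G)⁻¹)) * ((g : G) * (y : G) * (g : G)⁻¹) := by group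
        rw [this]
        exact Y'.mul_mem h1 h2⟩
      one_smul := fun y => by
        apply Subtype.ext
        show v'⁻¹ * ((1 : Subgroup.zpowers h) : G) * v' * (y : G) * ((1 : Subgroup.zpowers h) : G)⁻¹ = y
        simp
      mul_smul := fun g1 g2 y => by
        apply Subtype.ext
        show v'⁻¹ * ((g1 * g2 : Subgroup.zpowers h) : G) * v' * (y : G)
              * ((g1 * g2 : Subgroup.zpowers h) : G)⁻¹
            = v'⁻¹ * (g1 : G) * v' * (v'⁻¹ * (g2 : G) * v' * (y : G) * (g2 : G)⁻¹) * (g1 : G)⁻¹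
        simp only [Subgroup.coe_mul]
        group }
  have hcard : ¬ q ∣ Nat.card Y' := by
    obtain ⟨m, hm⟩ := hY.exists_card_eq
    rw [hm]
    intro hd
    have := (Nat.prime_dvd_prime_iff_eq hq' hp.out).1 (hq'.dvd_of_dvd_pow hd)
    exact hqp this
  obtain ⟨y, hy⟩ := hQ.nonempty_fixed_point_of_prime_not_dvd_card Y' hcard
  refine ⟨y, y.2, ?_⟩
  have := hy ⟨h, Subgroup.mem_zpowers h⟩
  have h2 : v'⁻¹ * h * v' * (y : G) * h⁻¹ = (y : G) := congrArg Subtype.val this
  calc h * (v' * y) * h⁻¹ = v' * (v'⁻¹ * h * v' * (y : G) * h⁻¹) := by group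
    _ = v' * y := by rw [h2]

/-- a finite commuting family of elements of prime power order prime to `p`, normalizing the
finite `p`-group `Y` and stabilizing the coset `vY`: some element of `vY` is centralized by all of
them -/
theorem exists_fixed_finset (p : ℕ) [hp : Fact p.Prime] (Y K : Subgroup G) [Finite Y]
    (hY : IsPGroup p Y) (hKc : ∀ a ∈ K, ∀ b ∈ K, a * b = b * a)
    (hcop : ∀ g ∈ K, (orderOf g).Coprime p)
    (hKY : ∀ g ∈ K, ∀ y ∈ Y, g * y * g⁻¹ ∈ Y)
    (v : G) (hv : ∀ g ∈ K, v⁻¹ * (g * v * g⁻¹) ∈ Y) (T : Finset G)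
    (hT : ∀ g ∈ T, g ∈ K ∧ IsPrimePow (orderOf g)) :
    ∃ y ∈ Y, ∀ g ∈ T, g * (v * y) * g⁻¹ = v * y := by
  classical
  induction T using Finset.induction_on with
  | empty => exact ⟨1, Y.one_mem, fun g hg => absurd hg (Finset.notMem_empty g)⟩
  | insert h T' hh ih =>
    obtain ⟨y', hy', hfix⟩ := ih fun g hg => hT g (Finset.mem_insert_of_mem hg)
    obtain ⟨hhK, hhpp⟩ := hT h (Finset.mem_insert_self h T')
    set Y' : Subgroup G := Y ⊓ Subgroup.centralizer (T' : Set G) with hY'
    haveI : Finite Y' := Finite.of_injective (Subgroup.inclusion (inf_le_left : Y' ≤ Y))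
      (Subgroup.inclusion_injective _)
    have hY'p : IsPGroup p Y' := hY.to_le inf_le_left
    have hzK : Subgroup.zpowers h ≤ K := (Subgroup.zpowers_le).2 hhK
    -- members of `K` commute with members of `T'`
    have hcomm : ∀ g ∈ K, ∀ t ∈ T', g * t = t * g := fun g hg t ht =>
      hKc g hg t (hT t (Finset.mem_insert_of_mem ht)).1
    have hn : ∀ g ∈ Subgroup.zpowers h, ∀ y ∈ Y', g * y * g⁻¹ ∈ Y' := by
      intro g hg y hy
      have hy := Subgroup.mem_inf.1 hy
      refine Subgroup.mem_inf.2 ⟨hKY g (hzK hg) y hy.1, ?_⟩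
      rw [Subgroup.mem_centralizer_iff]
      intro t ht
      have h1 := hcomm g (hzK hg) t ht
      have h2 : t * y = y * t := (Subgroup.mem_centralizer_iff.1 hy.2) t ht
      have h3 : g⁻¹ * t = t * g⁻¹ := by
        calc g⁻¹ * t = g⁻¹ * (t * g) * g⁻¹ := by group
          _ = g⁻¹ * (g * t) * g⁻¹ := by rw [h1]
          _ = t * g⁻¹ := by group
      calc t * (g * y * g⁻¹) = (t * g) * y * g⁻¹ := by group
        _ = (g * t) * y * g⁻¹ := by rw [h1]
        _ = g * (t * y) * g⁻¹ := by group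
        _ = g * (y * t) * g⁻¹ := by rw [h2]
        _ = g * y * (t * g⁻¹) := by group
        _ = g * y * (g⁻¹ * t) := by rw [h3]
        _ = g * y * g⁻¹ * t := by group
    have hv' : ∀ g ∈ Subgroup.zpowers h, (v * y')⁻¹ * (g * (v * y') * g⁻¹) ∈ Y' := by
      intro g hg
      have hgK := hzK hg
      refine Subgroup.mem_inf.2 ⟨?_, ?_⟩
      · have h1 := hv g hgK
        have h2 := hKY g hgK y' hy'
        have : (v * y')⁻¹ * (g * (v * y') * g⁻¹)
            = y'⁻¹ * (v⁻¹ * (g * v * g⁻¹)) * (g * y' * g⁻¹) := by group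
        rw [this]
        exact Y.mul_mem (Y.mul_mem (Y.inv_mem hy') h1) h2
      · rw [Subgroup.mem_centralizer_iff]
        intro t ht
        have h1 := hcomm g hgK t ht
        have h3 : g⁻¹ * t = t * g⁻¹ := by
          calc g⁻¹ * t = g⁻¹ * (t * g) * g⁻¹ := by group
            _ = g⁻¹ * (g * t) * g⁻¹ := by rw [h1]
            _ = t * g⁻¹ := by group
        have h4 : t * (v * y') = (v * y') * t := by
          have := hfix t ht
          calc t * (v * y') = (t * (v * y') * t⁻¹) * t := by group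
            _ = (v * y') * t := by rw [this]
        have h5 : t * (v * y')⁻¹ = (v * y')⁻¹ * t := by
          calc t * (v * y')⁻¹ = (v * y')⁻¹ * ((v * y') * t) * (v * y')⁻¹ := by group
            _ = (v * y')⁻¹ * (t * (v * y')) * (v * y')⁻¹ := by rw [h4]
            _ = (v * y')⁻¹ * t := by group
        calc t * ((v * y')⁻¹ * (g * (v * y') * g⁻¹))
            = (t * (v * y')⁻¹) * (g * (v * y') * g⁻¹) := by group
          _ = ((v * y')⁻¹ * t) * (g * (v * y') * g⁻¹) := by rw [h5]
          _ = (v * y')⁻¹ * ((t * g) * (v * y') * g⁻¹) := by group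
          _ = (v * y')⁻¹ * ((g * t) * (v * y') * g⁻¹) := by rw [h1]
          _ = (v * y')⁻¹ * (g * (t * (v * y')) * g⁻¹) := by group
          _ = (v * y')⁻¹ * (g * ((v * y') * t) * g⁻¹) := by rw [h4]
          _ = (v * y')⁻¹ * (g * (v * y') * (t * g⁻¹)) := by group
          _ = (v * y')⁻¹ * (g * (v * y') * (g⁻¹ * t)) := by rw [h3]
          _ = (v * y')⁻¹ * (g * (v * y') * g⁻¹) * t := by group
    obtain ⟨y'', hy'', hfix''⟩ := exists_fixed_step p Y' hY'p h hhpp (hcop h hhK) hn (v * y') hv'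
    have hy'' := Subgroup.mem_inf.1 hy''
    refine ⟨y' * y'', Y.mul_mem hy' hy''.1, ?_⟩
    intro g hg
    rw [Finset.mem_insert] at hg
    rcases hg with rfl | hg
    · have e : v * (y' * y'') = v * y' * y'' := by group
      rw [e]; exact hfix''
    · have h2 : g * y'' = y'' * g := (Subgroup.mem_centralizer_iff.1 hy''.2) g hg
      have h1 := hfix g hg
      calc g * (v * (y' * y'')) * g⁻¹ = (g * (v * y') * g⁻¹) * (g * y'' * g⁻¹) := by group
        _ = (v * y') * (g * y'' * g⁻¹) := by rw [h1]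
        _ = (v * y') * (y'' * g * g⁻¹) := by rw [h2]
        _ = v * (y' * y'') := by group

/-- **coprime fixed points in cosets**: a finite abelian `p'`-subgroup `K` normalizing the finite
`p`-subgroup `Y` and stabilizing the coset `vY` under conjugation centralizes some `vy`, `y ∈ Y`. -/
theorem exists_fixed_in_coset (p : ℕ) [hp : Fact p.Prime] (Y K : Subgroup G) [Finite Y] [Finite K]
    (hY : IsPGroup p Y) (hKc : ∀ a ∈ K, ∀ b ∈ K, a * b = b * a)
    (hcop : ∀ g ∈ K, (orderOf g).Coprime p)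
    (hKY : ∀ g ∈ K, ∀ y ∈ Y, g * y * g⁻¹ ∈ Y)
    (v : G) (hv : ∀ g ∈ K, v⁻¹ * (g * v * g⁻¹) ∈ Y) :
    ∃ y ∈ Y, ∀ g ∈ K, g * (v * y) * g⁻¹ = v * y := by
  classical
  have hfin : (K : Set G).Finite := Set.toFinite _
  set T : Finset G := hfin.toFinset.filter fun g => IsPrimePow (orderOf g) with hT
  have hTm : ∀ g ∈ T, g ∈ K ∧ IsPrimePow (orderOf g) := by
    intro g hg
    rw [hT, Finset.mem_filter, Set.Finite.mem_toFinset] at hg
    exact hg
  obtain ⟨y, hy, hfix⟩ := exists_fixed_finset p Y K hY hKc hcop hKY v hv T hTm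
  refine ⟨y, hy, ?_⟩
  have hle : K ≤ Subgroup.centralizer ({v * y} : Set G) := by
    apply mem_of_primePow_mem
    intro g hg hpp
    rw [Subgroup.mem_centralizer_iff]
    intro x hx
    rw [Set.mem_singleton_iff] at hx
    subst hx
    have hgT : g ∈ T := by
      rw [hT, Finset.mem_filter, Set.Finite.mem_toFinset]
      exact ⟨hg, hpp⟩
    have := hfix g hgT
    calc v * y * g = (g * (v * y) * g⁻¹) * g := by rw [this]
      _ = g * (v * y) := by group
  intro g hg
  have := (Subgroup.mem_centralizer_iff.1 (hle hg)) (v * y) rfl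
  calc g * (v * y) * g⁻¹ = (v * y * g) * g⁻¹ := by rw [this]
    _ = v * y := by group

end Cfsg.Agent.Lib.Helper8.WCFix
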