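import Mathlib
import Cfsg.Agent.Lib.Helper8.WCDefs
import Cfsg.Agent.Lib.Helper8.WCFix
import Cfsg.Agent.Lib.Helper5.ParaFit.Fit
import Cfsg.Agent.Lib.Helper1.TorusCent

set_option autoImplicit false

/-!
S2244 unit U2: peeling the leading root element of an element of `X`, from separation and the
coprime fixed point on a coset.
-/

namespace Cfsg.Agent.Lib.Helper8.WC

open Cfsg Cfsg.Lie Cfsg.Agent.Lib.Helper5.ChevStruct Cfsg.Agent.Lib.Helper5.ChevSym
  Cfsg.Agent.Lib.Helper5.ParaFit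

variable {F : Type*} [Field F]

/-- the torus element with parameter `c` as an element of `GL` -/
noncomputable def tGL (D : ChevalleyDatum) (c : ℕ → F) (hc : ∀ i, c i ≠ 0) : GL D.Idx F :=
  torHom D F fun i => Units.mk0 (c i.val) (hc i.val)

theorem tGL_val (D : ChevalleyDatum) (c : ℕ → F) (hc : ∀ i, c i ≠ 0) :
    ((tGL D c hc : GL D.Idx F) : Matrix D.Idx D.Idx F) = torusMat D c := by
  unfold tGL
  rw [torHom_val]
  unfold torusMat
  congr 1
  funext j
  rcases j with j | s
  · rfl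
  · simp only [Sum.elim_inr]
    apply chi_congr
    intro i hi
    rw [extU_of_lt D _ i hi]
    rfl

theorem tGL_mem (D : ChevalleyDatum) (hD : D ∈ Seven) (c : ℕ → F) (hc : ∀ i, c i ≠ 0) :
    tGL D c hc ∈ D.diagonalSubgroup F := by
  rw [← torHom_range D hD]
  exact ⟨_, rfl⟩

theorem tGL_conj_x (D : ChevalleyDatum) (hD : D ∈ Seven) (c : ℕ → F) (hc : ∀ i, c i ≠ 0)
    (r : ℕ) (t : F) :
    tGL D c hc * xGL D hD r t * (tGL D c hc)⁻¹ = xGL D hD r (chi D c r * t) := by
  apply Units.ext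
  rw [torus_conj_x D hD _ _ c hc (tGL_val D c hc) r t (xGL_val D hD r t), xGL_val]

theorem wordMat_zero (D : ChevalleyDatum) (l : List ℕ) :
    D.wordMat F (l.map fun r => (r, (0 : F))) = 1 := by
  induction l with
  | nil => simp [ChevalleyDatum.wordMat]
  | cons a l ih => rw [List.map_cons, wordMat_cons, ih, x_at_zero, mul_one]

theorem peel_of_sep [Fintype F] (D : ChevalleyDatum) (hD : D ∈ Seven)
    (X : Subgroup (GL D.Idx F)) (hXU : X ≤ D.posUnipotent F)
    (hH : ∀ h ∈ D.diagonalSubgroup F, ∀ x ∈ X, h * x * h⁻¹ ∈ X)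
    (k : ℕ) (hk : D.IsPosRoot k) (hsep : Sep D F k) : Peel D hD X k := by
  classical
  intro t u' hu' hv
  obtain ⟨p, hp⟩ := CharP.exists F
  have := hp
  have : Fact p.Prime := ⟨CharP.char_is_prime F p⟩
  set K : Subgroup (GL D.Idx F) :=
    D.diagonalSubgroup F ⊓ Subgroup.centralizer (Set.range (xGL D hD k)) with hK
  set Y : Subgroup (GL D.Idx F) := X ⊓ upperSub D F (k + 1) with hY
  have hYp : IsPGroup p Y := (pos_isPGroup p D hD).to_le (inf_le_left.trans hXU)
  have hKc : ∀ a ∈ K, ∀ b ∈ K, a * b = b * a := fun a ha b hb =>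
    Cfsg.Agent.Lib.Helper1.TorusCent.diag_comm D hD a b ha.1 hb.1
  have hcop : ∀ g ∈ K, (orderOf g).Coprime p := by
    intro g hg
    have hgH := hg.1
    rw [← torHom_range D hD] at hgH
    obtain ⟨c, rfl⟩ := hgH
    have h1 : orderOf (torHom D F c) ∣ Nat.card (Fin D.rank → Fˣ) :=
      (orderOf_map_dvd _ c).trans (orderOf_dvd_natCard c)
    have h2 := coprime_card_torus (F := F) p D.rank 1
    rw [pow_one] at h2
    exact (Nat.Coprime.coprime_dvd_right h1 h2).symm
  have hKY : ∀ g ∈ K, ∀ y ∈ Y, g * y * g⁻¹ ∈ Y := by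
    intro g hg y hy
    refine Subgroup.mem_inf.2 ⟨hH g hg.1 y hy.1, ?_⟩
    exact (Subgroup.mem_normalizer_iff.1
      (diagonal_le_normalizer_rootSetSub D hD _ hg.1) y).1 hy.2
  have hcomm : ∀ g ∈ K, ∀ t' : F, xGL D hD k t' * g = g * xGL D hD k t' := by
    intro g hg t'
    exact (Subgroup.mem_centralizer_iff.1 hg.2) _ ⟨t', rfl⟩
  have hconj : ∀ g ∈ K, ∀ w : GL D.Idx F,
      g * (xGL D hD k t * w) * g⁻¹ = xGL D hD k t * (g * w * g⁻¹) := by
    intro g hg w
    calc g * (xGL D hD k t * w) * g⁻¹ = (g * xGL D hD k t) * w * g⁻¹ := by group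
      _ = (xGL D hD k t * g) * w * g⁻¹ := by rw [hcomm g hg t]
      _ = xGL D hD k t * (g * w * g⁻¹) := by group
  have hv' : ∀ g ∈ K, (xGL D hD k t * u')⁻¹ * (g * (xGL D hD k t * u') * g⁻¹) ∈ Y := by
    intro g hg
    refine Subgroup.mem_inf.2 ⟨mul_mem (inv_mem hv) (hH g hg.1 _ hv), ?_⟩
    have e : (xGL D hD k t * u')⁻¹ * (g * (xGL D hD k t * u') * g⁻¹)
        = u'⁻¹ * (g * u' * g⁻¹) := by
      rw [hconj g hg u']
      group
    rw [e]
    exact mul_mem (inv_mem hu') ((Subgroup.mem_normalizer_iff.1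
      (diagonal_le_normalizer_rootSetSub D hD _ hg.1) u').1 hu')
  obtain ⟨y, hy, hfix⟩ := WCFix.exists_fixed_in_coset p Y K hYp hKc hcop hKY
    (xGL D hD k t * u') hv'
  set w : GL D.Idx F := u' * y with hw
  have hwU : w ∈ upperSub D F (k + 1) := mul_mem hu' hy.2
  have hvy : xGL D hD k t * u' * y = xGL D hD k t * w := by rw [hw, mul_assoc]
  have hwfix : ∀ g ∈ K, g * w * g⁻¹ = w := by
    intro g hg
    have h1 := hfix g hg
    rw [hvy, hconj g hg w] at h1
    exact mul_left_cancel h1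
  obtain ⟨τ, hτ⟩ := upperSub_exists D hD D.nroots (k + 1) (by omega) w hwU
  have hzero : ∀ s ∈ posFrom D (k + 1), τ s = 0 := by
    intro s hs
    obtain ⟨hks, hsp⟩ := (mem_posFrom D (k + 1) s).1 hs
    obtain ⟨c, hc, hck, hcs⟩ := hsep s hsp (by omega)
    have hgK : tGL D c hc ∈ K := by
      refine Subgroup.mem_inf.2 ⟨tGL_mem D hD c hc, ?_⟩
      rw [Subgroup.mem_centralizer_iff]
      rintro _ ⟨t', rfl⟩
      have h1 := tGL_conj_x D hD c hc k t'
      rw [hck, one_mul] at h1
      rw [mul_inv_eq_iff_eq_mul] at h1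
      exact h1.symm
    have h1 := hwfix _ hgK
    rw [mul_inv_eq_iff_eq_mul] at h1
    have h2 := congrArg (fun g : GL D.Idx F => (g : Matrix D.Idx D.Idx F)) h1
    simp only [Units.val_mul] at h2
    rw [tGL_val, hτ, torus_conj_word D hD c hc, List.map_map] at h2
    -- cancel the torus element
    have h3 : D.wordMat F ((posFrom D (k + 1)).map fun r => (r, chi D c r * τ r))
        = D.wordMat F ((posFrom D (k + 1)).map fun r => (r, τ r)) := by
      have h4 := congrArg (fun M => M * ((tGL D c hc)⁻¹ : GL D.Idx F).val) h2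
      simp only [mul_assoc] at h4
      rw [← tGL_val D c hc, ← Units.val_mul, mul_inv_cancel, Units.val_one, mul_one, mul_one] at h4
      exact h4
    have h5 := upperSub_unique D hD D.nroots (k + 1) (by omega)
      (fun r => chi D c r * τ r) τ h3 s hs
    have h6 : (chi D c s - 1) * τ s = 0 := by
      rw [sub_mul, one_mul, h5, sub_self]
    rcases mul_eq_zero.1 h6 with h7 | h7
    · exact absurd (sub_eq_zero.1 h7) hcs
    · exact h7
  have hw1 : w = 1 := by
    apply Units.ext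
    rw [hτ, Units.val_one, ← wordMat_zero D (posFrom D (k + 1))]
    congr 1
    apply List.map_congr_left
    intro r hr
    rw [hzero r hr]
  have hfin : xGL D hD k t = xGL D hD k t * u' * y := by
    rw [hvy, hw1, mul_one]
  rw [hfin]
  exact mul_mem hv hy.1

end Cfsg.Agent.Lib.Helper8.WC
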