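import Mathlib
import Cfsg.Agent.Lib.Helper8.WCDefs

set_option autoImplicit false

/-!
S2244 unit U1, generic part: separation of two positive roots by a torus element, from a table of
small integer combinations of the fundamental coroots.
-/

namespace Cfsg.Agent.Lib.Helper8.WC

open Cfsg Cfsg.Lie Cfsg.Agent.Lib.Helper5.ChevStruct Cfsg.Agent.Lib.Helper5.ChevSym

variable {F : Type*} [Field F]

/-- the torus parameter `∏_{i ∈ l} h_{p_i}(z)` -/
def cOf (z : F) : List ℕ → ℕ → F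
  | [], _ => 1
  | i :: l, j => (if j = i then z else 1) * cOf z l j

theorem cOf_ne_zero (z : F) (hz : z ≠ 0) (l : List ℕ) (j : ℕ) : cOf z l j ≠ 0 := by
  induction l with
  | nil => exact one_ne_zero
  | cons i l ih =>
    show (if j = i then z else 1) * cOf z l j ≠ 0
    refine mul_ne_zero ?_ ih
    split_ifs
    · exact hz
    · exact one_ne_zero

theorem chi_cOf (D : ChevalleyDatum) (z : F) (hz : z ≠ 0) (l : List ℕ)
    (hl : ∀ i ∈ l, i < D.rank) (r : ℕ) :
    chi D (cOf z l) r = z ^ (l.map fun i => D.cartan i r).sum := by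
  induction l with
  | nil =>
    show chi D (fun _ => (1 : F)) r = _
    rw [chi_one]
    simp
  | cons i l ih =>
    have h1 : cOf z (i :: l) = fun j => (fun j => if j = i then z else 1) j * cOf z l j := rfl
    rw [h1, chi_mul, chi_single D i (hl i List.mem_cons_self),
      ih fun j hj => hl j (List.mem_cons_of_mem _ hj)]
    rw [List.map_cons, List.sum_cons, zpow_add₀ hz]

/-- the value `⟨r, Σ_{i ∈ pl} h_i - Σ_{i ∈ mi} h_i⟩` -/
def sdot (D : ChevalleyDatum) (pl mi : List ℕ) (r : ℕ) : ℤ :=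
  (pl.map fun i => D.cartan i r).sum - (mi.map fun i => D.cartan i r).sum

theorem chi_pm (D : ChevalleyDatum) (z : F) (hz : z ≠ 0) (pl mi : List ℕ)
    (hpl : ∀ i ∈ pl, i < D.rank) (hmi : ∀ i ∈ mi, i < D.rank) (r : ℕ) :
    chi D (fun j => cOf z pl j * cOf z⁻¹ mi j) r = z ^ sdot D pl mi r := by
  rw [chi_mul, chi_cOf D z hz pl hpl, chi_cOf D z⁻¹ (inv_ne_zero hz) mi hmi]
  unfold sdot
  rw [inv_zpow', ← zpow_add₀ hz, sub_eq_add_neg]

/-- one entry of the table -/
def sepEntry (D : ChevalleyDatum) (al : ℕ → ℤ → Bool) (k s : ℕ) (e : List ℕ × List ℕ) : Bool :=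
  Nat.beq s k ||
    (e.1.all (fun i => Nat.blt i D.rank) && e.2.all (fun i => Nat.blt i D.rank) &&
      decide (sdot D e.1 e.2 k = 0) && al k (sdot D e.1 e.2 s))

/-- one row of the table -/
def sepRow (D : ChevalleyDatum) (al : ℕ → ℤ → Bool) (pos : List ℕ) (k : ℕ)
    (row : List (List ℕ × List ℕ)) : Bool :=
  Nat.beq pos.length row.length && (pos.zip row).all fun p => sepEntry D al k p.1 p.2

/-- the whole table -/
def sepTbl (D : ChevalleyDatum) (al : ℕ → ℤ → Bool) (pos : List ℕ)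
    (tbl : List (List (List ℕ × List ℕ))) : Bool :=
  Nat.beq pos.length tbl.length && (pos.zip tbl).all fun p => sepRow D al pos p.1 p.2

theorem all_zip_mem {α β : Type} (f : α × β → Bool) :
    ∀ (l : List α) (t : List β), l.length = t.length → (l.zip t).all f = true →
      ∀ x ∈ l, ∃ y, f (x, y) = true := by
  intro l
  induction l with
  | nil => intro t _ _ x hx; cases hx
  | cons a l ih =>
    intro t hlen hall x hx
    cases t with
    | nil => simp at hlen
    | cons b t =>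
      rw [List.zip_cons_cons, List.all_cons, Bool.and_eq_true] at hall
      rcases List.mem_cons.1 hx with rfl | hx
      · exact ⟨b, hall.1⟩
      · exact ih t (by simpa using hlen) hall.2 x hx

theorem mem_posRoots_iff (D : ChevalleyDatum) (k : ℕ) : k ∈ D.posRoots ↔ D.IsPosRoot k := by
  unfold ChevalleyDatum.posRoots
  rw [List.mem_filter, List.mem_range, decide_eq_true_iff]
  exact ⟨fun h => h.2, fun h => ⟨h.1, h⟩⟩

theorem sepTbl_spec (D : ChevalleyDatum) (al : ℕ → ℤ → Bool)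
    (tbl : List (List (List ℕ × List ℕ))) (h : sepTbl D al D.posRoots tbl = true)
    (k : ℕ) (hk : D.IsPosRoot k) (s : ℕ) (hs : D.IsPosRoot s) (hsk : s ≠ k) :
    ∃ pl mi : List ℕ, (∀ i ∈ pl, i < D.rank) ∧ (∀ i ∈ mi, i < D.rank) ∧
      sdot D pl mi k = 0 ∧ al k (sdot D pl mi s) = true := by
  unfold sepTbl at h
  rw [Bool.and_eq_true] at h
  obtain ⟨row, hrow⟩ := all_zip_mem _ D.posRoots tbl (Nat.eq_of_beq_eq_true h.1) h.2 k
    ((mem_posRoots_iff D k).2 hk)
  unfold sepRow at hrow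
  rw [Bool.and_eq_true] at hrow
  obtain ⟨e, he⟩ := all_zip_mem _ D.posRoots row (Nat.eq_of_beq_eq_true hrow.1) hrow.2 s
    ((mem_posRoots_iff D s).2 hs)
  unfold sepEntry at he
  rw [Bool.or_eq_true] at he
  rcases he with he | he
  · exact absurd (Nat.eq_of_beq_eq_true he) hsk
  · rw [Bool.and_eq_true, Bool.and_eq_true, Bool.and_eq_true, decide_eq_true_iff,
      List.all_eq_true, List.all_eq_true] at he
    refine ⟨e.1, e.2, ?_, ?_, he.1.2, he.2⟩
    · intro i hi
      have := he.1.1.1 i hi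
      exact Nat.blt_eq.mp this
    · intro i hi
      have := he.1.1.2 i hi
      exact Nat.blt_eq.mp this

/-- a generator of the multiplicative group -/
theorem exists_gen [Fintype F] :
    ∃ z : F, z ≠ 0 ∧ ∀ d : ℤ, z ^ d = 1 → ((Fintype.card F - 1 : ℕ) : ℤ) ∣ d := by
  classical
  obtain ⟨g, hg⟩ := IsCyclic.exists_generator (α := Fˣ)
  have ho : orderOf g = Fintype.card F - 1 := by
    rw [orderOf_eq_card_of_forall_mem_zpowers hg, Nat.card_eq_fintype_card, Fintype.card_units]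
  refine ⟨(g : F), g.ne_zero, ?_⟩
  intro d hd
  rw [← ho]
  apply orderOf_dvd_iff_zpow_eq_one.2
  apply Units.ext
  rw [Units.val_zpow_eq_zpow_val, hd, Units.val_one]

/-- separation from an entry whose value at `s` is not divisible by `q - 1` -/
theorem sep_entry [Fintype F] (D : ChevalleyDatum) (k s : ℕ) (pl mi : List ℕ)
    (hpl : ∀ i ∈ pl, i < D.rank) (hmi : ∀ i ∈ mi, i < D.rank)
    (h0 : sdot D pl mi k = 0)
    (hd : ¬ (Fintype.card F - 1) ∣ (sdot D pl mi s).natAbs) :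
    ∃ c : ℕ → F, (∀ i, c i ≠ 0) ∧ chi D c k = 1 ∧ chi D c s ≠ 1 := by
  obtain ⟨z, hz, hgen⟩ := exists_gen (F := F)
  refine ⟨fun j => cOf z pl j * cOf z⁻¹ mi j, ?_, ?_, ?_⟩
  · intro i
    exact mul_ne_zero (cOf_ne_zero z hz pl i) (cOf_ne_zero z⁻¹ (inv_ne_zero hz) mi i)
  · rw [chi_pm D z hz pl mi hpl hmi, h0, zpow_zero]
  · rw [chi_pm D z hz pl mi hpl hmi]
    intro h1
    exact hd (Int.natCast_dvd.1 (hgen _ h1))

/-- allowed values: simply laced types -/
def alE (_ : ℕ) (d : ℤ) : Bool := Nat.beq d.natAbs 1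

/-- allowed values: `B₂`, `D₄`, `F₄` -/
def alB (_ : ℕ) (d : ℤ) : Bool := Nat.beq d.natAbs 1 || Nat.beq d.natAbs 2

/-- allowed values: `G₂` -/
def alG (k : ℕ) (d : ℤ) : Bool :=
  Nat.beq d.natAbs 1 || Nat.beq d.natAbs 2 ||
    ((Nat.beq k 6 || Nat.beq k 10 || Nat.beq k 11) && Nat.beq d.natAbs 3)

theorem not_dvd_one {q : ℕ} (h2 : q ≠ 2) (hq : 1 < q) : ¬ (q - 1) ∣ 1 := by
  intro h
  have := Nat.dvd_one.1 h
  omega

theorem not_dvd_two {q : ℕ} (h2 : q ≠ 2) (h3 : q ≠ 3) (hq : 1 < q) : ¬ (q - 1) ∣ 2 := by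
  intro h
  have h1 := Nat.le_of_dvd (by norm_num) h
  have : q - 1 = 1 ∨ q - 1 = 2 := by
    have : q - 1 ≠ 0 := by omega
    omega
  omega

theorem not_dvd_three {q : ℕ} (h2 : q ≠ 2) (h3 : q ≠ 3) (h4 : q ≠ 4) (hq : 1 < q) :
    ¬ (q - 1) ∣ 3 := by
  intro h
  have h1 := Nat.le_of_dvd (by norm_num) h
  have : q - 1 = 1 ∨ q - 1 = 2 ∨ q - 1 = 3 := by
    have : q - 1 ≠ 0 := by omega
    omega
  rcases this with h5 | h5 | h5
  · omega
  · omega
  · omega

/-- separation from a checked table: simply laced types -/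
theorem sep_of_tblE [Fintype F] (D : ChevalleyDatum) (tbl : List (List (List ℕ × List ℕ)))
    (h : sepTbl D alE D.posRoots tbl = true) (h2 : Fintype.card F ≠ 2)
    (k : ℕ) (hk : D.IsPosRoot k) : Sep D F k := by
  intro s hs hsk
  obtain ⟨pl, mi, hpl, hmi, h0, hal⟩ := sepTbl_spec D alE tbl h k hk s hs hsk
  refine sep_entry D k s pl mi hpl hmi h0 ?_
  have hq : 1 < Fintype.card F := Fintype.one_lt_card
  unfold alE at hal
  rw [Nat.eq_of_beq_eq_true hal]
  exact not_dvd_one h2 hq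

/-- separation from a checked table: `B₂`, `D₄`, `F₄` -/
theorem sep_of_tblB [Fintype F] (D : ChevalleyDatum) (tbl : List (List (List ℕ × List ℕ)))
    (h : sepTbl D alB D.posRoots tbl = true) (h2 : Fintype.card F ≠ 2)
    (h3 : Fintype.card F ≠ 3) (k : ℕ) (hk : D.IsPosRoot k) : Sep D F k := by
  intro s hs hsk
  obtain ⟨pl, mi, hpl, hmi, h0, hal⟩ := sepTbl_spec D alB tbl h k hk s hs hsk
  refine sep_entry D k s pl mi hpl hmi h0 ?_
  have hq : 1 < Fintype.card F := Fintype.one_lt_card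
  unfold alB at hal
  rw [Bool.or_eq_true] at hal
  rcases hal with hal | hal
  · rw [Nat.eq_of_beq_eq_true hal]
    exact not_dvd_one h2 hq
  · rw [Nat.eq_of_beq_eq_true hal]
    exact not_dvd_two h2 h3 hq

/-- separation from a checked table: `G₂` -/
theorem sep_of_tblG [Fintype F] (D : ChevalleyDatum) (tbl : List (List (List ℕ × List ℕ)))
    (h : sepTbl D alG D.posRoots tbl = true) (h2 : Fintype.card F ≠ 2)
    (h3 : Fintype.card F ≠ 3) (k : ℕ) (hk : D.IsPosRoot k)
    (h4 : (k = 6 ∨ k = 10 ∨ k = 11) → Fintype.card F ≠ 4) : Sep D F k := by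
  intro s hs hsk
  obtain ⟨pl, mi, hpl, hmi, h0, hal⟩ := sepTbl_spec D alG tbl h k hk s hs hsk
  refine sep_entry D k s pl mi hpl hmi h0 ?_
  have hq : 1 < Fintype.card F := Fintype.one_lt_card
  unfold alG at hal
  rw [Bool.or_eq_true, Bool.or_eq_true] at hal
  rcases hal with (hal | hal) | hal
  · rw [Nat.eq_of_beq_eq_true hal]
    exact not_dvd_one h2 hq
  · rw [Nat.eq_of_beq_eq_true hal]
    exact not_dvd_two h2 h3 hq
  · rw [Bool.and_eq_true, Bool.or_eq_true, Bool.or_eq_true] at hal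
    rw [Nat.eq_of_beq_eq_true hal.2]
    refine not_dvd_three h2 h3 (h4 ?_) hq
    rcases hal.1 with (h6 | h6) | h6
    · exact Or.inl (Nat.eq_of_beq_eq_true h6)
    · exact Or.inr (Or.inl (Nat.eq_of_beq_eq_true h6))
    · exact Or.inr (Or.inr (Nat.eq_of_beq_eq_true h6))

end Cfsg.Agent.Lib.Helper8.WC
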