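import Mathlib
import Cfsg.Agent.Lib.Helper8.WCSepA

set_option autoImplicit false

/-!
S2244 unit U1: the separation table of type `D4` (generated, checked by the kernel).
-/

namespace Cfsg.Agent.Lib.Helper8.WC

open Cfsg Cfsg.Lie

/-- the separation table of `D4` -/
def sepTableD4 : List (List (List ℕ × List ℕ)) := [
[([],[]),([2],[]),([2],[]),([2],[]),([2],[]),([2],[]),([0],[]),([2],[]),([2],[]),([2],[]),([2],[]),([1,1,3],[])],
[([3],[]),([],[]),([3],[]),([3],[]),([3],[]),([3],[]),([0],[]),([3],[]),([3],[]),([3],[]),([3],[]),([1,1,2],[])],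
[([2],[3]),([2],[3]),([],[]),([2],[3]),([2],[3]),([0],[3]),([0],[3]),([0],[3]),([2],[3]),([2],[3]),([1,3,3],[]),([1,3,3],[])],
[([2,3],[]),([2,3],[]),([2,3],[]),([],[]),([1],[3]),([2,3],[]),([1],[3]),([2,3],[]),([1],[3]),([1],[3]),([2,3],[]),([1],[3])],
[([2,3],[]),([2,3],[]),([2,3],[]),([1,3],[]),([],[]),([2,3],[]),([1,3],[]),([2,3],[]),([1,3],[]),([1,3],[]),([2,3],[]),([1,3],[])],
[([1],[]),([1],[]),([1],[]),([1],[]),([1],[]),([],[]),([1],[]),([1],[]),([2],[3]),([2],[3]),([1],[]),([1],[])],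
[([3],[]),([2],[]),([3],[]),([3],[]),([3],[]),([3],[]),([],[]),([3],[]),([3],[]),([3],[]),([3],[]),([0,1,1],[])],
[([2],[3]),([2],[3]),([1,3],[]),([2],[3]),([2],[3]),([1,3],[]),([1,3],[]),([],[]),([2],[3]),([2],[3]),([0,3],[]),([1,3],[])],
[([1],[]),([1],[]),([1],[]),([1],[]),([1],[]),([2,3],[]),([1],[]),([1],[]),([],[]),([0],[3]),([1],[]),([1],[])],
[([1],[]),([1],[]),([1],[]),([1],[]),([1],[]),([2,3],[]),([1],[]),([1],[]),([0,3],[]),([],[]),([1],[]),([1],[])],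
[([2],[3]),([2],[3]),([1,3],[]),([2],[3]),([2],[3]),([1,3],[]),([1,3],[]),([0],[3]),([2],[3]),([2],[3]),([],[]),([1,3],[])],
[([3],[]),([2],[]),([3],[]),([3],[]),([3],[]),([3],[]),([0],[]),([3],[]),([3],[]),([3],[]),([3],[]),([],[])]]

set_option maxRecDepth 1000000 in
theorem sepTableD4_ok : sepTbl chevD4 alB chevD4.posRoots sepTableD4 = true := by
  decide +kernel

end Cfsg.Agent.Lib.Helper8.WC
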