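import Mathlib
import Cfsg.Agent.Lib.Helper8.WCSepA

set_option autoImplicit false

/-!
S2244 unit U1: the separation table of type `E6` (generated, checked by the kernel).
-/

namespace Cfsg.Agent.Lib.Helper8.WC

open Cfsg Cfsg.Lie

/-- the separation table of `E6` -/
def sepTableE6 : List (List (List ℕ × List ℕ)) := [
[([],[]),([3],[]),([3],[]),([2],[]),([3],[]),([3],[]),([3],[]),([3],[]),([2],[]),([2],[]),([3],[]),([3],[]),([2],[]),([2],[]),([2],[]),([3],[]),([3],[]),([3],[]),([3],[]),([0],[]),([2],[]),([3],[]),([3],[]),([1],[]),([1],[]),([1],[]),([3],[]),([3],[]),([3],[]),([3],[]),([2],[]),([2],[]),([2],[]),([3],[]),([3],[]),([1],[])],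
[([3,4,5],[]),([],[]),([3,4,5],[]),([2],[]),([2],[]),([2],[]),([0],[]),([2],[]),([2],[]),([2],[]),([3],[5]),([2],[]),([2],[]),([2],[]),([2],[]),([2],[]),([2],[]),([0],[]),([0],[]),([0],[]),([2],[]),([2],[]),([1],[]),([1],[]),([1],[]),([1],[]),([1],[]),([1],[]),([2],[]),([2],[]),([2],[]),([2],[]),([2],[]),([2],[]),([1],[]),([1],[])],
[([3,4],[]),([3,4],[]),([],[]),([2],[]),([2],[]),([2],[]),([0],[]),([2],[]),([2],[]),([2],[]),([3,5],[]),([2],[]),([2],[]),([2],[]),([2],[]),([2],[]),([2],[]),([0],[]),([0],[]),([0],[]),([2],[]),([2],[]),([1],[]),([1],[]),([1],[]),([1],[]),([1],[]),([1],[]),([2],[]),([2],[]),([2],[]),([2],[]),([2],[]),([2],[]),([1],[]),([1],[])],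
[([2],[4]),([5],[]),([5],[]),([],[]),([5],[]),([5],[]),([0],[]),([0],[]),([5],[]),([5],[]),([3,4,4],[]),([3,4,4],[]),([5],[]),([5],[]),([0],[]),([5],[]),([5],[]),([5],[]),([5],[]),([0],[]),([2],[4]),([0],[]),([0],[]),([5],[]),([5],[]),([0],[]),([5],[]),([5],[]),([5],[]),([5],[]),([0],[]),([5],[]),([5],[]),([1],[4]),([1],[4]),([1],[4])],
[([4,5],[]),([4,5],[]),([2],[5]),([4,5],[]),([],[]),([4,5],[]),([0],[]),([0],[]),([0],[]),([0],[]),([3,5],[]),([4,5],[]),([3,5],[]),([4,5],[]),([0],[]),([0],[]),([0],[]),([0],[]),([0],[]),([0],[]),([2],[5]),([0],[]),([0],[]),([0],[]),([0],[]),([0],[]),([0],[]),([0],[]),([0],[]),([0],[]),([0],[]),([4,5],[]),([3,5],[]),([4,5],[]),([3,5],[]),([1],[5])],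
[([4],[]),([2,5],[]),([4],[]),([4],[]),([4],[]),([],[]),([0],[]),([4],[]),([4],[]),([0],[]),([3],[5]),([4],[]),([4],[]),([3],[5]),([4],[]),([4],[]),([0],[]),([0],[]),([4],[]),([4],[]),([2,5],[]),([0],[]),([4],[]),([4],[]),([0],[]),([4],[]),([4],[]),([0],[]),([0],[]),([4],[]),([4],[]),([3],[5]),([4],[]),([4],[]),([3],[5]),([1,5],[])],
[([4],[]),([5],[]),([5],[]),([4],[]),([5],[]),([5],[]),([],[]),([4],[]),([5],[]),([5],[]),([0],[3]),([4],[]),([5],[]),([5],[]),([4],[]),([5],[]),([5],[]),([5],[]),([5],[]),([4],[]),([2,3,3],[]),([2,3,3],[]),([4],[]),([5],[]),([5],[]),([4],[]),([5],[]),([5],[]),([5],[]),([5],[]),([4],[]),([5],[]),([5],[]),([4],[]),([1],[]),([1],[])],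
[([3,4],[]),([5],[]),([5],[]),([3,4],[]),([5],[]),([5],[]),([3,4],[]),([],[]),([5],[]),([5],[]),([3,4],[]),([0],[4]),([5],[]),([5],[]),([3,4],[]),([5],[]),([5],[]),([5],[]),([5],[]),([3,4],[]),([2,4],[]),([3,4],[]),([2,4],[]),([5],[]),([5],[]),([3,4],[]),([5],[]),([5],[]),([5],[]),([5],[]),([3,4],[]),([5],[]),([5],[]),([1],[4]),([3,4],[]),([1],[4])],
[([4,5],[]),([3],[]),([3],[]),([4,5],[]),([3],[]),([3],[]),([3],[]),([3],[]),([],[]),([4,5],[]),([3],[]),([3],[]),([0],[5]),([4,5],[]),([4,5],[]),([3],[]),([3],[]),([3],[]),([3],[]),([4,5],[]),([2,5],[]),([3],[]),([3],[]),([2,5],[]),([4,5],[]),([4,5],[]),([3],[]),([3],[]),([3],[]),([3],[]),([4,5],[]),([4,5],[]),([1],[5]),([3],[]),([3],[]),([1],[5])],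
[([4],[]),([3],[]),([4],[]),([4],[]),([4],[]),([3],[]),([3],[]),([4],[]),([4],[]),([],[]),([3],[]),([4],[]),([4],[]),([0,5],[]),([4],[]),([4],[]),([3],[]),([3],[]),([4],[]),([4],[]),([2],[5]),([3],[]),([4],[]),([4],[]),([2],[5]),([4],[]),([4],[]),([3],[]),([3],[]),([4],[]),([4],[]),([1,5],[]),([4],[]),([4],[]),([3],[]),([1,5],[])],
[([4],[]),([5],[]),([5],[]),([4],[]),([5],[]),([5],[]),([0],[]),([4],[]),([5],[]),([5],[]),([],[]),([4],[]),([5],[]),([5],[]),([4],[]),([5],[]),([5],[]),([5],[]),([5],[]),([4],[]),([2],[]),([2],[]),([4],[]),([5],[]),([5],[]),([4],[]),([5],[]),([5],[]),([5],[]),([5],[]),([4],[]),([5],[]),([5],[]),([4],[]),([1,3,3],[]),([1,3,3],[])],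
[([3,4],[]),([5],[]),([5],[]),([3,4],[]),([5],[]),([5],[]),([0],[]),([0],[]),([5],[]),([5],[]),([3,4],[]),([],[]),([5],[]),([5],[]),([0],[]),([5],[]),([5],[]),([5],[]),([5],[]),([0],[]),([2],[4]),([0],[]),([0],[]),([5],[]),([5],[]),([0],[]),([5],[]),([5],[]),([5],[]),([5],[]),([0],[]),([5],[]),([5],[]),([1,4],[]),([3,4],[]),([1,4],[])],
[([4,5],[]),([3],[]),([3],[]),([4,5],[]),([3],[]),([3],[]),([3],[]),([3],[]),([0],[]),([0],[]),([3],[]),([3],[]),([],[]),([4,5],[]),([0],[]),([3],[]),([3],[]),([3],[]),([3],[]),([0],[]),([2],[5]),([3],[]),([3],[]),([0],[]),([0],[]),([0],[]),([3],[]),([3],[]),([3],[]),([3],[]),([0],[]),([4,5],[]),([1,5],[]),([3],[]),([3],[]),([1,5],[])],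
[([4],[]),([3],[]),([4],[]),([4],[]),([4],[]),([3],[]),([3],[]),([4],[]),([4],[]),([0],[]),([3],[]),([4],[]),([4],[]),([],[]),([4],[]),([4],[]),([3],[]),([3],[]),([4],[]),([4],[]),([2,5],[]),([3],[]),([4],[]),([4],[]),([0],[]),([4],[]),([4],[]),([3],[]),([3],[]),([4],[]),([4],[]),([1],[5]),([4],[]),([4],[]),([3],[]),([1],[5])],
[([2,4],[]),([5],[]),([5],[]),([0],[4]),([5],[]),([5],[]),([3],[]),([3],[]),([5],[]),([5],[]),([3],[]),([3],[]),([5],[]),([5],[]),([],[]),([5],[]),([5],[]),([5],[]),([5],[]),([2,4],[]),([2,4],[]),([3],[]),([3],[]),([5],[]),([5],[]),([2,4],[]),([5],[]),([5],[]),([5],[]),([5],[]),([1,4],[]),([5],[]),([5],[]),([3],[]),([3],[]),([1,4],[])],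
[([4,5],[]),([4,5],[]),([2,5],[]),([4,5],[]),([0],[5]),([4,5],[]),([3],[5]),([4,5],[]),([3],[5]),([4,5],[]),([3],[5]),([4,5],[]),([3],[5]),([4,5],[]),([4,5],[]),([],[]),([4,5],[]),([4,5],[]),([2,5],[]),([4,5],[]),([2,5],[]),([3],[5]),([4,5],[]),([3],[5]),([4,5],[]),([4,5],[]),([2,5],[]),([4,5],[]),([4,5],[]),([1,5],[]),([4,5],[]),([4,5],[]),([3],[5]),([4,5],[]),([3],[5]),([1,5],[])],
[([4],[]),([2],[5]),([4],[]),([4],[]),([4],[]),([0,5],[]),([3,5],[]),([4],[]),([4],[]),([3,5],[]),([3,5],[]),([4],[]),([4],[]),([3,5],[]),([4],[]),([4],[]),([],[]),([2],[5]),([4],[]),([4],[]),([2],[5]),([3,5],[]),([4],[]),([4],[]),([3,5],[]),([4],[]),([4],[]),([2],[5]),([1],[5]),([4],[]),([4],[]),([3,5],[]),([4],[]),([4],[]),([3,5],[]),([1],[5])],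
[([4],[]),([0],[5]),([4],[]),([4],[]),([4],[]),([2],[]),([3,5],[]),([4],[]),([4],[]),([2],[]),([3,5],[]),([4],[]),([4],[]),([2],[]),([4],[]),([4],[]),([2],[]),([],[]),([4],[]),([4],[]),([2],[]),([2],[]),([4],[]),([4],[]),([1],[]),([4],[]),([4],[]),([1],[]),([2],[]),([4],[]),([4],[]),([2],[]),([4],[]),([4],[]),([1],[]),([1],[])],
[([4,5],[]),([4,5],[]),([0,5],[]),([2],[]),([2],[]),([2],[]),([3],[5]),([2],[]),([2],[]),([2],[]),([3],[5]),([2],[]),([2],[]),([2],[]),([2],[]),([2],[]),([2],[]),([4,5],[]),([],[]),([4,5],[]),([2],[]),([2],[]),([1],[]),([1],[]),([1],[]),([1],[]),([1],[]),([1],[]),([2],[]),([2],[]),([2],[]),([2],[]),([2],[]),([2],[]),([1],[]),([1],[])],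
[([0,4],[]),([5],[]),([5],[]),([2],[]),([5],[]),([5],[]),([3],[]),([3],[]),([5],[]),([5],[]),([3],[]),([3],[]),([5],[]),([5],[]),([2],[]),([5],[]),([5],[]),([5],[]),([5],[]),([],[]),([2],[]),([3],[]),([3],[]),([5],[]),([5],[]),([1],[]),([5],[]),([5],[]),([5],[]),([5],[]),([2],[]),([5],[]),([5],[]),([3],[]),([3],[]),([1],[])],
[([4],[]),([5],[]),([5],[]),([4],[]),([5],[]),([5],[]),([3],[]),([4],[]),([5],[]),([5],[]),([3],[]),([4],[]),([5],[]),([5],[]),([4],[]),([5],[]),([5],[]),([5],[]),([5],[]),([4],[]),([],[]),([3],[]),([4],[]),([5],[]),([5],[]),([4],[]),([5],[]),([5],[]),([5],[]),([5],[]),([4],[]),([5],[]),([5],[]),([4],[]),([3],[]),([1],[])],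
[([4],[]),([5],[]),([5],[]),([4],[]),([5],[]),([5],[]),([2,3],[]),([4],[]),([5],[]),([5],[]),([2,3],[]),([4],[]),([5],[]),([5],[]),([4],[]),([5],[]),([5],[]),([5],[]),([5],[]),([4],[]),([2,3],[]),([],[]),([4],[]),([5],[]),([5],[]),([4],[]),([5],[]),([5],[]),([5],[]),([5],[]),([4],[]),([5],[]),([5],[]),([4],[]),([1],[]),([1],[])],
[([3,4],[]),([5],[]),([5],[]),([2],[]),([5],[]),([5],[]),([3,4],[]),([2],[]),([5],[]),([5],[]),([3,4],[]),([2],[]),([5],[]),([5],[]),([2],[]),([5],[]),([5],[]),([5],[]),([5],[]),([3,4],[]),([2],[]),([2],[]),([],[]),([5],[]),([5],[]),([3,4],[]),([5],[]),([5],[]),([5],[]),([5],[]),([2],[]),([5],[]),([5],[]),([2],[]),([3,4],[]),([1],[4])],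
[([4,5],[]),([3],[]),([3],[]),([2],[]),([3],[]),([3],[]),([3],[]),([3],[]),([2],[]),([2],[]),([3],[]),([3],[]),([2],[]),([2],[]),([2],[]),([3],[]),([3],[]),([3],[]),([3],[]),([4,5],[]),([2],[]),([3],[]),([3],[]),([],[]),([4,5],[]),([4,5],[]),([3],[]),([3],[]),([3],[]),([3],[]),([2],[]),([2],[]),([2],[]),([3],[]),([3],[]),([1],[5])],
[([4],[]),([3],[]),([4],[]),([4],[]),([4],[]),([3],[]),([3],[]),([4],[]),([4],[]),([2],[]),([3],[]),([4],[]),([4],[]),([2],[]),([4],[]),([4],[]),([3],[]),([3],[]),([4],[]),([4],[]),([2],[]),([3],[]),([4],[]),([4],[]),([],[]),([4],[]),([4],[]),([3],[]),([3],[]),([4],[]),([4],[]),([2],[]),([4],[]),([4],[]),([3],[]),([1,5],[])],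
[([1,4],[]),([5],[]),([5],[]),([2],[]),([5],[]),([5],[]),([3],[]),([3],[]),([5],[]),([5],[]),([3],[]),([3],[]),([5],[]),([5],[]),([2],[]),([5],[]),([5],[]),([5],[]),([5],[]),([1,4],[]),([2],[]),([3],[]),([3],[]),([5],[]),([5],[]),([],[]),([5],[]),([5],[]),([5],[]),([5],[]),([2],[]),([5],[]),([5],[]),([3],[]),([3],[]),([1,4],[])],
[([4,5],[]),([4,5],[]),([1,5],[]),([2],[]),([2],[]),([2],[]),([3],[5]),([2],[]),([2],[]),([2],[]),([3],[5]),([2],[]),([2],[]),([2],[]),([2],[]),([2],[]),([2],[]),([4,5],[]),([1,5],[]),([4,5],[]),([2],[]),([2],[]),([4,5],[]),([3],[5]),([4,5],[]),([4,5],[]),([],[]),([4,5],[]),([2],[]),([2],[]),([2],[]),([2],[]),([2],[]),([2],[]),([3],[5]),([1,5],[])],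
[([4],[]),([1],[5]),([4],[]),([4],[]),([4],[]),([2],[]),([3,5],[]),([4],[]),([4],[]),([2],[]),([3,5],[]),([4],[]),([4],[]),([2],[]),([4],[]),([4],[]),([2],[]),([1],[5]),([4],[]),([4],[]),([2],[]),([2],[]),([4],[]),([4],[]),([3,5],[]),([4],[]),([4],[]),([],[]),([2],[]),([4],[]),([4],[]),([2],[]),([4],[]),([4],[]),([3,5],[]),([1],[5])],
[([4],[]),([2],[5]),([4],[]),([4],[]),([4],[]),([1],[]),([3,5],[]),([4],[]),([4],[]),([1],[]),([3,5],[]),([4],[]),([4],[]),([1],[]),([4],[]),([4],[]),([1],[]),([2],[5]),([4],[]),([4],[]),([2],[5]),([3,5],[]),([4],[]),([4],[]),([1],[]),([4],[]),([4],[]),([1],[]),([],[]),([4],[]),([4],[]),([3,5],[]),([4],[]),([4],[]),([1],[]),([1],[])],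
[([4,5],[]),([4,5],[]),([2,5],[]),([1],[]),([1],[]),([1],[]),([3],[5]),([1],[]),([1],[]),([1],[]),([3],[5]),([1],[]),([1],[]),([1],[]),([1],[]),([1],[]),([1],[]),([4,5],[]),([2,5],[]),([4,5],[]),([2,5],[]),([3],[5]),([1],[]),([1],[]),([1],[]),([1],[]),([1],[]),([1],[]),([4,5],[]),([],[]),([4,5],[]),([4,5],[]),([3],[5]),([4,5],[]),([1],[]),([1],[])],
[([2,4],[]),([5],[]),([5],[]),([1],[]),([5],[]),([5],[]),([3],[]),([3],[]),([5],[]),([5],[]),([3],[]),([3],[]),([5],[]),([5],[]),([1],[]),([5],[]),([5],[]),([5],[]),([5],[]),([2,4],[]),([2,4],[]),([3],[]),([3],[]),([5],[]),([5],[]),([1],[]),([5],[]),([5],[]),([5],[]),([5],[]),([],[]),([5],[]),([5],[]),([3],[]),([3],[]),([1],[])],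
[([4],[]),([3],[]),([4],[]),([4],[]),([4],[]),([3],[]),([3],[]),([4],[]),([4],[]),([1],[]),([3],[]),([4],[]),([4],[]),([1],[]),([4],[]),([4],[]),([3],[]),([3],[]),([4],[]),([4],[]),([2,5],[]),([3],[]),([4],[]),([4],[]),([1],[]),([4],[]),([4],[]),([3],[]),([3],[]),([4],[]),([4],[]),([],[]),([4],[]),([4],[]),([3],[]),([1],[])],
[([4,5],[]),([3],[]),([3],[]),([1],[]),([3],[]),([3],[]),([3],[]),([3],[]),([1],[]),([1],[]),([3],[]),([3],[]),([1],[]),([1],[]),([1],[]),([3],[]),([3],[]),([3],[]),([3],[]),([0],[]),([2],[5]),([3],[]),([3],[]),([1],[]),([1],[]),([1],[]),([3],[]),([3],[]),([3],[]),([3],[]),([0],[]),([4,5],[]),([],[]),([3],[]),([3],[]),([1],[])],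
[([3,4],[]),([5],[]),([5],[]),([1],[]),([5],[]),([5],[]),([0],[]),([1],[]),([5],[]),([5],[]),([3,4],[]),([1],[]),([5],[]),([5],[]),([1],[]),([5],[]),([5],[]),([5],[]),([5],[]),([0],[]),([2],[4]),([0],[]),([1],[]),([5],[]),([5],[]),([1],[]),([5],[]),([5],[]),([5],[]),([5],[]),([0],[]),([5],[]),([5],[]),([],[]),([1],[]),([1],[])],
[([4],[]),([5],[]),([5],[]),([4],[]),([5],[]),([5],[]),([0],[]),([4],[]),([5],[]),([5],[]),([1,3],[]),([4],[]),([5],[]),([5],[]),([4],[]),([5],[]),([5],[]),([5],[]),([5],[]),([4],[]),([2],[]),([2],[]),([4],[]),([5],[]),([5],[]),([4],[]),([5],[]),([5],[]),([5],[]),([5],[]),([4],[]),([5],[]),([5],[]),([4],[]),([],[]),([1,3],[])],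
[([4],[]),([5],[]),([5],[]),([4],[]),([5],[]),([5],[]),([3],[]),([4],[]),([5],[]),([5],[]),([3],[]),([4],[]),([5],[]),([5],[]),([4],[]),([5],[]),([5],[]),([5],[]),([5],[]),([4],[]),([2],[]),([3],[]),([4],[]),([5],[]),([5],[]),([4],[]),([5],[]),([5],[]),([5],[]),([5],[]),([4],[]),([5],[]),([5],[]),([4],[]),([3],[]),([],[])]]

set_option maxRecDepth 1000000 in
theorem sepTableE6_ok : sepTbl chevE6 alE chevE6.posRoots sepTableE6 = true := by
  decide +kernel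

end Cfsg.Agent.Lib.Helper8.WC
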