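import Mathlib
import Cfsg.Agent.Lib.Helper8.WCSepA

set_option autoImplicit false

/-!
S2244 unit U1: the separation table of type `E7` (generated, checked by the kernel).
-/

namespace Cfsg.Agent.Lib.Helper8.WC

open Cfsg Cfsg.Lie

/-- the separation table of `E7` -/
def sepTableE7 : List (List (List ℕ × List ℕ)) := [
[([],[]),([4],[]),([4],[]),([3],[]),([4],[]),([4],[]),([4],[]),([4],[]),([3],[]),([3],[]),([3],[]),([4],[]),([4],[]),([2],[]),([2],[]),([3],[]),([4],[]),([4],[]),([2],[]),([2],[]),([4],[]),([4],[]),([3],[]),([3],[]),([3],[]),([4],[]),([4],[]),([4],[]),([4],[]),([0],[]),([2],[]),([3],[]),([4],[]),([4],[]),([1],[]),([1],[]),([4],[]),([4],[]),([3],[]),([3],[]),([3],[]),([4],[]),([4],[]),([4],[]),([4],[]),([2],[]),([2],[]),([4],[]),([4],[]),([4],[]),([4],[]),([3],[]),([3],[]),([3],[]),([4],[]),([4],[]),([1],[]),([1],[]),([4],[]),([4],[]),([3],[]),([2],[]),([0],[])],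
[([4,5,6],[]),([],[]),([4,5,6],[]),([3],[]),([3],[]),([3],[]),([2],[]),([3],[]),([3],[]),([3],[]),([3],[]),([3],[]),([2],[]),([2],[]),([2],[]),([3],[]),([3],[]),([2],[]),([2],[]),([2],[]),([2],[]),([3],[]),([3],[]),([3],[]),([3],[]),([3],[]),([3],[]),([0],[]),([0],[]),([0],[]),([2],[]),([3],[]),([3],[]),([1],[]),([1],[]),([1],[]),([1],[]),([3],[]),([3],[]),([3],[]),([3],[]),([3],[]),([3],[]),([2],[]),([2],[]),([2],[]),([2],[]),([2],[]),([2],[]),([3],[]),([3],[]),([3],[]),([3],[]),([3],[]),([3],[]),([1],[]),([1],[]),([1],[]),([1],[]),([3],[]),([3],[]),([2],[]),([0],[])],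
[([4,5],[]),([4,5],[]),([],[]),([3],[]),([3],[]),([3],[]),([2],[]),([3],[]),([3],[]),([3],[]),([3],[]),([3],[]),([2],[]),([2],[]),([2],[]),([3],[]),([3],[]),([2],[]),([2],[]),([2],[]),([2],[]),([3],[]),([3],[]),([3],[]),([3],[]),([3],[]),([3],[]),([0],[]),([0],[]),([0],[]),([2],[]),([3],[]),([3],[]),([1],[]),([1],[]),([1],[]),([1],[]),([3],[]),([3],[]),([3],[]),([3],[]),([3],[]),([3],[]),([2],[]),([2],[]),([2],[]),([2],[]),([2],[]),([2],[]),([3],[]),([3],[]),([3],[]),([3],[]),([3],[]),([3],[]),([1],[]),([1],[]),([1],[]),([1],[]),([3],[]),([3],[]),([2],[]),([0],[])],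
[([3],[5]),([6],[]),([6],[]),([],[]),([6],[]),([6],[]),([2],[]),([2],[]),([6],[]),([6],[]),([0],[]),([2],[]),([2],[]),([6],[]),([6],[]),([3],[5]),([2],[]),([2],[]),([6],[]),([6],[]),([2],[]),([2],[]),([6],[]),([6],[]),([0],[]),([6],[]),([6],[]),([6],[]),([6],[]),([0],[]),([2],[]),([2],[]),([1],[]),([1],[]),([6],[]),([6],[]),([1],[]),([1],[]),([6],[]),([6],[]),([2],[]),([6],[]),([6],[]),([6],[]),([6],[]),([2],[]),([2],[]),([6],[]),([6],[]),([6],[]),([6],[]),([2],[]),([6],[]),([6],[]),([1],[]),([1],[]),([6],[]),([6],[]),([1],[]),([1],[]),([2],[]),([2],[]),([0],[])],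
[([5,6],[]),([5,6],[]),([3],[6]),([5,6],[]),([],[]),([5,6],[]),([2],[]),([2],[]),([2],[]),([2],[]),([0],[]),([2],[]),([2],[]),([2],[]),([2],[]),([3],[6]),([2],[]),([2],[]),([2],[]),([2],[]),([2],[]),([2],[]),([2],[]),([2],[]),([0],[]),([0],[]),([0],[]),([0],[]),([0],[]),([0],[]),([2],[]),([2],[]),([1],[]),([1],[]),([1],[]),([1],[]),([1],[]),([1],[]),([1],[]),([1],[]),([2],[]),([2],[]),([2],[]),([2],[]),([2],[]),([2],[]),([2],[]),([2],[]),([2],[]),([2],[]),([2],[]),([2],[]),([1],[]),([1],[]),([1],[]),([1],[]),([1],[]),([1],[]),([1],[]),([1],[]),([2],[]),([2],[]),([0],[])],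
[([5],[]),([3,6],[]),([5],[]),([5],[]),([5],[]),([],[]),([2],[]),([5],[]),([5],[]),([2],[]),([0],[]),([2],[]),([5],[]),([5],[]),([2],[]),([3,6],[]),([2],[]),([5],[]),([5],[]),([2],[]),([2],[]),([5],[]),([5],[]),([2],[]),([5],[]),([5],[]),([0],[]),([0],[]),([5],[]),([5],[]),([2],[]),([2],[]),([1],[]),([5],[]),([5],[]),([1],[]),([1],[]),([5],[]),([5],[]),([1],[]),([5],[]),([5],[]),([2],[]),([2],[]),([5],[]),([5],[]),([5],[]),([5],[]),([2],[]),([2],[]),([5],[]),([5],[]),([1],[]),([5],[]),([5],[]),([1],[]),([1],[]),([5],[]),([5],[]),([1],[]),([2],[]),([2],[]),([0],[])],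
[([5],[]),([6],[]),([6],[]),([5],[]),([6],[]),([6],[]),([],[]),([5],[]),([6],[]),([6],[]),([0],[]),([0],[]),([5],[]),([6],[]),([6],[]),([3,4,4],[]),([3,4,4],[]),([5],[]),([6],[]),([6],[]),([0],[]),([5],[]),([6],[]),([6],[]),([5],[]),([6],[]),([6],[]),([6],[]),([6],[]),([5],[]),([2],[4]),([0],[]),([0],[]),([5],[]),([6],[]),([6],[]),([0],[]),([5],[]),([6],[]),([6],[]),([5],[]),([6],[]),([6],[]),([6],[]),([6],[]),([5],[]),([5],[]),([6],[]),([6],[]),([6],[]),([6],[]),([5],[]),([6],[]),([6],[]),([5],[]),([2],[4]),([6],[]),([6],[]),([5],[]),([2],[4]),([2],[4]),([0],[]),([0],[])],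
[([4,5],[]),([6],[]),([6],[]),([4,5],[]),([6],[]),([6],[]),([4,5],[]),([],[]),([6],[]),([6],[]),([0],[]),([0],[]),([0],[]),([6],[]),([6],[]),([3,5],[]),([4,5],[]),([3,5],[]),([6],[]),([6],[]),([0],[]),([0],[]),([6],[]),([6],[]),([0],[]),([6],[]),([6],[]),([6],[]),([6],[]),([0],[]),([2],[5]),([0],[]),([0],[]),([0],[]),([6],[]),([6],[]),([0],[]),([0],[]),([6],[]),([6],[]),([0],[]),([6],[]),([6],[]),([6],[]),([6],[]),([0],[]),([4,5],[]),([6],[]),([6],[]),([6],[]),([6],[]),([4,5],[]),([6],[]),([6],[]),([2],[5]),([4,5],[]),([6],[]),([6],[]),([3,5],[]),([4,5],[]),([3,5],[]),([0],[]),([0],[])],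
[([5,6],[]),([4],[]),([4],[]),([5,6],[]),([4],[]),([4],[]),([4],[]),([4],[]),([],[]),([5,6],[]),([0],[]),([4],[]),([4],[]),([0],[]),([0],[]),([3,6],[]),([4],[]),([4],[]),([3,6],[]),([5,6],[]),([4],[]),([4],[]),([0],[]),([0],[]),([0],[]),([4],[]),([4],[]),([4],[]),([4],[]),([0],[]),([2],[6]),([0],[]),([4],[]),([4],[]),([0],[]),([0],[]),([4],[]),([4],[]),([0],[]),([0],[]),([0],[]),([4],[]),([4],[]),([4],[]),([4],[]),([0],[]),([5,6],[]),([4],[]),([4],[]),([4],[]),([4],[]),([5,6],[]),([5,6],[]),([2],[6]),([4],[]),([4],[]),([5,6],[]),([3,6],[]),([4],[]),([4],[]),([3,6],[]),([0],[]),([0],[])],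
[([5],[]),([4],[]),([5],[]),([5],[]),([5],[]),([4],[]),([4],[]),([5],[]),([5],[]),([],[]),([0],[]),([4],[]),([5],[]),([5],[]),([0],[]),([3],[6]),([4],[]),([5],[]),([5],[]),([3],[6]),([4],[]),([5],[]),([5],[]),([0],[]),([5],[]),([5],[]),([4],[]),([4],[]),([5],[]),([5],[]),([2,6],[]),([0],[]),([4],[]),([5],[]),([5],[]),([0],[]),([4],[]),([5],[]),([5],[]),([0],[]),([5],[]),([5],[]),([4],[]),([4],[]),([5],[]),([5],[]),([5],[]),([5],[]),([4],[]),([4],[]),([5],[]),([5],[]),([2,6],[]),([5],[]),([5],[]),([4],[]),([3],[6]),([5],[]),([5],[]),([4],[]),([3],[6]),([0],[]),([0],[])],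
[([5],[]),([6],[]),([6],[]),([5],[]),([6],[]),([6],[]),([4],[]),([5],[]),([6],[]),([6],[]),([],[]),([4],[]),([5],[]),([6],[]),([6],[]),([0],[3]),([4],[]),([5],[]),([6],[]),([6],[]),([4],[]),([5],[]),([6],[]),([6],[]),([5],[]),([6],[]),([6],[]),([6],[]),([6],[]),([5],[]),([2,3,3],[]),([2,3,3],[]),([4],[]),([5],[]),([6],[]),([6],[]),([4],[]),([5],[]),([6],[]),([6],[]),([5],[]),([6],[]),([6],[]),([6],[]),([6],[]),([5],[]),([5],[]),([6],[]),([6],[]),([6],[]),([6],[]),([5],[]),([6],[]),([6],[]),([5],[]),([4],[]),([6],[]),([6],[]),([5],[]),([4],[]),([0],[3]),([0],[3]),([0],[3])],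
[([5],[]),([6],[]),([6],[]),([5],[]),([6],[]),([6],[]),([3,4],[]),([5],[]),([6],[]),([6],[]),([3,4],[]),([],[]),([5],[]),([6],[]),([6],[]),([3,4],[]),([0],[4]),([5],[]),([6],[]),([6],[]),([3,4],[]),([5],[]),([6],[]),([6],[]),([5],[]),([6],[]),([6],[]),([6],[]),([6],[]),([5],[]),([2,4],[]),([3,4],[]),([2,4],[]),([5],[]),([6],[]),([6],[]),([3,4],[]),([5],[]),([6],[]),([6],[]),([5],[]),([6],[]),([6],[]),([6],[]),([6],[]),([5],[]),([5],[]),([6],[]),([6],[]),([6],[]),([6],[]),([5],[]),([6],[]),([6],[]),([5],[]),([3,4],[]),([6],[]),([6],[]),([5],[]),([2,4],[]),([3,4],[]),([2,4],[]),([0],[4])],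
[([4,5],[]),([6],[]),([6],[]),([3],[]),([6],[]),([6],[]),([4,5],[]),([3],[]),([6],[]),([6],[]),([3],[]),([3],[]),([],[]),([6],[]),([6],[]),([3],[]),([3],[]),([0],[5]),([6],[]),([6],[]),([4,5],[]),([3],[]),([6],[]),([6],[]),([3],[]),([6],[]),([6],[]),([6],[]),([6],[]),([4,5],[]),([2,5],[]),([3],[]),([3],[]),([2,5],[]),([6],[]),([6],[]),([4,5],[]),([3],[]),([6],[]),([6],[]),([3],[]),([6],[]),([6],[]),([6],[]),([6],[]),([4,5],[]),([4,5],[]),([6],[]),([6],[]),([6],[]),([6],[]),([3],[]),([6],[]),([6],[]),([3],[]),([4,5],[]),([6],[]),([6],[]),([2,5],[]),([3],[]),([3],[]),([2,5],[]),([0],[5])],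
[([5,6],[]),([4],[]),([4],[]),([3],[]),([4],[]),([4],[]),([4],[]),([4],[]),([3],[]),([3],[]),([3],[]),([4],[]),([4],[]),([],[]),([5,6],[]),([3],[]),([4],[]),([4],[]),([0],[6]),([5,6],[]),([4],[]),([4],[]),([3],[]),([3],[]),([3],[]),([4],[]),([4],[]),([4],[]),([4],[]),([5,6],[]),([2,6],[]),([3],[]),([4],[]),([4],[]),([2,6],[]),([5,6],[]),([4],[]),([4],[]),([3],[]),([3],[]),([3],[]),([4],[]),([4],[]),([4],[]),([4],[]),([5,6],[]),([5,6],[]),([4],[]),([4],[]),([4],[]),([4],[]),([3],[]),([3],[]),([3],[]),([4],[]),([4],[]),([5,6],[]),([2,6],[]),([4],[]),([4],[]),([3],[]),([2,6],[]),([0],[6])],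
[([5],[]),([4],[]),([5],[]),([5],[]),([5],[]),([4],[]),([4],[]),([5],[]),([5],[]),([3],[]),([3],[]),([4],[]),([5],[]),([5],[]),([],[]),([3],[]),([4],[]),([5],[]),([5],[]),([0,6],[]),([4],[]),([5],[]),([5],[]),([3],[]),([5],[]),([5],[]),([4],[]),([4],[]),([5],[]),([5],[]),([2],[6]),([3],[]),([4],[]),([5],[]),([5],[]),([2],[6]),([4],[]),([5],[]),([5],[]),([3],[]),([5],[]),([5],[]),([4],[]),([4],[]),([5],[]),([5],[]),([5],[]),([5],[]),([4],[]),([4],[]),([5],[]),([5],[]),([3],[]),([5],[]),([5],[]),([4],[]),([2],[6]),([5],[]),([5],[]),([4],[]),([3],[]),([2],[6]),([0,6],[])],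
[([5],[]),([6],[]),([6],[]),([5],[]),([6],[]),([6],[]),([4],[]),([5],[]),([6],[]),([6],[]),([0],[]),([4],[]),([5],[]),([6],[]),([6],[]),([],[]),([4],[]),([5],[]),([6],[]),([6],[]),([4],[]),([5],[]),([6],[]),([6],[]),([5],[]),([6],[]),([6],[]),([6],[]),([6],[]),([5],[]),([2],[]),([2],[]),([4],[]),([5],[]),([6],[]),([6],[]),([4],[]),([5],[]),([6],[]),([6],[]),([5],[]),([6],[]),([6],[]),([6],[]),([6],[]),([5],[]),([5],[]),([6],[]),([6],[]),([6],[]),([6],[]),([5],[]),([6],[]),([6],[]),([5],[]),([4],[]),([6],[]),([6],[]),([5],[]),([4],[]),([2],[]),([2],[]),([0],[])],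
[([5],[]),([6],[]),([6],[]),([5],[]),([6],[]),([6],[]),([3,4],[]),([5],[]),([6],[]),([6],[]),([0],[]),([0],[]),([5],[]),([6],[]),([6],[]),([3,4],[]),([],[]),([5],[]),([6],[]),([6],[]),([0],[]),([5],[]),([6],[]),([6],[]),([5],[]),([6],[]),([6],[]),([6],[]),([6],[]),([5],[]),([2],[4]),([0],[]),([0],[]),([5],[]),([6],[]),([6],[]),([0],[]),([5],[]),([6],[]),([6],[]),([5],[]),([6],[]),([6],[]),([6],[]),([6],[]),([5],[]),([5],[]),([6],[]),([6],[]),([6],[]),([6],[]),([5],[]),([6],[]),([6],[]),([5],[]),([3,4],[]),([6],[]),([6],[]),([5],[]),([2],[4]),([3,4],[]),([0],[]),([0],[])],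
[([4,5],[]),([6],[]),([6],[]),([3],[]),([6],[]),([6],[]),([4,5],[]),([3],[]),([6],[]),([6],[]),([3],[]),([3],[]),([0],[]),([6],[]),([6],[]),([3],[]),([3],[]),([],[]),([6],[]),([6],[]),([0],[]),([3],[]),([6],[]),([6],[]),([3],[]),([6],[]),([6],[]),([6],[]),([6],[]),([0],[]),([2],[5]),([3],[]),([3],[]),([0],[]),([6],[]),([6],[]),([0],[]),([3],[]),([6],[]),([6],[]),([3],[]),([6],[]),([6],[]),([6],[]),([6],[]),([0],[]),([4,5],[]),([6],[]),([6],[]),([6],[]),([6],[]),([3],[]),([6],[]),([6],[]),([3],[]),([4,5],[]),([6],[]),([6],[]),([2],[5]),([3],[]),([3],[]),([0],[]),([0],[])],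
[([5,6],[]),([4],[]),([4],[]),([3],[]),([4],[]),([4],[]),([4],[]),([4],[]),([3],[]),([3],[]),([3],[]),([4],[]),([4],[]),([0],[]),([0],[]),([3],[]),([4],[]),([4],[]),([],[]),([5,6],[]),([4],[]),([4],[]),([3],[]),([3],[]),([3],[]),([4],[]),([4],[]),([4],[]),([4],[]),([0],[]),([2],[6]),([3],[]),([4],[]),([4],[]),([0],[]),([0],[]),([4],[]),([4],[]),([3],[]),([3],[]),([3],[]),([4],[]),([4],[]),([4],[]),([4],[]),([0],[]),([5,6],[]),([4],[]),([4],[]),([4],[]),([4],[]),([3],[]),([3],[]),([3],[]),([4],[]),([4],[]),([5,6],[]),([2],[6]),([4],[]),([4],[]),([3],[]),([0],[]),([0],[])],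
[([5],[]),([4],[]),([5],[]),([5],[]),([5],[]),([4],[]),([4],[]),([5],[]),([5],[]),([3],[]),([3],[]),([4],[]),([5],[]),([5],[]),([0],[]),([3],[]),([4],[]),([5],[]),([5],[]),([],[]),([4],[]),([5],[]),([5],[]),([3],[]),([5],[]),([5],[]),([4],[]),([4],[]),([5],[]),([5],[]),([2,6],[]),([3],[]),([4],[]),([5],[]),([5],[]),([0],[]),([4],[]),([5],[]),([5],[]),([3],[]),([5],[]),([5],[]),([4],[]),([4],[]),([5],[]),([5],[]),([5],[]),([5],[]),([4],[]),([4],[]),([5],[]),([5],[]),([3],[]),([5],[]),([5],[]),([4],[]),([2,6],[]),([5],[]),([5],[]),([4],[]),([3],[]),([0],[]),([0],[])],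
[([5],[]),([6],[]),([6],[]),([5],[]),([6],[]),([6],[]),([0],[4]),([5],[]),([6],[]),([6],[]),([3],[]),([3],[]),([5],[]),([6],[]),([6],[]),([3],[]),([3],[]),([5],[]),([6],[]),([6],[]),([],[]),([5],[]),([6],[]),([6],[]),([5],[]),([6],[]),([6],[]),([6],[]),([6],[]),([5],[]),([2,4],[]),([3],[]),([3],[]),([5],[]),([6],[]),([6],[]),([2,4],[]),([5],[]),([6],[]),([6],[]),([5],[]),([6],[]),([6],[]),([6],[]),([6],[]),([5],[]),([5],[]),([6],[]),([6],[]),([6],[]),([6],[]),([5],[]),([6],[]),([6],[]),([5],[]),([2,4],[]),([6],[]),([6],[]),([5],[]),([3],[]),([3],[]),([2,4],[]),([0],[4])],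
[([4,5],[]),([6],[]),([6],[]),([4,5],[]),([6],[]),([6],[]),([4,5],[]),([0],[5]),([6],[]),([6],[]),([3],[5]),([4,5],[]),([3],[5]),([6],[]),([6],[]),([3],[5]),([4,5],[]),([3],[5]),([6],[]),([6],[]),([4,5],[]),([],[]),([6],[]),([6],[]),([4,5],[]),([6],[]),([6],[]),([6],[]),([6],[]),([4,5],[]),([2,5],[]),([3],[5]),([4,5],[]),([3],[5]),([6],[]),([6],[]),([4,5],[]),([2,5],[]),([6],[]),([6],[]),([4,5],[]),([6],[]),([6],[]),([6],[]),([6],[]),([4,5],[]),([4,5],[]),([6],[]),([6],[]),([6],[]),([6],[]),([4,5],[]),([6],[]),([6],[]),([2,5],[]),([4,5],[]),([6],[]),([6],[]),([3],[5]),([4,5],[]),([3],[5]),([2,5],[]),([0],[5])],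
[([5,6],[]),([4],[]),([4],[]),([5,6],[]),([4],[]),([4],[]),([4],[]),([4],[]),([0],[6]),([5,6],[]),([3],[6]),([4],[]),([4],[]),([3],[6]),([5,6],[]),([3],[6]),([4],[]),([4],[]),([3],[6]),([5,6],[]),([4],[]),([4],[]),([],[]),([5,6],[]),([5,6],[]),([4],[]),([4],[]),([4],[]),([4],[]),([5,6],[]),([2,6],[]),([3],[6]),([4],[]),([4],[]),([3],[6]),([5,6],[]),([4],[]),([4],[]),([2,6],[]),([5,6],[]),([5,6],[]),([4],[]),([4],[]),([4],[]),([4],[]),([5,6],[]),([5,6],[]),([4],[]),([4],[]),([4],[]),([4],[]),([5,6],[]),([5,6],[]),([2,6],[]),([4],[]),([4],[]),([5,6],[]),([3],[6]),([4],[]),([4],[]),([3],[6]),([2,6],[]),([0],[6])],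
[([5],[]),([4],[]),([5],[]),([5],[]),([5],[]),([4],[]),([4],[]),([5],[]),([5],[]),([0,6],[]),([3,6],[]),([4],[]),([5],[]),([5],[]),([3,6],[]),([3,6],[]),([4],[]),([5],[]),([5],[]),([3,6],[]),([4],[]),([5],[]),([5],[]),([],[]),([5],[]),([5],[]),([4],[]),([4],[]),([5],[]),([5],[]),([2],[6]),([3,6],[]),([4],[]),([5],[]),([5],[]),([3,6],[]),([4],[]),([5],[]),([5],[]),([2],[6]),([5],[]),([5],[]),([4],[]),([4],[]),([5],[]),([5],[]),([5],[]),([5],[]),([4],[]),([4],[]),([5],[]),([5],[]),([2],[6]),([5],[]),([5],[]),([4],[]),([3,6],[]),([5],[]),([5],[]),([4],[]),([3,6],[]),([2],[6]),([0,6],[])],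
[([3,5],[]),([6],[]),([6],[]),([0],[5]),([6],[]),([6],[]),([4],[]),([4],[]),([6],[]),([6],[]),([3,5],[]),([4],[]),([4],[]),([6],[]),([6],[]),([3,5],[]),([4],[]),([4],[]),([6],[]),([6],[]),([4],[]),([4],[]),([6],[]),([6],[]),([],[]),([6],[]),([6],[]),([6],[]),([6],[]),([3,5],[]),([2],[]),([2],[]),([4],[]),([4],[]),([6],[]),([6],[]),([4],[]),([4],[]),([6],[]),([6],[]),([2],[]),([6],[]),([6],[]),([6],[]),([6],[]),([2],[]),([2],[]),([6],[]),([6],[]),([6],[]),([6],[]),([2],[]),([6],[]),([6],[]),([4],[]),([4],[]),([6],[]),([6],[]),([4],[]),([4],[]),([2],[]),([2],[]),([0],[5])],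
[([5,6],[]),([5,6],[]),([3,6],[]),([5,6],[]),([0],[6]),([5,6],[]),([2],[]),([2],[]),([2],[]),([2],[]),([3,6],[]),([2],[]),([2],[]),([2],[]),([2],[]),([3,6],[]),([2],[]),([2],[]),([2],[]),([2],[]),([2],[]),([2],[]),([2],[]),([2],[]),([5,6],[]),([],[]),([5,6],[]),([5,6],[]),([3,6],[]),([5,6],[]),([2],[]),([2],[]),([1],[]),([1],[]),([1],[]),([1],[]),([1],[]),([1],[]),([1],[]),([1],[]),([2],[]),([2],[]),([2],[]),([2],[]),([2],[]),([2],[]),([2],[]),([2],[]),([2],[]),([2],[]),([2],[]),([2],[]),([1],[]),([1],[]),([1],[]),([1],[]),([1],[]),([1],[]),([1],[]),([1],[]),([2],[]),([2],[]),([0],[6])],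
[([5],[]),([3],[6]),([5],[]),([5],[]),([5],[]),([0,6],[]),([2],[]),([5],[]),([5],[]),([2],[]),([3],[6]),([2],[]),([5],[]),([5],[]),([2],[]),([3],[6]),([2],[]),([5],[]),([5],[]),([2],[]),([2],[]),([5],[]),([5],[]),([2],[]),([5],[]),([5],[]),([],[]),([3],[6]),([5],[]),([5],[]),([2],[]),([2],[]),([1],[]),([5],[]),([5],[]),([1],[]),([1],[]),([5],[]),([5],[]),([1],[]),([5],[]),([5],[]),([2],[]),([2],[]),([5],[]),([5],[]),([5],[]),([5],[]),([2],[]),([2],[]),([5],[]),([5],[]),([1],[]),([5],[]),([5],[]),([1],[]),([1],[]),([5],[]),([5],[]),([1],[]),([2],[]),([2],[]),([0,6],[])],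
[([5],[]),([0],[6]),([5],[]),([5],[]),([5],[]),([3],[]),([2],[]),([5],[]),([5],[]),([3],[]),([3],[]),([3],[]),([5],[]),([5],[]),([2],[]),([3],[]),([3],[]),([5],[]),([5],[]),([2],[]),([2],[]),([5],[]),([5],[]),([3],[]),([5],[]),([5],[]),([3],[]),([],[]),([5],[]),([5],[]),([2],[]),([3],[]),([3],[]),([5],[]),([5],[]),([1],[]),([1],[]),([5],[]),([5],[]),([3],[]),([5],[]),([5],[]),([3],[]),([2],[]),([5],[]),([5],[]),([5],[]),([5],[]),([2],[]),([3],[]),([5],[]),([5],[]),([3],[]),([5],[]),([5],[]),([1],[]),([1],[]),([5],[]),([5],[]),([3],[]),([3],[]),([2],[]),([0],[6])],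
[([5,6],[]),([5,6],[]),([0,6],[]),([3],[]),([3],[]),([3],[]),([2],[]),([3],[]),([3],[]),([3],[]),([3],[]),([3],[]),([2],[]),([2],[]),([2],[]),([3],[]),([3],[]),([2],[]),([2],[]),([2],[]),([2],[]),([3],[]),([3],[]),([3],[]),([3],[]),([3],[]),([3],[]),([5,6],[]),([],[]),([5,6],[]),([2],[]),([3],[]),([3],[]),([1],[]),([1],[]),([1],[]),([1],[]),([3],[]),([3],[]),([3],[]),([3],[]),([3],[]),([3],[]),([2],[]),([2],[]),([2],[]),([2],[]),([2],[]),([2],[]),([3],[]),([3],[]),([3],[]),([3],[]),([3],[]),([3],[]),([1],[]),([1],[]),([1],[]),([1],[]),([3],[]),([3],[]),([2],[]),([0,6],[])],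
[([0,5],[]),([6],[]),([6],[]),([3],[]),([6],[]),([6],[]),([4],[]),([4],[]),([6],[]),([6],[]),([3],[]),([4],[]),([4],[]),([6],[]),([6],[]),([3],[]),([4],[]),([4],[]),([6],[]),([6],[]),([4],[]),([4],[]),([6],[]),([6],[]),([3],[]),([6],[]),([6],[]),([6],[]),([6],[]),([],[]),([2],[]),([3],[]),([4],[]),([4],[]),([6],[]),([6],[]),([4],[]),([4],[]),([6],[]),([6],[]),([3],[]),([6],[]),([6],[]),([6],[]),([6],[]),([2],[]),([2],[]),([6],[]),([6],[]),([6],[]),([6],[]),([3],[]),([6],[]),([6],[]),([4],[]),([4],[]),([6],[]),([6],[]),([4],[]),([4],[]),([3],[]),([2],[]),([0,5],[])],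
[([5],[]),([6],[]),([6],[]),([5],[]),([6],[]),([6],[]),([4],[]),([5],[]),([6],[]),([6],[]),([3],[]),([4],[]),([5],[]),([6],[]),([6],[]),([3],[]),([4],[]),([5],[]),([6],[]),([6],[]),([4],[]),([5],[]),([6],[]),([6],[]),([5],[]),([6],[]),([6],[]),([6],[]),([6],[]),([5],[]),([],[]),([3],[]),([4],[]),([5],[]),([6],[]),([6],[]),([4],[]),([5],[]),([6],[]),([6],[]),([5],[]),([6],[]),([6],[]),([6],[]),([6],[]),([5],[]),([5],[]),([6],[]),([6],[]),([6],[]),([6],[]),([5],[]),([6],[]),([6],[]),([5],[]),([4],[]),([6],[]),([6],[]),([5],[]),([4],[]),([3],[]),([0,2,2],[]),([0,2,2],[])],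
[([5],[]),([6],[]),([6],[]),([5],[]),([6],[]),([6],[]),([4],[]),([5],[]),([6],[]),([6],[]),([2,3],[]),([4],[]),([5],[]),([6],[]),([6],[]),([2,3],[]),([4],[]),([5],[]),([6],[]),([6],[]),([4],[]),([5],[]),([6],[]),([6],[]),([5],[]),([6],[]),([6],[]),([6],[]),([6],[]),([5],[]),([2,3],[]),([],[]),([4],[]),([5],[]),([6],[]),([6],[]),([4],[]),([5],[]),([6],[]),([6],[]),([5],[]),([6],[]),([6],[]),([6],[]),([6],[]),([5],[]),([5],[]),([6],[]),([6],[]),([6],[]),([6],[]),([5],[]),([6],[]),([6],[]),([5],[]),([4],[]),([6],[]),([6],[]),([5],[]),([4],[]),([0,3],[]),([2,3],[]),([0,3],[])],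
[([5],[]),([6],[]),([6],[]),([5],[]),([6],[]),([6],[]),([2],[]),([5],[]),([6],[]),([6],[]),([3,4],[]),([2],[]),([5],[]),([6],[]),([6],[]),([3,4],[]),([2],[]),([5],[]),([6],[]),([6],[]),([2],[]),([5],[]),([6],[]),([6],[]),([5],[]),([6],[]),([6],[]),([6],[]),([6],[]),([5],[]),([2],[]),([2],[]),([],[]),([5],[]),([6],[]),([6],[]),([3,4],[]),([5],[]),([6],[]),([6],[]),([5],[]),([6],[]),([6],[]),([6],[]),([6],[]),([5],[]),([5],[]),([6],[]),([6],[]),([6],[]),([6],[]),([5],[]),([6],[]),([6],[]),([5],[]),([3,4],[]),([6],[]),([6],[]),([5],[]),([0,4],[]),([2],[]),([2],[]),([0,4],[])],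
[([4,5],[]),([6],[]),([6],[]),([3],[]),([6],[]),([6],[]),([2],[]),([3],[]),([6],[]),([6],[]),([3],[]),([3],[]),([2],[]),([6],[]),([6],[]),([3],[]),([3],[]),([2],[]),([6],[]),([6],[]),([2],[]),([3],[]),([6],[]),([6],[]),([3],[]),([6],[]),([6],[]),([6],[]),([6],[]),([4,5],[]),([2],[]),([3],[]),([3],[]),([],[]),([6],[]),([6],[]),([4,5],[]),([3],[]),([6],[]),([6],[]),([3],[]),([6],[]),([6],[]),([6],[]),([6],[]),([2],[]),([2],[]),([6],[]),([6],[]),([6],[]),([6],[]),([3],[]),([6],[]),([6],[]),([3],[]),([4,5],[]),([6],[]),([6],[]),([0,5],[]),([3],[]),([3],[]),([2],[]),([0,5],[])],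
[([5,6],[]),([4],[]),([4],[]),([3],[]),([4],[]),([4],[]),([4],[]),([4],[]),([3],[]),([3],[]),([3],[]),([4],[]),([4],[]),([2],[]),([2],[]),([3],[]),([4],[]),([4],[]),([2],[]),([2],[]),([4],[]),([4],[]),([3],[]),([3],[]),([3],[]),([4],[]),([4],[]),([4],[]),([4],[]),([5,6],[]),([2],[]),([3],[]),([4],[]),([4],[]),([],[]),([5,6],[]),([4],[]),([4],[]),([3],[]),([3],[]),([3],[]),([4],[]),([4],[]),([4],[]),([4],[]),([2],[]),([2],[]),([4],[]),([4],[]),([4],[]),([4],[]),([3],[]),([3],[]),([3],[]),([4],[]),([4],[]),([5,6],[]),([0,6],[]),([4],[]),([4],[]),([3],[]),([2],[]),([0,6],[])],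
[([5],[]),([4],[]),([5],[]),([5],[]),([5],[]),([4],[]),([4],[]),([5],[]),([5],[]),([3],[]),([3],[]),([4],[]),([5],[]),([5],[]),([2],[]),([3],[]),([4],[]),([5],[]),([5],[]),([2],[]),([4],[]),([5],[]),([5],[]),([3],[]),([5],[]),([5],[]),([4],[]),([4],[]),([5],[]),([5],[]),([2],[]),([3],[]),([4],[]),([5],[]),([5],[]),([],[]),([4],[]),([5],[]),([5],[]),([3],[]),([5],[]),([5],[]),([4],[]),([4],[]),([5],[]),([5],[]),([5],[]),([5],[]),([4],[]),([4],[]),([5],[]),([5],[]),([3],[]),([5],[]),([5],[]),([4],[]),([0],[6]),([5],[]),([5],[]),([4],[]),([3],[]),([2],[]),([0],[6])],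
[([5],[]),([6],[]),([6],[]),([5],[]),([6],[]),([6],[]),([2],[]),([5],[]),([6],[]),([6],[]),([3],[]),([3],[]),([5],[]),([6],[]),([6],[]),([3],[]),([3],[]),([5],[]),([6],[]),([6],[]),([2],[]),([5],[]),([6],[]),([6],[]),([5],[]),([6],[]),([6],[]),([6],[]),([6],[]),([5],[]),([2],[]),([3],[]),([3],[]),([5],[]),([6],[]),([6],[]),([],[]),([5],[]),([6],[]),([6],[]),([5],[]),([6],[]),([6],[]),([6],[]),([6],[]),([5],[]),([5],[]),([6],[]),([6],[]),([6],[]),([6],[]),([5],[]),([6],[]),([6],[]),([5],[]),([0,4],[]),([6],[]),([6],[]),([5],[]),([3],[]),([3],[]),([2],[]),([0,4],[])],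
[([4,5],[]),([6],[]),([6],[]),([4,5],[]),([6],[]),([6],[]),([2],[]),([2],[]),([6],[]),([6],[]),([3],[5]),([2],[]),([2],[]),([6],[]),([6],[]),([3],[5]),([2],[]),([2],[]),([6],[]),([6],[]),([2],[]),([2],[]),([6],[]),([6],[]),([4,5],[]),([6],[]),([6],[]),([6],[]),([6],[]),([4,5],[]),([2],[]),([2],[]),([4,5],[]),([3],[5]),([6],[]),([6],[]),([4,5],[]),([],[]),([6],[]),([6],[]),([2],[]),([6],[]),([6],[]),([6],[]),([6],[]),([2],[]),([2],[]),([6],[]),([6],[]),([6],[]),([6],[]),([2],[]),([6],[]),([6],[]),([0,5],[]),([4,5],[]),([6],[]),([6],[]),([3],[5]),([4,5],[]),([2],[]),([2],[]),([0,5],[])],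
[([5,6],[]),([4],[]),([4],[]),([5,6],[]),([4],[]),([4],[]),([4],[]),([4],[]),([2],[]),([2],[]),([3],[6]),([4],[]),([4],[]),([2],[]),([2],[]),([3],[6]),([4],[]),([4],[]),([2],[]),([2],[]),([4],[]),([4],[]),([2],[]),([2],[]),([5,6],[]),([4],[]),([4],[]),([4],[]),([4],[]),([5,6],[]),([2],[]),([2],[]),([4],[]),([4],[]),([3],[6]),([5,6],[]),([4],[]),([4],[]),([],[]),([5,6],[]),([2],[]),([4],[]),([4],[]),([4],[]),([4],[]),([2],[]),([2],[]),([4],[]),([4],[]),([4],[]),([4],[]),([2],[]),([5,6],[]),([0,6],[]),([4],[]),([4],[]),([5,6],[]),([3],[6]),([4],[]),([4],[]),([2],[]),([2],[]),([0,6],[])],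
[([5],[]),([4],[]),([5],[]),([5],[]),([5],[]),([4],[]),([4],[]),([5],[]),([5],[]),([2],[]),([3,6],[]),([4],[]),([5],[]),([5],[]),([2],[]),([3,6],[]),([4],[]),([5],[]),([5],[]),([2],[]),([4],[]),([5],[]),([5],[]),([2],[]),([5],[]),([5],[]),([4],[]),([4],[]),([5],[]),([5],[]),([2],[]),([2],[]),([4],[]),([5],[]),([5],[]),([3,6],[]),([4],[]),([5],[]),([5],[]),([],[]),([5],[]),([5],[]),([4],[]),([4],[]),([5],[]),([5],[]),([5],[]),([5],[]),([4],[]),([4],[]),([5],[]),([5],[]),([0],[6]),([5],[]),([5],[]),([4],[]),([3,6],[]),([5],[]),([5],[]),([4],[]),([2],[]),([2],[]),([0],[6])],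
[([3,5],[]),([6],[]),([6],[]),([2],[5]),([6],[]),([6],[]),([4],[]),([4],[]),([6],[]),([6],[]),([3,5],[]),([4],[]),([4],[]),([6],[]),([6],[]),([3,5],[]),([4],[]),([4],[]),([6],[]),([6],[]),([4],[]),([4],[]),([6],[]),([6],[]),([2],[5]),([6],[]),([6],[]),([6],[]),([6],[]),([3,5],[]),([2],[5]),([3,5],[]),([4],[]),([4],[]),([6],[]),([6],[]),([4],[]),([4],[]),([6],[]),([6],[]),([],[]),([6],[]),([6],[]),([6],[]),([6],[]),([3,5],[]),([3,5],[]),([6],[]),([6],[]),([6],[]),([6],[]),([0,5],[]),([6],[]),([6],[]),([4],[]),([4],[]),([6],[]),([6],[]),([4],[]),([4],[]),([3,5],[]),([2],[5]),([0,5],[])],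
[([5,6],[]),([5,6],[]),([3,6],[]),([5,6],[]),([2],[6]),([5,6],[]),([1],[]),([1],[]),([1],[]),([1],[]),([3,6],[]),([1],[]),([1],[]),([1],[]),([1],[]),([3,6],[]),([1],[]),([1],[]),([1],[]),([1],[]),([1],[]),([1],[]),([1],[]),([1],[]),([5,6],[]),([2],[6]),([5,6],[]),([5,6],[]),([3,6],[]),([5,6],[]),([2],[6]),([3,6],[]),([1],[]),([1],[]),([1],[]),([1],[]),([1],[]),([1],[]),([1],[]),([1],[]),([5,6],[]),([],[]),([5,6],[]),([5,6],[]),([3,6],[]),([5,6],[]),([5,6],[]),([3,6],[]),([5,6],[]),([5,6],[]),([0,6],[]),([5,6],[]),([1],[]),([1],[]),([1],[]),([1],[]),([1],[]),([1],[]),([1],[]),([1],[]),([3,6],[]),([2],[6]),([0,6],[])],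
[([5],[]),([3],[6]),([5],[]),([5],[]),([5],[]),([2,6],[]),([1],[]),([5],[]),([5],[]),([1],[]),([3],[6]),([1],[]),([5],[]),([5],[]),([1],[]),([3],[6]),([1],[]),([5],[]),([5],[]),([1],[]),([1],[]),([5],[]),([5],[]),([1],[]),([5],[]),([5],[]),([2,6],[]),([3],[6]),([5],[]),([5],[]),([2,6],[]),([3],[6]),([1],[]),([5],[]),([5],[]),([1],[]),([1],[]),([5],[]),([5],[]),([1],[]),([5],[]),([5],[]),([],[]),([3],[6]),([5],[]),([5],[]),([5],[]),([5],[]),([3],[6]),([0],[6]),([5],[]),([5],[]),([1],[]),([5],[]),([5],[]),([1],[]),([1],[]),([5],[]),([5],[]),([1],[]),([3],[6]),([2,6],[]),([0],[6])],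
[([5],[]),([2],[6]),([5],[]),([5],[]),([5],[]),([3],[]),([1],[]),([5],[]),([5],[]),([3],[]),([3],[]),([3],[]),([5],[]),([5],[]),([1],[]),([3],[]),([3],[]),([5],[]),([5],[]),([1],[]),([1],[]),([5],[]),([5],[]),([3],[]),([5],[]),([5],[]),([3],[]),([2],[6]),([5],[]),([5],[]),([2],[6]),([3],[]),([3],[]),([5],[]),([5],[]),([1],[]),([1],[]),([5],[]),([5],[]),([3],[]),([5],[]),([5],[]),([3],[]),([],[]),([5],[]),([5],[]),([5],[]),([5],[]),([0,6],[]),([3],[]),([5],[]),([5],[]),([3],[]),([5],[]),([5],[]),([1],[]),([1],[]),([5],[]),([5],[]),([3],[]),([3],[]),([2],[6]),([0,6],[])],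
[([5,6],[]),([5,6],[]),([2,6],[]),([3],[]),([3],[]),([3],[]),([1],[]),([3],[]),([3],[]),([3],[]),([3],[]),([3],[]),([1],[]),([1],[]),([1],[]),([3],[]),([3],[]),([1],[]),([1],[]),([1],[]),([1],[]),([3],[]),([3],[]),([3],[]),([3],[]),([3],[]),([3],[]),([5,6],[]),([2,6],[]),([5,6],[]),([2,6],[]),([3],[]),([3],[]),([1],[]),([1],[]),([1],[]),([1],[]),([3],[]),([3],[]),([3],[]),([3],[]),([3],[]),([3],[]),([5,6],[]),([],[]),([5,6],[]),([5,6],[]),([0],[6]),([5,6],[]),([3],[]),([3],[]),([3],[]),([3],[]),([3],[]),([3],[]),([1],[]),([1],[]),([1],[]),([1],[]),([3],[]),([3],[]),([2,6],[]),([0],[6])],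
[([2,5],[]),([6],[]),([6],[]),([3],[]),([6],[]),([6],[]),([4],[]),([4],[]),([6],[]),([6],[]),([3],[]),([4],[]),([4],[]),([6],[]),([6],[]),([3],[]),([4],[]),([4],[]),([6],[]),([6],[]),([4],[]),([4],[]),([6],[]),([6],[]),([3],[]),([6],[]),([6],[]),([6],[]),([6],[]),([2,5],[]),([2,5],[]),([3],[]),([4],[]),([4],[]),([6],[]),([6],[]),([4],[]),([4],[]),([6],[]),([6],[]),([3],[]),([6],[]),([6],[]),([6],[]),([6],[]),([],[]),([0],[5]),([6],[]),([6],[]),([6],[]),([6],[]),([3],[]),([6],[]),([6],[]),([4],[]),([4],[]),([6],[]),([6],[]),([4],[]),([4],[]),([3],[]),([2,5],[]),([0],[5])],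
[([2,5],[]),([6],[]),([6],[]),([3],[]),([6],[]),([6],[]),([4],[]),([4],[]),([6],[]),([6],[]),([3],[]),([4],[]),([4],[]),([6],[]),([6],[]),([3],[]),([4],[]),([4],[]),([6],[]),([6],[]),([4],[]),([4],[]),([6],[]),([6],[]),([3],[]),([6],[]),([6],[]),([6],[]),([6],[]),([0],[]),([2,5],[]),([3],[]),([4],[]),([4],[]),([6],[]),([6],[]),([4],[]),([4],[]),([6],[]),([6],[]),([3],[]),([6],[]),([6],[]),([6],[]),([6],[]),([0],[]),([],[]),([6],[]),([6],[]),([6],[]),([6],[]),([3],[]),([6],[]),([6],[]),([4],[]),([4],[]),([6],[]),([6],[]),([4],[]),([4],[]),([3],[]),([0],[]),([0],[])],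
[([5,6],[]),([5,6],[]),([2,6],[]),([3],[]),([3],[]),([3],[]),([1],[]),([3],[]),([3],[]),([3],[]),([3],[]),([3],[]),([1],[]),([1],[]),([1],[]),([3],[]),([3],[]),([1],[]),([1],[]),([1],[]),([1],[]),([3],[]),([3],[]),([3],[]),([3],[]),([3],[]),([3],[]),([0],[]),([0],[]),([0],[]),([2,6],[]),([3],[]),([3],[]),([1],[]),([1],[]),([1],[]),([1],[]),([3],[]),([3],[]),([3],[]),([3],[]),([3],[]),([3],[]),([0],[]),([0],[]),([0],[]),([5,6],[]),([],[]),([5,6],[]),([3],[]),([3],[]),([3],[]),([3],[]),([3],[]),([3],[]),([1],[]),([1],[]),([1],[]),([1],[]),([3],[]),([3],[]),([0],[]),([0],[])],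
[([5],[]),([2],[6]),([5],[]),([5],[]),([5],[]),([3],[]),([1],[]),([5],[]),([5],[]),([3],[]),([3],[]),([3],[]),([5],[]),([5],[]),([1],[]),([3],[]),([3],[]),([5],[]),([5],[]),([1],[]),([1],[]),([5],[]),([5],[]),([3],[]),([5],[]),([5],[]),([3],[]),([0],[]),([5],[]),([5],[]),([2],[6]),([3],[]),([3],[]),([5],[]),([5],[]),([1],[]),([1],[]),([5],[]),([5],[]),([3],[]),([5],[]),([5],[]),([3],[]),([0],[]),([5],[]),([5],[]),([5],[]),([5],[]),([],[]),([3],[]),([5],[]),([5],[]),([3],[]),([5],[]),([5],[]),([1],[]),([1],[]),([5],[]),([5],[]),([3],[]),([3],[]),([0],[]),([0],[])],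
[([5],[]),([3],[6]),([5],[]),([5],[]),([5],[]),([2,6],[]),([1],[]),([5],[]),([5],[]),([1],[]),([0],[]),([1],[]),([5],[]),([5],[]),([1],[]),([3],[6]),([1],[]),([5],[]),([5],[]),([1],[]),([1],[]),([5],[]),([5],[]),([1],[]),([5],[]),([5],[]),([0],[]),([0],[]),([5],[]),([5],[]),([2,6],[]),([0],[]),([1],[]),([5],[]),([5],[]),([1],[]),([1],[]),([5],[]),([5],[]),([1],[]),([5],[]),([5],[]),([0],[]),([0],[]),([5],[]),([5],[]),([5],[]),([5],[]),([3],[6]),([],[]),([5],[]),([5],[]),([1],[]),([5],[]),([5],[]),([1],[]),([1],[]),([5],[]),([5],[]),([1],[]),([3],[6]),([0],[]),([0],[])],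
[([5,6],[]),([5,6],[]),([3,6],[]),([5,6],[]),([2],[6]),([5,6],[]),([1],[]),([1],[]),([1],[]),([1],[]),([0],[]),([1],[]),([1],[]),([1],[]),([1],[]),([3,6],[]),([1],[]),([1],[]),([1],[]),([1],[]),([1],[]),([1],[]),([1],[]),([1],[]),([0],[]),([0],[]),([0],[]),([0],[]),([0],[]),([0],[]),([2],[6]),([0],[]),([1],[]),([1],[]),([1],[]),([1],[]),([1],[]),([1],[]),([1],[]),([1],[]),([0],[]),([0],[]),([0],[]),([0],[]),([0],[]),([0],[]),([5,6],[]),([3,6],[]),([5,6],[]),([5,6],[]),([],[]),([5,6],[]),([1],[]),([1],[]),([1],[]),([1],[]),([1],[]),([1],[]),([1],[]),([1],[]),([3,6],[]),([0],[]),([0],[])],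
[([3,5],[]),([6],[]),([6],[]),([2],[5]),([6],[]),([6],[]),([4],[]),([4],[]),([6],[]),([6],[]),([0],[]),([4],[]),([4],[]),([6],[]),([6],[]),([3,5],[]),([4],[]),([4],[]),([6],[]),([6],[]),([4],[]),([4],[]),([6],[]),([6],[]),([0],[]),([6],[]),([6],[]),([6],[]),([6],[]),([0],[]),([2],[5]),([0],[]),([4],[]),([4],[]),([6],[]),([6],[]),([4],[]),([4],[]),([6],[]),([6],[]),([0],[]),([6],[]),([6],[]),([6],[]),([6],[]),([0],[]),([3,5],[]),([6],[]),([6],[]),([6],[]),([6],[]),([],[]),([6],[]),([6],[]),([4],[]),([4],[]),([6],[]),([6],[]),([4],[]),([4],[]),([3,5],[]),([0],[]),([0],[])],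
[([5],[]),([4],[]),([5],[]),([5],[]),([5],[]),([4],[]),([4],[]),([5],[]),([5],[]),([2],[]),([0],[]),([4],[]),([5],[]),([5],[]),([2],[]),([3,6],[]),([4],[]),([5],[]),([5],[]),([2],[]),([4],[]),([5],[]),([5],[]),([2],[]),([5],[]),([5],[]),([4],[]),([4],[]),([5],[]),([5],[]),([2],[]),([2],[]),([4],[]),([5],[]),([5],[]),([0],[]),([4],[]),([5],[]),([5],[]),([0],[]),([5],[]),([5],[]),([4],[]),([4],[]),([5],[]),([5],[]),([5],[]),([5],[]),([4],[]),([4],[]),([5],[]),([5],[]),([],[]),([5],[]),([5],[]),([4],[]),([3,6],[]),([5],[]),([5],[]),([4],[]),([2],[]),([2],[]),([0],[])],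
[([5,6],[]),([4],[]),([4],[]),([5,6],[]),([4],[]),([4],[]),([4],[]),([4],[]),([2],[]),([2],[]),([0],[]),([4],[]),([4],[]),([2],[]),([2],[]),([3],[6]),([4],[]),([4],[]),([2],[]),([2],[]),([4],[]),([4],[]),([2],[]),([2],[]),([0],[]),([4],[]),([4],[]),([4],[]),([4],[]),([0],[]),([2],[]),([2],[]),([4],[]),([4],[]),([0],[]),([0],[]),([4],[]),([4],[]),([0],[]),([0],[]),([2],[]),([4],[]),([4],[]),([4],[]),([4],[]),([2],[]),([2],[]),([4],[]),([4],[]),([4],[]),([4],[]),([2],[]),([5,6],[]),([],[]),([4],[]),([4],[]),([5,6],[]),([3],[6]),([4],[]),([4],[]),([2],[]),([2],[]),([0],[])],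
[([4,5],[]),([6],[]),([6],[]),([4,5],[]),([6],[]),([6],[]),([2],[]),([2],[]),([6],[]),([6],[]),([0],[]),([2],[]),([2],[]),([6],[]),([6],[]),([3],[5]),([2],[]),([2],[]),([6],[]),([6],[]),([2],[]),([2],[]),([6],[]),([6],[]),([0],[]),([6],[]),([6],[]),([6],[]),([6],[]),([0],[]),([2],[]),([2],[]),([0],[]),([0],[]),([6],[]),([6],[]),([0],[]),([0],[]),([6],[]),([6],[]),([2],[]),([6],[]),([6],[]),([6],[]),([6],[]),([2],[]),([2],[]),([6],[]),([6],[]),([6],[]),([6],[]),([2],[]),([6],[]),([6],[]),([],[]),([4,5],[]),([6],[]),([6],[]),([3],[5]),([4,5],[]),([2],[]),([2],[]),([0],[])],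
[([5],[]),([6],[]),([6],[]),([5],[]),([6],[]),([6],[]),([2],[]),([5],[]),([6],[]),([6],[]),([3],[]),([3],[]),([5],[]),([6],[]),([6],[]),([3],[]),([3],[]),([5],[]),([6],[]),([6],[]),([2],[]),([5],[]),([6],[]),([6],[]),([5],[]),([6],[]),([6],[]),([6],[]),([6],[]),([5],[]),([2],[]),([3],[]),([3],[]),([5],[]),([6],[]),([6],[]),([0],[]),([5],[]),([6],[]),([6],[]),([5],[]),([6],[]),([6],[]),([6],[]),([6],[]),([5],[]),([5],[]),([6],[]),([6],[]),([6],[]),([6],[]),([5],[]),([6],[]),([6],[]),([5],[]),([],[]),([6],[]),([6],[]),([5],[]),([3],[]),([3],[]),([2],[]),([0],[])],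
[([5],[]),([4],[]),([5],[]),([5],[]),([5],[]),([4],[]),([4],[]),([5],[]),([5],[]),([3],[]),([3],[]),([4],[]),([5],[]),([5],[]),([2],[]),([3],[]),([4],[]),([5],[]),([5],[]),([2],[]),([4],[]),([5],[]),([5],[]),([3],[]),([5],[]),([5],[]),([4],[]),([4],[]),([5],[]),([5],[]),([2],[]),([3],[]),([4],[]),([5],[]),([5],[]),([0],[]),([4],[]),([5],[]),([5],[]),([3],[]),([5],[]),([5],[]),([4],[]),([4],[]),([5],[]),([5],[]),([5],[]),([5],[]),([4],[]),([4],[]),([5],[]),([5],[]),([3],[]),([5],[]),([5],[]),([4],[]),([],[]),([5],[]),([5],[]),([4],[]),([3],[]),([2],[]),([0],[])],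
[([5,6],[]),([4],[]),([4],[]),([3],[]),([4],[]),([4],[]),([4],[]),([4],[]),([3],[]),([3],[]),([3],[]),([4],[]),([4],[]),([2],[]),([2],[]),([3],[]),([4],[]),([4],[]),([2],[]),([2],[]),([4],[]),([4],[]),([3],[]),([3],[]),([3],[]),([4],[]),([4],[]),([4],[]),([4],[]),([0],[]),([2],[]),([3],[]),([4],[]),([4],[]),([0],[]),([0],[]),([4],[]),([4],[]),([3],[]),([3],[]),([3],[]),([4],[]),([4],[]),([4],[]),([4],[]),([2],[]),([2],[]),([4],[]),([4],[]),([4],[]),([4],[]),([3],[]),([3],[]),([3],[]),([4],[]),([4],[]),([5,6],[]),([],[]),([4],[]),([4],[]),([3],[]),([2],[]),([0],[])],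
[([4,5],[]),([6],[]),([6],[]),([3],[]),([6],[]),([6],[]),([2],[]),([3],[]),([6],[]),([6],[]),([3],[]),([3],[]),([2],[]),([6],[]),([6],[]),([3],[]),([3],[]),([2],[]),([6],[]),([6],[]),([2],[]),([3],[]),([6],[]),([6],[]),([3],[]),([6],[]),([6],[]),([6],[]),([6],[]),([0],[]),([2],[]),([3],[]),([3],[]),([0],[]),([6],[]),([6],[]),([0],[]),([3],[]),([6],[]),([6],[]),([3],[]),([6],[]),([6],[]),([6],[]),([6],[]),([2],[]),([2],[]),([6],[]),([6],[]),([6],[]),([6],[]),([3],[]),([6],[]),([6],[]),([3],[]),([4,5],[]),([6],[]),([6],[]),([],[]),([3],[]),([3],[]),([2],[]),([0],[])],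
[([5],[]),([6],[]),([6],[]),([5],[]),([6],[]),([6],[]),([2],[]),([5],[]),([6],[]),([6],[]),([0],[]),([2],[]),([5],[]),([6],[]),([6],[]),([3,4],[]),([2],[]),([5],[]),([6],[]),([6],[]),([2],[]),([5],[]),([6],[]),([6],[]),([5],[]),([6],[]),([6],[]),([6],[]),([6],[]),([5],[]),([2],[]),([2],[]),([0],[]),([5],[]),([6],[]),([6],[]),([0],[]),([5],[]),([6],[]),([6],[]),([5],[]),([6],[]),([6],[]),([6],[]),([6],[]),([5],[]),([5],[]),([6],[]),([6],[]),([6],[]),([6],[]),([5],[]),([6],[]),([6],[]),([5],[]),([3,4],[]),([6],[]),([6],[]),([5],[]),([],[]),([2],[]),([2],[]),([0],[])],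
[([5],[]),([6],[]),([6],[]),([5],[]),([6],[]),([6],[]),([4],[]),([5],[]),([6],[]),([6],[]),([0],[]),([4],[]),([5],[]),([6],[]),([6],[]),([2,3],[]),([4],[]),([5],[]),([6],[]),([6],[]),([4],[]),([5],[]),([6],[]),([6],[]),([5],[]),([6],[]),([6],[]),([6],[]),([6],[]),([5],[]),([2,3],[]),([0],[]),([4],[]),([5],[]),([6],[]),([6],[]),([4],[]),([5],[]),([6],[]),([6],[]),([5],[]),([6],[]),([6],[]),([6],[]),([6],[]),([5],[]),([5],[]),([6],[]),([6],[]),([6],[]),([6],[]),([5],[]),([6],[]),([6],[]),([5],[]),([4],[]),([6],[]),([6],[]),([5],[]),([4],[]),([],[]),([0],[]),([0],[])],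
[([5],[]),([6],[]),([6],[]),([5],[]),([6],[]),([6],[]),([4],[]),([5],[]),([6],[]),([6],[]),([3],[]),([4],[]),([5],[]),([6],[]),([6],[]),([3],[]),([4],[]),([5],[]),([6],[]),([6],[]),([4],[]),([5],[]),([6],[]),([6],[]),([5],[]),([6],[]),([6],[]),([6],[]),([6],[]),([5],[]),([0,2],[]),([3],[]),([4],[]),([5],[]),([6],[]),([6],[]),([4],[]),([5],[]),([6],[]),([6],[]),([5],[]),([6],[]),([6],[]),([6],[]),([6],[]),([5],[]),([5],[]),([6],[]),([6],[]),([6],[]),([6],[]),([5],[]),([6],[]),([6],[]),([5],[]),([4],[]),([6],[]),([6],[]),([5],[]),([4],[]),([3],[]),([],[]),([0,2],[])],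
[([5],[]),([6],[]),([6],[]),([5],[]),([6],[]),([6],[]),([4],[]),([5],[]),([6],[]),([6],[]),([3],[]),([4],[]),([5],[]),([6],[]),([6],[]),([3],[]),([4],[]),([5],[]),([6],[]),([6],[]),([4],[]),([5],[]),([6],[]),([6],[]),([5],[]),([6],[]),([6],[]),([6],[]),([6],[]),([5],[]),([2],[]),([3],[]),([4],[]),([5],[]),([6],[]),([6],[]),([4],[]),([5],[]),([6],[]),([6],[]),([5],[]),([6],[]),([6],[]),([6],[]),([6],[]),([5],[]),([5],[]),([6],[]),([6],[]),([6],[]),([6],[]),([5],[]),([6],[]),([6],[]),([5],[]),([4],[]),([6],[]),([6],[]),([5],[]),([4],[]),([3],[]),([2],[]),([],[])]]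

set_option maxRecDepth 1000000 in
theorem sepTableE7_ok : sepTbl chevE7 alE chevE7.posRoots sepTableE7 = true := by
  decide +kernel

end Cfsg.Agent.Lib.Helper8.WC
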