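import Mathlib
import Cfsg.Agent.Lib.Helper8.WCSepA

set_option autoImplicit false

/-!
S2244 unit U1: the separation table of type `E8` (generated, checked by the kernel).
-/

namespace Cfsg.Agent.Lib.Helper8.WC

open Cfsg Cfsg.Lie

set_option maxHeartbeats 2000000 in
/-- part 0 of the separation table of `E8` -/
def sepTableE8_0 : List (List (List ℕ × List ℕ)) := [
[([],[]),([5],[]),([5],[]),([4],[]),([5],[]),([5],[]),([5],[]),([5],[]),([4],[]),([4],[]),([4],[]),([5],[]),([5],[]),([3],[]),([3],[]),([3],[]),([4],[]),([5],[]),([5],[]),([2],[]),([2],[]),([3],[]),([4],[]),([5],[]),([5],[]),([2],[]),([2],[]),([4],[]),([5],[]),([5],[]),([3],[]),([3],[]),([5],[]),([5],[]),([4],[]),([4],[]),([4],[]),([5],[]),([5],[]),([5],[]),([5],[]),([0],[]),([2],[]),([3],[]),([4],[]),([5],[]),([5],[]),([1],[]),([1],[]),([4],[]),([5],[]),([5],[]),([3],[]),([3],[]),([5],[]),([5],[]),([4],[]),([4],[]),([4],[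]),([5],[]),([5],[]),([5],[]),([5],[]),([2],[]),([5],[]),([5],[]),([4],[]),([4],[]),([4],[]),([5],[]),([5],[]),([5],[]),([5],[]),([3],[]),([3],[]),([5],[]),([5],[]),([5],[]),([5],[]),([4],[]),([4],[]),([4],[]),([5],[]),([5],[]),([1],[]),([5],[]),([5],[]),([5],[]),([5],[]),([4],[]),([4],[]),([4],[]),([5],[]),([5],[]),([3],[]),([3],[]),([5],[]),([5],[]),([4],[]),([2],[]),([2],[]),([5],[]),([5],[]),([4],[]),([3],[]),([1],[]),([0],[]),([0],[]),([5],[]),([5],[]),([4],[]),([3],[]),([2],[]),([2],[]),([3],[]),([4],[]),([5],[]),([5],[]),([6,6,7],[]),([6,6,7],[])],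
[([5,6,7],[]),([],[]),([5,6,7],[]),([4],[]),([4],[]),([4],[]),([3],[]),([4],[]),([4],[]),([4],[]),([4],[]),([4],[]),([3],[]),([3],[]),([3],[]),([3],[]),([4],[]),([4],[]),([2],[]),([2],[]),([2],[]),([3],[]),([4],[]),([4],[]),([2],[]),([2],[]),([2],[]),([4],[]),([4],[]),([3],[]),([3],[]),([3],[]),([3],[]),([4],[]),([4],[]),([4],[]),([4],[]),([4],[]),([4],[]),([0],[]),([0],[]),([0],[]),([2],[]),([3],[]),([4],[]),([4],[]),([1],[]),([1],[]),([1],[]),([4],[]),([4],[]),([3],[]),([3],[]),([3],[]),([3],[]),([4],[]),([4],[]),([4],[]),([4],[]),([4],[]),([4],[]),([2],[]),([2],[]),([2],[]),([2],[]),([4],[]),([4],[]),([4],[]),([4],[]),([4],[]),([4],[]),([3],[]),([3],[]),([3],[]),([3],[]),([3],[]),([3],[]),([4],[]),([4],[]),([4],[]),([4],[]),([4],[]),([4],[]),([1],[]),([1],[]),([1],[]),([1],[]),([4],[]),([4],[]),([4],[]),([4],[]),([4],[]),([4],[]),([3],[]),([3],[]),([3],[]),([3],[]),([4],[]),([4],[]),([2],[]),([2],[]),([2],[]),([4],[]),([4],[]),([3],[]),([1],[]),([0],[]),([0],[]),([0],[]),([4],[]),([4],[]),([3],[]),([2],[]),([2],[]),([3],[]),([4],[]),([4],[]),([5],[7]),([5],[7]),([5],[7])],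
[([5,6],[]),([5,6],[]),([],[]),([4],[]),([4],[]),([4],[]),([3],[]),([4],[]),([4],[]),([4],[]),([4],[]),([4],[]),([3],[]),([3],[]),([3],[]),([3],[]),([4],[]),([4],[]),([2],[]),([2],[]),([2],[]),([3],[]),([4],[]),([4],[]),([2],[]),([2],[]),([2],[]),([4],[]),([4],[]),([3],[]),([3],[]),([3],[]),([3],[]),([4],[]),([4],[]),([4],[]),([4],[]),([4],[]),([4],[]),([0],[]),([0],[]),([0],[]),([2],[]),([3],[]),([4],[]),([4],[]),([1],[]),([1],[]),([1],[]),([4],[]),([4],[]),([3],[]),([3],[]),([3],[]),([3],[]),([4],[]),([4],[]),([4],[]),([4],[]),([4],[]),([4],[]),([2],[]),([2],[]),([2],[]),([2],[]),([4],[]),([4],[]),([4],[]),([4],[]),([4],[]),([4],[]),([3],[]),([3],[]),([3],[]),([3],[]),([3],[]),([3],[]),([4],[]),([4],[]),([4],[]),([4],[]),([4],[]),([4],[]),([1],[]),([1],[]),([1],[]),([1],[]),([4],[]),([4],[]),([4],[]),([4],[]),([4],[]),([4],[]),([3],[]),([3],[]),([3],[]),([3],[]),([4],[]),([4],[]),([2],[]),([2],[]),([2],[]),([4],[]),([4],[]),([3],[]),([1],[]),([0],[]),([0],[]),([0],[]),([4],[]),([4],[]),([3],[]),([2],[]),([2],[]),([3],[]),([4],[]),([4],[]),([6],[7]),([5,7],[]),([6],[7])],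
[([4],[6]),([7],[]),([7],[]),([],[]),([7],[]),([7],[]),([3],[]),([3],[]),([7],[]),([7],[]),([2],[]),([3],[]),([3],[]),([7],[]),([7],[]),([3],[]),([3],[]),([2],[]),([2],[]),([7],[]),([7],[]),([3],[]),([3],[]),([2],[]),([2],[]),([7],[]),([7],[]),([2],[]),([3],[]),([3],[]),([7],[]),([7],[]),([3],[]),([3],[]),([7],[]),([7],[]),([0],[]),([7],[]),([7],[]),([7],[]),([7],[]),([0],[]),([2],[]),([3],[]),([3],[]),([1],[]),([1],[]),([7],[]),([7],[]),([1],[]),([3],[]),([3],[]),([7],[]),([7],[]),([3],[]),([3],[]),([7],[]),([7],[]),([2],[]),([7],[]),([7],[]),([7],[]),([7],[]),([2],[]),([2],[]),([2],[]),([7],[]),([7],[]),([3],[]),([7],[]),([7],[]),([7],[]),([7],[]),([3],[]),([3],[]),([7],[]),([7],[]),([7],[]),([7],[]),([3],[]),([7],[]),([7],[]),([1],[]),([1],[]),([1],[]),([7],[]),([7],[]),([7],[]),([7],[]),([1],[]),([7],[]),([7],[]),([3],[]),([3],[]),([7],[]),([7],[]),([3],[]),([3],[]),([2],[]),([7],[]),([7],[]),([2],[]),([2],[]),([3],[]),([3],[]),([1],[]),([7],[]),([7],[]),([0],[]),([0],[]),([3],[]),([3],[]),([2],[]),([2],[]),([3],[]),([3],[]),([4],[6]),([4],[6]),([7],[]),([7],[])],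
[([6,7],[]),([6,7],[]),([4],[7]),([6,7],[]),([],[]),([6,7],[]),([3],[]),([3],[]),([3],[]),([3],[]),([2],[]),([3],[]),([3],[]),([3],[]),([3],[]),([3],[]),([3],[]),([2],[]),([2],[]),([2],[]),([2],[]),([3],[]),([3],[]),([2],[]),([2],[]),([2],[]),([2],[]),([2],[]),([3],[]),([3],[]),([3],[]),([3],[]),([3],[]),([3],[]),([3],[]),([3],[]),([0],[]),([0],[]),([0],[]),([0],[]),([0],[]),([0],[]),([2],[]),([3],[]),([3],[]),([1],[]),([1],[]),([1],[]),([1],[]),([1],[]),([3],[]),([3],[]),([3],[]),([3],[]),([3],[]),([3],[]),([3],[]),([3],[]),([2],[]),([2],[]),([2],[]),([2],[]),([2],[]),([2],[]),([2],[]),([2],[]),([2],[]),([2],[]),([3],[]),([3],[]),([3],[]),([3],[]),([3],[]),([3],[]),([3],[]),([3],[]),([3],[]),([3],[]),([3],[]),([3],[]),([1],[]),([1],[]),([1],[]),([1],[]),([1],[]),([1],[]),([1],[]),([1],[]),([1],[]),([1],[]),([3],[]),([3],[]),([3],[]),([3],[]),([3],[]),([3],[]),([3],[]),([3],[]),([2],[]),([2],[]),([2],[]),([2],[]),([2],[]),([3],[]),([3],[]),([1],[]),([0],[]),([0],[]),([0],[]),([0],[]),([3],[]),([3],[]),([2],[]),([2],[]),([3],[]),([3],[]),([5,7],[]),([6,7],[]),([5,7],[]),([6,7],[])],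
[([6],[]),([4,7],[]),([6],[]),([6],[]),([6],[]),([],[]),([3],[]),([6],[]),([6],[]),([3],[]),([2],[]),([3],[]),([6],[]),([6],[]),([3],[]),([3],[]),([3],[]),([2],[]),([6],[]),([6],[]),([2],[]),([3],[]),([3],[]),([2],[]),([6],[]),([6],[]),([2],[]),([2],[]),([3],[]),([6],[]),([6],[]),([3],[]),([3],[]),([6],[]),([6],[]),([3],[]),([6],[]),([6],[]),([0],[]),([0],[]),([6],[]),([6],[]),([2],[]),([3],[]),([3],[]),([1],[]),([6],[]),([6],[]),([1],[]),([1],[]),([3],[]),([6],[]),([6],[]),([3],[]),([3],[]),([6],[]),([6],[]),([3],[]),([6],[]),([6],[]),([2],[]),([2],[]),([6],[]),([6],[]),([2],[]),([6],[]),([6],[]),([2],[]),([6],[]),([6],[]),([3],[]),([3],[]),([6],[]),([6],[]),([6],[]),([6],[]),([3],[]),([3],[]),([6],[]),([6],[]),([1],[]),([6],[]),([6],[]),([1],[]),([6],[]),([6],[]),([1],[]),([1],[]),([6],[]),([6],[]),([3],[]),([6],[]),([6],[]),([3],[]),([3],[]),([6],[]),([6],[]),([3],[]),([2],[]),([2],[]),([6],[]),([6],[]),([2],[]),([3],[]),([3],[]),([1],[]),([0],[]),([6],[]),([6],[]),([0],[]),([3],[]),([3],[]),([2],[]),([2],[]),([3],[]),([3],[]),([5],[7]),([6],[]),([6],[]),([5],[7])],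
[([6],[]),([7],[]),([7],[]),([6],[]),([7],[]),([7],[]),([],[]),([6],[]),([7],[]),([7],[]),([2],[]),([2],[]),([6],[]),([7],[]),([7],[]),([0],[]),([2],[]),([2],[]),([6],[]),([7],[]),([7],[]),([3],[5]),([2],[]),([2],[]),([6],[]),([7],[]),([7],[]),([2],[]),([2],[]),([6],[]),([7],[]),([7],[]),([0],[]),([6],[]),([7],[]),([7],[]),([6],[]),([7],[]),([7],[]),([7],[]),([7],[]),([6],[]),([2],[]),([2],[]),([1],[]),([1],[]),([6],[]),([7],[]),([7],[]),([1],[]),([1],[]),([6],[]),([7],[]),([7],[]),([2],[]),([6],[]),([7],[]),([7],[]),([6],[]),([7],[]),([7],[]),([7],[]),([7],[]),([6],[]),([2],[]),([6],[]),([7],[]),([7],[]),([6],[]),([7],[]),([7],[]),([7],[]),([7],[]),([6],[]),([6],[]),([7],[]),([7],[]),([7],[]),([7],[]),([6],[]),([7],[]),([7],[]),([6],[]),([1],[]),([6],[]),([7],[]),([7],[]),([7],[]),([7],[]),([6],[]),([7],[]),([7],[]),([6],[]),([1],[]),([7],[]),([7],[]),([6],[]),([2],[]),([2],[]),([7],[]),([7],[]),([6],[]),([2],[]),([2],[]),([1],[]),([1],[]),([7],[]),([7],[]),([6],[]),([0],[]),([0],[]),([2],[]),([2],[]),([2],[]),([2],[]),([3],[5]),([3],[5]),([6],[]),([7],[]),([7],[])],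
[([5,6],[]),([7],[]),([7],[]),([5,6],[]),([7],[]),([7],[]),([5,6],[]),([],[]),([7],[]),([7],[]),([2],[]),([2],[]),([2],[]),([7],[]),([7],[]),([0],[]),([2],[]),([2],[]),([2],[]),([7],[]),([7],[]),([3],[6]),([2],[]),([2],[]),([2],[]),([7],[]),([7],[]),([2],[]),([2],[]),([2],[]),([7],[]),([7],[]),([0],[]),([0],[]),([7],[]),([7],[]),([0],[]),([7],[]),([7],[]),([7],[]),([7],[]),([0],[]),([2],[]),([2],[]),([1],[]),([1],[]),([1],[]),([7],[]),([7],[]),([1],[]),([1],[]),([1],[]),([7],[]),([7],[]),([2],[]),([2],[]),([7],[]),([7],[]),([2],[]),([7],[]),([7],[]),([7],[]),([7],[]),([2],[]),([2],[]),([2],[]),([7],[]),([7],[]),([2],[]),([7],[]),([7],[]),([7],[]),([7],[]),([2],[]),([1],[]),([7],[]),([7],[]),([7],[]),([7],[]),([1],[]),([7],[]),([7],[]),([1],[]),([1],[]),([1],[]),([7],[]),([7],[]),([7],[]),([7],[]),([1],[]),([7],[]),([7],[]),([1],[]),([1],[]),([7],[]),([7],[]),([2],[]),([2],[]),([2],[]),([7],[]),([7],[]),([2],[]),([2],[]),([2],[]),([1],[]),([1],[]),([7],[]),([7],[]),([0],[]),([0],[]),([0],[]),([2],[]),([2],[]),([2],[]),([2],[]),([4,6],[]),([5,6],[]),([4,6],[]),([7],[]),([7],[])],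
[([6,7],[]),([5],[]),([5],[]),([6,7],[]),([5],[]),([5],[]),([5],[]),([5],[]),([],[]),([6,7],[]),([2],[]),([5],[]),([5],[]),([2],[]),([2],[]),([0],[]),([2],[]),([5],[]),([5],[]),([2],[]),([2],[]),([3],[7]),([2],[]),([5],[]),([5],[]),([2],[]),([2],[]),([2],[]),([5],[]),([5],[]),([2],[]),([2],[]),([5],[]),([5],[]),([0],[]),([0],[]),([0],[]),([5],[]),([5],[]),([5],[]),([5],[]),([0],[]),([2],[]),([2],[]),([1],[]),([5],[]),([5],[]),([1],[]),([1],[]),([1],[]),([5],[]),([5],[]),([1],[]),([1],[]),([5],[]),([5],[]),([2],[]),([2],[]),([2],[]),([5],[]),([5],[]),([5],[]),([5],[]),([2],[]),([5],[]),([5],[]),([2],[]),([2],[]),([2],[]),([5],[]),([5],[]),([5],[]),([5],[]),([2],[]),([1],[]),([5],[]),([5],[]),([5],[]),([5],[]),([1],[]),([1],[]),([1],[]),([5],[]),([5],[]),([1],[]),([5],[]),([5],[]),([5],[]),([5],[]),([1],[]),([1],[]),([1],[]),([5],[]),([5],[]),([2],[]),([2],[]),([5],[]),([5],[]),([2],[]),([2],[]),([2],[]),([5],[]),([5],[]),([2],[]),([1],[]),([1],[]),([0],[]),([0],[]),([5],[]),([5],[]),([0],[]),([2],[]),([2],[]),([2],[]),([2],[]),([4,7],[]),([5],[]),([5],[]),([4,7],[]),([6,7],[])],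
[([6],[]),([5],[]),([6],[]),([6],[]),([6],[]),([5],[]),([5],[]),([6],[]),([6],[]),([],[]),([2],[]),([5],[]),([6],[]),([6],[]),([2],[]),([0],[]),([2],[]),([5],[]),([6],[]),([6],[]),([2],[]),([3,7],[]),([2],[]),([5],[]),([6],[]),([6],[]),([2],[]),([2],[]),([5],[]),([6],[]),([6],[]),([2],[]),([5],[]),([6],[]),([6],[]),([0],[]),([6],[]),([6],[]),([5],[]),([5],[]),([6],[]),([6],[]),([2],[]),([2],[]),([1],[]),([5],[]),([6],[]),([6],[]),([1],[]),([1],[]),([5],[]),([6],[]),([6],[]),([1],[]),([5],[]),([6],[]),([6],[]),([2],[]),([6],[]),([6],[]),([5],[]),([5],[]),([6],[]),([6],[]),([5],[]),([6],[]),([6],[]),([2],[]),([6],[]),([6],[]),([5],[]),([5],[]),([6],[]),([6],[]),([6],[]),([6],[]),([5],[]),([5],[]),([6],[]),([6],[]),([1],[]),([6],[]),([6],[]),([5],[]),([6],[]),([6],[]),([5],[]),([5],[]),([6],[]),([6],[]),([1],[]),([6],[]),([6],[]),([5],[]),([2],[]),([6],[]),([6],[]),([5],[]),([2],[]),([2],[]),([6],[]),([6],[]),([5],[]),([2],[]),([1],[]),([1],[]),([0],[]),([6],[]),([6],[]),([5],[]),([0],[]),([2],[]),([2],[]),([2],[]),([2],[]),([4],[7]),([5],[]),([6],[]),([6],[]),([4],[7])],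
[([6],[]),([7],[]),([7],[]),([6],[]),([7],[]),([7],[]),([5],[]),([6],[]),([7],[]),([7],[]),([],[]),([5],[]),([6],[]),([7],[]),([7],[]),([0],[]),([0],[]),([5],[]),([6],[]),([7],[]),([7],[]),([3,4,4],[]),([3,4,4],[]),([5],[]),([6],[]),([7],[]),([7],[]),([0],[]),([5],[]),([6],[]),([7],[]),([7],[]),([5],[]),([6],[]),([7],[]),([7],[]),([6],[]),([7],[]),([7],[]),([7],[]),([7],[]),([6],[]),([2],[4]),([0],[]),([0],[]),([5],[]),([6],[]),([7],[]),([7],[]),([0],[]),([5],[]),([6],[]),([7],[]),([7],[]),([5],[]),([6],[]),([7],[]),([7],[]),([6],[]),([7],[]),([7],[]),([7],[]),([7],[]),([6],[]),([5],[]),([6],[]),([7],[]),([7],[]),([6],[]),([7],[]),([7],[]),([7],[]),([7],[]),([6],[]),([6],[]),([7],[]),([7],[]),([7],[]),([7],[]),([6],[]),([7],[]),([7],[]),([6],[]),([5],[]),([6],[]),([7],[]),([7],[]),([7],[]),([7],[]),([6],[]),([7],[]),([7],[]),([6],[]),([5],[]),([7],[]),([7],[]),([6],[]),([5],[]),([1],[4]),([7],[]),([7],[]),([6],[]),([5],[]),([0],[]),([0],[]),([0],[]),([7],[]),([7],[]),([6],[]),([5],[]),([0],[]),([0],[]),([2],[4]),([0],[]),([2],[4]),([2],[4]),([5],[]),([6],[]),([7],[]),([7],[])],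
[([6],[]),([7],[]),([7],[]),([6],[]),([7],[]),([7],[]),([4,5],[]),([6],[]),([7],[]),([7],[]),([4,5],[]),([],[]),([6],[]),([7],[]),([7],[]),([0],[]),([0],[]),([0],[]),([6],[]),([7],[]),([7],[]),([3,5],[]),([4,5],[]),([3,5],[]),([6],[]),([7],[]),([7],[]),([0],[]),([0],[]),([6],[]),([7],[]),([7],[]),([0],[]),([6],[]),([7],[]),([7],[]),([6],[]),([7],[]),([7],[]),([7],[]),([7],[]),([6],[]),([2],[5]),([0],[]),([0],[]),([0],[]),([6],[]),([7],[]),([7],[]),([0],[]),([0],[]),([6],[]),([7],[]),([7],[]),([0],[]),([6],[]),([7],[]),([7],[]),([6],[]),([7],[]),([7],[]),([7],[]),([7],[]),([6],[]),([4,5],[]),([6],[]),([7],[]),([7],[]),([6],[]),([7],[]),([7],[]),([7],[]),([7],[]),([6],[]),([6],[]),([7],[]),([7],[]),([7],[]),([7],[]),([6],[]),([7],[]),([7],[]),([6],[]),([4,5],[]),([6],[]),([7],[]),([7],[]),([7],[]),([7],[]),([6],[]),([7],[]),([7],[]),([6],[]),([4,5],[]),([7],[]),([7],[]),([6],[]),([1],[5]),([4,5],[]),([7],[]),([7],[]),([6],[]),([0],[]),([0],[]),([0],[]),([0],[]),([7],[]),([7],[]),([6],[]),([0],[]),([0],[]),([0],[]),([2],[5]),([0],[]),([3,5],[]),([4,5],[]),([3,5],[]),([6],[]),([7],[]),([7],[])]]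

set_option maxHeartbeats 2000000 in
/-- part 1 of the separation table of `E8` -/
def sepTableE8_1 : List (List (List ℕ × List ℕ)) := [
[([5,6],[]),([7],[]),([7],[]),([4],[]),([7],[]),([7],[]),([5,6],[]),([4],[]),([7],[]),([7],[]),([4],[]),([4],[]),([],[]),([7],[]),([7],[]),([0],[]),([4],[]),([4],[]),([0],[]),([7],[]),([7],[]),([3,6],[]),([4],[]),([4],[]),([3,6],[]),([7],[]),([7],[]),([4],[]),([4],[]),([0],[]),([7],[]),([7],[]),([0],[]),([4],[]),([7],[]),([7],[]),([4],[]),([7],[]),([7],[]),([7],[]),([7],[]),([0],[]),([2],[6]),([0],[]),([4],[]),([4],[]),([0],[]),([7],[]),([7],[]),([4],[]),([4],[]),([0],[]),([7],[]),([7],[]),([0],[]),([4],[]),([7],[]),([7],[]),([4],[]),([7],[]),([7],[]),([7],[]),([7],[]),([0],[]),([5,6],[]),([4],[]),([7],[]),([7],[]),([4],[]),([7],[]),([7],[]),([7],[]),([7],[]),([5,6],[]),([5,6],[]),([7],[]),([7],[]),([7],[]),([7],[]),([4],[]),([7],[]),([7],[]),([4],[]),([5,6],[]),([5,6],[]),([7],[]),([7],[]),([7],[]),([7],[]),([4],[]),([7],[]),([7],[]),([4],[]),([5,6],[]),([7],[]),([7],[]),([1],[6]),([4],[]),([4],[]),([7],[]),([7],[]),([0],[]),([4],[]),([4],[]),([0],[]),([0],[]),([7],[]),([7],[]),([0],[]),([4],[]),([4],[]),([0],[]),([2],[6]),([0],[]),([3,6],[]),([4],[]),([4],[]),([3,6],[]),([7],[]),([7],[])],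
[([6,7],[]),([5],[]),([5],[]),([4],[]),([5],[]),([5],[]),([5],[]),([5],[]),([4],[]),([4],[]),([4],[]),([5],[]),([5],[]),([],[]),([6,7],[]),([0],[]),([4],[]),([5],[]),([5],[]),([0],[]),([0],[]),([3,7],[]),([4],[]),([5],[]),([5],[]),([3,7],[]),([6,7],[]),([4],[]),([5],[]),([5],[]),([0],[]),([0],[]),([5],[]),([5],[]),([4],[]),([4],[]),([4],[]),([5],[]),([5],[]),([5],[]),([5],[]),([0],[]),([2],[7]),([0],[]),([4],[]),([5],[]),([5],[]),([0],[]),([0],[]),([4],[]),([5],[]),([5],[]),([0],[]),([0],[]),([5],[]),([5],[]),([4],[]),([4],[]),([4],[]),([5],[]),([5],[]),([5],[]),([5],[]),([0],[]),([5],[]),([5],[]),([4],[]),([4],[]),([4],[]),([5],[]),([5],[]),([5],[]),([5],[]),([6,7],[]),([6,7],[]),([5],[]),([5],[]),([5],[]),([5],[]),([4],[]),([4],[]),([4],[]),([5],[]),([5],[]),([6,7],[]),([5],[]),([5],[]),([5],[]),([5],[]),([4],[]),([4],[]),([4],[]),([5],[]),([5],[]),([6,7],[]),([1],[7]),([5],[]),([5],[]),([4],[]),([0],[]),([0],[]),([5],[]),([5],[]),([4],[]),([0],[]),([0],[]),([0],[]),([0],[]),([5],[]),([5],[]),([4],[]),([0],[]),([2],[7]),([0],[]),([3,7],[]),([4],[]),([5],[]),([5],[]),([3,7],[]),([6,7],[])],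
[([6],[]),([5],[]),([6],[]),([6],[]),([6],[]),([5],[]),([5],[]),([6],[]),([6],[]),([4],[]),([4],[]),([5],[]),([6],[]),([6],[]),([],[]),([0],[]),([4],[]),([5],[]),([6],[]),([6],[]),([0],[]),([3],[7]),([4],[]),([5],[]),([6],[]),([6],[]),([3],[7]),([4],[]),([5],[]),([6],[]),([6],[]),([0],[]),([5],[]),([6],[]),([6],[]),([4],[]),([6],[]),([6],[]),([5],[]),([5],[]),([6],[]),([6],[]),([2,7],[]),([0],[]),([4],[]),([5],[]),([6],[]),([6],[]),([0],[]),([4],[]),([5],[]),([6],[]),([6],[]),([0],[]),([5],[]),([6],[]),([6],[]),([4],[]),([6],[]),([6],[]),([5],[]),([5],[]),([6],[]),([6],[]),([5],[]),([6],[]),([6],[]),([4],[]),([6],[]),([6],[]),([5],[]),([5],[]),([6],[]),([6],[]),([6],[]),([6],[]),([5],[]),([5],[]),([6],[]),([6],[]),([4],[]),([6],[]),([6],[]),([5],[]),([6],[]),([6],[]),([5],[]),([5],[]),([6],[]),([6],[]),([4],[]),([6],[]),([6],[]),([5],[]),([1,7],[]),([6],[]),([6],[]),([5],[]),([4],[]),([0],[]),([6],[]),([6],[]),([5],[]),([4],[]),([0],[]),([0],[]),([0],[]),([6],[]),([6],[]),([5],[]),([4],[]),([0],[]),([2,7],[]),([0],[]),([3],[7]),([4],[]),([5],[]),([6],[]),([6],[]),([3],[7])],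
[([6],[]),([7],[]),([7],[]),([6],[]),([7],[]),([7],[]),([5],[]),([6],[]),([7],[]),([7],[]),([4],[]),([5],[]),([6],[]),([7],[]),([7],[]),([],[]),([4],[]),([5],[]),([6],[]),([7],[]),([7],[]),([0],[3]),([4],[]),([5],[]),([6],[]),([7],[]),([7],[]),([4],[]),([5],[]),([6],[]),([7],[]),([7],[]),([5],[]),([6],[]),([7],[]),([7],[]),([6],[]),([7],[]),([7],[]),([7],[]),([7],[]),([6],[]),([2,3,3],[]),([2,3,3],[]),([4],[]),([5],[]),([6],[]),([7],[]),([7],[]),([4],[]),([5],[]),([6],[]),([7],[]),([7],[]),([5],[]),([6],[]),([7],[]),([7],[]),([6],[]),([7],[]),([7],[]),([7],[]),([7],[]),([6],[]),([5],[]),([6],[]),([7],[]),([7],[]),([6],[]),([7],[]),([7],[]),([7],[]),([7],[]),([6],[]),([6],[]),([7],[]),([7],[]),([7],[]),([7],[]),([6],[]),([7],[]),([7],[]),([6],[]),([5],[]),([6],[]),([7],[]),([7],[]),([7],[]),([7],[]),([6],[]),([7],[]),([7],[]),([6],[]),([5],[]),([7],[]),([7],[]),([6],[]),([5],[]),([4],[]),([7],[]),([7],[]),([6],[]),([5],[]),([4],[]),([1],[]),([1],[]),([7],[]),([7],[]),([6],[]),([5],[]),([4],[]),([1],[]),([1],[]),([1],[]),([1],[]),([4],[]),([5],[]),([6],[]),([7],[]),([7],[])],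
[([6],[]),([7],[]),([7],[]),([6],[]),([7],[]),([7],[]),([5],[]),([6],[]),([7],[]),([7],[]),([3,4],[]),([5],[]),([6],[]),([7],[]),([7],[]),([3,4],[]),([],[]),([5],[]),([6],[]),([7],[]),([7],[]),([3,4],[]),([0],[4]),([5],[]),([6],[]),([7],[]),([7],[]),([3,4],[]),([5],[]),([6],[]),([7],[]),([7],[]),([5],[]),([6],[]),([7],[]),([7],[]),([6],[]),([7],[]),([7],[]),([7],[]),([7],[]),([6],[]),([2,4],[]),([3,4],[]),([2,4],[]),([5],[]),([6],[]),([7],[]),([7],[]),([3,4],[]),([5],[]),([6],[]),([7],[]),([7],[]),([5],[]),([6],[]),([7],[]),([7],[]),([6],[]),([7],[]),([7],[]),([7],[]),([7],[]),([6],[]),([5],[]),([6],[]),([7],[]),([7],[]),([6],[]),([7],[]),([7],[]),([7],[]),([7],[]),([6],[]),([6],[]),([7],[]),([7],[]),([7],[]),([7],[]),([6],[]),([7],[]),([7],[]),([6],[]),([5],[]),([6],[]),([7],[]),([7],[]),([7],[]),([7],[]),([6],[]),([7],[]),([7],[]),([6],[]),([5],[]),([7],[]),([7],[]),([6],[]),([5],[]),([3,4],[]),([7],[]),([7],[]),([6],[]),([5],[]),([1],[4]),([3,4],[]),([1],[4]),([7],[]),([7],[]),([6],[]),([5],[]),([2,4],[]),([3,4],[]),([2,4],[]),([2,4],[]),([3,4],[]),([2,4],[]),([5],[]),([6],[]),([7],[]),([7],[])],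
[([6],[]),([7],[]),([7],[]),([6],[]),([7],[]),([7],[]),([3],[]),([6],[]),([7],[]),([7],[]),([4,5],[]),([3],[]),([6],[]),([7],[]),([7],[]),([3],[]),([3],[]),([],[]),([6],[]),([7],[]),([7],[]),([3],[]),([3],[]),([0],[5]),([6],[]),([7],[]),([7],[]),([4,5],[]),([3],[]),([6],[]),([7],[]),([7],[]),([3],[]),([6],[]),([7],[]),([7],[]),([6],[]),([7],[]),([7],[]),([7],[]),([7],[]),([6],[]),([2,5],[]),([3],[]),([3],[]),([2,5],[]),([6],[]),([7],[]),([7],[]),([4,5],[]),([3],[]),([6],[]),([7],[]),([7],[]),([3],[]),([6],[]),([7],[]),([7],[]),([6],[]),([7],[]),([7],[]),([7],[]),([7],[]),([6],[]),([4,5],[]),([6],[]),([7],[]),([7],[]),([6],[]),([7],[]),([7],[]),([7],[]),([7],[]),([6],[]),([6],[]),([7],[]),([7],[]),([7],[]),([7],[]),([6],[]),([7],[]),([7],[]),([6],[]),([4,5],[]),([6],[]),([7],[]),([7],[]),([7],[]),([7],[]),([6],[]),([7],[]),([7],[]),([6],[]),([3],[]),([7],[]),([7],[]),([6],[]),([3],[]),([4,5],[]),([7],[]),([7],[]),([6],[]),([1],[5]),([3],[]),([3],[]),([1],[5]),([7],[]),([7],[]),([6],[]),([2,5],[]),([3],[]),([3],[]),([2,5],[]),([2,5],[]),([3],[]),([3],[]),([2,5],[]),([6],[]),([7],[]),([7],[])],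
[([5,6],[]),([7],[]),([7],[]),([4],[]),([7],[]),([7],[]),([3],[]),([4],[]),([7],[]),([7],[]),([4],[]),([4],[]),([3],[]),([7],[]),([7],[]),([3],[]),([4],[]),([4],[]),([],[]),([7],[]),([7],[]),([3],[]),([4],[]),([4],[]),([0],[6]),([7],[]),([7],[]),([4],[]),([4],[]),([3],[]),([7],[]),([7],[]),([3],[]),([4],[]),([7],[]),([7],[]),([4],[]),([7],[]),([7],[]),([7],[]),([7],[]),([5,6],[]),([2,6],[]),([3],[]),([4],[]),([4],[]),([2,6],[]),([7],[]),([7],[]),([4],[]),([4],[]),([3],[]),([7],[]),([7],[]),([3],[]),([4],[]),([7],[]),([7],[]),([4],[]),([7],[]),([7],[]),([7],[]),([7],[]),([5,6],[]),([5,6],[]),([4],[]),([7],[]),([7],[]),([4],[]),([7],[]),([7],[]),([7],[]),([7],[]),([3],[]),([3],[]),([7],[]),([7],[]),([7],[]),([7],[]),([4],[]),([7],[]),([7],[]),([4],[]),([5,6],[]),([5,6],[]),([7],[]),([7],[]),([7],[]),([7],[]),([4],[]),([7],[]),([7],[]),([4],[]),([3],[]),([7],[]),([7],[]),([3],[]),([4],[]),([4],[]),([7],[]),([7],[]),([1],[6]),([4],[]),([4],[]),([3],[]),([1],[6]),([7],[]),([7],[]),([2,6],[]),([4],[]),([4],[]),([3],[]),([2,6],[]),([2,6],[]),([3],[]),([4],[]),([4],[]),([2,6],[]),([7],[]),([7],[])],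
[([6,7],[]),([5],[]),([5],[]),([4],[]),([5],[]),([5],[]),([5],[]),([5],[]),([4],[]),([4],[]),([4],[]),([5],[]),([5],[]),([3],[]),([3],[]),([3],[]),([4],[]),([5],[]),([5],[]),([],[]),([6,7],[]),([3],[]),([4],[]),([5],[]),([5],[]),([0],[7]),([6,7],[]),([4],[]),([5],[]),([5],[]),([3],[]),([3],[]),([5],[]),([5],[]),([4],[]),([4],[]),([4],[]),([5],[]),([5],[]),([5],[]),([5],[]),([6,7],[]),([2,7],[]),([3],[]),([4],[]),([5],[]),([5],[]),([2,7],[]),([6,7],[]),([4],[]),([5],[]),([5],[]),([3],[]),([3],[]),([5],[]),([5],[]),([4],[]),([4],[]),([4],[]),([5],[]),([5],[]),([5],[]),([5],[]),([6,7],[]),([5],[]),([5],[]),([4],[]),([4],[]),([4],[]),([5],[]),([5],[]),([5],[]),([5],[]),([3],[]),([3],[]),([5],[]),([5],[]),([5],[]),([5],[]),([4],[]),([4],[]),([4],[]),([5],[]),([5],[]),([6,7],[]),([5],[]),([5],[]),([5],[]),([5],[]),([4],[]),([4],[]),([4],[]),([5],[]),([5],[]),([3],[]),([3],[]),([5],[]),([5],[]),([4],[]),([6,7],[]),([1],[7]),([5],[]),([5],[]),([4],[]),([3],[]),([1],[7]),([6,7],[]),([2,7],[]),([5],[]),([5],[]),([4],[]),([3],[]),([2,7],[]),([2,7],[]),([3],[]),([4],[]),([5],[]),([5],[]),([2,7],[]),([6,7],[])],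
[([6],[]),([5],[]),([6],[]),([6],[]),([6],[]),([5],[]),([5],[]),([6],[]),([6],[]),([4],[]),([4],[]),([5],[]),([6],[]),([6],[]),([3],[]),([3],[]),([4],[]),([5],[]),([6],[]),([6],[]),([],[]),([3],[]),([4],[]),([5],[]),([6],[]),([6],[]),([0,7],[]),([4],[]),([5],[]),([6],[]),([6],[]),([3],[]),([5],[]),([6],[]),([6],[]),([4],[]),([6],[]),([6],[]),([5],[]),([5],[]),([6],[]),([6],[]),([2],[7]),([3],[]),([4],[]),([5],[]),([6],[]),([6],[]),([2],[7]),([4],[]),([5],[]),([6],[]),([6],[]),([3],[]),([5],[]),([6],[]),([6],[]),([4],[]),([6],[]),([6],[]),([5],[]),([5],[]),([6],[]),([6],[]),([5],[]),([6],[]),([6],[]),([4],[]),([6],[]),([6],[]),([5],[]),([5],[]),([6],[]),([6],[]),([6],[]),([6],[]),([5],[]),([5],[]),([6],[]),([6],[]),([4],[]),([6],[]),([6],[]),([5],[]),([6],[]),([6],[]),([5],[]),([5],[]),([6],[]),([6],[]),([4],[]),([6],[]),([6],[]),([5],[]),([3],[]),([6],[]),([6],[]),([5],[]),([4],[]),([1,7],[]),([6],[]),([6],[]),([5],[]),([4],[]),([3],[]),([1,7],[]),([2],[7]),([6],[]),([6],[]),([5],[]),([4],[]),([3],[]),([2],[7]),([2],[7]),([3],[]),([4],[]),([5],[]),([6],[]),([6],[]),([2],[7])],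
[([6],[]),([7],[]),([7],[]),([6],[]),([7],[]),([7],[]),([5],[]),([6],[]),([7],[]),([7],[]),([4],[]),([5],[]),([6],[]),([7],[]),([7],[]),([0],[]),([4],[]),([5],[]),([6],[]),([7],[]),([7],[]),([],[]),([4],[]),([5],[]),([6],[]),([7],[]),([7],[]),([4],[]),([5],[]),([6],[]),([7],[]),([7],[]),([5],[]),([6],[]),([7],[]),([7],[]),([6],[]),([7],[]),([7],[]),([7],[]),([7],[]),([6],[]),([2],[]),([2],[]),([4],[]),([5],[]),([6],[]),([7],[]),([7],[]),([4],[]),([5],[]),([6],[]),([7],[]),([7],[]),([5],[]),([6],[]),([7],[]),([7],[]),([6],[]),([7],[]),([7],[]),([7],[]),([7],[]),([6],[]),([5],[]),([6],[]),([7],[]),([7],[]),([6],[]),([7],[]),([7],[]),([7],[]),([7],[]),([6],[]),([6],[]),([7],[]),([7],[]),([7],[]),([7],[]),([6],[]),([7],[]),([7],[]),([6],[]),([5],[]),([6],[]),([7],[]),([7],[]),([7],[]),([7],[]),([6],[]),([7],[]),([7],[]),([6],[]),([5],[]),([7],[]),([7],[]),([6],[]),([5],[]),([4],[]),([7],[]),([7],[]),([6],[]),([5],[]),([4],[]),([0],[]),([0],[]),([7],[]),([7],[]),([6],[]),([5],[]),([4],[]),([2],[]),([2],[]),([2],[]),([2],[]),([4],[]),([5],[]),([6],[]),([7],[]),([7],[])],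
[([6],[]),([7],[]),([7],[]),([6],[]),([7],[]),([7],[]),([5],[]),([6],[]),([7],[]),([7],[]),([3,4],[]),([5],[]),([6],[]),([7],[]),([7],[]),([0],[]),([0],[]),([5],[]),([6],[]),([7],[]),([7],[]),([3,4],[]),([],[]),([5],[]),([6],[]),([7],[]),([7],[]),([0],[]),([5],[]),([6],[]),([7],[]),([7],[]),([5],[]),([6],[]),([7],[]),([7],[]),([6],[]),([7],[]),([7],[]),([7],[]),([7],[]),([6],[]),([2],[4]),([0],[]),([0],[]),([5],[]),([6],[]),([7],[]),([7],[]),([0],[]),([5],[]),([6],[]),([7],[]),([7],[]),([5],[]),([6],[]),([7],[]),([7],[]),([6],[]),([7],[]),([7],[]),([7],[]),([7],[]),([6],[]),([5],[]),([6],[]),([7],[]),([7],[]),([6],[]),([7],[]),([7],[]),([7],[]),([7],[]),([6],[]),([6],[]),([7],[]),([7],[]),([7],[]),([7],[]),([6],[]),([7],[]),([7],[]),([6],[]),([5],[]),([6],[]),([7],[]),([7],[]),([7],[]),([7],[]),([6],[]),([7],[]),([7],[]),([6],[]),([5],[]),([7],[]),([7],[]),([6],[]),([5],[]),([3,4],[]),([7],[]),([7],[]),([6],[]),([5],[]),([0],[]),([0],[]),([0],[]),([7],[]),([7],[]),([6],[]),([5],[]),([0],[]),([0],[]),([2],[4]),([0],[]),([3,4],[]),([2],[4]),([5],[]),([6],[]),([7],[]),([7],[])],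
[([6],[]),([7],[]),([7],[]),([6],[]),([7],[]),([7],[]),([3],[]),([6],[]),([7],[]),([7],[]),([4,5],[]),([3],[]),([6],[]),([7],[]),([7],[]),([3],[]),([3],[]),([0],[]),([6],[]),([7],[]),([7],[]),([3],[]),([3],[]),([],[]),([6],[]),([7],[]),([7],[]),([0],[]),([3],[]),([6],[]),([7],[]),([7],[]),([3],[]),([6],[]),([7],[]),([7],[]),([6],[]),([7],[]),([7],[]),([7],[]),([7],[]),([6],[]),([2],[5]),([3],[]),([3],[]),([0],[]),([6],[]),([7],[]),([7],[]),([0],[]),([3],[]),([6],[]),([7],[]),([7],[]),([3],[]),([6],[]),([7],[]),([7],[]),([6],[]),([7],[]),([7],[]),([7],[]),([7],[]),([6],[]),([4,5],[]),([6],[]),([7],[]),([7],[]),([6],[]),([7],[]),([7],[]),([7],[]),([7],[]),([6],[]),([6],[]),([7],[]),([7],[]),([7],[]),([7],[]),([6],[]),([7],[]),([7],[]),([6],[]),([4,5],[]),([6],[]),([7],[]),([7],[]),([7],[]),([7],[]),([6],[]),([7],[]),([7],[]),([6],[]),([3],[]),([7],[]),([7],[]),([6],[]),([3],[]),([4,5],[]),([7],[]),([7],[]),([6],[]),([0],[]),([3],[]),([3],[]),([0],[]),([7],[]),([7],[]),([6],[]),([0],[]),([3],[]),([3],[]),([2],[5]),([0],[]),([3],[]),([3],[]),([2],[5]),([6],[]),([7],[]),([7],[])]]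

set_option maxHeartbeats 2000000 in
/-- part 2 of the separation table of `E8` -/
def sepTableE8_2 : List (List (List ℕ × List ℕ)) := [
[([5,6],[]),([7],[]),([7],[]),([4],[]),([7],[]),([7],[]),([3],[]),([4],[]),([7],[]),([7],[]),([4],[]),([4],[]),([3],[]),([7],[]),([7],[]),([3],[]),([4],[]),([4],[]),([0],[]),([7],[]),([7],[]),([3],[]),([4],[]),([4],[]),([],[]),([7],[]),([7],[]),([4],[]),([4],[]),([3],[]),([7],[]),([7],[]),([3],[]),([4],[]),([7],[]),([7],[]),([4],[]),([7],[]),([7],[]),([7],[]),([7],[]),([0],[]),([2],[6]),([3],[]),([4],[]),([4],[]),([0],[]),([7],[]),([7],[]),([4],[]),([4],[]),([3],[]),([7],[]),([7],[]),([3],[]),([4],[]),([7],[]),([7],[]),([4],[]),([7],[]),([7],[]),([7],[]),([7],[]),([0],[]),([5,6],[]),([4],[]),([7],[]),([7],[]),([4],[]),([7],[]),([7],[]),([7],[]),([7],[]),([3],[]),([3],[]),([7],[]),([7],[]),([7],[]),([7],[]),([4],[]),([7],[]),([7],[]),([4],[]),([5,6],[]),([5,6],[]),([7],[]),([7],[]),([7],[]),([7],[]),([4],[]),([7],[]),([7],[]),([4],[]),([3],[]),([7],[]),([7],[]),([3],[]),([4],[]),([4],[]),([7],[]),([7],[]),([0],[]),([4],[]),([4],[]),([3],[]),([0],[]),([7],[]),([7],[]),([0],[]),([4],[]),([4],[]),([3],[]),([2],[6]),([0],[]),([3],[]),([4],[]),([4],[]),([2],[6]),([7],[]),([7],[])],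
[([6,7],[]),([5],[]),([5],[]),([4],[]),([5],[]),([5],[]),([5],[]),([5],[]),([4],[]),([4],[]),([4],[]),([5],[]),([5],[]),([3],[]),([3],[]),([3],[]),([4],[]),([5],[]),([5],[]),([0],[]),([0],[]),([3],[]),([4],[]),([5],[]),([5],[]),([],[]),([6,7],[]),([4],[]),([5],[]),([5],[]),([3],[]),([3],[]),([5],[]),([5],[]),([4],[]),([4],[]),([4],[]),([5],[]),([5],[]),([5],[]),([5],[]),([0],[]),([2],[7]),([3],[]),([4],[]),([5],[]),([5],[]),([0],[]),([0],[]),([4],[]),([5],[]),([5],[]),([3],[]),([3],[]),([5],[]),([5],[]),([4],[]),([4],[]),([4],[]),([5],[]),([5],[]),([5],[]),([5],[]),([0],[]),([5],[]),([5],[]),([4],[]),([4],[]),([4],[]),([5],[]),([5],[]),([5],[]),([5],[]),([3],[]),([3],[]),([5],[]),([5],[]),([5],[]),([5],[]),([4],[]),([4],[]),([4],[]),([5],[]),([5],[]),([6,7],[]),([5],[]),([5],[]),([5],[]),([5],[]),([4],[]),([4],[]),([4],[]),([5],[]),([5],[]),([3],[]),([3],[]),([5],[]),([5],[]),([4],[]),([0],[]),([0],[]),([5],[]),([5],[]),([4],[]),([3],[]),([0],[]),([0],[]),([0],[]),([5],[]),([5],[]),([4],[]),([3],[]),([2],[7]),([0],[]),([3],[]),([4],[]),([5],[]),([5],[]),([2],[7]),([6,7],[])],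
[([6],[]),([5],[]),([6],[]),([6],[]),([6],[]),([5],[]),([5],[]),([6],[]),([6],[]),([4],[]),([4],[]),([5],[]),([6],[]),([6],[]),([3],[]),([3],[]),([4],[]),([5],[]),([6],[]),([6],[]),([0],[]),([3],[]),([4],[]),([5],[]),([6],[]),([6],[]),([],[]),([4],[]),([5],[]),([6],[]),([6],[]),([3],[]),([5],[]),([6],[]),([6],[]),([4],[]),([6],[]),([6],[]),([5],[]),([5],[]),([6],[]),([6],[]),([2,7],[]),([3],[]),([4],[]),([5],[]),([6],[]),([6],[]),([0],[]),([4],[]),([5],[]),([6],[]),([6],[]),([3],[]),([5],[]),([6],[]),([6],[]),([4],[]),([6],[]),([6],[]),([5],[]),([5],[]),([6],[]),([6],[]),([5],[]),([6],[]),([6],[]),([4],[]),([6],[]),([6],[]),([5],[]),([5],[]),([6],[]),([6],[]),([6],[]),([6],[]),([5],[]),([5],[]),([6],[]),([6],[]),([4],[]),([6],[]),([6],[]),([5],[]),([6],[]),([6],[]),([5],[]),([5],[]),([6],[]),([6],[]),([4],[]),([6],[]),([6],[]),([5],[]),([3],[]),([6],[]),([6],[]),([5],[]),([4],[]),([0],[]),([6],[]),([6],[]),([5],[]),([4],[]),([3],[]),([0],[]),([0],[]),([6],[]),([6],[]),([5],[]),([4],[]),([3],[]),([2,7],[]),([0],[]),([3],[]),([4],[]),([5],[]),([6],[]),([6],[]),([2,7],[])],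
[([6],[]),([7],[]),([7],[]),([6],[]),([7],[]),([7],[]),([5],[]),([6],[]),([7],[]),([7],[]),([0],[4]),([5],[]),([6],[]),([7],[]),([7],[]),([3],[]),([3],[]),([5],[]),([6],[]),([7],[]),([7],[]),([3],[]),([3],[]),([5],[]),([6],[]),([7],[]),([7],[]),([],[]),([5],[]),([6],[]),([7],[]),([7],[]),([5],[]),([6],[]),([7],[]),([7],[]),([6],[]),([7],[]),([7],[]),([7],[]),([7],[]),([6],[]),([2,4],[]),([3],[]),([3],[]),([5],[]),([6],[]),([7],[]),([7],[]),([2,4],[]),([5],[]),([6],[]),([7],[]),([7],[]),([5],[]),([6],[]),([7],[]),([7],[]),([6],[]),([7],[]),([7],[]),([7],[]),([7],[]),([6],[]),([5],[]),([6],[]),([7],[]),([7],[]),([6],[]),([7],[]),([7],[]),([7],[]),([7],[]),([6],[]),([6],[]),([7],[]),([7],[]),([7],[]),([7],[]),([6],[]),([7],[]),([7],[]),([6],[]),([5],[]),([6],[]),([7],[]),([7],[]),([7],[]),([7],[]),([6],[]),([7],[]),([7],[]),([6],[]),([5],[]),([7],[]),([7],[]),([6],[]),([5],[]),([1,4],[]),([7],[]),([7],[]),([6],[]),([5],[]),([3],[]),([3],[]),([1,4],[]),([7],[]),([7],[]),([6],[]),([5],[]),([3],[]),([3],[]),([2,4],[]),([2,4],[]),([3],[]),([3],[]),([5],[]),([6],[]),([7],[]),([7],[])],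
[([6],[]),([7],[]),([7],[]),([6],[]),([7],[]),([7],[]),([4,5],[]),([6],[]),([7],[]),([7],[]),([4,5],[]),([0],[5]),([6],[]),([7],[]),([7],[]),([3],[5]),([4,5],[]),([3],[5]),([6],[]),([7],[]),([7],[]),([3],[5]),([4,5],[]),([3],[5]),([6],[]),([7],[]),([7],[]),([4,5],[]),([],[]),([6],[]),([7],[]),([7],[]),([4,5],[]),([6],[]),([7],[]),([7],[]),([6],[]),([7],[]),([7],[]),([7],[]),([7],[]),([6],[]),([2,5],[]),([3],[5]),([4,5],[]),([3],[5]),([6],[]),([7],[]),([7],[]),([4,5],[]),([2,5],[]),([6],[]),([7],[]),([7],[]),([4,5],[]),([6],[]),([7],[]),([7],[]),([6],[]),([7],[]),([7],[]),([7],[]),([7],[]),([6],[]),([4,5],[]),([6],[]),([7],[]),([7],[]),([6],[]),([7],[]),([7],[]),([7],[]),([7],[]),([6],[]),([6],[]),([7],[]),([7],[]),([7],[]),([7],[]),([6],[]),([7],[]),([7],[]),([6],[]),([4,5],[]),([6],[]),([7],[]),([7],[]),([7],[]),([7],[]),([6],[]),([7],[]),([7],[]),([6],[]),([4,5],[]),([7],[]),([7],[]),([6],[]),([1,5],[]),([4,5],[]),([7],[]),([7],[]),([6],[]),([3],[5]),([4,5],[]),([3],[5]),([1,5],[]),([7],[]),([7],[]),([6],[]),([3],[5]),([4,5],[]),([3],[5]),([2,5],[]),([2,5],[]),([3],[5]),([4,5],[]),([3],[5]),([6],[]),([7],[]),([7],[])],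
[([5,6],[]),([7],[]),([7],[]),([4],[]),([7],[]),([7],[]),([5,6],[]),([4],[]),([7],[]),([7],[]),([4],[]),([4],[]),([0],[6]),([7],[]),([7],[]),([3],[6]),([4],[]),([4],[]),([3],[6]),([7],[]),([7],[]),([3],[6]),([4],[]),([4],[]),([3],[6]),([7],[]),([7],[]),([4],[]),([4],[]),([],[]),([7],[]),([7],[]),([5,6],[]),([4],[]),([7],[]),([7],[]),([4],[]),([7],[]),([7],[]),([7],[]),([7],[]),([5,6],[]),([2,6],[]),([3],[6]),([4],[]),([4],[]),([3],[6]),([7],[]),([7],[]),([4],[]),([4],[]),([2,6],[]),([7],[]),([7],[]),([5,6],[]),([4],[]),([7],[]),([7],[]),([4],[]),([7],[]),([7],[]),([7],[]),([7],[]),([5,6],[]),([5,6],[]),([4],[]),([7],[]),([7],[]),([4],[]),([7],[]),([7],[]),([7],[]),([7],[]),([5,6],[]),([5,6],[]),([7],[]),([7],[]),([7],[]),([7],[]),([4],[]),([7],[]),([7],[]),([4],[]),([5,6],[]),([5,6],[]),([7],[]),([7],[]),([7],[]),([7],[]),([4],[]),([7],[]),([7],[]),([4],[]),([5,6],[]),([7],[]),([7],[]),([1,6],[]),([4],[]),([4],[]),([7],[]),([7],[]),([3],[6]),([4],[]),([4],[]),([3],[6]),([1,6],[]),([7],[]),([7],[]),([3],[6]),([4],[]),([4],[]),([3],[6]),([2,6],[]),([2,6],[]),([3],[6]),([4],[]),([4],[]),([3],[6]),([7],[]),([7],[])],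
[([6,7],[]),([5],[]),([5],[]),([4],[]),([5],[]),([5],[]),([5],[]),([5],[]),([4],[]),([4],[]),([4],[]),([5],[]),([5],[]),([0],[7]),([6,7],[]),([3],[7]),([4],[]),([5],[]),([5],[]),([3],[7]),([6,7],[]),([3],[7]),([4],[]),([5],[]),([5],[]),([3],[7]),([6,7],[]),([4],[]),([5],[]),([5],[]),([],[]),([6,7],[]),([5],[]),([5],[]),([4],[]),([4],[]),([4],[]),([5],[]),([5],[]),([5],[]),([5],[]),([6,7],[]),([2,7],[]),([3],[7]),([4],[]),([5],[]),([5],[]),([3],[7]),([6,7],[]),([4],[]),([5],[]),([5],[]),([2,7],[]),([6,7],[]),([5],[]),([5],[]),([4],[]),([4],[]),([4],[]),([5],[]),([5],[]),([5],[]),([5],[]),([6,7],[]),([5],[]),([5],[]),([4],[]),([4],[]),([4],[]),([5],[]),([5],[]),([5],[]),([5],[]),([6,7],[]),([6,7],[]),([5],[]),([5],[]),([5],[]),([5],[]),([4],[]),([4],[]),([4],[]),([5],[]),([5],[]),([6,7],[]),([5],[]),([5],[]),([5],[]),([5],[]),([4],[]),([4],[]),([4],[]),([5],[]),([5],[]),([6,7],[]),([1,7],[]),([5],[]),([5],[]),([4],[]),([6,7],[]),([3],[7]),([5],[]),([5],[]),([4],[]),([3],[7]),([1,7],[]),([6,7],[]),([3],[7]),([5],[]),([5],[]),([4],[]),([3],[7]),([2,7],[]),([2,7],[]),([3],[7]),([4],[]),([5],[]),([5],[]),([3],[7]),([6,7],[])],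
[([6],[]),([5],[]),([6],[]),([6],[]),([6],[]),([5],[]),([5],[]),([6],[]),([6],[]),([4],[]),([4],[]),([5],[]),([6],[]),([6],[]),([0,7],[]),([3,7],[]),([4],[]),([5],[]),([6],[]),([6],[]),([3,7],[]),([3,7],[]),([4],[]),([5],[]),([6],[]),([6],[]),([3,7],[]),([4],[]),([5],[]),([6],[]),([6],[]),([],[]),([5],[]),([6],[]),([6],[]),([4],[]),([6],[]),([6],[]),([5],[]),([5],[]),([6],[]),([6],[]),([2],[7]),([3,7],[]),([4],[]),([5],[]),([6],[]),([6],[]),([3,7],[]),([4],[]),([5],[]),([6],[]),([6],[]),([2],[7]),([5],[]),([6],[]),([6],[]),([4],[]),([6],[]),([6],[]),([5],[]),([5],[]),([6],[]),([6],[]),([5],[]),([6],[]),([6],[]),([4],[]),([6],[]),([6],[]),([5],[]),([5],[]),([6],[]),([6],[]),([6],[]),([6],[]),([5],[]),([5],[]),([6],[]),([6],[]),([4],[]),([6],[]),([6],[]),([5],[]),([6],[]),([6],[]),([5],[]),([5],[]),([6],[]),([6],[]),([4],[]),([6],[]),([6],[]),([5],[]),([1],[7]),([6],[]),([6],[]),([5],[]),([4],[]),([3,7],[]),([6],[]),([6],[]),([5],[]),([4],[]),([3,7],[]),([1],[7]),([3,7],[]),([6],[]),([6],[]),([5],[]),([4],[]),([3,7],[]),([2],[7]),([2],[7]),([3,7],[]),([4],[]),([5],[]),([6],[]),([6],[]),([3,7],[])],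
[([6],[]),([7],[]),([7],[]),([6],[]),([7],[]),([7],[]),([0],[5]),([6],[]),([7],[]),([7],[]),([4],[]),([4],[]),([6],[]),([7],[]),([7],[]),([3,5],[]),([4],[]),([4],[]),([6],[]),([7],[]),([7],[]),([3,5],[]),([4],[]),([4],[]),([6],[]),([7],[]),([7],[]),([4],[]),([4],[]),([6],[]),([7],[]),([7],[]),([],[]),([6],[]),([7],[]),([7],[]),([6],[]),([7],[]),([7],[]),([7],[]),([7],[]),([6],[]),([2],[]),([2],[]),([4],[]),([4],[]),([6],[]),([7],[]),([7],[]),([4],[]),([4],[]),([6],[]),([7],[]),([7],[]),([2],[]),([6],[]),([7],[]),([7],[]),([6],[]),([7],[]),([7],[]),([7],[]),([7],[]),([6],[]),([2],[]),([6],[]),([7],[]),([7],[]),([6],[]),([7],[]),([7],[]),([7],[]),([7],[]),([6],[]),([6],[]),([7],[]),([7],[]),([7],[]),([7],[]),([6],[]),([7],[]),([7],[]),([6],[]),([1],[]),([6],[]),([7],[]),([7],[]),([7],[]),([7],[]),([6],[]),([7],[]),([7],[]),([6],[]),([1],[]),([7],[]),([7],[]),([6],[]),([4],[]),([4],[]),([7],[]),([7],[]),([6],[]),([4],[]),([4],[]),([1],[]),([1],[]),([7],[]),([7],[]),([6],[]),([4],[]),([4],[]),([2],[]),([2],[]),([2],[]),([2],[]),([4],[]),([4],[]),([6],[]),([7],[]),([7],[])],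
[([5,6],[]),([7],[]),([7],[]),([5,6],[]),([7],[]),([7],[]),([5,6],[]),([0],[6]),([7],[]),([7],[]),([2],[]),([2],[]),([2],[]),([7],[]),([7],[]),([3,6],[]),([2],[]),([2],[]),([2],[]),([7],[]),([7],[]),([3,6],[]),([2],[]),([2],[]),([2],[]),([7],[]),([7],[]),([2],[]),([2],[]),([2],[]),([7],[]),([7],[]),([5,6],[]),([],[]),([7],[]),([7],[]),([5,6],[]),([7],[]),([7],[]),([7],[]),([7],[]),([5,6],[]),([2],[]),([2],[]),([1],[]),([1],[]),([1],[]),([7],[]),([7],[]),([1],[]),([1],[]),([1],[]),([7],[]),([7],[]),([2],[]),([2],[]),([7],[]),([7],[]),([2],[]),([7],[]),([7],[]),([7],[]),([7],[]),([2],[]),([2],[]),([2],[]),([7],[]),([7],[]),([2],[]),([7],[]),([7],[]),([7],[]),([7],[]),([2],[]),([1],[]),([7],[]),([7],[]),([7],[]),([7],[]),([1],[]),([7],[]),([7],[]),([1],[]),([1],[]),([1],[]),([7],[]),([7],[]),([7],[]),([7],[]),([1],[]),([7],[]),([7],[]),([1],[]),([1],[]),([7],[]),([7],[]),([2],[]),([2],[]),([2],[]),([7],[]),([7],[]),([2],[]),([2],[]),([2],[]),([1],[]),([1],[]),([7],[]),([7],[]),([4],[6]),([5,6],[]),([4],[6]),([2],[]),([2],[]),([2],[]),([2],[]),([4],[6]),([5,6],[]),([4],[6]),([7],[]),([7],[])],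
[([6,7],[]),([5],[]),([5],[]),([6,7],[]),([5],[]),([5],[]),([5],[]),([5],[]),([0],[7]),([6,7],[]),([2],[]),([5],[]),([5],[]),([2],[]),([2],[]),([3,7],[]),([2],[]),([5],[]),([5],[]),([2],[]),([2],[]),([3,7],[]),([2],[]),([5],[]),([5],[]),([2],[]),([2],[]),([2],[]),([5],[]),([5],[]),([2],[]),([2],[]),([5],[]),([5],[]),([],[]),([6,7],[]),([6,7],[]),([5],[]),([5],[]),([5],[]),([5],[]),([6,7],[]),([2],[]),([2],[]),([1],[]),([5],[]),([5],[]),([1],[]),([1],[]),([1],[]),([5],[]),([5],[]),([1],[]),([1],[]),([5],[]),([5],[]),([2],[]),([2],[]),([2],[]),([5],[]),([5],[]),([5],[]),([5],[]),([2],[]),([5],[]),([5],[]),([2],[]),([2],[]),([2],[]),([5],[]),([5],[]),([5],[]),([5],[]),([2],[]),([1],[]),([5],[]),([5],[]),([5],[]),([5],[]),([1],[]),([1],[]),([1],[]),([5],[]),([5],[]),([1],[]),([5],[]),([5],[]),([5],[]),([5],[]),([1],[]),([1],[]),([1],[]),([5],[]),([5],[]),([2],[]),([2],[]),([5],[]),([5],[]),([2],[]),([2],[]),([2],[]),([5],[]),([5],[]),([2],[]),([1],[]),([1],[]),([6,7],[]),([4],[7]),([5],[]),([5],[]),([4],[7]),([2],[]),([2],[]),([2],[]),([2],[]),([4],[7]),([5],[]),([5],[]),([4],[7]),([6,7],[])],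
[([6],[]),([5],[]),([6],[]),([6],[]),([6],[]),([5],[]),([5],[]),([6],[]),([6],[]),([0,7],[]),([2],[]),([5],[]),([6],[]),([6],[]),([2],[]),([3],[7]),([2],[]),([5],[]),([6],[]),([6],[]),([2],[]),([3],[7]),([2],[]),([5],[]),([6],[]),([6],[]),([2],[]),([2],[]),([5],[]),([6],[]),([6],[]),([2],[]),([5],[]),([6],[]),([6],[]),([],[]),([6],[]),([6],[]),([5],[]),([5],[]),([6],[]),([6],[]),([2],[]),([2],[]),([1],[]),([5],[]),([6],[]),([6],[]),([1],[]),([1],[]),([5],[]),([6],[]),([6],[]),([1],[]),([5],[]),([6],[]),([6],[]),([2],[]),([6],[]),([6],[]),([5],[]),([5],[]),([6],[]),([6],[]),([5],[]),([6],[]),([6],[]),([2],[]),([6],[]),([6],[]),([5],[]),([5],[]),([6],[]),([6],[]),([6],[]),([6],[]),([5],[]),([5],[]),([6],[]),([6],[]),([1],[]),([6],[]),([6],[]),([5],[]),([6],[]),([6],[]),([5],[]),([5],[]),([6],[]),([6],[]),([1],[]),([6],[]),([6],[]),([5],[]),([2],[]),([6],[]),([6],[]),([5],[]),([2],[]),([2],[]),([6],[]),([6],[]),([5],[]),([2],[]),([1],[]),([1],[]),([4,7],[]),([6],[]),([6],[]),([5],[]),([4,7],[]),([2],[]),([2],[]),([2],[]),([2],[]),([4,7],[]),([5],[]),([6],[]),([6],[]),([4,7],[])]]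

set_option maxHeartbeats 2000000 in
/-- part 3 of the separation table of `E8` -/
def sepTableE8_3 : List (List (List ℕ × List ℕ)) := [
[([4,6],[]),([7],[]),([7],[]),([0],[6]),([7],[]),([7],[]),([5],[]),([5],[]),([7],[]),([7],[]),([2],[]),([5],[]),([5],[]),([7],[]),([7],[]),([3],[]),([3],[]),([5],[]),([5],[]),([7],[]),([7],[]),([3],[]),([3],[]),([5],[]),([5],[]),([7],[]),([7],[]),([2],[]),([5],[]),([5],[]),([7],[]),([7],[]),([5],[]),([5],[]),([7],[]),([7],[]),([],[]),([7],[]),([7],[]),([7],[]),([7],[]),([4,6],[]),([2],[]),([3],[]),([3],[]),([5],[]),([5],[]),([7],[]),([7],[]),([1],[]),([5],[]),([5],[]),([7],[]),([7],[]),([5],[]),([5],[]),([7],[]),([7],[]),([2],[]),([7],[]),([7],[]),([7],[]),([7],[]),([2],[]),([5],[]),([5],[]),([7],[]),([7],[]),([3],[]),([7],[]),([7],[]),([7],[]),([7],[]),([3],[]),([3],[]),([7],[]),([7],[]),([7],[]),([7],[]),([3],[]),([7],[]),([7],[]),([5],[]),([5],[]),([1],[]),([7],[]),([7],[]),([7],[]),([7],[]),([1],[]),([7],[]),([7],[]),([5],[]),([5],[]),([7],[]),([7],[]),([5],[]),([5],[]),([2],[]),([7],[]),([7],[]),([5],[]),([5],[]),([3],[]),([3],[]),([1],[]),([7],[]),([7],[]),([5],[]),([5],[]),([3],[]),([3],[]),([2],[]),([2],[]),([3],[]),([3],[]),([5],[]),([5],[]),([7],[]),([7],[])],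
[([6,7],[]),([6,7],[]),([4,7],[]),([6,7],[]),([0],[7]),([6,7],[]),([3],[]),([3],[]),([3],[]),([3],[]),([2],[]),([3],[]),([3],[]),([3],[]),([3],[]),([3],[]),([3],[]),([2],[]),([2],[]),([2],[]),([2],[]),([3],[]),([3],[]),([2],[]),([2],[]),([2],[]),([2],[]),([2],[]),([3],[]),([3],[]),([3],[]),([3],[]),([3],[]),([3],[]),([3],[]),([3],[]),([6,7],[]),([],[]),([6,7],[]),([6,7],[]),([4,7],[]),([6,7],[]),([2],[]),([3],[]),([3],[]),([1],[]),([1],[]),([1],[]),([1],[]),([1],[]),([3],[]),([3],[]),([3],[]),([3],[]),([3],[]),([3],[]),([3],[]),([3],[]),([2],[]),([2],[]),([2],[]),([2],[]),([2],[]),([2],[]),([2],[]),([2],[]),([2],[]),([2],[]),([3],[]),([3],[]),([3],[]),([3],[]),([3],[]),([3],[]),([3],[]),([3],[]),([3],[]),([3],[]),([3],[]),([3],[]),([1],[]),([1],[]),([1],[]),([1],[]),([1],[]),([1],[]),([1],[]),([1],[]),([1],[]),([1],[]),([3],[]),([3],[]),([3],[]),([3],[]),([3],[]),([3],[]),([3],[]),([3],[]),([2],[]),([2],[]),([2],[]),([2],[]),([2],[]),([3],[]),([3],[]),([1],[]),([6,7],[]),([5],[7]),([6,7],[]),([5],[7]),([3],[]),([3],[]),([2],[]),([2],[]),([3],[]),([3],[]),([5],[7]),([6,7],[]),([5],[7]),([6,7],[])],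
[([6],[]),([4],[7]),([6],[]),([6],[]),([6],[]),([0,7],[]),([3],[]),([6],[]),([6],[]),([3],[]),([2],[]),([3],[]),([6],[]),([6],[]),([3],[]),([3],[]),([3],[]),([2],[]),([6],[]),([6],[]),([2],[]),([3],[]),([3],[]),([2],[]),([6],[]),([6],[]),([2],[]),([2],[]),([3],[]),([6],[]),([6],[]),([3],[]),([3],[]),([6],[]),([6],[]),([3],[]),([6],[]),([6],[]),([],[]),([4],[7]),([6],[]),([6],[]),([2],[]),([3],[]),([3],[]),([1],[]),([6],[]),([6],[]),([1],[]),([1],[]),([3],[]),([6],[]),([6],[]),([3],[]),([3],[]),([6],[]),([6],[]),([3],[]),([6],[]),([6],[]),([2],[]),([2],[]),([6],[]),([6],[]),([2],[]),([6],[]),([6],[]),([2],[]),([6],[]),([6],[]),([3],[]),([3],[]),([6],[]),([6],[]),([6],[]),([6],[]),([3],[]),([3],[]),([6],[]),([6],[]),([1],[]),([6],[]),([6],[]),([1],[]),([6],[]),([6],[]),([1],[]),([1],[]),([6],[]),([6],[]),([3],[]),([6],[]),([6],[]),([3],[]),([3],[]),([6],[]),([6],[]),([3],[]),([2],[]),([2],[]),([6],[]),([6],[]),([2],[]),([3],[]),([3],[]),([1],[]),([5,7],[]),([6],[]),([6],[]),([5,7],[]),([3],[]),([3],[]),([2],[]),([2],[]),([3],[]),([3],[]),([5,7],[]),([6],[]),([6],[]),([5,7],[])],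
[([6],[]),([0],[7]),([6],[]),([6],[]),([6],[]),([4],[]),([3],[]),([6],[]),([6],[]),([4],[]),([4],[]),([4],[]),([6],[]),([6],[]),([3],[]),([3],[]),([4],[]),([4],[]),([6],[]),([6],[]),([2],[]),([3],[]),([4],[]),([4],[]),([6],[]),([6],[]),([2],[]),([4],[]),([4],[]),([6],[]),([6],[]),([3],[]),([3],[]),([6],[]),([6],[]),([4],[]),([6],[]),([6],[]),([4],[]),([],[]),([6],[]),([6],[]),([2],[]),([3],[]),([4],[]),([4],[]),([6],[]),([6],[]),([1],[]),([4],[]),([4],[]),([6],[]),([6],[]),([3],[]),([3],[]),([6],[]),([6],[]),([4],[]),([6],[]),([6],[]),([4],[]),([2],[]),([6],[]),([6],[]),([2],[]),([6],[]),([6],[]),([4],[]),([6],[]),([6],[]),([4],[]),([3],[]),([6],[]),([6],[]),([6],[]),([6],[]),([3],[]),([4],[]),([6],[]),([6],[]),([4],[]),([6],[]),([6],[]),([1],[]),([6],[]),([6],[]),([1],[]),([4],[]),([6],[]),([6],[]),([4],[]),([6],[]),([6],[]),([3],[]),([3],[]),([6],[]),([6],[]),([4],[]),([4],[]),([2],[]),([6],[]),([6],[]),([4],[]),([4],[]),([3],[]),([1],[]),([5,7],[]),([6],[]),([6],[]),([4],[]),([4],[]),([3],[]),([2],[]),([2],[]),([3],[]),([4],[]),([4],[]),([6],[]),([6],[]),([5,7],[])],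
[([6,7],[]),([6,7],[]),([0,7],[]),([4],[]),([4],[]),([4],[]),([3],[]),([4],[]),([4],[]),([4],[]),([4],[]),([4],[]),([3],[]),([3],[]),([3],[]),([3],[]),([4],[]),([4],[]),([2],[]),([2],[]),([2],[]),([3],[]),([4],[]),([4],[]),([2],[]),([2],[]),([2],[]),([4],[]),([4],[]),([3],[]),([3],[]),([3],[]),([3],[]),([4],[]),([4],[]),([4],[]),([4],[]),([4],[]),([4],[]),([6,7],[]),([],[]),([6,7],[]),([2],[]),([3],[]),([4],[]),([4],[]),([1],[]),([1],[]),([1],[]),([4],[]),([4],[]),([3],[]),([3],[]),([3],[]),([3],[]),([4],[]),([4],[]),([4],[]),([4],[]),([4],[]),([4],[]),([2],[]),([2],[]),([2],[]),([2],[]),([4],[]),([4],[]),([4],[]),([4],[]),([4],[]),([4],[]),([3],[]),([3],[]),([3],[]),([3],[]),([3],[]),([3],[]),([4],[]),([4],[]),([4],[]),([4],[]),([4],[]),([4],[]),([1],[]),([1],[]),([1],[]),([1],[]),([4],[]),([4],[]),([4],[]),([4],[]),([4],[]),([4],[]),([3],[]),([3],[]),([3],[]),([3],[]),([4],[]),([4],[]),([2],[]),([2],[]),([2],[]),([4],[]),([4],[]),([3],[]),([1],[]),([6,7],[]),([5],[7]),([6,7],[]),([4],[]),([4],[]),([3],[]),([2],[]),([2],[]),([3],[]),([4],[]),([4],[]),([6,7],[]),([5],[7]),([6,7],[])],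
[([0,6],[]),([7],[]),([7],[]),([4],[]),([7],[]),([7],[]),([5],[]),([5],[]),([7],[]),([7],[]),([4],[]),([5],[]),([5],[]),([7],[]),([7],[]),([3],[]),([4],[]),([5],[]),([5],[]),([7],[]),([7],[]),([3],[]),([4],[]),([5],[]),([5],[]),([7],[]),([7],[]),([4],[]),([5],[]),([5],[]),([7],[]),([7],[]),([5],[]),([5],[]),([7],[]),([7],[]),([4],[]),([7],[]),([7],[]),([7],[]),([7],[]),([],[]),([2],[]),([3],[]),([4],[]),([5],[]),([5],[]),([7],[]),([7],[]),([4],[]),([5],[]),([5],[]),([7],[]),([7],[]),([5],[]),([5],[]),([7],[]),([7],[]),([4],[]),([7],[]),([7],[]),([7],[]),([7],[]),([2],[]),([5],[]),([5],[]),([7],[]),([7],[]),([4],[]),([7],[]),([7],[]),([7],[]),([7],[]),([3],[]),([3],[]),([7],[]),([7],[]),([7],[]),([7],[]),([4],[]),([7],[]),([7],[]),([5],[]),([5],[]),([1],[]),([7],[]),([7],[]),([7],[]),([7],[]),([4],[]),([7],[]),([7],[]),([5],[]),([5],[]),([7],[]),([7],[]),([5],[]),([5],[]),([4],[]),([7],[]),([7],[]),([5],[]),([5],[]),([4],[]),([3],[]),([1],[]),([7],[]),([7],[]),([5],[]),([5],[]),([4],[]),([3],[]),([2],[]),([2],[]),([3],[]),([4],[]),([5],[]),([5],[]),([7],[]),([7],[])],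
[([6],[]),([7],[]),([7],[]),([6],[]),([7],[]),([7],[]),([5],[]),([6],[]),([7],[]),([7],[]),([4],[]),([5],[]),([6],[]),([7],[]),([7],[]),([3],[]),([4],[]),([5],[]),([6],[]),([7],[]),([7],[]),([3],[]),([4],[]),([5],[]),([6],[]),([7],[]),([7],[]),([4],[]),([5],[]),([6],[]),([7],[]),([7],[]),([5],[]),([6],[]),([7],[]),([7],[]),([6],[]),([7],[]),([7],[]),([7],[]),([7],[]),([6],[]),([],[]),([3],[]),([4],[]),([5],[]),([6],[]),([7],[]),([7],[]),([4],[]),([5],[]),([6],[]),([7],[]),([7],[]),([5],[]),([6],[]),([7],[]),([7],[]),([6],[]),([7],[]),([7],[]),([7],[]),([7],[]),([6],[]),([5],[]),([6],[]),([7],[]),([7],[]),([6],[]),([7],[]),([7],[]),([7],[]),([7],[]),([6],[]),([6],[]),([7],[]),([7],[]),([7],[]),([7],[]),([6],[]),([7],[]),([7],[]),([6],[]),([5],[]),([6],[]),([7],[]),([7],[]),([7],[]),([7],[]),([6],[]),([7],[]),([7],[]),([6],[]),([5],[]),([7],[]),([7],[]),([6],[]),([5],[]),([4],[]),([7],[]),([7],[]),([6],[]),([5],[]),([4],[]),([3],[]),([1],[]),([7],[]),([7],[]),([6],[]),([5],[]),([4],[]),([3],[]),([1],[]),([1],[]),([3],[]),([4],[]),([5],[]),([6],[]),([7],[]),([7],[])],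
[([6],[]),([7],[]),([7],[]),([6],[]),([7],[]),([7],[]),([5],[]),([6],[]),([7],[]),([7],[]),([4],[]),([5],[]),([6],[]),([7],[]),([7],[]),([2,3],[]),([4],[]),([5],[]),([6],[]),([7],[]),([7],[]),([2,3],[]),([4],[]),([5],[]),([6],[]),([7],[]),([7],[]),([4],[]),([5],[]),([6],[]),([7],[]),([7],[]),([5],[]),([6],[]),([7],[]),([7],[]),([6],[]),([7],[]),([7],[]),([7],[]),([7],[]),([6],[]),([2,3],[]),([],[]),([4],[]),([5],[]),([6],[]),([7],[]),([7],[]),([4],[]),([5],[]),([6],[]),([7],[]),([7],[]),([5],[]),([6],[]),([7],[]),([7],[]),([6],[]),([7],[]),([7],[]),([7],[]),([7],[]),([6],[]),([5],[]),([6],[]),([7],[]),([7],[]),([6],[]),([7],[]),([7],[]),([7],[]),([7],[]),([6],[]),([6],[]),([7],[]),([7],[]),([7],[]),([7],[]),([6],[]),([7],[]),([7],[]),([6],[]),([5],[]),([6],[]),([7],[]),([7],[]),([7],[]),([7],[]),([6],[]),([7],[]),([7],[]),([6],[]),([5],[]),([7],[]),([7],[]),([6],[]),([5],[]),([4],[]),([7],[]),([7],[]),([6],[]),([5],[]),([4],[]),([1],[]),([1],[]),([7],[]),([7],[]),([6],[]),([5],[]),([4],[]),([1],[]),([1],[]),([1],[]),([1],[]),([4],[]),([5],[]),([6],[]),([7],[]),([7],[])],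
[([6],[]),([7],[]),([7],[]),([6],[]),([7],[]),([7],[]),([5],[]),([6],[]),([7],[]),([7],[]),([2],[]),([5],[]),([6],[]),([7],[]),([7],[]),([3,4],[]),([2],[]),([5],[]),([6],[]),([7],[]),([7],[]),([3,4],[]),([2],[]),([5],[]),([6],[]),([7],[]),([7],[]),([2],[]),([5],[]),([6],[]),([7],[]),([7],[]),([5],[]),([6],[]),([7],[]),([7],[]),([6],[]),([7],[]),([7],[]),([7],[]),([7],[]),([6],[]),([2],[]),([2],[]),([],[]),([5],[]),([6],[]),([7],[]),([7],[]),([3,4],[]),([5],[]),([6],[]),([7],[]),([7],[]),([5],[]),([6],[]),([7],[]),([7],[]),([6],[]),([7],[]),([7],[]),([7],[]),([7],[]),([6],[]),([5],[]),([6],[]),([7],[]),([7],[]),([6],[]),([7],[]),([7],[]),([7],[]),([7],[]),([6],[]),([6],[]),([7],[]),([7],[]),([7],[]),([7],[]),([6],[]),([7],[]),([7],[]),([6],[]),([5],[]),([6],[]),([7],[]),([7],[]),([7],[]),([7],[]),([6],[]),([7],[]),([7],[]),([6],[]),([5],[]),([7],[]),([7],[]),([6],[]),([5],[]),([2],[]),([7],[]),([7],[]),([6],[]),([5],[]),([2],[]),([3,4],[]),([1],[4]),([7],[]),([7],[]),([6],[]),([5],[]),([1],[4]),([2],[]),([2],[]),([2],[]),([2],[]),([1],[4]),([5],[]),([6],[]),([7],[]),([7],[])],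
[([6],[]),([7],[]),([7],[]),([6],[]),([7],[]),([7],[]),([3],[]),([6],[]),([7],[]),([7],[]),([2],[]),([3],[]),([6],[]),([7],[]),([7],[]),([3],[]),([3],[]),([2],[]),([6],[]),([7],[]),([7],[]),([3],[]),([3],[]),([2],[]),([6],[]),([7],[]),([7],[]),([2],[]),([3],[]),([6],[]),([7],[]),([7],[]),([3],[]),([6],[]),([7],[]),([7],[]),([6],[]),([7],[]),([7],[]),([7],[]),([7],[]),([6],[]),([2],[]),([3],[]),([3],[]),([],[]),([6],[]),([7],[]),([7],[]),([4,5],[]),([3],[]),([6],[]),([7],[]),([7],[]),([3],[]),([6],[]),([7],[]),([7],[]),([6],[]),([7],[]),([7],[]),([7],[]),([7],[]),([6],[]),([2],[]),([6],[]),([7],[]),([7],[]),([6],[]),([7],[]),([7],[]),([7],[]),([7],[]),([6],[]),([6],[]),([7],[]),([7],[]),([7],[]),([7],[]),([6],[]),([7],[]),([7],[]),([6],[]),([4,5],[]),([6],[]),([7],[]),([7],[]),([7],[]),([7],[]),([6],[]),([7],[]),([7],[]),([6],[]),([3],[]),([7],[]),([7],[]),([6],[]),([3],[]),([2],[]),([7],[]),([7],[]),([6],[]),([2],[]),([3],[]),([3],[]),([1],[5]),([7],[]),([7],[]),([6],[]),([1],[5]),([3],[]),([3],[]),([2],[]),([2],[]),([3],[]),([3],[]),([1],[5]),([6],[]),([7],[]),([7],[])],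
[([5,6],[]),([7],[]),([7],[]),([4],[]),([7],[]),([7],[]),([3],[]),([4],[]),([7],[]),([7],[]),([4],[]),([4],[]),([3],[]),([7],[]),([7],[]),([3],[]),([4],[]),([4],[]),([2],[]),([7],[]),([7],[]),([3],[]),([4],[]),([4],[]),([2],[]),([7],[]),([7],[]),([4],[]),([4],[]),([3],[]),([7],[]),([7],[]),([3],[]),([4],[]),([7],[]),([7],[]),([4],[]),([7],[]),([7],[]),([7],[]),([7],[]),([5,6],[]),([2],[]),([3],[]),([4],[]),([4],[]),([],[]),([7],[]),([7],[]),([4],[]),([4],[]),([3],[]),([7],[]),([7],[]),([3],[]),([4],[]),([7],[]),([7],[]),([4],[]),([7],[]),([7],[]),([7],[]),([7],[]),([2],[]),([2],[]),([4],[]),([7],[]),([7],[]),([4],[]),([7],[]),([7],[]),([7],[]),([7],[]),([3],[]),([3],[]),([7],[]),([7],[]),([7],[]),([7],[]),([4],[]),([7],[]),([7],[]),([4],[]),([5,6],[]),([5,6],[]),([7],[]),([7],[]),([7],[]),([7],[]),([4],[]),([7],[]),([7],[]),([4],[]),([3],[]),([7],[]),([7],[]),([3],[]),([4],[]),([4],[]),([7],[]),([7],[]),([2],[]),([4],[]),([4],[]),([3],[]),([1],[6]),([7],[]),([7],[]),([1],[6]),([4],[]),([4],[]),([3],[]),([2],[]),([2],[]),([3],[]),([4],[]),([4],[]),([1],[6]),([7],[]),([7],[])],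
[([6,7],[]),([5],[]),([5],[]),([4],[]),([5],[]),([5],[]),([5],[]),([5],[]),([4],[]),([4],[]),([4],[]),([5],[]),([5],[]),([3],[]),([3],[]),([3],[]),([4],[]),([5],[]),([5],[]),([2],[]),([2],[]),([3],[]),([4],[]),([5],[]),([5],[]),([2],[]),([2],[]),([4],[]),([5],[]),([5],[]),([3],[]),([3],[]),([5],[]),([5],[]),([4],[]),([4],[]),([4],[]),([5],[]),([5],[]),([5],[]),([5],[]),([6,7],[]),([2],[]),([3],[]),([4],[]),([5],[]),([5],[]),([],[]),([6,7],[]),([4],[]),([5],[]),([5],[]),([3],[]),([3],[]),([5],[]),([5],[]),([4],[]),([4],[]),([4],[]),([5],[]),([5],[]),([5],[]),([5],[]),([2],[]),([5],[]),([5],[]),([4],[]),([4],[]),([4],[]),([5],[]),([5],[]),([5],[]),([5],[]),([3],[]),([3],[]),([5],[]),([5],[]),([5],[]),([5],[]),([4],[]),([4],[]),([4],[]),([5],[]),([5],[]),([6,7],[]),([5],[]),([5],[]),([5],[]),([5],[]),([4],[]),([4],[]),([4],[]),([5],[]),([5],[]),([3],[]),([3],[]),([5],[]),([5],[]),([4],[]),([2],[]),([2],[]),([5],[]),([5],[]),([4],[]),([3],[]),([1],[7]),([6,7],[]),([1],[7]),([5],[]),([5],[]),([4],[]),([3],[]),([2],[]),([2],[]),([3],[]),([4],[]),([5],[]),([5],[]),([1],[7]),([6,7],[])]]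

set_option maxHeartbeats 2000000 in
/-- part 4 of the separation table of `E8` -/
def sepTableE8_4 : List (List (List ℕ × List ℕ)) := [
[([6],[]),([5],[]),([6],[]),([6],[]),([6],[]),([5],[]),([5],[]),([6],[]),([6],[]),([4],[]),([4],[]),([5],[]),([6],[]),([6],[]),([3],[]),([3],[]),([4],[]),([5],[]),([6],[]),([6],[]),([2],[]),([3],[]),([4],[]),([5],[]),([6],[]),([6],[]),([2],[]),([4],[]),([5],[]),([6],[]),([6],[]),([3],[]),([5],[]),([6],[]),([6],[]),([4],[]),([6],[]),([6],[]),([5],[]),([5],[]),([6],[]),([6],[]),([2],[]),([3],[]),([4],[]),([5],[]),([6],[]),([6],[]),([],[]),([4],[]),([5],[]),([6],[]),([6],[]),([3],[]),([5],[]),([6],[]),([6],[]),([4],[]),([6],[]),([6],[]),([5],[]),([5],[]),([6],[]),([6],[]),([5],[]),([6],[]),([6],[]),([4],[]),([6],[]),([6],[]),([5],[]),([5],[]),([6],[]),([6],[]),([6],[]),([6],[]),([5],[]),([5],[]),([6],[]),([6],[]),([4],[]),([6],[]),([6],[]),([5],[]),([6],[]),([6],[]),([5],[]),([5],[]),([6],[]),([6],[]),([4],[]),([6],[]),([6],[]),([5],[]),([3],[]),([6],[]),([6],[]),([5],[]),([4],[]),([2],[]),([6],[]),([6],[]),([5],[]),([4],[]),([3],[]),([1,7],[]),([1,7],[]),([6],[]),([6],[]),([5],[]),([4],[]),([3],[]),([2],[]),([2],[]),([3],[]),([4],[]),([5],[]),([6],[]),([6],[]),([1,7],[])],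
[([6],[]),([7],[]),([7],[]),([6],[]),([7],[]),([7],[]),([5],[]),([6],[]),([7],[]),([7],[]),([2],[]),([5],[]),([6],[]),([7],[]),([7],[]),([3],[]),([3],[]),([5],[]),([6],[]),([7],[]),([7],[]),([3],[]),([3],[]),([5],[]),([6],[]),([7],[]),([7],[]),([2],[]),([5],[]),([6],[]),([7],[]),([7],[]),([5],[]),([6],[]),([7],[]),([7],[]),([6],[]),([7],[]),([7],[]),([7],[]),([7],[]),([6],[]),([2],[]),([3],[]),([3],[]),([5],[]),([6],[]),([7],[]),([7],[]),([],[]),([5],[]),([6],[]),([7],[]),([7],[]),([5],[]),([6],[]),([7],[]),([7],[]),([6],[]),([7],[]),([7],[]),([7],[]),([7],[]),([6],[]),([5],[]),([6],[]),([7],[]),([7],[]),([6],[]),([7],[]),([7],[]),([7],[]),([7],[]),([6],[]),([6],[]),([7],[]),([7],[]),([7],[]),([7],[]),([6],[]),([7],[]),([7],[]),([6],[]),([5],[]),([6],[]),([7],[]),([7],[]),([7],[]),([7],[]),([6],[]),([7],[]),([7],[]),([6],[]),([5],[]),([7],[]),([7],[]),([6],[]),([5],[]),([2],[]),([7],[]),([7],[]),([6],[]),([5],[]),([3],[]),([3],[]),([1,4],[]),([7],[]),([7],[]),([6],[]),([5],[]),([3],[]),([3],[]),([2],[]),([2],[]),([3],[]),([3],[]),([5],[]),([6],[]),([7],[]),([7],[])],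
[([6],[]),([7],[]),([7],[]),([6],[]),([7],[]),([7],[]),([4,5],[]),([6],[]),([7],[]),([7],[]),([2],[]),([2],[]),([6],[]),([7],[]),([7],[]),([3],[5]),([2],[]),([2],[]),([6],[]),([7],[]),([7],[]),([3],[5]),([2],[]),([2],[]),([6],[]),([7],[]),([7],[]),([2],[]),([2],[]),([6],[]),([7],[]),([7],[]),([4,5],[]),([6],[]),([7],[]),([7],[]),([6],[]),([7],[]),([7],[]),([7],[]),([7],[]),([6],[]),([2],[]),([2],[]),([4,5],[]),([3],[5]),([6],[]),([7],[]),([7],[]),([4,5],[]),([],[]),([6],[]),([7],[]),([7],[]),([2],[]),([6],[]),([7],[]),([7],[]),([6],[]),([7],[]),([7],[]),([7],[]),([7],[]),([6],[]),([2],[]),([6],[]),([7],[]),([7],[]),([6],[]),([7],[]),([7],[]),([7],[]),([7],[]),([6],[]),([6],[]),([7],[]),([7],[]),([7],[]),([7],[]),([6],[]),([7],[]),([7],[]),([6],[]),([4,5],[]),([6],[]),([7],[]),([7],[]),([7],[]),([7],[]),([6],[]),([7],[]),([7],[]),([6],[]),([4,5],[]),([7],[]),([7],[]),([6],[]),([2],[]),([2],[]),([7],[]),([7],[]),([6],[]),([2],[]),([2],[]),([3],[5]),([1,5],[]),([7],[]),([7],[]),([6],[]),([3],[5]),([4,5],[]),([2],[]),([2],[]),([2],[]),([2],[]),([4,5],[]),([3],[5]),([6],[]),([7],[]),([7],[])],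
[([5,6],[]),([7],[]),([7],[]),([4],[]),([7],[]),([7],[]),([5,6],[]),([4],[]),([7],[]),([7],[]),([4],[]),([4],[]),([2],[]),([7],[]),([7],[]),([3],[6]),([4],[]),([4],[]),([2],[]),([7],[]),([7],[]),([3],[6]),([4],[]),([4],[]),([2],[]),([7],[]),([7],[]),([4],[]),([4],[]),([2],[]),([7],[]),([7],[]),([5,6],[]),([4],[]),([7],[]),([7],[]),([4],[]),([7],[]),([7],[]),([7],[]),([7],[]),([5,6],[]),([2],[]),([2],[]),([4],[]),([4],[]),([3],[6]),([7],[]),([7],[]),([4],[]),([4],[]),([],[]),([7],[]),([7],[]),([2],[]),([4],[]),([7],[]),([7],[]),([4],[]),([7],[]),([7],[]),([7],[]),([7],[]),([2],[]),([2],[]),([4],[]),([7],[]),([7],[]),([4],[]),([7],[]),([7],[]),([7],[]),([7],[]),([2],[]),([5,6],[]),([7],[]),([7],[]),([7],[]),([7],[]),([4],[]),([7],[]),([7],[]),([4],[]),([5,6],[]),([5,6],[]),([7],[]),([7],[]),([7],[]),([7],[]),([4],[]),([7],[]),([7],[]),([4],[]),([5,6],[]),([7],[]),([7],[]),([2],[]),([4],[]),([4],[]),([7],[]),([7],[]),([2],[]),([4],[]),([4],[]),([3],[6]),([1,6],[]),([7],[]),([7],[]),([3],[6]),([4],[]),([4],[]),([2],[]),([2],[]),([2],[]),([2],[]),([4],[]),([4],[]),([3],[6]),([7],[]),([7],[])],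
[([6,7],[]),([5],[]),([5],[]),([4],[]),([5],[]),([5],[]),([5],[]),([5],[]),([4],[]),([4],[]),([4],[]),([5],[]),([5],[]),([2],[]),([2],[]),([3],[7]),([4],[]),([5],[]),([5],[]),([2],[]),([2],[]),([3],[7]),([4],[]),([5],[]),([5],[]),([2],[]),([2],[]),([4],[]),([5],[]),([5],[]),([2],[]),([2],[]),([5],[]),([5],[]),([4],[]),([4],[]),([4],[]),([5],[]),([5],[]),([5],[]),([5],[]),([6,7],[]),([2],[]),([2],[]),([4],[]),([5],[]),([5],[]),([3],[7]),([6,7],[]),([4],[]),([5],[]),([5],[]),([],[]),([6,7],[]),([5],[]),([5],[]),([4],[]),([4],[]),([4],[]),([5],[]),([5],[]),([5],[]),([5],[]),([2],[]),([5],[]),([5],[]),([4],[]),([4],[]),([4],[]),([5],[]),([5],[]),([5],[]),([5],[]),([2],[]),([6,7],[]),([5],[]),([5],[]),([5],[]),([5],[]),([4],[]),([4],[]),([4],[]),([5],[]),([5],[]),([6,7],[]),([5],[]),([5],[]),([5],[]),([5],[]),([4],[]),([4],[]),([4],[]),([5],[]),([5],[]),([2],[]),([2],[]),([5],[]),([5],[]),([4],[]),([2],[]),([2],[]),([5],[]),([5],[]),([4],[]),([3],[7]),([1,7],[]),([6,7],[]),([3],[7]),([5],[]),([5],[]),([4],[]),([2],[]),([2],[]),([2],[]),([2],[]),([4],[]),([5],[]),([5],[]),([3],[7]),([6,7],[])],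
[([6],[]),([5],[]),([6],[]),([6],[]),([6],[]),([5],[]),([5],[]),([6],[]),([6],[]),([4],[]),([4],[]),([5],[]),([6],[]),([6],[]),([2],[]),([3,7],[]),([4],[]),([5],[]),([6],[]),([6],[]),([2],[]),([3,7],[]),([4],[]),([5],[]),([6],[]),([6],[]),([2],[]),([4],[]),([5],[]),([6],[]),([6],[]),([2],[]),([5],[]),([6],[]),([6],[]),([4],[]),([6],[]),([6],[]),([5],[]),([5],[]),([6],[]),([6],[]),([2],[]),([2],[]),([4],[]),([5],[]),([6],[]),([6],[]),([3,7],[]),([4],[]),([5],[]),([6],[]),([6],[]),([],[]),([5],[]),([6],[]),([6],[]),([4],[]),([6],[]),([6],[]),([5],[]),([5],[]),([6],[]),([6],[]),([5],[]),([6],[]),([6],[]),([4],[]),([6],[]),([6],[]),([5],[]),([5],[]),([6],[]),([6],[]),([6],[]),([6],[]),([5],[]),([5],[]),([6],[]),([6],[]),([4],[]),([6],[]),([6],[]),([5],[]),([6],[]),([6],[]),([5],[]),([5],[]),([6],[]),([6],[]),([4],[]),([6],[]),([6],[]),([5],[]),([2],[]),([6],[]),([6],[]),([5],[]),([4],[]),([2],[]),([6],[]),([6],[]),([5],[]),([4],[]),([3,7],[]),([1],[7]),([3,7],[]),([6],[]),([6],[]),([5],[]),([4],[]),([2],[]),([2],[]),([2],[]),([2],[]),([4],[]),([5],[]),([6],[]),([6],[]),([3,7],[])],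
[([6],[]),([7],[]),([7],[]),([6],[]),([7],[]),([7],[]),([2],[5]),([6],[]),([7],[]),([7],[]),([4],[]),([4],[]),([6],[]),([7],[]),([7],[]),([3,5],[]),([4],[]),([4],[]),([6],[]),([7],[]),([7],[]),([3,5],[]),([4],[]),([4],[]),([6],[]),([7],[]),([7],[]),([4],[]),([4],[]),([6],[]),([7],[]),([7],[]),([2],[5]),([6],[]),([7],[]),([7],[]),([6],[]),([7],[]),([7],[]),([7],[]),([7],[]),([6],[]),([2],[5]),([3,5],[]),([4],[]),([4],[]),([6],[]),([7],[]),([7],[]),([4],[]),([4],[]),([6],[]),([7],[]),([7],[]),([],[]),([6],[]),([7],[]),([7],[]),([6],[]),([7],[]),([7],[]),([7],[]),([7],[]),([6],[]),([3,5],[]),([6],[]),([7],[]),([7],[]),([6],[]),([7],[]),([7],[]),([7],[]),([7],[]),([6],[]),([6],[]),([7],[]),([7],[]),([7],[]),([7],[]),([6],[]),([7],[]),([7],[]),([6],[]),([1],[]),([6],[]),([7],[]),([7],[]),([7],[]),([7],[]),([6],[]),([7],[]),([7],[]),([6],[]),([1],[]),([7],[]),([7],[]),([6],[]),([4],[]),([4],[]),([7],[]),([7],[]),([6],[]),([4],[]),([4],[]),([1],[]),([1],[]),([7],[]),([7],[]),([6],[]),([4],[]),([4],[]),([1],[]),([1],[]),([1],[]),([1],[]),([4],[]),([4],[]),([6],[]),([7],[]),([7],[])],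
[([5,6],[]),([7],[]),([7],[]),([5,6],[]),([7],[]),([7],[]),([5,6],[]),([2],[6]),([7],[]),([7],[]),([1],[]),([1],[]),([1],[]),([7],[]),([7],[]),([3,6],[]),([1],[]),([1],[]),([1],[]),([7],[]),([7],[]),([3,6],[]),([1],[]),([1],[]),([1],[]),([7],[]),([7],[]),([1],[]),([1],[]),([1],[]),([7],[]),([7],[]),([5,6],[]),([2],[6]),([7],[]),([7],[]),([5,6],[]),([7],[]),([7],[]),([7],[]),([7],[]),([5,6],[]),([2],[6]),([3,6],[]),([1],[]),([1],[]),([1],[]),([7],[]),([7],[]),([1],[]),([1],[]),([1],[]),([7],[]),([7],[]),([5,6],[]),([],[]),([7],[]),([7],[]),([5,6],[]),([7],[]),([7],[]),([7],[]),([7],[]),([5,6],[]),([5,6],[]),([3,6],[]),([7],[]),([7],[]),([5,6],[]),([7],[]),([7],[]),([7],[]),([7],[]),([5,6],[]),([1],[]),([7],[]),([7],[]),([7],[]),([7],[]),([1],[]),([7],[]),([7],[]),([1],[]),([1],[]),([1],[]),([7],[]),([7],[]),([7],[]),([7],[]),([1],[]),([7],[]),([7],[]),([1],[]),([1],[]),([7],[]),([7],[]),([4],[6]),([5,6],[]),([4],[6]),([7],[]),([7],[]),([4],[6]),([5,6],[]),([4],[6]),([1],[]),([1],[]),([7],[]),([7],[]),([4],[6]),([5,6],[]),([4],[6]),([1],[]),([1],[]),([1],[]),([1],[]),([4],[6]),([5,6],[]),([4],[6]),([7],[]),([7],[])],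
[([6,7],[]),([5],[]),([5],[]),([6,7],[]),([5],[]),([5],[]),([5],[]),([5],[]),([2],[7]),([6,7],[]),([1],[]),([5],[]),([5],[]),([1],[]),([1],[]),([3,7],[]),([1],[]),([5],[]),([5],[]),([1],[]),([1],[]),([3,7],[]),([1],[]),([5],[]),([5],[]),([1],[]),([1],[]),([1],[]),([5],[]),([5],[]),([1],[]),([1],[]),([5],[]),([5],[]),([2],[7]),([6,7],[]),([6,7],[]),([5],[]),([5],[]),([5],[]),([5],[]),([6,7],[]),([2],[7]),([3,7],[]),([1],[]),([5],[]),([5],[]),([1],[]),([1],[]),([1],[]),([5],[]),([5],[]),([1],[]),([1],[]),([5],[]),([5],[]),([],[]),([6,7],[]),([6,7],[]),([5],[]),([5],[]),([5],[]),([5],[]),([6,7],[]),([5],[]),([5],[]),([3,7],[]),([6,7],[]),([6,7],[]),([5],[]),([5],[]),([5],[]),([5],[]),([6,7],[]),([1],[]),([5],[]),([5],[]),([5],[]),([5],[]),([1],[]),([1],[]),([1],[]),([5],[]),([5],[]),([1],[]),([5],[]),([5],[]),([5],[]),([5],[]),([1],[]),([1],[]),([1],[]),([5],[]),([5],[]),([6,7],[]),([4],[7]),([5],[]),([5],[]),([4],[7]),([6,7],[]),([4],[7]),([5],[]),([5],[]),([4],[7]),([1],[]),([1],[]),([6,7],[]),([4],[7]),([5],[]),([5],[]),([4],[7]),([1],[]),([1],[]),([1],[]),([1],[]),([4],[7]),([5],[]),([5],[]),([4],[7]),([6,7],[])],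
[([6],[]),([5],[]),([6],[]),([6],[]),([6],[]),([5],[]),([5],[]),([6],[]),([6],[]),([2,7],[]),([1],[]),([5],[]),([6],[]),([6],[]),([1],[]),([3],[7]),([1],[]),([5],[]),([6],[]),([6],[]),([1],[]),([3],[7]),([1],[]),([5],[]),([6],[]),([6],[]),([1],[]),([1],[]),([5],[]),([6],[]),([6],[]),([1],[]),([5],[]),([6],[]),([6],[]),([2,7],[]),([6],[]),([6],[]),([5],[]),([5],[]),([6],[]),([6],[]),([2,7],[]),([3],[7]),([1],[]),([5],[]),([6],[]),([6],[]),([1],[]),([1],[]),([5],[]),([6],[]),([6],[]),([1],[]),([5],[]),([6],[]),([6],[]),([],[]),([6],[]),([6],[]),([5],[]),([5],[]),([6],[]),([6],[]),([5],[]),([6],[]),([6],[]),([3],[7]),([6],[]),([6],[]),([5],[]),([5],[]),([6],[]),([6],[]),([6],[]),([6],[]),([5],[]),([5],[]),([6],[]),([6],[]),([1],[]),([6],[]),([6],[]),([5],[]),([6],[]),([6],[]),([5],[]),([5],[]),([6],[]),([6],[]),([1],[]),([6],[]),([6],[]),([5],[]),([4,7],[]),([6],[]),([6],[]),([5],[]),([4,7],[]),([4,7],[]),([6],[]),([6],[]),([5],[]),([4,7],[]),([1],[]),([1],[]),([4,7],[]),([6],[]),([6],[]),([5],[]),([4,7],[]),([1],[]),([1],[]),([1],[]),([1],[]),([4,7],[]),([5],[]),([6],[]),([6],[]),([4,7],[])],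
[([4,6],[]),([7],[]),([7],[]),([2],[6]),([7],[]),([7],[]),([5],[]),([5],[]),([7],[]),([7],[]),([1],[]),([5],[]),([5],[]),([7],[]),([7],[]),([3],[]),([3],[]),([5],[]),([5],[]),([7],[]),([7],[]),([3],[]),([3],[]),([5],[]),([5],[]),([7],[]),([7],[]),([1],[]),([5],[]),([5],[]),([7],[]),([7],[]),([5],[]),([5],[]),([7],[]),([7],[]),([2],[6]),([7],[]),([7],[]),([7],[]),([7],[]),([4,6],[]),([2],[6]),([3],[]),([3],[]),([5],[]),([5],[]),([7],[]),([7],[]),([1],[]),([5],[]),([5],[]),([7],[]),([7],[]),([5],[]),([5],[]),([7],[]),([7],[]),([],[]),([7],[]),([7],[]),([7],[]),([7],[]),([4,6],[]),([5],[]),([5],[]),([7],[]),([7],[]),([3],[]),([7],[]),([7],[]),([7],[]),([7],[]),([3],[]),([3],[]),([7],[]),([7],[]),([7],[]),([7],[]),([3],[]),([7],[]),([7],[]),([5],[]),([5],[]),([1],[]),([7],[]),([7],[]),([7],[]),([7],[]),([1],[]),([7],[]),([7],[]),([5],[]),([5],[]),([7],[]),([7],[]),([5],[]),([5],[]),([4,6],[]),([7],[]),([7],[]),([5],[]),([5],[]),([3],[]),([3],[]),([1],[]),([7],[]),([7],[]),([5],[]),([5],[]),([3],[]),([3],[]),([1],[]),([1],[]),([3],[]),([3],[]),([5],[]),([5],[]),([7],[]),([7],[])],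
[([6,7],[]),([6,7],[]),([4,7],[]),([6,7],[]),([2],[7]),([6,7],[]),([3],[]),([3],[]),([3],[]),([3],[]),([1],[]),([3],[]),([3],[]),([3],[]),([3],[]),([3],[]),([3],[]),([1],[]),([1],[]),([1],[]),([1],[]),([3],[]),([3],[]),([1],[]),([1],[]),([1],[]),([1],[]),([1],[]),([3],[]),([3],[]),([3],[]),([3],[]),([3],[]),([3],[]),([3],[]),([3],[]),([6,7],[]),([2],[7]),([6,7],[]),([6,7],[]),([4,7],[]),([6,7],[]),([2],[7]),([3],[]),([3],[]),([1],[]),([1],[]),([1],[]),([1],[]),([1],[]),([3],[]),([3],[]),([3],[]),([3],[]),([3],[]),([3],[]),([3],[]),([3],[]),([6,7],[]),([],[]),([6,7],[]),([6,7],[]),([4,7],[]),([6,7],[]),([5],[7]),([6,7],[]),([5],[7]),([6,7],[]),([3],[]),([3],[]),([3],[]),([3],[]),([3],[]),([3],[]),([3],[]),([3],[]),([3],[]),([3],[]),([3],[]),([3],[]),([1],[]),([1],[]),([1],[]),([1],[]),([1],[]),([1],[]),([1],[]),([1],[]),([1],[]),([1],[]),([3],[]),([3],[]),([3],[]),([3],[]),([3],[]),([3],[]),([3],[]),([3],[]),([4,7],[]),([6,7],[]),([5],[7]),([6,7],[]),([5],[7]),([3],[]),([3],[]),([1],[]),([6,7],[]),([5],[7]),([6,7],[]),([5],[7]),([3],[]),([3],[]),([1],[]),([1],[]),([3],[]),([3],[]),([5],[7]),([6,7],[]),([5],[7]),([6,7],[])]]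

set_option maxHeartbeats 2000000 in
/-- part 5 of the separation table of `E8` -/
def sepTableE8_5 : List (List (List ℕ × List ℕ)) := [
[([6],[]),([4],[7]),([6],[]),([6],[]),([6],[]),([2,7],[]),([3],[]),([6],[]),([6],[]),([3],[]),([1],[]),([3],[]),([6],[]),([6],[]),([3],[]),([3],[]),([3],[]),([1],[]),([6],[]),([6],[]),([1],[]),([3],[]),([3],[]),([1],[]),([6],[]),([6],[]),([1],[]),([1],[]),([3],[]),([6],[]),([6],[]),([3],[]),([3],[]),([6],[]),([6],[]),([3],[]),([6],[]),([6],[]),([2,7],[]),([4],[7]),([6],[]),([6],[]),([2,7],[]),([3],[]),([3],[]),([1],[]),([6],[]),([6],[]),([1],[]),([1],[]),([3],[]),([6],[]),([6],[]),([3],[]),([3],[]),([6],[]),([6],[]),([3],[]),([6],[]),([6],[]),([],[]),([4],[7]),([6],[]),([6],[]),([5,7],[]),([6],[]),([6],[]),([5,7],[]),([6],[]),([6],[]),([3],[]),([3],[]),([6],[]),([6],[]),([6],[]),([6],[]),([3],[]),([3],[]),([6],[]),([6],[]),([1],[]),([6],[]),([6],[]),([1],[]),([6],[]),([6],[]),([1],[]),([1],[]),([6],[]),([6],[]),([3],[]),([6],[]),([6],[]),([3],[]),([3],[]),([6],[]),([6],[]),([3],[]),([4],[7]),([5,7],[]),([6],[]),([6],[]),([5,7],[]),([3],[]),([3],[]),([1],[]),([5,7],[]),([6],[]),([6],[]),([5,7],[]),([3],[]),([3],[]),([1],[]),([1],[]),([3],[]),([3],[]),([5,7],[]),([6],[]),([6],[]),([5,7],[])],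
[([6],[]),([2],[7]),([6],[]),([6],[]),([6],[]),([4],[]),([3],[]),([6],[]),([6],[]),([4],[]),([4],[]),([4],[]),([6],[]),([6],[]),([3],[]),([3],[]),([4],[]),([4],[]),([6],[]),([6],[]),([1],[]),([3],[]),([4],[]),([4],[]),([6],[]),([6],[]),([1],[]),([4],[]),([4],[]),([6],[]),([6],[]),([3],[]),([3],[]),([6],[]),([6],[]),([4],[]),([6],[]),([6],[]),([4],[]),([2],[7]),([6],[]),([6],[]),([2],[7]),([3],[]),([4],[]),([4],[]),([6],[]),([6],[]),([1],[]),([4],[]),([4],[]),([6],[]),([6],[]),([3],[]),([3],[]),([6],[]),([6],[]),([4],[]),([6],[]),([6],[]),([4],[]),([],[]),([6],[]),([6],[]),([5,7],[]),([6],[]),([6],[]),([4],[]),([6],[]),([6],[]),([4],[]),([3],[]),([6],[]),([6],[]),([6],[]),([6],[]),([3],[]),([4],[]),([6],[]),([6],[]),([4],[]),([6],[]),([6],[]),([1],[]),([6],[]),([6],[]),([1],[]),([4],[]),([6],[]),([6],[]),([4],[]),([6],[]),([6],[]),([3],[]),([3],[]),([6],[]),([6],[]),([4],[]),([4],[]),([5,7],[]),([6],[]),([6],[]),([4],[]),([4],[]),([3],[]),([1],[]),([5,7],[]),([6],[]),([6],[]),([4],[]),([4],[]),([3],[]),([1],[]),([1],[]),([3],[]),([4],[]),([4],[]),([6],[]),([6],[]),([5,7],[])],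
[([6,7],[]),([6,7],[]),([2,7],[]),([4],[]),([4],[]),([4],[]),([3],[]),([4],[]),([4],[]),([4],[]),([4],[]),([4],[]),([3],[]),([3],[]),([3],[]),([3],[]),([4],[]),([4],[]),([1],[]),([1],[]),([1],[]),([3],[]),([4],[]),([4],[]),([1],[]),([1],[]),([1],[]),([4],[]),([4],[]),([3],[]),([3],[]),([3],[]),([3],[]),([4],[]),([4],[]),([4],[]),([4],[]),([4],[]),([4],[]),([6,7],[]),([2,7],[]),([6,7],[]),([2,7],[]),([3],[]),([4],[]),([4],[]),([1],[]),([1],[]),([1],[]),([4],[]),([4],[]),([3],[]),([3],[]),([3],[]),([3],[]),([4],[]),([4],[]),([4],[]),([4],[]),([4],[]),([4],[]),([6,7],[]),([],[]),([6,7],[]),([5],[7]),([4],[]),([4],[]),([4],[]),([4],[]),([4],[]),([4],[]),([3],[]),([3],[]),([3],[]),([3],[]),([3],[]),([3],[]),([4],[]),([4],[]),([4],[]),([4],[]),([4],[]),([4],[]),([1],[]),([1],[]),([1],[]),([1],[]),([4],[]),([4],[]),([4],[]),([4],[]),([4],[]),([4],[]),([3],[]),([3],[]),([3],[]),([3],[]),([4],[]),([4],[]),([6,7],[]),([5],[7]),([6,7],[]),([4],[]),([4],[]),([3],[]),([1],[]),([6,7],[]),([5],[7]),([6,7],[]),([4],[]),([4],[]),([3],[]),([1],[]),([1],[]),([3],[]),([4],[]),([4],[]),([6,7],[]),([5],[7]),([6,7],[])],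
[([2,6],[]),([7],[]),([7],[]),([4],[]),([7],[]),([7],[]),([5],[]),([5],[]),([7],[]),([7],[]),([4],[]),([5],[]),([5],[]),([7],[]),([7],[]),([3],[]),([4],[]),([5],[]),([5],[]),([7],[]),([7],[]),([3],[]),([4],[]),([5],[]),([5],[]),([7],[]),([7],[]),([4],[]),([5],[]),([5],[]),([7],[]),([7],[]),([5],[]),([5],[]),([7],[]),([7],[]),([4],[]),([7],[]),([7],[]),([7],[]),([7],[]),([2,6],[]),([2,6],[]),([3],[]),([4],[]),([5],[]),([5],[]),([7],[]),([7],[]),([4],[]),([5],[]),([5],[]),([7],[]),([7],[]),([5],[]),([5],[]),([7],[]),([7],[]),([4],[]),([7],[]),([7],[]),([7],[]),([7],[]),([],[]),([5],[]),([5],[]),([7],[]),([7],[]),([4],[]),([7],[]),([7],[]),([7],[]),([7],[]),([3],[]),([3],[]),([7],[]),([7],[]),([7],[]),([7],[]),([4],[]),([7],[]),([7],[]),([5],[]),([5],[]),([1],[]),([7],[]),([7],[]),([7],[]),([7],[]),([4],[]),([7],[]),([7],[]),([5],[]),([5],[]),([7],[]),([7],[]),([5],[]),([5],[]),([4],[]),([7],[]),([7],[]),([5],[]),([5],[]),([4],[]),([3],[]),([1],[]),([7],[]),([7],[]),([5],[]),([5],[]),([4],[]),([3],[]),([1],[]),([1],[]),([3],[]),([4],[]),([5],[]),([5],[]),([7],[]),([7],[])],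
[([6],[]),([7],[]),([7],[]),([6],[]),([7],[]),([7],[]),([3],[]),([6],[]),([7],[]),([7],[]),([4],[]),([4],[]),([6],[]),([7],[]),([7],[]),([3],[]),([4],[]),([4],[]),([6],[]),([7],[]),([7],[]),([3],[]),([4],[]),([4],[]),([6],[]),([7],[]),([7],[]),([4],[]),([4],[]),([6],[]),([7],[]),([7],[]),([3],[]),([6],[]),([7],[]),([7],[]),([6],[]),([7],[]),([7],[]),([7],[]),([7],[]),([6],[]),([2,5],[]),([3],[]),([4],[]),([4],[]),([6],[]),([7],[]),([7],[]),([4],[]),([4],[]),([6],[]),([7],[]),([7],[]),([3],[]),([6],[]),([7],[]),([7],[]),([6],[]),([7],[]),([7],[]),([7],[]),([7],[]),([6],[]),([],[]),([6],[]),([7],[]),([7],[]),([6],[]),([7],[]),([7],[]),([7],[]),([7],[]),([6],[]),([6],[]),([7],[]),([7],[]),([7],[]),([7],[]),([6],[]),([7],[]),([7],[]),([6],[]),([1],[]),([6],[]),([7],[]),([7],[]),([7],[]),([7],[]),([6],[]),([7],[]),([7],[]),([6],[]),([3],[]),([7],[]),([7],[]),([6],[]),([4],[]),([4],[]),([7],[]),([7],[]),([6],[]),([4],[]),([4],[]),([3],[]),([1],[]),([7],[]),([7],[]),([6],[]),([4],[]),([4],[]),([3],[]),([1],[]),([1],[]),([3],[]),([4],[]),([4],[]),([6],[]),([7],[]),([7],[])],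
[([5,6],[]),([7],[]),([7],[]),([5,6],[]),([7],[]),([7],[]),([3],[]),([3],[]),([7],[]),([7],[]),([1],[]),([3],[]),([3],[]),([7],[]),([7],[]),([3],[]),([3],[]),([1],[]),([1],[]),([7],[]),([7],[]),([3],[]),([3],[]),([1],[]),([1],[]),([7],[]),([7],[]),([1],[]),([3],[]),([3],[]),([7],[]),([7],[]),([3],[]),([3],[]),([7],[]),([7],[]),([0],[]),([7],[]),([7],[]),([7],[]),([7],[]),([0],[]),([2,6],[]),([3],[]),([3],[]),([1],[]),([1],[]),([7],[]),([7],[]),([1],[]),([3],[]),([3],[]),([7],[]),([7],[]),([3],[]),([3],[]),([7],[]),([7],[]),([0],[]),([7],[]),([7],[]),([7],[]),([7],[]),([0],[]),([5,6],[]),([],[]),([7],[]),([7],[]),([3],[]),([7],[]),([7],[]),([7],[]),([7],[]),([3],[]),([3],[]),([7],[]),([7],[]),([7],[]),([7],[]),([3],[]),([7],[]),([7],[]),([1],[]),([1],[]),([1],[]),([7],[]),([7],[]),([7],[]),([7],[]),([1],[]),([7],[]),([7],[]),([3],[]),([3],[]),([7],[]),([7],[]),([3],[]),([3],[]),([4],[6]),([7],[]),([7],[]),([0],[]),([0],[]),([3],[]),([3],[]),([1],[]),([7],[]),([7],[]),([0],[]),([0],[]),([3],[]),([3],[]),([1],[]),([1],[]),([3],[]),([3],[]),([5,6],[]),([4],[6]),([7],[]),([7],[])],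
[([6,7],[]),([5],[]),([5],[]),([6,7],[]),([5],[]),([5],[]),([5],[]),([5],[]),([3],[]),([3],[]),([1],[]),([5],[]),([5],[]),([3],[]),([3],[]),([3],[]),([3],[]),([5],[]),([5],[]),([1],[]),([1],[]),([3],[]),([3],[]),([5],[]),([5],[]),([1],[]),([1],[]),([1],[]),([5],[]),([5],[]),([3],[]),([3],[]),([5],[]),([5],[]),([3],[]),([3],[]),([0],[]),([5],[]),([5],[]),([5],[]),([5],[]),([0],[]),([2,7],[]),([3],[]),([3],[]),([5],[]),([5],[]),([1],[]),([1],[]),([1],[]),([5],[]),([5],[]),([3],[]),([3],[]),([5],[]),([5],[]),([3],[]),([3],[]),([0],[]),([5],[]),([5],[]),([5],[]),([5],[]),([0],[]),([5],[]),([5],[]),([],[]),([6,7],[]),([3],[]),([5],[]),([5],[]),([5],[]),([5],[]),([3],[]),([3],[]),([5],[]),([5],[]),([5],[]),([5],[]),([3],[]),([1],[]),([1],[]),([5],[]),([5],[]),([1],[]),([5],[]),([5],[]),([5],[]),([5],[]),([1],[]),([3],[]),([3],[]),([5],[]),([5],[]),([3],[]),([3],[]),([5],[]),([5],[]),([4],[7]),([0],[]),([0],[]),([5],[]),([5],[]),([3],[]),([3],[]),([1],[]),([0],[]),([0],[]),([5],[]),([5],[]),([3],[]),([3],[]),([1],[]),([1],[]),([3],[]),([3],[]),([5],[]),([5],[]),([4],[7]),([6,7],[])],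
[([6],[]),([5],[]),([6],[]),([6],[]),([6],[]),([5],[]),([5],[]),([6],[]),([6],[]),([3],[]),([1],[]),([5],[]),([6],[]),([6],[]),([3],[]),([3],[]),([3],[]),([5],[]),([6],[]),([6],[]),([1],[]),([3],[]),([3],[]),([5],[]),([6],[]),([6],[]),([1],[]),([1],[]),([5],[]),([6],[]),([6],[]),([3],[]),([5],[]),([6],[]),([6],[]),([3],[]),([6],[]),([6],[]),([5],[]),([5],[]),([6],[]),([6],[]),([2],[7]),([3],[]),([3],[]),([5],[]),([6],[]),([6],[]),([1],[]),([1],[]),([5],[]),([6],[]),([6],[]),([3],[]),([5],[]),([6],[]),([6],[]),([3],[]),([6],[]),([6],[]),([5],[]),([5],[]),([6],[]),([6],[]),([5],[]),([6],[]),([6],[]),([],[]),([6],[]),([6],[]),([5],[]),([5],[]),([6],[]),([6],[]),([6],[]),([6],[]),([5],[]),([5],[]),([6],[]),([6],[]),([1],[]),([6],[]),([6],[]),([5],[]),([6],[]),([6],[]),([5],[]),([5],[]),([6],[]),([6],[]),([3],[]),([6],[]),([6],[]),([5],[]),([3],[]),([6],[]),([6],[]),([5],[]),([4,7],[]),([0],[]),([6],[]),([6],[]),([5],[]),([3],[]),([3],[]),([1],[]),([0],[]),([6],[]),([6],[]),([5],[]),([3],[]),([3],[]),([1],[]),([1],[]),([3],[]),([3],[]),([5],[]),([6],[]),([6],[]),([4,7],[])],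
[([4,6],[]),([7],[]),([7],[]),([3],[6]),([7],[]),([7],[]),([5],[]),([5],[]),([7],[]),([7],[]),([1],[]),([5],[]),([5],[]),([7],[]),([7],[]),([0],[]),([1],[]),([5],[]),([5],[]),([7],[]),([7],[]),([3],[6]),([1],[]),([5],[]),([5],[]),([7],[]),([7],[]),([1],[]),([5],[]),([5],[]),([7],[]),([7],[]),([5],[]),([5],[]),([7],[]),([7],[]),([0],[]),([7],[]),([7],[]),([7],[]),([7],[]),([0],[]),([2,6],[]),([0],[]),([1],[]),([5],[]),([5],[]),([7],[]),([7],[]),([1],[]),([5],[]),([5],[]),([7],[]),([7],[]),([5],[]),([5],[]),([7],[]),([7],[]),([0],[]),([7],[]),([7],[]),([7],[]),([7],[]),([0],[]),([5],[]),([5],[]),([7],[]),([7],[]),([],[]),([7],[]),([7],[]),([7],[]),([7],[]),([4,6],[]),([1],[]),([7],[]),([7],[]),([7],[]),([7],[]),([1],[]),([7],[]),([7],[]),([5],[]),([5],[]),([1],[]),([7],[]),([7],[]),([7],[]),([7],[]),([1],[]),([7],[]),([7],[]),([5],[]),([5],[]),([7],[]),([7],[]),([5],[]),([5],[]),([4,6],[]),([7],[]),([7],[]),([5],[]),([5],[]),([0],[]),([1],[]),([1],[]),([7],[]),([7],[]),([5],[]),([5],[]),([0],[]),([1],[]),([1],[]),([1],[]),([1],[]),([4,6],[]),([5],[]),([5],[]),([7],[]),([7],[])],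
[([6,7],[]),([6,7],[]),([4,7],[]),([6,7],[]),([3],[7]),([6,7],[]),([5],[7]),([6,7],[]),([5],[7]),([6,7],[]),([1],[]),([1],[]),([1],[]),([1],[]),([1],[]),([0],[]),([1],[]),([1],[]),([1],[]),([1],[]),([1],[]),([3],[7]),([1],[]),([1],[]),([1],[]),([1],[]),([1],[]),([1],[]),([1],[]),([1],[]),([1],[]),([1],[]),([0],[]),([0],[]),([0],[]),([0],[]),([0],[]),([0],[]),([0],[]),([0],[]),([0],[]),([0],[]),([2,7],[]),([0],[]),([1],[]),([1],[]),([1],[]),([1],[]),([1],[]),([1],[]),([1],[]),([1],[]),([1],[]),([1],[]),([0],[]),([0],[]),([0],[]),([0],[]),([0],[]),([0],[]),([0],[]),([0],[]),([0],[]),([0],[]),([5],[7]),([6,7],[]),([5],[7]),([6,7],[]),([6,7],[]),([],[]),([6,7],[]),([6,7],[]),([4,7],[]),([6,7],[]),([1],[]),([1],[]),([1],[]),([1],[]),([1],[]),([1],[]),([1],[]),([1],[]),([1],[]),([1],[]),([1],[]),([1],[]),([1],[]),([1],[]),([1],[]),([1],[]),([1],[]),([1],[]),([1],[]),([1],[]),([6,7],[]),([5],[7]),([6,7],[]),([5],[7]),([4,7],[]),([0],[]),([0],[]),([0],[]),([0],[]),([0],[]),([1],[]),([1],[]),([0],[]),([0],[]),([0],[]),([0],[]),([0],[]),([1],[]),([1],[]),([1],[]),([1],[]),([4,7],[]),([5],[7]),([6,7],[]),([5],[7]),([6,7],[])],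
[([6],[]),([4],[7]),([6],[]),([6],[]),([6],[]),([3,7],[]),([5,7],[]),([6],[]),([6],[]),([5,7],[]),([1],[]),([1],[]),([6],[]),([6],[]),([1],[]),([0],[]),([1],[]),([1],[]),([6],[]),([6],[]),([1],[]),([3,7],[]),([1],[]),([1],[]),([6],[]),([6],[]),([1],[]),([1],[]),([1],[]),([6],[]),([6],[]),([1],[]),([0],[]),([6],[]),([6],[]),([0],[]),([6],[]),([6],[]),([0],[]),([0],[]),([6],[]),([6],[]),([2],[7]),([0],[]),([1],[]),([1],[]),([6],[]),([6],[]),([1],[]),([1],[]),([1],[]),([6],[]),([6],[]),([1],[]),([0],[]),([6],[]),([6],[]),([0],[]),([6],[]),([6],[]),([0],[]),([0],[]),([6],[]),([6],[]),([5,7],[]),([6],[]),([6],[]),([5,7],[]),([6],[]),([6],[]),([],[]),([4],[7]),([6],[]),([6],[]),([6],[]),([6],[]),([1],[]),([1],[]),([6],[]),([6],[]),([1],[]),([6],[]),([6],[]),([1],[]),([6],[]),([6],[]),([1],[]),([1],[]),([6],[]),([6],[]),([1],[]),([6],[]),([6],[]),([1],[]),([5,7],[]),([6],[]),([6],[]),([5,7],[]),([4],[7]),([0],[]),([6],[]),([6],[]),([0],[]),([0],[]),([1],[]),([1],[]),([0],[]),([6],[]),([6],[]),([0],[]),([0],[]),([1],[]),([1],[]),([1],[]),([1],[]),([4],[7]),([5,7],[]),([6],[]),([6],[]),([5,7],[])],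
[([6],[]),([3],[7]),([6],[]),([6],[]),([6],[]),([4],[]),([5,7],[]),([6],[]),([6],[]),([4],[]),([4],[]),([4],[]),([6],[]),([6],[]),([1],[]),([0],[]),([4],[]),([4],[]),([6],[]),([6],[]),([1],[]),([3],[7]),([4],[]),([4],[]),([6],[]),([6],[]),([1],[]),([4],[]),([4],[]),([6],[]),([6],[]),([1],[]),([0],[]),([6],[]),([6],[]),([4],[]),([6],[]),([6],[]),([4],[]),([0],[]),([6],[]),([6],[]),([2,7],[]),([0],[]),([4],[]),([4],[]),([6],[]),([6],[]),([1],[]),([4],[]),([4],[]),([6],[]),([6],[]),([1],[]),([0],[]),([6],[]),([6],[]),([4],[]),([6],[]),([6],[]),([4],[]),([0],[]),([6],[]),([6],[]),([5,7],[]),([6],[]),([6],[]),([4],[]),([6],[]),([6],[]),([4],[]),([],[]),([6],[]),([6],[]),([6],[]),([6],[]),([1],[]),([4],[]),([6],[]),([6],[]),([4],[]),([6],[]),([6],[]),([1],[]),([6],[]),([6],[]),([1],[]),([4],[]),([6],[]),([6],[]),([4],[]),([6],[]),([6],[]),([1],[]),([5,7],[]),([6],[]),([6],[]),([4],[]),([4],[]),([0],[]),([6],[]),([6],[]),([4],[]),([4],[]),([1],[]),([1],[]),([0],[]),([6],[]),([6],[]),([4],[]),([4],[]),([1],[]),([1],[]),([1],[]),([1],[]),([4],[]),([4],[]),([6],[]),([6],[]),([5,7],[])]]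

set_option maxHeartbeats 2000000 in
/-- part 6 of the separation table of `E8` -/
def sepTableE8_6 : List (List (List ℕ × List ℕ)) := [
[([6,7],[]),([6,7],[]),([3,7],[]),([4],[]),([4],[]),([4],[]),([5],[7]),([4],[]),([4],[]),([4],[]),([4],[]),([4],[]),([1],[]),([1],[]),([1],[]),([0],[]),([4],[]),([4],[]),([1],[]),([1],[]),([1],[]),([3,7],[]),([4],[]),([4],[]),([1],[]),([1],[]),([1],[]),([4],[]),([4],[]),([1],[]),([1],[]),([1],[]),([0],[]),([4],[]),([4],[]),([4],[]),([4],[]),([4],[]),([4],[]),([0],[]),([0],[]),([0],[]),([2],[7]),([0],[]),([4],[]),([4],[]),([1],[]),([1],[]),([1],[]),([4],[]),([4],[]),([1],[]),([1],[]),([1],[]),([0],[]),([4],[]),([4],[]),([4],[]),([4],[]),([4],[]),([4],[]),([0],[]),([0],[]),([0],[]),([5],[7]),([4],[]),([4],[]),([4],[]),([4],[]),([4],[]),([4],[]),([6,7],[]),([],[]),([6,7],[]),([1],[]),([1],[]),([1],[]),([4],[]),([4],[]),([4],[]),([4],[]),([4],[]),([4],[]),([1],[]),([1],[]),([1],[]),([1],[]),([4],[]),([4],[]),([4],[]),([4],[]),([4],[]),([4],[]),([1],[]),([6,7],[]),([5],[7]),([6,7],[]),([4],[]),([4],[]),([0],[]),([0],[]),([0],[]),([4],[]),([4],[]),([1],[]),([1],[]),([0],[]),([0],[]),([0],[]),([4],[]),([4],[]),([1],[]),([1],[]),([1],[]),([1],[]),([4],[]),([4],[]),([6,7],[]),([5],[7]),([6,7],[])],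
[([3,6],[]),([7],[]),([7],[]),([4],[]),([7],[]),([7],[]),([5],[]),([5],[]),([7],[]),([7],[]),([4],[]),([5],[]),([5],[]),([7],[]),([7],[]),([0],[]),([4],[]),([5],[]),([5],[]),([7],[]),([7],[]),([3,6],[]),([4],[]),([5],[]),([5],[]),([7],[]),([7],[]),([4],[]),([5],[]),([5],[]),([7],[]),([7],[]),([5],[]),([5],[]),([7],[]),([7],[]),([4],[]),([7],[]),([7],[]),([7],[]),([7],[]),([0],[]),([2],[6]),([0],[]),([4],[]),([5],[]),([5],[]),([7],[]),([7],[]),([4],[]),([5],[]),([5],[]),([7],[]),([7],[]),([5],[]),([5],[]),([7],[]),([7],[]),([4],[]),([7],[]),([7],[]),([7],[]),([7],[]),([0],[]),([5],[]),([5],[]),([7],[]),([7],[]),([4],[]),([7],[]),([7],[]),([7],[]),([7],[]),([],[]),([1],[]),([7],[]),([7],[]),([7],[]),([7],[]),([4],[]),([7],[]),([7],[]),([5],[]),([5],[]),([1],[]),([7],[]),([7],[]),([7],[]),([7],[]),([4],[]),([7],[]),([7],[]),([5],[]),([5],[]),([7],[]),([7],[]),([5],[]),([5],[]),([4],[]),([7],[]),([7],[]),([5],[]),([5],[]),([4],[]),([1],[]),([1],[]),([7],[]),([7],[]),([5],[]),([5],[]),([4],[]),([1],[]),([1],[]),([1],[]),([1],[]),([4],[]),([5],[]),([5],[]),([7],[]),([7],[])],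
[([3,6],[]),([7],[]),([7],[]),([4],[]),([7],[]),([7],[]),([5],[]),([5],[]),([7],[]),([7],[]),([4],[]),([5],[]),([5],[]),([7],[]),([7],[]),([0],[]),([4],[]),([5],[]),([5],[]),([7],[]),([7],[]),([3,6],[]),([4],[]),([5],[]),([5],[]),([7],[]),([7],[]),([4],[]),([5],[]),([5],[]),([7],[]),([7],[]),([5],[]),([5],[]),([7],[]),([7],[]),([4],[]),([7],[]),([7],[]),([7],[]),([7],[]),([0],[]),([2],[]),([2],[]),([4],[]),([5],[]),([5],[]),([7],[]),([7],[]),([4],[]),([5],[]),([5],[]),([7],[]),([7],[]),([5],[]),([5],[]),([7],[]),([7],[]),([4],[]),([7],[]),([7],[]),([7],[]),([7],[]),([2],[]),([5],[]),([5],[]),([7],[]),([7],[]),([4],[]),([7],[]),([7],[]),([7],[]),([7],[]),([2],[]),([],[]),([7],[]),([7],[]),([7],[]),([7],[]),([4],[]),([7],[]),([7],[]),([5],[]),([5],[]),([3,6],[]),([7],[]),([7],[]),([7],[]),([7],[]),([4],[]),([7],[]),([7],[]),([5],[]),([5],[]),([7],[]),([7],[]),([5],[]),([5],[]),([4],[]),([7],[]),([7],[]),([5],[]),([5],[]),([4],[]),([0],[]),([0],[]),([7],[]),([7],[]),([5],[]),([5],[]),([4],[]),([2],[]),([2],[]),([2],[]),([2],[]),([4],[]),([5],[]),([5],[]),([7],[]),([7],[])],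
[([6,7],[]),([6,7],[]),([3,7],[]),([4],[]),([4],[]),([4],[]),([5],[7]),([4],[]),([4],[]),([4],[]),([4],[]),([4],[]),([2],[]),([2],[]),([2],[]),([0],[]),([4],[]),([4],[]),([2],[]),([2],[]),([2],[]),([3,7],[]),([4],[]),([4],[]),([2],[]),([2],[]),([2],[]),([4],[]),([4],[]),([2],[]),([2],[]),([2],[]),([0],[]),([4],[]),([4],[]),([4],[]),([4],[]),([4],[]),([4],[]),([0],[]),([0],[]),([0],[]),([2],[]),([2],[]),([4],[]),([4],[]),([0],[]),([0],[]),([0],[]),([4],[]),([4],[]),([0],[]),([0],[]),([0],[]),([2],[]),([4],[]),([4],[]),([4],[]),([4],[]),([4],[]),([4],[]),([2],[]),([2],[]),([2],[]),([2],[]),([4],[]),([4],[]),([4],[]),([4],[]),([4],[]),([4],[]),([2],[]),([2],[]),([2],[]),([6,7],[]),([],[]),([6,7],[]),([4],[]),([4],[]),([4],[]),([4],[]),([4],[]),([4],[]),([5],[7]),([6,7],[]),([3,7],[]),([6,7],[]),([4],[]),([4],[]),([4],[]),([4],[]),([4],[]),([4],[]),([5],[7]),([2],[]),([2],[]),([2],[]),([4],[]),([4],[]),([2],[]),([2],[]),([2],[]),([4],[]),([4],[]),([0],[]),([0],[]),([0],[]),([0],[]),([0],[]),([4],[]),([4],[]),([2],[]),([2],[]),([2],[]),([2],[]),([4],[]),([4],[]),([6,7],[]),([5],[7]),([6,7],[])],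
[([6],[]),([3],[7]),([6],[]),([6],[]),([6],[]),([4],[]),([5,7],[]),([6],[]),([6],[]),([4],[]),([4],[]),([4],[]),([6],[]),([6],[]),([2],[]),([0],[]),([4],[]),([4],[]),([6],[]),([6],[]),([2],[]),([3],[7]),([4],[]),([4],[]),([6],[]),([6],[]),([2],[]),([4],[]),([4],[]),([6],[]),([6],[]),([2],[]),([0],[]),([6],[]),([6],[]),([4],[]),([6],[]),([6],[]),([4],[]),([0],[]),([6],[]),([6],[]),([2],[]),([2],[]),([4],[]),([4],[]),([6],[]),([6],[]),([0],[]),([4],[]),([4],[]),([6],[]),([6],[]),([0],[]),([2],[]),([6],[]),([6],[]),([4],[]),([6],[]),([6],[]),([4],[]),([2],[]),([6],[]),([6],[]),([2],[]),([6],[]),([6],[]),([4],[]),([6],[]),([6],[]),([4],[]),([2],[]),([6],[]),([6],[]),([6],[]),([6],[]),([],[]),([4],[]),([6],[]),([6],[]),([4],[]),([6],[]),([6],[]),([5,7],[]),([6],[]),([6],[]),([3],[7]),([4],[]),([6],[]),([6],[]),([4],[]),([6],[]),([6],[]),([5,7],[]),([2],[]),([6],[]),([6],[]),([4],[]),([4],[]),([2],[]),([6],[]),([6],[]),([4],[]),([4],[]),([0],[]),([0],[]),([0],[]),([6],[]),([6],[]),([4],[]),([4],[]),([2],[]),([2],[]),([2],[]),([2],[]),([4],[]),([4],[]),([6],[]),([6],[]),([5,7],[])],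
[([6],[]),([4],[7]),([6],[]),([6],[]),([6],[]),([3,7],[]),([5,7],[]),([6],[]),([6],[]),([5,7],[]),([2],[]),([2],[]),([6],[]),([6],[]),([2],[]),([0],[]),([2],[]),([2],[]),([6],[]),([6],[]),([2],[]),([3,7],[]),([2],[]),([2],[]),([6],[]),([6],[]),([2],[]),([2],[]),([2],[]),([6],[]),([6],[]),([2],[]),([0],[]),([6],[]),([6],[]),([0],[]),([6],[]),([6],[]),([0],[]),([0],[]),([6],[]),([6],[]),([2],[]),([2],[]),([0],[]),([0],[]),([6],[]),([6],[]),([0],[]),([0],[]),([0],[]),([6],[]),([6],[]),([0],[]),([2],[]),([6],[]),([6],[]),([2],[]),([6],[]),([6],[]),([2],[]),([2],[]),([6],[]),([6],[]),([2],[]),([6],[]),([6],[]),([2],[]),([6],[]),([6],[]),([2],[]),([2],[]),([6],[]),([6],[]),([6],[]),([6],[]),([4],[7]),([],[]),([6],[]),([6],[]),([5,7],[]),([6],[]),([6],[]),([5,7],[]),([6],[]),([6],[]),([4],[7]),([3,7],[]),([6],[]),([6],[]),([5,7],[]),([6],[]),([6],[]),([5,7],[]),([2],[]),([6],[]),([6],[]),([2],[]),([2],[]),([2],[]),([6],[]),([6],[]),([2],[]),([2],[]),([0],[]),([0],[]),([0],[]),([6],[]),([6],[]),([0],[]),([0],[]),([2],[]),([2],[]),([2],[]),([2],[]),([4],[7]),([5,7],[]),([6],[]),([6],[]),([5,7],[])],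
[([6,7],[]),([6,7],[]),([4,7],[]),([6,7],[]),([3],[7]),([6,7],[]),([5],[7]),([6,7],[]),([5],[7]),([6,7],[]),([2],[]),([2],[]),([2],[]),([2],[]),([2],[]),([0],[]),([2],[]),([2],[]),([2],[]),([2],[]),([2],[]),([3],[7]),([2],[]),([2],[]),([2],[]),([2],[]),([2],[]),([2],[]),([2],[]),([2],[]),([2],[]),([2],[]),([0],[]),([0],[]),([0],[]),([0],[]),([0],[]),([0],[]),([0],[]),([0],[]),([0],[]),([0],[]),([2],[]),([2],[]),([0],[]),([0],[]),([0],[]),([0],[]),([0],[]),([0],[]),([0],[]),([0],[]),([0],[]),([0],[]),([2],[]),([2],[]),([2],[]),([2],[]),([2],[]),([2],[]),([2],[]),([2],[]),([2],[]),([2],[]),([2],[]),([2],[]),([2],[]),([2],[]),([2],[]),([2],[]),([2],[]),([2],[]),([2],[]),([2],[]),([6,7],[]),([4,7],[]),([6,7],[]),([6,7],[]),([],[]),([6,7],[]),([6,7],[]),([5],[7]),([6,7],[]),([5],[7]),([6,7],[]),([4,7],[]),([6,7],[]),([6,7],[]),([3],[7]),([6,7],[]),([6,7],[]),([5],[7]),([6,7],[]),([5],[7]),([2],[]),([2],[]),([2],[]),([2],[]),([2],[]),([2],[]),([2],[]),([2],[]),([2],[]),([2],[]),([0],[]),([0],[]),([0],[]),([0],[]),([0],[]),([0],[]),([0],[]),([2],[]),([2],[]),([2],[]),([2],[]),([4,7],[]),([5],[7]),([6,7],[]),([5],[7]),([6,7],[])],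
[([4,6],[]),([7],[]),([7],[]),([3],[6]),([7],[]),([7],[]),([5],[]),([5],[]),([7],[]),([7],[]),([2],[]),([5],[]),([5],[]),([7],[]),([7],[]),([0],[]),([2],[]),([5],[]),([5],[]),([7],[]),([7],[]),([3],[6]),([2],[]),([5],[]),([5],[]),([7],[]),([7],[]),([2],[]),([5],[]),([5],[]),([7],[]),([7],[]),([5],[]),([5],[]),([7],[]),([7],[]),([0],[]),([7],[]),([7],[]),([7],[]),([7],[]),([0],[]),([2],[]),([2],[]),([0],[]),([5],[]),([5],[]),([7],[]),([7],[]),([0],[]),([5],[]),([5],[]),([7],[]),([7],[]),([5],[]),([5],[]),([7],[]),([7],[]),([2],[]),([7],[]),([7],[]),([7],[]),([7],[]),([2],[]),([5],[]),([5],[]),([7],[]),([7],[]),([2],[]),([7],[]),([7],[]),([7],[]),([7],[]),([2],[]),([4,6],[]),([7],[]),([7],[]),([7],[]),([7],[]),([],[]),([7],[]),([7],[]),([5],[]),([5],[]),([4,6],[]),([7],[]),([7],[]),([7],[]),([7],[]),([3],[6]),([7],[]),([7],[]),([5],[]),([5],[]),([7],[]),([7],[]),([5],[]),([5],[]),([2],[]),([7],[]),([7],[]),([5],[]),([5],[]),([2],[]),([0],[]),([0],[]),([7],[]),([7],[]),([5],[]),([5],[]),([0],[]),([2],[]),([2],[]),([2],[]),([2],[]),([4,6],[]),([5],[]),([5],[]),([7],[]),([7],[])],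
[([6],[]),([5],[]),([6],[]),([6],[]),([6],[]),([5],[]),([5],[]),([6],[]),([6],[]),([3],[]),([2],[]),([5],[]),([6],[]),([6],[]),([3],[]),([3],[]),([3],[]),([5],[]),([6],[]),([6],[]),([2],[]),([3],[]),([3],[]),([5],[]),([6],[]),([6],[]),([2],[]),([2],[]),([5],[]),([6],[]),([6],[]),([3],[]),([5],[]),([6],[]),([6],[]),([3],[]),([6],[]),([6],[]),([5],[]),([5],[]),([6],[]),([6],[]),([2],[]),([3],[]),([3],[]),([5],[]),([6],[]),([6],[]),([0],[]),([0],[]),([5],[]),([6],[]),([6],[]),([3],[]),([5],[]),([6],[]),([6],[]),([3],[]),([6],[]),([6],[]),([5],[]),([5],[]),([6],[]),([6],[]),([5],[]),([6],[]),([6],[]),([2],[]),([6],[]),([6],[]),([5],[]),([5],[]),([6],[]),([6],[]),([6],[]),([6],[]),([5],[]),([5],[]),([6],[]),([6],[]),([],[]),([6],[]),([6],[]),([5],[]),([6],[]),([6],[]),([5],[]),([5],[]),([6],[]),([6],[]),([3],[]),([6],[]),([6],[]),([5],[]),([3],[]),([6],[]),([6],[]),([5],[]),([2],[]),([2],[]),([6],[]),([6],[]),([5],[]),([3],[]),([3],[]),([0],[]),([0],[]),([6],[]),([6],[]),([5],[]),([3],[]),([3],[]),([2],[]),([2],[]),([3],[]),([3],[]),([5],[]),([6],[]),([6],[]),([4,7],[])],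
[([6,7],[]),([5],[]),([5],[]),([6,7],[]),([5],[]),([5],[]),([5],[]),([5],[]),([3],[]),([3],[]),([2],[]),([5],[]),([5],[]),([3],[]),([3],[]),([3],[]),([3],[]),([5],[]),([5],[]),([2],[]),([2],[]),([3],[]),([3],[]),([5],[]),([5],[]),([2],[]),([2],[]),([2],[]),([5],[]),([5],[]),([3],[]),([3],[]),([5],[]),([5],[]),([3],[]),([3],[]),([0],[]),([5],[]),([5],[]),([5],[]),([5],[]),([0],[]),([2],[]),([3],[]),([3],[]),([5],[]),([5],[]),([0],[]),([0],[]),([0],[]),([5],[]),([5],[]),([3],[]),([3],[]),([5],[]),([5],[]),([3],[]),([3],[]),([2],[]),([5],[]),([5],[]),([5],[]),([5],[]),([2],[]),([5],[]),([5],[]),([2],[]),([2],[]),([3],[]),([5],[]),([5],[]),([5],[]),([5],[]),([3],[]),([3],[]),([5],[]),([5],[]),([5],[]),([5],[]),([3],[]),([6,7],[]),([],[]),([5],[]),([5],[]),([6,7],[]),([5],[]),([5],[]),([5],[]),([5],[]),([6,7],[]),([3],[]),([3],[]),([5],[]),([5],[]),([3],[]),([3],[]),([5],[]),([5],[]),([2],[]),([2],[]),([2],[]),([5],[]),([5],[]),([3],[]),([3],[]),([0],[]),([0],[]),([0],[]),([5],[]),([5],[]),([3],[]),([3],[]),([2],[]),([2],[]),([3],[]),([3],[]),([5],[]),([5],[]),([4],[7]),([6,7],[])],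
[([5,6],[]),([7],[]),([7],[]),([5,6],[]),([7],[]),([7],[]),([3],[]),([3],[]),([7],[]),([7],[]),([2],[]),([3],[]),([3],[]),([7],[]),([7],[]),([3],[]),([3],[]),([2],[]),([2],[]),([7],[]),([7],[]),([3],[]),([3],[]),([2],[]),([2],[]),([7],[]),([7],[]),([2],[]),([3],[]),([3],[]),([7],[]),([7],[]),([3],[]),([3],[]),([7],[]),([7],[]),([0],[]),([7],[]),([7],[]),([7],[]),([7],[]),([0],[]),([2],[]),([3],[]),([3],[]),([0],[]),([0],[]),([7],[]),([7],[]),([0],[]),([3],[]),([3],[]),([7],[]),([7],[]),([3],[]),([3],[]),([7],[]),([7],[]),([2],[]),([7],[]),([7],[]),([7],[]),([7],[]),([2],[]),([2],[]),([2],[]),([7],[]),([7],[]),([3],[]),([7],[]),([7],[]),([7],[]),([7],[]),([3],[]),([3],[]),([7],[]),([7],[]),([7],[]),([7],[]),([3],[]),([7],[]),([7],[]),([],[]),([5,6],[]),([5,6],[]),([7],[]),([7],[]),([7],[]),([7],[]),([5,6],[]),([7],[]),([7],[]),([3],[]),([3],[]),([7],[]),([7],[]),([3],[]),([3],[]),([2],[]),([7],[]),([7],[]),([2],[]),([2],[]),([3],[]),([3],[]),([0],[]),([7],[]),([7],[]),([0],[]),([0],[]),([3],[]),([3],[]),([2],[]),([2],[]),([3],[]),([3],[]),([5,6],[]),([4],[6]),([7],[]),([7],[])],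
[([6],[]),([7],[]),([7],[]),([6],[]),([7],[]),([7],[]),([3],[]),([6],[]),([7],[]),([7],[]),([4],[]),([4],[]),([6],[]),([7],[]),([7],[]),([3],[]),([4],[]),([4],[]),([6],[]),([7],[]),([7],[]),([3],[]),([4],[]),([4],[]),([6],[]),([7],[]),([7],[]),([4],[]),([4],[]),([6],[]),([7],[]),([7],[]),([3],[]),([6],[]),([7],[]),([7],[]),([6],[]),([7],[]),([7],[]),([7],[]),([7],[]),([6],[]),([2],[]),([3],[]),([4],[]),([4],[]),([6],[]),([7],[]),([7],[]),([4],[]),([4],[]),([6],[]),([7],[]),([7],[]),([3],[]),([6],[]),([7],[]),([7],[]),([6],[]),([7],[]),([7],[]),([7],[]),([7],[]),([6],[]),([2],[]),([6],[]),([7],[]),([7],[]),([6],[]),([7],[]),([7],[]),([7],[]),([7],[]),([6],[]),([6],[]),([7],[]),([7],[]),([7],[]),([7],[]),([6],[]),([7],[]),([7],[]),([6],[]),([],[]),([6],[]),([7],[]),([7],[]),([7],[]),([7],[]),([6],[]),([7],[]),([7],[]),([6],[]),([3],[]),([7],[]),([7],[]),([6],[]),([4],[]),([4],[]),([7],[]),([7],[]),([6],[]),([4],[]),([4],[]),([3],[]),([0],[]),([7],[]),([7],[]),([6],[]),([4],[]),([4],[]),([3],[]),([2],[]),([2],[]),([3],[]),([4],[]),([4],[]),([6],[]),([7],[]),([7],[])]]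

set_option maxHeartbeats 2000000 in
/-- part 7 of the separation table of `E8` -/
def sepTableE8_7 : List (List (List ℕ × List ℕ)) := [
[([1,6],[]),([7],[]),([7],[]),([4],[]),([7],[]),([7],[]),([5],[]),([5],[]),([7],[]),([7],[]),([4],[]),([5],[]),([5],[]),([7],[]),([7],[]),([3],[]),([4],[]),([5],[]),([5],[]),([7],[]),([7],[]),([3],[]),([4],[]),([5],[]),([5],[]),([7],[]),([7],[]),([4],[]),([5],[]),([5],[]),([7],[]),([7],[]),([5],[]),([5],[]),([7],[]),([7],[]),([4],[]),([7],[]),([7],[]),([7],[]),([7],[]),([0],[]),([2],[]),([3],[]),([4],[]),([5],[]),([5],[]),([7],[]),([7],[]),([4],[]),([5],[]),([5],[]),([7],[]),([7],[]),([5],[]),([5],[]),([7],[]),([7],[]),([4],[]),([7],[]),([7],[]),([7],[]),([7],[]),([2],[]),([5],[]),([5],[]),([7],[]),([7],[]),([4],[]),([7],[]),([7],[]),([7],[]),([7],[]),([3],[]),([3],[]),([7],[]),([7],[]),([7],[]),([7],[]),([4],[]),([7],[]),([7],[]),([5],[]),([5],[]),([],[]),([7],[]),([7],[]),([7],[]),([7],[]),([4],[]),([7],[]),([7],[]),([5],[]),([5],[]),([7],[]),([7],[]),([5],[]),([5],[]),([4],[]),([7],[]),([7],[]),([5],[]),([5],[]),([4],[]),([3],[]),([0],[]),([7],[]),([7],[]),([5],[]),([5],[]),([4],[]),([3],[]),([2],[]),([2],[]),([3],[]),([4],[]),([5],[]),([5],[]),([7],[]),([7],[])],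
[([6,7],[]),([6,7],[]),([1,7],[]),([4],[]),([4],[]),([4],[]),([3],[]),([4],[]),([4],[]),([4],[]),([4],[]),([4],[]),([3],[]),([3],[]),([3],[]),([3],[]),([4],[]),([4],[]),([2],[]),([2],[]),([2],[]),([3],[]),([4],[]),([4],[]),([2],[]),([2],[]),([2],[]),([4],[]),([4],[]),([3],[]),([3],[]),([3],[]),([3],[]),([4],[]),([4],[]),([4],[]),([4],[]),([4],[]),([4],[]),([0],[]),([0],[]),([0],[]),([2],[]),([3],[]),([4],[]),([4],[]),([0],[]),([0],[]),([0],[]),([4],[]),([4],[]),([3],[]),([3],[]),([3],[]),([3],[]),([4],[]),([4],[]),([4],[]),([4],[]),([4],[]),([4],[]),([2],[]),([2],[]),([2],[]),([2],[]),([4],[]),([4],[]),([4],[]),([4],[]),([4],[]),([4],[]),([3],[]),([3],[]),([3],[]),([3],[]),([3],[]),([3],[]),([4],[]),([4],[]),([4],[]),([4],[]),([4],[]),([4],[]),([5],[7]),([6,7],[]),([],[]),([6,7],[]),([4],[]),([4],[]),([4],[]),([4],[]),([4],[]),([4],[]),([3],[]),([3],[]),([3],[]),([3],[]),([4],[]),([4],[]),([2],[]),([2],[]),([2],[]),([4],[]),([4],[]),([3],[]),([0],[]),([0],[]),([0],[]),([0],[]),([4],[]),([4],[]),([3],[]),([2],[]),([2],[]),([3],[]),([4],[]),([4],[]),([6,7],[]),([5],[7]),([6,7],[])],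
[([6],[]),([1],[7]),([6],[]),([6],[]),([6],[]),([4],[]),([3],[]),([6],[]),([6],[]),([4],[]),([4],[]),([4],[]),([6],[]),([6],[]),([3],[]),([3],[]),([4],[]),([4],[]),([6],[]),([6],[]),([2],[]),([3],[]),([4],[]),([4],[]),([6],[]),([6],[]),([2],[]),([4],[]),([4],[]),([6],[]),([6],[]),([3],[]),([3],[]),([6],[]),([6],[]),([4],[]),([6],[]),([6],[]),([4],[]),([0],[]),([6],[]),([6],[]),([2],[]),([3],[]),([4],[]),([4],[]),([6],[]),([6],[]),([0],[]),([4],[]),([4],[]),([6],[]),([6],[]),([3],[]),([3],[]),([6],[]),([6],[]),([4],[]),([6],[]),([6],[]),([4],[]),([2],[]),([6],[]),([6],[]),([2],[]),([6],[]),([6],[]),([4],[]),([6],[]),([6],[]),([4],[]),([3],[]),([6],[]),([6],[]),([6],[]),([6],[]),([3],[]),([4],[]),([6],[]),([6],[]),([4],[]),([6],[]),([6],[]),([5,7],[]),([6],[]),([6],[]),([],[]),([4],[]),([6],[]),([6],[]),([4],[]),([6],[]),([6],[]),([3],[]),([3],[]),([6],[]),([6],[]),([4],[]),([4],[]),([2],[]),([6],[]),([6],[]),([4],[]),([4],[]),([3],[]),([0],[]),([0],[]),([6],[]),([6],[]),([4],[]),([4],[]),([3],[]),([2],[]),([2],[]),([3],[]),([4],[]),([4],[]),([6],[]),([6],[]),([5,7],[])],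
[([6],[]),([4],[7]),([6],[]),([6],[]),([6],[]),([1,7],[]),([3],[]),([6],[]),([6],[]),([3],[]),([2],[]),([3],[]),([6],[]),([6],[]),([3],[]),([3],[]),([3],[]),([2],[]),([6],[]),([6],[]),([2],[]),([3],[]),([3],[]),([2],[]),([6],[]),([6],[]),([2],[]),([2],[]),([3],[]),([6],[]),([6],[]),([3],[]),([3],[]),([6],[]),([6],[]),([3],[]),([6],[]),([6],[]),([0],[]),([0],[]),([6],[]),([6],[]),([2],[]),([3],[]),([3],[]),([0],[]),([6],[]),([6],[]),([0],[]),([0],[]),([3],[]),([6],[]),([6],[]),([3],[]),([3],[]),([6],[]),([6],[]),([3],[]),([6],[]),([6],[]),([2],[]),([2],[]),([6],[]),([6],[]),([2],[]),([6],[]),([6],[]),([2],[]),([6],[]),([6],[]),([3],[]),([3],[]),([6],[]),([6],[]),([6],[]),([6],[]),([3],[]),([3],[]),([6],[]),([6],[]),([5,7],[]),([6],[]),([6],[]),([5,7],[]),([6],[]),([6],[]),([4],[7]),([],[]),([6],[]),([6],[]),([3],[]),([6],[]),([6],[]),([3],[]),([3],[]),([6],[]),([6],[]),([3],[]),([2],[]),([2],[]),([6],[]),([6],[]),([2],[]),([3],[]),([3],[]),([0],[]),([0],[]),([6],[]),([6],[]),([0],[]),([3],[]),([3],[]),([2],[]),([2],[]),([3],[]),([3],[]),([5,7],[]),([6],[]),([6],[]),([5,7],[])],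
[([6,7],[]),([6,7],[]),([4,7],[]),([6,7],[]),([1],[7]),([6,7],[]),([3],[]),([3],[]),([3],[]),([3],[]),([2],[]),([3],[]),([3],[]),([3],[]),([3],[]),([3],[]),([3],[]),([2],[]),([2],[]),([2],[]),([2],[]),([3],[]),([3],[]),([2],[]),([2],[]),([2],[]),([2],[]),([2],[]),([3],[]),([3],[]),([3],[]),([3],[]),([3],[]),([3],[]),([3],[]),([3],[]),([0],[]),([0],[]),([0],[]),([0],[]),([0],[]),([0],[]),([2],[]),([3],[]),([3],[]),([0],[]),([0],[]),([0],[]),([0],[]),([0],[]),([3],[]),([3],[]),([3],[]),([3],[]),([3],[]),([3],[]),([3],[]),([3],[]),([2],[]),([2],[]),([2],[]),([2],[]),([2],[]),([2],[]),([2],[]),([2],[]),([2],[]),([2],[]),([3],[]),([3],[]),([3],[]),([3],[]),([3],[]),([3],[]),([3],[]),([3],[]),([3],[]),([3],[]),([3],[]),([3],[]),([6,7],[]),([5],[7]),([6,7],[]),([5],[7]),([6,7],[]),([4,7],[]),([6,7],[]),([6,7],[]),([],[]),([6,7],[]),([3],[]),([3],[]),([3],[]),([3],[]),([3],[]),([3],[]),([3],[]),([3],[]),([2],[]),([2],[]),([2],[]),([2],[]),([2],[]),([3],[]),([3],[]),([0],[]),([0],[]),([0],[]),([0],[]),([0],[]),([3],[]),([3],[]),([2],[]),([2],[]),([3],[]),([3],[]),([5],[7]),([6,7],[]),([5],[7]),([6,7],[])],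
[([4,6],[]),([7],[]),([7],[]),([1],[6]),([7],[]),([7],[]),([5],[]),([5],[]),([7],[]),([7],[]),([2],[]),([5],[]),([5],[]),([7],[]),([7],[]),([3],[]),([3],[]),([5],[]),([5],[]),([7],[]),([7],[]),([3],[]),([3],[]),([5],[]),([5],[]),([7],[]),([7],[]),([2],[]),([5],[]),([5],[]),([7],[]),([7],[]),([5],[]),([5],[]),([7],[]),([7],[]),([0],[]),([7],[]),([7],[]),([7],[]),([7],[]),([0],[]),([2],[]),([3],[]),([3],[]),([5],[]),([5],[]),([7],[]),([7],[]),([0],[]),([5],[]),([5],[]),([7],[]),([7],[]),([5],[]),([5],[]),([7],[]),([7],[]),([2],[]),([7],[]),([7],[]),([7],[]),([7],[]),([2],[]),([5],[]),([5],[]),([7],[]),([7],[]),([3],[]),([7],[]),([7],[]),([7],[]),([7],[]),([3],[]),([3],[]),([7],[]),([7],[]),([7],[]),([7],[]),([3],[]),([7],[]),([7],[]),([5],[]),([5],[]),([4,6],[]),([7],[]),([7],[]),([7],[]),([7],[]),([],[]),([7],[]),([7],[]),([5],[]),([5],[]),([7],[]),([7],[]),([5],[]),([5],[]),([2],[]),([7],[]),([7],[]),([5],[]),([5],[]),([3],[]),([3],[]),([0],[]),([7],[]),([7],[]),([5],[]),([5],[]),([3],[]),([3],[]),([2],[]),([2],[]),([3],[]),([3],[]),([5],[]),([5],[]),([7],[]),([7],[])],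
[([6],[]),([5],[]),([6],[]),([6],[]),([6],[]),([5],[]),([5],[]),([6],[]),([6],[]),([1,7],[]),([2],[]),([5],[]),([6],[]),([6],[]),([2],[]),([0],[]),([2],[]),([5],[]),([6],[]),([6],[]),([2],[]),([3],[7]),([2],[]),([5],[]),([6],[]),([6],[]),([2],[]),([2],[]),([5],[]),([6],[]),([6],[]),([2],[]),([5],[]),([6],[]),([6],[]),([0],[]),([6],[]),([6],[]),([5],[]),([5],[]),([6],[]),([6],[]),([2],[]),([2],[]),([0],[]),([5],[]),([6],[]),([6],[]),([0],[]),([0],[]),([5],[]),([6],[]),([6],[]),([0],[]),([5],[]),([6],[]),([6],[]),([2],[]),([6],[]),([6],[]),([5],[]),([5],[]),([6],[]),([6],[]),([5],[]),([6],[]),([6],[]),([2],[]),([6],[]),([6],[]),([5],[]),([5],[]),([6],[]),([6],[]),([6],[]),([6],[]),([5],[]),([5],[]),([6],[]),([6],[]),([3],[7]),([6],[]),([6],[]),([5],[]),([6],[]),([6],[]),([5],[]),([5],[]),([6],[]),([6],[]),([],[]),([6],[]),([6],[]),([5],[]),([2],[]),([6],[]),([6],[]),([5],[]),([2],[]),([2],[]),([6],[]),([6],[]),([5],[]),([2],[]),([0],[]),([0],[]),([0],[]),([6],[]),([6],[]),([5],[]),([0],[]),([2],[]),([2],[]),([2],[]),([2],[]),([4,7],[]),([5],[]),([6],[]),([6],[]),([4,7],[])],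
[([6,7],[]),([5],[]),([5],[]),([6,7],[]),([5],[]),([5],[]),([5],[]),([5],[]),([1],[7]),([6,7],[]),([2],[]),([5],[]),([5],[]),([2],[]),([2],[]),([0],[]),([2],[]),([5],[]),([5],[]),([2],[]),([2],[]),([3,7],[]),([2],[]),([5],[]),([5],[]),([2],[]),([2],[]),([2],[]),([5],[]),([5],[]),([2],[]),([2],[]),([5],[]),([5],[]),([0],[]),([0],[]),([0],[]),([5],[]),([5],[]),([5],[]),([5],[]),([0],[]),([2],[]),([2],[]),([0],[]),([5],[]),([5],[]),([0],[]),([0],[]),([0],[]),([5],[]),([5],[]),([0],[]),([0],[]),([5],[]),([5],[]),([2],[]),([2],[]),([2],[]),([5],[]),([5],[]),([5],[]),([5],[]),([2],[]),([5],[]),([5],[]),([2],[]),([2],[]),([2],[]),([5],[]),([5],[]),([5],[]),([5],[]),([2],[]),([6,7],[]),([5],[]),([5],[]),([5],[]),([5],[]),([6,7],[]),([6,7],[]),([3,7],[]),([5],[]),([5],[]),([6,7],[]),([5],[]),([5],[]),([5],[]),([5],[]),([6,7],[]),([6,7],[]),([],[]),([5],[]),([5],[]),([2],[]),([2],[]),([5],[]),([5],[]),([2],[]),([2],[]),([2],[]),([5],[]),([5],[]),([2],[]),([0],[]),([0],[]),([0],[]),([0],[]),([5],[]),([5],[]),([0],[]),([2],[]),([2],[]),([2],[]),([2],[]),([4],[7]),([5],[]),([5],[]),([4],[7]),([6,7],[])],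
[([5,6],[]),([7],[]),([7],[]),([5,6],[]),([7],[]),([7],[]),([5,6],[]),([1],[6]),([7],[]),([7],[]),([2],[]),([2],[]),([2],[]),([7],[]),([7],[]),([0],[]),([2],[]),([2],[]),([2],[]),([7],[]),([7],[]),([3,6],[]),([2],[]),([2],[]),([2],[]),([7],[]),([7],[]),([2],[]),([2],[]),([2],[]),([7],[]),([7],[]),([0],[]),([0],[]),([7],[]),([7],[]),([0],[]),([7],[]),([7],[]),([7],[]),([7],[]),([0],[]),([2],[]),([2],[]),([0],[]),([0],[]),([0],[]),([7],[]),([7],[]),([0],[]),([0],[]),([0],[]),([7],[]),([7],[]),([2],[]),([2],[]),([7],[]),([7],[]),([2],[]),([7],[]),([7],[]),([7],[]),([7],[]),([2],[]),([2],[]),([2],[]),([7],[]),([7],[]),([2],[]),([7],[]),([7],[]),([7],[]),([7],[]),([2],[]),([5,6],[]),([7],[]),([7],[]),([7],[]),([7],[]),([5,6],[]),([7],[]),([7],[]),([3,6],[]),([5,6],[]),([5,6],[]),([7],[]),([7],[]),([7],[]),([7],[]),([5,6],[]),([7],[]),([7],[]),([],[]),([5,6],[]),([7],[]),([7],[]),([2],[]),([2],[]),([2],[]),([7],[]),([7],[]),([2],[]),([2],[]),([2],[]),([0],[]),([0],[]),([7],[]),([7],[]),([0],[]),([0],[]),([0],[]),([2],[]),([2],[]),([2],[]),([2],[]),([4],[6]),([5,6],[]),([4],[6]),([7],[]),([7],[])],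
[([6],[]),([7],[]),([7],[]),([6],[]),([7],[]),([7],[]),([1],[5]),([6],[]),([7],[]),([7],[]),([4],[]),([4],[]),([6],[]),([7],[]),([7],[]),([0],[]),([4],[]),([4],[]),([6],[]),([7],[]),([7],[]),([3,5],[]),([4],[]),([4],[]),([6],[]),([7],[]),([7],[]),([4],[]),([4],[]),([6],[]),([7],[]),([7],[]),([0],[]),([6],[]),([7],[]),([7],[]),([6],[]),([7],[]),([7],[]),([7],[]),([7],[]),([6],[]),([2],[]),([2],[]),([4],[]),([4],[]),([6],[]),([7],[]),([7],[]),([4],[]),([4],[]),([6],[]),([7],[]),([7],[]),([2],[]),([6],[]),([7],[]),([7],[]),([6],[]),([7],[]),([7],[]),([7],[]),([7],[]),([6],[]),([2],[]),([6],[]),([7],[]),([7],[]),([6],[]),([7],[]),([7],[]),([7],[]),([7],[]),([6],[]),([6],[]),([7],[]),([7],[]),([7],[]),([7],[]),([6],[]),([7],[]),([7],[]),([6],[]),([3,5],[]),([6],[]),([7],[]),([7],[]),([7],[]),([7],[]),([6],[]),([7],[]),([7],[]),([6],[]),([],[]),([7],[]),([7],[]),([6],[]),([4],[]),([4],[]),([7],[]),([7],[]),([6],[]),([4],[]),([4],[]),([0],[]),([0],[]),([7],[]),([7],[]),([6],[]),([4],[]),([4],[]),([2],[]),([2],[]),([2],[]),([2],[]),([4],[]),([4],[]),([6],[]),([7],[]),([7],[])],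
[([6],[]),([5],[]),([6],[]),([6],[]),([6],[]),([5],[]),([5],[]),([6],[]),([6],[]),([4],[]),([4],[]),([5],[]),([6],[]),([6],[]),([1],[]),([0],[]),([4],[]),([5],[]),([6],[]),([6],[]),([1],[]),([3,7],[]),([4],[]),([5],[]),([6],[]),([6],[]),([1],[]),([4],[]),([5],[]),([6],[]),([6],[]),([1],[]),([5],[]),([6],[]),([6],[]),([4],[]),([6],[]),([6],[]),([5],[]),([5],[]),([6],[]),([6],[]),([2],[7]),([0],[]),([4],[]),([5],[]),([6],[]),([6],[]),([1],[]),([4],[]),([5],[]),([6],[]),([6],[]),([1],[]),([5],[]),([6],[]),([6],[]),([4],[]),([6],[]),([6],[]),([5],[]),([5],[]),([6],[]),([6],[]),([5],[]),([6],[]),([6],[]),([4],[]),([6],[]),([6],[]),([5],[]),([5],[]),([6],[]),([6],[]),([6],[]),([6],[]),([5],[]),([5],[]),([6],[]),([6],[]),([4],[]),([6],[]),([6],[]),([5],[]),([6],[]),([6],[]),([5],[]),([5],[]),([6],[]),([6],[]),([4],[]),([6],[]),([6],[]),([5],[]),([],[]),([6],[]),([6],[]),([5],[]),([4],[]),([0],[]),([6],[]),([6],[]),([5],[]),([4],[]),([1],[]),([1],[]),([0],[]),([6],[]),([6],[]),([5],[]),([4],[]),([1],[]),([1],[]),([1],[]),([1],[]),([4],[]),([5],[]),([6],[]),([6],[]),([3,7],[])],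
[([6,7],[]),([5],[]),([5],[]),([4],[]),([5],[]),([5],[]),([5],[]),([5],[]),([4],[]),([4],[]),([4],[]),([5],[]),([5],[]),([1],[]),([1],[]),([0],[]),([4],[]),([5],[]),([5],[]),([1],[]),([1],[]),([3],[7]),([4],[]),([5],[]),([5],[]),([1],[]),([1],[]),([4],[]),([5],[]),([5],[]),([1],[]),([1],[]),([5],[]),([5],[]),([4],[]),([4],[]),([4],[]),([5],[]),([5],[]),([5],[]),([5],[]),([0],[]),([2,7],[]),([0],[]),([4],[]),([5],[]),([5],[]),([1],[]),([1],[]),([4],[]),([5],[]),([5],[]),([1],[]),([1],[]),([5],[]),([5],[]),([4],[]),([4],[]),([4],[]),([5],[]),([5],[]),([5],[]),([5],[]),([0],[]),([5],[]),([5],[]),([4],[]),([4],[]),([4],[]),([5],[]),([5],[]),([5],[]),([5],[]),([6,7],[]),([1],[]),([5],[]),([5],[]),([5],[]),([5],[]),([4],[]),([4],[]),([4],[]),([5],[]),([5],[]),([1],[]),([5],[]),([5],[]),([5],[]),([5],[]),([4],[]),([4],[]),([4],[]),([5],[]),([5],[]),([6,7],[]),([],[]),([5],[]),([5],[]),([4],[]),([0],[]),([0],[]),([5],[]),([5],[]),([4],[]),([1],[]),([1],[]),([0],[]),([0],[]),([5],[]),([5],[]),([4],[]),([1],[]),([1],[]),([1],[]),([1],[]),([4],[]),([5],[]),([5],[]),([3],[7]),([6,7],[])]]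

set_option maxHeartbeats 2000000 in
/-- part 8 of the separation table of `E8` -/
def sepTableE8_8 : List (List (List ℕ × List ℕ)) := [
[([5,6],[]),([7],[]),([7],[]),([4],[]),([7],[]),([7],[]),([5,6],[]),([4],[]),([7],[]),([7],[]),([4],[]),([4],[]),([1],[]),([7],[]),([7],[]),([0],[]),([4],[]),([4],[]),([1],[]),([7],[]),([7],[]),([3],[6]),([4],[]),([4],[]),([1],[]),([7],[]),([7],[]),([4],[]),([4],[]),([1],[]),([7],[]),([7],[]),([0],[]),([4],[]),([7],[]),([7],[]),([4],[]),([7],[]),([7],[]),([7],[]),([7],[]),([0],[]),([2,6],[]),([0],[]),([4],[]),([4],[]),([1],[]),([7],[]),([7],[]),([4],[]),([4],[]),([1],[]),([7],[]),([7],[]),([0],[]),([4],[]),([7],[]),([7],[]),([4],[]),([7],[]),([7],[]),([7],[]),([7],[]),([0],[]),([5,6],[]),([4],[]),([7],[]),([7],[]),([4],[]),([7],[]),([7],[]),([7],[]),([7],[]),([5,6],[]),([1],[]),([7],[]),([7],[]),([7],[]),([7],[]),([4],[]),([7],[]),([7],[]),([4],[]),([1],[]),([1],[]),([7],[]),([7],[]),([7],[]),([7],[]),([4],[]),([7],[]),([7],[]),([4],[]),([1],[]),([7],[]),([7],[]),([],[]),([4],[]),([4],[]),([7],[]),([7],[]),([0],[]),([4],[]),([4],[]),([1],[]),([1],[]),([7],[]),([7],[]),([0],[]),([4],[]),([4],[]),([1],[]),([1],[]),([1],[]),([1],[]),([4],[]),([4],[]),([3],[6]),([7],[]),([7],[])],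
[([6],[]),([7],[]),([7],[]),([6],[]),([7],[]),([7],[]),([4,5],[]),([6],[]),([7],[]),([7],[]),([1],[]),([1],[]),([6],[]),([7],[]),([7],[]),([0],[]),([1],[]),([1],[]),([6],[]),([7],[]),([7],[]),([3],[5]),([1],[]),([1],[]),([6],[]),([7],[]),([7],[]),([1],[]),([1],[]),([6],[]),([7],[]),([7],[]),([0],[]),([6],[]),([7],[]),([7],[]),([6],[]),([7],[]),([7],[]),([7],[]),([7],[]),([6],[]),([2,5],[]),([0],[]),([1],[]),([1],[]),([6],[]),([7],[]),([7],[]),([1],[]),([1],[]),([6],[]),([7],[]),([7],[]),([0],[]),([6],[]),([7],[]),([7],[]),([6],[]),([7],[]),([7],[]),([7],[]),([7],[]),([6],[]),([4,5],[]),([6],[]),([7],[]),([7],[]),([6],[]),([7],[]),([7],[]),([7],[]),([7],[]),([6],[]),([6],[]),([7],[]),([7],[]),([7],[]),([7],[]),([6],[]),([7],[]),([7],[]),([6],[]),([1],[]),([6],[]),([7],[]),([7],[]),([7],[]),([7],[]),([6],[]),([7],[]),([7],[]),([6],[]),([1],[]),([7],[]),([7],[]),([6],[]),([],[]),([4,5],[]),([7],[]),([7],[]),([6],[]),([0],[]),([0],[]),([1],[]),([1],[]),([7],[]),([7],[]),([6],[]),([0],[]),([0],[]),([1],[]),([1],[]),([1],[]),([1],[]),([4,5],[]),([3],[5]),([6],[]),([7],[]),([7],[])],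
[([6],[]),([7],[]),([7],[]),([6],[]),([7],[]),([7],[]),([5],[]),([6],[]),([7],[]),([7],[]),([1],[]),([5],[]),([6],[]),([7],[]),([7],[]),([3],[]),([3],[]),([5],[]),([6],[]),([7],[]),([7],[]),([3],[]),([3],[]),([5],[]),([6],[]),([7],[]),([7],[]),([1],[]),([5],[]),([6],[]),([7],[]),([7],[]),([5],[]),([6],[]),([7],[]),([7],[]),([6],[]),([7],[]),([7],[]),([7],[]),([7],[]),([6],[]),([2,4],[]),([3],[]),([3],[]),([5],[]),([6],[]),([7],[]),([7],[]),([1],[]),([5],[]),([6],[]),([7],[]),([7],[]),([5],[]),([6],[]),([7],[]),([7],[]),([6],[]),([7],[]),([7],[]),([7],[]),([7],[]),([6],[]),([5],[]),([6],[]),([7],[]),([7],[]),([6],[]),([7],[]),([7],[]),([7],[]),([7],[]),([6],[]),([6],[]),([7],[]),([7],[]),([7],[]),([7],[]),([6],[]),([7],[]),([7],[]),([6],[]),([5],[]),([6],[]),([7],[]),([7],[]),([7],[]),([7],[]),([6],[]),([7],[]),([7],[]),([6],[]),([5],[]),([7],[]),([7],[]),([6],[]),([5],[]),([],[]),([7],[]),([7],[]),([6],[]),([5],[]),([3],[]),([3],[]),([1],[]),([7],[]),([7],[]),([6],[]),([5],[]),([3],[]),([3],[]),([1],[]),([1],[]),([3],[]),([3],[]),([5],[]),([6],[]),([7],[]),([7],[])],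
[([6],[]),([5],[]),([6],[]),([6],[]),([6],[]),([5],[]),([5],[]),([6],[]),([6],[]),([4],[]),([4],[]),([5],[]),([6],[]),([6],[]),([3],[]),([3],[]),([4],[]),([5],[]),([6],[]),([6],[]),([1],[]),([3],[]),([4],[]),([5],[]),([6],[]),([6],[]),([1],[]),([4],[]),([5],[]),([6],[]),([6],[]),([3],[]),([5],[]),([6],[]),([6],[]),([4],[]),([6],[]),([6],[]),([5],[]),([5],[]),([6],[]),([6],[]),([2,7],[]),([3],[]),([4],[]),([5],[]),([6],[]),([6],[]),([1],[]),([4],[]),([5],[]),([6],[]),([6],[]),([3],[]),([5],[]),([6],[]),([6],[]),([4],[]),([6],[]),([6],[]),([5],[]),([5],[]),([6],[]),([6],[]),([5],[]),([6],[]),([6],[]),([4],[]),([6],[]),([6],[]),([5],[]),([5],[]),([6],[]),([6],[]),([6],[]),([6],[]),([5],[]),([5],[]),([6],[]),([6],[]),([4],[]),([6],[]),([6],[]),([5],[]),([6],[]),([6],[]),([5],[]),([5],[]),([6],[]),([6],[]),([4],[]),([6],[]),([6],[]),([5],[]),([3],[]),([6],[]),([6],[]),([5],[]),([4],[]),([],[]),([6],[]),([6],[]),([5],[]),([4],[]),([3],[]),([1],[]),([2,7],[]),([6],[]),([6],[]),([5],[]),([4],[]),([3],[]),([1],[]),([1],[]),([3],[]),([4],[]),([5],[]),([6],[]),([6],[]),([2,7],[])],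
[([6,7],[]),([5],[]),([5],[]),([4],[]),([5],[]),([5],[]),([5],[]),([5],[]),([4],[]),([4],[]),([4],[]),([5],[]),([5],[]),([3],[]),([3],[]),([3],[]),([4],[]),([5],[]),([5],[]),([1],[]),([1],[]),([3],[]),([4],[]),([5],[]),([5],[]),([1],[]),([1],[]),([4],[]),([5],[]),([5],[]),([3],[]),([3],[]),([5],[]),([5],[]),([4],[]),([4],[]),([4],[]),([5],[]),([5],[]),([5],[]),([5],[]),([6,7],[]),([2],[7]),([3],[]),([4],[]),([5],[]),([5],[]),([1],[]),([1],[]),([4],[]),([5],[]),([5],[]),([3],[]),([3],[]),([5],[]),([5],[]),([4],[]),([4],[]),([4],[]),([5],[]),([5],[]),([5],[]),([5],[]),([6,7],[]),([5],[]),([5],[]),([4],[]),([4],[]),([4],[]),([5],[]),([5],[]),([5],[]),([5],[]),([3],[]),([3],[]),([5],[]),([5],[]),([5],[]),([5],[]),([4],[]),([4],[]),([4],[]),([5],[]),([5],[]),([1],[]),([5],[]),([5],[]),([5],[]),([5],[]),([4],[]),([4],[]),([4],[]),([5],[]),([5],[]),([3],[]),([3],[]),([5],[]),([5],[]),([4],[]),([6,7],[]),([],[]),([5],[]),([5],[]),([4],[]),([3],[]),([1],[]),([6,7],[]),([2],[7]),([5],[]),([5],[]),([4],[]),([3],[]),([1],[]),([1],[]),([3],[]),([4],[]),([5],[]),([5],[]),([2],[7]),([6,7],[])],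
[([5,6],[]),([7],[]),([7],[]),([4],[]),([7],[]),([7],[]),([3],[]),([4],[]),([7],[]),([7],[]),([4],[]),([4],[]),([3],[]),([7],[]),([7],[]),([3],[]),([4],[]),([4],[]),([1],[]),([7],[]),([7],[]),([3],[]),([4],[]),([4],[]),([1],[]),([7],[]),([7],[]),([4],[]),([4],[]),([3],[]),([7],[]),([7],[]),([3],[]),([4],[]),([7],[]),([7],[]),([4],[]),([7],[]),([7],[]),([7],[]),([7],[]),([5,6],[]),([2],[6]),([3],[]),([4],[]),([4],[]),([1],[]),([7],[]),([7],[]),([4],[]),([4],[]),([3],[]),([7],[]),([7],[]),([3],[]),([4],[]),([7],[]),([7],[]),([4],[]),([7],[]),([7],[]),([7],[]),([7],[]),([5,6],[]),([5,6],[]),([4],[]),([7],[]),([7],[]),([4],[]),([7],[]),([7],[]),([7],[]),([7],[]),([3],[]),([3],[]),([7],[]),([7],[]),([7],[]),([7],[]),([4],[]),([7],[]),([7],[]),([4],[]),([1],[]),([1],[]),([7],[]),([7],[]),([7],[]),([7],[]),([4],[]),([7],[]),([7],[]),([4],[]),([3],[]),([7],[]),([7],[]),([3],[]),([4],[]),([4],[]),([7],[]),([7],[]),([],[]),([4],[]),([4],[]),([3],[]),([1],[]),([7],[]),([7],[]),([2],[6]),([4],[]),([4],[]),([3],[]),([1],[]),([1],[]),([3],[]),([4],[]),([4],[]),([2],[6]),([7],[]),([7],[])],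
[([6],[]),([7],[]),([7],[]),([6],[]),([7],[]),([7],[]),([3],[]),([6],[]),([7],[]),([7],[]),([1],[]),([3],[]),([6],[]),([7],[]),([7],[]),([3],[]),([3],[]),([1],[]),([6],[]),([7],[]),([7],[]),([3],[]),([3],[]),([1],[]),([6],[]),([7],[]),([7],[]),([1],[]),([3],[]),([6],[]),([7],[]),([7],[]),([3],[]),([6],[]),([7],[]),([7],[]),([6],[]),([7],[]),([7],[]),([7],[]),([7],[]),([6],[]),([2],[5]),([3],[]),([3],[]),([1],[]),([6],[]),([7],[]),([7],[]),([1],[]),([3],[]),([6],[]),([7],[]),([7],[]),([3],[]),([6],[]),([7],[]),([7],[]),([6],[]),([7],[]),([7],[]),([7],[]),([7],[]),([6],[]),([4,5],[]),([6],[]),([7],[]),([7],[]),([6],[]),([7],[]),([7],[]),([7],[]),([7],[]),([6],[]),([6],[]),([7],[]),([7],[]),([7],[]),([7],[]),([6],[]),([7],[]),([7],[]),([6],[]),([1],[]),([6],[]),([7],[]),([7],[]),([7],[]),([7],[]),([6],[]),([7],[]),([7],[]),([6],[]),([3],[]),([7],[]),([7],[]),([6],[]),([3],[]),([4,5],[]),([7],[]),([7],[]),([6],[]),([],[]),([3],[]),([3],[]),([1],[]),([7],[]),([7],[]),([6],[]),([2],[5]),([3],[]),([3],[]),([1],[]),([1],[]),([3],[]),([3],[]),([2],[5]),([6],[]),([7],[]),([7],[])],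
[([6],[]),([7],[]),([7],[]),([6],[]),([7],[]),([7],[]),([5],[]),([6],[]),([7],[]),([7],[]),([1],[]),([5],[]),([6],[]),([7],[]),([7],[]),([3,4],[]),([1],[]),([5],[]),([6],[]),([7],[]),([7],[]),([3,4],[]),([1],[]),([5],[]),([6],[]),([7],[]),([7],[]),([1],[]),([5],[]),([6],[]),([7],[]),([7],[]),([5],[]),([6],[]),([7],[]),([7],[]),([6],[]),([7],[]),([7],[]),([7],[]),([7],[]),([6],[]),([2],[4]),([3,4],[]),([1],[]),([5],[]),([6],[]),([7],[]),([7],[]),([1],[]),([5],[]),([6],[]),([7],[]),([7],[]),([5],[]),([6],[]),([7],[]),([7],[]),([6],[]),([7],[]),([7],[]),([7],[]),([7],[]),([6],[]),([5],[]),([6],[]),([7],[]),([7],[]),([6],[]),([7],[]),([7],[]),([7],[]),([7],[]),([6],[]),([6],[]),([7],[]),([7],[]),([7],[]),([7],[]),([6],[]),([7],[]),([7],[]),([6],[]),([5],[]),([6],[]),([7],[]),([7],[]),([7],[]),([7],[]),([6],[]),([7],[]),([7],[]),([6],[]),([5],[]),([7],[]),([7],[]),([6],[]),([5],[]),([3,4],[]),([7],[]),([7],[]),([6],[]),([5],[]),([],[]),([1],[]),([1],[]),([7],[]),([7],[]),([6],[]),([5],[]),([2],[4]),([1],[]),([1],[]),([1],[]),([1],[]),([2],[4]),([5],[]),([6],[]),([7],[]),([7],[])],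
[([6],[]),([7],[]),([7],[]),([6],[]),([7],[]),([7],[]),([5],[]),([6],[]),([7],[]),([7],[]),([4],[]),([5],[]),([6],[]),([7],[]),([7],[]),([1,3],[]),([4],[]),([5],[]),([6],[]),([7],[]),([7],[]),([1,3],[]),([4],[]),([5],[]),([6],[]),([7],[]),([7],[]),([4],[]),([5],[]),([6],[]),([7],[]),([7],[]),([5],[]),([6],[]),([7],[]),([7],[]),([6],[]),([7],[]),([7],[]),([7],[]),([7],[]),([6],[]),([2],[]),([2],[]),([4],[]),([5],[]),([6],[]),([7],[]),([7],[]),([4],[]),([5],[]),([6],[]),([7],[]),([7],[]),([5],[]),([6],[]),([7],[]),([7],[]),([6],[]),([7],[]),([7],[]),([7],[]),([7],[]),([6],[]),([5],[]),([6],[]),([7],[]),([7],[]),([6],[]),([7],[]),([7],[]),([7],[]),([7],[]),([6],[]),([6],[]),([7],[]),([7],[]),([7],[]),([7],[]),([6],[]),([7],[]),([7],[]),([6],[]),([5],[]),([6],[]),([7],[]),([7],[]),([7],[]),([7],[]),([6],[]),([7],[]),([7],[]),([6],[]),([5],[]),([7],[]),([7],[]),([6],[]),([5],[]),([4],[]),([7],[]),([7],[]),([6],[]),([5],[]),([4],[]),([],[]),([1,3],[]),([7],[]),([7],[]),([6],[]),([5],[]),([4],[]),([2],[]),([2],[]),([2],[]),([2],[]),([4],[]),([5],[]),([6],[]),([7],[]),([7],[])],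
[([6],[]),([7],[]),([7],[]),([6],[]),([7],[]),([7],[]),([5],[]),([6],[]),([7],[]),([7],[]),([4],[]),([5],[]),([6],[]),([7],[]),([7],[]),([3],[]),([4],[]),([5],[]),([6],[]),([7],[]),([7],[]),([3],[]),([4],[]),([5],[]),([6],[]),([7],[]),([7],[]),([4],[]),([5],[]),([6],[]),([7],[]),([7],[]),([5],[]),([6],[]),([7],[]),([7],[]),([6],[]),([7],[]),([7],[]),([7],[]),([7],[]),([6],[]),([2],[]),([3],[]),([4],[]),([5],[]),([6],[]),([7],[]),([7],[]),([4],[]),([5],[]),([6],[]),([7],[]),([7],[]),([5],[]),([6],[]),([7],[]),([7],[]),([6],[]),([7],[]),([7],[]),([7],[]),([7],[]),([6],[]),([5],[]),([6],[]),([7],[]),([7],[]),([6],[]),([7],[]),([7],[]),([7],[]),([7],[]),([6],[]),([6],[]),([7],[]),([7],[]),([7],[]),([7],[]),([6],[]),([7],[]),([7],[]),([6],[]),([5],[]),([6],[]),([7],[]),([7],[]),([7],[]),([7],[]),([6],[]),([7],[]),([7],[]),([6],[]),([5],[]),([7],[]),([7],[]),([6],[]),([5],[]),([4],[]),([7],[]),([7],[]),([6],[]),([5],[]),([4],[]),([3],[]),([],[]),([7],[]),([7],[]),([6],[]),([5],[]),([4],[]),([3],[]),([2],[]),([2],[]),([3],[]),([4],[]),([5],[]),([6],[]),([7],[]),([7],[])],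
[([6],[]),([5],[]),([6],[]),([6],[]),([6],[]),([5],[]),([5],[]),([6],[]),([6],[]),([4],[]),([4],[]),([5],[]),([6],[]),([6],[]),([3],[]),([3],[]),([4],[]),([5],[]),([6],[]),([6],[]),([2],[]),([3],[]),([4],[]),([5],[]),([6],[]),([6],[]),([2],[]),([4],[]),([5],[]),([6],[]),([6],[]),([3],[]),([5],[]),([6],[]),([6],[]),([4],[]),([6],[]),([6],[]),([5],[]),([5],[]),([6],[]),([6],[]),([2],[]),([3],[]),([4],[]),([5],[]),([6],[]),([6],[]),([1],[]),([4],[]),([5],[]),([6],[]),([6],[]),([3],[]),([5],[]),([6],[]),([6],[]),([4],[]),([6],[]),([6],[]),([5],[]),([5],[]),([6],[]),([6],[]),([5],[]),([6],[]),([6],[]),([4],[]),([6],[]),([6],[]),([5],[]),([5],[]),([6],[]),([6],[]),([6],[]),([6],[]),([5],[]),([5],[]),([6],[]),([6],[]),([4],[]),([6],[]),([6],[]),([5],[]),([6],[]),([6],[]),([5],[]),([5],[]),([6],[]),([6],[]),([4],[]),([6],[]),([6],[]),([5],[]),([3],[]),([6],[]),([6],[]),([5],[]),([4],[]),([2],[]),([6],[]),([6],[]),([5],[]),([4],[]),([3],[]),([1],[]),([],[]),([6],[]),([6],[]),([5],[]),([4],[]),([3],[]),([2],[]),([2],[]),([3],[]),([4],[]),([5],[]),([6],[]),([6],[]),([0,7],[])],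
[([6,7],[]),([5],[]),([5],[]),([4],[]),([5],[]),([5],[]),([5],[]),([5],[]),([4],[]),([4],[]),([4],[]),([5],[]),([5],[]),([3],[]),([3],[]),([3],[]),([4],[]),([5],[]),([5],[]),([2],[]),([2],[]),([3],[]),([4],[]),([5],[]),([5],[]),([2],[]),([2],[]),([4],[]),([5],[]),([5],[]),([3],[]),([3],[]),([5],[]),([5],[]),([4],[]),([4],[]),([4],[]),([5],[]),([5],[]),([5],[]),([5],[]),([6,7],[]),([2],[]),([3],[]),([4],[]),([5],[]),([5],[]),([1],[]),([1],[]),([4],[]),([5],[]),([5],[]),([3],[]),([3],[]),([5],[]),([5],[]),([4],[]),([4],[]),([4],[]),([5],[]),([5],[]),([5],[]),([5],[]),([2],[]),([5],[]),([5],[]),([4],[]),([4],[]),([4],[]),([5],[]),([5],[]),([5],[]),([5],[]),([3],[]),([3],[]),([5],[]),([5],[]),([5],[]),([5],[]),([4],[]),([4],[]),([4],[]),([5],[]),([5],[]),([1],[]),([5],[]),([5],[]),([5],[]),([5],[]),([4],[]),([4],[]),([4],[]),([5],[]),([5],[]),([3],[]),([3],[]),([5],[]),([5],[]),([4],[]),([2],[]),([2],[]),([5],[]),([5],[]),([4],[]),([3],[]),([1],[]),([6,7],[]),([],[]),([5],[]),([5],[]),([4],[]),([3],[]),([2],[]),([2],[]),([3],[]),([4],[]),([5],[]),([5],[]),([0],[7]),([6,7],[])]]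

set_option maxHeartbeats 2000000 in
/-- part 9 of the separation table of `E8` -/
def sepTableE8_9 : List (List (List ℕ × List ℕ)) := [
[([5,6],[]),([7],[]),([7],[]),([4],[]),([7],[]),([7],[]),([3],[]),([4],[]),([7],[]),([7],[]),([4],[]),([4],[]),([3],[]),([7],[]),([7],[]),([3],[]),([4],[]),([4],[]),([2],[]),([7],[]),([7],[]),([3],[]),([4],[]),([4],[]),([2],[]),([7],[]),([7],[]),([4],[]),([4],[]),([3],[]),([7],[]),([7],[]),([3],[]),([4],[]),([7],[]),([7],[]),([4],[]),([7],[]),([7],[]),([7],[]),([7],[]),([5,6],[]),([2],[]),([3],[]),([4],[]),([4],[]),([1],[]),([7],[]),([7],[]),([4],[]),([4],[]),([3],[]),([7],[]),([7],[]),([3],[]),([4],[]),([7],[]),([7],[]),([4],[]),([7],[]),([7],[]),([7],[]),([7],[]),([2],[]),([2],[]),([4],[]),([7],[]),([7],[]),([4],[]),([7],[]),([7],[]),([7],[]),([7],[]),([3],[]),([3],[]),([7],[]),([7],[]),([7],[]),([7],[]),([4],[]),([7],[]),([7],[]),([4],[]),([1],[]),([1],[]),([7],[]),([7],[]),([7],[]),([7],[]),([4],[]),([7],[]),([7],[]),([4],[]),([3],[]),([7],[]),([7],[]),([3],[]),([4],[]),([4],[]),([7],[]),([7],[]),([2],[]),([4],[]),([4],[]),([3],[]),([1],[]),([7],[]),([7],[]),([],[]),([4],[]),([4],[]),([3],[]),([2],[]),([2],[]),([3],[]),([4],[]),([4],[]),([0],[6]),([7],[]),([7],[])],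
[([6],[]),([7],[]),([7],[]),([6],[]),([7],[]),([7],[]),([3],[]),([6],[]),([7],[]),([7],[]),([2],[]),([3],[]),([6],[]),([7],[]),([7],[]),([3],[]),([3],[]),([2],[]),([6],[]),([7],[]),([7],[]),([3],[]),([3],[]),([2],[]),([6],[]),([7],[]),([7],[]),([2],[]),([3],[]),([6],[]),([7],[]),([7],[]),([3],[]),([6],[]),([7],[]),([7],[]),([6],[]),([7],[]),([7],[]),([7],[]),([7],[]),([6],[]),([2],[]),([3],[]),([3],[]),([1],[]),([6],[]),([7],[]),([7],[]),([1],[]),([3],[]),([6],[]),([7],[]),([7],[]),([3],[]),([6],[]),([7],[]),([7],[]),([6],[]),([7],[]),([7],[]),([7],[]),([7],[]),([6],[]),([2],[]),([6],[]),([7],[]),([7],[]),([6],[]),([7],[]),([7],[]),([7],[]),([7],[]),([6],[]),([6],[]),([7],[]),([7],[]),([7],[]),([7],[]),([6],[]),([7],[]),([7],[]),([6],[]),([1],[]),([6],[]),([7],[]),([7],[]),([7],[]),([7],[]),([6],[]),([7],[]),([7],[]),([6],[]),([3],[]),([7],[]),([7],[]),([6],[]),([3],[]),([2],[]),([7],[]),([7],[]),([6],[]),([2],[]),([3],[]),([3],[]),([1],[]),([7],[]),([7],[]),([6],[]),([],[]),([3],[]),([3],[]),([2],[]),([2],[]),([3],[]),([3],[]),([0],[5]),([6],[]),([7],[]),([7],[])],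
[([6],[]),([7],[]),([7],[]),([6],[]),([7],[]),([7],[]),([5],[]),([6],[]),([7],[]),([7],[]),([2],[]),([5],[]),([6],[]),([7],[]),([7],[]),([3,4],[]),([2],[]),([5],[]),([6],[]),([7],[]),([7],[]),([3,4],[]),([2],[]),([5],[]),([6],[]),([7],[]),([7],[]),([2],[]),([5],[]),([6],[]),([7],[]),([7],[]),([5],[]),([6],[]),([7],[]),([7],[]),([6],[]),([7],[]),([7],[]),([7],[]),([7],[]),([6],[]),([2],[]),([2],[]),([1],[]),([5],[]),([6],[]),([7],[]),([7],[]),([1],[]),([5],[]),([6],[]),([7],[]),([7],[]),([5],[]),([6],[]),([7],[]),([7],[]),([6],[]),([7],[]),([7],[]),([7],[]),([7],[]),([6],[]),([5],[]),([6],[]),([7],[]),([7],[]),([6],[]),([7],[]),([7],[]),([7],[]),([7],[]),([6],[]),([6],[]),([7],[]),([7],[]),([7],[]),([7],[]),([6],[]),([7],[]),([7],[]),([6],[]),([5],[]),([6],[]),([7],[]),([7],[]),([7],[]),([7],[]),([6],[]),([7],[]),([7],[]),([6],[]),([5],[]),([7],[]),([7],[]),([6],[]),([5],[]),([2],[]),([7],[]),([7],[]),([6],[]),([5],[]),([2],[]),([1],[]),([1],[]),([7],[]),([7],[]),([6],[]),([5],[]),([],[]),([2],[]),([2],[]),([2],[]),([2],[]),([0],[4]),([5],[]),([6],[]),([7],[]),([7],[])],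
[([6],[]),([7],[]),([7],[]),([6],[]),([7],[]),([7],[]),([5],[]),([6],[]),([7],[]),([7],[]),([4],[]),([5],[]),([6],[]),([7],[]),([7],[]),([2,3],[]),([4],[]),([5],[]),([6],[]),([7],[]),([7],[]),([2,3],[]),([4],[]),([5],[]),([6],[]),([7],[]),([7],[]),([4],[]),([5],[]),([6],[]),([7],[]),([7],[]),([5],[]),([6],[]),([7],[]),([7],[]),([6],[]),([7],[]),([7],[]),([7],[]),([7],[]),([6],[]),([2,3],[]),([1,3],[]),([4],[]),([5],[]),([6],[]),([7],[]),([7],[]),([4],[]),([5],[]),([6],[]),([7],[]),([7],[]),([5],[]),([6],[]),([7],[]),([7],[]),([6],[]),([7],[]),([7],[]),([7],[]),([7],[]),([6],[]),([5],[]),([6],[]),([7],[]),([7],[]),([6],[]),([7],[]),([7],[]),([7],[]),([7],[]),([6],[]),([6],[]),([7],[]),([7],[]),([7],[]),([7],[]),([6],[]),([7],[]),([7],[]),([6],[]),([5],[]),([6],[]),([7],[]),([7],[]),([7],[]),([7],[]),([6],[]),([7],[]),([7],[]),([6],[]),([5],[]),([7],[]),([7],[]),([6],[]),([5],[]),([4],[]),([7],[]),([7],[]),([6],[]),([5],[]),([4],[]),([2,3],[]),([1,3],[]),([7],[]),([7],[]),([6],[]),([5],[]),([4],[]),([],[]),([2,3],[]),([2,3],[]),([0],[3]),([4],[]),([5],[]),([6],[]),([7],[]),([7],[])],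
[([6],[]),([7],[]),([7],[]),([6],[]),([7],[]),([7],[]),([5],[]),([6],[]),([7],[]),([7],[]),([4],[]),([5],[]),([6],[]),([7],[]),([7],[]),([3],[]),([4],[]),([5],[]),([6],[]),([7],[]),([7],[]),([3],[]),([4],[]),([5],[]),([6],[]),([7],[]),([7],[]),([4],[]),([5],[]),([6],[]),([7],[]),([7],[]),([5],[]),([6],[]),([7],[]),([7],[]),([6],[]),([7],[]),([7],[]),([7],[]),([7],[]),([6],[]),([1,2],[]),([3],[]),([4],[]),([5],[]),([6],[]),([7],[]),([7],[]),([4],[]),([5],[]),([6],[]),([7],[]),([7],[]),([5],[]),([6],[]),([7],[]),([7],[]),([6],[]),([7],[]),([7],[]),([7],[]),([7],[]),([6],[]),([5],[]),([6],[]),([7],[]),([7],[]),([6],[]),([7],[]),([7],[]),([7],[]),([7],[]),([6],[]),([6],[]),([7],[]),([7],[]),([7],[]),([7],[]),([6],[]),([7],[]),([7],[]),([6],[]),([5],[]),([6],[]),([7],[]),([7],[]),([7],[]),([7],[]),([6],[]),([7],[]),([7],[]),([6],[]),([5],[]),([7],[]),([7],[]),([6],[]),([5],[]),([4],[]),([7],[]),([7],[]),([6],[]),([5],[]),([4],[]),([3],[]),([0],[]),([7],[]),([7],[]),([6],[]),([5],[]),([4],[]),([3],[]),([],[]),([0],[]),([3],[]),([4],[]),([5],[]),([6],[]),([7],[]),([7],[])],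
[([6],[]),([7],[]),([7],[]),([6],[]),([7],[]),([7],[]),([5],[]),([6],[]),([7],[]),([7],[]),([4],[]),([5],[]),([6],[]),([7],[]),([7],[]),([3],[]),([4],[]),([5],[]),([6],[]),([7],[]),([7],[]),([3],[]),([4],[]),([5],[]),([6],[]),([7],[]),([7],[]),([4],[]),([5],[]),([6],[]),([7],[]),([7],[]),([5],[]),([6],[]),([7],[]),([7],[]),([6],[]),([7],[]),([7],[]),([7],[]),([7],[]),([6],[]),([1,2],[]),([3],[]),([4],[]),([5],[]),([6],[]),([7],[]),([7],[]),([4],[]),([5],[]),([6],[]),([7],[]),([7],[]),([5],[]),([6],[]),([7],[]),([7],[]),([6],[]),([7],[]),([7],[]),([7],[]),([7],[]),([6],[]),([5],[]),([6],[]),([7],[]),([7],[]),([6],[]),([7],[]),([7],[]),([7],[]),([7],[]),([6],[]),([6],[]),([7],[]),([7],[]),([7],[]),([7],[]),([6],[]),([7],[]),([7],[]),([6],[]),([5],[]),([6],[]),([7],[]),([7],[]),([7],[]),([7],[]),([6],[]),([7],[]),([7],[]),([6],[]),([5],[]),([7],[]),([7],[]),([6],[]),([5],[]),([4],[]),([7],[]),([7],[]),([6],[]),([5],[]),([4],[]),([3],[]),([1,2],[]),([7],[]),([7],[]),([6],[]),([5],[]),([4],[]),([3],[]),([0,2],[]),([],[]),([3],[]),([4],[]),([5],[]),([6],[]),([7],[]),([7],[])],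
[([6],[]),([7],[]),([7],[]),([6],[]),([7],[]),([7],[]),([5],[]),([6],[]),([7],[]),([7],[]),([4],[]),([5],[]),([6],[]),([7],[]),([7],[]),([0],[]),([4],[]),([5],[]),([6],[]),([7],[]),([7],[]),([2,3],[]),([4],[]),([5],[]),([6],[]),([7],[]),([7],[]),([4],[]),([5],[]),([6],[]),([7],[]),([7],[]),([5],[]),([6],[]),([7],[]),([7],[]),([6],[]),([7],[]),([7],[]),([7],[]),([7],[]),([6],[]),([2,3],[]),([0],[]),([4],[]),([5],[]),([6],[]),([7],[]),([7],[]),([4],[]),([5],[]),([6],[]),([7],[]),([7],[]),([5],[]),([6],[]),([7],[]),([7],[]),([6],[]),([7],[]),([7],[]),([7],[]),([7],[]),([6],[]),([5],[]),([6],[]),([7],[]),([7],[]),([6],[]),([7],[]),([7],[]),([7],[]),([7],[]),([6],[]),([6],[]),([7],[]),([7],[]),([7],[]),([7],[]),([6],[]),([7],[]),([7],[]),([6],[]),([5],[]),([6],[]),([7],[]),([7],[]),([7],[]),([7],[]),([6],[]),([7],[]),([7],[]),([6],[]),([5],[]),([7],[]),([7],[]),([6],[]),([5],[]),([4],[]),([7],[]),([7],[]),([6],[]),([5],[]),([4],[]),([0],[]),([0],[]),([7],[]),([7],[]),([6],[]),([5],[]),([4],[]),([0],[]),([2,3],[]),([0],[]),([],[]),([4],[]),([5],[]),([6],[]),([7],[]),([7],[])],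
[([6],[]),([7],[]),([7],[]),([6],[]),([7],[]),([7],[]),([5],[]),([6],[]),([7],[]),([7],[]),([2],[]),([5],[]),([6],[]),([7],[]),([7],[]),([0],[]),([2],[]),([5],[]),([6],[]),([7],[]),([7],[]),([3,4],[]),([2],[]),([5],[]),([6],[]),([7],[]),([7],[]),([2],[]),([5],[]),([6],[]),([7],[]),([7],[]),([5],[]),([6],[]),([7],[]),([7],[]),([6],[]),([7],[]),([7],[]),([7],[]),([7],[]),([6],[]),([2],[]),([2],[]),([1],[]),([5],[]),([6],[]),([7],[]),([7],[]),([1],[]),([5],[]),([6],[]),([7],[]),([7],[]),([5],[]),([6],[]),([7],[]),([7],[]),([6],[]),([7],[]),([7],[]),([7],[]),([7],[]),([6],[]),([5],[]),([6],[]),([7],[]),([7],[]),([6],[]),([7],[]),([7],[]),([7],[]),([7],[]),([6],[]),([6],[]),([7],[]),([7],[]),([7],[]),([7],[]),([6],[]),([7],[]),([7],[]),([6],[]),([5],[]),([6],[]),([7],[]),([7],[]),([7],[]),([7],[]),([6],[]),([7],[]),([7],[]),([6],[]),([5],[]),([7],[]),([7],[]),([6],[]),([5],[]),([2],[]),([7],[]),([7],[]),([6],[]),([5],[]),([2],[]),([1],[]),([1],[]),([7],[]),([7],[]),([6],[]),([5],[]),([0],[]),([2],[]),([2],[]),([2],[]),([2],[]),([],[]),([5],[]),([6],[]),([7],[]),([7],[])],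
[([6],[]),([7],[]),([7],[]),([6],[]),([7],[]),([7],[]),([3],[]),([6],[]),([7],[]),([7],[]),([2],[]),([3],[]),([6],[]),([7],[]),([7],[]),([3],[]),([3],[]),([2],[]),([6],[]),([7],[]),([7],[]),([3],[]),([3],[]),([2],[]),([6],[]),([7],[]),([7],[]),([2],[]),([3],[]),([6],[]),([7],[]),([7],[]),([3],[]),([6],[]),([7],[]),([7],[]),([6],[]),([7],[]),([7],[]),([7],[]),([7],[]),([6],[]),([2],[]),([3],[]),([3],[]),([1],[]),([6],[]),([7],[]),([7],[]),([1],[]),([3],[]),([6],[]),([7],[]),([7],[]),([3],[]),([6],[]),([7],[]),([7],[]),([6],[]),([7],[]),([7],[]),([7],[]),([7],[]),([6],[]),([2],[]),([6],[]),([7],[]),([7],[]),([6],[]),([7],[]),([7],[]),([7],[]),([7],[]),([6],[]),([6],[]),([7],[]),([7],[]),([7],[]),([7],[]),([6],[]),([7],[]),([7],[]),([6],[]),([1],[]),([6],[]),([7],[]),([7],[]),([7],[]),([7],[]),([6],[]),([7],[]),([7],[]),([6],[]),([3],[]),([7],[]),([7],[]),([6],[]),([3],[]),([2],[]),([7],[]),([7],[]),([6],[]),([2],[]),([3],[]),([3],[]),([1],[]),([7],[]),([7],[]),([6],[]),([0],[]),([3],[]),([3],[]),([2],[]),([2],[]),([3],[]),([3],[]),([],[]),([6],[]),([7],[]),([7],[])],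
[([5,6],[]),([7],[]),([7],[]),([4],[]),([7],[]),([7],[]),([3],[]),([4],[]),([7],[]),([7],[]),([4],[]),([4],[]),([3],[]),([7],[]),([7],[]),([3],[]),([4],[]),([4],[]),([2],[]),([7],[]),([7],[]),([3],[]),([4],[]),([4],[]),([2],[]),([7],[]),([7],[]),([4],[]),([4],[]),([3],[]),([7],[]),([7],[]),([3],[]),([4],[]),([7],[]),([7],[]),([4],[]),([7],[]),([7],[]),([7],[]),([7],[]),([0],[]),([2],[]),([3],[]),([4],[]),([4],[]),([1],[]),([7],[]),([7],[]),([4],[]),([4],[]),([3],[]),([7],[]),([7],[]),([3],[]),([4],[]),([7],[]),([7],[]),([4],[]),([7],[]),([7],[]),([7],[]),([7],[]),([2],[]),([2],[]),([4],[]),([7],[]),([7],[]),([4],[]),([7],[]),([7],[]),([7],[]),([7],[]),([3],[]),([3],[]),([7],[]),([7],[]),([7],[]),([7],[]),([4],[]),([7],[]),([7],[]),([4],[]),([1],[]),([1],[]),([7],[]),([7],[]),([7],[]),([7],[]),([4],[]),([7],[]),([7],[]),([4],[]),([3],[]),([7],[]),([7],[]),([3],[]),([4],[]),([4],[]),([7],[]),([7],[]),([2],[]),([4],[]),([4],[]),([3],[]),([1],[]),([7],[]),([7],[]),([0],[]),([4],[]),([4],[]),([3],[]),([2],[]),([2],[]),([3],[]),([4],[]),([4],[]),([],[]),([7],[]),([7],[])],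
[([6,7],[]),([5],[]),([5],[]),([4],[]),([5],[]),([5],[]),([5],[]),([5],[]),([4],[]),([4],[]),([4],[]),([5],[]),([5],[]),([3],[]),([3],[]),([3],[]),([4],[]),([5],[]),([5],[]),([2],[]),([2],[]),([3],[]),([4],[]),([5],[]),([5],[]),([2],[]),([2],[]),([4],[]),([5],[]),([5],[]),([3],[]),([3],[]),([5],[]),([5],[]),([4],[]),([4],[]),([4],[]),([5],[]),([5],[]),([5],[]),([5],[]),([0],[]),([2],[]),([3],[]),([4],[]),([5],[]),([5],[]),([1],[]),([1],[]),([4],[]),([5],[]),([5],[]),([3],[]),([3],[]),([5],[]),([5],[]),([4],[]),([4],[]),([4],[]),([5],[]),([5],[]),([5],[]),([5],[]),([2],[]),([5],[]),([5],[]),([4],[]),([4],[]),([4],[]),([5],[]),([5],[]),([5],[]),([5],[]),([3],[]),([3],[]),([5],[]),([5],[]),([5],[]),([5],[]),([4],[]),([4],[]),([4],[]),([5],[]),([5],[]),([1],[]),([5],[]),([5],[]),([5],[]),([5],[]),([4],[]),([4],[]),([4],[]),([5],[]),([5],[]),([3],[]),([3],[]),([5],[]),([5],[]),([4],[]),([2],[]),([2],[]),([5],[]),([5],[]),([4],[]),([3],[]),([1],[]),([0],[]),([0],[]),([5],[]),([5],[]),([4],[]),([3],[]),([2],[]),([2],[]),([3],[]),([4],[]),([5],[]),([5],[]),([],[]),([6,7],[])],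
[([6],[]),([5],[]),([6],[]),([6],[]),([6],[]),([5],[]),([5],[]),([6],[]),([6],[]),([4],[]),([4],[]),([5],[]),([6],[]),([6],[]),([3],[]),([3],[]),([4],[]),([5],[]),([6],[]),([6],[]),([2],[]),([3],[]),([4],[]),([5],[]),([6],[]),([6],[]),([2],[]),([4],[]),([5],[]),([6],[]),([6],[]),([3],[]),([5],[]),([6],[]),([6],[]),([4],[]),([6],[]),([6],[]),([5],[]),([5],[]),([6],[]),([6],[]),([2],[]),([3],[]),([4],[]),([5],[]),([6],[]),([6],[]),([1],[]),([4],[]),([5],[]),([6],[]),([6],[]),([3],[]),([5],[]),([6],[]),([6],[]),([4],[]),([6],[]),([6],[]),([5],[]),([5],[]),([6],[]),([6],[]),([5],[]),([6],[]),([6],[]),([4],[]),([6],[]),([6],[]),([5],[]),([5],[]),([6],[]),([6],[]),([6],[]),([6],[]),([5],[]),([5],[]),([6],[]),([6],[]),([4],[]),([6],[]),([6],[]),([5],[]),([6],[]),([6],[]),([5],[]),([5],[]),([6],[]),([6],[]),([4],[]),([6],[]),([6],[]),([5],[]),([3],[]),([6],[]),([6],[]),([5],[]),([4],[]),([2],[]),([6],[]),([6],[]),([5],[]),([4],[]),([3],[]),([1],[]),([0],[]),([6],[]),([6],[]),([5],[]),([4],[]),([3],[]),([2],[]),([2],[]),([3],[]),([4],[]),([5],[]),([6],[]),([6],[]),([],[])]]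

/-- the separation table of `E8` -/
def sepTableE8 : List (List (List ℕ × List ℕ)) :=
  sepTableE8_0 ++ sepTableE8_1 ++ sepTableE8_2 ++ sepTableE8_3 ++ sepTableE8_4 ++ sepTableE8_5 ++ sepTableE8_6 ++ sepTableE8_7 ++ sepTableE8_8 ++ sepTableE8_9

set_option maxRecDepth 1000000 in
theorem sepTableE8_ok : sepTbl chevE8 alE chevE8.posRoots sepTableE8 = true := by
  decide +kernel

end Cfsg.Agent.Lib.Helper8.WC
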