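import Mathlib
import Cfsg.Agent.Lib.Helper8.WCSepA

set_option autoImplicit false

/-!
S2244 unit U1: the separation table of type `F4` (generated, checked by the kernel).
-/

namespace Cfsg.Agent.Lib.Helper8.WC

open Cfsg Cfsg.Lie

/-- the separation table of `F4` -/
def sepTableF4 : List (List (List ℕ × List ℕ)) := [
[([],[]),([1],[]),([1],[]),([1],[]),([0],[]),([0],[]),([1],[]),([1],[]),([0],[]),([1],[]),([1],[]),([1],[]),([1],[]),([1],[]),([1],[]),([1],[]),([1],[]),([0],[]),([0],[]),([1],[]),([0],[]),([1],[]),([2,2,3],[]),([2,2,3],[])],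
[([1,2],[]),([],[]),([1,2],[]),([0],[]),([0],[]),([0],[]),([0],[]),([0],[]),([0],[]),([0],[]),([0],[]),([0],[]),([0],[]),([1,2],[]),([2,3,3],[]),([2,3,3],[]),([0],[]),([0],[]),([0],[]),([0],[]),([0],[]),([1,2],[]),([1,2],[]),([2,3,3],[])],
[([1,2,3],[]),([1,2,3],[]),([],[]),([0],[]),([0],[]),([0],[]),([0],[]),([0],[]),([0],[]),([0],[]),([0],[]),([0],[]),([0],[]),([2],[3]),([2],[3]),([2],[3]),([0],[]),([0],[]),([0],[]),([0],[]),([0],[]),([2],[3]),([2],[3]),([2],[3])],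
[([3],[]),([3],[]),([3],[]),([],[]),([3],[]),([3],[]),([3],[]),([3],[]),([1,2,2],[]),([0],[2]),([0],[2]),([3],[]),([3],[]),([3],[]),([3],[]),([0],[2]),([0],[2]),([3],[]),([3],[]),([0],[2]),([0],[2]),([0],[2]),([3],[]),([3],[])],
[([2,3],[]),([1],[]),([1],[]),([1],[]),([],[]),([2,3],[]),([1],[]),([1],[]),([2,3],[]),([1],[]),([1],[]),([1],[]),([1],[]),([1],[]),([1],[]),([1],[]),([1],[]),([2,3],[]),([0],[3]),([1],[]),([0],[3]),([1],[]),([0],[3]),([2,3],[])],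
[([2],[]),([2],[]),([2],[]),([2],[]),([2],[]),([],[]),([1],[]),([2],[]),([2],[]),([1],[]),([2],[]),([2],[]),([1],[]),([1],[]),([2],[]),([2],[]),([1],[]),([0,3],[]),([2],[]),([2],[]),([0,3],[]),([2],[]),([2],[]),([0,3],[])],
[([2],[]),([2],[]),([2],[]),([2],[]),([2],[]),([0,1],[]),([],[]),([2],[]),([2],[]),([0,1],[]),([2],[]),([2],[]),([1,3,3],[]),([0,1],[]),([2],[]),([2],[]),([1,3,3],[]),([0,1],[]),([2],[]),([2],[]),([0,1],[]),([2],[]),([2],[]),([1,3,3],[])],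
[([2,3],[]),([2,3],[]),([2,3],[]),([2,3],[]),([0,1],[]),([2,3],[]),([2,3],[]),([],[]),([2,3],[]),([0,1],[]),([2,3],[]),([1],[3,3]),([2,3],[]),([2,3],[]),([0,1],[]),([2,3],[]),([1],[3,3]),([2,3],[]),([0,1],[]),([2,3],[]),([0,1],[]),([2,3],[]),([1],[3,3]),([2,3],[])],
[([3],[]),([3],[]),([3],[]),([1],[]),([3],[]),([3],[]),([3],[]),([3],[]),([],[]),([1],[]),([1],[]),([3],[]),([3],[]),([3],[]),([3],[]),([1],[]),([1],[]),([3],[]),([3],[]),([1],[]),([0,2,2],[]),([1],[]),([3],[]),([3],[])],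
[([3],[]),([3],[]),([3],[]),([2],[]),([3],[]),([3],[]),([3],[]),([3],[]),([2],[]),([],[]),([2],[]),([3],[]),([3],[]),([3],[]),([3],[]),([2],[]),([0,1,1],[]),([3],[]),([3],[]),([2],[]),([0,1,1],[]),([2],[]),([3],[]),([3],[])],
[([3],[]),([3],[]),([3],[]),([1,2],[]),([3],[]),([3],[]),([3],[]),([3],[]),([1,2],[]),([1,2],[]),([],[]),([3],[]),([3],[]),([3],[]),([3],[]),([0,2],[]),([1,2],[]),([3],[]),([3],[]),([1,2],[]),([0,2],[]),([1,2],[]),([3],[]),([3],[])],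
[([2,3],[]),([2,3],[]),([2,3],[]),([2,3],[]),([1],[3]),([2,3],[]),([2,3],[]),([1],[3]),([2,3],[]),([1],[3]),([2,3],[]),([],[]),([2,3],[]),([2,3],[]),([0,3],[]),([2,3],[]),([1],[3]),([2,3],[]),([1],[3]),([2,3],[]),([0,3],[]),([2,3],[]),([1],[3]),([2,3],[])],
[([2],[]),([2],[]),([2],[]),([2],[]),([2],[]),([1,3],[]),([1,3],[]),([2],[]),([2],[]),([1,3],[]),([2],[]),([2],[]),([],[]),([0],[3]),([2],[]),([2],[]),([1,3],[]),([1,3],[]),([2],[]),([2],[]),([0],[3]),([2],[]),([2],[]),([1,3],[])],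
[([2],[]),([2],[]),([2],[]),([2],[]),([2],[]),([0],[]),([0],[]),([2],[]),([2],[]),([0],[]),([2],[]),([2],[]),([0],[]),([],[]),([2],[]),([2],[]),([0],[]),([0],[]),([2],[]),([2],[]),([0],[]),([2],[]),([2],[]),([1,3],[])],
[([2,3],[]),([2,3],[]),([2,3],[]),([0],[]),([0],[]),([0],[]),([0],[]),([0],[]),([0],[]),([0],[]),([0],[]),([0],[]),([0],[]),([2,3],[]),([],[]),([2,3],[]),([0],[]),([0],[]),([0],[]),([0],[]),([0],[]),([2,3],[]),([1],[3]),([2,3],[])],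
[([3],[]),([3],[]),([3],[]),([0],[]),([3],[]),([3],[]),([3],[]),([3],[]),([0],[]),([0],[]),([0],[]),([3],[]),([3],[]),([3],[]),([3],[]),([],[]),([0],[]),([3],[]),([3],[]),([0],[]),([0],[]),([1,2],[]),([3],[]),([3],[])],
[([3],[]),([3],[]),([3],[]),([2],[]),([3],[]),([3],[]),([3],[]),([3],[]),([2],[]),([0,1],[]),([2],[]),([3],[]),([3],[]),([3],[]),([3],[]),([2],[]),([],[]),([3],[]),([3],[]),([2],[]),([0,1],[]),([2],[]),([3],[]),([3],[])],
[([2],[]),([2],[]),([2],[]),([2],[]),([2],[]),([0,3,3],[]),([1],[]),([2],[]),([2],[]),([1],[]),([2],[]),([2],[]),([1],[]),([1],[]),([2],[]),([2],[]),([1],[]),([],[]),([2],[]),([2],[]),([0,3,3],[]),([2],[]),([2],[]),([0,3,3],[])],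
[([2,3],[]),([1],[]),([1],[]),([1],[]),([0],[3,3]),([2,3],[]),([1],[]),([1],[]),([2,3],[]),([1],[]),([1],[]),([1],[]),([1],[]),([1],[]),([1],[]),([1],[]),([1],[]),([2,3],[]),([],[]),([1],[]),([0],[3,3]),([1],[]),([0],[3,3]),([2,3],[])],
[([3],[]),([3],[]),([3],[]),([0,1],[]),([3],[]),([3],[]),([3],[]),([3],[]),([0,1],[]),([0,1],[]),([0,1],[]),([3],[]),([3],[]),([3],[]),([3],[]),([0,1],[]),([1,2,2],[]),([3],[]),([3],[]),([],[]),([0,1],[]),([0,1],[]),([3],[]),([3],[])],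
[([3],[]),([3],[]),([3],[]),([2],[]),([3],[]),([3],[]),([3],[]),([3],[]),([2],[]),([1],[]),([2],[]),([3],[]),([3],[]),([3],[]),([3],[]),([2],[]),([1],[]),([3],[]),([3],[]),([2],[]),([],[]),([2],[]),([3],[]),([3],[])],
[([3],[]),([3],[]),([3],[]),([0],[]),([3],[]),([3],[]),([3],[]),([3],[]),([0],[]),([0],[]),([0],[]),([3],[]),([3],[]),([3],[]),([3],[]),([1,2,2],[]),([0],[]),([3],[]),([3],[]),([0],[]),([0],[]),([],[]),([3],[]),([3],[])],
[([2,3],[]),([1],[]),([1],[]),([1],[]),([0],[]),([0],[]),([1],[]),([1],[]),([0],[]),([1],[]),([1],[]),([1],[]),([1],[]),([1],[]),([1],[]),([1],[]),([1],[]),([0],[]),([0],[]),([1],[]),([0],[]),([1],[]),([],[]),([2,3],[])],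
[([2],[]),([2],[]),([2],[]),([2],[]),([2],[]),([0],[]),([1],[]),([2],[]),([2],[]),([1],[]),([2],[]),([2],[]),([1],[]),([1],[]),([2],[]),([2],[]),([1],[]),([0],[]),([2],[]),([2],[]),([0],[]),([2],[]),([2],[]),([],[])]]

set_option maxRecDepth 1000000 in
theorem sepTableF4_ok : sepTbl chevF4 alB chevF4.posRoots sepTableF4 = true := by
  decide +kernel

end Cfsg.Agent.Lib.Helper8.WC
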