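import Mathlib
import Cfsg.Agent.Lib.Helper8.WCSepA

set_option autoImplicit false

/-!
S2244 unit U1: the separation table of type `G2` (generated, checked by the kernel).
-/

namespace Cfsg.Agent.Lib.Helper8.WC

open Cfsg Cfsg.Lie

/-- the separation table of `G2` -/
def sepTableG2 : List (List (List ℕ × List ℕ)) := [
[([],[]),([0,0,1,1,1],[]),([0,0,1,1,1],[]),([0,0,1,1,1],[]),([0,0,1,1,1],[]),([0,0,1,1,1],[])],
[([0,1,1],[]),([],[]),([0,1,1],[]),([0,1,1],[]),([0,1,1],[]),([0,1,1],[])],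
[([0,1],[]),([0,1],[]),([],[]),([0,1],[]),([0,1],[]),([0,1],[])],
[([1],[]),([1],[]),([1],[]),([],[]),([1],[]),([1],[])],
[([0,1,1,1],[]),([0,1,1,1],[]),([0,1,1,1],[]),([0,1,1,1],[]),([],[]),([0,1,1,1],[])],
[([0],[]),([0],[]),([0],[]),([0],[]),([0],[]),([],[])]]

set_option maxRecDepth 1000000 in
theorem sepTableG2_ok : sepTbl chevG2 alG chevG2.posRoots sepTableG2 = true := by
  decide +kernel

end Cfsg.Agent.Lib.Helper8.WC
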