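import Mathlib
import Cfsg.Agent.Lib.Helper8.WCSepG2
import Cfsg.Agent.Lib.Helper8.WCSepB2
import Cfsg.Agent.Lib.Helper8.WCSepD4
import Cfsg.Agent.Lib.Helper8.WCSepF4
import Cfsg.Agent.Lib.Helper8.WCSepE6
import Cfsg.Agent.Lib.Helper8.WCSepE7
import Cfsg.Agent.Lib.Helper8.WCSepE8

set_option autoImplicit false

/-!
S2244 unit U1: separation of the positive roots by torus elements.
-/

namespace Cfsg.Agent.Lib.Helper8.WC

open Cfsg Cfsg.Lie Cfsg.Agent.Lib.Helper5.ChevStruct Cfsg.Agent.Lib.Helper5.ChevSym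

variable {F : Type*} [Field F]

theorem sep_of_card [Fintype F] (D : ChevalleyDatum) (hD : D ∈ Seven)
    (h2 : Fintype.card F ≠ 2)
    (h3 : D ∈ [chevG2, chevB2, chevD4, chevF4] → Fintype.card F ≠ 3)
    (k : ℕ) (hk : D.IsPosRoot k) (hbad : ¬ BadG2 D F k) : Sep D F k := by
  simp only [Seven, List.mem_cons, List.not_mem_nil, or_false] at hD
  rcases hD with rfl | rfl | rfl | rfl | rfl | rfl | rfl
  · refine sep_of_tblG chevG2 sepTableG2 sepTableG2_ok h2 (h3 (by simp)) k hk ?_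
    intro hk3 h4
    exact hbad ⟨rfl, h4, hk3⟩
  · exact sep_of_tblB chevB2 sepTableB2 sepTableB2_ok h2 (h3 (by simp)) k hk
  · exact sep_of_tblB chevD4 sepTableD4 sepTableD4_ok h2 (h3 (by simp)) k hk
  · exact sep_of_tblB chevF4 sepTableF4 sepTableF4_ok h2 (h3 (by simp)) k hk
  · exact sep_of_tblE chevE6 sepTableE6 sepTableE6_ok h2 k hk
  · exact sep_of_tblE chevE7 sepTableE7 sepTableE7_ok h2 k hk
  · exact sep_of_tblE chevE8 sepTableE8 sepTableE8_ok h2 k hk

end Cfsg.Agent.Lib.Helper8.WC
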