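import Mathlib
import Cfsg.Agent.Lib.Helper8.WCDefs
import Cfsg.Agent.Lib.Helper8.WCSep
import Cfsg.Agent.Lib.Helper8.WCPeel
import Cfsg.Agent.Lib.Helper1.WCU3
import Cfsg.Agent.Lib.Helper1.WCU4
import Cfsg.Agent.Lib.Helper2.WCU7
import Cfsg.Agent.Lib.Helper2.WCU8
import Cfsg.Agent.Lib.Helper2.WCU9
import Cfsg.Agent.Lib.Helper6.WCU5
import Cfsg.Agent.Lib.Helper6.WCU10
import Cfsg.Agent.Lib.Helper6.WCU11

set_option autoImplicit false

/-!
S2244 (weakly closed subgroups of `U` are the `U_J`): the assembly of the units.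
-/

namespace Cfsg.Agent.Lib.Helper8.WC

open Cfsg Cfsg.Lie Cfsg.Agent.Lib.Helper5.ChevStruct Cfsg.Agent.Lib.Helper5.ChevSym

variable {F : Type*} [Field F]

theorem wc_main [Fintype F] (D : ChevalleyDatum) (hD : D ∈ Seven)
    (h2 : Fintype.card F ≠ 2)
    (h3 : D ∈ [chevG2, chevB2, chevD4, chevF4] → Fintype.card F ≠ 3)
    (X : Subgroup (GL D.Idx F)) (hXU : X ≤ D.posUnipotent F)
    (hwc : ∀ g ∈ D.group F, X.map (MulAut.conj g).toMonoidHom ≤ D.posUnipotent F →
      X.map (MulAut.conj g).toMonoidHom = X) :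
    ∃ J : Set ℕ, (∀ j ∈ J, j < D.rank) ∧ X = D.unipotentRadical F J := by
  -- normalized by `B`
  have hBG : D.borelSubgroup F ≤ D.group F := borel_le_group D hD
  have hBU : D.borelSubgroup F ≤ Subgroup.normalizer (D.posUnipotent F : Set (GL D.Idx F)) := by
    unfold ChevalleyDatum.borelSubgroup
    exact sup_le Subgroup.le_normalizer (diagonal_le_normalizer_pos D hD)
  have hB : BNormal D X := by
    intro b hb x hx
    have hmap : X.map (MulAut.conj b).toMonoidHom ≤ D.posUnipotent F := by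
      rintro _ ⟨y, hy, rfl⟩
      exact ((Subgroup.mem_normalizer_iff.1 (hBU hb)) y).1 (hXU hy)
    have := hwc b (hBG hb) hmap
    rw [← this]
    exact ⟨x, hx, rfl⟩
  have hH : ∀ h ∈ D.diagonalSubgroup F, ∀ x ∈ X, h * x * h⁻¹ ∈ X := fun h hh x hx =>
    hB h (Subgroup.mem_sup_right hh) x hx
  -- peeling everywhere
  have hpeel : ∀ k, D.IsPosRoot k → Peel D hD X k := by
    intro k hk
    by_cases hbad : BadG2 D F k
    · obtain ⟨rfl, h4, hk3⟩ := hbad
      refine Cfsg.Agent.Lib.Helper1.WC.peel_G2_four hD h4 X hXU hB ?_ k hk3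
      intro k' hk' hn
      exact peel_of_sep chevG2 hD X hXU hH k' hk'
        (sep_of_card chevG2 hD h2 h3 k' hk' fun hb => hn hb.2.2)
    · exact peel_of_sep D hD X hXU hH k hk (sep_of_card D hD h2 h3 k hk hbad)
  have hfull := fun k hk t ht hx =>
    Cfsg.Agent.Lib.Helper1.WC.full_of_mem D hD X hH k hk t ht hx
  have heq := Cfsg.Agent.Lib.Helper6.Wc.eq_rootSetSub_Psi D hD X hXU hpeel hfull
  have hrefl : ∀ j < D.rank, D.simple j ∉ Psi D hD X → ∀ r ∈ Psi D hD X,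
      D.reflectRoot j r ∈ Psi D hD X := fun j hj hjn r hr =>
    Cfsg.Agent.Lib.Helper2.Wc.reflect_mem_Psi D hD X hXU hwc heq j hj hjn r hr
  have hP := Cfsg.Agent.Lib.Helper6.Wc.Psi_eq_radSet_of D hD
    (Cfsg.Agent.Lib.Helper2.Wc.exists_lowering D hD)
    (Cfsg.Agent.Lib.Helper2.Wc.exists_bottom D hD) X hB hpeel hrefl
  refine ⟨{j | j < D.rank ∧ D.simple j ∉ Psi D hD X}, fun j hj => hj.1, ?_⟩
  rw [unipotentRadical_eq_rootSetSub, ← hP]
  exact heq

end Cfsg.Agent.Lib.Helper8.WC
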