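import Cfsg.Agent.Lib.Helper8.Wg3
import Mathlib.GroupTheory.GroupAction.Primitive

set_option autoImplicit false

open Cfsg
open Cfsg.Agent.Lib.Helper3.JC
open Cfsg.Agent.Lib.Helper7.Am

namespace Cfsg.Agent.Lib.Helper8.Wg

/-- Primitive faithful action with a suborbit of length three: the point stabilizer is one of
five groups. -/
theorem prim_stab {G Ω : Type*} [Group G] [Finite G] [MulAction G Ω] [FaithfulSMul G Ω]
    (hprim : MulAction.IsPreprimitive G Ω) (a b : Ω)
    (h3 : Nat.card (MulAction.orbit (MulAction.stabilizer G a) b) = 3) :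
    Nonempty (MulAction.stabilizer G a ≃* Multiplicative (ZMod 3)) ∨
      Nonempty (MulAction.stabilizer G a ≃* Equiv.Perm (Fin 3)) ∨
      Nonempty (MulAction.stabilizer G a ≃* DihedralGroup 6) ∨
      Nonempty (MulAction.stabilizer G a ≃* Equiv.Perm (Fin 4)) ∨
      Nonempty (MulAction.stabilizer G a ≃* Equiv.Perm (Fin 4) × Multiplicative (ZMod 2)) := by
  haveI := hprim
  haveI : MulAction.IsPretransitive G Ω := hprim.toIsPretransitive
  obtain ⟨g, hg⟩ := MulAction.exists_smul_eq G a b
  set H := MulAction.stabilizer G a with hH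
  set K := MulAction.stabilizer G b with hKdef
  have hK : K = cj g H := by
    rw [hKdef, ← hg, MulAction.stabilizer_smul_eq_stabilizer_map_conj]; rfl
  -- relIndex
  have hrel : (H ⊓ K).relIndex H = 3 := by
    rw [Subgroup.inf_relIndex_left]
    have h1 : MulAction.stabilizer (↥H) b = K.subgroupOf H := by
      ext x
      simp only [MulAction.mem_stabilizer_iff, Subgroup.mem_subgroupOf, hKdef]
      rfl
    rw [Subgroup.relIndex, ← h1, MulAction.index_stabilizer, ← Nat.card_coe_set_eq]
    exact h3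
  -- a ≠ b
  have hab : a ≠ b := by
    intro hab
    have : MulAction.orbit (↥H) b = {b} := by
      ext y
      constructor
      · rintro ⟨x, rfl⟩
        have : (x : G) • a = a := x.2
        show (x : G) • b = b
        rw [← hab]; exact this
      · rintro rfl
        exact MulAction.mem_orbit_self _
    rw [this] at h3
    simp at h3
  haveI : Nontrivial Ω := ⟨⟨a, b, hab⟩⟩
  have hcoH : IsCoatom H := (MulAction.isCoatom_stabilizer_iff_preprimitive (G := G) a).mpr hprim
  refine wong H K g hK hrel ?_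
  intro N hN hNH hNK
  -- N is normalized by H ⊔ K = ⊤
  have hHK : H ≠ K := by
    intro h
    rw [← h, inf_idem, Subgroup.relIndex_self] at hrel
    omega
  have hsup : H ⊔ K = ⊤ := by
    by_contra hne
    have h1 : H ⊔ K = H := by
      by_contra h2
      exact hne (hcoH.2 _ (lt_of_le_of_ne le_sup_left (Ne.symm h2)))
    have hKH : K ≤ H := by rw [← h1]; exact le_sup_right
    have hcard : Nat.card ↥K = Nat.card ↥H := by
      rw [hK]; exact (Nat.card_congr (cjEquiv g H).toEquiv).symm
    exact hHK (Subgroup.eq_of_le_of_card_ge hKH (le_of_eq hcard.symm)).symm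
  have hnorm : Nz ⊤ N := by
    rw [← hsup]; exact Nz.sup_left hNH hNK
  rw [Subgroup.eq_bot_iff_forall]
  intro n hn
  apply FaithfulSMul.eq_of_smul_eq_smul (α := Ω)
  intro y
  obtain ⟨x, rfl⟩ := MulAction.exists_smul_eq G a y
  rw [one_smul]
  have h1 : x⁻¹ * n * x⁻¹⁻¹ ∈ N := hnorm x⁻¹ (Subgroup.mem_top _) n hn
  have h2 : x⁻¹ * n * x⁻¹⁻¹ ∈ H := (hN h1).1
  have h3' : (x⁻¹ * n * x⁻¹⁻¹) • a = a := h2
  rw [inv_inv, mul_smul, mul_smul, inv_smul_eq_iff] at h3'
  exact h3'

end Cfsg.Agent.Lib.Helper8.Wg
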