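import Mathlib
import Cfsg.Agent.Lib.Helper8.CompBalL3

set_option autoImplicit false
set_option linter.style.haveILetI false

/-! Farm WKB (S1864), unit U2: transfer of the `X`-level weak balance statement from
`X = C_G(a) / O_{p'}(C_G(a))` to `G`. -/

namespace Cfsg.Agent.Lib.Helper8.WkBal

open Cfsg Cfsg.Agent.Lib.Helper8.CompNorm Cfsg.Agent.Lib.Helper8.CoreIn
  Cfsg.Agent.Lib.Helper8.CompBal Cfsg.Agent.Lib.Helper8.CompBalK
open scoped commutatorElement

variable {G : Type*} [Group G]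

/-- the transfer lemma: if in `X = C_G(a) / O_{p'}(C_G(a))` the commutator `[Δ_X(B'), A']` is trivial
for the images `B' ≤ A'` of `B ≤ A` (statement `U1`), then `[Δ_G(B) ∩ C_G(a), A] ≤ O_{p'}(C_G(a))`. -/
theorem commutator_signalizerDelta_inf_centralizer_le [Finite G] (p k : ℕ) [hp : Fact p.Prime]
    {A B : Subgroup G} (hA : IsElementaryAbelian p A) (hBA : B ≤ A)
    (hcard : Nat.card ↥B = p ^ k) {a : G} (ha : a ∈ A)
    (hinv : ∀ K : Subgroup (↥(Subgroup.centralizer ({a} : Set G)) ⧸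
        pPrimeCore p ↥(Subgroup.centralizer ({a} : Set G))),
      IsComponent K → ∀ b : ↥(Subgroup.centralizer ({a} : Set G)), (b : G) ∈ A →
        ∀ x ∈ K, (QuotientGroup.mk b) * x * (QuotientGroup.mk b)⁻¹ ∈ K)
    (U1 : ∀ A' B' : Subgroup (↥(Subgroup.centralizer ({a} : Set G)) ⧸
        pPrimeCore p ↥(Subgroup.centralizer ({a} : Set G))),
      IsElementaryAbelian p A' → B' ≤ A' → Nat.card ↥B' = p ^ k →
      (∀ L : Subgroup (↥(Subgroup.centralizer ({a} : Set G)) ⧸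
        pPrimeCore p ↥(Subgroup.centralizer ({a} : Set G))), IsComponent L →
          A' ≤ Subgroup.normalizer (L : Set (↥(Subgroup.centralizer ({a} : Set G)) ⧸
            pPrimeCore p ↥(Subgroup.centralizer ({a} : Set G))))) →
      ⁅signalizerDelta p B', A'⁆ = ⊥) :
    ⁅signalizerDelta p B ⊓ Subgroup.centralizer {a}, A⁆ ≤ centralizerPPrimeCore p a := by
  have hAc : ∀ x ∈ A, ∀ y ∈ A, x * y = y * x := by
    intro x hx y hy
    have := hA.1.is_comm.comm (⟨x, hx⟩ : ↥A) ⟨y, hy⟩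
    exact congrArg Subtype.val this
  have hACa : A ≤ Subgroup.centralizer ({a} : Set G) := by
    intro x hx
    exact Subgroup.mem_centralizer_singleton_iff.2 (hAc x hx a ha)
  set Ca := Subgroup.centralizer ({a} : Set G) with hCa
  set q := QuotientGroup.mk' (pPrimeCore p ↥Ca) with hq
  set φ : ↥A →* (↥Ca ⧸ pPrimeCore p ↥Ca) := q.comp (Subgroup.inclusion hACa) with hφ
  have hinj : Function.Injective φ := by
    rw [injective_iff_map_eq_one]
    intro x hx
    have h1 : Subgroup.inclusion hACa x ∈ pPrimeCore p ↥Ca := by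
      rw [← QuotientGroup.eq_one_iff]
      exact hx
    have h2 : IsPElem p (Subgroup.inclusion hACa x) := by
      refine ⟨1, ?_⟩
      rw [pow_one]
      apply Subtype.ext
      rw [Subgroup.coe_pow, Subgroup.coe_one]
      exact hA.2 x x.2
    have h3 := IsPElem.eq_one (Cfsg.Agent.Lib.Helper1.pPrimeCore_card_coprime p) h1 h2
    apply Subtype.ext
    have := congrArg Subtype.val h3
    exact this
  have hA' : IsElementaryAbelian p φ.range := by
    constructor
    · refine ⟨⟨?_⟩⟩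
      rintro ⟨_, ⟨x, rfl⟩⟩ ⟨_, ⟨y, rfl⟩⟩
      apply Subtype.ext
      show φ x * φ y = φ y * φ x
      rw [← map_mul, ← map_mul]
      congr 1
      apply Subtype.ext
      exact hAc x x.2 y y.2
    · rintro _ ⟨x, rfl⟩
      rw [← map_pow]
      have : x ^ p = 1 := by
        apply Subtype.ext
        rw [Subgroup.coe_pow, Subgroup.coe_one]
        exact hA.2 x x.2
      rw [this, map_one]
  set B' : Subgroup (↥Ca ⧸ pPrimeCore p ↥Ca) := (B.subgroupOf A).map φ with hB'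
  have hB'A' : B' ≤ φ.range := by
    rintro _ ⟨x, -, rfl⟩
    exact ⟨x, rfl⟩
  have hcard' : Nat.card ↥B' = p ^ k := by
    rw [← hcard, hB', Subgroup.card_map_of_injective hinj]
    exact Nat.card_congr (Subgroup.subgroupOfEquivOfLe hBA).toEquiv
  have hinv' : ∀ L : Subgroup (↥Ca ⧸ pPrimeCore p ↥Ca), IsComponent L →
      φ.range ≤ Subgroup.normalizer (L : Set (↥Ca ⧸ pPrimeCore p ↥Ca)) := by
    intro L hL
    rintro _ ⟨x, rfl⟩
    rw [Subgroup.mem_normalizer_iff]
    intro h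
    constructor
    · intro hh
      exact hinv L hL (Subgroup.inclusion hACa x) x.2 h hh
    · intro hh
      have hx' : ((Subgroup.inclusion hACa x⁻¹ : ↥Ca) : G) ∈ A := (x⁻¹).2
      have := hinv L hL (Subgroup.inclusion hACa x⁻¹) hx' _ hh
      have e : (QuotientGroup.mk (Subgroup.inclusion hACa x⁻¹) : ↥Ca ⧸ pPrimeCore p ↥Ca) =
          (φ x)⁻¹ := by
        rw [map_inv]
        rfl
      rw [e] at this
      simpa [mul_assoc] using this
  have hU := U1 φ.range B' hA' hB'A' hcard' hinv'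
  -- the image of `Δ(B) ∩ C(a)`
  have hD : ((signalizerDelta p B ⊓ Ca).subgroupOf Ca).map q ≤ signalizerDelta p B' := by
    unfold signalizerDelta
    apply le_iInf
    rintro ⟨_, ⟨b, hb, rfl⟩, hb'1⟩
    have hbB : (b : G) ∈ B := Subgroup.mem_subgroupOf.1 hb
    have hb1 : (b : G) ≠ 1 := by
      intro h
      apply hb'1
      have : b = 1 := Subtype.ext h
      rw [this, map_one]
    have hab : (b : G) * a = a * b := hAc b b.2 a ha
    have hle : ((⨅ c : {c : G // c ∈ B ∧ c ≠ 1}, centralizerPPrimeCore p (c : G)) ⊓ Ca).subgroupOf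
        Ca ≤ (centralizerPPrimeCore p (b : G) ⊓ Ca).subgroupOf Ca := by
      intro d hd
      rw [Subgroup.mem_subgroupOf] at hd ⊢
      exact ⟨iInf_le (fun c : {c : G // c ∈ B ∧ c ≠ 1} => centralizerPPrimeCore p (c : G))
        ⟨b, hbB, hb1⟩ hd.1, hd.2⟩
    refine (Subgroup.map_mono hle).trans ?_
    exact map_inf_le_centralizerPPrimeCore (hA.2 b b.2) hab
  rw [Subgroup.commutator_le]
  intro d hd x hx
  have hdC : d ∈ Ca := hd.2
  have hd' : (⟨d, hdC⟩ : ↥Ca) ∈ (signalizerDelta p B ⊓ Ca).subgroupOf Ca :=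
    Subgroup.mem_subgroupOf.2 hd
  have h1 : q ⟨d, hdC⟩ ∈ signalizerDelta p B' := hD ⟨⟨d, hdC⟩, hd', rfl⟩
  have h2 : q ⟨x, hACa hx⟩ ∈ φ.range := ⟨⟨x, hx⟩, rfl⟩
  have h3 : ⁅q ⟨d, hdC⟩, q ⟨x, hACa hx⟩⁆ ∈ (⊥ : Subgroup (↥Ca ⧸ pPrimeCore p ↥Ca)) := by
    rw [← hU]
    exact Subgroup.commutator_mem_commutator h1 h2
  have h4 : (⁅(⟨d, hdC⟩ : ↥Ca), ⟨x, hACa hx⟩⁆ : ↥Ca) ∈ pPrimeCore p ↥Ca := by
    rw [Subgroup.mem_bot, ← map_commutatorElement, hq, QuotientGroup.mk'_apply,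
      QuotientGroup.eq_one_iff] at h3
    exact h3
  refine ⟨⁅(⟨d, hdC⟩ : ↥Ca), ⟨x, hACa hx⟩⁆, h4, ?_⟩
  rw [map_commutatorElement]
  rfl

end Cfsg.Agent.Lib.Helper8.WkBal
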