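import Cfsg.Agent.Lib.Helper4.Hexacode

set_option autoImplicit false

/-! Monomial automorphisms of the hexacode: computations in the model of the field of order 4. -/

namespace Cfsg.Agent.Lib.Helper8.X6

open Cfsg.Agent.Lib.Helper4.Hexacode

/-- the model monomial map with inverse permutation `sinv` and multipliers `k`. -/
def act (sinv : Fin 6 → Fin 6) (k : Fin 6 → Fin 4) (x : Fin 6 → Fin 4) : Fin 6 → Fin 4 :=
  fun i => mulT (k i) (x (sinv i))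

def tG3 : Equiv.Perm (Fin 6) := ⟨![0, 1, 2, 4, 5, 3], ![0, 1, 2, 5, 3, 4], by decide, by decide⟩
def kG3 : Fin 6 → Fin 4 := ![1, 2, 3, 3, 3, 3]
def LG3 : Fin 4 × Fin 4 × Fin 4 → Fin 4 × Fin 4 × Fin 4 := fun t =>
  (addT (addT (mulT t.1 0) (mulT t.2.1 3)) (mulT t.2.2 3), addT (addT (mulT t.1 0) (mulT t.2.1 1)) (mulT t.2.2 2), addT (addT (mulT t.1 3) (mulT t.2.1 2)) (mulT t.2.2 1))
def tG2 : Equiv.Perm (Fin 6) := ⟨![0, 1, 3, 2, 5, 4], ![0, 1, 3, 2, 5, 4], by decide, by decide⟩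
def kG2 : Fin 6 → Fin 4 := ![1, 1, 1, 1, 1, 1]
def LG2 : Fin 4 × Fin 4 × Fin 4 → Fin 4 × Fin 4 × Fin 4 := fun t =>
  (addT (addT (mulT t.1 1) (mulT t.2.1 0)) (mulT t.2.2 0), addT (addT (mulT t.1 1) (mulT t.2.1 0)) (mulT t.2.2 1), addT (addT (mulT t.1 1) (mulT t.2.1 1)) (mulT t.2.2 0))
def tG1 : Equiv.Perm (Fin 6) := ⟨![0, 2, 3, 1, 4, 5], ![0, 3, 1, 2, 4, 5], by decide, by decide⟩
def kG1 : Fin 6 → Fin 4 := ![1, 1, 1, 1, 2, 3]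
def LG1 : Fin 4 × Fin 4 × Fin 4 → Fin 4 × Fin 4 × Fin 4 := fun t =>
  (addT (addT (mulT t.1 2) (mulT t.2.1 3)) (mulT t.2.2 0), addT (addT (mulT t.1 3) (mulT t.2.1 2)) (mulT t.2.2 1), addT (addT (mulT t.1 1) (mulT t.2.1 1)) (mulT t.2.2 0))
def tG0 : Equiv.Perm (Fin 6) := ⟨![1, 2, 0, 3, 4, 5], ![2, 0, 1, 3, 4, 5], by decide, by decide⟩
def kG0 : Fin 6 → Fin 4 := ![1, 1, 1, 1, 3, 2]
def LG0 : Fin 4 × Fin 4 × Fin 4 → Fin 4 × Fin 4 × Fin 4 := fun t =>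
  (addT (addT (mulT t.1 0) (mulT t.2.1 1)) (mulT t.2.2 3), addT (addT (mulT t.1 0) (mulT t.2.1 1)) (mulT t.2.2 2), addT (addT (mulT t.1 1) (mulT t.2.1 1)) (mulT t.2.2 1))

theorem act_G3 : ∀ t, act tG3.symm kG3 (mw t) = mw (LG3 t) := by decide +kernel
theorem kG3_ne : ∀ i, kG3 i ≠ 0 := by decide
theorem sign_G3 : Equiv.Perm.sign tG3 = 1 := by decide
theorem act_G2 : ∀ t, act tG2.symm kG2 (mw t) = mw (LG2 t) := by decide +kernel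
theorem kG2_ne : ∀ i, kG2 i ≠ 0 := by decide
theorem sign_G2 : Equiv.Perm.sign tG2 = 1 := by decide
theorem act_G1 : ∀ t, act tG1.symm kG1 (mw t) = mw (LG1 t) := by decide +kernel
theorem kG1_ne : ∀ i, kG1 i ≠ 0 := by decide
theorem sign_G1 : Equiv.Perm.sign tG1 = 1 := by decide
theorem act_G0 : ∀ t, act tG0.symm kG0 (mw t) = mw (LG0 t) := by decide +kernel
theorem kG0_ne : ∀ i, kG0 i ≠ 0 := by decide
theorem sign_G0 : Equiv.Perm.sign tG0 = 1 := by decide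

/-- parameters of a basis of the model code. -/
def basisT : List (Fin 4 × Fin 4 × Fin 4) := [(1, 0, 0), (0, 1, 0), (0, 0, 1)]

theorem no_swap : ∀ k0 : Fin 4, k0 ≠ 0 → ∀ k1 : Fin 4, k1 ≠ 0 → ∀ k2 : Fin 4, k2 ≠ 0 →
    ∀ k3 : Fin 4, k3 ≠ 0 → ∀ k4 : Fin 4, k4 ≠ 0 → ∀ k5 : Fin 4, k5 ≠ 0 →
    ¬ (∀ t ∈ basisT, ∃ t', act (Equiv.swap (0 : Fin 6) 1).symm ![k0, k1, k2, k3, k4, k5] (mw t)
      = mw t') := by decide +kernel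

set_option synthInstance.maxSize 2000 in
set_option synthInstance.maxHeartbeats 400000 in
theorem diag_const : ∀ k0 : Fin 4, k0 ≠ 0 → ∀ k1 : Fin 4, k1 ≠ 0 → ∀ k2 : Fin 4, k2 ≠ 0 →
    ∀ k3 : Fin 4, k3 ≠ 0 → ∀ k4 : Fin 4, k4 ≠ 0 → ∀ k5 : Fin 4, k5 ≠ 0 →
    (∀ t ∈ basisT, ∃ t', act (1 : Equiv.Perm (Fin 6)).symm ![k0, k1, k2, k3, k4, k5] (mw t)
      = mw t') → k0 = k1 ∧ k0 = k2 ∧ k0 = k3 ∧ k0 = k4 ∧ k0 = k5 := by decide +kernel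

end Cfsg.Agent.Lib.Helper8.X6
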