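import Cfsg.Agent.Lib.Helper8.X6a

set_option autoImplicit false
set_option linter.unusedSectionVars false
set_option linter.unusedVariables false

/-! Monomial automorphisms of the hexacode: general theory. -/

namespace Cfsg.Agent.Lib.Helper8.X6

open Cfsg Finset MulAction Cfsg.Agent.Lib.Helper4.Hexacode

/-! ### the alternating group from four generators -/

def K3 : Subgroup (Equiv.Perm (Fin 6)) := Subgroup.closure {tG3}
def K2 : Subgroup (Equiv.Perm (Fin 6)) := Subgroup.closure {tG3, tG2}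
def K1 : Subgroup (Equiv.Perm (Fin 6)) := Subgroup.closure {tG3, tG2, tG1}
def K0 : Subgroup (Equiv.Perm (Fin 6)) := Subgroup.closure {tG3, tG2, tG1, tG0}

theorem mem_K3_G3 : tG3 ∈ K3 := Subgroup.subset_closure (by simp)
theorem mem_K2_G3 : tG3 ∈ K2 := Subgroup.subset_closure (by simp)
theorem mem_K2_G2 : tG2 ∈ K2 := Subgroup.subset_closure (by simp)
theorem mem_K1_G3 : tG3 ∈ K1 := Subgroup.subset_closure (by simp)
theorem mem_K1_G2 : tG2 ∈ K1 := Subgroup.subset_closure (by simp)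
theorem mem_K1_G1 : tG1 ∈ K1 := Subgroup.subset_closure (by simp)
theorem mem_K0_G3 : tG3 ∈ K0 := Subgroup.subset_closure (by simp)
theorem mem_K0_G2 : tG2 ∈ K0 := Subgroup.subset_closure (by simp)
theorem mem_K0_G1 : tG1 ∈ K0 := Subgroup.subset_closure (by simp)
theorem mem_K0_G0 : tG0 ∈ K0 := Subgroup.subset_closure (by simp)

theorem K3_le_K2 : K3 ≤ K2 := (Subgroup.closure_le _).mpr (by
  intro x hx
  simp only [Set.mem_singleton_iff] at hx
  rcases hx with rfl
  exact mem_K2_G3)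

theorem K2_le_K1 : K2 ≤ K1 := (Subgroup.closure_le _).mpr (by
  intro x hx
  simp only [Set.mem_insert_iff, Set.mem_singleton_iff] at hx
  rcases hx with rfl | rfl
  exacts [mem_K1_G3, mem_K1_G2])

theorem K1_le_K0 : K1 ≤ K0 := (Subgroup.closure_le _).mpr (by
  intro x hx
  simp only [Set.mem_insert_iff, Set.mem_singleton_iff] at hx
  rcases hx with rfl | rfl | rfl
  exacts [mem_K0_G3, mem_K0_G2, mem_K0_G1])

theorem K3_fix : ∀ g ∈ K3, g (2 : Fin 6) = 2 := by
  have : K3 ≤ stabilizer (Equiv.Perm (Fin 6)) (2 : Fin 6) := by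
    apply (Subgroup.closure_le _).mpr
    intro x hx
    simp only [Set.mem_singleton_iff] at hx
    rcases hx with rfl
    show _ • (2 : Fin 6) = 2
    decide
  exact fun g hg => this hg

theorem K2_fix : ∀ g ∈ K2, g (1 : Fin 6) = 1 := by
  have : K2 ≤ stabilizer (Equiv.Perm (Fin 6)) (1 : Fin 6) := by
    apply (Subgroup.closure_le _).mpr
    intro x hx
    simp only [Set.mem_insert_iff, Set.mem_singleton_iff] at hx
    rcases hx with rfl | rfl <;>
    · show _ • (1 : Fin 6) = 1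
      decide
  exact fun g hg => this hg

theorem K1_fix : ∀ g ∈ K1, g (0 : Fin 6) = 0 := by
  have : K1 ≤ stabilizer (Equiv.Perm (Fin 6)) (0 : Fin 6) := by
    apply (Subgroup.closure_le _).mpr
    intro x hx
    simp only [Set.mem_insert_iff, Set.mem_singleton_iff] at hx
    rcases hx with rfl | rfl | rfl <;>
    · show _ • (0 : Fin 6) = 0
      decide
  exact fun g hg => this hg

/-- `q` is in the orbit of `p` under `K`. -/
def Reach (K : Subgroup (Equiv.Perm (Fin 6))) (p q : Fin 6) : Prop := ∃ g ∈ K, g p = q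

theorem Reach.refl (K : Subgroup (Equiv.Perm (Fin 6))) (p : Fin 6) : Reach K p p :=
  ⟨1, K.one_mem, rfl⟩

theorem Reach.step {K : Subgroup (Equiv.Perm (Fin 6))} {p q : Fin 6} (h : Reach K p q)
    {g : Equiv.Perm (Fin 6)} (hg : g ∈ K) {q' : Fin 6} (hq : g q = q') : Reach K p q' := by
  obtain ⟨g0, hg0, rfl⟩ := h
  exact ⟨g * g0, K.mul_mem hg hg0, by rw [Equiv.Perm.mul_apply, hq]⟩

theorem card_ge_of_fix6 {K K' : Subgroup (Equiv.Perm (Fin 6))}
    (hK : K' ≤ K) (p : Fin 6) (hfix : ∀ g ∈ K', g p = p) (T : Finset (Fin 6))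
    (hT : ∀ q ∈ T, Reach K p q) : T.card * Nat.card K' ≤ Nat.card K := by
  have h1 := index_stabilizer K p
  have h2 := (stabilizer K p).card_mul_index
  have h3 : T.card ≤ (orbit K p).ncard := by
    rw [← Set.ncard_coe_finset T]
    apply Set.ncard_le_ncard _ (Set.toFinite _)
    intro q hq
    obtain ⟨g, hg, hgq⟩ := hT q (Finset.mem_coe.mp hq)
    exact ⟨⟨g, hg⟩, hgq⟩
  have h4 : Nat.card K' ≤ Nat.card (stabilizer K p) := by
    apply Nat.card_le_card_of_injective
      (fun x : K' => (⟨⟨x.1, hK x.2⟩, hfix x.1 x.2⟩ : stabilizer K p))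
    intro x y hxy
    apply Subtype.ext
    exact congrArg (fun z : stabilizer K p => (z.1.1 : Equiv.Perm (Fin 6))) hxy
  rw [h1] at h2
  calc T.card * Nat.card K' ≤ (orbit K p).ncard * Nat.card (stabilizer K p) :=
        Nat.mul_le_mul h3 h4
    _ = Nat.card K := by rw [mul_comm]; exact h2

theorem reach3 : ∀ q : Fin 6, q ∈ ({3, 4, 5} : Finset (Fin 6)) → Reach K3 3 q := by
  have h3 : Reach K3 3 3 := Reach.refl _ _
  have h4 : Reach K3 3 4 := h3.step mem_K3_G3 (by decide)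
  have h5 : Reach K3 3 5 := h4.step mem_K3_G3 (by decide)
  intro q hq
  fin_cases q <;> first | assumption | (exact absurd hq (by decide))

theorem reach2 : ∀ q : Fin 6, q ∈ ({2, 3, 4, 5} : Finset (Fin 6)) → Reach K2 2 q := by
  have h2 : Reach K2 2 2 := Reach.refl _ _
  have h3 : Reach K2 2 3 := h2.step mem_K2_G2 (by decide)
  have h4 : Reach K2 2 4 := h3.step mem_K2_G3 (by decide)
  have h5 : Reach K2 2 5 := h4.step mem_K2_G3 (by decide)
  intro q hq
  fin_cases q <;> first | assumption | (exact absurd hq (by decide))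

theorem reach1 : ∀ q : Fin 6, q ∈ ({1, 2, 3, 4, 5} : Finset (Fin 6)) → Reach K1 1 q := by
  have h1 : Reach K1 1 1 := Reach.refl _ _
  have h2 : Reach K1 1 2 := h1.step mem_K1_G1 (by decide)
  have h3 : Reach K1 1 3 := h2.step mem_K1_G1 (by decide)
  have h4 : Reach K1 1 4 := h3.step mem_K1_G3 (by decide)
  have h5 : Reach K1 1 5 := h4.step mem_K1_G3 (by decide)
  intro q hq
  fin_cases q <;> first | assumption | (exact absurd hq (by decide))

theorem reach0 : ∀ q : Fin 6, q ∈ ({0, 1, 2, 3, 4, 5} : Finset (Fin 6)) → Reach K0 0 q := by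
  have h0 : Reach K0 0 0 := Reach.refl _ _
  have h1 : Reach K0 0 1 := h0.step mem_K0_G0 (by decide)
  have h2 : Reach K0 0 2 := h1.step mem_K0_G0 (by decide)
  have h3 : Reach K0 0 3 := h2.step mem_K0_G2 (by decide)
  have h4 : Reach K0 0 4 := h3.step mem_K0_G3 (by decide)
  have h5 : Reach K0 0 5 := h4.step mem_K0_G3 (by decide)
  intro q hq
  fin_cases q <;> assumption

theorem card_K3 : 3 ≤ Nat.card K3 := by
  have := card_ge_of_fix6 (K := K3) (K' := ⊥) bot_le 3
    (fun g hg => by rw [Subgroup.mem_bot.mp hg]; rfl) {3, 4, 5} reach3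
  rw [Subgroup.card_bot, mul_one] at this
  exact this

theorem card_K2 : 12 ≤ Nat.card K2 := by
  have := card_ge_of_fix6 K3_le_K2 2 K3_fix {2, 3, 4, 5} reach2
  have h3 := card_K3
  have h4 : ({2, 3, 4, 5} : Finset (Fin 6)).card = 4 := by decide
  rw [h4] at this
  omega

theorem card_K1 : 60 ≤ Nat.card K1 := by
  have := card_ge_of_fix6 K2_le_K1 1 K2_fix {1, 2, 3, 4, 5} reach1
  have h3 := card_K2
  have h4 : ({1, 2, 3, 4, 5} : Finset (Fin 6)).card = 5 := by decide
  rw [h4] at this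
  omega

theorem card_K0 : 360 ≤ Nat.card K0 := by
  have := card_ge_of_fix6 K1_le_K0 0 K1_fix {0, 1, 2, 3, 4, 5} reach0
  have h3 := card_K1
  have h4 : ({0, 1, 2, 3, 4, 5} : Finset (Fin 6)).card = 6 := by decide
  rw [h4] at this
  omega

theorem card_alt6 : Nat.card (alternatingGroup (Fin 6)) = 360 := by
  rw [nat_card_alternatingGroup, Nat.card_eq_fintype_card, Fintype.card_fin]
  decide

theorem K0_le_alt : K0 ≤ alternatingGroup (Fin 6) := (Subgroup.closure_le _).mpr (by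
  intro x hx
  simp only [Set.mem_insert_iff, Set.mem_singleton_iff] at hx
  rcases hx with rfl | rfl | rfl | rfl
  exacts [Equiv.Perm.mem_alternatingGroup.2 sign_G3, Equiv.Perm.mem_alternatingGroup.2 sign_G2,
    Equiv.Perm.mem_alternatingGroup.2 sign_G1, Equiv.Perm.mem_alternatingGroup.2 sign_G0])

theorem K0_eq : K0 = alternatingGroup (Fin 6) :=
  Subgroup.eq_of_le_of_card_ge K0_le_alt (by rw [card_alt6]; exact card_K0)

theorem vec6 (k : Fin 6 → Fin 4) : ![k 0, k 1, k 2, k 3, k 4, k 5] = k := by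
  funext i
  fin_cases i <;> rfl

/-! ### transfer to the field of order 4 -/

section Field

variable {F : Type*} [Field F] [Fintype F] [DecidableEq F] (hF : Fintype.card F = 4) (ω : F)
  (hω : ω ^ 2 + ω + 1 = 0)

/-- the pair `(σ, c)` preserves the hexacode. -/
def IsMon (ω : F) (σ : Equiv.Perm (Fin 6)) (c : Fin 6 → Fˣ) : Prop :=
  ∀ x ∈ hexacode F ω, monomialMap σ c x ∈ hexacode F ω

include hF hω in
theorem monomialMap_cw (σ : Equiv.Perm (Fin 6)) (c : Fin 6 → Fˣ) (k : Fin 6 → Fin 4)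
    (hk : ∀ i, (c i : F) = Φ ω (k i)) (t : Fin 4 × Fin 4 × Fin 4) :
    monomialMap σ c (cw ω t) = fun i => Φ ω (act σ.symm k (mw t) i) := by
  funext i
  show (c i : F) * Φ ω (mw t (σ.symm i)) = Φ ω (mulT (k i) (mw t (σ.symm i)))
  rw [Φ_mul hF ω hω, hk]

include hF hω in
theorem isMon_iff (σ : Equiv.Perm (Fin 6)) (c : Fin 6 → Fˣ) (k : Fin 6 → Fin 4)
    (hk : ∀ i, (c i : F) = Φ ω (k i)) :
    IsMon ω σ c ↔ ∀ t, ∃ t', act σ.symm k (mw t) = mw t' := by
  constructor
  · intro h t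
    have h1 := h (cw ω t) ((mem_iff hF ω hω _).2 ⟨t, rfl⟩)
    rw [monomialMap_cw hF ω hω σ c k hk, mem_iff hF ω hω] at h1
    obtain ⟨t', ht'⟩ := h1
    refine ⟨t', ?_⟩
    funext i
    exact Φ_injective hF ω hω (congrFun ht' i)
  · intro h x hx
    obtain ⟨t, rfl⟩ := (mem_iff hF ω hω x).1 hx
    obtain ⟨t', ht'⟩ := h t
    rw [monomialMap_cw hF ω hω σ c k hk, mem_iff hF ω hω]
    refine ⟨t', ?_⟩
    funext i
    show Φ ω (act σ.symm k (mw t) i) = Φ ω (mw t' i)
    rw [ht']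

include hF hω in
theorem exists_k (c : Fin 6 → Fˣ) :
    ∃ k : Fin 6 → Fin 4, (∀ i, (c i : F) = Φ ω (k i)) ∧ ∀ i, k i ≠ 0 := by
  choose k hk using fun i => Φ_surjective hF ω hω (c i : F)
  refine ⟨k, fun i => (hk i).symm, fun i h0 => ?_⟩
  have := hk i
  rw [h0] at this
  have h1 : Φ ω 0 = 0 := (Φ_eq_zero hF ω hω 0).2 rfl
  rw [h1] at this
  exact Units.ne_zero (c i) this.symm

/-- the multipliers in the field attached to model multipliers. -/
def cOf (hF : Fintype.card F = 4) (ω : F) (hω : ω ^ 2 + ω + 1 = 0) (k : Fin 6 → Fin 4)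
    (hk : ∀ i, k i ≠ 0) : Fin 6 → Fˣ :=
  fun i => Units.mk0 (Φ ω (k i)) (fun h => hk i ((Φ_eq_zero hF ω hω _).1 h))

include hF hω in
theorem not_isMon_swap (c : Fin 6 → Fˣ) : ¬ IsMon ω (Equiv.swap (0 : Fin 6) 1) c := by
  intro h
  obtain ⟨k, hk, hk0⟩ := exists_k hF ω hω c
  rw [isMon_iff hF ω hω _ c k hk] at h
  apply no_swap (k 0) (hk0 0) (k 1) (hk0 1) (k 2) (hk0 2) (k 3) (hk0 3) (k 4) (hk0 4) (k 5) (hk0 5)
  intro t _
  rw [vec6]
  exact h t

include hF hω in
theorem diag (c : Fin 6 → Fˣ) (h : IsMon ω 1 c) : ∀ i j, c i = c j := by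
  obtain ⟨k, hk, hk0⟩ := exists_k hF ω hω c
  rw [isMon_iff hF ω hω _ c k hk] at h
  have h1 := diag_const (k 0) (hk0 0) (k 1) (hk0 1) (k 2) (hk0 2) (k 3) (hk0 3) (k 4) (hk0 4)
    (k 5) (hk0 5) (by
      intro t _
      rw [vec6]
      exact h t)
  obtain ⟨e1, e2, e3, e4, e5⟩ := h1
  have hall : ∀ i, k i = k 0 := by
    intro i
    fin_cases i
    exacts [rfl, e1.symm, e2.symm, e3.symm, e4.symm, e5.symm]
  intro i j
  apply Units.ext
  rw [hk, hk, hall i, hall j]

/-! ### the group of permutation parts -/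

theorem monomialMap_mul (σ τ : Equiv.Perm (Fin 6)) (c d : Fin 6 → Fˣ) (x : Fin 6 → F) :
    monomialMap σ c (monomialMap τ d x) =
      monomialMap (σ * τ) (fun i => c i * d (σ.symm i)) x := by
  funext i
  simp only [monomialMap]
  rw [Units.val_mul, mul_assoc]
  rfl

theorem isMon_one : IsMon ω 1 (fun _ => 1) := by
  intro x hx
  have : monomialMap (1 : Equiv.Perm (Fin 6)) (fun _ => (1 : Fˣ)) x = x := by
    funext i
    show ((1 : Fˣ) : F) * x i = x i
    rw [Units.val_one, one_mul]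
  rw [this]
  exact hx

/-- the permutation parts of the monomial automorphisms, as a submonoid. -/
def monSub (ω : F) : Submonoid (Equiv.Perm (Fin 6)) where
  carrier := {σ | ∃ c, IsMon ω σ c}
  mul_mem' := by
    rintro σ τ ⟨c, hc⟩ ⟨d, hd⟩
    refine ⟨fun i => c i * d (σ.symm i), fun x hx => ?_⟩
    rw [← monomialMap_mul]
    exact hc _ (hd x hx)
  one_mem' := ⟨_, isMon_one ω⟩

/-- the permutation parts of the monomial automorphisms, as a subgroup. -/
def monPerm (ω : F) : Subgroup (Equiv.Perm (Fin 6)) where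
  toSubmonoid := monSub ω
  inv_mem' := by
    intro σ hσ
    have hpos : 0 < orderOf σ := orderOf_pos σ
    have h1 : σ ^ (orderOf σ - 1) * σ = 1 := by
      rw [← pow_succ, Nat.sub_add_cancel hpos, pow_orderOf_eq_one]
    have h2 : σ⁻¹ = σ ^ (orderOf σ - 1) := (eq_inv_of_mul_eq_one_left h1).symm
    rw [h2]
    exact (monSub ω).pow_mem hσ _

theorem mem_monPerm {σ : Equiv.Perm (Fin 6)} : σ ∈ monPerm ω ↔ ∃ c, IsMon ω σ c := Iff.rfl

include hF hω in
theorem K0_le_monPerm : K0 ≤ monPerm ω := (Subgroup.closure_le _).mpr (by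
  intro x hx
  simp only [Set.mem_insert_iff, Set.mem_singleton_iff] at hx
  rcases hx with rfl | rfl | rfl | rfl
  · exact ⟨cOf hF ω hω kG3 kG3_ne,
      (isMon_iff hF ω hω tG3 _ kG3 (fun i => rfl)).2 (fun t => ⟨LG3 t, act_G3 t⟩)⟩
  · exact ⟨cOf hF ω hω kG2 kG2_ne,
      (isMon_iff hF ω hω tG2 _ kG2 (fun i => rfl)).2 (fun t => ⟨LG2 t, act_G2 t⟩)⟩
  · exact ⟨cOf hF ω hω kG1 kG1_ne,
      (isMon_iff hF ω hω tG1 _ kG1 (fun i => rfl)).2 (fun t => ⟨LG1 t, act_G1 t⟩)⟩
  · exact ⟨cOf hF ω hω kG0 kG0_ne,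
      (isMon_iff hF ω hω tG0 _ kG0 (fun i => rfl)).2 (fun t => ⟨LG0 t, act_G0 t⟩)⟩)

include hF hω in
theorem monPerm_eq : monPerm ω = alternatingGroup (Fin 6) := by
  apply le_antisymm
  · intro σ hσ
    rw [Equiv.Perm.mem_alternatingGroup]
    by_contra hs
    have hs' : Equiv.Perm.sign σ = -1 := (Int.units_eq_one_or _).resolve_left hs
    have hτ : Equiv.Perm.sign (Equiv.swap (0 : Fin 6) 1) = -1 :=
      Equiv.Perm.sign_swap (by decide)
    have h1 : σ⁻¹ * Equiv.swap (0 : Fin 6) 1 ∈ monPerm ω := by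
      apply K0_le_monPerm hF ω hω
      rw [K0_eq, Equiv.Perm.mem_alternatingGroup, map_mul, map_inv, hs', hτ]
      decide
    have h2 : Equiv.swap (0 : Fin 6) 1 ∈ monPerm ω := by
      have := (monPerm ω).mul_mem hσ h1
      rwa [mul_inv_cancel_left] at this
    obtain ⟨c, hc⟩ := h2
    exact not_isMon_swap hF ω hω c hc
  · rw [← K0_eq]
    exact K0_le_monPerm hF ω hω

/-! ### counting -/

theorem isMon_smul {σ : Equiv.Perm (Fin 6)} {c : Fin 6 → Fˣ} (h : IsMon ω σ c) (u : Fˣ) :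
    IsMon ω σ (fun i => u * c i) := by
  intro x hx
  have : monomialMap σ (fun i => u * c i) x = (u : F) • monomialMap σ c x := by
    funext i
    simp only [monomialMap, Pi.smul_apply, smul_eq_mul, Units.val_mul, mul_assoc]
  rw [this]
  exact (hexacode F ω).smul_mem _ (h x hx)

theorem monomialMap_injective (σ : Equiv.Perm (Fin 6)) (c : Fin 6 → Fˣ) :
    Function.Injective (monomialMap σ c : (Fin 6 → F) → (Fin 6 → F)) := by
  intro x y hxy
  funext j
  have := congrFun hxy (σ j)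
  simp only [monomialMap, Equiv.symm_apply_apply] at this
  exact (Units.mul_right_inj (c (σ j))).mp this

theorem isMon_surj {σ : Equiv.Perm (Fin 6)} {c : Fin 6 → Fˣ} (h : IsMon ω σ c)
    (y : Fin 6 → F) (hy : y ∈ hexacode F ω) :
    ∃ x ∈ hexacode F ω, monomialMap σ c x = y := by
  let f : hexacode F ω → hexacode F ω := fun x => ⟨monomialMap σ c x.1, h x.1 x.2⟩
  have hinj : Function.Injective f := by
    intro x x' hxx
    apply Subtype.ext
    exact monomialMap_injective σ c (congrArg Subtype.val hxx)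
  obtain ⟨x, hx⟩ := Finite.surjective_of_injective hinj ⟨y, hy⟩
  exact ⟨x.1, x.2, congrArg Subtype.val hx⟩

include hF hω in
theorem fiber_eq {σ : Equiv.Perm (Fin 6)} {c0 : Fin 6 → Fˣ} (h0 : IsMon ω σ c0) :
    {c | IsMon ω σ c} = Set.range (fun (u : Fˣ) (i : Fin 6) => u * c0 i) := by
  ext c
  simp only [Set.mem_ofPred_eq, Set.mem_range]
  constructor
  · intro hc
    have hd : IsMon ω 1 (fun i => c i * (c0 i)⁻¹) := by
      intro y hy
      obtain ⟨x, hx, rfl⟩ := isMon_surj ω h0 y hy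
      have : monomialMap 1 (fun i => c i * (c0 i)⁻¹) (monomialMap σ c0 x) = monomialMap σ c x := by
        funext i
        simp only [monomialMap, Equiv.Perm.one_symm, Equiv.Perm.one_apply, Units.val_mul]
        rw [mul_assoc, ← mul_assoc (((c0 i)⁻¹ : Fˣ) : F), ← Units.val_mul,
          inv_mul_cancel, Units.val_one, one_mul]
      rw [this]
      exact hc x hx
    have h1 := diag hF ω hω _ hd
    refine ⟨c 0 * (c0 0)⁻¹, ?_⟩
    funext i
    have : c 0 * (c0 0)⁻¹ = c i * (c0 i)⁻¹ := h1 0 i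
    rw [this, inv_mul_cancel_right]
  · rintro ⟨u, rfl⟩
    exact isMon_smul ω h0 u

include hF hω in
theorem fiber_card (σ : monPerm ω) : Nat.card {c // IsMon ω σ.1 c} = 3 := by
  obtain ⟨c0, h0⟩ := σ.2
  have h1 := fiber_eq hF ω hω h0
  have hinj : Function.Injective (fun (u : Fˣ) (i : Fin 6) => u * c0 i) := by
    intro u v huv
    have := congrFun huv 0
    exact mul_right_cancel this
  rw [← Set.coe_ofPred, h1, Nat.card_range_of_injective hinj, Nat.card_eq_fintype_card,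
    Fintype.card_units, hF]

/-- the monomial automorphisms fibre over their permutation parts. -/
def monEquiv (ω : F) : {f : Equiv.Perm (Fin 6) × (Fin 6 → Fˣ) // IsMon ω f.1 f.2} ≃
    (Σ σ : monPerm ω, {c // IsMon ω σ.1 c}) where
  toFun f := ⟨⟨f.1.1, ⟨f.1.2, f.2⟩⟩, ⟨f.1.2, f.2⟩⟩
  invFun s := ⟨(s.1.1, s.2.1), s.2.2⟩
  left_inv f := rfl
  right_inv s := rfl

include hF hω in
theorem card_mon :
    Nat.card {f : Equiv.Perm (Fin 6) × (Fin 6 → Fˣ) // IsMon ω f.1 f.2} = 1080 := by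
  haveI : Fintype (monPerm ω) := Fintype.ofFinite _
  rw [Nat.card_congr (monEquiv ω), Nat.card_sigma]
  simp only [fiber_card hF ω hω]
  rw [Finset.sum_const, smul_eq_mul, Finset.card_univ, ← Nat.card_eq_fintype_card,
    monPerm_eq hF ω hω, card_alt6]

end Field

end Cfsg.Agent.Lib.Helper8.X6
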