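import Cfsg.Agent.Lib.Helper8.X72a

set_option autoImplicit false
set_option maxRecDepth 100000
set_option maxHeartbeats 0

/-! The group `2^6 : A_8` as a permutation group on 8 + 64 points: boolean certificates. -/

namespace Cfsg.Agent.Lib.Helper8.X72

open Cfsg.Agent.Lib.Helper8.SS Cfsg.Agent.Lib.Helper8.MatN Cfsg.Agent.Lib.Helper8.FastDec

theorem valid_all : ∀ i < 93, Valid 72 (xN i) (xM i) := valid_of_validAllB (by decide +kernel)

theorem id_tab : ∀ x < 72, get (xN 0) x = x := by decide +kernel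

theorem lv0 : LevelOK 72 xN 93 L0 L1.S (deepOf [L1, L2, L3, L4, L5, L6]) :=
  levelOK_of (by decide +kernel) (by decide +kernel) (by decide +kernel) (by decide +kernel)

theorem lv1 : LevelOK 72 xN 93 L1 L2.S (deepOf [L2, L3, L4, L5, L6]) :=
  levelOK_of (by decide +kernel) (by decide +kernel) (by decide +kernel) (by decide +kernel)

theorem lv2 : LevelOK 72 xN 93 L2 L3.S (deepOf [L3, L4, L5, L6]) :=
  levelOK_of (by decide +kernel) (by decide +kernel) (by decide +kernel) (by decide +kernel)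

theorem lv3 : LevelOK 72 xN 93 L3 L4.S (deepOf [L4, L5, L6]) :=
  levelOK_of (by decide +kernel) (by decide +kernel) (by decide +kernel) (by decide +kernel)

theorem lv4 : LevelOK 72 xN 93 L4 L5.S (deepOf [L5, L6]) :=
  levelOK_of (by decide +kernel) (by decide +kernel) (by decide +kernel) (by decide +kernel)

theorem lv5 : LevelOK 72 xN 93 L5 L6.S (deepOf [L6]) :=
  levelOK_of (by decide +kernel) (by decide +kernel) (by decide +kernel) (by decide +kernel)

theorem lv6 : LevelOK 72 xN 93 L6 [] (deepOf []) :=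
  levelOK_of (by decide +kernel) (by decide +kernel) (by decide +kernel) (by decide +kernel)

theorem chain : ChainOK 72 xN 93 [L0, L1, L2, L3, L4, L5, L6] :=
  ⟨lv0, lv1, lv2, lv3, lv4, lv5, lv6, trivial⟩

theorem bpts_lt : ∀ x ∈ bpts, x < 72 := by decide

theorem rep7_valid : ∀ j < repN7.length, Valid 72 (repN7.getD j 0) (repM7.getD j 0) := by
  decide +kernel

theorem rep5_valid : ∀ j < repN5.length, Valid 72 (repN5.getD j 0) (repM5.getD j 0) := by
  decide +kernel

theorem rep7_pow : ∀ j < repN7.length, ∀ x < 72, iterC [repN7.getD j 0] 7 x = x := by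
  decide +kernel

theorem rep5_pow : ∀ j < repN5.length, ∀ x < 72, iterC [repN5.getD j 0] 5 x = x := by
  decide +kernel

theorem rep_ba : get (repN7.getD 0 0) 0 = 0 ∧ get (repN5.getD 0 0) 0 = 0 := by decide +kernel

theorem G7_lt : WordsLt 93 G7 := by decide +kernel
theorem W7_lt : WordsLt 93 W7 := by decide +kernel
theorem G7_deep : ∀ w ∈ G7, ∀ i ∈ w, i ∈ deepOf [L0, L1, L2, L3, L4, L5, L6] := by
  decide +kernel
theorem tab7 : genTabB 72 xN G7 W7 T7 = true := by decide +kernel
theorem tree7_ok : genTreeB 72 xN G7 W7 tree7 = true := by decide +kernel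
theorem nil7 : [] ∈ W7 := by decide +kernel
theorem W7_zero : W7.getD 0 [] = [] := by decide +kernel
theorem fp7 : nodupB (W7.map (fpW xN bpts)) = true := by decide +kernel
theorem W7_len : W7.length = 7 := by decide +kernel

theorem G5_lt : WordsLt 93 G5 := by decide +kernel
theorem W5_lt : WordsLt 93 W5 := by decide +kernel
theorem G5_deep : ∀ w ∈ G5, ∀ i ∈ w, i ∈ deepOf [L0, L1, L2, L3, L4, L5, L6] := by
  decide +kernel
theorem tab5 : genTabB 72 xN G5 W5 T5 = true := by decide +kernel
theorem tree5_ok : genTreeB 72 xN G5 W5 tree5 = true := by decide +kernel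
theorem nil5 : [] ∈ W5 := by decide +kernel
theorem W5_zero : W5.getD 0 [] = [] := by decide +kernel
theorem fp5 : nodupB (W5.map (fpW xN bpts)) = true := by decide +kernel
theorem W5_len : W5.length = 5 := by decide +kernel

theorem cert7_deep : ∀ c ∈ cert7, ∀ i ∈ c.2.2.2, i ∈ deepOf [L0, L1, L2, L3, L4, L5, L6] := by
  decide +kernel
theorem cert5_deep : ∀ c ∈ cert5, ∀ i ∈ c.2.2.2, i ∈ deepOf [L0, L1, L2, L3, L4, L5, L6] := by
  decide +kernel

theorem class7 : classB 72 xN 7 W7 repN7 cert7 = true := by decide +kernel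
theorem class5 : classB 72 xN 5 W5 repN5 cert5 = true := by decide +kernel

/-- the deeper levels -/
def restU : List (List ℕ) := [L2.U, L3.U, L4.U, L5.U, L6.U]

theorem rest_lt : ∀ U ∈ restU, ∀ i ∈ U, i < 93 := by decide +kernel

theorem rest_fix : ∀ U ∈ restU, ∀ i ∈ U, get (xN i) 0 = 0 := by decide +kernel

theorem cent7 : centP xN L0.U L1.U restU [64, 65, 66, 67, 68, 69] (repN7.getD 0 0) 0 0
    (ordB [7] bpts) = true := by decide +kernel

theorem cent5 : centP xN L0.U L1.U restU [64, 65, 66, 67, 68, 69] (repN5.getD 0 0) 0 0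
    (ordB [10, 15] bpts) = true := by decide +kernel

/-- the translations fix the last 8 points and are involutions -/
theorem transl_ok : ∀ i ∈ L0.U, (∀ x < 8, get (xN i) (64 + x) = 64 + x) ∧
    ∀ x < 72, get (xN i) (get (xN i) x) = x := by decide +kernel

/-- the generators preserve the set of the last 8 points -/
theorem gens_pres : ∀ i ∈ L0.S, ∀ x < 72, (64 ≤ x ↔ 64 ≤ get (xN i) x) := by decide +kernel

/-- the generators have odd order on the last 8 points -/
theorem gens_odd : ∀ i ∈ L0.S, ∃ k ∈ [1, 3, 5, 7], ∀ x < 8, iterC [xN i] k (64 + x) = 64 + x := by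
  decide +kernel

theorem ordW_ok : ∀ t ∈ ordW, (∀ i ∈ t.2.1, i ∈ deepOf [L0, L1, L2, L3, L4, L5, L6]) ∧ 0 < t.1 ∧
    (∀ p ∈ bpts, iterC (t.2.1.map xN) t.1 p = p) ∧
    ∀ m < t.1, 0 < m → ∃ q ∈ t.2.2, q.1 = m ∧ q.2 < 72 ∧
      iterC (t.2.1.map xN) m q.2 ≠ q.2 := by decide +kernel

theorem ordW_fst : ordW.map (fun t => t.1) = [1, 2, 3, 4, 5, 6, 7, 8, 10, 12, 15] := by
  decide +kernel

end Cfsg.Agent.Lib.Helper8.X72
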