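import Cfsg.Agent.Lib.Helper8.X72b
import Cfsg.Agent.Lib.Helper8.EvenOrd

set_option autoImplicit false
set_option maxRecDepth 100000
set_option linter.unusedSectionVars false
set_option linter.unusedVariables false

/-! The group `2^6 : A_8` as a permutation group on 64 + 8 points: its element orders and its
normal subgroup of translations. -/

namespace Cfsg.Agent.Lib.Helper8.X72

open Cfsg.Agent.Lib.Helper8.SS Cfsg.Agent.Lib.Helper8.MatN Cfsg.Agent.Lib.Helper8.FastDec

/-- the group -/
noncomputable def X : Subgroup (Equiv.Perm (Fin 72)) := grp 72 xN xM L0.S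

/-- the complement, an alternating group of degree 8 -/
noncomputable def A : Subgroup (Equiv.Perm (Fin 72)) := grp 72 xN xM L1.S

theorem deepX : ∀ i ∈ deepOf [L0, L1, L2, L3, L4, L5, L6], i < 93 ∧ P 72 xN xM i ∈ X :=
  (chain_spec (pM := xM) valid_all id_tab [L0, L1, L2, L3, L4, L5, L6] chain).1

theorem card_X : Nat.card ↥X = 1290240 := by
  have := (chain_spec (pM := xM) valid_all id_tab [L0, L1, L2, L3, L4, L5, L6] chain).2
  unfold X
  rw [show headS [L0, L1, L2, L3, L4, L5, L6] = L0.S from rfl] at this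
  rw [this]
  decide +kernel

theorem U0_lt : ∀ i ∈ L0.U, i < 93 := lv0.2.2.1

theorem U1_lt : ∀ i ∈ L1.U, i < 93 := lv1.2.2.1

theorem X_dec (g : Equiv.Perm (Fin 72)) (hg : g ∈ X) :
    ∃ i0 ∈ L0.U, ∃ i1 ∈ L1.U, ∃ r : List ℕ,
      List.Forall₂ (fun i (U : List ℕ) => i ∈ U) r restU ∧
        g = prodW 72 xN xM (i0 :: i1 :: r) := by
  obtain ⟨r, hr, e⟩ := chain_decomp (pM := xM) valid_all id_tab _ chain g hg
  cases hr with
  | cons h0 hr =>
    cases hr with
    | cons h1 hr =>
      refine ⟨_, h0, _, h1, _, ?_, e⟩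
      have : restU = [L2, L3, L4, L5, L6].map (fun L => L.U) := rfl
      rw [this, List.forall₂_map_right_iff]
      exact hr

theorem X_base (g : Equiv.Perm (Fin 72)) (hg : g ∈ X)
    (h : ∀ p ∈ bpts, ∀ hp : p < 72, g ⟨p, hp⟩ = ⟨p, hp⟩) : g = 1 := by
  apply chain_base (pM := xM) valid_all id_tab _ chain g hg
  intro L hL hb
  simp only [List.mem_cons, List.mem_nil_iff, or_false] at hL
  rcases hL with rfl | rfl | rfl | rfl | rfl | rfl | rfl
  · exact h 0 (by decide) hb
  · exact h 64 (by decide) hb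
  · exact h 65 (by decide) hb
  · exact h 66 (by decide) hb
  · exact h 67 (by decide) hb
  · exact h 68 (by decide) hb
  · exact h 69 (by decide) hb

theorem A_base (g : Equiv.Perm (Fin 72)) (hg : g ∈ A)
    (h : ∀ p ∈ [64, 65, 66, 67, 68, 69], ∀ hp : p < 72, g ⟨p, hp⟩ = ⟨p, hp⟩) : g = 1 := by
  apply chain_base (pM := xM) valid_all id_tab [L1, L2, L3, L4, L5, L6] chain.2 g hg
  intro L hL hb
  simp only [List.mem_cons, List.mem_nil_iff, or_false] at hL
  rcases hL with rfl | rfl | rfl | rfl | rfl | rfl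
  · exact h 64 (by decide) hb
  · exact h 65 (by decide) hb
  · exact h 66 (by decide) hb
  · exact h 67 (by decide) hb
  · exact h 68 (by decide) hb
  · exact h 69 (by decide) hb

/-! ### the last 8 points -/

theorem iterC_single' (N k p : ℕ) : iterC [N] k p = evC (List.replicate k N) p := by
  induction k with
  | zero => rfl
  | succ k ih =>
    rw [iterC_succ, ih, List.replicate_succ, evC_cons]
    rfl

theorem app_inv {α : Type*} (f : Equiv.Perm α) (x : α) : f (f⁻¹ x) = x := by
  rw [← Equiv.Perm.mul_apply, mul_inv_cancel, Equiv.Perm.one_apply]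

/-- the elements preserve the set of the last 8 points -/
theorem pres (g : Equiv.Perm (Fin 72)) (hg : g ∈ X) : ∀ x : Fin 72, 64 ≤ (g x).1 ↔ 64 ≤ x.1 := by
  unfold X grp at hg
  induction hg using Subgroup.closure_induction with
  | mem g hg =>
    obtain ⟨i, hi, rfl⟩ := hg
    intro x
    rw [P_apply_val valid_all (lv0.2.1 i hi)]
    exact (gens_pres i hi x.1 x.2).symm
  | one => intro x; rfl
  | mul a b _ _ ha hb =>
    intro x
    rw [Equiv.Perm.mul_apply, ha, hb]
  | inv a _ ha =>
    intro x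
    have := ha (a⁻¹ x)
    rw [app_inv] at this
    exact this.symm

/-- the translations: the elements fixing the last 8 points -/
noncomputable def Nn : Subgroup ↥X where
  carrier := {h | ∀ x : Fin 72, 64 ≤ x.1 → h.1 x = x}
  one_mem' := fun x _ => rfl
  mul_mem' := by
    intro a b ha hb x hx
    show a.1 (b.1 x) = x
    rw [hb x hx, ha x hx]
  inv_mem' := by
    intro a ha x hx
    show a.1⁻¹ x = x
    rw [Equiv.Perm.inv_eq_iff_eq, ha x hx]

instance Nn_normal : Nn.Normal where
  conj_mem := by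
    intro n hn g x hx
    show g.1 (n.1 (g.1⁻¹ x)) = x
    have h1 : 64 ≤ (g.1⁻¹ x).1 := by
      have := pres g.1 g.2 (g.1⁻¹ x)
      rw [app_inv] at this
      exact this.mp hx
    rw [hn _ h1, app_inv]

theorem A_le_X : A ≤ X := (level_spec (pM := xM) valid_all id_tab L0 L1.S _ lv0
  (chain_spec (pM := xM) valid_all id_tab [L1, L2, L3, L4, L5, L6] chain.2).1).2.1

/-- the translations are the transversal elements of the first level -/
theorem Nn_eq (n : ↥X) (hn : n ∈ Nn) : ∃ i ∈ L0.U, n.1 = P 72 xN xM i := by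
  obtain ⟨i, hi, hmem⟩ := level_decomp (pM := xM) valid_all id_tab L0 L1.S _ lv0
    (chain_spec (pM := xM) valid_all id_tab [L1, L2, L3, L4, L5, L6] chain.2).1 n.1 n.2
  refine ⟨i, hi, ?_⟩
  have hfixP : ∀ x : Fin 72, 64 ≤ x.1 → (P 72 xN xM i) x = x := by
    intro x hx
    apply Fin.ext
    rw [P_apply_val valid_all (U0_lt i hi)]
    have := (transl_ok i hi).1 (x.1 - 64) (by omega)
    rw [show 64 + (x.1 - 64) = x.1 by omega] at this
    exact this
  have h1 : (P 72 xN xM i)⁻¹ * n.1 = 1 := by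
    apply A_base _ hmem
    intro p hp hp72
    have hp64 : 64 ≤ p := by
      simp only [List.mem_cons, List.mem_nil_iff, or_false] at hp
      omega
    rw [Equiv.Perm.mul_apply, hn ⟨p, hp72⟩ hp64, Equiv.Perm.inv_eq_iff_eq, hfixP ⟨p, hp72⟩ hp64]
  exact (inv_mul_eq_one.mp h1).symm

theorem Nn_sq (n : ↥X) (hn : n ∈ Nn) : n ^ 2 = 1 := by
  obtain ⟨i, hi, e⟩ := Nn_eq n hn
  apply Subtype.ext
  rw [Subgroup.coe_pow, e, Subgroup.coe_one]
  apply Equiv.ext
  intro x
  apply Fin.ext
  rw [pow_two, Equiv.Perm.mul_apply, P_apply_val valid_all (U0_lt i hi),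
    P_apply_val valid_all (U0_lt i hi)]
  exact (transl_ok i hi).2 x.1 x.2

theorem Nn_ne : ∃ v ∈ Nn, v ≠ 1 := by
  have h1U : 1 ∈ L0.U := by decide
  have h1X : P 72 xN xM 1 ∈ X := (deepX 1 (by decide)).2
  refine ⟨⟨P 72 xN xM 1, h1X⟩, ?_, ?_⟩
  · intro x hx
    apply Fin.ext
    show ((P 72 xN xM 1) x).1 = x.1
    rw [P_apply_val valid_all (U0_lt 1 h1U)]
    have := (transl_ok 1 h1U).1 (x.1 - 64) (by omega)
    rw [show 64 + (x.1 - 64) = x.1 by omega] at this
    exact this
  · intro h
    have := congrArg (fun g : ↥X => (g.1 ⟨0, by norm_num⟩).1) h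
    simp only [Subgroup.coe_one, Equiv.Perm.one_apply] at this
    rw [P_apply_val valid_all (U0_lt 1 h1U)] at this
    revert this
    decide +kernel

/-! ### the action on the last 8 points is even -/

/-- the last 8 points -/
abbrev Pt8 : Type := {x : Fin 72 // 64 ≤ x.1}

theorem card_Pt8 : Fintype.card Pt8 = 8 := by decide +kernel

theorem sign_res (g : Equiv.Perm (Fin 72)) (hg : g ∈ X) :
    ∃ hh : (∀ x : Fin 72, 64 ≤ (g x).1 ↔ 64 ≤ x.1),
      Equiv.Perm.sign (Equiv.Perm.subtypePerm (p := fun x : Fin 72 => 64 ≤ x.1) g hh) = 1 := by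
  unfold X grp at hg
  induction hg using Subgroup.closure_induction with
  | mem g hg =>
    obtain ⟨i, hi, rfl⟩ := hg
    have hiX : P 72 xN xM i ∈ X := by
      unfold X grp
      exact Subgroup.subset_closure ⟨i, hi, rfl⟩
    refine ⟨pres _ hiX, ?_⟩
    obtain ⟨k, hk, hfix⟩ := gens_odd i hi
    have hodd : Odd k := by
      simp only [List.mem_cons, List.mem_nil_iff, or_false] at hk
      rcases hk with rfl | rfl | rfl | rfl <;> decide
    have hpow : (Equiv.Perm.subtypePerm (p := fun x : Fin 72 => 64 ≤ x.1) (P 72 xN xM i) (pres _ hiX)) ^ k = 1 := by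
      rw [Equiv.Perm.subtypePerm_pow]
      apply Equiv.ext
      intro x
      apply Subtype.ext
      apply Fin.ext
      rw [Equiv.Perm.subtypePerm_apply, Equiv.Perm.one_apply]
      show (((P 72 xN xM i) ^ k) x.1).1 = x.1.1
      unfold P
      rw [perm_pow_apply (valid_all i (lv0.2.1 i hi))]
      have := hfix (x.1.1 - 64) (by have := x.1.2; have := x.2; omega)
      rw [show 64 + (x.1.1 - 64) = x.1.1 by have := x.2; omega, iterC_single'] at this
      exact this
    have hs := congrArg Equiv.Perm.sign hpow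
    rw [map_pow, map_one] at hs
    rcases Int.units_eq_one_or (Equiv.Perm.sign (Equiv.Perm.subtypePerm
      (p := fun x : Fin 72 => 64 ≤ x.1) (P 72 xN xM i) (pres _ hiX))) with h | h
    · exact h
    · rw [h, hodd.neg_one_pow] at hs
      exact absurd hs (by decide)
  | one => exact ⟨fun x => Iff.rfl, by rw [Equiv.Perm.subtypePerm_one]; exact map_one _⟩
  | mul a b _ _ ha hb =>
    obtain ⟨ha1, ha2⟩ := ha
    obtain ⟨hb1, hb2⟩ := hb
    refine ⟨fun x => by rw [Equiv.Perm.mul_apply, ha1, hb1], ?_⟩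
    have := Equiv.Perm.subtypePerm_mul (p := fun x : Fin 72 => 64 ≤ x.1) a b ha1 hb1
    rw [← this, map_mul, ha2, hb2, mul_one]
  | inv a _ ha =>
    obtain ⟨ha1, ha2⟩ := ha
    have hinv : ∀ x : Fin 72, 64 ≤ (a⁻¹ x).1 ↔ 64 ≤ x.1 := by
      intro x
      have := ha1 (a⁻¹ x)
      rw [app_inv] at this
      exact this.symm
    refine ⟨hinv, ?_⟩
    have e : Equiv.Perm.subtypePerm (p := fun x : Fin 72 => 64 ≤ x.1) a⁻¹ hinv =
        (Equiv.Perm.subtypePerm a ha1)⁻¹ := by
      apply Equiv.ext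
      intro x
      rw [Equiv.Perm.eq_inv_iff_eq]
      apply Subtype.ext
      rw [Equiv.Perm.subtypePerm_apply, Equiv.Perm.subtypePerm_apply]
      exact app_inv a x.1
    rw [e, map_inv, ha2, inv_one]

end Cfsg.Agent.Lib.Helper8.X72
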