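import Cfsg.Agent.Lib.Helper8.X72c

set_option autoImplicit false
set_option maxRecDepth 100000
set_option linter.unusedSectionVars false
set_option linter.unusedVariables false

/-! The element orders of the group `2^6 : A_8`. -/

namespace Cfsg.Agent.Lib.Helper8.X72

open Cfsg.Agent.Lib.Helper8.SS Cfsg.Agent.Lib.Helper8.MatN Cfsg.Agent.Lib.Helper8.FastDec

/-- the order of an element divides twice the order of an even permutation of 8 points -/
theorem pow_two_mul (g : Equiv.Perm (Fin 72)) (hg : g ∈ X) :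
    ∃ m ∈ ({1, 2, 3, 4, 5, 6, 7, 15} : Finset ℕ), g ^ (m * 2) = 1 := by
  obtain ⟨hh, hs⟩ := sign_res g hg
  set σ := Equiv.Perm.subtypePerm (p := fun x : Fin 72 => 64 ≤ x.1) g hh with hσ
  have hm := EvenOrd.orderOf_mem_of_sign (α := Pt8) card_Pt8.le σ hs
  refine ⟨orderOf σ, hm, ?_⟩
  have hpow : σ ^ orderOf σ = 1 := pow_orderOf_eq_one σ
  rw [hσ, Equiv.Perm.subtypePerm_pow] at hpow
  have hmem : (⟨g ^ orderOf σ, X.pow_mem hg _⟩ : ↥X) ∈ Nn := by
    intro x hx
    have := congrArg (fun τ : Equiv.Perm Pt8 => (τ ⟨x, hx⟩).1) hpow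
    simp only [Equiv.Perm.subtypePerm_apply, Equiv.Perm.one_apply] at this
    exact this
  have := congrArg Subtype.val (Nn_sq _ hmem)
  rw [Subgroup.coe_pow, Subgroup.coe_one] at this
  rw [pow_mul]
  exact this

/-! ### the elements of orders 5 and 7 -/

noncomputable def P7 : Subgroup (Equiv.Perm (Fin 72)) := wgrp 72 xN xM G7
noncomputable def P5 : Subgroup (Equiv.Perm (Fin 72)) := wgrp 72 xN xM G5

theorem card_P7 : Nat.card P7 = 7 ^ 1 := by
  have := card_gen (pM := xM) valid_all G7_lt W7_lt tab7 nil7 W7_zero tree7_ok bpts bpts_lt fp7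
  rw [W7_len] at this
  exact this

theorem card_P5 : Nat.card P5 = 5 ^ 1 := by
  have := card_gen (pM := xM) valid_all G5_lt W5_lt tab5 nil5 W5_zero tree5_ok bpts bpts_lt fp5
  rw [W5_len] at this
  exact this

theorem P7_le : P7 ≤ X := wgrp_le fun w hw i hi => (deepX i (G7_deep w hw i hi)).2
theorem P5_le : P5 ≤ X := wgrp_le fun w hw i hi => (deepX i (G5_deep w hw i hi)).2

/-- the representatives -/
def Yset (rN rM : List ℕ) : Set (Equiv.Perm (Fin 72)) :=
  {y | ∃ j < rN.length, y = perm 72 (rN.getD j 0) (rM.getD j 0)}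

theorem class_of {r : ℕ} {G W : List (List ℕ)} {T : List (List ℕ)} {rN rM : List ℕ}
    {cert : List (ℕ × ℕ × ℕ × List ℕ)}
    (hG : WordsLt 93 G) (hW : WordsLt 93 W) (htab : genTabB 72 xN G W T = true)
    (hnil : [] ∈ W)
    (hcd : ∀ c ∈ cert, ∀ i ∈ c.2.2.2, i ∈ deepOf [L0, L1, L2, L3, L4, L5, L6])
    (hval : ∀ j < rN.length, Valid 72 (rN.getD j 0) (rM.getD j 0))
    (h : classB 72 xN r W rN cert = true) :
    ∀ s ∈ wgrp 72 xN xM G, s ^ r = 1 → s ≠ 1 → ∃ c ∈ X, ∃ y ∈ Yset rN rM, ∃ e : ℕ,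
      e % r ≠ 0 ∧ c * s = y ^ e * c := by
  intro s hs hsr hs1
  obtain ⟨w, hw, rfl⟩ := mem_wset_of_gen (pM := xM) valid_all hG hW htab hnil s hs
  obtain ⟨c, hc, j, hj, e, he, hconj⟩ := class_spec (pM := xM) valid_all hW
    (fun c hc i hi => (deepX i (hcd c hc i hi)).1) hval h w hw hsr hs1
  refine ⟨prodW 72 xN xM c.2.2.2, prodW_mem fun i hi => (deepX i (hcd c hc i hi)).2,
    _, ⟨j, hj, rfl⟩, e, he, hconj⟩

theorem perm_pow_eq_one {N M r : ℕ} (hv : Valid 72 N M)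
    (h : ∀ x < 72, iterC [N] r x = x) : (perm 72 N M) ^ r = 1 := by
  apply Equiv.ext
  intro x
  apply Fin.ext
  rw [perm_pow_apply hv, ← iterC_single', h x.1 x.2]
  rfl

theorem Y_pow {r : ℕ} {rN rM : List ℕ}
    (hval : ∀ j < rN.length, Valid 72 (rN.getD j 0) (rM.getD j 0))
    (hpow : ∀ j < rN.length, ∀ x < 72, iterC [rN.getD j 0] r x = x) :
    ∀ y ∈ Yset rN rM, y ^ r = 1 := by
  rintro _ ⟨j, hj, rfl⟩
  exact perm_pow_eq_one (hval j hj) (hpow j hj)

/-- the property: some power with exponent in the list is trivial -/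
def Qe (E : List ℕ) (g : Equiv.Perm (Fin 72)) : Prop := ∃ e ∈ E, g ^ e = 1

theorem Qe_conj (E : List ℕ) (g c : Equiv.Perm (Fin 72)) (hc : c ∈ X)
    (h : Qe E (c * g * c⁻¹)) : Qe E g := by
  obtain ⟨e, he, h⟩ := h
  refine ⟨e, he, ?_⟩
  rw [conj_pow, conj_eq_one_iff] at h
  exact h

theorem Qe_of_cent {E : List ℕ} {Ny My : ℕ} (hvy : Valid 72 Ny My) (hyb : get Ny 0 = 0)
    (h : centP xN L0.U L1.U restU [64, 65, 66, 67, 68, 69] Ny 0 0 (ordB E bpts) = true) :
    ∀ g ∈ X, g * perm 72 Ny My = perm 72 Ny My * g → Qe E g := by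
  intro g hg hc
  obtain ⟨w, hw, rfl, hfin⟩ := centP_spec (pM := xM) valid_all X U0_lt U1_lt rest_lt X_dec hvy
    (by norm_num) (by norm_num) hyb rest_fix rest_fix (by decide) h g hg hc
  exact pow_eq_one_of_ordB valid_all X X_base hw hg hfin

theorem card_X7 : Nat.card ↥X = 7 ^ 1 * 184320 := by rw [card_X]; norm_num
theorem card_X5 : Nat.card ↥X = 5 ^ 1 * 258048 := by rw [card_X]; norm_num

theorem Q7 : ∀ g ∈ X, 7 ∣ orderOf g → Qe [7] g := by
  haveI : Fact (Nat.Prime 7) := ⟨by norm_num⟩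
  apply prop_of_prime_dvd X 7 1 184320 card_X7 (by norm_num) P7 P7_le card_P7 (Yset repN7 repM7)
    (class_of G7_lt W7_lt tab7 nil7 cert7_deep rep7_valid class7)
    (Y_pow rep7_valid rep7_pow) (Qe [7]) ?_ (Qe_conj [7])
  rintro _ ⟨j, hj, rfl⟩
  have hj2 : j < 1 := hj
  interval_cases j
  exact Qe_of_cent (rep7_valid 0 (by decide)) rep_ba.1 cent7

theorem Q5 : ∀ g ∈ X, 5 ∣ orderOf g → Qe [10, 15] g := by
  haveI : Fact (Nat.Prime 5) := ⟨by norm_num⟩
  apply prop_of_prime_dvd X 5 1 258048 card_X5 (by norm_num) P5 P5_le card_P5 (Yset repN5 repM5)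
    (class_of G5_lt W5_lt tab5 nil5 cert5_deep rep5_valid class5)
    (Y_pow rep5_valid rep5_pow) (Qe [10, 15]) ?_ (Qe_conj [10, 15])
  rintro _ ⟨j, hj, rfl⟩
  have hj2 : j < 1 := hj
  interval_cases j
  exact Qe_of_cent (rep5_valid 0 (by decide)) rep_ba.2 cent5

/-- the set of element orders -/
def spec : Finset ℕ := {1, 2, 3, 4, 5, 6, 7, 8, 10, 12, 15}

theorem orderOf_mem_spec (g : Equiv.Perm (Fin 72)) (hg : g ∈ X) : orderOf g ∈ spec := by
  have hpos : 0 < orderOf g := by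
    have : IsOfFinOrder g := isOfFinOrder_of_finite g
    exact this.orderOf_pos
  by_cases h7 : 7 ∣ orderOf g
  · obtain ⟨e, he, h⟩ := Q7 g hg h7
    have hd : orderOf g ∣ e := orderOf_dvd_of_pow_eq_one h
    have key : ∀ e ∈ [7], ∀ d ∈ Nat.divisors e, d ∈ spec := by decide
    exact key e he _ (Nat.mem_divisors.mpr ⟨hd, by rintro rfl; revert he; decide⟩)
  by_cases h5 : 5 ∣ orderOf g
  · obtain ⟨e, he, h⟩ := Q5 g hg h5
    have hd : orderOf g ∣ e := orderOf_dvd_of_pow_eq_one h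
    have key : ∀ e ∈ [10, 15], ∀ d ∈ Nat.divisors e, d ∈ spec := by decide
    exact key e he _ (Nat.mem_divisors.mpr ⟨hd, by rintro rfl; revert he; decide⟩)
  · obtain ⟨m, hm, h⟩ := pow_two_mul g hg
    have hd : orderOf g ∣ m * 2 := orderOf_dvd_of_pow_eq_one h
    have key : ∀ m ∈ ({1, 2, 3, 4, 5, 6, 7, 15} : Finset ℕ), ∀ d ∈ Nat.divisors (m * 2),
        ¬ 7 ∣ d → ¬ 5 ∣ d → d ∈ spec := by decide
    exact key m hm _ (Nat.mem_divisors.mpr ⟨hd, by
      intro h0
      revert hm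
      rw [show m = 0 by omega]
      decide⟩) h7 h5

theorem exists_orderOf (o : ℕ) (ho : o ∈ spec) : ∃ g ∈ X, orderOf g = o := by
  have hmem : o ∈ ordW.map (fun t => t.1) := by
    rw [ordW_fst]
    revert ho
    unfold spec
    simp
  obtain ⟨t, ht, rfl⟩ := List.mem_map.mp hmem
  obtain ⟨hdeep, hpos, hfix, hne⟩ := ordW_ok t ht
  have hwlt : ∀ i ∈ t.2.1, i < 93 := fun i hi => (deepX i (hdeep i hi)).1
  have hK : prodW 72 xN xM t.2.1 ∈ X := prodW_mem fun i hi => (deepX i (hdeep i hi)).2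
  refine ⟨_, hK, ?_⟩
  rw [orderOf_eq_iff hpos]
  constructor
  · apply X_base _ (X.pow_mem hK _)
    intro p hp hpn
    apply Fin.ext
    rw [← prodW_replicate, prodW_apply 72 xN xM
      (fun i hi => valid_all i (hwlt i (mem_replicate_flatten hi))), ← iterC_eq]
    exact hfix p hp
  · intro m hm hm0 h1
    obtain ⟨q, hq, rfl, hq72, hmv⟩ := hne m hm hm0
    apply hmv
    have := congrArg (fun σ : Equiv.Perm (Fin 72) => (σ ⟨q.2, hq72⟩).1) h1
    simp only [Equiv.Perm.one_apply] at this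
    rw [← prodW_replicate, prodW_apply 72 xN xM
      (fun i hi => valid_all i (hwlt i (mem_replicate_flatten hi))), ← iterC_eq] at this
    exact this

/-- the set of element orders of the group -/
theorem range_orderOf : Set.range (orderOf : ↥X → ℕ) = (spec : Set ℕ) := by
  ext o
  constructor
  · rintro ⟨g, rfl⟩
    rw [← Subgroup.orderOf_coe]
    exact orderOf_mem_spec g.1 g.2
  · intro ho
    obtain ⟨g, hg, rfl⟩ := exists_orderOf o ho
    exact ⟨⟨g, hg⟩, Subgroup.orderOf_mk g hg⟩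

end Cfsg.Agent.Lib.Helper8.X72
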