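import Mathlib
import Cfsg.Agent.Lib.Helper5.MobNum

set_option autoImplicit false

/-! Tame (order prime to `p`) groups with a Möbius-like action: points fixed by elements of
large order. -/

namespace Cfsg.Agent.Lib.Helper8.XSP

open Cfsg.Agent.Lib.Helper5.Mob

variable {G X A : Type*} [Group G] [MulAction G X] [CommGroup A] {p : ℕ} (M : IsMob G X A p)

include M in
theorem tame_chi_inj [Finite G] (hcop : (Nat.card G).Coprime p) (x : X)
    (g : MulAction.stabilizer G x) (h : M.chi x g = 1) : g = 1 := by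
  have h1 := M.pow_eq_one_of_chi x g h
  have h2 : orderOf g ∣ p := orderOf_dvd_of_pow_eq_one h1
  have h3 : orderOf g ∣ Nat.card G := by
    have h : orderOf (g : G) ∣ Nat.card G := orderOf_dvd_natCard _
    rwa [Subgroup.orderOf_coe] at h
  have h4 : orderOf g ∣ Nat.gcd (Nat.card G) p := Nat.dvd_gcd h3 h2
  rw [hcop.gcd_eq_one] at h4
  exact orderOf_eq_one_iff.mp (Nat.dvd_one.mp h4)

include M in
theorem tame_no_onlyFix [Finite G] (hcop : (Nat.card G).Coprime p) (g : G) (x : X) :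
    ¬ OnlyFix g x := by
  intro h
  have hne := M.ne_one_of_onlyFix h
  have h1 : M.chi x ⟨g, h.1⟩ = 1 := (M.chi_eq_one_iff x _).mpr (Or.inr h)
  have h2 := tame_chi_inj M hcop x _ h1
  exact hne (congrArg Subtype.val h2)

include M in
theorem tame_qq [Finite G] (hcop : (Nat.card G).Coprime p) (x : X) : M.qq x = 1 := by
  have h : M.Q x = ⊥ := by
    rw [eq_bot_iff]
    intro g hg
    rw [M.mem_Q] at hg
    rcases hg with h | h
    · exact Subgroup.mem_bot.mpr h
    · exact absurd h (tame_no_onlyFix M hcop g x)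
  show Nat.card (M.Q x) = 1
  rw [h]
  exact Subgroup.card_bot

omit [CommGroup A] in
theorem ne_one_of_dvd_orderOf [Finite G] {m : ℕ} (hm : 4 ≤ m) {w : G} (hw : m ∣ orderOf w) :
    w ≠ 1 := by
  rintro rfl
  rw [orderOf_one] at hw
  have := Nat.le_of_dvd one_pos hw
  omega

omit [CommGroup A] in
theorem dvd_ee_of_fix [Finite G] {m : ℕ} {w : G} (hw : m ∣ orderOf w) {x : X} (hx : w • x = x) :
    m ∣ ee G x := by
  have h1 : orderOf (⟨w, hx⟩ : MulAction.stabilizer G x) ∣ Nat.card (MulAction.stabilizer G x) :=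
    orderOf_dvd_natCard _
  rw [← Subgroup.orderOf_coe] at h1
  exact hw.trans h1

/-- the common form of the conclusion -/
def Core (m : ℕ) (L : Set X) : Prop :=
  ∃ S : Set X, S.Finite ∧ L ⊆ S ∧ (S.ncard ≤ 2 ∨ (m = 4 ∧ S.ncard ≤ 6) ∨ m = 5)

include M in
theorem core_fixed [Finite G] (hcop : (Nat.card G).Coprime p) (m : ℕ) (hm : 4 ≤ m) (L : Set X)
    (hL : ∀ x ∈ L, ∃ w : G, w • x = x ∧ m ∣ orderOf w) (x0 : X) (hx0 : ∀ g : G, g • x0 = x0) :
    Core m L := by
  -- everything commutes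
  have hcomm : ∀ g w : G, g * w = w * g := by
    intro g w
    let sg : MulAction.stabilizer G x0 := ⟨g, hx0 g⟩
    let sw : MulAction.stabilizer G x0 := ⟨w, hx0 w⟩
    have h1 : M.chi x0 (sg * sw * sg⁻¹ * sw⁻¹) = 1 := by
      simp only [map_mul, map_inv]
      rw [mul_comm (M.chi x0 sg) (M.chi x0 sw), mul_inv_cancel_right, mul_inv_cancel]
    have h2 := tame_chi_inj M hcop x0 _ h1
    have h3 : g * w * g⁻¹ * w⁻¹ = 1 := congrArg Subtype.val h2
    calc g * w = (g * w * g⁻¹ * w⁻¹) * (w * g) := by group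
      _ = w * g := by rw [h3, one_mul]
  -- a point of L other than x0 is fixed by everything
  have hfix : ∀ x ∈ L, x ≠ x0 → ∀ g : G, g • x = x := by
    intro x hx hne g
    obtain ⟨w, hwx, hwm⟩ := hL x hx
    have hw1 := ne_one_of_dvd_orderOf hm hwm
    have h1 : w • (g • x) = g • x := by
      rw [← mul_smul, ← hcomm g w, mul_smul, hwx]
    rcases M.fix_mem_pair hw1 (Ne.symm hne) (hx0 w) hwx h1 with h | h
    · exfalso
      apply hne
      have : g • x = g • x0 := by rw [h, hx0 g]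
      exact MulAction.injective g this
    · exact h
  by_cases hex : ∃ x1 ∈ L, x1 ≠ x0
  · obtain ⟨x1, hx1, hne1⟩ := hex
    refine ⟨{x0, x1}, Set.toFinite _, ?_, Or.inl (Set.ncard_pair (Ne.symm hne1)).le⟩
    intro x hx
    by_contra hcon
    simp only [Set.mem_insert_iff, Set.mem_singleton_iff, not_or] at hcon
    obtain ⟨w, hwx, hwm⟩ := hL x hx
    have hw1 := ne_one_of_dvd_orderOf hm hwm
    exact hw1 (M.sharp w x0 x1 x (Ne.symm hne1) (Ne.symm hcon.1) (Ne.symm hcon.2) (hx0 w)
      (hfix x1 hx1 hne1 w) hwx)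
  · refine ⟨{x0}, Set.toFinite _, ?_, Or.inl (by rw [Set.ncard_singleton]; omega)⟩
    intro x hx
    by_contra hcon
    exact hex ⟨x, hx, hcon⟩

include M in
theorem core_pair [Finite G] (m : ℕ) (hm : 4 ≤ m) (L : Set X)
    (hL : ∀ x ∈ L, ∃ w : G, w • x = x ∧ m ∣ orderOf w) (x1 : X) (hx1 : nn G x1 = 2) :
    Core m L := by
  have hfin : (MulAction.orbit G x1).Finite := Set.finite_range _
  have hnc : (MulAction.orbit G x1).ncard = 2 := by
    rw [← _root_.Nat.card_coe_set_eq]; exact hx1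
  refine ⟨MulAction.orbit G x1, hfin, ?_, Or.inl hnc.le⟩
  intro x hx
  by_contra hcon
  obtain ⟨w, hwx, hwm⟩ := hL x hx
  obtain ⟨a, b, hab, hS⟩ := Set.ncard_eq_two.mp hnc
  have : Finite (MulAction.orbit G x1) := hfin
  -- `w ^ 2` fixes every point of the orbit
  have hsq : ∀ y ∈ MulAction.orbit G x1, (w ^ 2) • y = y := by
    intro y hy
    let σ : Equiv.Perm (MulAction.orbit G x1) := MulAction.toPermHom G (MulAction.orbit G x1) w
    have h1 : orderOf σ ∣ Nat.card (Equiv.Perm (MulAction.orbit G x1)) := orderOf_dvd_natCard _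
    have hx1' : Nat.card (MulAction.orbit G x1) = 2 := hx1
    rw [Nat.card_perm, hx1'] at h1
    have h2 : σ ^ 2 = 1 := orderOf_dvd_iff_pow_eq_one.mp h1
    have h3 : (MulAction.toPermHom G (MulAction.orbit G x1) (w ^ 2)) ⟨y, hy⟩ = ⟨y, hy⟩ := by
      rw [map_pow]
      show (σ ^ 2) ⟨y, hy⟩ = ⟨y, hy⟩
      rw [h2]; rfl
    exact congrArg Subtype.val h3
  have ha : a ∈ MulAction.orbit G x1 := by rw [hS]; simp
  have hb : b ∈ MulAction.orbit G x1 := by rw [hS]; simp
  have hxa : x ≠ a := fun h => hcon (h ▸ ha)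
  have hxb : x ≠ b := fun h => hcon (h ▸ hb)
  have h1 : w ^ 2 = 1 := M.sharp (w ^ 2) a b x hab (Ne.symm hxa) (Ne.symm hxb) (hsq a ha) (hsq b hb)
    (by rw [pow_two, mul_smul, hwx, hwx])
  have h2 : orderOf w ∣ 2 := orderOf_dvd_of_pow_eq_one h1
  have h3 := Nat.le_of_dvd (by norm_num) (hwm.trans h2)
  omega

include M in
theorem core_tame3 [Finite G] (m : ℕ) (hm : 4 ≤ m) (L : Set X)
    (hL : ∀ x ∈ L, ∃ w : G, w • x = x ∧ m ∣ orderOf w) (k g : ℕ) (h3 : M.Tame3 k g)
    (hk : k = 3 ∨ (k = 4 ∧ g = 24) ∨ k = 5) : Core m L := by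
  obtain ⟨a, b, c, hcard, hea, heb, hec, -, -, -, hcov, -⟩ := h3
  -- each point of `L` lies in the orbit of `c` and `m ∣ k`
  have key : ∀ x ∈ L, x ∈ MulAction.orbit G c ∧ m ∣ k := by
    intro x hx
    obtain ⟨w, hwx, hwm⟩ := hL x hx
    have hw1 := ne_one_of_dvd_orderOf hm hwm
    have hdvd := dvd_ee_of_fix hwm hwx
    have hsing : x ∈ sing G X := ⟨w, hw1, hwx⟩
    rcases hcov x hsing with h | h | h
    · obtain ⟨γ, rfl⟩ := h
      exfalso
      have h2 : ee G (γ • a) = 2 := by
        show Nat.card (MulAction.stabilizer G (γ • a)) = 2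
        rw [card_stabilizer_smul]; exact hea
      rw [h2] at hdvd
      have := Nat.le_of_dvd (by norm_num) hdvd
      omega
    · obtain ⟨γ, rfl⟩ := h
      exfalso
      have h2 : ee G (γ • b) = 3 := by
        show Nat.card (MulAction.stabilizer G (γ • b)) = 3
        rw [card_stabilizer_smul]; exact heb
      rw [h2] at hdvd
      have := Nat.le_of_dvd (by norm_num) hdvd
      omega
    · refine ⟨h, ?_⟩
      obtain ⟨γ, rfl⟩ := h
      have h2 : ee G (γ • c) = k := by
        show Nat.card (MulAction.stabilizer G (γ • c)) = k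
        rw [card_stabilizer_smul]; exact hec
      rw [h2] at hdvd
      exact hdvd
  have hfin : (MulAction.orbit G c).Finite := Set.finite_range _
  rcases Set.eq_empty_or_nonempty L with hL0 | ⟨x, hx⟩
  · exact ⟨∅, Set.finite_empty, by rw [hL0], Or.inl (by simp)⟩
  have hmk := (key x hx).2
  refine ⟨MulAction.orbit G c, hfin, fun x hx => (key x hx).1, ?_⟩
  rcases hk with rfl | ⟨rfl, rfl⟩ | rfl
  · exfalso
    have := Nat.le_of_dvd (by norm_num) hmk
    omega
  · right; left
    have h4 : m = 4 := by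
      have := Nat.le_of_dvd (by norm_num) hmk
      omega
    refine ⟨h4, ?_⟩
    have h5 := card_orbit_mul_card_stabilizer (G := G) c
    rw [hcard] at h5
    have h6 : Nat.card (MulAction.stabilizer G c) = 4 := hec
    rw [h6] at h5
    rw [← _root_.Nat.card_coe_set_eq]
    omega
  · right; right
    have := Nat.le_of_dvd (by norm_num) hmk
    rcases this.lt_or_eq with h | h
    · exfalso
      have h4 : m = 4 := by omega
      rw [h4] at hmk
      omega
    · exact h

include M in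
/-- the tame bound: points fixed by elements whose order is divisible by `m` -/
theorem tame_bound [Finite G] (hcop : (Nat.card G).Coprime p) (m : ℕ) (L : Set X)
    (hL : ∀ x ∈ L, ∃ w : G, w • x = x ∧ m ∣ orderOf w) :
    (6 ≤ m → L.ncard ≤ 2) ∧ (m = 4 → L.ncard ≤ 6) := by
  have hcore : 4 ≤ m → Core m L := by
    intro hm
    rcases Set.eq_empty_or_nonempty L with hL0 | ⟨x, hx⟩
    · exact ⟨∅, Set.finite_empty, by rw [hL0], Or.inl (by simp)⟩
    obtain ⟨w, hwx, hwm⟩ := hL x hx
    have hw1 := ne_one_of_dvd_orderOf hm hwm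
    have hG : 2 ≤ Nat.card G := by
      have : Nontrivial G := ⟨⟨w, 1, hw1⟩⟩
      exact Finite.one_lt_card
    rcases M.cases hG with ⟨x0, hx0⟩ | ⟨x1, hx1, -⟩ | h | h | h | h | h
    · exact core_fixed M hcop m hm L hL x0 hx0
    · exact core_pair M m hm L hL x1 hx1
    · exact core_tame3 M m hm L hL 3 12 h (Or.inl rfl)
    · exact core_tame3 M m hm L hL 4 24 h (Or.inr (Or.inl ⟨rfl, rfl⟩))
    · exact core_tame3 M m hm L hL 5 60 h (Or.inr (Or.inr rfl))
    · exfalso
      obtain ⟨x0, x1, h3, -⟩ := h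
      rw [tame_qq M hcop x0] at h3
      omega
    · exfalso
      obtain ⟨x0, x1, -, h3, -⟩ := h
      rw [tame_qq M hcop x0] at h3
      omega
  constructor
  · intro hm
    obtain ⟨S, hSf, hLS, h⟩ := hcore (by omega)
    have h1 := Set.ncard_le_ncard hLS hSf
    rcases h with h | ⟨h, -⟩ | h <;> omega
  · intro hm
    obtain ⟨S, hSf, hLS, h⟩ := hcore (by omega)
    have h1 := Set.ncard_le_ncard hLS hSf
    rcases h with h | ⟨-, h⟩ | h <;> omega

end Cfsg.Agent.Lib.Helper8.XSP
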