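import Mathlib
import Cfsg.Agent.Lib.Helper5.MobPGL
import Cfsg.Agent.Lib.Helper5.MobRat
import Cfsg.Agent.Lib.Helper8.XSPa

set_option autoImplicit false

/-! The tame bound for subgroups of `PGL₂(𝔽_p)` acting on the projective line over `𝔽_p`. -/

namespace Cfsg.Agent.Lib.Helper8.XSP

open Matrix Cfsg.Agent.Lib.Helper5.Mob Cfsg.Agent.Lib.Helper5.MobPGL Cfsg.Agent.Lib.Helper5.MobRat
open scoped LinearAlgebra.Projectivization MatrixGroups

theorem pgl_map_injective {K L : Type*} [Field K] [Field L] (σ : K →+* L) :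
    Function.Injective (Matrix.ProjGenLinGroup.map (n := Fin 2) σ) := by
  rw [injective_iff_map_eq_one]
  intro g hg
  induction g using Matrix.ProjGenLinGroup.induction_on with | mk A =>
  rw [Matrix.ProjGenLinGroup.map_mk, Matrix.ProjGenLinGroup.mk_eq_one,
    Matrix.GeneralLinearGroup.mem_center_iff_val_mem_range_scalar] at hg
  obtain ⟨c, hc⟩ := hg
  rw [Matrix.ProjGenLinGroup.mk_eq_one,
    Matrix.GeneralLinearGroup.mem_center_iff_val_mem_range_scalar]
  refine ⟨A.val 0 0, ?_⟩
  have h00 := congrFun (congrFun hc 0) 0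
  have h01 := congrFun (congrFun hc 0) 1
  have h10 := congrFun (congrFun hc 1) 0
  have h11 := congrFun (congrFun hc 1) 1
  simp only [Matrix.scalar_apply, Matrix.diagonal_apply, Matrix.GeneralLinearGroup.map_apply,
    if_true, Fin.isValue, zero_ne_one, one_ne_zero, if_false] at h00 h01 h10 h11
  ext i k
  fin_cases i <;> fin_cases k
  · simp
  · simp only [Matrix.scalar_apply, Fin.zero_eta, Fin.isValue, Fin.mk_one, ne_eq, zero_ne_one,
      not_false_eq_true, Matrix.diagonal_apply_ne]
    apply σ.injective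
    rw [map_zero]
    exact h01
  · simp only [Matrix.scalar_apply, Fin.zero_eta, Fin.isValue, Fin.mk_one, ne_eq, one_ne_zero,
      not_false_eq_true, Matrix.diagonal_apply_ne]
    apply σ.injective
    rw [map_zero]
    exact h10
  · simp only [Matrix.scalar_apply, Fin.isValue, Fin.mk_one, Matrix.diagonal_apply_eq]
    apply σ.injective
    rw [← h00, ← h11]

theorem finite_pgl (p : ℕ) [Fact p.Prime] : Finite PGL(Fin 2, ZMod p) :=
  Finite.of_surjective _ (Matrix.ProjGenLinGroup.mk_surjective (n := Fin 2) (R := ZMod p))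

/-- the tame bound over the prime field -/
theorem pgl_bound (p : ℕ) [Fact p.Prime] (W : Subgroup PGL(Fin 2, ZMod p))
    (hcop : (Nat.card W).Coprime p) (m : ℕ) (L : Set (ℙ (ZMod p) (Fin 2 → ZMod p)))
    (hL : ∀ x ∈ L, ∃ w ∈ W, w • x = x ∧ m ∣ orderOf w) :
    (6 ≤ m → L.ncard ≤ 2) ∧ (m = 4 → L.ncard ≤ 6) := by
  have hfin : Finite PGL(Fin 2, ZMod p) := finite_pgl p
  let E := AlgebraicClosure (ZMod p)
  let j : ZMod p →+* E := algebraMap (ZMod p) E
  have hf : Function.Injective (Matrix.ProjGenLinGroup.map (n := Fin 2) j) := pgl_map_injective j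
  let W' : Subgroup PGL(Fin 2, E) := W.map (Matrix.ProjGenLinGroup.map (n := Fin 2) j)
  have M := (isMob (E := E) p).subgroup W'
  have hcard : Nat.card W' = Nat.card W := Subgroup.card_map_of_injective hf
  have hfinW : Finite W' := Nat.finite_of_card_ne_zero (by
    rw [hcard]; exact Nat.card_pos.ne')
  have hL' : ∀ x ∈ ptMap j '' L, ∃ w : W', w • x = x ∧ m ∣ orderOf w := by
    rintro _ ⟨x, hx, rfl⟩
    obtain ⟨w, hwW, hwx, hwm⟩ := hL x hx
    refine ⟨⟨Matrix.ProjGenLinGroup.map (n := Fin 2) j w, Subgroup.mem_map_of_mem _ hwW⟩, ?_, ?_⟩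
    · show Matrix.ProjGenLinGroup.map (n := Fin 2) j w • ptMap j x = ptMap j x
      rw [← ptMap_smul, hwx]
    · rw [← Subgroup.orderOf_coe]
      show m ∣ orderOf (Matrix.ProjGenLinGroup.map (n := Fin 2) j w)
      rw [orderOf_injective _ hf w]
      exact hwm
  have h := tame_bound M (by rw [hcard]; exact hcop) m (ptMap j '' L) hL'
  rwa [Set.ncard_image_of_injective _ (ptMap_injective j)] at h

end Cfsg.Agent.Lib.Helper8.XSP
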