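import Mathlib
import Cfsg.Agent.Lib.Helper8.XSPb

set_option autoImplicit false

/-! The tame bound for a finite group acting linearly on a two-dimensional space over `𝔽_p`. -/

namespace Cfsg.Agent.Lib.Helper8.XSP

open Matrix
open scoped LinearAlgebra.Projectivization MatrixGroups

section powers

variable {F V : Type*} [Field F] [AddCommGroup V] [Module F V]

theorem pow_apply_eigen (T : Module.End F V) (v : V) (b : F) (h : T v = b • v) (k : ℕ) :
    (T ^ k) v = b ^ k • v := by
  induction k with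
  | zero => simp
  | succ k ih =>
    rw [pow_succ, Module.End.mul_apply, h, map_smul, ih, smul_smul, pow_succ, mul_comm]

theorem pow_apply_tri (T : Module.End F V) (u v : V) (b ν β : F) (hv : T v = b • v)
    (hu : T u = ν • u + β • v) (k : ℕ) : ∃ γ : F, (T ^ k) u = ν ^ k • u + γ • v := by
  induction k with
  | zero => exact ⟨0, by simp⟩
  | succ k ih =>
    obtain ⟨γ, hγ⟩ := ih
    refine ⟨ν ^ k * β + γ * b, ?_⟩
    rw [pow_succ', Module.End.mul_apply, hγ, map_add, map_smul, map_smul, hu, hv, pow_succ]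
    module

end powers

/-- the tame bound, coordinate free -/
theorem lines_bound (p : ℕ) [Fact p.Prime] {V : Type*} [AddCommGroup V] [Module (ZMod p) V]
    (hV : Module.finrank (ZMod p) V = 2) {N : Type*} [Group N] [Finite N]
    (ρ : N →* Module.End (ZMod p) V) (K : Subgroup N) (hK : K ≤ ρ.ker)
    (hcop : K.index.Coprime p) (m : ℕ) (L : Set (ℙ (ZMod p) V))
    (hL : ∀ x ∈ L, ∃ (n : N) (v u : V) (hv : v ≠ 0) (b ν₀ : ZMod p),
      x = Projectivization.mk (ZMod p) v hv ∧ ρ n v = b • v ∧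
      LinearIndependent (ZMod p) ![u, v] ∧
      (∀ ν β : ZMod p, ρ n u = ν • u + β • v → ν = ν₀) ∧ (∀ k : ℕ, b ^ k = ν₀ ^ k → m ∣ k)) :
    (6 ≤ m → L.ncard ≤ 2) ∧ (m = 4 → L.ncard ≤ 6) := by
  classical
  have hfinV : Module.Finite (ZMod p) V := Module.finite_of_finrank_pos (by omega)
  let bs : Module.Basis (Fin 2) (ZMod p) V := Module.finBasisOfFinrankEq _ _ hV
  let Mat : Module.End (ZMod p) V →* Matrix (Fin 2) (Fin 2) (ZMod p) :=
    (LinearMap.toMatrixAlgEquiv bs).toMulEquiv.toMonoidHom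
  let GLm : N →* GL (Fin 2) (ZMod p) := (Units.map Mat).comp ρ.toHomUnits
  let Φ : N →* PGL(Fin 2, ZMod p) := Matrix.ProjGenLinGroup.mk.comp GLm
  have hGLm : ∀ (n : N) (w : V), (GLm n).val *ᵥ (bs.repr w) = bs.repr (ρ n w) := by
    intro n w
    exact LinearMap.toMatrix_mulVec_repr bs bs (ρ n) w
  let e : V →ₗ[ZMod p] (Fin 2 → ZMod p) := (bs.equivFun : V →ₗ[ZMod p] (Fin 2 → ZMod p))
  have he : Function.Injective e := bs.equivFun.injective
  have he_apply : ∀ w : V, e w = ⇑(bs.repr w) := fun w => rfl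
  -- the image group is tame
  have hker : K ≤ Φ.ker := by
    intro n hn
    have h1 : ρ n = 1 := hK hn
    rw [MonoidHom.mem_ker]
    have h2 : GLm n = 1 := by
      apply Units.ext
      show Mat (ρ n) = 1
      rw [h1, map_one]
    show Matrix.ProjGenLinGroup.mk (GLm n) = 1
    rw [h2, map_one]
  have hcopW : (Nat.card Φ.range).Coprime p := by
    rw [← Subgroup.index_ker]
    exact Nat.Coprime.coprime_dvd_left (Subgroup.index_dvd_of_le hker) hcop
  have hB := pgl_bound p Φ.range hcopW m (Projectivization.map e he '' L) ?_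
  · rwa [Set.ncard_image_of_injective _ (Projectivization.map_injective e he)] at hB
  rintro _ ⟨x, hx, rfl⟩
  obtain ⟨n, v, u, hv, b, ν₀, rfl, hnv, hli, hν, hk⟩ := hL x hx
  have hinj : Function.Injective (ρ n) := by
    intro a c hac
    have h1 : ρ n⁻¹ (ρ n a) = a := by
      rw [← Module.End.mul_apply, ← map_mul, inv_mul_cancel, map_one]; rfl
    have h2 : ρ n⁻¹ (ρ n c) = c := by
      rw [← Module.End.mul_apply, ← map_mul, inv_mul_cancel, map_one]; rfl
    rw [← h1, ← h2, hac]
  have hb0 : b ≠ 0 := by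
    rintro rfl
    rw [zero_smul] at hnv
    exact hv (hinj (by rw [hnv, map_zero]))
  refine ⟨Φ n, ⟨n, rfl⟩, ?_, ?_⟩
  · rw [Projectivization.map_mk]
    show Matrix.ProjGenLinGroup.mk (GLm n) • _ = _
    rw [Projectivization.PGL.mk_smul_mk, Projectivization.mk_eq_mk_iff]
    refine ⟨Units.mk0 b hb0, ?_⟩
    show b • e v = (GLm n).val *ᵥ e v
    rw [he_apply, hGLm, hnv, map_smul]
    rfl
  · -- order
    have hpow : (Φ n) ^ orderOf (Φ n) = 1 := pow_orderOf_eq_one _
    set k := orderOf (Φ n) with hkdef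
    rw [← map_pow] at hpow
    have h1 : GLm (n ^ k) ∈ Subgroup.center (GL (Fin 2) (ZMod p)) :=
      Matrix.ProjGenLinGroup.mk_eq_one.mp hpow
    rw [Matrix.GeneralLinearGroup.mem_center_iff_val_mem_range_scalar] at h1
    obtain ⟨c, hc⟩ := h1
    have hsc : ∀ w : V, ρ (n ^ k) w = c • w := by
      intro w
      apply bs.repr.injective
      apply DFunLike.coe_injective
      rw [← hGLm, ← hc, map_smul]
      ext i
      simp [Matrix.mulVec_diagonal]
    -- decomposition of `ρ n u`
    have hspan : Submodule.span (ZMod p) (Set.range ![u, v]) = ⊤ :=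
      hli.span_eq_top_of_card_eq_finrank' (by rw [hV]; rfl)
    have hmem : ρ n u ∈ Submodule.span (ZMod p) (Set.range ![u, v]) := by
      rw [hspan]; trivial
    rw [Submodule.mem_span_range_iff_exists_fun] at hmem
    obtain ⟨cc, hcc⟩ := hmem
    rw [Fin.sum_univ_two] at hcc
    obtain ⟨ν, β, hνβ⟩ : ∃ ν β : ZMod p, ν • u + β • v = ρ n u := ⟨cc 0, cc 1, hcc⟩
    have hν0 := hν ν β hνβ.symm
    subst hν0
    apply hk
    have h2 := pow_apply_eigen (ρ n) v b hnv k
    obtain ⟨γ, h3⟩ := pow_apply_tri (ρ n) u v b ν β hnv hνβ.symm k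
    rw [← map_pow, hsc] at h2 h3
    have h4 : c = b ^ k := by
      by_contra hne
      have : (c - b ^ k) • v = 0 := by rw [sub_smul, h2, sub_self]
      rcases smul_eq_zero.mp this with h | h
      · exact hne (sub_eq_zero.mp h)
      · exact hv h
    have h5 : (c - ν ^ k) • u + (-γ) • v = 0 := by
      rw [sub_smul, h3, neg_smul]; abel
    have h6 := (LinearIndependent.pair_iff.mp hli) _ _ h5
    rw [← h4, sub_eq_zero.mp h6.1]

end Cfsg.Agent.Lib.Helper8.XSP
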