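import Mathlib

set_option autoImplicit false

/-! Powers by residue classes, and the `2 × 2` matrix calculus of conjugation on a pair of
commuting elements of prime order. -/

namespace Cfsg.Agent.Lib.Helper8.XSP

variable {G : Type*} [Group G] {p : ℕ} [hp : Fact p.Prime]

/-- power by a residue class -/
def zp (a : G) (s : ZMod p) : G := a ^ s.val

theorem zp_def (a : G) (s : ZMod p) : zp a s = a ^ s.val := rfl

theorem zp_zero (a : G) : zp a (0 : ZMod p) = 1 := by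
  rw [zp_def, ZMod.val_zero, pow_zero]

theorem zp_one (a : G) : zp a (1 : ZMod p) = a := by
  have : Fact (1 < p) := ⟨hp.out.one_lt⟩
  rw [zp_def, ZMod.val_one, pow_one]

theorem zp_add {a : G} (ha : a ^ p = 1) (s t : ZMod p) : zp a (s + t) = zp a s * zp a t := by
  rw [zp_def, zp_def, zp_def, ZMod.val_add, ← pow_add, ← pow_eq_pow_mod _ ha]

theorem zp_mul {a : G} (ha : a ^ p = 1) (s t : ZMod p) : zp a (s * t) = zp (zp a s) t := by
  rw [zp_def, zp_def, zp_def, ZMod.val_mul, ← pow_mul, ← pow_eq_pow_mod _ ha]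

theorem zp_natCast {a : G} (ha : a ^ p = 1) (k : ℕ) : zp a (k : ZMod p) = a ^ k := by
  rw [zp_def, ZMod.val_natCast, ← pow_eq_pow_mod _ ha]

theorem zp_pow_p {a : G} (ha : a ^ p = 1) (s : ZMod p) : (zp a s) ^ p = 1 := by
  rw [zp_def, ← pow_mul, mul_comm, pow_mul, ha, one_pow]

theorem zp_neg {a : G} (ha : a ^ p = 1) (s : ZMod p) : zp a (-s) = (zp a s)⁻¹ := by
  apply eq_inv_of_mul_eq_one_left
  rw [← zp_add ha, neg_add_cancel, zp_zero]

theorem zp_one_left (s : ZMod p) : zp (1 : G) s = 1 := by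
  rw [zp_def, one_pow]

theorem zp_conj (g a : G) (s : ZMod p) : g * zp a s * g⁻¹ = zp (g * a * g⁻¹) s := by
  rw [zp_def, zp_def, conj_pow]

theorem zp_map {H : Type*} [Group H] (f : G →* H) (a : G) (s : ZMod p) :
    f (zp a s) = zp (f a) s := by
  rw [zp_def, zp_def, map_pow]

theorem zp_mul_distrib {a b : G} (h : Commute a b) (s : ZMod p) :
    zp (a * b) s = zp a s * zp b s := by
  rw [zp_def, zp_def, zp_def, h.mul_pow]

theorem zp_commute {a b : G} (h : Commute a b) (s t : ZMod p) : Commute (zp a s) (zp b t) :=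
  (h.pow_left _).pow_right _

theorem zp_mem {H : Subgroup G} {a : G} (ha : a ∈ H) (s : ZMod p) : zp a s ∈ H :=
  H.pow_mem ha _

theorem zp_inj {a : G} (ha : a ^ p = 1) (ha1 : a ≠ 1) {s t : ZMod p} (h : zp a s = zp a t) :
    s = t := by
  have ho : orderOf a = p := orderOf_eq_prime ha ha1
  rw [zp_def, zp_def, pow_eq_pow_iff_modEq, ho] at h
  apply ZMod.val_injective
  have h1 := Nat.mod_eq_of_lt (ZMod.val_lt s)
  have h2 := Nat.mod_eq_of_lt (ZMod.val_lt t)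
  rw [← h1, ← h2]
  exact h

theorem zp_eq_one_iff {a : G} (ha : a ^ p = 1) (ha1 : a ≠ 1) {s : ZMod p} :
    zp a s = 1 ↔ s = 0 := by
  constructor
  · intro h
    apply zp_inj ha ha1
    rw [h, zp_zero]
  · rintro rfl
    exact zp_zero a

theorem exists_zp_of_mem_zpowers {a c : G} (ha : a ^ p = 1) (hc : c ∈ Subgroup.zpowers a) :
    ∃ s : ZMod p, c = zp a s := by
  have hfin : IsOfFinOrder a := isOfFinOrder_iff_pow_eq_one.mpr ⟨p, hp.out.pos, ha⟩
  rw [← hfin.mem_powers_iff_mem_zpowers] at hc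
  obtain ⟨k, rfl⟩ := hc
  exact ⟨(k : ZMod p), (zp_natCast ha k).symm⟩

theorem zp_zp_inv {a : G} (ha : a ^ p = 1) {s : ZMod p} (hs : s ≠ 0) : zp (zp a s) s⁻¹ = a := by
  rw [← zp_mul ha, mul_inv_cancel₀ hs, zp_one]

/-- conjugation by `g` acts on the pair `(z, y)` through the matrix `M` (columns) -/
structure Acts (z y g : G) (M : Matrix (Fin 2) (Fin 2) (ZMod p)) : Prop where
  hz : g * z * g⁻¹ = zp z (M 0 0) * zp y (M 1 0)
  hy : g * y * g⁻¹ = zp z (M 0 1) * zp y (M 1 1)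

theorem conj_pair (z y g : G) (M : Matrix (Fin 2) (Fin 2) (ZMod p)) (hz : z ^ p = 1)
    (hy : y ^ p = 1) (hc : Commute z y) (h : Acts z y g M) (a c : ZMod p) :
    g * (zp z a * zp y c) * g⁻¹ =
      zp z (M 0 0 * a + M 0 1 * c) * zp y (M 1 0 * a + M 1 1 * c) := by
  have h1 : g * (zp z a * zp y c) * g⁻¹ = (g * zp z a * g⁻¹) * (g * zp y c * g⁻¹) := by group
  rw [h1, zp_conj, zp_conj, h.hz, h.hy, zp_mul_distrib (zp_commute hc _ _),
    zp_mul_distrib (zp_commute hc _ _), ← zp_mul hz, ← zp_mul hy, ← zp_mul hz, ← zp_mul hy,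
    zp_add hz, zp_add hy]
  have c1 : Commute (zp y (M 1 0 * a)) (zp z (M 0 1 * c)) := (zp_commute hc _ _).symm
  calc zp z (M 0 0 * a) * zp y (M 1 0 * a) * (zp z (M 0 1 * c) * zp y (M 1 1 * c))
      = zp z (M 0 0 * a) * (zp y (M 1 0 * a) * zp z (M 0 1 * c)) * zp y (M 1 1 * c) := by group
    _ = zp z (M 0 0 * a) * (zp z (M 0 1 * c) * zp y (M 1 0 * a)) * zp y (M 1 1 * c) := by
        rw [c1.eq]
    _ = _ := by group

theorem Acts.mul {z y g g' : G} {M M' : Matrix (Fin 2) (Fin 2) (ZMod p)} (hz : z ^ p = 1)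
    (hy : y ^ p = 1) (hc : Commute z y) (h : Acts z y g M) (h' : Acts z y g' M') :
    Acts z y (g * g') (M * M') := by
  constructor
  · have h1 : g * g' * z * (g * g')⁻¹ = g * (g' * z * g'⁻¹) * g⁻¹ := by group
    rw [h1, h'.hz, conj_pair z y g M hz hy hc h, Matrix.mul_apply, Matrix.mul_apply,
      Fin.sum_univ_two, Fin.sum_univ_two]
  · have h1 : g * g' * y * (g * g')⁻¹ = g * (g' * y * g'⁻¹) * g⁻¹ := by group
    rw [h1, h'.hy, conj_pair z y g M hz hy hc h, Matrix.mul_apply, Matrix.mul_apply,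
      Fin.sum_univ_two, Fin.sum_univ_two]

/-- the upper unitriangular matrix -/
def tauM (s : ZMod p) : Matrix (Fin 2) (Fin 2) (ZMod p) := !![1, s; 0, 1]

/-- the lower unitriangular matrix -/
def sigM (s : ZMod p) : Matrix (Fin 2) (Fin 2) (ZMod p) := !![1, 0; s, 1]

theorem acts_tau {z y g : G} (s : ZMod p) (h1 : g * z * g⁻¹ = z) (h2 : g * y * g⁻¹ = zp z s * y) :
    Acts z y g (tauM s) := by
  constructor
  · simp [tauM, zp_one, zp_zero, h1]
  · simp [tauM, zp_one, h2]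

theorem acts_sig {z y g : G} (s : ZMod p) (h1 : g * z * g⁻¹ = z * zp y s) (h2 : g * y * g⁻¹ = y) :
    Acts z y g (sigM s) := by
  constructor
  · simp [sigM, zp_one, h1]
  · simp [sigM, zp_one, zp_zero, h2]

theorem torus_identity (l : (ZMod p)ˣ) :
    tauM (l : ZMod p) * sigM (-(l : ZMod p)⁻¹) * tauM (l : ZMod p) * tauM (-1) * sigM 1 *
      tauM (-1) = !![(l : ZMod p), 0; 0, (l : ZMod p)⁻¹] := by
  have hl : (l : ZMod p) ≠ 0 := l.ne_zero
  simp only [tauM, sigM, Matrix.mul_fin_two]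
  have e : ∀ a b c d a' b' c' d' : ZMod p, a = a' → b = b' → c = c' → d = d' →
      !![a, b; c, d] = !![a', b'; c', d'] := by
    rintro a b c d _ _ _ _ rfl rfl rfl rfl
    rfl
  apply e
  · field_simp
    ring
  · field_simp
    ring
  · field_simp
    ring
  · field_simp
    ring

/-- the torus element obtained from the two unipotent families -/
theorem exists_torus {z y : G} (hz : z ^ p = 1) (hy : y ^ p = 1) (hc : Commute z y)
    (hτ : ∀ s : ZMod p, ∃ g : G, Acts z y g (tauM s))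
    (hσ : ∀ s : ZMod p, ∃ g : G, Acts z y g (sigM s)) (l : (ZMod p)ˣ) :
    ∃ g : G, g * z * g⁻¹ = zp z (l : ZMod p) ∧ g * y * g⁻¹ = zp y ((l : ZMod p)⁻¹) := by
  obtain ⟨g1, h1⟩ := hτ (l : ZMod p)
  obtain ⟨g2, h2⟩ := hσ (-(l : ZMod p)⁻¹)
  obtain ⟨g3, h3⟩ := hτ (-1)
  obtain ⟨g4, h4⟩ := hσ 1
  have h := ((((h1.mul hz hy hc h2).mul hz hy hc h1).mul hz hy hc h3).mul hz hy hc h4).mul
    hz hy hc h3
  rw [torus_identity] at h
  have e00 : (!![(l : ZMod p), 0; 0, (l : ZMod p)⁻¹] : Matrix (Fin 2) (Fin 2) (ZMod p)) 0 0 = l :=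
    rfl
  have e10 : (!![(l : ZMod p), 0; 0, (l : ZMod p)⁻¹] : Matrix (Fin 2) (Fin 2) (ZMod p)) 1 0 = 0 :=
    rfl
  have e01 : (!![(l : ZMod p), 0; 0, (l : ZMod p)⁻¹] : Matrix (Fin 2) (Fin 2) (ZMod p)) 0 1 = 0 :=
    rfl
  have e11 : (!![(l : ZMod p), 0; 0, (l : ZMod p)⁻¹] : Matrix (Fin 2) (Fin 2) (ZMod p)) 1 1 =
      (l : ZMod p)⁻¹ := rfl
  refine ⟨g1 * g2 * g1 * g3 * g4 * g3, ?_, ?_⟩
  · rw [h.hz, e00, e10, zp_zero, mul_one]
  · rw [h.hy, e01, e11, zp_zero, one_mul]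

end Cfsg.Agent.Lib.Helper8.XSP
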