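import Mathlib
import Cfsg.Agent.Lib.Helper8.XSPd

set_option autoImplicit false

/-! Sylow arguments: moving a torus element into the normaliser of the Sylow subgroup. -/

namespace Cfsg.Agent.Lib.Helper8.XSP

open scoped Pointwise

variable {G : Type*} [Group G] {p : ℕ} [hp : Fact p.Prime]

/-- a `p`-subgroup of `H` lies in an `H`-conjugate of a Sylow subgroup contained in `H` -/
theorem sylow_sub [Finite G] (P : Sylow p G) (H : Subgroup G) (g : G)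
    (hg : ∀ x ∈ P, g * x * g⁻¹ ∈ H) (Q : Subgroup G) (hQ : IsPGroup p Q) (hQH : Q ≤ H) :
    ∃ c ∈ H, ∀ q ∈ Q, ∃ x ∈ P, q = (c * g) * x * (c * g)⁻¹ := by
  have hP' : ((g • P : Sylow p G) : Subgroup G) ≤ H := by
    intro a ha
    rw [Sylow.coe_subgroup_smul] at ha
    obtain ⟨x, hx, rfl⟩ := (Subgroup.mem_smul_pointwise_iff_exists _ _ _).mp ha
    rw [MulAut.smul_def, MulAut.conj_apply]
    exact hg x hx
  let S1 : Sylow p H := (g • P).subtype hP'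
  have hQ' : IsPGroup p (Q.subgroupOf H) := hQ.comap_subtype
  obtain ⟨S, hS⟩ := hQ'.exists_le_sylow
  obtain ⟨c, hc⟩ := MulAction.exists_smul_eq H S1 S
  refine ⟨c.1, c.2, ?_⟩
  intro q hq
  have h1 : (⟨q, hQH hq⟩ : H) ∈ (S : Subgroup H) := hS (Subgroup.mem_subgroupOf.mpr hq)
  rw [← hc, Sylow.coe_subgroup_smul] at h1
  obtain ⟨s, hs, hsq⟩ := (Subgroup.mem_smul_pointwise_iff_exists _ _ _).mp h1
  rw [MulAut.smul_def, MulAut.conj_apply] at hsq
  have hs' : (s : G) ∈ ((g • P : Sylow p G) : Subgroup G) := by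
    have : s ∈ ((g • P : Sylow p G) : Subgroup G).subgroupOf H := hs
    exact Subgroup.mem_subgroupOf.mp this
  rw [Sylow.coe_subgroup_smul] at hs'
  obtain ⟨x, hx, hxs⟩ := (Subgroup.mem_smul_pointwise_iff_exists _ _ _).mp hs'
  rw [MulAut.smul_def, MulAut.conj_apply] at hxs
  refine ⟨x, hx, ?_⟩
  have h2 : q = (c : G) * (s : G) * (c : G)⁻¹ := by
    have := congrArg Subtype.val hsq
    simpa using this.symm
  rw [h2, ← hxs]
  group

theorem conj_eq_of_mem_zpowers {z h c : G} (hz : h * z * h⁻¹ = z) (hc : c ∈ Subgroup.zpowers z) :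
    h * c * h⁻¹ = c := by
  obtain ⟨k, rfl⟩ := Subgroup.mem_zpowers_iff.mp hc
  rw [← conj_zpow, hz]

/-- the subgroup of elements centralising `z` and acting trivially on `y` modulo `⟨z⟩` -/
def HH (z y : G) : Subgroup G where
  carrier := {h | h * z * h⁻¹ = z ∧ h * y * h⁻¹ * y⁻¹ ∈ Subgroup.zpowers z ∧
    h⁻¹ * y * h * y⁻¹ ∈ Subgroup.zpowers z}
  one_mem' := by
    refine ⟨by group, ?_, ?_⟩
    · have : (1 : G) * y * 1⁻¹ * y⁻¹ = 1 := by group
      rw [this]; exact one_mem _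
    · have : (1 : G)⁻¹ * y * 1 * y⁻¹ = 1 := by group
      rw [this]; exact one_mem _
  mul_mem' := by
    rintro a b ⟨ha1, ha2, ha3⟩ ⟨hb1, hb2, hb3⟩
    refine ⟨?_, ?_, ?_⟩
    · have : a * b * z * (a * b)⁻¹ = a * (b * z * b⁻¹) * a⁻¹ := by group
      rw [this, hb1, ha1]
    · have h1 := conj_eq_of_mem_zpowers ha1 hb2
      have : a * b * y * (a * b)⁻¹ * y⁻¹ =
          (a * (b * y * b⁻¹ * y⁻¹) * a⁻¹) * (a * y * a⁻¹ * y⁻¹) := by group
      rw [this, h1]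
      exact mul_mem hb2 ha2
    · have hb1' : b⁻¹ * z * b⁻¹⁻¹ = z := by
        rw [inv_inv]
        calc b⁻¹ * z * b = b⁻¹ * (b * z * b⁻¹) * b := by rw [hb1]
          _ = z := by group
      have h1 := conj_eq_of_mem_zpowers hb1' ha3
      rw [inv_inv] at h1
      have : (a * b)⁻¹ * y * (a * b) * y⁻¹ =
          (b⁻¹ * (a⁻¹ * y * a * y⁻¹) * b) * (b⁻¹ * y * b * y⁻¹) := by group
      rw [this, h1]
      exact mul_mem ha3 hb3
  inv_mem' := by
    rintro a ⟨ha1, ha2, ha3⟩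
    refine ⟨?_, ?_, ?_⟩
    · rw [inv_inv]
      calc a⁻¹ * z * a = a⁻¹ * (a * z * a⁻¹) * a := by rw [ha1]
        _ = z := by group
    · rw [inv_inv]; exact ha3
    · rw [inv_inv]; exact ha2

theorem mem_HH {z y h : G} : h ∈ HH z y ↔ h * z * h⁻¹ = z ∧
    h * y * h⁻¹ * y⁻¹ ∈ Subgroup.zpowers z ∧ h⁻¹ * y * h * y⁻¹ ∈ Subgroup.zpowers z := Iff.rfl

/-- moving the torus element into the normaliser -/
theorem lemma_I [Finite G] (P : Sylow p G) (z y : G) (hyP : y ∈ P)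
    (hzc : ∀ x ∈ P, x * z * x⁻¹ = z)
    (hcomm : ∀ x ∈ P, ∀ w ∈ P, x * w * x⁻¹ * w⁻¹ ∈ Subgroup.zpowers z)
    (hz : z ^ p = 1) (hy : y ^ p = 1)
    (l : (ZMod p)ˣ) (g : G) (hgz : g * z * g⁻¹ = zp z (l : ZMod p))
    (hgy : g * y * g⁻¹ = zp y ((l : ZMod p)⁻¹)) :
    ∃ n ∈ Subgroup.normalizer ((P : Subgroup G) : Set G), n * z * n⁻¹ = zp z (l : ZMod p) ∧
      ∃ c ∈ Subgroup.zpowers z, n * y * n⁻¹ = c * zp y ((l : ZMod p)⁻¹) := by
  have hl : (l : ZMod p) ≠ 0 := l.ne_zero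
  have hl' : ((l : ZMod p)⁻¹) ≠ 0 := inv_ne_zero hl
  -- inverse conjugation
  have hginvz : g * zp z ((l : ZMod p)⁻¹) * g⁻¹ = z := by
    rw [zp_conj, hgz, zp_zp_inv hz hl]
  have hginvy : g * zp y (l : ZMod p) * g⁻¹ = y := by
    rw [zp_conj, hgy]
    have := zp_zp_inv hy hl'
    rwa [inv_inv] at this
  have hzy : Commute z y := by
    have := hzc y hyP
    show z * y = y * z
    calc z * y = (y * z * y⁻¹) * y := by rw [this]
      _ = y * z := by group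
  -- `P ≤ H`
  have hPH : (P : Subgroup G) ≤ HH z y := by
    intro x hx
    refine ⟨hzc x hx, hcomm x hx y hyP, ?_⟩
    have := hcomm x⁻¹ (inv_mem hx) y hyP
    rwa [inv_inv] at this
  -- `g P g⁻¹ ≤ H`
  have hsecond : ∀ x ∈ P, (g * x * g⁻¹) * y * (g * x * g⁻¹)⁻¹ * y⁻¹ ∈ Subgroup.zpowers z := by
    intro x hx
    have hy' : zp y (l : ZMod p) ∈ (P : Subgroup G) := zp_mem hyP _
    have hc := hcomm x hx _ hy'
    set c := x * zp y (l : ZMod p) * x⁻¹ * (zp y (l : ZMod p))⁻¹ with hcdef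
    have h1 : (g * x * g⁻¹) * y * (g * x * g⁻¹)⁻¹ * y⁻¹ = g * c * g⁻¹ := by
      have e1 : (g * x * g⁻¹) * y * (g * x * g⁻¹)⁻¹ * y⁻¹ =
          g * (x * (g⁻¹ * y * g) * x⁻¹ * (g⁻¹ * y * g)⁻¹) * g⁻¹ := by group
      have e2 : g⁻¹ * y * g = zp y (l : ZMod p) := by
        calc g⁻¹ * y * g = g⁻¹ * (g * zp y (l : ZMod p) * g⁻¹) * g := by rw [hginvy]
          _ = zp y (l : ZMod p) := by group
      rw [e1, e2]
    rw [h1]
    obtain ⟨k, hk⟩ := Subgroup.mem_zpowers_iff.mp hc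
    rw [← hk, ← conj_zpow, hgz]
    exact zpow_mem (zp_mem (Subgroup.mem_zpowers z) _) _
  have hgH : ∀ x ∈ P, g * x * g⁻¹ ∈ HH z y := by
    intro x hx
    refine ⟨?_, hsecond x hx, ?_⟩
    · have e1 : (g * x * g⁻¹) * z * (g * x * g⁻¹)⁻¹ = g * (x * (g⁻¹ * z * g) * x⁻¹) * g⁻¹ := by
        group
      have e2 : g⁻¹ * z * g = zp z ((l : ZMod p)⁻¹) := by
        calc g⁻¹ * z * g = g⁻¹ * (g * zp z ((l : ZMod p)⁻¹) * g⁻¹) * g := by rw [hginvz]
          _ = zp z ((l : ZMod p)⁻¹) := by group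
      rw [e1, e2, zp_conj, hzc x hx, hginvz]
    · have := hsecond x⁻¹ (inv_mem hx)
      have e : (g * x * g⁻¹)⁻¹ = g * x⁻¹ * g⁻¹ := by group
      rw [e]
      have e' : (g * x⁻¹ * g⁻¹)⁻¹ = g * x * g⁻¹ := by group
      rwa [e'] at this
  obtain ⟨c, hcH, hcP⟩ := sylow_sub P (HH z y) g hgH (P : Subgroup G) P.2 hPH
  obtain ⟨hc1, hc2, -⟩ := mem_HH.mp hcH
  refine ⟨c * g, ?_, ?_, ?_⟩
  · rw [Subgroup.mem_normalizer_iff_map_conj_eq]
    symm
    apply Subgroup.eq_of_le_of_card_ge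
    · intro q hq
      obtain ⟨x, hx, rfl⟩ := hcP q hq
      exact ⟨x, hx, rfl⟩
    · exact (Subgroup.card_map_of_injective (MulAut.conj (c * g)).injective).le
  · have e : c * g * z * (c * g)⁻¹ = c * (g * z * g⁻¹) * c⁻¹ := by group
    rw [e, hgz, zp_conj, hc1]
  · set d := c * y * c⁻¹ * y⁻¹ with hd
    have hdy : c * y * c⁻¹ = d * y := by rw [hd]; group
    have hcomm_dy : Commute d y := by
      obtain ⟨k, hk⟩ := Subgroup.mem_zpowers_iff.mp hc2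
      rw [← hk]
      exact hzy.zpow_left k
    refine ⟨zp d ((l : ZMod p)⁻¹), zp_mem hc2 _, ?_⟩
    have e : c * g * y * (c * g)⁻¹ = c * (g * y * g⁻¹) * c⁻¹ := by group
    rw [e, hgy, zp_conj, hdy, zp_mul_distrib hcomm_dy]

end Cfsg.Agent.Lib.Helper8.XSP
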