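import Mathlib
import Cfsg.Prelude.Def_Transfer
import Cfsg.Agent.Lib.Helper1.ClassTwo
import Cfsg.Agent.Lib.Helper1.Special
import Cfsg.Agent.Lib.Helper8.XSPd

set_option autoImplicit false
set_option linter.unusedSectionVars false

/-! An extraspecial group `T` of order `p³` and exponent `p`: its centre, its commutator
calculus with residue-class exponents, and `T / Z(T)` as a plane over `𝔽_p`. -/

namespace Cfsg.Agent.Lib.Helper8.XSP

open scoped commutatorElement
open Cfsg.Agent.Lib.Helper1

universe u

variable {T : Type u} [Group T] {p : ℕ} [hp : Fact p.Prime]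

section calculus

variable (hcc : CommCentral T) (hexp : ∀ a : T, a ^ p = 1)

include hcc in
theorem comm_zp_left (a b : T) (s : ZMod p) : ⁅zp a s, b⁆ = zp ⁅a, b⁆ s := by
  rw [zp_def, zp_def, hcc.comm_pow_left]

include hcc in
theorem comm_zp_right (a b : T) (s : ZMod p) : ⁅a, zp b s⁆ = zp ⁅a, b⁆ s := by
  rw [zp_def, zp_def, hcc.comm_pow_right]

theorem comm_central_right (a c : T) (hc : c ∈ Subgroup.center T) : ⁅a, c⁆ = 1 := by
  rw [commutatorElement_eq_one_iff_mul_comm]
  exact (Subgroup.mem_center_iff.mp hc a)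

theorem comm_central_left (a c : T) (hc : c ∈ Subgroup.center T) : ⁅c, a⁆ = 1 := by
  rw [commutatorElement_eq_one_iff_mul_comm]
  exact (Subgroup.mem_center_iff.mp hc a).symm

theorem comm_self_zp (a : T) (s t : ZMod p) : ⁅zp a s, zp a t⁆ = 1 := by
  rw [commutatorElement_eq_one_iff_mul_comm]
  exact (zp_commute (Commute.refl a) s t).eq

theorem comm_swap_inv (a b : T) : ⁅b, a⁆ = ⁅a, b⁆⁻¹ := (commutatorElement_inv a b).symm

end calculus

section structure_

variable [Finite T] (hX : Cfsg.IsExtraspecial p T) (hexp : ∀ a : T, a ^ p = 1)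

include hX in
theorem comm_mem_center (a b : T) : ⁅a, b⁆ ∈ Subgroup.center T := by
  rw [← hX.1.2.2, commutator_def]
  exact Subgroup.commutator_mem_commutator (Subgroup.mem_top a) (Subgroup.mem_top b)

include hX hexp in
/-- a generator of the centre -/
theorem exists_center_gen : ∃ z : T, z ∈ Subgroup.center T ∧ z ≠ 1 ∧
    Subgroup.center T = Subgroup.zpowers z := by
  have hcard : Nat.card (Subgroup.center T) = p := hX.2
  have hnt : Nontrivial (Subgroup.center T) := by
    apply Finite.one_lt_card_iff_nontrivial.mp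
    rw [hcard]; exact hp.out.one_lt
  obtain ⟨z, hz⟩ := exists_ne (1 : Subgroup.center T)
  have hz1 : (z : T) ≠ 1 := fun h => hz (Subtype.ext h)
  refine ⟨z, z.2, hz1, ?_⟩
  symm
  apply Subgroup.eq_of_le_of_card_ge
  · rw [Subgroup.zpowers_le]; exact z.2
  · rw [Nat.card_zpowers, orderOf_eq_prime (hexp z) hz1, hcard]

include hX hexp in
/-- the upper unitriangular family -/
theorem exists_comm_eq (z y : T) (hz : Subgroup.center T = Subgroup.zpowers z)
    (hy : y ∉ Subgroup.center T) (s : ZMod p) : ∃ x : T, ⁅x, y⁆ = zp z s := by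
  have hcc := special_commCentral hX.1
  obtain ⟨x0, hx0⟩ : ∃ x0 : T, ⁅x0, y⁆ ≠ 1 := by
    by_contra hcon
    push Not at hcon
    apply hy
    rw [Subgroup.mem_center_iff]
    intro g
    exact (commutatorElement_eq_one_iff_mul_comm.mp (hcon g))
  have hmem : ⁅x0, y⁆ ∈ Subgroup.zpowers z := by rw [← hz]; exact comm_mem_center hX x0 y
  obtain ⟨t, ht⟩ := exists_zp_of_mem_zpowers (hexp z) hmem
  have ht0 : t ≠ 0 := by
    rintro rfl
    rw [zp_zero] at ht
    exact hx0 ht
  refine ⟨zp x0 (t⁻¹ * s), ?_⟩
  rw [comm_zp_left hcc, ht, ← zp_mul (hexp z), ← mul_assoc, mul_inv_cancel₀ ht0, one_mul]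

end structure_

/-! ### The plane `T / Z(T)` -/

/-- the abelianisation, written additively, tagged with the proof that `T` has exponent `p` -/
def Vab (T : Type u) [Group T] (p : ℕ) (_hexp : ∀ a : T, a ^ p = 1) : Type u :=
  Additive (Abelianization T)

section plane

variable (hexp : ∀ a : T, a ^ p = 1)

instance : AddCommGroup (Vab T p hexp) := inferInstanceAs (AddCommGroup (Additive (Abelianization T)))

/-- the class of an element -/
def vec (a : T) : Vab T p hexp := Additive.ofMul (Abelianization.of a)

theorem vec_surjective : Function.Surjective (vec hexp) := by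
  intro v
  obtain ⟨a, ha⟩ := QuotientGroup.mk_surjective (Additive.toMul v : Abelianization T)
  exact ⟨a, congrArg Additive.ofMul ha⟩

theorem vec_mul (a b : T) : vec hexp (a * b) = vec hexp a + vec hexp b := by
  show Additive.ofMul (Abelianization.of (a * b)) = _
  rw [map_mul]; rfl

theorem vec_one : vec hexp (1 : T) = 0 := by
  show Additive.ofMul (Abelianization.of (1 : T)) = _
  rw [map_one]; rfl

theorem vec_pow (a : T) (k : ℕ) : vec hexp (a ^ k) = k • vec hexp a := by
  induction k with
  | zero => rw [pow_zero, zero_smul, vec_one]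
  | succ k ih => rw [pow_succ, vec_mul, ih, succ_nsmul]

theorem vec_eq_zero_iff (a : T) : vec hexp a = 0 ↔ a ∈ commutator T := by
  rw [← Abelianization.ker_of T, MonoidHom.mem_ker]
  exact Iff.rfl

theorem vec_eq_iff (a b : T) : vec hexp a = vec hexp b ↔ ∃ c ∈ commutator T, a = b * c := by
  constructor
  · intro h
    refine ⟨b⁻¹ * a, ?_, by group⟩
    rw [← vec_eq_zero_iff hexp, vec_mul, h]
    have : vec hexp b⁻¹ + vec hexp b = 0 := by rw [← vec_mul, inv_mul_cancel, vec_one]
    exact this
  · rintro ⟨c, hc, rfl⟩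
    rw [vec_mul, (vec_eq_zero_iff hexp c).mpr hc, add_zero]

instance : Module (ZMod p) (Vab T p hexp) :=
  AddCommGroup.zmodModule (by
    intro v
    obtain ⟨a, rfl⟩ := vec_surjective hexp v
    rw [← vec_pow, hexp a, vec_one])

theorem vec_zp (a : T) (s : ZMod p) : vec hexp (zp a s) = s • vec hexp a := by
  rw [zp_def, vec_pow]
  conv_rhs => rw [← ZMod.natCast_zmod_val s]
  rw [Nat.cast_smul_eq_nsmul]

/-- the linear action of an automorphism -/
noncomputable def rho : MulAut T →* Module.End (ZMod p) (Vab T p hexp) where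
  toFun α := AddMonoidHom.toZModLinearMap p
    (MonoidHom.toAdditive (MulEquiv.abelianizationCongr α).toMonoidHom :
      Additive (Abelianization T) →+ Additive (Abelianization T))
  map_one' := by
    apply LinearMap.ext
    intro v
    obtain ⟨a, rfl⟩ := vec_surjective hexp v
    rfl
  map_mul' α β := by
    apply LinearMap.ext
    intro v
    obtain ⟨a, rfl⟩ := vec_surjective hexp v
    rfl

theorem rho_vec (α : MulAut T) (a : T) : rho hexp α (vec hexp a) = vec hexp (α a) := rfl

theorem rho_conj (x : T) : rho hexp (MulAut.conj x) = 1 := by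
  apply LinearMap.ext
  intro v
  obtain ⟨a, rfl⟩ := vec_surjective hexp v
  rw [rho_vec, MulAut.conj_apply, vec_mul, vec_mul]
  have : vec hexp x + vec hexp x⁻¹ = 0 := by rw [← vec_mul, mul_inv_cancel, vec_one]
  show vec hexp x + vec hexp a + vec hexp x⁻¹ = vec hexp a
  rw [add_comm (vec hexp x), add_assoc, this, add_zero]

theorem finrank_vab [Finite T] (hcard : Nat.card T = p ^ 3)
    (hc : Nat.card (commutator T) = p) : Module.finrank (ZMod p) (Vab T p hexp) = 2 := by
  have h1 : Nat.card (Vab T p hexp) = p ^ 2 := by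
    have h2 := Subgroup.card_eq_card_quotient_mul_card_subgroup (commutator T)
    rw [hcard, hc] at h2
    have h3 : Nat.card (Vab T p hexp) = Nat.card (T ⧸ commutator T) := rfl
    rw [h3]
    have hp0 : 0 < p := hp.out.pos
    have : p ^ 3 = p ^ 2 * p := by ring
    rw [this] at h2
    exact (Nat.eq_of_mul_eq_mul_right hp0 h2).symm
  have : Finite (Vab T p hexp) := Nat.finite_of_card_ne_zero (by
    rw [h1]; exact pow_ne_zero _ hp.out.ne_zero)
  have h4 := Module.natCard_eq_pow_finrank (K := ZMod p) (V := Vab T p hexp)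
  rw [h1, Nat.card_zmod] at h4
  exact (Nat.pow_right_injective hp.out.two_le h4).symm

end plane

end Cfsg.Agent.Lib.Helper8.XSP
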