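import Mathlib
import Cfsg.Agent.Lib.Helper8.AutQuot
import Cfsg.Agent.Lib.Helper8.XSPc
import Cfsg.Agent.Lib.Helper8.XSPe
import Cfsg.Agent.Lib.Helper8.XSPf

set_option autoImplicit false
set_option linter.unusedSectionVars false

/-! From torus elements in the normaliser of an extraspecial Sylow subgroup to the tame bound. -/

namespace Cfsg.Agent.Lib.Helper8.XSP

open scoped commutatorElement LinearAlgebra.Projectivization
open Cfsg.Agent.Lib.Helper1

universe u

section tlevel

variable {T : Type u} [Group T] [Finite T] {p : ℕ} [hp : Fact p.Prime]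
  (hX : Cfsg.IsExtraspecial p T) (hexp : ∀ a : T, a ^ p = 1)

include hX in
theorem vec_central (c : T) (hc : c ∈ Subgroup.center T) : vec hexp c = 0 := by
  rw [vec_eq_zero_iff, hX.1.2.2]; exact hc

include hX in
theorem vec_ne_zero {x y : T} (hd : ⁅x, y⁆ ≠ 1) : vec hexp y ≠ 0 := by
  intro h
  rw [vec_eq_zero_iff, hX.1.2.2] at h
  exact hd (comm_central_right x y h)

include hX in
theorem vec_indep {x y : T} (hd : ⁅x, y⁆ ≠ 1) :
    LinearIndependent (ZMod p) ![vec hexp x, vec hexp y] := by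
  have hcc := special_commCentral hX.1
  rw [LinearIndependent.pair_iff]
  intro s t hst
  rw [← vec_zp, ← vec_zp, ← vec_mul, vec_eq_zero_iff, hX.1.2.2] at hst
  have h1 : ⁅zp x s * zp y t, y⁆ = 1 := comm_central_left _ _ hst
  have h2 : ⁅x, zp x s * zp y t⁆ = 1 := comm_central_right _ _ hst
  rw [hcc.comm_mul_left, comm_zp_left hcc, comm_zp_left hcc, commutatorElement_self, zp_one_left,
    mul_one] at h1
  rw [hcc.comm_mul_right, comm_zp_right hcc, comm_zp_right hcc, commutatorElement_self,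
    zp_one_left, one_mul] at h2
  exact ⟨(zp_eq_one_iff (hexp _) hd).mp h1, (zp_eq_one_iff (hexp _) hd).mp h2⟩

include hX in
/-- the eigenvalue data of a torus element acting on the plane -/
theorem line_data (z x y : T) (hz : Subgroup.center T = Subgroup.zpowers z) (hd : ⁅x, y⁆ ≠ 1)
    (α : MulAut T) (l : ZMod p) (hl : l ≠ 0) (hαz : α z = zp z l) (c : T)
    (hc : c ∈ Subgroup.center T) (hαy : α y = c * zp y l⁻¹) :
    rho hexp α (vec hexp y) = l⁻¹ • vec hexp y ∧
      ∀ ν β : ZMod p, rho hexp α (vec hexp x) = ν • vec hexp x + β • vec hexp y → ν = l ^ 2 := by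
  have hcc := special_commCentral hX.1
  constructor
  · rw [rho_vec, hαy, vec_mul, vec_central hX hexp c hc, zero_add, vec_zp]
  · intro ν β h
    rw [rho_vec, ← vec_zp, ← vec_zp, ← vec_mul, vec_eq_iff] at h
    obtain ⟨c', hc', hαx⟩ := h
    rw [hX.1.2.2] at hc'
    -- the commutator `⁅α x, α y⁆` in two ways
    have hdz : ⁅x, y⁆ ∈ Subgroup.zpowers z := by rw [← hz]; exact comm_mem_center hX x y
    obtain ⟨e, he⟩ := exists_zp_of_mem_zpowers (hexp z) hdz
    have h1 : ⁅α x, α y⁆ = zp ⁅x, y⁆ l := by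
      rw [← map_commutatorElement, he]
      have : α (zp z e) = zp (α z) e := zp_map (α : T →* T) z e
      rw [this, hαz, ← zp_mul (hexp z), ← zp_mul (hexp z), mul_comm]
    have h2 : ⁅α x, α y⁆ = zp ⁅x, y⁆ (l⁻¹ * ν) := by
      rw [hαx, hαy, hcc.comm_mul_left, comm_central_left _ c' hc', mul_one, hcc.comm_mul_left,
        hcc.comm_mul_right, hcc.comm_mul_right, comm_central_right _ c hc,
        comm_central_right _ c hc, one_mul, one_mul, comm_self_zp, mul_one, comm_zp_left hcc,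
        comm_zp_right hcc, ← zp_mul (hexp _)]
    rw [h1] at h2
    have h3 := zp_inj (hexp _) hd h2
    have h4 : ν = l * (l⁻¹ * ν) := by rw [← mul_assoc, mul_inv_cancel₀ hl, one_mul]
    rw [h4, ← h3, pow_two]

end tlevel

theorem coe_zp {G : Type*} [Group G] {p : ℕ} [Fact p.Prime] (H : Subgroup G) (a : H) (s : ZMod p) :
    ((zp a s : H) : G) = zp (a : G) s := by
  rw [zp_def, zp_def, Subgroup.coe_pow]

theorem units_order_aux {p : ℕ} [Fact p.Prime] (l : (ZMod p)ˣ) (k : ℕ)
    (h : ((l : ZMod p)⁻¹) ^ k = ((l : ZMod p) ^ 2) ^ k) : orderOf (l ^ 3) ∣ k := by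
  apply orderOf_dvd_of_pow_eq_one
  have h1 : (l⁻¹) ^ k = (l ^ 2) ^ k := by
    apply Units.ext
    rw [Units.val_pow_eq_pow_val, Units.val_pow_eq_pow_val, Units.val_pow_eq_pow_val,
      Units.val_inv_eq_inv_val]
    exact h
  calc (l ^ 3) ^ k = (l ^ 2) ^ k * l ^ k := by rw [← pow_mul, ← pow_mul, ← pow_add]; ring_nf
    _ = 1 := by rw [← h1, ← mul_pow, inv_mul_cancel, one_pow]

end Cfsg.Agent.Lib.Helper8.XSP
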